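import Mathlib

set_option autoImplicit false

namespace Cfsg.Agent.Lib.Helper6

open Module Polynomial
open scoped ComplexConjugate

variable {V : Type*} [AddCommGroup V] [Module ℂ V] [FiniteDimensional ℂ V]

omit [FiniteDimensional ℂ V] in
/-- An endomorphism of finite order of a complex vector space is semisimple. -/
theorem isSemisimple_of_pow_eq_one {f : Module.End ℂ V} {m : ℕ} (hm : 0 < m) (hf : f ^ m = 1) :
    f.IsSemisimple := by
  have hsep : (X ^ m - C (1 : ℂ)).Separable :=
    separable_X_pow_sub_C (1 : ℂ) (by exact_mod_cast hm.ne') one_ne_zero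
  apply Module.End.isSemisimple_of_squarefree_aeval_eq_zero hsep.squarefree
  simp [hf]

/-- A semisimple endomorphism of a finite dimensional complex space has an eigenbasis. -/
theorem exists_eigenbasis_of_isSemisimple {f : Module.End ℂ V} (hf : f.IsSemisimple) :
    ∃ (ι : Type) (_ : Fintype ι) (b : Basis ι ℂ V) (μ : ι → ℂ), ∀ i, f (b i) = μ i • b i := by
  classical
  have hint : DirectSum.IsInternal (fun μ : ℂ => f.eigenspace μ) :=
    DirectSum.isInternal_submodule_of_iSupIndep_of_iSup_eq_top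
      (Module.End.eigenspaces_iSupIndep f) hf.iSup_eigenspace_eq_top
  let v : ∀ μ : ℂ, Basis (Fin (finrank ℂ (f.eigenspace μ))) ℂ (f.eigenspace μ) :=
    fun μ => Module.finBasis ℂ (f.eigenspace μ)
  let b := hint.collectedBasis v
  have hfin : Finite (Σ μ : ℂ, Fin (finrank ℂ (f.eigenspace μ))) := Module.Finite.finite_basis b
  have hft : Fintype (Σ μ : ℂ, Fin (finrank ℂ (f.eigenspace μ))) := Fintype.ofFinite _
  refine ⟨_, hft, b, fun a => a.1, ?_⟩
  intro a
  exact Module.End.mem_eigenspace_iff.mp (hint.collectedBasis_mem v a)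

omit [FiniteDimensional ℂ V] in
/-- Trace of an endomorphism with an eigenbasis. -/
theorem trace_eq_sum_of_eigenbasis {ι : Type*} [Fintype ι] (b : Basis ι ℂ V) (μ : ι → ℂ)
    (f : Module.End ℂ V) (h : ∀ i, f (b i) = μ i • b i) :
    LinearMap.trace ℂ V f = ∑ i, μ i := by
  classical
  rw [LinearMap.trace_eq_matrix_trace ℂ b f, Matrix.trace]
  apply Finset.sum_congr rfl
  intro i _
  simp [LinearMap.toMatrix_apply, h]

/-- Finite order endomorphisms have an eigenbasis with eigenvalues roots of unity. -/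
theorem exists_eigenbasis_of_pow_eq_one {f : Module.End ℂ V} {m : ℕ} (hm : 0 < m)
    (hf : f ^ m = 1) :
    ∃ (ι : Type) (_ : Fintype ι) (b : Basis ι ℂ V) (μ : ι → ℂ),
      (∀ i, f (b i) = μ i • b i) ∧ ∀ i, μ i ^ m = 1 := by
  obtain ⟨ι, hι, b, μ, h⟩ := exists_eigenbasis_of_isSemisimple (isSemisimple_of_pow_eq_one hm hf)
  refine ⟨ι, hι, b, μ, h, ?_⟩
  intro i
  have hpow : ∀ n : ℕ, (f ^ n) (b i) = μ i ^ n • b i := by
    intro n
    induction n with
    | zero => simp
    | succ n ih =>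
      rw [pow_succ, Module.End.mul_apply, h, map_smul, ih, smul_smul, pow_succ, mul_comm]
  have h1 := hpow m
  rw [hf, Module.End.one_apply] at h1
  have hne : b i ≠ 0 := b.ne_zero i
  have : (μ i ^ m - 1) • b i = 0 := by rw [sub_smul, one_smul, ← h1, sub_self]
  rcases smul_eq_zero.mp this with h0 | h0
  · exact sub_eq_zero.mp h0
  · exact absurd h0 hne

theorem inv_eq_conj_of_pow_eq_one {z : ℂ} {m : ℕ} (hm : 0 < m) (hz : z ^ m = 1) :
    z⁻¹ = conj z := by
  have hnorm : ‖z‖ = 1 := by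
    have : ‖z‖ ^ m = 1 := by rw [← norm_pow, hz, norm_one]
    exact (pow_eq_one_iff_of_nonneg (norm_nonneg z) hm.ne').mp this
  exact Complex.inv_eq_conj hnorm

theorem norm_eq_one_of_pow_eq_one {z : ℂ} {m : ℕ} (hm : 0 < m) (hz : z ^ m = 1) : ‖z‖ = 1 := by
  have : ‖z‖ ^ m = 1 := by rw [← norm_pow, hz, norm_one]
  exact (pow_eq_one_iff_of_nonneg (norm_nonneg z) hm.ne').mp this

/-- Unit complex numbers summing to their count are all one. -/
theorem eq_one_of_sum_eq_card {ι : Type*} [Fintype ι] (μ : ι → ℂ) (hμ : ∀ i, ‖μ i‖ = 1)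
    (h : ∑ i, μ i = (Fintype.card ι : ℂ)) : ∀ i, μ i = 1 := by
  have hre : ∀ i, (μ i).re ≤ 1 := fun i => (Complex.re_le_norm (μ i)).trans (hμ i).le
  have hsum : ∑ i, (μ i).re = ∑ _i : ι, (1 : ℝ) := by
    have := congrArg Complex.re h
    simpa using this
  have hall : ∀ i ∈ Finset.univ, (μ i).re = 1 :=
    (Finset.sum_eq_sum_iff_of_le (fun i _ => hre i)).mp hsum
  intro i
  have h1 : (μ i).re = 1 := hall i (Finset.mem_univ i)
  have h2 : (μ i).im = 0 := by
    have hsq := Complex.sq_norm (μ i)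
    rw [hμ i, Complex.normSq_apply, h1] at hsq
    nlinarith
  apply Complex.ext <;> simp [h1, h2]

/-- Unit complex numbers whose sum has norm equal to their count are all equal. -/
theorem exists_eq_of_norm_sum_eq_card {ι : Type*} [Fintype ι] (μ : ι → ℂ) (hμ : ∀ i, ‖μ i‖ = 1)
    (h : ‖∑ i, μ i‖ = (Fintype.card ι : ℝ)) : ∃ ω : ℂ, ‖ω‖ = 1 ∧ ∀ i, μ i = ω := by
  rcases isEmpty_or_nonempty ι with he | hne
  · exact ⟨1, norm_one, fun i => (he.false i).elim⟩
  set t := ∑ i, μ i with ht
  have hn : (0 : ℝ) < Fintype.card ι := by exact_mod_cast Fintype.card_pos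
  have ht0 : t ≠ 0 := by
    intro h0
    rw [h0, norm_zero] at h
    linarith
  have hnc : (Fintype.card ι : ℂ) ≠ 0 := by exact_mod_cast hn.ne'
  set u : ℂ := conj t / (Fintype.card ι : ℂ) with hu
  have hunorm : ‖u‖ = 1 := by
    rw [hu, norm_div, Complex.norm_conj, h, Complex.norm_natCast]
    exact div_self hn.ne'
  have hsum : ∑ i, u * μ i = (Fintype.card ι : ℂ) := by
    rw [← Finset.mul_sum, ← ht, hu, div_mul_eq_mul_div, Complex.conj_mul', h]
    push_cast
    field_simp
  have hall := eq_one_of_sum_eq_card (fun i => u * μ i)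
    (fun i => by rw [norm_mul, hunorm, hμ i, one_mul]) hsum
  have hu0 : u ≠ 0 := by
    intro h0
    rw [h0, norm_zero] at hunorm
    exact zero_ne_one hunorm
  refine ⟨u⁻¹, by rw [norm_inv, hunorm, inv_one], fun i => ?_⟩
  have := hall i
  field_simp
  rw [mul_comm]
  exact this

end Cfsg.Agent.Lib.Helper6
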