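import Mathlib
import Cfsg.Agent.Lib.Helper6.FiniteOrder

set_option autoImplicit false

namespace Cfsg.Agent.Lib.Helper6

open Module
open scoped ComplexConjugate

variable {G : Type*} [Group G] [Finite G] {V : Type*} [AddCommGroup V] [Module ℂ V]

omit [Finite G] in
theorem rep_pow_orderOf (ρ : Representation ℂ G V) (g : G) : ρ g ^ orderOf g = 1 := by
  rw [← map_pow, pow_orderOf_eq_one, map_one]

variable [FiniteDimensional ℂ V]

/-- Eigenbasis for `ρ g`, eigenvalues being roots of unity. -/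
theorem exists_eigenbasis_rep (ρ : Representation ℂ G V) (g : G) :
    ∃ (ι : Type) (_ : Fintype ι) (b : Basis ι ℂ V) (μ : ι → ℂ),
      (∀ i, ρ g (b i) = μ i • b i) ∧ ∀ i, μ i ^ orderOf g = 1 :=
  exists_eigenbasis_of_pow_eq_one (orderOf_pos g) (rep_pow_orderOf ρ g)

theorem character_inv (ρ : Representation ℂ G V) (g : G) :
    ρ.character g⁻¹ = conj (ρ.character g) := by
  obtain ⟨ι, _, b, μ, h, hμ⟩ := exists_eigenbasis_rep ρ g
  have hinv : ∀ i, ρ g⁻¹ (b i) = (μ i)⁻¹ • b i := by
    intro i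
    have hμ0 : μ i ≠ 0 := by
      intro h0
      have := hμ i
      rw [h0, zero_pow (orderOf_pos g).ne'] at this
      exact zero_ne_one this
    have h1 : ρ g⁻¹ (ρ g (b i)) = b i := by
      rw [← Module.End.mul_apply, ← map_mul, inv_mul_cancel, map_one, Module.End.one_apply]
    rw [h i, map_smul] at h1
    exact (eq_inv_smul_iff₀ hμ0).mpr h1
  unfold Representation.character
  rw [trace_eq_sum_of_eigenbasis b μ _ h, trace_eq_sum_of_eigenbasis b _ _ hinv, map_sum]
  apply Finset.sum_congr rfl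
  intro i _
  exact inv_eq_conj_of_pow_eq_one (orderOf_pos g) (hμ i)

theorem norm_character_le (ρ : Representation ℂ G V) (g : G) :
    ‖ρ.character g‖ ≤ (finrank ℂ V : ℝ) := by
  obtain ⟨ι, _, b, μ, h, hμ⟩ := exists_eigenbasis_rep ρ g
  unfold Representation.character
  rw [trace_eq_sum_of_eigenbasis b μ _ h, finrank_eq_card_basis b]
  calc ‖∑ i, μ i‖ ≤ ∑ i, ‖μ i‖ := norm_sum_le _ _
    _ = ∑ _i : ι, (1 : ℝ) := by
      apply Finset.sum_congr rfl
      intro i _
      exact norm_eq_one_of_pow_eq_one (orderOf_pos g) (hμ i)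
    _ = (Fintype.card ι : ℝ) := by simp

theorem norm_character_eq_iff (ρ : Representation ℂ G V) (g : G) :
    ‖ρ.character g‖ = (finrank ℂ V : ℝ) ↔ ∃ ω : ℂ, ρ g = ω • (LinearMap.id : V →ₗ[ℂ] V) := by
  obtain ⟨ι, _, b, μ, h, hμ⟩ := exists_eigenbasis_rep ρ g
  have hnorm : ∀ i, ‖μ i‖ = 1 := fun i => norm_eq_one_of_pow_eq_one (orderOf_pos g) (hμ i)
  unfold Representation.character
  rw [trace_eq_sum_of_eigenbasis b μ _ h, finrank_eq_card_basis b]
  constructor
  · intro heq
    obtain ⟨ω, _, hω⟩ := exists_eq_of_norm_sum_eq_card μ hnorm heq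
    refine ⟨ω, ?_⟩
    apply b.ext
    intro i
    rw [h i, hω i]
    rfl
  · rintro ⟨ω, hω⟩
    have hall : ∀ i, μ i = ω := by
      intro i
      have h1 := h i
      rw [hω] at h1
      have h2 : (ω - μ i) • b i = 0 := by
        rw [sub_smul, ← h1]
        simp
      rcases smul_eq_zero.mp h2 with h0 | h0
      · exact (sub_eq_zero.mp h0).symm
      · exact absurd h0 (b.ne_zero i)
    rcases isEmpty_or_nonempty ι with he | ⟨⟨i₀⟩⟩
    · simp
    · have hω1 : ‖ω‖ = 1 := by rw [← hall i₀]; exact hnorm i₀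
      simp_rw [hall]
      simp [hω1]

theorem character_eq_finrank_iff (ρ : Representation ℂ G V) (g : G) :
    ρ.character g = (finrank ℂ V : ℂ) ↔ ρ g = LinearMap.id := by
  constructor
  · intro heq
    obtain ⟨ι, _, b, μ, h, hμ⟩ := exists_eigenbasis_rep ρ g
    have hnorm : ∀ i, ‖μ i‖ = 1 := fun i => norm_eq_one_of_pow_eq_one (orderOf_pos g) (hμ i)
    unfold Representation.character at heq
    rw [trace_eq_sum_of_eigenbasis b μ _ h, finrank_eq_card_basis b] at heq
    have hall := eq_one_of_sum_eq_card μ hnorm heq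
    apply b.ext
    intro i
    rw [h i, hall i, one_smul]
    rfl
  · intro h
    unfold Representation.character
    rw [h]
    exact LinearMap.trace_id ℂ V

theorem isIntegral_character (ρ : Representation ℂ G V) (g : G) :
    IsIntegral ℤ (ρ.character g) := by
  obtain ⟨ι, _, b, μ, h, hμ⟩ := exists_eigenbasis_rep ρ g
  unfold Representation.character
  rw [trace_eq_sum_of_eigenbasis b μ _ h]
  apply IsIntegral.sum
  intro i _
  exact IsIntegral.of_pow (orderOf_pos g) (by rw [hμ i]; exact isIntegral_one)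

end Cfsg.Agent.Lib.Helper6
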