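import Cfsg.Prelude.Def_Characters

set_option autoImplicit false

namespace Cfsg.Agent.Lib.Helper6

open scoped ComplexConjugate

variable {G : Type*} [Group G]

theorem extendByZero_coe (H : Subgroup G) (θ : H → ℂ) (h : H) :
    Cfsg.extendByZero H θ (h : G) = θ h := by
  unfold Cfsg.extendByZero
  exact Subtype.val_injective.extend_apply θ 0 h

theorem extendByZero_of_mem (H : Subgroup G) (θ : H → ℂ) {g : G} (hg : g ∈ H) :
    Cfsg.extendByZero H θ g = θ ⟨g, hg⟩ :=
  extendByZero_coe H θ ⟨g, hg⟩

theorem extendByZero_of_not_mem (H : Subgroup G) (θ : H → ℂ) {g : G} (hg : g ∉ H) :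
    Cfsg.extendByZero H θ g = 0 := by
  unfold Cfsg.extendByZero
  rw [Function.extend_apply']
  · rfl
  · rintro ⟨h, rfl⟩
    exact hg h.2

theorem sum_extendByZero_mul [Fintype G] (H : Subgroup G) [Fintype H] (θ : H → ℂ) (f : G → ℂ) :
    ∑ g : G, Cfsg.extendByZero H θ g * f g = ∑ h : H, θ h * f h := by
  classical
  have h1 : ∑ g : G, Cfsg.extendByZero H θ g * f g
      = ∑ g ∈ Finset.univ.filter (fun g : G => g ∈ H), Cfsg.extendByZero H θ g * f g := by
    symm
    apply Finset.sum_subset (Finset.filter_subset _ _)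
    intro g _ hg
    have : g ∉ H := by simpa using hg
    rw [extendByZero_of_not_mem H θ this, zero_mul]
  rw [h1]
  rw [← Finset.sum_subtype_eq_sum_filter]
  have : (Finset.univ : Finset G).subtype (fun g => g ∈ H) = (Finset.univ : Finset H) := by
    ext x; simp
  rw [this]
  apply Finset.sum_congr rfl
  intro h _
  rw [extendByZero_coe]

theorem sum_extendByZero [Fintype G] (H : Subgroup G) [Fintype H] (θ : H → ℂ) :
    ∑ g : G, Cfsg.extendByZero H θ g = ∑ h : H, θ h := by
  have := sum_extendByZero_mul H θ (fun _ => 1)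
  simpa using this

theorem card_ne_zero_complex (G : Type*) [Group G] [Finite G] : (Nat.card G : ℂ) ≠ 0 := by
  exact_mod_cast Nat.card_pos.ne'

end Cfsg.Agent.Lib.Helper6
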