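import Mathlib
import Cfsg.Prelude.Def_Characters

set_option autoImplicit false

namespace Cfsg.Agent.Lib.Helper6

open scoped MonoidAlgebra

section transport

variable {k G V W : Type*} [Field k] [Monoid G] [AddCommGroup V] [Module k V]
  [AddCommGroup W] [Module k W]

/-- Transport a representation along a linear equivalence. -/
noncomputable def transport (ρ : Representation k G V) (e : V ≃ₗ[k] W) : Representation k G W :=
  (e.conjRingEquiv : Module.End k V →* Module.End k W).comp ρ

theorem transport_apply (ρ : Representation k G V) (e : V ≃ₗ[k] W) (g : G) :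
    transport ρ e g = e.toLinearMap ∘ₗ ρ g ∘ₗ e.symm.toLinearMap := rfl

/-- The transported representation is equivalent to the original one. -/
noncomputable def transportEquiv (ρ : Representation k G V) (e : V ≃ₗ[k] W) :
    ρ.Equiv (transport ρ e) :=
  Representation.Equiv.mk e (by
    intro g
    ext v
    simp [transport_apply])

/-- Irreducibility is invariant under equivalence of representations. -/
theorem isIrreducible_of_equiv {ρ : Representation k G V} {σ : Representation k G W}
    (φ : ρ.Equiv σ) [hρ : ρ.IsIrreducible] : σ.IsIrreducible := by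
  rw [Representation.irreducible_iff_isSimpleModule_asModule] at hρ ⊢
  let f : ρ.asModule →ₗ[k[G]] σ.asModule :=
    Representation.IntertwiningMap.equivLinearMapAsModule ρ σ φ.toIntertwiningMap
  have hf : Function.Bijective f := φ.toLinearEquiv.bijective
  exact IsSimpleModule.congr (LinearEquiv.ofBijective f hf).symm

end transport

section fin

variable {G : Type*} [Group G] {V : Type*} [AddCommGroup V] [Module ℂ V] [FiniteDimensional ℂ V]

/-- Every finite dimensional representation is equivalent to one on a coordinate space. -/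
theorem exists_fin_rep (ρ : Representation ℂ G V) :
    ∃ ρ' : Representation ℂ G (Fin (Module.finrank ℂ V) → ℂ), Nonempty (ρ.Equiv ρ') := by
  let e : V ≃ₗ[ℂ] (Fin (Module.finrank ℂ V) → ℂ) :=
    (Module.finBasis ℂ V).equivFun
  exact ⟨transport ρ e, ⟨transportEquiv ρ e⟩⟩

theorem isCharacter_character (ρ : Representation ℂ G V) : Cfsg.IsCharacter G ρ.character := by
  obtain ⟨ρ', ⟨φ⟩⟩ := exists_fin_rep ρ
  exact ⟨_, ρ', (Representation.char_iso φ).symm⟩

theorem isIrrCharacter_character (ρ : Representation ℂ G V) [ρ.IsIrreducible] :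
    Cfsg.IsIrrCharacter G ρ.character := by
  obtain ⟨ρ', ⟨φ⟩⟩ := exists_fin_rep ρ
  exact ⟨_, ρ', isIrreducible_of_equiv φ, (Representation.char_iso φ).symm⟩

theorem IsIrrCharacter.isCharacter {χ : G → ℂ} (h : Cfsg.IsIrrCharacter G χ) :
    Cfsg.IsCharacter G χ := by
  obtain ⟨n, ρ, _, rfl⟩ := h
  exact ⟨n, ρ, rfl⟩

end fin

end Cfsg.Agent.Lib.Helper6
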