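import Mathlib
import Cfsg.Agent.Lib.Helper6.IndFun
import Cfsg.Agent.Lib.Helper6.RepBasic
import Cfsg.Agent.Lib.Helper6.CharBasic

set_option autoImplicit false

namespace Cfsg.Agent.Lib.Helper6

open Module
open scoped ComplexConjugate

section orth

variable {G : Type*} [Group G] [Fintype G]
variable {V : Type*} [AddCommGroup V] [Module ℂ V] [FiniteDimensional ℂ V]
variable {W : Type*} [AddCommGroup W] [Module ℂ W] [FiniteDimensional ℂ W]

theorem classInner_character (ρ : Representation ℂ G V) (σ : Representation ℂ G W) :
    Cfsg.classInner ρ.character σ.character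
      = (Nat.card G : ℂ)⁻¹ * ∑ g : G, ρ.character g * σ.character g⁻¹ := by
  unfold Cfsg.classInner
  congr 1
  apply Finset.sum_congr rfl
  intro g _
  rw [character_inv]

open Classical in
/-- First orthogonality relation, in `classInner` form. -/
theorem classInner_irr (ρ : Representation ℂ G V) (σ : Representation ℂ G W)
    [ρ.IsIrreducible] [σ.IsIrreducible] :
    Cfsg.classInner ρ.character σ.character = if Nonempty (σ.Equiv ρ) then 1 else 0 := by
  have : Invertible (Nat.card G : ℂ) := invertibleOfNonzero (card_ne_zero_complex G)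
  rw [classInner_character]
  exact Representation.char_orthonormal ρ σ

theorem classInner_irr_self (ρ : Representation ℂ G V) [ρ.IsIrreducible] :
    Cfsg.classInner ρ.character ρ.character = 1 := by
  classical
  rw [classInner_irr, if_pos ⟨Representation.Equiv.refl ρ⟩]

/-- Irreducible representations with the same character are equivalent. -/
theorem equiv_of_character_eq_of_irr (ρ : Representation ℂ G V) (σ : Representation ℂ G W)
    [ρ.IsIrreducible] [σ.IsIrreducible] (h : ρ.character = σ.character) :
    Nonempty (ρ.Equiv σ) := by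
  classical
  by_contra hne
  have h1 := classInner_irr σ ρ
  rw [if_neg hne, ← h, classInner_irr_self] at h1
  exact one_ne_zero h1

theorem classInner_irr_of_ne (ρ : Representation ℂ G V) (σ : Representation ℂ G W)
    [ρ.IsIrreducible] [σ.IsIrreducible] (h : ρ.character ≠ σ.character) :
    Cfsg.classInner ρ.character σ.character = 0 := by
  classical
  rw [classInner_irr, if_neg]
  rintro ⟨φ⟩
  exact h (Representation.char_iso φ).symm

end orth

section irrchar

variable {G : Type*} [Group G] [Fintype G]

theorem classInner_isIrrCharacter {χ ψ : G → ℂ} (hχ : Cfsg.IsIrrCharacter G χ)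
    (hψ : Cfsg.IsIrrCharacter G ψ) : Cfsg.classInner χ ψ = if χ = ψ then 1 else 0 := by
  obtain ⟨n, ρ, hρ, rfl⟩ := hχ
  obtain ⟨m, σ, hσ, rfl⟩ := hψ
  split_ifs with h
  · rw [← h]; exact classInner_irr_self ρ
  · exact classInner_irr_of_ne ρ σ h

theorem classInner_irrCharacter (χ ψ : Cfsg.IrrCharacter G) :
    Cfsg.classInner (χ : G → ℂ) (ψ : G → ℂ) = if χ = ψ then 1 else 0 := by
  rw [classInner_isIrrCharacter χ.2 ψ.2]
  simp only [Subtype.ext_iff]

end irrchar

end Cfsg.Agent.Lib.Helper6
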