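import Mathlib
import Cfsg.Agent.Lib.Helper6.Orthogonality

set_option autoImplicit false

namespace Cfsg.Agent.Lib.Helper6

open Module
open scoped ComplexConjugate

section inner

variable {G : Type*} [Group G] [Fintype G]

theorem classInner_add_left (φ ψ θ : G → ℂ) :
    Cfsg.classInner (φ + ψ) θ = Cfsg.classInner φ θ + Cfsg.classInner ψ θ := by
  unfold Cfsg.classInner
  simp only [Pi.add_apply, add_mul, Finset.sum_add_distrib, mul_add]

theorem classInner_add_right (φ ψ θ : G → ℂ) :
    Cfsg.classInner θ (φ + ψ) = Cfsg.classInner θ φ + Cfsg.classInner θ ψ := by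
  unfold Cfsg.classInner
  simp only [Pi.add_apply, map_add, mul_add, Finset.sum_add_distrib]

theorem classInner_smul_left (c : ℂ) (φ θ : G → ℂ) :
    Cfsg.classInner (c • φ) θ = c * Cfsg.classInner φ θ := by
  unfold Cfsg.classInner
  simp only [Pi.smul_apply, smul_eq_mul, Finset.mul_sum]
  apply Finset.sum_congr rfl
  intro g _
  ring

theorem classInner_smul_right (c : ℂ) (φ θ : G → ℂ) :
    Cfsg.classInner θ (c • φ) = conj c * Cfsg.classInner θ φ := by
  unfold Cfsg.classInner
  simp only [Pi.smul_apply, smul_eq_mul, Finset.mul_sum, map_mul]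
  apply Finset.sum_congr rfl
  intro g _
  ring

theorem classInner_zero_left (θ : G → ℂ) : Cfsg.classInner 0 θ = 0 := by
  unfold Cfsg.classInner
  simp

theorem classInner_zero_right (θ : G → ℂ) : Cfsg.classInner θ 0 = 0 := by
  unfold Cfsg.classInner
  simp

theorem classInner_neg_left (φ θ : G → ℂ) : Cfsg.classInner (-φ) θ = - Cfsg.classInner φ θ := by
  unfold Cfsg.classInner
  simp [Finset.sum_neg_distrib]

theorem classInner_sub_left (φ ψ θ : G → ℂ) :
    Cfsg.classInner (φ - ψ) θ = Cfsg.classInner φ θ - Cfsg.classInner ψ θ := by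
  rw [sub_eq_add_neg, classInner_add_left, classInner_neg_left, sub_eq_add_neg]

theorem classInner_neg_right (φ θ : G → ℂ) : Cfsg.classInner θ (-φ) = - Cfsg.classInner θ φ := by
  unfold Cfsg.classInner
  simp [Finset.sum_neg_distrib]

theorem classInner_sub_right (φ ψ θ : G → ℂ) :
    Cfsg.classInner θ (φ - ψ) = Cfsg.classInner θ φ - Cfsg.classInner θ ψ := by
  rw [sub_eq_add_neg, classInner_add_right, classInner_neg_right, sub_eq_add_neg]

theorem classInner_sum_left {ι : Type*} (s : Finset ι) (f : ι → G → ℂ) (θ : G → ℂ) :
    Cfsg.classInner (∑ i ∈ s, f i) θ = ∑ i ∈ s, Cfsg.classInner (f i) θ := by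
  classical
  induction s using Finset.induction_on with
  | empty => simp [classInner_zero_left]
  | insert a s ha ih => rw [Finset.sum_insert ha, Finset.sum_insert ha, classInner_add_left, ih]

theorem classInner_sum_right {ι : Type*} (s : Finset ι) (f : ι → G → ℂ) (θ : G → ℂ) :
    Cfsg.classInner θ (∑ i ∈ s, f i) = ∑ i ∈ s, Cfsg.classInner θ (f i) := by
  classical
  induction s using Finset.induction_on with
  | empty => simp [classInner_zero_right]
  | insert a s ha ih => rw [Finset.sum_insert ha, Finset.sum_insert ha, classInner_add_right, ih]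

theorem classInner_conj_symm (φ θ : G → ℂ) :
    conj (Cfsg.classInner φ θ) = Cfsg.classInner θ φ := by
  unfold Cfsg.classInner
  rw [map_mul, map_inv₀, Complex.conj_natCast, map_sum]
  congr 1
  apply Finset.sum_congr rfl
  intro g _
  rw [map_mul, Complex.conj_conj, mul_comm]

end inner

section indep

variable {G : Type*} [Group G]

/-- Irreducible characters are linearly independent. -/
theorem linearIndependent_irrCharacter [Finite G] :
    LinearIndependent ℂ (fun χ : Cfsg.IrrCharacter G => (χ : G → ℂ)) := by
  classical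
  have : Fintype G := Fintype.ofFinite G
  rw [linearIndependent_iff']
  intro s c hc ψ hψ
  have h1 := congrArg (fun f => Cfsg.classInner f (ψ : G → ℂ)) hc
  simp only [classInner_sum_left, classInner_smul_left, classInner_zero_left,
    classInner_irrCharacter] at h1
  simpa [Finset.sum_ite_eq', hψ] using h1

instance finite_irrCharacter [Finite G] : Finite (Cfsg.IrrCharacter G) :=
  (linearIndependent_irrCharacter (G := G)).finite

end indep

end Cfsg.Agent.Lib.Helper6
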