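import Mathlib
import Cfsg.Agent.Lib.Helper6.IrrBasis

set_option autoImplicit false

namespace Cfsg.Agent.Lib.Helper6

universe v

open Module
open scoped ComplexConjugate

section trace

variable {V : Type*} [AddCommGroup V] [Module ℂ V] [FiniteDimensional ℂ V]

theorem trace_eq_add_of_isCompl (f : Module.End ℂ V) (p q : Submodule ℂ V) (hpq : IsCompl p q)
    (hp : ∀ x ∈ p, f x ∈ p) (hq : ∀ x ∈ q, f x ∈ q) :
    LinearMap.trace ℂ V f
      = LinearMap.trace ℂ p (f.restrict hp) + LinearMap.trace ℂ q (f.restrict hq) := by
  classical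
  let A : Bool → Submodule ℂ V := fun b => cond b p q
  have hint : DirectSum.IsInternal A := by
    rw [DirectSum.isInternal_submodule_iff_isCompl A (i := true) (j := false) (by simp)
      (by ext b; cases b <;> simp)]
    exact hpq
  have hA : ∀ b, Set.MapsTo f (A b) (A b) := by
    intro b
    cases b
    · exact hq
    · exact hp
  have hfin : ∀ b, Module.Finite ℂ (A b) := by
    intro b; cases b <;> infer_instance
  have hfree : ∀ b, Module.Free ℂ (A b) := by
    intro b; cases b <;> infer_instance
  have := LinearMap.trace_eq_sum_trace_restrict hint hA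
  rw [this, Fintype.sum_bool]
  rfl

end trace

section decomp

variable {G : Type*} [Group G]

theorem toSubmodule_bot {V : Type*} [AddCommGroup V] [Module ℂ V] (ρ : Representation ℂ G V) :
    (⊥ : Subrepresentation ρ).toSubmodule = ⊥ := rfl

theorem toSubmodule_top {V : Type*} [AddCommGroup V] [Module ℂ V] (ρ : Representation ℂ G V) :
    (⊤ : Subrepresentation ρ).toSubmodule = ⊤ := rfl

theorem isCompl_toSubmodule {V : Type*} [AddCommGroup V] [Module ℂ V] {ρ : Representation ℂ G V}
    {W W' : Subrepresentation ρ} (h : IsCompl W W') : IsCompl W.toSubmodule W'.toSubmodule := by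
  constructor
  · rw [disjoint_iff, ← Subrepresentation.toSubmodule_inf, h.inf_eq_bot, toSubmodule_bot]
  · rw [codisjoint_iff, ← Subrepresentation.toSubmodule_sup, h.sup_eq_top, toSubmodule_top]

theorem character_eq_add_of_isCompl {V : Type*} [AddCommGroup V] [Module ℂ V]
    [FiniteDimensional ℂ V] (ρ : Representation ℂ G V)
    (W W' : Subrepresentation ρ) (h : IsCompl W W') :
    ρ.character = W.toRepresentation.character + W'.toRepresentation.character := by
  funext g
  exact trace_eq_add_of_isCompl (ρ g) W.toSubmodule W'.toSubmodule (isCompl_toSubmodule h)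
    (fun _ hx => W.apply_mem_toSubmodule g hx) (fun _ hx => W'.apply_mem_toSubmodule g hx)

variable [Finite G]

/-- Every character is a nonnegative integer combination of irreducible characters. -/
theorem exists_irr_decomp_aux [Fintype (Cfsg.IrrCharacter G)] (n : ℕ) :
    ∀ (V : Type v) [AddCommGroup V] [Module ℂ V] [FiniteDimensional ℂ V]
      (ρ : Representation ℂ G V), finrank ℂ V = n →
      ∃ m : Cfsg.IrrCharacter G → ℕ, ρ.character = ∑ χ, m χ • (χ : G → ℂ) := by
  classical
  induction n using Nat.strong_induction_on with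
  | _ n ih =>
    intro V _ _ _ ρ hn
    rcases subsingleton_or_nontrivial V with hV | hV
    · refine ⟨fun _ => 0, ?_⟩
      funext g
      have : ρ g = 0 := Subsingleton.elim _ _
      simp [Representation.character, this]
    by_cases hirr : ρ.IsIrreducible
    · refine ⟨fun χ => if χ = ⟨ρ.character, isIrrCharacter_character ρ⟩ then 1 else 0, ?_⟩
      simp [Finset.sum_ite_eq']
    · -- find a proper nonzero subrepresentation
      have hnt : Nontrivial (Subrepresentation ρ) := by
        refine ⟨⊥, ⊤, ?_⟩
        intro h
        have h2 : (⊥ : Submodule ℂ V) = ⊤ := by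
          rw [← toSubmodule_bot ρ, ← toSubmodule_top ρ, h]
        exact bot_ne_top h2
      have : ∃ W : Subrepresentation ρ, W ≠ ⊥ ∧ W ≠ ⊤ := by
        by_contra hcon
        push Not at hcon
        apply hirr
        exact ⟨fun W => by
          by_cases hW : W = ⊥
          · exact Or.inl hW
          · exact Or.inr (hcon W hW)⟩
      obtain ⟨W, hW0, hW1⟩ := this
      obtain ⟨W', hc⟩ := exists_isCompl W
      have hW'1 : W' ≠ ⊤ := by
        intro h
        apply hW0
        have := hc.inf_eq_bot
        rw [h, inf_top_eq] at this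
        exact this
      have hlt : ∀ U : Subrepresentation ρ, U ≠ ⊤ → finrank ℂ U.toSubmodule < n := by
        intro U hU
        rw [← hn]
        apply Submodule.finrank_lt
        intro h
        apply hU
        apply Subrepresentation.toSubmodule_injective
        rw [h, toSubmodule_top]
      obtain ⟨m₁, h₁⟩ := ih _ (hlt W hW1) W.toSubmodule W.toRepresentation rfl
      obtain ⟨m₂, h₂⟩ := ih _ (hlt W' hW'1) W'.toSubmodule W'.toRepresentation rfl
      refine ⟨m₁ + m₂, ?_⟩
      rw [character_eq_add_of_isCompl ρ W W' hc, h₁, h₂, ← Finset.sum_add_distrib]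
      apply Finset.sum_congr rfl
      intro χ _
      rw [Pi.add_apply, add_smul]

/-- Every character of a representation is a natural combination of irreducible characters. -/
theorem character_eq_sum_irr [Fintype (Cfsg.IrrCharacter G)] {V : Type*} [AddCommGroup V]
    [Module ℂ V] [FiniteDimensional ℂ V] (ρ : Representation ℂ G V) :
    ∃ m : Cfsg.IrrCharacter G → ℕ, ρ.character = ∑ χ, m χ • (χ : G → ℂ) :=
  exists_irr_decomp_aux _ V ρ rfl

theorem IsCharacter.eq_sum_irr [Fintype (Cfsg.IrrCharacter G)] {χ : G → ℂ}
    (hχ : Cfsg.IsCharacter G χ) :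
    ∃ m : Cfsg.IrrCharacter G → ℕ, χ = ∑ ψ, m ψ • (ψ : G → ℂ) := by
  obtain ⟨n, ρ, rfl⟩ := hχ
  exact character_eq_sum_irr ρ

end decomp

end Cfsg.Agent.Lib.Helper6
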