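import Mathlib
import Cfsg.Agent.Lib.Helper6.Decomp

set_option autoImplicit false

namespace Cfsg.Agent.Lib.Helper6

universe v

open Module
open scoped ComplexConjugate

section opSum

variable {G : Type*} [Group G] [Fintype G]

/-- The operator `∑ g, f g • ρ g`. -/
noncomputable def opSum {V : Type*} [AddCommGroup V] [Module ℂ V] (ρ : Representation ℂ G V)
    (f : G → ℂ) : Module.End ℂ V := ∑ g, f g • ρ g

theorem opSum_apply {V : Type*} [AddCommGroup V] [Module ℂ V] (ρ : Representation ℂ G V)
    (f : G → ℂ) (v : V) : opSum ρ f v = ∑ g, f g • ρ g v := by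
  simp [opSum, LinearMap.sum_apply]

theorem opSum_comm {V : Type*} [AddCommGroup V] [Module ℂ V] (ρ : Representation ℂ G V)
    (f : G → ℂ) (hf : Cfsg.IsClassFunction G f) (h : G) :
    opSum ρ f ∘ₗ ρ h = ρ h ∘ₗ opSum ρ f := by
  ext v
  simp only [LinearMap.comp_apply, opSum_apply, map_sum, map_smul]
  -- LHS: ∑ f g • ρ g (ρ h v) ; RHS: ∑ f g • ρ h (ρ g v)
  refine Fintype.sum_equiv (MulAut.conj h⁻¹).toEquiv _ _ ?_
  intro g
  simp only [MulEquiv.toEquiv_eq_coe, EquivLike.coe_coe, MulAut.conj_apply, inv_inv]
  have h1 : f (h⁻¹ * g * h) = f g := by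
    have := hf g h⁻¹
    simpa using this
  rw [h1]
  congr 1
  rw [← Module.End.mul_apply, ← Module.End.mul_apply, ← map_mul, ← map_mul]
  congr 2
  group

theorem trace_opSum {V : Type*} [AddCommGroup V] [Module ℂ V]
    (ρ : Representation ℂ G V) (f : G → ℂ) :
    LinearMap.trace ℂ V (opSum ρ f) = ∑ g, f g * ρ.character g := by
  simp [opSum, Representation.character]

theorem opSum_eq_zero_of_irr {V : Type*} [AddCommGroup V] [Module ℂ V] [FiniteDimensional ℂ V]
    (ρ : Representation ℂ G V) [ρ.IsIrreducible] (f : G → ℂ) (hf : Cfsg.IsClassFunction G f)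
    (h : ∑ g, f g * ρ.character g = 0) : opSum ρ f = 0 := by
  let T : Representation.IntertwiningMap ρ ρ :=
    { toLinearMap := opSum ρ f
      isIntertwining' := fun g => opSum_comm ρ f hf g }
  obtain ⟨c, hc⟩ :=
    (Representation.IsIrreducible.algebraMap_intertwiningMap_bijective_of_isAlgClosed (ρ := ρ)).2 T
  have hT : opSum ρ f = c • LinearMap.id := by
    have := congrArg Representation.IntertwiningMap.toLinearMap hc
    rw [Representation.IntertwiningMap.algebraMap_apply,
      Representation.IntertwiningMap.toLinearMap_smul] at this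
    exact this.symm
  have htr := trace_opSum ρ f
  rw [h, hT, map_smul, LinearMap.trace_id, smul_eq_mul] at htr
  have hnt : Nontrivial V := by
    by_contra hV
    rw [not_nontrivial_iff_subsingleton] at hV
    have : (⊥ : Subrepresentation ρ) = ⊤ := by
      apply Subrepresentation.toSubmodule_injective
      exact Subsingleton.elim _ _
    exact bot_ne_top this
  have hpos : (finrank ℂ V : ℂ) ≠ 0 := by
    exact_mod_cast (Module.finrank_pos (R := ℂ) (M := V)).ne'
  rcases mul_eq_zero.mp htr with h0 | h0
  · rw [hT, h0, zero_smul]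
  · exact absurd h0 hpos

theorem opSum_eq_zero_aux (f : G → ℂ) (hf : Cfsg.IsClassFunction G f)
    (h : ∀ χ : Cfsg.IrrCharacter G, ∑ g, f g * (χ : G → ℂ) g = 0) (n : ℕ) :
    ∀ (V : Type v) [AddCommGroup V] [Module ℂ V] [FiniteDimensional ℂ V]
      (ρ : Representation ℂ G V), finrank ℂ V = n → opSum ρ f = 0 := by
  classical
  induction n using Nat.strong_induction_on with
  | _ n ih =>
    intro V _ _ _ ρ hn
    rcases subsingleton_or_nontrivial V with hV | hV
    · exact Subsingleton.elim _ _
    by_cases hirr : ρ.IsIrreducible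
    · exact opSum_eq_zero_of_irr ρ f hf (h ⟨ρ.character, isIrrCharacter_character ρ⟩)
    · have hnt : Nontrivial (Subrepresentation ρ) := by
        refine ⟨⊥, ⊤, ?_⟩
        intro h
        have h2 : (⊥ : Submodule ℂ V) = ⊤ := by
          rw [← toSubmodule_bot ρ, ← toSubmodule_top ρ, h]
        exact bot_ne_top h2
      have : ∃ W : Subrepresentation ρ, W ≠ ⊥ ∧ W ≠ ⊤ := by
        by_contra hcon
        push Not at hcon
        apply hirr
        exact ⟨fun W => by
          by_cases hW : W = ⊥
          · exact Or.inl hW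
          · exact Or.inr (hcon W hW)⟩
      obtain ⟨W, hW0, hW1⟩ := this
      obtain ⟨W', hc⟩ := exists_isCompl W
      have hW'1 : W' ≠ ⊤ := by
        intro h
        apply hW0
        have := hc.inf_eq_bot
        rw [h, inf_top_eq] at this
        exact this
      have hlt : ∀ U : Subrepresentation ρ, U ≠ ⊤ → finrank ℂ U.toSubmodule < n := by
        intro U hU
        rw [← hn]
        apply Submodule.finrank_lt
        intro h
        apply hU
        apply Subrepresentation.toSubmodule_injective
        rw [h, toSubmodule_top]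
      have hres : ∀ U : Subrepresentation ρ, U ≠ ⊤ → ∀ u ∈ U.toSubmodule, opSum ρ f u = 0 := by
        intro U hU u hu
        have h0 := ih _ (hlt U hU) U.toSubmodule U.toRepresentation rfl
        have h1 := congrArg (fun T => ((T ⟨u, hu⟩ : U.toSubmodule) : V)) h0
        simp only [opSum_apply, LinearMap.zero_apply, Submodule.coe_zero] at h1
        rw [opSum_apply, ← h1]
        simp [Subrepresentation.toRepresentation]
      ext v
      have hv : v ∈ W.toSubmodule ⊔ W'.toSubmodule := by
        rw [(isCompl_toSubmodule hc).sup_eq_top]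
        exact Submodule.mem_top
      obtain ⟨w, hw, w', hw', rfl⟩ := Submodule.mem_sup.mp hv
      rw [map_add, hres W hW1 w hw, hres W' hW'1 w' hw', add_zero, LinearMap.zero_apply]

theorem opSum_eq_zero (f : G → ℂ) (hf : Cfsg.IsClassFunction G f)
    (h : ∀ χ : Cfsg.IrrCharacter G, ∑ g, f g * (χ : G → ℂ) g = 0)
    {V : Type*} [AddCommGroup V] [Module ℂ V] [FiniteDimensional ℂ V]
    (ρ : Representation ℂ G V) : opSum ρ f = 0 :=
  opSum_eq_zero_aux f hf h _ V ρ rfl

/-- A class function annihilated by all irreducible characters vanishes. -/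
theorem eq_zero_of_forall_irr_sum_eq_zero (f : G → ℂ) (hf : Cfsg.IsClassFunction G f)
    (h : ∀ χ : Cfsg.IrrCharacter G, ∑ g, f g * (χ : G → ℂ) g = 0) : f = 0 := by
  classical
  have h0 := opSum_eq_zero f hf h (Representation.leftRegular ℂ G)
  have h1 := congrArg (fun T => T (MonoidAlgebra.single (1 : G) (1 : ℂ))) h0
  simp only [opSum_apply, LinearMap.zero_apply, Representation.ofMulAction_single,
    smul_eq_mul, mul_one] at h1
  funext x
  have h2 := congrArg (fun a : MonoidAlgebra ℂ G => a.coeff x) h1
  simpa [MonoidAlgebra.coeff_sum, MonoidAlgebra.coeff_smul, MonoidAlgebra.coeff_single,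
    Finsupp.single_apply] using h2

end opSum

end Cfsg.Agent.Lib.Helper6
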