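import Mathlib
import Cfsg.Agent.Lib.Helper6.Complete

set_option autoImplicit false

namespace Cfsg.Agent.Lib.Helper6

open Module
open scoped ComplexConjugate

section

variable {G : Type*} [Group G]

theorem IsCharacter.isClassFunction {χ : G → ℂ} (h : Cfsg.IsCharacter G χ) :
    Cfsg.IsClassFunction G χ := by
  obtain ⟨n, ρ, rfl⟩ := h
  intro g x
  exact Representation.char_conj ρ g x

theorem IsIrrCharacter.isClassFunction {χ : G → ℂ} (h : Cfsg.IsIrrCharacter G χ) :
    Cfsg.IsClassFunction G χ :=
  IsCharacter.isClassFunction (IsIrrCharacter.isCharacter h)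

theorem isClassFunction_add {φ ψ : G → ℂ} (hφ : Cfsg.IsClassFunction G φ)
    (hψ : Cfsg.IsClassFunction G ψ) : Cfsg.IsClassFunction G (φ + ψ) := by
  intro g h
  simp [hφ g h, hψ g h]

theorem isClassFunction_sub {φ ψ : G → ℂ} (hφ : Cfsg.IsClassFunction G φ)
    (hψ : Cfsg.IsClassFunction G ψ) : Cfsg.IsClassFunction G (φ - ψ) := by
  intro g h
  simp [hφ g h, hψ g h]

theorem isClassFunction_smul (c : ℂ) {φ : G → ℂ} (hφ : Cfsg.IsClassFunction G φ) :
    Cfsg.IsClassFunction G (c • φ) := by
  intro g h
  simp [hφ g h]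

theorem isClassFunction_zero : Cfsg.IsClassFunction G (0 : G → ℂ) := by
  intro g h
  rfl

theorem isClassFunction_sum {ι : Type*} (s : Finset ι) (f : ι → G → ℂ)
    (hf : ∀ i ∈ s, Cfsg.IsClassFunction G (f i)) : Cfsg.IsClassFunction G (∑ i ∈ s, f i) := by
  intro g h
  simp only [Finset.sum_apply]
  exact Finset.sum_congr rfl (fun i hi => hf i hi g h)

theorem isClassFunction_conj {φ : G → ℂ} (hφ : Cfsg.IsClassFunction G φ) :
    Cfsg.IsClassFunction G (fun g => conj (φ g)) := by
  intro g h
  simp [hφ g h]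

variable [Fintype G]

/-- A class function orthogonal to all irreducible characters vanishes. -/
theorem eq_zero_of_classInner_irr_eq_zero (ψ : G → ℂ) (hψ : Cfsg.IsClassFunction G ψ)
    (h : ∀ χ : Cfsg.IrrCharacter G, Cfsg.classInner ψ (χ : G → ℂ) = 0) : ψ = 0 := by
  have h1 : (fun g => conj (ψ g)) = 0 := by
    apply eq_zero_of_forall_irr_sum_eq_zero _ (isClassFunction_conj hψ)
    intro χ
    have h2 := h χ
    have h3 := classInner_conj_symm ψ (χ : G → ℂ)
    rw [h2, map_zero] at h3
    unfold Cfsg.classInner at h3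
    have hG := card_ne_zero_complex G
    have h4 : ∑ g : G, (χ : G → ℂ) g * conj (ψ g) = 0 := by
      rcases mul_eq_zero.mp h3.symm with h5 | h5
      · exact absurd (inv_eq_zero.mp h5) hG
      · exact h5
    rw [← h4]
    apply Finset.sum_congr rfl
    intro g _
    ring
  funext g
  have := congrFun h1 g
  simpa using this

/-- Expansion of a class function in terms of irreducible characters. -/
theorem classFunction_eq_sum [Fintype (Cfsg.IrrCharacter G)] (ψ : G → ℂ)
    (hψ : Cfsg.IsClassFunction G ψ) :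
    ψ = ∑ χ : Cfsg.IrrCharacter G, Cfsg.classInner ψ (χ : G → ℂ) • (χ : G → ℂ) := by
  classical
  have hcf : Cfsg.IsClassFunction G
      (ψ - ∑ χ : Cfsg.IrrCharacter G, Cfsg.classInner ψ (χ : G → ℂ) • (χ : G → ℂ)) := by
    apply isClassFunction_sub hψ
    apply isClassFunction_sum
    intro χ _
    exact isClassFunction_smul _ (IsIrrCharacter.isClassFunction χ.2)
  have := eq_zero_of_classInner_irr_eq_zero _ hcf (by
    intro θ
    rw [classInner_sub_left, classInner_sum_left]
    simp only [classInner_smul_left, classInner_irrCharacter]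
    simp [Finset.sum_ite_eq'])
  exact sub_eq_zero.mp this

end

end Cfsg.Agent.Lib.Helper6
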