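import Mathlib
import Cfsg.Agent.Lib.Helper6.ClassFun

set_option autoImplicit false

namespace Cfsg.Agent.Lib.Helper6

open Module
open scoped ComplexConjugate

section

variable {G : Type*} [Group G]

theorem isClassFunction_iff_isConj {f : G → ℂ} :
    Cfsg.IsClassFunction G f ↔ ∀ g h : G, IsConj g h → f g = f h := by
  constructor
  · intro hf g h hgh
    obtain ⟨c, rfl⟩ := isConj_iff.mp hgh
    exact (hf g c).symm
  · intro hf g h
    exact (hf g (h * g * h⁻¹) (isConj_iff.mpr ⟨h, rfl⟩)).symm

/-- The space of class functions. -/
def classFunctions (G : Type*) [Group G] : Submodule ℂ (G → ℂ) where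
  carrier := {f | Cfsg.IsClassFunction G f}
  add_mem' := fun ha hb => isClassFunction_add ha hb
  zero_mem' := isClassFunction_zero
  smul_mem' := fun c _ hf => isClassFunction_smul c hf

theorem mem_classFunctions {f : G → ℂ} : f ∈ classFunctions G ↔ Cfsg.IsClassFunction G f :=
  Iff.rfl

/-- Class functions are functions on conjugacy classes. -/
theorem comp_mk_mem_classFunctions (φ : ConjClasses G → ℂ) :
    (fun g => φ (ConjClasses.mk g)) ∈ classFunctions G := by
  rw [mem_classFunctions, isClassFunction_iff_isConj]
  intro g h hgh
  rw [ConjClasses.mk_eq_mk_iff_isConj.mpr hgh]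

/-- Linear map from functions on classes to class functions. -/
def classFunctionsMap (G : Type*) [Group G] : (ConjClasses G → ℂ) →ₗ[ℂ] classFunctions G where
  toFun := fun φ => ⟨fun g => φ (ConjClasses.mk g), comp_mk_mem_classFunctions φ⟩
  map_add' := fun _ _ => rfl
  map_smul' := fun _ _ => rfl

noncomputable def classFunctionsEquiv (G : Type*) [Group G] :
    (ConjClasses G → ℂ) ≃ₗ[ℂ] classFunctions G := by
  refine LinearEquiv.ofBijective (classFunctionsMap G) ⟨?_, ?_⟩
  · intro φ ψ h
    funext c
    obtain ⟨g, rfl⟩ := ConjClasses.mk_surjective c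
    exact congrFun (congrArg Subtype.val h) g
  · intro f
    refine ⟨fun c => f.1 (Quotient.out c), ?_⟩
    apply Subtype.ext
    funext g
    have hf := isClassFunction_iff_isConj.mp f.2
    apply hf
    apply ConjClasses.mk_eq_mk_iff_isConj.mp
    exact Quotient.out_eq (ConjClasses.mk g)

variable [Finite G]

theorem finrank_classFunctions : finrank ℂ (classFunctions G) = Nat.card (ConjClasses G) := by
  have : Fintype (ConjClasses G) := Fintype.ofFinite _
  rw [← (classFunctionsEquiv G).finrank_eq, Module.finrank_fintype_fun_eq_card,
    Nat.card_eq_fintype_card]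

/-- Irreducible characters as class functions. -/
def irrAsClassFunction (χ : Cfsg.IrrCharacter G) : classFunctions G :=
  ⟨(χ : G → ℂ), IsIrrCharacter.isClassFunction χ.2⟩

theorem linearIndependent_irrAsClassFunction :
    LinearIndependent ℂ (irrAsClassFunction (G := G)) := by
  have h := linearIndependent_irrCharacter (G := G)
  exact LinearIndependent.of_comp (classFunctions G).subtype h

theorem span_irrAsClassFunction :
    ⊤ ≤ Submodule.span ℂ (Set.range (irrAsClassFunction (G := G))) := by
  classical
  have : Fintype G := Fintype.ofFinite G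
  have : Fintype (Cfsg.IrrCharacter G) := Fintype.ofFinite _
  intro f _
  have h := classFunction_eq_sum f.1 f.2
  have h2 : f = ∑ χ : Cfsg.IrrCharacter G,
      Cfsg.classInner f.1 (χ : G → ℂ) • irrAsClassFunction χ := by
    apply Subtype.ext
    rw [Submodule.coe_sum]
    exact h
  rw [h2]
  apply Submodule.sum_mem
  intro χ _
  apply Submodule.smul_mem
  exact Submodule.subset_span ⟨χ, rfl⟩

/-- The irreducible characters form a basis of the class functions. -/
noncomputable def irrBasis (G : Type*) [Group G] [Finite G] :
    Basis (Cfsg.IrrCharacter G) ℂ (classFunctions G) :=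
  Basis.mk linearIndependent_irrAsClassFunction span_irrAsClassFunction

/-- The number of irreducible characters is the number of conjugacy classes. -/
theorem card_irrCharacter : Nat.card (Cfsg.IrrCharacter G) = Nat.card (ConjClasses G) := by
  rw [← finrank_classFunctions, finrank_eq_nat_card_basis (irrBasis G)]

end

end Cfsg.Agent.Lib.Helper6
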