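import Mathlib
import Cfsg.Agent.Lib.Helper6.ClassCount

set_option autoImplicit false

namespace Cfsg.Agent.Lib.Helper6

open Module
open scoped ComplexConjugate

section

variable {G : Type*} [Group G] [Fintype G]

/-- The character of the regular representation. -/
theorem leftRegular_character [DecidableEq G] (g : G) :
    (Representation.leftRegular ℂ G).character g = if g = 1 then (Nat.card G : ℂ) else 0 := by
  unfold Representation.character
  rw [LinearMap.trace_eq_matrix_trace ℂ (MonoidAlgebra.basis G ℂ), Matrix.trace]
  simp only [Matrix.diag_apply, LinearMap.toMatrix_apply, MonoidAlgebra.basis_apply,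
    Representation.ofMulAction_single, smul_eq_mul]
  split_ifs with h
  · subst h
    simp [MonoidAlgebra.basis, Nat.card_eq_fintype_card]
  · apply Finset.sum_eq_zero
    intro x _
    have : g * x ≠ x := by
      intro h2
      apply h
      exact mul_eq_right.mp h2
    simp [MonoidAlgebra.basis, this]

omit [Fintype G] in
theorem IsCharacter.apply_one_eq_natCast {χ : G → ℂ} (h : Cfsg.IsCharacter G χ) :
    ∃ n : ℕ, χ 1 = n := by
  obtain ⟨n, ρ, rfl⟩ := h
  exact ⟨_, Representation.char_one ρ⟩

theorem classInner_leftRegular (χ : G → ℂ) (hχ : Cfsg.IsCharacter G χ) :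
    Cfsg.classInner (Representation.leftRegular ℂ G).character χ = χ 1 := by
  classical
  obtain ⟨n, hn⟩ := IsCharacter.apply_one_eq_natCast hχ
  unfold Cfsg.classInner
  simp_rw [leftRegular_character]
  simp only [ite_mul, zero_mul, Finset.sum_ite_eq', Finset.mem_univ, if_true]
  rw [hn, Complex.conj_natCast]
  have := card_ne_zero_complex G
  field_simp

/-- The regular character is `∑ χ(1) χ`. -/
theorem leftRegular_character_eq_sum [Fintype (Cfsg.IrrCharacter G)] :
    (Representation.leftRegular ℂ G).character
      = ∑ χ : Cfsg.IrrCharacter G, (χ : G → ℂ) 1 • (χ : G → ℂ) := by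
  have h := classFunction_eq_sum (Representation.leftRegular ℂ G).character
    (IsCharacter.isClassFunction (isCharacter_character _))
  refine h.trans ?_
  apply Finset.sum_congr rfl
  intro χ _
  rw [classInner_leftRegular _ (IsIrrCharacter.isCharacter χ.2)]

/-- Sum of squares of degrees. -/
theorem sum_sq_degree [Fintype (Cfsg.IrrCharacter G)] :
    ∑ χ : Cfsg.IrrCharacter G, (χ : G → ℂ) 1 ^ 2 = (Nat.card G : ℂ) := by
  classical
  have h := congrFun (leftRegular_character_eq_sum (G := G)) 1
  rw [leftRegular_character, if_pos rfl] at h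
  rw [h, Finset.sum_apply]
  apply Finset.sum_congr rfl
  intro χ _
  simp [sq]

end

end Cfsg.Agent.Lib.Helper6
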