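import Mathlib
import Cfsg.Agent.Lib.Helper6.Regular

set_option autoImplicit false

namespace Cfsg.Agent.Lib.Helper6

open Module
open scoped ComplexConjugate

section

variable {G : Type*} [Group G] [Fintype G]

/-- The number of elements conjugating `h` to `g`, as a function of `g`. -/
noncomputable def conjCount (h : G) : G → ℂ :=
  fun g => by classical exact ((Finset.univ.filter (fun y : G => y * h * y⁻¹ = g)).card : ℂ)

theorem conjCount_isClassFunction (h : G) : Cfsg.IsClassFunction G (conjCount h) := by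
  classical
  intro g x
  unfold conjCount
  congr 1
  apply Finset.card_bij (fun y _ => x⁻¹ * y)
  · intro y hy
    simp only [Finset.mem_filter, Finset.mem_univ, true_and] at hy ⊢
    calc x⁻¹ * y * h * (x⁻¹ * y)⁻¹ = x⁻¹ * (y * h * y⁻¹) * x := by group
      _ = x⁻¹ * (x * g * x⁻¹) * x := by rw [hy]
      _ = g := by group
  · intro a _ b _ hab
    exact mul_left_cancel hab
  · intro y hy
    simp only [Finset.mem_filter, Finset.mem_univ, true_and] at hy ⊢
    refine ⟨x * y, ?_, by group⟩
    calc x * y * h * (x * y)⁻¹ = x * (y * h * y⁻¹) * x⁻¹ := by group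
      _ = x * g * x⁻¹ := by rw [hy]

theorem classInner_conjCount (h : G) (χ : G → ℂ) (hχ : Cfsg.IsClassFunction G χ) :
    Cfsg.classInner (conjCount h) χ = conj (χ h) := by
  classical
  unfold Cfsg.classInner conjCount
  have h1 : ∀ g : G, ((Finset.univ.filter (fun y : G => y * h * y⁻¹ = g)).card : ℂ) * conj (χ g)
      = ∑ y : G, if y * h * y⁻¹ = g then conj (χ g) else 0 := by
    intro g
    rw [← Finset.sum_filter, Finset.sum_const, nsmul_eq_mul]
  simp_rw [h1]
  rw [Finset.sum_comm]
  have h2 : ∀ y : G, (∑ g : G, if y * h * y⁻¹ = g then conj (χ g) else 0) = conj (χ h) := by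
    intro y
    rw [Finset.sum_ite_eq, if_pos (Finset.mem_univ _), hχ h y]
  simp_rw [h2]
  rw [Finset.sum_const, Finset.card_univ, nsmul_eq_mul, ← Nat.card_eq_fintype_card]
  have := card_ne_zero_complex G
  field_simp

theorem conjCount_eq_sum [Fintype (Cfsg.IrrCharacter G)] (h g : G) :
    conjCount h g = ∑ χ : Cfsg.IrrCharacter G, (χ : G → ℂ) g * conj ((χ : G → ℂ) h) := by
  have h1 := classFunction_eq_sum (conjCount h) (conjCount_isClassFunction h)
  have h2 := congrFun h1 g
  rw [h2, Finset.sum_apply]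
  apply Finset.sum_congr rfl
  intro χ _
  rw [classInner_conjCount h _ (IsIrrCharacter.isClassFunction χ.2)]
  simp [mul_comm]

theorem conjCount_of_not_isConj {h g : G} (hgh : ¬ IsConj h g) : conjCount h g = 0 := by
  classical
  unfold conjCount
  rw [Nat.cast_eq_zero, Finset.card_eq_zero, Finset.filter_eq_empty_iff]
  intro y _ hy
  exact hgh (isConj_iff.mpr ⟨y, hy⟩)

omit [Fintype G] in
theorem conj_aux (y₀ h g z : G) (hy₀ : y₀ * h * y₀⁻¹ = g) (hz : z * h * z⁻¹ = g) :
    g * (z * y₀⁻¹) = (z * y₀⁻¹) * g := by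
  calc g * (z * y₀⁻¹) = (z * h * z⁻¹) * (z * y₀⁻¹) := by rw [hz]
    _ = z * y₀⁻¹ * (y₀ * h * y₀⁻¹) := by group
    _ = z * y₀⁻¹ * g := by rw [hy₀]

theorem conjCount_of_isConj {h g : G} (hgh : IsConj h g) :
    conjCount h g = (Nat.card (Subgroup.centralizer ({g} : Set G)) : ℂ) := by
  classical
  unfold conjCount
  obtain ⟨y₀, hy₀⟩ := isConj_iff.mp hgh
  congr 1
  rw [← Fintype.card_subtype, ← Nat.card_eq_fintype_card]
  apply Nat.card_congr
  refine
    { toFun := fun y => ⟨(y : G) * y₀⁻¹, ?_⟩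
      invFun := fun c => ⟨(c : G) * y₀, ?_⟩
      left_inv := fun y => by simp
      right_inv := fun c => by simp }
  · rw [Subgroup.mem_centralizer_iff]
    intro x hx
    rw [Set.mem_singleton_iff] at hx
    rw [hx]
    exact conj_aux y₀ h g (y : G) hy₀ y.2
  · have hc := Subgroup.mem_centralizer_iff.mp c.2 g (Set.mem_singleton g)
    calc (c : G) * y₀ * h * ((c : G) * y₀)⁻¹ = (c : G) * (y₀ * h * y₀⁻¹) * (c : G)⁻¹ := by group
      _ = (c : G) * g * (c : G)⁻¹ := by rw [hy₀]
      _ = g * (c : G) * (c : G)⁻¹ := by rw [hc]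
      _ = g := by group

/-- Second orthogonality relation. -/
theorem sum_irr_mul_conj [Fintype (Cfsg.IrrCharacter G)] (g h : G) :
    (IsConj g h → ∑ χ : Cfsg.IrrCharacter G, (χ : G → ℂ) g * conj ((χ : G → ℂ) h)
        = (Nat.card (Subgroup.centralizer ({g} : Set G)) : ℂ)) ∧
    (¬ IsConj g h → ∑ χ : Cfsg.IrrCharacter G, (χ : G → ℂ) g * conj ((χ : G → ℂ) h) = 0) := by
  rw [← conjCount_eq_sum]
  constructor
  · intro hgh
    exact conjCount_of_isConj hgh.symm
  · intro hgh
    exact conjCount_of_not_isConj (fun h' => hgh h'.symm)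

/-- Conjugacy is detected by irreducible characters. -/
theorem isConj_iff_forall_irr (g h : G) :
    IsConj g h ↔ ∀ χ : Cfsg.IrrCharacter G, (χ : G → ℂ) g = (χ : G → ℂ) h := by
  have : Fintype (Cfsg.IrrCharacter G) := Fintype.ofFinite _
  constructor
  · intro hgh χ
    exact isClassFunction_iff_isConj.mp (IsIrrCharacter.isClassFunction χ.2) g h hgh
  · intro hall
    by_contra hne
    have h1 := (sum_irr_mul_conj g h).2 hne
    have h2 := (sum_irr_mul_conj h h).1 (IsConj.refl h)
    have h3 : ∑ χ : Cfsg.IrrCharacter G, (χ : G → ℂ) g * conj ((χ : G → ℂ) h)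
        = ∑ χ : Cfsg.IrrCharacter G, (χ : G → ℂ) h * conj ((χ : G → ℂ) h) := by
      apply Finset.sum_congr rfl
      intro χ _
      rw [hall χ]
    rw [h3, h2] at h1
    exact card_ne_zero_complex _ h1

end

end Cfsg.Agent.Lib.Helper6
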