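import Mathlib
import Cfsg.Agent.Lib.Helper6.SecondOrth

set_option autoImplicit false

namespace Cfsg.Agent.Lib.Helper6

open Module
open scoped ComplexConjugate

section

variable {G : Type*} [Group G] [Fintype G]

theorem card_filter_conj_eq_card_centralizer [DecidableEq G] {h g : G} (hgh : IsConj h g) :
    (Finset.univ.filter (fun y : G => y * h * y⁻¹ = g)).card
      = Nat.card (Subgroup.centralizer ({h} : Set G)) := by
  obtain ⟨y₀, hy₀⟩ := isConj_iff.mp hgh
  rw [← Fintype.card_subtype, ← Nat.card_eq_fintype_card]
  apply Nat.card_congr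
  refine
    { toFun := fun y => ⟨y₀⁻¹ * (y : G), ?_⟩
      invFun := fun c => ⟨y₀ * (c : G), ?_⟩
      left_inv := fun y => by simp
      right_inv := fun c => by simp }
  · rw [Subgroup.mem_centralizer_iff]
    intro x hx
    rw [Set.mem_singleton_iff] at hx
    rw [hx]
    have hy : (y : G) * h * (y : G)⁻¹ = g := y.2
    have h1 : h = y₀⁻¹ * g * y₀ := by rw [← hy₀]; group
    calc h * (y₀⁻¹ * (y : G)) = y₀⁻¹ * g * y₀ * (y₀⁻¹ * (y : G)) := by rw [← h1]
      _ = y₀⁻¹ * g * (y : G) := by group
      _ = y₀⁻¹ * ((y : G) * h * (y : G)⁻¹) * (y : G) := by rw [hy]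
      _ = y₀⁻¹ * (y : G) * h := by group
  · have hc := Subgroup.mem_centralizer_iff.mp c.2 h (Set.mem_singleton h)
    calc y₀ * (c : G) * h * (y₀ * (c : G))⁻¹ = y₀ * ((c : G) * h) * (c : G)⁻¹ * y₀⁻¹ := by group
      _ = y₀ * (h * (c : G)) * (c : G)⁻¹ * y₀⁻¹ := by rw [hc]
      _ = y₀ * h * y₀⁻¹ := by group
      _ = g := hy₀

/-- Orbit-stabilizer for conjugacy classes. -/
theorem card_conj_mul_card_centralizer [DecidableEq G] (g : G) :
    (Finset.univ.filter (fun x : G => IsConj g x)).card
      * Nat.card (Subgroup.centralizer ({g} : Set G)) = Nat.card G := by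
  have h1 : (Finset.univ : Finset G).card
      = ∑ x ∈ Finset.univ.filter (fun x : G => IsConj g x),
        ((Finset.univ : Finset G).filter (fun y : G => y * g * y⁻¹ = x)).card := by
    apply Finset.card_eq_sum_card_fiberwise
    intro y _
    simp only [Finset.coe_filter, Set.mem_ofPred_eq, Finset.mem_univ, true_and]
    exact isConj_iff.mpr ⟨y, rfl⟩
  rw [show Nat.card G = (Finset.univ : Finset G).card from by
    rw [Nat.card_eq_fintype_card, Finset.card_univ], h1]
  rw [Finset.sum_congr rfl (fun x hx => card_filter_conj_eq_card_centralizer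
    (by simpa using hx)), Finset.sum_const, smul_eq_mul]

theorem card_conj_eq_index [DecidableEq G] (g : G) :
    (Finset.univ.filter (fun x : G => IsConj g x)).card
      = (Subgroup.centralizer ({g} : Set G)).index := by
  have h1 := card_conj_mul_card_centralizer g
  have h2 := (Subgroup.centralizer ({g} : Set G)).index_mul_card
  have hpos : 0 < Nat.card (Subgroup.centralizer ({g} : Set G)) := Nat.card_pos
  exact Nat.eq_of_mul_eq_mul_right hpos (h1.trans h2.symm)

/-- The class sum operator of `g`. -/
noncomputable def classOp {V : Type*} [AddCommGroup V] [Module ℂ V] (ρ : Representation ℂ G V)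
    (g : G) : Module.End ℂ V :=
  by classical exact ∑ x ∈ Finset.univ.filter (fun x : G => IsConj g x), ρ x

theorem isIntegral_classOp {V : Type*} [AddCommGroup V] [Module ℂ V] (ρ : Representation ℂ G V)
    (g : G) : IsIntegral ℤ (classOp ρ g) := by
  classical
  let L : MonoidAlgebra ℤ G →ₐ[ℤ] Module.End ℂ V := MonoidAlgebra.lift ℤ (Module.End ℂ V) G ρ
  let z : MonoidAlgebra ℤ G :=
    ∑ x ∈ Finset.univ.filter (fun x : G => IsConj g x), MonoidAlgebra.of ℤ G x
  have hz : L z = classOp ρ g := by
    simp only [z, L, map_sum, MonoidAlgebra.lift_of, classOp]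
  rw [← hz]
  exact IsIntegral.map L (IsIntegral.of_finite ℤ z)

theorem trace_classOp {V : Type*} [AddCommGroup V] [Module ℂ V]
    (ρ : Representation ℂ G V) (g : G) :
    LinearMap.trace ℂ V (classOp ρ g)
      = ((Subgroup.centralizer ({g} : Set G)).index : ℂ) * ρ.character g := by
  classical
  unfold classOp
  rw [map_sum, ← card_conj_eq_index, ← nsmul_eq_mul, ← Finset.sum_const]
  apply Finset.sum_congr rfl
  intro x hx
  have hx' : IsConj g x := by simpa using hx
  obtain ⟨c, rfl⟩ := isConj_iff.mp hx'
  exact Representation.char_conj ρ g c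

theorem classOp_comm {V : Type*} [AddCommGroup V] [Module ℂ V] (ρ : Representation ℂ G V)
    (g h : G) : classOp ρ g ∘ₗ ρ h = ρ h ∘ₗ classOp ρ g := by
  classical
  have : classOp ρ g = opSum ρ (fun x => if IsConj g x then 1 else 0) := by
    unfold classOp opSum
    rw [Finset.sum_filter]
    apply Finset.sum_congr rfl
    intro x _
    by_cases hx : IsConj g x
    · simp only [if_pos hx, one_smul]
    · simp only [if_neg hx, zero_smul]
  rw [this]
  apply opSum_comm
  rw [isClassFunction_iff_isConj]
  intro a b hab
  have : IsConj g a ↔ IsConj g b := ⟨fun h => h.trans hab, fun h => h.trans hab.symm⟩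
  simp only [this]

/-- The central character value is an algebraic integer. -/
theorem isIntegral_centralChar {V : Type*} [AddCommGroup V] [Module ℂ V] [FiniteDimensional ℂ V]
    (ρ : Representation ℂ G V) [ρ.IsIrreducible] (g : G) :
    IsIntegral ℤ (((Subgroup.centralizer ({g} : Set G)).index : ℂ) * ρ.character g
      / (finrank ℂ V : ℂ)) := by
  let T : Representation.IntertwiningMap ρ ρ :=
    { toLinearMap := classOp ρ g
      isIntertwining' := fun h => classOp_comm ρ g h }
  obtain ⟨c, hc⟩ :=
    (Representation.IsIrreducible.algebraMap_intertwiningMap_bijective_of_isAlgClosed (ρ := ρ)).2 T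
  have hT : classOp ρ g = c • LinearMap.id := by
    have := congrArg Representation.IntertwiningMap.toLinearMap hc
    rw [Representation.IntertwiningMap.algebraMap_apply,
      Representation.IntertwiningMap.toLinearMap_smul] at this
    exact this.symm
  have hnt : Nontrivial V := by
    by_contra hV
    rw [not_nontrivial_iff_subsingleton] at hV
    have : (⊥ : Subrepresentation ρ) = ⊤ := by
      apply Subrepresentation.toSubmodule_injective
      exact Subsingleton.elim _ _
    exact bot_ne_top this
  have hpos : (finrank ℂ V : ℂ) ≠ 0 := by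
    exact_mod_cast (Module.finrank_pos (R := ℂ) (M := V)).ne'
  have htr := trace_classOp ρ g
  rw [hT, map_smul, LinearMap.trace_id, smul_eq_mul] at htr
  have hc' : ((Subgroup.centralizer ({g} : Set G)).index : ℂ) * ρ.character g
      / (finrank ℂ V : ℂ) = c := by
    rw [← htr]
    field_simp
  rw [hc']
  have hint := isIntegral_classOp ρ g
  rw [hT] at hint
  have halg : c • (LinearMap.id : V →ₗ[ℂ] V) = algebraMap ℂ (Module.End ℂ V) c := by
    rw [Algebra.algebraMap_eq_smul_one]
    rfl
  rw [halg] at hint
  exact (isIntegral_algebraMap_iff (FaithfulSMul.algebraMap_injective ℂ (Module.End ℂ V))).mp hint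

end

end Cfsg.Agent.Lib.Helper6
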