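import Mathlib
import Cfsg.Agent.Lib.Helper6.ClassSum

set_option autoImplicit false

namespace Cfsg.Agent.Lib.Helper6

open Module
open scoped ComplexConjugate

theorem int_of_isIntegral_ratCast {q : ℚ} (h : IsIntegral ℤ (q : ℂ)) : ∃ m : ℤ, (m : ℚ) = q := by
  have h1 : IsIntegral ℤ q := by
    have : (q : ℂ) = algebraMap ℚ ℂ q := rfl
    rw [this] at h
    exact (isIntegral_algebraMap_iff (algebraMap ℚ ℂ).injective).mp h
  obtain ⟨m, hm⟩ := IsIntegrallyClosed.isIntegral_iff.mp h1
  exact ⟨m, by simpa using hm⟩

theorem nat_dvd_of_isIntegral_div {a b : ℕ} (hb : b ≠ 0) (h : IsIntegral ℤ ((a : ℂ) / (b : ℂ))) :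
    b ∣ a := by
  have h1 : ((a : ℂ) / (b : ℂ)) = (((a : ℚ) / (b : ℚ) : ℚ) : ℂ) := by push_cast; rfl
  rw [h1] at h
  obtain ⟨m, hm⟩ := int_of_isIntegral_ratCast h
  have hb' : (b : ℚ) ≠ 0 := by exact_mod_cast hb
  have h2 : (a : ℚ) = (b : ℚ) * (m : ℚ) := by
    rw [hm]; field_simp
  have h3 : (a : ℤ) = (b : ℤ) * m := by exact_mod_cast h2
  have h4 : (b : ℤ) ∣ (a : ℤ) := ⟨m, h3⟩
  exact Int.natCast_dvd_natCast.mp h4

section

variable {G : Type*} [Group G] [Fintype G]

theorem isIntegral_conj {z : ℂ} (h : IsIntegral ℤ z) : IsIntegral ℤ (conj z) := by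
  have := h.map (Complex.conjAe.toAlgHom.restrictScalars ℤ)
  simpa using this

/-- Sum over the group of a class function, grouped by conjugacy classes. -/
theorem sum_eq_sum_conjClasses [DecidableEq G] [Fintype (ConjClasses G)] (F : G → ℂ)
    (hF : Cfsg.IsClassFunction G F) :
    ∑ g : G, F g = ∑ c : ConjClasses G,
      ((Subgroup.centralizer ({Quotient.out c} : Set G)).index : ℂ) * F (Quotient.out c) := by
  rw [← Finset.sum_fiberwise (Finset.univ : Finset G) (fun g => ConjClasses.mk g) F]
  apply Finset.sum_congr rfl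
  intro c _
  rw [← card_conj_eq_index, ← nsmul_eq_mul, ← Finset.sum_const]
  have hcf := isClassFunction_iff_isConj.mp hF
  have hset : (Finset.univ.filter (fun g : G => ConjClasses.mk g = c))
      = Finset.univ.filter (fun x : G => IsConj (Quotient.out c) x) := by
    ext x
    simp only [Finset.mem_filter, Finset.mem_univ, true_and]
    rw [← ConjClasses.mk_eq_mk_iff_isConj]
    have : ConjClasses.mk (Quotient.out c) = c := Quotient.out_eq c
    rw [this]
    exact eq_comm
  rw [hset]
  apply Finset.sum_congr rfl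
  intro x hx
  have hx' : IsConj (Quotient.out c) x := by simpa using hx
  exact (hcf _ _ hx').symm

/-- The degree of an irreducible representation divides the group order. -/
theorem finrank_dvd_card {V : Type*} [AddCommGroup V] [Module ℂ V] [FiniteDimensional ℂ V]
    (ρ : Representation ℂ G V) [ρ.IsIrreducible] : finrank ℂ V ∣ Nat.card G := by
  classical
  have : Fintype (ConjClasses G) := Fintype.ofFinite _
  have hnt : Nontrivial V := by
    by_contra hV
    rw [not_nontrivial_iff_subsingleton] at hV
    have : (⊥ : Subrepresentation ρ) = ⊤ := by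
      apply Subrepresentation.toSubmodule_injective
      exact Subsingleton.elim _ _
    exact bot_ne_top this
  have hpos : finrank ℂ V ≠ 0 := (Module.finrank_pos (R := ℂ) (M := V)).ne'
  have hposc : (finrank ℂ V : ℂ) ≠ 0 := by exact_mod_cast hpos
  apply nat_dvd_of_isIntegral_div hpos
  have h1 := classInner_irr_self ρ
  unfold Cfsg.classInner at h1
  have hG := card_ne_zero_complex G
  have h2 : ∑ g : G, ρ.character g * conj (ρ.character g) = (Nat.card G : ℂ) := by
    field_simp at h1
    rw [h1]
  have hcf : Cfsg.IsClassFunction G (fun g => ρ.character g * conj (ρ.character g)) := by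
    intro g h
    simp only [Representation.char_conj]
  rw [sum_eq_sum_conjClasses _ hcf] at h2
  rw [← h2, Finset.sum_div]
  apply IsIntegral.sum
  intro c _
  have h3 := isIntegral_centralChar ρ (Quotient.out c)
  have h4 := isIntegral_conj (isIntegral_character ρ (Quotient.out c))
  have := h3.mul h4
  convert this using 1
  ring

end

end Cfsg.Agent.Lib.Helper6
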