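import Mathlib
import Cfsg.Agent.Lib.Helper6.Regular

set_option autoImplicit false

namespace Cfsg.Agent.Lib.Helper6

open Module
open scoped ComplexConjugate

section

variable {G : Type*} [Group G]

/-- One-dimensional representations are irreducible. -/
theorem isIrreducible_of_finrank_eq_one {V : Type*} [AddCommGroup V] [Module ℂ V]
    (ρ : Representation ℂ G V) (h : finrank ℂ V = 1) : ρ.IsIrreducible := by
  have hs : IsSimpleOrder (Submodule ℂ V) := is_simple_module_of_finrank_eq_one h
  have hnt : Nontrivial (Subrepresentation ρ) := by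
    refine ⟨⊥, ⊤, ?_⟩
    intro h'
    have h2 : (⊥ : Submodule ℂ V) = ⊤ := by
      rw [← toSubmodule_bot ρ, ← toSubmodule_top ρ, h']
    exact bot_ne_top h2
  refine ⟨fun W => ?_⟩
  rcases eq_bot_or_eq_top W.toSubmodule with h0 | h0
  · left
    apply Subrepresentation.toSubmodule_injective
    rw [h0, toSubmodule_bot]
  · right
    apply Subrepresentation.toSubmodule_injective
    rw [h0, toSubmodule_top]

theorem trivial_character (g : G) : (Representation.trivial ℂ G ℂ).character g = 1 := by
  simp [Representation.character]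

/-- The principal character is irreducible. -/
theorem isIrrCharacter_one : Cfsg.IsIrrCharacter G (fun _ => (1 : ℂ)) := by
  have : (Representation.trivial ℂ G ℂ).IsIrreducible :=
    isIrreducible_of_finrank_eq_one _ (Module.finrank_self ℂ)
  have h := isIrrCharacter_character (Representation.trivial ℂ G ℂ)
  have h2 : (Representation.trivial ℂ G ℂ).character = fun _ => (1 : ℂ) := by
    funext g; exact trivial_character g
  rwa [h2] at h

/-- A linear character (homomorphism to the units) is an irreducible character. -/
theorem isIrrCharacter_of_hom (lam : G →* ℂˣ) : Cfsg.IsIrrCharacter G (fun g => (lam g : ℂ)) := by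
  let ρ : Representation ℂ G ℂ :=
    { toFun := fun g => (lam g : ℂ) • LinearMap.id
      map_one' := by simp; rfl
      map_mul' := fun g h => by
        ext
        simp [mul_comm] }
  have : ρ.IsIrreducible := isIrreducible_of_finrank_eq_one _ (Module.finrank_self ℂ)
  have h := isIrrCharacter_character ρ
  have h2 : ρ.character = fun g => (lam g : ℂ) := by
    funext g
    simp [Representation.character, ρ]
  rwa [h2] at h

/-- Restriction of a character along a homomorphism is a character. -/
theorem IsCharacter.comp {H : Type*} [Group H] (f : H →* G) {χ : G → ℂ}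
    (hχ : Cfsg.IsCharacter G χ) : Cfsg.IsCharacter H (fun h => χ (f h)) := by
  obtain ⟨n, ρ, rfl⟩ := hχ
  exact ⟨n, ρ.comp f, rfl⟩

theorem IsCharacter.restrict (H : Subgroup G) {χ : G → ℂ}
    (hχ : Cfsg.IsCharacter G χ) : Cfsg.IsCharacter H (fun h : H => χ h) :=
  IsCharacter.comp H.subtype hχ

variable [Fintype G]

/-- Multiplicities of irreducible characters in characters are natural numbers. -/
theorem IsCharacter.classInner_irr_nat {ψ : G → ℂ} (hψ : Cfsg.IsCharacter G ψ)
    {χ : G → ℂ} (hχ : Cfsg.IsIrrCharacter G χ) : ∃ n : ℕ, Cfsg.classInner ψ χ = n := by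
  classical
  have : Fintype (Cfsg.IrrCharacter G) := Fintype.ofFinite _
  obtain ⟨m, hm⟩ := IsCharacter.eq_sum_irr hψ
  refine ⟨m ⟨χ, hχ⟩, ?_⟩
  rw [hm, classInner_sum_left]
  have : ∀ θ : Cfsg.IrrCharacter G, Cfsg.classInner (m θ • (θ : G → ℂ)) χ
      = if θ = ⟨χ, hχ⟩ then (m θ : ℂ) else 0 := by
    intro θ
    rw [← Nat.cast_smul_eq_nsmul ℂ, classInner_smul_left]
    have := classInner_irrCharacter θ ⟨χ, hχ⟩
    simp only at this
    rw [this]
    split_ifs <;> simp
  simp_rw [this]
  simp [Finset.sum_ite_eq']

end

end Cfsg.Agent.Lib.Helper6
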