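import Mathlib

set_option autoImplicit false

namespace Cfsg.Agent.Lib.Helper6

open scoped ComplexConjugate

/-- An algebraic integer which is an average of roots of unity is zero or has norm one. -/
theorem avg_roots_of_unity {ι : Type*} [Fintype ι] (μ : ι → ℂ) (m : ℕ) (hm : 0 < m)
    (hμ : ∀ i, μ i ^ m = 1) (hint : IsIntegral ℤ ((∑ i, μ i) / (Fintype.card ι : ℂ))) :
    (∑ i, μ i) / (Fintype.card ι : ℂ) = 0 ∨ ‖(∑ i, μ i) / (Fintype.card ι : ℂ)‖ = 1 := by
  classical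
  rcases isEmpty_or_nonempty ι with he | hne
  · left; simp
  have hn : (0 : ℝ) < Fintype.card ι := by exact_mod_cast Fintype.card_pos
  have hnc : (Fintype.card ι : ℂ) ≠ 0 := by exact_mod_cast hn.ne'
  set α : ℂ := (∑ i, μ i) / (Fintype.card ι : ℂ) with hα
  -- the field generated by the roots of unity
  have hμint : ∀ x ∈ Set.range μ, IsIntegral ℚ x := by
    rintro x ⟨i, rfl⟩
    exact IsIntegral.of_pow hm (by rw [hμ i]; exact isIntegral_one)
  let K : IntermediateField ℚ ℂ := IntermediateField.adjoin ℚ (Set.range μ)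
  have hfd : FiniteDimensional ℚ K := IntermediateField.finiteDimensional_adjoin hμint
  have hμK : ∀ i, μ i ∈ K := fun i => IntermediateField.subset_adjoin ℚ _ ⟨i, rfl⟩
  let μ' : ι → K := fun i => ⟨μ i, hμK i⟩
  let x : K := (∑ i, μ' i) / (Fintype.card ι : K)
  have hxα : (x : ℂ) = α := by
    simp [x, μ', hα]
  have hxint : IsIntegral ℤ x := by
    have : IsIntegral ℤ (algebraMap K ℂ x) := by
      have h2 : algebraMap K ℂ x = α := hxα
      rw [h2]; exact hint
    exact (isIntegral_algebraMap_iff (algebraMap K ℂ).injective).mp this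
  -- norm as product over embeddings
  have hnorm := Algebra.norm_eq_prod_embeddings ℚ ℂ x
  have hbound : ∀ σ : K →ₐ[ℚ] ℂ, ‖σ x‖ ≤ 1 := by
    intro σ
    have h1 : σ x = (∑ i, σ (μ' i)) / (Fintype.card ι : ℂ) := by
      simp [x, map_div₀, map_sum]
    rw [h1, norm_div, Complex.norm_natCast, div_le_one hn]
    calc ‖∑ i, σ (μ' i)‖ ≤ ∑ i, ‖σ (μ' i)‖ := norm_sum_le _ _
      _ = ∑ _i : ι, (1 : ℝ) := by
        apply Finset.sum_congr rfl
        intro i _
        have h2 : (σ (μ' i)) ^ m = 1 := by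
          rw [← map_pow]
          have : (μ' i) ^ m = 1 := by
            apply Subtype.ext
            simp [μ', hμ i]
          rw [this, map_one]
        have h3 : ‖σ (μ' i)‖ ^ m = 1 := by rw [← norm_pow, h2, norm_one]
        exact (pow_eq_one_iff_of_nonneg (norm_nonneg _) hm.ne').mp h3
      _ = (Fintype.card ι : ℝ) := by simp
  -- the norm is an integer
  have hNint : IsIntegral ℤ (Algebra.norm ℚ x) := Algebra.isIntegral_norm ℚ hxint
  obtain ⟨z, hz⟩ := IsIntegrallyClosed.isIntegral_iff.mp hNint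
  by_cases hlt : ‖α‖ < 1
  · left
    have hprod : ‖∏ σ : K →ₐ[ℚ] ℂ, σ x‖ < 1 := by
      rw [norm_prod]
      have hσ₀ : (K.val : K →ₐ[ℚ] ℂ) ∈ (Finset.univ : Finset (K →ₐ[ℚ] ℂ)) := Finset.mem_univ _
      rw [← Finset.mul_prod_erase Finset.univ (fun σ : K →ₐ[ℚ] ℂ => ‖σ x‖) hσ₀]
      have h1 : ‖(K.val : K →ₐ[ℚ] ℂ) x‖ < 1 := by
        have : (K.val : K →ₐ[ℚ] ℂ) x = α := hxα
        rw [this]; exact hlt
      have h2 : ∏ σ ∈ (Finset.univ : Finset (K →ₐ[ℚ] ℂ)).erase K.val, ‖σ x‖ ≤ 1 := by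
        apply Finset.prod_le_one
        · intro σ _; exact norm_nonneg _
        · intro σ _; exact hbound σ
      calc ‖(K.val : K →ₐ[ℚ] ℂ) x‖ * ∏ σ ∈ (Finset.univ : Finset (K →ₐ[ℚ] ℂ)).erase K.val, ‖σ x‖
          ≤ ‖(K.val : K →ₐ[ℚ] ℂ) x‖ * 1 :=
            mul_le_mul_of_nonneg_left h2 (norm_nonneg _)
        _ < 1 := by rw [mul_one]; exact h1
    rw [← hnorm, ← hz] at hprod
    have hz0 : z = 0 := by
      have h3 : ‖((z : ℚ) : ℂ)‖ < 1 := by simpa using hprod
      have h4 : |(z : ℝ)| < 1 := by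
        simpa [Complex.norm_intCast] using h3
      have h5 : |z| < 1 := by exact_mod_cast h4
      exact Int.abs_lt_one_iff.mp h5
    have hN0 : Algebra.norm ℚ x = 0 := by
      rw [← hz, hz0]; simp
    have hx0 : x = 0 := by
      have : Module.Finite ℚ K := hfd
      exact (Algebra.norm_eq_zero_iff (R := ℚ)).mp hN0
    rw [← hxα, hx0]; simp
  · right
    have hle : ‖α‖ ≤ 1 := by
      have h0 : ‖(K.val : K →ₐ[ℚ] ℂ) x‖ ≤ 1 := hbound K.val
      have h1 : (K.val : K →ₐ[ℚ] ℂ) x = α := hxα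
      calc ‖α‖ = ‖(K.val : K →ₐ[ℚ] ℂ) x‖ := by rw [h1]
        _ ≤ 1 := h0
    exact le_antisymm hle (not_lt.mp hlt)

end Cfsg.Agent.Lib.Helper6
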