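import Mathlib
import Cfsg.Agent.Lib.Helper6.Mult

set_option autoImplicit false

namespace Cfsg.Agent.Lib.Helper6

open Module
open scoped ComplexConjugate

section

variable {G : Type*} [Group G] [Fintype G]

/-- Inner product of two natural combinations of irreducible characters. -/
theorem classInner_sum_irr [Fintype (Cfsg.IrrCharacter G)] (m m' : Cfsg.IrrCharacter G → ℕ) :
    Cfsg.classInner (∑ χ, m χ • (χ : G → ℂ)) (∑ χ, m' χ • (χ : G → ℂ))
      = ((∑ χ, m χ * m' χ : ℕ) : ℂ) := by
  classical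
  rw [classInner_sum_left]
  push_cast
  apply Finset.sum_congr rfl
  intro χ _
  rw [classInner_sum_right, Finset.sum_eq_single χ]
  · rw [← Nat.cast_smul_eq_nsmul ℂ, ← Nat.cast_smul_eq_nsmul ℂ, classInner_smul_left,
      classInner_smul_right, classInner_irrCharacter, if_pos rfl]
    simp
  · intro θ _ hθ
    rw [← Nat.cast_smul_eq_nsmul ℂ, ← Nat.cast_smul_eq_nsmul ℂ, classInner_smul_left,
      classInner_smul_right, classInner_irrCharacter, if_neg (Ne.symm hθ)]
    simp
  · intro h; exact absurd (Finset.mem_univ _) h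

/-- A character of norm one is irreducible. -/
theorem isIrrCharacter_of_classInner_self_eq_one {ψ : G → ℂ} (hψ : Cfsg.IsCharacter G ψ)
    (h : Cfsg.classInner ψ ψ = 1) : Cfsg.IsIrrCharacter G ψ := by
  classical
  have : Fintype (Cfsg.IrrCharacter G) := Fintype.ofFinite _
  obtain ⟨m, hm⟩ := IsCharacter.eq_sum_irr hψ
  rw [hm, classInner_sum_irr] at h
  have hsum : ∑ χ, m χ * m χ = 1 := by exact_mod_cast h
  have hne : ∑ χ, m χ * m χ ≠ 0 := by rw [hsum]; exact one_ne_zero
  obtain ⟨χ₀, _, hχ₀⟩ := Finset.exists_ne_zero_of_sum_ne_zero hne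
  have hle : m χ₀ * m χ₀ ≤ 1 := by
    rw [← hsum]
    exact Finset.single_le_sum (f := fun χ => m χ * m χ) (fun _ _ => Nat.zero_le _)
      (Finset.mem_univ χ₀)
  have hm0 : m χ₀ ≠ 0 := fun h0 => hχ₀ (by simp [h0])
  have hm1 : m χ₀ = 1 := by
    have : m χ₀ ≤ 1 := by nlinarith [Nat.pos_of_ne_zero hm0]
    omega
  have hrest : ∀ χ, χ ≠ χ₀ → m χ = 0 := by
    intro χ hχ
    have h1 := Finset.add_sum_erase Finset.univ (fun χ => m χ * m χ) (Finset.mem_univ χ₀)
    rw [hsum, hm1] at h1
    have h2 : ∑ x ∈ Finset.univ.erase χ₀, m x * m x = 0 := by omega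
    have h3 := (Finset.sum_eq_zero_iff.mp h2) χ (Finset.mem_erase.mpr ⟨hχ, Finset.mem_univ _⟩)
    exact mul_self_eq_zero.mp h3
  have : ψ = (χ₀ : G → ℂ) := by
    rw [hm, Finset.sum_eq_single χ₀]
    · rw [hm1, one_smul]
    · intro χ _ hχ
      rw [hrest χ hχ, zero_smul]
    · intro h; exact absurd (Finset.mem_univ _) h
  rw [this]
  exact χ₀.2

omit [Fintype G] in
/-- The complex conjugate of a character is a character. -/
theorem IsCharacter.conj [Finite G] {χ : G → ℂ} (hχ : Cfsg.IsCharacter G χ) :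
    Cfsg.IsCharacter G (fun g => conj (χ g)) := by
  obtain ⟨n, ρ, rfl⟩ := hχ
  have h := isCharacter_character ρ.dual
  have h2 : ρ.dual.character = fun g => conj (ρ.character g) := by
    funext g
    rw [Representation.char_dual, character_inv]
  rwa [h2] at h

theorem classInner_conj_conj (φ ψ : G → ℂ) :
    Cfsg.classInner (fun g => conj (φ g)) (fun g => conj (ψ g)) = conj (Cfsg.classInner φ ψ) := by
  unfold Cfsg.classInner
  rw [map_mul, map_inv₀, Complex.conj_natCast, map_sum]
  congr 1
  apply Finset.sum_congr rfl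
  intro g _
  rw [map_mul]

/-- The complex conjugate of an irreducible character is irreducible. -/
theorem IsIrrCharacter.conj {χ : G → ℂ} (hχ : Cfsg.IsIrrCharacter G χ) :
    Cfsg.IsIrrCharacter G (fun g => conj (χ g)) := by
  apply isIrrCharacter_of_classInner_self_eq_one (IsCharacter.conj (IsIrrCharacter.isCharacter hχ))
  rw [classInner_conj_conj, classInner_isIrrCharacter hχ hχ, if_pos rfl, map_one]

end

end Cfsg.Agent.Lib.Helper6
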