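import Mathlib
import Cfsg.Agent.Lib.Helper6.Norm
import Cfsg.Agent.Lib.Helper6.Mult

set_option autoImplicit false

namespace Cfsg.Agent.Lib.Helper6

open scoped ComplexConjugate

section

variable {G : Type*} [Group G]

theorem IsCharacter.apply_inv [Finite G] {χ : G → ℂ} (hχ : Cfsg.IsCharacter G χ) (g : G) :
    χ g⁻¹ = conj (χ g) := by
  have : Fintype G := Fintype.ofFinite G
  obtain ⟨n, ρ, rfl⟩ := hχ
  exact character_inv ρ g

/-- Transport of the inner product along a group isomorphism. -/
theorem classInner_comp_mulEquiv {H : Type*} [Group H] [Fintype G] [Fintype H] (α : H ≃* G)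
    (φ ψ : G → ℂ) :
    Cfsg.classInner (fun h => φ (α h)) (fun h => ψ (α h)) = Cfsg.classInner φ ψ := by
  unfold Cfsg.classInner
  rw [Nat.card_congr α.toEquiv]
  congr 1
  exact Fintype.sum_equiv α.toEquiv _ _ (fun _ => rfl)

/-- Composition of an irreducible character with a group isomorphism is irreducible. -/
theorem IsIrrCharacter.comp_mulEquiv {H : Type*} [Group H] [Finite G] [Finite H] (α : H ≃* G)
    {χ : G → ℂ} (hχ : Cfsg.IsIrrCharacter G χ) : Cfsg.IsIrrCharacter H (fun h => χ (α h)) := by
  have : Fintype G := Fintype.ofFinite G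
  have : Fintype H := Fintype.ofFinite H
  apply isIrrCharacter_of_classInner_self_eq_one
    (IsCharacter.comp α.toMonoidHom (IsIrrCharacter.isCharacter hχ))
  have := classInner_comp_mulEquiv α χ χ
  rw [classInner_isIrrCharacter hχ hχ, if_pos rfl] at this
  exact this

end

end Cfsg.Agent.Lib.Helper6
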