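import Cfsg.Agent.Lib.Helper6.IndFun

set_option autoImplicit false

namespace Cfsg.Agent.Lib.Helper6

open scoped ComplexConjugate

variable {G : Type*} [Group G]

/-- The induced function is a class function. -/
theorem indFun_isClassFunction [Fintype G] (H : Subgroup G) (θ : H → ℂ) :
    Cfsg.IsClassFunction G (Cfsg.indFun H θ) := by
  intro g h
  unfold Cfsg.indFun
  congr 1
  refine Fintype.sum_equiv (Equiv.mulLeft h⁻¹) _ _ ?_
  intro x
  simp [mul_assoc]

/-- Induction from a subgroup `N` controlling a TI-set `T`: value at a nonidentity element of `T`. -/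
theorem indFun_eq_of_TI [Fintype G] (N : Subgroup G) (T : Set G)
    (hTI : ∀ g : G, g ∉ N → ∀ t ∈ T, g * t * g⁻¹ ∈ T → t = 1)
    (ψ : N → ℂ) (hψ : Cfsg.IsClassFunction N ψ) (hψT : ∀ x : N, (x : G) ∉ T → ψ x = 0)
    (t : N) (htT : (t : G) ∈ T) (ht1 : t ≠ 1) : Cfsg.indFun N ψ t = ψ t := by
  classical
  have : Fintype N := Fintype.ofFinite N
  have hNc : (Nat.card N : ℂ) ≠ 0 := card_ne_zero_complex N
  have ht1' : (t : G) ≠ 1 := fun h => ht1 (Subtype.ext h)
  have hterm : ∀ x : G, Cfsg.extendByZero N ψ (x⁻¹ * (t : G) * x)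
      = Cfsg.extendByZero N (fun _ => ψ t) x := by
    intro x
    by_cases hx : x ∈ N
    · have hmem : x⁻¹ * (t : G) * x ∈ N := N.mul_mem (N.mul_mem (N.inv_mem hx) t.2) hx
      rw [extendByZero_of_mem _ _ hmem, extendByZero_of_mem _ _ hx]
      have := hψ t (⟨x, hx⟩⁻¹ : N)
      rw [← this]
      congr 1
      apply Subtype.ext
      simp
    · rw [extendByZero_of_not_mem _ _ hx]
      by_cases hmem : x⁻¹ * (t : G) * x ∈ N
      · rw [extendByZero_of_mem _ _ hmem]
        apply hψT
        intro hT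
        have hx' : x⁻¹ ∉ N := fun h => hx (by simpa using N.inv_mem h)
        have := hTI x⁻¹ hx' (t : G) htT (by simpa using hT)
        exact ht1' this
      · exact extendByZero_of_not_mem _ _ hmem
  unfold Cfsg.indFun
  simp_rw [hterm]
  rw [sum_extendByZero]
  simp only [Finset.sum_const, Finset.card_univ, nsmul_eq_mul, ← Nat.card_eq_fintype_card]
  field_simp

end Cfsg.Agent.Lib.Helper6
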