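import Mathlib
import Cfsg.Agent.Lib.Helper6.Norm
import Cfsg.Agent.Lib.Helper6.IndFunTI
import Cfsg.Agent.S0146

set_option autoImplicit false

namespace Cfsg.Agent.Lib.Helper6

open Module
open scoped ComplexConjugate

section

variable {G : Type*} [Group G]

theorem IsCharacter.zero : Cfsg.IsCharacter G (0 : G → ℂ) := by
  refine ⟨0, 1, ?_⟩
  funext g
  simp [Representation.character]

theorem IsCharacter.add {χ ψ : G → ℂ} (hχ : Cfsg.IsCharacter G χ) (hψ : Cfsg.IsCharacter G ψ) :
    Cfsg.IsCharacter G (χ + ψ) := by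
  obtain ⟨n, ρ, rfl⟩ := hχ
  obtain ⟨m, σ, rfl⟩ := hψ
  have h := isCharacter_character (ρ.prod σ)
  have h2 : (ρ.prod σ).character = ρ.character + σ.character := by
    funext g
    exact LinearMap.trace_prodMap' (ρ g) (σ g)
  rwa [h2] at h

theorem IsCharacter.mul {χ ψ : G → ℂ} (hχ : Cfsg.IsCharacter G χ) (hψ : Cfsg.IsCharacter G ψ) :
    Cfsg.IsCharacter G (χ * ψ) := by
  obtain ⟨n, ρ, rfl⟩ := hχ
  obtain ⟨m, σ, rfl⟩ := hψ
  have h := isCharacter_character (ρ.tprod σ)
  rwa [Representation.char_tensor] at h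

theorem IsCharacter.nsmul {χ : G → ℂ} (hχ : Cfsg.IsCharacter G χ) (n : ℕ) :
    Cfsg.IsCharacter G (n • χ) := by
  induction n with
  | zero => rw [zero_smul]; exact IsCharacter.zero
  | succ n ih => rw [succ_nsmul]; exact IsCharacter.add ih hχ

theorem IsCharacter.sum {ι : Type*} (s : Finset ι) (f : ι → G → ℂ)
    (hf : ∀ i ∈ s, Cfsg.IsCharacter G (f i)) : Cfsg.IsCharacter G (∑ i ∈ s, f i) := by
  classical
  induction s using Finset.induction_on with
  | empty => simp only [Finset.sum_empty]; exact IsCharacter.zero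
  | insert a s ha ih =>
    rw [Finset.sum_insert ha]
    exact IsCharacter.add (hf a (Finset.mem_insert_self a s))
      (ih (fun i hi => hf i (Finset.mem_insert_of_mem hi)))

theorem isCharacter_one : Cfsg.IsCharacter G (fun _ => (1 : ℂ)) :=
  IsIrrCharacter.isCharacter isIrrCharacter_one

variable [Fintype G]

/-- The inner product of two characters is a natural number. -/
theorem IsCharacter.classInner_nat {χ ψ : G → ℂ} (hχ : Cfsg.IsCharacter G χ)
    (hψ : Cfsg.IsCharacter G ψ) : ∃ n : ℕ, Cfsg.classInner χ ψ = n := by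
  have : Fintype (Cfsg.IrrCharacter G) := Fintype.ofFinite _
  obtain ⟨m, hm⟩ := IsCharacter.eq_sum_irr hχ
  obtain ⟨m', hm'⟩ := IsCharacter.eq_sum_irr hψ
  exact ⟨_, by rw [hm, hm', classInner_sum_irr]⟩

/-- A class function all of whose inner products with irreducible characters are natural
numbers is a character. -/
theorem isCharacter_of_classInner_nat (ψ : G → ℂ) (hψ : Cfsg.IsClassFunction G ψ)
    (h : ∀ χ : Cfsg.IrrCharacter G, ∃ n : ℕ, Cfsg.classInner ψ (χ : G → ℂ) = n) :
    Cfsg.IsCharacter G ψ := by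
  have : Fintype (Cfsg.IrrCharacter G) := Fintype.ofFinite _
  choose m hm using h
  rw [classFunction_eq_sum ψ hψ]
  apply IsCharacter.sum
  intro χ _
  rw [hm χ, Nat.cast_smul_eq_nsmul]
  exact IsCharacter.nsmul (IsIrrCharacter.isCharacter χ.2) _

/-- Induction of a character gives a character. -/
theorem IsCharacter.indFun (H : Subgroup G) {θ : H → ℂ} (hθ : Cfsg.IsCharacter H θ) :
    Cfsg.IsCharacter G (Cfsg.indFun H θ) := by
  have : Fintype H := Fintype.ofFinite H
  apply isCharacter_of_classInner_nat _ (indFun_isClassFunction H θ)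
  intro χ
  rw [Cfsg.Agent.S0146.result H θ _ (IsIrrCharacter.isClassFunction χ.2)]
  exact IsCharacter.classInner_nat hθ (IsCharacter.restrict H (IsIrrCharacter.isCharacter χ.2))

end

end Cfsg.Agent.Lib.Helper6
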