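import Mathlib
import Cfsg.Agent.Lib.Helper6.CharOps
import Cfsg.Prelude.Def_Blocks

set_option autoImplicit false

namespace Cfsg.Agent.Lib.Helper6

open Module
open scoped ComplexConjugate

section

variable {G : Type*} [Group G]

theorem IsCharacter.apply_one_eq_charDegree {χ : G → ℂ} (h : Cfsg.IsCharacter G χ) :
    χ 1 = (Cfsg.charDegree χ : ℂ) := by
  obtain ⟨n, hn⟩ := IsCharacter.apply_one_eq_natCast h
  unfold Cfsg.charDegree
  rw [hn]
  simp

theorem IsIrrCharacter.apply_one_ne_zero {χ : G → ℂ} (h : Cfsg.IsIrrCharacter G χ) :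
    χ 1 ≠ 0 := by
  obtain ⟨n, ρ, hρ, rfl⟩ := h
  rw [Representation.char_one]
  have hnt : Nontrivial (Fin n → ℂ) := by
    by_contra hV
    rw [not_nontrivial_iff_subsingleton] at hV
    have : (⊥ : Subrepresentation ρ) = ⊤ := by
      apply Subrepresentation.toSubmodule_injective
      exact Subsingleton.elim _ _
    exact bot_ne_top this
  exact_mod_cast (Module.finrank_pos (R := ℂ) (M := Fin n → ℂ)).ne'

theorem IsIrrCharacter.charDegree_pos {χ : G → ℂ} (h : Cfsg.IsIrrCharacter G χ) :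
    0 < Cfsg.charDegree χ := by
  have h1 := IsIrrCharacter.apply_one_ne_zero h
  rw [IsCharacter.apply_one_eq_charDegree (IsIrrCharacter.isCharacter h)] at h1
  exact Nat.pos_of_ne_zero (by exact_mod_cast h1)

theorem indFun_one [Fintype G] (H : Subgroup G) (θ : H → ℂ) :
    Cfsg.indFun H θ 1 = (H.index : ℂ) * θ 1 := by
  have : Fintype H := Fintype.ofFinite H
  unfold Cfsg.indFun
  have h1 : ∀ x : G, Cfsg.extendByZero H θ (x⁻¹ * 1 * x) = θ 1 := by
    intro x
    have : x⁻¹ * 1 * x = ((1 : H) : G) := by simp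
    rw [this, extendByZero_coe]
  simp_rw [h1]
  rw [Finset.sum_const, Finset.card_univ, nsmul_eq_mul, ← Nat.card_eq_fintype_card,
    ← H.index_mul_card]
  have := card_ne_zero_complex H
  push_cast
  field_simp

variable [Fintype G]

/-- Evaluate a natural combination of irreducibles at one. -/
theorem IsCharacter.exists_constituent {ψ : G → ℂ} (hψ : Cfsg.IsCharacter G ψ) (h1 : ψ 1 ≠ 0) :
    ∃ χ : Cfsg.IrrCharacter G, Cfsg.classInner ψ (χ : G → ℂ) ≠ 0 := by
  have : Fintype (Cfsg.IrrCharacter G) := Fintype.ofFinite _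
  by_contra hcon
  push Not at hcon
  apply h1
  have := eq_zero_of_classInner_irr_eq_zero ψ (IsCharacter.isClassFunction hψ) hcon
  rw [this]
  rfl

/-- A constituent has degree at most the degree of the character. -/
theorem IsCharacter.charDegree_le {ψ : G → ℂ} (hψ : Cfsg.IsCharacter G ψ)
    {χ : G → ℂ} (hχ : Cfsg.IsIrrCharacter G χ) (h : Cfsg.classInner ψ χ ≠ 0) :
    Cfsg.charDegree χ ≤ Cfsg.charDegree ψ := by
  classical
  have : Fintype (Cfsg.IrrCharacter G) := Fintype.ofFinite _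
  obtain ⟨m, hm⟩ := IsCharacter.eq_sum_irr hψ
  have hmχ : Cfsg.classInner ψ χ = m ⟨χ, hχ⟩ := by
    have h0 : χ = ∑ θ : Cfsg.IrrCharacter G, (if θ = ⟨χ, hχ⟩ then 1 else 0) • (θ : G → ℂ) := by
      simp [Finset.sum_ite_eq']
    conv_lhs => rw [hm, h0]
    rw [classInner_sum_irr]
    simp [Finset.sum_ite_eq']
  have hm0 : m ⟨χ, hχ⟩ ≠ 0 := by
    intro h0
    apply h
    rw [hmχ, h0]
    simp
  have hdeg : (Cfsg.charDegree ψ : ℂ) = ∑ θ : Cfsg.IrrCharacter G,
      ((m θ * Cfsg.charDegree (θ : G → ℂ) : ℕ) : ℂ) := by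
    rw [← IsCharacter.apply_one_eq_charDegree hψ]
    conv_lhs => rw [hm]
    rw [Finset.sum_apply]
    apply Finset.sum_congr rfl
    intro θ _
    rw [Pi.smul_apply, IsCharacter.apply_one_eq_charDegree (IsIrrCharacter.isCharacter θ.2)]
    simp
  have hdeg' : Cfsg.charDegree ψ = ∑ θ : Cfsg.IrrCharacter G,
      m θ * Cfsg.charDegree (θ : G → ℂ) := by
    exact_mod_cast hdeg
  rw [hdeg']
  calc Cfsg.charDegree χ ≤ m ⟨χ, hχ⟩ * Cfsg.charDegree χ :=
        Nat.le_mul_of_pos_left _ (Nat.pos_of_ne_zero hm0)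
    _ ≤ _ := Finset.single_le_sum (f := fun θ : Cfsg.IrrCharacter G =>
        m θ * Cfsg.charDegree (θ : G → ℂ)) (fun _ _ => Nat.zero_le _)
        (Finset.mem_univ (⟨χ, hχ⟩ : Cfsg.IrrCharacter G))

end

end Cfsg.Agent.Lib.Helper6
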