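import Mathlib
import Cfsg.Agent.Lib.Helper6.Complete

set_option autoImplicit false

namespace Cfsg.Agent.Lib.Helper6

open Module

section

variable {G : Type*} [Group G]

/-- The space of an irreducible representation is nontrivial. -/
theorem nontrivial_of_isIrreducible {V : Type*} [AddCommGroup V] [Module ℂ V]
    (ρ : Representation ℂ G V) [ρ.IsIrreducible] : Nontrivial V := by
  by_contra hV
  rw [not_nontrivial_iff_subsingleton] at hV
  have : (⊥ : Subrepresentation ρ) = ⊤ := by
    apply Subrepresentation.toSubmodule_injective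
    exact Subsingleton.elim _ _
  exact bot_ne_top this

theorem finrank_pos_of_isIrreducible {V : Type*} [AddCommGroup V] [Module ℂ V]
    [FiniteDimensional ℂ V] (ρ : Representation ℂ G V) [ρ.IsIrreducible] : 0 < finrank ℂ V := by
  have := nontrivial_of_isIrreducible ρ
  exact Module.finrank_pos (R := ℂ) (M := V)

/-- Schur's lemma: an endomorphism commuting with an irreducible complex representation is a
scalar. -/
theorem exists_smul_id_of_comm {V : Type*} [AddCommGroup V] [Module ℂ V] [FiniteDimensional ℂ V]
    (ρ : Representation ℂ G V) [ρ.IsIrreducible] (T : Module.End ℂ V)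
    (hT : ∀ g : G, T ∘ₗ ρ g = ρ g ∘ₗ T) : ∃ c : ℂ, T = c • LinearMap.id := by
  let T' : Representation.IntertwiningMap ρ ρ :=
    { toLinearMap := T
      isIntertwining' := fun g => hT g }
  obtain ⟨c, hc⟩ :=
    (Representation.IsIrreducible.algebraMap_intertwiningMap_bijective_of_isAlgClosed (ρ := ρ)).2 T'
  refine ⟨c, ?_⟩
  have := congrArg Representation.IntertwiningMap.toLinearMap hc
  rw [Representation.IntertwiningMap.algebraMap_apply,
    Representation.IntertwiningMap.toLinearMap_smul] at this
  exact this.symm

/-- Schur's lemma with the scalar identified through the trace. -/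
theorem eq_trace_div_smul_id_of_comm {V : Type*} [AddCommGroup V] [Module ℂ V]
    [FiniteDimensional ℂ V]
    (ρ : Representation ℂ G V) [ρ.IsIrreducible] (T : Module.End ℂ V)
    (hT : ∀ g : G, T ∘ₗ ρ g = ρ g ∘ₗ T) :
    T = (LinearMap.trace ℂ V T / (finrank ℂ V : ℂ)) • LinearMap.id := by
  obtain ⟨c, hc⟩ := exists_smul_id_of_comm ρ T hT
  have hpos : (finrank ℂ V : ℂ) ≠ 0 := by
    exact_mod_cast (finrank_pos_of_isIrreducible ρ).ne'
  have htr : LinearMap.trace ℂ V T = c * (finrank ℂ V : ℂ) := by
    rw [hc, map_smul, LinearMap.trace_id, smul_eq_mul]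
  rw [htr, mul_div_assoc, div_self hpos, mul_one]
  exact hc

end

end Cfsg.Agent.Lib.Helper6
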