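import Mathlib
import Cfsg.Agent.Lib.Helper6.Schur
import Cfsg.Agent.Lib.Helper6.CharBasic
import Cfsg.Agent.Lib.Helper6.Orthogonality

set_option autoImplicit false

namespace Cfsg.Agent.Lib.Helper6

open Module
open scoped ComplexConjugate

section

variable {G : Type*} [Group G] [Fintype G]
variable {V : Type*} [AddCommGroup V] [Module ℂ V] [FiniteDimensional ℂ V]

/-- The sum of the conjugates of `ρ b` is a scalar. -/
theorem sum_conj_rep (ρ : Representation ℂ G V) [ρ.IsIrreducible] (b : G) :
    ∑ a : G, ρ (a * b * a⁻¹)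
      = ((Nat.card G : ℂ) * ρ.character b / (finrank ℂ V : ℂ)) • (LinearMap.id : V →ₗ[ℂ] V) := by
  set T : Module.End ℂ V := ∑ a : G, ρ (a * b * a⁻¹) with hT
  have hcomm : ∀ x : G, T * ρ x = ρ x * T := by
    intro x
    rw [hT, Finset.sum_mul, Finset.mul_sum]
    rw [← Equiv.sum_comp (Equiv.mulLeft x) (fun a : G => ρ (a * b * a⁻¹) * ρ x)]
    apply Finset.sum_congr rfl
    intro a _
    rw [← map_mul, ← map_mul]
    congr 1
    simp only [Equiv.coe_mulLeft]
    group
  have h1 := eq_trace_div_smul_id_of_comm ρ T hcomm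
  have htr : LinearMap.trace ℂ V T = (Nat.card G : ℂ) * ρ.character b := by
    rw [hT, map_sum]
    have : ∀ a : G, LinearMap.trace ℂ V (ρ (a * b * a⁻¹)) = ρ.character b := by
      intro a
      exact Representation.char_conj ρ b a
    rw [Finset.sum_congr rfl (fun a _ => this a), Finset.sum_const, nsmul_eq_mul,
      Finset.card_univ, Nat.card_eq_fintype_card]
  rw [htr] at h1
  exact h1

/-- Generalized orthogonality relation. -/
theorem sum_character_conj_mul (ρ : Representation ℂ G V) [ρ.IsIrreducible] (b c : G) :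
    ∑ a : G, ρ.character (a * b * a⁻¹ * c)
      = (Nat.card G : ℂ) * ρ.character b * ρ.character c / (finrank ℂ V : ℂ) := by
  have h1 := sum_conj_rep ρ b
  have h2 : ∑ a : G, ρ.character (a * b * a⁻¹ * c)
      = LinearMap.trace ℂ V ((∑ a : G, ρ (a * b * a⁻¹)) * ρ c) := by
    rw [Finset.sum_mul, map_sum]
    apply Finset.sum_congr rfl
    intro a _
    rw [← map_mul]
    rfl
  rw [h2, h1, smul_mul_assoc, map_smul, smul_eq_mul]
  have : LinearMap.trace ℂ V ((LinearMap.id : V →ₗ[ℂ] V) * ρ c) = ρ.character c := rfl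
  rw [this]
  ring

/-- The sum of the character over all commutators. -/
theorem sum_character_commutator (ρ : Representation ℂ G V) [ρ.IsIrreducible] :
    ∑ b : G, ∑ a : G, ρ.character (a * b * a⁻¹ * b⁻¹)
      = (Nat.card G : ℂ) * (Nat.card G : ℂ) / (finrank ℂ V : ℂ) := by
  have h1 : ∀ b : G, ∑ a : G, ρ.character (a * b * a⁻¹ * b⁻¹)
      = (Nat.card G : ℂ) / (finrank ℂ V : ℂ) * (ρ.character b * conj (ρ.character b)) := by
    intro b
    rw [sum_character_conj_mul, character_inv]
    ring
  rw [Finset.sum_congr rfl (fun b _ => h1 b), ← Finset.mul_sum]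
  have h2 := classInner_irr_self ρ
  unfold Cfsg.classInner at h2
  have hG := card_ne_zero_complex G
  have h3 : ∑ b : G, ρ.character b * conj (ρ.character b) = (Nat.card G : ℂ) := by
    field_simp at h2
    exact h2
  rw [h3]
  ring

end

end Cfsg.Agent.Lib.Helper6
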