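import Mathlib
import Cfsg.Agent.Lib.Helper6.GenOrth
import Cfsg.Agent.Lib.Helper6.ClassSum
import Cfsg.Agent.Lib.Helper6.Constituent
import Cfsg.Agent.Lib.Helper6.Auto

set_option autoImplicit false

namespace Cfsg.Agent.Lib.Helper6

open Module
open scoped ComplexConjugate

section

variable {G : Type*} [Group G] [Fintype G]

/-- Generalized orthogonality for members of `IrrCharacter`. -/
theorem IsIrrCharacter.sum_conj_mul {χ : G → ℂ} (hχ : Cfsg.IsIrrCharacter G χ) (a w : G) :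
    ∑ g : G, χ (g * a * g⁻¹ * w) = (Nat.card G : ℂ) * χ a * χ w / χ 1 := by
  obtain ⟨n, ρ, hirr, rfl⟩ := hχ
  rw [sum_character_conj_mul ρ a w, Representation.char_one]

omit [Fintype G] in
theorem IsIrrCharacter.conj_apply_one {χ : G → ℂ} (hχ : Cfsg.IsIrrCharacter G χ) :
    conj (χ 1) = χ 1 := by
  rw [IsCharacter.apply_one_eq_charDegree (IsIrrCharacter.isCharacter hχ), Complex.conj_natCast]

/-- The regular character detects the identity. -/
theorem sum_irr_apply_mul_apply_one [Fintype (Cfsg.IrrCharacter G)] [DecidableEq G] (w : G) :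
    ∑ χ : Cfsg.IrrCharacter G, (χ : G → ℂ) w * (χ : G → ℂ) 1
      = if w = 1 then (Nat.card G : ℂ) else 0 := by
  have h := sum_irr_mul_conj w (1 : G)
  have h1 : ∀ χ : Cfsg.IrrCharacter G, conj ((χ : G → ℂ) 1) = (χ : G → ℂ) 1 :=
    fun χ => IsIrrCharacter.conj_apply_one χ.2
  simp only [h1] at h
  split_ifs with hw
  · rw [h.1 (by rw [hw])]
    rw [hw]
    congr 1
    have : Subgroup.centralizer ({1} : Set G) = ⊤ := by
      ext x
      simp [Subgroup.mem_centralizer_iff]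
    rw [this, Subgroup.card_top]
  · apply h.2
    intro hc
    rw [isConj_comm, isConj_one_right] at hc
    exact hw hc

/-- The number of pairs `(g, h)` with `g a g⁻¹ * h b h⁻¹ = c`, through the character table. -/
theorem card_conj_mul_conj_eq [Fintype (Cfsg.IrrCharacter G)] [DecidableEq G] (a b c : G) :
    ((Finset.univ.filter (fun p : G × G => p.1 * a * p.1⁻¹ * (p.2 * b * p.2⁻¹) = c)).card : ℂ)
      = (Nat.card G : ℂ) * ∑ χ : Cfsg.IrrCharacter G,
          (χ : G → ℂ) a * (χ : G → ℂ) b * conj ((χ : G → ℂ) c) / (χ : G → ℂ) 1 := by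
  have hG := card_ne_zero_complex G
  have h1 : ((Finset.univ.filter
      (fun p : G × G => p.1 * a * p.1⁻¹ * (p.2 * b * p.2⁻¹) = c)).card : ℂ)
      = ∑ h : G, ∑ g : G, if g * a * g⁻¹ * (h * b * h⁻¹) * c⁻¹ = 1 then (1 : ℂ) else 0 := by
    rw [Finset.card_filter, Nat.cast_sum, Fintype.sum_prod_type, Finset.sum_comm]
    apply Finset.sum_congr rfl
    intro h _
    apply Finset.sum_congr rfl
    intro g _
    have : g * a * g⁻¹ * (h * b * h⁻¹) = c ↔ g * a * g⁻¹ * (h * b * h⁻¹) * c⁻¹ = 1 := by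
      rw [mul_inv_eq_one]
    simp only [this]
    split_ifs <;> simp
  have h2 : ∀ g h : G, (if g * a * g⁻¹ * (h * b * h⁻¹) * c⁻¹ = 1 then (1 : ℂ) else 0)
      = (Nat.card G : ℂ)⁻¹ * ∑ χ : Cfsg.IrrCharacter G,
          (χ : G → ℂ) (g * a * g⁻¹ * (h * b * h⁻¹) * c⁻¹) * (χ : G → ℂ) 1 := by
    intro g h
    rw [sum_irr_apply_mul_apply_one]
    split_ifs
    · rw [inv_mul_cancel₀ hG]
    · rw [mul_zero]
  rw [h1]
  simp only [h2, ← Finset.mul_sum]
  have h3 : ∑ h : G, ∑ g : G, ∑ χ : Cfsg.IrrCharacter G,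
      (χ : G → ℂ) (g * a * g⁻¹ * (h * b * h⁻¹) * c⁻¹) * (χ : G → ℂ) 1
      = ∑ χ : Cfsg.IrrCharacter G, (∑ h : G, ∑ g : G,
          (χ : G → ℂ) (g * a * g⁻¹ * (h * b * h⁻¹) * c⁻¹)) * (χ : G → ℂ) 1 := by
    rw [Finset.sum_congr rfl (fun h _ => Finset.sum_comm), Finset.sum_comm]
    apply Finset.sum_congr rfl
    intro χ _
    rw [Finset.sum_mul]
    apply Finset.sum_congr rfl
    intro h _
    rw [Finset.sum_mul]
  rw [h3]
  have h5 : ∀ χ : Cfsg.IrrCharacter G, (∑ h : G, ∑ g : G,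
      (χ : G → ℂ) (g * a * g⁻¹ * (h * b * h⁻¹) * c⁻¹)) * (χ : G → ℂ) 1
      = (Nat.card G : ℂ) * (Nat.card G : ℂ) *
        ((χ : G → ℂ) a * (χ : G → ℂ) b * conj ((χ : G → ℂ) c) / (χ : G → ℂ) 1) := by
    intro χ
    have h6 : ∀ h : G, ∑ g : G, (χ : G → ℂ) (g * a * g⁻¹ * (h * b * h⁻¹) * c⁻¹)
        = (Nat.card G : ℂ) * (χ : G → ℂ) a * (χ : G → ℂ) (h * b * h⁻¹ * c⁻¹) / (χ : G → ℂ) 1 := by
      intro h
      rw [← IsIrrCharacter.sum_conj_mul χ.2]
      apply Finset.sum_congr rfl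
      intro g _
      group
    rw [Finset.sum_congr rfl (fun h _ => h6 h), ← Finset.sum_div, ← Finset.mul_sum,
      IsIrrCharacter.sum_conj_mul χ.2,
      IsCharacter.apply_inv (IsIrrCharacter.isCharacter χ.2) c]
    have h7 := IsIrrCharacter.apply_one_ne_zero χ.2
    field_simp
  rw [Finset.sum_congr rfl (fun χ _ => h5 χ), ← Finset.mul_sum, ← mul_assoc, ← mul_assoc,
    inv_mul_cancel₀ hG, one_mul]

end

end Cfsg.Agent.Lib.Helper6

namespace Cfsg.Agent.Lib.Helper6

section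

variable {G : Type*} [Group G] [Fintype G]

theorem card_conj_pairs [DecidableEq G] (a b c : G) :
    (Finset.univ.filter (fun p : G × G => p.1 * a * p.1⁻¹ * (p.2 * b * p.2⁻¹) = c)).card
      = Nat.card (Subgroup.centralizer ({a} : Set G)) * Nat.card (Subgroup.centralizer ({b} : Set G))
        * Nat.card {p : G × G // IsConj a p.1 ∧ IsConj b p.2 ∧ p.1 * p.2 = c} := by
  set s := Finset.univ.filter (fun p : G × G => p.1 * a * p.1⁻¹ * (p.2 * b * p.2⁻¹) = c) with hs
  set t := Finset.univ.filter (fun p : G × G => IsConj a p.1 ∧ IsConj b p.2 ∧ p.1 * p.2 = c)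
    with ht
  let f : G × G → G × G := fun p => (p.1 * a * p.1⁻¹, p.2 * b * p.2⁻¹)
  have hmaps : ∀ p ∈ s, f p ∈ t := by
    intro p hp
    simp only [hs, Finset.mem_filter, Finset.mem_univ, true_and] at hp
    simp only [ht, Finset.mem_filter, Finset.mem_univ, true_and, f]
    exact ⟨isConj_iff.mpr ⟨p.1, rfl⟩, isConj_iff.mpr ⟨p.2, rfl⟩, hp⟩
  rw [Finset.card_eq_sum_card_fiberwise hmaps]
  have hfib : ∀ q ∈ t, (s.filter (fun p => f p = q)).card
      = Nat.card (Subgroup.centralizer ({a} : Set G))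
        * Nat.card (Subgroup.centralizer ({b} : Set G)) := by
    intro q hq
    simp only [ht, Finset.mem_filter, Finset.mem_univ, true_and] at hq
    have heq : s.filter (fun p => f p = q)
        = (Finset.univ.filter (fun g : G => g * a * g⁻¹ = q.1)) ×ˢ
          (Finset.univ.filter (fun h : G => h * b * h⁻¹ = q.2)) := by
      ext p
      simp only [hs, Finset.mem_filter, Finset.mem_univ, true_and, Finset.mem_product, f]
      constructor
      · rintro ⟨_, h2⟩
        rw [← h2]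
        exact ⟨rfl, rfl⟩
      · rintro ⟨h1, h2⟩
        refine ⟨?_, Prod.ext h1 h2⟩
        rw [h1, h2]
        exact hq.2.2
    rw [heq, Finset.card_product, card_filter_conj_eq_card_centralizer hq.1,
      card_filter_conj_eq_card_centralizer hq.2.1]
  rw [Finset.sum_congr rfl hfib, Finset.sum_const, smul_eq_mul, mul_comm]
  congr 1
  rw [Nat.card_eq_fintype_card, Fintype.card_subtype]

end

end Cfsg.Agent.Lib.Helper6
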