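import Mathlib
import Cfsg.Prelude.Def_Blocks
import Cfsg.Agent.Lib.Helper6.ClassMult
import Cfsg.Agent.Lib.Helper6.ClassFun
import Cfsg.Agent.Lib.Helper6.Complete
import Cfsg.Agent.Lib.Helper6.Orthogonality

set_option autoImplicit false
set_option linter.unusedSectionVars false
open Cfsg

namespace Cfsg.Agent.Lib.Helper6

open scoped ComplexConjugate

section

variable {G : Type*} [Group G] [Fintype G] [DecidableEq G]

/-- invariance under simultaneous right translation -/
def RInv (X : Matrix G G ℂ) : Prop := ∀ r s t : G, X (s * r) (t * r) = X s t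

/-- invariance under simultaneous left translation -/
def LInv (X : Matrix G G ℂ) : Prop := ∀ r s t : G, X (r * s) (r * t) = X s t

theorem rInv_zero : RInv (0 : Matrix G G ℂ) := fun _ _ _ => rfl
theorem lInv_zero : LInv (0 : Matrix G G ℂ) := fun _ _ _ => rfl

theorem rInv_one : RInv (1 : Matrix G G ℂ) := by
  intro r s t
  simp [Matrix.one_apply]

theorem lInv_one : LInv (1 : Matrix G G ℂ) := by
  intro r s t
  simp [Matrix.one_apply]

theorem RInv.add {X Y : Matrix G G ℂ} (hX : RInv X) (hY : RInv Y) : RInv (X + Y) := by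
  intro r s t
  simp [Matrix.add_apply, hX r s t, hY r s t]

theorem LInv.add {X Y : Matrix G G ℂ} (hX : LInv X) (hY : LInv Y) : LInv (X + Y) := by
  intro r s t
  simp [Matrix.add_apply, hX r s t, hY r s t]

theorem RInv.smul (c : ℂ) {X : Matrix G G ℂ} (hX : RInv X) : RInv (c • X) := by
  intro r s t
  simp [Matrix.smul_apply, hX r s t]

theorem LInv.smul (c : ℂ) {X : Matrix G G ℂ} (hX : LInv X) : LInv (c • X) := by
  intro r s t
  simp [Matrix.smul_apply, hX r s t]

theorem RInv.mul {X Y : Matrix G G ℂ} (hX : RInv X) (hY : RInv Y) : RInv (X * Y) := by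
  intro r s t
  rw [Matrix.mul_apply, Matrix.mul_apply]
  rw [← Equiv.sum_comp (Equiv.mulRight r) (fun k => X (s * r) k * Y k (t * r))]
  apply Finset.sum_congr rfl
  intro k _
  simp only [Equiv.coe_mulRight]
  rw [hX r s k, hY r k t]

theorem LInv.mul {X Y : Matrix G G ℂ} (hX : LInv X) (hY : LInv Y) : LInv (X * Y) := by
  intro r s t
  rw [Matrix.mul_apply, Matrix.mul_apply]
  rw [← Equiv.sum_comp (Equiv.mulLeft r) (fun k => X (r * s) k * Y k (r * t))]
  apply Finset.sum_congr rfl
  intro k _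
  simp only [Equiv.coe_mulLeft]
  rw [hX r s k, hY r k t]

/-- the algebra of right-invariant matrices (the group algebra acting from the left) -/
def rInvAlg (G : Type*) [Group G] [Fintype G] [DecidableEq G] : Subalgebra ℂ (Matrix G G ℂ) where
  carrier := {X | RInv X}
  mul_mem' := fun ha hb => RInv.mul ha hb
  one_mem' := rInv_one
  add_mem' := fun ha hb => RInv.add ha hb
  zero_mem' := rInv_zero
  algebraMap_mem' := fun c => by
    rw [Algebra.algebraMap_eq_smul_one]
    exact RInv.smul c rInv_one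

/-- the algebra of bi-invariant matrices (the centre of the group algebra) -/
def centerAlg (G : Type*) [Group G] [Fintype G] [DecidableEq G] : Subalgebra ℂ (Matrix G G ℂ) where
  carrier := {X | RInv X ∧ LInv X}
  mul_mem' := fun ha hb => ⟨RInv.mul ha.1 hb.1, LInv.mul ha.2 hb.2⟩
  one_mem' := ⟨rInv_one, lInv_one⟩
  add_mem' := fun ha hb => ⟨RInv.add ha.1 hb.1, LInv.add ha.2 hb.2⟩
  zero_mem' := ⟨rInv_zero, lInv_zero⟩
  algebraMap_mem' := fun c => by
    rw [Algebra.algebraMap_eq_smul_one]
    exact ⟨RInv.smul c rInv_one, LInv.smul c lInv_one⟩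

theorem mem_rInvAlg (X : Matrix G G ℂ) : X ∈ rInvAlg G ↔ RInv X := Iff.rfl

theorem mem_centerAlg (X : Matrix G G ℂ) : X ∈ centerAlg G ↔ RInv X ∧ LInv X := Iff.rfl

/-- the matrix of left convolution with a function -/
def regMat (a : G → ℂ) : Matrix G G ℂ := fun s t => a (s * t⁻¹)

theorem regMat_apply (a : G → ℂ) (s t : G) : regMat a s t = a (s * t⁻¹) := rfl

theorem regMat_rInv (a : G → ℂ) : RInv (regMat a) := by
  intro r s t
  simp only [regMat_apply]
  congr 1
  group

theorem regMat_lInv {a : G → ℂ} (ha : Cfsg.IsClassFunction G a) : LInv (regMat a) := by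
  intro r s t
  simp only [regMat_apply]
  have h := ha (s * t⁻¹) r
  rw [← h]
  congr 1
  group

theorem regMat_mem_centerAlg {a : G → ℂ} (ha : Cfsg.IsClassFunction G a) :
    regMat a ∈ centerAlg G := ⟨regMat_rInv a, regMat_lInv ha⟩

theorem RInv.apply_eq {X : Matrix G G ℂ} (hX : RInv X) (s t : G) : X s t = X (s * t⁻¹) 1 := by
  have := hX t (s * t⁻¹) 1
  rw [← this]
  congr 1 <;> group

theorem RInv.eq_regMat {X : Matrix G G ℂ} (hX : RInv X) : X = regMat (fun g => X g 1) := by
  ext s t
  rw [regMat_apply]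
  exact hX.apply_eq s t

theorem isClassFunction_of_mem_centerAlg {X : Matrix G G ℂ} (hX : X ∈ centerAlg G) :
    Cfsg.IsClassFunction G (fun g => X g 1) := by
  intro g h
  change X (h * g * h⁻¹) 1 = X g 1
  have h1 := hX.2 h (g * h⁻¹) h⁻¹
  have h2 := hX.1 h⁻¹ g 1
  have e1 : h * (g * h⁻¹) = h * g * h⁻¹ := by group
  have e2 : h * h⁻¹ = 1 := by group
  rw [e1, e2] at h1
  rw [h1]
  rw [one_mul] at h2
  exact h2

theorem regMat_add (a b : G → ℂ) : regMat (a + b) = regMat a + regMat b := by
  ext s t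
  simp [regMat_apply, Matrix.add_apply]

theorem regMat_smul (c : ℂ) (a : G → ℂ) : regMat (c • a) = c • regMat a := by
  ext s t
  simp [regMat_apply, Matrix.smul_apply]

theorem regMat_sum {ι : Type*} (s : Finset ι) (f : ι → G → ℂ) :
    regMat (∑ i ∈ s, f i) = ∑ i ∈ s, regMat (f i) := by
  ext x y
  simp [regMat_apply, Matrix.sum_apply]

theorem regMat_injective : Function.Injective (regMat : (G → ℂ) → Matrix G G ℂ) := by
  intro a b h
  funext g
  have := congrFun (congrFun h g) 1
  simpa [regMat_apply] using this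

/-- evaluation of the central character `χ` on a matrix (through its first column) -/
noncomputable def cOmega (χ : G → ℂ) (X : Matrix G G ℂ) : ℂ := (∑ g : G, X g 1 * χ g) / χ 1

theorem cOmega_add (χ : G → ℂ) (X Y : Matrix G G ℂ) :
    cOmega χ (X + Y) = cOmega χ X + cOmega χ Y := by
  unfold cOmega
  rw [← add_div, ← Finset.sum_add_distrib]
  congr 1
  apply Finset.sum_congr rfl
  intro g _
  rw [Matrix.add_apply]
  ring

theorem cOmega_smul (χ : G → ℂ) (c : ℂ) (X : Matrix G G ℂ) :
    cOmega χ (c • X) = c * cOmega χ X := by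
  unfold cOmega
  rw [← mul_div_assoc, Finset.mul_sum]
  congr 1
  apply Finset.sum_congr rfl
  intro g _
  rw [Matrix.smul_apply, smul_eq_mul]
  ring

theorem cOmega_one {χ : G → ℂ} (hχ : χ 1 ≠ 0) : cOmega χ (1 : Matrix G G ℂ) = 1 := by
  unfold cOmega
  have : ∑ g : G, (1 : Matrix G G ℂ) g 1 * χ g = χ 1 := by
    rw [Finset.sum_eq_single (1 : G)]
    · simp
    · intro g _ hg
      simp [Matrix.one_apply, hg]
    · intro h
      exact absurd (Finset.mem_univ _) h
  rw [this, div_self hχ]

theorem cOmega_regMat (χ a : G → ℂ) : cOmega χ (regMat a) = (∑ g : G, a g * χ g) / χ 1 := by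
  unfold cOmega
  simp [regMat_apply]

/-- shifting a character against a class function -/
theorem sum_classFunction_mul_shift {χ : G → ℂ} (hχ : Cfsg.IsIrrCharacter G χ) {x : G → ℂ}
    (hx : Cfsg.IsClassFunction G x) (k : G) :
    ∑ h : G, x h * χ (h * k) = (∑ h : G, x h * χ h) * χ k / χ 1 := by
  have hG := card_ne_zero_complex G
  have h1 : ∀ g : G, ∑ h : G, x h * χ (h * k) = ∑ h : G, x h * χ (g * h * g⁻¹ * k) := by
    intro g
    rw [← Equiv.sum_comp (MulAut.conj g).toEquiv (fun h => x h * χ (h * k))]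
    apply Finset.sum_congr rfl
    intro h _
    simp only [MulEquiv.toEquiv_eq_coe, EquivLike.coe_coe, MulAut.conj_apply]
    rw [hx h g]
  have h2 : (Nat.card G : ℂ) * ∑ h : G, x h * χ (h * k)
      = ∑ g : G, ∑ h : G, x h * χ (g * h * g⁻¹ * k) := by
    rw [Nat.card_eq_fintype_card, ← nsmul_eq_mul, ← Finset.card_univ (α := G),
      ← Finset.sum_const]
    apply Finset.sum_congr rfl
    intro g _
    exact h1 g
  rw [Finset.sum_comm] at h2
  have h3 : ∀ h : G, ∑ g : G, x h * χ (g * h * g⁻¹ * k)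
      = x h * ((Nat.card G : ℂ) * χ h * χ k / χ 1) := by
    intro h
    rw [← Finset.mul_sum, IsIrrCharacter.sum_conj_mul hχ h k]
  simp only [h3] at h2
  have h4 : (Nat.card G : ℂ) * ∑ h : G, x h * χ (h * k)
      = (Nat.card G : ℂ) * ((∑ h : G, x h * χ h) * χ k / χ 1) := by
    rw [h2, Finset.sum_mul, Finset.sum_div, Finset.mul_sum]
    apply Finset.sum_congr rfl
    intro h _
    ring
  exact mul_left_cancel₀ hG h4

theorem cOmega_mul {χ : G → ℂ} (hχ : Cfsg.IsIrrCharacter G χ) {X Y : Matrix G G ℂ}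
    (hX : X ∈ centerAlg G) (_hY : RInv Y) : cOmega χ (X * Y) = cOmega χ X * cOmega χ Y := by
  have hχ1 := IsIrrCharacter.apply_one_ne_zero hχ
  unfold cOmega
  have hcf := isClassFunction_of_mem_centerAlg hX
  have h1 : ∑ g : G, (X * Y) g 1 * χ g
      = ∑ k : G, Y k 1 * ∑ h : G, X h 1 * χ (h * k) := by
    simp only [Matrix.mul_apply, Finset.sum_mul, Finset.mul_sum]
    rw [Finset.sum_comm]
    apply Finset.sum_congr rfl
    intro k _
    rw [← Equiv.sum_comp (Equiv.mulRight k) (fun g => X g k * Y k 1 * χ g)]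
    apply Finset.sum_congr rfl
    intro h _
    simp only [Equiv.coe_mulRight]
    have := hX.1.apply_eq (h * k) k
    rw [this]
    have e : h * k * k⁻¹ = h := by group
    rw [e]
    ring
  rw [h1]
  have h2 : ∀ k : G, Y k 1 * ∑ h : G, X h 1 * χ (h * k)
      = (∑ h : G, X h 1 * χ h) / χ 1 * (Y k 1 * χ k) := by
    intro k
    rw [sum_classFunction_mul_shift hχ hcf k]
    ring
  simp only [h2]
  rw [← Finset.mul_sum]
  ring

/-- the central character as an algebra homomorphism on the centre -/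
noncomputable def cOmegaHom {χ : G → ℂ} (hχ : Cfsg.IsIrrCharacter G χ) : centerAlg G →ₐ[ℂ] ℂ where
  toFun := fun X => cOmega χ (X : Matrix G G ℂ)
  map_one' := by
    change cOmega χ (1 : Matrix G G ℂ) = 1
    exact cOmega_one (IsIrrCharacter.apply_one_ne_zero hχ)
  map_mul' := fun X Y => by
    change cOmega χ ((X : Matrix G G ℂ) * (Y : Matrix G G ℂ)) = _
    exact cOmega_mul hχ X.2 Y.2.1
  map_zero' := by
    change cOmega χ (0 : Matrix G G ℂ) = 0
    unfold cOmega
    simp
  map_add' := fun X Y => by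
    change cOmega χ ((X : Matrix G G ℂ) + (Y : Matrix G G ℂ)) = _
    exact cOmega_add χ _ _
  commutes' := fun c => by
    change cOmega χ (algebraMap ℂ (Matrix G G ℂ) c) = c
    rw [Algebra.algebraMap_eq_smul_one, cOmega_smul,
      cOmega_one (IsIrrCharacter.apply_one_ne_zero hχ), mul_one]

theorem cOmegaHom_apply {χ : G → ℂ} (hχ : Cfsg.IsIrrCharacter G χ) (X : centerAlg G) :
    cOmegaHom hχ X = cOmega χ (X : Matrix G G ℂ) := rfl

/-- a central matrix killed by all central characters vanishes -/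
theorem eq_zero_of_cOmega_eq_zero {X : Matrix G G ℂ} (hX : X ∈ centerAlg G)
    (h : ∀ χ : Cfsg.IrrCharacter G, cOmega (χ : G → ℂ) X = 0) : X = 0 := by
  have hcf := isClassFunction_of_mem_centerAlg hX
  have h0 : (fun g => X g 1) = 0 := by
    apply eq_zero_of_forall_irr_sum_eq_zero _ hcf
    intro χ
    have h1 := h χ
    unfold cOmega at h1
    have hχ1 := IsIrrCharacter.apply_one_ne_zero χ.2
    rcases div_eq_zero_iff.mp h1 with h2 | h2
    · exact h2
    · exact absurd h2 hχ1
  rw [hX.1.eq_regMat, h0]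
  ext s t
  simp [regMat_apply]

theorem eq_of_cOmega_eq {X Y : Matrix G G ℂ} (hX : X ∈ centerAlg G) (hY : Y ∈ centerAlg G)
    (h : ∀ χ : Cfsg.IrrCharacter G, cOmega (χ : G → ℂ) X = cOmega (χ : G → ℂ) Y) : X = Y := by
  have h1 : X - Y ∈ centerAlg G := (centerAlg G).sub_mem hX hY
  have h2 : X - Y = 0 := by
    apply eq_zero_of_cOmega_eq_zero h1
    intro χ
    have h3 : cOmega (χ : G → ℂ) (X - Y) = cOmega (χ : G → ℂ) X - cOmega (χ : G → ℂ) Y := by
      have := map_sub (cOmegaHom χ.2) ⟨X, hX⟩ ⟨Y, hY⟩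
      exact this
    rw [h3, h χ, sub_self]
  exact sub_eq_zero.mp h2

/-- the coefficient function of the primitive central idempotent of `χ` -/
noncomputable def idemFun (χ : G → ℂ) : G → ℂ := fun g => (Nat.card G : ℂ)⁻¹ * (χ 1 * conj (χ g))

theorem idemFun_isClassFunction {χ : G → ℂ} (hχ : Cfsg.IsClassFunction G χ) :
    Cfsg.IsClassFunction G (idemFun χ) := by
  intro g h
  unfold idemFun
  rw [hχ g h]

theorem cOmega_idem (χ ψ : Cfsg.IrrCharacter G) :
    cOmega (ψ : G → ℂ) (regMat (idemFun (χ : G → ℂ))) = if χ = ψ then 1 else 0 := by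
  rw [cOmega_regMat]
  have hψ1 := IsIrrCharacter.apply_one_ne_zero ψ.2
  have h1 : ∑ g : G, idemFun (χ : G → ℂ) g * (ψ : G → ℂ) g
      = (χ : G → ℂ) 1 * Cfsg.classInner (ψ : G → ℂ) (χ : G → ℂ) := by
    unfold Cfsg.classInner idemFun
    rw [Finset.mul_sum, Finset.mul_sum]
    apply Finset.sum_congr rfl
    intro g _
    ring
  rw [h1, classInner_irrCharacter]
  split_ifs with h2 h3 h3
  · rw [h3, mul_one, div_self hψ1]
  · exact absurd h2.symm h3
  · exact absurd h3.symm h2
  · simp

/-- the class indicator function of `g` -/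
noncomputable def classInd (g : G) : G → ℂ := fun x => by classical exact if IsConj g x then 1 else 0

theorem classInd_isClassFunction (g : G) : Cfsg.IsClassFunction G (classInd g) := by
  classical
  intro x h
  unfold classInd
  have : IsConj g (h * x * h⁻¹) ↔ IsConj g x := by
    constructor
    · intro h1
      exact h1.trans (isConj_iff.mpr ⟨h⁻¹, by group⟩)
    · intro h1
      exact h1.trans (isConj_iff.mpr ⟨h, rfl⟩)
  simp only [this]

theorem cOmega_classInd (χ : G → ℂ) (hχ : Cfsg.IsClassFunction G χ) (g : G) :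
    cOmega χ (regMat (classInd g)) = Cfsg.centralChar χ g := by
  classical
  rw [cOmega_regMat]
  unfold Cfsg.centralChar classInd
  congr 1
  have h1 : ∑ x : G, (if IsConj g x then (1 : ℂ) else 0) * χ x
      = ∑ x ∈ Finset.univ.filter (fun x : G => IsConj g x), χ g := by
    rw [Finset.sum_filter]
    apply Finset.sum_congr rfl
    intro x _
    split_ifs with h
    · obtain ⟨c, hc⟩ := isConj_iff.mp h
      rw [one_mul, ← hc, hχ g c]
    · rw [zero_mul]
  rw [h1, Finset.sum_const, card_conj_eq_index, nsmul_eq_mul]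

end

end Cfsg.Agent.Lib.Helper6
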