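import Mathlib
import Cfsg.Prelude.Def_Blocks

set_option autoImplicit false
open Cfsg

namespace Cfsg.Agent.Lib.Helper6

variable {p : ℕ} {M : Ideal Cfsg.AlgInt}

theorem IsPModular.isPrime (hM : Cfsg.IsPModular p M) : M.IsPrime := hM.2.1.isPrime

theorem IsPModular.ne_top (hM : Cfsg.IsPModular p M) : M ≠ ⊤ := hM.2.1.ne_top

theorem IsPModular.one_notMem (hM : Cfsg.IsPModular p M) : (1 : Cfsg.AlgInt) ∉ M :=
  (Ideal.ne_top_iff_one M).mp (IsPModular.ne_top hM)

theorem IsPModular.mul_notMem (hM : Cfsg.IsPModular p M) {a b : Cfsg.AlgInt} (ha : a ∉ M)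
    (hb : b ∉ M) : a * b ∉ M := by
  intro h
  rcases (IsPModular.isPrime hM).mem_or_mem h with h | h
  · exact ha h
  · exact hb h

theorem coe_ne_zero_of_notMem {b : Cfsg.AlgInt} (hb : b ∉ M) : (b : ℂ) ≠ 0 := by
  intro h
  apply hb
  have : b = 0 := by
    apply Subtype.ext
    exact h
  rw [this]
  exact M.zero_mem

theorem memLocalRing_coe (hM : Cfsg.IsPModular p M) (a : Cfsg.AlgInt) :
    Cfsg.MemLocalRing M (a : ℂ) :=
  ⟨a, 1, IsPModular.one_notMem hM, by simp⟩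

theorem memLocalRing_of_isIntegral (hM : Cfsg.IsPModular p M) {z : ℂ} (hz : IsIntegral ℤ z) :
    Cfsg.MemLocalRing M z :=
  memLocalRing_coe hM ⟨z, hz⟩

theorem memLocalRing_zero (hM : Cfsg.IsPModular p M) : Cfsg.MemLocalRing M 0 := by
  have := memLocalRing_coe hM 0
  simpa using this

theorem memLocalRing_one (hM : Cfsg.IsPModular p M) : Cfsg.MemLocalRing M 1 := by
  have := memLocalRing_coe hM 1
  simpa using this

theorem memLocalRing_natCast (hM : Cfsg.IsPModular p M) (n : ℕ) : Cfsg.MemLocalRing M (n : ℂ) := by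
  have := memLocalRing_coe hM (n : Cfsg.AlgInt)
  simpa using this

theorem memLocalRing_intCast (hM : Cfsg.IsPModular p M) (n : ℤ) : Cfsg.MemLocalRing M (n : ℂ) := by
  have := memLocalRing_coe hM (n : Cfsg.AlgInt)
  simpa using this

theorem MemLocalRing.add (hM : Cfsg.IsPModular p M) {z w : ℂ} (hz : Cfsg.MemLocalRing M z)
    (hw : Cfsg.MemLocalRing M w) : Cfsg.MemLocalRing M (z + w) := by
  obtain ⟨a, b, hb, rfl⟩ := hz
  obtain ⟨c, d, hd, rfl⟩ := hw
  refine ⟨a * d + c * b, b * d, IsPModular.mul_notMem hM hb hd, ?_⟩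
  have hb0 := coe_ne_zero_of_notMem hb
  have hd0 := coe_ne_zero_of_notMem hd
  push_cast
  field_simp

theorem MemLocalRing.mul (hM : Cfsg.IsPModular p M) {z w : ℂ} (hz : Cfsg.MemLocalRing M z)
    (hw : Cfsg.MemLocalRing M w) : Cfsg.MemLocalRing M (z * w) := by
  obtain ⟨a, b, hb, rfl⟩ := hz
  obtain ⟨c, d, hd, rfl⟩ := hw
  refine ⟨a * c, b * d, IsPModular.mul_notMem hM hb hd, ?_⟩
  have hb0 := coe_ne_zero_of_notMem hb
  have hd0 := coe_ne_zero_of_notMem hd
  push_cast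
  field_simp

theorem MemLocalRing.neg {z : ℂ} (hz : Cfsg.MemLocalRing M z) : Cfsg.MemLocalRing M (-z) := by
  obtain ⟨a, b, hb, rfl⟩ := hz
  refine ⟨-a, b, hb, ?_⟩
  push_cast
  ring

theorem MemLocalRing.sub (hM : Cfsg.IsPModular p M) {z w : ℂ} (hz : Cfsg.MemLocalRing M z)
    (hw : Cfsg.MemLocalRing M w) : Cfsg.MemLocalRing M (z - w) := by
  rw [sub_eq_add_neg]
  exact MemLocalRing.add hM hz (MemLocalRing.neg hw)

theorem MemLocalRing.sum (hM : Cfsg.IsPModular p M) {ι : Type*} (s : Finset ι) (f : ι → ℂ)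
    (hf : ∀ i ∈ s, Cfsg.MemLocalRing M (f i)) : Cfsg.MemLocalRing M (∑ i ∈ s, f i) := by
  classical
  induction s using Finset.induction_on with
  | empty => simpa using memLocalRing_zero hM
  | insert a s ha ih =>
    rw [Finset.sum_insert ha]
    exact MemLocalRing.add hM (hf a (Finset.mem_insert_self a s))
      (ih (fun i hi => hf i (Finset.mem_insert_of_mem hi)))

theorem MemLocalRing.prod (hM : Cfsg.IsPModular p M) {ι : Type*} (s : Finset ι) (f : ι → ℂ)
    (hf : ∀ i ∈ s, Cfsg.MemLocalRing M (f i)) : Cfsg.MemLocalRing M (∏ i ∈ s, f i) := by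
  classical
  induction s using Finset.induction_on with
  | empty => simpa using memLocalRing_one hM
  | insert a s ha ih =>
    rw [Finset.prod_insert ha]
    exact MemLocalRing.mul hM (hf a (Finset.mem_insert_self a s))
      (ih (fun i hi => hf i (Finset.mem_insert_of_mem hi)))

theorem MemLocalRing.pow (hM : Cfsg.IsPModular p M) {z : ℂ} (hz : Cfsg.MemLocalRing M z) (n : ℕ) :
    Cfsg.MemLocalRing M (z ^ n) := by
  induction n with
  | zero => simpa using memLocalRing_one hM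
  | succ n ih =>
    rw [pow_succ]
    exact MemLocalRing.mul hM ih hz

theorem MemLocalIdeal.memLocalRing {z : ℂ} (hz : Cfsg.MemLocalIdeal M z) :
    Cfsg.MemLocalRing M z := by
  obtain ⟨a, b, _, hb, rfl⟩ := hz
  exact ⟨a, b, hb, rfl⟩

theorem memLocalIdeal_zero (hM : Cfsg.IsPModular p M) : Cfsg.MemLocalIdeal M 0 :=
  ⟨0, 1, M.zero_mem, IsPModular.one_notMem hM, by simp⟩

theorem memLocalIdeal_coe (hM : Cfsg.IsPModular p M) {a : Cfsg.AlgInt} (ha : a ∈ M) :
    Cfsg.MemLocalIdeal M (a : ℂ) :=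
  ⟨a, 1, ha, IsPModular.one_notMem hM, by simp⟩

theorem MemLocalIdeal.add (hM : Cfsg.IsPModular p M) {z w : ℂ} (hz : Cfsg.MemLocalIdeal M z)
    (hw : Cfsg.MemLocalIdeal M w) : Cfsg.MemLocalIdeal M (z + w) := by
  obtain ⟨a, b, ha, hb, rfl⟩ := hz
  obtain ⟨c, d, hc, hd, rfl⟩ := hw
  refine ⟨a * d + c * b, b * d, ?_, IsPModular.mul_notMem hM hb hd, ?_⟩
  · exact M.add_mem (M.mul_mem_right d ha) (M.mul_mem_right b hc)
  · have hb0 := coe_ne_zero_of_notMem hb
    have hd0 := coe_ne_zero_of_notMem hd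
    push_cast
    field_simp

theorem MemLocalIdeal.neg {z : ℂ} (hz : Cfsg.MemLocalIdeal M z) : Cfsg.MemLocalIdeal M (-z) := by
  obtain ⟨a, b, ha, hb, rfl⟩ := hz
  refine ⟨-a, b, M.neg_mem ha, hb, ?_⟩
  push_cast
  ring

theorem MemLocalIdeal.sub (hM : Cfsg.IsPModular p M) {z w : ℂ} (hz : Cfsg.MemLocalIdeal M z)
    (hw : Cfsg.MemLocalIdeal M w) : Cfsg.MemLocalIdeal M (z - w) := by
  rw [sub_eq_add_neg]
  exact MemLocalIdeal.add hM hz (MemLocalIdeal.neg hw)

theorem MemLocalIdeal.mul_left (hM : Cfsg.IsPModular p M) {z w : ℂ} (hz : Cfsg.MemLocalRing M z)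
    (hw : Cfsg.MemLocalIdeal M w) : Cfsg.MemLocalIdeal M (z * w) := by
  obtain ⟨a, b, hb, rfl⟩ := hz
  obtain ⟨c, d, hc, hd, rfl⟩ := hw
  refine ⟨a * c, b * d, M.mul_mem_left a hc, IsPModular.mul_notMem hM hb hd, ?_⟩
  have hb0 := coe_ne_zero_of_notMem hb
  have hd0 := coe_ne_zero_of_notMem hd
  push_cast
  field_simp

theorem MemLocalIdeal.mul_right (hM : Cfsg.IsPModular p M) {z w : ℂ} (hz : Cfsg.MemLocalIdeal M z)
    (hw : Cfsg.MemLocalRing M w) : Cfsg.MemLocalIdeal M (z * w) := by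
  rw [mul_comm]
  exact MemLocalIdeal.mul_left hM hw hz

theorem MemLocalIdeal.sum (hM : Cfsg.IsPModular p M) {ι : Type*} (s : Finset ι) (f : ι → ℂ)
    (hf : ∀ i ∈ s, Cfsg.MemLocalIdeal M (f i)) : Cfsg.MemLocalIdeal M (∑ i ∈ s, f i) := by
  classical
  induction s using Finset.induction_on with
  | empty => simpa using memLocalIdeal_zero hM
  | insert a s ha ih =>
    rw [Finset.sum_insert ha]
    exact MemLocalIdeal.add hM (hf a (Finset.mem_insert_self a s))
      (ih (fun i hi => hf i (Finset.mem_insert_of_mem hi)))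

theorem memLocalIdeal_coe_iff (hM : Cfsg.IsPModular p M) (a : Cfsg.AlgInt) :
    Cfsg.MemLocalIdeal M (a : ℂ) ↔ a ∈ M := by
  constructor
  · rintro ⟨c, d, hc, hd, h⟩
    have hd0 := coe_ne_zero_of_notMem hd
    have h1 : a * d = c := by
      apply Subtype.ext
      push_cast
      rw [← h]
      field_simp
    have h2 : a * d ∈ M := by rw [h1]; exact hc
    rcases (IsPModular.isPrime hM).mem_or_mem h2 with h3 | h3
    · exact h3
    · exact absurd h3 hd
  · exact memLocalIdeal_coe hM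

theorem not_memLocalIdeal_one (hM : Cfsg.IsPModular p M) : ¬ Cfsg.MemLocalIdeal M 1 := by
  intro h
  have h1 : Cfsg.MemLocalIdeal M ((1 : Cfsg.AlgInt) : ℂ) := by simpa using h
  exact IsPModular.one_notMem hM ((memLocalIdeal_coe_iff hM 1).mp h1)

/-- a local integer outside the local ideal has numerator outside `M` -/
theorem exists_rep_of_not_memLocalIdeal {z : ℂ} (hz : Cfsg.MemLocalRing M z)
    (hz' : ¬ Cfsg.MemLocalIdeal M z) :
    ∃ a b : Cfsg.AlgInt, a ∉ M ∧ b ∉ M ∧ (a : ℂ) / (b : ℂ) = z := by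
  obtain ⟨a, b, hb, rfl⟩ := hz
  refine ⟨a, b, ?_, hb, rfl⟩
  intro ha
  exact hz' ⟨a, b, ha, hb, rfl⟩

theorem MemLocalRing.inv {z : ℂ} (hz : Cfsg.MemLocalRing M z)
    (hz' : ¬ Cfsg.MemLocalIdeal M z) : Cfsg.MemLocalRing M z⁻¹ := by
  obtain ⟨a, b, ha, hb, rfl⟩ := exists_rep_of_not_memLocalIdeal hz hz'
  exact ⟨b, a, ha, by rw [inv_div]⟩

theorem not_memLocalIdeal_inv (hM : Cfsg.IsPModular p M) {z : ℂ} (hz : Cfsg.MemLocalRing M z)
    (hz' : ¬ Cfsg.MemLocalIdeal M z) : ¬ Cfsg.MemLocalIdeal M z⁻¹ := by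
  intro h
  have h1 := MemLocalIdeal.mul_left hM hz h
  have hz0 : z ≠ 0 := by
    rintro rfl
    exact hz' (memLocalIdeal_zero hM)
  rw [mul_inv_cancel₀ hz0] at h1
  exact not_memLocalIdeal_one hM h1

theorem ne_zero_of_not_memLocalIdeal (hM : Cfsg.IsPModular p M) {z : ℂ}
    (hz' : ¬ Cfsg.MemLocalIdeal M z) : z ≠ 0 := by
  rintro rfl
  exact hz' (memLocalIdeal_zero hM)

/-- primality of the local ideal -/
theorem memLocalIdeal_or_of_mul (hM : Cfsg.IsPModular p M) {z w : ℂ} (hz : Cfsg.MemLocalRing M z)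
    (_hw : Cfsg.MemLocalRing M w) (h : Cfsg.MemLocalIdeal M (z * w)) :
    Cfsg.MemLocalIdeal M z ∨ Cfsg.MemLocalIdeal M w := by
  by_contra hcon
  push Not at hcon
  have h1 := MemLocalRing.inv hz hcon.1
  have h2 := MemLocalIdeal.mul_left hM h1 h
  have hz0 := ne_zero_of_not_memLocalIdeal hM hcon.1
  rw [← mul_assoc, inv_mul_cancel₀ hz0, one_mul] at h2
  exact hcon.2 h2

theorem not_memLocalIdeal_mul (hM : Cfsg.IsPModular p M) {z w : ℂ} (hz : Cfsg.MemLocalRing M z)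
    (hw : Cfsg.MemLocalRing M w) (hz' : ¬ Cfsg.MemLocalIdeal M z)
    (hw' : ¬ Cfsg.MemLocalIdeal M w) : ¬ Cfsg.MemLocalIdeal M (z * w) := by
  intro h
  rcases memLocalIdeal_or_of_mul hM hz hw h with h | h
  · exact hz' h
  · exact hw' h

theorem not_memLocalIdeal_prod (hM : Cfsg.IsPModular p M) {ι : Type*} (s : Finset ι) (f : ι → ℂ)
    (hf : ∀ i ∈ s, Cfsg.MemLocalRing M (f i)) (hf' : ∀ i ∈ s, ¬ Cfsg.MemLocalIdeal M (f i)) :
    ¬ Cfsg.MemLocalIdeal M (∏ i ∈ s, f i) := by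
  classical
  induction s using Finset.induction_on with
  | empty => simpa using not_memLocalIdeal_one hM
  | insert a s ha ih =>
    rw [Finset.prod_insert ha]
    exact not_memLocalIdeal_mul hM (hf a (Finset.mem_insert_self a s))
      (MemLocalRing.prod hM s f (fun i hi => hf i (Finset.mem_insert_of_mem hi)))
      (hf' a (Finset.mem_insert_self a s))
      (ih (fun i hi => hf i (Finset.mem_insert_of_mem hi))
        (fun i hi => hf' i (Finset.mem_insert_of_mem hi)))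

theorem memLocalIdeal_intCast_iff (hM : Cfsg.IsPModular p M) (n : ℤ) :
    Cfsg.MemLocalIdeal M (n : ℂ) ↔ (p : ℤ) ∣ n := by
  have hcoe : ((n : Cfsg.AlgInt) : ℂ) = (n : ℂ) := by simp
  rw [← hcoe, memLocalIdeal_coe_iff hM]
  constructor
  · intro h
    by_contra hnd
    have hp : Prime (p : ℤ) := Nat.prime_iff_prime_int.mp hM.1
    have hcop : IsCoprime (p : ℤ) n := (Prime.coprime_iff_not_dvd hp).mpr hnd
    obtain ⟨x, y, hxy⟩ := hcop
    apply IsPModular.one_notMem hM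
    have h1 : (1 : Cfsg.AlgInt) = (x : Cfsg.AlgInt) * (p : Cfsg.AlgInt) + (y : Cfsg.AlgInt) * (n : Cfsg.AlgInt) := by
      have := congrArg (fun t : ℤ => (t : Cfsg.AlgInt)) hxy
      push_cast at this
      exact this.symm
    rw [h1]
    exact M.add_mem (M.mul_mem_left _ hM.2.2) (M.mul_mem_left _ h)
  · rintro ⟨k, rfl⟩
    push_cast
    exact M.mul_mem_right _ hM.2.2

theorem memLocalIdeal_natCast_iff (hM : Cfsg.IsPModular p M) (n : ℕ) :
    Cfsg.MemLocalIdeal M (n : ℂ) ↔ p ∣ n := by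
  have := memLocalIdeal_intCast_iff hM (n : ℤ)
  rw [Int.natCast_dvd_natCast] at this
  simpa using this

theorem memLocalRing_inv_natCast (hM : Cfsg.IsPModular p M) {n : ℕ} (hn : ¬ p ∣ n) :
    Cfsg.MemLocalRing M ((n : ℂ)⁻¹) :=
  MemLocalRing.inv (memLocalRing_natCast hM n) (fun h => hn ((memLocalIdeal_natCast_iff hM n).mp h))

theorem memLocalIdeal_prime (hM : Cfsg.IsPModular p M) : Cfsg.MemLocalIdeal M (p : ℂ) :=
  (memLocalIdeal_natCast_iff hM p).mpr dvd_rfl

/-- the local ring as a subring of `ℂ` -/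
def localSubring (hM : Cfsg.IsPModular p M) : Subring ℂ where
  carrier := {z | Cfsg.MemLocalRing M z}
  mul_mem' := fun ha hb => MemLocalRing.mul hM ha hb
  one_mem' := memLocalRing_one hM
  add_mem' := fun ha hb => MemLocalRing.add hM ha hb
  zero_mem' := memLocalRing_zero hM
  neg_mem' := fun ha => MemLocalRing.neg ha

theorem mem_localSubring (hM : Cfsg.IsPModular p M) (z : ℂ) :
    z ∈ localSubring hM ↔ Cfsg.MemLocalRing M z := Iff.rfl

/-- the maximal ideal of the local ring -/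
def localMaxIdeal (hM : Cfsg.IsPModular p M) : Ideal (localSubring hM) where
  carrier := {z | Cfsg.MemLocalIdeal M (z : ℂ)}
  add_mem' := fun ha hb => MemLocalIdeal.add hM ha hb
  zero_mem' := memLocalIdeal_zero hM
  smul_mem' := fun c _ hx => MemLocalIdeal.mul_left hM c.2 hx

theorem mem_localMaxIdeal (hM : Cfsg.IsPModular p M) (z : localSubring hM) :
    z ∈ localMaxIdeal hM ↔ Cfsg.MemLocalIdeal M (z : ℂ) := Iff.rfl

theorem localMaxIdeal_ne_top (hM : Cfsg.IsPModular p M) : localMaxIdeal hM ≠ ⊤ := by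
  rw [Ideal.ne_top_iff_one]
  intro h
  exact not_memLocalIdeal_one hM h

end Cfsg.Agent.Lib.Helper6
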