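import Mathlib
import Cfsg.Prelude.Def_Blocks
import Cfsg.Agent.Lib.Helper6.BlkLocal
import Cfsg.Agent.Lib.Helper6.BlkAlg

set_option autoImplicit false
set_option linter.unusedSectionVars false
open Cfsg

namespace Cfsg.Agent.Lib.Helper6

open scoped ComplexConjugate
open Module

section

variable {G : Type*} [Group G]

theorem IsIrrCharacter.isIntegral_centralChar' [Finite G] {χ : G → ℂ}
    (hχ : Cfsg.IsIrrCharacter G χ) (g : G) : IsIntegral ℤ (Cfsg.centralChar χ g) := by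
  have : Fintype G := Fintype.ofFinite G
  obtain ⟨n, ρ, hirr, rfl⟩ := hχ
  have h := isIntegral_centralChar ρ g
  unfold Cfsg.centralChar
  rw [Representation.char_one]
  exact h

variable {p : ℕ} {M : Ideal Cfsg.AlgInt}

theorem sameBlock_refl (hM : Cfsg.IsPModular p M) (χ : G → ℂ) : Cfsg.SameBlock M χ χ := by
  intro g
  rw [sub_self]
  exact memLocalIdeal_zero hM

theorem SameBlock.symm' {χ ψ : G → ℂ} (h : Cfsg.SameBlock M χ ψ) : Cfsg.SameBlock M ψ χ := by
  intro g
  have := MemLocalIdeal.neg (h g)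
  rw [neg_sub] at this
  exact this

theorem SameBlock.trans' (hM : Cfsg.IsPModular p M) {χ ψ θ : G → ℂ} (h1 : Cfsg.SameBlock M χ ψ)
    (h2 : Cfsg.SameBlock M ψ θ) : Cfsg.SameBlock M χ θ := by
  intro g
  have := MemLocalIdeal.add hM (h1 g) (h2 g)
  rw [sub_add_sub_cancel] at this
  exact this

end

section

variable {G : Type*} [Group G] [Fintype G] [DecidableEq G]
variable {p : ℕ} {M : Ideal Cfsg.AlgInt}

/-- matrices with all entries in the local ring -/
def sMat (hM : Cfsg.IsPModular p M) (G : Type*) [Group G] [Fintype G] [DecidableEq G] :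
    Subring (Matrix G G ℂ) where
  carrier := {X | ∀ s t, Cfsg.MemLocalRing M (X s t)}
  mul_mem' := by
    intro X Y hX hY s t
    rw [Matrix.mul_apply]
    exact MemLocalRing.sum hM _ _ (fun k _ => MemLocalRing.mul hM (hX s k) (hY k t))
  one_mem' := by
    intro s t
    rw [Matrix.one_apply]
    split_ifs
    · exact memLocalRing_one hM
    · exact memLocalRing_zero hM
  add_mem' := by
    intro X Y hX hY s t
    rw [Matrix.add_apply]
    exact MemLocalRing.add hM (hX s t) (hY s t)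
  zero_mem' := fun _ _ => memLocalRing_zero hM
  neg_mem' := by
    intro X hX s t
    rw [Matrix.neg_apply]
    exact MemLocalRing.neg (hX s t)

theorem mem_sMat (hM : Cfsg.IsPModular p M) (X : Matrix G G ℂ) :
    X ∈ sMat hM G ↔ ∀ s t, Cfsg.MemLocalRing M (X s t) := Iff.rfl

theorem smul_mem_sMat (hM : Cfsg.IsPModular p M) {c : ℂ} (hc : Cfsg.MemLocalRing M c)
    {X : Matrix G G ℂ} (hX : X ∈ sMat hM G) : c • X ∈ sMat hM G := by
  intro s t
  rw [Matrix.smul_apply, smul_eq_mul]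
  exact MemLocalRing.mul hM hc (hX s t)

theorem regMat_mem_sMat (hM : Cfsg.IsPModular p M) {a : G → ℂ}
    (ha : ∀ g, Cfsg.MemLocalRing M (a g)) : regMat a ∈ sMat hM G :=
  fun s t => ha (s * t⁻¹)

theorem classInd_mem_sMat (hM : Cfsg.IsPModular p M) (g : G) :
    regMat (classInd g) ∈ sMat hM G := by
  classical
  apply regMat_mem_sMat
  intro x
  unfold classInd
  split_ifs
  · exact memLocalRing_one hM
  · exact memLocalRing_zero hM

theorem cOmega_list_prod {χ : G → ℂ} (hχ : Cfsg.IsIrrCharacter G χ) (l : List (Matrix G G ℂ))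
    (hl : ∀ X ∈ l, X ∈ centerAlg G) : cOmega χ l.prod = (l.map (cOmega χ)).prod := by
  induction l with
  | nil =>
    simp only [List.prod_nil, List.map_nil]
    exact cOmega_one (IsIrrCharacter.apply_one_ne_zero hχ)
  | cons X l ih =>
    rw [List.prod_cons, List.map_cons, List.prod_cons]
    have hX : X ∈ centerAlg G := hl X (List.mem_cons_self)
    have hl' : ∀ Y ∈ l, Y ∈ centerAlg G := fun Y hY => hl Y (List.mem_cons_of_mem _ hY)
    have hp : l.prod ∈ centerAlg G := (centerAlg G).list_prod_mem hl'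
    rw [cOmega_mul hχ hX hp.1, ih hl']

theorem cOmega_sub {χ : G → ℂ} (X Y : Matrix G G ℂ) :
    cOmega χ (X - Y) = cOmega χ X - cOmega χ Y := by
  have h1 : X - Y = X + (-1 : ℂ) • Y := by
    rw [neg_one_smul, sub_eq_add_neg]
  rw [h1, cOmega_add, cOmega_smul]
  ring

/-- the matrix of the (sum of the) central idempotents of the members of `B` -/
noncomputable def blockMat (B : Set (Cfsg.IrrCharacter G)) : Matrix G G ℂ :=
  regMat (fun g => Cfsg.blockCoeff B g)

theorem blockCoeff_eq_sum [Fintype (Cfsg.IrrCharacter G)] (B : Set (Cfsg.IrrCharacter G))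
    [DecidablePred (· ∈ B)] (g : G) :
    Cfsg.blockCoeff B g = ∑ χ ∈ Finset.univ.filter (· ∈ B), idemFun (χ : G → ℂ) g := by
  unfold Cfsg.blockCoeff idemFun
  rw [← Finset.mul_sum]
  congr 1
  rw [← finsum_mem_coe_finset]
  congr 1
  ext χ
  simp

theorem blockMat_eq_sum [Fintype (Cfsg.IrrCharacter G)] (B : Set (Cfsg.IrrCharacter G))
    [DecidablePred (· ∈ B)] :
    blockMat B = ∑ χ ∈ Finset.univ.filter (· ∈ B), regMat (idemFun (χ : G → ℂ)) := by
  unfold blockMat
  rw [← regMat_sum]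
  congr 1
  funext g
  rw [blockCoeff_eq_sum, Finset.sum_apply]

theorem blockMat_mem_centerAlg (B : Set (Cfsg.IrrCharacter G)) : blockMat B ∈ centerAlg G := by
  classical
  have : Fintype (Cfsg.IrrCharacter G) := Fintype.ofFinite _
  rw [blockMat_eq_sum]
  apply (centerAlg G).sum_mem
  intro χ _
  exact regMat_mem_centerAlg (idemFun_isClassFunction (IsIrrCharacter.isClassFunction χ.2))

theorem cOmega_sum {χ : G → ℂ} {ι : Type*} (s : Finset ι) (f : ι → Matrix G G ℂ) :
    cOmega χ (∑ i ∈ s, f i) = ∑ i ∈ s, cOmega χ (f i) := by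
  classical
  induction s using Finset.induction_on with
  | empty =>
    simp only [Finset.sum_empty]
    unfold cOmega
    simp
  | insert a s ha ih =>
    rw [Finset.sum_insert ha, Finset.sum_insert ha, cOmega_add, ih]

theorem cOmega_blockMat (B : Set (Cfsg.IrrCharacter G)) [DecidablePred (· ∈ B)]
    (ψ : Cfsg.IrrCharacter G) :
    cOmega (ψ : G → ℂ) (blockMat B) = if ψ ∈ B then 1 else 0 := by
  classical
  have : Fintype (Cfsg.IrrCharacter G) := Fintype.ofFinite _
  rw [blockMat_eq_sum, cOmega_sum]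
  simp only [cOmega_idem]
  rw [Finset.sum_ite_eq' ]
  simp


/-- the separating factor for `ψ` (relative to a base point `g` and normalisation `d`) -/
noncomputable def sepMat (ψ : G → ℂ) (g : G) (d : ℂ) : Matrix G G ℂ :=
  d⁻¹ • (regMat (classInd g) - (Cfsg.centralChar ψ g) • (1 : Matrix G G ℂ))

theorem sepMat_mem_centerAlg (ψ : G → ℂ) (g : G) (d : ℂ) : sepMat ψ g d ∈ centerAlg G := by
  unfold sepMat
  apply (centerAlg G).smul_mem
  apply (centerAlg G).sub_mem
  · exact regMat_mem_centerAlg (classInd_isClassFunction g)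
  · exact (centerAlg G).smul_mem (centerAlg G).one_mem _

theorem sepMat_mem_sMat (hM : Cfsg.IsPModular p M) {ψ : G → ℂ} (hψ : Cfsg.IsIrrCharacter G ψ)
    (g : G) {d : ℂ} (hd : Cfsg.MemLocalRing M d) (hd' : ¬ Cfsg.MemLocalIdeal M d) :
    sepMat ψ g d ∈ sMat hM G := by
  unfold sepMat
  apply smul_mem_sMat hM (MemLocalRing.inv hd hd')
  apply (sMat hM G).sub_mem
  · exact classInd_mem_sMat hM g
  · apply smul_mem_sMat hM _ (sMat hM G).one_mem
    exact memLocalRing_of_isIntegral hM (IsIrrCharacter.isIntegral_centralChar' hψ g)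

theorem cOmega_sepMat {θ : G → ℂ} (hθ : Cfsg.IsIrrCharacter G θ) (ψ : G → ℂ) (g : G) (d : ℂ) :
    cOmega θ (sepMat ψ g d) = d⁻¹ * (Cfsg.centralChar θ g - Cfsg.centralChar ψ g) := by
  unfold sepMat
  rw [cOmega_smul, cOmega_sub, cOmega_smul, cOmega_one (IsIrrCharacter.apply_one_ne_zero hθ),
    cOmega_classInd θ (IsIrrCharacter.isClassFunction hθ), mul_one]

theorem cOmega_one_sub_smul {θ : G → ℂ} (hθ : Cfsg.IsIrrCharacter G θ) (c : ℂ)
    (Z : Matrix G G ℂ) : cOmega θ (1 - c • Z) = 1 - c * cOmega θ Z := by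
  rw [cOmega_sub, cOmega_one (IsIrrCharacter.apply_one_ne_zero hθ), cOmega_smul]

/-- Osima: the block idempotent has local-integral coefficients. -/
theorem blockCoeff_memLocalRing (hM : Cfsg.IsPModular p M) (χ₀ : Cfsg.IrrCharacter G) (g : G) :
    Cfsg.MemLocalRing M (Cfsg.blockCoeff (Cfsg.blockOf M (χ₀ : G → ℂ)) g) := by
  classical
  have : Fintype (Cfsg.IrrCharacter G) := Fintype.ofFinite _
  set B := Cfsg.blockOf M (χ₀ : G → ℂ) with hB
  have hmemB : ∀ ψ : Cfsg.IrrCharacter G, ψ ∈ B ↔ Cfsg.SameBlock M (χ₀ : G → ℂ) (ψ : G → ℂ) :=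
    fun ψ => Iff.rfl
  -- separating elements
  have hsep : ∀ ψ : Cfsg.IrrCharacter G, ψ ∉ B → ∃ g : G, ¬ Cfsg.MemLocalIdeal M
      (Cfsg.centralChar (χ₀ : G → ℂ) g - Cfsg.centralChar (ψ : G → ℂ) g) := by
    intro ψ hψ
    rw [hmemB] at hψ
    unfold Cfsg.SameBlock at hψ
    exact not_forall.mp hψ
  let gs : Cfsg.IrrCharacter G → G := fun ψ => if h : ψ ∈ B then 1 else Classical.choose (hsep ψ h)
  have hgs : ∀ ψ : Cfsg.IrrCharacter G, ψ ∉ B → ¬ Cfsg.MemLocalIdeal M
      (Cfsg.centralChar (χ₀ : G → ℂ) (gs ψ) - Cfsg.centralChar (ψ : G → ℂ) (gs ψ)) := by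
    intro ψ hψ
    have := Classical.choose_spec (hsep ψ hψ)
    simp only [gs, dif_neg hψ]
    exact this
  let d : Cfsg.IrrCharacter G → ℂ := fun ψ =>
    Cfsg.centralChar (χ₀ : G → ℂ) (gs ψ) - Cfsg.centralChar (ψ : G → ℂ) (gs ψ)
  have hωS : ∀ (θ : Cfsg.IrrCharacter G) (x : G), Cfsg.MemLocalRing M (Cfsg.centralChar (θ : G → ℂ) x) :=
    fun θ x => memLocalRing_of_isIntegral hM (IsIrrCharacter.isIntegral_centralChar' θ.2 x)
  have hdS : ∀ ψ, Cfsg.MemLocalRing M (d ψ) := fun ψ => MemLocalRing.sub hM (hωS _ _) (hωS _ _)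
  let Zf : Cfsg.IrrCharacter G → Matrix G G ℂ := fun ψ => sepMat (ψ : G → ℂ) (gs ψ) (d ψ)
  have hZfc : ∀ ψ, Zf ψ ∈ centerAlg G := fun ψ => sepMat_mem_centerAlg _ _ _
  have hZfs : ∀ ψ, ψ ∉ B → Zf ψ ∈ sMat hM G :=
    fun ψ hψ => sepMat_mem_sMat hM ψ.2 _ (hdS ψ) (hgs ψ hψ)
  have hZfω : ∀ (θ ψ : Cfsg.IrrCharacter G), cOmega (θ : G → ℂ) (Zf ψ)
      = (d ψ)⁻¹ * (Cfsg.centralChar (θ : G → ℂ) (gs ψ) - Cfsg.centralChar (ψ : G → ℂ) (gs ψ)) :=
    fun θ ψ => cOmega_sepMat θ.2 _ _ _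
  -- values on members of the block are units
  have hunit : ∀ (θ ψ : Cfsg.IrrCharacter G), θ ∈ B → ψ ∉ B →
      Cfsg.MemLocalRing M (cOmega (θ : G → ℂ) (Zf ψ)) ∧
        ¬ Cfsg.MemLocalIdeal M (cOmega (θ : G → ℂ) (Zf ψ)) := by
    intro θ ψ hθ hψ
    rw [hZfω]
    have hdinv := MemLocalRing.inv (hdS ψ) (hgs ψ hψ)
    have hd0 : d ψ ≠ 0 := ne_zero_of_not_memLocalIdeal hM (hgs ψ hψ)
    constructor
    · exact MemLocalRing.mul hM hdinv (MemLocalRing.sub hM (hωS _ _) (hωS _ _))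
    · intro hcon
      have h1 : Cfsg.MemLocalIdeal M (Cfsg.centralChar (χ₀ : G → ℂ) (gs ψ)
          - Cfsg.centralChar (θ : G → ℂ) (gs ψ)) := (hmemB θ).mp hθ (gs ψ)
      have h2 : (d ψ)⁻¹ * (Cfsg.centralChar (θ : G → ℂ) (gs ψ)
            - Cfsg.centralChar (ψ : G → ℂ) (gs ψ))
          + (d ψ)⁻¹ * (Cfsg.centralChar (χ₀ : G → ℂ) (gs ψ)
            - Cfsg.centralChar (θ : G → ℂ) (gs ψ)) = 1 := by
        rw [← mul_add]
        have : Cfsg.centralChar (θ : G → ℂ) (gs ψ) - Cfsg.centralChar (ψ : G → ℂ) (gs ψ)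
            + (Cfsg.centralChar (χ₀ : G → ℂ) (gs ψ) - Cfsg.centralChar (θ : G → ℂ) (gs ψ))
            = d ψ := by
          simp only [d]
          ring
        rw [this, inv_mul_cancel₀ hd0]
      have h3 := MemLocalIdeal.add hM hcon (MemLocalIdeal.mul_left hM hdinv h1)
      rw [h2] at h3
      exact not_memLocalIdeal_one hM h3
  -- the product over characters outside the block
  let sOut : Finset (Cfsg.IrrCharacter G) := Finset.univ.filter (· ∉ B)
  let sIn : Finset (Cfsg.IrrCharacter G) := Finset.univ.filter (· ∈ B)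
  let Z : Matrix G G ℂ := (sOut.toList.map Zf).prod
  have hZc : Z ∈ centerAlg G := by
    apply (centerAlg G).list_prod_mem
    intro X hX
    obtain ⟨ψ, _, rfl⟩ := List.mem_map.mp hX
    exact hZfc ψ
  have hZs : Z ∈ sMat hM G := by
    apply (sMat hM G).list_prod_mem
    intro X hX
    obtain ⟨ψ, hψ, rfl⟩ := List.mem_map.mp hX
    apply hZfs ψ
    have := Finset.mem_toList.mp hψ
    simpa [sOut] using this
  have hZω : ∀ θ : Cfsg.IrrCharacter G,
      cOmega (θ : G → ℂ) Z = ∏ ψ ∈ sOut, cOmega (θ : G → ℂ) (Zf ψ) := by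
    intro θ
    rw [cOmega_list_prod θ.2]
    · rw [List.map_map, Finset.prod_map_toList]
      rfl
    · intro X hX
      obtain ⟨ψ, _, rfl⟩ := List.mem_map.mp hX
      exact hZfc ψ
  let a : Cfsg.IrrCharacter G → ℂ := fun θ => cOmega (θ : G → ℂ) Z
  have haOut : ∀ θ : Cfsg.IrrCharacter G, θ ∉ B → a θ = 0 := by
    intro θ hθ
    change cOmega (θ : G → ℂ) Z = 0
    rw [hZω]
    apply Finset.prod_eq_zero (i := θ)
    · simp [sOut, hθ]
    · rw [hZfω, sub_self, mul_zero]
  have haIn : ∀ θ : Cfsg.IrrCharacter G, θ ∈ B →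
      Cfsg.MemLocalRing M (a θ) ∧ ¬ Cfsg.MemLocalIdeal M (a θ) := by
    intro θ hθ
    change Cfsg.MemLocalRing M (cOmega (θ : G → ℂ) Z) ∧ ¬ Cfsg.MemLocalIdeal M (cOmega (θ : G → ℂ) Z)
    rw [hZω]
    constructor
    · apply MemLocalRing.prod hM
      intro ψ hψ
      exact (hunit θ ψ hθ (by simpa [sOut] using hψ)).1
    · apply not_memLocalIdeal_prod hM
      · intro ψ hψ
        exact (hunit θ ψ hθ (by simpa [sOut] using hψ)).1
      · intro ψ hψ
        exact (hunit θ ψ hθ (by simpa [sOut] using hψ)).2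
  -- the idempotent
  let Yf : Cfsg.IrrCharacter G → Matrix G G ℂ := fun χ => 1 - (a χ)⁻¹ • Z
  let Y : Matrix G G ℂ := (sIn.toList.map Yf).prod
  have hYfc : ∀ χ, Yf χ ∈ centerAlg G := fun χ =>
    (centerAlg G).sub_mem (centerAlg G).one_mem ((centerAlg G).smul_mem hZc _)
  have hYc : Y ∈ centerAlg G := by
    apply (centerAlg G).list_prod_mem
    intro X hX
    obtain ⟨ψ, _, rfl⟩ := List.mem_map.mp hX
    exact hYfc ψ
  have hYs : Y ∈ sMat hM G := by
    apply (sMat hM G).list_prod_mem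
    intro X hX
    obtain ⟨χ, hχ, rfl⟩ := List.mem_map.mp hX
    have hχB : χ ∈ B := by
      have := Finset.mem_toList.mp hχ
      simpa [sIn] using this
    apply (sMat hM G).sub_mem (sMat hM G).one_mem
    exact smul_mem_sMat hM (MemLocalRing.inv (haIn χ hχB).1 (haIn χ hχB).2) hZs
  have hYω : ∀ θ : Cfsg.IrrCharacter G,
      cOmega (θ : G → ℂ) Y = ∏ χ ∈ sIn, (1 - (a χ)⁻¹ * a θ) := by
    intro θ
    rw [cOmega_list_prod θ.2]
    · rw [List.map_map, Finset.prod_map_toList]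
      apply Finset.prod_congr rfl
      intro χ _
      exact cOmega_one_sub_smul θ.2 _ _
    · intro X hX
      obtain ⟨ψ, _, rfl⟩ := List.mem_map.mp hX
      exact hYfc ψ
  have hXeq : 1 - Y = blockMat B := by
    apply eq_of_cOmega_eq ((centerAlg G).sub_mem (centerAlg G).one_mem hYc)
      (blockMat_mem_centerAlg B)
    intro θ
    rw [cOmega_sub, cOmega_one (IsIrrCharacter.apply_one_ne_zero θ.2), hYω, cOmega_blockMat]
    split_ifs with hθ
    · have : ∏ χ ∈ sIn, (1 - (a χ)⁻¹ * a θ) = 0 := by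
        apply Finset.prod_eq_zero (i := θ)
        · simp [sIn, hθ]
        · have h0 : a θ ≠ 0 := ne_zero_of_not_memLocalIdeal hM (haIn θ hθ).2
          rw [inv_mul_cancel₀ h0, sub_self]
      rw [this, sub_zero]
    · rw [haOut θ hθ]
      simp
  have hfin : Cfsg.blockCoeff B g = (1 - Y) g 1 := by
    rw [hXeq]
    unfold blockMat
    rw [regMat_apply, inv_one, mul_one]
  rw [hfin]
  exact ((sMat hM G).sub_mem (sMat hM G).one_mem hYs) g 1

end

end Cfsg.Agent.Lib.Helper6
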