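import Mathlib
import Cfsg.Prelude.Def_Blocks
import Cfsg.Agent.Lib.Helper6.BlkIdem
import Cfsg.Agent.Lib.Helper6.DegreeDvd

set_option autoImplicit false
set_option linter.unusedSectionVars false
open Cfsg

namespace Cfsg.Agent.Lib.Helper6

open scoped ComplexConjugate
open Module

section

variable {G : Type*} [Group G] [Fintype G] [DecidableEq G]
variable {p : ℕ} {M : Ideal Cfsg.AlgInt}

/-- the central character evaluated through class representatives -/
theorem cOmega_eq_sum_classes [Fintype (ConjClasses G)] {θ : G → ℂ}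
    (hθ : Cfsg.IsClassFunction G θ) {X : Matrix G G ℂ} (hX : X ∈ centerAlg G) :
    cOmega θ X = ∑ c : ConjClasses G,
      X (Quotient.out c) 1 * Cfsg.centralChar θ (Quotient.out c) := by
  unfold cOmega
  have hcf : Cfsg.IsClassFunction G (fun g => X g 1 * θ g) := by
    intro g h
    have h1 := isClassFunction_of_mem_centerAlg hX g h
    simp only at h1
    simp only
    rw [h1, hθ g h]
  rw [sum_eq_sum_conjClasses _ hcf, Finset.sum_div]
  apply Finset.sum_congr rfl
  intro c _
  unfold Cfsg.centralChar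
  ring

theorem cOmega_memLocalRing (hM : Cfsg.IsPModular p M) {θ : G → ℂ}
    (hθ : Cfsg.IsIrrCharacter G θ) {X : Matrix G G ℂ} (hX : X ∈ centerAlg G)
    (hXs : X ∈ sMat hM G) : Cfsg.MemLocalRing M (cOmega θ X) := by
  classical
  have : Fintype (ConjClasses G) := Fintype.ofFinite _
  rw [cOmega_eq_sum_classes (IsIrrCharacter.isClassFunction hθ) hX]
  apply MemLocalRing.sum hM
  intro c _
  exact MemLocalRing.mul hM (hXs _ _)
    (memLocalRing_of_isIntegral hM (IsIrrCharacter.isIntegral_centralChar' hθ _))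

theorem cOmega_sub_memLocalIdeal (hM : Cfsg.IsPModular p M) {χ ψ : G → ℂ}
    (hχ : Cfsg.IsIrrCharacter G χ) (hψ : Cfsg.IsIrrCharacter G ψ)
    (h : Cfsg.SameBlock M χ ψ) {X : Matrix G G ℂ} (hX : X ∈ centerAlg G)
    (hXs : X ∈ sMat hM G) : Cfsg.MemLocalIdeal M (cOmega χ X - cOmega ψ X) := by
  classical
  have : Fintype (ConjClasses G) := Fintype.ofFinite _
  rw [cOmega_eq_sum_classes (IsIrrCharacter.isClassFunction hχ) hX,
    cOmega_eq_sum_classes (IsIrrCharacter.isClassFunction hψ) hX, ← Finset.sum_sub_distrib]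
  apply MemLocalIdeal.sum hM
  intro c _
  rw [← mul_sub]
  exact MemLocalIdeal.mul_left hM (hXs _ _) (h _)

theorem blockMat_mem_sMat (hM : Cfsg.IsPModular p M) (χ₀ : Cfsg.IrrCharacter G) :
    blockMat (Cfsg.blockOf M (χ₀ : G → ℂ)) ∈ sMat hM G := by
  intro s t
  unfold blockMat
  rw [regMat_apply]
  exact blockCoeff_memLocalRing hM χ₀ _

/-- a set of irreducible characters whose idempotent is local-integral is a union of blocks -/
theorem blockOf_subset_of_memLocalRing (hM : Cfsg.IsPModular p M)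
    (A : Set (Cfsg.IrrCharacter G))
    (hA : ∀ g : G, Cfsg.MemLocalRing M (Cfsg.blockCoeff A g)) (χ : Cfsg.IrrCharacter G)
    (hχ : χ ∈ A) : Cfsg.blockOf M (χ : G → ℂ) ⊆ A := by
  classical
  intro ψ hψ
  have hsb : Cfsg.SameBlock M (χ : G → ℂ) (ψ : G → ℂ) := hψ
  have hXs : blockMat A ∈ sMat hM G := by
    intro s t
    unfold blockMat
    rw [regMat_apply]
    exact hA _
  have h1 := cOmega_sub_memLocalIdeal hM χ.2 ψ.2 hsb (blockMat_mem_centerAlg A) hXs
  rw [cOmega_blockMat, cOmega_blockMat, if_pos hχ] at h1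
  by_contra hn
  rw [if_neg hn, sub_zero] at h1
  exact not_memLocalIdeal_one hM h1

/-- existence of a defect class -/
theorem exists_isDefectClass (hM : Cfsg.IsPModular p M) (χ₀ : Cfsg.IrrCharacter G) :
    ∃ g : G, Cfsg.IsDefectClass M (Cfsg.blockOf M (χ₀ : G → ℂ)) g := by
  classical
  have : Fintype (ConjClasses G) := Fintype.ofFinite _
  set B := Cfsg.blockOf M (χ₀ : G → ℂ) with hB
  have hχ₀ : χ₀ ∈ B := sameBlock_refl hM _
  have h1 : cOmega (χ₀ : G → ℂ) (blockMat B) = 1 := by
    rw [cOmega_blockMat, if_pos hχ₀]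
  rw [cOmega_eq_sum_classes (IsIrrCharacter.isClassFunction χ₀.2) (blockMat_mem_centerAlg B)] at h1
  have hωS : ∀ (θ : Cfsg.IrrCharacter G) (x : G),
      Cfsg.MemLocalRing M (Cfsg.centralChar (θ : G → ℂ) x) :=
    fun θ x => memLocalRing_of_isIntegral hM (IsIrrCharacter.isIntegral_centralChar' θ.2 x)
  have hcoef : ∀ x : G, blockMat B x 1 = Cfsg.blockCoeff B x := by
    intro x
    unfold blockMat
    rw [regMat_apply, inv_one, mul_one]
  have hex : ∃ c : ConjClasses G, ¬ Cfsg.MemLocalIdeal M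
      (blockMat B (Quotient.out c) 1 * Cfsg.centralChar (χ₀ : G → ℂ) (Quotient.out c)) := by
    by_contra hcon
    push Not at hcon
    have := MemLocalIdeal.sum hM Finset.univ _ (fun c _ => hcon c)
    rw [h1] at this
    exact not_memLocalIdeal_one hM this
  obtain ⟨c, hc⟩ := hex
  refine ⟨Quotient.out c, ?_, ?_, ?_⟩
  · exact blockCoeff_memLocalRing hM χ₀ _
  · intro h2
    apply hc
    rw [hcoef]
    exact MemLocalIdeal.mul_right hM h2 (hωS _ _)
  · intro χ hχ h2
    apply hc
    rw [hcoef]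
    apply MemLocalIdeal.mul_left hM (blockCoeff_memLocalRing hM χ₀ _)
    have h3 : Cfsg.MemLocalIdeal M (Cfsg.centralChar (χ₀ : G → ℂ) (Quotient.out c)
        - Cfsg.centralChar (χ : G → ℂ) (Quotient.out c)) := hχ _
    have := MemLocalIdeal.add hM h3 h2
    rw [sub_add_cancel] at this
    exact this

end

end Cfsg.Agent.Lib.Helper6
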