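import Mathlib
import Cfsg.Prelude.Def_Blocks
import Cfsg.Agent.Lib.Helper6.BlkLocal

set_option autoImplicit false
set_option linter.unusedSectionVars false
open Cfsg

namespace Cfsg.Agent.Lib.Helper6

variable {p : ℕ} {M : Ideal Cfsg.AlgInt}

/-- a `p`-power root of unity is congruent to `1` modulo `M` -/
theorem memLocalIdeal_sub_one_of_pow_eq_one (hM : Cfsg.IsPModular p M) {z : ℂ} {k : ℕ}
    (hz : z ^ (p ^ k) = 1) : Cfsg.MemLocalIdeal M (z - 1) := by
  have hp : p.Prime := hM.1
  have hpos : 0 < p ^ k := pow_pos hp.pos k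
  have hint : IsIntegral ℤ z := by
    refine ⟨Polynomial.X ^ (p ^ k) - 1, ?_, ?_⟩
    · exact Polynomial.monic_X_pow_sub_C (1 : ℤ) hpos.ne'
    · simp [hz]
  let a : Cfsg.AlgInt := ⟨z, hint⟩
  have ha : a ^ (p ^ k) = 1 := by
    apply Subtype.ext
    push_cast
    exact hz
  have hmax : M.IsMaximal := hM.2.1
  let F := Cfsg.AlgInt ⧸ M
  let _ : Field F := Ideal.Quotient.field M
  have hchar : CharP F p := by
    rw [CharP.charP_iff_prime_eq_zero hp]
    have : (p : F) = Ideal.Quotient.mk M (p : Cfsg.AlgInt) := by simp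
    rw [this, Ideal.Quotient.eq_zero_iff_mem]
    exact hM.2.2
  have : Fact p.Prime := ⟨hp⟩
  have h1 : (Ideal.Quotient.mk M a - 1) ^ (p ^ k) = 0 := by
    rw [sub_pow_char_pow, ← map_pow, ha, map_one, one_pow, sub_self]
  have h2 : Ideal.Quotient.mk M a - 1 = 0 := pow_eq_zero_iff (hpos.ne') |>.mp h1
  have h3 : a - 1 ∈ M := by
    rw [← Ideal.Quotient.eq_zero_iff_mem, map_sub, map_one]
    exact h2
  have := memLocalIdeal_coe hM h3
  simpa [a] using this

/-- congruence modulo the local ideal -/
def LCongr (M : Ideal Cfsg.AlgInt) (z w : ℂ) : Prop := Cfsg.MemLocalIdeal M (z - w)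

theorem lCongr_prod_one (hM : Cfsg.IsPModular p M) {ι : Type*} (s : Finset ι) (f : ι → ℂ)
    (hf : ∀ i ∈ s, Cfsg.MemLocalRing M (f i)) (hf' : ∀ i ∈ s, Cfsg.MemLocalIdeal M (f i - 1)) :
    Cfsg.MemLocalIdeal M (∏ i ∈ s, f i - 1) := by
  classical
  induction s using Finset.induction_on with
  | empty => simpa using memLocalIdeal_zero hM
  | insert a s ha ih =>
    rw [Finset.prod_insert ha]
    have h1 := ih (fun i hi => hf i (Finset.mem_insert_of_mem hi))
      (fun i hi => hf' i (Finset.mem_insert_of_mem hi))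
    have h2 := hf' a (Finset.mem_insert_self a s)
    have h3 : f a * ∏ i ∈ s, f i - 1 = f a * (∏ i ∈ s, f i - 1) + (f a - 1) := by ring
    rw [h3]
    exact MemLocalIdeal.add hM
      (MemLocalIdeal.mul_left hM (hf a (Finset.mem_insert_self a s)) h1) h2

/-- a matrix congruent to the identity modulo the local ideal has nonzero determinant -/
theorem det_ne_zero_of_congr_one (hM : Cfsg.IsPModular p M) {n : Type*} [Fintype n]
    [DecidableEq n] (U : Matrix n n ℂ) (hU : ∀ i j, Cfsg.MemLocalRing M (U i j))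
    (hU1 : ∀ i j, Cfsg.MemLocalIdeal M (U i j - (1 : Matrix n n ℂ) i j)) : U.det ≠ 0 := by
  have hdet : Cfsg.MemLocalIdeal M (U.det - 1) := by
    rw [Matrix.det_apply]
    have hsplit : ∑ σ : Equiv.Perm n, Equiv.Perm.sign σ • ∏ i, U (σ i) i - 1
        = (∏ i, U i i - 1) + ∑ σ ∈ Finset.univ.erase (1 : Equiv.Perm n),
            Equiv.Perm.sign σ • ∏ i, U (σ i) i := by
      rw [← Finset.add_sum_erase Finset.univ _ (Finset.mem_univ (1 : Equiv.Perm n))]
      simp
    rw [hsplit]
    apply MemLocalIdeal.add hM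
    · apply lCongr_prod_one hM
      · intro i _
        exact hU i i
      · intro i _
        have := hU1 i i
        rw [Matrix.one_apply_eq] at this
        exact this
    · apply MemLocalIdeal.sum hM
      intro σ hσ
      have hσ1 : σ ≠ 1 := (Finset.mem_erase.mp hσ).1
      obtain ⟨i, hi⟩ : ∃ i, σ i ≠ i := by
        by_contra hcon
        push Not at hcon
        exact hσ1 (Equiv.ext hcon)
      have hprod : Cfsg.MemLocalIdeal M (∏ j, U (σ j) j) := by
        rw [← Finset.mul_prod_erase Finset.univ _ (Finset.mem_univ i)]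
        apply MemLocalIdeal.mul_right hM
        · have := hU1 (σ i) i
          rw [Matrix.one_apply_ne hi, sub_zero] at this
          exact this
        · apply MemLocalRing.prod hM
          intro j _
          exact hU _ _
      rcases Int.units_eq_one_or (Equiv.Perm.sign σ) with h | h
      · rw [h, one_smul]
        exact hprod
      · rw [h, Units.neg_smul, one_smul]
        exact MemLocalIdeal.neg hprod
  intro h0
  rw [h0, zero_sub] at hdet
  have := MemLocalIdeal.neg hdet
  rw [neg_neg] at this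
  exact not_memLocalIdeal_one hM this

/-- idempotent matrices over the local ring that are congruent modulo the local ideal have the
same trace -/
theorem trace_eq_of_idem_congr (hM : Cfsg.IsPModular p M) {n : Type*} [Fintype n]
    [DecidableEq n] (E E' : Matrix n n ℂ) (hE : E * E = E) (hE' : E' * E' = E')
    (hEs : ∀ i j, Cfsg.MemLocalRing M (E i j)) (_hEs' : ∀ i j, Cfsg.MemLocalRing M (E' i j))
    (hc : ∀ i j, Cfsg.MemLocalIdeal M (E' i j - E i j)) : E'.trace = E.trace := by
  set U : Matrix n n ℂ := E' * E + (1 - E') * (1 - E) with hUdef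
  have hU1 : U - 1 = (2 : ℂ) • ((E' - E) * E) - (E' - E) := by
    rw [hUdef]
    have e1 : (E' - E) * E = E' * E - E := by rw [sub_mul, hE]
    rw [e1, two_smul]
    noncomm_ring
  have hNE : ∀ i j, Cfsg.MemLocalIdeal M (((E' - E) * E) i j) := by
    intro i j
    rw [Matrix.mul_apply]
    apply MemLocalIdeal.sum hM
    intro k _
    rw [Matrix.sub_apply]
    exact MemLocalIdeal.mul_right hM (hc i k) (hEs k j)
  have hUc : ∀ i j, Cfsg.MemLocalIdeal M (U i j - (1 : Matrix n n ℂ) i j) := by
    intro i j
    have : U i j - (1 : Matrix n n ℂ) i j = (U - 1) i j := by rw [Matrix.sub_apply]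
    rw [this, hU1, Matrix.sub_apply, Matrix.smul_apply, smul_eq_mul, Matrix.sub_apply]
    apply MemLocalIdeal.sub hM
    · apply MemLocalIdeal.mul_left hM _ (hNE i j)
      have := memLocalRing_natCast hM 2
      simpa using this
    · exact hc i j
  have hUs : ∀ i j, Cfsg.MemLocalRing M (U i j) := by
    intro i j
    have h1 := MemLocalIdeal.memLocalRing (hUc i j)
    have h2 : Cfsg.MemLocalRing M ((1 : Matrix n n ℂ) i j) := by
      rw [Matrix.one_apply]
      split_ifs
      · exact memLocalRing_one hM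
      · exact memLocalRing_zero hM
    have := MemLocalRing.add hM h1 h2
    rw [sub_add_cancel] at this
    exact this
  have hdet := det_ne_zero_of_congr_one hM U hUs hUc
  have hcomm : E' * U = U * E := by
    rw [hUdef]
    rw [mul_add, add_mul, ← mul_assoc, hE', mul_assoc, hE]
    have a1 : E' * (1 - E') = 0 := by rw [mul_sub, mul_one, hE', sub_self]
    have a2 : (1 - E) * E = 0 := by rw [sub_mul, one_mul, hE, sub_self]
    have e1 : E' * ((1 - E') * (1 - E)) = 0 := by
      rw [← mul_assoc, a1, zero_mul]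
    have e2 : (1 - E') * (1 - E) * E = 0 := by
      rw [mul_assoc, a2, mul_zero]
    rw [e1, e2]
  have hunit : IsUnit U := (Matrix.isUnit_iff_isUnit_det U).mpr (isUnit_iff_ne_zero.mpr hdet)
  obtain ⟨u, hu⟩ := hunit
  have hE'eq : E' = U * E * U⁻¹ := by
    have hinv : U * U⁻¹ = 1 := Matrix.mul_nonsing_inv U (isUnit_iff_ne_zero.mpr hdet)
    calc E' = E' * (U * U⁻¹) := by rw [hinv, mul_one]
      _ = (E' * U) * U⁻¹ := by rw [mul_assoc]
      _ = U * E * U⁻¹ := by rw [hcomm]
  rw [hE'eq, Matrix.trace_mul_comm, ← mul_assoc,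
    Matrix.nonsing_inv_mul U (isUnit_iff_ne_zero.mpr hdet), one_mul]

/-- a polynomial expression of degree `< m` vanishing at all `m`-th roots of unity has zero
coefficients -/
theorem coeff_eq_zero_of_forall_root_of_unity {m : ℕ} (hm : 0 < m) (c : ℕ → ℂ)
    (h : ∀ z : ℂ, z ^ m = 1 → ∑ j ∈ Finset.range m, c j * z ^ j = 0) :
    ∀ j, j < m → c j = 0 := by
  classical
  let f : Polynomial ℂ := ∑ j ∈ Finset.range m, Polynomial.C (c j) * Polynomial.X ^ j
  have hdeg : f.natDegree < m := by
    have h1 : f.natDegree ≤ m - 1 := by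
      apply Polynomial.natDegree_sum_le_of_forall_le
      intro j hj
      calc (Polynomial.C (c j) * Polynomial.X ^ j).natDegree ≤ j :=
            Polynomial.natDegree_C_mul_X_pow_le (c j) j
        _ ≤ m - 1 := by have := Finset.mem_range.mp hj; omega
    omega
  have hroots : ∀ z ∈ Polynomial.nthRootsFinset m (1 : ℂ), f.eval z = 0 := by
    intro z hz
    have hz' : z ^ m = 1 := (Polynomial.mem_nthRootsFinset hm 1).mp hz
    simp only [f, Polynomial.eval_finsetSum, Polynomial.eval_mul, Polynomial.eval_C,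
      Polynomial.eval_pow, Polynomial.eval_X]
    exact h z hz'
  have hcard : (Polynomial.nthRootsFinset m (1 : ℂ)).card = m :=
    (Complex.isPrimitiveRoot_exp m hm.ne').card_nthRootsFinset
  have hf0 : f = 0 := by
    apply Polynomial.eq_zero_of_natDegree_lt_card_of_eval_eq_zero' f _ hroots
    rw [hcard]
    exact hdeg
  intro j hj
  have := congrArg (fun g : Polynomial ℂ => g.coeff j) hf0
  simp only [f, Polynomial.finsetSum_coeff, Polynomial.coeff_C_mul_X_pow,
    Polynomial.coeff_zero] at this
  rw [Finset.sum_eq_single j] at this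
  · simpa using this
  · intro i _ hij
    rw [if_neg (Ne.symm hij)]
  · intro hnot
    exact absurd (Finset.mem_range.mpr hj) hnot

end Cfsg.Agent.Lib.Helper6
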