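import Mathlib
import Cfsg.Prelude.Def_Blocks
import Cfsg.Agent.Lib.Helper6.BlkLocal
import Cfsg.Agent.Lib.Helper6.BlkRigid

set_option autoImplicit false
set_option linter.unusedSectionVars false
open Cfsg

namespace Cfsg.Agent.Lib.Helper6

section

variable {G : Type*} [Group G] [Fintype G] [DecidableEq G]

/-- invariance under simultaneous right translation by a fixed element -/
def UInv (u : G) (X : Matrix G G ℂ) : Prop := ∀ s t : G, X (s * u) (t * u) = X s t

theorem UInv.pow {u : G} {X : Matrix G G ℂ} (h : UInv u X) (i : ℕ) (s t : G) :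
    X (s * u ^ i) (t * u ^ i) = X s t := by
  induction i with
  | zero => simp
  | succ i ih =>
    rw [pow_succ, ← mul_assoc, ← mul_assoc, h, ih]

theorem UInv.of_mem_zpowers {u : G} {X : Matrix G G ℂ} (h : UInv u X) {w : G}
    (hw : w ∈ Subgroup.zpowers u) (s t : G) : X (s * w) (t * w) = X s t := by
  rw [mem_zpowers_iff_mem_range_orderOf] at hw
  obtain ⟨i, _, rfl⟩ := Finset.mem_image.mp hw
  exact h.pow i s t

theorem UInv.mul {u : G} {X Y : Matrix G G ℂ} (hX : UInv u X) (hY : UInv u Y) :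
    UInv u (X * Y) := by
  intro s t
  rw [Matrix.mul_apply, Matrix.mul_apply]
  rw [← Equiv.sum_comp (Equiv.mulRight u) (fun k => X (s * u) k * Y k (t * u))]
  apply Finset.sum_congr rfl
  intro k _
  simp only [Equiv.coe_mulRight]
  rw [hX s k, hY k t]

variable (u : G)

/-- the inclusion of coset functions -/
noncomputable def iotaMat : Matrix G (G ⧸ Subgroup.zpowers u) ℂ :=
  fun g b => by classical exact if (QuotientGroup.mk g : G ⧸ Subgroup.zpowers u) = b then 1 else 0

/-- evaluation at coset representatives -/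
noncomputable def rhoMat : Matrix (G ⧸ Subgroup.zpowers u) G ℂ :=
  fun a g => if g = Quotient.out a then 1 else 0

noncomputable instance instFintypeQuotZpowers : Fintype (G ⧸ Subgroup.zpowers u) :=
  Fintype.ofFinite _

noncomputable instance instDecEqQuotZpowers : DecidableEq (G ⧸ Subgroup.zpowers u) :=
  Classical.decEq _

/-- the matrix induced on coset functions -/
noncomputable def quotMat (X : Matrix G G ℂ) :
    Matrix (G ⧸ Subgroup.zpowers u) (G ⧸ Subgroup.zpowers u) ℂ :=
  rhoMat u * X * iotaMat u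

theorem rhoMat_mul_apply {m : Type*} [Fintype m] (Z : Matrix G m ℂ) (a : G ⧸ Subgroup.zpowers u)
    (b : m) : (rhoMat u * Z) a b = Z (Quotient.out a) b := by
  rw [Matrix.mul_apply]
  unfold rhoMat
  rw [Finset.sum_eq_single (Quotient.out a)]
  · simp
  · intro g _ hg
    simp [hg]
  · intro h
    exact absurd (Finset.mem_univ _) h

theorem mul_iotaMat_apply {m : Type*} [Fintype m] (Z : Matrix m G ℂ) (a : m)
    (b : G ⧸ Subgroup.zpowers u) :
    (Z * iotaMat u) a b = ∑ t ∈ Finset.univ.filter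
      (fun t : G => (QuotientGroup.mk t : G ⧸ Subgroup.zpowers u) = b), Z a t := by
  classical
  rw [Matrix.mul_apply, Finset.sum_filter]
  apply Finset.sum_congr rfl
  intro t _
  unfold iotaMat
  split_ifs with h
  · simp only [mul_one]
  · simp only [mul_zero]

theorem iotaMat_mul_apply {m : Type*} [Fintype m] (Z : Matrix (G ⧸ Subgroup.zpowers u) m ℂ)
    (g : G) (b : m) : (iotaMat u * Z) g b = Z (QuotientGroup.mk g) b := by
  classical
  rw [Matrix.mul_apply]
  unfold iotaMat
  rw [Finset.sum_eq_single (QuotientGroup.mk g : G ⧸ Subgroup.zpowers u)]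
  · simp
  · intro a _ ha
    have : ¬ ((QuotientGroup.mk g : G ⧸ Subgroup.zpowers u) = a) := fun h => ha h.symm
    simp [this]
  · intro h
    exact absurd (Finset.mem_univ _) h

theorem quotMat_apply (X : Matrix G G ℂ) (a b : G ⧸ Subgroup.zpowers u) :
    quotMat u X a b = ∑ t ∈ Finset.univ.filter
      (fun t : G => (QuotientGroup.mk t : G ⧸ Subgroup.zpowers u) = b), X (Quotient.out a) t := by
  unfold quotMat
  rw [mul_iotaMat_apply, ]
  apply Finset.sum_congr rfl
  intro t _
  rw [rhoMat_mul_apply]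

theorem out_mk_eq_mul (g : G) : ∃ w ∈ Subgroup.zpowers u,
    Quotient.out (QuotientGroup.mk g : G ⧸ Subgroup.zpowers u) = g * w := by
  obtain ⟨h, hh⟩ := QuotientGroup.mk_out_eq_mul (Subgroup.zpowers u) g
  exact ⟨h, h.2, hh⟩

theorem mul_iotaMat_inv {Y : Matrix G G ℂ} (hY : UInv u Y) (g w : G)
    (hw : w ∈ Subgroup.zpowers u) (b : G ⧸ Subgroup.zpowers u) :
    (Y * iotaMat u) (g * w) b = (Y * iotaMat u) g b := by
  classical
  rw [mul_iotaMat_apply, mul_iotaMat_apply]
  apply Finset.sum_bij (fun t _ => t * w⁻¹)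
  · intro t ht
    simp only [Finset.mem_filter, Finset.mem_univ, true_and] at ht ⊢
    rw [← ht]
    rw [QuotientGroup.eq]
    have : (t * w⁻¹)⁻¹ * t = w := by group
    rw [this]
    exact hw
  · intro t₁ _ t₂ _ h
    exact mul_right_cancel h
  · intro t ht
    refine ⟨t * w, ?_, by group⟩
    simp only [Finset.mem_filter, Finset.mem_univ, true_and] at ht ⊢
    rw [← ht, QuotientGroup.eq]
    have : (t * w)⁻¹ * t = w⁻¹ := by group
    rw [this]
    exact (Subgroup.zpowers u).inv_mem hw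
  · intro t _
    have := hY.of_mem_zpowers hw g (t * w⁻¹)
    rw [← this]
    congr 1
    group

theorem iota_rho_mul {Y : Matrix G G ℂ} (hY : UInv u Y) :
    iotaMat u * (rhoMat u * (Y * iotaMat u)) = Y * iotaMat u := by
  ext g b
  rw [iotaMat_mul_apply, rhoMat_mul_apply]
  obtain ⟨w, hw, hout⟩ := out_mk_eq_mul u g
  rw [hout]
  exact mul_iotaMat_inv u hY g w hw b

theorem quotMat_mul (X : Matrix G G ℂ) {Y : Matrix G G ℂ} (hY : UInv u Y) :
    quotMat u (X * Y) = quotMat u X * quotMat u Y := by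
  unfold quotMat
  have h := iota_rho_mul u hY
  calc rhoMat u * (X * Y) * iotaMat u = rhoMat u * X * (Y * iotaMat u) := by
        simp only [Matrix.mul_assoc]
    _ = rhoMat u * X * (iotaMat u * (rhoMat u * (Y * iotaMat u))) := by rw [h]
    _ = rhoMat u * X * iotaMat u * (rhoMat u * Y * iotaMat u) := by
        simp only [Matrix.mul_assoc]

/-- sums over a coset, parametrised by powers of `u` -/
theorem sum_coset_eq_sum_range (a : G ⧸ Subgroup.zpowers u) (f : G → ℂ) :
    ∑ t ∈ Finset.univ.filter (fun t : G => (QuotientGroup.mk t : G ⧸ Subgroup.zpowers u) = a), f t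
      = ∑ i ∈ Finset.range (orderOf u), f (Quotient.out a * u ^ i) := by
  classical
  symm
  apply Finset.sum_bij (fun i _ => Quotient.out a * u ^ i)
  · intro i _
    simp only [Finset.mem_filter, Finset.mem_univ, true_and]
    have h1 : (QuotientGroup.mk (Quotient.out a) : G ⧸ Subgroup.zpowers u) = a :=
      QuotientGroup.out_eq' a
    have h2 : (QuotientGroup.mk (Quotient.out a * u ^ i) : G ⧸ Subgroup.zpowers u)
        = QuotientGroup.mk (Quotient.out a) := by
      rw [QuotientGroup.eq]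
      have : (Quotient.out a * u ^ i)⁻¹ * Quotient.out a = (u ^ i)⁻¹ := by group
      rw [this]
      exact (Subgroup.zpowers u).inv_mem (Subgroup.npow_mem_zpowers u i)
    rw [h2, h1]
  · intro i hi j hj h
    have h2 : u ^ i = u ^ j := mul_left_cancel h
    exact pow_injOn_Iio_orderOf (Finset.mem_range.mp hi) (Finset.mem_range.mp hj) h2
  · intro t ht
    simp only [Finset.mem_filter, Finset.mem_univ, true_and] at ht
    have h1 : (QuotientGroup.mk (Quotient.out a) : G ⧸ Subgroup.zpowers u) = a :=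
      QuotientGroup.out_eq' a
    have h2 : (Quotient.out a)⁻¹ * t ∈ Subgroup.zpowers u := by
      rw [← QuotientGroup.eq, h1, ht]
    rw [mem_zpowers_iff_mem_range_orderOf] at h2
    obtain ⟨i, hi, hi2⟩ := Finset.mem_image.mp h2
    refine ⟨i, hi, ?_⟩
    rw [hi2]
    group
  · intro i _
    rfl

theorem trace_quotMat (X : Matrix G G ℂ) :
    (quotMat u X).trace = ∑ a : G ⧸ Subgroup.zpowers u, ∑ i ∈ Finset.range (orderOf u),
      X (Quotient.out a) (Quotient.out a * u ^ i) := by
  unfold Matrix.trace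
  apply Finset.sum_congr rfl
  intro a _
  rw [Matrix.diag_apply, quotMat_apply, sum_coset_eq_sum_range]

theorem sum_eq_sum_cosets (f : G → ℂ) :
    ∑ s : G, f s = ∑ a : G ⧸ Subgroup.zpowers u, ∑ i ∈ Finset.range (orderOf u),
      f (Quotient.out a * u ^ i) := by
  classical
  rw [← Finset.sum_fiberwise (Finset.univ : Finset G)
    (fun g => (QuotientGroup.mk g : G ⧸ Subgroup.zpowers u)) f]
  apply Finset.sum_congr rfl
  intro a _
  rw [sum_coset_eq_sum_range]

end

section twist

variable {G : Type*} [Group G] [Fintype G] [DecidableEq G] (u : G)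
  (lam : Subgroup.zpowers u →* ℂˣ)

theorem out_inv_mul_mem (g : G) :
    (Quotient.out (QuotientGroup.mk g : G ⧸ Subgroup.zpowers u))⁻¹ * g ∈ Subgroup.zpowers u :=
  QuotientGroup.eq.mp (QuotientGroup.out_eq' _)

/-- a function on `G` transforming by `lam` under right translation by `zpowers u` -/
noncomputable def twistFun (g : G) : ℂˣ :=
  lam ⟨(Quotient.out (QuotientGroup.mk g : G ⧸ Subgroup.zpowers u))⁻¹ * g, out_inv_mul_mem u g⟩

theorem twistFun_mul (g w : G) (hw : w ∈ Subgroup.zpowers u) :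
    twistFun u lam (g * w) = twistFun u lam g * lam ⟨w, hw⟩ := by
  unfold twistFun
  rw [← map_mul]
  congr 1
  apply Subtype.ext
  have hmk : (QuotientGroup.mk (g * w) : G ⧸ Subgroup.zpowers u) = QuotientGroup.mk g := by
    rw [QuotientGroup.eq]
    have : (g * w)⁻¹ * g = w⁻¹ := by group
    rw [this]
    exact (Subgroup.zpowers u).inv_mem hw
  simp only [Subgroup.coe_mul]
  rw [hmk]
  group

/-- conjugation by the diagonal matrix of the twisting function -/
noncomputable def twMat (X : Matrix G G ℂ) : Matrix G G ℂ :=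
  fun s t => ((twistFun u lam s : ℂˣ) : ℂ) * X s t * (((twistFun u lam t)⁻¹ : ℂˣ) : ℂ)

theorem twMat_apply (X : Matrix G G ℂ) (s t : G) : twMat u lam X s t
    = ((twistFun u lam s : ℂˣ) : ℂ) * X s t * (((twistFun u lam t)⁻¹ : ℂˣ) : ℂ) := rfl

theorem twMat_mul (X Y : Matrix G G ℂ) : twMat u lam (X * Y) = twMat u lam X * twMat u lam Y := by
  ext s t
  rw [Matrix.mul_apply]
  simp only [twMat_apply]
  rw [Matrix.mul_apply, Finset.mul_sum, Finset.sum_mul]
  apply Finset.sum_congr rfl
  intro k _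
  have h : (((twistFun u lam k)⁻¹ : ℂˣ) : ℂ) * ((twistFun u lam k : ℂˣ) : ℂ) = 1 := by
    rw [← Units.val_mul, inv_mul_cancel, Units.val_one]
  calc ((twistFun u lam s : ℂˣ) : ℂ) * (X s k * Y k t) * (((twistFun u lam t)⁻¹ : ℂˣ) : ℂ)
      = ((twistFun u lam s : ℂˣ) : ℂ) * X s k * 1 * Y k t * (((twistFun u lam t)⁻¹ : ℂˣ) : ℂ) := by
        ring
    _ = _ := by rw [← h]; ring

theorem twMat_uInv {X : Matrix G G ℂ} (hX : UInv u X) : UInv u (twMat u lam X) := by
  intro s t
  simp only [twMat_apply]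
  have hu : u ∈ Subgroup.zpowers u := Subgroup.mem_zpowers u
  rw [twistFun_mul u lam s u hu, twistFun_mul u lam t u hu, hX s t]
  rw [mul_inv, Units.val_mul, Units.val_mul]
  have h : ((lam ⟨u, hu⟩ : ℂˣ) : ℂ) * (((lam ⟨u, hu⟩)⁻¹ : ℂˣ) : ℂ) = 1 := by
    rw [← Units.val_mul, mul_inv_cancel, Units.val_one]
  calc ((twistFun u lam s : ℂˣ) : ℂ) * ((lam ⟨u, hu⟩ : ℂˣ) : ℂ) * X s t
        * ((((twistFun u lam t)⁻¹ : ℂˣ) : ℂ) * (((lam ⟨u, hu⟩)⁻¹ : ℂˣ) : ℂ))
      = ((twistFun u lam s : ℂˣ) : ℂ) * X s t * (((twistFun u lam t)⁻¹ : ℂˣ) : ℂ)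
        * (((lam ⟨u, hu⟩ : ℂˣ) : ℂ) * (((lam ⟨u, hu⟩)⁻¹ : ℂˣ) : ℂ)) := by ring
    _ = _ := by rw [h, mul_one]

theorem lam_pow_orderOf (x : Subgroup.zpowers u) : (lam x) ^ (orderOf u) = 1 := by
  rw [← map_pow]
  have : x ^ orderOf u = 1 := by
    apply Subtype.ext
    rw [Subgroup.coe_pow, Subgroup.coe_one]
    obtain ⟨n, hn⟩ := Subgroup.mem_zpowers_iff.mp x.2
    rw [← hn, ← zpow_natCast, ← zpow_mul, mul_comm, zpow_mul, zpow_natCast, pow_orderOf_eq_one,
      one_zpow]
  rw [this, map_one]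

theorem twistFun_pow_orderOf (g : G) : ((twistFun u lam g : ℂˣ) : ℂ) ^ (orderOf u) = 1 := by
  unfold twistFun
  rw [← Units.val_pow_eq_pow_val, lam_pow_orderOf, Units.val_one]

theorem twistFun_inv_pow_orderOf (g : G) :
    (((twistFun u lam g)⁻¹ : ℂˣ) : ℂ) ^ (orderOf u) = 1 := by
  unfold twistFun
  rw [← Units.val_pow_eq_pow_val, inv_pow, lam_pow_orderOf, inv_one, Units.val_one]

end twist

end Cfsg.Agent.Lib.Helper6
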