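import Mathlib
import Cfsg.Prelude.Def_Blocks
import Cfsg.Agent.Lib.Helper6.BlkProj

set_option autoImplicit false
set_option linter.unusedSectionVars false
open Cfsg

namespace Cfsg.Agent.Lib.Helper6

section

variable {G : Type*} [Group G] [Fintype G] [DecidableEq G]
variable {p : ℕ} {M : Ideal Cfsg.AlgInt}

theorem isIntegral_of_pow_eq_one {z : ℂ} {n : ℕ} (hn : 0 < n) (hz : z ^ n = 1) :
    IsIntegral ℤ z := by
  refine ⟨Polynomial.X ^ n - 1, ?_, ?_⟩
  · exact Polynomial.monic_X_pow_sub_C (1 : ℤ) hn.ne'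
  · simp [hz]

/-- the coset-diagonal sums of a matrix -/
noncomputable def cosetDiag (u : G) (P : Matrix G G ℂ) (j : ℕ) : ℂ :=
  ∑ a : G ⧸ Subgroup.zpowers u, P (Quotient.out a) (Quotient.out a * u ^ j)

theorem trace_quotMat_eq (u : G) (P : Matrix G G ℂ) :
    (quotMat u P).trace = ∑ j ∈ Finset.range (orderOf u), cosetDiag u P j := by
  rw [trace_quotMat, Finset.sum_comm]
  rfl

theorem sum_shift_eq (u : G) {P : Matrix G G ℂ} (hP : UInv u P) (i : ℕ) :
    ∑ s : G, P s (s * u ^ i) = (orderOf u : ℂ) * cosetDiag u P i := by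
  rw [sum_eq_sum_cosets u]
  unfold cosetDiag
  rw [Finset.mul_sum]
  apply Finset.sum_congr rfl
  intro a _
  have h : ∀ j : ℕ, P (Quotient.out a * u ^ j) (Quotient.out a * u ^ j * u ^ i)
      = P (Quotient.out a) (Quotient.out a * u ^ i) := by
    intro j
    have := hP.pow j (Quotient.out a) (Quotient.out a * u ^ i)
    rw [← this]
    congr 1
    rw [mul_assoc, mul_assoc, ← pow_add, ← pow_add, add_comm]
  simp only [h]
  rw [Finset.sum_const, Finset.card_range, nsmul_eq_mul]

/-- the key vanishing statement: an idempotent with local-integral entries commuting with a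
free action of a cyclic `p`-group has vanishing off-diagonal orbit traces -/
theorem sum_shift_eq_zero (hM : Cfsg.IsPModular p M) {u : G} {k : ℕ} (hu : orderOf u = p ^ k)
    {P : Matrix G G ℂ} (hP : P * P = P) (hPs : ∀ s t, Cfsg.MemLocalRing M (P s t))
    (hPu : UInv u P) (i : ℕ) (hi : 0 < i) (hi' : i < orderOf u) :
    ∑ s : G, P s (s * u ^ i) = 0 := by
  classical
  set q := orderOf u with hq
  have hqpos : 0 < q := orderOf_pos u
  -- step 1
  have hstep1 : ∀ z : ℂ, z ^ q = 1 →
      ∑ j ∈ Finset.range q, cosetDiag u P j * z ^ j = ∑ j ∈ Finset.range q, cosetDiag u P j := by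
    intro z hz
    have hz0 : z ≠ 0 := by
      rintro rfl
      rw [zero_pow hqpos.ne'] at hz
      exact zero_ne_one hz
    let zU : ℂˣ := Units.mk0 z hz0
    have hzU : zU ^ q = 1 := by
      apply Units.ext
      rw [Units.val_pow_eq_pow_val, Units.val_one]
      exact hz
    let gen : Subgroup.zpowers u := ⟨u, Subgroup.mem_zpowers u⟩
    have hgen : ∀ x : Subgroup.zpowers u, x ∈ Subgroup.zpowers gen := by
      intro x
      obtain ⟨n, hn⟩ := Subgroup.mem_zpowers_iff.mp x.2
      rw [Subgroup.mem_zpowers_iff]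
      refine ⟨n, ?_⟩
      apply Subtype.ext
      rw [Subgroup.coe_zpow]
      exact hn
    have hordgen : orderOf gen = q := by
      have := Subgroup.orderOf_coe gen
      rw [← this]
    have hdvd : orderOf (zU⁻¹) ∣ orderOf gen := by
      rw [hordgen]
      apply orderOf_dvd_of_pow_eq_one
      rw [inv_pow, hzU, inv_one]
    let lam : Subgroup.zpowers u →* ℂˣ := monoidHomOfForallMemZpowers hgen hdvd
    have hlamgen : lam gen = zU⁻¹ := monoidHomOfForallMemZpowers_apply_gen hgen hdvd
    set P' := twMat u lam P with hP'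
    have hP'idem : P' * P' = P' := by
      rw [hP', ← twMat_mul, hP]
    have hP'u : UInv u P' := twMat_uInv u lam hPu
    have hQ : quotMat u P * quotMat u P = quotMat u P := by
      rw [← quotMat_mul u P hPu, hP]
    have hQ' : quotMat u P' * quotMat u P' = quotMat u P' := by
      rw [← quotMat_mul u P' hP'u, hP'idem]
    have hθS : ∀ g : G, Cfsg.MemLocalRing M ((twistFun u lam g : ℂˣ) : ℂ) := fun g =>
      memLocalRing_of_isIntegral hM (isIntegral_of_pow_eq_one hqpos (twistFun_pow_orderOf u lam g))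
    have hθS' : ∀ g : G, Cfsg.MemLocalRing M (((twistFun u lam g)⁻¹ : ℂˣ) : ℂ) := fun g =>
      memLocalRing_of_isIntegral hM
        (isIntegral_of_pow_eq_one hqpos (twistFun_inv_pow_orderOf u lam g))
    have hP's : ∀ s t, Cfsg.MemLocalRing M (P' s t) := by
      intro s t
      rw [hP', twMat_apply]
      exact MemLocalRing.mul hM (MemLocalRing.mul hM (hθS s) (hPs s t)) (hθS' t)
    have hP'c : ∀ s t, Cfsg.MemLocalIdeal M (P' s t - P s t) := by
      intro s t
      rw [hP', twMat_apply]
      have h1 : ((twistFun u lam s : ℂˣ) : ℂ) * P s t * (((twistFun u lam t)⁻¹ : ℂˣ) : ℂ) - P s t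
          = (((twistFun u lam s : ℂˣ) : ℂ) * (((twistFun u lam t)⁻¹ : ℂˣ) : ℂ) - 1) * P s t := by
        ring
      rw [h1]
      apply MemLocalIdeal.mul_right hM _ (hPs s t)
      apply memLocalIdeal_sub_one_of_pow_eq_one hM (k := k)
      rw [← hu, mul_pow, twistFun_pow_orderOf, twistFun_inv_pow_orderOf, one_mul]
    have hQs : ∀ a b, Cfsg.MemLocalRing M (quotMat u P a b) := by
      intro a b
      rw [quotMat_apply]
      exact MemLocalRing.sum hM _ _ (fun t _ => hPs _ _)
    have hQ's : ∀ a b, Cfsg.MemLocalRing M (quotMat u P' a b) := by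
      intro a b
      rw [quotMat_apply]
      exact MemLocalRing.sum hM _ _ (fun t _ => hP's _ _)
    have hQc : ∀ a b, Cfsg.MemLocalIdeal M (quotMat u P' a b - quotMat u P a b) := by
      intro a b
      rw [quotMat_apply, quotMat_apply, ← Finset.sum_sub_distrib]
      exact MemLocalIdeal.sum hM _ _ (fun t _ => hP'c _ _)
    have htr := trace_eq_of_idem_congr hM (quotMat u P) (quotMat u P') hQ hQ' hQs hQ's hQc
    rw [trace_quotMat_eq, trace_quotMat_eq] at htr
    rw [← htr]
    apply Finset.sum_congr rfl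
    intro j _
    unfold cosetDiag
    rw [Finset.sum_mul]
    apply Finset.sum_congr rfl
    intro a _
    rw [hP', twMat_apply]
    have hmem : u ^ j ∈ Subgroup.zpowers u := Subgroup.npow_mem_zpowers u j
    rw [twistFun_mul u lam (Quotient.out a) (u ^ j) hmem]
    have hpow : (⟨u ^ j, hmem⟩ : Subgroup.zpowers u) = gen ^ j := by
      apply Subtype.ext
      rw [Subgroup.coe_pow]
    rw [hpow, map_pow, hlamgen, mul_inv, Units.val_mul, inv_pow, inv_inv,
      Units.val_pow_eq_pow_val]
    have h2 : ((twistFun u lam (Quotient.out a) : ℂˣ) : ℂ)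
        * (((twistFun u lam (Quotient.out a))⁻¹ : ℂˣ) : ℂ) = 1 := by
      rw [← Units.val_mul, mul_inv_cancel, Units.val_one]
    have hzUval : (zU : ℂ) = z := rfl
    rw [hzUval]
    symm
    calc ((twistFun u lam (Quotient.out a) : ℂˣ) : ℂ) * P (Quotient.out a) (Quotient.out a * u ^ j)
          * ((((twistFun u lam (Quotient.out a))⁻¹ : ℂˣ) : ℂ) * z ^ j)
        = (((twistFun u lam (Quotient.out a) : ℂˣ) : ℂ)
          * (((twistFun u lam (Quotient.out a))⁻¹ : ℂˣ) : ℂ))
          * (P (Quotient.out a) (Quotient.out a * u ^ j) * z ^ j) := by ring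
      _ = _ := by rw [h2, one_mul]
  -- step 2
  let c : ℕ → ℂ := fun j =>
    if j = 0 then cosetDiag u P 0 - ∑ j ∈ Finset.range q, cosetDiag u P j else cosetDiag u P j
  have hc : ∀ z : ℂ, z ^ q = 1 → ∑ j ∈ Finset.range q, c j * z ^ j = 0 := by
    intro z hz
    have h1 := hstep1 z hz
    have h2 : ∑ j ∈ Finset.range q, c j * z ^ j
        = ∑ j ∈ Finset.range q, cosetDiag u P j * z ^ j
          - ∑ j ∈ Finset.range q, cosetDiag u P j := by
      have h3 : ∀ j ∈ Finset.range q, c j * z ^ j = cosetDiag u P j * z ^ j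
          - (if j = 0 then ∑ j ∈ Finset.range q, cosetDiag u P j else 0) := by
        intro j _
        simp only [c]
        split_ifs with hj
        · rw [hj]; ring
        · ring
      rw [Finset.sum_congr rfl h3, Finset.sum_sub_distrib]
      congr 1
      rw [Finset.sum_ite_eq' (Finset.range q) 0]
      rw [if_pos (Finset.mem_range.mpr hqpos)]
    rw [h2, h1, sub_self]
  have hci := coeff_eq_zero_of_forall_root_of_unity hqpos c hc i hi'
  have hTi : cosetDiag u P i = 0 := by
    simp only [c] at hci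
    rw [if_neg hi.ne'] at hci
    exact hci
  rw [sum_shift_eq u hPu i, hTi, mul_zero]

end

end Cfsg.Agent.Lib.Helper6
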