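import Mathlib
import Cfsg.Prelude.Def_Blocks
import Cfsg.Agent.Lib.Helper6.BlkProj2
import Cfsg.Agent.Lib.Helper6.BlkCenter

set_option autoImplicit false
set_option linter.unusedSectionVars false
open Cfsg

namespace Cfsg.Agent.Lib.Helper6

open scoped ComplexConjugate

section

variable {G : Type*} [Group G] [Fintype G] [DecidableEq G]
variable {p : ℕ} {M : Ideal Cfsg.AlgInt}

theorem uInv_one (u : G) : UInv u (1 : Matrix G G ℂ) := by
  intro s t
  simp [Matrix.one_apply]

theorem UInv.add {u : G} {X Y : Matrix G G ℂ} (hX : UInv u X) (hY : UInv u Y) :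
    UInv u (X + Y) := by
  intro s t
  simp [Matrix.add_apply, hX s t, hY s t]

theorem UInv.smul {u : G} (c : ℂ) {X : Matrix G G ℂ} (hX : UInv u X) : UInv u (c • X) := by
  intro s t
  simp [Matrix.smul_apply, hX s t]

/-- the algebra of matrices invariant under right translation by `u` -/
def uInvAlg (u : G) : Subalgebra ℂ (Matrix G G ℂ) where
  carrier := {X | UInv u X}
  mul_mem' := fun ha hb => UInv.mul ha hb
  one_mem' := uInv_one u
  add_mem' := fun ha hb => UInv.add ha hb
  zero_mem' := fun _ _ => rfl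
  algebraMap_mem' := fun c => by
    rw [Algebra.algebraMap_eq_smul_one]
    exact UInv.smul c (uInv_one u)

theorem mem_uInvAlg (u : G) (X : Matrix G G ℂ) : X ∈ uInvAlg u ↔ UInv u X := Iff.rfl

theorem RInv.uInv {X : Matrix G G ℂ} (hX : RInv X) (u : G) : UInv u X := fun s t => hX u s t

/-- the averaging projector of a matrix of finite order -/
noncomputable def avgProj (V : Matrix G G ℂ) (m : ℕ) : Matrix G G ℂ :=
  (m : ℂ)⁻¹ • ∑ j ∈ Finset.range m, V ^ j

theorem mul_avgProj {V : Matrix G G ℂ} {m : ℕ} (hV : V ^ m = 1) : V * avgProj V m = avgProj V m := by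
  unfold avgProj
  rw [Matrix.mul_smul]
  congr 1
  have h := mul_geom_sum V m
  rw [hV, sub_self, sub_mul, one_mul, sub_eq_zero] at h
  exact h

theorem pow_mul_avgProj {V : Matrix G G ℂ} {m : ℕ} (hV : V ^ m = 1) (j : ℕ) :
    V ^ j * avgProj V m = avgProj V m := by
  induction j with
  | zero => simp
  | succ j ih => rw [pow_succ, mul_assoc, mul_avgProj hV, ih]

theorem avgProj_idem {V : Matrix G G ℂ} {m : ℕ} (hm : 0 < m) (hV : V ^ m = 1) :
    avgProj V m * avgProj V m = avgProj V m := by
  have hm0 : (m : ℂ) ≠ 0 := by exact_mod_cast hm.ne'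
  calc avgProj V m * avgProj V m
      = ((m : ℂ)⁻¹ • ∑ j ∈ Finset.range m, V ^ j) * avgProj V m := rfl
    _ = (m : ℂ)⁻¹ • ∑ j ∈ Finset.range m, V ^ j * avgProj V m := by
        rw [Matrix.smul_mul, Finset.sum_mul]
    _ = (m : ℂ)⁻¹ • ∑ _j ∈ Finset.range m, avgProj V m := by
        congr 1
        apply Finset.sum_congr rfl
        intro j _
        exact pow_mul_avgProj hV j
    _ = avgProj V m := by
        rw [Finset.sum_const, Finset.card_range, ← Nat.cast_smul_eq_nsmul ℂ, smul_smul,
          inv_mul_cancel₀ hm0, one_smul]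

/-- shift vanishing with a twist of order prime to `p` -/
theorem sum_shift_twist_eq_zero (hM : Cfsg.IsPModular p M) {u : G} {k : ℕ}
    (hu : orderOf u = p ^ k) {E W : Matrix G G ℂ} (hE : E * E = E) (hEs : E ∈ sMat hM G)
    (hEu : UInv u E) {m : ℕ} (hm : 0 < m) (hmp : ¬ p ∣ m) (hW : W ^ m = 1) (hWs : W ∈ sMat hM G)
    (hWu : UInv u W) (hWE : W * E = E * W) (i : ℕ) (hi : 0 < i) (hi' : i < orderOf u) :
    ∑ s : G, (W * E) s (s * u ^ i) = 0 := by
  have hm0 : (m : ℂ) ≠ 0 := by exact_mod_cast hm.ne'
  have hcomm : ∀ j : ℕ, W ^ j * E = E * W ^ j := by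
    intro j
    induction j with
    | zero => simp
    | succ j ih => rw [pow_succ, mul_assoc, hWE, ← mul_assoc, ih, mul_assoc]
  -- the linear functional
  let τ : Matrix G G ℂ → ℂ := fun A => ∑ s : G, A s (s * u ^ i)
  have hτadd : ∀ (t : Finset ℕ) (f : ℕ → Matrix G G ℂ), τ (∑ j ∈ t, f j) = ∑ j ∈ t, τ (f j) := by
    intro t f
    simp only [τ, Matrix.sum_apply]
    rw [Finset.sum_comm]
  have hτsmul : ∀ (c : ℂ) (A : Matrix G G ℂ), τ (c • A) = c * τ A := by
    intro c A
    simp only [τ, Matrix.smul_apply, smul_eq_mul]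
    rw [Finset.mul_sum]
  let c : ℕ → ℂ := fun j => τ (W ^ j * E)
  have hc : ∀ z : ℂ, z ^ m = 1 → ∑ j ∈ Finset.range m, c j * z ^ j = 0 := by
    intro z hz
    set V : Matrix G G ℂ := z • W with hVdef
    have hVpow : ∀ j : ℕ, V ^ j = z ^ j • W ^ j := by
      intro j
      rw [hVdef, smul_pow]
    have hVm : V ^ m = 1 := by rw [hVpow, hz, hW, one_smul]
    have hQidem := avgProj_idem hm hVm
    have hVE : ∀ j : ℕ, V ^ j * E = E * V ^ j := by
      intro j
      rw [hVpow, Matrix.smul_mul, Matrix.mul_smul, hcomm]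
    have hQE : avgProj V m * E = E * avgProj V m := by
      unfold avgProj
      rw [Matrix.smul_mul, Matrix.mul_smul, Finset.sum_mul, Finset.mul_sum]
      congr 1
      apply Finset.sum_congr rfl
      intro j _
      exact hVE j
    have hPidem : (avgProj V m * E) * (avgProj V m * E) = avgProj V m * E := by
      calc (avgProj V m * E) * (avgProj V m * E)
          = avgProj V m * (E * avgProj V m) * E := by simp only [mul_assoc]
        _ = avgProj V m * (avgProj V m * E) * E := by rw [hQE]
        _ = (avgProj V m * avgProj V m) * (E * E) := by simp only [mul_assoc]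
        _ = avgProj V m * E := by rw [hQidem, hE]
    have hzint : IsIntegral ℤ z := isIntegral_of_pow_eq_one hm hz
    have hVs : V ∈ sMat hM G := smul_mem_sMat hM (memLocalRing_of_isIntegral hM hzint) hWs
    have hQs : avgProj V m ∈ sMat hM G := by
      unfold avgProj
      apply smul_mem_sMat hM (memLocalRing_inv_natCast hM hmp)
      apply (sMat hM G).sum_mem
      intro j _
      exact (sMat hM G).pow_mem hVs j
    have hPs : avgProj V m * E ∈ sMat hM G := (sMat hM G).mul_mem hQs hEs
    have hVu : V ∈ uInvAlg u := (uInvAlg u).smul_mem hWu z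
    have hQu : avgProj V m ∈ uInvAlg u := by
      unfold avgProj
      apply (uInvAlg u).smul_mem
      apply (uInvAlg u).sum_mem
      intro j _
      exact (uInvAlg u).pow_mem hVu j
    have hPu : UInv u (avgProj V m * E) := (uInvAlg u).mul_mem hQu hEu
    have h0 := sum_shift_eq_zero hM hu hPidem hPs hPu i hi hi'
    have h1 : τ (avgProj V m * E) = 0 := h0
    have h2 : avgProj V m * E = (m : ℂ)⁻¹ • ∑ j ∈ Finset.range m, z ^ j • (W ^ j * E) := by
      unfold avgProj
      rw [Matrix.smul_mul, Finset.sum_mul]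
      congr 1
      apply Finset.sum_congr rfl
      intro j _
      rw [hVpow, Matrix.smul_mul]
    rw [h2, hτsmul, hτadd] at h1
    simp only [hτsmul] at h1
    have h3 : ∑ j ∈ Finset.range m, z ^ j * τ (W ^ j * E) = 0 := by
      rcases mul_eq_zero.mp h1 with h | h
      · exact absurd (inv_eq_zero.mp h) hm0
      · exact h
    rw [← h3]
    apply Finset.sum_congr rfl
    intro j _
    simp only [c]
    ring
  have hcj := coeff_eq_zero_of_forall_root_of_unity hm c hc (1 % m) (Nat.mod_lt 1 hm)
  have hW1 : W ^ (1 % m) = W := by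
    rw [← pow_eq_pow_mod 1 hW, pow_one]
  simp only [c, hW1] at hcj
  exact hcj

end

end Cfsg.Agent.Lib.Helper6
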