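import Mathlib
import Cfsg.Prelude.Def_Blocks
import Cfsg.Agent.Lib.Helper6.BlkOrth
import Cfsg.Agent.Lib.Helper6.Auto

set_option autoImplicit false
set_option linter.unusedSectionVars false
open Cfsg

namespace Cfsg.Agent.Lib.Helper6

open scoped ComplexConjugate

section

variable {G : Type*} [Group G]

/-- decomposition into commuting `p'`- and `p`-parts -/
theorem exists_pParts [Finite G] (p : ℕ) (hp : p.Prime) (g : G) :
    ∃ v ∈ Subgroup.zpowers g, ∃ u ∈ Subgroup.zpowers g,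
      g = v * u ∧ ¬ p ∣ orderOf v ∧ ∃ k : ℕ, orderOf u = p ^ k := by
  have hn : orderOf g ≠ 0 := (orderOf_pos g).ne'
  obtain ⟨k, m, hm, hnm⟩ := Nat.exists_eq_pow_mul_and_not_dvd hn p hp.ne_one
  have hcop : Nat.Coprime (p ^ k) m :=
    Nat.Coprime.pow_left k ((hp.coprime_iff_not_dvd).mpr hm)
  have hb := Nat.gcd_eq_gcd_ab (p ^ k) m
  rw [hcop] at hb
  set A := Nat.gcdA (p ^ k) m
  set B := Nat.gcdB (p ^ k) m
  have hgm : g ^ (p ^ k * m) = 1 := by rw [← hnm]; exact pow_orderOf_eq_one g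
  refine ⟨g ^ (((p ^ k : ℕ) : ℤ) * A), ⟨_, rfl⟩, g ^ ((m : ℤ) * B), ⟨_, rfl⟩, ?_, ?_, ?_⟩
  · rw [← zpow_add, ← hb]; simp
  · have h1 : (g ^ (((p ^ k : ℕ) : ℤ) * A)) ^ m = 1 := by
      rw [← zpow_natCast, ← zpow_mul]
      have : ((p ^ k : ℕ) : ℤ) * A * (m : ℤ) = ((p ^ k * m : ℕ) : ℤ) * A := by push_cast; ring
      rw [this, zpow_mul, zpow_natCast, hgm, one_zpow]
    have h2 : orderOf (g ^ (((p ^ k : ℕ) : ℤ) * A)) ∣ m := orderOf_dvd_of_pow_eq_one h1
    intro h3
    exact hm (h3.trans h2)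
  · have h1 : (g ^ ((m : ℤ) * B)) ^ (p ^ k) = 1 := by
      rw [← zpow_natCast, ← zpow_mul]
      have : (m : ℤ) * B * ((p ^ k : ℕ) : ℤ) = ((p ^ k * m : ℕ) : ℤ) * B := by push_cast; ring
      rw [this, zpow_mul, zpow_natCast, hgm, one_zpow]
    have h2 : orderOf (g ^ ((m : ℤ) * B)) ∣ p ^ k := orderOf_dvd_of_pow_eq_one h1
    obtain ⟨j, _, hj⟩ := (Nat.dvd_prime_pow hp).mp h2
    exact ⟨j, hj⟩

end

section

variable {G : Type*} [Group G] [Fintype G] [DecidableEq G]
variable {p : ℕ} {M : Ideal Cfsg.AlgInt}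

/-- permutation matrix of `s ↦ x⁻¹ * s * v` -/
def twoSidedMat (x v : G) : Matrix G G ℂ := fun s k => if k = x⁻¹ * s * v then 1 else 0

theorem twoSidedMat_mul_apply (x v : G) (A : Matrix G G ℂ) (s t : G) :
    (twoSidedMat x v * A) s t = A (x⁻¹ * s * v) t := by
  rw [Matrix.mul_apply]
  unfold twoSidedMat
  rw [Finset.sum_eq_single (x⁻¹ * s * v)]
  · simp
  · intro k _ hk
    simp [hk]
  · intro h
    exact absurd (Finset.mem_univ _) h

theorem mul_twoSidedMat_apply (x v : G) (A : Matrix G G ℂ) (s t : G) :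
    (A * twoSidedMat x v) s t = A s (x * t * v⁻¹) := by
  rw [Matrix.mul_apply]
  unfold twoSidedMat
  rw [Finset.sum_eq_single (x * t * v⁻¹)]
  · have : t = x⁻¹ * (x * t * v⁻¹) * v := by group
    rw [if_pos this, mul_one]
  · intro k _ hk
    have : ¬ (t = x⁻¹ * k * v) := by
      intro h
      apply hk
      rw [h]
      group
    rw [if_neg this, mul_zero]
  · intro h
    exact absurd (Finset.mem_univ _) h

theorem twoSidedMat_one_one : twoSidedMat (1 : G) 1 = 1 := by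
  ext s k
  unfold twoSidedMat
  rw [Matrix.one_apply]
  simp only [inv_one, one_mul, mul_one]
  by_cases h : s = k
  · rw [if_pos h, if_pos h.symm]
  · rw [if_neg h, if_neg (fun h' => h h'.symm)]

theorem twoSidedMat_pow (x v : G) (j : ℕ) :
    (twoSidedMat x v) ^ j = twoSidedMat (x ^ j) (v ^ j) := by
  induction j with
  | zero => simp [twoSidedMat_one_one]
  | succ j ih =>
    rw [pow_succ, ih]
    ext s t
    rw [twoSidedMat_mul_apply]
    unfold twoSidedMat
    have : x⁻¹ * ((x ^ j)⁻¹ * s * v ^ j) * v = (x ^ (j + 1))⁻¹ * s * v ^ (j + 1) := by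
      rw [pow_succ, pow_succ]
      group
    rw [this]

theorem twoSidedMat_pow_eq_one {x v : G} {m : ℕ} (hx : x ^ m = 1) (hv : v ^ m = 1) :
    (twoSidedMat x v) ^ m = 1 := by
  rw [twoSidedMat_pow, hx, hv, twoSidedMat_one_one]

theorem twoSidedMat_comm_center (x v : G) {E : Matrix G G ℂ} (hE : E ∈ centerAlg G) :
    twoSidedMat x v * E = E * twoSidedMat x v := by
  ext s t
  rw [twoSidedMat_mul_apply, mul_twoSidedMat_apply]
  have h1 := hE.2 x (x⁻¹ * s * v) t
  have h2 := hE.1 v⁻¹ (s * v) (x * t)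
  rw [← h1]
  have e1 : x * (x⁻¹ * s * v) = s * v := by group
  rw [e1, ← h2]
  have e2 : s * v * v⁻¹ = s := by group
  rw [e2]

theorem twoSidedMat_uInv (x : G) {u v : G} (huv : Commute u v) : UInv u (twoSidedMat x v) := by
  intro s k
  unfold twoSidedMat
  have : (k * u = x⁻¹ * (s * u) * v) ↔ (k = x⁻¹ * s * v) := by
    have e : x⁻¹ * (s * u) * v = x⁻¹ * s * v * u := by
      rw [mul_assoc x⁻¹ (s * u) v, mul_assoc s u v, huv.eq]
      group
    rw [e]
    exact mul_left_inj u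
  simp only [this]

theorem twoSidedMat_mem_sMat (hM : Cfsg.IsPModular p M) (x v : G) :
    twoSidedMat x v ∈ sMat hM G := by
  intro s k
  unfold twoSidedMat
  split_ifs
  · exact memLocalRing_one hM
  · exact memLocalRing_zero hM

theorem blockMat_idem (B : Set (Cfsg.IrrCharacter G)) : blockMat B * blockMat B = blockMat B := by
  classical
  have hc := blockMat_mem_centerAlg B
  apply eq_of_cOmega_eq ((centerAlg G).mul_mem hc hc) hc
  intro θ
  rw [cOmega_mul θ.2 hc hc.1, cOmega_blockMat]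
  split_ifs <;> simp

theorem sum_block_mul_conj_eq [Fintype (Cfsg.IrrCharacter G)] (B : Set (Cfsg.IrrCharacter G))
    [DecidablePred (· ∈ B)] (x y : G) :
    ∑ χ ∈ Finset.univ.filter (· ∈ B), (χ : G → ℂ) x * conj ((χ : G → ℂ) y)
      = ∑ t : G, blockMat B (x⁻¹ * t * y) t := by
  have hG := card_ne_zero_complex G
  have h1 : ∀ t : G, blockMat B (x⁻¹ * t * y) t
      = ∑ χ ∈ Finset.univ.filter (· ∈ B), idemFun (χ : G → ℂ) (x⁻¹ * t * y * t⁻¹) := by
    intro t
    unfold blockMat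
    rw [regMat_apply, blockCoeff_eq_sum]
  simp only [h1]
  rw [Finset.sum_comm]
  apply Finset.sum_congr rfl
  intro χ _
  have hχ1 := IsIrrCharacter.apply_one_ne_zero χ.2
  have hcf := IsIrrCharacter.isClassFunction χ.2
  unfold idemFun
  have h2 : ∑ t : G, (χ : G → ℂ) (x⁻¹ * t * y * t⁻¹)
      = (Nat.card G : ℂ) * (χ : G → ℂ) y * (χ : G → ℂ) x⁻¹ / (χ : G → ℂ) 1 := by
    rw [← IsIrrCharacter.sum_conj_mul χ.2 y x⁻¹]
    apply Finset.sum_congr rfl
    intro t _
    have := hcf (t * y * t⁻¹ * x⁻¹) x⁻¹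
    rw [← this]
    group
  have h3 : ∑ t : G, (Nat.card G : ℂ)⁻¹ * ((χ : G → ℂ) 1 * conj ((χ : G → ℂ) (x⁻¹ * t * y * t⁻¹)))
      = (Nat.card G : ℂ)⁻¹ * ((χ : G → ℂ) 1 * conj (∑ t : G, (χ : G → ℂ) (x⁻¹ * t * y * t⁻¹))) := by
    rw [map_sum, Finset.mul_sum, Finset.mul_sum]
  rw [h3, h2, IsCharacter.apply_inv (IsIrrCharacter.isCharacter χ.2)]
  simp only [map_mul, map_div₀, Complex.conj_conj, Complex.conj_natCast,
    IsIrrCharacter.conj_apply_one χ.2]
  field_simp

/-- weak block orthogonality, finset form -/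
theorem weak_block_orthogonality_finset (hM : Cfsg.IsPModular p M) [Fintype (Cfsg.IrrCharacter G)]
    (χ₀ : Cfsg.IrrCharacter G) [DecidablePred (· ∈ Cfsg.blockOf M (χ₀ : G → ℂ))] (x y : G)
    (hx : ¬ p ∣ orderOf x) (hy : p ∣ orderOf y) :
    ∑ χ ∈ Finset.univ.filter (· ∈ Cfsg.blockOf M (χ₀ : G → ℂ)),
      (χ : G → ℂ) x * conj ((χ : G → ℂ) y) = 0 := by
  have hp : p.Prime := hM.1
  set B := Cfsg.blockOf M (χ₀ : G → ℂ) with hB
  rw [sum_block_mul_conj_eq]
  obtain ⟨v, hv, u, hu, hyvu, hvp, k, huk⟩ := exists_pParts p hp y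
  have huv : Commute u v := by
    obtain ⟨a, rfl⟩ := Subgroup.mem_zpowers_iff.mp hu
    obtain ⟨b, rfl⟩ := Subgroup.mem_zpowers_iff.mp hv
    exact (Commute.refl y).zpow_zpow a b
  -- `u` is nontrivial
  have hu1 : u ≠ 1 := by
    rintro rfl
    rw [mul_one] at hyvu
    rw [hyvu] at hy
    exact hvp hy
  have hq2 : 2 ≤ orderOf u := by
    have h1 : orderOf u ≠ 1 := fun h => hu1 (orderOf_eq_one_iff.mp h)
    have h0 : 0 < orderOf u := orderOf_pos u
    omega
  set q := orderOf u with hq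
  set E := blockMat B with hE
  have hEc : E ∈ centerAlg G := blockMat_mem_centerAlg B
  have hEs : E ∈ sMat hM G := blockMat_mem_sMat hM χ₀
  have hEidem : E * E = E := blockMat_idem B
  set W := twoSidedMat x v with hW
  set m := orderOf x * orderOf v with hm
  have hmpos : 0 < m := Nat.mul_pos (orderOf_pos x) (orderOf_pos v)
  have hmp : ¬ p ∣ m := by
    intro h
    rcases (Nat.Prime.dvd_mul hp).mp h with h | h
    · exact hx h
    · exact hvp h
  have hxm : x ^ m = 1 := by rw [hm, pow_mul, pow_orderOf_eq_one, one_pow]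
  have hvm : v ^ m = 1 := by rw [hm, mul_comm, pow_mul, pow_orderOf_eq_one, one_pow]
  have hWm : W ^ m = 1 := twoSidedMat_pow_eq_one hxm hvm
  have key := sum_shift_twist_eq_zero hM huk hEidem hEs (hEc.1.uInv u) hmpos hmp hWm
    (twoSidedMat_mem_sMat hM x v) (twoSidedMat_uInv x huv) (twoSidedMat_comm_center x v hEc)
    (q - 1) (by omega) (by omega)
  rw [← key]
  rw [← Equiv.sum_comp (Equiv.mulRight (u ^ (q - 1))) (fun t => E (x⁻¹ * t * y) t)]
  apply Finset.sum_congr rfl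
  intro s _
  simp only [Equiv.coe_mulRight]
  rw [twoSidedMat_mul_apply]
  congr 1
  rw [hyvu]
  have h1 : u ^ (q - 1) * u = 1 := by
    rw [← pow_succ]
    have : q - 1 + 1 = q := by omega
    rw [this, hq, pow_orderOf_eq_one]
  calc x⁻¹ * (s * u ^ (q - 1)) * (v * u) = x⁻¹ * s * (u ^ (q - 1) * (v * u)) := by group
    _ = x⁻¹ * s * (v * (u ^ (q - 1) * u)) := by
        congr 1
        rw [← mul_assoc, ← mul_assoc]
        congr 1
        exact ((huv.pow_left (q - 1))).eq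
    _ = x⁻¹ * s * v := by rw [h1, mul_one]

/-- weak block orthogonality -/
theorem weak_block_orthogonality (hM : Cfsg.IsPModular p M) (χ₀ : Cfsg.IrrCharacter G) (x y : G)
    (hx : ¬ p ∣ orderOf x) (hy : p ∣ orderOf y) :
    ∑ᶠ χ ∈ Cfsg.blockOf M (χ₀ : G → ℂ), (χ : G → ℂ) x * conj ((χ : G → ℂ) y) = 0 := by
  classical
  have : Fintype (Cfsg.IrrCharacter G) := Fintype.ofFinite _
  rw [← weak_block_orthogonality_finset hM χ₀ x y hx hy]
  rw [← finsum_mem_coe_finset]
  congr 1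
  ext χ
  simp

end

end Cfsg.Agent.Lib.Helper6
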