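import Mathlib
import Cfsg.Prelude.Def_Blocks
import Cfsg.Agent.Lib.Helper6.BlkCenter
import Cfsg.Agent.Lib.Helper6.BlkOrth2

set_option autoImplicit false
set_option linter.unusedSectionVars false
open Cfsg

namespace Cfsg.Agent.Lib.Helper6

open scoped ComplexConjugate

section

variable {G : Type*} [Group G] [Fintype G] [DecidableEq G]
variable {p : ℕ} {M : Ideal Cfsg.AlgInt}

/-- a product of elements congruent to units is not in the ideal: list version of primality -/
theorem not_memLocalIdeal_list_prod (hM : Cfsg.IsPModular p M) (l : List ℂ)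
    (hl : ∀ z ∈ l, Cfsg.MemLocalRing M z) (hl' : ∀ z ∈ l, ¬ Cfsg.MemLocalIdeal M z) :
    ¬ Cfsg.MemLocalIdeal M l.prod := by
  induction l with
  | nil => simpa using not_memLocalIdeal_one hM
  | cons z l ih =>
    rw [List.prod_cons]
    have hlS : Cfsg.MemLocalRing M l.prod := by
      clear ih hl'
      induction l with
      | nil => simpa using memLocalRing_one hM
      | cons w l ih2 =>
        rw [List.prod_cons]
        exact MemLocalRing.mul hM (hl w (by simp)) (ih2 (fun y hy => hl y (by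
          rcases List.mem_cons.mp hy with h | h
          · simp [h]
          · simp [h])))
    exact not_memLocalIdeal_mul hM (hl z (by simp)) hlS (hl' z (by simp))
      (ih (fun y hy => hl y (List.mem_cons_of_mem _ hy))
        (fun y hy => hl' y (List.mem_cons_of_mem _ hy)))

theorem memLocalRing_list_prod (hM : Cfsg.IsPModular p M) (l : List ℂ)
    (hl : ∀ z ∈ l, Cfsg.MemLocalRing M z) : Cfsg.MemLocalRing M l.prod := by
  induction l with
  | nil => simpa using memLocalRing_one hM
  | cons w l ih =>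
    rw [List.prod_cons]
    exact MemLocalRing.mul hM (hl w (by simp)) (ih (fun y hy => hl y (List.mem_cons_of_mem _ hy)))

variable (lam : Matrix G G ℂ → ℂ)

/-- a map that is multiplicative mod `M` is multiplicative mod `M` on list products -/
theorem lam_list_prod_sub (hM : Cfsg.IsPModular p M)
    (hS : ∀ X ∈ centerAlg G, X ∈ sMat hM G → Cfsg.MemLocalRing M (lam X))
    (hmul : ∀ X Y, X ∈ centerAlg G → X ∈ sMat hM G → Y ∈ centerAlg G → Y ∈ sMat hM G →
      Cfsg.MemLocalIdeal M (lam (X * Y) - lam X * lam Y))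
    (hone : lam 1 = 1) (l : List (Matrix G G ℂ))
    (hl : ∀ X ∈ l, X ∈ centerAlg G ∧ X ∈ sMat hM G) :
    Cfsg.MemLocalIdeal M (lam l.prod - (l.map lam).prod) := by
  induction l with
  | nil =>
    simp only [List.prod_nil, List.map_nil, hone, sub_self]
    exact memLocalIdeal_zero hM
  | cons X l ih =>
    rw [List.prod_cons, List.map_cons, List.prod_cons]
    have hX := hl X (by simp)
    have hl' : ∀ Y ∈ l, Y ∈ centerAlg G ∧ Y ∈ sMat hM G :=
      fun Y hY => hl Y (List.mem_cons_of_mem _ hY)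
    have hpc : l.prod ∈ centerAlg G := (centerAlg G).list_prod_mem (fun Y hY => (hl' Y hY).1)
    have hps : l.prod ∈ sMat hM G := (sMat hM G).list_prod_mem (fun Y hY => (hl' Y hY).2)
    have h1 := hmul X l.prod hX.1 hX.2 hpc hps
    have h2 := MemLocalIdeal.mul_left hM (hS X hX.1 hX.2) (ih hl')
    have h3 := MemLocalIdeal.add hM h1 h2
    convert h3 using 1
    ring

/-- a map from the centre of the local group ring that is a ring homomorphism modulo `M` agrees
modulo `M` with a central character -/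
theorem exists_irr_of_hom (hM : Cfsg.IsPModular p M)
    (hadd : ∀ X Y, lam (X + Y) = lam X + lam Y)
    (hsmul : ∀ (c : ℂ) X, lam (c • X) = c * lam X)
    (hS : ∀ X ∈ centerAlg G, X ∈ sMat hM G → Cfsg.MemLocalRing M (lam X))
    (hmul : ∀ X Y, X ∈ centerAlg G → X ∈ sMat hM G → Y ∈ centerAlg G → Y ∈ sMat hM G →
      Cfsg.MemLocalIdeal M (lam (X * Y) - lam X * lam Y))
    (hone : lam 1 = 1) :
    ∃ χ : Cfsg.IrrCharacter G, ∀ X ∈ centerAlg G, X ∈ sMat hM G →
      Cfsg.MemLocalIdeal M (lam X - cOmega (χ : G → ℂ) X) := by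
  classical
  have : Fintype (Cfsg.IrrCharacter G) := Fintype.ofFinite _
  have hzero : lam 0 = 0 := by
    have := hsmul 0 0
    simpa using this
  have hsub : ∀ X Y, lam (X - Y) = lam X - lam Y := by
    intro X Y
    have h1 : X - Y = X + (-1 : ℂ) • Y := by rw [neg_one_smul, sub_eq_add_neg]
    rw [h1, hadd, hsmul]
    ring
  let E : Cfsg.IrrCharacter G → Matrix G G ℂ := fun χ => blockMat (Cfsg.blockOf M (χ : G → ℂ))
  have hEc : ∀ χ, E χ ∈ centerAlg G := fun χ => blockMat_mem_centerAlg _
  have hEs : ∀ χ, E χ ∈ sMat hM G := fun χ => blockMat_mem_sMat hM χ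
  have h1c : (1 : Matrix G G ℂ) ∈ centerAlg G := (centerAlg G).one_mem
  have h1s : (1 : Matrix G G ℂ) ∈ sMat hM G := (sMat hM G).one_mem
  -- step (ii): some block idempotent is not killed
  have hex : ∃ χ : Cfsg.IrrCharacter G, ¬ Cfsg.MemLocalIdeal M (lam (E χ)) := by
    by_contra hne
    push Not at hne
    let l : List (Matrix G G ℂ) := (Finset.univ : Finset (Cfsg.IrrCharacter G)).toList.map
      (fun χ : Cfsg.IrrCharacter G => 1 - E χ)
    have hl : ∀ X ∈ l, X ∈ centerAlg G ∧ X ∈ sMat hM G := by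
      intro X hX
      obtain ⟨χ, _, rfl⟩ := List.mem_map.mp hX
      exact ⟨(centerAlg G).sub_mem h1c (hEc χ), (sMat hM G).sub_mem h1s (hEs χ)⟩
    have hZ0 : l.prod = 0 := by
      apply eq_zero_of_cOmega_eq_zero ((centerAlg G).list_prod_mem (fun X hX => (hl X hX).1))
      intro θ
      rw [cOmega_list_prod θ.2 l (fun X hX => (hl X hX).1)]
      apply List.prod_eq_zero
      rw [List.mem_map]
      refine ⟨1 - E θ, ?_, ?_⟩
      · rw [List.mem_map]
        exact ⟨θ, Finset.mem_toList.mpr (Finset.mem_univ _), rfl⟩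
      · have hθθ : θ ∈ Cfsg.blockOf M (θ : G → ℂ) := sameBlock_refl hM _
        rw [cOmega_sub, cOmega_one (IsIrrCharacter.apply_one_ne_zero θ.2), cOmega_blockMat,
          if_pos hθθ, sub_self]
    have h2 := lam_list_prod_sub lam hM hS hmul hone l hl
    rw [hZ0, hzero, zero_sub] at h2
    have h3 : ¬ Cfsg.MemLocalIdeal M (l.map lam).prod := by
      apply not_memLocalIdeal_list_prod hM
      · intro z hz
        obtain ⟨X, hX, rfl⟩ := List.mem_map.mp hz
        exact hS X (hl X hX).1 (hl X hX).2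
      · intro z hz
        obtain ⟨X, hX, rfl⟩ := List.mem_map.mp hz
        obtain ⟨χ, _, rfl⟩ := List.mem_map.mp hX
        rw [hsub, hone]
        intro hcon
        have := MemLocalIdeal.add hM hcon (hne χ)
        rw [sub_add_cancel] at this
        exact not_memLocalIdeal_one hM this
    apply h3
    have := MemLocalIdeal.neg h2
    rwa [neg_neg] at this
  obtain ⟨χ, hχ⟩ := hex
  refine ⟨χ, ?_⟩
  -- step (iii): lam (E χ) ≡ 1
  have hEE : E χ * E χ = E χ := blockMat_idem _
  have hlamE1 : Cfsg.MemLocalIdeal M (1 - lam (E χ)) := by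
    have h1 := hmul (E χ) (E χ) (hEc χ) (hEs χ) (hEc χ) (hEs χ)
    rw [hEE] at h1
    have h2 : lam (E χ) - lam (E χ) * lam (E χ) = lam (E χ) * (1 - lam (E χ)) := by ring
    rw [h2] at h1
    have hSE := hS (E χ) (hEc χ) (hEs χ)
    rcases memLocalIdeal_or_of_mul hM hSE (MemLocalRing.sub hM (memLocalRing_one hM) hSE) h1
      with h | h
    · exact absurd h hχ
    · exact h
  intro X hXc hXs
  -- step (iv)
  set c := cOmega (χ : G → ℂ) X with hc
  have hcS : Cfsg.MemLocalRing M c := cOmega_memLocalRing hM χ.2 hXc hXs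
  set X' : Matrix G G ℂ := X - c • (1 : Matrix G G ℂ) with hX'
  have hX'c : X' ∈ centerAlg G := (centerAlg G).sub_mem hXc ((centerAlg G).smul_mem h1c c)
  have hX's : X' ∈ sMat hM G := (sMat hM G).sub_mem hXs (smul_mem_sMat hM hcS h1s)
  set W : Matrix G G ℂ := X' * E χ with hW
  have hWc : W ∈ centerAlg G := (centerAlg G).mul_mem hX'c (hEc χ)
  have hWs : W ∈ sMat hM G := (sMat hM G).mul_mem hX's (hEs χ)
  have hωW : ∀ ψ : Cfsg.IrrCharacter G, Cfsg.MemLocalIdeal M (cOmega (ψ : G → ℂ) W) := by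
    intro ψ
    rw [hW, cOmega_mul ψ.2 hX'c (hEc χ).1, cOmega_blockMat]
    split_ifs with hψ
    · rw [mul_one, hX', cOmega_sub, cOmega_smul,
        cOmega_one (IsIrrCharacter.apply_one_ne_zero ψ.2), mul_one]
      have := cOmega_sub_memLocalIdeal hM χ.2 ψ.2 hψ hXc hXs
      have h2 := MemLocalIdeal.neg this
      rwa [neg_sub] at h2
    · rw [mul_zero]
      exact memLocalIdeal_zero hM
  have hlamW : Cfsg.MemLocalIdeal M (lam W) := by
    let l : List (Matrix G G ℂ) := (Finset.univ : Finset (Cfsg.IrrCharacter G)).toList.map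
      (fun ψ : Cfsg.IrrCharacter G => W - (cOmega (ψ : G → ℂ) W) • (1 : Matrix G G ℂ))
    have hl : ∀ Y ∈ l, Y ∈ centerAlg G ∧ Y ∈ sMat hM G := by
      intro Y hY
      obtain ⟨ψ, _, rfl⟩ := List.mem_map.mp hY
      exact ⟨(centerAlg G).sub_mem hWc ((centerAlg G).smul_mem h1c _),
        (sMat hM G).sub_mem hWs (smul_mem_sMat hM (MemLocalIdeal.memLocalRing (hωW ψ)) h1s)⟩
    have hZ0 : l.prod = 0 := by
      apply eq_zero_of_cOmega_eq_zero ((centerAlg G).list_prod_mem (fun Y hY => (hl Y hY).1))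
      intro θ
      rw [cOmega_list_prod θ.2 l (fun Y hY => (hl Y hY).1)]
      apply List.prod_eq_zero
      rw [List.mem_map]
      refine ⟨W - (cOmega (θ : G → ℂ) W) • (1 : Matrix G G ℂ), ?_, ?_⟩
      · rw [List.mem_map]
        exact ⟨θ, Finset.mem_toList.mpr (Finset.mem_univ _), rfl⟩
      · rw [cOmega_sub, cOmega_smul, cOmega_one (IsIrrCharacter.apply_one_ne_zero θ.2), mul_one,
          sub_self]
    have h2 := lam_list_prod_sub lam hM hS hmul hone l hl
    rw [hZ0, hzero, zero_sub] at h2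
    have h3 : Cfsg.MemLocalIdeal M (l.map lam).prod := by
      have := MemLocalIdeal.neg h2
      rwa [neg_neg] at this
    by_contra hcon
    apply not_memLocalIdeal_list_prod hM (l.map lam) _ _ h3
    · intro z hz
      obtain ⟨Y, hY, rfl⟩ := List.mem_map.mp hz
      exact hS Y (hl Y hY).1 (hl Y hY).2
    · intro z hz
      obtain ⟨Y, hY, rfl⟩ := List.mem_map.mp hz
      obtain ⟨ψ, _, rfl⟩ := List.mem_map.mp hY
      rw [hsub, hsmul, hone, mul_one]
      intro h4
      have := MemLocalIdeal.add hM h4 (hωW ψ)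
      rw [sub_add_cancel] at this
      exact hcon this
  -- conclude
  have h5 := hmul X' (E χ) hX'c hX's (hEc χ) (hEs χ)
  rw [← hW] at h5
  have h6 : Cfsg.MemLocalIdeal M (lam X' * lam (E χ)) := by
    have := MemLocalIdeal.sub hM hlamW h5
    rwa [sub_sub_cancel] at this
  have hX'S := hS X' hX'c hX's
  have hSE := hS (E χ) (hEc χ) (hEs χ)
  rcases memLocalIdeal_or_of_mul hM hX'S hSE h6 with h | h
  · rw [hX', hsub, hsmul, hone, mul_one] at h
    exact h
  · exact absurd h hχ

end

end Cfsg.Agent.Lib.Helper6
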