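import Mathlib
import Cfsg.Prelude.Def_Characters

set_option autoImplicit false
set_option linter.unusedSectionVars false
open Cfsg

namespace Cfsg.Agent.Lib.Helper6

open Module Polynomial

/-- the trace of an integral endomorphism of a complex vector space is integral -/
theorem isIntegral_trace_of_isIntegral {V : Type*} [AddCommGroup V] [Module ℂ V]
    [FiniteDimensional ℂ V] (T : Module.End ℂ V) (hT : IsIntegral ℤ T) :
    IsIntegral ℤ (LinearMap.trace ℂ V T) := by
  have hs : T.charpoly.Splits := IsAlgClosed.splits _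
  rw [Module.End.trace_eq_sum_roots_charpoly_of_splits hs]
  apply IsIntegral.multiset_sum
  intro μ hμ
  have hroot : T.charpoly.IsRoot μ := (Polynomial.mem_roots'.mp hμ).2
  have heig : T.HasEigenvalue μ := (Module.End.hasEigenvalue_iff_isRoot_charpoly T μ).mpr hroot
  obtain ⟨x, hx⟩ := heig.exists_hasEigenvector
  obtain ⟨P, hPm, hP⟩ := hT
  refine ⟨P, hPm, ?_⟩
  have h1 := Module.End.aeval_apply_of_hasEigenvector (p := P.map (algebraMap ℤ ℂ)) hx
  have h2 : Polynomial.aeval T (P.map (algebraMap ℤ ℂ)) = 0 := by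
    rw [Polynomial.aeval_map_algebraMap]
    rw [← hP]
    rfl
  rw [h2, LinearMap.zero_apply] at h1
  have h3 : (P.map (algebraMap ℤ ℂ)).eval μ = 0 := by
    rcases smul_eq_zero.mp h1.symm with h | h
    · exact h
    · exact absurd h hx.2
  rw [Polynomial.eval_map] at h3
  exact h3

section rep

variable {G : Type*} [Group G] [Finite G] {V : Type*} [AddCommGroup V] [Module ℂ V]
  [FiniteDimensional ℂ V]

/-- averaging a character over a coset of a centralized subgroup gives an algebraic integer -/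
theorem isIntegral_avg_character (ρ : Representation ℂ G V) (D : Subgroup G) [Fintype D] (g : G)
    (hg : ∀ w ∈ D, g * w = w * g) :
    IsIntegral ℤ ((Nat.card D : ℂ)⁻¹ * ∑ w : D, ρ.character (g * (w : G))) := by
  have hD0 : (Nat.card D : ℂ) ≠ 0 := by
    have : Nat.card D ≠ 0 := Nat.card_pos.ne'
    exact_mod_cast this
  obtain ⟨A, hA⟩ : ∃ A : Module.End ℂ V, A = ∑ w : D, ρ (w : G) := ⟨_, rfl⟩
  have hwA : ∀ w₀ : D, ρ (w₀ : G) * A = A := by
    intro w₀
    rw [hA, Finset.mul_sum]
    rw [← Equiv.sum_comp (Equiv.mulLeft w₀) (fun w : D => ρ (w : G))]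
    apply Finset.sum_congr rfl
    intro w _
    show ρ (w₀ : G) * ρ (w : G) = ρ ((w₀ * w : D) : G)
    rw [Subgroup.coe_mul, map_mul]
  have hAA : A * A = (Nat.card D : ℂ) • A := by
    have h1 : A * A = (∑ w : D, ρ (w : G)) * A := by rw [← hA]
    rw [h1, Finset.sum_mul, Finset.sum_congr rfl (fun w _ => hwA w)]
    rw [Finset.sum_const, Finset.card_univ, Nat.card_eq_fintype_card, Nat.cast_smul_eq_nsmul]
  obtain ⟨e, he⟩ : ∃ e : Module.End ℂ V, e = (Nat.card D : ℂ)⁻¹ • A := ⟨_, rfl⟩
  have hee : e * e = e := by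
    rw [he, smul_mul_smul_comm, hAA, smul_smul, mul_assoc, inv_mul_cancel₀ hD0, mul_one]
  have hgA : ρ g * A = A * ρ g := by
    rw [hA, Finset.mul_sum, Finset.sum_mul]
    apply Finset.sum_congr rfl
    intro w _
    rw [← map_mul, ← map_mul, hg w w.2]
  have hge : ρ g * e = e * ρ g := by
    rw [he, mul_smul_comm, smul_mul_assoc, hgA]
  obtain ⟨T, hT⟩ : ∃ T : Module.End ℂ V, T = ρ g * e := ⟨_, rfl⟩
  have hTpow : ∀ j : ℕ, 0 < j → T ^ j = ρ g ^ j * e := by
    intro j hj
    induction j with
    | zero => omega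
    | succ j ih =>
      by_cases hj0 : j = 0
      · rw [hj0]; simp [hT]
      · rw [pow_succ, ih (Nat.pos_of_ne_zero hj0), hT, pow_succ]
        calc ρ g ^ j * e * (ρ g * e) = ρ g ^ j * (e * ρ g) * e := by simp only [mul_assoc]
          _ = ρ g ^ j * (ρ g * e) * e := by rw [hge]
          _ = ρ g ^ j * ρ g * (e * e) := by simp only [mul_assoc]
          _ = ρ g ^ j * ρ g * e := by rw [hee]
  set m := orderOf g with hm
  have hmpos : 0 < m := orderOf_pos g
  have hTm : T ^ (m + 1) = T := by
    rw [hTpow (m + 1) (by omega), pow_succ, ← map_pow, hm, pow_orderOf_eq_one, map_one, one_mul, hT]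
  have hTint : IsIntegral ℤ T := by
    refine ⟨X ^ (m + 1) - X, ?_, ?_⟩
    · apply Polynomial.monic_X_pow_sub
      rw [Polynomial.degree_X]
      exact_mod_cast (by omega : 1 < m + 1)
    · simp only [Polynomial.eval₂_sub, Polynomial.eval₂_X_pow, Polynomial.eval₂_X, hTm, sub_self]
  have htr := isIntegral_trace_of_isIntegral T hTint
  have heq : LinearMap.trace ℂ V T = (Nat.card D : ℂ)⁻¹ * ∑ w : D, ρ.character (g * (w : G)) := by
    rw [hT, he, hA, mul_smul_comm, map_smul, Finset.mul_sum, map_sum, smul_eq_mul]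
    congr 1
    apply Finset.sum_congr rfl
    intro w _
    unfold Representation.character
    rw [← map_mul]
  rw [← heq]
  exact htr

end rep

/-- version for characters in the sense of `Cfsg.IsCharacter` -/
theorem IsCharacter.isIntegral_avg {G : Type*} [Group G] [Finite G] {χ : G → ℂ}
    (hχ : Cfsg.IsCharacter G χ) (D : Subgroup G) [Fintype D] (g : G)
    (hg : ∀ w ∈ D, g * w = w * g) :
    IsIntegral ℤ ((Nat.card D : ℂ)⁻¹ * ∑ w : D, χ (g * (w : G))) := by
  obtain ⟨n, ρ, rfl⟩ := hχ
  exact isIntegral_avg_character ρ D g hg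

end Cfsg.Agent.Lib.Helper6
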