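import Mathlib
import Cfsg.Prelude.Def_Blocks
import Cfsg.Agent.Lib.Helper6.BlkOrth2
import Cfsg.Agent.Lib.Helper6.AvgIntegral
import Cfsg.Agent.Lib.Helper6.ClassMult

set_option autoImplicit false
set_option linter.unusedSectionVars false
open Cfsg

namespace Cfsg.Agent.Lib.Helper6

open scoped ComplexConjugate

section

variable {G : Type*} [Group G]

theorem IsCharacter.isIntegral_apply [Finite G] {χ : G → ℂ} (hχ : Cfsg.IsCharacter G χ) (g : G) :
    IsIntegral ℤ (χ g) := by
  obtain ⟨n, ρ, rfl⟩ := hχ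
  exact isIntegral_character ρ g

/-- a `p`-regular element times a commuting nontrivial `p`-element is `p`-singular -/
theorem pSingular_mul_of_commute {p : ℕ} (hp : p.Prime) {g w : G} (hg : ¬ p ∣ orderOf g)
    (hw1 : w ≠ 1) {j : ℕ} (hw : orderOf w = p ^ j) (hc : Commute g w) : p ∣ orderOf (g * w) := by
  have hj : j ≠ 0 := by
    rintro rfl
    rw [pow_zero] at hw
    exact hw1 (orderOf_eq_one_iff.mp hw)
  have hcop : Nat.Coprime (orderOf g) (orderOf w) := by
    rw [hw]
    exact Nat.Coprime.pow_right j ((Nat.Coprime.symm ((hp.coprime_iff_not_dvd).mpr hg)))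
  rw [hc.orderOf_mul_eq_mul_orderOf_of_coprime hcop, hw]
  exact Dvd.dvd.mul_left (dvd_pow_self p hj) _

end

section

variable {G : Type*} [Group G] [Fintype G] [DecidableEq G]
variable {p : ℕ} {M : Ideal Cfsg.AlgInt}

/-- if the central character of `χ` at `g` is a unit mod `M` then the `p`-part of the class
size of `g` divides the degree of `χ` -/
theorem factorization_index_le_of_centralChar (hM : Cfsg.IsPModular p M) {χ : G → ℂ}
    (hχ : Cfsg.IsIrrCharacter G χ) (g : G)
    (h : ¬ Cfsg.MemLocalIdeal M (Cfsg.centralChar χ g)) :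
    (Subgroup.centralizer ({g} : Set G)).index.factorization p
      ≤ (Cfsg.charDegree χ).factorization p := by
  have hp : p.Prime := hM.1
  by_contra hlt
  rw [not_le] at hlt
  apply h
  set n := (Subgroup.centralizer ({g} : Set G)).index with hn
  set d := Cfsg.charDegree χ with hd
  have hn0 : n ≠ 0 := Subgroup.index_ne_zero_of_finite
  have hd0 : d ≠ 0 := (IsIrrCharacter.charDegree_pos hχ).ne'
  have hn1 := Nat.ordProj_mul_ordCompl_eq_self n p
  have hd1 := Nat.ordProj_mul_ordCompl_eq_self d p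
  have hn2 := Nat.not_dvd_ordCompl hp hn0
  have hd2 := Nat.not_dvd_ordCompl hp hd0
  set k := n.factorization p
  set j := d.factorization p
  set n' := n / p ^ k
  set d' := d / p ^ j
  have hd'0 : (d' : ℂ) ≠ 0 := by
    have : d' ≠ 0 := by
      rintro h0
      rw [h0] at hd2
      exact hd2 (dvd_zero p)
    exact_mod_cast this
  have hp0 : (p : ℂ) ≠ 0 := by exact_mod_cast hp.ne_zero
  have key : Cfsg.centralChar χ g = (p : ℂ) * ((p : ℂ) ^ (k - j - 1) * ((n' : ℂ) * χ g) * (d' : ℂ)⁻¹) := by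
    unfold Cfsg.centralChar
    rw [IsCharacter.apply_one_eq_charDegree (IsIrrCharacter.isCharacter hχ), ← hn, ← hd]
    have e1 : (n : ℂ) = (p : ℂ) ^ k * (n' : ℂ) := by exact_mod_cast hn1.symm
    have e2 : (d : ℂ) = (p : ℂ) ^ j * (d' : ℂ) := by exact_mod_cast hd1.symm
    rw [e1, e2]
    have e3 : k = (k - j - 1) + 1 + j := by omega
    conv_lhs => rw [e3]
    rw [pow_add, pow_succ]
    field_simp
  rw [key]
  apply MemLocalIdeal.mul_right hM (memLocalIdeal_prime hM)
  apply MemLocalRing.mul hM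
  · apply MemLocalRing.mul hM
    · exact MemLocalRing.pow hM (memLocalRing_natCast hM p) _
    · apply MemLocalRing.mul hM (memLocalRing_natCast hM _)
      exact memLocalRing_of_isIntegral hM (IsCharacter.isIntegral_apply (IsIrrCharacter.isCharacter hχ) g)
  · exact memLocalRing_inv_natCast hM hd2

/-- the block idempotent vanishes at `p`-singular elements -/
theorem blockCoeff_eq_zero_of_pSingular (hM : Cfsg.IsPModular p M) (χ₀ : Cfsg.IrrCharacter G)
    (y : G) (hy : p ∣ orderOf y) : Cfsg.blockCoeff (Cfsg.blockOf M (χ₀ : G → ℂ)) y = 0 := by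
  unfold Cfsg.blockCoeff
  rw [weak_block_orthogonality hM χ₀ 1 y (by rw [orderOf_one]; exact hM.1.not_dvd_one) hy, mul_zero]

/-- if the block idempotent does not vanish mod `M` at `g`, then `g` is `p`-regular -/
theorem pRegular_of_blockCoeff (hM : Cfsg.IsPModular p M) (χ₀ : Cfsg.IrrCharacter G)
    (g : G) (h : ¬ Cfsg.MemLocalIdeal M (Cfsg.blockCoeff (Cfsg.blockOf M (χ₀ : G → ℂ)) g)) :
    ¬ p ∣ orderOf g := by
  intro hy
  apply h
  rw [blockCoeff_eq_zero_of_pSingular hM χ₀ g hy]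
  exact memLocalIdeal_zero hM

/-- upper bound for the order of a `p`-subgroup centralizing an element where the block
idempotent is a unit -/
theorem card_pSubgroup_mul_le (hM : Cfsg.IsPModular p M) (χ₀ : Cfsg.IrrCharacter G)
    (g : G) (hg : ¬ Cfsg.MemLocalIdeal M (Cfsg.blockCoeff (Cfsg.blockOf M (χ₀ : G → ℂ)) g))
    (D : Subgroup G) (hD : IsPGroup p D) (hDg : ∀ w ∈ D, g * w = w * g) (c : ℕ)
    (hDc : Nat.card D = p ^ c) (h : ℕ)
    (hh : ∀ χ ∈ Cfsg.blockOf M (χ₀ : G → ℂ), p ^ h ∣ Cfsg.charDegree (χ : G → ℂ)) :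
    c + h ≤ (Nat.card G).factorization p := by
  classical
  have hp : p.Prime := hM.1
  have : Fact p.Prime := ⟨hp⟩
  have : Fintype (Cfsg.IrrCharacter G) := Fintype.ofFinite _
  set B := Cfsg.blockOf M (χ₀ : G → ℂ) with hB
  have hgreg : ¬ p ∣ orderOf g := pRegular_of_blockCoeff hM χ₀ g hg
  by_contra hlt
  rw [not_le] at hlt
  apply hg
  -- the averaged sum
  have hsum : ∑ w : D, Cfsg.blockCoeff B (g * (w : G)) = Cfsg.blockCoeff B g := by
    rw [Finset.sum_eq_single (1 : D)]
    · simp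
    · intro w _ hw1
      apply blockCoeff_eq_zero_of_pSingular hM χ₀
      obtain ⟨j, hj⟩ := (IsPGroup.iff_orderOf.mp hD) w
      have hw1' : (w : G) ≠ 1 := fun h0 => hw1 (Subtype.ext h0)
      rw [← Subgroup.orderOf_coe] at hj
      exact pSingular_mul_of_commute hp hgreg hw1' hj (hDg w w.2)
    · intro h0; exact absurd (Finset.mem_univ _) h0
  -- integrality of averages
  have havg : ∀ χ : Cfsg.IrrCharacter G,
      IsIntegral ℤ ((Nat.card D : ℂ)⁻¹ * ∑ w : D, (χ : G → ℂ) (g * (w : G))) :=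
    fun χ => IsCharacter.isIntegral_avg (IsIrrCharacter.isCharacter χ.2) D g hDg
  set a := (Nat.card G).factorization p with ha
  have hG0 : Nat.card G ≠ 0 := Nat.card_pos.ne'
  have hG1 := Nat.ordProj_mul_ordCompl_eq_self (Nat.card G) p
  have hG2 := Nat.not_dvd_ordCompl hp hG0
  set m' := Nat.card G / p ^ a with hm'
  have hm'0 : (m' : ℂ) ≠ 0 := by
    have : m' ≠ 0 := by
      rintro h0
      rw [h0] at hG2
      exact hG2 (dvd_zero p)
    exact_mod_cast this
  have hp0 : (p : ℂ) ≠ 0 := by exact_mod_cast hp.ne_zero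
  have hD0 : (Nat.card D : ℂ) ≠ 0 := by
    rw [hDc]; push_cast; exact pow_ne_zero _ hp0
  -- β
  set β : ℂ := ∑ χ ∈ Finset.univ.filter (· ∈ B),
    ((Cfsg.charDegree (χ : G → ℂ) / p ^ h : ℕ) : ℂ) *
      conj ((Nat.card D : ℂ)⁻¹ * ∑ w : D, (χ : G → ℂ) (g * (w : G))) with hβ
  have hβint : IsIntegral ℤ β := by
    apply IsIntegral.sum
    intro χ _
    exact IsIntegral.mul (isIntegral_natCast _) (isIntegral_conj (havg χ))
  have key : Cfsg.blockCoeff B g
      = (p : ℂ) * ((p : ℂ) ^ (c + h - a - 1) * β * (m' : ℂ)⁻¹) := by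
    rw [← hsum]
    have e1 : ∀ w : D, Cfsg.blockCoeff B (g * (w : G))
        = (Nat.card G : ℂ)⁻¹ * ∑ χ ∈ Finset.univ.filter (· ∈ B),
            (χ : G → ℂ) 1 * conj ((χ : G → ℂ) (g * (w : G))) := by
      intro w
      rw [blockCoeff_eq_sum]
      unfold idemFun
      rw [Finset.mul_sum]
    simp only [e1]
    rw [← Finset.mul_sum, Finset.sum_comm]
    have e2 : ∀ χ ∈ Finset.univ.filter (· ∈ B),
        ∑ w : D, (χ : G → ℂ) 1 * conj ((χ : G → ℂ) (g * (w : G)))
          = (p : ℂ) ^ h * (p : ℂ) ^ c * (((Cfsg.charDegree (χ : G → ℂ) / p ^ h : ℕ) : ℂ) *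
            conj ((Nat.card D : ℂ)⁻¹ * ∑ w : D, (χ : G → ℂ) (g * (w : G)))) := by
      intro χ hχ
      have hχB : χ ∈ B := (Finset.mem_filter.mp hχ).2
      have e3 : (χ : G → ℂ) 1 = (p : ℂ) ^ h * ((Cfsg.charDegree (χ : G → ℂ) / p ^ h : ℕ) : ℂ) := by
        rw [IsCharacter.apply_one_eq_charDegree (IsIrrCharacter.isCharacter χ.2)]
        have := Nat.mul_div_cancel' (hh χ hχB)
        exact_mod_cast this.symm
      rw [← Finset.mul_sum, map_mul, map_inv₀, Complex.conj_natCast, map_sum, hDc]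
      conv_lhs => rw [e3]
      push_cast
      field_simp
    rw [Finset.sum_congr rfl e2, ← Finset.mul_sum, ← hβ]
    have e4 : (Nat.card G : ℂ) = (p : ℂ) ^ a * (m' : ℂ) := by exact_mod_cast hG1.symm
    rw [e4]
    have e5 : c + h = (c + h - a - 1) + 1 + a := by omega
    rw [← pow_add, add_comm h c]
    conv_lhs => rw [e5]
    rw [pow_add, pow_succ]
    field_simp
  rw [key]
  apply MemLocalIdeal.mul_right hM (memLocalIdeal_prime hM)
  apply MemLocalRing.mul hM
  · apply MemLocalRing.mul hM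
    · exact MemLocalRing.pow hM (memLocalRing_natCast hM p) _
    · exact memLocalRing_of_isIntegral hM hβint
  · exact memLocalRing_inv_natCast hM hG2

end

end Cfsg.Agent.Lib.Helper6
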