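import Mathlib
import Cfsg.Prelude.Def_Blocks
import Cfsg.Agent.Lib.Helper6.BlkDefect
import Cfsg.Agent.Lib.Helper6.BlkCenter

set_option autoImplicit false
set_option linter.unusedSectionVars false
open Cfsg

namespace Cfsg.Agent.Lib.Helper6

open scoped ComplexConjugate

section

variable {G : Type*} [Group G] [Fintype G] [DecidableEq G]
variable {p : ℕ} {M : Ideal Cfsg.AlgInt}

/-- the `p`-regular classes determine the blocks -/
theorem sameBlock_of_forall_pRegular (hM : Cfsg.IsPModular p M) (χ ψ : Cfsg.IrrCharacter G)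
    (h : ∀ g : G, ¬ p ∣ orderOf g →
      Cfsg.MemLocalIdeal M (Cfsg.centralChar (χ : G → ℂ) g - Cfsg.centralChar (ψ : G → ℂ) g)) :
    Cfsg.SameBlock M (χ : G → ℂ) (ψ : G → ℂ) := by
  classical
  have : Fintype (ConjClasses G) := Fintype.ofFinite _
  set B := Cfsg.blockOf M (χ : G → ℂ) with hB
  have hXc : blockMat B ∈ centerAlg G := blockMat_mem_centerAlg B
  have h1 : cOmega (χ : G → ℂ) (blockMat B) = 1 := by
    have hχB : χ ∈ B := sameBlock_refl hM _
    rw [cOmega_blockMat, if_pos hχB]
  have h2 : cOmega (ψ : G → ℂ) (blockMat B) = if ψ ∈ B then 1 else 0 := cOmega_blockMat B ψ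
  have h3 : Cfsg.MemLocalIdeal M (cOmega (χ : G → ℂ) (blockMat B) - cOmega (ψ : G → ℂ) (blockMat B)) := by
    rw [cOmega_eq_sum_classes (IsIrrCharacter.isClassFunction χ.2) hXc,
      cOmega_eq_sum_classes (IsIrrCharacter.isClassFunction ψ.2) hXc, ← Finset.sum_sub_distrib]
    apply MemLocalIdeal.sum hM
    intro c _
    rw [← mul_sub]
    have hval : blockMat B (Quotient.out c) 1 = Cfsg.blockCoeff B (Quotient.out c) := by
      unfold blockMat
      rw [regMat_apply, inv_one, mul_one]
    rw [hval]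
    by_cases hreg : p ∣ orderOf (Quotient.out c)
    · rw [blockCoeff_eq_zero_of_pSingular hM χ _ hreg, zero_mul]
      exact memLocalIdeal_zero hM
    · exact MemLocalIdeal.mul_left hM (blockCoeff_memLocalRing hM χ _) (h _ hreg)
  rw [h1, h2] at h3
  by_cases hψ : ψ ∈ B
  · exact hψ
  · rw [if_neg hψ, sub_zero] at h3
    exact absurd h3 (not_memLocalIdeal_one hM)

end

end Cfsg.Agent.Lib.Helper6
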