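import Mathlib
import Cfsg.Agent.Lib.Helper6.Constituent

set_option autoImplicit false

namespace Cfsg.Agent.Lib.Helper6

open Module
open scoped ComplexConjugate

section

theorem end_eq_trace_smul_id {V : Type*} [AddCommGroup V] [Module ℂ V]
    (h : finrank ℂ V = 1) (f : Module.End ℂ V) :
    f = (LinearMap.trace ℂ V f) • LinearMap.id := by
  have : FiniteDimensional ℂ V := Module.finite_of_finrank_eq_succ h
  let b := Module.finBasisOfFinrankEq ℂ V h
  set c := b.repr (f (b 0)) 0 with hc
  have hf : ∀ i, f (b i) = (fun _ => c) i • b i := by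
    intro i
    have hi : i = 0 := Subsingleton.elim _ _
    subst hi
    have := b.sum_repr (f (b 0))
    rw [Fin.sum_univ_one] at this
    exact this.symm
  have htr := trace_eq_sum_of_eigenbasis b (fun _ => c) f hf
  rw [Fin.sum_univ_one] at htr
  apply b.ext
  intro i
  rw [hf i, htr]
  rfl

variable {G : Type*} [Group G]

theorem IsCharacter.mul_of_apply_one_eq_one {χ : G → ℂ} (hχ : Cfsg.IsCharacter G χ)
    (h1 : χ 1 = 1) (g h : G) : χ (g * h) = χ g * χ h := by
  obtain ⟨n, ρ, rfl⟩ := hχ
  rw [Representation.char_one] at h1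
  have hfr : finrank ℂ (Fin n → ℂ) = 1 := by exact_mod_cast h1
  have e1 := end_eq_trace_smul_id hfr (ρ g)
  have e2 := end_eq_trace_smul_id hfr (ρ h)
  unfold Representation.character
  rw [map_mul]
  nth_rewrite 1 [e1, e2]
  rw [smul_mul_smul_comm]
  have : (LinearMap.id : (Fin n → ℂ) →ₗ[ℂ] (Fin n → ℂ)) * LinearMap.id = LinearMap.id := rfl
  rw [this, map_smul, LinearMap.trace_id, hfr]
  simp

/-- A character of degree one as a homomorphism to the units. -/
noncomputable def linearCharHom {χ : G → ℂ} (hχ : Cfsg.IsCharacter G χ) (h1 : χ 1 = 1) :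
    G →* ℂˣ where
  toFun g := Units.mk0 (χ g) (by
    intro h0
    have := IsCharacter.mul_of_apply_one_eq_one hχ h1 g g⁻¹
    rw [mul_inv_cancel, h1, h0, zero_mul] at this
    exact one_ne_zero this)
  map_one' := by
    apply Units.ext
    simp [h1]
  map_mul' g h := by
    apply Units.ext
    simp [IsCharacter.mul_of_apply_one_eq_one hχ h1 g h]

theorem linearCharHom_apply {χ : G → ℂ} (hχ : Cfsg.IsCharacter G χ) (h1 : χ 1 = 1) (g : G) :
    ((linearCharHom hχ h1 g : ℂˣ) : ℂ) = χ g := rfl

/-- Degree one characters are irreducible. -/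
theorem IsCharacter.isIrr_of_apply_one_eq_one {χ : G → ℂ} (hχ : Cfsg.IsCharacter G χ)
    (h1 : χ 1 = 1) : Cfsg.IsIrrCharacter G χ := by
  have := isIrrCharacter_of_hom (linearCharHom hχ h1)
  simpa [linearCharHom_apply] using this

/-- Linear characters correspond to homomorphisms into the units. -/
noncomputable def linearCharEquiv (G : Type*) [Group G] :
    (G →* ℂˣ) ≃ {χ : Cfsg.IrrCharacter G // (χ : G → ℂ) 1 = 1} where
  toFun lam := ⟨⟨fun g => (lam g : ℂ), isIrrCharacter_of_hom lam⟩, by simp⟩
  invFun χ := linearCharHom (IsIrrCharacter.isCharacter χ.1.2) χ.2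
  left_inv lam := by
    ext g
    rfl
  right_inv χ := by
    apply Subtype.ext
    apply Subtype.ext
    funext g
    rfl

theorem card_linear_characters [Finite G] :
    Nat.card {χ : Cfsg.IrrCharacter G // (χ : G → ℂ) 1 = 1} = (commutator G).index := by
  rw [← Nat.card_congr (linearCharEquiv G), Nat.card_congr (Abelianization.lift (G := G) (A := ℂˣ))]
  have : NeZero (Monoid.exponent (Abelianization G) : ℂ) := by
    refine ⟨?_⟩
    exact_mod_cast Monoid.exponent_ne_zero_of_finite
  rw [CommGroup.card_monoidHom_of_hasEnoughRootsOfUnity (Abelianization G) ℂ]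
  rw [Subgroup.index_eq_card]
  rfl

end

end Cfsg.Agent.Lib.Helper6
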