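import Mathlib
import Cfsg.Agent.Lib.Helper6.Constituent
import Cfsg.Agent.Lib.Helper6.DegreeDvd
import Cfsg.Agent.Lib.Helper6.Linear

set_option autoImplicit false

namespace Cfsg.Agent.Lib.Helper6

open scoped ComplexConjugate

section

variable {G : Type*} [Group G] [Fintype G]

/-- Decomposition of a character with multiplicities, identified as inner products. -/
theorem IsCharacter.exists_mult [Fintype (Cfsg.IrrCharacter G)] {ψ : G → ℂ}
    (hψ : Cfsg.IsCharacter G ψ) :
    ∃ m : Cfsg.IrrCharacter G → ℕ, ψ = ∑ θ, m θ • (θ : G → ℂ) ∧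
      ∀ θ : Cfsg.IrrCharacter G, Cfsg.classInner ψ (θ : G → ℂ) = m θ := by
  classical
  obtain ⟨m, hm⟩ := IsCharacter.eq_sum_irr hψ
  refine ⟨m, hm, ?_⟩
  intro χ
  have h0 : (χ : G → ℂ) = ∑ θ : Cfsg.IrrCharacter G, (if θ = χ then 1 else 0) • (θ : G → ℂ) := by
    simp [Finset.sum_ite_eq']
  conv_lhs => rw [hm, h0]
  rw [classInner_sum_irr]
  simp [Finset.sum_ite_eq']

/-- The degree of an irreducible character divides the group order. -/
theorem IsIrrCharacter.charDegree_dvd_card {χ : G → ℂ} (hχ : Cfsg.IsIrrCharacter G χ) :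
    Cfsg.charDegree χ ∣ Nat.card G := by
  have h1 := IsCharacter.apply_one_eq_charDegree (IsIrrCharacter.isCharacter hχ)
  obtain ⟨n, ρ, hirr, rfl⟩ := hχ
  rw [Representation.char_one] at h1
  have h2 : Module.finrank ℂ (Fin n → ℂ) = Cfsg.charDegree ρ.character := by exact_mod_cast h1
  rw [← h2]
  exact finrank_dvd_card ρ

omit [Fintype G] in
theorem charDegree_character {V : Type*} [AddCommGroup V] [Module ℂ V] [FiniteDimensional ℂ V]
    (ρ : Representation ℂ G V) : Cfsg.charDegree ρ.character = Module.finrank ℂ V := by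
  have h1 := IsCharacter.apply_one_eq_charDegree (isCharacter_character ρ)
  rw [Representation.char_one] at h1
  exact_mod_cast h1.symm

omit [Fintype G] in
/-- Value of a character in terms of the decomposition. -/
theorem apply_eq_sum_mult [Fintype (Cfsg.IrrCharacter G)] {ψ : G → ℂ}
    {m : Cfsg.IrrCharacter G → ℕ} (hm : ψ = ∑ θ, m θ • (θ : G → ℂ)) (g : G) :
    ψ g = ∑ θ : Cfsg.IrrCharacter G, (m θ : ℂ) * (θ : G → ℂ) g := by
  conv_lhs => rw [hm]
  rw [Finset.sum_apply]
  apply Finset.sum_congr rfl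
  intro θ _
  rw [Pi.smul_apply, nsmul_eq_mul]

omit [Fintype G] in
/-- A linear character is trivial on commutators. -/
theorem IsCharacter.apply_commutator_of_apply_one_eq_one {χ : G → ℂ}
    (hχ : Cfsg.IsCharacter G χ) (h1 : χ 1 = 1) (a b : G) : χ (a * b * a⁻¹ * b⁻¹) = 1 := by
  have hmul := IsCharacter.mul_of_apply_one_eq_one hχ h1
  rw [hmul, hmul, hmul]
  have h2 : χ a * χ a⁻¹ = 1 := by rw [← hmul, mul_inv_cancel, h1]
  have h3 : χ b * χ b⁻¹ = 1 := by rw [← hmul, mul_inv_cancel, h1]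
  calc χ a * χ b * χ a⁻¹ * χ b⁻¹ = (χ a * χ a⁻¹) * (χ b * χ b⁻¹) := by ring
    _ = 1 := by rw [h2, h3, mul_one]

end

end Cfsg.Agent.Lib.Helper6
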