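import Mathlib
import Cfsg.Agent.Lib.Helper6.Auto
import Cfsg.Agent.Lib.Helper6.CharOps
import Cfsg.Agent.Lib.Helper6.Multiplicity
import Cfsg.Agent.Lib.Helper6.IndFun

set_option autoImplicit false

namespace Cfsg.Agent.Lib.Helper6

open scoped ComplexConjugate

section

variable {G : Type*} [Group G]

/-- The conjugate of a function on a normal subgroup by a group element. -/
def conjFun (N : Subgroup G) (hN : N.Normal) (θ : N → ℂ) (g : G) : N → ℂ :=
  fun n => θ ⟨g * n * g⁻¹, hN.conj_mem n n.2 g⟩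

theorem conjFun_apply (N : Subgroup G) (hN : N.Normal) (θ : N → ℂ) (g : G) (n : N) :
    conjFun N hN θ g n = θ ⟨g * n * g⁻¹, hN.conj_mem n n.2 g⟩ := rfl

theorem conjFun_eq_comp (N : Subgroup G) [hN : N.Normal] (θ : N → ℂ) (g : G) :
    conjFun N hN θ g = fun n => θ (MulAut.conjNormal g n) := by
  funext n
  rw [conjFun_apply]
  congr 1

theorem conjFun_conjFun (N : Subgroup G) (hN : N.Normal) (θ : N → ℂ) (g h : G) :
    conjFun N hN (conjFun N hN θ g) h = conjFun N hN θ (g * h) := by
  funext n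
  simp only [conjFun_apply]
  congr 1
  apply Subtype.ext
  simp [mul_assoc]

theorem conjFun_one (N : Subgroup G) (hN : N.Normal) (θ : N → ℂ) :
    conjFun N hN θ 1 = θ := by
  funext n
  simp only [conjFun_apply]
  congr 1
  apply Subtype.ext
  simp

theorem conjFun_of_mem (N : Subgroup G) (hN : N.Normal) {θ : N → ℂ}
    (hθ : Cfsg.IsClassFunction N θ) {g : G} (hg : g ∈ N) : conjFun N hN θ g = θ := by
  funext n
  rw [conjFun_apply]
  have := hθ n ⟨g, hg⟩
  rw [← this]
  congr 1

theorem IsIrrCharacter.conjFun [Finite G] (N : Subgroup G) (hN : N.Normal) {θ : N → ℂ}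
    (hθ : Cfsg.IsIrrCharacter N θ) (g : G) : Cfsg.IsIrrCharacter N (conjFun N hN θ g) := by
  have := hN
  rw [conjFun_eq_comp]
  exact IsIrrCharacter.comp_mulEquiv (MulAut.conjNormal g : N ≃* N) hθ

theorem IsCharacter.conjFun (N : Subgroup G) (hN : N.Normal) {θ : N → ℂ}
    (hθ : Cfsg.IsCharacter N θ) (g : G) : Cfsg.IsCharacter N (conjFun N hN θ g) := by
  have := hN
  rw [conjFun_eq_comp]
  exact IsCharacter.comp (MulAut.conjNormal g : N ≃* N).toMonoidHom hθ

theorem classInner_conjFun_conjFun [Fintype G] (N : Subgroup G) [Fintype N] (hN : N.Normal)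
    (φ ψ : N → ℂ) (g : G) :
    Cfsg.classInner (conjFun N hN φ g) (conjFun N hN ψ g) = Cfsg.classInner φ ψ := by
  have := hN
  rw [conjFun_eq_comp, conjFun_eq_comp]
  exact classInner_comp_mulEquiv (MulAut.conjNormal g : N ≃* N) φ ψ

/-- The restriction of a class function of `G` to a normal subgroup is invariant. -/
theorem conjFun_restrict (N : Subgroup G) (hN : N.Normal) {χ : G → ℂ}
    (hχ : Cfsg.IsClassFunction G χ) (g : G) :
    conjFun N hN (fun n : N => χ n) g = fun n : N => χ n := by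
  funext n
  rw [conjFun_apply]
  exact hχ n g

variable [Fintype G]

/-- Values on a normal subgroup of the function induced from it. -/
theorem indFun_apply_of_normal (N : Subgroup G) (hN : N.Normal) (θ : N → ℂ) (n : N) :
    Cfsg.indFun N θ n = (Nat.card N : ℂ)⁻¹ * ∑ x : G, conjFun N hN θ x n := by
  unfold Cfsg.indFun
  congr 1
  rw [← Equiv.sum_comp (Equiv.inv G) (fun x : G => conjFun N hN θ x n)]
  apply Finset.sum_congr rfl
  intro x _
  simp only [Equiv.inv_apply, conjFun_apply, inv_inv]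
  exact extendByZero_of_mem N θ _

theorem indFun_restrict_of_normal (N : Subgroup G) (hN : N.Normal) (θ : N → ℂ) :
    (fun n : N => Cfsg.indFun N θ n) = (Nat.card N : ℂ)⁻¹ • ∑ x : G, conjFun N hN θ x := by
  funext n
  rw [indFun_apply_of_normal N hN, Pi.smul_apply, Finset.sum_apply, smul_eq_mul]

/-- The induced function from a normal subgroup vanishes outside it. -/
theorem indFun_apply_of_not_mem (N : Subgroup G) (hN : N.Normal) (θ : N → ℂ) {g : G}
    (hg : g ∉ N) : Cfsg.indFun N θ g = 0 := by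
  unfold Cfsg.indFun
  have : ∀ x : G, Cfsg.extendByZero N θ (x⁻¹ * g * x) = 0 := by
    intro x
    apply extendByZero_of_not_mem
    intro h
    apply hg
    have := hN.conj_mem _ h x
    simpa [mul_assoc] using this
  simp [this]

theorem classInner_indFun_restrict_left (N : Subgroup G) [Fintype N] (hN : N.Normal)
    (θ ψ : N → ℂ) :
    Cfsg.classInner (fun n : N => Cfsg.indFun N θ n) ψ
      = (Nat.card N : ℂ)⁻¹ * ∑ x : G, Cfsg.classInner (conjFun N hN θ x) ψ := by
  rw [indFun_restrict_of_normal N hN, classInner_smul_left, classInner_sum_left]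

theorem classInner_indFun_restrict_right (N : Subgroup G) [Fintype N] (hN : N.Normal)
    (θ ψ : N → ℂ) :
    Cfsg.classInner ψ (fun n : N => Cfsg.indFun N θ n)
      = (Nat.card N : ℂ)⁻¹ * ∑ x : G, Cfsg.classInner ψ (conjFun N hN θ x) := by
  rw [indFun_restrict_of_normal N hN, classInner_smul_right, classInner_sum_right, map_inv₀,
    Complex.conj_natCast]

/-- Removing an irreducible constituent from a character leaves a character. -/
theorem IsCharacter.exists_eq_add_of_constituent {A θ : G → ℂ} (hA : Cfsg.IsCharacter G A)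
    (hθ : Cfsg.IsIrrCharacter G θ) (h : Cfsg.classInner A θ ≠ 0) :
    ∃ B : G → ℂ, Cfsg.IsCharacter G B ∧ A = θ + B := by
  classical
  have : Fintype (Cfsg.IrrCharacter G) := Fintype.ofFinite _
  obtain ⟨m, hm, hmi⟩ := IsCharacter.exists_mult hA
  have hm0 : m ⟨θ, hθ⟩ ≠ 0 := by
    intro h0
    apply h
    rw [hmi ⟨θ, hθ⟩, h0]
    simp
  set θ' : Cfsg.IrrCharacter G := ⟨θ, hθ⟩ with hθ'
  have hθv : θ = (θ' : G → ℂ) := rfl
  refine ⟨∑ ψ : Cfsg.IrrCharacter G, (if ψ = θ' then m ψ - 1 else m ψ) • (ψ : G → ℂ), ?_, ?_⟩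
  · apply IsCharacter.sum
    intro ψ _
    exact IsCharacter.nsmul (IsIrrCharacter.isCharacter ψ.2) _
  · have h1 : (θ' : G → ℂ)
        = ∑ ψ : Cfsg.IrrCharacter G, (if ψ = θ' then 1 else 0) • (ψ : G → ℂ) := by
      simp [Finset.sum_ite_eq']
    rw [hθv]
    conv_lhs => rw [hm]
    conv_rhs => rw [h1]
    rw [← Finset.sum_add_distrib]
    apply Finset.sum_congr rfl
    intro ψ _
    rw [← add_smul]
    congr 1
    split_ifs with hψ
    · rw [hψ]; omega
    · omega

end

end Cfsg.Agent.Lib.Helper6
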