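import Mathlib
import Cfsg.Agent.Lib.Helper6.Auto
import Cfsg.Agent.Lib.Helper6.ClassFun
import Cfsg.Agent.Lib.Helper6.Clifford

set_option autoImplicit false

namespace Cfsg.Agent.Lib.Helper6

open scoped ComplexConjugate

section

variable {G : Type*} [Group G] [Fintype G]

/-- The coset decomposition `(G ⧸ N) × N ≃ G`. -/
noncomputable def cosetEquiv (N : Subgroup G) : (G ⧸ N) × N ≃ G where
  toFun := fun p => p.1.out * p.2
  invFun := fun g => (QuotientGroup.mk g, ⟨(QuotientGroup.mk g : G ⧸ N).out⁻¹ * g,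
    QuotientGroup.eq.mp (QuotientGroup.out_eq' (QuotientGroup.mk g : G ⧸ N))⟩)
  left_inv := by
    rintro ⟨q, z⟩
    have h1 : (QuotientGroup.mk (q.out * (z : G)) : G ⧸ N) = q := by
      rw [QuotientGroup.mk_mul_of_mem _ z.2, QuotientGroup.out_eq']
    apply Prod.ext
    · exact h1
    · apply Subtype.ext
      simp only
      rw [h1]
      group
  right_inv := by
    intro g
    simp

omit [Fintype G] in
theorem mk_cosetEquiv (N : Subgroup G) (p : (G ⧸ N) × N) :
    (QuotientGroup.mk (cosetEquiv N p) : G ⧸ N) = p.1 := by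
  change (QuotientGroup.mk (p.1.out * (p.2 : G)) : G ⧸ N) = p.1
  rw [QuotientGroup.mk_mul_of_mem _ p.2.2, QuotientGroup.out_eq']

/-- Summing a function of the coset over the group. -/
theorem sum_comp_mk (N : Subgroup G) [Fintype (G ⧸ N)] [Fintype N] (F : G ⧸ N → ℂ) :
    ∑ g : G, F (QuotientGroup.mk g) = (Nat.card N : ℂ) * ∑ q : G ⧸ N, F q := by
  rw [← Equiv.sum_comp (cosetEquiv N) (fun g => F (QuotientGroup.mk g)), Fintype.sum_prod_type,
    Finset.mul_sum]
  apply Finset.sum_congr rfl
  intro q _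
  have : ∀ z : N, F (QuotientGroup.mk (cosetEquiv N (q, z))) = F q := by
    intro z
    rw [mk_cosetEquiv]
  rw [Finset.sum_congr rfl (fun z _ => this z), Finset.sum_const, Finset.card_univ,
    Nat.card_eq_fintype_card, nsmul_eq_mul]

variable (N : Subgroup G) [hN : N.Normal]

/-- Inflation preserves the inner product. -/
theorem classInner_comp_mk [Fintype (G ⧸ N)] (F F' : G ⧸ N → ℂ) :
    Cfsg.classInner (fun g : G => F (QuotientGroup.mk g)) (fun g : G => F' (QuotientGroup.mk g))
      = Cfsg.classInner F F' := by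
  have : Fintype N := Fintype.ofFinite N
  unfold Cfsg.classInner
  rw [sum_comp_mk N (fun q => F q * conj (F' q))]
  have h1 : (Nat.card G : ℂ) = (Nat.card (G ⧸ N) : ℂ) * (Nat.card N : ℂ) := by
    rw [← Nat.cast_mul, ← Subgroup.index_eq_card, Subgroup.index_mul_card]
  have hNc := card_ne_zero_complex N
  have hQc := card_ne_zero_complex (G ⧸ N)
  rw [h1]
  field_simp

/-- Inflation of an irreducible character is irreducible. -/
theorem IsIrrCharacter.comp_mk {β : G ⧸ N → ℂ} (hβ : Cfsg.IsIrrCharacter (G ⧸ N) β) :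
    Cfsg.IsIrrCharacter G (fun g : G => β (QuotientGroup.mk g)) := by
  have : Fintype (G ⧸ N) := Fintype.ofFinite _
  apply isIrrCharacter_of_classInner_self_eq_one
    (IsCharacter.comp (QuotientGroup.mk' N) (IsIrrCharacter.isCharacter hβ))
  have h := classInner_comp_mk N β β
  rw [classInner_isIrrCharacter hβ hβ, if_pos rfl] at h
  exact h

/-- The average of a function over the cosets of `N`. -/
noncomputable def cosetAvg [Fintype N] (f : G → ℂ) : G → ℂ :=
  fun g => (Nat.card N : ℂ)⁻¹ * ∑ n : N, f ((n : G) * g)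

omit hN [Fintype G] in
theorem cosetAvg_mul_left [Fintype N] (f : G → ℂ) (m : N) (g : G) :
    cosetAvg N f ((m : G) * g) = cosetAvg N f g := by
  unfold cosetAvg
  congr 1
  rw [← Equiv.sum_comp (Equiv.mulRight m) (fun n : N => f ((n : G) * g))]
  apply Finset.sum_congr rfl
  intro n _
  simp [mul_assoc]

omit [Fintype G] in
/-- The coset average of a class function is a class function. -/
theorem cosetAvg_isClassFunction [Fintype N] {f : G → ℂ} (hf : Cfsg.IsClassFunction G f) :
    Cfsg.IsClassFunction G (cosetAvg N f) := by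
  intro g h
  unfold cosetAvg
  congr 1
  rw [← Equiv.sum_comp (MulAut.conjNormal h : N ≃* N).toEquiv
    (fun n : N => f ((n : G) * (h * g * h⁻¹)))]
  apply Finset.sum_congr rfl
  intro n _
  have h1 : ((MulAut.conjNormal h n : N) : G) * (h * g * h⁻¹) = h * ((n : G) * g) * h⁻¹ := by
    rw [MulAut.conjNormal_apply]
    group
  simp only [MulEquiv.toEquiv_eq_coe, EquivLike.coe_coe]
  rw [h1]
  exact hf _ h

omit hN in
/-- Pairing the coset average with a function constant on cosets. -/
theorem classInner_cosetAvg_left [Fintype N] (f μ : G → ℂ)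
    (hμ : ∀ (n : N) (g : G), μ ((n : G) * g) = μ g) :
    Cfsg.classInner (cosetAvg N f) μ = Cfsg.classInner f μ := by
  unfold Cfsg.classInner cosetAvg
  congr 1
  have hNc := card_ne_zero_complex N
  have h1 : ∀ g : G, (Nat.card N : ℂ)⁻¹ * (∑ n : N, f ((n : G) * g)) * conj (μ g)
      = (Nat.card N : ℂ)⁻¹ * ∑ n : N, f ((n : G) * g) * conj (μ ((n : G) * g)) := by
    intro g
    rw [mul_assoc, Finset.sum_mul]
    congr 1
    apply Finset.sum_congr rfl
    intro n _
    rw [hμ n g]
  rw [Finset.sum_congr rfl (fun g _ => h1 g), ← Finset.mul_sum, Finset.sum_comm]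
  have h2 : ∀ n : N, ∑ g : G, f ((n : G) * g) * conj (μ ((n : G) * g))
      = ∑ g : G, f g * conj (μ g) := by
    intro n
    exact Equiv.sum_comp (Equiv.mulLeft (n : G)) (fun g => f g * conj (μ g))
  rw [Finset.sum_congr rfl (fun n _ => h2 n), Finset.sum_const, Finset.card_univ,
    ← Nat.card_eq_fintype_card, nsmul_eq_mul]
  field_simp

/-- The coset average of a class function, expanded in the inflated irreducible characters
of the quotient. -/
theorem cosetAvg_eq_sum [Fintype N] [Fintype (Cfsg.IrrCharacter (G ⧸ N))] {f : G → ℂ}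
    (hf : Cfsg.IsClassFunction G f) :
    cosetAvg N f = ∑ β : Cfsg.IrrCharacter (G ⧸ N),
      Cfsg.classInner f (fun g : G => (β : G ⧸ N → ℂ) (QuotientGroup.mk g))
        • (fun g : G => (β : G ⧸ N → ℂ) (QuotientGroup.mk g)) := by
  classical
  have : Fintype (G ⧸ N) := Fintype.ofFinite _
  let F : G ⧸ N → ℂ := fun q => cosetAvg N f q.out
  have hF : ∀ g : G, F (QuotientGroup.mk g) = cosetAvg N f g := by
    intro g
    have h1 : ((QuotientGroup.mk g : G ⧸ N).out)⁻¹ * g ∈ N :=
      QuotientGroup.eq.mp (QuotientGroup.out_eq' (QuotientGroup.mk g : G ⧸ N))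
    -- g = m * out with m ∈ N
    set o := (QuotientGroup.mk g : G ⧸ N).out with ho
    have h2 : g * o⁻¹ ∈ N := by
      have := hN.conj_mem _ h1 o
      simpa [mul_assoc] using this
    have h3 : g = ((⟨g * o⁻¹, h2⟩ : N) : G) * o := by simp
    change cosetAvg N f o = cosetAvg N f g
    conv_rhs => rw [h3]
    rw [cosetAvg_mul_left]
  have hFcf : Cfsg.IsClassFunction (G ⧸ N) F := by
    intro q q'
    obtain ⟨g, rfl⟩ := QuotientGroup.mk_surjective q
    obtain ⟨h, rfl⟩ := QuotientGroup.mk_surjective q'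
    have h1 : (QuotientGroup.mk h : G ⧸ N) * QuotientGroup.mk g * (QuotientGroup.mk h)⁻¹
        = QuotientGroup.mk (h * g * h⁻¹) := rfl
    rw [h1, hF, hF]
    exact cosetAvg_isClassFunction N hf g h
  have hsum := classFunction_eq_sum F hFcf
  funext g
  rw [← hF g, hsum]
  simp only [Finset.sum_apply, Pi.smul_apply, smul_eq_mul]
  apply Finset.sum_congr rfl
  intro β _
  congr 1
  rw [← classInner_comp_mk N F (β : G ⧸ N → ℂ)]
  have h2 : (fun g : G => F (QuotientGroup.mk g)) = cosetAvg N f := funext hF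
  rw [h2]
  apply classInner_cosetAvg_left
  intro n g
  rw [QuotientGroup.mk_mul, (QuotientGroup.eq_one_iff (n : G)).mpr n.2, one_mul]

end

end Cfsg.Agent.Lib.Helper6
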