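import Mathlib
import Cfsg.Prelude.Def_Blocks
import Cfsg.Prelude.Def_Solvable
import Cfsg.Agent.Lib.Helper6.BlkDefect
import Cfsg.Agent.Lib.Helper6.BlkCenter
import Cfsg.Agent.Lib.Helper6.Mult
import Cfsg.Agent.Lib.Helper6.QuotChar
import Cfsg.Agent.S0174

set_option autoImplicit false
set_option linter.unusedSectionVars false
open Cfsg

namespace Cfsg.Agent.Lib.Helper6

open scoped ComplexConjugate

section

variable {G : Type*} [Group G]

/-- elements where a character takes its degree act trivially -/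
theorem IsCharacter.apply_mul_of_apply_eq [Finite G] {χ : G → ℂ} (hχ : Cfsg.IsCharacter G χ) {u : G}
    (hu : χ u = χ 1) (g : G) : χ (g * u) = χ g := by
  obtain ⟨n, ρ, rfl⟩ := hχ
  rw [Representation.char_one] at hu
  have h1 := (character_eq_finrank_iff ρ u).mp hu
  unfold Representation.character
  rw [map_mul, h1]
  rfl

theorem IsCharacter.apply_mul_left_of_apply_eq [Finite G] {χ : G → ℂ} (hχ : Cfsg.IsCharacter G χ)
    {u : G} (hu : χ u = χ 1) (g : G) : χ (u * g) = χ g := by
  have h1 : χ (u * g) = χ (g * u) := by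
    have := IsCharacter.isClassFunction hχ (g * u) u
    rw [← this]
    congr 1
    group
  rw [h1, IsCharacter.apply_mul_of_apply_eq hχ hu]

/-- if the trivial character is a constituent of the restriction of an irreducible character to a
normal subgroup, then the normal subgroup is in the kernel -/
theorem IsIrrCharacter.const_on_normal_of_sum_ne_zero [Fintype G] (N : Subgroup G) [hN : N.Normal]
    [Fintype N] {χ : G → ℂ} (hχ : Cfsg.IsIrrCharacter G χ) (h : ∑ n : N, χ n ≠ 0) :
    ∀ n : N, χ n = χ 1 := by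
  have hconst : Cfsg.classInner (fun n : N => χ n) (fun _ : N => (1 : ℂ)) ≠ 0 := by
    unfold Cfsg.classInner
    simp only [map_one, mul_one]
    apply mul_ne_zero _ h
    have : Nat.card N ≠ 0 := Nat.card_pos.ne'
    exact inv_ne_zero (by exact_mod_cast this)
  have hcl := Cfsg.Agent.S0174.result N hN χ hχ (fun _ : N => (1 : ℂ)) isIrrCharacter_one hconst
  have hset : {ψ : N → ℂ | ∃ g : G, ψ = fun n : N =>
      (fun _ : N => (1 : ℂ)) ⟨g * n * g⁻¹, hN.conj_mem n n.2 g⟩} = {fun _ : N => (1 : ℂ)} := by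
    ext ψ
    simp only [Set.mem_ofPred_eq, Set.mem_singleton_iff]
    constructor
    · rintro ⟨g, hg⟩; exact hg
    · intro hψ; exact ⟨1, hψ⟩
  rw [hset, finsum_mem_singleton] at hcl
  intro n
  have h1 := congrFun hcl n
  have h2 := congrFun hcl 1
  simp only [Pi.smul_apply, smul_eq_mul, mul_one] at h1 h2
  rw [h1]
  exact h2.symm

end

section

variable {G : Type*} [Group G] [Fintype G] [DecidableEq G]
variable {p : ℕ} {M : Ideal Cfsg.AlgInt}

/-- an irreducible character with a normal subgroup in its kernel is inflated from the quotient -/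
theorem IsIrrCharacter.exists_deflation (N : Subgroup G) [hN : N.Normal] (χ : Cfsg.IrrCharacter G)
    (h : ∀ n ∈ N, (χ : G → ℂ) n = (χ : G → ℂ) 1) :
    ∃ β : Cfsg.IrrCharacter (G ⧸ N), (χ : G → ℂ) = fun g => (β : G ⧸ N → ℂ) (QuotientGroup.mk g) := by
  classical
  have : Fintype N := Fintype.ofFinite N
  have : Fintype (Cfsg.IrrCharacter (G ⧸ N)) := Fintype.ofFinite _
  have hχc := IsIrrCharacter.isCharacter χ.2
  have havg : cosetAvg N (χ : G → ℂ) = (χ : G → ℂ) := by
    funext g
    unfold cosetAvg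
    have h1 : ∀ n : N, (χ : G → ℂ) ((n : G) * g) = (χ : G → ℂ) g :=
      fun n => IsCharacter.apply_mul_left_of_apply_eq hχc (h n n.2) g
    rw [Finset.sum_congr rfl (fun n _ => h1 n), Finset.sum_const, Finset.card_univ,
      ← Nat.card_eq_fintype_card, nsmul_eq_mul]
    have : (Nat.card N : ℂ) ≠ 0 := by
      have : Nat.card N ≠ 0 := Nat.card_pos.ne'
      exact_mod_cast this
    field_simp
  have hsum := cosetAvg_eq_sum N (IsCharacter.isClassFunction hχc)
  rw [havg] at hsum
  by_contra hne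
  push Not at hne
  have hzero : ∀ β : Cfsg.IrrCharacter (G ⧸ N),
      Cfsg.classInner (χ : G → ℂ) (fun g : G => (β : G ⧸ N → ℂ) (QuotientGroup.mk g)) = 0 := by
    intro β
    have hβ : Cfsg.IsIrrCharacter G (fun g : G => (β : G ⧸ N → ℂ) (QuotientGroup.mk g)) :=
      IsIrrCharacter.comp_mk N β.2
    have := classInner_irrCharacter χ ⟨_, hβ⟩
    rw [this, if_neg]
    intro heq
    apply hne β
    rw [heq]
  have h0 : (χ : G → ℂ) = 0 := by
    rw [hsum]
    simp [hzero]
  have := IsIrrCharacter.apply_one_ne_zero χ.2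
  rw [h0] at this
  exact this rfl

/-- every block contains a character whose kernel contains a given normal `p`-subgroup -/
theorem exists_mem_block_const_on_normal (hM : Cfsg.IsPModular p M) (χ₀ : Cfsg.IrrCharacter G)
    (P : Subgroup G) [hPn : P.Normal] (hP : IsPGroup p P) :
    ∃ χ ∈ Cfsg.blockOf M (χ₀ : G → ℂ), ∀ u ∈ P, (χ : G → ℂ) u = (χ : G → ℂ) 1 := by
  classical
  have hp : p.Prime := hM.1
  have : Fact p.Prime := ⟨hp⟩
  have : Fintype (Cfsg.IrrCharacter G) := Fintype.ofFinite _
  have : Fintype P := Fintype.ofFinite P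
  set B := Cfsg.blockOf M (χ₀ : G → ℂ) with hB
  by_contra hne
  push Not at hne
  have hzero : ∀ χ ∈ B, ∑ u : P, (χ : G → ℂ) u = 0 := by
    intro χ hχ
    by_contra h0
    obtain ⟨u, hu, hu1⟩ := hne χ hχ
    exact hu1 (IsIrrCharacter.const_on_normal_of_sum_ne_zero P χ.2 h0 ⟨u, hu⟩)
  -- the sum of the idempotent coefficients over P
  have hsum1 : ∑ u : P, Cfsg.blockCoeff B (u : G) = Cfsg.blockCoeff B 1 := by
    rw [Finset.sum_eq_single (1 : P)]
    · simp
    · intro w _ hw1
      apply blockCoeff_eq_zero_of_pSingular hM χ₀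
      obtain ⟨j, hj⟩ := (IsPGroup.iff_orderOf.mp hP) w
      rw [Subgroup.orderOf_coe, hj]
      have hj0 : j ≠ 0 := by
        rintro rfl
        rw [pow_zero] at hj
        exact hw1 (orderOf_eq_one_iff.mp hj)
      exact dvd_pow_self p hj0
    · intro h0; exact absurd (Finset.mem_univ _) h0
  have hsum2 : ∑ u : P, Cfsg.blockCoeff B (u : G) = 0 := by
    have e1 : ∀ u : P, Cfsg.blockCoeff B (u : G)
        = (Nat.card G : ℂ)⁻¹ * ∑ χ ∈ Finset.univ.filter (· ∈ B),
            (χ : G → ℂ) 1 * conj ((χ : G → ℂ) (u : G)) := by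
      intro u
      rw [blockCoeff_eq_sum]
      unfold idemFun
      rw [Finset.mul_sum]
    simp only [e1]
    rw [← Finset.mul_sum, Finset.sum_comm]
    have e2 : ∀ χ ∈ Finset.univ.filter (· ∈ B),
        ∑ u : P, (χ : G → ℂ) 1 * conj ((χ : G → ℂ) (u : G)) = 0 := by
      intro χ hχ
      have hχB : χ ∈ B := (Finset.mem_filter.mp hχ).2
      rw [← Finset.mul_sum, ← map_sum, hzero χ hχB, map_zero, mul_zero]
    rw [Finset.sum_congr rfl e2, Finset.sum_const_zero, mul_zero]
  -- but the coefficient at 1 is positive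
  have hpos : Cfsg.blockCoeff B 1 ≠ 0 := by
    rw [blockCoeff_eq_sum]
    unfold idemFun
    rw [← Finset.mul_sum]
    apply mul_ne_zero
    · have : Nat.card G ≠ 0 := Nat.card_pos.ne'
      exact inv_ne_zero (by exact_mod_cast this)
    · have e3 : ∀ χ ∈ Finset.univ.filter (· ∈ B),
          (χ : G → ℂ) 1 * conj ((χ : G → ℂ) 1)
            = ((Cfsg.charDegree (χ : G → ℂ) ^ 2 : ℕ) : ℂ) := by
        intro χ _
        rw [IsIrrCharacter.conj_apply_one χ.2,
          IsCharacter.apply_one_eq_charDegree (IsIrrCharacter.isCharacter χ.2)]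
        push_cast
        ring
      rw [Finset.sum_congr rfl e3, ← Nat.cast_sum]
      have hχ₀ : χ₀ ∈ Finset.univ.filter (· ∈ B) := by
        rw [Finset.mem_filter]
        exact ⟨Finset.mem_univ _, sameBlock_refl hM _⟩
      have h1 : 0 < ∑ χ ∈ Finset.univ.filter (· ∈ B), Cfsg.charDegree (χ : G → ℂ) ^ 2 := by
        apply Finset.sum_pos'
        · intro χ _; exact Nat.zero_le _
        · exact ⟨χ₀, hχ₀, pow_pos (IsIrrCharacter.charDegree_pos χ₀.2) 2⟩
      exact_mod_cast h1.ne'
  rw [← hsum1, hsum2] at hpos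
  exact hpos rfl

end

end Cfsg.Agent.Lib.Helper6
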