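import Mathlib
import Cfsg.Prelude.Def_Blocks
import Cfsg.Prelude.Def_Solvable
import Cfsg.Agent.Lib.Helper6.BlkNormalP

set_option autoImplicit false
set_option linter.unusedSectionVars false
open Cfsg

namespace Cfsg.Agent.Lib.Helper6

open scoped ComplexConjugate

section conjfixed

variable {G : Type*} [Group G]

/-- fixed point congruence for a `p`-group acting by conjugation on a stable subset -/
theorem card_modEq_card_inter_centralizer [Finite G] {p : ℕ} [Fact p.Prime] (P : Subgroup G)
    (hP : IsPGroup p P) (T : Set G) (hT : ∀ u ∈ P, ∀ t ∈ T, u * t * u⁻¹ ∈ T) :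
    Nat.card T ≡ Nat.card {t : G // t ∈ T ∧ t ∈ Subgroup.centralizer (P : Set G)} [MOD p] := by
  classical
  let act : P → T → T := fun a t => ⟨(a : G) * t.1 * (a : G)⁻¹, hT a a.2 t.1 t.2⟩
  let _ : MulAction P T :=
    { smul := act
      one_smul := by
        intro t
        apply Subtype.ext
        change ((1 : P) : G) * t.1 * ((1 : P) : G)⁻¹ = t.1
        simp
      mul_smul := by
        intro a b t
        apply Subtype.ext
        change ((a * b : P) : G) * t.1 * ((a * b : P) : G)⁻¹
            = (a : G) * ((b : G) * t.1 * (b : G)⁻¹) * (a : G)⁻¹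
        simp [mul_assoc] }
  have hsmul : ∀ (a : P) (t : T), (a • t).1 = (a : G) * t.1 * (a : G)⁻¹ := fun _ _ => rfl
  have hmod := hP.card_modEq_card_fixedPoints T
  refine hmod.trans ?_
  have hcongr : Nat.card (MulAction.fixedPoints P T)
      = Nat.card {t : G // t ∈ T ∧ t ∈ Subgroup.centralizer (P : Set G)} := by
    apply Nat.card_congr
    refine
      { toFun := fun z => ⟨z.1.1, z.1.2, ?_⟩
        invFun := fun w => ⟨⟨w.1, w.2.1⟩, ?_⟩
        left_inv := fun z => rfl
        right_inv := fun w => rfl }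
    · rw [Subgroup.mem_centralizer_iff]
      intro a ha
      have h1 := z.2 ⟨a, ha⟩
      have h2 := congrArg (fun t : T => t.1) h1
      simp only [hsmul] at h2
      calc a * z.1.1 = (a * z.1.1 * a⁻¹) * a := by group
        _ = z.1.1 * a := by rw [h2]
    · intro a
      apply Subtype.ext
      rw [hsmul]
      have h1 := Subgroup.mem_centralizer_iff.mp w.2.2 a a.2
      change (a : G) * w.1 * (a : G)⁻¹ = w.1
      rw [h1]; group
  rw [hcongr]

end conjfixed

section push

variable {G : Type*} [Group G] [Fintype G] [DecidableEq G]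
variable (N : Subgroup G) [hN : N.Normal]

/-- push a function forward to the quotient group by summing over fibres -/
noncomputable def pushFun [DecidableEq (G ⧸ N)] (a : G → ℂ) : G ⧸ N → ℂ :=
  fun q => ∑ g ∈ Finset.univ.filter (fun g : G => (QuotientGroup.mk g : G ⧸ N) = q), a g

theorem pushFun_apply [DecidableEq (G ⧸ N)] (a : G → ℂ) (q : G ⧸ N) :
    pushFun N a q = ∑ g ∈ Finset.univ.filter (fun g : G => (QuotientGroup.mk g : G ⧸ N) = q), a g :=
  rfl

theorem sum_mul_comp_mk [Fintype (G ⧸ N)] [DecidableEq (G ⧸ N)] (a : G → ℂ) (F : G ⧸ N → ℂ) :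
    ∑ g : G, a g * F (QuotientGroup.mk g) = ∑ q : G ⧸ N, pushFun N a q * F q := by
  rw [← Finset.sum_fiberwise Finset.univ (fun g : G => (QuotientGroup.mk g : G ⧸ N))]
  apply Finset.sum_congr rfl
  intro q _
  rw [pushFun_apply, Finset.sum_mul]
  apply Finset.sum_congr rfl
  intro g hg
  rw [(Finset.mem_filter.mp hg).2]

theorem pushFun_isClassFunction [DecidableEq (G ⧸ N)] {a : G → ℂ}
    (ha : Cfsg.IsClassFunction G a) : Cfsg.IsClassFunction (G ⧸ N) (pushFun N a) := by
  intro q r
  obtain ⟨h, rfl⟩ := QuotientGroup.mk_surjective r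
  rw [pushFun_apply, pushFun_apply]
  apply Finset.sum_bij (fun g _ => h⁻¹ * g * h)
  · intro g hg
    simp only [Finset.mem_filter, Finset.mem_univ, true_and] at hg ⊢
    rw [QuotientGroup.mk_mul, QuotientGroup.mk_mul, hg, QuotientGroup.mk_inv]
    group
  · intro g₁ _ g₂ _ h12
    have := mul_left_cancel (mul_right_cancel h12)
    exact this
  · intro g hg
    simp only [Finset.mem_filter, Finset.mem_univ, true_and] at hg
    refine ⟨h * g * h⁻¹, ?_, by group⟩
    simp only [Finset.mem_filter, Finset.mem_univ, true_and]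
    rw [QuotientGroup.mk_mul, QuotientGroup.mk_mul, hg, QuotientGroup.mk_inv]
  · intro g _
    have := ha (h⁻¹ * g * h) h
    rw [← this]
    congr 1
    group

theorem cOmega_comp_mk [Fintype (G ⧸ N)] [DecidableEq (G ⧸ N)] (a : G → ℂ) (β : G ⧸ N → ℂ) :
    cOmega (fun g : G => β (QuotientGroup.mk g)) (regMat a) = cOmega β (regMat (pushFun N a)) := by
  rw [cOmega_regMat, cOmega_regMat, sum_mul_comp_mk]
  rfl

end push

section

variable {G : Type*} [Group G] [Fintype G] [DecidableEq G]
variable {p : ℕ} {M : Ideal Cfsg.AlgInt}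

/-- a central matrix with entries in the maximal ideal has central character values there -/
theorem cOmega_memLocalIdeal_of_entries (hM : Cfsg.IsPModular p M) {θ : G → ℂ}
    (hθ : Cfsg.IsIrrCharacter G θ) {X : Matrix G G ℂ} (hX : X ∈ centerAlg G)
    (hXs : ∀ s t, Cfsg.MemLocalIdeal M (X s t)) : Cfsg.MemLocalIdeal M (cOmega θ X) := by
  classical
  have : Fintype (ConjClasses G) := Fintype.ofFinite _
  rw [cOmega_eq_sum_classes (IsIrrCharacter.isClassFunction hθ) hX]
  apply MemLocalIdeal.sum hM
  intro c _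
  exact MemLocalIdeal.mul_right hM (hXs _ _)
    (memLocalRing_of_isIntegral hM (IsIrrCharacter.isIntegral_centralChar' hθ _))

/-- the central characters vanish mod `M` on classes that avoid the centralizer of a normal
`p`-subgroup -/
theorem centralChar_memLocalIdeal_of_not_centralizer (hM : Cfsg.IsPModular p M)
    (P : Subgroup G) [hPn : P.Normal] (hP : IsPGroup p P) (x : G)
    (hx : ∀ y : G, IsConj x y → y ∉ Subgroup.centralizer (P : Set G))
    (χ : Cfsg.IrrCharacter G) : Cfsg.MemLocalIdeal M (Cfsg.centralChar (χ : G → ℂ) x) := by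
  classical
  have hp : p.Prime := hM.1
  have : Fact p.Prime := ⟨hp⟩
  have : Fintype (G ⧸ P) := Fintype.ofFinite _
  obtain ⟨ψ, hψB, hψ⟩ := exists_mem_block_const_on_normal hM χ P hP
  obtain ⟨β, hβ⟩ := IsIrrCharacter.exists_deflation P ψ hψ
  rw [← cOmega_classInd _ (IsIrrCharacter.isClassFunction χ.2)]
  have hXc : regMat (classInd x) ∈ centerAlg G := regMat_mem_centerAlg (classInd_isClassFunction x)
  have hXs : regMat (classInd x) ∈ sMat hM G := classInd_mem_sMat hM x
  have h1 := cOmega_sub_memLocalIdeal hM χ.2 ψ.2 hψB hXc hXs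
  have h2 : Cfsg.MemLocalIdeal M (cOmega (ψ : G → ℂ) (regMat (classInd x))) := by
    rw [hβ, cOmega_comp_mk]
    apply cOmega_memLocalIdeal_of_entries hM β.2
      (regMat_mem_centerAlg (pushFun_isClassFunction P (classInd_isClassFunction x)))
    intro s t
    rw [regMat_apply, pushFun_apply]
    set q := s * t⁻¹
    -- the fibre count
    have hcount : ∑ g ∈ Finset.univ.filter (fun g : G => (QuotientGroup.mk g : G ⧸ P) = q),
        classInd x g = (Nat.card {g : G // g ∈ {g : G | IsConj x g ∧
          (QuotientGroup.mk g : G ⧸ P) = q}} : ℂ) := by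
      unfold classInd
      rw [Finset.sum_ite, Finset.sum_const_zero, add_zero, Finset.sum_const, nsmul_eq_mul, mul_one,
        Nat.card_eq_fintype_card, Fintype.card_subtype]
      congr 2
      ext g
      simp only [Finset.mem_filter, Finset.mem_univ, true_and, Set.mem_ofPred_eq]
      tauto
    rw [hcount]
    have hmod := card_modEq_card_inter_centralizer P hP
      {g : G | IsConj x g ∧ (QuotientGroup.mk g : G ⧸ P) = q} (by
        intro u hu t ht
        refine ⟨ht.1.trans (isConj_iff.mpr ⟨u, rfl⟩), ?_⟩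
        rw [QuotientGroup.mk_mul, QuotientGroup.mk_mul, QuotientGroup.mk_inv,
          (QuotientGroup.eq_one_iff u).mpr hu, ht.2]
        simp)
    have hempty : Nat.card {t : G // t ∈ {g : G | IsConj x g ∧ (QuotientGroup.mk g : G ⧸ P) = q} ∧
        t ∈ Subgroup.centralizer (P : Set G)} = 0 := by
      rw [Nat.card_eq_zero]
      left
      constructor
      rintro ⟨t, ht, htc⟩
      exact hx t ht.1 htc
    rw [hempty] at hmod
    have hdvd : p ∣ Nat.card {g : G // g ∈ {g : G | IsConj x g ∧
        (QuotientGroup.mk g : G ⧸ P) = q}} := (Nat.modEq_zero_iff_dvd).mp hmod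
    exact (memLocalIdeal_natCast_iff hM _).mpr hdvd
  have h3 := MemLocalIdeal.add hM h1 h2
  rwa [sub_add_cancel] at h3

end

end Cfsg.Agent.Lib.Helper6
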