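import Mathlib
import Cfsg.Prelude.Def_Blocks
import Cfsg.Agent.Lib.Helper6.BlkQuot
import Cfsg.Agent.Lib.Helper6.BlkPReg

set_option autoImplicit false
set_option linter.unusedSectionVars false
open Cfsg

namespace Cfsg.Agent.Lib.Helper6

open scoped ComplexConjugate

section

variable {G : Type*} [Group G] [Fintype G] [DecidableEq G]
variable {p : ℕ} {M : Ideal Cfsg.AlgInt}
variable (N : Subgroup G) [hN : N.Normal]

/-- the indicator function of a subgroup -/
noncomputable def subgroupInd : G → ℂ := fun g => by classical exact if g ∈ N then 1 else 0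

theorem subgroupInd_isClassFunction : Cfsg.IsClassFunction G (subgroupInd N) := by
  classical
  intro g h
  unfold subgroupInd
  have : h * g * h⁻¹ ∈ N ↔ g ∈ N := by
    constructor
    · intro h1
      have := hN.conj_mem _ h1 h⁻¹
      simpa [mul_assoc] using this
    · intro h1
      exact hN.conj_mem _ h1 h
  simp only [this]

theorem sum_subgroupInd_mul [Fintype N] (F : G → ℂ) :
    ∑ g : G, subgroupInd N g * F g = ∑ n : N, F n := by
  classical
  unfold subgroupInd
  simp only [ite_mul, one_mul, zero_mul]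
  rw [← Finset.sum_filter]
  exact Finset.sum_subtype _ (fun x => by simp) F

theorem cOmega_subgroupInd [Fintype N] (θ : G → ℂ) :
    cOmega θ (regMat (subgroupInd N)) = (∑ n : N, θ n) / θ 1 := by
  rw [cOmega_regMat, sum_subgroupInd_mul]

/-- the central character of an inflated character on the pullback of a class function -/
theorem cOmega_comp_mk_comp_mk [Fintype (G ⧸ N)] [DecidableEq (G ⧸ N)] (F β : G ⧸ N → ℂ) :
    cOmega (fun g : G => β (QuotientGroup.mk g)) (regMat (fun g : G => F (QuotientGroup.mk g)))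
      = (Nat.card N : ℂ) * cOmega β (regMat F) := by
  have : Fintype N := Fintype.ofFinite N
  rw [cOmega_regMat, cOmega_regMat]
  have h1 := sum_comp_mk N (fun q => F q * β q)
  rw [h1, mul_div_assoc]
  rfl

theorem comp_mk_isClassFunction {F : G ⧸ N → ℂ} (hF : Cfsg.IsClassFunction (G ⧸ N) F) :
    Cfsg.IsClassFunction G (fun g : G => F (QuotientGroup.mk g)) := by
  intro g h
  have := hF (QuotientGroup.mk g) (QuotientGroup.mk h)
  simpa using this

/-- over a normal `p'`-subgroup, a character in the block of an inflated character is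
inflated, and the deflations lie in the same block -/
theorem exists_deflation_of_sameBlock_inflation (hM : Cfsg.IsPModular p M)
    (hNp : ¬ p ∣ Nat.card N) (χ : Cfsg.IrrCharacter (G ⧸ N)) (ψ : Cfsg.IrrCharacter G)
    (hψ : Cfsg.SameBlock M (fun g : G => (χ : G ⧸ N → ℂ) (QuotientGroup.mk g)) (ψ : G → ℂ)) :
    ∃ ψ' : Cfsg.IrrCharacter (G ⧸ N),
      (ψ : G → ℂ) = (fun g : G => (ψ' : G ⧸ N → ℂ) (QuotientGroup.mk g)) ∧
      Cfsg.SameBlock M (χ : G ⧸ N → ℂ) (ψ' : G ⧸ N → ℂ) := by
  classical
  have : Fintype N := Fintype.ofFinite N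
  have : Fintype (G ⧸ N) := Fintype.ofFinite _
  have hp : p.Prime := hM.1
  set θ : G → ℂ := fun g : G => (χ : G ⧸ N → ℂ) (QuotientGroup.mk g) with hθ
  have hθirr : Cfsg.IsIrrCharacter G θ := IsIrrCharacter.comp_mk N χ.2
  have hN0 : (Nat.card N : ℂ) ≠ 0 := by
    have : Nat.card N ≠ 0 := Nat.card_pos.ne'
    exact_mod_cast this
  have hNS : Cfsg.MemLocalRing M ((Nat.card N : ℂ)⁻¹) := memLocalRing_inv_natCast hM hNp
  -- step 1: the idempotent of N
  set X : Matrix G G ℂ := (Nat.card N : ℂ)⁻¹ • regMat (subgroupInd N) with hX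
  have hXc : X ∈ centerAlg G :=
    (centerAlg G).smul_mem (regMat_mem_centerAlg (subgroupInd_isClassFunction N)) _
  have hXs : X ∈ sMat hM G := by
    apply smul_mem_sMat hM hNS
    apply regMat_mem_sMat
    intro g
    unfold subgroupInd
    split_ifs
    · exact memLocalRing_one hM
    · exact memLocalRing_zero hM
  have h1 := cOmega_sub_memLocalIdeal hM hθirr ψ.2 hψ hXc hXs
  have hχ1 : (χ : G ⧸ N → ℂ) 1 ≠ 0 := IsIrrCharacter.apply_one_ne_zero χ.2
  have hθX : cOmega θ X = 1 := by
    rw [hX, cOmega_smul, cOmega_subgroupInd]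
    have : ∀ n : N, θ n = (χ : G ⧸ N → ℂ) 1 := by
      intro n
      rw [hθ]
      simp only
      rw [(QuotientGroup.eq_one_iff (n : G)).mpr n.2]
    rw [Finset.sum_congr rfl (fun n _ => this n), Finset.sum_const, Finset.card_univ,
      ← Nat.card_eq_fintype_card, nsmul_eq_mul]
    have : θ 1 = (χ : G ⧸ N → ℂ) 1 := by rw [hθ]; simp
    rw [this]
    field_simp
  have hsum : ∑ n : N, (ψ : G → ℂ) n ≠ 0 := by
    intro h0
    rw [hθX, hX, cOmega_smul, cOmega_subgroupInd, h0, zero_div, mul_zero, sub_zero] at h1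
    exact not_memLocalIdeal_one hM h1
  have hconst := IsIrrCharacter.const_on_normal_of_sum_ne_zero N ψ.2 hsum
  obtain ⟨ψ', hψ'⟩ := IsIrrCharacter.exists_deflation N ψ (fun n hn => hconst ⟨n, hn⟩)
  refine ⟨ψ', hψ', ?_⟩
  -- step 2
  intro q
  set Y : Matrix G G ℂ := regMat (fun g : G => classInd q (QuotientGroup.mk g)) with hY
  have hYc : Y ∈ centerAlg G :=
    regMat_mem_centerAlg (comp_mk_isClassFunction N (classInd_isClassFunction q))
  have hYs : Y ∈ sMat hM G := by
    apply regMat_mem_sMat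
    intro g
    unfold classInd
    split_ifs
    · exact memLocalRing_one hM
    · exact memLocalRing_zero hM
  have h2 := cOmega_sub_memLocalIdeal hM hθirr ψ.2 hψ hYc hYs
  rw [hψ', hθ, hY, cOmega_comp_mk_comp_mk, cOmega_comp_mk_comp_mk,
    cOmega_classInd _ (IsIrrCharacter.isClassFunction χ.2),
    cOmega_classInd _ (IsIrrCharacter.isClassFunction ψ'.2), ← mul_sub] at h2
  have hS : Cfsg.MemLocalRing M (Cfsg.centralChar (χ : G ⧸ N → ℂ) q - Cfsg.centralChar (ψ' : G ⧸ N → ℂ) q) :=
    MemLocalRing.sub hM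
      (memLocalRing_of_isIntegral hM (IsIrrCharacter.isIntegral_centralChar' χ.2 _))
      (memLocalRing_of_isIntegral hM (IsIrrCharacter.isIntegral_centralChar' ψ'.2 _))
  rcases memLocalIdeal_or_of_mul hM (memLocalRing_natCast hM _) hS h2 with h3 | h3
  · exact absurd ((memLocalIdeal_natCast_iff hM _).mp h3) hNp
  · exact h3

end

end Cfsg.Agent.Lib.Helper6
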