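import Mathlib
import Cfsg.Prelude.Def_Blocks
import Cfsg.Agent.Lib.Helper6.BlkQuot2
import Cfsg.Agent.Lib.Helper6.Clifford
import Cfsg.Agent.Lib.Helper6.ClassFun
import Cfsg.Agent.S0146

set_option autoImplicit false
set_option linter.unusedSectionVars false
open Cfsg

namespace Cfsg.Agent.Lib.Helper6

open scoped ComplexConjugate

section clifford

variable {G : Type*} [Group G] [Fintype G] (N : Subgroup G) [Fintype N] (hN : N.Normal)

/-- restriction multiplicities are constant on conjugates -/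
theorem classInner_restrict_conjFun {χ : G → ℂ} (hχ : Cfsg.IsClassFunction G χ) (θ : N → ℂ) (g : G) :
    Cfsg.classInner (fun n : N => χ n) (conjFun N hN θ g) = Cfsg.classInner (fun n : N => χ n) θ := by
  have h1 := classInner_conjFun_conjFun N hN (fun n : N => χ n) θ g
  rw [conjFun_restrict N hN hχ g] at h1
  exact h1

/-- Clifford: two irreducible constituents of the restriction to a normal subgroup are conjugate -/
theorem exists_conjFun_eq_of_constituents {χ : G → ℂ} (hχ : Cfsg.IsIrrCharacter G χ) {θ ψ : N → ℂ}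
    (hθ : Cfsg.IsIrrCharacter N θ) (hψ : Cfsg.IsIrrCharacter N ψ)
    (hcθ : Cfsg.classInner (fun n : N => χ n) θ ≠ 0)
    (hcψ : Cfsg.classInner (fun n : N => χ n) ψ ≠ 0) : ∃ g : G, ψ = conjFun N hN θ g := by
  classical
  by_contra hne
  push Not at hne
  apply hcψ
  have hχcf := IsIrrCharacter.isClassFunction hχ
  have hχNchar : Cfsg.IsCharacter N (fun n : N => χ n) :=
    IsCharacter.restrict N (IsIrrCharacter.isCharacter hχ)
  have hA : Cfsg.IsCharacter G (Cfsg.indFun N θ) :=
    IsCharacter.indFun N (IsIrrCharacter.isCharacter hθ)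
  have hAθ : Cfsg.classInner (Cfsg.indFun N θ) χ ≠ 0 := by
    rw [Cfsg.Agent.S0146.result N θ χ hχcf]
    intro h0
    apply hcθ
    rw [← classInner_conj_symm]
    have h0' : Cfsg.classInner θ (fun n : N => χ n) = 0 := h0
    rw [h0', map_zero]
  obtain ⟨B, hB, hAB⟩ := IsCharacter.exists_eq_add_of_constituent hA hχ hAθ
  have hres : (fun n : N => Cfsg.indFun N θ n) = (fun n : N => χ n) + (fun n : N => B n) := by
    funext n
    rw [hAB]
    rfl
  have hzero : Cfsg.classInner (fun n : N => Cfsg.indFun N θ n) ψ = 0 := by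
    rw [classInner_indFun_restrict_left N hN]
    have : ∀ x : G, Cfsg.classInner (conjFun N hN θ x) ψ = 0 := by
      intro x
      rw [classInner_isIrrCharacter (IsIrrCharacter.conjFun N hN hθ x) hψ, if_neg]
      intro h
      exact hne x h.symm
    simp [this]
  rw [hres, classInner_add_left] at hzero
  obtain ⟨a, ha⟩ := IsCharacter.classInner_irr_nat hχNchar hψ
  obtain ⟨b, hb⟩ := IsCharacter.classInner_irr_nat (IsCharacter.restrict N hB) hψ
  rw [ha, hb] at hzero
  have hab : a + b = 0 := by exact_mod_cast hzero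
  have ha0 : a = 0 := by omega
  rw [ha, ha0]
  simp

/-- conjugation by `g` as a permutation of the irreducible characters of `N` -/
noncomputable def irrConj (g : G) : Cfsg.IrrCharacter N ≃ Cfsg.IrrCharacter N where
  toFun ψ := ⟨conjFun N hN (ψ : N → ℂ) g, IsIrrCharacter.conjFun N hN ψ.2 g⟩
  invFun ψ := ⟨conjFun N hN (ψ : N → ℂ) g⁻¹, IsIrrCharacter.conjFun N hN ψ.2 g⁻¹⟩
  left_inv ψ := by
    apply Subtype.ext
    simp only
    rw [conjFun_conjFun, mul_inv_cancel, conjFun_one]
  right_inv ψ := by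
    apply Subtype.ext
    simp only
    rw [conjFun_conjFun, inv_mul_cancel, conjFun_one]

theorem irrConj_coe (g : G) (ψ : Cfsg.IrrCharacter N) :
    ((irrConj N hN g ψ : Cfsg.IrrCharacter N) : N → ℂ) = conjFun N hN (ψ : N → ℂ) g := rfl

/-- a set of irreducible characters of `N` stable under `G`-conjugation -/
def GStable (A : Set (Cfsg.IrrCharacter N)) : Prop :=
  ∀ ψ ∈ A, ∀ g : G, irrConj N hN g ψ ∈ A

theorem GStable.mem_iff {A : Set (Cfsg.IrrCharacter N)} (hA : GStable N hN A) (g : G)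
    (ψ : Cfsg.IrrCharacter N) : irrConj N hN g ψ ∈ A ↔ ψ ∈ A := by
  constructor
  · intro h
    have := hA _ h g⁻¹
    have e : irrConj N hN g⁻¹ (irrConj N hN g ψ) = ψ := by
      apply Subtype.ext
      rw [irrConj_coe, irrConj_coe, conjFun_conjFun, mul_inv_cancel, conjFun_one]
    rwa [e] at this
  · intro h
    exact hA ψ h g

/-- the idempotent coefficient function of a stable set is `G`-invariant -/
theorem blockCoeff_conj_of_gStable {A : Set (Cfsg.IrrCharacter N)} (hA : GStable N hN A) (g : G)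
    (n : N) : Cfsg.blockCoeff A ⟨g * n * g⁻¹, hN.conj_mem n n.2 g⟩ = Cfsg.blockCoeff A n := by
  classical
  have : Fintype (Cfsg.IrrCharacter N) := Fintype.ofFinite _
  have e1 : ∀ m : N, Cfsg.blockCoeff A m
      = (Nat.card N : ℂ)⁻¹ * ∑ ψ : Cfsg.IrrCharacter N,
          if ψ ∈ A then (ψ : N → ℂ) 1 * conj ((ψ : N → ℂ) m) else 0 := by
    intro m
    unfold Cfsg.blockCoeff
    congr 1
    rw [← Finset.sum_filter, ← finsum_mem_coe_finset]
    congr 1
    ext ψ
    simp
  rw [e1, e1]
  congr 1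
  conv_rhs => rw [← Equiv.sum_comp (irrConj N hN g)]
  apply Finset.sum_congr rfl
  intro ψ _
  rw [if_congr (hA.mem_iff N hN g ψ) rfl rfl]
  split_ifs
  · rw [irrConj_coe, conjFun_apply, conjFun_apply]
    congr 2
    apply congrArg
    apply Subtype.ext
    simp
  · rfl

end clifford

section cover

variable {G : Type*} [Group G] [Fintype G] [DecidableEq G]
variable {p : ℕ} {M : Ideal Cfsg.AlgInt}
variable (N : Subgroup G) [Fintype N] (hN : N.Normal)

/-- the idempotent of a set of irreducible characters of `N`, viewed in the group algebra of `G` -/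
noncomputable def liftIdem (A : Set (Cfsg.IrrCharacter N)) : Matrix G G ℂ :=
  regMat (Cfsg.extendByZero N (Cfsg.blockCoeff A))

theorem liftIdem_mem_centerAlg {A : Set (Cfsg.IrrCharacter N)} (hA : GStable N hN A) :
    liftIdem N A ∈ centerAlg G := by
  apply regMat_mem_centerAlg
  intro g h
  by_cases hg : g ∈ N
  · have hg' : h * g * h⁻¹ ∈ N := hN.conj_mem g hg h
    rw [extendByZero_of_mem N _ hg, extendByZero_of_mem N _ hg']
    exact blockCoeff_conj_of_gStable N hN hA h ⟨g, hg⟩
  · have hg' : h * g * h⁻¹ ∉ N := by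
      intro h1
      apply hg
      have := hN.conj_mem _ h1 h⁻¹
      simpa [mul_assoc] using this
    rw [extendByZero_of_not_mem N _ hg, extendByZero_of_not_mem N _ hg']

theorem liftIdem_mem_sMat (hM : Cfsg.IsPModular p M) {A : Set (Cfsg.IrrCharacter N)}
    (hS : ∀ n : N, Cfsg.MemLocalRing M (Cfsg.blockCoeff A n)) : liftIdem N A ∈ sMat hM G := by
  apply regMat_mem_sMat
  intro g
  by_cases hg : g ∈ N
  · rw [extendByZero_of_mem N _ hg]
    exact hS _
  · rw [extendByZero_of_not_mem N _ hg]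
    exact memLocalRing_zero hM

theorem cOmega_liftIdem [Fintype (Cfsg.IrrCharacter N)] (A : Set (Cfsg.IrrCharacter N))
    [DecidablePred (· ∈ A)] (χ : G → ℂ) :
    cOmega χ (liftIdem N A) = (∑ ψ ∈ Finset.univ.filter (· ∈ A),
      (ψ : N → ℂ) 1 * Cfsg.classInner (fun n : N => χ n) (ψ : N → ℂ)) / χ 1 := by
  unfold liftIdem
  rw [cOmega_regMat, sum_extendByZero_mul]
  congr 1
  have e1 : ∀ n : N, Cfsg.blockCoeff A n * χ n
      = ∑ ψ ∈ Finset.univ.filter (· ∈ A),
        (Nat.card N : ℂ)⁻¹ * ((ψ : N → ℂ) 1 * (χ n * conj ((ψ : N → ℂ) n))) := by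
    intro n
    rw [blockCoeff_eq_sum, Finset.sum_mul]
    apply Finset.sum_congr rfl
    intro ψ _
    unfold idemFun
    ring
  rw [Finset.sum_congr rfl (fun n _ => e1 n), Finset.sum_comm]
  apply Finset.sum_congr rfl
  intro ψ _
  unfold Cfsg.classInner
  rw [Finset.mul_sum, Finset.mul_sum]
  apply Finset.sum_congr rfl
  intro n _
  ring

/-- the degree of a restriction as the sum over constituents -/
theorem restrict_apply_one_eq_sum [Fintype (Cfsg.IrrCharacter N)] {χ : G → ℂ}
    (hχ : Cfsg.IsCharacter G χ) :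
    χ 1 = ∑ ψ : Cfsg.IrrCharacter N,
      (ψ : N → ℂ) 1 * Cfsg.classInner (fun n : N => χ n) (ψ : N → ℂ) := by
  have h1 := classFunction_eq_sum (fun n : N => χ n)
    (IsCharacter.isClassFunction (IsCharacter.restrict N hχ))
  have h2 := congrFun h1 1
  simp only [Finset.sum_apply, Pi.smul_apply, smul_eq_mul] at h2
  have h3 : χ 1 = χ ((1 : N) : G) := by simp
  rw [h3, h2]
  apply Finset.sum_congr rfl
  intro ψ _
  ring

theorem cOmega_liftIdem_eq_one {A : Set (Cfsg.IrrCharacter N)} (hA : GStable N hN A)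
    {χ : G → ℂ} (hχ : Cfsg.IsIrrCharacter G χ) (θ : Cfsg.IrrCharacter N) (hθA : θ ∈ A)
    (hθ : Cfsg.classInner (fun n : N => χ n) (θ : N → ℂ) ≠ 0) :
    cOmega χ (liftIdem N A) = 1 := by
  classical
  have : Fintype (Cfsg.IrrCharacter N) := Fintype.ofFinite _
  rw [cOmega_liftIdem]
  have hχ1 := IsIrrCharacter.apply_one_ne_zero hχ
  rw [div_eq_one_iff_eq hχ1, restrict_apply_one_eq_sum N (IsIrrCharacter.isCharacter hχ),
    Finset.sum_filter]
  apply Finset.sum_congr rfl
  intro ψ _
  split_ifs with hψ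
  · rfl
  · have : Cfsg.classInner (fun n : N => χ n) (ψ : N → ℂ) = 0 := by
      by_contra hne
      obtain ⟨g, hg⟩ := exists_conjFun_eq_of_constituents N hN hχ θ.2 ψ.2 hθ hne
      apply hψ
      have : ψ = irrConj N hN g θ := Subtype.ext hg
      rw [this]
      exact hA θ hθA g
    rw [this, mul_zero]

theorem cOmega_liftIdem_eq_zero (A : Set (Cfsg.IrrCharacter N)) (χ : G → ℂ)
    (h : ∀ ψ ∈ A, Cfsg.classInner (fun n : N => χ n) (ψ : N → ℂ) = 0) :
    cOmega χ (liftIdem N A) = 0 := by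
  classical
  have : Fintype (Cfsg.IrrCharacter N) := Fintype.ofFinite _
  rw [cOmega_liftIdem]
  rw [Finset.sum_eq_zero, zero_div]
  intro ψ hψ
  rw [h ψ (Finset.mem_filter.mp hψ).2, mul_zero]

/-- characters in the same block lie over the same stable local-integral sets of characters of a
normal subgroup -/
theorem constituents_mem_of_sameBlock (hM : Cfsg.IsPModular p M) {A : Set (Cfsg.IrrCharacter N)}
    (hA : GStable N hN A) (hS : ∀ n : N, Cfsg.MemLocalRing M (Cfsg.blockCoeff A n))
    (χ χ' : Cfsg.IrrCharacter G) (hb : Cfsg.SameBlock M (χ : G → ℂ) (χ' : G → ℂ))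
    (θ : Cfsg.IrrCharacter N) (hθA : θ ∈ A)
    (hθ : Cfsg.classInner (fun n : N => (χ : G → ℂ) n) (θ : N → ℂ) ≠ 0)
    (ψ : Cfsg.IrrCharacter N)
    (hψ : Cfsg.classInner (fun n : N => (χ' : G → ℂ) n) (ψ : N → ℂ) ≠ 0) : ψ ∈ A := by
  by_contra hψA
  have h1 := cOmega_sub_memLocalIdeal hM χ.2 χ'.2 hb (liftIdem_mem_centerAlg N hN hA)
    (liftIdem_mem_sMat N hM hS)
  rw [cOmega_liftIdem_eq_one N hN hA χ.2 θ hθA hθ] at h1
  rw [cOmega_liftIdem_eq_zero N A, sub_zero] at h1
  · exact not_memLocalIdeal_one hM h1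
  · intro ψ' hψ'A
    by_contra hne
    obtain ⟨g, hg⟩ := exists_conjFun_eq_of_constituents N hN χ'.2 ψ'.2 ψ.2 hne hψ
    apply hψA
    have : ψ = irrConj N hN g ψ' := Subtype.ext hg
    rw [this]
    exact hA ψ' hψ'A g

/-- an irreducible character has an irreducible constituent on any subgroup -/
theorem exists_constituent_restrict {χ : G → ℂ} (hχ : Cfsg.IsIrrCharacter G χ) :
    ∃ ψ : Cfsg.IrrCharacter N, Cfsg.classInner (fun n : N => χ n) (ψ : N → ℂ) ≠ 0 := by
  classical
  have : Fintype (Cfsg.IrrCharacter N) := Fintype.ofFinite _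
  by_contra hne
  push Not at hne
  have h1 := restrict_apply_one_eq_sum N (IsIrrCharacter.isCharacter hχ)
  rw [Finset.sum_eq_zero (fun ψ _ => by rw [hne ψ, mul_zero])] at h1
  exact IsIrrCharacter.apply_one_ne_zero hχ h1

/-- the orbit of an irreducible character of `N` under `G` -/
def irrOrbit (θ : Cfsg.IrrCharacter N) : Set (Cfsg.IrrCharacter N) :=
  {ψ | ∃ g : G, ψ = irrConj N hN g θ}

theorem irrOrbit_gStable (θ : Cfsg.IrrCharacter N) : GStable N hN (irrOrbit N hN θ) := by
  rintro ψ ⟨g, rfl⟩ h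
  refine ⟨g * h, ?_⟩
  apply Subtype.ext
  rw [irrConj_coe, irrConj_coe, irrConj_coe, conjFun_conjFun]

theorem mem_irrOrbit_self (θ : Cfsg.IrrCharacter N) : θ ∈ irrOrbit N hN θ := by
  refine ⟨1, ?_⟩
  apply Subtype.ext
  rw [irrConj_coe, conjFun_one]

end cover

section coprime

variable {G : Type*} [Group G] [Fintype G] [DecidableEq G]
variable {p : ℕ} {M : Ideal Cfsg.AlgInt}

/-- for a group of order prime to `p` every idempotent coefficient is a local integer -/
theorem blockCoeff_memLocalRing_of_coprime (hM : Cfsg.IsPModular p M) (hG : ¬ p ∣ Nat.card G)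
    (A : Set (Cfsg.IrrCharacter G)) (g : G) : Cfsg.MemLocalRing M (Cfsg.blockCoeff A g) := by
  classical
  have : Fintype (Cfsg.IrrCharacter G) := Fintype.ofFinite _
  rw [blockCoeff_eq_sum]
  apply MemLocalRing.sum hM
  intro ψ _
  unfold idemFun
  apply MemLocalRing.mul hM (memLocalRing_inv_natCast hM hG)
  apply memLocalRing_of_isIntegral hM
  exact IsIntegral.mul (IsCharacter.isIntegral_apply (IsIrrCharacter.isCharacter ψ.2) 1)
    (isIntegral_conj (IsCharacter.isIntegral_apply (IsIrrCharacter.isCharacter ψ.2) g))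

variable (N : Subgroup G) [Fintype N]

/-- characters in the same block have the same constituents on a normal `p'`-subgroup -/
theorem constituent_of_sameBlock_of_coprime (hN : N.Normal) (hM : Cfsg.IsPModular p M)
    (hNp : ¬ p ∣ Nat.card N)
    (χ χ' : Cfsg.IrrCharacter G) (hb : Cfsg.SameBlock M (χ : G → ℂ) (χ' : G → ℂ))
    (θ : Cfsg.IrrCharacter N)
    (hθ : Cfsg.classInner (fun n : N => (χ : G → ℂ) n) (θ : N → ℂ) ≠ 0) :
    Cfsg.classInner (fun n : N => (χ' : G → ℂ) n) (θ : N → ℂ) ≠ 0 := by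
  classical
  obtain ⟨ψ, hψ⟩ := exists_constituent_restrict N χ'.2
  have hmem := constituents_mem_of_sameBlock N hN hM (irrOrbit_gStable N hN θ)
    (fun n => blockCoeff_memLocalRing_of_coprime hM hNp _ n) χ χ' hb θ (mem_irrOrbit_self N hN θ)
    hθ ψ hψ
  obtain ⟨g, rfl⟩ := hmem
  rw [irrConj_coe, classInner_restrict_conjFun N hN (IsIrrCharacter.isClassFunction χ'.2)] at hψ
  exact hψ

end coprime

section cores

variable {G : Type*} [Group G]

theorem card_sup_dvd_mul (H K : Subgroup G) [K.Normal] :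
    Nat.card (H ⊔ K : Subgroup G) ∣ Nat.card H * Nat.card K := by
  have h1 : Nat.card K * K.relIndex (H ⊔ K) = Nat.card (H ⊔ K : Subgroup G) := by
    rw [← Subgroup.relIndex_bot_left, Subgroup.relIndex_mul_relIndex _ _ _ bot_le le_sup_right,
      Subgroup.relIndex_bot_left]
  have h2 : Nat.card (H ⊓ K : Subgroup G) * K.relIndex H = Nat.card H := by
    rw [← Subgroup.inf_relIndex_left, inf_comm, ← Subgroup.relIndex_bot_left,
      Subgroup.relIndex_mul_relIndex _ _ _ bot_le inf_le_right, Subgroup.relIndex_bot_left]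
  refine Dvd.intro (Nat.card (H ⊓ K : Subgroup G)) ?_
  rw [← h1, Subgroup.relIndex_sup_right, ← h2]
  ring

theorem pPrimeCore_normal_and_coprime [Finite G] (p : ℕ) :
    (Cfsg.pPrimeCore p G).Normal ∧ (Nat.card (Cfsg.pPrimeCore p G)).Coprime p := by
  have hs : SupClosed {N : Subgroup G | N.Normal ∧ (Nat.card N).Coprime p} := by
    rintro A ⟨hA, hA'⟩ B ⟨hB, hB'⟩
    refine ⟨inferInstance, ?_⟩
    exact Nat.Coprime.coprime_dvd_left (card_sup_dvd_mul A B) (Nat.Coprime.mul_left hA' hB')
  exact hs.sSup_mem_of_nonempty (Set.toFinite _) ⟨⊥, inferInstance, by simp⟩ le_rfl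

end cores

end Cfsg.Agent.Lib.Helper6
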