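import Mathlib
import Cfsg.Prelude.Def_Blocks
import Cfsg.Agent.Lib.Helper6.BlkCover
import Cfsg.Agent.Lib.Helper6.IndFunTI
import Cfsg.Agent.Lib.Helper6.Constituent

set_option autoImplicit false
set_option linter.unusedSectionVars false
open Cfsg

namespace Cfsg.Agent.Lib.Helper6

open scoped ComplexConjugate

section

variable {G : Type*} [Group G] [Fintype G] [DecidableEq G]
variable {p : ℕ} {M : Ideal Cfsg.AlgInt}
variable (H : Subgroup G) [Fintype H]

/-- restriction of a function to a subgroup -/
def resFun (a : G → ℂ) : H → ℂ := fun h => a h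

theorem resFun_apply (a : G → ℂ) (h : H) : resFun H a h = a h := rfl

theorem resFun_isClassFunction {a : G → ℂ} (ha : Cfsg.IsClassFunction G a) :
    Cfsg.IsClassFunction H (resFun H a) := by
  intro g h
  exact ha g h

/-- restriction of a central matrix of `G` to a central matrix of `H` -/
def resMat (X : Matrix G G ℂ) : Matrix H H ℂ := regMat (resFun H (fun g => X g 1))

theorem resMat_mem_centerAlg {X : Matrix G G ℂ} (hX : X ∈ centerAlg G) :
    resMat H X ∈ centerAlg H :=
  regMat_mem_centerAlg (resFun_isClassFunction H (isClassFunction_of_mem_centerAlg hX))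

theorem resMat_mem_sMat (hM : Cfsg.IsPModular p M) {X : Matrix G G ℂ} (hX : X ∈ sMat hM G) :
    resMat H X ∈ sMat hM H := by
  apply regMat_mem_sMat
  intro h
  exact hX _ _

theorem resMat_regMat (a : G → ℂ) : resMat H (regMat a) = regMat (resFun H a) := by
  unfold resMat
  congr 1
  funext h
  simp [resFun, regMat_apply]

theorem resMat_add (X Y : Matrix G G ℂ) : resMat H (X + Y) = resMat H X + resMat H Y := by
  unfold resMat
  rw [← regMat_add]
  rfl

theorem resMat_smul (c : ℂ) (X : Matrix G G ℂ) : resMat H (c • X) = c • resMat H X := by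
  unfold resMat
  rw [← regMat_smul]
  rfl

theorem finsum_mem_setOf_eq_sum {α : Type*} [Fintype α] (P : α → Prop) [DecidablePred P]
    (f : α → ℂ) : ∑ᶠ p ∈ {p : α | P p}, f p = ∑ p ∈ Finset.univ.filter P, f p := by
  rw [← finsum_mem_coe_finset]
  congr 1
  ext p
  simp

/-- the induced central character as a central character of the subgroup -/
theorem inducedCentralChar_eq_cOmega (ξ : H → ℂ) (g : G) :
    Cfsg.inducedCentralChar H ξ g = cOmega ξ (resMat H (regMat (classInd g))) := by
  classical
  rw [resMat_regMat, cOmega_regMat]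
  unfold Cfsg.inducedCentralChar
  rw [Finset.sum_div, finsum_mem_setOf_eq_sum, Finset.sum_filter]
  apply Finset.sum_congr rfl
  intro h _
  unfold resFun classInd
  split_ifs <;> simp

/-- the central character of an induced class function is computed on the subgroup -/
theorem cOmega_indFun (ξ : H → ℂ) {a : G → ℂ} (ha : Cfsg.IsClassFunction G a) :
    cOmega (Cfsg.indFun H ξ) (regMat a) = cOmega ξ (regMat (resFun H a)) := by
  rw [cOmega_regMat, cOmega_regMat, indFun_one]
  have hH0 : (Nat.card H : ℂ) ≠ 0 := card_ne_zero_complex H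
  have hG0 : (Nat.card G : ℂ) ≠ 0 := card_ne_zero_complex G
  have hidx : (H.index : ℂ) * (Nat.card H : ℂ) = (Nat.card G : ℂ) := by
    have := H.index_mul_card
    exact_mod_cast this
  have hidx0 : (H.index : ℂ) ≠ 0 := by
    intro h0
    rw [h0, zero_mul] at hidx
    exact hG0 hidx.symm
  have h1 : ∑ g : G, a g * Cfsg.indFun H ξ g
      = (H.index : ℂ) * ∑ h : H, resFun H a h * ξ h := by
    unfold Cfsg.indFun
    have e1 : ∀ g : G, a g * ((Nat.card H : ℂ)⁻¹ * ∑ x : G, Cfsg.extendByZero H ξ (x⁻¹ * g * x))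
        = (Nat.card H : ℂ)⁻¹ * ∑ x : G, a (x⁻¹ * g * x) * Cfsg.extendByZero H ξ (x⁻¹ * g * x) := by
      intro g
      rw [Finset.mul_sum, Finset.mul_sum, Finset.mul_sum]
      apply Finset.sum_congr rfl
      intro x _
      have := ha g x⁻¹
      rw [inv_inv] at this
      rw [this]
      ring
    rw [Finset.sum_congr rfl (fun g _ => e1 g), ← Finset.mul_sum, Finset.sum_comm]
    have e2 : ∀ x : G, ∑ g : G, a (x⁻¹ * g * x) * Cfsg.extendByZero H ξ (x⁻¹ * g * x)
        = ∑ h : H, resFun H a h * ξ h := by
      intro x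
      have h2 := Equiv.sum_comp (MulAut.conj x⁻¹).toEquiv
        (fun g => a g * Cfsg.extendByZero H ξ g)
      simp only [MulEquiv.toEquiv_eq_coe, MulEquiv.coe_toEquiv, MulAut.conj_apply, inv_inv] at h2
      rw [h2]
      have h3 := sum_extendByZero_mul H ξ a
      calc ∑ i : G, a i * Cfsg.extendByZero H ξ i
          = ∑ g : G, Cfsg.extendByZero H ξ g * a g :=
            Finset.sum_congr rfl (fun g _ => mul_comm _ _)
        _ = ∑ h : H, ξ h * a h := h3
        _ = ∑ h : H, resFun H a h * ξ h := Finset.sum_congr rfl (fun h _ => mul_comm _ _)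
    rw [Finset.sum_congr rfl (fun x _ => e2 x), Finset.sum_const, Finset.card_univ,
      ← Nat.card_eq_fintype_card, nsmul_eq_mul, ← mul_assoc, ← hidx]
    field_simp
  rw [h1, mul_div_mul_left _ _ hidx0]

/-- characters of `H` in the same block have congruent induced central characters -/
theorem inducedCentralChar_sub_memLocalIdeal (hM : Cfsg.IsPModular p M) {ξ₁ ξ₂ : H → ℂ}
    (h₁ : Cfsg.IsIrrCharacter H ξ₁) (h₂ : Cfsg.IsIrrCharacter H ξ₂)
    (hsb : Cfsg.SameBlock M ξ₁ ξ₂) (g : G) :
    Cfsg.MemLocalIdeal M (Cfsg.inducedCentralChar H ξ₁ g - Cfsg.inducedCentralChar H ξ₂ g) := by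
  rw [inducedCentralChar_eq_cOmega, inducedCentralChar_eq_cOmega]
  exact cOmega_sub_memLocalIdeal hM h₁ h₂ hsb
    (resMat_mem_centerAlg H (regMat_mem_centerAlg (classInd_isClassFunction g)))
    (resMat_mem_sMat H hM (classInd_mem_sMat hM g))

theorem inducedCentralChar_memLocalRing (hM : Cfsg.IsPModular p M) {ξ : H → ℂ}
    (hξ : Cfsg.IsIrrCharacter H ξ) (g : G) :
    Cfsg.MemLocalRing M (Cfsg.inducedCentralChar H ξ g) := by
  rw [inducedCentralChar_eq_cOmega]
  exact cOmega_memLocalRing hM hξ
    (resMat_mem_centerAlg H (regMat_mem_centerAlg (classInd_isClassFunction g)))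
    (resMat_mem_sMat H hM (classInd_mem_sMat hM g))

/-- the induced central character is the central character of the induced class function -/
theorem inducedCentralChar_eq_centralChar_indFun (ξ : H → ℂ) (g : G) :
    Cfsg.inducedCentralChar H ξ g = Cfsg.centralChar (Cfsg.indFun H ξ) g := by
  rw [inducedCentralChar_eq_cOmega, resMat_regMat,
    ← cOmega_indFun H ξ (classInd_isClassFunction g),
    cOmega_classInd _ (indFun_isClassFunction H ξ)]

/-- the restricted central character through class representatives of `G` -/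
theorem cOmega_resMat_eq_sum_classes [Fintype (ConjClasses G)] (ξ : H → ℂ) {X : Matrix G G ℂ}
    (hX : X ∈ centerAlg G) :
    cOmega ξ (resMat H X) = ∑ c : ConjClasses G,
      X (Quotient.out c) 1 * Cfsg.inducedCentralChar H ξ (Quotient.out c) := by
  have h1 : X = regMat (fun g => X g 1) := hX.1.eq_regMat
  have hcf := isClassFunction_of_mem_centerAlg hX
  unfold resMat
  rw [← cOmega_indFun H ξ hcf, ← h1, cOmega_eq_sum_classes (indFun_isClassFunction H ξ) hX]
  apply Finset.sum_congr rfl
  intro c _
  rw [inducedCentralChar_eq_centralChar_indFun]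

/-- the congruence defining induced blocks extends to all central local-integral elements -/
theorem IsInducedBlock.cOmega_sub (hM : Cfsg.IsPModular p M) {b : Set (Cfsg.IrrCharacter H)}
    {B : Set (Cfsg.IrrCharacter G)} (hind : Cfsg.IsInducedBlock M H b B)
    (ξ : Cfsg.IrrCharacter H) (hξ : ξ ∈ b) (χ : Cfsg.IrrCharacter G) (hχ : χ ∈ B)
    {X : Matrix G G ℂ} (hXc : X ∈ centerAlg G) (hXs : X ∈ sMat hM G) :
    Cfsg.MemLocalIdeal M (cOmega (ξ : H → ℂ) (resMat H X) - cOmega (χ : G → ℂ) X) := by
  classical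
  have : Fintype (ConjClasses G) := Fintype.ofFinite _
  rw [cOmega_resMat_eq_sum_classes H _ hXc,
    cOmega_eq_sum_classes (IsIrrCharacter.isClassFunction χ.2) hXc, ← Finset.sum_sub_distrib]
  apply MemLocalIdeal.sum hM
  intro c _
  rw [← mul_sub]
  exact MemLocalIdeal.mul_left hM (hXs _ _) (hind.2.2 ξ hξ χ hχ _)

end

end Cfsg.Agent.Lib.Helper6
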