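import Mathlib
import Cfsg.Prelude.Def_Blocks
import Cfsg.Agent.Lib.Helper6.BlkQuot
import Cfsg.Agent.Lib.Helper6.BlkInd
import Cfsg.Agent.Lib.Helper6.BlkHom

set_option autoImplicit false
set_option linter.unusedSectionVars false
open Cfsg

namespace Cfsg.Agent.Lib.Helper6

open scoped ComplexConjugate

section orbit

variable {G : Type*} [Group G] [Fintype G] [DecidableEq G]
variable {p : ℕ} {M : Ideal Cfsg.AlgInt}

/-- a `P`-invariant local-integral function summed off the centralizer of the `p`-group `P`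
lies in the maximal ideal -/
theorem sum_off_centralizer_memLocalIdeal (hM : Cfsg.IsPModular p M) (P : Subgroup G)
    [DecidablePred fun k : G => k ∈ Subgroup.centralizer (P : Set G)]
    (hP : IsPGroup p P) (f : G → ℂ) (hf : ∀ u ∈ P, ∀ k : G, f (u * k * u⁻¹) = f k)
    (hfS : ∀ k, Cfsg.MemLocalRing M (f k)) :
    Cfsg.MemLocalIdeal M (∑ k ∈ Finset.univ.filter
      (fun k : G => k ∉ Subgroup.centralizer (P : Set G)), f k) := by
  have hp : p.Prime := hM.1
  have : Fact p.Prime := ⟨hp⟩
  rw [Finset.sum_comp (fun v : ℂ => v) f]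
  apply MemLocalIdeal.sum hM
  intro v hv
  obtain ⟨k₀, _, hk₀⟩ := Finset.mem_image.mp hv
  have hvS : Cfsg.MemLocalRing M v := hk₀ ▸ hfS k₀
  rw [nsmul_eq_mul]
  apply MemLocalIdeal.mul_right hM _ hvS
  rw [memLocalIdeal_natCast_iff hM]
  -- the fibre is stable and has no fixed points
  set T : Set G := {k : G | k ∉ Subgroup.centralizer (P : Set G) ∧ f k = v} with hT
  have hcard : ((Finset.univ.filter (fun k : G => k ∉ Subgroup.centralizer (P : Set G))).filter
      (fun k => f k = v)).card = Nat.card T := by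
    rw [Nat.card_eq_fintype_card, Fintype.card_subtype]
    congr 1
    ext k
    simp [hT]
  rw [hcard]
  have hstable : ∀ u ∈ P, ∀ t ∈ T, u * t * u⁻¹ ∈ T := by
    intro u hu t ht
    refine ⟨?_, by rw [hf u hu]; exact ht.2⟩
    intro hcon
    apply ht.1
    rw [Subgroup.mem_centralizer_iff] at hcon ⊢
    intro w hw
    have hw' : u * w * u⁻¹ ∈ P := P.mul_mem (P.mul_mem hu hw) (P.inv_mem hu)
    have := hcon (u * w * u⁻¹) hw'
    have h3 : u * (w * t) * u⁻¹ = u * (t * w) * u⁻¹ := by
      calc u * (w * t) * u⁻¹ = u * w * u⁻¹ * (u * t * u⁻¹) := by group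
        _ = u * t * u⁻¹ * (u * w * u⁻¹) := this
        _ = u * (t * w) * u⁻¹ := by group
    exact mul_left_cancel (mul_right_cancel h3)
  have hmod := card_modEq_card_inter_centralizer P hP T hstable
  have hempty : Nat.card {t : G // t ∈ T ∧ t ∈ Subgroup.centralizer (P : Set G)} = 0 := by
    rw [Nat.card_eq_zero]
    left
    constructor
    rintro ⟨t, ht, htc⟩
    exact ht.1 htc
  rw [hempty] at hmod
  exact (Nat.modEq_zero_iff_dvd).mp hmod

end orbit

section brauer

variable {G : Type*} [Group G] [Fintype G] [DecidableEq G]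
variable {p : ℕ} {M : Ideal Cfsg.AlgInt}
variable (P H : Subgroup G) [Fintype H]

theorem conj_mem_centralizer_iff_of_mem_normalizer {k : G}
    (hk : k ∈ Subgroup.normalizer (P : Set G)) (h : G) :
    k * h * k⁻¹ ∈ Subgroup.centralizer (P : Set G) ↔ h ∈ Subgroup.centralizer (P : Set G) := by
  have key : ∀ (k : G), k ∈ Subgroup.normalizer (P : Set G) → ∀ h : G,
      k * h * k⁻¹ ∈ Subgroup.centralizer (P : Set G) → h ∈ Subgroup.centralizer (P : Set G) := by
    intro k hk h hc
    rw [Subgroup.mem_centralizer_iff] at hc ⊢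
    intro u hu
    have hu' : k * u * k⁻¹ ∈ P := (Subgroup.mem_normalizer_iff.mp hk u).mp hu
    have := hc (k * u * k⁻¹) hu'
    have h3 : k * (u * h) * k⁻¹ = k * (h * u) * k⁻¹ := by
      calc k * (u * h) * k⁻¹ = k * u * k⁻¹ * (k * h * k⁻¹) := by group
        _ = k * h * k⁻¹ * (k * u * k⁻¹) := this
        _ = k * (h * u) * k⁻¹ := by group
    exact mul_left_cancel (mul_right_cancel h3)
  constructor
  · exact key k hk h
  · intro hh
    apply key k⁻¹ ((Subgroup.normalizer (P : Set G)).inv_mem hk)
    convert hh using 1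
    group

/-- the Brauer truncation of a function on `G` to the elements of `H` centralizing `P` -/
noncomputable def brFun (a : G → ℂ) : H → ℂ :=
  fun h => by classical exact if (h : G) ∈ Subgroup.centralizer (P : Set G) then a h else 0

theorem brFun_of_mem (a : G → ℂ) {h : H} (hh : (h : G) ∈ Subgroup.centralizer (P : Set G)) :
    brFun P H a h = a h := by
  unfold brFun
  rw [if_pos hh]

theorem brFun_of_not_mem (a : G → ℂ) {h : H} (hh : (h : G) ∉ Subgroup.centralizer (P : Set G)) :
    brFun P H a h = 0 := by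
  unfold brFun
  rw [if_neg hh]

theorem brFun_isClassFunction (hHN : H ≤ Subgroup.normalizer (P : Set G)) {a : G → ℂ}
    (ha : Cfsg.IsClassFunction G a) : Cfsg.IsClassFunction H (brFun P H a) := by
  intro h k
  have hiff := conj_mem_centralizer_iff_of_mem_normalizer P (hHN k.2) (h : G)
  by_cases hh : (h : G) ∈ Subgroup.centralizer (P : Set G)
  · have hh' : ((k * h * k⁻¹ : H) : G) ∈ Subgroup.centralizer (P : Set G) := by
      simpa using hiff.mpr hh
    rw [brFun_of_mem P H a hh, brFun_of_mem P H a hh']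
    simpa using ha (h : G) (k : G)
  · have hh' : ((k * h * k⁻¹ : H) : G) ∉ Subgroup.centralizer (P : Set G) := by
      intro hc
      apply hh
      apply hiff.mp
      simpa using hc
    rw [brFun_of_not_mem P H a hh, brFun_of_not_mem P H a hh']

/-- the Brauer map on central matrices -/
noncomputable def brMat (X : Matrix G G ℂ) : Matrix H H ℂ :=
  regMat (brFun P H (fun g => X g 1))

theorem brMat_apply_one (X : Matrix G G ℂ) (h : H) :
    brMat P H X h 1 = brFun P H (fun g => X g 1) h := by
  unfold brMat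
  rw [regMat_apply, inv_one, mul_one]

theorem brMat_mem_centerAlg (hHN : H ≤ Subgroup.normalizer (P : Set G)) {X : Matrix G G ℂ}
    (hX : X ∈ centerAlg G) : brMat P H X ∈ centerAlg H :=
  regMat_mem_centerAlg (brFun_isClassFunction P H hHN (isClassFunction_of_mem_centerAlg hX))

theorem brMat_mem_sMat (hM : Cfsg.IsPModular p M) {X : Matrix G G ℂ} (hX : X ∈ sMat hM G) :
    brMat P H X ∈ sMat hM H := by
  apply regMat_mem_sMat
  intro h
  by_cases hh : (h : G) ∈ Subgroup.centralizer (P : Set G)
  · rw [brFun_of_mem P H _ hh]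
    exact hX _ _
  · rw [brFun_of_not_mem P H _ hh]
    exact memLocalRing_zero hM

theorem brMat_add (X Y : Matrix G G ℂ) : brMat P H (X + Y) = brMat P H X + brMat P H Y := by
  unfold brMat
  rw [← regMat_add]
  congr 1
  funext h
  by_cases hh : (h : G) ∈ Subgroup.centralizer (P : Set G)
  · simp [Pi.add_apply, brFun_of_mem P H _ hh, Matrix.add_apply]
  · simp [Pi.add_apply, brFun_of_not_mem P H _ hh]

theorem brMat_smul (c : ℂ) (X : Matrix G G ℂ) : brMat P H (c • X) = c • brMat P H X := by
  unfold brMat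
  rw [← regMat_smul]
  congr 1
  funext h
  by_cases hh : (h : G) ∈ Subgroup.centralizer (P : Set G)
  · simp [Pi.smul_apply, brFun_of_mem P H _ hh, Matrix.smul_apply]
  · simp [Pi.smul_apply, brFun_of_not_mem P H _ hh]

theorem brMat_one : brMat P H (1 : Matrix G G ℂ) = 1 := by
  ext s t
  unfold brMat
  rw [regMat_apply]
  by_cases hh : ((s * t⁻¹ : H) : G) ∈ Subgroup.centralizer (P : Set G)
  · rw [brFun_of_mem P H _ hh]
    simp only [Matrix.one_apply]
    have : ((s * t⁻¹ : H) : G) = 1 ↔ s = t := by
      rw [← Subgroup.coe_one H, Subtype.coe_inj, mul_inv_eq_one]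
    simp only [this]
  · rw [brFun_of_not_mem P H _ hh]
    have : s ≠ t := by
      rintro rfl
      apply hh
      simp
    simp [this]

theorem sum_subtype_of_support (F : G → ℂ) (hF : ∀ g : G, g ∉ H → F g = 0) :
    ∑ k : H, F (k : G) = ∑ g : G, F g := by
  classical
  have h1 : ∑ g : G, F g = ∑ g ∈ Finset.univ.filter (fun g : G => g ∈ H), F g := by
    symm
    apply Finset.sum_subset (Finset.filter_subset _ _)
    intro g _ hg
    apply hF
    simpa using hg
  rw [h1]
  exact (Finset.sum_subtype _ (fun x => by simp) F).symm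

/-- the Brauer map is multiplicative modulo the maximal ideal: first column -/
theorem brMat_mul_sub_apply_one (hM : Cfsg.IsPModular p M) (hP : IsPGroup p P)
    (hCH : Subgroup.centralizer (P : Set G) ≤ H) {X Y : Matrix G G ℂ}
    (hX : X ∈ centerAlg G) (hXs : X ∈ sMat hM G) (hY : Y ∈ centerAlg G) (hYs : Y ∈ sMat hM G)
    (h : H) : Cfsg.MemLocalIdeal M
      (brMat P H (X * Y) h 1 - (brMat P H X * brMat P H Y) h 1) := by
  classical
  have hxcf := isClassFunction_of_mem_centerAlg hX
  have hycf := isClassFunction_of_mem_centerAlg hY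
  rw [Matrix.mul_apply]
  have e1 : ∀ k : H, brMat P H X h k * brMat P H Y k 1
      = brFun P H (fun g => X g 1) (h * k⁻¹) * brFun P H (fun g => Y g 1) k := by
    intro k
    rw [brMat_apply_one]
    unfold brMat
    rw [regMat_apply]
  rw [Finset.sum_congr rfl (fun k _ => e1 k), brMat_apply_one]
  by_cases hh : (h : G) ∈ Subgroup.centralizer (P : Set G)
  · rw [brFun_of_mem P H _ hh]
    rw [Matrix.mul_apply]
    -- the product on `H` as a sum over `G`
    let f : G → ℂ := fun k => X ((h : G) * k⁻¹) 1 * Y k 1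
    have e2 : ∀ k : G, X (h : G) k * Y k 1 = f k := by
      intro k
      rw [hX.1.apply_eq]
    rw [Finset.sum_congr rfl (fun k _ => e2 k)]
    let F : G → ℂ := fun k => if k ∈ Subgroup.centralizer (P : Set G) then f k else 0
    have e3 : ∀ k : H, brFun P H (fun g => X g 1) (h * k⁻¹) * brFun P H (fun g => Y g 1) k
        = F (k : G) := by
      intro k
      by_cases hk : (k : G) ∈ Subgroup.centralizer (P : Set G)
      · have hhk : ((h * k⁻¹ : H) : G) ∈ Subgroup.centralizer (P : Set G) := by
          rw [Subgroup.coe_mul, Subgroup.coe_inv]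
          exact (Subgroup.centralizer (P : Set G)).mul_mem hh
            ((Subgroup.centralizer (P : Set G)).inv_mem hk)
        rw [brFun_of_mem P H _ hk, brFun_of_mem P H _ hhk]
        simp only [F, if_pos hk, f]
        rw [Subgroup.coe_mul, Subgroup.coe_inv]
      · rw [brFun_of_not_mem P H _ hk, mul_zero]
        simp only [F, if_neg hk]
    rw [Finset.sum_congr rfl (fun k _ => e3 k)]
    rw [sum_subtype_of_support H F (by
      intro g hg
      simp only [F]
      rw [if_neg]
      intro hc
      exact hg (hCH hc))]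
    have e4 : ∑ k : G, f k - ∑ g : G, F g
        = ∑ k ∈ Finset.univ.filter (fun k : G => k ∉ Subgroup.centralizer (P : Set G)), f k := by
      rw [← Finset.sum_sub_distrib, Finset.sum_filter]
      apply Finset.sum_congr rfl
      intro k _
      simp only [F]
      split_ifs with hk <;> simp
    rw [e4]
    apply sum_off_centralizer_memLocalIdeal hM P hP f
    · intro u hu k
      simp only [f]
      have hcomm : u * (h : G) = (h : G) * u := Subgroup.mem_centralizer_iff.mp hh u hu
      have h1 : (h : G) * (u * k * u⁻¹)⁻¹ = u * ((h : G) * k⁻¹) * u⁻¹ := by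
        calc (h : G) * (u * k * u⁻¹)⁻¹ = ((h : G) * u) * k⁻¹ * u⁻¹ := by group
          _ = (u * (h : G)) * k⁻¹ * u⁻¹ := by rw [hcomm]
          _ = u * ((h : G) * k⁻¹) * u⁻¹ := by group
      rw [h1]
      have h2 := hxcf ((h : G) * k⁻¹) u
      have h3 := hycf k u
      simp only at h2 h3
      rw [h2, h3]
    · intro k
      exact MemLocalRing.mul hM (hXs _ _) (hYs _ _)
  · rw [brFun_of_not_mem P H _ hh, zero_sub]
    have : ∑ k : H, brFun P H (fun g => X g 1) (h * k⁻¹) * brFun P H (fun g => Y g 1) k = 0 := by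
      apply Finset.sum_eq_zero
      intro k _
      by_cases hk : (k : G) ∈ Subgroup.centralizer (P : Set G)
      · have hhk : ((h * k⁻¹ : H) : G) ∉ Subgroup.centralizer (P : Set G) := by
          intro hc
          apply hh
          have := (Subgroup.centralizer (P : Set G)).mul_mem hc hk
          simpa using this
        rw [brFun_of_not_mem P H _ hhk, zero_mul]
      · rw [brFun_of_not_mem P H _ hk, mul_zero]
    rw [this, neg_zero]
    exact memLocalIdeal_zero hM

/-- the Brauer map is multiplicative modulo the maximal ideal: all entries -/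
theorem brMat_mul_sub_apply (hM : Cfsg.IsPModular p M) (hP : IsPGroup p P)
    (hCH : Subgroup.centralizer (P : Set G) ≤ H) {X Y : Matrix G G ℂ}
    (hX : X ∈ centerAlg G) (hXs : X ∈ sMat hM G) (hY : Y ∈ centerAlg G) (hYs : Y ∈ sMat hM G)
    (s t : H) : Cfsg.MemLocalIdeal M
      ((brMat P H (X * Y) - brMat P H X * brMat P H Y) s t) := by
  have hr : RInv (brMat P H (X * Y) - brMat P H X * brMat P H Y) := by
    have h1 : RInv (brMat P H (X * Y)) := regMat_rInv _
    have h2 : RInv (brMat P H X * brMat P H Y) := RInv.mul (regMat_rInv _) (regMat_rInv _)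
    have h3 : brMat P H (X * Y) - brMat P H X * brMat P H Y
        = brMat P H (X * Y) + (-1 : ℂ) • (brMat P H X * brMat P H Y) := by
      rw [neg_one_smul, sub_eq_add_neg]
    rw [h3]
    exact h1.add (h2.smul _)
  rw [hr.apply_eq, Matrix.sub_apply]
  exact brMat_mul_sub_apply_one P H hM hP hCH hX hXs hY hYs _

/-- the Brauer central character as a central character of `H` -/
theorem brauerCentralChar_eq_cOmega (ξ : H → ℂ) (g : G) :
    Cfsg.brauerCentralChar P H ξ g = cOmega ξ (brMat P H (regMat (classInd g))) := by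
  classical
  unfold brMat
  rw [cOmega_regMat]
  unfold Cfsg.brauerCentralChar
  rw [Finset.sum_div, finsum_mem_setOf_eq_sum, Finset.sum_filter]
  apply Finset.sum_congr rfl
  intro h _
  by_cases hh : (h : G) ∈ Subgroup.centralizer (P : Set G)
  · rw [brFun_of_mem P H _ hh]
    simp only [regMat_apply, inv_one, mul_one]
    unfold classInd
    by_cases hc : IsConj g (h : G)
    · rw [if_pos ⟨hc, hh⟩, if_pos hc, one_mul]
    · rw [if_neg (fun h' => hc h'.1), if_neg hc, zero_mul, zero_div]
  · rw [brFun_of_not_mem P H _ hh, if_neg (fun h' => hh h'.2), zero_mul, zero_div]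

/-- the difference between the induced and the Brauer central characters lies in the ideal -/
theorem inducedCentralChar_sub_brauerCentralChar (hM : Cfsg.IsPModular p M) (hP : IsPGroup p P)
    (hPH : P ≤ H) (hHN : H ≤ Subgroup.normalizer (P : Set G)) (ξ : Cfsg.IrrCharacter H) (g : G) :
    Cfsg.MemLocalIdeal M
      (Cfsg.inducedCentralChar H (ξ : H → ℂ) g - Cfsg.brauerCentralChar P H (ξ : H → ℂ) g) := by
  classical
  have : Fintype (ConjClasses H) := Fintype.ofFinite _
  have hXc : regMat (classInd g) ∈ centerAlg G := regMat_mem_centerAlg (classInd_isClassFunction g)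
  have hXs : regMat (classInd g) ∈ sMat hM G := classInd_mem_sMat hM g
  rw [inducedCentralChar_eq_cOmega, brauerCentralChar_eq_cOmega,
    cOmega_eq_sum_classes (IsIrrCharacter.isClassFunction ξ.2) (resMat_mem_centerAlg H hXc),
    cOmega_eq_sum_classes (IsIrrCharacter.isClassFunction ξ.2) (brMat_mem_centerAlg P H hHN hXc),
    ← Finset.sum_sub_distrib]
  apply MemLocalIdeal.sum hM
  intro c _
  rw [← sub_mul]
  set l : H := Quotient.out c with hl
  by_cases hlc : (l : G) ∈ Subgroup.centralizer (P : Set G)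
  · have : resMat H (regMat (classInd g)) l 1 - brMat P H (regMat (classInd g)) l 1 = 0 := by
      rw [brMat_apply_one, brFun_of_mem P H _ hlc]
      unfold resMat
      simp [regMat_apply, resFun]
    rw [this, zero_mul]
    exact memLocalIdeal_zero hM
  · -- the class of `l` in `H` avoids the centralizer of the normal `p`-subgroup
    have hPn : (P.subgroupOf H).Normal := by
      have h1 : (P.subgroupOf (Subgroup.normalizer (P : Set G))).Normal :=
        Subgroup.normal_in_normalizer
      constructor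
      intro n hn k
      rw [Subgroup.mem_subgroupOf] at hn ⊢
      have := (Subgroup.mem_normalizer_iff.mp (hHN k.2) (n : G)).mp hn
      simpa using this
    have hPp : IsPGroup p (P.subgroupOf H) := by
      rw [← Subgroup.comap_subtype]
      exact hP.comap_subtype
    have hω := centralChar_memLocalIdeal_of_not_centralizer hM (P.subgroupOf H) hPp l (by
      intro y hy hyc
      apply hlc
      obtain ⟨k, hk⟩ := isConj_iff.mp hy
      -- y centralizes P
      have hyG : (y : G) ∈ Subgroup.centralizer (P : Set G) := by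
        rw [Subgroup.mem_centralizer_iff]
        intro u hu
        have := Subgroup.mem_centralizer_iff.mp hyc ⟨u, hPH hu⟩ (by
          rw [SetLike.mem_coe, Subgroup.mem_subgroupOf]; exact hu)
        exact congrArg Subtype.val this
      have h2 : (l : G) = (k : G)⁻¹ * (y : G) * ((k : G)⁻¹)⁻¹ := by
        rw [← hk]
        simp only [Subgroup.coe_mul, Subgroup.coe_inv]
        group
      rw [h2]
      exact (conj_mem_centralizer_iff_of_mem_normalizer P
        ((Subgroup.normalizer (P : Set G)).inv_mem (hHN k.2)) (y : G)).mpr hyG) ξ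
    apply MemLocalIdeal.mul_left hM _ hω
    apply MemLocalRing.sub hM
    · exact resMat_mem_sMat H hM hXs _ _
    · exact brMat_mem_sMat P H hM hXs _ _

/-- for `C_G(P) ≤ H ≤ N_G(P)` every block of `H` induces a block of `G`, via the Brauer map -/
theorem exists_irr_brauer (hM : Cfsg.IsPModular p M) (hP : IsPGroup p P)
    (hCH : Subgroup.centralizer (P : Set G) ≤ H) (hHN : H ≤ Subgroup.normalizer (P : Set G))
    (ξ₀ : Cfsg.IrrCharacter H) :
    ∃ χ : Cfsg.IrrCharacter G, ∀ X ∈ centerAlg G, X ∈ sMat hM G →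
      Cfsg.MemLocalIdeal M (cOmega (ξ₀ : H → ℂ) (brMat P H X) - cOmega (χ : G → ℂ) X) := by
  classical
  apply exists_irr_of_hom (fun X => cOmega (ξ₀ : H → ℂ) (brMat P H X)) hM
  · intro X Y
    rw [brMat_add, cOmega_add]
  · intro c X
    rw [brMat_smul, cOmega_smul]
  · intro X hXc hXs
    exact cOmega_memLocalRing hM ξ₀.2 (brMat_mem_centerAlg P H hHN hXc) (brMat_mem_sMat P H hM hXs)
  · intro X Y hXc hXs hYc hYs
    rw [← cOmega_mul ξ₀.2 (brMat_mem_centerAlg P H hHN hXc) (brMat_mem_centerAlg P H hHN hYc).1,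
      ← cOmega_sub]
    apply cOmega_memLocalIdeal_of_entries hM ξ₀.2
    · exact (centerAlg H).sub_mem (brMat_mem_centerAlg P H hHN ((centerAlg G).mul_mem hXc hYc))
        ((centerAlg H).mul_mem (brMat_mem_centerAlg P H hHN hXc) (brMat_mem_centerAlg P H hHN hYc))
    · intro s t
      exact brMat_mul_sub_apply P H hM hP hCH hXc hXs hYc hYs s t
  · rw [brMat_one, cOmega_one (IsIrrCharacter.apply_one_ne_zero ξ₀.2)]

theorem inducedBlockDefined_of_centralizer_le (hM : Cfsg.IsPModular p M) (hP : IsPGroup p P)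
    (hPH : P ≤ H) (hCH : Subgroup.centralizer (P : Set G) ≤ H)
    (hHN : H ≤ Subgroup.normalizer (P : Set G)) (b : Set (Cfsg.IrrCharacter H))
    (hb : Cfsg.IsPBlock M b) : Cfsg.InducedBlockDefined M H b := by
  classical
  obtain ⟨ξ₀, hbξ⟩ := hb
  obtain ⟨χ, hχ⟩ := exists_irr_brauer P H hM hP hCH hHN ξ₀
  refine ⟨Cfsg.blockOf M (χ : G → ℂ), ⟨ξ₀, hbξ⟩, ⟨χ, rfl⟩, ?_⟩
  intro ξ hξ χ' hχ' g
  have hXc : regMat (classInd g) ∈ centerAlg G := regMat_mem_centerAlg (classInd_isClassFunction g)
  have hXs : regMat (classInd g) ∈ sMat hM G := classInd_mem_sMat hM g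
  have h1 := inducedCentralChar_sub_brauerCentralChar P H hM hP hPH hHN ξ g
  have hsb : Cfsg.SameBlock M (ξ : H → ℂ) (ξ₀ : H → ℂ) := by
    rw [hbξ] at hξ
    exact SameBlock.symm' hξ
  have h2 := cOmega_sub_memLocalIdeal hM ξ.2 ξ₀.2 hsb (brMat_mem_centerAlg P H hHN hXc)
    (brMat_mem_sMat P H hM hXs)
  rw [← brauerCentralChar_eq_cOmega, ← brauerCentralChar_eq_cOmega] at h2
  have h3 := hχ _ hXc hXs
  rw [← brauerCentralChar_eq_cOmega, cOmega_classInd _ (IsIrrCharacter.isClassFunction χ.2)] at h3
  have h4 : Cfsg.MemLocalIdeal M (Cfsg.centralChar (χ : G → ℂ) g - Cfsg.centralChar (χ' : G → ℂ) g) :=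
    hχ' g
  have h5 := MemLocalIdeal.add hM (MemLocalIdeal.add hM (MemLocalIdeal.add hM h1 h2) h3) h4
  convert h5 using 1
  ring

end brauer

end Cfsg.Agent.Lib.Helper6
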