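import Mathlib
import Cfsg.Prelude.Def_Blocks
import Cfsg.Agent.Lib.Helper6.BlkCenter

set_option autoImplicit false
set_option linter.unusedSectionVars false
open Cfsg

namespace Cfsg.Agent.Lib.Helper6

open scoped ComplexConjugate

section

variable {G : Type*} [Group G] [Fintype G] [DecidableEq G]
variable {p : ℕ} {M : Ideal Cfsg.AlgInt}

/-- the idempotent of a union of blocks has local-integral coefficients -/
theorem blockMat_mem_sMat_of_union (hM : Cfsg.IsPModular p M) (A : Set (Cfsg.IrrCharacter G))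
    (hA : ∀ ψ ∈ A, Cfsg.blockOf M (ψ : G → ℂ) ⊆ A) : blockMat A ∈ sMat hM G := by
  classical
  have : Fintype (Cfsg.IrrCharacter G) := Fintype.ofFinite _
  let sA : Finset (Cfsg.IrrCharacter G) := Finset.univ.filter (· ∈ A)
  let Ef : Cfsg.IrrCharacter G → Matrix G G ℂ :=
    fun ψ => 1 - blockMat (Cfsg.blockOf M (ψ : G → ℂ))
  have hEfc : ∀ ψ, Ef ψ ∈ centerAlg G := fun ψ =>
    (centerAlg G).sub_mem (centerAlg G).one_mem (blockMat_mem_centerAlg _)
  have hEfs : ∀ ψ, Ef ψ ∈ sMat hM G := fun ψ =>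
    (sMat hM G).sub_mem (sMat hM G).one_mem (blockMat_mem_sMat hM ψ)
  let Z : Matrix G G ℂ := (sA.toList.map Ef).prod
  have hZc : Z ∈ centerAlg G := by
    apply (centerAlg G).list_prod_mem
    intro X hX
    obtain ⟨ψ, _, rfl⟩ := List.mem_map.mp hX
    exact hEfc ψ
  have hZs : Z ∈ sMat hM G := by
    apply (sMat hM G).list_prod_mem
    intro X hX
    obtain ⟨ψ, _, rfl⟩ := List.mem_map.mp hX
    exact hEfs ψ
  have hEfω : ∀ θ ψ : Cfsg.IrrCharacter G, cOmega (θ : G → ℂ) (Ef ψ)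
      = 1 - (if θ ∈ Cfsg.blockOf M (ψ : G → ℂ) then 1 else 0) := by
    intro θ ψ
    simp only [Ef]
    rw [cOmega_sub, cOmega_one (IsIrrCharacter.apply_one_ne_zero θ.2), cOmega_blockMat]
  have hZω : ∀ θ : Cfsg.IrrCharacter G,
      cOmega (θ : G → ℂ) Z = ∏ ψ ∈ sA, cOmega (θ : G → ℂ) (Ef ψ) := by
    intro θ
    rw [cOmega_list_prod θ.2]
    · rw [List.map_map, Finset.prod_map_toList]
      rfl
    · intro X hX
      obtain ⟨ψ, _, rfl⟩ := List.mem_map.mp hX
      exact hEfc ψ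
  have heq : blockMat A = 1 - Z := by
    apply eq_of_cOmega_eq (blockMat_mem_centerAlg A)
      ((centerAlg G).sub_mem (centerAlg G).one_mem hZc)
    intro θ
    rw [cOmega_blockMat, cOmega_sub, cOmega_one (IsIrrCharacter.apply_one_ne_zero θ.2), hZω]
    by_cases hθ : θ ∈ A
    · rw [if_pos hθ]
      rw [Finset.prod_eq_zero (i := θ)]
      · ring
      · simp [sA, hθ]
      · have hθθ : θ ∈ Cfsg.blockOf M (θ : G → ℂ) := sameBlock_refl hM _
        rw [hEfω, if_pos hθθ, sub_self]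
    · rw [if_neg hθ]
      rw [Finset.prod_eq_one]
      · ring
      · intro ψ hψ
        have hψA : ψ ∈ A := (Finset.mem_filter.mp hψ).2
        rw [hEfω, if_neg, sub_zero]
        intro hmem
        exact hθ (hA ψ hψA hmem)
  rw [heq]
  exact (sMat hM G).sub_mem (sMat hM G).one_mem hZs

theorem blockCoeff_memLocalRing_of_union (hM : Cfsg.IsPModular p M)
    (A : Set (Cfsg.IrrCharacter G)) (hA : ∀ ψ ∈ A, Cfsg.blockOf M (ψ : G → ℂ) ⊆ A) (g : G) :
    Cfsg.MemLocalRing M (Cfsg.blockCoeff A g) := by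
  have h1 := blockMat_mem_sMat_of_union hM A hA g 1
  unfold blockMat at h1
  rw [regMat_apply, inv_one, mul_one] at h1
  exact h1

end

end Cfsg.Agent.Lib.Helper6
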