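import Mathlib
import Cfsg.Prelude.Def_Blocks
import Cfsg.Agent.Lib.Helper6.BlkCover
import Cfsg.Agent.Lib.Helper6.BlkUnion
import Cfsg.Agent.Lib.Helper6.BlkInd

set_option autoImplicit false
set_option linter.unusedSectionVars false
open Cfsg

namespace Cfsg.Agent.Lib.Helper6

open scoped ComplexConjugate

section

variable {N : Type*} [Group N]

theorem centralizer_singleton_map_equiv (e : N ≃* N) (n : N) :
    Subgroup.centralizer ({e n} : Set N) = (Subgroup.centralizer ({n} : Set N)).map e.toMonoidHom := by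
  ext x
  rw [Subgroup.mem_centralizer_singleton_iff, Subgroup.mem_map]
  constructor
  · intro hx
    refine ⟨e.symm x, ?_, by simp⟩
    rw [Subgroup.mem_centralizer_singleton_iff]
    apply e.injective
    rw [map_mul, map_mul]
    simpa using hx
  · rintro ⟨y, hy, rfl⟩
    rw [Subgroup.mem_centralizer_singleton_iff] at hy
    change e y * e n = e n * e y
    rw [← map_mul, ← map_mul, hy]

theorem centralChar_comp_equiv [Finite N] (e : N ≃* N) (θ : N → ℂ) (n : N) :
    Cfsg.centralChar (fun m => θ (e m)) n = Cfsg.centralChar θ (e n) := by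
  unfold Cfsg.centralChar
  have h1 : (Subgroup.map e.toMonoidHom (Subgroup.centralizer ({n} : Set N))).index
      = (Subgroup.centralizer ({n} : Set N)).index := Subgroup.index_map_equiv _ e
  rw [centralizer_singleton_map_equiv, h1]
  simp only [map_one]

end

section

variable {G : Type*} [Group G] [Fintype G] [DecidableEq G]
variable {p : ℕ} {M : Ideal Cfsg.AlgInt}
variable (N : Subgroup G) [Fintype N] (hN : N.Normal)

theorem centralChar_conjFun (θ : N → ℂ) (g : G) (n : N) :
    Cfsg.centralChar (conjFun N hN θ g) n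
      = Cfsg.centralChar θ ⟨g * n * g⁻¹, hN.conj_mem n n.2 g⟩ := by
  have := hN
  rw [conjFun_eq_comp]
  rw [centralChar_comp_equiv (MulAut.conjNormal g : N ≃* N) θ n]
  congr 1

/-- conjugation by `G` preserves the block relation on a normal subgroup -/
theorem sameBlock_conjFun {θ θ' : N → ℂ} (h : Cfsg.SameBlock M θ θ') (g : G) :
    Cfsg.SameBlock M (conjFun N hN θ g) (conjFun N hN θ' g) := by
  intro n
  rw [centralChar_conjFun, centralChar_conjFun]
  exact h _

/-- the union of the `G`-conjugates of a set of irreducible characters of `N` -/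
def conjUnion (b : Set (Cfsg.IrrCharacter N)) : Set (Cfsg.IrrCharacter N) :=
  {ψ | ∃ g : G, irrConj N hN g ψ ∈ b}

theorem conjUnion_gStable (b : Set (Cfsg.IrrCharacter N)) : GStable N hN (conjUnion N hN b) := by
  rintro ψ ⟨g, hg⟩ h
  refine ⟨h⁻¹ * g, ?_⟩
  have e : irrConj N hN (h⁻¹ * g) (irrConj N hN h ψ) = irrConj N hN g ψ := by
    apply Subtype.ext
    rw [irrConj_coe, irrConj_coe, irrConj_coe, conjFun_conjFun]
    congr 1
    group
  rw [e]
  exact hg

theorem subset_conjUnion (b : Set (Cfsg.IrrCharacter N)) : b ⊆ conjUnion N hN b := by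
  intro ψ hψ
  refine ⟨1, ?_⟩
  have e : irrConj N hN 1 ψ = ψ := by
    apply Subtype.ext
    rw [irrConj_coe, conjFun_one]
  rw [e]
  exact hψ

theorem conjUnion_union_of_blocks (hM : Cfsg.IsPModular p M) (θ₀ : Cfsg.IrrCharacter N) :
    ∀ ψ ∈ conjUnion N hN (Cfsg.blockOf M (θ₀ : N → ℂ)),
      Cfsg.blockOf M (ψ : N → ℂ) ⊆ conjUnion N hN (Cfsg.blockOf M (θ₀ : N → ℂ)) := by
  rintro ψ ⟨g, hg⟩ ψ' hψ'
  refine ⟨g, ?_⟩
  have h1 : Cfsg.SameBlock M (θ₀ : N → ℂ) (conjFun N hN (ψ : N → ℂ) g) := hg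
  have h2 : Cfsg.SameBlock M (conjFun N hN (ψ : N → ℂ) g) (conjFun N hN (ψ' : N → ℂ) g) :=
    sameBlock_conjFun N hN hψ' g
  exact SameBlock.trans' hM h1 h2

/-- if `χ ∈ B` lies over `θ ∈ b` then every constituent of the restriction of a member of `B`
is conjugate to a member of `b` -/
theorem exists_conj_mem_block_of_sameBlock (hM : Cfsg.IsPModular p M)
    (θ₀ : Cfsg.IrrCharacter N) (χ χ' : Cfsg.IrrCharacter G)
    (hb : Cfsg.SameBlock M (χ : G → ℂ) (χ' : G → ℂ))
    (θ : Cfsg.IrrCharacter N) (hθb : θ ∈ Cfsg.blockOf M (θ₀ : N → ℂ))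
    (hθ : Cfsg.classInner (fun n : N => (χ : G → ℂ) n) (θ : N → ℂ) ≠ 0)
    (ψ : Cfsg.IrrCharacter N)
    (hψ : Cfsg.classInner (fun n : N => (χ' : G → ℂ) n) (ψ : N → ℂ) ≠ 0) :
    ∃ g : G, irrConj N hN g ψ ∈ Cfsg.blockOf M (θ₀ : N → ℂ) := by
  have hmem := constituents_mem_of_sameBlock N hN hM (conjUnion_gStable N hN _)
    (fun n => blockCoeff_memLocalRing_of_union hM _ (conjUnion_union_of_blocks N hN hM θ₀) n)
    χ χ' hb θ (subset_conjUnion N hN _ hθb) hθ ψ hψ
  exact hmem

end

end Cfsg.Agent.Lib.Helper6
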