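import Mathlib
import Cfsg.Prelude.Def_Blocks
import Cfsg.Agent.Lib.Helper6.ClassSum
import Cfsg.Agent.Lib.Helper6.Schur

set_option autoImplicit false

namespace Cfsg.Agent.Lib.Helper6

open Module

section

variable {G : Type*} [Group G] [Fintype G]

theorem classOp_eq_sum {V : Type*} [AddCommGroup V] [Module ℂ V] (ρ : Representation ℂ G V)
    (g : G) [DecidablePred (fun x : G => IsConj g x)] :
    classOp ρ g = ∑ x ∈ Finset.univ.filter (fun x : G => IsConj g x), ρ x := by
  unfold classOp
  congr

/-- The class sum acts on an irreducible representation through the central character. -/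
theorem classOp_eq_centralChar_smul {V : Type*} [AddCommGroup V] [Module ℂ V]
    [FiniteDimensional ℂ V] (ρ : Representation ℂ G V) [ρ.IsIrreducible] (g : G) :
    classOp ρ g = Cfsg.centralChar ρ.character g • (LinearMap.id : V →ₗ[ℂ] V) := by
  have h1 := eq_trace_div_smul_id_of_comm ρ (classOp ρ g) (fun h => classOp_comm ρ g h)
  rw [trace_classOp] at h1
  unfold Cfsg.centralChar
  rw [Representation.char_one]
  exact h1

end

end Cfsg.Agent.Lib.Helper6
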