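import Mathlib
import Cfsg.Agent.Lib.Helper6.Decomp
import Cfsg.Agent.Lib.Helper6.Constituent
import Cfsg.Agent.Lib.Helper6.Orthogonality

set_option autoImplicit false

namespace Cfsg.Agent.Lib.Helper6

universe u v w

open Module
open scoped ComplexConjugate

section

variable {G : Type u} [Group G]

/-- The inclusion of a subrepresentation as an intertwining map. -/
def subrepIncl {V : Type*} [AddCommGroup V] [Module ℂ V] {ρ : Representation ℂ G V}
    (P : Subrepresentation ρ) : Representation.IntertwiningMap P.toRepresentation ρ where
  toLinearMap := P.toSubmodule.subtype
  isIntertwining' := fun g => by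
    ext v
    rfl

/-- An injective intertwining map is an equivalence onto its range. -/
noncomputable def rangeEquiv {U V : Type*} [AddCommGroup U] [Module ℂ U] [AddCommGroup V]
    [Module ℂ V] {τ : Representation ℂ G U} {ρ : Representation ℂ G V}
    (f : Representation.IntertwiningMap τ ρ) (hf : Function.Injective f) :
    τ.Equiv f.range.toRepresentation :=
  Representation.Equiv.mk (LinearEquiv.ofInjective f.toLinearMap hf) (fun g => by
    ext u
    simp only [LinearMap.comp_apply]
    show f.toLinearMap (τ g u) = ρ g (f.toLinearMap u)
    exact Representation.IntertwiningMap.isIntertwining _ _ f g u)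

/-- Gluing intertwining maps defined on complementary subrepresentations. -/
noncomputable def ofIsComplIntertwining {V W : Type*} [AddCommGroup V] [Module ℂ V]
    [AddCommGroup W] [Module ℂ W] {ρ : Representation ℂ G V} {σ : Representation ℂ G W}
    (P Q : Subrepresentation ρ) (h : IsCompl P Q)
    (φ : Representation.IntertwiningMap P.toRepresentation σ)
    (ψ : Representation.IntertwiningMap Q.toRepresentation σ) :
    Representation.IntertwiningMap ρ σ where
  toLinearMap := LinearMap.ofIsCompl (isCompl_toSubmodule h) φ.toLinearMap ψ.toLinearMap
  isIntertwining' := fun g => by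
    ext v
    obtain ⟨a, b, rfl, _⟩ := Submodule.existsUnique_add_of_isCompl (isCompl_toSubmodule h) v
    simp only [LinearMap.comp_apply, map_add]
    have ha : ρ g (a : V) = ((P.toRepresentation g a : P.toSubmodule) : V) := rfl
    have hb : ρ g (b : V) = ((Q.toRepresentation g b : Q.toSubmodule) : V) := rfl
    rw [ha, hb, LinearMap.ofIsCompl_apply_left, LinearMap.ofIsCompl_apply_right,
      LinearMap.ofIsCompl_apply_left, LinearMap.ofIsCompl_apply_right]
    have h1 := Representation.IntertwiningMap.isIntertwining _ _ φ g a
    have h2 := Representation.IntertwiningMap.isIntertwining _ _ ψ g b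
    simp only [Representation.IntertwiningMap.toLinearMap_apply]
    rw [h1, h2]

theorem nontrivial_of_isIrreducible' {U : Type*} [AddCommGroup U] [Module ℂ U]
    (τ : Representation ℂ G U) [τ.IsIrreducible] : Nontrivial U := by
  by_contra hV
  rw [not_nontrivial_iff_subsingleton] at hV
  have : (⊥ : Subrepresentation τ) = ⊤ := by
    apply Subrepresentation.toSubmodule_injective
    exact Subsingleton.elim _ _
  exact bot_ne_top this

variable [Fintype G]

/-- A nonzero inner product with an irreducible character yields an injective intertwining map. -/
theorem exists_injective_intertwining {U W : Type*} [AddCommGroup U] [Module ℂ U]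
    [FiniteDimensional ℂ U] [AddCommGroup W] [Module ℂ W] [FiniteDimensional ℂ W]
    (τ : Representation ℂ G U) [τ.IsIrreducible] (σ : Representation ℂ G W)
    (h : Cfsg.classInner σ.character τ.character ≠ 0) :
    ∃ f : Representation.IntertwiningMap τ σ, Function.Injective f := by
  have : Invertible (Nat.card G : ℂ) := invertibleOfNonzero (card_ne_zero_complex G)
  rw [classInner_character, Representation.card_inv_mul_sum_char_mul_char_eq_finrank] at h
  have h1 : finrank ℂ (Representation.IntertwiningMap τ σ) ≠ 0 := by
    intro h0
    apply h
    rw [h0]
    simp
  have h2 : ∃ f : Representation.IntertwiningMap τ σ, f ≠ 0 := by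
    by_contra hcon
    push Not at hcon
    apply h1
    have : Subsingleton (Representation.IntertwiningMap τ σ) :=
      ⟨fun a b => by rw [hcon a, hcon b]⟩
    exact Module.finrank_zero_of_subsingleton
  obtain ⟨f, hf⟩ := h2
  refine ⟨f, ?_⟩
  rcases Representation.IsIrreducible.injective_or_eq_zero f with h3 | h3
  · exact h3
  · exact absurd h3 hf

/-- Representations with equal characters are equivalent (inductive form). -/
theorem equiv_of_character_eq_aux (n : ℕ) :
    ∀ (V : Type v) (W : Type w) [AddCommGroup V] [Module ℂ V] [FiniteDimensional ℂ V]
      [AddCommGroup W] [Module ℂ W] [FiniteDimensional ℂ W]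
      (ρ : Representation ℂ G V) (σ : Representation ℂ G W),
      finrank ℂ V = n → ρ.character = σ.character → Nonempty (ρ.Equiv σ) := by
  classical
  induction n using Nat.strong_induction_on with
  | _ n ih =>
    intro V W _ _ _ _ _ _ ρ σ hn hchar
    have hdim : finrank ℂ V = finrank ℂ W := by
      have h1 := congrFun hchar 1
      rw [Representation.char_one, Representation.char_one] at h1
      exact_mod_cast h1
    rcases subsingleton_or_nontrivial V with hV | hV
    · have hW : Subsingleton W := by
        have h0 : finrank ℂ V = 0 := Module.finrank_zero_of_subsingleton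
        rw [hdim] at h0
        exact Module.finrank_zero_iff.mp h0
      refine ⟨Representation.Equiv.mk (LinearEquiv.ofSubsingleton V W) (fun g => ?_)⟩
      ext v
      exact Subsingleton.elim _ _
    · -- pick an irreducible constituent
      have h1 : ρ.character 1 ≠ 0 := by
        rw [Representation.char_one]
        exact_mod_cast (Module.finrank_pos (R := ℂ) (M := V)).ne'
      obtain ⟨χ, hχ⟩ := IsCharacter.exists_constituent (isCharacter_character ρ) h1
      obtain ⟨k, τ, hτ, hτχ⟩ := χ.2
      rw [← hτχ] at hχ
      have hχ' : Cfsg.classInner σ.character τ.character ≠ 0 := by rw [← hchar]; exact hχ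
      obtain ⟨f, hf⟩ := exists_injective_intertwining τ ρ hχ
      obtain ⟨f', hf'⟩ := exists_injective_intertwining τ σ hχ'
      obtain ⟨Q, hQ⟩ := exists_isCompl f.range
      obtain ⟨Q', hQ'⟩ := exists_isCompl f'.range
      have hc1 := character_eq_add_of_isCompl ρ f.range Q hQ
      have hc2 := character_eq_add_of_isCompl σ f'.range Q' hQ'
      have hP : f.range.toRepresentation.character = τ.character :=
        (Representation.char_iso (rangeEquiv f hf)).symm
      have hP' : f'.range.toRepresentation.character = τ.character :=
        (Representation.char_iso (rangeEquiv f' hf')).symm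
      have hQchar : Q.toRepresentation.character = Q'.toRepresentation.character := by
        have : τ.character + Q.toRepresentation.character
            = τ.character + Q'.toRepresentation.character := by
          rw [← hP, ← hc1, hP, ← hP', ← hc2, hchar]
        exact add_left_cancel this
      have hlt : finrank ℂ Q.toSubmodule < n := by
        have h2 := Submodule.finrank_add_eq_of_isCompl (isCompl_toSubmodule hQ)
        have h3 : finrank ℂ f.range.toSubmodule = k := by
          have := (rangeEquiv f hf).toLinearEquiv.finrank_eq
          rw [← this, Module.finrank_fin_fun]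
        have hk : 0 < k := by
          have hnt := nontrivial_of_isIrreducible' τ
          have := Module.finrank_pos (R := ℂ) (M := Fin k → ℂ)
          rwa [Module.finrank_fin_fun] at this
        omega
      obtain ⟨e⟩ := ih _ hlt Q.toSubmodule Q'.toSubmodule Q.toRepresentation Q'.toRepresentation
        rfl hQchar
      -- build the map
      let φ : Representation.IntertwiningMap f.range.toRepresentation σ :=
        f'.comp (rangeEquiv f hf).symm.toIntertwiningMap
      let ψ : Representation.IntertwiningMap Q.toRepresentation σ :=
        (subrepIncl Q').comp e.toIntertwiningMap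
      let F : Representation.IntertwiningMap ρ σ := ofIsComplIntertwining f.range Q hQ φ ψ
      have hFinj : Function.Injective F := by
        show Function.Injective F.toLinearMap
        rw [← LinearMap.ker_eq_bot (f := F.toLinearMap), LinearMap.ker_eq_bot']
        intro v hv
        obtain ⟨a, b, rfl, _⟩ := Submodule.existsUnique_add_of_isCompl (isCompl_toSubmodule hQ) v
        have h4 : F.toLinearMap ((a : V) + (b : V)) = φ a + ψ b := by
          show LinearMap.ofIsCompl (isCompl_toSubmodule hQ) φ.toLinearMap ψ.toLinearMap
            ((a : V) + (b : V)) = φ a + ψ b
          rw [map_add, LinearMap.ofIsCompl_apply_left, LinearMap.ofIsCompl_apply_right]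
          rfl
        rw [h4] at hv
        have h5 : φ a ∈ f'.range.toSubmodule := ⟨_, rfl⟩
        have h6 : ψ b ∈ Q'.toSubmodule := (e b).2
        have hdisj := (isCompl_toSubmodule hQ').disjoint
        have h7 : φ a = 0 := by
          have h8 : φ a ∈ Q'.toSubmodule := by
            have : φ a = -ψ b := eq_neg_of_add_eq_zero_left hv
            rw [this]
            exact Q'.toSubmodule.neg_mem h6
          exact (Submodule.disjoint_def.mp hdisj) _ h5 h8
        have h9 : ψ b = 0 := by
          rw [h7, zero_add] at hv
          exact hv
        have ha : a = 0 := by
          have h10 : f' ((rangeEquiv f hf).symm a) = 0 := h7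
          have h11 : (rangeEquiv f hf).symm a = 0 := by
            apply hf'
            rw [h10, map_zero]
          have := congrArg (rangeEquiv f hf) h11
          simpa using this
        have hb : b = 0 := by
          have h12 : ((e b : Q'.toSubmodule) : W) = 0 := h9
          have h13 : e b = 0 := Subtype.ext h12
          have := congrArg e.symm h13
          simpa using this
        rw [ha, hb]
        simp
      have hFbij : Function.Bijective F := by
        refine ⟨hFinj, ?_⟩
        exact (LinearMap.injective_iff_surjective_of_finrank_eq_finrank hdim
          (f := F.toLinearMap)).mp hFinj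
      exact ⟨Representation.IntertwiningMap.ofBijective F hFbij⟩

/-- Complex representations of a finite group with equal characters are equivalent. -/
theorem equiv_of_character_eq {V : Type v} {W : Type w} [AddCommGroup V] [Module ℂ V]
    [FiniteDimensional ℂ V] [AddCommGroup W] [Module ℂ W] [FiniteDimensional ℂ W]
    (ρ : Representation ℂ G V) (σ : Representation ℂ G W) (h : ρ.character = σ.character) :
    Nonempty (ρ.Equiv σ) :=
  equiv_of_character_eq_aux _ V W ρ σ rfl h

end

end Cfsg.Agent.Lib.Helper6
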