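import Mathlib
import Cfsg.Agent.Lib.Helper6.ClassSum
import Cfsg.Agent.Lib.Helper6.IndFun

set_option autoImplicit false

namespace Cfsg.Agent.Lib.Helper6

section

variable {G : Type*} [Group G] [Fintype G]

/-- Summing a function over all conjugates `x g x⁻¹`, `x : G`, counts each element of the class
of `g` with multiplicity the order of the centralizer. -/
theorem sum_conj_eq_card_centralizer_mul [DecidableEq G] (F : G → ℂ) (g : G) :
    ∑ x : G, F (x * g * x⁻¹)
      = (Nat.card (Subgroup.centralizer ({g} : Set G)) : ℂ)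
        * ∑ y ∈ Finset.univ.filter (fun y : G => IsConj g y), F y := by
  have h1 : ∑ x : G, F (x * g * x⁻¹)
      = ∑ y ∈ Finset.univ.filter (fun y : G => IsConj g y),
          ∑ x ∈ Finset.univ.filter (fun x : G => x * g * x⁻¹ = y), F (x * g * x⁻¹) := by
    symm
    apply Finset.sum_fiberwise_of_maps_to
    intro x _
    simp only [Finset.mem_filter, Finset.mem_univ, true_and]
    exact isConj_iff.mpr ⟨x, rfl⟩
  rw [h1, Finset.mul_sum]
  apply Finset.sum_congr rfl
  intro y hy
  have hy' : IsConj g y := (Finset.mem_filter.mp hy).2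
  have h2 : ∀ x ∈ Finset.univ.filter (fun x : G => x * g * x⁻¹ = y), F (x * g * x⁻¹) = F y := by
    intro x hx
    rw [(Finset.mem_filter.mp hx).2]
  rw [Finset.sum_congr rfl h2, Finset.sum_const, card_filter_conj_eq_card_centralizer hy',
    nsmul_eq_mul]

/-- The same with the conjugation `x⁻¹ g x`. -/
theorem sum_conj_inv_eq_card_centralizer_mul [DecidableEq G] (F : G → ℂ) (g : G) :
    ∑ x : G, F (x⁻¹ * g * x)
      = (Nat.card (Subgroup.centralizer ({g} : Set G)) : ℂ)
        * ∑ y ∈ Finset.univ.filter (fun y : G => IsConj g y), F y := by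
  rw [← sum_conj_eq_card_centralizer_mul F g,
    ← Equiv.sum_comp (Equiv.inv G) (fun x : G => F (x * g * x⁻¹))]
  apply Finset.sum_congr rfl
  intro x _
  simp

/-- The induced function as a sum over the part of the class lying in the subgroup. -/
theorem indFun_eq_sum_class [DecidableEq G] (H : Subgroup G) (ξ : H → ℂ) (g : G) :
    Cfsg.indFun H ξ g = (Nat.card H : ℂ)⁻¹
      * ((Nat.card (Subgroup.centralizer ({g} : Set G)) : ℂ)
        * ∑ y ∈ Finset.univ.filter (fun y : G => IsConj g y), Cfsg.extendByZero H ξ y) := by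
  unfold Cfsg.indFun
  rw [sum_conj_inv_eq_card_centralizer_mul]

end

end Cfsg.Agent.Lib.Helper6
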