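import Mathlib
import Cfsg.Prelude.Def_Blocks
import Cfsg.Agent.Lib.Helper6.BlkCover2
import Cfsg.Agent.Lib.Helper6.BlkPReg
import Cfsg.Agent.S0963

set_option autoImplicit false
set_option linter.unusedSectionVars false
open Cfsg

namespace Cfsg.Agent.Lib.Helper6

open scoped ComplexConjugate

section

variable {G : Type*} [Group G] [Fintype G] [DecidableEq G]
variable {p : ℕ} {M : Ideal Cfsg.AlgInt}

theorem blockOf_eq_of_sameBlock (hM : Cfsg.IsPModular p M) {χ ψ : G → ℂ}
    (h : Cfsg.SameBlock M χ ψ) : Cfsg.blockOf M χ = Cfsg.blockOf M ψ := by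
  ext θ
  constructor
  · intro hθ
    exact SameBlock.trans' hM (SameBlock.symm' h) hθ
  · intro hθ
    exact SameBlock.trans' hM h hθ

theorem blockOf_eq_of_mem (hM : Cfsg.IsPModular p M) {χ₀ : G → ℂ} {χ : Cfsg.IrrCharacter G}
    (h : χ ∈ Cfsg.blockOf M χ₀) : Cfsg.blockOf M χ₀ = Cfsg.blockOf M (χ : G → ℂ) :=
  blockOf_eq_of_sameBlock hM h

variable (N : Subgroup G) [Fintype N] [hN : N.Normal]

/-- `p`-regular elements lie in a normal subgroup of `p`-power index -/
theorem mem_of_pRegular_of_index (hp : p.Prime) (hidx : ∃ k : ℕ, N.index = p ^ k) (g : G)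
    (hg : ¬ p ∣ orderOf g) : g ∈ N := by
  obtain ⟨k, hk⟩ := hidx
  have h1 : g ^ (p ^ k) ∈ N := by
    rw [← hk]
    exact Subgroup.pow_index_mem _ g
  have h2 : g ∈ Subgroup.zpowers (g ^ (p ^ k)) := by
    rw [mem_zpowers_pow_iff]
    exact Nat.Coprime.pow_left k ((hp.coprime_iff_not_dvd).mpr hg)
  exact (Subgroup.zpowers_le.mpr h1) h2

/-- over a normal subgroup of `p`-power index, characters lying over the same block lie in the
same block -/
theorem sameBlock_of_cover_of_index (hM : Cfsg.IsPModular p M) (hidx : ∃ k : ℕ, N.index = p ^ k)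
    (χ χ' : Cfsg.IrrCharacter G) (θ θ' : Cfsg.IrrCharacter N)
    (hθθ' : Cfsg.SameBlock M (θ : N → ℂ) (θ' : N → ℂ))
    (hθ : Cfsg.classInner (fun n : N => (χ : G → ℂ) n) (θ : N → ℂ) ≠ 0)
    (hθ' : Cfsg.classInner (fun n : N => (χ' : G → ℂ) n) (θ' : N → ℂ) ≠ 0) :
    Cfsg.SameBlock M (χ : G → ℂ) (χ' : G → ℂ) := by
  apply sameBlock_of_forall_pRegular hM
  intro g hg
  have hgN : g ∈ N := mem_of_pRegular_of_index N hM.1 hidx g hg
  have e1 := (Cfsg.Agent.S0963.result N χ θ).mp hθ ⟨g, hgN⟩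
  have e2 := (Cfsg.Agent.S0963.result N χ' θ').mp hθ' ⟨g, hgN⟩
  simp only at e1 e2
  rw [e1, e2]
  exact inducedCentralChar_sub_memLocalIdeal N hM θ.2 θ'.2 hθθ' g

/-- every irreducible character of a subgroup lies under some irreducible character -/
theorem exists_irr_over (H : Subgroup G) [Fintype H] (θ : Cfsg.IrrCharacter H) :
    ∃ χ : Cfsg.IrrCharacter G, Cfsg.classInner (fun h : H => (χ : G → ℂ) h) (θ : H → ℂ) ≠ 0 := by
  have hA : Cfsg.IsCharacter G (Cfsg.indFun H (θ : H → ℂ)) :=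
    IsCharacter.indFun H (IsIrrCharacter.isCharacter θ.2)
  have h1 : Cfsg.indFun H (θ : H → ℂ) 1 ≠ 0 := by
    rw [indFun_one]
    apply mul_ne_zero
    · have : H.index ≠ 0 := Subgroup.index_ne_zero_of_finite
      exact_mod_cast this
    · exact IsIrrCharacter.apply_one_ne_zero θ.2
  obtain ⟨χ, hχ⟩ := IsCharacter.exists_constituent hA h1
  refine ⟨χ, ?_⟩
  rw [Cfsg.Agent.S0146.result H (θ : H → ℂ) (χ : G → ℂ) (IsIrrCharacter.isClassFunction χ.2)] at hχ
  intro h0
  apply hχ
  rw [← classInner_conj_symm, h0, map_zero]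

theorem resMat_liftIdem (A : Set (Cfsg.IrrCharacter N)) :
    resMat N (liftIdem N A) = blockMat A := by
  unfold liftIdem blockMat
  rw [resMat_regMat]
  congr 1
  funext n
  rw [resFun_apply, extendByZero_coe]

/-- if the induced central characters of `ψ` and `θ ∈ b` agree mod `M` on `N`, then `ψ` is
conjugate to a member of `b` -/
theorem exists_conj_mem_of_inducedCentralChar_congr (hM : Cfsg.IsPModular p M)
    (θ₀ ψ θ : Cfsg.IrrCharacter N) (hθ : θ ∈ Cfsg.blockOf M (θ₀ : N → ℂ))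
    (h : ∀ n : N, Cfsg.MemLocalIdeal M
      (Cfsg.inducedCentralChar N (ψ : N → ℂ) (n : G) - Cfsg.inducedCentralChar N (θ : N → ℂ) (n : G))) :
    ∃ g : G, irrConj N hN g ψ ∈ Cfsg.blockOf M (θ₀ : N → ℂ) := by
  classical
  have : Fintype (ConjClasses G) := Fintype.ofFinite _
  set A := conjUnion N hN (Cfsg.blockOf M (θ₀ : N → ℂ)) with hA
  have hAst : GStable N hN A := conjUnion_gStable N hN _
  have hAS : ∀ n : N, Cfsg.MemLocalRing M (Cfsg.blockCoeff A n) :=
    fun n => blockCoeff_memLocalRing_of_union hM _ (conjUnion_union_of_blocks N hN hM θ₀) n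
  have hFc : liftIdem N A ∈ centerAlg G := liftIdem_mem_centerAlg N hN hAst
  have hFs : liftIdem N A ∈ sMat hM G := liftIdem_mem_sMat N hM hAS
  have h1 : Cfsg.MemLocalIdeal M (cOmega (ψ : N → ℂ) (resMat N (liftIdem N A))
      - cOmega (θ : N → ℂ) (resMat N (liftIdem N A))) := by
    rw [cOmega_resMat_eq_sum_classes N _ hFc, cOmega_resMat_eq_sum_classes N _ hFc,
      ← Finset.sum_sub_distrib]
    apply MemLocalIdeal.sum hM
    intro c _
    rw [← mul_sub]
    by_cases hc : Quotient.out c ∈ N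
    · exact MemLocalIdeal.mul_left hM (hFs _ _) (h ⟨_, hc⟩)
    · have : liftIdem N A (Quotient.out c) 1 = 0 := by
        unfold liftIdem
        rw [regMat_apply, inv_one, mul_one, extendByZero_of_not_mem N _ hc]
      rw [this, zero_mul]
      exact memLocalIdeal_zero hM
  rw [resMat_liftIdem, cOmega_blockMat, cOmega_blockMat,
    if_pos (subset_conjUnion N hN _ hθ)] at h1
  by_contra hne
  have hψA : ψ ∉ A := hne
  rw [if_neg hψA, zero_sub] at h1
  have := MemLocalIdeal.neg h1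
  rw [neg_neg] at this
  exact not_memLocalIdeal_one hM this

end

end Cfsg.Agent.Lib.Helper6
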