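import Mathlib
import Cfsg.Prelude.Def_Blocks
import Cfsg.Agent.Lib.Helper6.BlkBrauer
import Cfsg.Agent.Lib.Helper6.BlkCover3
import Cfsg.Agent.Lib.Helper6.BlkOrth2

set_option autoImplicit false
set_option linter.unusedSectionVars false
open Cfsg

namespace Cfsg.Agent.Lib.Helper6

open scoped ComplexConjugate

section

variable {G : Type*} [Group G] [Fintype G] [DecidableEq G]
variable {p : ℕ} {M : Ideal Cfsg.AlgInt}

/-- matrices with all entries in the local ideal -/
def MMat (M : Ideal Cfsg.AlgInt) (X : Matrix G G ℂ) : Prop :=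
  ∀ s t, Cfsg.MemLocalIdeal M (X s t)

theorem MMat.zero (hM : Cfsg.IsPModular p M) : MMat M (0 : Matrix G G ℂ) :=
  fun _ _ => memLocalIdeal_zero hM

theorem MMat.add (hM : Cfsg.IsPModular p M) {X Y : Matrix G G ℂ} (hX : MMat M X) (hY : MMat M Y) :
    MMat M (X + Y) := by
  intro s t
  rw [Matrix.add_apply]
  exact MemLocalIdeal.add hM (hX s t) (hY s t)

theorem MMat.neg {X : Matrix G G ℂ} (hX : MMat M X) : MMat M (-X) := by
  intro s t
  rw [Matrix.neg_apply]
  exact MemLocalIdeal.neg (hX s t)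

theorem MMat.sub (hM : Cfsg.IsPModular p M) {X Y : Matrix G G ℂ} (hX : MMat M X) (hY : MMat M Y) :
    MMat M (X - Y) := by
  intro s t
  rw [Matrix.sub_apply]
  exact MemLocalIdeal.sub hM (hX s t) (hY s t)

theorem MMat.smul_of_mem (hM : Cfsg.IsPModular p M) {c : ℂ} (hc : Cfsg.MemLocalIdeal M c)
    {X : Matrix G G ℂ} (hX : X ∈ sMat hM G) : MMat M (c • X) := by
  intro s t
  rw [Matrix.smul_apply, smul_eq_mul]
  exact MemLocalIdeal.mul_right hM hc (hX s t)

theorem MMat.smul (hM : Cfsg.IsPModular p M) {c : ℂ} (hc : Cfsg.MemLocalRing M c)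
    {X : Matrix G G ℂ} (hX : MMat M X) : MMat M (c • X) := by
  intro s t
  rw [Matrix.smul_apply, smul_eq_mul]
  exact MemLocalIdeal.mul_left hM hc (hX s t)

theorem MMat.mul_left (hM : Cfsg.IsPModular p M) {X Y : Matrix G G ℂ} (hX : MMat M X)
    (hY : Y ∈ sMat hM G) : MMat M (X * Y) := by
  intro s t
  rw [Matrix.mul_apply]
  exact MemLocalIdeal.sum hM _ _ (fun k _ => MemLocalIdeal.mul_right hM (hX s k) (hY k t))

theorem MMat.mul_right (hM : Cfsg.IsPModular p M) {X Y : Matrix G G ℂ} (hX : X ∈ sMat hM G)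
    (hY : MMat M Y) : MMat M (X * Y) := by
  intro s t
  rw [Matrix.mul_apply]
  exact MemLocalIdeal.sum hM _ _ (fun k _ => MemLocalIdeal.mul_left hM (hX s k) (hY k t))

theorem MMat.mem_sMat (hM : Cfsg.IsPModular p M) {X : Matrix G G ℂ} (hX : MMat M X) :
    X ∈ sMat hM G := fun s t => MemLocalIdeal.memLocalRing (hX s t)

/-- a product of factors `Z - c` with all `c` in the ideal is a power of `Z` up to the ideal -/
theorem list_prod_sub_smul (hM : Cfsg.IsPModular p M) {Z : Matrix G G ℂ} (hZ : Z ∈ sMat hM G)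
    (l : List ℂ) (hl : ∀ c ∈ l, Cfsg.MemLocalIdeal M c) :
    ∃ N : Matrix G G ℂ, MMat M N ∧
      (l.map (fun c => Z - c • (1 : Matrix G G ℂ))).prod = Z ^ l.length + N := by
  induction l with
  | nil => exact ⟨0, MMat.zero hM, by simp⟩
  | cons c l ih =>
    obtain ⟨N, hN, hprod⟩ := ih (fun d hd => hl d (List.mem_cons_of_mem _ hd))
    have hc := hl c List.mem_cons_self
    refine ⟨Z * N - c • (Z ^ l.length) - c • N, ?_, ?_⟩
    · apply MMat.sub hM (MMat.sub hM (MMat.mul_right hM hZ hN) ?_) ?_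
      · exact MMat.smul_of_mem hM hc ((sMat hM G).pow_mem hZ _)
      · exact MMat.smul hM (MemLocalIdeal.memLocalRing hc) hN
    · rw [List.map_cons, List.prod_cons, hprod, List.length_cons, pow_succ']
      rw [sub_mul, mul_add, smul_mul_assoc, one_mul, smul_add]
      abel

/-- a central matrix is a root of the product of `X - ω_ξ(Z)` -/
theorem prod_sub_cOmega_eq_zero [Fintype (Cfsg.IrrCharacter G)] {Z : Matrix G G ℂ}
    (hZ : Z ∈ centerAlg G) :
    (((Finset.univ : Finset (Cfsg.IrrCharacter G)).toList.map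
      (fun ξ : Cfsg.IrrCharacter G => cOmega (ξ : G → ℂ) Z)).map
        (fun c => Z - c • (1 : Matrix G G ℂ))).prod = 0 := by
  have hmem : ∀ X ∈ (((Finset.univ : Finset (Cfsg.IrrCharacter G)).toList.map
      (fun ξ : Cfsg.IrrCharacter G => cOmega (ξ : G → ℂ) Z)).map
        (fun c => Z - c • (1 : Matrix G G ℂ))), X ∈ centerAlg G := by
    intro X hX
    rw [List.mem_map] at hX
    obtain ⟨c, _, rfl⟩ := hX
    exact (centerAlg G).sub_mem hZ ((centerAlg G).smul_mem (centerAlg G).one_mem c)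
  apply eq_zero_of_cOmega_eq_zero ((centerAlg G).list_prod_mem hmem)
  intro χ
  rw [cOmega_list_prod χ.2 _ hmem]
  apply List.prod_eq_zero
  rw [List.mem_map]
  refine ⟨Z - cOmega (χ : G → ℂ) Z • (1 : Matrix G G ℂ), ?_, ?_⟩
  · rw [List.mem_map]
    refine ⟨cOmega (χ : G → ℂ) Z, ?_, rfl⟩
    rw [List.mem_map]
    exact ⟨χ, Finset.mem_toList.mpr (Finset.mem_univ _), rfl⟩
  · rw [cOmega_sub, cOmega_smul, cOmega_one (IsIrrCharacter.apply_one_ne_zero χ.2), mul_one,
      sub_self]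

/-- a central matrix over the local ring all of whose central character values lie in the ideal
is nilpotent modulo the ideal -/
theorem exists_pow_mMat_of_cOmega (hM : Cfsg.IsPModular p M) {Z : Matrix G G ℂ}
    (hZc : Z ∈ centerAlg G) (hZs : Z ∈ sMat hM G)
    (h : ∀ ξ : Cfsg.IrrCharacter G, Cfsg.MemLocalIdeal M (cOmega (ξ : G → ℂ) Z)) :
    ∃ n : ℕ, MMat M (Z ^ n) := by
  classical
  have : Fintype (Cfsg.IrrCharacter G) := Fintype.ofFinite _
  obtain ⟨N, hN, hprod⟩ := list_prod_sub_smul hM hZs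
    ((Finset.univ : Finset (Cfsg.IrrCharacter G)).toList.map
      (fun ξ : Cfsg.IrrCharacter G => cOmega (ξ : G → ℂ) Z)) (by
      intro c hc
      rw [List.mem_map] at hc
      obtain ⟨ξ, _, rfl⟩ := hc
      exact h ξ)
  rw [prod_sub_cOmega_eq_zero hZc] at hprod
  refine ⟨((Finset.univ : Finset (Cfsg.IrrCharacter G)).toList.map
      (fun ξ : Cfsg.IrrCharacter G => cOmega (ξ : G → ℂ) Z)).length, ?_⟩
  have : Z ^ ((Finset.univ : Finset (Cfsg.IrrCharacter G)).toList.map
      (fun ξ : Cfsg.IrrCharacter G => cOmega (ξ : G → ℂ) Z)).length = -N := by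
    rw [eq_neg_iff_add_eq_zero, ← hprod]
  rw [this]
  exact hN.neg

/-- powers of an idempotent modulo the ideal -/
theorem pow_sub_mMat_of_idem (hM : Cfsg.IsPModular p M) {Z : Matrix G G ℂ}
    (hZs : Z ∈ sMat hM G) (hidem : MMat M (Z * Z - Z)) (n : ℕ) : MMat M (Z ^ (n + 1) - Z) := by
  induction n with
  | zero => simpa using MMat.zero hM
  | succ n ih =>
    have : Z ^ (n + 1 + 1) - Z = Z * (Z ^ (n + 1) - Z) + (Z * Z - Z) := by
      rw [pow_succ' Z (n + 1), mul_sub]
      abel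
    rw [this]
    exact MMat.add hM (MMat.mul_right hM hZs ih) hidem

/-- (NIL): a central idempotent modulo the ideal all of whose central character values lie in
the ideal has all entries in the ideal -/
theorem mMat_of_cOmega_of_idem (hM : Cfsg.IsPModular p M) {Z : Matrix G G ℂ}
    (hZc : Z ∈ centerAlg G) (hZs : Z ∈ sMat hM G)
    (h : ∀ ξ : Cfsg.IrrCharacter G, Cfsg.MemLocalIdeal M (cOmega (ξ : G → ℂ) Z))
    (hidem : MMat M (Z * Z - Z)) : MMat M Z := by
  obtain ⟨n, hn⟩ := exists_pow_mMat_of_cOmega hM hZc hZs h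
  rcases n with _ | n
  · have := MMat.mul_left hM hn hZs
    simpa using this
  · have h1 := pow_sub_mMat_of_idem hM hZs hidem n
    have h2 := MMat.sub hM hn h1
    simpa using h2

end

section brauer

variable {G : Type*} [Group G] [Fintype G] [DecidableEq G]
variable {p : ℕ} {M : Ideal Cfsg.AlgInt}
variable (P H : Subgroup G) [Fintype H]

/-- if `ω_ξ₀ ∘ Br_P ≡ ω_χ` then the block of `ξ₀` induces the block of `χ` -/
theorem isInducedBlock_of_brauer (hM : Cfsg.IsPModular p M) (hP : IsPGroup p P)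
    (hPH : P ≤ H) (hHN : H ≤ Subgroup.normalizer (P : Set G)) (ξ₀ : Cfsg.IrrCharacter H)
    (χ : Cfsg.IrrCharacter G)
    (hχ : ∀ X ∈ centerAlg G, X ∈ sMat hM G →
      Cfsg.MemLocalIdeal M (cOmega (ξ₀ : H → ℂ) (brMat P H X) - cOmega (χ : G → ℂ) X)) :
    Cfsg.IsInducedBlock M H (Cfsg.blockOf M (ξ₀ : H → ℂ)) (Cfsg.blockOf M (χ : G → ℂ)) := by
  classical
  refine ⟨⟨ξ₀, rfl⟩, ⟨χ, rfl⟩, ?_⟩
  intro ξ hξ χ' hχ' g
  have hXc : regMat (classInd g) ∈ centerAlg G := regMat_mem_centerAlg (classInd_isClassFunction g)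
  have hXs : regMat (classInd g) ∈ sMat hM G := classInd_mem_sMat hM g
  have h1 := inducedCentralChar_sub_brauerCentralChar P H hM hP hPH hHN ξ g
  have hsb : Cfsg.SameBlock M (ξ : H → ℂ) (ξ₀ : H → ℂ) := SameBlock.symm' hξ
  have h2 := cOmega_sub_memLocalIdeal hM ξ.2 ξ₀.2 hsb (brMat_mem_centerAlg P H hHN hXc)
    (brMat_mem_sMat P H hM hXs)
  rw [← brauerCentralChar_eq_cOmega, ← brauerCentralChar_eq_cOmega] at h2
  have h3 := hχ _ hXc hXs
  rw [← brauerCentralChar_eq_cOmega, cOmega_classInd _ (IsIrrCharacter.isClassFunction χ.2)] at h3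
  have h4 : Cfsg.MemLocalIdeal M (Cfsg.centralChar (χ : G → ℂ) g - Cfsg.centralChar (χ' : G → ℂ) g) :=
    hχ' g
  have h5 := MemLocalIdeal.add hM (MemLocalIdeal.add hM (MemLocalIdeal.add hM h1 h2) h3) h4
  convert h5 using 1
  ring

/-- if the Brauer image of the block idempotent of `B` has an entry outside the ideal, then
`B` is induced from a block of `H` -/
theorem exists_isInducedBlock_of_brMat_blockMat (hM : Cfsg.IsPModular p M) (hP : IsPGroup p P)
    (hPH : P ≤ H) (hCH : Subgroup.centralizer (P : Set G) ≤ H)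
    (hHN : H ≤ Subgroup.normalizer (P : Set G)) (χ₀ : Cfsg.IrrCharacter G)
    (hne : ¬ MMat M (brMat P H (blockMat (Cfsg.blockOf M (χ₀ : G → ℂ))))) :
    ∃ b : Set (Cfsg.IrrCharacter H),
      Cfsg.IsInducedBlock M H b (Cfsg.blockOf M (χ₀ : G → ℂ)) := by
  classical
  have hEc := blockMat_mem_centerAlg (Cfsg.blockOf M (χ₀ : G → ℂ))
  have hEs := blockMat_mem_sMat hM χ₀
  have hex : ∃ ξ : Cfsg.IrrCharacter H, ¬ Cfsg.MemLocalIdeal M
      (cOmega (ξ : H → ℂ) (brMat P H (blockMat (Cfsg.blockOf M (χ₀ : G → ℂ))))) := by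
    by_contra hall
    push Not at hall
    apply hne
    apply mMat_of_cOmega_of_idem hM (brMat_mem_centerAlg P H hHN hEc) (brMat_mem_sMat P H hM hEs) hall
    intro s t
    have h1 := brMat_mul_sub_apply P H hM hP hCH hEc hEs hEc hEs s t
    rw [blockMat_idem] at h1
    have h2 := MemLocalIdeal.neg h1
    convert h2 using 1
    simp [Matrix.sub_apply]
  obtain ⟨ξ, hξ⟩ := hex
  obtain ⟨χ, hχ⟩ := exists_irr_brauer P H hM hP hCH hHN ξ
  have h1 := hχ _ hEc hEs
  rw [cOmega_blockMat] at h1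
  have hχB : χ ∈ Cfsg.blockOf M (χ₀ : G → ℂ) := by
    by_contra hnot
    rw [if_neg hnot, sub_zero] at h1
    exact hξ h1
  refine ⟨Cfsg.blockOf M (ξ : H → ℂ), ?_⟩
  rw [blockOf_eq_of_mem hM hχB]
  exact isInducedBlock_of_brauer P H hM hP hPH hHN ξ χ hχ

end brauer

end Cfsg.Agent.Lib.Helper6
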