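import Mathlib
import Cfsg.Prelude.Def_Blocks
import Cfsg.Agent.Lib.Helper6.BlkNil

set_option autoImplicit false
set_option linter.unusedSectionVars false
open Cfsg

namespace Cfsg.Agent.Lib.Helper6

open scoped ComplexConjugate

section general

variable {G : Type*} [Group G] [Fintype G] [DecidableEq G]
variable {p : ℕ} {M : Ideal Cfsg.AlgInt}

theorem regMat_mul_regMat_apply (a c : G → ℂ) (s t : G) :
    (regMat a * regMat c) s t = ∑ k : G, a (s * t⁻¹ * k⁻¹) * c k := by
  rw [Matrix.mul_apply]
  apply Fintype.sum_equiv (Equiv.mulRight t⁻¹)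
  intro k
  simp only [regMat_apply, Equiv.coe_mulRight]
  congr 2
  group

/-- a central matrix commutes with every right-invariant matrix -/
theorem centerAlg_comm_rInv {X Y : Matrix G G ℂ} (hX : X ∈ centerAlg G) (hY : RInv Y) :
    X * Y = Y * X := by
  have hXcf := isClassFunction_of_mem_centerAlg hX
  rw [hX.1.eq_regMat, hY.eq_regMat]
  ext s t
  rw [regMat_mul_regMat_apply, regMat_mul_regMat_apply]
  apply Fintype.sum_equiv ((Equiv.inv G).trans (Equiv.mulRight (s * t⁻¹)))
  intro k
  simp only [Equiv.trans_apply, Equiv.coe_mulRight, Equiv.inv_apply]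
  have h1 := hXcf (s * t⁻¹ * k⁻¹) k⁻¹
  simp only at h1
  have e1 : k⁻¹ * (s * t⁻¹ * k⁻¹) * k⁻¹⁻¹ = k⁻¹ * (s * t⁻¹) := by group
  have e2 : s * t⁻¹ * (k⁻¹ * (s * t⁻¹))⁻¹ = k := by group
  rw [e1] at h1
  rw [e2, h1, mul_comm]

theorem rInv_twoSidedMat (x : G) : RInv (twoSidedMat x (1 : G)) := by
  intro r s t
  unfold twoSidedMat
  simp only [mul_one]
  have : (t * r = x⁻¹ * (s * r)) ↔ (t = x⁻¹ * s) := by
    rw [← mul_assoc]
    exact mul_left_inj r
  simp only [this]

/-- conjugating a left multiplication matrix by a group element -/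
theorem conj_regMat (k : G) (a : G → ℂ) :
    twoSidedMat k 1 * regMat a * twoSidedMat k⁻¹ 1 = regMat (fun g => a (k⁻¹ * g * k)) := by
  ext s t
  rw [mul_twoSidedMat_apply, twoSidedMat_mul_apply]
  simp only [regMat_apply, mul_one, inv_one]
  congr 1
  group

theorem twoSidedMat_mul_inv (k : G) : twoSidedMat k (1 : G) * twoSidedMat k⁻¹ 1 = 1 := by
  ext s t
  rw [twoSidedMat_mul_apply]
  unfold twoSidedMat
  rw [Matrix.one_apply]
  have e : k⁻¹⁻¹ * (k⁻¹ * s * 1) * 1 = s := by group
  rw [e]
  by_cases h : s = t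
  · rw [if_pos h, if_pos h.symm]
  · rw [if_neg h, if_neg (fun h' => h h'.symm)]

theorem twoSidedMat_inv_mul (k : G) : twoSidedMat k⁻¹ (1 : G) * twoSidedMat k 1 = 1 := by
  have := twoSidedMat_mul_inv k⁻¹
  rwa [inv_inv] at this

/-- membership in the centre algebra via commutation with the translation matrices -/
theorem mem_centerAlg_of_comm {E : Matrix G G ℂ}
    (h : ∀ x v : G, twoSidedMat x v * E = E * twoSidedMat x v) : E ∈ centerAlg G := by
  constructor
  · intro r s t
    have h1 := congrFun (congrFun (h 1 r) s) (t * r)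
    rw [twoSidedMat_mul_apply, mul_twoSidedMat_apply] at h1
    simp only [inv_one, one_mul] at h1
    rw [h1]
    congr 1
    group
  · intro r s t
    have h1 := congrFun (congrFun (h r⁻¹ 1) s) (r * t)
    rw [twoSidedMat_mul_apply, mul_twoSidedMat_apply] at h1
    simp only [inv_inv, mul_one, inv_one] at h1
    rw [h1]
    congr 1
    group

/-- a matrix over the local ring congruent to the identity has an inverse over the local ring -/
theorem exists_inverse_of_congr_one (hM : Cfsg.IsPModular p M) {n : Type*} [Fintype n]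
    [DecidableEq n] (U : Matrix n n ℂ) (hU : ∀ i j, Cfsg.MemLocalRing M (U i j))
    (hU1 : ∀ i j, Cfsg.MemLocalIdeal M (U i j - (1 : Matrix n n ℂ) i j)) :
    ∃ W : Matrix n n ℂ, W * U = 1 ∧ U * W = 1 ∧ (∀ i j, Cfsg.MemLocalRing M (W i j)) ∧
      ∀ T : Matrix n n ℂ, T * U = U * T → T * W = W * T := by
  have hdet := det_ne_zero_of_congr_one hM U hU hU1
  have hunit : IsUnit U.det := isUnit_iff_ne_zero.mpr hdet
  have hdetS : ∀ (A : Matrix n n ℂ), (∀ i j, Cfsg.MemLocalRing M (A i j)) →
      Cfsg.MemLocalRing M A.det := by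
    intro A hA
    rw [Matrix.det_apply]
    apply MemLocalRing.sum hM
    intro σ _
    have hprod : Cfsg.MemLocalRing M (∏ i, A (σ i) i) :=
      MemLocalRing.prod hM _ _ (fun i _ => hA _ _)
    rcases Int.units_eq_one_or (Equiv.Perm.sign σ) with h | h
    · rw [h, one_smul]; exact hprod
    · rw [h, Units.neg_smul, one_smul]; exact MemLocalRing.neg hprod
  -- the determinant is a unit of the local ring
  have hdetU : Cfsg.MemLocalRing M U.det := hdetS U hU
  have hdetnot : ¬ Cfsg.MemLocalIdeal M U.det := by
    intro hmem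
    -- 1 = det (adj U * U) ...: use a direct argument with the inverse
    have h1 : Cfsg.MemLocalIdeal M (U.det - 1) := by
      -- as in `det_ne_zero_of_congr_one`
      rw [Matrix.det_apply]
      have hsplit : ∑ σ : Equiv.Perm n, Equiv.Perm.sign σ • ∏ i, U (σ i) i - 1
          = (∏ i, U i i - 1) + ∑ σ ∈ Finset.univ.erase (1 : Equiv.Perm n),
              Equiv.Perm.sign σ • ∏ i, U (σ i) i := by
        rw [← Finset.add_sum_erase Finset.univ _ (Finset.mem_univ (1 : Equiv.Perm n))]
        simp
      rw [hsplit]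
      apply MemLocalIdeal.add hM
      · apply lCongr_prod_one hM
        · intro i _
          exact hU i i
        · intro i _
          have := hU1 i i
          rw [Matrix.one_apply_eq] at this
          exact this
      · apply MemLocalIdeal.sum hM
        intro σ hσ
        have hσ1 : σ ≠ 1 := (Finset.mem_erase.mp hσ).1
        obtain ⟨i, hi⟩ : ∃ i, σ i ≠ i := by
          by_contra hcon
          push Not at hcon
          exact hσ1 (Equiv.ext hcon)
        have hprod : Cfsg.MemLocalIdeal M (∏ j, U (σ j) j) := by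
          rw [← Finset.mul_prod_erase Finset.univ _ (Finset.mem_univ i)]
          apply MemLocalIdeal.mul_right hM
          · have := hU1 (σ i) i
            rw [Matrix.one_apply_ne hi, sub_zero] at this
            exact this
          · apply MemLocalRing.prod hM
            intro j _
            exact hU _ _
        rcases Int.units_eq_one_or (Equiv.Perm.sign σ) with h | h
        · rw [h, one_smul]
          exact hprod
        · rw [h, Units.neg_smul, one_smul]
          exact MemLocalIdeal.neg hprod
    have := MemLocalIdeal.sub hM hmem h1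
    rw [sub_sub_cancel] at this
    exact not_memLocalIdeal_one hM this
  refine ⟨U⁻¹, Matrix.nonsing_inv_mul _ hunit, Matrix.mul_nonsing_inv _ hunit, ?_, ?_⟩
  · intro i j
    rw [Matrix.inv_def, Matrix.smul_apply, smul_eq_mul, Ring.inverse_eq_inv']
    apply MemLocalRing.mul hM (MemLocalRing.inv hdetU hdetnot)
    rw [Matrix.adjugate_apply]
    apply hdetS
    intro a b
    rw [Matrix.updateRow_apply]
    split_ifs
    · rw [Pi.single_apply]
      split_ifs
      · exact memLocalRing_one hM
      · exact memLocalRing_zero hM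
    · exact hU a b
  · intro T hT
    calc T * U⁻¹ = U⁻¹ * U * T * U⁻¹ := by rw [Matrix.nonsing_inv_mul _ hunit, one_mul]
      _ = U⁻¹ * (U * T) * U⁻¹ := by simp only [mul_assoc]
      _ = U⁻¹ * (T * U) * U⁻¹ := by rw [hT]
      _ = U⁻¹ * T * (U * U⁻¹) := by simp only [mul_assoc]
      _ = U⁻¹ * T := by rw [Matrix.mul_nonsing_inv _ hunit, mul_one]

end general

section ext

variable {G : Type*} [Group G] [Fintype G] [DecidableEq G]
variable {p : ℕ} {M : Ideal Cfsg.AlgInt}
variable (H : Subgroup G) [Fintype H]

/-- extension by zero of a function on the subgroup `H` -/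
noncomputable def extFun (a : H → ℂ) : G → ℂ :=
  fun g => by classical exact if hg : g ∈ H then a ⟨g, hg⟩ else 0

theorem extFun_coe (a : H → ℂ) (k : H) : extFun H a (k : G) = a k := by
  unfold extFun
  rw [dif_pos k.2]

theorem extFun_of_mem (a : H → ℂ) {g : G} (hg : g ∈ H) : extFun H a g = a ⟨g, hg⟩ := by
  unfold extFun
  rw [dif_pos hg]

theorem extFun_of_not_mem (a : H → ℂ) {g : G} (hg : g ∉ H) : extFun H a g = 0 := by
  unfold extFun
  rw [dif_neg hg]

/-- the embedding of the group algebra of `H` (as right-invariant matrices) into that of `G` -/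
noncomputable def extMat (X : Matrix H H ℂ) : Matrix G G ℂ :=
  regMat (extFun H (fun k => X k 1))

theorem extMat_rInv (X : Matrix H H ℂ) : RInv (extMat H X) := regMat_rInv _

theorem extMat_regMat (a : H → ℂ) : extMat H (regMat a) = regMat (extFun H a) := by
  unfold extMat
  congr 1
  funext g
  by_cases hg : g ∈ H
  · rw [extFun_of_mem H _ hg, extFun_of_mem H _ hg, regMat_apply, inv_one, mul_one]
  · rw [extFun_of_not_mem H _ hg, extFun_of_not_mem H _ hg]

theorem extMat_apply (X : Matrix H H ℂ) (s t : G) :
    extMat H X s t = extFun H (fun k => X k 1) (s * t⁻¹) := rfl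

theorem extMat_add (X Y : Matrix H H ℂ) : extMat H (X + Y) = extMat H X + extMat H Y := by
  ext s t
  rw [Matrix.add_apply, extMat_apply, extMat_apply, extMat_apply]
  by_cases hg : s * t⁻¹ ∈ H
  · simp [extFun_of_mem H _ hg]
  · simp [extFun_of_not_mem H _ hg]

theorem extMat_smul (c : ℂ) (X : Matrix H H ℂ) : extMat H (c • X) = c • extMat H X := by
  ext s t
  rw [Matrix.smul_apply, extMat_apply, extMat_apply]
  by_cases hg : s * t⁻¹ ∈ H
  · simp [extFun_of_mem H _ hg]
  · simp [extFun_of_not_mem H _ hg]

theorem extMat_sub (X Y : Matrix H H ℂ) : extMat H (X - Y) = extMat H X - extMat H Y := by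
  ext s t
  rw [Matrix.sub_apply, extMat_apply, extMat_apply, extMat_apply]
  by_cases hg : s * t⁻¹ ∈ H
  · simp [extFun_of_mem H _ hg]
  · simp [extFun_of_not_mem H _ hg]

theorem extMat_one : extMat H (1 : Matrix H H ℂ) = 1 := by
  ext s t
  rw [extMat_apply, Matrix.one_apply]
  by_cases hg : s * t⁻¹ ∈ H
  · rw [extFun_of_mem H _ hg, Matrix.one_apply]
    by_cases hst : s = t
    · rw [if_pos hst, if_pos]
      apply Subtype.ext
      simp [hst]
    · rw [if_neg hst, if_neg]
      intro h1
      apply hst
      have h2 := congrArg Subtype.val h1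
      simp only [Subgroup.coe_one] at h2
      exact mul_inv_eq_one.mp h2
  · rw [extFun_of_not_mem H _ hg, if_neg]
    intro hst
    apply hg
    rw [hst, mul_inv_cancel]
    exact H.one_mem

theorem extMat_mul {X : Matrix H H ℂ} (hX : RInv X) (Y : Matrix H H ℂ) :
    extMat H (X * Y) = extMat H X * extMat H Y := by
  ext s t
  unfold extMat
  rw [regMat_mul_regMat_apply, regMat_apply]
  rw [← sum_subtype_of_support H
    (fun k => extFun H (fun k => X k 1) (s * t⁻¹ * k⁻¹) * extFun H (fun k => Y k 1) k)
    (fun g hg => by rw [extFun_of_not_mem H _ hg, mul_zero])]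
  by_cases hg : s * t⁻¹ ∈ H
  · rw [extFun_of_mem H _ hg, Matrix.mul_apply]
    apply Finset.sum_congr rfl
    intro k _
    have hk : s * t⁻¹ * (k : G)⁻¹ ∈ H := H.mul_mem hg (H.inv_mem k.2)
    rw [extFun_of_mem H _ hk, extFun_coe, hX.apply_eq]
    congr 2
  · rw [extFun_of_not_mem H _ hg]
    symm
    apply Finset.sum_eq_zero
    intro k _
    have hk : s * t⁻¹ * (k : G)⁻¹ ∉ H := by
      intro h1
      apply hg
      have := H.mul_mem h1 k.2
      simpa using this
    rw [extFun_of_not_mem H _ hk, zero_mul]

theorem extMat_pow {X : Matrix H H ℂ} (hX : RInv X) (n : ℕ) :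
    extMat H (X ^ n) = extMat H X ^ n := by
  induction n with
  | zero => simp [extMat_one]
  | succ n ih =>
    have hXn : RInv (X ^ n) := by
      have : X ^ n ∈ rInvAlg H := (rInvAlg H).pow_mem hX n
      exact this
    rw [pow_succ, pow_succ, extMat_mul H hXn X, ih]

theorem extMat_mem_sMat (hM : Cfsg.IsPModular p M) {X : Matrix H H ℂ} (hX : X ∈ sMat hM H) :
    extMat H X ∈ sMat hM G := by
  intro s t
  rw [extMat_apply]
  by_cases hg : s * t⁻¹ ∈ H
  · rw [extFun_of_mem H _ hg]
    exact hX _ _
  · rw [extFun_of_not_mem H _ hg]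
    exact memLocalRing_zero hM

/-- left multiplication by an element of `H` -/
theorem extMat_twoSidedMat (k : H) :
    extMat H (twoSidedMat k (1 : H)) = twoSidedMat (k : G) (1 : G) := by
  ext s t
  rw [extMat_apply]
  unfold twoSidedMat
  by_cases hg : s * t⁻¹ ∈ H
  · rw [extFun_of_mem H _ hg]
    simp only [mul_one]
    by_cases hst : t = (k : G)⁻¹ * s
    · rw [if_pos hst, if_pos]
      apply Subtype.ext
      simp only [Subgroup.coe_one, Subgroup.coe_mul, Subgroup.coe_inv]
      rw [hst]
      group
    · rw [if_neg hst, if_neg]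
      intro h1
      apply hst
      have h2 := congrArg Subtype.val h1
      simp only [Subgroup.coe_one, Subgroup.coe_mul, Subgroup.coe_inv] at h2
      have : t = (k : G)⁻¹ * (s * t⁻¹) * t := by rw [← h2, one_mul]
      rw [this]
      group
  · rw [extFun_of_not_mem H _ hg]
    simp only [mul_one]
    rw [if_neg]
    intro hst
    apply hg
    rw [hst]
    have : s * ((k : G)⁻¹ * s)⁻¹ = (k : G) := by group
    rw [this]
    exact k.2

end ext

end Cfsg.Agent.Lib.Helper6
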