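import Mathlib
import Cfsg.Prelude.Def_Blocks
import Cfsg.Agent.S0903
import Cfsg.Agent.Lib.Helper6.BlkCenter

set_option autoImplicit false
set_option linter.unusedSectionVars false
open Cfsg

namespace Cfsg.Agent.Lib.Helper6

section defle

variable {G : Type*} [Group G]

/-- every `p`-subgroup centralizing `h` centralizes a conjugate of `g` -/
def DefLe (p : ℕ) (h g : G) : Prop :=
  ∀ P : Subgroup G, IsPGroup p P → P ≤ Subgroup.centralizer ({h} : Set G) →
    ∃ g' : G, IsConj g g' ∧ P ≤ Subgroup.centralizer ({g'} : Set G)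

theorem defLe_refl (p : ℕ) (h : G) : DefLe p h h :=
  fun _ _ hPc => ⟨h, IsConj.refl h, hPc⟩

theorem DefLe.of_isConj_right {p : ℕ} {h g g₂ : G} (hc : IsConj g g₂) (hd : DefLe p h g) :
    DefLe p h g₂ := by
  intro P hP hPc
  obtain ⟨g', hg', hP'⟩ := hd P hP hPc
  exact ⟨g', hc.symm.trans hg', hP'⟩

theorem mem_centralizer_singleton_iff {x w : G} :
    w ∈ Subgroup.centralizer ({x} : Set G) ↔ x * w = w * x := by
  rw [Subgroup.mem_centralizer_iff]
  simp

theorem DefLe.of_isConj_left {p : ℕ} {h h' g : G} (hc : IsConj h h') (hd : DefLe p h g) :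
    DefLe p h' g := by
  intro P hP hPc
  obtain ⟨x, hx⟩ := isConj_iff.mp hc
  -- x * h * x⁻¹ = h'
  let Q : Subgroup G := P.map (MulAut.conj x⁻¹).toMonoidHom
  have hQ : IsPGroup p Q := hP.map _
  have hQc : Q ≤ Subgroup.centralizer ({h} : Set G) := by
    rintro y ⟨w, hw, rfl⟩
    have h1 := mem_centralizer_singleton_iff.mp (hPc hw)
    rw [mem_centralizer_singleton_iff]
    simp only [MulEquiv.coe_toMonoidHom, MulAut.conj_apply, inv_inv]
    rw [← hx] at h1
    calc h * (x⁻¹ * w * x) = x⁻¹ * ((x * h * x⁻¹) * w) * x := by group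
      _ = x⁻¹ * (w * (x * h * x⁻¹)) * x := by rw [h1]
      _ = x⁻¹ * w * x * h := by group
  obtain ⟨g', hg', hQ'⟩ := hd Q hQ hQc
  refine ⟨x * g' * x⁻¹, hg'.trans (isConj_iff.mpr ⟨x, rfl⟩), ?_⟩
  intro w hw
  have h2 : x⁻¹ * w * x ∈ Q := ⟨w, hw, by simp⟩
  have h3 := mem_centralizer_singleton_iff.mp (hQ' h2)
  rw [mem_centralizer_singleton_iff]
  calc x * g' * x⁻¹ * w = x * (g' * (x⁻¹ * w * x)) * x⁻¹ := by group
    _ = x * ((x⁻¹ * w * x) * g') * x⁻¹ := by rw [h3]
    _ = w * (x * g' * x⁻¹) := by group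

theorem DefLe.trans {p : ℕ} {a b c : G} (h1 : DefLe p a b) (h2 : DefLe p b c) : DefLe p a c := by
  intro P hP hPc
  obtain ⟨b', hb', hPb'⟩ := h1 P hP hPc
  exact (h2.of_isConj_left hb') P hP hPb'

/-- the number of factorizations of `n` through the classes of `g₁`, `g₂` -/
noncomputable def pairCount (g₁ g₂ n : G) : ℕ :=
  Nat.card {xy : G × G // IsConj g₁ xy.1 ∧ IsConj g₂ xy.2 ∧ xy.1 * xy.2 = n}

theorem defLe_of_pairCount_not_dvd [Finite G] {p : ℕ} [Fact p.Prime] {g₁ g₂ n : G}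
    (h : ¬ p ∣ pairCount g₁ g₂ n) : DefLe p n g₁ := by
  intro P hP hPc
  have hn : n ∈ Subgroup.centralizer (P : Set G) := by
    rw [Subgroup.mem_centralizer_iff]
    intro w hw
    have := mem_centralizer_singleton_iff.mp (hPc hw)
    exact this.symm
  have hmod := Cfsg.Agent.S0903.result p P hP n hn g₁ g₂
  have hne : Nat.card {xy : G × G // IsConj g₁ xy.1 ∧ IsConj g₂ xy.2 ∧ xy.1 * xy.2 = n ∧
      xy.1 ∈ Subgroup.centralizer (P : Set G) ∧ xy.2 ∈ Subgroup.centralizer (P : Set G)} ≠ 0 := by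
    intro h0
    rw [h0] at hmod
    exact h ((Nat.modEq_zero_iff_dvd).mp hmod)
  have hnonempty := (Nat.card_ne_zero.mp hne).1
  obtain ⟨⟨xy, h1, _, _, h4, _⟩⟩ := hnonempty
  refine ⟨xy.1, h1, ?_⟩
  intro w hw
  rw [mem_centralizer_singleton_iff]
  exact (Subgroup.mem_centralizer_iff.mp h4 w hw).symm

end defle

section ideal

variable {G : Type*} [Group G] [Fintype G] [DecidableEq G]
variable {p : ℕ} {M : Ideal Cfsg.AlgInt}

/-- the support of `Z` modulo the local ideal consists of elements of defect at most that of `h` -/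
def SuppLe (M : Ideal Cfsg.AlgInt) (p : ℕ) (h : G) (Z : Matrix G G ℂ) : Prop :=
  ∀ n : G, ¬ Cfsg.MemLocalIdeal M (Z n 1) → DefLe p n h

theorem SuppLe.add (hM : Cfsg.IsPModular p M) {h : G} {Z Z' : Matrix G G ℂ}
    (hZ : SuppLe M p h Z) (hZ' : SuppLe M p h Z') : SuppLe M p h (Z + Z') := by
  intro n hn
  rw [Matrix.add_apply] at hn
  by_cases h1 : Cfsg.MemLocalIdeal M (Z n 1)
  · by_cases h2 : Cfsg.MemLocalIdeal M (Z' n 1)
    · exact absurd (MemLocalIdeal.add hM h1 h2) hn
    · exact hZ' n h2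
  · exact hZ n h1

theorem SuppLe.neg {h : G} {Z : Matrix G G ℂ} (hZ : SuppLe M p h Z) : SuppLe M p h (-Z) := by
  intro n hn
  apply hZ n
  intro h1
  apply hn
  rw [Matrix.neg_apply]
  exact MemLocalIdeal.neg h1

theorem SuppLe.sub (hM : Cfsg.IsPModular p M) {h : G} {Z Z' : Matrix G G ℂ}
    (hZ : SuppLe M p h Z) (hZ' : SuppLe M p h Z') : SuppLe M p h (Z - Z') := by
  rw [sub_eq_add_neg]
  exact hZ.add hM hZ'.neg

theorem SuppLe.smul (hM : Cfsg.IsPModular p M) {h : G} {Z : Matrix G G ℂ}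
    (hZ : SuppLe M p h Z) {c : ℂ} (hc : Cfsg.MemLocalRing M c) : SuppLe M p h (c • Z) := by
  intro n hn
  apply hZ n
  intro h1
  apply hn
  rw [Matrix.smul_apply, smul_eq_mul]
  exact MemLocalIdeal.mul_left hM hc h1

theorem suppLe_classInd (hM : Cfsg.IsPModular p M) (h : G) :
    SuppLe M p h (regMat (classInd h)) := by
  classical
  intro n hn
  rw [regMat_apply, inv_one, mul_one] at hn
  unfold classInd at hn
  split_ifs at hn with hc
  · exact (defLe_refl p h).of_isConj_left hc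
  · exact absurd (memLocalIdeal_zero hM) hn

/-- the fibre of the convolution sum over a pair of classes -/
theorem card_fiber_eq_pairCount (g₁ g₂ n : G) :
    (Finset.univ.filter (fun k : G => IsConj g₁ (n * k⁻¹) ∧ IsConj g₂ k)).card
      = pairCount g₁ g₂ n := by
  classical
  unfold pairCount
  rw [Nat.card_eq_fintype_card, ← Fintype.card_coe]
  apply Fintype.card_congr
  refine
    { toFun := fun k => ⟨(n * k.1⁻¹, k.1), ?_, ?_, ?_⟩
      invFun := fun xy => ⟨xy.1.2, ?_⟩
      left_inv := fun k => rfl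
      right_inv := ?_ }
  · have := (Finset.mem_filter.mp k.2).2
    exact this.1
  · have := (Finset.mem_filter.mp k.2).2
    exact this.2
  · simp
  · rw [Finset.mem_filter]
    refine ⟨Finset.mem_univ _, ?_, xy.2.2.1⟩
    have h3 := xy.2.2.2
    have : n * xy.1.2⁻¹ = xy.1.1 := (eq_mul_inv_of_mul_eq h3).symm
    rw [this]
    exact xy.2.1
  · intro xy
    apply Subtype.ext
    apply Prod.ext
    · have h3 := xy.2.2.2
      change n * xy.1.2⁻¹ = xy.1.1
      exact (eq_mul_inv_of_mul_eq h3).symm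
    · rfl

theorem SuppLe.mul (hM : Cfsg.IsPModular p M) [Fact p.Prime] {h : G} {Z Y : Matrix G G ℂ}
    (hZc : Z ∈ centerAlg G) (hZs : Z ∈ sMat hM G) (hZ : SuppLe M p h Z)
    (hYc : Y ∈ centerAlg G) (hYs : Y ∈ sMat hM G) : SuppLe M p h (Z * Y) := by
  classical
  have : Fintype (ConjClasses G) := Fintype.ofFinite _
  intro n hn
  by_contra hnot
  apply hn
  have hzcf := isClassFunction_iff_isConj.mp (isClassFunction_of_mem_centerAlg hZc)
  have hycf := isClassFunction_iff_isConj.mp (isClassFunction_of_mem_centerAlg hYc)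
  have h1 : (Z * Y) n 1 = ∑ k : G, Z (n * k⁻¹) 1 * Y k 1 := by
    rw [Matrix.mul_apply]
    apply Finset.sum_congr rfl
    intro k _
    rw [hZc.1.apply_eq n k]
  rw [h1]
  rw [← Finset.sum_fiberwise (Finset.univ : Finset G)
    (fun k => ((ConjClasses.mk (n * k⁻¹), ConjClasses.mk k) : ConjClasses G × ConjClasses G))
    (fun k => Z (n * k⁻¹) 1 * Y k 1)]
  apply MemLocalIdeal.sum hM
  rintro ⟨c₁, c₂⟩ _
  have hfib : ∀ k ∈ Finset.univ.filter (fun k : G =>
      ((ConjClasses.mk (n * k⁻¹), ConjClasses.mk k) : ConjClasses G × ConjClasses G) = (c₁, c₂)),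
      Z (n * k⁻¹) 1 * Y k 1 = Z (Quotient.out c₁) 1 * Y (Quotient.out c₂) 1 := by
    intro k hk
    have hk' := (Finset.mem_filter.mp hk).2
    have e1 : ConjClasses.mk (n * k⁻¹) = c₁ := (Prod.ext_iff.mp hk').1
    have e2 : ConjClasses.mk k = c₂ := (Prod.ext_iff.mp hk').2
    have o1 : ConjClasses.mk (Quotient.out c₁) = c₁ := Quotient.out_eq c₁
    have o2 : ConjClasses.mk (Quotient.out c₂) = c₂ := Quotient.out_eq c₂
    have i1 : IsConj (n * k⁻¹) (Quotient.out c₁) := by
      rw [← ConjClasses.mk_eq_mk_iff_isConj, e1, o1]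
    have i2 : IsConj k (Quotient.out c₂) := by
      rw [← ConjClasses.mk_eq_mk_iff_isConj, e2, o2]
    have a1 : Z (n * k⁻¹) 1 = Z (Quotient.out c₁) 1 := hzcf _ _ i1
    have a2 : Y k 1 = Y (Quotient.out c₂) 1 := hycf _ _ i2
    rw [a1, a2]
  rw [Finset.sum_congr rfl hfib, Finset.sum_const, nsmul_eq_mul]
  have hfilter : (Finset.univ.filter (fun k : G =>
      ((ConjClasses.mk (n * k⁻¹), ConjClasses.mk k) : ConjClasses G × ConjClasses G) = (c₁, c₂)))
      = Finset.univ.filter (fun k : G => IsConj (Quotient.out c₁) (n * k⁻¹)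
          ∧ IsConj (Quotient.out c₂) k) := by
    ext k
    simp only [Finset.mem_filter, Finset.mem_univ, true_and, Prod.ext_iff]
    have o1 : ConjClasses.mk (Quotient.out c₁) = c₁ := Quotient.out_eq c₁
    have o2 : ConjClasses.mk (Quotient.out c₂) = c₂ := Quotient.out_eq c₂
    constructor
    · rintro ⟨e1, e2⟩
      constructor
      · rw [← ConjClasses.mk_eq_mk_iff_isConj, o1, e1]
      · rw [← ConjClasses.mk_eq_mk_iff_isConj, o2, e2]
    · rintro ⟨i1, i2⟩
      constructor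
      · rw [← o1]; exact (ConjClasses.mk_eq_mk_iff_isConj.mpr i1).symm
      · rw [← o2]; exact (ConjClasses.mk_eq_mk_iff_isConj.mpr i2).symm
  rw [hfilter, card_fiber_eq_pairCount]
  by_cases hz : Cfsg.MemLocalIdeal M (Z (Quotient.out c₁) 1)
  · apply MemLocalIdeal.mul_left hM (memLocalRing_natCast hM _)
    exact MemLocalIdeal.mul_right hM hz (hYs _ _)
  · have hd1 : DefLe p (Quotient.out c₁) h := hZ _ hz
    have hdvd : p ∣ pairCount (Quotient.out c₁) (Quotient.out c₂) n := by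
      by_contra hnd
      exact hnot ((defLe_of_pairCount_not_dvd hnd).trans hd1)
    apply MemLocalIdeal.mul_right hM ((memLocalIdeal_natCast_iff hM _).mpr hdvd)
    exact MemLocalRing.mul hM (hZs _ _) (hYs _ _)

end ideal

end Cfsg.Agent.Lib.Helper6
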