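import Mathlib
import Cfsg.Prelude.Def_Blocks
import Cfsg.Agent.Lib.Helper6.BlkDefLe
import Cfsg.Agent.Lib.Helper6.BlkOrth2

set_option autoImplicit false
set_option linter.unusedSectionVars false
open Cfsg

namespace Cfsg.Agent.Lib.Helper6

section

variable {G : Type*} [Group G] [Fintype G] [DecidableEq G]
variable {p : ℕ} {M : Ideal Cfsg.AlgInt}

theorem centerAlg_comm {X Y : Matrix G G ℂ} (hX : X ∈ centerAlg G) (hY : Y ∈ centerAlg G) :
    X * Y = Y * X := by
  apply eq_of_cOmega_eq ((centerAlg G).mul_mem hX hY) ((centerAlg G).mul_mem hY hX)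
  intro θ
  rw [cOmega_mul θ.2 hX hY.1, cOmega_mul θ.2 hY hX.1, mul_comm]

theorem blockMat_pow (B : Set (Cfsg.IrrCharacter G)) (k : ℕ) (hk : 0 < k) :
    blockMat B ^ k = blockMat B := by
  induction k with
  | zero => omega
  | succ k ih =>
    by_cases hk0 : k = 0
    · rw [hk0]; simp
    · rw [pow_succ, ih (Nat.pos_of_ne_zero hk0), blockMat_idem]

theorem suppLe_zero (hM : Cfsg.IsPModular p M) (h : G) : SuppLe M p h (0 : Matrix G G ℂ) := by
  intro n hn
  exact absurd (memLocalIdeal_zero hM) hn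

/-- members of a block have congruent central characters -/
theorem centralChar_sub_memLocalIdeal_of_mem_block (hM : Cfsg.IsPModular p M)
    (χ₀ θ χ₁ : Cfsg.IrrCharacter G) (hθ : θ ∈ Cfsg.blockOf M (χ₀ : G → ℂ))
    (hχ₁ : χ₁ ∈ Cfsg.blockOf M (χ₀ : G → ℂ)) (g : G) :
    Cfsg.MemLocalIdeal M (Cfsg.centralChar (θ : G → ℂ) g - Cfsg.centralChar (χ₁ : G → ℂ) g) := by
  have h1 : Cfsg.SameBlock M (χ₀ : G → ℂ) (θ : G → ℂ) := hθ
  have h2 : Cfsg.SameBlock M (χ₀ : G → ℂ) (χ₁ : G → ℂ) := hχ₁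
  exact (SameBlock.trans' hM (SameBlock.symm' h1) h2) g

/-- the core of the min-max theorem -/
theorem minmax_core (hM : Cfsg.IsPModular p M) [Fact p.Prime] (χ₀ : Cfsg.IrrCharacter G) (h : G)
    (hh : ∃ χ ∈ Cfsg.blockOf M (χ₀ : G → ℂ),
      ¬ Cfsg.MemLocalIdeal M (Cfsg.centralChar (χ : G → ℂ) h))
    (n : G) (hn : ¬ Cfsg.MemLocalIdeal M (Cfsg.blockCoeff (Cfsg.blockOf M (χ₀ : G → ℂ)) n)) :
    DefLe p n h := by
  classical
  have : Fintype (Cfsg.IrrCharacter G) := Fintype.ofFinite _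
  set B := Cfsg.blockOf M (χ₀ : G → ℂ) with hB
  obtain ⟨χ₁, hχ₁B, hχ₁⟩ := hh
  have hωS : ∀ (θ : Cfsg.IrrCharacter G) (x : G),
      Cfsg.MemLocalRing M (Cfsg.centralChar (θ : G → ℂ) x) :=
    fun θ x => memLocalRing_of_isIntegral hM (IsIrrCharacter.isIntegral_centralChar' θ.2 x)
  have hωh : ∀ θ : Cfsg.IrrCharacter G, θ ∈ B →
      ¬ Cfsg.MemLocalIdeal M (Cfsg.centralChar (θ : G → ℂ) h) := by
    intro θ hθ hcon
    apply hχ₁
    have h1 := centralChar_sub_memLocalIdeal_of_mem_block hM χ₀ θ χ₁ hθ hχ₁B h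
    have h2 := MemLocalIdeal.sub hM hcon h1
    rw [sub_sub_cancel] at h2
    exact h2
  set E := blockMat B with hE
  have hEc : E ∈ centerAlg G := blockMat_mem_centerAlg B
  have hEs : E ∈ sMat hM G := blockMat_mem_sMat hM χ₀
  set Kh := regMat (classInd h) with hKh
  have hKc : Kh ∈ centerAlg G := regMat_mem_centerAlg (classInd_isClassFunction h)
  have hKs : Kh ∈ sMat hM G := classInd_mem_sMat hM h
  set x := Kh * E with hx
  have hxc : x ∈ centerAlg G := (centerAlg G).mul_mem hKc hEc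
  have hxs : x ∈ sMat hM G := (sMat hM G).mul_mem hKs hEs
  have hxI : SuppLe M p h x := SuppLe.mul hM hKc hKs (suppLe_classInd hM h) hEc hEs
  have hxω : ∀ θ : Cfsg.IrrCharacter G, cOmega (θ : G → ℂ) x
      = Cfsg.centralChar (θ : G → ℂ) h * (if θ ∈ B then 1 else 0) := by
    intro θ
    rw [hx, cOmega_mul θ.2 hKc hEc.1, cOmega_classInd _ (IsIrrCharacter.isClassFunction θ.2),
      cOmega_blockMat]
  let c : Cfsg.IrrCharacter G → ℂ := fun θ => (cOmega (θ : G → ℂ) x)⁻¹
  have hcS : ∀ θ : Cfsg.IrrCharacter G, θ ∈ B → Cfsg.MemLocalRing M (c θ) := by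
    intro θ hθ
    simp only [c]
    rw [hxω, if_pos hθ, mul_one]
    exact MemLocalRing.inv (hωS θ h) (hωh θ hθ)
  let f : Cfsg.IrrCharacter G → Matrix G G ℂ := fun θ => E - c θ • x
  let sIn : Finset (Cfsg.IrrCharacter G) := Finset.univ.filter (· ∈ B)
  have hfc : ∀ θ, f θ ∈ centerAlg G := fun θ =>
    (centerAlg G).sub_mem hEc ((centerAlg G).smul_mem hxc _)
  -- Claim A
  have hA : (sIn.toList.map f).prod = 0 := by
    have hpc : (sIn.toList.map f).prod ∈ centerAlg G := by
      apply (centerAlg G).list_prod_mem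
      intro X hX
      obtain ⟨θ, _, rfl⟩ := List.mem_map.mp hX
      exact hfc θ
    apply eq_of_cOmega_eq hpc (centerAlg G).zero_mem
    intro ψ
    rw [cOmega_list_prod ψ.2 _ (by
      intro X hX
      obtain ⟨θ, _, rfl⟩ := List.mem_map.mp hX
      exact hfc θ)]
    rw [List.map_map, Finset.prod_map_toList]
    have hz : cOmega (ψ : G → ℂ) (0 : Matrix G G ℂ) = 0 := by
      unfold cOmega; simp
    rw [hz]
    by_cases hψ : ψ ∈ B
    · apply Finset.prod_eq_zero (i := ψ)
      · simp [sIn, hψ]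
      · simp only [Function.comp, f]
        rw [cOmega_sub, cOmega_smul, cOmega_blockMat, if_pos hψ]
        simp only [c]
        have h0 : cOmega (ψ : G → ℂ) x ≠ 0 := by
          rw [hxω, if_pos hψ, mul_one]
          exact ne_zero_of_not_memLocalIdeal hM (hωh ψ hψ)
        rw [inv_mul_cancel₀ h0, sub_self]
    · apply Finset.prod_eq_zero (i := χ₀)
      · simp only [sIn, Finset.mem_filter, Finset.mem_univ, true_and]
        exact sameBlock_refl hM _
      · simp only [Function.comp, f]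
        rw [cOmega_sub, cOmega_smul, cOmega_blockMat, if_neg hψ, hxω, if_neg hψ]
        simp
  -- Claim B
  have hBclaim : ∀ l : List (Cfsg.IrrCharacter G), (∀ θ ∈ l, θ ∈ B) →
      ∃ i : Matrix G G ℂ, i ∈ centerAlg G ∧ i ∈ sMat hM G ∧ SuppLe M p h i ∧
        (l.map f).prod = E ^ l.length - i := by
    intro l
    induction l with
    | nil =>
      intro _
      exact ⟨0, (centerAlg G).zero_mem, (sMat hM G).zero_mem, suppLe_zero hM h, by simp⟩
    | cons θ l ih =>
      intro hl
      obtain ⟨i, hic, his, hiI, hi⟩ := ih (fun θ' hθ' => hl θ' (List.mem_cons_of_mem _ hθ'))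
      have hθB : θ ∈ B := hl θ List.mem_cons_self
      set j := c θ • x with hj
      have hjc : j ∈ centerAlg G := (centerAlg G).smul_mem hxc _
      have hjs : j ∈ sMat hM G := smul_mem_sMat hM (hcS θ hθB) hxs
      have hjI : SuppLe M p h j := hxI.smul hM (hcS θ hθB)
      have hEk : E ^ l.length ∈ centerAlg G := (centerAlg G).pow_mem hEc _
      have hEks : E ^ l.length ∈ sMat hM G := (sMat hM G).pow_mem hEs _
      refine ⟨i * E + j * E ^ l.length - j * i, ?_, ?_, ?_, ?_⟩
      · exact (centerAlg G).sub_mem ((centerAlg G).add_mem ((centerAlg G).mul_mem hic hEc)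
          ((centerAlg G).mul_mem hjc hEk)) ((centerAlg G).mul_mem hjc hic)
      · exact (sMat hM G).sub_mem ((sMat hM G).add_mem ((sMat hM G).mul_mem his hEs)
          ((sMat hM G).mul_mem hjs hEks)) ((sMat hM G).mul_mem hjs his)
      · exact ((SuppLe.mul hM hic his hiI hEc hEs).add hM
          (SuppLe.mul hM hjc hjs hjI hEk hEks)).sub hM (SuppLe.mul hM hjc hjs hjI hic his)
      · rw [List.map_cons, List.prod_cons, hi, List.length_cons, pow_succ']
        change (E - j) * (E ^ l.length - i) = _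
        have hcomm : E * i = i * E := centerAlg_comm hEc hic
        rw [sub_mul, mul_sub, mul_sub, hcomm]
        abel
  have hlen : 0 < sIn.toList.length := by
    rw [Finset.length_toList]
    apply Finset.card_pos.mpr
    refine ⟨χ₀, ?_⟩
    simp only [sIn, Finset.mem_filter, Finset.mem_univ, true_and]
    exact sameBlock_refl hM _
  obtain ⟨i, _, _, hiI, hi⟩ := hBclaim sIn.toList (by
    intro θ hθ
    have := Finset.mem_toList.mp hθ
    simpa [sIn] using this)
  rw [hA, blockMat_pow B _ hlen] at hi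
  have hEi : E = i := (sub_eq_zero.mp hi.symm)
  rw [← hEi] at hiI
  apply hiI n
  have : E n 1 = Cfsg.blockCoeff B n := by
    rw [hE]
    unfold blockMat
    rw [regMat_apply, inv_one, mul_one]
  rw [this]
  exact hn

end

end Cfsg.Agent.Lib.Helper6
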