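import Mathlib
import Cfsg.Prelude.Def_Blocks
import Cfsg.Agent.Lib.Helper6.BlkMinMax

set_option autoImplicit false
set_option linter.unusedSectionVars false
open Cfsg

namespace Cfsg.Agent.Lib.Helper6

section

variable {G : Type*} [Group G]

theorem sylow_map_isPGroup {p : ℕ} {H : Subgroup G} (Q : Sylow p H) :
    IsPGroup p ((Q : Subgroup H).map H.subtype) := Q.2.map _

theorem sylow_map_le {p : ℕ} {H : Subgroup G} (Q : Sylow p H) :
    (Q : Subgroup H).map H.subtype ≤ H := by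
  rintro _ ⟨w, _, rfl⟩
  exact w.2

theorem exists_sylow_map_ge {p : ℕ} {H : Subgroup G} {P : Subgroup G} (hP : IsPGroup p P)
    (hPH : P ≤ H) : ∃ Q : Sylow p H, P ≤ (Q : Subgroup H).map H.subtype := by
  have h1 : IsPGroup p (P.subgroupOf H) := by
    rw [← Subgroup.comap_subtype]
    exact hP.comap_subtype
  obtain ⟨Q, hQ⟩ := h1.exists_le_sylow
  refine ⟨Q, ?_⟩
  rw [← Subgroup.map_subgroupOf_eq_of_le hPH]
  exact Subgroup.map_mono hQ

theorem sylow_map_conj [Finite G] {p : ℕ} [Fact p.Prime] {H : Subgroup G} (Q R : Sylow p H) :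
    ∃ c ∈ H, (R : Subgroup H).map H.subtype
      = ((Q : Subgroup H).map H.subtype).map (MulAut.conj c).toMonoidHom := by
  obtain ⟨c, hc⟩ := MulAction.exists_smul_eq H Q R
  refine ⟨c, c.2, ?_⟩
  rw [← hc]
  ext y
  constructor
  · rintro ⟨w, hw, rfl⟩
    rw [Sylow.coe_subgroup_smul] at hw
    obtain ⟨q, hq, rfl⟩ := hw
    refine ⟨(q : G), ⟨q, hq, rfl⟩, ?_⟩
    simp [MulAut.conj_apply]
  · rintro ⟨d, ⟨q, hq, rfl⟩, rfl⟩
    refine ⟨c * q * c⁻¹, ?_, by simp [MulAut.conj_apply]⟩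
    rw [Sylow.coe_subgroup_smul]
    exact ⟨q, hq, by simp [MulAut.conj_apply]⟩

/-- `DefLe` in terms of Sylow subgroups of centralizers, upper form -/
theorem DefLe.exists_sylow_le [Finite G] {p : ℕ} [Fact p.Prime] {h g : G} (hd : DefLe p h g)
    (D : Sylow p (Subgroup.centralizer ({g} : Set G))) :
    ∃ (x : G) (Q : Sylow p (Subgroup.centralizer ({h} : Set G))),
      (Q : Subgroup (Subgroup.centralizer ({h} : Set G))).map
          (Subgroup.centralizer ({h} : Set G)).subtype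
        ≤ ((D : Subgroup (Subgroup.centralizer ({g} : Set G))).map
          (Subgroup.centralizer ({g} : Set G)).subtype).map (MulAut.conj x).toMonoidHom := by
  have Q₀ : Sylow p (Subgroup.centralizer ({h} : Set G)) := default
  obtain ⟨g', hg', hP'⟩ := hd _ (sylow_map_isPGroup Q₀) (sylow_map_le Q₀)
  obtain ⟨y, hy⟩ := isConj_iff.mp hg'
  -- y * g * y⁻¹ = g'
  set P := (Q₀ : Subgroup (Subgroup.centralizer ({h} : Set G))).map
    (Subgroup.centralizer ({h} : Set G)).subtype with hPdef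
  let P' : Subgroup G := P.map (MulAut.conj y⁻¹).toMonoidHom
  have hP'p : IsPGroup p P' := (sylow_map_isPGroup Q₀).map _
  have hP'c : P' ≤ Subgroup.centralizer ({g} : Set G) := by
    rintro z ⟨w, hw, rfl⟩
    have h1 := mem_centralizer_singleton_iff.mp (hP' hw)
    rw [mem_centralizer_singleton_iff]
    simp only [MulEquiv.coe_toMonoidHom, MulAut.conj_apply, inv_inv]
    rw [← hy] at h1
    calc g * (y⁻¹ * w * y) = y⁻¹ * ((y * g * y⁻¹) * w) * y := by group
      _ = y⁻¹ * (w * (y * g * y⁻¹)) * y := by rw [h1]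
      _ = y⁻¹ * w * y * g := by group
  obtain ⟨R, hR⟩ := exists_sylow_map_ge hP'p hP'c
  obtain ⟨c, _, hc⟩ := sylow_map_conj D R
  refine ⟨y * c, Q₀, ?_⟩
  intro w hw
  have h2 : y⁻¹ * w * y ∈ P' := ⟨w, hw, by simp [MulAut.conj_apply]⟩
  have h3 := hR h2
  rw [hc] at h3
  obtain ⟨d, hd', hd2⟩ := h3
  refine ⟨d, hd', ?_⟩
  simp only [MulEquiv.coe_toMonoidHom, MulAut.conj_apply] at hd2 ⊢
  calc y * c * d * (y * c)⁻¹ = y * (c * d * c⁻¹) * y⁻¹ := by group
    _ = y * (y⁻¹ * w * y) * y⁻¹ := by rw [hd2]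
    _ = w := by group

/-- `DefLe` in terms of Sylow subgroups of centralizers, lower form -/
theorem DefLe.exists_le_sylow {p : ℕ} {g h : G} (hd : DefLe p g h)
    (D : Sylow p (Subgroup.centralizer ({g} : Set G))) :
    ∃ (x : G) (Q : Sylow p (Subgroup.centralizer ({h} : Set G))),
      ((D : Subgroup (Subgroup.centralizer ({g} : Set G))).map
          (Subgroup.centralizer ({g} : Set G)).subtype).map (MulAut.conj x).toMonoidHom
        ≤ (Q : Subgroup (Subgroup.centralizer ({h} : Set G))).map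
          (Subgroup.centralizer ({h} : Set G)).subtype := by
  obtain ⟨h', hh', hP'⟩ := hd _ (sylow_map_isPGroup D) (sylow_map_le D)
  obtain ⟨y, hy⟩ := isConj_iff.mp hh'
  set P := (D : Subgroup (Subgroup.centralizer ({g} : Set G))).map
    (Subgroup.centralizer ({g} : Set G)).subtype with hPdef
  let P' : Subgroup G := P.map (MulAut.conj y⁻¹).toMonoidHom
  have hP'p : IsPGroup p P' := (sylow_map_isPGroup D).map _
  have hP'c : P' ≤ Subgroup.centralizer ({h} : Set G) := by
    rintro z ⟨w, hw, rfl⟩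
    have h1 := mem_centralizer_singleton_iff.mp (hP' hw)
    rw [mem_centralizer_singleton_iff]
    simp only [MulEquiv.coe_toMonoidHom, MulAut.conj_apply, inv_inv]
    rw [← hy] at h1
    calc h * (y⁻¹ * w * y) = y⁻¹ * ((y * h * y⁻¹) * w) * y := by group
      _ = y⁻¹ * (w * (y * h * y⁻¹)) * y := by rw [h1]
      _ = y⁻¹ * w * y * h := by group
  obtain ⟨Q, hQ⟩ := exists_sylow_map_ge hP'p hP'c
  exact ⟨y⁻¹, Q, hQ⟩

end

section

variable {G : Type*} [Group G] [Fintype G] [DecidableEq G]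
variable {p : ℕ} {M : Ideal Cfsg.AlgInt}

/-- the min-max theorem for defect classes -/
theorem minmax (hM : Cfsg.IsPModular p M) [Fact p.Prime] (χ₀ : Cfsg.IrrCharacter G) (g : G)
    (hg : Cfsg.IsDefectClass M (Cfsg.blockOf M (χ₀ : G → ℂ)) g)
    (D : Sylow p (Subgroup.centralizer ({g} : Set G))) (h : G) :
    (Cfsg.MemLocalRing M (Cfsg.blockCoeff (Cfsg.blockOf M (χ₀ : G → ℂ)) h) →
      ¬ Cfsg.MemLocalIdeal M (Cfsg.blockCoeff (Cfsg.blockOf M (χ₀ : G → ℂ)) h) →
      ∃ (x : G) (Q : Sylow p (Subgroup.centralizer ({h} : Set G))),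
        (Q : Subgroup (Subgroup.centralizer ({h} : Set G))).map
            (Subgroup.centralizer ({h} : Set G)).subtype
          ≤ ((D : Subgroup (Subgroup.centralizer ({g} : Set G))).map
            (Subgroup.centralizer ({g} : Set G)).subtype).map (MulAut.conj x).toMonoidHom) ∧
    ((∃ χ ∈ Cfsg.blockOf M (χ₀ : G → ℂ),
        ¬ Cfsg.MemLocalIdeal M (Cfsg.centralChar (χ : G → ℂ) h)) →
      ∃ (x : G) (Q : Sylow p (Subgroup.centralizer ({h} : Set G))),
        ((D : Subgroup (Subgroup.centralizer ({g} : Set G))).map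
            (Subgroup.centralizer ({g} : Set G)).subtype).map (MulAut.conj x).toMonoidHom
          ≤ (Q : Subgroup (Subgroup.centralizer ({h} : Set G))).map
            (Subgroup.centralizer ({h} : Set G)).subtype) := by
  have hχ₀ : χ₀ ∈ Cfsg.blockOf M (χ₀ : G → ℂ) := sameBlock_refl hM _
  constructor
  · intro _ h2
    have hd : DefLe p h g := minmax_core hM χ₀ g ⟨χ₀, hχ₀, hg.2.2 χ₀ hχ₀⟩ h h2
    exact hd.exists_sylow_le D
  · intro h1
    have hd : DefLe p g h := minmax_core hM χ₀ h h1 g hg.2.1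
    exact hd.exists_le_sylow D

end

end Cfsg.Agent.Lib.Helper6
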