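import Mathlib
import Cfsg.Prelude.Def_Blocks
import Cfsg.Agent.Lib.Helper6.BlkCover2
import Cfsg.Agent.Lib.Helper6.BlkMinMax2

set_option autoImplicit false
set_option linter.unusedSectionVars false
open Cfsg

namespace Cfsg.Agent.Lib.Helper6

open scoped ComplexConjugate

section

variable {G : Type*} [Group G] [Fintype G] [DecidableEq G]
variable {p : ℕ} {M : Ideal Cfsg.AlgInt}

theorem blockCoeff_isClassFunction (B : Set (Cfsg.IrrCharacter G)) :
    Cfsg.IsClassFunction G (Cfsg.blockCoeff B) := by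
  have h := isClassFunction_of_mem_centerAlg (blockMat_mem_centerAlg B)
  intro g x
  have := h g x
  unfold blockMat at this
  simp only [regMat_apply, inv_one, mul_one] at this
  exact this

theorem blockCoeff_eq_of_isConj (B : Set (Cfsg.IrrCharacter G)) {g g' : G} (h : IsConj g g') :
    Cfsg.blockCoeff B g' = Cfsg.blockCoeff B g := by
  obtain ⟨c, hc⟩ := isConj_iff.mp h
  rw [← hc]
  exact blockCoeff_isClassFunction B g c

theorem centralChar_eq_of_isConj {χ : G → ℂ} (hχ : Cfsg.IsClassFunction G χ) {g g' : G}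
    (h : IsConj g g') : Cfsg.centralChar χ g' = Cfsg.centralChar χ g := by
  obtain ⟨c, hc⟩ := isConj_iff.mp h
  have h1 := centralChar_comp_equiv (MulAut.conj c) χ g
  have h2 : (fun m => χ (MulAut.conj c m)) = χ := by
    funext m
    rw [MulAut.conj_apply]
    exact hχ m c
  rw [h2, MulAut.conj_apply, hc] at h1
  exact h1.symm

theorem IsDefectClass.of_isConj {B : Set (Cfsg.IrrCharacter G)} {g g' : G}
    (hg : Cfsg.IsDefectClass M B g) (h : IsConj g g') : Cfsg.IsDefectClass M B g' := by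
  obtain ⟨h1, h2, h3⟩ := hg
  refine ⟨?_, ?_, ?_⟩
  · rw [blockCoeff_eq_of_isConj B h]; exact h1
  · rw [blockCoeff_eq_of_isConj B h]; exact h2
  · intro χ hχ
    rw [centralChar_eq_of_isConj (IsIrrCharacter.isClassFunction χ.2) h]
    exact h3 χ hχ

/-- any `p`-subgroup centralizing an element `n` with `a_B(n)` a unit lies in a defect group -/
theorem exists_defectGroup_ge_of_blockCoeff (hM : Cfsg.IsPModular p M) [Fact p.Prime]
    (χ₀ : Cfsg.IrrCharacter G) (n : G)
    (hn : ¬ Cfsg.MemLocalIdeal M (Cfsg.blockCoeff (Cfsg.blockOf M (χ₀ : G → ℂ)) n))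
    (Q : Subgroup G) (hQ : IsPGroup p Q) (hQn : Q ≤ Subgroup.centralizer ({n} : Set G)) :
    ∃ E : Subgroup G, Cfsg.IsDefectGroup p M (Cfsg.blockOf M (χ₀ : G → ℂ)) E ∧ Q ≤ E := by
  obtain ⟨g, hg⟩ := exists_isDefectClass hM χ₀
  have hχ₀B : χ₀ ∈ Cfsg.blockOf M (χ₀ : G → ℂ) := sameBlock_refl hM _
  have hd : DefLe p n g := minmax_core hM χ₀ g ⟨χ₀, hχ₀B, hg.2.2 χ₀ hχ₀B⟩ n hn
  obtain ⟨g', hgg', hQg'⟩ := hd Q hQ hQn
  have hg' : Cfsg.IsDefectClass M (Cfsg.blockOf M (χ₀ : G → ℂ)) g' := IsDefectClass.of_isConj hg hgg'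
  obtain ⟨S, hS⟩ := exists_sylow_map_ge hQ hQg'
  exact ⟨_, ⟨g', hg', S, rfl⟩, hS⟩

/-- any defect group is contained, up to conjugacy, in the centralizer of an element `h`
with `ω_χ(h)` a unit -/
theorem exists_conj_centralizer_ge_of_centralChar (hM : Cfsg.IsPModular p M) [Fact p.Prime]
    (χ₀ : Cfsg.IrrCharacter G) (h : G)
    (hh : ¬ Cfsg.MemLocalIdeal M (Cfsg.centralChar (χ₀ : G → ℂ) h))
    (D : Subgroup G) (hD : Cfsg.IsDefectGroup p M (Cfsg.blockOf M (χ₀ : G → ℂ)) D) :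
    ∃ h' : G, IsConj h h' ∧ D ≤ Subgroup.centralizer ({h'} : Set G) := by
  obtain ⟨y, hy, P, rfl⟩ := hD
  have hχ₀B : χ₀ ∈ Cfsg.blockOf M (χ₀ : G → ℂ) := sameBlock_refl hM _
  have hd : DefLe p y h := minmax_core hM χ₀ h ⟨χ₀, hχ₀B, hh⟩ y hy.2.1
  exact hd _ (sylow_map_isPGroup P) (sylow_map_le P)

end

section

variable {G : Type*} [Group G] [Fintype G] [DecidableEq G]
variable {p : ℕ} {M : Ideal Cfsg.AlgInt}
variable (H : Subgroup G) [Fintype H]

/-- if `b` induces `B`, some element of `H` has both `a_B` and `ω_b` units -/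
theorem IsInducedBlock.exists_unit_pair (hM : Cfsg.IsPModular p M)
    {b : Set (Cfsg.IrrCharacter H)} {B : Set (Cfsg.IrrCharacter G)}
    (hind : Cfsg.IsInducedBlock M H b B) (ξ : Cfsg.IrrCharacter H) (hξ : ξ ∈ b) :
    ∃ h : H, ¬ Cfsg.MemLocalIdeal M (Cfsg.blockCoeff B (h : G)) ∧
      ¬ Cfsg.MemLocalIdeal M (Cfsg.centralChar (ξ : H → ℂ) h) := by
  classical
  have : Fintype (ConjClasses H) := Fintype.ofFinite _
  obtain ⟨χ₀, hB⟩ := hind.2.1
  have hχ₀B : χ₀ ∈ B := by rw [hB]; exact sameBlock_refl hM _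
  have hEc : blockMat B ∈ centerAlg G := blockMat_mem_centerAlg B
  have hEs : blockMat B ∈ sMat hM G := by rw [hB]; exact blockMat_mem_sMat hM χ₀
  have h1 := IsInducedBlock.cOmega_sub H hM hind ξ hξ χ₀ hχ₀B hEc hEs
  rw [cOmega_blockMat, if_pos hχ₀B] at h1
  by_contra hne
  push Not at hne
  have h2 : Cfsg.MemLocalIdeal M (cOmega (ξ : H → ℂ) (resMat H (blockMat B))) := by
    rw [cOmega_eq_sum_classes (IsIrrCharacter.isClassFunction ξ.2)
      (resMat_mem_centerAlg H hEc)]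
    apply MemLocalIdeal.sum hM
    intro c _
    have hval : resMat H (blockMat B) (Quotient.out c) 1
        = Cfsg.blockCoeff B ((Quotient.out c : H) : G) := by
      unfold resMat blockMat
      simp [regMat_apply, resFun]
    rw [hval]
    have hS1 : Cfsg.MemLocalRing M (Cfsg.blockCoeff B ((Quotient.out c : H) : G)) := by
      rw [hB]; exact blockCoeff_memLocalRing hM χ₀ _
    have hS2 : Cfsg.MemLocalRing M (Cfsg.centralChar (ξ : H → ℂ) (Quotient.out c)) :=
      memLocalRing_of_isIntegral hM (IsIrrCharacter.isIntegral_centralChar' ξ.2 _)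
    by_cases hc : Cfsg.MemLocalIdeal M (Cfsg.blockCoeff B ((Quotient.out c : H) : G))
    · exact MemLocalIdeal.mul_right hM hc hS2
    · exact MemLocalIdeal.mul_left hM hS1 (hne _ hc)
  have h3 := MemLocalIdeal.sub hM h2 h1
  rw [sub_sub_cancel] at h3
  exact not_memLocalIdeal_one hM h3

/-- defect groups of a block are contained in defect groups of the induced block -/
theorem IsInducedBlock.exists_defectGroup_ge (hM : Cfsg.IsPModular p M) [Fact p.Prime]
    {b : Set (Cfsg.IrrCharacter H)} {B : Set (Cfsg.IrrCharacter G)}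
    (hind : Cfsg.IsInducedBlock M H b B) (D : Subgroup H) (hD : Cfsg.IsDefectGroup p M b D) :
    ∃ E : Subgroup G, Cfsg.IsDefectGroup p M B E ∧ D.map H.subtype ≤ E := by
  classical
  obtain ⟨ξ₀, hb⟩ := hind.1
  obtain ⟨χ₀, hB⟩ := hind.2.1
  have hξ₀b : ξ₀ ∈ b := by rw [hb]; exact sameBlock_refl hM _
  obtain ⟨h, hh1, hh2⟩ := IsInducedBlock.exists_unit_pair H hM hind ξ₀ hξ₀b
  rw [hb] at hD
  obtain ⟨h', hhh', hDh'⟩ := exists_conj_centralizer_ge_of_centralChar hM ξ₀ h hh2 D hD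
  have hconjG : IsConj (h : G) (h' : G) := by
    obtain ⟨c, hc⟩ := isConj_iff.mp hhh'
    exact isConj_iff.mpr ⟨(c : G), by rw [← hc]; simp⟩
  have hh1' : ¬ Cfsg.MemLocalIdeal M (Cfsg.blockCoeff (Cfsg.blockOf M (χ₀ : G → ℂ)) (h' : G)) := by
    rw [← hB, blockCoeff_eq_of_isConj B hconjG]
    exact hh1
  have hDp : IsPGroup p D := by
    obtain ⟨y, _, P, rfl⟩ := hD
    exact sylow_map_isPGroup P
  have hDmap : IsPGroup p (D.map H.subtype) := hDp.map _
  have hle : D.map H.subtype ≤ Subgroup.centralizer ({(h' : G)} : Set G) := by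
    rintro _ ⟨d, hd, rfl⟩
    have := hDh' hd
    rw [Subgroup.mem_centralizer_singleton_iff] at this ⊢
    have h2 := congrArg (Subtype.val) this
    simpa using h2
  rw [hB]
  exact exists_defectGroup_ge_of_blockCoeff hM χ₀ (h' : G) hh1' _ hDmap hle

end

end Cfsg.Agent.Lib.Helper6
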