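import Mathlib
import Cfsg.Prelude.Def_Blocks
import Cfsg.Agent.Lib.Helper6.BlkIndDefect
import Cfsg.Agent.S0908

set_option autoImplicit false
set_option linter.unusedSectionVars false
open Cfsg

namespace Cfsg.Agent.Lib.Helper6

open scoped ComplexConjugate

section

variable {G : Type*} [Group G] [Fintype G] [DecidableEq G]
variable {p : ℕ} {M : Ideal Cfsg.AlgInt}

theorem IsDefectGroup.isPGroup {B : Set (Cfsg.IrrCharacter G)} {D : Subgroup G}
    (hD : Cfsg.IsDefectGroup p M B D) : IsPGroup p D := by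
  obtain ⟨y, _, P, rfl⟩ := hD
  exact sylow_map_isPGroup P

theorem card_map_conj (D : Subgroup G) (x : G) :
    Nat.card (D.map (MulAut.conj x).toMonoidHom) = Nat.card D :=
  Nat.card_congr ((MulAut.conj x).subgroupMap D).symm.toEquiv

/-- two defect groups of a block are conjugate -/
theorem isDefectGroup_conj (hM : Cfsg.IsPModular p M) [Fact p.Prime] (χ₀ : Cfsg.IrrCharacter G)
    (D₁ D₂ : Subgroup G) (h₁ : Cfsg.IsDefectGroup p M (Cfsg.blockOf M (χ₀ : G → ℂ)) D₁)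
    (h₂ : Cfsg.IsDefectGroup p M (Cfsg.blockOf M (χ₀ : G → ℂ)) D₂) :
    ∃ x : G, D₂ = D₁.map (MulAut.conj x).toMonoidHom := by
  have hχ₀ : χ₀ ∈ Cfsg.blockOf M (χ₀ : G → ℂ) := sameBlock_refl hM _
  have hcard₁ := Cfsg.Agent.S0908.result p M hM _ ⟨χ₀, rfl⟩ D₁ h₁
  obtain ⟨g₁, hg₁, Q₁, rfl⟩ := h₁
  obtain ⟨g₂, hg₂, Q₂, rfl⟩ := h₂
  have hd : DefLe p g₁ g₂ := minmax_core hM χ₀ g₂ ⟨χ₀, hχ₀, hg₂.2.2 χ₀ hχ₀⟩ g₁ hg₁.2.1
  obtain ⟨x, Q, hQ⟩ := hd.exists_le_sylow Q₁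
  have hcardQ := Cfsg.Agent.S0908.result p M hM _ ⟨χ₀, rfl⟩ _ ⟨g₂, hg₂, Q, rfl⟩
  have heq : ((Q₁ : Subgroup (Subgroup.centralizer ({g₁} : Set G))).map
      (Subgroup.centralizer ({g₁} : Set G)).subtype).map (MulAut.conj x).toMonoidHom
      = (Q : Subgroup (Subgroup.centralizer ({g₂} : Set G))).map
          (Subgroup.centralizer ({g₂} : Set G)).subtype := by
    apply Subgroup.eq_of_le_of_card_ge hQ
    rw [card_map_conj, hcard₁, hcardQ]
  obtain ⟨c, _, hc⟩ := sylow_map_conj Q Q₂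
  refine ⟨c * x, ?_⟩
  rw [hc, ← heq, Subgroup.map_map]
  congr 1
  ext z
  simp [MulAut.conj_apply, mul_assoc]

/-- a conjugate of a defect group is a defect group -/
theorem IsDefectGroup.map_conj (hM : Cfsg.IsPModular p M) [Fact p.Prime] (χ₀ : Cfsg.IrrCharacter G)
    (D : Subgroup G) (hD : Cfsg.IsDefectGroup p M (Cfsg.blockOf M (χ₀ : G → ℂ)) D) (x : G) :
    Cfsg.IsDefectGroup p M (Cfsg.blockOf M (χ₀ : G → ℂ)) (D.map (MulAut.conj x).toMonoidHom) := by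
  have hcard := Cfsg.Agent.S0908.result p M hM _ ⟨χ₀, rfl⟩ D hD
  have hDp := IsDefectGroup.isPGroup hD
  obtain ⟨g, hg, Q, rfl⟩ := hD
  set D := (Q : Subgroup (Subgroup.centralizer ({g} : Set G))).map
      (Subgroup.centralizer ({g} : Set G)).subtype with hDdef
  have hg' : Cfsg.IsDefectClass M (Cfsg.blockOf M (χ₀ : G → ℂ)) (x * g * x⁻¹) :=
    IsDefectClass.of_isConj hg (isConj_iff.mpr ⟨x, rfl⟩)
  have hle : D.map (MulAut.conj x).toMonoidHom ≤ Subgroup.centralizer ({x * g * x⁻¹} : Set G) := by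
    rintro _ ⟨d, hd, rfl⟩
    have h1 := mem_centralizer_singleton_iff.mp (sylow_map_le Q hd)
    rw [mem_centralizer_singleton_iff]
    simp only [MulEquiv.coe_toMonoidHom, MulAut.conj_apply]
    calc x * g * x⁻¹ * (x * d * x⁻¹) = x * (g * d) * x⁻¹ := by group
      _ = x * (d * g) * x⁻¹ := by rw [h1]
      _ = x * d * x⁻¹ * (x * g * x⁻¹) := by group
  obtain ⟨Q', hQ'⟩ := exists_sylow_map_ge (hDp.map (MulAut.conj x).toMonoidHom) hle
  have hcardQ' := Cfsg.Agent.S0908.result p M hM _ ⟨χ₀, rfl⟩ _ ⟨x * g * x⁻¹, hg', Q', rfl⟩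
  have heq : D.map (MulAut.conj x).toMonoidHom
      = (Q' : Subgroup (Subgroup.centralizer ({x * g * x⁻¹} : Set G))).map
          (Subgroup.centralizer ({x * g * x⁻¹} : Set G)).subtype := by
    apply Subgroup.eq_of_le_of_card_ge hQ'
    rw [card_map_conj, hcard, hcardQ']
  rw [heq]
  exact ⟨x * g * x⁻¹, hg', Q', rfl⟩

end

end Cfsg.Agent.Lib.Helper6
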