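import Mathlib

set_option autoImplicit false

namespace Cfsg.Agent.Lib.Helper6

open MulAction

/-- Summing an orbit-invariant function weighted by stabilizer sizes: each orbit contributes
`|M|` times the value at a representative. -/
theorem sum_card_stabilizer_smul {M X E : Type*} [Group M] [Fintype M] [MulAction M X]
    [Fintype X] [Fintype (orbitRel.Quotient M X)] [AddCommMonoid E] (F : X → E) (hF : ∀ (m : M) (x : X), F (m • x) = F x) :
    ∑ x, Nat.card (stabilizer M x) • F x
      = ∑ ω : orbitRel.Quotient M X, Nat.card M • F ω.out := by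
  classical
  rw [← (selfEquivSigmaOrbits M X).symm.sum_comp, Fintype.sum_sigma]
  apply Finset.sum_congr rfl
  intro ω _
  have h1 : ∀ y : orbit M ω.out,
      Nat.card (stabilizer M ((selfEquivSigmaOrbits M X).symm ⟨ω, y⟩))
        • F ((selfEquivSigmaOrbits M X).symm ⟨ω, y⟩)
      = Nat.card (stabilizer M ω.out) • F ω.out := by
    intro y
    have hy : (selfEquivSigmaOrbits M X).symm ⟨ω, y⟩ = (y : X) := rfl
    rw [hy]
    obtain ⟨m, hm⟩ := y.2
    have hm' : (y : X) = m • ω.out := hm.symm
    rw [hm', hF, stabilizer_smul_eq_stabilizer_map_conj]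
    congr 1
    exact (Nat.card_congr (Subgroup.equivMapOfInjective _ _
      (MulAut.conj m).injective).toEquiv).symm
  rw [Finset.sum_congr rfl (fun y _ => h1 y), Finset.sum_const, Finset.card_univ, smul_smul]
  congr 1
  have := card_orbit_mul_card_stabilizer_eq_card_group M ω.out
  rw [Nat.card_eq_fintype_card, Nat.card_eq_fintype_card]
  convert this using 2

end Cfsg.Agent.Lib.Helper6
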