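import Mathlib
import Cfsg.Agent.Lib.Helper6.IndFun
import Cfsg.Agent.Lib.Helper6.OrbitSum

set_option autoImplicit false

namespace Cfsg.Agent.Lib.Helper6

open MulAction

section

variable {G : Type*} [Group G]

/-- The conjugate subgroup `t K t⁻¹`. -/
def conjSub (t : G) (K : Subgroup G) : Subgroup G := K.map (MulAut.conj t).toMonoidHom

theorem mem_conjSub (t : G) (K : Subgroup G) (g : G) : g ∈ conjSub t K ↔ t⁻¹ * g * t ∈ K := by
  unfold conjSub
  rw [Subgroup.mem_map_equiv]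
  simp

theorem card_conjSub (t : G) (K : Subgroup G) : Nat.card (conjSub t K) = Nat.card K :=
  (Nat.card_congr (Subgroup.equivMapOfInjective _ _ (MulAut.conj t).injective).toEquiv).symm

theorem conjSub_inf (t : G) (H K : Subgroup G) :
    conjSub t (H ⊓ K) = conjSub t H ⊓ conjSub t K := by
  ext g
  simp only [mem_conjSub, Subgroup.mem_inf]

theorem conjSub_mul (s t : G) (K : Subgroup G) : conjSub (s * t) K = conjSub s (conjSub t K) := by
  ext g
  simp only [mem_conjSub]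
  rw [show (s * t)⁻¹ * g * (s * t) = t⁻¹ * (s⁻¹ * g * s) * t by group]

theorem conjSub_of_mem {t : G} {K : Subgroup G} (ht : t ∈ K) : conjSub t K = K := by
  ext g
  rw [mem_conjSub]
  constructor
  · intro h
    have := K.mul_mem (K.mul_mem ht h) (K.inv_mem ht)
    simpa [mul_assoc] using this
  · intro h
    exact K.mul_mem (K.mul_mem (K.inv_mem ht) h) ht

variable [Fintype G]

theorem sum_mem_eq (U : Subgroup G) (g : G) [DecidablePred (fun y => y ∈ U)] :
    ∑ x : G, (if x⁻¹ * g * x ∈ U then (1 : ℂ) else 0)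
      = (Nat.card U : ℂ) * Cfsg.indFun U (fun _ => (1 : ℂ)) g := by
  unfold Cfsg.indFun
  have hU : (Nat.card U : ℂ) ≠ 0 := card_ne_zero_complex U
  rw [← mul_assoc, mul_inv_cancel₀ hU, one_mul]
  apply Finset.sum_congr rfl
  intro x _
  split_ifs with h
  · rw [extendByZero_of_mem U _ h]
  · rw [extendByZero_of_not_mem U _ h]

/-- Permutation characters of conjugate subgroups agree. -/
theorem indFun_one_conjSub (U : Subgroup G) (h : G) :
    Cfsg.indFun (conjSub h U) (fun _ => (1 : ℂ)) = Cfsg.indFun U (fun _ => (1 : ℂ)) := by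
  classical
  funext g
  have hU : (Nat.card U : ℂ) ≠ 0 := card_ne_zero_complex U
  have h1 := sum_mem_eq (conjSub h U) g
  have h2 := sum_mem_eq U g
  rw [card_conjSub] at h1
  have h3 : ∑ x : G, (if x⁻¹ * g * x ∈ conjSub h U then (1 : ℂ) else 0)
      = ∑ x : G, (if x⁻¹ * g * x ∈ U then (1 : ℂ) else 0) := by
    rw [← Equiv.sum_comp (Equiv.mulRight h) (fun x => if x⁻¹ * g * x ∈ U then (1 : ℂ) else 0)]
    apply Finset.sum_congr rfl
    intro x _
    have hx : (x * h)⁻¹ * g * (x * h) = h⁻¹ * (x⁻¹ * g * x) * h := by group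
    simp only [mem_conjSub, Equiv.coe_mulRight, hx]
  rw [h3, h2] at h1
  exact (mul_left_cancel₀ hU h1).symm

/-- The product of two permutation characters as a weighted sum. -/
theorem indFun_one_mul_indFun_one (H K : Subgroup G) :
    Cfsg.indFun H (fun _ => (1 : ℂ)) * Cfsg.indFun K (fun _ => (1 : ℂ))
      = ((Nat.card H : ℂ)⁻¹ * (Nat.card K : ℂ)⁻¹) •
        ∑ t : G, (Nat.card ↥(H ⊓ conjSub t K) : ℂ) •
          Cfsg.indFun (H ⊓ conjSub t K) (fun _ => (1 : ℂ)) := by
  classical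
  funext g
  have hH : (Nat.card H : ℂ) ≠ 0 := card_ne_zero_complex H
  have hK : (Nat.card K : ℂ) ≠ 0 := card_ne_zero_complex K
  rw [Pi.mul_apply, Pi.smul_apply, Finset.sum_apply]
  simp only [Pi.smul_apply, smul_eq_mul]
  simp_rw [← sum_mem_eq]
  rw [Finset.sum_comm]
  have e1 : Cfsg.indFun H (fun _ => (1 : ℂ)) g
      = (Nat.card H : ℂ)⁻¹ * ∑ x : G, (if x⁻¹ * g * x ∈ H then (1 : ℂ) else 0) := by
    rw [sum_mem_eq, ← mul_assoc, inv_mul_cancel₀ hH, one_mul]
  have e2 : Cfsg.indFun K (fun _ => (1 : ℂ)) g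
      = (Nat.card K : ℂ)⁻¹ * ∑ x : G, (if x⁻¹ * g * x ∈ K then (1 : ℂ) else 0) := by
    rw [sum_mem_eq, ← mul_assoc, inv_mul_cancel₀ hK, one_mul]
  rw [e1, e2]
  have e3 : ∀ x : G, ∑ t : G, (if x⁻¹ * g * x ∈ H ⊓ conjSub t K then (1 : ℂ) else 0)
      = (if x⁻¹ * g * x ∈ H then (1 : ℂ) else 0)
        * ∑ y : G, (if y⁻¹ * g * y ∈ K then (1 : ℂ) else 0) := by
    intro x
    rw [← Equiv.sum_comp (Equiv.mulLeft x) (fun y => if y⁻¹ * g * y ∈ K then (1 : ℂ) else 0),
      Finset.mul_sum]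
    apply Finset.sum_congr rfl
    intro t _
    have hx : (x * t)⁻¹ * g * (x * t) = t⁻¹ * (x⁻¹ * g * x) * t := by group
    simp only [Subgroup.mem_inf, mem_conjSub, Equiv.coe_mulLeft, hx]
    by_cases h1 : x⁻¹ * g * x ∈ H <;> by_cases h2 : t⁻¹ * (x⁻¹ * g * x) * t ∈ K <;> simp [h1, h2]
  simp_rw [e3]
  rw [← Finset.sum_mul]
  ring

omit [Fintype G] in
/-- The action of `H × K` on `G` by `(h, k) • t = h t k⁻¹`. -/
@[reducible] def dosetAction (H K : Subgroup G) : MulAction (H × K) G where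
  smul p t := (p.1 : G) * t * (p.2 : G)⁻¹
  one_smul t := by
    change ((1 : H × K).1 : G) * t * ((1 : H × K).2 : G)⁻¹ = t
    simp
  mul_smul p q t := by
    change ((p * q).1 : G) * t * ((p * q).2 : G)⁻¹
      = (p.1 : G) * ((q.1 : G) * t * (q.2 : G)⁻¹) * (p.2 : G)⁻¹
    simp [mul_assoc]

omit [Fintype G] in
theorem dosetAction_smul (H K : Subgroup G) (p : H × K) (t : G) :
    (dosetAction H K).smul p t = (p.1 : G) * t * (p.2 : G)⁻¹ := rfl

omit [Fintype G] in
theorem card_stabilizer_dosetAction (H K : Subgroup G) (t : G) :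
    Nat.card (@stabilizer (H × K) G _ (dosetAction H K) t) = Nat.card ↥(H ⊓ conjSub t K) := by
  let _ := dosetAction H K
  refine Nat.card_congr ?_
  refine
    { toFun := fun p => ⟨(p.1.1 : G), ?_⟩
      invFun := fun u => ⟨(⟨u, u.2.1⟩, ⟨t⁻¹ * u * t, (mem_conjSub t K u).mp u.2.2⟩), ?_⟩
      left_inv := ?_
      right_inv := ?_ }
  · have hp : (p.1.1 : G) * t * (p.1.2 : G)⁻¹ = t := p.2
    refine ⟨p.1.1.2, ?_⟩
    change (p.1.1 : G) ∈ conjSub t K
    rw [mem_conjSub]
    have : t⁻¹ * (p.1.1 : G) * t = (p.1.2 : G) := by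
      calc t⁻¹ * (p.1.1 : G) * t = t⁻¹ * ((p.1.1 : G) * t * (p.1.2 : G)⁻¹) * (p.1.2 : G) := by
            group
        _ = (p.1.2 : G) := by rw [hp]; group
    rw [this]
    exact p.1.2.2
  · change (u : G) * t * (t⁻¹ * u * t)⁻¹ = t
    group
  · intro p
    have hp : (p.1.1 : G) * t * (p.1.2 : G)⁻¹ = t := p.2
    apply Subtype.ext
    apply Prod.ext
    · rfl
    · apply Subtype.ext
      change t⁻¹ * (p.1.1 : G) * t = (p.1.2 : G)
      calc t⁻¹ * (p.1.1 : G) * t = t⁻¹ * ((p.1.1 : G) * t * (p.1.2 : G)⁻¹) * (p.1.2 : G) := by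
            group
        _ = (p.1.2 : G) := by rw [hp]; group
  · intro u
    rfl

/-- The product of two permutation characters is a sum of permutation characters of subgroups
of the first subgroup, indexed by double cosets. -/
theorem indFun_one_mul_indFun_one_eq_sum_orbits (H K : Subgroup G)
    [Fintype (@orbitRel.Quotient (H × K) G _ (dosetAction H K))] :
    Cfsg.indFun H (fun _ => (1 : ℂ)) * Cfsg.indFun K (fun _ => (1 : ℂ))
      = ∑ ω : @orbitRel.Quotient (H × K) G _ (dosetAction H K),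
          Cfsg.indFun (H ⊓ conjSub ω.out K) (fun _ => (1 : ℂ)) := by
  classical
  let _ := dosetAction H K
  have : Fintype H := Fintype.ofFinite H
  have : Fintype K := Fintype.ofFinite K
  have hH : (Nat.card H : ℂ) ≠ 0 := card_ne_zero_complex H
  have hK : (Nat.card K : ℂ) ≠ 0 := card_ne_zero_complex K
  rw [indFun_one_mul_indFun_one]
  set F : G → (G → ℂ) := fun t => Cfsg.indFun (H ⊓ conjSub t K) (fun _ => (1 : ℂ)) with hF
  have hinv : ∀ (m : H × K) (t : G), F (m • t) = F t := by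
    intro m t
    have hsmul : m • t = (m.1 : G) * t * (m.2 : G)⁻¹ := rfl
    rw [hF]
    simp only
    rw [hsmul, conjSub_mul, conjSub_mul, conjSub_of_mem (K.inv_mem m.2.2)]
    have h1 : H ⊓ conjSub (m.1 : G) (conjSub t K) = conjSub (m.1 : G) (H ⊓ conjSub t K) := by
      rw [conjSub_inf, conjSub_of_mem m.1.2]
    rw [h1, indFun_one_conjSub]
  have h2 := sum_card_stabilizer_smul (M := H × K) F hinv
  have h3 : ∑ t : G, (Nat.card ↥(H ⊓ conjSub t K) : ℂ) • F t
      = ∑ t : G, Nat.card (stabilizer (H × K) t) • F t := by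
    apply Finset.sum_congr rfl
    intro t _
    rw [card_stabilizer_dosetAction, Nat.cast_smul_eq_nsmul]
  rw [h3, h2, ← Finset.smul_sum, ← Nat.cast_smul_eq_nsmul ℂ, smul_smul, Nat.card_prod]
  push_cast
  have : (Nat.card H : ℂ)⁻¹ * (Nat.card K : ℂ)⁻¹ * ((Nat.card H : ℂ) * (Nat.card K : ℂ)) = 1 := by
    field_simp
  rw [this, one_smul]

end

end Cfsg.Agent.Lib.Helper6
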