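import Mathlib
import Cfsg.Agent.Lib.Helper6.PermProd
import Cfsg.Agent.Lib.Helper6.QuotChar

set_option autoImplicit false

namespace Cfsg.Agent.Lib.Helper6

section

variable {G : Type*} [Group G]

/-- `H` is `p`-quasi-elementary: it has a cyclic normal subgroup of order prime to `p` and
`p`-power index. -/
def IsQuasiElem (p : ℕ) (H : Subgroup G) : Prop :=
  ∃ C : Subgroup G, C ≤ H ∧ H ≤ Subgroup.normalizer (C : Set G) ∧ IsCyclic C ∧
    Nat.Coprime (Nat.card C) p ∧ ∃ k : ℕ, C.relIndex H = p ^ k

/-- Inside a finite group, a normal `p'`-subgroup and a `p`-element lie in a subgroup of index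
prime to `p` in which the normal subgroup has `p`-power index. -/
theorem exists_sup_sylow [Finite G] (p : ℕ) [Fact p.Prime] (C : Subgroup G) [C.Normal]
    (hcop : Nat.Coprime (Nat.card C) p) (u : G) (hu : IsPGroup p (Subgroup.zpowers u)) :
    ∃ H : Subgroup G, C ≤ H ∧ u ∈ H ∧ (∃ k : ℕ, C.relIndex H = p ^ k) ∧ ¬ p ∣ H.index := by
  obtain ⟨Q, hQ⟩ := hu.exists_le_sylow
  refine ⟨C ⊔ Q, le_sup_left, ?_, ?_, ?_⟩
  · exact (le_sup_right : (Q : Subgroup G) ≤ C ⊔ Q) (hQ (Subgroup.mem_zpowers u))
  · rw [Subgroup.relIndex_sup_left, ← Subgroup.inf_relIndex_right]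
    obtain ⟨k, hk⟩ := (IsPGroup.iff_card.mp Q.2)
    have hbot : C ⊓ (Q : Subgroup G) = ⊥ := by
      apply Disjoint.eq_bot
      apply Subgroup.disjoint_of_coprime_natCard
      rw [hk]
      exact Nat.Coprime.pow_right k hcop
    rw [hbot, Subgroup.relIndex_bot_left]
    exact ⟨k, hk⟩
  · intro hdvd
    have h1 : (C ⊔ (Q : Subgroup G)).index ∣ (Q : Subgroup G).index :=
      Subgroup.index_dvd_of_le le_sup_right
    exact Q.not_dvd_index (hdvd.trans h1)

/-- In a `p`-quasi-elementary configuration, `p ^ k`-th powers land in the cyclic normal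
subgroup. -/
theorem pow_relIndex_mem {C H : Subgroup G} (hCH : C ≤ H)
    (hHN : H ≤ Subgroup.normalizer (C : Set G)) {g : G} (hg : g ∈ H) :
    g ^ (C.relIndex H) ∈ C := by
  have hn : (C.subgroupOf H).Normal := (Subgroup.normal_subgroupOf_iff_le_normalizer hCH).mpr hHN
  have := Subgroup.pow_index_mem (C.subgroupOf H) (⟨g, hg⟩ : H)
  rw [Subgroup.mem_subgroupOf] at this
  exact this

/-- The permutation character counts fixed cosets. -/
theorem indFun_one_eq_card_fixed [Fintype G] (H : Subgroup G) [Fintype (G ⧸ H)]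
    [DecidableEq (G ⧸ H)] (x : G) :
    Cfsg.indFun H (fun _ => (1 : ℂ)) x
      = ((Finset.univ.filter (fun q : G ⧸ H => x • q = q)).card : ℂ) := by
  classical
  have : Fintype H := Fintype.ofFinite H
  have hH : (Nat.card H : ℂ) ≠ 0 := card_ne_zero_complex H
  have h1 := sum_mem_eq H x
  have h2 := sum_comp_mk H (fun q : G ⧸ H => if x • q = q then (1 : ℂ) else 0)
  have h3 : ∑ y : G, (if y⁻¹ * x * y ∈ H then (1 : ℂ) else 0)
      = ∑ y : G, (fun q : G ⧸ H => if x • q = q then (1 : ℂ) else 0) (QuotientGroup.mk y) := by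
    apply Finset.sum_congr rfl
    intro y _
    have : x • (QuotientGroup.mk y : G ⧸ H) = QuotientGroup.mk y ↔ y⁻¹ * x * y ∈ H := by
      rw [MulAction.Quotient.smul_mk, eq_comm, QuotientGroup.eq]
      simp [mul_assoc]
    simp only [this]
  rw [h3, h2, Finset.sum_boole] at h1
  exact (mul_left_cancel₀ hH h1).symm


theorem card_fixed_modEq {G X : Type*} [Group G] [MulAction G X] [Fintype X] [DecidableEq X]
    (p a : ℕ) [Fact p.Prime] (c u x : G) (hcu : Commute c u) (hu : u ^ (p ^ a) = 1)
    (hfix : ∀ q : X, x • q = q ↔ c • q = q ∧ u • q = q) :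
    (Finset.univ.filter (fun q : X => c • q = q)).card
      ≡ (Finset.univ.filter (fun q : X => x • q = q)).card [MOD p] := by
  classical
  let α := {q : X // c • q = q}
  let f : Function.End α := fun q => ⟨u • q.1, by
    rw [smul_smul, hcu.eq, ← smul_smul, q.2]⟩
  have hpow : ∀ n : ℕ, ∀ q : α, ((f ^ n) q).1 = u ^ n • q.1 := by
    intro n
    induction n with
    | zero => intro q; rw [pow_zero, pow_zero, one_smul]; rfl
    | succ n ih =>
      intro q
      rw [pow_succ']
      change (f ((f ^ n) q)).1 = _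
      change u • ((f ^ n) q).1 = _
      rw [ih q, smul_smul, ← pow_succ']
  have hf : f ^ p ^ a = 1 := by
    funext q
    apply Subtype.ext
    rw [hpow, hu, one_smul]
    rfl
  have h1 := Equiv.Perm.card_fixedPoints_modEq (p := p) (n := a) hf
  have e : ↥(Function.fixedPoints f) ≃ {q : X // x • q = q} :=
    { toFun := fun q => ⟨q.1.1, (hfix _).mpr ⟨q.1.2, congrArg Subtype.val q.2⟩⟩
      invFun := fun q => ⟨⟨q.1, ((hfix _).mp q.2).1⟩, Subtype.ext ((hfix _).mp q.2).2⟩
      left_inv := fun q => rfl
      right_inv := fun q => rfl }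
  rw [Fintype.card_congr e, Fintype.card_subtype, Fintype.card_subtype] at h1
  exact h1

theorem smul_eq_of_mem_zpowers {X : Type*} [MulAction G X] {x y : G} {q : X}
    (hx : x • q = q) (hy : y ∈ Subgroup.zpowers x) : y • q = q := by
  have h1 : x ∈ MulAction.stabilizer G q := hx
  have h2 : Subgroup.zpowers x ≤ MulAction.stabilizer G q := Subgroup.zpowers_le.mpr h1
  exact h2 hy

/-- For every element `x` and prime `p` there is a `p`-quasi-elementary subgroup whose
permutation character does not vanish mod `p` at `x`. -/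
theorem exists_quasiElem_not_dvd [Fintype G] (x : G) (p : ℕ) (hp : p.Prime) :
    ∃ H : Subgroup G, IsQuasiElem p H ∧
      ∃ n : ℕ, Cfsg.indFun H (fun _ => (1 : ℂ)) x = (n : ℂ) ∧ ¬ p ∣ n := by
  classical
  have : Fact p.Prime := ⟨hp⟩
  set o := orderOf x with ho_def
  have ho : o ≠ 0 := (orderOf_pos x).ne'
  set a := o.factorization p with ha_def
  set m := o / p ^ a with hm_def
  have hom : p ^ a * m = o := Nat.ordProj_mul_ordCompl_eq_self o p
  have hcop : Nat.Coprime p m := Nat.coprime_ordCompl hp ho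
  set c := x ^ (p ^ a) with hc_def
  set u := x ^ m with hu_def
  have hc_ord : orderOf c = m := by
    rw [hc_def, orderOf_pow_of_dvd (pow_ne_zero _ hp.ne_zero) (Dvd.intro _ hom)]
  have hu_pow : u ^ (p ^ a) = 1 := by
    rw [hu_def, ← pow_mul, mul_comm, hom]
    exact pow_orderOf_eq_one x
  have hcu : Commute c u := (Commute.refl x).pow_pow _ _
  have hcz : c ∈ Subgroup.zpowers x := Subgroup.pow_mem _ (Subgroup.mem_zpowers x) _
  have huz : u ∈ Subgroup.zpowers x := Subgroup.pow_mem _ (Subgroup.mem_zpowers x) _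
  -- Bezout
  have hx_decomp : ∃ s t : ℤ, x = u ^ s * c ^ t := by
    have h1 : IsCoprime (m : ℤ) ((p ^ a : ℕ) : ℤ) := by
      rw [Nat.isCoprime_iff_coprime]
      exact (Nat.Coprime.pow_left a hcop).symm
    obtain ⟨s, t, hst⟩ := h1
    refine ⟨s, t, ?_⟩
    rw [hu_def, hc_def, ← zpow_natCast x m, ← zpow_natCast x (p ^ a), ← zpow_mul, ← zpow_mul,
      ← zpow_add, mul_comm (m : ℤ), mul_comm ((p ^ a : ℕ) : ℤ), hst, zpow_one]
  obtain ⟨s, t, hst⟩ := hx_decomp
  set C := Subgroup.zpowers c with hC_def
  have hCcard : Nat.card C = m := by rw [Nat.card_zpowers, hc_ord]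
  set N := Subgroup.normalizer (C : Set G) with hN_def
  have hCN : C ≤ N := Subgroup.le_normalizer
  have hcomm : ∀ h ∈ C, x * h = h * x := by
    intro h hh
    obtain ⟨j, rfl⟩ := Subgroup.mem_zpowers_iff.mp hh
    exact ((Commute.refl x).pow_right _).zpow_right j
  have hxN : x ∈ N := by
    rw [hN_def, Subgroup.mem_normalizer_iff]
    intro h
    constructor
    · intro hh
      rw [hcomm h hh, mul_assoc, mul_inv_cancel, mul_one]
      exact hh
    · intro hh
      have h1 := hcomm _ hh
      have h2 : x * (x * h * x⁻¹) = x * h := by rw [h1]; group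
      have h3 := mul_left_cancel h2
      rw [← h3]
      exact hh
  have huN : u ∈ N := N.pow_mem hxN m
  -- work inside the normalizer
  let C₁ : Subgroup N := C.subgroupOf N
  have hC₁n : C₁.Normal := Subgroup.normal_in_normalizer
  have hC₁card : Nat.card C₁ = m := by
    rw [← hCcard]
    exact Nat.card_congr (Subgroup.subgroupOfEquivOfLe hCN).toEquiv
  let u₁ : N := ⟨u, huN⟩
  have hu₁ : IsPGroup p (Subgroup.zpowers u₁) := by
    rintro ⟨g, hg⟩
    obtain ⟨j, rfl⟩ := Subgroup.mem_zpowers_iff.mp hg
    refine ⟨a, ?_⟩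
    apply Subtype.ext
    apply Subtype.ext
    simp only [Subgroup.coe_pow, Subgroup.coe_zpow, Subgroup.coe_one]
    change (u ^ j) ^ p ^ a = 1
    rw [← zpow_natCast, ← zpow_mul, mul_comm, zpow_mul, zpow_natCast, hu_pow, one_zpow]
  obtain ⟨H₁, hCH₁, huH₁, ⟨k, hk⟩, hidx⟩ := exists_sup_sylow p C₁
    (by rw [hC₁card]; exact hcop.symm) u₁ hu₁
  set H : Subgroup G := H₁.map N.subtype with hH_def
  have hCH : C ≤ H := by
    rw [← Subgroup.map_subgroupOf_eq_of_le hCN]
    exact Subgroup.map_mono hCH₁
  have hHN : H ≤ N := Subgroup.map_subtype_le H₁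
  have hrel : C.relIndex H = p ^ k := by
    rw [← hk, ← Subgroup.map_subgroupOf_eq_of_le hCN, hH_def,
      Subgroup.relIndex_map_map_of_injective _ _ N.subtype_injective]
  have hQE : IsQuasiElem p H :=
    ⟨C, hCH, hHN, by rw [hC_def]; infer_instance, by rw [hCcard]; exact hcop.symm, k, hrel⟩
  have huH : u ∈ H := ⟨u₁, huH₁, rfl⟩
  have hcC : c ∈ C := Subgroup.mem_zpowers c
  have hxH : x ∈ H := by
    rw [hst]
    exact H.mul_mem (H.zpow_mem huH s) (H.zpow_mem (hCH hcC) t)
  refine ⟨H, hQE, ?_⟩
  have : Fintype (G ⧸ H) := Fintype.ofFinite _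
  refine ⟨(Finset.univ.filter (fun q : G ⧸ H => x • q = q)).card,
    indFun_one_eq_card_fixed H x, ?_⟩
  -- fixed points of `x` versus those of `c`
  have hfix : ∀ q : G ⧸ H, x • q = q ↔ c • q = q ∧ u • q = q := by
    intro q
    constructor
    · intro hq
      exact ⟨smul_eq_of_mem_zpowers hq hcz, smul_eq_of_mem_zpowers hq huz⟩
    · rintro ⟨hc, hu⟩
      rw [hst, mul_smul]
      rw [smul_eq_of_mem_zpowers hc (Subgroup.zpow_mem_zpowers c t),
        smul_eq_of_mem_zpowers hu (Subgroup.zpow_mem_zpowers u s)]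
  have hmod := card_fixed_modEq p a c u x hcu hu_pow hfix
  -- the number of cosets fixed by `c`
  have hcfix : (Finset.univ.filter (fun q : G ⧸ H => c • q = q)).card = H₁.index := by
    have hHc : (Nat.card H : ℂ) ≠ 0 := card_ne_zero_complex H
    have h1 := sum_mem_eq H c
    rw [indFun_one_eq_card_fixed H c] at h1
    have h2 : ∀ y : G, y⁻¹ * c * y ∈ H ↔ y ∈ N := by
      intro y
      constructor
      · intro hy
        obtain ⟨z, rfl⟩ : ∃ z, y = z⁻¹ := ⟨y⁻¹, (inv_inv y).symm⟩
        rw [inv_inv] at hy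
        -- the conjugate lies in `C`
        have h3 : (z * c * z⁻¹) ^ (p ^ k) ∈ C := by
          rw [← hrel]
          exact pow_relIndex_mem hCH hHN hy
        have h4 : (z * c * z⁻¹) ^ m = 1 := by
          rw [conj_pow, ← hc_ord, pow_orderOf_eq_one]
          group
        have h5 : z * c * z⁻¹ ∈ C := by
          have hcop' : IsCoprime ((p ^ k : ℕ) : ℤ) (m : ℤ) := by
            rw [Nat.isCoprime_iff_coprime]
            exact Nat.Coprime.pow_left k hcop
          obtain ⟨s', t', hst'⟩ := hcop'
          have : z * c * z⁻¹ = ((z * c * z⁻¹) ^ (p ^ k)) ^ s' := by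
            have e1 : (z * c * z⁻¹) ^ (s' * ((p ^ k : ℕ) : ℤ) + t' * (m : ℤ)) = z * c * z⁻¹ := by
              rw [hst', zpow_one]
            rw [zpow_add, zpow_mul', zpow_mul', zpow_natCast, zpow_natCast, h4, one_zpow,
              mul_one] at e1
            exact e1.symm
          rw [this]
          exact C.zpow_mem h3 s'
        -- hence `z` normalizes `C`
        have h6 : ∀ h ∈ C, z * h * z⁻¹ ∈ C := by
          intro h hh
          obtain ⟨j, rfl⟩ := Subgroup.mem_zpowers_iff.mp hh
          rw [← conj_zpow]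
          exact C.zpow_mem h5 j
        -- by finiteness conjugation is a bijection of `C`
        have h7 : z ∈ N := by
          rw [hN_def, Subgroup.mem_normalizer_iff]
          have hinj : Function.Injective (fun h : C => (⟨z * h * z⁻¹, h6 h h.2⟩ : C)) := by
            intro h h' hh
            have := congrArg Subtype.val hh
            simp only at this
            apply Subtype.ext
            have h8 : z⁻¹ * (z * (h : G) * z⁻¹) * z = z⁻¹ * (z * (h' : G) * z⁻¹) * z := by
              rw [this]
            simpa [mul_assoc] using h8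
          have hsurj := Finite.surjective_of_injective hinj
          intro h
          constructor
          · intro hh
            exact h6 h hh
          · intro hh
            obtain ⟨h', hh'⟩ := hsurj ⟨_, hh⟩
            have := congrArg Subtype.val hh'
            simp only at this
            have h9 : (h' : G) = h := by
              have h8 : z⁻¹ * (z * (h' : G) * z⁻¹) * z = z⁻¹ * (z * h * z⁻¹) * z := by
                rw [this]
              simpa [mul_assoc] using h8
            rw [← h9]
            exact h'.2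
        exact N.inv_mem h7
      · intro hy
        have h3 : y⁻¹ ∈ N := N.inv_mem hy
        rw [hN_def, Subgroup.mem_normalizer_iff] at h3
        have := (h3 c).mp hcC
        rw [inv_inv] at this
        exact hCH this
    simp only [h2] at h1
    rw [Finset.sum_boole] at h1
    have h3 : (Finset.univ.filter (fun y : G => y ∈ N)).card = Nat.card N := by
      rw [Nat.card_eq_fintype_card, Fintype.card_subtype]
    have h4 : Nat.card H = Nat.card H₁ :=
      (Nat.card_congr (Subgroup.equivMapOfInjective _ _ N.subtype_injective).toEquiv).symm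
    have h5 : Nat.card H₁ * H₁.index = Nat.card N := H₁.card_mul_index
    rw [h3, ← h5, h4] at h1
    have h6 : (Nat.card H₁ : ℂ) ≠ 0 := by rw [← h4]; exact hHc
    push_cast at h1
    have h7 := mul_left_cancel₀ h6 h1
    exact_mod_cast h7.symm
  rw [hcfix] at hmod
  intro hdvd
  apply hidx
  exact (Nat.modEq_zero_iff_dvd.mp (hmod.trans (Nat.modEq_zero_iff_dvd.mpr hdvd)))

end

end Cfsg.Agent.Lib.Helper6
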