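import Mathlib
import Cfsg.Prelude.Def_Characters
import Cfsg.Agent.Lib.Helper6.QuasiElem

set_option autoImplicit false

namespace Cfsg.Agent.Lib.Helper6

section

/-- Being elementary is invariant under isomorphism. -/
theorem IsElementary.of_mulEquiv {p : ℕ} {E₁ E₂ : Type*} [Group E₁] [Group E₂] (e : E₁ ≃* E₂)
    (h : Cfsg.IsElementary p E₁) : Cfsg.IsElementary p E₂ := by
  obtain ⟨x, hx, hcop, k, hk⟩ := h
  refine ⟨e x, ?_, ?_, k, ?_⟩
  · rw [Subgroup.mem_center_iff]
    intro g
    obtain ⟨g', rfl⟩ := e.surjective g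
    rw [← map_mul, ← map_mul, Subgroup.mem_center_iff.mp hx g']
  · rw [MulEquiv.orderOf_eq]
    exact hcop
  · have h1 : Subgroup.zpowers (e x) = (Subgroup.zpowers x).map (e : E₁ →* E₂) := by
      rw [MonoidHom.map_zpowers]
      rfl
    rw [h1, Subgroup.index_map_equiv, hk]

/-- `H` is a `p`-quasi-elementary group: it has a cyclic normal subgroup of order prime to `p`
and `p`-power index. -/
def IsQuasiElemGroup (p : ℕ) (H : Type*) [Group H] : Prop :=
  ∃ C : Subgroup H, C.Normal ∧ IsCyclic C ∧ Nat.Coprime (Nat.card C) p ∧ ∃ k : ℕ, C.index = p ^ k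

theorem IsQuasiElem.isQuasiElemGroup {G : Type*} [Group G] {p : ℕ} {K : Subgroup G}
    (h : IsQuasiElem p K) : IsQuasiElemGroup p K := by
  obtain ⟨C, hCK, hKN, hcyc, hcop, k, hk⟩ := h
  refine ⟨C.subgroupOf K, (Subgroup.normal_subgroupOf_iff_le_normalizer hCK).mpr hKN, ?_, ?_, k, hk⟩
  · have := hcyc
    exact isCyclic_of_surjective (Subgroup.subgroupOfEquivOfLe hCK).symm
      (Subgroup.subgroupOfEquivOfLe hCK).symm.surjective
  · rw [Nat.card_congr (Subgroup.subgroupOfEquivOfLe hCK).toEquiv]
    exact hcop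

theorem IsQuasiElemGroup.subgroup {p : ℕ} (hp : p.Prime) {H : Type*} [Group H]
    (h : IsQuasiElemGroup p H) (K : Subgroup H) : IsQuasiElemGroup p K := by
  obtain ⟨C, hCn, hcyc, hcop, k, hk⟩ := h
  have := hCn
  have := hcyc
  let f : C.subgroupOf K →* C :=
    (K.subtype.comp (C.subgroupOf K).subtype).codRestrict C (fun x => Subgroup.mem_subgroupOf.mp x.2)
  have hf : Function.Injective f := by
    intro x y hxy
    have := congrArg (fun t : C => (t : H)) hxy
    apply Subtype.ext
    apply Subtype.ext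
    exact this
  refine ⟨C.subgroupOf K, hCn.subgroupOf K, isCyclic_of_injective f hf, ?_, ?_⟩
  · exact Nat.Coprime.coprime_dvd_left (Subgroup.card_dvd_of_injective f hf) hcop
  · have h1 : (C.subgroupOf K).index ∣ C.index := Subgroup.relIndex_dvd_index_of_normal C K
    rw [hk] at h1
    obtain ⟨j, _, hj⟩ := (Nat.dvd_prime_pow hp).mp h1
    exact ⟨j, hj⟩

end

section

variable {H : Type*} [Group H] [Finite H]

/-- In a `p`-quasi-elementary group the cyclic normal subgroup and a Sylow `p`-subgroup are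
complements. -/
theorem isComplement'_sylow {p : ℕ} [Fact p.Prime] (C : Subgroup H)
    (hcop : Nat.Coprime (Nat.card C) p) {k : ℕ} (hk : C.index = p ^ k) (P : Sylow p H) :
    C.IsComplement' (P : Subgroup H) ∧ Nat.card P = p ^ k := by
  have hp := (Fact.out : p.Prime)
  have hcard : Nat.card H = Nat.card C * p ^ k := by rw [← hk, C.card_mul_index]
  have hC0 : Nat.card C ≠ 0 := Nat.card_pos.ne'
  have hPcard : Nat.card P = p ^ k := by
    rw [Sylow.card_eq_multiplicity, hcard,
      Nat.factorization_mul hC0 (pow_ne_zero _ hp.ne_zero)]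
    congr 1
    rw [Finsupp.add_apply, Nat.factorization_eq_zero_of_not_dvd, Nat.factorization_pow,
      Finsupp.smul_apply, hp.factorization_self]
    · simp
    · intro hd
      have := Nat.Coprime.eq_one_of_dvd hcop.symm hd
      exact hp.one_lt.ne' this
  refine ⟨?_, hPcard⟩
  apply Subgroup.isComplement'_of_coprime
  · rw [hPcard, hcard]
  · rw [hPcard]
    exact Nat.Coprime.pow_right k hcop

/-- The part of `C` centralized by `P`. -/
def centZ (C P : Subgroup H) : Subgroup H := C ⊓ Subgroup.centralizer (P : Set H)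

omit [Finite H] in
theorem centZ_central (C P : Subgroup H) (hcomm : ∀ a ∈ C, ∀ b ∈ C, a * b = b * a)
    (hCP : C ⊔ P = ⊤) {z : H} (hz : z ∈ centZ C P) (h : H) : z * h = h * z := by
  have hle : C ⊔ P ≤ Subgroup.centralizer {z} := by
    apply sup_le
    · intro c hc
      rw [Subgroup.mem_centralizer_iff]
      intro w hw
      rw [Set.mem_singleton_iff] at hw
      rw [hw]
      exact hcomm z hz.1 c hc
    · intro y hy
      rw [Subgroup.mem_centralizer_iff]
      intro w hw
      rw [Set.mem_singleton_iff] at hw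
      rw [hw]
      have := Subgroup.mem_centralizer_iff.mp hz.2 y hy
      exact this.symm
  have hh : h ∈ Subgroup.centralizer {z} := hle (by rw [hCP]; trivial)
  exact Subgroup.mem_centralizer_iff.mp hh z rfl

/-- The elementary subgroup `Z × P` of a quasi-elementary group. -/
theorem exists_elementary_subgroup {p : ℕ} [Fact p.Prime] (C P : Subgroup H) (hcyc : IsCyclic C)
    (hcop : Nat.Coprime (Nat.card C) p) (hCP : C ⊔ P = ⊤) (hdisj : Disjoint C P) {k : ℕ}
    (hP : Nat.card P = p ^ k) :
    ∃ E : Subgroup H, Cfsg.IsElementary p E ∧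
      ∃ e : (centZ C P) × P ≃ E, ∀ zy, (e zy : H) = (zy.1 : H) * (zy.2 : H) := by
  have hcomm : ∀ a ∈ C, ∀ b ∈ C, a * b = b * a := by
    intro a ha b hb
    have := IsCyclic.commGroup.mul_comm (⟨a, ha⟩ : C) ⟨b, hb⟩
    exact congrArg Subtype.val this
  set Z := centZ C P with hZ
  have hZC : Z ≤ C := inf_le_left
  have hcommZP : ∀ (z : Z) (y : P), Commute (Z.subtype z) (P.subtype y) := by
    intro z y
    exact centZ_central C P hcomm hCP z.2 y
  let f : Z × P →* H := MonoidHom.noncommCoprod Z.subtype P.subtype hcommZP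
  have hfapp : ∀ zy : Z × P, f zy = (zy.1 : H) * (zy.2 : H) := fun zy => rfl
  have hdisjZ : Disjoint Z P := Disjoint.mono_left hZC hdisj
  have hf : Function.Injective f := Subgroup.mul_injective_of_disjoint hdisjZ
  refine ⟨f.range, ?_, (MonoidHom.ofInjective hf).toEquiv, fun zy => rfl⟩
  apply IsElementary.of_mulEquiv (MonoidHom.ofInjective hf)
  -- `Z × P` is elementary
  have hZcyc : IsCyclic Z :=
    isCyclic_of_injective (Subgroup.inclusion hZC) (Subgroup.inclusion_injective hZC)
  obtain ⟨z₀, hz₀⟩ := hZcyc.exists_generator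
  have hz₀ord : orderOf z₀ = Nat.card Z := orderOf_eq_card_of_forall_mem_zpowers hz₀
  have hxord : orderOf ((z₀, 1) : Z × P) = Nat.card Z := by
    rw [← hz₀ord]
    exact orderOf_injective (MonoidHom.inl Z P) (fun a b hab => (Prod.mk.inj hab).1) z₀
  refine ⟨(z₀, 1), ?_, ?_, k, ?_⟩
  · rw [Subgroup.mem_center_iff]
    rintro ⟨z, y⟩
    apply Prod.ext
    · apply Subtype.ext
      exact hcomm z (hZC z.2) z₀ (hZC z₀.2)
    · simp
  · rw [hxord]
    exact Nat.Coprime.coprime_dvd_left (Subgroup.card_dvd_of_le hZC) hcop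
  · have h1 := (Subgroup.zpowers ((z₀, 1) : Z × P)).card_mul_index
    rw [Nat.card_zpowers, hxord, Nat.card_prod, hP] at h1
    exact Nat.eq_of_mul_eq_mul_left Nat.card_pos h1

end

end Cfsg.Agent.Lib.Helper6
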