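import Mathlib
import Cfsg.Agent.Lib.Helper6.CharBasic
import Cfsg.Agent.Lib.Helper6.Clifford

set_option autoImplicit false

namespace Cfsg.Agent.Lib.Helper6

open Module
open scoped ComplexConjugate

section

variable {G : Type*} [Group G] [Finite G]

/-- A character vanishing at the identity vanishes identically. -/
theorem IsCharacter.eq_zero_of_apply_one_eq_zero {χ : G → ℂ} (hχ : Cfsg.IsCharacter G χ)
    (h1 : χ 1 = 0) : χ = 0 := by
  obtain ⟨n, ρ, rfl⟩ := hχ
  rw [Representation.char_one] at h1
  have h0 : finrank ℂ (Fin n → ℂ) = 0 := by exact_mod_cast h1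
  funext g
  have h2 := norm_character_le ρ g
  rw [h0] at h2
  have h3 : ‖ρ.character g‖ = 0 := le_antisymm (by simpa using h2) (norm_nonneg _)
  exact norm_eq_zero.mp h3

/-- A character having an irreducible constituent of the same degree is equal to it. -/
theorem IsCharacter.eq_of_constituent_of_apply_one_eq [Fintype G] {A θ : G → ℂ}
    (hA : Cfsg.IsCharacter G A) (hθ : Cfsg.IsIrrCharacter G θ) (h : Cfsg.classInner A θ ≠ 0)
    (h1 : A 1 = θ 1) : A = θ := by
  obtain ⟨B, hB, hAB⟩ := IsCharacter.exists_eq_add_of_constituent hA hθ h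
  have hB1 : B 1 = 0 := by
    have := congrFun hAB 1
    rw [Pi.add_apply, h1] at this
    exact (left_eq_add.mp this)
  rw [hAB, IsCharacter.eq_zero_of_apply_one_eq_zero hB hB1, add_zero]

end

end Cfsg.Agent.Lib.Helper6
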