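import Mathlib
import Cfsg.Agent.Lib.Helper6.Clifford
import Cfsg.Agent.S0174
import Cfsg.Agent.S0193

set_option autoImplicit false

namespace Cfsg.Agent.Lib.Helper6

open scoped ComplexConjugate

section

variable {G : Type*} [Group G] [Fintype G]

/-- The restriction of an irreducible character to a normal subgroup is a multiple of any
invariant irreducible constituent. -/
theorem restrict_eq_smul_of_invariant (N : Subgroup G) [Fintype N] (hN : N.Normal) {χ : G → ℂ}
    (hχ : Cfsg.IsIrrCharacter G χ) {ϑ : N → ℂ} (hϑ : Cfsg.IsIrrCharacter N ϑ)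
    (hinv : ∀ g : G, conjFun N hN ϑ g = ϑ)
    (hcon : Cfsg.classInner (fun n : N => χ n) ϑ ≠ 0) :
    (fun n : N => χ n) = Cfsg.classInner (fun n : N => χ n) ϑ • ϑ := by
  have h := Cfsg.Agent.S0174.result N hN χ hχ ϑ hϑ hcon
  have hset : {ψ : N → ℂ | ∃ g : G, ψ = fun n : N => ϑ ⟨g * n * g⁻¹, hN.conj_mem n n.2 g⟩}
      = {ϑ} := by
    ext ψ
    simp only [Set.mem_ofPred_eq, Set.mem_singleton_iff]
    constructor
    · rintro ⟨g, rfl⟩
      exact hinv g
    · intro h
      exact ⟨1, by rw [h]; exact (hinv 1).symm⟩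
  rw [hset, finsum_mem_singleton] at h
  exact h

omit [Fintype G] in
theorem conjFun_smul (N : Subgroup G) (hN : N.Normal) (c : ℂ) (ϑ : N → ℂ) (g : G) :
    conjFun N hN (c • ϑ) g = c • conjFun N hN ϑ g := rfl

omit [Fintype G] in
/-- If the restriction is a nonzero multiple of `ϑ`, then `ϑ` is invariant. -/
theorem invariant_of_restrict_eq_smul (N : Subgroup G) (hN : N.Normal) {χ : G → ℂ}
    (hχ : Cfsg.IsClassFunction G χ) {ϑ : N → ℂ} {c : ℂ} (hc : c ≠ 0)
    (h : (fun n : N => χ n) = c • ϑ) : ∀ g : G, conjFun N hN ϑ g = ϑ := by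
  intro g
  have h1 := conjFun_restrict N hN hχ g
  rw [h, conjFun_smul] at h1
  exact smul_right_injective _ hc h1

open Classical in
/-- Splitting the norm of an irreducible character along a subgroup. -/
theorem sum_norm_sq_split (N : Subgroup G) [Fintype N] {χ : G → ℂ}
    (hχ : Cfsg.IsIrrCharacter G χ) :
    (∑ n : N, χ n * conj (χ n))
      + ∑ g ∈ Finset.univ.filter (fun g : G => g ∉ N), χ g * conj (χ g) = (Nat.card G : ℂ) := by
  have h1 := classInner_isIrrCharacter hχ hχ
  rw [if_pos rfl] at h1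
  unfold Cfsg.classInner at h1
  have hG := card_ne_zero_complex G
  have h2 : ∑ g : G, χ g * conj (χ g) = (Nat.card G : ℂ) := by
    field_simp at h1
    exact h1
  rw [← h2, ← Finset.sum_filter_add_sum_filter_not Finset.univ (fun g : G => g ∈ N)]
  congr 1
  rw [← Finset.sum_subtype_eq_sum_filter]
  have : (Finset.univ : Finset G).subtype (fun g => g ∈ N) = (Finset.univ : Finset N) := by
    ext x; simp
  rw [this]

/-- For an invariant irreducible character of a normal subgroup, the norm of the induced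
character is the index. -/
theorem classInner_indFun_self_of_invariant (N : Subgroup G) (hN : N.Normal) {ϑ : N → ℂ}
    (hϑ : Cfsg.IsIrrCharacter N ϑ) (hinv : ∀ g : G, conjFun N hN ϑ g = ϑ) :
    Cfsg.classInner (Cfsg.indFun N ϑ) (Cfsg.indFun N ϑ) = (N.index : ℂ) := by
  have := hN
  have h := Cfsg.Agent.S0193.result N ϑ hϑ
  have hcard : Nat.card {g : G // ∀ h : N, ϑ ⟨g * h * g⁻¹, hN.conj_mem h h.2 g⟩ = ϑ h}
      = Nat.card G := by
    apply Nat.card_congr
    exact Equiv.subtypeUnivEquiv (fun g h => congrFun (hinv g) h)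
  rw [hcard] at h
  have hNc := card_ne_zero_complex N
  have h2 : (Nat.card G : ℂ) = (N.index : ℂ) * (Nat.card N : ℂ) := by
    rw [← Nat.cast_mul, Subgroup.index_mul_card]
  rw [h2] at h
  have h3 : (Nat.card N : ℂ) * Cfsg.classInner (Cfsg.indFun N ϑ) (Cfsg.indFun N ϑ)
      = (Nat.card N : ℂ) * (N.index : ℂ) := by rw [h]; ring
  exact mul_left_cancel₀ hNc h3

end

end Cfsg.Agent.Lib.Helper6
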