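import Mathlib
import Cfsg.Agent.Lib.Helper6.Ramified
import Cfsg.Agent.Lib.Helper6.CharMisc

set_option autoImplicit false

namespace Cfsg.Agent.Lib.Helper6

open scoped ComplexConjugate

section

variable {G : Type*} [Group G] [Fintype G]

/-- The projection formula for induced functions. -/
theorem indFun_mul_restrict (H : Subgroup G) (θ : H → ℂ) {χ : G → ℂ}
    (hχ : Cfsg.IsClassFunction G χ) :
    Cfsg.indFun H (θ * fun h : H => χ h) = Cfsg.indFun H θ * χ := by
  funext g
  unfold Cfsg.indFun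
  rw [Pi.mul_apply, mul_assoc, Finset.sum_mul]
  congr 1
  apply Finset.sum_congr rfl
  intro x _
  have hy : χ (x⁻¹ * g * x) = χ g := by
    have := hχ g x⁻¹
    simpa using this
  by_cases hm : x⁻¹ * g * x ∈ H
  · rw [extendByZero_of_mem _ _ hm, extendByZero_of_mem _ _ hm, Pi.mul_apply, hy]
  · rw [extendByZero_of_not_mem _ _ hm, extendByZero_of_not_mem _ _ hm, zero_mul]

/-- A function with zero norm vanishes. -/
theorem eq_zero_of_classInner_self_eq_zero {ψ : G → ℂ} (h : Cfsg.classInner ψ ψ = 0) : ψ = 0 := by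
  unfold Cfsg.classInner at h
  have hG := card_ne_zero_complex G
  have h1 : ∑ g : G, ψ g * conj (ψ g) = 0 := by
    rcases mul_eq_zero.mp h with h0 | h0
    · exact absurd (inv_eq_zero.mp h0) hG
    · exact h0
  have h2 : ∀ x : G, ψ x * conj (ψ x) = ((Complex.normSq (ψ x) : ℝ) : ℂ) :=
    fun x => Complex.mul_conj (ψ x)
  rw [Finset.sum_congr rfl (fun x _ => h2 x), ← Complex.ofReal_sum] at h1
  have h3 : ∑ x : G, Complex.normSq (ψ x) = 0 := by exact_mod_cast h1
  funext g
  have h4 := (Finset.sum_eq_zero_iff_of_nonneg (fun x _ => Complex.normSq_nonneg (ψ x))).mp h3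
    g (Finset.mem_univ g)
  exact Complex.normSq_eq_zero.mp h4

/-- The counting argument behind Gallagher's theorem. -/
theorem mul_irr_orthogonality [Fintype (Cfsg.IrrCharacter G)] (e : Cfsg.IrrCharacter G → ℕ)
    {χ : G → ℂ} (hχ : Cfsg.IsCharacter G χ) (hχ1 : χ 1 ≠ 0)
    (hnorm : Cfsg.classInner (∑ β, e β • ((β : G → ℂ) * χ)) (∑ β, e β • ((β : G → ℂ) * χ))
      = ((∑ β, e β ^ 2 : ℕ) : ℂ)) :
    (∀ β, e β ≠ 0 → Cfsg.IsIrrCharacter G ((β : G → ℂ) * χ)) ∧
      ∀ β γ, e β ≠ 0 → e γ ≠ 0 → β ≠ γ →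
        Cfsg.classInner ((β : G → ℂ) * χ) ((γ : G → ℂ) * χ) = 0 := by
  classical
  have hch : ∀ β : Cfsg.IrrCharacter G, Cfsg.IsCharacter G ((β : G → ℂ) * χ) :=
    fun β => IsCharacter.mul (IsIrrCharacter.isCharacter β.2) hχ
  have hex : ∀ β γ : Cfsg.IrrCharacter G, ∃ n : ℕ,
      Cfsg.classInner ((β : G → ℂ) * χ) ((γ : G → ℂ) * χ) = n :=
    fun β γ => IsCharacter.classInner_nat (hch β) (hch γ)
  choose a ha using hex
  have hdiag : ∀ β, 1 ≤ a β β := by
    intro β
    by_contra hlt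
    have h0 : a β β = 0 := by omega
    have h1 := ha β β
    rw [h0, Nat.cast_zero] at h1
    have h2 := eq_zero_of_classInner_self_eq_zero h1
    have h3 := congrFun h2 1
    rw [Pi.mul_apply, Pi.zero_apply] at h3
    rcases mul_eq_zero.mp h3 with h | h
    · exact IsIrrCharacter.apply_one_ne_zero β.2 h
    · exact hχ1 h
  -- expand the norm
  have hexp : Cfsg.classInner (∑ β, e β • ((β : G → ℂ) * χ)) (∑ β, e β • ((β : G → ℂ) * χ))
      = ((∑ β, ∑ γ, e β * e γ * a β γ : ℕ) : ℂ) := by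
    rw [classInner_sum_left]
    push_cast
    apply Finset.sum_congr rfl
    intro β _
    rw [classInner_sum_right]
    apply Finset.sum_congr rfl
    intro γ _
    rw [← Nat.cast_smul_eq_nsmul ℂ, ← Nat.cast_smul_eq_nsmul ℂ, classInner_smul_left,
      classInner_smul_right, ha β γ, Complex.conj_natCast]
    ring
  rw [hexp] at hnorm
  have hnat : ∑ β, ∑ γ, e β * e γ * a β γ = ∑ β, e β ^ 2 := by exact_mod_cast hnorm
  have hle : ∀ β ∈ (Finset.univ : Finset (Cfsg.IrrCharacter G)),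
      e β ^ 2 ≤ ∑ γ, e β * e γ * a β γ := by
    intro β _
    calc e β ^ 2 ≤ e β * e β * a β β := by
          rw [sq]
          exact Nat.le_mul_of_pos_right _ (hdiag β)
      _ ≤ ∑ γ, e β * e γ * a β γ :=
          Finset.single_le_sum (f := fun γ => e β * e γ * a β γ) (fun _ _ => Nat.zero_le _)
            (Finset.mem_univ β)
  have heq := (Finset.sum_eq_sum_iff_of_le hle).mp hnat.symm
  have hrow : ∀ β, e β ≠ 0 → a β β = 1 ∧ ∀ γ, γ ≠ β → e γ * a β γ = 0 := by
    intro β hβ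
    have h1 := heq β (Finset.mem_univ β)
    have h2 : ∑ γ, e γ * a β γ = e β := by
      have : ∑ γ, e β * e γ * a β γ = e β * ∑ γ, e γ * a β γ := by
        rw [Finset.mul_sum]
        apply Finset.sum_congr rfl
        intro γ _
        ring
      rw [this, sq] at h1
      exact (Nat.eq_of_mul_eq_mul_left (Nat.pos_of_ne_zero hβ) h1).symm
    rw [← Finset.add_sum_erase Finset.univ (fun γ => e γ * a β γ) (Finset.mem_univ β)] at h2
    have h3 : e β ≤ e β * a β β := Nat.le_mul_of_pos_right _ (hdiag β)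
    have h4 : e β * a β β = e β := by omega
    have h5 : ∑ γ ∈ Finset.univ.erase β, e γ * a β γ = 0 := by omega
    refine ⟨?_, ?_⟩
    · have : e β * a β β = e β * 1 := by rw [h4, mul_one]
      exact Nat.eq_of_mul_eq_mul_left (Nat.pos_of_ne_zero hβ) this
    · intro γ hγ
      exact (Finset.sum_eq_zero_iff.mp h5) γ (Finset.mem_erase.mpr ⟨hγ, Finset.mem_univ γ⟩)
  refine ⟨?_, ?_⟩
  · intro β hβ
    apply isIrrCharacter_of_classInner_self_eq_one (hch β)
    rw [ha β β, (hrow β hβ).1, Nat.cast_one]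
  · intro β γ hβ hγ hne
    rw [ha β γ]
    have h1 := (hrow β hβ).2 γ (Ne.symm hne)
    rcases Nat.mul_eq_zero.mp h1 with h | h
    · exact absurd h hγ
    · rw [h, Nat.cast_zero]

end

end Cfsg.Agent.Lib.Helper6
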