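import Mathlib
import Cfsg.Agent.Lib.Helper6.IndFun

set_option autoImplicit false

namespace Cfsg.Agent.Lib.Helper6

section

variable {G : Type*} [Group G]

theorem extendByZero_add (H : Subgroup G) (θ ψ : H → ℂ) (g : G) :
    Cfsg.extendByZero H (θ + ψ) g = Cfsg.extendByZero H θ g + Cfsg.extendByZero H ψ g := by
  by_cases hg : g ∈ H
  · rw [extendByZero_of_mem H _ hg, extendByZero_of_mem H _ hg, extendByZero_of_mem H _ hg]
    rfl
  · rw [extendByZero_of_not_mem H _ hg, extendByZero_of_not_mem H _ hg,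
      extendByZero_of_not_mem H _ hg, add_zero]

theorem extendByZero_smul (H : Subgroup G) (c : ℂ) (θ : H → ℂ) (g : G) :
    Cfsg.extendByZero H (c • θ) g = c * Cfsg.extendByZero H θ g := by
  by_cases hg : g ∈ H
  · rw [extendByZero_of_mem H _ hg, extendByZero_of_mem H _ hg]
    rfl
  · rw [extendByZero_of_not_mem H _ hg, extendByZero_of_not_mem H _ hg, mul_zero]

variable [Fintype G]

theorem indFun_add (H : Subgroup G) (θ ψ : H → ℂ) :
    Cfsg.indFun H (θ + ψ) = Cfsg.indFun H θ + Cfsg.indFun H ψ := by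
  funext g
  unfold Cfsg.indFun
  rw [Pi.add_apply, ← mul_add, ← Finset.sum_add_distrib]
  congr 1
  apply Finset.sum_congr rfl
  intro x _
  exact extendByZero_add H θ ψ _

theorem indFun_smul (H : Subgroup G) (c : ℂ) (θ : H → ℂ) :
    Cfsg.indFun H (c • θ) = c • Cfsg.indFun H θ := by
  funext g
  unfold Cfsg.indFun
  rw [Pi.smul_apply, smul_eq_mul, mul_left_comm]
  congr 1
  rw [Finset.mul_sum]
  apply Finset.sum_congr rfl
  intro x _
  exact extendByZero_smul H c θ _

theorem indFun_neg (H : Subgroup G) (θ : H → ℂ) :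
    Cfsg.indFun H (-θ) = - Cfsg.indFun H θ := by
  have h := indFun_smul H (-1) θ
  rw [neg_one_smul, neg_one_smul] at h
  exact h

theorem indFun_sub (H : Subgroup G) (θ ψ : H → ℂ) :
    Cfsg.indFun H (θ - ψ) = Cfsg.indFun H θ - Cfsg.indFun H ψ := by
  rw [sub_eq_add_neg, indFun_add, indFun_neg, sub_eq_add_neg]

theorem indFun_zero (H : Subgroup G) : Cfsg.indFun H (0 : H → ℂ) = 0 := by
  have h := indFun_smul H 0 (0 : H → ℂ)
  rw [zero_smul, zero_smul] at h
  exact h

theorem indFun_sum {ι : Type*} (H : Subgroup G) (s : Finset ι) (f : ι → H → ℂ) :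
    Cfsg.indFun H (∑ i ∈ s, f i) = ∑ i ∈ s, Cfsg.indFun H (f i) := by
  classical
  induction s using Finset.induction_on with
  | empty => simp only [Finset.sum_empty]; exact indFun_zero H
  | insert a s ha ih => rw [Finset.sum_insert ha, Finset.sum_insert ha, indFun_add, ih]

end

end Cfsg.Agent.Lib.Helper6
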