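import Mathlib
import Cfsg.Agent.Lib.Helper6.Schur
import Cfsg.Agent.Lib.Helper6.CharBasic
import Cfsg.Agent.Lib.Helper6.Orthogonality
import Cfsg.Agent.Lib.Helper6.DegreeDvd
import Cfsg.Agent.Lib.Helper6.ClassFun

set_option autoImplicit false

namespace Cfsg.Agent.Lib.Helper6

open Module
open scoped ComplexConjugate

section

variable {G : Type*} [Group G] [Finite G]
variable {V : Type*} [AddCommGroup V] [Module ℂ V]

/-- A combination of the operators `ρ g` with algebraic integer coefficients is integral. -/
theorem isIntegral_sum_smul_rep (ρ : Representation ℂ G V) {ι : Type*} (s : Finset ι)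
    (t : ι → G) (a : ι → ℂ) (ha : ∀ i ∈ s, IsIntegral ℤ (a i)) :
    IsIntegral ℤ (∑ i ∈ s, a i • ρ (t i)) := by
  classical
  let R : Subalgebra ℤ ℂ := integralClosure ℤ ℂ
  let L : MonoidAlgebra R G →ₐ[R] Module.End ℂ V := MonoidAlgebra.lift R (Module.End ℂ V) G ρ
  let a' : ι → R := fun i => if h : i ∈ s then ⟨a i, ha i h⟩ else 0
  let z : MonoidAlgebra R G := ∑ i ∈ s, MonoidAlgebra.single (t i) (a' i)
  have hz : L z = ∑ i ∈ s, a i • ρ (t i) := by
    simp only [z, L, map_sum, MonoidAlgebra.lift_single]
    apply Finset.sum_congr rfl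
    intro i hi
    simp only [a', dif_pos hi]
    rfl
  rw [← hz]
  have h1 : IsIntegral R (L z) := IsIntegral.map L (IsIntegral.of_finite R z)
  exact isIntegral_trans (R := ℤ) (A := R) _ h1

end

section

variable {G : Type*} [Group G] [Fintype G]
variable {V : Type*} [AddCommGroup V] [Module ℂ V] [FiniteDimensional ℂ V]

/-- The "class function" operator attached to the conjugate character is a scalar. -/
theorem sum_conj_character_smul_rep (ρ : Representation ℂ G V) [ρ.IsIrreducible] :
    ∑ g : G, conj (ρ.character g) • ρ g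
      = ((Nat.card G : ℂ) / (finrank ℂ V : ℂ)) • (LinearMap.id : V →ₗ[ℂ] V) := by
  have hcf : Cfsg.IsClassFunction G (fun g => conj (ρ.character g)) := by
    intro g h
    simp only [Representation.char_conj]
  have h1 := eq_trace_div_smul_id_of_comm ρ (opSum ρ (fun g => conj (ρ.character g)))
    (fun g => opSum_comm ρ _ hcf g)
  rw [trace_opSum] at h1
  have h2 := classInner_irr_self ρ
  unfold Cfsg.classInner at h2
  have hG := card_ne_zero_complex G
  have h3 : ∑ g : G, conj (ρ.character g) * ρ.character g = (Nat.card G : ℂ) := by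
    have : ∑ g : G, ρ.character g * conj (ρ.character g) = (Nat.card G : ℂ) := by
      field_simp at h2
      exact h2
    rw [← this]
    apply Finset.sum_congr rfl
    intro g _
    ring
  rw [h3] at h1
  exact h1

/-- Central elements act by scalars of norm one. -/
theorem exists_scalar_of_mem_center (ρ : Representation ℂ G V) [ρ.IsIrreducible] {z : G}
    (hz : z ∈ Subgroup.center G) :
    ∃ c : ℂ, ρ z = c • LinearMap.id ∧ conj c * c = 1 := by
  have hcomm : ∀ g : G, ρ z * ρ g = ρ g * ρ z := by
    intro g
    rw [← map_mul, ← map_mul, Subgroup.mem_center_iff.mp hz g]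
  obtain ⟨c, hc⟩ := exists_smul_id_of_comm ρ (ρ z) hcomm
  refine ⟨c, hc, ?_⟩
  have hnt := nontrivial_of_isIrreducible ρ
  have hpow : c ^ orderOf z = 1 := by
    have h1 := rep_pow_orderOf ρ z
    rw [hc] at h1
    obtain ⟨v, hv⟩ := exists_ne (0 : V)
    have h2 := congrArg (fun T : Module.End ℂ V => T v) h1
    have h3 : ((c • (LinearMap.id : V →ₗ[ℂ] V)) ^ orderOf z) v = c ^ orderOf z • v := by
      rw [smul_pow]
      have : (LinearMap.id : V →ₗ[ℂ] V) ^ orderOf z = 1 := one_pow _
      rw [this]
      simp
    simp only [h3] at h2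
    have h4 : (c ^ orderOf z - 1) • v = 0 := by
      rw [sub_smul, h2]
      simp
    rcases smul_eq_zero.mp h4 with h | h
    · exact sub_eq_zero.mp h
    · exact absurd h hv
  have hnorm := norm_eq_one_of_pow_eq_one (orderOf_pos z) hpow
  rw [Complex.conj_mul', hnorm]
  simp

/-- The degree of an irreducible representation divides the index of the centre. -/
theorem finrank_dvd_index_center (ρ : Representation ℂ G V) [ρ.IsIrreducible] :
    finrank ℂ V ∣ (Subgroup.center G).index := by
  classical
  have hnt := nontrivial_of_isIrreducible ρ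
  set Z := Subgroup.center G with hZ
  have hpos : finrank ℂ V ≠ 0 := (finrank_pos_of_isIrreducible ρ).ne'
  have hposc : (finrank ℂ V : ℂ) ≠ 0 := by exact_mod_cast hpos
  apply nat_dvd_of_isIntegral_div hpos
  let F : G → Module.End ℂ V := fun g => conj (ρ.character g) • ρ g
  have hF : ∀ (g : G) (z : Z), F (g * z) = F g := by
    intro g z
    obtain ⟨c, hc, hcc⟩ := exists_scalar_of_mem_center ρ z.2
    simp only [F]
    have h1 : ρ (g * z) = c • ρ g := by
      rw [map_mul, hc]
      ext v
      simp
    have h2 : ρ.character (g * z) = c * ρ.character g := by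
      unfold Representation.character
      rw [h1, map_smul, smul_eq_mul]
    rw [h1, h2, map_mul, smul_smul]
    congr 1
    calc conj c * conj (ρ.character g) * c = (conj c * c) * conj (ρ.character g) := by ring
      _ = conj (ρ.character g) := by rw [hcc, one_mul]
  -- coset decomposition
  let e : (G ⧸ Z) × Z ≃ G :=
    { toFun := fun p => p.1.out * p.2
      invFun := fun g => (QuotientGroup.mk g, ⟨(QuotientGroup.mk g : G ⧸ Z).out⁻¹ * g,
        QuotientGroup.eq.mp (QuotientGroup.out_eq' (QuotientGroup.mk g : G ⧸ Z))⟩)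
      left_inv := by
        rintro ⟨q, z⟩
        have h1 : (QuotientGroup.mk (q.out * (z : G)) : G ⧸ Z) = q := by
          rw [QuotientGroup.mk_mul_of_mem _ z.2, QuotientGroup.out_eq']
        apply Prod.ext
        · exact h1
        · apply Subtype.ext
          simp only
          rw [h1]
          group
      right_inv := by
        intro g
        simp }
  have : Fintype (G ⧸ Z) := Fintype.ofFinite _
  have hsum : ∑ g : G, F g = (Nat.card Z : ℂ) • ∑ q : G ⧸ Z, F q.out := by
    rw [← Equiv.sum_comp e F, Fintype.sum_prod_type, Finset.smul_sum]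
    apply Finset.sum_congr rfl
    intro q _
    have : ∀ z : Z, F (e (q, z)) = F q.out := fun z => hF q.out z
    rw [Finset.sum_congr rfl (fun z _ => this z), Finset.sum_const, Finset.card_univ,
      Nat.card_eq_fintype_card, ← Nat.cast_smul_eq_nsmul ℂ]
  have hint : IsIntegral ℤ (∑ q : G ⧸ Z, F q.out) :=
    isIntegral_sum_smul_rep ρ Finset.univ (fun q : G ⧸ Z => q.out)
      (fun q => conj (ρ.character q.out))
      (fun q _ => isIntegral_conj (isIntegral_character ρ q.out))
  have hZc : (Nat.card Z : ℂ) ≠ 0 := card_ne_zero_complex Z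
  have hx : ∑ q : G ⧸ Z, F q.out
      = algebraMap ℂ (Module.End ℂ V) (((Z.index : ℕ) : ℂ) / ((finrank ℂ V : ℕ) : ℂ)) := by
    have h1 := sum_conj_character_smul_rep ρ
    have h2 : (Nat.card Z : ℂ) • ∑ q : G ⧸ Z, F q.out
        = ((Nat.card G : ℂ) / (finrank ℂ V : ℂ)) • (LinearMap.id : V →ₗ[ℂ] V) := by
      rw [← hsum]; exact h1
    have h3 : ∑ q : G ⧸ Z, F q.out
        = (Nat.card Z : ℂ)⁻¹ • (((Nat.card G : ℂ) / (finrank ℂ V : ℂ)) •
          (LinearMap.id : V →ₗ[ℂ] V)) := by
      rw [← h2, smul_smul, inv_mul_cancel₀ hZc, one_smul]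
    rw [h3, smul_smul, Algebra.algebraMap_eq_smul_one]
    congr 1
    have h4 : (Nat.card G : ℂ) = (Z.index : ℂ) * (Nat.card Z : ℂ) := by
      rw [← Nat.cast_mul, Subgroup.index_mul_card]
    rw [h4]
    field_simp
  rw [hx] at hint
  exact (isIntegral_algebraMap_iff (FaithfulSMul.algebraMap_injective ℂ (Module.End ℂ V))).mp hint

end

end Cfsg.Agent.Lib.Helper6
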