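import Mathlib
import Cfsg.Prelude.Def_Transfer
import Cfsg.Agent.Lib.Helper6.ScalarIndex
import Cfsg.Agent.Lib.Helper6.Ramified
import Cfsg.Agent.Lib.Helper6.Linear
import Cfsg.Agent.Lib.Helper6.Regular

set_option autoImplicit false

namespace Cfsg.Agent.Lib.Helper6

open Module
open scoped ComplexConjugate

section

variable {G : Type*} [Group G] [Fintype G]
variable {V : Type*} [AddCommGroup V] [Module ℂ V] [FiniteDimensional ℂ V]

/-- An irreducible representation trivial on the commutator subgroup is one-dimensional. -/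
theorem finrank_eq_one_of_commutator_le_ker (ρ : Representation ℂ G V) [ρ.IsIrreducible]
    (h : ∀ z ∈ commutator G, ρ z = 1) : finrank ℂ V = 1 := by
  have hcomm : ∀ x y : G, ρ x * ρ y = ρ y * ρ x := by
    intro x y
    have hc : x⁻¹ * y⁻¹ * x * y ∈ commutator G := by
      rw [commutator_def]
      have := Subgroup.commutator_mem_commutator (Subgroup.mem_top x⁻¹) (Subgroup.mem_top y⁻¹)
      rw [commutatorElement_def] at this
      simpa using this
    have h1 : x * y = y * x * (x⁻¹ * y⁻¹ * x * y) := by group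
    rw [← map_mul, h1, map_mul, h _ hc, mul_one, map_mul]
  have hscal : ∀ z ∈ (⊤ : Subgroup G), ∃ c : ℂ, ρ z = c • LinearMap.id := by
    intro z _
    exact exists_smul_id_of_comm ρ (ρ z) (fun g => hcomm z g)
  have := finrank_dvd_index_of_scalar ρ ⊤ hscal
  rw [Subgroup.index_top] at this
  exact Nat.dvd_one.mp this

end

section

variable {P : Type*} [Group P] [Fintype P]

/-- Nonlinear irreducible characters of extraspecial groups vanish off the centre and have
degree squared equal to the index of the centre. -/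
theorem extraspecial_nonlinear (p : ℕ) [Fact p.Prime] (hP : Cfsg.IsExtraspecial p P)
    {χ : P → ℂ} (hχ : Cfsg.IsIrrCharacter P χ) (hχ1 : χ 1 ≠ 1) :
    (∀ x : P, x ∉ Subgroup.center P → χ x = 0) ∧ (p : ℂ) * χ 1 ^ 2 = (Nat.card P : ℂ) := by
  classical
  obtain ⟨⟨_, _, hcomm⟩, hZcard⟩ := hP
  have hp : p.Prime := Fact.out
  have hirr := hχ
  obtain ⟨m, ρ, hρirr, hρ⟩ := hχ
  have hnt := nontrivial_of_isIrreducible ρ
  have hd1 : finrank ℂ (Fin m → ℂ) ≠ 1 := by
    intro h1
    apply hχ1
    rw [← hρ, Representation.char_one, h1]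
    simp
  -- central elements act by scalars, nontrivially when not the identity
  have hscal : ∀ z : P, z ∈ Subgroup.center P → z ≠ 1 →
      ∃ c : ℂ, ρ z = c • LinearMap.id ∧ conj c * c = 1 ∧ c ≠ 1 := by
    intro z hz hz1
    obtain ⟨c, hc, hcc⟩ := exists_scalar_of_mem_center ρ hz
    refine ⟨c, hc, hcc, ?_⟩
    intro hc1
    apply hd1
    apply finrank_eq_one_of_commutator_le_ker ρ
    intro w hw
    rw [hcomm] at hw
    -- the centre is generated by `z`
    have : Fact (Nat.card (Subgroup.center P)).Prime := ⟨by rw [hZcard]; exact hp⟩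
    have hmem : (⟨w, hw⟩ : Subgroup.center P) ∈ Subgroup.zpowers (⟨z, hz⟩ : Subgroup.center P) := by
      apply mem_zpowers_of_prime_card (p := Nat.card (Subgroup.center P)) rfl
      intro h
      exact hz1 (congrArg Subtype.val h)
    obtain ⟨k, hk⟩ := Subgroup.mem_zpowers_iff.mp hmem
    have hk' : z ^ k = w := by
      have := congrArg Subtype.val hk
      simpa using this
    have hzker : z ∈ MonoidHom.ker ρ := by
      rw [MonoidHom.mem_ker, hc, hc1, one_smul]
      rfl
    have hle : Subgroup.zpowers z ≤ MonoidHom.ker ρ := Subgroup.zpowers_le.mpr hzker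
    exact MonoidHom.mem_ker.mp (hle ⟨k, hk'⟩)
  -- vanishing off the centre
  have hcf := IsIrrCharacter.isClassFunction hirr
  have hvan : ∀ x : P, x ∉ Subgroup.center P → χ x = 0 := by
    intro x hx
    rw [Subgroup.mem_center_iff] at hx
    push Not at hx
    obtain ⟨y, hy⟩ := hx
    set z : P := y⁻¹ * x * y * x⁻¹ with hz
    have hzc : z ∈ Subgroup.center P := by
      rw [← hcomm, commutator_def]
      have := Subgroup.commutator_mem_commutator (Subgroup.mem_top y⁻¹) (Subgroup.mem_top x)
      rw [commutatorElement_def] at this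
      simpa [hz] using this
    have hz1 : z ≠ 1 := by
      intro h1
      apply hy
      have : y⁻¹ * x * y * x⁻¹ = 1 := h1
      calc y * x = y * (y⁻¹ * x * y * x⁻¹) * x := by rw [this]; group
        _ = x * y := by group
    obtain ⟨c, hc, _, hc1⟩ := hscal z hzc hz1
    have h1 : χ (z * x) = c * χ x := by
      rw [← hρ]
      unfold Representation.character
      rw [map_mul, hc, smul_mul_assoc, map_smul, smul_eq_mul]
      rfl
    have h2 : z * x = y⁻¹ * x * y := by rw [hz]; group
    have h3 : χ (y⁻¹ * x * y) = χ x := by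
      have := hcf x y⁻¹
      rwa [inv_inv] at this
    rw [h2, h3] at h1
    have h4 : (c - 1) * χ x = 0 := by rw [sub_mul, ← h1, one_mul, sub_self]
    rcases mul_eq_zero.mp h4 with h | h
    · exact absurd (sub_eq_zero.mp h) hc1
    · exact h
  refine ⟨hvan, ?_⟩
  -- the norm computation
  have hsplit := sum_norm_sq_split (Subgroup.center P) hirr
  have hsum : ∑ n : Subgroup.center P, χ n * conj (χ n) = (Nat.card P : ℂ) := by
    rw [← hsplit, left_eq_add]
    apply Finset.sum_eq_zero
    intro g hg
    have hg' : g ∉ Subgroup.center P := by simpa using hg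
    rw [hvan g hg', zero_mul]
  have h1 : ∀ z : Subgroup.center P, χ z * conj (χ z) = χ 1 ^ 2 := by
    intro z
    obtain ⟨c, hc, hcc⟩ := exists_scalar_of_mem_center ρ z.2
    have h2 : χ z = c * χ 1 := by
      rw [← hρ]
      unfold Representation.character
      rw [hc, map_smul, smul_eq_mul, map_one]
      rfl
    have h3 : conj (χ 1) = χ 1 := by
      rw [← hρ, Representation.char_one, Complex.conj_natCast]
    rw [h2, map_mul, h3]
    calc c * χ 1 * (conj c * χ 1) = (conj c * c) * χ 1 ^ 2 := by ring
      _ = χ 1 ^ 2 := by rw [hcc, one_mul]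
  rw [Finset.sum_congr rfl (fun z _ => h1 z), Finset.sum_const, Finset.card_univ,
    ← Nat.card_eq_fintype_card, hZcard, nsmul_eq_mul] at hsum
  exact hsum

/-- Degree of a nonlinear irreducible character of an extraspecial group. -/
theorem extraspecial_nonlinear_degree (p n : ℕ) [Fact p.Prime] (hP : Cfsg.IsExtraspecial p P)
    (hcard : Nat.card P = p ^ (2 * n + 1))
    {χ : P → ℂ} (hχ : Cfsg.IsIrrCharacter P χ) (hχ1 : χ 1 ≠ 1) : χ 1 = (p : ℂ) ^ n := by
  have hp : p.Prime := Fact.out
  obtain ⟨d, hd⟩ := IsCharacter.apply_one_eq_natCast (IsIrrCharacter.isCharacter hχ)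
  obtain ⟨_, h2⟩ := extraspecial_nonlinear p hP hχ hχ1
  rw [hcard, hd] at h2
  have h3 : p * d ^ 2 = p ^ (2 * n + 1) := by exact_mod_cast h2
  have h4 : d ^ 2 = (p ^ n) ^ 2 := by
    have : p ^ (2 * n + 1) = p * (p ^ n) ^ 2 := by ring
    rw [this] at h3
    exact Nat.eq_of_mul_eq_mul_left hp.pos h3
  have h5 : d = p ^ n := Nat.pow_left_injective (n := 2) (by norm_num) h4
  rw [hd, h5]
  push_cast
  rfl

end

end Cfsg.Agent.Lib.Helper6
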