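import Mathlib
import Cfsg.Agent.Lib.Helper6.IndFun
import Cfsg.Agent.Lib.Helper6.Constituent
import Cfsg.Agent.Lib.Helper6.EquivOfChar
import Cfsg.Agent.Lib.Helper6.Extraspecial
import Cfsg.Agent.S0147

set_option autoImplicit false

namespace Cfsg.Agent.Lib.Helper6

open Module
open scoped ComplexConjugate

section

variable {G : Type*} [Group G]

/-- Inducing a class function from the whole group does nothing. -/
theorem indFun_top [Fintype G] {χ : G → ℂ} (hχ : Cfsg.IsClassFunction G χ) :
    Cfsg.indFun (⊤ : Subgroup G) (fun h : (⊤ : Subgroup G) => χ h) = χ := by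
  funext g
  unfold Cfsg.indFun
  have h1 : ∀ x : G, Cfsg.extendByZero (⊤ : Subgroup G) (fun h : (⊤ : Subgroup G) => χ h)
      (x⁻¹ * g * x) = χ g := by
    intro x
    rw [extendByZero_of_mem _ _ (Subgroup.mem_top _)]
    have := hχ g x⁻¹
    simpa using this
  simp_rw [h1]
  rw [Finset.sum_const, Finset.card_univ, nsmul_eq_mul, Nat.card_congr Subgroup.topEquiv.toEquiv,
    Nat.card_eq_fintype_card]
  have : (Fintype.card G : ℂ) ≠ 0 := by
    rw [← Nat.card_eq_fintype_card]; exact card_ne_zero_complex G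
  field_simp

/-- Induction only depends on the subgroup up to equality. -/
theorem indFun_congr_subgroup [Fintype G] (H₁ H₂ : Subgroup G) (h : H₁ = H₂) (θ₁ : H₁ → ℂ)
    (θ₂ : H₂ → ℂ) (hθ : ∀ (x : G) (h1 : x ∈ H₁) (h2 : x ∈ H₂), θ₁ ⟨x, h1⟩ = θ₂ ⟨x, h2⟩) :
    Cfsg.indFun H₁ θ₁ = Cfsg.indFun H₂ θ₂ := by
  subst h
  congr 1
  funext ⟨x, hx⟩
  exact hθ x hx hx

/-- A function on a subgroup `K` induced from a linear character of a subgroup of `K` induces to
a function on `G` that is induced from a linear character of a subgroup of `G`. -/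
theorem exists_linear_induced_of_subgroup [Fintype G] (K : Subgroup G) [Fintype K] (ψ : K → ℂ)
    (h : ∃ (H' : Subgroup K) (lam' : H' →* ℂˣ), ψ = Cfsg.indFun H' (fun h => (lam' h : ℂ))) :
    ∃ (H : Subgroup G) (lam : H →* ℂˣ),
      Cfsg.indFun K ψ = Cfsg.indFun H (fun h => (lam h : ℂ)) := by
  obtain ⟨H', lam', rfl⟩ := h
  let H : Subgroup G := H'.map K.subtype
  let e : H' ≃* H := Subgroup.equivMapOfInjective H' K.subtype Subtype.coe_injective
  let lam : H →* ℂˣ := lam'.comp e.symm.toMonoidHom
  have hHK : H ≤ K := by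
    rintro x ⟨y, _, rfl⟩
    exact y.2
  refine ⟨H, lam, ?_⟩
  rw [← Cfsg.Agent.S0147.result H K hHK (fun h => (lam h : ℂ))]
  congr 1
  have hsub : H.subgroupOf K = H' := by
    ext x
    rw [Subgroup.mem_subgroupOf]
    constructor
    · rintro ⟨y, hy, hyx⟩
      have : y = x := Subtype.ext hyx
      rw [← this]; exact hy
    · intro hx
      exact ⟨x, hx, rfl⟩
  symm
  apply indFun_congr_subgroup _ _ hsub
  intro x h1 h2
  have h3 : e.symm ⟨(x : G), Subgroup.mem_subgroupOf.mp h1⟩ = ⟨x, h2⟩ := by
    rw [MulEquiv.symm_apply_eq]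
    apply Subtype.ext
    rfl
  change ((lam' (e.symm ⟨(x : G), _⟩) : ℂˣ) : ℂ) = _
  rw [h3]

end

section

variable {G : Type*} [Group G] [Fintype G]

/-- An irreducible constituent of a representation with commuting image is one-dimensional. -/
theorem finrank_eq_one_of_constituent_of_commute {U W : Type*} [AddCommGroup U] [Module ℂ U]
    [FiniteDimensional ℂ U] [AddCommGroup W] [Module ℂ W] [FiniteDimensional ℂ W]
    (τ : Representation ℂ G U) [τ.IsIrreducible] (σ : Representation ℂ G W)
    (hcomm : ∀ x y : G, σ x * σ y = σ y * σ x)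
    (h : Cfsg.classInner σ.character τ.character ≠ 0) : finrank ℂ U = 1 := by
  obtain ⟨f, hf⟩ := exists_injective_intertwining τ σ h
  have hτ : ∀ x y : G, τ x * τ y = τ y * τ x := by
    intro x y
    ext v
    apply hf
    change f (τ x (τ y v)) = f (τ y (τ x v))
    rw [f.isIntertwining, f.isIntertwining, f.isIntertwining, f.isIntertwining]
    have := congrArg (fun T : Module.End ℂ W => T (f v)) (hcomm x y)
    exact this
  apply finrank_eq_one_of_commutator_le_ker τ
  have hle : commutator G ≤ MonoidHom.ker (τ : G →* Module.End ℂ U) := by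
    rw [commutator_def, Subgroup.commutator_le]
    intro a _ b _
    rw [MonoidHom.mem_ker, commutatorElement_def, map_mul, map_mul, map_mul, hτ a b,
      mul_assoc (τ b), ← map_mul τ a, mul_inv_cancel, map_one, mul_one, ← map_mul,
      mul_inv_cancel, map_one]
  intro z hz
  exact MonoidHom.mem_ker.mp (hle hz)

end

end Cfsg.Agent.Lib.Helper6
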