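import Mathlib
import Cfsg.Agent.Lib.Helper6.IndLinear
import Cfsg.Agent.Lib.Helper6.Gallagher
import Cfsg.Agent.Lib.Helper6.MGroup
import Cfsg.Agent.Lib.Helper6.CharOps

set_option autoImplicit false

namespace Cfsg.Agent.Lib.Helper6

section

variable {G : Type*} [Group G] [Fintype G]

/-- `f` is an integer combination of functions induced from characters of subgroups
satisfying `P`. -/
def IndCharComb (P : Subgroup G → Prop) (f : G → ℂ) : Prop :=
  ∃ l : List ((E : Subgroup G) × ((E → ℂ) × ℤ)),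
    (∀ t ∈ l, P t.1 ∧ Cfsg.IsCharacter t.1 t.2.1) ∧
    f = (l.map fun t => (t.2.2 : ℂ) • Cfsg.indFun t.1 t.2.1).sum

theorem IndCharComb.zero (P : Subgroup G → Prop) : IndCharComb P (0 : G → ℂ) :=
  ⟨[], by simp, by simp⟩

theorem IndCharComb.add {P : Subgroup G → Prop} {f g : G → ℂ} (hf : IndCharComb P f)
    (hg : IndCharComb P g) : IndCharComb P (f + g) := by
  obtain ⟨l₁, h₁, rfl⟩ := hf
  obtain ⟨l₂, h₂, rfl⟩ := hg
  refine ⟨l₁ ++ l₂, ?_, ?_⟩
  · intro t ht
    rcases List.mem_append.mp ht with h | h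
    · exact h₁ t h
    · exact h₂ t h
  · rw [List.map_append, List.sum_append]

theorem IndCharComb.single {P : Subgroup G → Prop} (E : Subgroup G) (hE : P E) {φ : E → ℂ}
    (hφ : Cfsg.IsCharacter E φ) (c : ℤ) : IndCharComb P ((c : ℂ) • Cfsg.indFun E φ) :=
  ⟨[⟨E, φ, c⟩], by simpa using ⟨hE, hφ⟩, by simp⟩

theorem IndCharComb.sum {P : Subgroup G → Prop} {ι : Type*} (s : Finset ι) (f : ι → G → ℂ)
    (hf : ∀ i ∈ s, IndCharComb P (f i)) : IndCharComb P (∑ i ∈ s, f i) := by
  classical
  induction s using Finset.induction_on with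
  | empty => simp only [Finset.sum_empty]; exact IndCharComb.zero P
  | insert a s ha ih =>
    rw [Finset.sum_insert ha]
    exact IndCharComb.add (hf a (Finset.mem_insert_self a s))
      (ih (fun i hi => hf i (Finset.mem_insert_of_mem hi)))

theorem IndCharComb.intCast_smul {P : Subgroup G → Prop} {f : G → ℂ} (hf : IndCharComb P f)
    (c : ℤ) : IndCharComb P ((c : ℂ) • f) := by
  obtain ⟨l, h, rfl⟩ := hf
  refine ⟨l.map (fun t => ⟨t.1, t.2.1, c * t.2.2⟩), ?_, ?_⟩
  · intro t ht
    obtain ⟨t', ht', rfl⟩ := List.mem_map.mp ht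
    exact h t' ht'
  · rw [List.smul_sum, List.map_map, List.map_map]
    congr 1
    apply List.map_congr_left
    intro t _
    simp only [Function.comp_apply]
    rw [smul_smul]
    push_cast
    rfl

theorem IndCharComb.neg {P : Subgroup G → Prop} {f : G → ℂ} (hf : IndCharComb P f) :
    IndCharComb P (-f) := by
  have := IndCharComb.intCast_smul hf (-1)
  simpa using this

theorem IndCharComb.sub {P : Subgroup G → Prop} {f g : G → ℂ} (hf : IndCharComb P f)
    (hg : IndCharComb P g) : IndCharComb P (f - g) := by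
  rw [sub_eq_add_neg]
  exact IndCharComb.add hf (IndCharComb.neg hg)

theorem IndCharComb.mono {P Q : Subgroup G → Prop} (hPQ : ∀ A, P A → Q A) {f : G → ℂ}
    (hf : IndCharComb P f) : IndCharComb Q f := by
  obtain ⟨l, h, rfl⟩ := hf
  exact ⟨l, fun t ht => ⟨hPQ _ (h t ht).1, (h t ht).2⟩, rfl⟩

/-- Sum form of the predicate. -/
theorem IndCharComb.exists_sum {P : Subgroup G → Prop} {f : G → ℂ} (hf : IndCharComb P f) :
    ∃ (n : ℕ) (E : Fin n → Subgroup G) (φ : ∀ i, E i → ℂ) (c : Fin n → ℤ),
      (∀ i, P (E i) ∧ Cfsg.IsCharacter (E i) (φ i)) ∧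
      f = ∑ i, (c i : ℂ) • Cfsg.indFun (E i) (φ i) := by
  obtain ⟨l, h, rfl⟩ := hf
  refine ⟨l.length, fun i => (l.get i).1, fun i => (l.get i).2.1, fun i => (l.get i).2.2,
    fun i => h _ (List.get_mem l i), ?_⟩
  have := List.sum_ofFn (f := fun i : Fin l.length =>
    ((l.get i).2.2 : ℂ) • Cfsg.indFun (l.get i).1 (l.get i).2.1)
  rw [← this]
  congr 1
  apply List.ext_get
  · simp
  · intro n h1 h2
    simp

/-- The span is an ideal: multiplication by characters of the group. -/
theorem IndCharComb.mul_char {P : Subgroup G → Prop} {f : G → ℂ} (hf : IndCharComb P f)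
    {χ : G → ℂ} (hχ : Cfsg.IsCharacter G χ) : IndCharComb P (f * χ) := by
  obtain ⟨n, E, φ, c, hE, rfl⟩ := IndCharComb.exists_sum hf
  rw [Finset.sum_mul]
  apply IndCharComb.sum
  intro i _
  rw [smul_mul_assoc, ← indFun_mul_restrict (E i) (φ i) (IsCharacter.isClassFunction hχ)]
  exact IndCharComb.single (E i) (hE i).1
    (IsCharacter.mul (hE i).2 (IsCharacter.restrict (E i) hχ)) (c i)

/-- Transitivity of induction, with the inner subgroup transported to the big group. -/
theorem indFun_indFun_map (K : Subgroup G) [Fintype K] (D : Subgroup K) (φ : D → ℂ) :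
    Cfsg.indFun K (Cfsg.indFun D φ)
      = Cfsg.indFun (D.map K.subtype) (fun h =>
          φ ((Subgroup.equivMapOfInjective D K.subtype Subtype.coe_injective).symm h)) := by
  set e := Subgroup.equivMapOfInjective D K.subtype Subtype.coe_injective with he
  have hHK : D.map K.subtype ≤ K := Subgroup.map_subtype_le D
  rw [← Cfsg.Agent.S0147.result (D.map K.subtype) K hHK (fun h => φ (e.symm h))]
  congr 1
  have hsub : (D.map K.subtype).subgroupOf K = D :=
    Subgroup.comap_map_eq_self_of_injective K.subtype_injective D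
  symm
  apply indFun_congr_subgroup _ _ hsub
  intro x h1 h2
  have h3 : e.symm ⟨(x : G), Subgroup.mem_subgroupOf.mp h1⟩ = ⟨x, h2⟩ := by
    rw [MulEquiv.symm_apply_eq]
    apply Subtype.ext
    rfl
  change φ (e.symm ⟨(x : G), _⟩) = _
  rw [h3]

/-- Induction maps the span of a subgroup into the span of the group. -/
theorem IndCharComb.indFun {P : Subgroup G → Prop} (K : Subgroup G) [Fintype K]
    {P' : Subgroup K → Prop} (hP : ∀ D : Subgroup K, P' D → P (D.map K.subtype)) {f : K → ℂ}
    (hf : IndCharComb P' f) : IndCharComb P (Cfsg.indFun K f) := by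
  obtain ⟨n, E, φ, c, hE, rfl⟩ := IndCharComb.exists_sum hf
  rw [indFun_sum]
  apply IndCharComb.sum
  intro i _
  rw [indFun_smul, indFun_indFun_map]
  apply IndCharComb.single _ (hP _ (hE i).1)
  exact IsCharacter.comp
    (Subgroup.equivMapOfInjective (E i) K.subtype Subtype.coe_injective).symm.toMonoidHom (hE i).2

end

end Cfsg.Agent.Lib.Helper6
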