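import Mathlib
import Cfsg.Agent.Lib.Helper6.Ramified
import Cfsg.Agent.S0146

set_option autoImplicit false

namespace Cfsg.Agent.Lib.Helper6

open scoped ComplexConjugate

section

variable {G : Type*} [Group G] [Fintype G]

/-- Clifford's theorem for an invariant character, in an intermediate subgroup `H ≤ T ≤ G`
with `H` normal in `G`. -/
theorem restrict_eq_smul_of_invariant_of_le (H : Subgroup G) [Fintype H] (hN : H.Normal)
    (T : Subgroup G) [Fintype T] (hHT : H ≤ T)
    {ψ : T → ℂ} (hψ : Cfsg.IsIrrCharacter T ψ) {ϑ : H → ℂ} (hϑ : Cfsg.IsIrrCharacter H ϑ)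
    (hinv : ∀ t ∈ T, conjFun H hN ϑ t = ϑ)
    (hcon : Cfsg.classInner (fun n : H => ψ ⟨n, hHT n.2⟩) ϑ ≠ 0) :
    (fun n : H => ψ ⟨n, hHT n.2⟩) = Cfsg.classInner (fun n : H => ψ ⟨n, hHT n.2⟩) ϑ • ϑ := by
  classical
  have hK : (H.subgroupOf T).Normal := hN.subgroupOf T
  let e : (H.subgroupOf T) ≃* H := Subgroup.subgroupOfEquivOfLe hHT
  have : Fintype (H.subgroupOf T) := Fintype.ofFinite _
  have hϑ' : Cfsg.IsIrrCharacter (H.subgroupOf T) (fun k => ϑ (e k)) :=
    IsIrrCharacter.comp_mulEquiv e hϑ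
  have hres : (fun k : H.subgroupOf T => ψ k)
      = fun k => (fun n : H => ψ ⟨n, hHT n.2⟩) (e k) := by
    funext k
    rfl
  have hinner : Cfsg.classInner (fun k : H.subgroupOf T => ψ k) (fun k => ϑ (e k))
      = Cfsg.classInner (fun n : H => ψ ⟨n, hHT n.2⟩) ϑ := by
    rw [hres]
    exact classInner_comp_mulEquiv e (fun n : H => ψ ⟨n, hHT n.2⟩) ϑ
  have hinv' : ∀ t : T, conjFun (H.subgroupOf T) hK (fun k => ϑ (e k)) t = fun k => ϑ (e k) := by
    intro t
    funext k
    rw [conjFun_apply]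
    have h1 := congrFun (hinv t t.2) (e k)
    rw [conjFun_apply] at h1
    rw [← h1]
    rfl
  have h := restrict_eq_smul_of_invariant (H.subgroupOf T) hK hψ hϑ' hinv' (by rw [hinner]; exact hcon)
  rw [hinner] at h
  funext n
  have h2 := congrFun h (e.symm n)
  simp only [Pi.smul_apply, MulEquiv.apply_symm_apply] at h2
  rw [Pi.smul_apply, ← h2]
  rfl

/-- Restriction to a normal subgroup `H ≤ T` of a function induced from `T`. -/
theorem indFun_restrict_of_le_normal (H : Subgroup G) (hN : H.Normal)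
    (T : Subgroup G) (hHT : H ≤ T) (ψ : T → ℂ) :
    (fun n : H => Cfsg.indFun T ψ n)
      = (Nat.card T : ℂ)⁻¹ • ∑ x : G, conjFun H hN (fun n : H => ψ ⟨n, hHT n.2⟩) x := by
  funext n
  rw [Pi.smul_apply, Finset.sum_apply, smul_eq_mul]
  unfold Cfsg.indFun
  congr 1
  rw [← Equiv.sum_comp (Equiv.inv G) (fun x : G => conjFun H hN (fun n : H => ψ ⟨n, hHT n.2⟩) x n)]
  apply Finset.sum_congr rfl
  intro x _
  simp only [Equiv.inv_apply, conjFun_apply, inv_inv]
  have hm : x⁻¹ * (n : G) * x ∈ H := by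
    have := hN.conj_mem n n.2 x⁻¹
    simpa using this
  exact extendByZero_of_mem T ψ (hHT hm)

/-- Multiplicities are monotone under passing to a constituent and restricting. -/
theorem IsCharacter.classInner_comp_ge {K : Type*} [Group K] [Fintype K] (f : K →* G)
    {A θ : G → ℂ} (hA : Cfsg.IsCharacter G A) (hθ : Cfsg.IsIrrCharacter G θ)
    (h : Cfsg.classInner A θ ≠ 0) {φ : K → ℂ} (hφ : Cfsg.IsIrrCharacter K φ) :
    ∃ k : ℕ, Cfsg.classInner (fun x : K => A (f x)) φ
      = Cfsg.classInner (fun x : K => θ (f x)) φ + k := by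
  obtain ⟨B, hB, hAB⟩ := IsCharacter.exists_eq_add_of_constituent hA hθ h
  obtain ⟨k, hk⟩ := IsCharacter.classInner_irr_nat (IsCharacter.comp f hB) hφ
  refine ⟨k, ?_⟩
  rw [← hk, ← classInner_add_left]
  congr 1
  funext x
  rw [hAB]
  rfl

end

end Cfsg.Agent.Lib.Helper6
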