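import Mathlib
import Cfsg.Agent.Lib.Helper6.ScalarIndex
import Cfsg.Agent.Lib.Helper6.CliffordCorr
import Cfsg.Agent.Lib.Helper6.Constituent
import Cfsg.Agent.S0854

set_option autoImplicit false

namespace Cfsg.Agent.Lib.Helper6

open Module
open scoped ComplexConjugate

section

variable {G : Type*} [Group G]

/-- The inertia group of a function on a normal subgroup. -/
def inertia (N : Subgroup G) (hN : N.Normal) (ϑ : N → ℂ) : Subgroup G where
  carrier := {g | conjFun N hN ϑ g = ϑ}
  mul_mem' := by
    intro a b ha hb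
    simp only [Set.mem_ofPred_eq] at *
    rw [← conjFun_conjFun, ha, hb]
  one_mem' := conjFun_one N hN ϑ
  inv_mem' := by
    intro a ha
    simp only [Set.mem_ofPred_eq] at *
    have := conjFun_conjFun N hN ϑ a a⁻¹
    rw [ha, mul_inv_cancel, conjFun_one] at this
    exact this

theorem mem_inertia (N : Subgroup G) (hN : N.Normal) (ϑ : N → ℂ) (g : G) :
    g ∈ inertia N hN ϑ ↔ conjFun N hN ϑ g = ϑ := Iff.rfl

theorem le_inertia (N : Subgroup G) (hN : N.Normal) {ϑ : N → ℂ}
    (hϑ : Cfsg.IsClassFunction N ϑ) : N ≤ inertia N hN ϑ := by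
  intro g hg
  rw [mem_inertia]
  exact conjFun_of_mem N hN hϑ hg

/-- Irreducible representations of commutative finite groups are one-dimensional. -/
theorem finrank_eq_one_of_comm [Finite G] (hG : ∀ a b : G, a * b = b * a)
    {V : Type*} [AddCommGroup V] [Module ℂ V] [FiniteDimensional ℂ V]
    (ρ : Representation ℂ G V) [ρ.IsIrreducible] : finrank ℂ V = 1 := by
  have : Fintype G := Fintype.ofFinite G
  have h := finrank_dvd_index_center ρ
  have hc : Subgroup.center G = ⊤ := by
    rw [eq_top_iff]
    intro g _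
    rw [Subgroup.mem_center_iff]
    intro h
    exact hG h g
  rw [hc, Subgroup.index_top] at h
  exact Nat.dvd_one.mp h

end

/-- Itô's theorem, in character form, by induction on the group order. -/
theorem ito_aux.{u} : ∀ (n : ℕ) (G : Type u) [Group G] [Finite G], Nat.card G = n →
    ∀ (A : Subgroup G) (_hA : A.Normal), (∀ a ∈ A, ∀ b ∈ A, a * b = b * a) →
    ∀ χ : G → ℂ, Cfsg.IsIrrCharacter G χ → ∃ d : ℕ, χ 1 = d ∧ d ∣ A.index := by
  intro n
  induction n using Nat.strong_induction_on with
  | _ n ih =>
    intro G _ _ hn A hA hcomm χ hχ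
    classical
    have : Fintype G := Fintype.ofFinite G
    have : Fintype A := Fintype.ofFinite A
    have hχch := IsIrrCharacter.isCharacter hχ
    -- a constituent ϑ of χ_A
    have hχA : Cfsg.IsCharacter A (fun a : A => χ a) := IsCharacter.restrict A hχch
    obtain ⟨⟨ϑ, hϑ⟩, hcon⟩ := IsCharacter.exists_constituent hχA
      (IsIrrCharacter.apply_one_ne_zero hχ)
    have hϑcf := IsIrrCharacter.isClassFunction hϑ
    set T := inertia A hA ϑ with hTdef
    have : Fintype T := Fintype.ofFinite T
    have hAT : A ≤ T := le_inertia A hA hϑcf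
    have hTiff : ∀ g : G, g ∈ T ↔ ∀ a : A, ϑ ⟨g * a * g⁻¹, hA.conj_mem (a : G) a.2 g⟩ = ϑ a := by
      intro g
      rw [hTdef, mem_inertia]
      exact ⟨fun h a => congrFun h a, fun h => funext h⟩
    by_cases hTtop : T = ⊤
    · -- ϑ is invariant: `A` acts by scalars
      have hinv : ∀ g : G, conjFun A hA ϑ g = ϑ := by
        intro g
        have : g ∈ T := by rw [hTtop]; exact Subgroup.mem_top g
        exact this
      have hres := restrict_eq_smul_of_invariant A hA hχ hϑ hinv hcon
      obtain ⟨m, ρ, hρirr, hρ⟩ := hχ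
      obtain ⟨k, σ, hσirr, hσ⟩ := hϑ
      have hk : finrank ℂ (Fin k → ℂ) = 1 :=
        finrank_eq_one_of_comm (fun a b => Subtype.ext (hcomm a a.2 b b.2)) σ
      have hϑ1 : ϑ 1 = 1 := by
        rw [← hσ, Representation.char_one, hk]
        simp
      have hχ1 : χ 1 = (finrank ℂ (Fin m → ℂ) : ℂ) := by
        rw [← hρ, Representation.char_one]
      set e := Cfsg.classInner (fun a : A => χ a) ϑ with he
      have he1 : e = (finrank ℂ (Fin m → ℂ) : ℂ) := by
        have h1 := congrFun hres 1
        simp only [Pi.smul_apply, smul_eq_mul, hϑ1, mul_one] at h1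
        rw [← h1]
        exact hχ1
      have hscal : ∀ a ∈ A, ∃ c : ℂ, ρ a = c • LinearMap.id := by
        intro a ha
        rw [← norm_character_eq_iff]
        have h1 := congrFun hres ⟨a, ha⟩
        simp only [Pi.smul_apply, smul_eq_mul] at h1
        rw [hρ, h1, norm_mul, he1]
        have h2 : ‖ϑ ⟨a, ha⟩‖ = 1 := by
          rw [← hσ]
          have h3 : ‖σ.character ⟨a, ha⟩‖ = (finrank ℂ (Fin k → ℂ) : ℝ) := by
            rw [norm_character_eq_iff]
            exact ⟨_, end_eq_trace_smul_id hk (σ ⟨a, ha⟩)⟩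
          rw [h3, hk]
          simp
        rw [h2, mul_one]
        simp
      refine ⟨finrank ℂ (Fin m → ℂ), hχ1, ?_⟩
      exact finrank_dvd_index_of_scalar ρ A hscal
    · -- Clifford correspondence and induction
      have hAn : A.Normal := hA
      obtain ⟨ψ, hψ, hind, _⟩ := Cfsg.Agent.S0854.result A ϑ hϑ T hTiff hAT χ hχ hcon
      have hTlt : Nat.card T < n := by
        rw [← hn]
        apply lt_of_le_of_ne (Subgroup.card_le_card_group T)
        intro h
        exact hTtop (Subgroup.eq_top_of_card_eq T h)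
      have hAT' : (A.subgroupOf T).Normal := hA.subgroupOf T
      obtain ⟨d', hd', hdvd'⟩ := ih (Nat.card T) hTlt T rfl (A.subgroupOf T) hAT'
        (by
          intro a ha b hb
          apply Subtype.ext
          exact hcomm a ha b hb) ψ hψ
      refine ⟨T.index * d', ?_, ?_⟩
      · rw [← hind, indFun_one, hd']
        push_cast
        rfl
      · have h1 : A.relIndex T * T.index = A.index := Subgroup.relIndex_mul_index hAT
        rw [← h1, mul_comm]
        exact Nat.mul_dvd_mul_right hdvd' _

end Cfsg.Agent.Lib.Helper6
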