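import Mathlib
import Cfsg.Agent.Lib.Helper6.IndFun
import Cfsg.Agent.Lib.Helper6.Constituent
import Cfsg.Agent.Lib.Helper6.CharMisc
import Cfsg.Agent.Lib.Helper6.CharOps
import Cfsg.Agent.Lib.Helper6.SecondOrth
import Cfsg.Agent.S0146

set_option autoImplicit false

namespace Cfsg.Agent.Lib.Helper6

open scoped ComplexConjugate
open scoped commutatorElement

section

variable {G : Type*} [Group G] [Fintype G]

/-- If the permutation character `(1_H)^G` takes its degree at `g`, then `g ∈ H`. -/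
theorem mem_of_indFun_one_eq_index (H : Subgroup G) (g : G)
    (h : Cfsg.indFun H (fun _ => (1 : ℂ)) g = (H.index : ℂ)) : g ∈ H := by
  classical
  have hH : (Nat.card H : ℂ) ≠ 0 := card_ne_zero_complex H
  unfold Cfsg.indFun at h
  have h1 : ∀ x : G, Cfsg.extendByZero H (fun _ => (1 : ℂ)) (x⁻¹ * g * x)
      = if x⁻¹ * g * x ∈ H then 1 else 0 := by
    intro x
    split_ifs with hx
    · rw [extendByZero_of_mem H _ hx]
    · rw [extendByZero_of_not_mem H _ hx]
  simp_rw [h1] at h
  rw [Finset.sum_boole] at h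
  have h2 : ((Finset.univ.filter (fun x : G => x⁻¹ * g * x ∈ H)).card : ℂ)
      = (Nat.card G : ℂ) := by
    rw [← H.index_mul_card]
    push_cast
    rw [← h]
    field_simp
  have h3 : (Finset.univ.filter (fun x : G => x⁻¹ * g * x ∈ H)).card = Fintype.card G := by
    rw [← Nat.card_eq_fintype_card]
    exact_mod_cast h2
  have h4 := (Finset.card_eq_iff_eq_univ _).mp h3
  have h5 : (1 : G) ∈ Finset.univ.filter (fun x : G => x⁻¹ * g * x ∈ H) := by
    rw [h4]; exact Finset.mem_univ _
  simpa using h5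

/-- If `N ≤ H` is normal in `G` and the linear character `lam` of `H` is trivial on `N`, then
the induced character is constant on `N`. -/
theorem indFun_linear_apply_of_mem_normal (H : Subgroup G) (lam : H →* ℂˣ) (N : Subgroup G)
    [N.Normal] (hNH : N ≤ H) (hlam : ∀ n : H, (n : G) ∈ N → lam n = 1) {g : G} (hg : g ∈ N) :
    Cfsg.indFun H (fun h => (lam h : ℂ)) g = Cfsg.indFun H (fun h => (lam h : ℂ)) 1 := by
  unfold Cfsg.indFun
  congr 1
  apply Finset.sum_congr rfl
  intro x _
  have h1 : x⁻¹ * g * x ∈ N := by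
    have := ‹N.Normal›.conj_mem g hg x⁻¹
    simpa using this
  have h2 : x⁻¹ * 1 * x = ((1 : H) : G) := by simp
  rw [h2, extendByZero_coe, extendByZero_of_mem H _ (hNH h1), hlam ⟨_, hNH h1⟩ h1, map_one]

omit [Fintype G] in
/-- A linear character of `H` is trivial on commutators. -/
theorem linear_commutator_eq_one (H : Subgroup G) (lam : H →* ℂˣ) (N : Subgroup G)
    (hNH : N ≤ H) (n : H) (hn : (n : G) ∈ ⁅N, N⁆) : lam n = 1 := by
  have hle : ⁅N, N⁆ ≤ (MonoidHom.ker lam).map H.subtype := by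
    rw [Subgroup.commutator_le]
    intro a ha b hb
    refine ⟨⁅(⟨a, hNH ha⟩ : H), (⟨b, hNH hb⟩ : H)⁆, ?_, rfl⟩
    rw [SetLike.mem_coe, MonoidHom.mem_ker, map_commutatorElement]
    exact commutatorElement_eq_one_iff_commute.mpr (Commute.all _ _)
  obtain ⟨n', hn', hnn'⟩ := hle hn
  have : n' = n := Subtype.ext hnn'
  rw [← this]
  exact hn'

/-- If every irreducible constituent of a character `A` takes its degree at `g`, so does `A`. -/
theorem IsCharacter.apply_eq_apply_one_of_constituents {A : G → ℂ} (hA : Cfsg.IsCharacter G A)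
    (g : G) (h : ∀ θ : Cfsg.IrrCharacter G, Cfsg.classInner A (θ : G → ℂ) ≠ 0 →
      (θ : G → ℂ) g = (θ : G → ℂ) 1) : A g = A 1 := by
  classical
  have : Fintype (Cfsg.IrrCharacter G) := Fintype.ofFinite _
  obtain ⟨m, hm⟩ := IsCharacter.eq_sum_irr hA
  have hmθ : ∀ θ : Cfsg.IrrCharacter G, Cfsg.classInner A (θ : G → ℂ) = m θ := by
    intro θ
    have h0 : (θ : G → ℂ) = ∑ θ' : Cfsg.IrrCharacter G,
        (if θ' = θ then 1 else 0) • (θ' : G → ℂ) := by
      simp [Finset.sum_ite_eq']
    conv_lhs => rw [hm, h0]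
    rw [classInner_sum_irr]
    simp [Finset.sum_ite_eq']
  rw [hm]
  simp only [Finset.sum_apply, Pi.smul_apply]
  apply Finset.sum_congr rfl
  intro θ _
  by_cases h0 : m θ = 0
  · rw [h0]; simp
  · rw [h θ]
    rw [hmθ θ]
    exact_mod_cast h0

end

end Cfsg.Agent.Lib.Helper6
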