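import Mathlib
import Cfsg.Agent.Lib.Helper6.ElemStruct
import Cfsg.Agent.Lib.Helper6.IndCharComb
import Cfsg.Agent.Lib.Helper6.Ito
import Cfsg.Agent.Lib.Helper6.Taketa
import Cfsg.Agent.S0873

set_option autoImplicit false

namespace Cfsg.Agent.Lib.Helper6

open Module
open scoped ComplexConjugate

section

variable {H : Type*} [Group H] [Fintype H]

/-- A nonprincipal irreducible constituent of the permutation character on the elementary
subgroup `Z × P` of a quasi-elementary group is induced from a proper subgroup. -/
theorem induced_of_constituent_elem {p : ℕ} [Fact p.Prime] (C P : Subgroup H) (hCn : C.Normal)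
    (hcyc : IsCyclic C) (hcop : Nat.Coprime (Nat.card C) p) (hcompl : C.IsComplement' P)
    (hPp : IsPGroup p P) (E : Subgroup H) (e : (centZ C P) × P ≃ E)
    (he : ∀ zy, (e zy : H) = (zy.1 : H) * (zy.2 : H)) (χ : H → ℂ)
    (hχ : Cfsg.IsIrrCharacter H χ) (hχ1 : χ ≠ fun _ => (1 : ℂ))
    (hcon : Cfsg.classInner (Cfsg.indFun E (fun _ => (1 : ℂ))) χ ≠ 0) :
    ∃ (T : Subgroup H) (ψ : T → ℂ), T ≠ ⊤ ∧ Cfsg.IsIrrCharacter T ψ ∧ Cfsg.indFun T ψ = χ := by
  classical
  have hCP : C ⊔ P = ⊤ := hcompl.sup_eq_top
  have hχch := IsIrrCharacter.isCharacter hχ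
  obtain ⟨d, ρ, hirr, hchar⟩ := id hχ
  have := hirr
  have : Fintype C := Fintype.ofFinite C
  have : Fintype P := Fintype.ofFinite P
  have : Fintype E := Fintype.ofFinite E
  have : Fintype (centZ C P) := Fintype.ofFinite _
  have hcommC : ∀ a b : C, a * b = b * a := fun a b => IsCyclic.commGroup.mul_comm a b
  -- a constituent of the restriction to `C`
  have hχC : Cfsg.IsCharacter C (fun x : C => χ x) := IsCharacter.restrict C hχch
  obtain ⟨⟨lam, hlam⟩, hconC⟩ := IsCharacter.exists_constituent hχC
    (IsIrrCharacter.apply_one_ne_zero hχ)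
  have hlamcf := IsIrrCharacter.isClassFunction hlam
  set T := inertia C hCn lam with hTdef
  have : Fintype T := Fintype.ofFinite T
  have hCT : C ≤ T := le_inertia C hCn hlamcf
  have hTiff : ∀ g : H, g ∈ T ↔
      ∀ x : C, lam ⟨g * x * g⁻¹, hCn.conj_mem (x : H) x.2 g⟩ = lam x := by
    intro g
    rw [hTdef, mem_inertia]
    exact ⟨fun h x => congrFun h x, fun h => funext h⟩
  by_cases hTtop : T = ⊤
  · exfalso
    have hinv : ∀ g : H, conjFun C hCn lam g = lam := by
      intro g
      have : g ∈ T := by rw [hTtop]; exact Subgroup.mem_top g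
      exact this
    have hres := restrict_eq_smul_of_invariant C hCn hχ hlam hinv hconC
    obtain ⟨m, τ, hτirr, hτchar⟩ := id hlam
    have := hτirr
    have hm1 : finrank ℂ (Fin m → ℂ) = 1 := finrank_eq_one_of_comm hcommC τ
    have hlam1 : lam 1 = 1 := by
      rw [← hτchar, Representation.char_one, hm1]
      simp
    have hχ1' : χ 1 = (finrank ℂ (Fin d → ℂ) : ℂ) := by
      rw [← hchar, Representation.char_one]
    have hd0 : (finrank ℂ (Fin d → ℂ) : ℂ) ≠ 0 := by
      rw [← hχ1']
      exact IsIrrCharacter.apply_one_ne_zero hχ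
    set ee := Cfsg.classInner (fun x : C => χ x) lam with hee
    have hee1 : ee = (finrank ℂ (Fin d → ℂ) : ℂ) := by
      have h1 := congrFun hres 1
      simp only [Pi.smul_apply, smul_eq_mul, hlam1, mul_one] at h1
      rw [← h1]
      exact hχ1'
    -- elements of `C` act by the scalars `lam c`
    have hscal : ∀ c : C, ρ (c : H) = lam c • LinearMap.id := by
      intro c
      have h1 := congrFun hres c
      simp only [Pi.smul_apply, smul_eq_mul] at h1
      have h2 : ‖lam c‖ = 1 := by
        rw [← hτchar]
        have h3 : ‖τ.character c‖ = (finrank ℂ (Fin m → ℂ) : ℝ) := by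
          rw [norm_character_eq_iff]
          exact ⟨_, end_eq_trace_smul_id hm1 (τ c)⟩
        rw [h3, hm1]
        simp
      have h4 : ∃ ω : ℂ, ρ (c : H) = ω • LinearMap.id := by
        rw [← norm_character_eq_iff, hchar, h1, norm_mul, hee1, h2, mul_one]
        simp
      obtain ⟨ω, hω⟩ := h4
      have h5 : χ (c : H) = ω * (finrank ℂ (Fin d → ℂ) : ℂ) := by
        rw [← hchar]
        unfold Representation.character
        rw [hω, map_smul, LinearMap.trace_id, smul_eq_mul]
      rw [h1, hee1, mul_comm] at h5
      have h6 : lam c = ω := mul_right_cancel₀ hd0 h5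
      rw [h6]
      exact hω
    have hmulC : ∀ (c : C) (g : H), χ ((c : H) * g) = lam c * χ g := by
      intro c g
      rw [← hchar]
      unfold Representation.character
      rw [map_mul, hscal c, smul_mul_assoc, map_smul, smul_eq_mul]
      rfl
    -- the sum over `E`
    set S : ℂ := ∑ zy : (centZ C P) × P, χ ((zy.1 : H) * (zy.2 : H)) with hS
    have hSE : ∑ g : E, χ g = S := by
      rw [hS, ← Equiv.sum_comp e]
      apply Finset.sum_congr rfl
      intro zy _
      rw [he]
    have hS0 : S ≠ 0 := by
      rw [Cfsg.Agent.S0146.result E _ _ (IsCharacter.isClassFunction hχch)] at hcon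
      unfold Cfsg.classInner at hcon
      have h1 : ∑ g : E, (1 : ℂ) * conj (χ g) = conj (∑ g : E, χ g) := by
        rw [map_sum]
        apply Finset.sum_congr rfl
        intro g _
        rw [one_mul]
      rw [h1, hSE] at hcon
      intro h0
      apply hcon
      rw [h0, map_zero, mul_zero]
    -- `lam` is trivial on the part of `C` centralized by `P`
    have hker : ∀ c : C, (c : H) ∈ Subgroup.centralizer (P : Set H) → lam c = 1 := by
      intro c hc
      have hcZ : (c : H) ∈ centZ C P := ⟨c.2, hc⟩
      have h1 : lam c * S = S := by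
        rw [hS, Finset.mul_sum]
        rw [← Equiv.sum_comp ((Equiv.mulLeft (⟨(c : H), hcZ⟩ : centZ C P)).prodCongr
          (Equiv.refl P)) (fun zy : (centZ C P) × P => χ ((zy.1 : H) * (zy.2 : H)))]
        apply Finset.sum_congr rfl
        intro zy _
        rw [← hmulC]
        simp [mul_assoc]
      have h2 : (lam c - 1) * S = 0 := by rw [sub_mul, h1, one_mul, sub_self]
      rcases mul_eq_zero.mp h2 with h | h
      · exact sub_eq_zero.mp h
      · exact absurd h hS0
    have hlam_one : lam = fun _ => (1 : ℂ) := by
      have hCn' := hCn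
      exact Cfsg.Agent.S0873.result p C P hPp hcop hCP lam
        ⟨IsIrrCharacter.isCharacter hlam, hlam1⟩
        (fun g c => congrFun (hinv g) c) hker
    -- hence `C` acts trivially
    have htriv : ∀ (c : C) (g : H), χ ((c : H) * g) = χ g := by
      intro c g
      rw [hmulC, hlam_one, one_mul]
    have hS' : S = (Nat.card (centZ C P) : ℂ) * ∑ y : P, χ y := by
      rw [hS, Fintype.sum_prod_type, Finset.mul_sum]
      have h1 : ∀ z : centZ C P, ∑ y : P, χ ((z : H) * (y : H)) = ∑ y : P, χ y := by
        intro z
        apply Finset.sum_congr rfl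
        intro y _
        exact htriv ⟨(z : H), z.2.1⟩ y
      rw [Finset.sum_congr rfl (fun z _ => h1 z), Finset.sum_const, Finset.card_univ,
        Nat.card_eq_fintype_card, nsmul_eq_mul, Finset.mul_sum]
    have hSP : ∑ y : P, χ y ≠ 0 := by
      intro h0
      apply hS0
      rw [hS', h0, mul_zero]
    have hSH : ∑ h : H, χ h = (Nat.card C : ℂ) * ∑ y : P, χ y := by
      let eH : C × P ≃ H := Equiv.ofBijective _ hcompl
      have heH : ∀ cy : C × P, eH cy = (cy.1 : H) * (cy.2 : H) := fun cy => rfl
      rw [← Equiv.sum_comp eH, Fintype.sum_prod_type]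
      have h1 : ∀ c : C, ∑ y : P, χ (eH (c, y)) = ∑ y : P, χ y := by
        intro c
        apply Finset.sum_congr rfl
        intro y _
        rw [heH]
        exact htriv c y
      rw [Finset.sum_congr rfl (fun c _ => h1 c), Finset.sum_const, Finset.card_univ,
        Nat.card_eq_fintype_card, nsmul_eq_mul]
    -- so `χ` is the principal character
    apply hχ1
    have h1 := classInner_isIrrCharacter hχ (isIrrCharacter_one (G := H))
    by_contra hne
    rw [if_neg hne] at h1
    unfold Cfsg.classInner at h1
    have h2 : ∑ g : H, χ g * conj ((fun _ => (1 : ℂ)) g) = ∑ g : H, χ g := by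
      apply Finset.sum_congr rfl
      intro g _
      simp
    rw [h2, hSH] at h1
    have hC0 : (Nat.card C : ℂ) ≠ 0 := card_ne_zero_complex C
    have hH0 : (Nat.card H : ℂ) ≠ 0 := card_ne_zero_complex H
    rcases mul_eq_zero.mp h1 with h | h
    · exact inv_ne_zero hH0 h
    · rcases mul_eq_zero.mp h with h' | h'
      · exact hC0 h'
      · exact hSP h'
  · have hCn' : C.Normal := hCn
    obtain ⟨ψ, hψ, hind, _⟩ := Cfsg.Agent.S0854.result C lam hlam T hTiff hCT χ hχ hconC
    exact ⟨T, ψ, hTtop, hψ, hind⟩

end

/-- In a `p`-quasi-elementary group the principal character is an integer combination of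
characters induced from `p`-elementary subgroups. -/
theorem quasiElem_one_mem.{u} (p : ℕ) (hp : p.Prime) : ∀ (n : ℕ) (H : Type u) [Group H]
    [Fintype H], Nat.card H = n → IsQuasiElemGroup p H →
    IndCharComb (fun E : Subgroup H => Cfsg.IsElementary p E) (fun _ : H => (1 : ℂ)) := by
  intro n
  induction n using Nat.strong_induction_on with
  | _ n ih =>
    intro H _ _ hn hQ
    classical
    have : Fact p.Prime := ⟨hp⟩
    have : Fintype (Cfsg.IrrCharacter H) := Fintype.ofFinite _
    obtain ⟨C, hCn, hcyc, hcop, k, hk⟩ := id hQ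
    obtain ⟨P⟩ := (inferInstance : Nonempty (Sylow p H))
    obtain ⟨hcompl, hPcard⟩ := isComplement'_sylow C hcop hk P
    have hCP : C ⊔ (P : Subgroup H) = ⊤ := hcompl.sup_eq_top
    have hdisj : Disjoint C (P : Subgroup H) := hcompl.disjoint
    obtain ⟨E, hEelem, e, he⟩ := exists_elementary_subgroup C (P : Subgroup H) hcyc hcop hCP hdisj
      hPcard
    have hone : Cfsg.IsClassFunction H (fun _ => (1 : ℂ)) := fun _ _ => rfl
    by_cases hEtop : E = ⊤
    · subst hEtop
      have h1 := IndCharComb.single (P := fun E : Subgroup H => Cfsg.IsElementary p E)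
        (⊤ : Subgroup H) hEelem (isCharacter_one (G := (⊤ : Subgroup H))) 1
      have h2 : Cfsg.indFun (⊤ : Subgroup H) (fun _ => (1 : ℂ)) = fun _ => (1 : ℂ) :=
        indFun_top hone
      rw [h2] at h1
      simpa using h1
    · set A := Cfsg.indFun E (fun _ => (1 : ℂ)) with hAdef
      have hA : Cfsg.IsCharacter H A := IsCharacter.indFun E isCharacter_one
      have hA1 : Cfsg.classInner A (fun _ => (1 : ℂ)) = 1 := by
        have : Fintype E := Fintype.ofFinite E
        rw [hAdef, Cfsg.Agent.S0146.result E _ _ hone]
        unfold Cfsg.classInner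
        simp
      obtain ⟨Ξ, hΞ, hAΞ⟩ := IsCharacter.exists_eq_add_of_constituent hA
        (isIrrCharacter_one (G := H)) (by rw [hA1]; exact one_ne_zero)
      have hΞ1 : Cfsg.classInner Ξ (fun _ => (1 : ℂ)) = 0 := by
        have h1 := hA1
        rw [hAΞ, classInner_add_left, classInner_isIrrCharacter (isIrrCharacter_one (G := H))
          (isIrrCharacter_one (G := H)), if_pos rfl] at h1
        exact add_eq_left.mp h1
      have hone_eq : (fun _ : H => (1 : ℂ)) = A - Ξ := by
        rw [hAΞ]; ring
      rw [hone_eq]
      apply IndCharComb.sub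
      · have := IndCharComb.single (P := fun E : Subgroup H => Cfsg.IsElementary p E) E hEelem
          (isCharacter_one (G := E)) 1
        simpa using this
      · obtain ⟨m, hm⟩ := IsCharacter.eq_sum_irr hΞ
        have hmθ : ∀ θ : Cfsg.IrrCharacter H, Cfsg.classInner Ξ (θ : H → ℂ) = m θ := by
          intro θ
          have h0 : (θ : H → ℂ) = ∑ θ' : Cfsg.IrrCharacter H,
              (if θ' = θ then 1 else 0) • (θ' : H → ℂ) := by
            simp [Finset.sum_ite_eq']
          conv_lhs => rw [hm, h0]
          rw [classInner_sum_irr]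
          simp [Finset.sum_ite_eq']
        rw [hm]
        apply IndCharComb.sum
        intro χ _
        by_cases hmχ : m χ = 0
        · rw [hmχ, zero_smul]
          exact IndCharComb.zero _
        · have hcΞ : Cfsg.classInner Ξ (χ : H → ℂ) ≠ 0 := by
            rw [hmθ χ]
            exact_mod_cast hmχ
          have hχ1 : (χ : H → ℂ) ≠ fun _ => (1 : ℂ) := by
            intro h
            rw [h] at hcΞ
            exact hcΞ hΞ1
          have hcA : Cfsg.classInner A (χ : H → ℂ) ≠ 0 := by
            rw [hAΞ, classInner_add_left,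
              classInner_isIrrCharacter (isIrrCharacter_one (G := H)) χ.2,
              if_neg (Ne.symm hχ1), zero_add]
            exact hcΞ
          obtain ⟨T, ψ, hTtop, hψ, hind⟩ := induced_of_constituent_elem C (P : Subgroup H) hCn hcyc
            hcop hcompl P.2 E e he χ χ.2 hχ1 hcA
          have : Fintype T := Fintype.ofFinite T
          have hTlt : Nat.card T < n := by
            rw [← hn]
            apply lt_of_le_of_ne (Subgroup.card_le_card_group T)
            intro h
            exact hTtop (Subgroup.eq_top_of_card_eq T h)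
          have hTQ : IsQuasiElemGroup p T := IsQuasiElemGroup.subgroup hp hQ T
          have h1 := ih (Nat.card T) hTlt T rfl hTQ
          have h2 := IndCharComb.mul_char h1 (IsIrrCharacter.isCharacter hψ)
          have h3 : (fun _ : T => (1 : ℂ)) * ψ = ψ := by
            funext t
            simp
          rw [h3] at h2
          have h4 := IndCharComb.indFun (P := fun E : Subgroup H => Cfsg.IsElementary p E) T
            (P' := fun E : Subgroup T => Cfsg.IsElementary p E)
            (fun D hD => IsElementary.of_mulEquiv
              (Subgroup.equivMapOfInjective D T.subtype Subtype.coe_injective) hD) h2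
          rw [hind] at h4
          rw [← Nat.cast_smul_eq_nsmul ℂ]
          have := IndCharComb.intCast_smul h4 (m χ)
          simpa using this

end Cfsg.Agent.Lib.Helper6
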