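import Mathlib
import Cfsg.Agent.Lib.Helper6.Multiplicity
import Cfsg.Agent.Lib.Helper6.CharOps
import Cfsg.Agent.Lib.Helper6.Constituent

set_option autoImplicit false

namespace Cfsg.Agent.Lib.Helper6

open scoped ComplexConjugate

section

variable {G : Type*} [Group G] [Fintype G]

/-- A generalized character is an integer combination of irreducible characters. -/
theorem IsGeneralizedCharacter.exists_int_coeff [Fintype (Cfsg.IrrCharacter G)] {θ : G → ℂ}
    (hθ : Cfsg.IsGeneralizedCharacter G θ) :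
    ∃ c : Cfsg.IrrCharacter G → ℤ, θ = ∑ β, (c β : ℂ) • (β : G → ℂ) ∧
      ∀ β : Cfsg.IrrCharacter G, Cfsg.classInner θ (β : G → ℂ) = c β := by
  obtain ⟨χ, ψ, hχ, hψ, rfl⟩ := hθ
  obtain ⟨m, hm, hmi⟩ := IsCharacter.exists_mult hχ
  obtain ⟨m', hm', hmi'⟩ := IsCharacter.exists_mult hψ
  refine ⟨fun β => (m β : ℤ) - (m' β : ℤ), ?_, ?_⟩
  · conv_lhs => rw [hm, hm']
    rw [← Finset.sum_sub_distrib]
    apply Finset.sum_congr rfl
    intro β _
    push_cast
    rw [sub_smul, Nat.cast_smul_eq_nsmul, Nat.cast_smul_eq_nsmul]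
  · intro β
    rw [classInner_sub_left, hmi β, hmi' β]
    push_cast
    rfl

/-- The inner product of integer combinations of irreducible characters. -/
theorem classInner_sum_int [Fintype (Cfsg.IrrCharacter G)] (c c' : Cfsg.IrrCharacter G → ℤ) :
    Cfsg.classInner (∑ β, (c β : ℂ) • (β : G → ℂ)) (∑ β, (c' β : ℂ) • (β : G → ℂ))
      = ((∑ β, c β * c' β : ℤ) : ℂ) := by
  classical
  rw [classInner_sum_left]
  push_cast
  apply Finset.sum_congr rfl
  intro β _
  rw [classInner_sum_right]
  rw [Finset.sum_eq_single β]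
  · rw [classInner_smul_left, classInner_smul_right, classInner_irrCharacter, if_pos rfl,
      map_intCast, mul_one]
  · intro γ _ hγ
    rw [classInner_smul_left, classInner_smul_right, classInner_irrCharacter,
      if_neg (Ne.symm hγ), mul_zero, mul_zero]
  · intro h
    exact absurd (Finset.mem_univ _) h

/-- An integer-valued function on a finite type whose squares sum to two is supported on two
points, where it takes values of absolute value one. -/
theorem exists_pair_of_sum_sq_eq_two {ι : Type*} [Fintype ι] [DecidableEq ι] (c : ι → ℤ)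
    (h : ∑ i, c i * c i = 2) :
    ∃ i j : ι, i ≠ j ∧ (c i = 1 ∨ c i = -1) ∧ (c j = 1 ∨ c j = -1) ∧
      ∀ k, k ≠ i → k ≠ j → c k = 0 := by
  have hnonneg : ∀ (s : Finset ι), 0 ≤ ∑ k ∈ s, c k * c k :=
    fun s => Finset.sum_nonneg (fun k _ => mul_self_nonneg (c k))
  have hunit : ∀ z : ℤ, z ≠ 0 → z * z ≤ 2 → (z = 1 ∨ z = -1) := by
    intro z hz hle
    have h1 : -1 ≤ z := by nlinarith
    have h2 : z ≤ 1 := by nlinarith
    omega
  -- a first nonzero coefficient
  have hex : ∃ i, c i ≠ 0 := by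
    by_contra hno
    push Not at hno
    simp [hno] at h
  obtain ⟨i, hi⟩ := hex
  rw [← Finset.add_sum_erase Finset.univ (fun k => c k * c k) (Finset.mem_univ i)] at h
  have hci : c i = 1 ∨ c i = -1 := hunit (c i) hi (by have := hnonneg (Finset.univ.erase i); linarith)
  have hci2 : c i * c i = 1 := by rcases hci with h1 | h1 <;> rw [h1] <;> norm_num
  rw [hci2] at h
  have hrest : ∑ k ∈ Finset.univ.erase i, c k * c k = 1 := by linarith
  have hex2 : ∃ j ∈ Finset.univ.erase i, c j ≠ 0 := by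
    by_contra hno
    push Not at hno
    rw [Finset.sum_eq_zero (fun k hk => by rw [hno k hk, mul_zero])] at hrest
    norm_num at hrest
  obtain ⟨j, hj, hcj0⟩ := hex2
  rw [← Finset.add_sum_erase (Finset.univ.erase i) (fun k => c k * c k) hj] at hrest
  have hcj : c j = 1 ∨ c j = -1 :=
    hunit (c j) hcj0 (by have := hnonneg ((Finset.univ.erase i).erase j); linarith)
  have hcj2 : c j * c j = 1 := by rcases hcj with h1 | h1 <;> rw [h1] <;> norm_num
  rw [hcj2] at hrest
  have hrest2 : ∑ k ∈ (Finset.univ.erase i).erase j, c k * c k = 0 := by linarith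
  refine ⟨i, j, (Finset.ne_of_mem_erase hj).symm, hci, hcj, ?_⟩
  intro k hki hkj
  have hk : k ∈ (Finset.univ.erase i).erase j :=
    Finset.mem_erase.mpr ⟨hkj, Finset.mem_erase.mpr ⟨hki, Finset.mem_univ k⟩⟩
  have := (Finset.sum_eq_zero_iff_of_nonneg (fun k _ => mul_self_nonneg (c k))).mp hrest2 k hk
  exact mul_self_eq_zero.mp this

/-- A generalized character of norm two vanishing at the identity is a difference of two
distinct irreducible characters. -/
theorem IsGeneralizedCharacter.eq_sub_of_norm_two {θ : G → ℂ}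
    (hθ : Cfsg.IsGeneralizedCharacter G θ) (hnorm : Cfsg.classInner θ θ = 2) (h1 : θ 1 = 0) :
    ∃ x y : Cfsg.IrrCharacter G, x ≠ y ∧ θ = (x : G → ℂ) - (y : G → ℂ) := by
  classical
  have : Fintype (Cfsg.IrrCharacter G) := Fintype.ofFinite _
  obtain ⟨c, hc, _⟩ := IsGeneralizedCharacter.exists_int_coeff hθ
  have hsq : ∑ β, c β * c β = 2 := by
    have h2 := hnorm
    rw [hc, classInner_sum_int] at h2
    exact_mod_cast h2
  obtain ⟨i, j, hij, hci, hcj, hrest⟩ := exists_pair_of_sum_sq_eq_two c hsq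
  have hθ2 : θ = (c i : ℂ) • (i : G → ℂ) + (c j : ℂ) • (j : G → ℂ) := by
    rw [hc, ← Finset.add_sum_erase Finset.univ _ (Finset.mem_univ i),
      ← Finset.add_sum_erase (Finset.univ.erase i) _
        (Finset.mem_erase.mpr ⟨hij.symm, Finset.mem_univ j⟩)]
    rw [Finset.sum_eq_zero, add_zero]
    intro k hk
    have hkj := Finset.ne_of_mem_erase hk
    have hki := Finset.ne_of_mem_erase (Finset.mem_of_mem_erase hk)
    rw [hrest k hki hkj, Int.cast_zero, zero_smul]
  -- degrees are positive naturals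
  obtain ⟨di, hdi⟩ := IsCharacter.apply_one_eq_natCast (IsIrrCharacter.isCharacter i.2)
  obtain ⟨dj, hdj⟩ := IsCharacter.apply_one_eq_natCast (IsIrrCharacter.isCharacter j.2)
  have hdi0 : di ≠ 0 := by
    intro h0
    apply IsIrrCharacter.apply_one_ne_zero i.2
    rw [hdi, h0, Nat.cast_zero]
  have hdj0 : dj ≠ 0 := by
    intro h0
    apply IsIrrCharacter.apply_one_ne_zero j.2
    rw [hdj, h0, Nat.cast_zero]
  have h3 : (c i : ℂ) * (di : ℂ) + (c j : ℂ) * (dj : ℂ) = 0 := by
    have := congrFun hθ2 1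
    rw [h1, Pi.add_apply, Pi.smul_apply, Pi.smul_apply, smul_eq_mul, smul_eq_mul, hdi, hdj] at this
    exact this.symm
  have h4 : c i * (di : ℤ) + c j * (dj : ℤ) = 0 := by exact_mod_cast h3
  have hdi' : (0 : ℤ) < di := by exact_mod_cast Nat.pos_of_ne_zero hdi0
  have hdj' : (0 : ℤ) < dj := by exact_mod_cast Nat.pos_of_ne_zero hdj0
  rcases hci with hi1 | hi1 <;> rcases hcj with hj1 | hj1
  · exfalso; rw [hi1, hj1] at h4; linarith
  · refine ⟨i, j, hij, ?_⟩
    rw [hθ2, hi1, hj1]
    push_cast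
    rw [one_smul, neg_one_smul, sub_eq_add_neg]
  · refine ⟨j, i, hij.symm, ?_⟩
    rw [hθ2, hi1, hj1]
    push_cast
    rw [one_smul, neg_one_smul]
    ring
  · exfalso; rw [hi1, hj1] at h4; linarith

end

end Cfsg.Agent.Lib.Helper6
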