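import Mathlib
import Cfsg.Agent.Lib.Helper6.CharOps
import Cfsg.Agent.Lib.Helper6.IndLinear
import Cfsg.Agent.Lib.Helper6.Mult

set_option autoImplicit false

namespace Cfsg.Agent.Lib.Helper6

open scoped ComplexConjugate

section

variable {G : Type*} [Group G]

theorem IsCharacter.isGeneralizedCharacter {χ : G → ℂ} (hχ : Cfsg.IsCharacter G χ) :
    Cfsg.IsGeneralizedCharacter G χ :=
  ⟨χ, 0, hχ, IsCharacter.zero, (sub_zero χ).symm⟩

theorem IsGeneralizedCharacter.zero : Cfsg.IsGeneralizedCharacter G (0 : G → ℂ) :=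
  IsCharacter.isGeneralizedCharacter IsCharacter.zero

theorem IsGeneralizedCharacter.add {θ φ : G → ℂ} (hθ : Cfsg.IsGeneralizedCharacter G θ)
    (hφ : Cfsg.IsGeneralizedCharacter G φ) : Cfsg.IsGeneralizedCharacter G (θ + φ) := by
  obtain ⟨a, b, ha, hb, rfl⟩ := hθ
  obtain ⟨c, d, hc, hd, rfl⟩ := hφ
  exact ⟨a + c, b + d, IsCharacter.add ha hc, IsCharacter.add hb hd, by ring⟩

theorem IsGeneralizedCharacter.neg {θ : G → ℂ} (hθ : Cfsg.IsGeneralizedCharacter G θ) :
    Cfsg.IsGeneralizedCharacter G (-θ) := by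
  obtain ⟨a, b, ha, hb, rfl⟩ := hθ
  exact ⟨b, a, hb, ha, by ring⟩

theorem IsGeneralizedCharacter.sub {θ φ : G → ℂ} (hθ : Cfsg.IsGeneralizedCharacter G θ)
    (hφ : Cfsg.IsGeneralizedCharacter G φ) : Cfsg.IsGeneralizedCharacter G (θ - φ) := by
  rw [sub_eq_add_neg]
  exact IsGeneralizedCharacter.add hθ (IsGeneralizedCharacter.neg hφ)

theorem IsGeneralizedCharacter.sum {ι : Type*} (s : Finset ι) (f : ι → G → ℂ)
    (hf : ∀ i ∈ s, Cfsg.IsGeneralizedCharacter G (f i)) :
    Cfsg.IsGeneralizedCharacter G (∑ i ∈ s, f i) := by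
  classical
  induction s using Finset.induction_on with
  | empty => simp only [Finset.sum_empty]; exact IsGeneralizedCharacter.zero
  | insert a s ha ih =>
    rw [Finset.sum_insert ha]
    exact IsGeneralizedCharacter.add (hf a (Finset.mem_insert_self a s))
      (ih (fun i hi => hf i (Finset.mem_insert_of_mem hi)))

theorem IsGeneralizedCharacter.nsmul {θ : G → ℂ} (hθ : Cfsg.IsGeneralizedCharacter G θ) (n : ℕ) :
    Cfsg.IsGeneralizedCharacter G (n • θ) := by
  induction n with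
  | zero => rw [zero_smul]; exact IsGeneralizedCharacter.zero
  | succ n ih => rw [succ_nsmul]; exact IsGeneralizedCharacter.add ih hθ

theorem IsGeneralizedCharacter.natCast_smul {θ : G → ℂ} (hθ : Cfsg.IsGeneralizedCharacter G θ)
    (n : ℕ) : Cfsg.IsGeneralizedCharacter G ((n : ℂ) • θ) := by
  rw [Nat.cast_smul_eq_nsmul]
  exact IsGeneralizedCharacter.nsmul hθ n

theorem IsGeneralizedCharacter.intCast_smul {θ : G → ℂ} (hθ : Cfsg.IsGeneralizedCharacter G θ)
    (n : ℤ) : Cfsg.IsGeneralizedCharacter G ((n : ℂ) • θ) := by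
  rcases Int.eq_nat_or_neg n with ⟨k, rfl | rfl⟩
  · simpa using IsGeneralizedCharacter.natCast_smul hθ k
  · have := IsGeneralizedCharacter.neg (IsGeneralizedCharacter.natCast_smul hθ k)
    simpa using this

theorem IsGeneralizedCharacter.mul {θ φ : G → ℂ} (hθ : Cfsg.IsGeneralizedCharacter G θ)
    (hφ : Cfsg.IsGeneralizedCharacter G φ) : Cfsg.IsGeneralizedCharacter G (θ * φ) := by
  obtain ⟨a, b, ha, hb, rfl⟩ := hθ
  obtain ⟨c, d, hc, hd, rfl⟩ := hφ
  exact ⟨a * c + b * d, a * d + b * c,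
    IsCharacter.add (IsCharacter.mul ha hc) (IsCharacter.mul hb hd),
    IsCharacter.add (IsCharacter.mul ha hd) (IsCharacter.mul hb hc), by ring⟩

theorem IsGeneralizedCharacter.comp {H : Type*} [Group H] (f : H →* G) {θ : G → ℂ}
    (hθ : Cfsg.IsGeneralizedCharacter G θ) : Cfsg.IsGeneralizedCharacter H (fun h => θ (f h)) := by
  obtain ⟨a, b, ha, hb, rfl⟩ := hθ
  exact ⟨_, _, IsCharacter.comp f ha, IsCharacter.comp f hb, rfl⟩

theorem IsGeneralizedCharacter.restrict (H : Subgroup G) {θ : G → ℂ}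
    (hθ : Cfsg.IsGeneralizedCharacter G θ) : Cfsg.IsGeneralizedCharacter H (fun h : H => θ h) :=
  IsGeneralizedCharacter.comp H.subtype hθ

theorem IsGeneralizedCharacter.isClassFunction {θ : G → ℂ}
    (hθ : Cfsg.IsGeneralizedCharacter G θ) : Cfsg.IsClassFunction G θ := by
  obtain ⟨a, b, ha, hb, rfl⟩ := hθ
  intro g h
  simp only [Pi.sub_apply]
  rw [IsCharacter.isClassFunction ha g h, IsCharacter.isClassFunction hb g h]

theorem IsGeneralizedCharacter.indFun [Fintype G] (H : Subgroup G) {θ : H → ℂ}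
    (hθ : Cfsg.IsGeneralizedCharacter H θ) :
    Cfsg.IsGeneralizedCharacter G (Cfsg.indFun H θ) := by
  obtain ⟨a, b, ha, hb, rfl⟩ := hθ
  exact ⟨_, _, IsCharacter.indFun H ha, IsCharacter.indFun H hb, indFun_sub H a b⟩

end

end Cfsg.Agent.Lib.Helper6
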