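import Mathlib
import Cfsg.Agent.Lib.Helper6.IndLinear

set_option autoImplicit false

namespace Cfsg.Agent.Lib.Helper6

section

variable {G : Type*} [Group G] [Fintype G]

/-- `f` is an integer combination of functions induced from linear characters of subgroups
satisfying `P`. -/
def IndLinComb (P : Subgroup G → Prop) (f : G → ℂ) : Prop :=
  ∃ l : List ((A : Subgroup G) × ((A →* ℂˣ) × ℤ)), (∀ t ∈ l, P t.1) ∧
    f = (l.map fun t => (t.2.2 : ℂ) • Cfsg.indFun t.1 (fun a => (t.2.1 a : ℂ))).sum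

theorem IndLinComb.zero (P : Subgroup G → Prop) : IndLinComb P (0 : G → ℂ) :=
  ⟨[], by simp, by simp⟩

theorem IndLinComb.add {P : Subgroup G → Prop} {f g : G → ℂ} (hf : IndLinComb P f)
    (hg : IndLinComb P g) : IndLinComb P (f + g) := by
  obtain ⟨l₁, h₁, rfl⟩ := hf
  obtain ⟨l₂, h₂, rfl⟩ := hg
  refine ⟨l₁ ++ l₂, ?_, ?_⟩
  · intro t ht
    rcases List.mem_append.mp ht with h | h
    · exact h₁ t h
    · exact h₂ t h
  · rw [List.map_append, List.sum_append]

theorem IndLinComb.single {P : Subgroup G → Prop} (A : Subgroup G) (hA : P A) (lam : A →* ℂˣ)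
    (c : ℤ) : IndLinComb P ((c : ℂ) • Cfsg.indFun A (fun a => (lam a : ℂ))) :=
  ⟨[⟨A, lam, c⟩], by simpa using hA, by simp⟩

theorem IndLinComb.sum {P : Subgroup G → Prop} {ι : Type*} (s : Finset ι) (f : ι → G → ℂ)
    (hf : ∀ i ∈ s, IndLinComb P (f i)) : IndLinComb P (∑ i ∈ s, f i) := by
  classical
  induction s using Finset.induction_on with
  | empty => simp only [Finset.sum_empty]; exact IndLinComb.zero P
  | insert a s ha ih =>
    rw [Finset.sum_insert ha]
    exact IndLinComb.add (hf a (Finset.mem_insert_self a s))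
      (ih (fun i hi => hf i (Finset.mem_insert_of_mem hi)))

theorem IndLinComb.intCast_smul {P : Subgroup G → Prop} {f : G → ℂ} (hf : IndLinComb P f)
    (c : ℤ) : IndLinComb P ((c : ℂ) • f) := by
  obtain ⟨l, h, rfl⟩ := hf
  refine ⟨l.map (fun t => ⟨t.1, t.2.1, c * t.2.2⟩), ?_, ?_⟩
  · intro t ht
    obtain ⟨t', ht', rfl⟩ := List.mem_map.mp ht
    exact h t' ht'
  · rw [List.smul_sum, List.map_map, List.map_map]
    congr 1
    apply List.map_congr_left
    intro t _
    simp only [Function.comp_apply]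
    rw [smul_smul]
    push_cast
    rfl

theorem IndLinComb.neg {P : Subgroup G → Prop} {f : G → ℂ} (hf : IndLinComb P f) :
    IndLinComb P (-f) := by
  have := IndLinComb.intCast_smul hf (-1)
  simpa using this

theorem IndLinComb.sub {P : Subgroup G → Prop} {f g : G → ℂ} (hf : IndLinComb P f)
    (hg : IndLinComb P g) : IndLinComb P (f - g) := by
  rw [sub_eq_add_neg]
  exact IndLinComb.add hf (IndLinComb.neg hg)

theorem IndLinComb.mono {P Q : Subgroup G → Prop} (hPQ : ∀ A, P A → Q A) {f : G → ℂ}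
    (hf : IndLinComb P f) : IndLinComb Q f := by
  obtain ⟨l, h, rfl⟩ := hf
  exact ⟨l, fun t ht => hPQ _ (h t ht), rfl⟩

end

end Cfsg.Agent.Lib.Helper6
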