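import Mathlib
import Cfsg.Agent.Lib.Helper6.GenCharOps
import Cfsg.Agent.Lib.Helper6.MGroup
import Cfsg.Agent.Lib.Helper6.Ito
import Cfsg.Agent.Lib.Helper6.IndComb
import Cfsg.Agent.Lib.Helper6.GenChar

set_option autoImplicit false

namespace Cfsg.Agent.Lib.Helper6

open scoped ComplexConjugate

section

variable {G : Type*} [Group G]

open Classical in
/-- The function on a subgroup `A` equal to `|A|` on the generators of `A` and zero elsewhere. -/
noncomputable def genInd (A : Subgroup G) : A → ℂ :=
  fun a => if Subgroup.zpowers (a : G) = A then (Nat.card A : ℂ) else 0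

open Classical in
theorem extendByZero_genInd_mul (A : Subgroup G) (χ : G → ℂ) (y : G) :
    Cfsg.extendByZero A (fun a : A => genInd A a * χ a) y
      = if Subgroup.zpowers y = A then (Nat.card A : ℂ) * χ y else 0 := by
  by_cases hy : y ∈ A
  · rw [extendByZero_of_mem A _ hy]
    unfold genInd
    simp only [ite_mul, zero_mul]
  · rw [extendByZero_of_not_mem A _ hy, if_neg]
    intro h
    apply hy
    rw [← h]
    exact Subgroup.mem_zpowers y

open Classical in
/-- Artin's formula. -/
theorem artin_formula [Fintype G] (χ : G → ℂ) (hχ : Cfsg.IsClassFunction G χ) :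
    (Nat.card G : ℂ) • χ
      = ∑ A : Subgroup G, Cfsg.indFun A (fun a : A => genInd A a * χ a) := by
  funext g
  rw [Finset.sum_apply]
  unfold Cfsg.indFun
  simp_rw [extendByZero_genInd_mul]
  have h1 : ∀ A : Subgroup G, (Nat.card A : ℂ)⁻¹ * ∑ x : G,
      (if Subgroup.zpowers (x⁻¹ * g * x) = A then (Nat.card A : ℂ) * χ (x⁻¹ * g * x) else 0)
      = ∑ x : G, if Subgroup.zpowers (x⁻¹ * g * x) = A then χ g else 0 := by
    intro A
    have hA : (Nat.card A : ℂ) ≠ 0 := card_ne_zero_complex A
    rw [Finset.mul_sum]
    apply Finset.sum_congr rfl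
    intro x _
    split_ifs with h
    · have := hχ g x⁻¹
      rw [inv_inv] at this
      rw [this]
      field_simp
    · simp
  simp_rw [h1]
  rw [Finset.sum_comm]
  simp only [Finset.sum_ite_eq, Finset.mem_univ, if_true]
  rw [Finset.sum_const, Finset.card_univ, Pi.smul_apply, smul_eq_mul, nsmul_eq_mul,
    Nat.card_eq_fintype_card]

open Classical in
/-- `genInd A` only depends on `A` as an abstract group. -/
theorem genInd_eq (A : Subgroup G) (a : A) :
    genInd A a = if Subgroup.zpowers a = ⊤ then (Nat.card A : ℂ) else 0 := by
  unfold genInd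
  have h : Subgroup.zpowers (a : G) = A ↔ Subgroup.zpowers a = ⊤ := by
    have h1 : (Subgroup.zpowers a).map A.subtype = Subgroup.zpowers (a : G) := by
      rw [MonoidHom.map_zpowers]
      rfl
    have h2 : (⊤ : Subgroup A).map A.subtype = A := by
      rw [← MonoidHom.range_eq_map, Subgroup.range_subtype]
    rw [← h1]
    constructor
    · intro h
      apply Subgroup.map_injective A.subtype_injective
      rw [h, h2]
    · intro h
      rw [h, h2]
  simp only [h]

end

open Classical in
/-- The generator indicator of a finite cyclic group is a generalized character. -/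
theorem isGeneralizedCharacter_cycInd.{u} : ∀ (n : ℕ) (C : Type u) [Group C] [Fintype C]
    [IsCyclic C], Nat.card C = n →
    Cfsg.IsGeneralizedCharacter C
      (fun c : C => if Subgroup.zpowers c = ⊤ then (Nat.card C : ℂ) else 0) := by
  intro n
  induction n using Nat.strong_induction_on with
  | _ n ih =>
    intro C _ _ _ hn
    have hcomm : ∀ a b : C, a * b = b * a := fun a b => IsCyclic.commGroup.mul_comm a b
    set θ : C → ℂ := fun c : C => if Subgroup.zpowers c = ⊤ then (Nat.card C : ℂ) else 0
      with hθ
    have hθcf : Cfsg.IsClassFunction C θ := by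
      intro g h
      have : h * g * h⁻¹ = g := by rw [hcomm h g, mul_assoc, mul_inv_cancel, mul_one]
      rw [this]
    have hone : Cfsg.IsClassFunction C (fun _ => (1 : ℂ)) := fun _ _ => rfl
    have hF := artin_formula (fun _ : C => (1 : ℂ)) hone
    rw [← Finset.add_sum_erase Finset.univ _ (Finset.mem_univ (⊤ : Subgroup C))] at hF
    have htop : Cfsg.indFun (⊤ : Subgroup C) (fun a : (⊤ : Subgroup C) => genInd ⊤ a * 1) = θ := by
      have h1 : (fun a : (⊤ : Subgroup C) => genInd ⊤ a * 1)
          = fun a : (⊤ : Subgroup C) => θ a := by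
        funext a
        rw [mul_one]
        unfold genInd
        rw [hθ, Subgroup.card_top]
      rw [h1, indFun_top hθcf]
    rw [htop] at hF
    have hθeq : θ = (Nat.card C : ℂ) • (fun _ : C => (1 : ℂ))
        - ∑ B ∈ Finset.univ.erase (⊤ : Subgroup C),
            Cfsg.indFun B (fun b : B => genInd B b * 1) := by
      rw [hF]; ring
    rw [hθeq]
    apply IsGeneralizedCharacter.sub
    · exact IsGeneralizedCharacter.natCast_smul
        (IsCharacter.isGeneralizedCharacter isCharacter_one) _
    · apply IsGeneralizedCharacter.sum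
      intro B hB
      have hBtop : B ≠ ⊤ := Finset.ne_of_mem_erase hB
      apply IsGeneralizedCharacter.indFun
      have hBlt : Nat.card B < n := by
        rw [← hn]
        apply lt_of_le_of_ne (Subgroup.card_le_card_group B)
        intro h
        exact hBtop (Subgroup.eq_top_of_card_eq B h)
      have : Fintype B := Fintype.ofFinite B
      have := ih (Nat.card B) hBlt B rfl
      have h2 : (fun b : B => genInd B b * 1)
          = fun b : B => if Subgroup.zpowers b = ⊤ then (Nat.card B : ℂ) else 0 := by
        funext b
        rw [mul_one, genInd_eq]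
      rw [h2]
      exact this

section

variable {G : Type*} [Group G] [Fintype G]

/-- A generalized character of a commutative group is an integer combination of linear
characters. -/
theorem IsGeneralizedCharacter.exists_linear_comb (hcomm : ∀ a b : G, a * b = b * a)
    {θ : G → ℂ} (hθ : Cfsg.IsGeneralizedCharacter G θ) :
    ∃ (ι : Type) (_ : Fintype ι) (lam : ι → (G →* ℂˣ)) (c : ι → ℤ),
      θ = ∑ i, (c i : ℂ) • (fun g => ((lam i g : ℂˣ) : ℂ)) := by
  classical
  have : Fintype (Cfsg.IrrCharacter G) := Fintype.ofFinite _
  obtain ⟨c, hc, _⟩ := IsGeneralizedCharacter.exists_int_coeff hθ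
  have hlin : ∀ β : Cfsg.IrrCharacter G, (β : G → ℂ) 1 = 1 := by
    intro β
    obtain ⟨k, σ, hσ, hβ⟩ := β.2
    have := hσ
    rw [← hβ, Representation.char_one, finrank_eq_one_of_comm hcomm σ]
    simp
  let e := Fintype.equivFin (Cfsg.IrrCharacter G)
  refine ⟨Fin (Fintype.card (Cfsg.IrrCharacter G)), inferInstance,
    fun i => linearCharHom (IsIrrCharacter.isCharacter (e.symm i).2) (hlin (e.symm i)),
    fun i => c (e.symm i), ?_⟩
  rw [hc]
  rw [← Equiv.sum_comp e.symm]
  apply Finset.sum_congr rfl
  intro i _
  congr 1

/-- Artin's induction theorem. -/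
theorem artin_induction (χ : G → ℂ) (hχ : Cfsg.IsCharacter G χ) :
    IndLinComb (fun A : Subgroup G => IsCyclic A) ((Nat.card G : ℂ) • χ) := by
  classical
  rw [artin_formula χ (IsCharacter.isClassFunction hχ)]
  apply IndLinComb.sum
  intro A _
  by_cases hA : IsCyclic A
  · have : Fintype A := Fintype.ofFinite A
    have hcomm : ∀ a b : A, a * b = b * a := fun a b => IsCyclic.commGroup.mul_comm a b
    have hgen : Cfsg.IsGeneralizedCharacter A (fun a : A => genInd A a * χ a) := by
      have h1 := isGeneralizedCharacter_cycInd (Nat.card A) A rfl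
      have h2 : (fun a : A => genInd A a * χ a)
          = (fun a : A => if Subgroup.zpowers a = ⊤ then (Nat.card A : ℂ) else 0)
            * (fun a : A => χ a) := by
        funext a
        rw [Pi.mul_apply, genInd_eq]
      rw [h2]
      exact IsGeneralizedCharacter.mul h1
        (IsCharacter.isGeneralizedCharacter (IsCharacter.restrict A hχ))
    obtain ⟨ι, _, lam, c, hθ⟩ := IsGeneralizedCharacter.exists_linear_comb hcomm hgen
    rw [hθ, indFun_sum]
    apply IndLinComb.sum
    intro i _
    rw [indFun_smul]
    exact IndLinComb.single A hA (lam i) (c i)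
  · have h0 : (fun a : A => genInd A a * χ a) = 0 := by
      funext a
      unfold genInd
      rw [if_neg, zero_mul]
      · rfl
      · intro h
        apply hA
        rw [← h]
        infer_instance
    rw [h0, indFun_zero]
    exact IndLinComb.zero _

end

end Cfsg.Agent.Lib.Helper6
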