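import Mathlib
import Cfsg.Agent.Lib.Helper6.QuasiElem
import Cfsg.Agent.Lib.Helper6.IndLinear
import Cfsg.Agent.Lib.Helper6.MGroup
import Cfsg.Agent.Lib.Helper6.Artin
import Cfsg.Agent.S0870

set_option autoImplicit false

namespace Cfsg.Agent.Lib.Helper6

section

variable {G : Type*} [Group G] [Fintype G]

/-- `f` is an integer combination of permutation characters `(1_D)^G` with `D` satisfying `P`. -/
def PermSpan (P : Subgroup G → Prop) (f : G → ℂ) : Prop :=
  ∃ a : Subgroup G → ℤ, (∀ D, a D ≠ 0 → P D) ∧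
    f = ∑ D : Subgroup G, (a D : ℂ) • Cfsg.indFun D (fun _ => (1 : ℂ))

theorem PermSpan.zero (P : Subgroup G → Prop) : PermSpan P (0 : G → ℂ) :=
  ⟨0, fun D h => absurd rfl h, by simp⟩

theorem PermSpan.add {P : Subgroup G → Prop} {f g : G → ℂ} (hf : PermSpan P f)
    (hg : PermSpan P g) : PermSpan P (f + g) := by
  obtain ⟨a, ha, rfl⟩ := hf
  obtain ⟨b, hb, rfl⟩ := hg
  refine ⟨a + b, ?_, ?_⟩
  · intro D hD
    by_cases h : a D = 0
    · apply hb
      intro h'
      apply hD
      rw [Pi.add_apply, h, h', add_zero]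
    · exact ha D h
  · rw [← Finset.sum_add_distrib]
    apply Finset.sum_congr rfl
    intro D _
    rw [Pi.add_apply, Int.cast_add, add_smul]

theorem PermSpan.intCast_smul {P : Subgroup G → Prop} {f : G → ℂ} (hf : PermSpan P f) (c : ℤ) :
    PermSpan P ((c : ℂ) • f) := by
  obtain ⟨a, ha, rfl⟩ := hf
  refine ⟨fun D => c * a D, ?_, ?_⟩
  · intro D hD
    apply ha
    intro h
    apply hD
    change c * a D = 0
    rw [h, mul_zero]
  · rw [Finset.smul_sum]
    apply Finset.sum_congr rfl
    intro D _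
    rw [smul_smul, Int.cast_mul]

theorem PermSpan.neg {P : Subgroup G → Prop} {f : G → ℂ} (hf : PermSpan P f) :
    PermSpan P (-f) := by
  have := PermSpan.intCast_smul hf (-1)
  simpa using this

theorem PermSpan.sub {P : Subgroup G → Prop} {f g : G → ℂ} (hf : PermSpan P f)
    (hg : PermSpan P g) : PermSpan P (f - g) := by
  rw [sub_eq_add_neg]
  exact PermSpan.add hf (PermSpan.neg hg)

theorem PermSpan.sum {P : Subgroup G → Prop} {ι : Type*} (s : Finset ι) (f : ι → G → ℂ)
    (hf : ∀ i ∈ s, PermSpan P (f i)) : PermSpan P (∑ i ∈ s, f i) := by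
  classical
  induction s using Finset.induction_on with
  | empty => simp only [Finset.sum_empty]; exact PermSpan.zero P
  | insert a s ha ih =>
    rw [Finset.sum_insert ha]
    exact PermSpan.add (hf a (Finset.mem_insert_self a s))
      (ih (fun i hi => hf i (Finset.mem_insert_of_mem hi)))

theorem PermSpan.single {P : Subgroup G → Prop} (D : Subgroup G) (hD : P D) :
    PermSpan P (Cfsg.indFun D (fun _ => (1 : ℂ))) := by
  classical
  refine ⟨fun D' => if D' = D then 1 else 0, ?_, ?_⟩
  · intro D' h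
    by_cases h' : D' = D
    · rw [h']; exact hD
    · simp [h'] at h
  · simp [Finset.sum_ite_eq']

theorem PermSpan.mono {P Q : Subgroup G → Prop} (hPQ : ∀ D, P D → Q D) {f : G → ℂ}
    (hf : PermSpan P f) : PermSpan Q f := by
  obtain ⟨a, ha, rfl⟩ := hf
  exact ⟨a, fun D h => hPQ D (ha D h), rfl⟩

theorem PermSpan.mul {P : Subgroup G → Prop} (hP : ∀ H U : Subgroup G, P H → U ≤ H → P U)
    {f g : G → ℂ} (hf : PermSpan P f) (hg : PermSpan P g) : PermSpan P (f * g) := by
  obtain ⟨a, ha, rfl⟩ := hf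
  obtain ⟨b, hb, rfl⟩ := hg
  rw [Finset.sum_mul_sum]
  apply PermSpan.sum
  intro H _
  apply PermSpan.sum
  intro K _
  have h1 : ((a H : ℂ) • Cfsg.indFun H (fun _ => (1 : ℂ)))
      * ((b K : ℂ) • Cfsg.indFun K (fun _ => (1 : ℂ)))
      = ((a H * b K : ℤ) : ℂ) •
        (Cfsg.indFun H (fun _ => (1 : ℂ)) * Cfsg.indFun K (fun _ => (1 : ℂ))) := by
    rw [smul_mul_smul_comm, Int.cast_mul]
  rw [h1]
  by_cases hH : a H = 0
  · rw [hH, zero_mul, Int.cast_zero, zero_smul]
    exact PermSpan.zero P
  · apply PermSpan.intCast_smul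
    obtain ⟨n, hn, hprod⟩ := Cfsg.Agent.S0870.result H K
    refine ⟨fun U => (n U : ℤ), ?_, ?_⟩
    · intro U hU
      apply hP H U (ha H hH)
      apply hn
      have hU' : (n U : ℤ) ≠ 0 := hU
      exact_mod_cast hU'
    · rw [hprod]
      apply Finset.sum_congr rfl
      intro U _
      push_cast
      rfl

theorem PermSpan.pow_succ {P : Subgroup G → Prop} (hP : ∀ H U : Subgroup G, P H → U ≤ H → P U)
    {f : G → ℂ} (hf : PermSpan P f) (k : ℕ) : PermSpan P (f ^ (k + 1)) := by
  induction k with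
  | zero => simpa using hf
  | succ k ih =>
    rw [_root_.pow_succ]
    exact PermSpan.mul hP ih hf

/-- Values of elements of the span are integers. -/
theorem PermSpan.exists_int {P : Subgroup G → Prop} {f : G → ℂ} (hf : PermSpan P f) (x : G) :
    ∃ z : ℤ, f x = z := by
  classical
  obtain ⟨a, _, rfl⟩ := hf
  have : ∀ D : Subgroup G, ∃ n : ℕ, Cfsg.indFun D (fun _ => (1 : ℂ)) x = n := by
    intro D
    have : Fintype (G ⧸ D) := Fintype.ofFinite _
    exact ⟨_, indFun_one_eq_card_fixed D x⟩
  choose n hn using this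
  refine ⟨∑ D, a D * n D, ?_⟩
  rw [Finset.sum_apply]
  push_cast
  apply Finset.sum_congr rfl
  intro D _
  rw [Pi.smul_apply, hn D, smul_eq_mul]

/-- Elements of the span are class functions. -/
theorem PermSpan.isClassFunction {P : Subgroup G → Prop} {f : G → ℂ} (hf : PermSpan P f) :
    Cfsg.IsClassFunction G f := by
  obtain ⟨a, _, rfl⟩ := hf
  intro g h
  rw [Finset.sum_apply, Finset.sum_apply]
  apply Finset.sum_congr rfl
  intro D _
  rw [Pi.smul_apply, Pi.smul_apply, indFun_isClassFunction D _ g h]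

/-- Elements of the span only depend on the cyclic subgroup generated. -/
theorem PermSpan.apply_eq_of_zpowers_eq {P : Subgroup G → Prop} {f : G → ℂ} (hf : PermSpan P f)
    {x y : G} (hxy : Subgroup.zpowers x = Subgroup.zpowers y) : f x = f y := by
  classical
  obtain ⟨a, _, rfl⟩ := hf
  rw [Finset.sum_apply, Finset.sum_apply]
  apply Finset.sum_congr rfl
  intro D _
  rw [Pi.smul_apply, Pi.smul_apply]
  congr 1
  have : Fintype (G ⧸ D) := Fintype.ofFinite _
  rw [indFun_one_eq_card_fixed D x, indFun_one_eq_card_fixed D y]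
  congr 2
  ext q
  simp only [Finset.mem_filter, Finset.mem_univ, true_and]
  constructor
  · intro h
    exact smul_eq_of_mem_zpowers h (by rw [hxy]; exact Subgroup.mem_zpowers y)
  · intro h
    exact smul_eq_of_mem_zpowers h (by rw [← hxy]; exact Subgroup.mem_zpowers x)

/-- Induction maps the span of a subgroup into the span of the group. -/
theorem PermSpan.indFun {P : Subgroup G → Prop} (K : Subgroup G) [Fintype K]
    {P' : Subgroup K → Prop} (hP : ∀ D : Subgroup K, P' D → P (D.map K.subtype)) {f : K → ℂ}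
    (hf : PermSpan P' f) : PermSpan P (Cfsg.indFun K f) := by
  obtain ⟨a, ha, rfl⟩ := hf
  rw [indFun_sum]
  apply PermSpan.sum
  intro D _
  rw [indFun_smul]
  by_cases hD : a D = 0
  · rw [hD, Int.cast_zero, zero_smul]
    exact PermSpan.zero P
  · apply PermSpan.intCast_smul
    have hDK : D.map K.subtype ≤ K := Subgroup.map_subtype_le D
    have h1 := Cfsg.Agent.S0147.result (D.map K.subtype) K hDK (fun _ => (1 : ℂ))
    have hsub : (D.map K.subtype).subgroupOf K = D :=
      Subgroup.comap_map_eq_self_of_injective K.subtype_injective D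
    have h2 : Cfsg.indFun ((D.map K.subtype).subgroupOf K) (fun _ => (1 : ℂ))
        = Cfsg.indFun D (fun _ => (1 : ℂ)) :=
      indFun_congr_subgroup _ _ hsub _ _ (fun _ _ _ => rfl)
    rw [h2] at h1
    rw [h1]
    exact PermSpan.single _ (hP D (ha D hD))

end

end Cfsg.Agent.Lib.Helper6
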