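import Mathlib
import Cfsg.Agent.Lib.Helper6.PermSpan

set_option autoImplicit false

namespace Cfsg.Agent.Lib.Helper6

open Classical in
/-- The generator indicator of a finite cyclic group is an integer combination of permutation
characters. -/
theorem permSpan_cycInd.{u} : ∀ (n : ℕ) (C : Type u) [Group C] [Fintype C]
    [IsCyclic C], Nat.card C = n →
    PermSpan (fun _ : Subgroup C => True)
      (fun c : C => if Subgroup.zpowers c = ⊤ then (Nat.card C : ℂ) else 0) := by
  intro n
  induction n using Nat.strong_induction_on with
  | _ n ih =>
    intro C _ _ _ hn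
    have hcomm : ∀ a b : C, a * b = b * a := fun a b => IsCyclic.commGroup.mul_comm a b
    set θ : C → ℂ := fun c : C => if Subgroup.zpowers c = ⊤ then (Nat.card C : ℂ) else 0
      with hθ
    have hθcf : Cfsg.IsClassFunction C θ := by
      intro g h
      have : h * g * h⁻¹ = g := by rw [hcomm h g, mul_assoc, mul_inv_cancel, mul_one]
      rw [this]
    have hone : Cfsg.IsClassFunction C (fun _ => (1 : ℂ)) := fun _ _ => rfl
    have hF := artin_formula (fun _ : C => (1 : ℂ)) hone
    rw [← Finset.add_sum_erase Finset.univ _ (Finset.mem_univ (⊤ : Subgroup C))] at hF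
    have htop : Cfsg.indFun (⊤ : Subgroup C) (fun a : (⊤ : Subgroup C) => genInd ⊤ a * 1) = θ := by
      have h1 : (fun a : (⊤ : Subgroup C) => genInd ⊤ a * 1)
          = fun a : (⊤ : Subgroup C) => θ a := by
        funext a
        rw [mul_one]
        unfold genInd
        rw [hθ, Subgroup.card_top]
      rw [h1, indFun_top hθcf]
    rw [htop] at hF
    have hθeq : θ = (Nat.card C : ℂ) • (fun _ : C => (1 : ℂ))
        - ∑ B ∈ Finset.univ.erase (⊤ : Subgroup C),
            Cfsg.indFun B (fun b : B => genInd B b * 1) := by
      rw [hF]; ring
    rw [hθeq]
    apply PermSpan.sub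
    · have h1 : (fun _ : C => (1 : ℂ))
          = Cfsg.indFun (⊤ : Subgroup C) (fun _ => (1 : ℂ)) := (indFun_top hone).symm
      rw [h1]
      have := PermSpan.intCast_smul
        (PermSpan.single (P := fun _ : Subgroup C => True) (⊤ : Subgroup C) trivial) (Nat.card C)
      simpa using this
    · apply PermSpan.sum
      intro B hB
      have hBtop : B ≠ ⊤ := Finset.ne_of_mem_erase hB
      have : Fintype B := Fintype.ofFinite B
      apply PermSpan.indFun B (P' := fun _ => True) (fun _ _ => trivial)
      have hBlt : Nat.card B < n := by
        rw [← hn]
        apply lt_of_le_of_ne (Subgroup.card_le_card_group B)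
        intro h
        exact hBtop (Subgroup.eq_top_of_card_eq B h)
      have := ih (Nat.card B) hBlt B rfl
      have h2 : (fun b : B => genInd B b * 1)
          = fun b : B => if Subgroup.zpowers b = ⊤ then (Nat.card B : ℂ) else 0 := by
        funext b
        rw [mul_one, genInd_eq]
      rw [h2]
      exact this

section

variable {G : Type*} [Group G] [Fintype G]

/-- `|G|` times an integer-valued class function depending only on the cyclic subgroup generated
is an integer combination of permutation characters on cyclic subgroups. -/
theorem permSpan_card_smul (h : G → ℂ) (hcf : Cfsg.IsClassFunction G h)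
    (hcyc : ∀ x y : G, Subgroup.zpowers x = Subgroup.zpowers y → h x = h y)
    (hint : ∀ x : G, ∃ z : ℤ, h x = z) :
    PermSpan (fun A : Subgroup G => IsCyclic A) ((Nat.card G : ℂ) • h) := by
  classical
  rw [artin_formula h hcf]
  apply PermSpan.sum
  intro A _
  by_cases hA : IsCyclic A
  · have : Fintype A := Fintype.ofFinite A
    obtain ⟨a₀, ha₀⟩ := hA.exists_generator
    have ha₀' : Subgroup.zpowers a₀ = ⊤ := by
      rw [eq_top_iff]
      intro y _
      exact ha₀ y
    obtain ⟨z₀, hz₀⟩ := hint (a₀ : G)
    have h1 : (fun a : A => genInd A a * h a) = (z₀ : ℂ) • genInd A := by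
      funext a
      rw [Pi.smul_apply, smul_eq_mul, mul_comm]
      by_cases hgen : Subgroup.zpowers (a : G) = A
      · have h2 : Subgroup.zpowers (a₀ : G) = A := by
          have := genInd_eq A a₀
          unfold genInd at this
          by_contra hne
          rw [if_neg hne, if_pos ha₀'] at this
          exact card_ne_zero_complex A this.symm
        rw [hcyc (a : G) (a₀ : G) (hgen.trans h2.symm), hz₀]
      · unfold genInd
        rw [if_neg hgen, mul_zero, mul_zero]
    rw [h1, indFun_smul]
    apply PermSpan.intCast_smul
    apply PermSpan.indFun A (P' := fun _ => True)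
    · intro D _
      have : IsCyclic D := inferInstance
      exact isCyclic_of_surjective (Subgroup.equivMapOfInjective D A.subtype
        A.subtype_injective) (Subgroup.equivMapOfInjective D A.subtype
        A.subtype_injective).surjective
    · have := permSpan_cycInd (Nat.card A) A rfl
      have h2 : genInd A = fun a : A => if Subgroup.zpowers a = ⊤ then (Nat.card A : ℂ) else 0 := by
        funext a
        rw [genInd_eq]
      rw [h2]
      exact this
  · have h0 : (fun a : A => genInd A a * h a) = 0 := by
      funext a
      unfold genInd
      rw [if_neg, zero_mul]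
      · rfl
      · intro h
        apply hA
        rw [← h]
        infer_instance
    rw [h0, indFun_zero]
    exact PermSpan.zero _

end

end Cfsg.Agent.Lib.Helper6
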