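import Mathlib
import Cfsg.Agent.Lib.Helper6.ArtinPerm
import Cfsg.Agent.S0869

set_option autoImplicit false

namespace Cfsg.Agent.Lib.Helper6

section

variable {G : Type*} [Group G]

theorem card_mul_relIndex_of_le {C A : Subgroup G} (h : C ≤ A) :
    Nat.card C * C.relIndex A = Nat.card A := by
  have h1 := (C.subgroupOf A).card_mul_index
  rw [Nat.card_congr (Subgroup.subgroupOfEquivOfLe h).toEquiv] at h1
  exact h1

/-- Subgroups of `p`-quasi-elementary groups are `p`-quasi-elementary. -/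
theorem IsQuasiElem.of_le {p : ℕ} (hp : p.Prime) {H U : Subgroup G} (hH : IsQuasiElem p H)
    (hUH : U ≤ H) :
    IsQuasiElem p U := by
  obtain ⟨C, hCH, hHN, hcyc, hcop, k, hk⟩ := hH
  refine ⟨C ⊓ U, inf_le_right, ?_, ?_, ?_, ?_⟩
  · intro g hg
    have hgN := hHN (hUH hg)
    rw [Subgroup.mem_normalizer_iff] at hgN ⊢
    intro h
    rw [Subgroup.mem_inf, Subgroup.mem_inf, ← hgN h]
    constructor
    · rintro ⟨h1, h2⟩
      exact ⟨h1, U.mul_mem (U.mul_mem hg h2) (U.inv_mem hg)⟩
    · rintro ⟨h1, h2⟩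
      refine ⟨h1, ?_⟩
      have := U.mul_mem (U.mul_mem (U.inv_mem hg) h2) hg
      simpa [mul_assoc] using this
  · have : IsCyclic ((C ⊓ U).subgroupOf C) := by
      have := hcyc
      infer_instance
    exact isCyclic_of_surjective (Subgroup.subgroupOfEquivOfLe (inf_le_left : C ⊓ U ≤ C))
      (Subgroup.subgroupOfEquivOfLe (inf_le_left : C ⊓ U ≤ C)).surjective
  · exact Nat.Coprime.coprime_dvd_left (Subgroup.card_dvd_of_le inf_le_left) hcop
  · rw [Subgroup.inf_relIndex_right]
    have hn : (C.subgroupOf H).Normal :=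
      (Subgroup.normal_subgroupOf_iff_le_normalizer hCH).mpr hHN
    have h1 := Subgroup.relIndex_dvd_index_of_normal (H := C.subgroupOf H)
      (K := U.subgroupOf H)
    rw [Subgroup.relIndex_subgroupOf hUH] at h1
    have h2 : (C.subgroupOf H).index = p ^ k := hk
    rw [h2] at h1
    obtain ⟨j, _, hj⟩ := (Nat.dvd_prime_pow hp).mp h1
    exact ⟨j, hj⟩

/-- Cyclic subgroups are `p`-quasi-elementary. -/
theorem isQuasiElem_of_isCyclic [Finite G] {p : ℕ} (hp : p.Prime) (A : Subgroup G)
    (hA : IsCyclic A) : IsQuasiElem p A := by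
  obtain ⟨a₀, ha₀⟩ := hA.exists_generator
  have hA0 : Subgroup.zpowers (a₀ : G) = A := by
    apply le_antisymm
    · exact Subgroup.zpowers_le.mpr a₀.2
    · intro y hy
      obtain ⟨j, hj⟩ := Subgroup.mem_zpowers_iff.mp (ha₀ ⟨y, hy⟩)
      have := congrArg Subtype.val hj
      simp only [Subgroup.coe_zpow] at this
      rw [← this]
      exact Subgroup.zpow_mem_zpowers _ j
  set x : G := (a₀ : G) with hx
  set o := orderOf x with ho_def
  have ho : o ≠ 0 := (orderOf_pos x).ne'
  set a := o.factorization p with ha_def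
  set m := o / p ^ a with hm_def
  have hom : p ^ a * m = o := Nat.ordProj_mul_ordCompl_eq_self o p
  have hcop : Nat.Coprime p m := Nat.coprime_ordCompl hp ho
  set c := x ^ (p ^ a) with hc_def
  have hc_ord : orderOf c = m := by
    rw [hc_def, orderOf_pow_of_dvd (pow_ne_zero _ hp.ne_zero) (Dvd.intro _ hom)]
  have hCA : Subgroup.zpowers c ≤ A := by
    rw [← hA0]
    exact Subgroup.zpowers_le.mpr (Subgroup.pow_mem _ (Subgroup.mem_zpowers x) _)
  refine ⟨Subgroup.zpowers c, hCA, ?_, inferInstance, ?_, a, ?_⟩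
  · intro g hg
    rw [Subgroup.mem_normalizer_iff]
    have hcomm : ∀ h ∈ A, g * h * g⁻¹ = h := by
      intro h hh
      rw [← hA0] at hg hh
      obtain ⟨i, rfl⟩ := Subgroup.mem_zpowers_iff.mp hg
      obtain ⟨j, rfl⟩ := Subgroup.mem_zpowers_iff.mp hh
      rw [← zpow_add, ← zpow_neg, ← zpow_add]
      congr 1
      ring
    intro h
    constructor
    · intro hh
      rw [hcomm h (hCA hh)]
      exact hh
    · intro hh
      have h1 := hcomm _ (hCA hh)
      have h3 : g * h * g⁻¹ = h := mul_left_cancel (mul_right_cancel h1)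
      rw [← h3]
      exact hh
  · rw [Nat.card_zpowers, hc_ord]
    exact hcop.symm
  · have h1 := card_mul_relIndex_of_le hCA
    rw [Nat.card_zpowers, hc_ord, ← hA0, Nat.card_zpowers, ← ho_def, ← hom] at h1
    have hm0 : m ≠ 0 := by
      intro h0
      rw [h0, mul_zero] at hom
      exact ho hom.symm
    rw [hA0] at h1
    have : m * (Subgroup.zpowers c).relIndex A = m * p ^ a := by rw [h1, mul_comm]
    exact Nat.eq_of_mul_eq_mul_left (Nat.pos_of_ne_zero hm0) this

end

section

variable {G : Type*} [Group G] [Fintype G]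

/-- The ring of integer-valued functions congruent mod `p` to an element of the span of the
`p`-quasi-elementary permutation characters. -/
def solomonRing (p : ℕ) (_hp : p.Prime) : AddSubgroup (G → ℤ) where
  carrier := {f | ∃ r : G → ℤ, PermSpan (IsQuasiElem p) (fun x => (r x : ℂ)) ∧
    ∀ x, (p : ℤ) ∣ f x - r x}
  zero_mem' := by
    refine ⟨0, ?_, fun x => by simp⟩
    have : (fun x : G => (((0 : G → ℤ) x : ℤ) : ℂ)) = 0 := by funext x; simp
    rw [this]
    exact PermSpan.zero _
  add_mem' := by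
    rintro f g ⟨r, hr, hfr⟩ ⟨r', hr', hgr⟩
    refine ⟨r + r', ?_, ?_⟩
    · have : (fun x : G => (((r + r') x : ℤ) : ℂ))
          = (fun x => (r x : ℂ)) + (fun x => (r' x : ℂ)) := by
        funext x; simp
      rw [this]
      exact PermSpan.add hr hr'
    · intro x
      have := dvd_add (hfr x) (hgr x)
      have e : (f + g) x - (r + r') x = (f x - r x) + (g x - r' x) := by
        simp only [Pi.add_apply]; ring
      rw [e]
      exact this
  neg_mem' := by
    rintro f ⟨r, hr, hfr⟩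
    refine ⟨-r, ?_, ?_⟩
    · have : (fun x : G => (((-r) x : ℤ) : ℂ)) = -(fun x => (r x : ℂ)) := by
        funext x; simp
      rw [this]
      exact PermSpan.neg hr
    · intro x
      have := (dvd_neg).mpr (hfr x)
      have e : (-f) x - (-r) x = -(f x - r x) := by
        simp only [Pi.neg_apply]; ring
      rw [e]
      exact this

theorem mem_solomonRing (p : ℕ) (hp : p.Prime) (f : G → ℤ) :
    f ∈ solomonRing (G := G) p hp ↔ ∃ r : G → ℤ, PermSpan (IsQuasiElem p) (fun x => (r x : ℂ)) ∧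
      ∀ x, (p : ℤ) ∣ f x - r x := Iff.rfl

theorem one_mem_solomonRing (p : ℕ) (hp : p.Prime) :
    (1 : G → ℤ) ∈ solomonRing (G := G) p hp := by
  classical
  by_contra h1
  have hQE : ∀ H U : Subgroup G, IsQuasiElem p H → U ≤ H → IsQuasiElem p U :=
    fun H U hH hU => IsQuasiElem.of_le hp hH hU
  have hmul : ∀ f ∈ solomonRing (G := G) p hp, ∀ g ∈ solomonRing (G := G) p hp,
      f * g ∈ solomonRing (G := G) p hp := by
    rintro f ⟨r, hr, hfr⟩ g ⟨r', hr', hgr⟩
    refine ⟨r * r', ?_, ?_⟩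
    · have : (fun x : G => (((r * r') x : ℤ) : ℂ))
          = (fun x => (r x : ℂ)) * (fun x => (r' x : ℂ)) := by
        funext x; simp
      rw [this]
      exact PermSpan.mul hQE hr hr'
    · intro x
      have e : (f * g) x - (r * r') x = f x * (g x - r' x) + r' x * (f x - r x) := by
        simp only [Pi.mul_apply]; ring
      rw [e]
      exact dvd_add (Dvd.dvd.mul_left (hgr x) _) (Dvd.dvd.mul_left (hfr x) _)
  have : Nonempty G := ⟨1⟩
  obtain ⟨x, q, hq, hall⟩ := Cfsg.Agent.S0869.result (solomonRing (G := G) p hp) hmul h1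
  -- `q = p`
  have hpmem : (fun _ : G => (p : ℤ)) ∈ solomonRing (G := G) p hp := by
    refine ⟨0, ?_, fun x => by simp⟩
    have : (fun x : G => (((0 : G → ℤ) x : ℤ) : ℂ)) = 0 := by funext x; simp
    rw [this]
    exact PermSpan.zero _
  have hqp : q = p := by
    have h2 := hall _ hpmem
    have h3 : q ∣ p := by exact_mod_cast h2
    exact (Nat.prime_dvd_prime_iff_eq hq hp).mp h3
  subst hqp
  obtain ⟨H, hH, n, hn, hnp⟩ := exists_quasiElem_not_dvd x q hp
  have hspan : PermSpan (IsQuasiElem q) (Cfsg.indFun H (fun _ => (1 : ℂ))) :=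
    PermSpan.single H hH
  have hz : ∀ y : G, ∃ z : ℤ, Cfsg.indFun H (fun _ => (1 : ℂ)) y = z :=
    fun y => PermSpan.exists_int hspan y
  choose z hz using hz
  have hzmem : z ∈ solomonRing (G := G) q hp := by
    refine ⟨z, ?_, fun y => by simp⟩
    have : (fun y : G => (z y : ℂ)) = Cfsg.indFun H (fun _ => (1 : ℂ)) := by
      funext y; rw [hz y]
    rw [this]
    exact hspan
  have h4 := hall z hzmem
  have h5 : (z x : ℂ) = (n : ℂ) := by rw [← hz x, hn]
  have h6 : z x = (n : ℤ) := by exact_mod_cast h5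
  rw [h6] at h4
  exact hnp (by exact_mod_cast h4)

/-- Solomon's theorem, local form. -/
theorem solomon_local (p : ℕ) (hp : p.Prime) :
    ∃ m : ℤ, ¬ (p : ℤ) ∣ m ∧ PermSpan (G := G) (IsQuasiElem p) (fun _ => (m : ℂ)) := by
  classical
  have hQE : ∀ H U : Subgroup G, IsQuasiElem p H → U ≤ H → IsQuasiElem p U :=
    fun H U hH hU => IsQuasiElem.of_le hp hH hU
  obtain ⟨r, hr, h1r⟩ := one_mem_solomonRing (G := G) p hp
  set ψ : G → ℂ := fun x => (r x : ℂ) with hψ
  set N := Nat.card G with hN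
  have hN0 : N ≠ 0 := Nat.card_pos.ne'
  set n := N.factorization p with hn
  set l := N / p ^ n with hl
  have hNl : p ^ n * l = N := Nat.ordProj_mul_ordCompl_eq_self N p
  have hcop : Nat.Coprime p l := Nat.coprime_ordCompl hp hN0
  have hpn : p ^ n = (p ^ n - 1) + 1 := (Nat.succ_pred_eq_of_pos (pow_pos hp.pos n)).symm
  have hψpow : PermSpan (IsQuasiElem p) (ψ ^ (p ^ n)) := by
    rw [hpn]
    exact PermSpan.pow_succ hQE hr _
  -- divisibility
  have hdiv : ∀ x : G, ∃ t : ℤ, (r x) ^ (p ^ n) - 1 = (p : ℤ) ^ (n + 1) * t := by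
    intro x
    have h1 : (p : ℤ) ∣ r x - 1 := by
      have := (dvd_neg).mpr (h1r x)
      simpa using this
    have h2 := dvd_sub_pow_of_dvd_sub h1 n
    rw [one_pow] at h2
    exact h2
  choose t ht using hdiv
  set h : G → ℂ := fun x => ((p * t x : ℤ) : ℂ) with hh
  have hkey : ∀ x : G, (N : ℂ) * h x = (l : ℂ) * (ψ x ^ (p ^ n) - 1) := by
    intro x
    have e : ψ x ^ (p ^ n) - 1 = (((r x) ^ (p ^ n) - 1 : ℤ) : ℂ) := by
      rw [hψ]; push_cast; rfl
    rw [e, ht x, hh, ← hNl]
    push_cast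
    ring
  have hNc : (N : ℂ) ≠ 0 := by exact_mod_cast hN0
  have hheq : ∀ x : G, h x = (N : ℂ)⁻¹ * ((l : ℂ) * (ψ x ^ (p ^ n) - 1)) := by
    intro x
    rw [← hkey x, ← mul_assoc, inv_mul_cancel₀ hNc, one_mul]
  have hcf : Cfsg.IsClassFunction G h := by
    intro g k
    rw [hheq, hheq, PermSpan.isClassFunction hr g k]
  have hcyc : ∀ x y : G, Subgroup.zpowers x = Subgroup.zpowers y → h x = h y := by
    intro x y hxy
    rw [hheq, hheq, PermSpan.apply_eq_of_zpowers_eq hr hxy]
  have hint : ∀ x : G, ∃ z : ℤ, h x = z := fun x => ⟨p * t x, rfl⟩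
  have hA := permSpan_card_smul h hcf hcyc hint
  have hA' : PermSpan (IsQuasiElem p) ((N : ℂ) • h) :=
    PermSpan.mono (fun A hA => isQuasiElem_of_isCyclic hp A hA) hA
  refine ⟨l, ?_, ?_⟩
  · intro hd
    have h2 : p ∣ l := by exact_mod_cast hd
    have := Nat.Coprime.eq_one_of_dvd hcop h2
    exact hp.one_lt.ne' this
  · have e : (fun _ : G => ((l : ℤ) : ℂ)) = ((l : ℤ) : ℂ) • (ψ ^ (p ^ n)) - (N : ℂ) • h := by
      funext x
      simp only [Pi.sub_apply, Pi.smul_apply, Pi.pow_apply, smul_eq_mul]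
      rw [hkey x]
      push_cast
      ring
    rw [e]
    exact PermSpan.sub (PermSpan.intCast_smul hψpow l) hA'

end

end Cfsg.Agent.Lib.Helper6
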