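import Mathlib
import Cfsg.Agent.Lib.Helper6.QuasiElemInd
import Cfsg.Agent.Lib.Helper6.Solomon

set_option autoImplicit false

namespace Cfsg.Agent.Lib.Helper6

section

variable {G : Type*} [Group G] [Fintype G]

/-- Permutation characters on `p`-quasi-elementary subgroups are integer combinations of
characters induced from `p`-elementary subgroups. -/
theorem indCharComb_indFun_one_of_isQuasiElem {p : ℕ} (hp : p.Prime) (K : Subgroup G)
    (hK : IsQuasiElem p K) :
    IndCharComb (fun E : Subgroup G => Cfsg.IsElementary p E)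
      (Cfsg.indFun K (fun _ => (1 : ℂ))) := by
  have : Fintype K := Fintype.ofFinite K
  have h1 := quasiElem_one_mem p hp (Nat.card K) K rfl hK.isQuasiElemGroup
  exact IndCharComb.indFun (P := fun E : Subgroup G => Cfsg.IsElementary p E) K
    (P' := fun E : Subgroup K => Cfsg.IsElementary p E)
    (fun D hD => IsElementary.of_mulEquiv
      (Subgroup.equivMapOfInjective D K.subtype Subtype.coe_injective) hD) h1

/-- Brauer's induction theorem, local form. -/
theorem brauer_local (p : ℕ) (hp : p.Prime) :
    ∃ m : ℤ, ¬ (p : ℤ) ∣ m ∧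
      IndCharComb (fun E : Subgroup G => Cfsg.IsElementary p E) (fun _ : G => (m : ℂ)) := by
  obtain ⟨m, hm, a, ha, hsum⟩ := solomon_local (G := G) p hp
  refine ⟨m, hm, ?_⟩
  rw [hsum]
  apply IndCharComb.sum
  intro K _
  by_cases hK : a K = 0
  · rw [hK, Int.cast_zero, zero_smul]
    exact IndCharComb.zero _
  · exact IndCharComb.intCast_smul (indCharComb_indFun_one_of_isQuasiElem hp K (ha K hK)) _

end

end Cfsg.Agent.Lib.Helper6
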