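import Mathlib
import Cfsg.Prelude.Def_Characters
import Cfsg.Agent.Lib.Helper6.ElemStruct

set_option autoImplicit false

namespace Cfsg.Agent.Lib.Helper6

section

variable {E : Type*} [Group E] [Finite E]

omit [Finite E] in
/-- A central subgroup is normal. -/
theorem normal_of_le_center' {Z : Subgroup E} (hZ : Z ≤ Subgroup.center E) : Z.Normal := by
  constructor
  intro n hn g
  have := Subgroup.mem_center_iff.mp (hZ hn) g
  have h1 : g * n * g⁻¹ = n := by rw [this, mul_assoc, mul_inv_cancel, mul_one]
  rw [h1]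
  exact hn

omit [Finite E] in
theorem zpowers_le_center {x : E} (hx : x ∈ Subgroup.center E) :
    Subgroup.zpowers x ≤ Subgroup.center E := Subgroup.zpowers_le.mpr hx

/-- Elementary groups are nilpotent. -/
theorem IsElementary.isNilpotent {p : ℕ} (hp : p.Prime) (h : Cfsg.IsElementary p E) :
    Group.IsNilpotent E := by
  have : Fact p.Prime := ⟨hp⟩
  obtain ⟨x, hx, _, k, hk⟩ := h
  have hZ := zpowers_le_center hx
  have hn : (Subgroup.zpowers x).Normal := normal_of_le_center' hZ
  have hpg : IsPGroup p (E ⧸ Subgroup.zpowers x) := IsPGroup.of_card hk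
  have hnil : Group.IsNilpotent (E ⧸ Subgroup.zpowers x) := hpg.isNilpotent
  apply Subgroup.isNilpotent_of_ker_le_center (QuotientGroup.mk' (Subgroup.zpowers x))
  rw [QuotientGroup.ker_mk']
  exact hZ

omit [Finite E] in
/-- Subgroups of elementary groups are elementary. -/
theorem IsElementary.subgroup {p : ℕ} (hp : p.Prime) (h : Cfsg.IsElementary p E)
    (D : Subgroup E) : Cfsg.IsElementary p D := by
  obtain ⟨x, hx, hcop, k, hk⟩ := h
  have hZ := zpowers_le_center hx
  have hn : (Subgroup.zpowers x).Normal := normal_of_le_center' hZ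
  set Zx := Subgroup.zpowers x with hZx
  let f : Zx.subgroupOf D →* Zx :=
    (D.subtype.comp (Zx.subgroupOf D).subtype).codRestrict Zx
      (fun y => Subgroup.mem_subgroupOf.mp y.2)
  have hf : Function.Injective f := by
    intro a b hab
    have := congrArg (fun t : Zx => (t : E)) hab
    apply Subtype.ext
    apply Subtype.ext
    exact this
  have hcyc : IsCyclic (Zx.subgroupOf D) := isCyclic_of_injective f hf
  obtain ⟨y, hy⟩ := hcyc.exists_generator
  have hyord : orderOf y = Nat.card (Zx.subgroupOf D) := orderOf_eq_card_of_forall_mem_zpowers hy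
  have hzp : Subgroup.zpowers (y : D) = Zx.subgroupOf D := by
    apply le_antisymm
    · exact Subgroup.zpowers_le.mpr y.2
    · intro w hw
      obtain ⟨j, hj⟩ := Subgroup.mem_zpowers_iff.mp (hy ⟨w, hw⟩)
      have := congrArg Subtype.val hj
      simp only [Subgroup.coe_zpow] at this
      rw [← this]
      exact Subgroup.zpow_mem_zpowers _ j
  have hidx : (Zx.subgroupOf D).index ∣ p ^ k := by
    rw [← hk]
    exact Subgroup.relIndex_dvd_index_of_normal Zx D
  obtain ⟨j, _, hj⟩ := (Nat.dvd_prime_pow hp).mp hidx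
  refine ⟨(y : D), ?_, ?_, j, ?_⟩
  · rw [Subgroup.mem_center_iff]
    intro g
    have h1 : ((y : D) : E) ∈ Subgroup.center E := hZ (Subgroup.mem_subgroupOf.mp y.2)
    apply Subtype.ext
    exact Subgroup.mem_center_iff.mp h1 g
  · rw [Subgroup.orderOf_coe, hyord]
    have h1 : Nat.card (Zx.subgroupOf D) ∣ Nat.card Zx := Subgroup.card_dvd_of_injective f hf
    rw [Nat.card_zpowers] at h1
    exact Nat.Coprime.coprime_dvd_left h1 hcop
  · rw [hzp]
    exact hj

/-- Cyclic groups are elementary for every prime. -/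
theorem isElementary_of_isCyclic {p : ℕ} (hp : p.Prime) (hE : IsCyclic E) :
    Cfsg.IsElementary p E := by
  obtain ⟨x, hx⟩ := hE.exists_generator
  have hcomm : ∀ a b : E, a * b = b * a := fun a b => IsCyclic.commGroup.mul_comm a b
  set o := orderOf x with ho_def
  have hocard : o = Nat.card E := orderOf_eq_card_of_forall_mem_zpowers hx
  have ho : o ≠ 0 := (orderOf_pos x).ne'
  set a := o.factorization p with ha_def
  set m := o / p ^ a with hm_def
  have hom : p ^ a * m = o := Nat.ordProj_mul_ordCompl_eq_self o p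
  have hcop : Nat.Coprime p m := Nat.coprime_ordCompl hp ho
  have hm0 : m ≠ 0 := by
    intro h0
    rw [h0, mul_zero] at hom
    exact ho hom.symm
  set c := x ^ (p ^ a) with hc_def
  have hc_ord : orderOf c = m := by
    rw [hc_def, orderOf_pow_of_dvd (pow_ne_zero _ hp.ne_zero) (Dvd.intro _ hom)]
  refine ⟨c, ?_, ?_, a, ?_⟩
  · rw [Subgroup.mem_center_iff]
    intro g
    exact hcomm g c
  · rw [hc_ord]
    exact hcop.symm
  · have h1 := (Subgroup.zpowers c).card_mul_index
    rw [Nat.card_zpowers, hc_ord, ← hocard, ← hom] at h1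
    have : m * (Subgroup.zpowers c).index = m * p ^ a := by rw [h1, mul_comm]
    exact Nat.eq_of_mul_eq_mul_left (Nat.pos_of_ne_zero hm0) this

end

end Cfsg.Agent.Lib.Helper6
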