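import Mathlib
import Cfsg.Agent.Lib.Helper6.MGroup
import Cfsg.Agent.Lib.Helper6.Ito
import Cfsg.Agent.Lib.Helper6.Linear

set_option autoImplicit false

namespace Cfsg.Agent.Lib.Helper6

open Module
open scoped ComplexConjugate

section

variable {G : Type*} [Group G]

/-- The subgroup of elements acting by operators commuting with the whole image. -/
def commSubgroup {V : Type*} [AddCommGroup V] [Module ℂ V] (ρ : Representation ℂ G V) :
    Subgroup G where
  carrier := {g | ∀ x, ρ g * ρ x = ρ x * ρ g}
  one_mem' := by intro x; simp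
  mul_mem' := by
    intro a b ha hb x
    rw [map_mul, mul_assoc, hb x, ← mul_assoc, ha x, mul_assoc]
  inv_mem' := by
    intro a ha x
    have h1 : ρ a⁻¹ * ρ a = 1 := by rw [← map_mul, inv_mul_cancel, map_one]
    have h2 : ρ a * ρ a⁻¹ = 1 := by rw [← map_mul, mul_inv_cancel, map_one]
    calc ρ a⁻¹ * ρ x = ρ a⁻¹ * ρ x * (ρ a * ρ a⁻¹) := by rw [h2, mul_one]
      _ = ρ a⁻¹ * (ρ x * ρ a) * ρ a⁻¹ := by simp only [mul_assoc]
      _ = ρ a⁻¹ * (ρ a * ρ x) * ρ a⁻¹ := by rw [ha x]
      _ = (ρ a⁻¹ * ρ a) * ρ x * ρ a⁻¹ := by simp only [mul_assoc]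
      _ = ρ x * ρ a⁻¹ := by rw [h1, one_mul]

theorem mem_commSubgroup {V : Type*} [AddCommGroup V] [Module ℂ V] (ρ : Representation ℂ G V)
    (g : G) : g ∈ commSubgroup ρ ↔ ∀ x, ρ g * ρ x = ρ x * ρ g := Iff.rfl

theorem commSubgroup_normal {V : Type*} [AddCommGroup V] [Module ℂ V]
    (ρ : Representation ℂ G V) : (commSubgroup ρ).Normal := by
  constructor
  intro g hg y
  have h2 : ρ y * ρ y⁻¹ = 1 := by rw [← map_mul, mul_inv_cancel, map_one]
  have h1 : ρ (y * g * y⁻¹) = ρ g := by
    rw [map_mul, map_mul, ← hg y, mul_assoc, h2, mul_one]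
  rw [mem_commSubgroup, h1]
  exact hg

/-- An irreducible representation with commuting image is one-dimensional. -/
theorem finrank_eq_one_of_commute [Fintype G] {V : Type*} [AddCommGroup V] [Module ℂ V]
    [FiniteDimensional ℂ V] (τ : Representation ℂ G V) [τ.IsIrreducible]
    (hτ : ∀ x y : G, τ x * τ y = τ y * τ x) : finrank ℂ V = 1 := by
  apply finrank_eq_one_of_commutator_le_ker τ
  have hle : commutator G ≤ MonoidHom.ker (τ : G →* Module.End ℂ V) := by
    rw [commutator_def, Subgroup.commutator_le]
    intro a _ b _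
    rw [MonoidHom.mem_ker, commutatorElement_def, map_mul, map_mul, map_mul, hτ a b,
      mul_assoc (τ b), ← map_mul τ a, mul_inv_cancel, map_one, mul_one, ← map_mul,
      mul_inv_cancel, map_one]
  intro z hz
  exact MonoidHom.mem_ker.mp (hle hz)

end

/-- Finite nilpotent groups are M-groups. -/
theorem nilpotent_monomial.{u} : ∀ (n : ℕ) (G : Type u) [Group G] [Fintype G]
    [Group.IsNilpotent G], Nat.card G = n → ∀ χ : G → ℂ, Cfsg.IsIrrCharacter G χ →
    ∃ (H : Subgroup G) (lam : H →* ℂˣ), χ = Cfsg.indFun H (fun h => (lam h : ℂ)) := by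
  intro n
  induction n using Nat.strong_induction_on with
  | _ n ih =>
    intro G _ _ _ hn χ hχ
    classical
    have hχch := IsIrrCharacter.isCharacter hχ
    obtain ⟨k, ρ, hirr, hchar⟩ := id hχ
    have := hirr
    by_cases hZ : commSubgroup ρ = ⊤
    · -- linear case
      have hcomm : ∀ x y, ρ x * ρ y = ρ y * ρ x := fun x y => by
        have : x ∈ commSubgroup ρ := by rw [hZ]; trivial
        exact this y
      have h1 : finrank ℂ (Fin k → ℂ) = 1 := finrank_eq_one_of_commute ρ hcomm
      have hχ1 : χ 1 = 1 := by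
        rw [← hchar, Representation.char_one, h1]
        simp
      refine ⟨⊤, (linearCharHom hχch hχ1).comp (⊤ : Subgroup G).subtype, ?_⟩
      have h2 : (fun h : (⊤ : Subgroup G) =>
          (((linearCharHom hχch hχ1).comp (⊤ : Subgroup G).subtype h : ℂˣ) : ℂ))
          = fun h : (⊤ : Subgroup G) => χ h := by
        funext h
        rw [MonoidHom.comp_apply, linearCharHom_apply]
        rfl
      rw [h2, indFun_top (IsCharacter.isClassFunction hχch)]
    · -- nonlinear case
      set Z := commSubgroup ρ with hZdef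
      have hZn : Z.Normal := commSubgroup_normal ρ
      have hnt : Nontrivial (G ⧸ Z) := QuotientGroup.nontrivial_iff.mpr hZ
      have hcen := Group.IsNilpotent.center_ne_bot (G ⧸ Z)
      obtain ⟨⟨q, hqc⟩, hq1⟩ := (Subgroup.ne_bot_iff_exists_ne_one).mp hcen
      have hq1' : q ≠ 1 := fun h => hq1 (Subtype.ext h)
      obtain ⟨a, rfl⟩ := QuotientGroup.mk_surjective q
      set q : G ⧸ Z := QuotientGroup.mk a with hq
      have haZ : a ∉ Z := by
        intro h
        exact hq1' ((QuotientGroup.eq_one_iff a).mpr h)
      set A : Subgroup G := (Subgroup.zpowers q).comap (QuotientGroup.mk' Z) with hAdef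
      have hAn : A.Normal := by
        constructor
        intro g hg y
        rw [hAdef, Subgroup.mem_comap] at hg ⊢
        have hgc : QuotientGroup.mk' Z g ∈ Subgroup.center (G ⧸ Z) := by
          obtain ⟨i, hi⟩ := Subgroup.mem_zpowers_iff.mp hg
          rw [← hi]
          exact (Subgroup.center (G ⧸ Z)).zpow_mem hqc i
        have : QuotientGroup.mk' Z (y * g * y⁻¹) = QuotientGroup.mk' Z g := by
          rw [map_mul, map_mul, map_inv]
          rw [Subgroup.mem_center_iff] at hgc
          rw [hgc (QuotientGroup.mk' Z y), mul_assoc, mul_inv_cancel, mul_one]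
        rw [this]
        exact hg
      have haA : a ∈ A := by
        rw [hAdef, Subgroup.mem_comap]
        exact Subgroup.mem_zpowers q
      -- decomposition of elements of `A`
      have hdecomp : ∀ x ∈ A, ∃ (i : ℤ) (z : G), z ∈ Z ∧ x = a ^ i * z := by
        intro x hx
        rw [hAdef, Subgroup.mem_comap] at hx
        obtain ⟨i, hi⟩ := Subgroup.mem_zpowers_iff.mp hx
        refine ⟨i, (a ^ i)⁻¹ * x, ?_, by group⟩
        have h1 : (QuotientGroup.mk (a ^ i) : G ⧸ Z) = QuotientGroup.mk x := by
          rw [QuotientGroup.mk_zpow]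
          exact hi
        exact QuotientGroup.eq.mp h1
      have hcommA : ∀ x ∈ A, ∀ y ∈ A, ρ x * ρ y = ρ y * ρ x := by
        intro x hx y hy
        obtain ⟨i, zx, hzx, rfl⟩ := hdecomp x hx
        obtain ⟨j, zy, hzy, rfl⟩ := hdecomp y hy
        have c1 : Commute (ρ (a ^ i)) (ρ (a ^ j)) :=
          (Commute.zpow_zpow_self a i j).map ρ
        have c2 : Commute (ρ (a ^ i)) (ρ zy) := (hzy (a ^ i)).symm
        have c3 : Commute (ρ zx) (ρ (a ^ j)) := hzx (a ^ j)
        have c4 : Commute (ρ zx) (ρ zy) := hzx zy
        have : Commute (ρ (a ^ i) * ρ zx) (ρ (a ^ j) * ρ zy) :=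
          Commute.mul_left (Commute.mul_right c1 c2) (Commute.mul_right c3 c4)
        rw [map_mul, map_mul]
        exact this
      have : Fintype A := Fintype.ofFinite A
      -- a constituent of the restriction
      have hχA : Cfsg.IsCharacter A (fun x : A => χ x) := IsCharacter.restrict A hχch
      obtain ⟨⟨ϑ, hϑ⟩, hcon⟩ := IsCharacter.exists_constituent hχA
        (IsIrrCharacter.apply_one_ne_zero hχ)
      have hϑcf := IsIrrCharacter.isClassFunction hϑ
      obtain ⟨m, τ, hτirr, hτchar⟩ := id hϑ
      have := hτirr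
      let ρA : Representation ℂ A (Fin k → ℂ) := ρ.comp A.subtype
      have hm1 : finrank ℂ (Fin m → ℂ) = 1 := by
        apply finrank_eq_one_of_constituent_of_commute τ ρA
        · intro x y
          exact hcommA x x.2 y y.2
        · rw [hτchar]
          have : ρA.character = fun x : A => χ x := by
            funext x
            rw [← hchar]
            rfl
          rw [this]
          exact hcon
      set T := inertia A hAn ϑ with hTdef
      have : Fintype T := Fintype.ofFinite T
      have hAT : A ≤ T := le_inertia A hAn hϑcf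
      have hTiff : ∀ g : G, g ∈ T ↔
          ∀ x : A, ϑ ⟨g * x * g⁻¹, hAn.conj_mem (x : G) x.2 g⟩ = ϑ x := by
        intro g
        rw [hTdef, mem_inertia]
        exact ⟨fun h x => congrFun h x, fun h => funext h⟩
      by_cases hTtop : T = ⊤
      · exfalso
        apply haZ
        have hinv : ∀ g : G, conjFun A hAn ϑ g = ϑ := by
          intro g
          have : g ∈ T := by rw [hTtop]; exact Subgroup.mem_top g
          exact this
        have hres := restrict_eq_smul_of_invariant A hAn hχ hϑ hinv hcon
        have hϑ1 : ϑ 1 = 1 := by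
          rw [← hτchar, Representation.char_one, hm1]
          simp
        have hχ1 : χ 1 = (finrank ℂ (Fin k → ℂ) : ℂ) := by
          rw [← hchar, Representation.char_one]
        set e := Cfsg.classInner (fun x : A => χ x) ϑ with he
        have he1 : e = (finrank ℂ (Fin k → ℂ) : ℂ) := by
          have h1 := congrFun hres 1
          simp only [Pi.smul_apply, smul_eq_mul, hϑ1, mul_one] at h1
          rw [← h1]
          exact hχ1
        have hscal : ∃ c : ℂ, ρ a = c • LinearMap.id := by
          rw [← norm_character_eq_iff]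
          have h1 := congrFun hres ⟨a, haA⟩
          simp only [Pi.smul_apply, smul_eq_mul] at h1
          rw [hchar, h1, norm_mul, he1]
          have h2 : ‖ϑ ⟨a, haA⟩‖ = 1 := by
            rw [← hτchar]
            have h3 : ‖τ.character ⟨a, haA⟩‖ = (finrank ℂ (Fin m → ℂ) : ℝ) := by
              rw [norm_character_eq_iff]
              exact ⟨_, end_eq_trace_smul_id hm1 (τ ⟨a, haA⟩)⟩
            rw [h3, hm1]
            simp
          rw [h2, mul_one]
          simp
        obtain ⟨c, hc⟩ := hscal
        rw [hZdef, mem_commSubgroup]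
        intro x
        rw [hc]
        ext v
        simp
      · have hAn' : A.Normal := hAn
        obtain ⟨ψ, hψ, hind, _⟩ := Cfsg.Agent.S0854.result A ϑ hϑ T hTiff hAT χ hχ hcon
        have hTlt : Nat.card T < n := by
          rw [← hn]
          apply lt_of_le_of_ne (Subgroup.card_le_card_group T)
          intro h
          exact hTtop (Subgroup.eq_top_of_card_eq T h)
        have hex := ih (Nat.card T) hTlt T rfl ψ hψ
        obtain ⟨H, lam, hH⟩ := exists_linear_induced_of_subgroup T ψ hex
        exact ⟨H, lam, by rw [← hind, hH]⟩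

end Cfsg.Agent.Lib.Helper6
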