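import Mathlib
import Cfsg.Agent.Lib.Helper6.BrauerLocal
import Cfsg.Agent.Lib.Helper6.ElemProps
import Cfsg.Agent.Lib.Helper6.NilpMono
import Cfsg.Agent.Lib.Helper6.GenCharOps

set_option autoImplicit false

namespace Cfsg.Agent.Lib.Helper6

section

variable {G : Type*} [Group G] [Fintype G]

/-- `E` is elementary for some prime. -/
def IsElem (E : Subgroup G) : Prop := ∃ p : ℕ, p.Prime ∧ Cfsg.IsElementary p E

/-- Linear combinations of induced linear characters are combinations of induced characters. -/
theorem IndLinComb.indCharComb {P : Subgroup G → Prop} {f : G → ℂ} (hf : IndLinComb P f) :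
    IndCharComb P f := by
  obtain ⟨l, hl, rfl⟩ := hf
  refine ⟨l.map (fun t => ⟨t.1, (fun a => ((t.2.1 a : ℂˣ) : ℂ)), t.2.2⟩), ?_, ?_⟩
  · intro t ht
    obtain ⟨t', ht', rfl⟩ := List.mem_map.mp ht
    exact ⟨hl t' ht', IsIrrCharacter.isCharacter (isIrrCharacter_of_hom t'.2.1)⟩
  · rw [List.map_map]
    rfl

/-- The integers `n` such that the constant function `n` lies in the span. -/
def elemIdeal (G : Type*) [Group G] [Fintype G] : AddSubgroup ℤ where
  carrier := {n | IndCharComb (IsElem (G := G)) (fun _ : G => (n : ℂ))}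
  zero_mem' := by
    have : (fun _ : G => ((0 : ℤ) : ℂ)) = 0 := by funext; simp
    change IndCharComb _ _
    rw [this]
    exact IndCharComb.zero _
  add_mem' := by
    intro a b ha hb
    have : (fun _ : G => ((a + b : ℤ) : ℂ)) = (fun _ => (a : ℂ)) + (fun _ => (b : ℂ)) := by
      funext; simp
    change IndCharComb _ _
    rw [this]
    exact IndCharComb.add ha hb
  neg_mem' := by
    intro a ha
    have : (fun _ : G => ((-a : ℤ) : ℂ)) = -(fun _ => (a : ℂ)) := by
      funext; simp
    change IndCharComb _ _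
    rw [this]
    exact IndCharComb.neg ha

theorem mem_elemIdeal (n : ℤ) :
    n ∈ elemIdeal G ↔ IndCharComb (IsElem (G := G)) (fun _ : G => (n : ℂ)) := Iff.rfl

/-- The principal character is an integer combination of characters induced from elementary
subgroups. -/
theorem one_mem_indCharComb : IndCharComb (IsElem (G := G)) (fun _ : G => (1 : ℂ)) := by
  classical
  have h1mem : ((1 : ℤ)) ∈ elemIdeal G := by
    obtain ⟨d, hd⟩ := Int.subgroup_cyclic (elemIdeal G)
    have hmem : ∀ n : ℤ, n ∈ elemIdeal G ↔ d ∣ n := by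
      intro n
      rw [hd, AddSubgroup.mem_closure_singleton]
      constructor
      · rintro ⟨j, rfl⟩
        exact ⟨j, by rw [smul_eq_mul, mul_comm]⟩
      · rintro ⟨j, rfl⟩
        exact ⟨j, by rw [smul_eq_mul, mul_comm]⟩
    -- the group order lies in the ideal
    have hN : ((Nat.card G : ℕ) : ℤ) ∈ elemIdeal G := by
      rw [mem_elemIdeal]
      have h1 := artin_induction (fun _ : G => (1 : ℂ)) isCharacter_one
      have h2 := IndLinComb.indCharComb h1
      have h3 : IndCharComb (IsElem (G := G)) ((Nat.card G : ℂ) • fun _ : G => (1 : ℂ)) := by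
        apply IndCharComb.mono _ h2
        intro A hA
        exact ⟨2, Nat.prime_two, isElementary_of_isCyclic Nat.prime_two hA⟩
      have h4 : ((Nat.card G : ℂ) • fun _ : G => (1 : ℂ))
          = fun _ : G => (((Nat.card G : ℕ) : ℤ) : ℂ) := by
        funext g
        simp
      rw [← h4]
      exact h3
    rw [hmem]
    have hdN : d ∣ ((Nat.card G : ℕ) : ℤ) := (hmem _).mp hN
    have hN0 : Nat.card G ≠ 0 := Nat.card_pos.ne'
    by_contra hd1
    have hd1' : d.natAbs ≠ 1 := by
      intro h
      apply hd1
      exact Int.natAbs_dvd_natAbs.mp (by rw [h]; exact one_dvd _)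
    obtain ⟨p, hp, hpd⟩ := Nat.exists_prime_and_dvd hd1'
    obtain ⟨m, hm, hmem'⟩ := brauer_local (G := G) p hp
    have hmI : m ∈ elemIdeal G := by
      rw [mem_elemIdeal]
      exact IndCharComb.mono (fun E hE => ⟨p, hp, hE⟩) hmem'
    have hdm : d ∣ m := (hmem m).mp hmI
    apply hm
    have h1 : (p : ℤ) ∣ d := by
      rw [← Int.natAbs_dvd_natAbs]
      simpa using hpd
    exact h1.trans hdm
  rw [mem_elemIdeal] at h1mem
  simpa using h1mem

/-- Every character is an integer combination of characters induced from elementary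
subgroups. -/
theorem IsCharacter.indCharComb {χ : G → ℂ} (hχ : Cfsg.IsCharacter G χ) :
    IndCharComb (IsElem (G := G)) χ := by
  have h := IndCharComb.mul_char (one_mem_indCharComb (G := G)) hχ
  have h1 : (fun _ : G => (1 : ℂ)) * χ = χ := by funext g; simp
  rwa [h1] at h

/-- Brauer's characterization of characters. -/
theorem isGeneralizedCharacter_of_restrict {θ : G → ℂ} (hθ : Cfsg.IsClassFunction G θ)
    (hE : ∀ (E : Subgroup G), IsElem E → Cfsg.IsGeneralizedCharacter E (fun e : E => θ e)) :
    Cfsg.IsGeneralizedCharacter G θ := by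
  obtain ⟨n, E, φ, c, hEφ, h1⟩ := IndCharComb.exists_sum (one_mem_indCharComb (G := G))
  have h2 : θ = (fun _ : G => (1 : ℂ)) * θ := by funext g; simp
  rw [h2, h1, Finset.sum_mul]
  apply IsGeneralizedCharacter.sum
  intro i _
  rw [smul_mul_assoc, ← indFun_mul_restrict (E i) (φ i) hθ]
  apply IsGeneralizedCharacter.intCast_smul
  apply IsGeneralizedCharacter.indFun
  exact IsGeneralizedCharacter.mul (IsCharacter.isGeneralizedCharacter (hEφ i).2)
    (hE (E i) (hEφ i).1)

end

end Cfsg.Agent.Lib.Helper6
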