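import Mathlib
import Cfsg.Agent.Lib.Helper6.IndFun

set_option autoImplicit false

namespace Cfsg.Agent.Lib.Helper6

section

variable {E : Type*} [Group E] [Finite E]

/-- A finite nilpotent group has a normal `p`-complement. -/
theorem exists_normal_pcomplement_of_nilpotent [Group.IsNilpotent E] (p : ℕ) [Fact p.Prime] :
    ∃ K : Subgroup E, K.Normal ∧ Nat.Coprime (Nat.card K) p ∧ K.index = p ^ (Nat.card E).factorization p := by
  have hp := (Fact.out : p.Prime)
  have hE0 : Nat.card E ≠ 0 := Nat.card_pos.ne'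
  by_cases hpE : p ∣ Nat.card E
  · have hpmem : p ∈ (Nat.card E).primeFactors := Nat.mem_primeFactors.mpr ⟨hp, hpE, hE0⟩
    obtain ⟨e⟩ := (Group.isNilpotent_of_finite_tfae (G := E)).out 0 4 |>.mp ‹_›
    obtain ⟨P₀⟩ := (inferInstance : Nonempty (Sylow p E))
    let π₁ : (∀ r : (Nat.card E).primeFactors, ∀ P : Sylow r E, (↑P : Subgroup E)) →*
        (∀ P : Sylow p E, (↑P : Subgroup E)) :=
      Pi.evalMonoidHom (fun r : (Nat.card E).primeFactors => ∀ P : Sylow r E, (↑P : Subgroup E))
        ⟨p, hpmem⟩
    let π₂ : (∀ P : Sylow p E, (↑P : Subgroup E)) →* (↑P₀ : Subgroup E) :=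
      Pi.evalMonoidHom (fun P : Sylow p E => (↑P : Subgroup E)) P₀
    let f : E →* (↑P₀ : Subgroup E) := (π₂.comp π₁).comp e.symm.toMonoidHom
    have hf : Function.Surjective f := by
      classical
      intro y
      let v : (∀ r : (Nat.card E).primeFactors, ∀ P : Sylow r E, (↑P : Subgroup E)) :=
        fun r P => if h : r = ⟨p, hpmem⟩ then
          (by
            subst h
            exact if h' : P = P₀ then (by subst h'; exact y) else 1)
          else 1
      refine ⟨e v, ?_⟩
      change π₂ (π₁ (e.symm (e v))) = y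
      rw [MulEquiv.symm_apply_apply]
      change v ⟨p, hpmem⟩ P₀ = y
      simp [v]
    have hidx : f.ker.index = p ^ (Nat.card E).factorization p := by
      rw [Subgroup.index_ker, MonoidHom.range_eq_top.mpr hf, Subgroup.card_top,
        Sylow.card_eq_multiplicity]
    refine ⟨f.ker, MonoidHom.normal_ker f, ?_, hidx⟩
    have h1 := f.ker.card_mul_index
    rw [hidx] at h1
    have h2 : Nat.card f.ker = Nat.card E / p ^ (Nat.card E).factorization p := by
      exact (Nat.div_eq_of_eq_mul_left (pow_pos hp.pos _) h1.symm).symm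
    rw [h2]
    exact (Nat.coprime_ordCompl hp hE0).symm
  · refine ⟨⊤, inferInstance, ?_, ?_⟩
    · rw [Subgroup.card_top]
      exact ((Nat.Prime.coprime_iff_not_dvd hp).mpr hpE).symm
    · rw [Subgroup.index_top, Nat.factorization_eq_zero_of_not_dvd hpE, pow_zero]

omit [Finite E] in
/-- The elements of a normal `p`-complement are exactly the `p`-regular elements. -/
theorem mem_pcomplement_iff {p : ℕ} [Fact p.Prime] {K : Subgroup E} (hKn : K.Normal)
    (hcop : Nat.Coprime (Nat.card K) p) {j : ℕ} (hidx : K.index = p ^ j) (x : E) :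
    x ∈ K ↔ ¬ p ∣ orderOf x := by
  have hp := (Fact.out : p.Prime)
  constructor
  · intro hx hdvd
    have h1 : orderOf x ∣ Nat.card K := by
      have := orderOf_dvd_natCard (⟨x, hx⟩ : K)
      rwa [Subgroup.orderOf_mk] at this
    have h2 : p ∣ Nat.card K := hdvd.trans h1
    have := Nat.Coprime.eq_one_of_dvd hcop.symm h2
    exact hp.one_lt.ne' this
  · intro hx
    have h1 : x ^ (p ^ j) ∈ K := by
      rw [← hidx]
      exact Subgroup.pow_index_mem K x
    have hcop' : Nat.Coprime (p ^ j) (orderOf x) :=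
      Nat.Coprime.pow_left j ((Nat.Prime.coprime_iff_not_dvd hp).mpr hx)
    have h2 : x ∈ Subgroup.zpowers (x ^ (p ^ j)) := by
      rw [← zpow_natCast]
      have hc : IsCoprime ((p ^ j : ℕ) : ℤ) (orderOf x : ℤ) := by
        rw [Nat.isCoprime_iff_coprime]
        exact hcop'
      obtain ⟨s, t, hst⟩ := hc
      rw [Subgroup.mem_zpowers_iff]
      refine ⟨s, ?_⟩
      rw [← zpow_mul]
      have : x ^ (((p ^ j : ℕ) : ℤ) * s) = x ^ (((p ^ j : ℕ) : ℤ) * s + (orderOf x : ℤ) * t) := by
        rw [zpow_add, zpow_mul _ (orderOf x : ℤ), zpow_natCast, pow_orderOf_eq_one, one_zpow,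
          mul_one]
      rw [this, mul_comm _ s, mul_comm _ t, hst, zpow_one]
    exact Subgroup.zpowers_le.mpr h1 h2

end

section

variable {G : Type*} [Group G] [Fintype G]

/-- Inducing the restriction of a class function from a normal subgroup. -/
theorem indFun_restrict_normal_eq (N : Subgroup G) [hN : N.Normal] [DecidablePred (· ∈ N)]
    {χ : G → ℂ} (hχ : Cfsg.IsClassFunction G χ) (g : G) :
    Cfsg.indFun N (fun n : N => χ n) g = if g ∈ N then (N.index : ℂ) * χ g else 0 := by
  unfold Cfsg.indFun
  have hNc : (Nat.card N : ℂ) ≠ 0 := card_ne_zero_complex N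
  have hconj : ∀ x : G, x⁻¹ * g * x ∈ N ↔ g ∈ N := by
    intro x
    constructor
    · intro h
      have := hN.conj_mem _ h x
      simpa [mul_assoc] using this
    · intro h
      have := hN.conj_mem _ h x⁻¹
      simpa using this
  split_ifs with hg
  · have h1 : ∀ x : G, Cfsg.extendByZero N (fun n : N => χ n) (x⁻¹ * g * x) = χ g := by
      intro x
      rw [extendByZero_of_mem N _ ((hconj x).mpr hg)]
      have := hχ g x⁻¹
      simpa using this
    simp_rw [h1]
    rw [Finset.sum_const, Finset.card_univ, nsmul_eq_mul, ← Nat.card_eq_fintype_card,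
      ← N.card_mul_index]
    push_cast
    field_simp
  · have h1 : ∀ x : G, Cfsg.extendByZero N (fun n : N => χ n) (x⁻¹ * g * x) = 0 := by
      intro x
      rw [extendByZero_of_not_mem N _ (fun h => hg ((hconj x).mp h))]
    simp_rw [h1]
    simp

end

end Cfsg.Agent.Lib.Helper6
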