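import Mathlib
import Cfsg.Agent.Lib.Helper6.BrauerGlobal
import Cfsg.Agent.Lib.Helper6.PComplement
import Cfsg.Agent.Lib.Helper6.ClassSum
import Cfsg.Agent.Lib.Helper6.DegreeDvd
import Cfsg.Agent.Lib.Helper6.GenChar

set_option autoImplicit false

namespace Cfsg.Agent.Lib.Helper6

open Module
open scoped ComplexConjugate

section

variable {G : Type*} [Group G] [Fintype G]

/-- The key integrality statement for characters of defect zero. -/
theorem defect_zero_key {V : Type*} [AddCommGroup V] [Module ℂ V] [FiniteDimensional ℂ V]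
    (ρ : Representation ℂ G V) [ρ.IsIrreducible] (p n : ℕ) (hp : p.Prime)
    (hn : p ^ n ∣ Nat.card G) (hdeg : p ^ n ∣ finrank ℂ V) (x : G) (j : ℕ)
    (hj : p ^ j ∣ Nat.card (Subgroup.centralizer ({x} : Set G))) :
    ∃ y : ℂ, IsIntegral ℤ y ∧
      ((Nat.card G / p ^ n : ℕ) : ℂ) * ρ.character x = (p ^ j : ℂ) * y := by
  obtain ⟨g', hg'⟩ := hn
  obtain ⟨d, hd⟩ := hdeg
  obtain ⟨c', hc'⟩ := hj
  have hω := isIntegral_centralChar ρ x
  set I := (Subgroup.centralizer ({x} : Set G)).index with hI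
  have hIc : I * Nat.card (Subgroup.centralizer ({x} : Set G)) = Nat.card G :=
    (Subgroup.centralizer ({x} : Set G)).index_mul_card
  have hpn0 : (p ^ n : ℂ) ≠ 0 := pow_ne_zero _ (by exact_mod_cast hp.ne_zero)
  have hdeg0 : (finrank ℂ V : ℂ) ≠ 0 := by
    have := finrank_pos_of_isIrreducible ρ
    exact_mod_cast this.ne'
  have hd0 : (d : ℂ) ≠ 0 := by
    intro h
    apply hdeg0
    rw [hd]
    push_cast
    rw [h, mul_zero]
  refine ⟨(I : ℂ) * ρ.character x / (finrank ℂ V : ℂ) * ((d * c' : ℕ) : ℂ), ?_, ?_⟩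
  · apply IsIntegral.mul hω
    have h := isIntegral_algebraMap (R := ℤ) (A := ℂ) (x := ((d * c' : ℕ) : ℤ))
    simpa using h
  · have h1 : Nat.card G / p ^ n = g' := by
      rw [hg', Nat.mul_div_cancel_left _ (pow_pos hp.pos n)]
    rw [h1]
    have h2 : (Nat.card G : ℂ) = (p ^ n : ℂ) * (g' : ℂ) := by rw [hg']; push_cast; rfl
    have h3 : (I : ℂ) * ((p ^ j : ℂ) * (c' : ℂ)) = (p ^ n : ℂ) * (g' : ℂ) := by
      rw [← h2, ← hIc, hc']
      push_cast
      rfl
    have h4 : (finrank ℂ V : ℂ) = (p ^ n : ℂ) * (d : ℂ) := by rw [hd]; push_cast; rfl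
    rw [h4]
    push_cast
    field_simp
    linear_combination (-(ρ.character x)) * h3

/-- The restriction to a nilpotent subgroup of the `p`-regular part of a character of defect
zero is a generalized character. -/
theorem defect_zero_restrict {V : Type*} [AddCommGroup V] [Module ℂ V] [FiniteDimensional ℂ V]
    (ρ : Representation ℂ G V) [ρ.IsIrreducible] (p n : ℕ) (hp : p.Prime)
    (hn : p ^ n ∣ Nat.card G) (hn' : ¬ p ^ (n + 1) ∣ Nat.card G) (hdeg : p ^ n ∣ finrank ℂ V)
    (E : Subgroup G) [Group.IsNilpotent E] [DecidablePred (fun g : G => p ∣ orderOf g)] :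
    Cfsg.IsGeneralizedCharacter E
      (fun e : E => if p ∣ orderOf (e : G) then 0 else ρ.character e) := by
  classical
  have : Fact p.Prime := ⟨hp⟩
  have : Fintype E := Fintype.ofFinite E
  have : Fintype (Cfsg.IrrCharacter E) := Fintype.ofFinite _
  obtain ⟨K, hKn, hKcop, hKidx⟩ := exists_normal_pcomplement_of_nilpotent (E := E) p
  set j := (Nat.card E).factorization p with hj
  have : Fintype K := Fintype.ofFinite K
  obtain ⟨P₀⟩ := (inferInstance : Nonempty (Sylow p E))
  have hP₀card : Nat.card P₀ = p ^ j := Sylow.card_eq_multiplicity P₀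
  have hdisj : Disjoint (P₀ : Subgroup E) K := by
    apply Subgroup.disjoint_of_coprime_natCard
    rw [hP₀card]
    exact (Nat.Coprime.pow_right j hKcop).symm
  have hP₀n : (P₀ : Subgroup E).Normal := inferInstance
  have hcent : ∀ k : K, p ^ j ∣ Nat.card (Subgroup.centralizer ({((k : E) : G)} : Set G)) := by
    intro k
    have hle : (P₀ : Subgroup E).map E.subtype ≤ Subgroup.centralizer ({((k : E) : G)} : Set G) := by
      rintro _ ⟨y, hy, rfl⟩
      rw [Subgroup.mem_centralizer_iff]
      intro h hh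
      rw [Set.mem_singleton_iff] at hh
      rw [hh]
      have hc := Subgroup.commute_of_normal_of_disjoint (P₀ : Subgroup E) K hP₀n hKn hdisj y k hy k.2
      have := congrArg (fun t : E => (t : G)) hc.eq
      exact this.symm
    have hcard : Nat.card ((P₀ : Subgroup E).map E.subtype) = p ^ j := by
      rw [← hP₀card]
      exact (Nat.card_congr (Subgroup.equivMapOfInjective _ _ E.subtype_injective).toEquiv).symm
    rw [← hcard]
    exact Subgroup.card_dvd_of_le hle
  set χ := ρ.character with hχ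
  have hχch : Cfsg.IsCharacter G χ := isCharacter_character ρ
  have hχE : Cfsg.IsCharacter E (fun e : E => χ e) := IsCharacter.restrict E hχch
  have hχEcf := IsCharacter.isClassFunction hχE
  have hχK : Cfsg.IsCharacter K (fun k : K => χ ((k : E) : G)) := IsCharacter.restrict K hχE
  set Ψ := Cfsg.indFun K (fun k : K => χ ((k : E) : G)) with hΨ
  have hΨch : Cfsg.IsCharacter E Ψ := IsCharacter.indFun K hχK
  have hΨval : ∀ e : E, Ψ e = if e ∈ K then (p ^ j : ℂ) * χ e else 0 := by
    intro e
    rw [hΨ, indFun_restrict_normal_eq K hχEcf e, hKidx]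
    push_cast
    rfl
  obtain ⟨m, hm, hmi⟩ := IsCharacter.exists_mult hΨch
  -- the group order
  obtain ⟨g', hg'⟩ := id hn
  have hg'cop : Nat.Coprime p g' := by
    rw [Nat.Prime.coprime_iff_not_dvd hp]
    rintro ⟨t, ht⟩
    apply hn'
    rw [hg', ht, pow_succ, ← mul_assoc]
    exact Dvd.intro _ rfl
  have hg'div : Nat.card G / p ^ n = g' := by
    rw [hg', Nat.mul_div_cancel_left _ (pow_pos hp.pos n)]
  have hdvd : ∀ ψ : Cfsg.IrrCharacter E, p ^ j ∣ m ψ := by
    intro ψ
    obtain ⟨dψ, σ, hσirr, hσ⟩ := ψ.2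
    have h1 := hmi ψ
    rw [hΨ, Cfsg.Agent.S0146.result K _ _ (IsIrrCharacter.isClassFunction ψ.2)] at h1
    unfold Cfsg.classInner at h1
    have hy : ∀ k : K, ∃ y : ℂ, IsIntegral ℤ y ∧
        ((Nat.card G / p ^ n : ℕ) : ℂ) * χ ((k : E) : G) = (p ^ j : ℂ) * y :=
      fun k => defect_zero_key ρ p n hp hn hdeg _ j (hcent k)
    choose y hyint hyeq using hy
    set Y : ℂ := ∑ k : K, y k * conj ((ψ : E → ℂ) (k : E)) with hY
    have hYint : IsIntegral ℤ Y := by
      apply IsIntegral.sum
      intro k _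
      apply IsIntegral.mul (hyint k)
      rw [← hσ]
      exact isIntegral_conj (isIntegral_character σ _)
    have hKc : (Nat.card K : ℂ) ≠ 0 := card_ne_zero_complex K
    have h2 : ((g' * Nat.card K * m ψ : ℕ) : ℂ) = (p ^ j : ℂ) * Y := by
      rw [hY, Finset.mul_sum]
      push_cast
      rw [← h1]
      rw [show (g' : ℂ) * (Nat.card K : ℂ) * ((Nat.card K : ℂ)⁻¹ *
          ∑ k : K, χ ((k : E) : G) * conj ((ψ : E → ℂ) (k : E)))
          = (g' : ℂ) * ∑ k : K, χ ((k : E) : G) * conj ((ψ : E → ℂ) (k : E)) by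
        field_simp]
      rw [Finset.mul_sum]
      apply Finset.sum_congr rfl
      intro k _
      rw [← mul_assoc, ← mul_assoc, ← hyeq k, hg'div]
    have h3 : IsIntegral ℤ (((g' * Nat.card K * m ψ : ℕ) : ℂ) / ((p ^ j : ℕ) : ℂ)) := by
      rw [h2]
      push_cast
      have hpj0 : (p ^ j : ℂ) ≠ 0 := pow_ne_zero _ (by exact_mod_cast hp.ne_zero)
      rw [mul_div_assoc, mul_comm, div_mul_cancel₀ _ hpj0]
      exact hYint
    have h4 := nat_dvd_of_isIntegral_div (pow_ne_zero j hp.ne_zero) h3
    have hcop : Nat.Coprime (p ^ j) (g' * Nat.card K) := by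
      apply Nat.Coprime.pow_left
      exact Nat.Coprime.mul_right hg'cop hKcop.symm
    exact hcop.dvd_of_dvd_mul_left h4
  -- the quotient character
  have heq : (fun e : E => if p ∣ orderOf (e : G) then 0 else χ e)
      = ∑ ψ : Cfsg.IrrCharacter E, (m ψ / p ^ j) • (ψ : E → ℂ) := by
    funext e
    have hpj0 : (p ^ j : ℂ) ≠ 0 := pow_ne_zero _ (by exact_mod_cast hp.ne_zero)
    have h1 : Ψ e = (p ^ j : ℂ) * (∑ ψ : Cfsg.IrrCharacter E, (m ψ / p ^ j) • (ψ : E → ℂ)) e := by
      conv_lhs => rw [hm]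
      rw [Finset.sum_apply, Finset.sum_apply, Finset.mul_sum]
      apply Finset.sum_congr rfl
      intro ψ _
      obtain ⟨t, ht⟩ := hdvd ψ
      rw [Pi.smul_apply, Pi.smul_apply, ht, Nat.mul_div_cancel_left _ (pow_pos hp.pos j),
        nsmul_eq_mul, nsmul_eq_mul]
      push_cast
      ring
    rw [hΨval e] at h1
    have hmem := mem_pcomplement_iff hKn hKcop hKidx e
    rw [← Subgroup.orderOf_coe] at hmem
    by_cases hx : p ∣ orderOf (e : G)
    · rw [if_pos hx]
      rw [if_neg (fun h => hmem.mp h hx)] at h1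
      rcases mul_eq_zero.mp h1.symm with h | h
      · exact absurd h hpj0
      · exact h.symm
    · rw [if_neg hx]
      rw [if_pos (hmem.mpr hx)] at h1
      exact mul_left_cancel₀ hpj0 h1
  rw [heq]
  apply IsCharacter.isGeneralizedCharacter
  apply IsCharacter.sum
  intro ψ _
  exact IsCharacter.nsmul (IsIrrCharacter.isCharacter ψ.2) _

/-- Characters of `p`-defect zero vanish on `p`-singular elements. -/
theorem defect_zero_vanish {V : Type*} [AddCommGroup V] [Module ℂ V] [FiniteDimensional ℂ V]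
    (ρ : Representation ℂ G V) [ρ.IsIrreducible] (p n : ℕ) (hp : p.Prime)
    (hn : p ^ n ∣ Nat.card G) (hn' : ¬ p ^ (n + 1) ∣ Nat.card G) (hdeg : p ^ n ∣ finrank ℂ V)
    (x : G) (hx : p ∣ orderOf x) : ρ.character x = 0 := by
  classical
  have : Fintype (Cfsg.IrrCharacter G) := Fintype.ofFinite _
  set χ := ρ.character with hχ
  have hχirr : Cfsg.IsIrrCharacter G χ := isIrrCharacter_character ρ
  have hχcf := IsIrrCharacter.isClassFunction hχirr
  set θ : G → ℂ := fun g => if p ∣ orderOf g then 0 else χ g with hθ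
  have hθcf : Cfsg.IsClassFunction G θ := by
    intro g h
    have h1 : orderOf (h * g * h⁻¹) = orderOf g := by
      have := (MulAut.conj h).orderOf_eq g
      rwa [MulAut.conj_apply] at this
    simp only [hθ, h1, hχcf g h]
  have hθgen : Cfsg.IsGeneralizedCharacter G θ := by
    apply isGeneralizedCharacter_of_restrict hθcf
    rintro E ⟨q, hq, hEq⟩
    have hnil : Group.IsNilpotent E := IsElementary.isNilpotent hq hEq
    exact defect_zero_restrict ρ p n hp hn hn' hdeg E
  obtain ⟨c, _, hci⟩ := IsGeneralizedCharacter.exists_int_coeff hθgen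
  have hc := hci ⟨χ, hχirr⟩
  have hGc : (Nat.card G : ℂ) ≠ 0 := card_ne_zero_complex G
  have hGr : (0 : ℝ) < (Nat.card G : ℝ) := by exact_mod_cast Nat.card_pos
  -- real sums
  set A : ℝ := ∑ g : G, if p ∣ orderOf g then 0 else Complex.normSq (χ g) with hA
  set B : ℝ := ∑ g : G, if p ∣ orderOf g then Complex.normSq (χ g) else 0 with hB
  have hAB : A + B = (Nat.card G : ℝ) := by
    have h1 := classInner_isIrrCharacter hχirr hχirr
    rw [if_pos rfl] at h1
    unfold Cfsg.classInner at h1
    have h2 : ∑ g : G, χ g * conj (χ g) = ((A + B : ℝ) : ℂ) := by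
      rw [hA, hB, ← Finset.sum_add_distrib]
      push_cast
      apply Finset.sum_congr rfl
      intro g _
      rw [Complex.mul_conj]
      split_ifs <;> simp
    rw [h2] at h1
    have h3 : ((A + B : ℝ) : ℂ) = (Nat.card G : ℂ) := by
      field_simp at h1
      exact h1
    exact_mod_cast h3
  have hAc : (A : ℂ) = (Nat.card G : ℂ) * (c ⟨χ, hχirr⟩ : ℂ) := by
    unfold Cfsg.classInner at hc
    have h2 : ∑ g : G, θ g * conj (χ g) = (A : ℂ) := by
      rw [hA]
      push_cast
      apply Finset.sum_congr rfl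
      intro g _
      rw [hθ]
      simp only
      split_ifs
      · simp
      · rw [Complex.mul_conj]
    rw [h2] at hc
    rw [← hc]
    field_simp
  have hAr : A = (Nat.card G : ℝ) * (c ⟨χ, hχirr⟩ : ℝ) := by exact_mod_cast hAc
  have hB0 : 0 ≤ B := by
    rw [hB]
    apply Finset.sum_nonneg
    intro g _
    split_ifs
    · exact Complex.normSq_nonneg _
    · exact le_refl _
  have hApos : 0 < A := by
    rw [hA]
    apply Finset.sum_pos'
    · intro g _
      split_ifs
      · exact le_refl _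
      · exact Complex.normSq_nonneg _
    · refine ⟨1, Finset.mem_univ _, ?_⟩
      rw [orderOf_one, if_neg (fun h => hp.one_lt.ne' (Nat.dvd_one.mp h))]
      rw [Complex.normSq_pos]
      exact IsIrrCharacter.apply_one_ne_zero hχirr
  have hcpos : 0 < c ⟨χ, hχirr⟩ := by
    have : (0 : ℝ) < (c ⟨χ, hχirr⟩ : ℝ) := by
      by_contra hle
      push Not at hle
      have : A ≤ 0 := by
        rw [hAr]
        exact mul_nonpos_of_nonneg_of_nonpos hGr.le hle
      linarith
    exact_mod_cast this
  have hcle : c ⟨χ, hχirr⟩ ≤ 1 := by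
    have : (c ⟨χ, hχirr⟩ : ℝ) ≤ 1 := by
      have h1 : A ≤ (Nat.card G : ℝ) := by linarith
      rw [hAr] at h1
      by_contra hgt
      push Not at hgt
      have : (Nat.card G : ℝ) * 1 < (Nat.card G : ℝ) * (c ⟨χ, hχirr⟩ : ℝ) :=
        mul_lt_mul_of_pos_left hgt hGr
      linarith
    exact_mod_cast this
  have hc1 : c ⟨χ, hχirr⟩ = 1 := le_antisymm hcle hcpos
  have hBz : B = 0 := by
    rw [hc1] at hAr
    have : A = (Nat.card G : ℝ) := by rw [hAr]; simp
    linarith
  have hterm : ∀ g ∈ (Finset.univ : Finset G),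
      (if p ∣ orderOf g then Complex.normSq (χ g) else 0) = 0 := by
    apply (Finset.sum_eq_zero_iff_of_nonneg _).mp hBz
    intro g _
    split_ifs
    · exact Complex.normSq_nonneg _
    · exact le_refl _
  have := hterm x (Finset.mem_univ x)
  rw [if_pos hx] at this
  exact Complex.normSq_eq_zero.mp this

end

end Cfsg.Agent.Lib.Helper6
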