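import Mathlib
import Cfsg.Prelude.Def_Blocks
import Cfsg.Agent.Lib.Helper6.BlkDefConj
import Cfsg.Agent.Lib.Helper6.DefectZero
import Cfsg.Agent.Lib.Helper6.BlkNormalP

set_option autoImplicit false
set_option linter.unusedSectionVars false
open Cfsg

namespace Cfsg.Agent.Lib.Helper6

open scoped ComplexConjugate

section

variable {G : Type*} [Group G] [Fintype G] [DecidableEq G]
variable {p : ℕ} {M : Ideal Cfsg.AlgInt}

/-- irreducible characters of defect zero vanish on `p`-singular elements -/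
theorem IsIrrCharacter.eq_zero_of_defect_zero {β : G → ℂ} (hβ : Cfsg.IsIrrCharacter G β)
    (p n : ℕ) (hp : p.Prime) (hn : p ^ n ∣ Nat.card G) (hn' : ¬ p ^ (n + 1) ∣ Nat.card G)
    (hdeg : p ^ n ∣ Cfsg.charDegree β) (x : G) (hx : p ∣ orderOf x) : β x = 0 := by
  obtain ⟨m, ρ, hirr, rfl⟩ := hβ
  have := hirr
  exact defect_zero_vanish ρ p n hp hn hn' (by rw [← charDegree_character ρ]; exact hdeg) x hx

/-- in a block with normal defect group `P`, an element whose central character value is a unit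
has `p`-regular image modulo `P` -/
theorem pRegular_mk_of_centralChar (hM : Cfsg.IsPModular p M) [Fact p.Prime] (P : Subgroup G)
    [hPn : P.Normal] (ξ₀ : Cfsg.IrrCharacter G)
    (hDb : Cfsg.IsDefectGroup p M (Cfsg.blockOf M (ξ₀ : G → ℂ)) P) (x : G)
    (hx : ¬ Cfsg.MemLocalIdeal M (Cfsg.centralChar (ξ₀ : G → ℂ) x)) :
    ¬ p ∣ orderOf (QuotientGroup.mk x : G ⧸ P) := by
  classical
  have hp : p.Prime := hM.1
  have : Fintype (G ⧸ P) := Fintype.ofFinite _
  have hPp : IsPGroup p P := IsDefectGroup.isPGroup hDb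
  obtain ⟨ψ, hψB, hψ⟩ := exists_mem_block_const_on_normal hM ξ₀ P hPp
  obtain ⟨β, hβ⟩ := IsIrrCharacter.exists_deflation P ψ hψ
  have hωψ : ¬ Cfsg.MemLocalIdeal M (Cfsg.centralChar (ψ : G → ℂ) x) := by
    intro h
    apply hx
    have := MemLocalIdeal.add hM (hψB x) h
    simpa using this
  have hψx : (ψ : G → ℂ) x ≠ 0 := by
    intro h
    apply hωψ
    unfold Cfsg.centralChar
    rw [h, mul_zero, zero_div]
    exact memLocalIdeal_zero hM
  intro hdiv
  apply hψx
  rw [hβ]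
  have hcard := Cfsg.Agent.S0908.result p M hM _ ⟨ξ₀, rfl⟩ P hDb
  have hmul : Nat.card G = Nat.card (G ⧸ P) * Nat.card P :=
    Subgroup.card_eq_card_quotient_mul_card_subgroup P
  have hQpos : Nat.card (G ⧸ P) ≠ 0 := Nat.card_pos.ne'
  have hPpos : Nat.card P ≠ 0 := Nat.card_pos.ne'
  have hfac : (Nat.card G).factorization p
      = (Nat.card (G ⧸ P)).factorization p + (Nat.card P).factorization p := by
    rw [hmul, Nat.factorization_mul hQpos hPpos]
    rfl
  have hPfac : (Nat.card P).factorization p = Cfsg.blockDefect p (Cfsg.blockOf M (ξ₀ : G → ℂ)) := by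
    rw [hcard, Nat.factorization_pow, Finsupp.smul_apply, Nat.Prime.factorization_self hp,
      smul_eq_mul, mul_one]
  have hle : sInf ((fun χ : Cfsg.IrrCharacter G => (Cfsg.charDegree (χ : G → ℂ)).factorization p) ''
      (Cfsg.blockOf M (ξ₀ : G → ℂ))) ≤ (Cfsg.charDegree (ψ : G → ℂ)).factorization p :=
    Nat.sInf_le ⟨ψ, hψB, rfl⟩
  have hn : (Nat.card (G ⧸ P)).factorization p ≤ (Cfsg.charDegree (ψ : G → ℂ)).factorization p := by
    unfold Cfsg.blockDefect at hPfac
    omega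
  have hdeg : Cfsg.charDegree (β : G ⧸ P → ℂ) = Cfsg.charDegree (ψ : G → ℂ) := by
    unfold Cfsg.charDegree
    rw [hβ]
    rfl
  apply IsIrrCharacter.eq_zero_of_defect_zero β.2 p ((Nat.card (G ⧸ P)).factorization p) hp
    (Nat.ordProj_dvd _ _) (Nat.pow_succ_factorization_not_dvd hQpos hp)
  · rw [hdeg]
    exact (pow_dvd_pow p hn).trans (Nat.ordProj_dvd _ _)
  · exact hdiv

/-- if the image of `x` modulo the normal subgroup `P` is `p`-regular, the `p`-part of `x` lies
in `P` -/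
theorem ppart_mem_of_pRegular_mk (hp : p.Prime) (P : Subgroup G) [hPn : P.Normal] (x z : G)
    (hx : ¬ p ∣ orderOf (QuotientGroup.mk x : G ⧸ P)) (hz : Cfsg.IsPPart p x z) : z ∈ P := by
  obtain ⟨y, hzy, hcomm, ⟨k, hk⟩, hy⟩ := hz
  rw [← QuotientGroup.eq_one_iff]
  set zb : G ⧸ P := QuotientGroup.mk z with hzb
  set yb : G ⧸ P := QuotientGroup.mk y with hyb
  set xb : G ⧸ P := QuotientGroup.mk x with hxb
  have hxzy : xb = zb * yb := by rw [hxb, ← hzy]; rfl
  have hcb : Commute zb yb := by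
    show zb * yb = yb * zb
    rw [hzb, hyb, ← QuotientGroup.mk_mul, ← QuotientGroup.mk_mul, hcomm.eq]
  have hyb' : ¬ p ∣ orderOf yb := by
    intro h
    exact hy (h.trans (orderOf_dvd_of_pow_eq_one (by
      rw [hyb, ← QuotientGroup.mk_pow, pow_orderOf_eq_one]; rfl)))
  have h1 : zb ^ (p ^ k) = 1 := by
    rw [hzb, ← QuotientGroup.mk_pow, ← hk, pow_orderOf_eq_one]; rfl
  have h2 : zb ^ (orderOf xb * orderOf yb) = 1 := by
    have hz' : zb = xb * yb⁻¹ := by rw [hxzy]; group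
    have hc' : Commute xb yb⁻¹ := by
      rw [hxzy]
      exact (hcb.mul_left (Commute.refl yb)).inv_right
    rw [hz', hc'.mul_pow, pow_mul, pow_orderOf_eq_one, one_pow, one_mul, mul_comm, pow_mul,
      inv_pow, pow_orderOf_eq_one, inv_one, one_pow]
  have hd1 := orderOf_dvd_of_pow_eq_one h1
  have hd2 := orderOf_dvd_of_pow_eq_one h2
  have hcop : Nat.Coprime (p ^ k) (orderOf xb * orderOf yb) := by
    apply Nat.Coprime.pow_left
    rw [Nat.Prime.coprime_iff_not_dvd hp]
    intro h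
    rcases (Nat.Prime.dvd_mul hp).mp h with h | h
    · exact hx h
    · exact hyb' h
  have : orderOf zb = 1 := Nat.eq_one_of_dvd_coprimes hcop hd1 hd2
  exact orderOf_eq_one_iff.mp this

end

end Cfsg.Agent.Lib.Helper6

namespace Cfsg.Agent.Lib.Helper6

section

variable {G : Type*} [Group G] [Finite G]

theorem IsPPart.mem_zpowers {p : ℕ} (hp : p.Prime) {g x : G} (h : Cfsg.IsPPart p g x) :
    x ∈ Subgroup.zpowers g := by
  obtain ⟨y, hxy, hcomm, ⟨k, hk⟩, hy⟩ := h
  have hcop : (orderOf x).Coprime (orderOf y) := by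
    rw [hk]
    apply Nat.Coprime.pow_left
    rw [Nat.Prime.coprime_iff_not_dvd hp]
    exact hy
  obtain ⟨m, hm⟩ : ∃ m : ℕ, (x ^ orderOf y) ^ m = x := exists_pow_eq_self_of_coprime hcop.symm
  have h1 : g ^ orderOf y = x ^ orderOf y := by
    rw [← hxy, hcomm.mul_pow, pow_orderOf_eq_one, mul_one]
  rw [← hm, ← h1, ← pow_mul]
  exact Subgroup.pow_mem _ (Subgroup.mem_zpowers g) _

/-- the `p`-part of an element of a subgroup, as a `p`-part inside the subgroup -/
theorem IsPPart.subgroup {p : ℕ} (hp : p.Prime) (H : Subgroup G) {g : H} {x : G}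
    (h : Cfsg.IsPPart p (g : G) x) : ∃ hx : x ∈ H, Cfsg.IsPPart p g ⟨x, hx⟩ := by
  have hx : x ∈ H := by
    have h1 := IsPPart.mem_zpowers hp h
    have h2 : Subgroup.zpowers (g : G) ≤ H := by
      rw [Subgroup.zpowers_le]; exact g.2
    exact h2 h1
  refine ⟨hx, ?_⟩
  obtain ⟨y, hxy, hcomm, ⟨k, hk⟩, hy⟩ := h
  have hyH : y ∈ H := by
    have : y = x⁻¹ * (g : G) := by rw [← hxy]; group
    rw [this]
    exact H.mul_mem (H.inv_mem hx) g.2
  refine ⟨⟨y, hyH⟩, Subtype.ext hxy, ?_, ⟨k, ?_⟩, ?_⟩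
  · exact Subtype.ext hcomm.eq
  · rw [← hk]
    exact Subgroup.orderOf_mk x hx
  · rw [Subgroup.orderOf_mk y hyH]
    exact hy

end

end Cfsg.Agent.Lib.Helper6
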