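import Mathlib
import Cfsg.Prelude.Def_Blocks
import Cfsg.Agent.Lib.Helper6.BlkRigid
import Cfsg.Agent.Lib.Helper6.BlkNil

set_option autoImplicit false
set_option linter.unusedSectionVars false
open Cfsg

namespace Cfsg.Agent.Lib.Helper6

open scoped ComplexConjugate

section

variable {p : ℕ} {M : Ideal Cfsg.AlgInt}

/-- a primitive `p`-th root of unity in `ℂ`, congruent to one modulo the local ideal -/
theorem exists_pth_root (hM : Cfsg.IsPModular p M) :
    ∃ ε : ℂ, ε ^ p = 1 ∧ ε ≠ 1 ∧ ∀ i : ℕ, Cfsg.MemLocalIdeal M (ε ^ i - 1) ∧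
      Cfsg.MemLocalRing M (ε ^ i) := by
  have hp : p.Prime := hM.1
  have hprim := Complex.isPrimitiveRoot_exp p hp.ne_zero
  obtain ⟨ε, hε⟩ : ∃ ε : ℂ, ε = Complex.exp (2 * Real.pi * Complex.I / p) := ⟨_, rfl⟩
  rw [← hε] at hprim
  refine ⟨ε, hprim.pow_eq_one, hprim.ne_one hp.one_lt, ?_⟩
  intro i
  have h1 : (ε ^ i) ^ (p ^ 1) = 1 := by
    rw [pow_one, ← pow_mul, Nat.mul_comm, pow_mul, hprim.pow_eq_one, one_pow]
  have h2 := memLocalIdeal_sub_one_of_pow_eq_one hM h1
  refine ⟨h2, ?_⟩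
  have := MemLocalRing.add hM (MemLocalIdeal.memLocalRing h2) (memLocalRing_one hM)
  simpa using this

variable {n : Type*} [Fintype n] [DecidableEq n]

/-- the twisted trace lemma: if the idempotent `P` is a relative trace `∑_{i<p} X^i C X^{-i}`
with `C` integral and commuting with `X^p`, then `tr (P X Y) = 0` for `Y` commuting with the
data -/
theorem trace_eq_zero_of_relative_trace (hM : Cfsg.IsPModular p M)
    (X X' P C Y : Matrix n n ℂ)
    (hXX' : X * X' = 1) (hX'X : X' * X = 1)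
    (hXs : ∀ i j, Cfsg.MemLocalRing M (X i j)) (hX's : ∀ i j, Cfsg.MemLocalRing M (X' i j))
    (hCs : ∀ i j, Cfsg.MemLocalRing M (C i j))
    (hP : P * P = P) (hXP : X * P = P * X)
    (hPC : P * C = C) (hCP : C * P = C)
    (hsum : P = ∑ i ∈ Finset.range p, X ^ i * C * X' ^ i)
    (hXpC : X ^ p * C = C * X ^ p)
    (hYX : Y * X = X * Y) (hYP : Y * P = P * Y) (hYC : Y * C = C * Y) :
    Matrix.trace (P * X * Y) = 0 := by
  have hp : p.Prime := hM.1
  obtain ⟨ε, hεp, hε1, hεi⟩ := exists_pth_root hM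
  have hε0 : ε ≠ 0 := by
    intro h0
    rw [h0, zero_pow hp.ne_zero] at hεp
    exact zero_ne_one hεp
  -- powers
  have hpow : ∀ i : ℕ, X ^ i * X' ^ i = 1 := by
    intro i
    induction i with
    | zero => simp
    | succ i ih =>
      rw [pow_succ, pow_succ', mul_assoc, ← mul_assoc X X', hXX', one_mul, ih]
  have hX'P : X' * P = P * X' := by
    calc X' * P = X' * P * (X * X') := by rw [hXX', mul_one]
      _ = X' * (P * X) * X' := by simp only [mul_assoc]
      _ = X' * (X * P) * X' := by rw [hXP]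
      _ = (X' * X) * P * X' := by simp only [mul_assoc]
      _ = P * X' := by rw [hX'X, one_mul]
  have hYX' : Y * X' = X' * Y := by
    calc Y * X' = (X' * X) * Y * X' := by rw [hX'X, one_mul]
      _ = X' * (X * Y) * X' := by simp only [mul_assoc]
      _ = X' * (Y * X) * X' := by rw [hYX]
      _ = X' * Y * (X * X') := by simp only [mul_assoc]
      _ = X' * Y := by rw [hXX', mul_one]
  have hPXi : ∀ i : ℕ, P * X ^ i = X ^ i * P := by
    intro i
    induction i with
    | zero => simp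
    | succ i ih => rw [pow_succ, ← mul_assoc, ih, mul_assoc, ← hXP, ← mul_assoc]
  have hPX'i : ∀ i : ℕ, P * X' ^ i = X' ^ i * P := by
    intro i
    induction i with
    | zero => simp
    | succ i ih => rw [pow_succ, ← mul_assoc, ih, mul_assoc, ← hX'P, ← mul_assoc]
  have hYXi : ∀ i : ℕ, Y * X ^ i = X ^ i * Y := by
    intro i
    induction i with
    | zero => simp
    | succ i ih => rw [pow_succ, ← mul_assoc, ih, mul_assoc, hYX, ← mul_assoc]
  have hYX'i : ∀ i : ℕ, Y * X' ^ i = X' ^ i * Y := by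
    intro i
    induction i with
    | zero => simp
    | succ i ih => rw [pow_succ, ← mul_assoc, ih, mul_assoc, hYX', ← mul_assoc]
  -- the twisted sum
  obtain ⟨g, hg⟩ : ∃ g : ℕ → Matrix n n ℂ, g = fun i => ε ^ i • (X ^ i * C * X' ^ i) := ⟨_, rfl⟩
  obtain ⟨Θ, hΘ⟩ : ∃ Θ : Matrix n n ℂ, Θ = ∑ i ∈ Finset.range p, g i := ⟨_, rfl⟩
  have hgp : g p = g 0 := by
    rw [hg]
    simp only [hεp, one_smul, pow_zero, one_mul, mul_one]
    rw [hXpC, mul_assoc, hpow, mul_one]
  have hXg : ∀ i : ℕ, X * g i * X' = ε⁻¹ • g (i + 1) := by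
    intro i
    rw [hg]
    simp only
    rw [pow_succ ε, mul_comm (ε ^ i) ε, mul_smul, smul_smul, inv_mul_cancel₀ hε0, one_smul,
      Matrix.mul_smul, Matrix.smul_mul, pow_succ' X, pow_succ X']
    simp only [mul_assoc]
  have hXΘ : X * Θ * X' = ε⁻¹ • Θ := by
    rw [hΘ, Finset.mul_sum, Finset.sum_mul]
    simp_rw [hXg]
    rw [← Finset.smul_sum]
    congr 1
    have h1 := Finset.sum_range_succ g p
    have h2 := Finset.sum_range_succ' g p
    rw [h1] at h2
    rw [hgp] at h2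
    exact (add_right_cancel h2).symm
  have hXΘ' : X * Θ = ε⁻¹ • (Θ * X) := by
    calc X * Θ = X * Θ * (X' * X) := by rw [hX'X, mul_one]
      _ = (X * Θ * X') * X := by simp only [mul_assoc]
      _ = ε⁻¹ • (Θ * X) := by rw [hXΘ, Matrix.smul_mul]
  have hΘP : Θ * P = Θ := by
    rw [hΘ, Finset.sum_mul]
    apply Finset.sum_congr rfl
    intro i _
    rw [hg]
    simp only
    rw [Matrix.smul_mul, mul_assoc, ← hPX'i, ← mul_assoc, mul_assoc (X ^ i), hCP]
  have hPΘ : P * Θ = Θ := by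
    rw [hΘ, Finset.mul_sum]
    apply Finset.sum_congr rfl
    intro i _
    rw [hg]
    simp only
    rw [Matrix.mul_smul, ← mul_assoc, ← mul_assoc, hPXi, mul_assoc (X ^ i), hPC]
  have hYΘ : Y * Θ = Θ * Y := by
    rw [hΘ, Finset.mul_sum, Finset.sum_mul]
    apply Finset.sum_congr rfl
    intro i _
    rw [hg]
    simp only
    rw [Matrix.mul_smul, Matrix.smul_mul, ← mul_assoc, ← mul_assoc, hYXi, mul_assoc (X ^ i), hYC,
      mul_assoc, mul_assoc, hYX'i]
    simp only [mul_assoc]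
  -- the unit Θ'
  obtain ⟨Θ', hΘ'⟩ : ∃ Θ' : Matrix n n ℂ, Θ' = Θ + (1 - P) := ⟨_, rfl⟩
  have hterm : ∀ i : ℕ, ∀ a b, Cfsg.MemLocalRing M ((X ^ i * C * X' ^ i) a b) := by
    intro i
    have h1 : ∀ (Z : Matrix n n ℂ) (j : ℕ), (∀ a b, Cfsg.MemLocalRing M (Z a b)) →
        ∀ a b, Cfsg.MemLocalRing M ((Z ^ j) a b) := by
      intro Z j hZ
      induction j with
      | zero =>
        intro a b
        rw [pow_zero, Matrix.one_apply]
        split_ifs
        · exact memLocalRing_one hM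
        · exact memLocalRing_zero hM
      | succ j ih =>
        intro a b
        rw [pow_succ, Matrix.mul_apply]
        exact MemLocalRing.sum hM _ _ (fun k _ => MemLocalRing.mul hM (ih a k) (hZ k b))
    intro a b
    rw [Matrix.mul_apply]
    apply MemLocalRing.sum hM
    intro k _
    apply MemLocalRing.mul hM _ (h1 X' i hX's k b)
    rw [Matrix.mul_apply]
    exact MemLocalRing.sum hM _ _ (fun l _ => MemLocalRing.mul hM (h1 X i hXs a l) (hCs l k))
  have hdiff : Θ' - 1 = ∑ i ∈ Finset.range p, (ε ^ i - 1) • (X ^ i * C * X' ^ i) := by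
    rw [hΘ', hΘ, hg]
    simp only [sub_smul, one_smul, Finset.sum_sub_distrib]
    rw [← hsum]
    abel
  have hU1 : ∀ a b, Cfsg.MemLocalIdeal M (Θ' a b - (1 : Matrix n n ℂ) a b) := by
    intro a b
    rw [← Matrix.sub_apply, hdiff, Matrix.sum_apply]
    apply MemLocalIdeal.sum hM
    intro i _
    rw [Matrix.smul_apply, smul_eq_mul]
    exact MemLocalIdeal.mul_right hM (hεi i).1 (hterm i a b)
  have hU : ∀ a b, Cfsg.MemLocalRing M (Θ' a b) := by
    intro a b
    have h1 := MemLocalIdeal.memLocalRing (hU1 a b)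
    have h2 : Cfsg.MemLocalRing M ((1 : Matrix n n ℂ) a b) := by
      rw [Matrix.one_apply]
      split_ifs
      · exact memLocalRing_one hM
      · exact memLocalRing_zero hM
    have := MemLocalRing.add hM h1 h2
    simpa using this
  have hdet := det_ne_zero_of_congr_one hM Θ' hU hU1
  have hunit : IsUnit Θ'.det := isUnit_iff_ne_zero.mpr hdet
  -- the commutation relation
  obtain ⟨Z, hZ⟩ : ∃ Z : Matrix n n ℂ, Z = P * X * Y := ⟨_, rfl⟩
  have h1 : Θ' * Z = Θ * X * Y := by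
    rw [hΘ', hZ, add_mul, ← mul_assoc, ← mul_assoc, hΘP, sub_mul, one_mul]
    have : P * (P * X * Y) = P * X * Y := by
      rw [← mul_assoc, ← mul_assoc, hP]
    rw [this, sub_self, add_zero]
  have h2 : Z * Θ' = ε⁻¹ • (Θ * X * Y) := by
    rw [hΘ', hZ, mul_add, mul_sub, mul_one]
    have e1 : P * X * Y * P = P * X * Y := by
      rw [mul_assoc, hYP, ← mul_assoc, mul_assoc P X P, hXP, ← mul_assoc, hP]
    rw [e1, sub_self, add_zero]
    calc P * X * Y * Θ = P * X * (Θ * Y) := by rw [mul_assoc, hYΘ]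
      _ = P * (X * Θ) * Y := by simp only [mul_assoc]
      _ = P * (ε⁻¹ • (Θ * X)) * Y := by rw [hXΘ']
      _ = ε⁻¹ • ((P * Θ) * X * Y) := by
          rw [Matrix.mul_smul, Matrix.smul_mul]
          simp only [mul_assoc]
      _ = ε⁻¹ • (Θ * X * Y) := by rw [hPΘ]
  have h3 : Z * Θ' = ε⁻¹ • (Θ' * Z) := by rw [h2, h1]
  have h4 : Z = ε⁻¹ • (Θ' * Z * Θ'⁻¹) := by
    calc Z = Z * Θ' * Θ'⁻¹ := by rw [mul_assoc, Matrix.mul_nonsing_inv _ hunit, mul_one]
      _ = ε⁻¹ • (Θ' * Z * Θ'⁻¹) := by rw [h3, Matrix.smul_mul]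
  have h5 : Matrix.trace Z = ε⁻¹ * Matrix.trace Z := by
    conv_lhs => rw [h4]
    rw [Matrix.trace_smul, smul_eq_mul, Matrix.trace_mul_cycle, Matrix.nonsing_inv_mul _ hunit,
      one_mul]
  rw [← hZ]
  have h6 : (1 - ε⁻¹) * Matrix.trace Z = 0 := by
    rw [sub_mul, one_mul, ← h5, sub_self]
  rcases mul_eq_zero.mp h6 with h | h
  · exfalso
    apply hε1
    have : ε⁻¹ = 1 := (sub_eq_zero.mp h).symm
    rw [inv_eq_one] at this
    exact this
  · exact h

end

end Cfsg.Agent.Lib.Helper6
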