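import Mathlib

set_option autoImplicit false
set_option linter.unusedSectionVars false

namespace Cfsg.Agent.Lib.Helper6

section

variable {Ω : Type*} [DecidableEq Ω]

/-- the orbit relation of a permutation -/
def permSetoid (σ : Equiv.Perm Ω) : Setoid Ω where
  r s s' := ∃ j : ℤ, (σ ^ j) s = s'
  iseqv := by
    refine ⟨fun s => ⟨0, by simp⟩, ?_, ?_⟩
    · rintro s s' ⟨j, rfl⟩
      exact ⟨-j, by simp⟩
    · rintro s s' s'' ⟨j, rfl⟩ ⟨k, rfl⟩
      exact ⟨k + j, by rw [zpow_add, Equiv.Perm.mul_apply]⟩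

/-- Splitting the points moved by a permutation `σ` whose orbits on `S` all have length divisible
by `p`: there is a `σ^p`-invariant indicator function `w`, supported on `S`, with
`∑_{i<p} w (σ^{-i} s) = 1` for every `s` in `S`. -/
theorem exists_orbit_split (σ : Equiv.Perm Ω) (p : ℕ) (hp : 0 < p) (S : Ω → Prop)
    (hS : ∀ s, S (σ s) ↔ S s)
    (hfree : ∀ s, S s → ∀ j : ℤ, (σ ^ j) s = s → (p : ℤ) ∣ j) :
    ∃ w : Ω → ℂ, (∀ s, w ((σ ^ p) s) = w s) ∧ (∀ s, ¬ S s → w s = 0) ∧
      (∀ s, S s → ∑ i ∈ Finset.range p, w ((σ ^ (-(i : ℤ))) s) = 1) ∧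
      (∀ s, w s = 0 ∨ w s = 1) := by
  classical
  have hSz : ∀ (j : ℤ) (s : Ω), S ((σ ^ j) s) ↔ S s := by
    have hnat : ∀ (k : ℕ) (s : Ω), S ((σ ^ k) s) ↔ S s := by
      intro k
      induction k with
      | zero => intro s; simp
      | succ k ih =>
        intro s
        rw [pow_succ', Equiv.Perm.mul_apply, hS, ih]
    intro j s
    rcases Int.eq_nat_or_neg j with ⟨k, rfl | rfl⟩
    · rw [zpow_natCast]; exact hnat k s
    · have := hnat k ((σ ^ (-(k : ℤ))) s)
      rw [← this, ← zpow_natCast, ← Equiv.Perm.mul_apply, ← zpow_add]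
      simp
  obtain ⟨rep, hrep⟩ : ∃ rep : Ω → Ω, rep = fun s => (Quotient.out (Quotient.mk (permSetoid σ) s)) :=
    ⟨_, rfl⟩
  have hrep1 : ∀ s, ∃ j : ℤ, (σ ^ j) (rep s) = s := by
    intro s
    have : (permSetoid σ).r (rep s) s := by
      rw [hrep]
      exact Quotient.exact (Quotient.out_eq _)
    exact this
  have hrep2 : ∀ (j : ℤ) (s : Ω), rep ((σ ^ j) s) = rep s := by
    intro j s
    rw [hrep]
    simp only
    congr 1
    apply Quotient.sound
    exact ⟨-j, by simp⟩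
  obtain ⟨T, hT⟩ : ∃ T : Ω → Prop, T = fun s => S s ∧ ∃ j : ℤ, (p : ℤ) ∣ j ∧ (σ ^ j) (rep s) = s :=
    ⟨_, rfl⟩
  refine ⟨fun s => if T s then 1 else 0, ?_, ?_, ?_, ?_⟩
  · intro s
    have : T ((σ ^ p) s) ↔ T s := by
      rw [hT]
      simp only
      rw [← zpow_natCast, hSz, hrep2]
      constructor
      · rintro ⟨hs, j, hj, hjs⟩
        refine ⟨hs, j - p, dvd_sub hj (dvd_refl _), ?_⟩
        rw [sub_eq_neg_add, zpow_add, Equiv.Perm.mul_apply, hjs, ← Equiv.Perm.mul_apply, ← zpow_add]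
        simp
      · rintro ⟨hs, j, hj, hjs⟩
        refine ⟨hs, p + j, dvd_add (dvd_refl _) hj, ?_⟩
        rw [zpow_add, Equiv.Perm.mul_apply, hjs]
    simp only [this]
  · intro s hs
    have : ¬ T s := by
      rw [hT]
      exact fun h => hs h.1
    simp only [if_neg this]
  · intro s hs
    obtain ⟨j₀, hj₀⟩ := hrep1 s
    have hs₀ : S (rep s) := by rw [← hj₀] at hs; exact (hSz j₀ _).mp hs
    have key : ∀ i : ℕ, T ((σ ^ (-(i : ℤ))) s) ↔ (p : ℤ) ∣ j₀ - i := by
      intro i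
      rw [hT]
      simp only
      rw [hSz, hrep2]
      constructor
      · rintro ⟨_, j, hj, hjs⟩
        have h1 : (σ ^ (j₀ - i - j)) (rep s) = rep s := by
          have : (σ ^ j) (rep s) = (σ ^ (-(i : ℤ))) ((σ ^ j₀) (rep s)) := by rw [hjs, hj₀]
          rw [← Equiv.Perm.mul_apply, ← zpow_add] at this
          have h2 : j₀ - i - j = -j + (-(i : ℤ) + j₀) := by ring
          rw [h2, zpow_add, Equiv.Perm.mul_apply, ← this, ← Equiv.Perm.mul_apply, ← zpow_add]
          simp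
        have h3 := hfree _ hs₀ _ h1
        have : j₀ - (i : ℤ) = (j₀ - i - j) + j := by ring
        rw [this]
        exact dvd_add h3 hj
      · intro hdvd
        refine ⟨hs, j₀ - i, hdvd, ?_⟩
        rw [sub_eq_neg_add, zpow_add, Equiv.Perm.mul_apply, hj₀]
    simp only [key]
    -- exactly one index
    have hpz : (p : ℤ) ≠ 0 := by exact_mod_cast hp.ne'
    obtain ⟨i₀, hi₀⟩ : ∃ i₀ : ℕ, (i₀ : ℤ) = j₀ % p := by
      have := Int.emod_nonneg j₀ hpz
      exact ⟨(j₀ % p).toNat, Int.toNat_of_nonneg this⟩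
    have hi₀lt : i₀ < p := by
      have := Int.emod_lt_of_pos j₀ (by exact_mod_cast hp : (0 : ℤ) < p)
      rw [← hi₀] at this
      exact_mod_cast this
    have hdvd₀ : (p : ℤ) ∣ j₀ - i₀ := by
      refine ⟨j₀ / p, ?_⟩
      rw [hi₀]
      linarith [Int.emod_add_mul_ediv j₀ p]
    rw [Finset.sum_eq_single i₀]
    · rw [if_pos hdvd₀]
    · intro i hi hne
      rw [if_neg]
      intro hdvd
      apply hne
      have hilt : i < p := Finset.mem_range.mp hi
      have h1 : (p : ℤ) ∣ (i : ℤ) - i₀ := by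
        have := dvd_sub hdvd₀ hdvd
        have e : j₀ - (i₀ : ℤ) - (j₀ - i) = (i : ℤ) - i₀ := by ring
        rwa [e] at this
      have h2 : |(i : ℤ) - i₀| < p := by
        rw [abs_lt]
        constructor <;> omega
      have := Int.eq_zero_of_abs_lt_dvd h1 h2
      omega
    · intro h
      exact absurd (Finset.mem_range.mpr hi₀lt) h
  · intro s
    by_cases h : T s
    · right; simp only [if_pos h]
    · left; simp only [if_neg h]

end

end Cfsg.Agent.Lib.Helper6
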