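import Mathlib
import Cfsg.Prelude.Def_Blocks
import Cfsg.Agent.Lib.Helper6.BlkExt
import Cfsg.Agent.Lib.Helper6.BlkTwist
import Cfsg.Agent.Lib.Helper6.OrbitSplit
import Cfsg.Agent.Lib.Helper6.BlkNormalDef
import Cfsg.Agent.Lib.Helper6.Auto

set_option autoImplicit false
set_option linter.unusedSectionVars false
open Cfsg

namespace Cfsg.Agent.Lib.Helper6

open scoped ComplexConjugate

section

variable {G : Type*} [Group G] [Fintype G] [DecidableEq G]
variable {p : ℕ} {M : Ideal Cfsg.AlgInt}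
variable (H : Subgroup G) [Fintype H]

/-- if `b` induces `B` and `B'` is another block of `G`, then the restriction to `H` of the block
idempotent of `B'` is quasi-regular on the block `b`: `f_b - π_H(e_{B'}) f_b` has an inverse
`r` in `Z(S H) f_b` -/
theorem exists_quasi_inverse (hM : Cfsg.IsPModular p M) {b : Set (Cfsg.IrrCharacter H)}
    {B : Set (Cfsg.IrrCharacter G)} (hind : Cfsg.IsInducedBlock M H b B)
    (χ : Cfsg.IrrCharacter G) (hχ : χ ∉ B) :
    ∃ r : Matrix H H ℂ, r ∈ centerAlg H ∧ r ∈ sMat hM H ∧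
      (blockMat b - resMat H (blockMat (Cfsg.blockOf M (χ : G → ℂ))) * blockMat b) * r
        = blockMat b := by
  classical
  obtain ⟨ξ₀, hbξ⟩ := hind.1
  obtain ⟨χ₀, hBχ⟩ := hind.2.1
  have hχ₀B : χ₀ ∈ B := by rw [hBχ]; exact sameBlock_refl hM _
  obtain ⟨E', hE'⟩ : ∃ E' : Matrix G G ℂ, E' = blockMat (Cfsg.blockOf M (χ : G → ℂ)) := ⟨_, rfl⟩
  rw [← hE']
  have hEc : E' ∈ centerAlg G := by rw [hE']; exact blockMat_mem_centerAlg _
  have hEs : E' ∈ sMat hM G := by rw [hE']; exact blockMat_mem_sMat hM χ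
  have hχ₀E : cOmega (χ₀ : G → ℂ) E' = 0 := by
    rw [hE', cOmega_blockMat, if_neg]
    intro hmem
    apply hχ
    rw [hBχ]
    exact SameBlock.symm' hmem
  obtain ⟨bm, hbm⟩ : ∃ bm : Matrix H H ℂ, bm = blockMat b := ⟨_, rfl⟩
  rw [← hbm]
  have hbmc : bm ∈ centerAlg H := by rw [hbm]; exact blockMat_mem_centerAlg _
  have hbms : bm ∈ sMat hM H := by rw [hbm, hbξ]; exact blockMat_mem_sMat hM ξ₀
  have hbmi : bm * bm = bm := by rw [hbm]; exact blockMat_idem b
  obtain ⟨R0, hR0⟩ : ∃ R0 : Matrix H H ℂ, R0 = resMat H E' := ⟨_, rfl⟩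
  rw [← hR0]
  have hR0c : R0 ∈ centerAlg H := by rw [hR0]; exact resMat_mem_centerAlg H hEc
  have hR0s : R0 ∈ sMat hM H := by rw [hR0]; exact resMat_mem_sMat H hM hEs
  obtain ⟨Z, hZ⟩ : ∃ Z : Matrix H H ℂ, Z = R0 * bm := ⟨_, rfl⟩
  rw [← hZ]
  have hZc : Z ∈ centerAlg H := by rw [hZ]; exact (centerAlg H).mul_mem hR0c hbmc
  have hZs : Z ∈ sMat hM H := by rw [hZ]; exact (sMat hM H).mul_mem hR0s hbms
  have hω : ∀ ξ : Cfsg.IrrCharacter H, Cfsg.MemLocalIdeal M (cOmega (ξ : H → ℂ) Z) := by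
    intro ξ
    rw [hZ, cOmega_mul ξ.2 hR0c hbmc.1, hbm, cOmega_blockMat]
    by_cases hξ : ξ ∈ b
    · rw [if_pos hξ, mul_one, hR0]
      have h1 := IsInducedBlock.cOmega_sub H hM hind ξ hξ χ₀ hχ₀B hEc hEs
      rw [hχ₀E, sub_zero] at h1
      exact h1
    · rw [if_neg hξ, mul_zero]
      exact memLocalIdeal_zero hM
  obtain ⟨n, hn⟩ := exists_pow_mMat_of_cOmega hM hZc hZs hω
  obtain ⟨U₁, hU₁⟩ : ∃ U₁ : Matrix H H ℂ, U₁ = 1 - Z ^ n := ⟨_, rfl⟩
  have hZnc : Z ^ n ∈ centerAlg H := (centerAlg H).pow_mem hZc n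
  have hZns : Z ^ n ∈ sMat hM H := (sMat hM H).pow_mem hZs n
  have hU₁c : U₁ ∈ centerAlg H := by
    rw [hU₁]; exact (centerAlg H).sub_mem (centerAlg H).one_mem hZnc
  have hU₁s : U₁ ∈ sMat hM H := by
    rw [hU₁]; exact (sMat hM H).sub_mem (sMat hM H).one_mem hZns
  have hU₁1 : ∀ i j, Cfsg.MemLocalIdeal M (U₁ i j - (1 : Matrix H H ℂ) i j) := by
    intro i j
    rw [hU₁, Matrix.sub_apply, sub_sub_cancel_left]
    exact MemLocalIdeal.neg (hn i j)
  obtain ⟨W, hWU, hUW, hWs, hWcomm⟩ := exists_inverse_of_congr_one hM U₁ hU₁s hU₁1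
  have hWc : W ∈ centerAlg H :=
    mem_centerAlg_of_comm (fun x v => hWcomm _ (twoSidedMat_comm_center x v hU₁c))
  obtain ⟨Gn, hGn⟩ : ∃ Gn : Matrix H H ℂ, Gn = ∑ i ∈ Finset.range n, Z ^ i := ⟨_, rfl⟩
  have hGnc : Gn ∈ centerAlg H := by
    rw [hGn]; exact (centerAlg H).sum_mem (fun i _ => (centerAlg H).pow_mem hZc i)
  have hGns : Gn ∈ sMat hM H := by
    rw [hGn]; exact (sMat hM H).sum_mem (fun i _ => (sMat hM H).pow_mem hZs i)
  have hgeom : (1 - Z) * Gn = U₁ := by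
    rw [hGn, hU₁]; exact mul_neg_geom_sum Z n
  refine ⟨Gn * W * bm, ?_, ?_, ?_⟩
  · exact (centerAlg H).mul_mem ((centerAlg H).mul_mem hGnc hWc) hbmc
  · exact (sMat hM H).mul_mem ((sMat hM H).mul_mem hGns hWs) hbms
  · have h1 : bm * Z = Z := by
      rw [hZ, ← mul_assoc, centerAlg_comm hbmc hR0c, mul_assoc, hbmi]
    have h2 : bm - Z = bm * (1 - Z) := by rw [mul_sub, mul_one, h1]
    rw [h2]
    calc bm * (1 - Z) * (Gn * W * bm) = bm * ((1 - Z) * Gn) * W * bm := by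
          simp only [mul_assoc]
      _ = bm * (U₁ * W) * bm := by rw [hgeom]; simp only [mul_assoc]
      _ = bm := by rw [hUW, mul_one, hbmi]

end

section grp

variable {G : Type*} [Group G] [Finite G]

/-- the `p`-part of `h` is a power of `h ^ j` whenever `p` does not divide `j` -/
theorem IsPPart.mem_zpowers_zpow {p : ℕ} (hp : p.Prime) {h u : G} (hu : Cfsg.IsPPart p h u)
    (j : ℤ) (hj : ¬ (p : ℤ) ∣ j) : u ∈ Subgroup.zpowers (h ^ j) := by
  obtain ⟨v, huv, hcomm, ⟨k, hk⟩, hv⟩ := hu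
  have hpi : Prime (p : ℤ) := Nat.prime_iff_prime_int.mp hp
  have hN : ¬ (p : ℤ) ∣ (orderOf v : ℤ) := by
    intro hd
    exact hv (Int.natCast_dvd_natCast.mp hd)
  have hcop : IsCoprime ((orderOf v : ℤ) * j) ((p : ℤ) ^ k) := by
    apply IsCoprime.pow_right
    apply IsCoprime.symm
    rw [Prime.coprime_iff_not_dvd hpi]
    intro hd
    rcases hpi.dvd_or_dvd hd with h1 | h1
    · exact hN h1
    · exact hj h1
  obtain ⟨a, c, hac⟩ := hcop
  have h1 : h ^ orderOf v = u ^ orderOf v := by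
    rw [← huv, hcomm.mul_pow, pow_orderOf_eq_one, mul_one]
  have h2 : (h ^ j) ^ (orderOf v : ℤ) = u ^ ((orderOf v : ℤ) * j) := by
    rw [← zpow_mul, mul_comm, zpow_mul, zpow_natCast, h1, ← zpow_natCast, ← zpow_mul]
  have h3 : u = ((h ^ j) ^ (orderOf v : ℤ)) ^ a := by
    rw [h2, ← zpow_mul]
    have h4 : u ^ (c * (p : ℤ) ^ k) = 1 := by
      rw [mul_comm, zpow_mul]
      have : u ^ ((p : ℤ) ^ k) = 1 := by
        have := pow_orderOf_eq_one u
        rw [hk] at this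
        rw [← this]
        norm_cast
      rw [this, one_zpow]
    have h5 : u ^ ((orderOf v : ℤ) * j * a) = u ^ ((orderOf v : ℤ) * j * a) * u ^ (c * (p : ℤ) ^ k) := by
      rw [h4, mul_one]
    rw [h5, ← zpow_add]
    have : (orderOf v : ℤ) * j * a + c * (p : ℤ) ^ k = 1 := by rw [← hac]; ring
    rw [this, zpow_one]
  rw [h3]
  exact Subgroup.zpow_mem _ (Subgroup.zpow_mem _ (Subgroup.mem_zpowers _) _) _

end grp

section main

variable {G : Type*} [Group G] [Fintype G] [DecidableEq G]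
variable {p : ℕ} {M : Ideal Cfsg.AlgInt}
variable (H : Subgroup G) [Fintype H]

theorem regMat_sub' (a c : G → ℂ) : regMat (a - c) = regMat a - regMat c := by
  ext s t
  simp [regMat_apply]

theorem toPerm_conj_zpow_apply (h : G) (j : ℤ) (s : G) :
    ((MulAut.toPerm G (MulAut.conj h)) ^ j) s = h ^ j * s * (h ^ j)⁻¹ := by
  rw [← map_zpow, ← map_zpow]
  rfl

/-- the key lemma for Brauer's Second Main Theorem -/
theorem second_main_key (hM : Cfsg.IsPModular p M) {b : Set (Cfsg.IrrCharacter H)}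
    {B : Set (Cfsg.IrrCharacter G)} (hind : Cfsg.IsInducedBlock M H b B) (h : H)
    (hC : ∀ z : G, Cfsg.IsPPart p (h : G) z → Subgroup.centralizer ({z} : Set G) ≤ H)
    (χ : Cfsg.IrrCharacter G) (hχ : χ ∉ B) :
    ∑ k : H, Cfsg.blockCoeff b k * (χ : G → ℂ) ((k : G) * (h : G)) = 0 := by
  classical
  have hp : p.Prime := hM.1
  obtain ⟨ξ₀, hbξ⟩ := hind.1
  -- the p-part of h
  obtain ⟨v, hvz, u, huz, hhvu, hvp, k, huk⟩ := exists_pParts p hp (h : G)
  have hcomm : Commute u v := by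
    obtain ⟨i, rfl⟩ := Subgroup.mem_zpowers_iff.mp huz
    obtain ⟨j, rfl⟩ := Subgroup.mem_zpowers_iff.mp hvz
    exact (Commute.refl (h : G)).zpow_zpow i j
  have hpp : Cfsg.IsPPart p (h : G) u := ⟨v, by rw [hhvu, hcomm.eq], hcomm, ⟨k, huk⟩, hvp⟩
  have hCu : Subgroup.centralizer ({u} : Set G) ≤ H := hC u hpp
  -- the matrices
  obtain ⟨E', hE'⟩ : ∃ E' : Matrix G G ℂ, E' = blockMat (Cfsg.blockOf M (χ : G → ℂ)) := ⟨_, rfl⟩
  have hEc : E' ∈ centerAlg G := by rw [hE']; exact blockMat_mem_centerAlg _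
  have hEs : E' ∈ sMat hM G := by rw [hE']; exact blockMat_mem_sMat hM χ
  have hEi : E' * E' = E' := by rw [hE']; exact blockMat_idem _
  obtain ⟨e', he'⟩ : ∃ e' : G → ℂ, e' = Cfsg.blockCoeff (Cfsg.blockOf M (χ : G → ℂ)) := ⟨_, rfl⟩
  have hE'reg : E' = regMat e' := by rw [hE', he']; rfl
  have he'cf : Cfsg.IsClassFunction G e' := by rw [he']; exact blockCoeff_isClassFunction _
  have he'S : ∀ g, Cfsg.MemLocalRing M (e' g) := by
    intro g; rw [he']; exact blockCoeff_memLocalRing hM χ g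
  obtain ⟨r, hrc, hrs, hr⟩ := exists_quasi_inverse H hM hind χ hχ
  rw [← hE'] at hr
  obtain ⟨bm, hbm⟩ : ∃ bm : Matrix H H ℂ, bm = blockMat b := ⟨_, rfl⟩
  rw [← hbm] at hr
  have hbmc : bm ∈ centerAlg H := by rw [hbm]; exact blockMat_mem_centerAlg _
  have hbms : bm ∈ sMat hM H := by rw [hbm, hbξ]; exact blockMat_mem_sMat hM ξ₀
  have hbmi : bm * bm = bm := by rw [hbm]; exact blockMat_idem b
  obtain ⟨R0, hR0⟩ : ∃ R0 : Matrix H H ℂ, R0 = resMat H E' := ⟨_, rfl⟩
  rw [← hR0] at hr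
  have hR0c : R0 ∈ centerAlg H := by rw [hR0]; exact resMat_mem_centerAlg H hEc
  obtain ⟨Fm, hFm⟩ : ∃ Fm : Matrix G G ℂ, Fm = extMat H bm := ⟨_, rfl⟩
  obtain ⟨Um, hUm⟩ : ∃ Um : Matrix G G ℂ, Um = extMat H R0 := ⟨_, rfl⟩
  obtain ⟨Rm, hRm⟩ : ∃ Rm : Matrix G G ℂ, Rm = extMat H r := ⟨_, rfl⟩
  obtain ⟨V, hV⟩ : ∃ V : Matrix G G ℂ, V = E' - Um := ⟨_, rfl⟩
  obtain ⟨P, hP⟩ : ∃ P : Matrix G G ℂ, P = E' * Fm := ⟨_, rfl⟩
  have hFmr : RInv Fm := by rw [hFm]; exact extMat_rInv H _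
  have hUmr : RInv Um := by rw [hUm]; exact extMat_rInv H _
  have hRmr : RInv Rm := by rw [hRm]; exact extMat_rInv H _
  have hFmi : Fm * Fm = Fm := by rw [hFm, ← extMat_mul H hbmc.1, hbmi]
  have hEFm : E' * Fm = Fm * E' := centerAlg_comm_rInv hEc hFmr
  have hEUm : E' * Um = Um * E' := centerAlg_comm_rInv hEc hUmr
  have hUmFm : Um * Fm = Fm * Um := by
    rw [hUm, hFm, ← extMat_mul H hR0c.1, ← extMat_mul H hbmc.1, centerAlg_comm hR0c hbmc]
  have hPi : P * P = P := by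
    rw [hP]
    calc E' * Fm * (E' * Fm) = E' * (Fm * E') * Fm := by simp only [mul_assoc]
      _ = E' * (E' * Fm) * Fm := by rw [hEFm]
      _ = (E' * E') * (Fm * Fm) := by simp only [mul_assoc]
      _ = E' * Fm := by rw [hEi, hFmi]
  have hPr : RInv P := by
    rw [hP]; exact RInv.mul hEc.1 hFmr
  -- P = P * V * Rm
  have hkey1 : (Fm - Um * Fm) * Rm = Fm := by
    rw [hFm, hUm, hRm, ← extMat_mul H hR0c.1, ← extMat_sub,
      ← extMat_mul H ((rInvAlg H).sub_mem hbmc.1 ((rInvAlg H).mul_mem hR0c.1 hbmc.1)), hr]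
  have hkey2 : P * (Fm - Um * Fm) = P * V := by
    rw [hP, hV, mul_sub, mul_sub]
    have e1 : E' * Fm * Fm = E' * Fm := by rw [mul_assoc, hFmi]
    have e2 : E' * Fm * (Um * Fm) = E' * Um * Fm := by
      calc E' * Fm * (Um * Fm) = E' * (Fm * Um) * Fm := by simp only [mul_assoc]
        _ = E' * (Um * Fm) * Fm := by rw [hUmFm]
        _ = E' * Um * (Fm * Fm) := by simp only [mul_assoc]
        _ = E' * Um * Fm := by rw [hFmi]
    have e3 : E' * Fm * E' = E' * Fm := by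
      rw [mul_assoc, ← hEFm, ← mul_assoc, hEi]
    have e4 : E' * Fm * Um = E' * Um * Fm := by
      rw [mul_assoc, ← hUmFm, ← mul_assoc]
    rw [e1, e2, e3, e4]
  have hkey : P = P * V * Rm := by
    have e1 : P * Fm = P := by rw [hP, mul_assoc, hFmi]
    calc P = P * Fm := e1.symm
      _ = P * ((Fm - Um * Fm) * Rm) := by rw [hkey1]
      _ = P * (Fm - Um * Fm) * Rm := by rw [mul_assoc]
      _ = P * V * Rm := by rw [hkey2]
  -- the translation matrices
  obtain ⟨X, hX⟩ : ∃ X : Matrix G G ℂ, X = twoSidedMat (h : G) (1 : G) := ⟨_, rfl⟩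
  obtain ⟨X', hX'⟩ : ∃ X' : Matrix G G ℂ, X' = twoSidedMat (h : G)⁻¹ (1 : G) := ⟨_, rfl⟩
  have hXX' : X * X' = 1 := by rw [hX, hX']; exact twoSidedMat_mul_inv _
  have hX'X : X' * X = 1 := by rw [hX, hX']; exact twoSidedMat_inv_mul _
  have hXr : RInv X := by rw [hX]; exact rInv_twoSidedMat _
  have hX'r : RInv X' := by rw [hX']; exact rInv_twoSidedMat _
  have hXext : X = extMat H (twoSidedMat h (1 : H)) := by rw [hX, extMat_twoSidedMat]
  have hXHr : RInv (twoSidedMat h (1 : H)) := rInv_twoSidedMat _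
  have hXFm : X * Fm = Fm * X := by
    rw [hXext, hFm, ← extMat_mul H hXHr, ← extMat_mul H hbmc.1, centerAlg_comm_rInv hbmc hXHr]
  have hXRm : X * Rm = Rm * X := by
    rw [hXext, hRm, ← extMat_mul H hXHr, ← extMat_mul H hrc.1, centerAlg_comm_rInv hrc hXHr]
  have hXE : X * E' = E' * X := (centerAlg_comm_rInv hEc hXr).symm
  have hXP : X * P = P * X := by
    rw [hP, ← mul_assoc, hXE, mul_assoc, hXFm, ← mul_assoc]
  have hXpow : ∀ i : ℕ, X ^ i = twoSidedMat ((h : G) ^ i) (1 : G) := by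
    intro i; rw [hX, twoSidedMat_pow, one_pow]
  have hX'pow : ∀ i : ℕ, X' ^ i = twoSidedMat ((h : G) ^ i)⁻¹ (1 : G) := by
    intro i; rw [hX', twoSidedMat_pow, one_pow, inv_pow]
  -- the splitting of V
  obtain ⟨σ, hσ⟩ : ∃ σ : Equiv.Perm G, σ = MulAut.toPerm G (MulAut.conj (h : G)) := ⟨_, rfl⟩
  have hσz : ∀ (j : ℤ) (s : G), (σ ^ j) s = (h : G) ^ j * s * ((h : G) ^ j)⁻¹ := by
    intro j s; rw [hσ]; exact toPerm_conj_zpow_apply _ j s
  have hσS : ∀ s : G, (σ s ∉ H) ↔ (s ∉ H) := by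
    intro s
    have h1 := hσz 1 s
    rw [zpow_one, zpow_one] at h1
    rw [h1, not_iff_not]
    constructor
    · intro hs
      have := H.mul_mem (H.mul_mem (H.inv_mem h.2) hs) h.2
      simpa [mul_assoc] using this
    · intro hs
      exact H.mul_mem (H.mul_mem h.2 hs) (H.inv_mem h.2)
  have hfree : ∀ s : G, s ∉ H → ∀ j : ℤ, (σ ^ j) s = s → (p : ℤ) ∣ j := by
    intro s hs j hj
    by_contra hnd
    apply hs
    apply hCu
    have hu := IsPPart.mem_zpowers_zpow hp hpp j hnd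
    rw [hσz] at hj
    have hc : Commute ((h : G) ^ j) s := by
      show (h : G) ^ j * s = s * (h : G) ^ j
      calc (h : G) ^ j * s = (h : G) ^ j * s * ((h : G) ^ j)⁻¹ * (h : G) ^ j := by group
        _ = s * (h : G) ^ j := by rw [hj]
    obtain ⟨i, rfl⟩ := Subgroup.mem_zpowers_iff.mp hu
    rw [mem_centralizer_singleton_iff]
    exact (hc.zpow_left i).eq
  obtain ⟨w, hw1, hw3, hw2, hw0⟩ := exists_orbit_split σ p hp.pos (fun s => s ∉ H) hσS hfree
  obtain ⟨V₁, hV₁⟩ : ∃ V₁ : Matrix G G ℂ, V₁ = regMat (fun g => w g * e' g) := ⟨_, rfl⟩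
  have hV₁r : RInv V₁ := by rw [hV₁]; exact regMat_rInv _
  have hV₁s : ∀ s t, Cfsg.MemLocalRing M (V₁ s t) := by
    intro s t
    rw [hV₁, regMat_apply]
    rcases hw0 (s * t⁻¹) with h0 | h0
    · rw [h0, zero_mul]; exact memLocalRing_zero hM
    · rw [h0, one_mul]; exact he'S _
  have hconjterm : ∀ i : ℕ, X ^ i * V₁ * X' ^ i
      = regMat (fun g => w (((h : G) ^ i)⁻¹ * g * (h : G) ^ i) * e' g) := by
    intro i
    rw [hXpow, hX'pow, hV₁, conj_regMat]
    congr 1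
    funext g
    have := he'cf g ((h : G) ^ i)⁻¹
    rw [inv_inv] at this
    rw [this]
  have hVsum : V = ∑ i ∈ Finset.range p, X ^ i * V₁ * X' ^ i := by
    simp_rw [hconjterm]
    rw [← regMat_sum, hV, hE'reg, hUm, hR0, hE'reg, resMat_regMat, extMat_regMat, ← regMat_sub']
    congr 1
    funext g
    simp only [Pi.sub_apply, Finset.sum_apply]
    rw [← Finset.sum_mul]
    have hterm : ∀ i : ℕ, w (((h : G) ^ i)⁻¹ * g * (h : G) ^ i) = w ((σ ^ (-(i : ℤ))) g) := by
      intro i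
      rw [hσz, zpow_neg, zpow_natCast, inv_inv]
    by_cases hg : g ∈ H
    · rw [extFun_of_mem H _ hg]
      have : ∀ i ∈ Finset.range p, w (((h : G) ^ i)⁻¹ * g * (h : G) ^ i) = 0 := by
        intro i _
        apply hw3
        rw [not_not]
        exact H.mul_mem (H.mul_mem (H.inv_mem (H.pow_mem h.2 i)) hg) (H.pow_mem h.2 i)
      rw [Finset.sum_eq_zero this, zero_mul]
      simp [resFun]
    · rw [extFun_of_not_mem H _ hg, sub_zero]
      simp_rw [hterm]
      rw [hw2 g hg, one_mul]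
  -- the relative trace element
  obtain ⟨C, hCdef⟩ : ∃ C : Matrix G G ℂ, C = P * V₁ * Rm * P := ⟨_, rfl⟩
  have hPC : P * C = C := by
    rw [hCdef]; simp only [← mul_assoc]; rw [hPi]
  have hCP : C * P = C := by
    rw [hCdef]; simp only [mul_assoc]; rw [hPi]
  have hXiP : ∀ i : ℕ, X ^ i * P = P * X ^ i := by
    intro i
    induction i with
    | zero => simp
    | succ i ih => rw [pow_succ, mul_assoc, hXP, ← mul_assoc, ih, mul_assoc]
  have hX'P : X' * P = P * X' := by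
    calc X' * P = X' * P * (X * X') := by rw [hXX', mul_one]
      _ = X' * (P * X) * X' := by simp only [mul_assoc]
      _ = X' * (X * P) * X' := by rw [hXP]
      _ = (X' * X) * P * X' := by simp only [mul_assoc]
      _ = P * X' := by rw [hX'X, one_mul]
  have hX'iP : ∀ i : ℕ, X' ^ i * P = P * X' ^ i := by
    intro i
    induction i with
    | zero => simp
    | succ i ih => rw [pow_succ, mul_assoc, hX'P, ← mul_assoc, ih, mul_assoc]
  have hX'Rm : X' * Rm = Rm * X' := by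
    calc X' * Rm = X' * Rm * (X * X') := by rw [hXX', mul_one]
      _ = X' * (Rm * X) * X' := by simp only [mul_assoc]
      _ = X' * (X * Rm) * X' := by rw [hXRm]
      _ = (X' * X) * Rm * X' := by simp only [mul_assoc]
      _ = Rm * X' := by rw [hX'X, one_mul]
  have hX'iRm : ∀ i : ℕ, X' ^ i * Rm = Rm * X' ^ i := by
    intro i
    induction i with
    | zero => simp
    | succ i ih => rw [pow_succ, mul_assoc, hX'Rm, ← mul_assoc, ih, mul_assoc]
  have hsum : P = ∑ i ∈ Finset.range p, X ^ i * C * X' ^ i := by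
    have h1 : ∀ i : ℕ, X ^ i * C * X' ^ i = P * (X ^ i * V₁ * X' ^ i) * Rm * P := by
      intro i
      rw [hCdef]
      calc X ^ i * (P * V₁ * Rm * P) * X' ^ i
          = (X ^ i * P) * V₁ * Rm * (P * X' ^ i) := by simp only [mul_assoc]
        _ = (P * X ^ i) * V₁ * Rm * (X' ^ i * P) := by rw [hXiP, hX'iP]
        _ = P * X ^ i * V₁ * (Rm * X' ^ i) * P := by simp only [mul_assoc]
        _ = P * X ^ i * V₁ * (X' ^ i * Rm) * P := by rw [hX'iRm]
        _ = P * (X ^ i * V₁ * X' ^ i) * Rm * P := by simp only [mul_assoc]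
    simp_rw [h1]
    rw [← Finset.sum_mul, ← Finset.sum_mul, ← Finset.mul_sum, ← hVsum, ← hkey, hPi]
  have hXpV : X ^ p * V₁ = V₁ * X ^ p := by
    have h1 := hconjterm p
    have h2 : (fun g => w (((h : G) ^ p)⁻¹ * g * (h : G) ^ p) * e' g) = fun g => w g * e' g := by
      funext g
      have := hw1 (((h : G) ^ p)⁻¹ * g * (h : G) ^ p)
      rw [← zpow_natCast, hσz] at this
      have e : (h : G) ^ (p : ℤ) * (((h : G) ^ p)⁻¹ * g * (h : G) ^ p) * ((h : G) ^ (p : ℤ))⁻¹ = g := by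
        rw [zpow_natCast]; group
      rw [e] at this
      rw [this]
    rw [h2, ← hV₁] at h1
    have hpow : X ^ p * X' ^ p = 1 := by
      rw [hXpow, hX'pow]; exact twoSidedMat_mul_inv _
    have hpow' : X' ^ p * X ^ p = 1 := by
      rw [hXpow, hX'pow]; exact twoSidedMat_inv_mul _
    calc X ^ p * V₁ = X ^ p * V₁ * (X' ^ p * X ^ p) := by rw [hpow', mul_one]
      _ = (X ^ p * V₁ * X' ^ p) * X ^ p := by simp only [mul_assoc]
      _ = V₁ * X ^ p := by rw [h1]
  have hXpC : X ^ p * C = C * X ^ p := by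
    have hXpRm : X ^ p * Rm = Rm * X ^ p := by
      have : ∀ i : ℕ, X ^ i * Rm = Rm * X ^ i := by
        intro i
        induction i with
        | zero => simp
        | succ i ih => rw [pow_succ, mul_assoc, hXRm, ← mul_assoc, ih, mul_assoc]
      exact this p
    rw [hCdef]
    calc X ^ p * (P * V₁ * Rm * P) = (X ^ p * P) * V₁ * Rm * P := by simp only [mul_assoc]
      _ = P * (X ^ p * V₁) * Rm * P := by rw [hXiP]; simp only [mul_assoc]
      _ = P * V₁ * (X ^ p * Rm) * P := by rw [hXpV]; simp only [mul_assoc]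
      _ = P * V₁ * Rm * (X ^ p * P) := by rw [hXpRm]; simp only [mul_assoc]
      _ = P * V₁ * Rm * P * X ^ p := by rw [hXiP]; simp only [mul_assoc]
  have hCs : ∀ s t, Cfsg.MemLocalRing M (C s t) := by
    have hPs : P ∈ sMat hM G := by
      rw [hP, hFm]; exact (sMat hM G).mul_mem hEs (extMat_mem_sMat H hM hbms)
    have hRms : Rm ∈ sMat hM G := by rw [hRm]; exact extMat_mem_sMat H hM hrs
    have hV₁s' : V₁ ∈ sMat hM G := hV₁s
    have : C ∈ sMat hM G := by
      rw [hCdef]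
      exact (sMat hM G).mul_mem ((sMat hM G).mul_mem ((sMat hM G).mul_mem hPs hV₁s') hRms) hPs
    exact this
  have hCr : RInv C := by
    rw [hCdef]
    exact RInv.mul (RInv.mul (RInv.mul hPr hV₁r) hRmr) hPr
  -- the central idempotent of χ
  obtain ⟨Y, hY⟩ : ∃ Y : Matrix G G ℂ, Y = regMat (idemFun (χ : G → ℂ)) := ⟨_, rfl⟩
  have hYc : Y ∈ centerAlg G := by
    rw [hY]
    exact regMat_mem_centerAlg (idemFun_isClassFunction (IsIrrCharacter.isClassFunction χ.2))
  have htr := trace_eq_zero_of_relative_trace hM X X' P C Y hXX' hX'X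
    (by rw [hX]; exact twoSidedMat_mem_sMat hM _ _) (by rw [hX']; exact twoSidedMat_mem_sMat hM _ _)
    hCs hPi hXP hPC hCP hsum hXpC (centerAlg_comm_rInv hYc hXr) (centerAlg_comm_rInv hYc hPr)
    (centerAlg_comm_rInv hYc hCr)
  -- evaluate the trace
  have hYE : Y * E' = Y := by
    apply eq_of_cOmega_eq ((centerAlg G).mul_mem hYc hEc) hYc
    intro θ
    rw [cOmega_mul θ.2 hYc hEc.1, hY, cOmega_idem, hE', cOmega_blockMat]
    by_cases hθ : χ = θ
    · rw [if_pos hθ, if_pos (by rw [← hθ]; exact sameBlock_refl hM _), mul_one]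
    · rw [if_neg hθ, zero_mul]
  have htr2 : Matrix.trace (P * X * Y) = Matrix.trace (Y * Fm * X) := by
    rw [Matrix.trace_mul_comm, ← mul_assoc, hP, ← mul_assoc, hYE]
  rw [htr2] at htr
  have htr3 : Matrix.trace (Y * Fm * X)
      = (Nat.card G : ℂ) * ∑ k : G, idemFun (χ : G → ℂ) ((h : G)⁻¹ * k⁻¹) *
          extFun H (fun k => bm k 1) k := by
    rw [Matrix.trace, Nat.card_eq_fintype_card, ← Finset.card_univ, ← nsmul_eq_mul,
      ← Finset.sum_const]
    apply Finset.sum_congr rfl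
    intro s _
    rw [Matrix.diag_apply, hX, mul_twoSidedMat_apply, hY, hFm]
    unfold extMat
    rw [regMat_mul_regMat_apply]
    apply Finset.sum_congr rfl
    intro k _
    congr 2
    group
  rw [htr3] at htr
  have hcard : (Nat.card G : ℂ) ≠ 0 := by exact_mod_cast Nat.card_pos.ne'
  have hsum0 := (mul_eq_zero.mp htr).resolve_left hcard
  rw [← sum_subtype_of_support H _ (fun g hg => by rw [extFun_of_not_mem H _ hg, mul_zero])] at hsum0
  have hχ1 := IsIrrCharacter.apply_one_ne_zero χ.2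
  have hfinal : ∑ k : H, idemFun (χ : G → ℂ) ((h : G)⁻¹ * (k : G)⁻¹) * extFun H (fun k => bm k 1) k
      = ((Nat.card G : ℂ)⁻¹ * (χ : G → ℂ) 1) *
        ∑ k : H, Cfsg.blockCoeff b k * (χ : G → ℂ) ((k : G) * (h : G)) := by
    rw [Finset.mul_sum]
    apply Finset.sum_congr rfl
    intro k _
    rw [extFun_coe, hbm]
    unfold blockMat idemFun
    rw [regMat_apply, inv_one, mul_one]
    have h1 : (h : G)⁻¹ * (k : G)⁻¹ = ((k : G) * (h : G))⁻¹ := by group
    rw [h1, IsCharacter.apply_inv (IsIrrCharacter.isCharacter χ.2), Complex.conj_conj]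
    ring
  rw [hfinal] at hsum0
  exact (mul_eq_zero.mp hsum0).resolve_left (mul_ne_zero (inv_ne_zero hcard) hχ1)

end main

end Cfsg.Agent.Lib.Helper6
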