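import Mathlib
import Cfsg.Prelude.Def_Blocks
import Cfsg.Agent.Lib.Helper6.BlkSecond
import Cfsg.Agent.Lib.Helper6.BlkCover3

set_option autoImplicit false
set_option linter.unusedSectionVars false
open Cfsg

namespace Cfsg.Agent.Lib.Helper6

open scoped ComplexConjugate

section grp

variable {G : Type*} [Group G] [Finite G]

/-- the `p`-part is unique -/
theorem IsPPart.unique {p : ℕ} (hp : p.Prime) {g x x' : G} (h : Cfsg.IsPPart p g x)
    (h' : Cfsg.IsPPart p g x') : x = x' := by
  have hx := IsPPart.mem_zpowers hp h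
  have hx' := IsPPart.mem_zpowers hp h'
  obtain ⟨y, hxy, hc, ⟨k, hk⟩, hy⟩ := h
  obtain ⟨y', hxy', hc', ⟨k', hk'⟩, hy'⟩ := h'
  obtain ⟨i, hi⟩ := Subgroup.mem_zpowers_iff.mp hx
  obtain ⟨i', hi'⟩ := Subgroup.mem_zpowers_iff.mp hx'
  have hcxx' : Commute x x' := by
    rw [← hi, ← hi']
    exact (Commute.refl g).zpow_zpow i i'
  have hy_eq : y = x⁻¹ * g := by rw [← hxy]; group
  have hy'_eq : y' = x'⁻¹ * g := by rw [← hxy']; group
  have hcxg : Commute x g := by rw [← hi]; exact (Commute.refl g).zpow_left i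
  have hcx'g : Commute x' g := by rw [← hi']; exact (Commute.refl g).zpow_left i'
  have hcyy' : Commute y y' := by
    rw [hy_eq, hy'_eq]
    apply Commute.mul_left
    · apply Commute.mul_right
      · exact (hcxx'.inv_inv)
      · exact hcxg.inv_left
    · apply Commute.mul_right
      · exact hcx'g.symm.inv_right
      · exact Commute.refl g
  obtain ⟨w, hw⟩ : ∃ w : G, w = x'⁻¹ * x := ⟨_, rfl⟩
  have hw' : w = y' * y⁻¹ := by
    rw [hw, hy_eq, hy'_eq]; group
  have hw1 : w ^ (p ^ (k + k')) = 1 := by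
    rw [hw, (hcxx'.symm.inv_left).mul_pow, inv_pow]
    have e1 : x' ^ (p ^ (k + k')) = 1 := by
      rw [pow_add, mul_comm, pow_mul, ← hk', pow_orderOf_eq_one, one_pow]
    have e2 : x ^ (p ^ (k + k')) = 1 := by
      rw [pow_add, pow_mul, ← hk, pow_orderOf_eq_one, one_pow]
    rw [e1, e2, inv_one, one_mul]
  have hw2 : w ^ (orderOf y * orderOf y') = 1 := by
    rw [hw', (hcyy'.symm.inv_right).mul_pow, inv_pow]
    have e1 : y' ^ (orderOf y * orderOf y') = 1 := by
      rw [mul_comm, pow_mul, pow_orderOf_eq_one, one_pow]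
    have e2 : y ^ (orderOf y * orderOf y') = 1 := by
      rw [pow_mul, pow_orderOf_eq_one, one_pow]
    rw [e1, e2, inv_one, one_mul]
  have hd1 := orderOf_dvd_of_pow_eq_one hw1
  have hd2 := orderOf_dvd_of_pow_eq_one hw2
  have hcop : Nat.Coprime (p ^ (k + k')) (orderOf y * orderOf y') := by
    apply Nat.Coprime.pow_left
    rw [Nat.Prime.coprime_iff_not_dvd hp]
    intro hd
    rcases (Nat.Prime.dvd_mul hp).mp hd with h1 | h1
    · exact hy h1
    · exact hy' h1
  have h1 : orderOf w = 1 := Nat.eq_one_of_dvd_coprimes hcop hd1 hd2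
  rw [orderOf_eq_one_iff] at h1
  rw [hw] at h1
  have : x = x' * (x'⁻¹ * x) := by group
  rw [this, h1, mul_one]

end grp

section part

variable {G : Type*} [Group G] [Fintype G] [DecidableEq G]

/-- the `b`-part of a class function through the block idempotent coefficients -/
theorem blockPart_eq_sum (b : Set (Cfsg.IrrCharacter G)) {ϑ : G → ℂ}
    (hϑ : Cfsg.IsClassFunction G ϑ) (y : G) :
    Cfsg.blockPart b ϑ y = ∑ k : G, Cfsg.blockCoeff b k * ϑ (k * y) := by
  classical
  haveI : Fintype (Cfsg.IrrCharacter G) := Fintype.ofFinite _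
  have hcard := card_ne_zero_complex G
  have key : ∀ ψ : Cfsg.IrrCharacter G,
      ∑ k : G, ((ψ : G → ℂ) 1 * conj ((ψ : G → ℂ) k)) * ϑ (k * y)
        = (∑ k : G, ϑ k * conj ((ψ : G → ℂ) k)) * (ψ : G → ℂ) y := by
    intro ψ
    have hψ1 := IsIrrCharacter.apply_one_ne_zero ψ.2
    have hψc := IsIrrCharacter.isCharacter ψ.2
    have hcf : Cfsg.IsClassFunction G (fun k => conj (ϑ k)) := by
      intro g h; simp only; rw [hϑ g h]
    have h1 := sum_classFunction_mul_shift ψ.2 hcf y⁻¹
    have h2 : ∑ k : G, ((ψ : G → ℂ) 1 * conj ((ψ : G → ℂ) k)) * ϑ (k * y)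
        = (ψ : G → ℂ) 1 * conj (∑ k : G, conj (ϑ k) * (ψ : G → ℂ) (k * y⁻¹)) := by
      rw [map_sum, Finset.mul_sum]
      rw [← Equiv.sum_comp (Equiv.mulRight y⁻¹)]
      apply Finset.sum_congr rfl
      intro k _
      simp only [Equiv.coe_mulRight, map_mul, Complex.conj_conj]
      have e : k * y⁻¹ * y = k := by group
      rw [e]
      ring
    rw [h2, h1, map_div₀, map_mul, map_sum, IsCharacter.apply_inv hψc, Complex.conj_conj]
    have h3 : conj ((ψ : G → ℂ) 1) = (ψ : G → ℂ) 1 := by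
      have := IsCharacter.apply_inv hψc 1
      rw [inv_one] at this
      exact this.symm
    rw [h3]
    have h4 : ∀ k : G, conj (conj (ϑ k) * (ψ : G → ℂ) k) = ϑ k * conj ((ψ : G → ℂ) k) := by
      intro k; rw [map_mul, Complex.conj_conj]
    simp_rw [h4]
    field_simp
  unfold Cfsg.blockPart Cfsg.blockCoeff Cfsg.classInner
  rw [finsum_mem_eq_finite_toFinset_sum _ (Set.toFinite b)]
  have : ∀ k : G, (∑ᶠ χ ∈ b, (χ : G → ℂ) 1 * conj ((χ : G → ℂ) k))
      = ∑ χ ∈ (Set.toFinite b).toFinset, (χ : G → ℂ) 1 * conj ((χ : G → ℂ) k) := by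
    intro k
    rw [finsum_mem_eq_finite_toFinset_sum _ (Set.toFinite b)]
  simp_rw [this]
  have e2 : ∑ k : G, (Nat.card G : ℂ)⁻¹ *
        (∑ χ ∈ (Set.toFinite b).toFinset, (χ : G → ℂ) 1 * conj ((χ : G → ℂ) k)) * ϑ (k * y)
      = ∑ χ ∈ (Set.toFinite b).toFinset, (Nat.card G : ℂ)⁻¹ *
          ∑ k : G, ((χ : G → ℂ) 1 * conj ((χ : G → ℂ) k)) * ϑ (k * y) := by
    simp_rw [Finset.mul_sum, Finset.sum_mul]
    rw [Finset.sum_comm]
    apply Finset.sum_congr rfl
    intro χ _
    apply Finset.sum_congr rfl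
    intro k _
    ring
  rw [e2]
  apply Finset.sum_congr rfl
  intro ψ _
  rw [key ψ]
  have : (Fintype.ofFinite G) = (inferInstance : Fintype G) := Subsingleton.elim _ _
  rw [this]
  ring

end part

section second

variable {G : Type*} [Group G] [Fintype G] [DecidableEq G]
variable {p : ℕ} {M : Ideal Cfsg.AlgInt}

theorem centralizer_singleton_le_normalizer_zpowers (x : G) :
    Subgroup.centralizer ({x} : Set G) ≤ Subgroup.normalizer (Subgroup.zpowers x : Set G) := by
  refine le_trans ?_ (Subgroup.centralizer_le_normalizer _)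
  intro c hc
  rw [Subgroup.mem_centralizer_iff]
  intro g hg
  obtain ⟨i, rfl⟩ := Subgroup.mem_zpowers_iff.mp hg
  rw [mem_centralizer_singleton_iff] at hc
  have : Commute x c := hc
  exact (this.zpow_left i).eq

/-- Brauer's Second Main Theorem in terms of characters, for `H = C_G(x)` -/
theorem second_main_chars (hM : Cfsg.IsPModular p M) (x : G) (hx : ∃ k : ℕ, orderOf x = p ^ k)
    (H : Subgroup G) [Fintype H] (hH : H = Subgroup.centralizer ({x} : Set G))
    {B : Set (Cfsg.IrrCharacter G)} (hB : Cfsg.IsPBlock M B) (χ : Cfsg.IrrCharacter G)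
    (hχ : χ ∈ B) {b : Set (Cfsg.IrrCharacter H)} (hb : Cfsg.IsPBlock M b)
    (hnot : ¬ Cfsg.IsInducedBlock M H b B) (y : H) (hy : ¬ p ∣ orderOf y) :
    Cfsg.blockPart b (fun c : H => (χ : G → ℂ) (x * (c : G))) y = 0 := by
  classical
  have hp : p.Prime := hM.1
  haveI : Fact p.Prime := ⟨hp⟩
  have hxH : x ∈ H := by rw [hH, mem_centralizer_singleton_iff]
  have hcommH : ∀ c : H, Commute x (c : G) := by
    intro c
    have h1 : ∀ g : G, g ∈ H → Commute x g := by
      intro g hg
      rw [hH, mem_centralizer_singleton_iff] at hg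
      exact hg
    exact h1 _ c.2
  have hP : IsPGroup p (Subgroup.zpowers x) := by
    obtain ⟨k, hk⟩ := hx
    apply IsPGroup.of_card (n := k)
    rw [Nat.card_zpowers, hk]
  have hPH : Subgroup.zpowers x ≤ H := by rw [Subgroup.zpowers_le]; exact hxH
  have hCH : Subgroup.centralizer (Subgroup.zpowers x : Set G) ≤ H := by
    rw [hH]
    apply Subgroup.centralizer_le
    intro g hg
    rw [Set.mem_singleton_iff] at hg
    rw [hg]
    exact Subgroup.mem_zpowers x
  have hHN : H ≤ Subgroup.normalizer (Subgroup.zpowers x : Set G) := by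
    rw [hH]; exact centralizer_singleton_le_normalizer_zpowers x
  obtain ⟨B', hind⟩ := inducedBlockDefined_of_centralizer_le (Subgroup.zpowers x) H hM hP hPH hCH
    hHN b hb
  have hχB' : χ ∉ B' := by
    intro hmem
    apply hnot
    have : B' = B := by
      obtain ⟨χ₁, h1⟩ := hind.2.1
      obtain ⟨χ₂, h2⟩ := hB
      rw [h1] at hmem ⊢
      rw [h2] at hχ ⊢
      rw [blockOf_eq_of_mem hM hmem, blockOf_eq_of_mem hM hχ]
    rw [← this]
    exact hind
  have hyx : IsPPart p (x * (y : G)) x := by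
    refine ⟨(y : G), rfl, hcommH y, hx, ?_⟩
    rw [Subgroup.orderOf_coe]
    exact hy
  have hC : ∀ z : G, Cfsg.IsPPart p (((⟨x, hxH⟩ * y : H)) : G) z →
      Subgroup.centralizer ({z} : Set G) ≤ H := by
    intro z hz
    have : z = x := IsPPart.unique hp hz hyx
    rw [this, hH]
  have hkey := second_main_key H hM hind (⟨x, hxH⟩ * y) hC χ hχB'
  have hcf : Cfsg.IsClassFunction H (fun c : H => (χ : G → ℂ) (x * (c : G))) := by
    intro g h
    simp only [Subgroup.coe_mul, Subgroup.coe_inv]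
    have e : x * ((h : G) * (g : G) * (h : G)⁻¹) = (h : G) * (x * (g : G)) * (h : G)⁻¹ := by
      have := (hcommH h).eq
      calc x * ((h : G) * (g : G) * (h : G)⁻¹) = (x * (h : G)) * (g : G) * (h : G)⁻¹ := by group
        _ = ((h : G) * x) * (g : G) * (h : G)⁻¹ := by rw [this]
        _ = (h : G) * (x * (g : G)) * (h : G)⁻¹ := by group
    rw [e]
    exact IsIrrCharacter.isClassFunction χ.2 _ _
  rw [blockPart_eq_sum b hcf y, ← hkey]
  apply Finset.sum_congr rfl
  intro k _
  congr 2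
  simp only [Subgroup.coe_mul]
  have := (hcommH k).eq
  rw [← mul_assoc, this]
  group

end second

end Cfsg.Agent.Lib.Helper6
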