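import Mathlib
import Cfsg.Agent.Lib.Helper6.BlkMinMax2

set_option autoImplicit false
set_option linter.unusedSectionVars false
open Cfsg

namespace Cfsg.Agent.Lib.Helper6

section

variable {G : Type*} [Group G]

/-- a `p`-subgroup of `H` containing the image of a Sylow `p`-subgroup of `H` equals it -/
theorem eq_sylow_map_of_ge {p : ℕ} {H : Subgroup G} {P : Subgroup G} (hP : IsPGroup p P)
    (hPH : P ≤ H) (Q : Sylow p H) (hQ : (Q : Subgroup H).map H.subtype ≤ P) :
    P = (Q : Subgroup H).map H.subtype := by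
  have h1 : IsPGroup p (P.subgroupOf H) := by
    rw [← Subgroup.comap_subtype]
    exact hP.comap_subtype
  have h2 : (Q : Subgroup H) ≤ P.subgroupOf H := by
    intro y hy
    rw [Subgroup.mem_subgroupOf]
    exact hQ ⟨y, hy, rfl⟩
  have h3 := Q.3 h1 h2
  rw [← h3, Subgroup.map_subgroupOf_eq_of_le hPH]

theorem mem_normalizer_of_map_conj_eq {P : Subgroup G} {n : G}
    (h : P.map (MulAut.conj n).toMonoidHom = P) : n ∈ Subgroup.normalizer (P : Set G) := by
  rw [Subgroup.mem_normalizer_iff]
  intro y
  constructor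
  · intro hy
    rw [← h]
    exact ⟨y, hy, by simp [MulAut.conj_apply]⟩
  · intro hy
    rw [← h] at hy
    obtain ⟨z, hz, hzy⟩ := hy
    have : z = y := by
      simpa [MulAut.conj_apply] using hzy
    rw [← this]; exact hz

theorem map_conj_eq_of_mem_normalizer {P : Subgroup G} {n : G}
    (h : n ∈ Subgroup.normalizer (P : Set G)) : P.map (MulAut.conj n).toMonoidHom = P := by
  rw [Subgroup.mem_normalizer_iff] at h
  ext y
  constructor
  · rintro ⟨z, hz, rfl⟩
    simpa [MulAut.conj_apply] using (h z).mp hz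
  · intro hy
    refine ⟨n⁻¹ * y * n, ?_, by simp [MulAut.conj_apply, mul_assoc]⟩
    show n⁻¹ * y * n ∈ P
    rw [h]
    simpa [mul_assoc] using hy

theorem map_conj_map_conj (P : Subgroup G) (a b : G) :
    (P.map (MulAut.conj b).toMonoidHom).map (MulAut.conj a).toMonoidHom
      = P.map (MulAut.conj (a * b)).toMonoidHom := by
  rw [Subgroup.map_map]
  congr 1
  ext z
  simp [MulAut.conj_apply, mul_assoc]

theorem map_conj_one (P : Subgroup G) : P.map (MulAut.conj (1 : G)).toMonoidHom = P := by
  ext y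
  simp

/-- normalizer growth: a proper subgroup of a finite `p`-group is properly contained in its
normalizer inside that group -/
theorem exists_mem_normalizer_not_mem [Finite G] {p : ℕ} [Fact p.Prime] {P Q : Subgroup G}
    (hQ : IsPGroup p Q) (hPQ : P < Q) :
    ∃ x ∈ Q, x ∈ Subgroup.normalizer (P : Set G) ∧ x ∉ P := by
  have hnil : Group.IsNilpotent Q := hQ.isNilpotent
  have hnc : NormalizerCondition Q := Group.normalizerCondition_of_isNilpotent
  have hlt : P.subgroupOf Q < ⊤ := by
    rw [lt_top_iff_ne_top]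
    intro h
    rw [Subgroup.subgroupOf_eq_top] at h
    exact absurd h (not_le_of_gt hPQ)
  have h1 := hnc _ hlt
  obtain ⟨g, hgN, hgP⟩ := SetLike.exists_of_lt h1
  refine ⟨g, g.2, ?_, hgP⟩
  rw [Subgroup.mem_normalizer_iff] at hgN ⊢
  intro y
  constructor
  · intro hy
    have := (hgN ⟨y, hPQ.le hy⟩).mp (by rw [Subgroup.mem_subgroupOf]; exact hy)
    rw [Subgroup.mem_subgroupOf] at this
    simpa using this
  · intro hy
    have hyQ : y ∈ Q := by
      have h2 : g⁻¹.1 * ((g : G) * y * (g : G)⁻¹) * (g : G) ∈ Q :=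
        Q.mul_mem (Q.mul_mem g⁻¹.2 (hPQ.le hy)) g.2
      simpa [mul_assoc] using h2
    have := (hgN ⟨y, hyQ⟩).mpr (by rw [Subgroup.mem_subgroupOf]; simpa using hy)
    rw [Subgroup.mem_subgroupOf] at this
    exact this

end

end Cfsg.Agent.Lib.Helper6

namespace Cfsg.Agent.Lib.Helper6

section

variable {G : Type*} [Group G]

theorem card_map_conj' (D : Subgroup G) (x : G) :
    Nat.card (D.map (MulAut.conj x).toMonoidHom) = Nat.card D :=
  Nat.card_congr ((MulAut.conj x).subgroupMap D).symm.toEquiv

theorem card_sylow_map [Finite G] {p : ℕ} [Fact p.Prime] {H : Subgroup G} (Q : Sylow p H) :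
    Nat.card ((Q : Subgroup H).map H.subtype) = p ^ (Nat.card H).factorization p := by
  rw [← Sylow.card_eq_multiplicity Q]
  exact Nat.card_congr ((Q : Subgroup H).equivMapOfInjective H.subtype H.subtype_injective).symm.toEquiv

end

end Cfsg.Agent.Lib.Helper6
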