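import Mathlib
import Cfsg.Prelude.Def_Blocks
import Cfsg.Agent.Lib.Helper6.BlkSecond2
import Cfsg.Agent.Lib.Helper6.ClassMult
import Cfsg.Agent.S0958

set_option autoImplicit false
set_option linter.unusedSectionVars false
open Cfsg

namespace Cfsg.Agent.Lib.Helper6

open scoped ComplexConjugate

section part

variable {G : Type*} [Group G] [Fintype G] [DecidableEq G]
variable {p : ℕ} {M : Ideal Cfsg.AlgInt}

theorem blockCoeff_univ (k : G) :
    Cfsg.blockCoeff (Set.univ : Set (Cfsg.IrrCharacter G)) k = if k = 1 then 1 else 0 := by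
  classical
  haveI : Fintype (Cfsg.IrrCharacter G) := Fintype.ofFinite _
  have hcard := card_ne_zero_complex G
  unfold Cfsg.blockCoeff
  rw [finsum_mem_univ, finsum_eq_sum_of_fintype]
  have h1 := sum_irr_apply_mul_apply_one k
  have h2 : ∑ χ : Cfsg.IrrCharacter G, (χ : G → ℂ) 1 * conj ((χ : G → ℂ) k)
      = conj (∑ χ : Cfsg.IrrCharacter G, (χ : G → ℂ) k * (χ : G → ℂ) 1) := by
    rw [map_sum]
    apply Finset.sum_congr rfl
    intro χ _
    rw [map_mul, IsIrrCharacter.conj_apply_one χ.2, mul_comm]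
  rw [h2, h1]
  split_ifs with hk
  · rw [Complex.conj_natCast, inv_mul_cancel₀ hcard]
  · rw [map_zero, mul_zero]

theorem blockPart_univ {ϑ : G → ℂ} (hϑ : Cfsg.IsClassFunction G ϑ) (y : G) :
    Cfsg.blockPart (Set.univ : Set (Cfsg.IrrCharacter G)) ϑ y = ϑ y := by
  rw [blockPart_eq_sum _ hϑ y]
  simp_rw [blockCoeff_univ]
  rw [Finset.sum_eq_single (1 : G)]
  · rw [if_pos rfl, one_mul, one_mul]
  · intro k _ hk
    rw [if_neg hk, zero_mul]
  · intro h; exact absurd (Finset.mem_univ _) h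

theorem blockPart_eq_finset_sum [Fintype (Cfsg.IrrCharacter G)] (B : Set (Cfsg.IrrCharacter G))
    [DecidablePred (· ∈ B)] (ϑ : G → ℂ) (y : G) :
    Cfsg.blockPart B ϑ y
      = ∑ χ ∈ Finset.univ.filter (· ∈ B), Cfsg.classInner ϑ (χ : G → ℂ) * (χ : G → ℂ) y := by
  unfold Cfsg.blockPart
  have : (Fintype.ofFinite G) = (inferInstance : Fintype G) := Subsingleton.elim _ _
  rw [this]
  rw [← finsum_mem_coe_finset]
  congr 1
  ext χ
  simp

/-- a class function vanishes at `y` if all its block parts do -/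
theorem apply_eq_zero_of_blockPart_eq_zero (hM : Cfsg.IsPModular p M) {ϑ : G → ℂ}
    (hϑ : Cfsg.IsClassFunction G ϑ) (y : G)
    (h : ∀ ψ₀ : Cfsg.IrrCharacter G, Cfsg.blockPart (Cfsg.blockOf M (ψ₀ : G → ℂ)) ϑ y = 0) :
    ϑ y = 0 := by
  classical
  haveI : Fintype (Cfsg.IrrCharacter G) := Fintype.ofFinite _
  rw [← blockPart_univ hϑ y, blockPart_eq_finset_sum]
  have h1 : (Finset.univ.filter (· ∈ (Set.univ : Set (Cfsg.IrrCharacter G)))) = Finset.univ := by
    ext χ; simp
  rw [h1]
  rw [← Finset.sum_fiberwise_of_maps_to (s := Finset.univ)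
    (t := Finset.univ.image (fun ψ : Cfsg.IrrCharacter G => Cfsg.blockOf M (ψ : G → ℂ)))
    (g := fun ψ : Cfsg.IrrCharacter G => Cfsg.blockOf M (ψ : G → ℂ))
    (fun ψ _ => Finset.mem_image_of_mem _ (Finset.mem_univ ψ))]
  apply Finset.sum_eq_zero
  intro b hb
  obtain ⟨ψ₀, _, rfl⟩ := Finset.mem_image.mp hb
  have h2 := h ψ₀
  rw [blockPart_eq_finset_sum] at h2
  rw [← h2]
  apply Finset.sum_congr
  · ext χ
    simp only [Finset.mem_filter, Finset.mem_univ, true_and]
    constructor
    · intro hχ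
      rw [← hχ]
      exact sameBlock_refl hM _
    · intro hχ
      exact (blockOf_eq_of_mem hM hχ).symm
  · intro χ _; rfl

end part

section vanish

variable {G : Type*} [Group G] [Fintype G] [DecidableEq G]
variable {p : ℕ} {M : Ideal Cfsg.AlgInt}

/-- characters vanish on elements whose `p`-part lies in no defect group -/
theorem apply_eq_zero_of_pPart_not_mem_defectGroup (hM : Cfsg.IsPModular p M)
    (χ : Cfsg.IrrCharacter G) (g x : G) (hx : Cfsg.IsPPart p g x)
    (hD : ∀ D : Subgroup G, Cfsg.IsDefectGroup p M (Cfsg.blockOf M (χ : G → ℂ)) D → x ∉ D) :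
    (χ : G → ℂ) g = 0 := by
  classical
  have hp : p.Prime := hM.1
  haveI : Fact p.Prime := ⟨hp⟩
  obtain ⟨y, hxy, hcomm, hxk, hy⟩ := hx
  have hyC : y ∈ Subgroup.centralizer ({x} : Set G) := by
    rw [mem_centralizer_singleton_iff]; exact hcomm.eq
  have hP : IsPGroup p (Subgroup.zpowers x) := by
    obtain ⟨k, hk⟩ := hxk
    apply IsPGroup.of_card (n := k)
    rw [Nat.card_zpowers, hk]
  have hxC : x ∈ Subgroup.centralizer ({x} : Set G) := by rw [mem_centralizer_singleton_iff]
  have hnot : ∀ b : Set (Cfsg.IrrCharacter (Subgroup.centralizer ({x} : Set G))),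
      ¬ Cfsg.IsInducedBlock M (Subgroup.centralizer ({x} : Set G)) b
        (Cfsg.blockOf M (χ : G → ℂ)) := by
    intro b hind
    have hsup : Subgroup.zpowers x ⊔ Subgroup.centralizer (Subgroup.zpowers x : Set G)
        ≤ Subgroup.centralizer ({x} : Set G) := by
      apply sup_le
      · rw [Subgroup.zpowers_le]; exact hxC
      · apply Subgroup.centralizer_le
        intro g hg
        rw [Set.mem_singleton_iff] at hg
        rw [hg]
        exact Subgroup.mem_zpowers x
    obtain ⟨D, hDdef, a, ha⟩ := (Cfsg.Agent.S0958.result p M hM (Subgroup.zpowers x)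
      (Subgroup.centralizer ({x} : Set G)) hP hsup
      (centralizer_singleton_le_normalizer_zpowers x) _ ⟨χ, rfl⟩).mp ⟨b, hind⟩
    have hD' := IsDefectGroup.map_conj hM χ D hDdef a⁻¹
    apply hD _ hD'
    refine ⟨a * x * a⁻¹, ha ⟨x, Subgroup.mem_zpowers x, ?_⟩, ?_⟩
    · simp [MulAut.conj_apply]
    · simp only [MulEquiv.coe_toMonoidHom, MulAut.conj_apply, inv_inv]
      group
  have hcf : Cfsg.IsClassFunction (Subgroup.centralizer ({x} : Set G))
      (fun c : Subgroup.centralizer ({x} : Set G) => (χ : G → ℂ) (x * (c : G))) := by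
    intro g h
    simp only [Subgroup.coe_mul, Subgroup.coe_inv]
    have hc : x * (h : G) = (h : G) * x := by
      have := h.2
      rw [mem_centralizer_singleton_iff] at this
      exact this
    have e : x * ((h : G) * (g : G) * (h : G)⁻¹) = (h : G) * (x * (g : G)) * (h : G)⁻¹ := by
      calc x * ((h : G) * (g : G) * (h : G)⁻¹) = (x * (h : G)) * (g : G) * (h : G)⁻¹ := by group
        _ = ((h : G) * x) * (g : G) * (h : G)⁻¹ := by rw [hc]
        _ = (h : G) * (x * (g : G)) * (h : G)⁻¹ := by group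
    rw [e]
    exact IsIrrCharacter.isClassFunction χ.2 _ _
  have hmain := apply_eq_zero_of_blockPart_eq_zero hM hcf ⟨y, hyC⟩ (by
    intro ψ₀
    apply second_main_chars hM x hxk _ rfl ⟨χ, rfl⟩ χ (sameBlock_refl hM _) ⟨ψ₀, rfl⟩ (hnot _)
    rw [Subgroup.orderOf_mk]
    exact hy)
  simp only at hmain
  rw [← hxy]
  exact hmain

end vanish

end Cfsg.Agent.Lib.Helper6
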