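import Mathlib
import Cfsg.Prelude.Def_Blocks
import Cfsg.Agent.Lib.Helper6.BlkSecond3
import Cfsg.Agent.Lib.Helper6.BlkOrth2
import Cfsg.Agent.Lib.Helper6.ClassFun
import Cfsg.Agent.Lib.Helper6.SecondOrth

set_option autoImplicit false
set_option linter.unusedSectionVars false
open Cfsg

namespace Cfsg.Agent.Lib.Helper6

open scoped ComplexConjugate

section

variable {G : Type*} [Group G] [Fintype G] [DecidableEq G]
variable {p : ℕ} {M : Ideal Cfsg.AlgInt}

/-- if a function vanishes on `p`-regular elements, so do its block parts -/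
theorem blockPart_eq_zero_of_vanish_pRegular (hM : Cfsg.IsPModular p M)
    (ψ₀ : Cfsg.IrrCharacter G) {η : G → ℂ} (hη : ∀ c : G, ¬ p ∣ orderOf c → η c = 0) (y : G)
    (hy : ¬ p ∣ orderOf y) : Cfsg.blockPart (Cfsg.blockOf M (ψ₀ : G → ℂ)) η y = 0 := by
  classical
  haveI : Fintype (Cfsg.IrrCharacter G) := Fintype.ofFinite _
  rw [blockPart_eq_finset_sum]
  unfold Cfsg.classInner
  have h1 : ∀ ψ : Cfsg.IrrCharacter G,
      ((Nat.card G : ℂ)⁻¹ * ∑ c : G, η c * conj ((ψ : G → ℂ) c)) * (ψ : G → ℂ) y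
        = (Nat.card G : ℂ)⁻¹ * ∑ c : G, η c * ((ψ : G → ℂ) y * conj ((ψ : G → ℂ) c)) := by
    intro ψ
    rw [mul_assoc, Finset.sum_mul]
    congr 1
    apply Finset.sum_congr rfl
    intro c _
    ring
  simp_rw [h1]
  rw [← Finset.mul_sum, Finset.sum_comm]
  simp_rw [← Finset.mul_sum]
  rw [Finset.sum_eq_zero, mul_zero]
  intro c _
  by_cases hc : p ∣ orderOf c
  · rw [weak_block_orthogonality_finset hM ψ₀ y c hy hc, mul_zero]
  · rw [hη c hc, zero_mul]

variable (H : Subgroup G) [Fintype H]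

theorem IsInducedBlock.unique (hM : Cfsg.IsPModular p M) {b : Set (Cfsg.IrrCharacter H)}
    {B B' : Set (Cfsg.IrrCharacter G)} (h : Cfsg.IsInducedBlock M H b B)
    (h' : Cfsg.IsInducedBlock M H b B') : B = B' := by
  obtain ⟨ξ₀, hb⟩ := h.1
  obtain ⟨χ₁, h1⟩ := h.2.1
  obtain ⟨χ₂, h2⟩ := h'.2.1
  have hξ : ξ₀ ∈ b := by rw [hb]; exact sameBlock_refl hM _
  have hχ₁ : χ₁ ∈ B := by rw [h1]; exact sameBlock_refl hM _
  have hχ₂ : χ₂ ∈ B' := by rw [h2]; exact sameBlock_refl hM _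
  rw [h1, h2]
  apply blockOf_eq_of_sameBlock hM
  intro g
  have e1 := h.2.2 ξ₀ hξ χ₁ hχ₁ g
  have e2 := h'.2.2 ξ₀ hξ χ₂ hχ₂ g
  have := MemLocalIdeal.sub hM e2 e1
  convert this using 1
  ring

end

section main

variable {G : Type*} [Group G] [Fintype G] [DecidableEq G]
variable {p : ℕ} {M : Ideal Cfsg.AlgInt}

/-- block parts of class functions vanishing on a `p`-section vanish on this `p`-section -/
theorem blockPart_vanish_pSection (hM : Cfsg.IsPModular p M) {ϑ : G → ℂ}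
    (hϑ : Cfsg.IsClassFunction G ϑ) (z : G)
    (hvan : ∀ u : G, Cfsg.IsPPart p u z → ϑ u = 0) (χ₀ : Cfsg.IrrCharacter G)
    (u : G) (hu : Cfsg.IsPPart p u z) : Cfsg.blockPart (Cfsg.blockOf M (χ₀ : G → ℂ)) ϑ u = 0 := by
  classical
  have hp : p.Prime := hM.1
  haveI : Fintype (Cfsg.IrrCharacter G) := Fintype.ofFinite _
  obtain ⟨y, hzy, hcomm, hzp, hy⟩ := hu
  obtain ⟨B, hBdef⟩ : ∃ B : Set (Cfsg.IrrCharacter G), B = Cfsg.blockOf M (χ₀ : G → ℂ) := ⟨_, rfl⟩
  rw [← hBdef]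
  have hyC : y ∈ Subgroup.centralizer ({z} : Set G) := by
    rw [mem_centralizer_singleton_iff]; exact hcomm.eq
  have hcommC : ∀ c : Subgroup.centralizer ({z} : Set G), z * (c : G) = (c : G) * z := by
    intro c
    have := c.2
    rw [mem_centralizer_singleton_iff] at this
    exact this
  -- shifting
  have shift_cf : ∀ f : G → ℂ, Cfsg.IsClassFunction G f →
      Cfsg.IsClassFunction (Subgroup.centralizer ({z} : Set G))
        (fun c : Subgroup.centralizer ({z} : Set G) => f (z * (c : G))) := by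
    intro f hf g h
    simp only [Subgroup.coe_mul, Subgroup.coe_inv]
    have e : z * ((h : G) * (g : G) * (h : G)⁻¹) = (h : G) * (z * (g : G)) * (h : G)⁻¹ := by
      calc z * ((h : G) * (g : G) * (h : G)⁻¹) = (z * (h : G)) * (g : G) * (h : G)⁻¹ := by group
        _ = ((h : G) * z) * (g : G) * (h : G)⁻¹ := by rw [hcommC h]
        _ = (h : G) * (z * (g : G)) * (h : G)⁻¹ := by group
    rw [e]
    exact hf _ _
  -- the B-part as a function
  obtain ⟨ϑB, hϑB⟩ : ∃ ϑB : G → ℂ, ϑB = ∑ χ ∈ Finset.univ.filter (· ∈ B),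
      Cfsg.classInner ϑ (χ : G → ℂ) • (χ : G → ℂ) := ⟨_, rfl⟩
  have hϑBcf : Cfsg.IsClassFunction G ϑB := by
    rw [hϑB]
    apply isClassFunction_sum
    intro χ _
    exact isClassFunction_smul _ (IsIrrCharacter.isClassFunction χ.2)
  have hpart : ∀ g : G, Cfsg.blockPart B ϑ g = ϑB g := by
    intro g
    rw [blockPart_eq_finset_sum, hϑB, Finset.sum_apply]
    apply Finset.sum_congr rfl
    intro χ _
    simp
  rw [hpart, ← hzy]
  have hgoal := apply_eq_zero_of_blockPart_eq_zero hM (shift_cf ϑB hϑBcf) ⟨y, hyC⟩ ?_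
  · exact hgoal
  intro ψ₀
  obtain ⟨b, hbdef⟩ : ∃ b : Set (Cfsg.IrrCharacter (Subgroup.centralizer ({z} : Set G))),
      b = Cfsg.blockOf M (ψ₀ : Subgroup.centralizer ({z} : Set G) → ℂ) := ⟨_, rfl⟩
  rw [← hbdef]
  have hb : Cfsg.IsPBlock M b := ⟨ψ₀, hbdef⟩
  -- the linear functional
  obtain ⟨L, hL⟩ : ∃ L : (G → ℂ) → ℂ, L = fun f =>
      ∑ k : Subgroup.centralizer ({z} : Set G), Cfsg.blockCoeff b k * f (z * (k : G) * y) :=
    ⟨_, rfl⟩
  have hLpart : ∀ f : G → ℂ, Cfsg.IsClassFunction G f →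
      Cfsg.blockPart b (fun c : Subgroup.centralizer ({z} : Set G) => f (z * (c : G))) ⟨y, hyC⟩
        = L f := by
    intro f hf
    rw [blockPart_eq_sum b (shift_cf f hf), hL]
    apply Finset.sum_congr rfl
    intro k _
    simp only [Subgroup.coe_mul, mul_assoc]
  have hLsum : ∀ (s : Finset (Cfsg.IrrCharacter G)) (c : Cfsg.IrrCharacter G → ℂ),
      L (∑ χ ∈ s, c χ • (χ : G → ℂ)) = ∑ χ ∈ s, c χ * L (χ : G → ℂ) := by
    intro s c
    rw [hL]
    simp only [Finset.sum_apply, Pi.smul_apply, smul_eq_mul, Finset.mul_sum]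
    rw [Finset.sum_comm]
    apply Finset.sum_congr rfl
    intro χ _
    apply Finset.sum_congr rfl
    intro k _
    ring
  have hyord : ¬ p ∣ orderOf (⟨y, hyC⟩ : Subgroup.centralizer ({z} : Set G)) := by
    rw [Subgroup.orderOf_mk]; exact hy
  have hLχ : ∀ χ : Cfsg.IrrCharacter G,
      ¬ Cfsg.IsInducedBlock M (Subgroup.centralizer ({z} : Set G)) b
        (Cfsg.blockOf M (χ : G → ℂ)) → L (χ : G → ℂ) = 0 := by
    intro χ hnot
    rw [← hLpart _ (IsIrrCharacter.isClassFunction χ.2)]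
    exact second_main_chars hM z hzp _ rfl ⟨χ, rfl⟩ χ (sameBlock_refl hM _) hb hnot ⟨y, hyC⟩ hyord
  rw [hLpart ϑB hϑBcf, hϑB, hLsum]
  by_cases hind : Cfsg.IsInducedBlock M (Subgroup.centralizer ({z} : Set G)) b B
  · -- extend the sum to all characters
    have h1 : ∑ χ ∈ Finset.univ.filter (· ∈ B), Cfsg.classInner ϑ (χ : G → ℂ) * L (χ : G → ℂ)
        = ∑ χ : Cfsg.IrrCharacter G, Cfsg.classInner ϑ (χ : G → ℂ) * L (χ : G → ℂ) := by
      rw [Finset.sum_filter]
      apply Finset.sum_congr rfl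
      intro χ _
      split_ifs with hχB
      · rfl
      · rw [hLχ χ, mul_zero]
        intro hind'
        apply hχB
        rw [IsInducedBlock.unique _ hM hind hind']
        exact sameBlock_refl hM _
    rw [h1, ← hLsum, ← classFunction_eq_sum ϑ hϑ, ← hLpart ϑ hϑ, hbdef]
    apply blockPart_eq_zero_of_vanish_pRegular hM ψ₀ _ _ hyord
    intro c hc
    apply hvan
    refine ⟨(c : G), rfl, hcommC c, hzp, ?_⟩
    rw [Subgroup.orderOf_coe]
    exact hc
  · apply Finset.sum_eq_zero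
    intro χ hχ
    rw [Finset.mem_filter] at hχ
    rw [hLχ χ, mul_zero]
    have : Cfsg.blockOf M (χ : G → ℂ) = B := by
      rw [hBdef] at hχ ⊢
      exact (blockOf_eq_of_mem hM hχ.2).symm
    rw [this]
    exact hind

theorem IsPPart.conj {u x : G} (h : Cfsg.IsPPart p u x) (c : G) :
    Cfsg.IsPPart p (c * u * c⁻¹) (c * x * c⁻¹) := by
  obtain ⟨y, hxy, hcomm, ⟨k, hk⟩, hy⟩ := h
  have e1 : ∀ w : G, c * w * c⁻¹ = MulAut.conj c w := by intro w; simp [MulAut.conj_apply]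
  refine ⟨c * y * c⁻¹, ?_, ?_, ⟨k, ?_⟩, ?_⟩
  · rw [← hxy]; group
  · show c * x * c⁻¹ * (c * y * c⁻¹) = c * y * c⁻¹ * (c * x * c⁻¹)
    calc c * x * c⁻¹ * (c * y * c⁻¹) = c * (x * y) * c⁻¹ := by group
      _ = c * (y * x) * c⁻¹ := by rw [hcomm.eq]
      _ = c * y * c⁻¹ * (c * x * c⁻¹) := by group
  · rw [e1, MulEquiv.orderOf_eq, hk]
  · rw [e1, MulEquiv.orderOf_eq]; exact hy

/-- block orthogonality -/
theorem block_orthogonality (hM : Cfsg.IsPModular p M) (g h x y : G) (hgx : Cfsg.IsPPart p g x)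
    (hhy : Cfsg.IsPPart p h y) (hxy : ¬ IsConj x y) (χ₀ : Cfsg.IrrCharacter G) :
    ∑ᶠ χ ∈ Cfsg.blockOf M (χ₀ : G → ℂ), (χ : G → ℂ) g * (χ : G → ℂ) h⁻¹ = 0 := by
  classical
  have hp : p.Prime := hM.1
  haveI : Fintype (Cfsg.IrrCharacter G) := Fintype.ofFinite _
  obtain ⟨ϑ, hϑdef⟩ : ∃ ϑ : G → ℂ, ϑ = ∑ χ : Cfsg.IrrCharacter G,
      conj ((χ : G → ℂ) h) • (χ : G → ℂ) := ⟨_, rfl⟩
  have hϑ : Cfsg.IsClassFunction G ϑ := by
    rw [hϑdef]
    apply isClassFunction_sum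
    intro χ _
    exact isClassFunction_smul _ (IsIrrCharacter.isClassFunction χ.2)
  have hϑval : ∀ u : G, ¬ IsConj u h → ϑ u = 0 := by
    intro u hu
    rw [hϑdef, Finset.sum_apply]
    rw [← (sum_irr_mul_conj u h).2 hu]
    apply Finset.sum_congr rfl
    intro χ _
    simp only [Pi.smul_apply, smul_eq_mul]
    ring
  have hvan : ∀ u : G, Cfsg.IsPPart p u x → ϑ u = 0 := by
    intro u hu
    apply hϑval
    intro hconj
    apply hxy
    obtain ⟨c, hc⟩ := isConj_iff.mp hconj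
    have h1 := IsPPart.conj hu c
    rw [hc] at h1
    have := IsPPart.unique hp h1 hhy
    rw [← this]
    exact isConj_iff.mpr ⟨c, rfl⟩
  have hmain := blockPart_vanish_pSection hM hϑ x hvan χ₀ g hgx
  rw [blockPart_eq_finset_sum] at hmain
  rw [← hmain, ← finsum_mem_coe_finset]
  have hinner : ∀ χ : Cfsg.IrrCharacter G, Cfsg.classInner ϑ (χ : G → ℂ) = (χ : G → ℂ) h⁻¹ := by
    intro χ
    rw [hϑdef, classInner_sum_left]
    simp only [classInner_smul_left, classInner_irrCharacter]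
    rw [Finset.sum_eq_single χ]
    · rw [if_pos rfl, mul_one, IsCharacter.apply_inv (IsIrrCharacter.isCharacter χ.2)]
    · intro θ _ hθ
      rw [if_neg hθ, mul_zero]
    · intro hh; exact absurd (Finset.mem_univ _) hh
  simp_rw [hinner]
  apply finsum_mem_congr
  · ext χ; simp
  · intro χ _
    ring

end main

end Cfsg.Agent.Lib.Helper6
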