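import Mathlib
import Cfsg.Prelude.Def_Blocks
import Cfsg.Agent.Lib.Helper6.BlkDefConj
import Cfsg.Agent.Lib.Helper6.Mult
import Cfsg.Agent.S0908

set_option autoImplicit false
set_option linter.unusedSectionVars false
open Cfsg

namespace Cfsg.Agent.Lib.Helper6

open scoped ComplexConjugate

section

variable {G : Type*} [Group G] [Fintype G] [DecidableEq G]
variable {p : ℕ} {M : Ideal Cfsg.AlgInt}

/-- the principal character as an irreducible character -/
noncomputable def oneIrr (G : Type*) [Group G] : Cfsg.IrrCharacter G :=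
  ⟨fun _ => (1 : ℂ), isIrrCharacter_one⟩

theorem principalBlock_eq : Cfsg.principalBlock M G = Cfsg.blockOf M ((oneIrr G : Cfsg.IrrCharacter G) : G → ℂ) := rfl

theorem charDegree_one_fun : Cfsg.charDegree (fun _ : G => (1 : ℂ)) = 1 := by
  unfold Cfsg.charDegree
  simp

theorem blockDefect_principal (hM : Cfsg.IsPModular p M) :
    Cfsg.blockDefect p (Cfsg.principalBlock M G) = (Nat.card G).factorization p := by
  unfold Cfsg.blockDefect
  have : sInf ((fun χ : Cfsg.IrrCharacter G => (Cfsg.charDegree (χ : G → ℂ)).factorization p) ''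
      (Cfsg.principalBlock M G)) = 0 := by
    rw [Nat.sInf_eq_zero]
    left
    refine ⟨oneIrr G, ?_, ?_⟩
    · rw [principalBlock_eq]; exact sameBlock_refl hM _
    · show (Cfsg.charDegree (fun _ : G => (1 : ℂ))).factorization p = 0
      rw [charDegree_one_fun]
      simp
  rw [this, Nat.sub_zero]

theorem isDefectGroup_principal_iff (hM : Cfsg.IsPModular p M) [Fact p.Prime] (D : Subgroup G) :
    Cfsg.IsDefectGroup p M (Cfsg.principalBlock M G) D ↔ ∃ S : Sylow p G, (S : Subgroup G) = D := by
  classical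
  have key : ∀ D : Subgroup G, Cfsg.IsDefectGroup p M (Cfsg.principalBlock M G) D →
      ∃ S : Sylow p G, (S : Subgroup G) = D := by
    intro D hD
    have hcard := Cfsg.Agent.S0908.result p M hM _ ⟨oneIrr G, rfl⟩ D hD
    rw [← principalBlock_eq, blockDefect_principal hM] at hcard
    exact ⟨Sylow.ofCard D hcard, rfl⟩
  constructor
  · exact key D
  · rintro ⟨S, rfl⟩
    obtain ⟨g, hg⟩ := exists_isDefectClass hM (oneIrr G)
    have Q : Sylow p (Subgroup.centralizer ({g} : Set G)) := default
    have hD' : Cfsg.IsDefectGroup p M (Cfsg.principalBlock M G)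
        ((Q : Subgroup (Subgroup.centralizer ({g} : Set G))).map
          (Subgroup.centralizer ({g} : Set G)).subtype) := ⟨g, hg, Q, rfl⟩
    obtain ⟨S', hS'⟩ := key _ hD'
    obtain ⟨c, hc⟩ := MulAction.exists_smul_eq G S' S
    have hmap := IsDefectGroup.map_conj hM (oneIrr G) _ hD' c
    rw [← principalBlock_eq] at hmap
    convert hmap using 1
    rw [← hS', ← hc]
    ext y
    rw [Sylow.coe_subgroup_smul]
    constructor
    · rintro ⟨q, hq, rfl⟩
      exact ⟨q, hq, by simp [MulAut.conj_apply]⟩
    · rintro ⟨q, hq, rfl⟩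
      exact ⟨q, hq, by simp [MulAut.conj_apply]⟩

end

end Cfsg.Agent.Lib.Helper6
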