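import Mathlib
import Cfsg.Prelude.Def_Blocks
import Cfsg.Agent.Lib.Helper6.BlkOrthFull
import Cfsg.Agent.Lib.Helper6.BlkSecond3
import Cfsg.Agent.Lib.Helper6.SecondOrth
import Cfsg.Agent.Lib.Helper6.Orthogonality
import Cfsg.Agent.Lib.Helper6.ClassMult
import Cfsg.Agent.Lib.Helper6.BlkNormalP
import Cfsg.Agent.Lib.Helper6.BlkSecond2

set_option autoImplicit false
set_option linter.unusedSectionVars false
open Cfsg

namespace Cfsg.Agent.Lib.Helper6

open scoped ComplexConjugate

section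

variable {G : Type*} [Group G] [Fintype G] [DecidableEq G]
variable {p : ℕ} {M : Ideal Cfsg.AlgInt}

/-- uniqueness of the `p`-part decomposition under conjugation -/
theorem conj_mul_eq_of_pParts (hp : p.Prime) {z c c' t : G} (hz : ∃ k : ℕ, orderOf z = p ^ k)
    (hc : Commute z c) (hc' : Commute z c') (hcr : ¬ p ∣ orderOf c) (hcr' : ¬ p ∣ orderOf c')
    (h : t * (z * c') * t⁻¹ = z * c) : t * z * t⁻¹ = z ∧ t * c' * t⁻¹ = c := by
  have h1 : Cfsg.IsPPart p (z * c) z := ⟨c, rfl, hc, hz, hcr⟩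
  have h2 : Cfsg.IsPPart p (z * c') z := ⟨c', rfl, hc', hz, hcr'⟩
  have h3 := IsPPart.conj h2 t
  rw [h] at h3
  have h4 : t * z * t⁻¹ = z := IsPPart.unique hp h3 h1
  refine ⟨h4, ?_⟩
  have h5 : t * (z * c') * t⁻¹ = (t * z * t⁻¹) * (t * c' * t⁻¹) := by group
  rw [h5, h4] at h
  exact mul_left_cancel h

/-- the number of `G`-conjugators between `z c'` and `z c` for `p`-regular `c, c'` in `C_G(z)` -/
theorem conjCount_shift (hp : p.Prime) (z : G) (hz : ∃ k : ℕ, orderOf z = p ^ k)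
    (H : Subgroup G) [Fintype H] (hH : H = Subgroup.centralizer ({z} : Set G)) (c c' : H)
    (hc : ¬ p ∣ orderOf c) (hc' : ¬ p ∣ orderOf c') :
    conjCount (z * (c' : G)) (z * (c : G))
      = ((Finset.univ.filter (fun s : H => s * c' * s⁻¹ = c)).card : ℂ) := by
  classical
  have hcommH : ∀ g : G, g ∈ H → Commute z g := by
    intro g hg
    rw [hH, mem_centralizer_singleton_iff] at hg
    exact hg
  unfold conjCount
  congr 1
  symm
  apply Finset.card_bij (fun (s : H) _ => (s : G))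
  · intro s hs
    simp only [Finset.mem_filter, Finset.mem_univ, true_and] at hs ⊢
    have h1 : ((s * c' * s⁻¹ : H) : G) = (c : G) := by rw [hs]
    simp only [Subgroup.coe_mul, Subgroup.coe_inv] at h1
    have h2 := (hcommH _ s.2).eq
    calc (s : G) * (z * (c' : G)) * (s : G)⁻¹ = ((s : G) * z) * (c' : G) * (s : G)⁻¹ := by group
      _ = (z * (s : G)) * (c' : G) * (s : G)⁻¹ := by rw [h2]
      _ = z * ((s : G) * (c' : G) * (s : G)⁻¹) := by group
      _ = z * (c : G) := by rw [h1]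
  · intro s _ s' _ h
    exact Subtype.ext h
  · intro t ht
    simp only [Finset.mem_filter, Finset.mem_univ, true_and] at ht
    have hoc : orderOf (c : G) = orderOf c := Subgroup.orderOf_coe c
    have hoc' : orderOf (c' : G) = orderOf c' := Subgroup.orderOf_coe c'
    obtain ⟨h1, h2⟩ := conj_mul_eq_of_pParts hp hz (hcommH _ c.2) (hcommH _ c'.2)
      (by rw [hoc]; exact hc) (by rw [hoc']; exact hc') ht
    have htH : t ∈ H := by
      rw [hH, mem_centralizer_singleton_iff]
      calc z * t = (t * z * t⁻¹) * t := by rw [h1]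
        _ = t * z := by group
    refine ⟨⟨t, htH⟩, ?_, rfl⟩
    simp only [Finset.mem_filter, Finset.mem_univ, true_and]
    apply Subtype.ext
    simp only [Subgroup.coe_mul, Subgroup.coe_inv]
    exact h2

theorem sum_irr_shift_sq (hp : p.Prime) [Fintype (Cfsg.IrrCharacter G)] (z : G)
    (hz : ∃ k : ℕ, orderOf z = p ^ k) (H : Subgroup G) [Fintype H]
    (hH : H = Subgroup.centralizer ({z} : Set G)) (a : H → ℂ) (ha : Cfsg.IsClassFunction H a)
    (hreg : ∀ c : H, p ∣ orderOf c → a c = 0) :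
    ∑ ζ : Cfsg.IrrCharacter G, (∑ c : H, (ζ : G → ℂ) (z * (c : G)) * a c)
        * conj (∑ c : H, (ζ : G → ℂ) (z * (c : G)) * a c)
      = (Nat.card H : ℂ) * ∑ c : H, a c * conj (a c) := by
  classical
  have h1 : ∀ ζ : Cfsg.IrrCharacter G, (∑ c : H, (ζ : G → ℂ) (z * (c : G)) * a c)
        * conj (∑ c : H, (ζ : G → ℂ) (z * (c : G)) * a c)
      = ∑ c : H, ∑ c' : H, a c * conj (a c')
          * ((ζ : G → ℂ) (z * (c : G)) * conj ((ζ : G → ℂ) (z * (c' : G)))) := by
    intro ζ
    rw [map_sum, Finset.sum_mul_sum]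
    apply Finset.sum_congr rfl; intro c _
    apply Finset.sum_congr rfl; intro c' _
    rw [map_mul]; ring
  simp_rw [h1]
  rw [Finset.sum_comm, Finset.mul_sum]
  apply Finset.sum_congr rfl
  intro c _
  rw [Finset.sum_comm]
  simp_rw [← Finset.mul_sum, ← conjCount_eq_sum]
  by_cases hac : a c = 0
  · simp [hac]
  have hcreg : ¬ p ∣ orderOf c := fun h => hac (hreg c h)
  have h2 : ∀ c' : H, a c * conj (a c') * conjCount (z * (c' : G)) (z * (c : G))
      = a c * conj (a c) * ((Finset.univ.filter (fun s : H => s * c' * s⁻¹ = c)).card : ℂ) := by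
    intro c'
    by_cases hc' : p ∣ orderOf c'
    · rw [hreg c' hc', map_zero, mul_zero, zero_mul]
      have : (Finset.univ.filter (fun s : H => s * c' * s⁻¹ = c)) = ∅ := by
        rw [Finset.filter_eq_empty_iff]
        intro s _ hs
        apply hcreg
        rw [← hs]
        have : s * c' * s⁻¹ = MulAut.conj s c' := by simp [MulAut.conj_apply]
        rw [this, MulEquiv.orderOf_eq]
        exact hc'
      rw [this, Finset.card_empty, Nat.cast_zero, mul_zero]
    · rw [conjCount_shift hp z hz H hH c c' hcreg hc']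
      by_cases hemp : (Finset.univ.filter (fun s : H => s * c' * s⁻¹ = c)) = ∅
      · rw [hemp, Finset.card_empty, Nat.cast_zero, mul_zero, mul_zero]
      · obtain ⟨s, hs⟩ := Finset.nonempty_iff_ne_empty.mpr hemp
        simp only [Finset.mem_filter, Finset.mem_univ, true_and] at hs
        have : a c' = a c := by rw [← hs, ha c' s]
        rw [this]
  simp_rw [h2]
  rw [← Finset.mul_sum]
  have h3 : ∑ c' : H, ((Finset.univ.filter (fun s : H => s * c' * s⁻¹ = c)).card : ℂ)
      = (Nat.card H : ℂ) := by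
    rw [← Nat.cast_sum]
    congr 1
    simp_rw [Finset.card_filter]
    rw [Finset.sum_comm]
    have : ∀ s : H, ∑ c' : H, (if s * c' * s⁻¹ = c then 1 else 0) = 1 := by
      intro s
      rw [Finset.sum_eq_single (s⁻¹ * c * s)]
      · rw [if_pos]; group
      · intro c' _ hne
        rw [if_neg]
        intro h
        apply hne
        rw [← h]; group
      · intro h; exact absurd (Finset.mem_univ _) h
    simp_rw [this]
    rw [Finset.sum_const, Finset.card_univ, Nat.card_eq_fintype_card]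
    simp
  rw [h3]
  ring

theorem sum_blockPart_shift_sq (hM : Cfsg.IsPModular p M) [Fintype (Cfsg.IrrCharacter G)] (z : G)
    (hz : ∃ k : ℕ, orderOf z = p ^ k) (H : Subgroup G) [Fintype H]
    (hH : H = Subgroup.centralizer ({z} : Set G)) [Fintype (Cfsg.IrrCharacter H)]
    (ψ₀ : Cfsg.IrrCharacter H) [DecidablePred (· ∈ Cfsg.blockOf M (ψ₀ : H → ℂ))]
    (y : H) (hy : ¬ p ∣ orderOf y) :
    ∑ ζ : Cfsg.IrrCharacter G,
        Cfsg.blockPart (Cfsg.blockOf M (ψ₀ : H → ℂ)) (fun c : H => (ζ : G → ℂ) (z * (c : G))) y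
        * conj (Cfsg.blockPart (Cfsg.blockOf M (ψ₀ : H → ℂ))
            (fun c : H => (ζ : G → ℂ) (z * (c : G))) y)
      = ∑ χ ∈ Finset.univ.filter (· ∈ Cfsg.blockOf M (ψ₀ : H → ℂ)),
          (χ : H → ℂ) y * conj ((χ : H → ℂ) y) := by
  classical
  have hp : p.Prime := hM.1
  have hcard : (Nat.card H : ℂ) ≠ 0 := card_ne_zero_complex H
  obtain ⟨a, hadef⟩ : ∃ a : H → ℂ, a = fun c : H => (Nat.card H : ℂ)⁻¹ *
      ∑ χ ∈ Finset.univ.filter (· ∈ Cfsg.blockOf M (ψ₀ : H → ℂ)),
        (χ : H → ℂ) y * conj ((χ : H → ℂ) c) := ⟨_, rfl⟩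
  have ha : Cfsg.IsClassFunction H a := by
    intro g h
    rw [hadef]
    simp only
    congr 1
    apply Finset.sum_congr rfl
    intro χ _
    rw [IsIrrCharacter.isClassFunction χ.2 g h]
  have hreg : ∀ c : H, p ∣ orderOf c → a c = 0 := by
    intro c hc
    rw [hadef]
    simp only
    rw [weak_block_orthogonality_finset hM ψ₀ y c hy hc, mul_zero]
  have hpart : ∀ ϑ : H → ℂ, Cfsg.blockPart (Cfsg.blockOf M (ψ₀ : H → ℂ)) ϑ y
      = ∑ c : H, ϑ c * a c := by
    intro ϑ
    rw [blockPart_eq_finset_sum, hadef]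
    unfold Cfsg.classInner
    simp_rw [Finset.mul_sum, Finset.sum_mul]
    rw [Finset.sum_comm]
    apply Finset.sum_congr rfl
    intro c _
    apply Finset.sum_congr rfl
    intro χ _
    ring
  simp_rw [hpart]
  rw [sum_irr_shift_sq hp z hz H hH a ha hreg]
  -- compute the norm of `a`
  have h1 : ∀ c : H, a c * conj (a c) = (Nat.card H : ℂ)⁻¹ * (Nat.card H : ℂ)⁻¹ *
      ∑ χ ∈ Finset.univ.filter (· ∈ Cfsg.blockOf M (ψ₀ : H → ℂ)),
        ∑ χ' ∈ Finset.univ.filter (· ∈ Cfsg.blockOf M (ψ₀ : H → ℂ)),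
          ((χ : H → ℂ) y * conj ((χ' : H → ℂ) y))
            * ((χ' : H → ℂ) c * conj ((χ : H → ℂ) c)) := by
    intro c
    rw [hadef]
    simp only
    rw [map_mul, map_inv₀, Complex.conj_natCast, map_sum]
    rw [mul_mul_mul_comm, Finset.sum_mul_sum]
    congr 1
    apply Finset.sum_congr rfl; intro χ _
    apply Finset.sum_congr rfl; intro χ' _
    rw [map_mul, Complex.conj_conj]
    ring
  simp_rw [h1]
  rw [← Finset.mul_sum, ← mul_assoc, ← mul_assoc, mul_inv_cancel₀ hcard, one_mul]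
  rw [Finset.sum_comm, Finset.mul_sum]
  apply Finset.sum_congr rfl
  intro χ hχ
  rw [Finset.sum_comm, Finset.mul_sum]
  have h2 : ∀ χ' : Cfsg.IrrCharacter H, (Nat.card H : ℂ)⁻¹ *
      ∑ c : H, ((χ : H → ℂ) y * conj ((χ' : H → ℂ) y))
            * ((χ' : H → ℂ) c * conj ((χ : H → ℂ) c))
      = ((χ : H → ℂ) y * conj ((χ' : H → ℂ) y)) * (if χ' = χ then 1 else 0) := by
    intro χ'
    rw [← classInner_irrCharacter χ' χ]
    unfold Cfsg.classInner
    rw [← Finset.mul_sum]
    ring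
  simp_rw [h2]
  rw [Finset.sum_eq_single_of_mem χ hχ]
  · rw [if_pos rfl, mul_one]
  · intro χ' _ hne
    rw [if_neg hne, mul_zero]

end

section decomp

variable {G : Type*} [Group G] [Fintype G] [DecidableEq G]
variable {p : ℕ} {M : Ideal Cfsg.AlgInt}

/-- a class function is the sum of its block parts -/
theorem apply_eq_sum_blockPart (hM : Cfsg.IsPModular p M) [Fintype (Cfsg.IrrCharacter G)]
    {ϑ : G → ℂ} (hϑ : Cfsg.IsClassFunction G ϑ) (y : G) :
    ϑ y = ∑ b ∈ Finset.univ.image (fun ψ : Cfsg.IrrCharacter G => Cfsg.blockOf M (ψ : G → ℂ)),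
      Cfsg.blockPart b ϑ y := by
  classical
  rw [← blockPart_univ hϑ y, blockPart_eq_finset_sum]
  have h1 : (Finset.univ.filter (· ∈ (Set.univ : Set (Cfsg.IrrCharacter G)))) = Finset.univ := by
    ext χ; simp
  rw [h1]
  rw [← Finset.sum_fiberwise_of_maps_to (s := Finset.univ)
    (t := Finset.univ.image (fun ψ : Cfsg.IrrCharacter G => Cfsg.blockOf M (ψ : G → ℂ)))
    (g := fun ψ : Cfsg.IrrCharacter G => Cfsg.blockOf M (ψ : G → ℂ))
    (fun ψ _ => Finset.mem_image_of_mem _ (Finset.mem_univ ψ))]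
  apply Finset.sum_congr rfl
  intro b hb
  obtain ⟨ψ₀, _, rfl⟩ := Finset.mem_image.mp hb
  rw [blockPart_eq_finset_sum]
  apply Finset.sum_congr
  · ext χ
    simp only [Finset.mem_filter, Finset.mem_univ, true_and]
    constructor
    · intro hχ
      rw [← hχ]
      exact sameBlock_refl hM _
    · intro hχ
      exact (blockOf_eq_of_mem hM hχ).symm
  · intro χ _; rfl

theorem apply_eq_blockPart_of_others_zero (hM : Cfsg.IsPModular p M) {ϑ : G → ℂ}
    (hϑ : Cfsg.IsClassFunction G ϑ) (y : G) (ψ₁ : Cfsg.IrrCharacter G)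
    (h : ∀ ψ₀ : Cfsg.IrrCharacter G, Cfsg.blockOf M (ψ₀ : G → ℂ) ≠ Cfsg.blockOf M (ψ₁ : G → ℂ) →
      Cfsg.blockPart (Cfsg.blockOf M (ψ₀ : G → ℂ)) ϑ y = 0) :
    ϑ y = Cfsg.blockPart (Cfsg.blockOf M (ψ₁ : G → ℂ)) ϑ y := by
  classical
  have : Fintype (Cfsg.IrrCharacter G) := Fintype.ofFinite _
  rw [apply_eq_sum_blockPart hM hϑ y]
  apply Finset.sum_eq_single_of_mem _ (Finset.mem_image_of_mem _ (Finset.mem_univ ψ₁))
  intro b hb hne
  obtain ⟨ψ₀, _, rfl⟩ := Finset.mem_image.mp hb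
  exact h ψ₀ hne

end decomp

section shift

variable {G : Type*} [Group G] [Fintype G] [DecidableEq G]
variable {p : ℕ} {M : Ideal Cfsg.AlgInt}

theorem shift_isClassFunction (z : G) (H : Subgroup G)
    (hH : H = Subgroup.centralizer ({z} : Set G)) {χ : G → ℂ} (hχcf : Cfsg.IsClassFunction G χ) :
    Cfsg.IsClassFunction H (fun c : H => χ (z * (c : G))) := by
  have hcommH : ∀ g : G, g ∈ H → Commute z g := by
    intro g hg
    rw [hH, mem_centralizer_singleton_iff] at hg
    exact hg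
  intro g h
  simp only [Subgroup.coe_mul, Subgroup.coe_inv]
  have e : z * ((h : G) * (g : G) * (h : G)⁻¹) = (h : G) * (z * (g : G)) * (h : G)⁻¹ := by
    have := (hcommH _ h.2).eq
    calc z * ((h : G) * (g : G) * (h : G)⁻¹) = (z * (h : G)) * (g : G) * (h : G)⁻¹ := by group
      _ = ((h : G) * z) * (g : G) * (h : G)⁻¹ := by rw [this]
      _ = (h : G) * (z * (g : G)) * (h : G)⁻¹ := by group
  rw [e]
  exact hχcf _ _

/-- if exactly one block of `C_G(z)` induces `B`, the corresponding block part of the shifted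
restriction of `ζ` recovers `ζ (z y)` for `ζ ∈ B` and vanishes otherwise -/
theorem blockPart_shift_of_unique_induced (hM : Cfsg.IsPModular p M) (z : G)
    (hz : ∃ k : ℕ, orderOf z = p ^ k) (H : Subgroup G) [Fintype H]
    (hH : H = Subgroup.centralizer ({z} : Set G)) (ψ₁ : Cfsg.IrrCharacter H)
    (B : Set (Cfsg.IrrCharacter G)) [DecidablePred (· ∈ B)]
    (hind : Cfsg.IsInducedBlock M H (Cfsg.blockOf M (ψ₁ : H → ℂ)) B)
    (huniq : ∀ ψ₀ : Cfsg.IrrCharacter H,
      Cfsg.IsInducedBlock M H (Cfsg.blockOf M (ψ₀ : H → ℂ)) B →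
        Cfsg.blockOf M (ψ₀ : H → ℂ) = Cfsg.blockOf M (ψ₁ : H → ℂ))
    (ζ : Cfsg.IrrCharacter G) (y : H) (hy : ¬ p ∣ orderOf y) :
    Cfsg.blockPart (Cfsg.blockOf M (ψ₁ : H → ℂ)) (fun c : H => (ζ : G → ℂ) (z * (c : G))) y
      = if ζ ∈ B then (ζ : G → ℂ) (z * (y : G)) else 0 := by
  classical
  have hB : Cfsg.IsPBlock M B := hind.2.1
  split_ifs with hζ
  · symm
    apply apply_eq_blockPart_of_others_zero hM
      (shift_isClassFunction z H hH (IsIrrCharacter.isClassFunction ζ.2)) y ψ₁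
    intro ψ₀ hne
    apply second_main_chars hM z hz H hH hB ζ hζ ⟨ψ₀, rfl⟩ _ y hy
    intro hcon
    exact hne (huniq ψ₀ hcon)
  · apply second_main_chars hM z hz H hH (B := Cfsg.blockOf M (ζ : G → ℂ)) ⟨ζ, rfl⟩ ζ
      (sameBlock_refl hM _) ⟨ψ₁, rfl⟩ _ y hy
    intro hcon
    apply hζ
    rw [IsInducedBlock.unique H hM hind hcon]
    exact sameBlock_refl hM _

end shift

section kernel

variable {G : Type*} [Group G] [Fintype G] [DecidableEq G]

/-- the sum of squares of the degrees of the irreducible characters with `N` in the kernel is the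
index of `N` -/
theorem sum_sq_degree_of_kernel_ge [Fintype (Cfsg.IrrCharacter G)] (N : Subgroup G) [N.Normal]
    [Fintype N] [DecidablePred (fun χ : Cfsg.IrrCharacter G =>
        ∀ n ∈ N, (χ : G → ℂ) n = (χ : G → ℂ) 1)] :
    ∑ χ ∈ Finset.univ.filter (fun χ : Cfsg.IrrCharacter G =>
        ∀ n ∈ N, (χ : G → ℂ) n = (χ : G → ℂ) 1), (χ : G → ℂ) 1 * (χ : G → ℂ) 1
      = (N.index : ℂ) := by
  classical
  have hN0 : (Nat.card N : ℂ) ≠ 0 := card_ne_zero_complex N
  have h1 : ∑ n : N, ∑ χ : Cfsg.IrrCharacter G, (χ : G → ℂ) (n : G) * (χ : G → ℂ) 1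
      = (Nat.card G : ℂ) := by
    simp_rw [sum_irr_apply_mul_apply_one]
    rw [Finset.sum_eq_single (1 : N)]
    · rw [if_pos]; rfl
    · intro n _ hn
      rw [if_neg]
      intro h
      apply hn
      exact Subtype.ext h
    · intro h; exact absurd (Finset.mem_univ _) h
  rw [Finset.sum_comm] at h1
  have h2 : ∀ χ : Cfsg.IrrCharacter G, ∑ n : N, (χ : G → ℂ) (n : G) * (χ : G → ℂ) 1
      = if (∀ n ∈ N, (χ : G → ℂ) n = (χ : G → ℂ) 1) then
          (Nat.card N : ℂ) * ((χ : G → ℂ) 1 * (χ : G → ℂ) 1) else 0 := by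
    intro χ
    split_ifs with h
    · have : ∀ n : N, (χ : G → ℂ) (n : G) * (χ : G → ℂ) 1 = (χ : G → ℂ) 1 * (χ : G → ℂ) 1 := by
        intro n; rw [h n n.2]
      simp_rw [this]
      rw [Finset.sum_const, Finset.card_univ, ← Nat.card_eq_fintype_card, nsmul_eq_mul]
    · rw [← Finset.sum_mul]
      have : ∑ n : N, (χ : G → ℂ) (n : G) = 0 := by
        by_contra hne
        apply h
        intro n hn
        exact IsIrrCharacter.const_on_normal_of_sum_ne_zero N χ.2 hne ⟨n, hn⟩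
      rw [this, zero_mul]
  simp_rw [h2] at h1
  rw [← Finset.sum_filter, ← Finset.mul_sum] at h1
  have h3 : (Nat.card G : ℂ) = (N.index : ℂ) * (Nat.card N : ℂ) := by
    rw [← Nat.cast_mul, N.index_mul_card]
  rw [h3, mul_comm] at h1
  exact mul_right_cancel₀ hN0 h1

omit [Fintype G] [DecidableEq G] in
/-- a `p`-regular element lies in every normal subgroup of `p`-power index -/
theorem mem_of_index_eq_pow_of_pRegular {p : ℕ} (hp : p.Prime) (N : Subgroup G) [N.Normal]
    {k : ℕ} (hidx : N.index = p ^ k) (y : G) (hy : ¬ p ∣ orderOf y) : y ∈ N := by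
  have h1 : y ^ (p ^ k) ∈ N := by
    rw [← hidx]
    exact Subgroup.pow_index_mem N y
  have hcop : Nat.Coprime (p ^ k) (orderOf y) := by
    apply Nat.Coprime.pow_left
    exact (Nat.Prime.coprime_iff_not_dvd hp).mpr hy
  by_cases ho : orderOf y = 1
  · rw [orderOf_eq_one_iff] at ho
    rw [ho]; exact N.one_mem
  have ho1 : 1 < orderOf y := by
    have : orderOf y ≠ 0 := by
      intro h0
      apply hy
      rw [h0]; exact dvd_zero p
    omega
  obtain ⟨m, _, hm⟩ := Nat.exists_mul_mod_eq_one_of_coprime hcop ho1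
  have h2 : (y ^ (p ^ k)) ^ m = y := by
    rw [← pow_mul, ← pow_mod_orderOf, hm, pow_one]
  rw [← h2]
  exact N.pow_mem h1 m

end kernel

end Cfsg.Agent.Lib.Helper6
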