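import Mathlib
import Cfsg.Prelude.Def_Blocks
import Cfsg.Prelude.Def_BlockRank
import Cfsg.Agent.Lib.Helper6.BlkOrth2
import Cfsg.Agent.Lib.Helper6.Orthogonality
import Cfsg.Agent.Lib.Helper6.IrrBasis
import Cfsg.Agent.Lib.Helper6.Auto
import Cfsg.Agent.Lib.Helper6.BlkCover3

set_option autoImplicit false
set_option linter.unusedSectionVars false
open Cfsg

namespace Cfsg.Agent.Lib.Helper6

open scoped ComplexConjugate

section rank

variable {G : Type*} [Group G] [Fintype G] [DecidableEq G]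
variable {p : ℕ} {M : Ideal Cfsg.AlgInt}

/-- projection of a function onto the span of the `p`-regular parts of the members of `B` -/
noncomputable def pRegProj (p : ℕ) [Fintype (Cfsg.IrrCharacter G)] (B : Set (Cfsg.IrrCharacter G))
    [DecidablePred (· ∈ B)] : (G → ℂ) →ₗ[ℂ] (G → ℂ) where
  toFun f := ∑ χ ∈ Finset.univ.filter (· ∈ B),
    Cfsg.classInner f (χ : G → ℂ) • Cfsg.pRegularPart p (χ : G → ℂ)
  map_add' f g := by
    simp only [classInner_add_left, add_smul, Finset.sum_add_distrib]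
  map_smul' c f := by
    simp only [classInner_smul_left, RingHom.id_apply, Finset.smul_sum, smul_smul]

theorem pRegProj_apply [Fintype (Cfsg.IrrCharacter G)] (B : Set (Cfsg.IrrCharacter G))
    [DecidablePred (· ∈ B)] (f : G → ℂ) :
    pRegProj p B f = ∑ χ ∈ Finset.univ.filter (· ∈ B),
      Cfsg.classInner f (χ : G → ℂ) • Cfsg.pRegularPart p (χ : G → ℂ) := rfl

/-- the projection fixes the `p`-regular parts of the members of the block -/
theorem pRegProj_pRegularPart (hM : Cfsg.IsPModular p M) [Fintype (Cfsg.IrrCharacter G)]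
    (χ₀ : Cfsg.IrrCharacter G) [DecidablePred (· ∈ Cfsg.blockOf M (χ₀ : G → ℂ))]
    (χ' : Cfsg.IrrCharacter G) (hχ' : χ' ∈ Cfsg.blockOf M (χ₀ : G → ℂ)) :
    pRegProj p (Cfsg.blockOf M (χ₀ : G → ℂ)) (Cfsg.pRegularPart p (χ' : G → ℂ))
      = Cfsg.pRegularPart p (χ' : G → ℂ) := by
  classical
  funext g
  rw [pRegProj_apply, Finset.sum_apply]
  simp only [Pi.smul_apply, smul_eq_mul]
  by_cases hg : p ∣ orderOf g
  · have h0 : ∀ χ : Cfsg.IrrCharacter G, Cfsg.pRegularPart p (χ : G → ℂ) g = 0 := by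
      intro χ
      unfold Cfsg.pRegularPart Cfsg.IsPRegular
      rw [if_neg (not_not.mpr hg)]
    simp only [h0, mul_zero, Finset.sum_const_zero]
  · have h1 : ∀ χ : Cfsg.IrrCharacter G, Cfsg.pRegularPart p (χ : G → ℂ) g = (χ : G → ℂ) g := by
      intro χ
      unfold Cfsg.pRegularPart Cfsg.IsPRegular
      rw [if_pos hg]
    simp only [h1]
    -- replace the p-regular part of χ' by χ' using weak block orthogonality
    have h2 : ∑ χ ∈ Finset.univ.filter (· ∈ Cfsg.blockOf M (χ₀ : G → ℂ)),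
          Cfsg.classInner (Cfsg.pRegularPart p (χ' : G → ℂ)) (χ : G → ℂ) * (χ : G → ℂ) g
        = ∑ χ ∈ Finset.univ.filter (· ∈ Cfsg.blockOf M (χ₀ : G → ℂ)),
          Cfsg.classInner (χ' : G → ℂ) (χ : G → ℂ) * (χ : G → ℂ) g := by
      unfold Cfsg.classInner
      simp_rw [mul_assoc, ← Finset.mul_sum, Finset.sum_mul]
      congr 1
      rw [Finset.sum_comm]
      conv_rhs => rw [Finset.sum_comm]
      apply Finset.sum_congr rfl
      intro y _
      by_cases hy : p ∣ orderOf y
      · have h3 : Cfsg.pRegularPart p (χ' : G → ℂ) y = 0 := by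
          unfold Cfsg.pRegularPart Cfsg.IsPRegular
          rw [if_neg (not_not.mpr hy)]
        simp only [h3, zero_mul, Finset.sum_const_zero]
        symm
        have h4 := weak_block_orthogonality_finset hM χ₀ g y hg hy
        have h5 : ∑ χ ∈ Finset.univ.filter (· ∈ Cfsg.blockOf M (χ₀ : G → ℂ)),
            (χ' : G → ℂ) y * conj ((χ : G → ℂ) y) * (χ : G → ℂ) g
            = (χ' : G → ℂ) y * ∑ χ ∈ Finset.univ.filter (· ∈ Cfsg.blockOf M (χ₀ : G → ℂ)),
              (χ : G → ℂ) g * conj ((χ : G → ℂ) y) := by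
          rw [Finset.mul_sum]
          apply Finset.sum_congr rfl
          intro χ _
          ring
        rw [h5, h4, mul_zero]
      · have h3 : Cfsg.pRegularPart p (χ' : G → ℂ) y = (χ' : G → ℂ) y := by
          unfold Cfsg.pRegularPart Cfsg.IsPRegular
          rw [if_pos hy]
        simp only [h3]
    rw [h2]
    simp_rw [classInner_irrCharacter]
    rw [Finset.sum_eq_single_of_mem χ' (by simp [hχ'])]
    · rw [if_pos rfl, one_mul]
    · intro χ _ hne
      rw [if_neg (Ne.symm hne), zero_mul]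

/-- the projection onto the span -/
theorem pRegProj_isProj (hM : Cfsg.IsPModular p M) [Fintype (Cfsg.IrrCharacter G)]
    (χ₀ : Cfsg.IrrCharacter G) [DecidablePred (· ∈ Cfsg.blockOf M (χ₀ : G → ℂ))] :
    LinearMap.IsProj (Submodule.span ℂ ((fun χ : Cfsg.IrrCharacter G =>
      Cfsg.pRegularPart p (χ : G → ℂ)) '' (Cfsg.blockOf M (χ₀ : G → ℂ))))
      (pRegProj p (Cfsg.blockOf M (χ₀ : G → ℂ))) := by
  constructor
  · intro f
    rw [pRegProj_apply]
    apply Submodule.sum_mem
    intro χ hχ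
    simp only [Finset.mem_filter, Finset.mem_univ, true_and] at hχ
    apply Submodule.smul_mem
    apply Submodule.subset_span
    exact ⟨χ, hχ, rfl⟩
  · intro v hv
    induction hv using Submodule.span_induction with
    | mem x hx =>
      obtain ⟨χ', hχ', rfl⟩ := hx
      exact pRegProj_pRegularPart hM χ₀ χ' hχ'
    | zero => exact map_zero _
    | add x y _ _ hx hy => rw [map_add, hx, hy]
    | smul c x _ hx => rw [map_smul, hx]

/-- the trace of the projection -/
theorem trace_pRegProj [Fintype (Cfsg.IrrCharacter G)] (B : Set (Cfsg.IrrCharacter G))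
    [DecidablePred (· ∈ B)] :
    (Nat.card G : ℂ) * LinearMap.trace ℂ (G → ℂ) (pRegProj p B)
      = ∑ x : G, ∑ χ ∈ Finset.univ.filter (· ∈ B),
          Cfsg.pRegularPart p (χ : G → ℂ) x * (χ : G → ℂ) x⁻¹ := by
  have hcard := card_ne_zero_complex G
  rw [LinearMap.trace_eq_matrix_trace ℂ (Pi.basisFun ℂ G), Matrix.trace, Finset.mul_sum]
  apply Finset.sum_congr rfl
  intro g _
  rw [Matrix.diag_apply, LinearMap.toMatrix_apply, Pi.basisFun_repr, Pi.basisFun_apply,
    pRegProj_apply, Finset.sum_apply, Finset.mul_sum]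
  apply Finset.sum_congr rfl
  intro χ _
  simp only [Pi.smul_apply, smul_eq_mul]
  have h1 : Cfsg.classInner (Pi.single g (1 : ℂ)) (χ : G → ℂ)
      = (Nat.card G : ℂ)⁻¹ * (χ : G → ℂ) g⁻¹ := by
    unfold Cfsg.classInner
    rw [Finset.sum_eq_single g]
    · rw [Pi.single_eq_same, one_mul, IsCharacter.apply_inv (IsIrrCharacter.isCharacter χ.2)]
    · intro y _ hy
      rw [Pi.single_eq_of_ne hy, zero_mul]
    · intro h; exact absurd (Finset.mem_univ _) h
  rw [h1]
  field_simp

end rank

end Cfsg.Agent.Lib.Helper6
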