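import Mathlib
import Cfsg.Prelude.Def_Blocks
import Cfsg.Prelude.Def_BlockRank
import Cfsg.Agent.Lib.Helper6.BlkPrincipalSum
import Cfsg.Agent.Lib.Helper6.BlkRank

set_option autoImplicit false
set_option linter.unusedSectionVars false
open Cfsg

namespace Cfsg.Agent.Lib.Helper6

open scoped ComplexConjugate

section sections

variable {G : Type*} [Group G] [Fintype G] [DecidableEq G]
variable {p : ℕ} {M : Ideal Cfsg.AlgInt}

/-- existence of the `p`-part -/
theorem exists_isPPart (hp : p.Prime) (g : G) : ∃ u : G, Cfsg.IsPPart p g u := by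
  obtain ⟨v, hv, u, hu, hg, hvr, hup⟩ := exists_pParts p hp g
  obtain ⟨i, hi⟩ := Subgroup.mem_zpowers_iff.mp hv
  obtain ⟨j, hj⟩ := Subgroup.mem_zpowers_iff.mp hu
  have hc : Commute u v := by
    rw [← hi, ← hj]
    exact (Commute.refl g).zpow_zpow j i
  exact ⟨u, v, by rw [hg, hc.eq], hc, hup, hvr⟩

/-- the number of conjugators of `x` whose conjugate is the `p`-part of `g` -/
theorem card_conjugators_pPart (hp : p.Prime) (x g u : G) (hgu : Cfsg.IsPPart p g u)
    [DecidablePred (fun t : G => Cfsg.IsPPart p g (t * x * t⁻¹))] :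
    ((Finset.univ.filter (fun t : G => Cfsg.IsPPart p g (t * x * t⁻¹))).card : ℂ)
      = if IsConj u x then (Nat.card (Subgroup.centralizer ({x} : Set G)) : ℂ) else 0 := by
  classical
  have h1 : (Finset.univ.filter (fun t : G => Cfsg.IsPPart p g (t * x * t⁻¹)))
      = Finset.univ.filter (fun t : G => t * x * t⁻¹ = u) := by
    ext t
    simp only [Finset.mem_filter, Finset.mem_univ, true_and]
    constructor
    · intro h
      exact IsPPart.unique hp h hgu
    · intro h
      rw [h]; exact hgu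
  rw [h1]
  have h2 : ((Finset.univ.filter (fun t : G => t * x * t⁻¹ = u)).card : ℂ) = conjCount u x := by
    unfold conjCount
    congr 1
    apply Finset.card_bij (fun t _ => t⁻¹)
    · intro t ht
      simp only [Finset.mem_filter, Finset.mem_univ, true_and] at ht ⊢
      rw [← ht]; group
    · intro a _ b _ hab
      exact inv_injective hab
    · intro t ht
      simp only [Finset.mem_filter, Finset.mem_univ, true_and] at ht
      refine ⟨t⁻¹, ?_, inv_inv t⟩
      simp only [Finset.mem_filter, Finset.mem_univ, true_and]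
      rw [← ht]; group
  rw [h2]
  split_ifs with hc
  · exact conjCount_of_isConj hc
  · exact conjCount_of_not_isConj hc

/-- summing a class function over the `p`-section of `x` -/
theorem sum_section (hp : p.Prime) (x : G) (hx : ∃ k : ℕ, orderOf x = p ^ k)
    (H : Subgroup G) [Fintype H] (hH : H = Subgroup.centralizer ({x} : Set G))
    (F : G → ℂ) (hF : Cfsg.IsClassFunction G F)
    [∀ g : G, DecidablePred (fun t : G => Cfsg.IsPPart p g (t * x * t⁻¹))] :
    (Nat.card G : ℂ) * ∑ y ∈ Finset.univ.filter (fun y : H => ¬ p ∣ orderOf y), F (x * (y : G))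
      = ∑ g : G, F g *
          ((Finset.univ.filter (fun t : G => Cfsg.IsPPart p g (t * x * t⁻¹))).card : ℂ) := by
  classical
  have hcommH : ∀ g : G, g ∈ H ↔ Commute x g := by
    intro g
    rw [hH, mem_centralizer_singleton_iff]
    exact Iff.rfl
  have h1 : ∀ g : G, F g *
      ((Finset.univ.filter (fun t : G => Cfsg.IsPPart p g (t * x * t⁻¹))).card : ℂ)
      = ∑ t : G, if Cfsg.IsPPart p g (t * x * t⁻¹) then F g else 0 := by
    intro g
    rw [Finset.card_filter, Nat.cast_sum, Finset.mul_sum]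
    apply Finset.sum_congr rfl
    intro t _
    split_ifs <;> simp
  simp_rw [h1]
  rw [Finset.sum_comm]
  have h2 : ∀ t : G, ∑ g : G, (if Cfsg.IsPPart p g (t * x * t⁻¹) then F g else 0)
      = ∑ y ∈ Finset.univ.filter (fun y : H => ¬ p ∣ orderOf y), F (x * (y : G)) := by
    intro t
    rw [← Finset.sum_filter]
    symm
    apply Finset.sum_bij (fun (y : H) _ => t * (x * (y : G)) * t⁻¹)
    · intro y hy
      simp only [Finset.mem_filter, Finset.mem_univ, true_and] at hy ⊢
      apply IsPPart.conj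
      refine ⟨(y : G), rfl, (hcommH _).mp y.2, hx, ?_⟩
      rw [Subgroup.orderOf_coe]; exact hy
    · intro a _ b _ hab
      apply Subtype.ext
      have := mul_left_cancel (mul_right_cancel hab)
      exact mul_left_cancel this
    · intro g hg
      simp only [Finset.mem_filter, Finset.mem_univ, true_and] at hg
      obtain ⟨y', hy'g, hcomm, _, hy'r⟩ := hg
      have hyH : t⁻¹ * y' * t ∈ H := by
        rw [hcommH]
        show x * (t⁻¹ * y' * t) = t⁻¹ * y' * t * x
        have e := hcomm.eq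
        calc x * (t⁻¹ * y' * t) = t⁻¹ * ((t * x * t⁻¹) * y') * t := by group
          _ = t⁻¹ * (y' * (t * x * t⁻¹)) * t := by rw [e]
          _ = t⁻¹ * y' * t * x := by group
      refine ⟨⟨t⁻¹ * y' * t, hyH⟩, ?_, ?_⟩
      · simp only [Finset.mem_filter, Finset.mem_univ, true_and]
        rw [← Subgroup.orderOf_coe]
        simp only
        have : t⁻¹ * y' * t = MulAut.conj t⁻¹ y' := by simp
        rw [this, MulEquiv.orderOf_eq]
        exact hy'r
      · simp only
        rw [← hy'g]; group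
    · intro y _
      exact (hF _ t).symm
  simp_rw [h2]
  rw [Finset.sum_const, Finset.card_univ, Nat.card_eq_fintype_card, nsmul_eq_mul]

end sections

section union

variable {G : Type*} [Group G] [Fintype G] [DecidableEq G]
variable {p : ℕ} {M : Ideal Cfsg.AlgInt}

theorem finsum_mem_eq_sum_filter_lib {α N : Type*} [Fintype α] [AddCommMonoid N] (s : Set α)
    [DecidablePred (· ∈ s)] (f : α → N) :
    ∑ᶠ a ∈ s, f a = ∑ a ∈ Finset.univ.filter (· ∈ s), f a := by
  rw [← finsum_mem_coe_finset]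
  congr 1
  ext a
  simp

/-- a sum over a union of blocks, split into the sums over the blocks -/
theorem sum_blockUnion (hM : Cfsg.IsPModular p M) [Fintype (Cfsg.IrrCharacter G)]
    (S : Set (Cfsg.IrrCharacter G)) [DecidablePred (· ∈ S)]
    (hS : ∀ ξ ∈ S, Cfsg.blockOf M (ξ : G → ℂ) ⊆ S) (f : Cfsg.IrrCharacter G → ℂ)
    [DecidableEq (Set (Cfsg.IrrCharacter G))] :
    ∑ χ ∈ Finset.univ.filter (· ∈ S), f χ
      = ∑ b ∈ (Finset.univ.filter (· ∈ S)).image
          (fun ψ : Cfsg.IrrCharacter G => Cfsg.blockOf M (ψ : G → ℂ)), ∑ᶠ χ ∈ b, f χ := by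
  classical
  rw [← Finset.sum_fiberwise_of_maps_to (s := Finset.univ.filter (· ∈ S))
    (t := (Finset.univ.filter (· ∈ S)).image
      (fun ψ : Cfsg.IrrCharacter G => Cfsg.blockOf M (ψ : G → ℂ)))
    (g := fun ψ : Cfsg.IrrCharacter G => Cfsg.blockOf M (ψ : G → ℂ))
    (fun ψ hψ => Finset.mem_image_of_mem _ hψ)]
  apply Finset.sum_congr rfl
  intro b hb
  obtain ⟨ψ₀, hψ₀, rfl⟩ := Finset.mem_image.mp hb
  simp only [Finset.mem_filter, Finset.mem_univ, true_and] at hψ₀
  rw [finsum_mem_eq_sum_filter_lib]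
  apply Finset.sum_congr
  · ext χ
    simp only [Finset.mem_filter, Finset.mem_univ, true_and]
    constructor
    · rintro ⟨_, hχ⟩
      rw [← hχ]
      exact sameBlock_refl hM _
    · intro hχ
      exact ⟨hS ψ₀ hψ₀ hχ, (blockOf_eq_of_mem hM hχ).symm⟩
  · intro χ _; rfl

/-- weak block orthogonality for a union of blocks -/
theorem weak_orthogonality_union (hM : Cfsg.IsPModular p M) [Fintype (Cfsg.IrrCharacter G)]
    (S : Set (Cfsg.IrrCharacter G)) [DecidablePred (· ∈ S)]
    (hS : ∀ ξ ∈ S, Cfsg.blockOf M (ξ : G → ℂ) ⊆ S) (y c : G)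
    (hy : ¬ p ∣ orderOf y) (hc : p ∣ orderOf c) :
    ∑ χ ∈ Finset.univ.filter (· ∈ S), (χ : G → ℂ) y * conj ((χ : G → ℂ) c) = 0 := by
  classical
  rw [sum_blockUnion hM S hS]
  apply Finset.sum_eq_zero
  intro b hb
  obtain ⟨ψ₀, _, rfl⟩ := Finset.mem_image.mp hb
  rw [finsum_mem_eq_sum_filter_lib]
  exact weak_block_orthogonality_finset hM ψ₀ y c hy hc

/-- the block part for a union of blocks is the sum of the block parts -/
theorem blockPart_union (hM : Cfsg.IsPModular p M) [Fintype (Cfsg.IrrCharacter G)]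
    (S : Set (Cfsg.IrrCharacter G)) [DecidablePred (· ∈ S)]
    (hS : ∀ ξ ∈ S, Cfsg.blockOf M (ξ : G → ℂ) ⊆ S) (ϑ : G → ℂ) (y : G)
    [DecidableEq (Set (Cfsg.IrrCharacter G))] :
    Cfsg.blockPart S ϑ y
      = ∑ b ∈ (Finset.univ.filter (· ∈ S)).image
          (fun ψ : Cfsg.IrrCharacter G => Cfsg.blockOf M (ψ : G → ℂ)), Cfsg.blockPart b ϑ y := by
  classical
  rw [blockPart_eq_finset_sum, sum_blockUnion hM S hS]
  apply Finset.sum_congr rfl
  intro b _
  rw [blockPart_eq_finset_sum, finsum_mem_eq_sum_filter_lib]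

end union

section shiftunion

variable {G : Type*} [Group G] [Fintype G] [DecidableEq G]
variable {p : ℕ} {M : Ideal Cfsg.AlgInt}

theorem sum_blockPart_shift_sq_union (hM : Cfsg.IsPModular p M) [Fintype (Cfsg.IrrCharacter G)]
    (z : G) (hz : ∃ k : ℕ, orderOf z = p ^ k) (H : Subgroup G) [Fintype H]
    (hH : H = Subgroup.centralizer ({z} : Set G)) [Fintype (Cfsg.IrrCharacter H)]
    (S : Set (Cfsg.IrrCharacter H)) [DecidablePred (· ∈ S)]
    (hS : ∀ ξ ∈ S, Cfsg.blockOf M (ξ : H → ℂ) ⊆ S)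
    (y : H) (hy : ¬ p ∣ orderOf y) :
    ∑ ζ : Cfsg.IrrCharacter G,
        Cfsg.blockPart S (fun c : H => (ζ : G → ℂ) (z * (c : G))) y
        * conj (Cfsg.blockPart S (fun c : H => (ζ : G → ℂ) (z * (c : G))) y)
      = ∑ χ ∈ Finset.univ.filter (· ∈ S), (χ : H → ℂ) y * conj ((χ : H → ℂ) y) := by
  classical
  have hp : p.Prime := hM.1
  have hcard : (Nat.card H : ℂ) ≠ 0 := card_ne_zero_complex H
  obtain ⟨a, hadef⟩ : ∃ a : H → ℂ, a = fun c : H => (Nat.card H : ℂ)⁻¹ *
      ∑ χ ∈ Finset.univ.filter (· ∈ S),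
        (χ : H → ℂ) y * conj ((χ : H → ℂ) c) := ⟨_, rfl⟩
  have ha : Cfsg.IsClassFunction H a := by
    intro g h
    rw [hadef]
    simp only
    congr 1
    apply Finset.sum_congr rfl
    intro χ _
    rw [IsIrrCharacter.isClassFunction χ.2 g h]
  have hreg : ∀ c : H, p ∣ orderOf c → a c = 0 := by
    intro c hc
    rw [hadef]
    simp only
    rw [weak_orthogonality_union hM S hS y c hy hc, mul_zero]
  have hpart : ∀ ϑ : H → ℂ, Cfsg.blockPart S ϑ y
      = ∑ c : H, ϑ c * a c := by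
    intro ϑ
    rw [blockPart_eq_finset_sum, hadef]
    unfold Cfsg.classInner
    simp_rw [Finset.mul_sum, Finset.sum_mul]
    rw [Finset.sum_comm]
    apply Finset.sum_congr rfl
    intro c _
    apply Finset.sum_congr rfl
    intro χ _
    ring
  simp_rw [hpart]
  rw [sum_irr_shift_sq hp z hz H hH a ha hreg]
  -- compute the norm of `a`
  have h1 : ∀ c : H, a c * conj (a c) = (Nat.card H : ℂ)⁻¹ * (Nat.card H : ℂ)⁻¹ *
      ∑ χ ∈ Finset.univ.filter (· ∈ S),
        ∑ χ' ∈ Finset.univ.filter (· ∈ S),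
          ((χ : H → ℂ) y * conj ((χ' : H → ℂ) y))
            * ((χ' : H → ℂ) c * conj ((χ : H → ℂ) c)) := by
    intro c
    rw [hadef]
    simp only
    rw [map_mul, map_inv₀, Complex.conj_natCast, map_sum]
    rw [mul_mul_mul_comm, Finset.sum_mul_sum]
    congr 1
    apply Finset.sum_congr rfl; intro χ _
    apply Finset.sum_congr rfl; intro χ' _
    rw [map_mul, Complex.conj_conj]
    ring
  simp_rw [h1]
  rw [← Finset.mul_sum, ← mul_assoc, ← mul_assoc, mul_inv_cancel₀ hcard, one_mul]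
  rw [Finset.sum_comm, Finset.mul_sum]
  apply Finset.sum_congr rfl
  intro χ hχ
  rw [Finset.sum_comm, Finset.mul_sum]
  have h2 : ∀ χ' : Cfsg.IrrCharacter H, (Nat.card H : ℂ)⁻¹ *
      ∑ c : H, ((χ : H → ℂ) y * conj ((χ' : H → ℂ) y))
            * ((χ' : H → ℂ) c * conj ((χ : H → ℂ) c))
      = ((χ : H → ℂ) y * conj ((χ' : H → ℂ) y)) * (if χ' = χ then 1 else 0) := by
    intro χ'
    rw [← classInner_irrCharacter χ' χ]
    unfold Cfsg.classInner
    rw [← Finset.mul_sum]
    ring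
  simp_rw [h2]
  rw [Finset.sum_eq_single_of_mem χ hχ]
  · rw [if_pos rfl, mul_one]
  · intro χ' _ hne
    rw [if_neg hne, mul_zero]

/-- the set of characters of `C_G(z)` lying in blocks inducing `B` is a union of blocks -/
theorem inducedSet_isUnion (hM : Cfsg.IsPModular p M) (H : Subgroup G) [Fintype H]
    (B : Set (Cfsg.IrrCharacter G)) :
    ∀ ξ ∈ {ξ : Cfsg.IrrCharacter H | Cfsg.IsInducedBlock M H (Cfsg.blockOf M (ξ : H → ℂ)) B},
      Cfsg.blockOf M (ξ : H → ℂ)
        ⊆ {ξ : Cfsg.IrrCharacter H | Cfsg.IsInducedBlock M H (Cfsg.blockOf M (ξ : H → ℂ)) B} := by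
  intro ξ hξ ξ' hξ'
  simp only [Set.mem_ofPred_eq] at hξ ⊢
  rw [← blockOf_eq_of_mem hM hξ']
  exact hξ

/-- the part of the shifted restriction of `ζ` in the blocks inducing `B` -/
theorem blockPart_shift_induced (hM : Cfsg.IsPModular p M) (z : G)
    (hz : ∃ k : ℕ, orderOf z = p ^ k) (H : Subgroup G) [Fintype H]
    (hH : H = Subgroup.centralizer ({z} : Set G))
    (B : Set (Cfsg.IrrCharacter G)) (hB : Cfsg.IsPBlock M B)
    (ζ : Cfsg.IrrCharacter G) (y : H) (hy : ¬ p ∣ orderOf y) :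
    Cfsg.blockPart {ξ : Cfsg.IrrCharacter H |
        Cfsg.IsInducedBlock M H (Cfsg.blockOf M (ξ : H → ℂ)) B}
      (fun c : H => (ζ : G → ℂ) (z * (c : G))) y
      = by classical exact if ζ ∈ B then (ζ : G → ℂ) (z * (y : G)) else 0 := by
  classical
  have : Fintype (Cfsg.IrrCharacter H) := Fintype.ofFinite _
  rw [blockPart_union hM _ (inducedSet_isUnion hM H B)]
  split_ifs with hζ
  · rw [apply_eq_sum_blockPart hM
      (shift_isClassFunction z H hH (IsIrrCharacter.isClassFunction ζ.2)) y]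
    apply Finset.sum_subset
    · intro b hb
      obtain ⟨ψ₀, _, rfl⟩ := Finset.mem_image.mp hb
      exact Finset.mem_image_of_mem _ (Finset.mem_univ ψ₀)
    · intro b hb hnb
      obtain ⟨ψ₀, _, rfl⟩ := Finset.mem_image.mp hb
      apply second_main_chars hM z hz H hH hB ζ hζ ⟨ψ₀, rfl⟩ _ y hy
      intro hcon
      apply hnb
      apply Finset.mem_image_of_mem
      simp only [Finset.mem_filter, Finset.mem_univ, true_and, Set.mem_ofPred_eq]
      exact hcon
  · apply Finset.sum_eq_zero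
    intro b hb
    obtain ⟨ψ₀, hψ₀, rfl⟩ := Finset.mem_image.mp hb
    simp only [Finset.mem_filter, Finset.mem_univ, true_and, Set.mem_ofPred_eq] at hψ₀
    apply second_main_chars hM z hz H hH (B := Cfsg.blockOf M (ζ : G → ℂ)) ⟨ζ, rfl⟩ ζ
      (sameBlock_refl hM _) ⟨ψ₀, rfl⟩ _ y hy
    intro hcon
    apply hζ
    rw [IsInducedBlock.unique H hM hψ₀ hcon]
    exact sameBlock_refl hM _

end shiftunion

section count

variable {G : Type*} [Group G] [Fintype G] [DecidableEq G]
variable {p : ℕ} {M : Ideal Cfsg.AlgInt}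

/-- the `p`-regular rank of a block as a sum over the `p`-regular elements -/
theorem blockRank_mul_card (hM : Cfsg.IsPModular p M)
    (χ₀ : Cfsg.IrrCharacter G) :
    (Nat.card G : ℂ) * (Cfsg.blockRank p (Cfsg.blockOf M (χ₀ : G → ℂ)) : ℂ)
      = ∑ y ∈ Finset.univ.filter (fun y : G => ¬ p ∣ orderOf y),
          ∑ᶠ χ ∈ Cfsg.blockOf M (χ₀ : G → ℂ), (χ : G → ℂ) y * conj ((χ : G → ℂ) y) := by
  classical
  have : Fintype (Cfsg.IrrCharacter G) := Fintype.ofFinite _
  have hproj := pRegProj_isProj (p := p) hM χ₀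
  have htr := LinearMap.IsProj.trace hproj
  have h1 := trace_pRegProj (p := p) (Cfsg.blockOf M (χ₀ : G → ℂ))
  rw [htr] at h1
  unfold Cfsg.blockRank
  rw [h1, Finset.sum_filter]
  apply Finset.sum_congr rfl
  intro x _
  rw [finsum_mem_eq_sum_filter_lib]
  split_ifs with hx
  · apply Finset.sum_eq_zero
    intro χ _
    have : Cfsg.pRegularPart p (χ : G → ℂ) x = 0 := by
      unfold Cfsg.pRegularPart Cfsg.IsPRegular
      rw [if_neg (not_not.mpr hx)]
    rw [this, zero_mul]
  · apply Finset.sum_congr rfl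
    intro χ _
    have : Cfsg.pRegularPart p (χ : G → ℂ) x = (χ : G → ℂ) x := by
      unfold Cfsg.pRegularPart Cfsg.IsPRegular
      rw [if_pos hx]
    rw [this, IsCharacter.apply_inv (IsIrrCharacter.isCharacter χ.2)]

/-- the contribution of the `p`-section of `x` to the count of the characters of `B` -/
theorem sum_section_block (hM : Cfsg.IsPModular p M) [Fintype (Cfsg.IrrCharacter G)] (x : G)
    (hx : ∃ k : ℕ, orderOf x = p ^ k) (H : Subgroup G) [Fintype H]
    (hH : H = Subgroup.centralizer ({x} : Set G))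
    (B : Set (Cfsg.IrrCharacter G)) [DecidablePred (· ∈ B)] (hB : Cfsg.IsPBlock M B) :
    ∑ y ∈ Finset.univ.filter (fun y : H => ¬ p ∣ orderOf y),
        ∑ ζ ∈ Finset.univ.filter (· ∈ B),
          (ζ : G → ℂ) (x * (y : G)) * conj ((ζ : G → ℂ) (x * (y : G)))
      = (Nat.card H : ℂ) * ((∑ᶠ b ∈ {b : Set (Cfsg.IrrCharacter H) |
          Cfsg.IsInducedBlock M H b B}, Cfsg.blockRank p b : ℕ) : ℂ) := by
  classical
  have : Fintype (Cfsg.IrrCharacter H) := Fintype.ofFinite _
  have hSU := inducedSet_isUnion (p := p) hM H B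
  -- step 1
  have h1 : ∀ y : H, ¬ p ∣ orderOf y → ∑ ζ ∈ Finset.univ.filter (· ∈ B),
          (ζ : G → ℂ) (x * (y : G)) * conj ((ζ : G → ℂ) (x * (y : G)))
      = ∑ ξ ∈ Finset.univ.filter (· ∈ {ξ : Cfsg.IrrCharacter H |
          Cfsg.IsInducedBlock M H (Cfsg.blockOf M (ξ : H → ℂ)) B}),
          (ξ : H → ℂ) y * conj ((ξ : H → ℂ) y) := by
    intro y hy
    rw [← sum_blockPart_shift_sq_union hM x hx H hH _ hSU y hy, Finset.sum_filter]
    apply Finset.sum_congr rfl
    intro ζ _
    rw [blockPart_shift_induced hM x hx H hH B hB ζ y hy]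
    split_ifs with hζ
    · rfl
    · simp
  rw [Finset.sum_congr rfl (fun y hy => h1 y (by
    simpa only [Finset.mem_filter, Finset.mem_univ, true_and] using hy))]
  -- step 2
  simp_rw [sum_blockUnion hM _ hSU]
  rw [Finset.sum_comm]
  -- step 3
  rw [finsum_mem_eq_sum_filter_lib, Nat.cast_sum, Finset.mul_sum]
  apply Finset.sum_congr
  · ext b
    simp only [Finset.mem_image, Finset.mem_filter, Finset.mem_univ, true_and,
      Set.mem_ofPred_eq]
    constructor
    · rintro ⟨ξ, hξ, rfl⟩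
      exact hξ
    · intro hb
      obtain ⟨ξ, rfl⟩ := hb.1
      exact ⟨ξ, hb, rfl⟩
  · intro b hb
    simp only [Finset.mem_filter, Finset.mem_univ, true_and, Set.mem_ofPred_eq] at hb
    obtain ⟨ξ, rfl⟩ := hb.1
    rw [blockRank_mul_card hM ξ]

end count

section final

variable {G : Type*} [Group G] [Fintype G] [DecidableEq G]
variable {p : ℕ} {M : Ideal Cfsg.AlgInt}

/-- Brauer's count `k(B) = Σ_x Σ_{b^G = B} l(b)` -/
theorem card_block_eq_sum_sections (hM : Cfsg.IsPModular p M)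
    (B : Set (Cfsg.IrrCharacter G)) (hB : Cfsg.IsPBlock M B) (X : Finset G)
    (hX : ∀ x ∈ X, ∃ k : ℕ, orderOf x = p ^ k)
    (hXrep : ∀ g : G, (∃ k : ℕ, orderOf g = p ^ k) → ∃! x, x ∈ X ∧ IsConj g x) :
    Nat.card B = ∑ x ∈ X, ∑ᶠ b ∈ {b : Set (Cfsg.IrrCharacter
        ↥(Subgroup.centralizer ({x} : Set G))) |
          Cfsg.IsInducedBlock M (Subgroup.centralizer ({x} : Set G)) b B},
      Cfsg.blockRank p b := by
  classical
  have : Fintype (Cfsg.IrrCharacter G) := Fintype.ofFinite _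
  have hp : p.Prime := hM.1
  have hG : (Nat.card G : ℂ) ≠ 0 := card_ne_zero_complex G
  apply Nat.cast_injective (R := ℂ)
  apply mul_left_cancel₀ hG
  obtain ⟨F, hFdef⟩ : ∃ F : G → ℂ, F = fun g => ∑ ζ ∈ Finset.univ.filter (· ∈ B),
      (ζ : G → ℂ) g * conj ((ζ : G → ℂ) g) := ⟨_, rfl⟩
  have hF : Cfsg.IsClassFunction G F := by
    intro g h
    rw [hFdef]
    simp only
    apply Finset.sum_congr rfl
    intro ζ _
    rw [IsIrrCharacter.isClassFunction ζ.2 g h]
  -- the left side
  have hL : (Nat.card G : ℂ) * ((Nat.card B : ℕ) : ℂ) = ∑ g : G, F g := by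
    rw [hFdef]
    simp only
    rw [Finset.sum_comm]
    have h1 : ∀ ζ : Cfsg.IrrCharacter G, ∑ g : G, (ζ : G → ℂ) g * conj ((ζ : G → ℂ) g)
        = (Nat.card G : ℂ) := by
      intro ζ
      have h2 := classInner_irrCharacter ζ ζ
      rw [if_pos rfl] at h2
      unfold Cfsg.classInner at h2
      rw [← mul_one (Nat.card G : ℂ), ← h2, ← mul_assoc, mul_inv_cancel₀ hG, one_mul]
    simp_rw [h1]
    rw [Finset.sum_const, nsmul_eq_mul, mul_comm]
    congr 2
    rw [← Fintype.card_subtype, Nat.card_eq_fintype_card]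
  rw [hL, Nat.cast_sum, Finset.mul_sum]
  -- the right side
  have hR : ∀ x ∈ X, (Nat.card G : ℂ) * ((∑ᶠ b ∈ {b : Set (Cfsg.IrrCharacter
        ↥(Subgroup.centralizer ({x} : Set G))) |
          Cfsg.IsInducedBlock M (Subgroup.centralizer ({x} : Set G)) b B},
      Cfsg.blockRank p b : ℕ) : ℂ)
      = ∑ g : G, F g * ((Nat.card (Subgroup.centralizer ({x} : Set G)) : ℂ)⁻¹ *
          ((Finset.univ.filter (fun t : G => Cfsg.IsPPart p g (t * x * t⁻¹))).card : ℂ)) := by
    intro x hx
    have hH : (Nat.card (Subgroup.centralizer ({x} : Set G)) : ℂ) ≠ 0 :=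
      card_ne_zero_complex _
    have h1 := sum_section_block hM x (hX x hx) (Subgroup.centralizer ({x} : Set G)) rfl B hB
    have h2 := sum_section hp x (hX x hx) (Subgroup.centralizer ({x} : Set G)) rfl F hF
    have h3 : ∀ y : ↥(Subgroup.centralizer ({x} : Set G)), F (x * (y : G))
        = ∑ ζ ∈ Finset.univ.filter (· ∈ B),
          (ζ : G → ℂ) (x * (y : G)) * conj ((ζ : G → ℂ) (x * (y : G))) := by
      intro y; rw [hFdef]
    simp_rw [h3] at h2
    rw [h1] at h2
    have h5 : ∀ g : G, F g * ((Nat.card (Subgroup.centralizer ({x} : Set G)) : ℂ)⁻¹ *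
          ((Finset.univ.filter (fun t : G => Cfsg.IsPPart p g (t * x * t⁻¹))).card : ℂ))
        = (Nat.card (Subgroup.centralizer ({x} : Set G)) : ℂ)⁻¹ * (F g *
          ((Finset.univ.filter (fun t : G => Cfsg.IsPPart p g (t * x * t⁻¹))).card : ℂ)) := by
      intro g; ring
    rw [Finset.sum_congr rfl (fun g _ => h5 g), ← Finset.mul_sum, ← h2]
    field_simp
  rw [Finset.sum_congr rfl hR, Finset.sum_comm]
  apply Finset.sum_congr rfl
  intro g _
  rw [← Finset.mul_sum]
  obtain ⟨u, hu⟩ := exists_isPPart hp g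
  have hup : ∃ k : ℕ, orderOf u = p ^ k := by
    obtain ⟨_, _, _, h, _⟩ := hu
    exact h
  obtain ⟨x₀, ⟨hx₀X, hx₀c⟩, hx₀u⟩ := hXrep u hup
  have h4 : ∀ x ∈ X, (Nat.card (Subgroup.centralizer ({x} : Set G)) : ℂ)⁻¹ *
      ((Finset.univ.filter (fun t : G => Cfsg.IsPPart p g (t * x * t⁻¹))).card : ℂ)
      = if x = x₀ then 1 else 0 := by
    intro x hx
    have hH : (Nat.card (Subgroup.centralizer ({x} : Set G)) : ℂ) ≠ 0 :=
      card_ne_zero_complex _
    rw [card_conjugators_pPart hp x g u hu]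
    by_cases hxx : x = x₀
    · rw [if_pos hxx, if_pos (by rw [hxx]; exact hx₀c), inv_mul_cancel₀ hH]
    · rw [if_neg hxx, if_neg, mul_zero]
      intro hc
      exact hxx (hx₀u x ⟨hx, hc⟩)
  rw [Finset.sum_congr rfl h4, Finset.sum_ite_eq' X x₀, if_pos hx₀X, mul_one]

end final

end Cfsg.Agent.Lib.Helper6
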