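import Mathlib
import Cfsg.Prelude.Def_Blocks
import Cfsg.Agent.Lib.Helper6.BlkOrth2

set_option autoImplicit false
set_option linter.unusedSectionVars false
open Cfsg

namespace Cfsg.Agent.Lib.Helper6

open scoped ComplexConjugate

section

variable {G : Type*} [Group G] [Fintype G] [DecidableEq G]
variable {p : ℕ} {M : Ideal Cfsg.AlgInt}

theorem sum_mul_conj_irr_of_ne (θ ψ : Cfsg.IrrCharacter G) (h : θ ≠ ψ) :
    ∑ g : G, (θ : G → ℂ) g * conj ((ψ : G → ℂ) g) = 0 := by
  have h1 := classInner_irrCharacter θ ψ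
  rw [if_neg h] at h1
  unfold Cfsg.classInner at h1
  have hG := card_ne_zero_complex G
  rcases mul_eq_zero.mp h1 with h2 | h2
  · exact absurd (inv_eq_zero.mp h2) hG
  · exact h2

/-- characters in different blocks are orthogonal on `p`-regular elements (finset form) -/
theorem sum_pRegular_eq_zero_of_not_mem_block (hM : Cfsg.IsPModular p M)
    [Fintype (Cfsg.IrrCharacter G)] (χ₀ : Cfsg.IrrCharacter G)
    [DecidablePred (· ∈ Cfsg.blockOf M (χ₀ : G → ℂ))] (ψ : Cfsg.IrrCharacter G)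
    (hψ : ψ ∉ Cfsg.blockOf M (χ₀ : G → ℂ)) (χ : Cfsg.IrrCharacter G)
    (hχ : χ ∈ Cfsg.blockOf M (χ₀ : G → ℂ)) :
    ∑ g ∈ Finset.univ.filter (fun g : G => ¬ p ∣ orderOf g),
      (χ : G → ℂ) g * conj ((ψ : G → ℂ) g) = 0 := by
  set B := Cfsg.blockOf M (χ₀ : G → ℂ) with hB
  set sB : Finset (Cfsg.IrrCharacter G) := Finset.univ.filter (· ∈ B) with hsB
  set R : Finset G := Finset.univ.filter (fun g : G => ¬ p ∣ orderOf g) with hR
  let a : Cfsg.IrrCharacter G → ℂ := fun θ => ∑ g ∈ R, (θ : G → ℂ) g * conj ((ψ : G → ℂ) g)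
  -- (*)
  have hstar : ∀ x : G, ¬ p ∣ orderOf x → ∑ θ ∈ sB, conj ((θ : G → ℂ) x) * a θ = 0 := by
    intro x hx
    have h1 : ∑ θ ∈ sB, conj ((θ : G → ℂ) x) * a θ
        = ∑ g ∈ R, conj ((ψ : G → ℂ) g) * ∑ θ ∈ sB, (θ : G → ℂ) g * conj ((θ : G → ℂ) x) := by
      simp only [a, Finset.mul_sum]
      rw [Finset.sum_comm]
      apply Finset.sum_congr rfl
      intro g _
      apply Finset.sum_congr rfl
      intro θ _
      ring
    have h2 : ∑ g ∈ R, conj ((ψ : G → ℂ) g) * ∑ θ ∈ sB, (θ : G → ℂ) g * conj ((θ : G → ℂ) x)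
        = ∑ g : G, conj ((ψ : G → ℂ) g) * ∑ θ ∈ sB, (θ : G → ℂ) g * conj ((θ : G → ℂ) x) := by
      rw [hR, Finset.sum_filter]
      apply Finset.sum_congr rfl
      intro g _
      split_ifs with hg
      swap
      · rfl
      · have h3 := weak_block_orthogonality_finset hM χ₀ x g hx hg
        have h4 : ∑ θ ∈ sB, (θ : G → ℂ) g * conj ((θ : G → ℂ) x) = 0 := by
          have := congrArg conj h3
          rw [map_sum, map_zero] at this
          rw [← this]
          apply Finset.sum_congr rfl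
          intro θ _
          rw [map_mul, Complex.conj_conj]
          ring
        rw [h4, mul_zero]
    rw [h1, h2]
    simp only [Finset.mul_sum]
    rw [Finset.sum_comm]
    apply Finset.sum_eq_zero
    intro θ hθ
    have hθB : θ ∈ B := by simpa [hsB] using hθ
    have hne : θ ≠ ψ := by
      rintro rfl
      exact hψ hθB
    have h5 := sum_mul_conj_irr_of_ne θ ψ hne
    calc ∑ g : G, conj ((ψ : G → ℂ) g) * ((θ : G → ℂ) g * conj ((θ : G → ℂ) x))
        = conj ((θ : G → ℂ) x) * ∑ g : G, (θ : G → ℂ) g * conj ((ψ : G → ℂ) g) := by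
          rw [Finset.mul_sum]
          apply Finset.sum_congr rfl
          intro g _
          ring
      _ = 0 := by rw [h5, mul_zero]
  -- (ii)
  have hsq : ∑ θ ∈ sB, conj (a θ) * a θ = 0 := by
    have h1 : ∑ θ ∈ sB, conj (a θ) * a θ
        = ∑ g ∈ R, conj ((ψ : G → ℂ) g) * conj (∑ θ ∈ sB, conj ((θ : G → ℂ) g) * a θ) := by
      have h2 : ∀ θ ∈ sB, conj (a θ) * a θ
          = ∑ g ∈ R, conj ((ψ : G → ℂ) g) * (conj (a θ) * (θ : G → ℂ) g) := by
        intro θ _
        conv_lhs => rw [show a θ = ∑ g ∈ R, (θ : G → ℂ) g * conj ((ψ : G → ℂ) g) from rfl]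
        rw [Finset.mul_sum]
        apply Finset.sum_congr rfl
        intro g _
        ring
      rw [Finset.sum_congr rfl h2, Finset.sum_comm]
      apply Finset.sum_congr rfl
      intro g _
      rw [map_sum, Finset.mul_sum]
      apply Finset.sum_congr rfl
      intro θ _
      rw [map_mul, Complex.conj_conj]
      ring
    rw [h1]
    apply Finset.sum_eq_zero
    intro g hg
    have hg' : ¬ p ∣ orderOf g := by simpa [hR] using hg
    rw [hstar g hg', map_zero, mul_zero]
  have hsq' : ∑ θ ∈ sB, Complex.normSq (a θ) = 0 := by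
    have h1 : ((∑ θ ∈ sB, Complex.normSq (a θ) : ℝ) : ℂ) = 0 := by
      rw [Complex.ofReal_sum, ← hsq]
      apply Finset.sum_congr rfl
      intro θ _
      rw [Complex.normSq_eq_conj_mul_self]
    exact_mod_cast h1
  have hzero := (Finset.sum_eq_zero_iff_of_nonneg (fun θ _ => Complex.normSq_nonneg (a θ))).mp hsq'
  have hχs : χ ∈ sB := by simp [hsB, hχ]
  have := hzero χ hχs
  exact Complex.normSq_eq_zero.mp this

theorem sum_pRegular_eq_zero_of_not_sameBlock (hM : Cfsg.IsPModular p M)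
    (χ ψ : Cfsg.IrrCharacter G) (h : ¬ Cfsg.SameBlock M (χ : G → ℂ) (ψ : G → ℂ)) :
    ∑ᶠ x ∈ {x : G | ¬ p ∣ orderOf x}, (χ : G → ℂ) x * conj ((ψ : G → ℂ) x) = 0 := by
  classical
  have : Fintype (Cfsg.IrrCharacter G) := Fintype.ofFinite _
  have h1 := sum_pRegular_eq_zero_of_not_mem_block hM χ ψ h χ (sameBlock_refl hM _)
  rw [← h1, ← finsum_mem_coe_finset]
  congr 1
  ext x
  simp

end

end Cfsg.Agent.Lib.Helper6
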