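import Mathlib
import Cfsg.Prelude.Def_Blocks
import Cfsg.Agent.Lib.Helper6.BlkInd
import Cfsg.Agent.Lib.Helper6.BlkCenter
import Cfsg.Agent.Lib.Helper6.BlkOrth3
import Cfsg.Agent.Lib.Helper6.Auto

set_option autoImplicit false
set_option linter.unusedSectionVars false
open Cfsg

namespace Cfsg.Agent.Lib.Helper6

open scoped ComplexConjugate

section arith

variable {p : ℕ} {M : Ideal Cfsg.AlgInt}

/-- a rational integer divided by `p ^ t` in the local ring is divisible by `p ^ t` -/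
theorem pow_dvd_of_memLocalRing_div (hM : Cfsg.IsPModular p M) (n : ℤ) (t : ℕ)
    (h : Cfsg.MemLocalRing M ((n : ℂ) / (p : ℂ) ^ t)) : (p : ℤ) ^ t ∣ n := by
  have hp0 : (p : ℂ) ≠ 0 := by exact_mod_cast hM.1.ne_zero
  induction t generalizing n with
  | zero => simp
  | succ t ih =>
    have h1 : Cfsg.MemLocalIdeal M ((n : ℂ) / (p : ℂ) ^ t) := by
      have : (n : ℂ) / (p : ℂ) ^ t = (p : ℂ) * ((n : ℂ) / (p : ℂ) ^ (t + 1)) := by
        rw [pow_succ]; field_simp
      rw [this]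
      exact MemLocalIdeal.mul_right hM (memLocalIdeal_prime hM) h
    obtain ⟨n₁, rfl⟩ := ih n (MemLocalIdeal.memLocalRing h1)
    have h2 : (((p : ℤ) ^ t * n₁ : ℤ) : ℂ) / (p : ℂ) ^ t = (n₁ : ℂ) := by
      push_cast; field_simp
    rw [h2, memLocalIdeal_intCast_iff hM] at h1
    obtain ⟨n₂, rfl⟩ := h1
    exact ⟨n₂, by ring⟩

theorem pow_succ_dvd_of_memLocalIdeal_div (hM : Cfsg.IsPModular p M) (n : ℤ) (t : ℕ)
    (h : Cfsg.MemLocalIdeal M ((n : ℂ) / (p : ℂ) ^ t)) : (p : ℤ) ^ (t + 1) ∣ n := by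
  apply pow_dvd_of_memLocalRing_div hM
  have hp0 : (p : ℂ) ≠ 0 := by exact_mod_cast hM.1.ne_zero
  obtain ⟨n₁, rfl⟩ := pow_dvd_of_memLocalRing_div hM n t (MemLocalIdeal.memLocalRing h)
  have h2 : (((p : ℤ) ^ t * n₁ : ℤ) : ℂ) / (p : ℂ) ^ t = (n₁ : ℂ) := by
    push_cast; field_simp
  rw [h2, memLocalIdeal_intCast_iff hM] at h
  obtain ⟨n₂, rfl⟩ := h
  have : (((p : ℤ) ^ t * ((p : ℤ) * n₂) : ℤ) : ℂ) / (p : ℂ) ^ (t + 1) = (n₂ : ℂ) := by
    push_cast; rw [pow_succ]; field_simp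
  rw [this]
  exact memLocalRing_intCast hM _

/-- valuation inequality from local integrality of `n / m` -/
theorem pow_factorization_dvd_of_memLocalRing_div (hM : Cfsg.IsPModular p M) (n : ℤ) (m : ℕ)
    (hm : m ≠ 0) (h : Cfsg.MemLocalRing M ((n : ℂ) / (m : ℂ))) :
    (p : ℤ) ^ (m.factorization p) ∣ n := by
  have hp : p.Prime := hM.1
  apply pow_dvd_of_memLocalRing_div hM
  have hm' : ¬ p ∣ m / p ^ m.factorization p := Nat.not_dvd_ordCompl hp hm
  have hmeq : p ^ m.factorization p * (m / p ^ m.factorization p) = m :=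
    Nat.ordProj_mul_ordCompl_eq_self m p
  have hp0 : (p : ℂ) ≠ 0 := by exact_mod_cast hp.ne_zero
  have hm0 : (m : ℂ) ≠ 0 := by exact_mod_cast hm
  have hc0 : ((m / p ^ m.factorization p : ℕ) : ℂ) ≠ 0 := by
    intro h0
    apply hm0
    rw [← hmeq]
    push_cast
    rw [h0, mul_zero]
  have hmC : (m : ℂ) = (p : ℂ) ^ (m.factorization p) * ((m / p ^ m.factorization p : ℕ) : ℂ) := by
    exact_mod_cast congrArg (Nat.cast : ℕ → ℂ) hmeq.symm
  have : (n : ℂ) / (p : ℂ) ^ (m.factorization p)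
      = ((m / p ^ m.factorization p : ℕ) : ℂ) * ((n : ℂ) / (m : ℂ)) := by
    generalize ((m / p ^ m.factorization p : ℕ) : ℂ) = c at hmC hc0 ⊢
    generalize m.factorization p = t at hmC ⊢
    rw [hmC]
    field_simp
  rw [this]
  exact MemLocalRing.mul hM (memLocalRing_natCast hM _) h

theorem pow_factorization_succ_dvd_of_memLocalIdeal_div (hM : Cfsg.IsPModular p M) (n : ℤ) (m : ℕ)
    (hm : m ≠ 0) (h : Cfsg.MemLocalIdeal M ((n : ℂ) / (m : ℂ))) :
    (p : ℤ) ^ (m.factorization p + 1) ∣ n := by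
  have hp : p.Prime := hM.1
  apply pow_succ_dvd_of_memLocalIdeal_div hM
  have hmeq : p ^ m.factorization p * (m / p ^ m.factorization p) = m :=
    Nat.ordProj_mul_ordCompl_eq_self m p
  have hp0 : (p : ℂ) ≠ 0 := by exact_mod_cast hp.ne_zero
  have hm0 : (m : ℂ) ≠ 0 := by exact_mod_cast hm
  have hc0 : ((m / p ^ m.factorization p : ℕ) : ℂ) ≠ 0 := by
    intro h0
    apply hm0
    rw [← hmeq]
    push_cast
    rw [h0, mul_zero]
  have hmC : (m : ℂ) = (p : ℂ) ^ (m.factorization p) * ((m / p ^ m.factorization p : ℕ) : ℂ) := by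
    exact_mod_cast congrArg (Nat.cast : ℕ → ℂ) hmeq.symm
  have : (n : ℂ) / (p : ℂ) ^ (m.factorization p)
      = ((m / p ^ m.factorization p : ℕ) : ℂ) * ((n : ℂ) / (m : ℂ)) := by
    generalize ((m / p ^ m.factorization p : ℕ) : ℂ) = c at hmC hc0 ⊢
    generalize m.factorization p = t at hmC ⊢
    rw [hmC]
    field_simp
  rw [this]
  exact MemLocalIdeal.mul_left hM (memLocalRing_natCast hM _) h

/-- `n / m` is a unit of the local ring when `n` and `m` have the same `p`-part -/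
theorem not_memLocalIdeal_div_of_not_dvd (hM : Cfsg.IsPModular p M) (n : ℤ) (m : ℕ) (hm : m ≠ 0)
    (h1 : (p : ℤ) ^ (m.factorization p) ∣ n) (h2 : ¬ (p : ℤ) ^ (m.factorization p + 1) ∣ n) :
    ¬ Cfsg.MemLocalIdeal M ((n : ℂ) / (m : ℂ)) := by
  intro h
  exact h2 (pow_factorization_succ_dvd_of_memLocalIdeal_div hM n m hm h)

end arith

section tilde

variable {G : Type*} [Group G] [Fintype G] [DecidableEq G]
variable {p : ℕ} {M : Ideal Cfsg.AlgInt}

/-- the `p`-regular part of `g ↦ χ g⁻¹` as a matrix -/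
noncomputable def pRegMat (p : ℕ) (χ : G → ℂ) : Matrix G G ℂ :=
  regMat (fun g => if p ∣ orderOf g then 0 else χ g⁻¹)

theorem pRegMat_mem_centerAlg {χ : G → ℂ} (hχ : Cfsg.IsClassFunction G χ) :
    pRegMat p χ ∈ centerAlg G := by
  apply regMat_mem_centerAlg
  intro g h
  have h1 : orderOf (h * g * h⁻¹) = orderOf g := by
    have := (MulAut.conj h).orderOf_eq g
    rwa [MulAut.conj_apply] at this
  have h2 : (h * g * h⁻¹)⁻¹ = h * g⁻¹ * h⁻¹ := by group
  simp only [h1, h2, hχ g⁻¹ h]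

theorem pRegMat_mem_sMat (hM : Cfsg.IsPModular p M) {χ : G → ℂ}
    (hχ : ∀ g, Cfsg.MemLocalRing M (χ g)) : pRegMat p χ ∈ sMat hM G := by
  apply regMat_mem_sMat
  intro g
  split_ifs
  · exact memLocalRing_zero hM
  · exact hχ _

theorem cOmega_pRegMat (χ ξ : G → ℂ) :
    cOmega ξ (pRegMat p χ) = (∑ g : G, if p ∣ orderOf g then 0 else χ g⁻¹ * ξ g) / ξ 1 := by
  unfold pRegMat
  rw [cOmega_regMat]
  congr 1
  apply Finset.sum_congr rfl
  intro g _
  split_ifs <;> simp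

/-- the scaled `p`-regular part -/
noncomputable def tildeFun (p : ℕ) (χ : G → ℂ) : G → ℂ :=
  fun x => if p ∣ orderOf x then (0 : ℂ)
    else ((p ^ (Nat.card G).factorization p : ℕ) : ℂ) * χ x

/-- the normalised inner product `[χ̃, ξ] / ξ(1)` through the central character -/
theorem classInner_tildeFun_div {χ ξ : G → ℂ} (hξ : Cfsg.IsCharacter G ξ) :
    Cfsg.classInner (tildeFun p χ) ξ / ξ 1
      = ((p ^ (Nat.card G).factorization p : ℕ) : ℂ) / (Nat.card G : ℂ)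
        * cOmega ξ (pRegMat p χ) := by
  rw [cOmega_pRegMat]
  unfold Cfsg.classInner tildeFun
  have h1 : ∑ g : G, (if p ∣ orderOf g then (0 : ℂ)
        else ((p ^ (Nat.card G).factorization p : ℕ) : ℂ) * χ g) * conj (ξ g)
      = ((p ^ (Nat.card G).factorization p : ℕ) : ℂ) *
        ∑ g : G, if p ∣ orderOf g then 0 else χ g⁻¹ * ξ g := by
    rw [Finset.mul_sum]
    rw [← Equiv.sum_comp (Equiv.inv G)]
    apply Finset.sum_congr rfl
    intro g _
    simp only [Equiv.inv_apply, orderOf_inv]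
    split_ifs
    · simp
    · rw [IsCharacter.apply_inv hξ, Complex.conj_conj]
      ring
  rw [h1]
  ring

theorem ordCompl_unit (hM : Cfsg.IsPModular p M) :
    Cfsg.MemLocalRing M (((p ^ (Nat.card G).factorization p : ℕ) : ℂ) / (Nat.card G : ℂ)) ∧
    ¬ Cfsg.MemLocalIdeal M (((p ^ (Nat.card G).factorization p : ℕ) : ℂ) / (Nat.card G : ℂ)) := by
  have hp : p.Prime := hM.1
  have hG0 : Nat.card G ≠ 0 := Nat.card_pos.ne'
  have hmeq : p ^ (Nat.card G).factorization p * (Nat.card G / p ^ (Nat.card G).factorization p)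
      = Nat.card G := Nat.ordProj_mul_ordCompl_eq_self _ p
  have hm' : ¬ p ∣ Nat.card G / p ^ (Nat.card G).factorization p := Nat.not_dvd_ordCompl hp hG0
  have hp0 : ((p ^ (Nat.card G).factorization p : ℕ) : ℂ) ≠ 0 := by
    exact_mod_cast (pow_pos hp.pos _).ne'
  have hc0 : ((Nat.card G / p ^ (Nat.card G).factorization p : ℕ) : ℂ) ≠ 0 := by
    intro h0
    have : (Nat.card G : ℂ) = 0 := by
      rw [← hmeq]; push_cast; push_cast at h0; rw [h0, mul_zero]
    exact hG0 (by exact_mod_cast this)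
  have hmC : (Nat.card G : ℂ) = ((p ^ (Nat.card G).factorization p : ℕ) : ℂ) *
      ((Nat.card G / p ^ (Nat.card G).factorization p : ℕ) : ℂ) := by
    exact_mod_cast congrArg (Nat.cast : ℕ → ℂ) hmeq.symm
  have heq : ((p ^ (Nat.card G).factorization p : ℕ) : ℂ) / (Nat.card G : ℂ)
      = ((Nat.card G / p ^ (Nat.card G).factorization p : ℕ) : ℂ)⁻¹ := by
    generalize ((Nat.card G / p ^ (Nat.card G).factorization p : ℕ) : ℂ) = c at hmC hc0 ⊢
    generalize ((p ^ (Nat.card G).factorization p : ℕ) : ℂ) = q at hmC hp0 ⊢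
    rw [hmC]
    field_simp
  rw [heq]
  constructor
  · exact memLocalRing_inv_natCast hM hm'
  · intro h
    have := MemLocalIdeal.mul_left hM (memLocalRing_natCast hM
      (Nat.card G / p ^ (Nat.card G).factorization p)) h
    rw [mul_inv_cancel₀ hc0] at this
    exact not_memLocalIdeal_one hM this

/-- `[χ̃, ξ] / ξ(1)` is a local integer -/
theorem classInner_tildeFun_div_memLocalRing (hM : Cfsg.IsPModular p M) {χ : G → ℂ}
    (hχcf : Cfsg.IsClassFunction G χ) (hχS : ∀ g, Cfsg.MemLocalRing M (χ g))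
    (ξ : Cfsg.IrrCharacter G) :
    Cfsg.MemLocalRing M (Cfsg.classInner (tildeFun p χ) (ξ : G → ℂ) / (ξ : G → ℂ) 1) := by
  rw [classInner_tildeFun_div (IsIrrCharacter.isCharacter ξ.2)]
  exact MemLocalRing.mul hM (ordCompl_unit hM).1
    (cOmega_memLocalRing hM ξ.2 (pRegMat_mem_centerAlg hχcf) (pRegMat_mem_sMat hM hχS))

/-- `[χ̃, ξ] / ξ(1)` modulo the ideal depends only on the block of `ξ` -/
theorem classInner_tildeFun_div_sub (hM : Cfsg.IsPModular p M) {χ : G → ℂ}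
    (hχcf : Cfsg.IsClassFunction G χ) (hχS : ∀ g, Cfsg.MemLocalRing M (χ g))
    (ξ₁ ξ₂ : Cfsg.IrrCharacter G) (h : Cfsg.SameBlock M (ξ₁ : G → ℂ) (ξ₂ : G → ℂ)) :
    Cfsg.MemLocalIdeal M (Cfsg.classInner (tildeFun p χ) (ξ₁ : G → ℂ) / (ξ₁ : G → ℂ) 1
      - Cfsg.classInner (tildeFun p χ) (ξ₂ : G → ℂ) / (ξ₂ : G → ℂ) 1) := by
  rw [classInner_tildeFun_div (IsIrrCharacter.isCharacter ξ₁.2),
    classInner_tildeFun_div (IsIrrCharacter.isCharacter ξ₂.2), ← mul_sub]
  exact MemLocalIdeal.mul_left hM (ordCompl_unit hM).1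
    (cOmega_sub_memLocalIdeal hM ξ₁.2 ξ₂.2 h (pRegMat_mem_centerAlg hχcf)
      (pRegMat_mem_sMat hM hχS))

end tilde

end Cfsg.Agent.Lib.Helper6
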