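import Mathlib
import Cfsg.Agent.Lib.Helper6.DefectZero
import Cfsg.Agent.Lib.Helper6.GenCharOps

set_option autoImplicit false
set_option linter.unusedSectionVars false

namespace Cfsg.Agent.Lib.Helper6

open Module
open scoped ComplexConjugate

section

variable {G : Type*} [Group G] [Fintype G]

/-- The restriction to a nilpotent subgroup of `p ^ (a - b)` times the `p`-regular part of an
irreducible character of degree divisible by `p ^ b` is a generalized character. -/
theorem pRegPart_restrict {V : Type*} [AddCommGroup V] [Module ℂ V] [FiniteDimensional ℂ V]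
    (ρ : Representation ℂ G V) [ρ.IsIrreducible] (p b : ℕ) (hp : p.Prime)
    (hba : b ≤ (Nat.card G).factorization p) (hdeg : p ^ b ∣ finrank ℂ V)
    (E : Subgroup G) [Group.IsNilpotent E] [DecidablePred (fun g : G => p ∣ orderOf g)] :
    Cfsg.IsGeneralizedCharacter E
      (fun e : E => if p ∣ orderOf (e : G) then 0
        else ((p ^ ((Nat.card G).factorization p - b) : ℕ) : ℂ) * ρ.character e) := by
  classical
  have : Fact p.Prime := ⟨hp⟩
  have : Fintype E := Fintype.ofFinite E
  have : Fintype (Cfsg.IrrCharacter E) := Fintype.ofFinite _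
  obtain ⟨a, ha⟩ : ∃ a : ℕ, a = (Nat.card G).factorization p := ⟨_, rfl⟩
  rw [← ha] at hba ⊢
  have hG0 : Nat.card G ≠ 0 := Nat.card_pos.ne'
  have hn : p ^ a ∣ Nat.card G := by rw [ha]; exact Nat.ordProj_dvd _ _
  have hn' : ¬ p ^ (a + 1) ∣ Nat.card G := by
    rw [ha]; exact Nat.pow_succ_factorization_not_dvd hG0 hp
  obtain ⟨K, hKn, hKcop, hKidx⟩ := exists_normal_pcomplement_of_nilpotent (E := E) p
  set j := (Nat.card E).factorization p with hj
  have : Fintype K := Fintype.ofFinite K
  obtain ⟨P₀⟩ := (inferInstance : Nonempty (Sylow p E))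
  have hP₀card : Nat.card P₀ = p ^ j := Sylow.card_eq_multiplicity P₀
  have hdisj : Disjoint (P₀ : Subgroup E) K := by
    apply Subgroup.disjoint_of_coprime_natCard
    rw [hP₀card]
    exact (Nat.Coprime.pow_right j hKcop).symm
  have hP₀n : (P₀ : Subgroup E).Normal := inferInstance
  have hcent : ∀ k : K, p ^ j ∣ Nat.card (Subgroup.centralizer ({((k : E) : G)} : Set G)) := by
    intro k
    have hle : (P₀ : Subgroup E).map E.subtype ≤ Subgroup.centralizer ({((k : E) : G)} : Set G) := by
      rintro _ ⟨y, hy, rfl⟩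
      rw [Subgroup.mem_centralizer_iff]
      intro h hh
      rw [Set.mem_singleton_iff] at hh
      rw [hh]
      have hc := Subgroup.commute_of_normal_of_disjoint (P₀ : Subgroup E) K hP₀n hKn hdisj y k hy k.2
      have := congrArg (fun t : E => (t : G)) hc.eq
      exact this.symm
    have hcard : Nat.card ((P₀ : Subgroup E).map E.subtype) = p ^ j := by
      rw [← hP₀card]
      exact (Nat.card_congr (Subgroup.equivMapOfInjective _ _ E.subtype_injective).toEquiv).symm
    rw [← hcard]
    exact Subgroup.card_dvd_of_le hle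
  set χ := ρ.character with hχ
  have hχch : Cfsg.IsCharacter G χ := isCharacter_character ρ
  have hχE : Cfsg.IsCharacter E (fun e : E => χ e) := IsCharacter.restrict E hχch
  have hχEcf := IsCharacter.isClassFunction hχE
  have hχK : Cfsg.IsCharacter K (fun k : K => χ ((k : E) : G)) := IsCharacter.restrict K hχE
  set Ψ := Cfsg.indFun K (fun k : K => χ ((k : E) : G)) with hΨ
  have hΨch : Cfsg.IsCharacter E Ψ := IsCharacter.indFun K hχK
  have hΨval : ∀ e : E, Ψ e = if e ∈ K then (p ^ j : ℂ) * χ e else 0 := by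
    intro e
    rw [hΨ, indFun_restrict_normal_eq K hχEcf e, hKidx]
    push_cast
    rfl
  obtain ⟨m, hm, hmi⟩ := IsCharacter.exists_mult hΨch
  -- the group order
  obtain ⟨g', hg'⟩ := id hn
  have hg'cop : Nat.Coprime p g' := by
    rw [Nat.Prime.coprime_iff_not_dvd hp]
    rintro ⟨t, ht⟩
    apply hn'
    rw [hg', ht, pow_succ, ← mul_assoc]
    exact Dvd.intro _ rfl
  have hnb : p ^ b ∣ Nat.card G := (pow_dvd_pow p hba).trans hn
  have hg'div : Nat.card G / p ^ b = p ^ (a - b) * g' := by
    rw [hg']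
    have : p ^ a = p ^ b * p ^ (a - b) := by rw [← pow_add, Nat.add_sub_cancel' hba]
    rw [this, mul_assoc, Nat.mul_div_cancel_left _ (pow_pos hp.pos b)]
  have hdvd : ∀ ψ : Cfsg.IrrCharacter E, p ^ j ∣ p ^ (a - b) * m ψ := by
    intro ψ
    obtain ⟨dψ, σ, hσirr, hσ⟩ := ψ.2
    have h1 := hmi ψ
    rw [hΨ, Cfsg.Agent.S0146.result K _ _ (IsIrrCharacter.isClassFunction ψ.2)] at h1
    unfold Cfsg.classInner at h1
    have hy : ∀ k : K, ∃ y : ℂ, IsIntegral ℤ y ∧
        ((Nat.card G / p ^ b : ℕ) : ℂ) * χ ((k : E) : G) = (p ^ j : ℂ) * y :=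
      fun k => defect_zero_key ρ p b hp hnb hdeg _ j (hcent k)
    choose y hyint hyeq using hy
    set Y : ℂ := ∑ k : K, y k * conj ((ψ : E → ℂ) (k : E)) with hY
    have hYint : IsIntegral ℤ Y := by
      apply IsIntegral.sum
      intro k _
      apply IsIntegral.mul (hyint k)
      rw [← hσ]
      exact isIntegral_conj (isIntegral_character σ _)
    have hKc : (Nat.card K : ℂ) ≠ 0 := card_ne_zero_complex K
    have h2 : ((g' * Nat.card K * (p ^ (a - b) * m ψ) : ℕ) : ℂ) = (p ^ j : ℂ) * Y := by
      rw [hY, Finset.mul_sum]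
      push_cast
      rw [← h1]
      rw [show (g' : ℂ) * (Nat.card K : ℂ) * ((p : ℂ) ^ (a - b) * ((Nat.card K : ℂ)⁻¹ *
          ∑ k : K, χ ((k : E) : G) * conj ((ψ : E → ℂ) (k : E))))
          = ((p : ℂ) ^ (a - b) * (g' : ℂ)) * ∑ k : K, χ ((k : E) : G) * conj ((ψ : E → ℂ) (k : E)) by
        field_simp]
      rw [Finset.mul_sum]
      apply Finset.sum_congr rfl
      intro k _
      rw [← mul_assoc, ← mul_assoc, ← hyeq k, hg'div]
      push_cast
      ring
    have h3 : IsIntegral ℤ (((g' * Nat.card K * (p ^ (a - b) * m ψ) : ℕ) : ℂ) / ((p ^ j : ℕ) : ℂ)) := by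
      rw [h2]
      push_cast
      have hpj0 : (p ^ j : ℂ) ≠ 0 := pow_ne_zero _ (by exact_mod_cast hp.ne_zero)
      rw [mul_div_assoc, mul_comm, div_mul_cancel₀ _ hpj0]
      exact hYint
    have h4 := nat_dvd_of_isIntegral_div (pow_ne_zero j hp.ne_zero) h3
    have hcop : Nat.Coprime (p ^ j) (g' * Nat.card K) := by
      apply Nat.Coprime.pow_left
      exact Nat.Coprime.mul_right hg'cop hKcop.symm
    exact hcop.dvd_of_dvd_mul_left h4
  -- the quotient character
  have heq : (fun e : E => if p ∣ orderOf (e : G) then 0 else ((p ^ (a - b) : ℕ) : ℂ) * χ e)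
      = ∑ ψ : Cfsg.IrrCharacter E, (p ^ (a - b) * m ψ / p ^ j) • (ψ : E → ℂ) := by
    funext e
    have hpj0 : (p ^ j : ℂ) ≠ 0 := pow_ne_zero _ (by exact_mod_cast hp.ne_zero)
    have h1 : ((p ^ (a - b) : ℕ) : ℂ) * Ψ e
        = (p ^ j : ℂ) * (∑ ψ : Cfsg.IrrCharacter E, (p ^ (a - b) * m ψ / p ^ j) • (ψ : E → ℂ)) e := by
      conv_lhs => rw [hm]
      rw [Finset.sum_apply, Finset.sum_apply, Finset.mul_sum, Finset.mul_sum]
      apply Finset.sum_congr rfl
      intro ψ _
      obtain ⟨t, ht⟩ := hdvd ψ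
      rw [Pi.smul_apply, Pi.smul_apply, ht, Nat.mul_div_cancel_left _ (pow_pos hp.pos j),
        nsmul_eq_mul, nsmul_eq_mul]
      have ht' : ((p ^ (a - b) : ℕ) : ℂ) * (m ψ : ℂ) = (p ^ j : ℂ) * (t : ℂ) := by
        exact_mod_cast congrArg (Nat.cast : ℕ → ℂ) ht
      rw [← mul_assoc, ht']
      ring
    rw [hΨval e] at h1
    have hmem := mem_pcomplement_iff hKn hKcop hKidx e
    rw [← Subgroup.orderOf_coe] at hmem
    by_cases hx : p ∣ orderOf (e : G)
    · rw [if_pos hx]
      rw [if_neg (fun h => hmem.mp h hx), mul_zero] at h1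
      rcases mul_eq_zero.mp h1.symm with h | h
      · exact absurd h hpj0
      · exact h.symm
    · rw [if_neg hx]
      rw [if_pos (hmem.mpr hx)] at h1
      apply mul_left_cancel₀ hpj0
      rw [← h1]
      ring
  rw [heq]
  apply IsCharacter.isGeneralizedCharacter
  apply IsCharacter.sum
  intro ψ _
  exact IsCharacter.nsmul (IsIrrCharacter.isCharacter ψ.2) _

/-- `p ^ (a - b)` times the `p`-regular part of an irreducible character of degree divisible
by `p ^ b` is a generalized character. -/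
theorem pRegPart_isGeneralizedCharacter {V : Type*} [AddCommGroup V] [Module ℂ V]
    [FiniteDimensional ℂ V] (ρ : Representation ℂ G V) [ρ.IsIrreducible] (p b : ℕ) (hp : p.Prime)
    (hba : b ≤ (Nat.card G).factorization p) (hdeg : p ^ b ∣ finrank ℂ V)
    [DecidablePred (fun g : G => p ∣ orderOf g)] :
    Cfsg.IsGeneralizedCharacter G
      (fun g : G => if p ∣ orderOf g then 0
        else ((p ^ ((Nat.card G).factorization p - b) : ℕ) : ℂ) * ρ.character g) := by
  classical
  have hχcf := IsIrrCharacter.isClassFunction (isIrrCharacter_character ρ)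
  apply isGeneralizedCharacter_of_restrict
  · intro g h
    have h1 : orderOf (h * g * h⁻¹) = orderOf g := by
      have := (MulAut.conj h).orderOf_eq g
      rwa [MulAut.conj_apply] at this
    simp only [h1, hχcf g h]
  · rintro E ⟨q, hq, hEq⟩
    have hnil : Group.IsNilpotent E := IsElementary.isNilpotent hq hEq
    exact pRegPart_restrict ρ p b hp hba hdeg E

end

end Cfsg.Agent.Lib.Helper6
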