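import Mathlib
import Cfsg.Prelude.Def_Blocks
import Cfsg.Agent.Lib.Helper6.BlkTilde
import Cfsg.Agent.Lib.Helper6.GenChar
import Cfsg.Agent.Lib.Helper6.GenCharOps
import Cfsg.Agent.Lib.Helper6.Constituent
import Cfsg.Agent.Lib.Helper6.BlkCover3
import Cfsg.Agent.S0961
import Cfsg.Agent.S4425

set_option autoImplicit false
set_option linter.unusedSectionVars false
open Cfsg

namespace Cfsg.Agent.Lib.Helper6

open scoped ComplexConjugate

section arith

variable {p : ℕ} {M : Ideal Cfsg.AlgInt}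

theorem memLocalIdeal_div_of_pow_succ_dvd (hM : Cfsg.IsPModular p M) (n : ℤ) (m : ℕ) (hm : m ≠ 0)
    (h : (p : ℤ) ^ (m.factorization p + 1) ∣ n) : Cfsg.MemLocalIdeal M ((n : ℂ) / (m : ℂ)) := by
  have hp : p.Prime := hM.1
  obtain ⟨n₂, rfl⟩ := h
  have hm' : ¬ p ∣ m / p ^ m.factorization p := Nat.not_dvd_ordCompl hp hm
  have hmeq : p ^ m.factorization p * (m / p ^ m.factorization p) = m :=
    Nat.ordProj_mul_ordCompl_eq_self m p
  have hp0 : (p : ℂ) ≠ 0 := by exact_mod_cast hp.ne_zero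
  have hm0 : (m : ℂ) ≠ 0 := by exact_mod_cast hm
  have hc0 : ((m / p ^ m.factorization p : ℕ) : ℂ) ≠ 0 := by
    intro h0
    apply hm0
    rw [← hmeq]
    push_cast
    rw [h0, mul_zero]
  have hmC : (m : ℂ) = (p : ℂ) ^ (m.factorization p) * ((m / p ^ m.factorization p : ℕ) : ℂ) := by
    exact_mod_cast congrArg (Nat.cast : ℕ → ℂ) hmeq.symm
  have : (((p : ℤ) ^ (m.factorization p + 1) * n₂ : ℤ) : ℂ) / (m : ℂ)
      = (p : ℂ) * ((n₂ : ℂ) * ((m / p ^ m.factorization p : ℕ) : ℂ)⁻¹) := by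
    push_cast
    generalize ((m / p ^ m.factorization p : ℕ) : ℂ) = c at hmC hc0 ⊢
    generalize m.factorization p = t at hmC ⊢
    rw [hmC, pow_succ]
    field_simp
  rw [this]
  exact MemLocalIdeal.mul_right hM (memLocalIdeal_prime hM)
    (MemLocalRing.mul hM (memLocalRing_intCast hM _) (memLocalRing_inv_natCast hM hm'))

end arith

section height

variable {G : Type*} [Group G] [Fintype G] [DecidableEq G]
variable {p : ℕ} {M : Ideal Cfsg.AlgInt}

theorem tildeFun_eq (χ : G → ℂ) : tildeFun p χ = fun x : G => if p ∣ orderOf x then (0 : ℂ)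
    else ((p ^ (Nat.card G).factorization p : ℕ) : ℂ) * χ x := rfl

/-- integer coefficients of `χ̃`, vanishing outside the block -/
theorem tildeFun_int_coeff (hM : Cfsg.IsPModular p M) [Fact p.Prime]
    [Fintype (Cfsg.IrrCharacter G)] (χ : Cfsg.IrrCharacter G) :
    ∃ c : Cfsg.IrrCharacter G → ℤ,
      tildeFun p (χ : G → ℂ) = ∑ β, (c β : ℂ) • (β : G → ℂ) ∧
      (∀ β : Cfsg.IrrCharacter G, Cfsg.classInner (tildeFun p (χ : G → ℂ)) (β : G → ℂ) = c β) ∧
      ∀ β : Cfsg.IrrCharacter G, β ∉ Cfsg.blockOf M (χ : G → ℂ) → c β = 0 := by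
  have hgen := Cfsg.Agent.S0961.result p χ
  obtain ⟨c, hc, hci⟩ := IsGeneralizedCharacter.exists_int_coeff hgen
  refine ⟨c, hc, hci, ?_⟩
  intro ψ hψ
  have h1 := hci ψ
  have h2 := sum_pRegular_eq_zero_of_not_sameBlock hM χ ψ hψ
  have h3 : Cfsg.classInner (fun x : G => if p ∣ orderOf x then (0 : ℂ) else
      ((p ^ (Nat.card G).factorization p : ℕ) : ℂ) * (χ : G → ℂ) x) (ψ : G → ℂ) = 0 := by
    unfold Cfsg.classInner
    have h4 : ∑ g : G, (if p ∣ orderOf g then (0 : ℂ) else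
        ((p ^ (Nat.card G).factorization p : ℕ) : ℂ) * (χ : G → ℂ) g) *
          (starRingEnd ℂ) ((ψ : G → ℂ) g)
        = ((p ^ (Nat.card G).factorization p : ℕ) : ℂ) *
          ∑ᶠ x ∈ {x : G | ¬ p ∣ orderOf x}, (χ : G → ℂ) x * (starRingEnd ℂ) ((ψ : G → ℂ) x) := by
      rw [finsum_mem_eq_finite_toFinset_sum _ (Set.toFinite _), Finset.mul_sum]
      rw [← Finset.sum_subset (Finset.subset_univ _)]
      · apply Finset.sum_congr rfl
        intro x hx
        rw [Set.Finite.mem_toFinset, Set.mem_ofPred_eq] at hx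
        rw [if_neg hx]
        ring
      · intro x _ hx
        rw [Set.Finite.mem_toFinset, Set.mem_ofPred_eq, not_not] at hx
        rw [if_pos hx, zero_mul]
    rw [h4, h2, mul_zero, mul_zero]
  rw [h3] at h1
  exact_mod_cast h1.symm

theorem classInner_tildeFun_symm (χ ξ : G → ℂ) :
    Cfsg.classInner (tildeFun p ξ) χ = conj (Cfsg.classInner (tildeFun p χ) ξ) := by
  unfold Cfsg.classInner tildeFun
  rw [map_mul, map_sum, map_inv₀, Complex.conj_natCast]
  congr 1
  apply Finset.sum_congr rfl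
  intro g _
  split_ifs
  · simp
  · rw [map_mul, map_mul, Complex.conj_conj, Complex.conj_natCast]
    ring

theorem blockHeight_eq_zero_iff (B : Set (Cfsg.IrrCharacter G)) (χ : Cfsg.IrrCharacter G)
    (hχ : χ ∈ B) :
    Cfsg.blockHeight p B (χ : G → ℂ) = 0 ↔
      ∀ ψ ∈ B, (Cfsg.charDegree (χ : G → ℂ)).factorization p
        ≤ (Cfsg.charDegree (ψ : G → ℂ)).factorization p := by
  unfold Cfsg.blockHeight
  rw [Nat.sub_eq_zero_iff_le]
  constructor
  · intro h ψ hψ
    exact h.trans (Nat.sInf_le ⟨ψ, hψ, rfl⟩)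
  · intro h
    have hne : ((fun ψ : Cfsg.IrrCharacter G => (Cfsg.charDegree (ψ : G → ℂ)).factorization p) ''
        B).Nonempty := ⟨_, χ, hχ, rfl⟩
    obtain ⟨ψ, hψ, hψe⟩ := Nat.sInf_mem hne
    rw [← hψe]
    exact h ψ hψ

theorem exists_min_degree (B : Set (Cfsg.IrrCharacter G)) (χ : Cfsg.IrrCharacter G)
    (hχ : χ ∈ B) : ∃ ξ₀ ∈ B, ∀ ψ ∈ B, (Cfsg.charDegree (ξ₀ : G → ℂ)).factorization p
        ≤ (Cfsg.charDegree (ψ : G → ℂ)).factorization p := by
  have hne : ((fun ψ : Cfsg.IrrCharacter G => (Cfsg.charDegree (ψ : G → ℂ)).factorization p) ''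
      B).Nonempty := ⟨_, χ, hχ, rfl⟩
  obtain ⟨ψ, hψ, hψe⟩ := Nat.sInf_mem hne
  refine ⟨ψ, hψ, ?_⟩
  intro ψ' hψ'
  show (fun ψ : Cfsg.IrrCharacter G => (Cfsg.charDegree (ψ : G → ℂ)).factorization p) ψ ≤ _
  rw [hψe]
  exact Nat.sInf_le ⟨ψ', hψ', rfl⟩

theorem charDegree_ne_zero (ξ : Cfsg.IrrCharacter G) : Cfsg.charDegree (ξ : G → ℂ) ≠ 0 := by
  intro h
  apply IsIrrCharacter.apply_one_ne_zero ξ.2
  rw [IsCharacter.apply_one_eq_charDegree (IsIrrCharacter.isCharacter ξ.2), h, Nat.cast_zero]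

/-- Brauer's criterion: `χ` has height zero iff `[χ̃, χ] / χ(1)` is a unit of the local ring -/
theorem blockHeight_eq_zero_iff_tilde (hM : Cfsg.IsPModular p M) [Fact p.Prime]
    (χ₀ χ : Cfsg.IrrCharacter G) (hχ : χ ∈ Cfsg.blockOf M (χ₀ : G → ℂ)) :
    Cfsg.blockHeight p (Cfsg.blockOf M (χ₀ : G → ℂ)) (χ : G → ℂ) = 0 ↔
      ¬ Cfsg.MemLocalIdeal M (Cfsg.classInner (tildeFun p (χ : G → ℂ)) (χ : G → ℂ)
        / (χ : G → ℂ) 1) := by
  classical
  have hp : p.Prime := hM.1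
  haveI : Fintype (Cfsg.IrrCharacter G) := Fintype.ofFinite _
  have hBeq : Cfsg.blockOf M (χ₀ : G → ℂ) = Cfsg.blockOf M (χ : G → ℂ) :=
    blockOf_eq_of_mem hM hχ
  obtain ⟨c, hc, hci, hc0⟩ := tildeFun_int_coeff hM χ
  have hχcf := IsIrrCharacter.isClassFunction χ.2
  have hχS : ∀ g, Cfsg.MemLocalRing M ((χ : G → ℂ) g) := fun g =>
    memLocalRing_of_isIntegral hM (IsCharacter.isIntegral_apply (IsIrrCharacter.isCharacter χ.2) g)
  have hdeg : ∀ ψ : Cfsg.IrrCharacter G, (ψ : G → ℂ) 1 = (Cfsg.charDegree (ψ : G → ℂ) : ℂ) :=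
    fun ψ => IsCharacter.apply_one_eq_charDegree (IsIrrCharacter.isCharacter ψ.2)
  rw [blockHeight_eq_zero_iff _ χ hχ]
  constructor
  · intro hmin hcon
    -- all coefficients are divisible by `p ^ (b + 1)`
    have hdiv : ∀ ψ : Cfsg.IrrCharacter G,
        (p : ℤ) ^ ((Cfsg.charDegree (χ : G → ℂ)).factorization p + 1) ∣ c ψ := by
      intro ψ
      by_cases hψ : ψ ∈ Cfsg.blockOf M (χ₀ : G → ℂ)
      · have hsb : Cfsg.SameBlock M (ψ : G → ℂ) (χ : G → ℂ) := by
          rw [hBeq] at hψ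
          exact SameBlock.symm' hψ
        have h1 := classInner_tildeFun_div_sub hM hχcf hχS ψ χ hsb
        have h2 := MemLocalIdeal.add hM h1 hcon
        rw [sub_add_cancel, hci ψ, hdeg ψ] at h2
        have h3 := pow_factorization_succ_dvd_of_memLocalIdeal_div hM (c ψ) _
          (charDegree_ne_zero ψ) h2
        exact (pow_dvd_pow (p : ℤ) (Nat.succ_le_succ (hmin ψ hψ))).trans h3
      · rw [hBeq] at hψ
        rw [hc0 ψ hψ]
        exact dvd_zero _
    choose c' hc' using hdiv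
    apply (Cfsg.Agent.S4425.result p χ).2
    have heq : (fun x : G => if p ∣ orderOf x then (0 : ℂ) else
        ((p ^ (Nat.card G).factorization p : ℕ) : ℂ) /
          ((p ^ ((Cfsg.charDegree (χ : G → ℂ)).factorization p + 1) : ℕ) : ℂ) * (χ : G → ℂ) x)
        = ∑ β : Cfsg.IrrCharacter G, (c' β : ℂ) • (β : G → ℂ) := by
      have hq0 : ((p ^ ((Cfsg.charDegree (χ : G → ℂ)).factorization p + 1) : ℕ) : ℂ) ≠ 0 := by
        exact_mod_cast (pow_pos hp.pos _).ne'
      funext x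
      have h1 := congrFun hc x
      rw [tildeFun_eq, Finset.sum_apply] at h1
      simp only at h1
      rw [Finset.sum_apply]
      have h2 : ∑ β : Cfsg.IrrCharacter G, ((c β : ℂ) • (β : G → ℂ)) x
          = ((p ^ ((Cfsg.charDegree (χ : G → ℂ)).factorization p + 1) : ℕ) : ℂ) *
            ∑ β : Cfsg.IrrCharacter G, ((c' β : ℂ) • (β : G → ℂ)) x := by
        rw [Finset.mul_sum]
        apply Finset.sum_congr rfl
        intro β _
        rw [Pi.smul_apply, Pi.smul_apply, smul_eq_mul, smul_eq_mul, hc' β]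
        push_cast
        ring
      rw [h2] at h1
      split_ifs at h1 ⊢ with hx
      · rcases mul_eq_zero.mp h1.symm with h | h
        · exact absurd h hq0
        · exact h.symm
      · rw [div_mul_eq_mul_div, h1, mul_div_cancel_left₀ _ hq0]
    rw [heq]
    apply IsGeneralizedCharacter.sum
    intro β _
    exact IsGeneralizedCharacter.intCast_smul
      (IsCharacter.isGeneralizedCharacter (IsIrrCharacter.isCharacter β.2)) _
  · intro hunit
    obtain ⟨ξ₀, hξ₀B, hξ₀min⟩ := exists_min_degree (p := p) (Cfsg.blockOf M (χ₀ : G → ℂ)) χ hχ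
    intro ψ hψ
    refine le_trans ?_ (hξ₀min ψ hψ)
    -- `[χ̃, ξ₀] / ξ₀(1)` is a unit
    have hsb : Cfsg.SameBlock M (ξ₀ : G → ℂ) (χ : G → ℂ) := by
      rw [hBeq] at hξ₀B
      exact SameBlock.symm' hξ₀B
    have h1 := classInner_tildeFun_div_sub hM hχcf hχS ξ₀ χ hsb
    have hunit₀ : ¬ Cfsg.MemLocalIdeal M (Cfsg.classInner (tildeFun p (χ : G → ℂ)) (ξ₀ : G → ℂ)
        / (ξ₀ : G → ℂ) 1) := by
      intro hcon
      apply hunit
      have := MemLocalIdeal.sub hM hcon h1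
      rw [sub_sub_cancel] at this
      exact this
    rw [hci ξ₀, hdeg ξ₀] at hunit₀
    have hnd : ¬ (p : ℤ) ^ ((Cfsg.charDegree (ξ₀ : G → ℂ)).factorization p + 1) ∣ c ξ₀ := by
      intro hd
      exact hunit₀ (memLocalIdeal_div_of_pow_succ_dvd hM _ _ (charDegree_ne_zero ξ₀) hd)
    -- `[ξ̃₀, χ] / χ(1)` is a local integer
    have hξ₀cf := IsIrrCharacter.isClassFunction ξ₀.2
    have hξ₀S : ∀ g, Cfsg.MemLocalRing M ((ξ₀ : G → ℂ) g) := fun g =>
      memLocalRing_of_isIntegral hM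
        (IsCharacter.isIntegral_apply (IsIrrCharacter.isCharacter ξ₀.2) g)
    have h2 := classInner_tildeFun_div_memLocalRing hM hξ₀cf hξ₀S χ
    rw [classInner_tildeFun_symm, hci ξ₀, map_intCast, hdeg χ] at h2
    have h3 := pow_factorization_dvd_of_memLocalRing_div hM (c ξ₀) _ (charDegree_ne_zero χ) h2
    by_contra hlt
    push Not at hlt
    exact hnd ((pow_dvd_pow (p : ℤ) hlt).trans h3)

/-- the valuation form of the unit condition -/
theorem exists_int_padicVal_iff (hM : Cfsg.IsPModular p M) [Fact p.Prime]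
    (χ ξ : Cfsg.IrrCharacter G) (hξ : Cfsg.SameBlock M (χ : G → ℂ) (ξ : G → ℂ)) :
    (∃ n : ℤ, Cfsg.classInner (tildeFun p (χ : G → ℂ)) (ξ : G → ℂ) = (n : ℂ) ∧ n ≠ 0 ∧
      padicValInt p n = (Cfsg.charDegree (ξ : G → ℂ)).factorization p) ↔
    ¬ Cfsg.MemLocalIdeal M (Cfsg.classInner (tildeFun p (χ : G → ℂ)) (χ : G → ℂ)
        / (χ : G → ℂ) 1) := by
  classical
  haveI : Fintype (Cfsg.IrrCharacter G) := Fintype.ofFinite _
  obtain ⟨c, hc, hci, hc0⟩ := tildeFun_int_coeff hM χ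
  have hχcf := IsIrrCharacter.isClassFunction χ.2
  have hχS : ∀ g, Cfsg.MemLocalRing M ((χ : G → ℂ) g) := fun g =>
    memLocalRing_of_isIntegral hM (IsCharacter.isIntegral_apply (IsIrrCharacter.isCharacter χ.2) g)
  have hdeg : (ξ : G → ℂ) 1 = (Cfsg.charDegree (ξ : G → ℂ) : ℂ) :=
    IsCharacter.apply_one_eq_charDegree (IsIrrCharacter.isCharacter ξ.2)
  have h1 := classInner_tildeFun_div_sub hM hχcf hχS ξ χ (SameBlock.symm' hξ)
  have hiff : Cfsg.MemLocalIdeal M (Cfsg.classInner (tildeFun p (χ : G → ℂ)) (χ : G → ℂ)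
        / (χ : G → ℂ) 1) ↔ Cfsg.MemLocalIdeal M (Cfsg.classInner (tildeFun p (χ : G → ℂ))
          (ξ : G → ℂ) / (ξ : G → ℂ) 1) := by
    constructor
    · intro h
      have := MemLocalIdeal.add hM h1 h
      rwa [sub_add_cancel] at this
    · intro h
      have := MemLocalIdeal.sub hM h h1
      rwa [sub_sub_cancel] at this
  rw [hiff, hci ξ, hdeg]
  have hS := classInner_tildeFun_div_memLocalRing hM hχcf hχS ξ
  rw [hci ξ, hdeg] at hS
  constructor
  · rintro ⟨n, hn, hn0, hv⟩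
    have hn' : c ξ = n := by exact_mod_cast hn
    rw [hn']
    apply not_memLocalIdeal_div_of_not_dvd hM n _ (charDegree_ne_zero ξ)
    · rw [padicValInt_dvd_iff]; right; rw [hv]
    · rw [padicValInt_dvd_iff]
      push Not
      exact ⟨hn0, by rw [hv]; exact Nat.lt_succ_self _⟩
  · intro hunit
    refine ⟨c ξ, rfl, ?_, ?_⟩
    · intro h0
      apply hunit
      rw [h0]
      simp only [Int.cast_zero, zero_div]
      exact memLocalIdeal_zero hM
    · have hn0 : c ξ ≠ 0 := by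
        intro h0
        apply hunit
        rw [h0]
        simp only [Int.cast_zero, zero_div]
        exact memLocalIdeal_zero hM
      have h2 := pow_factorization_dvd_of_memLocalRing_div hM (c ξ) _ (charDegree_ne_zero ξ) hS
      have h3 : ¬ (p : ℤ) ^ ((Cfsg.charDegree (ξ : G → ℂ)).factorization p + 1) ∣ c ξ := by
        intro hd
        exact hunit (memLocalIdeal_div_of_pow_succ_dvd hM _ _ (charDegree_ne_zero ξ) hd)
      rw [padicValInt_dvd_iff] at h2 h3
      push Not at h3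
      rcases h2 with h2 | h2
      · exact absurd h2 hn0
      · omega

end height

end Cfsg.Agent.Lib.Helper6
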