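import Mathlib
import Cfsg.Prelude.Def_Blocks
import Cfsg.Agent.Lib.Helper6.BlkHeightTilde
import Cfsg.Agent.Lib.Helper6.BlkOrthFull

set_option autoImplicit false
set_option linter.unusedSectionVars false
open Cfsg

namespace Cfsg.Agent.Lib.Helper6

open scoped ComplexConjugate

section

variable {G : Type*} [Group G] [Fintype G] [DecidableEq G]
variable {p : ℕ} {M : Ideal Cfsg.AlgInt}
variable (H : Subgroup G) [Fintype H]

theorem resMat_pRegMat (χ : G → ℂ) : resMat H (pRegMat p χ) = pRegMat p (resFun H χ) := by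
  unfold pRegMat
  rw [resMat_regMat]
  congr 1
  funext h
  simp only [resFun, Subgroup.orderOf_coe, Subgroup.coe_inv]

/-- `cOmega` of the `p`-regular matrix is the normalised tilde inner product, up to a unit -/
theorem cOmega_pRegMat_memLocalIdeal_iff (hM : Cfsg.IsPModular p M) {χ : G → ℂ}
    (hχcf : Cfsg.IsClassFunction G χ) (hχS : ∀ g, Cfsg.MemLocalRing M (χ g))
    (ξ : Cfsg.IrrCharacter G) :
    Cfsg.MemLocalIdeal M (cOmega (ξ : G → ℂ) (pRegMat p χ)) ↔
      Cfsg.MemLocalIdeal M (Cfsg.classInner (tildeFun p χ) (ξ : G → ℂ) / (ξ : G → ℂ) 1) := by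
  rw [classInner_tildeFun_div (IsIrrCharacter.isCharacter ξ.2)]
  have hS := cOmega_memLocalRing hM ξ.2 (pRegMat_mem_centerAlg hχcf) (pRegMat_mem_sMat hM hχS)
  constructor
  · intro h
    exact MemLocalIdeal.mul_left hM (ordCompl_unit hM).1 h
  · intro h
    rcases memLocalIdeal_or_of_mul hM (ordCompl_unit (G := G) hM).1 hS h with h1 | h1
    · exact absurd h1 (ordCompl_unit hM).2
    · exact h1

/-- the key congruence for induced blocks -/
theorem tilde_induced_congr (hM : Cfsg.IsPModular p M) {b : Set (Cfsg.IrrCharacter H)}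
    {B₀ : Set (Cfsg.IrrCharacter G)} (hind : Cfsg.IsInducedBlock M H b B₀)
    {χ : G → ℂ} (hχcf : Cfsg.IsClassFunction G χ) (hχS : ∀ g, Cfsg.MemLocalRing M (χ g))
    (ψ : Cfsg.IrrCharacter H) (hψ : ψ ∈ b) (χ' : Cfsg.IrrCharacter G) (hχ' : χ' ∈ B₀) :
    Cfsg.MemLocalIdeal M (Cfsg.classInner (tildeFun p (resFun H χ)) (ψ : H → ℂ) / (ψ : H → ℂ) 1) ↔
      Cfsg.MemLocalIdeal M (Cfsg.classInner (tildeFun p χ) (χ' : G → ℂ) / (χ' : G → ℂ) 1) := by
  classical
  have hrcf : Cfsg.IsClassFunction H (resFun H χ) := resFun_isClassFunction H hχcf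
  have hrS : ∀ h : H, Cfsg.MemLocalRing M (resFun H χ h) := fun h => hχS _
  rw [← cOmega_pRegMat_memLocalIdeal_iff hM hrcf hrS ψ,
    ← cOmega_pRegMat_memLocalIdeal_iff hM hχcf hχS χ', ← resMat_pRegMat]
  have h1 := IsInducedBlock.cOmega_sub H hM hind ψ hψ χ' hχ' (pRegMat_mem_centerAlg hχcf)
    (pRegMat_mem_sMat (p := p) hM hχS)
  constructor
  · intro h
    have := MemLocalIdeal.sub hM h h1
    rwa [sub_sub_cancel] at this
  · intro h
    have := MemLocalIdeal.add hM h1 h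
    rwa [sub_add_cancel] at this

/-- S4431 core -/
theorem tilde_induced_criterion (hM : Cfsg.IsPModular p M) [Fact p.Prime]
    {b : Set (Cfsg.IrrCharacter H)}
    {B₀ : Set (Cfsg.IrrCharacter G)} (hind : Cfsg.IsInducedBlock M H b B₀)
    (χ : Cfsg.IrrCharacter G) (ψ : Cfsg.IrrCharacter H) (hψ : ψ ∈ b) :
    (χ ∉ B₀ → Cfsg.MemLocalIdeal M (Cfsg.classInner (tildeFun p (resFun H (χ : G → ℂ)))
      (ψ : H → ℂ) / (ψ : H → ℂ) 1)) ∧
    (χ ∈ B₀ → Cfsg.blockHeight p B₀ (χ : G → ℂ) = 0 →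
      ¬ Cfsg.MemLocalIdeal M (Cfsg.classInner (tildeFun p (resFun H (χ : G → ℂ)))
      (ψ : H → ℂ) / (ψ : H → ℂ) 1)) := by
  classical
  haveI : Fintype (Cfsg.IrrCharacter G) := Fintype.ofFinite _
  have hχcf := IsIrrCharacter.isClassFunction χ.2
  have hχS : ∀ g, Cfsg.MemLocalRing M ((χ : G → ℂ) g) := fun g =>
    memLocalRing_of_isIntegral hM (IsCharacter.isIntegral_apply (IsIrrCharacter.isCharacter χ.2) g)
  obtain ⟨χ₁, hB₀⟩ := hind.2.1
  constructor
  · intro hχ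
    have hχ₁ : χ₁ ∈ B₀ := by rw [hB₀]; exact sameBlock_refl hM _
    rw [tilde_induced_congr H hM hind hχcf hχS ψ hψ χ₁ hχ₁]
    obtain ⟨c, -, hci, hc0⟩ := tildeFun_int_coeff hM χ
    have : χ₁ ∉ Cfsg.blockOf M (χ : G → ℂ) := by
      intro hmem
      apply hχ
      rw [hB₀]
      exact SameBlock.symm' hmem
    rw [hci χ₁, hc0 χ₁ this]
    simp only [Int.cast_zero, zero_div]
    exact memLocalIdeal_zero hM
  · intro hχ h0
    rw [tilde_induced_congr H hM hind hχcf hχS ψ hψ χ hχ]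
    rw [hB₀] at hχ h0
    exact (blockHeight_eq_zero_iff_tilde hM χ₁ χ hχ).mp h0

end

end Cfsg.Agent.Lib.Helper6
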