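import Mathlib
import Cfsg.Agent.Lib.Helper6.BlkPrincipalSum
import Cfsg.Agent.Lib.Helper6.BlkPrincipal
import Cfsg.Agent.Lib.Helper6.BlkBrauer
import Cfsg.Agent.Lib.Helper6.BlkCover
import Cfsg.Agent.Lib.Helper6.BlkOrthFull
import Cfsg.Agent.Lib.Helper6.BlkSections
import Cfsg.Agent.S0936

set_option autoImplicit false
set_option linter.unusedSectionVars false
open Cfsg

namespace Cfsg.Agent.Lib.Helper6

open scoped ComplexConjugate

section

variable {G : Type*} [Group G] [Finite G]

/-- For a `p`-element `z`, the sum of `|ζ z|²` over the principal block of `G` is the sum of the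
squares of the degrees over the principal block of `C_G(z)`. -/
theorem principal_sum_sq_pElement (p : ℕ) [Fact p.Prime] (M : Ideal Cfsg.AlgInt)
    (hM : Cfsg.IsPModular p M) (z : G) (hz : ∃ k : ℕ, orderOf z = p ^ k) :
    ∑ᶠ ζ ∈ Cfsg.principalBlock M G, (ζ : G → ℂ) z * conj ((ζ : G → ℂ) z)
      = ∑ᶠ ψ ∈ Cfsg.principalBlock M (Subgroup.centralizer ({z} : Set G)),
        ((Cfsg.charDegree (ψ : Subgroup.centralizer ({z} : Set G) → ℂ) : ℕ) : ℂ) ^ 2 := by
  classical
  have : Fintype G := Fintype.ofFinite G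
  have hp : p.Prime := hM.1
  have : Fintype (Subgroup.centralizer ({z} : Set G)) := Fintype.ofFinite _
  have : Fintype (Cfsg.IrrCharacter G) := Fintype.ofFinite _
  have : Fintype (Cfsg.IrrCharacter (Subgroup.centralizer ({z} : Set G))) := Fintype.ofFinite _
  have hzC : z ∈ Subgroup.centralizer ({z} : Set G) := by rw [mem_centralizer_singleton_iff]
  have hP : IsPGroup p (Subgroup.zpowers z) := by
    obtain ⟨k, hk⟩ := hz
    apply IsPGroup.of_card (n := k)
    rw [Nat.card_zpowers, hk]
  have hPH : Subgroup.zpowers z ≤ Subgroup.centralizer ({z} : Set G) := by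
    rw [Subgroup.zpowers_le]; exact hzC
  have hCH : Subgroup.centralizer (Subgroup.zpowers z : Set G)
      ≤ Subgroup.centralizer ({z} : Set G) := by
    apply Subgroup.centralizer_le
    intro g hg
    rw [Set.mem_singleton_iff] at hg
    rw [hg]
    exact Subgroup.mem_zpowers z
  have hHN : Subgroup.centralizer ({z} : Set G)
      ≤ Subgroup.normalizer (Subgroup.zpowers z : Set G) :=
    centralizer_singleton_le_normalizer_zpowers z
  have hdef : ∀ b : Set (Cfsg.IrrCharacter (Subgroup.centralizer ({z} : Set G))),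
      Cfsg.IsPBlock M b → Cfsg.InducedBlockDefined M (Subgroup.centralizer ({z} : Set G)) b :=
    fun b hb => inducedBlockDefined_of_centralizer_le (Subgroup.zpowers z) _ hM hP hPH hCH hHN b hb
  have hind : Cfsg.IsInducedBlock M (Subgroup.centralizer ({z} : Set G))
      (Cfsg.blockOf M ((oneIrr (Subgroup.centralizer ({z} : Set G)) :
        Cfsg.IrrCharacter (Subgroup.centralizer ({z} : Set G))) :
          Subgroup.centralizer ({z} : Set G) → ℂ)) (Cfsg.principalBlock M G) :=
    (Cfsg.Agent.S0936.result p M hM _ _ (hdef _ ⟨_, rfl⟩)).mpr rfl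
  have huniq : ∀ ψ₀ : Cfsg.IrrCharacter (Subgroup.centralizer ({z} : Set G)),
      Cfsg.IsInducedBlock M (Subgroup.centralizer ({z} : Set G))
        (Cfsg.blockOf M (ψ₀ : Subgroup.centralizer ({z} : Set G) → ℂ)) (Cfsg.principalBlock M G) →
      Cfsg.blockOf M (ψ₀ : Subgroup.centralizer ({z} : Set G) → ℂ)
        = Cfsg.blockOf M ((oneIrr (Subgroup.centralizer ({z} : Set G)) :
        Cfsg.IrrCharacter (Subgroup.centralizer ({z} : Set G))) :
          Subgroup.centralizer ({z} : Set G) → ℂ) := by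
    intro ψ₀ h
    exact (Cfsg.Agent.S0936.result p M hM _ _ ⟨_, h⟩).mp h
  have hy : ¬ p ∣ orderOf (1 : Subgroup.centralizer ({z} : Set G)) := by
    rw [orderOf_one]
    exact hp.one_lt.ne' ∘ Nat.dvd_one.mp
  have h1 := sum_blockPart_shift_sq hM z hz (Subgroup.centralizer ({z} : Set G)) rfl
    (oneIrr (Subgroup.centralizer ({z} : Set G))) 1 hy
  have h2 : ∀ ζ : Cfsg.IrrCharacter G, Cfsg.blockPart
      (Cfsg.blockOf M ((oneIrr (Subgroup.centralizer ({z} : Set G)) :
      Cfsg.IrrCharacter (Subgroup.centralizer ({z} : Set G))) :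
        Subgroup.centralizer ({z} : Set G) → ℂ))
      (fun c : Subgroup.centralizer ({z} : Set G) => (ζ : G → ℂ) (z * (c : G))) 1
      = if ζ ∈ Cfsg.principalBlock M G then (ζ : G → ℂ) z else 0 := fun ζ => by
    have := blockPart_shift_of_unique_induced hM z hz _ rfl _ _ hind huniq ζ 1 hy
    rw [this]
    simp
  simp_rw [h2] at h1
  rw [finsum_mem_eq_sum_filter_lib, finsum_mem_eq_sum_filter_lib]
  rw [Finset.sum_filter]
  rw [← principalBlock_eq] at h1
  have e1 : ∑ a : Cfsg.IrrCharacter G, (if a ∈ Cfsg.principalBlock M G then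
      (a : G → ℂ) z * conj ((a : G → ℂ) z) else 0)
      = ∑ ζ : Cfsg.IrrCharacter G, (if ζ ∈ Cfsg.principalBlock M G then (ζ : G → ℂ) z else 0)
        * conj (if ζ ∈ Cfsg.principalBlock M G then (ζ : G → ℂ) z else 0) := by
    apply Finset.sum_congr rfl
    intro ζ _
    split_ifs
    · rfl
    · simp
  rw [e1, h1]
  apply Finset.sum_congr rfl
  intro χ _
  rw [IsIrrCharacter.conj_apply_one χ.2,
    IsCharacter.apply_one_eq_charDegree (IsIrrCharacter.isCharacter χ.2)]
  ring

/-- The "column orthogonality" of the principal block on `p`-elements: conjugate case. -/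
theorem principal_column_conj (p : ℕ) [Fact p.Prime] (M : Ideal Cfsg.AlgInt)
    (hM : Cfsg.IsPModular p M) (y y' : G) (hy : ∃ k : ℕ, orderOf y = p ^ k)
    (hc : IsConj y y') :
    ∑ᶠ ζ ∈ Cfsg.principalBlock M G, (ζ : G → ℂ) y * conj ((ζ : G → ℂ) y')
      = ∑ᶠ ψ ∈ Cfsg.principalBlock M (Subgroup.centralizer ({y} : Set G)),
            ((Cfsg.charDegree (ψ : Subgroup.centralizer ({y} : Set G) → ℂ) : ℕ) : ℂ) ^ 2 := by
  classical
  rw [← principal_sum_sq_pElement p M hM y hy]
  apply finsum_mem_congr rfl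
  intro ζ _
  obtain ⟨c, hc⟩ := isConj_iff.mp hc
  rw [← hc, IsIrrCharacter.isClassFunction ζ.2]

/-- The "column orthogonality" of the principal block on `p`-elements: non-conjugate case. -/
theorem principal_column_not_conj (p : ℕ) [Fact p.Prime] (M : Ideal Cfsg.AlgInt)
    (hM : Cfsg.IsPModular p M) (y y' : G) (hy : ∃ k : ℕ, orderOf y = p ^ k)
    (hy' : ∃ k : ℕ, orderOf y' = p ^ k) (hc : ¬ IsConj y y') :
    ∑ᶠ ζ ∈ Cfsg.principalBlock M G, (ζ : G → ℂ) y * conj ((ζ : G → ℂ) y') = 0 := by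
  classical
  have : Fintype G := Fintype.ofFinite G
  have hp : p.Prime := hM.1
  have hpp : ∀ g : G, (∃ k : ℕ, orderOf g = p ^ k) → Cfsg.IsPPart p g g := by
    intro g hg
    refine ⟨1, by simp, Commute.one_right g, hg, ?_⟩
    rw [orderOf_one]
    exact hp.one_lt.ne' ∘ Nat.dvd_one.mp
  have := block_orthogonality hM y y' y y' (hpp y hy) (hpp y' hy') hc (oneIrr G)
  rw [← principalBlock_eq] at this
  rw [← this]
  apply finsum_mem_congr rfl
  intro ζ _
  rw [IsCharacter.apply_inv (IsIrrCharacter.isCharacter ζ.2)]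

end

end Cfsg.Agent.Lib.Helper6
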