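import Mathlib
import Cfsg.Prelude.Def_Blocks
import Cfsg.Agent.Lib.Helper6.BlkCover

set_option autoImplicit false
set_option linter.unusedSectionVars false
open Cfsg

namespace Cfsg.Agent.Lib.Helper6

open scoped ComplexConjugate

section

variable {G : Type*} [Group G] [Finite G]

/-- the kernel of a character as a subgroup -/
def charKer {χ : G → ℂ} (hχ : Cfsg.IsCharacter G χ) : Subgroup G where
  carrier := {g | χ g = χ 1}
  one_mem' := rfl
  mul_mem' := by
    intro a b ha hb
    change χ (a * b) = χ 1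
    rw [IsCharacter.apply_mul_of_apply_eq hχ hb]
    exact ha
  inv_mem' := by
    intro a ha
    change χ a⁻¹ = χ 1
    obtain ⟨n, hn⟩ := IsCharacter.apply_one_eq_natCast hχ
    have ha' : χ a = χ 1 := ha
    rw [IsCharacter.apply_inv hχ, ha', hn, Complex.conj_natCast]

theorem mem_charKer {χ : G → ℂ} (hχ : Cfsg.IsCharacter G χ) (g : G) :
    g ∈ charKer hχ ↔ χ g = χ 1 := Iff.rfl

theorem charKer_normal {χ : G → ℂ} (hχ : Cfsg.IsCharacter G χ) : (charKer hχ).Normal := by
  constructor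
  intro n hn g
  rw [mem_charKer] at hn ⊢
  rw [IsCharacter.isClassFunction hχ n g]
  exact hn

end

section

variable {G : Type*} [Group G] [Fintype G] [DecidableEq G]
variable {p : ℕ} {M : Ideal Cfsg.AlgInt}

/-- the coefficient of `1` in a block idempotent is nonzero -/
theorem blockCoeff_one_ne_zero (hM : Cfsg.IsPModular p M) (χ₀ : Cfsg.IrrCharacter G) :
    Cfsg.blockCoeff (Cfsg.blockOf M (χ₀ : G → ℂ)) 1 ≠ 0 := by
  classical
  have : Fintype (Cfsg.IrrCharacter G) := Fintype.ofFinite _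
  set B := Cfsg.blockOf M (χ₀ : G → ℂ) with hB
  rw [blockCoeff_eq_sum]
  unfold idemFun
  rw [← Finset.mul_sum]
  apply mul_ne_zero
  · have : Nat.card G ≠ 0 := Nat.card_pos.ne'
    exact inv_ne_zero (by exact_mod_cast this)
  · have e3 : ∀ χ ∈ Finset.univ.filter (· ∈ B),
        (χ : G → ℂ) 1 * conj ((χ : G → ℂ) 1)
          = ((Cfsg.charDegree (χ : G → ℂ) ^ 2 : ℕ) : ℂ) := by
      intro χ _
      rw [IsIrrCharacter.conj_apply_one χ.2,
        IsCharacter.apply_one_eq_charDegree (IsIrrCharacter.isCharacter χ.2)]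
      push_cast
      ring
    rw [Finset.sum_congr rfl e3, ← Nat.cast_sum]
    have hχ₀ : χ₀ ∈ Finset.univ.filter (· ∈ B) := by
      rw [Finset.mem_filter]
      exact ⟨Finset.mem_univ _, sameBlock_refl hM _⟩
    have h1 : 0 < ∑ χ ∈ Finset.univ.filter (· ∈ B), Cfsg.charDegree (χ : G → ℂ) ^ 2 := by
      apply Finset.sum_pos'
      · intro χ _; exact Nat.zero_le _
      · exact ⟨χ₀, hχ₀, pow_pos (IsIrrCharacter.charDegree_pos χ₀.2) 2⟩
    exact_mod_cast h1.ne'

/-- the block idempotent coefficient is constant on the kernel of the block -/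
theorem blockCoeff_eq_of_mem_blockKer (B : Set (Cfsg.IrrCharacter G)) {u : G}
    (hu : u ∈ Cfsg.blockKer B) : Cfsg.blockCoeff B u = Cfsg.blockCoeff B 1 := by
  unfold Cfsg.blockCoeff
  congr 1
  apply finsum_mem_congr rfl
  intro ψ hψ
  rw [hu ψ hψ]

/-- the kernel of a block has no `p`-singular elements -/
theorem not_dvd_orderOf_of_mem_blockKer (hM : Cfsg.IsPModular p M) (χ₀ : Cfsg.IrrCharacter G)
    {u : G} (hu : u ∈ Cfsg.blockKer (Cfsg.blockOf M (χ₀ : G → ℂ))) : ¬ p ∣ orderOf u := by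
  intro hdvd
  have h1 := blockCoeff_eq_zero_of_pSingular hM χ₀ u hdvd
  rw [blockCoeff_eq_of_mem_blockKer _ hu] at h1
  exact blockCoeff_one_ne_zero hM χ₀ h1

variable (N : Subgroup G) [Fintype N]

/-- the trivial character is a constituent of the restriction iff the subgroup is in the kernel -/
theorem classInner_restrict_one_ne_zero_of_const {χ : G → ℂ} (hχ : Cfsg.IsIrrCharacter G χ)
    (h : ∀ n ∈ N, χ n = χ 1) :
    Cfsg.classInner (fun n : N => χ n) (fun _ : N => (1 : ℂ)) ≠ 0 := by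
  have hN0 : (Nat.card N : ℂ) ≠ 0 := card_ne_zero_complex N
  unfold Cfsg.classInner
  have : ∀ n : N, χ n * (starRingEnd ℂ) (1 : ℂ) = χ 1 := by
    intro n
    rw [map_one, mul_one, h n n.2]
  rw [Finset.sum_congr rfl (fun n _ => this n), Finset.sum_const, Finset.card_univ,
    ← Nat.card_eq_fintype_card, nsmul_eq_mul, ← mul_assoc, inv_mul_cancel₀ hN0, one_mul]
  exact IsIrrCharacter.apply_one_ne_zero hχ

theorem const_of_classInner_restrict_one_ne_zero [hN : N.Normal] {χ : G → ℂ}
    (hχ : Cfsg.IsIrrCharacter G χ)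
    (h : Cfsg.classInner (fun n : N => χ n) (fun _ : N => (1 : ℂ)) ≠ 0) :
    ∀ n ∈ N, χ n = χ 1 := by
  have hsum : ∑ n : N, χ n ≠ 0 := by
    intro h0
    apply h
    unfold Cfsg.classInner
    have : ∀ n : N, χ n * (starRingEnd ℂ) (1 : ℂ) = χ n := by
      intro n
      rw [map_one, mul_one]
    rw [Finset.sum_congr rfl (fun n _ => this n), h0, mul_zero]
  intro n hn
  exact IsIrrCharacter.const_on_normal_of_sum_ne_zero N hχ hsum ⟨n, hn⟩

/-- a normal `p'`-subgroup in the kernel of one character of a block is in the kernel of all -/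
theorem const_on_normal_of_sameBlock_of_coprime [hN : N.Normal] (hM : Cfsg.IsPModular p M)
    (hNp : ¬ p ∣ Nat.card N) (χ χ' : Cfsg.IrrCharacter G)
    (hb : Cfsg.SameBlock M (χ : G → ℂ) (χ' : G → ℂ))
    (h : ∀ n ∈ N, (χ : G → ℂ) n = (χ : G → ℂ) 1) :
    ∀ n ∈ N, (χ' : G → ℂ) n = (χ' : G → ℂ) 1 := by
  let oneN : Cfsg.IrrCharacter N := ⟨fun _ => 1, isIrrCharacter_one⟩
  have h1 := classInner_restrict_one_ne_zero_of_const N χ.2 h
  have h2 := constituent_of_sameBlock_of_coprime N hN hM hNp χ χ' hb oneN h1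
  exact const_of_classInner_restrict_one_ne_zero N χ'.2 h2

end

end Cfsg.Agent.Lib.Helper6
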