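import Mathlib
import Cfsg.Prelude.Def_Blocks
import Cfsg.Prelude.Def_Local
import Cfsg.Agent.Lib.Helper6.BlkCover
import Cfsg.Agent.Lib.Helper6.BlkNormalP
import Cfsg.Agent.Lib.Helper6.BlkPrincipal
import Cfsg.Agent.Lib.Helper6.BlkSecond3
import Cfsg.Agent.Lib.Helper6.BlkBrauer
import Cfsg.Agent.S0936

set_option autoImplicit false
set_option linter.unusedSectionVars false
open Cfsg

namespace Cfsg.Agent.Lib.Helper6

open scoped ComplexConjugate

section ker

variable {G : Type*} [Group G] [Fintype G] [DecidableEq G]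
variable {p : ℕ} {M : Ideal Cfsg.AlgInt}

/-- characters of the principal block are trivial on `O_{p'}(G)` -/
theorem apply_eq_apply_one_of_mem_principalBlock (hM : Cfsg.IsPModular p M)
    (χ : Cfsg.IrrCharacter G) (hχ : χ ∈ Cfsg.principalBlock M G) (n : G)
    (hn : n ∈ Cfsg.pPrimeCore p G) : (χ : G → ℂ) n = (χ : G → ℂ) 1 := by
  classical
  have hp : p.Prime := hM.1
  obtain ⟨hNn, hNc⟩ := pPrimeCore_normal_and_coprime (G := G) p
  obtain ⟨N, hNdef⟩ : ∃ N : Subgroup G, N = Cfsg.pPrimeCore p G := ⟨_, rfl⟩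
  rw [← hNdef] at hNn hNc hn
  have : Fintype N := Fintype.ofFinite N
  have hNp : ¬ p ∣ Nat.card N := by
    intro hdvd
    have := Nat.Coprime.eq_one_of_dvd hNc.symm hdvd
    exact hp.one_lt.ne' this
  let one : Cfsg.IrrCharacter G := ⟨fun _ => 1, isIrrCharacter_one⟩
  let oneN : Cfsg.IrrCharacter N := ⟨fun _ => 1, isIrrCharacter_one⟩
  have hone : Cfsg.classInner (fun n : N => (one : G → ℂ) n) (oneN : N → ℂ) ≠ 0 := by
    have := classInner_irrCharacter oneN oneN
    rw [if_pos rfl] at this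
    change Cfsg.classInner (oneN : N → ℂ) (oneN : N → ℂ) ≠ 0
    rw [this]
    exact one_ne_zero
  have hsb : Cfsg.SameBlock M (one : G → ℂ) (χ : G → ℂ) := hχ
  have h1 := constituent_of_sameBlock_of_coprime N hNn hM hNp one χ hsb oneN hone
  have hsum : ∑ n : N, (χ : G → ℂ) n ≠ 0 := by
    intro h0
    apply h1
    unfold Cfsg.classInner
    have : ∀ n : N, (χ : G → ℂ) n * (starRingEnd ℂ) ((oneN : N → ℂ) n) = (χ : G → ℂ) n := by
      intro n
      change (χ : G → ℂ) n * (starRingEnd ℂ) (1 : ℂ) = _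
      rw [map_one, mul_one]
    rw [Finset.sum_congr rfl (fun n _ => this n), h0, mul_zero]
  exact IsIrrCharacter.const_on_normal_of_sum_ne_zero N χ.2 hsum ⟨n, hn⟩

/-- a class function equals its part in one block at `y` if all other block parts vanish there -/
theorem apply_eq_blockPart_of_others (hM : Cfsg.IsPModular p M) {ϑ : G → ℂ}
    (hϑ : Cfsg.IsClassFunction G ϑ) (y : G) (ψ₁ : Cfsg.IrrCharacter G)
    (h : ∀ ψ₀ : Cfsg.IrrCharacter G,
      Cfsg.blockOf M (ψ₀ : G → ℂ) ≠ Cfsg.blockOf M (ψ₁ : G → ℂ) →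
      Cfsg.blockPart (Cfsg.blockOf M (ψ₀ : G → ℂ)) ϑ y = 0) :
    ϑ y = Cfsg.blockPart (Cfsg.blockOf M (ψ₁ : G → ℂ)) ϑ y := by
  classical
  haveI : Fintype (Cfsg.IrrCharacter G) := Fintype.ofFinite _
  conv_lhs => rw [← blockPart_univ hϑ y, blockPart_eq_finset_sum]
  have h1 : (Finset.univ.filter (· ∈ (Set.univ : Set (Cfsg.IrrCharacter G)))) = Finset.univ := by
    ext χ; simp
  rw [h1]
  rw [← Finset.sum_fiberwise_of_maps_to (s := Finset.univ)
    (t := Finset.univ.image (fun ψ : Cfsg.IrrCharacter G => Cfsg.blockOf M (ψ : G → ℂ)))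
    (g := fun ψ : Cfsg.IrrCharacter G => Cfsg.blockOf M (ψ : G → ℂ))
    (fun ψ _ => Finset.mem_image_of_mem _ (Finset.mem_univ ψ))]
  have key : ∀ ψ₀ : Cfsg.IrrCharacter G,
      ∑ χ ∈ Finset.univ.filter (fun χ : Cfsg.IrrCharacter G =>
        Cfsg.blockOf M (χ : G → ℂ) = Cfsg.blockOf M (ψ₀ : G → ℂ)),
        Cfsg.classInner ϑ (χ : G → ℂ) * (χ : G → ℂ) y
      = Cfsg.blockPart (Cfsg.blockOf M (ψ₀ : G → ℂ)) ϑ y := by
    intro ψ₀
    rw [blockPart_eq_finset_sum]
    apply Finset.sum_congr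
    · ext χ
      simp only [Finset.mem_filter, Finset.mem_univ, true_and]
      constructor
      · intro hχ
        rw [← hχ]
        exact sameBlock_refl hM _
      · intro hχ
        exact (blockOf_eq_of_mem hM hχ).symm
    · intro χ _; rfl
  rw [Finset.sum_eq_single (Cfsg.blockOf M (ψ₁ : G → ℂ))]
  · exact key ψ₁
  · intro b hb hne
    obtain ⟨ψ₀, _, rfl⟩ := Finset.mem_image.mp hb
    rw [key ψ₀]
    exact h ψ₀ hne
  · intro hn
    exact absurd (Finset.mem_image_of_mem _ (Finset.mem_univ ψ₁)) hn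

end ker

section ker2

variable {G : Type*} [Group G] [Fintype G] [DecidableEq G]
variable {p : ℕ} {M : Ideal Cfsg.AlgInt}

theorem principal_apply_mul_core (hM : Cfsg.IsPModular p M) [Fact p.Prime] (u : G)
    (hu : ∃ k : ℕ, orderOf u = p ^ k)
    (H : Subgroup G) [Fintype H] (hH : H = Subgroup.centralizer ({u} : Set G))
    (χ : Cfsg.IrrCharacter G) (hχ : χ ∈ Cfsg.principalBlock M G) (v : H)
    (hv : v ∈ Cfsg.pPrimeCore p H) :
    (χ : G → ℂ) (u * (v : G)) = (χ : G → ℂ) u := by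
  classical
  have hp : p.Prime := hM.1
  haveI : Fintype (Cfsg.IrrCharacter H) := Fintype.ofFinite _
  obtain ⟨ϑ, hϑdef⟩ : ∃ ϑ : H → ℂ, ϑ = fun c : H => (χ : G → ℂ) (u * (c : G)) := ⟨_, rfl⟩
  have hcomm : ∀ h : H, (h : G) * u = u * (h : G) := by
    intro h
    have h2 : (h : G) ∈ Subgroup.centralizer ({u} : Set G) := hH ▸ h.2
    rw [Subgroup.mem_centralizer_singleton_iff] at h2
    exact h2
  have hϑ : Cfsg.IsClassFunction H ϑ := by
    intro g h
    rw [hϑdef]
    simp only [Subgroup.coe_mul, Subgroup.coe_inv]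
    have e : u * ((h : G) * (g : G) * (h : G)⁻¹) = (h : G) * (u * (g : G)) * (h : G)⁻¹ := by
      rw [← mul_assoc, ← mul_assoc, ← hcomm h]
      group
    rw [e]
    exact IsIrrCharacter.isClassFunction χ.2 _ _
  have hPH : Subgroup.zpowers u ≤ H := by
    rw [Subgroup.zpowers_le, hH, Subgroup.mem_centralizer_singleton_iff]
  have hCH : Subgroup.centralizer (Subgroup.zpowers u : Set G) ≤ H := by
    rw [hH]
    apply Subgroup.centralizer_le
    intro x hx
    rw [Set.mem_singleton_iff] at hx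
    rw [hx]
    exact Subgroup.mem_zpowers u
  have hHN : H ≤ Subgroup.normalizer (Subgroup.zpowers u : Set G) := by
    rw [hH]
    exact centralizer_singleton_le_normalizer_zpowers u
  have hPp : IsPGroup p (Subgroup.zpowers u) := by
    obtain ⟨k, hk⟩ := hu
    apply IsPGroup.of_card (n := k)
    rw [Nat.card_zpowers, hk]
  have key : ∀ y : H, ¬ p ∣ orderOf y →
      ϑ y = Cfsg.blockPart (Cfsg.blockOf M ((oneIrr H : Cfsg.IrrCharacter H) : H → ℂ)) ϑ y := by
    intro y hy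
    apply apply_eq_blockPart_of_others hM hϑ
    intro ψ₀ hne
    have hb : Cfsg.IsPBlock M (Cfsg.blockOf M (ψ₀ : H → ℂ)) := ⟨ψ₀, rfl⟩
    have hdef := inducedBlockDefined_of_centralizer_le (Subgroup.zpowers u) H hM hPp hPH hCH hHN _ hb
    have hnot : ¬ Cfsg.IsInducedBlock M H (Cfsg.blockOf M (ψ₀ : H → ℂ))
        (Cfsg.principalBlock M G) := by
      intro hind
      apply hne
      rw [(Cfsg.Agent.S0936.result p M hM H _ hdef).1 hind]
      rfl
    have := second_main_chars hM u hu H hH (B := Cfsg.principalBlock M G)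
      ⟨oneIrr G, rfl⟩ χ hχ hb hnot y hy
    rw [hϑdef]
    exact this
  obtain ⟨hNn, hNc⟩ := pPrimeCore_normal_and_coprime (G := H) p
  have hvreg : ¬ p ∣ orderOf v := by
    intro hd
    have h1 : orderOf (⟨v, hv⟩ : Cfsg.pPrimeCore p H) ∣ Nat.card (Cfsg.pPrimeCore p H) :=
      orderOf_dvd_natCard _
    rw [Subgroup.orderOf_mk] at h1
    have := Nat.Coprime.eq_one_of_dvd hNc.symm (dvd_trans hd h1)
    exact hp.one_lt.ne' this
  have h1reg : ¬ p ∣ orderOf (1 : H) := by
    rw [orderOf_one]; exact hp.not_dvd_one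
  have e1 := key v hvreg
  have e2 := key 1 h1reg
  have e3 : Cfsg.blockPart (Cfsg.blockOf M ((oneIrr H : Cfsg.IrrCharacter H) : H → ℂ)) ϑ v
      = Cfsg.blockPart (Cfsg.blockOf M ((oneIrr H : Cfsg.IrrCharacter H) : H → ℂ)) ϑ 1 := by
    rw [blockPart_eq_finset_sum, blockPart_eq_finset_sum]
    apply Finset.sum_congr rfl
    intro ψ hψ
    simp only [Finset.mem_filter, Finset.mem_univ, true_and] at hψ
    rw [apply_eq_apply_one_of_mem_principalBlock hM ψ hψ v hv]
  have e4 : ϑ v = ϑ 1 := by rw [e1, e3, ← e2]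
  rw [hϑdef] at e4
  simpa using e4

end ker2

end Cfsg.Agent.Lib.Helper6
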