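import Mathlib
import Cfsg.Prelude.Def_Blocks
import Cfsg.Agent.Lib.Helper6.BlkNil
import Cfsg.Agent.Lib.Helper6.BlkDefConj
import Cfsg.Agent.Lib.Helper6.SylowMap
import Cfsg.Agent.S0916
import Cfsg.Agent.S0912
import Cfsg.Agent.S0917
import Cfsg.Agent.S0958

set_option autoImplicit false
set_option linter.unusedSectionVars false
open Cfsg

namespace Cfsg.Agent.Lib.Helper6

open scoped ComplexConjugate

section grp

variable {G : Type*} [Group G] [Finite G]
variable {p : ℕ} [Fact p.Prime]

/-- if `D` is a Sylow `p`-subgroup of `C_N(y)` for `N = N_G(D)`, then it is a Sylow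
`p`-subgroup of `C_G(y)` -/
theorem exists_sylow_centralizer_of_normalizer (D : Subgroup G) (hD : IsPGroup p D)
    (y : Subgroup.normalizer (D : Set G))
    (Q : Sylow p (Subgroup.centralizer ({y} : Set (Subgroup.normalizer (D : Set G)))))
    (hQ : D.subgroupOf (Subgroup.normalizer (D : Set G))
      = (Q : Subgroup (Subgroup.centralizer ({y} : Set (Subgroup.normalizer (D : Set G))))).map
        (Subgroup.centralizer ({y} : Set (Subgroup.normalizer (D : Set G)))).subtype) :
    ∃ S : Sylow p (Subgroup.centralizer ({(y : G)} : Set G)),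
      D = (S : Subgroup (Subgroup.centralizer ({(y : G)} : Set G))).map
        (Subgroup.centralizer ({(y : G)} : Set G)).subtype := by
  have hDN : D ≤ Subgroup.normalizer (D : Set G) := Subgroup.le_normalizer
  have hDy : D ≤ Subgroup.centralizer ({(y : G)} : Set G) := by
    intro d hd
    have h1 : (⟨d, hDN hd⟩ : Subgroup.normalizer (D : Set G)) ∈
        D.subgroupOf (Subgroup.normalizer (D : Set G)) := by
      rw [Subgroup.mem_subgroupOf]; exact hd
    rw [hQ] at h1
    have h2 := sylow_map_le Q h1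
    rw [mem_centralizer_singleton_iff] at h2 ⊢
    exact congrArg Subtype.val h2
  obtain ⟨S, hS⟩ := exists_sylow_map_ge hD hDy
  refine ⟨S, ?_⟩
  by_contra hne
  have hlt : D < (S : Subgroup (Subgroup.centralizer ({(y : G)} : Set G))).map
      (Subgroup.centralizer ({(y : G)} : Set G)).subtype := lt_of_le_of_ne hS hne
  obtain ⟨x, hxS, hxN, hxD⟩ := exists_mem_normalizer_not_mem (sylow_map_isPGroup S) hlt
  have hRle : D ⊔ Subgroup.zpowers x ≤
      (S : Subgroup (Subgroup.centralizer ({(y : G)} : Set G))).map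
        (Subgroup.centralizer ({(y : G)} : Set G)).subtype := by
    apply sup_le hS
    rw [Subgroup.zpowers_le]; exact hxS
  have hRp : IsPGroup p (D ⊔ Subgroup.zpowers x : Subgroup G) :=
    (sylow_map_isPGroup S).to_le hRle
  have hRp' : IsPGroup p ((D ⊔ Subgroup.zpowers x).subgroupOf (Subgroup.normalizer (D : Set G))) := by
    rw [← Subgroup.comap_subtype]
    exact hRp.comap_subtype
  have hRc : (D ⊔ Subgroup.zpowers x).subgroupOf (Subgroup.normalizer (D : Set G))
      ≤ Subgroup.centralizer ({y} : Set (Subgroup.normalizer (D : Set G))) := by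
    intro r hr
    rw [Subgroup.mem_subgroupOf] at hr
    have h2 := sylow_map_le S (hRle hr)
    rw [mem_centralizer_singleton_iff] at h2 ⊢
    exact Subtype.ext h2
  have hQR : (Q : Subgroup (Subgroup.centralizer ({y} : Set (Subgroup.normalizer (D : Set G))))).map
        (Subgroup.centralizer ({y} : Set (Subgroup.normalizer (D : Set G)))).subtype
      ≤ (D ⊔ Subgroup.zpowers x).subgroupOf (Subgroup.normalizer (D : Set G)) := by
    rw [← hQ]
    intro r hr
    rw [Subgroup.mem_subgroupOf] at hr ⊢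
    exact (le_sup_left : D ≤ D ⊔ Subgroup.zpowers x) hr
  have h3 := eq_sylow_map_of_ge hRp' hRc Q hQR
  rw [← hQ] at h3
  apply hxD
  have h4 : (⟨x, hxN⟩ : Subgroup.normalizer (D : Set G)) ∈
      (D ⊔ Subgroup.zpowers x).subgroupOf (Subgroup.normalizer (D : Set G)) := by
    rw [Subgroup.mem_subgroupOf]
    exact (le_sup_right : Subgroup.zpowers x ≤ D ⊔ Subgroup.zpowers x) (Subgroup.mem_zpowers x)
  rw [h3, Subgroup.mem_subgroupOf] at h4
  exact h4

/-- fusion of classes with defect group `D` is controlled by the normalizer of `D` -/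
theorem isConj_normalizer_iff (D : Subgroup G) (hD : IsPGroup p D)
    (y : Subgroup.normalizer (D : Set G))
    (S : Sylow p (Subgroup.centralizer ({(y : G)} : Set G)))
    (hS : D = (S : Subgroup (Subgroup.centralizer ({(y : G)} : Set G))).map
        (Subgroup.centralizer ({(y : G)} : Set G)).subtype)
    (h : Subgroup.normalizer (D : Set G)) :
    (IsConj (y : G) (h : G) ∧ (h : G) ∈ Subgroup.centralizer (D : Set G)) ↔ IsConj y h := by
  classical
  have : Fintype G := Fintype.ofFinite G
  have hyC : (y : G) ∈ Subgroup.centralizer (D : Set G) := by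
    rw [Subgroup.mem_centralizer_iff]
    intro d hd
    have : d ∈ Subgroup.centralizer ({(y : G)} : Set G) := by
      rw [hS] at hd; exact sylow_map_le S hd
    exact (mem_centralizer_singleton_iff.mp this).symm
  constructor
  · rintro ⟨hc, hhC⟩
    obtain ⟨n, hn, hnc⟩ := ((Cfsg.Agent.S0916.result p D hD).1 (y : G) ⟨S, hS.symm⟩).2 (y : G) (h : G)
      (IsConj.refl _) hc hyC hhC
    exact isConj_iff.mpr ⟨⟨n, hn⟩, Subtype.ext (by simpa using hnc)⟩
  · intro hc
    obtain ⟨n, hn⟩ := isConj_iff.mp hc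
    have hG : (n : G) * (y : G) * (n : G)⁻¹ = (h : G) := by
      rw [← hn]; simp
    refine ⟨isConj_iff.mpr ⟨(n : G), hG⟩, ?_⟩
    rw [← hG]
    exact (conj_mem_centralizer_iff_of_mem_normalizer D n.2 (y : G)).mpr hyC

end grp

section blk

variable {G : Type*} [Group G] [Fintype G] [DecidableEq G]
variable {p : ℕ} {M : Ideal Cfsg.AlgInt}

/-- when the `G`-class of `y` meets `C_G(D)` exactly in the `H`-class of `y`, the Brauer central
character at `y` is the central character of `H` -/
theorem brauerCentralChar_eq_centralChar (D H : Subgroup G) [Fintype H] (ξ : H → ℂ)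
    (hξ : Cfsg.IsClassFunction H ξ) (y : H)
    (hiff : ∀ h : H, (IsConj (y : G) (h : G) ∧ (h : G) ∈ Subgroup.centralizer (D : Set G))
      ↔ IsConj y h) :
    Cfsg.brauerCentralChar D H ξ (y : G) = Cfsg.centralChar ξ y := by
  classical
  rw [brauerCentralChar_eq_cOmega, ← cOmega_classInd ξ hξ y]
  congr 1
  unfold brMat
  congr 1
  funext h
  by_cases hh : (h : G) ∈ Subgroup.centralizer (D : Set G)
  · rw [brFun_of_mem D H _ hh]
    simp only [regMat_apply, inv_one, mul_one]
    unfold classInd
    by_cases hc : IsConj y h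
    · rw [if_pos hc, if_pos ((hiff h).mpr hc).1]
    · rw [if_neg hc, if_neg (fun h' => hc ((hiff h).mp ⟨h', hh⟩))]
  · rw [brFun_of_not_mem D H _ hh]
    unfold classInd
    rw [if_neg (fun hc => hh ((hiff h).mpr hc).2)]

/-- if `b` (a block of `N_G(D)`) induces `B`, their central characters agree on classes with
defect group `D` -/
theorem IsInducedBlock.centralChar_sub (hM : Cfsg.IsPModular p M) [Fact p.Prime] (D : Subgroup G)
    (hD : IsPGroup p D) [Fintype (Subgroup.normalizer (D : Set G))]
    {b : Set (Cfsg.IrrCharacter (Subgroup.normalizer (D : Set G)))}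
    {B : Set (Cfsg.IrrCharacter G)}
    (hind : Cfsg.IsInducedBlock M (Subgroup.normalizer (D : Set G)) b B)
    (ξ : Cfsg.IrrCharacter (Subgroup.normalizer (D : Set G))) (hξ : ξ ∈ b)
    (χ : Cfsg.IrrCharacter G) (hχ : χ ∈ B)
    (y : Subgroup.normalizer (D : Set G))
    (S : Sylow p (Subgroup.centralizer ({(y : G)} : Set G)))
    (hS : D = (S : Subgroup (Subgroup.centralizer ({(y : G)} : Set G))).map
        (Subgroup.centralizer ({(y : G)} : Set G)).subtype) :
    Cfsg.MemLocalIdeal M (Cfsg.centralChar (ξ : Subgroup.normalizer (D : Set G) → ℂ) y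
      - Cfsg.centralChar (χ : G → ℂ) (y : G)) := by
  have h1 := hind.2.2 ξ hξ χ hχ (y : G)
  have h2 := inducedCentralChar_sub_brauerCentralChar D (Subgroup.normalizer (D : Set G)) hM hD
    Subgroup.le_normalizer le_rfl ξ (y : G)
  rw [brauerCentralChar_eq_centralChar D _ _ (IsIrrCharacter.isClassFunction ξ.2) y
    (isConj_normalizer_iff D hD y S hS)] at h2
  have h3 := MemLocalIdeal.sub hM h1 h2
  convert h3 using 1
  ring

/-- First Main Theorem, part (i) -/
theorem firstMain_induced (hM : Cfsg.IsPModular p M) [Fact p.Prime] (D : Subgroup G)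
    (hD : IsPGroup p D) [Fintype (Subgroup.normalizer (D : Set G))]
    (b : Set (Cfsg.IrrCharacter (Subgroup.normalizer (D : Set G)))) (hb : Cfsg.IsPBlock M b)
    (hDb : Cfsg.IsDefectGroup p M b (D.subgroupOf (Subgroup.normalizer (D : Set G)))) :
    ∃ B : Set (Cfsg.IrrCharacter G), Cfsg.IsPBlock M B ∧ Cfsg.IsDefectGroup p M B D ∧
      Cfsg.IsInducedBlock M (Subgroup.normalizer (D : Set G)) b B := by
  classical
  have hDN : D ≤ Subgroup.normalizer (D : Set G) := Subgroup.le_normalizer
  have hCN : Subgroup.centralizer (D : Set G) ≤ Subgroup.normalizer (D : Set G) :=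
    Subgroup.centralizer_le_normalizer _
  obtain ⟨B, hind⟩ := inducedBlockDefined_of_centralizer_le D (Subgroup.normalizer (D : Set G))
    hM hD hDN hCN le_rfl b hb
  refine ⟨B, hind.2.1, ?_, hind⟩
  obtain ⟨E, hE, hDE⟩ := Cfsg.Agent.S0917.result p M hM _ b hb B hind.2.1 hind _ hDb
  have hDleE : D ≤ E := by
    intro d hd
    apply hDE
    exact ⟨⟨d, hDN hd⟩, by rw [SetLike.mem_coe, Subgroup.mem_subgroupOf]; exact hd, rfl⟩
  obtain ⟨y, hy, Q, hQ⟩ := hDb
  obtain ⟨S, hS⟩ := exists_sylow_centralizer_of_normalizer D hD y Q hQ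
  obtain ⟨ξ₀, hbξ⟩ := hb
  obtain ⟨χ₀, hBχ⟩ := hind.2.1
  have hξ₀ : ξ₀ ∈ b := by rw [hbξ]; exact sameBlock_refl hM _
  have hχ₀ : χ₀ ∈ B := by rw [hBχ]; exact sameBlock_refl hM _
  have h4 := IsInducedBlock.centralChar_sub hM D hD hind ξ₀ hξ₀ χ₀ hχ₀ y S hS
  have hyξ : ¬ Cfsg.MemLocalIdeal M (Cfsg.centralChar (ξ₀ : _ → ℂ) y) := hy.2.2 ξ₀ hξ₀
  have hyχ : ¬ Cfsg.MemLocalIdeal M (Cfsg.centralChar (χ₀ : G → ℂ) (y : G)) := by
    intro h5
    apply hyξ
    have := MemLocalIdeal.add hM h4 h5
    simpa using this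
  obtain ⟨g, hg, Dg, hDg⟩ := hE
  rw [hBχ] at hg
  obtain ⟨x, Qy, hxQ⟩ := (minmax hM χ₀ g hg Dg (y : G)).2 ⟨χ₀, by rw [← hBχ]; exact hχ₀, hyχ⟩
  have hcard : Nat.card E ≤ Nat.card D := by
    rw [hDg]
    calc Nat.card ((Dg : Subgroup (Subgroup.centralizer ({g} : Set G))).map
          (Subgroup.centralizer ({g} : Set G)).subtype)
        = Nat.card (((Dg : Subgroup (Subgroup.centralizer ({g} : Set G))).map
          (Subgroup.centralizer ({g} : Set G)).subtype).map (MulAut.conj x).toMonoidHom) :=
          (card_map_conj' _ x).symm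
      _ ≤ Nat.card ((Qy : Subgroup (Subgroup.centralizer ({(y : G)} : Set G))).map
          (Subgroup.centralizer ({(y : G)} : Set G)).subtype) := Subgroup.card_le_of_le hxQ
      _ = Nat.card D := by
          rw [card_sylow_map]
          conv_rhs => rw [hS]
          rw [card_sylow_map]
  have hDE' : D = E := Subgroup.eq_of_le_of_card_ge hDleE hcard
  rw [hDE', hBχ]
  exact ⟨g, hg, Dg, hDg⟩

theorem subgroupOf_normalizer_normal (D : Subgroup G) :
    (D.subgroupOf (Subgroup.normalizer (D : Set G))).Normal := by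
  constructor
  intro n hn k
  rw [Subgroup.mem_subgroupOf] at hn ⊢
  have := (Subgroup.mem_normalizer_iff.mp k.2 (n : G)).mp hn
  simpa using this

/-- First Main Theorem, part (ii), existence -/
theorem firstMain_exists (hM : Cfsg.IsPModular p M) [Fact p.Prime] (D : Subgroup G)
    (hD : IsPGroup p D) [Fintype (Subgroup.normalizer (D : Set G))]
    (B : Set (Cfsg.IrrCharacter G)) (hB : Cfsg.IsPBlock M B)
    (hDB : Cfsg.IsDefectGroup p M B D) :
    ∃ b : Set (Cfsg.IrrCharacter (Subgroup.normalizer (D : Set G))), Cfsg.IsPBlock M b ∧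
      Cfsg.IsDefectGroup p M b (D.subgroupOf (Subgroup.normalizer (D : Set G))) ∧
      Cfsg.IsInducedBlock M (Subgroup.normalizer (D : Set G)) b B := by
  classical
  have hDN : D ≤ Subgroup.normalizer (D : Set G) := Subgroup.le_normalizer
  have hCN : Subgroup.centralizer (D : Set G) ≤ Subgroup.normalizer (D : Set G) :=
    Subgroup.centralizer_le_normalizer _
  obtain ⟨b, hind⟩ := (Cfsg.Agent.S0958.result p M hM D (Subgroup.normalizer (D : Set G)) hD
    (sup_le hDN hCN) le_rfl B hB).mpr ⟨D, hDB, 1, by rw [map_conj_one]⟩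
  refine ⟨b, hind.1, ?_, hind⟩
  obtain ⟨ξ₀, hbξ⟩ := hind.1
  obtain ⟨g, hg⟩ := exists_isDefectClass hM ξ₀
  have Q : Sylow p (Subgroup.centralizer ({g} : Set (Subgroup.normalizer (D : Set G)))) := default
  have hDb : Cfsg.IsDefectGroup p M b
      ((Q : Subgroup (Subgroup.centralizer ({g} : Set (Subgroup.normalizer (D : Set G))))).map
        (Subgroup.centralizer ({g} : Set (Subgroup.normalizer (D : Set G)))).subtype) := by
    rw [hbξ]; exact ⟨g, hg, Q, rfl⟩
  have hcore := Cfsg.Agent.S0912.result p M hM b hind.1 _ hDb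
  obtain ⟨E, hE, hle⟩ := Cfsg.Agent.S0917.result p M hM _ b hind.1 B hB hind _ hDb
  have hPn := subgroupOf_normalizer_normal D
  have hPp : IsPGroup p (D.subgroupOf (Subgroup.normalizer (D : Set G))) := by
    rw [← Subgroup.comap_subtype]
    exact hD.comap_subtype
  have h1 : D.subgroupOf (Subgroup.normalizer (D : Set G))
      ≤ Cfsg.pCore p (Subgroup.normalizer (D : Set G)) := le_sSup ⟨hPn, hPp⟩
  have hDle : D ≤ ((Q : Subgroup (Subgroup.centralizer ({g} : Set (Subgroup.normalizer (D : Set G))))).map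
        (Subgroup.centralizer ({g} : Set (Subgroup.normalizer (D : Set G)))).subtype).map
          (Subgroup.normalizer (D : Set G)).subtype := by
    intro d hd
    exact ⟨⟨d, hDN hd⟩, hcore (h1 (by rw [Subgroup.mem_subgroupOf]; exact hd)), rfl⟩
  have hcardE := Cfsg.Agent.S0908.result p M hM B hB E hE
  have hcardD := Cfsg.Agent.S0908.result p M hM B hB D hDB
  have hDE : D = E := Subgroup.eq_of_le_of_card_ge (hDle.trans hle) (by rw [hcardE, hcardD])
  have heq : D.subgroupOf (Subgroup.normalizer (D : Set G))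
      = (Q : Subgroup (Subgroup.centralizer ({g} : Set (Subgroup.normalizer (D : Set G))))).map
        (Subgroup.centralizer ({g} : Set (Subgroup.normalizer (D : Set G)))).subtype := by
    apply le_antisymm (h1.trans hcore)
    intro r hr
    rw [Subgroup.mem_subgroupOf]
    have : (r : G) ∈ E := hle ⟨r, hr, rfl⟩
    rw [← hDE] at this
    exact this
  rw [heq]
  exact hDb

/-- First Main Theorem, part (ii), uniqueness -/
theorem firstMain_unique (hM : Cfsg.IsPModular p M) [Fact p.Prime] (D : Subgroup G)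
    (hD : IsPGroup p D) [Fintype (Subgroup.normalizer (D : Set G))]
    (B : Set (Cfsg.IrrCharacter G))
    (b₁ b₂ : Set (Cfsg.IrrCharacter (Subgroup.normalizer (D : Set G))))
    (h₁ : Cfsg.IsDefectGroup p M b₁ (D.subgroupOf (Subgroup.normalizer (D : Set G))))
    (hind₁ : Cfsg.IsInducedBlock M (Subgroup.normalizer (D : Set G)) b₁ B)
    (hind₂ : Cfsg.IsInducedBlock M (Subgroup.normalizer (D : Set G)) b₂ B) : b₁ = b₂ := by
  classical
  have : Fintype (ConjClasses (Subgroup.normalizer (D : Set G))) := Fintype.ofFinite _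
  have hDN : D ≤ Subgroup.normalizer (D : Set G) := Subgroup.le_normalizer
  obtain ⟨ξ₁, hb₁⟩ := hind₁.1
  obtain ⟨ξ₂, hb₂⟩ := hind₂.1
  obtain ⟨χ₀, hBχ⟩ := hind₁.2.1
  have hξ₁ : ξ₁ ∈ b₁ := by rw [hb₁]; exact sameBlock_refl hM _
  have hξ₂ : ξ₂ ∈ b₂ := by rw [hb₂]; exact sameBlock_refl hM _
  have hχ₀ : χ₀ ∈ B := by rw [hBχ]; exact sameBlock_refl hM _
  have hEc : blockMat b₁ ∈ centerAlg (Subgroup.normalizer (D : Set G)) := blockMat_mem_centerAlg b₁
  have hEs : blockMat b₁ ∈ sMat hM (Subgroup.normalizer (D : Set G)) := by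
    rw [hb₁]; exact blockMat_mem_sMat hM ξ₁
  have hPn := subgroupOf_normalizer_normal D
  have hPp : IsPGroup p (D.subgroupOf (Subgroup.normalizer (D : Set G))) := by
    rw [← Subgroup.comap_subtype]
    exact hD.comap_subtype
  have key : Cfsg.MemLocalIdeal M (cOmega (ξ₂ : _ → ℂ) (blockMat b₁)
      - cOmega (ξ₁ : _ → ℂ) (blockMat b₁)) := by
    rw [cOmega_eq_sum_classes (IsIrrCharacter.isClassFunction ξ₂.2) hEc,
      cOmega_eq_sum_classes (IsIrrCharacter.isClassFunction ξ₁.2) hEc, ← Finset.sum_sub_distrib]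
    apply MemLocalIdeal.sum hM
    intro c _
    rw [← mul_sub]
    obtain ⟨k, hk⟩ : ∃ k : Subgroup.normalizer (D : Set G), k = Quotient.out c := ⟨_, rfl⟩
    rw [← hk]
    have hS1 : Cfsg.MemLocalRing M (Cfsg.centralChar (ξ₁ : _ → ℂ) k) :=
      memLocalRing_of_isIntegral hM (IsIrrCharacter.isIntegral_centralChar' ξ₁.2 _)
    have hS2 : Cfsg.MemLocalRing M (Cfsg.centralChar (ξ₂ : _ → ℂ) k) :=
      memLocalRing_of_isIntegral hM (IsIrrCharacter.isIntegral_centralChar' ξ₂.2 _)
    by_cases ha : Cfsg.MemLocalIdeal M (blockMat b₁ k 1)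
    · exact MemLocalIdeal.mul_right hM ha (MemLocalRing.sub hM hS2 hS1)
    · apply MemLocalIdeal.mul_left hM (hEs k 1)
      by_cases hkC : (k : G) ∈ Subgroup.centralizer (D : Set G)
      · -- `k` has defect group `D` in the normalizer
        have hval : blockMat b₁ k 1 = Cfsg.blockCoeff b₁ k := by
          unfold blockMat
          rw [regMat_apply, inv_one, mul_one]
        rw [hval, hb₁] at ha
        have haS : Cfsg.MemLocalRing M (Cfsg.blockCoeff (Cfsg.blockOf M (ξ₁ : _ → ℂ)) k) :=
          blockCoeff_memLocalRing hM ξ₁ k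
        have h₁' := h₁
        rw [hb₁] at h₁'
        obtain ⟨g₁, hg₁, Q₁, hQ₁⟩ := h₁'
        obtain ⟨x, Qk, hxQ⟩ := (minmax hM ξ₁ g₁ hg₁ Q₁ k).1 haS ha
        have hxn : x ∈ Subgroup.normalizer
            ((D.subgroupOf (Subgroup.normalizer (D : Set G)) : Subgroup _) : Set _) := by
          have h := Subgroup.normalizer_eq_top (D.subgroupOf (Subgroup.normalizer (D : Set G)))
          rw [h]; exact Subgroup.mem_top x
        rw [← hQ₁, map_conj_eq_of_mem_normalizer hxn] at hxQ
        have hDk : D.subgroupOf (Subgroup.normalizer (D : Set G))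
            ≤ Subgroup.centralizer ({k} : Set (Subgroup.normalizer (D : Set G))) := by
          intro d hd
          rw [Subgroup.mem_subgroupOf] at hd
          rw [mem_centralizer_singleton_iff]
          apply Subtype.ext
          exact (Subgroup.mem_centralizer_iff.mp hkC _ hd).symm
        have hQk := eq_sylow_map_of_ge hPp hDk Qk hxQ
        obtain ⟨S, hS⟩ := exists_sylow_centralizer_of_normalizer D hD k Qk hQk
        have e1 := IsInducedBlock.centralChar_sub hM D hD hind₁ ξ₁ hξ₁ χ₀ hχ₀ k S hS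
        have e2 := IsInducedBlock.centralChar_sub hM D hD hind₂ ξ₂ hξ₂ χ₀ hχ₀ k S hS
        have e3 := MemLocalIdeal.sub hM e2 e1
        convert e3 using 1
        ring
      · have hnot : ∀ y : Subgroup.normalizer (D : Set G), IsConj k y →
            y ∉ Subgroup.centralizer
              ((D.subgroupOf (Subgroup.normalizer (D : Set G)) : Subgroup _) : Set _) := by
          intro y hy hyc
          apply hkC
          obtain ⟨n, hn⟩ := isConj_iff.mp hy
          have hyG : (y : G) ∈ Subgroup.centralizer (D : Set G) := by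
            rw [Subgroup.mem_centralizer_iff]
            intro u hu
            have := Subgroup.mem_centralizer_iff.mp hyc ⟨u, hDN hu⟩ (by
              rw [SetLike.mem_coe, Subgroup.mem_subgroupOf]; exact hu)
            exact congrArg Subtype.val this
          have h2 : (k : G) = (n : G)⁻¹ * (y : G) * ((n : G)⁻¹)⁻¹ := by
            rw [← hn]
            simp only [Subgroup.coe_mul, Subgroup.coe_inv]
            group
          rw [h2]
          exact (conj_mem_centralizer_iff_of_mem_normalizer D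
            ((Subgroup.normalizer (D : Set G)).inv_mem n.2) (y : G)).mpr hyG
        have e1 := centralChar_memLocalIdeal_of_not_centralizer hM
          (D.subgroupOf (Subgroup.normalizer (D : Set G))) hPp k hnot ξ₁
        have e2 := centralChar_memLocalIdeal_of_not_centralizer hM
          (D.subgroupOf (Subgroup.normalizer (D : Set G))) hPp k hnot ξ₂
        exact MemLocalIdeal.sub hM e2 e1
  rw [cOmega_blockMat, cOmega_blockMat, if_pos hξ₁] at key
  have hmem : ξ₂ ∈ b₁ := by
    by_contra hnot
    rw [if_neg hnot, zero_sub] at key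
    have := MemLocalIdeal.neg key
    rw [neg_neg] at this
    exact not_memLocalIdeal_one hM this
  rw [hb₁] at hmem
  rw [hb₁, hb₂]
  exact blockOf_eq_of_mem hM hmem

end blk

end Cfsg.Agent.Lib.Helper6
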