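import Mathlib
import Cfsg.Prelude.Def_Blocks
import Cfsg.Agent.Lib.Helper6.BlkFirstMain
import Cfsg.Agent.Lib.Helper6.BlkInd
import Cfsg.Agent.Lib.Helper6.Auto
import Cfsg.Agent.S0908

set_option autoImplicit false
set_option linter.unusedSectionVars false
open Cfsg

namespace Cfsg.Agent.Lib.Helper6

open scoped ComplexConjugate

section equiv

variable {A B : Type*} [Group A] [Group B]
variable {p : ℕ} {M : Ideal Cfsg.AlgInt}

theorem centralizer_singleton_map_mulEquiv (e : A ≃* B) (a : A) :
    Subgroup.centralizer ({e a} : Set B)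
      = (Subgroup.centralizer ({a} : Set A)).map e.toMonoidHom := by
  ext x
  rw [Subgroup.mem_centralizer_singleton_iff, Subgroup.mem_map]
  constructor
  · intro hx
    refine ⟨e.symm x, ?_, by simp⟩
    rw [Subgroup.mem_centralizer_singleton_iff]
    apply e.injective
    rw [map_mul, map_mul]
    simpa using hx
  · rintro ⟨y, hy, rfl⟩
    rw [Subgroup.mem_centralizer_singleton_iff] at hy
    change e y * e a = e a * e y
    rw [← map_mul, ← map_mul, hy]

theorem centralChar_comp_mulEquiv (e : A ≃* B) (θ : B → ℂ) (a : A) :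
    Cfsg.centralChar (fun m => θ (e m)) a = Cfsg.centralChar θ (e a) := by
  unfold Cfsg.centralChar
  have h1 : (Subgroup.map e.toMonoidHom (Subgroup.centralizer ({a} : Set A))).index
      = (Subgroup.centralizer ({a} : Set A)).index := Subgroup.index_map_equiv _ e
  rw [centralizer_singleton_map_mulEquiv, h1]
  simp only [map_one]

theorem sameBlock_comp_mulEquiv (e : A ≃* B) {θ θ' : B → ℂ} :
    Cfsg.SameBlock M (fun m => θ (e m)) (fun m => θ' (e m)) ↔ Cfsg.SameBlock M θ θ' := by
  constructor
  · intro h b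
    have := h (e.symm b)
    rw [centralChar_comp_mulEquiv, centralChar_comp_mulEquiv, e.apply_symm_apply] at this
    exact this
  · intro h a
    rw [centralChar_comp_mulEquiv, centralChar_comp_mulEquiv]
    exact h (e a)

end equiv

section trans

variable {G : Type*} [Group G] [Fintype G] [DecidableEq G]
variable {p : ℕ} {M : Ideal Cfsg.AlgInt}

theorem resMat_apply_one (H : Subgroup G) [Fintype H] (X : Matrix G G ℂ) (h : H) :
    resMat H X h 1 = X (h : G) 1 := by
  unfold resMat
  rw [regMat_apply, inv_one, mul_one]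
  rfl

theorem cOmega_comp_resMat_resMat (K : Subgroup G) [Fintype K] (H' : Subgroup K) [Fintype H']
    (H : Subgroup G) [Fintype H] (e : H' ≃* H) (he : ∀ x : H', ((e x : H) : G) = ((x : K) : G))
    (θ : H → ℂ) (X : Matrix G G ℂ) :
    cOmega (fun x : H' => θ (e x)) (resMat H' (resMat K X)) = cOmega θ (resMat H X) := by
  unfold cOmega
  simp only [map_one]
  congr 1
  apply Fintype.sum_equiv e.toEquiv
  intro x
  rw [resMat_apply_one, resMat_apply_one, resMat_apply_one]
  simp only [MulEquiv.toEquiv_eq_coe, MulEquiv.coe_toEquiv]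
  rw [he x]

/-- transitivity of block induction -/
theorem IsInducedBlock.trans (hM : Cfsg.IsPModular p M) (K : Subgroup G) [Fintype K]
    (H' : Subgroup K) [Fintype H'] (H : Subgroup G) [Fintype H] (e : H' ≃* H)
    (he : ∀ x : H', ((e x : H) : G) = ((x : K) : G)) (θ : Cfsg.IrrCharacter H)
    {β : Set (Cfsg.IrrCharacter K)} {B : Set (Cfsg.IrrCharacter G)}
    (h1 : Cfsg.IsInducedBlock M H' (Cfsg.blockOf M (fun x : H' => (θ : H → ℂ) (e x))) β)
    (h2 : Cfsg.IsInducedBlock M K β B) :
    Cfsg.IsInducedBlock M H (Cfsg.blockOf M (θ : H → ℂ)) B := by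
  classical
  refine ⟨⟨θ, rfl⟩, h2.2.1, ?_⟩
  intro ξ hξ χ hχ g
  obtain ⟨χ', hβ⟩ := h2.1
  have hχ' : χ' ∈ β := by rw [hβ]; exact sameBlock_refl hM _
  have hξ₁ : (⟨fun x : H' => (ξ : H → ℂ) (e x), IsIrrCharacter.comp_mulEquiv e ξ.2⟩ :
      Cfsg.IrrCharacter H') ∈ Cfsg.blockOf M (fun x : H' => (θ : H → ℂ) (e x)) := by
    change Cfsg.SameBlock M _ _
    exact (sameBlock_comp_mulEquiv e).mpr hξ
  have hXc : regMat (classInd g) ∈ centerAlg G := regMat_mem_centerAlg (classInd_isClassFunction g)
  have hXs : regMat (classInd g) ∈ sMat hM G := classInd_mem_sMat hM g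
  have e1 := IsInducedBlock.cOmega_sub H' hM h1 _ hξ₁ χ' hχ' (resMat_mem_centerAlg K hXc)
    (resMat_mem_sMat K hM hXs)
  have e2 := IsInducedBlock.cOmega_sub K hM h2 χ' hχ' χ hχ hXc hXs
  rw [inducedCentralChar_eq_cOmega]
  rw [cOmega_classInd _ (IsIrrCharacter.isClassFunction χ.2)] at e2
  simp only at e1
  rw [cOmega_comp_resMat_resMat K H' H e he] at e1
  have := MemLocalIdeal.add hM e1 e2
  rw [sub_add_sub_cancel] at this
  exact this

end trans

section defect

variable {G : Type*} [Group G] [Fintype G] [DecidableEq G]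
variable {p : ℕ} {M : Ideal Cfsg.AlgInt}

omit [Fintype G] [DecidableEq G] in
theorem subgroupOf_normal_of_le_normalizer (D H : Subgroup G)
    (hHN : H ≤ Subgroup.normalizer (D : Set G)) : (D.subgroupOf H).Normal := by
  constructor
  intro n hn k
  rw [Subgroup.mem_subgroupOf] at hn ⊢
  have := (Subgroup.mem_normalizer_iff.mp (hHN k.2) (n : G)).mp hn
  simpa using this

/-- a block of `H` (with `D ≤ H ≤ N_G(D)`) inducing a block with defect group `D` has defect
group `D` -/
theorem isDefectGroup_of_induced (hM : Cfsg.IsPModular p M) [Fact p.Prime] (D : Subgroup G)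
    (hD : IsPGroup p D) (H : Subgroup G) [Fintype H] (hDH : D ≤ H)
    (hHN : H ≤ Subgroup.normalizer (D : Set G))
    {b : Set (Cfsg.IrrCharacter H)} {B : Set (Cfsg.IrrCharacter G)}
    (hind : Cfsg.IsInducedBlock M H b B) (hDB : Cfsg.IsDefectGroup p M B D) :
    Cfsg.IsDefectGroup p M b (D.subgroupOf H) := by
  classical
  have hB := hind.2.1
  obtain ⟨ξ₀, hbξ⟩ := hind.1
  obtain ⟨g, hg⟩ := exists_isDefectClass hM ξ₀
  have Q : Sylow p (Subgroup.centralizer ({g} : Set H)) := default
  have hDb : Cfsg.IsDefectGroup p M b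
      ((Q : Subgroup (Subgroup.centralizer ({g} : Set H))).map
        (Subgroup.centralizer ({g} : Set H)).subtype) := by
    rw [hbξ]; exact ⟨g, hg, Q, rfl⟩
  have hcore := Cfsg.Agent.S0912.result p M hM b hind.1 _ hDb
  obtain ⟨E, hE, hle⟩ := Cfsg.Agent.S0917.result p M hM _ b hind.1 B hB hind _ hDb
  have hPn := subgroupOf_normal_of_le_normalizer D H hHN
  have hPp : IsPGroup p (D.subgroupOf H) := by
    rw [← Subgroup.comap_subtype]
    exact hD.comap_subtype
  have h1 : D.subgroupOf H ≤ Cfsg.pCore p H := le_sSup ⟨hPn, hPp⟩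
  have hDle : D ≤ ((Q : Subgroup (Subgroup.centralizer ({g} : Set H))).map
        (Subgroup.centralizer ({g} : Set H)).subtype).map H.subtype := by
    intro d hd
    exact ⟨⟨d, hDH hd⟩, hcore (h1 (by rw [Subgroup.mem_subgroupOf]; exact hd)), rfl⟩
  have hcardE := Cfsg.Agent.S0908.result p M hM B hB E hE
  have hcardD := Cfsg.Agent.S0908.result p M hM B hB D hDB
  have hDE : D = E := Subgroup.eq_of_le_of_card_ge (hDle.trans hle) (by rw [hcardE, hcardD])
  have heq : D.subgroupOf H
      = (Q : Subgroup (Subgroup.centralizer ({g} : Set H))).map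
        (Subgroup.centralizer ({g} : Set H)).subtype := by
    apply le_antisymm (h1.trans hcore)
    intro r hr
    rw [Subgroup.mem_subgroupOf]
    have : (r : G) ∈ E := hle ⟨r, hr, rfl⟩
    rw [← hDE] at this
    exact this
  rw [heq]
  exact hDb

end defect

end Cfsg.Agent.Lib.Helper6
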