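import Mathlib
import Cfsg.Prelude.Def_Blocks
import Cfsg.Agent.Lib.Helper6.BlkTrans
import Cfsg.Agent.Lib.Helper6.BlkCover3
import Cfsg.Agent.Lib.Helper6.BlkOrthFull
import Cfsg.Agent.S0971
import Cfsg.Agent.S0964

set_option autoImplicit false
set_option linter.unusedSectionVars false
open Cfsg

namespace Cfsg.Agent.Lib.Helper6

open scoped ComplexConjugate

section ext

variable {G : Type*} [Group G] [Fintype G] [DecidableEq G]
variable {p : ℕ} {M : Ideal Cfsg.AlgInt}

omit [Fintype G] [DecidableEq G] in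
theorem map_centralizer_subgroupOf_normalizer (P : Subgroup G) :
    (Subgroup.centralizer ((P.subgroupOf (Subgroup.normalizer (P : Set G))) : Set (Subgroup.normalizer (P : Set G)))).map ((Subgroup.normalizer (P : Set G))).subtype
      = Subgroup.centralizer (P : Set G) := by
  ext x
  rw [Subgroup.mem_map]
  constructor
  · rintro ⟨n, hn, rfl⟩
    rw [Subgroup.mem_centralizer_iff] at hn ⊢
    intro d hd
    have h1 := hn ⟨d, Subgroup.le_normalizer hd⟩ (by
      rw [SetLike.mem_coe, Subgroup.mem_subgroupOf]; exact hd)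
    exact congrArg Subtype.val h1
  · intro hx
    have hxN : x ∈ (Subgroup.normalizer (P : Set G)) := Subgroup.centralizer_le_normalizer _ hx
    refine ⟨⟨x, hxN⟩, ?_, rfl⟩
    rw [Subgroup.mem_centralizer_iff] at hx ⊢
    intro q hq
    rw [SetLike.mem_coe, Subgroup.mem_subgroupOf] at hq
    apply Subtype.ext
    exact hx _ hq

omit [Fintype G] [DecidableEq G] in
theorem map_sup_centralizer_subgroupOf_normalizer (P : Subgroup G) :
    ((P.subgroupOf (Subgroup.normalizer (P : Set G))) ⊔ Subgroup.centralizer ((P.subgroupOf (Subgroup.normalizer (P : Set G))) : Set (Subgroup.normalizer (P : Set G)))).map ((Subgroup.normalizer (P : Set G))).subtype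
      = P ⊔ Subgroup.centralizer (P : Set G) := by
  rw [Subgroup.map_sup, map_centralizer_subgroupOf_normalizer,
    Subgroup.map_subgroupOf_eq_of_le Subgroup.le_normalizer]

/-- the extended first main theorem: blocks of `P C_G(P)` inducing the same block with defect
group `P` are conjugate under `N_G(P)` -/
theorem extFirstMain_conj (hM : Cfsg.IsPModular p M) [Fact p.Prime] (P : Subgroup G)
    (hP : IsPGroup p P) [Fintype (Subgroup.normalizer (P : Set G))] [Fintype ↥(P ⊔ Subgroup.centralizer (P : Set G))]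
    {B : Set (Cfsg.IrrCharacter G)} (hPB : Cfsg.IsDefectGroup p M B P)
    (b b' : Set (Cfsg.IrrCharacter ↥(P ⊔ Subgroup.centralizer (P : Set G))))
    (hb : Cfsg.IsInducedBlock M (P ⊔ Subgroup.centralizer (P : Set G)) b B) (hb' : Cfsg.IsInducedBlock M (P ⊔ Subgroup.centralizer (P : Set G)) b' B) :
    ∃ n ∈ (Subgroup.normalizer (P : Set G)), ∀ θ ∈ b, ∃ θ' ∈ b', ∀ x : ↥(P ⊔ Subgroup.centralizer (P : Set G)), ∀ hx : n * (x : G) * n⁻¹ ∈ (P ⊔ Subgroup.centralizer (P : Set G)),
      (θ' : ↥(P ⊔ Subgroup.centralizer (P : Set G)) → ℂ) x = (θ : ↥(P ⊔ Subgroup.centralizer (P : Set G)) → ℂ) ⟨n * (x : G) * n⁻¹, hx⟩ := by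
  classical
  have hQn : (P.subgroupOf (Subgroup.normalizer (P : Set G))).Normal := subgroupOf_normalizer_normal P
  have hQp : IsPGroup p (P.subgroupOf (Subgroup.normalizer (P : Set G))) := by
    rw [← Subgroup.comap_subtype]; exact hP.comap_subtype
  have : Fintype ↥((P.subgroupOf (Subgroup.normalizer (P : Set G))) ⊔ Subgroup.centralizer ((P.subgroupOf (Subgroup.normalizer (P : Set G))) : Set (Subgroup.normalizer (P : Set G)))) := Fintype.ofFinite _
  have hL'n : (((P.subgroupOf (Subgroup.normalizer (P : Set G))) ⊔ Subgroup.centralizer ((P.subgroupOf (Subgroup.normalizer (P : Set G))) : Set (Subgroup.normalizer (P : Set G))))).Normal := inferInstance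
  obtain ⟨e, he⟩ : ∃ e : ↥((P.subgroupOf (Subgroup.normalizer (P : Set G))) ⊔ Subgroup.centralizer ((P.subgroupOf (Subgroup.normalizer (P : Set G))) : Set (Subgroup.normalizer (P : Set G)))) ≃* ↥(P ⊔ Subgroup.centralizer (P : Set G)), ∀ x : ↥((P.subgroupOf (Subgroup.normalizer (P : Set G))) ⊔ Subgroup.centralizer ((P.subgroupOf (Subgroup.normalizer (P : Set G))) : Set (Subgroup.normalizer (P : Set G)))), ((e x : ↥(P ⊔ Subgroup.centralizer (P : Set G))) : G) = ((x : (Subgroup.normalizer (P : Set G))) : G) := by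
    refine ⟨(Subgroup.equivMapOfInjective _ ((Subgroup.normalizer (P : Set G))).subtype (Subgroup.subtype_injective _)).trans
      (MulEquiv.subgroupCongr (map_sup_centralizer_subgroupOf_normalizer P)), ?_⟩
    intro x; rfl
  obtain ⟨θ, hbθ⟩ := hb.1
  obtain ⟨ψ, hbψ⟩ := hb'.1
  obtain ⟨θ₁, hθ₁⟩ : ∃ θ₁ : Cfsg.IrrCharacter ↥((P.subgroupOf (Subgroup.normalizer (P : Set G))) ⊔ Subgroup.centralizer ((P.subgroupOf (Subgroup.normalizer (P : Set G))) : Set (Subgroup.normalizer (P : Set G)))), (θ₁ : ↥((P.subgroupOf (Subgroup.normalizer (P : Set G))) ⊔ Subgroup.centralizer ((P.subgroupOf (Subgroup.normalizer (P : Set G))) : Set (Subgroup.normalizer (P : Set G)))) → ℂ) = fun x => (θ : ↥(P ⊔ Subgroup.centralizer (P : Set G)) → ℂ) (e x) :=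
    ⟨⟨_, IsIrrCharacter.comp_mulEquiv e θ.2⟩, rfl⟩
  obtain ⟨ψ₁, hψ₁⟩ : ∃ ψ₁ : Cfsg.IrrCharacter ↥((P.subgroupOf (Subgroup.normalizer (P : Set G))) ⊔ Subgroup.centralizer ((P.subgroupOf (Subgroup.normalizer (P : Set G))) : Set (Subgroup.normalizer (P : Set G)))), (ψ₁ : ↥((P.subgroupOf (Subgroup.normalizer (P : Set G))) ⊔ Subgroup.centralizer ((P.subgroupOf (Subgroup.normalizer (P : Set G))) : Set (Subgroup.normalizer (P : Set G)))) → ℂ) = fun x => (ψ : ↥(P ⊔ Subgroup.centralizer (P : Set G)) → ℂ) (e x) :=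
    ⟨⟨_, IsIrrCharacter.comp_mulEquiv e ψ.2⟩, rfl⟩
  obtain ⟨⟨β, hβ⟩, hcov⟩ := Cfsg.Agent.S0971.result p M hM (P.subgroupOf (Subgroup.normalizer (P : Set G))) hQp
    (Cfsg.blockOf M (θ₁ : ↥((P.subgroupOf (Subgroup.normalizer (P : Set G))) ⊔ Subgroup.centralizer ((P.subgroupOf (Subgroup.normalizer (P : Set G))) : Set (Subgroup.normalizer (P : Set G)))) → ℂ)) ⟨θ₁, rfl⟩
  obtain ⟨⟨β', hβ'⟩, hcov'⟩ := Cfsg.Agent.S0971.result p M hM (P.subgroupOf (Subgroup.normalizer (P : Set G))) hQp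
    (Cfsg.blockOf M (ψ₁ : ↥((P.subgroupOf (Subgroup.normalizer (P : Set G))) ⊔ Subgroup.centralizer ((P.subgroupOf (Subgroup.normalizer (P : Set G))) : Set (Subgroup.normalizer (P : Set G)))) → ℂ)) ⟨ψ₁, rfl⟩
  -- `β` and `β'` induce `B`
  have hβB : Cfsg.IsInducedBlock M (Subgroup.normalizer (P : Set G)) β B := by
    obtain ⟨B₁, hB₁⟩ := inducedBlockDefined_of_centralizer_le P (Subgroup.normalizer (P : Set G)) hM hP Subgroup.le_normalizer
      (Subgroup.centralizer_le_normalizer _) le_rfl β hβ.2.1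
    have hβ2 := hβ
    rw [hθ₁] at hβ2
    have ht := IsInducedBlock.trans hM (Subgroup.normalizer (P : Set G)) ((P.subgroupOf (Subgroup.normalizer (P : Set G))) ⊔ Subgroup.centralizer ((P.subgroupOf (Subgroup.normalizer (P : Set G))) : Set (Subgroup.normalizer (P : Set G)))) (P ⊔ Subgroup.centralizer (P : Set G)) e he θ hβ2 hB₁
    rw [← hbθ] at ht
    rw [IsInducedBlock.unique (P ⊔ Subgroup.centralizer (P : Set G)) hM hb ht]
    exact hB₁
  have hβ'B : Cfsg.IsInducedBlock M (Subgroup.normalizer (P : Set G)) β' B := by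
    obtain ⟨B₁, hB₁⟩ := inducedBlockDefined_of_centralizer_le P (Subgroup.normalizer (P : Set G)) hM hP Subgroup.le_normalizer
      (Subgroup.centralizer_le_normalizer _) le_rfl β' hβ'.2.1
    have hβ2 := hβ'
    rw [hψ₁] at hβ2
    have ht := IsInducedBlock.trans hM (Subgroup.normalizer (P : Set G)) ((P.subgroupOf (Subgroup.normalizer (P : Set G))) ⊔ Subgroup.centralizer ((P.subgroupOf (Subgroup.normalizer (P : Set G))) : Set (Subgroup.normalizer (P : Set G)))) (P ⊔ Subgroup.centralizer (P : Set G)) e he ψ hβ2 hB₁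
    rw [← hbψ] at ht
    rw [IsInducedBlock.unique (P ⊔ Subgroup.centralizer (P : Set G)) hM hb' ht]
    exact hB₁
  have hβdef := isDefectGroup_of_induced hM P hP (Subgroup.normalizer (P : Set G)) Subgroup.le_normalizer le_rfl hβB hPB
  have hββ' : β = β' := firstMain_unique hM P hP B β β' hβdef hβB hβ'B
  -- covering
  obtain ⟨χ, hχ⟩ := exists_irr_over ((P.subgroupOf (Subgroup.normalizer (P : Set G))) ⊔ Subgroup.centralizer ((P.subgroupOf (Subgroup.normalizer (P : Set G))) : Set (Subgroup.normalizer (P : Set G)))) θ₁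
  obtain ⟨χ', hχ'⟩ := exists_irr_over ((P.subgroupOf (Subgroup.normalizer (P : Set G))) ⊔ Subgroup.centralizer ((P.subgroupOf (Subgroup.normalizer (P : Set G))) : Set (Subgroup.normalizer (P : Set G)))) ψ₁
  have hχβ : χ ∈ β := by
    have h1 := hcov (Cfsg.blockOf M (χ : (Subgroup.normalizer (P : Set G)) → ℂ)) ⟨χ, rfl⟩
      ⟨χ, sameBlock_refl hM _, θ₁, sameBlock_refl hM _, hχ⟩
    rw [IsInducedBlock.unique ((P.subgroupOf (Subgroup.normalizer (P : Set G))) ⊔ Subgroup.centralizer ((P.subgroupOf (Subgroup.normalizer (P : Set G))) : Set (Subgroup.normalizer (P : Set G)))) hM hβ h1]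
    exact sameBlock_refl hM _
  have hχ'β : χ' ∈ β := by
    have h1 := hcov' (Cfsg.blockOf M (χ' : (Subgroup.normalizer (P : Set G)) → ℂ)) ⟨χ', rfl⟩
      ⟨χ', sameBlock_refl hM _, ψ₁, sameBlock_refl hM _, hχ'⟩
    rw [hββ', IsInducedBlock.unique ((P.subgroupOf (Subgroup.normalizer (P : Set G))) ⊔ Subgroup.centralizer ((P.subgroupOf (Subgroup.normalizer (P : Set G))) : Set (Subgroup.normalizer (P : Set G)))) hM hβ' h1]
    exact sameBlock_refl hM _
  obtain ⟨g, θ', hθ', hconj⟩ := Cfsg.Agent.S0964.result p M hM ((P.subgroupOf (Subgroup.normalizer (P : Set G))) ⊔ Subgroup.centralizer ((P.subgroupOf (Subgroup.normalizer (P : Set G))) : Set (Subgroup.normalizer (P : Set G)))) β hβ.2.1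
    (Cfsg.blockOf M (θ₁ : ↥((P.subgroupOf (Subgroup.normalizer (P : Set G))) ⊔ Subgroup.centralizer ((P.subgroupOf (Subgroup.normalizer (P : Set G))) : Set (Subgroup.normalizer (P : Set G)))) → ℂ)) ⟨θ₁, rfl⟩ χ hχβ θ₁ (sameBlock_refl hM _) hχ χ' hχ'β ψ₁ hχ'
  refine ⟨(g : G), g.2, ?_⟩
  intro ϑ hϑ
  -- conjugation by `g` on `L`
  obtain ⟨c, hc⟩ : ∃ c : ↥(P ⊔ Subgroup.centralizer (P : Set G)) ≃* ↥(P ⊔ Subgroup.centralizer (P : Set G)), ∀ x : ↥(P ⊔ Subgroup.centralizer (P : Set G)), ((c x : ↥(P ⊔ Subgroup.centralizer (P : Set G))) : G) = (g : G) * (x : G) * (g : G)⁻¹ := by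
    refine ⟨(e.symm.trans (MulAut.conjNormal g : ↥((P.subgroupOf (Subgroup.normalizer (P : Set G))) ⊔ Subgroup.centralizer ((P.subgroupOf (Subgroup.normalizer (P : Set G))) : Set (Subgroup.normalizer (P : Set G)))) ≃* ↥((P.subgroupOf (Subgroup.normalizer (P : Set G))) ⊔ Subgroup.centralizer ((P.subgroupOf (Subgroup.normalizer (P : Set G))) : Set (Subgroup.normalizer (P : Set G)))))).trans e, ?_⟩
    intro x
    simp only [MulEquiv.trans_apply]
    rw [he, MulAut.conjNormal_apply]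
    have h1 := he (e.symm x)
    rw [e.apply_symm_apply] at h1
    simp only [Subgroup.coe_mul, Subgroup.coe_inv]
    rw [← h1]
  refine ⟨⟨fun x => (ϑ : ↥(P ⊔ Subgroup.centralizer (P : Set G)) → ℂ) (c x), IsIrrCharacter.comp_mulEquiv c ϑ.2⟩, ?_, ?_⟩
  · rw [hbψ]
    change Cfsg.SameBlock M (ψ : ↥(P ⊔ Subgroup.centralizer (P : Set G)) → ℂ) (fun x => (ϑ : ↥(P ⊔ Subgroup.centralizer (P : Set G)) → ℂ) (c x))
    obtain ⟨θ'₀, hθ'₀⟩ : ∃ θ'₀ : ↥(P ⊔ Subgroup.centralizer (P : Set G)) → ℂ, θ'₀ = fun x => (θ' : ↥((P.subgroupOf (Subgroup.normalizer (P : Set G))) ⊔ Subgroup.centralizer ((P.subgroupOf (Subgroup.normalizer (P : Set G))) : Set (Subgroup.normalizer (P : Set G)))) → ℂ) (e.symm x) := ⟨_, rfl⟩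
    have h1 : (θ' : ↥((P.subgroupOf (Subgroup.normalizer (P : Set G))) ⊔ Subgroup.centralizer ((P.subgroupOf (Subgroup.normalizer (P : Set G))) : Set (Subgroup.normalizer (P : Set G)))) → ℂ) = fun m => θ'₀ (e m) := by
      funext m
      rw [hθ'₀]
      simp only [MulEquiv.symm_apply_apply]
    have h2 : Cfsg.SameBlock M (θ : ↥(P ⊔ Subgroup.centralizer (P : Set G)) → ℂ) θ'₀ := by
      have h3 : Cfsg.SameBlock M (θ₁ : ↥((P.subgroupOf (Subgroup.normalizer (P : Set G))) ⊔ Subgroup.centralizer ((P.subgroupOf (Subgroup.normalizer (P : Set G))) : Set (Subgroup.normalizer (P : Set G)))) → ℂ) (θ' : ↥((P.subgroupOf (Subgroup.normalizer (P : Set G))) ⊔ Subgroup.centralizer ((P.subgroupOf (Subgroup.normalizer (P : Set G))) : Set (Subgroup.normalizer (P : Set G)))) → ℂ) := hθ'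
      rw [hθ₁, h1] at h3
      exact (sameBlock_comp_mulEquiv e).mp h3
    have h4 : (ψ : ↥(P ⊔ Subgroup.centralizer (P : Set G)) → ℂ) = fun x => θ'₀ (c x) := by
      funext x
      have h5 := hconj (e.symm x)
      rw [hψ₁] at h5
      simp only [MulEquiv.apply_symm_apply] at h5
      rw [h5, hθ'₀]
      simp only
      apply congrArg (θ' : ↥((P.subgroupOf (Subgroup.normalizer (P : Set G))) ⊔ Subgroup.centralizer ((P.subgroupOf (Subgroup.normalizer (P : Set G))) : Set (Subgroup.normalizer (P : Set G)))) → ℂ)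
      apply e.injective
      rw [e.apply_symm_apply]
      apply Subtype.ext
      rw [he, hc]
      have h1 := he (e.symm x)
      rw [e.apply_symm_apply] at h1
      simp only [Subgroup.coe_mul, Subgroup.coe_inv]
      rw [← h1]
    rw [h4]
    apply (sameBlock_comp_mulEquiv c).mpr
    have h6 : Cfsg.SameBlock M (θ : ↥(P ⊔ Subgroup.centralizer (P : Set G)) → ℂ) (ϑ : ↥(P ⊔ Subgroup.centralizer (P : Set G)) → ℂ) := by
      rw [hbθ] at hϑ
      exact hϑ
    exact SameBlock.trans' hM (SameBlock.symm' h2) h6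
  · intro x hx
    simp only
    apply congrArg (ϑ : ↥(P ⊔ Subgroup.centralizer (P : Set G)) → ℂ)
    apply Subtype.ext
    rw [hc]

end ext

end Cfsg.Agent.Lib.Helper6
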