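import Mathlib
import Cfsg.Prelude.Def_Blocks
import Cfsg.Agent.Lib.Helper6.BlkTrans
import Cfsg.Agent.Lib.Helper6.BlkOrthFull
import Cfsg.Agent.Lib.Helper6.BlkIndDefect
import Cfsg.Agent.S0973
import Cfsg.Agent.S0919
import Cfsg.Agent.S0958
import Cfsg.Agent.S0908

set_option autoImplicit false
set_option linter.unusedSectionVars false
open Cfsg

namespace Cfsg.Agent.Lib.Helper6

section major

variable {G : Type*} [Group G] [Fintype G] [DecidableEq G]
variable {p : ℕ} {M : Ideal Cfsg.AlgInt}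

/-- existence of a defect group -/
theorem exists_isDefectGroup (hM : Cfsg.IsPModular p M) [Fact p.Prime]
    (B : Set (Cfsg.IrrCharacter G)) (hB : Cfsg.IsPBlock M B) :
    ∃ D : Subgroup G, Cfsg.IsDefectGroup p M B D := by
  obtain ⟨χ₀, rfl⟩ := hB
  obtain ⟨g, hg⟩ := exists_isDefectClass hM χ₀
  have Q : Sylow p (Subgroup.centralizer ({g} : Set G)) := default
  exact ⟨_, g, hg, Q, rfl⟩

/-- the defect of an induced block is at least the defect of the inducing block -/
theorem IsInducedBlock.blockDefect_le (hM : Cfsg.IsPModular p M) [Fact p.Prime]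
    (H : Subgroup G) [Fintype H]
    {b : Set (Cfsg.IrrCharacter H)} {B : Set (Cfsg.IrrCharacter G)}
    (hind : Cfsg.IsInducedBlock M H b B) :
    Cfsg.blockDefect p b ≤ Cfsg.blockDefect p B := by
  classical
  have hp : p.Prime := hM.1
  obtain ⟨D, hD⟩ := exists_isDefectGroup hM b hind.1
  obtain ⟨E, hE, hle⟩ := IsInducedBlock.exists_defectGroup_ge H hM hind D hD
  have h1 := Cfsg.Agent.S0908.result p M hM b hind.1 D hD
  have h2 := Cfsg.Agent.S0908.result p M hM B hind.2.1 E hE
  have h3 : Nat.card (D.map H.subtype) = Nat.card D :=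
    Nat.card_congr (Subgroup.equivMapOfInjective D H.subtype H.subtype_injective).symm.toEquiv
  have h4 : Nat.card (D.map H.subtype) ∣ Nat.card E := Subgroup.card_dvd_of_le hle
  rw [h3, h1, h2] at h4
  exact (Nat.pow_dvd_pow_iff_le_right hp.one_lt).mp h4

theorem IsDefectGroup.isPGroup' [Fact p.Prime] {B : Set (Cfsg.IrrCharacter G)} {D : Subgroup G}
    (hD : Cfsg.IsDefectGroup p M B D) : IsPGroup p D := by
  obtain ⟨g, _, Q, rfl⟩ := hD
  exact Q.isPGroup'.map _

/-- auxiliary form of the major subsection lemma with the subgroups as variables -/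
theorem exists_induced_block_of_chain (hM : Cfsg.IsPModular p M) [Fact p.Prime]
    (B : Set (Cfsg.IrrCharacter G)) (hB : Cfsg.IsPBlock M B) (D : Subgroup G)
    (hD : Cfsg.IsDefectGroup p M B D) (K L P₀ : Subgroup G)
    (hDL : D ≤ L) (hCL : Subgroup.centralizer (D : Set G) ≤ L)
    (hLN : L ≤ Subgroup.normalizer (D : Set G)) (hLK : L ≤ K)
    (hP₀ : IsPGroup p P₀) (hP₀K : P₀ ≤ K) (hC₀K : Subgroup.centralizer (P₀ : Set G) ≤ K)
    (hKN₀ : K ≤ Subgroup.normalizer (P₀ : Set G))
    (b₁ : Set (Cfsg.IrrCharacter L)) (hb₁ind : Cfsg.IsInducedBlock M L b₁ B) :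
    ∃ β : Set (Cfsg.IrrCharacter K),
      Cfsg.IsInducedBlock M K β B ∧ Cfsg.blockDefect p B ≤ Cfsg.blockDefect p β := by
  classical
  have hp : p.Prime := hM.1
  have hDp : IsPGroup p D := IsDefectGroup.isPGroup' hD
  have hDK : D ≤ K := hDL.trans hLK
  obtain ⟨θ, hb₁⟩ := hb₁ind.1
  obtain ⟨e, he⟩ : ∃ e : ↥(L.subgroupOf K) ≃* ↥L, e = Subgroup.subgroupOfEquivOfLe hLK :=
    ⟨_, rfl⟩
  have hecoe : ∀ x : ↥(L.subgroupOf K), ((e x : L) : G) = ((x : K) : G) := by
    intro x
    rw [he]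
    rfl
  obtain ⟨θ', hθ'⟩ : ∃ θ' : Cfsg.IrrCharacter ↥(L.subgroupOf K),
      (θ' : ↥(L.subgroupOf K) → ℂ) = fun x => (θ : L → ℂ) (e x) :=
    ⟨⟨fun x => (θ : L → ℂ) (e x), IsIrrCharacter.comp_mulEquiv e θ.2⟩, rfl⟩
  -- the hypotheses inside `K`
  have hP' : IsPGroup p (D.subgroupOf K) := by
    rw [← Subgroup.comap_subtype]
    exact hDp.comap_subtype
  have hPH' : D.subgroupOf K ≤ L.subgroupOf K := Subgroup.subgroupOf_mono K hDL
  have hCH' : Subgroup.centralizer ((D.subgroupOf K : Subgroup K) : Set K) ≤ L.subgroupOf K := by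
    intro k hk
    rw [Subgroup.mem_subgroupOf]
    apply hCL
    rw [Subgroup.mem_centralizer_iff]
    intro w hw
    have h1 := (Subgroup.mem_centralizer_iff.mp hk) ⟨w, hDK hw⟩
      (by rw [SetLike.mem_coe, Subgroup.mem_subgroupOf]; exact hw)
    exact congrArg (fun z : K => (z : G)) h1
  have hHN' : L.subgroupOf K ≤ Subgroup.normalizer ((D.subgroupOf K : Subgroup K) : Set K) := by
    intro k hk
    rw [Subgroup.mem_subgroupOf] at hk
    rw [Subgroup.mem_normalizer_iff]
    intro n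
    rw [Subgroup.mem_subgroupOf, Subgroup.mem_subgroupOf]
    have := (Subgroup.mem_normalizer_iff.mp (hLN hk)) (n : G)
    simpa using this
  obtain ⟨β, hβ⟩ := Cfsg.Agent.S0919.result (G := K) p M hM (D.subgroupOf K) (L.subgroupOf K)
    hP' hPH' hCH' hHN' (Cfsg.blockOf M (θ' : ↥(L.subgroupOf K) → ℂ)) ⟨θ', rfl⟩
  obtain ⟨B', hB'⟩ := Cfsg.Agent.S0919.result p M hM P₀ K hP₀ hP₀K hC₀K hKN₀ β hβ.2.1
  have hβ' : Cfsg.IsInducedBlock M (L.subgroupOf K)
      (Cfsg.blockOf M (fun x : ↥(L.subgroupOf K) => (θ : L → ℂ) (e x))) β := by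
    rw [← hθ']
    exact hβ
  have : Fintype K := Fintype.ofFinite _
  have : Fintype L := Fintype.ofFinite _
  have : Fintype ↥(L.subgroupOf K) := Fintype.ofFinite _
  have htrans := IsInducedBlock.trans hM K (L.subgroupOf K) L e hecoe θ hβ' hB'
  rw [← hb₁] at htrans
  have hBB' : B = B' := IsInducedBlock.unique L hM hb₁ind htrans
  rw [← hBB'] at hB'
  refine ⟨β, hB', ?_⟩
  -- the defect
  obtain ⟨Dβ, hDβ, x, hx⟩ := (Cfsg.Agent.S0958.result (G := K)
    p M hM (D.subgroupOf K) (L.subgroupOf K)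
    hP' (sup_le hPH' hCH') hHN' β hβ.2.1).mp ⟨_, hβ⟩
  have h1 := Cfsg.Agent.S0908.result p M hM β hβ.2.1 Dβ hDβ
  have h2 := Cfsg.Agent.S0908.result p M hM B hB D hD
  have h3 : Nat.card ((D.subgroupOf K).map (MulAut.conj x).toMonoidHom) = Nat.card D := by
    rw [Nat.card_congr (Subgroup.equivMapOfInjective _ _ (MulAut.conj x).injective).symm.toEquiv]
    exact Nat.card_congr (Subgroup.subgroupOfEquivOfLe hDK).toEquiv
  have h4 := Subgroup.card_dvd_of_le hx
  rw [h3, h1, h2] at h4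
  exact (Nat.pow_dvd_pow_iff_le_right hp.one_lt).mp h4

/-- major subsections: for `y` in the centre of a defect group `D` of `B` there is a block of
`C_G(y)` inducing `B` whose defect is at least that of `B` -/
theorem exists_induced_block_centralizer_of_center (hM : Cfsg.IsPModular p M) [Fact p.Prime]
    (B : Set (Cfsg.IrrCharacter G)) (hB : Cfsg.IsPBlock M B) (D : Subgroup G)
    (hD : Cfsg.IsDefectGroup p M B D) (y : G) (hyD : y ∈ D) (hyZ : ∀ w ∈ D, w * y = y * w) :
    ∃ β : Set (Cfsg.IrrCharacter (Subgroup.centralizer ({y} : Set G))),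
      Cfsg.IsInducedBlock M (Subgroup.centralizer ({y} : Set G)) β B ∧
      Cfsg.blockDefect p B ≤ Cfsg.blockDefect p β := by
  classical
  have hDp : IsPGroup p D := IsDefectGroup.isPGroup' hD
  have hDK : D ≤ Subgroup.centralizer ({y} : Set G) := by
    intro w hw
    rw [Subgroup.mem_centralizer_singleton_iff]
    exact hyZ w hw
  have hCK : Subgroup.centralizer (D : Set G) ≤ Subgroup.centralizer ({y} : Set G) := by
    apply Subgroup.centralizer_le
    intro w hw
    rw [Set.mem_singleton_iff] at hw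
    rw [hw]
    exact hyD
  obtain ⟨⟨b₁, _, hb₁ind⟩, _⟩ := Cfsg.Agent.S0973.result p M hM B hB D hD
  have hyK : y ∈ Subgroup.centralizer ({y} : Set G) := by
    rw [Subgroup.mem_centralizer_singleton_iff]
  apply exists_induced_block_of_chain hM B hB D hD (Subgroup.centralizer ({y} : Set G))
    (D ⊔ Subgroup.centralizer (D : Set G)) (Subgroup.zpowers y) le_sup_left le_sup_right
    (sup_le Subgroup.le_normalizer (Subgroup.centralizer_le_normalizer _))
    (sup_le hDK hCK)
    (hDp.to_le (by rw [Subgroup.zpowers_le]; exact hyD))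
    (by rw [Subgroup.zpowers_le]; exact hyK)
    ?_ ?_ b₁ hb₁ind
  · apply Subgroup.centralizer_le
    intro w hw
    rw [Set.mem_singleton_iff] at hw
    rw [hw]
    exact Subgroup.mem_zpowers y
  · refine le_trans ?_ (Subgroup.centralizer_le_normalizer _)
    intro k hk
    rw [Subgroup.mem_centralizer_singleton_iff] at hk
    rw [Subgroup.mem_centralizer_iff]
    intro z hz
    obtain ⟨n, rfl⟩ := Subgroup.mem_zpowers_iff.mp hz
    have hc : Commute k y := hk
    exact ((hc.zpow_right n).eq).symm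

end major

end Cfsg.Agent.Lib.Helper6
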