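import Mathlib
import Cfsg.Prelude.Def_Blocks
import Cfsg.Agent.Lib.Helper6.BlkMajor
import Cfsg.Agent.Lib.Helper6.BlkRigid
import Cfsg.Agent.Lib.Helper6.BlkInd
import Cfsg.Agent.Lib.Helper6.BlkCenter
import Cfsg.Agent.S0929

set_option autoImplicit false
set_option linter.unusedSectionVars false
open Cfsg

namespace Cfsg.Agent.Lib.Helper6

/-- a maximal ideal of the algebraic integers above `p` exists -/
theorem exists_isPModular (p : ℕ) [hp : Fact p.Prime] :
    ∃ M : Ideal Cfsg.AlgInt, Cfsg.IsPModular p M := by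
  have hne : Ideal.span {(p : Cfsg.AlgInt)} ≠ ⊤ := by
    intro h
    rw [Ideal.span_singleton_eq_top] at h
    obtain ⟨u, hu⟩ := h.exists_right_inv
    have hu' : (p : ℂ) * (u : ℂ) = 1 := by
      have := congrArg (fun x : Cfsg.AlgInt => (x : ℂ)) hu
      simpa using this
    have hp0 : (p : ℂ) ≠ 0 := by exact_mod_cast hp.out.ne_zero
    have hval : (u : ℂ) = algebraMap ℚ ℂ (1 / p : ℚ) := by
      have : (u : ℂ) = 1 / p := by
        rw [eq_div_iff hp0, mul_comm]; exact hu'
      rw [this]; simp
    have hint : IsIntegral ℤ (algebraMap ℚ ℂ (1 / p : ℚ)) := hval ▸ u.2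
    have hint' : IsIntegral ℤ (1 / p : ℚ) :=
      (isIntegral_algebraMap_iff (A := ℚ) (B := ℂ) (R := ℤ) (algebraMap ℚ ℂ).injective).1 hint
    obtain ⟨n, hn⟩ := IsIntegrallyClosed.isIntegral_iff.1 hint'
    have : (n : ℚ) * p = 1 := by
      have hp0' : (p : ℚ) ≠ 0 := by exact_mod_cast hp.out.ne_zero
      simp at hn
      rw [hn]; field_simp
    have h2 : (n * p : ℤ) = 1 := by exact_mod_cast this
    have := Int.eq_one_or_neg_one_of_mul_eq_one' h2
    have hp1 := hp.out.one_lt
    omega
  obtain ⟨M, hM, hle⟩ := Ideal.exists_le_maximal _ hne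
  exact ⟨M, hp.out, hM, hle (Ideal.subset_span rfl)⟩

section central

variable {G : Type*} [Group G] [Fintype G] [DecidableEq G]
variable {p : ℕ} {M : Ideal Cfsg.AlgInt}

/-- an irreducible character is multiplicative along a central element -/
theorem IsIrrCharacter.apply_central_mul {χ : G → ℂ} (hχ : Cfsg.IsIrrCharacter G χ) {z : G}
    (hz : ∀ h : G, z * h = h * z) (k : G) : χ (z * k) = χ z * χ k / χ 1 := by
  have hcf : Cfsg.IsClassFunction G (fun g : G => if g = z then (1 : ℂ) else 0) := by
    intro g h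
    have : h * g * h⁻¹ = z ↔ g = z := by
      constructor
      · intro e
        have : g = h⁻¹ * z * h := by rw [← e]; group
        rw [this, mul_assoc, hz h, ← mul_assoc, inv_mul_cancel, one_mul]
      · intro e
        rw [e, ← hz h, mul_assoc, mul_inv_cancel, mul_one]
    simp only [this]
  have := sum_classFunction_mul_shift hχ hcf k
  simpa using this

theorem IsIrrCharacter.apply_central_pow {χ : G → ℂ} (hχ : Cfsg.IsIrrCharacter G χ) {z : G}
    (hz : ∀ h : G, z * h = h * z) (n : ℕ) : χ (z ^ n) / χ 1 = (χ z / χ 1) ^ n := by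
  have h1 := IsIrrCharacter.apply_one_ne_zero hχ
  induction n with
  | zero => simp [h1]
  | succ n ih =>
    rw [pow_succ', IsIrrCharacter.apply_central_mul hχ hz, pow_succ', ← ih]
    field_simp

/-- the central character at a central `p`-element is congruent to one -/
theorem centralChar_sub_one_of_central (hM : Cfsg.IsPModular p M) {χ : G → ℂ}
    (hχ : Cfsg.IsIrrCharacter G χ) {z : G} (hz : ∀ h : G, z * h = h * z) {k : ℕ}
    (hk : z ^ p ^ k = 1) : Cfsg.MemLocalIdeal M (χ z / χ 1 - 1) := by
  apply memLocalIdeal_sub_one_of_pow_eq_one hM (k := k)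
  rw [← IsIrrCharacter.apply_central_pow hχ hz, hk, div_self (IsIrrCharacter.apply_one_ne_zero hχ)]

end central

end Cfsg.Agent.Lib.Helper6
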