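import Mathlib
import Cfsg.Prelude.Def_Blocks
import Cfsg.Prelude.Def_BrauerPairs
import Cfsg.Agent.Lib.Helper6.BlkBrauer
import Cfsg.Agent.Lib.Helper6.BlkTrans
import Cfsg.Agent.Lib.Helper6.BlkOrthFull

set_option autoImplicit false
set_option linter.unusedSectionVars false
open Cfsg

namespace Cfsg.Agent.Lib.Helper6

open scoped ComplexConjugate

section pairs

variable {G : Type*} [Group G] [Fintype G] [DecidableEq G]
variable {p : ℕ} {M : Ideal Cfsg.AlgInt}

/-- for `H = C_G(Q)` the induced central character is the Brauer central character -/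
theorem inducedCentralChar_centralizer_eq (Q : Subgroup G)
    (ξ : Subgroup.centralizer (Q : Set G) → ℂ) (g : G) :
    Cfsg.inducedCentralChar (Subgroup.centralizer (Q : Set G)) ξ g
      = Cfsg.brauerCentralChar Q (Subgroup.centralizer (Q : Set G)) ξ g := by
  unfold Cfsg.inducedCentralChar Cfsg.brauerCentralChar
  have : {h : Subgroup.centralizer (Q : Set G) | IsConj g (h : G)}
      = {h : Subgroup.centralizer (Q : Set G) | IsConj g (h : G) ∧
          (h : G) ∈ Subgroup.centralizer (Q : Set G)} := by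
    ext h
    simp only [Set.mem_ofPred_eq]
    constructor
    · intro hc; exact ⟨hc, h.2⟩
    · intro hc; exact hc.1
  rw [this]

theorem brMat_centralizer_eq_resMat (Q : Subgroup G) [Fintype (Subgroup.centralizer (Q : Set G))]
    (X : Matrix G G ℂ) :
    brMat Q (Subgroup.centralizer (Q : Set G)) X = resMat (Subgroup.centralizer (Q : Set G)) X := by
  unfold brMat resMat
  congr 1
  funext h
  rw [brFun_of_mem Q _ _ h.2]
  rfl

/-- the Brauer-map value in terms of the central character of the restricted idempotent -/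
theorem brauerOmega_blockCoeff_eq (Q : Subgroup G) [Fintype (Subgroup.centralizer (Q : Set G))]
    (B : Set (Cfsg.IrrCharacter G)) (ξ : Subgroup.centralizer (Q : Set G) → ℂ) :
    Cfsg.brauerOmega Q (Cfsg.blockCoeff B) ξ
      = cOmega ξ (resMat (Subgroup.centralizer (Q : Set G)) (blockMat B)) := by
  unfold Cfsg.brauerOmega cOmega
  rw [finsum_eq_sum_of_fintype, Finset.sum_div]
  apply Finset.sum_congr rfl
  intro h _
  rw [resMat_apply_one]
  unfold blockMat
  rw [regMat_apply, inv_one, mul_one]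

/-- block induction from `C_G(Q)` is always defined -/
theorem inducedBlockDefined_centralizer (hM : Cfsg.IsPModular p M) (Q : Subgroup G)
    (hQ : IsPGroup p Q) [Fintype (Subgroup.centralizer (Q : Set G))]
    (ξ₀ : Cfsg.IrrCharacter (Subgroup.centralizer (Q : Set G))) :
    ∃ χ : Cfsg.IrrCharacter G, Cfsg.IsInducedBlock M (Subgroup.centralizer (Q : Set G))
      (Cfsg.blockOf M (ξ₀ : Subgroup.centralizer (Q : Set G) → ℂ))
      (Cfsg.blockOf M (χ : G → ℂ)) := by
  classical
  have hHN : Subgroup.centralizer (Q : Set G) ≤ Subgroup.normalizer (Q : Set G) :=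
    Subgroup.centralizer_le_normalizer _
  obtain ⟨χ, hχ⟩ := exists_irr_brauer Q (Subgroup.centralizer (Q : Set G)) hM hQ le_rfl hHN ξ₀
  refine ⟨χ, ⟨ξ₀, rfl⟩, ⟨χ, rfl⟩, ?_⟩
  intro ξ hξ χ' hχ' g
  have hXc : regMat (classInd g) ∈ centerAlg G := regMat_mem_centerAlg (classInd_isClassFunction g)
  have hXs : regMat (classInd g) ∈ sMat hM G := classInd_mem_sMat hM g
  have hsb : Cfsg.SameBlock M (ξ : Subgroup.centralizer (Q : Set G) → ℂ)
      (ξ₀ : Subgroup.centralizer (Q : Set G) → ℂ) := SameBlock.symm' hξ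
  have h2 := cOmega_sub_memLocalIdeal hM ξ.2 ξ₀.2 hsb
    (brMat_mem_centerAlg Q _ hHN hXc) (brMat_mem_sMat Q _ hM hXs)
  rw [← brauerCentralChar_eq_cOmega, ← brauerCentralChar_eq_cOmega] at h2
  have h3 := hχ _ hXc hXs
  rw [← brauerCentralChar_eq_cOmega, cOmega_classInd _ (IsIrrCharacter.isClassFunction χ.2)] at h3
  have h4 : Cfsg.MemLocalIdeal M (Cfsg.centralChar (χ : G → ℂ) g - Cfsg.centralChar (χ' : G → ℂ) g) :=
    hχ' g
  rw [inducedCentralChar_centralizer_eq]
  have h5 := MemLocalIdeal.add hM (MemLocalIdeal.add hM h2 h3) h4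
  convert h5 using 1
  ring

/-- `(Q, e)` is a Brauer pair of `B` iff `e` induces `B` -/
theorem isBrauerPairOf_iff_isInducedBlock (hM : Cfsg.IsPModular p M) (Q : Subgroup G)
    (hQ : IsPGroup p Q) [Fintype (Subgroup.centralizer (Q : Set G))]
    (e : Set (Cfsg.IrrCharacter (Subgroup.centralizer (Q : Set G))))
    (B : Set (Cfsg.IrrCharacter G)) :
    Cfsg.IsBrauerPairOf p M B Q e ↔ Cfsg.IsInducedBlock M (Subgroup.centralizer (Q : Set G)) e B := by
  classical
  constructor
  · rintro ⟨⟨_, he⟩, hB, h⟩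
    obtain ⟨ξ₀, heξ⟩ := he
    obtain ⟨χ₀, hBχ⟩ := hB
    obtain ⟨χ, hind⟩ := inducedBlockDefined_centralizer hM Q hQ ξ₀
    have hξ₀ : ξ₀ ∈ e := by rw [heξ]; exact sameBlock_refl hM _
    have h1 := h ξ₀ hξ₀
    rw [brauerOmega_blockCoeff_eq] at h1
    have hEc := blockMat_mem_centerAlg B
    have hEs : blockMat B ∈ sMat hM G := by rw [hBχ]; exact blockMat_mem_sMat hM χ₀
    have h2 := IsInducedBlock.cOmega_sub _ hM hind ξ₀ (sameBlock_refl hM _) χ (sameBlock_refl hM _)
      hEc hEs
    rw [cOmega_blockMat] at h2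
    have hχB : χ ∈ B := by
      by_contra hnot
      rw [if_neg hnot, sub_zero] at h2
      have h3 := MemLocalIdeal.sub hM h2 h1
      rw [sub_sub_cancel] at h3
      exact not_memLocalIdeal_one hM h3
    rw [heξ]
    have : B = Cfsg.blockOf M (χ : G → ℂ) := by
      rw [hBχ] at hχB ⊢
      exact blockOf_eq_of_mem hM hχB
    rw [this]
    exact hind
  · intro hind
    refine ⟨⟨hQ, hind.1⟩, hind.2.1, ?_⟩
    intro ξ hξ
    obtain ⟨χ₀, hBχ⟩ := hind.2.1
    have hχ₀ : χ₀ ∈ B := by rw [hBχ]; exact sameBlock_refl hM _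
    have hEc := blockMat_mem_centerAlg B
    have hEs : blockMat B ∈ sMat hM G := by rw [hBχ]; exact blockMat_mem_sMat hM χ₀
    have h2 := IsInducedBlock.cOmega_sub _ hM hind ξ hξ χ₀ hχ₀ hEc hEs
    rw [cOmega_blockMat, if_pos hχ₀] at h2
    rw [brauerOmega_blockCoeff_eq]
    exact h2

end pairs

end Cfsg.Agent.Lib.Helper6
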