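import Mathlib
import Cfsg.Prelude.Def_Blocks
import Cfsg.Agent.Lib.Helper6.BlkCover2
import Cfsg.Agent.Lib.Helper6.Auto
import Cfsg.Agent.Lib.Helper6.BlkIdem

set_option autoImplicit false
set_option linter.unusedSectionVars false
open Cfsg

namespace Cfsg.Agent.Lib.Helper6

open scoped ComplexConjugate

section aut

variable {K : Type*} [Group K] [Finite K]
variable {p : ℕ} {M : Ideal Cfsg.AlgInt}

/-- the action of an automorphism on the irreducible characters: `θ ↦ θ ∘ σ⁻¹` -/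
noncomputable def autIrr (σ : MulAut K) : Cfsg.IrrCharacter K ≃ Cfsg.IrrCharacter K where
  toFun θ := ⟨fun k => (θ : K → ℂ) ((σ⁻¹ : MulAut K) k),
    IsIrrCharacter.comp_mulEquiv (σ⁻¹ : MulAut K) θ.2⟩
  invFun θ := ⟨fun k => (θ : K → ℂ) (σ k), IsIrrCharacter.comp_mulEquiv σ θ.2⟩
  left_inv θ := by
    apply Subtype.ext
    funext k
    simp
  right_inv θ := by
    apply Subtype.ext
    funext k
    simp

theorem autIrr_apply (σ : MulAut K) (θ : Cfsg.IrrCharacter K) (k : K) :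
    (autIrr σ θ : K → ℂ) k = (θ : K → ℂ) ((σ⁻¹ : MulAut K) k) := rfl

theorem autIrr_symm_apply (σ : MulAut K) (θ : Cfsg.IrrCharacter K) (k : K) :
    ((autIrr σ).symm θ : K → ℂ) k = (θ : K → ℂ) (σ k) := rfl

theorem autIrr_one (θ : Cfsg.IrrCharacter K) : autIrr (1 : MulAut K) θ = θ := by
  apply Subtype.ext
  funext k
  rw [autIrr_apply]
  simp

theorem autIrr_mul (σ τ : MulAut K) (θ : Cfsg.IrrCharacter K) :
    autIrr (σ * τ) θ = autIrr σ (autIrr τ θ) := by
  apply Subtype.ext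
  funext k
  rw [autIrr_apply, autIrr_apply, autIrr_apply]
  simp [mul_inv_rev]

theorem autIrr_inv_autIrr (σ : MulAut K) (θ : Cfsg.IrrCharacter K) :
    autIrr σ⁻¹ (autIrr σ θ) = θ := by
  rw [← autIrr_mul, inv_mul_cancel, autIrr_one]

theorem autIrr_autIrr_inv (σ : MulAut K) (θ : Cfsg.IrrCharacter K) :
    autIrr σ (autIrr σ⁻¹ θ) = θ := by
  rw [← autIrr_mul, mul_inv_cancel, autIrr_one]

theorem autIrr_apply_one (σ : MulAut K) (θ : Cfsg.IrrCharacter K) :
    (autIrr σ θ : K → ℂ) 1 = (θ : K → ℂ) 1 := by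
  rw [autIrr_apply, map_one]

theorem centralChar_autIrr (σ : MulAut K) (θ : Cfsg.IrrCharacter K) (k : K) :
    Cfsg.centralChar (autIrr σ θ : K → ℂ) k
      = Cfsg.centralChar (θ : K → ℂ) ((σ⁻¹ : MulAut K) k) :=
  centralChar_comp_equiv (σ⁻¹ : MulAut K) (θ : K → ℂ) k

theorem sameBlock_autIrr (σ : MulAut K) {θ θ' : Cfsg.IrrCharacter K}
    (h : Cfsg.SameBlock M (θ : K → ℂ) (θ' : K → ℂ)) :
    Cfsg.SameBlock M (autIrr σ θ : K → ℂ) (autIrr σ θ' : K → ℂ) := by
  intro k
  rw [centralChar_autIrr, centralChar_autIrr]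
  exact h _

theorem sameBlock_autIrr_iff (σ : MulAut K) (θ θ' : Cfsg.IrrCharacter K) :
    Cfsg.SameBlock M (autIrr σ θ : K → ℂ) (autIrr σ θ' : K → ℂ)
      ↔ Cfsg.SameBlock M (θ : K → ℂ) (θ' : K → ℂ) := by
  constructor
  · intro h
    have := sameBlock_autIrr (M := M) σ⁻¹ h
    rwa [autIrr_inv_autIrr, autIrr_inv_autIrr] at this
  · exact sameBlock_autIrr σ

/-- the image of a block under an automorphism is the block of the image -/
theorem autIrr_image_blockOf (σ : MulAut K) (θ : Cfsg.IrrCharacter K) :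
    autIrr σ '' Cfsg.blockOf M (θ : K → ℂ) = Cfsg.blockOf M (autIrr σ θ : K → ℂ) := by
  ext ψ
  constructor
  · rintro ⟨ψ', hψ', rfl⟩
    exact sameBlock_autIrr σ hψ'
  · intro hψ
    refine ⟨autIrr σ⁻¹ ψ, ?_, autIrr_autIrr_inv σ ψ⟩
    have h1 : Cfsg.SameBlock M (autIrr σ θ : K → ℂ) (ψ : K → ℂ) := hψ
    have := sameBlock_autIrr (M := M) σ⁻¹ h1
    rwa [autIrr_inv_autIrr] at this

theorem isPBlock_autIrr_image (σ : MulAut K) {f : Set (Cfsg.IrrCharacter K)}
    (hf : Cfsg.IsPBlock M f) : Cfsg.IsPBlock M (autIrr σ '' f) := by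
  obtain ⟨θ, rfl⟩ := hf
  exact ⟨autIrr σ θ, autIrr_image_blockOf σ θ⟩

theorem autIrr_image_image (σ τ : MulAut K) (A : Set (Cfsg.IrrCharacter K)) :
    autIrr σ '' (autIrr τ '' A) = autIrr (σ * τ) '' A := by
  rw [Set.image_image]
  apply Set.image_congr
  intro θ _
  rw [autIrr_mul]

theorem autIrr_one_image (A : Set (Cfsg.IrrCharacter K)) :
    autIrr (1 : MulAut K) '' A = A := by
  have : (autIrr (1 : MulAut K) : Cfsg.IrrCharacter K → Cfsg.IrrCharacter K) = id := by
    funext θ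
    exact autIrr_one θ
  rw [this, Set.image_id]

/-- the idempotent coefficients of the image of a set under an automorphism -/
theorem blockCoeff_autIrr_image (σ : MulAut K) (A : Set (Cfsg.IrrCharacter K)) (k : K) :
    Cfsg.blockCoeff (autIrr σ '' A) k = Cfsg.blockCoeff A ((σ⁻¹ : MulAut K) k) := by
  classical
  have : Fintype K := Fintype.ofFinite K
  have : Fintype (Cfsg.IrrCharacter K) := Fintype.ofFinite _
  have e1 : ∀ (A' : Set (Cfsg.IrrCharacter K)) (m : K), Cfsg.blockCoeff A' m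
      = (Nat.card K : ℂ)⁻¹ * ∑ ψ : Cfsg.IrrCharacter K,
          if ψ ∈ A' then (ψ : K → ℂ) 1 * conj ((ψ : K → ℂ) m) else 0 := by
    intro A' m
    unfold Cfsg.blockCoeff
    congr 1
    rw [← Finset.sum_filter, ← finsum_mem_coe_finset]
    congr 1
    ext ψ
    simp
  rw [e1, e1]
  congr 1
  rw [← Equiv.sum_comp (autIrr σ)]
  apply Finset.sum_congr rfl
  intro ψ _
  have hiff : autIrr σ ψ ∈ autIrr σ '' A ↔ ψ ∈ A := (autIrr σ).injective.mem_set_image
  rw [if_congr hiff rfl rfl]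
  split_ifs
  · rw [autIrr_apply_one, autIrr_apply]
  · rfl

/-- a stable set has invariant coefficients -/
theorem blockCoeff_of_autIrr_image_eq (σ : MulAut K) {A : Set (Cfsg.IrrCharacter K)}
    (hA : autIrr σ '' A = A) (k : K) :
    Cfsg.blockCoeff A (σ k) = Cfsg.blockCoeff A k := by
  have := blockCoeff_autIrr_image σ A (σ k)
  rw [hA] at this
  rw [this]
  simp

/-- stability under an automorphism follows from inclusion -/
theorem autIrr_image_eq_of_subset (σ : MulAut K) {A : Set (Cfsg.IrrCharacter K)}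
    (hA : autIrr σ '' A ⊆ A) : autIrr σ '' A = A := by
  have hfin : A.Finite := Set.toFinite A
  exact Set.eq_of_subset_of_ncard_le hA
    (by rw [Set.ncard_image_of_injective _ (autIrr σ).injective]) hfin

end aut

end Cfsg.Agent.Lib.Helper6
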