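import Mathlib
import Cfsg.Prelude.Def_Blocks
import Cfsg.Agent.Lib.Helper6.BlkBrauer
import Cfsg.Agent.Lib.Helper6.BlkNil
import Cfsg.Agent.Lib.Helper6.BlkExt
import Cfsg.Agent.Lib.Helper6.BlkCover

set_option autoImplicit false
set_option linter.unusedSectionVars false
open Cfsg

namespace Cfsg.Agent.Lib.Helper6

open scoped ComplexConjugate

section ext

variable {G : Type*} [Group G] [Fintype G] [DecidableEq G]
variable {p : ℕ} {M : Ideal Cfsg.AlgInt}
variable (K : Subgroup G) [Fintype K]

theorem extMat_apply_one_of_mem (X : Matrix K K ℂ) {g : G} (hg : g ∈ K) :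
    extMat K X g 1 = X ⟨g, hg⟩ 1 := by
  rw [extMat_apply, inv_one, mul_one, extFun_of_mem K _ hg]

theorem extMat_apply_one_of_not_mem (X : Matrix K K ℂ) {g : G} (hg : g ∉ K) :
    extMat K X g 1 = 0 := by
  rw [extMat_apply, inv_one, mul_one, extFun_of_not_mem K _ hg]

theorem extMat_apply_one_coe (X : Matrix K K ℂ) (k : K) :
    extMat K X (k : G) 1 = X k 1 := extMat_apply_one_of_mem K X k.2

theorem extMat_blockMat (A : Set (Cfsg.IrrCharacter K)) : extMat K (blockMat A) = liftIdem K A := by
  unfold extMat liftIdem blockMat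
  congr 1
  funext g
  by_cases hg : g ∈ K
  · rw [extFun_of_mem K _ hg, extendByZero_of_mem K _ hg, regMat_apply, inv_one, mul_one]
  · rw [extFun_of_not_mem K _ hg, extendByZero_of_not_mem K _ hg]

theorem extMat_zero : extMat K (0 : Matrix K K ℂ) = 0 := by
  have := extMat_smul K (0 : ℂ) (0 : Matrix K K ℂ)
  rw [zero_smul, zero_smul] at this
  exact this

theorem extMat_neg (X : Matrix K K ℂ) : extMat K (-X) = -extMat K X := by
  have := extMat_smul K (-1 : ℂ) X
  rw [neg_one_smul, neg_one_smul] at this
  exact this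

theorem extMat_sum {ι : Type*} (s : Finset ι) (f : ι → Matrix K K ℂ) :
    extMat K (∑ i ∈ s, f i) = ∑ i ∈ s, extMat K (f i) := by
  classical
  induction s using Finset.induction_on with
  | empty => simp [extMat_zero]
  | insert a s ha ih => rw [Finset.sum_insert ha, Finset.sum_insert ha, extMat_add, ih]

theorem extMat_mMat (hM : Cfsg.IsPModular p M) {X : Matrix K K ℂ} (hX : MMat M X) :
    MMat M (extMat K X) := by
  intro s t
  rw [(extMat_rInv K X).apply_eq]
  by_cases hg : s * t⁻¹ ∈ K
  · rw [extMat_apply_one_of_mem K _ hg]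
    exact hX _ _
  · rw [extMat_apply_one_of_not_mem K _ hg]
    exact memLocalIdeal_zero hM

end ext

section brauer

variable {G : Type*} [Group G] [Fintype G] [DecidableEq G]
variable {p : ℕ} {M : Ideal Cfsg.AlgInt}
variable (P H : Subgroup G) [Fintype H]

/-- the first column is invariant under conjugation by `P` -/
def PInv (X : Matrix G G ℂ) : Prop := ∀ u ∈ P, ∀ g : G, X (u * g * u⁻¹) 1 = X g 1

theorem brMat_mMat (hM : Cfsg.IsPModular p M) {X : Matrix G G ℂ} (hX : MMat M X) :
    MMat M (brMat P H X) := by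
  intro s t
  unfold brMat
  rw [regMat_apply]
  by_cases hh : ((s * t⁻¹ : H) : G) ∈ Subgroup.centralizer (P : Set G)
  · rw [brFun_of_mem P H _ hh]
    exact hX _ _
  · rw [brFun_of_not_mem P H _ hh]
    exact memLocalIdeal_zero hM

theorem brMat_sub (X Y : Matrix G G ℂ) : brMat P H (X - Y) = brMat P H X - brMat P H Y := by
  have h1 : X - Y = X + (-1 : ℂ) • Y := by rw [neg_one_smul, sub_eq_add_neg]
  rw [h1, brMat_add, brMat_smul, neg_one_smul, ← sub_eq_add_neg]

theorem brMat_sum {ι : Type*} (s : Finset ι) (f : ι → Matrix G G ℂ) :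
    brMat P H (∑ i ∈ s, f i) = ∑ i ∈ s, brMat P H (f i) := by
  classical
  induction s using Finset.induction_on with
  | empty =>
    simp only [Finset.sum_empty]
    have := brMat_smul P H (0 : ℂ) (0 : Matrix G G ℂ)
    rw [zero_smul, zero_smul] at this
    exact this
  | insert a s ha ih => rw [Finset.sum_insert ha, Finset.sum_insert ha, brMat_add, ih]

/-- the Brauer map is multiplicative modulo the maximal ideal on `P`-invariant elements:
first column -/
theorem brMat_mul_sub_apply_one' (hM : Cfsg.IsPModular p M) (hP : IsPGroup p P)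
    (hCH : Subgroup.centralizer (P : Set G) ≤ H) {X Y : Matrix G G ℂ}
    (hX : RInv X) (hXs : X ∈ sMat hM G) (hXP : PInv P X) (hYs : Y ∈ sMat hM G) (hYP : PInv P Y)
    (h : H) : Cfsg.MemLocalIdeal M
      (brMat P H (X * Y) h 1 - (brMat P H X * brMat P H Y) h 1) := by
  classical
  rw [Matrix.mul_apply]
  have e1 : ∀ k : H, brMat P H X h k * brMat P H Y k 1
      = brFun P H (fun g => X g 1) (h * k⁻¹) * brFun P H (fun g => Y g 1) k := by
    intro k
    rw [brMat_apply_one]
    unfold brMat
    rw [regMat_apply]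
  rw [Finset.sum_congr rfl (fun k _ => e1 k), brMat_apply_one]
  by_cases hh : (h : G) ∈ Subgroup.centralizer (P : Set G)
  · rw [brFun_of_mem P H _ hh]
    rw [Matrix.mul_apply]
    let f : G → ℂ := fun k => X ((h : G) * k⁻¹) 1 * Y k 1
    have e2 : ∀ k : G, X (h : G) k * Y k 1 = f k := by
      intro k
      rw [hX.apply_eq]
    rw [Finset.sum_congr rfl (fun k _ => e2 k)]
    let F : G → ℂ := fun k => if k ∈ Subgroup.centralizer (P : Set G) then f k else 0
    have e3 : ∀ k : H, brFun P H (fun g => X g 1) (h * k⁻¹) * brFun P H (fun g => Y g 1) k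
        = F (k : G) := by
      intro k
      by_cases hk : (k : G) ∈ Subgroup.centralizer (P : Set G)
      · have hhk : ((h * k⁻¹ : H) : G) ∈ Subgroup.centralizer (P : Set G) := by
          rw [Subgroup.coe_mul, Subgroup.coe_inv]
          exact (Subgroup.centralizer (P : Set G)).mul_mem hh
            ((Subgroup.centralizer (P : Set G)).inv_mem hk)
        rw [brFun_of_mem P H _ hk, brFun_of_mem P H _ hhk]
        simp only [F, if_pos hk, f]
        rw [Subgroup.coe_mul, Subgroup.coe_inv]
      · rw [brFun_of_not_mem P H _ hk, mul_zero]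
        simp only [F, if_neg hk]
    rw [Finset.sum_congr rfl (fun k _ => e3 k)]
    rw [sum_subtype_of_support H F (by
      intro g hg
      simp only [F]
      rw [if_neg]
      intro hc
      exact hg (hCH hc))]
    have e4 : ∑ k : G, f k - ∑ g : G, F g
        = ∑ k ∈ Finset.univ.filter (fun k : G => k ∉ Subgroup.centralizer (P : Set G)), f k := by
      rw [← Finset.sum_sub_distrib, Finset.sum_filter]
      apply Finset.sum_congr rfl
      intro k _
      simp only [F]
      split_ifs with hk <;> simp
    rw [e4]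
    apply sum_off_centralizer_memLocalIdeal hM P hP f
    · intro u hu k
      simp only [f]
      have hcomm : u * (h : G) = (h : G) * u := Subgroup.mem_centralizer_iff.mp hh u hu
      have h1 : (h : G) * (u * k * u⁻¹)⁻¹ = u * ((h : G) * k⁻¹) * u⁻¹ := by
        calc (h : G) * (u * k * u⁻¹)⁻¹ = ((h : G) * u) * k⁻¹ * u⁻¹ := by group
          _ = (u * (h : G)) * k⁻¹ * u⁻¹ := by rw [hcomm]
          _ = u * ((h : G) * k⁻¹) * u⁻¹ := by group
      rw [h1, hXP u hu, hYP u hu]
    · intro k
      exact MemLocalRing.mul hM (hXs _ _) (hYs _ _)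
  · rw [brFun_of_not_mem P H _ hh, zero_sub]
    have : ∑ k : H, brFun P H (fun g => X g 1) (h * k⁻¹) * brFun P H (fun g => Y g 1) k = 0 := by
      apply Finset.sum_eq_zero
      intro k _
      by_cases hk : (k : G) ∈ Subgroup.centralizer (P : Set G)
      · have hhk : ((h * k⁻¹ : H) : G) ∉ Subgroup.centralizer (P : Set G) := by
          intro hc
          apply hh
          have := (Subgroup.centralizer (P : Set G)).mul_mem hc hk
          simpa using this
        rw [brFun_of_not_mem P H _ hhk, zero_mul]
      · rw [brFun_of_not_mem P H _ hk, mul_zero]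
    rw [this, neg_zero]
    exact memLocalIdeal_zero hM

/-- the Brauer map is multiplicative modulo the maximal ideal on `P`-invariant elements -/
theorem brMat_mul_sub_mMat (hM : Cfsg.IsPModular p M) (hP : IsPGroup p P)
    (hCH : Subgroup.centralizer (P : Set G) ≤ H) {X Y : Matrix G G ℂ}
    (hX : RInv X) (hXs : X ∈ sMat hM G) (hXP : PInv P X) (hYs : Y ∈ sMat hM G) (hYP : PInv P Y) :
    MMat M (brMat P H (X * Y) - brMat P H X * brMat P H Y) := by
  intro s t
  have hr : RInv (brMat P H (X * Y) - brMat P H X * brMat P H Y) := by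
    have h1 : RInv (brMat P H (X * Y)) := regMat_rInv _
    have h2 : RInv (brMat P H X * brMat P H Y) := RInv.mul (regMat_rInv _) (regMat_rInv _)
    have h3 : brMat P H (X * Y) - brMat P H X * brMat P H Y
        = brMat P H (X * Y) + (-1 : ℂ) • (brMat P H X * brMat P H Y) := by
      rw [neg_one_smul, sub_eq_add_neg]
    rw [h3]
    exact h1.add (h2.smul _)
  rw [hr.apply_eq, Matrix.sub_apply]
  exact brMat_mul_sub_apply_one' P H hM hP hCH hX hXs hXP hYs hYP _

end brauer

end Cfsg.Agent.Lib.Helper6
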