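import Mathlib
import Cfsg.Prelude.Def_Blocks
import Cfsg.Agent.Lib.Helper6.BlkBrauer

set_option autoImplicit false
set_option linter.unusedSectionVars false
open Cfsg

namespace Cfsg.Agent.Lib.Helper6

section orbit

variable {p : ℕ} {M : Ideal Cfsg.AlgInt}

/-- a `p`-group acting on a finite stable set without fixed points: the cardinality is
divisible by `p` -/
theorem dvd_card_of_no_fixedPoints {P : Type*} [Group P] {X : Type*} [MulAction P X]
    [Fact p.Prime] (hP : IsPGroup p P) (T : Set X) [Finite T]
    (hT : ∀ a : P, ∀ x ∈ T, a • x ∈ T) (hfix : ∀ x ∈ T, ∃ a : P, a • x ≠ x) :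
    p ∣ Nat.card T := by
  let S : SubMulAction P X := { carrier := T, smul_mem' := fun a x hx => hT a x hx }
  have hfin : Finite S := inferInstanceAs (Finite T)
  have hmod := hP.card_modEq_card_fixedPoints S
  have hempty : Nat.card (MulAction.fixedPoints P S) = 0 := by
    rw [Nat.card_eq_zero]
    left
    constructor
    rintro ⟨⟨x, hx⟩, hfx⟩
    obtain ⟨a, ha⟩ := hfix x hx
    apply ha
    have := hfx a
    exact congrArg Subtype.val this
  rw [hempty] at hmod
  exact (Nat.modEq_zero_iff_dvd).mp hmod

/-- a `p`-group acting on a finite set: an invariant local-integral weight summed over a stable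
set without fixed points lies in the maximal ideal -/
theorem sum_memLocalIdeal_of_no_fixedPoints {P : Type*} [Group P] {X : Type*} [MulAction P X]
    [DecidableEq X] (hM : Cfsg.IsPModular p M) (hP : IsPGroup p P) (w : X → ℂ)
    (hw : ∀ (a : P) (x : X), w (a • x) = w x) (hwS : ∀ x, Cfsg.MemLocalRing M (w x))
    (s : Finset X) (hs : ∀ a : P, ∀ x ∈ s, a • x ∈ s) (hfix : ∀ x ∈ s, ∃ a : P, a • x ≠ x) :
    Cfsg.MemLocalIdeal M (∑ x ∈ s, w x) := by
  classical
  have hp : p.Prime := hM.1
  have : Fact p.Prime := ⟨hp⟩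
  rw [Finset.sum_comp (fun v : ℂ => v) w]
  apply MemLocalIdeal.sum hM
  intro v hv
  obtain ⟨k₀, _, hk₀⟩ := Finset.mem_image.mp hv
  have hvS : Cfsg.MemLocalRing M v := hk₀ ▸ hwS k₀
  rw [nsmul_eq_mul]
  apply MemLocalIdeal.mul_right hM _ hvS
  rw [memLocalIdeal_natCast_iff hM]
  set T : Set X := {x : X | x ∈ s ∧ w x = v} with hT
  have hTfin : Finite T := by
    apply Set.Finite.subset (Finset.finite_toSet s)
    intro x hx
    exact hx.1
  have hcard : (s.filter (fun k => w k = v)).card = Nat.card T := by
    have : T = ((s.filter (fun k => w k = v) : Finset X) : Set X) := by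
      ext x
      simp [hT]
    rw [this, Nat.card_coe_set_eq, Set.ncard_coe_finset]
  rw [hcard]
  apply dvd_card_of_no_fixedPoints hP T
  · intro a x hx
    exact ⟨hs a x hx.1, by rw [hw]; exact hx.2⟩
  · intro x hx
    exact hfix x hx.1

end orbit

end Cfsg.Agent.Lib.Helper6
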