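import Mathlib
import Cfsg.Prelude.Def_Blocks
import Cfsg.Prelude.Def_BrauerPairs
import Cfsg.Agent.Lib.Helper6.BrAut
import Cfsg.Agent.Lib.Helper6.BrOrbit
import Cfsg.Agent.Lib.Helper6.BrExt
import Cfsg.Agent.Lib.Helper6.BlkUnion
import Cfsg.Agent.Lib.Helper6.BlkCover3

set_option autoImplicit false
set_option linter.unusedSectionVars false
open Cfsg

namespace Cfsg.Agent.Lib.Helper6

open scoped ComplexConjugate

section naut

variable {G : Type*} [Group G] (K : Subgroup G)

/-- conjugation by a normalizing element as an automorphism of the subgroup -/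
noncomputable def nAut (x : G) (hx : x ∈ Subgroup.normalizer (K : Set G)) : MulAut K :=
  K.normalizerMonoidHom ⟨x, hx⟩

theorem nAut_apply_coe (x : G) (hx : x ∈ Subgroup.normalizer (K : Set G)) (k : K) :
    ((nAut K x hx k : K) : G) = x * k * x⁻¹ := by
  unfold nAut
  simp

theorem nAut_inv_apply_coe (x : G) (hx : x ∈ Subgroup.normalizer (K : Set G)) (k : K) :
    ((((nAut K x hx)⁻¹ : MulAut K) k : K) : G) = x⁻¹ * k * x := by
  unfold nAut
  rw [← map_inv]
  simp

theorem nAut_one (h1 : (1 : G) ∈ Subgroup.normalizer (K : Set G)) : nAut K 1 h1 = 1 := by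
  unfold nAut
  exact map_one K.normalizerMonoidHom

theorem nAut_mul (x y : G) (hx : x ∈ Subgroup.normalizer (K : Set G))
    (hy : y ∈ Subgroup.normalizer (K : Set G))
    (hxy : x * y ∈ Subgroup.normalizer (K : Set G)) :
    nAut K (x * y) hxy = nAut K x hx * nAut K y hy := by
  unfold nAut
  rw [← map_mul]
  rfl

theorem nAut_inv (x : G) (hx : x ∈ Subgroup.normalizer (K : Set G))
    (hx' : x⁻¹ ∈ Subgroup.normalizer (K : Set G)) :
    nAut K x⁻¹ hx' = (nAut K x hx)⁻¹ := by
  unfold nAut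
  rw [← map_inv]
  rfl

theorem nAut_of_mem_centralizer (x : G) (hx : x ∈ Subgroup.normalizer (K : Set G)) (k : K)
    (hk : x * (k : G) = (k : G) * x) : nAut K x hx k = k := by
  apply Subtype.ext
  rw [nAut_apply_coe, hk]
  group

theorem nAut_inv_of_mem_centralizer (x : G) (hx : x ∈ Subgroup.normalizer (K : Set G)) (k : K)
    (hk : x * (k : G) = (k : G) * x) : ((nAut K x hx)⁻¹ : MulAut K) k = k := by
  apply Subtype.ext
  rw [nAut_inv_apply_coe]
  calc x⁻¹ * (k : G) * x = x⁻¹ * ((k : G) * x) := by group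
    _ = x⁻¹ * (x * (k : G)) := by rw [hk]
    _ = (k : G) := by group

end naut

section conjchar

variable {G : Type*} [Group G] [Finite G] (K : Subgroup G)

theorem isConjCharOf_iff (x : G) (hx : x ∈ Subgroup.normalizer (K : Set G))
    (χ χ' : Cfsg.IrrCharacter K) :
    Cfsg.IsConjCharOf K x (χ : K → ℂ) (χ' : K → ℂ) ↔ χ' = autIrr (nAut K x hx) χ := by
  constructor
  · intro h
    apply Subtype.ext
    funext k'
    rw [autIrr_apply]
    apply h
    rw [nAut_inv_apply_coe]
    group
  · rintro rfl k k' hk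
    rw [autIrr_apply]
    apply congrArg
    apply Subtype.ext
    rw [nAut_inv_apply_coe, hk]
    group

theorem stabilizesBlock_iff (A : Set (Cfsg.IrrCharacter K)) (x : G) :
    Cfsg.StabilizesBlock K A x ↔
      ∃ hx : x ∈ Subgroup.normalizer (K : Set G), autIrr (nAut K x hx) '' A = A := by
  constructor
  · rintro ⟨hx, h⟩
    refine ⟨hx, autIrr_image_eq_of_subset _ ?_⟩
    rintro _ ⟨χ, hχ, rfl⟩
    obtain ⟨χ', hχ', hc⟩ := h χ hχ
    rw [isConjCharOf_iff K x hx] at hc
    rw [← hc]
    exact hχ'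
  · rintro ⟨hx, h⟩
    refine ⟨hx, ?_⟩
    intro χ hχ
    refine ⟨autIrr (nAut K x hx) χ, ?_, (isConjCharOf_iff K x hx _ _).mpr rfl⟩
    rw [← h]
    exact ⟨χ, hχ, rfl⟩

end conjchar

section trmat

variable {G : Type*} [Group G] [Fintype G] [DecidableEq G]
variable {p : ℕ} {M : Ideal Cfsg.AlgInt}
variable (P K : Subgroup G) [Fintype K] [Fintype (Subgroup.centralizer (P : Set G))]

/-- the Brauer truncation to `C_G(P)` of a matrix on the subgroup `K` -/
noncomputable def trMat (X : Matrix K K ℂ) :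
    Matrix (Subgroup.centralizer (P : Set G)) (Subgroup.centralizer (P : Set G)) ℂ :=
  brMat P (Subgroup.centralizer (P : Set G)) (extMat K X)

theorem trMat_rInv (X : Matrix K K ℂ) : RInv (trMat P K X) := regMat_rInv _

theorem trMat_apply_one (hCK : Subgroup.centralizer (P : Set G) ≤ K) (X : Matrix K K ℂ)
    (c : Subgroup.centralizer (P : Set G)) : trMat P K X c 1 = X ⟨c, hCK c.2⟩ 1 := by
  unfold trMat
  rw [brMat_apply_one, brFun_of_mem P _ _ c.2, extMat_apply_one_of_mem K X (hCK c.2)]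

theorem trMat_add (X Y : Matrix K K ℂ) : trMat P K (X + Y) = trMat P K X + trMat P K Y := by
  unfold trMat
  rw [extMat_add, brMat_add]

theorem trMat_sub (X Y : Matrix K K ℂ) : trMat P K (X - Y) = trMat P K X - trMat P K Y := by
  unfold trMat
  rw [extMat_sub, brMat_sub]

theorem trMat_smul (c : ℂ) (X : Matrix K K ℂ) : trMat P K (c • X) = c • trMat P K X := by
  unfold trMat
  rw [extMat_smul, brMat_smul]

theorem trMat_sum {ι : Type*} (s : Finset ι) (f : ι → Matrix K K ℂ) :
    trMat P K (∑ i ∈ s, f i) = ∑ i ∈ s, trMat P K (f i) := by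
  unfold trMat
  rw [extMat_sum, brMat_sum]

theorem trMat_one : trMat P K (1 : Matrix K K ℂ) = 1 := by
  unfold trMat
  rw [extMat_one, brMat_one]

theorem trMat_zero : trMat P K (0 : Matrix K K ℂ) = 0 := by
  have := trMat_smul P K (0 : ℂ) (0 : Matrix K K ℂ)
  rw [zero_smul, zero_smul] at this
  exact this

theorem trMat_mem_sMat (hM : Cfsg.IsPModular p M) {X : Matrix K K ℂ} (hX : X ∈ sMat hM K) :
    trMat P K X ∈ sMat hM (Subgroup.centralizer (P : Set G)) :=
  brMat_mem_sMat P _ hM (extMat_mem_sMat K hM hX)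

theorem trMat_mMat (hM : Cfsg.IsPModular p M) {X : Matrix K K ℂ} (hX : MMat M X) :
    MMat M (trMat P K X) :=
  brMat_mMat P _ hM (extMat_mMat K hM hX)

theorem trMat_mem_centerAlg (hCK : Subgroup.centralizer (P : Set G) ≤ K) {X : Matrix K K ℂ}
    (hX : X ∈ centerAlg K) : trMat P K X ∈ centerAlg (Subgroup.centralizer (P : Set G)) := by
  have hcf := isClassFunction_of_mem_centerAlg hX
  have h1 : trMat P K X = regMat (fun c : Subgroup.centralizer (P : Set G) => X ⟨c, hCK c.2⟩ 1) := by
    rw [(trMat_rInv P K X).eq_regMat]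
    congr 1
    funext c
    exact trMat_apply_one P K hCK X c
  rw [h1]
  apply regMat_mem_centerAlg
  intro c k
  exact hcf ⟨c, hCK c.2⟩ ⟨k, hCK k.2⟩

variable (hPK : P ≤ Subgroup.normalizer (K : Set G))

/-- invariance of the first column under the conjugation action of `P` on `K` -/
def KInv (X : Matrix K K ℂ) : Prop :=
  ∀ (x : G) (hx : x ∈ P) (k : K), X (nAut K x (hPK hx) k) 1 = X k 1

theorem extMat_pInv {X : Matrix K K ℂ} (hX : KInv P K hPK X) : PInv P (extMat K X) := by
  intro u hu g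
  have hun := hPK hu
  by_cases hg : g ∈ K
  · have hg' : u * g * u⁻¹ ∈ K := (Subgroup.mem_normalizer_iff.mp hun g).mp hg
    rw [extMat_apply_one_of_mem K X hg, extMat_apply_one_of_mem K X hg', ← hX u hu ⟨g, hg⟩]
    congr 1
  · have hg' : u * g * u⁻¹ ∉ K := fun h => hg ((Subgroup.mem_normalizer_iff.mp hun g).mpr h)
    rw [extMat_apply_one_of_not_mem K X hg, extMat_apply_one_of_not_mem K X hg']

/-- the Brauer truncation is multiplicative modulo the ideal on `P`-invariant matrices -/
theorem trMat_mul_sub_mMat (hM : Cfsg.IsPModular p M) (hP : IsPGroup p P) {X Y : Matrix K K ℂ}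
    (hX : RInv X) (hXs : X ∈ sMat hM K) (hXP : KInv P K hPK X) (hYs : Y ∈ sMat hM K)
    (hYP : KInv P K hPK Y) : MMat M (trMat P K (X * Y) - trMat P K X * trMat P K Y) := by
  unfold trMat
  rw [extMat_mul K hX Y]
  exact brMat_mul_sub_mMat P _ hM hP le_rfl (extMat_rInv K X) (extMat_mem_sMat K hM hXs)
    (extMat_pInv P K hPK hXP) (extMat_mem_sMat K hM hYs) (extMat_pInv P K hPK hYP)

/-- a set of irreducible characters of `K` stable under conjugation by `P` -/
def PStable (A : Set (Cfsg.IrrCharacter K)) : Prop :=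
  ∀ (x : G) (hx : x ∈ P), autIrr (nAut K x (hPK hx)) '' A = A

theorem pStable_iff (A : Set (Cfsg.IrrCharacter K)) :
    PStable P K hPK A ↔ ∀ x ∈ P, Cfsg.StabilizesBlock K A x := by
  constructor
  · intro h x hx
    exact (stabilizesBlock_iff K A x).mpr ⟨hPK hx, h x hx⟩
  · intro h x hx
    obtain ⟨_, h2⟩ := (stabilizesBlock_iff K A x).mp (h x hx)
    exact h2

theorem blockMat_kInv {A : Set (Cfsg.IrrCharacter K)} (hA : PStable P K hPK A) :
    KInv P K hPK (blockMat A) := by
  intro x hx k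
  unfold blockMat
  rw [regMat_apply, regMat_apply, inv_one, mul_one, mul_one]
  exact blockCoeff_of_autIrr_image_eq _ (hA x hx) k

end trmat

section blkcalc

variable {K : Type*} [Group K] [Fintype K] [DecidableEq K]
variable {p : ℕ} {M : Ideal Cfsg.AlgInt}

theorem cOmega_zero (χ : K → ℂ) : cOmega χ (0 : Matrix K K ℂ) = 0 := by
  unfold cOmega
  simp

theorem blockMat_mul_of_disjoint {A A' : Set (Cfsg.IrrCharacter K)} (h : ∀ χ ∈ A, χ ∉ A') :
    blockMat A * blockMat A' = 0 := by
  classical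
  apply eq_of_cOmega_eq ((centerAlg K).mul_mem (blockMat_mem_centerAlg A)
    (blockMat_mem_centerAlg A')) (centerAlg K).zero_mem
  intro χ
  rw [cOmega_mul χ.2 (blockMat_mem_centerAlg A) (blockMat_mem_centerAlg A').1, cOmega_blockMat,
    cOmega_blockMat, cOmega_zero]
  by_cases hχ : χ ∈ A
  · rw [if_neg (h χ hχ), mul_zero]
  · rw [if_neg hχ, zero_mul]

theorem isPBlock_eq_of_mem (hM : Cfsg.IsPModular p M) {f f' : Set (Cfsg.IrrCharacter K)}
    (hf : Cfsg.IsPBlock M f) (hf' : Cfsg.IsPBlock M f') {χ : Cfsg.IrrCharacter K} (h : χ ∈ f)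
    (h' : χ ∈ f') : f = f' := by
  obtain ⟨θ, rfl⟩ := hf
  obtain ⟨θ', rfl⟩ := hf'
  rw [blockOf_eq_of_mem hM h, blockOf_eq_of_mem hM h']

theorem isPBlock_mem_sMat (hM : Cfsg.IsPModular p M) {f : Set (Cfsg.IrrCharacter K)}
    (hf : Cfsg.IsPBlock M f) : blockMat f ∈ sMat hM K := by
  obtain ⟨θ, rfl⟩ := hf
  exact blockMat_mem_sMat hM θ

/-- the block idempotents sum to one -/
theorem sum_blockMat_blocks (hM : Cfsg.IsPModular p M)
    [Fintype {f : Set (Cfsg.IrrCharacter K) // Cfsg.IsPBlock M f}] :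
    ∑ f : {f : Set (Cfsg.IrrCharacter K) // Cfsg.IsPBlock M f}, blockMat f.1 = 1 := by
  classical
  apply eq_of_cOmega_eq ((centerAlg K).sum_mem (fun f _ => blockMat_mem_centerAlg f.1))
    (centerAlg K).one_mem
  intro χ
  rw [cOmega_sum, cOmega_one (IsIrrCharacter.apply_one_ne_zero χ.2)]
  have hχ : χ ∈ Cfsg.blockOf M (χ : K → ℂ) := sameBlock_refl hM _
  rw [Finset.sum_eq_single (⟨Cfsg.blockOf M (χ : K → ℂ), ⟨χ, rfl⟩⟩ :
    {f : Set (Cfsg.IrrCharacter K) // Cfsg.IsPBlock M f})]
  · rw [cOmega_blockMat, if_pos hχ]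
  · intro f _ hne
    rw [cOmega_blockMat, if_neg]
    intro hmem
    apply hne
    apply Subtype.ext
    exact isPBlock_eq_of_mem hM f.2 ⟨χ, rfl⟩ hmem hχ
  · intro h
    exact absurd (Finset.mem_univ _) h

end blkcalc

section action

variable {G : Type*} [Group G] [Fintype G] [DecidableEq G]
variable {p : ℕ} {M : Ideal Cfsg.AlgInt}
variable (P K : Subgroup G) [Fintype K] [Fintype (Subgroup.centralizer (P : Set G))]
variable (hPK : P ≤ Subgroup.normalizer (K : Set G))

/-- the action of `P` on the blocks of `K` -/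
noncomputable def blkAct (u : P) (f : {f : Set (Cfsg.IrrCharacter K) // Cfsg.IsPBlock M f}) :
    {f : Set (Cfsg.IrrCharacter K) // Cfsg.IsPBlock M f} :=
  ⟨autIrr (nAut K (u : G) (hPK u.2)) '' f.1, isPBlock_autIrr_image _ f.2⟩

theorem blkAct_one (f : {f : Set (Cfsg.IrrCharacter K) // Cfsg.IsPBlock M f}) :
    blkAct P K hPK (1 : P) f = f := by
  apply Subtype.ext
  unfold blkAct
  simp only
  have : nAut K ((1 : P) : G) (hPK (1 : P).2) = 1 := nAut_one K _
  rw [this, autIrr_one_image]

theorem blkAct_mul (u v : P) (f : {f : Set (Cfsg.IrrCharacter K) // Cfsg.IsPBlock M f}) :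
    blkAct P K hPK (u * v) f = blkAct P K hPK u (blkAct P K hPK v f) := by
  apply Subtype.ext
  unfold blkAct
  simp only
  have : nAut K ((u * v : P) : G) (hPK (u * v).2)
      = nAut K (u : G) (hPK u.2) * nAut K (v : G) (hPK v.2) := nAut_mul K _ _ _ _ _
  rw [this, autIrr_image_image]

/-- the action as a structure -/
@[reducible] noncomputable def blkMulAction :
    MulAction P {f : Set (Cfsg.IrrCharacter K) // Cfsg.IsPBlock M f} where
  smul := blkAct P K hPK
  one_smul := blkAct_one P K hPK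
  mul_smul := blkAct_mul P K hPK

theorem pStable_iff_blkAct (f : {f : Set (Cfsg.IrrCharacter K) // Cfsg.IsPBlock M f}) :
    PStable P K hPK f.1 ↔ ∀ u : P, blkAct P K hPK u f = f := by
  constructor
  · intro h u
    apply Subtype.ext
    exact h u u.2
  · intro h x hx
    have := congrArg Subtype.val (h ⟨x, hx⟩)
    exact this

theorem pStable_blkAct_iff (u : P) (f : {f : Set (Cfsg.IrrCharacter K) // Cfsg.IsPBlock M f}) :
    PStable P K hPK (blkAct P K hPK u f).1 ↔ PStable P K hPK f.1 := by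
  have key : ∀ (u : P) (f : {f : Set (Cfsg.IrrCharacter K) // Cfsg.IsPBlock M f}),
      PStable P K hPK f.1 → PStable P K hPK (blkAct P K hPK u f).1 := by
    intro u f hf
    rw [pStable_iff_blkAct] at hf ⊢
    intro y
    rw [← blkAct_mul]
    have h1 : y * u = u * (u⁻¹ * y * u) := by group
    rw [h1, blkAct_mul, hf]
  constructor
  · intro h
    have := key u⁻¹ _ h
    rwa [← blkAct_mul, inv_mul_cancel, blkAct_one] at this
  · exact key u f

theorem blockCoeff_blkAct (hCK : Subgroup.centralizer (P : Set G) ≤ K) (u : P)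
    (f : {f : Set (Cfsg.IrrCharacter K) // Cfsg.IsPBlock M f})
    (c : Subgroup.centralizer (P : Set G)) :
    Cfsg.blockCoeff (blkAct P K hPK u f).1 ⟨c, hCK c.2⟩ = Cfsg.blockCoeff f.1 ⟨c, hCK c.2⟩ := by
  unfold blkAct
  simp only
  rw [blockCoeff_autIrr_image]
  congr 1
  apply nAut_inv_of_mem_centralizer
  exact Subgroup.mem_centralizer_iff.mp c.2 u u.2

/-- the truncated idempotents of the unstable blocks sum to zero modulo the ideal -/
theorem sum_nonstable_mMat (hM : Cfsg.IsPModular p M) (hP : IsPGroup p P)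
    (hCK : Subgroup.centralizer (P : Set G) ≤ K)
    [Fintype {f : Set (Cfsg.IrrCharacter K) // Cfsg.IsPBlock M f}]
    [DecidablePred fun f : {f : Set (Cfsg.IrrCharacter K) // Cfsg.IsPBlock M f} =>
      PStable P K hPK f.1] :
    MMat M (∑ f ∈ Finset.univ.filter
      (fun f : {f : Set (Cfsg.IrrCharacter K) // Cfsg.IsPBlock M f} => ¬ PStable P K hPK f.1),
        trMat P K (blockMat f.1)) := by
  classical
  intro s t
  rw [Matrix.sum_apply]
  have e1 : ∀ f : {f : Set (Cfsg.IrrCharacter K) // Cfsg.IsPBlock M f},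
      trMat P K (blockMat f.1) s t = Cfsg.blockCoeff f.1 ⟨(s * t⁻¹ : _), hCK (s * t⁻¹).2⟩ := by
    intro f
    rw [(trMat_rInv P K _).apply_eq, trMat_apply_one P K hCK]
    unfold blockMat
    rw [regMat_apply, inv_one, mul_one]
  rw [Finset.sum_congr rfl (fun f _ => e1 f)]
  letI := blkMulAction (M := M) P K hPK
  have hP' : IsPGroup p (P : Type _) := hP
  apply sum_memLocalIdeal_of_no_fixedPoints hM hP'
    (fun f : {f : Set (Cfsg.IrrCharacter K) // Cfsg.IsPBlock M f} =>
      Cfsg.blockCoeff f.1 ⟨(s * t⁻¹ : _), hCK (s * t⁻¹).2⟩)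
  · intro u f
    exact blockCoeff_blkAct P K hPK hCK u f _
  · intro f
    obtain ⟨θ, hθ⟩ := f.2
    rw [hθ]
    exact blockCoeff_memLocalRing hM θ _
  · intro u f hf
    rw [Finset.mem_filter] at hf ⊢
    refine ⟨Finset.mem_univ _, ?_⟩
    intro hst
    apply hf.2
    exact (pStable_blkAct_iff P K hPK u f).mp hst
  · intro f hf
    rw [Finset.mem_filter] at hf
    by_contra hall
    push Not at hall
    apply hf.2
    rw [pStable_iff_blkAct]
    exact hall

end action

section main

variable {G : Type*} [Group G] [Fintype G] [DecidableEq G]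
variable {p : ℕ} {M : Ideal Cfsg.AlgInt}
variable (P K : Subgroup G) [Fintype K] [Fintype (Subgroup.centralizer (P : Set G))]
variable (hPK : P ≤ Subgroup.normalizer (K : Set G))

/-- the central character value of the truncated idempotent of a set of characters of `K` -/
noncomputable def trOmega (ξ : Subgroup.centralizer (P : Set G) → ℂ)
    (A : Set (Cfsg.IrrCharacter K)) : ℂ :=
  cOmega ξ (trMat P K (blockMat A))

theorem trOmega_memLocalRing (hM : Cfsg.IsPModular p M)
    (hCK : Subgroup.centralizer (P : Set G) ≤ K)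
    (ξ : Cfsg.IrrCharacter (Subgroup.centralizer (P : Set G)))
    {f : Set (Cfsg.IrrCharacter K)} (hf : Cfsg.IsPBlock M f) :
    Cfsg.MemLocalRing M (trOmega P K (ξ : Subgroup.centralizer (P : Set G) → ℂ) f) :=
  cOmega_memLocalRing hM ξ.2 (trMat_mem_centerAlg P K hCK (blockMat_mem_centerAlg f))
    (trMat_mem_sMat P K hM (isPBlock_mem_sMat hM hf))

/-- the values on two stable blocks multiply as the idempotents do -/
theorem trOmega_mul_sub (hM : Cfsg.IsPModular p M) (hP : IsPGroup p P)
    (hCK : Subgroup.centralizer (P : Set G) ≤ K)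
    (ξ : Cfsg.IrrCharacter (Subgroup.centralizer (P : Set G)))
    {f f' : Set (Cfsg.IrrCharacter K)} (hf : Cfsg.IsPBlock M f) (hf' : Cfsg.IsPBlock M f')
    (hfs : PStable P K hPK f) (hfs' : PStable P K hPK f') :
    Cfsg.MemLocalIdeal M
      (trOmega P K (ξ : Subgroup.centralizer (P : Set G) → ℂ) f
        * trOmega P K (ξ : Subgroup.centralizer (P : Set G) → ℂ) f'
        - cOmega (ξ : Subgroup.centralizer (P : Set G) → ℂ)
            (trMat P K (blockMat f * blockMat f'))) := by
  unfold trOmega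
  have hc := trMat_mem_centerAlg P K hCK (blockMat_mem_centerAlg f)
  have hc' := trMat_mem_centerAlg P K hCK (blockMat_mem_centerAlg f')
  have hcc := trMat_mem_centerAlg P K hCK
    ((centerAlg K).mul_mem (blockMat_mem_centerAlg f) (blockMat_mem_centerAlg f'))
  rw [← cOmega_mul ξ.2 hc hc'.1, ← cOmega_sub]
  apply cOmega_memLocalIdeal_of_entries hM ξ.2
    ((centerAlg (Subgroup.centralizer (P : Set G))).sub_mem
      ((centerAlg (Subgroup.centralizer (P : Set G))).mul_mem hc hc') hcc)
  have h1 := trMat_mul_sub_mMat P K hPK hM hP (blockMat_mem_centerAlg f).1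
    (isPBlock_mem_sMat hM hf) (blockMat_kInv P K hPK hfs) (isPBlock_mem_sMat hM hf')
    (blockMat_kInv P K hPK hfs')
  intro s t
  have h2 := MemLocalIdeal.neg (h1 s t)
  convert h2 using 1
  simp [Matrix.sub_apply]

theorem trOmega_dichotomy (hM : Cfsg.IsPModular p M) (hP : IsPGroup p P)
    (hCK : Subgroup.centralizer (P : Set G) ≤ K)
    (ξ : Cfsg.IrrCharacter (Subgroup.centralizer (P : Set G)))
    {f : Set (Cfsg.IrrCharacter K)} (hf : Cfsg.IsPBlock M f) (hfs : PStable P K hPK f) :
    Cfsg.MemLocalIdeal M (trOmega P K (ξ : Subgroup.centralizer (P : Set G) → ℂ) f) ∨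
      Cfsg.MemLocalIdeal M (trOmega P K (ξ : Subgroup.centralizer (P : Set G) → ℂ) f - 1) := by
  have h1 := trOmega_mul_sub P K hPK hM hP hCK ξ hf hf hfs hfs
  rw [blockMat_idem] at h1
  have hr := trOmega_memLocalRing P K hM hCK ξ hf
  change Cfsg.MemLocalIdeal M (trOmega P K (ξ : Subgroup.centralizer (P : Set G) → ℂ) f
    * trOmega P K (ξ : Subgroup.centralizer (P : Set G) → ℂ) f
    - trOmega P K (ξ : Subgroup.centralizer (P : Set G) → ℂ) f) at h1
  have h2 : trOmega P K (ξ : Subgroup.centralizer (P : Set G) → ℂ) f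
    * trOmega P K (ξ : Subgroup.centralizer (P : Set G) → ℂ) f
    - trOmega P K (ξ : Subgroup.centralizer (P : Set G) → ℂ) f
    = trOmega P K (ξ : Subgroup.centralizer (P : Set G) → ℂ) f
      * (trOmega P K (ξ : Subgroup.centralizer (P : Set G) → ℂ) f - 1) := by ring
  rw [h2] at h1
  exact memLocalIdeal_or_of_mul hM hr (MemLocalRing.sub hM hr (memLocalRing_one hM)) h1

theorem trOmega_mul_of_ne (hM : Cfsg.IsPModular p M) (hP : IsPGroup p P)
    (hCK : Subgroup.centralizer (P : Set G) ≤ K)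
    (ξ : Cfsg.IrrCharacter (Subgroup.centralizer (P : Set G)))
    {f f' : Set (Cfsg.IrrCharacter K)} (hf : Cfsg.IsPBlock M f) (hf' : Cfsg.IsPBlock M f')
    (hfs : PStable P K hPK f) (hfs' : PStable P K hPK f') (hne : f ≠ f') :
    Cfsg.MemLocalIdeal M
      (trOmega P K (ξ : Subgroup.centralizer (P : Set G) → ℂ) f
        * trOmega P K (ξ : Subgroup.centralizer (P : Set G) → ℂ) f') := by
  have h1 := trOmega_mul_sub P K hPK hM hP hCK ξ hf hf' hfs hfs'
  rw [blockMat_mul_of_disjoint, trMat_zero, cOmega_zero, sub_zero] at h1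
  · exact h1
  · intro χ hχ hχ'
    exact hne (isPBlock_eq_of_mem hM hf hf' hχ hχ')

/-- exactly one `P`-stable block of `K` has its truncated idempotent not killed by `ξ` -/
theorem exists_unique_stable_block (hM : Cfsg.IsPModular p M) (hP : IsPGroup p P)
    (hCK : Subgroup.centralizer (P : Set G) ≤ K)
    (ξ : Cfsg.IrrCharacter (Subgroup.centralizer (P : Set G))) :
    ∃! f : Set (Cfsg.IrrCharacter K), Cfsg.IsPBlock M f ∧ PStable P K hPK f ∧
      Cfsg.MemLocalIdeal M (trOmega P K (ξ : Subgroup.centralizer (P : Set G) → ℂ) f - 1) := by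
  classical
  have : Fintype {f : Set (Cfsg.IrrCharacter K) // Cfsg.IsPBlock M f} := Fintype.ofFinite _
  -- existence
  have hex : ∃ f : Set (Cfsg.IrrCharacter K), Cfsg.IsPBlock M f ∧ PStable P K hPK f ∧
      Cfsg.MemLocalIdeal M (trOmega P K (ξ : Subgroup.centralizer (P : Set G) → ℂ) f - 1) := by
    by_contra hnone
    push Not at hnone
    have hsum := sum_blockMat_blocks (K := K) hM
    have h1 : (1 : ℂ) = ∑ f : {f : Set (Cfsg.IrrCharacter K) // Cfsg.IsPBlock M f},
        trOmega P K (ξ : Subgroup.centralizer (P : Set G) → ℂ) f.1 := by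
      unfold trOmega
      rw [← cOmega_sum, ← trMat_sum, hsum, trMat_one,
        cOmega_one (IsIrrCharacter.apply_one_ne_zero ξ.2)]
    rw [← Finset.sum_filter_add_sum_filter_not Finset.univ
      (fun f : {f : Set (Cfsg.IrrCharacter K) // Cfsg.IsPBlock M f} => PStable P K hPK f.1)] at h1
    apply not_memLocalIdeal_one hM
    rw [h1]
    apply MemLocalIdeal.add hM
    · apply MemLocalIdeal.sum hM
      intro f hf
      rw [Finset.mem_filter] at hf
      rcases trOmega_dichotomy P K hPK hM hP hCK ξ f.2 hf.2 with h | h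
      · exact h
      · exact absurd h (hnone f.1 f.2 hf.2)
    · unfold trOmega
      rw [← cOmega_sum]
      apply cOmega_memLocalIdeal_of_entries hM ξ.2
      · apply (centerAlg (Subgroup.centralizer (P : Set G))).sum_mem
        intro f _
        exact trMat_mem_centerAlg P K hCK (blockMat_mem_centerAlg f.1)
      · exact sum_nonstable_mMat P K hPK hM hP hCK
  obtain ⟨f, hf, hfs, hf1⟩ := hex
  refine ⟨f, ⟨hf, hfs, hf1⟩, ?_⟩
  rintro f' ⟨hf', hfs', hf1'⟩
  by_contra hne
  have h1 := trOmega_mul_of_ne P K hPK hM hP hCK ξ hf' hf hfs' hfs hne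
  apply not_memLocalIdeal_one hM
  have hr := trOmega_memLocalRing P K hM hCK ξ hf
  have h2 : (1 : ℂ) = trOmega P K (ξ : Subgroup.centralizer (P : Set G) → ℂ) f'
        * trOmega P K (ξ : Subgroup.centralizer (P : Set G) → ℂ) f
      - (trOmega P K (ξ : Subgroup.centralizer (P : Set G) → ℂ) f' - 1)
        * trOmega P K (ξ : Subgroup.centralizer (P : Set G) → ℂ) f
      - (trOmega P K (ξ : Subgroup.centralizer (P : Set G) → ℂ) f - 1) := by ring
  rw [h2]
  exact MemLocalIdeal.sub hM (MemLocalIdeal.sub hM h1 (MemLocalIdeal.mul_right hM hf1' hr)) hf1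

end main

end Cfsg.Agent.Lib.Helper6
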