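import Mathlib
import Cfsg.Prelude.Def_Blocks
import Cfsg.Prelude.Def_BrauerPairs
import Cfsg.Agent.Lib.Helper6.BrPair

set_option autoImplicit false
set_option linter.unusedSectionVars false
open Cfsg

namespace Cfsg.Agent.Lib.Helper6

open scoped ComplexConjugate

section normalsub

variable {G : Type*} [Group G] [Fintype G] [DecidableEq G]
variable {p : ℕ} {M : Ideal Cfsg.AlgInt}

theorem normalizer_le_normalizer_centralizer (Q : Subgroup G) :
    Subgroup.normalizer (Q : Set G)
      ≤ Subgroup.normalizer ((Subgroup.centralizer (Q : Set G) : Subgroup G) : Set G) := by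
  intro k hk
  rw [Subgroup.mem_normalizer_iff]
  intro h
  exact (conj_mem_centralizer_iff_of_mem_normalizer Q hk h).symm

theorem subgroupBlockCoeff_of_mem (K : Subgroup G) (A : Set (Cfsg.IrrCharacter K)) {g : G}
    (hg : g ∈ K) : Cfsg.subgroupBlockCoeff K A g = Cfsg.blockCoeff A ⟨g, hg⟩ := by
  unfold Cfsg.subgroupBlockCoeff
  rw [dif_pos hg]

theorem subgroupBlockCoeff_of_not_mem (K : Subgroup G) (A : Set (Cfsg.IrrCharacter K)) {g : G}
    (hg : g ∉ K) : Cfsg.subgroupBlockCoeff K A g = 0 := by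
  unfold Cfsg.subgroupBlockCoeff
  rw [dif_neg hg]

theorem subgroupBlockCoeff_eq_extendByZero (K : Subgroup G) (A : Set (Cfsg.IrrCharacter K)) :
    Cfsg.subgroupBlockCoeff K A = Cfsg.extendByZero K (Cfsg.blockCoeff A) := by
  funext g
  by_cases hg : g ∈ K
  · rw [subgroupBlockCoeff_of_mem K A hg, extendByZero_of_mem K _ hg]
  · rw [subgroupBlockCoeff_of_not_mem K A hg, extendByZero_of_not_mem K _ hg]

variable (P K : Subgroup G) [Fintype K] [Fintype (Subgroup.centralizer (P : Set G))]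

theorem brauerOmega_eq_cOmega (β : G → ℂ) (ξ : Subgroup.centralizer (P : Set G) → ℂ) :
    Cfsg.brauerOmega P β ξ
      = cOmega ξ (regMat (fun c : Subgroup.centralizer (P : Set G) => β (c : G))) := by
  unfold Cfsg.brauerOmega
  rw [cOmega_regMat, finsum_eq_sum_of_fintype, Finset.sum_div]

theorem brauerOmega_eq_trOmega (hCK : Subgroup.centralizer (P : Set G) ≤ K)
    (A : Set (Cfsg.IrrCharacter K)) (ξ : Subgroup.centralizer (P : Set G) → ℂ) :
    Cfsg.brauerOmega P (Cfsg.subgroupBlockCoeff K A) ξ = trOmega P K ξ A := by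
  rw [brauerOmega_eq_cOmega]
  unfold trOmega
  congr 1
  rw [(trMat_rInv P K _).eq_regMat]
  congr 1
  funext c
  rw [trMat_apply_one P K hCK, subgroupBlockCoeff_of_mem K A (hCK c.2)]
  unfold blockMat
  rw [regMat_apply, inv_one, mul_one]

/-- the value of `trOmega` depends only on the block of `ξ` -/
theorem trOmega_sub_of_sameBlock (hM : Cfsg.IsPModular p M)
    (hCK : Subgroup.centralizer (P : Set G) ≤ K)
    (ξ ξ' : Cfsg.IrrCharacter (Subgroup.centralizer (P : Set G)))
    (h : Cfsg.SameBlock M (ξ : Subgroup.centralizer (P : Set G) → ℂ)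
      (ξ' : Subgroup.centralizer (P : Set G) → ℂ))
    {f : Set (Cfsg.IrrCharacter K)} (hf : Cfsg.IsPBlock M f) :
    Cfsg.MemLocalIdeal M (trOmega P K (ξ : Subgroup.centralizer (P : Set G) → ℂ) f
      - trOmega P K (ξ' : Subgroup.centralizer (P : Set G) → ℂ) f) :=
  cOmega_sub_memLocalIdeal hM ξ.2 ξ'.2 h
    (trMat_mem_centerAlg P K hCK (blockMat_mem_centerAlg f))
    (trMat_mem_sMat P K hM (isPBlock_mem_sMat hM hf))

end normalsub

section normalsub2

variable {G : Type*} [Group G] [Fintype G] [DecidableEq G]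
variable {p : ℕ} {M : Ideal Cfsg.AlgInt}
variable (P Q : Subgroup G) [Fintype (Subgroup.centralizer (Q : Set G))]
  [Fintype (Subgroup.centralizer (P : Set G))]

/-- normal inclusion of Brauer pairs in terms of stability and truncated idempotents -/
theorem isNormalSubpair_iff (hQP : Q ≤ P) (hPN : P ≤ Subgroup.normalizer (Q : Set G))
    (e : Set (Cfsg.IrrCharacter (Subgroup.centralizer (P : Set G))))
    (hPe : Cfsg.IsBrauerPair p M P e)
    (f : Set (Cfsg.IrrCharacter (Subgroup.centralizer (Q : Set G)))) :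
    Cfsg.IsNormalSubpair p M Q f P e ↔
      Cfsg.IsPBlock M f ∧
      PStable P (Subgroup.centralizer (Q : Set G))
        (hPN.trans (normalizer_le_normalizer_centralizer Q)) f ∧
      ∀ ξ ∈ e, Cfsg.MemLocalIdeal M
        (trOmega P (Subgroup.centralizer (Q : Set G))
          (ξ : Subgroup.centralizer (P : Set G) → ℂ) f - 1) := by
  have hCK : Subgroup.centralizer (P : Set G) ≤ Subgroup.centralizer (Q : Set G) :=
    Subgroup.centralizer_le hQP
  constructor
  · rintro ⟨hQf, _, _, _, hst, hom⟩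
    refine ⟨hQf.2, (pStable_iff P _ _ f).mpr hst, ?_⟩
    intro ξ hξ
    have := hom ξ hξ
    rwa [brauerOmega_eq_trOmega P _ hCK] at this
  · rintro ⟨hf, hst, hom⟩
    refine ⟨⟨hPe.1.to_le hQP, hf⟩, hPe, hQP, hPN, (pStable_iff P _ _ f).mp hst, ?_⟩
    intro ξ hξ
    rw [brauerOmega_eq_trOmega P _ hCK]
    exact hom ξ hξ

/-- for `Q` normalized by `P ≥ Q` there is exactly one block of `C_G(Q)` normally below a given
Brauer pair at `P` -/
theorem existsUnique_isNormalSubpair (hM : Cfsg.IsPModular p M) (hQP : Q ≤ P)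
    (hPN : P ≤ Subgroup.normalizer (Q : Set G))
    (e : Set (Cfsg.IrrCharacter (Subgroup.centralizer (P : Set G))))
    (hPe : Cfsg.IsBrauerPair p M P e) :
    ∃! f : Set (Cfsg.IrrCharacter (Subgroup.centralizer (Q : Set G))),
      Cfsg.IsNormalSubpair p M Q f P e := by
  have hCK : Subgroup.centralizer (P : Set G) ≤ Subgroup.centralizer (Q : Set G) :=
    Subgroup.centralizer_le hQP
  obtain ⟨ξ₀, he⟩ := hPe.2
  have hξ₀ : ξ₀ ∈ e := by rw [he]; exact sameBlock_refl hM _
  obtain ⟨f, ⟨hf, hfs, hf1⟩, huniq⟩ := exists_unique_stable_block P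
    (Subgroup.centralizer (Q : Set G)) (hPN.trans (normalizer_le_normalizer_centralizer Q))
    hM hPe.1 hCK ξ₀
  refine ⟨f, ?_, ?_⟩
  · change Cfsg.IsNormalSubpair p M Q f P e
    rw [isNormalSubpair_iff P Q hQP hPN e hPe]
    refine ⟨hf, hfs, ?_⟩
    intro ξ hξ
    rw [he] at hξ
    have h1 := trOmega_sub_of_sameBlock P _ hM hCK ξ ξ₀ (SameBlock.symm' hξ) hf
    have := MemLocalIdeal.add hM h1 hf1
    convert this using 1
    ring
  · intro f' hf'
    change Cfsg.IsNormalSubpair p M Q f' P e at hf'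
    rw [isNormalSubpair_iff P Q hQP hPN e hPe] at hf'
    exact huniq f' ⟨hf'.1, hf'.2.1, hf'.2.2 ξ₀ hξ₀⟩

end normalsub2

end Cfsg.Agent.Lib.Helper6
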