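import Mathlib
import Cfsg.Prelude.Def_Blocks
import Cfsg.Prelude.Def_BrauerPairs
import Cfsg.Agent.Lib.Helper6.BrPair2
import Cfsg.Agent.Lib.Helper6.BlkPairs

set_option autoImplicit false
set_option linter.unusedSectionVars false
open Cfsg

namespace Cfsg.Agent.Lib.Helper6

open scoped ComplexConjugate

section idem

variable {K : Type*} [Group K] [Fintype K] [DecidableEq K]
variable {p : ℕ} {M : Ideal Cfsg.AlgInt}

/-- a central idempotent modulo the ideal has central character values `0` or `1` -/
theorem cOmega_dichotomy_of_idem (hM : Cfsg.IsPModular p M) {t : Matrix K K ℂ}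
    (htc : t ∈ centerAlg K) (hts : t ∈ sMat hM K) (hidem : MMat M (t * t - t))
    (θ : Cfsg.IrrCharacter K) :
    Cfsg.MemLocalIdeal M (cOmega (θ : K → ℂ) t) ∨
      Cfsg.MemLocalIdeal M (cOmega (θ : K → ℂ) t - 1) := by
  have h1 : Cfsg.MemLocalIdeal M (cOmega (θ : K → ℂ) (t * t - t)) :=
    cOmega_memLocalIdeal_of_entries hM θ.2
      ((centerAlg K).sub_mem ((centerAlg K).mul_mem htc htc) htc) hidem
  rw [cOmega_sub, cOmega_mul θ.2 htc htc.1] at h1
  have hr := cOmega_memLocalRing hM θ.2 htc hts
  have h2 : cOmega (θ : K → ℂ) t * cOmega (θ : K → ℂ) t - cOmega (θ : K → ℂ) t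
      = cOmega (θ : K → ℂ) t * (cOmega (θ : K → ℂ) t - 1) := by ring
  rw [h2] at h1
  exact memLocalIdeal_or_of_mul hM hr (MemLocalRing.sub hM hr (memLocalRing_one hM)) h1

/-- if all members of `A` take the value `1` on the idempotent `t` then `t` absorbs the
idempotent of `A` modulo the ideal -/
theorem mul_blockMat_sub_mMat (hM : Cfsg.IsPModular p M) {t : Matrix K K ℂ}
    (htc : t ∈ centerAlg K) (hts : t ∈ sMat hM K) (hidem : MMat M (t * t - t))
    (A : Set (Cfsg.IrrCharacter K)) (hAs : blockMat A ∈ sMat hM K)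
    (h : ∀ θ ∈ A, Cfsg.MemLocalIdeal M (cOmega (θ : K → ℂ) t - 1)) :
    MMat M (t * blockMat A - blockMat A) := by
  classical
  have hEc := blockMat_mem_centerAlg A
  set E := blockMat A with hE
  -- work with `Z = E - t * E`
  have hZc : E - t * E ∈ centerAlg K :=
    (centerAlg K).sub_mem hEc ((centerAlg K).mul_mem htc hEc)
  have hZs : E - t * E ∈ sMat hM K :=
    (sMat hM K).sub_mem hAs ((sMat hM K).mul_mem hts hAs)
  have hcomm : E * t = t * E := by
    have h1 := htc.2
    -- central matrices commute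
    apply eq_of_cOmega_eq ((centerAlg K).mul_mem hEc htc) ((centerAlg K).mul_mem htc hEc)
    intro χ
    rw [cOmega_mul χ.2 hEc htc.1, cOmega_mul χ.2 htc hEc.1, mul_comm]
  have hEE : E * E = E := blockMat_idem A
  have hZ : MMat M (E - t * E) := by
    apply mMat_of_cOmega_of_idem hM hZc hZs
    · intro θ
      rw [cOmega_sub, cOmega_mul θ.2 htc hEc.1, hE, cOmega_blockMat]
      by_cases hθ : θ ∈ A
      · rw [if_pos hθ, mul_one]
        have := MemLocalIdeal.neg (h θ hθ)
        convert this using 1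
        ring
      · rw [if_neg hθ, mul_zero, sub_zero]
        exact memLocalIdeal_zero hM
    · have e1 : (E - t * E) * (E - t * E) - (E - t * E) = (t * t - t) * E := by
        have h3 : t * E * (t * E) = t * t * E := by
          calc t * E * (t * E) = t * (E * t) * E := by simp only [mul_assoc]
            _ = t * (t * E) * E := by rw [hcomm]
            _ = t * t * (E * E) := by simp only [mul_assoc]
            _ = t * t * E := by rw [hEE]
        have h4 : E * (t * E) = t * E := by
          rw [← mul_assoc, hcomm, mul_assoc, hEE]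
        have h5 : t * E * E = t * E := by rw [mul_assoc, hEE]
        rw [sub_mul, mul_sub, mul_sub, hEE, h4, h5, h3, sub_mul]
        abel
      rw [e1]
      exact MMat.mul_left hM hidem hAs
  have := MMat.neg hZ
  convert this using 1
  abel

/-- if all members of `A` take the value `0` on the idempotent `t` then `t` kills the
idempotent of `A` modulo the ideal -/
theorem mul_blockMat_mMat (hM : Cfsg.IsPModular p M) {t : Matrix K K ℂ}
    (htc : t ∈ centerAlg K) (hts : t ∈ sMat hM K) (hidem : MMat M (t * t - t))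
    (A : Set (Cfsg.IrrCharacter K)) (hAs : blockMat A ∈ sMat hM K)
    (h : ∀ θ ∈ A, Cfsg.MemLocalIdeal M (cOmega (θ : K → ℂ) t)) :
    MMat M (t * blockMat A) := by
  classical
  have hEc := blockMat_mem_centerAlg A
  set E := blockMat A with hE
  have hcomm : E * t = t * E := by
    apply eq_of_cOmega_eq ((centerAlg K).mul_mem hEc htc) ((centerAlg K).mul_mem htc hEc)
    intro χ
    rw [cOmega_mul χ.2 hEc htc.1, cOmega_mul χ.2 htc hEc.1, mul_comm]
  have hEE : E * E = E := blockMat_idem A
  apply mMat_of_cOmega_of_idem hM ((centerAlg K).mul_mem htc hEc) ((sMat hM K).mul_mem hts hAs)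
  · intro θ
    rw [cOmega_mul θ.2 htc hEc.1, hE, cOmega_blockMat]
    by_cases hθ : θ ∈ A
    · rw [if_pos hθ, mul_one]
      exact h θ hθ
    · rw [if_neg hθ, mul_zero]
      exact memLocalIdeal_zero hM
  · have e1 : t * E * (t * E) - t * E = (t * t - t) * E := by
      have h3 : t * E * (t * E) = t * t * E := by
        calc t * E * (t * E) = t * (E * t) * E := by simp only [mul_assoc]
          _ = t * (t * E) * E := by rw [hcomm]
          _ = t * t * (E * E) := by simp only [mul_assoc]
          _ = t * t * E := by rw [hEE]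
      rw [h3, sub_mul]
    rw [e1]
    exact MMat.mul_left hM hidem hAs

end idem

section core

variable {G : Type*} [Group G] [Fintype G] [DecidableEq G]
variable {p : ℕ} {M : Ideal Cfsg.AlgInt}
variable (P K : Subgroup G) [Fintype K] [Fintype (Subgroup.centralizer (P : Set G))]
variable (hPK : P ≤ Subgroup.normalizer (K : Set G))

/-- the core lemma, value one: a `P`-invariant central idempotent `t` of `K` on which the stable
block `g` takes the value one has a truncation on which `ξ` takes the value one, provided `ξ`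
takes the value one on the truncated idempotent of `g` -/
theorem cOmega_trMat_sub_one (hM : Cfsg.IsPModular p M) (hP : IsPGroup p P)
    (hCK : Subgroup.centralizer (P : Set G) ≤ K)
    (ξ : Cfsg.IrrCharacter (Subgroup.centralizer (P : Set G)))
    {g : Set (Cfsg.IrrCharacter K)} (hg : Cfsg.IsPBlock M g) (hgs : PStable P K hPK g)
    (hξg : Cfsg.MemLocalIdeal M (trOmega P K (ξ : Subgroup.centralizer (P : Set G) → ℂ) g - 1))
    {t : Matrix K K ℂ} (htc : t ∈ centerAlg K) (hts : t ∈ sMat hM K)
    (hidem : MMat M (t * t - t)) (htP : KInv P K hPK t)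
    (h : ∀ θ ∈ g, Cfsg.MemLocalIdeal M (cOmega (θ : K → ℂ) t - 1)) :
    Cfsg.MemLocalIdeal M
      (cOmega (ξ : Subgroup.centralizer (P : Set G) → ℂ) (trMat P K t) - 1) := by
  have hEs := isPBlock_mem_sMat hM hg
  have hEc := blockMat_mem_centerAlg g
  have h1 := mul_blockMat_sub_mMat hM htc hts hidem g hEs h
  have h2 := trMat_mMat P K hM h1
  rw [trMat_sub] at h2
  have h3 := trMat_mul_sub_mMat P K hPK hM hP htc.1 hts htP hEs (blockMat_kInv P K hPK hgs)
  have h4 : MMat M (trMat P K t * trMat P K (blockMat g) - trMat P K (blockMat g)) := by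
    have := MMat.sub hM h2 h3
    convert this using 1
    abel
  have hTc := trMat_mem_centerAlg P K hCK htc
  have hTEc := trMat_mem_centerAlg P K hCK hEc
  have h5 : Cfsg.MemLocalIdeal M (cOmega (ξ : Subgroup.centralizer (P : Set G) → ℂ)
      (trMat P K t * trMat P K (blockMat g) - trMat P K (blockMat g))) :=
    cOmega_memLocalIdeal_of_entries hM ξ.2
      ((centerAlg (Subgroup.centralizer (P : Set G))).sub_mem
        ((centerAlg (Subgroup.centralizer (P : Set G))).mul_mem hTc hTEc) hTEc) h4
  rw [cOmega_sub, cOmega_mul ξ.2 hTc hTEc.1] at h5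
  have ha := cOmega_memLocalRing hM ξ.2 hTc (trMat_mem_sMat P K hM hts)
  have hb := trOmega_memLocalRing P K hM hCK ξ hg
  change Cfsg.MemLocalIdeal M (cOmega (ξ : Subgroup.centralizer (P : Set G) → ℂ) (trMat P K t)
    * trOmega P K (ξ : Subgroup.centralizer (P : Set G) → ℂ) g
    - trOmega P K (ξ : Subgroup.centralizer (P : Set G) → ℂ) g) at h5
  have h6 : cOmega (ξ : Subgroup.centralizer (P : Set G) → ℂ) (trMat P K t)
      * trOmega P K (ξ : Subgroup.centralizer (P : Set G) → ℂ) g
      - trOmega P K (ξ : Subgroup.centralizer (P : Set G) → ℂ) g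
      = (cOmega (ξ : Subgroup.centralizer (P : Set G) → ℂ) (trMat P K t) - 1)
        * trOmega P K (ξ : Subgroup.centralizer (P : Set G) → ℂ) g := by ring
  rw [h6] at h5
  rcases memLocalIdeal_or_of_mul hM (MemLocalRing.sub hM ha (memLocalRing_one hM)) hb h5 with h7 | h7
  · exact h7
  · exfalso
    apply not_memLocalIdeal_one hM
    have := MemLocalIdeal.sub hM h7 hξg
    convert this using 1
    ring

/-- the core lemma, value zero -/
theorem cOmega_trMat_mem (hM : Cfsg.IsPModular p M) (hP : IsPGroup p P)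
    (hCK : Subgroup.centralizer (P : Set G) ≤ K)
    (ξ : Cfsg.IrrCharacter (Subgroup.centralizer (P : Set G)))
    {g : Set (Cfsg.IrrCharacter K)} (hg : Cfsg.IsPBlock M g) (hgs : PStable P K hPK g)
    (hξg : Cfsg.MemLocalIdeal M (trOmega P K (ξ : Subgroup.centralizer (P : Set G) → ℂ) g - 1))
    {t : Matrix K K ℂ} (htc : t ∈ centerAlg K) (hts : t ∈ sMat hM K)
    (hidem : MMat M (t * t - t)) (htP : KInv P K hPK t)
    (h : ∀ θ ∈ g, Cfsg.MemLocalIdeal M (cOmega (θ : K → ℂ) t)) :
    Cfsg.MemLocalIdeal M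
      (cOmega (ξ : Subgroup.centralizer (P : Set G) → ℂ) (trMat P K t)) := by
  have hEs := isPBlock_mem_sMat hM hg
  have hEc := blockMat_mem_centerAlg g
  have h1 := mul_blockMat_mMat hM htc hts hidem g hEs h
  have h2 := trMat_mMat P K hM h1
  have h3 := trMat_mul_sub_mMat P K hPK hM hP htc.1 hts htP hEs (blockMat_kInv P K hPK hgs)
  have h4 : MMat M (trMat P K t * trMat P K (blockMat g)) := by
    have := MMat.sub hM h2 h3
    convert this using 1
    abel
  have hTc := trMat_mem_centerAlg P K hCK htc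
  have hTEc := trMat_mem_centerAlg P K hCK hEc
  have h5 : Cfsg.MemLocalIdeal M (cOmega (ξ : Subgroup.centralizer (P : Set G) → ℂ)
      (trMat P K t * trMat P K (blockMat g))) :=
    cOmega_memLocalIdeal_of_entries hM ξ.2
      ((centerAlg (Subgroup.centralizer (P : Set G))).mul_mem hTc hTEc) h4
  rw [cOmega_mul ξ.2 hTc hTEc.1] at h5
  have ha := cOmega_memLocalRing hM ξ.2 hTc (trMat_mem_sMat P K hM hts)
  have hb := trOmega_memLocalRing P K hM hCK ξ hg
  rcases memLocalIdeal_or_of_mul hM ha hb h5 with h7 | h7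
  · exact h7
  · exfalso
    apply not_memLocalIdeal_one hM
    have h8 : Cfsg.MemLocalIdeal M (trOmega P K (ξ : Subgroup.centralizer (P : Set G) → ℂ) g) := h7
    have := MemLocalIdeal.sub hM h8 hξg
    convert this using 1
    ring

/-- the core lemma as an equivalence -/
theorem forall_cOmega_sub_one_iff (hM : Cfsg.IsPModular p M) (hP : IsPGroup p P)
    (hCK : Subgroup.centralizer (P : Set G) ≤ K)
    {e : Set (Cfsg.IrrCharacter (Subgroup.centralizer (P : Set G)))} (he : e.Nonempty)
    {g : Set (Cfsg.IrrCharacter K)} (hg : Cfsg.IsPBlock M g) (hgs : PStable P K hPK g)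
    (hξg : ∀ ξ ∈ e, Cfsg.MemLocalIdeal M
      (trOmega P K (ξ : Subgroup.centralizer (P : Set G) → ℂ) g - 1))
    {t : Matrix K K ℂ} (htc : t ∈ centerAlg K) (hts : t ∈ sMat hM K)
    (hidem : MMat M (t * t - t)) (htP : KInv P K hPK t) :
    (∀ θ ∈ g, Cfsg.MemLocalIdeal M (cOmega (θ : K → ℂ) t - 1)) ↔
      ∀ ξ ∈ e, Cfsg.MemLocalIdeal M
        (cOmega (ξ : Subgroup.centralizer (P : Set G) → ℂ) (trMat P K t) - 1) := by
  constructor
  · intro h ξ hξ
    exact cOmega_trMat_sub_one P K hPK hM hP hCK ξ hg hgs (hξg ξ hξ) htc hts hidem htP h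
  · intro h
    obtain ⟨ξ, hξ⟩ := he
    obtain ⟨θ₀, hgθ⟩ := hg
    have hθ₀ : ∀ θ ∈ g, Cfsg.MemLocalIdeal M (cOmega (θ : K → ℂ) t - cOmega (θ₀ : K → ℂ) t) := by
      intro θ hθ
      rw [hgθ] at hθ
      exact cOmega_sub_memLocalIdeal hM θ.2 θ₀.2 (SameBlock.symm' hθ) htc hts
    rcases cOmega_dichotomy_of_idem hM htc hts hidem θ₀ with h0 | h1
    · exfalso
      have hall : ∀ θ ∈ g, Cfsg.MemLocalIdeal M (cOmega (θ : K → ℂ) t) := by
        intro θ hθ
        have := MemLocalIdeal.add hM (hθ₀ θ hθ) h0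
        convert this using 1
        ring
      have h2 := cOmega_trMat_mem P K hPK hM hP hCK ξ ⟨θ₀, hgθ⟩ hgs (hξg ξ hξ) htc hts hidem htP
        hall
      apply not_memLocalIdeal_one hM
      have := MemLocalIdeal.sub hM h2 (h ξ hξ)
      convert this using 1
      ring
    · intro θ hθ
      have := MemLocalIdeal.add hM (hθ₀ θ hθ) h1
      convert this using 1
      ring

end core

section step

variable {G : Type*} [Group G] [Fintype G] [DecidableEq G]
variable {p : ℕ} {M : Ideal Cfsg.AlgInt}
variable (P Q : Subgroup G) [Fintype (Subgroup.centralizer (Q : Set G))]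
  [Fintype (Subgroup.centralizer (P : Set G))]

theorem isPBlock_nonempty (hM : Cfsg.IsPModular p M) {H : Type*} [Group H]
    {e : Set (Cfsg.IrrCharacter H)} (he : Cfsg.IsPBlock M e) : e.Nonempty := by
  obtain ⟨ξ, rfl⟩ := he
  exact ⟨ξ, sameBlock_refl hM _⟩

/-- a normal step preserves the block of `G` to which a Brauer pair belongs -/
theorem isBrauerPairOf_iff_of_isNormalSubpair (hM : Cfsg.IsPModular p M)
    (e : Set (Cfsg.IrrCharacter (Subgroup.centralizer (P : Set G))))
    (f : Set (Cfsg.IrrCharacter (Subgroup.centralizer (Q : Set G))))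
    (h : Cfsg.IsNormalSubpair p M Q f P e) (B : Set (Cfsg.IrrCharacter G))
    (hB : Cfsg.IsPBlock M B) :
    Cfsg.IsBrauerPairOf p M B P e ↔ Cfsg.IsBrauerPairOf p M B Q f := by
  have hQf := h.1
  have hPe := h.2.1
  have hQP := h.2.2.1
  have hPN := h.2.2.2.1
  obtain ⟨hf, hfs, hom⟩ := (isNormalSubpair_iff P Q hQP hPN e hPe f).mp h
  have hCK : Subgroup.centralizer (P : Set G) ≤ Subgroup.centralizer (Q : Set G) :=
    Subgroup.centralizer_le hQP
  have hPK := hPN.trans (normalizer_le_normalizer_centralizer Q)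
  have hEc := blockMat_mem_centerAlg B
  have hEs : blockMat B ∈ sMat hM G := isPBlock_mem_sMat hM hB
  set t : Matrix (Subgroup.centralizer (Q : Set G)) (Subgroup.centralizer (Q : Set G)) ℂ :=
    resMat (Subgroup.centralizer (Q : Set G)) (blockMat B) with ht
  have htc : t ∈ centerAlg (Subgroup.centralizer (Q : Set G)) := resMat_mem_centerAlg _ hEc
  have hts : t ∈ sMat hM (Subgroup.centralizer (Q : Set G)) := resMat_mem_sMat _ hM hEs
  have hidem : MMat M (t * t - t) := by
    intro s u
    have h1 := brMat_mul_sub_apply Q (Subgroup.centralizer (Q : Set G)) hM hQf.1 le_rfl hEc hEs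
      hEc hEs s u
    rw [blockMat_idem, brMat_centralizer_eq_resMat] at h1
    have h2 := MemLocalIdeal.neg h1
    convert h2 using 1
    rw [ht]
    simp [Matrix.sub_apply]
  have htP : KInv P (Subgroup.centralizer (Q : Set G)) hPK t := by
    intro x hx k
    rw [ht, resMat_apply_one, resMat_apply_one, nAut_apply_coe]
    exact isClassFunction_of_mem_centerAlg hEc (k : G) x
  have hkey := forall_cOmega_sub_one_iff P (Subgroup.centralizer (Q : Set G)) hPK hM hPe.1 hCK
    (isPBlock_nonempty hM hPe.2) hf hfs hom htc hts hidem htP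
  have htr : trMat P (Subgroup.centralizer (Q : Set G)) t
      = resMat (Subgroup.centralizer (P : Set G)) (blockMat B) := by
    rw [(trMat_rInv P _ t).eq_regMat]
    have hr : RInv (resMat (Subgroup.centralizer (P : Set G)) (blockMat B)) := regMat_rInv _
    rw [hr.eq_regMat]
    congr 1
    funext c
    rw [trMat_apply_one P _ hCK, ht, resMat_apply_one, resMat_apply_one]
  rw [htr] at hkey
  constructor
  · rintro ⟨_, _, h3⟩
    refine ⟨hQf, hB, ?_⟩
    intro θ hθ
    rw [brauerOmega_blockCoeff_eq]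
    apply hkey.mpr _ θ hθ
    intro ξ hξ
    have := h3 ξ hξ
    rwa [brauerOmega_blockCoeff_eq] at this
  · rintro ⟨_, _, h3⟩
    refine ⟨hPe, hB, ?_⟩
    intro ξ hξ
    rw [brauerOmega_blockCoeff_eq]
    apply hkey.mp _ ξ hξ
    intro θ hθ
    have := h3 θ hθ
    rwa [brauerOmega_blockCoeff_eq] at this

end step

end Cfsg.Agent.Lib.Helper6
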