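import Mathlib
import Cfsg.Prelude.Def_Blocks
import Cfsg.Prelude.Def_BrauerPairs
import Cfsg.Agent.Lib.Helper6.BrPair3

set_option autoImplicit false
set_option linter.unusedSectionVars false
open Cfsg

namespace Cfsg.Agent.Lib.Helper6

open scoped ComplexConjugate

section conjsec

variable {G : Type*} [Group G] [Fintype G] [DecidableEq G]
variable {p : ℕ} {M : Ideal Cfsg.AlgInt}
variable (R K : Subgroup G) [Fintype K] [Fintype (Subgroup.centralizer (R : Set G))]

/-- conjugating the set of characters of `K` amounts to conjugating the character of `C_G(R)` -/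
theorem trOmega_autIrr_image (hCK : Subgroup.centralizer (R : Set G) ≤ K) (x : G)
    (hxK : x ∈ Subgroup.normalizer (K : Set G))
    (hxC : x ∈ Subgroup.normalizer ((Subgroup.centralizer (R : Set G) : Subgroup G) : Set G))
    (A : Set (Cfsg.IrrCharacter K)) (ζ : Cfsg.IrrCharacter (Subgroup.centralizer (R : Set G))) :
    trOmega R K (ζ : Subgroup.centralizer (R : Set G) → ℂ) (autIrr (nAut K x hxK) '' A)
      = trOmega R K
          (autIrr ((nAut (Subgroup.centralizer (R : Set G)) x hxC)⁻¹) ζ :
            Subgroup.centralizer (R : Set G) → ℂ) A := by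
  unfold trOmega cOmega
  rw [autIrr_apply_one]
  congr 1
  rw [← Equiv.sum_comp (nAut (Subgroup.centralizer (R : Set G)) x hxC).toEquiv]
  apply Finset.sum_congr rfl
  intro c _
  rw [autIrr_apply, inv_inv]
  simp only [MulEquiv.toEquiv_eq_coe, EquivLike.coe_coe]
  congr 1
  rw [trMat_apply_one R K hCK, trMat_apply_one R K hCK]
  unfold blockMat
  rw [regMat_apply, regMat_apply, inv_one, mul_one, mul_one, blockCoeff_autIrr_image]
  congr 1
  apply Subtype.ext
  rw [nAut_inv_apply_coe]
  simp only [nAut_apply_coe]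
  group

end conjsec

section twostep

variable {G : Type*} [Group G] [Fintype G] [DecidableEq G]
variable {p : ℕ} {M : Ideal Cfsg.AlgInt}

theorem nAut_congr (K : Subgroup G) {x y : G} (h : x = y)
    (hx : x ∈ Subgroup.normalizer (K : Set G)) (hy : y ∈ Subgroup.normalizer (K : Set G)) :
    nAut K x hx = nAut K y hy := by
  subst h
  rfl

variable (P Q R : Subgroup G) [Fintype (Subgroup.centralizer (Q : Set G))]
  [Fintype (Subgroup.centralizer (R : Set G))] [Fintype (Subgroup.centralizer (P : Set G))]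

/-- two normal steps compose to a normal step when the bottom group is normal in the top one -/
theorem isNormalSubpair_trans (hM : Cfsg.IsPModular p M)
    (hPQ : P ≤ Subgroup.normalizer (Q : Set G))
    (e : Set (Cfsg.IrrCharacter (Subgroup.centralizer (P : Set G))))
    (f : Set (Cfsg.IrrCharacter (Subgroup.centralizer (Q : Set G))))
    (g : Set (Cfsg.IrrCharacter (Subgroup.centralizer (R : Set G))))
    (h1 : Cfsg.IsNormalSubpair p M Q f R g) (h2 : Cfsg.IsNormalSubpair p M R g P e) :
    Cfsg.IsNormalSubpair p M Q f P e := by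
  have hQR := h1.2.2.1
  have hRNQ := h1.2.2.2.1
  have hRP := h2.2.2.1
  have hPNR := h2.2.2.2.1
  have hRg := h1.2.1
  have hPe := h2.2.1
  obtain ⟨hf, hfsR, hom1⟩ := (isNormalSubpair_iff R Q hQR hRNQ g hRg f).mp h1
  obtain ⟨hg, hgsP, hom2⟩ := (isNormalSubpair_iff P R hRP hPNR e hPe g).mp h2
  have hQP : Q ≤ P := hQR.trans hRP
  have hCRQ : Subgroup.centralizer (R : Set G) ≤ Subgroup.centralizer (Q : Set G) :=
    Subgroup.centralizer_le hQR
  have hCPR : Subgroup.centralizer (P : Set G) ≤ Subgroup.centralizer (R : Set G) :=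
    Subgroup.centralizer_le hRP
  have hCPQ : Subgroup.centralizer (P : Set G) ≤ Subgroup.centralizer (Q : Set G) :=
    Subgroup.centralizer_le hQP
  have hRKQ := hRNQ.trans (normalizer_le_normalizer_centralizer Q)
  have hPKQ := hPQ.trans (normalizer_le_normalizer_centralizer Q)
  have hPKR := hPNR.trans (normalizer_le_normalizer_centralizer R)
  rw [isNormalSubpair_iff P Q hQP hPQ e hPe]
  -- stability of `f` under `P`
  have hfsP : PStable P (Subgroup.centralizer (Q : Set G)) hPKQ f := by
    intro x hx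
    obtain ⟨ζ₀, hζ₀⟩ := isPBlock_nonempty hM hg
    obtain ⟨f₀, _, huniq⟩ := exists_unique_stable_block R (Subgroup.centralizer (Q : Set G))
      hRKQ hM hRg.1 hCRQ ζ₀
    have e1 : f = f₀ := huniq f ⟨hf, hfsR, hom1 ζ₀ hζ₀⟩
    have e2 : autIrr (nAut (Subgroup.centralizer (Q : Set G)) x (hPKQ hx)) '' f = f₀ := by
      apply huniq
      refine ⟨isPBlock_autIrr_image _ hf, ?_, ?_⟩
      · intro r hr
        have hxi : x⁻¹ ∈ P := P.inv_mem hx
        have hr' : x⁻¹ * r * x ∈ R := by
          have := (Subgroup.mem_normalizer_iff.mp (hPNR hxi) r).mp hr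
          simpa using this
        rw [autIrr_image_image]
        have e3 : nAut (Subgroup.centralizer (Q : Set G)) r (hRKQ hr)
              * nAut (Subgroup.centralizer (Q : Set G)) x (hPKQ hx)
            = nAut (Subgroup.centralizer (Q : Set G)) x (hPKQ hx)
              * nAut (Subgroup.centralizer (Q : Set G)) (x⁻¹ * r * x) (hRKQ hr') := by
          rw [← nAut_mul _ _ _ _ _ (Subgroup.mul_mem _ (hRKQ hr) (hPKQ hx)),
            ← nAut_mul _ _ _ _ _ (Subgroup.mul_mem _ (hPKQ hx) (hRKQ hr'))]
          apply nAut_congr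
          group
        rw [e3, ← autIrr_image_image, hfsR _ hr']
      · rw [trOmega_autIrr_image R _ hCRQ x (hPKQ hx) (hPKR hx) f ζ₀]
        apply hom1
        have hxi : x⁻¹ ∈ P := P.inv_mem hx
        have h3 := hgsP x⁻¹ hxi
        rw [nAut_inv _ x (hPKR hx)] at h3
        rw [← h3]
        exact ⟨ζ₀, hζ₀, rfl⟩
    rw [e2, ← e1]
  refine ⟨hf, hfsP, ?_⟩
  intro ξ hξ
  -- the truncation of the idempotent of `f` to `C_G(R)`
  set t := trMat R (Subgroup.centralizer (Q : Set G)) (blockMat f) with ht
  have hEc := blockMat_mem_centerAlg f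
  have hEs := isPBlock_mem_sMat hM hf
  have htc : t ∈ centerAlg (Subgroup.centralizer (R : Set G)) :=
    trMat_mem_centerAlg R _ hCRQ hEc
  have hts : t ∈ sMat hM (Subgroup.centralizer (R : Set G)) := trMat_mem_sMat R _ hM hEs
  have hidem : MMat M (t * t - t) := by
    have h3 := trMat_mul_sub_mMat R _ hRKQ hM hRg.1 hEc.1 hEs (blockMat_kInv R _ hRKQ hfsR) hEs
      (blockMat_kInv R _ hRKQ hfsR)
    rw [blockMat_idem] at h3
    have h4 := MMat.neg h3
    convert h4 using 1
    rw [ht]
    abel
  have htP : KInv P (Subgroup.centralizer (R : Set G)) hPKR t := by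
    intro x hx c
    rw [ht, trMat_apply_one R _ hCRQ, trMat_apply_one R _ hCRQ]
    unfold blockMat
    rw [regMat_apply, regMat_apply, inv_one, mul_one, mul_one]
    have h5 := blockCoeff_of_autIrr_image_eq _ (hfsP x hx)
      (⟨(c : G), hCRQ c.2⟩ : Subgroup.centralizer (Q : Set G))
    rw [← h5]
    congr 1
  have h6 := cOmega_trMat_sub_one P (Subgroup.centralizer (R : Set G)) hPKR hM hPe.1 hCPR ξ hg hgsP
    (hom2 ξ hξ) htc hts hidem htP hom1
  have h7 : trMat P (Subgroup.centralizer (R : Set G)) t
      = trMat P (Subgroup.centralizer (Q : Set G)) (blockMat f) := by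
    rw [(trMat_rInv P _ t).eq_regMat, (trMat_rInv P _ (blockMat f)).eq_regMat]
    congr 1
    funext c
    rw [trMat_apply_one P _ hCPR, trMat_apply_one P _ hCPQ, ht, trMat_apply_one R _ hCRQ]
  rw [h7] at h6
  exact h6

end twostep

end Cfsg.Agent.Lib.Helper6
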