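import Mathlib
import Cfsg.Prelude.Def_Blocks
import Cfsg.Prelude.Def_BrauerPairs
import Cfsg.Agent.Lib.Helper6.BrPair4

set_option autoImplicit false
set_option linter.unusedSectionVars false
open Cfsg

namespace Cfsg.Agent.Lib.Helper6

open scoped ComplexConjugate


section chains

variable {G : Type*} [Group G] [Fintype G] [DecidableEq G]
variable {p : ℕ} {M : Ideal Cfsg.AlgInt}

/-- every Brauer pair is normally below itself -/
theorem isNormalSubpair_refl (hM : Cfsg.IsPModular p M) (P : Subgroup G)
    [Fintype (Subgroup.centralizer (P : Set G))]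
    (e : Set (Cfsg.IrrCharacter (Subgroup.centralizer (P : Set G))))
    (hPe : Cfsg.IsBrauerPair p M P e) : Cfsg.IsNormalSubpair p M P e P e := by
  classical
  rw [isNormalSubpair_iff P P le_rfl Subgroup.le_normalizer e hPe]
  refine ⟨hPe.2, ?_, ?_⟩
  · intro x hx
    have : nAut (Subgroup.centralizer (P : Set G)) x
        ((Subgroup.le_normalizer.trans (normalizer_le_normalizer_centralizer P)) hx) = 1 := by
      ext c
      rw [nAut_apply_coe]
      have := Subgroup.mem_centralizer_iff.mp c.2 x hx
      rw [this]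
      simp
    rw [this, autIrr_one_image]
  · intro ξ hξ
    have h1 : trMat P (Subgroup.centralizer (P : Set G)) (blockMat e) = blockMat e := by
      ext s t
      rw [(trMat_rInv P _ _).apply_eq, (blockMat_mem_centerAlg e).1.apply_eq s t,
        trMat_apply_one P _ le_rfl]
    unfold trOmega
    rw [h1, cOmega_blockMat, if_pos hξ, sub_self]
    exact memLocalIdeal_zero hM

/-- a normal step with equal groups has equal blocks -/
theorem eq_of_isNormalSubpair_self (hM : Cfsg.IsPModular p M) (P : Subgroup G)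
    [Fintype (Subgroup.centralizer (P : Set G))]
    (g e : Set (Cfsg.IrrCharacter (Subgroup.centralizer (P : Set G))))
    (h : Cfsg.IsNormalSubpair p M P g P e) : g = e := by
  classical
  have hPe := h.2.1
  obtain ⟨hg, _, hom⟩ := (isNormalSubpair_iff P P le_rfl Subgroup.le_normalizer e hPe g).mp h
  obtain ⟨ξ, hξ⟩ := isPBlock_nonempty hM hPe.2
  have h1 : trMat P (Subgroup.centralizer (P : Set G)) (blockMat g) = blockMat g := by
    ext s t
    rw [(trMat_rInv P _ _).apply_eq, (blockMat_mem_centerAlg g).1.apply_eq s t,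
      trMat_apply_one P _ le_rfl]
  have h2 := hom ξ hξ
  unfold trOmega at h2
  rw [h1, cOmega_blockMat] at h2
  by_cases hξg : ξ ∈ g
  · exact isPBlock_eq_of_mem hM hg hPe.2 hξg hξ
  · exfalso
    rw [if_neg hξg, zero_sub] at h2
    apply not_memLocalIdeal_one hM
    have := MemLocalIdeal.neg h2
    simpa using this

theorem le_of_chain (a b : Cfsg.BrauerPairIdx G)
    (h : Relation.ReflTransGen (Cfsg.NormalSubpairRel p M) a b) : a.1 ≤ b.1 := by
  induction h with
  | refl => exact le_rfl
  | tail _ hbc ih => exact ih.trans hbc.2.2.1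

theorem isBrauerPair_of_chain (a b : Cfsg.BrauerPairIdx G)
    (h : Relation.ReflTransGen (Cfsg.NormalSubpairRel p M) a b)
    (hb : Cfsg.IsBrauerPair p M b.1 b.2) : Cfsg.IsBrauerPair p M a.1 a.2 := by
  induction h with
  | refl => exact hb
  | tail _ hbc ih => exact ih hbc.1

/-- a chain whose bottom group is normalized by the top group is a single normal step -/
theorem isNormalSubpair_of_chain (hM : Cfsg.IsPModular p M) (a b : Cfsg.BrauerPairIdx G)
    (h : Relation.ReflTransGen (Cfsg.NormalSubpairRel p M) a b)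
    (ha : Cfsg.IsBrauerPair p M a.1 a.2)
    (hN : b.1 ≤ Subgroup.normalizer (a.1 : Set G)) :
    Cfsg.IsNormalSubpair p M a.1 a.2 b.1 b.2 := by
  classical
  induction h with
  | refl =>
    have : Fintype (Subgroup.centralizer (a.1 : Set G)) := Fintype.ofFinite _
    exact isNormalSubpair_refl hM a.1 a.2 ha
  | @tail b c hab hbc ih =>
    have : Fintype (Subgroup.centralizer (a.1 : Set G)) := Fintype.ofFinite _
    have : Fintype (Subgroup.centralizer (b.1 : Set G)) := Fintype.ofFinite _
    have : Fintype (Subgroup.centralizer (c.1 : Set G)) := Fintype.ofFinite _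
    have h1 := ih (hbc.2.2.1.trans hN)
    exact isNormalSubpair_trans c.1 a.1 b.1 hM hN c.2 a.2 b.2 h1 hbc

/-- the last proper step of a chain -/
theorem chain_cases (hM : Cfsg.IsPModular p M) (a b : Cfsg.BrauerPairIdx G)
    (h : Relation.ReflTransGen (Cfsg.NormalSubpairRel p M) a b) :
    a = b ∨ ∃ c : Cfsg.BrauerPairIdx G, c.1 < b.1 ∧
      Relation.ReflTransGen (Cfsg.NormalSubpairRel p M) a c ∧ Cfsg.NormalSubpairRel p M c b := by
  classical
  induction h with
  | refl => exact Or.inl rfl
  | @tail b c hab hbc ih =>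
    by_cases hbc1 : b.1 = c.1
    · have hbceq : b = c := by
        obtain ⟨R, g⟩ := b
        obtain ⟨P, e⟩ := c
        simp only at hbc1
        subst hbc1
        have : Fintype (Subgroup.centralizer (R : Set G)) := Fintype.ofFinite _
        have := eq_of_isNormalSubpair_self hM R g e hbc
        rw [this]
      rw [← hbceq]
      exact ih
    · right
      exact ⟨b, lt_of_le_of_ne hbc.2.2.1 hbc1, hab, hbc⟩

end chains

section existuniq

variable {G : Type*} [Group G] [Fintype G] [DecidableEq G]
variable {p : ℕ} {M : Ideal Cfsg.AlgInt}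

theorem card_lt_of_lt {H K : Subgroup G} (h : H < K) : Nat.card H < Nat.card K := by
  by_contra hcon
  push Not at hcon
  have := Subgroup.eq_of_le_of_card_ge h.le hcon
  exact absurd this (ne_of_lt h)

theorem le_normalizer_inf {P R R' : Subgroup G} (h : P ≤ Subgroup.normalizer (R : Set G))
    (h' : P ≤ Subgroup.normalizer (R' : Set G)) :
    P ≤ Subgroup.normalizer ((R ⊓ R' : Subgroup G) : Set G) := by
  intro x hx
  have h1 := Subgroup.mem_normalizer_iff.mp (h hx)
  have h2 := Subgroup.mem_normalizer_iff.mp (h' hx)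
  rw [Subgroup.mem_normalizer_iff]
  intro y
  rw [Subgroup.mem_inf, Subgroup.mem_inf, h1 y, h2 y]

/-- below a Brauer pair there is a pair on every subgroup -/
theorem exists_subpairLE (hM : Cfsg.IsPModular p M) [Fact p.Prime] :
    ∀ (n : ℕ) (P Q : Subgroup G)
      (e : Set (Cfsg.IrrCharacter (Subgroup.centralizer (P : Set G)))),
      Nat.card P - Nat.card Q ≤ n → Cfsg.IsBrauerPair p M P e → Q ≤ P →
      ∃ f : Set (Cfsg.IrrCharacter (Subgroup.centralizer (Q : Set G))),
        Cfsg.IsPBlock M f ∧ Cfsg.SubpairLE p M Q f P e := by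
  classical
  intro n
  induction n with
  | zero =>
    intro P Q e hn hPe hQP
    have hcard : Nat.card P ≤ Nat.card Q := by omega
    have : Q = P := Subgroup.eq_of_le_of_card_ge hQP hcard
    subst this
    exact ⟨e, hPe.2, Relation.ReflTransGen.refl⟩
  | succ n ih =>
    intro P Q e hn hPe hQP
    rcases eq_or_lt_of_le hQP with h | h
    · subst h
      exact ⟨e, hPe.2, Relation.ReflTransGen.refl⟩
    · obtain ⟨x, hxP, hxN, hxQ⟩ := exists_mem_normalizer_not_mem hPe.1 h
      have hQN : Q ≤ P ⊓ Subgroup.normalizer (Q : Set G) := le_inf hQP Subgroup.le_normalizer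
      have hQltN : Q < P ⊓ Subgroup.normalizer (Q : Set G) := by
        apply lt_of_le_of_ne hQN
        intro heq
        apply hxQ
        rw [heq]
        exact ⟨hxP, hxN⟩
      have hNP : P ⊓ Subgroup.normalizer (Q : Set G) ≤ P := inf_le_left
      have hc1 := card_lt_of_lt hQltN
      have hc2 := Subgroup.card_le_of_le hNP
      obtain ⟨g, hg, hchain⟩ := ih P (P ⊓ Subgroup.normalizer (Q : Set G)) e (by omega) hPe hNP
      have hNg : Cfsg.IsBrauerPair p M (P ⊓ Subgroup.normalizer (Q : Set G)) g :=
        ⟨hPe.1.to_le hNP, hg⟩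
      have : Fintype (Subgroup.centralizer (Q : Set G)) := Fintype.ofFinite _
      have : Fintype (Subgroup.centralizer
        ((P ⊓ Subgroup.normalizer (Q : Set G) : Subgroup G) : Set G)) := Fintype.ofFinite _
      obtain ⟨f, hf, _⟩ := existsUnique_isNormalSubpair (P ⊓ Subgroup.normalizer (Q : Set G)) Q hM
        hQN inf_le_right g hNg
      have hrel : Cfsg.NormalSubpairRel p M ⟨Q, f⟩ ⟨P ⊓ Subgroup.normalizer (Q : Set G), g⟩ := hf
      exact ⟨f, hf.1.2, Relation.ReflTransGen.head hrel hchain⟩

/-- below a Brauer pair there is at most one pair on every subgroup -/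
theorem subpairLE_unique (hM : Cfsg.IsPModular p M) [Fact p.Prime] :
    ∀ (n : ℕ) (P Q : Subgroup G)
      (e : Set (Cfsg.IrrCharacter (Subgroup.centralizer (P : Set G))))
      (f f' : Set (Cfsg.IrrCharacter (Subgroup.centralizer (Q : Set G)))),
      Nat.card P ≤ n → Cfsg.IsBrauerPair p M P e → Cfsg.IsPBlock M f → Cfsg.IsPBlock M f' →
      Cfsg.SubpairLE p M Q f P e → Cfsg.SubpairLE p M Q f' P e → f = f' := by
  classical
  intro n
  induction n with
  | zero =>
    intro P Q e f f' hn
    have : 0 < Nat.card P := Nat.card_pos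
    omega
  | succ n ih =>
    intro P Q e f f' hn hPe hf hf' hle hle'
    rcases chain_cases hM ⟨Q, f⟩ ⟨P, e⟩ hle with h1 | ⟨c, hc, hch, hstep⟩
    · rcases chain_cases hM ⟨Q, f'⟩ ⟨P, e⟩ hle' with h1' | ⟨c', hc', hch', hstep'⟩
      · have h2 : (⟨Q, f⟩ : Cfsg.BrauerPairIdx G) = ⟨Q, f'⟩ := h1.trans h1'.symm
        have h3 := (Sigma.mk.inj_iff.mp h2).2
        exact eq_of_heq h3
      · exfalso
        have hQP : Q = P := (Sigma.mk.inj_iff.mp h1).1
        have h4 : Q ≤ c'.1 := le_of_chain _ _ hch'
        have h5 : c'.1 < P := hc'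
        rw [← hQP] at h5
        exact absurd h4 (not_le_of_gt h5)
    · rcases chain_cases hM ⟨Q, f'⟩ ⟨P, e⟩ hle' with h1' | ⟨c', hc', hch', hstep'⟩
      · exfalso
        have hQP : Q = P := (Sigma.mk.inj_iff.mp h1').1
        have h4 : Q ≤ c.1 := le_of_chain _ _ hch
        have h5 : c.1 < P := hc
        rw [← hQP] at h5
        exact absurd h4 (not_le_of_gt h5)
      · obtain ⟨R, g⟩ := c
        obtain ⟨R', g'⟩ := c'
        have hRP : R < P := hc
        have hR'P : R' < P := hc'
        have hstep1 : Cfsg.IsNormalSubpair p M R g P e := hstep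
        have hstep1' : Cfsg.IsNormalSubpair p M R' g' P e := hstep'
        have hQR : Q ≤ R := le_of_chain _ _ hch
        have hQR' : Q ≤ R' := le_of_chain _ _ hch'
        have hQS : Q ≤ R ⊓ R' := le_inf hQR hQR'
        have hPNS : P ≤ Subgroup.normalizer ((R ⊓ R' : Subgroup G) : Set G) :=
          le_normalizer_inf hstep1.2.2.2.1 hstep1'.2.2.2.1
        have hRg : Cfsg.IsBrauerPair p M R g := hstep1.1
        have hR'g' : Cfsg.IsBrauerPair p M R' g' := hstep1'.1
        obtain ⟨h, hh, hSh⟩ := exists_subpairLE hM _ R (R ⊓ R') g le_rfl hRg inf_le_left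
        obtain ⟨h', hh', hSh'⟩ := exists_subpairLE hM _ R' (R ⊓ R') g' le_rfl hR'g' inf_le_right
        have hShP : Cfsg.SubpairLE p M (R ⊓ R') h P e := Relation.ReflTransGen.tail hSh hstep
        have hSh'P : Cfsg.SubpairLE p M (R ⊓ R') h' P e := Relation.ReflTransGen.tail hSh' hstep'
        have hSp : Cfsg.IsBrauerPair p M (R ⊓ R') h := ⟨hRg.1.to_le inf_le_left, hh⟩
        have hSp' : Cfsg.IsBrauerPair p M (R ⊓ R') h' := ⟨hRg.1.to_le inf_le_left, hh'⟩
        have n1 : Cfsg.IsNormalSubpair p M (R ⊓ R') h P e :=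
          isNormalSubpair_of_chain hM ⟨R ⊓ R', h⟩ ⟨P, e⟩ hShP hSp hPNS
        have n2 : Cfsg.IsNormalSubpair p M (R ⊓ R') h' P e :=
          isNormalSubpair_of_chain hM ⟨R ⊓ R', h'⟩ ⟨P, e⟩ hSh'P hSp' hPNS
        have : Fintype (Subgroup.centralizer (P : Set G)) := Fintype.ofFinite _
        have : Fintype (Subgroup.centralizer ((R ⊓ R' : Subgroup G) : Set G)) := Fintype.ofFinite _
        have hhh' : h = h' :=
          (existsUnique_isNormalSubpair P (R ⊓ R') hM (inf_le_left.trans hRP.le) hPNS e hPe).unique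
            n1 n2
        subst hhh'
        obtain ⟨f'', hf'', hQf''⟩ := exists_subpairLE hM _ (R ⊓ R') Q h le_rfl hSp hQS
        have c1 : Cfsg.SubpairLE p M Q f'' R g := Relation.ReflTransGen.trans hQf'' hSh
        have c2 : Cfsg.SubpairLE p M Q f'' R' g' := Relation.ReflTransGen.trans hQf'' hSh'
        have hcR := card_lt_of_lt hRP
        have hcR' := card_lt_of_lt hR'P
        have e1 : f = f'' := ih R Q g f f'' (by omega) hRg hf hf'' hch c1
        have e2 : f' = f'' := ih R' Q g' f' f'' (by omega) hR'g' hf' hf'' hch' c2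
        rw [e1, e2]

end existuniq

end Cfsg.Agent.Lib.Helper6
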