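import Mathlib
import Cfsg.Prelude.Def_Blocks
import Cfsg.Prelude.Def_BrauerPairs
import Cfsg.Agent.Lib.Helper6.BrPair5
import Cfsg.Agent.Lib.Helper6.BlkTrans

set_option autoImplicit false
set_option linter.unusedSectionVars false
open Cfsg

namespace Cfsg.Agent.Lib.Helper6

open scoped ComplexConjugate

section mapirr

variable {K K' K'' : Type*} [Group K] [Group K'] [Group K''] [Finite K] [Finite K'] [Finite K'']
variable {p : ℕ} {M : Ideal Cfsg.AlgInt}

/-- transport of irreducible characters along an isomorphism: `θ ↦ θ ∘ φ⁻¹` -/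
noncomputable def mapIrr (φ : K ≃* K') : Cfsg.IrrCharacter K ≃ Cfsg.IrrCharacter K' where
  toFun θ := ⟨fun k => (θ : K → ℂ) (φ.symm k), IsIrrCharacter.comp_mulEquiv φ.symm θ.2⟩
  invFun θ := ⟨fun k => (θ : K' → ℂ) (φ k), IsIrrCharacter.comp_mulEquiv φ θ.2⟩
  left_inv θ := by
    apply Subtype.ext
    funext k
    simp
  right_inv θ := by
    apply Subtype.ext
    funext k
    simp

theorem mapIrr_apply (φ : K ≃* K') (θ : Cfsg.IrrCharacter K) (k : K') :
    (mapIrr φ θ : K' → ℂ) k = (θ : K → ℂ) (φ.symm k) := rfl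

theorem mapIrr_apply_apply (φ : K ≃* K') (θ : Cfsg.IrrCharacter K) (k : K) :
    (mapIrr φ θ : K' → ℂ) (φ k) = (θ : K → ℂ) k := by
  rw [mapIrr_apply, MulEquiv.symm_apply_apply]

theorem mapIrr_symm_apply (φ : K ≃* K') (θ : Cfsg.IrrCharacter K') (k : K) :
    ((mapIrr φ).symm θ : K → ℂ) k = (θ : K' → ℂ) (φ k) := rfl

theorem mapIrr_apply_one (φ : K ≃* K') (θ : Cfsg.IrrCharacter K) :
    (mapIrr φ θ : K' → ℂ) 1 = (θ : K → ℂ) 1 := by
  rw [mapIrr_apply, map_one]

theorem mapIrr_trans (φ : K ≃* K') (ψ : K' ≃* K'') (θ : Cfsg.IrrCharacter K) :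
    mapIrr (φ.trans ψ) θ = mapIrr ψ (mapIrr φ θ) := by
  apply Subtype.ext
  funext k
  rfl

theorem mapIrr_refl (θ : Cfsg.IrrCharacter K) : mapIrr (MulEquiv.refl K) θ = θ := by
  apply Subtype.ext
  funext k
  rfl

theorem mapIrr_eq_autIrr (σ : MulAut K) (θ : Cfsg.IrrCharacter K) :
    mapIrr σ θ = autIrr σ θ := by
  apply Subtype.ext
  funext k
  rfl

theorem sameBlock_mapIrr_iff (φ : K ≃* K') (θ θ' : Cfsg.IrrCharacter K) :
    Cfsg.SameBlock M (mapIrr φ θ : K' → ℂ) (mapIrr φ θ' : K' → ℂ)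
      ↔ Cfsg.SameBlock M (θ : K → ℂ) (θ' : K → ℂ) :=
  sameBlock_comp_mulEquiv φ.symm

/-- the image of a block under an isomorphism is the block of the image -/
theorem mapIrr_image_blockOf (φ : K ≃* K') (θ : Cfsg.IrrCharacter K) :
    mapIrr φ '' Cfsg.blockOf M (θ : K → ℂ) = Cfsg.blockOf M (mapIrr φ θ : K' → ℂ) := by
  ext ψ
  constructor
  · rintro ⟨ψ', hψ', rfl⟩
    exact (sameBlock_mapIrr_iff φ θ ψ').mpr hψ'
  · intro hψ
    refine ⟨(mapIrr φ).symm ψ, ?_, (mapIrr φ).apply_symm_apply ψ⟩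
    have h1 : Cfsg.SameBlock M (mapIrr φ θ : K' → ℂ) (ψ : K' → ℂ) := hψ
    rw [← (mapIrr φ).apply_symm_apply ψ] at h1
    exact (sameBlock_mapIrr_iff φ θ _).mp h1

theorem isPBlock_mapIrr_image (φ : K ≃* K') {f : Set (Cfsg.IrrCharacter K)}
    (hf : Cfsg.IsPBlock M f) : Cfsg.IsPBlock M (mapIrr φ '' f) := by
  obtain ⟨θ, rfl⟩ := hf
  exact ⟨mapIrr φ θ, mapIrr_image_blockOf φ θ⟩

/-- the idempotent coefficients of the image of a set under an isomorphism -/
theorem blockCoeff_mapIrr_image (φ : K ≃* K') (A : Set (Cfsg.IrrCharacter K)) (k : K') :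
    Cfsg.blockCoeff (mapIrr φ '' A) k = Cfsg.blockCoeff A (φ.symm k) := by
  classical
  have : Fintype K := Fintype.ofFinite K
  have : Fintype K' := Fintype.ofFinite K'
  have : Fintype (Cfsg.IrrCharacter K) := Fintype.ofFinite _
  have : Fintype (Cfsg.IrrCharacter K') := Fintype.ofFinite _
  have e1 : ∀ (A' : Set (Cfsg.IrrCharacter K)) (m : K), Cfsg.blockCoeff A' m
      = (Nat.card K : ℂ)⁻¹ * ∑ ψ : Cfsg.IrrCharacter K,
          if ψ ∈ A' then (ψ : K → ℂ) 1 * conj ((ψ : K → ℂ) m) else 0 := by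
    intro A' m
    unfold Cfsg.blockCoeff
    congr 1
    rw [← Finset.sum_filter, ← finsum_mem_coe_finset]
    congr 1
    ext ψ
    simp
  have e2 : ∀ (A' : Set (Cfsg.IrrCharacter K')) (m : K'), Cfsg.blockCoeff A' m
      = (Nat.card K' : ℂ)⁻¹ * ∑ ψ : Cfsg.IrrCharacter K',
          if ψ ∈ A' then (ψ : K' → ℂ) 1 * conj ((ψ : K' → ℂ) m) else 0 := by
    intro A' m
    unfold Cfsg.blockCoeff
    congr 1
    rw [← Finset.sum_filter, ← finsum_mem_coe_finset]
    congr 1
    ext ψ
    simp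
  rw [e1, e2]
  have hc : Nat.card K' = Nat.card K := (Nat.card_congr φ.toEquiv).symm
  rw [hc]
  congr 1
  rw [← Equiv.sum_comp (mapIrr φ)]
  apply Finset.sum_congr rfl
  intro ψ _
  have hiff : mapIrr φ ψ ∈ mapIrr φ '' A ↔ ψ ∈ A := (mapIrr φ).injective.mem_set_image
  rw [if_congr hiff rfl rfl]
  split_ifs
  · rw [mapIrr_apply_one, mapIrr_apply]
  · rfl

end mapirr


section conjpair

variable {G : Type*} [Group G] [Fintype G] [DecidableEq G]
variable {p : ℕ} {M : Ideal Cfsg.AlgInt}

theorem mem_map_conj_iff (Q : Subgroup G) (x g : G) :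
    g ∈ Q.map (MulAut.conj x).toMonoidHom ↔ x⁻¹ * g * x ∈ Q := by
  rw [Subgroup.mem_map]
  constructor
  · rintro ⟨q, hq, rfl⟩
    have : x⁻¹ * ((MulAut.conj x).toMonoidHom q) * x = q := by
      simp [MulAut.conj_apply, mul_assoc]
    rw [this]
    exact hq
  · intro h
    refine ⟨x⁻¹ * g * x, h, ?_⟩
    simp [MulAut.conj_apply, mul_assoc]

theorem conj_mem_map_conj (Q : Subgroup G) (x : G) {g : G} (hg : g ∈ Q) :
    x * g * x⁻¹ ∈ Q.map (MulAut.conj x).toMonoidHom := by
  rw [mem_map_conj_iff]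
  have : x⁻¹ * (x * g * x⁻¹) * x = g := by group
  rw [this]
  exact hg

theorem mem_centralizer_map_conj_iff (Q : Subgroup G) (x g : G) :
    g ∈ Subgroup.centralizer ((Q.map (MulAut.conj x).toMonoidHom : Subgroup G) : Set G)
      ↔ x⁻¹ * g * x ∈ Subgroup.centralizer (Q : Set G) := by
  rw [Subgroup.mem_centralizer_iff, Subgroup.mem_centralizer_iff]
  constructor
  · intro h q hq
    have h1 := h (x * q * x⁻¹) (conj_mem_map_conj Q x hq)
    have h2 : q * (x⁻¹ * g * x) = x⁻¹ * ((x * q * x⁻¹) * g) * x := by group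
    have h3 : x⁻¹ * g * x * q = x⁻¹ * (g * (x * q * x⁻¹)) * x := by group
    rw [h2, h3, h1]
  · intro h q hq
    have hq' := (mem_map_conj_iff Q x q).mp hq
    have h1 := h _ hq'
    have h2 : q * g = x * ((x⁻¹ * q * x) * (x⁻¹ * g * x)) * x⁻¹ := by group
    have h3 : g * q = x * ((x⁻¹ * g * x) * (x⁻¹ * q * x)) * x⁻¹ := by group
    rw [h2, h3, h1]

theorem conj_mem_centralizer_map_conj (Q : Subgroup G) (x : G) {g : G}
    (hg : g ∈ Subgroup.centralizer (Q : Set G)) :
    x * g * x⁻¹ ∈ Subgroup.centralizer ((Q.map (MulAut.conj x).toMonoidHom : Subgroup G) : Set G) := by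
  rw [mem_centralizer_map_conj_iff]
  have : x⁻¹ * (x * g * x⁻¹) * x = g := by group
  rw [this]
  exact hg

/-- conjugation by `x` as an isomorphism `C_G(Q) ≃* C_G(x Q x⁻¹)` -/
noncomputable def conjCentEquiv (Q : Subgroup G) (x : G) :
    Subgroup.centralizer (Q : Set G) ≃*
      Subgroup.centralizer ((Q.map (MulAut.conj x).toMonoidHom : Subgroup G) : Set G) where
  toFun c := ⟨x * (c : G) * x⁻¹, conj_mem_centralizer_map_conj Q x c.2⟩
  invFun c := ⟨x⁻¹ * (c : G) * x, (mem_centralizer_map_conj_iff Q x c).mp c.2⟩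
  left_inv c := by
    apply Subtype.ext
    simp only
    group
  right_inv c := by
    apply Subtype.ext
    simp only
    group
  map_mul' c d := by
    apply Subtype.ext
    simp only [Subgroup.coe_mul]
    group

theorem conjCentEquiv_apply_coe (Q : Subgroup G) (x : G)
    (c : Subgroup.centralizer (Q : Set G)) :
    ((conjCentEquiv Q x c : _) : G) = x * (c : G) * x⁻¹ := rfl

theorem conjCentEquiv_symm_apply_coe (Q : Subgroup G) (x : G)
    (c : Subgroup.centralizer ((Q.map (MulAut.conj x).toMonoidHom : Subgroup G) : Set G)) :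
    (((conjCentEquiv Q x).symm c : _) : G) = x⁻¹ * (c : G) * x := rfl

/-- the conjugate block is the image under the transport of characters -/
theorem conjBlock_eq (Q : Subgroup G) (x : G)
    (f : Set (Cfsg.IrrCharacter (Subgroup.centralizer (Q : Set G)))) :
    Cfsg.conjBlock Q x f = mapIrr (conjCentEquiv Q x) '' f := by
  ext ξ'
  constructor
  · rintro ⟨ξ, hξ, h⟩
    refine ⟨ξ, hξ, ?_⟩
    apply Subtype.ext
    funext c'
    rw [mapIrr_apply]
    symm
    apply h
    rw [conjCentEquiv_symm_apply_coe]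
    group
  · rintro ⟨ξ, hξ, rfl⟩
    refine ⟨ξ, hξ, ?_⟩
    intro c c' hc
    rw [mapIrr_apply]
    apply congrArg
    apply Subtype.ext
    rw [conjCentEquiv_symm_apply_coe, hc]
    group

theorem isPBlock_conjBlock (Q : Subgroup G) (x : G)
    {f : Set (Cfsg.IrrCharacter (Subgroup.centralizer (Q : Set G)))}
    (hf : Cfsg.IsPBlock M f) : Cfsg.IsPBlock M (Cfsg.conjBlock Q x f) := by
  rw [conjBlock_eq]
  exact isPBlock_mapIrr_image _ hf

theorem isPGroup_map_conj (Q : Subgroup G) (x : G) (hQ : IsPGroup p Q) :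
    IsPGroup p (Q.map (MulAut.conj x).toMonoidHom) := hQ.map _

theorem isBrauerPair_conj (Q : Subgroup G) (x : G)
    {f : Set (Cfsg.IrrCharacter (Subgroup.centralizer (Q : Set G)))}
    (h : Cfsg.IsBrauerPair p M Q f) :
    Cfsg.IsBrauerPair p M (Q.map (MulAut.conj x).toMonoidHom) (Cfsg.conjBlock Q x f) :=
  ⟨isPGroup_map_conj Q x h.1, isPBlock_conjBlock Q x h.2⟩

theorem subgroupBlockCoeff_conjBlock (Q : Subgroup G) (x : G)
    (f : Set (Cfsg.IrrCharacter (Subgroup.centralizer (Q : Set G)))) (g : G) :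
    Cfsg.subgroupBlockCoeff
        (Subgroup.centralizer ((Q.map (MulAut.conj x).toMonoidHom : Subgroup G) : Set G))
        (Cfsg.conjBlock Q x f) g
      = Cfsg.subgroupBlockCoeff (Subgroup.centralizer (Q : Set G)) f (x⁻¹ * g * x) := by
  by_cases hg : g ∈ Subgroup.centralizer ((Q.map (MulAut.conj x).toMonoidHom : Subgroup G) : Set G)
  · have hg' := (mem_centralizer_map_conj_iff Q x g).mp hg
    rw [subgroupBlockCoeff_of_mem _ _ hg, subgroupBlockCoeff_of_mem _ _ hg', conjBlock_eq,
      blockCoeff_mapIrr_image]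
    rfl
  · have hg' : x⁻¹ * g * x ∉ Subgroup.centralizer (Q : Set G) := by
      rwa [← mem_centralizer_map_conj_iff]
    rw [subgroupBlockCoeff_of_not_mem _ _ hg, subgroupBlockCoeff_of_not_mem _ _ hg']

theorem subgroupBlockCoeff_conjBlock' (Q : Subgroup G) (x : G)
    (f : Set (Cfsg.IrrCharacter (Subgroup.centralizer (Q : Set G)))) (g : G) :
    Cfsg.subgroupBlockCoeff
        (Subgroup.centralizer ((Q.map (MulAut.conj x).toMonoidHom : Subgroup G) : Set G))
        (Cfsg.conjBlock Q x f) (x * g * x⁻¹)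
      = Cfsg.subgroupBlockCoeff (Subgroup.centralizer (Q : Set G)) f g := by
  rw [subgroupBlockCoeff_conjBlock]
  congr 1
  group

/-- the Brauer central character values are invariant under conjugation -/
theorem brauerOmega_conj (P : Subgroup G) (x : G) (β β' : G → ℂ)
    (h : ∀ g : G, β' (x * g * x⁻¹) = β g)
    (ξ : Cfsg.IrrCharacter (Subgroup.centralizer (P : Set G))) :
    Cfsg.brauerOmega (P.map (MulAut.conj x).toMonoidHom) β'
        (mapIrr (conjCentEquiv P x) ξ : _ → ℂ)
      = Cfsg.brauerOmega P β (ξ : _ → ℂ) := by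
  unfold Cfsg.brauerOmega
  rw [← finsum_comp_equiv (conjCentEquiv P x).toEquiv]
  apply finsum_congr
  intro c
  have h1 : ((conjCentEquiv P x).toEquiv c) = conjCentEquiv P x c := rfl
  rw [h1, mapIrr_apply_apply, mapIrr_apply_one, conjCentEquiv_apply_coe, h]


theorem mem_normalizer_map_conj (Q : Subgroup G) (x : G) {u : G}
    (hu : u ∈ Subgroup.normalizer (Q : Set G)) :
    x * u * x⁻¹ ∈ Subgroup.normalizer ((Q.map (MulAut.conj x).toMonoidHom : Subgroup G) : Set G) := by
  rw [Subgroup.mem_normalizer_iff]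
  intro g
  rw [mem_map_conj_iff, mem_map_conj_iff]
  have h1 := Subgroup.mem_normalizer_iff.mp hu (x⁻¹ * g * x)
  rw [h1]
  have : x⁻¹ * (x * u * x⁻¹ * g * (x * u * x⁻¹)⁻¹) * x = u * (x⁻¹ * g * x) * u⁻¹ := by group
  rw [this]

theorem mem_normalizer_centralizer_map_conj (Q : Subgroup G) (x : G) {u : G}
    (hu : u ∈ Subgroup.normalizer ((Subgroup.centralizer (Q : Set G) : Subgroup G) : Set G)) :
    x * u * x⁻¹ ∈ Subgroup.normalizer
      ((Subgroup.centralizer ((Q.map (MulAut.conj x).toMonoidHom : Subgroup G) : Set G)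
        : Subgroup G) : Set G) := by
  rw [Subgroup.mem_normalizer_iff]
  intro g
  rw [mem_centralizer_map_conj_iff, mem_centralizer_map_conj_iff]
  have h1 := Subgroup.mem_normalizer_iff.mp hu (x⁻¹ * g * x)
  rw [h1]
  have : x⁻¹ * (x * u * x⁻¹ * g * (x * u * x⁻¹)⁻¹) * x = u * (x⁻¹ * g * x) * u⁻¹ := by group
  rw [this]

/-- stabilizers are conjugated along -/
theorem stabilizesBlock_conj (Q : Subgroup G) (x : G)
    (f : Set (Cfsg.IrrCharacter (Subgroup.centralizer (Q : Set G)))) {u : G}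
    (hu : Cfsg.StabilizesBlock (Subgroup.centralizer (Q : Set G)) f u) :
    Cfsg.StabilizesBlock
      (Subgroup.centralizer ((Q.map (MulAut.conj x).toMonoidHom : Subgroup G) : Set G))
      (Cfsg.conjBlock Q x f) (x * u * x⁻¹) := by
  obtain ⟨huN, hst⟩ := hu
  refine ⟨mem_normalizer_centralizer_map_conj Q x huN, ?_⟩
  rw [conjBlock_eq]
  rintro _ ⟨χ, hχ, rfl⟩
  obtain ⟨χ', hχ', hc⟩ := hst χ hχ
  refine ⟨mapIrr (conjCentEquiv Q x) χ', ⟨χ', hχ', rfl⟩, ?_⟩
  intro k k' hk
  rw [mapIrr_apply, mapIrr_apply]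
  apply hc
  rw [conjCentEquiv_symm_apply_coe, conjCentEquiv_symm_apply_coe, hk]
  group

theorem stabilizesBlock_conj_iff (Q : Subgroup G) (x : G)
    (f : Set (Cfsg.IrrCharacter (Subgroup.centralizer (Q : Set G)))) (y : G) :
    Cfsg.StabilizesBlock
      (Subgroup.centralizer ((Q.map (MulAut.conj x).toMonoidHom : Subgroup G) : Set G))
      (Cfsg.conjBlock Q x f) y
      ↔ Cfsg.StabilizesBlock (Subgroup.centralizer (Q : Set G)) f (x⁻¹ * y * x) := by
  constructor
  · rintro ⟨hyN, hst⟩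
    constructor
    · rw [Subgroup.mem_normalizer_iff]
      intro g
      have h1 := Subgroup.mem_normalizer_iff.mp hyN (x * g * x⁻¹)
      rw [mem_centralizer_map_conj_iff, mem_centralizer_map_conj_iff] at h1
      have e1 : x⁻¹ * (x * g * x⁻¹) * x = g := by group
      have e2 : x⁻¹ * (y * (x * g * x⁻¹) * y⁻¹) * x = x⁻¹ * y * x * g * (x⁻¹ * y * x)⁻¹ := by group
      rw [e1, e2] at h1
      exact h1
    · intro χ hχ
      rw [conjBlock_eq] at hst
      obtain ⟨_, ⟨χ', hχ', rfl⟩, hc⟩ := hst (mapIrr (conjCentEquiv Q x) χ) ⟨χ, hχ, rfl⟩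
      refine ⟨χ', hχ', ?_⟩
      intro k k' hk
      have := hc (conjCentEquiv Q x k) (conjCentEquiv Q x k') (by
        rw [conjCentEquiv_apply_coe, conjCentEquiv_apply_coe, hk]
        group)
      rw [mapIrr_apply_apply, mapIrr_apply_apply] at this
      exact this
  · intro h
    have := stabilizesBlock_conj Q x f h
    have e : x * (x⁻¹ * y * x) * x⁻¹ = y := by group
    rwa [e] at this

/-- normal inclusion of Brauer pairs is invariant under conjugation -/
theorem isNormalSubpair_conj (P Q : Subgroup G) (x : G)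
    (e : Set (Cfsg.IrrCharacter (Subgroup.centralizer (P : Set G))))
    (f : Set (Cfsg.IrrCharacter (Subgroup.centralizer (Q : Set G))))
    (h : Cfsg.IsNormalSubpair p M Q f P e) :
    Cfsg.IsNormalSubpair p M (Q.map (MulAut.conj x).toMonoidHom) (Cfsg.conjBlock Q x f)
      (P.map (MulAut.conj x).toMonoidHom) (Cfsg.conjBlock P x e) := by
  obtain ⟨hQf, hPe, hQP, hPN, hst, hom⟩ := h
  refine ⟨isBrauerPair_conj Q x hQf, isBrauerPair_conj P x hPe, Subgroup.map_mono hQP, ?_, ?_, ?_⟩
  · intro y hy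
    have hy' := (mem_map_conj_iff P x y).mp hy
    have := mem_normalizer_map_conj Q x (hPN hy')
    have e1 : x * (x⁻¹ * y * x) * x⁻¹ = y := by group
    rwa [e1] at this
  · intro y hy
    have hy' := (mem_map_conj_iff P x y).mp hy
    rw [stabilizesBlock_conj_iff]
    exact hst _ hy'
  · intro ξ' hξ'
    rw [conjBlock_eq] at hξ'
    obtain ⟨ξ, hξ, rfl⟩ := hξ'
    rw [brauerOmega_conj P x (Cfsg.subgroupBlockCoeff (Subgroup.centralizer (Q : Set G)) f) _
      (fun g => subgroupBlockCoeff_conjBlock' Q x f g) ξ]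
    exact hom ξ hξ

/-- Brauer pairs of a block are invariant under conjugation -/
theorem isBrauerPairOf_conj (B : Set (Cfsg.IrrCharacter G)) (Q : Subgroup G) (x : G)
    (f : Set (Cfsg.IrrCharacter (Subgroup.centralizer (Q : Set G))))
    (h : Cfsg.IsBrauerPairOf p M B Q f) :
    Cfsg.IsBrauerPairOf p M B (Q.map (MulAut.conj x).toMonoidHom) (Cfsg.conjBlock Q x f) := by
  obtain ⟨hQf, hB, hom⟩ := h
  refine ⟨isBrauerPair_conj Q x hQf, hB, ?_⟩
  intro ξ' hξ'
  rw [conjBlock_eq] at hξ'
  obtain ⟨ξ, hξ, rfl⟩ := hξ'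
  rw [brauerOmega_conj Q x (Cfsg.blockCoeff B) _ ?_ ξ]
  · exact hom ξ hξ
  · intro g
    apply blockCoeff_eq_of_isConj
    rw [isConj_iff]
    exact ⟨x, rfl⟩

/-- the conjugate of an indexed pair -/
noncomputable def conjPair (x : G) (a : Cfsg.BrauerPairIdx G) : Cfsg.BrauerPairIdx G :=
  ⟨a.1.map (MulAut.conj x).toMonoidHom, Cfsg.conjBlock a.1 x a.2⟩

theorem chain_conj (x : G) (a b : Cfsg.BrauerPairIdx G)
    (h : Relation.ReflTransGen (Cfsg.NormalSubpairRel p M) a b) :
    Relation.ReflTransGen (Cfsg.NormalSubpairRel p M) (conjPair x a) (conjPair x b) := by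
  induction h with
  | refl => exact Relation.ReflTransGen.refl
  | @tail b c _ hbc ih =>
    exact Relation.ReflTransGen.tail ih (isNormalSubpair_conj c.1 b.1 x c.2 b.2 hbc)


/-- the members of the block of an indexed pair, extended by zero to the whole group -/
noncomputable def pairSet (a : Cfsg.BrauerPairIdx G) : Set (G → ℂ) :=
  (fun ξ : Cfsg.IrrCharacter (Subgroup.centralizer (a.1 : Set G)) =>
    Cfsg.extendByZero (Subgroup.centralizer (a.1 : Set G)) (ξ : _ → ℂ)) '' a.2

theorem extendByZero_irr_injective (K : Subgroup G) :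
    Function.Injective (fun ξ : Cfsg.IrrCharacter K => Cfsg.extendByZero K (ξ : K → ℂ)) := by
  intro ξ ξ' h
  apply Subtype.ext
  funext k
  have := congrFun h (k : G)
  simp only at this
  rwa [extendByZero_coe, extendByZero_coe] at this

/-- two indexed pairs are equal when their groups agree and their blocks have the same members -/
theorem pair_ext (a b : Cfsg.BrauerPairIdx G) (h1 : a.1 = b.1) (h2 : pairSet a = pairSet b) :
    a = b := by
  obtain ⟨Q, f⟩ := a
  obtain ⟨Q', f'⟩ := b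
  simp only at h1
  subst h1
  have : f = f' := (extendByZero_irr_injective _).image_injective h2
  rw [this]

/-- conjugation of functions on the group -/
def cfun (x : G) (F : G → ℂ) : G → ℂ := fun g => F (x⁻¹ * g * x)

theorem cfun_mul (x y : G) (F : G → ℂ) : cfun (x * y) F = cfun x (cfun y F) := by
  funext g
  unfold cfun
  apply congrArg
  group

theorem pairSet_conjPair (x : G) (a : Cfsg.BrauerPairIdx G) :
    pairSet (conjPair x a) = cfun x '' pairSet a := by
  obtain ⟨Q, f⟩ := a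
  unfold pairSet conjPair
  simp only
  rw [conjBlock_eq, Set.image_image, Set.image_image]
  apply Set.image_congr
  intro ξ _
  funext g
  unfold cfun
  by_cases hg : g ∈ Subgroup.centralizer ((Q.map (MulAut.conj x).toMonoidHom : Subgroup G) : Set G)
  · have hg' := (mem_centralizer_map_conj_iff Q x g).mp hg
    rw [extendByZero_of_mem _ _ hg, extendByZero_of_mem _ _ hg', mapIrr_apply]
    rfl
  · have hg' : x⁻¹ * g * x ∉ Subgroup.centralizer (Q : Set G) := by
      rwa [← mem_centralizer_map_conj_iff]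
    rw [extendByZero_of_not_mem _ _ hg, extendByZero_of_not_mem _ _ hg']

theorem conjPair_mul (x y : G) (a : Cfsg.BrauerPairIdx G) :
    conjPair (x * y) a = conjPair x (conjPair y a) := by
  apply pair_ext
  · change a.1.map _ = (a.1.map _).map _
    rw [Subgroup.map_map]
    congr 1
    ext g
    simp [MulAut.conj_apply, mul_assoc]
  · rw [pairSet_conjPair, pairSet_conjPair, pairSet_conjPair, Set.image_image]
    apply Set.image_congr
    intro F _
    exact cfun_mul x y F

/-- conjugating a pair by an element of the normalizer of its group -/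
theorem conjPair_of_mem_normalizer (P : Subgroup G) {n : G}
    (hn : n ∈ Subgroup.normalizer (P : Set G))
    (e : Set (Cfsg.IrrCharacter (Subgroup.centralizer (P : Set G)))) :
    conjPair n ⟨P, e⟩ = ⟨P, autIrr (nAut (Subgroup.centralizer (P : Set G)) n
      (normalizer_le_normalizer_centralizer P hn)) '' e⟩ := by
  apply pair_ext
  · exact map_conj_eq_of_mem_normalizer hn
  · rw [pairSet_conjPair]
    unfold pairSet
    simp only
    rw [Set.image_image, Set.image_image]
    apply Set.image_congr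
    intro ξ _
    funext g
    unfold cfun
    have hnC := normalizer_le_normalizer_centralizer P hn
    have hiff : n⁻¹ * g * n ∈ Subgroup.centralizer (P : Set G)
        ↔ g ∈ Subgroup.centralizer (P : Set G) := by
      have hn' : n⁻¹ ∈ Subgroup.normalizer
          ((Subgroup.centralizer (P : Set G) : Subgroup G) : Set G) := Subgroup.inv_mem _ hnC
      have := Subgroup.mem_normalizer_iff.mp hn' g
      rw [this, inv_inv]
    by_cases hg : g ∈ Subgroup.centralizer (P : Set G)
    · have hg' := hiff.mpr hg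
      rw [extendByZero_of_mem _ _ hg, extendByZero_of_mem _ _ hg', autIrr_apply]
      apply congrArg
      apply Subtype.ext
      rw [nAut_inv_apply_coe]
    · have hg' : n⁻¹ * g * n ∉ Subgroup.centralizer (P : Set G) := by rwa [hiff]
      rw [extendByZero_of_not_mem _ _ hg, extendByZero_of_not_mem _ _ hg']

end conjpair

end Cfsg.Agent.Lib.Helper6
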