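import Mathlib
import Cfsg.Prelude.Def_Blocks
import Cfsg.Agent.Lib.Helper6.BlkHeightTilde
import Cfsg.Agent.Lib.Helper6.AvgIntegral
import Cfsg.Agent.Lib.Helper6.DegreeDvd

set_option autoImplicit false
set_option linter.unusedSectionVars false
open Cfsg

namespace Cfsg.Agent.Lib.Helper6

open scoped ComplexConjugate

section contrib

variable {G : Type*} [Group G] [Fintype G] [DecidableEq G]
variable {p : ℕ} {M : Ideal Cfsg.AlgInt}

/-- the integer `p ^ a [χ°, β]` -/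
noncomputable def cInt (p : ℕ) (χ β : G → ℂ) : ℤ := ⌊(Cfsg.classInner (tildeFun p χ) β).re⌋

theorem cInt_spec (hM : Cfsg.IsPModular p M) [Fact p.Prime] (χ β : Cfsg.IrrCharacter G) :
    Cfsg.classInner (tildeFun p (χ : G → ℂ)) (β : G → ℂ) = (cInt p (χ : G → ℂ) (β : G → ℂ) : ℂ) := by
  classical
  have : Fintype (Cfsg.IrrCharacter G) := Fintype.ofFinite _
  obtain ⟨c, _, hci, _⟩ := tildeFun_int_coeff hM χ
  unfold cInt
  rw [hci β]
  simp

theorem cInt_symm (hM : Cfsg.IsPModular p M) [Fact p.Prime] (χ β : Cfsg.IrrCharacter G) :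
    cInt p (χ : G → ℂ) (β : G → ℂ) = cInt p (β : G → ℂ) (χ : G → ℂ) := by
  have h1 := classInner_tildeFun_symm (p := p) (χ : G → ℂ) (β : G → ℂ)
  rw [cInt_spec hM β χ, cInt_spec hM χ β, map_intCast] at h1
  exact_mod_cast h1.symm

theorem cInt_eq_zero_of_not_mem (hM : Cfsg.IsPModular p M) [Fact p.Prime]
    (χ β : Cfsg.IrrCharacter G) (hβ : β ∉ Cfsg.blockOf M (χ : G → ℂ)) :
    cInt p (χ : G → ℂ) (β : G → ℂ) = 0 := by
  classical
  have : Fintype (Cfsg.IrrCharacter G) := Fintype.ofFinite _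
  obtain ⟨c, _, hci, hc0⟩ := tildeFun_int_coeff hM χ
  have h1 := cInt_spec hM χ β
  rw [hci β, hc0 β hβ] at h1
  exact_mod_cast h1.symm

/-- `Σ_β c_β² = p^a c_χ` -/
theorem sum_cInt_sq (hM : Cfsg.IsPModular p M) [Fact p.Prime] [Fintype (Cfsg.IrrCharacter G)]
    (χ : Cfsg.IrrCharacter G) :
    ∑ β : Cfsg.IrrCharacter G, cInt p (χ : G → ℂ) (β : G → ℂ) ^ 2
      = (p : ℤ) ^ (Nat.card G).factorization p * cInt p (χ : G → ℂ) (χ : G → ℂ) := by
  classical
  obtain ⟨c, hc, hci, _⟩ := tildeFun_int_coeff hM χ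
  have hcc : ∀ β, c β = cInt p (χ : G → ℂ) (β : G → ℂ) := by
    intro β
    have := cInt_spec hM χ β
    rw [hci β] at this
    exact_mod_cast this
  have h1 : Cfsg.classInner (tildeFun p (χ : G → ℂ)) (tildeFun p (χ : G → ℂ))
      = ∑ β : Cfsg.IrrCharacter G, ((cInt p (χ : G → ℂ) (β : G → ℂ) ^ 2 : ℤ) : ℂ) := by
    conv_lhs => arg 2; rw [hc]
    rw [classInner_sum_right]
    apply Finset.sum_congr rfl
    intro β _
    rw [classInner_smul_right, cInt_spec hM χ β, map_intCast, hcc β]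
    push_cast
    ring
  have h2 : Cfsg.classInner (tildeFun p (χ : G → ℂ)) (tildeFun p (χ : G → ℂ))
      = ((p ^ (Nat.card G).factorization p : ℕ) : ℂ)
        * Cfsg.classInner (tildeFun p (χ : G → ℂ)) (χ : G → ℂ) := by
    unfold Cfsg.classInner
    rw [← mul_assoc, mul_comm ((p ^ (Nat.card G).factorization p : ℕ) : ℂ), mul_assoc]
    congr 1
    rw [Finset.mul_sum]
    apply Finset.sum_congr rfl
    intro x _
    rw [tildeFun_eq]
    beta_reduce
    split_ifs with hx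
    · simp
    · rw [map_mul, Complex.conj_natCast]
      ring
  rw [h1, cInt_spec hM χ χ] at h2
  have h3 : ((∑ β : Cfsg.IrrCharacter G, cInt p (χ : G → ℂ) (β : G → ℂ) ^ 2 : ℤ) : ℂ)
      = (((p : ℤ) ^ (Nat.card G).factorization p * cInt p (χ : G → ℂ) (χ : G → ℂ) : ℤ) : ℂ) := by
    push_cast
    push_cast at h2
    exact h2
  exact_mod_cast h3

/-- `c_χ` is positive, at most `p ^ a`, with equality only for characters vanishing on the
`p`-singular elements -/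
theorem cInt_self (hM : Cfsg.IsPModular p M) [Fact p.Prime] (χ : Cfsg.IrrCharacter G) :
    0 < cInt p (χ : G → ℂ) (χ : G → ℂ) ∧
    cInt p (χ : G → ℂ) (χ : G → ℂ) ≤ (p : ℤ) ^ (Nat.card G).factorization p ∧
    (cInt p (χ : G → ℂ) (χ : G → ℂ) = (p : ℤ) ^ (Nat.card G).factorization p →
      ∀ y : G, p ∣ orderOf y → (χ : G → ℂ) y = 0) := by
  classical
  have hp : p.Prime := hM.1
  obtain ⟨a, ha⟩ : ∃ a, a = (Nat.card G).factorization p := ⟨_, rfl⟩
  rw [← ha]
  have hG : (Nat.card G : ℂ) ≠ 0 := card_ne_zero_complex G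
  have hGr : (0 : ℝ) < (Nat.card G : ℝ) := by exact_mod_cast Nat.card_pos
  have hpa : (0 : ℝ) < (p : ℝ) ^ a := by exact_mod_cast pow_pos hp.pos a
  obtain ⟨R, hR⟩ : ∃ R : ℝ, R = ∑ x ∈ Finset.univ.filter (fun x : G => ¬ p ∣ orderOf x),
        Complex.normSq ((χ : G → ℂ) x) := ⟨_, rfl⟩
  obtain ⟨T, hT⟩ : ∃ T : ℝ, T = ∑ x ∈ Finset.univ.filter (fun x : G => ¬ ¬ p ∣ orderOf x),
        Complex.normSq ((χ : G → ℂ) x) := ⟨_, rfl⟩
  have hcval : (cInt p (χ : G → ℂ) (χ : G → ℂ) : ℂ) = ((p ^ a : ℕ) : ℂ) * ((R : ℂ)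
      / (Nat.card G : ℂ)) := by
    rw [← cInt_spec hM χ χ, hR]
    unfold Cfsg.classInner
    rw [tildeFun_eq, ← ha, Finset.sum_filter]
    have e : ((p ^ a : ℕ) : ℂ) * (((∑ x : G, (if ¬ p ∣ orderOf x then
          Complex.normSq ((χ : G → ℂ) x) else 0) : ℝ) : ℂ) / (Nat.card G : ℂ))
        = (Nat.card G : ℂ)⁻¹ * ∑ x : G, ((p ^ a : ℕ) : ℂ) * (((if ¬ p ∣ orderOf x then
          Complex.normSq ((χ : G → ℂ) x) else 0 : ℝ)) : ℂ) := by
      rw [← Finset.mul_sum]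
      push_cast
      field_simp
    rw [e]
    congr 1
    apply Finset.sum_congr rfl
    intro x _
    beta_reduce
    by_cases hx : p ∣ orderOf x
    · rw [if_pos hx, if_neg (not_not.mpr hx)]
      simp
    · rw [if_neg hx, if_pos hx, mul_assoc, Complex.mul_conj]
  have hsum : R + T = (Nat.card G : ℝ) := by
    rw [hR, hT, Finset.sum_filter_add_sum_filter_not]
    have h9 := classInner_irrCharacter χ χ
    rw [if_pos rfl] at h9
    unfold Cfsg.classInner at h9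
    simp_rw [Complex.mul_conj] at h9
    have h10 : ((∑ x : G, Complex.normSq ((χ : G → ℂ) x) : ℝ) : ℂ) = (Nat.card G : ℂ) := by
      push_cast
      rw [← mul_one (Nat.card G : ℂ), ← h9, ← mul_assoc, mul_inv_cancel₀ hG, one_mul]
    exact_mod_cast h10
  have hT0 : 0 ≤ T := by
    rw [hT]; exact Finset.sum_nonneg (fun x _ => Complex.normSq_nonneg _)
  have hRpos : 0 < R := by
    rw [hR]
    apply Finset.sum_pos'
    · intro x _; exact Complex.normSq_nonneg _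
    · refine ⟨1, ?_, ?_⟩
      · simp only [Finset.mem_filter, Finset.mem_univ, true_and, orderOf_one]
        exact hp.not_dvd_one
      · rw [Complex.normSq_pos]
        exact IsIrrCharacter.apply_one_ne_zero χ.2
  have hcR : (cInt p (χ : G → ℂ) (χ : G → ℂ) : ℝ) = (p : ℝ) ^ a * (R / (Nat.card G : ℝ)) := by
    have : (cInt p (χ : G → ℂ) (χ : G → ℂ) : ℂ)
        = (((p : ℝ) ^ a * (R / (Nat.card G : ℝ)) : ℝ) : ℂ) := by
      rw [hcval]; push_cast; rfl
    exact_mod_cast this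
  refine ⟨?_, ?_, ?_⟩
  · have : (0 : ℝ) < (cInt p (χ : G → ℂ) (χ : G → ℂ) : ℝ) := by
      rw [hcR]; positivity
    exact_mod_cast this
  · have : (cInt p (χ : G → ℂ) (χ : G → ℂ) : ℝ) ≤ (p : ℝ) ^ a := by
      rw [hcR]
      have h1 : R / (Nat.card G : ℝ) ≤ 1 := by
        rw [div_le_one hGr]; linarith
      calc (p : ℝ) ^ a * (R / (Nat.card G : ℝ)) ≤ (p : ℝ) ^ a * 1 :=
            mul_le_mul_of_nonneg_left h1 hpa.le
        _ = (p : ℝ) ^ a := mul_one _
    exact_mod_cast this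
  · intro heq y hy
    have h1 : (cInt p (χ : G → ℂ) (χ : G → ℂ) : ℝ) = (p : ℝ) ^ a := by
      rw [heq]; push_cast; rfl
    rw [hcR] at h1
    have h2 : R / (Nat.card G : ℝ) = 1 := by
      have := mul_left_cancel₀ hpa.ne' (h1.trans (mul_one _).symm)
      exact this
    have h3 : R = (Nat.card G : ℝ) := by
      rw [div_eq_iff hGr.ne'] at h2
      simpa using h2
    have hT00 : T = 0 := by linarith
    rw [hT] at hT00
    have h14 := (Finset.sum_eq_zero_iff_of_nonneg (fun x _ => Complex.normSq_nonneg _)).mp hT00 y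
      (by simp only [Finset.mem_filter, Finset.mem_univ, true_and, not_not]; exact hy)
    exact Complex.normSq_eq_zero.mp h14

theorem pow_dvd_cInt (hM : Cfsg.IsPModular p M) [Fact p.Prime] (χ β : Cfsg.IrrCharacter G) :
    (p : ℤ) ^ (Cfsg.charDegree (β : G → ℂ)).factorization p ∣ cInt p (χ : G → ℂ) (β : G → ℂ) := by
  have hχcf := IsIrrCharacter.isClassFunction χ.2
  have hχS : ∀ g, Cfsg.MemLocalRing M ((χ : G → ℂ) g) := fun g =>
    memLocalRing_of_isIntegral hM (IsCharacter.isIntegral_apply (IsIrrCharacter.isCharacter χ.2) g)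
  have h2 := classInner_tildeFun_div_memLocalRing hM hχcf hχS β
  rw [cInt_spec hM χ β, IsCharacter.apply_one_eq_charDegree (IsIrrCharacter.isCharacter β.2)] at h2
  exact pow_factorization_dvd_of_memLocalRing_div hM _ _ (charDegree_ne_zero β) h2

theorem cInt_div_sub (hM : Cfsg.IsPModular p M) [Fact p.Prime] (χ β β' : Cfsg.IrrCharacter G)
    (h : Cfsg.SameBlock M (β : G → ℂ) (β' : G → ℂ)) :
    Cfsg.MemLocalIdeal M ((cInt p (χ : G → ℂ) (β : G → ℂ) : ℂ) / (Cfsg.charDegree (β : G → ℂ) : ℂ)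
      - (cInt p (χ : G → ℂ) (β' : G → ℂ) : ℂ) / (Cfsg.charDegree (β' : G → ℂ) : ℂ)) := by
  have hχcf := IsIrrCharacter.isClassFunction χ.2
  have hχS : ∀ g, Cfsg.MemLocalRing M ((χ : G → ℂ) g) := fun g =>
    memLocalRing_of_isIntegral hM (IsCharacter.isIntegral_apply (IsIrrCharacter.isCharacter χ.2) g)
  have h1 := classInner_tildeFun_div_sub hM hχcf hχS β β' h
  rw [cInt_spec hM χ β, cInt_spec hM χ β',
    IsCharacter.apply_one_eq_charDegree (IsIrrCharacter.isCharacter β.2),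
    IsCharacter.apply_one_eq_charDegree (IsIrrCharacter.isCharacter β'.2)] at h1
  exact h1

/-- for `χ` of height zero, `c_β` has exactly the valuation of `β(1)` -/
theorem not_pow_succ_dvd_cInt (hM : Cfsg.IsPModular p M) [Fact p.Prime]
    (χ₀ χ β : Cfsg.IrrCharacter G) (hχ : χ ∈ Cfsg.blockOf M (χ₀ : G → ℂ))
    (hβ : β ∈ Cfsg.blockOf M (χ₀ : G → ℂ))
    (hh : Cfsg.blockHeight p (Cfsg.blockOf M (χ₀ : G → ℂ)) (χ : G → ℂ) = 0) :
    ¬ (p : ℤ) ^ ((Cfsg.charDegree (β : G → ℂ)).factorization p + 1)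
      ∣ cInt p (χ : G → ℂ) (β : G → ℂ) := by
  intro hd
  have h1 := (blockHeight_eq_zero_iff_tilde hM χ₀ χ hχ).mp hh
  rw [cInt_spec hM χ χ, IsCharacter.apply_one_eq_charDegree (IsIrrCharacter.isCharacter χ.2)] at h1
  apply h1
  have h2 := memLocalIdeal_div_of_pow_succ_dvd hM _ _ (charDegree_ne_zero β) hd
  have hsb : Cfsg.SameBlock M (χ : G → ℂ) (β : G → ℂ) := by
    rw [blockOf_eq_of_mem hM hχ] at hβ
    exact hβ
  have h3 := cInt_div_sub hM χ χ β hsb
  have h4 := MemLocalIdeal.add hM h3 h2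
  rw [sub_add_cancel] at h4
  exact h4

/-- for `χ` of positive height, `c_β` is divisible by `p` times the `p`-part of `β(1)` -/
theorem pow_succ_dvd_cInt (hM : Cfsg.IsPModular p M) [Fact p.Prime]
    (χ₀ χ β : Cfsg.IrrCharacter G) (hχ : χ ∈ Cfsg.blockOf M (χ₀ : G → ℂ))
    (hβ : β ∈ Cfsg.blockOf M (χ₀ : G → ℂ))
    (hh : Cfsg.blockHeight p (Cfsg.blockOf M (χ₀ : G → ℂ)) (χ : G → ℂ) ≠ 0) :
    (p : ℤ) ^ ((Cfsg.charDegree (β : G → ℂ)).factorization p + 1)
      ∣ cInt p (χ : G → ℂ) (β : G → ℂ) := by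
  have h1 : Cfsg.MemLocalIdeal M (Cfsg.classInner (tildeFun p (χ : G → ℂ)) (χ : G → ℂ)
        / (χ : G → ℂ) 1) := by
    by_contra hcon
    exact hh ((blockHeight_eq_zero_iff_tilde hM χ₀ χ hχ).mpr hcon)
  rw [cInt_spec hM χ χ, IsCharacter.apply_one_eq_charDegree (IsIrrCharacter.isCharacter χ.2)] at h1
  have hsb : Cfsg.SameBlock M (β : G → ℂ) (χ : G → ℂ) := by
    rw [blockOf_eq_of_mem hM hχ] at hβ
    exact SameBlock.symm' hβ
  have h3 := cInt_div_sub hM χ β χ hsb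
  have h4 := MemLocalIdeal.add hM h3 h1
  rw [sub_add_cancel] at h4
  exact pow_factorization_succ_dvd_of_memLocalIdeal_div hM _ _ (charDegree_ne_zero β) h4


/-- the degree valuation in terms of the height -/
theorem factorization_eq_sInf_add_height (B : Set (Cfsg.IrrCharacter G)) (β : Cfsg.IrrCharacter G)
    (hβ : β ∈ B) :
    (Cfsg.charDegree (β : G → ℂ)).factorization p
      = sInf ((fun χ : Cfsg.IrrCharacter G => (Cfsg.charDegree (χ : G → ℂ)).factorization p) '' B)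
        + Cfsg.blockHeight p B (β : G → ℂ) := by
  unfold Cfsg.blockHeight
  have : sInf ((fun χ : Cfsg.IrrCharacter G => (Cfsg.charDegree (χ : G → ℂ)).factorization p) '' B)
      ≤ (Cfsg.charDegree (β : G → ℂ)).factorization p := Nat.sInf_le ⟨β, hβ, rfl⟩
  omega

/-- the exponent of `p` in the group order in terms of the defect -/
theorem factorization_card_eq_sInf_add_defect (B : Set (Cfsg.IrrCharacter G))
    (χ₀ : Cfsg.IrrCharacter G) (hχ₀ : χ₀ ∈ B) :
    (Nat.card G).factorization p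
      = sInf ((fun χ : Cfsg.IrrCharacter G => (Cfsg.charDegree (χ : G → ℂ)).factorization p) '' B)
        + Cfsg.blockDefect p B := by
  unfold Cfsg.blockDefect
  have h1 : sInf ((fun χ : Cfsg.IrrCharacter G => (Cfsg.charDegree (χ : G → ℂ)).factorization p) '' B)
      ≤ (Cfsg.charDegree (χ₀ : G → ℂ)).factorization p := Nat.sInf_le ⟨χ₀, hχ₀, rfl⟩
  have h3 : (Cfsg.charDegree (χ₀ : G → ℂ)).factorization p ≤ (Nat.card G).factorization p := by
    have := IsIrrCharacter.charDegree_dvd_card χ₀.2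
    exact (Nat.factorization_le_iff_dvd (IsIrrCharacter.charDegree_pos χ₀.2).ne'
      Nat.card_pos.ne').mpr this p
  omega

/-- the normalised contributions `m_β = p ^ d [χ°, β]` of a block -/
theorem exists_contrib (hM : Cfsg.IsPModular p M) [Fact p.Prime] [Fintype (Cfsg.IrrCharacter G)]
    (χ₀ χ : Cfsg.IrrCharacter G) (B : Set (Cfsg.IrrCharacter G))
    (hB : B = Cfsg.blockOf M (χ₀ : G → ℂ)) (hχB : χ ∈ B)
    [DecidablePred (· ∈ B)] :
    ∃ m : Cfsg.IrrCharacter G → ℤ,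
      (∀ β ∈ B, cInt p (χ : G → ℂ) (β : G → ℂ)
        = (p : ℤ) ^ sInf ((fun χ : Cfsg.IrrCharacter G =>
          (Cfsg.charDegree (χ : G → ℂ)).factorization p) '' B) * m β) ∧
      (∑ β ∈ Finset.univ.filter (· ∈ B), m β ^ 2
        = (p : ℤ) ^ Cfsg.blockDefect p B * m χ) ∧
      0 < m χ ∧ m χ ≤ (p : ℤ) ^ Cfsg.blockDefect p B ∧
      (m χ = (p : ℤ) ^ Cfsg.blockDefect p B →
        ∀ y : G, p ∣ orderOf y → (χ : G → ℂ) y = 0) ∧
      (∀ β ∈ B,
        (p : ℤ) ^ Cfsg.blockHeight p B (β : G → ℂ) ∣ m β) ∧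
      (Cfsg.blockHeight p B (χ : G → ℂ) = 0 →
        ∀ β ∈ B,
          ¬ (p : ℤ) ^ (Cfsg.blockHeight p B (β : G → ℂ) + 1) ∣ m β) ∧
      (Cfsg.blockHeight p B (χ : G → ℂ) ≠ 0 →
        ∀ β ∈ B,
          (p : ℤ) ^ (Cfsg.blockHeight p B (β : G → ℂ) + 1) ∣ m β) := by
  classical
  have hp : p.Prime := hM.1
  have hp0 : (p : ℤ) ≠ 0 := by exact_mod_cast hp.ne_zero
  have hχ : χ ∈ Cfsg.blockOf M (χ₀ : G → ℂ) := by rw [← hB]; exact hχB
  have hχ₀ : χ₀ ∈ B := by rw [hB]; exact sameBlock_refl hM _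
  obtain ⟨s, hs⟩ : ∃ s, s = sInf ((fun χ : Cfsg.IrrCharacter G =>
          (Cfsg.charDegree (χ : G → ℂ)).factorization p) '' B) := ⟨_, rfl⟩
  obtain ⟨d, hd⟩ : ∃ d, d = Cfsg.blockDefect p B := ⟨_, rfl⟩
  obtain ⟨a, ha⟩ : ∃ a, a = (Nat.card G).factorization p := ⟨_, rfl⟩
  have had : a = s + d := by
    rw [ha, hs, hd]; exact factorization_card_eq_sInf_add_defect B χ₀ hχ₀
  have hνh : ∀ β ∈ B, (Cfsg.charDegree (β : G → ℂ)).factorization p
      = s + Cfsg.blockHeight p B (β : G → ℂ) := by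
    intro β hβ
    rw [hs]; exact factorization_eq_sInf_add_height B β hβ
  have hBχ : Cfsg.blockOf M (χ : G → ℂ) = B := by
    rw [hB]; exact (blockOf_eq_of_mem hM hχ).symm
  -- divisibility by `p ^ s`
  have hdiv : ∀ β : Cfsg.IrrCharacter G, (p : ℤ) ^ s ∣ cInt p (χ : G → ℂ) (β : G → ℂ) := by
    intro β
    by_cases hβ : β ∈ B
    · have h1 := pow_dvd_cInt hM χ β
      rw [hνh β hβ] at h1
      exact (pow_dvd_pow (p : ℤ) (Nat.le_add_right _ _)).trans h1
    · rw [cInt_eq_zero_of_not_mem hM χ β (by rw [hBχ]; exact hβ)]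
      exact dvd_zero _
  choose m hm using hdiv
  rw [← hs, ← hd]
  have hsum := sum_cInt_sq hM χ
  rw [← ha] at hsum
  have hself := cInt_self hM χ
  rw [← ha] at hself
  have hps : (0 : ℤ) < (p : ℤ) ^ s := by positivity
  refine ⟨m, fun β _ => hm β, ?_, ?_, ?_, ?_, ?_, ?_, ?_⟩
  · -- the sum of squares
    have h1 : ∑ β : Cfsg.IrrCharacter G, cInt p (χ : G → ℂ) (β : G → ℂ) ^ 2
        = (p : ℤ) ^ (2 * s) * ∑ β ∈ Finset.univ.filter (· ∈ B), m β ^ 2 := by
      rw [Finset.mul_sum, Finset.sum_filter]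
      apply Finset.sum_congr rfl
      intro β _
      split_ifs with hβ
      · rw [hm β]; ring
      · rw [cInt_eq_zero_of_not_mem hM χ β (by rw [hBχ]; exact hβ)]; simp
    rw [h1, hm χ, had] at hsum
    have h2 : (p : ℤ) ^ (2 * s) * ∑ β ∈ Finset.univ.filter (· ∈ B), m β ^ 2
        = (p : ℤ) ^ (2 * s) * ((p : ℤ) ^ d * m χ) := by
      rw [hsum]; ring
    exact mul_left_cancel₀ (pow_ne_zero _ hp0) h2
  · have := hself.1
    rw [hm χ] at this
    exact pos_of_mul_pos_left (by rwa [mul_comm] at this) hps.le |> fun h => by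
      rcases lt_trichotomy (m χ) 0 with h0 | h0 | h0
      · exfalso
        have : (p : ℤ) ^ s * m χ < 0 := mul_neg_of_pos_of_neg hps h0
        linarith [hself.1, hm χ]
      · exfalso
        rw [h0, mul_zero] at this
        exact lt_irrefl _ this
      · exact h0
  · have := hself.2.1
    rw [hm χ, had, pow_add] at this
    exact le_of_mul_le_mul_left this hps
  · intro heq
    apply hself.2.2
    rw [hm χ, heq, had, pow_add]
  · intro β hβ
    have h1 := pow_dvd_cInt hM χ β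
    rw [hνh β hβ, hm β, pow_add] at h1
    exact (mul_dvd_mul_iff_left (pow_ne_zero _ hp0)).mp h1
  · intro hh β hβ hcon
    have h1 := not_pow_succ_dvd_cInt hM χ₀ χ β hχ (by rw [← hB]; exact hβ) (by rw [← hB]; exact hh)
    apply h1
    rw [hνh β hβ, hm β, add_assoc, pow_add]
    exact mul_dvd_mul_left _ hcon
  · intro hh β hβ
    have h1 := pow_succ_dvd_cInt hM χ₀ χ β hχ (by rw [← hB]; exact hβ) (by rw [← hB]; exact hh)
    rw [hνh β hβ, hm β, add_assoc, pow_add] at h1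
    exact (mul_dvd_mul_iff_left (pow_ne_zero _ hp0)).mp h1

/-- a nonzero multiple of `p ^ h` has square at least `p ^ (2 h)` -/
theorem pow_two_mul_le_sq_of_dvd {q : ℤ} (hq : 0 < q) {h : ℕ} {m : ℤ} (h1 : q ^ h ∣ m)
    (h2 : m ≠ 0) : q ^ (2 * h) ≤ m ^ 2 := by
  obtain ⟨t, rfl⟩ := h1
  have ht : t ≠ 0 := by
    rintro rfl
    exact h2 (mul_zero _)
  have ht2 : 1 ≤ t ^ 2 := by
    have : 0 < t ^ 2 := by positivity
    linarith
  have hq2 : 0 ≤ q ^ (2 * h) := by positivity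
  calc q ^ (2 * h) = q ^ (2 * h) * 1 := (mul_one _).symm
    _ ≤ q ^ (2 * h) * t ^ 2 := mul_le_mul_of_nonneg_left ht2 hq2
    _ = (q ^ h * t) ^ 2 := by ring

/-- existence of a character of height zero -/
theorem exists_height_zero (B : Set (Cfsg.IrrCharacter G)) (χ : Cfsg.IrrCharacter G) (hχ : χ ∈ B) :
    ∃ ξ₀ ∈ B, Cfsg.blockHeight p B (ξ₀ : G → ℂ) = 0 := by
  obtain ⟨ξ₀, hξ₀B, hξ₀min⟩ := exists_min_degree (p := p) B χ hχ
  exact ⟨ξ₀, hξ₀B, (blockHeight_eq_zero_iff B ξ₀ hξ₀B).mpr hξ₀min⟩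

/-- the Brauer–Feit inequality with heights -/
theorem four_mul_sum_pow_height_le (hM : Cfsg.IsPModular p M) [Fact p.Prime]
    [Fintype (Cfsg.IrrCharacter G)] (B : Set (Cfsg.IrrCharacter G)) (hB : Cfsg.IsPBlock M B)
    [DecidablePred (· ∈ B)] :
    4 * ∑ β ∈ Finset.univ.filter (· ∈ B), p ^ (2 * Cfsg.blockHeight p B (β : G → ℂ))
      ≤ p ^ (2 * Cfsg.blockDefect p B) + 4 := by
  classical
  have hp : p.Prime := hM.1
  have hpZ : (0 : ℤ) < (p : ℤ) := by exact_mod_cast hp.pos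
  obtain ⟨χ₀, hBχ⟩ := hB
  have hχ₀ : χ₀ ∈ B := by rw [hBχ]; exact sameBlock_refl hM _
  obtain ⟨χ, hχB, hχh⟩ := exists_height_zero (p := p) B χ₀ hχ₀
  obtain ⟨m, _, hsum, hpos, hle, _, hdiv, hndiv, _⟩ := exists_contrib hM χ₀ χ B hBχ hχB
  have hne : ∀ β ∈ B, m β ≠ 0 := by
    intro β hβ h0
    apply hndiv hχh β hβ
    rw [h0]; exact dvd_zero _
  have hχmem : χ ∈ Finset.univ.filter (· ∈ B) := by simp [hχB]
  -- lower bound for the sum of squares
  have h1 : ∑ β ∈ Finset.univ.filter (· ∈ B),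
        ((p : ℤ) ^ (2 * Cfsg.blockHeight p B (β : G → ℂ))) - 1 + m χ ^ 2
      ≤ ∑ β ∈ Finset.univ.filter (· ∈ B), m β ^ 2 := by
    rw [← Finset.add_sum_erase _ _ hχmem, ← Finset.add_sum_erase _ (fun β => m β ^ 2) hχmem, hχh]
    have h2 : ∑ β ∈ (Finset.univ.filter (· ∈ B)).erase χ,
          ((p : ℤ) ^ (2 * Cfsg.blockHeight p B (β : G → ℂ)))
        ≤ ∑ β ∈ (Finset.univ.filter (· ∈ B)).erase χ, m β ^ 2 := by
      apply Finset.sum_le_sum
      intro β hβ
      have hβB : β ∈ B := by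
        have := Finset.mem_of_mem_erase hβ
        simpa using this
      exact pow_two_mul_le_sq_of_dvd hpZ (hdiv β hβB) (hne β hβB)
    simp only [mul_zero, pow_zero]
    linarith
  rw [hsum] at h1
  obtain ⟨P, hP⟩ : ∃ P : ℤ, P = (p : ℤ) ^ Cfsg.blockDefect p B := ⟨_, rfl⟩
  rw [← hP] at h1 hle
  have h3 : 4 * ∑ β ∈ Finset.univ.filter (· ∈ B),
        ((p : ℤ) ^ (2 * Cfsg.blockHeight p B (β : G → ℂ))) ≤ P ^ 2 + 4 := by
    nlinarith [sq_nonneg (P - 2 * m χ)]
  have h4 : ((4 * ∑ β ∈ Finset.univ.filter (· ∈ B),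
        p ^ (2 * Cfsg.blockHeight p B (β : G → ℂ)) : ℕ) : ℤ)
      ≤ ((p ^ (2 * Cfsg.blockDefect p B) + 4 : ℕ) : ℤ) := by
    push_cast
    rw [pow_mul' (p : ℤ) 2, ← hP]
    exact h3
  exact_mod_cast h4

/-- a character vanishing on the `p`-singular elements has degree divisible by the full power of
`p` -/
theorem card_factorization_le_of_vanish (hp : p.Prime)
    (χ : Cfsg.IrrCharacter G) (hvan : ∀ y : G, p ∣ orderOf y → (χ : G → ℂ) y = 0) :
    (Nat.card G).factorization p ≤ (Cfsg.charDegree (χ : G → ℂ)).factorization p := by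
  classical
  have : Fact p.Prime := ⟨hp⟩
  obtain ⟨d, hd⟩ : ∃ d, d = Cfsg.charDegree (χ : G → ℂ) := ⟨_, rfl⟩
  rw [← hd]
  have hd0 : 0 < d := by rw [hd]; exact IsIrrCharacter.charDegree_pos χ.2
  have hχ1 : (χ : G → ℂ) 1 = (d : ℂ) := by
    rw [hd]; exact IsCharacter.apply_one_eq_charDegree (IsIrrCharacter.isCharacter χ.2)
  obtain ⟨P⟩ : Nonempty (Sylow p G) := inferInstance
  have hint := IsCharacter.isIntegral_avg (IsIrrCharacter.isCharacter χ.2) (P : Subgroup G) 1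
    (fun w _ => by rw [one_mul, mul_one])
  have hsum : ∑ w : (P : Subgroup G), (χ : G → ℂ) (1 * (w : G)) = (d : ℂ) := by
    rw [Finset.sum_eq_single (1 : (P : Subgroup G))]
    · simp [hχ1]
    · intro w _ hw1
      rw [one_mul]
      apply hvan
      obtain ⟨j, hj⟩ := (IsPGroup.iff_orderOf.mp P.isPGroup') w
      rw [Subgroup.orderOf_coe, hj]
      have hj0 : j ≠ 0 := by
        rintro rfl
        rw [pow_zero] at hj
        exact hw1 (orderOf_eq_one_iff.mp hj)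
      exact dvd_pow_self p hj0
    · intro h0; exact absurd (Finset.mem_univ _) h0
  rw [hsum, inv_mul_eq_div] at hint
  have hPcard : Nat.card (P : Subgroup G) = p ^ (Nat.card G).factorization p :=
    P.card_eq_multiplicity
  have hdvd2 : Nat.card (P : Subgroup G) ∣ d :=
    nat_dvd_of_isIntegral_div Nat.card_pos.ne' hint
  rw [hPcard] at hdvd2
  exact (hp.pow_dvd_iff_le_factorization hd0.ne').mp hdvd2

/-- a character of positive height has height at most `d - 2` -/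
theorem height_add_two_le_defect (hM : Cfsg.IsPModular p M) [Fact p.Prime]
    (B : Set (Cfsg.IrrCharacter G)) (hB : Cfsg.IsPBlock M B) (χ : Cfsg.IrrCharacter G)
    (hχ : χ ∈ B) (hh : Cfsg.blockHeight p B (χ : G → ℂ) ≠ 0) :
    Cfsg.blockHeight p B (χ : G → ℂ) + 2 ≤ Cfsg.blockDefect p B := by
  classical
  have : Fintype (Cfsg.IrrCharacter G) := Fintype.ofFinite _
  have hp : p.Prime := hM.1
  have hpZ : (0 : ℤ) < (p : ℤ) := by exact_mod_cast hp.pos
  obtain ⟨χ₀, hBχ⟩ := hB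
  have hχ₀ : χ₀ ∈ B := by rw [hBχ]; exact sameBlock_refl hM _
  obtain ⟨m, _, _, hpos, hle, hvan, _, _, hdiv⟩ := exists_contrib hM χ₀ χ B hBχ hχ
  have h1 := hdiv hh χ hχ
  obtain ⟨h, hhdef⟩ : ∃ h, h = Cfsg.blockHeight p B (χ : G → ℂ) := ⟨_, rfl⟩
  obtain ⟨d, hddef⟩ : ∃ d, d = Cfsg.blockDefect p B := ⟨_, rfl⟩
  rw [← hhdef] at h1 ⊢
  rw [← hddef] at hle hvan ⊢
  -- `h + 1 ≤ d`
  have h2 : h + 1 ≤ d := by
    by_contra hcon
    push Not at hcon
    have h3 : (p : ℤ) ^ (h + 1) ≤ m χ := Int.le_of_dvd hpos h1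
    have h4 : (p : ℤ) ^ d < (p : ℤ) ^ (h + 1) :=
      pow_lt_pow_right₀ (by exact_mod_cast hp.one_lt) hcon
    linarith
  by_contra hcon
  push Not at hcon
  have h5 : h + 1 = d := by omega
  rw [h5] at h1
  have h6 : m χ = (p : ℤ) ^ d := le_antisymm hle (Int.le_of_dvd hpos h1)
  have h7 := card_factorization_le_of_vanish hp χ (hvan h6)
  rw [factorization_eq_sInf_add_height B χ hχ, factorization_card_eq_sInf_add_defect B χ₀ hχ₀,
    ← hhdef, ← hddef] at h7
  omega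

/-- with a character of positive height, the number of characters of height zero is small -/
theorem card_height_zero_le (hM : Cfsg.IsPModular p M) [Fact p.Prime]
    [Fintype (Cfsg.IrrCharacter G)] (B : Set (Cfsg.IrrCharacter G)) (hB : Cfsg.IsPBlock M B)
    [DecidablePred (· ∈ B)] (χ : Cfsg.IrrCharacter G)
    (hχ : χ ∈ B) (hh : Cfsg.blockHeight p B (χ : G → ℂ) ≠ 0) :
    4 * p ^ 2 * ((Finset.univ.filter (· ∈ B)).filter
        (fun β : Cfsg.IrrCharacter G => Cfsg.blockHeight p B (β : G → ℂ) = 0)).card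
      ≤ p ^ (2 * Cfsg.blockDefect p B) := by
  classical
  have hp : p.Prime := hM.1
  have hpZ : (0 : ℤ) < (p : ℤ) := by exact_mod_cast hp.pos
  have hp0 : (p : ℤ) ≠ 0 := hpZ.ne'
  obtain ⟨χ₀, hBχ⟩ := hB
  have hχ₀ : χ₀ ∈ B := by rw [hBχ]; exact sameBlock_refl hM _
  obtain ⟨m, hc, hsum, hpos, hle, _, _, _, hdiv⟩ := exists_contrib hM χ₀ χ B hBχ hχ
  -- the entries at characters of height zero
  have hentry : ∀ β ∈ (Finset.univ.filter (· ∈ B)).filter
      (fun β : Cfsg.IrrCharacter G => Cfsg.blockHeight p B (β : G → ℂ) = 0),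
      (p : ℤ) ^ 2 ≤ m β ^ 2 := by
    intro β hβ
    simp only [Finset.mem_filter, Finset.mem_univ, true_and] at hβ
    obtain ⟨hβB, hβh⟩ := hβ
    have h1 := hdiv hh β hβB
    rw [hβh, zero_add] at h1
    have h2 : m β ≠ 0 := by
      intro h0
      -- symmetry
      have h3 := hc β hβB
      rw [h0, mul_zero, cInt_symm hM χ β] at h3
      have h4 := not_pow_succ_dvd_cInt hM χ₀ β χ (by rw [← hBχ]; exact hβB)
        (by rw [← hBχ]; exact hχ) (by rw [← hBχ]; exact hβh)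
      apply h4
      rw [h3]; exact dvd_zero _
    have := pow_two_mul_le_sq_of_dvd hpZ (h := 1) h1 h2
    simpa using this
  have hχnot : χ ∉ (Finset.univ.filter (· ∈ B)).filter
      (fun β : Cfsg.IrrCharacter G => Cfsg.blockHeight p B (β : G → ℂ) = 0) := by
    simp only [Finset.mem_filter, Finset.mem_univ, true_and, not_and]
    intro _
    exact hh
  have hsub : insert χ ((Finset.univ.filter (· ∈ B)).filter
      (fun β : Cfsg.IrrCharacter G => Cfsg.blockHeight p B (β : G → ℂ) = 0))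
      ⊆ Finset.univ.filter (· ∈ B) := by
    intro β hβ
    rcases Finset.mem_insert.mp hβ with rfl | hβ
    · simp [hχ]
    · exact (Finset.mem_filter.mp hβ).1
  have h5 : ∑ β ∈ insert χ ((Finset.univ.filter (· ∈ B)).filter
      (fun β : Cfsg.IrrCharacter G => Cfsg.blockHeight p B (β : G → ℂ) = 0)), m β ^ 2
      ≤ ∑ β ∈ Finset.univ.filter (· ∈ B), m β ^ 2 :=
    Finset.sum_le_sum_of_subset_of_nonneg hsub (fun β _ _ => sq_nonneg _)
  rw [Finset.sum_insert hχnot, hsum] at h5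
  have h6 : ((Finset.univ.filter (· ∈ B)).filter
      (fun β : Cfsg.IrrCharacter G => Cfsg.blockHeight p B (β : G → ℂ) = 0)).card • (p : ℤ) ^ 2
      ≤ ∑ β ∈ (Finset.univ.filter (· ∈ B)).filter
      (fun β : Cfsg.IrrCharacter G => Cfsg.blockHeight p B (β : G → ℂ) = 0), m β ^ 2 :=
    Finset.card_nsmul_le_sum _ _ _ hentry
  rw [nsmul_eq_mul] at h6
  obtain ⟨P, hP⟩ : ∃ P : ℤ, P = (p : ℤ) ^ Cfsg.blockDefect p B := ⟨_, rfl⟩
  rw [← hP] at h5 hle
  obtain ⟨k₀, hk₀⟩ : ∃ k₀ : ℕ, k₀ = ((Finset.univ.filter (· ∈ B)).filter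
      (fun β : Cfsg.IrrCharacter G => Cfsg.blockHeight p B (β : G → ℂ) = 0)).card := ⟨_, rfl⟩
  rw [← hk₀] at h6 ⊢
  have h7 : 4 * (p : ℤ) ^ 2 * (k₀ : ℤ) ≤ P ^ 2 := by
    nlinarith [sq_nonneg (P - 2 * m χ)]
  have h8 : ((4 * p ^ 2 * k₀ : ℕ) : ℤ) ≤ ((p ^ (2 * Cfsg.blockDefect p B) : ℕ) : ℤ) := by
    push_cast
    rw [pow_mul' (p : ℤ) 2, ← hP]
    exact h7
  exact_mod_cast h8

end contrib

end Cfsg.Agent.Lib.Helper6
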