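import Mathlib
import Cfsg.Prelude.Def_Blocks
import Cfsg.Agent.Lib.Helper6.BlkContrib
import Cfsg.Agent.Lib.Helper6.BlkDefect
import Cfsg.Agent.Lib.Helper6.Mult
import Cfsg.Agent.Lib.Helper6.BlkPrincipal
import Cfsg.Agent.Lib.Helper6.BlkSections

set_option autoImplicit false
set_option linter.unusedSectionVars false
open Cfsg

namespace Cfsg.Agent.Lib.Helper6

open scoped ComplexConjugate

section dim

variable {G : Type*} [Group G] [Fintype G] [DecidableEq G]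
variable {p : ℕ} {M : Ideal Cfsg.AlgInt}

theorem memLocalRing_div_of_pow_dvd (hM : Cfsg.IsPModular p M) (n : ℤ) (m : ℕ) (hm : m ≠ 0)
    (h : (p : ℤ) ^ (m.factorization p) ∣ n) : Cfsg.MemLocalRing M ((n : ℂ) / (m : ℂ)) := by
  have hp : p.Prime := hM.1
  obtain ⟨n₂, rfl⟩ := h
  have hm' : ¬ p ∣ m / p ^ m.factorization p := Nat.not_dvd_ordCompl hp hm
  have hmeq : p ^ m.factorization p * (m / p ^ m.factorization p) = m :=
    Nat.ordProj_mul_ordCompl_eq_self m p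
  have hp0 : (p : ℂ) ≠ 0 := by exact_mod_cast hp.ne_zero
  have hm0 : (m : ℂ) ≠ 0 := by exact_mod_cast hm
  have hc0 : ((m / p ^ m.factorization p : ℕ) : ℂ) ≠ 0 := by
    intro h0
    apply hm0
    rw [← hmeq]
    push_cast
    rw [h0, mul_zero]
  have hmC : (m : ℂ) = (p : ℂ) ^ (m.factorization p) * ((m / p ^ m.factorization p : ℕ) : ℂ) := by
    exact_mod_cast congrArg (Nat.cast : ℕ → ℂ) hmeq.symm
  have : (((p : ℤ) ^ (m.factorization p) * n₂ : ℤ) : ℂ) / (m : ℂ)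
      = ((n₂ : ℂ) * ((m / p ^ m.factorization p : ℕ) : ℂ)⁻¹) := by
    push_cast
    generalize ((m / p ^ m.factorization p : ℕ) : ℂ) = c at hmC hc0 ⊢
    generalize m.factorization p = t at hmC ⊢
    rw [hmC]
    field_simp
  rw [this]
  exact MemLocalRing.mul hM (memLocalRing_intCast hM _) (memLocalRing_inv_natCast hM hm')

/-- the multiplicity of the trivial character in the restriction of `β` to `P` -/
noncomputable def trivMult (P : Subgroup G) (β : G → ℂ) : ℕ :=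
  ⌊((Nat.card P : ℂ)⁻¹ * ∑ᶠ x : P, β x).re⌋₊

theorem trivMult_spec (P : Subgroup G) {β : G → ℂ} (hβ : Cfsg.IsCharacter G β) :
    (Nat.card P : ℂ)⁻¹ * ∑ᶠ x : P, β x = (trivMult P β : ℂ) := by
  classical
  have : Fintype P := Fintype.ofFinite _
  obtain ⟨n, hn⟩ := IsCharacter.classInner_irr_nat (IsCharacter.restrict P hβ) (oneIrr P).2
  have h1 : (Nat.card P : ℂ)⁻¹ * ∑ᶠ x : P, β x = (n : ℂ) := by
    rw [← hn, finsum_eq_sum_of_fintype]
    unfold Cfsg.classInner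
    congr 1
    apply Finset.sum_congr rfl
    intro x _
    show β x = β x * conj ((oneIrr P : P → ℂ) x)
    have : (oneIrr P : P → ℂ) x = 1 := rfl
    rw [this, map_one, mul_one]
  unfold trivMult
  rw [h1]
  simp

theorem orderOf_dvd_of_mem_pSubgroup (hp : p.Prime) (P : Subgroup G) {a : ℕ}
    (hP : Nat.card P = p ^ a) {x : G} (hx : x ∈ P) (hx1 : x ≠ 1) : p ∣ orderOf x := by
  have h1 : orderOf (⟨x, hx⟩ : P) ∣ Nat.card P := orderOf_dvd_natCard _
  rw [hP] at h1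
  obtain ⟨k, _, hk⟩ := (Nat.dvd_prime_pow hp).mp h1
  have h2 : orderOf (⟨x, hx⟩ : P) = orderOf x := by
    rw [← Subgroup.orderOf_coe]
  rw [h2] at hk
  rcases Nat.eq_zero_or_pos k with h0 | h0
  · exfalso
    rw [h0, pow_zero, orderOf_eq_one_iff] at hk
    exact hx1 hk
  · rw [hk]
    exact dvd_pow_self p h0.ne'

/-- averaging a function vanishing at the `p`-singular elements over a `p`-subgroup -/
theorem finsum_subgroup_eq_of_vanish (hp : p.Prime) (P : Subgroup G) {a : ℕ}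
    (hP : Nat.card P = p ^ a) (f : G → ℂ) (hf : ∀ x : G, p ∣ orderOf x → f x = 0) :
    ∑ᶠ x : P, f x = f 1 := by
  classical
  have : Fintype P := Fintype.ofFinite _
  rw [finsum_eq_sum_of_fintype]
  rw [Finset.sum_eq_single (1 : P)]
  · rfl
  · intro x _ hx
    apply hf
    apply orderOf_dvd_of_mem_pSubgroup hp P hP x.2
    intro h
    apply hx
    exact Subtype.ext h
  · intro h
    exact absurd (Finset.mem_univ _) h

/-- `Σ_β c(χ,β) n_β = χ(1)` -/
theorem sum_cInt_mul_trivMult (hM : Cfsg.IsPModular p M) [Fact p.Prime]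
    [Fintype (Cfsg.IrrCharacter G)] (χ : Cfsg.IrrCharacter G) (P : Subgroup G)
    (hP : Nat.card P = p ^ (Nat.card G).factorization p) :
    ∑ β : Cfsg.IrrCharacter G, (cInt p (χ : G → ℂ) (β : G → ℂ) : ℂ) * (trivMult P (β : G → ℂ) : ℂ)
      = (χ : G → ℂ) 1 := by
  classical
  have hp : p.Prime := hM.1
  have : Fintype P := Fintype.ofFinite _
  obtain ⟨c, hc, hci, _⟩ := tildeFun_int_coeff hM χ
  have hcc : ∀ β : Cfsg.IrrCharacter G, (c β : ℂ) = (cInt p (χ : G → ℂ) (β : G → ℂ) : ℂ) := by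
    intro β
    rw [← hci β, cInt_spec hM χ β]
  have h1 : ∑ᶠ x : P, tildeFun p (χ : G → ℂ) x = tildeFun p (χ : G → ℂ) 1 := by
    apply finsum_subgroup_eq_of_vanish hp P hP
    intro x hx
    rw [tildeFun_eq]
    simp only [if_pos hx]
  have h2 : tildeFun p (χ : G → ℂ) 1
      = ((p ^ (Nat.card G).factorization p : ℕ) : ℂ) * (χ : G → ℂ) 1 := by
    rw [tildeFun_eq]
    simp only
    rw [if_neg]
    rw [orderOf_one]
    exact hp.not_dvd_one
  have h3 : ∑ᶠ x : P, tildeFun p (χ : G → ℂ) x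
      = ∑ β : Cfsg.IrrCharacter G, (c β : ℂ) * ∑ᶠ x : P, (β : G → ℂ) x := by
    rw [finsum_eq_sum_of_fintype]
    simp_rw [finsum_eq_sum_of_fintype]
    rw [hc]
    simp_rw [Finset.sum_apply, Pi.smul_apply, smul_eq_mul]
    rw [Finset.sum_comm]
    apply Finset.sum_congr rfl
    intro β _
    rw [Finset.mul_sum]
  have hPne : (Nat.card P : ℂ) ≠ 0 := by
    rw [hP]
    exact_mod_cast (pow_pos hp.pos _).ne'
  have h4 : ∀ β : Cfsg.IrrCharacter G, ∑ᶠ x : P, (β : G → ℂ) x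
      = (Nat.card P : ℂ) * (trivMult P (β : G → ℂ) : ℂ) := by
    intro β
    rw [← trivMult_spec P (IsIrrCharacter.isCharacter β.2), ← mul_assoc, mul_inv_cancel₀ hPne,
      one_mul]
  rw [h1, h2] at h3
  simp_rw [h4, hcc] at h3
  have h5 : ((p ^ (Nat.card G).factorization p : ℕ) : ℂ) = (Nat.card P : ℂ) := by
    rw [hP]
  rw [h5] at h3
  have h6 : (Nat.card P : ℂ) * (χ : G → ℂ) 1 = (Nat.card P : ℂ) *
      ∑ β : Cfsg.IrrCharacter G, (cInt p (χ : G → ℂ) (β : G → ℂ) : ℂ) * (trivMult P (β : G → ℂ) : ℂ) := by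
    rw [h3, Finset.mul_sum]
    apply Finset.sum_congr rfl
    intro β _
    ring
  exact (mul_left_cancel₀ hPne h6).symm

/-- the key non-divisibility: for `χ` of height zero in its block `B`,
`p ^ (ν(χ(1)) + 1)` does not divide `Σ_{β ∈ B} β(1) n_β` -/
theorem not_pow_succ_dvd_sum_degree_mul_trivMult (hM : Cfsg.IsPModular p M) [Fact p.Prime]
    [Fintype (Cfsg.IrrCharacter G)] (χ₀ χ : Cfsg.IrrCharacter G)
    (hχ : χ ∈ Cfsg.blockOf M (χ₀ : G → ℂ))
    (hh : Cfsg.blockHeight p (Cfsg.blockOf M (χ₀ : G → ℂ)) (χ : G → ℂ) = 0)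
    (P : Subgroup G) (hP : Nat.card P = p ^ (Nat.card G).factorization p)
    [DecidablePred (· ∈ Cfsg.blockOf M (χ₀ : G → ℂ))] :
    ¬ (p : ℤ) ^ ((Cfsg.charDegree (χ : G → ℂ)).factorization p + 1) ∣
      ∑ β ∈ Finset.univ.filter (· ∈ Cfsg.blockOf M (χ₀ : G → ℂ)),
        (Cfsg.charDegree (β : G → ℂ) : ℤ) * (trivMult P (β : G → ℂ) : ℤ) := by
  classical
  intro hdvd
  have hp : p.Prime := hM.1
  obtain ⟨B, hBdef⟩ : ∃ B, B = Cfsg.blockOf M (χ₀ : G → ℂ) := ⟨_, rfl⟩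
  have hm0 : Cfsg.charDegree (χ : G → ℂ) ≠ 0 := charDegree_ne_zero χ
  have hmC : ((Cfsg.charDegree (χ : G → ℂ) : ℕ) : ℂ) ≠ 0 := by exact_mod_cast hm0
  have hχcf := IsIrrCharacter.isClassFunction χ.2
  have hχS : ∀ g, Cfsg.MemLocalRing M ((χ : G → ℂ) g) := fun g =>
    memLocalRing_of_isIntegral hM (IsCharacter.isIntegral_apply (IsIrrCharacter.isCharacter χ.2) g)
  -- u in the local ring
  have hu : Cfsg.MemLocalRing M ((cInt p (χ : G → ℂ) (χ : G → ℂ) : ℂ)
      / (Cfsg.charDegree (χ : G → ℂ) : ℂ)) := by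
    have h2 := classInner_tildeFun_div_memLocalRing hM hχcf hχS χ
    rwa [cInt_spec hM χ χ, IsCharacter.apply_one_eq_charDegree (IsIrrCharacter.isCharacter χ.2)] at h2
  -- T / m in the local ideal
  have hT := memLocalIdeal_div_of_pow_succ_dvd hM _ _ hm0 hdvd
  -- the identity
  have h1 := sum_cInt_mul_trivMult hM χ P hP
  rw [IsCharacter.apply_one_eq_charDegree (IsIrrCharacter.isCharacter χ.2)] at h1
  have h2 : ∑ β : Cfsg.IrrCharacter G, (cInt p (χ : G → ℂ) (β : G → ℂ) : ℂ) * (trivMult P (β : G → ℂ) : ℂ)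
      = ∑ β ∈ Finset.univ.filter (· ∈ Cfsg.blockOf M (χ₀ : G → ℂ)),
        (cInt p (χ : G → ℂ) (β : G → ℂ) : ℂ) * (trivMult P (β : G → ℂ) : ℂ) := by
    rw [Finset.sum_filter]
    apply Finset.sum_congr rfl
    intro β _
    by_cases hβ : β ∈ Cfsg.blockOf M (χ₀ : G → ℂ)
    · rw [if_pos hβ]
    · rw [if_neg hβ]
      have : β ∉ Cfsg.blockOf M (χ : G → ℂ) := by
        rw [← blockOf_eq_of_mem hM hχ]
        exact hβ
      rw [cInt_eq_zero_of_not_mem hM χ β this, Int.cast_zero, zero_mul]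
  rw [h2] at h1
  -- decompose
  have h3 : ∀ β ∈ Finset.univ.filter (· ∈ Cfsg.blockOf M (χ₀ : G → ℂ)),
      (cInt p (χ : G → ℂ) (β : G → ℂ) : ℂ) * (trivMult P (β : G → ℂ) : ℂ)
        / (Cfsg.charDegree (χ : G → ℂ) : ℂ)
      = ((cInt p (χ : G → ℂ) (χ : G → ℂ) : ℂ) / (Cfsg.charDegree (χ : G → ℂ) : ℂ))
          * ((((Cfsg.charDegree (β : G → ℂ) : ℤ) * (trivMult P (β : G → ℂ) : ℤ) : ℤ) : ℂ)
            / (Cfsg.charDegree (χ : G → ℂ) : ℂ))
        + (((Cfsg.charDegree (β : G → ℂ) : ℤ) : ℂ) / (Cfsg.charDegree (χ : G → ℂ) : ℂ))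
          * (trivMult P (β : G → ℂ) : ℂ)
          * ((cInt p (χ : G → ℂ) (β : G → ℂ) : ℂ) / (Cfsg.charDegree (β : G → ℂ) : ℂ)
            - (cInt p (χ : G → ℂ) (χ : G → ℂ) : ℂ) / (Cfsg.charDegree (χ : G → ℂ) : ℂ)) := by
    intro β _
    have hb0 : ((Cfsg.charDegree (β : G → ℂ) : ℕ) : ℂ) ≠ 0 := by
      exact_mod_cast charDegree_ne_zero β
    push_cast
    field_simp
    ring
  have h4 : (1 : ℂ) = ∑ β ∈ Finset.univ.filter (· ∈ Cfsg.blockOf M (χ₀ : G → ℂ)),
      (cInt p (χ : G → ℂ) (β : G → ℂ) : ℂ) * (trivMult P (β : G → ℂ) : ℂ)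
        / (Cfsg.charDegree (χ : G → ℂ) : ℂ) := by
    rw [← Finset.sum_div, h1, div_self hmC]
  rw [Finset.sum_congr rfl h3, Finset.sum_add_distrib, ← Finset.mul_sum, ← Finset.sum_div] at h4
  apply not_memLocalIdeal_one hM
  rw [h4]
  apply MemLocalIdeal.add hM
  · apply MemLocalIdeal.mul_left hM hu
    have : ((∑ β ∈ Finset.univ.filter (· ∈ Cfsg.blockOf M (χ₀ : G → ℂ)),
        (Cfsg.charDegree (β : G → ℂ) : ℤ) * (trivMult P (β : G → ℂ) : ℤ) : ℤ) : ℂ)
        = ∑ β ∈ Finset.univ.filter (· ∈ Cfsg.blockOf M (χ₀ : G → ℂ)),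
          (((Cfsg.charDegree (β : G → ℂ) : ℤ) * (trivMult P (β : G → ℂ) : ℤ) : ℤ) : ℂ) := by
      push_cast
      rfl
    rw [← this]
    exact hT
  · apply MemLocalIdeal.sum hM
    intro β hβ
    rw [Finset.mem_filter] at hβ
    apply MemLocalIdeal.mul_left hM
    · apply MemLocalRing.mul hM
      · apply memLocalRing_div_of_pow_dvd hM _ _ hm0
        have h5 := (blockHeight_eq_zero_iff (p := p) _ χ hχ).mp hh β hβ.2
        have h6 : p ^ (Cfsg.charDegree (χ : G → ℂ)).factorization p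
            ∣ Cfsg.charDegree (β : G → ℂ) :=
          (pow_dvd_pow p h5).trans (Nat.ordProj_dvd _ _)
        exact_mod_cast h6
      · exact memLocalRing_natCast hM _
    · apply cInt_div_sub hM χ β χ
      have : β ∈ Cfsg.blockOf M (χ : G → ℂ) := by
        rw [← blockOf_eq_of_mem hM hχ]
        exact hβ.2
      exact SameBlock.symm' this

/-- `Σ_{β ∈ B} β(1)² = |P| Σ_{β ∈ B} β(1) n_β` for a `p`-subgroup `P` -/
theorem sum_sq_degree_eq_card_mul (hM : Cfsg.IsPModular p M)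
    [Fintype (Cfsg.IrrCharacter G)] (χ₀ : Cfsg.IrrCharacter G)
    (P : Subgroup G) {a : ℕ} (hP : Nat.card P = p ^ a)
    [DecidablePred (· ∈ Cfsg.blockOf M (χ₀ : G → ℂ))] :
    ∑ β ∈ Finset.univ.filter (· ∈ Cfsg.blockOf M (χ₀ : G → ℂ)), Cfsg.charDegree (β : G → ℂ) ^ 2
      = Nat.card P * ∑ β ∈ Finset.univ.filter (· ∈ Cfsg.blockOf M (χ₀ : G → ℂ)),
        Cfsg.charDegree (β : G → ℂ) * trivMult P (β : G → ℂ) := by
  classical
  have hp : p.Prime := hM.1
  have : Fintype P := Fintype.ofFinite _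
  have hPne : (Nat.card P : ℂ) ≠ 0 := by
    rw [hP]
    exact_mod_cast (pow_pos hp.pos _).ne'
  have hGne : (Nat.card G : ℂ) ≠ 0 := by
    exact_mod_cast Nat.card_pos.ne'
  -- the function ρ_B
  obtain ⟨f, hf⟩ : ∃ f : G → ℂ, f = fun x => ∑ β ∈ Finset.univ.filter
      (· ∈ Cfsg.blockOf M (χ₀ : G → ℂ)), (Cfsg.charDegree (β : G → ℂ) : ℂ) * (β : G → ℂ) x :=
    ⟨_, rfl⟩
  have hvan : ∀ x : G, p ∣ orderOf x → f x = 0 := by
    intro x hx
    have h1 := blockCoeff_eq_zero_of_pSingular hM χ₀ x hx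
    unfold Cfsg.blockCoeff at h1
    rw [finsum_mem_eq_sum_filter_lib] at h1
    have h2 := (mul_eq_zero.mp h1).resolve_left (inv_ne_zero hGne)
    have h3 := congrArg conj h2
    rw [map_sum, map_zero] at h3
    rw [hf]
    simp only
    rw [← h3]
    apply Finset.sum_congr rfl
    intro β _
    rw [map_mul, Complex.conj_conj,
      IsCharacter.apply_one_eq_charDegree (IsIrrCharacter.isCharacter β.2), Complex.conj_natCast]
  have h1 := finsum_subgroup_eq_of_vanish hp P hP f hvan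
  have h2 : ∑ᶠ x : P, f x = ∑ β ∈ Finset.univ.filter (· ∈ Cfsg.blockOf M (χ₀ : G → ℂ)),
      (Cfsg.charDegree (β : G → ℂ) : ℂ) * ((Nat.card P : ℂ) * (trivMult P (β : G → ℂ) : ℂ)) := by
    rw [finsum_eq_sum_of_fintype, hf]
    simp only
    rw [Finset.sum_comm]
    apply Finset.sum_congr rfl
    intro β _
    rw [← Finset.mul_sum, ← trivMult_spec P (IsIrrCharacter.isCharacter β.2), ← mul_assoc _ _ (finsum _),
      mul_inv_cancel₀ hPne, one_mul, finsum_eq_sum_of_fintype]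
  have h3 : f 1 = ∑ β ∈ Finset.univ.filter (· ∈ Cfsg.blockOf M (χ₀ : G → ℂ)),
      ((Cfsg.charDegree (β : G → ℂ) : ℕ) : ℂ) ^ 2 := by
    rw [hf]
    simp only
    apply Finset.sum_congr rfl
    intro β _
    rw [IsCharacter.apply_one_eq_charDegree (IsIrrCharacter.isCharacter β.2), sq]
  rw [h2, h3] at h1
  have h4 : ((∑ β ∈ Finset.univ.filter (· ∈ Cfsg.blockOf M (χ₀ : G → ℂ)),
      Cfsg.charDegree (β : G → ℂ) ^ 2 : ℕ) : ℂ)
      = ((Nat.card P * ∑ β ∈ Finset.univ.filter (· ∈ Cfsg.blockOf M (χ₀ : G → ℂ)),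
        Cfsg.charDegree (β : G → ℂ) * trivMult P (β : G → ℂ) : ℕ) : ℂ) := by
    push_cast
    rw [← h1, Finset.mul_sum]
    apply Finset.sum_congr rfl
    intro β _
    ring
  exact_mod_cast h4

/-- Brauer: the `p`-part of the dimension of a block is `p ^ (2a - d)` -/
theorem factorization_sum_sq_degree (hM : Cfsg.IsPModular p M) [Fact p.Prime]
    [Fintype (Cfsg.IrrCharacter G)] (χ₀ : Cfsg.IrrCharacter G)
    [DecidablePred (· ∈ Cfsg.blockOf M (χ₀ : G → ℂ))] :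
    (∑ β ∈ Finset.univ.filter (· ∈ Cfsg.blockOf M (χ₀ : G → ℂ)),
      Cfsg.charDegree (β : G → ℂ) ^ 2).factorization p
      = 2 * (Nat.card G).factorization p - Cfsg.blockDefect p (Cfsg.blockOf M (χ₀ : G → ℂ)) := by
  classical
  have hp : p.Prime := hM.1
  obtain ⟨P⟩ : Nonempty (Sylow p G) := inferInstance
  have hP : Nat.card (P : Subgroup G) = p ^ (Nat.card G).factorization p :=
    Sylow.card_eq_multiplicity P
  have hχ₀ : χ₀ ∈ Cfsg.blockOf M (χ₀ : G → ℂ) := sameBlock_refl hM _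
  obtain ⟨χ, hχ, hh⟩ := exists_height_zero (p := p) _ χ₀ hχ₀
  have h1 := not_pow_succ_dvd_sum_degree_mul_trivMult hM χ₀ χ hχ hh (P : Subgroup G) hP
  have h2 := sum_sq_degree_eq_card_mul hM χ₀ (P : Subgroup G) hP
  have hmin := (blockHeight_eq_zero_iff (p := p) _ χ hχ).mp hh
  -- e = ν(χ(1)) is the infimum
  have he : sInf ((fun χ : Cfsg.IrrCharacter G => (Cfsg.charDegree (χ : G → ℂ)).factorization p) ''
      (Cfsg.blockOf M (χ₀ : G → ℂ))) = (Cfsg.charDegree (χ : G → ℂ)).factorization p := by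
    apply le_antisymm
    · exact Nat.sInf_le ⟨χ, hχ, rfl⟩
    · apply le_csInf (Set.image_nonempty.mpr ⟨χ, hχ⟩)
      rintro _ ⟨ψ, hψ, rfl⟩
      exact hmin ψ hψ
  have hcard := factorization_card_eq_sInf_add_defect (p := p) _ χ₀ hχ₀
  rw [he] at hcard
  obtain ⟨T, hT⟩ : ∃ T, T = ∑ β ∈ Finset.univ.filter (· ∈ Cfsg.blockOf M (χ₀ : G → ℂ)),
        Cfsg.charDegree (β : G → ℂ) * trivMult (P : Subgroup G) (β : G → ℂ) := ⟨_, rfl⟩
  rw [← hT] at h2
  have h1' : ¬ p ^ ((Cfsg.charDegree (χ : G → ℂ)).factorization p + 1) ∣ T := by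
    intro hd
    apply h1
    have : ((T : ℕ) : ℤ) = ∑ β ∈ Finset.univ.filter (· ∈ Cfsg.blockOf M (χ₀ : G → ℂ)),
        (Cfsg.charDegree (β : G → ℂ) : ℤ) * (trivMult (P : Subgroup G) (β : G → ℂ) : ℤ) := by
      rw [hT]
      push_cast
      rfl
    rw [← this]
    exact_mod_cast hd
  have h3 : p ^ ((Cfsg.charDegree (χ : G → ℂ)).factorization p) ∣ T := by
    rw [hT]
    apply Finset.dvd_sum
    intro β hβ
    rw [Finset.mem_filter] at hβ
    apply Dvd.dvd.mul_right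
    exact (pow_dvd_pow p (hmin β hβ.2)).trans (Nat.ordProj_dvd _ _)
  have hT0 : T ≠ 0 := by
    intro h0
    apply h1'
    rw [h0]
    exact dvd_zero _
  have hTf : T.factorization p = (Cfsg.charDegree (χ : G → ℂ)).factorization p := by
    apply le_antisymm
    · by_contra hlt
      push Not at hlt
      apply h1'
      exact (pow_dvd_pow p hlt).trans (Nat.ordProj_dvd _ _)
    · exact (hp.pow_dvd_iff_le_factorization hT0).mp h3
  rw [h2, hP, Nat.factorization_mul (pow_pos hp.pos _).ne' hT0, Finsupp.add_apply,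
    hp.factorization_pow, Finsupp.single_eq_same, hTf]
  omega

theorem trivMult_comp_pow (P : Subgroup G) (β : G → ℂ) {k : ℕ}
    (hk : Nat.Coprime k (Nat.card G)) :
    trivMult P (fun g => β (g ^ k)) = trivMult P β := by
  have hkP : (Nat.card P).Coprime k :=
    (Nat.Coprime.coprime_dvd_right (Subgroup.card_subgroup_dvd_card P) hk).symm
  unfold trivMult
  have h1 : ∑ᶠ x : P, β ((x : G) ^ k) = ∑ᶠ x : P, β x := by
    rw [← finsum_comp_equiv (powCoprime hkP) (f := fun x : P => β x)]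
    apply finsum_congr
    intro x
    rfl
  rw [h1]

end dim

end Cfsg.Agent.Lib.Helper6
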