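import Mathlib
import Cfsg.Agent.Lib.Helper6.CliffordCorr
import Cfsg.Agent.Lib.Helper6.BlkCover
import Cfsg.Agent.S0146

set_option autoImplicit false
set_option linter.unusedSectionVars false
open Cfsg

namespace Cfsg.Agent.Lib.Helper6

open scoped ComplexConjugate

section cliffordStab

variable {G : Type*} [Group G] [Fintype G]
variable (N : Subgroup G) [Fintype N] (hN : N.Normal) (T : Subgroup G) [Fintype T] (hNT : N ≤ T)

/-- two irreducible constituents of the restriction to `N` of an irreducible character of an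
intermediate subgroup `T` are `T`-conjugate -/
theorem exists_conjFun_eq_of_constituents_of_le {ψ : T → ℂ} (hψ : Cfsg.IsIrrCharacter T ψ)
    {θ θ' : N → ℂ} (hθ : Cfsg.IsIrrCharacter N θ) (hθ' : Cfsg.IsIrrCharacter N θ')
    (hc : Cfsg.classInner (fun n : N => ψ ⟨n, hNT n.2⟩) θ ≠ 0)
    (hc' : Cfsg.classInner (fun n : N => ψ ⟨n, hNT n.2⟩) θ' ≠ 0) :
    ∃ t ∈ T, θ' = conjFun N hN θ t := by
  classical
  have hK : (N.subgroupOf T).Normal := hN.subgroupOf T
  let e : (N.subgroupOf T) ≃* N := Subgroup.subgroupOfEquivOfLe hNT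
  have : Fintype (N.subgroupOf T) := Fintype.ofFinite _
  have hθe : Cfsg.IsIrrCharacter (N.subgroupOf T) (fun k => θ (e k)) :=
    IsIrrCharacter.comp_mulEquiv e hθ
  have hθe' : Cfsg.IsIrrCharacter (N.subgroupOf T) (fun k => θ' (e k)) :=
    IsIrrCharacter.comp_mulEquiv e hθ'
  have hres : (fun k : N.subgroupOf T => ψ k)
      = fun k => (fun n : N => ψ ⟨n, hNT n.2⟩) (e k) := by
    funext k
    rfl
  have hinner : ∀ φ : N → ℂ, Cfsg.classInner (fun k : N.subgroupOf T => ψ k) (fun k => φ (e k))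
      = Cfsg.classInner (fun n : N => ψ ⟨n, hNT n.2⟩) φ := by
    intro φ
    rw [hres]
    exact classInner_comp_mulEquiv e (fun n : N => ψ ⟨n, hNT n.2⟩) φ
  obtain ⟨t, ht⟩ := exists_conjFun_eq_of_constituents (N.subgroupOf T) hK hψ hθe hθe'
    (by rw [hinner]; exact hc) (by rw [hinner]; exact hc')
  refine ⟨(t : G), t.2, ?_⟩
  funext n
  have h1 := congrFun ht (e.symm n)
  simp only [MulEquiv.apply_symm_apply] at h1
  rw [h1, conjFun_apply, conjFun_apply]
  rfl

/-- restriction of a class function of `T` to `N` is invariant under `T`-conjugation -/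
theorem conjFun_restrict_of_le {ψ : T → ℂ} (hψ : Cfsg.IsClassFunction T ψ) {t : G} (ht : t ∈ T) :
    conjFun N hN (fun n : N => ψ ⟨n, hNT n.2⟩) t = fun n : N => ψ ⟨n, hNT n.2⟩ := by
  funext n
  rw [conjFun_apply]
  have h1 := hψ ⟨n, hNT n.2⟩ ⟨t, ht⟩
  rw [← h1]
  rfl

/-- the multiplicity of `θ` in the restriction of the character induced from `T ⊇ T_θ` -/
theorem classInner_indFun_restrict_of_stab (θ : Cfsg.IrrCharacter N)
    (hstab : ∀ g : G, conjFun N hN (θ : N → ℂ) g = (θ : N → ℂ) → g ∈ T)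
    (ψ : Cfsg.IrrCharacter T)
    (hc : Cfsg.classInner (fun n : N => (ψ : T → ℂ) ⟨n, hNT n.2⟩) (θ : N → ℂ) ≠ 0) :
    Cfsg.classInner (fun n : N => Cfsg.indFun T (ψ : T → ℂ) n) (θ : N → ℂ)
      = Cfsg.classInner (fun n : N => (ψ : T → ℂ) ⟨n, hNT n.2⟩) (θ : N → ℂ) := by
  classical
  rw [indFun_restrict_of_le_normal N hN T hNT, classInner_smul_left, classInner_sum_left]
  have h1 : ∀ x : G, Cfsg.classInner (conjFun N hN (fun n : N => (ψ : T → ℂ) ⟨n, hNT n.2⟩) x)
      (θ : N → ℂ) = if x ∈ T then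
        Cfsg.classInner (fun n : N => (ψ : T → ℂ) ⟨n, hNT n.2⟩) (θ : N → ℂ) else 0 := by
    intro x
    split_ifs with hx
    · rw [conjFun_restrict_of_le N hN T hNT (IsIrrCharacter.isClassFunction ψ.2) hx]
    · have h2 := classInner_conjFun_conjFun N hN (fun n : N => (ψ : T → ℂ) ⟨n, hNT n.2⟩)
        (conjFun N hN (θ : N → ℂ) x⁻¹) x
      rw [conjFun_conjFun, inv_mul_cancel, conjFun_one] at h2
      rw [h2]
      by_contra hne
      obtain ⟨t, ht, htθ⟩ := exists_conjFun_eq_of_constituents_of_le N hN T hNT ψ.2 θ.2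
        (IsIrrCharacter.conjFun N hN θ.2 x⁻¹) hc hne
      have h3 : conjFun N hN (θ : N → ℂ) (x⁻¹ * t⁻¹) = (θ : N → ℂ) := by
        rw [← conjFun_conjFun, htθ, conjFun_conjFun, mul_inv_cancel, conjFun_one]
      have h4 := hstab _ h3
      apply hx
      have h5 : x = t⁻¹ * (x⁻¹ * t⁻¹)⁻¹ := by group
      rw [h5]
      exact T.mul_mem (T.inv_mem ht) (T.inv_mem h4)
  rw [Finset.sum_congr rfl (fun x _ => h1 x), ← Finset.sum_filter, Finset.sum_const]
  have hcard : (Finset.univ.filter (fun x : G => x ∈ T)).card = Nat.card T := by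
    rw [Nat.card_eq_fintype_card, Fintype.card_subtype]
  rw [hcard, nsmul_eq_mul, ← mul_assoc, inv_mul_cancel₀ (card_ne_zero_complex T), one_mul]

/-- the Clifford correspondence for an intermediate subgroup: irreducibility of the induced
character -/
theorem indFun_isIrrCharacter_of_stab (θ : Cfsg.IrrCharacter N)
    (hstab : ∀ g : G, conjFun N hN (θ : N → ℂ) g = (θ : N → ℂ) → g ∈ T)
    (ψ : Cfsg.IrrCharacter T)
    (hc : Cfsg.classInner (fun n : N => (ψ : T → ℂ) ⟨n, hNT n.2⟩) (θ : N → ℂ) ≠ 0) :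
    Cfsg.IsIrrCharacter G (Cfsg.indFun T (ψ : T → ℂ)) := by
  classical
  obtain ⟨A, hAdef⟩ : ∃ A, A = Cfsg.indFun T (ψ : T → ℂ) := ⟨_, rfl⟩
  rw [← hAdef]
  have hA : Cfsg.IsCharacter G A := by
    rw [hAdef]; exact IsCharacter.indFun T (IsIrrCharacter.isCharacter ψ.2)
  have hAN : Cfsg.classInner (fun n : N => A n) (θ : N → ℂ)
      = Cfsg.classInner (fun n : N => (ψ : T → ℂ) ⟨n, hNT n.2⟩) (θ : N → ℂ) := by
    rw [hAdef]; exact classInner_indFun_restrict_of_stab N hN T hNT θ hstab ψ hc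
  have hψN : Cfsg.IsCharacter N (fun n : N => (ψ : T → ℂ) ⟨n, hNT n.2⟩) :=
    IsCharacter.comp (Subgroup.inclusion hNT) (IsIrrCharacter.isCharacter ψ.2)
  obtain ⟨f, hf⟩ := IsCharacter.classInner_irr_nat hψN θ.2
  have hf0 : f ≠ 0 := by
    intro h0
    apply hc
    rw [hf, h0, Nat.cast_zero]
  have key : ∀ χ' : Cfsg.IrrCharacter G, Cfsg.classInner A (χ' : G → ℂ) ≠ 0 →
      ∃ k : ℕ, Cfsg.classInner (fun n : N => (χ' : G → ℂ) n) (θ : N → ℂ) = (f : ℂ) + k := by
    intro χ' h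
    have h1 : Cfsg.classInner (fun t : T => (χ' : G → ℂ) t) (ψ : T → ℂ) ≠ 0 := by
      have h2 := Cfsg.Agent.S0146.result T (ψ : T → ℂ) (χ' : G → ℂ)
        (IsIrrCharacter.isClassFunction χ'.2)
      rw [hAdef, h2] at h
      intro h0
      apply h
      rw [← classInner_conj_symm, h0, map_zero]
    obtain ⟨k, hk⟩ := IsCharacter.classInner_comp_ge (Subgroup.inclusion hNT)
      (IsCharacter.restrict T (IsIrrCharacter.isCharacter χ'.2)) ψ.2 h1 θ.2
    refine ⟨k, ?_⟩
    rw [← hf]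
    exact hk
  have hA1 : A 1 ≠ 0 := by
    rw [hAdef, indFun_one]
    apply mul_ne_zero
    · have : T.index ≠ 0 := Subgroup.index_ne_zero_of_finite
      exact_mod_cast this
    · exact IsIrrCharacter.apply_one_ne_zero ψ.2
  obtain ⟨χ, hχ⟩ := IsCharacter.exists_constituent hA hA1
  obtain ⟨Δ, hΔ, hAΔ⟩ := IsCharacter.exists_eq_add_of_constituent hA χ.2 hχ
  obtain ⟨k, hk⟩ := key χ hχ
  obtain ⟨d, hd⟩ := IsCharacter.classInner_irr_nat (IsCharacter.restrict N hΔ) θ.2
  have hsum : Cfsg.classInner (fun n : N => A n) (θ : N → ℂ)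
      = Cfsg.classInner (fun n : N => (χ : G → ℂ) n) (θ : N → ℂ)
        + Cfsg.classInner (fun n : N => Δ n) (θ : N → ℂ) := by
    have h1 : (fun n : N => A n) = (fun n : N => (χ : G → ℂ) n) + (fun n : N => Δ n) := by
      funext n
      rw [hAΔ]
      rfl
    rw [h1, classInner_add_left]
  rw [hAN, hf, hk, hd] at hsum
  have hnat : f = f + k + d := by exact_mod_cast hsum
  have hd0 : d = 0 := by omega
  have hΔ0 : Δ = 0 := by
    apply eq_zero_of_classInner_irr_eq_zero Δ (IsCharacter.isClassFunction hΔ)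
    intro χ'
    by_contra hne
    have h2 : Cfsg.classInner A (χ' : G → ℂ) ≠ 0 := by
      rw [hAΔ, classInner_add_left]
      obtain ⟨a, ha⟩ := IsCharacter.classInner_irr_nat (IsIrrCharacter.isCharacter χ.2) χ'.2
      obtain ⟨b, hb⟩ := IsCharacter.classInner_irr_nat hΔ χ'.2
      rw [ha, hb]
      rw [hb] at hne
      have hb0 : b ≠ 0 := by exact_mod_cast hne
      have : a + b ≠ 0 := by omega
      exact_mod_cast this
    obtain ⟨k', hk'⟩ := key χ' h2
    obtain ⟨k'', hk''⟩ := IsCharacter.classInner_comp_ge N.subtype hΔ χ'.2 hne θ.2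
    have h3 : Cfsg.classInner (fun n : N => Δ n) (θ : N → ℂ)
        = Cfsg.classInner (fun n : N => (χ' : G → ℂ) n) (θ : N → ℂ) + k'' := hk''
    rw [hd, hk', hd0] at h3
    have : (0 : ℕ) = f + k' + k'' := by exact_mod_cast h3
    omega
  rw [hAΔ, hΔ0, add_zero]
  exact χ.2

/-- the Clifford correspondence for an intermediate subgroup: surjectivity -/
theorem exists_indFun_eq_of_stab (θ : Cfsg.IrrCharacter N)
    (hstab : ∀ g : G, conjFun N hN (θ : N → ℂ) g = (θ : N → ℂ) → g ∈ T)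
    (χ : Cfsg.IrrCharacter G)
    (hc : Cfsg.classInner (fun n : N => (χ : G → ℂ) n) (θ : N → ℂ) ≠ 0) :
    ∃ ψ : Cfsg.IrrCharacter T,
      Cfsg.classInner (fun n : N => (ψ : T → ℂ) ⟨n, hNT n.2⟩) (θ : N → ℂ) ≠ 0 ∧
      Cfsg.indFun T (ψ : T → ℂ) = (χ : G → ℂ) := by
  classical
  haveI : Fintype (Cfsg.IrrCharacter T) := Fintype.ofFinite _
  have hχT : Cfsg.IsCharacter T (fun t : T => (χ : G → ℂ) t) :=
    IsCharacter.restrict T (IsIrrCharacter.isCharacter χ.2)
  obtain ⟨μ, hμ, hμi⟩ := IsCharacter.exists_mult hχT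
  have hχN : (fun n : N => (χ : G → ℂ) n)
      = ∑ ψ : Cfsg.IrrCharacter T, (μ ψ : ℂ) • (fun n : N => (ψ : T → ℂ) ⟨n, hNT n.2⟩) := by
    funext n
    have h1 := congrFun hμ ⟨(n : G), hNT n.2⟩
    simp only [Finset.sum_apply, nsmul_eq_mul] at h1
    simp only [Finset.sum_apply, Pi.smul_apply, smul_eq_mul]
    exact h1
  have hex : ∃ ψ : Cfsg.IrrCharacter T, μ ψ ≠ 0 ∧
      Cfsg.classInner (fun n : N => (ψ : T → ℂ) ⟨n, hNT n.2⟩) (θ : N → ℂ) ≠ 0 := by
    by_contra hno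
    push Not at hno
    apply hc
    rw [hχN, classInner_sum_left]
    apply Finset.sum_eq_zero
    intro ψ _
    rw [classInner_smul_left]
    by_cases h0 : μ ψ = 0
    · rw [h0]; simp
    · rw [hno ψ h0, mul_zero]
  obtain ⟨ψ, hμψ, hψc⟩ := hex
  refine ⟨ψ, hψc, ?_⟩
  have hirr := indFun_isIrrCharacter_of_stab N hN T hNT θ hstab ψ hψc
  have h1 := Cfsg.Agent.S0146.result T (ψ : T → ℂ) (χ : G → ℂ)
    (IsIrrCharacter.isClassFunction χ.2)
  have h2 : Cfsg.classInner (ψ : T → ℂ) (fun t : T => (χ : G → ℂ) t) ≠ 0 := by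
    rw [← classInner_conj_symm, hμi ψ]
    simp only [map_natCast]
    exact_mod_cast hμψ
  rw [← h1, classInner_isIrrCharacter hirr χ.2] at h2
  by_contra hne
  rw [if_neg hne] at h2
  exact h2 rfl

end cliffordStab

end Cfsg.Agent.Lib.Helper6
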