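import Mathlib
import Cfsg.Agent.Lib.Helper6.CliffordStab
import Cfsg.Agent.Lib.Helper6.BlkCover2
import Cfsg.Agent.Lib.Helper6.BlkCover3
import Cfsg.Agent.Lib.Helper6.BlkTrans

set_option autoImplicit false
set_option linter.unusedSectionVars false
open Cfsg

namespace Cfsg.Agent.Lib.Helper6

open scoped ComplexConjugate

section frDict

variable {G : Type*} [Group G] [Fintype G]
variable {p : ℕ} {M : Ideal Cfsg.AlgInt}
variable (N : Subgroup G) [Fintype N] (hN : N.Normal) (T : Subgroup G) [Fintype T] (hNT : N ≤ T)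

/-- transport of irreducible characters of `N` to `N.subgroupOf T` -/
noncomputable def irrSub : Cfsg.IrrCharacter N ≃ Cfsg.IrrCharacter (N.subgroupOf T) where
  toFun θ := ⟨fun k => (θ : N → ℂ) (Subgroup.subgroupOfEquivOfLe hNT k),
    IsIrrCharacter.comp_mulEquiv (Subgroup.subgroupOfEquivOfLe hNT) θ.2⟩
  invFun θ' := ⟨fun n => (θ' : N.subgroupOf T → ℂ) ((Subgroup.subgroupOfEquivOfLe hNT).symm n),
    IsIrrCharacter.comp_mulEquiv (Subgroup.subgroupOfEquivOfLe hNT).symm θ'.2⟩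
  left_inv θ := by
    apply Subtype.ext
    funext n
    simp
  right_inv θ' := by
    apply Subtype.ext
    funext k
    simp

theorem irrSub_apply (θ : Cfsg.IrrCharacter N) (k : N.subgroupOf T) :
    ((irrSub N T hNT θ : Cfsg.IrrCharacter (N.subgroupOf T)) : N.subgroupOf T → ℂ) k
      = (θ : N → ℂ) (Subgroup.subgroupOfEquivOfLe hNT k) := rfl

theorem classInner_restrict_irrSub [Fintype (N.subgroupOf T)] (ψ : T → ℂ) (θ : Cfsg.IrrCharacter N) :
    Cfsg.classInner (fun k : N.subgroupOf T => ψ k)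
        ((irrSub N T hNT θ : Cfsg.IrrCharacter (N.subgroupOf T)) : N.subgroupOf T → ℂ)
      = Cfsg.classInner (fun n : N => ψ ⟨n, hNT n.2⟩) (θ : N → ℂ) := by
  have hres : (fun k : N.subgroupOf T => ψ k)
      = fun k => (fun n : N => ψ ⟨n, hNT n.2⟩) (Subgroup.subgroupOfEquivOfLe hNT k) := by
    funext k
    rfl
  rw [hres]
  exact classInner_comp_mulEquiv (Subgroup.subgroupOfEquivOfLe hNT)
    (fun n : N => ψ ⟨n, hNT n.2⟩) (θ : N → ℂ)

theorem sameBlock_irrSub (θ θ' : Cfsg.IrrCharacter N) :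
    Cfsg.SameBlock M ((irrSub N T hNT θ : Cfsg.IrrCharacter (N.subgroupOf T)) : N.subgroupOf T → ℂ)
      ((irrSub N T hNT θ' : Cfsg.IrrCharacter (N.subgroupOf T)) : N.subgroupOf T → ℂ)
      ↔ Cfsg.SameBlock M (θ : N → ℂ) (θ' : N → ℂ) :=
  sameBlock_comp_mulEquiv (Subgroup.subgroupOfEquivOfLe hNT)

theorem image_irrSub_blockOf (θ₀ : Cfsg.IrrCharacter N) :
    irrSub N T hNT '' Cfsg.blockOf M (θ₀ : N → ℂ)
      = Cfsg.blockOf M ((irrSub N T hNT θ₀ : Cfsg.IrrCharacter (N.subgroupOf T)) : N.subgroupOf T → ℂ) := by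
  ext θ'
  constructor
  · rintro ⟨θ, hθ, rfl⟩
    exact (sameBlock_irrSub N T hNT θ₀ θ).2 hθ
  · intro h
    refine ⟨(irrSub N T hNT).symm θ', ?_, (irrSub N T hNT).apply_symm_apply θ'⟩
    have h1 : Cfsg.SameBlock M
        ((irrSub N T hNT θ₀ : Cfsg.IrrCharacter (N.subgroupOf T)) : N.subgroupOf T → ℂ)
        ((irrSub N T hNT ((irrSub N T hNT).symm θ') : Cfsg.IrrCharacter (N.subgroupOf T)) :
          N.subgroupOf T → ℂ) := by
      rw [(irrSub N T hNT).apply_symm_apply θ']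
      exact h
    exact (sameBlock_irrSub N T hNT θ₀ _).1 h1

theorem irrConj_irrSub (t : T) (θ : Cfsg.IrrCharacter N) :
    irrConj (N.subgroupOf T) (hN.subgroupOf T) t (irrSub N T hNT θ)
      = irrSub N T hNT (irrConj N hN (t : G) θ) := by
  apply Subtype.ext
  funext k
  rfl

end frDict

section frStab

variable {G : Type*} [Group G] [Fintype G] [DecidableEq G]
variable {p : ℕ} {M : Ideal Cfsg.AlgInt}
variable (N : Subgroup G) [Fintype N] (hN : N.Normal) (T : Subgroup G) [Fintype T] (hNT : N ≤ T)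
variable (b : Set (Cfsg.IrrCharacter N))

/-- the two ways of saying that `g` stabilizes `b` -/
theorem stab_iff_irrConj (g : G) :
    (∀ θ ∈ b, ∀ θ' : Cfsg.IrrCharacter N, (∀ n : N, (θ' : N → ℂ) n
      = (θ : N → ℂ) ⟨g * n * g⁻¹, hN.conj_mem n n.2 g⟩) → θ' ∈ b)
      ↔ ∀ θ ∈ b, irrConj N hN g θ ∈ b := by
  constructor
  · intro h θ hθ
    exact h θ hθ _ (fun n => rfl)
  · intro h θ hθ θ' hθ'
    have : θ' = irrConj N hN g θ := by
      apply Subtype.ext
      funext n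
      exact hθ' n
    rw [this]
    exact h θ hθ

variable (hT : ∀ g : G, g ∈ T ↔ ∀ θ ∈ b, irrConj N hN g θ ∈ b)

include hT in
theorem mem_stab_of_conj_mem (hM : Cfsg.IsPModular p M) (hb : Cfsg.IsPBlock M b)
    {θ : Cfsg.IrrCharacter N} (hθ : θ ∈ b) {g : G} (h : irrConj N hN g θ ∈ b) : g ∈ T := by
  rw [hT]
  intro θ₁ hθ₁
  obtain ⟨θ₀, rfl⟩ := hb
  have h1 : Cfsg.SameBlock M (θ : N → ℂ) (θ₁ : N → ℂ) :=
    SameBlock.trans' hM (SameBlock.symm' hθ) hθ₁
  have h2 := sameBlock_conjFun N hN h1 g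
  exact SameBlock.trans' hM h h2

include hT in
theorem stab_le_of_mem (hM : Cfsg.IsPModular p M) (hb : Cfsg.IsPBlock M b)
    {θ : Cfsg.IrrCharacter N} (hθ : θ ∈ b) :
    ∀ g : G, conjFun N hN (θ : N → ℂ) g = (θ : N → ℂ) → g ∈ T := by
  intro g hg
  apply mem_stab_of_conj_mem N hN T b hT hM hb hθ
  have : irrConj N hN g θ = θ := Subtype.ext hg
  rw [this]
  exact hθ

include hT in
theorem gStable_image_irrSub :
    GStable (N.subgroupOf T) (hN.subgroupOf T) (irrSub N T hNT '' b) := by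
  rintro _ ⟨θ, hθ, rfl⟩ t
  rw [irrConj_irrSub N hN T hNT]
  exact ⟨_, (hT t).1 t.2 θ hθ, rfl⟩

include hT in
/-- all constituents of the restriction to `N` of members of a block of `T` covering `b` lie in
`b` -/
theorem mem_of_constituent_of_sameBlock (hM : Cfsg.IsPModular p M) (hb : Cfsg.IsPBlock M b)
    (ψ₀ ψ : Cfsg.IrrCharacter T) (hψ : Cfsg.SameBlock M (ψ₀ : T → ℂ) (ψ : T → ℂ))
    (θ₀ : Cfsg.IrrCharacter N) (hθ₀ : θ₀ ∈ b)
    (hc₀ : Cfsg.classInner (fun n : N => (ψ₀ : T → ℂ) ⟨n, hNT n.2⟩) (θ₀ : N → ℂ) ≠ 0)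
    (θ : Cfsg.IrrCharacter N)
    (hc : Cfsg.classInner (fun n : N => (ψ : T → ℂ) ⟨n, hNT n.2⟩) (θ : N → ℂ) ≠ 0) : θ ∈ b := by
  classical
  haveI : Fintype (N.subgroupOf T) := Fintype.ofFinite _
  have hA := gStable_image_irrSub N hN T hNT b hT
  have hS : ∀ k : N.subgroupOf T,
      Cfsg.MemLocalRing M (Cfsg.blockCoeff (irrSub N T hNT '' b) k) := by
    obtain ⟨θ₁, rfl⟩ := hb
    intro k
    rw [image_irrSub_blockOf]
    exact blockCoeff_memLocalRing hM _ k
  have h1 := constituents_mem_of_sameBlock (N.subgroupOf T) (hN.subgroupOf T) hM hA hS ψ₀ ψ hψ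
    (irrSub N T hNT θ₀) ⟨θ₀, hθ₀, rfl⟩
    (by rw [classInner_restrict_irrSub]; exact hc₀)
    (irrSub N T hNT θ) (by rw [classInner_restrict_irrSub]; exact hc)
  obtain ⟨θ', hθ', he⟩ := h1
  have := (irrSub N T hNT).injective he
  rw [← this]
  exact hθ'

end frStab

end Cfsg.Agent.Lib.Helper6
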