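import Mathlib
import Cfsg.Agent.Lib.Helper6.BlkFRDict

set_option autoImplicit false
set_option linter.unusedSectionVars false
open Cfsg

namespace Cfsg.Agent.Lib.Helper6

open scoped ComplexConjugate

section frMult

variable {G : Type*} [Group G] [Fintype G] [DecidableEq G]
variable {p : ℕ} {M : Ideal Cfsg.AlgInt}
variable (N : Subgroup G) [Fintype N] (hN : N.Normal) (T : Subgroup G) [Fintype T] (hNT : N ≤ T)

theorem classInner_restrict_conjFun_of_le {ψ : T → ℂ} (hψ : Cfsg.IsClassFunction T ψ) (θ : N → ℂ)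
    {t : G} (ht : t ∈ T) :
    Cfsg.classInner (fun n : N => ψ ⟨n, hNT n.2⟩) (conjFun N hN θ t)
      = Cfsg.classInner (fun n : N => ψ ⟨n, hNT n.2⟩) θ := by
  have h1 := classInner_conjFun_conjFun N hN (fun n : N => ψ ⟨n, hNT n.2⟩) θ t
  rw [conjFun_restrict_of_le N hN T hNT hψ ht] at h1
  exact h1

/-- the induced character restricted to `T` contains the inducing character exactly once -/
theorem classInner_restrict_indFun_self (ψ : Cfsg.IrrCharacter T)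
    (hirr : Cfsg.IsIrrCharacter G (Cfsg.indFun T (ψ : T → ℂ))) :
    Cfsg.classInner (fun t : T => Cfsg.indFun T (ψ : T → ℂ) t) (ψ : T → ℂ) = 1 := by
  have h1 := Cfsg.Agent.S0146.result T (ψ : T → ℂ) (Cfsg.indFun T (ψ : T → ℂ))
    (IsIrrCharacter.isClassFunction hirr)
  rw [classInner_isIrrCharacter hirr hirr, if_pos rfl] at h1
  rw [← classInner_conj_symm, ← h1, map_one]

/-- if `ψ'` lies over `θ'` and `ψ ≠ ψ'` is another constituent of the restriction of the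
character induced from `ψ'`, then `ψ` does not lie over `θ'` -/
theorem classInner_eq_zero_of_ne (θ' : Cfsg.IrrCharacter N)
    (hstab : ∀ g : G, conjFun N hN (θ' : N → ℂ) g = (θ' : N → ℂ) → g ∈ T)
    (ψ ψ' : Cfsg.IrrCharacter T) (hne : ψ ≠ ψ')
    (hc' : Cfsg.classInner (fun n : N => (ψ' : T → ℂ) ⟨n, hNT n.2⟩) (θ' : N → ℂ) ≠ 0)
    (hψ : Cfsg.classInner (fun t : T => Cfsg.indFun T (ψ' : T → ℂ) t) (ψ : T → ℂ) ≠ 0) :
    Cfsg.classInner (fun n : N => (ψ : T → ℂ) ⟨n, hNT n.2⟩) (θ' : N → ℂ) = 0 := by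
  classical
  have hirr := indFun_isIrrCharacter_of_stab N hN T hNT θ' hstab ψ' hc'
  have hAN := classInner_indFun_restrict_of_stab N hN T hNT θ' hstab ψ' hc'
  obtain ⟨A, hAdef⟩ : ∃ A, A = Cfsg.indFun T (ψ' : T → ℂ) := ⟨_, rfl⟩
  rw [← hAdef] at hirr hAN hψ
  have hAT : Cfsg.IsCharacter T (fun t : T => A t) :=
    IsCharacter.restrict T (IsIrrCharacter.isCharacter hirr)
  have h1 : Cfsg.classInner (fun t : T => A t) (ψ' : T → ℂ) ≠ 0 := by
    rw [hAdef, classInner_restrict_indFun_self T ψ' (hAdef ▸ hirr)]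
    exact one_ne_zero
  obtain ⟨Δ₁, hΔ₁, hA1⟩ := IsCharacter.exists_eq_add_of_constituent hAT ψ'.2 h1
  have h2 : Cfsg.classInner Δ₁ (ψ : T → ℂ) ≠ 0 := by
    have h3 : Cfsg.classInner (fun t : T => A t) (ψ : T → ℂ)
        = Cfsg.classInner (ψ' : T → ℂ) (ψ : T → ℂ) + Cfsg.classInner Δ₁ (ψ : T → ℂ) := by
      rw [hA1, classInner_add_left]
    rw [classInner_irrCharacter, if_neg (Ne.symm hne), zero_add] at h3
    rw [← h3]
    exact hψ
  obtain ⟨Δ₂, hΔ₂, hA2⟩ := IsCharacter.exists_eq_add_of_constituent hΔ₁ ψ.2 h2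
  have h4 : (fun n : N => A n) = (fun n : N => (ψ' : T → ℂ) ⟨n, hNT n.2⟩)
      + (fun n : N => (ψ : T → ℂ) ⟨n, hNT n.2⟩) + (fun n : N => Δ₂ ⟨n, hNT n.2⟩) := by
    funext n
    have h5 := congrFun hA1 ⟨n, hNT n.2⟩
    have h6 := congrFun hA2 ⟨n, hNT n.2⟩
    simp only [Pi.add_apply] at h5 h6 ⊢
    rw [h5, h6]
    ring
  have h8 : Cfsg.classInner (fun n : N => A n) (θ' : N → ℂ)
      = Cfsg.classInner (fun n : N => (ψ' : T → ℂ) ⟨n, hNT n.2⟩) (θ' : N → ℂ)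
        + Cfsg.classInner (fun n : N => (ψ : T → ℂ) ⟨n, hNT n.2⟩) (θ' : N → ℂ)
        + Cfsg.classInner (fun n : N => Δ₂ ⟨n, hNT n.2⟩) (θ' : N → ℂ) := by
    rw [h4, classInner_add_left, classInner_add_left]
  obtain ⟨a, ha⟩ := IsCharacter.classInner_irr_nat
    (IsCharacter.comp (Subgroup.inclusion hNT) (IsIrrCharacter.isCharacter ψ'.2)) θ'.2
  obtain ⟨c, hc⟩ := IsCharacter.classInner_irr_nat
    (IsCharacter.comp (Subgroup.inclusion hNT) (IsIrrCharacter.isCharacter ψ.2)) θ'.2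
  obtain ⟨d, hd⟩ := IsCharacter.classInner_irr_nat
    (IsCharacter.comp (Subgroup.inclusion hNT) hΔ₂) θ'.2
  have ha' : Cfsg.classInner (fun n : N => (ψ' : T → ℂ) ⟨n, hNT n.2⟩) (θ' : N → ℂ) = a := ha
  have hc'' : Cfsg.classInner (fun n : N => (ψ : T → ℂ) ⟨n, hNT n.2⟩) (θ' : N → ℂ) = c := hc
  have hd' : Cfsg.classInner (fun n : N => Δ₂ ⟨n, hNT n.2⟩) (θ' : N → ℂ) = d := hd
  rw [hAN, ha', hc'', hd'] at h8
  have : a = a + c + d := by exact_mod_cast h8
  have hc0 : c = 0 := by omega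
  rw [hc'', hc0, Nat.cast_zero]

variable (b : Set (Cfsg.IrrCharacter N))
variable (hT : ∀ g : G, g ∈ T ↔ ∀ θ ∈ b, irrConj N hN g θ ∈ b)

include hT in
/-- the other constituents of the restriction to `T` of a character induced from a character
over `b` do not lie over `b` -/
theorem classInner_eq_zero_of_ne_of_mem (hM : Cfsg.IsPModular p M) (hb : Cfsg.IsPBlock M b)
    (ψ ψ' : Cfsg.IrrCharacter T) (hne : ψ' ≠ ψ) (θ : Cfsg.IrrCharacter N) (hθ : θ ∈ b)
    (hc : Cfsg.classInner (fun n : N => (ψ : T → ℂ) ⟨n, hNT n.2⟩) (θ : N → ℂ) ≠ 0)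
    (hψ' : Cfsg.classInner (fun t : T => Cfsg.indFun T (ψ : T → ℂ) t) (ψ' : T → ℂ) ≠ 0) :
    ∀ θ' ∈ b, Cfsg.classInner (fun n : N => (ψ' : T → ℂ) ⟨n, hNT n.2⟩) (θ' : N → ℂ) = 0 := by
  classical
  intro θ' hθ'
  by_contra hne'
  have hstab := stab_le_of_mem N hN T b hT hM hb hθ
  have hirr := indFun_isIrrCharacter_of_stab N hN T hNT θ hstab ψ hc
  have hAN := classInner_indFun_restrict_of_stab N hN T hNT θ hstab ψ hc
  have h1 : Cfsg.classInner (fun n : N => Cfsg.indFun T (ψ : T → ℂ) n) (θ : N → ℂ) ≠ 0 := by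
    rw [hAN]; exact hc
  have h2 : Cfsg.classInner (fun n : N => Cfsg.indFun T (ψ : T → ℂ) n) (θ' : N → ℂ) ≠ 0 := by
    obtain ⟨k, hk⟩ := IsCharacter.classInner_comp_ge (Subgroup.inclusion hNT)
      (IsCharacter.restrict T (IsIrrCharacter.isCharacter hirr)) ψ'.2 hψ' θ'.2
    have hk' : Cfsg.classInner (fun n : N => Cfsg.indFun T (ψ : T → ℂ) n) (θ' : N → ℂ)
        = Cfsg.classInner (fun n : N => (ψ' : T → ℂ) ⟨n, hNT n.2⟩) (θ' : N → ℂ) + k := hk
    obtain ⟨a, ha⟩ := IsCharacter.classInner_irr_nat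
      (IsCharacter.comp (Subgroup.inclusion hNT) (IsIrrCharacter.isCharacter ψ'.2)) θ'.2
    have ha' : Cfsg.classInner (fun n : N => (ψ' : T → ℂ) ⟨n, hNT n.2⟩) (θ' : N → ℂ) = a := ha
    rw [hk', ha']
    rw [ha'] at hne'
    have ha0 : a ≠ 0 := by exact_mod_cast hne'
    have : a + k ≠ 0 := by omega
    exact_mod_cast this
  obtain ⟨g, hg⟩ := exists_conjFun_eq_of_constituents N hN hirr θ.2 θ'.2 h1 h2
  have hgT : g ∈ T := by
    apply mem_stab_of_conj_mem N hN T b hT hM hb hθ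
    have : irrConj N hN g θ = θ' := Subtype.ext hg.symm
    rw [this]
    exact hθ'
  have h3 := classInner_eq_zero_of_ne N hN T hNT θ hstab ψ' ψ hne hc hψ'
  apply hne'
  rw [hg, classInner_restrict_conjFun_of_le N hN T hNT (IsIrrCharacter.isClassFunction ψ'.2) _ hgT]
  exact h3

end frMult

end Cfsg.Agent.Lib.Helper6
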