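import Mathlib
import Cfsg.Agent.Lib.Helper6.BlkFRMult

set_option autoImplicit false
set_option linter.unusedSectionVars false
open Cfsg

namespace Cfsg.Agent.Lib.Helper6

open scoped ComplexConjugate

section frTrace

variable {G : Type*} [Group G] [Fintype G] [DecidableEq G]
variable {p : ℕ} {M : Ideal Cfsg.AlgInt}
variable (N : Subgroup G) [Fintype N] (hN : N.Normal) (T : Subgroup G) [Fintype T] (hNT : N ≤ T)
variable [Fintype (N.subgroupOf T)]

/-- a Frobenius reciprocity formula for sums -/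
theorem sum_indFun_mul (c : T → ℂ) {χ : G → ℂ} (hχ : Cfsg.IsClassFunction G χ) :
    ∑ x : G, Cfsg.indFun T c x * χ x = (T.index : ℂ) * ∑ t : T, c t * χ t := by
  have hconj : Cfsg.IsClassFunction G (fun g => conj (χ g)) := by
    intro g h
    simp only
    rw [hχ g h]
  have h1 := Cfsg.Agent.S0146.result T c (fun g => conj (χ g)) hconj
  unfold Cfsg.classInner at h1
  simp only [Complex.conj_conj] at h1
  have hG : (Nat.card G : ℂ) ≠ 0 := card_ne_zero_complex G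
  have hTc : (Nat.card T : ℂ) ≠ 0 := card_ne_zero_complex T
  have hidx : (Nat.card G : ℂ) = (Nat.card T : ℂ) * (T.index : ℂ) := by
    rw [← Nat.cast_mul, T.card_mul_index]
  have h2 : ∑ x : G, Cfsg.indFun T c x * χ x
      = (Nat.card G : ℂ) * ((Nat.card T : ℂ)⁻¹ * ∑ t : T, c t * χ t) := by
    rw [← h1, ← mul_assoc, mul_inv_cancel₀ hG, one_mul]
  rw [h2, hidx]
  field_simp

variable (b : Set (Cfsg.IrrCharacter N))
variable (hT : ∀ g : G, g ∈ T ↔ ∀ θ ∈ b, irrConj N hN g θ ∈ b)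

include hT in
/-- the trace formula of Fong–Reynolds -/
theorem cOmega_indFun_trace (hM : Cfsg.IsPModular p M) (hb : Cfsg.IsPBlock M b)
    (ψ : Cfsg.IrrCharacter T) (θ : Cfsg.IrrCharacter N) (hθ : θ ∈ b)
    (hc : Cfsg.classInner (fun n : N => (ψ : T → ℂ) ⟨n, hNT n.2⟩) (θ : N → ℂ) ≠ 0)
    {X : Matrix T T ℂ} (hX : X ∈ centerAlg T) :
    cOmega (Cfsg.indFun T (ψ : T → ℂ)) (regMat (Cfsg.indFun T
      (fun t : T => (X * liftIdem (N.subgroupOf T) (irrSub N T hNT '' b)) t 1)))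
      = cOmega (ψ : T → ℂ) X := by
  classical
  haveI : Fintype (Cfsg.IrrCharacter T) := Fintype.ofFinite _
  have hstab := stab_le_of_mem N hN T b hT hM hb hθ
  have hirr := indFun_isIrrCharacter_of_stab N hN T hNT θ hstab ψ hc
  have hA := gStable_image_irrSub N hN T hNT b hT
  obtain ⟨F, hF⟩ : ∃ F, F = liftIdem (N.subgroupOf T) (irrSub N T hNT '' b) := ⟨_, rfl⟩
  rw [← hF]
  have hFc : F ∈ centerAlg T := by
    rw [hF]; exact liftIdem_mem_centerAlg (N.subgroupOf T) (hN.subgroupOf T) hA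
  have hY : X * F ∈ centerAlg T := (centerAlg T).mul_mem hX hFc
  obtain ⟨Y, hYdef⟩ : ∃ Y, Y = X * F := ⟨_, rfl⟩
  rw [← hYdef] at hY ⊢
  obtain ⟨χ, hχdef⟩ : ∃ χ, χ = Cfsg.indFun T (ψ : T → ℂ) := ⟨_, rfl⟩
  rw [← hχdef] at hirr ⊢
  have hχT : Cfsg.IsCharacter T (fun t : T => χ t) :=
    IsCharacter.restrict T (IsIrrCharacter.isCharacter hirr)
  obtain ⟨μ, hμ, hμi⟩ := IsCharacter.exists_mult hχT
  rw [cOmega_regMat, sum_indFun_mul T _ (IsIrrCharacter.isClassFunction hirr)]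
  have hχt : ∀ t : T, χ t = ∑ ψ' : Cfsg.IrrCharacter T, (μ ψ' : ℂ) * (ψ' : T → ℂ) t := by
    intro t
    have h1 := congrFun hμ t
    simp only [Finset.sum_apply, nsmul_eq_mul] at h1
    exact h1
  have hψ1 : ∀ ψ' : Cfsg.IrrCharacter T, (ψ' : T → ℂ) 1 ≠ 0 :=
    fun ψ' => IsIrrCharacter.apply_one_ne_zero ψ'.2
  have hsum : ∑ t : T, Y t 1 * χ t
      = ∑ ψ' : Cfsg.IrrCharacter T, (μ ψ' : ℂ) * ((ψ' : T → ℂ) 1 * cOmega (ψ' : T → ℂ) Y) := by
    rw [Finset.sum_congr rfl (fun t _ => by rw [hχt t, Finset.mul_sum]), Finset.sum_comm]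
    apply Finset.sum_congr rfl
    intro ψ' _
    unfold cOmega
    rw [mul_div_cancel₀ _ (hψ1 ψ'), Finset.mul_sum]
    apply Finset.sum_congr rfl
    intro t _
    ring
  rw [hsum]
  have hYψ : ∀ ψ' : Cfsg.IrrCharacter T, cOmega (ψ' : T → ℂ) Y
      = cOmega (ψ' : T → ℂ) X * cOmega (ψ' : T → ℂ) F := by
    intro ψ'
    rw [hYdef]
    exact cOmega_mul ψ'.2 hX hFc.1
  have hμψ : μ ψ = 1 := by
    have h1 := hμi ψ
    rw [hχdef, classInner_restrict_indFun_self T ψ (hχdef ▸ hirr)] at h1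
    exact_mod_cast h1.symm
  have hFψ : cOmega (ψ : T → ℂ) F = 1 := by
    rw [hF]
    exact cOmega_liftIdem_eq_one (N.subgroupOf T) (hN.subgroupOf T) hA ψ.2 (irrSub N T hNT θ)
      ⟨θ, hθ, rfl⟩ (by rw [classInner_restrict_irrSub]; exact hc)
  rw [Finset.sum_eq_single ψ]
  · rw [hμψ, hYψ, hFψ, hχdef, indFun_one]
    have hidx : (T.index : ℂ) ≠ 0 := by
      have : T.index ≠ 0 := Subgroup.index_ne_zero_of_finite
      exact_mod_cast this
    have := hψ1 ψ
    field_simp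
    rw [Nat.cast_one, one_mul]
  · intro ψ' _ hne
    by_cases hμ0 : μ ψ' = 0
    · rw [hμ0, Nat.cast_zero, zero_mul]
    · have hψ' : Cfsg.classInner (fun t : T => Cfsg.indFun T (ψ : T → ℂ) t) (ψ' : T → ℂ) ≠ 0 := by
        rw [← hχdef, hμi ψ']
        exact_mod_cast hμ0
      have h0 := classInner_eq_zero_of_ne_of_mem N hN T hNT b hT hM hb ψ ψ' hne θ hθ hc hψ'
      have hFψ' : cOmega (ψ' : T → ℂ) F = 0 := by
        rw [hF]
        apply cOmega_liftIdem_eq_zero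
        rintro _ ⟨θ', hθ', rfl⟩
        rw [classInner_restrict_irrSub]
        exact h0 θ' hθ'
      rw [hYψ, hFψ', mul_zero, mul_zero, mul_zero]
  · intro h
    exact absurd (Finset.mem_univ ψ) h

end frTrace

end Cfsg.Agent.Lib.Helper6
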