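import Mathlib
import Cfsg.Agent.Lib.Helper6.BlkIdem
import Cfsg.Agent.Lib.Helper6.IndFunTI

set_option autoImplicit false
set_option linter.unusedSectionVars false
open Cfsg

namespace Cfsg.Agent.Lib.Helper6

open scoped ComplexConjugate

section cosetSum

variable {G : Type*} [Group G] [Fintype G] [DecidableEq G]

/-- the decomposition of a group into left cosets with chosen representatives -/
noncomputable def cosetProdEquiv (T : Subgroup G) : G ≃ (G ⧸ T) × T where
  toFun g := ((g : G ⧸ T), ⟨((g : G ⧸ T)).out⁻¹ * g, by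
    rw [← QuotientGroup.eq]
    exact QuotientGroup.out_eq' _⟩)
  invFun qt := qt.1.out * (qt.2 : G)
  left_inv g := by simp
  right_inv qt := by
    obtain ⟨q, t⟩ := qt
    have h1 : ((q.out * (t : G) : G) : G ⧸ T) = q := by
      have : ((q.out * (t : G) : G) : G ⧸ T) = ((q.out : G) : G ⧸ T) := by
        rw [eq_comm, QuotientGroup.eq]
        simp
      rw [this]
      exact QuotientGroup.out_eq' q
    apply Prod.ext
    · exact h1
    · apply Subtype.ext
      simp only
      rw [h1]
      group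

theorem sum_eq_card_mul_sum_quotient (T : Subgroup G) [Fintype T] [Fintype (G ⧸ T)] (f : G → ℂ)
    (hf : ∀ g : G, ∀ t ∈ T, f (g * t) = f g) :
    ∑ g : G, f g = (Nat.card T : ℂ) * ∑ q : G ⧸ T, f q.out := by
  rw [← Equiv.sum_comp (cosetProdEquiv T).symm f, Fintype.sum_prod_type, Finset.mul_sum]
  apply Finset.sum_congr rfl
  intro q _
  have h1 : ∀ t : T, f ((cosetProdEquiv T).symm (q, t)) = f q.out := by
    intro t
    exact hf q.out t t.2
  rw [Finset.sum_congr rfl (fun t _ => h1 t), Finset.sum_const, Finset.card_univ,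
    Nat.card_eq_fintype_card, nsmul_eq_mul]

variable {p : ℕ} {M : Ideal Cfsg.AlgInt}

/-- the function induced from a class function is a sum over coset representatives -/
theorem indFun_eq_sum_quotient (T : Subgroup G) [Fintype T] [Fintype (G ⧸ T)] {c : T → ℂ}
    (hc : Cfsg.IsClassFunction T c) (x : G) :
    Cfsg.indFun T c x = ∑ q : G ⧸ T, Cfsg.extendByZero T c (q.out⁻¹ * x * q.out) := by
  unfold Cfsg.indFun
  rw [sum_eq_card_mul_sum_quotient T (fun g => Cfsg.extendByZero T c (g⁻¹ * x * g)),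
    ← mul_assoc, inv_mul_cancel₀ (card_ne_zero_complex T), one_mul]
  intro g t ht
  have e : (g * t)⁻¹ * x * (g * t) = t⁻¹ * (g⁻¹ * x * g) * t := by group
  rw [e]
  by_cases h : g⁻¹ * x * g ∈ T
  · have h' : t⁻¹ * (g⁻¹ * x * g) * t ∈ T := T.mul_mem (T.mul_mem (T.inv_mem ht) h) ht
    rw [extendByZero_of_mem T c h, extendByZero_of_mem T c h']
    have h2 := hc ⟨g⁻¹ * x * g, h⟩ ⟨t⁻¹, T.inv_mem ht⟩
    rw [← h2]
    congr 1
    apply Subtype.ext
    simp
  · have h' : t⁻¹ * (g⁻¹ * x * g) * t ∉ T := by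
      intro h3
      apply h
      have := T.mul_mem (T.mul_mem ht h3) (T.inv_mem ht)
      have e2 : t * (t⁻¹ * (g⁻¹ * x * g) * t) * t⁻¹ = g⁻¹ * x * g := by group
      rwa [e2] at this
    rw [extendByZero_of_not_mem T c h, extendByZero_of_not_mem T c h']

theorem indFun_memLocalRing (hM : Cfsg.IsPModular p M) (T : Subgroup G) [Fintype T] {c : T → ℂ}
    (hc : Cfsg.IsClassFunction T c) (hcS : ∀ t : T, Cfsg.MemLocalRing M (c t)) (x : G) :
    Cfsg.MemLocalRing M (Cfsg.indFun T c x) := by
  classical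
  haveI : Fintype (G ⧸ T) := Fintype.ofFinite _
  rw [indFun_eq_sum_quotient T hc x]
  apply MemLocalRing.sum hM
  intro q _
  by_cases h : q.out⁻¹ * x * q.out ∈ T
  · rw [extendByZero_of_mem T c h]
    exact hcS _
  · rw [extendByZero_of_not_mem T c h]
    exact memLocalRing_zero hM

end cosetSum

end Cfsg.Agent.Lib.Helper6
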