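import Mathlib
import Cfsg.Agent.Lib.Helper6.BlkFRTrace
import Cfsg.Agent.Lib.Helper6.CosetSum
import Cfsg.Agent.Lib.Helper6.BlkOrthFull
import Cfsg.Agent.S0933
import Cfsg.Agent.S0964

set_option autoImplicit false
set_option linter.unusedSectionVars false
open Cfsg

namespace Cfsg.Agent.Lib.Helper6

open scoped ComplexConjugate

section frMain

variable {G : Type*} [Group G] [Fintype G] [DecidableEq G]
variable {p : ℕ} [hp : Fact p.Prime] {M : Ideal Cfsg.AlgInt}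
variable (N : Subgroup G) [Fintype N] (hN : N.Normal) (T : Subgroup G) [Fintype T] (hNT : N ≤ T)
variable (b : Set (Cfsg.IrrCharacter N))
variable (hT : ∀ g : G, g ∈ T ↔ ∀ θ ∈ b, irrConj N hN g θ ∈ b)

include hT in
/-- block-level injectivity of induction from the stabilizer of a block -/
theorem sameBlock_of_sameBlock_indFun (hM : Cfsg.IsPModular p M) (hb : Cfsg.IsPBlock M b)
    (ψ₁ ψ₂ : Cfsg.IrrCharacter T) (θ₁ θ₂ : Cfsg.IrrCharacter N) (hθ₁ : θ₁ ∈ b) (hθ₂ : θ₂ ∈ b)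
    (hc₁ : Cfsg.classInner (fun n : N => (ψ₁ : T → ℂ) ⟨n, hNT n.2⟩) (θ₁ : N → ℂ) ≠ 0)
    (hc₂ : Cfsg.classInner (fun n : N => (ψ₂ : T → ℂ) ⟨n, hNT n.2⟩) (θ₂ : N → ℂ) ≠ 0)
    (h : Cfsg.SameBlock M (Cfsg.indFun T (ψ₁ : T → ℂ)) (Cfsg.indFun T (ψ₂ : T → ℂ))) :
    Cfsg.SameBlock M (ψ₁ : T → ℂ) (ψ₂ : T → ℂ) := by
  classical
  haveI : Fintype (N.subgroupOf T) := Fintype.ofFinite _
  intro t
  have hirr₁ := indFun_isIrrCharacter_of_stab N hN T hNT θ₁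
    (stab_le_of_mem N hN T b hT hM hb hθ₁) ψ₁ hc₁
  have hirr₂ := indFun_isIrrCharacter_of_stab N hN T hNT θ₂
    (stab_le_of_mem N hN T b hT hM hb hθ₂) ψ₂ hc₂
  have hA := gStable_image_irrSub N hN T hNT b hT
  have hS : ∀ k : N.subgroupOf T,
      Cfsg.MemLocalRing M (Cfsg.blockCoeff (irrSub N T hNT '' b) k) := by
    obtain ⟨θ₀, rfl⟩ := hb
    intro k
    rw [image_irrSub_blockOf]
    exact blockCoeff_memLocalRing hM _ k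
  obtain ⟨X, hXdef⟩ : ∃ X : Matrix T T ℂ, X = regMat (classInd t) := ⟨_, rfl⟩
  have hXc : X ∈ centerAlg T := by
    rw [hXdef]; exact regMat_mem_centerAlg (classInd_isClassFunction t)
  have hXs : X ∈ sMat hM T := by
    rw [hXdef]; exact classInd_mem_sMat hM t
  obtain ⟨F, hF⟩ : ∃ F, F = liftIdem (N.subgroupOf T) (irrSub N T hNT '' b) := ⟨_, rfl⟩
  have hFc : F ∈ centerAlg T := by
    rw [hF]; exact liftIdem_mem_centerAlg (N.subgroupOf T) (hN.subgroupOf T) hA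
  have hFs : F ∈ sMat hM T := by
    rw [hF]; exact liftIdem_mem_sMat (N.subgroupOf T) hM hS
  have hYc : X * F ∈ centerAlg T := (centerAlg T).mul_mem hXc hFc
  have hYs : X * F ∈ sMat hM T := (sMat hM T).mul_mem hXs hFs
  obtain ⟨c, hcdef⟩ : ∃ c : T → ℂ, c = fun t : T => (X * F) t 1 := ⟨_, rfl⟩
  have hccf : Cfsg.IsClassFunction T c := by
    rw [hcdef]; exact isClassFunction_of_mem_centerAlg hYc
  have hcS : ∀ t : T, Cfsg.MemLocalRing M (c t) := by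
    intro t; rw [hcdef]; exact hYs _ _
  have hZc : regMat (Cfsg.indFun T c) ∈ centerAlg G :=
    regMat_mem_centerAlg (indFun_isClassFunction T c)
  have hZs : regMat (Cfsg.indFun T c) ∈ sMat hM G :=
    regMat_mem_sMat hM (indFun_memLocalRing hM T hccf hcS)
  have h1 := cOmega_indFun_trace N hN T hNT b hT hM hb ψ₁ θ₁ hθ₁ hc₁ hXc
  have h2 := cOmega_indFun_trace N hN T hNT b hT hM hb ψ₂ θ₂ hθ₂ hc₂ hXc
  rw [← hF, ← hcdef] at h1 h2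
  have h3 := cOmega_sub_memLocalIdeal hM hirr₁ hirr₂ h hZc hZs
  rw [h1, h2, hXdef, cOmega_classInd _ (IsIrrCharacter.isClassFunction ψ₁.2),
    cOmega_classInd _ (IsIrrCharacter.isClassFunction ψ₂.2)] at h3
  exact h3

/-- an irreducible character of `T` has an irreducible constituent on `N` -/
theorem exists_constituent_restrict_of_le (ψ : Cfsg.IrrCharacter T) :
    ∃ θ : Cfsg.IrrCharacter N,
      Cfsg.classInner (fun n : N => (ψ : T → ℂ) ⟨n, hNT n.2⟩) (θ : N → ℂ) ≠ 0 := by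
  classical
  haveI : Fintype (N.subgroupOf T) := Fintype.ofFinite _
  obtain ⟨θ'', hθ''⟩ := exists_constituent_restrict (N.subgroupOf T) ψ.2
  refine ⟨(irrSub N T hNT).symm θ'', ?_⟩
  rw [← classInner_restrict_irrSub N T hNT, Equiv.apply_symm_apply]
  exact hθ''

include hT in
/-- every member of a block of `T` covering `b` lies over a member of `b` -/
theorem exists_mem_over_of_covers (hM : Cfsg.IsPModular p M) (hb : Cfsg.IsPBlock M b)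
    (B' : Set (Cfsg.IrrCharacter T)) (hB' : Cfsg.IsPBlock M B')
    (hcov : ∃ ψ ∈ B', ∃ θ ∈ b,
      Cfsg.classInner (fun n : N => (ψ : T → ℂ) ⟨n, hNT n.2⟩) (θ : N → ℂ) ≠ 0)
    (ψ : Cfsg.IrrCharacter T) (hψ : ψ ∈ B') :
    ∃ θ ∈ b, Cfsg.classInner (fun n : N => (ψ : T → ℂ) ⟨n, hNT n.2⟩) (θ : N → ℂ) ≠ 0 := by
  obtain ⟨ψ₀, hψ₀, θ₀, hθ₀, hc₀⟩ := hcov
  obtain ⟨ξ, rfl⟩ := hB'
  have hsb : Cfsg.SameBlock M (ψ₀ : T → ℂ) (ψ : T → ℂ) :=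
    SameBlock.trans' hM (SameBlock.symm' hψ₀) hψ
  obtain ⟨θ, hθ⟩ := exists_constituent_restrict_of_le N T hNT ψ
  exact ⟨θ, mem_of_constituent_of_sameBlock N hN T hNT b hT hM hb ψ₀ ψ hsb θ₀ hθ₀ hc₀ θ hθ, hθ⟩

include hT in
/-- induction of irreducible characters lying over `b` -/
theorem indFun_isIrr_of_mem_covering (hM : Cfsg.IsPModular p M) (hb : Cfsg.IsPBlock M b)
    (B' : Set (Cfsg.IrrCharacter T)) (hB' : Cfsg.IsPBlock M B')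
    (hcov : ∃ ψ ∈ B', ∃ θ ∈ b,
      Cfsg.classInner (fun n : N => (ψ : T → ℂ) ⟨n, hNT n.2⟩) (θ : N → ℂ) ≠ 0)
    (ψ : Cfsg.IrrCharacter T) (hψ : ψ ∈ B') :
    Cfsg.IsIrrCharacter G (Cfsg.indFun T (ψ : T → ℂ)) := by
  obtain ⟨θ, hθ, hc⟩ := exists_mem_over_of_covers N hN T hNT b hT hM hb B' hB' hcov ψ hψ
  exact indFun_isIrrCharacter_of_stab N hN T hNT θ (stab_le_of_mem N hN T b hT hM hb hθ) ψ hc

include hT in
/-- Fong–Reynolds, part (i) -/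
theorem fongReynolds_induce (hM : Cfsg.IsPModular p M) (hb : Cfsg.IsPBlock M b)
    (B' : Set (Cfsg.IrrCharacter T)) (hB' : Cfsg.IsPBlock M B')
    (hcov : ∃ ψ ∈ B', ∃ θ ∈ b,
      Cfsg.classInner (fun n : N => (ψ : T → ℂ) ⟨n, hNT n.2⟩) (θ : N → ℂ) ≠ 0) :
    ∃ B : Set (Cfsg.IrrCharacter G), Cfsg.IsInducedBlock M T B' B ∧
      (∃ χ ∈ B, ∃ θ ∈ b, Cfsg.classInner (fun n : N => (χ : G → ℂ) n) (θ : N → ℂ) ≠ 0) ∧
      (∀ ψ ∈ B', Cfsg.IsIrrCharacter G (Cfsg.indFun T (ψ : T → ℂ))) ∧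
      ∀ χ : Cfsg.IrrCharacter G, χ ∈ B ↔ ∃ ψ ∈ B', (χ : G → ℂ) = Cfsg.indFun T (ψ : T → ℂ) := by
  have hall := indFun_isIrr_of_mem_covering N hN T hNT b hT hM hb B' hB' hcov
  obtain ⟨ψ₀, hψ₀, θ₀, hθ₀, hc₀⟩ := hcov
  have hcov' : ∃ ψ ∈ B', ∃ θ ∈ b,
      Cfsg.classInner (fun n : N => (ψ : T → ℂ) ⟨n, hNT n.2⟩) (θ : N → ℂ) ≠ 0 :=
    ⟨ψ₀, hψ₀, θ₀, hθ₀, hc₀⟩
  have hstab₀ := stab_le_of_mem N hN T b hT hM hb hθ₀
  have hirr₀ := hall ψ₀ hψ₀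
  have hB'eq : ∀ ψ ∈ B', B' = Cfsg.blockOf M (ψ : T → ℂ) := by
    intro ψ hψ
    obtain ⟨ξ, rfl⟩ := hB'
    exact blockOf_eq_of_mem hM hψ
  have hind : ∀ ψ ∈ B', Cfsg.IsInducedBlock M T B' (Cfsg.blockOf M (Cfsg.indFun T (ψ : T → ℂ))) := by
    intro ψ hψ
    have h1 := Cfsg.Agent.S0933.result p M hM T ψ (hall ψ hψ)
    rw [← hB'eq ψ hψ] at h1
    exact h1
  refine ⟨Cfsg.blockOf M (Cfsg.indFun T (ψ₀ : T → ℂ)), hind ψ₀ hψ₀, ?_, hall, ?_⟩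
  · refine ⟨⟨_, hirr₀⟩, sameBlock_refl hM _, θ₀, hθ₀, ?_⟩
    change Cfsg.classInner (fun n : N => Cfsg.indFun T (ψ₀ : T → ℂ) n) (θ₀ : N → ℂ) ≠ 0
    rw [classInner_indFun_restrict_of_stab N hN T hNT θ₀ hstab₀ ψ₀ hc₀]
    exact hc₀
  · intro χ
    constructor
    · intro hχ
      -- χ lies over a member of b
      have hcovG : Cfsg.classInner (fun n : N => Cfsg.indFun T (ψ₀ : T → ℂ) n) (θ₀ : N → ℂ) ≠ 0 := by
        rw [classInner_indFun_restrict_of_stab N hN T hNT θ₀ hstab₀ ψ₀ hc₀]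
        exact hc₀
      obtain ⟨θ'', hθ''⟩ := exists_constituent_restrict N χ.2
      have hχ₀B : (⟨_, hirr₀⟩ : Cfsg.IrrCharacter G) ∈ Cfsg.blockOf M (Cfsg.indFun T (ψ₀ : T → ℂ)) :=
        sameBlock_refl hM _
      haveI := hN
      obtain ⟨g, θ', hθ', hg⟩ := Cfsg.Agent.S0964.result p M hM N
        (Cfsg.blockOf M (Cfsg.indFun T (ψ₀ : T → ℂ))) ⟨⟨_, hirr₀⟩, rfl⟩ b hb ⟨_, hirr₀⟩ hχ₀B θ₀ hθ₀
        hcovG χ hχ θ'' hθ''
      have hθ''eq : (θ'' : N → ℂ) = conjFun N hN (θ' : N → ℂ) g := by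
        funext n
        exact hg n
      have hcθ' : Cfsg.classInner (fun n : N => (χ : G → ℂ) n) (θ' : N → ℂ) ≠ 0 := by
        rw [← classInner_restrict_conjFun N hN (IsIrrCharacter.isClassFunction χ.2) _ g, ← hθ''eq]
        exact hθ''
      obtain ⟨ψ, hψc, hψχ⟩ := exists_indFun_eq_of_stab N hN T hNT θ'
        (stab_le_of_mem N hN T b hT hM hb hθ') χ hcθ'
      refine ⟨ψ, ?_, hψχ.symm⟩
      rw [hB'eq ψ₀ hψ₀]
      apply sameBlock_of_sameBlock_indFun N hN T hNT b hT hM hb ψ₀ ψ θ₀ θ' hθ₀ hθ' hc₀ hψc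
      rw [hψχ]
      exact hχ
    · rintro ⟨ψ, hψ, hχψ⟩
      have h1 := IsInducedBlock.unique T hM (hind ψ₀ hψ₀) (hind ψ hψ)
      rw [h1, ← hχψ]
      exact sameBlock_refl hM _

include hT in
/-- Fong–Reynolds, part (ii): distinct covering blocks of `T` induce distinct blocks -/
theorem fongReynolds_injective (hM : Cfsg.IsPModular p M) (hb : Cfsg.IsPBlock M b)
    (B'₁ B'₂ : Set (Cfsg.IrrCharacter T)) (hB'₁ : Cfsg.IsPBlock M B'₁) (hB'₂ : Cfsg.IsPBlock M B'₂)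
    (hcov₁ : ∃ ψ ∈ B'₁, ∃ θ ∈ b,
      Cfsg.classInner (fun n : N => (ψ : T → ℂ) ⟨n, hNT n.2⟩) (θ : N → ℂ) ≠ 0)
    (hcov₂ : ∃ ψ ∈ B'₂, ∃ θ ∈ b,
      Cfsg.classInner (fun n : N => (ψ : T → ℂ) ⟨n, hNT n.2⟩) (θ : N → ℂ) ≠ 0)
    (B : Set (Cfsg.IrrCharacter G)) (h₁ : Cfsg.IsInducedBlock M T B'₁ B)
    (h₂ : Cfsg.IsInducedBlock M T B'₂ B) : B'₁ = B'₂ := by
  have hall₁ := indFun_isIrr_of_mem_covering N hN T hNT b hT hM hb B'₁ hB'₁ hcov₁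
  have hall₂ := indFun_isIrr_of_mem_covering N hN T hNT b hT hM hb B'₂ hB'₂ hcov₂
  obtain ⟨ψ₁, hψ₁, θ₁, hθ₁, hc₁⟩ := hcov₁
  obtain ⟨ψ₂, hψ₂, θ₂, hθ₂, hc₂⟩ := hcov₂
  have e₁ : B'₁ = Cfsg.blockOf M (ψ₁ : T → ℂ) := by
    obtain ⟨ξ, rfl⟩ := hB'₁
    exact blockOf_eq_of_mem hM hψ₁
  have e₂ : B'₂ = Cfsg.blockOf M (ψ₂ : T → ℂ) := by
    obtain ⟨ξ, rfl⟩ := hB'₂
    exact blockOf_eq_of_mem hM hψ₂
  have i₁ := Cfsg.Agent.S0933.result p M hM T ψ₁ (hall₁ ψ₁ hψ₁)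
  have i₂ := Cfsg.Agent.S0933.result p M hM T ψ₂ (hall₂ ψ₂ hψ₂)
  rw [← e₁] at i₁
  rw [← e₂] at i₂
  have u₁ := IsInducedBlock.unique T hM h₁ i₁
  have u₂ := IsInducedBlock.unique T hM h₂ i₂
  have hsb : Cfsg.SameBlock M (Cfsg.indFun T (ψ₁ : T → ℂ)) (Cfsg.indFun T (ψ₂ : T → ℂ)) := by
    have h3 : (⟨_, hall₂ ψ₂ hψ₂⟩ : Cfsg.IrrCharacter G) ∈ B := by
      rw [u₂]; exact sameBlock_refl hM _
    rw [u₁] at h3
    exact h3
  have h4 := sameBlock_of_sameBlock_indFun N hN T hNT b hT hM hb ψ₁ ψ₂ θ₁ θ₂ hθ₁ hθ₂ hc₁ hc₂ hsb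
  rw [e₁, e₂]
  exact blockOf_eq_of_sameBlock hM h4

include hT in
/-- Fong–Reynolds, part (iii): every covering block of `G` is induced from `T` -/
theorem fongReynolds_surjective (hM : Cfsg.IsPModular p M) (hb : Cfsg.IsPBlock M b)
    (B : Set (Cfsg.IrrCharacter G)) (hB : Cfsg.IsPBlock M B)
    (hcov : ∃ χ ∈ B, ∃ θ ∈ b,
      Cfsg.classInner (fun n : N => (χ : G → ℂ) n) (θ : N → ℂ) ≠ 0) :
    ∃ B' : Set (Cfsg.IrrCharacter T), Cfsg.IsPBlock M B' ∧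
      (∃ ψ ∈ B', ∃ θ ∈ b,
        Cfsg.classInner (fun n : N => (ψ : T → ℂ) ⟨n, hNT n.2⟩) (θ : N → ℂ) ≠ 0) ∧
      Cfsg.IsInducedBlock M T B' B := by
  obtain ⟨χ, hχ, θ, hθ, hc⟩ := hcov
  have hstab := stab_le_of_mem N hN T b hT hM hb hθ
  obtain ⟨ψ, hψc, hψχ⟩ := exists_indFun_eq_of_stab N hN T hNT θ hstab χ hc
  refine ⟨Cfsg.blockOf M (ψ : T → ℂ), ⟨ψ, rfl⟩, ⟨ψ, sameBlock_refl hM _, θ, hθ, hψc⟩, ?_⟩
  have hirr : Cfsg.IsIrrCharacter G (Cfsg.indFun T (ψ : T → ℂ)) := by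
    rw [hψχ]; exact χ.2
  have h1 := Cfsg.Agent.S0933.result p M hM T ψ hirr
  rw [hψχ] at h1
  obtain ⟨χ₀, rfl⟩ := hB
  rw [blockOf_eq_of_mem hM hχ]
  exact h1

end frMain

end Cfsg.Agent.Lib.Helper6
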