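import Mathlib
import Cfsg.Agent.Lib.Helper6.BlkFR
import Cfsg.Agent.Lib.Helper6.BlkMajor
import Cfsg.Agent.Lib.Helper6.BlkIndDefect

set_option autoImplicit false
set_option linter.unusedSectionVars false
open Cfsg

namespace Cfsg.Agent.Lib.Helper6

open scoped ComplexConjugate

section frDefect

variable {G : Type*} [Group G] [Fintype G] [DecidableEq G]
variable {p : ℕ} [hp : Fact p.Prime] {M : Ideal Cfsg.AlgInt}
variable (N : Subgroup G) [Fintype N] (hN : N.Normal) (T : Subgroup G) [Fintype T] (hNT : N ≤ T)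
variable (b : Set (Cfsg.IrrCharacter N))
variable (hT : ∀ g : G, g ∈ T ↔ ∀ θ ∈ b, irrConj N hN g θ ∈ b)

theorem charDegree_indFun (ψ : Cfsg.IrrCharacter T)
    (hirr : Cfsg.IsIrrCharacter G (Cfsg.indFun T (ψ : T → ℂ))) :
    Cfsg.charDegree (Cfsg.indFun T (ψ : T → ℂ)) = T.index * Cfsg.charDegree (ψ : T → ℂ) := by
  have h1 := indFun_one T (ψ : T → ℂ)
  rw [IsCharacter.apply_one_eq_charDegree (IsIrrCharacter.isCharacter hirr),
    IsCharacter.apply_one_eq_charDegree (IsIrrCharacter.isCharacter ψ.2), ← Nat.cast_mul] at h1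
  exact_mod_cast h1

include hT in
/-- the characterization of the induced block in the Fong–Reynolds situation -/
theorem fongReynolds_mem_iff (hM : Cfsg.IsPModular p M) (hb : Cfsg.IsPBlock M b)
    (B' : Set (Cfsg.IrrCharacter T)) (hB' : Cfsg.IsPBlock M B')
    (hcov : ∃ ψ ∈ B', ∃ θ ∈ b,
      Cfsg.classInner (fun n : N => (ψ : T → ℂ) ⟨n, hNT n.2⟩) (θ : N → ℂ) ≠ 0)
    (B : Set (Cfsg.IrrCharacter G)) (hind : Cfsg.IsInducedBlock M T B' B) :
    ∀ χ : Cfsg.IrrCharacter G, χ ∈ B ↔ ∃ ψ ∈ B', (χ : G → ℂ) = Cfsg.indFun T (ψ : T → ℂ) := by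
  obtain ⟨B₀, h1, _, _, h4⟩ := fongReynolds_induce N hN T hNT b hT hM hb B' hB' hcov
  rw [IsInducedBlock.unique T hM hind h1]
  exact h4

include hT in
theorem fongReynolds_sInf (hM : Cfsg.IsPModular p M) (hb : Cfsg.IsPBlock M b)
    (B' : Set (Cfsg.IrrCharacter T)) (hB' : Cfsg.IsPBlock M B')
    (hcov : ∃ ψ ∈ B', ∃ θ ∈ b,
      Cfsg.classInner (fun n : N => (ψ : T → ℂ) ⟨n, hNT n.2⟩) (θ : N → ℂ) ≠ 0)
    (B : Set (Cfsg.IrrCharacter G)) (hind : Cfsg.IsInducedBlock M T B' B) :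
    sInf ((fun χ : Cfsg.IrrCharacter G => (Cfsg.charDegree (χ : G → ℂ)).factorization p) '' B)
      = T.index.factorization p +
        sInf ((fun ψ : Cfsg.IrrCharacter T => (Cfsg.charDegree (ψ : T → ℂ)).factorization p) '' B') := by
  have hmem := fongReynolds_mem_iff N hN T hNT b hT hM hb B' hB' hcov B hind
  have hall := indFun_isIrr_of_mem_covering N hN T hNT b hT hM hb B' hB' hcov
  have hdeg : ∀ ψ ∈ B', (Cfsg.charDegree (Cfsg.indFun T (ψ : T → ℂ))).factorization p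
      = T.index.factorization p + (Cfsg.charDegree (ψ : T → ℂ)).factorization p := by
    intro ψ hψ
    rw [charDegree_indFun T ψ (hall ψ hψ),
      Nat.factorization_mul T.index_ne_zero_of_finite (IsIrrCharacter.charDegree_pos ψ.2).ne']
    rfl
  obtain ⟨ψ₀, hψ₀, _⟩ := hcov
  have hne' : ((fun ψ : Cfsg.IrrCharacter T => (Cfsg.charDegree (ψ : T → ℂ)).factorization p) ''
      B').Nonempty := ⟨_, ψ₀, hψ₀, rfl⟩
  obtain ⟨ψm, hψm, hmin⟩ := Nat.sInf_mem hne'
  simp only at hmin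
  apply le_antisymm
  · rw [← hmin, ← hdeg ψm hψm]
    apply Nat.sInf_le
    refine ⟨⟨_, hall ψm hψm⟩, (hmem _).2 ⟨ψm, hψm, rfl⟩, rfl⟩
  · apply le_csInf
    · exact ⟨_, ⟨_, hall ψ₀ hψ₀⟩, (hmem _).2 ⟨ψ₀, hψ₀, rfl⟩, rfl⟩
    · rintro _ ⟨χ, hχ, rfl⟩
      obtain ⟨ψ, hψ, hχψ⟩ := (hmem χ).1 hχ
      simp only
      rw [hχψ, hdeg ψ hψ]
      apply Nat.add_le_add_left
      exact Nat.sInf_le ⟨ψ, hψ, rfl⟩

include hT in
theorem fongReynolds_blockDefect (hM : Cfsg.IsPModular p M) (hb : Cfsg.IsPBlock M b)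
    (B' : Set (Cfsg.IrrCharacter T)) (hB' : Cfsg.IsPBlock M B')
    (hcov : ∃ ψ ∈ B', ∃ θ ∈ b,
      Cfsg.classInner (fun n : N => (ψ : T → ℂ) ⟨n, hNT n.2⟩) (θ : N → ℂ) ≠ 0)
    (B : Set (Cfsg.IrrCharacter G)) (hind : Cfsg.IsInducedBlock M T B' B) :
    Cfsg.blockDefect p B = Cfsg.blockDefect p B' := by
  unfold Cfsg.blockDefect
  rw [fongReynolds_sInf N hN T hNT b hT hM hb B' hB' hcov B hind]
  have h1 : (Nat.card G).factorization p
      = (Nat.card T).factorization p + T.index.factorization p := by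
    rw [← T.card_mul_index, Nat.factorization_mul Nat.card_pos.ne' T.index_ne_zero_of_finite]
    rfl
  rw [h1]
  omega

include hT in
theorem fongReynolds_blockHeight (hM : Cfsg.IsPModular p M) (hb : Cfsg.IsPBlock M b)
    (B' : Set (Cfsg.IrrCharacter T)) (hB' : Cfsg.IsPBlock M B')
    (hcov : ∃ ψ ∈ B', ∃ θ ∈ b,
      Cfsg.classInner (fun n : N => (ψ : T → ℂ) ⟨n, hNT n.2⟩) (θ : N → ℂ) ≠ 0)
    (B : Set (Cfsg.IrrCharacter G)) (hind : Cfsg.IsInducedBlock M T B' B)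
    (ψ : Cfsg.IrrCharacter T) (hψ : ψ ∈ B') :
    Cfsg.blockHeight p B (Cfsg.indFun T (ψ : T → ℂ)) = Cfsg.blockHeight p B' (ψ : T → ℂ) := by
  have hall := indFun_isIrr_of_mem_covering N hN T hNT b hT hM hb B' hB' hcov
  unfold Cfsg.blockHeight
  rw [fongReynolds_sInf N hN T hNT b hT hM hb B' hB' hcov B hind,
    charDegree_indFun T ψ (hall ψ hψ),
    Nat.factorization_mul T.index_ne_zero_of_finite (IsIrrCharacter.charDegree_pos ψ.2).ne']
  simp only [Finsupp.coe_add, Pi.add_apply]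
  omega

include hT in
theorem fongReynolds_defectGroup (hM : Cfsg.IsPModular p M) (hb : Cfsg.IsPBlock M b)
    (B' : Set (Cfsg.IrrCharacter T)) (hB' : Cfsg.IsPBlock M B')
    (hcov : ∃ ψ ∈ B', ∃ θ ∈ b,
      Cfsg.classInner (fun n : N => (ψ : T → ℂ) ⟨n, hNT n.2⟩) (θ : N → ℂ) ≠ 0)
    (B : Set (Cfsg.IrrCharacter G)) (hind : Cfsg.IsInducedBlock M T B' B)
    (D : Subgroup T) (hD : Cfsg.IsDefectGroup p M B' D) :
    Cfsg.IsDefectGroup p M B (D.map T.subtype) := by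
  classical
  obtain ⟨E, hE, hle⟩ := IsInducedBlock.exists_defectGroup_ge T hM hind D hD
  have h1 := Cfsg.Agent.S0908.result p M hM B' hind.1 D hD
  have h2 := Cfsg.Agent.S0908.result p M hM B hind.2.1 E hE
  have h3 : Nat.card (D.map T.subtype) = Nat.card D :=
    Nat.card_congr (Subgroup.equivMapOfInjective D T.subtype T.subtype_injective).symm.toEquiv
  have h4 : D.map T.subtype = E := by
    apply Subgroup.eq_of_le_of_card_ge hle
    rw [h3, h1, h2, fongReynolds_blockDefect N hN T hNT b hT hM hb B' hB' hcov B hind]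
  rw [h4]
  exact hE

end frDefect

end Cfsg.Agent.Lib.Helper6
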