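import Mathlib
import Cfsg.Agent.Lib.Helper6.BlkFRDefect

set_option autoImplicit false
set_option linter.unusedSectionVars false
open Cfsg

namespace Cfsg.Agent.Lib.Helper6

open scoped ComplexConjugate

section cliffordDeg

variable {G : Type*} [Group G] [Fintype G] [DecidableEq G]
variable (N : Subgroup G) [Fintype N] (hN : N.Normal)

theorem conjFun_apply_one (θ : N → ℂ) (g : G) : conjFun N hN θ g 1 = θ 1 := by
  rw [conjFun_apply]
  congr 1
  apply Subtype.ext
  simp

include hN in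
/-- Clifford: the degree of a constituent of the restriction to a normal subgroup divides the
degree -/
theorem charDegree_dvd_of_constituent (χ : Cfsg.IrrCharacter G) (θ : Cfsg.IrrCharacter N)
    (hc : Cfsg.classInner (fun n : N => (χ : G → ℂ) n) (θ : N → ℂ) ≠ 0) :
    Cfsg.charDegree (θ : N → ℂ) ∣ Cfsg.charDegree (χ : G → ℂ) := by
  classical
  haveI : Fintype (Cfsg.IrrCharacter N) := Fintype.ofFinite _
  have h := restrict_apply_one_eq_sum N (IsIrrCharacter.isCharacter χ.2)
  have hterm : ∀ ψ : Cfsg.IrrCharacter N, ∃ n : ℕ,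
      (ψ : N → ℂ) 1 * Cfsg.classInner (fun n : N => (χ : G → ℂ) n) (ψ : N → ℂ)
        = (θ : N → ℂ) 1 * (n : ℂ) := by
    intro ψ
    by_cases h0 : Cfsg.classInner (fun n : N => (χ : G → ℂ) n) (ψ : N → ℂ) = 0
    · exact ⟨0, by rw [h0]; simp⟩
    · obtain ⟨g, hg⟩ := exists_conjFun_eq_of_constituents N hN χ.2 θ.2 ψ.2 hc h0
      obtain ⟨m, hm⟩ := IsCharacter.classInner_irr_nat
        (IsCharacter.restrict N (IsIrrCharacter.isCharacter χ.2)) ψ.2
      refine ⟨m, ?_⟩
      rw [hm, hg, conjFun_apply_one]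
  choose n hn using hterm
  rw [Finset.sum_congr rfl (fun ψ _ => hn ψ), ← Finset.mul_sum,
    IsCharacter.apply_one_eq_charDegree (IsIrrCharacter.isCharacter χ.2),
    IsCharacter.apply_one_eq_charDegree (IsIrrCharacter.isCharacter θ.2), ← Nat.cast_sum,
    ← Nat.cast_mul] at h
  have h' : Cfsg.charDegree (χ : G → ℂ) = Cfsg.charDegree (θ : N → ℂ) * ∑ ψ, n ψ := by
    exact_mod_cast h
  exact ⟨_, h'⟩

/-- the characters of `G` lying over a set of characters of `N` -/
def overSet (A : Set (Cfsg.IrrCharacter N)) : Set (Cfsg.IrrCharacter G) :=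
  {χ | ∃ θ ∈ A, Cfsg.classInner (fun n : N => (χ : G → ℂ) n) (θ : N → ℂ) ≠ 0}

include hN in
theorem mem_of_constituent_of_mem_overSet {A : Set (Cfsg.IrrCharacter N)} (hA : GStable N hN A)
    {χ : Cfsg.IrrCharacter G} (hχ : χ ∈ overSet N A) (θ' : Cfsg.IrrCharacter N)
    (hc : Cfsg.classInner (fun n : N => (χ : G → ℂ) n) (θ' : N → ℂ) ≠ 0) : θ' ∈ A := by
  obtain ⟨θ, hθ, hcθ⟩ := hχ
  obtain ⟨g, hg⟩ := exists_conjFun_eq_of_constituents N hN χ.2 θ.2 θ'.2 hcθ hc
  have : θ' = irrConj N hN g θ := Subtype.ext hg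
  rw [this]
  exact hA θ hθ g

/-- the degree of the induced character as a sum over constituents -/
theorem indFun_one_eq_sum [Fintype (Cfsg.IrrCharacter G)] (θ : Cfsg.IrrCharacter N) :
    (N.index : ℂ) * (θ : N → ℂ) 1
      = ∑ χ : Cfsg.IrrCharacter G, (χ : G → ℂ) 1 *
          Cfsg.classInner (fun n : N => (χ : G → ℂ) n) (θ : N → ℂ) := by
  have hA : Cfsg.IsCharacter G (Cfsg.indFun N (θ : N → ℂ)) :=
    IsCharacter.indFun N (IsIrrCharacter.isCharacter θ.2)
  have h1 := classFunction_eq_sum (Cfsg.indFun N (θ : N → ℂ)) (IsCharacter.isClassFunction hA)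
  have h2 := congrFun h1 1
  rw [indFun_one] at h2
  simp only [Finset.sum_apply, Pi.smul_apply, smul_eq_mul] at h2
  rw [h2]
  apply Finset.sum_congr rfl
  intro χ _
  have h3 := Cfsg.Agent.S0146.result N (θ : N → ℂ) (χ : G → ℂ)
    (IsIrrCharacter.isClassFunction χ.2)
  obtain ⟨m, hm⟩ := IsCharacter.classInner_irr_nat
    (IsCharacter.restrict N (IsIrrCharacter.isCharacter χ.2)) θ.2
  have h4 : Cfsg.classInner (θ : N → ℂ) (fun n : N => (χ : G → ℂ) n) = m := by
    rw [← classInner_conj_symm, hm, Complex.conj_natCast]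
  rw [h3, h4, hm, mul_comm]

include hN in
/-- the dimension formula for the characters lying over a stable set -/
theorem sum_sq_overSet [Fintype (Cfsg.IrrCharacter G)] [Fintype (Cfsg.IrrCharacter N)]
    {A : Set (Cfsg.IrrCharacter N)} (hA : GStable N hN A)
    [DecidablePred (· ∈ A)] [DecidablePred (· ∈ overSet N A)] :
    ∑ χ ∈ Finset.univ.filter (· ∈ overSet N A), Cfsg.charDegree (χ : G → ℂ) ^ 2
      = N.index * ∑ θ ∈ Finset.univ.filter (· ∈ A), Cfsg.charDegree (θ : N → ℂ) ^ 2 := by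
  have hχ1 : ∀ χ : Cfsg.IrrCharacter G, χ ∈ overSet N A → (χ : G → ℂ) 1
      = ∑ θ ∈ Finset.univ.filter (· ∈ A), (θ : N → ℂ) 1 *
          Cfsg.classInner (fun n : N => (χ : G → ℂ) n) (θ : N → ℂ) := by
    intro χ hχ
    rw [restrict_apply_one_eq_sum N (IsIrrCharacter.isCharacter χ.2), Finset.sum_filter]
    apply Finset.sum_congr rfl
    intro θ' _
    split_ifs with h
    · rfl
    · have : Cfsg.classInner (fun n : N => (χ : G → ℂ) n) (θ' : N → ℂ) = 0 := by
        by_contra hne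
        exact h (mem_of_constituent_of_mem_overSet N hN hA hχ θ' hne)
      rw [this, mul_zero]
  have hcomplex : (∑ χ ∈ Finset.univ.filter (· ∈ overSet N A),
      ((Cfsg.charDegree (χ : G → ℂ) : ℕ) : ℂ) ^ 2)
      = (N.index : ℂ) * ∑ θ ∈ Finset.univ.filter (· ∈ A),
        ((Cfsg.charDegree (θ : N → ℂ) : ℕ) : ℂ) ^ 2 := by
    have e1 : ∑ χ ∈ Finset.univ.filter (· ∈ overSet N A),
        ((Cfsg.charDegree (χ : G → ℂ) : ℕ) : ℂ) ^ 2
        = ∑ χ : Cfsg.IrrCharacter G, ∑ θ ∈ Finset.univ.filter (· ∈ A),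
          (χ : G → ℂ) 1 * ((θ : N → ℂ) 1 *
            Cfsg.classInner (fun n : N => (χ : G → ℂ) n) (θ : N → ℂ)) := by
      rw [Finset.sum_filter]
      apply Finset.sum_congr rfl
      intro χ _
      split_ifs with h
      · rw [← IsCharacter.apply_one_eq_charDegree (IsIrrCharacter.isCharacter χ.2), sq,
          ← Finset.mul_sum, ← hχ1 χ h]
      · symm
        apply Finset.sum_eq_zero
        intro θ hθ
        have : Cfsg.classInner (fun n : N => (χ : G → ℂ) n) (θ : N → ℂ) = 0 := by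
          by_contra hne
          exact h ⟨θ, (Finset.mem_filter.mp hθ).2, hne⟩
        rw [this, mul_zero, mul_zero]
    rw [e1, Finset.sum_comm, Finset.mul_sum]
    apply Finset.sum_congr rfl
    intro θ _
    rw [← IsCharacter.apply_one_eq_charDegree (IsIrrCharacter.isCharacter θ.2), sq, ← mul_assoc,
      indFun_one_eq_sum N θ, Finset.sum_mul]
    apply Finset.sum_congr rfl
    intro χ _
    ring
  exact_mod_cast hcomplex

end cliffordDeg

end Cfsg.Agent.Lib.Helper6
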