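import Mathlib
import Cfsg.Agent.Lib.Helper6.BlkIdem

set_option autoImplicit false
set_option linter.unusedSectionVars false
open Cfsg

namespace Cfsg.Agent.Lib.Helper6

open scoped ComplexConjugate

section unionBlocks

variable {G : Type*} [Group G] [Fintype G] [DecidableEq G]
variable {p : ℕ} {M : Ideal Cfsg.AlgInt}

/-- induction over a union of blocks for additive quantities -/
theorem sum_mem_of_union_blocks {α : Type*} [AddCommMonoid α] (hM : Cfsg.IsPModular p M)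
    [Fintype (Cfsg.IrrCharacter G)] [DecidableEq (Cfsg.IrrCharacter G)]
    [∀ ψ : Cfsg.IrrCharacter G, DecidablePred (· ∈ Cfsg.blockOf M (ψ : G → ℂ))]
    (I : α → Prop) (h0 : I 0) (hadd : ∀ a b, I a → I b → I (a + b))
    (f : Cfsg.IrrCharacter G → α) :
    ∀ 𝒜 : Finset (Cfsg.IrrCharacter G),
      (∀ ψ ∈ 𝒜, ∀ ψ' ∈ Cfsg.blockOf M (ψ : G → ℂ), ψ' ∈ 𝒜) →
      (∀ ψ ∈ 𝒜, I (∑ β ∈ Finset.univ.filter (· ∈ Cfsg.blockOf M (ψ : G → ℂ)), f β)) →
      I (∑ β ∈ 𝒜, f β) := by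
  intro 𝒜
  induction 𝒜 using Finset.strongInduction with
  | H 𝒜 ih =>
    intro hU hB
    by_cases h𝒜 : 𝒜 = ∅
    · rw [h𝒜, Finset.sum_empty]; exact h0
    · obtain ⟨ψ, hψ⟩ := Finset.nonempty_iff_ne_empty.mpr h𝒜
      have hsub : Finset.univ.filter (· ∈ Cfsg.blockOf M (ψ : G → ℂ)) ⊆ 𝒜 := by
        intro β hβ
        exact hU ψ hψ β (Finset.mem_filter.mp hβ).2
      have hψB : ψ ∈ Finset.univ.filter (· ∈ Cfsg.blockOf M (ψ : G → ℂ)) :=
        Finset.mem_filter.mpr ⟨Finset.mem_univ _, sameBlock_refl hM _⟩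
      have hss : 𝒜 \ Finset.univ.filter (· ∈ Cfsg.blockOf M (ψ : G → ℂ)) ⊂ 𝒜 := by
        apply Finset.sdiff_ssubset hsub
        exact ⟨ψ, hψB⟩
      rw [← Finset.sum_sdiff hsub]
      apply hadd
      · apply ih _ hss
        · intro ψ₁ hψ₁ ψ₂ hψ₂
          rw [Finset.mem_sdiff] at hψ₁ ⊢
          refine ⟨hU ψ₁ hψ₁.1 ψ₂ hψ₂, ?_⟩
          intro h2
          apply hψ₁.2
          rw [Finset.mem_filter] at h2 ⊢
          refine ⟨Finset.mem_univ _, ?_⟩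
          exact SameBlock.trans' hM h2.2 (SameBlock.symm' hψ₂)
        · intro ψ₁ hψ₁
          exact hB ψ₁ (Finset.mem_sdiff.mp hψ₁).1
      · exact hB ψ hψ

end unionBlocks

end Cfsg.Agent.Lib.Helper6
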