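import Mathlib
import Cfsg.Agent.Lib.Helper6.CliffordDeg
import Cfsg.Agent.Lib.Helper6.UnionBlocks
import Cfsg.Agent.Lib.Helper6.BlkDim
import Cfsg.Agent.S0908

set_option autoImplicit false
set_option linter.unusedSectionVars false
open Cfsg

namespace Cfsg.Agent.Lib.Helper6

open scoped ComplexConjugate

section coverDefect

variable {G : Type*} [Group G] [Fintype G] [DecidableEq G]
variable {p : ℕ} {M : Ideal Cfsg.AlgInt}
variable (N : Subgroup G) [Fintype N] (hN : N.Normal)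

theorem charDegree_irrConj (g : G) (ψ : Cfsg.IrrCharacter N) :
    Cfsg.charDegree ((irrConj N hN g ψ : Cfsg.IrrCharacter N) : N → ℂ)
      = Cfsg.charDegree (ψ : N → ℂ) := by
  unfold Cfsg.charDegree
  rw [irrConj_coe, conjFun_apply_one]

include hN in
/-- the least `p`-valuation of a degree in a covered block is at most that of a covering block -/
theorem sInf_le_sInf_of_covers (hM : Cfsg.IsPModular p M) [Fact p.Prime]
    (θ₀ : Cfsg.IrrCharacter N) (χ₀ : Cfsg.IrrCharacter G)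
    (χ : Cfsg.IrrCharacter G) (hχ : χ ∈ Cfsg.blockOf M (χ₀ : G → ℂ))
    (θ : Cfsg.IrrCharacter N) (hθ : θ ∈ Cfsg.blockOf M (θ₀ : N → ℂ))
    (hc : Cfsg.classInner (fun n : N => (χ : G → ℂ) n) (θ : N → ℂ) ≠ 0) :
    sInf ((fun θ : Cfsg.IrrCharacter N => (Cfsg.charDegree (θ : N → ℂ)).factorization p) ''
        (Cfsg.blockOf M (θ₀ : N → ℂ)))
      ≤ sInf ((fun χ : Cfsg.IrrCharacter G => (Cfsg.charDegree (χ : G → ℂ)).factorization p) ''
        (Cfsg.blockOf M (χ₀ : G → ℂ))) := by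
  obtain ⟨χ', hχ', hmin⟩ := exists_min_degree (p := p) _ χ hχ
  have he : sInf ((fun χ : Cfsg.IrrCharacter G => (Cfsg.charDegree (χ : G → ℂ)).factorization p) ''
      (Cfsg.blockOf M (χ₀ : G → ℂ))) = (Cfsg.charDegree (χ' : G → ℂ)).factorization p := by
    apply le_antisymm
    · exact Nat.sInf_le ⟨χ', hχ', rfl⟩
    · apply le_csInf (Set.image_nonempty.mpr ⟨χ', hχ'⟩)
      rintro _ ⟨ψ, hψ, rfl⟩
      exact hmin ψ hψ
  rw [he]
  obtain ⟨ψ, hψ⟩ := exists_constituent_restrict N χ'.2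
  have hsb : Cfsg.SameBlock M (χ : G → ℂ) (χ' : G → ℂ) :=
    SameBlock.trans' hM (SameBlock.symm' hχ) hχ'
  obtain ⟨g, hg⟩ := exists_conj_mem_block_of_sameBlock N hN hM θ₀ χ χ' hsb θ hθ hc ψ hψ
  have h1 : sInf ((fun θ : Cfsg.IrrCharacter N => (Cfsg.charDegree (θ : N → ℂ)).factorization p) ''
      (Cfsg.blockOf M (θ₀ : N → ℂ)))
      ≤ (Cfsg.charDegree ((irrConj N hN g ψ : Cfsg.IrrCharacter N) : N → ℂ)).factorization p :=
    Nat.sInf_le ⟨_, hg, rfl⟩
  rw [charDegree_irrConj] at h1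
  refine h1.trans ?_
  have hdvd := charDegree_dvd_of_constituent N hN χ' ψ hψ
  exact (Nat.factorization_le_iff_dvd (charDegree_ne_zero ψ) (charDegree_ne_zero χ')).mpr hdvd p

theorem factorization_card_eq_add_index (hp : p.Prime) :
    (Nat.card G).factorization p = (Nat.card N).factorization p + N.index.factorization p := by
  rw [← Subgroup.card_mul_index N, Nat.factorization_mul Nat.card_pos.ne'
    (Subgroup.index_ne_zero_of_finite), Finsupp.add_apply]

include hN in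
/-- Fong: the defect of a covering block is at most the defect of the covered block plus the
`p`-part of the index -/
theorem blockDefect_le_of_covers (hM : Cfsg.IsPModular p M) [Fact p.Prime]
    (θ₀ : Cfsg.IrrCharacter N) (χ₀ : Cfsg.IrrCharacter G)
    (χ : Cfsg.IrrCharacter G) (hχ : χ ∈ Cfsg.blockOf M (χ₀ : G → ℂ))
    (θ : Cfsg.IrrCharacter N) (hθ : θ ∈ Cfsg.blockOf M (θ₀ : N → ℂ))
    (hc : Cfsg.classInner (fun n : N => (χ : G → ℂ) n) (θ : N → ℂ) ≠ 0) :
    Cfsg.blockDefect p (Cfsg.blockOf M (χ₀ : G → ℂ))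
      ≤ Cfsg.blockDefect p (Cfsg.blockOf M (θ₀ : N → ℂ)) + N.index.factorization p := by
  have h1 := sInf_le_sInf_of_covers N hN hM θ₀ χ₀ χ hχ θ hθ hc
  have h2 := factorization_card_eq_sInf_add_defect (p := p) _ χ hχ
  have h3 := factorization_card_eq_sInf_add_defect (p := p) _ θ hθ
  have h4 := factorization_card_eq_add_index (p := p) N hM.1
  omega

include hN in
theorem overSet_union_blocks (hM : Cfsg.IsPModular p M)
    (θ₀ : Cfsg.IrrCharacter N) (hst : GStable N hN (Cfsg.blockOf M (θ₀ : N → ℂ)))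
    (ψ : Cfsg.IrrCharacter G) (hψ : ψ ∈ overSet N (Cfsg.blockOf M (θ₀ : N → ℂ)))
    (ψ' : Cfsg.IrrCharacter G) (hψ' : ψ' ∈ Cfsg.blockOf M (ψ : G → ℂ)) :
    ψ' ∈ overSet N (Cfsg.blockOf M (θ₀ : N → ℂ)) := by
  obtain ⟨θ, hθ, hc⟩ := hψ
  obtain ⟨θ', hθ'⟩ := exists_constituent_restrict N ψ'.2
  refine ⟨θ', ?_, hθ'⟩
  exact constituents_mem_of_sameBlock N hN hM hst (fun n => blockCoeff_memLocalRing hM θ₀ n)
    ψ ψ' hψ' θ hθ hc θ' hθ'

include hN in
/-- a `G`-stable block of a normal subgroup is covered by a block of the largest possible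
defect -/
theorem exists_cover_blockDefect_ge (hM : Cfsg.IsPModular p M) [Fact p.Prime]
    (θ₀ : Cfsg.IrrCharacter N) (hst : GStable N hN (Cfsg.blockOf M (θ₀ : N → ℂ))) :
    ∃ χ : Cfsg.IrrCharacter G, χ ∈ overSet N (Cfsg.blockOf M (θ₀ : N → ℂ)) ∧
      Cfsg.blockDefect p (Cfsg.blockOf M (θ₀ : N → ℂ)) + N.index.factorization p
        ≤ Cfsg.blockDefect p (Cfsg.blockOf M (χ : G → ℂ)) := by
  classical
  haveI : Fintype (Cfsg.IrrCharacter G) := Fintype.ofFinite _
  haveI : Fintype (Cfsg.IrrCharacter N) := Fintype.ofFinite _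
  have hp : p.Prime := hM.1
  by_contra hcon
  push Not at hcon
  have hθ₀ : θ₀ ∈ Cfsg.blockOf M (θ₀ : N → ℂ) := sameBlock_refl hM _
  obtain ⟨k, hk⟩ : ∃ k, k = N.index.factorization p + (2 * (Nat.card N).factorization p
      - Cfsg.blockDefect p (Cfsg.blockOf M (θ₀ : N → ℂ))) := ⟨_, rfl⟩
  have hsumN := factorization_sum_sq_degree hM θ₀
  have hNpos : (∑ θ ∈ Finset.univ.filter (· ∈ Cfsg.blockOf M (θ₀ : N → ℂ)),
      Cfsg.charDegree (θ : N → ℂ) ^ 2) ≠ 0 := by
    apply ne_of_gt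
    apply Finset.sum_pos'
    · intro θ _
      exact Nat.zero_le _
    · exact ⟨θ₀, Finset.mem_filter.mpr ⟨Finset.mem_univ _, hθ₀⟩,
        pow_pos (Nat.pos_of_ne_zero (charDegree_ne_zero θ₀)) 2⟩
  have htot := sum_sq_overSet N hN hst
  have hfact : (∑ χ ∈ Finset.univ.filter (· ∈ overSet N (Cfsg.blockOf M (θ₀ : N → ℂ))),
      Cfsg.charDegree (χ : G → ℂ) ^ 2).factorization p = k := by
    rw [htot, Nat.factorization_mul Subgroup.index_ne_zero_of_finite hNpos, Finsupp.add_apply,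
      hsumN, hk]
  have htot0 : (∑ χ ∈ Finset.univ.filter (· ∈ overSet N (Cfsg.blockOf M (θ₀ : N → ℂ))),
      Cfsg.charDegree (χ : G → ℂ) ^ 2) ≠ 0 := by
    rw [htot]
    exact mul_ne_zero Subgroup.index_ne_zero_of_finite hNpos
  have hdvd : p ^ (k + 1) ∣ ∑ χ ∈ Finset.univ.filter (· ∈ overSet N (Cfsg.blockOf M (θ₀ : N → ℂ))),
      Cfsg.charDegree (χ : G → ℂ) ^ 2 := by
    refine sum_mem_of_union_blocks (G := G) hM (fun n : ℕ => p ^ (k + 1) ∣ n) (dvd_zero _)
      (fun a b ha hb => dvd_add ha hb)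
      (fun β : Cfsg.IrrCharacter G => Cfsg.charDegree (β : G → ℂ) ^ 2) _ ?_ ?_
    · intro ψ hψ ψ' hψ'
      rw [Finset.mem_filter] at hψ ⊢
      exact ⟨Finset.mem_univ _, overSet_union_blocks N hN hM θ₀ hst ψ hψ.2 ψ' hψ'⟩
    · intro ψ hψ
      rw [Finset.mem_filter] at hψ
      have h1 := hcon ψ hψ.2
      have h2 := factorization_sum_sq_degree hM ψ
      have h3 := factorization_card_eq_add_index (p := p) N hp
      have h4 := factorization_card_eq_sInf_add_defect (p := p) _ θ₀ hθ₀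
      have h5 : k + 1 ≤ (∑ β ∈ Finset.univ.filter (· ∈ Cfsg.blockOf M (ψ : G → ℂ)),
          Cfsg.charDegree (β : G → ℂ) ^ 2).factorization p := by
        rw [h2, hk]
        omega
      exact (pow_dvd_pow p h5).trans (Nat.ordProj_dvd _ _)
  rw [← hfact] at hdvd
  exact Nat.pow_succ_factorization_not_dvd htot0 hp hdvd

include hN in
/-- the lifted idempotent of a stable set is the idempotent of the characters over it -/
theorem liftIdem_eq_blockMat_overSet {A : Set (Cfsg.IrrCharacter N)} (hA : GStable N hN A) :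
    liftIdem N A = blockMat (overSet N A) := by
  classical
  apply eq_of_cOmega_eq (liftIdem_mem_centerAlg N hN hA) (blockMat_mem_centerAlg _)
  intro χ
  rw [cOmega_blockMat]
  split_ifs with h
  · obtain ⟨θ, hθ, hc⟩ := h
    exact cOmega_liftIdem_eq_one N hN hA χ.2 θ hθ hc
  · apply cOmega_liftIdem_eq_zero
    intro ψ hψ
    by_contra hne
    exact h ⟨ψ, hψ, hne⟩

include hN in
theorem blockCoeff_overSet_eq {A : Set (Cfsg.IrrCharacter N)} (hA : GStable N hN A) (g : G) :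
    Cfsg.blockCoeff (overSet N A) g = Cfsg.extendByZero N (Cfsg.blockCoeff A) g := by
  have h := liftIdem_eq_blockMat_overSet N hN hA
  unfold liftIdem blockMat at h
  have h2 := regMat_injective h
  exact (congrFun h2 g).symm

include hN in
theorem blockCoeff_overSet_coe {A : Set (Cfsg.IrrCharacter N)} (hA : GStable N hN A) (n : N) :
    Cfsg.blockCoeff (overSet N A) (n : G) = Cfsg.blockCoeff A n := by
  rw [blockCoeff_overSet_eq N hN hA, extendByZero_of_mem N _ n.2]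

include hN in
/-- a unit coefficient of a stable block is a unit coefficient of some covering block -/
theorem exists_cover_blockCoeff (hM : Cfsg.IsPModular p M)
    (θ₀ : Cfsg.IrrCharacter N) (hst : GStable N hN (Cfsg.blockOf M (θ₀ : N → ℂ))) (n : N)
    (hn : ¬ Cfsg.MemLocalIdeal M (Cfsg.blockCoeff (Cfsg.blockOf M (θ₀ : N → ℂ)) n)) :
    ∃ χ : Cfsg.IrrCharacter G, χ ∈ overSet N (Cfsg.blockOf M (θ₀ : N → ℂ)) ∧
      ¬ Cfsg.MemLocalIdeal M (Cfsg.blockCoeff (Cfsg.blockOf M (χ : G → ℂ)) (n : G)) := by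
  classical
  haveI : Fintype (Cfsg.IrrCharacter G) := Fintype.ofFinite _
  by_contra hcon
  push Not at hcon
  apply hn
  rw [← blockCoeff_overSet_coe N hN hst, blockCoeff_eq_sum]
  refine sum_mem_of_union_blocks (G := G) hM (fun z : ℂ => Cfsg.MemLocalIdeal M z)
    (memLocalIdeal_zero hM) (fun a b ha hb => MemLocalIdeal.add hM ha hb)
    (fun β : Cfsg.IrrCharacter G => idemFun (β : G → ℂ) (n : G)) _ ?_ ?_
  · intro ψ hψ ψ' hψ'
    rw [Finset.mem_filter] at hψ ⊢
    exact ⟨Finset.mem_univ _, overSet_union_blocks N hN hM θ₀ hst ψ hψ.2 ψ' hψ'⟩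
  · intro ψ hψ
    rw [Finset.mem_filter] at hψ
    have := hcon ψ hψ.2
    rw [blockCoeff_eq_sum] at this
    exact this

include hN in
/-- for `χ` over a stable block `b` there is an element of `N` at which both the idempotent
coefficient of `b` and the central character of `χ` are units -/
theorem exists_mem_blockCoeff_centralChar (hM : Cfsg.IsPModular p M)
    (θ₀ : Cfsg.IrrCharacter N) (hst : GStable N hN (Cfsg.blockOf M (θ₀ : N → ℂ)))
    (χ : Cfsg.IrrCharacter G) (hχ : χ ∈ overSet N (Cfsg.blockOf M (θ₀ : N → ℂ))) :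
    ∃ x : N, ¬ Cfsg.MemLocalIdeal M (Cfsg.blockCoeff (Cfsg.blockOf M (θ₀ : N → ℂ)) x) ∧
      ¬ Cfsg.MemLocalIdeal M (Cfsg.centralChar (χ : G → ℂ) (x : G)) := by
  classical
  haveI : Fintype (ConjClasses G) := Fintype.ofFinite _
  obtain ⟨θ, hθ, hc⟩ := hχ
  have h1 := cOmega_liftIdem_eq_one N hN hst χ.2 θ hθ hc
  rw [cOmega_eq_sum_classes (IsIrrCharacter.isClassFunction χ.2)
    (liftIdem_mem_centerAlg N hN hst)] at h1
  have hex : ∃ c : ConjClasses G, ¬ Cfsg.MemLocalIdeal M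
      (liftIdem N (Cfsg.blockOf M (θ₀ : N → ℂ)) (Quotient.out c) 1
        * Cfsg.centralChar (χ : G → ℂ) (Quotient.out c)) := by
    by_contra hcon
    push Not at hcon
    have := MemLocalIdeal.sum hM Finset.univ _ (fun c _ => hcon c)
    rw [h1] at this
    exact not_memLocalIdeal_one hM this
  obtain ⟨c, hc'⟩ := hex
  have hcoef : liftIdem N (Cfsg.blockOf M (θ₀ : N → ℂ)) (Quotient.out c) 1
      = Cfsg.extendByZero N (Cfsg.blockCoeff (Cfsg.blockOf M (θ₀ : N → ℂ))) (Quotient.out c) := by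
    unfold liftIdem
    rw [regMat_apply, inv_one, mul_one]
  rw [hcoef] at hc'
  by_cases hmem : Quotient.out c ∈ N
  · refine ⟨⟨Quotient.out c, hmem⟩, ?_, ?_⟩
    · intro h2
      apply hc'
      rw [extendByZero_of_mem N _ hmem]
      exact MemLocalIdeal.mul_right hM h2
        (memLocalRing_of_isIntegral hM (IsIrrCharacter.isIntegral_centralChar' χ.2 _))
    · intro h2
      apply hc'
      rw [extendByZero_of_mem N _ hmem]
      exact MemLocalIdeal.mul_left hM (blockCoeff_memLocalRing hM θ₀ _) h2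
  · exfalso
    apply hc'
    rw [extendByZero_of_not_mem N _ hmem, zero_mul]
    exact memLocalIdeal_zero hM

/-- arithmetic of `p`-powers used in Fong's theorem -/
theorem pow_split_eq {p : ℕ} (hp : p.Prime) {q r m a c : ℕ} (hqr : q * r = p ^ (a + c))
    (hq : q ∣ p ^ a) (hr : r ∣ m) (hm : m ≠ 0) (hc : c = m.factorization p) :
    q = p ^ a ∧ r = p ^ c := by
  obtain ⟨i, hi, rfl⟩ := (Nat.dvd_prime_pow hp).mp hq
  have hr' : r ∣ p ^ (a + c) := Dvd.intro_left _ hqr
  obtain ⟨j, hj, rfl⟩ := (Nat.dvd_prime_pow hp).mp hr'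
  rw [← pow_add] at hqr
  have hij := Nat.pow_right_injective hp.two_le hqr
  have hjc : j ≤ c := by
    rw [hc]
    exact (hp.pow_dvd_iff_le_factorization hm).mp hr
  have hi' : i = a := by omega
  have hj' : j = c := by omega
  rw [hi', hj']
  exact ⟨rfl, rfl⟩

include hN in
/-- Fong: a covering block of maximal defect over a stable block -/
theorem fong_cover (hM : Cfsg.IsPModular p M) [Fact p.Prime]
    (θ₀ : Cfsg.IrrCharacter N) (hst : GStable N hN (Cfsg.blockOf M (θ₀ : N → ℂ)))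
    (χ : Cfsg.IrrCharacter G) (hχ : χ ∈ overSet N (Cfsg.blockOf M (θ₀ : N → ℂ)))
    (hmax : ∀ χ' ∈ overSet N (Cfsg.blockOf M (θ₀ : N → ℂ)),
      Cfsg.blockDefect p (Cfsg.blockOf M (χ' : G → ℂ))
        ≤ Cfsg.blockDefect p (Cfsg.blockOf M (χ : G → ℂ)))
    (P : Subgroup G) (hP : Cfsg.IsDefectGroup p M (Cfsg.blockOf M (χ : G → ℂ)) P) :
    ¬ p ∣ (P ⊔ N).index ∧
      Cfsg.IsDefectGroup p M (Cfsg.blockOf M (θ₀ : N → ℂ)) ((P ⊓ N).subgroupOf N) ∧
      Cfsg.blockDefect p (Cfsg.blockOf M (χ : G → ℂ))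
        = Cfsg.blockDefect p (Cfsg.blockOf M (θ₀ : N → ℂ)) + N.index.factorization p := by
  classical
  have hp : p.Prime := hM.1
  haveI := hN
  -- Step A
  have hdef : Cfsg.blockDefect p (Cfsg.blockOf M (χ : G → ℂ))
        = Cfsg.blockDefect p (Cfsg.blockOf M (θ₀ : N → ℂ)) + N.index.factorization p := by
    obtain ⟨θ, hθ, hc⟩ := hχ
    have hle := blockDefect_le_of_covers N hN hM θ₀ χ χ (sameBlock_refl hM _) θ hθ hc
    obtain ⟨χ', hχ', hge⟩ := exists_cover_blockDefect_ge N hN hM θ₀ hst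
    exact le_antisymm hle (hge.trans (hmax χ' hχ'))
  -- Step B
  obtain ⟨x, hx1, hx2⟩ := exists_mem_blockCoeff_centralChar N hN hM θ₀ hst χ hχ
  obtain ⟨h', hconj, hPh'⟩ := exists_conj_centralizer_ge_of_centralChar hM χ (x : G) hx2 P hP
  obtain ⟨g, hg⟩ := isConj_iff.mp hconj
  obtain ⟨x', hx'⟩ : ∃ x' : N, x' = ⟨g * x * g⁻¹, hN.conj_mem x x.2 g⟩ := ⟨_, rfl⟩
  have hx1' : ¬ Cfsg.MemLocalIdeal M (Cfsg.blockCoeff (Cfsg.blockOf M (θ₀ : N → ℂ)) x') := by
    rw [hx', blockCoeff_conj_of_gStable N hN hst]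
    exact hx1
  have hx'coe : (x' : G) = h' := by rw [hx', ← hg]
  -- Step D
  have hPp : IsPGroup p P := IsDefectGroup.isPGroup' hP
  have hQ' : IsPGroup p ((P ⊓ N).subgroupOf N) := (hPp.to_le inf_le_left).comap_subtype
  have hQx' : (P ⊓ N).subgroupOf N ≤ Subgroup.centralizer ({x'} : Set N) := by
    intro n hn
    rw [Subgroup.mem_subgroupOf] at hn
    have h1 := hPh' hn.1
    rw [Subgroup.mem_centralizer_iff] at h1 ⊢
    intro y hy
    rw [Set.mem_singleton_iff] at hy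
    rw [hy]
    apply Subtype.ext
    have := h1 h' (Set.mem_singleton _)
    rw [Subgroup.coe_mul, Subgroup.coe_mul, hx'coe]
    exact this
  obtain ⟨E', hE', hQE⟩ := exists_defectGroup_ge_of_blockCoeff hM θ₀ x' hx1' _ hQ' hQx'
  have cP : Nat.card P = p ^ Cfsg.blockDefect p (Cfsg.blockOf M (χ : G → ℂ)) :=
    Cfsg.Agent.S0908.result p M hM _ ⟨χ, rfl⟩ P hP
  have cE : Nat.card E' = p ^ Cfsg.blockDefect p (Cfsg.blockOf M (θ₀ : N → ℂ)) :=
    Cfsg.Agent.S0908.result p M hM _ ⟨θ₀, rfl⟩ E' hE'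
  have cQ : Nat.card ((P ⊓ N).subgroupOf N) ∣ p ^ Cfsg.blockDefect p (Cfsg.blockOf M (θ₀ : N → ℂ)) := by
    rw [← cE]
    exact Subgroup.card_dvd_of_le hQE
  have cQ2 : Nat.card ((P ⊓ N).subgroupOf N) = Nat.card (N.subgroupOf P) := by
    rw [Nat.card_congr (Subgroup.subgroupOfEquivOfLe (inf_le_right : P ⊓ N ≤ N)).toEquiv,
      ← Subgroup.inf_subgroupOf_right N P,
      Nat.card_congr (Subgroup.subgroupOfEquivOfLe (inf_le_right : N ⊓ P ≤ P)).toEquiv, inf_comm]
  have hmul : Nat.card ((P ⊓ N).subgroupOf N) * N.relIndex P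
      = p ^ (Cfsg.blockDefect p (Cfsg.blockOf M (θ₀ : N → ℂ)) + N.index.factorization p) := by
    rw [cQ2, ← hdef, ← cP]
    exact Subgroup.card_mul_index (N.subgroupOf P)
  have hr : N.relIndex P ∣ N.index := Subgroup.relIndex_dvd_index_of_normal N P
  obtain ⟨hq1, hr1⟩ := pow_split_eq hp hmul cQ hr Subgroup.index_ne_zero_of_finite rfl
  refine ⟨?_, ?_, hdef⟩
  · intro hdvd
    have h1 : N.relIndex (P ⊔ N) * (P ⊔ N).index = N.index :=
      Subgroup.relIndex_mul_index le_sup_right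
    rw [Subgroup.relIndex_sup_right, hr1] at h1
    have h2 : p ^ (N.index.factorization p + 1) ∣ N.index := by
      rw [pow_succ]
      conv_rhs => rw [← h1]
      exact mul_dvd_mul_left _ hdvd
    exact Nat.pow_succ_factorization_not_dvd Subgroup.index_ne_zero_of_finite hp h2
  · have heq : (P ⊓ N).subgroupOf N = E' := by
      apply Subgroup.eq_of_le_of_card_ge hQE
      rw [cE, hq1]
    rw [heq]
    exact hE'

end coverDefect

end Cfsg.Agent.Lib.Helper6
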