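import Mathlib
import Cfsg.Agent.Lib.Helper6.BlkCoverDefect

set_option autoImplicit false
set_option linter.unusedSectionVars false
open Cfsg

namespace Cfsg.Agent.Lib.Helper6

open scoped ComplexConjugate

section uniqueCover

variable {G : Type*} [Group G] [Fintype G] [DecidableEq G]
variable {p : ℕ} [hp : Fact p.Prime] {M : Ideal Cfsg.AlgInt}
variable (N : Subgroup G) [Fintype N] (hN : N.Normal) (T : Subgroup G) [Fintype T] (hNT : N ≤ T)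
variable (b : Set (Cfsg.IrrCharacter N))
variable (hT : ∀ g : G, g ∈ T ↔ ∀ θ ∈ b, irrConj N hN g θ ∈ b)

theorem charDegree_irrSub (θ : Cfsg.IrrCharacter N) :
    Cfsg.charDegree ((irrSub N T hNT θ : Cfsg.IrrCharacter (N.subgroupOf T)) : N.subgroupOf T → ℂ)
      = Cfsg.charDegree (θ : N → ℂ) := by
  unfold Cfsg.charDegree
  rw [irrSub_apply, map_one]

theorem blockDefect_image_irrSub (A : Set (Cfsg.IrrCharacter N)) :
    Cfsg.blockDefect p (irrSub N T hNT '' A) = Cfsg.blockDefect p A := by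
  unfold Cfsg.blockDefect
  rw [Nat.card_congr (Subgroup.subgroupOfEquivOfLe hNT).toEquiv, Set.image_image]
  congr 3

include hNT hT in
/-- the defect of a block which is the unique block covering `b` -/
theorem blockDefect_of_unique_cover (hM : Cfsg.IsPModular p M) (hb : Cfsg.IsPBlock M b)
    (β : Set (Cfsg.IrrCharacter G)) (hβ : Cfsg.IsPBlock M β)
    (hcov : ∃ χ ∈ β, ∃ θ ∈ b, Cfsg.classInner (fun n : N => (χ : G → ℂ) n) (θ : N → ℂ) ≠ 0)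
    (huniq : ∀ β' : Set (Cfsg.IrrCharacter G), Cfsg.IsPBlock M β' →
      (∃ χ ∈ β', ∃ θ ∈ b, Cfsg.classInner (fun n : N => (χ : G → ℂ) n) (θ : N → ℂ) ≠ 0) →
      β' = β) :
    Cfsg.blockDefect p β = Cfsg.blockDefect p b + (N.relIndex T).factorization p := by
  classical
  haveI : Fintype (N.subgroupOf T) := Fintype.ofFinite _
  obtain ⟨B', hB', hcov', hind⟩ := fongReynolds_surjective N hN T hNT b hT hM hb β hβ hcov
  have hd := fongReynolds_blockDefect N hN T hNT b hT hM hb B' hB' hcov' β hind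
  have hst := gStable_image_irrSub N hN T hNT b hT
  obtain ⟨ψ₀, hψ₀, θ, hθ, hc⟩ := hcov'
  have hB'eq : B' = Cfsg.blockOf M (ψ₀ : T → ℂ) := by
    obtain ⟨ξ, rfl⟩ := hB'
    exact blockOf_eq_of_mem hM hψ₀
  obtain ⟨θ₀, hbθ₀⟩ := hb
  have hb'eq : irrSub N T hNT '' b
      = Cfsg.blockOf M ((irrSub N T hNT θ₀ : Cfsg.IrrCharacter (N.subgroupOf T)) :
        N.subgroupOf T → ℂ) := by
    rw [hbθ₀]
    exact image_irrSub_blockOf N T hNT θ₀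
  rw [hb'eq] at hst
  have hψ₀over : ψ₀ ∈ overSet (N.subgroupOf T) (Cfsg.blockOf M
      ((irrSub N T hNT θ₀ : Cfsg.IrrCharacter (N.subgroupOf T)) : N.subgroupOf T → ℂ)) := by
    refine ⟨irrSub N T hNT θ, ?_, ?_⟩
    · rw [← hb'eq]
      exact ⟨θ, hθ, rfl⟩
    · rw [classInner_restrict_irrSub]
      exact hc
  have hmax : ∀ ψ' ∈ overSet (N.subgroupOf T) (Cfsg.blockOf M
      ((irrSub N T hNT θ₀ : Cfsg.IrrCharacter (N.subgroupOf T)) : N.subgroupOf T → ℂ)),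
      Cfsg.blockDefect p (Cfsg.blockOf M (ψ' : T → ℂ))
        ≤ Cfsg.blockDefect p (Cfsg.blockOf M (ψ₀ : T → ℂ)) := by
    intro ψ' hψ'
    obtain ⟨θ'', hθ'', hc''⟩ := hψ'
    rw [← hb'eq] at hθ''
    obtain ⟨θ₁, hθ₁, rfl⟩ := hθ''
    rw [classInner_restrict_irrSub] at hc''
    have hcov₂ : ∃ ψ ∈ Cfsg.blockOf M (ψ' : T → ℂ), ∃ θ ∈ b,
        Cfsg.classInner (fun n : N => (ψ : T → ℂ) ⟨n, hNT n.2⟩) (θ : N → ℂ) ≠ 0 :=
      ⟨ψ', sameBlock_refl hM _, θ₁, hθ₁, hc''⟩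
    have hcov₀ : ∃ ψ ∈ Cfsg.blockOf M (ψ₀ : T → ℂ), ∃ θ ∈ b,
        Cfsg.classInner (fun n : N => (ψ : T → ℂ) ⟨n, hNT n.2⟩) (θ : N → ℂ) ≠ 0 :=
      ⟨ψ₀, sameBlock_refl hM _, θ, hθ, hc⟩
    obtain ⟨B₂, hind₂, hcovB₂, _, _⟩ := fongReynolds_induce N hN T hNT b hT hM ⟨θ₀, hbθ₀⟩
      (Cfsg.blockOf M (ψ' : T → ℂ)) ⟨ψ', rfl⟩ hcov₂
    have hB₂ : B₂ = β := huniq B₂ hind₂.2.1 hcovB₂
    rw [hB₂] at hind₂
    rw [hB'eq] at hind
    have := fongReynolds_injective N hN T hNT b hT hM ⟨θ₀, hbθ₀⟩ _ _ ⟨ψ', rfl⟩ ⟨ψ₀, rfl⟩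
      hcov₂ hcov₀ β hind₂ hind
    rw [this]
  obtain ⟨P, hP⟩ := exists_isDefectGroup hM (Cfsg.blockOf M (ψ₀ : T → ℂ)) ⟨ψ₀, rfl⟩
  have h3 := (fong_cover (N.subgroupOf T) (hN.subgroupOf T) hM (irrSub N T hNT θ₀) hst ψ₀ hψ₀over
    hmax P hP).2.2
  rw [hd, hB'eq, h3, ← hb'eq, blockDefect_image_irrSub]
  rfl

end uniqueCover

end Cfsg.Agent.Lib.Helper6
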