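import Mathlib
import Cfsg.Agent.Lib.Helper6.BlkUniqueCover
import Cfsg.Agent.Lib.Helper6.BlkOrthFull
import Cfsg.Agent.S0971
import Cfsg.Agent.S0912

set_option autoImplicit false
set_option linter.unusedSectionVars false
open Cfsg

namespace Cfsg.Agent.Lib.Helper6

open scoped ComplexConjugate

section extMainNormal

variable {G : Type*} [Group G] [Fintype G] [DecidableEq G]
variable {p : ℕ} [hp : Fact p.Prime] {M : Ideal Cfsg.AlgInt}

/-- the extended first main theorem when the `p`-subgroup is normal -/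
theorem isDefectGroup_iff_of_normal (hM : Cfsg.IsPModular p M) (P : Subgroup G) (hPn : P.Normal)
    (hP : IsPGroup p P) (H : Subgroup G) [Fintype H]
    (hH : H = P ⊔ Subgroup.centralizer (P : Set G)) (hHn : H.Normal)
    (b : Set (Cfsg.IrrCharacter H)) (hb : Cfsg.IsPBlock M b)
    (hdb : Nat.card P = p ^ Cfsg.blockDefect p b)
    (T : Subgroup G) [Fintype T] (hHT : H ≤ T)
    (hT : ∀ g : G, g ∈ T ↔ ∀ θ ∈ b, irrConj H hHn g θ ∈ b)
    (β : Set (Cfsg.IrrCharacter G)) (hβ : Cfsg.IsPBlock M β)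
    (hcov : ∃ χ ∈ β, ∃ θ ∈ b, Cfsg.classInner (fun n : H => (χ : G → ℂ) n) (θ : H → ℂ) ≠ 0) :
    Cfsg.IsDefectGroup p M β P ↔ ¬ p ∣ H.relIndex T := by
  classical
  have hpp : p.Prime := hM.1
  subst hH
  haveI := hPn
  have h71 := (Cfsg.Agent.S0971.result p M hM P hP b hb).2
  have huniq : ∀ β' : Set (Cfsg.IrrCharacter G), Cfsg.IsPBlock M β' →
      (∃ χ ∈ β', ∃ θ ∈ b, Cfsg.classInner
        (fun n : ↥(P ⊔ Subgroup.centralizer (P : Set G)) => (χ : G → ℂ) n)
        (θ : ↥(P ⊔ Subgroup.centralizer (P : Set G)) → ℂ) ≠ 0) → β' = β := by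
    intro β' hβ' hcov'
    exact IsInducedBlock.unique _ hM (h71 β' hβ' hcov') (h71 β hβ hcov)
  have hform := blockDefect_of_unique_cover (P ⊔ Subgroup.centralizer (P : Set G)) hHn T hHT b hT
    hM hb β hβ hcov huniq
  have hrel : (P ⊔ Subgroup.centralizer (P : Set G)).relIndex T ≠ 0 := by
    unfold Subgroup.relIndex
    exact Subgroup.index_ne_zero_of_finite
  constructor
  · intro hD
    have h1 := Cfsg.Agent.S0908.result p M hM β hβ P hD
    rw [hdb] at h1
    have h2 := Nat.pow_right_injective hpp.two_le h1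
    have h3 : ((P ⊔ Subgroup.centralizer (P : Set G)).relIndex T).factorization p = 0 := by
      omega
    rcases (Nat.factorization_eq_zero_iff _ _).mp h3 with h4 | h4 | h4
    · exact absurd hpp h4
    · exact h4
    · exact absurd h4 hrel
  · intro hnd
    have h3 : ((P ⊔ Subgroup.centralizer (P : Set G)).relIndex T).factorization p = 0 :=
      Nat.factorization_eq_zero_of_not_dvd hnd
    rw [h3, add_zero] at hform
    obtain ⟨D, hD⟩ := exists_isDefectGroup hM β hβ
    have h1 := Cfsg.Agent.S0908.result p M hM β hβ D hD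
    have h2 := Cfsg.Agent.S0912.result p M hM β hβ D hD
    have hPD : P ≤ D := (le_sSup ⟨hPn, hP⟩ : P ≤ Cfsg.pCore p G).trans h2
    have : P = D := by
      apply Subgroup.eq_of_le_of_card_ge hPD
      rw [h1, hdb, hform]
    rw [this]
    exact hD

end extMainNormal

end Cfsg.Agent.Lib.Helper6
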