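import Mathlib
import Cfsg.Agent.Lib.Helper6.BlkFRDict

set_option autoImplicit false
set_option linter.unusedSectionVars false
open Cfsg

namespace Cfsg.Agent.Lib.Helper6

open scoped ComplexConjugate

section blockStab

variable {G : Type*} [Group G] [Fintype G] [DecidableEq G]
variable {p : ℕ} {M : Ideal Cfsg.AlgInt}
variable (N : Subgroup G) [Fintype N] (hN : N.Normal)

theorem irrConj_one (θ : Cfsg.IrrCharacter N) : irrConj N hN 1 θ = θ := by
  apply Subtype.ext
  rw [irrConj_coe, conjFun_one]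

theorem irrConj_mul (g h : G) (θ : Cfsg.IrrCharacter N) :
    irrConj N hN (g * h) θ = irrConj N hN h (irrConj N hN g θ) := by
  apply Subtype.ext
  rw [irrConj_coe, irrConj_coe, irrConj_coe, conjFun_conjFun]

theorem irrConj_of_mem {g : G} (hg : g ∈ N) (θ : Cfsg.IrrCharacter N) :
    irrConj N hN g θ = θ := by
  apply Subtype.ext
  rw [irrConj_coe]
  exact conjFun_of_mem N hN (IsIrrCharacter.isClassFunction θ.2) hg

/-- the stabilizer of a set of irreducible characters of a normal subgroup -/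
def blockStab (b : Set (Cfsg.IrrCharacter N)) : Subgroup G where
  carrier := {g | ∀ θ : Cfsg.IrrCharacter N, θ ∈ b ↔ irrConj N hN g θ ∈ b}
  one_mem' := by
    intro θ
    rw [irrConj_one]
  mul_mem' := by
    intro g h hg hh θ
    rw [irrConj_mul]
    exact (hg θ).trans (hh _)
  inv_mem' := by
    intro g hg θ
    have h1 := hg (irrConj N hN g⁻¹ θ)
    rw [← irrConj_mul, inv_mul_cancel, irrConj_one] at h1
    exact h1.symm

theorem le_blockStab (b : Set (Cfsg.IrrCharacter N)) : N ≤ blockStab N hN b := by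
  intro g hg θ
  rw [irrConj_of_mem N hN hg]

theorem mem_blockStab_iff (hM : Cfsg.IsPModular p M) (b : Set (Cfsg.IrrCharacter N))
    (hb : Cfsg.IsPBlock M b) (g : G) :
    g ∈ blockStab N hN b ↔ ∀ θ ∈ b, irrConj N hN g θ ∈ b := by
  constructor
  · intro h θ hθ
    exact (h θ).1 hθ
  · intro h θ
    refine ⟨h θ, ?_⟩
    intro hθ
    obtain ⟨θ₀, rfl⟩ := hb
    have hθ₀ : θ₀ ∈ Cfsg.blockOf M (θ₀ : N → ℂ) := sameBlock_refl hM _
    have h1 := h θ₀ hθ₀
    have h2 : Cfsg.SameBlock M (conjFun N hN (θ₀ : N → ℂ) g) (conjFun N hN (θ : N → ℂ) g) :=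
      SameBlock.trans' hM (SameBlock.symm' h1) hθ
    have h3 := sameBlock_conjFun N hN h2 g⁻¹
    rw [conjFun_conjFun, conjFun_conjFun, mul_inv_cancel, conjFun_one, conjFun_one] at h3
    exact h3

end blockStab

end Cfsg.Agent.Lib.Helper6
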