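import Mathlib
import Cfsg.Agent.Lib.Helper6.BlkExtMain
import Cfsg.Agent.Lib.Helper6.BlkFirstMain
import Cfsg.Agent.Lib.Helper6.BlkExtFirst
import Cfsg.Agent.Lib.Helper6.BlkStab

set_option autoImplicit false
set_option linter.unusedSectionVars false
open Cfsg

namespace Cfsg.Agent.Lib.Helper6

open scoped ComplexConjugate

section dict

variable {G : Type*} [Group G] [Fintype G] [DecidableEq G]
variable {p : ℕ} {M : Ideal Cfsg.AlgInt}
variable (H K : Subgroup G) [Fintype H] [Fintype K] (hHK : H ≤ K) [Fintype (H.subgroupOf K)]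
variable (hHn : (H.subgroupOf K).Normal)
variable (b : Set (Cfsg.IrrCharacter H))

theorem irrSub_symm_irrConj_apply (g : K) (θ : Cfsg.IrrCharacter H) (x x' : H)
    (hx : (x' : G) = (g : G) * x * (g : G)⁻¹) :
    (((irrSub H K hHK).symm (irrConj (H.subgroupOf K) hHn g⁻¹ (irrSub H K hHK θ)) :
      Cfsg.IrrCharacter H) : H → ℂ) x' = (θ : H → ℂ) x := by
  change (θ : H → ℂ) _ = (θ : H → ℂ) x
  apply congrArg
  apply Subtype.ext
  simp [hx, mul_assoc]

theorem stmtStab_iff (g : K) :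
    (∀ θ ∈ b, ∀ θ' : Cfsg.IrrCharacter H,
      (∀ h h' : H, (h' : G) = (g : G) * h * (g : G)⁻¹ → (θ' : H → ℂ) h' = (θ : H → ℂ) h) → θ' ∈ b)
      ↔ ∀ θ'' ∈ irrSub H K hHK '' b,
        irrConj (H.subgroupOf K) hHn g⁻¹ θ'' ∈ irrSub H K hHK '' b := by
  constructor
  · rintro h _ ⟨θ, hθ, rfl⟩
    refine ⟨(irrSub H K hHK).symm (irrConj _ hHn g⁻¹ (irrSub H K hHK θ)), ?_,
      Equiv.apply_symm_apply _ _⟩
    apply h θ hθ
    intro x x' hx
    exact irrSub_symm_irrConj_apply H K hHK hHn g θ x x' hx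
  · intro h θ hθ θ' hθ'
    obtain ⟨θ₂, hθ₂, he⟩ := h (irrSub H K hHK θ) ⟨θ, hθ, rfl⟩
    have : θ' = θ₂ := by
      rw [← (irrSub H K hHK).symm_apply_apply θ₂, he]
      apply Subtype.ext
      funext x'
      have hmem : (g : G)⁻¹ * (x' : G) * (g : G) ∈ H := by
        have h1 := hHn.conj_mem ((Subgroup.subgroupOfEquivOfLe hHK).symm x')
          ((Subgroup.subgroupOfEquivOfLe hHK).symm x').2 g⁻¹
        rw [Subgroup.mem_subgroupOf] at h1
        simpa using h1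
      have hx : (x' : G) = (g : G) * ((⟨_, hmem⟩ : H) : G) * (g : G)⁻¹ := by
        simp [mul_assoc]
      rw [hθ' ⟨_, hmem⟩ x' hx]
      exact (irrSub_symm_irrConj_apply H K hHK hHn g θ ⟨_, hmem⟩ x' hx).symm
    rw [this]
    exact hθ₂

theorem mem_subgroupOf_stab_iff (T : Subgroup G)
    (hT : ∀ g : G, g ∈ T ↔ (g ∈ K ∧ ∀ θ ∈ b, ∀ θ' : Cfsg.IrrCharacter H,
      (∀ h h' : H, (h' : G) = g * h * g⁻¹ → (θ' : H → ℂ) h' = (θ : H → ℂ) h) → θ' ∈ b))
    (g : K) :
    g ∈ T.subgroupOf K ↔ ∀ θ'' ∈ irrSub H K hHK '' b,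
        irrConj (H.subgroupOf K) hHn g θ'' ∈ irrSub H K hHK '' b := by
  rw [Subgroup.mem_subgroupOf, ← T.inv_mem_iff, hT]
  have h1 := stmtStab_iff H K hHK hHn b g⁻¹
  rw [inv_inv] at h1
  rw [← h1]
  constructor
  · intro h
    exact h.2
  · intro h
    exact ⟨K.inv_mem g.2, h⟩

end dict

section extMain

variable {G : Type*} [Group G] [Fintype G] [DecidableEq G]
variable {p : ℕ} [hp : Fact p.Prime] {M : Ideal Cfsg.AlgInt}

theorem isInducedBlock_of_covers_of_normal (hM : Cfsg.IsPModular p M) (P : Subgroup G)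
    (hPn : P.Normal) (hP : IsPGroup p P) (H : Subgroup G) [Fintype H]
    (hH : H = P ⊔ Subgroup.centralizer (P : Set G))
    (b : Set (Cfsg.IrrCharacter H)) (hb : Cfsg.IsPBlock M b)
    (β : Set (Cfsg.IrrCharacter G)) (hβ : Cfsg.IsPBlock M β)
    (hcov : ∃ χ ∈ β, ∃ θ ∈ b, Cfsg.classInner (fun n : H => (χ : G → ℂ) n) (θ : H → ℂ) ≠ 0) :
    Cfsg.IsInducedBlock M H b β := by
  subst hH
  haveI := hPn
  exact (Cfsg.Agent.S0971.result p M hM P hP b hb).2 β hβ hcov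

variable (P : Subgroup G)

local notation "NP" => Subgroup.normalizer (P : Set G)

/-- the extended first main theorem: when does the induced block have defect group `P` -/
theorem extMain_isDefectGroup_iff (hM : Cfsg.IsPModular p M) (hP : IsPGroup p P)
    (H : Subgroup G) [Fintype H] (hH : H = P ⊔ Subgroup.centralizer (P : Set G))
    (b : Set (Cfsg.IrrCharacter H)) (hb : Cfsg.IsPBlock M b)
    (hbP : Cfsg.IsDefectGroup p M b (P.subgroupOf H))
    (B : Set (Cfsg.IrrCharacter G)) (hind : Cfsg.IsInducedBlock M H b B) (T : Subgroup G)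
    (hT : ∀ g : G, g ∈ T ↔ (g ∈ Subgroup.normalizer (P : Set G) ∧
      ∀ θ ∈ b, ∀ θ' : Cfsg.IrrCharacter H,
        (∀ h h' : H, (h' : G) = g * h * g⁻¹ → (θ' : H → ℂ) h' = (θ : H → ℂ) h) → θ' ∈ b)) :
    Cfsg.IsDefectGroup p M B P ↔ ¬ p ∣ H.relIndex T := by
  classical
  haveI : Fintype NP := Fintype.ofFinite _
  have hPK : P ≤ NP := Subgroup.le_normalizer
  have hCK : Subgroup.centralizer (P : Set G) ≤ NP := Subgroup.centralizer_le_normalizer _
  have hPH : P ≤ H := by rw [hH]; exact le_sup_left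
  have hHK : H ≤ NP := by rw [hH]; exact sup_le hPK hCK
  haveI : Fintype (H.subgroupOf NP) := Fintype.ofFinite _
  haveI : Fintype (T.subgroupOf NP) := Fintype.ofFinite _
  have hP'n : (P.subgroupOf NP).Normal := subgroupOf_normalizer_normal P
  have hP'p : IsPGroup p (P.subgroupOf NP) := hP.comap_subtype
  have hH' : H.subgroupOf NP = P.subgroupOf NP
      ⊔ Subgroup.centralizer ((P.subgroupOf NP : Subgroup NP) : Set NP) := by
    have h1 := map_sup_centralizer_subgroupOf_normalizer P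
    rw [← hH] at h1
    rw [← h1]
    exact Subgroup.comap_map_eq_self_of_injective (Subgroup.subtype_injective _) _
  have hH'n : (H.subgroupOf NP).Normal := by
    rw [hH']
    haveI := hP'n
    haveI : (Subgroup.centralizer ((P.subgroupOf NP : Subgroup NP) : Set NP)).Normal :=
      Subgroup.normal_centralizer
    infer_instance
  obtain ⟨θ₀, hbθ₀⟩ := hb
  have hθ₀b : θ₀ ∈ b := by rw [hbθ₀]; exact sameBlock_refl hM _
  have hb' : irrSub H NP hHK '' b = Cfsg.blockOf M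
      ((irrSub H NP hHK θ₀ : Cfsg.IrrCharacter (H.subgroupOf NP)) : H.subgroupOf NP → ℂ) := by
    rw [hbθ₀]
    exact image_irrSub_blockOf H NP hHK θ₀
  have hb'blk : Cfsg.IsPBlock M (irrSub H NP hHK '' b) := by
    rw [hb']; exact ⟨_, rfl⟩
  obtain ⟨χ, hχ⟩ := exists_irr_over (H.subgroupOf NP) (irrSub H NP hHK θ₀)
  have hcov : ∃ χ' ∈ Cfsg.blockOf M (χ : NP → ℂ), ∃ θ ∈ irrSub H NP hHK '' b,
      Cfsg.classInner (fun n : H.subgroupOf NP => (χ' : NP → ℂ) n)
        (θ : H.subgroupOf NP → ℂ) ≠ 0 :=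
    ⟨χ, sameBlock_refl hM _, irrSub H NP hHK θ₀, ⟨θ₀, hθ₀b, rfl⟩, hχ⟩
  have hβind := isInducedBlock_of_covers_of_normal hM (P.subgroupOf NP) hP'n hP'p
    (H.subgroupOf NP) hH' _ hb'blk (Cfsg.blockOf M (χ : NP → ℂ)) ⟨χ, rfl⟩ hcov
  obtain ⟨B₁, hB₁⟩ := inducedBlockDefined_of_centralizer_le P NP hM hP hPK hCK le_rfl
    (Cfsg.blockOf M (χ : NP → ℂ)) ⟨χ, rfl⟩
  have hβind' := hβind
  rw [hb'] at hβind'
  have ht := IsInducedBlock.trans hM NP (H.subgroupOf NP) H (Subgroup.subgroupOfEquivOfLe hHK)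
    (fun x => rfl) θ₀ hβind' hB₁
  rw [← hbθ₀] at ht
  have hBB₁ : B = B₁ := IsInducedBlock.unique H hM hind ht
  have hβB : Cfsg.IsInducedBlock M NP (Cfsg.blockOf M (χ : NP → ℂ)) B := by
    rw [hBB₁]; exact hB₁
  have hTK : T ≤ NP := fun g hg => ((hT g).1 hg).1
  have hT' := mem_subgroupOf_stab_iff H NP hHK hH'n b T hT
  have hH'T' : H.subgroupOf NP ≤ T.subgroupOf NP := by
    intro g hg
    rw [hT']
    intro θ'' hθ''
    rw [irrConj_of_mem _ hH'n hg]
    exact hθ''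
  have hdb' : Nat.card (P.subgroupOf NP) = p ^ Cfsg.blockDefect p (irrSub H NP hHK '' b) := by
    rw [blockDefect_image_irrSub, Nat.card_congr (Subgroup.subgroupOfEquivOfLe hPK).toEquiv]
    have := Cfsg.Agent.S0908.result p M hM b ⟨θ₀, hbθ₀⟩ _ hbP
    rw [← this]
    exact (Nat.card_congr (Subgroup.subgroupOfEquivOfLe hPH).toEquiv).symm
  have hA := isDefectGroup_iff_of_normal hM (P.subgroupOf NP) hP'n hP'p (H.subgroupOf NP) hH' hH'n
    (irrSub H NP hHK '' b) hb'blk hdb' (T.subgroupOf NP) hH'T' hT'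
    (Cfsg.blockOf M (χ : NP → ℂ)) ⟨χ, rfl⟩ hcov
  rw [Subgroup.relIndex_subgroupOf hTK] at hA
  rw [← hA]
  constructor
  · intro hDB
    exact isDefectGroup_of_induced hM P hP NP hPK le_rfl hβB hDB
  · intro hDβ
    obtain ⟨B₂, _, hB₂D, hB₂ind⟩ := firstMain_induced hM P hP _ ⟨χ, rfl⟩ hDβ
    rw [IsInducedBlock.unique NP hM hβB hB₂ind]
    exact hB₂D

end extMain

end Cfsg.Agent.Lib.Helper6
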