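import Mathlib
import Cfsg.Prelude.Def_Blocks
import Cfsg.Prelude.Def_BrauerPairs
import Cfsg.Agent.Lib.Helper6.BrPair5

set_option autoImplicit false
set_option linter.unusedSectionVars false
open Cfsg

namespace Cfsg.Agent.Lib.Helper6

open scoped ComplexConjugate

section bigger

variable {G : Type*} [Group G] [Fintype G] [DecidableEq G]
variable {p : ℕ} {M : Ideal Cfsg.AlgInt}

/-- a Brauer pair `(P, e)` extends to a larger `p`-subgroup `D` normalizing `P` and stabilizing
`e` as soon as the idempotent of `e` does not vanish on `C_G(D)` modulo the ideal -/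
theorem exists_isNormalSubpair_of_blockCoeff (hM : Cfsg.IsPModular p M) (P D : Subgroup G)
    [Fintype (Subgroup.centralizer (P : Set G))] [Fintype (Subgroup.centralizer (D : Set G))]
    (hD : IsPGroup p D) (hPD : P ≤ D) (hDN : D ≤ Subgroup.normalizer (P : Set G))
    (e : Set (Cfsg.IrrCharacter (Subgroup.centralizer (P : Set G))))
    (hPe : Cfsg.IsBrauerPair p M P e)
    (hst : ∀ x ∈ D, Cfsg.StabilizesBlock (Subgroup.centralizer (P : Set G)) e x)
    (c₀ : G) (hc₀ : c₀ ∈ Subgroup.centralizer (D : Set G))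
    (hc₀P : c₀ ∈ Subgroup.centralizer (P : Set G))
    (hne : ¬ Cfsg.MemLocalIdeal M (Cfsg.blockCoeff e ⟨c₀, hc₀P⟩)) :
    ∃ g : Set (Cfsg.IrrCharacter (Subgroup.centralizer (D : Set G))),
      Cfsg.IsNormalSubpair p M P e D g := by
  classical
  have hCK : Subgroup.centralizer (D : Set G) ≤ Subgroup.centralizer (P : Set G) :=
    Subgroup.centralizer_le hPD
  have hPK := hDN.trans (normalizer_le_normalizer_centralizer P)
  have hes : PStable D (Subgroup.centralizer (P : Set G)) hPK e := (pStable_iff D _ hPK e).mpr hst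
  have hEc := blockMat_mem_centerAlg e
  have hEs := isPBlock_mem_sMat hM hPe.2
  set t := trMat D (Subgroup.centralizer (P : Set G)) (blockMat e) with ht
  have htc : t ∈ centerAlg (Subgroup.centralizer (D : Set G)) := trMat_mem_centerAlg D _ hCK hEc
  have hts : t ∈ sMat hM (Subgroup.centralizer (D : Set G)) := trMat_mem_sMat D _ hM hEs
  have hidem : MMat M (t * t - t) := by
    have h3 := trMat_mul_sub_mMat D _ hPK hM hD hEc.1 hEs (blockMat_kInv D _ hPK hes) hEs
      (blockMat_kInv D _ hPK hes)
    rw [blockMat_idem] at h3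
    have h4 := MMat.neg h3
    convert h4 using 1
    rw [ht]
    abel
  have hnot : ¬ MMat M t := by
    intro h
    apply hne
    have h1 := h ⟨c₀, hc₀⟩ 1
    rw [ht, trMat_apply_one D _ hCK] at h1
    unfold blockMat at h1
    rw [regMat_apply, inv_one, mul_one] at h1
    exact h1
  have hex : ∃ ζ : Cfsg.IrrCharacter (Subgroup.centralizer (D : Set G)),
      ¬ Cfsg.MemLocalIdeal M (cOmega (ζ : Subgroup.centralizer (D : Set G) → ℂ) t) := by
    by_contra hall
    push Not at hall
    exact hnot (mMat_of_cOmega_of_idem hM htc hts hall hidem)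
  obtain ⟨ζ, hζ⟩ := hex
  have hζ1 : Cfsg.MemLocalIdeal M
      (trOmega D (Subgroup.centralizer (P : Set G))
        (ζ : Subgroup.centralizer (D : Set G) → ℂ) e - 1) := by
    rcases trOmega_dichotomy D _ hPK hM hD hCK ζ hPe.2 hes with h | h
    · exact absurd h hζ
    · exact h
  refine ⟨Cfsg.blockOf M (ζ : Subgroup.centralizer (D : Set G) → ℂ), ?_⟩
  rw [isNormalSubpair_iff D P hPD hDN _ ⟨hD, ⟨ζ, rfl⟩⟩ e]
  refine ⟨hPe.2, hes, ?_⟩
  intro ζ' hζ'
  have h1 := trOmega_sub_of_sameBlock D _ hM hCK ζ' ζ (SameBlock.symm' hζ') hPe.2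
  have := MemLocalIdeal.add hM h1 hζ1
  convert this using 1
  ring

end bigger

section stab

variable {G : Type*} [Group G] [Finite G]

/-- the stabilizer in the normalizer of `K` of a set of irreducible characters of `K` -/
noncomputable def stabSub (K : Subgroup G) (A : Set (Cfsg.IrrCharacter K)) : Subgroup G where
  carrier := {g | ∃ hg : g ∈ Subgroup.normalizer (K : Set G), autIrr (nAut K g hg) '' A = A}
  one_mem' := by
    refine ⟨Subgroup.one_mem _, ?_⟩
    rw [nAut_one, autIrr_one_image]
  mul_mem' := by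
    rintro a b ⟨ha, ha'⟩ ⟨hb, hb'⟩
    refine ⟨Subgroup.mul_mem _ ha hb, ?_⟩
    rw [nAut_mul K a b ha hb, ← autIrr_image_image, hb', ha']
  inv_mem' := by
    rintro a ⟨ha, ha'⟩
    refine ⟨Subgroup.inv_mem _ ha, ?_⟩
    rw [nAut_inv K a ha]
    conv_lhs => rw [← ha']
    rw [autIrr_image_image, inv_mul_cancel, autIrr_one_image]

theorem mem_stabSub_iff (K : Subgroup G) (A : Set (Cfsg.IrrCharacter K)) (g : G) :
    g ∈ stabSub K A ↔ Cfsg.StabilizesBlock K A g :=
  (stabilizesBlock_iff K A g).symm

theorem stabSub_le_normalizer (K : Subgroup G) (A : Set (Cfsg.IrrCharacter K)) :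
    stabSub K A ≤ Subgroup.normalizer (K : Set G) := by
  rintro g ⟨hg, _⟩
  exact hg

/-- elements of `K` stabilize every set of irreducible characters of `K` -/
theorem le_stabSub (K : Subgroup G) (A : Set (Cfsg.IrrCharacter K)) : K ≤ stabSub K A := by
  intro k hk
  refine ⟨Subgroup.le_normalizer hk, ?_⟩
  have : ∀ θ : Cfsg.IrrCharacter K, autIrr (nAut K k (Subgroup.le_normalizer hk)) θ = θ := by
    intro θ
    apply Subtype.ext
    funext x
    rw [autIrr_apply]
    have hcf := IsIrrCharacter.isClassFunction θ.2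
    have h1 := hcf x ⟨k, hk⟩⁻¹
    rw [← h1]
    apply congrArg
    apply Subtype.ext
    rw [nAut_inv_apply_coe]
    simp
  have h2 : (autIrr (nAut K k (Subgroup.le_normalizer hk)) :
      Cfsg.IrrCharacter K → Cfsg.IrrCharacter K) = id := by
    funext θ
    exact this θ
  rw [h2, Set.image_id]

/-- elements centralizing `K` stabilize every set of irreducible characters of `K` -/
theorem centralizer_le_stabSub (K : Subgroup G) (A : Set (Cfsg.IrrCharacter K)) :
    Subgroup.centralizer (K : Set G) ≤ stabSub K A := by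
  intro x hx
  have hxN : x ∈ Subgroup.normalizer (K : Set G) := Subgroup.centralizer_le_normalizer _ hx
  refine ⟨hxN, ?_⟩
  have : nAut K x hxN = 1 := by
    ext k
    rw [nAut_apply_coe]
    have := Subgroup.mem_centralizer_iff.mp hx k k.2
    rw [← this]
    simp
  rw [this, autIrr_one_image]

end stab

end Cfsg.Agent.Lib.Helper6
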