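import Mathlib
import Cfsg.Prelude.Def_Blocks
import Cfsg.Prelude.Def_BrauerPairs
import Cfsg.Agent.Lib.Helper6.BrMax
import Cfsg.Agent.Lib.Helper6.BlkFRDict
import Cfsg.Agent.S4672

set_option autoImplicit false
set_option linter.unusedSectionVars false
open Cfsg

namespace Cfsg.Agent.Lib.Helper6

open scoped ComplexConjugate Pointwise

section nested

variable {G : Type*} [Group G] [Fintype G] [DecidableEq G]
variable {p : ℕ} [Fact p.Prime] {M : Ideal Cfsg.AlgInt}
variable (K T' : Subgroup G) [Fintype K] [Fintype T'] (hKT : K ≤ T')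

/-- transport of idempotent coefficients along the identification of `K` with `K.subgroupOf T'` -/
theorem blockCoeff_image_irrSub (A : Set (Cfsg.IrrCharacter K)) (n : K.subgroupOf T') :
    Cfsg.blockCoeff (irrSub K T' hKT '' A) n
      = Cfsg.blockCoeff A (Subgroup.subgroupOfEquivOfLe hKT n) := by
  classical
  have : Fintype (Cfsg.IrrCharacter K) := Fintype.ofFinite _
  have : Fintype (Cfsg.IrrCharacter (K.subgroupOf T')) := Fintype.ofFinite _
  have e1 : ∀ {H : Type _} [Group H] [Finite H] [Fintype (Cfsg.IrrCharacter H)]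
      (A' : Set (Cfsg.IrrCharacter H)) (m : H), Cfsg.blockCoeff A' m
      = (Nat.card H : ℂ)⁻¹ * ∑ ψ : Cfsg.IrrCharacter H,
          if ψ ∈ A' then (ψ : H → ℂ) 1 * conj ((ψ : H → ℂ) m) else 0 := by
    intro H _ _ _ A' m
    unfold Cfsg.blockCoeff
    congr 1
    rw [← Finset.sum_filter, ← finsum_mem_coe_finset]
    congr 1
    ext ψ
    simp
  rw [e1, e1, Nat.card_congr (Subgroup.subgroupOfEquivOfLe hKT).toEquiv]
  congr 1
  rw [← Equiv.sum_comp (irrSub K T' hKT)]
  apply Finset.sum_congr rfl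
  intro ψ _
  have hiff : irrSub K T' hKT ψ ∈ irrSub K T' hKT '' A ↔ ψ ∈ A :=
    (irrSub K T' hKT).injective.mem_set_image
  rw [if_congr hiff rfl rfl]
  split_ifs
  · rw [irrSub_apply, irrSub_apply, map_one]
  · rfl

theorem subgroupBlockCoeff_irrSub (A : Set (Cfsg.IrrCharacter K)) (t : T') :
    Cfsg.subgroupBlockCoeff (K.subgroupOf T') (irrSub K T' hKT '' A) t
      = Cfsg.subgroupBlockCoeff K A (t : G) := by
  by_cases ht : (t : G) ∈ K
  · have ht' : t ∈ K.subgroupOf T' := by rw [Subgroup.mem_subgroupOf]; exact ht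
    rw [subgroupBlockCoeff_of_mem _ _ ht', subgroupBlockCoeff_of_mem _ _ ht,
      blockCoeff_image_irrSub]
    rfl
  · have ht' : t ∉ K.subgroupOf T' := by rw [Subgroup.mem_subgroupOf]; exact ht
    rw [subgroupBlockCoeff_of_not_mem _ _ ht', subgroupBlockCoeff_of_not_mem _ _ ht]

theorem stabilizesBlock_irrSub (hTN : T' ≤ Subgroup.normalizer (K : Set G))
    (A : Set (Cfsg.IrrCharacter K)) (x : T')
    (h : Cfsg.StabilizesBlock K A (x : G)) :
    Cfsg.StabilizesBlock (K.subgroupOf T') (irrSub K T' hKT '' A) x := by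
  have hn : (K.subgroupOf T').Normal := Subgroup.normal_subgroupOf_of_le_normalizer hTN
  refine ⟨?_, ?_⟩
  · have := Subgroup.le_normalizer_of_normal (H := K.subgroupOf T') (Subgroup.mem_top x)
    exact this
  · rintro _ ⟨θ, hθ, rfl⟩
    obtain ⟨θ', hθ', hc⟩ := h.2 θ hθ
    refine ⟨irrSub K T' hKT θ', ⟨θ', hθ', rfl⟩, ?_⟩
    intro n n' hn'
    rw [irrSub_apply, irrSub_apply]
    apply hc
    have := congrArg (Subtype.val : T' → G) hn'
    simpa using this

/-- the index of `K` in `S ⊔ K` is a power of `p` when the `p`-group `S` normalizes `K` -/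
theorem exists_index_subgroupOf_sup (S : Subgroup G) (hS : IsPGroup p S)
    (hSN : S ≤ Subgroup.normalizer (K : Set G)) (hT' : T' = S ⊔ K) :
    ∃ k : ℕ, (K.subgroupOf T').index = p ^ k := by
  have hTN : T' ≤ Subgroup.normalizer (K : Set G) := by
    rw [hT']
    exact sup_le hSN Subgroup.le_normalizer
  have hn : (K.subgroupOf T').Normal := Subgroup.normal_subgroupOf_of_le_normalizer hTN
  have hq : IsPGroup p (T' ⧸ K.subgroupOf T') := by
    intro q
    obtain ⟨t, rfl⟩ := QuotientGroup.mk_surjective q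
    have ht : (t : G) ∈ ((S ⊔ K : Subgroup G) : Set G) := by
      rw [← hT']
      exact t.2
    rw [Subgroup.coe_mul_of_left_le_normalizer_right S K hSN] at ht
    obtain ⟨s, hs, c, hc, hsc⟩ := ht
    have hsT : s ∈ T' := by rw [hT']; exact Subgroup.mem_sup_left hs
    have hcT : c ∈ T' := by rw [hT']; exact Subgroup.mem_sup_right hc
    have ht2 : t = ⟨s, hsT⟩ * ⟨c, hcT⟩ := Subtype.ext hsc.symm
    obtain ⟨k, hk⟩ := hS ⟨s, hs⟩
    refine ⟨k, ?_⟩
    have hcN : (⟨c, hcT⟩ : T') ∈ K.subgroupOf T' := by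
      rw [Subgroup.mem_subgroupOf]; exact hc
    have h1 : (QuotientGroup.mk t : T' ⧸ K.subgroupOf T')
        = QuotientGroup.mk (⟨s, hsT⟩ : T') := by
      rw [ht2, QuotientGroup.mk_mul, (QuotientGroup.eq_one_iff _).mpr hcN, mul_one]
    rw [h1, ← QuotientGroup.mk_pow, QuotientGroup.eq_one_iff]
    have h2 : (⟨s, hsT⟩ : T') ^ p ^ k = 1 := by
      apply Subtype.ext
      have := congrArg (Subtype.val : S → G) hk
      simpa using this
    rw [h2]
    exact Subgroup.one_mem _
  obtain ⟨k, hk⟩ := IsPGroup.iff_card.mp hq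
  exact ⟨k, by rw [Subgroup.index_eq_card]; exact hk⟩

/-- a stable block of a normal subgroup of `p`-power index is a block of the larger group -/
theorem exists_block_of_stable (hM : Cfsg.IsPModular p M)
    (hTN : T' ≤ Subgroup.normalizer (K : Set G))
    (hidx : ∃ k : ℕ, (K.subgroupOf T').index = p ^ k)
    (e : Set (Cfsg.IrrCharacter K)) (he : Cfsg.IsPBlock M e)
    (hst : ∀ x ∈ T', Cfsg.StabilizesBlock K e x) :
    ∃ β : Set (Cfsg.IrrCharacter T'), Cfsg.IsPBlock M β ∧
      (∀ t : T', Cfsg.blockCoeff β t = Cfsg.subgroupBlockCoeff K e (t : G)) ∧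
      ∀ D' : Subgroup T', Cfsg.IsDefectGroup p M β D' →
        K ⊔ D'.map T'.subtype = T' ∧
        Cfsg.IsDefectGroup p M (irrSub K T' hKT '' e)
          ((D' ⊓ K.subgroupOf T').subgroupOf (K.subgroupOf T')) := by
  haveI hn : (K.subgroupOf T').Normal := Subgroup.normal_subgroupOf_of_le_normalizer hTN
  have hc : Cfsg.IsPBlock M (irrSub K T' hKT '' e) := by
    obtain ⟨θ₀, rfl⟩ := he
    exact ⟨irrSub K T' hKT θ₀, image_irrSub_blockOf K T' hKT θ₀⟩
  obtain ⟨⟨β, hβ, hcoef⟩, hdef⟩ := Cfsg.Agent.S4672.result p M hM (K.subgroupOf T') hidx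
    (irrSub K T' hKT '' e) hc (fun x => stabilizesBlock_irrSub K T' hKT hTN e x (hst x x.2))
  refine ⟨β, hβ, ?_, ?_⟩
  · intro t
    rw [hcoef, subgroupBlockCoeff_irrSub]
  · intro D' hD'
    obtain ⟨h1, h2⟩ := hdef β hβ hcoef D' hD'
    refine ⟨?_, h2⟩
    have h3 := congrArg (Subgroup.map T'.subtype) h1
    rw [Subgroup.map_sup, Subgroup.map_subgroupOf_eq_of_le hKT, ← MonoidHom.range_eq_map,
      Subgroup.range_subtype] at h3
    exact h3

end nested

end Cfsg.Agent.Lib.Helper6
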