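import Mathlib
import Cfsg.Prelude.Def_Blocks
import Cfsg.Prelude.Def_BrauerPairs
import Cfsg.Agent.Lib.Helper6.BrMax2
import Cfsg.Agent.Lib.Helper6.BlkIndDefect
import Cfsg.Agent.Lib.Helper6.BlkMajor
import Cfsg.Agent.Lib.Helper1.PCore
import Cfsg.Agent.S0959
import Cfsg.Agent.S0912

set_option autoImplicit false
set_option linter.unusedSectionVars false
open Cfsg

namespace Cfsg.Agent.Lib.Helper6

open scoped ComplexConjugate

section zlemma

variable {G : Type*} [Group G] [Fintype G] [DecidableEq G]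
variable {p : ℕ} [Fact p.Prime] {M : Ideal Cfsg.AlgInt}
variable (P T' : Subgroup G) [Fintype (Subgroup.centralizer (P : Set G))] [Fintype T']

/-- under maximality of `(P, e)`, the block of `T'` with the idempotent of `e` has defect
group `P` -/
theorem map_defectGroup_eq_of_maximal (hM : Cfsg.IsPModular p M)
    (hPT : P ≤ T') (hTN : T' ≤ Subgroup.normalizer (P : Set G))
    (e : Set (Cfsg.IrrCharacter (Subgroup.centralizer (P : Set G))))
    (hPe : Cfsg.IsBrauerPair p M P e)
    (hst : ∀ x ∈ T', Cfsg.StabilizesBlock (Subgroup.centralizer (P : Set G)) e x)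
    (hmaxN : ∀ (R : Subgroup G) (g : Set (Cfsg.IrrCharacter (Subgroup.centralizer (R : Set G)))),
      Cfsg.IsNormalSubpair p M P e R g → R = P)
    (β : Set (Cfsg.IrrCharacter T')) (hβ : Cfsg.IsPBlock M β)
    (hcoef : ∀ t : T', Cfsg.blockCoeff β t
      = Cfsg.subgroupBlockCoeff (Subgroup.centralizer (P : Set G)) e (t : G))
    (D' : Subgroup T') (hD' : Cfsg.IsDefectGroup p M β D') :
    D'.map T'.subtype = P := by
  classical
  have hDp : IsPGroup p (D'.map T'.subtype) := (IsDefectGroup.isPGroup' hD').map _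
  have hDT : D'.map T'.subtype ≤ T' := Subgroup.map_subtype_le D'
  have hPD : P ≤ D'.map T'.subtype := by
    have hn : (P.subgroupOf T').Normal := Subgroup.normal_subgroupOf_of_le_normalizer hTN
    have hp' : IsPGroup p (P.subgroupOf T') := by
      rw [← Subgroup.comap_subtype]
      exact hPe.1.comap_subtype
    have h1 : P.subgroupOf T' ≤ Cfsg.pCore p T' := Cfsg.Agent.Lib.Helper1.le_pCore hn hp'
    have h2 : Cfsg.pCore p T' ≤ D' := Cfsg.Agent.S0912.result p M hM β hβ D' hD'
    have h3 := Subgroup.map_mono (f := T'.subtype) (h1.trans h2)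
    rwa [Subgroup.map_subgroupOf_eq_of_le hPT] at h3
  have hDN : D'.map T'.subtype ≤ Subgroup.normalizer (P : Set G) := hDT.trans hTN
  have hstD : ∀ x ∈ D'.map T'.subtype,
      Cfsg.StabilizesBlock (Subgroup.centralizer (P : Set G)) e x := fun x hx => hst x (hDT hx)
  obtain ⟨g, _, hg2, c, hgc, hcD⟩ := (Cfsg.Agent.S0959.result p M hM β hβ D' hD' D'
    (IsDefectGroup.isPGroup' hD')).mpr ⟨1, by rw [map_conj_one]⟩
  have hc2 : ¬ Cfsg.MemLocalIdeal M (Cfsg.blockCoeff β c) := by
    rw [blockCoeff_eq_of_isConj β hgc]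
    exact hg2
  rw [hcoef] at hc2
  have hcC : (c : G) ∈ Subgroup.centralizer (P : Set G) := by
    by_contra hcon
    rw [subgroupBlockCoeff_of_not_mem _ _ hcon] at hc2
    exact hc2 (memLocalIdeal_zero hM)
  rw [subgroupBlockCoeff_of_mem _ _ hcC] at hc2
  have hcCD : (c : G) ∈ Subgroup.centralizer ((D'.map T'.subtype : Subgroup G) : Set G) := by
    rw [Subgroup.mem_centralizer_iff]
    rintro d ⟨d', hd', rfl⟩
    have := Subgroup.mem_centralizer_iff.mp hcD d' hd'
    exact congrArg Subtype.val this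
  have : Fintype (Subgroup.centralizer ((D'.map T'.subtype : Subgroup G) : Set G)) :=
    Fintype.ofFinite _
  obtain ⟨g', hg'⟩ := exists_isNormalSubpair_of_blockCoeff hM P (D'.map T'.subtype) hDp hPD hDN e
    hPe hstD (c : G) hcCD hcC hc2
  exact hmaxN _ g' hg'

end zlemma

end Cfsg.Agent.Lib.Helper6
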