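import Mathlib
import Cfsg.Prelude.Def_Blocks
import Cfsg.Prelude.Def_BrauerPairs
import Cfsg.Agent.Lib.Helper6.BrMax3

set_option autoImplicit false
set_option linter.unusedSectionVars false
open Cfsg

namespace Cfsg.Agent.Lib.Helper6

open scoped ComplexConjugate Pointwise

section homog

variable {X : Type*} [Group X] [Fintype X] (N : Subgroup X) [Fintype N] (hN : N.Normal)

/-- an invariant constituent of the restriction to a normal subgroup is proportional to the
restriction -/
theorem restrict_mul_of_invariant {ψ : X → ℂ} (hψ : Cfsg.IsIrrCharacter X ψ)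
    (θ : Cfsg.IrrCharacter N)
    (hc : Cfsg.classInner (fun n : N => ψ n) (θ : N → ℂ) ≠ 0)
    (hinv : ∀ x : X, conjFun N hN (θ : N → ℂ) x = (θ : N → ℂ)) (n : N) :
    ψ n * (θ : N → ℂ) 1 = (θ : N → ℂ) n * ψ ((1 : N) : X) := by
  classical
  have : Fintype (Cfsg.IrrCharacter N) := Fintype.ofFinite _
  have hcf : Cfsg.IsClassFunction N (fun n : N => ψ n) :=
    IsCharacter.isClassFunction (IsCharacter.restrict N (IsIrrCharacter.isCharacter hψ))
  have h1 := classFunction_eq_sum (fun n : N => ψ n) hcf
  have hsingle : ∀ m : N, ψ m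
      = Cfsg.classInner (fun n : N => ψ n) (θ : N → ℂ) * (θ : N → ℂ) m := by
    intro m
    have h2 := congrFun h1 m
    simp only [Finset.sum_apply, Pi.smul_apply, smul_eq_mul] at h2
    rw [h2]
    apply Finset.sum_eq_single θ
    · intro φ _ hne
      by_contra hne0
      have hcφ : Cfsg.classInner (fun n : N => ψ n) (φ : N → ℂ) ≠ 0 := by
        intro h0
        apply hne0
        rw [h0, zero_mul]
      obtain ⟨g, hg⟩ := exists_conjFun_eq_of_constituents N hN hψ θ.2 φ.2 hc hcφ
      rw [hinv g] at hg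
      exact hne (Subtype.ext hg)
    · intro h
      exact absurd (Finset.mem_univ _) h
  rw [hsingle n, hsingle 1]
  ring

end homog

section induce

variable {G : Type*} [Group G] [Fintype G] [DecidableEq G]
variable {p : ℕ} [Fact p.Prime] {M : Ideal Cfsg.AlgInt}
variable (P H : Subgroup G) [Fintype (Subgroup.centralizer (P : Set G))] [Fintype H]

/-- the members of the block of `P C_G(P)` with the idempotent of `e` restrict to multiples of
members of `e` -/
theorem exists_mem_restrict_mul (hM : Cfsg.IsPModular p M)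
    (hH : H = P ⊔ Subgroup.centralizer (P : Set G))
    (hCH : Subgroup.centralizer (P : Set G) ≤ H)
    (e : Set (Cfsg.IrrCharacter (Subgroup.centralizer (P : Set G))))
    (b : Set (Cfsg.IrrCharacter H))
    (hcoef : ∀ h : H, Cfsg.blockCoeff b h
      = Cfsg.subgroupBlockCoeff (Subgroup.centralizer (P : Set G)) e (h : G))
    (ψ : Cfsg.IrrCharacter H) (hψ : ψ ∈ b) :
    ∃ θ ∈ e, ∀ k : Subgroup.centralizer (P : Set G),
      (ψ : H → ℂ) ⟨k, hCH k.2⟩ * (θ : Subgroup.centralizer (P : Set G) → ℂ) 1
        = (θ : Subgroup.centralizer (P : Set G) → ℂ) k * (ψ : H → ℂ) 1 := by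
  classical
  have hPNC : P ≤ Subgroup.normalizer
      ((Subgroup.centralizer (P : Set G) : Subgroup G) : Set G) :=
    Subgroup.le_normalizer.trans (normalizer_le_normalizer_centralizer P)
  have hHNC : H ≤ Subgroup.normalizer
      ((Subgroup.centralizer (P : Set G) : Subgroup G) : Set G) := by
    rw [hH]
    exact sup_le hPNC Subgroup.le_normalizer
  have hNn : ((Subgroup.centralizer (P : Set G)).subgroupOf H).Normal :=
    Subgroup.normal_subgroupOf_of_le_normalizer hHNC
  have : Fintype ((Subgroup.centralizer (P : Set G)).subgroupOf H) := Fintype.ofFinite _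
  -- the idempotent of `b` is the lifted idempotent of the transported `e`
  have hmat : blockMat b = liftIdem ((Subgroup.centralizer (P : Set G)).subgroupOf H)
      (irrSub (Subgroup.centralizer (P : Set G)) H hCH '' e) := by
    unfold blockMat liftIdem
    congr 1
    funext h
    rw [hcoef, ← subgroupBlockCoeff_irrSub _ H hCH, subgroupBlockCoeff_eq_extendByZero]
  have hone : cOmega (ψ : H → ℂ) (blockMat b) = 1 := by
    rw [cOmega_blockMat, if_pos hψ]
  have hex : ∃ θ' ∈ irrSub (Subgroup.centralizer (P : Set G)) H hCH '' e,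
      Cfsg.classInner (fun n : (Subgroup.centralizer (P : Set G)).subgroupOf H => (ψ : H → ℂ) n)
        (θ' : (Subgroup.centralizer (P : Set G)).subgroupOf H → ℂ) ≠ 0 := by
    by_contra hnone
    push Not at hnone
    have := cOmega_liftIdem_eq_zero ((Subgroup.centralizer (P : Set G)).subgroupOf H)
      (irrSub (Subgroup.centralizer (P : Set G)) H hCH '' e) (ψ : H → ℂ) hnone
    rw [← hmat, hone] at this
    exact one_ne_zero this
  obtain ⟨_, ⟨θ, hθ, rfl⟩, hc⟩ := hex
  refine ⟨θ, hθ, ?_⟩
  -- invariance of the transported character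
  have hinv : ∀ x : H, conjFun ((Subgroup.centralizer (P : Set G)).subgroupOf H) hNn
      ((irrSub (Subgroup.centralizer (P : Set G)) H hCH θ :
        Cfsg.IrrCharacter ((Subgroup.centralizer (P : Set G)).subgroupOf H)) :
        (Subgroup.centralizer (P : Set G)).subgroupOf H → ℂ) x
      = ((irrSub (Subgroup.centralizer (P : Set G)) H hCH θ :
        Cfsg.IrrCharacter ((Subgroup.centralizer (P : Set G)).subgroupOf H)) :
        (Subgroup.centralizer (P : Set G)).subgroupOf H → ℂ) := by
    intro x
    funext n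
    rw [conjFun_apply, irrSub_apply, irrSub_apply]
    have hx : (x : G) ∈ ((P ⊔ Subgroup.centralizer (P : Set G) : Subgroup G) : Set G) := by
      rw [← hH]; exact x.2
    rw [Subgroup.coe_mul_of_left_le_normalizer_right P _ hPNC] at hx
    obtain ⟨u, hu, c₁, hc₁, hxe⟩ := hx
    have hnC : ((n : H) : G) ∈ Subgroup.centralizer (P : Set G) := by
      have := n.2
      rw [Subgroup.mem_subgroupOf] at this
      exact this
    have hcf := IsIrrCharacter.isClassFunction θ.2
    have h1 := hcf ⟨((n : H) : G), hnC⟩ ⟨c₁, hc₁⟩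
    have e1 : Subgroup.subgroupOfEquivOfLe hCH n
        = (⟨((n : H) : G), hnC⟩ : Subgroup.centralizer (P : Set G)) := rfl
    rw [e1, ← h1]
    apply congrArg
    apply Subtype.ext
    change (x : G) * ((n : H) : G) * (x : G)⁻¹ = c₁ * ((n : H) : G) * c₁⁻¹
    rw [← hxe]
    have h2 : c₁ * ((n : H) : G) * c₁⁻¹ ∈ Subgroup.centralizer (P : Set G) :=
      Subgroup.mul_mem _ (Subgroup.mul_mem _ hc₁ hnC) (Subgroup.inv_mem _ hc₁)
    have h3 := Subgroup.mem_centralizer_iff.mp h2 u hu
    calc u * c₁ * ((n : H) : G) * (u * c₁)⁻¹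
        = u * (c₁ * ((n : H) : G) * c₁⁻¹) * u⁻¹ := by group
      _ = (c₁ * ((n : H) : G) * c₁⁻¹) * u * u⁻¹ := by rw [h3]
      _ = c₁ * ((n : H) : G) * c₁⁻¹ := by group
  intro k
  have h4 := restrict_mul_of_invariant ((Subgroup.centralizer (P : Set G)).subgroupOf H) hNn ψ.2
    (irrSub (Subgroup.centralizer (P : Set G)) H hCH θ) hc hinv
    ((Subgroup.subgroupOfEquivOfLe hCH).symm k)
  rw [irrSub_apply, irrSub_apply, map_one, MulEquiv.apply_symm_apply] at h4
  exact h4

/-- the block of `P C_G(P)` with the idempotent of `e` induces the block induced by `e` -/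
theorem isInducedBlock_of_coeff (hM : Cfsg.IsPModular p M) (hP : IsPGroup p P)
    (hH : H = P ⊔ Subgroup.centralizer (P : Set G))
    (e : Set (Cfsg.IrrCharacter (Subgroup.centralizer (P : Set G))))
    (b : Set (Cfsg.IrrCharacter H)) (hb : Cfsg.IsPBlock M b)
    (hcoef : ∀ h : H, Cfsg.blockCoeff b h
      = Cfsg.subgroupBlockCoeff (Subgroup.centralizer (P : Set G)) e (h : G))
    (B : Set (Cfsg.IrrCharacter G))
    (hind : Cfsg.IsInducedBlock M (Subgroup.centralizer (P : Set G)) e B) :
    Cfsg.IsInducedBlock M H b B := by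
  classical
  have hCH : Subgroup.centralizer (P : Set G) ≤ H := by rw [hH]; exact le_sup_right
  have hPH : P ≤ H := by rw [hH]; exact le_sup_left
  have hHN : H ≤ Subgroup.normalizer (P : Set G) := by
    rw [hH]
    exact sup_le Subgroup.le_normalizer (Subgroup.centralizer_le_normalizer _)
  refine ⟨hb, hind.2.1, ?_⟩
  intro ψ hψ χ hχ g
  obtain ⟨θ, hθ, hmul⟩ := exists_mem_restrict_mul P H hM hH hCH e b hcoef ψ hψ
  have h1 := inducedCentralChar_sub_brauerCentralChar P H hM hP hPH hHN ψ g
  have h2 : Cfsg.brauerCentralChar P H (ψ : H → ℂ) g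
      = Cfsg.inducedCentralChar (Subgroup.centralizer (P : Set G))
          (θ : Subgroup.centralizer (P : Set G) → ℂ) g := by
    unfold Cfsg.brauerCentralChar Cfsg.inducedCentralChar
    symm
    apply finsum_mem_eq_of_bijOn (fun k : Subgroup.centralizer (P : Set G) => (⟨k, hCH k.2⟩ : H))
    · refine ⟨?_, ?_, ?_⟩
      · intro k hk
        exact ⟨hk, k.2⟩
      · intro k _ k' _ hkk
        apply Subtype.ext
        exact congrArg (fun h : H => (h : G)) hkk
      · rintro h ⟨hh1, hh2⟩
        exact ⟨⟨h, hh2⟩, hh1, rfl⟩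
    · intro k _
      have hψ1 := IsIrrCharacter.apply_one_ne_zero ψ.2
      have hθ1 := IsIrrCharacter.apply_one_ne_zero θ.2
      have := hmul k
      field_simp
      rw [← this]
      ring
  have h3 := hind.2.2 θ hθ χ hχ g
  rw [h2] at h1
  have := MemLocalIdeal.add hM h1 h3
  convert this using 1
  ring

end induce

end Cfsg.Agent.Lib.Helper6
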