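import Mathlib
import Cfsg.Prelude.Def_Blocks
import Cfsg.Prelude.Def_BrauerPairs
import Cfsg.Agent.Lib.Helper6.BrMax4
import Cfsg.Agent.Lib.Helper6.BlkExtMain2

set_option autoImplicit false
set_option linter.unusedSectionVars false
open Cfsg

namespace Cfsg.Agent.Lib.Helper6

open scoped ComplexConjugate Pointwise

section final

variable {G : Type*} [Group G] [Fintype G] [DecidableEq G]
variable {p : ℕ} [Fact p.Prime] {M : Ideal Cfsg.AlgInt}

/-- the stabilizer condition of the extended first main theorem is membership in `stabSub` -/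
theorem cond_iff_mem_stabSub (H : Subgroup G) (b : Set (Cfsg.IrrCharacter H)) (g : G)
    (hg : g ∈ Subgroup.normalizer (H : Set G)) :
    (∀ θ ∈ b, ∀ θ' : Cfsg.IrrCharacter H,
      (∀ h h' : H, (h' : G) = g * h * g⁻¹ → (θ' : H → ℂ) h' = (θ : H → ℂ) h) → θ' ∈ b)
      ↔ g ∈ stabSub H b := by
  constructor
  · intro h
    refine ⟨hg, autIrr_image_eq_of_subset _ ?_⟩
    rintro _ ⟨θ, hθ, rfl⟩
    apply h θ hθ
    exact (isConjCharOf_iff H g hg θ _).mpr rfl
  · rintro ⟨_, hst⟩ θ hθ θ' hc
    have h1 : θ' = autIrr (nAut H g hg) θ := (isConjCharOf_iff H g hg θ θ').mp hc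
    rw [h1, ← hst]
    exact ⟨θ, hθ, rfl⟩

/-- an element stabilizing `b` stabilizes the block `e` with the same idempotent -/
theorem mem_stabSub_of_coeff (P H : Subgroup G)
    (hCH : Subgroup.centralizer (P : Set G) ≤ H)
    (e : Set (Cfsg.IrrCharacter (Subgroup.centralizer (P : Set G))))
    (b : Set (Cfsg.IrrCharacter H))
    (hcoef : ∀ h : H, Cfsg.blockCoeff b h
      = Cfsg.subgroupBlockCoeff (Subgroup.centralizer (P : Set G)) e (h : G))
    (g : G) (hgP : g ∈ Subgroup.normalizer (P : Set G)) (hg : g ∈ stabSub H b) :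
    g ∈ stabSub (Subgroup.centralizer (P : Set G)) e := by
  classical
  obtain ⟨hgH, hst⟩ := hg
  have hgC := normalizer_le_normalizer_centralizer P hgP
  refine ⟨hgC, ?_⟩
  have : Fintype (Subgroup.centralizer (P : Set G)) := Fintype.ofFinite _
  apply Cfsg.Agent.S4672.eq_of_blockCoeff_eq
  intro k
  rw [blockCoeff_autIrr_image]
  set k' := ((nAut (Subgroup.centralizer (P : Set G)) g hgC)⁻¹ : MulAut _) k with hk'
  have h1 := blockCoeff_of_autIrr_image_eq (nAut H g hgH) hst ⟨(k' : G), hCH k'.2⟩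
  have h2 : nAut H g hgH ⟨(k' : G), hCH k'.2⟩ = ⟨(k : G), hCH k.2⟩ := by
    apply Subtype.ext
    rw [nAut_apply_coe]
    change g * (k' : G) * g⁻¹ = (k : G)
    rw [hk', nAut_inv_apply_coe]
    group
  rw [h2, hcoef, hcoef, subgroupBlockCoeff_of_mem _ _ k.2, subgroupBlockCoeff_of_mem _ _ k'.2] at h1
  exact h1.symm

/-- a maximal Brauer pair of `B` lives on a defect group of `B` -/
theorem isDefectGroup_of_isMaximalBrauerPair (hM : Cfsg.IsPModular p M)
    (B : Set (Cfsg.IrrCharacter G)) (P : Subgroup G)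
    (e : Set (Cfsg.IrrCharacter (Subgroup.centralizer (P : Set G))))
    (hmax : Cfsg.IsMaximalBrauerPair p M B P e) : Cfsg.IsDefectGroup p M B P := by
  classical
  have : Fintype (Subgroup.centralizer (P : Set G)) := Fintype.ofFinite _
  have hBe := hmax.1
  have hPe := hBe.1
  have hB := hBe.2.1
  have hP := hPe.1
  -- maximality for normal steps
  have hmaxN : ∀ (R : Subgroup G)
      (g : Set (Cfsg.IrrCharacter (Subgroup.centralizer (R : Set G)))),
      Cfsg.IsNormalSubpair p M P e R g → R = P := by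
    intro R g h
    have : Fintype (Subgroup.centralizer (R : Set G)) := Fintype.ofFinite _
    apply hmax.2 R g
    · exact (isBrauerPairOf_iff_of_isNormalSubpair R P hM g e h B hB).mpr hBe
    · exact Relation.ReflTransGen.single h
  -- the group `H = P C_G(P)`
  obtain ⟨H, hH⟩ : ∃ H : Subgroup G, H = P ⊔ Subgroup.centralizer (P : Set G) := ⟨_, rfl⟩
  have : Fintype H := Fintype.ofFinite _
  have hCH : Subgroup.centralizer (P : Set G) ≤ H := by rw [hH]; exact le_sup_right
  have hPH : P ≤ H := by rw [hH]; exact le_sup_left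
  have hHN : H ≤ Subgroup.normalizer (P : Set G) := by
    rw [hH]
    exact sup_le Subgroup.le_normalizer (Subgroup.centralizer_le_normalizer _)
  have hNNC := normalizer_le_normalizer_centralizer P
  have hPcent : P ≤ Subgroup.centralizer
      ((Subgroup.centralizer (P : Set G) : Subgroup G) : Set G) := by
    intro u hu
    rw [Subgroup.mem_centralizer_iff]
    intro c hc
    exact (Subgroup.mem_centralizer_iff.mp hc u hu).symm
  have hPstab : P ≤ stabSub (Subgroup.centralizer (P : Set G)) e :=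
    hPcent.trans (centralizer_le_stabSub _ e)
  have hCstab : Subgroup.centralizer (P : Set G) ≤ stabSub (Subgroup.centralizer (P : Set G)) e :=
    le_stabSub _ e
  have hstH : ∀ x ∈ H, Cfsg.StabilizesBlock (Subgroup.centralizer (P : Set G)) e x := by
    intro x hx
    rw [← mem_stabSub_iff]
    rw [hH] at hx
    exact (sup_le hPstab hCstab) hx
  have hidx := exists_index_subgroupOf_sup (Subgroup.centralizer (P : Set G)) H P hP
    (Subgroup.le_normalizer.trans hNNC) hH
  obtain ⟨b, hb, hcoef, _⟩ := exists_block_of_stable (Subgroup.centralizer (P : Set G)) H hCH hM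
    (hHN.trans hNNC) hidx e hPe.2 hstH
  obtain ⟨D', hD'⟩ := exists_isDefectGroup hM b hb
  have hDP := map_defectGroup_eq_of_maximal P H hM hPH hHN e hPe hstH hmaxN b hb hcoef D' hD'
  have hD'eq : D' = P.subgroupOf H := by
    rw [← hDP]
    exact (Subgroup.comap_map_eq_self_of_injective H.subtype_injective D').symm
  rw [hD'eq] at hD'
  -- the induced block
  have hind0 := (isBrauerPairOf_iff_isInducedBlock hM P hP e B).mp hBe
  have hind := isInducedBlock_of_coeff P H hM hP hH e b hb hcoef B hind0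
  -- the stabilizer
  have hNH : Subgroup.normalizer (P : Set G) ≤ Subgroup.normalizer (H : Set G) := by
    rw [hH]
    have h1 := Subgroup.normalizer_inf_normalizer_le_normalizer_sup P
      (Subgroup.centralizer (P : Set G))
    intro g hg
    exact h1 ⟨hg, hNNC hg⟩
  obtain ⟨T, hTdef⟩ : ∃ T : Subgroup G, T = stabSub H b ⊓ Subgroup.normalizer (P : Set G) :=
    ⟨_, rfl⟩
  have hT : ∀ g : G, g ∈ T ↔ (g ∈ Subgroup.normalizer (P : Set G) ∧
      ∀ θ ∈ b, ∀ θ' : Cfsg.IrrCharacter H,
        (∀ h h' : H, (h' : G) = g * h * g⁻¹ → (θ' : H → ℂ) h' = (θ : H → ℂ) h) → θ' ∈ b) := by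
    intro g
    rw [hTdef, Subgroup.mem_inf]
    constructor
    · rintro ⟨h1, h2⟩
      exact ⟨h2, (cond_iff_mem_stabSub H b g (hNH h2)).mpr h1⟩
    · rintro ⟨h1, h2⟩
      exact ⟨(cond_iff_mem_stabSub H b g (hNH h1)).mp h2, h1⟩
  apply (Cfsg.Agent.Lib.Helper6.extMain_isDefectGroup_iff P hM hP H hH b hb hD' B hind T hT).mpr
  -- the index is prime to `p`
  have hHT : H ≤ T := by
    rw [hTdef]
    exact le_inf (le_stabSub H b) hHN
  have hTN : T ≤ Subgroup.normalizer (P : Set G) := by
    rw [hTdef]; exact inf_le_right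
  have hPT : P ≤ T := hPH.trans hHT
  have hP' : IsPGroup p (P.subgroupOf T) := by
    rw [← Subgroup.comap_subtype]
    exact hP.comap_subtype
  obtain ⟨S₀, hS₀⟩ := hP'.exists_le_sylow
  obtain ⟨S, hSdef⟩ : ∃ S : Subgroup G, S = (S₀ : Subgroup T).map T.subtype := ⟨_, rfl⟩
  have hSp : IsPGroup p S := by rw [hSdef]; exact S₀.isPGroup'.map _
  have hST : S ≤ T := by rw [hSdef]; exact Subgroup.map_subtype_le _
  have hPS : P ≤ S := by
    rw [hSdef]
    have := Subgroup.map_mono (f := T.subtype) hS₀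
    rwa [Subgroup.map_subgroupOf_eq_of_le hPT] at this
  obtain ⟨T', hT'⟩ : ∃ T' : Subgroup G, T' = S ⊔ Subgroup.centralizer (P : Set G) := ⟨_, rfl⟩
  have : Fintype T' := Fintype.ofFinite _
  have hCT' : Subgroup.centralizer (P : Set G) ≤ T' := by rw [hT']; exact le_sup_right
  have hPT' : P ≤ T' := by rw [hT']; exact hPS.trans le_sup_left
  have hT'N : T' ≤ Subgroup.normalizer (P : Set G) := by
    rw [hT']
    exact sup_le (hST.trans hTN) (Subgroup.centralizer_le_normalizer _)
  have hSstab : S ≤ stabSub (Subgroup.centralizer (P : Set G)) e := by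
    intro g hg
    have hgT := hST hg
    rw [hTdef, Subgroup.mem_inf] at hgT
    exact mem_stabSub_of_coeff P H hCH e b hcoef g hgT.2 hgT.1
  have hstT' : ∀ x ∈ T', Cfsg.StabilizesBlock (Subgroup.centralizer (P : Set G)) e x := by
    intro x hx
    rw [← mem_stabSub_iff]
    rw [hT'] at hx
    exact (sup_le hSstab hCstab) hx
  have hidx' := exists_index_subgroupOf_sup (Subgroup.centralizer (P : Set G)) T' S hSp
    ((hST.trans hTN).trans hNNC) hT'
  obtain ⟨β, hβ, hcoefβ, hdefβ⟩ := exists_block_of_stable (Subgroup.centralizer (P : Set G)) T'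
    hCT' hM (hT'N.trans hNNC) hidx' e hPe.2 hstT'
  obtain ⟨D'', hD''⟩ := exists_isDefectGroup hM β hβ
  have hD''P := map_defectGroup_eq_of_maximal P T' hM hPT' hT'N e hPe hstT' hmaxN β hβ hcoefβ
    D'' hD''
  have hT'H : T' = H := by
    have h1 := (hdefβ D'' hD'').1
    rw [hD''P, sup_comm] at h1
    rw [← h1, hH]
  have hSH : S ≤ H := by
    rw [← hT'H, hT']
    exact le_sup_left
  -- index computation
  have h1 : (S₀ : Subgroup T) ≤ H.subgroupOf T := by
    intro t ht
    rw [Subgroup.mem_subgroupOf]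
    apply hSH
    rw [hSdef]
    exact ⟨t, ht, rfl⟩
  have h2 : (H.subgroupOf T).index ∣ (S₀ : Subgroup T).index := Subgroup.index_dvd_of_le h1
  have h3 : ¬ p ∣ (S₀ : Subgroup T).index := S₀.not_dvd_index
  intro hdvd
  apply h3
  exact dvd_trans hdvd h2

end final

end Cfsg.Agent.Lib.Helper6
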