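import Mathlib
import Cfsg.Prelude.Def_Blocks
import Cfsg.Prelude.Def_BrauerPairs
import Cfsg.Agent.Lib.Helper6.BrConj
import Cfsg.Agent.Lib.Helper6.BrMax5
import Cfsg.Agent.Lib.Helper6.BlkExtFirst
import Cfsg.Agent.Lib.Helper6.BlkDefConj

set_option autoImplicit false
set_option linter.unusedSectionVars false
open Cfsg

namespace Cfsg.Agent.Lib.Helper6

open scoped ComplexConjugate

section maxpairs

variable {G : Type*} [Group G] [Fintype G] [DecidableEq G]
variable {p : ℕ} [Fact p.Prime] {M : Ideal Cfsg.AlgInt}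

/-- every Brauer pair of `B` lies below a maximal Brauer pair of `B` -/
theorem exists_maximal_above (B : Set (Cfsg.IrrCharacter G)) :
    ∀ (n : ℕ) (a : Cfsg.BrauerPairIdx G), Nat.card G - Nat.card a.1 ≤ n →
      Cfsg.IsBrauerPairOf p M B a.1 a.2 →
      ∃ b : Cfsg.BrauerPairIdx G, Cfsg.IsMaximalBrauerPair p M B b.1 b.2 ∧
        Relation.ReflTransGen (Cfsg.NormalSubpairRel p M) a b := by
  intro n
  induction n with
  | zero =>
    intro a hn ha
    refine ⟨a, ⟨ha, ?_⟩, Relation.ReflTransGen.refl⟩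
    intro R g _ hle
    have h1 : a.1 ≤ R := le_of_chain a ⟨R, g⟩ hle
    have h2 : Nat.card G ≤ Nat.card a.1 := by omega
    have h3 : Nat.card R ≤ Nat.card G := Subgroup.card_le_card_group R
    symm
    exact Subgroup.eq_of_le_of_card_ge h1 (by omega)
  | succ n ih =>
    intro a hn ha
    by_cases hmax : Cfsg.IsMaximalBrauerPair p M B a.1 a.2
    · exact ⟨a, hmax, Relation.ReflTransGen.refl⟩
    · unfold Cfsg.IsMaximalBrauerPair at hmax
      push Not at hmax
      obtain ⟨R, g, hRg, hle, hne⟩ := hmax ha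
      have h1 : a.1 ≤ R := le_of_chain a ⟨R, g⟩ hle
      have h2 : a.1 < R := lt_of_le_of_ne h1 (Ne.symm hne)
      have h3 := card_lt_of_lt h2
      have h4 : Nat.card R ≤ Nat.card G := Subgroup.card_le_card_group R
      obtain ⟨b, hb, hch⟩ := ih ⟨R, g⟩ (by simp only; omega) hRg
      exact ⟨b, hb, Relation.ReflTransGen.trans hle hch⟩

/-- two Brauer pairs of `B` on the same defect group are conjugate under its normalizer -/
theorem exists_normalizer_conj (hM : Cfsg.IsPModular p M) (B : Set (Cfsg.IrrCharacter G))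
    (P : Subgroup G) (hPB : Cfsg.IsDefectGroup p M B P)
    (e e₂ : Set (Cfsg.IrrCharacter (Subgroup.centralizer (P : Set G))))
    (he : Cfsg.IsBrauerPairOf p M B P e) (he₂ : Cfsg.IsBrauerPairOf p M B P e₂) :
    ∃ (n : G) (hn : n ∈ Subgroup.normalizer (P : Set G)),
      e₂ = autIrr (nAut (Subgroup.centralizer (P : Set G)) n
        (normalizer_le_normalizer_centralizer P hn)) '' e := by
  classical
  have : Fintype (Subgroup.centralizer (P : Set G)) := Fintype.ofFinite _
  have : Fintype (Subgroup.normalizer (P : Set G)) := Fintype.ofFinite _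
  have : Fintype ↥(P ⊔ Subgroup.centralizer (P : Set G)) := Fintype.ofFinite _
  have hP := he.1.1
  have hCH : Subgroup.centralizer (P : Set G) ≤ P ⊔ Subgroup.centralizer (P : Set G) :=
    le_sup_right
  have hPH : P ≤ P ⊔ Subgroup.centralizer (P : Set G) := le_sup_left
  have hHN : P ⊔ Subgroup.centralizer (P : Set G) ≤ Subgroup.normalizer (P : Set G) :=
    sup_le Subgroup.le_normalizer (Subgroup.centralizer_le_normalizer _)
  have hNNC := normalizer_le_normalizer_centralizer P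
  have hPcent : P ≤ Subgroup.centralizer
      ((Subgroup.centralizer (P : Set G) : Subgroup G) : Set G) := by
    intro u hu
    rw [Subgroup.mem_centralizer_iff]
    intro c hc
    exact (Subgroup.mem_centralizer_iff.mp hc u hu).symm
  have hstH : ∀ (e' : Set (Cfsg.IrrCharacter (Subgroup.centralizer (P : Set G)))),
      ∀ x ∈ P ⊔ Subgroup.centralizer (P : Set G),
        Cfsg.StabilizesBlock (Subgroup.centralizer (P : Set G)) e' x := by
    intro e' x hx
    rw [← mem_stabSub_iff]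
    exact (sup_le (hPcent.trans (centralizer_le_stabSub _ e')) (le_stabSub _ e')) hx
  have hidx := exists_index_subgroupOf_sup (Subgroup.centralizer (P : Set G))
    (P ⊔ Subgroup.centralizer (P : Set G)) P hP (Subgroup.le_normalizer.trans hNNC) rfl
  obtain ⟨b, hb, hcoef, _⟩ := exists_block_of_stable (Subgroup.centralizer (P : Set G))
    (P ⊔ Subgroup.centralizer (P : Set G)) hCH hM (hHN.trans hNNC) hidx e he.1.2 (hstH e)
  obtain ⟨b₂, hb₂, hcoef₂, _⟩ := exists_block_of_stable (Subgroup.centralizer (P : Set G))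
    (P ⊔ Subgroup.centralizer (P : Set G)) hCH hM (hHN.trans hNNC) hidx e₂ he₂.1.2 (hstH e₂)
  have hind0 := (isBrauerPairOf_iff_isInducedBlock hM P hP e B).mp he
  have hind0₂ := (isBrauerPairOf_iff_isInducedBlock hM P hP e₂ B).mp he₂
  have hind := isInducedBlock_of_coeff P (P ⊔ Subgroup.centralizer (P : Set G)) hM hP rfl e b hb
    hcoef B hind0
  have hind₂ := isInducedBlock_of_coeff P (P ⊔ Subgroup.centralizer (P : Set G)) hM hP rfl e₂ b₂
    hb₂ hcoef₂ B hind0₂
  obtain ⟨n, hn, hconj⟩ := extFirstMain_conj hM P hP hPB b b₂ hind hind₂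
  have hn' : n⁻¹ ∈ Subgroup.normalizer (P : Set G) := Subgroup.inv_mem _ hn
  have hNH : Subgroup.normalizer (P : Set G)
      ≤ Subgroup.normalizer ((P ⊔ Subgroup.centralizer (P : Set G) : Subgroup G) : Set G) := by
    have h1 := Subgroup.normalizer_inf_normalizer_le_normalizer_sup P
      (Subgroup.centralizer (P : Set G))
    intro g hg
    exact h1 ⟨hg, hNNC hg⟩
  refine ⟨n⁻¹, hn', ?_⟩
  -- `b₂` is the image of `b`
  obtain ⟨θ, hθ⟩ := isPBlock_nonempty hM hb
  obtain ⟨θ', hθ', hθθ'⟩ := hconj θ hθ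
  have h1 : θ' = autIrr (nAut (P ⊔ Subgroup.centralizer (P : Set G)) n⁻¹ (hNH hn')) θ := by
    apply Subtype.ext
    funext x
    rw [autIrr_apply]
    have hx : n * (x : G) * n⁻¹ ∈ P ⊔ Subgroup.centralizer (P : Set G) := by
      have := Subgroup.mem_normalizer_iff.mp (hNH hn) (x : G)
      exact this.mp x.2
    rw [hθθ' x hx]
    apply congrArg
    apply Subtype.ext
    rw [nAut_inv_apply_coe]
    simp
  have hb₂eq : b₂ = autIrr (nAut (P ⊔ Subgroup.centralizer (P : Set G)) n⁻¹ (hNH hn')) '' b := by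
    apply isPBlock_eq_of_mem hM hb₂ (isPBlock_autIrr_image _ hb) hθ'
    rw [h1]
    exact ⟨θ, hθ, rfl⟩
  apply Cfsg.Agent.S4672.eq_of_blockCoeff_eq
  intro k
  rw [blockCoeff_autIrr_image]
  set k' := ((nAut (Subgroup.centralizer (P : Set G)) n⁻¹ (hNNC hn'))⁻¹ : MulAut _) k with hk'
  have e1 := hcoef₂ ⟨(k : G), hCH k.2⟩
  rw [subgroupBlockCoeff_of_mem _ _ k.2] at e1
  have e2 := hcoef ⟨(k' : G), hCH k'.2⟩
  rw [subgroupBlockCoeff_of_mem _ _ k'.2] at e2
  have e3 : Cfsg.blockCoeff b₂ ⟨(k : G), hCH k.2⟩ = Cfsg.blockCoeff b ⟨(k' : G), hCH k'.2⟩ := by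
    rw [hb₂eq, blockCoeff_autIrr_image]
    apply congrArg
    apply Subtype.ext
    rw [nAut_inv_apply_coe, hk', nAut_inv_apply_coe]
  rw [← e1, e3, e2]


/-- maximal Brauer pairs of a block are conjugate -/
theorem isMaximalBrauerPair_conj (hM : Cfsg.IsPModular p M) (B : Set (Cfsg.IrrCharacter G))
    (a b : Cfsg.BrauerPairIdx G) (ha : Cfsg.IsMaximalBrauerPair p M B a.1 a.2)
    (hb : Cfsg.IsMaximalBrauerPair p M B b.1 b.2) : ∃ x : G, b = conjPair x a := by
  classical
  obtain ⟨P₁, e₁⟩ := a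
  obtain ⟨P, e⟩ := b
  simp only at ha hb
  have hB := ha.1.2.1
  obtain ⟨χ₀, hχ₀⟩ := hB
  have hD₁ := isDefectGroup_of_isMaximalBrauerPair hM B P₁ e₁ ha
  have hD := isDefectGroup_of_isMaximalBrauerPair hM B P e hb
  have hD' := hD
  rw [hχ₀] at hD₁ hD'
  obtain ⟨y, hy⟩ := isDefectGroup_conj hM χ₀ P₁ P hD₁ hD'
  subst hy
  have h1 : Cfsg.IsBrauerPairOf p M B (P₁.map (MulAut.conj y).toMonoidHom)
      (Cfsg.conjBlock P₁ y e₁) := isBrauerPairOf_conj B P₁ y e₁ ha.1
  obtain ⟨n, hn, hne⟩ := exists_normalizer_conj hM B _ hD (Cfsg.conjBlock P₁ y e₁) e h1 hb.1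
  refine ⟨n * y, ?_⟩
  rw [conjPair_mul]
  have h2 : conjPair y ⟨P₁, e₁⟩
      = ⟨P₁.map (MulAut.conj y).toMonoidHom, Cfsg.conjBlock P₁ y e₁⟩ := rfl
  rw [h2, conjPair_of_mem_normalizer _ hn, hne]

/-- every Brauer pair of `B` has a conjugate below a given maximal Brauer pair of `B` -/
theorem exists_conj_subpairLE (hM : Cfsg.IsPModular p M) (B : Set (Cfsg.IrrCharacter G))
    (P Q : Subgroup G) (e : Set (Cfsg.IrrCharacter (Subgroup.centralizer (P : Set G))))
    (f : Set (Cfsg.IrrCharacter (Subgroup.centralizer (Q : Set G))))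
    (hmax : Cfsg.IsMaximalBrauerPair p M B P e) (hQf : Cfsg.IsBrauerPairOf p M B Q f) :
    ∃ x : G, Cfsg.SubpairLE p M (Q.map (MulAut.conj x).toMonoidHom) (Cfsg.conjBlock Q x f) P e := by
  obtain ⟨a, ha, hch⟩ := exists_maximal_above (p := p) (M := M) B _ ⟨Q, f⟩ le_rfl hQf
  obtain ⟨x, hx⟩ := isMaximalBrauerPair_conj hM B a ⟨P, e⟩ ha hmax
  refine ⟨x, ?_⟩
  have := chain_conj x ⟨Q, f⟩ a hch
  rw [← hx] at this
  exact this

end maxpairs

end Cfsg.Agent.Lib.Helper6
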