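import Mathlib
import Cfsg.Prelude.Def_Blocks
import Cfsg.Prelude.Def_BrauerPairs
import Cfsg.Agent.Lib.Helper6.BrConj2
import Cfsg.Agent.Lib.Helper6.BlkMinMax2
import Cfsg.Agent.Lib.Helper6.BlkMajor
import Cfsg.Agent.Lib.Helper6.BlkCenter

set_option autoImplicit false
set_option linter.unusedSectionVars false
open Cfsg

namespace Cfsg.Agent.Lib.Helper6

open scoped ComplexConjugate

section defect_transport

variable {K K' : Type*} [Group K] [Group K'] [Finite K] [Finite K']
variable {p : ℕ} [Fact p.Prime] {M : Ideal Cfsg.AlgInt}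

theorem isDefectClass_mapIrr (φ : K ≃* K') (A : Set (Cfsg.IrrCharacter K)) (g : K)
    (h : Cfsg.IsDefectClass M A g) : Cfsg.IsDefectClass M (mapIrr φ '' A) (φ g) := by
  obtain ⟨h1, h2, h3⟩ := h
  have e1 : Cfsg.blockCoeff (mapIrr φ '' A) (φ g) = Cfsg.blockCoeff A g := by
    rw [blockCoeff_mapIrr_image, MulEquiv.symm_apply_apply]
  refine ⟨by rw [e1]; exact h1, by rw [e1]; exact h2, ?_⟩
  rintro _ ⟨χ, hχ, rfl⟩
  have e2 : Cfsg.centralChar (mapIrr φ χ : K' → ℂ) (φ g) = Cfsg.centralChar (χ : K → ℂ) g := by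
    have := centralChar_comp_mulEquiv φ.symm (χ : K → ℂ) (φ g)
    rw [MulEquiv.symm_apply_apply] at this
    exact this
  rw [e2]
  exact h3 χ hχ

/-- defect groups are transported along isomorphisms -/
theorem IsDefectGroup.mapIrr (φ : K ≃* K') {A : Set (Cfsg.IrrCharacter K)} {D : Subgroup K}
    (hD : Cfsg.IsDefectGroup p M A D) :
    Cfsg.IsDefectGroup p M (mapIrr φ '' A) (D.map φ.toMonoidHom) := by
  classical
  obtain ⟨g, hg, S, rfl⟩ := hD
  have hg' := isDefectClass_mapIrr φ A g hg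
  set D := (S : Subgroup (Subgroup.centralizer ({g} : Set K))).map
    (Subgroup.centralizer ({g} : Set K)).subtype with hDdef
  have hDp : IsPGroup p D := sylow_map_isPGroup S
  have hDle : D ≤ Subgroup.centralizer ({g} : Set K) := sylow_map_le S
  have hle : D.map φ.toMonoidHom ≤ Subgroup.centralizer ({φ g} : Set K') := by
    rw [centralizer_singleton_map_mulEquiv]
    exact Subgroup.map_mono hDle
  obtain ⟨Q', hQ'⟩ := exists_sylow_map_ge (hDp.map φ.toMonoidHom) hle
  have hc1 : Nat.card (D.map φ.toMonoidHom) = Nat.card D :=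
    Subgroup.card_map_of_injective φ.injective
  have hc2 : Nat.card D = Nat.card S :=
    Subgroup.card_map_of_injective (Subgroup.subtype_injective _)
  have hc3 : Nat.card ((Q' : Subgroup (Subgroup.centralizer ({φ g} : Set K'))).map
      (Subgroup.centralizer ({φ g} : Set K')).subtype) = Nat.card Q' :=
    Subgroup.card_map_of_injective (Subgroup.subtype_injective _)
  have hc4 : Nat.card (Subgroup.centralizer ({φ g} : Set K'))
      = Nat.card (Subgroup.centralizer ({g} : Set K)) := by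
    rw [centralizer_singleton_map_mulEquiv]
    exact Subgroup.card_map_of_injective φ.injective
  have heq : D.map φ.toMonoidHom
      = (Q' : Subgroup (Subgroup.centralizer ({φ g} : Set K'))).map
          (Subgroup.centralizer ({φ g} : Set K')).subtype := by
    apply Subgroup.eq_of_le_of_card_ge hQ'
    rw [hc1, hc2, hc3, Sylow.card_eq_multiplicity, Sylow.card_eq_multiplicity, hc4]
  rw [heq]
  exact ⟨φ g, hg', Q', rfl⟩

theorem mapIrr_symm_image_image (φ : K ≃* K') (A : Set (Cfsg.IrrCharacter K)) :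
    mapIrr φ.symm '' (mapIrr φ '' A) = A := by
  rw [Set.image_image]
  have : ∀ θ : Cfsg.IrrCharacter K, mapIrr φ.symm (mapIrr φ θ) = θ := by
    intro θ
    apply Subtype.ext
    funext k
    rw [mapIrr_apply, mapIrr_apply]
    simp
  simp only [this]
  exact Set.image_id' A

theorem isDefectGroup_mapIrr_iff (φ : K ≃* K') (A : Set (Cfsg.IrrCharacter K)) (D : Subgroup K) :
    Cfsg.IsDefectGroup p M (mapIrr φ '' A) (D.map φ.toMonoidHom)
      ↔ Cfsg.IsDefectGroup p M A D := by
  constructor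
  · intro h
    have := IsDefectGroup.mapIrr φ.symm h
    rw [mapIrr_symm_image_image, Subgroup.map_map] at this
    have e : (φ.symm.toMonoidHom.comp φ.toMonoidHom) = MonoidHom.id K := by
      ext k
      simp
    rw [e, Subgroup.map_id] at this
    exact this
  · exact IsDefectGroup.mapIrr φ

end defect_transport


section defect_ge

variable {H : Type*} [Group H] [Fintype H] [DecidableEq H]
variable {p : ℕ} [Fact p.Prime] {M : Ideal Cfsg.AlgInt}

/-- a `p`-subgroup centralizing an element on which the block idempotent does not vanish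
modulo the ideal lies in a defect group -/
theorem exists_isDefectGroup_ge (hM : Cfsg.IsPModular p M) (A : Set (Cfsg.IrrCharacter H))
    (hA : Cfsg.IsPBlock M A) (R : Subgroup H) (hR : IsPGroup p R) (c₀ : H)
    (hRc : R ≤ Subgroup.centralizer ({c₀} : Set H))
    (hne : ¬ Cfsg.MemLocalIdeal M (Cfsg.blockCoeff A c₀)) :
    ∃ D : Subgroup H, Cfsg.IsDefectGroup p M A D ∧ R ≤ D := by
  obtain ⟨χ₀, rfl⟩ := hA
  obtain ⟨g, hg⟩ := exists_isDefectClass hM χ₀
  have hχ₀ : χ₀ ∈ Cfsg.blockOf M (χ₀ : H → ℂ) := sameBlock_refl hM _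
  have hd : DefLe p c₀ g := minmax_core hM χ₀ g ⟨χ₀, hχ₀, hg.2.2 χ₀ hχ₀⟩ c₀ hne
  obtain ⟨g', hgg', hRg'⟩ := hd R hR hRc
  have hg' := IsDefectClass.of_isConj hg hgg'
  obtain ⟨Q', hQ'⟩ := exists_sylow_map_ge hR hRg'
  exact ⟨_, ⟨g', hg', Q', rfl⟩, hQ'⟩

/-- all defect groups of a block have the same order -/
theorem card_eq_of_isDefectGroup (hM : Cfsg.IsPModular p M) (A : Set (Cfsg.IrrCharacter H))
    (hA : Cfsg.IsPBlock M A) (D D' : Subgroup H) (hD : Cfsg.IsDefectGroup p M A D)
    (hD' : Cfsg.IsDefectGroup p M A D') : Nat.card D = Nat.card D' := by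
  rw [Cfsg.Agent.S0908.result p M hM A hA D hD, Cfsg.Agent.S0908.result p M hM A hA D' hD']

end defect_ge


section chainfacts

variable {G : Type*} [Group G] [Fintype G] [DecidableEq G]
variable {p : ℕ} [Fact p.Prime] {M : Ideal Cfsg.AlgInt}

/-- along a chain, being a Brauer pair of `B` is preserved -/
theorem isBrauerPairOf_iff_of_chain (hM : Cfsg.IsPModular p M) (B : Set (Cfsg.IrrCharacter G))
    (hB : Cfsg.IsPBlock M B) (a b : Cfsg.BrauerPairIdx G)
    (h : Relation.ReflTransGen (Cfsg.NormalSubpairRel p M) a b) :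
    Cfsg.IsBrauerPairOf p M B b.1 b.2 ↔ Cfsg.IsBrauerPairOf p M B a.1 a.2 := by
  classical
  induction h with
  | refl => exact Iff.rfl
  | @tail b c _ hbc ih =>
    have : Fintype (Subgroup.centralizer (b.1 : Set G)) := Fintype.ofFinite _
    have : Fintype (Subgroup.centralizer (c.1 : Set G)) := Fintype.ofFinite _
    exact (isBrauerPairOf_iff_of_isNormalSubpair c.1 b.1 hM c.2 b.2 hbc B hB).trans ih

/-- in a normal step `(Q, f) ⊴ (R, e')` the idempotent of `f` does not vanish modulo the ideal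
somewhere on `C_G(R)` -/
theorem exists_blockCoeff_of_isNormalSubpair (hM : Cfsg.IsPModular p M) (Q R : Subgroup G)
    (f : Set (Cfsg.IrrCharacter (Subgroup.centralizer (Q : Set G))))
    (e' : Set (Cfsg.IrrCharacter (Subgroup.centralizer (R : Set G))))
    (h : Cfsg.IsNormalSubpair p M Q f R e') :
    ∃ (c₀ : G) (_ : c₀ ∈ Subgroup.centralizer (R : Set G))
      (hc₀Q : c₀ ∈ Subgroup.centralizer (Q : Set G)),
      ¬ Cfsg.MemLocalIdeal M (Cfsg.blockCoeff f ⟨c₀, hc₀Q⟩) := by
  classical
  have : Fintype (Subgroup.centralizer (Q : Set G)) := Fintype.ofFinite _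
  have : Fintype (Subgroup.centralizer (R : Set G)) := Fintype.ofFinite _
  have hQf := h.1
  have hRe := h.2.1
  have hQR := h.2.2.1
  have hRN := h.2.2.2.1
  obtain ⟨hf, hfs, hom⟩ := (isNormalSubpair_iff R Q hQR hRN e' hRe f).mp h
  have hCK : Subgroup.centralizer (R : Set G) ≤ Subgroup.centralizer (Q : Set G) :=
    Subgroup.centralizer_le hQR
  by_contra hcon
  push Not at hcon
  obtain ⟨ξ, hξ⟩ := isPBlock_nonempty hM hRe.2
  have h1 := hom ξ hξ
  have htc : trMat R (Subgroup.centralizer (Q : Set G)) (blockMat f)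
      ∈ centerAlg (Subgroup.centralizer (R : Set G)) :=
    trMat_mem_centerAlg R _ hCK (blockMat_mem_centerAlg f)
  have h2 : Cfsg.MemLocalIdeal M (trOmega R (Subgroup.centralizer (Q : Set G))
      (ξ : Subgroup.centralizer (R : Set G) → ℂ) f) := by
    unfold trOmega
    apply cOmega_memLocalIdeal_of_entries hM ξ.2 htc
    intro s t
    rw [(trMat_rInv R _ _).apply_eq, trMat_apply_one R _ hCK]
    unfold blockMat
    rw [regMat_apply, inv_one, mul_one]
    exact hcon _ (s * t⁻¹).2 (hCK (s * t⁻¹).2)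
  apply not_memLocalIdeal_one hM
  have := MemLocalIdeal.sub hM h2 h1
  simpa using this

end chainfacts


section fullcent

variable {G : Type*} [Group G] [Fintype G] [DecidableEq G]
variable {p : ℕ} [Fact p.Prime] {M : Ideal Cfsg.AlgInt}

theorem le_centralizer_centralizer (Q : Subgroup G) :
    Q ≤ Subgroup.centralizer ((Subgroup.centralizer (Q : Set G) : Subgroup G) : Set G) := by
  intro u hu
  rw [Subgroup.mem_centralizer_iff]
  intro c hc
  exact (Subgroup.mem_centralizer_iff.mp hc u hu).symm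

/-- every element of `Q C_G(Q)` stabilizes every set of characters of `C_G(Q)` -/
theorem stabilizesBlock_of_mem_sup (Q : Subgroup G)
    (f : Set (Cfsg.IrrCharacter (Subgroup.centralizer (Q : Set G)))) {x : G}
    (hx : x ∈ Q ⊔ Subgroup.centralizer (Q : Set G)) :
    Cfsg.StabilizesBlock (Subgroup.centralizer (Q : Set G)) f x := by
  rw [← mem_stabSub_iff]
  exact (sup_le ((le_centralizer_centralizer Q).trans (centralizer_le_stabSub _ f))
    (le_stabSub _ f)) hx

/-- `C_P(Q)` lies in a defect group of `f` when `(Q, f) ≤ (P, e)` -/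
theorem exists_isDefectGroup_ge_centralizerIn (hM : Cfsg.IsPModular p M) (P Q : Subgroup G)
    (e : Set (Cfsg.IrrCharacter (Subgroup.centralizer (P : Set G))))
    (f : Set (Cfsg.IrrCharacter (Subgroup.centralizer (Q : Set G))))
    (hPe : Cfsg.IsBrauerPair p M P e) (hQP : Q ≤ P) (hf : Cfsg.IsPBlock M f)
    (hle : Cfsg.SubpairLE p M Q f P e) :
    ∃ D : Subgroup (Subgroup.centralizer (Q : Set G)), Cfsg.IsDefectGroup p M f D ∧
      (P ⊓ Subgroup.centralizer (Q : Set G)).subgroupOf (Subgroup.centralizer (Q : Set G)) ≤ D := by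
  classical
  have : Fintype (Subgroup.centralizer (Q : Set G)) := Fintype.ofFinite _
  obtain ⟨R, hRdef⟩ : ∃ R : Subgroup G, R = Q ⊔ (P ⊓ Subgroup.centralizer (Q : Set G)) := ⟨_, rfl⟩
  have hRP : R ≤ P := by rw [hRdef]; exact sup_le hQP inf_le_left
  have hQR : Q ≤ R := by rw [hRdef]; exact le_sup_left
  have hCR : P ⊓ Subgroup.centralizer (Q : Set G) ≤ R := by rw [hRdef]; exact le_sup_right
  have hRN : R ≤ Subgroup.normalizer (Q : Set G) := by
    rw [hRdef]
    exact sup_le Subgroup.le_normalizer (inf_le_right.trans (Subgroup.centralizer_le_normalizer _))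
  obtain ⟨e', he', hRe'⟩ := exists_subpairLE hM _ P R e le_rfl hPe hRP
  have hRe'p : Cfsg.IsBrauerPair p M R e' := ⟨hPe.1.to_le hRP, he'⟩
  obtain ⟨f'', hf'', hQf''⟩ := exists_subpairLE hM _ R Q e' le_rfl hRe'p hQR
  have hch : Cfsg.SubpairLE p M Q f'' P e := Relation.ReflTransGen.trans hQf'' hRe'
  have hff : f'' = f := subpairLE_unique hM _ P Q e f'' f le_rfl hPe hf'' hf hch hle
  subst hff
  have hQf : Cfsg.IsBrauerPair p M Q f'' := ⟨hPe.1.to_le hQP, hf⟩
  have hn : Cfsg.IsNormalSubpair p M Q f'' R e' :=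
    isNormalSubpair_of_chain hM ⟨Q, f''⟩ ⟨R, e'⟩ hQf'' hQf hRN
  obtain ⟨c₀, hc₀R, hc₀Q, hne⟩ := exists_blockCoeff_of_isNormalSubpair hM Q R f'' e' hn
  apply exists_isDefectGroup_ge hM f'' hf _ _ ⟨c₀, hc₀Q⟩ _ hne
  · have : IsPGroup p (P ⊓ Subgroup.centralizer (Q : Set G) : Subgroup G) := hPe.1.to_le inf_le_left
    rw [← Subgroup.comap_subtype]
    exact this.comap_subtype
  · intro r hr
    rw [Subgroup.mem_subgroupOf] at hr
    rw [Subgroup.mem_centralizer_singleton_iff]
    apply Subtype.ext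
    rw [Subgroup.coe_mul, Subgroup.coe_mul]
    exact (Subgroup.mem_centralizer_iff.mp hc₀R _ (hCR hr))


/-- some conjugate of `(Q, f)` below the maximal pair `(P, e)` is fully centralized: `C_P(Q^x)` is
a defect group of `f^x` -/
theorem exists_conj_isDefectGroup_centralizerIn (hM : Cfsg.IsPModular p M)
    (B : Set (Cfsg.IrrCharacter G)) (P Q : Subgroup G)
    (e : Set (Cfsg.IrrCharacter (Subgroup.centralizer (P : Set G))))
    (f : Set (Cfsg.IrrCharacter (Subgroup.centralizer (Q : Set G))))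
    (hmax : Cfsg.IsMaximalBrauerPair p M B P e) (hQP : Q ≤ P) (hf : Cfsg.IsPBlock M f)
    (hle : Cfsg.SubpairLE p M Q f P e) :
    ∃ x : G, Cfsg.SubpairLE p M (Q.map (MulAut.conj x).toMonoidHom) (Cfsg.conjBlock Q x f) P e ∧
      Cfsg.IsDefectGroup p M (Cfsg.conjBlock Q x f)
        ((P ⊓ Subgroup.centralizer ((Q.map (MulAut.conj x).toMonoidHom : Subgroup G) : Set G)).subgroupOf
          (Subgroup.centralizer ((Q.map (MulAut.conj x).toMonoidHom : Subgroup G) : Set G))) := by
  classical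
  have : Fintype (Subgroup.centralizer (Q : Set G)) := Fintype.ofFinite _
  have hPe := hmax.1.1
  have hB := hmax.1.2.1
  have hQf : Cfsg.IsBrauerPair p M Q f := ⟨hPe.1.to_le hQP, hf⟩
  have hBQ : Cfsg.IsBrauerPairOf p M B Q f :=
    (isBrauerPairOf_iff_of_chain hM B hB ⟨Q, f⟩ ⟨P, e⟩ hle).mp hmax.1
  obtain ⟨D, hD⟩ := exists_isDefectGroup hM f hf
  have hDdg := hD
  obtain ⟨g, hg, S, hDS⟩ := hD
  have hDp : IsPGroup p D := by rw [hDS]; exact sylow_map_isPGroup S
  have hDg : D ≤ Subgroup.centralizer ({g} : Set (Subgroup.centralizer (Q : Set G))) := by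
    rw [hDS]; exact sylow_map_le S
  obtain ⟨DG, hDG⟩ : ∃ DG : Subgroup G, DG = D.map (Subgroup.centralizer (Q : Set G)).subtype :=
    ⟨_, rfl⟩
  have hDGp : IsPGroup p DG := by rw [hDG]; exact hDp.map _
  have hDGC : DG ≤ Subgroup.centralizer (Q : Set G) := by
    rw [hDG]; exact Subgroup.map_subtype_le D
  obtain ⟨R, hRdef⟩ : ∃ R : Subgroup G, R = Q ⊔ DG := ⟨_, rfl⟩
  have hQR : Q ≤ R := by rw [hRdef]; exact le_sup_left
  have hDR : DG ≤ R := by rw [hRdef]; exact le_sup_right
  have hRN : R ≤ Subgroup.normalizer (Q : Set G) := by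
    rw [hRdef]
    exact sup_le Subgroup.le_normalizer (hDGC.trans (Subgroup.centralizer_le_normalizer _))
  have hRp : IsPGroup p R := by
    rw [hRdef]
    exact IsPGroup.to_sup_of_normal_left' hQf.1 hDGp
      (hDGC.trans (Subgroup.centralizer_le_normalizer _))
  have : Fintype (Subgroup.centralizer (R : Set G)) := Fintype.ofFinite _
  have hst : ∀ x ∈ R, Cfsg.StabilizesBlock (Subgroup.centralizer (Q : Set G)) f x := by
    intro x hx
    apply stabilizesBlock_of_mem_sup
    rw [hRdef] at hx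
    exact (sup_le_sup_left hDGC Q) hx
  have hgR : (g : G) ∈ Subgroup.centralizer (R : Set G) := by
    have h1 : R ≤ Subgroup.centralizer ({(g : G)} : Set G) := by
      rw [hRdef]
      apply sup_le
      · intro q hq
        rw [Subgroup.mem_centralizer_singleton_iff]
        exact (Subgroup.mem_centralizer_iff.mp g.2 q hq)
      · rw [hDG]
        rintro _ ⟨d, hd, rfl⟩
        have := Subgroup.mem_centralizer_singleton_iff.mp (hDg hd)
        rw [Subgroup.mem_centralizer_singleton_iff]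
        have h2 := congrArg Subtype.val this
        simpa using h2
    rw [Subgroup.mem_centralizer_iff]
    intro r hr
    exact (Subgroup.mem_centralizer_singleton_iff.mp (h1 hr))
  obtain ⟨e', hn⟩ := exists_isNormalSubpair_of_blockCoeff hM Q R hRp hQR hRN f hQf hst (g : G) hgR
    g.2 hg.2.1
  have hBR : Cfsg.IsBrauerPairOf p M B R e' :=
    (isBrauerPairOf_iff_of_isNormalSubpair R Q hM e' f hn B hB).mpr hBQ
  obtain ⟨x, hx⟩ := exists_conj_subpairLE hM B P R e e' hmax hBR
  have hnx : Cfsg.NormalSubpairRel p M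
      ⟨Q.map (MulAut.conj x).toMonoidHom, Cfsg.conjBlock Q x f⟩
      ⟨R.map (MulAut.conj x).toMonoidHom, Cfsg.conjBlock R x e'⟩ :=
    isNormalSubpair_conj R Q x e' f hn
  have hchx : Cfsg.SubpairLE p M (Q.map (MulAut.conj x).toMonoidHom) (Cfsg.conjBlock Q x f) P e :=
    Relation.ReflTransGen.head hnx hx
  have hRxP : R.map (MulAut.conj x).toMonoidHom ≤ P := le_of_chain _ _ hx
  have hQxP : Q.map (MulAut.conj x).toMonoidHom ≤ P := (Subgroup.map_mono hQR).trans hRxP
  refine ⟨x, hchx, ?_⟩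
  have hfx : Cfsg.IsPBlock M (Cfsg.conjBlock Q x f) := isPBlock_conjBlock Q x hf
  obtain ⟨D', hD', hle'⟩ := exists_isDefectGroup_ge_centralizerIn hM P _ e _ hPe hQxP hfx hchx
  have hDφ : Cfsg.IsDefectGroup p M (Cfsg.conjBlock Q x f)
      (D.map (conjCentEquiv Q x).toMonoidHom) := by
    rw [conjBlock_eq]
    exact IsDefectGroup.mapIrr _ hDdg
  have hDφle : D.map (conjCentEquiv Q x).toMonoidHom
      ≤ (P ⊓ Subgroup.centralizer ((Q.map (MulAut.conj x).toMonoidHom : Subgroup G) : Set G)).subgroupOf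
          (Subgroup.centralizer ((Q.map (MulAut.conj x).toMonoidHom : Subgroup G) : Set G)) := by
    rintro _ ⟨d, hd, rfl⟩
    rw [Subgroup.mem_subgroupOf]
    refine ⟨?_, (conjCentEquiv Q x d).2⟩
    apply hRxP
    change ((conjCentEquiv Q x d : _) : G) ∈ _
    rw [conjCentEquiv_apply_coe]
    apply conj_mem_map_conj
    apply hDR
    rw [hDG]
    exact ⟨d, hd, rfl⟩
  have : Fintype (Subgroup.centralizer
    ((Q.map (MulAut.conj x).toMonoidHom : Subgroup G) : Set G)) := Fintype.ofFinite _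
  have hcard := card_eq_of_isDefectGroup hM _ hfx _ _ hDφ hD'
  have heq : D.map (conjCentEquiv Q x).toMonoidHom = D' :=
    Subgroup.eq_of_le_of_card_ge (hDφle.trans hle') (le_of_eq hcard.symm)
  have heq2 : (P ⊓ Subgroup.centralizer
      ((Q.map (MulAut.conj x).toMonoidHom : Subgroup G) : Set G)).subgroupOf
        (Subgroup.centralizer ((Q.map (MulAut.conj x).toMonoidHom : Subgroup G) : Set G)) = D' :=
    le_antisymm hle' (heq ▸ hDφle)
  rw [heq2]
  exact hD'

end fullcent

end Cfsg.Agent.Lib.Helper6
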