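import Mathlib
import Cfsg.Prelude.Def_Blocks
import Cfsg.Prelude.Def_BrauerPairs
import Cfsg.Prelude.Def_BlockFusion
import Cfsg.Agent.Lib.Helper6.BrFull

set_option autoImplicit false
set_option linter.unusedSectionVars false
open Cfsg

namespace Cfsg.Agent.Lib.Helper6

open scoped ComplexConjugate

section fusion

variable {G : Type*} [Group G] [Fintype G] [DecidableEq G]
variable {p : ℕ} [Fact p.Prime] {M : Ideal Cfsg.AlgInt}

theorem range_conjHom (Q : Subgroup G) (g : G) :
    (Cfsg.conjHom Q g).range = Q.map (MulAut.conj g).toMonoidHom := by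
  unfold Cfsg.conjHom
  rw [MonoidHom.range_comp, Subgroup.range_subtype]

/-- conjugacy in the fusion system of a block -/
theorem blockFusion_isConj_iff (hM : Cfsg.IsPModular p M) (B : Set (Cfsg.IrrCharacter G))
    (P : Subgroup G) (e : Set (Cfsg.IrrCharacter (Subgroup.centralizer (P : Set G))))
    (F : Cfsg.FusionSystem P) (hF : Cfsg.IsBlockFusionSystemOn p M B P e F)
    (Q : Subgroup G) (f : Set (Cfsg.IrrCharacter (Subgroup.centralizer (Q : Set G))))
    (hQP : Q ≤ P) (hf : Cfsg.IsPBlock M f) (hle : Cfsg.SubpairLE p M Q f P e) (Q' : Subgroup G) :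
    F.IsConj Q Q' ↔ ∃ g : G, Q' = Q.map (MulAut.conj g).toMonoidHom ∧
      Cfsg.SubpairLE p M (Q.map (MulAut.conj g).toMonoidHom) (Cfsg.conjBlock Q g f) P e := by
  have hPe := hF.1.1.1
  constructor
  · rintro ⟨φ, hφ, hr⟩
    obtain ⟨_, g, hg, _, f', hf', hf'g⟩ := (hF.2 Q φ).mp hφ
    have hf'b : Cfsg.IsPBlock M f' := (isBrauerPair_of_chain ⟨Q, f'⟩ ⟨P, e⟩ hf' hPe).2
    have hff : f' = f := subpairLE_unique hM _ P Q e f' f le_rfl hPe hf'b hf hf' hle
    subst hff
    refine ⟨g, ?_, hf'g⟩
    rw [← hr, ← range_conjHom]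
    congr 1
    ext u
    rw [hg u]
    rfl
  · rintro ⟨g, rfl, hg⟩
    refine ⟨Cfsg.conjHom Q g, ?_, range_conjHom Q g⟩
    rw [hF.2 Q]
    refine ⟨hQP, g, fun u => rfl, le_of_chain _ _ hg, f, hle, hg⟩

theorem card_subgroupOf_inf_right (P C : Subgroup G) :
    Nat.card ((P ⊓ C).subgroupOf C) = Nat.card (P ⊓ C : Subgroup G) :=
  Nat.card_congr (Subgroup.subgroupOfEquivOfLe inf_le_right).toEquiv

/-- defect groups of a block and of a conjugate of it have the same order -/
theorem card_isDefectGroup_conjBlock (hM : Cfsg.IsPModular p M) (Q : Subgroup G) (x : G)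
    (f : Set (Cfsg.IrrCharacter (Subgroup.centralizer (Q : Set G)))) (hf : Cfsg.IsPBlock M f)
    (D : Subgroup (Subgroup.centralizer (Q : Set G)))
    (D' : Subgroup (Subgroup.centralizer
      ((Q.map (MulAut.conj x).toMonoidHom : Subgroup G) : Set G)))
    (hD : Cfsg.IsDefectGroup p M f D) (hD' : Cfsg.IsDefectGroup p M (Cfsg.conjBlock Q x f) D') :
    Nat.card D' = Nat.card D := by
  classical
  have : Fintype (Subgroup.centralizer
    ((Q.map (MulAut.conj x).toMonoidHom : Subgroup G) : Set G)) := Fintype.ofFinite _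
  have h1 : Cfsg.IsDefectGroup p M (Cfsg.conjBlock Q x f)
      (D.map (conjCentEquiv Q x).toMonoidHom) := by
    rw [conjBlock_eq]
    exact IsDefectGroup.mapIrr _ hD
  rw [card_eq_of_isDefectGroup hM _ (isPBlock_conjBlock Q x hf) _ _ hD' h1]
  exact Subgroup.card_map_of_injective (conjCentEquiv Q x).injective

/-- fully centralized subgroups in the fusion system of a block -/
theorem blockFusion_isFullyCentralized_iff (hM : Cfsg.IsPModular p M)
    (B : Set (Cfsg.IrrCharacter G))
    (P : Subgroup G) (e : Set (Cfsg.IrrCharacter (Subgroup.centralizer (P : Set G))))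
    (F : Cfsg.FusionSystem P) (hF : Cfsg.IsBlockFusionSystemOn p M B P e F)
    (Q : Subgroup G) (f : Set (Cfsg.IrrCharacter (Subgroup.centralizer (Q : Set G))))
    (hQP : Q ≤ P) (hf : Cfsg.IsPBlock M f) (hle : Cfsg.SubpairLE p M Q f P e) :
    F.IsFullyCentralized Q ↔ Cfsg.IsDefectGroup p M f
      ((P ⊓ Subgroup.centralizer (Q : Set G)).subgroupOf (Subgroup.centralizer (Q : Set G))) := by
  classical
  have hmax := hF.1
  have hPe := hmax.1.1
  constructor
  · rintro ⟨_, hfc⟩
    obtain ⟨x, hx, hDx⟩ := exists_conj_isDefectGroup_centralizerIn hM B P Q e f hmax hQP hf hle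
    have hconj : F.IsConj Q (Q.map (MulAut.conj x).toMonoidHom) :=
      (blockFusion_isConj_iff hM B P e F hF Q f hQP hf hle _).mpr ⟨x, rfl, hx⟩
    have hc := hfc _ hconj
    unfold Cfsg.FusionSystem.centralizerIn at hc
    obtain ⟨D, hD, hXD⟩ := exists_isDefectGroup_ge_centralizerIn hM P Q e f hPe hQP hf hle
    have h1 := card_isDefectGroup_conjBlock hM Q x f hf D _ hD hDx
    rw [card_subgroupOf_inf_right] at h1
    have h2 : Nat.card D ≤ Nat.card ((P ⊓ Subgroup.centralizer (Q : Set G)).subgroupOf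
        (Subgroup.centralizer (Q : Set G))) := by
      rw [card_subgroupOf_inf_right, ← h1]
      exact hc
    have := Subgroup.eq_of_le_of_card_ge hXD h2
    rw [this]
    exact hD
  · intro hX
    refine ⟨hQP, ?_⟩
    intro Q' hQ'
    obtain ⟨g, rfl, hg⟩ := (blockFusion_isConj_iff hM B P e F hF Q f hQP hf hle _).mp hQ'
    have hQgP := le_of_chain _ _ hg
    obtain ⟨D', hD', hle'⟩ := exists_isDefectGroup_ge_centralizerIn hM P _ e _ hPe hQgP
      (isPBlock_conjBlock Q g hf) hg
    have h1 := card_isDefectGroup_conjBlock hM Q g f hf _ D' hX hD'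
    unfold Cfsg.FusionSystem.centralizerIn
    rw [← card_subgroupOf_inf_right, ← card_subgroupOf_inf_right P (Subgroup.centralizer (Q : Set G)),
      ← h1]
    exact Subgroup.card_le_of_le hle'


/-- the centre of `Q`, transported by conjugation -/
theorem map_conjCentEquiv_center (Q : Subgroup G) (x : G) :
    ((Q ⊓ Subgroup.centralizer (Q : Set G)).subgroupOf (Subgroup.centralizer (Q : Set G))).map
        (conjCentEquiv Q x).toMonoidHom
      = (Q.map (MulAut.conj x).toMonoidHom
          ⊓ Subgroup.centralizer ((Q.map (MulAut.conj x).toMonoidHom : Subgroup G) : Set G)).subgroupOf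
          (Subgroup.centralizer ((Q.map (MulAut.conj x).toMonoidHom : Subgroup G) : Set G)) := by
  ext y
  rw [Subgroup.mem_map, Subgroup.mem_subgroupOf]
  constructor
  · rintro ⟨z, hz, rfl⟩
    rw [Subgroup.mem_subgroupOf] at hz
    refine ⟨?_, (conjCentEquiv Q x z).2⟩
    change ((conjCentEquiv Q x z : _) : G) ∈ _
    rw [conjCentEquiv_apply_coe]
    exact conj_mem_map_conj Q x hz.1
  · rintro ⟨h1, h2⟩
    refine ⟨(conjCentEquiv Q x).symm y, ?_, ?_⟩
    · rw [Subgroup.mem_subgroupOf, conjCentEquiv_symm_apply_coe]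
      exact ⟨(mem_map_conj_iff Q x _).mp h1, (mem_centralizer_map_conj_iff Q x _).mp h2⟩
    · exact (conjCentEquiv Q x).apply_symm_apply y

/-- centric subgroups in the fusion system of a block -/
theorem blockFusion_isCentric_iff (hM : Cfsg.IsPModular p M)
    (B : Set (Cfsg.IrrCharacter G))
    (P : Subgroup G) (e : Set (Cfsg.IrrCharacter (Subgroup.centralizer (P : Set G))))
    (F : Cfsg.FusionSystem P) (hF : Cfsg.IsBlockFusionSystemOn p M B P e F)
    (Q : Subgroup G) (f : Set (Cfsg.IrrCharacter (Subgroup.centralizer (Q : Set G))))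
    (hQP : Q ≤ P) (hf : Cfsg.IsPBlock M f) (hle : Cfsg.SubpairLE p M Q f P e) :
    F.IsCentric Q ↔ Cfsg.IsDefectGroup p M f
      ((Q ⊓ Subgroup.centralizer (Q : Set G)).subgroupOf (Subgroup.centralizer (Q : Set G))) := by
  classical
  have hmax := hF.1
  have hPe := hmax.1.1
  constructor
  · rintro ⟨_, hcen⟩
    obtain ⟨x, hx, hDx⟩ := exists_conj_isDefectGroup_centralizerIn hM B P Q e f hmax hQP hf hle
    have hconj : F.IsConj Q (Q.map (MulAut.conj x).toMonoidHom) :=
      (blockFusion_isConj_iff hM B P e F hF Q f hQP hf hle _).mpr ⟨x, rfl, hx⟩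
    have hc := hcen _ hconj
    unfold Cfsg.FusionSystem.centralizerIn at hc
    have hQxP := le_of_chain _ _ hx
    have heq : (P ⊓ Subgroup.centralizer
        ((Q.map (MulAut.conj x).toMonoidHom : Subgroup G) : Set G)).subgroupOf
          (Subgroup.centralizer ((Q.map (MulAut.conj x).toMonoidHom : Subgroup G) : Set G))
        = ((Q ⊓ Subgroup.centralizer (Q : Set G)).subgroupOf
            (Subgroup.centralizer (Q : Set G))).map (conjCentEquiv Q x).toMonoidHom := by
      rw [map_conjCentEquiv_center]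
      ext y
      rw [Subgroup.mem_subgroupOf, Subgroup.mem_subgroupOf]
      constructor
      · intro hy
        exact ⟨hc hy, hy.2⟩
      · intro hy
        exact ⟨hQxP hy.1, hy.2⟩
    rw [heq, conjBlock_eq, isDefectGroup_mapIrr_iff] at hDx
    exact hDx
  · intro hZ
    refine ⟨hQP, ?_⟩
    intro Q' hQ'
    obtain ⟨g, rfl, hg⟩ := (blockFusion_isConj_iff hM B P e F hF Q f hQP hf hle _).mp hQ'
    have hQgP := le_of_chain _ _ hg
    obtain ⟨D', hD', hle'⟩ := exists_isDefectGroup_ge_centralizerIn hM P _ e _ hPe hQgP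
      (isPBlock_conjBlock Q g hf) hg
    have h1 := card_isDefectGroup_conjBlock hM Q g f hf _ D' hZ hD'
    have hZg := map_conjCentEquiv_center Q g
    have hZle : (Q.map (MulAut.conj g).toMonoidHom
          ⊓ Subgroup.centralizer ((Q.map (MulAut.conj g).toMonoidHom : Subgroup G) : Set G)).subgroupOf
          (Subgroup.centralizer ((Q.map (MulAut.conj g).toMonoidHom : Subgroup G) : Set G))
        ≤ (P ⊓ Subgroup.centralizer
          ((Q.map (MulAut.conj g).toMonoidHom : Subgroup G) : Set G)).subgroupOf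
          (Subgroup.centralizer ((Q.map (MulAut.conj g).toMonoidHom : Subgroup G) : Set G)) := by
      intro y hy
      rw [Subgroup.mem_subgroupOf] at hy ⊢
      exact ⟨hQgP hy.1, hy.2⟩
    have hcardZ : Nat.card ((Q.map (MulAut.conj g).toMonoidHom
          ⊓ Subgroup.centralizer ((Q.map (MulAut.conj g).toMonoidHom : Subgroup G) : Set G)).subgroupOf
          (Subgroup.centralizer ((Q.map (MulAut.conj g).toMonoidHom : Subgroup G) : Set G)))
        = Nat.card D' := by
      rw [← hZg, h1]
      exact Subgroup.card_map_of_injective (conjCentEquiv Q g).injective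
    have heq1 := Subgroup.eq_of_le_of_card_ge (hZle.trans hle') (le_of_eq hcardZ.symm)
    unfold Cfsg.FusionSystem.centralizerIn
    intro y hy
    have hy' : (⟨y, hy.2⟩ : Subgroup.centralizer
        ((Q.map (MulAut.conj g).toMonoidHom : Subgroup G) : Set G)) ∈ D' := by
      apply hle'
      rw [Subgroup.mem_subgroupOf]
      exact hy
    rw [← heq1, Subgroup.mem_subgroupOf] at hy'
    exact hy'.1

end fusion

end Cfsg.Agent.Lib.Helper6
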