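import Mathlib
import Cfsg.Prelude.Def_Blocks
import Cfsg.Prelude.Def_BrauerPairs
import Cfsg.Prelude.Def_BlockFusion
import Cfsg.Agent.Lib.Helper6.BrFus
import Cfsg.Agent.Lib.Helper6.BlkPrincipal
import Cfsg.Agent.Lib.Helper6.BlkBrauer
import Cfsg.Agent.Lib.Helper6.BlkPairs

set_option autoImplicit false
set_option linter.unusedSectionVars false
open Cfsg

namespace Cfsg.Agent.Lib.Helper6

open scoped ComplexConjugate

section prin

variable {G : Type*} [Group G] [Fintype G] [DecidableEq G]
variable {p : ℕ} [Fact p.Prime] {M : Ideal Cfsg.AlgInt}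

theorem sum_blockCoeff_eq (A : Set (Cfsg.IrrCharacter G)) [DecidablePred (· ∈ A)] :
    ∑ g : G, Cfsg.blockCoeff A g = if oneIrr G ∈ A then 1 else 0 := by
  have h := cOmega_blockMat A (oneIrr G)
  unfold cOmega at h
  rw [← h]
  have h1 : ((oneIrr G : Cfsg.IrrCharacter G) : G → ℂ) 1 = 1 := rfl
  rw [h1, div_one]
  apply Finset.sum_congr rfl
  intro g _
  unfold blockMat
  rw [regMat_apply, inv_one, mul_one]
  have h2 : ((oneIrr G : Cfsg.IrrCharacter G) : G → ℂ) g = 1 := rfl
  rw [h2, mul_one]

/-- the augmentation of the truncation to `C_G(P)` of a `P`-invariant element agrees with the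
augmentation of the element modulo the ideal -/
theorem brauerOmega_one_sub_sum (hM : Cfsg.IsPModular p M) (P : Subgroup G) (hP : IsPGroup p P)
    (β : G → ℂ) (hβ : ∀ u ∈ P, ∀ k : G, β (u * k * u⁻¹) = β k)
    (hβS : ∀ k, Cfsg.MemLocalRing M (β k)) :
    Cfsg.MemLocalIdeal M
      (Cfsg.brauerOmega P β (fun _ : Subgroup.centralizer (P : Set G) => (1 : ℂ)) - ∑ g : G, β g) := by
  classical
  have : Fintype (Subgroup.centralizer (P : Set G)) := Fintype.ofFinite _
  unfold Cfsg.brauerOmega
  rw [finsum_eq_sum_of_fintype]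
  simp only [mul_one, div_one]
  let F : G → ℂ := fun k => if k ∈ Subgroup.centralizer (P : Set G) then β k else 0
  have e1 : ∑ c : Subgroup.centralizer (P : Set G), β (c : G)
      = ∑ c : Subgroup.centralizer (P : Set G), F (c : G) := by
    apply Finset.sum_congr rfl
    intro c _
    simp only [F, if_pos c.2]
  rw [e1, sum_subtype_of_support (Subgroup.centralizer (P : Set G)) F (by
    intro g hg
    simp only [F, if_neg hg])]
  have e2 : ∑ g : G, F g - ∑ g : G, β g
      = - ∑ k ∈ Finset.univ.filter (fun k : G => k ∉ Subgroup.centralizer (P : Set G)), β k := by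
    rw [← Finset.sum_sub_distrib, Finset.sum_filter, ← Finset.sum_neg_distrib]
    apply Finset.sum_congr rfl
    intro k _
    simp only [F]
    split_ifs with hk <;> simp
  rw [e2]
  exact MemLocalIdeal.neg (sum_off_centralizer_memLocalIdeal hM P hP β hβ hβS)

theorem oneIrr_mem_principalBlock (hM : Cfsg.IsPModular p M) :
    oneIrr G ∈ Cfsg.principalBlock M G := by
  rw [principalBlock_eq]
  exact sameBlock_refl hM _

theorem isPBlock_principalBlock : Cfsg.IsPBlock M (Cfsg.principalBlock M G) :=
  ⟨oneIrr G, rfl⟩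

/-- Brauer's third main theorem for centralizers: the principal block of `C_G(Q)` gives a Brauer
pair of the principal block -/
theorem isBrauerPairOf_principal (hM : Cfsg.IsPModular p M) (Q : Subgroup G) (hQ : IsPGroup p Q) :
    Cfsg.IsBrauerPairOf p M (Cfsg.principalBlock M G) Q
      (Cfsg.principalBlock M (Subgroup.centralizer (Q : Set G))) := by
  classical
  have : Fintype (Subgroup.centralizer (Q : Set G)) := Fintype.ofFinite _
  refine ⟨⟨hQ, isPBlock_principalBlock⟩, isPBlock_principalBlock, ?_⟩
  intro ξ hξ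
  have hEc := blockMat_mem_centerAlg (Cfsg.principalBlock M G)
  have hEs : blockMat (Cfsg.principalBlock M G) ∈ sMat hM G :=
    isPBlock_mem_sMat hM isPBlock_principalBlock
  have htc : resMat (Subgroup.centralizer (Q : Set G)) (blockMat (Cfsg.principalBlock M G))
      ∈ centerAlg (Subgroup.centralizer (Q : Set G)) := resMat_mem_centerAlg _ hEc
  have hts : resMat (Subgroup.centralizer (Q : Set G)) (blockMat (Cfsg.principalBlock M G))
      ∈ sMat hM (Subgroup.centralizer (Q : Set G)) := resMat_mem_sMat _ hM hEs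
  have h1 : Cfsg.MemLocalIdeal M
      (Cfsg.brauerOmega Q (Cfsg.blockCoeff (Cfsg.principalBlock M G))
          (ξ : Subgroup.centralizer (Q : Set G) → ℂ)
        - Cfsg.brauerOmega Q (Cfsg.blockCoeff (Cfsg.principalBlock M G))
          ((oneIrr (Subgroup.centralizer (Q : Set G)) : Cfsg.IrrCharacter _) :
            Subgroup.centralizer (Q : Set G) → ℂ)) := by
    rw [brauerOmega_blockCoeff_eq, brauerOmega_blockCoeff_eq]
    exact cOmega_sub_memLocalIdeal hM ξ.2 (oneIrr _).2 (SameBlock.symm' hξ) htc hts
  have h2 := brauerOmega_one_sub_sum hM Q hQ (Cfsg.blockCoeff (Cfsg.principalBlock M G))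
    (fun u _ k => blockCoeff_isClassFunction _ k u)
    (fun k => blockCoeff_memLocalRing hM (oneIrr G) k)
  rw [sum_blockCoeff_eq, if_pos (oneIrr_mem_principalBlock hM)] at h2
  have := MemLocalIdeal.add hM h1 h2
  convert this using 1
  have : ((oneIrr (Subgroup.centralizer (Q : Set G)) : Cfsg.IrrCharacter _) :
      Subgroup.centralizer (Q : Set G) → ℂ) = fun _ => (1 : ℂ) := rfl
  rw [this]
  ring


theorem autIrr_oneIrr {K : Type*} [Group K] [Finite K] (σ : MulAut K) :
    autIrr σ (oneIrr K) = oneIrr K := by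
  apply Subtype.ext
  funext k
  rfl

theorem mapIrr_oneIrr {K K' : Type*} [Group K] [Group K'] [Finite K] [Finite K'] (φ : K ≃* K') :
    mapIrr φ (oneIrr K) = oneIrr K' := by
  apply Subtype.ext
  funext k
  rfl

theorem autIrr_image_principalBlock {K : Type*} [Group K] [Finite K] (σ : MulAut K) :
    autIrr σ '' Cfsg.principalBlock M K = Cfsg.principalBlock M K := by
  change autIrr σ '' Cfsg.blockOf M ((oneIrr K : Cfsg.IrrCharacter K) : K → ℂ)
    = Cfsg.blockOf M ((oneIrr K : Cfsg.IrrCharacter K) : K → ℂ)
  rw [autIrr_image_blockOf, autIrr_oneIrr]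

theorem conjBlock_principalBlock (Q : Subgroup G) (x : G) :
    Cfsg.conjBlock Q x (Cfsg.principalBlock M (Subgroup.centralizer (Q : Set G)))
      = Cfsg.principalBlock M
          (Subgroup.centralizer ((Q.map (MulAut.conj x).toMonoidHom : Subgroup G) : Set G)) := by
  rw [conjBlock_eq]
  change mapIrr (conjCentEquiv Q x) '' Cfsg.blockOf M
      ((oneIrr (Subgroup.centralizer (Q : Set G)) : Cfsg.IrrCharacter _) : _ → ℂ)
    = Cfsg.blockOf M ((oneIrr (Subgroup.centralizer
        ((Q.map (MulAut.conj x).toMonoidHom : Subgroup G) : Set G)) : Cfsg.IrrCharacter _) : _ → ℂ)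
  rw [mapIrr_image_blockOf, mapIrr_oneIrr]

/-- the principal blocks of the centralizers form normal inclusions of Brauer pairs -/
theorem isNormalSubpair_principal (hM : Cfsg.IsPModular p M) (Q R : Subgroup G)
    (hR : IsPGroup p R) (hQR : Q ≤ R) (hRN : R ≤ Subgroup.normalizer (Q : Set G)) :
    Cfsg.IsNormalSubpair p M Q (Cfsg.principalBlock M (Subgroup.centralizer (Q : Set G)))
      R (Cfsg.principalBlock M (Subgroup.centralizer (R : Set G))) := by
  classical
  have : Fintype (Subgroup.centralizer (Q : Set G)) := Fintype.ofFinite _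
  have : Fintype (Subgroup.centralizer (R : Set G)) := Fintype.ofFinite _
  have hCK : Subgroup.centralizer (R : Set G) ≤ Subgroup.centralizer (Q : Set G) :=
    Subgroup.centralizer_le hQR
  have hRK := hRN.trans (normalizer_le_normalizer_centralizer Q)
  have hstab : ∀ x ∈ R, Cfsg.StabilizesBlock (Subgroup.centralizer (Q : Set G))
      (Cfsg.principalBlock M (Subgroup.centralizer (Q : Set G))) x := by
    intro x hx
    rw [stabilizesBlock_iff]
    exact ⟨hRK hx, autIrr_image_principalBlock _⟩
  refine ⟨⟨hR.to_le hQR, isPBlock_principalBlock⟩, ⟨hR, isPBlock_principalBlock⟩, hQR, hRN,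
    hstab, ?_⟩
  intro ξ hξ
  have hf : Cfsg.IsPBlock M (Cfsg.principalBlock M (Subgroup.centralizer (Q : Set G))) :=
    isPBlock_principalBlock
  have h1 : Cfsg.MemLocalIdeal M
      (Cfsg.brauerOmega R (Cfsg.subgroupBlockCoeff (Subgroup.centralizer (Q : Set G))
          (Cfsg.principalBlock M (Subgroup.centralizer (Q : Set G))))
          (ξ : Subgroup.centralizer (R : Set G) → ℂ)
        - Cfsg.brauerOmega R (Cfsg.subgroupBlockCoeff (Subgroup.centralizer (Q : Set G))
          (Cfsg.principalBlock M (Subgroup.centralizer (Q : Set G))))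
          ((oneIrr (Subgroup.centralizer (R : Set G)) : Cfsg.IrrCharacter _) :
            Subgroup.centralizer (R : Set G) → ℂ)) := by
    rw [brauerOmega_eq_trOmega R _ hCK, brauerOmega_eq_trOmega R _ hCK]
    exact trOmega_sub_of_sameBlock R _ hM hCK ξ (oneIrr _) (SameBlock.symm' hξ) hf
  have hinv : ∀ u ∈ R, ∀ k : G,
      Cfsg.subgroupBlockCoeff (Subgroup.centralizer (Q : Set G))
        (Cfsg.principalBlock M (Subgroup.centralizer (Q : Set G))) (u * k * u⁻¹)
      = Cfsg.subgroupBlockCoeff (Subgroup.centralizer (Q : Set G))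
        (Cfsg.principalBlock M (Subgroup.centralizer (Q : Set G))) k := by
    intro u hu k
    have huK := hRK hu
    by_cases hk : k ∈ Subgroup.centralizer (Q : Set G)
    · have hk' : u * k * u⁻¹ ∈ Subgroup.centralizer (Q : Set G) :=
        (Subgroup.mem_normalizer_iff.mp huK k).mp hk
      rw [subgroupBlockCoeff_of_mem _ _ hk, subgroupBlockCoeff_of_mem _ _ hk']
      have := blockCoeff_of_autIrr_image_eq (nAut (Subgroup.centralizer (Q : Set G)) u huK)
        (autIrr_image_principalBlock (M := M) _) ⟨k, hk⟩
      rw [← this]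
      apply congrArg
      apply Subtype.ext
      rw [nAut_apply_coe]
    · have hk' : u * k * u⁻¹ ∉ Subgroup.centralizer (Q : Set G) := by
        intro hc
        exact hk ((Subgroup.mem_normalizer_iff.mp huK k).mpr hc)
      rw [subgroupBlockCoeff_of_not_mem _ _ hk, subgroupBlockCoeff_of_not_mem _ _ hk']
  have hloc : ∀ k : G, Cfsg.MemLocalRing M
      (Cfsg.subgroupBlockCoeff (Subgroup.centralizer (Q : Set G))
        (Cfsg.principalBlock M (Subgroup.centralizer (Q : Set G))) k) := by
    intro k
    by_cases hk : k ∈ Subgroup.centralizer (Q : Set G)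
    · rw [subgroupBlockCoeff_of_mem _ _ hk]
      exact blockCoeff_memLocalRing hM (oneIrr _) _
    · rw [subgroupBlockCoeff_of_not_mem _ _ hk]
      exact memLocalRing_zero hM
  have h2 := brauerOmega_one_sub_sum hM R hR _ hinv hloc
  have hsum : ∑ g : G, Cfsg.subgroupBlockCoeff (Subgroup.centralizer (Q : Set G))
      (Cfsg.principalBlock M (Subgroup.centralizer (Q : Set G))) g = 1 := by
    rw [← sum_subtype_of_support (Subgroup.centralizer (Q : Set G)) _
      (fun g hg => subgroupBlockCoeff_of_not_mem _ _ hg)]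
    have : ∀ k : Subgroup.centralizer (Q : Set G),
        Cfsg.subgroupBlockCoeff (Subgroup.centralizer (Q : Set G))
          (Cfsg.principalBlock M (Subgroup.centralizer (Q : Set G))) (k : G)
        = Cfsg.blockCoeff (Cfsg.principalBlock M (Subgroup.centralizer (Q : Set G))) k := by
      intro k
      rw [subgroupBlockCoeff_of_mem _ _ k.2]
    rw [Finset.sum_congr rfl (fun k _ => this k), sum_blockCoeff_eq,
      if_pos (oneIrr_mem_principalBlock hM)]
  rw [hsum] at h2
  have := MemLocalIdeal.add hM h1 h2
  convert this using 1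
  have : ((oneIrr (Subgroup.centralizer (R : Set G)) : Cfsg.IrrCharacter _) :
      Subgroup.centralizer (R : Set G) → ℂ) = fun _ => (1 : ℂ) := rfl
  rw [this]
  ring

/-- the principal blocks of the centralizers form a chain of Brauer pairs -/
theorem subpairLE_principal (hM : Cfsg.IsPModular p M) :
    ∀ (n : ℕ) (R Q : Subgroup G), Nat.card R - Nat.card Q ≤ n → IsPGroup p R → Q ≤ R →
      Cfsg.SubpairLE p M Q (Cfsg.principalBlock M (Subgroup.centralizer (Q : Set G)))
        R (Cfsg.principalBlock M (Subgroup.centralizer (R : Set G))) := by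
  intro n
  induction n with
  | zero =>
    intro R Q hn hR hQR
    have hcard : Nat.card R ≤ Nat.card Q := by omega
    have : Q = R := Subgroup.eq_of_le_of_card_ge hQR hcard
    subst this
    exact Relation.ReflTransGen.refl
  | succ n ih =>
    intro R Q hn hR hQR
    rcases eq_or_lt_of_le hQR with h | h
    · subst h
      exact Relation.ReflTransGen.refl
    · obtain ⟨x, hxP, hxN, hxQ⟩ := exists_mem_normalizer_not_mem hR h
      have hQN : Q ≤ R ⊓ Subgroup.normalizer (Q : Set G) := le_inf hQR Subgroup.le_normalizer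
      have hQltN : Q < R ⊓ Subgroup.normalizer (Q : Set G) := by
        apply lt_of_le_of_ne hQN
        intro heq
        apply hxQ
        rw [heq]
        exact ⟨hxP, hxN⟩
      have hNR : R ⊓ Subgroup.normalizer (Q : Set G) ≤ R := inf_le_left
      have hc1 := card_lt_of_lt hQltN
      have hc2 := Subgroup.card_le_of_le hNR
      have hchain := ih R (R ⊓ Subgroup.normalizer (Q : Set G)) (by omega) hR hNR
      have hstep : Cfsg.NormalSubpairRel p M
          ⟨Q, Cfsg.principalBlock M (Subgroup.centralizer (Q : Set G))⟩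
          ⟨R ⊓ Subgroup.normalizer (Q : Set G), Cfsg.principalBlock M
            (Subgroup.centralizer ((R ⊓ Subgroup.normalizer (Q : Set G) : Subgroup G) : Set G))⟩ :=
        isNormalSubpair_principal hM Q _ (hR.to_le hNR) hQN inf_le_right
      exact Relation.ReflTransGen.head hstep hchain

end prin

end Cfsg.Agent.Lib.Helper6
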