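import Mathlib
import Cfsg.Agent.Lib.Helper1.AODefs

/-!
# S3406, piece G5b: in a nonabelian simple group no nontrivial Sylow subgroup has `N(L) ≤ C(L)`
(Burnside's transfer theorem).
-/

set_option autoImplicit false

open Cfsg.Agent.Lib.Helper1.AO

universe u

namespace Cfsg.Agent.Lib.Helper6.AO

variable {G : Type u} [Group G] [Finite G]

theorem false_of_normalizer_le_centralizer (hs : IsSimpleGroup G) (hna : ∃ a b : G, a * b ≠ b * a)
    {l : ℕ} [Fact l.Prime] (L : Sylow l G) (hL : (L : Subgroup G) ≠ ⊥)
    (hcent : Subgroup.normalizer ((L : Subgroup G) : Set G) ≤ Subgroup.centralizer ((L : Subgroup G) : Set G)) : False := by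
  have hcompl := MonoidHom.ker_transferSylow_isComplement' L hcent
  rcases hs.eq_bot_or_eq_top_of_normal (MonoidHom.transferSylow L hcent).ker inferInstance with hK | hK
  · rw [hK] at hcompl
    have hLtop : (L : Subgroup G) = ⊤ := Subgroup.isComplement'_bot_left.1 hcompl
    obtain ⟨a, b, hab⟩ := hna
    apply hab
    have hb : b ∈ Subgroup.normalizer ((L : Subgroup G) : Set G) := by
      rw [Subgroup.mem_normalizer_iff]
      intro h
      rw [hLtop]
      exact ⟨fun _ => Subgroup.mem_top _, fun _ => Subgroup.mem_top _⟩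
    have hb' := hcent hb
    rw [Subgroup.mem_centralizer_iff] at hb'
    exact hb' a (by rw [SetLike.mem_coe, hLtop]; exact Subgroup.mem_top a)
  · rw [hK] at hcompl
    exact hL (Subgroup.isComplement'_top_left.1 hcompl)

end Cfsg.Agent.Lib.Helper6.AO
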