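import Mathlib
import Cfsg.Agent.Lib.Helper1.AODefs
import Cfsg.Agent.Lib.Helper4.AOG1
import Cfsg.Agent.Lib.Helper6.AOG5b

/-!
# S3406, pieces G5 and G6: lower bounds for `kap L x₀` in a nonabelian simple `AT`-group.
-/

set_option autoImplicit false

open Cfsg.Agent.Lib.Helper1.AO

universe u

namespace Cfsg.Agent.Lib.Helper6.AO

variable {G : Type u} [Group G] [Finite G]

/-- the Sylow subgroup is nontrivial as soon as `G` has an element of order `l`. -/
theorem sylow_ne_bot_of_orderOf {l : ℕ} [Fact l.Prime] (L : Sylow l G) (x₀ : G)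
    (hx₀ : orderOf x₀ = l) : (L : Subgroup G) ≠ ⊥ := by
  have hl : l.Prime := Fact.out
  have h1 := Cfsg.Agent.Lib.Helper4.AO.one_le_kap L x₀ hx₀
  unfold kap at h1
  have hne : Nonempty {z : G // z ∈ (L : Subgroup G) ∧ IsConj x₀ z} := by
    by_contra hcon
    rw [not_nonempty_iff] at hcon
    rw [Nat.card_of_isEmpty] at h1
    omega
  obtain ⟨⟨z, hz, hc⟩⟩ := hne
  intro hbot
  rw [hbot, Subgroup.mem_bot] at hz
  obtain ⟨g, hg⟩ := isConj_iff.1 hc
  have : x₀ = 1 := by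
    rw [hz] at hg
    have : x₀ = g⁻¹ * 1 * g := by rw [← hg]; group
    rw [this]; group
  rw [this, orderOf_one] at hx₀
  exact hl.one_lt.ne hx₀

/-- elements `≠ 1` of a Sylow `l`-subgroup of exponent `l` have order `l`. -/
theorem orderOf_eq_of_mem_sylow {l : ℕ} [Fact l.Prime] (L : Sylow l G)
    (hexp : ∀ x ∈ (L : Subgroup G), x ^ l = 1) (x : G) (hx : x ∈ (L : Subgroup G)) (hx1 : x ≠ 1) :
    orderOf x = l :=
  orderOf_eq_prime (hexp x hx) hx1

-- G5
theorem two_le_kap (hs : IsSimpleGroup G) (hna : ∃ a b : G, a * b ≠ b * a) (h : AT G)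
    {l : ℕ} [Fact l.Prime] (L : Sylow l G) (hexp : ∀ x ∈ (L : Subgroup G), x ^ l = 1)
    (x₀ : G) (hx₀ : orderOf x₀ = l) : 2 ≤ kap (L : Subgroup G) x₀ := by
  by_contra hlt
  have hle : kap (L : Subgroup G) x₀ ≤ 1 := by omega
  refine false_of_normalizer_le_centralizer hs hna L (sylow_ne_bot_of_orderOf L x₀ hx₀) ?_
  intro n hn
  rw [Subgroup.mem_centralizer_iff]
  intro x hx
  rw [SetLike.mem_coe] at hx
  by_cases hx1 : x = 1
  · rw [hx1, one_mul, mul_one]
  have hox : orderOf x = l := orderOf_eq_of_mem_sylow L hexp x hx hx1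
  have hk : kap (L : Subgroup G) x ≤ 1 := by
    rw [Cfsg.Agent.Lib.Helper4.AO.kap_eq h L (hox.trans hx₀.symm)]
    exact hle
  unfold kap at hk
  have hsub : Subsingleton {z : G // z ∈ (L : Subgroup G) ∧ IsConj x z} :=
    Finite.card_le_one_iff_subsingleton.1 hk
  have hnx : n * x * n⁻¹ ∈ (L : Subgroup G) := by
    rw [Subgroup.mem_normalizer_iff] at hn
    exact (hn x).1 hx
  have heq : (⟨x, hx, IsConj.refl x⟩ : {z : G // z ∈ (L : Subgroup G) ∧ IsConj x z}) =
      ⟨n * x * n⁻¹, hnx, isConj_iff.2 ⟨n, rfl⟩⟩ := Subsingleton.elim _ _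
  have heq' : x = n * x * n⁻¹ := congrArg Subtype.val heq
  rw [eq_mul_inv_iff_mul_eq] at heq'
  exact heq'

-- G6
theorem three_le_kap_of_odd (hs : IsSimpleGroup G) (hna : ∃ a b : G, a * b ≠ b * a) (h : AT G)
    (hodd : Odd (Nat.card G))
    {l : ℕ} [Fact l.Prime] (L : Sylow l G) (hexp : ∀ x ∈ (L : Subgroup G), x ^ l = 1)
    (x₀ : G) (hx₀ : orderOf x₀ = l) : 3 ≤ kap (L : Subgroup G) x₀ := by
  classical
  by_contra hlt
  have hle : kap (L : Subgroup G) x₀ ≤ 2 := by omega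
  refine false_of_normalizer_le_centralizer hs hna L (sylow_ne_bot_of_orderOf L x₀ hx₀) ?_
  intro n hn
  rw [Subgroup.mem_centralizer_iff]
  intro x hx
  rw [SetLike.mem_coe] at hx
  by_cases hx1 : x = 1
  · rw [hx1, one_mul, mul_one]
  have hox : orderOf x = l := orderOf_eq_of_mem_sylow L hexp x hx hx1
  have hk : kap (L : Subgroup G) x ≤ 2 := by
    rw [Cfsg.Agent.Lib.Helper4.AO.kap_eq h L (hox.trans hx₀.symm)]
    exact hle
  unfold kap at hk
  have hnL : ∀ y ∈ (L : Subgroup G), n * y * n⁻¹ ∈ (L : Subgroup G) := by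
    intro y hy
    rw [Subgroup.mem_normalizer_iff] at hn
    exact (hn y).1 hy
  by_contra hne
  have hne' : x ≠ n * x * n⁻¹ := by
    intro h1
    apply hne
    rw [eq_mul_inv_iff_mul_eq] at h1
    exact h1
  -- the three elements
  let a : {z : G // z ∈ (L : Subgroup G) ∧ IsConj x z} := ⟨x, hx, IsConj.refl x⟩
  let b : {z : G // z ∈ (L : Subgroup G) ∧ IsConj x z} :=
    ⟨n * x * n⁻¹, hnL x hx, isConj_iff.2 ⟨n, rfl⟩⟩
  let c : {z : G // z ∈ (L : Subgroup G) ∧ IsConj x z} :=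
    ⟨n * (n * x * n⁻¹) * n⁻¹, hnL _ (hnL x hx), isConj_iff.2 ⟨n * n, by group⟩⟩
  have hab : a ≠ b := fun hh => hne' (congrArg Subtype.val hh)
  have hbc : b ≠ c := by
    intro hh
    have h2 : n * x * n⁻¹ = n * (n * x * n⁻¹) * n⁻¹ := congrArg Subtype.val hh
    apply hne'
    have h3 : n⁻¹ * (n * x * n⁻¹) * n = n⁻¹ * (n * (n * x * n⁻¹) * n⁻¹) * n := by rw [← h2]
    have e1 : n⁻¹ * (n * x * n⁻¹) * n = x := by group
    have e2 : n⁻¹ * (n * (n * x * n⁻¹) * n⁻¹) * n = n * x * n⁻¹ := by group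
    rw [e1, e2] at h3
    exact h3
  have hac : a = c := by
    by_contra hac
    haveI : Fintype {z : G // z ∈ (L : Subgroup G) ∧ IsConj x z} := Fintype.ofFinite _
    rw [Nat.card_eq_fintype_card] at hk
    have : 2 < Fintype.card {z : G // z ∈ (L : Subgroup G) ∧ IsConj x z} :=
      Fintype.two_lt_card_iff.2 ⟨a, b, c, hab, hac, hbc⟩
    omega
  have hac' : x = n * (n * x * n⁻¹) * n⁻¹ := congrArg Subtype.val hac
  -- n^2 commutes with x
  have hsq : Commute (n ^ 2) x := by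
    have : n ^ 2 * x = x * n ^ 2 := by
      have e : n * (n * x * n⁻¹) * n⁻¹ = (n * n) * x * (n * n)⁻¹ := by group
      rw [e, eq_mul_inv_iff_mul_eq, ← pow_two] at hac'
      exact hac'.symm
    exact this
  -- n has odd order, so n is a power of n^2
  have hon : Odd (orderOf n) := by
    have hd : orderOf n ∣ Nat.card G := orderOf_dvd_natCard n
    exact Odd.of_dvd_nat hodd hd
  obtain ⟨k, hk2⟩ := hon
  have hn_pow : (n ^ 2) ^ (k + 1) = n := by
    rw [← pow_mul]
    have : 2 * (k + 1) = orderOf n + 1 := by omega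
    rw [this, pow_succ, pow_orderOf_eq_one, one_mul]
  have hcomm : Commute n x := by
    rw [← hn_pow]
    exact hsq.pow_left _
  exact hne hcomm.eq.symm

end Cfsg.Agent.Lib.Helper6.AO
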