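import Mathlib
import Cfsg.Agent.Lib.Helper1.AODefs

/-!
# S3406, pieces G8 + G9: a finite group is not the union of the conjugates of a proper subgroup;
the tool `toolU`.
-/

set_option autoImplicit false

open Cfsg.Agent.Lib.Helper1.AO

universe u

namespace Cfsg.Agent.Lib.Helper6.AO

variable {G : Type u} [Group G] [Finite G]

theorem exists_no_conj_mem (M : Subgroup G) (hM : M ≠ ⊤) : ∃ w : G, ∀ g : G, g * w * g⁻¹ ∉ M := by
  classical
  by_contra hcon
  push_neg at hcon
  haveI : Fintype G := Fintype.ofFinite G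
  haveI : Fintype (G ⧸ M) := Fintype.ofFinite _
  haveI : ∀ g : G, Fintype (MulAction.fixedBy (G ⧸ M) g) := fun g => Fintype.ofFinite _
  haveI : Fintype (MulAction.orbitRel.Quotient G (G ⧸ M)) := Fintype.ofFinite _
  have hburn := MulAction.sum_card_fixedBy_eq_card_orbits_mul_card_group G (G ⧸ M)
  -- one orbit
  have horb : Fintype.card (MulAction.orbitRel.Quotient G (G ⧸ M)) = 1 := by
    rw [Fintype.card_eq_one_iff]
    refine ⟨Quotient.mk'' (QuotientGroup.mk 1 : G ⧸ M), ?_⟩
    intro y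
    induction y using Quotient.inductionOn' with
    | h a =>
      apply Quotient.sound'
      show a ∈ MulAction.orbit G (QuotientGroup.mk 1 : G ⧸ M)
      obtain ⟨g, rfl⟩ := QuotientGroup.mk_surjective a
      exact ⟨g, by simp [MulAction.Quotient.smul_mk]⟩
  rw [horb, one_mul] at hburn
  -- every element fixes a point
  have hfix : ∀ w : G, 1 ≤ Fintype.card (MulAction.fixedBy (G ⧸ M) w) := by
    intro w
    obtain ⟨g, hg⟩ := hcon w
    refine Fintype.card_pos_iff.2 ⟨⟨(QuotientGroup.mk g⁻¹ : G ⧸ M), ?_⟩⟩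
    rw [MulAction.mem_fixedBy, MulAction.Quotient.smul_mk, QuotientGroup.eq]
    have : (w • g⁻¹)⁻¹ * g⁻¹ = (g * w * g⁻¹)⁻¹ := by
      rw [smul_eq_mul]; group
    rw [this]
    exact M.inv_mem hg
  -- the identity fixes at least two points
  have hone : 2 ≤ Fintype.card (MulAction.fixedBy (G ⧸ M) (1 : G)) := by
    have h1 : Fintype.card (MulAction.fixedBy (G ⧸ M) (1 : G)) = Fintype.card (G ⧸ M) := by
      apply Fintype.card_congr
      exact
        { toFun := fun x => x.1
          invFun := fun x => ⟨x, by simp [MulAction.mem_fixedBy]⟩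
          left_inv := fun x => rfl
          right_inv := fun x => rfl }
    rw [h1]
    by_contra hlt
    have hle : Fintype.card (G ⧸ M) ≤ 1 := by omega
    apply hM
    have hidx : M.index = 1 := by
      have hpos : 0 < Fintype.card (G ⧸ M) := Fintype.card_pos_iff.2 ⟨QuotientGroup.mk 1⟩
      rw [Subgroup.index, Nat.card_eq_fintype_card]
      omega
    exact Subgroup.index_eq_one.1 hidx
  have hsum : Fintype.card G + 1 ≤ ∑ g : G, Fintype.card (MulAction.fixedBy (G ⧸ M) g) := by
    have h1 : ∑ g : G, Fintype.card (MulAction.fixedBy (G ⧸ M) g) =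
        Fintype.card (MulAction.fixedBy (G ⧸ M) (1 : G)) +
          ∑ g ∈ (Finset.univ.erase (1 : G)), Fintype.card (MulAction.fixedBy (G ⧸ M) g) := by
      exact (Finset.add_sum_erase Finset.univ
        (fun g : G => Fintype.card (MulAction.fixedBy (G ⧸ M) g)) (Finset.mem_univ 1)).symm
    have h2 : (Finset.univ.erase (1 : G)).card ≤
        ∑ g ∈ (Finset.univ.erase (1 : G)), Fintype.card (MulAction.fixedBy (G ⧸ M) g) := by
      calc (Finset.univ.erase (1 : G)).card = ∑ _g ∈ (Finset.univ.erase (1 : G)), 1 := by simp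
        _ ≤ _ := Finset.sum_le_sum (fun g _ => hfix g)
    have h3 : (Finset.univ.erase (1 : G)).card = Fintype.card G - 1 := by
      rw [Finset.card_erase_of_mem (Finset.mem_univ 1), Finset.card_univ]
    have hpos : 0 < Fintype.card G := Fintype.card_pos
    omega
  omega

theorem toolU (h : AT G) (W : Subgroup G)
    (hW : ∀ α : MulAut G, ∃ g : G, W.map α.toMonoidHom = W.map (MulAut.conj g).toMonoidHom)
    (hM : Subgroup.normalizer (W : Set G) ≠ ⊤)
    (hall : ∀ w : G, w ≠ 1 → ∃ m ∈ Subgroup.normalizer (W : Set G), orderOf m = orderOf w) : False := by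
  obtain ⟨w, hw⟩ := exists_no_conj_mem (Subgroup.normalizer (W : Set G)) hM
  have hw1 : w ≠ 1 := by
    rintro rfl
    exact hw 1 (by simp)
  obtain ⟨m, hmN, hmw⟩ := hall w hw1
  obtain ⟨α, hα⟩ := h m w hmw
  obtain ⟨g, hg⟩ := hW α
  apply hw g⁻¹
  -- g⁻¹ w g normalizes W
  rw [Subgroup.mem_normalizer_iff] at hmN ⊢
  intro x
  -- transport
  have key : ∀ y : G, y ∈ W ↔ g * y * g⁻¹ ∈ W.map α.toMonoidHom := by
    intro y
    rw [hg]
    constructor
    · intro hy; exact ⟨y, hy, by simp [MulAut.conj_apply]⟩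
    · rintro ⟨z, hz, hzy⟩
      have : g * z * g⁻¹ = g * y * g⁻¹ := by simpa [MulAut.conj_apply] using hzy
      have : z = y := by
        have h1 := congrArg (fun t => g⁻¹ * t * g) this
        simpa [mul_assoc] using h1
      exact this ▸ hz
  -- α m = w normalizes W.map α
  have hwN : ∀ y : G, y ∈ W.map α.toMonoidHom ↔ w * y * w⁻¹ ∈ W.map α.toMonoidHom := by
    intro y
    constructor
    · rintro ⟨z, hz, rfl⟩
      refine ⟨m * z * m⁻¹, (hmN z).1 hz, ?_⟩
      simp [hα]
    · rintro ⟨z, hz, hzy⟩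
      refine ⟨m⁻¹ * z * m, ?_, ?_⟩
      · have := (hmN (m⁻¹ * z * m)).2 (by simpa [mul_assoc] using hz)
        exact this
      · have h1 : α (m⁻¹ * z * m) = w⁻¹ * α z * w := by simp [hα]
        have h2 : α z = w * y * w⁻¹ := by simpa using hzy
        show α.toMonoidHom (m⁻¹ * z * m) = y
        show α (m⁻¹ * z * m) = y
        rw [h1, h2]; group
  rw [key x, key (g⁻¹ * w * g⁻¹⁻¹ * x * (g⁻¹ * w * g⁻¹⁻¹)⁻¹), hwN (g * x * g⁻¹)]
  have e : g * (g⁻¹ * w * g⁻¹⁻¹ * x * (g⁻¹ * w * g⁻¹⁻¹)⁻¹) * g⁻¹ = w * (g * x * g⁻¹) * w⁻¹ := by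
    group
  rw [e]

end Cfsg.Agent.Lib.Helper6.AO
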