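import Mathlib
import Cfsg.Prelude.Def_PLocal
import Cfsg.Agent.Lib.Helper1.AODefs
import Cfsg.Agent.Lib.Helper1.AOF0
import Cfsg.Agent.Lib.Helper1.AOF1
import Cfsg.Agent.Lib.Helper1.FusionZJ3
import Cfsg.Agent.Lib.Helper1.ZJ10
import Cfsg.Agent.Lib.Helper4.AOO1
import Cfsg.Agent.Lib.Helper6.AOG5
import Cfsg.Agent.Lib.Helper6.AOG8

/-!
# S3406 (odd case), piece F4: `r ∤ |N_G(Z(J(P)))|` in type F.
-/

set_option autoImplicit false

open Cfsg.Agent.Lib.Helper1.AO

universe u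

namespace Cfsg.Agent.Lib.Helper6.AO

variable {G : Type u} [Group G] [Finite G] {p q r : ℕ}

/-- there is an element of order `p`. -/
theorem oddPQ_exists_orderOf_p (H : OddPQ G p q r) : ∃ x : G, orderOf x = p := by
  obtain ⟨w, hw⟩ := H.ex
  refine ⟨w ^ q, ?_⟩
  rw [orderOf_pow_of_dvd H.hq.ne_zero (by rw [hw]; exact Dvd.intro_left p rfl), hw]
  exact Nat.mul_div_cancel _ H.hq.pos

/-- a nontrivial central element of order `p` of the Sylow `p`-subgroup `P`. -/
theorem oddPQ_exists_central (H : OddPQ G p q r) [Fact p.Prime] (P : Sylow p G) :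
    ∃ z ∈ (P : Subgroup G), z ≠ 1 ∧ orderOf z = p ∧ ∀ u ∈ (P : Subgroup G), u * z = z * u := by
  obtain ⟨x, hx⟩ := oddPQ_exists_orderOf_p H
  have hne : (P : Subgroup G) ≠ ⊥ := sylow_ne_bot_of_orderOf P x hx
  haveI : Nontrivial (P : Subgroup G) := (Subgroup.nontrivial_iff_ne_bot _).2 hne
  haveI := IsPGroup.center_nontrivial P.isPGroup'
  obtain ⟨z, hz⟩ := exists_ne (1 : Subgroup.center (P : Subgroup G))
  have hz1 : (z : (P : Subgroup G)) ≠ 1 := fun h => hz (Subtype.ext h)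
  have hz1' : ((z : (P : Subgroup G)) : G) ≠ 1 := fun h => hz1 (Subtype.ext h)
  refine ⟨((z : (P : Subgroup G)) : G), (z : (P : Subgroup G)).2, hz1', ?_, ?_⟩
  · exact orderOf_eq_prime (odd_exp_p H P _ (z : (P : Subgroup G)).2) hz1'
  · intro u hu
    have := Subgroup.mem_center_iff.1 z.2 ⟨u, hu⟩
    exact congrArg Subtype.val this

theorem zj_ne_bot (H : OddPQ G p q r) [Fact p.Prime] (P : Sylow p G) :
    Cfsg.centerThompsonAOf (P : Subgroup G) ≠ ⊥ := by
  obtain ⟨z, hz, hz1, -, hzc⟩ := oddPQ_exists_central H P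
  intro hbot
  have hzW : z ∈ Cfsg.centerThompsonAOf (P : Subgroup G) := by
    apply Cfsg.Agent.Lib.Helper1.FusionZJ.center_le_centerThompsonAOf
    refine ⟨hz, ?_⟩
    show z ∈ Subgroup.centralizer ((P : Subgroup G) : Set G)
    rw [Subgroup.mem_centralizer_iff]
    intro u hu
    exact hzc u hu
  rw [hbot, Subgroup.mem_bot] at hzW
  exact hz1 hzW

theorem zj_normalizer_ne_top (H : OddPQ G p q r) [Fact p.Prime] (P : Sylow p G) :
    Subgroup.normalizer (Cfsg.centerThompsonAOf (P : Subgroup G) : Set G) ≠ ⊤ := by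
  intro htop
  have hnormal : (Cfsg.centerThompsonAOf (P : Subgroup G)).Normal :=
    Subgroup.normalizer_eq_top_iff.1 htop
  have hsimple := H.simple
  rcases hnormal.eq_bot_or_eq_top with hb | ht
  · exact zj_ne_bot H P hb
  · -- then P = ⊤ and an element of order r is a p-element
    have hPtop : (P : Subgroup G) = ⊤ := by
      rw [eq_top_iff, ← ht]
      exact Cfsg.Agent.Lib.Helper1.ZJ.centerThompsonAOf_le _
    obtain ⟨y, hy⟩ := H.exr
    have hyP : y ∈ (P : Subgroup G) := by rw [hPtop]; exact Subgroup.mem_top y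
    obtain ⟨k, hk⟩ := (IsPGroup.iff_orderOf.1 P.isPGroup') ⟨y, hyP⟩
    rw [Subgroup.orderOf_mk, hy] at hk
    have hp : p.Prime := Fact.out
    have : r = p := (Nat.prime_dvd_prime_iff_eq H.hr hp).1
      (Nat.Prime.dvd_of_dvd_pow H.hr (dvd_of_eq hk))
    exact H.hpr this.symm

-- F4
theorem odd_F4 (H : OddPQ G p q r) [Fact p.Prime] (P : Sylow p G)
    (h2 : ∀ x : G, orderOf x = p → Case2 q x) :
    ¬ r ∣ Nat.card (Subgroup.normalizer (Cfsg.centerThompsonAOf (P : Subgroup G) : Set G)) := by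
  intro hr
  have hp : p.Prime := Fact.out
  obtain ⟨z, hz, hz1, hzo, hzc⟩ := oddPQ_exists_central H P
  have hzN : z ∈ Subgroup.normalizer (Cfsg.centerThompsonAOf (P : Subgroup G) : Set G) :=
    le_normalizer_zj _ hz
  have hCz := odd_F1 H P h2 z hz hz1 hzc
  -- y of order q commuting with z
  have hcom := (Cfsg.Agent.Lib.Helper4.AO.odd_one_le_com H).1 z hzo
  unfold com at hcom
  have hne : Nonempty {y : G // orderOf y = q ∧ y * z = z * y} := by
    by_contra hcon
    rw [not_nonempty_iff] at hcon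
    rw [Nat.card_of_isEmpty] at hcom
    omega
  obtain ⟨⟨y, hyo, hyz⟩⟩ := hne
  have hyC : y ∈ Subgroup.centralizer ({z} : Set G) := by
    rw [Subgroup.mem_centralizer_singleton_iff]
    exact hyz
  have hzyo : orderOf (z * y) = p * q := by
    have hcomm : Commute z y := hyz.symm
    rw [hcomm.orderOf_mul_eq_mul_orderOf_of_coprime, hzo, hyo]
    rw [hzo, hyo]
    exact (Nat.coprime_primes hp H.hq).2 H.hpq
  have hzyC : z * y ∈ Subgroup.centralizer ({z} : Set G) := by
    rw [Subgroup.mem_centralizer_singleton_iff]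
    rw [mul_assoc, hyz, ← mul_assoc]
  -- element of order r in N by Cauchy
  have hfr : Fact r.Prime := ⟨H.hr⟩
  obtain ⟨⟨m, hmN⟩, hmo⟩ := exists_prime_orderOf_dvd_card' r hr
  rw [Subgroup.orderOf_mk] at hmo
  refine toolU H.aut (Cfsg.centerThompsonAOf (P : Subgroup G)) ?_ (zj_normalizer_ne_top H P) ?_
  · intro α
    obtain ⟨g, hg, -⟩ := zj_map_aut P α
    exact ⟨g, hg⟩
  · intro w hw
    rcases H.spec w with h1 | h1 | h1 | h1 | h1
    · exact absurd (orderOf_eq_one_iff.1 h1) hw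
    · exact ⟨z, hzN, by rw [hzo, h1]⟩
    · exact ⟨y, hCz hyC, by rw [hyo, h1]⟩
    · exact ⟨m, hmN, by rw [hmo, h1]⟩
    · exact ⟨z * y, hCz hzyC, by rw [hzyo, h1]⟩

end Cfsg.Agent.Lib.Helper6.AO
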