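import Mathlib
import Cfsg.Prelude.Def_PLocal
import Cfsg.Prelude.Def_Solvable
import Cfsg.Agent.Lib.Helper1.AODefs
import Cfsg.Agent.Lib.Helper1.AOF0
import Cfsg.Agent.Lib.Helper1.AOF1
import Cfsg.Agent.Lib.Helper1.AOF3
import Cfsg.Agent.Lib.Helper9.StronglyEmbedded
import Cfsg.Agent.Lib.Helper6.AOF4

/-!
# S3406 (odd case), piece F5: in type F, `N_G(Z(J(P)))` normalizes `P` and `P` is abelian.
-/

set_option autoImplicit false

open Cfsg.Agent.Lib.Helper1.AO

universe u

namespace Cfsg.Agent.Lib.Helper6.AO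

variable {G : Type u} [Group G] [Finite G] {p q r : ℕ}

/-- the `p`-core of a subgroup `N`, inside `G`. -/
noncomputable def coreIn (p : ℕ) (N : Subgroup G) : Subgroup G :=
  (Cfsg.pCore p ↥N).map N.subtype

theorem coreIn_isPGroup (p : ℕ) (N : Subgroup G) : IsPGroup p (coreIn p N) :=
  IsPGroup.map (Cfsg.Agent.Lib.Helper9.pCore_isPGroup' p ↥N) N.subtype

theorem coreIn_le (p : ℕ) (N : Subgroup G) : coreIn p N ≤ N := Subgroup.map_subtype_le _

theorem coreIn_conj (p : ℕ) (N : Subgroup G) (n : G) (hn : n ∈ N) (x : G) (hx : x ∈ coreIn p N) :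
    n * x * n⁻¹ ∈ coreIn p N := by
  obtain ⟨y, hy, rfl⟩ := hx
  have hnorm := Cfsg.Agent.Lib.Helper9.pCore_normal' p ↥N
  exact ⟨(⟨n, hn⟩ : N) * y * (⟨n, hn⟩ : N)⁻¹, hnorm.conj_mem y hy ⟨n, hn⟩, rfl⟩

theorem le_coreIn (p : ℕ) (N K : Subgroup G) (hKN : K ≤ N) (hK : IsPGroup p K)
    (hn : ∀ n ∈ N, ∀ x ∈ K, n * x * n⁻¹ ∈ K) : K ≤ coreIn p N := by
  have hnormal : (K.subgroupOf N).Normal := by
    constructor
    intro x hx n
    rw [Subgroup.mem_subgroupOf] at hx ⊢
    exact hn n n.2 x hx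
  have hp : IsPGroup p (K.subgroupOf N) := by
    have : K.subgroupOf N = K.comap N.subtype := rfl
    rw [this]
    exact hK.comap_subtype
  have hle := Cfsg.Agent.Lib.Helper9.le_pCore' hnormal hp
  intro x hx
  exact ⟨⟨x, hKN hx⟩, hle (by rw [Subgroup.mem_subgroupOf]; exact hx), rfl⟩

/-- an automorphism stabilising `N` maps the `p`-core of `N` into itself. -/
theorem coreIn_map_le (p : ℕ) (N : Subgroup G) (α : MulAut G)
    (hN : N.map α.toMonoidHom = N) : (coreIn p N).map α.toMonoidHom ≤ coreIn p N := by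
  apply le_coreIn
  · exact (Subgroup.map_mono (coreIn_le p N)).trans hN.le
  · exact IsPGroup.map (coreIn_isPGroup p N) _
  · intro n hn x hx
    have hn' : n ∈ N.map α.toMonoidHom := by rw [hN]; exact hn
    obtain ⟨m, hm, rfl⟩ := hn'
    obtain ⟨y, hy, rfl⟩ := hx
    refine ⟨m * y * m⁻¹, coreIn_conj p N m hm y hy, ?_⟩
    simp

/-- Lemma A: an automorphism sending an element of order `p` of `N` into `N` stabilises `N`. -/
theorem normalizer_zj_map_eq (H : OddPQ G p q r) [Fact p.Prime] (P : Sylow p G)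
    (h2 : ∀ x : G, orderOf x = p → Case2 q x) (α : MulAut G) (x₁ : G) (hx₁o : orderOf x₁ = p)
    (hx₁ : x₁ ∈ Subgroup.normalizer (Cfsg.centerThompsonAOf (P : Subgroup G) : Set G))
    (hαx : α x₁ ∈ Subgroup.normalizer (Cfsg.centerThompsonAOf (P : Subgroup G) : Set G)) :
    (Subgroup.normalizer (Cfsg.centerThompsonAOf (P : Subgroup G) : Set G)).map α.toMonoidHom =
      Subgroup.normalizer (Cfsg.centerThompsonAOf (P : Subgroup G) : Set G) := by
  obtain ⟨g, hg, -⟩ := zj_map_aut P α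
  have h1 := Subgroup.map_equiv_normalizer_eq (Cfsg.centerThompsonAOf (P : Subgroup G)) α
  have h3 := Subgroup.map_equiv_normalizer_eq (Cfsg.centerThompsonAOf (P : Subgroup G))
    (MulAut.conj g)
  have h4 : (Subgroup.normalizer (Cfsg.centerThompsonAOf (P : Subgroup G) : Set G)).map
      α.toMonoidHom =
      (Subgroup.normalizer (Cfsg.centerThompsonAOf (P : Subgroup G) : Set G)).map
      (MulAut.conj g).toMonoidHom := by
    rw [h1, h3, hg]
  -- α x₁ ∈ N.map (conj g)
  have h5 : α x₁ ∈ (Subgroup.normalizer (Cfsg.centerThompsonAOf (P : Subgroup G) : Set G)).map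
      (MulAut.conj g).toMonoidHom := by
    rw [← h4]
    exact ⟨x₁, hx₁, rfl⟩
  obtain ⟨y, hy, hyx⟩ := h5
  have hyx' : g * y * g⁻¹ = α x₁ := hyx
  have hyo : orderOf y = p := by
    have : orderOf (α x₁) = orderOf x₁ := MulEquiv.orderOf_eq α x₁
    rw [← hx₁o, ← this, ← hyx']
    exact (MulEquiv.orderOf_eq (MulAut.conj g) y).symm
  have hgN : g ∈ Subgroup.normalizer (Cfsg.centerThompsonAOf (P : Subgroup G) : Set G) :=
    odd_F3 H P h2 y hyo g hy (by rw [hyx']; exact hαx)
  rw [h4]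
  ext w
  constructor
  · rintro ⟨v, hv, rfl⟩
    exact Subgroup.mul_mem _ (Subgroup.mul_mem _ hgN hv) (Subgroup.inv_mem _ hgN)
  · intro hw
    refine ⟨g⁻¹ * w * g, ?_, ?_⟩
    · exact Subgroup.mul_mem _ (Subgroup.mul_mem _ (Subgroup.inv_mem _ hgN) hw) hgN
    · show g * (g⁻¹ * w * g) * g⁻¹ = w
      group

-- F5
theorem odd_F5 (H : OddPQ G p q r) [Fact p.Prime] (P : Sylow p G)
    (h2 : ∀ x : G, orderOf x = p → Case2 q x) :
    (∀ n ∈ Subgroup.normalizer (Cfsg.centerThompsonAOf (P : Subgroup G) : Set G),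
      ∀ x ∈ (P : Subgroup G), n * x * n⁻¹ ∈ (P : Subgroup G)) ∧
    ∀ a ∈ (P : Subgroup G), ∀ b ∈ (P : Subgroup G), a * b = b * a := by
  classical
  have hp : p.Prime := Fact.out
  obtain ⟨N, hNdef⟩ : ∃ N : Subgroup G,
      N = Subgroup.normalizer (Cfsg.centerThompsonAOf (P : Subgroup G) : Set G) := ⟨_, rfl⟩
  rw [← hNdef]
  have hPN : (P : Subgroup G) ≤ N := by rw [hNdef]; exact le_normalizer_zj _
  have hWP : Cfsg.centerThompsonAOf (P : Subgroup G) ≤ (P : Subgroup G) :=
    Cfsg.Agent.Lib.Helper1.ZJ.centerThompsonAOf_le _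
  -- elements of P
  have hPo : ∀ x ∈ (P : Subgroup G), x ≠ 1 → orderOf x = p := fun x hx hx1 =>
    orderOf_eq_prime (odd_exp_p H P x hx) hx1
  -- W ≤ O
  have hWO : Cfsg.centerThompsonAOf (P : Subgroup G) ≤ coreIn p N := by
    apply le_coreIn
    · exact hWP.trans hPN
    · exact P.isPGroup'.to_le hWP
    · intro n hn x hx
      rw [hNdef, Subgroup.mem_normalizer_iff] at hn
      exact (hn x).1 hx
  -- x₁ ∈ W of order p
  obtain ⟨x₁, hx₁1⟩ := (Subgroup.ne_bot_iff_exists_ne_one).1 (zj_ne_bot H P)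
  have hx₁1' : (x₁ : G) ≠ 1 := fun h => hx₁1 (Subtype.ext h)
  have hx₁o : orderOf (x₁ : G) = p := hPo _ (hWP x₁.2) hx₁1'
  have hx₁N : (x₁ : G) ∈ N := hPN (hWP x₁.2)
  -- key: automorphisms moving an order-p element of N into N stabilise N
  have hkey : ∀ (α : MulAut G) (x : G), orderOf x = p → x ∈ N → α x ∈ N →
      N.map α.toMonoidHom = N := by
    intro α x hxo hx hαx
    rw [hNdef] at hx hαx ⊢
    exact normalizer_zj_map_eq H P h2 α x hxo hx hαx
  -- every element of order p of N lies in O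
  have hall : ∀ x' ∈ N, orderOf x' = p → x' ∈ coreIn p N := by
    intro x' hx'N hx'o
    obtain ⟨α, hα⟩ := H.aut (x₁ : G) x' (hx₁o.trans hx'o.symm)
    have hNα := hkey α x₁ hx₁o hx₁N (by rw [hα]; exact hx'N)
    apply coreIn_map_le p N α hNα
    exact ⟨x₁, hWO x₁.2, hα⟩
  have hPO : (P : Subgroup G) ≤ coreIn p N := by
    intro x hx
    by_cases hx1 : x = 1
    · rw [hx1]; exact Subgroup.one_mem _
    · exact hall x (hPN hx) (hPo x hx hx1)
  have hOP : coreIn p N = (P : Subgroup G) := P.is_maximal' (coreIn_isPGroup p N) hPO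
  refine ⟨?_, ?_⟩
  · intro n hn x hx
    rw [← hOP] at hx ⊢
    exact coreIn_conj p N n hn x hx
  · -- abelian
    obtain ⟨z, hz, hz1, hzo, hzc⟩ := oddPQ_exists_central H P
    have hcentral : ∀ x' ∈ (P : Subgroup G), ∀ b ∈ (P : Subgroup G), b * x' = x' * b := by
      intro x' hx' b hb
      by_cases hx'1 : x' = 1
      · rw [hx'1, one_mul, mul_one]
      obtain ⟨α, hα⟩ := H.aut z x' (hzo.trans (hPo x' hx' hx'1).symm)
      have hNα := hkey α z hzo (hPN hz) (by rw [hα]; exact hPN hx')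
      have hle : (P : Subgroup G).map α.toMonoidHom ≤ (P : Subgroup G) := by
        have := coreIn_map_le p N α hNα
        rw [hOP] at this
        exact this
      have heq : (P : Subgroup G).map α.toMonoidHom = (P : Subgroup G) := by
        apply Subgroup.eq_of_le_of_card_ge hle
        rw [Subgroup.card_map_of_injective α.injective]
      have hb' : b ∈ (P : Subgroup G).map α.toMonoidHom := by rw [heq]; exact hb
      obtain ⟨b', hb'P, rfl⟩ := hb'
      rw [← hα]
      show α b' * α z = α z * α b'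
      rw [← map_mul, ← map_mul, hzc b' hb'P]
    intro a ha b hb
    exact hcentral b hb a ha

end Cfsg.Agent.Lib.Helper6.AO
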