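import Mathlib

/-!
# S3406 (odd case), piece L1c, part A: norm maps `nrm l b v = ∏_{t<l} b^t v` of automorphisms of a
finite abelian group and the identity `∏_{j<l} nrm (a z^j) v = v^l`.
-/

set_option autoImplicit false

universe u

namespace Cfsg.Agent.Lib.Helper6.AO

variable {V : Type u} [CommGroup V]

/-- the norm of `v` under the automorphism `b` (of order dividing `l`). -/
noncomputable def nrm (l : ℕ) (b : MulAut V) (v : V) : V := ∏ t ∈ Finset.range l, (b ^ t) v

theorem aut_zpow_fixed {b : MulAut V} {u : V} (h : b u = u) (s : ℤ) : (b ^ s) u = u := by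
  have hb : b ∈ MulAction.stabilizer (MulAut V) u := by
    rw [MulAction.mem_stabilizer_iff]; exact h
  have := Subgroup.zpow_mem _ hb s
  rw [MulAction.mem_stabilizer_iff] at this
  exact this

theorem aut_pow_fixed {b : MulAut V} {u : V} (h : b u = u) (s : ℕ) : (b ^ s) u = u := by
  have := aut_zpow_fixed h (s : ℤ)
  rwa [zpow_natCast] at this

theorem nrm_fixed {l : ℕ} {b : MulAut V} (hb : b ^ l = 1) (v : V) : b (nrm l b v) = nrm l b v := by
  unfold nrm
  rw [map_prod]
  have h1 : ∀ t ∈ Finset.range l, b ((b ^ t) v) = (b ^ (t + 1)) v := by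
    intro t _
    rw [pow_succ', MulAut.mul_apply]
  rw [Finset.prod_congr rfl h1]
  have e1 := Finset.prod_range_succ' (fun t => (b ^ t) v) l
  have e2 := Finset.prod_range_succ (fun t => (b ^ t) v) l
  simp only [hb, pow_zero] at e1 e2
  rw [e1] at e2
  exact mul_right_cancel e2

theorem nrm_of_fixed {l : ℕ} {b : MulAut V} {w : V} (h : b w = w) : nrm l b w = w ^ l := by
  unfold nrm
  rw [Finset.prod_congr rfl (fun t _ => aut_pow_fixed h t), Finset.prod_const, Finset.card_range]

theorem nrm_mul (l : ℕ) (b : MulAut V) (v w : V) : nrm l b (v * w) = nrm l b v * nrm l b w := by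
  unfold nrm
  rw [← Finset.prod_mul_distrib]
  exact Finset.prod_congr rfl (fun t _ => map_mul _ _ _)

theorem nrm_one_right (l : ℕ) (b : MulAut V) : nrm l b 1 = 1 := by
  unfold nrm
  exact Finset.prod_eq_one (fun t _ => map_one _)

theorem map_nrm (l : ℕ) (φ b : MulAut V) (v : V) :
    φ (nrm l b v) = nrm l (φ * b * φ⁻¹) (φ v) := by
  unfold nrm
  rw [map_prod]
  apply Finset.prod_congr rfl
  intro t _
  rw [conj_pow, MulAut.mul_apply, MulAut.mul_apply, MulAut.inv_apply_self]

theorem nrm_comm (l : ℕ) {c b : MulAut V} (h : c * b = b * c) (v : V) :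
    c (nrm l b v) = nrm l b (c v) := by
  rw [map_nrm]
  have : c * b * c⁻¹ = b := by rw [h, mul_inv_cancel_right]
  rw [this]

/-- `l`-th roots are unique in a finite abelian group of order prime to `l`. -/
theorem pow_inj_of_coprime [Finite V] {l : ℕ} (hVl : (Nat.card V).Coprime l) {x y : V}
    (h : x ^ l = y ^ l) : x = y :=
  (Nat.Coprime.pow_left_bijective hVl).injective h

/-- in any group: if `x^l = 1` and `t` is prime to `l`, then `x` is a power of `x^t`. -/
theorem exists_zpow_zpow_eq {M : Type*} [Group M] {l : ℕ} {x : M} (hx : x ^ l = 1) (t : ℤ)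
    (ht : IsCoprime t (l : ℤ)) : ∃ s : ℤ, (x ^ t) ^ s = x := by
  obtain ⟨A, B, hAB⟩ := ht
  refine ⟨A, ?_⟩
  have h1 : x ^ (t * A + (l : ℤ) * B) = x := by
    have : t * A + (l : ℤ) * B = 1 := by rw [← hAB]; ring
    rw [this, zpow_one]
  rw [zpow_add, zpow_mul, zpow_mul, zpow_natCast, hx, one_zpow, mul_one] at h1
  exact h1

/-- in any group: if `x^l = 1` with `l` prime and `x^t ≠ 1`, then `x` is a power of `x^t`. -/
theorem exists_zpow_zpow_eq_of_ne_one {M : Type*} [Group M] {l : ℕ} (hl : l.Prime) {x : M}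
    (hx : x ^ l = 1) (t : ℤ) (hne : x ^ t ≠ 1) : ∃ s : ℤ, (x ^ t) ^ s = x := by
  apply exists_zpow_zpow_eq hx
  have hnd : ¬ (l : ℤ) ∣ t := by
    rintro ⟨c, rfl⟩
    apply hne
    rw [zpow_mul, zpow_natCast, hx, one_zpow]
  have hprime : Prime (l : ℤ) := Nat.prime_iff_prime_int.1 hl
  exact ((Prime.coprime_iff_not_dvd hprime).2 hnd).symm

/-- the main identity: if `z` (commuting with `a`, `z^l = 1`) fixes no nontrivial element, then
`∏_{j<l} nrm (a z^j) v = v^l`. -/
theorem prod_nrm_eq_pow {l : ℕ} (hl : l.Prime) {a z : MulAut V} (haz : a * z = z * a)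
    (hz : z ^ l = 1) (hzfix : ∀ u : V, z u = u → u = 1) (v : V) :
    ∏ j ∈ Finset.range l, nrm l (a * z ^ j) v = v ^ l := by
  have hcomm : Commute a z := haz
  unfold nrm
  rw [Finset.prod_comm]
  -- inner product over j for fixed t
  have hinner : ∀ t ∈ Finset.range l,
      ∏ j ∈ Finset.range l, ((a * z ^ j) ^ t) v = (a ^ t) (nrm l (z ^ t) v) := by
    intro t _
    unfold nrm
    rw [map_prod]
    apply Finset.prod_congr rfl
    intro j _
    rw [(hcomm.pow_right j).mul_pow, MulAut.mul_apply, ← pow_mul, ← pow_mul, mul_comm j t]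
  rw [Finset.prod_congr rfl hinner]
  rw [Finset.prod_eq_single_of_mem 0 (Finset.mem_range.2 hl.pos)]
  · rw [pow_zero, pow_zero, MulAut.one_apply]
    exact nrm_of_fixed (MulAut.one_apply _ v)
  · intro t ht ht0
    have htl : t < l := Finset.mem_range.1 ht
    have hfix : (z ^ t) (nrm l (z ^ t) v) = nrm l (z ^ t) v := by
      apply nrm_fixed
      rw [← pow_mul, mul_comm, pow_mul, hz, one_pow]
    have hcop : IsCoprime (t : ℤ) (l : ℤ) := by
      rw [Nat.isCoprime_iff_coprime]
      exact ((Nat.Prime.coprime_iff_not_dvd hl).2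
        (Nat.not_dvd_of_pos_of_lt (Nat.pos_of_ne_zero ht0) htl)).symm
    obtain ⟨s, hs⟩ := exists_zpow_zpow_eq hz (t : ℤ) hcop
    rw [zpow_natCast] at hs
    have hzf : z (nrm l (z ^ t) v) = nrm l (z ^ t) v := by
      have h3 := aut_zpow_fixed hfix s
      rw [hs] at h3
      exact h3
    rw [hzfix _ hzf, map_one]

end Cfsg.Agent.Lib.Helper6.AO
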