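import Mathlib
import Cfsg.Agent.Lib.Helper6.AOL1cA

/-!
# S3406 (odd case), piece L1c, part B: structure of `B ≅ Z_l × Z_l` and the dichotomy for the fixed
point sets of the elements of `B` outside `⟨z⟩`.
-/

set_option autoImplicit false

universe u

namespace Cfsg.Agent.Lib.Helper6.AO

variable {V : Type u} [CommGroup V] [Finite V]

/-- the common hypotheses of piece L1c, with the central element `z` chosen. -/
structure L1cSetup (l : ℕ) (L B : Subgroup (MulAut V)) (z : MulAut V) : Prop where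
  hl : l.Prime
  hl2 : l ≠ 2
  hVl : (Nat.card V).Coprime l
  hL : IsPGroup l L
  hBL : B ≤ L
  hBn : ∀ φ ∈ L, ∀ b ∈ B, φ * b * φ⁻¹ ∈ B
  hBab : ∀ a ∈ B, ∀ b ∈ B, a * b = b * a
  hBexp : ∀ b ∈ B, b ^ l = 1
  hBcard : Nat.card B = l ^ 2
  hzB : z ∈ B
  hz1 : z ≠ 1
  hzc : ∀ φ ∈ L, φ * z = z * φ
  hzfix : ∀ u : V, z u = u → u = 1

namespace L1cSetup

variable {l : ℕ} {L B : Subgroup (MulAut V)} {z : MulAut V}

theorem hzl (S : L1cSetup l L B z) : z ^ l = 1 := S.hBexp z S.hzB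

theorem card_zpowers (S : L1cSetup l L B z) : Nat.card (Subgroup.zpowers z) = l := by
  rw [Nat.card_zpowers]
  have hf : Fact l.Prime := ⟨S.hl⟩
  exact orderOf_eq_prime S.hzl S.hz1

/-- structure lemma: every element of `B` is `b^s z^t` for any fixed `b ∈ B ∖ ⟨z⟩`. -/
theorem exists_zpow_mul_zpow (S : L1cSetup l L B z) {b : MulAut V} (hb : b ∈ B)
    (hbz : b ∉ Subgroup.zpowers z) {b' : MulAut V} (hb' : b' ∈ B) :
    ∃ s t : ℤ, b' = b ^ s * z ^ t := by
  classical
  -- the subgroup D of all b^s z^t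
  have hcomm : Commute b z := S.hBab b hb z S.hzB
  let D : Subgroup (MulAut V) :=
    { carrier := {x | ∃ s t : ℤ, x = b ^ s * z ^ t}
      one_mem' := ⟨0, 0, by simp⟩
      mul_mem' := by
        rintro x y ⟨s, t, rfl⟩ ⟨s', t', rfl⟩
        refine ⟨s + s', t + t', ?_⟩
        rw [zpow_add, zpow_add]
        have h1 : Commute (z ^ t) (b ^ s') := (hcomm.zpow_zpow s' t).symm
        calc b ^ s * z ^ t * (b ^ s' * z ^ t') = b ^ s * (z ^ t * b ^ s') * z ^ t' := by
              simp only [mul_assoc]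
          _ = b ^ s * (b ^ s' * z ^ t) * z ^ t' := by rw [h1.eq]
          _ = b ^ s * b ^ s' * (z ^ t * z ^ t') := by simp only [mul_assoc]
      inv_mem' := by
        rintro x ⟨s, t, rfl⟩
        refine ⟨-s, -t, ?_⟩
        rw [mul_inv_rev, zpow_neg, zpow_neg]
        exact ((hcomm.zpow_zpow s t).inv_inv).symm.eq }
  have hDB : D ≤ B := by
    rintro x ⟨s, t, rfl⟩
    exact Subgroup.mul_mem _ (Subgroup.zpow_mem _ hb s) (Subgroup.zpow_mem _ S.hzB t)
  have hZD : Subgroup.zpowers z ≤ D := by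
    rw [Subgroup.zpowers_le]
    exact ⟨0, 1, by simp⟩
  have hbD : b ∈ D := ⟨1, 0, by simp⟩
  -- cardinalities
  have h1 : Nat.card D ∣ l ^ 2 := by
    rw [← S.hBcard]; exact Subgroup.card_dvd_of_le hDB
  have h2 : l ∣ Nat.card D := by
    rw [← S.card_zpowers]; exact Subgroup.card_dvd_of_le hZD
  have h3 : Nat.card D ≠ l := by
    intro h
    have : Subgroup.zpowers z = D := by
      apply Subgroup.eq_of_le_of_card_ge hZD
      rw [S.card_zpowers, h]
    exact hbz (by rw [this]; exact hbD)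
  obtain ⟨i, hi, hDi⟩ := (Nat.dvd_prime_pow S.hl).1 h1
  have hD2 : Nat.card D = l ^ 2 := by
    have hi' : i = 0 ∨ i = 1 ∨ i = 2 := by omega
    rcases hi' with rfl | rfl | rfl
    · rw [hDi, pow_zero] at h2
      exact absurd (Nat.dvd_one.1 h2) S.hl.one_lt.ne'
    · rw [pow_one] at hDi; exact absurd hDi h3
    · exact hDi
  have hDeq : D = B := by
    apply Subgroup.eq_of_le_of_card_ge hDB
    rw [S.hBcard, hD2]
  have : b' ∈ D := by rw [hDeq]; exact hb'
  exact this

/-- there is an element of `B` outside `⟨z⟩`. -/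
theorem exists_not_mem_zpowers (S : L1cSetup l L B z) : ∃ a ∈ B, a ∉ Subgroup.zpowers z := by
  by_contra hcon
  have hle : B ≤ Subgroup.zpowers z := by
    intro x hx
    by_contra hxz
    exact hcon ⟨x, hx, hxz⟩
  have := Subgroup.card_le_of_le hle
  rw [S.hBcard, S.card_zpowers] at this
  have h2 := S.hl.one_lt
  nlinarith

/-- a fixed point of a nontrivial power of `z` is trivial. -/
theorem eq_one_of_zpow_fixed (S : L1cSetup l L B z) (t : ℤ) (hne : z ^ t ≠ 1) {u : V}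
    (hu : (z ^ t) u = u) : u = 1 := by
  obtain ⟨s, hs⟩ := exists_zpow_zpow_eq_of_ne_one S.hl S.hzl t hne
  apply S.hzfix
  have := aut_zpow_fixed hu s
  rw [hs] at this
  exact this

/-- half of the dichotomy. -/
theorem fixed_imp_or (S : L1cSetup l L B z) {b b' : MulAut V} (hb : b ∈ B)
    (hbz : b ∉ Subgroup.zpowers z) (hb' : b' ∈ B) :
    (∀ u : V, b u = u → b' u = u → u = 1) ∨ (∀ u : V, b u = u → b' u = u) := by
  obtain ⟨s, t, hst⟩ := S.exists_zpow_mul_zpow hb hbz hb'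
  by_cases hzt : z ^ t = 1
  · right
    intro u hu
    rw [hst, hzt, mul_one]
    exact aut_zpow_fixed hu s
  · left
    intro u hu hu'
    apply S.eq_one_of_zpow_fixed t hzt
    have h1 : z ^ t = (b ^ s)⁻¹ * b' := by rw [hst, inv_mul_cancel_left]
    rw [h1, MulAut.mul_apply, hu', ← zpow_neg]
    exact aut_zpow_fixed hu (-s)

/-- the dichotomy: the fixed point sets of `b, b' ∈ B ∖ ⟨z⟩` are equal or meet trivially. -/
theorem fixed_dichotomy (S : L1cSetup l L B z) {b b' : MulAut V} (hb : b ∈ B)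
    (hbz : b ∉ Subgroup.zpowers z) (hb' : b' ∈ B) (hbz' : b' ∉ Subgroup.zpowers z) :
    (∀ u : V, b u = u → b' u = u → u = 1) ∨ (∀ u : V, b u = u ↔ b' u = u) := by
  rcases S.fixed_imp_or hb hbz hb' with h | h
  · exact Or.inl h
  rcases S.fixed_imp_or hb' hbz' hb with h' | h'
  · exact Or.inl (fun u hu hu' => h' u hu' hu)
  · exact Or.inr (fun u => ⟨h u, h' u⟩)

/-- conjugates by `L` of elements of `B ∖ ⟨z⟩` stay in `B ∖ ⟨z⟩`. -/
theorem conj_not_mem_zpowers (S : L1cSetup l L B z) {φ : MulAut V} (hφ : φ ∈ L) {b : MulAut V}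
    (hbz : b ∉ Subgroup.zpowers z) : φ * b * φ⁻¹ ∉ Subgroup.zpowers z := by
  intro h
  apply hbz
  obtain ⟨t, ht⟩ := Subgroup.mem_zpowers_iff.1 h
  have hcomm : Commute φ z := S.hzc φ hφ
  have h1 : b = φ⁻¹ * (φ * b * φ⁻¹) * φ := by group
  rw [h1, ← ht]
  have h2 : φ⁻¹ * z ^ t * φ = z ^ t := by
    have := (hcomm.zpow_right t).eq
    rw [mul_assoc, ← this, inv_mul_cancel_left]
  rw [h2]
  exact Subgroup.zpow_mem_zpowers z t

/-- elements of `L` have odd order: a fixed point of `φ^2` is a fixed point of `φ`. -/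
theorem fixed_of_sq_fixed (S : L1cSetup l L B z) {φ : MulAut V} (hφ : φ ∈ L) {w : V}
    (h : φ (φ w) = w) : φ w = w := by
  obtain ⟨n, hn⟩ := S.hL ⟨φ, hφ⟩
  have hn' : φ ^ (l ^ n) = 1 := by
    have := congrArg Subtype.val hn
    simpa using this
  have hodd : Odd (l ^ n) := Odd.pow (S.hl.odd_of_ne_two S.hl2)
  obtain ⟨m, hm⟩ := hodd
  have h2 : (φ ^ 2) w = w := by rw [pow_two, MulAut.mul_apply]; exact h
  have h3 := aut_pow_fixed h2 (m + 1)
  have h4 : (φ ^ 2) ^ (m + 1) = φ := by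
    rw [← pow_mul]
    have : 2 * (m + 1) = l ^ n + 1 := by omega
    rw [this, pow_succ, hn', one_mul]
  rw [h4] at h3
  exact h3

end L1cSetup

end Cfsg.Agent.Lib.Helper6.AO
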