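import Mathlib
import Cfsg.Agent.Lib.Helper6.AOL1cB

/-!
# S3406 (odd case), piece L1c, part C: the pair lemma and `k = 1` from the setup.
-/

set_option autoImplicit false

universe u

namespace Cfsg.Agent.Lib.Helper6.AO

variable {V : Type u} [CommGroup V] [Finite V]

/-- the stabiliser of `v` in `L`, as a subgroup. -/
def stabIn (L : Subgroup (MulAut V)) (v : V) : Subgroup (MulAut V) :=
  L ⊓ MulAction.stabilizer (MulAut V) v

omit [Finite V] in
theorem mem_stabIn {L : Subgroup (MulAut V)} {v : V} {φ : MulAut V} :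
    φ ∈ stabIn L v ↔ φ ∈ L ∧ φ v = v := by
  unfold stabIn
  rw [Subgroup.mem_inf, MulAction.mem_stabilizer_iff]
  exact Iff.rfl

omit [Finite V] in
theorem card_stabIn (L : Subgroup (MulAut V)) (v : V) :
    Nat.card (stabIn L v) = Nat.card {φ : MulAut V // φ ∈ L ∧ φ v = v} :=
  Nat.card_congr (Equiv.subtypeEquivRight (fun _ => mem_stabIn))

namespace L1cSetup

variable {l : ℕ} {L B : Subgroup (MulAut V)} {z : MulAut V}

/-- the core of the pair lemma. -/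
theorem fix_both (S : L1cSetup l L B z) {b b' : MulAut V} (hb : b ∈ B)
    (hbz : b ∉ Subgroup.zpowers z) (hb' : b' ∈ B) (hbz' : b' ∉ Subgroup.zpowers z) {w w' : V}
    (hw1 : w ≠ 1) (hbw : b w = w) (hbw' : b' w' = w')
    (hdisj : ∀ u : V, b u = u → b' u = u → u = 1) {φ : MulAut V} (hφ : φ ∈ L)
    (hφw : φ (w * w') = w * w') : φ w = w ∧ φ w' = w' := by
  obtain ⟨b'', hb''def⟩ : ∃ b'' : MulAut V, b'' = φ * b * φ⁻¹ := ⟨_, rfl⟩
  have hb'' : b'' ∈ B := by rw [hb''def]; exact S.hBn φ hφ b hb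
  have hbz'' : b'' ∉ Subgroup.zpowers z := by rw [hb''def]; exact S.conj_not_mem_zpowers hφ hbz
  have hbl : b ^ l = 1 := S.hBexp b hb
  have hb''l : b'' ^ l = 1 := S.hBexp b'' hb''
  have hn1 : nrm l b w' = 1 :=
    hdisj _ (nrm_fixed hbl w') (by rw [nrm_comm l (S.hBab b' hb' b hb) w', hbw'])
  have hkey : (φ w) ^ l = nrm l b'' w * nrm l b'' w' := by
    have h1 : nrm l b (w * w') = w ^ l := by rw [nrm_mul, nrm_of_fixed hbw, hn1, mul_one]
    have h2 := map_nrm l φ b (w * w')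
    rw [h1, hφw, ← hb''def, nrm_mul, map_pow] at h2
    exact h2
  rcases S.fixed_dichotomy hb'' hbz'' hb hbz with hd | hs
  · have hx : nrm l b'' w = 1 :=
      hd _ (nrm_fixed hb''l w) (by rw [nrm_comm l (S.hBab b hb b'' hb'') w, hbw])
    rcases S.fixed_dichotomy hb'' hbz'' hb' hbz' with hd' | hs'
    · have hy : nrm l b'' w' = 1 :=
        hd' _ (nrm_fixed hb''l w') (by rw [nrm_comm l (S.hBab b' hb' b'' hb'') w', hbw'])
      rw [hx, hy, mul_one] at hkey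
      have h1 : φ w = 1 := pow_inj_of_coprime S.hVl (by rw [hkey, one_pow])
      exact absurd ((MulEquiv.map_eq_one_iff φ).1 h1) hw1
    · have hy : nrm l b'' w' = w' ^ l := nrm_of_fixed ((hs' w').2 hbw')
      rw [hx, hy, one_mul] at hkey
      have hφw' : φ w = w' := pow_inj_of_coprime S.hVl hkey
      have h3 : φ w' = w := by
        rw [map_mul, hφw'] at hφw
        have : w' * φ w' = w' * w := by rw [hφw, mul_comm]
        exact mul_left_cancel this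
      have h4 : φ (φ w) = w := by rw [hφw', h3]
      have h5 := S.fixed_of_sq_fixed hφ h4
      have hww' : w' = w := hφw'.symm.trans h5
      rw [hww'] at hbw'
      exact absurd (hdisj w hbw hbw') hw1
  · have hx : nrm l b'' w = w ^ l := nrm_of_fixed ((hs w).2 hbw)
    have hy : nrm l b'' w' = 1 := by
      apply hdisj
      · exact (hs _).1 (nrm_fixed hb''l w')
      · rw [nrm_comm l (S.hBab b' hb' b'' hb'') w', hbw']
    rw [hx, hy, mul_one] at hkey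
    have h1 : φ w = w := pow_inj_of_coprime S.hVl hkey
    refine ⟨h1, ?_⟩
    rw [map_mul, h1] at hφw
    exact mul_left_cancel hφw

/-- the pair lemma: for nontrivial `w, w'` fixed by `b, b' ∈ B ∖ ⟨z⟩` with trivially meeting fixed
point sets, the stabilisers of `w` and `w'` in `L` coincide. -/
theorem stab_iff (S : L1cSetup l L B z) (k : ℕ)
    (hk : ∀ v : V, v ≠ 1 → Nat.card {φ : MulAut V // φ ∈ L ∧ φ v = v} = k)
    {b b' : MulAut V} (hb : b ∈ B)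
    (hbz : b ∉ Subgroup.zpowers z) (hb' : b' ∈ B) (hbz' : b' ∉ Subgroup.zpowers z) {w w' : V}
    (hw1 : w ≠ 1) (hw'1 : w' ≠ 1) (hbw : b w = w) (hbw' : b' w' = w')
    (hdisj : ∀ u : V, b u = u → b' u = u → u = 1) {φ : MulAut V} (hφ : φ ∈ L) :
    φ w = w ↔ φ w' = w' := by
  have hww' : w * w' ≠ 1 := by
    intro h
    apply hw1
    apply hdisj w hbw
    have hw : w = w'⁻¹ := eq_inv_of_mul_eq_one_left h
    rw [hw, map_inv, hbw']
  have hfin : Finite (MulAut V) := inferInstance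
  have hle1 : stabIn L (w * w') ≤ stabIn L w := by
    intro ψ hψ
    rw [mem_stabIn] at hψ ⊢
    exact ⟨hψ.1, (S.fix_both hb hbz hb' hbz' hw1 hbw hbw' hdisj hψ.1 hψ.2).1⟩
  have hle2 : stabIn L (w * w') ≤ stabIn L w' := by
    intro ψ hψ
    rw [mem_stabIn] at hψ ⊢
    exact ⟨hψ.1, (S.fix_both hb hbz hb' hbz' hw1 hbw hbw' hdisj hψ.1 hψ.2).2⟩
  have he1 : stabIn L (w * w') = stabIn L w := by
    apply Subgroup.eq_of_le_of_card_ge hle1
    rw [card_stabIn, card_stabIn, hk w hw1, hk _ hww']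
  have he2 : stabIn L (w * w') = stabIn L w' := by
    apply Subgroup.eq_of_le_of_card_ge hle2
    rw [card_stabIn, card_stabIn, hk w' hw'1, hk _ hww']
  have he : stabIn L w = stabIn L w' := he1.symm.trans he2
  constructor
  · intro h
    have : φ ∈ stabIn L w := mem_stabIn.2 ⟨hφ, h⟩
    rw [he] at this
    exact (mem_stabIn.1 this).2
  · intro h
    have : φ ∈ stabIn L w' := mem_stabIn.2 ⟨hφ, h⟩
    rw [← he] at this
    exact (mem_stabIn.1 this).2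

/-- the conclusion of L1c from the setup. -/
theorem k_eq_one (S : L1cSetup l L B z) (k : ℕ)
    (hk : ∀ v : V, v ≠ 1 → Nat.card {φ : MulAut V // φ ∈ L ∧ φ v = v} = k)
    (hV : ∃ v : V, v ≠ 1) : k = 1 := by
  classical
  obtain ⟨a, haB, haz⟩ := S.exists_not_mem_zpowers
  have hcomm : a * z = z * a := S.hBab a haB z S.hzB
  -- the elements b_j = a z^j
  have hbjB : ∀ j : ℕ, a * z ^ j ∈ B := fun j =>
    Subgroup.mul_mem _ haB (Subgroup.pow_mem _ S.hzB j)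
  have hbjz : ∀ j : ℕ, a * z ^ j ∉ Subgroup.zpowers z := by
    intro j h
    apply haz
    have : a = (a * z ^ j) * (z ^ j)⁻¹ := by rw [mul_inv_cancel_right]
    rw [this]
    exact Subgroup.mul_mem _ h (Subgroup.inv_mem _ (Subgroup.pow_mem _ (Subgroup.mem_zpowers z) j))
  have hbjl : ∀ j : ℕ, (a * z ^ j) ^ l = 1 := fun j => S.hBexp _ (hbjB j)
  have hprod : ∀ v : V, ∏ j ∈ Finset.range l, nrm l (a * z ^ j) v = v ^ l :=
    prod_nrm_eq_pow S.hl hcomm S.hzl S.hzfix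
  -- first component
  obtain ⟨v₀, hv₀⟩ := hV
  have hv₀l : v₀ ^ l ≠ 1 := by
    intro h
    exact hv₀ (pow_inj_of_coprime S.hVl (by rw [h, one_pow]))
  obtain ⟨j₁, hj₁⟩ : ∃ j ∈ Finset.range l, nrm l (a * z ^ j) v₀ ≠ 1 := by
    by_contra hcon
    apply hv₀l
    rw [← hprod v₀]
    apply Finset.prod_eq_one
    intro j hj
    by_contra hne
    exact hcon ⟨j, hj, hne⟩
  obtain ⟨b₁, hb₁def⟩ : ∃ b₁ : MulAut V, b₁ = a * z ^ j₁ := ⟨_, rfl⟩
  obtain ⟨w₁, hw₁def⟩ : ∃ w₁ : V, w₁ = nrm l b₁ v₀ := ⟨_, rfl⟩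
  have hb₁B : b₁ ∈ B := by rw [hb₁def]; exact hbjB j₁
  have hb₁z : b₁ ∉ Subgroup.zpowers z := by rw [hb₁def]; exact hbjz j₁
  have hw₁1 : w₁ ≠ 1 := by rw [hw₁def, hb₁def]; exact hj₁.2
  have hb₁w₁ : b₁ w₁ = w₁ := by rw [hw₁def]; exact nrm_fixed (S.hBexp b₁ hb₁B) v₀
  -- second component
  have hb₁ne : b₁ ≠ 1 := by
    intro h
    apply hb₁z
    rw [h]
    exact Subgroup.one_mem _
  obtain ⟨u, hu⟩ : ∃ u : V, b₁ u ≠ u := by
    by_contra hcon
    apply hb₁ne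
    ext x
    by_contra hx
    exact hcon ⟨x, hx⟩
  obtain ⟨j₂, hj₂⟩ : ∃ j ∈ Finset.range l, b₁ (nrm l (a * z ^ j) u) ≠ nrm l (a * z ^ j) u := by
    by_contra hcon
    apply hu
    apply pow_inj_of_coprime S.hVl
    rw [← map_pow, ← hprod u, map_prod]
    apply Finset.prod_congr rfl
    intro j hj
    by_contra hne
    exact hcon ⟨j, hj, hne⟩
  obtain ⟨b₂, hb₂def⟩ : ∃ b₂ : MulAut V, b₂ = a * z ^ j₂ := ⟨_, rfl⟩
  obtain ⟨w₂, hw₂def⟩ : ∃ w₂ : V, w₂ = nrm l b₂ u := ⟨_, rfl⟩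
  have hb₂B : b₂ ∈ B := by rw [hb₂def]; exact hbjB j₂
  have hb₂z : b₂ ∉ Subgroup.zpowers z := by rw [hb₂def]; exact hbjz j₂
  have hb₁w₂ : b₁ w₂ ≠ w₂ := by rw [hw₂def, hb₂def]; exact hj₂.2
  have hw₂1 : w₂ ≠ 1 := by
    intro h
    apply hb₁w₂
    rw [h, map_one]
  have hb₂w₂ : b₂ w₂ = w₂ := by rw [hw₂def]; exact nrm_fixed (S.hBexp b₂ hb₂B) u
  have hdisj : ∀ x : V, b₁ x = x → b₂ x = x → x = 1 := by
    rcases S.fixed_dichotomy hb₁B hb₁z hb₂B hb₂z with h | h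
    · exact h
    · exact absurd ((h w₂).2 hb₂w₂) hb₁w₂
  -- the stabiliser of w₁ fixes everything fixed by an element of B ∖ ⟨z⟩
  have hT : ∀ φ ∈ L, φ w₁ = w₁ → ∀ b ∈ B, b ∉ Subgroup.zpowers z → ∀ x : V, b x = x → φ x = x := by
    intro φ hφ hφw₁ b hb hbz x hbx
    by_cases hx1 : x = 1
    · rw [hx1, map_one]
    have hφw₂ : φ w₂ = w₂ :=
      (S.stab_iff k hk hb₁B hb₁z hb₂B hb₂z hw₁1 hw₂1 hb₁w₁ hb₂w₂ hdisj hφ).1 hφw₁
    rcases S.fixed_dichotomy hb hbz hb₁B hb₁z with h | h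
    · exact (S.stab_iff k hk hb hbz hb₁B hb₁z hx1 hw₁1 hbx hb₁w₁ h hφ).2 hφw₁
    · have hd2 : ∀ y : V, b y = y → b₂ y = y → y = 1 := fun y hy hy' =>
        hdisj y ((h y).1 hy) hy'
      exact (S.stab_iff k hk hb hbz hb₂B hb₂z hx1 hw₂1 hbx hb₂w₂ hd2 hφ).2 hφw₂
  -- hence it is trivial
  have hone : ∀ φ ∈ L, φ w₁ = w₁ → φ = 1 := by
    intro φ hφ hφw₁
    ext v
    rw [MulAut.one_apply]
    apply pow_inj_of_coprime S.hVl
    rw [← map_pow, ← hprod v, map_prod]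
    apply Finset.prod_congr rfl
    intro j _
    exact hT φ hφ hφw₁ _ (hbjB j) (hbjz j) _ (nrm_fixed (hbjl j) v)
  rw [← hk w₁ hw₁1]
  have hsub : Subsingleton {φ : MulAut V // φ ∈ L ∧ φ w₁ = w₁} := by
    constructor
    rintro ⟨φ, hφ, hφw⟩ ⟨ψ, hψ, hψw⟩
    apply Subtype.ext
    show φ = ψ
    rw [hone φ hφ hφw, hone ψ hψ hψw]
  have hne : Nonempty {φ : MulAut V // φ ∈ L ∧ φ w₁ = w₁} :=
    ⟨⟨1, Subgroup.one_mem _, MulAut.one_apply _ _⟩⟩
  exact Nat.card_unique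

end L1cSetup

end Cfsg.Agent.Lib.Helper6.AO
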