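import Mathlib
import Cfsg.Agent.Lib.Helper1.Nilpotent
import Cfsg.Agent.Lib.Helper3.AOL1a
import Cfsg.Agent.Lib.Helper6.AOL1cC

/-!
# S3406 (odd case), piece L1c: `stab_noncyclic`.
-/

set_option autoImplicit false

universe u

namespace Cfsg.Agent.Lib.Helper6.AO

-- L1c
theorem stab_noncyclic {V : Type u} [CommGroup V] [Finite V] {l : ℕ} [Fact l.Prime] (hl2 : l ≠ 2)
    (L : Subgroup (MulAut V)) (hL : IsPGroup l L) (hVl : (Nat.card V).Coprime l) (k : ℕ)
    (hk : ∀ v : V, v ≠ 1 → Nat.card {φ : MulAut V // φ ∈ L ∧ φ v = v} = k)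
    (hV : ∃ v : V, v ≠ 1)
    (B : Subgroup (MulAut V)) (hBL : B ≤ L) (hBn : ∀ φ ∈ L, ∀ b ∈ B, φ * b * φ⁻¹ ∈ B)
    (hBab : ∀ a ∈ B, ∀ b ∈ B, a * b = b * a) (hBexp : ∀ b ∈ B, b ^ l = 1)
    (hBcard : Nat.card B = l ^ 2) : k = 1 := by
  classical
  have hl : l.Prime := Fact.out
  have hfin : Finite (MulAut V) := inferInstance
  haveI : Group.IsNilpotent ↥L := hL.isNilpotent
  -- B.subgroupOf L is a nontrivial normal subgroup of L
  have hnormal : (B.subgroupOf L).Normal := by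
    constructor
    intro x hx n
    rw [Subgroup.mem_subgroupOf] at hx ⊢
    exact hBn n n.2 x hx
  have hBne : B ≠ ⊥ := by
    intro h
    rw [h, Subgroup.card_bot] at hBcard
    have := hl.one_lt
    nlinarith
  obtain ⟨b₀, hb₀⟩ := (Subgroup.ne_bot_iff_exists_ne_one).1 hBne
  have hNne : B.subgroupOf L ≠ ⊥ := by
    intro h
    have hmem : (⟨(b₀ : MulAut V), hBL b₀.2⟩ : L) ∈ B.subgroupOf L := by
      rw [Subgroup.mem_subgroupOf]; exact b₀.2
    rw [h, Subgroup.mem_bot] at hmem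
    apply hb₀
    apply Subtype.ext
    have h2 : ((⟨(b₀ : MulAut V), hBL b₀.2⟩ : L) : MulAut V) = ((1 : L) : MulAut V) :=
      congrArg Subtype.val hmem
    exact h2
  have hmeet := Cfsg.Agent.Lib.Helper1.normal_inf_center_ne_bot (B.subgroupOf L) hNne
  obtain ⟨z', hz'⟩ := (Subgroup.ne_bot_iff_exists_ne_one).1 hmeet
  obtain ⟨z, hzdef⟩ : ∃ z : MulAut V, z = ((z' : L) : MulAut V) := ⟨_, rfl⟩
  have hz'mem := z'.2
  rw [Subgroup.mem_inf, Subgroup.mem_subgroupOf, Subgroup.mem_center_iff] at hz'mem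
  have hzB : z ∈ B := by rw [hzdef]; exact hz'mem.1
  have hz1 : z ≠ 1 := by
    intro h
    apply hz'
    apply Subtype.ext
    apply Subtype.ext
    rw [← hzdef, h]
    rfl
  have hzc : ∀ φ ∈ L, φ * z = z * φ := by
    intro φ hφ
    have := hz'mem.2 ⟨φ, hφ⟩
    rw [hzdef]
    exact congrArg Subtype.val this
  have hzo : orderOf z = l := orderOf_eq_prime (hBexp z hzB) hz1
  have hfix := Cfsg.Agent.Lib.Helper3.AO.stab_central L hVl k hk z (hBL hzB) hzc hzo
  have S : L1cSetup l L B z :=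
    { hl := hl
      hl2 := hl2
      hVl := hVl
      hL := hL
      hBL := hBL
      hBn := hBn
      hBab := hBab
      hBexp := hBexp
      hBcard := hBcard
      hzB := hzB
      hz1 := hz1
      hzc := hzc
      hzfix := by
        intro u hu
        by_contra hu1
        exact hfix u hu1 hu }
  exact S.k_eq_one k hk hV

end Cfsg.Agent.Lib.Helper6.AO
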