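import Mathlib
import Cfsg.Agent.Lib.Helper1.AODefs

/-!
# S3406, piece G7: for an abelian Sylow `l`-subgroup `L` and `x ∈ L`, the number of conjugates of
`x` lying in `L` is prime to `l` (Burnside's fusion lemma + orbit-stabilizer in `N(L)`).
-/

set_option autoImplicit false

open Cfsg.Agent.Lib.Helper1.AO

universe u

namespace Cfsg.Agent.Lib.Helper6.AO

variable {G : Type u} [Group G] [Finite G]

/-- orbit-stabilizer for the conjugation action of a subgroup `N` on `G`, by hand:
`|N| = |{n x n⁻¹}| * |C_N(x)|`. -/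
theorem card_eq_card_conj_mul_card_centralizer (N : Subgroup G) (x : G) :
    Nat.card N = Nat.card {z : G // ∃ n ∈ N, n * x * n⁻¹ = z} *
      Nat.card {n : N // (n : G) * x = x * (n : G)} := by
  classical
  letI : MulAction N G := MulAction.compHom G ((MulAut.conj : G →* MulAut G).comp N.subtype)
  have hsmul : ∀ (n : N) (g : G), n • g = (n : G) * g * (n : G)⁻¹ := fun n g => rfl
  have e := MulAction.orbitProdStabilizerEquivGroup N x
  rw [← Nat.card_congr e, Nat.card_prod]
  congr 1
  · apply Nat.card_congr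
    refine Equiv.subtypeEquivRight ?_
    intro z
    constructor
    · rintro ⟨n, rfl⟩
      exact ⟨n, n.2, (hsmul n x).symm⟩
    · rintro ⟨n, hn, rfl⟩
      exact ⟨⟨n, hn⟩, hsmul _ _⟩
  · apply Nat.card_congr
    refine Equiv.subtypeEquivRight ?_
    intro n
    rw [MulAction.mem_stabilizer_iff, hsmul]
    constructor
    · intro h
      rw [mul_inv_eq_iff_eq_mul] at h
      exact h
    · intro h
      rw [mul_inv_eq_iff_eq_mul]
      exact h

theorem kap_coprime {l : ℕ} [Fact l.Prime] (L : Sylow l G)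
    (hab : ∀ a ∈ (L : Subgroup G), ∀ b ∈ (L : Subgroup G), a * b = b * a) (x : G)
    (hx : x ∈ (L : Subgroup G)) : (kap (L : Subgroup G) x).Coprime l := by
  classical
  have hl : l.Prime := Fact.out
  haveI : IsMulCommutative (L : Subgroup G) := ⟨⟨fun a b => Subtype.ext (hab a a.2 b b.2)⟩⟩
  obtain ⟨N, hN⟩ : ∃ N : Subgroup G, N = Subgroup.normalizer ((L : Subgroup G) : Set G) := ⟨_, rfl⟩
  have hLN : (L : Subgroup G) ≤ N := by rw [hN]; exact Subgroup.le_normalizer
  -- the set of conjugates in L is the N-orbit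
  have hset : kap (L : Subgroup G) x = Nat.card {z : G // ∃ n ∈ N, n * x * n⁻¹ = z} := by
    unfold kap
    apply Nat.card_congr
    refine Equiv.subtypeEquivRight ?_
    intro z
    constructor
    · rintro ⟨hz, hc⟩
      obtain ⟨g, hg⟩ := isConj_iff.1 hc
      -- z = g x g⁻¹ = (g⁻¹)⁻¹ x g⁻¹
      have hy : (g⁻¹)⁻¹ * x * g⁻¹ ∈ (L : Subgroup G) := by
        rw [inv_inv, hg]; exact hz
      obtain ⟨n, hn, hnn⟩ := Sylow.conj_eq_normalizer_conj_of_mem L x g⁻¹ hx hy
      refine ⟨n⁻¹, ?_, ?_⟩
      · rw [hN]; exact Subgroup.inv_mem _ hn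
      · rw [inv_inv, ← hnn, inv_inv, hg]
    · rintro ⟨n, hn, rfl⟩
      refine ⟨?_, isConj_iff.2 ⟨n, rfl⟩⟩
      rw [hN, Subgroup.mem_normalizer_iff] at hn
      exact (hn x).1 hx
  have hcard := card_eq_card_conj_mul_card_centralizer N x
  rw [← hset] at hcard
  -- L embeds in C_N(x)
  have hLdvd : Nat.card (L : Subgroup G) ∣ Nat.card {n : N // (n : G) * x = x * (n : G)} := by
    -- as a subgroup of N
    let C : Subgroup N :=
      { carrier := {n : N | (n : G) * x = x * (n : G)}
        one_mem' := by simp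
        mul_mem' := by
          intro a b ha hb
          simp only [Set.mem_setOf_eq, Subgroup.coe_mul] at ha hb ⊢
          rw [mul_assoc, hb, ← mul_assoc, ha, mul_assoc]
        inv_mem' := by
          intro a ha
          simp only [Set.mem_setOf_eq, Subgroup.coe_inv] at ha ⊢
          rw [eq_mul_inv_iff_mul_eq, mul_assoc, inv_mul_eq_iff_eq_mul]
          exact ha.symm }
    have hCcard : Nat.card {n : N // (n : G) * x = x * (n : G)} = Nat.card C := rfl
    rw [hCcard]
    have hle : (L : Subgroup G).subgroupOf N ≤ C := by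
      intro n hn
      rw [Subgroup.mem_subgroupOf] at hn
      exact hab _ hn _ hx
    have h1 : Nat.card ((L : Subgroup G).subgroupOf N) = Nat.card (L : Subgroup G) :=
      Nat.card_congr (Subgroup.subgroupOfEquivOfLe hLN).toEquiv
    rw [← h1]
    exact Subgroup.card_dvd_of_le hle
  rw [Nat.coprime_comm, Nat.Prime.coprime_iff_not_dvd hl]
  intro hdvd
  obtain ⟨k, hk⟩ := hdvd
  obtain ⟨m, hm⟩ := hLdvd
  have hNG : Nat.card N ∣ Nat.card G := Subgroup.card_subgroup_dvd_card N
  have hbad : l * Nat.card (L : Subgroup G) ∣ Nat.card G := by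
    refine Dvd.dvd.trans ?_ hNG
    rw [hcard, hk, hm]
    exact ⟨k * m, by ring⟩
  have hidx : (L : Subgroup G).index * Nat.card (L : Subgroup G) = Nat.card G :=
    Subgroup.index_mul_card _
  rw [← hidx] at hbad
  have hpos : 0 < Nat.card (L : Subgroup G) := Nat.card_pos
  have : l ∣ (L : Subgroup G).index := Nat.dvd_of_mul_dvd_mul_right hpos hbad
  exact L.not_dvd_index this

end Cfsg.Agent.Lib.Helper6.AO
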