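import Mathlib
import Cfsg.Agent.Lib.Helper6.Mult
import Cfsg.Agent.Lib.Helper6.DegreeDvd

set_option autoImplicit false

namespace Cfsg.Agent.Lib.Helper6

open Module
open scoped ComplexConjugate

section

variable {G : Type*} [Group G]

theorem inv_ne_self_of_odd [Finite G] (hodd : Odd (Nat.card G)) {g : G} (hg : g ≠ 1) :
    g⁻¹ ≠ g := by
  intro h
  have h2 : g ^ 2 = 1 := by
    rw [sq]
    nth_rewrite 1 [← h]
    exact inv_mul_cancel g
  have h3 : orderOf g ∣ 2 := orderOf_dvd_of_pow_eq_one h2
  have h4 : orderOf g ∣ Nat.card G := orderOf_dvd_natCard g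
  have h5 : orderOf g = 1 := by
    rcases (Nat.dvd_prime Nat.prime_two).mp h3 with h6 | h6
    · exact h6
    · exfalso
      rw [h6] at h4
      exact (Nat.not_even_iff_odd.mpr hodd) (even_iff_two_dvd.mpr h4)
  exact hg (orderOf_eq_one_iff.mp h5)

/-- Pairing a sum over a group with no involutions. -/
theorem exists_half_sum [Fintype G] (hinv : ∀ g : G, g ≠ 1 → g⁻¹ ≠ g) (f : G → ℂ)
    (hf : ∀ g, f g⁻¹ = f g) :
    ∃ T : Finset G, ∑ g, f g = f 1 + 2 * ∑ g ∈ T, f g := by
  classical
  let e := Fintype.equivFin G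
  let T : Finset G := Finset.univ.filter (fun g => e g < e g⁻¹)
  let T' : Finset G := Finset.univ.filter (fun g => e g⁻¹ < e g)
  refine ⟨T, ?_⟩
  have hdisj : Disjoint T T' := by
    rw [Finset.disjoint_filter]
    intro g _ h1 h2
    exact lt_asymm h1 h2
  have hdisj1 : Disjoint ({1} : Finset G) (T ∪ T') := by
    rw [Finset.disjoint_singleton_left]
    simp [T, T']
  have hunion : (Finset.univ : Finset G) = {1} ∪ (T ∪ T') := by
    ext g
    simp only [Finset.mem_univ, Finset.mem_union, Finset.mem_singleton, true_iff, T, T',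
      Finset.mem_filter, true_and]
    by_cases hg : g = 1
    · exact Or.inl hg
    · right
      have hne : e g ≠ e g⁻¹ := fun h => hinv g hg (e.injective h).symm
      exact lt_or_gt_of_ne hne
  have hT' : ∑ g ∈ T', f g = ∑ g ∈ T, f g := by
    apply Finset.sum_bij (fun g _ => g⁻¹)
    · intro g hg
      simp only [T, T', Finset.mem_filter, Finset.mem_univ, true_and, inv_inv] at hg ⊢
      exact hg
    · intro a _ b _ hab
      exact inv_injective hab
    · intro g hg
      refine ⟨g⁻¹, ?_, inv_inv g⟩
      simp only [T, T', Finset.mem_filter, Finset.mem_univ, true_and, inv_inv] at hg ⊢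
      exact hg
    · intro g _
      exact (hf g).symm
  rw [hunion, Finset.sum_union hdisj1, Finset.sum_union hdisj, hT', Finset.sum_singleton]
  ring

variable [Fintype G]

/-- In a group of odd order a real valued irreducible character is principal. -/
theorem eq_one_of_real_of_odd (hodd : Odd (Nat.card G)) (χ : G → ℂ)
    (hχ : Cfsg.IsIrrCharacter G χ) (hreal : ∀ g : G, (χ g).im = 0) : χ = fun _ => 1 := by
  classical
  by_contra hne
  have horth : Cfsg.classInner χ (fun _ => (1 : ℂ)) = 0 := by
    rw [classInner_isIrrCharacter hχ isIrrCharacter_one, if_neg hne]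
  obtain ⟨n, ρ, hρ, rfl⟩ := hχ
  have hsum : ∑ g : G, ρ.character g = 0 := by
    unfold Cfsg.classInner at horth
    have hG := card_ne_zero_complex G
    rcases mul_eq_zero.mp horth with h | h
    · exact absurd (inv_eq_zero.mp h) hG
    · simpa using h
  have hinvf : ∀ g, ρ.character g⁻¹ = ρ.character g := by
    intro g
    rw [character_inv]
    exact Complex.conj_eq_iff_im.mpr (hreal g)
  obtain ⟨T, hT⟩ := exists_half_sum (fun g hg => inv_ne_self_of_odd hodd hg) ρ.character hinvf
  rw [hsum, Representation.char_one] at hT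
  -- degree is even
  have h2 : (2 : ℕ) ∣ finrank ℂ (Fin n → ℂ) := by
    apply nat_dvd_of_isIntegral_div (by norm_num)
    have : ((finrank ℂ (Fin n → ℂ) : ℕ) : ℂ) / ((2 : ℕ) : ℂ) = - ∑ g ∈ T, ρ.character g := by
      have h3 : ((finrank ℂ (Fin n → ℂ) : ℕ) : ℂ) = - (2 * ∑ g ∈ T, ρ.character g) := by
        linear_combination (-1 : ℂ) * hT
      rw [h3]
      push_cast
      ring
    rw [this]
    apply IsIntegral.neg
    apply IsIntegral.sum
    intro g _
    exact isIntegral_character ρ g
  have h3 : finrank ℂ (Fin n → ℂ) ∣ Nat.card G := finrank_dvd_card ρ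
  exact (Nat.not_even_iff_odd.mpr hodd) (even_iff_two_dvd.mpr (h2.trans h3))

end

end Cfsg.Agent.Lib.Helper6
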