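import Mathlib
import Cfsg.Agent.Lib.Helper6.BrauerGlobal

set_option autoImplicit false

namespace Cfsg.Agent.Lib.Helper6

section

variable {G : Type*} [Group G] [Fintype G]

/-- A character induced from an elementary subgroup is a combination of induced linear
characters of elementary subgroups. -/
theorem indLinComb_indFun_of_isElem (E : Subgroup G) (hE : IsElem E) {φ : E → ℂ}
    (hφ : Cfsg.IsCharacter E φ) : IndLinComb (IsElem (G := G)) (Cfsg.indFun E φ) := by
  classical
  have : Fintype E := Fintype.ofFinite E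
  have : Fintype (Cfsg.IrrCharacter E) := Fintype.ofFinite _
  obtain ⟨p, hp, hEp⟩ := hE
  have hnil : Group.IsNilpotent E := IsElementary.isNilpotent hp hEp
  obtain ⟨m, hm⟩ := IsCharacter.eq_sum_irr hφ
  rw [hm, indFun_sum]
  apply IndLinComb.sum
  intro ψ _
  obtain ⟨D, lam, hψ⟩ := nilpotent_monomial (Nat.card E) E rfl (ψ : E → ℂ) ψ.2
  rw [← Nat.cast_smul_eq_nsmul ℂ, indFun_smul, hψ, indFun_indFun_map]
  have hDel : IsElem (D.map E.subtype) :=
    ⟨p, hp, IsElementary.of_mulEquiv
      (Subgroup.equivMapOfInjective D E.subtype Subtype.coe_injective)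
      (IsElementary.subgroup hp hEp D)⟩
  have := IndLinComb.single (P := IsElem (G := G)) (D.map E.subtype) hDel
    (lam.comp (Subgroup.equivMapOfInjective D E.subtype
      Subtype.coe_injective).symm.toMonoidHom) (m ψ)
  simpa using this

/-- Brauer's induction theorem. -/
theorem brauer_induction {χ : G → ℂ} (hχ : Cfsg.IsCharacter G χ) :
    IndLinComb (IsElem (G := G)) χ := by
  obtain ⟨n, E, φ, c, hEφ, h1⟩ := IndCharComb.exists_sum (IsCharacter.indCharComb hχ)
  rw [h1]
  apply IndLinComb.sum
  intro i _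
  exact IndLinComb.intCast_smul (indLinComb_indFun_of_isElem (E i) (hEφ i).1 (hEφ i).2) (c i)

end

end Cfsg.Agent.Lib.Helper6
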