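import Mathlib
import Cfsg.Prelude.Def_Characters
import Cfsg.Agent.Lib.Helper6.BrauerInd
import Cfsg.Agent.Lib.Helper6.GenChar
import Cfsg.Agent.Lib.Helper6.GenCharOps
import Cfsg.Agent.Lib.Helper6.Norm
import Cfsg.Agent.Lib.Helper6.Mult
import Cfsg.Agent.Lib.Helper6.IndFun

set_option autoImplicit false
set_option linter.unusedSectionVars false
open Cfsg

namespace Cfsg.Agent.Lib.Helper6

open scoped ComplexConjugate

section galois

variable {G : Type*} [Group G] [Fintype G]

/-- a generalized character of norm one with positive degree is irreducible -/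
theorem IsGeneralizedCharacter.isIrrCharacter_of_norm_one {θ : G → ℂ}
    (hθ : Cfsg.IsGeneralizedCharacter G θ) (h1 : Cfsg.classInner θ θ = 1)
    (hpos : 0 < (θ 1).re) : Cfsg.IsIrrCharacter G θ := by
  classical
  have : Fintype (Cfsg.IrrCharacter G) := Fintype.ofFinite _
  obtain ⟨c, hc, hci⟩ := IsGeneralizedCharacter.exists_int_coeff hθ
  have h2 : Cfsg.classInner θ θ = ((∑ β, c β * c β : ℤ) : ℂ) := by
    conv_lhs => rw [hc]
    exact classInner_sum_int c c
  rw [h1] at h2
  have hsum : ∑ β, c β * c β = 1 := by exact_mod_cast h2.symm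
  have hne : ∑ β, c β * c β ≠ 0 := by rw [hsum]; exact one_ne_zero
  obtain ⟨χ₀, _, hχ₀⟩ := Finset.exists_ne_zero_of_sum_ne_zero hne
  have hle : c χ₀ * c χ₀ ≤ 1 := by
    rw [← hsum]
    exact Finset.single_le_sum (f := fun χ => c χ * c χ) (fun _ _ => mul_self_nonneg _)
      (Finset.mem_univ χ₀)
  have hm0 : c χ₀ ≠ 0 := fun h0 => hχ₀ (by simp [h0])
  have hrest : ∀ χ, χ ≠ χ₀ → c χ = 0 := by
    intro χ hχ
    have h3 := Finset.add_sum_erase Finset.univ (fun χ => c χ * c χ) (Finset.mem_univ χ₀)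
    rw [hsum] at h3
    have h4 : 1 ≤ c χ₀ * c χ₀ := by
      have : 0 < c χ₀ * c χ₀ := mul_self_pos.mpr hm0
      omega
    have h5 : ∑ x ∈ Finset.univ.erase χ₀, c x * c x = 0 := by
      have h6 : 0 ≤ ∑ x ∈ Finset.univ.erase χ₀, c x * c x :=
        Finset.sum_nonneg (fun _ _ => mul_self_nonneg _)
      have h7 : c χ₀ * c χ₀ = 1 := le_antisymm hle h4
      rw [h7] at h3
      linarith
    have h8 := (Finset.sum_eq_zero_iff_of_nonneg (fun _ _ => mul_self_nonneg _)).mp h5 χ
      (Finset.mem_erase.mpr ⟨hχ, Finset.mem_univ _⟩)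
    exact mul_self_eq_zero.mp h8
  have hθeq : θ = (c χ₀ : ℂ) • (χ₀ : G → ℂ) := by
    rw [hc, Finset.sum_eq_single χ₀]
    · intro χ _ hχ
      rw [hrest χ hχ]; simp
    · intro h; exact absurd (Finset.mem_univ _) h
  have hc1 : c χ₀ = 1 := by
    have h9 : c χ₀ = 1 ∨ c χ₀ = -1 := by
      have h10 : c χ₀ * c χ₀ = 1 := by
        have : 0 < c χ₀ * c χ₀ := mul_self_pos.mpr hm0
        omega
      rcases Int.eq_one_or_neg_one_of_mul_eq_one' h10 with h | h
      · exact Or.inl h.1
      · exact Or.inr h.1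
    rcases h9 with h | h
    · exact h
    · exfalso
      rw [hθeq, h] at hpos
      have h11 := IsCharacter.apply_one_eq_charDegree (IsIrrCharacter.isCharacter χ₀.2)
      simp only [Pi.smul_apply, smul_eq_mul, h11] at hpos
      have : (((-1 : ℤ) : ℂ) * (Cfsg.charDegree (χ₀ : G → ℂ) : ℂ)).re
          = -(Cfsg.charDegree (χ₀ : G → ℂ) : ℝ) := by simp
      rw [this] at hpos
      have : (0 : ℝ) ≤ (Cfsg.charDegree (χ₀ : G → ℂ) : ℝ) := Nat.cast_nonneg _
      linarith
  rw [hθeq, hc1]
  simp only [Int.cast_one, one_smul]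
  exact χ₀.2

/-- membership in a subgroup of a coprime power -/
theorem pow_mem_iff_of_coprime (H : Subgroup G) {k : ℕ} (hk : Nat.Coprime k (Nat.card G)) (y : G) :
    y ^ k ∈ H ↔ y ∈ H := by
  constructor
  · intro h
    have hcop : Nat.Coprime k (orderOf y) :=
      Nat.Coprime.coprime_dvd_right (orderOf_dvd_natCard y) hk
    obtain ⟨j, hj⟩ := exists_pow_eq_self_of_coprime hcop
    rw [← hj]
    exact H.pow_mem h j
  · intro h
    exact H.pow_mem h k

/-- the power map on an induced function -/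
theorem indFun_pow (H : Subgroup G) (θ : H → ℂ) {k : ℕ} (hk : Nat.Coprime k (Nat.card G))
    (g : G) : Cfsg.indFun H θ (g ^ k) = Cfsg.indFun H (fun h : H => θ (h ^ k)) g := by
  unfold Cfsg.indFun
  congr 1
  apply Finset.sum_congr rfl
  intro x _
  have h1 : x⁻¹ * g ^ k * x = (x⁻¹ * g * x) ^ k := by
    rw [show x⁻¹ * g * x = x⁻¹ * g * x⁻¹⁻¹ by rw [inv_inv], conj_pow, inv_inv]
  rw [h1]
  by_cases hy : x⁻¹ * g * x ∈ H
  · rw [extendByZero_of_mem H _ hy, extendByZero_of_mem H _ (H.pow_mem hy k)]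
    rfl
  · rw [extendByZero_of_not_mem H _ hy, extendByZero_of_not_mem H _
      (fun h => hy ((pow_mem_iff_of_coprime H hk _).mp h))]

theorem list_indLin_sum_pow (l : List ((A : Subgroup G) × ((A →* ℂˣ) × ℤ))) {k : ℕ}
    (hk : Nat.Coprime k (Nat.card G)) (g : G) :
    (l.map fun t => (t.2.2 : ℂ) • Cfsg.indFun t.1 (fun a => (t.2.1 a : ℂ))).sum (g ^ k)
      = (l.map fun t => (t.2.2 : ℂ) •
        Cfsg.indFun t.1 (fun a => ((t.2.1 ^ k) a : ℂ))).sum g := by
  induction l with
  | nil => simp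
  | cons t l ih =>
    simp only [List.map_cons, List.sum_cons, Pi.add_apply, Pi.smul_apply, smul_eq_mul]
    rw [ih, indFun_pow t.1 _ hk g]
    congr 2
    congr 1
    funext a
    simp

theorem list_indLin_sum_isGeneralizedCharacter
    (l : List ((A : Subgroup G) × ((A →* ℂˣ) × ℤ))) :
    Cfsg.IsGeneralizedCharacter G (l.map fun t => (t.2.2 : ℂ) •
        Cfsg.indFun t.1 (fun a => (t.2.1 a : ℂ))).sum := by
  induction l with
  | nil =>
    simp only [List.map_nil, List.sum_nil]
    exact IsGeneralizedCharacter.zero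
  | cons t l ih =>
    simp only [List.map_cons, List.sum_cons]
    apply IsGeneralizedCharacter.add _ ih
    apply IsGeneralizedCharacter.intCast_smul
    apply IsGeneralizedCharacter.indFun
    exact IsCharacter.isGeneralizedCharacter
      (IsIrrCharacter.isCharacter (isIrrCharacter_of_hom t.2.1))

/-- the Galois conjugate `g ↦ χ (g ^ k)` of a character, `k` prime to the group order, is a
generalized character -/
theorem IsCharacter.isGeneralizedCharacter_comp_pow {χ : G → ℂ} (hχ : Cfsg.IsCharacter G χ)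
    {k : ℕ} (hk : Nat.Coprime k (Nat.card G)) :
    Cfsg.IsGeneralizedCharacter G (fun g => χ (g ^ k)) := by
  classical
  obtain ⟨l, _, hl⟩ := brauer_induction hχ
  have h1 : (fun g => χ (g ^ k)) = (l.map fun t => (t.2.2 : ℂ) •
      Cfsg.indFun t.1 (fun a => ((t.2.1 ^ k) a : ℂ))).sum := by
    funext g
    rw [hl]
    exact list_indLin_sum_pow l hk g
  rw [h1]
  have h2 := list_indLin_sum_isGeneralizedCharacter
    (l.map fun t => (⟨t.1, (t.2.1 ^ k, t.2.2)⟩ : (A : Subgroup G) × ((A →* ℂˣ) × ℤ)))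
  rw [List.map_map] at h2
  exact h2

/-- the Galois conjugate `g ↦ χ (g ^ k)` of an irreducible character, `k` prime to the group
order, is an irreducible character -/
theorem IsIrrCharacter.comp_pow {χ : G → ℂ} (hχ : Cfsg.IsIrrCharacter G χ)
    {k : ℕ} (hk : Nat.Coprime k (Nat.card G)) :
    Cfsg.IsIrrCharacter G (fun g => χ (g ^ k)) := by
  classical
  apply IsGeneralizedCharacter.isIrrCharacter_of_norm_one
    (IsCharacter.isGeneralizedCharacter_comp_pow (IsIrrCharacter.isCharacter hχ) hk)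
  · have h1 := classInner_isIrrCharacter hχ hχ
    rw [if_pos rfl] at h1
    rw [← h1]
    unfold Cfsg.classInner
    congr 1
    exact Equiv.sum_comp (powCoprime hk.symm) (fun g => χ g * conj (χ g))
  · simp only [one_pow]
    rw [IsCharacter.apply_one_eq_charDegree (IsIrrCharacter.isCharacter hχ)]
    simp only [Complex.natCast_re]
    exact_mod_cast IsIrrCharacter.charDegree_pos hχ

end galois

end Cfsg.Agent.Lib.Helper6
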