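import Mathlib
import Cfsg.Agent.Lib.Helper6.BlkLocal

set_option autoImplicit false
set_option linter.unusedSectionVars false
open Cfsg

namespace Cfsg.Agent.Lib.Helper6

open Matrix

variable {p : ℕ} {M : Ideal Cfsg.AlgInt}

theorem localMaxIdeal_isMaximal (hM : Cfsg.IsPModular p M) : (localMaxIdeal hM).IsMaximal := by
  rw [Ideal.isMaximal_iff]
  refine ⟨fun h => not_memLocalIdeal_one hM h, ?_⟩
  intro J x _ hx hxJ
  have hx' : ¬ Cfsg.MemLocalIdeal M (x : ℂ) := hx
  have hinv : Cfsg.MemLocalRing M ((x : ℂ)⁻¹) := MemLocalRing.inv x.2 hx'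
  have hx0 : (x : ℂ) ≠ 0 := ne_zero_of_not_memLocalIdeal hM hx'
  have h1 : (1 : localSubring hM) = ⟨(x : ℂ)⁻¹, hinv⟩ * x := by
    apply Subtype.ext
    push_cast
    rw [inv_mul_cancel₀ hx0]
  rw [h1]
  exact J.mul_mem_left _ hxJ

/-- the residue field of the local ring -/
abbrev ResField (hM : Cfsg.IsPModular p M) : Type := localSubring hM ⧸ localMaxIdeal hM

noncomputable instance instFieldResField (hM : Cfsg.IsPModular p M) : Field (ResField hM) :=
  haveI := localMaxIdeal_isMaximal hM
  Ideal.Quotient.field _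

/-- reduction modulo the local ideal -/
noncomputable def resMap (hM : Cfsg.IsPModular p M) : localSubring hM →+* ResField hM :=
  Ideal.Quotient.mk (localMaxIdeal hM)

theorem resMap_eq_zero_iff (hM : Cfsg.IsPModular p M) (z : localSubring hM) :
    resMap hM z = 0 ↔ Cfsg.MemLocalIdeal M (z : ℂ) := by
  unfold resMap
  rw [Ideal.Quotient.eq_zero_iff_mem]
  rfl

theorem resMap_eq_iff (hM : Cfsg.IsPModular p M) (z w : localSubring hM) :
    resMap hM z = resMap hM w ↔ Cfsg.MemLocalIdeal M ((z : ℂ) - (w : ℂ)) := by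
  rw [← sub_eq_zero, ← map_sub, resMap_eq_zero_iff]
  rfl

/-- the determinant of a matrix over the local ring, computed in `ℂ` -/
theorem coe_det_localSubring (hM : Cfsg.IsPModular p M) {n : Type*} [Fintype n] [DecidableEq n]
    (A : Matrix n n (localSubring hM)) :
    ((A.det : localSubring hM) : ℂ) = (A.map (fun z => (z : ℂ))).det := by
  have := RingHom.map_det (localSubring hM).subtype A
  simpa using this

theorem resMap_det (hM : Cfsg.IsPModular p M) {n : Type*} [Fintype n] [DecidableEq n]
    (A : Matrix n n (localSubring hM)) :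
    resMap hM A.det = (A.map (resMap hM)).det := by
  have := RingHom.map_det (resMap hM) A
  simpa using this

section linalg

variable {F : Type*} [Field F]

/-- a full-rank wide matrix has an invertible maximal minor -/
theorem exists_minor_of_mul_det_ne_zero {β : Type*} [Fintype β] [DecidableEq β] {r : ℕ}
    (W : Matrix (Fin r) β F) (X : Matrix β (Fin r) F) (h : (W * X).det ≠ 0) :
    ∃ e : Fin r → β, Function.Injective e ∧ (W.submatrix id e).det ≠ 0 := by
  classical
  let v : β → (Fin r → F) := fun b i => W i b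
  have hspan : Submodule.span F (Set.range v) = ⊤ := by
    rw [eq_top_iff]
    intro y _
    have hu : IsUnit (W * X).det := isUnit_iff_ne_zero.mpr h
    have h1 : (W * X) *ᵥ ((W * X)⁻¹ *ᵥ y) = y := by
      rw [Matrix.mulVec_mulVec, Matrix.mul_nonsing_inv _ hu, Matrix.one_mulVec]
    obtain ⟨z, hz⟩ : ∃ z : β → F, z = X *ᵥ ((W * X)⁻¹ *ᵥ y) := ⟨_, rfl⟩
    have h2 : W *ᵥ z = y := by
      rw [hz, Matrix.mulVec_mulVec]
      exact h1
    have h3 : y = ∑ b, z b • v b := by
      rw [← h2]
      funext i
      simp only [Matrix.mulVec, dotProduct, Finset.sum_apply, Pi.smul_apply, smul_eq_mul, v]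
      apply Finset.sum_congr rfl
      intro b _
      ring
    rw [h3]
    apply Submodule.sum_mem
    intro b _
    exact Submodule.smul_mem _ _ (Submodule.subset_span ⟨b, rfl⟩)
  obtain ⟨κ, a, ha, hsp, hli⟩ := exists_linearIndependent' F v
  rw [hspan] at hsp
  let bas : Module.Basis κ F (Fin r → F) := Module.Basis.mk hli (by rw [hsp])
  let g : Fin r ≃ κ := (Pi.basisFun F (Fin r)).indexEquiv bas
  refine ⟨a ∘ g, ha.comp g.injective, ?_⟩
  have hli2 : LinearIndependent F ((v ∘ a) ∘ g) := hli.comp g g.injective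
  have hcols : (W.submatrix id (a ∘ g)).col = (v ∘ a) ∘ g := by
    funext k i
    rfl
  have hunit : IsUnit (W.submatrix id (a ∘ g)) := by
    rw [← Matrix.linearIndependent_cols_iff_isUnit, hcols]
    exact hli2
  exact isUnit_iff_ne_zero.mp ((Matrix.isUnit_iff_isUnit_det _).mp hunit)

end linalg

end Cfsg.Agent.Lib.Helper6
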