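import Mathlib

set_option autoImplicit false
set_option linter.unusedSectionVars false
set_option linter.unusedVariables false
set_option linter.unusedSimpArgs false

/-! Groups whose abelianisation is elementary abelian (`EA`), semidirect products, and
wreath-product-like embeddings `Hⁿ ⋊ Sₙ → G` capturing a Sylow 2-subgroup of `G`. -/

namespace Cfsg.Agent.Lib.Helper6.SW

open scoped commutatorElement Pointwise

section EA

/-- every square is a product of commutators -/
def EA (P : Type*) [Group P] : Prop := ∀ x : P, x ^ 2 ∈ commutator P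

theorem map_commutator_le {P P' : Type*} [Group P] [Group P'] (f : P →* P') :
    (commutator P).map f ≤ commutator P' := by
  rw [commutator_def, commutator_def, Subgroup.map_commutator]
  exact Subgroup.commutator_mono le_top le_top

theorem EA.of_mulEquiv {P P' : Type*} [Group P] [Group P'] (e : P ≃* P') (h : EA P) : EA P' := by
  intro x
  obtain ⟨y, rfl⟩ := e.surjective x
  have h1 : e (y ^ 2) ∈ (commutator P).map e.toMonoidHom := ⟨y ^ 2, h y, rfl⟩
  have h2 := map_commutator_le e.toMonoidHom h1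
  rwa [map_pow] at h2

theorem EA_iff_abelianization {P : Type*} [Group P] :
    EA P ↔ ∀ x : P, (Abelianization.of x) ^ 2 = 1 := by
  constructor
  · intro h x
    rw [← map_pow]
    exact (QuotientGroup.eq_one_iff _).mpr (h x)
  · intro h x
    have := h x
    rw [← map_pow] at this
    exact (QuotientGroup.eq_one_iff _).mp this

theorem EA_pi {κ : Type*} [Finite κ] {Q : Type*} [Group Q] (h : EA Q) : EA (κ → Q) := by
  intro d
  have h1 : commutator (κ → Q) = Subgroup.pi Set.univ fun _ : κ => commutator Q := by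
    rw [commutator_def]
    have := Subgroup.commutator_pi_pi_of_finite (η := κ) (Gs := fun _ => Q)
      (fun _ => (⊤ : Subgroup Q)) (fun _ => (⊤ : Subgroup Q))
    rw [Subgroup.pi_top] at this
    rw [this]
    rfl
  rw [h1, Subgroup.mem_pi]
  intro k _
  exact h (d k)

theorem EA_semidirect {N T : Type*} [Group N] [Group T] (φ : T →* MulAut N) (hN : EA N)
    (hT : EA T) : EA (N ⋊[φ] T) := by
  rw [EA_iff_abelianization]
  intro x
  have hx : x = SemidirectProduct.inl x.left * SemidirectProduct.inr x.right := by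
    ext <;> simp
  rw [hx, map_mul, mul_pow]
  have h1 : (Abelianization.of (SemidirectProduct.inl (φ := φ) x.left)) ^ 2 = 1 := by
    rw [← map_pow, ← map_pow]
    apply (QuotientGroup.eq_one_iff _).mpr
    exact map_commutator_le (SemidirectProduct.inl (φ := φ)) ⟨_, hN x.left, rfl⟩
  have h2 : (Abelianization.of (SemidirectProduct.inr (φ := φ) x.right)) ^ 2 = 1 := by
    rw [← map_pow, ← map_pow]
    apply (QuotientGroup.eq_one_iff _).mpr
    exact map_commutator_le (SemidirectProduct.inr (φ := φ)) ⟨_, hT x.right, rfl⟩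
  rw [h1, h2, one_mul]

end EA

section wr

variable {G : Type*} [Group G] {H : Type*} [Group H] {κ : Type*}

/-- the action of permutations on functions, by automorphisms -/
def permAut (H : Type*) [Group H] (κ : Type*) : Equiv.Perm κ →* MulAut (κ → H) where
  toFun σ :=
    { toFun := fun d => d ∘ σ.symm
      invFun := fun d => d ∘ σ
      left_inv := fun d => by funext k; simp
      right_inv := fun d => by funext k; simp
      map_mul' := fun _ _ => rfl }
  map_one' := by
    ext d k
    rfl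
  map_mul' σ τ := by
    ext d k
    rfl

theorem permAut_apply (σ : Equiv.Perm κ) (d : κ → H) : permAut H κ σ d = d ∘ σ.symm := rfl

/-- an embedding of the wreath product `H ≀ Sym(κ)` into `G` -/
structure WrData (G : Type*) [Group G] (H : Type*) [Group H] (κ : Type*) where
  f₁ : (κ → H) →* G
  f₂ : Equiv.Perm κ →* G
  compat : ∀ σ d, f₂ σ * f₁ d * (f₂ σ)⁻¹ = f₁ (d ∘ σ.symm)
  inj : ∀ d σ, f₁ d * f₂ σ = 1 → d = 1 ∧ σ = 1

variable (W : WrData G H κ) (Q : Subgroup H) (T : Subgroup (Equiv.Perm κ))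

/-- the abstract group `Q ≀ T` -/
abbrev WrX (Q : Subgroup H) (T : Subgroup (Equiv.Perm κ)) : Type _ :=
  (κ → ↥Q) ⋊[(permAut ↥Q κ).comp T.subtype] ↥T

/-- the map `Q ≀ T → G` -/
def WrData.lam : WrX Q T →* G :=
  SemidirectProduct.lift (W.f₁.comp (Q.subtype.compLeft κ)) (W.f₂.comp T.subtype) (by
    intro g
    ext d
    show W.f₁ ((Q.subtype.compLeft κ) (permAut ↥Q κ (T.subtype g) d)) =
      W.f₂ (T.subtype g) * W.f₁ ((Q.subtype.compLeft κ) d) * (W.f₂ (T.subtype g))⁻¹
    rw [W.compat]
    rfl)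

theorem WrData.lam_apply (x : WrX Q T) :
    W.lam Q T x = W.f₁ (fun k => (x.left k : H)) * W.f₂ (x.right : Equiv.Perm κ) := rfl

theorem WrData.lam_injective : Function.Injective (W.lam Q T) := by
  rw [injective_iff_map_eq_one]
  intro x hx
  rw [W.lam_apply] at hx
  obtain ⟨h1, h2⟩ := W.inj _ _ hx
  ext k
  · have := congrFun h1 k
    simpa using this
  · simp [h2]

/-- the subgroup `Q ≀ T` of `G` -/
def WrData.sub : Subgroup G := (W.lam Q T).range

theorem WrData.card_sub [Finite κ] [Finite H] :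
    Nat.card (W.sub Q T) = Nat.card Q ^ Nat.card κ * Nat.card T := by
  unfold WrData.sub
  rw [← Nat.card_congr (MonoidHom.ofInjective (W.lam_injective Q T)).toEquiv,
    SemidirectProduct.card, Nat.card_fun]

theorem WrData.EA_sub [Finite κ] (hQ : EA ↥Q) (hT : EA ↥T) : EA ↥(W.sub Q T) :=
  EA.of_mulEquiv (MonoidHom.ofInjective (W.lam_injective Q T)) (EA_semidirect _ (EA_pi hQ) hT)

theorem WrData.f₁_mem_sub (d : κ → H) (hd : ∀ k, d k ∈ Q) : W.f₁ d ∈ W.sub Q T := by
  refine ⟨SemidirectProduct.inl (fun k => ⟨d k, hd k⟩), ?_⟩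
  rw [W.lam_apply]
  simp

theorem WrData.mem_sub_iff (g : G) :
    g ∈ W.sub Q T ↔ ∃ d : κ → H, (∀ k, d k ∈ Q) ∧ ∃ σ ∈ T, g = W.f₁ d * W.f₂ σ := by
  constructor
  · rintro ⟨x, rfl⟩
    exact ⟨fun k => (x.left k : H), fun k => (x.left k).2, x.right.1, x.right.2, rfl⟩
  · rintro ⟨d, hd, σ, hσ, rfl⟩
    refine ⟨⟨fun k => ⟨d k, hd k⟩, ⟨σ, hσ⟩⟩, ?_⟩
    rw [W.lam_apply]

end wr

section sylow

variable {G : Type*} [Group G] [Finite G]

/-- if one Sylow `p`-subgroup has `EA`, all do -/
theorem EA_sylow_of_one (p : ℕ) [Fact p.Prime] (P₀ : Sylow p G) (h : EA ↥(P₀ : Subgroup G))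
    (P : Sylow p G) : EA ↥(P : Subgroup G) := by
  obtain ⟨g, hg⟩ := MulAction.exists_smul_eq G P₀ P
  have h1 : (P : Subgroup G) = MulAut.conj g • (P₀ : Subgroup G) := by
    rw [← hg]
    rfl
  rw [h1]
  exact EA.of_mulEquiv (Subgroup.equivSMul (MulAut.conj g) (P₀ : Subgroup G)) h

/-- a subgroup of the right order is a Sylow subgroup -/
theorem exists_sylow_eq (p : ℕ) [Fact p.Prime] (S : Subgroup G)
    (hS : Nat.card S = p ^ (Nat.card G).factorization p) : ∃ P : Sylow p G, (P : Subgroup G) = S :=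
  ⟨Sylow.ofCard S hS, rfl⟩

end sylow

end Cfsg.Agent.Lib.Helper6.SW
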