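import Mathlib
import Cfsg.Agent.Lib.Helper6.SW1

set_option autoImplicit false
set_option linter.unusedSectionVars false
set_option linter.unusedVariables false
set_option linter.unusedSimpArgs false

/-! The block embedding `GL_ι(F) ≀ Sym(κ) → GL_{ι × κ}(F)`; transport of wreath data along
injective homomorphisms; `GL_α → SL_{α ⊕ 1}`; reindexing of special linear groups. -/

namespace Cfsg.Agent.Lib.Helper6.BW

open Matrix Cfsg.Agent.Lib.Helper6.SW

section comp

variable {G G' : Type*} [Group G] [Group G'] {H : Type*} [Group H] {κ : Type*}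

/-- transport of wreath data along an injective homomorphism -/
def compData (W : WrData G H κ) (θ : G →* G') (hθ : Function.Injective θ) : WrData G' H κ where
  f₁ := θ.comp W.f₁
  f₂ := θ.comp W.f₂
  compat σ d := by
    show θ (W.f₂ σ) * θ (W.f₁ d) * (θ (W.f₂ σ))⁻¹ = θ (W.f₁ (d ∘ σ.symm))
    rw [← map_inv, ← map_mul, ← map_mul, W.compat]
  inj d σ h := by
    apply W.inj
    apply hθ
    rw [map_mul, map_one]
    exact h

end comp

section perm

variable {R : Type*} [CommRing R] {n : Type*} [Fintype n] [DecidableEq n]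

theorem permMatrixHom_entry' (π : Equiv.Perm n) (i j : n) :
    permMatrixHom (R := R) π i j = if π.symm i = j then 1 else 0 := by
  show ((π⁻¹ : Equiv.Perm n).toPEquiv.toMatrix : Matrix n n R) i j = _
  rw [PEquiv.toMatrix_apply]
  simp only [Equiv.toPEquiv_apply, Option.mem_def, Option.some.injEq]
  rfl

theorem pm_mul (π : Equiv.Perm n) (M : Matrix n n R) (i j : n) :
    (permMatrixHom (R := R) π * M) i j = M (π.symm i) j := by
  rw [Matrix.mul_apply]
  simp only [permMatrixHom_entry']
  rw [Finset.sum_eq_single (π.symm i)]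
  · simp
  · intro b _ hb
    rw [if_neg (fun h => hb h.symm), zero_mul]
  · intro h
    exact absurd (Finset.mem_univ _) h

theorem mul_pm (π : Equiv.Perm n) (M : Matrix n n R) (i j : n) :
    (M * permMatrixHom (R := R) π) i j = M i (π j) := by
  rw [Matrix.mul_apply]
  simp only [permMatrixHom_entry']
  rw [Finset.sum_eq_single (π j)]
  · simp
  · intro b _ hb
    rw [if_neg (fun h => hb (by rw [← h]; simp)), mul_zero]
  · intro h
    exact absurd (Finset.mem_univ _) h

theorem det_permMatrixHom (π : Equiv.Perm n) :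
    (permMatrixHom (R := R) π).det = ((Equiv.Perm.sign π : ℤˣ) : ℤ) := by
  show ((π⁻¹ : Equiv.Perm n).permMatrix R).det = _
  rw [det_permutation, Equiv.Perm.sign_inv]

end perm

section block

variable (ι κ : Type*) [Fintype ι] [DecidableEq ι] [Fintype κ] [DecidableEq κ]
variable (F : Type*) [Field F]

/-- the block diagonal embedding -/
noncomputable def bf₁ : (κ → GL ι F) →* GL (ι × κ) F :=
  (Units.map (Matrix.blockDiagonalRingHom ι κ F).toMonoidHom).comp
    (MulEquiv.piUnits (M := fun _ : κ => Matrix ι ι F)).symm.toMonoidHom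

theorem bf₁_val (d : κ → GL ι F) :
    (bf₁ ι κ F d).1 = blockDiagonal (fun k => (d k).1) := rfl

/-- permuting the blocks -/
def blockPerm : Equiv.Perm κ →* Equiv.Perm (ι × κ) where
  toFun σ := Equiv.prodCongr (Equiv.refl ι) σ
  map_one' := by
    ext ⟨a, k⟩ <;> rfl
  map_mul' σ τ := by
    ext ⟨a, k⟩ <;> rfl

theorem blockPerm_apply (σ : Equiv.Perm κ) (a : ι) (k : κ) :
    blockPerm ι κ σ (a, k) = (a, σ k) := rfl

theorem blockPerm_symm_apply (σ : Equiv.Perm κ) (a : ι) (k : κ) :
    (blockPerm ι κ σ).symm (a, k) = (a, σ.symm k) := rfl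

/-- the permutation matrices of the blocks -/
noncomputable def bf₂ : Equiv.Perm κ →* GL (ι × κ) F :=
  (Matrix.permMatrixHom (R := F)).toHomUnits.comp (blockPerm ι κ)

theorem bf₂_val (σ : Equiv.Perm κ) :
    (bf₂ ι κ F σ).1 = permMatrixHom (R := F) (blockPerm ι κ σ) := rfl

theorem block_compat (σ : Equiv.Perm κ) (d : κ → GL ι F) :
    bf₂ ι κ F σ * bf₁ ι κ F d * (bf₂ ι κ F σ)⁻¹ = bf₁ ι κ F (d ∘ σ.symm) := by
  rw [mul_inv_eq_iff_eq_mul]
  apply Units.ext
  rw [Units.val_mul, Units.val_mul, bf₁_val, bf₁_val, bf₂_val]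
  ext ⟨a, k⟩ ⟨b, l⟩
  rw [pm_mul, mul_pm, blockPerm_symm_apply, blockPerm_apply, blockDiagonal_apply,
    blockDiagonal_apply]
  simp only [Function.comp_apply]
  by_cases h : σ.symm k = l
  · have h' : k = σ l := by rw [← h]; simp
    rw [if_pos h, if_pos h']
  · have h' : ¬k = σ l := fun hh => h (by rw [hh]; simp)
    rw [if_neg h, if_neg h']

theorem block_inj [Nonempty ι] (d : κ → GL ι F) (σ : Equiv.Perm κ)
    (h : bf₁ ι κ F d * bf₂ ι κ F σ = 1) : d = 1 ∧ σ = 1 := by
  have key : ∀ (a b : ι) (k l : κ),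
      (if k = σ l then (d k).1 a b else 0) = (1 : Matrix (ι × κ) (ι × κ) F) (a, k) (b, l) := by
    intro a b k l
    have h1 : (bf₁ ι κ F d).1 * (bf₂ ι κ F σ).1 = 1 := by
      rw [← Units.val_mul, h]
      rfl
    have h2 := congrFun (congrFun h1 (a, k)) (b, l)
    rw [bf₁_val, bf₂_val, mul_pm, blockPerm_apply, blockDiagonal_apply] at h2
    exact h2
  have hσ : σ = 1 := by
    ext k
    obtain ⟨a⟩ := ‹Nonempty ι›
    have := key a a k k
    rw [Matrix.one_apply_eq] at this
    by_contra hne
    rw [if_neg (fun hh => hne (by rw [← hh]; rfl))] at this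
    exact zero_ne_one this
  subst hσ
  refine ⟨?_, rfl⟩
  funext k
  apply Units.ext
  ext a b
  have := key a b k k
  rw [if_pos (by simp)] at this
  rw [this]
  by_cases hab : a = b
  · subst hab
    simp
  · rw [Matrix.one_apply_ne (by intro hh; exact hab (congrArg Prod.fst hh))]
    simp [Matrix.one_apply_ne hab]

/-- the wreath product data for the block embedding -/
noncomputable def blockData [Nonempty ι] : WrData (GL (ι × κ) F) (GL ι F) κ where
  f₁ := bf₁ ι κ F
  f₂ := bf₂ ι κ F
  compat := block_compat ι κ F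
  inj := block_inj ι κ F

theorem det_bf₁ (d : κ → GL ι F) :
    Matrix.GeneralLinearGroup.det (bf₁ ι κ F d) = ∏ k, Matrix.GeneralLinearGroup.det (d k) := by
  apply Units.ext
  rw [Matrix.GeneralLinearGroup.val_det_apply, bf₁_val, det_blockDiagonal, Units.coe_prod]
  rfl

theorem sign_blockPerm (σ : Equiv.Perm κ) :
    Equiv.Perm.sign (blockPerm ι κ σ) = (Equiv.Perm.sign σ) ^ Fintype.card ι := by
  have h : blockPerm ι κ σ = Equiv.prodCongrRight (fun _ : ι => σ) := by
    ext ⟨a, k⟩ <;> rfl
  rw [h, Equiv.Perm.sign_prodCongrRight, Finset.prod_const, Finset.card_univ]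

theorem det_bf₂_of_even (hι : Even (Fintype.card ι)) (σ : Equiv.Perm κ) :
    Matrix.GeneralLinearGroup.det (bf₂ ι κ F σ) = 1 := by
  apply Units.ext
  rw [Matrix.GeneralLinearGroup.val_det_apply, bf₂_val, det_permMatrixHom, sign_blockPerm]
  obtain ⟨c, hc⟩ := hι
  rw [hc, ← two_mul, pow_mul, Int.units_sq, one_pow]
  simp

end block

end Cfsg.Agent.Lib.Helper6.BW
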