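import Mathlib
import Cfsg.Prelude.Def_ParabolicCharacters
import Cfsg.Agent.Lib.Helper6.BW1

set_option autoImplicit false
set_option linter.unusedSectionVars false
set_option linter.unusedVariables false
set_option linter.unusedSimpArgs false

/-! Gaussian elimination: every invertible matrix is `b * w * b'` with `b`, `b'` upper triangular
and `w` a permutation matrix. -/

namespace Cfsg.Agent.Lib.Helper6.Flg

open Matrix Cfsg

variable {n : ℕ} {F : Type*} [Field F]

/-- adding multiples of row `r` to the other rows -/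
def rowOp (r : Fin n) (v : Fin n → F) : Matrix (Fin n) (Fin n) F :=
  1 + Matrix.of (fun z z' => if z' = r then v z else 0)

/-- adding multiples of column `c` to the other columns -/
def colOp (c : Fin n) (u : Fin n → F) : Matrix (Fin n) (Fin n) F :=
  1 + Matrix.of (fun z y => if z = c then u y else 0)

theorem rowOp_mul (r : Fin n) (v : Fin n → F) (h : Matrix (Fin n) (Fin n) F) (z y : Fin n) :
    (rowOp r v * h) z y = h z y + v z * h r y := by
  unfold rowOp
  rw [Matrix.add_mul, Matrix.one_mul, Matrix.add_apply, Matrix.mul_apply]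
  congr 1
  rw [Finset.sum_eq_single r]
  · simp
  · intro z' _ hz'
    simp [hz']
  · intro hr
    exact absurd (Finset.mem_univ r) hr

theorem mul_colOp (c : Fin n) (u : Fin n → F) (h : Matrix (Fin n) (Fin n) F) (z y : Fin n) :
    (h * colOp c u) z y = h z y + h z c * u y := by
  unfold colOp
  rw [Matrix.mul_add, Matrix.mul_one, Matrix.add_apply, Matrix.mul_apply]
  congr 1
  rw [Finset.sum_eq_single c]
  · simp
  · intro z' _ hz'
    simp [hz']
  · intro hr
    exact absurd (Finset.mem_univ c) hr

theorem rowOp_blockTriangular (r : Fin n) (v : Fin n → F) (hv : ∀ z, ¬ z < r → v z = 0) :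
    (rowOp r v).BlockTriangular id := by
  intro z z' hzz'
  have hlt : z' < z := hzz'
  unfold rowOp
  rw [Matrix.add_apply, Matrix.one_apply_ne (ne_of_gt hlt), zero_add, Matrix.of_apply]
  split_ifs with h
  · apply hv
    rw [← h]
    exact not_lt.mpr hlt.le
  · rfl

theorem colOp_blockTriangular (c : Fin n) (u : Fin n → F) (hu : ∀ y, ¬ c < y → u y = 0) :
    (colOp c u).BlockTriangular id := by
  intro z y hzy
  have hlt : y < z := hzy
  unfold colOp
  rw [Matrix.add_apply, Matrix.one_apply_ne (ne_of_gt hlt), zero_add, Matrix.of_apply]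
  split_ifs with h
  · apply hu
    rw [← h]
    exact not_lt.mpr hlt.le
  · rfl

theorem det_rowOp (r : Fin n) (v : Fin n → F) (hv : ∀ z, ¬ z < r → v z = 0) :
    (rowOp r v).det = 1 := by
  rw [Matrix.det_of_upperTriangular (rowOp_blockTriangular r v hv)]
  apply Finset.prod_eq_one
  intro z _
  unfold rowOp
  rw [Matrix.add_apply, Matrix.one_apply_eq, Matrix.of_apply]
  split_ifs with h
  · rw [hv z (by rw [h]; exact lt_irrefl r), add_zero]
  · rw [add_zero]

theorem det_colOp (c : Fin n) (u : Fin n → F) (hu : ∀ y, ¬ c < y → u y = 0) :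
    (colOp c u).det = 1 := by
  rw [Matrix.det_of_upperTriangular (colOp_blockTriangular c u hu)]
  apply Finset.prod_eq_one
  intro z _
  unfold colOp
  rw [Matrix.add_apply, Matrix.one_apply_eq, Matrix.of_apply]
  split_ifs with h
  · rw [hu z (by rw [h]; exact lt_irrefl c), add_zero]
  · rw [add_zero]

/-- the first `k` columns, and the rows of their pivots, are those of a monomial matrix -/
def GoodUpTo (k : ℕ) (h : Matrix (Fin n) (Fin n) F) (x : Fin n → Fin n) : Prop :=
  (∀ y y' : Fin n, y.val < k → y'.val < k → x y = x y' → y = y') ∧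
  ∀ y : Fin n, y.val < k →
    h (x y) y ≠ 0 ∧ (∀ z, z ≠ x y → h z y = 0) ∧ (∀ y', y' ≠ y → h (x y) y' = 0)

/-- one step of the elimination -/
theorem good_step (k : ℕ) (hk : k < n) (h : Matrix (Fin n) (Fin n) F) (hdet : h.det ≠ 0)
    (x : Fin n → Fin n) (hgood : GoodUpTo k h x) :
    ∃ (R C : Matrix (Fin n) (Fin n) F), R.BlockTriangular id ∧ C.BlockTriangular id ∧
      R.det = 1 ∧ C.det = 1 ∧ ∃ x', GoodUpTo (k + 1) (R * h * C) x' := by
  classical
  obtain ⟨hinj, hcol⟩ := hgood
  let c : Fin n := ⟨k, hk⟩
  have hex : ∃ z, h z c ≠ 0 := by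
    by_contra hno
    push Not at hno
    exact hdet (Matrix.det_eq_zero_of_column_eq_zero c hno)
  have hne : (Finset.univ.filter (fun z => h z c ≠ 0)).Nonempty := by
    obtain ⟨z, hz⟩ := hex
    exact ⟨z, by simp [hz]⟩
  let r : Fin n := (Finset.univ.filter (fun z => h z c ≠ 0)).max' hne
  have hr : h r c ≠ 0 := by
    have := Finset.max'_mem _ hne
    simpa using this
  have hrmax : ∀ z, r < z → h z c = 0 := by
    intro z hz
    by_contra hzc
    have : z ≤ r := Finset.le_max' _ z (by simp [hzc])
    exact absurd hz (not_lt.mpr this)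
  have hcy : ∀ y : Fin n, y.val < k → y ≠ c := by
    intro y hy hyc
    rw [hyc] at hy
    exact lt_irrefl k hy
  -- the pivots of the earlier columns
  have hxc : ∀ y : Fin n, y.val < k → h (x y) c = 0 := fun y hy =>
    (hcol y hy).2.2 c (hcy y hy).symm
  have hxr : ∀ y : Fin n, y.val < k → x y ≠ r := by
    intro y hy hxy
    apply hr
    rw [← hxy]
    exact hxc y hy
  have hry : ∀ y : Fin n, y.val < k → h r y = 0 := fun y hy =>
    (hcol y hy).2.1 r (hxr y hy).symm
  -- the row operation
  let v : Fin n → F := fun z => if z < r then -(h z c / h r c) else 0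
  have hv : ∀ z, ¬ z < r → v z = 0 := fun z hz => if_neg hz
  let h₁ := rowOp r v * h
  have h₁eq : ∀ z y, h₁ z y = h z y + v z * h r y := rowOp_mul r v h
  have h₁c : ∀ z, z ≠ r → h₁ z c = 0 := by
    intro z hz
    rw [h₁eq]
    rcases lt_or_gt_of_ne hz with hlt | hgt
    · show h z c + (if z < r then -(h z c / h r c) else 0) * h r c = 0
      rw [if_pos hlt]
      field_simp
      ring
    · rw [hv z (not_lt.mpr hgt.le), zero_mul, add_zero]
      exact hrmax z hgt
  have h₁rc : h₁ r c = h r c := by
    rw [h₁eq, hv r (lt_irrefl r), zero_mul, add_zero]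
  have h₁old : ∀ y : Fin n, y.val < k → ∀ z, h₁ z y = h z y := by
    intro y hy z
    rw [h₁eq, hry y hy, mul_zero, add_zero]
  have h₁row : ∀ y : Fin n, y.val < k → ∀ y', h₁ (x y) y' = h (x y) y' := by
    intro y hy y'
    rw [h₁eq]
    have : v (x y) = 0 := by
      show (if x y < r then -(h (x y) c / h r c) else 0) = 0
      rw [hxc y hy, zero_div, neg_zero, ite_self]
    rw [this, zero_mul, add_zero]
  -- the column operation
  let u : Fin n → F := fun y => if c < y then -(h₁ r y / h₁ r c) else 0
  have hu : ∀ y, ¬ c < y → u y = 0 := fun y hy => if_neg hy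
  let h₂ := h₁ * colOp c u
  have h₂eq : ∀ z y, h₂ z y = h₁ z y + h₁ z c * u y := mul_colOp c u h₁
  have h₂off : ∀ z, z ≠ r → ∀ y, h₂ z y = h₁ z y := by
    intro z hz y
    rw [h₂eq, h₁c z hz, zero_mul, add_zero]
  have h₂c : ∀ z, h₂ z c = h₁ z c := by
    intro z
    rw [h₂eq, hu c (lt_irrefl c), mul_zero, add_zero]
  have h₂r : ∀ y, y ≠ c → h₂ r y = 0 := by
    intro y hy
    rw [h₂eq]
    rcases lt_or_gt_of_ne hy with hlt | hgt
    · rw [hu y (not_lt.mpr hlt.le), mul_zero, add_zero, h₁old y hlt r]
      exact hry y hlt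
    · show h₁ r y + h₁ r c * (if c < y then -(h₁ r y / h₁ r c) else 0) = 0
      rw [if_pos hgt]
      have : h₁ r c ≠ 0 := by rw [h₁rc]; exact hr
      field_simp
      ring
  refine ⟨rowOp r v, colOp c u, rowOp_blockTriangular r v hv, colOp_blockTriangular c u hu,
    det_rowOp r v hv, det_colOp c u hu, Function.update x c r, ?_, ?_⟩
  · intro y y' hy hy' hxy
    by_cases hyc : y = c
    · by_cases hy'c : y' = c
      · rw [hyc, hy'c]
      · exfalso
        rw [hyc, Function.update_self, Function.update_of_ne hy'c] at hxy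
        have hy'k : y'.val < k := by
          have : y'.val ≠ k := fun e => hy'c (Fin.ext e)
          omega
        exact hxr y' hy'k hxy.symm
    · have hyk : y.val < k := by
        have : y.val ≠ k := fun e => hyc (Fin.ext e)
        omega
      by_cases hy'c : y' = c
      · exfalso
        rw [hy'c, Function.update_self, Function.update_of_ne hyc] at hxy
        exact hxr y hyk hxy
      · have hy'k : y'.val < k := by
          have : y'.val ≠ k := fun e => hy'c (Fin.ext e)
          omega
        rw [Function.update_of_ne hyc, Function.update_of_ne hy'c] at hxy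
        exact hinj y y' hyk hy'k hxy
  · intro y hy
    show h₂ (Function.update x c r y) y ≠ 0 ∧ (∀ z, z ≠ Function.update x c r y → h₂ z y = 0) ∧
      ∀ y', y' ≠ y → h₂ (Function.update x c r y) y' = 0
    by_cases hyc : y = c
    · rw [hyc, Function.update_self]
      refine ⟨?_, ?_, ?_⟩
      · rw [h₂c, h₁rc]
        exact hr
      · intro z hz
        rw [h₂c]
        exact h₁c z hz
      · intro y' hy'
        exact h₂r y' hy'
    · have hyk : y.val < k := by
        have : y.val ≠ k := fun e => hyc (Fin.ext e)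
        omega
      rw [Function.update_of_ne hyc]
      obtain ⟨g1, g2, g3⟩ := hcol y hyk
      refine ⟨?_, ?_, ?_⟩
      · rw [h₂off _ (hxr y hyk), h₁old y hyk]
        exact g1
      · intro z hz
        by_cases hzr : z = r
        · rw [hzr]
          exact h₂r y hyc
        · rw [h₂off z hzr, h₁old y hyk]
          exact g2 z hz
      · intro y' hy'
        rw [h₂off _ (hxr y hyk), h₁row y hyk]
        exact g3 y' hy'

/-- the permutation matrices in the general linear group -/
noncomputable def Wgl (n : ℕ) (F : Type*) [Field F] : Equiv.Perm (Fin n) →* GL (Fin n) F :=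
  (Matrix.permMatrixHom (R := F)).toHomUnits

theorem Wgl_val (w : Equiv.Perm (Fin n)) :
    ((Wgl n F w : GL (Fin n) F) : Matrix (Fin n) (Fin n) F) = permMatrixHom (R := F) w := rfl

theorem Wgl_apply (w : Equiv.Perm (Fin n)) (z y : Fin n) :
    ((Wgl n F w : GL (Fin n) F) : Matrix (Fin n) (Fin n) F) z y = if w.symm z = y then 1 else 0 := by
  rw [Wgl_val]
  exact Cfsg.Agent.Lib.Helper6.BW.permMatrixHom_entry' w z y

theorem exists_good (g : GL (Fin n) F) : ∀ k, k ≤ n →
    ∃ b b' : GL (Fin n) F, b ∈ upperTriangularGL n F ∧ b' ∈ upperTriangularGL n F ∧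
      ∃ x, GoodUpTo k ((b * g * b' : GL (Fin n) F) : Matrix (Fin n) (Fin n) F) x := by
  intro k
  induction k with
  | zero =>
    intro _
    refine ⟨1, 1, Subgroup.one_mem _, Subgroup.one_mem _, id, ?_, ?_⟩
    · intro y y' hy
      exact absurd hy (Nat.not_lt_zero _)
    · intro y hy
      exact absurd hy (Nat.not_lt_zero _)
  | succ k ih =>
    intro hk
    obtain ⟨b, b', hb, hb', x, hx⟩ := ih (by omega)
    have hdet : ((b * g * b' : GL (Fin n) F) : Matrix (Fin n) (Fin n) F).det ≠ 0 := by
      rw [← Matrix.GeneralLinearGroup.val_det_apply]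
      exact Units.ne_zero _
    obtain ⟨R, C, hR, hC, hRd, hCd, x', hx'⟩ := good_step k (by omega) _ hdet x hx
    let Rg : GL (Fin n) F := Matrix.GeneralLinearGroup.mkOfDetNeZero R (by rw [hRd]; exact one_ne_zero)
    let Cg : GL (Fin n) F := Matrix.GeneralLinearGroup.mkOfDetNeZero C (by rw [hCd]; exact one_ne_zero)
    refine ⟨Rg * b, b' * Cg, Subgroup.mul_mem _ hR hb, Subgroup.mul_mem _ hb' hC, x', ?_⟩
    have e : ((Rg * b * g * (b' * Cg) : GL (Fin n) F) : Matrix (Fin n) (Fin n) F) =
        R * ((b * g * b' : GL (Fin n) F) : Matrix (Fin n) (Fin n) F) * C := by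
      have e1 : Rg * b * g * (b' * Cg) = Rg * (b * g * b') * Cg := by group
      rw [e1, Units.val_mul, Units.val_mul]
      rfl
    rw [e]
    exact hx'

/-- the Bruhat decomposition (existence) -/
theorem bruhat_exists (g : GL (Fin n) F) :
    ∃ b ∈ upperTriangularGL n F, ∃ w : Equiv.Perm (Fin n), ∃ b' ∈ upperTriangularGL n F,
      g = b * Wgl n F w * b' := by
  classical
  obtain ⟨b, b', hb, hb', x, hinj, hcol⟩ := exists_good g n le_rfl
  set h : Matrix (Fin n) (Fin n) F := ((b * g * b' : GL (Fin n) F) : Matrix (Fin n) (Fin n) F)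
    with hh
  have hxinj : Function.Injective x := fun y y' hyy' => hinj y y' y.2 y'.2 hyy'
  have hxbij : Function.Bijective x := Finite.injective_iff_bijective.mp hxinj
  let w : Equiv.Perm (Fin n) := Equiv.ofBijective x hxbij
  let d : Fin n → F := fun y => h (x y) y
  have hd : (Matrix.diagonal d).det ≠ 0 := by
    rw [Matrix.det_diagonal, Finset.prod_ne_zero_iff]
    intro y _
    exact (hcol y y.2).1
  let D : GL (Fin n) F := Matrix.GeneralLinearGroup.mkOfDetNeZero (Matrix.diagonal d) hd
  have hD : D ∈ upperTriangularGL n F := Matrix.blockTriangular_diagonal d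
  have key : b * g * b' = Wgl n F w * D := by
    apply Units.ext
    ext z y
    rw [Units.val_mul]
    show h z y = (((Wgl n F w : GL (Fin n) F) : Matrix (Fin n) (Fin n) F) * Matrix.diagonal d) z y
    rw [Matrix.mul_diagonal, Wgl_apply]
    by_cases hz : z = x y
    · have : w.symm z = y := by
        rw [Equiv.symm_apply_eq]
        exact hz
      rw [if_pos this, one_mul, hz]
    · have : w.symm z ≠ y := by
        intro e
        apply hz
        rw [Equiv.symm_apply_eq] at e
        exact e
      rw [if_neg this, zero_mul]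
      exact (hcol y y.2).2.1 z hz
  refine ⟨b⁻¹, Subgroup.inv_mem _ hb, w, D * b'⁻¹, Subgroup.mul_mem _ hD (Subgroup.inv_mem _ hb'),
    ?_⟩
  have e : g = b⁻¹ * (b * g * b') * b'⁻¹ := by group
  rw [e, key]
  group

end Cfsg.Agent.Lib.Helper6.Flg
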