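import Mathlib
import Cfsg.Prelude.Def_Blocks
import Cfsg.Agent.Lib.Helper6.BlkCover

/-! # Group theory for the Brauer–Leonard situation: abelian Sylow subgroup with a
semiregular action of `N/C` -/

set_option autoImplicit false
set_option linter.unusedSectionVars false
open Cfsg

namespace Cfsg.Agent.Lib.Helper6

section nilp

variable {H : Type*} [Group H] [Finite H] {p : ℕ} [Fact p.Prime]

/-- Burnside's normal complement theorem in terms of the `p'`-core -/
theorem pPrimeCore_of_normalizer_le_centralizer (Q : Sylow p H)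
    (hNC : Subgroup.normalizer ((Q : Subgroup H) : Set H)
      ≤ Subgroup.centralizer ((Q : Subgroup H) : Set H)) :
    (Cfsg.pPrimeCore p H).index = Nat.card Q ∧
      ∀ v : H, ¬ p ∣ orderOf v ↔ v ∈ Cfsg.pPrimeCore p H := by
  classical
  have hp : p.Prime := Fact.out
  obtain ⟨K, hK⟩ : ∃ K : Subgroup H, K = (MonoidHom.transferSylow Q hNC).ker := ⟨_, rfl⟩
  have hcompl : Subgroup.IsComplement' K (Q : Subgroup H) := by
    rw [hK]; exact MonoidHom.ker_transferSylow_isComplement' Q hNC
  have hKidx : K.index = Nat.card Q := hcompl.symm.index_eq_card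
  have hKcop : (Nat.card K).Coprime p := by
    rw [Nat.coprime_comm, Nat.Prime.coprime_iff_not_dvd hp, hK]
    exact MonoidHom.not_dvd_card_ker_transferSylow Q hNC
  have hKn : K.Normal := by rw [hK]; exact MonoidHom.normal_ker _
  have hle : K ≤ Cfsg.pPrimeCore p H := le_sSup ⟨hKn, hKcop⟩
  obtain ⟨hNn, hNc⟩ := pPrimeCore_normal_and_coprime (G := H) p
  obtain ⟨k, hk⟩ := IsPGroup.iff_card.mp Q.2
  have hidx : (Cfsg.pPrimeCore p H).index = Nat.card Q := by
    have hdvd := Subgroup.index_dvd_of_le hle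
    rw [hKidx] at hdvd
    have h1 := (Cfsg.pPrimeCore p H).card_mul_index
    have h2 : Nat.card Q ∣ Nat.card H := Subgroup.card_subgroup_dvd_card _
    rw [← h1] at h2
    have h3 : Nat.Coprime (Nat.card Q) (Nat.card (Cfsg.pPrimeCore p H)) := by
      rw [hk]; exact Nat.Coprime.pow_left k hNc.symm
    exact Nat.dvd_antisymm hdvd (h3.dvd_of_dvd_mul_left h2)
  refine ⟨hidx, ?_⟩
  intro v
  constructor
  · intro hv
    have hcardq : Nat.card (H ⧸ Cfsg.pPrimeCore p H) = p ^ k := by
      rw [← Subgroup.index_eq_card, hidx, hk]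
    have h1 : ((QuotientGroup.mk' (Cfsg.pPrimeCore p H)) v) ^ (p ^ k) = 1 := by
      rw [← hcardq]; exact pow_card_eq_one'
    have h2 : ((QuotientGroup.mk' (Cfsg.pPrimeCore p H)) v) ^ (orderOf v) = 1 := by
      rw [← map_pow, pow_orderOf_eq_one, map_one]
    have h3 : (QuotientGroup.mk' (Cfsg.pPrimeCore p H)) v = 1 := by
      have hc : Nat.Coprime (p ^ k) (orderOf v) :=
        Nat.Coprime.pow_left k ((Nat.Prime.coprime_iff_not_dvd hp).mpr hv)
      have := pow_gcd_eq_one.mpr ⟨h1, h2⟩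
      rwa [hc.gcd_eq_one, pow_one] at this
    exact (QuotientGroup.eq_one_iff v).mp h3
  · intro hv hdvd
    have h1 : orderOf v ∣ Nat.card (Cfsg.pPrimeCore p H) := by
      have := orderOf_dvd_natCard (⟨v, hv⟩ : Cfsg.pPrimeCore p H)
      rwa [Subgroup.orderOf_mk] at this
    exact hp.one_lt.ne' (Nat.Coprime.eq_one_of_dvd hNc.symm (hdvd.trans h1))

end nilp

section BL

variable {G : Type*} [Group G] [Finite G] {p : ℕ} [Fact p.Prime]

theorem mul_comm_of_mem_sylow (P : Sylow p G) (hab : IsMulCommutative P) (a b : G)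
    (ha : a ∈ (P : Subgroup G)) (hb : b ∈ (P : Subgroup G)) : a * b = b * a := by
  have := hab.is_comm.comm (⟨a, ha⟩ : (P : Subgroup G)) ⟨b, hb⟩
  exact congrArg Subtype.val this

/-- the centralizer of a nonidentity element of `P` has a normal `p`-complement -/
theorem centralizer_pPrimeCore_data (P : Sylow p G) (hab : IsMulCommutative P)
    (hfrob : ∀ y : G, y ∈ (P : Subgroup G) → y ≠ 1 →
      Subgroup.centralizer ({y} : Set G) ⊓ Subgroup.normalizer ((P : Subgroup G) : Set G)
        = Subgroup.centralizer ((P : Subgroup G) : Set G))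
    (y : G) (hy : y ∈ (P : Subgroup G)) (hy1 : y ≠ 1) :
    (Cfsg.pPrimeCore p (Subgroup.centralizer ({y} : Set G))).index = Nat.card P ∧
    ∀ v : Subgroup.centralizer ({y} : Set G), ¬ p ∣ orderOf v ↔
      v ∈ Cfsg.pPrimeCore p (Subgroup.centralizer ({y} : Set G)) := by
  classical
  obtain ⟨H, hH⟩ : ∃ H : Subgroup G, H = Subgroup.centralizer ({y} : Set G) := ⟨_, rfl⟩
  rw [← hH]
  have hmemH : ∀ g : G, g ∈ H ↔ y * g = g * y := by
    intro g
    rw [hH, Subgroup.mem_centralizer_iff]
    simp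
  have hPH : (P : Subgroup G) ≤ H := by
    intro w hw
    rw [hmemH]
    exact mul_comm_of_mem_sylow P hab y w hy hw
  obtain ⟨Q, hQ⟩ : ∃ Q : Sylow p H, (Q : Subgroup H) = (P : Subgroup G).subgroupOf H :=
    ⟨P.subtype hPH, Sylow.coe_subtype _ hPH⟩
  have hmemQ : ∀ h : H, h ∈ (Q : Subgroup H) ↔ (h : G) ∈ (P : Subgroup G) := by
    intro h
    rw [hQ, Subgroup.mem_subgroupOf]
  have hNC : Subgroup.normalizer ((Q : Subgroup H) : Set H)
      ≤ Subgroup.centralizer ((Q : Subgroup H) : Set H) := by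
    intro h hh
    rw [Subgroup.mem_normalizer_iff] at hh
    have hN : (h : G) ∈ Subgroup.normalizer ((P : Subgroup G) : Set G) := by
      rw [Subgroup.mem_normalizer_iff]
      intro g
      constructor
      · intro hg
        have := (hh ⟨g, hPH hg⟩).mp ((hmemQ _).mpr hg)
        exact (hmemQ _).mp this
      · intro hg
        have hgH : g ∈ H := by
          have h1 : (h : G)⁻¹ * ((h : G) * g * (h : G)⁻¹) * (h : G) ∈ H :=
            H.mul_mem (H.mul_mem (H.inv_mem h.2) (hPH hg)) h.2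
          have h2 : (h : G)⁻¹ * ((h : G) * g * (h : G)⁻¹) * (h : G) = g := by group
          rwa [h2] at h1
        have := (hh ⟨g, hgH⟩).mpr ((hmemQ _).mpr hg)
        exact (hmemQ _).mp this
    have hC : (h : G) ∈ Subgroup.centralizer ((P : Subgroup G) : Set G) := by
      rw [← hfrob y hy hy1]
      refine ⟨?_, hN⟩
      rw [← hH]; exact h.2
    rw [Subgroup.mem_centralizer_iff]
    intro q hq
    apply Subtype.ext
    rw [Subgroup.coe_mul, Subgroup.coe_mul]
    rw [Subgroup.mem_centralizer_iff] at hC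
    exact hC (q : G) ((hmemQ q).mp hq)
  have hcardQ : Nat.card Q = Nat.card P := by
    have : Nat.card (Q : Subgroup H) = Nat.card ((P : Subgroup G).subgroupOf H) := by rw [hQ]
    rw [this]
    exact Nat.card_congr (Subgroup.subgroupOfEquivOfLe hPH).toEquiv
  have := pPrimeCore_of_normalizer_le_centralizer Q hNC
  rw [hcardQ] at this
  exact this

/-- `N_G(P)` controls fusion in the abelian Sylow subgroup `P` -/
theorem bl_exists_normalizer_conj (P : Sylow p G) (hab : IsMulCommutative P) (y y' : G)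
    (hy : y ∈ (P : Subgroup G)) (hy' : y' ∈ (P : Subgroup G)) (hc : IsConj y y') :
    ∃ n ∈ Subgroup.normalizer ((P : Subgroup G) : Set G), n * y * n⁻¹ = y' := by
  obtain ⟨c, hc⟩ := isConj_iff.mp hc
  have h1 : (c⁻¹)⁻¹ * y * c⁻¹ ∈ (P : Subgroup G) := by rw [inv_inv, hc]; exact hy'
  obtain ⟨n, hn, hn2⟩ := Sylow.conj_eq_normalizer_conj_of_mem P y c⁻¹ hy h1
  refine ⟨n⁻¹, Subgroup.inv_mem _ hn, ?_⟩
  rw [inv_inv, ← hn2, inv_inv, hc]

/-- orbit–stabilizer for a subgroup acting through a function -/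
theorem card_orbit_eq_relIndex {X : Type*} (N C : Subgroup G) (act : ↥N → X → X)
    (hact1 : ∀ x, act 1 x = x) (hactmul : ∀ a b : ↥N, ∀ x, act (a * b) x = act a (act b x))
    (x₀ : X) (hstab : ∀ n : ↥N, act n x₀ = x₀ ↔ (n : G) ∈ C) :
    Nat.card {x : X | ∃ n : ↥N, act n x₀ = x} = C.relIndex N := by
  classical
  letI : MulAction ↥N X :=
    { smul := fun n x => act n x
      one_smul := hact1
      mul_smul := hactmul }
  have h1 : {x : X | ∃ n : ↥N, act n x₀ = x} = MulAction.orbit ↥N x₀ := by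
    ext x
    constructor
    · rintro ⟨n, rfl⟩
      exact ⟨n, rfl⟩
    · rintro ⟨n, rfl⟩
      exact ⟨n, rfl⟩
  rw [h1, Nat.card_congr (MulAction.orbitEquivQuotientStabilizer ↥N x₀),
    ← Subgroup.index_eq_card]
  have h2 : MulAction.stabilizer ↥N x₀ = C.subgroupOf N := by
    ext n
    rw [MulAction.mem_stabilizer_iff, Subgroup.mem_subgroupOf]
    exact hstab n
  rw [h2]
  rfl

end BL

end Cfsg.Agent.Lib.Helper6
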