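import Mathlib

/-! # Dihedral `2`-subgroups given by a rotation `σ` of order `N ≥ 4`: basic facts -/

set_option autoImplicit false
set_option linter.unusedSectionVars false

namespace Cfsg.Agent.Lib.Helper6.Dih

/-- `P` is dihedral of order `2N` with rotation `σ` of order `N ≥ 4`: every element of `P`
outside `⟨σ⟩` is an involution inverting `σ`. -/
structure DihData {G : Type*} [Group G] (P : Subgroup G) (σ : G) (N : ℕ) : Prop where
  four_le : 4 ≤ N
  mem : σ ∈ P
  order : orderOf σ = N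
  card : Nat.card P = 2 * N
  inv : ∀ t ∈ P, t ∉ Subgroup.zpowers σ → t * σ * t⁻¹ = σ⁻¹ ∧ t * t = 1

variable {G : Type*} [Group G] {P : Subgroup G} {σ : G} {N : ℕ}

namespace DihData

theorem zpowers_le (h : DihData P σ N) : Subgroup.zpowers σ ≤ P :=
  Subgroup.zpowers_le.mpr h.mem

theorem pow_N (h : DihData P σ N) : σ ^ N = 1 := by
  rw [← h.order]; exact pow_orderOf_eq_one σ

theorem card_zpowers (h : DihData P σ N) : Nat.card (Subgroup.zpowers σ) = N := by
  rw [Nat.card_zpowers, h.order]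

theorem exists_not_mem [Finite G] (h : DihData P σ N) : ∃ τ ∈ P, τ ∉ Subgroup.zpowers σ := by
  by_contra hcon
  push Not at hcon
  have hle : P ≤ Subgroup.zpowers σ := fun x hx => hcon x hx
  have heq : P = Subgroup.zpowers σ := le_antisymm hle h.zpowers_le
  have h1 : Nat.card P = Nat.card (Subgroup.zpowers σ) := by rw [heq]
  rw [h.card, h.card_zpowers] at h1
  have := h.four_le
  omega

theorem conj_pow' (h : DihData P σ N) {t : G} (ht : t ∈ P) (hts : t ∉ Subgroup.zpowers σ)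
    (l : ℕ) : t * σ ^ l * t⁻¹ = (σ ^ l)⁻¹ := by
  rw [← conj_pow, (h.inv t ht hts).1, inv_pow]

theorem conj_mem (h : DihData P σ N) {t s : G} (ht : t ∈ P) (hts : t ∉ Subgroup.zpowers σ)
    (hs : s ∈ Subgroup.zpowers σ) : t * s * t⁻¹ = s⁻¹ := by
  obtain ⟨k, rfl⟩ := Subgroup.mem_zpowers_iff.mp hs
  rw [← conj_zpow, (h.inv t ht hts).1, inv_zpow]

theorem comm_of_mem {s s' : G} (hs : s ∈ Subgroup.zpowers σ) (hs' : s' ∈ Subgroup.zpowers σ) :
    s * s' = s' * s := by
  obtain ⟨a, rfl⟩ := Subgroup.mem_zpowers_iff.mp hs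
  obtain ⟨b, rfl⟩ := Subgroup.mem_zpowers_iff.mp hs'
  exact ((Commute.refl σ).zpow_zpow a b).eq

theorem mem_of_commute (h : DihData P σ N) {g s : G} (hg : g ∈ P)
    (hs : s ∈ Subgroup.zpowers σ) (hss : s * s ≠ 1) (hc : g * s = s * g) :
    g ∈ Subgroup.zpowers σ := by
  by_contra hgs
  have h1 := h.conj_mem hg hgs hs
  have h2 : g * s * g⁻¹ = s := by rw [hc]; group
  rw [h2] at h1
  exact hss (mul_eq_one_iff_eq_inv.mpr h1)

theorem mem_of_sq_ne (h : DihData P σ N) {g : G} (hg : g ∈ P) (hgg : g * g ≠ 1) :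
    g ∈ Subgroup.zpowers σ := by
  by_contra hgs
  exact hgg (h.inv g hg hgs).2

theorem exists_pow [Finite G] (h : DihData P σ N) {s : G} (hs : s ∈ Subgroup.zpowers σ) :
    ∃ l < N, σ ^ l = s := by
  classical
  rw [mem_zpowers_iff_mem_range_orderOf, h.order] at hs
  obtain ⟨l, hl, rfl⟩ := Finset.mem_image.mp hs
  exact ⟨l, Finset.mem_range.mp hl, rfl⟩

theorem pow_eq_one_iff (h : DihData P σ N) (l : ℕ) : σ ^ l = 1 ↔ N ∣ l := by
  rw [← h.order]; exact orderOf_dvd_iff_pow_eq_one.symm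

theorem pow_ne_one (h : DihData P σ N) {l : ℕ} (h0 : 0 < l) (hl : l < N) : σ ^ l ≠ 1 := by
  rw [Ne, h.pow_eq_one_iff]
  intro hd
  have := Nat.le_of_dvd h0 hd
  omega

theorem sq_eq_one_iff (h : DihData P σ N) {l : ℕ} (h0 : 0 < l) (hl : l < N) :
    σ ^ l * σ ^ l = 1 ↔ 2 * l = N := by
  rw [← pow_add, h.pow_eq_one_iff]
  constructor
  · rintro ⟨c, hc⟩
    have hc1 : 1 ≤ c := by
      rcases Nat.eq_zero_or_pos c with h' | h'
      · rw [h', Nat.mul_zero] at hc; omega
      · exact h'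
    have hc2 : c < 2 := by
      by_contra hh
      push Not at hh
      have : N * 2 ≤ N * c := Nat.mul_le_mul_left N hh
      omega
    have hc3 : c = 1 := by omega
    rw [hc3, Nat.mul_one] at hc
    omega
  · intro h2
    exact ⟨1, by omega⟩

theorem sigma_sq_ne (h : DihData P σ N) : σ * σ ≠ 1 := by
  have h1 := h.pow_ne_one (l := 2) (by norm_num) (by have := h.four_le; omega)
  rwa [pow_two] at h1

theorem pow_mem (l : ℕ) : σ ^ l ∈ Subgroup.zpowers σ := Subgroup.pow_mem _ (Subgroup.mem_zpowers σ) l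

theorem inv_mul_mem (h : DihData P σ N) {x y : G} (hx : x ∈ P) (hy : y ∈ P)
    (hxs : x ∉ Subgroup.zpowers σ) (hys : y ∉ Subgroup.zpowers σ) :
    x⁻¹ * y ∈ Subgroup.zpowers σ := by
  apply h.mem_of_commute (P.mul_mem (P.inv_mem hx) hy) (Subgroup.mem_zpowers σ) h.sigma_sq_ne
  have h1 := (h.inv x hx hxs).1
  have h2 := (h.inv y hy hys).1
  have h3 : y * σ = σ⁻¹ * y := by
    calc y * σ = (y * σ * y⁻¹) * y := by group
      _ = σ⁻¹ * y := by rw [h2]
  have h4 : x⁻¹ * σ⁻¹ = σ * x⁻¹ := by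
    calc x⁻¹ * σ⁻¹ = x⁻¹ * (x * σ * x⁻¹) := by rw [h1]
      _ = σ * x⁻¹ := by group
  calc x⁻¹ * y * σ = x⁻¹ * (y * σ) := by group
    _ = x⁻¹ * (σ⁻¹ * y) := by rw [h3]
    _ = (x⁻¹ * σ⁻¹) * y := by group
    _ = (σ * x⁻¹) * y := by rw [h4]
    _ = σ * (x⁻¹ * y) := by group

theorem isConj_inv [Finite G] (h : DihData P σ N) {s : G} (hs : s ∈ Subgroup.zpowers σ) :
    IsConj s s⁻¹ := by
  obtain ⟨τ, hτ, hτs⟩ := h.exists_not_mem
  exact isConj_iff.mpr ⟨τ, h.conj_mem hτ hτs hs⟩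

/-- the unique involution of `⟨σ⟩` -/
theorem eq_of_sq_eq_one [Finite G] (h : DihData P σ N) {s : G} (hs : s ∈ Subgroup.zpowers σ)
    (hss : s * s = 1) (hs1 : s ≠ 1) : s = σ ^ (N / 2) ∧ 2 * (N / 2) = N := by
  obtain ⟨l, hl, rfl⟩ := h.exists_pow hs
  have h0 : 0 < l := by
    rcases Nat.eq_zero_or_pos l with h' | h'
    · rw [h', pow_zero] at hs1; exact absurd rfl hs1
    · exact h'
  have h2 := (h.sq_eq_one_iff h0 hl).mp hss
  have h3 : N / 2 = l := by omega
  rw [h3]
  exact ⟨rfl, h2⟩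

end DihData

open DihedralGroup in
/-- the data coming from an isomorphism with the standard dihedral group -/
theorem DihData.of_equiv (hN : 4 ≤ N) (e : P ≃* DihedralGroup N) (hσ : σ ∈ P)
    (hσo : orderOf σ = N) : DihData P σ N := by
  have hne : NeZero N := ⟨by omega⟩
  refine ⟨hN, hσ, hσo, ?_, ?_⟩
  · rw [Nat.card_congr e.toEquiv, DihedralGroup.nat_card]
  · intro t ht hts
    have hxo : orderOf (e ⟨σ, hσ⟩) = N := by
      rw [MulEquiv.orderOf_eq, Subgroup.orderOf_mk, hσo]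
    obtain ⟨i, hi⟩ : ∃ i, e ⟨σ, hσ⟩ = r i := by
      cases hx : e ⟨σ, hσ⟩ with
      | r i => exact ⟨i, rfl⟩
      | sr i =>
        rw [hx, orderOf_sr] at hxo
        omega
    have hcop : Nat.Coprime i.val N := by
      rw [hi, orderOf_r] at hxo
      have h1 : N.gcd i.val = 1 := by
        rcases Nat.div_eq_self.mp hxo with h' | h'
        · omega
        · exact h'
      rw [Nat.coprime_comm]
      exact h1
    have hunit : IsUnit (i : ZMod N) := by
      have := (ZMod.isUnit_iff_coprime i.val N).mpr hcop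
      rwa [ZMod.natCast_zmod_val] at this
    obtain ⟨u, hu⟩ := hunit.exists_right_inv
    cases hy : e ⟨t, ht⟩ with
    | r j =>
      exfalso
      apply hts
      have h1 : e ⟨t, ht⟩ = e (⟨σ, hσ⟩ ^ (u * j).val) := by
        rw [map_pow, hi, hy, r_pow, ZMod.natCast_zmod_val, ← mul_assoc, hu, one_mul]
      have h2 := e.injective h1
      have h3 := congrArg Subtype.val h2
      rw [Subgroup.coe_pow] at h3
      simp only at h3
      rw [h3]
      exact Subgroup.pow_mem _ (Subgroup.mem_zpowers σ) _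
    | sr j =>
      constructor
      · have h1 : e (⟨t, ht⟩ * ⟨σ, hσ⟩ * ⟨t, ht⟩⁻¹) = e (⟨σ, hσ⟩⁻¹) := by
          rw [map_mul, map_mul, map_inv, map_inv, hi, hy, sr_mul_r, inv_sr, sr_mul_sr, inv_r]
          congr 1
          ring
        have h2 := congrArg Subtype.val (e.injective h1)
        simpa using h2
      · have h1 : e (⟨t, ht⟩ * ⟨t, ht⟩) = e 1 := by
          rw [map_mul, hy, sr_mul_self, map_one]
        have h2 := congrArg Subtype.val (e.injective h1)
        simpa using h2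

end Cfsg.Agent.Lib.Helper6.Dih
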