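import Mathlib
import Cfsg.Agent.Lib.Helper6.Dih1
import Cfsg.Agent.Lib.Helper6.BLGroup
import Cfsg.Agent.Lib.Helper1.FrobeniusPComplement
import Cfsg.Agent.Lib.Helper2.DihedralSub

/-! # Groups with dihedral Sylow `2`-subgroups: centralizers of elements of the rotation
subgroup and their fusion -/

set_option autoImplicit false
set_option linter.unusedSectionVars false
open Cfsg

namespace Cfsg.Agent.Lib.Helper6.Dih

section general

theorem card_le_two_of_forall {H : Type*} [Group H] (U : Subgroup H) [Finite U] (c₁ c₂ : H)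
    (h : ∀ x ∈ U, x = c₁ ∨ x = c₂) : Nat.card U ≤ 2 := by
  classical
  have : Fintype U := Fintype.ofFinite U
  rw [Nat.card_eq_fintype_card]
  have hinj : Function.Injective (fun x : U => decide ((x : H) = c₁)) := by
    intro x y hxy
    simp only [decide_eq_decide] at hxy
    apply Subtype.ext
    rcases h x x.2 with h1 | h1
    · rw [h1]; exact (hxy.mp h1).symm
    · rcases h y y.2 with h2 | h2
      · exact (hxy.mpr h2).trans h2.symm
      · rw [h1, h2]
  have := Fintype.card_le_of_injective _ hinj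
  simpa using this

theorem relIndex_eq_two_of_card {H : Type*} [Group H] {A B : Subgroup H} [Finite B] (hAB : A ≤ B)
    (hc : Nat.card B = 2 * Nat.card A) : A.relIndex B = 2 := by
  have h1 := (A.subgroupOf B).card_mul_index
  rw [Nat.card_congr (Subgroup.subgroupOfEquivOfLe hAB).toEquiv, hc] at h1
  have hpos : 0 < Nat.card A := by
    rcases Nat.eq_zero_or_pos (Nat.card A) with h0 | h0
    · rw [h0] at hc
      have : 0 < Nat.card B := Nat.card_pos
      omega
    · exact h0
  unfold Subgroup.relIndex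
  have h2 : Nat.card A * (A.subgroupOf B).index = Nat.card A * 2 := by rw [h1]; ring
  exact Nat.eq_of_mul_eq_mul_left hpos h2

/-- conjugating a `p`-subgroup into a given Sylow subgroup -/
theorem exists_conj_le_sylow {G : Type*} [Group G] [Finite G] {p : ℕ} [Fact p.Prime]
    (S : Sylow p G) (A : Subgroup G) (hA : IsPGroup p A) :
    ∃ c : G, ∀ x ∈ A, c * x * c⁻¹ ∈ (S : Subgroup G) := by
  obtain ⟨R, hR⟩ := hA.exists_le_sylow
  obtain ⟨c, hc⟩ := MulAction.exists_smul_eq G R S
  refine ⟨c, fun x hx => ?_⟩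
  rw [← hc, Sylow.coe_subgroup_smul]
  have := Subgroup.smul_mem_pointwise_smul x (MulAut.conj c) (R : Subgroup G) (hR hx)
  rwa [MulAut.smul_def, MulAut.conj_apply] at this

/-- odd order elements normalizing a four-subgroup containing a central involution centralize
it -/
theorem hfour_of_central {H : Type*} [Group H] [Finite H] (Q R : Subgroup H)
    (hprod : ∀ x ∈ Q, ∀ y ∈ Q, x ∉ R → y ∉ R → x⁻¹ * y ∈ R)
    (z : H) (hz1 : z ≠ 1) (hzc : ∀ g : H, g * z = z * g)
    (hzR : ∀ s ∈ R, s * s = 1 → s = 1 ∨ s = z)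
    (U : Subgroup H) (hUQ : U ≤ Q) (hU : IsKleinFour U) (g : H)
    (hg : g ∈ Subgroup.normalizer (U : Set H)) (hodd : Odd (orderOf g)) :
    g ∈ Subgroup.centralizer (U : Set H) := by
  have hsq : ∀ x ∈ U, x * x = 1 := by
    intro x hx
    have := IsKleinFour.mul_self (⟨x, hx⟩ : U)
    simpa using congrArg Subtype.val this
  have hcard : Nat.card U = 4 := hU.card_four
  -- an element outside `R`
  obtain ⟨a, haU, haR⟩ : ∃ a ∈ U, a ∉ R := by
    by_contra hcon
    push Not at hcon
    have := card_le_two_of_forall U 1 z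
      (fun x hx => hzR x (hcon x hx) (hsq x hx))
    omega
  obtain ⟨b, hbU, hb1, hba⟩ : ∃ b ∈ U, b ≠ 1 ∧ b ≠ a := by
    by_contra hcon
    push Not at hcon
    have := card_le_two_of_forall U 1 a (fun x hx => by
      by_cases h1 : x = 1
      · exact Or.inl h1
      · exact Or.inr (hcon x hx h1))
    omega
  have hzU : z ∈ U := by
    by_cases hbR : b ∈ R
    · rcases hzR b hbR (hsq b hbU) with h | h
      · exact absurd h hb1
      · rw [← h]; exact hbU
    · have h1 := hprod a (hUQ haU) b (hUQ hbU) haR hbR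
      have h2 : a⁻¹ * b ∈ U := U.mul_mem (U.inv_mem haU) hbU
      rcases hzR _ h1 (hsq _ h2) with h | h
      · exfalso
        apply hba
        have : b = a * (a⁻¹ * b) := by group
        rw [this, h, mul_one]
      · rw [← h]; exact h2
  have hzz : z * z = 1 := hsq z hzU
  rw [Subgroup.mem_centralizer_iff]
  intro x hx
  have hxU : x ∈ U := hx
  have hyU : g * x * g⁻¹ ∈ U := (Subgroup.mem_normalizer_iff.mp hg x).mp hxU
  by_cases hx1 : x = 1
  · rw [hx1]; simp
  by_cases hxz : x = z
  · rw [hxz]; exact (hzc g).symm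
  by_contra hne
  have hyx : g * x * g⁻¹ ≠ x := by
    intro h
    apply hne
    calc x * g = (g * x * g⁻¹) * g := by rw [h]
      _ = g * x := by group
  have hy1 : g * x * g⁻¹ ≠ 1 := by
    intro h
    apply hx1
    have : x = g⁻¹ * (g * x * g⁻¹) * g := by group
    rw [this, h]; group
  have hyz : g * x * g⁻¹ ≠ z := by
    intro h
    apply hxz
    have : x = g⁻¹ * (g * x * g⁻¹) * g := by group
    rw [this, h]
    have := hzc g
    calc g⁻¹ * z * g = g⁻¹ * (z * g) := by group
      _ = g⁻¹ * (g * z) := by rw [this]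
      _ = z := by group
  have key := IsKleinFour.eq_mul_of_ne_all (G := U) (x := ⟨z, hzU⟩) (y := ⟨x, hxU⟩)
    (z := ⟨g * x * g⁻¹, hyU⟩)
    (fun h => hz1 (congrArg Subtype.val h))
    (fun h => hx1 (congrArg Subtype.val h))
    (fun h => hxz (congrArg Subtype.val h).symm)
    (fun h => hy1 (congrArg Subtype.val h))
    (fun h => hyz (congrArg Subtype.val h))
    (fun h => hyx (congrArg Subtype.val h))
  have key' : g * x * g⁻¹ = z * x := by
    simpa using congrArg Subtype.val key
  -- `g ^ 2` commutes with `x`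
  have h2 : g ^ 2 * x * (g ^ 2)⁻¹ = x := by
    calc g ^ 2 * x * (g ^ 2)⁻¹ = g * (g * x * g⁻¹) * g⁻¹ := by rw [pow_two]; group
      _ = g * (z * x) * g⁻¹ := by rw [key']
      _ = (g * z) * x * g⁻¹ := by group
      _ = (z * g) * x * g⁻¹ := by rw [hzc g]
      _ = z * (g * x * g⁻¹) := by group
      _ = z * (z * x) := by rw [key']
      _ = (z * z) * x := by group
      _ = x := by rw [hzz, one_mul]
  have hc2 : Commute (g ^ 2) x := by
    show g ^ 2 * x = x * g ^ 2
    calc g ^ 2 * x = (g ^ 2 * x * (g ^ 2)⁻¹) * g ^ 2 := by group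
      _ = x * g ^ 2 := by rw [h2]
  obtain ⟨q, hq⟩ := hodd
  have hc3 : Commute ((g ^ 2) ^ (q + 1)) x := hc2.pow_left _
  rw [← pow_mul, show 2 * (q + 1) = orderOf g + 1 by omega, pow_succ, pow_orderOf_eq_one,
    one_mul] at hc3
  exact hne hc3.eq.symm

/-- a group with a "dihedral" Sylow `2`-subgroup whose central involution is central in the whole
group has a normal `2`-complement -/
theorem index_pPrimeCore_of_dih {H : Type*} [Group H] [Finite H] (Q : Sylow 2 H) (R : Subgroup H)
    (hRQ : R ≤ (Q : Subgroup H)) (hRc : IsCyclic R) (hidx : R.relIndex (Q : Subgroup H) = 2)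
    (hinv : ∀ x ∈ (Q : Subgroup H), x ∉ R → x * x = 1)
    (hprod : ∀ x ∈ (Q : Subgroup H), ∀ y ∈ (Q : Subgroup H), x ∉ R → y ∉ R → x⁻¹ * y ∈ R)
    (z : H) (hz1 : z ≠ 1) (hzc : ∀ g : H, g * z = z * g)
    (hzR : ∀ s ∈ R, s * s = 1 → s = 1 ∨ s = z) :
    ∃ k : ℕ, (Cfsg.pPrimeCore 2 H).index = 2 ^ k := by
  have : Fact (Nat.Prime 2) := ⟨Nat.prime_two⟩
  have hfrob := (Cfsg.Agent.Lib.Helper1.frobenius_normal_p_complement Q).mpr (by
    intro Q' hQ' g hg hgo
    have hodd : Odd (orderOf g) := Nat.Coprime.odd_of_right hgo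
    exact Cfsg.Agent.Lib.Helper2.DihedralSub.odd_normalizer_le_centralizer (Q : Subgroup H) R Q.2
      hRQ hRc hidx (fun x hx hxR => by rw [pow_two]; exact hinv x hx hxR) hprod
      (fun U hU hUk g hg hodd =>
        hfour_of_central (Q : Subgroup H) R hprod z hz1 hzc hzR U hU hUk g hg hodd)
      Q' hQ' g hg hodd)
  obtain ⟨K, hKn, hcompl⟩ := hfrob
  have hKidx : K.index = Nat.card Q := hcompl.symm.index_eq_card
  have hKcop : (Nat.card K).Coprime 2 := by
    rw [Nat.coprime_comm, Nat.Prime.coprime_iff_not_dvd Nat.prime_two,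
      ← hcompl.index_eq_card]
    exact Q.not_dvd_index
  have hle : K ≤ Cfsg.pPrimeCore 2 H := le_sSup ⟨hKn, hKcop⟩
  obtain ⟨k, hk⟩ := IsPGroup.iff_card.mp Q.2
  have hdvd := Subgroup.index_dvd_of_le hle
  rw [hKidx, hk] at hdvd
  obtain ⟨j, _, hj⟩ := (Nat.dvd_prime_pow Nat.prime_two).mp hdvd
  exact ⟨j, hj⟩

end general

section sylow

variable {G : Type*} [Group G] [Finite G] {σ : G} {N : ℕ}

/-- a `2`-subgroup containing `s` and centralizing it has order at most `N` -/
theorem card_le_of_centralizes (P : Sylow 2 G) (h : DihData (P : Subgroup G) σ N) {s : G}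
    (hss : s * s ≠ 1) (A : Subgroup G) (hA : IsPGroup 2 A)
    (hAs : ∀ x ∈ A, x * s = s * x) (hsA : s ∈ A) : Nat.card A ≤ N := by
  have : Fact (Nat.Prime 2) := ⟨Nat.prime_two⟩
  obtain ⟨c, hc⟩ := exists_conj_le_sylow P A hA
  have hs'P : c * s * c⁻¹ ∈ (P : Subgroup G) := hc s hsA
  have hs'2 : (c * s * c⁻¹) * (c * s * c⁻¹) ≠ 1 := by
    intro h1
    apply hss
    have : s * s = c⁻¹ * ((c * s * c⁻¹) * (c * s * c⁻¹)) * c := by group
    rw [this, h1]; group
  have hs'S := h.mem_of_sq_ne hs'P hs'2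
  have hmem : ∀ x : A, c * (x : G) * c⁻¹ ∈ Subgroup.zpowers σ := by
    intro x
    apply h.mem_of_commute (hc x x.2) hs'S hs'2
    have := hAs x x.2
    calc c * (x : G) * c⁻¹ * (c * s * c⁻¹) = c * ((x : G) * s) * c⁻¹ := by group
      _ = c * (s * (x : G)) * c⁻¹ := by rw [this]
      _ = c * s * c⁻¹ * (c * (x : G) * c⁻¹) := by group
  have hinj : Function.Injective
      (fun x : A => (⟨c * (x : G) * c⁻¹, hmem x⟩ : Subgroup.zpowers σ)) := by
    intro x y hxy
    have h1 : c * (x : G) * c⁻¹ = c * (y : G) * c⁻¹ := congrArg Subtype.val hxy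
    apply Subtype.ext
    have : (x : G) = c⁻¹ * (c * (x : G) * c⁻¹) * c := by group
    rw [this, h1]; group
  have := Nat.card_le_card_of_injective _ hinj
  rwa [h.card_zpowers] at this

theorem zpowers_le_centralizer {s : G} (hs : s ∈ Subgroup.zpowers σ) :
    Subgroup.zpowers σ ≤ Subgroup.centralizer ({s} : Set G) := by
  intro x hx
  rw [Subgroup.mem_centralizer_singleton_iff]
  exact DihData.comm_of_mem hx hs

/-- the rotation subgroup is a Sylow `2`-subgroup of the centralizer of an element of order at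
least four -/
theorem exists_sylow_centralizer (P : Sylow 2 G) (h : DihData (P : Subgroup G) σ N) {s : G}
    (hs : s ∈ Subgroup.zpowers σ) (hss : s * s ≠ 1) :
    ∃ Q : Sylow 2 (Subgroup.centralizer ({s} : Set G)),
      (Q : Subgroup (Subgroup.centralizer ({s} : Set G)))
        = (Subgroup.zpowers σ).subgroupOf (Subgroup.centralizer ({s} : Set G)) := by
  have : Fact (Nat.Prime 2) := ⟨Nat.prime_two⟩
  have hSC := zpowers_le_centralizer (σ := σ) hs
  have hS2 : IsPGroup 2 (Subgroup.zpowers σ) := P.2.to_le h.zpowers_le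
  have hA2 : IsPGroup 2 ((Subgroup.zpowers σ).subgroupOf (Subgroup.centralizer ({s} : Set G))) :=
    hS2.of_equiv (Subgroup.subgroupOfEquivOfLe hSC).symm
  obtain ⟨Q, hQ⟩ := hA2.exists_le_sylow
  refine ⟨Q, ?_⟩
  symm
  apply Subgroup.eq_of_le_of_card_ge hQ
  rw [Nat.card_congr (Subgroup.subgroupOfEquivOfLe hSC).toEquiv, h.card_zpowers]
  have h1 := card_le_of_centralizes P h hss
    ((Q : Subgroup (Subgroup.centralizer ({s} : Set G))).map
      (Subgroup.centralizer ({s} : Set G)).subtype) (Q.2.map _) ?_ ?_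
  · rwa [Subgroup.card_map_of_injective (Subgroup.subtype_injective _)] at h1
  · rintro x ⟨y, _, rfl⟩
    have := y.2
    rw [Subgroup.mem_centralizer_singleton_iff] at this
    exact this
  · refine ⟨⟨s, hSC hs⟩, ?_, rfl⟩
    apply hQ
    rw [Subgroup.mem_subgroupOf]
    exact hs

/-- data on the centralizer of an element of order at least four of the rotation subgroup -/
theorem centralizer_data_of_sq_ne (P : Sylow 2 G) (h : DihData (P : Subgroup G) σ N) {s : G}
    (hs : s ∈ Subgroup.zpowers σ) (hss : s * s ≠ 1) :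
    (∃ j : ℕ, (Cfsg.pPrimeCore 2 (Subgroup.centralizer ({s} : Set G))).index = 2 ^ j) ∧
      2 ^ (Nat.card (Subgroup.centralizer ({s} : Set G))).factorization 2 = N := by
  have : Fact (Nat.Prime 2) := ⟨Nat.prime_two⟩
  obtain ⟨Q, hQ⟩ := exists_sylow_centralizer P h hs hss
  have hSC := zpowers_le_centralizer (σ := σ) hs
  have hcardQ : Nat.card Q = N := by
    rw [hQ, Nat.card_congr (Subgroup.subgroupOfEquivOfLe hSC).toEquiv, h.card_zpowers]
  have hcyc : IsCyclic (Q : Subgroup (Subgroup.centralizer ({s} : Set G))) := by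
    rw [hQ]
    exact isCyclic_of_surjective (Subgroup.subgroupOfEquivOfLe hSC).symm
      (Subgroup.subgroupOfEquivOfLe hSC).symm.surjective
  have h2dvd : 2 ∣ Nat.card (Subgroup.centralizer ({s} : Set G)) := by
    have h1 : Nat.card Q ∣ Nat.card (Subgroup.centralizer ({s} : Set G)) :=
      Subgroup.card_subgroup_dvd_card _
    rw [hcardQ] at h1
    have h3 : 2 ∣ N := by
      have h4 := h.card
      have h5 := Sylow.card_eq_multiplicity P
      rw [h4] at h5
      have hfl := h.four_le
      rcases Nat.eq_zero_or_pos ((Nat.card G).factorization 2) with h0 | h0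
      · rw [h0] at h5; omega
      · obtain ⟨e, he⟩ := Nat.exists_eq_succ_of_ne_zero h0.ne'
        rw [he, pow_succ] at h5
        have h6 : N = 2 ^ e := by omega
        rcases Nat.eq_zero_or_pos e with h0' | h0'
        · rw [h0'] at h6; omega
        · rw [h6]; exact dvd_pow_self 2 h0'.ne'
    exact h3.trans h1
  have hmin : (Nat.card (Subgroup.centralizer ({s} : Set G))).minFac = 2 :=
    (Nat.minFac_eq_two_iff _).mpr h2dvd
  have hNC := IsCyclic.normalizer_le_centralizer hmin hcyc
  have key := (pPrimeCore_of_normalizer_le_centralizer Q hNC).1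
  obtain ⟨k, hk⟩ := IsPGroup.iff_card.mp Q.2
  refine ⟨⟨k, by rw [key, hk]⟩, ?_⟩
  rw [← Sylow.card_eq_multiplicity Q, hcardQ]

/-- data on the centralizer of the involution of the rotation subgroup -/
theorem centralizer_data_of_sq_eq (P : Sylow 2 G) (h : DihData (P : Subgroup G) σ N) {z : G}
    (hz : z ∈ Subgroup.zpowers σ) (hzz : z * z = 1) (hz1 : z ≠ 1) :
    (∃ j : ℕ, (Cfsg.pPrimeCore 2 (Subgroup.centralizer ({z} : Set G))).index = 2 ^ j) ∧
      2 ^ (Nat.card (Subgroup.centralizer ({z} : Set G))).factorization 2 = 2 * N := by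
  have : Fact (Nat.Prime 2) := ⟨Nat.prime_two⟩
  -- `z` is central in `P`
  have hPC : (P : Subgroup G) ≤ Subgroup.centralizer ({z} : Set G) := by
    intro x hx
    rw [Subgroup.mem_centralizer_singleton_iff]
    by_cases hxS : x ∈ Subgroup.zpowers σ
    · exact DihData.comm_of_mem hxS hz
    · have h1 := h.conj_mem hx hxS hz
      have h2 : z⁻¹ = z := by
        rw [inv_eq_iff_mul_eq_one]; exact hzz
      rw [h2] at h1
      calc x * z = (x * z * x⁻¹) * x := by group
        _ = z * x := by rw [h1]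
  have hSC := zpowers_le_centralizer (σ := σ) hz
  obtain ⟨Q, hQ⟩ : ∃ Q : Sylow 2 (Subgroup.centralizer ({z} : Set G)),
      (Q : Subgroup (Subgroup.centralizer ({z} : Set G)))
        = (P : Subgroup G).subgroupOf (Subgroup.centralizer ({z} : Set G)) :=
    ⟨P.subtype hPC, Sylow.coe_subtype _ hPC⟩
  have hcardQ : Nat.card Q = 2 * N := by
    rw [hQ, Nat.card_congr (Subgroup.subgroupOfEquivOfLe hPC).toEquiv, h.card]
  have hmemQ : ∀ x : Subgroup.centralizer ({z} : Set G),
      x ∈ (Q : Subgroup (Subgroup.centralizer ({z} : Set G))) ↔ (x : G) ∈ (P : Subgroup G) := by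
    intro x; rw [hQ, Subgroup.mem_subgroupOf]
  obtain ⟨R, hR⟩ : ∃ R : Subgroup (Subgroup.centralizer ({z} : Set G)),
      R = (Subgroup.zpowers σ).subgroupOf (Subgroup.centralizer ({z} : Set G)) := ⟨_, rfl⟩
  have hmemR : ∀ x : Subgroup.centralizer ({z} : Set G),
      x ∈ R ↔ (x : G) ∈ Subgroup.zpowers σ := by
    intro x; rw [hR, Subgroup.mem_subgroupOf]
  have hRQ : R ≤ (Q : Subgroup (Subgroup.centralizer ({z} : Set G))) := by
    intro x hx
    rw [hmemQ]
    exact h.zpowers_le ((hmemR x).mp hx)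
  have hRc : IsCyclic R := by
    rw [hR]
    exact isCyclic_of_surjective (Subgroup.subgroupOfEquivOfLe hSC).symm
      (Subgroup.subgroupOfEquivOfLe hSC).symm.surjective
  have hcardR : Nat.card R = N := by
    rw [hR, Nat.card_congr (Subgroup.subgroupOfEquivOfLe hSC).toEquiv, h.card_zpowers]
  have hidx : R.relIndex (Q : Subgroup (Subgroup.centralizer ({z} : Set G))) = 2 :=
    relIndex_eq_two_of_card hRQ (by rw [hcardQ, hcardR])
  have key := index_pPrimeCore_of_dih Q R hRQ hRc hidx
    (fun x hx hxR => by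
      have h1 := (h.inv (x : G) ((hmemQ x).mp hx) (fun hh => hxR ((hmemR x).mpr hh))).2
      apply Subtype.ext
      simpa using h1)
    (fun x hx y hy hxR hyR => by
      rw [hmemR]
      have := h.inv_mul_mem ((hmemQ x).mp hx) ((hmemQ y).mp hy)
        (fun hh => hxR ((hmemR x).mpr hh)) (fun hh => hyR ((hmemR y).mpr hh))
      simpa using this)
    ⟨z, hSC hz⟩ (fun hh => hz1 (congrArg Subtype.val hh))
    (fun g => by
      apply Subtype.ext
      have := g.2
      rw [Subgroup.mem_centralizer_singleton_iff] at this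
      simpa using this)
    (fun s hs hss => by
      have hsS := (hmemR s).mp hs
      have hss' : (s : G) * (s : G) = 1 := by
        simpa using congrArg Subtype.val hss
      by_cases hs1 : (s : G) = 1
      · left; apply Subtype.ext; simpa using hs1
      · right
        apply Subtype.ext
        have h1 := (h.eq_of_sq_eq_one hsS hss' hs1).1
        have h2 := (h.eq_of_sq_eq_one hz hzz hz1).1
        simp only
        rw [h1, h2])
  refine ⟨key, ?_⟩
  rw [← Sylow.card_eq_multiplicity Q, hcardQ]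

end sylow

section fusion

variable {G : Type*} [Group G] [Finite G] {σ : G} {N : ℕ}

/-- fusion of elements of the rotation subgroup is controlled by `P` -/
theorem conj_eq_or_inv (P : Sylow 2 G) (h : DihData (P : Subgroup G) σ N) {s t g : G}
    (hs : s ∈ Subgroup.zpowers σ) (hss : s * s ≠ 1) (ht : t ∈ Subgroup.zpowers σ)
    (hg : g * s * g⁻¹ = t) : t = s ∨ t = s⁻¹ := by
  classical
  have : Fact (Nat.Prime 2) := ⟨Nat.prime_two⟩
  have hord : orderOf s = orderOf t := by
    rw [← hg, ← MulAut.conj_apply]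
    exact (MulEquiv.orderOf_eq (MulAut.conj g) s).symm
  have hzp : Subgroup.zpowers s = Subgroup.zpowers t :=
    Cfsg.Agent.Lib.Helper2.DihedralSub.zpowers_eq_of_orderOf_eq (Subgroup.zpowers σ)
      inferInstance s t hs ht hord
  obtain ⟨S₁, hS₁⟩ : ∃ S₁ : Subgroup G, S₁ = Subgroup.zpowers t := ⟨_, rfl⟩
  have hsS₁ : s ∈ S₁ := by rw [hS₁, ← hzp]; exact Subgroup.mem_zpowers s
  have htS₁ : t ∈ S₁ := by rw [hS₁]; exact Subgroup.mem_zpowers t
  have hS₁S : S₁ ≤ Subgroup.zpowers σ := by rw [hS₁]; exact Subgroup.zpowers_le.mpr ht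
  -- `g` normalizes `S₁`
  have hgN : g ∈ Subgroup.normalizer (S₁ : Set G) := by
    apply Subgroup.mem_normalizer_fintype
    intro n hn
    have hn' : n ∈ Subgroup.zpowers s := by rw [hzp, ← hS₁]; exact hn
    obtain ⟨i, rfl⟩ := Subgroup.mem_zpowers_iff.mp hn'
    rw [← conj_zpow, hg]
    show t ^ i ∈ S₁
    exact S₁.zpow_mem htS₁ i
  obtain ⟨τ, hτP, hτS⟩ := h.exists_not_mem
  have hτN : τ ∈ Subgroup.normalizer (S₁ : Set G) := by
    apply Subgroup.mem_normalizer_fintype
    intro n hn
    rw [h.conj_mem hτP hτS (hS₁S hn)]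
    exact S₁.inv_mem hn
  have htt : t * t ≠ 1 := by
    intro h1
    apply hss
    rw [← hg] at h1
    have : s * s = g⁻¹ * ((g * s * g⁻¹) * (g * s * g⁻¹)) * g := by group
    rw [this, h1]; group
  have hτC : τ ∉ Subgroup.centralizer (S₁ : Set G) := by
    intro hc
    have h1 := Subgroup.mem_centralizer_iff.mp hc t htS₁
    have h2 := h.conj_mem hτP hτS ht
    apply htt
    have h3 : τ * t * τ⁻¹ = t := by rw [← h1]; group
    rw [h3] at h2
    exact mul_eq_one_iff_eq_inv.mpr h2
  -- the index of the centralizer in the normalizer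
  have hCN : Subgroup.centralizer (S₁ : Set G) ≤ Subgroup.normalizer (S₁ : Set G) :=
    Subgroup.centralizer_le_normalizer _
  have hrdvd : (Subgroup.centralizer (S₁ : Set G)).relIndex (Subgroup.normalizer (S₁ : Set G))
      ∣ Nat.card (MulAut S₁) := by
    have key := Subgroup.card_dvd_of_injective _
      (QuotientGroup.kerLift_injective (Subgroup.normalizerMonoidHom S₁))
    rw [Subgroup.normalizerMonoidHom_ker, ← Subgroup.index_eq_card] at key
    exact key
  have hS₁c : IsCyclic S₁ := by rw [hS₁]; infer_instance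
  have hS₁2 : IsPGroup 2 S₁ := (P.2.to_le h.zpowers_le).to_le hS₁S
  obtain ⟨e, he⟩ := IsPGroup.iff_card.mp hS₁2
  have hr2 : ∃ a : ℕ, (Subgroup.centralizer (S₁ : Set G)).relIndex
      (Subgroup.normalizer (S₁ : Set G)) = 2 ^ a := by
    rw [IsCyclic.card_mulAut, he] at hrdvd
    rcases Nat.eq_zero_or_pos e with h0 | h0
    · rw [h0, pow_zero, Nat.totient_one] at hrdvd
      exact ⟨0, by rw [pow_zero]; exact Nat.dvd_one.mp hrdvd⟩
    · rw [Nat.totient_prime_pow Nat.prime_two h0] at hrdvd
      simp only [Nat.add_one_sub_one, mul_one] at hrdvd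
      obtain ⟨a, _, ha⟩ := (Nat.dvd_prime_pow Nat.prime_two).mp hrdvd
      exact ⟨a, ha⟩
  obtain ⟨a, ha⟩ := hr2
  -- `a ≤ 1`
  have hcm := (Subgroup.subgroupOf (Subgroup.centralizer (S₁ : Set G))
    (Subgroup.normalizer (S₁ : Set G))).card_mul_index
  rw [Nat.card_congr (Subgroup.subgroupOfEquivOfLe hCN).toEquiv] at hcm
  have hcm' : Nat.card (Subgroup.centralizer (S₁ : Set G)) * 2 ^ a
      = Nat.card (Subgroup.normalizer (S₁ : Set G)) := by
    rw [← ha]; exact hcm
  have hSC : Subgroup.zpowers σ ≤ Subgroup.centralizer (S₁ : Set G) := by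
    intro x hx
    rw [Subgroup.mem_centralizer_iff]
    intro y hy
    exact DihData.comm_of_mem (hS₁S hy) hx
  have hNdvd : N ∣ Nat.card (Subgroup.centralizer (S₁ : Set G)) := by
    have := Subgroup.card_dvd_of_le hSC
    rwa [h.card_zpowers] at this
  have hPcard := Sylow.card_eq_multiplicity P
  rw [h.card] at hPcard
  have hale : a ≤ 1 := by
    have h1 : N * 2 ^ a ∣ Nat.card G := by
      have h2 : N * 2 ^ a ∣ Nat.card (Subgroup.normalizer (S₁ : Set G)) := by
        rw [← hcm']; exact Nat.mul_dvd_mul_right hNdvd _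
      exact h2.trans (Subgroup.card_subgroup_dvd_card _)
    by_contra hcon
    push Not at hcon
    have h3 : 2 * N * 2 ∣ Nat.card G := by
      have h4 : 2 * N * 2 ∣ N * 2 ^ a := by
        obtain ⟨b, rfl⟩ : ∃ b, a = b + 2 := ⟨a - 2, by omega⟩
        exact ⟨2 ^ b, by ring⟩
      exact h4.trans h1
    rw [hPcard, ← pow_succ] at h3
    exact Nat.pow_succ_factorization_not_dvd Nat.card_pos.ne' Nat.prime_two h3
  have ha1 : a = 1 := by
    rcases Nat.eq_zero_or_pos a with h0 | h0
    · exfalso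
      rw [h0, pow_zero] at ha
      exact hτC (Subgroup.relIndex_eq_one.mp ha hτN)
    · omega
  rw [ha1, pow_one] at ha
  have hidx2 : (Subgroup.subgroupOf (Subgroup.centralizer (S₁ : Set G))
      (Subgroup.normalizer (S₁ : Set G))).index = 2 := ha
  have hmul := Subgroup.mul_mem_iff_of_index_two hidx2
    (a := (⟨τ, hτN⟩ : Subgroup.normalizer (S₁ : Set G))) (b := ⟨g, hgN⟩)
  simp only [Subgroup.mem_subgroupOf, Subgroup.coe_mul] at hmul
  by_cases hgC : g ∈ Subgroup.centralizer (S₁ : Set G)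
  · left
    have h1 := Subgroup.mem_centralizer_iff.mp hgC s hsS₁
    rw [← hg, ← h1]; group
  · right
    have h1 : τ * g ∈ Subgroup.centralizer (S₁ : Set G) :=
      hmul.mpr ⟨fun hh => absurd hh hτC, fun hh => absurd hh hgC⟩
    have h2 := Subgroup.mem_centralizer_iff.mp h1 s hsS₁
    have h3 : τ * t * τ⁻¹ = s := by
      rw [← hg]
      calc τ * (g * s * g⁻¹) * τ⁻¹ = (τ * g * s) * (τ * g)⁻¹ := by group
        _ = (s * (τ * g)) * (τ * g)⁻¹ := by rw [h2]
        _ = s := by group
    rw [h.conj_mem hτP hτS ht] at h3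
    rw [← h3, inv_inv]

/-- conjugacy of powers of `σ` -/
theorem isConj_pow_iff (P : Sylow 2 G) (h : DihData (P : Subgroup G) σ N) {l l' : ℕ}
    (h0 : 0 < l) (hl : l < N) (h0' : 0 < l') (hl' : l' < N) :
    IsConj (σ ^ l) (σ ^ l') ↔ l' = l ∨ l + l' = N := by
  have hinj : ∀ a b : ℕ, a < N → b < N → σ ^ a = σ ^ b → a = b := by
    intro a b ha hb hab
    have := pow_injOn_Iio_orderOf (x := σ)
      (by rw [Set.mem_Iio, h.order]; exact ha) (by rw [Set.mem_Iio, h.order]; exact hb) hab
    exact this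
  have hinvpow : (σ ^ l)⁻¹ = σ ^ (N - l) := by
    rw [inv_eq_iff_mul_eq_one, ← pow_add, show l + (N - l) = N by omega, h.pow_N]
  constructor
  · intro hc
    obtain ⟨g, hg⟩ := isConj_iff.mp hc
    by_cases hss : σ ^ l * σ ^ l = 1
    · -- the involution
      have h2l := (h.sq_eq_one_iff h0 hl).mp hss
      have hss' : σ ^ l' * σ ^ l' = 1 := by
        rw [← hg]
        calc g * σ ^ l * g⁻¹ * (g * σ ^ l * g⁻¹) = g * (σ ^ l * σ ^ l) * g⁻¹ := by group
          _ = 1 := by rw [hss]; group
      have h2l' := (h.sq_eq_one_iff h0' hl').mp hss'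
      left; omega
    · rcases conj_eq_or_inv P h (DihData.pow_mem l) hss (DihData.pow_mem l') hg with h1 | h1
      · left; exact hinj _ _ hl' hl h1
      · right
        rw [hinvpow] at h1
        have := hinj _ _ hl' (by omega) h1
        omega
  · rintro (h1 | h1)
    · rw [h1]
    · have : σ ^ l' = (σ ^ l)⁻¹ := by
        rw [hinvpow]; congr 1; omega
      rw [this]
      exact h.isConj_inv (DihData.pow_mem l)

end fusion

end Cfsg.Agent.Lib.Helper6.Dih
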