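import Mathlib
import Cfsg.Agent.Lib.Helper6.BlkCover
import Cfsg.Agent.Lib.Helper6.Dih2

/-! # Retraction of a `2`-nilpotent group onto a Sylow `2`-subgroup -/

set_option autoImplicit false
set_option linter.unusedSectionVars false
open Cfsg

namespace Cfsg.Agent.Lib.Helper6.Dih

open Cfsg.Agent.Lib.Helper6

section retraction

theorem mem_pPrimeCore_of_odd {H : Type*} [Group H] [Finite H]
    (hidx : ∃ j : ℕ, (Cfsg.pPrimeCore 2 H).index = 2 ^ j) (v : H) (hv : Odd (orderOf v)) :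
    v ∈ Cfsg.pPrimeCore 2 H := by
  haveI hn : (Cfsg.pPrimeCore 2 H).Normal := (pPrimeCore_normal_and_coprime (G := H) 2).1
  obtain ⟨j, hj⟩ := hidx
  rw [← QuotientGroup.eq_one_iff]
  have h1 : orderOf ((v : H ⧸ Cfsg.pPrimeCore 2 H)) ∣ orderOf v :=
    orderOf_map_dvd (QuotientGroup.mk' (Cfsg.pPrimeCore 2 H)) v
  have h2 : orderOf ((v : H ⧸ Cfsg.pPrimeCore 2 H)) ∣ 2 ^ j := by
    rw [← hj, Subgroup.index_eq_card]
    exact orderOf_dvd_natCard _
  have h3 : Nat.Coprime (orderOf v) (2 ^ j) := Nat.Coprime.pow_right j hv.coprime_two_right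
  have h4 := Nat.dvd_gcd h1 h2
  rw [h3] at h4
  exact orderOf_eq_one_iff.mp (Nat.dvd_one.mp h4)

theorem two_pow_factorization_of_index {H : Type*} [Group H] [Finite H] (K : Subgroup H)
    (hK : (Nat.card K).Coprime 2) (j : ℕ) (hj : K.index = 2 ^ j) :
    (Nat.card H).factorization 2 = j := by
  have h1 := Subgroup.card_mul_index K
  rw [hj] at h1
  have hK0 : Nat.card K ≠ 0 := Nat.card_pos.ne'
  rw [← h1, Nat.factorization_mul hK0 (pow_ne_zero j (by norm_num))]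
  have h2 : (Nat.card K).factorization 2 = 0 := by
    apply Nat.factorization_eq_zero_of_not_dvd
    intro hd
    have := Nat.Coprime.eq_one_of_dvd hK.symm hd
    omega
  simp [h2, Nat.Prime.factorization_pow Nat.prime_two]

/-- the retraction onto a Sylow `2`-subgroup of a `2`-nilpotent subgroup -/
theorem exists_retraction {G : Type*} [Group G] [Finite G] (C P : Subgroup G) (hPC : P ≤ C)
    (hcard : ∃ j : ℕ, Nat.card P = 2 ^ j ∧ (Cfsg.pPrimeCore 2 ↥C).index = 2 ^ j) :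
    ∃ q : G → G, (∀ g ∈ C, q g ∈ P) ∧ (∀ g ∈ C, ∀ h ∈ C, q (g * h) = q g * q h) ∧
      (∀ a ∈ P, q a = a) ∧ (∀ g ∈ C, q g = 1 → Odd (orderOf g)) := by
  classical
  obtain ⟨j, hPj, hKj⟩ := hcard
  obtain ⟨hKn, hKc⟩ := pPrimeCore_normal_and_coprime (G := ↥C) 2
  haveI := hKn
  have hQcard : Nat.card (P.subgroupOf C) = 2 ^ j := by
    rw [← hPj]; exact Nat.card_congr (Subgroup.subgroupOfEquivOfLe hPC).toEquiv
  have hmul : Nat.card (P.subgroupOf C) * Nat.card (Cfsg.pPrimeCore 2 ↥C) = Nat.card ↥C := by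
    rw [hQcard, ← hKj, mul_comm]; exact Subgroup.card_mul_index _
  have hcop : (Nat.card (P.subgroupOf C)).Coprime (Nat.card (Cfsg.pPrimeCore 2 ↥C)) := by
    rw [hQcard]; exact Nat.Coprime.pow_left j hKc.symm
  have hc : (P.subgroupOf C).IsComplement' (Cfsg.pPrimeCore 2 ↥C) :=
    Subgroup.isComplement'_of_coprime hmul hcop
  refine ⟨fun g => if hg : g ∈ C then
      (((hc.QuotientMulEquiv (QuotientGroup.mk (⟨g, hg⟩ : ↥C)) : ↥(P.subgroupOf C)) : ↥C) : G)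
      else 1, ?_, ?_, ?_, ?_⟩
  · intro g hg
    simp only [dif_pos hg]
    exact Subgroup.mem_subgroupOf.mp
      (hc.QuotientMulEquiv (QuotientGroup.mk (⟨g, hg⟩ : ↥C))).2
  · intro g hg h hh
    simp only [dif_pos hg, dif_pos hh, dif_pos (mul_mem hg hh)]
    have h1 : (⟨g * h, mul_mem hg hh⟩ : ↥C) = ⟨g, hg⟩ * ⟨h, hh⟩ := rfl
    rw [h1, QuotientGroup.mk_mul, map_mul]
    rfl
  · intro a ha
    simp only [dif_pos (hPC ha)]
    have h1 : hc.QuotientMulEquiv (QuotientGroup.mk (⟨a, hPC ha⟩ : ↥C))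
        = ⟨⟨a, hPC ha⟩, Subgroup.mem_subgroupOf.mpr ha⟩ :=
      (MulEquiv.eq_symm_apply _).mp rfl
    rw [h1]
  · intro g hg hq
    simp only [dif_pos hg] at hq
    have h1 : hc.QuotientMulEquiv (QuotientGroup.mk (⟨g, hg⟩ : ↥C)) = 1 := by
      apply Subtype.ext
      apply Subtype.ext
      exact hq
    have h2 : (QuotientGroup.mk (⟨g, hg⟩ : ↥C) : ↥C ⧸ Cfsg.pPrimeCore 2 ↥C) = 1 :=
      (MulEquiv.map_eq_one_iff _).mp h1
    have h3 : (⟨g, hg⟩ : ↥C) ∈ Cfsg.pPrimeCore 2 ↥C := (QuotientGroup.eq_one_iff _).mp h2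
    have h4 : orderOf (⟨g, hg⟩ : ↥C) ∣ Nat.card (Cfsg.pPrimeCore 2 ↥C) := by
      have h5 := orderOf_dvd_natCard (⟨⟨g, hg⟩, h3⟩ : Cfsg.pPrimeCore 2 ↥C)
      rwa [Subgroup.orderOf_mk] at h5
    rw [Subgroup.orderOf_mk] at h4
    exact Nat.Coprime.odd_of_right (Nat.Coprime.coprime_dvd_left h4 hKc)

/-- Sylow conjugation inside a subgroup containing the Sylow subgroup -/
theorem exists_conj_mem_of_le {G : Type*} [Group G] [Finite G] (P : Sylow 2 G) (C : Subgroup G)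
    (hPC : (P : Subgroup G) ≤ C) {u : G} (huC : u ∈ C) (hu : ∃ k : ℕ, orderOf u = 2 ^ k) :
    ∃ c ∈ C, c * u * c⁻¹ ∈ (P : Subgroup G) := by
  haveI : Fact (Nat.Prime 2) := ⟨Nat.prime_two⟩
  obtain ⟨k, hk⟩ := hu
  have hA : IsPGroup 2 (Subgroup.zpowers (⟨u, huC⟩ : ↥C)) := by
    apply IsPGroup.of_card (n := k)
    rw [Nat.card_zpowers, Subgroup.orderOf_mk, hk]
  obtain ⟨c, hc⟩ := exists_conj_le_sylow (P.subtype hPC) (Subgroup.zpowers (⟨u, huC⟩ : ↥C)) hA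
  have h1 := hc ⟨u, huC⟩ (Subgroup.mem_zpowers _)
  rw [Sylow.coe_subtype, Subgroup.mem_subgroupOf] at h1
  exact ⟨c, c.2, h1⟩

end retraction

end Cfsg.Agent.Lib.Helper6.Dih
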