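import Mathlib
import Cfsg.Agent.Lib.Helper4.SLCenter
import Cfsg.Agent.Lib.Helper4.SLCard

set_option autoImplicit false

/-!
Identification with `PSL₂(E)`: a group acting faithfully on `E ∪ {∞}` by maps
`x ↦ r² x + β` (stabiliser of `∞`) and containing `x ↦ -γ²/x`, of the right order.
-/

namespace Cfsg.Agent.Lib.Helper6.Zp

open scoped LinearAlgebra.Projectivization
open Matrix

section proj
variable {E : Type*} [Field E]

theorem vinf_ne : (![1, 0] : Fin 2 → E) ≠ 0 := fun h => by simpa using congrFun h 0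

theorem vfin_ne (z : E) : (![z, 1] : Fin 2 → E) ≠ 0 := fun h => by simpa using congrFun h 1

/-- the point at infinity -/
noncomputable def pinf : ℙ E (Fin 2 → E) := Projectivization.mk E ![1, 0] vinf_ne

/-- the finite points -/
noncomputable def pfin (z : E) : ℙ E (Fin 2 → E) := Projectivization.mk E ![z, 1] (vfin_ne z)

theorem mk_eq_pinf (v : Fin 2 → E) (hv : v ≠ 0) (h1 : v 1 = 0) :
    Projectivization.mk E v hv = pinf := by
  rw [pinf, Projectivization.mk_eq_mk_iff']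
  refine ⟨v 0, ?_⟩
  ext i
  fin_cases i
  · simp
  · simp [h1]

theorem mk_eq_pfin (v : Fin 2 → E) (hv : v ≠ 0) (z : E) (hz : v 0 = z * v 1) (h1 : v 1 ≠ 0) :
    Projectivization.mk E v hv = pfin z := by
  rw [pfin, Projectivization.mk_eq_mk_iff']
  refine ⟨v 1, ?_⟩
  ext i
  fin_cases i
  · simp [hz, mul_comm]
  · simp

theorem pfin_ne_pinf (z : E) : pfin z ≠ (pinf : ℙ E (Fin 2 → E)) := by
  intro h
  rw [pfin, pinf, Projectivization.mk_eq_mk_iff'] at h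
  obtain ⟨c, hc⟩ := h
  have := congrFun hc 1
  simp at this

theorem pfin_injective : Function.Injective (pfin : E → ℙ E (Fin 2 → E)) := by
  intro z z' h
  rw [pfin, pfin, Projectivization.mk_eq_mk_iff'] at h
  obtain ⟨c, hc⟩ := h
  have h1 := congrFun hc 1
  have h0 := congrFun hc 0
  simp at h1 h0
  rw [h1, one_mul] at h0
  exact h0.symm

theorem eq_pinf_or_pfin (x : ℙ E (Fin 2 → E)) : x = pinf ∨ ∃ z, x = pfin z := by
  induction x using Projectivization.ind with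
  | h v hv =>
    by_cases h1 : v 1 = 0
    · left; exact mk_eq_pinf v hv h1
    · right
      refine ⟨v 0 / v 1, mk_eq_pfin v hv _ ?_ h1⟩
      field_simp

theorem sl_smul_mk (m : Matrix.SpecialLinearGroup (Fin 2) E) (v : Fin 2 → E) (hv : v ≠ 0) :
    m • Projectivization.mk E v hv
      = Projectivization.mk E (m.1 *ᵥ v) ((smul_ne_zero_iff_ne m).mpr hv) := rfl

theorem mulVec_two (p q r s x y : E) :
    (!![p, q; r, s] : Matrix (Fin 2) (Fin 2) E) *ᵥ ![x, y] = ![p * x + q * y, r * x + s * y] := by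
  ext i
  fin_cases i <;> simp [Matrix.mulVec, dotProduct, Fin.sum_univ_two]

/-- the matrix of `x ↦ r² x + β` -/
noncomputable def affM (r β : E) (hr : r ≠ 0) : Matrix.SpecialLinearGroup (Fin 2) E :=
  ⟨!![r, β * r⁻¹; 0, r⁻¹], by simp [Matrix.det_fin_two_of, hr]⟩

/-- the matrix of `x ↦ -γ²/x` -/
noncomputable def invM (γ : E) (hγ : γ ≠ 0) : Matrix.SpecialLinearGroup (Fin 2) E :=
  ⟨!![0, γ; -γ⁻¹, 0], by simp [Matrix.det_fin_two_of, hγ]⟩

theorem affM_pinf (r β : E) (hr : r ≠ 0) : affM r β hr • (pinf : ℙ E (Fin 2 → E)) = pinf := by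
  rw [pinf, sl_smul_mk]
  apply mk_eq_pinf
  show ((!![r, β * r⁻¹; 0, r⁻¹] : Matrix (Fin 2) (Fin 2) E) *ᵥ ![1, 0]) 1 = 0
  rw [mulVec_two]
  simp

theorem affM_pfin (r β : E) (hr : r ≠ 0) (x : E) :
    affM r β hr • (pfin x : ℙ E (Fin 2 → E)) = pfin (r * r * x + β) := by
  rw [pfin, sl_smul_mk]
  apply mk_eq_pfin
  · show ((!![r, β * r⁻¹; 0, r⁻¹] : Matrix (Fin 2) (Fin 2) E) *ᵥ ![x, 1]) 0
      = (r * r * x + β) * ((!![r, β * r⁻¹; 0, r⁻¹] : Matrix (Fin 2) (Fin 2) E) *ᵥ ![x, 1]) 1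
    rw [mulVec_two]
    simp
    field_simp
  · show ((!![r, β * r⁻¹; 0, r⁻¹] : Matrix (Fin 2) (Fin 2) E) *ᵥ ![x, 1]) 1 ≠ 0
    rw [mulVec_two]
    simp [hr]

theorem invM_pinf (γ : E) (hγ : γ ≠ 0) : invM γ hγ • (pinf : ℙ E (Fin 2 → E)) = pfin 0 := by
  rw [pinf, sl_smul_mk]
  apply mk_eq_pfin
  · show ((!![0, γ; -γ⁻¹, 0] : Matrix (Fin 2) (Fin 2) E) *ᵥ ![1, 0]) 0
      = 0 * ((!![0, γ; -γ⁻¹, 0] : Matrix (Fin 2) (Fin 2) E) *ᵥ ![1, 0]) 1
    rw [mulVec_two]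
    simp
  · show ((!![0, γ; -γ⁻¹, 0] : Matrix (Fin 2) (Fin 2) E) *ᵥ ![1, 0]) 1 ≠ 0
    rw [mulVec_two]
    simp [hγ]

theorem invM_pfin_zero (γ : E) (hγ : γ ≠ 0) :
    invM γ hγ • (pfin 0 : ℙ E (Fin 2 → E)) = pinf := by
  rw [pfin, sl_smul_mk]
  apply mk_eq_pinf
  show ((!![0, γ; -γ⁻¹, 0] : Matrix (Fin 2) (Fin 2) E) *ᵥ ![0, 1]) 1 = 0
  rw [mulVec_two]
  simp

theorem invM_pfin (γ : E) (hγ : γ ≠ 0) (x : E) (hx : x ≠ 0) :
    invM γ hγ • (pfin x : ℙ E (Fin 2 → E)) = pfin (-(γ * γ) / x) := by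
  rw [pfin, sl_smul_mk]
  apply mk_eq_pfin
  · show ((!![0, γ; -γ⁻¹, 0] : Matrix (Fin 2) (Fin 2) E) *ᵥ ![x, 1]) 0
      = (-(γ * γ) / x) * ((!![0, γ; -γ⁻¹, 0] : Matrix (Fin 2) (Fin 2) E) *ᵥ ![x, 1]) 1
    rw [mulVec_two]
    simp
    field_simp
  · show ((!![0, γ; -γ⁻¹, 0] : Matrix (Fin 2) (Fin 2) E) *ᵥ ![x, 1]) 1 ≠ 0
    rw [mulVec_two]
    simp [hγ, hx]

end proj

section iso
variable {G Ω : Type*} [Group G] [Finite G] [MulAction G Ω]
variable {E : Type} [Field E] [Fintype E]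

theorem psl_iso (hfaith : ∀ g : G, (∀ x : Ω, g • x = x) → g = 1)
    (hodd : Fintype.card E % 2 = 1)
    (a : Ω) (P : E → Ω) (hPinj : Function.Injective P) (hPa : ∀ x, P x ≠ a)
    (hPsurj : ∀ c, c ≠ a → ∃ x, P x = c)
    (hstab : ∀ w : G, w • a = a → ∃ r β : E, r ≠ 0 ∧ ∀ x, w • P x = P (r * r * x + β))
    (htrans : ∀ β : E, ∃ k : G, k • a = a ∧ ∀ x, k • P x = P (x + β))
    (t : G) (hta : t • a = P 0) (ht0 : t • P 0 = a) (γ : E) (hγ : γ ≠ 0)
    (ht : ∀ x, x ≠ 0 → t • P x = P (-(γ * γ) / x))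
    (hcard : 2 * Nat.card G = Fintype.card E * (Fintype.card E ^ 2 - 1)) :
    Nonempty (G ≃* Matrix.ProjectiveSpecialLinearGroup (Fin 2) E) := by
  classical
  -- the coordinate map
  let Φ : Ω → ℙ E (Fin 2 → E) := fun ω =>
    if h : ω = a then pinf else pfin (Classical.choose (hPsurj ω h))
  have hΦa : Φ a = pinf := dif_pos rfl
  have hΦP : ∀ x, Φ (P x) = pfin x := by
    intro x
    have h : P x ≠ a := hPa x
    show (if h : P x = a then pinf else pfin (Classical.choose (hPsurj (P x) h))) = pfin x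
    rw [dif_neg h]
    congr 1
    exact hPinj (Classical.choose_spec (hPsurj (P x) h))
  have hcases : ∀ ω : Ω, ω = a ∨ ∃ x, ω = P x := by
    intro ω
    by_cases h : ω = a
    · left; exact h
    · right
      obtain ⟨x, hx⟩ := hPsurj ω h
      exact ⟨x, hx.symm⟩
  have hΦinj : Function.Injective Φ := by
    intro ω ω' h
    rcases hcases ω with rfl | ⟨x, rfl⟩ <;> rcases hcases ω' with rfl | ⟨x', rfl⟩
    · rfl
    · rw [hΦa, hΦP] at h
      exact absurd h.symm (pfin_ne_pinf x')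
    · rw [hΦa, hΦP] at h
      exact absurd h (pfin_ne_pinf x)
    · rw [hΦP, hΦP] at h
      rw [pfin_injective h]
  have hΦsurj : Function.Surjective Φ := by
    intro y
    rcases eq_pinf_or_pfin y with rfl | ⟨z, rfl⟩
    · exact ⟨a, hΦa⟩
    · exact ⟨P z, hΦP z⟩
  -- representability
  have hrep_stab : ∀ w : G, w • a = a →
      ∃ m : Matrix.SpecialLinearGroup (Fin 2) E, ∀ ω, Φ (w • ω) = m • Φ ω := by
    intro w hw
    obtain ⟨r, β, hr, hwP⟩ := hstab w hw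
    refine ⟨affM r β hr, ?_⟩
    intro ω
    rcases hcases ω with rfl | ⟨x, rfl⟩
    · rw [hw, hΦa, affM_pinf]
    · rw [hwP, hΦP, hΦP, affM_pfin]
  have hrep_t : ∀ ω, Φ (t • ω) = invM γ hγ • Φ ω := by
    intro ω
    rcases hcases ω with rfl | ⟨x, rfl⟩
    · rw [hta, hΦa, hΦP, invM_pinf]
    · by_cases hx : x = 0
      · rw [hx, ht0, hΦa, hΦP, invM_pfin_zero]
      · rw [ht x hx, hΦP, hΦP, invM_pfin γ hγ x hx]
  have hrep_mul : ∀ (g g' : G) (m m' : Matrix.SpecialLinearGroup (Fin 2) E),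
      (∀ ω, Φ (g • ω) = m • Φ ω) → (∀ ω, Φ (g' • ω) = m' • Φ ω) →
      ∀ ω, Φ ((g * g') • ω) = (m * m') • Φ ω := by
    intro g g' m m' h h' ω
    rw [mul_smul, h, h', mul_smul]
  have hrep_inv : ∀ (g : G) (m : Matrix.SpecialLinearGroup (Fin 2) E),
      (∀ ω, Φ (g • ω) = m • Φ ω) → ∀ ω, Φ (g⁻¹ • ω) = m⁻¹ • Φ ω := by
    intro g m h ω
    have := h (g⁻¹ • ω)
    rw [smul_inv_smul] at this
    rw [this, inv_smul_smul]
  have hrep : ∀ g : G, ∃ m : Matrix.SpecialLinearGroup (Fin 2) E, ∀ ω, Φ (g • ω) = m • Φ ω := by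
    intro g
    by_cases hga : g • a = a
    · exact hrep_stab g hga
    · obtain ⟨x, hx⟩ := hPsurj (g • a) hga
      obtain ⟨k, hka, hkP⟩ := htrans (-x)
      have hw : (t * k * g) • a = a := by
        rw [mul_smul, mul_smul, ← hx, hkP, add_neg_cancel, ht0]
      obtain ⟨mw, hmw⟩ := hrep_stab _ hw
      obtain ⟨mk, hmk⟩ := hrep_stab k hka
      have hg : g = k⁻¹ * (t⁻¹ * (t * k * g)) := by group
      refine ⟨mk⁻¹ * ((invM γ hγ)⁻¹ * mw), ?_⟩
      rw [hg]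
      exact hrep_mul _ _ _ _ (hrep_inv k mk hmk)
        (hrep_mul _ _ _ _ (hrep_inv t _ hrep_t) hmw)
  -- the two permutation representations
  let Φe : Ω ≃ ℙ E (Fin 2 → E) := Equiv.ofBijective Φ ⟨hΦinj, hΦsurj⟩
  let f1 : G →* Equiv.Perm (ℙ E (Fin 2 → E)) :=
    (Φe.permCongrHom).toMonoidHom.comp (MulAction.toPermHom G Ω)
  have hf1 : ∀ (g : G) (y : ℙ E (Fin 2 → E)), f1 g y = Φ (g • Φe.symm y) := fun g y => rfl
  have hf1inj : Function.Injective f1 := by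
    rw [injective_iff_map_eq_one]
    intro g hg
    apply hfaith
    intro ω
    have := hf1 g (Φ ω)
    rw [hg] at this
    have h2 : Φe.symm (Φ ω) = ω := Φe.symm_apply_apply ω
    rw [h2] at this
    exact (hΦinj this).symm
  let f2 : Matrix.ProjectiveSpecialLinearGroup (Fin 2) E →* Equiv.Perm (ℙ E (Fin 2 → E)) :=
    Projectivization.PSLAction.toPermHom
  have hf2inj : Function.Injective f2 := Matrix.ProjectiveSpecialLinearGroup.toPermHom_injective
  have hle : f1.range ≤ f2.range := by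
    rintro _ ⟨g, rfl⟩
    obtain ⟨m, hm⟩ := hrep g
    refine ⟨(m : Matrix.ProjectiveSpecialLinearGroup (Fin 2) E), ?_⟩
    ext y
    rw [hf1, hm]
    have h2 : Φ (Φe.symm y) = y := Φe.apply_symm_apply y
    rw [h2]
    rfl
  -- orders
  have hq1 : 1 < Fintype.card E := Fintype.one_lt_card
  have hpsl := Cfsg.Agent.Lib.Helper4.card_PSL_mul (F := E) 2 (by norm_num)
  rw [Cfsg.Agent.Lib.Helper4.card_SL2] at hpsl
  have hgcd : Nat.gcd 2 (Fintype.card E - 1) = 2 := by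
    apply Nat.gcd_eq_left
    omega
  rw [hgcd] at hpsl
  have hcardeq : Nat.card (Matrix.ProjectiveSpecialLinearGroup (Fin 2) E) = Nat.card G := by
    omega
  have hGpos : 0 < Nat.card G := Nat.card_pos
  haveI : Finite (Matrix.ProjectiveSpecialLinearGroup (Fin 2) E) :=
    Nat.finite_of_card_ne_zero (by omega)
  haveI : Finite f2.range := Finite.of_equiv _ (MonoidHom.ofInjective hf2inj).toEquiv
  have hc1 : Nat.card f1.range = Nat.card G :=
    (Nat.card_congr (MonoidHom.ofInjective hf1inj).toEquiv).symm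
  have hc2 : Nat.card f2.range = Nat.card (Matrix.ProjectiveSpecialLinearGroup (Fin 2) E) :=
    (Nat.card_congr (MonoidHom.ofInjective hf2inj).toEquiv).symm
  have heq : f1.range = f2.range :=
    Subgroup.eq_of_le_of_card_ge hle (by rw [hc1, hc2, hcardeq])
  exact ⟨(MonoidHom.ofInjective hf1inj).trans
    ((MulEquiv.subgroupCongr heq).trans (MonoidHom.ofInjective hf2inj).symm)⟩

end iso

end Cfsg.Agent.Lib.Helper6.Zp
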