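import Mathlib
import Cfsg.Prelude.Def_LieExceptional

set_option autoImplicit false

/-!
Counting in Zassenhaus groups: numbers of elements with a given number of fixed points.
-/

namespace Cfsg.Agent.Lib.Helper6.Zs

open Cfsg MulAction

/-- elementary form of the Zassenhaus hypotheses (without the regular normal subgroup clause) -/
structure ZD (G Ω : Type*) [Group G] [MulAction G Ω] : Prop where
  faith : ∀ g : G, (∀ x : Ω, g • x = x) → g = 1
  two : ∀ a b c d : Ω, a ≠ b → c ≠ d → ∃ g : G, g • a = c ∧ g • b = d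
  three : ∀ g : G, ∀ a b c : Ω, a ≠ b → b ≠ c → a ≠ c → g • a = a → g • b = b → g • c = c → g = 1
  fix2 : ∃ g : G, g ≠ 1 ∧ ∃ a b : Ω, a ≠ b ∧ g • a = a ∧ g • b = b

section basic
variable {G Ω : Type*} [Group G] [MulAction G Ω]

lemma ZD.of (hZ : IsZassenhausGroup G Ω) : ZD G Ω := by
  obtain ⟨h1, h2, h3, h4, _⟩ := hZ
  refine ⟨?_, ?_, h3, h4⟩
  · intro g hg
    apply h1.eq_of_smul_eq_smul
    intro x
    rw [hg x, one_smul]
  · intro a b c d hab hcd
    exact (is_two_pretransitive_iff.1 h2) hab hcd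

variable [Fintype Ω] (h : ZD G Ω)
include h

lemma ZD.card_gt : 2 < Fintype.card Ω := by
  classical
  obtain ⟨g, hg1, a, b, hab, hga, hgb⟩ := h.fix2
  have : ∃ c : Ω, g • c ≠ c := by
    by_contra hcon
    push Not at hcon
    exact hg1 (h.faith g hcon)
  obtain ⟨c, hc⟩ := this
  have hca : c ≠ a := by rintro rfl; exact hc hga
  have hcb : c ≠ b := by rintro rfl; exact hc hgb
  have : ({a, b, c} : Finset Ω).card ≤ Fintype.card Ω := Finset.card_le_univ _
  rw [Finset.card_insert_of_notMem, Finset.card_insert_of_notMem, Finset.card_singleton] at this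
  · omega
  · simp [hcb.symm]
  · simp [hab, hca.symm]

lemma ZD.exists_ne (a : Ω) : ∃ b : Ω, b ≠ a := by
  classical
  have := h.card_gt
  by_contra hcon
  push Not at hcon
  have : Fintype.card Ω ≤ 1 := by
    rw [Fintype.card_le_one_iff]
    intro x y; rw [hcon x, hcon y]
  omega

lemma ZD.trans (a c : Ω) : ∃ g : G, g • a = c := by
  obtain ⟨b, hb⟩ := h.exists_ne a
  obtain ⟨d, hd⟩ := h.exists_ne c
  obtain ⟨g, hg, _⟩ := h.two a b c d hb.symm hd.symm
  exact ⟨g, hg⟩

end basic

section count
variable {G : Type*} [Group G] [Fintype G]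

open Classical in
lemma card_stab_eq_filter {X : Type*} [MulAction G X] (x : X) :
    Nat.card (stabilizer G x) = (Finset.univ.filter (fun g : G => g • x = x)).card := by
  rw [← Fintype.card_subtype, ← Nat.card_eq_fintype_card]
  exact Nat.card_congr (Equiv.subtypeEquivRight (fun g => mem_stabilizer_iff))

open Classical in
lemma sum_card_fixed (X : Type*) [Fintype X] [MulAction G X] :
    ∑ g : G, (Finset.univ.filter (fun x : X => g • x = x)).card
      = ∑ x : X, Nat.card (stabilizer G x) := by
  simp_rw [card_stab_eq_filter, Finset.card_filter]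
  exact Finset.sum_comm

open Classical in
/-- number of fixed points -/
noncomputable def fx (Ω : Type*) [MulAction G Ω] [Fintype Ω] (g : G) : ℕ :=
  (Finset.univ.filter (fun c : Ω => g • c = c)).card

variable {Ω : Type*} [MulAction G Ω] [Fintype Ω]

lemma fx_eq_zero_iff (g : G) : fx Ω g = 0 ↔ ∀ c : Ω, g • c ≠ c := by
  classical
  unfold fx
  rw [Finset.card_eq_zero, Finset.filter_eq_empty_iff]
  simp

lemma fx_one : fx Ω (1 : G) = Fintype.card Ω := by
  classical
  unfold fx
  simp

lemma stab_prod (a b : Ω) :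
    stabilizer G ((a, b) : Ω × Ω) = stabilizer G a ⊓ stabilizer G b := by
  ext g
  simp [mem_stabilizer_iff, Subgroup.mem_inf]

variable (h : ZD G Ω)
include h

lemma ZD.card_stab_mul (c : Ω) :
    Nat.card (stabilizer G c) * Fintype.card Ω = Nat.card G := by
  rw [← Subgroup.card_mul_index (stabilizer G c), index_stabilizer]
  congr 1
  have : orbit G c = Set.univ := by
    ext d
    simp only [Set.mem_univ, iff_true]
    obtain ⟨g, hg⟩ := h.trans c d
    exact ⟨g, hg⟩
  rw [this, Set.ncard_univ, Nat.card_eq_fintype_card]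

lemma ZD.card_two_mul {a b : Ω} (hab : a ≠ b) :
    Nat.card (stabilizer G a ⊓ stabilizer G b : Subgroup G)
      * (Fintype.card Ω * Fintype.card Ω - Fintype.card Ω) = Nat.card G := by
  classical
  rw [← stab_prod, ← Subgroup.card_mul_index (stabilizer G ((a, b) : Ω × Ω)), index_stabilizer]
  congr 1
  have : orbit G ((a, b) : Ω × Ω) = ((Finset.univ : Finset Ω).offDiag : Set (Ω × Ω)) := by
    ext p
    simp only [Finset.coe_offDiag, Finset.coe_univ, Set.mem_offDiag, Set.mem_univ, true_and]
    constructor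
    · rintro ⟨g, rfl⟩
      intro heq
      exact hab (smul_left_cancel g heq)
    · intro hp
      obtain ⟨g, hg1, hg2⟩ := h.two a b p.1 p.2 hab hp
      exact ⟨g, Prod.ext hg1 hg2⟩
  rw [this, Set.ncard_coe_finset, Finset.offDiag_card, Finset.card_univ]

lemma ZD.sum_fx : ∑ g : G, fx Ω g = Nat.card G := by
  classical
  have h0 : 0 < Fintype.card Ω := by have := h.card_gt; omega
  have h1 : ∑ g : G, fx Ω g = ∑ c : Ω, Nat.card (stabilizer G c) := sum_card_fixed Ω
  apply Nat.eq_of_mul_eq_mul_right h0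
  rw [h1, Finset.sum_mul]
  simp_rw [h.card_stab_mul]
  rw [Finset.sum_const, Finset.card_univ, smul_eq_mul, mul_comm]

open Classical in
lemma ZD.fx_sq (g : G) :
    (Finset.univ.filter (fun p : Ω × Ω => g • p = p)).card = fx Ω g * fx Ω g := by
  classical
  unfold fx
  rw [← Finset.card_product, ← Finset.filter_product, Finset.univ_product_univ]
  congr 1
  ext p
  simp [Prod.ext_iff]

lemma ZD.sum_fx_sq : ∑ g : G, fx Ω g * fx Ω g = 2 * Nat.card G := by
  classical
  have hn := h.card_gt
  obtain ⟨k, hk⟩ : ∃ k, Fintype.card Ω = k + 1 := ⟨Fintype.card Ω - 1, by omega⟩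
  have hm : Fintype.card Ω * Fintype.card Ω - Fintype.card Ω = (k + 1) * k := by
    rw [hk]
    apply Nat.sub_eq_of_eq_add
    ring
  have hmpos : 0 < (k + 1) * k := by
    have : 0 < k := by omega
    positivity
  have h1 : ∑ g : G, fx Ω g * fx Ω g = ∑ p : Ω × Ω, Nat.card (stabilizer G p) := by
    rw [← sum_card_fixed (Ω × Ω)]
    apply Finset.sum_congr rfl
    intro g _
    convert (h.fx_sq g).symm
  apply Nat.eq_of_mul_eq_mul_right hmpos
  rw [h1, Fintype.sum_prod_type, Finset.sum_mul]
  have h2 : ∀ a : Ω, (∑ b : Ω, Nat.card (stabilizer G ((a, b) : Ω × Ω))) * ((k + 1) * k)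
      = 2 * k * Nat.card G := by
    intro a
    rw [← Finset.add_sum_erase Finset.univ _ (Finset.mem_univ a), add_mul, Finset.sum_mul]
    have h3 : Nat.card (stabilizer G ((a, a) : Ω × Ω)) * ((k + 1) * k) = k * Nat.card G := by
      rw [stab_prod, inf_idem, ← h.card_stab_mul a, hk]
      ring
    have h4 : ∀ b ∈ Finset.univ.erase a,
        Nat.card (stabilizer G ((a, b) : Ω × Ω)) * ((k + 1) * k) = Nat.card G := by
      intro b hb
      have hab : a ≠ b := (Finset.ne_of_mem_erase hb).symm
      rw [stab_prod, ← hm]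
      exact h.card_two_mul hab
    rw [h3, Finset.sum_congr rfl h4, Finset.sum_const, Finset.card_erase_of_mem (Finset.mem_univ a),
      Finset.card_univ, hk, smul_eq_mul]
    simp only [Nat.add_sub_cancel]
    ring
  simp_rw [h2]
  rw [Finset.sum_const, Finset.card_univ, hk, smul_eq_mul]
  ring

omit [Fintype G] in
lemma ZD.fx_le_two {g : G} (hg : g ≠ 1) : fx Ω g ≤ 2 := by
  classical
  by_contra hcon
  push Not at hcon
  unfold fx at hcon
  rw [Finset.two_lt_card] at hcon
  obtain ⟨a, ha, b, hb, c, hc, hab, hac, hbc⟩ := hcon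
  simp only [Finset.mem_filter, Finset.mem_univ, true_and] at ha hb hc
  exact hg (h.three g a b c hab hbc hac ha hb hc)

/-- twice the number of fixed-point-free elements -/
lemma ZD.two_card_fpf :
    2 * (Finset.univ.filter (fun g : G => fx Ω g = 0)).card + 2
        + Fintype.card Ω * Fintype.card Ω
      = Nat.card G + 3 * Fintype.card Ω := by
  classical
  have hn := h.card_gt
  set L : G → ℕ := fun g => 2 * (if fx Ω g = 0 then 1 else 0) + 3 * fx Ω g with hL
  set R : G → ℕ := fun g => 2 + fx Ω g * fx Ω g with hR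
  have hLR : ∀ g ∈ Finset.univ.erase (1 : G), L g = R g := by
    intro g hg
    have hg1 : g ≠ 1 := Finset.ne_of_mem_erase hg
    have := h.fx_le_two hg1
    simp only [hL, hR]
    interval_cases (fx Ω g) <;> simp
  have hsumL : ∑ g : G, L g
      = 2 * (Finset.univ.filter (fun g : G => fx Ω g = 0)).card + 3 * Nat.card G := by
    simp only [hL]
    rw [Finset.sum_add_distrib, ← Finset.mul_sum, ← Finset.mul_sum, h.sum_fx, Finset.card_filter]
  have hsumR : ∑ g : G, R g = 2 * Nat.card G + 2 * Nat.card G := by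
    simp only [hR]
    rw [Finset.sum_add_distrib, h.sum_fx_sq, Finset.sum_const, Finset.card_univ, smul_eq_mul,
      Nat.card_eq_fintype_card, mul_comm]
  have hL1 : L 1 = 3 * Fintype.card Ω := by
    simp only [hL, fx_one]
    rw [if_neg (by omega)]
    omega
  have hR1 : R 1 = 2 + Fintype.card Ω * Fintype.card Ω := by
    simp only [hR, fx_one]
  have e1 := Finset.add_sum_erase Finset.univ L (Finset.mem_univ (1 : G))
  have e2 := Finset.add_sum_erase Finset.univ R (Finset.mem_univ (1 : G))
  have e3 : ∑ x ∈ Finset.univ.erase (1 : G), L x = ∑ x ∈ Finset.univ.erase (1 : G), R x :=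
    Finset.sum_congr rfl hLR
  rw [e3] at e1
  rw [hsumL, hL1] at e1
  rw [hsumR, hR1] at e2
  obtain ⟨N2, hN2⟩ : ∃ N2, N2 = Fintype.card Ω * Fintype.card Ω := ⟨_, rfl⟩
  rw [← hN2] at e2 ⊢
  omega

end count

end Cfsg.Agent.Lib.Helper6.Zs
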