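import Mathlib
import Cfsg.Agent.Lib.Helper6.ZassCount
import Cfsg.Agent.Lib.Helper6.IndFun
import Cfsg.Agent.Lib.Helper6.Linear
import Cfsg.Agent.Lib.Helper6.Auto
import Cfsg.Agent.Lib.Helper3.Zass1

set_option autoImplicit false

/-!
Zassenhaus groups: structure of the point stabiliser, characters induced from it, a transfer lemma.
-/

namespace Cfsg.Agent.Lib.Helper6.Zs

open Cfsg MulAction
open scoped ComplexConjugate

/-- transfer of an element all of whose conjugate powers inside `H` have the same `ϕ`-value -/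
theorem transfer_eq_pow_of_invariant {G A : Type*} [Group G] [CommGroup A] {H : Subgroup G}
    [H.FiniteIndex] (ϕ : H →* A) (g : H)
    (key : ∀ (k : ℕ) (g₀ : G) (hk : g₀⁻¹ * (g : G) ^ k * g₀ ∈ H),
      ϕ ⟨g₀⁻¹ * (g : G) ^ k * g₀, hk⟩ = ϕ (g ^ k)) :
    MonoidHom.transfer ϕ (g : G) = ϕ g ^ H.index := by
  classical
  haveI : Fintype (Quotient (MulAction.orbitRel (Subgroup.zpowers (g : G)) (G ⧸ H))) :=
    Fintype.ofFinite _
  rw [MonoidHom.transfer_eq_prod_quotient_orbitRel_zpowers_quot]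
  have h1 : ∀ q : Quotient (MulAction.orbitRel (Subgroup.zpowers (g : G)) (G ⧸ H)),
      ϕ ⟨q.out.out⁻¹ * (g : G) ^ Function.minimalPeriod ((g : G) • ·) q.out * q.out.out,
        QuotientGroup.out_conj_pow_minimalPeriod_mem H (g : G) q.out⟩
      = ϕ g ^ Function.minimalPeriod ((g : G) • ·) q.out := by
    intro q
    rw [key, map_pow]
  rw [Finset.prod_congr rfl (fun q _ => h1 q), Finset.prod_pow_eq_pow_sum,
    ← Subgroup.index_eq_sum_minimalPeriod]

section linext
variable {G : Type*} [Group G]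

/-- a linear character of `S`, extended by zero -/
structure LinExt (S : Subgroup G) (M : G → ℂ) : Prop where
  zero : ∀ g, g ∉ S → M g = 0
  mul : ∀ g g', g ∈ S → g' ∈ S → M (g * g') = M g * M g'
  one : M 1 = 1
  norm : ∀ g, g ∈ S → M g * conj (M g) = 1

lemma LinExt.of_char [Finite G] (S : Subgroup G) {μ : S → ℂ} (hμ : Cfsg.IsCharacter S μ)
    (h1 : μ 1 = 1) : LinExt S (Cfsg.extendByZero S μ) := by
  refine ⟨fun g hg => extendByZero_of_not_mem S μ hg, ?_, ?_, ?_⟩
  · intro g g' hg hg'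
    rw [extendByZero_of_mem S μ hg, extendByZero_of_mem S μ hg',
      extendByZero_of_mem S μ (S.mul_mem hg hg')]
    exact IsCharacter.mul_of_apply_one_eq_one hμ h1 ⟨g, hg⟩ ⟨g', hg'⟩
  · rw [extendByZero_of_mem S μ S.one_mem]
    exact h1
  · intro g hg
    rw [extendByZero_of_mem S μ hg, ← IsCharacter.apply_inv hμ,
      ← IsCharacter.mul_of_apply_one_eq_one hμ h1, mul_inv_cancel, h1]

variable {S : Subgroup G} {M : G → ℂ} (hM : LinExt S M)
include hM

lemma LinExt.ne_zero {g : G} (hg : g ∈ S) : M g ≠ 0 := by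
  intro h0
  have := hM.norm g hg
  rw [h0, zero_mul] at this
  exact zero_ne_one this

lemma LinExt.conj_eq_inv {g : G} (hg : g ∈ S) : conj (M g) = (M g)⁻¹ := by
  apply eq_inv_of_mul_eq_one_left
  rw [mul_comm]
  exact hM.norm g hg

lemma LinExt.inv {g : G} (hg : g ∈ S) : M g⁻¹ = (M g)⁻¹ := by
  apply eq_inv_of_mul_eq_one_left
  rw [← hM.mul _ _ (S.inv_mem hg) hg, inv_mul_cancel, hM.one]

lemma LinExt.conj_inv {x g : G} (hx : x ∈ S) (hg : g ∈ S) : M (x⁻¹ * g * x) = M g := by
  rw [hM.mul _ _ (S.mul_mem (S.inv_mem hx) hg) hx, hM.mul _ _ (S.inv_mem hx) hg, hM.inv hx]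
  field_simp [hM.ne_zero hx]

lemma LinExt.conj' {x g : G} (hx : x ∈ S) (hg : g ∈ S) : M (x * g * x⁻¹) = M g := by
  have := hM.conj_inv (S.inv_mem hx) hg
  rwa [inv_inv] at this

end linext

section ind
variable {G : Type*} [Group G] [Fintype G] {Ω : Type*} [MulAction G Ω] [Fintype Ω]

open Classical in
lemma sum_conj_stab {a : Ω} {M : G → ℂ} (hM : LinExt (stabilizer G a) M) (r : Ω → G)
    (hr : ∀ c, r c • a = c) (g : G) :
    ∑ x : G, M (x⁻¹ * g * x) = (Nat.card (stabilizer G a) : ℂ)
      * ∑ c ∈ Finset.univ.filter (fun c : Ω => g • c = c), M ((r c)⁻¹ * g * r c) := by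
  rw [← Finset.sum_fiberwise Finset.univ (fun x : G => x • a) (fun x => M (x⁻¹ * g * x)),
    Finset.mul_sum, Finset.sum_filter]
  apply Finset.sum_congr rfl
  intro c _
  have hrc : (r c)⁻¹ • c = a := by rw [inv_smul_eq_iff, hr c]
  split_ifs with hc
  · have hz : (r c)⁻¹ * g * r c ∈ stabilizer G a := by
      rw [mem_stabilizer_iff, mul_smul, mul_smul, hr c, hc, hrc]
    have h1 : ∀ x ∈ Finset.univ.filter (fun x : G => x • a = c),
        M (x⁻¹ * g * x) = M ((r c)⁻¹ * g * r c) := by
      intro x hx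
      simp only [Finset.mem_filter, Finset.mem_univ, true_and] at hx
      have hs : (r c)⁻¹ * x ∈ stabilizer G a := by
        rw [mem_stabilizer_iff, mul_smul, hx, hrc]
      have := hM.conj_inv hs hz
      rw [← this]
      congr 1
      group
    rw [Finset.sum_congr rfl h1, Finset.sum_const, nsmul_eq_mul]
    congr 2
    rw [card_stab_eq_filter]
    apply Finset.card_bij (fun x _ => (r c)⁻¹ * x)
    · intro x hx
      simp only [Finset.mem_filter, Finset.mem_univ, true_and] at hx ⊢
      rw [mul_smul, hx, hrc]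
    · intro x _ y _ hxy
      exact mul_left_cancel hxy
    · intro s hs
      simp only [Finset.mem_filter, Finset.mem_univ, true_and] at hs
      refine ⟨r c * s, ?_, by group⟩
      simp only [Finset.mem_filter, Finset.mem_univ, true_and]
      rw [mul_smul, hs, hr c]
  · apply Finset.sum_eq_zero
    intro x hx
    simp only [Finset.mem_filter, Finset.mem_univ, true_and] at hx
    apply hM.zero
    intro hmem
    apply hc
    rw [mem_stabilizer_iff, mul_smul, mul_smul, hx] at hmem
    have := congrArg (fun t => x • t) hmem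
    simp only [smul_inv_smul, hx] at this
    exact this

open Classical in
lemma indFun_stab_apply {a : Ω} {μ : stabilizer G a → ℂ}
    (hM : LinExt (stabilizer G a) (Cfsg.extendByZero (stabilizer G a) μ)) (r : Ω → G)
    (hr : ∀ c, r c • a = c) (g : G) :
    Cfsg.indFun (stabilizer G a) μ g
      = ∑ c ∈ Finset.univ.filter (fun c : Ω => g • c = c),
          Cfsg.extendByZero (stabilizer G a) μ ((r c)⁻¹ * g * r c) := by
  unfold Cfsg.indFun
  rw [sum_conj_stab hM r hr g, ← mul_assoc, inv_mul_cancel₀ (card_ne_zero_complex _), one_mul]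

/-- the data of the Frobenius kernel of the point stabiliser -/
structure KD (a : Ω) (H : Subgroup G) : Prop where
  le : H ≤ stabilizer G a
  card : Nat.card H + 1 = Fintype.card Ω
  fix : ∀ u ∈ H, u ≠ 1 → ∀ c : Ω, u • c = c → c = a

variable (h : ZD G Ω) {a b : Ω} {H : Subgroup G} (hK : KD a H)
include hK

omit [Fintype G] in
lemma KD.fixa {u : G} (hu : u ∈ H) : u • a = a := mem_stabilizer_iff.1 (hK.le hu)

omit [Fintype G] in
lemma KD.inj (hb : b ≠ a) {u v : G} (hu : u ∈ H) (hv : v ∈ H) (huv : u • b = v • b) : u = v := by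
  by_contra hne
  have h1 : (v⁻¹ * u) • b = b := by rw [mul_smul, huv, inv_smul_smul]
  have h2 : v⁻¹ * u ≠ 1 := by
    intro h
    exact hne (inv_mul_eq_one.1 h).symm
  exact hb (hK.fix _ (H.mul_mem (H.inv_mem hv) hu) h2 b h1)

omit [Fintype G] in
lemma KD.ne_a (hb : b ≠ a) {u : G} (hu : u ∈ H) : u • b ≠ a := by
  intro hca
  apply hb
  have : u • b = u • a := by rw [hca, hK.fixa hu]
  exact smul_left_cancel u this

lemma KD.surj (hb : b ≠ a) {c : Ω} (hc : c ≠ a) : ∃ u ∈ H, u • b = c := by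
  classical
  let φ : H → {c : Ω // c ≠ a} := fun u => ⟨(u : G) • b, hK.ne_a hb u.2⟩
  have hφinj : Function.Injective φ := by
    intro u v heq
    exact Subtype.ext (hK.inj hb u.2 v.2 (congrArg Subtype.val heq))
  have hcard : Fintype.card H = Fintype.card {c : Ω // c ≠ a} := by
    rw [Fintype.card_subtype_compl, Fintype.card_subtype_eq, ← hK.card, Nat.card_eq_fintype_card]
    simp
  have hφbij : Function.Bijective φ :=
    (Fintype.bijective_iff_injective_and_card φ).2 ⟨hφinj, hcard⟩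
  obtain ⟨u, hu⟩ := hφbij.2 ⟨c, hc⟩
  exact ⟨u, u.2, congrArg Subtype.val hu⟩

include h

lemma KD.mem_of_fix_only (hb : b ≠ a) {x : G} (hxa : x • a = a)
    (hx : ∀ c : Ω, x • c = c → c = a) : x ∈ H :=
  Cfsg.Agent.Lib.Helper3.Zass.mem_of_fixes_only h.three a H hK.le hK.card hK.fix b hb x hxa hx

lemma KD.conj_mem (hb : b ≠ a) {s u : G} (hs : s • a = a) (hu : u ∈ H) : s * u * s⁻¹ ∈ H := by
  by_cases h1 : u = 1
  · subst h1
    simp
  · have hs' : s⁻¹ • a = a := by rw [inv_smul_eq_iff, hs]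
    apply hK.mem_of_fix_only h hb
    · rw [mul_smul, mul_smul, hs', hK.fixa hu, hs]
    · intro c hc
      have h2 : u • (s⁻¹ • c) = s⁻¹ • c := by
        have := congrArg (fun t => s⁻¹ • t) hc
        simp only [mul_smul, inv_smul_smul] at this
        exact this
      have h3' := hK.fix u hu h1 _ h2
      rw [inv_smul_eq_iff] at h3'
      rw [h3', hs]

open Classical in
/-- the stabiliser is the disjoint union of `H` and the `H`-conjugates of `E ∖ 1` -/
lemma KD.sum_stab (hb : b ≠ a) (F : G → ℂ) :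
    ∑ g ∈ Finset.univ.filter (fun g : G => g • a = a), F g
      = ∑ u ∈ Finset.univ.filter (fun g : G => g ∈ H), F u
        + ∑ u ∈ Finset.univ.filter (fun g : G => g ∈ H),
            ∑ y ∈ (Finset.univ.filter (fun g : G => g • a = a ∧ g • b = b)).erase 1,
              F (u * y * u⁻¹) := by
  set Hf : Finset G := Finset.univ.filter (fun g : G => g ∈ H) with hHf
  set Ef : Finset G := (Finset.univ.filter (fun g : G => g • a = a ∧ g • b = b)).erase 1 with hEf
  have hmH : ∀ g, g ∈ Hf ↔ g ∈ H := fun g => by simp [hHf]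
  have hmE : ∀ g, g ∈ Ef ↔ (g ≠ 1 ∧ g • a = a ∧ g • b = b) := fun g => by simp [hEf]
  have hconj1 : ∀ u y : G, y ≠ 1 → u * y * u⁻¹ ≠ 1 := by
    intro u y hy h1
    apply hy
    have : y = u⁻¹ * (u * y * u⁻¹) * u := by group
    rw [this, h1]; group
  have hinj : Set.InjOn (fun p : G × G => p.1 * p.2 * p.1⁻¹) ((Hf ×ˢ Ef : Finset (G × G)) : Set (G × G)) := by
    intro p hp q hq heq
    simp only [Finset.coe_product, Set.mem_prod, Finset.mem_coe, hmH, hmE] at hp hq
    simp only at heq
    have hfp : (p.1 * p.2 * p.1⁻¹) • (p.1 • b) = p.1 • b := by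
      rw [mul_smul, mul_smul, inv_smul_smul, hp.2.2.2]
    have hfq : (p.1 * p.2 * p.1⁻¹) • (q.1 • b) = q.1 • b := by
      rw [heq, mul_smul, mul_smul, inv_smul_smul, hq.2.2.2]
    have hfa : (p.1 * p.2 * p.1⁻¹) • a = a := by
      rw [mul_smul, mul_smul, inv_smul_eq_iff.2 (hK.fixa hp.1).symm, hp.2.2.1, hK.fixa hp.1]
    have hs1 : p.1 * p.2 * p.1⁻¹ ≠ 1 := hconj1 _ _ hp.2.1
    have h1 : p.1 • b = q.1 • b := by
      by_contra hne'
      exact hs1 (h.three _ a (p.1 • b) (q.1 • b) (hK.ne_a hb hp.1).symm hne'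
        (hK.ne_a hb hq.1).symm hfa hfp hfq)
    have h2 := hK.inj hb hp.1 hq.1 h1
    have h3' : p.2 = q.2 := by
      rw [h2] at heq
      have := mul_right_cancel heq
      exact mul_left_cancel this
    exact Prod.ext h2 h3'
  have hdisj : Disjoint Hf ((Hf ×ˢ Ef).image (fun p : G × G => p.1 * p.2 * p.1⁻¹)) := by
    rw [Finset.disjoint_left]
    intro g hg hg2
    rw [hmH] at hg
    rw [Finset.mem_image] at hg2
    obtain ⟨p, hp, rfl⟩ := hg2
    rw [Finset.mem_product, hmH, hmE] at hp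
    have hfp : (p.1 * p.2 * p.1⁻¹) • (p.1 • b) = p.1 • b := by
      rw [mul_smul, mul_smul, inv_smul_smul, hp.2.2.2]
    exact hK.ne_a hb hp.1 (hK.fix _ hg (hconj1 _ _ hp.2.1) _ hfp)
  have hunion : Finset.univ.filter (fun g : G => g • a = a)
      = Hf ∪ (Hf ×ˢ Ef).image (fun p : G × G => p.1 * p.2 * p.1⁻¹) := by
    ext g
    simp only [Finset.mem_filter, Finset.mem_univ, true_and, Finset.mem_union, hmH,
      Finset.mem_image, Finset.mem_product, hmE]
    constructor
    · intro hga
      by_cases hgH : g ∈ H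
      · left; exact hgH
      · right
        have hex : ∃ c : Ω, c ≠ a ∧ g • c = c := by
          by_contra hcon
          push Not at hcon
          apply hgH
          apply hK.mem_of_fix_only h hb hga
          intro c hc
          by_contra hca
          exact hcon c hca hc
        obtain ⟨c, hca, hgc⟩ := hex
        obtain ⟨u, hu, hub⟩ := hK.surj hb hca
        have hua := hK.fixa hu
        have hua' : u⁻¹ • a = a := by rw [inv_smul_eq_iff, hua]
        refine ⟨(u, u⁻¹ * g * u), ⟨hu, ?_, ?_, ?_⟩, by group⟩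
        · intro h1
          have h1' : u⁻¹ * g * u = 1 := h1
          apply hgH
          have : g = u * (u⁻¹ * g * u) * u⁻¹ := by group
          rw [this, h1']
          simp
        · rw [mul_smul, mul_smul, hua, hga, hua']
        · rw [mul_smul, mul_smul, hub, hgc, ← hub, inv_smul_smul]
    · rintro (hg | ⟨p, ⟨hp1, _, hp2, _⟩, rfl⟩)
      · exact hK.fixa hg
      · rw [mul_smul, mul_smul, inv_smul_eq_iff.2 (hK.fixa hp1).symm, hp2, hK.fixa hp1]
  rw [hunion, Finset.sum_union hdisj, Finset.sum_image hinj, Finset.sum_product]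

end ind

section more
variable {G : Type*} [Group G] [Fintype G] {Ω : Type*} [MulAction G Ω] [Fintype Ω]
variable (h : ZD G Ω) {a b : Ω}
include h

lemma ZD.one_lt_card_two (hab : a ≠ b) :
    1 < Nat.card (stabilizer G a ⊓ stabilizer G b : Subgroup G) := by
  have hn := h.card_gt
  obtain ⟨g₀, hg₀, a', b', hab', ha', hb'⟩ := h.fix2
  have h1 := h.card_two_mul hab
  have h2 := h.card_two_mul hab'
  have hmpos : 0 < Fintype.card Ω * Fintype.card Ω - Fintype.card Ω := by
    have : Fintype.card Ω * 2 < Fintype.card Ω * Fintype.card Ω :=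
      Nat.mul_lt_mul_of_pos_left hn (by omega)
    omega
  have heq : Nat.card (stabilizer G a ⊓ stabilizer G b : Subgroup G)
      = Nat.card (stabilizer G a' ⊓ stabilizer G b' : Subgroup G) :=
    Nat.eq_of_mul_eq_mul_right hmpos (h1.trans h2.symm)
  rw [heq, Subgroup.one_lt_card_iff_ne_bot]
  intro hbot
  have hmem : g₀ ∈ (stabilizer G a' ⊓ stabilizer G b' : Subgroup G) := ⟨ha', hb'⟩
  rw [hbot, Subgroup.mem_bot] at hmem
  exact hg₀ hmem

lemma ZD.index_two (hab : a ≠ b) :
    (stabilizer G a ⊓ stabilizer G b : Subgroup G).index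
      = Fintype.card Ω * Fintype.card Ω - Fintype.card Ω := by
  have h1 := h.card_two_mul hab
  have h2 := Subgroup.card_mul_index (stabilizer G a ⊓ stabilizer G b : Subgroup G)
  have hpos : 0 < Nat.card (stabilizer G a ⊓ stabilizer G b : Subgroup G) := Nat.card_pos
  exact Nat.eq_of_mul_eq_mul_left hpos (h2.trans h1.symm)

lemma ZD.index_stab (c : Ω) : (stabilizer G c).index = Fintype.card Ω := by
  have h1 := h.card_stab_mul c
  have h2 := Subgroup.card_mul_index (stabilizer G c)
  have hpos : 0 < Nat.card (stabilizer G c) := Nat.card_pos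
  exact Nat.eq_of_mul_eq_mul_left hpos (h2.trans h1.symm)

lemma ZD.card_two_dvd (hab : a ≠ b) :
    Nat.card (stabilizer G a ⊓ stabilizer G b : Subgroup G) ∣ Fintype.card Ω - 2 := by
  classical
  obtain ⟨E, hE⟩ : ∃ E : Subgroup G, E = stabilizer G a ⊓ stabilizer G b := ⟨_, rfl⟩
  rw [← hE]
  have hmE : ∀ x : G, x ∈ E ↔ (x • a = a ∧ x • b = b) := by
    intro x
    rw [hE, Subgroup.mem_inf, mem_stabilizer_iff, mem_stabilizer_iff]
  haveI : ∀ g : E, Fintype (fixedBy Ω g) := fun g => Fintype.ofFinite _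
  haveI : Fintype (Quotient (orbitRel E Ω)) := Fintype.ofFinite _
  have hB := MulAction.sum_card_fixedBy_eq_card_orbits_mul_card_group E Ω
  have h1 : ∀ g ∈ (Finset.univ : Finset E).erase 1, Fintype.card (fixedBy Ω g) = 2 := by
    intro g hg
    have hg1 : g ≠ 1 := Finset.ne_of_mem_erase hg
    have hset : fixedBy Ω g = {a, b} := by
      ext c
      simp only [mem_fixedBy, Set.mem_insert_iff, Set.mem_singleton_iff]
      constructor
      · intro hc
        by_contra hcon
        push Not at hcon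
        apply hg1
        apply Subtype.ext
        exact h.three (g : G) a b c hab (Ne.symm hcon.2) (Ne.symm hcon.1) ((hmE g).1 g.2).1
          ((hmE g).1 g.2).2 hc
      · rintro (rfl | rfl)
        · exact ((hmE g).1 g.2).1
        · exact ((hmE g).1 g.2).2
    rw [← Nat.card_eq_fintype_card, Nat.card_coe_set_eq, hset, Set.ncard_pair hab]
  have h2 : Fintype.card (fixedBy Ω (1 : E)) = Fintype.card Ω := by
    rw [← Nat.card_eq_fintype_card, Nat.card_coe_set_eq]
    have : fixedBy Ω (1 : E) = Set.univ := by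
      ext c
      simp
    rw [this, Set.ncard_univ, Nat.card_eq_fintype_card]
  rw [← Finset.add_sum_erase Finset.univ _ (Finset.mem_univ (1 : E)), h2,
    Finset.sum_congr rfl h1, Finset.sum_const, Finset.card_erase_of_mem (Finset.mem_univ _),
    Finset.card_univ, smul_eq_mul, ← Nat.card_eq_fintype_card (α := E)] at hB
  have hn := h.card_gt
  have he : 0 < Nat.card E := Nat.card_pos
  obtain ⟨P, hP⟩ : ∃ P, P = Fintype.card (Quotient (orbitRel E Ω)) * Nat.card E := ⟨_, rfl⟩
  have hd1 : Nat.card E ∣ P := by rw [hP]; exact dvd_mul_left _ _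
  have hd2 : Nat.card E ∣ 2 * Nat.card E := dvd_mul_left _ _
  have hd3 := Nat.dvd_sub hd1 hd2
  rw [← hP] at hB
  have : P - 2 * Nat.card E = Fintype.card Ω - 2 := by omega
  rwa [this] at hd3

lemma ZD.coprime_index (hab : a ≠ b)
    (hodd : Odd (Nat.card (stabilizer G a ⊓ stabilizer G b : Subgroup G))) :
    Nat.Coprime (stabilizer G a ⊓ stabilizer G b : Subgroup G).index
      (Nat.card (stabilizer G a ⊓ stabilizer G b : Subgroup G)) := by
  rw [h.index_two hab]
  have hn := h.card_gt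
  have hd := h.card_two_dvd hab
  obtain ⟨e, he⟩ : ∃ e, e = Nat.card (stabilizer G a ⊓ stabilizer G b : Subgroup G) := ⟨_, rfl⟩
  rw [← he] at hd hodd ⊢
  obtain ⟨k, hk⟩ : ∃ k, Fintype.card Ω = k + 2 := ⟨Fintype.card Ω - 2, by omega⟩
  rw [hk] at hd ⊢
  simp only [Nat.add_sub_cancel] at hd
  have hm : (k + 2) * (k + 2) - (k + 2) = (k + 2) * (k + 1) := by
    apply Nat.sub_eq_of_eq_add
    ring
  rw [hm]
  have hodd' : ¬ 2 ∣ e := by
    obtain ⟨j, hj⟩ := hodd
    omega
  have he0 : e ≠ 0 := by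
    rintro rfl
    exact hodd' (dvd_zero 2)
  apply Nat.Coprime.mul_left
  · have h1 : Nat.gcd (k + 2) e ∣ 2 := by
      have ha : Nat.gcd (k + 2) e ∣ k + 2 := Nat.gcd_dvd_left _ _
      have hb : Nat.gcd (k + 2) e ∣ k := (Nat.gcd_dvd_right _ _).trans hd
      have := Nat.dvd_sub ha hb
      simpa using this
    have h2 : Nat.gcd (k + 2) e ≤ 2 := Nat.le_of_dvd (by norm_num) h1
    have h3 : Nat.gcd (k + 2) e ≠ 0 := by
      intro h0
      rw [Nat.gcd_eq_zero_iff] at h0
      omega
    have h4 : Nat.gcd (k + 2) e ≠ 2 := by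
      intro h0
      exact hodd' (h0 ▸ Nat.gcd_dvd_right _ _)
    show Nat.gcd (k + 2) e = 1
    omega
  · have h1 : Nat.gcd (k + 1) e ∣ 1 := by
      have ha : Nat.gcd (k + 1) e ∣ k + 1 := Nat.gcd_dvd_left _ _
      have hb : Nat.gcd (k + 1) e ∣ k := (Nat.gcd_dvd_right _ _).trans hd
      have := Nat.dvd_sub ha hb
      simpa using this
    exact Nat.dvd_one.1 h1

end more

section more2
variable {G : Type*} [Group G] [Fintype G] {Ω : Type*} [MulAction G Ω] [Fintype Ω]
variable (h : ZD G Ω) {a b : Ω} {H : Subgroup G} (hK : KD a H)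
include h hK

lemma KD.exists_conj (hb : b ≠ a) {g : G} (hga : g • a = a) (hgH : g ∉ H) :
    ∃ u ∈ H, (u⁻¹ * g * u) • a = a ∧ (u⁻¹ * g * u) • b = b := by
  have hex : ∃ c : Ω, c ≠ a ∧ g • c = c := by
    by_contra hcon
    push Not at hcon
    apply hgH
    apply hK.mem_of_fix_only h hb hga
    intro c hc
    by_contra hca
    exact hcon c hca hc
  obtain ⟨c, hca, hgc⟩ := hex
  obtain ⟨u, hu, hub⟩ := hK.surj hb hca
  have hua := hK.fixa hu
  have hua' : u⁻¹ • a = a := by rw [inv_smul_eq_iff, hua]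
  refine ⟨u, hu, ?_, ?_⟩
  · rw [mul_smul, mul_smul, hua, hga, hua']
  · rw [mul_smul, mul_smul, hub, hgc, ← hub, inv_smul_smul]

end more2

end Cfsg.Agent.Lib.Helper6.Zs
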