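import Mathlib
import Cfsg.Agent.Lib.Helper6.RepBasic
import Cfsg.Agent.Lib.Helper6.IndFun

set_option autoImplicit false

namespace Cfsg.Agent.Lib.Helper6

open Module
open scoped ComplexConjugate

section

variable {G : Type*} [Group G]

/-- The permutation character of a `G`-set: the number of fixed points. -/
noncomputable def permChar (G : Type*) [Group G] (X : Type*) [MulAction G X] : G → ℂ :=
  fun g => (Nat.card (MulAction.fixedBy X g) : ℂ)

theorem ofMulAction_character (X : Type*) [MulAction G X] [Finite X] (g : G) :
    (Representation.ofMulAction ℂ G X).character g = permChar G X g := by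
  classical
  have : Fintype X := Fintype.ofFinite X
  unfold Representation.character permChar
  rw [LinearMap.trace_eq_matrix_trace ℂ (MonoidAlgebra.basis X ℂ), Matrix.trace]
  simp only [Matrix.diag_apply, LinearMap.toMatrix_apply, MonoidAlgebra.basis_apply,
    Representation.ofMulAction_single]
  have : ∀ x : X, ((MonoidAlgebra.basis X ℂ).repr (MonoidAlgebra.single (g • x) (1 : ℂ))) x
      = if g • x = x then 1 else 0 := by
    intro x
    simp [MonoidAlgebra.basis, Finsupp.single_apply]
  rw [Finset.sum_congr rfl (fun x _ => this x), Finset.sum_boole, Nat.card_eq_fintype_card,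
    Fintype.card_subtype]
  rfl

theorem isCharacter_permChar (X : Type*) [MulAction G X] [Finite X] :
    Cfsg.IsCharacter G (permChar G X) := by
  have : Fintype X := Fintype.ofFinite X
  have h := isCharacter_character (Representation.ofMulAction ℂ G X)
  have h2 : (Representation.ofMulAction ℂ G X).character = permChar G X := by
    funext g
    exact ofMulAction_character X g
  rwa [h2] at h

theorem permChar_prod (X Y : Type*) [MulAction G X] [MulAction G Y] (g : G) :
    permChar G (X × Y) g = permChar G X g * permChar G Y g := by
  unfold permChar
  rw [← Nat.cast_mul, ← Nat.card_prod]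
  congr 1
  apply Nat.card_congr
  exact
    { toFun := fun p => (⟨p.1.1, by
          have := p.2
          rw [MulAction.mem_fixedBy] at this ⊢
          exact congrArg Prod.fst this⟩, ⟨p.1.2, by
          have := p.2
          rw [MulAction.mem_fixedBy] at this ⊢
          exact congrArg Prod.snd this⟩)
      invFun := fun p => ⟨(p.1.1, p.2.1), by
          rw [MulAction.mem_fixedBy]
          exact Prod.ext p.1.2 p.2.2⟩
      left_inv := fun p => rfl
      right_inv := fun p => rfl }

theorem permChar_conj (X : Type*) [MulAction G X] (g : G) : conj (permChar G X g) = permChar G X g := by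
  unfold permChar
  exact Complex.conj_natCast _

variable [Fintype G]

/-- Burnside's lemma in character form. -/
theorem sum_permChar (X : Type*) [MulAction G X] [Finite X] :
    ∑ g : G, permChar G X g
      = (Nat.card (Quotient (MulAction.orbitRel G X)) : ℂ) * (Nat.card G : ℂ) := by
  classical
  have : Fintype X := Fintype.ofFinite X
  have : Fintype (Quotient (MulAction.orbitRel G X)) := Fintype.ofFinite _
  have h := MulAction.sum_card_fixedBy_eq_card_orbits_mul_card_group G X
  unfold permChar
  simp only [Nat.card_eq_fintype_card]
  rw [← Nat.cast_sum, ← Nat.cast_mul]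
  congr 1

theorem classInner_permChar_one (X : Type*) [MulAction G X] [Finite X] :
    Cfsg.classInner (permChar G X) (fun _ => (1 : ℂ))
      = (Nat.card (Quotient (MulAction.orbitRel G X)) : ℂ) := by
  unfold Cfsg.classInner
  simp only [map_one, mul_one]
  rw [sum_permChar]
  have := card_ne_zero_complex G
  field_simp

theorem classInner_permChar_self (X : Type*) [MulAction G X] [Finite X] :
    Cfsg.classInner (permChar G X) (permChar G X)
      = (Nat.card (Quotient (MulAction.orbitRel G (X × X))) : ℂ) := by
  unfold Cfsg.classInner
  have h1 : ∀ g : G, permChar G X g * conj (permChar G X g) = permChar G (X × X) g := by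
    intro g
    rw [permChar_conj, permChar_prod]
  rw [Finset.sum_congr rfl (fun g _ => h1 g), sum_permChar]
  have := card_ne_zero_complex G
  field_simp

end

end Cfsg.Agent.Lib.Helper6

namespace Cfsg.Agent.Lib.Helper6

section

variable {G : Type*} [Group G]

/-- The number of orbits on ordered pairs is two exactly for doubly transitive actions. -/
theorem card_orbits_prod_eq_two_iff (X : Type*) [MulAction G X] [Finite X]
    [MulAction.IsPretransitive G X] (hX : 2 ≤ Nat.card X) :
    Nat.card (Quotient (MulAction.orbitRel G (X × X))) = 2
      ↔ MulAction.IsMultiplyPretransitive G X 2 := by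
  classical
  have hnt : Nontrivial X := Finite.one_lt_card_iff_nontrivial.mp (by omega)
  let c : Quotient (MulAction.orbitRel G (X × X)) → Bool :=
    Quotient.lift (fun p : X × X => decide (p.1 = p.2)) (by
      rintro ⟨a, b⟩ ⟨a', b'⟩ h
      obtain ⟨g, hg⟩ := h
      have h1 : g • a' = a := congrArg Prod.fst hg
      have h2 : g • b' = b := congrArg Prod.snd hg
      simp only [decide_eq_decide]
      rw [← h1, ← h2]
      exact smul_left_cancel_iff g)
  have hc : ∀ p : X × X, c (Quotient.mk _ p) = decide (p.1 = p.2) := fun p => rfl
  have hsurj : Function.Surjective c := by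
    intro b
    obtain ⟨x, y, hxy⟩ := exists_pair_ne X
    cases b
    · exact ⟨Quotient.mk _ (x, y), by rw [hc]; simpa using hxy⟩
    · exact ⟨Quotient.mk _ (x, x), by rw [hc]; simp⟩
  rw [MulAction.is_two_pretransitive_iff]
  constructor
  · intro hcard a b a' b' hab hab'
    have hbij := hsurj.bijective_of_nat_card_le (by rw [hcard]; simp)
    have h1 : c (Quotient.mk _ (a', b')) = c (Quotient.mk _ (a, b)) := by
      rw [hc, hc]
      simp [hab, hab']
    have h2 := Quotient.exact (hbij.1 h1)
    obtain ⟨g, hg⟩ := h2
    exact ⟨g, congrArg Prod.fst hg, congrArg Prod.snd hg⟩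
  · intro h2
    have hinj : Function.Injective c := by
      intro q q' hqq'
      induction q using Quotient.inductionOn with
      | _ p =>
      induction q' using Quotient.inductionOn with
      | _ p' =>
      rw [hc, hc] at hqq'
      apply Quotient.sound
      obtain ⟨a, b⟩ := p
      obtain ⟨a', b'⟩ := p'
      simp only [decide_eq_decide] at hqq'
      by_cases hab : a = b
      · have hab' : a' = b' := hqq'.mp hab
        subst hab
        subst hab'
        obtain ⟨g, hg⟩ := MulAction.exists_smul_eq G a' a
        exact ⟨g, by show g • (a', a') = (a, a); rw [Prod.smul_mk, hg]⟩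
      · have hab' : a' ≠ b' := fun h => hab (hqq'.mpr h)
        obtain ⟨g, hg1, hg2⟩ := h2 hab' hab
        exact ⟨g, by show g • (a', b') = (a, b); rw [Prod.smul_mk, hg1, hg2]⟩
    have hbij : Function.Bijective c := ⟨hinj, hsurj⟩
    rw [Nat.card_congr (Equiv.ofBijective c hbij)]
    simp

end

end Cfsg.Agent.Lib.Helper6
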