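import Mathlib
import Cfsg.Agent.Lib.Helper6.ZassInd
import Cfsg.Agent.Lib.Helper6.CharOps
import Cfsg.Agent.Lib.Helper6.Mult
import Cfsg.Agent.S0157

set_option autoImplicit false

/-!
Zassenhaus groups: basic structural lemmas (centralisers in the kernel, the normaliser of the
kernel, two classes of fixed point free elements, the permutation character).
-/

namespace Cfsg.Agent.Lib.Helper6.Zs

open Cfsg MulAction
open scoped ComplexConjugate

section
variable {G Ω : Type*} [Group G] [Fintype G] [MulAction G Ω] [Fintype Ω]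

theorem KD.centralizer_le (h : ZD G Ω) {a b : Ω} (hb : b ≠ a) {H : Subgroup G} (hK : KD a H)
    {u : G} (hu : u ∈ H) (hu1 : u ≠ 1) : Subgroup.centralizer ({u} : Set G) ≤ H := by
  intro x hx
  rw [Subgroup.mem_centralizer_iff] at hx
  have hc : u * x = x * u := hx u (Set.mem_singleton u)
  have hxa : x • a = a := by
    apply hK.fix u hu hu1
    rw [← mul_smul, hc, mul_smul, hK.fixa hu]
  by_contra hxH
  have hex : ∃ c : Ω, c ≠ a ∧ x • c = c := by
    by_contra hcon
    push Not at hcon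
    apply hxH
    apply hK.mem_of_fix_only h hb hxa
    intro c hc
    by_contra hca
    exact hcon c hca hc
  obtain ⟨c, hca, hxc⟩ := hex
  have huc : u • c ≠ c := fun h' => hca (hK.fix u hu hu1 c h')
  have huca : u • c ≠ a := hK.ne_a hca hu
  have hfix : x • (u • c) = u • c := by rw [← mul_smul, ← hc, mul_smul, hxc]
  have hx1 : x = 1 := h.three x a c (u • c) hca.symm huc.symm huca.symm hxa hxc hfix
  exact hxH (hx1 ▸ H.one_mem)

omit [Fintype G] in
theorem KD.ti {a : Ω} {H : Subgroup G} (hK : KD a H) {g : G} (hg : g • a ≠ a) {u : G}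
    (hu : u ∈ H) (hgu : g * u * g⁻¹ ∈ H) : u = 1 := by
  by_contra hu1
  apply hg
  have h1 : g * u * g⁻¹ ≠ 1 := by
    intro h'
    apply hu1
    have : u = g⁻¹ * (g * u * g⁻¹) * g := by group
    rw [this, h']; group
  have h2 : (g * u * g⁻¹) • (g • a) = g • a := by
    rw [mul_smul, mul_smul, inv_smul_smul, hK.fixa hu]
  exact hK.fix _ hgu h1 _ h2

theorem KD.exists_ne_one (h : ZD G Ω) {a : Ω} {H : Subgroup G} (hK : KD a H) :
    ∃ u ∈ H, u ≠ 1 := by
  have hn := h.card_gt
  have hc := hK.card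
  have h1 : 1 < Nat.card H := by omega
  have hHbot : H ≠ ⊥ := (Subgroup.one_lt_card_iff_ne_bot H).1 h1
  obtain ⟨u, hu1⟩ := (Subgroup.ne_bot_iff_exists_ne_one).1 hHbot
  exact ⟨(u : G), u.2, fun h' => hu1 (Subtype.ext h')⟩

theorem KD.normalizer_eq (h : ZD G Ω) {a b : Ω} (hb : b ≠ a) {H : Subgroup G} (hK : KD a H) :
    Subgroup.normalizer (H : Set G) = stabilizer G a := by
  ext g
  rw [Subgroup.mem_normalizer_iff, mem_stabilizer_iff]
  constructor
  · intro hg
    obtain ⟨u, hu, hu1⟩ := hK.exists_ne_one h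
    by_contra hga
    exact hu1 (hK.ti hga hu ((hg u).1 hu))
  · intro hg u
    constructor
    · intro hu; exact hK.conj_mem h hb hg hu
    · intro hu
      have hg' : g⁻¹ • a = a := by rw [inv_smul_eq_iff, hg]
      have h1 := hK.conj_mem h hb hg' hu
      have h2 : g⁻¹ * (g * u * g⁻¹) * g⁻¹⁻¹ = u := by group
      rwa [h2] at h1

/-- two non-conjugate fixed point free elements -/
theorem ZD.exists_two_fpf (h : ZD G Ω) {a b : Ω} (hab : a ≠ b)
    (hodd : Odd (Nat.card ↥(stabilizer G a ⊓ stabilizer G b : Subgroup G)))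
    (hlt : Nat.card ↥(stabilizer G a ⊓ stabilizer G b : Subgroup G) < Fintype.card Ω - 2) :
    ∃ x y : G, (∀ c : Ω, x • c ≠ c) ∧ (∀ c : Ω, y • c ≠ c) ∧ ¬ IsConj x y := by
  classical
  have hn := h.card_gt
  obtain ⟨n, hn_def⟩ : ∃ n, n = Fintype.card Ω := ⟨_, rfl⟩
  rw [← hn_def] at hn hlt
  obtain ⟨E, hE⟩ : ∃ E : Subgroup G, E = MulAction.stabilizer G a ⊓ MulAction.stabilizer G b :=
    ⟨_, rfl⟩
  rw [← hE] at hodd hlt
  obtain ⟨m, hm⟩ : ∃ m, m + n = n * n := ⟨n * n - n, Nat.sub_add_cancel (Nat.le_mul_self n)⟩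
  have hm' : n * n - n = m := by omega
  have hm2 : 2 * n ≤ m := by nlinarith
  have hG := h.card_two_mul hab
  rw [← hE, ← hn_def, hm'] at hG
  have he1 : 1 < Nat.card E := by rw [hE]; exact h.one_lt_card_two hab
  have he3 : 3 ≤ Nat.card E := by
    obtain ⟨k, hk⟩ := hodd
    omega
  have hG3 : 3 * m ≤ Nat.card G := by
    rw [← hG]
    exact Nat.mul_le_mul_right m he3
  have hf := h.two_card_fpf
  rw [← hn_def, ← hm] at hf
  obtain ⟨f₀, hf₀⟩ : ∃ f₀, f₀
      = (Finset.univ.filter (fun g : G => fx Ω g = 0)).card := ⟨_, rfl⟩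
  rw [← hf₀] at hf
  have hf0 : 0 < f₀ := by omega
  obtain ⟨x, hx⟩ : ∃ x : G, fx Ω x = 0 := by
    rw [hf₀] at hf0
    obtain ⟨x, hx⟩ := Finset.card_pos.1 hf0
    exact ⟨x, (Finset.mem_filter.1 hx).2⟩
  have hxf := (fx_eq_zero_iff x).1 hx
  by_contra hcon
  push Not at hcon
  have hdvd : f₀ ∣ Nat.card G := by
    have hset : ((Finset.univ.filter (fun g : G => fx Ω g = 0) :
        Finset G) : Set G) = MulAction.orbit (ConjAct G) x := by
      ext y
      simp only [Finset.coe_filter, Finset.mem_univ, true_and, Set.mem_setOf_eq]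
      rw [ConjAct.mem_orbit_conjAct]
      constructor
      · intro hy
        exact (hcon x y hxf ((fx_eq_zero_iff y).1 hy)).symm
      · intro hy
        rw [fx_eq_zero_iff]
        rw [isConj_iff] at hy
        obtain ⟨c, hc⟩ := hy
        intro d hd
        apply hxf (c • d)
        rw [← hc, mul_smul, mul_smul, inv_smul_smul, hd]
    have h1 := MulAction.index_stabilizer (ConjAct G) x
    rw [← hset, Set.ncard_coe_finset, ← hf₀] at h1
    rw [← h1]
    show (MulAction.stabilizer (ConjAct G) x).index ∣ Nat.card (ConjAct G)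
    exact Subgroup.index_dvd_card _
  obtain ⟨c, hc⟩ := hdvd
  have h1 : f₀ * 2 < f₀ * c := by
    rw [← hc]
    omega
  have h2 : f₀ * c < f₀ * 3 := by
    rw [← hc]
    omega
  have h3 := Nat.lt_of_mul_lt_mul_left h1
  have h4 := Nat.lt_of_mul_lt_mul_left h2
  omega

/-- a function induced from the point stabiliser vanishes at fixed point free elements -/
theorem indFun_stab_fpf {a : Ω} (μ : stabilizer G a → ℂ) {g : G} (hg : ∀ c : Ω, g • c ≠ c) :
    Cfsg.indFun (stabilizer G a) μ g = 0 := by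
  unfold Cfsg.indFun
  rw [Finset.sum_eq_zero, mul_zero]
  intro x _
  apply extendByZero_of_not_mem
  intro hx
  rw [mem_stabilizer_iff, mul_smul, mul_smul, inv_smul_eq_iff] at hx
  exact hg _ hx

/-- the permutation character is induced from the trivial character of the point stabiliser -/
theorem ZD.indFun_one_apply (h : ZD G Ω) (a : Ω) (g : G) :
    Cfsg.indFun (stabilizer G a) (fun _ => (1 : ℂ)) g = (Nat.card (fixedBy Ω g) : ℂ) := by
  classical
  have hM0 := LinExt.of_char (stabilizer G a) (μ := fun _ => (1 : ℂ)) isCharacter_one rfl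
  have hr₀ : ∀ c : Ω, ∃ x : G, x • a = c := fun c => h.trans a c
  choose r hr using hr₀
  rw [indFun_stab_apply hM0 r hr g]
  have h1 : ∀ c ∈ Finset.univ.filter (fun c : Ω => g • c = c),
      Cfsg.extendByZero (stabilizer G a) (fun _ => (1 : ℂ)) ((r c)⁻¹ * g * r c) = 1 := by
    intro c hc
    simp only [Finset.mem_filter, Finset.mem_univ, true_and] at hc
    have hmem : (r c)⁻¹ * g * r c ∈ stabilizer G a := by
      rw [mem_stabilizer_iff, mul_smul, mul_smul, hr c, hc, inv_smul_eq_iff, hr c]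
    rw [extendByZero_of_mem _ _ hmem]
  rw [Finset.sum_congr rfl h1, Finset.sum_const, nsmul_eq_mul, mul_one]
  congr 1
  rw [Nat.card_eq_fintype_card, ← Finset.card_univ]
  symm
  apply Finset.card_bij (fun (c : fixedBy Ω g) _ => (c : Ω))
  · intro c _
    simp only [Finset.mem_filter, Finset.mem_univ, true_and]
    exact c.2
  · intro c _ d _ hcd
    exact Subtype.ext hcd
  · intro c hc
    simp only [Finset.mem_filter, Finset.mem_univ, true_and] at hc
    exact ⟨⟨c, hc⟩, Finset.mem_univ _, rfl⟩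

theorem ZD.isIrr_fix_sub_one (h : ZD G Ω) :
    Cfsg.IsIrrCharacter G (fun g => (Nat.card (fixedBy Ω g) : ℂ) - 1) := by
  haveI : IsPretransitive G Ω := ⟨fun x y => h.trans x y⟩
  have hn := h.card_gt
  apply (Cfsg.Agent.S0157.result Ω (by rw [Nat.card_eq_fintype_card]; omega)).2
  rw [is_two_pretransitive_iff]
  intro a b c d hab hcd
  exact h.two a b c d hab hcd

end

end Cfsg.Agent.Lib.Helper6.Zs
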