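import Mathlib
import Cfsg.Agent.Lib.Helper6.ZassBasic

set_option autoImplicit false

/-!
Zassenhaus groups: involutions (conjugacy, fixed points, counting) when the two point stabiliser
has odd order.
-/

namespace Cfsg.Agent.Lib.Helper6.Zs

open Cfsg MulAction

section gen
variable {G : Type*} [Group G]

lemma mul_self_of_orderOf_two {x : G} (hx : orderOf x = 2) : x * x = 1 := by
  have := pow_orderOf_eq_one x
  rwa [hx, pow_two] at this

lemma ne_one_of_orderOf_two {x : G} (hx : orderOf x = 2) : x ≠ 1 := by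
  intro h'
  rw [h', orderOf_one] at hx
  omega

lemma orderOf_two_of {x : G} (h2 : x * x = 1) (h1 : x ≠ 1) : orderOf x = 2 := by
  haveI : Fact (Nat.Prime 2) := ⟨Nat.prime_two⟩
  exact orderOf_eq_prime (by rw [pow_two]; exact h2) h1

lemma inv_of_orderOf_two {x : G} (hx : orderOf x = 2) : x⁻¹ = x :=
  inv_eq_of_mul_eq_one_right (mul_self_of_orderOf_two hx)

lemma orderOf_two_conj {x : G} (hx : orderOf x = 2) (g : G) : orderOf (g * x * g⁻¹) = 2 := by
  apply orderOf_two_of
  · have h2 := mul_self_of_orderOf_two hx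
    calc g * x * g⁻¹ * (g * x * g⁻¹) = g * (x * x) * g⁻¹ := by group
      _ = 1 := by rw [h2]; group
  · intro h'
    apply ne_one_of_orderOf_two hx
    have : x = g⁻¹ * (g * x * g⁻¹) * g := by group
    rw [this, h']; group

end gen

section
variable {G Ω : Type*} [Group G] [Fintype G] [MulAction G Ω] [Fintype Ω]

lemma ZD.card_two_eq (h : ZD G Ω) {a b c d : Ω} (hab : a ≠ b) (hcd : c ≠ d) :
    Nat.card (stabilizer G c ⊓ stabilizer G d : Subgroup G)
      = Nat.card (stabilizer G a ⊓ stabilizer G b : Subgroup G) := by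
  have hn := h.card_gt
  have h1 := h.card_two_mul hab
  have h2 := h.card_two_mul hcd
  have hmpos : 0 < Fintype.card Ω * Fintype.card Ω - Fintype.card Ω := by
    have : Fintype.card Ω * 2 < Fintype.card Ω * Fintype.card Ω :=
      Nat.mul_lt_mul_of_pos_left hn (by omega)
    omega
  exact Nat.eq_of_mul_eq_mul_right hmpos (h2.trans h1.symm)

/-- all involutions are conjugate -/
theorem ZD.isConj_of_orderOf_two (h : ZD G Ω) {a b : Ω} (hab : a ≠ b)
    (hodd : Odd (Nat.card ↥(stabilizer G a ⊓ stabilizer G b : Subgroup G)))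
    {x y : G} (hx : orderOf x = 2) (hy : orderOf y = 2) : IsConj x y := by
  have hx1 := ne_one_of_orderOf_two hx
  have hy1 := ne_one_of_orderOf_two hy
  have hx2 := mul_self_of_orderOf_two hx
  have hy2 := mul_self_of_orderOf_two hy
  obtain ⟨c, hc⟩ : ∃ c : Ω, x • c ≠ c := by
    by_contra hcon
    push Not at hcon
    exact hx1 (h.faith x hcon)
  obtain ⟨c', hc'⟩ : ∃ c' : Ω, y • c' ≠ c' := by
    by_contra hcon
    push Not at hcon
    exact hy1 (h.faith y hcon)
  have hxd : x • (x • c) = c := by rw [← mul_smul, hx2, one_smul]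
  have hyd : y • (y • c') = c' := by rw [← mul_smul, hy2, one_smul]
  obtain ⟨g, hg1, hg2⟩ := h.two c' (y • c') c (x • c) (Ne.symm hc') (Ne.symm hc)
  have hgc : g⁻¹ • c = c' := by rw [inv_smul_eq_iff, hg1]
  have hgd : g⁻¹ • (x • c) = y • c' := by rw [inv_smul_eq_iff, hg2]
  obtain ⟨y', hy'⟩ : ∃ y' : G, y' = g * y * g⁻¹ := ⟨_, rfl⟩
  have hy'c : y' • c = x • c := by rw [hy', mul_smul, mul_smul, hgc, hg2]
  have hy'd : y' • (x • c) = c := by rw [hy', mul_smul, mul_smul, hgd, hyd, hg1]
  have hy'o : orderOf y' = 2 := by rw [hy']; exact orderOf_two_conj hy g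
  have hy'2 := mul_self_of_orderOf_two hy'o
  obtain ⟨w, hw⟩ : ∃ w : G, w = x * y' := ⟨_, rfl⟩
  have hwc : w • c = c := by rw [hw, mul_smul, hy'c, hxd]
  have hwd : w • (x • c) = x • c := by rw [hw, mul_smul, hy'd]
  have hwE : w ∈ (stabilizer G c ⊓ stabilizer G (x • c) : Subgroup G) :=
    Subgroup.mem_inf.2 ⟨mem_stabilizer_iff.2 hwc, mem_stabilizer_iff.2 hwd⟩
  have hwodd : Odd (orderOf w) := by
    have h1 : orderOf w ∣ Nat.card ↥(stabilizer G c ⊓ stabilizer G (x • c) : Subgroup G) := by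
      have h2 := orderOf_dvd_natCard
        (⟨w, hwE⟩ : ↥(stabilizer G c ⊓ stabilizer G (x • c) : Subgroup G))
      rwa [Subgroup.orderOf_mk] at h2
    rw [h.card_two_eq hab (Ne.symm hc)] at h1
    exact Odd.of_dvd_nat hodd h1
  obtain ⟨k, hk⟩ := hwodd
  obtain ⟨z, hz⟩ : ∃ z : G, z = w ^ (k + 1) := ⟨_, rfl⟩
  have hz2 : z * z = w := by
    rw [hz, ← pow_add]
    have h1 : k + 1 + (k + 1) = orderOf w + 1 := by omega
    rw [h1, pow_succ, pow_orderOf_eq_one, one_mul]
  have hxinv : x⁻¹ = x := inv_of_orderOf_two hx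
  have hy'inv : y'⁻¹ = y' := inv_of_orderOf_two hy'o
  have hxw : x * w * x = w⁻¹ := by
    calc x * w * x = (x * x) * y' * x := by rw [hw]; group
      _ = y' * x := by rw [hx2, one_mul]
      _ = y'⁻¹ * x⁻¹ := by rw [hxinv, hy'inv]
      _ = w⁻¹ := by rw [hw, mul_inv_rev]
  have hxz : x * z * x = z⁻¹ := by
    have h1 : x * z * x⁻¹ = (x * w * x⁻¹) ^ (k + 1) := by rw [conj_pow, hz]
    rw [hxinv] at h1
    rw [h1, hxw, inv_pow, hz]
  have h1 : x * z = z⁻¹ * x := by
    calc x * z = (x * z * x) * x := by rw [mul_assoc, mul_assoc, hx2, mul_one]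
      _ = z⁻¹ * x := by rw [hxz]
  have hy'eq : y' = z⁻¹ * x * z := by
    calc y' = (x * x) * y' := by rw [hx2, one_mul]
      _ = x * w := by rw [hw]; group
      _ = (x * w * x) * x := by rw [mul_assoc (x * w), hx2, mul_one]
      _ = w⁻¹ * x := by rw [hxw]
      _ = (z * z)⁻¹ * x := by rw [hz2]
      _ = z⁻¹ * (z⁻¹ * x) := by group
      _ = z⁻¹ * (x * z) := by rw [h1]
      _ = z⁻¹ * x * z := by group
  have c1 : IsConj x y' := by
    rw [isConj_iff]
    exact ⟨z⁻¹, by rw [inv_inv]; exact hy'eq.symm⟩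
  have c2 : IsConj y y' := isConj_iff.2 ⟨g, hy'.symm⟩
  exact c1.trans c2.symm

/-- an involution has exactly one fixed point when the degree is odd -/
theorem ZD.fx_involution (h : ZD G Ω) (hnodd : Odd (Fintype.card Ω)) {x : G}
    (hx : orderOf x = 2) : fx Ω x = 1 := by
  classical
  have hx1 := ne_one_of_orderOf_two hx
  have hle := h.fx_le_two hx1
  haveI : Fact (Nat.Prime 2) := ⟨Nat.prime_two⟩
  have hP : IsPGroup 2 (Subgroup.zpowers x) :=
    IsPGroup.of_card (n := 1) (by rw [Nat.card_zpowers, hx, pow_one])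
  have hmod := hP.card_modEq_card_fixedPoints Ω
  have hfix : Nat.card (fixedPoints (Subgroup.zpowers x) Ω) = fx Ω x := by
    unfold fx
    rw [← Fintype.card_subtype, ← Nat.card_eq_fintype_card]
    apply Nat.card_congr
    apply Equiv.subtypeEquivRight
    intro c
    rw [mem_fixedPoints]
    constructor
    · intro hc
      exact hc ⟨x, Subgroup.mem_zpowers x⟩
    · intro hc m
      have hle : Subgroup.zpowers x ≤ stabilizer G c :=
        Subgroup.zpowers_le.2 (mem_stabilizer_iff.2 hc)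
      exact mem_stabilizer_iff.1 (hle m.2)
  rw [hfix, Nat.card_eq_fintype_card] at hmod
  obtain ⟨j, hj⟩ := hnodd
  have hmod' : Fintype.card Ω % 2 = fx Ω x % 2 := hmod
  omega

/-- an involution swapping `a` and `b` inverts the two point stabiliser (odd degree) -/
theorem ZD.inv_of_swap (h : ZD G Ω) (hnodd : Odd (Fintype.card Ω)) {a b : Ω} (hab : a ≠ b)
    {t : G} (ht : orderOf t = 2) (hta : t • a = b) :
    ∀ y : G, y • a = a → y • b = b → t * y * t = y⁻¹ := by
  classical
  have ht2 := mul_self_of_orderOf_two ht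
  have htinv := inv_of_orderOf_two ht
  have htb : t • b = a := by rw [← hta, ← mul_smul, ht2, one_smul]
  have hfx := h.fx_involution hnodd ht
  unfold fx at hfx
  obtain ⟨f, hf⟩ := Finset.card_eq_one.1 hfx
  have hff : t • f = f := by
    have h1 : f ∈ Finset.univ.filter (fun c : Ω => t • c = c) := by
      rw [hf]; exact Finset.mem_singleton_self f
    simpa using h1
  have hfu : ∀ c : Ω, t • c = c → c = f := by
    intro c hc
    have h1 : c ∈ Finset.univ.filter (fun c : Ω => t • c = c) := by simp [hc]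
    rw [hf] at h1
    exact Finset.mem_singleton.1 h1
  have hfa : f ≠ a := by
    rintro rfl
    exact hab (hff.symm.trans hta)
  have hfb : f ≠ b := by
    rintro rfl
    exact hab (htb.symm.trans hff)
  obtain ⟨E, hE⟩ : ∃ E : Subgroup G, E = stabilizer G a ⊓ stabilizer G b := ⟨_, rfl⟩
  have hmE : ∀ x : G, x ∈ E ↔ (x • a = a ∧ x • b = b) := by
    intro x
    rw [hE, Subgroup.mem_inf, mem_stabilizer_iff, mem_stabilizer_iff]
  have hnorm : ∀ y ∈ E, t * y * t ∈ E := by
    intro y hy
    rw [hmE] at hy ⊢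
    constructor
    · rw [mul_smul, mul_smul, hta, hy.2, htb]
    · rw [mul_smul, mul_smul, htb, hy.1, hta]
  have hcent : ∀ y ∈ E, t * y = y * t → y = 1 := by
    intro y hy hc
    have hyf : y • f = f := by
      apply hfu
      rw [← mul_smul, hc, mul_smul, hff]
    exact h.three y a b f hab hfb.symm hfa.symm ((hmE y).1 hy).1 ((hmE y).1 hy).2 hyf
  let ν : E → E := fun y =>
    ⟨(y : G)⁻¹ * (t * y * t), E.mul_mem (E.inv_mem y.2) (hnorm y y.2)⟩
  have hνinj : Function.Injective ν := by
    intro y y' hyy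
    have h1 : (y : G)⁻¹ * (t * y * t) = (y' : G)⁻¹ * (t * y' * t) := congrArg Subtype.val hyy
    have h3 : (y : G)⁻¹ * t * y = (y' : G)⁻¹ * t * y' := by
      calc (y : G)⁻¹ * t * y = (y : G)⁻¹ * t * y * (t * t) := by rw [ht2, mul_one]
        _ = ((y : G)⁻¹ * (t * y * t)) * t := by group
        _ = ((y' : G)⁻¹ * (t * y' * t)) * t := by rw [h1]
        _ = (y' : G)⁻¹ * t * y' * (t * t) := by group
        _ = (y' : G)⁻¹ * t * y' := by rw [ht2, mul_one]
    have h2 : t * ((y' : G) * (y : G)⁻¹) = ((y' : G) * (y : G)⁻¹) * t := by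
      calc t * ((y' : G) * (y : G)⁻¹)
          = (y' : G) * ((y' : G)⁻¹ * t * y') * (y : G)⁻¹ := by group
        _ = (y' : G) * ((y : G)⁻¹ * t * y) * (y : G)⁻¹ := by rw [h3]
        _ = ((y' : G) * (y : G)⁻¹) * t := by group
    have h4 := hcent _ (E.mul_mem y'.2 (E.inv_mem y.2)) h2
    apply Subtype.ext
    exact (mul_inv_eq_one.1 h4).symm
  have hνsurj := Finite.injective_iff_surjective.1 hνinj
  intro w hwa hwb
  obtain ⟨y, hy⟩ := hνsurj ⟨w, (hmE w).2 ⟨hwa, hwb⟩⟩
  have hw : w = (y : G)⁻¹ * (t * y * t) := (congrArg Subtype.val hy).symm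
  rw [hw]
  calc t * ((y : G)⁻¹ * (t * y * t)) * t = t * (y : G)⁻¹ * t * y * (t * t) := by group
    _ = t * (y : G)⁻¹ * t * y := by rw [ht2, mul_one]
    _ = t⁻¹ * (y : G)⁻¹ * t⁻¹ * y := by rw [htinv]
    _ = ((y : G)⁻¹ * (t * y * t))⁻¹ := by rw [← htinv]; group

open Classical in
/-- the number of involutions mapping `a` to `b` -/
theorem ZD.card_inv_swap (h : ZD G Ω) (hnodd : Odd (Fintype.card Ω)) {a b : Ω} (hab : a ≠ b)
    (hex : ∃ x : G, orderOf x = 2) :
    (Finset.univ.filter (fun x : G => orderOf x = 2 ∧ x • a = b)).card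
      = Nat.card ↥(stabilizer G a ⊓ stabilizer G b : Subgroup G) := by
  obtain ⟨x₀, hx₀⟩ := hex
  obtain ⟨c₀, hc₀⟩ : ∃ c : Ω, x₀ • c ≠ c := by
    by_contra hcon
    push Not at hcon
    exact ne_one_of_orderOf_two hx₀ (h.faith x₀ hcon)
  obtain ⟨g, hg1, hg2⟩ := h.two c₀ (x₀ • c₀) a b (Ne.symm hc₀) hab
  obtain ⟨t, ht_def⟩ : ∃ t : G, t = g * x₀ * g⁻¹ := ⟨_, rfl⟩
  have ht : orderOf t = 2 := by rw [ht_def]; exact orderOf_two_conj hx₀ g
  have hga : g⁻¹ • a = c₀ := by rw [inv_smul_eq_iff, hg1]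
  have hta : t • a = b := by rw [ht_def, mul_smul, mul_smul, hga, hg2]
  have ht2 := mul_self_of_orderOf_two ht
  have htb : t • b = a := by rw [← hta, ← mul_smul, ht2, one_smul]
  have hinvE := h.inv_of_swap hnodd hab ht hta
  rw [← stab_prod, card_stab_eq_filter]
  symm
  apply Finset.card_bij (fun y _ => t * y)
  · intro y hy
    simp only [Finset.mem_filter, Finset.mem_univ, true_and, Prod.smul_mk, Prod.mk.injEq] at hy ⊢
    obtain ⟨hya, hyb⟩ := hy
    constructor
    · apply orderOf_two_of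
      · calc t * y * (t * y) = (t * y * t) * y := by group
          _ = 1 := by rw [hinvE y hya hyb, inv_mul_cancel]
      · intro h'
        have h1 : (t * y) • a = a := by rw [h', one_smul]
        rw [mul_smul, hya, hta] at h1
        exact hab h1.symm
    · rw [mul_smul, hya, hta]
  · intro y _ y' _ hyy
    exact mul_left_cancel hyy
  · intro x hx
    simp only [Finset.mem_filter, Finset.mem_univ, true_and] at hx
    obtain ⟨hxo, hxa⟩ := hx
    have hx2 := mul_self_of_orderOf_two hxo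
    have hxb : x • b = a := by rw [← hxa, ← mul_smul, hx2, one_smul]
    refine ⟨t * x, ?_, ?_⟩
    · simp only [Finset.mem_filter, Finset.mem_univ, true_and, Prod.smul_mk, Prod.mk.injEq]
      exact ⟨by rw [mul_smul, hxa, htb], by rw [mul_smul, hxb, hta]⟩
    · rw [← mul_assoc, ht2, one_mul]

open Classical in
/-- the number of involutions (odd degree) -/
theorem ZD.card_involutions (h : ZD G Ω) (hnodd : Odd (Fintype.card Ω)) {a b : Ω} (hab : a ≠ b)
    (hex : ∃ x : G, orderOf x = 2) :
    (Finset.univ.filter (fun x : G => orderOf x = 2)).card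
      = Nat.card ↥(stabilizer G a ⊓ stabilizer G b : Subgroup G) * Fintype.card Ω := by
  have hn := h.card_gt
  obtain ⟨n, hn_def⟩ : ∃ n, n = Fintype.card Ω := ⟨_, rfl⟩
  obtain ⟨e, he⟩ : ∃ e, e = Nat.card ↥(stabilizer G a ⊓ stabilizer G b : Subgroup G) := ⟨_, rfl⟩
  obtain ⟨Inv, hInv⟩ : ∃ Inv : Finset G, Inv = Finset.univ.filter (fun x : G => orderOf x = 2) :=
    ⟨_, rfl⟩
  rw [← hn_def, ← he, ← hInv]
  rw [← hn_def] at hn
  have h1 : ∀ x ∈ Inv, ∑ c : Ω, (if x • c ≠ c then 1 else 0) = n - 1 := by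
    intro x hx
    have hxo : orderOf x = 2 := by
      rw [hInv] at hx
      simpa using hx
    have hfx := h.fx_involution hnodd hxo
    unfold fx at hfx
    rw [← Finset.card_filter]
    have h2 := Finset.card_filter_add_card_filter_not (s := (Finset.univ : Finset Ω))
      (fun c : Ω => x • c = c)
    rw [hfx, Finset.card_univ, ← hn_def] at h2
    have h3 : (Finset.univ.filter (fun c : Ω => x • c ≠ c)).card
        = (Finset.univ.filter (fun c : Ω => ¬ x • c = c)).card := by
      congr 1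
    omega
  have h2 : ∀ (x : G) (c : Ω), (if x • c ≠ c then 1 else 0)
      = ∑ d ∈ Finset.univ.erase c, (if x • c = d then 1 else 0) := by
    intro x c
    rw [Finset.sum_ite_eq]
    simp
  have h3 : Inv.card * (n - 1)
      = ∑ c : Ω, ∑ d ∈ Finset.univ.erase c, (Inv.filter (fun x => x • c = d)).card := by
    rw [← smul_eq_mul, ← Finset.sum_const, ← Finset.sum_congr rfl h1]
    simp_rw [h2]
    rw [Finset.sum_comm]
    apply Finset.sum_congr rfl
    intro c _
    rw [Finset.sum_comm]
    apply Finset.sum_congr rfl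
    intro d _
    rw [Finset.card_filter]
  have h4 : ∀ c : Ω, ∀ d ∈ Finset.univ.erase c, (Inv.filter (fun x => x • c = d)).card = e := by
    intro c d hd
    have hcd : c ≠ d := (Finset.ne_of_mem_erase hd).symm
    rw [hInv, Finset.filter_filter, h.card_inv_swap hnodd hcd ⟨_, (hex.choose_spec)⟩,
      h.card_two_eq hab hcd, he]
  rw [Finset.sum_congr rfl (fun c _ => Finset.sum_congr rfl (h4 c))] at h3
  simp only [Finset.sum_const, Finset.card_erase_of_mem (Finset.mem_univ _), Finset.card_univ,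
    smul_eq_mul, ← hn_def] at h3
  have hn1 : 0 < n - 1 := by omega
  apply Nat.eq_of_mul_eq_mul_right hn1
  rw [h3]
  ring

open Classical in
/-- the number of involutions fixing a given point (odd degree) -/
theorem ZD.card_inv_fix (h : ZD G Ω) (hnodd : Odd (Fintype.card Ω)) {a b : Ω} (hab : a ≠ b)
    (hex : ∃ x : G, orderOf x = 2) (c : Ω) :
    (Finset.univ.filter (fun x : G => orderOf x = 2 ∧ x • c = c)).card
      = Nat.card ↥(stabilizer G a ⊓ stabilizer G b : Subgroup G) := by
  have hn := h.card_gt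
  obtain ⟨Nf, hNf⟩ : ∃ Nf : Ω → ℕ, Nf = fun c =>
      (Finset.univ.filter (fun x : G => orderOf x = 2 ∧ x • c = c)).card := ⟨_, rfl⟩
  have hNfc : ∀ c, (Finset.univ.filter (fun x : G => orderOf x = 2 ∧ x • c = c)).card = Nf c := by
    intro c; rw [hNf]
  rw [hNfc]
  have heq : ∀ c c' : Ω, Nf c = Nf c' := by
    intro c c'
    obtain ⟨g, hg⟩ := h.trans c c'
    rw [hNf]
    simp only
    apply Finset.card_bij (fun x _ => g * x * g⁻¹)
    · intro x hx
      simp only [Finset.mem_filter, Finset.mem_univ, true_and] at hx ⊢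
      refine ⟨orderOf_two_conj hx.1 g, ?_⟩
      rw [mul_smul, mul_smul, ← hg, inv_smul_smul, hx.2]
    · intro x _ y _ hxy
      exact mul_left_cancel (mul_right_cancel hxy)
    · intro y hy
      simp only [Finset.mem_filter, Finset.mem_univ, true_and] at hy
      refine ⟨g⁻¹ * y * g, ?_, by group⟩
      simp only [Finset.mem_filter, Finset.mem_univ, true_and]
      have h1 := orderOf_two_conj hy.1 g⁻¹
      rw [inv_inv] at h1
      refine ⟨h1, ?_⟩
      rw [mul_smul, mul_smul, hg, hy.2, ← hg, inv_smul_smul]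
  have hsum : ∑ c : Ω, Nf c = (Finset.univ.filter (fun x : G => orderOf x = 2)).card := by
    rw [hNf]
    simp only [Finset.card_filter]
    rw [Finset.sum_comm]
    apply Finset.sum_congr rfl
    intro x _
    by_cases hx : orderOf x = 2
    · have hfx := h.fx_involution hnodd hx
      unfold fx at hfx
      simp only [hx, true_and, if_true]
      rw [← Finset.card_filter, hfx]
    · simp [hx]
  rw [h.card_involutions hnodd hab hex, Finset.sum_congr rfl (fun c' _ => heq c' c),
    Finset.sum_const, Finset.card_univ, smul_eq_mul] at hsum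
  have hn0 : 0 < Fintype.card Ω := by omega
  apply Nat.eq_of_mul_eq_mul_left hn0
  rw [hsum, mul_comm]

end

end Cfsg.Agent.Lib.Helper6.Zs
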