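import Mathlib
import Cfsg.Agent.Lib.Helper6.ZassInd
import Cfsg.Agent.S4252
import Cfsg.Agent.S0035
import Cfsg.Agent.S0034

set_option autoImplicit false

/-!
Zassenhaus groups: existence of the Frobenius kernel of the point stabiliser (via Frobenius'
theorem).
-/

namespace Cfsg.Agent.Lib.Helper6.Zs

open Cfsg MulAction

section
variable {G Ω : Type*} [Group G] [Fintype G] [MulAction G Ω] [Fintype Ω]

theorem ZD.exists_kernel (h : ZD G Ω) (a : Ω) : ∃ H : Subgroup G, KD a H := by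
  classical
  have hn := h.card_gt
  obtain ⟨b, hb⟩ := h.exists_ne a
  haveI : Fintype ↥(SubMulAction.ofStabilizer G a) := Fintype.ofFinite _
  have hcard' : Fintype.card ↥(SubMulAction.ofStabilizer G a) + 1 = Fintype.card Ω := by
    have h1 := SubMulAction.nat_card_ofStabilizer_add_one_eq G a
    rw [Nat.card_eq_fintype_card, Nat.card_eq_fintype_card] at h1
    exact h1
  have hΩ' : 1 < Fintype.card ↥(SubMulAction.ofStabilizer G a) := by omega
  have hmem : ∀ x : Ω, x ∈ SubMulAction.ofStabilizer G a ↔ x ≠ a :=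
    fun x => SubMulAction.mem_ofStabilizer_iff G a
  have htrans : ∀ α β : ↥(SubMulAction.ofStabilizer G a), ∃ g : stabilizer G a, g • α = β := by
    intro α β
    have hα : (α : Ω) ≠ a := (hmem _).1 α.2
    have hβ : (β : Ω) ≠ a := (hmem _).1 β.2
    obtain ⟨g, hg1, hg2⟩ := h.two a α a β hα.symm hβ.symm
    exact ⟨⟨g, mem_stabilizer_iff.2 hg1⟩, Subtype.ext hg2⟩
  have hnreg : ∃ g : stabilizer G a, g ≠ 1 ∧
      ∃ α : ↥(SubMulAction.ofStabilizer G a), g • α = α := by
    obtain ⟨y, hy1⟩ := (Subgroup.ne_bot_iff_exists_ne_one).1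
      ((Subgroup.one_lt_card_iff_ne_bot _).1 (h.one_lt_card_two hb.symm))
    have hyE := Subgroup.mem_inf.1 y.2
    refine ⟨⟨(y : G), hyE.1⟩, fun h' => hy1 (Subtype.ext
      (congrArg (fun z : stabilizer G a => (z : G)) h')),
      ⟨b, (hmem b).2 hb⟩, Subtype.ext (mem_stabilizer_iff.1 hyE.2)⟩
  have hfix : ∀ g : stabilizer G a, g ≠ 1 → ∀ α β : ↥(SubMulAction.ofStabilizer G a),
      g • α = α → g • β = β → α = β := by
    intro g hg1 α β hα hβ
    by_contra hne
    apply hg1
    apply Subtype.ext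
    have hα' : (g : G) • (α : Ω) = α := congrArg Subtype.val hα
    have hβ' : (g : G) • (β : Ω) = β := congrArg Subtype.val hβ
    exact h.three (g : G) a α β ((hmem _).1 α.2).symm (fun h' => hne (Subtype.ext h'))
      ((hmem _).1 β.2).symm (mem_stabilizer_iff.1 g.2) hα' hβ'
  obtain ⟨hFC, hker⟩ := Cfsg.Agent.S4252.result (G := stabilizer G a)
    (Ω := ↥(SubMulAction.ofStabilizer G a)) hΩ' htrans hnreg hfix ⟨b, (hmem b).2 hb⟩
  obtain ⟨N, hN, hNn, hNc⟩ := Cfsg.Agent.S0035.result _ hFC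
  obtain ⟨hcardker, -⟩ := Cfsg.Agent.S0034.result _ hFC
  haveI : IsPretransitive (stabilizer G a) ↥(SubMulAction.ofStabilizer G a) :=
    ⟨fun α β => htrans α β⟩
  refine ⟨N.map (stabilizer G a).subtype, ?_, ?_, ?_⟩
  · rintro x ⟨y, -, rfl⟩
    exact y.2
  · rw [Nat.card_congr
      (Subgroup.equivMapOfInjective N _ (Subgroup.subtype_injective _)).symm.toEquiv]
    have h1 : Nat.card N = Nat.card (Cfsg.frobeniusKernel
        (stabilizer (stabilizer G a) (⟨b, (hmem b).2 hb⟩ : ↥(SubMulAction.ofStabilizer G a)))) := by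
      rw [← hN]
      rfl
    rw [h1, hcardker, index_stabilizer_of_transitive, Nat.card_eq_fintype_card]
    exact hcard'
  · rintro u ⟨y, hyN, rfl⟩ hu1 c hc
    by_contra hca
    have hyK : y ∈ Cfsg.frobeniusKernel
        (stabilizer (stabilizer G a) (⟨b, (hmem b).2 hb⟩ : ↥(SubMulAction.ofStabilizer G a))) := by
      rw [← hN]; exact hyN
    rw [hker] at hyK
    rcases hyK with h1 | h1
    · apply hu1
      rw [h1]
      rfl
    · exact h1 ⟨c, (hmem c).2 hca⟩ (Subtype.ext hc)

end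

end Cfsg.Agent.Lib.Helper6.Zs
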