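import Mathlib
import Cfsg.Agent.Lib.Helper6.ZassKer
import Cfsg.Agent.Lib.Helper6.ZassInv
import Cfsg.Agent.Lib.Lead.KleinInvariantSylow
import Cfsg.Agent.Lib.Lead.NilpotentCoprime
import Cfsg.Agent.S0033

set_option autoImplicit false

/-!
Zassenhaus groups: the degree is one more than a prime power as soon as `h - 1 ≤ 2 e`
(orbit counting on the kernel), the even case (`h - 1 ≤ 2 e` and the kernel is abelian), and
nilpotency of the kernel (Thompson).
-/

namespace Cfsg.Agent.Lib.Helper6.Zs

open Cfsg MulAction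

section
variable {G Ω : Type*} [Group G] [Fintype G] [MulAction G Ω] [Fintype Ω]

/-- the two point stabiliser acts semiregularly on the kernel -/
theorem KD.semiregular (h : ZD G Ω) {a b : Ω} (hab : a ≠ b) {K : Subgroup G} (hK : KD a K)
    {g : G} (hg : g ∈ (stabilizer G a ⊓ stabilizer G b : Subgroup G)) {k : G} (hk : k ∈ K)
    (hk1 : k ≠ 1) (hgk : g * k * g⁻¹ = k) : g = 1 := by
  have hba := hab.symm
  rw [Subgroup.mem_inf, mem_stabilizer_iff, mem_stabilizer_iff] at hg
  obtain ⟨hga, hgb⟩ := hg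
  have hc : g * k = k * g := by
    calc g * k = (g * k * g⁻¹) * g := by group
      _ = k * g := by rw [hgk]
  have hfix : g • (k • b) = k • b := by rw [← mul_smul, hc, mul_smul, hgb]
  have hkb : k • b ≠ b := fun h' => hba (hK.fix k hk hk1 b h')
  have hka : k • b ≠ a := hK.ne_a hba hk
  exact h.three g a b (k • b) hab hkb.symm hka.symm hga hgb hfix

/-- elements of the kernel with pairwise different orders lie in different orbits of the two
point stabiliser, each of which is regular -/
theorem KD.card_orbits_le (h : ZD G Ω) {a b : Ω} (hab : a ≠ b) {K : Subgroup G} (hK : KD a K)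
    {ι : Type*} [Fintype ι] (X : ι → G) (hXK : ∀ i, X i ∈ K) (hX1 : ∀ i, X i ≠ 1)
    (hord : Function.Injective (fun i => orderOf (X i))) :
    Fintype.card ι * Nat.card ↥(stabilizer G a ⊓ stabilizer G b : Subgroup G) + 1
      ≤ Nat.card K := by
  classical
  have hba := hab.symm
  have hsemi := fun {g : G} hg {k : G} hk hk1 hgk => hK.semiregular h hab (g := g) hg (k := k) hk hk1 hgk
  obtain ⟨E, hE⟩ : ∃ E : Subgroup G, E = stabilizer G a ⊓ stabilizer G b := ⟨_, rfl⟩
  rw [← hE] at hsemi ⊢
  have hmE : ∀ x : G, x ∈ E ↔ (x • a = a ∧ x • b = b) := by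
    intro x; rw [hE, Subgroup.mem_inf, mem_stabilizer_iff, mem_stabilizer_iff]
  let F : Option (ι × ↥E) → ↥K := fun o => match o with
    | none => 1
    | some (i, g) => ⟨(g : G) * X i * (g : G)⁻¹,
        hK.conj_mem h hba ((hmE g).1 g.2).1 (hXK i)⟩
  have hne1 : ∀ (i : ι) (g : ↥E), (g : G) * X i * (g : G)⁻¹ ≠ 1 := by
    intro i g h1
    apply hX1 i
    have : X i = (g : G)⁻¹ * ((g : G) * X i * (g : G)⁻¹) * g := by group
    rw [this, h1]; group
  have hFinj : Function.Injective F := by
    intro o o' hoo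
    rcases o with _ | ⟨i, g⟩ <;> rcases o' with _ | ⟨j, g'⟩
    · rfl
    · exfalso
      have h1 : (1 : G) = (g' : G) * X j * (g' : G)⁻¹ := congrArg Subtype.val hoo
      exact hne1 j g' h1.symm
    · exfalso
      have h1 : (g : G) * X i * (g : G)⁻¹ = (1 : G) := congrArg Subtype.val hoo
      exact hne1 i g h1
    · have h1 : (g : G) * X i * (g : G)⁻¹ = (g' : G) * X j * (g' : G)⁻¹ :=
        congrArg Subtype.val hoo
      have hij : i = j := by
        apply hord
        show orderOf (X i) = orderOf (X j)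
        have e1 : orderOf ((g : G) * X i * (g : G)⁻¹) = orderOf (X i) :=
          (MulAut.conj (g : G)).orderOf_eq (X i)
        have e2 : orderOf ((g' : G) * X j * (g' : G)⁻¹) = orderOf (X j) :=
          (MulAut.conj (g' : G)).orderOf_eq (X j)
        rw [← e1, ← e2, h1]
      subst hij
      have h2 : ((g' : G)⁻¹ * g) * X i * ((g' : G)⁻¹ * g)⁻¹ = X i := by
        calc ((g' : G)⁻¹ * g) * X i * ((g' : G)⁻¹ * g)⁻¹
            = (g' : G)⁻¹ * ((g : G) * X i * (g : G)⁻¹) * g' := by group
          _ = (g' : G)⁻¹ * ((g' : G) * X i * (g' : G)⁻¹) * g' := by rw [h1]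
          _ = X i := by group
      have h3 := hsemi (E.mul_mem (E.inv_mem g'.2) g.2) (hXK i) (hX1 i) h2
      have h4 : g = g' := Subtype.ext (inv_mul_eq_one.1 h3).symm
      rw [h4]
  have hcard := Fintype.card_le_of_injective F hFinj
  rw [Fintype.card_option, Fintype.card_prod] at hcard
  rw [Nat.card_eq_fintype_card, Nat.card_eq_fintype_card]
  exact hcard

/-- if `h - 1 ≤ 2 e` and elements of coprime orders of the kernel commute, the kernel has prime
power order -/
theorem ZD.isPrimePow_of_le (h : ZD G Ω) {a b : Ω} (hab : a ≠ b) {K : Subgroup G} (hK : KD a K)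
    (hcomm : ∀ x ∈ K, ∀ y ∈ K, (orderOf x).Coprime (orderOf y) → x * y = y * x)
    (hle : Fintype.card Ω - 2
      ≤ 2 * Nat.card ↥(stabilizer G a ⊓ stabilizer G b : Subgroup G)) :
    IsPrimePow (Fintype.card Ω - 1) := by
  classical
  have hn := h.card_gt
  have hKc := hK.card
  have hKc' : Nat.card K = Fintype.card Ω - 1 := by omega
  rw [← hKc']
  by_contra hnpp
  have hK1 : Nat.card K ≠ 1 := by omega
  obtain ⟨p, hp, hpd⟩ := Nat.exists_prime_and_dvd hK1
  obtain ⟨r, hr, hrd, hrp⟩ : ∃ r : ℕ, r.Prime ∧ r ∣ Nat.card K ∧ r ≠ p := by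
    by_contra hcon
    push Not at hcon
    apply hnpp
    rw [isPrimePow_iff_unique_prime_dvd]
    exact ⟨p, ⟨hp, hpd⟩, fun r hr => hcon r hr.1 hr.2⟩
  haveI : Fact p.Prime := ⟨hp⟩
  haveI : Fact r.Prime := ⟨hr⟩
  obtain ⟨x, hx⟩ := exists_prime_orderOf_dvd_card' p hpd
  obtain ⟨y, hy⟩ := exists_prime_orderOf_dvd_card' r hrd
  have hxo : orderOf (x : G) = p := by rw [Subgroup.orderOf_coe]; exact hx
  have hyo : orderOf (y : G) = r := by rw [Subgroup.orderOf_coe]; exact hy
  have hcop : (orderOf (x : G)).Coprime (orderOf (y : G)) := by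
    rw [hxo, hyo]; exact (Nat.coprime_primes hp hr).2 hrp.symm
  have hxy : Commute (x : G) (y : G) := hcomm x x.2 y y.2 hcop
  have hxyo : orderOf ((x : G) * y) = p * r := by
    rw [hxy.orderOf_mul_eq_mul_orderOf_of_coprime hcop, hxo, hyo]
  obtain ⟨S, hS⟩ : ∃ S : Finset ℕ, S = {p, r, p * r} := ⟨_, rfl⟩
  have hScard : S.card = 3 := by
    rw [hS]
    exact Finset.card_eq_three.2 ⟨p, r, p * r, hrp.symm,
      (lt_mul_of_one_lt_right hp.pos hr.one_lt).ne,
      (lt_mul_of_one_lt_left hr.pos hp.one_lt).ne, rfl⟩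
  have hmS : ∀ m : ℕ, m ∈ S ↔ (m = p ∨ m = r ∨ m = p * r) := by
    intro m; rw [hS]; simp only [Finset.mem_insert, Finset.mem_singleton]
  have hex : ∀ m : S, ∃ k : G, k ∈ K ∧ orderOf k = m.val := by
    rintro ⟨m, hm⟩
    rcases (hmS m).1 hm with h1 | h1 | h1
    · exact ⟨x, x.2, hxo.trans h1.symm⟩
    · exact ⟨y, y.2, hyo.trans h1.symm⟩
    · exact ⟨x * y, K.mul_mem x.2 y.2, hxyo.trans h1.symm⟩
  choose X hXK hXo using hex
  have hX1 : ∀ m : S, X m ≠ 1 := by
    intro m h1
    have h2 := hXo m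
    rw [h1, orderOf_one] at h2
    rcases (hmS m.val).1 m.2 with h3 | h3 | h3 <;> rw [h3] at h2
    · exact hp.one_lt.ne h2
    · exact hr.one_lt.ne h2
    · have := hp.two_le; have := hr.two_le; nlinarith
  have hord : Function.Injective (fun m : S => orderOf (X m)) := by
    intro m m' hmm
    apply Subtype.ext
    have h1 := hXo m
    have h2 := hXo m'
    have h3 : orderOf (X m) = orderOf (X m') := hmm
    omega
  have key := hK.card_orbits_le h hab X hXK hX1 hord
  rw [Fintype.card_coe, hScard] at key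
  have he1 := h.one_lt_card_two hab
  omega

/-- the kernel is nilpotent (Thompson), in the form: elements of coprime orders commute -/
theorem KD.commute_of_coprime (h : ZD G Ω) {a b : Ω} (hab : a ≠ b) {K : Subgroup G}
    (hK : KD a K) :
    ∀ x ∈ K, ∀ y ∈ K, (orderOf x).Coprime (orderOf y) → x * y = y * x := by
  classical
  have hba := hab.symm
  have hn := h.card_gt
  have hKc := hK.card
  have he1 := h.one_lt_card_two hab
  obtain ⟨E, hE⟩ : ∃ E : Subgroup G, E = stabilizer G a ⊓ stabilizer G b := ⟨_, rfl⟩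
  rw [← hE] at he1
  have hmE : ∀ x : G, x ∈ E ↔ (x • a = a ∧ x • b = b) := by
    intro x; rw [hE, Subgroup.mem_inf, mem_stabilizer_iff, mem_stabilizer_iff]
  obtain ⟨r, hr, hrd⟩ := Nat.exists_prime_and_dvd he1.ne'
  haveI : Fact r.Prime := ⟨hr⟩
  obtain ⟨x0, hx0⟩ := exists_prime_orderOf_dvd_card' r hrd
  have hx0N : (x0 : G) ∈ Subgroup.normalizer (K : Set G) := by
    rw [hK.normalizer_eq h hba, mem_stabilizer_iff]
    exact ((hmE x0).1 x0.2).1
  let φ : MulAut K := Subgroup.normalizerMonoidHom K ⟨(x0 : G), hx0N⟩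
  have hφ_apply : ∀ k : K, ((φ k : K) : G) = (x0 : G) * k * (x0 : G)⁻¹ := fun k => rfl
  have hx01 : (x0 : G) ≠ 1 := by
    intro h1
    have h2 : orderOf (x0 : G) = r := by rw [Subgroup.orderOf_coe]; exact hx0
    rw [h1, orderOf_one] at h2
    exact hr.one_lt.ne h2
  have hfpf : MonoidHom.FixedPointFree (φ : K →* K) := by
    intro k hk
    by_contra hk1
    have h1 : (x0 : G) * k * (x0 : G)⁻¹ = k := by
      have := congrArg Subtype.val hk
      exact this
    apply hx01
    exact hK.semiregular h hab (by rw [← hE]; exact x0.2) k.2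
      (fun h' => hk1 (Subtype.ext h')) h1
  have hord : orderOf φ = r := by
    have h1 : orderOf φ ∣ orderOf (⟨(x0 : G), hx0N⟩ : Subgroup.normalizer (K : Set G)) :=
      orderOf_map_dvd _ _
    have h2 : orderOf (⟨(x0 : G), hx0N⟩ : Subgroup.normalizer (K : Set G)) = r := by
      rw [← Subgroup.orderOf_coe]
      show orderOf (x0 : G) = r
      rw [Subgroup.orderOf_coe]; exact hx0
    rw [h2] at h1
    rcases (Nat.dvd_prime hr).1 h1 with h3 | h3
    · exfalso
      have hφ1 : φ = 1 := orderOf_eq_one_iff.1 h3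
      -- then every element of K is fixed, so K is trivial
      have hKtriv : ∀ k : K, k = 1 := by
        intro k
        apply hfpf k
        show φ k = k
        rw [hφ1]; rfl
      have : Nat.card K = 1 := by
        rw [Nat.card_eq_one_iff_unique]
        exact ⟨⟨fun k k' => (hKtriv k).trans (hKtriv k').symm⟩, ⟨1⟩⟩
      omega
    · exact h3
  have hnil : Group.IsNilpotent K := Cfsg.Agent.S0033.result φ hfpf r hr hord
  intro x hx y hy hcop
  exact Cfsg.Agent.Lib.Lead.NilpotentCoprime.commute_of_coprime_of_mem K hnil hx hy hcop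

end

end Cfsg.Agent.Lib.Helper6.Zs
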