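import Mathlib

set_option autoImplicit false

/-!
Field coordinatisation: a commutative group `H` acting semiregularly on a finite abelian
group `A` with exactly two orbits on the non-zero elements makes `A` a one-dimensional
vector space over a finite field containing the image of `H`.
-/

namespace Cfsg.Agent.Lib.Helper6.Zp

universe u

section field
variable {A : Type u} [AddCommGroup A] [Finite A] {H : Type*} [Group H] [Finite H]

theorem end_mul_apply (f g : AddMonoid.End A) (v : A) : (f * g) v = f (g v) := rfl

theorem end_one_apply (v : A) : (1 : AddMonoid.End A) v = v := rfl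

theorem rho_inv_apply (ρ : H →* AddMonoid.End A) (h : H) (v : A) : ρ h⁻¹ (ρ h v) = v := by
  rw [← end_mul_apply, ← map_mul, inv_mul_cancel, map_one, end_one_apply]

/-- an `H`-stable additive subgroup is trivial or everything -/
theorem irr (ρ : H →* AddMonoid.End A)
    (hsemi : ∀ h : H, ∀ v : A, v ≠ 0 → ρ h v = v → h = 1)
    (hcard : Nat.card A = 2 * Nat.card H + 1)
    (W : AddSubgroup A) (hW : ∀ h : H, ∀ w ∈ W, ρ h w ∈ W) : W = ⊥ ∨ W = ⊤ := by
  classical
  by_cases hbot : W = ⊥
  · left; exact hbot
  right
  obtain ⟨w, hwW, hw0⟩ : ∃ w ∈ W, w ≠ 0 := by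
    by_contra hcon
    push Not at hcon
    apply hbot
    rw [eq_bot_iff]
    intro x hx
    rw [AddSubgroup.mem_bot]
    exact hcon x hx
  let f : Option H → W := fun o => match o with
    | none => ⟨0, W.zero_mem⟩
    | some h => ⟨ρ h w, hW h w hwW⟩
  have hne : ∀ h : H, ρ h w ≠ 0 := by
    intro h h0
    apply hw0
    have := rho_inv_apply ρ h w
    rw [h0, map_zero] at this
    exact this.symm
  have hinj : Function.Injective f := by
    intro o o' hoo
    cases o with
    | none =>
      cases o' with
      | none => rfl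
      | some h' =>
        exfalso
        have : (0 : A) = ρ h' w := congrArg Subtype.val hoo
        exact hne h' this.symm
    | some h =>
      cases o' with
      | none =>
        exfalso
        have : ρ h w = (0 : A) := congrArg Subtype.val hoo
        exact hne h this
      | some h' =>
        have h1 : ρ h w = ρ h' w := congrArg Subtype.val hoo
        have h2 : ρ (h'⁻¹ * h) w = w := by
          rw [map_mul, end_mul_apply, h1, rho_inv_apply]
        have h3 := hsemi _ w hw0 h2
        rw [inv_mul_eq_one] at h3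
        rw [h3]
  have hle : Nat.card H + 1 ≤ Nat.card W := by
    rw [← Finite.card_option]
    exact Nat.card_le_card_of_injective f hinj
  obtain ⟨m, hm⟩ := AddSubgroup.card_addSubgroup_dvd_card W
  rw [← AddSubgroup.card_eq_iff_eq_top]
  rcases m with _ | _ | _ | m
  · omega
  · omega
  · omega
  · have : Nat.card W * (m + 1 + 1 + 1) = Nat.card W * m + 3 * Nat.card W := by ring
    omega

theorem exists_field_raw (ρ : H →* AddMonoid.End A)
    (hcomm : ∀ h h' : H, h * h' = h' * h)
    (hsemi : ∀ h : H, ∀ v : A, v ≠ 0 → ρ h v = v → h = 1)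
    (hcard : Nat.card A = 2 * Nat.card H + 1) (e0 : A) (he0 : e0 ≠ 0) :
    ∃ (E : Type u) (_ : CommRing E) (_ : IsDomain E) (_ : Finite E) (ev : E → A) (χ : H → E),
      Function.Bijective ev ∧ ev 1 = e0 ∧ (∀ x y, ev (x + y) = ev x + ev y) ∧
      (∀ h h', χ (h * h') = χ h * χ h') ∧ χ 1 = 1 ∧ Function.Injective χ ∧
      (∀ h x, ev (χ h * x) = ρ h (ev x)) := by
  classical
  haveI : Finite (AddMonoid.End A) :=
    Finite.of_injective (fun f : AddMonoid.End A => (f : A → A)) DFunLike.coe_injective
  set s : Set (AddMonoid.End A) := Set.range ρ with hs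
  have hsc : ∀ x ∈ s, ∀ y ∈ s, x * y = y * x := by
    rintro _ ⟨h, rfl⟩ _ ⟨h', rfl⟩
    rw [← map_mul, ← map_mul, hcomm]
  letI cr : CommRing ↥(Subring.closure s) :=
    { (inferInstance : Ring ↥(Subring.closure s)) with
      mul_comm := fun x y => (Subring.isMulCommutative_closure hsc).is_comm.comm x y }
  have hmem : ∀ h : H, ρ h ∈ Subring.closure s := fun h => Subring.subset_closure ⟨h, rfl⟩
  -- elements commute with the action
  have hcommute : ∀ (x : ↥(Subring.closure s)) (h : H) (v : A),
      (x : AddMonoid.End A) (ρ h v) = ρ h ((x : AddMonoid.End A) v) := by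
    intro x h v
    have h1 : x * ⟨ρ h, hmem h⟩ = ⟨ρ h, hmem h⟩ * x := mul_comm _ _
    have h2 : (x : AddMonoid.End A) * ρ h = ρ h * (x : AddMonoid.End A) :=
      congrArg Subtype.val h1
    rw [← end_mul_apply, h2, end_mul_apply]
  -- non-zero elements are injective
  have hinj0 : ∀ x : ↥(Subring.closure s), x ≠ 0 → ∀ v : A, (x : AddMonoid.End A) v = 0 → v = 0 := by
    intro x hx v hv
    let W0 : AddSubgroup A :=
      { carrier := {w : A | (x : AddMonoid.End A) w = 0}
        add_mem' := by
          intro a b ha hb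
          show (x : AddMonoid.End A) (a + b) = 0
          rw [map_add, show (x : AddMonoid.End A) a = 0 from ha,
            show (x : AddMonoid.End A) b = 0 from hb, add_zero]
        zero_mem' := map_zero _
        neg_mem' := by
          intro a ha
          show (x : AddMonoid.End A) (-a) = 0
          rw [map_neg, show (x : AddMonoid.End A) a = 0 from ha, neg_zero] }
    have hir := irr ρ hsemi hcard W0 (by
      intro h w hw
      show (x : AddMonoid.End A) (ρ h w) = 0
      rw [hcommute, show (x : AddMonoid.End A) w = 0 from hw, map_zero])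
    rcases hir with hb | ht
    · have : v ∈ W0 := hv
      rw [hb, AddSubgroup.mem_bot] at this
      exact this
    · exfalso
      apply hx
      apply Subtype.ext
      apply AddMonoidHom.ext
      intro w
      have : w ∈ W0 := by rw [ht]; exact AddSubgroup.mem_top w
      exact this
  haveI : Nontrivial ↥(Subring.closure s) := by
    refine ⟨0, 1, ?_⟩
    intro h01
    apply he0
    have h1 : ((0 : ↥(Subring.closure s)) : AddMonoid.End A) e0
        = ((1 : ↥(Subring.closure s)) : AddMonoid.End A) e0 := by rw [h01]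
    exact h1.symm
  haveI : NoZeroDivisors ↥(Subring.closure s) := by
    refine ⟨?_⟩
    intro x y hxy
    by_cases hx : x = 0
    · left; exact hx
    right
    apply Subtype.ext
    apply AddMonoidHom.ext
    intro v
    have h1 : ((x * y : ↥(Subring.closure s)) : AddMonoid.End A) v = 0 := by rw [hxy]; rfl
    exact hinj0 x hx _ h1
  haveI : IsDomain ↥(Subring.closure s) := NoZeroDivisors.to_isDomain _
  refine ⟨↥(Subring.closure s), cr, inferInstance, inferInstance,
    fun x => (x : AddMonoid.End A) e0, fun h => ⟨ρ h, hmem h⟩, ⟨?_, ?_⟩, rfl, fun x y => rfl,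
    ?_, ?_, ?_, fun h x => rfl⟩
  · intro x y hxy
    by_contra hne
    have hsub : x - y ≠ 0 := sub_ne_zero.2 hne
    apply he0
    apply hinj0 (x - y) hsub
    have h1 : ((x - y : ↥(Subring.closure s)) : AddMonoid.End A) e0
        = (x : AddMonoid.End A) e0 - (y : AddMonoid.End A) e0 := rfl
    rw [h1]
    exact sub_eq_zero.2 hxy
  · -- surjective
    let W : AddSubgroup A :=
      { carrier := Set.range (fun x : ↥(Subring.closure s) => (x : AddMonoid.End A) e0)
        add_mem' := by
          rintro _ _ ⟨x, rfl⟩ ⟨y, rfl⟩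
          exact ⟨x + y, rfl⟩
        zero_mem' := ⟨0, rfl⟩
        neg_mem' := by
          rintro _ ⟨x, rfl⟩
          exact ⟨-x, rfl⟩ }
    have hW : ∀ h : H, ∀ w ∈ W, ρ h w ∈ W := by
      rintro h _ ⟨x, rfl⟩
      exact ⟨⟨ρ h, hmem h⟩ * x, rfl⟩
    rcases irr ρ hsemi hcard W hW with hb | ht
    · exfalso
      apply he0
      have : e0 ∈ W := ⟨1, rfl⟩
      rw [hb, AddSubgroup.mem_bot] at this
      exact this
    · intro v
      have : v ∈ W := by rw [ht]; exact AddSubgroup.mem_top v
      exact this
  · intro h h'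
    apply Subtype.ext
    exact map_mul ρ h h'
  · apply Subtype.ext
    exact map_one ρ
  · intro h h' hh
    have h1 : ρ h = ρ h' := congrArg Subtype.val hh
    have h2 : ρ (h'⁻¹ * h) e0 = e0 := by
      rw [map_mul, end_mul_apply, h1, rho_inv_apply]
    have h3 := hsemi _ e0 he0 h2
    rw [inv_mul_eq_one] at h3
    exact h3.symm

end field

/-- a finite commutative domain is ring-isomorphic to a field living in `Type` -/
theorem exists_small_field (E' : Type u) [CommRing E'] [IsDomain E'] [Finite E'] :
    ∃ (E : Type) (_ : Field E) (_ : Fintype E) (r : E → E'), Function.Bijective r ∧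
      (∀ x y, r (x + y) = r x + r y) ∧ (∀ x y, r (x * y) = r x * r y) ∧ r 1 = 1 := by
  classical
  haveI : Fintype E' := Fintype.ofFinite E'
  letI fld : Field E' := Fintype.fieldOfDomain E'
  haveI : Small.{0} E' := inferInstance
  refine ⟨Shrink.{0} E', inferInstance, Fintype.ofFinite _, (Shrink.ringEquiv E'),
    (Shrink.ringEquiv E').bijective, ?_, ?_, ?_⟩
  · intro x y; exact map_add (Shrink.ringEquiv E') x y
  · intro x y; exact map_mul (Shrink.ringEquiv E') x y
  · exact map_one (Shrink.ringEquiv E')

section main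
variable {A : Type u} [AddCommGroup A] [Finite A] {H : Type*} [Group H] [Finite H]

theorem exists_field (ρ : H →* AddMonoid.End A)
    (hcomm : ∀ h h' : H, h * h' = h' * h)
    (hsemi : ∀ h : H, ∀ v : A, v ≠ 0 → ρ h v = v → h = 1)
    (hcard : Nat.card A = 2 * Nat.card H + 1) (e0 : A) (he0 : e0 ≠ 0) :
    ∃ (E : Type) (_ : Field E) (_ : Fintype E) (ev : E → A) (χ : H → E),
      Function.Bijective ev ∧ ev 1 = e0 ∧ (∀ x y, ev (x + y) = ev x + ev y) ∧
      (∀ h h', χ (h * h') = χ h * χ h') ∧ χ 1 = 1 ∧ Function.Injective χ ∧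
      (∀ h x, ev (χ h * x) = ρ h (ev x)) := by
  obtain ⟨E', cr, dom, fin, ev, χ, hbij, h1, hadd, hχm, hχ1, hχi, hact⟩ :=
    exists_field_raw ρ hcomm hsemi hcard e0 he0
  obtain ⟨E, fld, ft, r, hr, hra, hrm, hr1⟩ := exists_small_field E'
  obtain ⟨rinv, hl, hri⟩ := Function.bijective_iff_has_inverse.1 hr
  refine ⟨E, fld, ft, fun x => ev (r x), fun h => rinv (χ h), hbij.comp hr, ?_, ?_, ?_, ?_, ?_, ?_⟩
  · show ev (r 1) = e0
    rw [hr1, h1]
  · intro x y
    show ev (r (x + y)) = ev (r x) + ev (r y)
    rw [hra, hadd]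
  · intro h h'
    apply hr.1
    rw [hrm, hri, hri, hri, hχm]
  · apply hr.1
    rw [hri, hr1, hχ1]
  · intro h h' hh
    apply hχi
    have := congrArg r hh
    rw [hri, hri] at this
    exact this
  · intro h x
    show ev (r (rinv (χ h) * x)) = ρ h (ev (r x))
    rw [hrm, hri, hact]

end main

end Cfsg.Agent.Lib.Helper6.Zp
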