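import Mathlib

set_option autoImplicit false

/-!
The field-theoretic analysis of the involution `t` of a Zassenhaus group with
`d = (n - 1) / 2`: a map `τ` of the non-zero elements of a finite field of odd order with
`τ (s x) = s⁻¹ τ x` for squares `s`, `τ² = 1`, is `x ↦ c / x` under suitable extra hypotheses.
-/

namespace Cfsg.Agent.Lib.Helper6.Zp

section sq
variable {E : Type*} [Field E] [Fintype E]

theorem ne_zero_of_nsq {a : E} (ha : ¬ IsSquare a) : a ≠ 0 := by
  rintro rfl
  exact ha IsSquare.zero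

theorem nsq_mul_nsq {a b : E} (ha : ¬ IsSquare a) (hb : ¬ IsSquare b) : IsSquare (a * b) := by
  classical
  have ha0 := ne_zero_of_nsq ha
  have hb0 := ne_zero_of_nsq hb
  rw [← quadraticChar_one_iff_isSquare (mul_ne_zero ha0 hb0), map_mul,
    quadraticChar_neg_one_iff_not_isSquare.2 ha, quadraticChar_neg_one_iff_not_isSquare.2 hb]
  norm_num

theorem sq_mul_nsq {a b : E} (ha0 : a ≠ 0) (ha : IsSquare a) (hb : ¬ IsSquare b) :
    ¬ IsSquare (a * b) := by
  classical
  rw [← quadraticChar_neg_one_iff_not_isSquare, map_mul,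
    (quadraticChar_one_iff_isSquare ha0).2 ha, quadraticChar_neg_one_iff_not_isSquare.2 hb]
  norm_num

theorem nsq_div_nsq {a b : E} (ha : ¬ IsSquare a) (hb : ¬ IsSquare b) : IsSquare (a / b) := by
  have hb0 := ne_zero_of_nsq hb
  have h1 : a / b = (a * b) * (b⁻¹ * b⁻¹) := by field_simp
  rw [h1]
  exact (nsq_mul_nsq ha hb).mul (IsSquare.mul_self _)

theorem card_sq_eq_card_nsq (hF : ringChar E ≠ 2) [DecidableEq E]
    [DecidablePred (fun x : E => IsSquare x)] :
    (Finset.univ.filter (fun x : E => x ≠ 0 ∧ IsSquare x)).card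
      = (Finset.univ.filter (fun x : E => ¬ IsSquare x)).card := by
  classical
  obtain ⟨ν, hν⟩ := FiniteField.exists_nonsquare hF
  have hν0 := ne_zero_of_nsq hν
  apply Finset.card_bij (fun x _ => ν * x)
  · intro x hx
    rw [Finset.mem_filter] at hx ⊢
    refine ⟨Finset.mem_univ _, ?_⟩
    rw [mul_comm]
    exact sq_mul_nsq hx.2.1 hx.2.2 hν
  · intro x _ y _ hxy
    exact mul_left_cancel₀ hν0 hxy
  · intro u hu
    rw [Finset.mem_filter] at hu
    refine ⟨u / ν, ?_, ?_⟩
    · rw [Finset.mem_filter]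
      exact ⟨Finset.mem_univ _, div_ne_zero (ne_zero_of_nsq hu.2) hν0, nsq_div_nsq hu.2 hν⟩
    · field_simp

theorem card_sq_add_card_nsq [DecidableEq E] [DecidablePred (fun x : E => IsSquare x)] :
    (Finset.univ.filter (fun x : E => x ≠ 0 ∧ IsSquare x)).card
      + (Finset.univ.filter (fun x : E => ¬ IsSquare x)).card + 1 = Fintype.card E := by
  classical
  rw [← Finset.card_univ (α := E)]
  have hdisj : Disjoint (Finset.univ.filter (fun x : E => x ≠ 0 ∧ IsSquare x))
      (Finset.univ.filter (fun x : E => ¬ IsSquare x)) := by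
    rw [Finset.disjoint_left]
    intro x hx hx'
    rw [Finset.mem_filter] at hx hx'
    exact hx'.2 hx.2.2
  rw [← Finset.card_union_of_disjoint hdisj]
  have h0 : (0 : E) ∉ (Finset.univ.filter (fun x : E => x ≠ 0 ∧ IsSquare x))
      ∪ (Finset.univ.filter (fun x : E => ¬ IsSquare x)) := by
    intro h
    rw [Finset.mem_union, Finset.mem_filter, Finset.mem_filter] at h
    rcases h with h | h
    · exact h.2.1 rfl
    · exact h.2 IsSquare.zero
  rw [← Finset.card_insert_of_notMem h0]
  congr 1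
  ext x
  simp only [Finset.mem_insert, Finset.mem_union, Finset.mem_filter, Finset.mem_univ, true_and,
    iff_true]
  by_cases hx0 : x = 0
  · left; exact hx0
  · by_cases hxs : IsSquare x
    · right; left; exact ⟨hx0, hxs⟩
    · right; right; exact hxs

/-- the number of non-squares -/
theorem two_mul_card_nsq (hF : ringChar E ≠ 2) [DecidableEq E]
    [DecidablePred (fun x : E => IsSquare x)] :
    2 * (Finset.univ.filter (fun x : E => ¬ IsSquare x)).card + 1 = Fintype.card E := by
  have h1 := card_sq_eq_card_nsq (E := E) hF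
  have h2 := card_sq_add_card_nsq (E := E)
  omega

/-- the number of non-zero squares -/
theorem two_mul_card_sq (hF : ringChar E ≠ 2) [DecidableEq E]
    [DecidablePred (fun x : E => IsSquare x)] :
    2 * (Finset.univ.filter (fun x : E => x ≠ 0 ∧ IsSquare x)).card + 1 = Fintype.card E := by
  have h1 := card_sq_eq_card_nsq (E := E) hF
  have h2 := card_sq_add_card_nsq (E := E)
  omega

end sq

section tau
variable {E : Type*} [Field E] [Fintype E]

/-- the hypotheses on `τ` -/
structure TauData (τ : E → E) : Prop where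
  ne : ∀ x, x ≠ 0 → τ x ≠ 0
  invol : ∀ x, x ≠ 0 → τ (τ x) = x
  sq : ∀ s x, s ≠ 0 → IsSquare s → x ≠ 0 → τ (s * x) = s⁻¹ * τ x

variable {τ : E → E} (hτ : TauData τ)
include hτ

theorem TauData.on_sq {x : E} (hx0 : x ≠ 0) (hx : IsSquare x) : τ x = τ 1 / x := by
  have := hτ.sq x 1 hx0 hx one_ne_zero
  rw [mul_one] at this
  rw [this, div_eq_inv_mul]

theorem TauData.on_nsq {ν : E} (hν : ¬ IsSquare ν) {x : E} (hx : ¬ IsSquare x) :
    τ x = ν * τ ν / x := by
  have hν0 := ne_zero_of_nsq hν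
  have hx0 := ne_zero_of_nsq hx
  have h1 := hτ.sq (x / ν) ν (div_ne_zero hx0 hν0) (nsq_div_nsq hx hν) hν0
  have h2 : x / ν * ν = x := by field_simp
  rw [h2] at h1
  rw [h1]
  field_simp

theorem TauData.c1_ne : τ 1 ≠ 0 := hτ.ne 1 one_ne_zero

theorem TauData.c2_ne {ν : E} (hν : ¬ IsSquare ν) : ν * τ ν ≠ 0 :=
  mul_ne_zero (ne_zero_of_nsq hν) (hτ.ne ν (ne_zero_of_nsq hν))

theorem TauData.dichotomy {ν : E} (hν : ¬ IsSquare ν) :
    (IsSquare (τ 1) ∧ IsSquare (ν * τ ν)) ∨ (τ 1 = ν * τ ν ∧ ¬ IsSquare (τ 1)) := by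
  have hν0 := ne_zero_of_nsq hν
  have hc1 := hτ.c1_ne
  have hc2 := hτ.c2_ne hν
  by_cases h1 : IsSquare (τ 1)
  · left
    refine ⟨h1, ?_⟩
    by_contra h2
    -- τ ν = c2 / ν is a non-zero square
    have e1 : τ ν = ν * τ ν / ν := by field_simp
    have hsq : IsSquare (ν * τ ν / ν) := nsq_div_nsq h2 hν
    have hne : ν * τ ν / ν ≠ 0 := div_ne_zero hc2 hν0
    have e2 := hτ.invol ν hν0
    rw [e1, hτ.on_sq hne hsq] at e2
    -- c1 / (c2 / ν) = ν
    have e3 : τ 1 = ν * τ ν := by
      field_simp at e2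
      exact (div_eq_iff (hτ.ne ν hν0)).1 e2
    rw [e3] at h1
    exact h2 h1
  · right
    refine ⟨?_, h1⟩
    have e2 := hτ.invol 1 one_ne_zero
    rw [hτ.on_nsq hν h1] at e2
    field_simp at e2
    exact e2.symm

/-- the case `-1` a non-square, `τ` without fixed points -/
theorem TauData.odd_case (hF : ringChar E ≠ 2) (hm1 : ¬ IsSquare (-1 : E))
    (hfp : ∀ x, x ≠ 0 → τ x ≠ x) :
    ∃ γ : E, γ ≠ 0 ∧ ∀ x, x ≠ 0 → τ x = -(γ * γ) / x := by
  obtain ⟨ν, hν⟩ := FiniteField.exists_nonsquare hF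
  have hc1 := hτ.c1_ne
  rcases hτ.dichotomy hν with ⟨h1, -⟩ | ⟨h12, h1⟩
  · exfalso
    obtain ⟨r, hr⟩ := h1
    have hr0 : r ≠ 0 := by
      rintro rfl
      rw [mul_zero] at hr
      exact hc1 hr
    by_cases hrs : IsSquare r
    · apply hfp r hr0
      rw [hτ.on_sq hr0 hrs, hr]
      field_simp
    · have hnr : IsSquare (-r) := by
        have : -r = (-1) * r := by ring
        rw [this]
        exact nsq_mul_nsq hm1 hrs
      have hnr0 : -r ≠ 0 := neg_ne_zero.2 hr0
      apply hfp (-r) hnr0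
      rw [hτ.on_sq hnr0 hnr, hr]
      field_simp
  · have hsq : IsSquare (-(τ 1)) := by
      have : -(τ 1) = (-1) * τ 1 := by ring
      rw [this]
      exact nsq_mul_nsq hm1 h1
    obtain ⟨γ, hγ⟩ := hsq
    refine ⟨γ, ?_, ?_⟩
    · rintro rfl
      rw [mul_zero, neg_eq_zero] at hγ
      exact hc1 hγ
    · intro x hx0
      rw [← hγ, neg_neg]
      by_cases hxs : IsSquare x
      · exact hτ.on_sq hx0 hxs
      · rw [hτ.on_nsq hν hxs, ← h12]

/-- the case `-1` a square, `τ` with a fixed point, and the relation coming from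
`t k t k' t` fixing `∞` -/
theorem TauData.even_case (hF : ringChar E ≠ 2) (hm1 : IsSquare (-1 : E))
    (hfix : ∃ x, x ≠ 0 ∧ τ x = x)
    (hw : ∃ s : E, s ≠ 0 ∧ IsSquare s ∧
      ∀ y, y ≠ 0 → y + 1 ≠ 0 → τ (τ (y + 1) - τ 1) = s * τ y - 1) :
    ∃ γ : E, γ ≠ 0 ∧ ∀ x, x ≠ 0 → τ x = -(γ * γ) / x := by
  classical
  obtain ⟨ν, hν⟩ := FiniteField.exists_nonsquare hF
  have hν0 := ne_zero_of_nsq hν
  have hc1 := hτ.c1_ne
  have hc2 := hτ.c2_ne hν
  have hm10 : (-1 : E) ≠ 0 := neg_ne_zero.2 one_ne_zero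
  -- both constants are squares
  have hboth : IsSquare (τ 1) ∧ IsSquare (ν * τ ν) := by
    rcases hτ.dichotomy hν with h | ⟨h12, h1⟩
    · exact h
    · exfalso
      obtain ⟨x0, hx0, hx⟩ := hfix
      apply h1
      have e : τ x0 = τ 1 / x0 := by
        by_cases hxs : IsSquare x0
        · exact hτ.on_sq hx0 hxs
        · rw [hτ.on_nsq hν hxs, ← h12]
      rw [hx] at e
      refine ⟨x0, ?_⟩
      field_simp at e
      rw [← e]; ring
  obtain ⟨h1, h2⟩ := hboth
  set c1 := τ 1 with hc1def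
  set c2 := ν * τ ν with hc2def
  have conclude : c1 = c2 → ∃ γ : E, γ ≠ 0 ∧ ∀ x, x ≠ 0 → τ x = -(γ * γ) / x := by
    intro h12
    have hsq : IsSquare (-c1) := by
      have : -c1 = (-1) * c1 := by ring
      rw [this]
      exact hm1.mul h1
    obtain ⟨γ, hγ⟩ := hsq
    refine ⟨γ, ?_, ?_⟩
    · rintro rfl
      rw [mul_zero, neg_eq_zero] at hγ
      exact hc1 hγ
    · intro x hx0
      rw [← hγ, neg_neg]
      by_cases hxs : IsSquare x
      · exact hτ.on_sq hx0 hxs
      · rw [hτ.on_nsq hν hxs]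
        show c2 / x = c1 / x
        rw [h12]
  by_cases h12 : c1 = c2
  · exact conclude h12
  exfalso
  obtain ⟨s, hs0, hss, hrel⟩ := hw
  have hsub : c1 - c2 ≠ 0 := sub_ne_zero.2 h12
  -- the key relation for y non-square with y + 1 a non-zero square
  have key : ∀ y : E, ¬ IsSquare y → IsSquare (y + 1) → y + 1 ≠ 0 →
      y * (c1 - c2) = c2 * (1 + s * c1) := by
    intro y hy hy1 hy10
    have hy0 := ne_zero_of_nsq hy
    have e1 : τ (y + 1) = c1 / (y + 1) := hτ.on_sq hy10 hy1
    have e2 : τ y = c2 / y := hτ.on_nsq hν hy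
    have hzz : c1 / (y + 1) - c1 = (-1 * c1 * (y + 1)⁻¹) * y := by field_simp; ring
    have hzsq : ¬ IsSquare ((-1 * c1 * (y + 1)⁻¹) * y) := by
      apply sq_mul_nsq _ _ hy
      · exact mul_ne_zero (mul_ne_zero hm10 hc1) (inv_ne_zero hy10)
      · exact (hm1.mul h1).mul hy1.inv
    have e3 : τ ((-1 * c1 * (y + 1)⁻¹) * y) = c2 / ((-1 * c1 * (y + 1)⁻¹) * y) :=
      hτ.on_nsq hν hzsq
    have hr := hrel y hy0 hy10
    rw [e1, hzz, e3, e2] at hr
    have hz0 : (-1 * c1 * (y + 1)⁻¹) * y ≠ 0 := ne_zero_of_nsq hzsq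
    field_simp at hr
    grind
  set y0 := c2 * (1 + s * c1) / (c1 - c2) with hy0def
  have keyT : ∀ y : E, ¬ IsSquare y → IsSquare (y + 1) → y + 1 ≠ 0 → y = y0 := by
    intro y hy hy1 hy10
    rw [hy0def, eq_div_iff hsub]
    exact key y hy hy1 hy10
  have keyT' : ∀ y : E, y ≠ 0 → IsSquare y → ¬ IsSquare (y + 1) → y = -1 - y0 := by
    intro y hy0 hy hy1
    have h3 : ¬ IsSquare (-1 - y) := by
      have : -1 - y = (-1) * (y + 1) := by ring
      rw [this]
      exact sq_mul_nsq hm10 hm1 hy1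
    have h4 : IsSquare (-1 - y + 1) := by
      have : -1 - y + 1 = (-1) * y := by ring
      rw [this]
      exact hm1.mul hy
    have h5 : -1 - y + 1 ≠ 0 := by
      have : -1 - y + 1 = -y := by ring
      rw [this]
      exact neg_ne_zero.2 hy0
    have := keyT _ h3 h4 h5
    rw [← this]; ring
  -- the injection of the non-squares into a two-element set
  have hmap : ∀ u : E, ¬ IsSquare u → (u - 1)⁻¹ = y0 ∨ (u - 1)⁻¹ = -1 - y0 := by
    intro u hu
    have hu0 := ne_zero_of_nsq hu
    have hu1 : u - 1 ≠ 0 := by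
      intro h
      have : u = 1 := sub_eq_zero.1 h
      rw [this] at hu
      exact hu IsSquare.one
    have hy0' : (u - 1)⁻¹ ≠ 0 := inv_ne_zero hu1
    have hy1 : (u - 1)⁻¹ + 1 = (u - 1)⁻¹ * u := by field_simp; ring
    by_cases hys : IsSquare (u - 1)⁻¹
    · right
      apply keyT' _ hy0' hys
      rw [hy1]
      exact sq_mul_nsq hy0' hys hu
    · left
      apply keyT _ hys
      · rw [hy1]; exact nsq_mul_nsq hys hu
      · rw [hy1]; exact mul_ne_zero hy0' hu0
  have hcardN : (Finset.univ.filter (fun x : E => ¬ IsSquare x)).card ≤ 2 := by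
    have hsub : (Finset.univ.filter (fun x : E => ¬ IsSquare x)).image (fun u => (u - 1)⁻¹)
        ⊆ {y0, -1 - y0} := by
      intro y hy
      rw [Finset.mem_image] at hy
      obtain ⟨u, hu, rfl⟩ := hy
      rw [Finset.mem_filter] at hu
      rw [Finset.mem_insert, Finset.mem_singleton]
      exact hmap u hu.2
    have hinj : Set.InjOn (fun u : E => (u - 1)⁻¹)
        (Finset.univ.filter (fun x : E => ¬ IsSquare x) : Set E) := by
      intro u _ v _ huv
      have : u - 1 = v - 1 := inv_injective huv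
      exact sub_left_injective this
    rw [← Finset.card_image_of_injOn hinj]
    exact le_trans (Finset.card_le_card hsub) Finset.card_le_two
  have hcardE := two_mul_card_nsq (E := E) hF
  have hE5 : Fintype.card E ≤ 5 := by omega
  -- small fields: `-1` a square forces `card E % 4 ≠ 3`, so `card E = 5`
  have hmod := FiniteField.isSquare_neg_one_iff.1 hm1
  have hodd : Fintype.card E % 2 = 1 := by omega
  have hgt : 1 < Fintype.card E := Fintype.one_lt_card
  have hE : Fintype.card E = 5 := by omega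
  have h5 : (5 : E) = 0 := by
    have := FiniteField.cast_card_eq_zero E
    rw [hE] at this
    exact_mod_cast this
  have h2ne : (2 : E) ≠ 0 := by
    intro h2z
    have : (1 : E) = 0 := by linear_combination h5 - 2 * h2z
    exact one_ne_zero this
  have h4 : ∀ x : E, x ≠ 0 → x ^ 4 = 1 := by
    intro x hx
    have := FiniteField.pow_card_sub_one_eq_one x hx
    rw [hE] at this
    exact this
  have hpm : ∀ w : E, w ≠ 0 → IsSquare w → w = 1 ∨ w = -1 := by
    intro w hw0 hw
    obtain ⟨r, hr⟩ := hw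
    have hr0 : r ≠ 0 := by
      rintro rfl
      rw [mul_zero] at hr
      exact hw0 hr
    have h := h4 r hr0
    have : (w - 1) * (w + 1) = 0 := by
      rw [hr]; linear_combination h
    rcases mul_eq_zero.1 this with h | h
    · left; exact sub_eq_zero.1 h
    · right; exact eq_neg_of_add_eq_zero_left h
  have h2nsq : ¬ IsSquare (2 : E) := by
    rintro ⟨r, hr⟩
    have hr0 : r ≠ 0 := by
      rintro rfl
      rw [mul_zero] at hr
      exact h2ne hr
    have h := h4 r hr0
    apply h2ne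
    have : r ^ 4 = 2 * 2 := by
      have : r ^ 4 = (r * r) * (r * r) := by ring
      rw [this, ← hr]
    rw [this] at h
    linear_combination (-1 : E) * h + h5
  have hkey := key (-2) (by
      have : (-2 : E) = (-1) * 2 := by ring
      rw [this]
      exact sq_mul_nsq hm10 hm1 h2nsq) (by
      have : (-2 : E) + 1 = -1 := by ring
      rw [this]; exact hm1) (by
      have : (-2 : E) + 1 = -1 := by ring
      rw [this]; exact hm10)
  rcases hpm c1 hc1 h1 with e1 | e1 <;> rcases hpm c2 hc2 h2 with e2 | e2 <;>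
    rcases hpm s hs0 hss with e3 | e3
  all_goals first
    | (exfalso; apply h12; rw [e1, e2]; done)
    | (rw [e1, e2, e3] at hkey
       apply h2ne
       first
         | linear_combination (-1 / 2 : E) * hkey
         | linear_combination (1 / 2 : E) * hkey
         | grind)

end tau

end Cfsg.Agent.Lib.Helper6.Zp
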