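import Mathlib
import Cfsg.Agent.Lib.Helper6.ZassPP
import Cfsg.Agent.Lib.Helper6.ZassBasic
import Cfsg.Agent.Lib.Helper6.ZpA
import Cfsg.Agent.Lib.Helper6.ZpB

set_option autoImplicit false

/-!
Field coordinates on the points of a Zassenhaus group with abelian kernel, abelian two-point
stabiliser `H` and `2 |H| = n - 1`.
-/

namespace Cfsg.Agent.Lib.Helper6.Zp

open Cfsg MulAction Cfsg.Agent.Lib.Helper6.Zs

section coord
variable {G Ω : Type*} [Group G] [Fintype G] [MulAction G Ω] [Fintype Ω]

theorem exists_coord (h : ZD G Ω) {a b : Ω} (hab : a ≠ b) {K : Subgroup G} (hK : KD a K)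
    (hKab : ∀ x ∈ K, ∀ y ∈ K, x * y = y * x)
    (hHab : ∀ x ∈ (stabilizer G a ⊓ stabilizer G b : Subgroup G),
      ∀ y ∈ (stabilizer G a ⊓ stabilizer G b : Subgroup G), x * y = y * x)
    (hcard2 : 2 * Nat.card ↥(stabilizer G a ⊓ stabilizer G b : Subgroup G) + 2
      = Fintype.card Ω) :
    ∃ (E : Type) (_ : Field E) (_ : Fintype E) (P : E → Ω),
      Fintype.card E + 1 = Fintype.card Ω ∧ Function.Injective P ∧ (∀ x, P x ≠ a) ∧
      (∀ c, c ≠ a → ∃ x, P x = c) ∧ P 0 = b ∧
      (∀ β : E, ∃ k : G, k • a = a ∧ ∀ x, k • P x = P (x + β)) ∧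
      (∀ w : G, w • a = a → ∃ s β : E, s ≠ 0 ∧ IsSquare s ∧ ∀ x, w • P x = P (s * x + β)) ∧
      (∀ s : E, s ≠ 0 → IsSquare s →
        ∃ g : G, g • a = a ∧ g • b = b ∧ ∀ x, g • P x = P (s * x)) := by
  classical
  set H : Subgroup G := stabilizer G a ⊓ stabilizer G b with hH
  have hba : b ≠ a := hab.symm
  letI cg : CommGroup K :=
    { (inferInstance : Group K) with
      mul_comm := fun x y => Subtype.ext (hKab x x.2 y y.2) }
  have hHa : ∀ g : H, (g : G) • a = a := fun g =>
    mem_stabilizer_iff.1 (Subgroup.mem_inf.1 g.2).1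
  have hHb : ∀ g : H, (g : G) • b = b := fun g =>
    mem_stabilizer_iff.1 (Subgroup.mem_inf.1 g.2).2
  let cj : H → (K →* K) := fun g =>
    { toFun := fun k => ⟨(g : G) * k * (g : G)⁻¹, hK.conj_mem h hba (hHa g) k.2⟩
      map_one' := by apply Subtype.ext; simp
      map_mul' := by intro x y; apply Subtype.ext; simp [mul_assoc] }
  let ρ : H →* AddMonoid.End (Additive K) :=
    { toFun := fun g => MonoidHom.toAdditive (cj g)
      map_one' := by
        apply AddMonoidHom.ext
        intro v
        apply Additive.toMul.injective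
        apply Subtype.ext
        show ((1 : H) : G) * ((Additive.toMul v : K) : G) * ((1 : H) : G)⁻¹
          = ((Additive.toMul v : K) : G)
        simp
      map_mul' := by
        intro g g'
        apply AddMonoidHom.ext
        intro v
        apply Additive.toMul.injective
        apply Subtype.ext
        show ((g * g' : H) : G) * ((Additive.toMul v : K) : G) * ((g * g' : H) : G)⁻¹
          = (g : G) * ((g' : G) * ((Additive.toMul v : K) : G) * (g' : G)⁻¹) * (g : G)⁻¹
        simp [mul_assoc] }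
  have hρ : ∀ (g : H) (v : Additive K),
      ((Additive.toMul (ρ g v) : K) : G)
        = (g : G) * ((Additive.toMul v : K) : G) * (g : G)⁻¹ := fun g v => rfl
  have hcomm : ∀ g g' : H, g * g' = g' * g := fun g g' =>
    Subtype.ext (hHab g g.2 g' g'.2)
  have hsemi : ∀ g : H, ∀ v : Additive K, v ≠ 0 → ρ g v = v → g = 1 := by
    intro g v hv hgv
    have hk1 : ((Additive.toMul v : K) : G) ≠ 1 := by
      intro h1
      apply hv
      apply Additive.toMul.injective
      apply Subtype.ext
      exact h1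
    have hgk : (g : G) * ((Additive.toMul v : K) : G) * (g : G)⁻¹
        = ((Additive.toMul v : K) : G) := by
      rw [← hρ, hgv]
    have := KD.semiregular h hab hK g.2 (Additive.toMul v : K).2 hk1 hgk
    exact Subtype.ext this
  have hcardK : Nat.card (Additive K) = Nat.card K := Nat.card_congr Additive.toMul
  have hcardA : Nat.card (Additive K) = 2 * Nat.card H + 1 := by
    have := hK.card
    omega
  obtain ⟨u0, hu0, hu01⟩ := KD.exists_ne_one h hK
  have he0 : Additive.ofMul (⟨u0, hu0⟩ : K) ≠ 0 := by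
    intro h0
    apply hu01
    exact congrArg (fun v : Additive K => ((Additive.toMul v : K) : G)) h0
  obtain ⟨E, fld, ft, ev, χ, hbij, -, hadd, hχm, hχ1, hχi, hact⟩ :=
    exists_field ρ hcomm hsemi hcardA _ he0
  have hev0 : ev 0 = 0 := by
    have := hadd 0 0
    rw [add_zero] at this
    simpa using this
  set κ : E → G := fun x => ((Additive.toMul (ev x) : K) : G) with hκ
  have hκK : ∀ x, κ x ∈ K := fun x => (Additive.toMul (ev x) : K).2
  have hκadd : ∀ x y, κ (x + y) = κ x * κ y := by
    intro x y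
    show ((Additive.toMul (ev (x + y)) : K) : G) = _
    rw [hadd]
    rfl
  have hκ0 : κ 0 = 1 := by
    show ((Additive.toMul (ev 0) : K) : G) = 1
    rw [hev0]
    rfl
  have hκinj : ∀ x y, κ x = κ y → x = y := by
    intro x y hxy
    apply hbij.1
    apply Additive.toMul.injective
    apply Subtype.ext
    exact hxy
  have hκsurj : ∀ u ∈ K, ∃ x, κ x = u := by
    intro u hu
    obtain ⟨x, hx⟩ := hbij.2 (Additive.ofMul (⟨u, hu⟩ : K))
    refine ⟨x, ?_⟩
    show ((Additive.toMul (ev x) : K) : G) = u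
    rw [hx]
    rfl
  have hκconj : ∀ (g : H) x, (g : G) * κ x * (g : G)⁻¹ = κ (χ g * x) := by
    intro g x
    show _ = ((Additive.toMul (ev (χ g * x)) : K) : G)
    rw [hact, hρ]
  have hcardE : Fintype.card E = 2 * Nat.card H + 1 := by
    rw [← hcardA, ← Nat.card_eq_fintype_card]
    exact Nat.card_eq_of_bijective ev hbij
  have hF : ringChar E ≠ 2 := by
    intro h2
    have := FiniteField.even_card_iff_char_two.1 h2
    omega
  have hχpow : ∀ (g : H) (n : ℕ), χ (g ^ n) = χ g ^ n := by
    intro g n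
    induction n with
    | zero => rw [pow_zero, pow_zero, hχ1]
    | succ n ih => rw [pow_succ, pow_succ, hχm, ih]
  have hχne : ∀ g : H, χ g ≠ 0 := by
    intro g h0
    have := hχm g g⁻¹
    rw [mul_inv_cancel, hχ1, h0, zero_mul] at this
    exact one_ne_zero this
  have hχsq : ∀ g : H, IsSquare (χ g) := by
    intro g
    rw [FiniteField.isSquare_iff hF (hχne g)]
    have : Fintype.card E / 2 = Nat.card H := by omega
    rw [this, ← hχpow, pow_card_eq_one', hχ1]
  have hχsurj : ∀ s : E, s ≠ 0 → IsSquare s → ∃ g : H, χ g = s := by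
    haveI : Fintype H := Fintype.ofFinite H
    have himg : (Finset.univ.image χ)
        = Finset.univ.filter (fun x : E => x ≠ 0 ∧ IsSquare x) := by
      apply Finset.eq_of_subset_of_card_le
      · intro y hy
        rw [Finset.mem_image] at hy
        obtain ⟨g, -, rfl⟩ := hy
        rw [Finset.mem_filter]
        exact ⟨Finset.mem_univ _, hχne g, hχsq g⟩
      · rw [Finset.card_image_of_injective _ hχi, Finset.card_univ]
        have h1 := two_mul_card_sq (E := E) hF
        have h2 : Fintype.card H = Nat.card H := (Nat.card_eq_fintype_card).symm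
        omega
    intro s hs0 hss
    have : s ∈ Finset.univ.filter (fun x : E => x ≠ 0 ∧ IsSquare x) := by
      rw [Finset.mem_filter]
      exact ⟨Finset.mem_univ _, hs0, hss⟩
    rw [← himg, Finset.mem_image] at this
    obtain ⟨g, -, hg⟩ := this
    exact ⟨g, hg⟩
  -- the action of `H` in coordinates
  have hHP : ∀ (g : H) (x : E), (g : G) • (κ x • b) = κ (χ g * x) • b := by
    intro g x
    have e1 : (g : G) • (κ x • b) = ((g : G) * κ x * (g : G)⁻¹) • ((g : G) • b) := by
      rw [← mul_smul, ← mul_smul]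
      congr 1
      group
    rw [e1, hHb g, hκconj]
  have hKP : ∀ (β x : E), κ β • (κ x • b) = κ (x + β) • b := by
    intro β x
    rw [← mul_smul, ← hκadd, add_comm]
  refine ⟨E, fld, ft, fun x => κ x • b, ?_, ?_, ?_, ?_, ?_, ?_, ?_, ?_⟩
  · omega
  · intro x y hxy
    exact hκinj x y (hK.inj hba (hκK x) (hκK y) hxy)
  · intro x
    exact hK.ne_a hba (hκK x)
  · intro c hc
    obtain ⟨u, hu, huc⟩ := hK.surj hba hc
    obtain ⟨x, hx⟩ := hκsurj u hu
    exact ⟨x, by show κ x • b = c; rw [hx, huc]⟩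
  · show κ 0 • b = b
    rw [hκ0, one_smul]
  · intro β
    exact ⟨κ β, hK.fixa (hκK β), fun x => hKP β x⟩
  · intro w hw
    have hwb : w • b ≠ a := by
      intro e
      apply hba
      have : w • b = w • a := by rw [e, hw]
      exact smul_left_cancel w this
    obtain ⟨u, hu, hub⟩ := hK.surj hba hwb
    obtain ⟨β, hβ⟩ := hκsurj u hu
    have hua : u⁻¹ • a = a := hK.fixa (K.inv_mem hu)
    have hgH : u⁻¹ * w ∈ H := by
      rw [hH, Subgroup.mem_inf, mem_stabilizer_iff, mem_stabilizer_iff]
      constructor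
      · rw [mul_smul, hw, hua]
      · rw [mul_smul, ← hub, inv_smul_smul]
    refine ⟨χ ⟨u⁻¹ * w, hgH⟩, β, hχne _, hχsq _, ?_⟩
    intro x
    have e1 : w • (κ x • b) = u • ((u⁻¹ * w) • (κ x • b)) := by
      rw [smul_smul u (u⁻¹ * w), mul_inv_cancel_left]
    show w • (κ x • b) = κ (χ ⟨u⁻¹ * w, hgH⟩ * x + β) • b
    rw [e1, hHP ⟨u⁻¹ * w, hgH⟩ x]
    have e2 := hKP β (χ ⟨u⁻¹ * w, hgH⟩ * x)
    rw [hβ] at e2
    exact e2
  · intro s hs0 hss
    obtain ⟨g, hg⟩ := hχsurj s hs0 hss
    refine ⟨(g : G), hHa g, hHb g, ?_⟩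
    intro x
    show (g : G) • (κ x • b) = κ (s * x) • b
    rw [hHP, hg]

end coord

end Cfsg.Agent.Lib.Helper6.Zp
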