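import Mathlib
import Cfsg.Agent.Lib.Helper6.ZpC
import Cfsg.Agent.Lib.Helper6.ZpD

set_option autoImplicit false

/-!
The core identification: a Zassenhaus group with abelian kernel, `2 |H| = n - 1`, and an
involution `t` swapping `a, b` which inverts `H` (with the right number of fixed points)
is `PSL₂(E)`.
-/

namespace Cfsg.Agent.Lib.Helper6.Zp

open Cfsg MulAction Cfsg.Agent.Lib.Helper6.Zs

section core
variable {G Ω : Type*} [Group G] [Fintype G] [MulAction G Ω] [Fintype Ω]

theorem core (h : ZD G Ω) {a b : Ω} (hab : a ≠ b) {K : Subgroup G} (hK : KD a K)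
    (hKab : ∀ x ∈ K, ∀ y ∈ K, x * y = y * x)
    (hcard2 : 2 * Nat.card ↥(stabilizer G a ⊓ stabilizer G b : Subgroup G) + 2
      = Fintype.card Ω)
    (t : G) (hta : t • a = b) (htb : t • b = a) (htt : t * t = 1)
    (hinv : ∀ x : G, x • a = a → x • b = b → t * x * t⁻¹ = x⁻¹)
    (hpar : (Even (Nat.card ↥(stabilizer G a ⊓ stabilizer G b : Subgroup G))
        ∧ ∃ c : Ω, t • c = c) ∨
      (Odd (Nat.card ↥(stabilizer G a ⊓ stabilizer G b : Subgroup G))
        ∧ ∀ c : Ω, t • c ≠ c)) :
    ∃ (E : Type) (_ : Field E) (_ : Fintype E), Fintype.card E + 1 = Fintype.card Ω ∧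
      Nonempty (G ≃* Matrix.ProjectiveSpecialLinearGroup (Fin 2) E) := by
  classical
  have hHab : ∀ x ∈ (stabilizer G a ⊓ stabilizer G b : Subgroup G),
      ∀ y ∈ (stabilizer G a ⊓ stabilizer G b : Subgroup G), x * y = y * x := by
    intro x hx y hy
    rw [Subgroup.mem_inf, mem_stabilizer_iff, mem_stabilizer_iff] at hx hy
    have h1 := hinv (x * y) (by rw [mul_smul, hy.1, hx.1]) (by rw [mul_smul, hy.2, hx.2])
    have h2 := hinv x hx.1 hx.2
    have h3 := hinv y hy.1 hy.2
    have h4 : t * (x * y) * t⁻¹ = (t * x * t⁻¹) * (t * y * t⁻¹) := by group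
    rw [h1, h2, h3] at h4
    have h5 := congrArg (fun z => z⁻¹) h4
    simp only [mul_inv_rev, inv_inv] at h5
    exact h5
  obtain ⟨E, fld, ft, P, hcE, hPinj, hPa, hPsurj, hP0, htrans, hstab, hsq⟩ :=
    exists_coord h hab hK hKab hHab hcard2
  refine ⟨E, fld, ft, hcE, ?_⟩
  have htinv : t⁻¹ = t := inv_eq_of_mul_eq_one_right htt
  have htt' : ∀ ω : Ω, t • t • ω = ω := fun ω => by rw [← mul_smul, htt, one_smul]
  have hcardE : Fintype.card E
      = 2 * Nat.card ↥(stabilizer G a ⊓ stabilizer G b : Subgroup G) + 1 := by omega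
  have hF : ringChar E ≠ 2 := by
    intro h2
    have := FiniteField.even_card_iff_char_two.1 h2
    omega
  have hne : ∀ x : E, x ≠ 0 → t • P x ≠ a := by
    intro x hx e
    have h1 : P x = t • a := by rw [← e, htt']
    rw [hta, ← hP0] at h1
    exact hx (hPinj h1)
  let τ : E → E := fun x =>
    if hx : x ≠ 0 then Classical.choose (hPsurj (t • P x) (hne x hx)) else 0
  have hτP : ∀ x : E, x ≠ 0 → P (τ x) = t • P x := by
    intro x hx
    show P (if hx : x ≠ 0 then Classical.choose (hPsurj (t • P x) (hne x hx)) else 0) = _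
    rw [dif_pos hx]
    exact Classical.choose_spec (hPsurj (t • P x) (hne x hx))
  have hτne : ∀ x : E, x ≠ 0 → τ x ≠ 0 := by
    intro x hx h0
    have h1 := hτP x hx
    rw [h0, hP0] at h1
    have h2 : t • b = P x := by rw [h1, htt']
    rw [htb] at h2
    exact hPa x h2.symm
  have hτinv : ∀ x : E, x ≠ 0 → τ (τ x) = x := by
    intro x hx
    apply hPinj
    rw [hτP _ (hτne x hx), hτP x hx, htt']
  have hτ : TauData τ := by
    refine ⟨hτne, hτinv, ?_⟩
    intro s x hs0 hss hx
    obtain ⟨g, hga, hgb, hgP⟩ := hsq s hs0 hss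
    have h1 := hinv g hga hgb
    have h2 : t * g = g⁻¹ * t := by
      rw [← h1]; group
    apply hPinj
    have hsx : s * x ≠ 0 := mul_ne_zero hs0 hx
    rw [hτP _ hsx, ← hgP, ← mul_smul, h2, mul_smul, ← hτP x hx, inv_smul_eq_iff, hgP]
    congr 1
    field_simp
  have hγ : ∃ γ : E, γ ≠ 0 ∧ ∀ x, x ≠ 0 → τ x = -(γ * γ) / x := by
    rcases hpar with ⟨hev, c, hc⟩ | ⟨hodd, hfp⟩
    · -- even case
      have hm1 : IsSquare (-1 : E) := by
        rw [FiniteField.isSquare_neg_one_iff]
        obtain ⟨m, hm⟩ := hev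
        omega
      have hfix : ∃ x, x ≠ 0 ∧ τ x = x := by
        have hca : c ≠ a := by
          rintro rfl
          rw [hta] at hc
          exact hab hc.symm
        have hcb : c ≠ b := by
          rintro rfl
          rw [htb] at hc
          exact hab hc
        obtain ⟨x0, hx0⟩ := hPsurj c hca
        have hx00 : x0 ≠ 0 := by
          rintro rfl
          rw [hP0] at hx0
          exact hcb hx0.symm
        refine ⟨x0, hx00, ?_⟩
        apply hPinj
        rw [hτP x0 hx00, hx0, hc]
      have hw : ∃ s : E, s ≠ 0 ∧ IsSquare s ∧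
          ∀ y, y ≠ 0 → y + 1 ≠ 0 → τ (τ (y + 1) - τ 1) = s * τ y - 1 := by
        obtain ⟨k1, hk1a, hk1P⟩ := htrans 1
        obtain ⟨k2, hk2a, hk2P⟩ := htrans (-τ 1)
        have hτ1 : τ 1 ≠ 0 := hτne 1 one_ne_zero
        have hwa : (t * k2 * t * k1 * t) • a = a := by
          simp only [mul_smul]
          rw [hta, ← hP0, hk1P, zero_add, ← hτP 1 one_ne_zero, hk2P, add_neg_cancel, hP0, htb]
        obtain ⟨s, β, hs0, hss, hwP⟩ := hstab _ hwa
        have hm10 : (-1 : E) ≠ 0 := neg_ne_zero.2 one_ne_zero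
        have hβ : β = -1 := by
          have h1 := hwP 0
          simp only [mul_smul] at h1
          rw [hP0, htb, hk1a, hta, ← hP0, hk2P, zero_add,
            ← hτP _ (neg_ne_zero.2 hτ1), mul_zero, zero_add] at h1
          have h2 := hPinj h1
          have h3 : -τ 1 = (-1) * τ 1 := by ring
          rw [h3, hτ.sq (-1) (τ 1) hm10 hm1 hτ1, hτinv 1 one_ne_zero] at h2
          rw [← h2]
          field_simp
        refine ⟨s, hs0, hss, ?_⟩
        intro y hy hy1
        have hτy : τ y ≠ 0 := hτne y hy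
        have hd : τ (y + 1) + -τ 1 ≠ 0 := by
          intro e
          have e1 : τ (y + 1) = τ 1 := by
            have := add_neg_eq_zero.1 e
            exact this
          have e2 := congrArg τ e1
          rw [hτinv _ hy1, hτinv 1 one_ne_zero] at e2
          apply hy
          have : y + 1 = 0 + 1 := by rw [e2, zero_add]
          exact add_right_cancel this
        have h1 := hwP (τ y)
        simp only [mul_smul] at h1
        rw [← hτP _ hτy, hτinv y hy, hk1P, ← hτP _ hy1, hk2P, ← hτP _ hd, hβ] at h1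
        have h2 := hPinj h1
        rw [sub_eq_add_neg, h2]
        ring
      exact hτ.even_case hF hm1 hfix hw
    · -- odd case
      have hm1 : ¬ IsSquare (-1 : E) := by
        rw [FiniteField.isSquare_neg_one_iff]
        obtain ⟨m, hm⟩ := hodd
        omega
      have hfp' : ∀ x, x ≠ 0 → τ x ≠ x := by
        intro x hx e
        apply hfp (P x)
        rw [← hτP x hx, e]
      exact hτ.odd_case hF hm1 hfp'
  obtain ⟨γ, hγ0, hγτ⟩ := hγ
  have hstab' : ∀ w : G, w • a = a →
      ∃ r β : E, r ≠ 0 ∧ ∀ x, w • P x = P (r * r * x + β) := by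
    intro w hw
    obtain ⟨s, β, hs0, ⟨r, hr⟩, hwP⟩ := hstab w hw
    refine ⟨r, β, ?_, ?_⟩
    · rintro rfl
      rw [mul_zero] at hr
      exact hs0 hr
    · intro x
      rw [hwP, hr]
  have hcardG : 2 * Nat.card G = Fintype.card E * (Fintype.card E ^ 2 - 1) := by
    have h1 := ZD.card_two_mul h hab
    set d := Nat.card ↥(stabilizer G a ⊓ stabilizer G b : Subgroup G) with hd
    have hΩ : Fintype.card Ω = 2 * d + 2 := by omega
    rw [hΩ] at h1
    rw [hcardE, ← h1]
    have e1 : (2 * d + 2) * (2 * d + 2) - (2 * d + 2) = (2 * d + 2) * (2 * d + 1) := by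
      have : (2 * d + 2) * (2 * d + 2) = (2 * d + 2) * (2 * d + 1) + (2 * d + 2) := by ring
      omega
    have e2 : (2 * d + 1) ^ 2 - 1 = 2 * d * (2 * d + 2) := by
      have : (2 * d + 1) ^ 2 = 2 * d * (2 * d + 2) + 1 := by ring
      omega
    rw [e1, e2]
    ring
  exact psl_iso h.faith (by omega) a P hPinj hPa hPsurj hstab' htrans t
    (by rw [hta, hP0]) (by rw [hP0, htb]) γ hγ0
    (fun x hx => by rw [← hτP x hx, hγτ x hx]) hcardG

end core

end Cfsg.Agent.Lib.Helper6.Zp
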