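import Mathlib
import Cfsg.Agent.Lib.Helper6.ZassInd

set_option autoImplicit false

/-!
Zassenhaus groups: in a perfect group, no nontrivial homomorphism from the two point stabiliser to
an abelian group is invariant under the swap (a transfer argument).
-/

namespace Cfsg.Agent.Lib.Helper6.Zs

open Cfsg MulAction

section
variable {G Ω : Type*} [Group G] [Fintype G] [MulAction G Ω] [Fintype Ω]

theorem hom_trivial_of_perfect (h : ZD G Ω) {a b : Ω} (hab : a ≠ b)
    (hperf : commutator G = ⊤)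
    (E : Subgroup G) (hE : E = stabilizer G a ⊓ stabilizer G b)
    (hodd : Odd (Nat.card E))
    {A : Type*} [Group A] (hcomm : ∀ x y : A, x * y = y * x)
    (ϕ : E →* A)
    (τ : G) (hτa : τ • a = b) (hτb : τ • b = a)
    (hinv : ∀ (y : E) (hy : τ⁻¹ * (y : G) * τ ∈ E), ϕ ⟨τ⁻¹ * (y : G) * τ, hy⟩ = ϕ y) :
    ∀ y : E, ϕ y = 1 := by
  classical
  letI : CommGroup A := { (inferInstance : Group A) with mul_comm := hcomm }
  have hba : b ≠ a := hab.symm
  have hmE : ∀ x : G, x ∈ E ↔ (x • a = a ∧ x • b = b) := by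
    intro x
    rw [hE, Subgroup.mem_inf, MulAction.mem_stabilizer_iff, MulAction.mem_stabilizer_iff]
  have hτa' : τ⁻¹ • b = a := by rw [inv_smul_eq_iff, hτa]
  have hτb' : τ⁻¹ • a = b := by rw [inv_smul_eq_iff, hτb]
  have hτE : ∀ y ∈ E, τ⁻¹ * y * τ ∈ E := by
    intro y hy
    rw [hmE] at hy ⊢
    constructor
    · rw [mul_smul, mul_smul, hτa, hy.2, hτa']
    · rw [mul_smul, mul_smul, hτb, hy.1, hτb']
  have hV : ∀ g : G, MonoidHom.transfer ϕ g = 1 := by
    intro g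
    have hg : g ∈ (MonoidHom.transfer ϕ).ker :=
      Abelianization.commutator_subset_ker _ (by rw [hperf]; exact Subgroup.mem_top g)
    exact hg
  have hkey : ∀ (y : E) (k : ℕ) (g₀ : G) (hk : g₀⁻¹ * (y : G) ^ k * g₀ ∈ E),
      ϕ ⟨g₀⁻¹ * (y : G) ^ k * g₀, hk⟩ = ϕ (y ^ k) := by
    intro y k g₀ hk
    obtain ⟨x, hx⟩ : ∃ x : E, x = y ^ k := ⟨_, rfl⟩
    have hxc : (x : G) = (y : G) ^ k := by rw [hx]; rfl
    rw [← hx]
    have hk' : g₀⁻¹ * (x : G) * g₀ ∈ E := by rw [hxc]; exact hk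
    have hgoal : ϕ ⟨g₀⁻¹ * (x : G) * g₀, hk'⟩ = ϕ x → 
        ϕ ⟨g₀⁻¹ * (y : G) ^ k * g₀, hk⟩ = ϕ x := by
      intro h1
      rw [← h1]
      congr 1
      apply Subtype.ext
      show g₀⁻¹ * (y : G) ^ k * g₀ = g₀⁻¹ * (x : G) * g₀
      rw [hxc]
    apply hgoal
    have hxE : (x : G) ∈ E := x.2
    by_cases hx1 : (x : G) = 1
    · have hx1' : x = 1 := Subtype.ext hx1
      have : (⟨g₀⁻¹ * (x : G) * g₀, hk'⟩ : E) = 1 := by
        apply Subtype.ext
        show g₀⁻¹ * (x : G) * g₀ = 1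
        rw [hx1]
        group
      rw [this, hx1']
    · have hfa : (x : G) • (g₀ • a) = g₀ • a := by
        have := ((hmE _).1 hk').1
        rw [mul_smul, mul_smul, inv_smul_eq_iff] at this
        exact this
      have hfb : (x : G) • (g₀ • b) = g₀ • b := by
        have := ((hmE _).1 hk').2
        rw [mul_smul, mul_smul, inv_smul_eq_iff] at this
        exact this
      have hgab : g₀ • a ≠ g₀ • b := fun h' => hab (smul_left_cancel g₀ h')
      have hga : g₀ • a = a ∨ g₀ • a = b := by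
        by_contra hcon
        push Not at hcon
        exact hx1 (h.three x a b (g₀ • a) hab hcon.2.symm hcon.1.symm ((hmE x).1 hxE).1
          ((hmE x).1 hxE).2 hfa)
      have hgb : g₀ • b = a ∨ g₀ • b = b := by
        by_contra hcon
        push Not at hcon
        exact hx1 (h.three x a b (g₀ • b) hab hcon.2.symm hcon.1.symm ((hmE x).1 hxE).1
          ((hmE x).1 hxE).2 hfb)
      rcases hga with hga | hga <;> rcases hgb with hgb | hgb
      · exact absurd (hga.trans hgb.symm) hgab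
      · -- g₀ ∈ E
        have hg₀E : g₀ ∈ E := (hmE g₀).2 ⟨hga, hgb⟩
        have h1 : (⟨g₀⁻¹ * (x : G) * g₀, hk'⟩ : E) = (⟨g₀, hg₀E⟩ : E)⁻¹ * x * ⟨g₀, hg₀E⟩ := by
          apply Subtype.ext
          rfl
        rw [h1, map_mul, map_mul, map_inv]
        rw [hcomm ((ϕ ⟨g₀, hg₀E⟩)⁻¹) (ϕ x), mul_assoc, inv_mul_cancel, mul_one]
      · -- τ⁻¹ g₀ ∈ E
        have hkE : τ⁻¹ * g₀ ∈ E := by
          rw [hmE]
          constructor
          · rw [mul_smul, hga, hτa']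
          · rw [mul_smul, hgb, hτb']
        have hxτ : τ⁻¹ * (x : G) * τ ∈ E := hτE _ hxE
        have h1 : (⟨g₀⁻¹ * (x : G) * g₀, hk'⟩ : E)
            = (⟨τ⁻¹ * g₀, hkE⟩ : E)⁻¹ * ⟨τ⁻¹ * (x : G) * τ, hxτ⟩ * ⟨τ⁻¹ * g₀, hkE⟩ := by
          apply Subtype.ext
          show g₀⁻¹ * (x : G) * g₀ = (τ⁻¹ * g₀)⁻¹ * (τ⁻¹ * (x : G) * τ) * (τ⁻¹ * g₀)
          group
        rw [h1, map_mul, map_mul, map_inv, hinv x hxτ]
        rw [hcomm ((ϕ ⟨τ⁻¹ * g₀, hkE⟩)⁻¹) (ϕ x), mul_assoc, inv_mul_cancel, mul_one]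
      · exact absurd (hga.trans hgb.symm) hgab
  have hcop : Nat.gcd E.index (Nat.card E) = 1 := by
    have := h.coprime_index hab (by rw [← hE]; exact hodd)
    rw [← hE] at this
    exact this
  intro y
  have h1 := Zs.transfer_eq_pow_of_invariant ϕ y (hkey y)
  rw [hV] at h1
  have h2 : ϕ y ^ Nat.card E = 1 := by rw [← map_pow, pow_card_eq_one', map_one]
  have h3 := pow_gcd_eq_one.2 ⟨h1.symm, h2⟩
  rw [hcop, pow_one] at h3
  exact h3

end

end Cfsg.Agent.Lib.Helper6.Zs
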