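import Mathlib
import Cfsg.Agent.Lib.Helper6.ZassP1
import Cfsg.Agent.S0040

set_option autoImplicit false

/-!
Zassenhaus groups: in a perfect Zassenhaus group with two point stabiliser of odd order, the two
point stabiliser is abelian.
-/

namespace Cfsg.Agent.Lib.Helper6.Zs

open Cfsg MulAction

section
variable {G Ω : Type*} [Group G] [Fintype G] [MulAction G Ω] [Fintype Ω]

lemma ZD.card_stab_eq (h : ZD G Ω) {a b : Ω} (hab : a ≠ b) :
    Nat.card (stabilizer G a)
      = (Fintype.card Ω - 1) * Nat.card (stabilizer G a ⊓ stabilizer G b : Subgroup G) := by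
  have hn := h.card_gt
  have h1 := h.card_stab_mul a
  have h2 := h.card_two_mul hab
  obtain ⟨n, hn_def⟩ : ∃ n, n = Fintype.card Ω := ⟨_, rfl⟩
  obtain ⟨e, he_def⟩ : ∃ e, e = Nat.card (stabilizer G a ⊓ stabilizer G b : Subgroup G) :=
    ⟨_, rfl⟩
  rw [← hn_def] at h1 h2 hn ⊢
  rw [← he_def] at h2 ⊢
  have h3 : n * n - n = (n - 1) * n := by rw [Nat.sub_mul, one_mul]
  rw [h3, ← mul_assoc] at h2
  have hn0 : 0 < n := by omega
  have := Nat.eq_of_mul_eq_mul_right hn0 (h1.trans h2.symm)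
  rw [this, mul_comm]

theorem isZGroup_two_stab (h : ZD G Ω) {a b : Ω} (hab : a ≠ b) {H : Subgroup G} (hK : KD a H)
    (hodd : Odd (Nat.card ↥(stabilizer G a ⊓ stabilizer G b : Subgroup G))) :
    IsZGroup ↥(stabilizer G a ⊓ stabilizer G b : Subgroup G) := by
  classical
  have hba : b ≠ a := hab.symm
  obtain ⟨L, hL⟩ : ∃ L : Subgroup G, L = stabilizer G a := ⟨_, rfl⟩
  obtain ⟨E, hE⟩ : ∃ E : Subgroup G, E = stabilizer G a ⊓ stabilizer G b := ⟨_, rfl⟩
  rw [← hE] at hodd ⊢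
  have hmL : ∀ x : G, x ∈ L ↔ x • a = a := by
    intro x; rw [hL, mem_stabilizer_iff]
  have hmE : ∀ x : G, x ∈ E ↔ (x • a = a ∧ x • b = b) := by
    intro x
    rw [hE, Subgroup.mem_inf, mem_stabilizer_iff, mem_stabilizer_iff]
  have hEL : E ≤ L := by rw [hE, hL]; exact inf_le_left
  have hHL : H ≤ L := by rw [hL]; exact hK.le
  obtain ⟨K₁, hK₁⟩ : ∃ K₁ : Subgroup L, K₁ = H.subgroupOf L := ⟨_, rfl⟩
  obtain ⟨E₁, hE₁⟩ : ∃ E₁ : Subgroup L, E₁ = E.subgroupOf L := ⟨_, rfl⟩
  have hmK₁ : ∀ x : L, x ∈ K₁ ↔ (x : G) ∈ H := fun x => by rw [hK₁, Subgroup.mem_subgroupOf]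
  have hmE₁ : ∀ x : L, x ∈ E₁ ↔ (x : G) ∈ E := fun x => by rw [hE₁, Subgroup.mem_subgroupOf]
  haveI hK₁n : K₁.Normal := ⟨fun k hk x => by
    rw [hmK₁] at hk ⊢
    exact hK.conj_mem h hba ((hmL _).1 x.2) hk⟩
  have hcardK : Nat.card K₁ = Nat.card H := by
    rw [hK₁]; exact Nat.card_congr (Subgroup.subgroupOfEquivOfLe hHL).toEquiv
  have hcardE : Nat.card E₁ = Nat.card E := by
    rw [hE₁]; exact Nat.card_congr (Subgroup.subgroupOfEquivOfLe hEL).toEquiv
  have hn := h.card_gt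
  have hcardL : Nat.card L = (Fintype.card Ω - 1) * Nat.card E := by
    rw [hL, hE]; exact h.card_stab_eq hab
  have hHc := hK.card
  have hHc' : Nat.card H = Fintype.card Ω - 1 := by omega
  have hdvd : Nat.card E ∣ Fintype.card Ω - 2 := by rw [hE]; exact h.card_two_dvd hab
  have hcop : Nat.Coprime (Nat.card K₁) (Nat.card E₁) := by
    rw [hcardK, hcardE, hHc']
    have h1 : Nat.Coprime (Fintype.card Ω - 1) (Fintype.card Ω - 2) := by
      have h2 : Fintype.card Ω - 1 = (Fintype.card Ω - 2) + 1 := by omega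
      rw [h2]
      simp
    exact Nat.Coprime.coprime_dvd_right hdvd h1
  have hcompl : K₁.IsComplement' E₁ := by
    apply Subgroup.isComplement'_of_coprime _ hcop
    rw [hcardK, hcardE, hHc', hcardL]
  have hK₁bot : K₁ ≠ ⊥ := by
    intro hbot
    have h1 : Nat.card K₁ = 1 := by rw [hbot]; exact Subgroup.card_bot
    rw [hcardK, hHc'] at h1
    omega
  have hfpf : ∀ y ∈ E₁, y ≠ 1 → K₁ ⊓ Subgroup.centralizer {y} = ⊥ := by
    intro y hy hy1
    rw [eq_bot_iff]
    intro u hu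
    rw [Subgroup.mem_inf, hmK₁, Subgroup.mem_centralizer_iff] at hu
    obtain ⟨huH, hcomm⟩ := hu
    rw [Subgroup.mem_bot]
    by_contra hu1
    have hu1' : (u : G) ≠ 1 := fun h' => hu1 (Subtype.ext h')
    have hc : (y : G) * (u : G) = (u : G) * (y : G) := by
      have h1 := hcomm y (Set.mem_singleton y)
      exact congrArg Subtype.val h1
    have hyE := (hmE _).1 ((hmE₁ y).1 hy)
    have hfix : (y : G) • ((u : G) • b) = (u : G) • b := by
      rw [← mul_smul, hc, mul_smul, hyE.2]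
    have hub : (u : G) • b ≠ b := fun h' => hba (hK.fix _ huH hu1' b h')
    have hua : (u : G) • b ≠ a := hK.ne_a hba huH
    apply hy1
    apply Subtype.ext
    exact h.three (y : G) a b ((u : G) • b) hab hub.symm hua.symm hyE.1 hyE.2 hfix
  have hZ₁ : IsZGroup E₁ := by
    refine ⟨fun p hp P => ?_⟩
    haveI : Fact p.Prime := ⟨hp⟩
    rcases Cfsg.Agent.S0040.result K₁ E₁ hcompl hK₁bot hfpf p P with hcyc | ⟨k, ⟨f⟩⟩
    · exact hcyc
    · exfalso
      have h1 : Nat.card P = 4 * 2 ^ k := by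
        rw [Nat.card_congr f.toEquiv, Nat.card_eq_fintype_card, QuaternionGroup.card]
      have h2 : Nat.card P ∣ Nat.card E₁ := Subgroup.card_subgroup_dvd_card _
      rw [h1, hcardE] at h2
      obtain ⟨j, hj⟩ := hodd
      have h3 : 2 ∣ Nat.card E := Dvd.dvd.trans ⟨2 * 2 ^ k, by ring⟩ h2
      omega
  rw [hE₁] at hZ₁
  haveI := hZ₁
  exact IsZGroup.of_injective (f := (Subgroup.subgroupOfEquivOfLe hEL).symm.toMonoidHom)
    (Subgroup.subgroupOfEquivOfLe hEL).symm.injective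

theorem two_stab_comm_of_perfect (h : ZD G Ω) {a b : Ω} (hab : a ≠ b) {H : Subgroup G}
    (hK : KD a H) (hperf : commutator G = ⊤)
    (hodd : Odd (Nat.card ↥(stabilizer G a ⊓ stabilizer G b : Subgroup G))) :
    ∀ x y : ↥(stabilizer G a ⊓ stabilizer G b : Subgroup G), x * y = y * x := by
  classical
  have hZ := isZGroup_two_stab h hab hK hodd
  obtain ⟨E, hE⟩ : ∃ E : Subgroup G, E = stabilizer G a ⊓ stabilizer G b := ⟨_, rfl⟩
  rw [← hE] at hodd hZ ⊢
  haveI := hZ
  have hmE : ∀ x : G, x ∈ E ↔ (x • a = a ∧ x • b = b) := by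
    intro x
    rw [hE, Subgroup.mem_inf, mem_stabilizer_iff, mem_stabilizer_iff]
  obtain ⟨τ, hτa, hτb⟩ := h.two a b b a hab hab.symm
  have hτa' : τ⁻¹ • b = a := by rw [inv_smul_eq_iff, hτa]
  have hτb' : τ⁻¹ • a = b := by rw [inv_smul_eq_iff, hτb]
  have hτE' : ∀ y ∈ E, τ * y * τ⁻¹ ∈ E := by
    intro y hy
    rw [hmE] at hy ⊢
    constructor
    · rw [mul_smul, mul_smul, hτb', hy.2, hτb]
    · rw [mul_smul, mul_smul, hτa', hy.1, hτa]
  haveI hcyc : IsCyclic (commutator E) := IsZGroup.isCyclic_commutator E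
  obtain ⟨c, hc⟩ : ∃ c : E →* MulAut (commutator E), c = MulAut.conjNormal := ⟨_, rfl⟩
  have hcapp : ∀ (y : E) (n : commutator E), ((c y n : commutator E) : E) = y * n * y⁻¹ := by
    intro y n; rw [hc]; exact MulAut.conjNormal_apply y n
  have hcomm : ∀ f g : MulAut (commutator E), f * g = g * f := by
    intro f g
    apply (IsCyclic.mulAutMulEquiv (commutator E)).injective
    rw [map_mul, map_mul, mul_comm]
  let σ : E →* E :=
    { toFun := fun y => ⟨τ * (y : G) * τ⁻¹, hτE' y y.2⟩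
      map_one' := by
        apply Subtype.ext
        show τ * ((1 : E) : G) * τ⁻¹ = ((1 : E) : G)
        rw [Subgroup.coe_one]; group
      map_mul' := fun x y => by
        apply Subtype.ext
        show τ * ((x * y : E) : G) * τ⁻¹ = (τ * (x : G) * τ⁻¹) * (τ * (y : G) * τ⁻¹)
        rw [Subgroup.coe_mul]; group }
  have hσapp : ∀ y : E, ((σ y : E) : G) = τ * (y : G) * τ⁻¹ := fun y => rfl
  have hσcomm : (commutator E).map σ ≤ commutator E := by
    rw [commutator_def, Subgroup.map_commutator]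
    exact Subgroup.commutator_mono le_top le_top
  have hinv : ∀ (y : E) (hy : τ⁻¹ * (y : G) * τ ∈ E), c ⟨τ⁻¹ * (y : G) * τ, hy⟩ = c y := by
    intro y hy
    obtain ⟨m, hm⟩ := MonoidHom.map_cyclic (c y).toMonoidHom
    apply MulEquiv.ext
    intro n
    apply Subtype.ext
    apply Subtype.ext
    have hn' : σ (n : E) ∈ commutator E := hσcomm (Subgroup.mem_map_of_mem σ n.2)
    have h1 := hm ⟨σ n, hn'⟩
    have h1G : (y : G) * (τ * ((n : E) : G) * τ⁻¹) * (y : G)⁻¹ = (τ * ((n : E) : G) * τ⁻¹) ^ m := by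
      have h2 := congrArg (fun z : commutator E => ((z : E) : G)) h1
      simp only [MulEquiv.coe_toMonoidHom] at h2
      rw [hcapp] at h2
      simpa [hσapp] using h2
    have h2G : (y : G) * ((n : E) : G) * (y : G)⁻¹ = ((n : E) : G) ^ m := by
      have h2 := congrArg (fun z : commutator E => ((z : E) : G)) (hm n)
      simp only [MulEquiv.coe_toMonoidHom] at h2
      rw [hcapp] at h2
      simpa using h2
    rw [hcapp, hcapp]
    show (τ⁻¹ * (y : G) * τ) * ((n : E) : G) * (τ⁻¹ * (y : G) * τ)⁻¹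
      = (y : G) * ((n : E) : G) * (y : G)⁻¹
    calc (τ⁻¹ * (y : G) * τ) * ((n : E) : G) * (τ⁻¹ * (y : G) * τ)⁻¹
        = τ⁻¹ * ((y : G) * (τ * ((n : E) : G) * τ⁻¹) * (y : G)⁻¹) * τ := by group
      _ = τ⁻¹ * (τ * ((n : E) : G) * τ⁻¹) ^ m * τ := by rw [h1G]
      _ = τ⁻¹ * (τ * ((n : E) : G) ^ m * τ⁻¹) * τ := by rw [conj_zpow]
      _ = ((n : E) : G) ^ m := by group
      _ = (y : G) * ((n : E) : G) * (y : G)⁻¹ := h2G.symm
  have htriv := hom_trivial_of_perfect h hab hperf E hE hodd hcomm c τ hτa hτb hinv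
  have hcenter : commutator E ≤ Subgroup.center E := by
    intro n hn
    rw [Subgroup.mem_center_iff]
    intro y
    have h1 := hcapp y ⟨n, hn⟩
    rw [htriv y] at h1
    have h2 : n = y * n * y⁻¹ := h1
    calc y * n = (y * n * y⁻¹) * y := by group
      _ = n * y := by rw [← h2]
  haveI hnil : Group.IsNilpotent E :=
    Subgroup.isNilpotent_of_ker_le_center (Abelianization.of : E →* Abelianization E)
      (by rw [Abelianization.ker_of]; exact hcenter)
  haveI hEcyc : IsCyclic E := inferInstance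
  intro x y
  letI := IsCyclic.commGroup (α := E)
  exact mul_comm x y

end

end Cfsg.Agent.Lib.Helper6.Zs
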