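import Mathlib
import Cfsg.Agent.Lib.Helper6.ZassInd
import Cfsg.Agent.Lib.Helper6.IndFunTI
import Cfsg.Agent.Lib.Helper6.CharOps
import Cfsg.Agent.Lib.Helper6.GenCharOps
import Cfsg.Agent.Lib.Helper6.GaloisConj
import Cfsg.Agent.Lib.Helper6.Constituent
import Cfsg.Agent.S0146

set_option autoImplicit false

/-!
Zassenhaus groups: characters induced from linear characters of the point stabiliser (refactoring of
the proof of S0881 into reusable pieces).
-/

namespace Cfsg.Agent.Lib.Helper6.Zs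

open Cfsg MulAction
open Cfsg.Agent.Lib.Helper6
open scoped ComplexConjugate commutatorElement

section
variable {G Ω : Type*} [Group G] [Fintype G] [MulAction G Ω] [Fintype Ω]

/-- values on the kernel and irreducibility of the function induced from a linear character of the
point stabiliser that is not invariant under the swap `τ`. -/
theorem indFun_irr_of_ninv (h : ZD G Ω) {a b : Ω} (hab : a ≠ b) {H : Subgroup G} (hK : KD a H)
    (μ : MulAction.stabilizer G a → ℂ)
    (hμ : Cfsg.IsCharacter (MulAction.stabilizer G a) μ ∧ μ 1 = 1)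
    (hμH : ∀ u : MulAction.stabilizer G a, (u : G) ∈ H → μ u = 1)
    (τ : G) (hτa : τ • a = b) (hτb : τ • b = a)
    (hinv : ¬ ∀ y ∈ (MulAction.stabilizer G a ⊓ MulAction.stabilizer G b : Subgroup G),
      Cfsg.extendByZero (MulAction.stabilizer G a) μ (τ⁻¹ * y * τ)
        = Cfsg.extendByZero (MulAction.stabilizer G a) μ y) :
    Cfsg.IsIrrCharacter G (Cfsg.indFun (MulAction.stabilizer G a) μ) := by
  classical
  have hn := h.card_gt
  have hHa := hK.le
  have hHcard := hK.card
  have hHfix := hK.fix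
  have hba : b ≠ a := hab.symm
  have hM0 := Zs.LinExt.of_char (MulAction.stabilizer G a) hμ.1 hμ.2
  obtain ⟨M, hMdef⟩ : ∃ M, M = Cfsg.extendByZero (MulAction.stabilizer G a) μ := ⟨_, rfl⟩
  have hM : Zs.LinExt (MulAction.stabilizer G a) M := by rw [hMdef]; exact hM0
  have hMH : ∀ u ∈ H, M u = 1 := by
    intro u hu
    rw [hMdef, extendByZero_of_mem _ μ (hHa hu)]
    exact hμH ⟨u, hHa hu⟩ hu
  have hr₀ : ∀ c : Ω, ∃ x : G, x • a = c := fun c => h.trans a c
  choose r₀ hr₀ using hr₀
  obtain ⟨r, hrdef⟩ : ∃ r : Ω → G, r = fun c => if c = a then 1 else if c = b then τ else r₀ c :=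
    ⟨_, rfl⟩
  have hr : ∀ c, r c • a = c := by
    intro c
    rw [hrdef]
    simp only
    split_ifs with h1 h2
    · rw [one_smul, h1]
    · rw [hτa, h2]
    · exact hr₀ c
  have hra : r a = 1 := by rw [hrdef]; simp
  have hrb : r b = τ := by rw [hrdef]; simp [hba]
  obtain ⟨I, hI⟩ : ∃ I, I = Cfsg.indFun (MulAction.stabilizer G a) μ := ⟨_, rfl⟩
  rw [← hI]
  have hIapply : ∀ g : G, I g = ∑ c ∈ Finset.univ.filter (fun c : Ω => g • c = c),
      M ((r c)⁻¹ * g * r c) := by
    intro g
    rw [hI, hMdef]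
    exact Zs.indFun_stab_apply hM0 r hr g
  have hIH : ∀ u ∈ H, u ≠ 1 → I u = 1 := by
    intro u hu hu1
    rw [hIapply u]
    have hfix : Finset.univ.filter (fun c : Ω => u • c = c) = {a} := by
      ext c
      simp only [Finset.mem_filter, Finset.mem_univ, true_and, Finset.mem_singleton]
      exact ⟨fun hc => hHfix u hu hu1 c hc, fun hc => by rw [hc]; exact hK.fixa hu⟩
    rw [hfix, Finset.sum_singleton, hra]
    simp only [inv_one, one_mul, mul_one]
    exact hMH u hu
  obtain ⟨E, hE⟩ : ∃ E : Subgroup G, E = MulAction.stabilizer G a ⊓ MulAction.stabilizer G b :=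
    ⟨_, rfl⟩
  have hmE : ∀ x : G, x ∈ E ↔ (x • a = a ∧ x • b = b) := by
    intro x
    rw [hE, Subgroup.mem_inf, MulAction.mem_stabilizer_iff, MulAction.mem_stabilizer_iff]
  have hES : E ≤ MulAction.stabilizer G a := by rw [hE]; exact inf_le_left
  have hτa' : τ⁻¹ • b = a := by rw [inv_smul_eq_iff, hτa]
  have hτb' : τ⁻¹ • a = b := by rw [inv_smul_eq_iff, hτb]
  have hτE : ∀ y ∈ E, τ⁻¹ * y * τ ∈ E := by
    intro y hy
    rw [hmE] at hy ⊢
    constructor
    · rw [mul_smul, mul_smul, hτa, hy.2, hτa']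
    · rw [mul_smul, mul_smul, hτb, hy.1, hτb']
  have hIE : ∀ y ∈ E, y ≠ 1 → I y = M y + M (τ⁻¹ * y * τ) := by
    intro y hy hy1
    rw [hIapply y]
    have hfix : Finset.univ.filter (fun c : Ω => y • c = c) = {a, b} := by
      ext c
      simp only [Finset.mem_filter, Finset.mem_univ, true_and, Finset.mem_insert,
        Finset.mem_singleton]
      constructor
      · intro hc
        by_contra hcon
        push Not at hcon
        exact hy1 (h.three y a b c hab (Ne.symm hcon.2) (Ne.symm hcon.1) ((hmE y).1 hy).1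
          ((hmE y).1 hy).2 hc)
      · rintro (rfl | rfl)
        · exact ((hmE y).1 hy).1
        · exact ((hmE y).1 hy).2
    rw [hfix, Finset.sum_pair hab, hra, hrb]
    simp only [inv_one, one_mul, mul_one]
  have he1 : 1 < Nat.card E := by rw [hE]; exact h.one_lt_card_two hab
  rw [← hMdef, ← hE] at hinv
  push Not at hinv
  obtain ⟨y₀, hy₀E, hy₀⟩ := hinv
  obtain ⟨φ, hφ⟩ : ∃ φ : G → ℂ, φ = fun y => M y * conj (M (τ⁻¹ * y * τ)) := ⟨_, rfl⟩
  obtain ⟨Ef, hEf⟩ : ∃ Ef : Finset G,
      Ef = Finset.univ.filter (fun g : G => g • a = a ∧ g • b = b) := ⟨_, rfl⟩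
  have hmEf : ∀ g, g ∈ Ef ↔ g ∈ E := by
    intro g
    rw [hEf, hmE]
    simp
  have hφmul : ∀ y y', y ∈ E → y' ∈ E → φ (y * y') = φ y * φ y' := by
    intro y y' hy hy'
    rw [hφ]
    simp only
    have h1 : τ⁻¹ * (y * y') * τ = (τ⁻¹ * y * τ) * (τ⁻¹ * y' * τ) := by group
    rw [h1, hM.mul _ _ (hES hy) (hES hy'),
      hM.mul _ _ (hES (hτE y hy)) (hES (hτE y' hy')), map_mul]
    ring
  have hφ1 : φ 1 = 1 := by
    rw [hφ]
    simp only
    have h1 : τ⁻¹ * 1 * τ = 1 := by group
    rw [h1, hM.one]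
    simp
  have hφy₀ : φ y₀ ≠ 1 := by
    rw [hφ]
    simp only
    rw [hM.conj_eq_inv (hES (hτE y₀ hy₀E))]
    intro h1
    apply hy₀
    have hz := hM.ne_zero (hES (hτE y₀ hy₀E))
    field_simp at h1
    exact h1.symm
  have hsumφ : ∑ y ∈ Ef, φ y = 0 := by
    have h1 : ∑ y ∈ Ef, φ (y₀ * y) = ∑ y ∈ Ef, φ y := by
      apply Finset.sum_bij' (fun y _ => y₀ * y) (fun y _ => y₀⁻¹ * y)
      · intro y hy
        rw [hmEf] at hy ⊢
        exact E.mul_mem hy₀E hy
      · intro y hy
        rw [hmEf] at hy ⊢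
        exact E.mul_mem (E.inv_mem hy₀E) hy
      · intro y _
        group
      · intro y _
        group
      · intro y _
        rfl
    have h2 : ∑ y ∈ Ef, φ (y₀ * y) = φ y₀ * ∑ y ∈ Ef, φ y := by
      rw [Finset.mul_sum]
      apply Finset.sum_congr rfl
      intro y hy
      rw [hmEf] at hy
      exact hφmul y₀ y hy₀E hy
    have h3 : (1 - φ y₀) * ∑ y ∈ Ef, φ y = 0 := by
      rw [sub_mul, one_mul, ← h2, h1, sub_self]
    rcases mul_eq_zero.1 h3 with h4 | h4
    · exact absurd (sub_eq_zero.1 h4).symm hφy₀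
    · exact h4
  -- cardinalities
  obtain ⟨n, hn_def⟩ : ∃ n, n = Fintype.card Ω := ⟨_, rfl⟩
  obtain ⟨e, he_def⟩ : ∃ e, e = Nat.card E := ⟨_, rfl⟩
  rw [← hn_def] at hn
  have hEfcard : Ef.card = e := by
    rw [he_def, hEf, hE, ← Zs.stab_prod, Zs.card_stab_eq_filter]
    congr 1
    ext g
    simp [Prod.ext_iff]
  obtain ⟨Hf, hHf⟩ : ∃ Hf : Finset G, Hf = Finset.univ.filter (fun g : G => g ∈ H) := ⟨_, rfl⟩
  have hHfcard : Hf.card + 1 = n := by
    rw [hn_def, ← hHcard, hHf, Nat.card_eq_fintype_card, Fintype.card_subtype]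
  have hScard : Nat.card (MulAction.stabilizer G a) = (n - 1) * e := by
    have h1 := h.card_stab_mul a
    have h2 := h.card_two_mul hab
    rw [← hE, ← he_def, ← hn_def] at h2
    rw [← hn_def] at h1
    have h3 : n * n - n = (n - 1) * n := by
      rw [Nat.sub_mul, one_mul]
    rw [h3, ← mul_assoc] at h2
    have hn0 : 0 < n := by omega
    have := Nat.eq_of_mul_eq_mul_right hn0 (h1.trans h2.symm)
    rw [this, mul_comm]
  have hI1 : I 1 = (n : ℂ) := by
    rw [hI, indFun_one, h.index_stab a, hμ.2, mul_one, hn_def]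
  have hIcf : Cfsg.IsClassFunction G I := by
    rw [hI]
    exact indFun_isClassFunction _ μ
  -- the sum
  have hT : ∑ g : G, M g * conj (I g) = ((n - 1) * e : ℕ) := by
    have e1 : ∑ g : G, M g * conj (I g)
        = ∑ g ∈ Finset.univ.filter (fun g : G => g • a = a), M g * conj (I g) := by
      symm
      apply Finset.sum_subset (Finset.filter_subset _ _)
      intro g _ hg
      simp only [Finset.mem_filter, Finset.mem_univ, true_and] at hg
      rw [hM.zero g (by rwa [MulAction.mem_stabilizer_iff]), zero_mul]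
    rw [e1, hK.sum_stab h hba (fun g => M g * conj (I g)), ← hHf, ← hEf]
    -- first sum
    have h1H : (1 : G) ∈ Hf := by rw [hHf]; simp
    have s1 : ∑ u ∈ Hf, M u * conj (I u) = (n : ℂ) + ((Hf.card : ℂ) - 1) := by
      rw [← Finset.add_sum_erase Hf _ h1H, hM.one, hI1, one_mul, Complex.conj_natCast]
      congr 1
      have : ∀ u ∈ Hf.erase 1, M u * conj (I u) = 1 := by
        intro u hu
        have hu1 : u ≠ 1 := Finset.ne_of_mem_erase hu
        have huH : u ∈ H := by
          have := Finset.mem_of_mem_erase hu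
          rw [hHf] at this
          simpa using this
        rw [hMH u huH, hIH u huH hu1]
        simp
      rw [Finset.sum_congr rfl this, Finset.sum_const, Finset.card_erase_of_mem h1H]
      have hpos : 1 ≤ Hf.card := Finset.card_pos.2 ⟨1, h1H⟩
      rw [nsmul_eq_mul, mul_one, Nat.cast_sub hpos, Nat.cast_one]
    have h1E : (1 : G) ∈ Ef := by rw [hmEf]; exact E.one_mem
    have s2 : ∀ u ∈ Hf, ∑ y ∈ Ef.erase 1, M (u * y * u⁻¹) * conj (I (u * y * u⁻¹))
        = (e : ℂ) - 2 := by
      intro u hu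
      have huH : u ∈ H := by
        rw [hHf] at hu
        simpa using hu
      have h2 : ∀ y ∈ Ef.erase 1, M (u * y * u⁻¹) * conj (I (u * y * u⁻¹)) = 1 + φ y := by
        intro y hy
        have hy1 : y ≠ 1 := Finset.ne_of_mem_erase hy
        have hyE : y ∈ E := (hmEf y).1 (Finset.mem_of_mem_erase hy)
        rw [hM.conj' (hHa huH) (hES hyE), hIcf y u, hIE y hyE hy1, map_add, mul_add,
          hM.norm y (hES hyE), hφ]
      rw [Finset.sum_congr rfl h2, Finset.sum_add_distrib, Finset.sum_const,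
        Finset.card_erase_of_mem h1E, hEfcard]
      have h3 := Finset.add_sum_erase Ef φ h1E
      rw [hsumφ, hφ1] at h3
      have h4 : ∑ y ∈ Ef.erase 1, φ y = -1 := by
        have : ∑ y ∈ Ef.erase 1, φ y = 0 - 1 := by rw [← h3]; ring
        rw [this]; ring
      rw [h4, nsmul_eq_mul, mul_one, Nat.cast_sub (by omega : 1 ≤ e), Nat.cast_one]
      ring
    rw [s1, Finset.sum_congr rfl s2, Finset.sum_const, nsmul_eq_mul]
    have hc : (Hf.card : ℂ) = (n : ℂ) - 1 := by
      have : ((Hf.card + 1 : ℕ) : ℂ) = (n : ℂ) := by rw [hHfcard]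
      push_cast at this
      rw [← this]; ring
    rw [hc]
    have hn1 : 1 ≤ n := by omega
    push_cast [Nat.cast_sub hn1]
    ring
  have hnorm : Cfsg.classInner I I = 1 := by
    have hfin : Fintype (MulAction.stabilizer G a) := Fintype.ofFinite _
    have e0 := Cfsg.Agent.S0146.result (MulAction.stabilizer G a) μ I hIcf
    rw [← hI] at e0
    rw [e0]
    unfold Cfsg.classInner
    have e1 : ∑ s : MulAction.stabilizer G a, μ s * conj (I s) = ∑ g : G, M g * conj (I g) := by
      rw [hMdef]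
      exact (sum_extendByZero_mul (MulAction.stabilizer G a) μ (fun g => conj (I g))).symm
    rw [e1, hT, hScard]
    have hne : (((n - 1) * e : ℕ) : ℂ) ≠ 0 := by
      rw [← hScard]
      exact card_ne_zero_complex _
    exact inv_mul_cancel₀ hne
  have hgen : Cfsg.IsGeneralizedCharacter G I := by
    rw [hI]
    exact IsCharacter.isGeneralizedCharacter (IsCharacter.indFun _ hμ.1)
  apply IsGeneralizedCharacter.isIrrCharacter_of_norm_one hgen hnorm
  rw [hI1]
  simp only [Complex.natCast_re]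
  exact_mod_cast (by omega : 0 < n)




/-- in a perfect group no nontrivial linear character of the point stabiliser that is trivial on
the kernel is invariant under the swap `τ` (transfer). -/
theorem ninv_of_perfect (h : ZD G Ω) {a b : Ω} (hab : a ≠ b) {H : Subgroup G} (hK : KD a H)
    (hperf : commutator G = ⊤)
    (hodd : Odd (Nat.card ↥(MulAction.stabilizer G a ⊓ MulAction.stabilizer G b : Subgroup G)))
    (μ : MulAction.stabilizer G a → ℂ)
    (hμ : Cfsg.IsCharacter (MulAction.stabilizer G a) μ ∧ μ 1 = 1)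
    (hμH : ∀ u : MulAction.stabilizer G a, (u : G) ∈ H → μ u = 1)
    (hμne : μ ≠ fun _ => 1)
    (τ : G) (hτa : τ • a = b) (hτb : τ • b = a) :
    ¬ ∀ y ∈ (MulAction.stabilizer G a ⊓ MulAction.stabilizer G b : Subgroup G),
      Cfsg.extendByZero (MulAction.stabilizer G a) μ (τ⁻¹ * y * τ)
        = Cfsg.extendByZero (MulAction.stabilizer G a) μ y := by
  classical
  intro hinv
  have hn := h.card_gt
  have hHa := hK.le
  have hHcard := hK.card
  have hHfix := hK.fix
  have hba : b ≠ a := hab.symm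
  have hM0 := Zs.LinExt.of_char (MulAction.stabilizer G a) hμ.1 hμ.2
  obtain ⟨M, hMdef⟩ : ∃ M, M = Cfsg.extendByZero (MulAction.stabilizer G a) μ := ⟨_, rfl⟩
  have hM : Zs.LinExt (MulAction.stabilizer G a) M := by rw [hMdef]; exact hM0
  have hMH : ∀ u ∈ H, M u = 1 := by
    intro u hu
    rw [hMdef, extendByZero_of_mem _ μ (hHa hu)]
    exact hμH ⟨u, hHa hu⟩ hu
  have hr₀ : ∀ c : Ω, ∃ x : G, x • a = c := fun c => h.trans a c
  choose r₀ hr₀ using hr₀
  obtain ⟨r, hrdef⟩ : ∃ r : Ω → G, r = fun c => if c = a then 1 else if c = b then τ else r₀ c :=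
    ⟨_, rfl⟩
  have hr : ∀ c, r c • a = c := by
    intro c
    rw [hrdef]
    simp only
    split_ifs with h1 h2
    · rw [one_smul, h1]
    · rw [hτa, h2]
    · exact hr₀ c
  have hra : r a = 1 := by rw [hrdef]; simp
  have hrb : r b = τ := by rw [hrdef]; simp [hba]
  obtain ⟨I, hI⟩ : ∃ I, I = Cfsg.indFun (MulAction.stabilizer G a) μ := ⟨_, rfl⟩
  have hIapply : ∀ g : G, I g = ∑ c ∈ Finset.univ.filter (fun c : Ω => g • c = c),
      M ((r c)⁻¹ * g * r c) := by
    intro g
    rw [hI, hMdef]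
    exact Zs.indFun_stab_apply hM0 r hr g
  have hIH : ∀ u ∈ H, u ≠ 1 → I u = 1 := by
    intro u hu hu1
    rw [hIapply u]
    have hfix : Finset.univ.filter (fun c : Ω => u • c = c) = {a} := by
      ext c
      simp only [Finset.mem_filter, Finset.mem_univ, true_and, Finset.mem_singleton]
      exact ⟨fun hc => hHfix u hu hu1 c hc, fun hc => by rw [hc]; exact hK.fixa hu⟩
    rw [hfix, Finset.sum_singleton, hra]
    simp only [inv_one, one_mul, mul_one]
    exact hMH u hu
  obtain ⟨E, hE⟩ : ∃ E : Subgroup G, E = MulAction.stabilizer G a ⊓ MulAction.stabilizer G b :=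
    ⟨_, rfl⟩
  have hmE : ∀ x : G, x ∈ E ↔ (x • a = a ∧ x • b = b) := by
    intro x
    rw [hE, Subgroup.mem_inf, MulAction.mem_stabilizer_iff, MulAction.mem_stabilizer_iff]
  have hES : E ≤ MulAction.stabilizer G a := by rw [hE]; exact inf_le_left
  have hτa' : τ⁻¹ • b = a := by rw [inv_smul_eq_iff, hτa]
  have hτb' : τ⁻¹ • a = b := by rw [inv_smul_eq_iff, hτb]
  have hτE : ∀ y ∈ E, τ⁻¹ * y * τ ∈ E := by
    intro y hy
    rw [hmE] at hy ⊢
    constructor
    · rw [mul_smul, mul_smul, hτa, hy.2, hτa']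
    · rw [mul_smul, mul_smul, hτb, hy.1, hτb']
  have hIE : ∀ y ∈ E, y ≠ 1 → I y = M y + M (τ⁻¹ * y * τ) := by
    intro y hy hy1
    rw [hIapply y]
    have hfix : Finset.univ.filter (fun c : Ω => y • c = c) = {a, b} := by
      ext c
      simp only [Finset.mem_filter, Finset.mem_univ, true_and, Finset.mem_insert,
        Finset.mem_singleton]
      constructor
      · intro hc
        by_contra hcon
        push Not at hcon
        exact hy1 (h.three y a b c hab (Ne.symm hcon.2) (Ne.symm hcon.1) ((hmE y).1 hy).1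
          ((hmE y).1 hy).2 hc)
      · rintro (rfl | rfl)
        · exact ((hmE y).1 hy).1
        · exact ((hmE y).1 hy).2
    rw [hfix, Finset.sum_pair hab, hra, hrb]
    simp only [inv_one, one_mul, mul_one]
  have he1 : 1 < Nat.card E := by rw [hE]; exact h.one_lt_card_two hab
  rw [← hMdef, ← hE] at hinv
  obtain ⟨ϕ, hϕdef⟩ : ∃ ϕ : E →* ℂˣ,
      ϕ = (linearCharHom hμ.1 hμ.2).comp (Subgroup.inclusion hES) := ⟨_, rfl⟩
  have hϕ : ∀ y : E, ((ϕ y : ℂˣ) : ℂ) = M (y : G) := by
    intro y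
    rw [hMdef, extendByZero_of_mem _ μ (hES y.2), hϕdef]
    rfl
  have hV : ∀ g : G, MonoidHom.transfer ϕ g = 1 := by
    intro g
    have hg : g ∈ (MonoidHom.transfer ϕ).ker :=
      Abelianization.commutator_subset_ker _ (by rw [hperf]; exact Subgroup.mem_top g)
    exact hg
  have hkey : ∀ (y : E) (k : ℕ) (g₀ : G) (hk : g₀⁻¹ * (y : G) ^ k * g₀ ∈ E),
      ϕ ⟨g₀⁻¹ * (y : G) ^ k * g₀, hk⟩ = ϕ (y ^ k) := by
    intro y k g₀ hk
    apply Units.ext
    rw [hϕ, hϕ]
    show M (g₀⁻¹ * (y : G) ^ k * g₀) = M ((y : G) ^ k)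
    obtain ⟨x, hx⟩ : ∃ x : G, x = (y : G) ^ k := ⟨_, rfl⟩
    rw [← hx] at hk ⊢
    have hxE : x ∈ E := by rw [hx]; exact E.pow_mem y.2 k
    by_cases hx1 : x = 1
    · rw [hx1]
      simp
    · have hfa : x • (g₀ • a) = g₀ • a := by
        have := ((hmE _).1 hk).1
        rw [mul_smul, mul_smul, inv_smul_eq_iff] at this
        exact this
      have hfb : x • (g₀ • b) = g₀ • b := by
        have := ((hmE _).1 hk).2
        rw [mul_smul, mul_smul, inv_smul_eq_iff] at this
        exact this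
      have hgab : g₀ • a ≠ g₀ • b := fun h' => hab (smul_left_cancel g₀ h')
      have hga : g₀ • a = a ∨ g₀ • a = b := by
        by_contra hcon
        push Not at hcon
        exact hx1 (h.three x a b (g₀ • a) hab hcon.2.symm hcon.1.symm ((hmE x).1 hxE).1
          ((hmE x).1 hxE).2 hfa)
      have hgb : g₀ • b = a ∨ g₀ • b = b := by
        by_contra hcon
        push Not at hcon
        exact hx1 (h.three x a b (g₀ • b) hab hcon.2.symm hcon.1.symm ((hmE x).1 hxE).1
          ((hmE x).1 hxE).2 hfb)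
      rcases hga with hga | hga <;> rcases hgb with hgb | hgb
      · exact absurd (hga.trans hgb.symm) hgab
      · exact hM.conj_inv (MulAction.mem_stabilizer_iff.2 hga) (hES hxE)
      · have hk' : τ⁻¹ * g₀ ∈ MulAction.stabilizer G a := by
          rw [MulAction.mem_stabilizer_iff, mul_smul, hga, hτa']
        have h1 : g₀⁻¹ * x * g₀ = (τ⁻¹ * g₀)⁻¹ * (τ⁻¹ * x * τ) * (τ⁻¹ * g₀) := by group
        rw [h1, hM.conj_inv hk' (hES (hτE x hxE)), hinv x hxE]
      · exact absurd (hga.trans hgb.symm) hgab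
  have hcop : Nat.gcd E.index (Nat.card E) = 1 := by
    have := h.coprime_index hab hodd
    rw [← hE] at this
    exact this
  have hone : ∀ y : E, ϕ y = 1 := by
    intro y
    have h1 := Zs.transfer_eq_pow_of_invariant ϕ y (hkey y)
    rw [hV] at h1
    have h2 : ϕ y ^ Nat.card E = 1 := by rw [← map_pow, pow_card_eq_one', map_one]
    have h3 := pow_gcd_eq_one.2 ⟨h1.symm, h2⟩
    rw [hcop, pow_one] at h3
    exact h3
  have hME : ∀ y ∈ E, M y = 1 := by
    intro y hy
    have := hϕ ⟨y, hy⟩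
    rw [hone] at this
    exact this.symm
  apply hμne
  funext s
  have hs : M (s : G) = μ s := by
    rw [hMdef]
    exact extendByZero_coe _ μ s
  rw [← hs]
  have hsa : (s : G) • a = a := MulAction.mem_stabilizer_iff.1 s.2
  by_cases hsH : (s : G) ∈ H
  · exact hMH _ hsH
  · obtain ⟨u, hu, hua, hub⟩ := hK.exists_conj h hba hsa hsH
    have h1 := hM.conj_inv (hHa hu) s.2
    rw [← h1]
    exact hME _ ((hmE _).2 ⟨hua, hub⟩)

end

end Cfsg.Agent.Lib.Helper6.Zs
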