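import Mathlib
import Cfsg.Prelude.Def_Blocks
import Cfsg.Agent.Lib.Helper6.FiniteOrder

/-! # Orthogonality for the linear characters of a finite abelian group -/

set_option autoImplicit false
set_option linter.unusedSectionVars false
open Cfsg

namespace Cfsg.Agent.Lib.Helper6

open scoped ComplexConjugate

section lin

variable {A : Type*} [Group A] [Finite A]

theorem hom_conj (ψ : A →* ℂˣ) (a : A) :
    conj ((ψ a : ℂˣ) : ℂ) = ((ψ a⁻¹ : ℂˣ) : ℂ) := by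
  have h1 : ((ψ a : ℂˣ) : ℂ) ^ orderOf a = 1 := by
    rw [← Units.val_pow_eq_pow_val, ← map_pow, pow_orderOf_eq_one, map_one, Units.val_one]
  rw [← inv_eq_conj_of_pow_eq_one (orderOf_pos a) h1, map_inv, Units.val_inv_eq_inv_val]

theorem sum_hom_eq_zero [Fintype A] (ψ : A →* ℂˣ) (h : ψ ≠ 1) :
    ∑ a : A, ((ψ a : ℂˣ) : ℂ) = 0 := by
  obtain ⟨b, hb⟩ : ∃ b, ψ b ≠ 1 := by
    by_contra hne
    push Not at hne
    exact h (MonoidHom.ext hne)
  have h1 : ((ψ b : ℂˣ) : ℂ) * ∑ a : A, ((ψ a : ℂˣ) : ℂ) = ∑ a : A, ((ψ a : ℂˣ) : ℂ) := by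
    rw [Finset.mul_sum]
    rw [← Equiv.sum_comp (Equiv.mulLeft b) (fun a => ((ψ a : ℂˣ) : ℂ))]
    apply Finset.sum_congr rfl
    intro a _
    rw [Equiv.coe_mulLeft, map_mul, Units.val_mul]
  have h2 : ((ψ b : ℂˣ) : ℂ) ≠ 1 := by
    intro h3; apply hb; exact Units.ext h3
  have h3 : (((ψ b : ℂˣ) : ℂ) - 1) * ∑ a : A, ((ψ a : ℂˣ) : ℂ) = 0 := by
    rw [sub_mul, h1, one_mul, sub_self]
  rcases mul_eq_zero.mp h3 with h4 | h4
  · exact absurd (sub_eq_zero.mp h4) h2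
  · exact h4

theorem sum_hom_mul_conj [Fintype A] (ψ ψ' : A →* ℂˣ) :
    ∑ a : A, ((ψ a : ℂˣ) : ℂ) * conj ((ψ' a : ℂˣ) : ℂ)
      = if ψ = ψ' then (Nat.card A : ℂ) else 0 := by
  have h1 : ∀ a : A, ((ψ a : ℂˣ) : ℂ) * conj ((ψ' a : ℂˣ) : ℂ)
      = (((ψ * ψ'⁻¹) a : ℂˣ) : ℂ) := by
    intro a
    rw [hom_conj, MonoidHom.mul_apply, MonoidHom.inv_apply, Units.val_mul, map_inv]
  rw [Finset.sum_congr rfl (fun a _ => h1 a)]
  split_ifs with h
  · have h2 : ψ * ψ'⁻¹ = 1 := by rw [h]; exact mul_inv_cancel ψ'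
    rw [h2]
    simp [Nat.card_eq_fintype_card]
  · apply sum_hom_eq_zero
    intro h2
    apply h
    exact mul_inv_eq_one.mp h2

open scoped IsMulCommutative in
theorem card_homs_of_comm (hA : IsMulCommutative A) : Nat.card (A →* ℂˣ) = Nat.card A := by
  have : NeZero (Monoid.exponent A : ℂ) := by
    refine ⟨?_⟩
    exact_mod_cast Monoid.exponent_ne_zero_of_finite
  exact CommGroup.card_monoidHom_of_hasEnoughRootsOfUnity A ℂ

open Classical in
open scoped IsMulCommutative in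
theorem sum_homs_apply (hA : IsMulCommutative A) [Fintype (A →* ℂˣ)] (a : A) :
    ∑ ψ : A →* ℂˣ, ((ψ a : ℂˣ) : ℂ) = if a = 1 then (Nat.card A : ℂ) else 0 := by
  classical
  have : NeZero (Monoid.exponent A : ℂ) := by
    refine ⟨?_⟩
    exact_mod_cast Monoid.exponent_ne_zero_of_finite
  split_ifs with h
  · subst h
    simp only [map_one, Units.val_one, Finset.sum_const, Finset.card_univ, nsmul_eq_mul, mul_one]
    rw [← Nat.card_eq_fintype_card, card_homs_of_comm hA]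
  · obtain ⟨φ, hφ⟩ := CommGroup.exists_apply_ne_one_of_hasEnoughRootsOfUnity A ℂ h
    have h1 : ((φ a : ℂˣ) : ℂ) * ∑ ψ : A →* ℂˣ, ((ψ a : ℂˣ) : ℂ)
        = ∑ ψ : A →* ℂˣ, ((ψ a : ℂˣ) : ℂ) := by
      rw [Finset.mul_sum]
      rw [← Equiv.sum_comp (Equiv.mulLeft φ) (fun ψ : A →* ℂˣ => ((ψ a : ℂˣ) : ℂ))]
      apply Finset.sum_congr rfl
      intro ψ _
      rw [Equiv.coe_mulLeft, MonoidHom.mul_apply, Units.val_mul]
    have h2 : ((φ a : ℂˣ) : ℂ) ≠ 1 := by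
      intro h3; apply hφ; exact Units.ext h3
    have h3 : (((φ a : ℂˣ) : ℂ) - 1) * ∑ ψ : A →* ℂˣ, ((ψ a : ℂˣ) : ℂ) = 0 := by
      rw [sub_mul, h1, one_mul, sub_self]
    rcases mul_eq_zero.mp h3 with h4 | h4
    · exact absurd (sub_eq_zero.mp h4) h2
    · exact h4

/-- expansion of a function on a finite abelian group in terms of linear characters -/
theorem hom_expansion (hA : IsMulCommutative A) [Fintype A] [Fintype (A →* ℂˣ)] (f : A → ℂ)
    (a : A) :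
    f a = ∑ ψ : A →* ℂˣ,
      ((Nat.card A : ℂ)⁻¹ * ∑ b : A, f b * conj ((ψ b : ℂˣ) : ℂ)) * ((ψ a : ℂˣ) : ℂ) := by
  classical
  have hA0 : (Nat.card A : ℂ) ≠ 0 := by exact_mod_cast Nat.card_pos.ne'
  have h1 : ∀ ψ : A →* ℂˣ,
      ((Nat.card A : ℂ)⁻¹ * ∑ b : A, f b * conj ((ψ b : ℂˣ) : ℂ)) * ((ψ a : ℂˣ) : ℂ)
      = (Nat.card A : ℂ)⁻¹ * ∑ b : A, f b * ((ψ (b⁻¹ * a) : ℂˣ) : ℂ) := by
    intro ψ
    rw [mul_assoc, Finset.sum_mul]
    congr 1
    apply Finset.sum_congr rfl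
    intro b _
    rw [hom_conj, map_mul, Units.val_mul]
    ring
  rw [Finset.sum_congr rfl (fun ψ _ => h1 ψ), ← Finset.mul_sum, Finset.sum_comm]
  simp_rw [← Finset.mul_sum, sum_homs_apply hA]
  rw [Finset.sum_eq_single a]
  · rw [if_pos (inv_mul_cancel a)]
    field_simp
  · intro b _ hb
    rw [if_neg, mul_zero]
    intro h
    apply hb
    have := inv_mul_eq_one.mp h
    exact this
  · intro h
    exact absurd (Finset.mem_univ a) h

end lin

end Cfsg.Agent.Lib.Helper6
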