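import Mathlib
import Cfsg.Agent.Lib.Helper6.ZassBasic
import Cfsg.Agent.Lib.Helper6.ZassAb
import Cfsg.Agent.Lib.Helper6.BLLin
import Cfsg.Agent.Lib.Helper6.IrrBasis
import Cfsg.Agent.Lib.Helper6.Orthogonality
import Cfsg.Agent.Lib.Helper6.BlkIdem
import Cfsg.Agent.Lib.Helper6.DegreeDvd
import Cfsg.Agent.S0146

set_option autoImplicit false

/-!
Zassenhaus groups: irreducible characters not orthogonal to the trivial character of the kernel;
a divisibility from the central character.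
-/

namespace Cfsg.Agent.Lib.Helper6.Zs

open Cfsg MulAction
open Cfsg.Agent.Lib.Helper6
open scoped ComplexConjugate

section
variable {G Ω : Type*} [Group G] [Fintype G] [MulAction G Ω] [Fintype Ω]

open Classical in
theorem eq_on_fpf_of_sum_ne_zero (h : ZD G Ω) {a b : Ω} (hab : a ≠ b) {H : Subgroup G}
    (hK : KD a H)
    (hEcomm : ∀ x y : ↥(stabilizer G a ⊓ stabilizer G b : Subgroup G), x * y = y * x)
    (hirr : ∀ μ : stabilizer G a → ℂ, Cfsg.IsCharacter (stabilizer G a) μ ∧ μ 1 = 1 →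
      (∀ u : stabilizer G a, (u : G) ∈ H → μ u = 1) → μ ≠ (fun _ => 1) →
      Cfsg.IsIrrCharacter G (Cfsg.indFun (stabilizer G a) μ))
    {χ : G → ℂ} (hχ : Cfsg.IsIrrCharacter G χ)
    (hsum : ∑ u ∈ Finset.univ.filter (fun g : G => g ∈ H), χ u ≠ 0)
    {g₁ g₂ : G} (hg₁ : ∀ c : Ω, g₁ • c ≠ c) (hg₂ : ∀ c : Ω, g₂ • c ≠ c) : χ g₁ = χ g₂ := by
  classical
  have hba : b ≠ a := hab.symm
  haveI hfin : Fintype (stabilizer G a) := Fintype.ofFinite _
  obtain ⟨K₁, hK₁⟩ : ∃ K₁ : Subgroup (stabilizer G a), K₁ = H.subgroupOf (stabilizer G a) :=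
    ⟨_, rfl⟩
  have hmK₁ : ∀ x : stabilizer G a, x ∈ K₁ ↔ (x : G) ∈ H := fun x => by
    rw [hK₁, Subgroup.mem_subgroupOf]
  haveI hK₁n : K₁.Normal := ⟨fun k hk x => by
    rw [hmK₁] at hk ⊢
    exact hK.conj_mem h hba (mem_stabilizer_iff.1 x.2) hk⟩
  -- every coset has a representative in the two point stabiliser
  have hrep : ∀ s : stabilizer G a, ∃ y : stabilizer G a, (y : G) • b = b ∧
      (QuotientGroup.mk s : stabilizer G a ⧸ K₁) = QuotientGroup.mk y := by
    intro s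
    by_cases hs : (s : G) ∈ H
    · refine ⟨1, by simp, ?_⟩
      rw [QuotientGroup.eq, hmK₁]
      have h1 : ((s⁻¹ * 1 : stabilizer G a) : G) = (s : G)⁻¹ := by simp
      rw [h1]
      exact H.inv_mem hs
    · obtain ⟨u, hu, hua, hub⟩ := hK.exists_conj h hba (mem_stabilizer_iff.1 s.2) hs
      refine ⟨⟨u⁻¹ * s * u, mem_stabilizer_iff.2 hua⟩, hub, ?_⟩
      rw [QuotientGroup.eq, hmK₁]
      have h1 : ((s⁻¹ * ⟨u⁻¹ * s * u, mem_stabilizer_iff.2 hua⟩ : stabilizer G a) : G)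
          = ((s : G)⁻¹ * u⁻¹ * ((s : G)⁻¹)⁻¹) * u := by
        show (s : G)⁻¹ * (u⁻¹ * (s : G) * u) = ((s : G)⁻¹ * u⁻¹ * ((s : G)⁻¹)⁻¹) * u
        group
      rw [h1]
      have hs' : (s : G)⁻¹ • a = a := by
        rw [inv_smul_eq_iff]; exact (mem_stabilizer_iff.1 s.2).symm
      exact H.mul_mem (hK.conj_mem h hba hs' (H.inv_mem hu)) hu
  have hAcomm : ∀ x y : stabilizer G a ⧸ K₁, x * y = y * x := by
    intro x y
    obtain ⟨s, rfl⟩ := QuotientGroup.mk_surjective x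
    obtain ⟨t, rfl⟩ := QuotientGroup.mk_surjective y
    obtain ⟨s', hs'b, hs'⟩ := hrep s
    obtain ⟨t', ht'b, ht'⟩ := hrep t
    rw [hs', ht', ← QuotientGroup.mk_mul, ← QuotientGroup.mk_mul]
    congr 1
    have h1 := hEcomm ⟨(s' : G), Subgroup.mem_inf.2 ⟨s'.2, mem_stabilizer_iff.2 hs'b⟩⟩
      ⟨(t' : G), Subgroup.mem_inf.2 ⟨t'.2, mem_stabilizer_iff.2 ht'b⟩⟩
    apply Subtype.ext
    show (s' : G) * (t' : G) = (t' : G) * (s' : G)
    exact congrArg (fun z : ↥(stabilizer G a ⊓ stabilizer G b : Subgroup G) => (z : G)) h1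
  have hA : IsMulCommutative (stabilizer G a ⧸ K₁) := ⟨⟨hAcomm⟩⟩
  -- cardinalities
  have hn := h.card_gt
  obtain ⟨e, he⟩ : ∃ e, e = Nat.card ↥(stabilizer G a ⊓ stabilizer G b : Subgroup G) := ⟨_, rfl⟩
  have hcardL : Nat.card (stabilizer G a) = (Fintype.card Ω - 1) * e := by
    rw [he]; exact h.card_stab_eq hab
  have hcardK : Nat.card K₁ = Fintype.card Ω - 1 := by
    rw [hK₁, Nat.card_congr (Subgroup.subgroupOfEquivOfLe hK.le).toEquiv]
    have := hK.card
    omega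
  have hcardA : Nat.card (stabilizer G a ⧸ K₁) = e := by
    rw [← Subgroup.index_eq_card]
    have h1 := Subgroup.card_mul_index K₁
    rw [hcardK, hcardL] at h1
    have hpos : 0 < Fintype.card Ω - 1 := by omega
    exact Nat.eq_of_mul_eq_mul_left hpos h1
  have he0 : e ≠ 0 := by
    rw [he]; exact Nat.card_pos.ne'
  -- the linear characters
  haveI : Fintype ((stabilizer G a ⧸ K₁) →* ℂˣ) := Fintype.ofFinite _
  obtain ⟨lam, hlam⟩ : ∃ lam : ((stabilizer G a ⧸ K₁) →* ℂˣ) → (stabilizer G a → ℂ),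
      lam = fun ψ s => ((ψ (QuotientGroup.mk s) : ℂˣ) : ℂ) := ⟨_, rfl⟩
  have hlamirr : ∀ ψ, Cfsg.IsIrrCharacter (stabilizer G a) (lam ψ) := by
    intro ψ
    rw [hlam]
    exact isIrrCharacter_of_hom (ψ.comp (QuotientGroup.mk' K₁))
  have hlam1 : ∀ ψ, lam ψ 1 = 1 := by
    intro ψ
    rw [hlam]
    simp
  have hlamH : ∀ ψ (u : stabilizer G a), (u : G) ∈ H → lam ψ u = 1 := by
    intro ψ u hu
    have h1 : (QuotientGroup.mk u : stabilizer G a ⧸ K₁) = 1 :=
      (QuotientGroup.eq_one_iff u).2 ((hmK₁ u).2 hu)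
    rw [hlam]
    simp only
    rw [h1, map_one, Units.val_one]
  have hsumlam : ∀ s : stabilizer G a, ∑ ψ, lam ψ s = if (s : G) ∈ H then (e : ℂ) else 0 := by
    intro s
    have h1 := sum_homs_apply hA (QuotientGroup.mk s : stabilizer G a ⧸ K₁)
    rw [hcardA] at h1
    rw [hlam]
    simp only
    rw [h1]
    by_cases hs : (s : G) ∈ H
    · rw [if_pos hs, if_pos ((QuotientGroup.eq_one_iff s).2 ((hmK₁ s).2 hs))]
    · rw [if_neg hs, if_neg (fun h' => hs ((hmK₁ s).1 ((QuotientGroup.eq_one_iff s).1 h')))]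
  have hcf := IsIrrCharacter.isClassFunction hχ
  have hT : ∑ ψ : (stabilizer G a ⧸ K₁) →* ℂˣ,
      Cfsg.classInner (Cfsg.indFun (stabilizer G a) (lam ψ)) χ
      = (Nat.card (stabilizer G a) : ℂ)⁻¹
        * ((e : ℂ) * conj (∑ u ∈ Finset.univ.filter (fun g : G => g ∈ H), χ u)) := by
    have e1 : ∀ ψ, Cfsg.classInner (Cfsg.indFun (stabilizer G a) (lam ψ)) χ
        = (Nat.card (stabilizer G a) : ℂ)⁻¹ * ∑ s : stabilizer G a, lam ψ s * conj (χ s) := by
      intro ψ
      rw [Cfsg.Agent.S0146.result (stabilizer G a) (lam ψ) χ hcf]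
      rfl
    rw [Finset.sum_congr rfl (fun ψ _ => e1 ψ), ← Finset.mul_sum, Finset.sum_comm]
    congr 1
    have e2 : ∀ s : stabilizer G a, ∑ ψ, lam ψ s * conj (χ s)
        = (if (s : G) ∈ H then (e : ℂ) else 0) * conj (χ s) := by
      intro s; rw [← Finset.sum_mul, hsumlam]
    rw [Finset.sum_congr rfl (fun s _ => e2 s)]
    have e3 := sum_extendByZero_mul (stabilizer G a)
      (fun s : stabilizer G a => if (s : G) ∈ H then (e : ℂ) else 0) (fun g => conj (χ g))
    rw [← e3]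
    have e4 : ∀ x : G, Cfsg.extendByZero (stabilizer G a)
        (fun s : stabilizer G a => if (s : G) ∈ H then (e : ℂ) else 0) x
        = if x ∈ H then (e : ℂ) else 0 := by
      intro x
      by_cases hx : x ∈ stabilizer G a
      · rw [extendByZero_of_mem _ _ hx]
      · rw [extendByZero_of_not_mem _ _ hx, if_neg (fun h' => hx (hK.le h'))]
    simp_rw [e4, ite_mul, zero_mul]
    rw [← Finset.sum_filter, ← Finset.mul_sum, map_sum]
  have hTne : ∑ ψ : (stabilizer G a ⧸ K₁) →* ℂˣ,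
      Cfsg.classInner (Cfsg.indFun (stabilizer G a) (lam ψ)) χ ≠ 0 := by
    rw [hT]
    apply mul_ne_zero
    · exact inv_ne_zero (card_ne_zero_complex _)
    · apply mul_ne_zero
      · exact_mod_cast he0
      · intro h'
        apply hsum
        have := congrArg conj h'
        simpa using this
  obtain ⟨ψ, _, hψ⟩ := Finset.exists_ne_zero_of_sum_ne_zero hTne
  by_cases hψ1 : lam ψ = fun _ => 1
  · rw [hψ1] at hψ
    have hθirr := h.isIrr_fix_sub_one
    have hπdecomp : Cfsg.indFun (stabilizer G a) (fun _ => (1 : ℂ))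
        = (fun _ => (1 : ℂ)) + (fun g => (Nat.card (fixedBy Ω g) : ℂ) - 1) := by
      funext g
      rw [h.indFun_one_apply a g]
      simp
    rw [hπdecomp, classInner_add_left] at hψ
    have hfix0 : ∀ g : G, (∀ c : Ω, g • c ≠ c) → Nat.card (fixedBy Ω g) = 0 := by
      intro g hg
      have : fixedBy Ω g = ∅ := by
        ext c
        simp [mem_fixedBy, hg c]
      rw [this]
      simp
    by_cases h1 : Cfsg.classInner (fun _ => (1 : ℂ)) χ = 0
    · rw [h1, zero_add, classInner_isIrrCharacter hθirr hχ] at hψ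
      split_ifs at hψ with heq
      · rw [← heq]
        simp only
        rw [hfix0 g₁ hg₁, hfix0 g₂ hg₂]
      · exact absurd rfl hψ
    · rw [classInner_isIrrCharacter isIrrCharacter_one hχ] at h1
      split_ifs at h1 with heq
      · rw [← heq]
      · exact absurd rfl h1
  · have hirrψ := hirr (lam ψ) ⟨IsIrrCharacter.isCharacter (hlamirr ψ), hlam1 ψ⟩ (hlamH ψ) hψ1
    rw [classInner_isIrrCharacter hirrψ hχ] at hψ
    split_ifs at hψ with heq
    · rw [← heq, indFun_stab_fpf _ hg₁, indFun_stab_fpf _ hg₂]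
    · exact absurd rfl hψ

open Classical in
theorem card_sub_one_dvd (h : ZD G Ω) {a b : Ω} (hab : a ≠ b) {H : Subgroup G} (hK : KD a H)
    {χ : G → ℂ} (hχ : Cfsg.IsIrrCharacter G χ)
    (hconst : ∀ u ∈ H, ∀ v ∈ H, u ≠ 1 → v ≠ 1 → χ u = χ v)
    (hsum : ∑ u ∈ Finset.univ.filter (fun g : G => g ∈ H), χ u = 0) :
    Nat.card H - 1 ∣ 2 * Nat.card ↥(stabilizer G a ⊓ stabilizer G b : Subgroup G) := by
  classical
  have hba := hab.symm
  have hn := h.card_gt
  obtain ⟨u₀, hu₀, hu₀1⟩ := hK.exists_ne_one h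
  obtain ⟨e, he⟩ : ∃ e, e = Nat.card ↥(stabilizer G a ⊓ stabilizer G b : Subgroup G) := ⟨_, rfl⟩
  rw [← he]
  obtain ⟨k, hk⟩ : ∃ k, Nat.card H = k + 1 := ⟨Nat.card H - 1, by have := hK.card; omega⟩
  have hk1 : 1 ≤ k := by have := hK.card; omega
  have hnk : Fintype.card Ω = k + 2 := by have := hK.card; omega
  rw [hk]
  simp only [Nat.add_sub_cancel]
  obtain ⟨Hf, hHf⟩ : ∃ Hf : Finset G, Hf = Finset.univ.filter (fun g : G => g ∈ H) := ⟨_, rfl⟩
  rw [← hHf] at hsum
  have h1H : (1 : G) ∈ Hf := by rw [hHf]; simp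
  have hHfcard : Hf.card = k + 1 := by
    rw [← hk, hHf, Nat.card_eq_fintype_card, Fintype.card_subtype]
  have hsum' : χ 1 + (k : ℂ) * χ u₀ = 0 := by
    rw [← Finset.add_sum_erase Hf _ h1H] at hsum
    have h2 : ∀ u ∈ Hf.erase 1, χ u = χ u₀ := by
      intro u hu
      have hu1 : u ≠ 1 := Finset.ne_of_mem_erase hu
      have huH : u ∈ H := by
        have := Finset.mem_of_mem_erase hu
        rw [hHf] at this
        simpa using this
      exact hconst u huH u₀ hu₀ hu1 hu₀1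
    rw [Finset.sum_congr rfl h2, Finset.sum_const, Finset.card_erase_of_mem h1H, hHfcard,
      nsmul_eq_mul] at hsum
    simpa using hsum
  have hχ1 : χ 1 ≠ 0 := IsIrrCharacter.apply_one_ne_zero hχ
  have hk0 : (k : ℂ) ≠ 0 := by exact_mod_cast (by omega : k ≠ 0)
  have hint := IsIrrCharacter.isIntegral_centralChar' hχ u₀
  obtain ⟨idx, hidx⟩ : ∃ idx, idx = (Subgroup.centralizer ({u₀} : Set G)).index := ⟨_, rfl⟩
  have hcc : Cfsg.centralChar χ u₀ = - ((idx : ℂ) / (k : ℂ)) := by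
    unfold Cfsg.centralChar
    rw [← hidx]
    have h3 : χ u₀ = - χ 1 / (k : ℂ) := by
      field_simp
      linear_combination hsum'
    rw [h3]
    field_simp
  rw [hcc] at hint
  have hint' : IsIntegral ℤ ((idx : ℂ) / (k : ℂ)) := by
    have := hint.neg
    simpa using this
  have hdvd : k ∣ idx := nat_dvd_of_isIntegral_div (by omega) hint'
  have hCle := hK.centralizer_le h hba hu₀ hu₀1
  obtain ⟨C, hC⟩ : ∃ C : Subgroup G, C = Subgroup.centralizer ({u₀} : Set G) := ⟨_, rfl⟩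
  rw [← hC] at hCle hidx
  have hCdvd : Nat.card C ∣ Nat.card H := Subgroup.card_dvd_of_le hCle
  obtain ⟨m, hm⟩ := hCdvd
  have hCpos : 0 < Nat.card C := Nat.card_pos
  have hGcard : Nat.card G = (k + 1) * e * (k + 2) := by
    rw [← h.card_stab_mul a, h.card_stab_eq hab, ← he, hnk]
    have : k + 2 - 1 = k + 1 := by omega
    rw [this]
  have hidx2 : idx = m * e * (k + 2) := by
    have h3 := Subgroup.card_mul_index C
    rw [← hidx, hGcard, ← hk, hm] at h3
    apply Nat.eq_of_mul_eq_mul_left hCpos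
    rw [h3]; ring
  have hcop : Nat.Coprime k m := by
    have h4 : Nat.Coprime k (k + 1) := by simp
    have h5 : m ∣ k + 1 := by rw [← hk, hm]; exact dvd_mul_left m _
    exact Nat.Coprime.coprime_dvd_right h5 h4
  rw [hidx2] at hdvd
  have hd2 : k ∣ e * (k + 2) := by
    have h6 : m * e * (k + 2) = m * (e * (k + 2)) := by ring
    rw [h6] at hdvd
    exact hcop.dvd_of_dvd_mul_left hdvd
  have hd3 : e * (k + 2) = k * e + 2 * e := by ring
  rw [hd3] at hd2
  exact (Nat.dvd_add_right (dvd_mul_right k e)).1 hd2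

end

end Cfsg.Agent.Lib.Helper6.Zs
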