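import Mathlib
import Cfsg.Agent.Lib.Helper6.SecondOrth
import Cfsg.Agent.Lib.Helper6.DegreeDvd

set_option autoImplicit false

namespace Cfsg.Agent.Lib.Helper6

open scoped ComplexConjugate

section

variable {G : Type*} [Group G] [Fintype G]

/-- Counting lemma behind the Brauer permutation lemma: for a bijection `f` of the group
preserving conjugacy and permuting the irreducible characters, the number of conjugacy
classes `C` with `g ~ f g` on `C` equals the number of irreducible characters fixed by `f`. -/
theorem card_fixed_classes_eq_card_fixed_irr (f : G → G)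
    (hconj : ∀ x y : G, IsConj x y → IsConj (f x) (f y))
    (hirr : ∀ χ : Cfsg.IrrCharacter G, Cfsg.IsIrrCharacter G ((χ : G → ℂ) ∘ f)) :
    Nat.card {C : ConjClasses G // ∀ g : G, ConjClasses.mk g = C → IsConj g (f g)}
      = Nat.card {χ : Cfsg.IrrCharacter G // (χ : G → ℂ) ∘ f = (χ : G → ℂ)} := by
  classical
  have : Fintype (Cfsg.IrrCharacter G) := Fintype.ofFinite _
  have : Fintype (ConjClasses G) := Fintype.ofFinite _
  have hG := card_ne_zero_complex G
  let F : G → ℂ := fun g => ∑ χ : Cfsg.IrrCharacter G, (χ : G → ℂ) g * conj ((χ : G → ℂ) (f g))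
  have hF : Cfsg.IsClassFunction G F := by
    intro g h
    simp only [F]
    apply Finset.sum_congr rfl
    intro χ _
    have hcf := isClassFunction_iff_isConj.mp (IsIrrCharacter.isClassFunction χ.2)
    have h1 : IsConj (h * g * h⁻¹) g := by
      rw [isConj_comm]; exact isConj_iff.mpr ⟨h, rfl⟩
    rw [hcf _ _ h1, hcf _ _ (hconj _ _ h1)]
  -- first evaluation
  have hT1 : ∑ g : G, F g = (Nat.card G : ℂ) *
      (Nat.card {χ : Cfsg.IrrCharacter G // (χ : G → ℂ) ∘ f = (χ : G → ℂ)} : ℂ) := by
    simp only [F]
    rw [Finset.sum_comm]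
    have h1 : ∀ χ : Cfsg.IrrCharacter G,
        ∑ g : G, (χ : G → ℂ) g * conj ((χ : G → ℂ) (f g))
          = (Nat.card G : ℂ) * (if (χ : G → ℂ) ∘ f = (χ : G → ℂ) then 1 else 0) := by
      intro χ
      have h2 := classInner_isIrrCharacter χ.2 (hirr χ)
      unfold Cfsg.classInner at h2
      have h3 : ∑ g : G, (χ : G → ℂ) g * conj ((χ : G → ℂ) (f g))
          = (Nat.card G : ℂ) * (if (χ : G → ℂ) = (χ : G → ℂ) ∘ f then 1 else 0) := by
        rw [← h2]
        field_simp
        rfl
      rw [h3]
      congr 1
      by_cases h4 : (χ : G → ℂ) ∘ f = (χ : G → ℂ)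
      · rw [if_pos h4, if_pos h4.symm]
      · rw [if_neg h4, if_neg (fun h => h4 h.symm)]
    rw [Finset.sum_congr rfl (fun χ _ => h1 χ), ← Finset.mul_sum]
    congr 1
    rw [Finset.sum_ite, Finset.sum_const_zero, add_zero, Finset.sum_const, nsmul_eq_mul, mul_one,
      Nat.card_eq_fintype_card, Fintype.card_subtype]
  -- second evaluation
  have hT2 : ∑ g : G, F g = (Nat.card G : ℂ) *
      (Nat.card {C : ConjClasses G // IsConj (Quotient.out C) (f (Quotient.out C))} : ℂ) := by
    rw [sum_eq_sum_conjClasses F hF]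
    have h1 : ∀ c : ConjClasses G,
        ((Subgroup.centralizer ({Quotient.out c} : Set G)).index : ℂ) * F (Quotient.out c)
          = (Nat.card G : ℂ) *
            (if IsConj (Quotient.out c) (f (Quotient.out c)) then 1 else 0) := by
      intro c
      have h2 := sum_irr_mul_conj (Quotient.out c) (f (Quotient.out c))
      by_cases h3 : IsConj (Quotient.out c) (f (Quotient.out c))
      · rw [if_pos h3]
        simp only [F]
        rw [h2.1 h3, mul_one, ← Nat.cast_mul, Subgroup.index_mul_card]
      · rw [if_neg h3]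
        simp only [F]
        rw [h2.2 h3, mul_zero, mul_zero]
    rw [Finset.sum_congr rfl (fun c _ => h1 c), ← Finset.mul_sum]
    congr 1
    have hgen : ∀ (p : ConjClasses G → Prop) [DecidablePred p],
        (∑ i, if p i then (1 : ℂ) else 0) = (Nat.card {C // p C} : ℂ) := by
      intro p _
      rw [Finset.sum_boole, Nat.card_eq_fintype_card, Fintype.card_subtype]
    convert hgen (fun C => IsConj (Quotient.out C) (f (Quotient.out C)))
  have hkey : (Nat.card {C : ConjClasses G // IsConj (Quotient.out C) (f (Quotient.out C))} : ℂ)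
      = (Nat.card {χ : Cfsg.IrrCharacter G // (χ : G → ℂ) ∘ f = (χ : G → ℂ)} : ℂ) := by
    have := hT2.symm.trans hT1
    exact mul_left_cancel₀ hG this
  have hkey' : Nat.card {C : ConjClasses G // IsConj (Quotient.out C) (f (Quotient.out C))}
      = Nat.card {χ : Cfsg.IrrCharacter G // (χ : G → ℂ) ∘ f = (χ : G → ℂ)} := by
    exact_mod_cast hkey
  rw [← hkey']
  apply Nat.card_congr
  apply Equiv.subtypeEquivRight
  intro C
  constructor
  · intro h
    exact h _ (Quotient.out_eq C)
  · intro h g hg
    have h1 : IsConj g (Quotient.out C) := by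
      rw [← ConjClasses.mk_eq_mk_iff_isConj, hg]
      exact (Quotient.out_eq C).symm
    exact (h1.trans h).trans (hconj _ _ h1.symm)

end

end Cfsg.Agent.Lib.Helper6
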