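import Mathlib
import Cfsg.Agent.Lib.Helper6.ZassH2
import Cfsg.Agent.Lib.Helper6.ZassE
import Cfsg.Agent.Lib.Helper6.SecondOrth
import Cfsg.Agent.S0852

set_option autoImplicit false

/-!
Zassenhaus groups: a perfect Zassenhaus group with two point stabiliser of odd order `e` and
`2 e < h - 1` is not coherent.
-/

namespace Cfsg.Agent.Lib.Helper6.Zs

open Cfsg MulAction
open Cfsg.Agent.Lib.Helper6
open scoped ComplexConjugate

section
variable {G Ω : Type*} [Group G] [Fintype G] [MulAction G Ω] [Fintype Ω]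

theorem exists_nonexceptional_separating {a : Ω} (N : Subgroup G) [Fintype N]
    (hN : ∀ x : G, x ∈ N ↔ x • a = a)
    (S : Set (N → ℂ)) (hSirr : ∀ ζ ∈ S, Cfsg.IsIrrCharacter N ζ)
    (star : (N → ℂ) → (G → ℂ))
    (hstar : Cfsg.IsLinearIsometryOn (Cfsg.zspan S) star)
    (hext : ∀ α ∈ Cfsg.zspanOn S ({1}ᶜ : Set N), star α = Cfsg.indFun N α)
    {g₁ g₂ : G} (hg₁ : ∀ c : Ω, g₁ • c ≠ c) (hg₂ : ∀ c : Ω, g₂ • c ≠ c)
    (hnc : ¬ IsConj g₁ g₂) :
    ∃ χ : G → ℂ, Cfsg.IsIrrCharacter G χ ∧ χ g₁ ≠ χ g₂ ∧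
      ¬ ∃ ζ ∈ S, χ = star ζ ∨ χ = -star ζ := by
  classical
  haveI : Fintype (Cfsg.IrrCharacter G) := Fintype.ofFinite _
  obtain ⟨hadd, hsmul, -, -⟩ := hstar
  have hmemz : ∀ f : N → ℂ, f ∈ Cfsg.zspan S ↔ f ∈ Submodule.span ℤ S := fun f => Iff.rfl
  have hind0 : ∀ (α : N → ℂ), α 1 = 0 → ∀ g : G, (g = 1 ∨ ∀ c : Ω, g • c ≠ c) →
      Cfsg.indFun N α g = 0 := by
    intro α hα1 g hg
    rcases hg with rfl | hg
    · rw [indFun_one, hα1, mul_zero]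
    · unfold Cfsg.indFun
      rw [Finset.sum_eq_zero, mul_zero]
      intro x _
      apply extendByZero_of_not_mem
      intro hx
      rw [hN, mul_smul, mul_smul, inv_smul_eq_iff] at hx
      exact hg _ hx
  have hprop : ∀ ζ ∈ S, ∀ ζ₀ ∈ S, ∀ g : G, (g = 1 ∨ ∀ c : Ω, g • c ≠ c) →
      ζ₀ 1 * star ζ g = ζ 1 * star ζ₀ g := by
    intro ζ hζ ζ₀ hζ₀ g hg
    have hd := IsCharacter.apply_one_eq_charDegree (IsIrrCharacter.isCharacter (hSirr ζ hζ))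
    have hd₀ := IsCharacter.apply_one_eq_charDegree (IsIrrCharacter.isCharacter (hSirr ζ₀ hζ₀))
    obtain ⟨d, hdd⟩ : ∃ d : ℕ, d = Cfsg.charDegree ζ := ⟨_, rfl⟩
    obtain ⟨d₀, hdd₀⟩ : ∃ d₀ : ℕ, d₀ = Cfsg.charDegree ζ₀ := ⟨_, rfl⟩
    rw [← hdd] at hd
    rw [← hdd₀] at hd₀
    have hζs : ζ ∈ Cfsg.zspan S := (hmemz ζ).2 (Submodule.subset_span hζ)
    have hζ₀s : ζ₀ ∈ Cfsg.zspan S := (hmemz ζ₀).2 (Submodule.subset_span hζ₀)
    have h1s : ((d₀ : ℤ) • ζ) ∈ Cfsg.zspan S :=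
      (hmemz _).2 (Submodule.smul_mem _ _ ((hmemz ζ).1 hζs))
    have h2s : ((-(d : ℤ)) • ζ₀) ∈ Cfsg.zspan S :=
      (hmemz _).2 (Submodule.smul_mem _ _ ((hmemz ζ₀).1 hζ₀s))
    obtain ⟨α, hα⟩ : ∃ α : N → ℂ, α = (d₀ : ℤ) • ζ + (-(d : ℤ)) • ζ₀ := ⟨_, rfl⟩
    have hα1 : α 1 = 0 := by
      rw [hα]
      simp only [Pi.add_apply, Pi.smul_apply]
      simp only [zsmul_eq_mul, hd, hd₀]
      push_cast
      ring
    have hαon : α ∈ Cfsg.zspanOn S ({1}ᶜ : Set N) := by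
      refine ⟨?_, ?_⟩
      · rw [hα]
        exact (hmemz _).2 (Submodule.add_mem _ ((hmemz _).1 h1s) ((hmemz _).1 h2s))
      · intro x hx
        have hx1 : x = 1 := by simpa using hx
        rw [hx1]; exact hα1
    have hstarα : star α = (d₀ : ℤ) • star ζ + (-(d : ℤ)) • star ζ₀ := by
      rw [hα, hadd _ h1s _ h2s, hsmul _ hζs, hsmul _ hζ₀s]
    have h0 := hind0 α hα1 g hg
    rw [← hext α hαon, hstarα] at h0
    simp only [Pi.add_apply, Pi.smul_apply] at h0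
    simp only [zsmul_eq_mul] at h0
    push_cast at h0
    rw [hd, hd₀]
    linear_combination h0
  by_contra hcon
  push Not at hcon
  obtain ⟨χ₀, hχ₀sep⟩ : ∃ χ₀ : Cfsg.IrrCharacter G, (χ₀ : G → ℂ) g₁ ≠ (χ₀ : G → ℂ) g₂ := by
    by_contra hall
    push Not at hall
    exact hnc ((isConj_iff_forall_irr g₁ g₂).2 hall)
  obtain ⟨ζ₀, hζ₀, hχ₀ζ⟩ := hcon χ₀.1 χ₀.2 hχ₀sep
  obtain ⟨W, hW⟩ : ∃ W : ℂ, W = (star ζ₀ g₁ - star ζ₀ g₂) * conj (star ζ₀ 1) := ⟨_, rfl⟩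
  have hWne : W ≠ 0 := by
    rw [hW]
    have h1 : (χ₀ : G → ℂ) 1 ≠ 0 := IsIrrCharacter.apply_one_ne_zero χ₀.2
    rcases hχ₀ζ with h' | h'
    · rw [← h']
      exact mul_ne_zero (sub_ne_zero.2 hχ₀sep) ((map_ne_zero _).2 h1)
    · have h'' : star ζ₀ = -(χ₀ : G → ℂ) := by rw [h']; simp
      rw [h'']
      simp only [Pi.neg_apply]
      apply mul_ne_zero
      · intro h3
        apply hχ₀sep
        linear_combination -h3
      · rw [map_neg]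
        exact neg_ne_zero.2 ((map_ne_zero _).2 h1)
  have hkey : ∀ χ : Cfsg.IrrCharacter G, ∃ c : ℝ, 0 ≤ c ∧
      ((χ : G → ℂ) g₁ - (χ : G → ℂ) g₂) * conj ((χ : G → ℂ) 1) = (c : ℂ) * W ∧
      ((χ : G → ℂ) g₁ ≠ (χ : G → ℂ) g₂ → 0 < c) := by
    intro χ
    by_cases hsep : (χ : G → ℂ) g₁ = (χ : G → ℂ) g₂
    · exact ⟨0, le_refl 0, by rw [hsep]; simp, fun h' => absurd hsep h'⟩
    · obtain ⟨ζ, hζ, hχζ⟩ := hcon χ.1 χ.2 hsep
      have hdζ := IsCharacter.apply_one_eq_charDegree (IsIrrCharacter.isCharacter (hSirr ζ hζ))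
      have hdζ₀ :=
        IsCharacter.apply_one_eq_charDegree (IsIrrCharacter.isCharacter (hSirr ζ₀ hζ₀))
      obtain ⟨d, hdd⟩ : ∃ d : ℕ, d = Cfsg.charDegree ζ := ⟨_, rfl⟩
      obtain ⟨d₀, hdd₀⟩ : ∃ d₀ : ℕ, d₀ = Cfsg.charDegree ζ₀ := ⟨_, rfl⟩
      rw [← hdd] at hdζ
      rw [← hdd₀] at hdζ₀
      have hdpos : 0 < d := by rw [hdd]; exact IsIrrCharacter.charDegree_pos (hSirr ζ hζ)
      have hd₀pos : 0 < d₀ := by rw [hdd₀]; exact IsIrrCharacter.charDegree_pos (hSirr ζ₀ hζ₀)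
      have p1 := hprop ζ hζ ζ₀ hζ₀ 1 (Or.inl rfl)
      have p2 := hprop ζ hζ ζ₀ hζ₀ g₁ (Or.inr hg₁)
      have p3 := hprop ζ hζ ζ₀ hζ₀ g₂ (Or.inr hg₂)
      rw [hdζ, hdζ₀] at p1 p2 p3
      refine ⟨((d : ℝ) / (d₀ : ℝ)) ^ 2, by positivity, ?_, fun _ => by positivity⟩
      have hd₀ne : (d₀ : ℂ) ≠ 0 := by exact_mod_cast hd₀pos.ne'
      have e1 : ((χ : G → ℂ) g₁ - (χ : G → ℂ) g₂) * conj ((χ : G → ℂ) 1)
          = (star ζ g₁ - star ζ g₂) * conj (star ζ 1) := by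
        rcases hχζ with h' | h'
        · rw [h']
        · rw [h']
          simp only [Pi.neg_apply, map_neg]
          ring
      rw [e1, hW]
      have q1 : star ζ 1 = ((d : ℂ) / (d₀ : ℂ)) * star ζ₀ 1 := by
        field_simp
        linear_combination p1
      have q2 : star ζ g₁ = ((d : ℂ) / (d₀ : ℂ)) * star ζ₀ g₁ := by
        field_simp
        linear_combination p2
      have q3 : star ζ g₂ = ((d : ℂ) / (d₀ : ℂ)) * star ζ₀ g₂ := by
        field_simp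
        linear_combination p3
      rw [q1, q2, q3, map_mul, map_div₀, Complex.conj_natCast, Complex.conj_natCast]
      push_cast
      ring
  choose c hc0 hcW hcpos using hkey
  have hsum0 : ∑ χ : Cfsg.IrrCharacter G,
      ((χ : G → ℂ) g₁ - (χ : G → ℂ) g₂) * conj ((χ : G → ℂ) 1) = 0 := by
    have n1 : ¬ IsConj g₁ 1 := by
      intro h'
      rw [isConj_one_left] at h'
      exact hg₁ a (by rw [h', one_smul])
    have n2 : ¬ IsConj g₂ 1 := by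
      intro h'
      rw [isConj_one_left] at h'
      exact hg₂ a (by rw [h', one_smul])
    have s1 := (sum_irr_mul_conj g₁ 1).2 n1
    have s2 := (sum_irr_mul_conj g₂ 1).2 n2
    simp_rw [sub_mul]
    rw [Finset.sum_sub_distrib, s1, s2, sub_zero]
  rw [Finset.sum_congr rfl (fun χ _ => hcW χ), ← Finset.sum_mul] at hsum0
  rcases mul_eq_zero.1 hsum0 with h' | h'
  · have h'' : ∑ χ : Cfsg.IrrCharacter G, c χ = 0 := by exact_mod_cast h'
    have h3 := (Finset.sum_eq_zero_iff_of_nonneg (fun χ _ => hc0 χ)).1 h'' χ₀ (Finset.mem_univ _)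
    have h4 := hcpos χ₀ hχ₀sep
    linarith
  · exact hWne h'

theorem core_false (h : ZD G Ω) {a b : Ω} (hab : a ≠ b) {H : Subgroup G} (hK : KD a H)
    (hperf : commutator G = ⊤)
    (hodd : Odd (Nat.card ↥(stabilizer G a ⊓ stabilizer G b : Subgroup G)))
    (hlt : 2 * Nat.card ↥(stabilizer G a ⊓ stabilizer G b : Subgroup G) + 1 < Nat.card H)
    [Fintype ↥(Subgroup.normalizer (H : Set G))]
    (hcoh : Cfsg.IsCoherent
      {χ : ↥(Subgroup.normalizer (H : Set G)) → ℂ |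
        Cfsg.IsIrrCharacter ↥(Subgroup.normalizer (H : Set G)) χ ∧
        ∃ k : ↥(Subgroup.normalizer (H : Set G)), (k : G) ∈ H ∧ χ k ≠ χ 1} {1}ᶜ
      (fun α => Cfsg.indFun (Subgroup.normalizer (H : Set G)) α)) : False := by
  classical
  have hba := hab.symm
  obtain ⟨S, hS⟩ : ∃ S : Set (↥(Subgroup.normalizer (H : Set G)) → ℂ),
      S = {χ : ↥(Subgroup.normalizer (H : Set G)) → ℂ |
        Cfsg.IsIrrCharacter ↥(Subgroup.normalizer (H : Set G)) χ ∧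
        ∃ k : ↥(Subgroup.normalizer (H : Set G)), (k : G) ∈ H ∧ χ k ≠ χ 1} := ⟨_, rfl⟩
  rw [← hS] at hcoh
  obtain ⟨⟨α₀, hα₀, hα₀ne⟩, star, hstar, hext⟩ := hcoh
  have hNeq := hK.normalizer_eq h hba
  have hN : ∀ x : G, x ∈ Subgroup.normalizer (H : Set G) ↔ x • a = a := by
    intro x; rw [hNeq, mem_stabilizer_iff]
  have hSirr : ∀ ζ ∈ S, Cfsg.IsIrrCharacter ↥(Subgroup.normalizer (H : Set G)) ζ := by
    intro ζ hζ
    rw [hS] at hζ
    exact hζ.1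
  have htwo : ∃ χ ∈ S, ∃ ξ ∈ S, χ ≠ ξ := by
    by_contra hcon
    push Not at hcon
    apply hα₀ne
    obtain ⟨hα₀s, hα₀1⟩ := hα₀
    have hα₀s' : α₀ ∈ Submodule.span ℤ S := hα₀s
    have h1 : α₀ 1 = 0 := hα₀1 1 (by simp)
    by_cases hSe : S = ∅
    · rw [hSe, Submodule.span_empty] at hα₀s'
      exact (Submodule.mem_bot ℤ).1 hα₀s'
    · obtain ⟨ζ, hζ⟩ := Set.nonempty_iff_ne_empty.2 hSe
      have hsub : S ⊆ {ζ} := fun ξ hξ => hcon ξ hξ ζ hζ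
      have h2 : α₀ ∈ Submodule.span ℤ ({ζ} : Set _) := Submodule.span_mono hsub hα₀s'
      obtain ⟨m, hm⟩ := Submodule.mem_span_singleton.1 h2
      rw [← hm] at h1 ⊢
      have hζ1 : ζ 1 ≠ 0 := IsIrrCharacter.apply_one_ne_zero (hSirr ζ hζ)
      have h3 : (m : ℂ) * ζ 1 = 0 := by simpa using h1
      have hm0 : m = 0 := by
        rcases mul_eq_zero.1 h3 with h4 | h4
        · exact_mod_cast h4
        · exact absurd h4 hζ1
      rw [hm0, zero_smul]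
  have hTI : ∀ g : G, g ∉ Subgroup.normalizer (H : Set G) → ∀ k ∈ H, g * k * g⁻¹ ∈ H →
      k = 1 := by
    intro g hg k hk hgk
    exact hK.ti (fun h' => hg ((hN g).2 h')) hk hgk
  have hltN : H < Subgroup.normalizer (H : Set G) := by
    rw [hNeq]
    refine lt_of_le_of_ne hK.le ?_
    intro heq
    have he1 := h.one_lt_card_two hab
    obtain ⟨y, hy1⟩ := (Subgroup.ne_bot_iff_exists_ne_one).1
      ((Subgroup.one_lt_card_iff_ne_bot _).1 he1)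
    have hyE := Subgroup.mem_inf.1 y.2
    have hyH : (y : G) ∈ H := by rw [heq]; exact hyE.1
    exact hba (hK.fix _ hyH (fun h' => hy1 (Subtype.ext h')) b (mem_stabilizer_iff.1 hyE.2))
  have hC : ∀ k ∈ H, k ≠ 1 → Subgroup.centralizer ({k} : Set G) ≤ H :=
    fun k hk hk1 => hK.centralizer_le h hba hk hk1
  have hEcomm := two_stab_comm_of_perfect h hab hK hperf hodd
  obtain ⟨τ, hτa, hτb⟩ := h.two a b b a hab hab.symm
  have hirr : ∀ μ : stabilizer G a → ℂ, Cfsg.IsCharacter (stabilizer G a) μ ∧ μ 1 = 1 →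
      (∀ u : stabilizer G a, (u : G) ∈ H → μ u = 1) → μ ≠ (fun _ => 1) →
      Cfsg.IsIrrCharacter G (Cfsg.indFun (stabilizer G a) μ) :=
    fun μ hμ hμH hμne => indFun_irr_of_ninv h hab hK μ hμ hμH τ hτa hτb
      (ninv_of_perfect h hab hK hperf hodd μ hμ hμH hμne τ hτa hτb)
  have hcardH := hK.card
  have hlt' : Nat.card ↥(stabilizer G a ⊓ stabilizer G b : Subgroup G) < Fintype.card Ω - 2 := by
    omega
  obtain ⟨g₁, g₂, hg₁, hg₂, hnc⟩ := h.exists_two_fpf hab hodd hlt'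
  obtain ⟨χ, hχ, hχsep, hχne⟩ := exists_nonexceptional_separating
    (Subgroup.normalizer (H : Set G)) hN S hSirr star hstar hext hg₁ hg₂ hnc
  have hiff := Cfsg.Agent.S0852.result H hTI hltN hC S hS htwo star hstar hext χ hχ
  have hconst : ∀ u ∈ H, ∀ v ∈ H, u ≠ 1 → v ≠ 1 → χ u = χ v := by
    intro u hu v hv hu1 hv1
    by_contra hne
    exact hχne (hiff.2 ⟨u, hu, v, hv, hu1, hv1, hne⟩)
  have hsum : ∑ u ∈ Finset.univ.filter (fun g : G => g ∈ H), χ u = 0 := by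
    by_contra hne
    exact hχsep (eq_on_fpf_of_sum_ne_zero h hab hK hEcomm hirr hχ hne hg₁ hg₂)
  have hdvd := card_sub_one_dvd h hab hK hχ hconst hsum
  have hepos : 0 < Nat.card ↥(stabilizer G a ⊓ stabilizer G b : Subgroup G) := Nat.card_pos
  have hle := Nat.le_of_dvd (by omega) hdvd
  omega

end

end Cfsg.Agent.Lib.Helper6.Zs
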