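import Mathlib
import Cfsg.Agent.Lib.Helper6.ZassCore
import Cfsg.Agent.Lib.Lead.Se5

set_option autoImplicit false

/-!
Zassenhaus groups: in a perfect Zassenhaus group with two point stabiliser of odd order `e` and
`2 e < h - 1`, the kernel of the point stabiliser is a non-abelian `2`-group with small
abelianisation (Feit).
-/

namespace Cfsg.Agent.Lib.Helper6.Zs

open Cfsg MulAction
open scoped commutatorElement

section
variable {G Ω : Type*} [Group G] [Fintype G] [MulAction G Ω] [Fintype Ω]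

theorem kernel_two_group (h : ZD G Ω) {a b : Ω} (hab : a ≠ b) {H : Subgroup G} (hK : KD a H)
    (hperf : commutator G = ⊤)
    (hodd : Odd (Nat.card ↥(stabilizer G a ⊓ stabilizer G b : Subgroup G)))
    (hlt : 2 * Nat.card ↥(stabilizer G a ⊓ stabilizer G b : Subgroup G) + 1 < Nat.card H) :
    IsPGroup 2 H ∧ (∃ u v : H, u * v ≠ v * u) ∧
      (commutator H).index
        ≤ 4 * (Nat.card ↥(stabilizer G a ⊓ stabilizer G b : Subgroup G)) ^ 2 + 1 := by
  classical
  have hba := hab.symm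
  have hn := h.card_gt
  obtain ⟨e, he⟩ : ∃ e, e = Nat.card ↥(stabilizer G a ⊓ stabilizer G b : Subgroup G) := ⟨_, rfl⟩
  have he1 : 1 < e := by rw [he]; exact h.one_lt_card_two hab
  haveI : Fintype ↥(Subgroup.normalizer (H : Set G)) := Fintype.ofFinite _
  have hNeq := hK.normalizer_eq h hba
  have hN : ∀ x : G, x ∈ Subgroup.normalizer (H : Set G) ↔ x • a = a := by
    intro x; rw [hNeq, mem_stabilizer_iff]
  have hHN : H ≤ Subgroup.normalizer (H : Set G) := by rw [hNeq]; exact hK.le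
  obtain ⟨K₁, hK₁⟩ : ∃ K₁ : Subgroup ↥(Subgroup.normalizer (H : Set G)),
      K₁ = H.subgroupOf (Subgroup.normalizer (H : Set G)) := ⟨_, rfl⟩
  have hKH : ∀ x : ↥(Subgroup.normalizer (H : Set G)), x ∈ K₁ ↔ (x : G) ∈ H := fun x => by
    rw [hK₁, Subgroup.mem_subgroupOf]
  haveI hK₁n : K₁.Normal := ⟨fun k hk x => by
    rw [hKH] at hk ⊢
    exact hK.conj_mem h hba ((hN _).1 x.2) hk⟩
  have hTI' : ∀ g : G, g ∉ Subgroup.normalizer (H : Set G) → ∀ t ∈ H, g * t * g⁻¹ ∈ H →
      t = 1 := by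
    intro g hg k hk hgk
    exact hK.ti (fun h' => hg ((hN g).2 h')) hk hgk
  have hC : ∀ k ∈ H, k ≠ 1 → Subgroup.centralizer ({k} : Set G) ≤ H :=
    fun k hk hk1 => hK.centralizer_le h hba hk hk1
  have hcardK : Nat.card K₁ = Nat.card H := by
    rw [hK₁]; exact Nat.card_congr (Subgroup.subgroupOfEquivOfLe hHN).toEquiv
  have hcardH := hK.card
  have hcardN : Nat.card ↥(Subgroup.normalizer (H : Set G)) = Nat.card H * e := by
    rw [hNeq, h.card_stab_eq hab, ← he]
    congr 1
    omega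
  have hidx : K₁.index = e := by
    have h1 := Subgroup.card_mul_index K₁
    rw [hcardK, hcardN] at h1
    exact Nat.eq_of_mul_eq_mul_left Nat.card_pos h1
  have hK₁bot : K₁ ≠ ⊥ := by
    intro hb
    have h1 : Nat.card K₁ = 1 := by rw [hb]; exact Subgroup.card_bot
    omega
  have hK₁top : K₁ ≠ ⊤ := by
    intro ht
    have h1 : K₁.index = 1 := by rw [ht]; exact Subgroup.index_top
    omega
  have hC₁ : ∀ k ∈ K₁, k ≠ 1 →
      Subgroup.centralizer ({k} : Set ↥(Subgroup.normalizer (H : Set G))) ≤ K₁ := by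
    intro k hk hk1 x hx
    rw [hKH] at hk ⊢
    apply hC (k : G) hk (fun h' => hk1 (Subtype.ext h'))
    rw [Subgroup.mem_centralizer_iff] at hx ⊢
    intro y hy
    rw [Set.mem_singleton_iff] at hy
    rw [hy]
    exact congrArg Subtype.val (hx k (Set.mem_singleton k))
  have hecard : Nat.card K₁ ≠ K₁.index + 1 := by
    rw [hcardK, hidx]; omega
  have hFK : ∀ k ∈ K₁, k ≠ 1 → ∀ x : ↥(Subgroup.normalizer (H : Set G)), x * k = k * x →
      x ∈ K₁ := by
    intro k hk hk1 x hxk
    apply hC₁ k hk hk1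
    rw [Subgroup.mem_centralizer_iff]
    intro y hy
    rw [Set.mem_singleton_iff] at hy
    rw [hy]
    exact hxk.symm
  have hirrS : ∀ ξ ∈ inducedIrrAbove K₁ ⊥,
      IsIrrCharacter ↥(Subgroup.normalizer (H : Set G)) ξ := by
    rintro ξ ⟨θ, hθ, hθ1, -, rfl⟩
    exact Cfsg.Agent.Lib.Lead.Frob.indFun_irr_of_FK K₁ hFK hθ hθ1
  have hKK_empty : inducedIrrAbove K₁ K₁ = ∅ :=
    Set.ext fun φ => ⟨fun hφ => absurd le_rfl (Cfsg.Agent.Lib.Lead.Coh.not_le_of_mem_iia K₁ hφ),
      fun h => h.elim⟩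
  have hset : {χ : ↥(Subgroup.normalizer (H : Set G)) → ℂ |
      IsIrrCharacter ↥(Subgroup.normalizer (H : Set G)) χ ∧ ∃ k ∈ K₁, χ k ≠ χ 1}
      = inducedIrrAbove K₁ ⊥ := by
    have h1 := Cfsg.Agent.Lib.Lead.Coh.s1522_a K₁ K₁ le_rfl (fun χ hχ => hirrS χ hχ.1)
    rw [hKK_empty, Set.sdiff_empty] at h1
    exact h1.symm
  have hS12 : {χ : ↥(Subgroup.normalizer (H : Set G)) → ℂ |
      IsIrrCharacter ↥(Subgroup.normalizer (H : Set G)) χ ∧ ∃ k ∈ K₁, χ k ≠ χ 1}
      = {χ : ↥(Subgroup.normalizer (H : Set G)) → ℂ |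
        IsIrrCharacter ↥(Subgroup.normalizer (H : Set G)) χ ∧
        ∃ k : ↥(Subgroup.normalizer (H : Set G)), (k : G) ∈ H ∧ χ k ≠ χ 1} := by
    ext χ
    constructor
    · rintro ⟨h1, k, hk, h2⟩
      exact ⟨h1, k, (hKH k).1 hk, h2⟩
    · rintro ⟨h1, k, hk, h2⟩
      exact ⟨h1, k, (hKH k).2 hk, h2⟩
  obtain ⟨hiso, hiso1⟩ := Cfsg.Agent.Lib.Lead.Sib.ind_isometry H
    (Subgroup.normalizer (H : Set G)) K₁ hKH hTI'
  rw [← hset] at hiso hiso1
  rcases Cfsg.Agent.Lib.Lead.Se.s1535 K₁ hK₁bot hK₁top hC₁ hecard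
    (fun α => indFun (Subgroup.normalizer (H : Set G)) α) hiso hiso1
    with hcoh | ⟨p, hp, ⟨m, hpm⟩, hna, hle⟩
  · exfalso
    rw [hS12] at hcoh
    exact core_false h hab hK hperf hodd hlt hcoh
  · by_cases hp2 : p = 2
    · subst hp2
      refine ⟨IsPGroup.of_card (n := m) (by rw [← hcardK]; exact hpm), ?_, ?_⟩
      · by_contra hall
        push Not at hall
        apply hna
        refine ⟨⟨fun x y => ?_⟩⟩
        have h1 := hall ⟨((x : ↥(Subgroup.normalizer (H : Set G))) : G), (hKH x).1 x.2⟩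
          ⟨((y : ↥(Subgroup.normalizer (H : Set G))) : G), (hKH y).1 y.2⟩
        apply Subtype.ext
        apply Subtype.ext
        exact congrArg (fun z : H => (z : G)) h1
      · rw [hidx] at hle
        rw [← he]
        refine le_trans (le_of_eq ?_) hle
        have e1 : (⁅K₁, K₁⁆.subgroupOf K₁) = commutator ↥K₁ := by
          rw [← Subgroup.map_subtype_commutator K₁]
          exact Subgroup.comap_map_eq_self_of_injective K₁.subtype_injective _
        rw [e1, hK₁, Subgroup.index_eq_card, Subgroup.index_eq_card]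
        exact (Nat.card_congr
          (MulEquiv.abelianizationCongr (Subgroup.subgroupOfEquivOfLe hHN)).toEquiv).symm
    · exfalso
      haveI : Fact p.Prime := ⟨hp⟩
      have hpH : IsPGroup p H := IsPGroup.of_card (n := m) (by rw [← hcardK]; exact hpm)
      have hnil : Group.IsNilpotent H := hpH.isNilpotent
      have hHbot : H ≠ ⊥ := by
        intro hb
        have h1 : Nat.card H = 1 := by rw [hb]; exact Subgroup.card_bot
        omega
      have hHn : ∀ x ∈ Subgroup.normalizer (H : Set G), ∀ u ∈ H, x * u * x⁻¹ ∈ H :=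
        fun x hx u hu => hK.conj_mem h hba ((hN x).1 hx) hu
      have hout : ∃ x ∈ Subgroup.normalizer (H : Set G), x ∉ H := by
        obtain ⟨y, hy1⟩ := (Subgroup.ne_bot_iff_exists_ne_one).1
          ((Subgroup.one_lt_card_iff_ne_bot _).1 (h.one_lt_card_two hab))
        have hyE := Subgroup.mem_inf.1 y.2
        refine ⟨(y : G), (hN _).2 (mem_stabilizer_iff.1 hyE.1), ?_⟩
        intro hyH
        exact hba (hK.fix _ hyH (fun h' => hy1 (Subtype.ext h')) b (mem_stabilizer_iff.1 hyE.2))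
      rcases Cfsg.Agent.Lib.Lead.Se.s1534_aux H hHbot hnil (Subgroup.normalizer (H : Set G)) hHN
        hHn hout hTI' hC with ⟨-, h2, -⟩ | ⟨h2, -⟩ | hcoh
      · rw [← hK₁, hidx] at h2
        omega
      · rw [← hcardK, hpm] at h2
        have hm0 : m ≠ 0 := by
          rintro rfl
          rw [pow_zero] at hpm
          omega
        have h3 : p ∣ 2 ^ (Nat.card G).factorization 2 := by
          rw [← h2]; exact dvd_pow_self p hm0
        have h4 := (Nat.prime_dvd_prime_iff_eq hp Nat.prime_two).1 (hp.dvd_of_dvd_pow h3)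
        exact hp2 h4
      · exact core_false h hab hK hperf hodd hlt hcoh

end

end Cfsg.Agent.Lib.Helper6.Zs
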