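import Mathlib
import Cfsg.Agent.Lib.Helper6.ZassBasic
import Cfsg.Agent.Lib.Lead.Sharp2

set_option autoImplicit false

/-!
Zassenhaus groups: descent to a normal subgroup containing the kernel of the point stabiliser.
-/

namespace Cfsg.Agent.Lib.Helper6.Zs

open Cfsg MulAction
open scoped commutatorElement

section
variable {G Ω : Type*} [Group G] [Fintype G] [MulAction G Ω] [Fintype Ω]

/-- a normal subgroup containing the kernel is transitive on the complement of each point -/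
theorem desc_T1 (h : ZD G Ω) {a : Ω} {H : Subgroup G} (hK : KD a H) (K : Subgroup G)
    [hKn : K.Normal] (hHK : H ≤ K) (c x y : Ω) (hx : x ≠ c) (hy : y ≠ c) :
    ∃ k ∈ K, k • c = c ∧ k • x = y := by
  obtain ⟨g, hg⟩ := h.trans a c
  have hgc : g⁻¹ • c = a := by rw [inv_smul_eq_iff, hg]
  have hx' : g⁻¹ • x ≠ a := by
    intro h'
    apply hx
    rw [inv_smul_eq_iff, hg] at h'
    exact h'
  have hy' : g⁻¹ • y ≠ a := by
    intro h'
    apply hy
    rw [inv_smul_eq_iff, hg] at h'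
    exact h'
  obtain ⟨u, hu, huxy⟩ := hK.surj hx' hy'
  refine ⟨g * u * g⁻¹, hKn.conj_mem u (hHK hu) g, ?_, ?_⟩
  · rw [mul_smul, mul_smul, hgc, hK.fixa hu, hg]
  · rw [mul_smul, mul_smul, huxy, smul_inv_smul]

theorem desc_two (h : ZD G Ω) {a : Ω} {H : Subgroup G} (hK : KD a H) (K : Subgroup G)
    [hKn : K.Normal] (hHK : H ≤ K) (c d c' d' : Ω) (hcd : c ≠ d) (hcd' : c' ≠ d') :
    ∃ k ∈ K, k • c = c' ∧ k • d = d' := by
  classical
  have hn := h.card_gt
  obtain ⟨k₁, hk₁, hk₁c⟩ : ∃ k₁ ∈ K, k₁ • c = c' := by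
    by_cases hcc : c = c'
    · exact ⟨1, K.one_mem, by rw [one_smul, hcc]⟩
    · obtain ⟨z, hzc, hzc'⟩ : ∃ z : Ω, z ≠ c ∧ z ≠ c' := by
        by_contra hcon
        push Not at hcon
        have hsub : (Finset.univ : Finset Ω) ⊆ {c, c'} := by
          intro z _
          by_cases hz : z = c
          · rw [hz]; simp
          · rw [hcon z hz]; simp
        have h1 := Finset.card_le_card hsub
        have h2 : ({c, c'} : Finset Ω).card ≤ 2 := Finset.card_le_two
        rw [Finset.card_univ] at h1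
        omega
      obtain ⟨k, hk, -, hkc⟩ := desc_T1 h hK K hHK z c c' (Ne.symm hzc) (Ne.symm hzc')
      exact ⟨k, hk, hkc⟩
  have hd₁ : k₁ • d ≠ c' := by
    intro h'
    apply hcd
    rw [← hk₁c] at h'
    exact (smul_left_cancel k₁ h').symm
  obtain ⟨k₂, hk₂, hk₂c, hk₂d⟩ := desc_T1 h hK K hHK c' (k₁ • d) d' hd₁ (Ne.symm hcd')
  refine ⟨k₂ * k₁, K.mul_mem hk₂ hk₁, ?_, ?_⟩
  · rw [mul_smul, hk₁c, hk₂c]
  · rw [mul_smul, hk₂d]

/-- the normal subgroup is again a Zassenhaus group (elementary form), provided it meets the two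
point stabiliser nontrivially -/
theorem desc_ZD (h : ZD G Ω) {a b : Ω} (hab : a ≠ b) {H : Subgroup G} (hK : KD a H)
    (K : Subgroup G) [hKn : K.Normal] (hHK : H ≤ K)
    (hE : ∃ y ∈ K, y ≠ 1 ∧ y • a = a ∧ y • b = b) : ZD K Ω := by
  refine ⟨?_, ?_, ?_, ?_⟩
  · intro k hk
    apply Subtype.ext
    exact h.faith (k : G) hk
  · intro c d c' d' hcd hcd'
    obtain ⟨k, hk, h1, h2⟩ := desc_two h hK K hHK c d c' d' hcd hcd'
    exact ⟨⟨k, hk⟩, h1, h2⟩
  · intro k c d f hcd hdf hcf h1 h2 h3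
    apply Subtype.ext
    exact h.three (k : G) c d f hcd hdf hcf h1 h2 h3
  · obtain ⟨y, hy, hy1, hya, hyb⟩ := hE
    exact ⟨⟨y, hy⟩, fun h' => hy1 (congrArg Subtype.val h'), a, b, hab, hya, hyb⟩

theorem desc_KD {a : Ω} {H : Subgroup G} (hK : KD a H) (K : Subgroup G) (hHK : H ≤ K) :
    KD (G := K) a (H.subgroupOf K) := by
  refine ⟨?_, ?_, ?_⟩
  · intro x hx
    rw [Subgroup.mem_subgroupOf] at hx
    rw [mem_stabilizer_iff]
    exact hK.fixa hx
  · rw [Nat.card_congr (Subgroup.subgroupOfEquivOfLe hHK).toEquiv]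
    exact hK.card
  · intro u hu hu1 c hc
    rw [Subgroup.mem_subgroupOf] at hu
    exact hK.fix (u : G) hu (fun h' => hu1 (Subtype.ext h')) c hc

/-- the two point stabiliser of the subgroup embeds in that of the group -/
theorem desc_card_dvd (K : Subgroup G) (a b : Ω) :
    Nat.card ↥(stabilizer K a ⊓ stabilizer K b : Subgroup K)
      ∣ Nat.card ↥(stabilizer G a ⊓ stabilizer G b : Subgroup G) := by
  let f : ↥(stabilizer K a ⊓ stabilizer K b : Subgroup K)
      →* ↥(stabilizer G a ⊓ stabilizer G b : Subgroup G) :=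
    (K.subtype.comp (stabilizer K a ⊓ stabilizer K b : Subgroup K).subtype).codRestrict _
      (fun x => by
        have hx := Subgroup.mem_inf.1 x.2
        exact Subgroup.mem_inf.2 ⟨mem_stabilizer_iff.2 (mem_stabilizer_iff.1 hx.1),
          mem_stabilizer_iff.2 (mem_stabilizer_iff.1 hx.2)⟩)
  apply Subgroup.card_dvd_of_injective f
  intro x y hxy
  have h1 : ((x : K) : G) = ((y : K) : G) :=
    congrArg (fun z : ↥(stabilizer G a ⊓ stabilizer G b : Subgroup G) => (z : G)) hxy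
  exact Subtype.ext (Subtype.ext h1)

/-- a normal subgroup containing the kernel meets the two point stabiliser nontrivially, when the
group has no regular normal subgroup -/
theorem desc_exists (h : ZD G Ω) {a b : Ω} (hab : a ≠ b) {H : Subgroup G} (hK : KD a H)
    (K : Subgroup G) [hKn : K.Normal] (hHK : H ≤ K)
    (hZ5 : ∀ N : Subgroup G, N.Normal → MulAction.IsPretransitive N Ω →
      ∃ a : Ω, MulAction.stabilizer N a ≠ ⊥) :
    ∃ y ∈ K, y ≠ 1 ∧ y • a = a ∧ y • b = b := by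
  classical
  by_contra hcon
  push Not at hcon
  have hn := h.card_gt
  have hsharp0 : ∀ k ∈ K, ∀ c d : Ω, c ≠ d → k • c = c → k • d = d → k = 1 := by
    intro k hk c d hcd hkc hkd
    obtain ⟨g, hg1, hg2⟩ := h.two c d a b hcd hab
    by_contra hk1
    have hk' : g * k * g⁻¹ ∈ K := hKn.conj_mem k hk g
    have hk'1 : g * k * g⁻¹ ≠ 1 := by
      intro h'
      apply hk1
      have : k = g⁻¹ * (g * k * g⁻¹) * g := by group
      rw [this, h']; group
    have hga : g⁻¹ • a = c := by rw [inv_smul_eq_iff, hg1]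
    have hgb : g⁻¹ • b = d := by rw [inv_smul_eq_iff, hg2]
    apply hcon _ hk' hk'1
    · rw [mul_smul, mul_smul, hga, hkc, hg1]
    · rw [mul_smul, mul_smul, hgb, hkd, hg2]
  have h2 : IsMultiplyPretransitive K Ω 2 := by
    rw [is_two_pretransitive_iff]
    intro c d c' d' hcd hcd'
    obtain ⟨k, hk, h1, h2⟩ := desc_two h hK K hHK c d c' d' hcd hcd'
    exact ⟨⟨k, hk⟩, h1, h2⟩
  have hsharp : ∀ x : Fin 2 ↪ Ω, stabilizer K x = ⊥ := by
    intro x
    rw [eq_bot_iff]
    intro k hk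
    rw [mem_stabilizer_iff] at hk
    rw [Subgroup.mem_bot]
    apply Subtype.ext
    have h0 : (k : G) • x 0 = x 0 := by
      have h1 := DFunLike.congr_fun hk 0
      exact h1
    have h1 : (k : G) • x 1 = x 1 := by
      have h1 := DFunLike.congr_fun hk 1
      exact h1
    have hne : x 0 ≠ x 1 := by
      intro h'
      have := x.injective h'
      simp at this
    exact hsharp0 (k : G) k.2 (x 0) (x 1) hne h0 h1
  obtain ⟨N, hNmem, hNn, -, hNcard, -⟩ :=
    Cfsg.Agent.Lib.Lead.Sharp2.exists_kernel h2 hsharp (by omega)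
  obtain ⟨R, hR⟩ : ∃ R : Subgroup G, R = N.map K.subtype := ⟨_, rfl⟩
  have hmR : ∀ x : G, x ∈ R ↔ ∃ hx : x ∈ K, (⟨x, hx⟩ : K) ∈ N := by
    intro x
    rw [hR, Subgroup.mem_map]
    constructor
    · rintro ⟨y, hy, rfl⟩
      exact ⟨y.2, hy⟩
    · rintro ⟨hx, hy⟩
      exact ⟨⟨x, hx⟩, hy, rfl⟩
  have hRfpf : ∀ x ∈ R, x = 1 ∨ ∀ c : Ω, x • c ≠ c := by
    intro x hx
    obtain ⟨hxK, hxN⟩ := (hmR x).1 hx
    rcases (hNmem _).1 hxN with h1 | h1
    · left
      exact congrArg Subtype.val h1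
    · right
      intro c
      exact h1 c
  have hRn : R.Normal := by
    constructor
    intro x hx g
    obtain ⟨hxK, hxN⟩ := (hmR x).1 hx
    rw [hmR]
    refine ⟨hKn.conj_mem x hxK g, ?_⟩
    rw [hNmem]
    rcases (hNmem _).1 hxN with h1 | h1
    · left
      apply Subtype.ext
      have hx1 : x = 1 := congrArg Subtype.val h1
      show g * x * g⁻¹ = 1
      rw [hx1]; group
    · right
      intro c hc
      apply h1 (g⁻¹ • c)
      have hc' : (g * x * g⁻¹) • c = c := hc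
      show x • (g⁻¹ • c) = g⁻¹ • c
      rw [mul_smul, mul_smul] at hc'
      have h3 := congrArg (fun t => g⁻¹ • t) hc'
      simpa using h3
  have hRtrans : IsPretransitive R Ω := by
    constructor
    intro c d
    obtain ⟨g, hg, hgc⟩ := Cfsg.Agent.Lib.Lead.Sharp2.kernel_transitive N
      (fun g hg => (hNmem g).1 hg) hNcard c d
    exact ⟨⟨(g : G), (hmR _).2 ⟨g.2, hg⟩⟩, hgc⟩
  obtain ⟨c, hc⟩ := hZ5 R hRn hRtrans
  apply hc
  rw [eq_bot_iff]
  intro r hr
  rw [mem_stabilizer_iff] at hr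
  rw [Subgroup.mem_bot]
  rcases hRfpf (r : G) r.2 with h1 | h1
  · exact Subtype.ext h1
  · exact absurd hr (h1 c)

/-- the normal closure of the kernel is perfect -/
theorem desc_perfect (h : ZD G Ω) {a b : Ω} (hab : a ≠ b) {H : Subgroup G} (hK : KD a H)
    (hE : ∃ y ∈ Subgroup.normalClosure (H : Set G), y ≠ 1 ∧ y • a = a ∧ y • b = b) :
    commutator ↥(Subgroup.normalClosure (H : Set G)) = ⊤ := by
  classical
  have hba := hab.symm
  have hHK : H ≤ Subgroup.normalClosure (H : Set G) := Subgroup.le_normalClosure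
  obtain ⟨y₀, hy₀K, hy₀1, hy₀a, hy₀b⟩ := hE
  have hcent : ∀ u ∈ H, y₀ * u = u * y₀ → u = 1 := by
    intro u hu hc
    by_contra hu1
    have hfix : y₀ • (u • b) = u • b := by rw [← mul_smul, hc, mul_smul, hy₀b]
    have hub : u • b ≠ b := fun h' => hba (hK.fix _ hu hu1 b h')
    have hua : u • b ≠ a := hK.ne_a hba hu
    exact hy₀1 (h.three y₀ a b (u • b) hab hub.symm hua.symm hy₀a hy₀b hfix)
  let φ : H → H := fun v => ⟨(v : G) * (y₀ * (v : G)⁻¹ * y₀⁻¹),
    H.mul_mem v.2 (hK.conj_mem h hba hy₀a (H.inv_mem v.2))⟩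
  have hφinj : Function.Injective φ := by
    intro v w hvw
    have h1 : (v : G) * (y₀ * (v : G)⁻¹ * y₀⁻¹) = (w : G) * (y₀ * (w : G)⁻¹ * y₀⁻¹) :=
      congrArg Subtype.val hvw
    have h3 : (v : G) * y₀ * (v : G)⁻¹ = (w : G) * y₀ * (w : G)⁻¹ := by
      calc (v : G) * y₀ * (v : G)⁻¹ = ((v : G) * (y₀ * (v : G)⁻¹ * y₀⁻¹)) * y₀ := by group
        _ = ((w : G) * (y₀ * (w : G)⁻¹ * y₀⁻¹)) * y₀ := by rw [h1]
        _ = (w : G) * y₀ * (w : G)⁻¹ := by group
    have h2 : y₀ * ((w : G)⁻¹ * (v : G)) = ((w : G)⁻¹ * (v : G)) * y₀ := by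
      calc y₀ * ((w : G)⁻¹ * (v : G))
          = (w : G)⁻¹ * ((w : G) * y₀ * (w : G)⁻¹) * (v : G) := by group
        _ = (w : G)⁻¹ * ((v : G) * y₀ * (v : G)⁻¹) * (v : G) := by rw [h3]
        _ = ((w : G)⁻¹ * (v : G)) * y₀ := by group
    have h4 := hcent _ (H.mul_mem (H.inv_mem w.2) v.2) h2
    apply Subtype.ext
    exact (inv_mul_eq_one.1 h4).symm
  have hφsurj := Finite.injective_iff_surjective.1 hφinj
  have hHcomm : H ≤ ⁅Subgroup.normalClosure (H : Set G), Subgroup.normalClosure (H : Set G)⁆ := by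
    intro u hu
    obtain ⟨v, hv⟩ := hφsurj ⟨u, hu⟩
    have h1 : u = (v : G) * (y₀ * (v : G)⁻¹ * y₀⁻¹) := (congrArg Subtype.val hv).symm
    have h2 : u = ⁅(v : G), y₀⁆ := by
      rw [h1, commutatorElement_def]; group
    rw [h2]
    exact Subgroup.commutator_mem_commutator (hHK v.2) hy₀K
  have hKle : Subgroup.normalClosure (H : Set G)
      ≤ ⁅Subgroup.normalClosure (H : Set G), Subgroup.normalClosure (H : Set G)⁆ :=
    Subgroup.normalClosure_le_normal hHcomm
  have hKeq : ⁅Subgroup.normalClosure (H : Set G), Subgroup.normalClosure (H : Set G)⁆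
      = Subgroup.normalClosure (H : Set G) :=
    le_antisymm (Subgroup.commutator_le_right _ _) hKle
  apply Subgroup.map_injective (Subgroup.normalClosure (H : Set G)).subtype_injective
  rw [Subgroup.map_subtype_commutator, hKeq, ← MonoidHom.range_eq_map, Subgroup.range_subtype]

end

end Cfsg.Agent.Lib.Helper6.Zs
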