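import Mathlib
import Cfsg.Agent.Lib.Helper6.ZassAb
import Cfsg.Agent.Lib.Helper6.ZassKer
import Cfsg.Agent.Lib.Helper6.ZassInv
import Cfsg.Agent.Lib.Lead.KleinInvariantSylow

set_option autoImplicit false

/-!
Zassenhaus groups with two point stabiliser `E` of odd order and no normal `q`-complements
(`q ∣ |E|`): `E` is cyclic, self centralising and inverted by every element interchanging the two
points.
-/

namespace Cfsg.Agent.Lib.Helper6.Zs

open Cfsg MulAction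

section gen
variable {G : Type*} [Group G]

lemma cyc_comm {α : Type*} [Group α] [IsCyclic α] (x y : α) : x * y = y * x := by
  obtain ⟨g, hg⟩ := IsCyclic.exists_generator (α := α)
  obtain ⟨m, rfl⟩ := Subgroup.mem_zpowers_iff.1 (hg x)
  obtain ⟨n, rfl⟩ := Subgroup.mem_zpowers_iff.1 (hg y)
  rw [← zpow_add, ← zpow_add, add_comm]

/-- An "involutory" conjugation on a cyclic group of odd prime power order is trivial or
inversion. -/
theorem cyc_dichotomy (Q : Subgroup G) [Finite Q] [IsCyclic Q] {q j : ℕ} (hq : q.Prime)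
    (hq2 : q ≠ 2) (hcard : Nat.card Q = q ^ j) (t : G)
    (ht : t ∈ Subgroup.normalizer (Q : Set G))
    (ht2 : ∀ y ∈ Q, t * (t * y * t⁻¹) * t⁻¹ = y) :
    (∀ y ∈ Q, t * y * t⁻¹ = y) ∨ (∀ y ∈ Q, t * y * t⁻¹ = y⁻¹) := by
  obtain ⟨g, hg⟩ := IsCyclic.exists_generator (α := Q)
  have hmem : ∀ y ∈ Q, t * y * t⁻¹ ∈ Q := fun y hy =>
    (Subgroup.mem_normalizer_iff.mp ht y).mp hy
  have hgo : orderOf (g : G) = q ^ j := by
    rw [Subgroup.orderOf_coe, orderOf_eq_card_of_forall_mem_zpowers hg, hcard]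
  have hqj : 0 < q ^ j := pow_pos hq.pos j
  have hfin : IsOfFinOrder (g : G) := by
    rw [← orderOf_pos_iff, hgo]; exact hqj
  have hcoe : ∀ (m : ℤ), (((g ^ m : Q)) : G) = (g : G) ^ m := fun m => Subgroup.coe_zpow Q g m
  obtain ⟨k, hk⟩ : ∃ k : ℕ, (g : G) ^ k = t * g * t⁻¹ := by
    have h2 := hg ⟨t * g * t⁻¹, hmem g g.2⟩
    obtain ⟨m, hm⟩ := Subgroup.mem_zpowers_iff.1 h2
    have h3 : (g : G) ^ m = t * g * t⁻¹ := by
      rw [← hcoe, hm]
    have h4 : t * (g : G) * t⁻¹ ∈ Subgroup.zpowers (g : G) := Subgroup.mem_zpowers_iff.2 ⟨m, h3⟩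
    rw [← hfin.mem_powers_iff_mem_zpowers, Submonoid.mem_powers_iff] at h4
    exact h4
  have hall : ∀ y ∈ Q, t * y * t⁻¹ = y ^ k := by
    intro y hy
    obtain ⟨m, hm⟩ := Subgroup.mem_zpowers_iff.1 (hg ⟨y, hy⟩)
    have hy' : (g : G) ^ m = y := by rw [← hcoe, hm]
    rw [← hy']
    calc t * (g : G) ^ m * t⁻¹ = (t * g * t⁻¹) ^ m := conj_zpow.symm
      _ = ((g : G) ^ k) ^ m := by rw [hk]
      _ = ((g : G) ^ (k : ℤ)) ^ m := by rw [zpow_natCast]
      _ = (g : G) ^ ((k : ℤ) * m) := (zpow_mul _ _ _).symm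
      _ = (g : G) ^ (m * (k : ℤ)) := by rw [mul_comm]
      _ = ((g : G) ^ m) ^ (k : ℤ) := zpow_mul _ _ _
      _ = ((g : G) ^ m) ^ k := zpow_natCast _ _
  have hkk : (g : G) ^ (k * k) = (g : G) ^ 1 := by
    have h3 := ht2 g g.2
    rw [hall g g.2, hall _ (Q.pow_mem g.2 k), ← pow_mul] at h3
    rw [h3, pow_one]
  have hmod : k * k ≡ 1 [MOD q ^ j] := by
    rw [← hgo]; exact pow_eq_pow_iff_modEq.1 hkk
  have hpowQ : ∀ y ∈ Q, y ^ (q ^ j) = 1 := by
    intro y hy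
    have h1 : (⟨y, hy⟩ : Q) ^ Nat.card Q = 1 := pow_card_eq_one'
    rw [hcard] at h1
    have := congrArg Subtype.val h1
    simpa using this
  by_cases hj : j = 0
  · left
    intro y hy
    have h1 := hpowQ y hy
    rw [hj, pow_zero, pow_one] at h1
    rw [h1]; group
  have hqj2 : 2 ≤ q ^ j := by
    calc 2 ≤ q := hq.two_le
      _ = q ^ 1 := (pow_one q).symm
      _ ≤ q ^ j := Nat.pow_le_pow_right hq.pos (Nat.one_le_iff_ne_zero.2 hj)
  have hk0 : k ≠ 0 := by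
    intro h0
    rw [h0, Nat.zero_mul] at hmod
    have h1 : q ^ j ∣ 1 - 0 := (Nat.modEq_iff_dvd' (Nat.zero_le 1)).1 hmod
    have h2 : q ^ j ∣ 1 := by simpa using h1
    have := Nat.le_of_dvd one_pos h2
    omega
  obtain ⟨k', rfl⟩ : ∃ k', k = k' + 1 := ⟨k - 1, by omega⟩
  have hdvd : q ^ j ∣ k' * (k' + 2) := by
    have h1 : 1 ≤ (k' + 1) * (k' + 1) := Nat.succ_le_of_lt (by positivity)
    have h2 : q ^ j ∣ (k' + 1) * (k' + 1) - 1 := (Nat.modEq_iff_dvd' h1).1 hmod.symm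
    have h3 : (k' + 1) * (k' + 1) - 1 = k' * (k' + 2) := by
      rw [Nat.sub_eq_iff_eq_add h1]; ring
    rwa [h3] at h2
  have hnot : ¬ (q ∣ k' ∧ q ∣ k' + 2) := by
    rintro ⟨h1, h2⟩
    have h3 : q ∣ 2 := (Nat.dvd_add_right h1).1 h2
    have h4 : q ≤ 2 := Nat.le_of_dvd (by norm_num) h3
    exact hq2 (le_antisymm h4 hq.two_le)
  by_cases h1 : q ∣ k' + 2
  · right
    have h2 : ¬ q ∣ k' := fun h => hnot ⟨h, h1⟩
    have hcop : Nat.Coprime (q ^ j) k' := Nat.Coprime.pow_left j ((hq.coprime_iff_not_dvd).2 h2)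
    have h3 : q ^ j ∣ k' + 2 := hcop.dvd_of_dvd_mul_left hdvd
    intro y hy
    rw [hall y hy]
    obtain ⟨c, hc⟩ := h3
    have h4 : y ^ (k' + 2) = 1 := by rw [hc, pow_mul, hpowQ y hy, one_pow]
    apply eq_inv_of_mul_eq_one_left
    rw [← pow_succ]; exact h4
  · left
    have hcop : Nat.Coprime (q ^ j) (k' + 2) :=
      Nat.Coprime.pow_left j ((hq.coprime_iff_not_dvd).2 h1)
    have h3 : q ^ j ∣ k' := hcop.dvd_of_dvd_mul_right hdvd
    intro y hy
    rw [hall y hy]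
    obtain ⟨c, hc⟩ := h3
    have h4 : y ^ k' = 1 := by rw [hc, pow_mul, hpowQ y hy, one_pow]
    rw [pow_succ, h4, one_mul]

/-- A subgroup of prime power order of a Z-group is cyclic. -/
theorem isCyclic_of_le_isZGroup {E R : Subgroup G} (hZ : IsZGroup E) {r v : ℕ} (hr : r.Prime)
    (hRE : R ≤ E) (hcard : Nat.card R = r ^ v) : IsCyclic R := by
  haveI : Fact r.Prime := ⟨hr⟩
  haveI := hZ
  have h1 : Nat.card (R.subgroupOf E) = r ^ v := by
    rw [← hcard]; exact Nat.card_congr (Subgroup.subgroupOfEquivOfLe hRE).toEquiv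
  haveI : IsCyclic (R.subgroupOf E) := IsPGroup.isCyclic_of_isZGroup (IsPGroup.of_card h1)
  exact isCyclic_of_surjective (Subgroup.subgroupOfEquivOfLe hRE)
    (Subgroup.subgroupOfEquivOfLe hRE).surjective

/-- A `q`-subgroup `X` of `M` which normalises (or is normalised by) a subgroup `Q ≤ M` of full
`q`-power order is contained in `Q`. -/
theorem le_of_card_sylow {M Q X : Subgroup G} [Finite M] {q : ℕ} (hq : q.Prime) (hQM : Q ≤ M)
    (hXM : X ≤ M) (hQ : Nat.card Q = q ^ (Nat.card M).factorization q) (hX : IsPGroup q X)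
    (hn : X ≤ Subgroup.normalizer (Q : Set G) ∨ Q ≤ Subgroup.normalizer (X : Set G)) :
    X ≤ Q := by
  haveI : Fact q.Prime := ⟨hq⟩
  have hQp : IsPGroup q Q := IsPGroup.of_card hQ
  have hsup : IsPGroup q (X ⊔ Q : Subgroup G) := by
    rcases hn with hn | hn
    · exact IsPGroup.to_sup_of_normal_right' hX hQp hn
    · exact IsPGroup.to_sup_of_normal_left' hX hQp hn
  have hle : X ⊔ Q ≤ M := sup_le hXM hQM
  haveI : Finite (X ⊔ Q : Subgroup G) := Finite.of_injective _ (Subgroup.inclusion_injective hle)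
  obtain ⟨n, hn'⟩ := IsPGroup.iff_card.1 hsup
  have hdvd : q ^ n ∣ Nat.card M := by rw [← hn']; exact Subgroup.card_dvd_of_le hle
  have hM0 : Nat.card M ≠ 0 := Nat.card_pos.ne'
  have hnle : n ≤ (Nat.card M).factorization q := (hq.pow_dvd_iff_le_factorization hM0).1 hdvd
  have hcardle : Nat.card (X ⊔ Q : Subgroup G) ≤ Nat.card Q := by
    rw [hn', hQ]; exact Nat.pow_le_pow_right hq.pos hnle
  haveI : Finite (X ⊔ Q : Subgroup G) := inferInstance
  have heq : Q = X ⊔ Q := Subgroup.eq_of_le_of_card_ge le_sup_right hcardle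
  exact le_sup_left.trans heq.ge

end gen

end Cfsg.Agent.Lib.Helper6.Zs
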