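import Mathlib
import Cfsg.Agent.Lib.Helper6.ZassOdd

set_option autoImplicit false

/-!
Zassenhaus groups with two point stabiliser `E` of odd order and no normal `q`-complements
(`q ∣ |E|`): `E` is cyclic, self centralising and inverted by every element interchanging the two
points.
-/

namespace Cfsg.Agent.Lib.Helper6.Zs

open Cfsg MulAction

section
variable {G Ω : Type*} [Group G] [Fintype G] [MulAction G Ω] [Fintype Ω]

set_option maxHeartbeats 1600000 in
theorem ZD.odd_two_stab (h : ZD G Ω) {a b : Ω} (hab : a ≠ b)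
    (hodd : Odd (Nat.card ↥(stabilizer G a ⊓ stabilizer G b : Subgroup G)))
    (hnil : ∀ q : ℕ, q.Prime → q ∣ Nat.card ↥(stabilizer G a ⊓ stabilizer G b : Subgroup G) →
      ¬ ∃ N : Subgroup G, N.Normal ∧ N.index = q ^ (Nat.card G).factorization q) :
    IsCyclic ↥(stabilizer G a ⊓ stabilizer G b : Subgroup G) ∧
    Subgroup.centralizer ((stabilizer G a ⊓ stabilizer G b : Subgroup G) : Set G)
      = stabilizer G a ⊓ stabilizer G b ∧
    ∀ s : G, s • a = b → s • b = a →
      ∀ x ∈ (stabilizer G a ⊓ stabilizer G b : Subgroup G), s * x * s⁻¹ = x⁻¹ := by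
  classical
  have hGcard0 := h.card_two_mul hab
  have hdn0 := h.card_two_dvd hab
  obtain ⟨K, hK⟩ := h.exists_kernel a
  have hZE0 := isZGroup_two_stab h hab hK hodd
  obtain ⟨E, hE⟩ : ∃ E : Subgroup G, E = stabilizer G a ⊓ stabilizer G b := ⟨_, rfl⟩
  rw [← hE] at hodd hnil hGcard0 hdn0 hZE0 ⊢
  have hZE : IsZGroup E := hZE0
  have hmE : ∀ x : G, x ∈ E ↔ (x • a = a ∧ x • b = b) := by
    intro x; rw [hE, Subgroup.mem_inf, mem_stabilizer_iff, mem_stabilizer_iff]
  have hn := h.card_gt
  -- E ≠ ⊥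
  have hEne : ∃ e ∈ E, e ≠ 1 := by
    obtain ⟨g, hg1, c, c', hcc', hgc, hgc'⟩ := h.fix2
    have hcard := h.card_two_eq hab hcc'
    by_contra hcon
    push Not at hcon
    have hEbot : E = ⊥ := by
      rw [eq_bot_iff]; intro x hx; rw [Subgroup.mem_bot]; exact hcon x hx
    have h1 : Nat.card (stabilizer G c ⊓ stabilizer G c' : Subgroup G) = 1 := by
      rw [hcard, ← hE, hEbot]; exact Subgroup.card_bot
    have h2 : (stabilizer G c ⊓ stabilizer G c' : Subgroup G) = ⊥ := Subgroup.card_eq_one.1 h1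
    have h3 : g ∈ (stabilizer G c ⊓ stabilizer G c' : Subgroup G) := by
      rw [Subgroup.mem_inf, mem_stabilizer_iff, mem_stabilizer_iff]; exact ⟨hgc, hgc'⟩
    rw [h2, Subgroup.mem_bot] at h3
    exact hg1 h3
  have hfixE : ∀ e ∈ E, e ≠ 1 → ∀ c : Ω, e • c = c → c = a ∨ c = b := by
    intro e he he1 c hc
    by_contra hcon
    push Not at hcon
    exact he1 (h.three e a b c hab hcon.2.symm hcon.1.symm ((hmE e).1 he).1 ((hmE e).1 he).2 hc)
  have hswapE : ∀ s : G, s • a = b → s • b = a → ∀ e ∈ E, s * e * s⁻¹ ∈ E := by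
    intro s hsa hsb e he
    have hsia : s⁻¹ • a = b := by rw [← hsb, inv_smul_smul]
    have hsib : s⁻¹ • b = a := by rw [← hsa, inv_smul_smul]
    obtain ⟨hea, heb⟩ := (hmE e).1 he
    rw [hmE]
    constructor
    · rw [mul_smul, mul_smul, hsia, heb, hsb]
    · rw [mul_smul, mul_smul, hsib, hea, hsa]
  have hswapMul : ∀ s s' : G, s • a = b → s • b = a → s' • a = b → s' • b = a →
      s * s'⁻¹ ∈ E := by
    intro s s' hsa hsb hsa' hsb'
    have h1 : s'⁻¹ • a = b := by rw [← hsb', inv_smul_smul]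
    have h2 : s'⁻¹ • b = a := by rw [← hsa', inv_smul_smul]
    rw [hmE]; constructor
    · rw [mul_smul, h1, hsb]
    · rw [mul_smul, h2, hsa]
  -- an involution interchanging a and b
  obtain ⟨t, hta, htb, htt⟩ : ∃ t : G, t • a = b ∧ t • b = a ∧ t * t = 1 := by
    obtain ⟨s, hsa, hsb⟩ := h.two a b b a hab hab.symm
    have hssE : s * s ∈ E := by
      rw [hmE]; constructor
      · rw [mul_smul, hsa, hsb]
      · rw [mul_smul, hsb, hsa]
    have hko : Odd (orderOf (s * s)) := Odd.of_dvd_nat hodd (Subgroup.orderOf_dvd_natCard E hssE)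
    obtain ⟨m, hm⟩ := hko
    have hpowE : ∀ i : ℕ, (s * s) ^ i ∈ E := fun i => E.pow_mem hssE i
    have ht' : s ^ (2 * m + 1) = (s * s) ^ m * s := by rw [pow_succ, pow_mul, pow_two]
    refine ⟨s ^ (2 * m + 1), ?_, ?_, ?_⟩
    · rw [ht', mul_smul, hsa]; exact ((hmE _).1 (hpowE m)).2
    · rw [ht', mul_smul, hsb]; exact ((hmE _).1 (hpowE m)).1
    · calc s ^ (2 * m + 1) * s ^ (2 * m + 1) = s ^ (2 * (2 * m + 1)) := by
            rw [← pow_add]; congr 1; omega
        _ = (s * s) ^ (2 * m + 1) := by rw [pow_mul, pow_two]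
        _ = 1 := by rw [← hm]; exact pow_orderOf_eq_one _
  have hti : t⁻¹ = t := inv_eq_of_mul_eq_one_right htt
  have htE : ∀ e ∈ E, t * e * t⁻¹ ∈ E := hswapE t hta htb
  have htt2 : ∀ y : G, t * (t * y * t⁻¹) * t⁻¹ = y := by
    intro y; rw [hti]
    calc t * (t * y * t) * t = (t * t) * y * (t * t) := by group
      _ = y := by rw [htt, one_mul, mul_one]
  have htN : ∀ X : Subgroup G, (∀ x ∈ X, t * x * t⁻¹ ∈ X) →
      t ∈ Subgroup.normalizer (X : Set G) := by
    intro X hX
    rw [Subgroup.mem_normalizer_iff]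
    intro x
    constructor
    · exact hX x
    · intro hx
      have := hX _ hx
      rwa [htt2] at this
  have hdpos : 0 < Nat.card E := Nat.card_pos
  have hprime_odd : ∀ q : ℕ, q.Prime → q ∣ Nat.card E → q ≠ 2 := by
    intro q _ hqd h2
    rw [h2] at hqd
    exact (Nat.not_even_iff_odd.2 hodd) (even_iff_two_dvd.2 hqd)
  -- claim 2
  have claim2 : ∀ r : ℕ, r.Prime → ∀ y ∈ E, orderOf y = r → t * y * t⁻¹ = y →
      ∃ Q : Subgroup G, Q ≤ E ∧ Q ≠ ⊥ ∧ Nat.card Q = r ^ (Nat.card E).factorization r ∧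
        ∀ x ∈ Q, t * x * t⁻¹ = x := by
    intro r hr y hyE hyo hty
    haveI : Fact r.Prime := ⟨hr⟩
    have hy1 : y ≠ 1 := by
      intro h1; rw [h1, orderOf_one] at hyo; exact hr.one_lt.ne' hyo.symm
    have hrd : r ∣ Nat.card E := by rw [← hyo]; exact Subgroup.orderOf_dvd_natCard E hyE
    have hr2 : r ≠ 2 := hprime_odd r hr hrd
    obtain ⟨M, hM⟩ : ∃ M : Subgroup G, M = E ⊓ Subgroup.centralizer ({y} : Set G) := ⟨_, rfl⟩
    have hmM : ∀ x : G, x ∈ M ↔ (x ∈ E ∧ x * y = y * x) := by
      intro x; rw [hM, Subgroup.mem_inf, Subgroup.mem_centralizer_singleton_iff]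
    have hME : M ≤ E := by rw [hM]; exact inf_le_left
    have hyM : y ∈ M := (hmM y).2 ⟨hyE, rfl⟩
    have hMt : ∀ x ∈ M, t * x * t⁻¹ ∈ M := by
      intro x hx
      obtain ⟨hxE, hxy⟩ := (hmM x).1 hx
      rw [hmM]
      refine ⟨htE x hxE, ?_⟩
      calc t * x * t⁻¹ * y = t * x * t⁻¹ * (t * y * t⁻¹) := by rw [hty]
        _ = t * (x * y) * t⁻¹ := by group
        _ = t * (y * x) * t⁻¹ := by rw [hxy]
        _ = (t * y * t⁻¹) * (t * x * t⁻¹) := by group
        _ = y * (t * x * t⁻¹) := by rw [hty]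
    have hModd : Odd (Nat.card M) := Odd.of_dvd_nat hodd (Subgroup.card_dvd_of_le hME)
    obtain ⟨Q, hQM, hQcardM, hQt, -⟩ :=
      Cfsg.Agent.Lib.Lead.KleinInvariantSylow.exists_invariant_sylow M hModd r t t
        (htN M hMt) (htN M hMt) (fun g _ => htt2 g) (fun g _ => htt2 g) (fun g _ => rfl)
    have hfac : (Nat.card M).factorization r = (Nat.card E).factorization r := by
      apply le_antisymm
      · exact (Nat.factorization_le_iff_dvd (Nat.card_pos.ne') (Nat.card_pos.ne')).2
          (Subgroup.card_dvd_of_le hME) r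
      · have hzp : IsPGroup r (Subgroup.zpowers (⟨y, hyE⟩ : E)) := by
          apply IsPGroup.of_card (n := 1)
          rw [Nat.card_zpowers, pow_one, ← Subgroup.orderOf_coe]; exact hyo
        obtain ⟨P, hP⟩ := hzp.exists_le_sylow
        haveI := hZE
        haveI : IsCyclic (P : Subgroup E) := inferInstance
        have hyP : (⟨y, hyE⟩ : E) ∈ (P : Subgroup E) := hP (Subgroup.mem_zpowers _)
        have hPM : (P : Subgroup E).map E.subtype ≤ M := by
          rintro _ ⟨z, hz, rfl⟩
          rw [hmM]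
          refine ⟨z.2, ?_⟩
          have h1 := cyc_comm (⟨z, hz⟩ : (P : Subgroup E)) ⟨⟨y, hyE⟩, hyP⟩
          have h2 := congrArg (fun w : (P : Subgroup E) => ((w : E) : G)) h1
          exact h2
        have hcardP : Nat.card ((P : Subgroup E).map E.subtype)
            = r ^ (Nat.card E).factorization r := by
          rw [Subgroup.card_map_of_injective E.subtype_injective]
          exact P.card_eq_multiplicity
        have hdvd : r ^ (Nat.card E).factorization r ∣ Nat.card M := by
          rw [← hcardP]; exact Subgroup.card_dvd_of_le hPM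
        exact (hr.pow_dvd_iff_le_factorization Nat.card_pos.ne').1 hdvd
    have hQcard : Nat.card Q = r ^ (Nat.card E).factorization r := by rw [← hfac]; exact hQcardM
    have hQE : Q ≤ E := hQM.trans hME
    have hyQ : y ∈ Q := by
      have hX : IsPGroup r (Subgroup.zpowers y) := by
        apply IsPGroup.of_card (n := 1); rw [Nat.card_zpowers, pow_one]; exact hyo
      have hXM : Subgroup.zpowers y ≤ M := by rw [Subgroup.zpowers_le]; exact hyM
      have hn : Q ≤ Subgroup.normalizer ((Subgroup.zpowers y : Subgroup G) : Set G) := by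
        intro x hx
        have hxy := ((hmM x).1 (hQM hx)).2
        apply Subgroup.centralizer_le_normalizer
        rw [Subgroup.mem_centralizer_iff]
        intro z hz
        obtain ⟨i, rfl⟩ := Subgroup.mem_zpowers_iff.1 hz
        exact ((Commute.zpow_right (show Commute x y from hxy) i).eq).symm
      exact le_of_card_sylow hr hQM hXM hQcardM hX (Or.inr hn) (Subgroup.mem_zpowers y)
    haveI : IsCyclic Q := isCyclic_of_le_isZGroup hZE hr hQE hQcard
    rcases cyc_dichotomy Q hr hr2 hQcard t hQt (fun g _ => htt2 g) with hc | hi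
    · refine ⟨Q, hQE, ?_, hQcard, hc⟩
      intro hbot; rw [hbot, Subgroup.mem_bot] at hyQ; exact hy1 hyQ
    · exfalso
      have h1 := hi y hyQ
      rw [hty] at h1
      have h2 : y ^ 2 = 1 := by
        calc y ^ 2 = y * y := pow_two y
          _ = y * y⁻¹ := by rw [← h1]
          _ = 1 := mul_inv_cancel y
      have h3 : r ∣ 2 := by rw [← hyo]; exact orderOf_dvd_of_pow_eq_one h2
      have h4 : r ≤ 2 := Nat.le_of_dvd (by norm_num) h3
      exact hr2 (le_antisymm h4 hr.two_le)
  -- claim 1
  have claim1 : ∀ q : ℕ, q.Prime →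
      (∃ Q : Subgroup G, Q ≤ E ∧ Q ≠ ⊥ ∧ Nat.card Q = q ^ (Nat.card E).factorization q ∧
        ∀ x ∈ Q, t * x * t⁻¹ = x) →
      ∃ r : ℕ, r < q ∧ r.Prime ∧ ∃ y ∈ E, orderOf y = r ∧ t * y * t⁻¹ = y := by
    rintro q hq ⟨Q, hQE, hQne, hQcard, hQt⟩
    haveI : Fact q.Prime := ⟨hq⟩
    have hv : (Nat.card E).factorization q ≠ 0 := by
      intro h0; rw [h0, pow_zero] at hQcard
      exact hQne (Subgroup.card_eq_one.1 hQcard)
    have hqd : q ∣ Nat.card E := Nat.dvd_of_factorization_pos hv
    have hq2 : q ≠ 2 := hprime_odd q hq hqd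
    have hqn : ¬ q ∣ (Fintype.card Ω * Fintype.card Ω - Fintype.card Ω) := by
      intro hdiv
      have h1 : Fintype.card Ω * Fintype.card Ω - Fintype.card Ω
          = Fintype.card Ω * (Fintype.card Ω - 1) := by
        rw [Nat.mul_sub, mul_one]
      rw [h1] at hdiv
      have hq2' : q ∣ Fintype.card Ω - 2 := hqd.trans hdn0
      rcases (Nat.Prime.dvd_mul hq).1 hdiv with h2 | h2
      · have : q ∣ 2 := by
          have h3 : Fintype.card Ω = (Fintype.card Ω - 2) + 2 := by omega
          rw [h3] at h2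
          exact (Nat.dvd_add_right hq2').1 h2
        exact hq2 (le_antisymm (Nat.le_of_dvd (by norm_num) this) hq.two_le)
      · have : q ∣ 1 := by
          have h3 : Fintype.card Ω - 1 = (Fintype.card Ω - 2) + 1 := by omega
          rw [h3] at h2
          exact (Nat.dvd_add_right hq2').1 h2
        exact hq.one_lt.ne' (Nat.dvd_one.1 this)
    have hfacG : (Nat.card G).factorization q = (Nat.card E).factorization q := by
      rw [← hGcard0, Nat.factorization_mul hdpos.ne' (by intro h0; exact hqn (h0 ▸ dvd_zero q)),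
        Finsupp.add_apply, Nat.factorization_eq_zero_of_not_dvd hqn, add_zero]
    have hQcardG : Nat.card Q = q ^ (Nat.card G).factorization q := by rw [hfacG]; exact hQcard
    obtain ⟨P, hPQ⟩ : ∃ P : Sylow q G, (P : Subgroup G) = Q :=
      ⟨Sylow.ofCard Q hQcardG, Sylow.coe_ofCard Q hQcardG⟩
    have hnotle : ¬ (Subgroup.normalizer ((P : Subgroup G) : Set G)
        ≤ Subgroup.centralizer ((P : Subgroup G) : Set G)) := by
      intro hle
      have hcomp := MonoidHom.ker_transferSylow_isComplement' P hle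
      apply hnil q hq hqd
      refine ⟨(MonoidHom.transferSylow P hle).ker, inferInstance, ?_⟩
      rw [hcomp.symm.index_eq_card, hPQ, hQcardG]
    rw [hPQ] at hnotle
    obtain ⟨g, hgN, hgC⟩ := SetLike.not_le_iff_exists.1 hnotle
    obtain ⟨x0, hx0Q, hx01⟩ : ∃ x ∈ Q, x ≠ 1 := by
      by_contra hcon; push Not at hcon
      apply hQne; rw [eq_bot_iff]; intro x hx; rw [Subgroup.mem_bot]; exact hcon x hx
    have htQN : t ∈ Subgroup.normalizer (Q : Set G) :=
      htN Q (fun x hx => by rw [hQt x hx]; exact hx)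
    have htQC : t ∈ Subgroup.centralizer (Q : Set G) := by
      rw [Subgroup.mem_centralizer_iff]; intro x hx
      have := hQt x hx
      calc x * t = (t * x * t⁻¹) * t := by rw [this]
        _ = t * x := by group
    have hN1 : ∀ g ∈ Subgroup.normalizer (Q : Set G), g ∈ E ∨ (g • a = b ∧ g • b = a) := by
      intro g hg
      have hgx : g * x0 * g⁻¹ ∈ Q := (Subgroup.mem_normalizer_iff.1 hg x0).1 hx0Q
      have hgxE := hQE hgx
      have hgx1 : g * x0 * g⁻¹ ≠ 1 := by
        intro h1
        apply hx01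
        have : x0 = g⁻¹ * (g * x0 * g⁻¹) * g := by group
        rw [this, h1]; group
      have hx0E := (hmE x0).1 (hQE hx0Q)
      have hfa : (g * x0 * g⁻¹) • (g • a) = g • a := by
        rw [mul_smul, mul_smul, inv_smul_smul, hx0E.1]
      have hfb : (g * x0 * g⁻¹) • (g • b) = g • b := by
        rw [mul_smul, mul_smul, inv_smul_smul, hx0E.2]
      have h1 := hfixE _ hgxE hgx1 _ hfa
      have h2 := hfixE _ hgxE hgx1 _ hfb
      have hne : g • a ≠ g • b := fun h' => hab (smul_left_cancel g h')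
      rcases h1 with h1 | h1 <;> rcases h2 with h2 | h2
      · exact absurd (h1.trans h2.symm) hne
      · left; exact (hmE g).2 ⟨h1, h2⟩
      · right; exact ⟨h1, h2⟩
      · exact absurd (h1.trans h2.symm) hne
    obtain ⟨g', hg'E, hg'N, hg'C⟩ : ∃ g' ∈ E, g' ∈ Subgroup.normalizer (Q : Set G) ∧
        g' ∉ Subgroup.centralizer (Q : Set G) := by
      rcases hN1 g hgN with hgE | ⟨hga, hgb⟩
      · exact ⟨g, hgE, hgN, hgC⟩
      · refine ⟨g * t⁻¹, hswapMul g t hga hgb hta htb,
          Subgroup.mul_mem _ hgN (Subgroup.inv_mem _ htQN), ?_⟩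
        intro hc
        apply hgC
        have : g = (g * t⁻¹) * t := by group
        rw [this]
        exact Subgroup.mul_mem _ hc htQC
    obtain ⟨M, hM⟩ : ∃ M : Subgroup G, M = E ⊓ Subgroup.normalizer (Q : Set G) := ⟨_, rfl⟩
    have hME : M ≤ E := by rw [hM]; exact inf_le_left
    have hMN : M ≤ Subgroup.normalizer (Q : Set G) := by rw [hM]; exact inf_le_right
    have hMt : ∀ x ∈ M, t * x * t⁻¹ ∈ M := by
      intro x hx
      rw [hM, Subgroup.mem_inf] at hx ⊢
      exact ⟨htE x hx.1,
        Subgroup.mul_mem _ (Subgroup.mul_mem _ htQN hx.2) (Subgroup.inv_mem _ htQN)⟩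
    have hModd : Odd (Nat.card M) := Odd.of_dvd_nat hodd (Subgroup.card_dvd_of_le hME)
    have hg'M : g' ∈ M := by rw [hM, Subgroup.mem_inf]; exact ⟨hg'E, hg'N⟩
    have hQM : Q ≤ M := by rw [hM]; exact le_inf hQE Subgroup.le_normalizer
    obtain ⟨r, hr, R, hRM, hRcard, hRt, hRC⟩ : ∃ r : ℕ, r.Prime ∧ ∃ R : Subgroup G, R ≤ M ∧
        Nat.card R = r ^ (Nat.card M).factorization r ∧ t ∈ Subgroup.normalizer (R : Set G) ∧
        ¬ R ≤ Subgroup.centralizer (Q : Set G) := by
      by_contra hcon
      push Not at hcon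
      have hdvd : Nat.card M ∣ Nat.card (M ⊓ Subgroup.centralizer (Q : Set G) : Subgroup G) := by
        rw [Nat.dvd_iff_prime_pow_dvd_dvd]
        intro p k hp hpk
        haveI : Fact p.Prime := ⟨hp⟩
        obtain ⟨R, hRM, hRcard, hRt, -⟩ :=
          Cfsg.Agent.Lib.Lead.KleinInvariantSylow.exists_invariant_sylow M hModd p t t
            (htN M hMt) (htN M hMt) (fun g _ => htt2 g) (fun g _ => htt2 g) (fun g _ => rfl)
        have hRC := hcon p hp R hRM hRcard hRt
        have h1 : Nat.card R ∣ Nat.card (M ⊓ Subgroup.centralizer (Q : Set G) : Subgroup G) :=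
          Subgroup.card_dvd_of_le (le_inf hRM hRC)
        have h2 : k ≤ (Nat.card M).factorization p :=
          (hp.pow_dvd_iff_le_factorization Nat.card_pos.ne').1 hpk
        rw [hRcard] at h1
        exact (pow_dvd_pow p h2).trans h1
      have hle : Nat.card M ≤ Nat.card (M ⊓ Subgroup.centralizer (Q : Set G) : Subgroup G) :=
        Nat.le_of_dvd Nat.card_pos hdvd
      have heq : M ⊓ Subgroup.centralizer (Q : Set G) = M :=
        Subgroup.eq_of_le_of_card_ge inf_le_left hle
      apply hg'C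
      have : g' ∈ M ⊓ Subgroup.centralizer (Q : Set G) := by rw [heq]; exact hg'M
      exact (Subgroup.mem_inf.1 this).2
    haveI : Fact r.Prime := ⟨hr⟩
    have hRE : R ≤ E := hRM.trans hME
    haveI hQcyc : IsCyclic Q := isCyclic_of_le_isZGroup hZE hq hQE hQcard
    have hRne : R ≠ ⊥ := by intro hb; apply hRC; rw [hb]; exact bot_le
    have hvR : (Nat.card M).factorization r ≠ 0 := by
      intro h0; rw [h0, pow_zero] at hRcard; exact hRne (Subgroup.card_eq_one.1 hRcard)
    have hrq : r ≠ q := by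
      intro hrq
      apply hRC
      have hQcardM : Nat.card Q = r ^ (Nat.card M).factorization r := by
        have h1 : (Nat.card M).factorization r ≤ (Nat.card E).factorization r :=
          (Nat.factorization_le_iff_dvd Nat.card_pos.ne' Nat.card_pos.ne').2
            (Subgroup.card_dvd_of_le hME) r
        have h2 : (Nat.card E).factorization r ≤ (Nat.card M).factorization r := by
          apply (hr.pow_dvd_iff_le_factorization Nat.card_pos.ne').1
          rw [hrq, ← hQcard]; exact Subgroup.card_dvd_of_le hQM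
        rw [hQcard, ← hrq, le_antisymm h1 h2]
      have hRQ : R ≤ Q := le_of_card_sylow hr hQM hRM hQcardM (IsPGroup.of_card hRcard)
        (Or.inl (hRM.trans hMN))
      intro x hx
      rw [Subgroup.mem_centralizer_iff]
      intro z hz
      have := cyc_comm (⟨z, hz⟩ : Q) ⟨x, hRQ hx⟩
      exact congrArg (fun w : Q => (w : G)) this
    have hr2 : r ≠ 2 := by
      apply hprime_odd r hr
      exact (Nat.dvd_of_factorization_pos hvR).trans (Subgroup.card_dvd_of_le hME)
    haveI : IsCyclic R := isCyclic_of_le_isZGroup hZE hr hRE hRcard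
    obtain ⟨g1, hg1R, hg1C⟩ := SetLike.not_le_iff_exists.1 hRC
    have hg1N : g1 ∈ Subgroup.normalizer (Q : Set G) := hMN (hRM hg1R)
    have hRcen : ∀ y ∈ R, t * y * t⁻¹ = y := by
      rcases cyc_dichotomy R hr hr2 hRcard t hRt (fun g _ => htt2 g) with hc | hi
      · exact hc
      · exfalso
        apply hg1C
        have hsq : g1 * g1 ∈ Subgroup.centralizer (Q : Set G) := by
          rw [Subgroup.mem_centralizer_iff]
          intro x hx
          have hgx : g1 * x * g1⁻¹ ∈ Q := (Subgroup.mem_normalizer_iff.1 hg1N x).1 hx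
          have h1 := hQt _ hgx
          have h2 : t * (g1 * x * g1⁻¹) * t⁻¹
              = (t * g1 * t⁻¹) * (t * x * t⁻¹) * (t * g1 * t⁻¹)⁻¹ := by group
          rw [h2, hi g1 hg1R, hQt x hx, inv_inv] at h1
          calc x * (g1 * g1) = g1 * (g1⁻¹ * x * g1) * g1 := by group
            _ = g1 * (g1 * x * g1⁻¹) * g1 := by rw [h1]
            _ = g1 * g1 * x := by group
        have hodd1 : Odd (orderOf g1) :=
          Odd.of_dvd_nat hodd (Subgroup.orderOf_dvd_natCard E (hRE hg1R))
        obtain ⟨m, hm⟩ := hodd1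
        have : g1 = (g1 * g1) ^ (m + 1) := by
          have h3 : g1 ^ (2 * m + 1) = 1 := by rw [← hm]; exact pow_orderOf_eq_one g1
          calc g1 = g1 ^ (2 * m + 1) * g1 := by rw [h3, one_mul]
            _ = g1 ^ (2 * (m + 1)) := by rw [← pow_succ]; congr 1
            _ = (g1 * g1) ^ (m + 1) := by rw [pow_mul, pow_two]
        rw [this]
        exact Subgroup.pow_mem _ hsq _
    have hrR : r ∣ Nat.card R := by rw [hRcard]; exact dvd_pow_self r hvR
    obtain ⟨y, hy⟩ := exists_prime_orderOf_dvd_card' r hrR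
    have hrlt : r < q := by
      let ψ := Subgroup.normalizerMonoidHom Q
      let g1' : Subgroup.normalizer (Q : Set G) := ⟨g1, hg1N⟩
      have hψ1 : ψ g1' ≠ 1 := by
        intro h1
        apply hg1C
        rw [Subgroup.mem_centralizer_iff]
        intro x hx
        have h2 : (ψ g1') ⟨x, hx⟩ = ⟨x, hx⟩ := by rw [h1]; rfl
        have h3 : g1 * x * g1⁻¹ = x := congrArg Subtype.val h2
        calc x * g1 = (g1 * x * g1⁻¹) * g1 := by rw [h3]
          _ = g1 * x := by group
      have ho1 : orderOf (ψ g1') ∣ orderOf g1' := orderOf_map_dvd ψ g1'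
      have ho2 : orderOf g1' = orderOf g1 := (Subgroup.orderOf_coe g1').symm
      have ho3 : orderOf g1 ∣ r ^ (Nat.card M).factorization r := by
        rw [← hRcard]; exact Subgroup.orderOf_dvd_natCard R hg1R
      have ho4 : orderOf (ψ g1') ∣ r ^ (Nat.card M).factorization r := by
        rw [ho2] at ho1; exact ho1.trans ho3
      obtain ⟨i, -, hi⟩ := (Nat.dvd_prime_pow hr).1 ho4
      have hi0 : i ≠ 0 := by
        intro h0; rw [h0, pow_zero] at hi; exact hψ1 (orderOf_eq_one_iff.1 hi)
      have hrdvd : r ∣ orderOf (ψ g1') := by rw [hi]; exact dvd_pow_self r hi0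
      have hcardAut : Nat.card (MulAut Q) = (Nat.card Q).totient := IsCyclic.card_mulAut Q
      rw [hQcard, Nat.totient_prime_pow hq (Nat.pos_of_ne_zero hv)] at hcardAut
      have h5 : r ∣ q ^ ((Nat.card E).factorization q - 1) * (q - 1) := by
        rw [← hcardAut]; exact hrdvd.trans (orderOf_dvd_natCard _)
      rcases (Nat.Prime.dvd_mul hr).1 h5 with h6 | h6
      · exfalso
        have h7 := hr.dvd_of_dvd_pow h6
        exact hrq ((Nat.prime_dvd_prime_iff_eq hr hq).1 h7)
      · have h8 : r ≤ q - 1 := Nat.le_of_dvd (by have := hq.two_le; omega) h6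
        have := hq.two_le; omega
    exact ⟨r, hrlt, hr, (y : G), hRE y.2, by rw [Subgroup.orderOf_coe]; exact hy, hRcen y y.2⟩
  have noA : ∀ q : ℕ, q.Prime → ¬ ∃ y ∈ E, orderOf y = q ∧ t * y * t⁻¹ = y := by
    intro q
    induction q using Nat.strong_induction_on with
    | _ q ih =>
      rintro hq ⟨y, hyE, hyo, hyt⟩
      obtain ⟨r, hrq, hr, hex⟩ := claim1 q hq (claim2 q hq y hyE hyo hyt)
      exact ih r hrq hr hex
  have hfpf : ∀ e ∈ E, t * e * t⁻¹ = e → e = 1 := by
    intro e he hte
    by_contra he1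
    have ho : orderOf e ≠ 1 := fun h1 => he1 (orderOf_eq_one_iff.1 h1)
    obtain ⟨r, hr, hrd⟩ := Nat.exists_prime_and_dvd ho
    have ho0 : orderOf e ≠ 0 := (orderOf_pos_iff.2 (isOfFinOrder_of_finite e)).ne'
    have hy := orderOf_pow_orderOf_div ho0 hrd
    apply noA r hr
    refine ⟨e ^ (orderOf e / r), E.pow_mem he _, hy, ?_⟩
    rw [← conj_pow, hte]
  have hinv : ∀ e ∈ E, t * e * t⁻¹ = e⁻¹ :=
    Cfsg.Agent.Lib.Lead.KleinInvariantSylow.inverts_of_fpf E t (htN E htE)
      (fun g _ => htt2 g) hfpf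
  have hcomm : ∀ e ∈ E, ∀ f ∈ E, e * f = f * e := by
    intro e he f hf
    have h1 := hinv (e * f) (E.mul_mem he hf)
    have h2 : t * (e * f) * t⁻¹ = (t * e * t⁻¹) * (t * f * t⁻¹) := by group
    rw [h2, hinv e he, hinv f hf, mul_inv_rev] at h1
    have h3 := congrArg Inv.inv h1
    simp only [mul_inv_rev, inv_inv] at h3
    exact h3.symm
  have hcyc : IsCyclic E := by
    haveI := hZE
    haveI : Group.IsNilpotent E := by
      letI : CommGroup E :=
        { (inferInstance : Group E) with
          mul_comm := fun x y => Subtype.ext (hcomm x x.2 y y.2) }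
      exact CommGroup.isNilpotent
    infer_instance
  have hinvs : ∀ s : G, s • a = b → s • b = a → ∀ x ∈ E, s * x * s⁻¹ = x⁻¹ := by
    intro s hsa hsb x hx
    have hst : s * t⁻¹ ∈ E := hswapMul s t hsa hsb hta htb
    have h1 : s * x * s⁻¹ = (s * t⁻¹) * (t * x * t⁻¹) * (s * t⁻¹)⁻¹ := by group
    rw [h1, hinv x hx]
    have hxi : x⁻¹ ∈ E := E.inv_mem hx
    have h2 := hcomm (s * t⁻¹) hst x⁻¹ hxi
    rw [h2, mul_inv_cancel_right]
  have hcent : Subgroup.centralizer (E : Set G) = E := by
    obtain ⟨e0, he0E, he01⟩ := hEne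
    apply le_antisymm
    · intro g hg
      rw [Subgroup.mem_centralizer_iff] at hg
      have hc := hg e0 he0E
      have he0 := (hmE e0).1 he0E
      have hfa : e0 • (g • a) = g • a := by rw [← mul_smul, hc, mul_smul, he0.1]
      have hfb : e0 • (g • b) = g • b := by rw [← mul_smul, hc, mul_smul, he0.2]
      have h1 := hfixE e0 he0E he01 _ hfa
      have h2 := hfixE e0 he0E he01 _ hfb
      have hne : g • a ≠ g • b := fun h' => hab (smul_left_cancel g h')
      rcases h1 with h1 | h1 <;> rcases h2 with h2 | h2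
      · exact absurd (h1.trans h2.symm) hne
      · exact (hmE g).2 ⟨h1, h2⟩
      · exfalso
        have hgi := hinvs g h1 h2 e0 he0E
        have hge : g * e0 * g⁻¹ = e0 := by rw [← hc]; group
        rw [hge] at hgi
        have hsq : e0 ^ 2 = 1 := by
          calc e0 ^ 2 = e0 * e0 := pow_two e0
            _ = e0 * e0⁻¹ := by rw [← hgi]
            _ = 1 := mul_inv_cancel e0
        have hodd0 : Odd (orderOf e0) :=
          Odd.of_dvd_nat hodd (Subgroup.orderOf_dvd_natCard E he0E)
        have hdvd2 : orderOf e0 ∣ 2 := orderOf_dvd_of_pow_eq_one hsq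
        have : orderOf e0 = 1 := by
          rcases (Nat.dvd_prime Nat.prime_two).1 hdvd2 with h | h
          · exact h
          · exfalso; rw [h] at hodd0; exact (by decide : ¬ Odd 2) hodd0
        exact he01 (orderOf_eq_one_iff.1 this)
      · exact absurd (h1.trans h2.symm) hne
    · intro g hg
      rw [Subgroup.mem_centralizer_iff]
      intro e he
      exact hcomm e he g hg
  exact ⟨hcyc, hcent, hinvs⟩

end

end Cfsg.Agent.Lib.Helper6.Zs
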