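import Mathlib
import Cfsg.Agent.Lib.Helper6.ZassPP

set_option autoImplicit false

/-!
Zassenhaus groups with two point stabiliser of even order: the kernel is abelian and
`h - 1 ≤ 2 e` (counting involutions).
-/

namespace Cfsg.Agent.Lib.Helper6.Zs

open Cfsg MulAction

section
variable {G Ω : Type*} [Group G] [Fintype G] [MulAction G Ω] [Fintype Ω]

theorem ZD.even_case (h : ZD G Ω) {a b : Ω} (hab : a ≠ b) {K : Subgroup G} (hK : KD a K)
    (heven : Even (Nat.card ↥(stabilizer G a ⊓ stabilizer G b : Subgroup G))) :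
    (∀ x ∈ K, ∀ y ∈ K, x * y = y * x) ∧
      Fintype.card Ω - 2 ≤ 2 * Nat.card ↥(stabilizer G a ⊓ stabilizer G b : Subgroup G) := by
  classical
  have hba := hab.symm
  have hn := h.card_gt
  have hsemi := fun {g : G} hg {k : G} hk hk1 hgk =>
    hK.semiregular h hab (g := g) hg (k := k) hk hk1 hgk
  obtain ⟨E, hE⟩ : ∃ E : Subgroup G, E = stabilizer G a ⊓ stabilizer G b := ⟨_, rfl⟩
  rw [← hE] at heven hsemi ⊢
  have hmE : ∀ x : G, x ∈ E ↔ (x • a = a ∧ x • b = b) := by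
    intro x; rw [hE, Subgroup.mem_inf, mem_stabilizer_iff, mem_stabilizer_iff]
  haveI : Fact (Nat.Prime 2) := ⟨Nat.prime_two⟩
  obtain ⟨z0, hz0⟩ := exists_prime_orderOf_dvd_card' 2 (even_iff_two_dvd.1 heven)
  obtain ⟨z, hz⟩ : ∃ z : G, z = (z0 : G) := ⟨_, rfl⟩
  have hzo : orderOf z = 2 := by rw [hz, Subgroup.orderOf_coe]; exact hz0
  have hzE : z ∈ E := by rw [hz]; exact z0.2
  have hzz : z * z = 1 := mul_self_of_orderOf_two hzo
  have hz1 : z ≠ 1 := ne_one_of_orderOf_two hzo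
  have hzi : z⁻¹ = z := inv_of_orderOf_two hzo
  obtain ⟨hza, hzb⟩ := (hmE z).1 hzE
  have hzN : z ∈ Subgroup.normalizer (K : Set G) := by
    rw [hK.normalizer_eq h hba, mem_stabilizer_iff]; exact hza
  have hz2 : ∀ y : G, z * (z * y * z⁻¹) * z⁻¹ = y := by
    intro y; rw [hzi]
    calc z * (z * y * z) * z = (z * z) * y * (z * z) := by group
      _ = y := by rw [hzz, one_mul, mul_one]
  have hfpf : ∀ k ∈ K, z * k * z⁻¹ = k → k = 1 := by
    intro k hk hzk
    by_contra hk1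
    exact hz1 (hsemi hzE hk hk1 hzk)
  have hinv : ∀ k ∈ K, z * k * z⁻¹ = k⁻¹ :=
    Cfsg.Agent.Lib.Lead.KleinInvariantSylow.inverts_of_fpf K z hzN (fun g _ => hz2 g) hfpf
  have hcomm : ∀ x ∈ K, ∀ y ∈ K, x * y = y * x := by
    intro e he f hf
    have h1 := hinv (e * f) (K.mul_mem he hf)
    have h2 : z * (e * f) * z⁻¹ = (z * e * z⁻¹) * (z * f * z⁻¹) := by group
    rw [h2, hinv e he, hinv f hf, mul_inv_rev] at h1
    have h3 := congrArg Inv.inv h1
    simp only [mul_inv_rev, inv_inv] at h3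
    exact h3.symm
  refine ⟨hcomm, ?_⟩
  have hB0 : ∀ x y : Ω, x ≠ a → y ≠ a → ∃ s : G, s * s = 1 ∧ s • a = a ∧ s • x = y := by
    intro x y hx hy
    have hzx : z • x ≠ a := by
      intro h'; apply hx
      have : x = z⁻¹ • a := by rw [← h', inv_smul_smul]
      rw [this, hzi, hza]
    obtain ⟨u, huK, hu⟩ := hK.surj hzx hy
    refine ⟨u * z, ?_, ?_, ?_⟩
    · have h1 := hinv u huK
      calc u * z * (u * z) = u * (z * u * z⁻¹) * (z * z) := by group
        _ = 1 := by rw [h1, hzz]; group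
    · rw [mul_smul, hza, hK.fixa huK]
    · rw [mul_smul, hu]
  have hB : ∀ c x y : Ω, x ≠ c → y ≠ c → ∃ s : G, s * s = 1 ∧ s • c = c ∧ s • x = y := by
    intro c x y hx hy
    obtain ⟨g, hg⟩ := h.trans a c
    have hx' : g⁻¹ • x ≠ a := by
      intro h'; apply hx; rw [← hg, ← h', smul_inv_smul]
    have hy' : g⁻¹ • y ≠ a := by
      intro h'; apply hy; rw [← hg, ← h', smul_inv_smul]
    obtain ⟨s, hss, hsa, hsx⟩ := hB0 _ _ hx' hy'
    refine ⟨g * s * g⁻¹, ?_, ?_, ?_⟩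
    · calc g * s * g⁻¹ * (g * s * g⁻¹) = g * (s * s) * g⁻¹ := by group
        _ = 1 := by rw [hss]; group
    · rw [mul_smul, mul_smul, ← hg, inv_smul_smul, hsa]
    · rw [mul_smul, mul_smul, hsx, smul_inv_smul]
  have hex : ∀ c : Ω, ∃ s : G, c ≠ a → c ≠ b → (s * s = 1 ∧ s • c = c ∧ s • a = b) := by
    intro c
    by_cases hca : c = a
    · exact ⟨1, fun h' => absurd hca h'⟩
    by_cases hcb : c = b
    · exact ⟨1, fun _ h' => absurd hcb h'⟩
    obtain ⟨s, h1, h2, h3⟩ := hB c a b (Ne.symm hca) (Ne.symm hcb)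
    exact ⟨s, fun _ _ => ⟨h1, h2, h3⟩⟩
  choose σ hσ using hex
  obtain ⟨t0, ht0a, ht0b⟩ := h.two a b b a hab hba
  obtain ⟨C, hC⟩ : ∃ C : Finset Ω, C = (Finset.univ.erase a).erase b := ⟨_, rfl⟩
  have hmC : ∀ c : Ω, c ∈ C ↔ (c ≠ b ∧ c ≠ a) := by
    intro c; rw [hC]; simp only [Finset.mem_erase, Finset.mem_univ, and_true]
  have hCcard : C.card = Fintype.card Ω - 2 := by
    rw [hC, Finset.card_erase_of_mem (Finset.mem_erase.2 ⟨hba, Finset.mem_univ b⟩),
      Finset.card_erase_of_mem (Finset.mem_univ a), Finset.card_univ]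
    omega
  obtain ⟨f, hf⟩ : ∃ f : Ω → G, ∀ c, f c = t0⁻¹ * σ c := ⟨_, fun _ => rfl⟩
  have hfE : ∀ c ∈ C, f c ∈ E := by
    intro c hc
    obtain ⟨hcb, hca⟩ := (hmC c).1 hc
    obtain ⟨h1, h2, h3⟩ := hσ c hca hcb
    have h4 : σ c • b = a := by
      have : σ c • (σ c • a) = a := by rw [← mul_smul, h1, one_smul]
      rwa [h3] at this
    have ht0ia : t0⁻¹ • a = b := by rw [← ht0b, inv_smul_smul]
    have ht0ib : t0⁻¹ • b = a := by rw [← ht0a, inv_smul_smul]
    rw [hmE, hf]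
    constructor
    · rw [mul_smul, h3, ht0ib]
    · rw [mul_smul, h4, ht0ia]
  have hfib : ∀ g ∈ C.image f, (C.filter (fun c => f c = g)).card ≤ 2 := by
    intro g _
    by_contra hcon
    push Not at hcon
    obtain ⟨c1, c2, c3, hc1, hc2, hc3, h12, h13, h23⟩ := Finset.two_lt_card_iff.1 hcon
    rw [Finset.mem_filter] at hc1 hc2 hc3
    have e12 : σ c1 = σ c2 := by
      have := hc1.2.trans hc2.2.symm
      rw [hf, hf] at this
      exact mul_left_cancel this
    have e13 : σ c1 = σ c3 := by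
      have := hc1.2.trans hc3.2.symm
      rw [hf, hf] at this
      exact mul_left_cancel this
    obtain ⟨hc1b, hc1a⟩ := (hmC c1).1 hc1.1
    obtain ⟨hc2b, hc2a⟩ := (hmC c2).1 hc2.1
    obtain ⟨hc3b, hc3a⟩ := (hmC c3).1 hc3.1
    have hf1 := (hσ c1 hc1a hc1b)
    have hf2 := (hσ c2 hc2a hc2b).2.1
    have hf3 := (hσ c3 hc3a hc3b).2.1
    rw [← e12] at hf2
    rw [← e13] at hf3
    have hone := h.three (σ c1) c1 c2 c3 h12 h23 h13 hf1.2.1 hf2 hf3
    have := hf1.2.2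
    rw [hone, one_smul] at this
    exact hab this
  have h1 := Finset.card_le_mul_card_image C 2 hfib
  have h2 : (C.image f).card ≤ Nat.card E := by
    have hsub : C.image f ⊆ (E : Set G).toFinset := by
      intro g hg
      obtain ⟨c, hc, rfl⟩ := Finset.mem_image.1 hg
      rw [Set.mem_toFinset]; exact hfE c hc
    have := Finset.card_le_card hsub
    rwa [← Nat.card_eq_card_toFinset] at this
  rw [hCcard] at h1
  calc Fintype.card Ω - 2 ≤ 2 * (C.image f).card := h1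
    _ ≤ 2 * Nat.card E := Nat.mul_le_mul_left 2 h2

end

end Cfsg.Agent.Lib.Helper6.Zs
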