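import Mathlib
import Cfsg.Agent.Lib.Helper6.ZassKer
import Cfsg.Agent.Lib.Helper6.ZassPP2
import Cfsg.Agent.Lib.Helper6.ZassInv
import Cfsg.Agent.Lib.Helper6.ZassDesc
import Cfsg.Agent.Lib.Helper6.ZassCoh
import Cfsg.Agent.Lib.Helper6.ZassOdd2
import Cfsg.Agent.Lib.Helper6.ZassAb

set_option autoImplicit false

/-!
Group-theoretic input for the identification of Zassenhaus groups with `2 d = n - 1`:
even `d`: every element swapping `a, b` is an involution with a fixed point (hence inverts `H`);
odd `d` (abelian kernel): `G` is perfect, hence every swapping element inverts `H`.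
-/

namespace Cfsg.Agent.Lib.Helper6.Zp

open Cfsg MulAction Cfsg.Agent.Lib.Helper6.Zs

theorem inv_of_fpf {U : Type*} [Group U] [Finite U] (T : U →* U)
    (hT2 : ∀ u, T (T u) = u) (hfix : ∀ u, T u = u → u = 1) : ∀ u, T u = u⁻¹ := by
  have hinj : Function.Injective (fun u : U => u⁻¹ * T u) := by
    intro u v huv
    have huv' : u⁻¹ * T u = v⁻¹ * T v := huv
    have h1 : T (v * u⁻¹) = v * u⁻¹ := by
      rw [map_mul, map_inv]
      have h0 : T v = v * (u⁻¹ * T u) := by rw [huv', mul_inv_cancel_left]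
      rw [h0, mul_assoc, mul_assoc, mul_inv_cancel, mul_one]
    have h2 := hfix _ h1
    exact (mul_inv_eq_one.mp h2).symm
  have hsurj := Finite.injective_iff_surjective.mp hinj
  intro z
  obtain ⟨u, hu⟩ := hsurj z
  have hu' : u⁻¹ * T u = z := hu
  rw [← hu', map_mul, map_inv, hT2, mul_inv_rev, inv_inv]

theorem eq_top_of_perfect_of_index_pow {G : Type*} [Group G] [Finite G]
    (hperf : commutator G = ⊤) (N : Subgroup G) [N.Normal] {q k : ℕ} (hq : q.Prime)
    (hidx : N.index = q ^ k) : N = ⊤ := by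
  haveI : Fact q.Prime := ⟨hq⟩
  have hp : IsPGroup q (G ⧸ N) :=
    IsPGroup.of_card (n := k) (by rw [← Subgroup.index_eq_card, hidx])
  haveI : Group.IsNilpotent (G ⧸ N) := hp.isNilpotent
  have hsol : Group.IsSolvable (G ⧸ N) := inferInstance
  obtain ⟨n, hn⟩ := (Group.isSolvable_def _).1 hsol
  have hds : ∀ m, derivedSeries G m = ⊤ := by
    intro m
    induction m with
    | zero => rfl
    | succ m ih => rw [derivedSeries_succ, ih, ← commutator_def, hperf]
  have h1 := map_derivedSeries_eq (QuotientGroup.mk'_surjective N) n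
  rw [hds, hn, Subgroup.map_top_of_surjective _ (QuotientGroup.mk'_surjective N)] at h1
  rw [eq_top_iff]
  intro g _
  have h2 : (QuotientGroup.mk' N g) ∈ (⊤ : Subgroup (G ⧸ N)) := Subgroup.mem_top _
  rw [h1, Subgroup.mem_bot] at h2
  exact (QuotientGroup.eq_one_iff g).1 h2

section zass
variable {G Ω : Type*} [Group G] [Fintype G] [MulAction G Ω] [Fintype Ω]

theorem uniq_inv (h : ZD G Ω) {c c' : Ω} (hcc : c ≠ c')
    (heven : Even (Nat.card ↥(stabilizer G c ⊓ stabilizer G c' : Subgroup G)))
    {x y : G} (hx : orderOf x = 2) (hy : orderOf y = 2)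
    (hxc : x • c = c) (hxc' : x • c' = c') (hyc : y • c = c) (hyc' : y • c' = c') : x = y := by
  classical
  obtain ⟨Kc, hKc⟩ := h.exists_kernel c
  have key : ∀ z : G, orderOf z = 2 → z • c = c → z • c' = c' →
      ∀ k ∈ Kc, z * k * z⁻¹ = k⁻¹ := by
    intro z hz hzc hzc' k hk
    have hzz := mul_self_of_orderOf_two hz
    have hzinv := inv_of_orderOf_two hz
    let T : Kc →* Kc :=
      { toFun := fun u => ⟨z * u * z⁻¹, hKc.conj_mem h hcc.symm hzc u.2⟩
        map_one' := by apply Subtype.ext; simp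
        map_mul' := by intro u v; apply Subtype.ext; simp [mul_assoc] }
    have hT2 : ∀ u, T (T u) = u := by
      intro u
      apply Subtype.ext
      show z * (z * (u : G) * z⁻¹) * z⁻¹ = u
      rw [hzinv]
      calc z * (z * (u : G) * z) * z = (z * z) * u * (z * z) := by group
        _ = u := by rw [hzz, one_mul, mul_one]
    have hfix : ∀ u, T u = u → u = 1 := by
      intro u hu
      by_contra hu1
      have hgk : z * (u : G) * z⁻¹ = u := congrArg Subtype.val hu
      have hzH : z ∈ (stabilizer G c ⊓ stabilizer G c' : Subgroup G) := by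
        rw [Subgroup.mem_inf, mem_stabilizer_iff, mem_stabilizer_iff]
        exact ⟨hzc, hzc'⟩
      have := KD.semiregular h hcc hKc hzH u.2 (fun e => hu1 (Subtype.ext e)) hgk
      exact ne_one_of_orderOf_two hz this
    have := inv_of_fpf T hT2 hfix ⟨k, hk⟩
    exact congrArg Subtype.val this
  obtain ⟨k, hk, hk1⟩ := KD.exists_ne_one h hKc
  have h1 := key x hx hxc hxc' k hk
  have h2 := key y hy hyc hyc' k⁻¹ (Kc.inv_mem hk)
  have h3 : (x * y) * k⁻¹ * (x * y)⁻¹ = k⁻¹ := by
    have : (x * y) * k⁻¹ * (x * y)⁻¹ = x * (y * k⁻¹ * y⁻¹) * x⁻¹ := by group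
    rw [this, h2, inv_inv, h1]
  have hxyH : x * y ∈ (stabilizer G c ⊓ stabilizer G c' : Subgroup G) := by
    rw [Subgroup.mem_inf, mem_stabilizer_iff, mem_stabilizer_iff, mul_smul, mul_smul, hyc, hyc',
      hxc, hxc']
    exact ⟨rfl, rfl⟩
  have hk1' : k⁻¹ ≠ 1 := by
    intro e
    exact hk1 (inv_eq_one.1 e)
  have h4 := KD.semiregular h hcc hKc hxyH (Kc.inv_mem hk) hk1' h3
  have h5 : y = x⁻¹ := eq_inv_of_mul_eq_one_right h4
  rw [h5, inv_of_orderOf_two hx]

theorem exists_inv_two (h : ZD G Ω) {a b : Ω} (hab : a ≠ b)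
    (heven : Even (Nat.card ↥(stabilizer G a ⊓ stabilizer G b : Subgroup G)))
    {c c' : Ω} (hcc : c ≠ c') : ∃ i : G, orderOf i = 2 ∧ i • c = c ∧ i • c' = c' := by
  haveI : Fact (Nat.Prime 2) := ⟨Nat.prime_two⟩
  have h1 : 2 ∣ Nat.card ↥(stabilizer G c ⊓ stabilizer G c' : Subgroup G) := by
    rw [h.card_two_eq hab hcc]
    exact even_iff_two_dvd.1 heven
  obtain ⟨x, hx⟩ := exists_prime_orderOf_dvd_card' 2 h1
  refine ⟨(x : G), by rw [Subgroup.orderOf_coe]; exact hx, ?_, ?_⟩
  · exact mem_stabilizer_iff.1 (Subgroup.mem_inf.1 x.2).1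
  · exact mem_stabilizer_iff.1 (Subgroup.mem_inf.1 x.2).2

/-- for even `d = (n-1)/2` every element swapping `a` and `b` is an involution with a fixed
point -/
theorem even_swap (h : ZD G Ω) {a b : Ω} (hab : a ≠ b)
    (heven : Even (Nat.card ↥(stabilizer G a ⊓ stabilizer G b : Subgroup G)))
    (hcard2 : 2 * Nat.card ↥(stabilizer G a ⊓ stabilizer G b : Subgroup G) + 2
      = Fintype.card Ω) :
    ∀ g : G, g • a = b → g • b = a → g * g = 1 ∧ ∃ c : Ω, g • c = c := by
  classical
  set d := Nat.card ↥(stabilizer G a ⊓ stabilizer G b : Subgroup G) with hd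
  obtain ⟨j, hj2, hja, hjb⟩ := exists_inv_two h hab heven hab
  have hjj := mul_self_of_orderOf_two hj2
  have hjinv := inv_of_orderOf_two hj2
  have hj1 := ne_one_of_orderOf_two hj2
  have hjfix : ∀ ω : Ω, j • ω = ω → ω = a ∨ ω = b := by
    intro ω hω
    by_contra hcon
    push Not at hcon
    exact hj1 (h.three j a b ω hab hcon.2.symm hcon.1.symm hja hjb hω)
  have hjj' : ∀ ω : Ω, j • j • ω = ω := fun ω => by rw [← mul_smul, hjj, one_smul]
  -- the chosen involutions
  have hex : ∀ α : Ω, α ≠ a ∧ α ≠ b → ∃ i : G, orderOf i = 2 ∧ i • α = α ∧ i • (j • α) = j • α := by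
    intro α hα
    have hne : α ≠ j • α := by
      intro e
      rcases hjfix α e.symm with e1 | e1
      · exact hα.1 e1
      · exact hα.2 e1
    exact exists_inv_two h hab heven hne
  let i : Ω → G := fun α => if hα : α ≠ a ∧ α ≠ b then Classical.choose (hex α hα) else 1
  have hi : ∀ α : Ω, α ≠ a ∧ α ≠ b →
      orderOf (i α) = 2 ∧ i α • α = α ∧ i α • (j • α) = j • α := by
    intro α hα
    show orderOf (if hα : α ≠ a ∧ α ≠ b then Classical.choose (hex α hα) else 1) = 2 ∧
      (if hα : α ≠ a ∧ α ≠ b then Classical.choose (hex α hα) else 1) • α = α ∧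
      (if hα : α ≠ a ∧ α ≠ b then Classical.choose (hex α hα) else 1) • (j • α) = j • α
    rw [dif_pos hα]
    exact Classical.choose_spec (hex α hα)
  -- properties
  have hprop : ∀ α : Ω, α ≠ a ∧ α ≠ b →
      i α • a = b ∧ i α • b = a ∧ i α * i α = 1 := by
    intro α hα
    obtain ⟨h2, hfα, hfjα⟩ := hi α hα
    have hne : α ≠ j • α := by
      intro e
      rcases hjfix α e.symm with e1 | e1
      · exact hα.1 e1
      · exact hα.2 e1
    have hi1 := ne_one_of_orderOf_two h2
    have hjαa : j • α ≠ a := by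
      intro e
      apply hα.1
      have : j • j • α = j • a := by rw [e]
      rw [hjj', hja] at this
      exact this
    have hjαb : j • α ≠ b := by
      intro e
      apply hα.2
      have : j • j • α = j • b := by rw [e]
      rw [hjj', hjb] at this
      exact this
    -- `i α` commutes with `j`
    have hcomm : j * i α * j⁻¹ = i α := by
      have heven' : Even (Nat.card ↥(stabilizer G α ⊓ stabilizer G (j • α) : Subgroup G)) := by
        rw [h.card_two_eq hab hne]
        exact heven
      apply uniq_inv h hne heven' (orderOf_two_conj h2 j) h2 _ _ hfα hfjα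
      · rw [hjinv, mul_smul, mul_smul, hfjα, hjj']
      · rw [hjinv, mul_smul, mul_smul, hjj', hfα]
    have hcomm' : j * i α = i α * j := by
      have := congrArg (fun z => z * j) hcomm
      simp only [inv_mul_cancel_right] at this
      exact this
    have hia : i α • a = a ∨ i α • a = b := by
      apply hjfix
      rw [← mul_smul, hcomm', mul_smul, hja]
    have hib : i α • b = a ∨ i α • b = b := by
      apply hjfix
      rw [← mul_smul, hcomm', mul_smul, hjb]
    have hia' : i α • a = b := by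
      rcases hia with e | e
      · exfalso
        exact hi1 (h.three (i α) a α (j • α) hα.1.symm hne hjαa.symm e hfα hfjα)
      · exact e
    have hib' : i α • b = a := by
      rcases hib with e | e
      · exact e
      · exfalso
        exact hi1 (h.three (i α) b α (j • α) hα.2.symm hne hjαb.symm e hfα hfjα)
    exact ⟨hia', hib', mul_self_of_orderOf_two h2⟩
  -- counting
  set Pset : Finset Ω := (Finset.univ.erase a).erase b with hPset
  have hPmem : ∀ α : Ω, α ∈ Pset ↔ α ≠ a ∧ α ≠ b := by
    intro α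
    rw [hPset, Finset.mem_erase, Finset.mem_erase]
    simp [and_comm]
  have hPcard : Pset.card = 2 * d := by
    rw [hPset, Finset.card_erase_of_mem, Finset.card_erase_of_mem (Finset.mem_univ a),
      Finset.card_univ]
    · omega
    · rw [Finset.mem_erase]; exact ⟨hab.symm, Finset.mem_univ b⟩
  set W : Finset G := Finset.univ.filter (fun g : G => g • a = b ∧ g • b = a) with hW
  set W' : Finset G := Finset.univ.filter
    (fun g : G => (g • a = b ∧ g • b = a) ∧ g * g = 1 ∧ ∃ c : Ω, g • c = c) with hW'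
  have hW'W : W' ⊆ W := by
    intro g hg
    rw [hW', Finset.mem_filter] at hg
    rw [hW, Finset.mem_filter]
    exact ⟨Finset.mem_univ _, hg.2.1⟩
  have himg : Pset.image i ⊆ W' := by
    intro g hg
    rw [Finset.mem_image] at hg
    obtain ⟨α, hα, rfl⟩ := hg
    rw [hPmem] at hα
    obtain ⟨h1, h2, h3⟩ := hprop α hα
    rw [hW', Finset.mem_filter]
    exact ⟨Finset.mem_univ _, ⟨h1, h2⟩, h3, α, (hi α hα).2.1⟩
  have hfib : ∀ g ∈ Pset.image i, (Pset.filter (fun α => i α = g)).card ≤ 2 := by
    intro g hg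
    rw [Finset.mem_image] at hg
    obtain ⟨α0, hα0, rfl⟩ := hg
    rw [hPmem] at hα0
    obtain ⟨h2, hfα, hfjα⟩ := hi α0 hα0
    have hne : α0 ≠ j • α0 := by
      intro e
      rcases hjfix α0 e.symm with e1 | e1
      · exact hα0.1 e1
      · exact hα0.2 e1
    have hsub : Pset.filter (fun α => i α = i α0) ⊆ {α0, j • α0} := by
      intro α hα
      rw [Finset.mem_filter, hPmem] at hα
      rw [Finset.mem_insert, Finset.mem_singleton]
      by_contra hcon
      push Not at hcon
      have hfα' : i α0 • α = α := by rw [← hα.2]; exact (hi α hα.1).2.1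
      exact ne_one_of_orderOf_two h2
        (h.three (i α0) α0 (j • α0) α hne hcon.2.symm hcon.1.symm hfα hfjα hfα')
    exact le_trans (Finset.card_le_card hsub) Finset.card_le_two
  have h1 := Finset.card_le_mul_card_image Pset 2 hfib
  -- `W` has at most `d` elements
  obtain ⟨t0, ht0a, ht0b⟩ := h.two a b b a hab hab.symm
  have hWcard : W.card ≤ d := by
    have hHc : d = (Finset.univ.filter (fun g : G => g • a = a ∧ g • b = b)).card := by
      rw [hd, ← Fintype.card_subtype, ← Nat.card_eq_fintype_card]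
      apply Nat.card_congr
      exact Equiv.subtypeEquivRight (fun g => by
        rw [Subgroup.mem_inf, mem_stabilizer_iff, mem_stabilizer_iff])
    rw [hHc]
    apply Finset.card_le_card_of_injOn (fun g => t0⁻¹ * g)
    · intro g hg
      rw [Finset.mem_coe, hW, Finset.mem_filter] at hg
      rw [Finset.mem_coe, Finset.mem_filter]
      refine ⟨Finset.mem_univ _, ?_, ?_⟩
      · rw [mul_smul, hg.2.1, inv_smul_eq_iff, ht0a]
      · rw [mul_smul, hg.2.2, inv_smul_eq_iff, ht0b]
    · intro g _ g' _ hgg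
      exact mul_left_cancel hgg
  have h2 : (Pset.image i).card ≤ W'.card := Finset.card_le_card himg
  have h3 : W'.card ≤ W.card := Finset.card_le_card hW'W
  have hWW' : W' = W := Finset.eq_of_subset_of_card_le hW'W (by omega)
  intro g hga hgb
  have hg : g ∈ W := by
    rw [hW, Finset.mem_filter]
    exact ⟨Finset.mem_univ _, hga, hgb⟩
  rw [← hWW', hW', Finset.mem_filter] at hg
  exact hg.2.2

/-- odd `d`, abelian kernel: the Feit–Itô bound, and perfectness when `2 d = n - 1` -/
theorem odd_perfect (h : ZD G Ω)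
    (hZ5 : ∀ N : Subgroup G, N.Normal → MulAction.IsPretransitive N Ω →
      ∃ a : Ω, MulAction.stabilizer N a ≠ ⊥)
    {a b : Ω} (hab : a ≠ b) {K : Subgroup G} (hK : KD a K)
    (hKab : ∀ x ∈ K, ∀ y ∈ K, x * y = y * x)
    (hodd : Odd (Nat.card ↥(stabilizer G a ⊓ stabilizer G b : Subgroup G))) :
    Fintype.card Ω - 2 ≤ 2 * Nat.card ↥(stabilizer G a ⊓ stabilizer G b : Subgroup G) ∧
      (2 * Nat.card ↥(stabilizer G a ⊓ stabilizer G b : Subgroup G) + 2 = Fintype.card Ω →
        commutator G = ⊤) := by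
  classical
  set d := Nat.card ↥(stabilizer G a ⊓ stabilizer G b : Subgroup G) with hd
  haveI hKn : (Subgroup.normalClosure (K : Set G)).Normal := Subgroup.normalClosure_normal
  have hle : K ≤ Subgroup.normalClosure (K : Set G) := Subgroup.le_normalClosure
  haveI : Fintype ↥(Subgroup.normalClosure (K : Set G)) := Fintype.ofFinite _
  have hE := desc_exists h hab hK (Subgroup.normalClosure (K : Set G)) hle hZ5
  have hZK := desc_ZD h hab hK (Subgroup.normalClosure (K : Set G)) hle hE
  have hKK := desc_KD hK (Subgroup.normalClosure (K : Set G)) hle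
  have hperf := desc_perfect h hab hK hE
  have hdvd := desc_card_dvd (Subgroup.normalClosure (K : Set G)) a b
  set d1 := Nat.card ↥(stabilizer ↥(Subgroup.normalClosure (K : Set G)) a ⊓
    stabilizer ↥(Subgroup.normalClosure (K : Set G)) b :
      Subgroup ↥(Subgroup.normalClosure (K : Set G))) with hd1
  have hoddK : Odd d1 := Odd.of_dvd_nat hodd hdvd
  have hd1le : d1 ≤ d := Nat.le_of_dvd hodd.pos hdvd
  have hcardKK : Nat.card (K.subgroupOf (Subgroup.normalClosure (K : Set G))) = Nat.card K :=
    Nat.card_congr (Subgroup.subgroupOfEquivOfLe hle).toEquiv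
  have hKcard := hK.card
  have hnot : ¬ (2 * d1 + 1 < Nat.card (K.subgroupOf (Subgroup.normalClosure (K : Set G)))) := by
    intro hlt
    obtain ⟨-, ⟨u, v, huv⟩, -⟩ := kernel_two_group hZK hab hKK hperf hoddK hlt
    apply huv
    apply Subtype.ext
    apply Subtype.ext
    have hu : ((u : ↥(Subgroup.normalClosure (K : Set G))) : G) ∈ K := u.2
    have hv : ((v : ↥(Subgroup.normalClosure (K : Set G))) : G) ∈ K := v.2
    exact hKab _ hu _ hv
  rw [hcardKK] at hnot
  push Not at hnot
  refine ⟨by omega, ?_⟩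
  intro hcard2
  have hdd : d1 = d := by omega
  have hc1 := ZD.card_two_mul hZK hab
  have hc2 := ZD.card_two_mul h hab
  rw [← hd1, hdd] at hc1
  rw [← hd] at hc2
  have htop : Subgroup.normalClosure (K : Set G) = ⊤ := by
    rw [← Subgroup.card_eq_iff_eq_top]
    rw [← hc1, hc2]
  have h1 := Subgroup.map_subtype_commutator (Subgroup.normalClosure (K : Set G))
  rw [hperf, ← MonoidHom.range_eq_map, Subgroup.range_subtype, htop] at h1
  rw [commutator_def]
  exact h1.symm

/-- odd `d = (n-1)/2`, abelian kernel: swapping elements are fixed point free involutions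
inverting `H` -/
theorem odd_swap (h : ZD G Ω)
    (hZ5 : ∀ N : Subgroup G, N.Normal → MulAction.IsPretransitive N Ω →
      ∃ a : Ω, MulAction.stabilizer N a ≠ ⊥)
    {a b : Ω} (hab : a ≠ b) {K : Subgroup G} (hK : KD a K)
    (hKab : ∀ x ∈ K, ∀ y ∈ K, x * y = y * x)
    (hodd : Odd (Nat.card ↥(stabilizer G a ⊓ stabilizer G b : Subgroup G)))
    (hcard2 : 2 * Nat.card ↥(stabilizer G a ⊓ stabilizer G b : Subgroup G) + 2
      = Fintype.card Ω) :
    ∀ g : G, g • a = b → g • b = a →
      g * g = 1 ∧ (∀ c : Ω, g • c ≠ c) ∧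
      ∀ x : G, x • a = a → x • b = b → g * x * g⁻¹ = x⁻¹ := by
  classical
  set d := Nat.card ↥(stabilizer G a ⊓ stabilizer G b : Subgroup G) with hd
  have hperf := (odd_perfect h hZ5 hab hK hKab hodd).2 hcard2
  have hcG := ZD.card_two_mul h hab
  have hnil : ∀ q : ℕ, q.Prime →
      q ∣ Nat.card ↥(stabilizer G a ⊓ stabilizer G b : Subgroup G) →
      ¬ ∃ N : Subgroup G, N.Normal ∧ N.index = q ^ (Nat.card G).factorization q := by
    rintro q hq hqd ⟨N, hN, hidx⟩
    haveI := hN
    have htop := eq_top_of_perfect_of_index_pow hperf N hq hidx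
    rw [htop, Subgroup.index_top] at hidx
    have hqG : q ∣ Nat.card G := by
      rw [← hcG]
      exact Dvd.dvd.mul_right hqd _
    have hpos : 0 < (Nat.card G).factorization q :=
      hq.factorization_pos_of_dvd Nat.card_pos.ne' hqG
    have : 1 < q ^ (Nat.card G).factorization q := Nat.one_lt_pow hpos.ne' hq.one_lt
    omega
  obtain ⟨-, -, hswap⟩ := ZD.odd_two_stab h hab hodd hnil
  intro g hga hgb
  have hinvg : ∀ x : G, x • a = a → x • b = b → g * x * g⁻¹ = x⁻¹ := by
    intro x hxa hxb
    apply hswap g hga hgb x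
    rw [Subgroup.mem_inf, mem_stabilizer_iff, mem_stabilizer_iff]
    exact ⟨hxa, hxb⟩
  have hgga : (g * g) • a = a := by rw [mul_smul, hga, hgb]
  have hggb : (g * g) • b = b := by rw [mul_smul, hgb, hga]
  have hgg : g * g = 1 := by
    have h1 := hinvg (g * g) hgga hggb
    have h2 : g * (g * g) * g⁻¹ = g * g := by group
    rw [h2] at h1
    -- (g g)^2 = 1 in a group of odd order
    have h3 : (g * g) ^ 2 = 1 := by
      rw [pow_two]
      nth_rewrite 1 [h1]
      exact inv_mul_cancel _
    have hmem : g * g ∈ (stabilizer G a ⊓ stabilizer G b : Subgroup G) := by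
      rw [Subgroup.mem_inf, mem_stabilizer_iff, mem_stabilizer_iff]
      exact ⟨hgga, hggb⟩
    have h4 : orderOf (g * g) ∣ 2 := orderOf_dvd_of_pow_eq_one h3
    have h5 : orderOf (g * g) ∣ d := by
      have := orderOf_dvd_natCard (⟨g * g, hmem⟩ : ↥(stabilizer G a ⊓ stabilizer G b : Subgroup G))
      rw [← Subgroup.orderOf_coe] at this
      exact this
    have h6 : orderOf (g * g) ∣ Nat.gcd 2 d := Nat.dvd_gcd h4 h5
    have h7 : Nat.gcd 2 d = 1 := Nat.coprime_two_left.2 hodd
    rw [h7, Nat.dvd_one, orderOf_eq_one_iff] at h6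
    exact h6
  refine ⟨hgg, ?_, hinvg⟩
  intro c hc
  -- `g` lies in the stabiliser of `c`, of odd order
  obtain ⟨c', hc'⟩ := h.exists_ne c
  have hcs := ZD.card_stab_eq h hc'.symm
  rw [h.card_two_eq hab hc'.symm] at hcs
  have hoddS : Odd (Nat.card (stabilizer G c)) := by
    rw [hcs]
    apply Odd.mul _ hodd
    rw [← hcard2]
    exact ⟨d, by omega⟩
  have h3 : g ^ 2 = 1 := by rw [pow_two, hgg]
  have h4 : orderOf g ∣ 2 := orderOf_dvd_of_pow_eq_one h3
  have h5 : orderOf g ∣ Nat.card (stabilizer G c) := by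
    have := orderOf_dvd_natCard (⟨g, mem_stabilizer_iff.2 hc⟩ : stabilizer G c)
    rw [← Subgroup.orderOf_coe] at this
    exact this
  have h6 : orderOf g ∣ Nat.gcd 2 (Nat.card (stabilizer G c)) := Nat.dvd_gcd h4 h5
  have h7 : Nat.gcd 2 (Nat.card (stabilizer G c)) = 1 := Nat.coprime_two_left.2 hoddS
  rw [h7, Nat.dvd_one, orderOf_eq_one_iff] at h6
  rw [h6, one_smul] at hga
  exact hab hga

end zass

end Cfsg.Agent.Lib.Helper6.Zp
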