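import Mathlib
import Cfsg.Agent.Lib.Helper6.ZpE
import Cfsg.Agent.Lib.Helper6.ZpF

set_option autoImplicit false

/-!
Zassenhaus groups with `2 d = n - 1`: identification with `PSL₂`; Zassenhaus groups with
abelian kernel.
-/

namespace Cfsg.Agent.Lib.Helper6.Zp

open Cfsg MulAction Cfsg.Agent.Lib.Helper6.Zs

section final
variable {G Ω : Type*} [Group G] [Fintype G] [MulAction G Ω] [Fintype Ω]

theorem main_even (h : ZD G Ω) {a b : Ω} (hab : a ≠ b) {K : Subgroup G} (hK : KD a K)
    (heven : Even (Nat.card ↥(stabilizer G a ⊓ stabilizer G b : Subgroup G)))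
    (hcard2 : 2 * Nat.card ↥(stabilizer G a ⊓ stabilizer G b : Subgroup G) + 2
      = Fintype.card Ω) :
    ∃ (E : Type) (_ : Field E) (_ : Fintype E), Fintype.card E + 1 = Fintype.card Ω ∧
      Nonempty (G ≃* Matrix.ProjectiveSpecialLinearGroup (Fin 2) E) := by
  have hKab := (h.even_case hab hK heven).1
  obtain ⟨t, hta, htb⟩ := h.two a b b a hab hab.symm
  have hsw := even_swap h hab heven hcard2
  obtain ⟨htt, c, hc⟩ := hsw t hta htb
  have htinv : t⁻¹ = t := inv_eq_of_mul_eq_one_right htt
  have hinv : ∀ x : G, x • a = a → x • b = b → t * x * t⁻¹ = x⁻¹ := by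
    intro x hxa hxb
    have h1 := (hsw (t * x) (by rw [mul_smul, hxa, hta]) (by rw [mul_smul, hxb, htb])).1
    rw [htinv]
    apply eq_inv_of_mul_eq_one_left
    rw [mul_assoc (t * x) t x]
    exact h1
  exact core h hab hK hKab hcard2 t hta htb htt hinv (Or.inl ⟨heven, c, hc⟩)

theorem main_odd (h : ZD G Ω)
    (hZ5 : ∀ N : Subgroup G, N.Normal → MulAction.IsPretransitive N Ω →
      ∃ a : Ω, MulAction.stabilizer N a ≠ ⊥)
    {a b : Ω} (hab : a ≠ b) {K : Subgroup G} (hK : KD a K)
    (hKab : ∀ x ∈ K, ∀ y ∈ K, x * y = y * x)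
    (hodd : Odd (Nat.card ↥(stabilizer G a ⊓ stabilizer G b : Subgroup G)))
    (hcard2 : 2 * Nat.card ↥(stabilizer G a ⊓ stabilizer G b : Subgroup G) + 2
      = Fintype.card Ω) :
    ∃ (E : Type) (_ : Field E) (_ : Fintype E), Fintype.card E + 1 = Fintype.card Ω ∧
      Nonempty (G ≃* Matrix.ProjectiveSpecialLinearGroup (Fin 2) E) := by
  obtain ⟨t, hta, htb⟩ := h.two a b b a hab hab.symm
  obtain ⟨htt, hfp, hinv⟩ := odd_swap h hZ5 hab hK hKab hodd hcard2 t hta htb
  exact core h hab hK hKab hcard2 t hta htb htt hinv (Or.inr ⟨hodd, hfp⟩)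

/-- `d = n - 1`: sharply triply transitive -/
theorem sharp3 (h : ZD G Ω) {a b : Ω} (hab : a ≠ b)
    (hcard1 : Nat.card ↥(stabilizer G a ⊓ stabilizer G b : Subgroup G) + 2 = Fintype.card Ω) :
    MulAction.IsMultiplyPretransitive G Ω 3 ∧
      ∀ t : Fin 3 ↪ Ω, MulAction.stabilizer G t = ⊥ := by
  classical
  set H : Subgroup G := stabilizer G a ⊓ stabilizer G b with hH
  have hHa : ∀ g : H, (g : G) • a = a := fun g =>
    mem_stabilizer_iff.1 (Subgroup.mem_inf.1 g.2).1
  have hHb : ∀ g : H, (g : G) • b = b := fun g =>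
    mem_stabilizer_iff.1 (Subgroup.mem_inf.1 g.2).2
  set Pset : Finset Ω := (Finset.univ.erase a).erase b with hPset
  have hPmem : ∀ α : Ω, α ∈ Pset ↔ α ≠ a ∧ α ≠ b := by
    intro α
    rw [hPset, Finset.mem_erase, Finset.mem_erase]
    simp [and_comm]
  have hPcard : Pset.card = Fintype.card Ω - 2 := by
    rw [hPset, Finset.card_erase_of_mem, Finset.card_erase_of_mem (Finset.mem_univ a),
      Finset.card_univ]
    · omega
    · rw [Finset.mem_erase]; exact ⟨hab.symm, Finset.mem_univ b⟩
  have htransH : ∀ c c' : Ω, c ≠ a → c ≠ b → c' ≠ a → c' ≠ b →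
      ∃ g : G, g • a = a ∧ g • b = b ∧ g • c = c' := by
    intro c c' hca hcb hca' hcb'
    haveI : Fintype H := Fintype.ofFinite H
    let f : H → ↥Pset := fun g => ⟨(g : G) • c, by
      rw [hPmem]
      constructor
      · intro e
        apply hca
        have : (g : G) • c = (g : G) • a := by rw [e, hHa g]
        exact smul_left_cancel _ this
      · intro e
        apply hcb
        have : (g : G) • c = (g : G) • b := by rw [e, hHb g]
        exact smul_left_cancel _ this⟩
    have hfinj : Function.Injective f := by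
      intro g g' hgg
      have h1 : (g : G) • c = (g' : G) • c := congrArg Subtype.val hgg
      have h2 : ((g' : G)⁻¹ * (g : G)) • c = c := by rw [mul_smul, h1, inv_smul_smul]
      have h3 : ((g' : G)⁻¹ * (g : G)) • a = a := by
        rw [mul_smul, hHa g, inv_smul_eq_iff, hHa g']
      have h4 : ((g' : G)⁻¹ * (g : G)) • b = b := by
        rw [mul_smul, hHb g, inv_smul_eq_iff, hHb g']
      have h5 := h.three _ a b c hab hcb.symm hca.symm h3 h4 h2
      apply Subtype.ext
      exact (inv_mul_eq_one.1 h5).symm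
    have hcard : Fintype.card H = Fintype.card ↥Pset := by
      rw [Fintype.card_coe, hPcard, ← Nat.card_eq_fintype_card]
      omega
    have hbij : Function.Bijective f :=
      (Fintype.bijective_iff_injective_and_card f).2 ⟨hfinj, hcard⟩
    obtain ⟨g, hg⟩ := hbij.2 ⟨c', (hPmem c').2 ⟨hca', hcb'⟩⟩
    exact ⟨(g : G), hHa g, hHb g, congrArg Subtype.val hg⟩
  refine ⟨⟨fun x y => ?_⟩, ?_⟩
  · have hx01 : x 0 ≠ x 1 := x.injective.ne (by decide)
    have hx02 : x 0 ≠ x 2 := x.injective.ne (by decide)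
    have hx12 : x 1 ≠ x 2 := x.injective.ne (by decide)
    have hy01 : y 0 ≠ y 1 := y.injective.ne (by decide)
    have hy02 : y 0 ≠ y 2 := y.injective.ne (by decide)
    have hy12 : y 1 ≠ y 2 := y.injective.ne (by decide)
    obtain ⟨g1, h10, h11⟩ := h.two (x 0) (x 1) a b hx01 hab
    obtain ⟨g2, h20, h21⟩ := h.two (y 0) (y 1) a b hy01 hab
    have hca : g1 • x 2 ≠ a := by
      intro e
      rw [← h10] at e
      exact hx02 (smul_left_cancel g1 e).symm
    have hcb : g1 • x 2 ≠ b := by
      intro e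
      rw [← h11] at e
      exact hx12 (smul_left_cancel g1 e).symm
    have hca' : g2 • y 2 ≠ a := by
      intro e
      rw [← h20] at e
      exact hy02 (smul_left_cancel g2 e).symm
    have hcb' : g2 • y 2 ≠ b := by
      intro e
      rw [← h21] at e
      exact hy12 (smul_left_cancel g2 e).symm
    obtain ⟨g3, h3a, h3b, h3c⟩ := htransH _ _ hca hcb hca' hcb'
    refine ⟨g2⁻¹ * g3 * g1, ?_⟩
    apply DFunLike.ext
    intro i
    rw [Function.Embedding.smul_apply]
    fin_cases i
    · show (g2⁻¹ * g3 * g1) • x 0 = y 0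
      rw [mul_smul, mul_smul, h10, h3a, inv_smul_eq_iff, h20]
    · show (g2⁻¹ * g3 * g1) • x 1 = y 1
      rw [mul_smul, mul_smul, h11, h3b, inv_smul_eq_iff, h21]
    · show (g2⁻¹ * g3 * g1) • x 2 = y 2
      rw [mul_smul, mul_smul, h3c, inv_smul_smul]
  · intro t
    rw [eq_bot_iff]
    intro g hg
    rw [Subgroup.mem_bot]
    rw [mem_stabilizer_iff] at hg
    have hgi : ∀ i, g • t i = t i := fun i => by
      rw [← Function.Embedding.smul_apply, hg]
    exact h.three g (t 0) (t 1) (t 2) (t.injective.ne (by decide)) (t.injective.ne (by decide))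
      (t.injective.ne (by decide)) (hgi 0) (hgi 1) (hgi 2)

/-- Zassenhaus groups with abelian kernel -/
theorem main_abelian (hZ : IsZassenhausGroup G Ω) (x : Ω) (F : Subgroup G)
    (hFle : F ≤ stabilizer G x) (hFab : ∀ u ∈ F, ∀ v ∈ F, u * v = v * u)
    (hreg : ∀ y z : Ω, y ≠ x → z ≠ x → ∃! u : F, (u : G) • y = z) :
    (MulAction.IsMultiplyPretransitive G Ω 3 ∧
        ∀ t : Fin 3 ↪ Ω, MulAction.stabilizer G t = ⊥) ∨
      ∃ (E : Type) (_ : Field E) (_ : Fintype E), ringChar E ≠ 2 ∧
        Nonempty (G ≃* Matrix.ProjectiveSpecialLinearGroup (Fin 2) E) := by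
  classical
  have h := ZD.of hZ
  obtain ⟨b, hb⟩ := h.exists_ne x
  have hab : x ≠ b := hb.symm
  have hFx : ∀ u : F, (u : G) • x = x := fun u => mem_stabilizer_iff.1 (hFle u.2)
  have hK : KD x F := by
    refine ⟨hFle, ?_, ?_⟩
    · let φ : F → {c : Ω // c ≠ x} := fun u => ⟨(u : G) • b, by
        intro e
        apply hb
        have : (u : G) • b = (u : G) • x := by rw [e, hFx u]
        exact smul_left_cancel _ this⟩
      have hφ : Function.Bijective φ := by
        constructor
        · intro u v huv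
          have h1 : (u : G) • b = (v : G) • b := congrArg Subtype.val huv
          obtain ⟨w, -, hw⟩ := hreg b ((v : G) • b) hb (φ v).2
          rw [hw u h1, hw v rfl]
        · rintro ⟨c, hc⟩
          obtain ⟨u, hu, -⟩ := hreg b c hb hc
          exact ⟨u, Subtype.ext hu⟩
      have h1 : Nat.card F = Nat.card {c : Ω // c ≠ x} := Nat.card_eq_of_bijective φ hφ
      rw [h1, Nat.card_eq_fintype_card, Fintype.card_subtype_compl, Fintype.card_subtype_eq]
      have := h.card_gt
      omega
    · intro u hu hu1 c huc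
      by_contra hc
      obtain ⟨w, -, hw⟩ := hreg c c hc hc
      have e1 := hw ⟨u, hu⟩ huc
      have e2 := hw 1 (one_smul _ _)
      apply hu1
      have : (⟨u, hu⟩ : F) = 1 := by rw [e1, e2]
      exact congrArg Subtype.val this
  set d := Nat.card ↥(stabilizer G x ⊓ stabilizer G b : Subgroup G) with hd
  have hdvd := ZD.card_two_dvd h hab
  have hn := h.card_gt
  have hd1 := ZD.one_lt_card_two h hab
  have hle : Fintype.card Ω - 2 ≤ 2 * d := by
    rcases Nat.even_or_odd d with heven | hodd
    · exact (h.even_case hab hK heven).2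
    · exact (odd_perfect h hZ.2.2.2.2 hab hK hFab hodd).1
  obtain ⟨k, hk⟩ := hdvd
  rw [← hd] at hk hd1
  have hcases : Fintype.card Ω - 2 = d ∨ Fintype.card Ω - 2 = 2 * d := by
    rcases k with _ | _ | _ | k
    · omega
    · left; omega
    · right; omega
    · exfalso
      have : d * (k + 1 + 1 + 1) = d * k + 3 * d := by ring
      omega
  rcases hcases with h1 | h2
  · left
    exact sharp3 h hab (by omega)
  · right
    have hcard2 : 2 * d + 2 = Fintype.card Ω := by omega
    have hE : ∃ (E : Type) (_ : Field E) (_ : Fintype E),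
        Fintype.card E + 1 = Fintype.card Ω ∧
        Nonempty (G ≃* Matrix.ProjectiveSpecialLinearGroup (Fin 2) E) := by
      rcases Nat.even_or_odd d with heven | hodd
      · exact main_even h hab hK heven hcard2
      · exact main_odd h hZ.2.2.2.2 hab hK hFab hodd hcard2
    obtain ⟨E, fld, ft, hcE, hiso⟩ := hE
    refine ⟨E, fld, ft, ?_, hiso⟩
    intro hc2
    have := FiniteField.even_card_iff_char_two.1 hc2
    omega

/-- even `d` with `2 d ≤ n - 1` -/
theorem main_zass_even (hZ : IsZassenhausGroup G Ω) {a b : Ω} (hab : a ≠ b)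
    (heven : Even (Nat.card ↥(stabilizer G a ⊓ stabilizer G b : Subgroup G)))
    (hd : 2 * Nat.card ↥(stabilizer G a ⊓ stabilizer G b : Subgroup G) ≤ Fintype.card Ω - 2) :
    ∃ (p f : ℕ) (E : Type) (_ : Field E) (_ : Fintype E), p.Prime ∧ p ≠ 2 ∧
      Fintype.card E = p ^ f ∧ Fintype.card Ω = p ^ f + 1 ∧
      Nonempty (G ≃* Matrix.ProjectiveSpecialLinearGroup (Fin 2) E) := by
  classical
  have h := ZD.of hZ
  obtain ⟨K, hK⟩ := h.exists_kernel a
  have hle := (h.even_case hab hK heven).2
  have hn := h.card_gt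
  have hcard2 : 2 * Nat.card ↥(stabilizer G a ⊓ stabilizer G b : Subgroup G) + 2
      = Fintype.card Ω := by omega
  obtain ⟨E, fld, ft, hcE, hiso⟩ := main_even h hab hK heven hcard2
  haveI := ringChar.charP E
  obtain ⟨n, hp, hc⟩ := FiniteField.card E (ringChar E)
  refine ⟨ringChar E, n, E, fld, ft, hp, ?_, hc, by omega, hiso⟩
  intro hc2
  have := FiniteField.even_card_iff_char_two.1 hc2
  omega

end final

end Cfsg.Agent.Lib.Helper6.Zp
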