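import Mathlib
import Cfsg.Prelude.Def_BaumannBlocks

/-!
# S2990 / S2989 (centrally large subgroups and pushing up): common definitions

Subgroups of the Sylow subgroup `S ≤ G` are handled as subgroups `X ≤ S` of `G`; the predicates of the
statements (about the group type `↥S`) are reached through `X.subgroupOf S`.
-/

set_option autoImplicit false

namespace Cfsg.Agent.Lib.Helper6.CLP

variable {G : Type*} [Group G]

/-- `X ≤ S` is a centrally large subgroup of `S` -/
def CLin (S X : Subgroup G) : Prop := X ≤ S ∧ Cfsg.IsCentrallyLarge (X.subgroupOf S)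

/-- `X ≤ S` is a minimal centrally large subgroup of `S` -/
def MCLin (S X : Subgroup G) : Prop := X ≤ S ∧ Cfsg.IsMinimalCentrallyLarge (X.subgroupOf S)

/-- `Z(X)` as a subgroup of `G` -/
def zc (X : Subgroup G) : Subgroup G := X ⊓ Subgroup.centralizer (X : Set G)

/-- `Φ(X)` as a subgroup of `G` -/
def phi (X : Subgroup G) : Subgroup G := (frattini ↥X).map X.subtype

/-- the minimal centrally large subgroups `X` of `S` with `|Ω₁(Z(X))|` as large as possible -/
def MCLstar (p : ℕ) (S X : Subgroup G) : Prop :=
  MCLin S X ∧ ∀ Y : Subgroup G, MCLin S Y →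
    Nat.card (Cfsg.omegaOneCenter p Y) ≤ Nat.card (Cfsg.omegaOneCenter p X)

end Cfsg.Agent.Lib.Helper6.CLP
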