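import Mathlib
import Cfsg.Prelude.Def_PLocal

/-!
# S2770 (rank-one pushing up, `Z(S)` not elementary abelian): common definitions

`PSLlike p n P` collects, in isomorphism-free form, the facts about `P = PSL₂(p^n)` that the argument
uses; `Setup p n S M φ` is the standing hypothesis of the abstract argument (`φ : G →* P` is the
projection of `G` onto `G ⧸ K ≃* PSL₂(F)`, so that `K = φ.ker`).
-/

set_option autoImplicit false

namespace Cfsg.Agent.Lib.Helper6.PU

/-- what the pushing-up argument uses about `P = PSL₂(p^n)` -/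
structure PSLlike (p n : ℕ) (P : Type*) [Group P] : Prop where
  /-- Sylow `p`-subgroups have order `p^n` -/
  card_sylow : ∀ U : Sylow p P, Nat.card (U : Subgroup P) = p ^ n
  /-- Sylow `p`-subgroups are abelian -/
  comm : ∀ U : Sylow p P, ∀ a ∈ (U : Subgroup P), ∀ b ∈ (U : Subgroup P), a * b = b * a
  /-- two Sylow `p`-subgroups meet trivially -/
  inf_bot : ∃ U U' : Sylow p P, (U : Subgroup P) ⊓ (U' : Subgroup P) = ⊥
  /-- the normaliser of a Sylow `p`-subgroup acts irreducibly on it -/
  irred : ∀ U : Sylow p P, ∃ h ∈ Subgroup.normalizer ((U : Subgroup P) : Set P), ∀ B : Subgroup P,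
      B ≤ (U : Subgroup P) → (∀ b ∈ B, h * b * h⁻¹ ∈ B) → B = ⊥ ∨ B = (U : Subgroup P)
  /-- `P` is simple when `p^n ≥ 4` -/
  simple : 2 ≤ n → IsSimpleGroup P
  /-- an element of prime power order `r^e` with `p` of order `2n` modulo `r^e` -/
  elt : 2 ≤ n → ∃ (r e : ℕ) (g : P), r.Prime ∧ r ≠ p ∧ 0 < e ∧ orderOf g = r ^ e ∧
      ∀ t : ℕ, 0 < t → t < 2 * n → ¬ r ^ e ∣ p ^ t - 1

/-- the standing hypothesis: `S` lies in the unique maximal subgroup `M`, and `φ` maps `G` onto a
`PSLlike p n` group -/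
structure Setup {G : Type*} [Group G] (p n : ℕ) (S : Sylow p G) (M : Subgroup G)
    {P : Type*} [Group P] (φ : G →* P) : Prop where
  coatom : IsCoatom M
  le : (S : Subgroup G) ≤ M
  uniq : ∀ M' : Subgroup G, IsCoatom M' → (S : Subgroup G) ≤ M' → M' = M
  surj : Function.Surjective φ
  psl : PSLlike p n P
  pos : 1 ≤ n

end Cfsg.Agent.Lib.Helper6.PU
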