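import Mathlib
import Cfsg.Agent.Lib.Helper6.PU0
import Cfsg.Agent.Lib.Helper1.PCore
import Cfsg.Agent.Lib.Helper9.PU2770A
import Cfsg.Agent.Lib.Helper3.PU2770a
import Cfsg.Agent.Lib.Helper3.PU2770b
import Cfsg.Agent.Lib.Helper3.PU2770c
import Cfsg.Agent.Lib.Helper4.PU2770L1
import Cfsg.Agent.Lib.Helper5.PU2770S

/-! # S2770 : the key proposition KP (no over-offender), assembled from the farm units -/

set_option autoImplicit false

namespace Cfsg.Agent.Lib.Helper6.PU

open Cfsg.Agent.Lib.Helper1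

section kp
variable {G : Type*} [Group G] [Finite G] {p : ℕ} [Fact p.Prime] {n : ℕ} (S : Sylow p G)
  (M : Subgroup G) {P : Type*} [Group P] (φ : G →* P)

/-- `C_S(V) = O_p(G)` when `C_G(V) S ≠ G` -/
theorem cent_inf_eq (hs : Setup p n S M φ) (V : Subgroup G) [V.Normal]
    (hQV : Cfsg.pCore p G ≤ Subgroup.centralizer (V : Set G))
    (hV : Subgroup.centralizer (V : Set G) ⊔ (S : Subgroup G) ≠ ⊤) :
    Subgroup.centralizer (V : Set G) ≤ M ∧
    Subgroup.centralizer (V : Set G) ⊓ (S : Subgroup G) = Cfsg.pCore p G := by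
  rcases Cfsg.Agent.Lib.Helper9.PU2770A.dich S M hs.coatom hs.le hs.uniq (Subgroup.centralizer (V : Set G)) with h | ⟨hCM, hCSn⟩
  · exact absurd h hV
  · refine ⟨hCM, le_antisymm ?_ (le_inf hQV (pCore_le_sylow p S))⟩
    exact le_pCore hCSn (S.isPGroup'.to_le inf_le_right)

omit [Finite G] [Fact p.Prime] in
theorem card_inf_mul_relIndex (H K : Subgroup G) :
    Nat.card (K ⊓ H : Subgroup G) * H.relIndex K = Nat.card K := by
  have h1 := (H.subgroupOf K).card_mul_index
  have h2 : Nat.card (H.subgroupOf K) = Nat.card (K ⊓ H : Subgroup G) := by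
    rw [inf_comm, ← Subgroup.subgroupOf_map_subtype,
      Subgroup.card_map_of_injective K.subtype_injective]
  rw [← h2]
  exact h1

/-- KP for `n = 1` -/
theorem kp1 (hs : Setup p 1 S M φ) (V : Subgroup G) [V.Normal] (hVp : IsPGroup p V)
    (hQV : Cfsg.pCore p G ≤ Subgroup.centralizer (V : Set G))
    (hV : Subgroup.centralizer (V : Set G) ⊔ (S : Subgroup G) ≠ ⊤) (A : Subgroup G)
    (hA : A ≤ S) :
    Nat.card A * Nat.card (V ⊓ Subgroup.centralizer (A : Set G) : Subgroup G) ≤
      Nat.card (A ⊓ Cfsg.pCore p G : Subgroup G) * Nat.card V := by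
  obtain ⟨hSn, hKM, hKS, hcard, hab⟩ := Cfsg.Agent.Lib.Helper5.PU2770S.struct S M φ hs
  obtain ⟨hCM, hCS⟩ := cent_inf_eq S M φ hs V hQV hV
  have hp : p.Prime := Fact.out
  by_cases hAQ : A ≤ Cfsg.pCore p G
  · rw [inf_of_le_left hAQ]
    exact Nat.mul_le_mul_left _ (Subgroup.card_le_of_le inf_le_left)
  · -- `|A| ≤ p |A ∩ Q|`
    have h1 := card_inf_mul_relIndex (Cfsg.pCore p G) A
    have h2 := card_inf_mul_relIndex (Cfsg.pCore p G) (S : Subgroup G)
    rw [inf_of_le_right (pCore_le_sylow p S)] at h2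
    have h3 : (Cfsg.pCore p G).relIndex (S : Subgroup G) = p := by
      have hpos : 0 < Nat.card (Cfsg.pCore p G) := Nat.card_pos
      rw [hcard, pow_one, mul_comm] at h2
      exact Nat.eq_of_mul_eq_mul_right hpos h2
    have h4 : (Cfsg.pCore p G).relIndex A ≤ p := by
      have := Subgroup.relIndex_le_of_le_right (H := Cfsg.pCore p G) hA
        (by rw [h3]; exact hp.ne_zero)
      rwa [h3] at this
    -- `A` does not centralise `V`, so `p |C_V(A)| ≤ |V|`
    have h5 : ¬ V ≤ Subgroup.centralizer (A : Set G) := by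
      intro hle
      apply hAQ
      rw [← hCS]
      refine le_inf ?_ hA
      intro a ha
      rw [Subgroup.mem_centralizer_iff]
      intro v hv
      exact ((Subgroup.mem_centralizer_iff.mp (hle hv)) a ha).symm
    have h6 := card_inf_mul_relIndex (Subgroup.centralizer (A : Set G)) V
    have h7 : p ∣ (Subgroup.centralizer (A : Set G)).relIndex V := by
      obtain ⟨j, hj⟩ := hVp.index ((Subgroup.centralizer (A : Set G)).subgroupOf V)
      have : (Subgroup.centralizer (A : Set G)).relIndex V = p ^ j := hj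
      rw [this]
      rcases Nat.eq_zero_or_pos j with rfl | hjpos
      · exfalso
        rw [pow_zero, Subgroup.relIndex_eq_one] at this
        exact h5 this
      · exact dvd_pow_self p hjpos.ne'
    obtain ⟨c, hc⟩ := h7
    -- `|A| |C_V(A)| ≤ p |A∩Q| |C_V(A)| ≤ |A∩Q| |V|`
    have h8 : Nat.card A ≤ Nat.card (A ⊓ Cfsg.pCore p G : Subgroup G) * p := by
      rw [← h1]
      exact Nat.mul_le_mul_left _ h4
    have hc0 : 0 < c := by
      rcases Nat.eq_zero_or_pos c with rfl | h
      · rw [hc, mul_zero, mul_zero] at h6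
        exact absurd h6.symm (Nat.card_pos).ne'
      · exact h
    have h9 : Nat.card (V ⊓ Subgroup.centralizer (A : Set G) : Subgroup G) * p ≤ Nat.card V := by
      rw [← h6, hc]
      calc Nat.card (V ⊓ Subgroup.centralizer (A : Set G) : Subgroup G) * p
          ≤ Nat.card (V ⊓ Subgroup.centralizer (A : Set G) : Subgroup G) * (p * c) :=
            Nat.mul_le_mul_left _ (Nat.le_mul_of_pos_right p hc0)
        _ = _ := rfl
    calc Nat.card A * Nat.card (V ⊓ Subgroup.centralizer (A : Set G) : Subgroup G)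
        ≤ (Nat.card (A ⊓ Cfsg.pCore p G : Subgroup G) * p) *
            Nat.card (V ⊓ Subgroup.centralizer (A : Set G) : Subgroup G) :=
          Nat.mul_le_mul_right _ h8
      _ = Nat.card (A ⊓ Cfsg.pCore p G : Subgroup G) *
            (Nat.card (V ⊓ Subgroup.centralizer (A : Set G) : Subgroup G) * p) := by ring
      _ ≤ _ := Nat.mul_le_mul_left _ h9

/-- KP for `n ≥ 2` -/
theorem kp2 (hn : 2 ≤ n) (hs : Setup p n S M φ) (V : Subgroup G) [V.Normal] (hVp : IsPGroup p V)
    (hVc : ∀ a ∈ V, ∀ b ∈ V, a * b = b * a)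
    (hQV : Cfsg.pCore p G ≤ Subgroup.centralizer (V : Set G))
    (hV : Subgroup.centralizer (V : Set G) ⊔ (S : Subgroup G) ≠ ⊤) (A : Subgroup G)
    (hA : A ≤ S) :
    Nat.card A * Nat.card (V ⊓ Subgroup.centralizer (A : Set G) : Subgroup G) ≤
      Nat.card (A ⊓ Cfsg.pCore p G : Subgroup G) * Nat.card V := by
  obtain ⟨hSn, hKM, hKS, hcard, hab⟩ := Cfsg.Agent.Lib.Helper5.PU2770S.struct S M φ hs
  obtain ⟨hCM, hCS⟩ := cent_inf_eq S M φ hs V hQV hV
  have hp : p.Prime := Fact.out
  by_contra hcon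
  rw [not_le] at hcon
  -- `C ≤ K`
  have hCK : Subgroup.centralizer (V : Set G) ≤ φ.ker := by
    have := hs.psl.simple hn
    have hnorm : ((Subgroup.centralizer (V : Set G)).map φ).Normal :=
      Subgroup.Normal.map inferInstance φ hs.surj
    rcases hnorm.eq_bot_or_eq_top with h | h
    · exact (Subgroup.map_eq_bot_iff _).mp h
    · exfalso
      have h1 : Subgroup.centralizer (V : Set G) ⊔ φ.ker = ⊤ := by
        rw [← Subgroup.comap_map_eq, h, Subgroup.comap_top]
      have h2 : M = ⊤ := top_le_iff.mp (h1 ▸ sup_le hCM hKM)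
      exact hs.coatom.1 h2
  obtain ⟨h, hh, hirr⟩ := Cfsg.Agent.Lib.Helper4.PU2770L.lift_irred_of S M φ hs hKS
  have := pCore_normal (G := G) p
  have hmeas := Cfsg.Agent.Lib.Helper3.PU2770.measure_max (S : Subgroup G) (Cfsg.pCore p G) V (pCore_le_sylow p S) hab hVc
    hQV h hh hirr A hA hcon
  -- `|V| p ≤ p^n |C_V(S)|`
  have hstar : Nat.card V * p ≤
      p ^ n * Nat.card (V ⊓ Subgroup.centralizer ((S : Subgroup G) : Set G) : Subgroup G) := by
    have h6 := card_inf_mul_relIndex (Subgroup.centralizer ((S : Subgroup G) : Set G)) V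
    obtain ⟨j, hj⟩ := hVp.index ((Subgroup.centralizer ((S : Subgroup G) : Set G)).subgroupOf V)
    have hj' : (Subgroup.centralizer ((S : Subgroup G) : Set G)).relIndex V = p ^ j := hj
    rw [hj'] at h6
    rw [hcard, ← h6] at hmeas
    have hQpos : 0 < Nat.card (Cfsg.pCore p G) := Nat.card_pos
    have hCpos : 0 < Nat.card (V ⊓ Subgroup.centralizer ((S : Subgroup G) : Set G) : Subgroup G) :=
      Nat.card_pos
    have h7 : p ^ j < p ^ n := by
      by_contra hge
      rw [not_lt] at hge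
      have : p ^ n * Nat.card (Cfsg.pCore p G) *
          Nat.card (V ⊓ Subgroup.centralizer ((S : Subgroup G) : Set G) : Subgroup G) ≤
          Nat.card (Cfsg.pCore p G) *
          (Nat.card (V ⊓ Subgroup.centralizer ((S : Subgroup G) : Set G) : Subgroup G) * p ^ j) := by
        calc p ^ n * Nat.card (Cfsg.pCore p G) *
          Nat.card (V ⊓ Subgroup.centralizer ((S : Subgroup G) : Set G) : Subgroup G)
            = Nat.card (Cfsg.pCore p G) *
          (Nat.card (V ⊓ Subgroup.centralizer ((S : Subgroup G) : Set G) : Subgroup G) * p ^ n) := by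
              ring
          _ ≤ _ := Nat.mul_le_mul_left _ (Nat.mul_le_mul_left _ hge)
      exact absurd hmeas (not_lt.mpr this)
    have h8 : j < n := (Nat.pow_lt_pow_iff_right hp.one_lt).mp h7
    have h9 : p ^ j * p ≤ p ^ n := by
      rw [← pow_succ]
      exact Nat.pow_le_pow_right hp.pos h8
    rw [← h6]
    calc Nat.card (V ⊓ Subgroup.centralizer ((S : Subgroup G) : Set G) : Subgroup G) * p ^ j * p
        = Nat.card (V ⊓ Subgroup.centralizer ((S : Subgroup G) : Set G) : Subgroup G) *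
            (p ^ j * p) := by ring
      _ ≤ Nat.card (V ⊓ Subgroup.centralizer ((S : Subgroup G) : Set G) : Subgroup G) * p ^ n :=
          Nat.mul_le_mul_left _ h9
      _ = _ := by ring
  -- the element of order `r^e`
  obtain ⟨r, e, g, hr, hrp, he, hg, hord⟩ := hs.psl.elt hn
  obtain ⟨y, hy1, hy2⟩ := Cfsg.Agent.Lib.Helper3.PU2770.exists_pow_lift φ hs.surj (Subgroup.centralizer (V : Set G)) hCK r e hr
    he g hg
  obtain ⟨t, ht0, htcard, htdvd⟩ := Cfsg.Agent.Lib.Helper3.PU2770.orbit_dvd V hVp r e hr hrp he y hy1 hy2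
  have hidx := Cfsg.Agent.Lib.Helper9.PU2770A.index_cent_le S M hs.coatom hs.le hs.uniq hSn V hVc (y ^ (r ^ (e - 1)))
  apply hord t ht0 _ htdvd
  -- `t + 2 ≤ 2 n`
  set c := Nat.card (V ⊓ Subgroup.centralizer ({y ^ (r ^ (e - 1))} : Set G) : Subgroup G) with hc
  set d := Nat.card (V ⊓ Subgroup.centralizer ((S : Subgroup G) : Set G) : Subgroup G) with hd
  have hcpos : 0 < c := Nat.card_pos
  have hVpos : 0 < Nat.card V := Nat.card_pos
  have h10 : (Nat.card V * p) ^ 2 ≤ (p ^ n * d) ^ 2 := Nat.pow_le_pow_left hstar 2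
  have h11 : Nat.card V * (Nat.card V * p ^ 2) ≤ Nat.card V * (p ^ (2 * n) * c) := by
    calc Nat.card V * (Nat.card V * p ^ 2) = (Nat.card V * p) ^ 2 := by ring
      _ ≤ (p ^ n * d) ^ 2 := h10
      _ = p ^ (2 * n) * d ^ 2 := by ring
      _ ≤ p ^ (2 * n) * (Nat.card V * c) := Nat.mul_le_mul_left _ hidx
      _ = _ := by ring
  have h12 : Nat.card V * p ^ 2 ≤ p ^ (2 * n) * c := Nat.le_of_mul_le_mul_left h11 hVpos
  rw [htcard] at h12
  have h13 : p ^ (t + 2) * c ≤ p ^ (2 * n) * c := by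
    calc p ^ (t + 2) * c = p ^ t * c * p ^ 2 := by ring
      _ ≤ _ := h12
  have h14 : p ^ (t + 2) ≤ p ^ (2 * n) := Nat.le_of_mul_le_mul_right h13 hcpos
  have h15 : t + 2 ≤ 2 * n := (Nat.pow_le_pow_iff_right hp.one_lt).mp h14
  omega

/-- KP : no over-offender -/
theorem kp (hs : Setup p n S M φ) (V : Subgroup G) [V.Normal] (hVp : IsPGroup p V)
    (hVc : ∀ a ∈ V, ∀ b ∈ V, a * b = b * a)
    (hQV : Cfsg.pCore p G ≤ Subgroup.centralizer (V : Set G))
    (hV : Subgroup.centralizer (V : Set G) ⊔ (S : Subgroup G) ≠ ⊤) (A : Subgroup G)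
    (hA : A ≤ S) :
    Nat.card A * Nat.card (V ⊓ Subgroup.centralizer (A : Set G) : Subgroup G) ≤
      Nat.card (A ⊓ Cfsg.pCore p G : Subgroup G) * Nat.card V := by
  rcases Nat.lt_or_ge n 2 with h | h
  · have h1 : n = 1 := le_antisymm (by omega) hs.pos
    subst h1
    exact kp1 S M φ hs V hVp hQV hV A hA
  · exact kp2 S M φ h hs V hVp hVc hQV hV A hA

end kp


end Cfsg.Agent.Lib.Helper6.PU
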