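import Mathlib
import Cfsg.Agent.Lib.Helper6.EquivOfChar
import Cfsg.Agent.Lib.Helper6.Ramified
import Cfsg.Agent.Lib.Helper6.Constituent
import Cfsg.Agent.Lib.Helper6.CharMisc
import Cfsg.Agent.Lib.Helper6.Schur
import Cfsg.Agent.Lib.Helper6.Decomp

set_option autoImplicit false

namespace Cfsg.Agent.Lib.Helper6

open Module

section

variable {G : Type*} [Group G] [Fintype G]

/-- If `G / N` is cyclic, `ρ` is an irreducible representation of `G` and `X` an invariant
irreducible representation of `N` occurring in the restriction of `ρ`, then the degree of `ρ`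
is at most that of `X`. -/
theorem finrank_le_of_cyclic_quotient (N : Subgroup G) [Fintype N] [hN : N.Normal] (hcyc : IsCyclic (G ⧸ N))
    {V W : Type*} [AddCommGroup V] [Module ℂ V] [FiniteDimensional ℂ V]
    [AddCommGroup W] [Module ℂ W] [FiniteDimensional ℂ W]
    (ρ : Representation ℂ G W) [ρ.IsIrreducible] (X : Representation ℂ N V) [X.IsIrreducible]
    (hinv : ∀ (g : G) (n : N),
      X.character ⟨g * n * g⁻¹, hN.conj_mem n n.2 g⟩ = X.character n)
    (hcon : Cfsg.classInner (fun n : N => ρ.character n) X.character ≠ 0) :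
    finrank ℂ W ≤ finrank ℂ V := by
  classical
  have hVnt : Nontrivial V := nontrivial_of_isIrreducible X
  -- a generator of the quotient
  obtain ⟨q, hq⟩ := hcyc.exists_generator
  obtain ⟨g₀, rfl⟩ := QuotientGroup.mk_surjective q
  -- the restriction of `ρ`
  let σ : Representation ℂ N W := ρ.comp N.subtype
  have hσ : σ.character = fun n : N => ρ.character n := rfl
  -- the conjugate of `X` by `g₀⁻¹`
  let Xg : Representation ℂ N V := X.comp (MulAut.conjNormal g₀⁻¹ : N ≃* N).toMonoidHom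
  have hXg : X.character = Xg.character := by
    funext n
    have h1 := hinv g₀⁻¹ n
    rw [← h1]
    rfl
  obtain ⟨E⟩ := equiv_of_character_eq X Xg hXg
  let M : V →ₗ[ℂ] V := E.toIntertwiningMap.toLinearMap
  have hMsurj : Function.Surjective M := E.toLinearEquiv.surjective
  have hE : ∀ (n : N) (v : V), M (X n v) = X (MulAut.conjNormal g₀⁻¹ n) (M v) := by
    intro n v
    exact E.toIntertwiningMap.isIntertwining _ _ n v
  have hconj : ∀ n : N, (g₀ : G) * ((MulAut.conjNormal g₀⁻¹ n : N) : G) = (n : G) * g₀ := by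
    intro n
    rw [MulAut.conjNormal_apply]
    group
  -- the space of intertwiners
  let U : Submodule ℂ (V →ₗ[ℂ] W) :=
    { carrier := {f | ∀ (n : N) (v : V), f (X n v) = ρ n (f v)}
      add_mem' := by
        intro f f' hf hf' n v
        simp only [LinearMap.add_apply, hf n v, hf' n v, map_add]
      zero_mem' := by
        intro n v
        simp
      smul_mem' := by
        intro c f hf n v
        simp only [LinearMap.smul_apply, hf n v, map_smul] }
  obtain ⟨f₁, hf₁⟩ := exists_injective_intertwining X σ (by rw [hσ]; exact hcon)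
  have hf₁U : f₁.toLinearMap ∈ U := by
    intro n v
    exact f₁.isIntertwining _ _ n v
  have hf₁0 : (⟨f₁.toLinearMap, hf₁U⟩ : U) ≠ 0 := by
    intro h0
    obtain ⟨v, hv⟩ := exists_ne (0 : V)
    apply hv
    apply hf₁
    have h1 := congrArg (fun f : U => (f : V →ₗ[ℂ] W) v) h0
    simp only [Submodule.coe_zero, LinearMap.zero_apply] at h1
    rw [map_zero]
    exact h1
  have hUnt : Nontrivial U := ⟨⟨_, 0, hf₁0⟩⟩
  -- the operator `T`
  let T : U →ₗ[ℂ] U :=
    { toFun := fun f => ⟨ρ g₀ ∘ₗ (f : V →ₗ[ℂ] W) ∘ₗ M, by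
        intro n v
        have hf := f.2
        simp only [LinearMap.comp_apply]
        rw [hE n v, hf (MulAut.conjNormal g₀⁻¹ n) (M v)]
        have h1 : ρ g₀ (ρ ((MulAut.conjNormal g₀⁻¹ n : N) : G) ((f : V →ₗ[ℂ] W) (M v)))
            = ρ ((g₀ : G) * ((MulAut.conjNormal g₀⁻¹ n : N) : G)) ((f : V →ₗ[ℂ] W) (M v)) := by
          rw [map_mul]; rfl
        rw [h1, hconj n, map_mul]
        rfl⟩
      map_add' := by
        intro f f'
        apply Subtype.ext
        ext v
        simp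
      map_smul' := by
        intro c f
        apply Subtype.ext
        ext v
        simp }
  obtain ⟨c, hc⟩ := Module.End.exists_eigenvalue T
  obtain ⟨f₀, hf₀⟩ := hc.exists_hasEigenvector
  have hf₀T : T f₀ = c • f₀ := hf₀.apply_eq_smul
  have hf₀ne : f₀ ≠ 0 := hf₀.2
  have hTapp : ∀ v : V, ρ g₀ ((f₀ : V →ₗ[ℂ] W) (M v)) = c • (f₀ : V →ₗ[ℂ] W) v := by
    intro v
    have := congrArg (fun f : U => (f : V →ₗ[ℂ] W) v) hf₀T
    exact this
  -- the range of `f₀` is invariant
  set W₀ : Submodule ℂ W := LinearMap.range (f₀ : V →ₗ[ℂ] W) with hW₀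
  have hg₀ : ∀ w ∈ W₀, ρ g₀ w ∈ W₀ := by
    rintro w ⟨u, rfl⟩
    obtain ⟨v, rfl⟩ := hMsurj u
    rw [hTapp v]
    exact Submodule.smul_mem _ _ ⟨v, rfl⟩
  have hNinv : ∀ n : N, ∀ w ∈ W₀, ρ n w ∈ W₀ := by
    rintro n w ⟨u, rfl⟩
    rw [← f₀.2 n u]
    exact ⟨_, rfl⟩
  have hpow : ∀ j : ℕ, ∀ w ∈ W₀, ρ (g₀ ^ j) w ∈ W₀ := by
    intro j
    induction j with
    | zero => intro w hw; simpa using hw
    | succ j ih =>
      intro w hw
      rw [pow_succ, map_mul]
      exact ih _ (hg₀ w hw)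
  have hall : ∀ x : G, ∀ w ∈ W₀, ρ x w ∈ W₀ := by
    intro x w hw
    have h1 : (QuotientGroup.mk x : G ⧸ N) ∈ Subgroup.zpowers (QuotientGroup.mk g₀ : G ⧸ N) := hq _
    rw [← mem_powers_iff_mem_zpowers] at h1
    obtain ⟨j, hj⟩ := h1
    have h2 : (QuotientGroup.mk (g₀ ^ j) : G ⧸ N) = QuotientGroup.mk x := by
      rw [← hj]; rfl
    have h3 : (g₀ ^ j)⁻¹ * x ∈ N := QuotientGroup.eq.mp h2
    have h4 : x = g₀ ^ j * ((g₀ ^ j)⁻¹ * x) := by group
    rw [h4, map_mul]
    exact hpow j _ (hNinv ⟨_, h3⟩ w hw)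
  -- irreducibility
  let S : Subrepresentation ρ := ⟨W₀, fun g v hv => hall g v hv⟩
  have hS : S = ⊥ ∨ S = ⊤ := eq_bot_or_eq_top S
  have hStop : S = ⊤ := by
    rcases hS with h | h
    · exfalso
      apply hf₀ne
      apply Subtype.ext
      ext v
      have h1 : (f₀ : V →ₗ[ℂ] W) v ∈ S.toSubmodule := ⟨v, rfl⟩
      rw [h, toSubmodule_bot] at h1
      have h2 : (f₀ : V →ₗ[ℂ] W) v = 0 := by simpa using h1
      rw [h2]
      rfl
    · exact h
  have hsurj : Function.Surjective (f₀ : V →ₗ[ℂ] W) := by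
    intro w
    have h1 : w ∈ S.toSubmodule := by rw [hStop, toSubmodule_top]; trivial
    exact h1
  exact LinearMap.finrank_le_finrank_of_surjective hsurj

end

end Cfsg.Agent.Lib.Helper6
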