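import Mathlib
import Cfsg.Agent.Lib.Helper6.IndFunTI
import Cfsg.Agent.S0146

set_option autoImplicit false

/-! General lemmas on `Cfsg.indFun`: projection formula, values at central elements,
vanishing off the conjugates of the subgroup, and the "two cosets" formula. -/

namespace Cfsg.Agent.Lib.Helper6.IndFunMore

open Cfsg.Agent.Lib.Helper6
open scoped ComplexConjugate

variable {G : Type*} [Group G] [Fintype G]

/-- projection formula: a class function times an induced function -/
theorem mul_indFun (H : Subgroup G) (f : H → ℂ) (χ : G → ℂ) (hχ : Cfsg.IsClassFunction G χ) :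
    χ * Cfsg.indFun H f = Cfsg.indFun H (fun h => χ h * f h) := by
  classical
  funext g
  rw [Pi.mul_apply]
  unfold Cfsg.indFun
  rw [mul_left_comm, Finset.mul_sum]
  congr 1
  apply Finset.sum_congr rfl
  intro x _
  have hx : χ (x⁻¹ * g * x) = χ g := by
    have := hχ g x⁻¹
    rw [inv_inv] at this
    exact this
  by_cases hm : x⁻¹ * g * x ∈ H
  · rw [extendByZero_of_mem _ _ hm, extendByZero_of_mem _ _ hm, hx]
  · rw [extendByZero_of_not_mem _ _ hm, extendByZero_of_not_mem _ _ hm, mul_zero]

/-- value of an induced function at a central element of the subgroup -/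
theorem indFun_apply_central (H : Subgroup G) (f : H → ℂ) (z : H)
    (hz : ∀ x : G, x * (z : G) = (z : G) * x) :
    Cfsg.indFun H f z = (Nat.card G : ℂ) / (Nat.card H : ℂ) * f z := by
  unfold Cfsg.indFun
  have h1 : ∀ x : G, Cfsg.extendByZero H f (x⁻¹ * (z : G) * x) = f z := by
    intro x
    have : x⁻¹ * (z : G) * x = (z : G) := by
      rw [mul_assoc, ← hz x, ← mul_assoc, inv_mul_cancel, one_mul]
    rw [this, extendByZero_coe]
  rw [Finset.sum_congr rfl (fun x _ => h1 x), Finset.sum_const, Finset.card_univ, nsmul_eq_mul,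
    ← Nat.card_eq_fintype_card]
  ring

/-- an induced function vanishes at elements having no conjugate in the subgroup -/
theorem indFun_eq_zero_of_not_conj (H : Subgroup G) (f : H → ℂ) (g : G)
    (h : ∀ x : G, x⁻¹ * g * x ∉ H) : Cfsg.indFun H f g = 0 := by
  unfold Cfsg.indFun
  rw [Finset.sum_eq_zero, mul_zero]
  intro x _
  exact extendByZero_of_not_mem _ _ (h x)

/-- the sum of a constant extended by zero -/
theorem sum_extendByZero_const (H : Subgroup G) (c : ℂ) :
    ∑ x : G, Cfsg.extendByZero H (fun _ => c) x = (Nat.card H : ℂ) * c := by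
  classical
  have : Fintype H := Fintype.ofFinite H
  rw [sum_extendByZero, Finset.sum_const, Finset.card_univ, nsmul_eq_mul,
    ← Nat.card_eq_fintype_card]

/-- value of an induced function at an element `h` of `H` with `C_G(h) = H` whose only conjugates
in `H` are `h` and `h' = w⁻¹ h w ≠ h` -/
theorem indFun_two_cosets (H : Subgroup G) (f : H → ℂ) (h h' : H) (w : G)
    (hw : w⁻¹ * (h : G) * w = (h' : G)) (hne : h ≠ h')
    (hcent : ∀ x : G, x⁻¹ * (h : G) * x = (h : G) ↔ x ∈ H)
    (hconj : ∀ x : G, x⁻¹ * (h : G) * x ∈ H →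
      x⁻¹ * (h : G) * x = (h : G) ∨ x⁻¹ * (h : G) * x = (h' : G)) :
    Cfsg.indFun H f h = f h + f h' := by
  classical
  have hwH : w ∉ H := by
    intro hw'
    apply hne
    apply Subtype.ext
    rw [← hw]
    exact ((hcent w).2 hw').symm
  have hpt : ∀ x : G, Cfsg.extendByZero H f (x⁻¹ * (h : G) * x) =
      Cfsg.extendByZero H (fun _ => f h) x + Cfsg.extendByZero H (fun _ => f h') (x * w⁻¹) := by
    intro x
    by_cases hx : x ∈ H
    · have h1 : x⁻¹ * (h : G) * x = (h : G) := (hcent x).2 hx
      have h2 : x * w⁻¹ ∉ H := by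
        intro h3
        apply hwH
        have := H.mul_mem (H.inv_mem h3) hx
        simpa using this
      rw [h1, extendByZero_coe, extendByZero_of_mem _ _ hx, extendByZero_of_not_mem _ _ h2, add_zero]
    · by_cases hx' : x * w⁻¹ ∈ H
      · have h1 : x⁻¹ * (h : G) * x = (h' : G) := by
          have h2 := (hcent (x * w⁻¹)).2 hx'
          rw [← hw]
          have : x⁻¹ * (h : G) * x = w⁻¹ * ((x * w⁻¹)⁻¹ * (h : G) * (x * w⁻¹)) * w := by group
          rw [this, h2]
        rw [h1, extendByZero_coe, extendByZero_of_not_mem _ _ hx, extendByZero_of_mem _ _ hx',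
          zero_add]
      · rw [extendByZero_of_not_mem _ _ hx, extendByZero_of_not_mem _ _ hx', add_zero]
        apply extendByZero_of_not_mem
        intro hm
        rcases hconj x hm with h1 | h1
        · exact hx ((hcent x).1 h1)
        · apply hx'
          rw [← hcent]
          have : (x * w⁻¹)⁻¹ * (h : G) * (x * w⁻¹) = w * (x⁻¹ * (h : G) * x) * w⁻¹ := by group
          rw [this, h1, ← hw]
          group
  unfold Cfsg.indFun
  rw [Finset.sum_congr rfl (fun x _ => hpt x), Finset.sum_add_distrib]
  have h3 : ∑ x : G, Cfsg.extendByZero H (fun _ => f h') (x * w⁻¹) =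
      ∑ x : G, Cfsg.extendByZero H (fun _ => f h') x :=
    Fintype.sum_equiv (Equiv.mulRight w⁻¹) _ _ (fun x => rfl)
  rw [h3, sum_extendByZero_const, sum_extendByZero_const]
  have hH : (Nat.card H : ℂ) ≠ 0 := card_ne_zero_complex H
  field_simp

/-- Frobenius reciprocity, spelled out as a sum over the subgroup -/
theorem classInner_indFun (H : Subgroup G) [Fintype H] (f : H → ℂ) (χ : G → ℂ)
    (hχ : Cfsg.IsClassFunction G χ) :
    Cfsg.classInner (Cfsg.indFun H f) χ =
      (Nat.card H : ℂ)⁻¹ * ∑ h : H, f h * conj (χ h) := by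
  rw [Cfsg.Agent.S0146.result H f χ hχ]
  rfl

end Cfsg.Agent.Lib.Helper6.IndFunMore
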