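import Mathlib
import Cfsg.Prelude.Def_Characters

set_option autoImplicit false

/-!
Representations over a subfield `K` of `ℂ`: characters, cutting by commuting idempotents,
Maschke, intertwiners.
-/

namespace Cfsg.Agent.Lib.Helper6.KR

open scoped ComplexConjugate

section basic

variable {K : Type*} [Field K] [Algebra K ℂ]
variable {G : Type*} [Group G]
variable {W : Type*} [AddCommGroup W] [Module K W]

/-- the complex valued character of a `K`-representation -/
noncomputable def chr (Y : Representation K G W) : G → ℂ :=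
  fun g => algebraMap K ℂ (LinearMap.trace K W (Y g))

/-- invariant submodules -/
def Inv (Y : Representation K G W) (W' : Submodule K W) : Prop :=
  ∀ g : G, ∀ w ∈ W', Y g w ∈ W'

/-- restriction to an invariant submodule -/
def sub (Y : Representation K G W) (W' : Submodule K W) (h : Inv Y W') :
    Representation K G W' where
  toFun g := (Y g).restrict (h g)
  map_one' := by
    ext w
    simp
  map_mul' g g' := by
    ext w
    simp

@[simp] theorem sub_apply (Y : Representation K G W) (W' : Submodule K W) (h : Inv Y W') (g : G)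
    (w : W') : ((sub Y W' h g w : W') : W) = Y g (w : W) := rfl

variable [FiniteDimensional K W]

theorem chr_one (Y : Representation K G W) : chr Y 1 = (Module.finrank K W : ℂ) := by
  unfold chr
  rw [map_one]
  have : LinearMap.trace K W (1 : W →ₗ[K] W) = (Module.finrank K W : K) := LinearMap.trace_one K W
  rw [this, map_natCast]

/-- cutting by a commuting idempotent -/
theorem inv_range (Y : Representation K G W) (π : W →ₗ[K] W)
    (hπY : ∀ g, Y g ∘ₗ π = π ∘ₗ Y g) : Inv Y (LinearMap.range π) := by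
  intro g w hw
  obtain ⟨v, rfl⟩ := hw
  refine ⟨Y g v, ?_⟩
  have := LinearMap.congr_fun (hπY g) v
  simp only [LinearMap.comp_apply] at this
  exact this.symm

theorem chr_cut (Y : Representation K G W) (π : W →ₗ[K] W) (hπ2 : π ∘ₗ π = π)
    (hπY : ∀ g, Y g ∘ₗ π = π ∘ₗ Y g) (g : G) :
    chr (sub Y (LinearMap.range π) (inv_range Y π hπY)) g
      = algebraMap K ℂ (LinearMap.trace K W (Y g ∘ₗ π)) := by
  unfold chr
  congr 1
  have hf : ∀ x, (Y g ∘ₗ π) x ∈ LinearMap.range π := by
    intro x
    refine ⟨Y g x, ?_⟩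
    have := LinearMap.congr_fun (hπY g) x
    simp only [LinearMap.comp_apply] at this ⊢
    exact this.symm
  rw [← LinearMap.trace_restrict_eq_of_forall_mem (LinearMap.range π) (Y g ∘ₗ π) hf]
  congr 1
  ext w
  obtain ⟨v, hv⟩ := w.2
  simp only [sub_apply, LinearMap.restrict_coe_apply, LinearMap.comp_apply]
  rw [← hv]
  have := LinearMap.congr_fun hπ2 v
  simp only [LinearMap.comp_apply] at this
  rw [this]

end basic

section maschke

variable {K : Type*} [Field K] [CharZero K] [Algebra K ℂ]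
variable {G : Type*} [Group G] [Fintype G]
variable {W : Type*} [AddCommGroup W] [Module K W] [FiniteDimensional K W]

/-- Maschke: an equivariant projection onto an invariant submodule -/
theorem exists_equivariant_proj (Y : Representation K G W) (W' : Submodule K W) (h : Inv Y W') :
    ∃ π : W →ₗ[K] W, π ∘ₗ π = π ∧ (∀ g, Y g ∘ₗ π = π ∘ₗ Y g) ∧ LinearMap.range π = W' := by
  classical
  obtain ⟨q, hq⟩ := Submodule.exists_isCompl W'
  obtain ⟨π₀, hπ₀⟩ : ∃ π₀ : W →ₗ[K] W, π₀ = W'.subtype ∘ₗ Submodule.projectionOnto W' q hq :=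
    ⟨_, rfl⟩
  have h0mem : ∀ w, π₀ w ∈ W' := by
    intro w
    rw [hπ₀]
    simp
  have h0fix : ∀ w ∈ W', π₀ w = w := by
    intro w hw
    rw [hπ₀]
    simp only [LinearMap.comp_apply, Submodule.subtype_apply]
    have := Submodule.projectionOnto_apply_left hq ⟨w, hw⟩
    exact congrArg Subtype.val this
  have hcard : (Fintype.card G : K) ≠ 0 := by
    exact_mod_cast Fintype.card_ne_zero
  obtain ⟨π, hπ⟩ : ∃ π : W →ₗ[K] W,
      π = (Fintype.card G : K)⁻¹ • ∑ g : G, Y g ∘ₗ π₀ ∘ₗ Y g⁻¹ := ⟨_, rfl⟩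
  have hπapply : ∀ w, π w = (Fintype.card G : K)⁻¹ • ∑ g : G, Y g (π₀ (Y g⁻¹ w)) := by
    intro w
    rw [hπ]
    simp [LinearMap.sum_apply]
  have hmem : ∀ w, π w ∈ W' := by
    intro w
    rw [hπapply]
    apply W'.smul_mem
    apply W'.sum_mem
    intro g _
    exact h g _ (h0mem _)
  have hfix : ∀ w ∈ W', π w = w := by
    intro w hw
    rw [hπapply]
    have h1 : ∀ g : G, Y g (π₀ (Y g⁻¹ w)) = w := by
      intro g
      rw [h0fix _ (h g⁻¹ w hw)]
      have : Y g (Y g⁻¹ w) = (Y g * Y g⁻¹) w := rfl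
      rw [this, ← map_mul, mul_inv_cancel, map_one]
      rfl
    rw [Finset.sum_congr rfl (fun g _ => h1 g), Finset.sum_const, Finset.card_univ,
      ← Nat.cast_smul_eq_nsmul K, smul_smul, inv_mul_cancel₀ hcard, one_smul]
  refine ⟨π, ?_, ?_, ?_⟩
  · ext w
    simp only [LinearMap.comp_apply]
    exact hfix _ (hmem w)
  · intro k
    ext w
    simp only [LinearMap.comp_apply]
    rw [hπapply, hπapply, map_smul, map_sum]
    congr 1
    rw [← Equiv.sum_comp (Equiv.mulLeft k⁻¹)]
    apply Finset.sum_congr rfl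
    intro g _
    simp only [Equiv.coe_mulLeft]
    have e1 : Y k (Y (k⁻¹ * g) (π₀ (Y (k⁻¹ * g)⁻¹ w)))
        = (Y k * Y (k⁻¹ * g)) (π₀ (Y (k⁻¹ * g)⁻¹ w)) := rfl
    have e2 : Y g⁻¹ (Y k w) = (Y g⁻¹ * Y k) w := rfl
    rw [e1, e2, ← map_mul, ← map_mul]
    have e3 : k * (k⁻¹ * g) = g := by group
    have e4 : (k⁻¹ * g)⁻¹ = g⁻¹ * k := by group
    rw [e3, e4]
  · apply le_antisymm
    · rintro w ⟨v, rfl⟩
      exact hmem v
    · intro w hw
      exact ⟨w, hfix w hw⟩

/-- an invariant submodule has an invariant complement; characters add up -/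
theorem exists_compl_chr (Y : Representation K G W) (W' : Submodule K W) (h : Inv Y W') :
    ∃ (W'' : Submodule K W) (h'' : Inv Y W''),
      chr Y = chr (sub Y W' h) + chr (sub Y W'' h'') := by
  obtain ⟨π, hπ2, hπY, hrange⟩ := exists_equivariant_proj Y W' h
  obtain ⟨π', hπ'⟩ : ∃ π' : W →ₗ[K] W, π' = LinearMap.id - π := ⟨_, rfl⟩
  have hπ'2 : π' ∘ₗ π' = π' := by
    rw [hπ']
    ext w
    have := LinearMap.congr_fun hπ2 w
    simp only [LinearMap.comp_apply] at this
    simp only [LinearMap.comp_apply, LinearMap.sub_apply, LinearMap.id_apply, map_sub, this]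
    abel
  have hπ'Y : ∀ g, Y g ∘ₗ π' = π' ∘ₗ Y g := by
    intro g
    rw [hπ']
    ext w
    have := LinearMap.congr_fun (hπY g) w
    simp only [LinearMap.comp_apply] at this
    simp only [LinearMap.comp_apply, LinearMap.sub_apply, LinearMap.id_apply, map_sub, this]
  refine ⟨LinearMap.range π', inv_range Y π' hπ'Y, ?_⟩
  funext g
  have e1 : chr (sub Y W' h) g = algebraMap K ℂ (LinearMap.trace K W (Y g ∘ₗ π)) := by
    have := chr_cut Y π hπ2 hπY g
    rw [← this]
    subst hrange
    rfl
  rw [Pi.add_apply, e1, chr_cut Y π' hπ'2 hπ'Y g, ← map_add, ← map_add]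
  unfold chr
  congr 2
  rw [hπ']
  ext w
  simp

end maschke

section image

variable {K : Type*} [Field K] [Algebra K ℂ]
variable {G : Type*} [Group G]
variable {W₀ : Type*} [AddCommGroup W₀] [Module K W₀] [FiniteDimensional K W₀]
variable {W : Type*} [AddCommGroup W] [Module K W] [FiniteDimensional K W]

theorem inv_range_of_intertwine (Y₀ : Representation K G W₀) (Y : Representation K G W)
    (T : W₀ →ₗ[K] W) (hT : ∀ g, Y g ∘ₗ T = T ∘ₗ Y₀ g) : Inv Y (LinearMap.range T) := by
  intro g w hw
  obtain ⟨v, rfl⟩ := hw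
  refine ⟨Y₀ g v, ?_⟩
  have := LinearMap.congr_fun (hT g) v
  simp only [LinearMap.comp_apply] at this
  exact this.symm

theorem inv_ker_of_intertwine (Y₀ : Representation K G W₀) (Y : Representation K G W)
    (T : W₀ →ₗ[K] W) (hT : ∀ g, Y g ∘ₗ T = T ∘ₗ Y₀ g) : Inv Y₀ (LinearMap.ker T) := by
  intro g w hw
  rw [LinearMap.mem_ker] at hw ⊢
  have := LinearMap.congr_fun (hT g) w
  simp only [LinearMap.comp_apply] at this
  rw [← this, hw, map_zero]

/-- the image of an injective intertwiner has the same character -/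
theorem chr_range_of_injective (Y₀ : Representation K G W₀) (Y : Representation K G W)
    (T : W₀ →ₗ[K] W) (hT : ∀ g, Y g ∘ₗ T = T ∘ₗ Y₀ g) (hinj : Function.Injective T) :
    chr (sub Y (LinearMap.range T) (inv_range_of_intertwine Y₀ Y T hT)) = chr Y₀ := by
  funext g
  unfold chr
  congr 1
  obtain ⟨e, he⟩ : ∃ e : W₀ ≃ₗ[K] LinearMap.range T, e = LinearEquiv.ofInjective T hinj := ⟨_, rfl⟩
  rw [← LinearMap.trace_conj' (Y₀ g) e]
  congr 1
  ext w
  obtain ⟨v, hv⟩ : ∃ v, e v = w := e.surjective w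
  rw [← hv]
  simp only [sub_apply, LinearEquiv.conj_apply, LinearMap.comp_apply, LinearEquiv.coe_coe,
    LinearEquiv.symm_apply_apply]
  rw [he]
  simp only [LinearEquiv.ofInjective_apply]
  have := LinearMap.congr_fun (hT g) v
  simp only [LinearMap.comp_apply] at this
  exact this

end image

end Cfsg.Agent.Lib.Helper6.KR
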