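import Mathlib
import Cfsg.Agent.Lib.Helper6.KRep1

set_option autoImplicit false

/-!
Representations over a subfield `K` of `ℂ`: existence of intertwiners, passage to complex
matrices, direct sums.
-/

namespace Cfsg.Agent.Lib.Helper6.KR

open scoped ComplexConjugate

section intertw

variable {K : Type*} [Field K]
variable {G : Type*} [Group G] [Fintype G]
variable {W₀ : Type*} [AddCommGroup W₀] [Module K W₀] [FiniteDimensional K W₀]
variable {W : Type*} [AddCommGroup W] [Module K W] [FiniteDimensional K W]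

theorem exists_intertwiner (Y₀ : Representation K G W₀) (Y : Representation K G W)
    (hne : ∑ g : G, LinearMap.trace K W (Y g) * LinearMap.trace K W₀ (Y₀ g⁻¹) ≠ 0) :
    ∃ T : W₀ →ₗ[K] W, T ≠ 0 ∧ ∀ g, Y g ∘ₗ T = T ∘ₗ Y₀ g := by
  classical
  by_contra hcon
  push Not at hcon
  have hΦ : ∀ T₀ : W₀ →ₗ[K] W, ∑ g : G, Y g ∘ₗ T₀ ∘ₗ Y₀ g⁻¹ = 0 := by
    intro T₀
    by_contra hne0
    obtain ⟨k, hk⟩ := hcon _ hne0
    apply hk
    ext w
    simp only [LinearMap.comp_apply, LinearMap.sum_apply, map_sum]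
    rw [← Equiv.sum_comp (Equiv.mulLeft k⁻¹)]
    apply Finset.sum_congr rfl
    intro g _
    simp only [Equiv.coe_mulLeft]
    have e1 : Y k (Y (k⁻¹ * g) (T₀ (Y₀ (k⁻¹ * g)⁻¹ w)))
        = (Y k * Y (k⁻¹ * g)) (T₀ (Y₀ (k⁻¹ * g)⁻¹ w)) := rfl
    have e2 : Y₀ g⁻¹ (Y₀ k w) = (Y₀ g⁻¹ * Y₀ k) w := rfl
    rw [e1, e2, ← map_mul, ← map_mul]
    have e3 : k * (k⁻¹ * g) = g := by group
    have e4 : (k⁻¹ * g)⁻¹ = g⁻¹ * k := by group
    rw [e3, e4]
  obtain ⟨b₀⟩ : Nonempty (Module.Basis (Fin (Module.finrank K W₀)) K W₀) :=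
    ⟨Module.finBasis K W₀⟩
  obtain ⟨b⟩ : Nonempty (Module.Basis (Fin (Module.finrank K W)) K W) := ⟨Module.finBasis K W⟩
  apply hne
  have key : ∀ i j, ∑ g : G, LinearMap.toMatrix b b (Y g) i i
      * LinearMap.toMatrix b₀ b₀ (Y₀ g⁻¹) j j = 0 := by
    intro i j
    have h1 := hΦ ((b₀.coord j).smulRight (b i))
    have h2 := congrArg (fun T : W₀ →ₗ[K] W => b.repr (T (b₀ j)) i) h1
    simp only [LinearMap.sum_apply, LinearMap.comp_apply, LinearMap.smulRight_apply, map_sum,
      map_smul, Finsupp.coe_finset_sum, Finset.sum_apply, Finsupp.smul_apply,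
      LinearMap.zero_apply, map_zero, Finsupp.zero_apply] at h2
    rw [← h2]
    apply Finset.sum_congr rfl
    intro g _
    rw [LinearMap.toMatrix_apply, LinearMap.toMatrix_apply]
    simp [Module.Basis.coord_apply, mul_comm]
  have h3 : ∀ g : G, LinearMap.trace K W (Y g) * LinearMap.trace K W₀ (Y₀ g⁻¹)
      = ∑ i, ∑ j, LinearMap.toMatrix b b (Y g) i i * LinearMap.toMatrix b₀ b₀ (Y₀ g⁻¹) j j := by
    intro g
    rw [LinearMap.trace_eq_matrix_trace K b, LinearMap.trace_eq_matrix_trace K b₀,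
      Matrix.trace, Matrix.trace, Finset.sum_mul_sum]
    rfl
  rw [Finset.sum_congr rfl (fun g _ => h3 g), Finset.sum_comm]
  apply Finset.sum_eq_zero
  intro i _
  rw [Finset.sum_comm]
  apply Finset.sum_eq_zero
  intro j _
  exact key i j

end intertw

section cplx

variable {K : Type*} [Field K] [Algebra K ℂ]
variable {G : Type*} [Group G]
variable {W : Type*} [AddCommGroup W] [Module K W] [FiniteDimensional K W]

theorem exists_complex_rep (Y : Representation K G W) {d : ℕ} (hd : Module.finrank K W = d) :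
    ∃ σ : Representation ℂ G (Fin d → ℂ), σ.character = chr Y ∧
      ∀ g i j, ∃ k : K, LinearMap.toMatrix' (σ g) i j = algebraMap K ℂ k := by
  classical
  obtain ⟨b⟩ : Nonempty (Module.Basis (Fin d) K W) := ⟨Module.finBasisOfFinrankEq K W hd⟩
  obtain ⟨Mat, hMat⟩ : ∃ Mat : G → Matrix (Fin d) (Fin d) ℂ,
      Mat = fun g => (LinearMap.toMatrix b b (Y g)).map (algebraMap K ℂ) := ⟨_, rfl⟩
  have hMat1 : Mat 1 = 1 := by
    rw [hMat]
    simp only [map_one]
    rw [LinearMap.toMatrix_one, Matrix.map_one _ (map_zero _) (map_one _)]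
  have hMatmul : ∀ g h : G, Mat (g * h) = Mat g * Mat h := by
    intro g h
    rw [hMat]
    simp only [map_mul]
    rw [LinearMap.toMatrix_mul, Matrix.map_mul]
  refine ⟨{ toFun := fun g => Matrix.toLin' (Mat g)
            map_one' := by rw [hMat1, Matrix.toLin'_one]; rfl
            map_mul' := fun g h => by rw [hMatmul, Matrix.toLin'_mul]; rfl }, ?_, ?_⟩
  · funext g
    unfold Representation.character chr
    simp only [MonoidHom.coe_mk, OneHom.coe_mk]
    rw [Matrix.trace_toLin'_eq, hMat, LinearMap.trace_eq_matrix_trace K b]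
    simp only [Matrix.trace, Matrix.diag_apply, Matrix.map_apply, map_sum]
  · intro g i j
    simp only [MonoidHom.coe_mk, OneHom.coe_mk]
    rw [LinearMap.toMatrix'_toLin', hMat]
    exact ⟨_, rfl⟩

theorem chr_isCharacter (Y : Representation K G W) : Cfsg.IsCharacter G (chr Y) := by
  obtain ⟨σ, hσ, _⟩ := exists_complex_rep Y rfl
  exact ⟨_, σ, hσ⟩

variable {W₂ : Type*} [AddCommGroup W₂] [Module K W₂] [FiniteDimensional K W₂]

theorem chr_prod (Y : Representation K G W) (Y₂ : Representation K G W₂) :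
    chr (Y.prod Y₂) = chr Y + chr Y₂ := by
  funext g
  unfold chr
  rw [Pi.add_apply, ← map_add]
  congr 1
  show LinearMap.trace K (W × W₂) ((Y g).prodMap (Y₂ g)) = _
  rw [LinearMap.trace_prodMap']

end cplx

end Cfsg.Agent.Lib.Helper6.KR
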