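import Mathlib
import Cfsg.Prelude.Def_Characters
import Cfsg.Agent.Lib.Helper6.KRep2

set_option autoImplicit false

/-!
Genuine characters from idempotent cuts: the part of a character fixed by a commuting
subgroup, and the character of the two-sided regular module cut by an indicator and a
convolution idempotent.
-/

namespace Cfsg.Agent.Lib.Helper6.StarCut

open Cfsg.Agent.Lib.Helper6.KR

section fixed

variable {𝒦 : Type*} [Group 𝒦]

/-- the part of a character fixed by a commuting subgroup -/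
theorem isCharacter_fixed_part {χ : 𝒦 → ℂ} (hχ : Cfsg.IsCharacter 𝒦 χ) (N R : Subgroup 𝒦)
    [Fintype N] (hNR : ∀ n ∈ N, ∀ r ∈ R, n * r = r * n) :
    Cfsg.IsCharacter R
      (fun r : R => (Nat.card N : ℂ)⁻¹ * ∑ n : N, χ ((n : 𝒦) * (r : 𝒦))) := by
  classical
  obtain ⟨d, ρ, rfl⟩ := hχ
  obtain ⟨Y, hY⟩ : ∃ Y : Representation ℂ R (Fin d → ℂ), ∀ r : R, Y r = ρ (r : 𝒦) :=
    ⟨ρ.comp R.subtype, fun r => rfl⟩
  obtain ⟨S, hS⟩ : ∃ S : (Fin d → ℂ) →ₗ[ℂ] (Fin d → ℂ), S = ∑ n : N, ρ (n : 𝒦) := ⟨_, rfl⟩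
  have hcard : (Nat.card N : ℂ) ≠ 0 := by exact_mod_cast Nat.card_pos.ne'
  have hSapp : ∀ w, S w = ∑ n : N, ρ (n : 𝒦) w := by
    intro w; rw [hS, LinearMap.sum_apply]
  have hρS : ∀ (n : N) (w : Fin d → ℂ), ρ (n : 𝒦) (S w) = S w := by
    intro n w
    rw [hSapp, map_sum]
    apply Fintype.sum_equiv (Equiv.mulLeft n)
    intro n'
    rw [Equiv.coe_mulLeft, Subgroup.coe_mul, map_mul]
    rfl
  have hSS : S ∘ₗ S = (Nat.card N : ℂ) • S := by
    apply LinearMap.ext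
    intro w
    rw [LinearMap.comp_apply, hSapp (S w), Finset.sum_congr rfl (fun n _ => hρS n w),
      Finset.sum_const, Finset.card_univ, ← Nat.card_eq_fintype_card, LinearMap.smul_apply,
      Nat.cast_smul_eq_nsmul]
  obtain ⟨π, hπ⟩ : ∃ π : (Fin d → ℂ) →ₗ[ℂ] (Fin d → ℂ), π = (Nat.card N : ℂ)⁻¹ • S := ⟨_, rfl⟩
  have hπ2 : π ∘ₗ π = π := by
    rw [hπ, LinearMap.smul_comp, LinearMap.comp_smul, hSS, smul_smul, smul_smul]
    congr 1
    field_simp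
  have hπY : ∀ r : R, Y r ∘ₗ π = π ∘ₗ Y r := by
    intro r
    rw [hπ, LinearMap.comp_smul, LinearMap.smul_comp, hY]
    congr 1
    apply LinearMap.ext
    intro w
    rw [LinearMap.comp_apply, LinearMap.comp_apply, hSapp, hSapp, map_sum]
    apply Finset.sum_congr rfl
    intro n _
    have h1 : ρ (r : 𝒦) (ρ (n : 𝒦) w) = ρ ((r : 𝒦) * (n : 𝒦)) w := by rw [map_mul]; rfl
    have h2 : ρ (n : 𝒦) (ρ (r : 𝒦) w) = ρ ((n : 𝒦) * (r : 𝒦)) w := by rw [map_mul]; rfl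
    rw [h1, h2, hNR n n.2 r r.2]
  have hchar := chr_isCharacter (sub Y (LinearMap.range π) (inv_range Y π hπY))
  convert hchar using 1
  funext r
  rw [chr_cut Y π hπ2 hπY r]
  have htr : Y r ∘ₗ π = (Nat.card N : ℂ)⁻¹ • ∑ n : N, ρ ((n : 𝒦) * (r : 𝒦)) := by
    rw [hπ, LinearMap.comp_smul, hY]
    congr 1
    apply LinearMap.ext
    intro w
    rw [LinearMap.comp_apply, hSapp, map_sum, LinearMap.sum_apply]
    apply Finset.sum_congr rfl
    intro n _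
    have h1 : ρ (r : 𝒦) (ρ (n : 𝒦) w) = ρ ((r : 𝒦) * (n : 𝒦)) w := by rw [map_mul]; rfl
    rw [h1, hNR n n.2 r r.2]
  rw [htr, map_smul, map_sum, smul_eq_mul]
  simp only [Algebra.algebraMap_self, RingHom.id_apply]
  rfl

end fixed

section perm

variable {G : Type*} [Group G] [Fintype G]

/-- the two-sided regular representation on functions -/
noncomputable def biRep (G : Type*) [Group G] : Representation ℂ (G × G) (G → ℂ) where
  toFun z := LinearMap.funLeft ℂ ℂ (fun x => z.1⁻¹ * x * z.2)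
  map_one' := by
    ext f x
    simp [LinearMap.funLeft_apply]
  map_mul' z w := by
    ext f x
    simp [LinearMap.funLeft_apply, mul_assoc]

@[simp] theorem biRep_apply (z : G × G) (f : G → ℂ) (x : G) :
    biRep G z f x = f (z.1⁻¹ * x * z.2) := rfl

/-- multiplication by a function -/
noncomputable def mOp (ι : G → ℂ) : (G → ℂ) →ₗ[ℂ] (G → ℂ) where
  toFun f x := ι x * f x
  map_add' f g := by
    funext x
    simp [mul_add]
  map_smul' c f := by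
    funext x
    simp [mul_left_comm]

@[simp] theorem mOp_apply (ι : G → ℂ) (f : G → ℂ) (x : G) : mOp ι f x = ι x * f x := rfl

/-- left convolution with `e` -/
noncomputable def lOp (e : G → ℂ) : (G → ℂ) →ₗ[ℂ] (G → ℂ) :=
  ∑ c : G, e c • LinearMap.funLeft ℂ ℂ (fun x => c⁻¹ * x)

theorem lOp_apply (e : G → ℂ) (f : G → ℂ) (x : G) :
    lOp e f x = ∑ c : G, e c * f (c⁻¹ * x) := by
  unfold lOp
  simp [LinearMap.sum_apply, LinearMap.funLeft_apply]

theorem biRep_comp_mOp (ι : G → ℂ) (z : G × G) (h : ∀ x, ι (z.1⁻¹ * x * z.2) = ι x) :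
    biRep G z ∘ₗ mOp ι = mOp ι ∘ₗ biRep G z := by
  ext f x
  simp only [LinearMap.comp_apply, biRep_apply, mOp_apply, h]

theorem biRep_comp_lOp (e : G → ℂ) (z : G × G) (h : ∀ c, e (z.1 * c * z.1⁻¹) = e c) :
    biRep G z ∘ₗ lOp e = lOp e ∘ₗ biRep G z := by
  ext f x
  simp only [LinearMap.comp_apply, biRep_apply, lOp_apply]
  rw [← Equiv.sum_comp (MulAut.conj z.1).toEquiv
    (fun c => e c * f (z.1⁻¹ * (c⁻¹ * x) * z.2))]
  apply Finset.sum_congr rfl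
  intro c _
  simp only [MulEquiv.toEquiv_eq_coe, MulEquiv.coe_toEquiv, MulAut.conj_apply, h]
  congr 2
  group

theorem mOp_comp_lOp (ι e : G → ℂ) (h : ∀ c x, e c ≠ 0 → ι (c⁻¹ * x) = ι x) :
    mOp ι ∘ₗ lOp e = lOp e ∘ₗ mOp ι := by
  ext f x
  simp only [LinearMap.comp_apply, mOp_apply, lOp_apply, Finset.mul_sum]
  apply Finset.sum_congr rfl
  intro c _
  by_cases hc : e c = 0
  · simp [hc]
  · rw [h c x hc]; ring

theorem mOp_comp_mOp (ι : G → ℂ) (h : ∀ x, ι x * ι x = ι x) : mOp ι ∘ₗ mOp ι = mOp ι := by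
  ext f x
  simp only [LinearMap.comp_apply, mOp_apply, ← mul_assoc, h]

theorem lOp_comp_lOp (e : G → ℂ) (hconv : ∀ d : G, ∑ c : G, e c * e (c⁻¹ * d) = e d) :
    lOp e ∘ₗ lOp e = lOp e := by
  ext f x
  simp only [LinearMap.comp_apply, lOp_apply]
  have h1 : ∀ c : G, e c * ∑ c' : G, e c' * f (c'⁻¹ * (c⁻¹ * x))
      = ∑ d : G, e c * e (c⁻¹ * d) * f (d⁻¹ * x) := by
    intro c
    rw [Finset.mul_sum,
      ← Equiv.sum_comp (Equiv.mulLeft c) (fun d => e c * e (c⁻¹ * d) * f (d⁻¹ * x))]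
    apply Finset.sum_congr rfl
    intro b _
    simp only [Equiv.coe_mulLeft, inv_mul_cancel_left, mul_inv_rev, mul_assoc]
  rw [Finset.sum_congr rfl (fun c _ => h1 c), Finset.sum_comm]
  apply Finset.sum_congr rfl
  intro d _
  rw [← Finset.sum_mul, hconv d]

theorem trace_biRep_comp [DecidableEq G] (ι e : G → ℂ) (z : G × G) :
    LinearMap.trace ℂ (G → ℂ) (biRep G z ∘ₗ (mOp ι ∘ₗ lOp e))
      = ∑ x : G, ι (z.1⁻¹ * x * z.2) * e (z.1⁻¹ * x * z.2 * x⁻¹) := by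
  rw [LinearMap.trace_eq_matrix_trace ℂ (Pi.basisFun ℂ G), LinearMap.toMatrix_eq_toMatrix']
  unfold Matrix.trace
  apply Finset.sum_congr rfl
  intro x _
  rw [Matrix.diag_apply, LinearMap.toMatrix'_apply, LinearMap.comp_apply, LinearMap.comp_apply,
    biRep_apply, mOp_apply, lOp_apply]
  congr 1
  rw [Finset.sum_eq_single (z.1⁻¹ * x * z.2 * x⁻¹)]
  · have : (z.1⁻¹ * x * z.2 * x⁻¹)⁻¹ * (z.1⁻¹ * x * z.2) = x := by group
    rw [this, Pi.single_eq_same, mul_one]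
  · intro a _ ha
    have : a⁻¹ * (z.1⁻¹ * x * z.2) ≠ x := by
      intro h
      apply ha
      have : a = (z.1⁻¹ * x * z.2) * (a⁻¹ * (z.1⁻¹ * x * z.2))⁻¹ := by group
      rw [this, h]
    rw [Pi.single_eq_of_ne this, mul_zero]
  · intro h
    exact absurd (Finset.mem_univ _) h

/-- the cut of the two-sided regular module is a genuine character of any subgroup
stabilizing the data -/
theorem isCharacter_cut (K : Subgroup (G × G)) (ι e : G → ℂ)
    (hι : ∀ x, ι x * ι x = ι x)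
    (hιK : ∀ z ∈ K, ∀ x, ι (z.1⁻¹ * x * z.2) = ι x)
    (heK : ∀ z ∈ K, ∀ c, e (z.1 * c * z.1⁻¹) = e c)
    (hιe : ∀ c x, e c ≠ 0 → ι (c⁻¹ * x) = ι x)
    (hee : ∀ d, ∑ c, e c * e (c⁻¹ * d) = e d) :
    Cfsg.IsCharacter K
      (fun k : K => ∑ x : G, ι x * e (x * (k : G × G).2 * x⁻¹ * (k : G × G).1⁻¹)) := by
  classical
  obtain ⟨Y, hY⟩ : ∃ Y : Representation ℂ K (G → ℂ), ∀ k : K, Y k = biRep G (k : G × G) :=
    ⟨(biRep G).comp K.subtype, fun k => rfl⟩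
  obtain ⟨π, hπ⟩ : ∃ π : (G → ℂ) →ₗ[ℂ] (G → ℂ), π = mOp ι ∘ₗ lOp e := ⟨_, rfl⟩
  have hπ2 : π ∘ₗ π = π := by
    rw [hπ]
    calc (mOp ι ∘ₗ lOp e) ∘ₗ (mOp ι ∘ₗ lOp e)
        = mOp ι ∘ₗ ((lOp e ∘ₗ mOp ι) ∘ₗ lOp e) := by
          simp only [LinearMap.comp_assoc]
      _ = mOp ι ∘ₗ ((mOp ι ∘ₗ lOp e) ∘ₗ lOp e) := by rw [mOp_comp_lOp ι e hιe]
      _ = (mOp ι ∘ₗ mOp ι) ∘ₗ (lOp e ∘ₗ lOp e) := by simp only [LinearMap.comp_assoc]
      _ = mOp ι ∘ₗ lOp e := by rw [mOp_comp_mOp ι hι, lOp_comp_lOp e hee]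
  have hπY : ∀ k : K, Y k ∘ₗ π = π ∘ₗ Y k := by
    intro k
    rw [hπ, hY]
    calc biRep G (k : G × G) ∘ₗ (mOp ι ∘ₗ lOp e)
        = (biRep G (k : G × G) ∘ₗ mOp ι) ∘ₗ lOp e := by simp only [LinearMap.comp_assoc]
      _ = (mOp ι ∘ₗ biRep G (k : G × G)) ∘ₗ lOp e := by
          rw [biRep_comp_mOp ι _ (hιK _ k.2)]
      _ = mOp ι ∘ₗ (biRep G (k : G × G) ∘ₗ lOp e) := by simp only [LinearMap.comp_assoc]
      _ = mOp ι ∘ₗ (lOp e ∘ₗ biRep G (k : G × G)) := by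
          rw [biRep_comp_lOp e _ (heK _ k.2)]
      _ = (mOp ι ∘ₗ lOp e) ∘ₗ biRep G (k : G × G) := by simp only [LinearMap.comp_assoc]
  have hchar := chr_isCharacter (sub Y (LinearMap.range π) (inv_range Y π hπY))
  convert hchar using 1
  funext k
  rw [chr_cut Y π hπ2 hπY k, hY, hπ, trace_biRep_comp]
  simp only [Algebra.algebraMap_self, RingHom.id_apply]
  rw [← Equiv.sum_comp ((Equiv.mulLeft (k : G × G).1⁻¹).trans (Equiv.mulRight (k : G × G).2))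
    (fun x => ι x * e (x * (k : G × G).2 * x⁻¹ * (k : G × G).1⁻¹))]
  apply Finset.sum_congr rfl
  intro x _
  simp only [Equiv.trans_apply, Equiv.coe_mulLeft, Equiv.coe_mulRight]
  congr 2
  group

end perm

end Cfsg.Agent.Lib.Helper6.StarCut
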