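import Mathlib
import Cfsg.Prelude.Def_Transfer
import Cfsg.Agent.Lib.Helper1.DihedralSylowInvolutions
import Cfsg.Agent.Lib.Helper1.PResidual
import Cfsg.Agent.Lib.Helper1.NormalizerGrow

/-! Group theory of a finite group with an involution `t` whose centralizer is dihedral of
order 8 (towards Isaacs, Character Theory, Theorem 7.10). -/

set_option autoImplicit false
open DihedralGroup

namespace Cfsg.Agent.Lib.Helper6.D8C

theorem dec_center : ∀ x : DihedralGroup 4, (∀ y, x * y = y * x) → x = 1 ∨ x = r 2 := by decide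
theorem dec_comm : ∀ x : DihedralGroup 4, x * r 1 = r 1 * x → ∃ k, x = r k := by decide
theorem dec_inv : ∀ x : DihedralGroup 4, x * r 1 * x⁻¹ = (r 1)⁻¹ → ∃ k, x = sr k := by decide
theorem dec_rho : (sr 0 : DihedralGroup 4) * r 1 * (sr 0)⁻¹ = (r 1)⁻¹ := by decide
theorem dec_sq : (r 1 : DihedralGroup 4) * r 1 = r 2 := by decide
theorem dec_prod : ∀ k : ZMod 4, (sr k : DihedralGroup 4) * sr (k + 1) = r 1 := by decide
theorem dec_prod' : ∀ k : ZMod 4, (sr k : DihedralGroup 4)⁻¹ * r 1 = sr (k + 1) := by decide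

variable {G : Type*} [Group G] {t : G}
  (e : Subgroup.centralizer ({t} : Set G) ≃* DihedralGroup 4)

/-- the element of order 4 -/
noncomputable def sig : G := ((e.symm (r 1) : Subgroup.centralizer ({t} : Set G)) : G)

/-- a reflection -/
noncomputable def rho : G := ((e.symm (sr 0) : Subgroup.centralizer ({t} : Set G)) : G)

theorem t_mem : t ∈ Subgroup.centralizer ({t} : Set G) :=
  Subgroup.mem_centralizer_singleton_iff.mpr rfl

theorem ne_one_of_orderOf_two {x : G} (hx : orderOf x = 2) : x ≠ 1 := by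
  intro h
  rw [h, orderOf_one] at hx
  omega

theorem mul_self_of_orderOf_two {x : G} (hx : orderOf x = 2) : x * x = 1 := by
  have := pow_orderOf_eq_one x
  rwa [hx, pow_two] at this

theorem central_cases (x : Subgroup.centralizer ({t} : Set G))
    (hx : ∀ d : Subgroup.centralizer ({t} : Set G), x * d = d * x) : e x = 1 ∨ e x = r 2 := by
  apply dec_center
  intro y
  obtain ⟨d, rfl⟩ := e.surjective y
  rw [← map_mul, ← map_mul, hx d]

theorem e_t (ht : orderOf t = 2) : e ⟨t, t_mem⟩ = r 2 := by
  have hc : ∀ d : Subgroup.centralizer ({t} : Set G), (⟨t, t_mem⟩ : Subgroup.centralizer ({t} : Set G)) * d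
      = d * ⟨t, t_mem⟩ := by
    intro d
    apply Subtype.ext
    rw [Subgroup.coe_mul, Subgroup.coe_mul]
    exact (Subgroup.mem_centralizer_singleton_iff.mp d.2).symm
  rcases central_cases e _ hc with h | h
  · exfalso
    rw [MulEquiv.map_eq_one_iff] at h
    have : t = 1 := congrArg Subtype.val h
    exact ne_one_of_orderOf_two ht this
  · exact h

theorem sig_mul_sig (ht : orderOf t = 2) : sig e * sig e = t := by
  unfold sig
  rw [← Subgroup.coe_mul, ← map_mul, dec_sq, ← e_t e ht, MulEquiv.symm_apply_apply]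

theorem orderOf_sig : orderOf (sig e) = 4 := by
  unfold sig
  rw [Subgroup.orderOf_coe, MulEquiv.orderOf_eq, orderOf_r_one]

theorem sig_pow_four : sig e ^ 4 = 1 := by
  rw [← orderOf_sig e]; exact pow_orderOf_eq_one _

theorem rho_conj : rho e * sig e * (rho e)⁻¹ = (sig e)⁻¹ := by
  unfold rho sig
  rw [← Subgroup.coe_inv, ← Subgroup.coe_mul, ← Subgroup.coe_mul, ← Subgroup.coe_inv,
    ← map_inv, ← map_mul, ← map_mul, dec_rho, map_inv]

theorem isConj_sig_inv : IsConj (sig e) (sig e)⁻¹ :=
  isConj_iff.mpr ⟨rho e, rho_conj e⟩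

include e in
theorem card_cent : Nat.card (Subgroup.centralizer ({t} : Set G)) = 8 := by
  rw [Nat.card_congr e.toEquiv, DihedralGroup.nat_card]

theorem comm_t_of_comm_sig (ht : orderOf t = 2) {g : G} (hg : g * sig e = sig e * g) :
    g * t = t * g := by
  rw [← sig_mul_sig e ht, ← mul_assoc, hg, mul_assoc, hg, mul_assoc]

theorem mem_zpowers_of_comm_sig (ht : orderOf t = 2) {g : G} (hg : g * sig e = sig e * g) :
    g ∈ Subgroup.zpowers (sig e) := by
  have hgD : g ∈ Subgroup.centralizer ({t} : Set G) :=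
    Subgroup.mem_centralizer_singleton_iff.mpr (comm_t_of_comm_sig e ht hg)
  have h1 : e ⟨g, hgD⟩ * r 1 = r 1 * e ⟨g, hgD⟩ := by
    have h2 : (⟨g, hgD⟩ : Subgroup.centralizer ({t} : Set G)) * e.symm (r 1)
        = e.symm (r 1) * ⟨g, hgD⟩ := by
      apply Subtype.ext
      rw [Subgroup.coe_mul, Subgroup.coe_mul]
      exact hg
    have h3 := congrArg e h2
    rwa [map_mul, map_mul, MulEquiv.apply_symm_apply] at h3
  obtain ⟨k, hk⟩ := dec_comm _ h1
  have h4 : (⟨g, hgD⟩ : Subgroup.centralizer ({t} : Set G)) = (e.symm (r 1)) ^ k.val := by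
    rw [← map_pow, r_one_pow, ZMod.natCast_zmod_val, ← hk, MulEquiv.symm_apply_apply]
  have h5 : g = sig e ^ k.val := by
    have := congrArg Subtype.val h4
    rwa [Subgroup.coe_pow] at this
  rw [h5]
  exact Subgroup.pow_mem _ (Subgroup.mem_zpowers _) _

theorem card_centralizer_sig (ht : orderOf t = 2) :
    Nat.card (Subgroup.centralizer ({sig e} : Set G)) = 4 := by
  have h : Subgroup.centralizer ({sig e} : Set G) = Subgroup.zpowers (sig e) := by
    apply le_antisymm
    · intro g hg
      exact mem_zpowers_of_comm_sig e ht (Subgroup.mem_centralizer_singleton_iff.mp hg)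
    · intro g hg
      rw [Subgroup.mem_centralizer_singleton_iff]
      obtain ⟨k, rfl⟩ := Subgroup.mem_zpowers_iff.mp hg
      exact (Commute.zpow_left (Commute.refl (sig e)) k).eq
  rw [h, Nat.card_zpowers, orderOf_sig]

theorem not_isConj_sig_one : ¬ IsConj (sig e) 1 := by
  intro h
  have := isConj_one_right.mp h.symm
  have h4 := orderOf_sig e
  rw [this, orderOf_one] at h4
  omega

theorem not_isConj_sig_t (ht : orderOf t = 2) : ¬ IsConj (sig e) t := by
  intro h
  obtain ⟨c, hc⟩ := isConj_iff.mp h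
  have h4 := orderOf_sig e
  have h5 : orderOf (c * sig e * c⁻¹) = orderOf (sig e) := by
    have := (MulAut.conj c).orderOf_eq (sig e)
    rwa [MulAut.conj_apply] at this
  rw [hc, ht, h4] at h5
  omega

end Cfsg.Agent.Lib.Helper6.D8C
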