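import Mathlib
import Cfsg.Agent.Lib.Helper6.D8Cent1

/-! Sylow property, conjugacy of involutions and the count of pairs of involutions with
product `sig`, for an involution centralizer dihedral of order 8. -/

set_option autoImplicit false
open DihedralGroup

namespace Cfsg.Agent.Lib.Helper6.D8C

variable {G : Type*} [Group G] {t : G}
  (e : Subgroup.centralizer ({t} : Set G) ≃* DihedralGroup 4)

include e in
theorem center_mem (ht : orderOf t = 2) {x : G} (hxD : x ∈ Subgroup.centralizer ({t} : Set G))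
    (hx : ∀ d ∈ Subgroup.centralizer ({t} : Set G), x * d = d * x) : x = 1 ∨ x = t := by
  have hc : ∀ d : Subgroup.centralizer ({t} : Set G),
      (⟨x, hxD⟩ : Subgroup.centralizer ({t} : Set G)) * d = d * ⟨x, hxD⟩ := by
    intro d
    apply Subtype.ext
    rw [Subgroup.coe_mul, Subgroup.coe_mul]
    exact hx d d.2
  rcases central_cases e _ hc with h | h
  · left
    rw [MulEquiv.map_eq_one_iff] at h
    exact congrArg Subtype.val h
  · right
    rw [← e_t e ht] at h
    exact congrArg Subtype.val (e.injective h)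

include e in
theorem exists_sylow [Finite G] (ht : orderOf t = 2) :
    ∃ T : Sylow 2 G, (T : Subgroup G) = Subgroup.centralizer ({t} : Set G) := by
  have : Fact (Nat.Prime 2) := ⟨Nat.prime_two⟩
  have hD2 : IsPGroup 2 (Subgroup.centralizer ({t} : Set G)) :=
    IsPGroup.of_card (n := 3) (by rw [card_cent e]; norm_num)
  obtain ⟨T, hT⟩ := hD2.exists_le_sylow
  refine ⟨T, ?_⟩
  by_contra hne
  have hnot : ¬ (⊤ : Subgroup (T : Subgroup G)) ≤
      (Subgroup.centralizer ({t} : Set G)).subgroupOf (T : Subgroup G) := by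
    intro h
    apply hne
    apply le_antisymm _ hT
    intro x hx
    have := h (Subgroup.mem_top (⟨x, hx⟩ : (T : Subgroup G)))
    rwa [Subgroup.mem_subgroupOf] at this
  obtain ⟨b, -, hbn, hbD⟩ := Cfsg.Agent.Lib.Helper1.exists_mem_normal_normalizer_not_mem
    (p := 2) T.isPGroup' ⊤ ((Subgroup.centralizer ({t} : Set G)).subgroupOf (T : Subgroup G)) hnot
  rw [Subgroup.mem_normalizer_iff] at hbn
  rw [Subgroup.mem_subgroupOf] at hbD
  -- conjugation by b preserves D
  have hfwd : ∀ d ∈ Subgroup.centralizer ({t} : Set G),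
      (b : G) * d * (b : G)⁻¹ ∈ Subgroup.centralizer ({t} : Set G) := by
    intro d hd
    have h1 := (hbn ⟨d, hT hd⟩).mp (by rw [Subgroup.mem_subgroupOf]; exact hd)
    rw [Subgroup.mem_subgroupOf] at h1
    simpa using h1
  have hbwd : ∀ d ∈ Subgroup.centralizer ({t} : Set G),
      (b : G)⁻¹ * d * (b : G) ∈ Subgroup.centralizer ({t} : Set G) := by
    intro d hd
    have hdT : (b : G)⁻¹ * d * (b : G) ∈ (T : Subgroup G) :=
      Subgroup.mul_mem _ (Subgroup.mul_mem _ (Subgroup.inv_mem _ b.2) (hT hd)) b.2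
    have h1 := (hbn ⟨(b : G)⁻¹ * d * (b : G), hdT⟩).mpr (by
      rw [Subgroup.mem_subgroupOf]
      have : ((b * ⟨(b : G)⁻¹ * d * (b : G), hdT⟩ * b⁻¹ : (T : Subgroup G)) : G) = d := by
        simp only [Subgroup.coe_mul, Subgroup.coe_inv]
        group
      rw [this]; exact hd)
    rw [Subgroup.mem_subgroupOf] at h1
    exact h1
  have hxD := hfwd t t_mem
  have hxc : ∀ d ∈ Subgroup.centralizer ({t} : Set G),
      ((b : G) * t * (b : G)⁻¹) * d = d * ((b : G) * t * (b : G)⁻¹) := by
    intro d hd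
    have h1 := Subgroup.mem_centralizer_singleton_iff.mp (hbwd d hd)
    -- (b⁻¹ d b) * t = t * (b⁻¹ d b)
    calc (b : G) * t * (b : G)⁻¹ * d
        = (b : G) * (t * ((b : G)⁻¹ * d * (b : G))) * (b : G)⁻¹ := by group
      _ = (b : G) * (((b : G)⁻¹ * d * (b : G)) * t) * (b : G)⁻¹ := by rw [h1]
      _ = d * ((b : G) * t * (b : G)⁻¹) := by group
  rcases center_mem e ht hxD hxc with h | h
  · have : t = 1 := by
      have h2 : (b : G)⁻¹ * ((b : G) * t * (b : G)⁻¹) * (b : G) = t := by group
      rw [h] at h2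
      rw [← h2]; group
    exact ne_one_of_orderOf_two ht this
  · apply hbD
    rw [Subgroup.mem_centralizer_singleton_iff]
    have h2 : (b : G) * t * (b : G)⁻¹ * (b : G) = t * (b : G) := by rw [h]
    rw [← h2]; group

theorem pResidual_eq_top_of_perfect [Finite G] (hperf : commutator G = ⊤) :
    Cfsg.pResidual 2 G = ⊤ := by
  have : Fact (Nat.Prime 2) := ⟨Nat.prime_two⟩
  have hp := Cfsg.Agent.Lib.Helper1.isPGroup_quotient_pResidual (G := G) 2
  haveI : Group.IsNilpotent (G ⧸ Cfsg.pResidual 2 G) := hp.isNilpotent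
  have hcomm : commutator (G ⧸ Cfsg.pResidual 2 G) = ⊤ := by
    rw [commutator_def, ← Subgroup.map_top_of_surjective (QuotientGroup.mk' (Cfsg.pResidual 2 G))
      (QuotientGroup.mk'_surjective _), ← Subgroup.map_commutator, ← commutator_def, hperf]
  by_contra hne
  haveI : Nontrivial (G ⧸ Cfsg.pResidual 2 G) := by
    by_contra hnt
    rw [not_nontrivial_iff_subsingleton] at hnt
    exact hne (QuotientGroup.subgroup_eq_top_of_subsingleton _ hnt)
  have := Group.IsSolvable.commutator_lt_top_of_nontrivial (G ⧸ Cfsg.pResidual 2 G)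
  rw [hcomm] at this
  exact lt_irrefl _ this

include e in
theorem isConj_of_orderOf_two [Finite G] (hperf : commutator G = ⊤) (ht : orderOf t = 2)
    (x : G) (hx : orderOf x = 2) : IsConj t x := by
  obtain ⟨T, hT⟩ := exists_sylow e ht
  have heq : (T : Subgroup G) ≃* DihedralGroup (2 ^ 2) := (MulEquiv.subgroupCongr hT).trans e
  obtain ⟨g, hg⟩ := Cfsg.Agent.Lib.Helper1.dihedral_sylow_involutions_conj T 2 (le_refl 2) ⟨heq⟩
    (pResidual_eq_top_of_perfect hperf) t x ht hx
  exact isConj_iff.mpr ⟨g, hg⟩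

theorem orderOf_of_isConj {x y : G} (h : IsConj x y) : orderOf y = orderOf x := by
  obtain ⟨c, hc⟩ := isConj_iff.mp h
  have := (MulAut.conj c).orderOf_eq x
  rwa [MulAut.conj_apply, hc] at this

theorem orderOf_coe_symm_sr (k : ZMod 4) :
    orderOf ((e.symm (sr k) : Subgroup.centralizer ({t} : Set G)) : G) = 2 := by
  rw [Subgroup.orderOf_coe, MulEquiv.orderOf_eq, orderOf_sr]

theorem card_pairs [Finite G] (hperf : commutator G = ⊤) (ht : orderOf t = 2) :
    Nat.card {p : G × G // IsConj t p.1 ∧ IsConj t p.2 ∧ p.1 * p.2 = sig e} = 4 := by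
  let f : ZMod 4 → {p : G × G // IsConj t p.1 ∧ IsConj t p.2 ∧ p.1 * p.2 = sig e} := fun k =>
    ⟨(((e.symm (sr k) : Subgroup.centralizer ({t} : Set G)) : G),
      ((e.symm (sr (k + 1)) : Subgroup.centralizer ({t} : Set G)) : G)),
      isConj_of_orderOf_two e hperf ht _ (orderOf_coe_symm_sr e k),
      isConj_of_orderOf_two e hperf ht _ (orderOf_coe_symm_sr e (k + 1)), by
        unfold sig
        rw [← Subgroup.coe_mul, ← map_mul, dec_prod k]⟩
  have hinj : Function.Injective f := by
    intro k k' h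
    have h1 : ((e.symm (sr k) : Subgroup.centralizer ({t} : Set G)) : G)
        = ((e.symm (sr k') : Subgroup.centralizer ({t} : Set G)) : G) :=
      congrArg (fun p => p.1.1) h
    have h2 := e.symm.injective (Subtype.val_injective h1)
    exact sr.inj h2
  have hsurj : Function.Surjective f := by
    rintro ⟨⟨x, y⟩, hx, hy, hxy⟩
    simp only at hx hy hxy
    have hx2 : x * x = 1 := mul_self_of_orderOf_two (by rw [orderOf_of_isConj hx, ht])
    have hy2 : y * y = 1 := mul_self_of_orderOf_two (by rw [orderOf_of_isConj hy, ht])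
    have hxinv : x⁻¹ = x := inv_eq_of_mul_eq_one_right hx2
    have hyinv : y⁻¹ = y := inv_eq_of_mul_eq_one_right hy2
    have hinvs : x * sig e * x⁻¹ = (sig e)⁻¹ := by
      rw [← hxy, mul_inv_rev, hxinv, hyinv, ← mul_assoc, hx2, one_mul]
    have htinv : t⁻¹ = t := inv_eq_of_mul_eq_one_right (mul_self_of_orderOf_two ht)
    have hxt : x * t * x⁻¹ = t := by
      have hss := sig_mul_sig e ht
      calc x * t * x⁻¹ = x * (sig e * sig e) * x⁻¹ := by rw [hss]
        _ = (x * sig e * x⁻¹) * (x * sig e * x⁻¹) := by group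
        _ = (sig e * sig e)⁻¹ := by rw [hinvs]; group
        _ = t := by rw [hss, htinv]
    have hxD : x ∈ Subgroup.centralizer ({t} : Set G) := by
      rw [Subgroup.mem_centralizer_singleton_iff]
      have : x * t * x⁻¹ * x = t * x := by rw [hxt]
      rw [← this]; group
    have h1 : e ⟨x, hxD⟩ * r 1 * (e ⟨x, hxD⟩)⁻¹ = (r 1)⁻¹ := by
      have h2 : (⟨x, hxD⟩ : Subgroup.centralizer ({t} : Set G)) * e.symm (r 1) * ⟨x, hxD⟩⁻¹
          = (e.symm (r 1))⁻¹ := by
        apply Subtype.ext
        simp only [Subgroup.coe_mul, Subgroup.coe_inv]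
        exact hinvs
      have h3 := congrArg e h2
      rwa [map_mul, map_mul, map_inv, map_inv, MulEquiv.apply_symm_apply] at h3
    obtain ⟨k, hk⟩ := dec_inv _ h1
    refine ⟨k, ?_⟩
    have hxk : ((e.symm (sr k) : Subgroup.centralizer ({t} : Set G)) : G) = x := by
      rw [← hk, MulEquiv.symm_apply_apply]
    have hyk : ((e.symm (sr (k + 1)) : Subgroup.centralizer ({t} : Set G)) : G) = y := by
      rw [← dec_prod' k, map_mul, map_inv, Subgroup.coe_mul, Subgroup.coe_inv, hxk]
      change x⁻¹ * sig e = y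
      rw [← hxy, ← mul_assoc, inv_mul_cancel, one_mul]
    apply Subtype.ext
    exact Prod.ext hxk hyk
  rw [← Nat.card_eq_of_bijective f ⟨hinj, hsurj⟩, Nat.card_zmod]

include e in
theorem eight_dvd_card [Finite G] : 8 ∣ Nat.card G := by
  rw [← card_cent e]
  exact Subgroup.card_subgroup_dvd_card _

end Cfsg.Agent.Lib.Helper6.D8C
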