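import Mathlib
import Cfsg.Prelude.Def_Blocks
import Cfsg.Agent.Lib.Helper6.GaloisConj

set_option autoImplicit false
set_option linter.unusedSectionVars false
open Cfsg

namespace Cfsg.Agent.Lib.Helper6

section galoisPerm

variable {G : Type*} [Group G] [Fintype G] [DecidableEq G]

/-- the permutation `χ ↦ χ ∘ (· ^ k)` of the irreducible characters, `k` prime to `|G|` -/
noncomputable def powIrr (k : ℕ) (hk : Nat.Coprime k (Nat.card G)) (χ : Cfsg.IrrCharacter G) :
    Cfsg.IrrCharacter G :=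
  ⟨fun g => (χ : G → ℂ) (g ^ k), IsIrrCharacter.comp_pow χ.2 hk⟩

theorem powIrr_apply (k : ℕ) (hk : Nat.Coprime k (Nat.card G)) (χ : Cfsg.IrrCharacter G) (g : G) :
    (powIrr k hk χ : G → ℂ) g = (χ : G → ℂ) (g ^ k) := rfl

theorem powIrr_injective (k : ℕ) (hk : Nat.Coprime k (Nat.card G)) :
    Function.Injective (powIrr (G := G) k hk) := by
  intro χ ψ h
  apply Subtype.ext
  funext g
  obtain ⟨y, hy⟩ := (powCoprime hk.symm).surjective g
  have h1 : y ^ k = g := hy
  have h2 := congrArg (fun θ : Cfsg.IrrCharacter G => (θ : G → ℂ) y) h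
  simp only [powIrr_apply] at h2
  rw [h1] at h2
  exact h2

theorem powIrr_iterate (k : ℕ) (hk : Nat.Coprime k (Nat.card G)) (m : ℕ)
    (χ : Cfsg.IrrCharacter G) (g : G) :
    (((powIrr k hk)^[m] χ : Cfsg.IrrCharacter G) : G → ℂ) g = (χ : G → ℂ) (g ^ (k ^ m)) := by
  induction m generalizing g with
  | zero => simp
  | succ m ih =>
    rw [Function.iterate_succ_apply', powIrr_apply, ih, ← pow_mul, pow_succ, mul_comm]

theorem charDegree_powIrr (k : ℕ) (hk : Nat.Coprime k (Nat.card G)) (χ : Cfsg.IrrCharacter G) :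
    Cfsg.charDegree ((powIrr k hk χ : Cfsg.IrrCharacter G) : G → ℂ)
      = Cfsg.charDegree (χ : G → ℂ) := by
  unfold Cfsg.charDegree
  rw [powIrr_apply, one_pow]

/-- a fixed point of odd weight of a suitable odd power of the Galois permutation -/
theorem exists_fixed_of_odd_sum [Fintype (Cfsg.IrrCharacter G)]
    (k : ℕ) (hk : Nat.Coprime k (Nat.card G))
    (B : Set (Cfsg.IrrCharacter G)) [DecidablePred (· ∈ B)]
    (hstab : ∀ χ ∈ B, powIrr k hk χ ∈ B) (f : Cfsg.IrrCharacter G → ℕ)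
    (hf : ∀ χ, f (powIrr k hk χ) = f χ)
    (hodd : Odd (∑ χ ∈ Finset.univ.filter (· ∈ B), f χ)) :
    ∃ t : ℕ, Odd t ∧ ∃ χ ∈ B, Odd (f χ) ∧ ∀ g : G, (χ : G → ℂ) (g ^ (k ^ t)) = (χ : G → ℂ) g := by
  classical
  have hbij : Function.Bijective (powIrr (G := G) k hk) :=
    Finite.injective_iff_bijective.mp (powIrr_injective k hk)
  obtain ⟨σ, hσ⟩ : ∃ σ : Equiv.Perm (Cfsg.IrrCharacter G), σ = Equiv.ofBijective _ hbij :=
    ⟨_, rfl⟩
  have hσa : ∀ χ, σ χ = powIrr k hk χ := by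
    intro χ
    rw [hσ]
    rfl
  have hσpow : ∀ (m : ℕ) χ, (σ ^ m) χ = (powIrr k hk)^[m] χ := by
    intro m
    induction m with
    | zero => intro χ; simp
    | succ m ih =>
      intro χ
      rw [pow_succ', Equiv.Perm.mul_apply, ih, hσa, Function.iterate_succ_apply']
  have hord : orderOf σ ≠ 0 := (orderOf_pos σ).ne'
  obtain ⟨s, t, ht, hst⟩ := Nat.exists_eq_two_pow_mul_odd hord
  refine ⟨t, ht, ?_⟩
  -- stability under iterates
  have hstab' : ∀ (m : ℕ) χ, χ ∈ B → (powIrr k hk)^[m] χ ∈ B := by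
    intro m
    induction m with
    | zero => intro χ h; exact h
    | succ m ih =>
      intro χ h
      rw [Function.iterate_succ_apply']
      exact hstab _ (ih χ h)
  have hf' : ∀ (m : ℕ) χ, f ((powIrr k hk)^[m] χ) = f χ := by
    intro m
    induction m with
    | zero => intro χ; rfl
    | succ m ih =>
      intro χ
      rw [Function.iterate_succ_apply', hf, ih]
  obtain ⟨τ, hτ⟩ : ∃ τ : Function.End {χ : Cfsg.IrrCharacter G // χ ∈ B ∧ Odd (f χ)},
      τ = fun x => ⟨(powIrr k hk)^[t] x.1, hstab' t x.1 x.2.1, by rw [hf' t x.1]; exact x.2.2⟩ :=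
    ⟨_, rfl⟩
  have hτpow : ∀ (m : ℕ) (x : {χ : Cfsg.IrrCharacter G // χ ∈ B ∧ Odd (f χ)}),
      ((τ ^ m) x).1 = (powIrr k hk)^[t * m] x.1 := by
    intro m
    induction m with
    | zero => intro x; rfl
    | succ m ih =>
      intro x
      rw [pow_succ]
      show ((τ ^ m) (τ x)).1 = _
      rw [ih, hτ]
      simp only
      rw [← Function.iterate_add_apply, mul_add, mul_one]
  have hτ1 : τ ^ 2 ^ s = 1 := by
    funext x
    apply Subtype.ext
    rw [hτpow, ← hσpow, mul_comm, ← hst, pow_orderOf_eq_one]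
    rfl
  have : Fact (Nat.Prime 2) := ⟨Nat.prime_two⟩
  have h1 : Nat.card {χ : Cfsg.IrrCharacter G // χ ∈ B ∧ Odd (f χ)}
      ≡ Nat.card (Function.fixedPoints τ) [MOD 2] := by
    have h0 := Equiv.Perm.card_fixedPoints_modEq (p := 2) (n := s) hτ1
    rw [Nat.card_eq_fintype_card, Nat.card_eq_fintype_card]
    convert h0
  have h2 : Odd (Nat.card {χ : Cfsg.IrrCharacter G // χ ∈ B ∧ Odd (f χ)}) := by
    rw [Nat.card_eq_fintype_card, Fintype.card_subtype]
    rw [Finset.odd_sum_iff_odd_card_odd] at hodd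
    have : (Finset.univ.filter (fun χ : Cfsg.IrrCharacter G => χ ∈ B ∧ Odd (f χ)))
        = (Finset.univ.filter (· ∈ B)).filter (fun χ => Odd (f χ)) := by
      rw [Finset.filter_filter]
    rw [this]
    exact hodd
  have h3 : Odd (Nat.card (Function.fixedPoints τ)) := by
    rw [Nat.odd_iff] at h2 ⊢
    rw [← h2]
    exact h1.symm
  have h4 : 0 < Nat.card (Function.fixedPoints τ) := h3.pos
  obtain ⟨⟨x, hx⟩⟩ := (Nat.card_pos_iff.mp h4).1
  refine ⟨x.1, x.2.1, x.2.2, ?_⟩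
  intro g
  have h5 : τ x = x := hx
  have h6 := congrArg (fun y : {χ : Cfsg.IrrCharacter G // χ ∈ B ∧ Odd (f χ)} =>
    ((y.1 : Cfsg.IrrCharacter G) : G → ℂ) g) h5
  rw [hτ] at h6
  simp only at h6
  rw [powIrr_iterate] at h6
  exact h6

end galoisPerm

end Cfsg.Agent.Lib.Helper6
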