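import Mathlib
import Cfsg.Prelude.Def_Characters
import Cfsg.Agent.Lib.Helper6.DegreeDvd
import Cfsg.Agent.Lib.Helper6.FiniteOrder
import Cfsg.Agent.Lib.Helper6.GaloisPerm

/-! # Rationality from invariance under the Galois action on roots of unity -/

namespace Cfsg.Agent.Lib.Helper6

open Polynomial
open scoped ComplexConjugate

set_option backward.isDefEq.respectTransparency false in
/-- a sum of `n`-th roots of unity invariant under all the power maps `k ∈ (ℤ/n)ˣ` is a rational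
integer -/
theorem exists_int_of_pow_invariant {ι : Type*} [Fintype ι] (n : ℕ) [NeZero n] (μ : ι → ℂ)
    (hμ : ∀ i, μ i ^ n = 1)
    (hinv : ∀ k : (ZMod n)ˣ, ∑ i, μ i ^ (k : ZMod n).val = ∑ i, μ i) :
    ∃ z : ℤ, ∑ i, μ i = (z : ℂ) := by
  have hn : 0 < n := Nat.pos_of_ne_zero (NeZero.ne n)
  have hζ : IsPrimitiveRoot (IsCyclotomicExtension.zeta n ℚ (CyclotomicField n ℚ)) n :=
    IsCyclotomicExtension.zeta_spec n ℚ (CyclotomicField n ℚ)
  set ζ := IsCyclotomicExtension.zeta n ℚ (CyclotomicField n ℚ) with hζdef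
  have : FiniteDimensional ℚ (CyclotomicField n ℚ) :=
    IsCyclotomicExtension.finiteDimensional {n} ℚ (CyclotomicField n ℚ)
  have : IsGalois ℚ (CyclotomicField n ℚ) :=
    IsCyclotomicExtension.isGalois {n} ℚ (CyclotomicField n ℚ)
  let φ : (CyclotomicField n ℚ) →ₐ[ℚ] ℂ := IsAlgClosed.lift
  have hφinj : Function.Injective φ := φ.toRingHom.injective
  have hξ : IsPrimitiveRoot (φ ζ) n := hζ.map_of_injective hφinj
  have ha : ∀ i, ∃ a < n, (φ ζ) ^ a = μ i := fun i => hξ.eq_pow_of_pow_eq_one (hμ i)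
  choose a han ha using ha
  set α : (CyclotomicField n ℚ) := ∑ i, ζ ^ a i with hα
  have hirr : Irreducible (cyclotomic n ℚ) := cyclotomic.irreducible_rat hn
  have hσ : ∀ σ : Gal((CyclotomicField n ℚ)/ℚ), φ (σ α) =
      ∑ i, μ i ^ ((IsCyclotomicExtension.autEquivPow (CyclotomicField n ℚ) hirr σ :
        (ZMod n)ˣ) : ZMod n).val := by
    intro σ
    have h1 : σ ζ = ζ ^ ((IsCyclotomicExtension.autEquivPow (CyclotomicField n ℚ) hirr σ :
        (ZMod n)ˣ) : ZMod n).val := by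
      have := hζ.autToPow_spec ℚ σ
      rw [← this]
      rfl
    simp only [hα, map_sum, map_pow, h1]
    refine Finset.sum_congr rfl fun i _ => ?_
    rw [← ha i, ← pow_mul, ← pow_mul, mul_comm]
  have hφα : φ α = ∑ i, μ i := by
    simp only [hα, map_sum, map_pow, ha]
  have hfix : ∀ σ : Gal((CyclotomicField n ℚ)/ℚ), σ α = α := by
    intro σ
    apply hφinj
    rw [hσ σ, hinv, hφα]
  obtain ⟨q, hq⟩ := (IsGalois.mem_range_algebraMap_iff_fixed α).mpr hfix
  have h1 : ∑ i, μ i = (q : ℂ) := by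
    rw [← hφα, ← hq, AlgHom.commutes]
    rfl
  have h2 : IsIntegral ℤ (q : ℂ) := by
    rw [← h1]
    apply IsIntegral.sum
    intro i _
    apply IsIntegral.of_pow hn
    rw [hμ i]
    exact isIntegral_one
  obtain ⟨m, hm⟩ := int_of_isIntegral_ratCast h2
  refine ⟨m, ?_⟩
  rw [h1, ← hm]
  simp

section chars

variable {G : Type*} [Group G]

/-- the values of a character at the powers of an element are the power sums of finitely many
roots of unity -/
theorem IsCharacter.exists_eigen_pow {χ : G → ℂ} (hχ : Cfsg.IsCharacter G χ) (x : G) (n : ℕ)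
    (hn : 0 < n) (hx : x ^ n = 1) :
    ∃ (m : ℕ) (μ : Fin m → ℂ), (∀ i, μ i ^ n = 1) ∧ ∀ k : ℕ, χ (x ^ k) = ∑ i, μ i ^ k := by
  obtain ⟨d, ρ, rfl⟩ := hχ
  have h1 : (ρ x) ^ n = 1 := by rw [← map_pow, hx, map_one]
  obtain ⟨ι, _, b, μ, hb, hμ⟩ := exists_eigenbasis_of_pow_eq_one hn h1
  have hpow : ∀ (k : ℕ) (i : ι), ρ (x ^ k) (b i) = (μ i ^ k) • b i := by
    intro k i
    induction k with
    | zero => simp
    | succ k ih =>
      rw [pow_succ, map_mul, Module.End.mul_apply, hb i, map_smul, ih, smul_smul, pow_succ,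
        mul_comm]
  refine ⟨Fintype.card ι, fun j => μ ((Fintype.equivFin ι).symm j), fun j => hμ _, ?_⟩
  intro k
  have h2 := trace_eq_sum_of_eigenbasis b (fun i => μ i ^ k) (ρ (x ^ k)) (hpow k)
  unfold Representation.character
  rw [h2]
  exact (Equiv.sum_comp (Fintype.equivFin ι).symm (fun i => μ i ^ k)).symm

variable [Fintype G]

/-- the sum of `χ(x) conj χ(x)` over a Galois stable set of irreducible characters is a rational
integer -/
theorem exists_int_sum_mul_conj_of_powIrr_stable (S : Finset (Cfsg.IrrCharacter G))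
    (hS : ∀ (k : ℕ) (hk : Nat.Coprime k (Nat.card G)), ∀ χ ∈ S, powIrr k hk χ ∈ S) (x : G) :
    ∃ z : ℤ, ∑ χ ∈ S, (χ : G → ℂ) x * conj ((χ : G → ℂ) x) = (z : ℂ) := by
  classical
  obtain ⟨n, hndef⟩ : ∃ n : ℕ, n = Nat.card G := ⟨_, rfl⟩
  have hn : 0 < n := by rw [hndef]; exact Nat.card_pos
  haveI : NeZero n := ⟨hn.ne'⟩
  have hx : x ^ n = 1 := by rw [hndef]; exact pow_card_eq_one'
  have hdata : ∀ χ : S, ∃ (m : ℕ) (μ : Fin m → ℂ), (∀ i, μ i ^ n = 1) ∧
      ∀ k : ℕ, ((χ : Cfsg.IrrCharacter G) : G → ℂ) (x ^ k) = ∑ i, μ i ^ k := fun χ =>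
    IsCharacter.exists_eigen_pow (IsIrrCharacter.isCharacter χ.1.2) x n hn hx
  choose m μ hμ hval using hdata
  obtain ⟨ν, hν⟩ : ∃ ν : ((χ : S) × (Fin (m χ) × Fin (m χ))) → ℂ,
      ν = fun t => μ t.1 t.2.1 * conj (μ t.1 t.2.2) := ⟨_, rfl⟩
  have hνn : ∀ t, ν t ^ n = 1 := by
    intro t
    rw [hν]
    simp only
    rw [mul_pow, ← map_pow, hμ, hμ, map_one, mul_one]
  have hsumk : ∀ k : ℕ, ∑ t, ν t ^ k
      = ∑ χ ∈ S, (χ : G → ℂ) (x ^ k) * conj ((χ : G → ℂ) (x ^ k)) := by
    intro k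
    rw [Fintype.sum_sigma, ← Finset.sum_coe_sort S
      (fun χ => (χ : G → ℂ) (x ^ k) * conj ((χ : G → ℂ) (x ^ k)))]
    apply Finset.sum_congr rfl
    intro χ _
    rw [Fintype.sum_prod_type, hval χ k, map_sum, Finset.sum_mul_sum]
    apply Finset.sum_congr rfl
    intro i _
    apply Finset.sum_congr rfl
    intro j _
    rw [hν]
    simp only
    rw [mul_pow, map_pow]
  have hinv : ∀ k : (ZMod n)ˣ, ∑ t, ν t ^ (k : ZMod n).val = ∑ t, ν t := by
    intro k
    have hcop : Nat.Coprime (k : ZMod n).val (Nat.card G) := by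
      rw [← hndef]; exact ZMod.val_coe_unit_coprime k
    have h1 := hsumk (k : ZMod n).val
    have h2 := hsumk 1
    simp only [pow_one] at h2
    rw [h1, h2]
    have hinj := powIrr_injective (G := G) (k : ZMod n).val hcop
    have himg : S.image (powIrr (k : ZMod n).val hcop) = S := by
      apply Finset.eq_of_subset_of_card_le
      · intro ψ hψ
        obtain ⟨χ, hχ, rfl⟩ := Finset.mem_image.mp hψ
        exact hS _ hcop χ hχ
      · rw [Finset.card_image_of_injective _ hinj]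
    conv_rhs => rw [← himg]
    rw [Finset.sum_image (fun a _ b _ h => hinj h)]
    rfl
  obtain ⟨z, hz⟩ := exists_int_of_pow_invariant n ν hνn hinv
  refine ⟨z, ?_⟩
  have h2 := hsumk 1
  simp only [pow_one] at h2
  rw [← h2, hz]

end chars

end Cfsg.Agent.Lib.Helper6
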