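import Mathlib
import Cfsg.Agent.Lib.Helper6.GaloisRat

/-! # Number theoretic lemmas for Schur's bound on Sylow subgroups of groups with a
`p`-rational faithful character -/

set_option autoImplicit false

namespace Cfsg.Agent.Lib.Helper6

open Polynomial
open scoped ComplexConjugate

set_option backward.isDefEq.respectTransparency false in
/-- a sum of `q`-th roots of unity lying in `ℚ(ζ_r)`, `gcd(r, q) = 1`, is invariant under the
power maps prime to `q` -/
theorem sum_pow_eq_of_mem_adjoin {ι : Type*} [Fintype ι] (r q : ℕ) (hr : 0 < r) (hq : 0 < q)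
    (hrq : Nat.Coprime r q) (μ : ι → ℂ) (hμ : ∀ i, μ i ^ q = 1)
    (hmem : ∑ i, μ i ∈ IntermediateField.adjoin ℚ
      ({Complex.exp (2 * Real.pi * Complex.I / r)} : Set ℂ))
    (j : ℕ) (hj : Nat.Coprime j q) : ∑ i, μ i ^ j = ∑ i, μ i := by
  obtain ⟨N, hNdef⟩ : ∃ N : ℕ, N = r * q := ⟨_, rfl⟩
  have hN : 0 < N := by rw [hNdef]; positivity
  haveI : NeZero N := ⟨hN.ne'⟩
  have hζ : IsPrimitiveRoot (IsCyclotomicExtension.zeta N ℚ (CyclotomicField N ℚ)) N :=
    IsCyclotomicExtension.zeta_spec N ℚ (CyclotomicField N ℚ)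
  set ζ := IsCyclotomicExtension.zeta N ℚ (CyclotomicField N ℚ) with hζdef
  have : FiniteDimensional ℚ (CyclotomicField N ℚ) :=
    IsCyclotomicExtension.finiteDimensional {N} ℚ (CyclotomicField N ℚ)
  have : IsGalois ℚ (CyclotomicField N ℚ) :=
    IsCyclotomicExtension.isGalois {N} ℚ (CyclotomicField N ℚ)
  let φ : (CyclotomicField N ℚ) →ₐ[ℚ] ℂ := IsAlgClosed.lift
  have hφinj : Function.Injective φ := φ.toRingHom.injective
  have hξ : IsPrimitiveRoot (φ ζ) N := hζ.map_of_injective hφinj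
  have hξq : IsPrimitiveRoot ((φ ζ) ^ r) q := IsPrimitiveRoot.pow hN hξ hNdef
  have hξr : IsPrimitiveRoot ((φ ζ) ^ q) r :=
    IsPrimitiveRoot.pow hN hξ (by rw [hNdef, mul_comm])
  haveI : NeZero q := ⟨hq.ne'⟩
  haveI : NeZero r := ⟨hr.ne'⟩
  have ha : ∀ i, ∃ a < q, ((φ ζ) ^ r) ^ a = μ i := fun i => hξq.eq_pow_of_pow_eq_one (hμ i)
  choose a haq ha using ha
  obtain ⟨α, hα⟩ : ∃ α : CyclotomicField N ℚ, α = ∑ i, (ζ ^ r) ^ a i := ⟨_, rfl⟩
  have hφα : φ α = ∑ i, μ i := by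
    simp only [hα, map_sum, map_pow, ha]
  have hexp : Complex.exp (2 * Real.pi * Complex.I / r) ∈
      IntermediateField.adjoin ℚ ({(φ ζ) ^ q} : Set ℂ) := by
    have h1 : (Complex.exp (2 * Real.pi * Complex.I / r)) ^ r = 1 :=
      (Complex.isPrimitiveRoot_exp r hr.ne').pow_eq_one
    obtain ⟨t, _, ht⟩ := hξr.eq_pow_of_pow_eq_one h1
    rw [← ht]
    exact pow_mem (IntermediateField.subset_adjoin ℚ _ (Set.mem_singleton _)) t
  have hle : IntermediateField.adjoin ℚ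
      ({Complex.exp (2 * Real.pi * Complex.I / r)} : Set ℂ) ≤
      IntermediateField.adjoin ℚ ({(φ ζ) ^ q} : Set ℂ) := by
    rw [IntermediateField.adjoin_le_iff]
    intro x hx
    rw [Set.mem_singleton_iff] at hx
    rw [hx]
    exact hexp
  have hmap : IntermediateField.adjoin ℚ ({(φ ζ) ^ q} : Set ℂ) =
      (IntermediateField.adjoin ℚ ({ζ ^ q} : Set (CyclotomicField N ℚ))).map φ := by
    rw [IntermediateField.adjoin_map, Set.image_singleton, map_pow]
  have hαmem : α ∈ IntermediateField.adjoin ℚ ({ζ ^ q} : Set (CyclotomicField N ℚ)) := by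
    have h1 := hle hmem
    rw [hmap] at h1
    obtain ⟨β, hβ, hβα⟩ := h1
    have h2 : β = α := hφinj (by rw [hφα]; exact hβα)
    rwa [← h2]
  -- the exponent
  obtain ⟨k0, hk0q, hk0r⟩ := Nat.chineseRemainder hrq.symm j 1
  obtain ⟨k, hkdef⟩ : ∃ k : ℕ, k = k0 + N := ⟨_, rfl⟩
  have hkq : k ≡ j [MOD q] := by
    refine Nat.ModEq.trans ?_ hk0q
    unfold Nat.ModEq
    rw [hkdef, hNdef, Nat.add_mul_mod_self_right]
  have hkr : k ≡ 1 [MOD r] := by
    refine Nat.ModEq.trans ?_ hk0r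
    unfold Nat.ModEq
    rw [hkdef, hNdef, Nat.add_mul_mod_self_left]
  have hkN : Nat.Coprime k N := by
    rw [hNdef]
    apply Nat.Coprime.mul_right
    · unfold Nat.Coprime
      rw [hkr.gcd_eq]
      simp
    · unfold Nat.Coprime
      rw [hkq.gcd_eq]
      exact hj
  have hirr : Irreducible (cyclotomic N ℚ) := cyclotomic.irreducible_rat hN
  obtain ⟨σ, hσ⟩ : ∃ σ : Gal((CyclotomicField N ℚ)/ℚ), σ ζ = ζ ^ k := by
    refine ⟨(IsCyclotomicExtension.autEquivPow (CyclotomicField N ℚ) hirr).symm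
      (ZMod.unitOfCoprime k hkN), ?_⟩
    have h1 : ∀ τ : Gal((CyclotomicField N ℚ)/ℚ), τ ζ =
        ζ ^ ((IsCyclotomicExtension.autEquivPow (CyclotomicField N ℚ) hirr τ :
          (ZMod N)ˣ) : ZMod N).val := by
      intro τ
      have := hζ.autToPow_spec ℚ τ
      rw [← this]
      rfl
    rw [h1, MulEquiv.apply_symm_apply, ZMod.coe_unitOfCoprime, ZMod.val_natCast]
    exact (pow_eq_pow_mod k hζ.pow_eq_one).symm
  have hζqr : (ζ ^ q) ^ r = 1 := by
    rw [← pow_mul, mul_comm, ← hNdef]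
    exact hζ.pow_eq_one
  have hσq : σ (ζ ^ q) = ζ ^ q := by
    rw [map_pow, hσ, ← pow_mul, mul_comm, pow_mul, pow_eq_pow_mod k hζqr, hkr,
      ← pow_eq_pow_mod 1 hζqr, pow_one]
  have hfix : σ α = α := by
    have h2 : IntermediateField.adjoin ℚ ({ζ ^ q} : Set (CyclotomicField N ℚ)) ≤
        IntermediateField.fixedField
          (MulAction.stabilizer (Gal((CyclotomicField N ℚ)/ℚ)) (ζ ^ q)) := by
      rw [IntermediateField.adjoin_le_iff]
      intro x hx
      rw [Set.mem_singleton_iff] at hx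
      rw [hx]
      rw [SetLike.mem_coe, IntermediateField.mem_fixedField_iff]
      intro τ hτ
      exact MulAction.mem_stabilizer_iff.mp hτ
    have h3 := (IntermediateField.mem_fixedField_iff _ _).mp (h2 hαmem)
    apply h3 σ
    rw [MulAction.mem_stabilizer_iff]
    exact hσq
  have h5 : φ (σ α) = ∑ i, μ i ^ j := by
    simp only [hα, map_sum, map_pow, hσ]
    refine Finset.sum_congr rfl fun i _ => ?_
    rw [← ha i]
    have h6 : ((φ ζ) ^ r) ^ k = ((φ ζ) ^ r) ^ j := by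
      rw [pow_eq_pow_mod k hξq.pow_eq_one, pow_eq_pow_mod j hξq.pow_eq_one, hkq]
    calc ((φ ζ ^ k) ^ r) ^ a i = (((φ ζ) ^ r) ^ k) ^ a i := by ring
      _ = (((φ ζ) ^ r) ^ j) ^ a i := by rw [h6]
      _ = (((φ ζ) ^ r) ^ a i) ^ j := by ring
  rw [← h5, hfix, hφα]

theorem geom_sum_root (μ : ℂ) (n : ℕ) (hμ : μ ^ n = 1) :
    ∑ k ∈ Finset.range n, μ ^ k = if μ = 1 then (n : ℂ) else 0 := by
  split_ifs with h
  · rw [h]; simp
  · have h1 := mul_geom_sum μ n
    rw [hμ, sub_self] at h1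
    exact (mul_eq_zero.mp h1).resolve_left (sub_ne_zero.mpr h)

/-- Ramanujan sums at prime powers -/
theorem sum_filter_not_dvd_pow (p m : ℕ) (hp : p.Prime) (μ : ℂ) (hμ : μ ^ (p ^ (m + 1)) = 1) :
    ∑ k ∈ (Finset.range (p ^ (m + 1))).filter (fun k => ¬ p ∣ k), μ ^ k
      = (if μ = 1 then ((p ^ (m + 1) : ℕ) : ℂ) else 0)
        - (if μ ^ p = 1 then ((p ^ m : ℕ) : ℂ) else 0) := by
  have h1 := Finset.sum_filter_add_sum_filter_not (Finset.range (p ^ (m + 1)))
    (fun k => p ∣ k) (fun k => μ ^ k)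
  have h2 : ∑ k ∈ (Finset.range (p ^ (m + 1))).filter (fun k => p ∣ k), μ ^ k
      = ∑ k ∈ Finset.range (p ^ m), (μ ^ p) ^ k := by
    symm
    apply Finset.sum_nbij' (fun k => p * k) (fun k => k / p)
    · intro k hk
      rw [Finset.mem_range] at hk
      rw [Finset.mem_filter, Finset.mem_range]
      refine ⟨?_, dvd_mul_right p k⟩
      calc p * k < p * p ^ m := Nat.mul_lt_mul_of_pos_left hk hp.pos
        _ = p ^ (m + 1) := by ring
    · intro k hk
      rw [Finset.mem_filter, Finset.mem_range] at hk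
      rw [Finset.mem_range]
      apply Nat.div_lt_of_lt_mul
      calc k < p ^ (m + 1) := hk.1
        _ = p * p ^ m := by ring
    · intro k _
      exact Nat.mul_div_cancel_left k hp.pos
    · intro k hk
      rw [Finset.mem_filter] at hk
      exact Nat.mul_div_cancel' hk.2
    · intro k _
      exact (pow_mul μ p k).symm
  have h3 : (μ ^ p) ^ (p ^ m) = 1 := by
    rw [← pow_mul, ← pow_succ']
    exact hμ
  rw [geom_sum_root μ _ hμ, h2, geom_sum_root (μ ^ p) _ h3] at h1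
  rw [← h1]
  ring

theorem exists_sum_pow_prime_pow {R : Type*} [CommRing R] {ι : Type*} (p m : ℕ)
    (hp : p.Prime) (s : Finset ι) (a : ι → R) :
    ∃ r : R, (∑ i ∈ s, a i) ^ p ^ m = ∑ i ∈ s, a i ^ p ^ m + p * r := by
  classical
  induction s using Finset.induction_on with
  | empty =>
    refine ⟨0, ?_⟩
    simp [zero_pow (pow_ne_zero m hp.ne_zero)]
  | insert i s hi ih =>
    obtain ⟨r, hr⟩ := ih
    obtain ⟨r', hr'⟩ := exists_add_pow_prime_pow_eq hp (a i) (∑ j ∈ s, a j) m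
    refine ⟨r + a i * (∑ j ∈ s, a j) * r', ?_⟩
    rw [Finset.sum_insert hi, Finset.sum_insert hi, hr', hr]
    ring

/-- a rational integer which is a sum of `p`-power roots of unity is congruent to the number of
summands modulo `p` -/
theorem int_modEq_card_of_sum_roots {ι : Type*} [Fintype ι] (p m : ℕ) (hp : p.Prime)
    (μ : ι → ℂ) (hμ : ∀ i, μ i ^ (p ^ m) = 1) (z : ℤ) (hz : ∑ i, μ i = (z : ℂ)) :
    z ≡ (Fintype.card ι : ℤ) [ZMOD p] := by
  have hint : ∀ i, IsIntegral ℤ (μ i) := fun i =>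
    IsIntegral.of_pow (pow_pos hp.pos m) (by rw [hμ i]; exact isIntegral_one)
  obtain ⟨a, ha⟩ : ∃ a : ι → integralClosure ℤ ℂ, ∀ i, ((a i : integralClosure ℤ ℂ) : ℂ) = μ i :=
    ⟨fun i => ⟨μ i, hint i⟩, fun i => rfl⟩
  obtain ⟨r, hr⟩ := exists_sum_pow_prime_pow p m hp Finset.univ a
  have h1 : (z : ℂ) ^ p ^ m = (Fintype.card ι : ℂ) + p * (r : ℂ) := by
    have h2 := congrArg (fun x : integralClosure ℤ ℂ => (x : ℂ)) hr
    simp only [Subalgebra.coe_pow, Subalgebra.coe_add, Subalgebra.coe_mul,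
      AddSubmonoidClass.coe_finsetSum, SubringClass.coe_natCast, ha, hμ] at h2
    rw [hz] at h2
    rw [h2]
    simp
  have hp0 : (p : ℂ) ≠ 0 := Nat.cast_ne_zero.mpr hp.ne_zero
  have h3 : (r : ℂ) = ((((z ^ p ^ m - (Fintype.card ι : ℤ) : ℤ) : ℚ) / (p : ℚ) : ℚ) : ℂ) := by
    push_cast
    rw [eq_div_iff hp0]
    linear_combination (-1 : ℂ) * h1
  have h4 : IsIntegral ℤ ((((z ^ p ^ m - (Fintype.card ι : ℤ) : ℤ) : ℚ) / (p : ℚ) : ℚ) : ℂ) := by
    rw [← h3]
    exact r.2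
  obtain ⟨w, hw⟩ := int_of_isIntegral_ratCast h4
  have hpq : (p : ℚ) ≠ 0 := Nat.cast_ne_zero.mpr hp.ne_zero
  have h5 : z ^ p ^ m - (Fintype.card ι : ℤ) = w * p := by
    have h6 : ((z ^ p ^ m - (Fintype.card ι : ℤ) : ℤ) : ℚ) = (w : ℚ) * (p : ℚ) := by
      rw [hw, div_mul_cancel₀ _ hpq]
    exact_mod_cast h6
  -- Fermat
  haveI : Fact p.Prime := ⟨hp⟩
  have h7 : ((z ^ p ^ m : ℤ) : ZMod p) = (z : ZMod p) := by
    rw [Int.cast_pow, ZMod.pow_card_pow]
  have h8 : ((z ^ p ^ m : ℤ) : ZMod p) = ((Fintype.card ι : ℤ) : ZMod p) := by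
    have : z ^ p ^ m = (Fintype.card ι : ℤ) + w * p := by linarith
    rw [this]
    simp
  rw [← ZMod.intCast_eq_intCast_iff]
  rw [← h7, h8]

end Cfsg.Agent.Lib.Helper6
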