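import Mathlib
import Cfsg.Agent.Lib.Helper6.SchurRat
import Cfsg.Agent.Lib.Helper6.Constituent
import Cfsg.Agent.Lib.Helper6.FiniteOrder

/-! # Values of a `p`-rational character on `p`-elements -/

set_option autoImplicit false

namespace Cfsg.Agent.Lib.Helper6

open scoped ComplexConjugate

theorem sum_ite_const_zero {ι : Type*} [Fintype ι] (P : ι → Prop) [DecidablePred P] (c : ℂ) :
    ∑ i, (if P i then c else 0) = ((Finset.univ.filter P).card : ℂ) * c := by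
  rw [← Finset.sum_filter, Finset.sum_const, nsmul_eq_mul]

theorem schur_element_facts {G : Type*} [Group G] (p : ℕ) (hp : p.Prime) {χ : G → ℂ}
    (hχ : Cfsg.IsCharacter G χ) (r : ℕ) (hr0 : 0 < r) (hpr : ¬ p ∣ r)
    (hval : ∀ g : G, χ g ∈ IntermediateField.adjoin ℚ
      ({Complex.exp (2 * Real.pi * Complex.I / r)} : Set ℂ))
    (n : ℕ) (hn : χ 1 = (n : ℂ)) (x : G) (m : ℕ) (hx : x ^ (p ^ (m + 1)) = 1) :
    ∃ z : ℤ, χ x = (z : ℂ) ∧ z ≡ (n : ℤ) [ZMOD p] ∧ -(n : ℤ) ≤ ((p : ℤ) - 1) * z ∧ z ≤ n := by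
  classical
  obtain ⟨q, hqdef⟩ : ∃ q, q = p ^ (m + 1) := ⟨_, rfl⟩
  have hq : 0 < q := by rw [hqdef]; exact pow_pos hp.pos _
  obtain ⟨d, μ, hμ, hk⟩ := IsCharacter.exists_eigen_pow hχ x q hq (by rw [hqdef]; exact hx)
  have hd : d = n := by
    have h0 := hk 0
    simp only [pow_zero, Finset.sum_const, Finset.card_univ, Fintype.card_fin, nsmul_eq_mul,
      mul_one] at h0
    rw [hn] at h0
    exact_mod_cast h0.symm
  have hs : χ x = ∑ i, μ i := by
    have := hk 1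
    simpa using this
  have hcop : Nat.Coprime r q := by
    rw [hqdef]
    exact Nat.Coprime.pow_right _ ((Nat.Prime.coprime_iff_not_dvd hp).mpr hpr).symm
  have hinv : ∀ j, Nat.Coprime j q → ∑ i, μ i ^ j = ∑ i, μ i := fun j hj =>
    sum_pow_eq_of_mem_adjoin r q hr0 hq hcop μ hμ (by rw [← hs]; exact hval x) j hj
  haveI : NeZero q := ⟨hq.ne'⟩
  obtain ⟨z, hz⟩ := exists_int_of_pow_invariant q μ hμ
    (fun k => hinv _ (ZMod.val_coe_unit_coprime k))
  have hμ' : ∀ i, μ i ^ p ^ (m + 1) = 1 := by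
    intro i; rw [← hqdef]; exact hμ i
  refine ⟨z, by rw [hs, hz], ?_, ?_, ?_⟩
  · have := int_modEq_card_of_sum_roots p (m + 1) hp μ hμ' z hz
    simpa [hd] using this
  · obtain ⟨F, hF⟩ : ∃ F : Finset ℕ, F = (Finset.range (p ^ (m + 1))).filter (fun k => ¬ p ∣ k) :=
      ⟨_, rfl⟩
    have hsum : ∑ k ∈ F, ∑ i, μ i ^ k = ∑ k ∈ F, (z : ℂ) := by
      apply Finset.sum_congr rfl
      intro k hk
      rw [hF, Finset.mem_filter] at hk
      rw [hinv k ?_, hz]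
      rw [hqdef]
      exact Nat.Coprime.pow_right _ ((Nat.Prime.coprime_iff_not_dvd hp).mpr hk.2).symm
    rw [Finset.sum_comm] at hsum
    have hL : ∑ i, ∑ k ∈ F, μ i ^ k = ∑ i, ((if μ i = 1 then ((p ^ (m + 1) : ℕ) : ℂ) else 0)
        - (if μ i ^ p = 1 then ((p ^ m : ℕ) : ℂ) else 0)) := by
      apply Finset.sum_congr rfl
      intro i _
      rw [hF]
      exact sum_filter_not_dvd_pow p m hp (μ i) (hμ' i)
    have hcard : ((F.card : ℕ) : ℂ) = ((p ^ (m + 1) : ℕ) : ℂ) - ((p ^ m : ℕ) : ℂ) := by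
      have h1 := sum_filter_not_dvd_pow p m hp 1 (one_pow _)
      rw [← hF] at h1
      simpa using h1
    rw [hL, Finset.sum_const, nsmul_eq_mul, hcard, Finset.sum_sub_distrib,
      sum_ite_const_zero, sum_ite_const_zero] at hsum
    obtain ⟨n0, hn0⟩ : ∃ n0 : ℕ, n0 = (Finset.univ.filter (fun i => μ i = 1)).card := ⟨_, rfl⟩
    obtain ⟨n1, hn1⟩ : ∃ n1 : ℕ, n1 = (Finset.univ.filter (fun i => μ i ^ p = 1)).card :=
      ⟨_, rfl⟩
    rw [← hn0, ← hn1] at hsum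
    have hn1le : n1 ≤ n := by
      rw [hn1, ← hd]
      calc (Finset.univ.filter (fun i => μ i ^ p = 1)).card ≤ (Finset.univ : Finset (Fin d)).card :=
            Finset.card_filter_le _ _
        _ = d := by rw [Finset.card_univ, Fintype.card_fin]
    have hZ : (n0 : ℤ) * (p : ℤ) ^ (m + 1) - (n1 : ℤ) * (p : ℤ) ^ m
        = ((p : ℤ) ^ (m + 1) - (p : ℤ) ^ m) * z := by
      have : ((n0 : ℂ)) * ((p ^ (m + 1) : ℕ) : ℂ) - (n1 : ℂ) * ((p ^ m : ℕ) : ℂ)
          = (((p ^ (m + 1) : ℕ) : ℂ) - ((p ^ m : ℕ) : ℂ)) * (z : ℂ) := hsum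
      exact_mod_cast this
    have hpm : (p : ℤ) ^ m ≠ 0 := pow_ne_zero _ (Int.natCast_ne_zero.mpr hp.ne_zero)
    have hZ2 : (p : ℤ) ^ m * (((p : ℤ) - 1) * z) = (p : ℤ) ^ m * ((n0 : ℤ) * p - n1) := by
      rw [pow_succ] at hZ
      linear_combination (-1 : ℤ) * hZ
    have hZ3 := mul_left_cancel₀ hpm hZ2
    rw [hZ3]
    have h1 : (0 : ℤ) ≤ (n0 : ℤ) * p := by positivity
    have h2 : (n1 : ℤ) ≤ n := by exact_mod_cast hn1le
    linarith
  · have h1 : (z : ℝ) ≤ (n : ℝ) := by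
      have h2 : (z : ℝ) = (χ x).re := by rw [hs, hz]; simp
      rw [h2]
      calc (χ x).re ≤ ‖χ x‖ := Complex.re_le_norm _
        _ = ‖∑ i, μ i‖ := by rw [hs]
        _ ≤ ∑ i, ‖μ i‖ := norm_sum_le _ _
        _ = ∑ i : Fin d, (1 : ℝ) := by
          apply Finset.sum_congr rfl
          intro i _
          exact norm_eq_one_of_pow_eq_one hq (hμ i)
        _ = (n : ℝ) := by simp [hd]
    exact_mod_cast h1

end Cfsg.Agent.Lib.Helper6
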