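import Mathlib
import Cfsg.Agent.Lib.Helper6.SchurBound
import Cfsg.Agent.Lib.Helper6.GaloisRat
import Cfsg.Agent.Lib.Helper6.Linear
import Cfsg.Agent.Lib.Helper6.Multiplicity

/-! Character-theoretic and combinatorial lemmas for the `D₈`-centralizer theorem. -/

set_option autoImplicit false

namespace Cfsg.Agent.Lib.Helper6.D8C

open scoped ComplexConjugate

theorem fourth_root_cases {z : ℂ} (hz : z ^ 4 = 1) :
    z = 1 ∨ z = -1 ∨ z = Complex.I ∨ z = -Complex.I := by
  have h : (z - 1) * (z + 1) * ((z - Complex.I) * (z + Complex.I)) = 0 := by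
    have hI := Complex.I_mul_I
    have : (z - 1) * (z + 1) * ((z - Complex.I) * (z + Complex.I)) = z ^ 4 - 1 := by
      linear_combination (1 - z ^ 2) * hI
    rw [this, hz, sub_self]
  rcases mul_eq_zero.mp h with h1 | h1
  · rcases mul_eq_zero.mp h1 with h2 | h2
    · left; exact sub_eq_zero.mp h2
    · right; left; exact eq_neg_of_add_eq_zero_left h2
  · rcases mul_eq_zero.mp h1 with h2 | h2
    · right; right; left; exact sub_eq_zero.mp h2
    · right; right; right; exact eq_neg_of_add_eq_zero_left h2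

theorem one_ne_neg_one_c : (1 : ℂ) ≠ -1 := by
  intro h
  have := congrArg Complex.re h
  norm_num at this

theorem one_ne_I : (1 : ℂ) ≠ Complex.I := by
  intro h
  have := congrArg Complex.re h
  simp at this

theorem one_ne_neg_I : (1 : ℂ) ≠ -Complex.I := by
  intro h
  have := congrArg Complex.re h
  simp at this

theorem neg_one_ne_I : (-1 : ℂ) ≠ Complex.I := by
  intro h
  have := congrArg Complex.re h
  simp at this

theorem neg_one_ne_neg_I : (-1 : ℂ) ≠ -Complex.I := by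
  intro h
  have := congrArg Complex.re h
  simp at this

theorem I_ne_neg_I : Complex.I ≠ -Complex.I := by
  intro h
  have := congrArg Complex.im h
  simp at this
  norm_num at this

theorem sum_four_roots {m : ℕ} (μ : Fin m → ℂ) (hμ : ∀ i, μ i ^ 4 = 1) :
    ∃ a b c d : ℕ, ∀ g : ℂ → ℂ,
      ∑ i, g (μ i) = a * g 1 + b * g (-1) + c * g Complex.I + d * g (-Complex.I) := by
  classical
  refine ⟨(Finset.univ.filter (fun i => μ i = 1)).card,
    (Finset.univ.filter (fun i => μ i = -1)).card,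
    (Finset.univ.filter (fun i => μ i = Complex.I)).card,
    (Finset.univ.filter (fun i => μ i = -Complex.I)).card, ?_⟩
  intro g
  have hpt : ∀ i, g (μ i) = (if μ i = 1 then g 1 else 0) + (if μ i = -1 then g (-1) else 0)
      + (if μ i = Complex.I then g Complex.I else 0)
      + (if μ i = -Complex.I then g (-Complex.I) else 0) := by
    intro i
    rcases fourth_root_cases (hμ i) with h | h | h | h
    · rw [h, if_pos rfl, if_neg one_ne_neg_one_c, if_neg one_ne_I, if_neg one_ne_neg_I]; ring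
    · rw [h, if_neg one_ne_neg_one_c.symm, if_pos rfl, if_neg neg_one_ne_I, if_neg neg_one_ne_neg_I]
      ring
    · rw [h, if_neg one_ne_I.symm, if_neg neg_one_ne_I.symm, if_pos rfl, if_neg I_ne_neg_I]; ring
    · rw [h, if_neg one_ne_neg_I.symm, if_neg neg_one_ne_neg_I.symm, if_neg I_ne_neg_I.symm,
        if_pos rfl]; ring
  rw [Finset.sum_congr rfl (fun i _ => hpt i), Finset.sum_add_distrib, Finset.sum_add_distrib,
    Finset.sum_add_distrib, sum_ite_const_zero, sum_ite_const_zero, sum_ite_const_zero,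
    sum_ite_const_zero]

/-- values of a character on an element `s` with `s ^ 4 = 1` that is conjugate to its inverse -/
theorem order_four_values {G : Type*} [Group G] {χ : G → ℂ} (hχ : Cfsg.IsCharacter G χ) (s : G)
    (hs : s ^ 4 = 1) (hconj : χ s = χ (s ^ 3)) :
    ∃ n₁ n₂ n₃ : ℕ, χ 1 = (n₁ : ℂ) + n₂ + 2 * n₃ ∧ χ s = (n₁ : ℂ) - n₂ ∧
      χ (s ^ 2) = (n₁ : ℂ) + n₂ - 2 * n₃ := by
  obtain ⟨m, μ, hμ, hk⟩ := IsCharacter.exists_eigen_pow hχ s 4 (by norm_num) hs
  obtain ⟨a, b, c, d, habcd⟩ := sum_four_roots μ hμ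
  have hI2 : Complex.I ^ 2 = -1 := Complex.I_sq
  have hI3 : Complex.I ^ 3 = -Complex.I := by rw [pow_succ, hI2]; ring
  have h0 : χ 1 = (a : ℂ) + b + c + d := by
    have := hk 0
    rw [pow_zero] at this
    rw [this]
    have h2 := habcd (fun z => z ^ 0)
    simp only [pow_zero, mul_one] at h2
    exact h2
  have h1 : χ s = (a : ℂ) - b + c * Complex.I - d * Complex.I := by
    have := hk 1
    simp only [pow_one] at this
    rw [this]
    have h2 := habcd (fun z => z)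
    rw [h2]; ring
  have h2 : χ (s ^ 2) = (a : ℂ) + b - c - d := by
    rw [hk 2]
    have h2 := habcd (fun z => z ^ 2)
    rw [h2, neg_sq, neg_sq, hI2]; ring
  have h3 : χ (s ^ 3) = (a : ℂ) - b - c * Complex.I + d * Complex.I := by
    rw [hk 3]
    have h2 := habcd (fun z => z ^ 3)
    rw [h2]
    have e1 : (-1 : ℂ) ^ 3 = -1 := by norm_num
    have e2 : (-Complex.I) ^ 3 = Complex.I := by
      rw [neg_pow, hI3]; norm_num
    rw [e1, e2, hI3]; ring
  have hcd : (c : ℂ) = d := by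
    rw [h1, h3] at hconj
    have h4 : 2 * ((c : ℂ) - d) * Complex.I = 0 := by linear_combination hconj
    rcases mul_eq_zero.mp h4 with h5 | h5
    · rcases mul_eq_zero.mp h5 with h6 | h6
      · norm_num at h6
      · exact sub_eq_zero.mp h6
    · exact absurd h5 Complex.I_ne_zero
  refine ⟨a, b, c, ?_, ?_, ?_⟩
  · rw [h0, ← hcd]; ring
  · rw [h1, ← hcd]; ring
  · rw [h2, ← hcd]; ring

/-- a linear character of a perfect group is trivial -/
theorem linear_trivial_of_perfect {G : Type*} [Group G] (hperf : commutator G = ⊤) {χ : G → ℂ}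
    (hχ : Cfsg.IsCharacter G χ) (h1 : χ 1 = 1) (g : G) : χ g = 1 := by
  have hmul := IsCharacter.mul_of_apply_one_eq_one hχ h1
  have hmem : g ∈ commutator G := by rw [hperf]; exact Subgroup.mem_top g
  rw [commutator_eq_closure] at hmem
  induction hmem using Subgroup.closure_induction with
  | mem x hx =>
    obtain ⟨a, b, rfl⟩ := hx
    rw [commutatorElement_def]
    exact IsCharacter.apply_commutator_of_apply_one_eq_one hχ h1 a b
  | one => exact h1
  | mul x y _ _ hx hy => rw [hmul, hx, hy, one_mul]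
  | inv x _ hx =>
    have : χ x⁻¹ * χ x = 1 := by rw [← hmul, inv_mul_cancel, h1]
    rwa [hx, mul_one] at this

theorem sq_cases_le_three {z : ℤ} (h0 : z ≠ 0) (h : z * z ≤ 3) : z = 1 ∨ z = -1 := by
  have h1 : z ≤ 1 := by nlinarith
  have h2 : -1 ≤ z := by nlinarith
  omega

/-- peel one nonzero term off a positive sum of squares -/
theorem exists_ne_zero_of_sum_sq_pos {ι : Type*} [DecidableEq ι] (S : Finset ι) (c : ι → ℤ)
    (h : 0 < ∑ i ∈ S, c i * c i) : ∃ i ∈ S, c i ≠ 0 := by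
  by_contra hne
  push Not at hne
  have : ∑ i ∈ S, c i * c i = 0 := by
    apply Finset.sum_eq_zero
    intro i hi
    rw [hne i hi, mul_zero]
  omega

theorem exists_three_of_sum_sq {ι : Type*} [Fintype ι] [DecidableEq ι] (c : ι → ℤ) (i₀ : ι)
    (h0 : c i₀ = 1) (h : ∑ i, c i * c i = 4) :
    ∃ i₁ i₂ i₃ : ι, i₁ ≠ i₀ ∧ i₂ ≠ i₀ ∧ i₃ ≠ i₀ ∧ i₁ ≠ i₂ ∧ i₁ ≠ i₃ ∧ i₂ ≠ i₃ ∧
      (c i₁ = 1 ∨ c i₁ = -1) ∧ (c i₂ = 1 ∨ c i₂ = -1) ∧ (c i₃ = 1 ∨ c i₃ = -1) ∧
      ∀ j, j ≠ i₀ → j ≠ i₁ → j ≠ i₂ → j ≠ i₃ → c j = 0 := by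
  have hnn : ∀ (S : Finset ι), 0 ≤ ∑ i ∈ S, c i * c i :=
    fun S => Finset.sum_nonneg (fun i _ => mul_self_nonneg (c i))
  have hle : ∀ (S : Finset ι) (i : ι), i ∈ S → c i * c i ≤ ∑ j ∈ S, c j * c j :=
    fun S i hi => Finset.single_le_sum (f := fun j => c j * c j) (fun j _ => mul_self_nonneg (c j)) hi
  have hS0 : ∑ i ∈ Finset.univ.erase i₀, c i * c i = 3 := by
    have := Finset.add_sum_erase Finset.univ (fun i => c i * c i) (Finset.mem_univ i₀)
    rw [h, h0] at this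
    linarith
  obtain ⟨i₁, hi₁, hc₁⟩ := exists_ne_zero_of_sum_sq_pos _ c (by rw [hS0]; norm_num)
  have hc₁' := sq_cases_le_three hc₁ (by rw [← hS0]; exact hle _ _ hi₁)
  have hS1 : ∑ i ∈ (Finset.univ.erase i₀).erase i₁, c i * c i = 2 := by
    have := Finset.add_sum_erase (Finset.univ.erase i₀) (fun i => c i * c i) hi₁
    rw [hS0] at this
    rcases hc₁' with h1 | h1 <;> rw [h1] at this <;> linarith
  obtain ⟨i₂, hi₂, hc₂⟩ := exists_ne_zero_of_sum_sq_pos _ c (by rw [hS1]; norm_num)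
  have hc₂' := sq_cases_le_three hc₂ (by
    have := hle _ _ hi₂
    rw [hS1] at this; linarith)
  have hS2 : ∑ i ∈ ((Finset.univ.erase i₀).erase i₁).erase i₂, c i * c i = 1 := by
    have := Finset.add_sum_erase ((Finset.univ.erase i₀).erase i₁) (fun i => c i * c i) hi₂
    rw [hS1] at this
    rcases hc₂' with h1 | h1 <;> rw [h1] at this <;> linarith
  obtain ⟨i₃, hi₃, hc₃⟩ := exists_ne_zero_of_sum_sq_pos _ c (by rw [hS2]; norm_num)
  have hc₃' := sq_cases_le_three hc₃ (by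
    have := hle _ _ hi₃
    rw [hS2] at this; linarith)
  have hS3 : ∑ i ∈ (((Finset.univ.erase i₀).erase i₁).erase i₂).erase i₃, c i * c i = 0 := by
    have := Finset.add_sum_erase (((Finset.univ.erase i₀).erase i₁).erase i₂)
      (fun i => c i * c i) hi₃
    rw [hS2] at this
    rcases hc₃' with h1 | h1 <;> rw [h1] at this <;> linarith
  have hi₁' := Finset.mem_erase.mp hi₁
  have hi₂' := Finset.mem_erase.mp hi₂
  have hi₂'' := Finset.mem_erase.mp hi₂'.2
  have hi₃' := Finset.mem_erase.mp hi₃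
  have hi₃'' := Finset.mem_erase.mp hi₃'.2
  have hi₃''' := Finset.mem_erase.mp hi₃''.2
  refine ⟨i₁, i₂, i₃, hi₁'.1, hi₂''.1, hi₃'''.1, hi₂'.1.symm, hi₃''.1.symm, hi₃'.1.symm,
    hc₁', hc₂', hc₃', ?_⟩
  intro j hj0 hj1 hj2 hj3
  have hjmem : j ∈ (((Finset.univ.erase i₀).erase i₁).erase i₂).erase i₃ := by
    simp only [Finset.mem_erase, Finset.mem_univ, and_true]
    exact ⟨hj3, hj2, hj1, hj0⟩
  have h1 := (Finset.sum_eq_zero_iff_of_nonneg (fun i _ => mul_self_nonneg (c i))).mp hS3 j hjmem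
  exact mul_self_eq_zero.mp h1

theorem sum_eq_four_terms {ι : Type*} [Fintype ι] [DecidableEq ι] {M : Type*} [AddCommMonoid M]
    (F : ι → M) (i₀ i₁ i₂ i₃ : ι) (h01 : i₁ ≠ i₀) (h02 : i₂ ≠ i₀) (h03 : i₃ ≠ i₀)
    (h12 : i₁ ≠ i₂) (h13 : i₁ ≠ i₃) (h23 : i₂ ≠ i₃)
    (h : ∀ j, j ≠ i₀ → j ≠ i₁ → j ≠ i₂ → j ≠ i₃ → F j = 0) :
    ∑ j, F j = F i₀ + F i₁ + F i₂ + F i₃ := by
  have hsub : ({i₀, i₁, i₂, i₃} : Finset ι) ⊆ Finset.univ := Finset.subset_univ _
  rw [← Finset.sum_subset hsub]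
  · rw [Finset.sum_insert, Finset.sum_insert, Finset.sum_insert, Finset.sum_singleton]
    · abel
    · simpa using h23
    · simp only [Finset.mem_insert, Finset.mem_singleton, not_or]; exact ⟨h12, h13⟩
    · simp only [Finset.mem_insert, Finset.mem_singleton, not_or]
      exact ⟨h01.symm, h02.symm, h03.symm⟩
  · intro j _ hj
    simp only [Finset.mem_insert, Finset.mem_singleton, not_or] at hj
    exact h j hj.1 hj.2.1 hj.2.2.1 hj.2.2.2

theorem four_terms_le_sum {ι : Type*} [Fintype ι] [DecidableEq ι]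
    (F : ι → ℤ) (hF : ∀ j, 0 ≤ F j) (i₀ i₁ i₂ i₃ : ι) (h01 : i₁ ≠ i₀) (h02 : i₂ ≠ i₀)
    (h03 : i₃ ≠ i₀) (h12 : i₁ ≠ i₂) (h13 : i₁ ≠ i₃) (h23 : i₂ ≠ i₃) :
    F i₀ + F i₁ + F i₂ + F i₃ ≤ ∑ j, F j := by
  have hsub : ({i₀, i₁, i₂, i₃} : Finset ι) ⊆ Finset.univ := Finset.subset_univ _
  have := Finset.sum_le_sum_of_subset_of_nonneg hsub (f := F) (fun j _ _ => hF j)
  rw [Finset.sum_insert, Finset.sum_insert, Finset.sum_insert, Finset.sum_singleton] at this
  · linarith
  · simpa using h23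
  · simp only [Finset.mem_insert, Finset.mem_singleton, not_or]; exact ⟨h12, h13⟩
  · simp only [Finset.mem_insert, Finset.mem_singleton, not_or]
    exact ⟨h01.symm, h02.symm, h03.symm⟩

end Cfsg.Agent.Lib.Helper6.D8C
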