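import Mathlib

/-! Final arithmetic for the `D₈`-centralizer theorem. -/

set_option autoImplicit false
set_option maxHeartbeats 4000000

namespace Cfsg.Agent.Lib.Helper6.D8C

/-- sign pattern `(+,+,-)` -/
theorem arith_ppm (g f₁ f₂ f₃ τ₁ τ₂ τ₃ : ℤ)
    (h1 : f₃ = 1 + f₁ + f₂) (hτ : 1 + τ₁ + τ₂ - τ₃ = 0)
    (hτ1 : τ₁ = 1 ∨ τ₁ = -1) (hτ2 : τ₂ = 1 ∨ τ₂ = -1) (hτ3 : τ₃ = 1 ∨ τ₃ = -1)
    (hc1 : 4 ∣ f₁ - τ₁) (hc1' : 4 ∣ f₁ + τ₁ + 2) (hc2 : 4 ∣ f₂ - τ₂) (hc2' : 4 ∣ f₂ + τ₂ + 2)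
    (hc3 : 4 ∣ f₃ - τ₃) (hc3' : 4 ∣ f₃ + τ₃ - 2)
    (hf1 : 3 ≤ f₁) (hf2 : 3 ≤ f₂)
    (hcount : g * (f₁ * f₂ * f₃ + f₂ * f₃ + f₁ * f₃ - f₁ * f₂) = 256 * (f₁ * f₂ * f₃))
    (hsq : 1 + f₁ * f₁ + f₂ * f₂ + f₃ * f₃ ≤ g) (h8 : 8 ∣ g) : g = 168 ∨ g = 360 := by
  subst h1
  have hY : 0 < f₁ * f₂ * (1 + f₁ + f₂) := by positivity
  have hXY : f₁ * f₂ * (1 + f₁ + f₂) <
      f₁ * f₂ * (1 + f₁ + f₂) + f₂ * (1 + f₁ + f₂) + f₁ * (1 + f₁ + f₂) - f₁ * f₂ := by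
    nlinarith
  have hg : g < 256 := by
    by_contra hge
    push Not at hge
    have hgpos : 0 < g := by linarith
    nlinarith
  have hb1 : f₁ ≤ 11 := by nlinarith
  have hb2 : f₂ ≤ 11 := by nlinarith
  interval_cases f₁ <;> interval_cases f₂ <;> omega

/-- sign pattern `(-,-,+)` -/
theorem arith_mmp (g f₁ f₂ f₃ τ₁ τ₂ τ₃ : ℤ)
    (h1 : f₃ + 1 = f₁ + f₂) (hτ : 1 - τ₁ - τ₂ + τ₃ = 0)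
    (hτ1 : τ₁ = 1 ∨ τ₁ = -1) (hτ2 : τ₂ = 1 ∨ τ₂ = -1) (hτ3 : τ₃ = 1 ∨ τ₃ = -1)
    (hc1 : 4 ∣ f₁ - τ₁) (hc1' : 4 ∣ f₁ + τ₁ - 2) (hc2 : 4 ∣ f₂ - τ₂) (hc2' : 4 ∣ f₂ + τ₂ - 2)
    (hc3 : 4 ∣ f₃ - τ₃) (hc3' : 4 ∣ f₃ + τ₃ + 2)
    (hf1 : 3 ≤ f₁) (hf2 : 3 ≤ f₂)
    (hcount : g * (f₁ * f₂ * f₃ - f₂ * f₃ - f₁ * f₃ + f₁ * f₂) = 256 * (f₁ * f₂ * f₃))
    (hsq : 1 + f₁ * f₁ + f₂ * f₂ + f₃ * f₃ ≤ g) (h8 : 8 ∣ g) : g = 168 ∨ g = 360 := by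
  have h1' : f₃ = f₁ + f₂ - 1 := by omega
  subst h1'
  have hf3 : 5 ≤ f₁ + f₂ - 1 := by omega
  have hA : 3 * (f₂ * (f₁ + f₂ - 1)) ≤ f₁ * f₂ * (f₁ + f₂ - 1) := by
    have : 0 ≤ (f₁ - 3) * (f₂ * (f₁ + f₂ - 1)) := by
      apply mul_nonneg (by omega)
      apply mul_nonneg (by omega) (by omega)
    nlinarith
  have hB : 3 * (f₁ * (f₁ + f₂ - 1)) ≤ f₁ * f₂ * (f₁ + f₂ - 1) := by
    have : 0 ≤ (f₂ - 3) * (f₁ * (f₁ + f₂ - 1)) := by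
      apply mul_nonneg (by omega)
      apply mul_nonneg (by omega) (by omega)
    nlinarith
  have hC : 0 < f₁ * f₂ := by positivity
  have hY : 0 < f₁ * f₂ * (f₁ + f₂ - 1) := by
    apply mul_pos hC (by omega)
  have hX : f₁ * f₂ * (f₁ + f₂ - 1) <
      3 * (f₁ * f₂ * (f₁ + f₂ - 1) - f₂ * (f₁ + f₂ - 1) - f₁ * (f₁ + f₂ - 1) + f₁ * f₂) := by
    linarith
  have hg : g < 768 := by
    by_contra hge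
    push Not at hge
    nlinarith
  have hb1 : f₁ ≤ 27 := by nlinarith
  have hb2 : f₂ ≤ 27 := by nlinarith
  clear hA hB hC hY hX hf3
  have ho1 : f₁ % 2 = 1 := by omega
  have ho2 : f₂ % 2 = 1 := by omega
  interval_cases f₁ <;> (first | omega | (interval_cases f₂ <;> omega))

end Cfsg.Agent.Lib.Helper6.D8C
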