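import Mathlib
import Cfsg.Agent.Lib.Helper6.D8Cent2
import Cfsg.Agent.Lib.Helper6.D8Cent3
import Cfsg.Agent.Lib.Helper6.D8Cent4
import Cfsg.Agent.Lib.Helper6.SecondOrth
import Cfsg.Agent.Lib.Helper6.ClassMult
import Cfsg.Agent.Lib.Helper6.BlkPrincipal

/-! A perfect group with an involution whose centralizer is dihedral of order 8 has order
168 or 360 (Isaacs, Character Theory, Theorem 7.10). -/

set_option autoImplicit false
set_option maxHeartbeats 1600000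

namespace Cfsg.Agent.Lib.Helper6.D8C

open scoped ComplexConjugate

theorem d8_main {G : Type*} [Group G] [Finite G] (hperf : commutator G = ⊤) (t : G)
    (ht : orderOf t = 2) (e : Subgroup.centralizer ({t} : Set G) ≃* DihedralGroup 4) :
    Nat.card G = 168 ∨ Nat.card G = 360 := by
  classical
  have : Fintype G := Fintype.ofFinite G
  have : Fintype (Cfsg.IrrCharacter G) := Fintype.ofFinite _
  obtain ⟨s, hs⟩ : ∃ s, s = sig e := ⟨_, rfl⟩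
  have hss : s * s = t := by rw [hs]; exact sig_mul_sig e ht
  have hs4 : s ^ 4 = 1 := by rw [hs]; exact sig_pow_four e
  have hs2 : s ^ 2 = t := by rw [pow_two, hss]
  have hs3 : s ^ 3 = s⁻¹ := by
    apply eq_inv_of_mul_eq_one_left
    rw [← pow_succ]; exact hs4
  have hsconj : IsConj s s⁻¹ := by rw [hs]; exact isConj_sig_inv e
  have hCs : Nat.card (Subgroup.centralizer ({s} : Set G)) = 4 := by
    rw [hs]; exact card_centralizer_sig e ht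
  have hCt : Nat.card (Subgroup.centralizer ({t} : Set G)) = 8 := card_cent e
  have hns1 : ¬ IsConj s 1 := by rw [hs]; exact not_isConj_sig_one e
  have hnst : ¬ IsConj s t := by rw [hs]; exact not_isConj_sig_t e ht
  have hpairs : Nat.card {p : G × G // IsConj t p.1 ∧ IsConj t p.2 ∧ p.1 * p.2 = s} = 4 := by
    rw [hs]; exact card_pairs e hperf ht
  have h8 : 8 ∣ Nat.card G := eight_dvd_card e
  -- character values
  have hval : ∀ χ : Cfsg.IrrCharacter G, ∃ n₁ n₂ n₃ : ℕ,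
      (χ : G → ℂ) 1 = (n₁ : ℂ) + n₂ + 2 * n₃ ∧ (χ : G → ℂ) s = (n₁ : ℂ) - n₂ ∧
      (χ : G → ℂ) t = (n₁ : ℂ) + n₂ - 2 * n₃ := by
    intro χ
    have hc := IsIrrCharacter.isCharacter χ.2
    have hcf := IsCharacter.isClassFunction hc
    have hconj : (χ : G → ℂ) s = (χ : G → ℂ) (s ^ 3) := by
      rw [hs3]
      obtain ⟨c, hc'⟩ := isConj_iff.mp hsconj
      rw [← hc']; exact (hcf s c).symm
    have := order_four_values hc s hs4 hconj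
    rwa [hs2] at this
  choose a b c ha hb hc using hval
  obtain ⟨f, hf⟩ : ∃ f : Cfsg.IrrCharacter G → ℤ, ∀ χ, f χ = (a χ : ℤ) + b χ + 2 * c χ :=
    ⟨_, fun _ => rfl⟩
  obtain ⟨ε, hε⟩ : ∃ ε : Cfsg.IrrCharacter G → ℤ, ∀ χ, ε χ = (a χ : ℤ) - b χ :=
    ⟨_, fun _ => rfl⟩
  obtain ⟨τ, hτ⟩ : ∃ τ : Cfsg.IrrCharacter G → ℤ, ∀ χ, τ χ = (a χ : ℤ) + b χ - 2 * c χ :=
    ⟨_, fun _ => rfl⟩
  have hf1 : ∀ χ : Cfsg.IrrCharacter G, (χ : G → ℂ) 1 = (f χ : ℂ) := by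
    intro χ; rw [ha, hf]; push_cast; ring
  have hεs : ∀ χ : Cfsg.IrrCharacter G, (χ : G → ℂ) s = (ε χ : ℂ) := by
    intro χ; rw [hb, hε]; push_cast; ring
  have hτt : ∀ χ : Cfsg.IrrCharacter G, (χ : G → ℂ) t = (τ χ : ℂ) := by
    intro χ; rw [hc, hτ]; push_cast; ring
  have hconjI : ∀ z : ℤ, conj (z : ℂ) = (z : ℂ) := fun z => map_intCast (starRingEnd ℂ) z
  -- orthogonality relations
  have hO1 : ∑ χ : Cfsg.IrrCharacter G, ε χ * ε χ = 4 := by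
    have h := (sum_irr_mul_conj s s).1 (IsConj.refl s)
    rw [hCs] at h
    have h2 : ∑ χ : Cfsg.IrrCharacter G, (χ : G → ℂ) s * conj ((χ : G → ℂ) s)
        = ((∑ χ : Cfsg.IrrCharacter G, ε χ * ε χ : ℤ) : ℂ) := by
      push_cast
      apply Finset.sum_congr rfl
      intro χ _
      rw [hεs, hconjI]
    rw [h2] at h
    exact_mod_cast h
  have hO2 : ∑ χ : Cfsg.IrrCharacter G, ε χ * f χ = 0 := by
    have h := (sum_irr_mul_conj s 1).2 hns1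
    have h2 : ∑ χ : Cfsg.IrrCharacter G, (χ : G → ℂ) s * conj ((χ : G → ℂ) 1)
        = ((∑ χ : Cfsg.IrrCharacter G, ε χ * f χ : ℤ) : ℂ) := by
      push_cast
      apply Finset.sum_congr rfl
      intro χ _
      rw [hεs, hf1, hconjI]
    rw [h2] at h
    exact_mod_cast h
  have hO3 : ∑ χ : Cfsg.IrrCharacter G, ε χ * τ χ = 0 := by
    have h := (sum_irr_mul_conj s t).2 hnst
    have h2 : ∑ χ : Cfsg.IrrCharacter G, (χ : G → ℂ) s * conj ((χ : G → ℂ) t)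
        = ((∑ χ : Cfsg.IrrCharacter G, ε χ * τ χ : ℤ) : ℂ) := by
      push_cast
      apply Finset.sum_congr rfl
      intro χ _
      rw [hεs, hτt, hconjI]
    rw [h2] at h
    exact_mod_cast h
  have hO4 : ∑ χ : Cfsg.IrrCharacter G, τ χ * τ χ = 8 := by
    have h := (sum_irr_mul_conj t t).1 (IsConj.refl t)
    rw [hCt] at h
    have h2 : ∑ χ : Cfsg.IrrCharacter G, (χ : G → ℂ) t * conj ((χ : G → ℂ) t)
        = ((∑ χ : Cfsg.IrrCharacter G, τ χ * τ χ : ℤ) : ℂ) := by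
      push_cast
      apply Finset.sum_congr rfl
      intro χ _
      rw [hτt, hconjI]
    rw [h2] at h
    exact_mod_cast h
  have hO5 : ∑ χ : Cfsg.IrrCharacter G, f χ * f χ = (Nat.card G : ℤ) := by
    have h := (sum_irr_mul_conj (1 : G) 1).1 (IsConj.refl 1)
    have hC1 : Nat.card (Subgroup.centralizer ({(1 : G)} : Set G)) = Nat.card G := by
      have : Subgroup.centralizer ({(1 : G)} : Set G) = ⊤ := by
        rw [eq_top_iff]
        intro g _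
        rw [Subgroup.mem_centralizer_singleton_iff]
        simp
      rw [this, Subgroup.card_top]
    rw [hC1] at h
    have h2 : ∑ χ : Cfsg.IrrCharacter G, (χ : G → ℂ) 1 * conj ((χ : G → ℂ) 1)
        = ((∑ χ : Cfsg.IrrCharacter G, f χ * f χ : ℤ) : ℂ) := by
      push_cast
      apply Finset.sum_congr rfl
      intro χ _
      rw [hf1, hconjI]
    rw [h2] at h
    exact_mod_cast h
  have hO6 : (256 : ℂ) = (Nat.card G : ℂ) * ∑ χ : Cfsg.IrrCharacter G,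
      (χ : G → ℂ) t * (χ : G → ℂ) t * conj ((χ : G → ℂ) s) / (χ : G → ℂ) 1 := by
    rw [← card_conj_mul_conj_eq t t s, card_conj_pairs t t s, hCt, hpairs]
    norm_num
  -- the principal character
  have h0f : f (oneIrr G) = 1 := by
    have := hf1 (oneIrr G)
    have h1 : ((oneIrr G : Cfsg.IrrCharacter G) : G → ℂ) 1 = 1 := rfl
    rw [h1] at this
    exact_mod_cast this.symm
  have h0ε : ε (oneIrr G) = 1 := by
    have := hεs (oneIrr G)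
    have h1 : ((oneIrr G : Cfsg.IrrCharacter G) : G → ℂ) s = 1 := rfl
    rw [h1] at this
    exact_mod_cast this.symm
  have h0τ : τ (oneIrr G) = 1 := by
    have := hτt (oneIrr G)
    have h1 : ((oneIrr G : Cfsg.IrrCharacter G) : G → ℂ) t = 1 := rfl
    rw [h1] at this
    exact_mod_cast this.symm
  obtain ⟨χ₁, χ₂, χ₃, h10, h20, h30, h12, h13, h23, hε1, hε2, hε3, hzero⟩ :=
    exists_three_of_sum_sq ε (oneIrr G) h0ε hO1
  -- reduce the sums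
  have hdeg : 1 + ε χ₁ * f χ₁ + ε χ₂ * f χ₂ + ε χ₃ * f χ₃ = 0 := by
    have h := sum_eq_four_terms (fun χ => ε χ * f χ) (oneIrr G) χ₁ χ₂ χ₃ h10 h20 h30 h12 h13 h23
      (fun j hj0 hj1 hj2 hj3 => by
        change ε j * f j = 0
        rw [hzero j hj0 hj1 hj2 hj3, zero_mul])
    rw [hO2] at h
    simp only [h0ε, h0f, one_mul] at h
    linarith
  have hst : 1 + ε χ₁ * τ χ₁ + ε χ₂ * τ χ₂ + ε χ₃ * τ χ₃ = 0 := by
    have h := sum_eq_four_terms (fun χ => ε χ * τ χ) (oneIrr G) χ₁ χ₂ χ₃ h10 h20 h30 h12 h13 h23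
      (fun j hj0 hj1 hj2 hj3 => by
        change ε j * τ j = 0
        rw [hzero j hj0 hj1 hj2 hj3, zero_mul])
    rw [hO3] at h
    simp only [h0ε, h0τ, one_mul] at h
    linarith
  have htt : 1 + τ χ₁ * τ χ₁ + τ χ₂ * τ χ₂ + τ χ₃ * τ χ₃ ≤ 8 := by
    have h := four_terms_le_sum (fun χ => τ χ * τ χ) (fun j => mul_self_nonneg (τ j))
      (oneIrr G) χ₁ χ₂ χ₃ h10 h20 h30 h12 h13 h23
    rw [hO4] at h
    simp only [h0τ, one_mul] at h
    linarith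
  have hsq : 1 + f χ₁ * f χ₁ + f χ₂ * f χ₂ + f χ₃ * f χ₃ ≤ (Nat.card G : ℤ) := by
    have h := four_terms_le_sum (fun χ => f χ * f χ) (fun j => mul_self_nonneg (f j))
      (oneIrr G) χ₁ χ₂ χ₃ h10 h20 h30 h12 h13 h23
    rw [hO5] at h
    simp only [h0f, one_mul] at h
    linarith
  -- degrees at least 2
  have hfpos : ∀ χ : Cfsg.IrrCharacter G, 1 ≤ f χ := by
    intro χ
    have h1 := IsCharacter.apply_one_eq_charDegree (IsIrrCharacter.isCharacter χ.2)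
    have h2 := IsIrrCharacter.charDegree_pos χ.2
    rw [hf1] at h1
    have h3 : f χ = (Cfsg.charDegree (χ : G → ℂ) : ℤ) := by exact_mod_cast h1
    rw [h3]
    exact_mod_cast h2
  have hfne : ∀ χ : Cfsg.IrrCharacter G, χ ≠ oneIrr G → f χ ≠ 1 := by
    intro χ hχ h1
    apply hχ
    apply Subtype.ext
    funext g
    have h2 : (χ : G → ℂ) 1 = 1 := by rw [hf1, h1]; norm_num
    exact linear_trivial_of_perfect hperf (IsIrrCharacter.isCharacter χ.2) h2 g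
  have hf2 : ∀ χ : Cfsg.IrrCharacter G, χ ≠ oneIrr G → 2 ≤ f χ := by
    intro χ hχ
    have h1 := hfpos χ
    have h2 := hfne χ hχ
    omega
  -- the count equation over the four characters
  have hfC : ∀ χ : Cfsg.IrrCharacter G, (f χ : ℂ) ≠ 0 := by
    intro χ
    have := hfpos χ
    exact_mod_cast (by omega : f χ ≠ 0)
  have hcnt : (256 : ℂ) = (Nat.card G : ℂ) * (1 + (τ χ₁ * τ χ₁ * ε χ₁ : ℤ) / (f χ₁ : ℂ)
      + (τ χ₂ * τ χ₂ * ε χ₂ : ℤ) / (f χ₂ : ℂ) + (τ χ₃ * τ χ₃ * ε χ₃ : ℤ) / (f χ₃ : ℂ)) := by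
    have h := sum_eq_four_terms (fun χ : Cfsg.IrrCharacter G =>
      (χ : G → ℂ) t * (χ : G → ℂ) t * conj ((χ : G → ℂ) s) / (χ : G → ℂ) 1) (oneIrr G) χ₁ χ₂ χ₃
      h10 h20 h30 h12 h13 h23
      (fun j hj0 hj1 hj2 hj3 => by
        change (j : G → ℂ) t * (j : G → ℂ) t * conj ((j : G → ℂ) s) / (j : G → ℂ) 1 = 0
        rw [hεs, hzero j hj0 hj1 hj2 hj3]
        simp)
    rw [hO6, h]
    congr 1
    simp only [hτt, hεs, hf1, hconjI, h0τ, h0ε, h0f]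
    push_cast
    ring
  -- parities and the values of τ
  have hodd : ∀ χ : Cfsg.IrrCharacter G, (ε χ = 1 ∨ ε χ = -1) →
      τ χ % 2 = 1 ∧ f χ % 2 = 1 ∧ (4 : ℤ) ∣ f χ - τ χ ∧
        (4 : ℤ) ∣ f χ + τ χ + 2 * ε χ := by
    intro χ h
    have e1 := hf χ
    have e2 := hε χ
    have e3 := hτ χ
    refine ⟨by omega, by omega, ⟨(c χ : ℤ), by omega⟩, ⟨(a χ : ℤ), by omega⟩⟩
  obtain ⟨ho1, hfo1, hd1, hd1'⟩ := hodd χ₁ hε1
  obtain ⟨ho2, hfo2, hd2, hd2'⟩ := hodd χ₂ hε2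
  obtain ⟨ho3, hfo3, hd3, hd3'⟩ := hodd χ₃ hε3
  have hτ1 : τ χ₁ = 1 ∨ τ χ₁ = -1 := by
    have h1 : 1 ≤ τ χ₂ * τ χ₂ := by
      have : τ χ₂ ≠ 0 := by omega
      have := mul_self_pos.mpr this
      omega
    have h2 : 1 ≤ τ χ₃ * τ χ₃ := by
      have : τ χ₃ ≠ 0 := by omega
      have := mul_self_pos.mpr this
      omega
    have h3 : τ χ₁ ≤ 2 := by nlinarith
    have h4 : -2 ≤ τ χ₁ := by nlinarith
    omega
  have hτ2 : τ χ₂ = 1 ∨ τ χ₂ = -1 := by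
    have h1 : 1 ≤ τ χ₁ * τ χ₁ := by
      have : τ χ₁ ≠ 0 := by omega
      have := mul_self_pos.mpr this
      omega
    have h2 : 1 ≤ τ χ₃ * τ χ₃ := by
      have : τ χ₃ ≠ 0 := by omega
      have := mul_self_pos.mpr this
      omega
    have h3 : τ χ₂ ≤ 2 := by nlinarith
    have h4 : -2 ≤ τ χ₂ := by nlinarith
    omega
  have hτ3 : τ χ₃ = 1 ∨ τ χ₃ = -1 := by
    have h1 : 1 ≤ τ χ₁ * τ χ₁ := by
      have : τ χ₁ ≠ 0 := by omega
      have := mul_self_pos.mpr this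
      omega
    have h2 : 1 ≤ τ χ₂ * τ χ₂ := by
      have : τ χ₂ ≠ 0 := by omega
      have := mul_self_pos.mpr this
      omega
    have h3 : τ χ₃ ≤ 2 := by nlinarith
    have h4 : -2 ≤ τ χ₃ := by nlinarith
    omega
  have hsq1 : τ χ₁ * τ χ₁ = 1 := by rcases hτ1 with h | h <;> rw [h] <;> norm_num
  have hsq2 : τ χ₂ * τ χ₂ = 1 := by rcases hτ2 with h | h <;> rw [h] <;> norm_num
  have hsq3 : τ χ₃ * τ χ₃ = 1 := by rcases hτ3 with h | h <;> rw [h] <;> norm_num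
  -- integer form of the count
  obtain ⟨g, hg⟩ : ∃ g : ℤ, g = (Nat.card G : ℤ) := ⟨_, rfl⟩
  obtain ⟨f₁, hf₁⟩ : ∃ x, x = f χ₁ := ⟨_, rfl⟩
  obtain ⟨f₂, hf₂⟩ : ∃ x, x = f χ₂ := ⟨_, rfl⟩
  obtain ⟨f₃, hf₃⟩ : ∃ x, x = f χ₃ := ⟨_, rfl⟩
  obtain ⟨ε₁, hε₁⟩ : ∃ x, x = ε χ₁ := ⟨_, rfl⟩
  obtain ⟨ε₂, hε₂⟩ : ∃ x, x = ε χ₂ := ⟨_, rfl⟩
  obtain ⟨ε₃, hε₃⟩ : ∃ x, x = ε χ₃ := ⟨_, rfl⟩
  obtain ⟨τ₁, hτ₁⟩ : ∃ x, x = τ χ₁ := ⟨_, rfl⟩
  obtain ⟨τ₂, hτ₂⟩ : ∃ x, x = τ χ₂ := ⟨_, rfl⟩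
  obtain ⟨τ₃, hτ₃⟩ : ∃ x, x = τ χ₃ := ⟨_, rfl⟩
  have hF1 := hf2 χ₁ h10
  have hF2 := hf2 χ₂ h20
  have hF3 := hf2 χ₃ h30
  have hne1 := hfC χ₁
  have hne2 := hfC χ₂
  have hne3 := hfC χ₃
  rw [hsq1, hsq2, hsq3] at hcnt
  rw [← hf₁, ← hf₂, ← hf₃, ← hε₁, ← hε₂, ← hε₃] at hcnt hdeg
  rw [← hf₁, ← hf₂, ← hf₃, ← hg] at hsq
  rw [← hε₁, ← hε₂, ← hε₃, ← hτ₁, ← hτ₂, ← hτ₃] at hst
  rw [← hf₁] at hF1 hne1 hfo1 hd1 hd1'
  rw [← hf₂] at hF2 hne2 hfo2 hd2 hd2'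
  rw [← hf₃] at hF3 hne3 hfo3 hd3 hd3'
  rw [← hτ₁] at hτ1 hd1 hd1'
  rw [← hτ₂] at hτ2 hd2 hd2'
  rw [← hτ₃] at hτ3 hd3 hd3'
  rw [← hε₁] at hε1 hd1'
  rw [← hε₂] at hε2 hd2'
  rw [← hε₃] at hε3 hd3'
  have hcntZ : g * (f₁ * f₂ * f₃ + ε₁ * (f₂ * f₃) + ε₂ * (f₁ * f₃) + ε₃ * (f₁ * f₂))
      = 256 * (f₁ * f₂ * f₃) := by
    have h1 : (256 : ℂ) * ((f₁ : ℂ) * f₂ * f₃) = (g : ℂ) * ((f₁ : ℂ) * f₂ * f₃
        + ε₁ * ((f₂ : ℂ) * f₃) + ε₂ * ((f₁ : ℂ) * f₃) + ε₃ * ((f₁ : ℂ) * f₂)) := by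
      rw [hcnt, hg]
      push_cast
      field_simp
    have h2 : ((256 * (f₁ * f₂ * f₃) : ℤ) : ℂ) = ((g * (f₁ * f₂ * f₃ + ε₁ * (f₂ * f₃)
        + ε₂ * (f₁ * f₃) + ε₃ * (f₁ * f₂)) : ℤ) : ℂ) := by
      push_cast
      exact h1
    exact (Int.cast_injective h2).symm
  have h8g : (8 : ℤ) ∣ g := by
    rw [hg]; exact_mod_cast h8
  have hgoal : g = 168 ∨ g = 360 := by
    have hF1' : 3 ≤ f₁ := by omega
    have hF2' : 3 ≤ f₂ := by omega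
    have hF3' : 3 ≤ f₃ := by omega
    rcases hε1 with h1 | h1 <;> rcases hε2 with h2 | h2 <;> rcases hε3 with h3 | h3 <;>
      rw [h1, h2, h3] at hcntZ hdeg hst <;> rw [h1] at hd1' <;> rw [h2] at hd2' <;>
      rw [h3] at hd3'
    · exfalso; omega
    · exact arith_ppm g f₁ f₂ f₃ τ₁ τ₂ τ₃ (by omega) (by omega) hτ1 hτ2 hτ3 hd1 (by omega) hd2
        (by omega) hd3 (by omega) hF1' hF2' (by linear_combination hcntZ) (by linarith) h8g
    · exact arith_ppm g f₁ f₃ f₂ τ₁ τ₃ τ₂ (by omega) (by omega) hτ1 hτ3 hτ2 hd1 (by omega) hd3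
        (by omega) hd2 (by omega) hF1' hF3' (by linear_combination hcntZ) (by linarith) h8g
    · exact arith_mmp g f₂ f₃ f₁ τ₂ τ₃ τ₁ (by omega) (by omega) hτ2 hτ3 hτ1 hd2 (by omega) hd3
        (by omega) hd1 (by omega) hF2' hF3' (by linear_combination hcntZ) (by linarith) h8g
    · exact arith_ppm g f₂ f₃ f₁ τ₂ τ₃ τ₁ (by omega) (by omega) hτ2 hτ3 hτ1 hd2 (by omega) hd3
        (by omega) hd1 (by omega) hF2' hF3' (by linear_combination hcntZ) (by linarith) h8g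
    · exact arith_mmp g f₁ f₃ f₂ τ₁ τ₃ τ₂ (by omega) (by omega) hτ1 hτ3 hτ2 hd1 (by omega) hd3
        (by omega) hd2 (by omega) hF1' hF3' (by linear_combination hcntZ) (by linarith) h8g
    · exact arith_mmp g f₁ f₂ f₃ τ₁ τ₂ τ₃ (by omega) (by omega) hτ1 hτ2 hτ3 hd1 (by omega) hd2
        (by omega) hd3 (by omega) hF1' hF2' (by linear_combination hcntZ) (by linarith) h8g
    · exfalso; omega
  rw [hg] at hgoal
  exact_mod_cast hgoal

end Cfsg.Agent.Lib.Helper6.D8C
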