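import Mathlib
import Cfsg.Prelude
import Cfsg.Agent.Lib.Helper9.APSL32
import Cfsg.Agent.Lib.Helper9.ALB1

set_option autoImplicit false
set_option linter.unusedSectionVars false
set_option linter.unusedVariables false
open Cfsg

/-! Local balance for `PSL_n`: the abstract engine and its instantiation for an automorphism
`liftAut Ψ` of `PSL_n(F)` lifted from an automorphism `Ψ` of `SL_n(F)`. -/

namespace Cfsg.Agent.Lib.Helper6.Lbg

open Matrix Cfsg.Agent.Lib.Helper9.APSL Cfsg.Agent.Lib.Helper9.ALB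

section engine
variable {Γ : Type*} [Group Γ]

/-- the abstract engine: a normal `p'`-subgroup `N` of `C` is trivial provided `C` has normal
subgroups `T ≤ I₀` with no `I₀`-invariant `p'`-subgroups in `T` and the centraliser of `T`
of order `p`. -/
theorem engine (C N I₀ T Z : Subgroup Γ) (p : ℕ)
    (hNC : N ≤ C) (hNn : ∀ c ∈ C, ∀ n ∈ N, c * n * c⁻¹ ∈ N) (hcop : (Nat.card N).Coprime p)
    (hIC : I₀ ≤ C) (hIn : ∀ c ∈ C, ∀ i ∈ I₀, c * i * c⁻¹ ∈ I₀)
    (hTI : T ≤ I₀) (hTn : ∀ i ∈ I₀, ∀ t ∈ T, i * t * i⁻¹ ∈ T)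
    (he1 : ∀ M : Subgroup Γ, M ≤ T → (∀ i ∈ I₀, ∀ m ∈ M, i * m * i⁻¹ ∈ M) →
      (Nat.card M).Coprime p → M = ⊥)
    (he2 : ∀ y : Γ, (∀ t ∈ T, y * t = t * y) → y ∈ Z) (hZ : Nat.card Z = p) : N = ⊥ := by
  have key : ∀ M : Subgroup Γ, M ≤ N → M ≤ Z → M = ⊥ := by
    intro M hMN hMZ
    have h1 : Nat.card M ∣ p := hZ ▸ Subgroup.card_dvd_of_le hMZ
    have h2 : Nat.card M ∣ Nat.card N := Subgroup.card_dvd_of_le hMN
    have h3 : Nat.card M = 1 :=
      Nat.Coprime.eq_one_of_dvd (Nat.Coprime.coprime_dvd_left h2 hcop) h1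
    exact Subgroup.card_eq_one.mp h3
  have h0 : N ⊓ T = ⊥ := he1 (N ⊓ T) inf_le_right
    (fun i hi m hm => ⟨hNn i (hIC hi) m hm.1, hTn i hi m hm.2⟩)
    (Nat.Coprime.coprime_dvd_left (Subgroup.card_dvd_of_le inf_le_left) hcop)
  have h1 : N ⊓ I₀ = ⊥ := by
    apply key _ inf_le_left
    intro z hz
    apply he2
    intro t ht
    have hc : z * t * z⁻¹ * t⁻¹ ∈ N ⊓ T := by
      constructor
      · have e : z * t * z⁻¹ * t⁻¹ = z * (t * z⁻¹ * t⁻¹) := by group
        rw [e]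
        exact N.mul_mem hz.1 (hNn t (hIC (hTI ht)) _ (N.inv_mem hz.1))
      · exact T.mul_mem (hTn z hz.2 t ht) (T.inv_mem ht)
    rw [h0, Subgroup.mem_bot] at hc
    calc z * t = (z * t * z⁻¹ * t⁻¹) * t * z := by group
      _ = t * z := by rw [hc, one_mul]
  apply key N le_rfl
  intro n hn
  apply he2
  intro t ht
  have hc : n * t * n⁻¹ * t⁻¹ ∈ N ⊓ I₀ := by
    constructor
    · have e : n * t * n⁻¹ * t⁻¹ = n * (t * n⁻¹ * t⁻¹) := by group
      rw [e]
      exact N.mul_mem hn (hNn t (hIC (hTI ht)) _ (N.inv_mem hn))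
    · exact I₀.mul_mem (hIn n (hNC hn) t (hTI ht)) (I₀.inv_mem (hTI ht))
  rw [h1, Subgroup.mem_bot] at hc
  calc n * t = (n * t * n⁻¹ * t⁻¹) * t * n := by group
    _ = t * n := by rw [hc, one_mul]

end engine

variable {F : Type*} [Field F] {n : ℕ}

local notation "Mn" => Matrix (Fin n) (Fin n) F
local notation "SLn" => Matrix.SpecialLinearGroup (Fin n) F
local notation "PSLn" => Matrix.ProjectiveSpecialLinearGroup (Fin n) F
local notation "Vn" => (Fin n → F)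
local notation "GLn" => GL (Fin n) F

/-- the fixed points of an automorphism of `SL` -/
def fixSL (Ψ : SLn ≃* SLn) : Subgroup SLn := MonoidHom.eqLocus Ψ.toMonoidHom (MonoidHom.id SLn)

theorem mem_fixSL (Ψ : SLn ≃* SLn) (s : SLn) : s ∈ fixSL Ψ ↔ Ψ s = s := Iff.rfl

/-- the fixed points of an automorphism of `PSL` -/
def fixP (β : MulAut PSLn) : Subgroup PSLn :=
  MonoidHom.eqLocus β.toMonoidHom (MonoidHom.id PSLn)

theorem mem_fixP (β : MulAut PSLn) (z : PSLn) : z ∈ fixP β ↔ β z = z := Iff.rfl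

theorem mkP_mem_fixP {Ψ : SLn ≃* SLn} {s : SLn} (hs : Ψ s = s) : mkP s ∈ fixP (liftAut Ψ) := by
  rw [mem_fixP, liftAut_mkP, hs]

theorem mkP_eq_one_iff (s : SLn) : mkP s = 1 ↔ s ∈ Subgroup.center SLn :=
  QuotientGroup.eq_one_iff s

/-- conjugation by a nontrivial element of `PSL` is nontrivial -/
theorem conj_eq_one (hn : 2 ≤ n) (z : PSLn) (h : (MulAut.conj z : MulAut PSLn) = 1) : z = 1 := by
  obtain ⟨s, rfl⟩ := mkP_surjective z
  rw [← liftAut_conj_toGL, ← cG_apply] at h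
  obtain ⟨u, hu⟩ := exists_scalar_of_cG_eq_one hn h
  have h1 : (s : Mn) = (u : F) • (1 : Mn) := by
    have := congrArg (fun g : GLn => (g : Mn)) hu
    simp only [scalar_coe_smul] at this
    rw [← this]
    rfl
  have h2 : (u : F) ^ n = 1 := by
    have hd := s.2
    rw [h1, Matrix.det_smul, Matrix.det_one, mul_one, Fintype.card_fin] at hd
    exact hd
  rw [show (1 : PSLn) = mkP 1 from (map_one mkP).symm]
  symm
  rw [mkP_eq_iff]
  exact ⟨u, h2, by rw [h1, Matrix.SpecialLinearGroup.coe_one]⟩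

theorem conj_injective (hn : 2 ≤ n) :
    Function.Injective (MulAut.conj : PSLn →* MulAut PSLn) := by
  rw [injective_iff_map_eq_one]
  exact conj_eq_one hn

theorem center_eq_bot (hn : 2 ≤ n) : Subgroup.center PSLn = ⊥ := by
  rw [eq_bot_iff]
  intro z hz
  rw [Subgroup.mem_bot]
  apply conj_eq_one hn
  apply MulEquiv.ext
  intro x
  rw [MulAut.conj_apply, MulAut.one_apply]
  rw [Subgroup.mem_center_iff] at hz
  rw [← hz x, mul_inv_cancel_right]

theorem conj_conj (β : MulAut PSLn) (g : PSLn) :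
    β * MulAut.conj g * β⁻¹ = (MulAut.conj (β g) : MulAut PSLn) := by
  rw [conj_comm_aut, mul_inv_cancel_right]

/-- the inner automorphisms induced by the fixed points -/
noncomputable def I0 (β : MulAut PSLn) : Subgroup (MulAut PSLn) := (fixP β).map MulAut.conj

/-- the inner automorphisms induced by the fixed points in `SL` -/
noncomputable def TT (Ψ : SLn ≃* SLn) : Subgroup (MulAut PSLn) :=
  ((fixSL Ψ).map mkP).map MulAut.conj

theorem TT_le_I0 (Ψ : SLn ≃* SLn) : TT Ψ ≤ I0 (liftAut Ψ) := by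
  rintro _ ⟨_, ⟨s, hs, rfl⟩, rfl⟩
  exact ⟨mkP s, mkP_mem_fixP hs, rfl⟩

theorem I0_le (β : MulAut PSLn) (A : Subgroup (MulAut PSLn))
    (hinn : ∀ k : PSLn, MulAut.conj k ∈ A) : I0 β ≤ A ⊓ Subgroup.centralizer {β} := by
  rintro _ ⟨z, hz, rfl⟩
  have hz' : β z = z := hz
  refine ⟨hinn z, ?_⟩
  show MulAut.conj z ∈ Subgroup.centralizer {β}
  rw [Subgroup.mem_centralizer_iff]
  intro h hh
  rw [Set.mem_singleton_iff] at hh
  rw [hh, conj_comm_aut, hz']

theorem I0_normalized (β : MulAut PSLn) (c : MulAut PSLn) (hc : c ∈ Subgroup.centralizer {β})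
    (i : MulAut PSLn) (hi : i ∈ I0 β) : c * i * c⁻¹ ∈ I0 β := by
  obtain ⟨z, hz, rfl⟩ := hi
  have hz' : β z = z := hz
  refine ⟨c z, ?_, (conj_conj c z).symm⟩
  rw [Subgroup.mem_centralizer_iff] at hc
  have h1 := hc β rfl
  show β (c z) = c z
  have h2 : β (c z) = (β * c) z := rfl
  rw [h2, h1]
  show c (β z) = c z
  rw [hz']

/-- the fixed points in `SL` are normalised by the preimage of the fixed points in `PSL` -/
theorem fixSL_conj (Ψ : SLn ≃* SLn) (A : SLn) (hA : liftAut Ψ (mkP A) = mkP A) (s : SLn)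
    (hs : Ψ s = s) : Ψ (A * s * A⁻¹) = A * s * A⁻¹ := by
  rw [liftAut_mkP] at hA
  have h1 : Ψ A * A⁻¹ ∈ Subgroup.center SLn := by
    rw [← mkP_eq_one_iff, map_mul, map_inv, hA, mul_inv_cancel]
  rw [Subgroup.mem_center_iff] at h1
  have h2 : Ψ A = (Ψ A * A⁻¹) * A := by group
  rw [map_mul, map_mul, map_inv, hs, h2]
  calc Ψ A * A⁻¹ * A * s * (Ψ A * A⁻¹ * A)⁻¹
      = (Ψ A * A⁻¹) * (A * s * A⁻¹) * (Ψ A * A⁻¹)⁻¹ := by group
    _ = (A * s * A⁻¹) * (Ψ A * A⁻¹) * (Ψ A * A⁻¹)⁻¹ := by rw [h1 (A * s * A⁻¹)]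
    _ = A * s * A⁻¹ := by rw [mul_inv_cancel_right]

theorem TT_normalized (Ψ : SLn ≃* SLn) (i : MulAut PSLn) (hi : i ∈ I0 (liftAut Ψ))
    (t : MulAut PSLn) (ht : t ∈ TT Ψ) : i * t * i⁻¹ ∈ TT Ψ := by
  obtain ⟨z, hz, rfl⟩ := hi
  obtain ⟨_, ⟨s, hs, rfl⟩, rfl⟩ := ht
  obtain ⟨A, rfl⟩ := mkP_surjective z
  refine ⟨mkP (A * s * A⁻¹), ⟨A * s * A⁻¹, fixSL_conj Ψ A hz s hs, rfl⟩, ?_⟩
  rw [map_mul, map_mul, map_inv, map_mul, map_mul, map_inv]

theorem finite_aut [Finite F] : Finite (MulAut PSLn) := by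
  haveI : Finite PSLn := by
    unfold Matrix.ProjectiveSpecialLinearGroup
    infer_instance
  exact Finite.of_injective (fun e : MulAut PSLn => (e : PSLn → PSLn)) DFunLike.coe_injective

/-- **the `p'`-core of the centraliser of `liftAut Ψ` is trivial**, given that the image of the
fixed points of `Ψ` has no invariant `p'`-subgroups and a small centraliser -/
theorem core_bot [Finite F] (hn : 2 ≤ n) (Ψ : SLn ≃* SLn) (p : ℕ)
    (A : Subgroup (MulAut PSLn)) (hinn : ∀ k : PSLn, MulAut.conj k ∈ A)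
    (hord : orderOf (liftAut Ψ) = p)
    (he1 : ∀ M : Subgroup PSLn, M ≤ (fixSL Ψ).map mkP →
      (∀ z ∈ fixP (liftAut Ψ), ∀ m ∈ M, z * m * z⁻¹ ∈ M) → (Nat.card M).Coprime p → M = ⊥)
    (he2 : ∀ ρ : MulAut PSLn, (∀ s, Ψ s = s → ρ (mkP s) = mkP s) →
      ρ ∈ Subgroup.zpowers (liftAut Ψ)) :
    Cfsg.pPrimeCore p ↥(A ⊓ Subgroup.centralizer {liftAut Ψ}) = ⊥ := by
  haveI := finite_aut (F := F) (n := n)
  by_contra hne
  rw [← ne_eq, pPrimeCore_ne_bot_iff] at hne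
  obtain ⟨N, hNC, hN0, hNn, hNc⟩ := hne
  apply hN0
  apply engine (A ⊓ Subgroup.centralizer {liftAut Ψ}) N (I0 (liftAut Ψ)) (TT Ψ)
    (Subgroup.zpowers (liftAut Ψ)) p hNC hNn hNc (I0_le _ A hinn)
    (fun c hc i hi => I0_normalized _ c hc.2 i hi) (TT_le_I0 Ψ) (TT_normalized Ψ)
  · intro M hMT hMn hMc
    obtain ⟨MK, hMK⟩ : ∃ MK : Subgroup PSLn, MK = M.comap (MulAut.conj : PSLn →* MulAut PSLn) :=
      ⟨_, rfl⟩
    have hmap : MK.map (MulAut.conj : PSLn →* MulAut PSLn) = M := by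
      rw [hMK, Subgroup.map_comap_eq_self]
      intro m hm
      obtain ⟨k, -, rfl⟩ := hMT hm
      exact ⟨k, rfl⟩
    have hbot : MK = ⊥ := by
      apply he1
      · intro k hk
        rw [hMK, Subgroup.mem_comap] at hk
        obtain ⟨k', hk', hkk⟩ := hMT hk
        rw [← conj_injective hn hkk]
        exact hk'
      · intro z hz m hm
        rw [hMK, Subgroup.mem_comap] at hm ⊢
        rw [map_mul, map_mul, map_inv]
        exact hMn _ ⟨z, hz, rfl⟩ _ hm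
      · rw [← hmap, Subgroup.card_map_of_injective (conj_injective hn)] at hMc
        exact hMc
    rw [← hmap, hbot, Subgroup.map_bot]
  · intro y hy
    apply he2
    intro s hs
    apply conj_injective hn
    have h1 := hy (MulAut.conj (mkP s)) ⟨mkP s, ⟨s, hs, rfl⟩, rfl⟩
    rw [conj_comm_aut] at h1
    exact mul_right_cancel h1
  · rw [Nat.card_zpowers, hord]

end Cfsg.Agent.Lib.Helper6.Lbg
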