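import Mathlib
import Cfsg.Prelude
import Cfsg.Agent.Lib.Helper6.LbgA
import Cfsg.Agent.S0249

set_option autoImplicit false
set_option linter.unusedSectionVars false
set_option linter.unusedVariables false
open Cfsg

/-! Local balance for `PSL_n`: the Iwasawa dichotomy for `SL_n`, and the deduction of the
"no invariant `p'`-subgroup" hypothesis from a dichotomy. -/

namespace Cfsg.Agent.Lib.Helper6.Lbg

open Matrix Cfsg.Agent.Lib.Helper9.APSL Cfsg.Agent.Lib.Helper9.ALB

section sldich
open MulAction
open scoped LinearAlgebra.Projectivization Pointwise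

variable {K : Type*} [Field K] {ι : Type*} [DecidableEq ι] [Fintype ι]

/-- the Iwasawa structure on `SL` acting on the projective space -/
noncomputable def iwasawaSL [Nontrivial ι] :
    IwasawaStructure (Matrix.SpecialLinearGroup ι K) (ℙ K (ι → K)) where
  T p := Matrix.SpecialLinearGroup.lineStab p.submodule
  is_comm p := by
    rw [← Projectivization.mk_rep p, Projectivization.submodule_mk]
    exact Matrix.SpecialLinearGroup.lineStab_isMulCommutative_of_span p.rep p.rep_nonzero
  is_conj g p := by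
    rw [PSL.smul_submodule, Matrix.SpecialLinearGroup.lineStab_smul]
  is_generator := Cfsg.Agent.S0249.iSup_lineStab_eq_top

/-- **the Iwasawa dichotomy for `SL`** -/
theorem sl_dichotomy [Nontrivial ι] (N : Subgroup (Matrix.SpecialLinearGroup ι K)) [N.Normal] :
    commutator (Matrix.SpecialLinearGroup ι K) ≤ N ∨
      N ≤ Subgroup.center (Matrix.SpecialLinearGroup ι K) := by
  by_cases hfix : MulAction.fixedPoints N (ℙ K (ι → K)) = Set.univ
  · right
    intro g hg
    rw [← Projectivization.SL_mulAction_ker, MonoidHom.mem_ker]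
    apply Equiv.ext
    intro p
    rw [MulAction.toPermHom_apply, MulAction.toPerm_apply, Equiv.Perm.one_apply]
    have : p ∈ MulAction.fixedPoints N (ℙ K (ι → K)) := by rw [hfix]; exact Set.mem_univ p
    exact this ⟨g, hg⟩
  · left
    exact (iwasawaSL).commutator_le N hfix

theorem transvection_pow' {i j : ι} (hij : i ≠ j) (c : K) (k : ℕ) :
    (Matrix.SpecialLinearGroup.transvection hij c) ^ k =
      Matrix.SpecialLinearGroup.transvection hij (k • c) := by
  induction k with
  | zero => rw [pow_zero, zero_smul, Matrix.SpecialLinearGroup.transvection_coeff_zero]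
  | succ k ih => rw [pow_succ, ih, succ_nsmul, Matrix.SpecialLinearGroup.transvection_add]

/-- the abelianisation of `SL` has exponent dividing the characteristic -/
theorem sl_pow_char_mem_commutator [Nontrivial ι] (r : ℕ) [CharP K r]
    (s : Matrix.SpecialLinearGroup ι K) : s ^ r ∈ commutator (Matrix.SpecialLinearGroup ι K) := by
  rw [← Abelianization.ker_of, MonoidHom.mem_ker, map_pow]
  refine Cfsg.Agent.Lib.Helper4.transvection_induction_gen
    (fun s => (Abelianization.of s) ^ r = 1) ?_ ?_ s
  · intro i j hij c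
    show (Abelianization.of (Matrix.SpecialLinearGroup.transvection hij c)) ^ r = 1
    rw [← map_pow, transvection_pow']
    have h0 : r • c = 0 := by rw [nsmul_eq_mul, CharP.cast_eq_zero, zero_mul]
    rw [h0, Matrix.SpecialLinearGroup.transvection_coeff_zero, map_one]
  · intro A B hA hB
    show (Abelianization.of (A * B)) ^ r = 1
    rw [map_mul, mul_pow, hA, hB, one_mul]

end sldich

variable {F : Type*} [Field F] {n : ℕ}

local notation "Mn" => Matrix (Fin n) (Fin n) F
local notation "SLn" => Matrix.SpecialLinearGroup (Fin n) F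
local notation "PSLn" => Matrix.ProjectiveSpecialLinearGroup (Fin n) F
local notation "Vn" => (Fin n → F)
local notation "GLn" => GL (Fin n) F

/-- the "no invariant `p'`-subgroup" hypothesis from a dichotomy for a group `S₀` mapping onto
the fixed points of `Ψ` -/
theorem he1_of_dichotomy {S₀ : Type*} [Group S₀] (Ψ : SLn ≃* SLn) (e : S₀ →* SLn)
    (hrange : ∀ s : SLn, Ψ s = s ↔ s ∈ e.range) (p r : ℕ) [hp : Fact p.Prime]
    (hdich : ∀ M : Subgroup S₀, M.Normal → commutator S₀ ≤ M ∨ ∀ m ∈ M, mkP (e m) = 1)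
    (hexp : ∀ s : S₀, s ^ r ∈ commutator S₀) (hrp : Nat.Coprime r p)
    (hk : ∃ B : SLn, Ψ B = B ∧ orderOf (mkP B) = p)
    (M : Subgroup PSLn) (hM : M ≤ (fixSL Ψ).map mkP)
    (hMn : ∀ z ∈ fixP (liftAut Ψ), ∀ m ∈ M, z * m * z⁻¹ ∈ M) (hMc : (Nat.card M).Coprime p) :
    M = ⊥ := by
  obtain ⟨M', hM'⟩ : ∃ M' : Subgroup S₀, M' = M.comap (mkP.comp e) := ⟨_, rfl⟩
  have hM'n : M'.Normal := by
    constructor
    intro s hs t
    rw [hM', Subgroup.mem_comap] at hs ⊢
    rw [map_mul, map_mul, map_inv]
    exact hMn _ (mkP_mem_fixP ((hrange _).mpr ⟨t, rfl⟩)) _ hs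
  rcases hdich M' hM'n with hc | hc
  · exfalso
    obtain ⟨B, hB, hBo⟩ := hk
    obtain ⟨s₀, rfl⟩ := (hrange B).mp hB
    have h1 : s₀ ^ r ∈ M' := hc (hexp s₀)
    rw [hM', Subgroup.mem_comap, map_pow] at h1
    have h2 : orderOf ((mkP.comp e) s₀ ^ r) = p := by
      rw [Nat.Coprime.orderOf_pow]
      · exact hBo
      · show (orderOf (mkP (e s₀))).Coprime r
        rw [hBo]
        exact hrp.symm
    have h3 : p ∣ Nat.card M := by
      rw [← h2]
      exact Subgroup.orderOf_dvd_natCard M h1
    have h4 := Nat.Coprime.eq_one_of_dvd hMc.symm h3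
    exact hp.out.one_lt.ne' h4
  · rw [eq_bot_iff]
    intro x hx
    obtain ⟨s, hs, rfl⟩ := hM hx
    obtain ⟨m, rfl⟩ := (hrange s).mp hs
    rw [Subgroup.mem_bot]
    apply hc m
    rw [hM', Subgroup.mem_comap]
    exact hx

end Cfsg.Agent.Lib.Helper6.Lbg
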