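import Mathlib
import Cfsg.Prelude
import Cfsg.Agent.Lib.Helper6.LbgB
import Cfsg.Agent.Lib.Helper2.Lbf1

set_option autoImplicit false
set_option linter.unusedSectionVars false
set_option linter.unusedVariables false
open Cfsg

/-! Local balance for `PSL_n`: the standard field automorphisms. -/

namespace Cfsg.Agent.Lib.Helper6.Lbg

open Matrix Cfsg.Agent.Lib.Helper9.APSL Cfsg.Agent.Lib.Helper9.ALB

variable {F : Type*} [Field F] {n : ℕ}

local notation "Mn" => Matrix (Fin n) (Fin n) F
local notation "SLn" => Matrix.SpecialLinearGroup (Fin n) F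
local notation "PSLn" => Matrix.ProjectiveSpecialLinearGroup (Fin n) F
local notation "Vn" => (Fin n → F)
local notation "GLn" => GL (Fin n) F

section fieldrange
variable {F₀ : Type*} [Field F₀] (j : F₀ →+* F)

theorem fieldSL_map (σ : F ≃+* F) (hι' : ∀ t : F₀, σ (j t) = j t)
    (s : Matrix.SpecialLinearGroup (Fin n) F₀) :
    fieldSL σ (Matrix.SpecialLinearGroup.map j s) = Matrix.SpecialLinearGroup.map j s := by
  apply Subtype.ext
  rw [fieldSL_coe]
  ext a b
  rw [Matrix.map_apply, Matrix.SpecialLinearGroup.map_apply_coe, RingHom.mapMatrix_apply,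
    Matrix.map_apply, hι']

theorem exists_map_eq (σ : F ≃+* F) (hι : ∀ a : F, σ a = a → a ∈ Set.range j) (A : SLn)
    (hA : fieldSL σ A = A) : ∃ s : Matrix.SpecialLinearGroup (Fin n) F₀,
      Matrix.SpecialLinearGroup.map j s = A := by
  have hfix : ∀ a b, σ ((A : Mn) a b) = (A : Mn) a b := by
    intro a b
    have h1 := congrArg (fun B : SLn => (B : Mn) a b) hA
    simp only [fieldSL_coe, Matrix.map_apply] at h1
    exact h1
  choose c hc using fun a b => hι _ (hfix a b)
  have hM : (Matrix.of c).map j = (A : Mn) := by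
    ext a b
    exact hc a b
  have hdet : (Matrix.of c).det = 1 := by
    apply j.injective
    rw [RingHom.map_det, map_one, RingHom.mapMatrix_apply, hM]
    exact A.2
  obtain ⟨s, hs⟩ : ∃ s : Matrix.SpecialLinearGroup (Fin n) F₀,
      (s : Matrix (Fin n) (Fin n) F₀) = Matrix.of c := ⟨⟨Matrix.of c, hdet⟩, rfl⟩
  refine ⟨s, Subtype.ext ?_⟩
  rw [Matrix.SpecialLinearGroup.map_apply_coe, RingHom.mapMatrix_apply, hs]
  exact hM

theorem mkP_map_center (s : Matrix.SpecialLinearGroup (Fin n) F₀)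
    (hs : s ∈ Subgroup.center (Matrix.SpecialLinearGroup (Fin n) F₀)) :
    mkP (Matrix.SpecialLinearGroup.map j s) = 1 := by
  rw [mkP_eq_one_iff, Matrix.SpecialLinearGroup.mem_center_iff]
  rw [Matrix.SpecialLinearGroup.mem_center_iff] at hs
  obtain ⟨c, hc, hcs⟩ := hs
  refine ⟨j c, by rw [← map_pow, hc, map_one], ?_⟩
  rw [Matrix.SpecialLinearGroup.map_apply_coe, RingHom.mapMatrix_apply, ← hcs]
  ext a b
  rw [Matrix.map_apply, Matrix.scalar_apply, Matrix.scalar_apply, Matrix.diagonal_apply,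
    Matrix.diagonal_apply]
  split_ifs
  · rfl
  · exact (map_zero j).symm

end fieldrange

/-- a field automorphism of order `p` fixes the `p`-th roots of unity -/
theorem aut_fix_root (σ : RingAut F) (p : ℕ) [hp : Fact p.Prime] (hσ : σ ^ p = 1) (ω : Fˣ)
    (hω : orderOf ω = p) : σ (ω : F) = ω := by
  have hω' : orderOf (ω : F) = p := by rw [orderOf_units]; exact hω
  have hprim : IsPrimitiveRoot (ω : F) p := hω' ▸ IsPrimitiveRoot.orderOf (ω : F)
  have h1 : (σ (ω : F)) ^ p = 1 := by rw [← map_pow, hprim.pow_eq_one, map_one]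
  haveI : NeZero p := ⟨hp.out.ne_zero⟩
  obtain ⟨a, -, ha⟩ := hprim.eq_pow_of_pow_eq_one h1
  have h2 : ∀ k : ℕ, (σ ^ k) (ω : F) = (ω : F) ^ (a ^ k) := by
    intro k
    induction k with
    | zero => simp
    | succ k ih =>
      rw [pow_succ', RingAut.mul_apply, ih, map_pow, ← ha, ← pow_mul, ← pow_succ']
  have h3 := h2 p
  rw [hσ, RingAut.one_apply] at h3
  have h4 : a ^ p ≡ 1 [MOD p] := by
    have h5 : ω ^ (a ^ p) = ω ^ 1 := by
      apply Units.ext
      rw [Units.val_pow_eq_pow_val, Units.val_pow_eq_pow_val, pow_one]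
      exact h3.symm
    rw [pow_eq_pow_iff_modEq, hω] at h5
    exact h5
  have h5 : a ^ p ≡ a [MOD p] := by
    rw [← ZMod.natCast_eq_natCast_iff]
    push_cast
    exact ZMod.pow_card (a : ZMod p)
  have h6 : a ≡ 1 [MOD p] := h5.symm.trans h4
  rw [← ha]
  have h7 : ω ^ a = ω ^ 1 := by
    rw [pow_eq_pow_iff_modEq, hω]
    exact h6
  have h8 := congrArg Units.val h7
  rw [Units.val_pow_eq_pow_val, Units.val_pow_eq_pow_val, pow_one] at h8
  exact h8

/-- a diagonal element of `SL_n` with entries `ω, ω⁻¹, 1, …, 1` whose image in `PSL_n` has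
order `p` -/
theorem exists_diag_order (hn : 2 ≤ n) (ω : Fˣ) (p : ℕ) [hp : Fact p.Prime]
    (hω : orderOf ω = p) (hcase : ¬ (n = 2 ∧ p = 2)) :
    ∃ (B : SLn) (d : Fin n → F), (B : Mn) = Matrix.diagonal d ∧
      (∀ i, d i = (ω : F) ∨ d i = (ω : F)⁻¹ ∨ d i = 1) ∧ orderOf (mkP B) = p := by
  have hω' : orderOf (ω : F) = p := by rw [orderOf_units]; exact hω
  have hωp : (ω : F) ^ p = 1 := by rw [← hω']; exact pow_orderOf_eq_one _
  have hω1 : (ω : F) ≠ 1 := by
    intro h
    rw [h, orderOf_one] at hω'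
    exact hp.out.one_lt.ne hω'
  obtain ⟨i₀, hi₀⟩ : ∃ i₀ : Fin n, i₀ = ⟨0, by omega⟩ := ⟨_, rfl⟩
  obtain ⟨i₁, hi₁⟩ : ∃ i₁ : Fin n, i₁ = ⟨1, by omega⟩ := ⟨_, rfl⟩
  have h01 : i₀ ≠ i₁ := by
    rw [hi₀, hi₁]
    intro h
    have := congrArg Fin.val h
    simp at this
  obtain ⟨d, hd⟩ : ∃ d : Fin n → F,
      d = fun i => if i = i₀ then (ω : F) else if i = i₁ then (ω : F)⁻¹ else 1 := ⟨_, rfl⟩
  have hd0 : d i₀ = ω := by rw [hd]; simp
  have hd1 : d i₁ = (ω : F)⁻¹ := by rw [hd]; simp [h01.symm]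
  have hdet : (Matrix.diagonal d).det = 1 := by
    rw [Matrix.det_diagonal]
    have hfac : ∀ i, d i = (if i = i₀ then (ω : F) else 1) *
        (if i = i₁ then (ω : F)⁻¹ else 1) := by
      intro i
      rw [hd]
      by_cases h0 : i = i₀
      · subst h0; simp [h01]
      · simp [h0]
    rw [Finset.prod_congr rfl (fun i _ => hfac i), Finset.prod_mul_distrib,
      Finset.prod_ite_eq', Finset.prod_ite_eq']
    simp
  obtain ⟨B, hB⟩ : ∃ B : SLn, (B : Mn) = Matrix.diagonal d := ⟨⟨Matrix.diagonal d, hdet⟩, rfl⟩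
  refine ⟨B, d, hB, ?_, ?_⟩
  · intro i
    rw [hd]
    simp only
    split_ifs
    · exact Or.inl rfl
    · exact Or.inr (Or.inl rfl)
    · exact Or.inr (Or.inr rfl)
  · apply orderOf_eq_prime
    · rw [← map_pow, mkP_eq_one_iff]
      have : B ^ p = 1 := by
        apply Subtype.ext
        rw [Matrix.SpecialLinearGroup.coe_pow, Matrix.SpecialLinearGroup.coe_one, hB]
        rw [Matrix.diagonal_pow]
        have hdp : d ^ p = 1 := by
          funext i
          rw [hd]
          simp only [Pi.pow_apply, Pi.one_apply]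
          split_ifs
          · exact hωp
          · rw [inv_pow, hωp, inv_one]
          · exact one_pow p
        rw [hdp]
        exact Matrix.diagonal_one
      rw [this]
      exact Subgroup.one_mem _
    · intro h
      rw [mkP_eq_one_iff, Matrix.SpecialLinearGroup.mem_center_iff] at h
      obtain ⟨c, -, hc⟩ := h
      rw [hB] at hc
      have e0 : c = d i₀ := by
        have := congrFun (congrFun hc i₀) i₀
        simpa [Matrix.scalar_apply] using this
      have e1 : c = d i₁ := by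
        have := congrFun (congrFun hc i₁) i₁
        simpa [Matrix.scalar_apply] using this
      rw [hd0] at e0
      rw [hd1] at e1
      rcases Nat.lt_or_ge 2 n with h3 | h2
      · have e2 : c = d ⟨2, h3⟩ := by
          have := congrFun (congrFun hc ⟨2, h3⟩) ⟨2, h3⟩
          simpa [Matrix.scalar_apply] using this
        have hd2 : d ⟨2, h3⟩ = 1 := by
          rw [hd]
          have h20 : (⟨2, h3⟩ : Fin n) ≠ i₀ := by
            rw [hi₀]; intro h; have := congrArg Fin.val h; simp at this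
          have h21 : (⟨2, h3⟩ : Fin n) ≠ i₁ := by
            rw [hi₁]; intro h; have := congrArg Fin.val h; simp at this
          simp [h20, h21]
        rw [hd2] at e2
        exact hω1 (e0.symm.trans e2)
      · have hn2 : n = 2 := by omega
        have hω2 : (ω : F) ^ 2 = 1 := by
          have : (ω : F) = (ω : F)⁻¹ := e0.symm.trans e1
          have hne : (ω : F) ≠ 0 := Units.ne_zero ω
          rw [pow_two]
          nth_rewrite 2 [this]
          exact mul_inv_cancel₀ hne
        have h2 : p ∣ 2 := by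
          rw [← hω']
          exact orderOf_dvd_of_pow_eq_one hω2
        have hp2 : p = 2 := (Nat.prime_dvd_prime_iff_eq hp.out Nat.prime_two).mp h2
        exact hcase ⟨hn2, hp2⟩

/-- **an element of order `p` among the rational points**, when `p` divides the number of
fixed points of the standard field automorphism -/
theorem exists_order_p_field [Fintype F] (hn : 2 ≤ n) (σ : RingAut F) (p : ℕ)
    [hp : Fact p.Prime] (hord : orderOf σ = p)
    (hdvd : p ∣ Nat.card ↥(fixP (liftAut (fieldSL (n := n) σ)))) :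
    ∃ B : SLn, fieldSL σ B = B ∧ orderOf (mkP B) = p := by
  by_cases hq : p ∣ Fintype.card F - 1
  · have hcard : Nat.card Fˣ = Fintype.card F - 1 := by
      rw [Nat.card_units, Nat.card_eq_fintype_card]
    obtain ⟨ω, hω⟩ := exists_prime_orderOf_dvd_card' (G := Fˣ) p (hcard ▸ hq)
    have hω' : orderOf (ω : F) = p := by rw [orderOf_units]; exact hω
    have hσω : σ (ω : F) = ω := aut_fix_root σ p (hord ▸ pow_orderOf_eq_one σ) ω hω
    have hωp : (ω : F) ^ p = 1 := by rw [← hω']; exact pow_orderOf_eq_one _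
    have hω1 : (ω : F) ≠ 1 := by
      intro h
      rw [h, orderOf_one] at hω'
      exact hp.out.one_lt.ne hω'
    by_cases hcase : n = 2 ∧ p = 2
    · obtain ⟨rfl, rfl⟩ := hcase
      obtain ⟨B, hB⟩ : ∃ B : Matrix.SpecialLinearGroup (Fin 2) F,
          (B : Matrix (Fin 2) (Fin 2) F) = !![0, 1; -1, 0] :=
        ⟨⟨!![0, 1; -1, 0], by simp [Matrix.det_fin_two]⟩, rfl⟩
      refine ⟨B, ?_, ?_⟩
      · apply Subtype.ext
        rw [fieldSL_coe, hB]
        ext i j
        fin_cases i <;> fin_cases j <;> simp [Matrix.map_apply]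
      · apply orderOf_eq_prime
        · rw [← map_pow, mkP_eq_one_iff, Matrix.SpecialLinearGroup.mem_center_iff]
          refine ⟨-1, by simp, ?_⟩
          rw [Matrix.SpecialLinearGroup.coe_pow, hB]
          ext i j
          fin_cases i <;> fin_cases j <;>
            simp [pow_two, Matrix.mul_apply, Fin.sum_univ_two, Matrix.scalar_apply]
        · intro h
          rw [mkP_eq_one_iff, Matrix.SpecialLinearGroup.mem_center_iff] at h
          obtain ⟨c, -, hc⟩ := h
          rw [hB] at hc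
          have := congrFun (congrFun hc 0) 1
          simp [Matrix.scalar_apply] at this
    · obtain ⟨B, d, hB, hd, hBo⟩ := exists_diag_order hn ω p hω hcase
      refine ⟨B, ?_, hBo⟩
      apply Subtype.ext
      rw [fieldSL_coe, hB, Matrix.diagonal_map (map_zero σ)]
      congr 1
      funext i
      rcases hd i with h | h | h
      · rw [h]; exact hσω
      · rw [h, map_inv₀, hσω]
      · rw [h]; exact map_one σ
  · obtain ⟨z, hz⟩ := exists_prime_orderOf_dvd_card' p hdvd
    obtain ⟨A, hA⟩ := mkP_surjective (z : PSLn)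
    have hzfix : liftAut (fieldSL σ) (mkP A) = mkP A := by
      rw [hA]
      exact z.2
    rw [liftAut_mkP] at hzfix
    obtain ⟨u, hun, hu⟩ := (mkP_eq_iff A (fieldSL σ A)).mp hzfix.symm
    have hu0 : u ≠ 0 := by
      rintro rfl
      rw [zero_pow (by omega)] at hun
      exact zero_ne_one hun
    have hu1 : u ^ (Fintype.card F - 1) = 1 := FiniteField.pow_card_sub_one_eq_one u hu0
    refine ⟨A ^ (Fintype.card F - 1), ?_, ?_⟩
    · rw [map_pow]
      apply Subtype.ext
      rw [Matrix.SpecialLinearGroup.coe_pow, Matrix.SpecialLinearGroup.coe_pow, hu, smul_pow, hu1,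
        one_smul]
    · have hzo : orderOf (z : PSLn) = p := by rw [Subgroup.orderOf_coe]; exact hz
      rw [map_pow, hA, Nat.Coprime.orderOf_pow, hzo]
      rw [hzo]
      exact (Nat.Prime.coprime_iff_not_dvd hp.out).mpr hq

theorem zpowers_of_fixes' [Finite F] (σ τ : RingAut F) (h : ∀ a, σ a = a → τ a = a) :
    τ ∈ Subgroup.zpowers σ := by
  haveI : Finite (RingAut F) := finite_ringAut
  let f : F →ₐ[FixedPoints.subfield (Subgroup.zpowers σ) F] F :=
    { (τ : F →+* F) with
      commutes' := fun a => h _ ((mem_fixed_subfield σ (a : F)).mp a.2) }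
  obtain ⟨g, hg⟩ := (FixedPoints.toAlgHom_bijective (Subgroup.zpowers σ) F).2 f
  have h1 : (g : RingAut F) = τ := by
    ext a
    have h2 := congrArg (fun e : F →ₐ[FixedPoints.subfield (Subgroup.zpowers σ) F] F => e a) hg
    exact h2
  rw [← h1]
  exact g.2

theorem single_ne_zero'' (k : Fin n) : (Pi.single k 1 : Vn) ≠ 0 := by
  intro h0
  have := congrFun h0 k
  simp at this

/-- an automorphism fixing two elementary transvections with the same centre and different
axes is not of graph type -/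
theorem not_graph_of_fix [Finite F] (r : ℕ) [Fact r.Prime] [CharP F r] (h3 : 3 ≤ n) (g : GLn)
    (τ : RingAut F) (ρ : MulAut PSLn)
    (hρ : ρ = liftAut (conjSL g) * liftAut (fieldSL τ) * liftAut invT)
    (hfix : ∀ (k l : Fin n) (hkl : k ≠ l), ρ (mkP (xS k l hkl 1)) = mkP (xS k l hkl 1)) :
    False := by
  have hPH : PH ((ρ : MulAut PSLn) : PSLn ≃* PSLn) := by
    rw [hρ]
    exact (PP.mul (pp_conj g) (pp_field r h3 τ)).mul_PH ph_invT
  obtain ⟨k, hk⟩ : ∃ k : Fin n, k = ⟨0, by omega⟩ := ⟨_, rfl⟩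
  obtain ⟨l, hl⟩ : ∃ l : Fin n, l = ⟨1, by omega⟩ := ⟨_, rfl⟩
  obtain ⟨l', hl'⟩ : ∃ l' : Fin n, l' = ⟨2, by omega⟩ := ⟨_, rfl⟩
  have hkl : k ≠ l := by rw [hk, hl]; intro h; have := congrArg Fin.val h; simp at this
  have hkl' : k ≠ l' := by rw [hk, hl']; intro h; have := congrArg Fin.val h; simp at this
  have hll' : l ≠ l' := by rw [hl, hl']; intro h; have := congrArg Fin.val h; simp at this
  obtain ⟨φ', hφ', e'⟩ := hPH.1 (Pi.single k 1) (single_ne_zero'' k)
  have key : ∀ (m : Fin n) (hkm : k ≠ m), Par φ' (Pi.single m 1) := by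
    intro m hkm
    have hx : mkP (xS k m hkm 1) ∈ TPb (Pi.single k 1 : Vn) :=
      mem_TPb.mpr ⟨Pi.single m 1, sd hkm 1 1, rfl⟩
    have hx' : ρ (mkP (xS k m hkm 1)) ∈ THb φ' := by
      rw [← e']
      exact ⟨_, hx, rfl⟩
    rw [hfix] at hx'
    exact par_of_mem_THb (by omega) (sd hkm 1 1) (single_ne_zero'' k) (single_ne_zero'' m) hx'
  obtain ⟨c, hc, h1⟩ := key l hkl
  obtain ⟨c', hc', h2⟩ := key l' hkl'
  have h3 : (Pi.single l' 1 : Vn) = (c' * c⁻¹) • Pi.single l 1 := by
    rw [h1, smul_smul, mul_assoc, inv_mul_cancel₀ hc, mul_one, ← h2]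
  have h4 := congrFun h3 l'
  rw [Pi.smul_apply, Pi.single_eq_same, Pi.single_eq_of_ne hll'.symm, smul_zero] at h4
  exact one_ne_zero h4

/-- **the centraliser of the rational points** consists of field automorphisms trivial on the
fixed field -/
theorem cent_field [Fintype F] (r : ℕ) [Fact r.Prime] [CharP F r] (hn : 2 ≤ n) (σ : RingAut F)
    (ρ : MulAut PSLn) (hρ : ∀ s : SLn, fieldSL σ s = s → ρ (mkP s) = mkP s) :
    ρ ∈ Subgroup.zpowers (fld (n := n) σ) := by
  have hn0 : 0 < n := by omega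
  have hfixx : ∀ (k l : Fin n) (hkl : k ≠ l) (t : F), σ t = t →
      ρ (mkP (xS k l hkl t)) = mkP (xS k l hkl t) := by
    intro k l hkl t ht
    apply hρ
    rw [fieldSL_xS, ht]
  have hstd : ∃ (h : GLn) (τ : RingAut F), ρ = cG h * fld τ := by
    rcases Nat.lt_or_ge 2 n with h3 | h2
    · obtain ⟨g, τ, hρ1 | hρ1⟩ := aut_PSL_std r hn ρ
      · exact ⟨g, τ, hρ1⟩
      · exfalso
        exact not_graph_of_fix r h3 g τ ρ hρ1
          (fun k l hkl => hfixx k l hkl 1 (map_one σ))
    · obtain rfl : n = 2 := by omega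
      obtain ⟨g, τ, h⟩ := aut_eq_std_plane r ρ
      exact ⟨g, τ, h⟩
  obtain ⟨h, τ, rfl⟩ := hstd
  have himg : ∀ (k l : Fin n) (hkl : k ≠ l) (t : F),
      (cG h * fld τ : MulAut PSLn) (mkP (xS k l hkl t)) =
        mkP (conjSL h (xS k l hkl (τ t))) := by
    intro k l hkl t
    rw [MulAut.mul_apply, fld_apply, liftAut_mkP, fieldSL_xS, cG_apply, liftAut_mkP]
  -- `h` is diagonal
  have hcol : ∀ (k l : Fin n) (hkl : k ≠ l), ∃ c : F, c ≠ 0 ∧
      (h : Mn) *ᵥ Pi.single k 1 = c • Pi.single k 1 := by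
    intro k l hkl
    have h1 := hfixx k l hkl 1 (map_one σ)
    rw [himg, map_one] at h1
    have h2 : conjSL h (xS k l hkl 1) = tvS ((h : Mn) *ᵥ Pi.single k 1)
        ((Pi.single l 1 : Vn) ᵥ* ((h⁻¹ : GLn) : Mn)) (by
          rw [← dotProduct_mulVec, mulVec_mulVec, ← Units.val_mul, inv_mul_cancel, Units.val_one,
            one_mulVec]
          exact sd hkl 1 1) := by
      unfold xS
      rw [conjSL_tvS]
    rw [h2] at h1
    have h3 := tv_eq_of_mkP_eq hn0 _ _ _ _ _ _ h1.symm
    obtain ⟨c, hc, h4, -⟩ := tv_eq_imp _ _ _ _ (single_ne_zero'' k) (single_ne_zero'' l) h3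
    exact ⟨c, hc, h4⟩
  obtain ⟨δ, hδdef⟩ : ∃ δ : Fin n → F, δ = fun i => (h : Mn) i i := ⟨_, rfl⟩
  have hother : ∀ k : Fin n, ∃ l : Fin n, k ≠ l := by
    intro k
    by_cases hk : k = ⟨0, hn0⟩
    · refine ⟨⟨1, by omega⟩, ?_⟩
      rw [hk]; intro h; have := congrArg Fin.val h; simp at this
    · exact ⟨⟨0, hn0⟩, hk⟩
  have hdiag : (h : Mn) = Matrix.diagonal δ := by
    ext i k
    obtain ⟨l, hkl⟩ := hother k
    obtain ⟨c, hc, h1⟩ := hcol k l hkl
    have h2 := congrFun h1 i
    rw [Matrix.mulVec_single_one, Pi.smul_apply] at h2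
    rw [Matrix.diagonal_apply, hδdef]
    by_cases hik : i = k
    · rw [if_pos hik, hik]
    · rw [if_neg hik]
      rw [Pi.single_eq_of_ne hik, smul_zero] at h2
      exact h2
  have hδ : ∀ i, δ i ≠ 0 := by
    intro k
    obtain ⟨l, hkl⟩ := hother k
    obtain ⟨c, hc, h1⟩ := hcol k l hkl
    have h2 := congrFun h1 k
    rw [Matrix.mulVec_single_one, Pi.smul_apply, Pi.single_eq_same, smul_eq_mul, mul_one] at h2
    rw [hδdef]
    show (h : Mn) k k ≠ 0
    have h3 : (h : Mn) k k = c := h2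
    rw [h3]
    exact hc
  have hrel : ∀ (k l : Fin n) (hkl : k ≠ l) (t : F), σ t = t → δ k * τ t * (δ l)⁻¹ = t := by
    intro k l hkl t ht
    have h1 := hfixx k l hkl t ht
    rw [himg, conjSL_diag_xS h δ hdiag hδ hkl] at h1
    exact xS_inj hkl h1
  have hδeq : ∀ (k l : Fin n), k ≠ l → δ k = δ l := by
    intro k l hkl
    have h1 := hrel k l hkl 1 (map_one σ)
    rw [map_one, mul_one] at h1
    calc δ k = δ k * (δ l)⁻¹ * δ l := by rw [inv_mul_cancel_right₀ (hδ l)]
      _ = δ l := by rw [h1, one_mul]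
  have hτ : ∀ t : F, σ t = t → τ t = t := by
    intro t ht
    obtain ⟨l, hkl⟩ := hother ⟨0, hn0⟩
    have h1 := hrel _ l hkl t ht
    rw [hδeq _ l hkl, mul_comm (δ l), mul_inv_cancel_right₀ (hδ l)] at h1
    exact h1
  have hτz := zpowers_of_fixes' σ τ hτ
  have hcG : cG h = (1 : MulAut PSLn) := by
    have hsc : h = Matrix.GeneralLinearGroup.scalar (Fin n) (Units.mk0 (δ ⟨0, hn0⟩) (hδ _)) := by
      apply Units.ext
      rw [scalar_coe_smul, hdiag]
      ext i k
      rw [Matrix.diagonal_apply, Matrix.smul_apply, Matrix.one_apply, Units.val_mk0]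
      by_cases hik : i = k
      · rw [if_pos hik, if_pos hik, smul_eq_mul, mul_one]
        by_cases hi0 : i = ⟨0, hn0⟩
        · rw [hi0]
        · exact hδeq _ _ hi0
      · rw [if_neg hik, if_neg hik, smul_zero]
    rw [hsc]
    exact cG_scalar hn _
  rw [hcG, one_mul]
  obtain ⟨k, rfl⟩ := Subgroup.mem_zpowers_iff.mp hτz
  rw [map_zpow]
  exact Subgroup.zpow_mem_zpowers _ k

/-- **the `p'`-core of the centraliser of a standard field automorphism of order `p`** -/
theorem psl_core_field [Fintype F] (r : ℕ) [hr : Fact r.Prime] [CharP F r] (hn : 2 ≤ n)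
    (σ : RingAut F) (p : ℕ) [hp : Fact p.Prime] (hpr : p ≠ r) (hord : orderOf σ = p)
    (A : Subgroup (MulAut PSLn)) (hinn : ∀ k : PSLn, MulAut.conj k ∈ A) :
    Cfsg.pPrimeCore p ↥(A ⊓ Subgroup.centralizer {fld (n := n) σ}) ≠ ⊥ ↔
      Nat.Coprime p (Nat.card ↥(fixP (fld (n := n) σ))) := by
  have hn0 : 0 < n := by omega
  obtain ⟨j, hj⟩ : ∃ j : ↥(FixedPoints.subfield (Subgroup.zpowers σ) F) →+* F,
      j = (FixedPoints.subfield (Subgroup.zpowers σ) F).subtype := ⟨_, rfl⟩
  have hι : ∀ a : F, σ a = a → a ∈ Set.range j := by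
    intro a ha
    rw [hj]
    exact ⟨⟨a, (mem_fixed_subfield σ a).mpr ha⟩, rfl⟩
  have hι' : ∀ t : ↥(FixedPoints.subfield (Subgroup.zpowers σ) F), σ (j t) = j t := by
    intro t
    rw [hj]
    exact (mem_fixed_subfield σ t.1).mp t.2
  haveI : CharP ↥(FixedPoints.subfield (Subgroup.zpowers σ) F) r :=
    RingHom.charP j j.injective r
  haveI : Nontrivial (Fin n) := Fin.nontrivial_iff_two_le.mpr hn
  constructor
  · intro h
    by_contra hc
    apply h
    have hdvd : p ∣ Nat.card ↥(fixP (fld (n := n) σ)) := by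
      by_contra hnd
      exact hc ((Nat.Prime.coprime_iff_not_dvd hp.out).mpr hnd)
    show Cfsg.pPrimeCore p ↥(A ⊓ Subgroup.centralizer {liftAut (fieldSL (n := n) σ)}) = ⊥
    apply core_bot hn (fieldSL σ) p A hinn
    · show orderOf (fld (n := n) σ) = p
      rw [orderOf_injective _ (fld_injective r hn), hord]
    · apply he1_of_dichotomy (fieldSL σ) (Matrix.SpecialLinearGroup.map j)
        (fun s => ⟨fun hs => exists_map_eq j σ hι s hs,
          fun ⟨s₀, hs₀⟩ => hs₀ ▸ fieldSL_map j σ hι' s₀⟩) p r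
      · intro M hM
        haveI := hM
        rcases sl_dichotomy M with h1 | h1
        · exact Or.inl h1
        · exact Or.inr (fun m hm => mkP_map_center j m (h1 hm))
      · exact sl_pow_char_mem_commutator r
      · exact (Nat.coprime_primes hr.out hp.out).mpr (Ne.symm hpr)
      · exact exists_order_p_field hn σ p hord hdvd
    · exact cent_field r hn σ
  · intro hcop
    apply Cfsg.Agent.Lib.Helper2.Lbf.core_ne_bot_of_coprime A (fld (n := n) σ) hinn
      (center_eq_bot hn) _ hcop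
    intro hbot
    obtain ⟨l, hkl⟩ : ∃ l : Fin n, (⟨0, hn0⟩ : Fin n) ≠ l := by
      refine ⟨⟨1, by omega⟩, ?_⟩
      intro h; have := congrArg Fin.val h; simp at this
    have h1 : mkP (xS _ l hkl 1) ∈ fixP (fld (n := n) σ) := by
      apply mkP_mem_fixP
      rw [fieldSL_xS, map_one]
    have h2 : mkP (xS _ l hkl (1 : F)) = 1 := by
      have h3 : mkP (xS _ l hkl (1 : F)) ∈ (⊥ : Subgroup PSLn) := by
        rw [← hbot]
        exact h1
      exact Subgroup.mem_bot.mp h3
    have h4 : mkP (xS _ l hkl (0 : F)) = 1 := by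
      rw [xS_eq_transvection, Matrix.SpecialLinearGroup.transvection_coeff_zero, map_one]
    exact one_ne_zero (xS_inj hkl (h2.trans h4.symm))

end Cfsg.Agent.Lib.Helper6.Lbg
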