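import Mathlib
import Cfsg.Prelude
import Cfsg.Agent.Lib.Helper6.LbgC
import Cfsg.Agent.Lib.Helper5.HermSimple

set_option autoImplicit false
set_option linter.unusedSectionVars false
set_option linter.unusedVariables false
set_option linter.unusedSimpArgs false
open Cfsg

/-! Local balance for `PSL_n`: the standard graph-field involution (unitary case). -/

namespace Cfsg.Agent.Lib.Helper6.Lbg

open Matrix Cfsg.Agent.Lib.Helper9.APSL Cfsg.Agent.Lib.Helper9.ALB

variable {F : Type*} [Field F] {n : ℕ}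

local notation "Mn" => Matrix (Fin n) (Fin n) F
local notation "SLn" => Matrix.SpecialLinearGroup (Fin n) F
local notation "PSLn" => Matrix.ProjectiveSpecialLinearGroup (Fin n) F
local notation "Vn" => (Fin n → F)
local notation "GLn" => GL (Fin n) F

theorem mkP_eq_one_of_smul (s : SLn) (a : F) (h : (s : Mn) = a • (1 : Mn)) : mkP s = 1 := by
  have h2 : a ^ n = 1 := by
    have hd := s.2
    rw [h, Matrix.det_smul, Matrix.det_one, mul_one, Fintype.card_fin] at hd
    exact hd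
  rw [show (1 : PSLn) = mkP 1 from (map_one mkP).symm]
  symm
  rw [mkP_eq_iff]
  exact ⟨a, h2, by rw [h, Matrix.SpecialLinearGroup.coe_one]⟩

theorem cG_eq_one_of_smul (hn : 2 ≤ n) (g : GLn) (c : F) (hc : (g : Mn) = c • (1 : Mn)) :
    cG g = (1 : MulAut PSLn) := by
  rw [← MonoidHom.mem_ker, cG_ker hn, Subgroup.mem_center_iff]
  intro k
  apply Units.ext
  rw [Units.val_mul, Units.val_mul, hc]
  simp

/-! ### vectors with three nonzero coordinates -/

/-- the vector `e_i + μ e_j + ν e_l` -/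
def X3 (i j l : Fin n) (μ ν : F) : Vn := Pi.single i 1 + μ • Pi.single j 1 + ν • Pi.single l 1

theorem X3_apply_i {i j l : Fin n} (hij : i ≠ j) (hil : i ≠ l) (μ ν : F) :
    X3 i j l μ ν i = 1 := by
  simp [X3, Pi.single_apply, hij, hil]

theorem X3_apply_j {i j l : Fin n} (hij : i ≠ j) (hjl : j ≠ l) (μ ν : F) :
    X3 i j l μ ν j = μ := by
  simp [X3, Pi.single_apply, hij.symm, hjl]

theorem X3_apply_l {i j l : Fin n} (hil : i ≠ l) (hjl : j ≠ l) (μ ν : F) :
    X3 i j l μ ν l = ν := by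
  simp [X3, Pi.single_apply, hil.symm, hjl.symm]

theorem X3_apply_other {i j l k : Fin n} (hki : k ≠ i) (hkj : k ≠ j) (hkl : k ≠ l) (μ ν : F) :
    X3 i j l μ ν k = 0 := by
  simp [X3, Pi.single_apply, hki, hkj, hkl]

theorem X3_ne_zero {i j l : Fin n} (hij : i ≠ j) (hil : i ≠ l) (μ ν : F) : X3 i j l μ ν ≠ 0 := by
  intro h0
  have := congrFun h0 i
  rw [X3_apply_i hij hil] at this
  exact one_ne_zero this

theorem sv_X3 (τ : RingAut F) (i j l : Fin n) (μ ν : F) :
    sv τ (X3 i j l μ ν) = X3 i j l (τ μ) (τ ν) := by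
  funext k
  simp only [sv, X3, Pi.add_apply, Pi.smul_apply, smul_eq_mul, map_add, map_mul, Pi.single_apply]
  split_ifs <;> simp

theorem Tsl_X3 (τ : RingAut F) (h : GLn) (i j l k : Fin n) (μ ν : F) :
    Tsl τ h (X3 i j l μ ν) k = (h : Mn) k i + τ μ * (h : Mn) k j + τ ν * (h : Mn) k l := by
  rw [Tsl, sv_X3, X3, Matrix.mulVec_add, Matrix.mulVec_add, Matrix.mulVec_smul, Matrix.mulVec_smul,
    Matrix.mulVec_single_one, Matrix.mulVec_single_one, Matrix.mulVec_single_one]
  simp [Matrix.col_apply]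

theorem dot_X3 {i j l : Fin n} (hij : i ≠ j) (hil : i ≠ l) (hjl : j ≠ l) (μ ν μ' ν' : F) :
    X3 i j l μ ν ⬝ᵥ X3 i j l μ' ν' = 1 + μ * μ' + ν * ν' := by
  conv_lhs => rw [X3]
  rw [add_dotProduct, add_dotProduct, smul_dotProduct, smul_dotProduct, single_dotProduct,
    single_dotProduct, single_dotProduct, X3_apply_i hij hil, X3_apply_j hij hjl,
    X3_apply_l hil hjl]
  simp

/-! ### the graph-field automorphism on `SL` -/

/-- `s ↦ σ(s)^{-T}` -/
def psiU (σ : RingAut F) : SLn ≃* SLn := (invT).trans (fieldSL σ)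

theorem liftAut_psiU (σ : RingAut F) : liftAut (psiU (n := n) σ) = fld σ * gam := by
  rw [fld_apply, gam_def, liftAut_mul]
  rfl

theorem psiU_coe (σ : RingAut F) (s : SLn) :
    ((psiU σ s : SLn) : Mn) = (((s⁻¹ : SLn) : Mn)ᵀ).map σ := by
  show ((fieldSL σ (invT s) : SLn) : Mn) = _
  rw [fieldSL_coe, invT_coe]

theorem sigma_sigma (σ : RingAut F) (hσ2 : σ * σ = 1) (x : F) : σ (σ x) = x := by
  have := congrArg (fun e : RingAut F => e x) hσ2
  simpa [RingAut.mul_apply] using this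

theorem psiU_fix_iff (σ : RingAut F) (hσ2 : σ * σ = 1) (q : ℕ) (hq : ∀ x : F, σ x = x ^ q)
    (s : SLn) : psiU σ s = s ↔ s ∈ Cfsg.SU n F q := by
  have h1 : s ∈ Cfsg.SU n F q ↔ Matrix.SpecialLinearGroup.toGL s ∈ Cfsg.GU n F q := Iff.rfl
  rw [h1, mem_GU_iff σ q hq]
  change psiU σ s = s ↔ (s : Mn) * ct σ (s : Mn) = 1
  constructor
  · intro h
    have h2 : ct σ ((s⁻¹ : SLn) : Mn) = (s : Mn) := by
      have h3 := congrArg (fun t : SLn => (t : Mn)) h
      simp only [psiU_coe] at h3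
      rw [← h3]
      unfold ct
      rw [Matrix.transpose_map]
    have h3 : ct σ ((s : Mn) * ((s⁻¹ : SLn) : Mn)) = 1 := by
      rw [← Matrix.SpecialLinearGroup.coe_mul, mul_inv_cancel, Matrix.SpecialLinearGroup.coe_one,
        ct_one]
    rw [ct_mul, h2] at h3
    exact h3
  · intro h
    apply Subtype.ext
    rw [psiU_coe]
    have h2 : ((s⁻¹ : SLn) : Mn) = ct σ (s : Mn) := by
      calc ((s⁻¹ : SLn) : Mn) = ((s⁻¹ : SLn) : Mn) * ((s : Mn) * ct σ (s : Mn)) := by
            rw [h, mul_one]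
        _ = ct σ (s : Mn) := by
            rw [← mul_assoc, ← Matrix.SpecialLinearGroup.coe_mul, inv_mul_cancel,
              Matrix.SpecialLinearGroup.coe_one, one_mul]
    rw [h2]
    unfold ct
    rw [Matrix.transpose_transpose]
    ext i j
    rw [Matrix.map_apply, Matrix.map_apply, sigma_sigma σ hσ2]

/-! ### the dichotomy for `SU` -/

section su
open Cfsg.Agent.Lib.Helper5.Herm Cfsg.Agent.Lib.Helper5.HermBlock
  Cfsg.Agent.Lib.Helper5.HermBridge Cfsg.Agent.Lib.Helper5.HermCount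
  Cfsg.Agent.Lib.Helper5.HermCard Cfsg.Agent.Lib.Helper5.HermFrames Cfsg.Agent.Lib.Helper5.HermTv
  Cfsg.Agent.Lib.Helper5.HermGen Cfsg.Agent.Lib.Helper5.HermSU Cfsg.Agent.Lib.Helper5.HermEich
  Cfsg.Agent.Lib.Helper5.HermSimple

attribute [local instance 2000] suSMul suAction suSMulComm isoSMul isoAction

theorem su_dichotomy [Fintype F] {q : ℕ} (hF : Fintype.card F = q ^ 2) (hn : 3 ≤ n)
    (h32 : ¬ (n = 3 ∧ q = 2)) (N : Subgroup ↥(Cfsg.SU n F q)) [N.Normal] :
    commutator ↥(Cfsg.SU n F q) ≤ N ∨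
      ∀ A ∈ N, ∃ a : F, ((A : SLn) : Mn) = a • (1 : Mn) := by
  by_cases hfix : MulAction.fixedPoints N ↥(isoPts F q n) = Set.univ
  · right
    intro A hAN
    have hA : ∀ p : ↥(isoPts F q n), A • p = p := by
      intro p
      have : p ∈ MulAction.fixedPoints N ↥(isoPts F q n) := by
        rw [hfix]; exact Set.mem_univ p
      exact this ⟨A, hAN⟩
    have hg : ∀ u : Fin n → F, u ≠ 0 → hermForm n F q u u = 0 →
        ∃ a : F, gact n (toGU n A) u = a • u := by
      intro u hu0 hu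
      have h1 := hA (pt n u hu0 hu)
      rw [smul_pt, pt_eq_pt_iff] at h1
      obtain ⟨a, ha⟩ := h1
      exact ⟨a, ha.symm⟩
    obtain ⟨a, ha⟩ := scalar_of_fix hF n (by omega) (toGU n A) hg
    refine ⟨a, ?_⟩
    rw [ext_iff_mulVec]
    intro x
    rw [smul_mulVec, one_mulVec]
    exact ha x
  · left
    have := isPreprimitive hF n
    exact (iwasawa hF n hn h32).commutator_le N hfix

theorem su_perfect [Fintype F] {q : ℕ} (hF : Fintype.card F = q ^ 2) (hn : 3 ≤ n)
    (h32 : ¬ (n = 3 ∧ q = 2)) : commutator ↥(Cfsg.SU n F q) = ⊤ :=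
  Cfsg.Agent.Lib.Helper5.HermSimple.perfect hF n hn h32

end su

/-! ### unitary transvections -/

theorem tvU_fixed (σ : RingAut F) (hσ2 : σ * σ = 1) (v : Vn) (c : F) (hc : σ c = -c)
    (hφv : (c • sv σ v) ⬝ᵥ v = 0) (h' : sv σ v ⬝ᵥ (c • v) = 0) :
    psiU σ (tvS v (c • sv σ v) hφv) = tvS v (c • sv σ v) hφv := by
  show fieldSL σ (invT (tvS v (c • sv σ v) hφv)) = _
  rw [invT_tvS, fieldSL_tvS]
  have e1 : (fun i => σ ((-(c • sv σ v)) i)) = c • v := by
    funext i
    simp only [Pi.neg_apply, Pi.smul_apply, smul_eq_mul, sv, map_neg, map_mul, hc,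
      sigma_sigma σ hσ2]
    ring
  exact (tvS_congr e1 rfl _ h').trans (tvS_smul_left c v (sv σ v) h' hφv)

theorem sv_ne_zero (σ : RingAut F) {v : Vn} (hv : v ≠ 0) : sv σ v ≠ 0 := by
  intro h
  apply hv
  funext i
  have := congrFun h i
  simp only [sv, Pi.zero_apply] at this
  exact (map_eq_zero σ).mp this

/-- an automorphism `cG h * fld τ` fixing the image of `SU` induces a semilinear map fixing every
isotropic point -/
theorem fix_iso_points (hn : 0 < n) (σ : RingAut F) (hσ1 : σ ≠ 1) (hσ2 : σ * σ = 1) (h : GLn)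
    (τ : RingAut F)
    (hρ : ∀ s : SLn, psiU σ s = s → (cG h * fld τ : MulAut PSLn) (mkP s) = mkP s) :
    ∀ v : Vn, v ≠ 0 → sv σ v ⬝ᵥ v = 0 → ∃ a : F, Tsl τ h v = a • v := by
  obtain ⟨x, hx⟩ : ∃ x : F, σ x ≠ x := by
    by_contra hall
    push Not at hall
    exact hσ1 (RingEquiv.ext hall)
  obtain ⟨c, hcdef⟩ : ∃ c : F, c = x - σ x := ⟨_, rfl⟩
  have hc0 : c ≠ 0 := by rw [hcdef]; exact sub_ne_zero.mpr (Ne.symm hx)
  have hc : σ c = -c := by rw [hcdef, map_sub, sigma_sigma σ hσ2]; ring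
  intro v hv hiso
  have hφv : (c • sv σ v) ⬝ᵥ v = 0 := by rw [smul_dotProduct, hiso, smul_zero]
  have h' : sv σ v ⬝ᵥ (c • v) = 0 := by rw [dotProduct_smul, hiso, smul_zero]
  have h1 := hρ _ (tvU_fixed σ hσ2 v c hc hφv h')
  rw [MulAut.mul_apply, fld_apply, liftAut_mkP, cG_apply, liftAut_mkP, fieldSL_tvS,
    conjSL_tvS] at h1
  have h3 := tv_eq_of_mkP_eq hn _ _ _ _ _ _ h1.symm
  obtain ⟨a, ha, h4, -⟩ := tv_eq_imp _ _ _ _ hv (smul_ne_zero hc0 (sv_ne_zero σ hv)) h3
  exact ⟨a, h4⟩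

/-- **semilinear maps fixing every isotropic point** of the standard hermitian form are scalar -/
theorem semilinear_unitary [Finite F] (hn : 3 ≤ n) (h2 : (2 : F) ≠ 0) (σ : RingAut F)
    (hσ1 : σ ≠ 1) (hσ2 : σ * σ = 1) (h : GLn) (τ : RingAut F)
    (hfix : ∀ v : Vn, v ≠ 0 → sv σ v ⬝ᵥ v = 0 → ∃ a : F, Tsl τ h v = a • v) :
    τ = 1 ∧ ∃ c : F, (h : Mn) = c • (1 : Mn) := by
  have hσσ := sigma_sigma σ hσ2
  have normsol : ∀ a : F, a ≠ 0 → σ a = a → ∃ μ : F, μ * σ μ = a := by
    intro a ha hfa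
    obtain ⟨μ, hμ⟩ := norm_surjective σ 2 (by norm_num) (hinj_two σ hσ1)
      (by rw [pow_two]; exact hσ2) (Units.mk0 a ha) (by apply Units.ext; exact hfa)
    refine ⟨(μ : F), ?_⟩
    rw [nrm_two] at hμ
    have := congrArg Units.val hμ
    simpa [uA_coe] using this
  have key : ∀ (i j l : Fin n) (hij : i ≠ j) (hil : i ≠ l) (hjl : j ≠ l) (μ ν : F),
      1 + σ μ * μ + σ ν * ν = 0 →
      ∃ a : F, (h : Mn) i i + τ μ * (h : Mn) i j + τ ν * (h : Mn) i l = a ∧
        (h : Mn) j i + τ μ * (h : Mn) j j + τ ν * (h : Mn) j l = a * μ ∧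
        (h : Mn) l i + τ μ * (h : Mn) l j + τ ν * (h : Mn) l l = a * ν := by
    intro i j l hij hil hjl μ ν hiso
    obtain ⟨a, ha⟩ := hfix _ (X3_ne_zero hij hil μ ν) (by
      rw [sv_X3, dot_X3 hij hil hjl]; exact hiso)
    refine ⟨a, ?_, ?_, ?_⟩
    · have := congrFun ha i
      rw [Tsl_X3, Pi.smul_apply, X3_apply_i hij hil, smul_eq_mul, mul_one] at this
      exact this
    · have := congrFun ha j
      rw [Tsl_X3, Pi.smul_apply, X3_apply_j hij hjl, smul_eq_mul] at this
      exact this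
    · have := congrFun ha l
      rw [Tsl_X3, Pi.smul_apply, X3_apply_l hil hjl, smul_eq_mul] at this
      exact this
  obtain ⟨μ₀, hμ₀⟩ := normsol (-1) (neg_ne_zero.mpr one_ne_zero) (by rw [map_neg, map_one])
  have hoff : ∀ (l i : Fin n), l ≠ i → (h : Mn) l i = 0 := by
    intro l i hli
    obtain ⟨j, hjl, hji⟩ := exists_third hn l i
    obtain ⟨a, -, -, e1⟩ := key i j l hji.symm hli.symm hjl μ₀ 0 (by
      rw [map_zero, zero_mul, add_zero, mul_comm, hμ₀]; ring)
    obtain ⟨a', -, -, e2⟩ := key i j l hji.symm hli.symm hjl (-μ₀) 0 (by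
      rw [map_zero, zero_mul, add_zero, map_neg, neg_mul_neg, mul_comm, hμ₀]; ring)
    rw [map_zero, zero_mul, add_zero, mul_zero] at e1 e2
    rw [map_neg] at e2
    have : 2 * (h : Mn) l i = 0 := by linear_combination e1 + e2
    exact (mul_eq_zero.mp this).resolve_left h2
  have hdiagEq : ∀ (i j l : Fin n) (hij : i ≠ j) (hil : i ≠ l) (hjl : j ≠ l) (μ ν : F),
      1 + σ μ * μ + σ ν * ν = 0 → τ ν * (h : Mn) l l = (h : Mn) i i * ν := by
    intro i j l hij hil hjl μ ν hiso
    obtain ⟨a, e0, -, e2⟩ := key i j l hij hil hjl μ ν hiso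
    rw [hoff i j hij, hoff i l hil, mul_zero, mul_zero, add_zero, add_zero] at e0
    rw [hoff l i hil.symm, hoff l j hjl.symm, mul_zero, zero_add, zero_add] at e2
    rw [e2, e0]
  obtain ⟨μ₂, hμ₂⟩ := normsol (-2) (neg_ne_zero.mpr h2) (by rw [map_neg, map_ofNat])
  have hδeq : ∀ (i l : Fin n), i ≠ l → (h : Mn) l l = (h : Mn) i i := by
    intro i l hil
    obtain ⟨j, hji, hjl⟩ := exists_third hn i l
    have := hdiagEq i j l hji.symm hil hjl μ₂ 1 (by
      rw [map_one, one_mul, mul_comm, hμ₂]; ring)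
    rw [map_one, one_mul, mul_one] at this
    exact this
  have hdiag : (h : Mn) = Matrix.diagonal (fun i => (h : Mn) i i) := by
    ext a b
    by_cases hab : a = b
    · subst hab; simp
    · rw [hoff a b hab, Matrix.diagonal_apply_ne _ hab]
  have hd0 : ∀ i, (h : Mn) i i ≠ 0 := by
    have hdet : (h : Mn).det ≠ 0 :=
      ((Matrix.isUnit_iff_isUnit_det _).mp (Units.isUnit h)).ne_zero
    have hdet' : (Matrix.diagonal (fun i => (h : Mn) i i)).det ≠ 0 := by
      rw [← hdiag]; exact hdet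
    rw [Matrix.det_diagonal] at hdet'
    exact fun i => Finset.prod_ne_zero_iff.mp hdet' i (Finset.mem_univ i)
  obtain ⟨i, hi⟩ : ∃ i : Fin n, i = ⟨0, by omega⟩ := ⟨_, rfl⟩
  obtain ⟨j, hj⟩ : ∃ j : Fin n, j = ⟨1, by omega⟩ := ⟨_, rfl⟩
  obtain ⟨l, hl⟩ : ∃ l : Fin n, l = ⟨2, by omega⟩ := ⟨_, rfl⟩
  have hij : i ≠ j := by rw [hi, hj]; intro h; have := congrArg Fin.val h; simp at this
  have hil : i ≠ l := by rw [hi, hl]; intro h; have := congrArg Fin.val h; simp at this
  have hjl : j ≠ l := by rw [hj, hl]; intro h; have := congrArg Fin.val h; simp at this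
  have hgood : ∀ ν : F, ν * σ ν ≠ -1 → τ ν = ν := by
    intro ν hν
    have hfixN : σ (-1 - ν * σ ν) = -1 - ν * σ ν := by
      rw [map_sub, map_neg, map_one, map_mul, hσσ, mul_comm]
    obtain ⟨μ, hμ⟩ := normsol (-1 - ν * σ ν) (by
      intro h0; apply hν; linear_combination (-1 : F) * h0) hfixN
    have := hdiagEq i j l hij hil hjl μ ν (by rw [mul_comm (σ μ), hμ]; ring)
    rw [hδeq i l hil] at this
    exact mul_right_cancel₀ (hd0 i) (by rw [this, mul_comm])
  have hall : ∀ ν : F, τ ν = ν := by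
    intro ν
    by_cases hν : ν * σ ν = -1
    · by_cases ht : ν + σ ν = -1
      · have hg : (ν - 1) * σ (ν - 1) ≠ -1 := by
          rw [map_sub, map_one]
          intro h0
          have : (2 : F) = 0 := by linear_combination h0 - hν + ht
          exact h2 this
        have := hgood (ν - 1) hg
        rw [map_sub, map_one] at this
        linear_combination this
      · have hg : (ν + 1) * σ (ν + 1) ≠ -1 := by
          rw [map_add, map_one]
          intro h0
          apply ht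
          linear_combination h0 - hν
        have := hgood (ν + 1) hg
        rw [map_add, map_one] at this
        linear_combination this
    · exact hgood ν hν
  refine ⟨RingEquiv.ext hall, (h : Mn) i i, ?_⟩
  ext a b
  rw [Matrix.smul_apply, Matrix.one_apply, smul_eq_mul]
  by_cases hab : a = b
  · subst hab
    rw [if_pos rfl, mul_one]
    by_cases hai : i = a
    · rw [hai]
    · exact hδeq i a hai
  · rw [if_neg hab, mul_zero, hoff a b hab]

/-- **the centraliser of the image of `SU`** -/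
theorem cent_unitary [Fintype F] (r : ℕ) [Fact r.Prime] [CharP F r] (hn : 3 ≤ n)
    (h2 : (2 : F) ≠ 0) (σ : RingAut F) (hσ1 : σ ≠ 1) (hσ2 : σ * σ = 1) (ρ : MulAut PSLn)
    (hρ : ∀ s : SLn, psiU σ s = s → ρ (mkP s) = mkP s) :
    ρ ∈ Subgroup.zpowers (liftAut (psiU (n := n) σ)) := by
  have aux : ∀ (g : GLn) (τ : RingAut F),
      (∀ s : SLn, psiU σ s = s → (cG g * fld τ : MulAut PSLn) (mkP s) = mkP s) →
      (cG g * fld τ : MulAut PSLn) = 1 := by
    intro g τ hfix
    obtain ⟨hτ, c, hc⟩ := semilinear_unitary hn h2 σ hσ1 hσ2 g τ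
      (fix_iso_points (by omega) σ hσ1 hσ2 g τ hfix)
    rw [hτ, map_one, mul_one]
    exact cG_eq_one_of_smul (by omega) g c hc
  obtain ⟨g, τ, h1 | h1⟩ := aut_PSL_std r (by omega) ρ
  · have h3 : ρ = 1 := by
      rw [h1]
      exact aux g τ (fun s hs => by have := hρ s hs; rw [h1] at this; exact this)
    rw [h3]
    exact Subgroup.one_mem _
  · have hβfix : ∀ s : SLn, psiU σ s = s → (liftAut (psiU σ)) (mkP s) = mkP s :=
      fun s hs => by rw [liftAut_mkP, hs]
    have h3 : ρ * liftAut (psiU σ) = cG g * fld (τ * σ) := by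
      rw [h1, liftAut_psiU]
      show cG g * fld τ * gam * (fld σ * gam) = cG g * fld (τ * σ)
      calc cG g * fld τ * gam * (fld σ * gam) = cG g * fld τ * (gam * fld σ) * gam := by group
        _ = cG g * fld τ * (fld σ * gam) * gam := by rw [gam_mul_fld]
        _ = cG g * (fld τ * fld σ) * (gam * gam) := by group
        _ = cG g * fld (τ * σ) := by rw [gam_mul_gam, mul_one, map_mul]
    have h4 : ρ * liftAut (psiU σ) = 1 := by
      rw [h3]
      apply aux
      intro s hs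
      rw [← h3, MulAut.mul_apply, hβfix s hs, hρ s hs]
    have h5 : ρ = (liftAut (psiU σ))⁻¹ := eq_inv_of_mul_eq_one_left h4
    rw [h5]
    exact Subgroup.inv_mem _ (Subgroup.mem_zpowers _)

/-- an involution in the image of `SU` -/
theorem exists_order_two_unitary (hn : 3 ≤ n) (h2 : (2 : F) ≠ 0) (σ : RingAut F) :
    ∃ B : SLn, psiU σ B = B ∧ orderOf (mkP B) = 2 := by
  have hω : orderOf (-1 : Fˣ) = 2 := by
    apply orderOf_eq_prime
    · simp
    · intro h
      have := congrArg Units.val h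
      simp only [Units.val_neg, Units.val_one] at this
      exact h2 (by linear_combination (-1 : F) * this)
  obtain ⟨B, d, hB, hd, hBo⟩ := exists_diag_order (n := n) (by omega) (-1 : Fˣ) 2 hω (by omega)
  refine ⟨B, ?_, hBo⟩
  have hdd : ∀ i, d i * d i = 1 := by
    intro i
    rcases hd i with h | h | h <;> rw [h] <;> simp
  have hBB : B * B = 1 := by
    apply Subtype.ext
    rw [Matrix.SpecialLinearGroup.coe_mul, Matrix.SpecialLinearGroup.coe_one, hB,
      Matrix.diagonal_mul_diagonal, show (fun i => d i * d i) = fun _ => 1 from funext hdd]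
    exact Matrix.diagonal_one
  have hBinv : B⁻¹ = B := inv_eq_of_mul_eq_one_right hBB
  apply Subtype.ext
  rw [psiU_coe, hBinv, hB, Matrix.diagonal_transpose, Matrix.diagonal_map (map_zero σ)]
  congr 1
  funext i
  rcases hd i with h | h | h <;> rw [h] <;> simp

/-- **the `2'`-core of the centraliser of the standard graph-field involution is trivial** -/
theorem psl_core_unitary [Fintype F] (r : ℕ) [hr : Fact r.Prime] [CharP F r] (hr2 : r ≠ 2)
    (hn : 3 ≤ n) (σ : RingAut F) (hσ1 : σ ≠ 1) (hσ2 : σ * σ = 1)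
    (A : Subgroup (MulAut PSLn)) (hinn : ∀ k : PSLn, MulAut.conj k ∈ A) :
    Cfsg.pPrimeCore 2 ↥(A ⊓ Subgroup.centralizer {fld (n := n) σ * gam}) = ⊥ := by
  obtain ⟨f, hf⟩ : ∃ f : ℕ, Fintype.card F = r ^ f := by
    obtain ⟨k, -, hk⟩ := FiniteField.card F r
    exact ⟨k, hk⟩
  obtain ⟨hfe, hq⟩ := involution_eq_pow r f hf σ hσ1 hσ2
  obtain ⟨q, hqdef⟩ : ∃ q : ℕ, q = r ^ (f / 2) := ⟨_, rfl⟩
  rw [← hqdef] at hq
  have hF : Fintype.card F = q ^ 2 := by
    rw [hf, hqdef, ← pow_mul]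
    congr 1
    obtain ⟨k, hk⟩ := hfe
    omega
  have h2 : (2 : F) ≠ 0 := by
    intro h
    have h3 : ((2 : ℕ) : F) = 0 := by exact_mod_cast h
    rw [CharP.cast_eq_zero_iff F r 2] at h3
    exact hr2 ((Nat.prime_dvd_prime_iff_eq hr.out Nat.prime_two).mp h3)
  have h32 : ¬ (n = 3 ∧ q = 2) := by
    rintro ⟨-, hq2⟩
    have hne : f / 2 ≠ 0 := by
      intro h0
      rw [hqdef, h0, pow_zero] at hq2
      omega
    have h3 : r ∣ 2 := by
      rw [← hq2, hqdef]
      exact dvd_pow_self r hne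
    exact hr2 ((Nat.prime_dvd_prime_iff_eq hr.out Nat.prime_two).mp h3)
  rw [← liftAut_psiU]
  apply core_bot (by omega) (psiU σ) 2 A hinn
  · rw [liftAut_psiU]
    apply orderOf_eq_prime
    · rw [pow_two, psi_sq, hσ2, map_one]
    · intro h
      have h3 := congrArg (tauHom r (by omega : 2 ≤ n)) h
      rw [map_mul, fld_apply, tauHom_field, gam_def, tauHom_invT, mul_one, map_one] at h3
      exact hσ1 h3
  · apply he1_of_dichotomy (psiU σ) (Cfsg.SU n F q).subtype
      (fun s => by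
        rw [psiU_fix_iff σ hσ2 q hq, Subgroup.range_subtype]) 2 r
    · intro M hM
      haveI := hM
      rcases su_dichotomy hF hn h32 M with h1 | h1
      · exact Or.inl h1
      · right
        intro m hm
        obtain ⟨a, ha⟩ := h1 m hm
        exact mkP_eq_one_of_smul _ a ha
    · intro s
      rw [su_perfect hF hn h32]
      exact Subgroup.mem_top _
    · exact (Nat.coprime_primes hr.out Nat.prime_two).mpr hr2
    · exact exists_order_two_unitary hn h2 σ
  · exact cent_unitary r hn h2 σ hσ1 hσ2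

end Cfsg.Agent.Lib.Helper6.Lbg
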