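import Mathlib
import Cfsg.Agent.Lib.Helper5.AltForm

set_option autoImplicit false
set_option linter.unusedSectionVars false
set_option linter.unusedVariables false
set_option linter.unusedSimpArgs false

/-! Generic linear algebra for Jordan types in classical groups: rank additivity over diagonal
blocks, even rank of alternating matrices, ranks of conjugates. -/

namespace Cfsg.Agent.Lib.Helper6.JT

open Matrix Module

variable {F : Type*} [Field F]

/-- the product of two submodules as a product module -/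
def prodEquivL {M N : Type*} [AddCommGroup M] [Module F M] [AddCommGroup N] [Module F N]
    (p : Submodule F M) (q : Submodule F N) : ↥(p.prod q) ≃ₗ[F] ↥p × ↥q where
  toFun x := (⟨x.1.1, x.2.1⟩, ⟨x.1.2, x.2.2⟩)
  invFun y := ⟨(y.1.1, y.2.1), ⟨y.1.2, y.2.2⟩⟩
  map_add' x y := rfl
  map_smul' c x := rfl
  left_inv x := rfl
  right_inv y := rfl

/-- rank additivity over diagonal blocks -/
theorem rank_fromBlocks_diag {I₁ I₂ : Type*} [Fintype I₁] [Fintype I₂] [DecidableEq I₁]
    [DecidableEq I₂] (A : Matrix I₁ I₁ F) (D : Matrix I₂ I₂ F) :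
    (fromBlocks A 0 0 D).rank = A.rank + D.rank := by
  have h1 : (fromBlocks A 0 0 D).mulVecLin =
      ((LinearEquiv.sumArrowLequivProdArrow I₁ I₂ F F).symm : _ →ₗ[F] _) ∘ₗ
        (A.mulVecLin.prodMap D.mulVecLin) ∘ₗ
        ((LinearEquiv.sumArrowLequivProdArrow I₁ I₂ F F) : _ →ₗ[F] _) := by
    apply LinearMap.ext
    intro x
    funext r
    simp only [Matrix.mulVecLin_apply, LinearMap.coe_comp, LinearEquiv.coe_coe, Function.comp_apply,
      Matrix.fromBlocks_mulVec, Matrix.zero_mulVec, add_zero, zero_add]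
    rcases r with r | r <;> simp [LinearEquiv.sumArrowLequivProdArrow] <;> rfl
  unfold Matrix.rank
  rw [h1, LinearMap.range_comp, LinearMap.range_comp, LinearEquiv.range, Submodule.map_top,
    LinearEquiv.finrank_map_eq, LinearMap.range_prodMap, (prodEquivL _ _).finrank_eq,
    Module.finrank_prod]

/-- powers of a diagonal block matrix minus one -/
theorem fromBlocks_sub_one_pow {I₁ I₂ : Type*} [Fintype I₁] [Fintype I₂] [DecidableEq I₁]
    [DecidableEq I₂] (A : Matrix I₁ I₁ F) (D : Matrix I₂ I₂ F) (i : ℕ) :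
    (fromBlocks A 0 0 D - 1) ^ i = fromBlocks ((A - 1) ^ i) 0 0 ((D - 1) ^ i) := by
  have h0 : fromBlocks A 0 0 D - 1 = fromBlocks (A - 1) 0 0 (D - 1) := by
    rw [← Matrix.fromBlocks_one]
    ext r c
    rcases r with r | r <;> rcases c with c | c <;> simp [Matrix.one_apply]
  rw [h0]
  induction i with
  | zero => simp [Matrix.fromBlocks_one]
  | succ i ih =>
    rw [pow_succ, ih, Matrix.fromBlocks_multiply]
    simp [pow_succ]

/-- reindexing and powers -/
theorem reindex_sub_one_pow {I I' : Type*} [Fintype I] [Fintype I'] [DecidableEq I]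
    [DecidableEq I'] (e : I ≃ I') (M : Matrix I I F) (i : ℕ) :
    (Matrix.reindex e e M - 1) ^ i = Matrix.reindex e e ((M - 1) ^ i) := by
  have h := map_pow (Matrix.reindexAlgEquiv F F e) (M - 1) i
  rw [map_sub, map_one] at h
  simp only [Matrix.coe_reindexAlgEquiv] at h
  exact h.symm

theorem rank_reindex_sub_one_pow {I I' : Type*} [Fintype I] [Fintype I'] [DecidableEq I]
    [DecidableEq I'] (e : I ≃ I') (M : Matrix I I F) (i : ℕ) :
    ((Matrix.reindex e e M - 1) ^ i).rank = ((M - 1) ^ i).rank := by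
  rw [reindex_sub_one_pow, Matrix.rank_reindex]

/-- conjugate matrices have the same ranks of powers of `· - 1` -/
theorem rank_pow_of_isConj {I : Type*} [Fintype I] [DecidableEq I] {a b : Matrix I I F}
    (h : IsConj a b) (i : ℕ) : ((a - 1) ^ i).rank = ((b - 1) ^ i).rank := by
  obtain ⟨c, hc⟩ := h
  have h1 : SemiconjBy (c : Matrix I I F) ((a - 1) ^ i) ((b - 1) ^ i) :=
    (hc.sub_right (SemiconjBy.one_right _)).pow_right i
  have hcu : IsUnit (c : Matrix I I F).det := (Matrix.isUnit_iff_isUnit_det _).mp c.isUnit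
  calc ((a - 1) ^ i).rank = ((c : Matrix I I F) * (a - 1) ^ i).rank :=
        (Matrix.rank_mul_eq_right_of_isUnit_det _ _ hcu).symm
    _ = ((b - 1) ^ i * (c : Matrix I I F)).rank := by rw [h1.eq]
    _ = ((b - 1) ^ i).rank := Matrix.rank_mul_eq_left_of_isUnit_det _ _ hcu

/-- an alternating matrix defines an alternating form -/
theorem alt_self {I : Type*} [Fintype I] [DecidableEq I] (K : Matrix I I F) (hK : Kᵀ = -K)
    (hd : ∀ i, K i i = 0) (x : I → F) : x ⬝ᵥ K *ᵥ x = 0 := by
  have hsk : ∀ i j, K j i = -K i j := fun i j => by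
    have := congrFun (congrFun hK i) j
    simpa using this
  simp only [dotProduct, Matrix.mulVec, Finset.mul_sum]
  rw [← Finset.sum_product']
  apply Finset.sum_involution (fun p _ => (p.2, p.1))
  · intro p _
    simp only
    rw [hsk p.1 p.2]
    ring
  · intro p _ hne heq
    apply hne
    have h1 : p.2 = p.1 := congrArg Prod.fst heq
    rw [h1, hd, zero_mul, mul_zero]
  · intro p _
    exact Finset.mem_univ _
  · intro p _
    rfl

/-- alternating matrices have even rank -/
theorem even_rank_of_alt {I : Type*} [Fintype I] [DecidableEq I] (K : Matrix I I F)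
    (hK : Kᵀ = -K) (hd : ∀ i, K i i = 0) : Even K.rank := by
  obtain ⟨B, hB⟩ : ∃ B : LinearMap.BilinForm F (I → F), B = Matrix.toLinearMap₂' F K := ⟨_, rfl⟩
  have hBa : ∀ x y : I → F, B x y = x ⬝ᵥ K *ᵥ y := by
    intro x y
    rw [hB, Matrix.toLinearMap₂'_apply']
  have hAlt : LinearMap.BilinForm.IsAlt B := by
    intro x
    rw [hBa]
    exact alt_self K hK hd x
  obtain ⟨m, k, b, -, -, -, -, h5, h6⟩ :=
    Cfsg.Agent.Lib.Helper5.AltForm.exists_darboux_basis B hAlt
  have hker : LinearMap.ker B = LinearMap.ker (Kᵀ.mulVecLin) := by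
    ext x
    rw [LinearMap.mem_ker, LinearMap.mem_ker, Matrix.mulVecLin_apply]
    constructor
    · intro hx
      funext j
      have := congrArg (fun f : (I → F) →ₗ[F] F => f (Pi.single j 1)) hx
      simp only [LinearMap.zero_apply] at this
      rw [hBa, Matrix.dotProduct_mulVec, dotProduct_single_one] at this
      rw [Matrix.mulVec_transpose]
      exact this
    · intro hx
      apply LinearMap.ext
      intro y
      rw [hBa, Matrix.dotProduct_mulVec, ← Matrix.mulVec_transpose, hx]
      simp
  have h7 := LinearMap.finrank_range_add_finrank_ker (Kᵀ.mulVecLin)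
  rw [← hker, ← h6] at h7
  have h8 : finrank F (LinearMap.range (Kᵀ.mulVecLin)) = K.rank := by
    rw [← Matrix.rank_transpose K]
    rfl
  rw [h8] at h7
  exact ⟨m, by omega⟩

end Cfsg.Agent.Lib.Helper6.JT
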