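import Mathlib
import Cfsg.Prelude.Def_JordanBlocks
import Cfsg.Agent.Lib.Helper6.JTa

set_option autoImplicit false
set_option linter.unusedSectionVars false
set_option linter.unusedVariables false
set_option linter.unusedSimpArgs false

/-! Jordan type matrices over arbitrary finite index types: splitting, ranks of powers. -/

namespace Cfsg.Agent.Lib.Helper6.JT

open Matrix Module

variable (F : Type*) [Field F]

/-- the unipotent matrix of Jordan type `d` over an arbitrary finite index type -/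
def JTg (ι : Type) [Fintype ι] [DecidableEq ι] (d : ι → ℕ) :
    Matrix ((k : ι) × Fin (d k)) ((k : ι) × Fin (d k)) F :=
  Matrix.blockDiagonal' fun k => Cfsg.jordanBlock (d k) F

theorem JTg_apply {ι : Type} [Fintype ι] [DecidableEq ι] (d : ι → ℕ)
    (x y : (k : ι) × Fin (d k)) :
    JTg F ι d x y = if x.1 = y.1 then
      (if (x.2 : ℕ) = (y.2 : ℕ) then 1 else if (x.2 : ℕ) = (y.2 : ℕ) + 1 then 1 else 0) else 0 := by
  obtain ⟨k, i⟩ := x
  obtain ⟨k', j⟩ := y
  by_cases h : k = k'
  · subst h
    unfold JTg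
    rw [Matrix.blockDiagonal'_apply_eq]
    simp [Cfsg.jordanBlock]
  · unfold JTg
    rw [Matrix.blockDiagonal'_apply_ne _ _ _ h]
    simp [h]

/-- splitting the index type of a Jordan type matrix along a predicate -/
def splitEquiv {ι : Type} (d : ι → ℕ) (p : ι → Prop) [DecidablePred p] :
    ((k : ι) × Fin (d k)) ≃
      ((k : {k // p k}) × Fin (d k)) ⊕ ((k : {k // ¬ p k}) × Fin (d k)) where
  toFun x := if h : p x.1 then Sum.inl ⟨⟨x.1, h⟩, x.2⟩ else Sum.inr ⟨⟨x.1, h⟩, x.2⟩
  invFun y := Sum.elim (fun z => ⟨z.1.1, z.2⟩) (fun z => ⟨z.1.1, z.2⟩) y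
  left_inv x := by
    by_cases h : p x.1 <;> simp [h]
  right_inv y := by
    rcases y with ⟨⟨k, hk⟩, i⟩ | ⟨⟨k, hk⟩, i⟩ <;> simp [hk]

theorem reindex_split {ι : Type} [Fintype ι] [DecidableEq ι] (d : ι → ℕ) (p : ι → Prop)
    [DecidablePred p] :
    Matrix.reindex (splitEquiv d p) (splitEquiv d p) (JTg F ι d) =
      Matrix.fromBlocks (JTg F {k // p k} (fun k => d k)) 0 0
        (JTg F {k // ¬ p k} (fun k => d k)) := by
  ext r c
  rcases r with ⟨⟨k, hk⟩, i⟩ | ⟨⟨k, hk⟩, i⟩ <;> rcases c with ⟨⟨k', hk'⟩, j⟩ | ⟨⟨k', hk'⟩, j⟩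
  · simp only [Matrix.reindex_apply, Matrix.submatrix_apply, Matrix.fromBlocks_apply₁₁, JTg_apply]
    by_cases h : k = k'
    · by_cases h1 : (i : ℕ) = (j : ℕ) <;> by_cases h2 : (i : ℕ) = (j : ℕ) + 1 <;>
        simp [splitEquiv, h, h1, h2]
    · simp [splitEquiv, h]
  · simp only [Matrix.reindex_apply, Matrix.submatrix_apply, Matrix.fromBlocks_apply₁₂, JTg_apply]
    have : k ≠ k' := fun h => hk' (h ▸ hk)
    simp [splitEquiv, this]
  · simp only [Matrix.reindex_apply, Matrix.submatrix_apply, Matrix.fromBlocks_apply₂₁, JTg_apply]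
    have : k ≠ k' := fun h => hk (h ▸ hk')
    simp [splitEquiv, this]
  · simp only [Matrix.reindex_apply, Matrix.submatrix_apply, Matrix.fromBlocks_apply₂₂, JTg_apply]
    by_cases h : k = k'
    · by_cases h1 : (i : ℕ) = (j : ℕ) <;> by_cases h2 : (i : ℕ) = (j : ℕ) + 1 <;>
        simp [splitEquiv, h, h1, h2]
    · simp [splitEquiv, h]

theorem reindex_unique {ι : Type} [Fintype ι] [DecidableEq ι] [Unique ι] (d : ι → ℕ) :
    Matrix.reindex (Equiv.uniqueSigma (fun k => Fin (d k))) (Equiv.uniqueSigma (fun k => Fin (d k)))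
      (JTg F ι d) = Cfsg.jordanBlock (d default) F := by
  ext i j
  simp only [Matrix.reindex_apply, Matrix.submatrix_apply, JTg_apply]
  by_cases h1 : (i : ℕ) = (j : ℕ) <;> by_cases h2 : (i : ℕ) = (j : ℕ) + 1 <;>
    simp [Equiv.uniqueSigma, Cfsg.jordanBlock, h1, h2]

/-- powers of the nilpotent part of a Jordan block -/
theorem jordanBlock_sub_one_pow (n i : ℕ) :
    (Cfsg.jordanBlock n F - 1) ^ i =
      Matrix.of fun a b : Fin n => if (a : ℕ) = (b : ℕ) + i then (1 : F) else 0 := by
  induction i with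
  | zero =>
    ext a b
    simp [Matrix.one_apply, Fin.ext_iff]
  | succ i ih =>
    rw [pow_succ, ih]
    ext a b
    rw [Matrix.mul_apply]
    by_cases h : (a : ℕ) = (b : ℕ) + (i + 1)
    · have hb : (b : ℕ) + 1 < n := by have := a.isLt; omega
      rw [Finset.sum_eq_single (⟨(b : ℕ) + 1, hb⟩ : Fin n)]
      · simp [Cfsg.jordanBlock, Matrix.one_apply, Fin.ext_iff, h]
        omega
      · intro c _ hc
        have hc' : (c : ℕ) ≠ (b : ℕ) + 1 := fun hh => hc (Fin.ext hh)
        by_cases hcb : (c : ℕ) = (b : ℕ)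
        · have : ¬ ((a : ℕ) = (c : ℕ) + i) := by omega
          simp [this]
        · simp [Cfsg.jordanBlock, Matrix.one_apply, Fin.ext_iff, hcb, hc']
      · intro hh; exact absurd (Finset.mem_univ _) hh
    · rw [Finset.sum_eq_zero]
      · simp [h]
      · intro c _
        by_cases hcb : (c : ℕ) = (b : ℕ) + 1
        · have : ¬ ((a : ℕ) = (c : ℕ) + i) := by omega
          simp [this]
        · by_cases hcb' : (c : ℕ) = (b : ℕ)
          · simp [Cfsg.jordanBlock, Matrix.one_apply, Fin.ext_iff, hcb']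
          · simp [Cfsg.jordanBlock, Matrix.one_apply, Fin.ext_iff, hcb, hcb']

theorem rank_jordanBlock_pow (n i : ℕ) : ((Cfsg.jordanBlock n F - 1) ^ i).rank = n - i := by
  rw [jordanBlock_sub_one_pow]
  apply le_antisymm
  · -- factor through `Fin (n - i)`
    have hfac : (Matrix.of fun a b : Fin n => if (a : ℕ) = (b : ℕ) + i then (1 : F) else 0) =
        (Matrix.of fun (a : Fin n) (t : Fin (n - i)) => if (a : ℕ) = (t : ℕ) + i then (1 : F) else 0) *
        (Matrix.of fun (t : Fin (n - i)) (b : Fin n) => if (t : ℕ) = (b : ℕ) then (1 : F) else 0) := by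
      ext a b
      rw [Matrix.mul_apply]
      by_cases h : (a : ℕ) = (b : ℕ) + i
      · have hb : (b : ℕ) < n - i := by have := a.isLt; omega
        rw [Finset.sum_eq_single (⟨(b : ℕ), hb⟩ : Fin (n - i))]
        · simp [h]
        · intro t _ ht
          have : (t : ℕ) ≠ (b : ℕ) := fun hh => ht (Fin.ext hh)
          simp [this]
        · intro hh; exact absurd (Finset.mem_univ _) hh
      · rw [Finset.sum_eq_zero]
        · simp [h]
        · intro t _
          by_cases htb : (t : ℕ) = (b : ℕ)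
          · have : ¬ ((a : ℕ) = (t : ℕ) + i) := by omega
            simp [this]
          · simp [htb]
    rw [hfac]
    exact (Matrix.rank_mul_le_left _ _).trans (Matrix.rank_le_width _)
  · have hsub : (Matrix.of fun a b : Fin n => if (a : ℕ) = (b : ℕ) + i then (1 : F) else 0).submatrix
        (fun t : Fin (n - i) => (⟨(t : ℕ) + i, by have := t.isLt; omega⟩ : Fin n))
        (fun t : Fin (n - i) => (⟨(t : ℕ), by have := t.isLt; omega⟩ : Fin n)) = 1 := by
      ext s t
      simp [Matrix.one_apply, Fin.ext_iff]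
    have := Matrix.rank_submatrix_le
      (Matrix.of fun a b : Fin n => if (a : ℕ) = (b : ℕ) + i then (1 : F) else 0)
      (fun t : Fin (n - i) => (⟨(t : ℕ) + i, by have := t.isLt; omega⟩ : Fin n))
      (fun t : Fin (n - i) => (⟨(t : ℕ), by have := t.isLt; omega⟩ : Fin n))
    rw [hsub, Matrix.rank_one, Fintype.card_fin] at this
    exact this

/-- ranks of powers of the nilpotent part of a Jordan type matrix -/
theorem rank_JTg_pow : ∀ (N : ℕ) (ι : Type) [Fintype ι] [DecidableEq ι] (d : ι → ℕ),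
    Fintype.card ι = N → ∀ i : ℕ, ((JTg F ι d - 1) ^ i).rank = ∑ k, (d k - i) := by
  intro N
  induction N with
  | zero =>
    intro ι _ _ d hN i
    have hE : IsEmpty ι := Fintype.card_eq_zero_iff.mp hN
    have h1 : ((JTg F ι d - 1) ^ i).rank ≤ Fintype.card ((k : ι) × Fin (d k)) :=
      Matrix.rank_le_card_height _
    have h2 : Fintype.card ((k : ι) × Fin (d k)) = 0 := by
      rw [Fintype.card_eq_zero_iff]
      exact ⟨fun x => hE.false x.1⟩
    rw [Finset.univ_eq_empty, Finset.sum_empty]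
    omega
  | succ N ih =>
    intro ι _ _ d hN i
    have hne : Nonempty ι := Fintype.card_pos_iff.mp (by omega)
    obtain ⟨k₀⟩ := hne
    rw [← rank_reindex_sub_one_pow (splitEquiv d (fun k => k = k₀)), reindex_split,
      fromBlocks_sub_one_pow, rank_fromBlocks_diag]
    rw [Fintype.sum_eq_add_sum_subtype_ne (fun k => d k - i) k₀]
    congr 1
    · let _ : Unique {k // k = k₀} := ⟨⟨⟨k₀, rfl⟩⟩, fun x => Subtype.ext x.2⟩
      rw [← rank_reindex_sub_one_pow (Equiv.uniqueSigma (fun k : {k // k = k₀} => Fin (d k))),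
        reindex_unique, rank_jordanBlock_pow]
      rfl
    · have hcard : Fintype.card {k // ¬ k = k₀} = N := by
        rw [Fintype.card_subtype_compl, Fintype.card_subtype_eq, hN]
        omega
      convert ih {k // ¬ k = k₀} (fun k => d k) hcard i using 2

/-- the counting identity behind the multiplicity formula -/
theorem count_identity {ι : Type} [Fintype ι] [DecidableEq ι] (d : ι → ℕ) (j : ℕ) (hj : 1 ≤ j) :
    ∑ k, (d k - (j - 1)) + ∑ k, (d k - (j + 1)) =
      2 * ∑ k, (d k - j) + Fintype.card {k // d k = j} := by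
  rw [Fintype.card_subtype, Finset.card_filter, ← Finset.sum_add_distrib, Finset.mul_sum,
    ← Finset.sum_add_distrib]
  apply Finset.sum_congr rfl
  intro k _
  split_ifs with h <;> omega

/-- even ranks of the neighbouring powers force an even multiplicity -/
theorem even_count_of_even_ranks {ι : Type} [Fintype ι] [DecidableEq ι] (d : ι → ℕ) (j : ℕ)
    (hj : 1 ≤ j) (h1 : Even ((JTg F ι d - 1) ^ (j - 1)).rank)
    (h2 : Even ((JTg F ι d - 1) ^ (j + 1)).rank) : Even (Fintype.card {k // d k = j}) := by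
  rw [rank_JTg_pow F _ ι d rfl] at h1 h2
  have h3 := count_identity d j hj
  obtain ⟨x, hx⟩ := h1
  obtain ⟨y, hy⟩ := h2
  exact ⟨x + y - ∑ k, (d k - j), by omega⟩

end Cfsg.Agent.Lib.Helper6.JT
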