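import Mathlib
import Cfsg.Prelude.Def_JordanBlocks
import Cfsg.Agent.Lib.Helper6.JTb

set_option autoImplicit false
set_option linter.unusedSectionVars false
set_option linter.unusedVariables false
set_option linter.unusedSimpArgs false

/-! The commutant of a unipotent matrix of given Jordan type: Toeplitz parametrisation. -/

namespace Cfsg.Agent.Lib.Helper6.GLC

open Matrix Cfsg.Agent.Lib.Helper6.JT

variable {F : Type*} [Field F] {t : ℕ}

/-- the index type of a Jordan type matrix -/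
abbrev Idx (d : Fin t → ℕ) : Type := (k : Fin t) × Fin (d k)

/-- the nilpotent part of the Jordan type matrix -/
def Nil (F : Type*) [Field F] (d : Fin t → ℕ) : Matrix (Idx d) (Idx d) F :=
  Matrix.of fun x y => if x.1 = y.1 ∧ (x.2 : ℕ) = (y.2 : ℕ) + 1 then 1 else 0

theorem jt_eq (d : Fin t → ℕ) : Cfsg.jordanTypeMatrix d F = 1 + Nil F d := by
  ext x y
  have h := JTg_apply F d x y
  change Cfsg.jordanTypeMatrix d F x y = _ at h
  rw [h, Matrix.add_apply, Matrix.one_apply]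
  obtain ⟨k, i⟩ := x
  obtain ⟨l, j⟩ := y
  by_cases hkl : k = l
  · subst hkl
    by_cases hij : (i : ℕ) = (j : ℕ)
    · have : i = j := Fin.ext hij
      subst this
      simp [Nil]
    · have : i ≠ j := fun hh => hij (congrArg Fin.val hh)
      simp [Nil, hij, this]
  · have : (⟨k, i⟩ : Idx d) ≠ ⟨l, j⟩ := fun hh => hkl (congrArg Sigma.fst hh)
    simp [Nil, hkl, this]

theorem comm_iff (d : Fin t → ℕ) (g : Matrix (Idx d) (Idx d) F) :
    g * Cfsg.jordanTypeMatrix d F = Cfsg.jordanTypeMatrix d F * g ↔ g * Nil F d = Nil F d * g := by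
  rw [jt_eq, Matrix.mul_add, Matrix.add_mul, Matrix.mul_one, Matrix.one_mul]
  exact add_right_inj g

theorem mul_Nil_apply (d : Fin t → ℕ) (g : Matrix (Idx d) (Idx d) F) (x y : Idx d) :
    (g * Nil F d) x y =
      if h : (y.2 : ℕ) + 1 < d y.1 then g x ⟨y.1, ⟨(y.2 : ℕ) + 1, h⟩⟩ else 0 := by
  rw [Matrix.mul_apply]
  by_cases h : (y.2 : ℕ) + 1 < d y.1
  · rw [dif_pos h, Finset.sum_eq_single (⟨y.1, ⟨(y.2 : ℕ) + 1, h⟩⟩ : Idx d)]
    · simp [Nil]
    · intro z _ hz
      have : ¬ (z.1 = y.1 ∧ (z.2 : ℕ) = (y.2 : ℕ) + 1) := by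
        rintro ⟨h1, h2⟩
        apply hz
        obtain ⟨k, i⟩ := z
        simp only at h1 h2
        subst h1
        congr 1
        exact Fin.ext h2
      simp [Nil, this]
    · intro hh; exact absurd (Finset.mem_univ _) hh
  · rw [dif_neg h, Finset.sum_eq_zero]
    intro z _
    have : ¬ (z.1 = y.1 ∧ (z.2 : ℕ) = (y.2 : ℕ) + 1) := by
      rintro ⟨h1, h2⟩
      obtain ⟨k, i⟩ := z
      simp only at h1 h2
      subst h1
      have := i.isLt
      omega
    simp [Nil, this]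

theorem Nil_mul_apply (d : Fin t → ℕ) (g : Matrix (Idx d) (Idx d) F) (x y : Idx d) :
    (Nil F d * g) x y =
      if h : 1 ≤ (x.2 : ℕ) then g ⟨x.1, ⟨(x.2 : ℕ) - 1, by have := x.2.isLt; omega⟩⟩ y else 0 := by
  rw [Matrix.mul_apply]
  by_cases h : 1 ≤ (x.2 : ℕ)
  · rw [dif_pos h, Finset.sum_eq_single
      (⟨x.1, ⟨(x.2 : ℕ) - 1, by have := x.2.isLt; omega⟩⟩ : Idx d)]
    · have h3 : (x.2 : ℕ) = (x.2 : ℕ) - 1 + 1 := by omega
      have h4 : Nil F d x ⟨x.1, ⟨(x.2 : ℕ) - 1, by have := x.2.isLt; omega⟩⟩ = 1 := by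
        unfold Nil
        rw [Matrix.of_apply]
        exact if_pos ⟨rfl, h3⟩
      rw [h4, one_mul]
    · intro z _ hz
      have : ¬ (x.1 = z.1 ∧ (x.2 : ℕ) = (z.2 : ℕ) + 1) := by
        rintro ⟨h1, h2⟩
        apply hz
        obtain ⟨k, i⟩ := z
        simp only at h1 h2
        subst h1
        congr 1
        apply Fin.ext
        simp only
        omega
      simp [Nil, this]
    · intro hh; exact absurd (Finset.mem_univ _) hh
  · rw [dif_neg h, Finset.sum_eq_zero]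
    intro z _
    have : ¬ (x.1 = z.1 ∧ (x.2 : ℕ) = (z.2 : ℕ) + 1) := by
      rintro ⟨h1, h2⟩
      omega
    simp [Nil, this]

/-- the parameter set of the commutant -/
abbrev Par (d : Fin t → ℕ) : Type := {p : Idx d × Fin t // d p.1.1 ≤ (p.1.2 : ℕ) + d p.2}

/-- the Toeplitz matrix of a parameter family -/
def toMat (d : Fin t → ℕ) (c : Par d → F) : Matrix (Idx d) (Idx d) F :=
  Matrix.of fun x y =>
    if h : (y.2 : ℕ) ≤ (x.2 : ℕ) ∧ d x.1 ≤ ((x.2 : ℕ) - (y.2 : ℕ)) + d y.1 then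
      c ⟨(⟨x.1, ⟨(x.2 : ℕ) - (y.2 : ℕ), lt_of_le_of_lt (Nat.sub_le _ _) x.2.isLt⟩⟩, y.1), h.2⟩
    else 0

theorem toMat_apply (d : Fin t → ℕ) (c : Par d → F) (x y : Idx d) :
    toMat d c x y =
      if h : (y.2 : ℕ) ≤ (x.2 : ℕ) ∧ d x.1 ≤ ((x.2 : ℕ) - (y.2 : ℕ)) + d y.1 then
        c ⟨(⟨x.1, ⟨(x.2 : ℕ) - (y.2 : ℕ), lt_of_le_of_lt (Nat.sub_le _ _) x.2.isLt⟩⟩, y.1), h.2⟩
      else 0 := rfl

theorem par_congr (d : Fin t → ℕ) (c : Par d → F) {k l : Fin t} {r r' : ℕ} (hr : r < d k)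
    (hr' : r' < d k) (h : d k ≤ r + d l) (h' : d k ≤ r' + d l) (e : r = r') :
    c ⟨(⟨k, ⟨r, hr⟩⟩, l), h⟩ = c ⟨(⟨k, ⟨r', hr'⟩⟩, l), h'⟩ := by
  subst e
  rfl

/-- Toeplitz matrices commute with the nilpotent part -/
theorem toMat_comm (d : Fin t → ℕ) (c : Par d → F) :
    toMat d c * Nil F d = Nil F d * toMat d c := by
  ext x y
  rw [mul_Nil_apply, Nil_mul_apply]
  obtain ⟨k, i⟩ := x
  obtain ⟨l, j⟩ := y
  have hi := i.isLt
  have hj := j.isLt
  simp only
  by_cases h1 : 1 ≤ (i : ℕ)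
  · rw [dif_pos h1]
    by_cases h2 : (j : ℕ) + 1 < d l
    · rw [dif_pos h2, toMat_apply, toMat_apply]
      simp only
      by_cases h3 : (j : ℕ) + 1 ≤ (i : ℕ) ∧ d k ≤ ((i : ℕ) - ((j : ℕ) + 1)) + d l
      · rw [dif_pos h3, dif_pos (by constructor <;> omega)]
        apply par_congr
        omega
      · rw [dif_neg h3, dif_neg (by intro h; apply h3; constructor <;> omega)]
    · rw [dif_neg h2, toMat_apply]
      simp only
      rw [dif_neg (by intro h; omega)]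
  · rw [dif_neg h1]
    by_cases h2 : (j : ℕ) + 1 < d l
    · rw [dif_pos h2, toMat_apply]
      simp only
      rw [dif_neg (by intro h; omega)]
    · rw [dif_neg h2]

/-- the parameters of a matrix -/
def params (d : Fin t → ℕ) (hd : ∀ k, 1 ≤ d k) (g : Matrix (Idx d) (Idx d) F) : Par d → F :=
  fun p => g p.1.1 ⟨p.1.2, ⟨0, hd _⟩⟩

theorem params_toMat (d : Fin t → ℕ) (hd : ∀ k, 1 ≤ d k) (c : Par d → F) :
    params d hd (toMat d c) = c := by
  funext p
  obtain ⟨⟨⟨k, i⟩, l⟩, hp⟩ := p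
  unfold params
  rw [toMat_apply]
  simp only
  rw [dif_pos ⟨Nat.zero_le _, by simpa using hp⟩]
  apply par_congr
  simp

/-- a matrix commuting with the nilpotent part is the Toeplitz matrix of its parameters -/
theorem toMat_params (d : Fin t → ℕ) (hd : ∀ k, 1 ≤ d k) (g : Matrix (Idx d) (Idx d) F)
    (hg : g * Nil F d = Nil F d * g) : toMat d (params d hd g) = g := by
  have hcomm : ∀ x y : Idx d, (g * Nil F d) x y = (Nil F d * g) x y := fun x y => by rw [hg]
  -- first claim: reduction to the first column of each block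
  have claim1 : ∀ (k l : Fin t) (j : ℕ) (hj : j < d l) (i : ℕ) (hi : i < d k),
      g ⟨k, ⟨i, hi⟩⟩ ⟨l, ⟨j, hj⟩⟩ =
        if h : j ≤ i then g ⟨k, ⟨i - j, lt_of_le_of_lt (Nat.sub_le _ _) hi⟩⟩ ⟨l, ⟨0, hd l⟩⟩
        else 0 := by
    intro k l j
    induction j with
    | zero =>
      intro hj i hi
      rw [dif_pos (Nat.zero_le _)]
      rfl
    | succ j ih =>
      intro hj i hi
      have h0 := hcomm ⟨k, ⟨i, hi⟩⟩ ⟨l, ⟨j, by omega⟩⟩
      rw [mul_Nil_apply, Nil_mul_apply] at h0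
      simp only at h0
      rw [dif_pos hj] at h0
      rw [h0]
      by_cases h1 : 1 ≤ i
      · rw [dif_pos h1, ih (by omega) (i - 1) (by omega)]
        by_cases h2 : j + 1 ≤ i
        · rw [dif_pos h2, dif_pos (by omega)]
          congr 3
          omega
        · rw [dif_neg h2, dif_neg (by omega)]
      · rw [dif_neg h1, dif_neg (by omega)]
  -- second claim: vanishing of the short diagonals
  have claim2 : ∀ (k l : Fin t) (r : ℕ) (hr : r < d k), r + d l < d k →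
      g ⟨k, ⟨r, hr⟩⟩ ⟨l, ⟨0, hd l⟩⟩ = 0 := by
    intro k l r hr hlt
    have hl := hd l
    have h0 := hcomm ⟨k, ⟨r + d l, hlt⟩⟩ ⟨l, ⟨d l - 1, by omega⟩⟩
    rw [mul_Nil_apply, Nil_mul_apply] at h0
    simp only at h0
    rw [dif_neg (by omega), dif_pos (by omega)] at h0
    rw [claim1 k l (d l - 1) (by omega) (r + d l - 1) (by omega), dif_pos (by omega)] at h0
    rw [h0]
    congr 3
    omega
  ext x y
  obtain ⟨k, i⟩ := x
  obtain ⟨l, j⟩ := y
  rw [toMat_apply]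
  simp only
  have hc1 := claim1 k l (j : ℕ) j.isLt (i : ℕ) i.isLt
  by_cases h : (j : ℕ) ≤ (i : ℕ) ∧ d k ≤ ((i : ℕ) - (j : ℕ)) + d l
  · rw [dif_pos h]
    rw [dif_pos h.1] at hc1
    exact hc1.symm
  · rw [dif_neg h]
    by_cases h1 : (j : ℕ) ≤ (i : ℕ)
    · rw [dif_pos h1] at hc1
      have h2 : ((i : ℕ) - (j : ℕ)) + d l < d k := by
        by_contra hh
        exact h ⟨h1, by omega⟩
      rw [claim2 k l _ _ h2] at hc1
      exact hc1.symm
    · rw [dif_neg h1] at hc1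
      exact hc1.symm

end Cfsg.Agent.Lib.Helper6.GLC
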