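import Mathlib
import Cfsg.Prelude.Def_JordanBlocks
import Cfsg.Agent.Lib.Helper6.GLC1

set_option autoImplicit false
set_option linter.unusedSectionVars false
set_option linter.unusedVariables false
set_option linter.unusedSimpArgs false

/-! The commutant of a unipotent matrix of given Jordan type: the determinant criterion. -/

namespace Cfsg.Agent.Lib.Helper6.GLC

open Matrix

variable {F : Type*} [Field F] {t : ℕ}

/-- the diagonal blocks of a Toeplitz matrix -/
def Gbar (d : Fin t → ℕ) (hd : ∀ k, 1 ≤ d k) (c : Par d → F) (i : ℕ) :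
    Matrix {k : Fin t // d k = i} {k : Fin t // d k = i} F :=
  Matrix.of fun k l => c ⟨(⟨k.1, ⟨0, hd k.1⟩⟩, l.1), by
    show d k.1 ≤ 0 + d l.1
    rw [k.2, l.2]; omega⟩

/-- the block labelling -/
def lab (d : Fin t → ℕ) (x : Idx d) : ℤ ×ₗ ℤ := toLex (((x.2 : ℕ) : ℤ), -((d x.1 : ℕ) : ℤ))

theorem lab_eq_iff (d : Fin t → ℕ) (x y : Idx d) :
    lab d y = lab d x ↔ (y.2 : ℕ) = (x.2 : ℕ) ∧ d y.1 = d x.1 := by
  unfold lab
  rw [toLex_inj, Prod.ext_iff]
  simp only
  omega

theorem blockTriangular (d : Fin t → ℕ) (c : Par d → F) :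
    BlockTriangular (toMat d c)ᵀ (lab d) := by
  intro x y hlt
  rw [Matrix.transpose_apply, toMat_apply]
  apply dif_neg
  rintro ⟨h1, h2⟩
  unfold lab at hlt
  rw [Prod.Lex.toLex_lt_toLex] at hlt
  simp only at hlt
  omega

theorem det_block (d : Fin t → ℕ) (hd : ∀ k, 1 ≤ d k) (c : Par d → F) (x : Idx d) :
    ((toMat d c)ᵀ.toSquareBlock (lab d) (lab d x)).det = (Gbar d hd c (d x.1)).det := by
  let e : {k : Fin t // d k = d x.1} ≃ {y : Idx d // lab d y = lab d x} :=
    { toFun := fun k => ⟨⟨k.1, ⟨(x.2 : ℕ), by rw [k.2]; exact x.2.isLt⟩⟩, by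
        rw [lab_eq_iff]; exact ⟨rfl, k.2⟩⟩
      invFun := fun y => ⟨y.1.1, ((lab_eq_iff d x y.1).mp y.2).2⟩
      left_inv := fun k => rfl
      right_inv := fun y => by
        obtain ⟨⟨l, j⟩, hy⟩ := y
        have := (lab_eq_iff d x ⟨l, j⟩).mp hy
        apply Subtype.ext
        simp only
        congr 1
        exact Fin.ext this.1.symm }
  have h : (toMat d c)ᵀ.toSquareBlock (lab d) (lab d x) =
      ((Gbar d hd c (d x.1))ᵀ).submatrix e.symm e.symm := by
    ext y z
    rw [toSquareBlock_def, Matrix.of_apply, transpose_apply, submatrix_apply, transpose_apply,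
      toMat_apply]
    have hy := (lab_eq_iff d x y.1).mp y.2
    have hz := (lab_eq_iff d x z.1).mp z.2
    rw [dif_pos ⟨by omega, by omega⟩]
    unfold Gbar
    rw [Matrix.of_apply]
    apply par_congr
    omega
  rw [h, det_submatrix_equiv_self, det_transpose]

theorem isUnit_det_iff (d : Fin t → ℕ) (hd : ∀ k, 1 ≤ d k) (c : Par d → F) :
    IsUnit (toMat d c).det ↔ ∀ i : ℕ, IsUnit (Gbar d hd c i).det := by
  rw [← det_transpose, (blockTriangular d c).det, IsUnit.prod_iff]
  constructor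
  · intro h i
    by_cases hi : ∃ k, d k = i
    · obtain ⟨k, rfl⟩ := hi
      have := h (lab d ⟨k, ⟨0, hd k⟩⟩) (Finset.mem_image_of_mem _ (Finset.mem_univ _))
      rwa [det_block d hd c ⟨k, ⟨0, hd k⟩⟩] at this
    · have : IsEmpty {k : Fin t // d k = i} := ⟨fun k => hi ⟨k.1, k.2⟩⟩
      rw [det_isEmpty]; exact isUnit_one
  · intro h a ha
    obtain ⟨x, _, rfl⟩ := Finset.mem_image.mp ha
    rw [det_block d hd c x]
    exact h _

end Cfsg.Agent.Lib.Helper6.GLC
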