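import Mathlib
import Cfsg.Prelude.Def_JordanBlocks
import Cfsg.Agent.Lib.Helper6.GLC2

set_option autoImplicit false
set_option linter.unusedSectionVars false
set_option linter.unusedVariables false
set_option linter.unusedSimpArgs false

/-! The commutant of a unipotent matrix of given Jordan type: counting. -/

namespace Cfsg.Agent.Lib.Helper6.GLC

open Matrix

variable {F : Type*} [Field F] {t : ℕ}

/-- commutant ≃ parameter families with invertible diagonal blocks -/
noncomputable def commEquiv (d : Fin t → ℕ) (hd : ∀ k, 1 ≤ d k) :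
    {g : GL (Idx d) F // (g : Matrix (Idx d) (Idx d) F) * Cfsg.jordanTypeMatrix d F =
        Cfsg.jordanTypeMatrix d F * (g : Matrix (Idx d) (Idx d) F)} ≃
      {c : Par d → F // ∀ i : ℕ, IsUnit (Gbar d hd c i).det} where
  toFun g := ⟨params d hd g.1.1, by
    rw [← isUnit_det_iff, toMat_params d hd _ ((comm_iff d _).mp g.2)]
    exact (Matrix.isUnit_iff_isUnit_det _).mp g.1.isUnit⟩
  invFun c := ⟨((Matrix.isUnit_iff_isUnit_det _).mpr ((isUnit_det_iff d hd c.1).mpr c.2)).unit, by
    rw [IsUnit.unit_spec, comm_iff]; exact toMat_comm d c.1⟩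
  left_inv g := by
    apply Subtype.ext; apply Units.ext
    simp only [IsUnit.unit_spec]
    exact toMat_params d hd _ ((comm_iff d _).mp g.2)
  right_inv c := by
    apply Subtype.ext
    simp only [IsUnit.unit_spec]
    exact params_toMat d hd c.1

/-- the exceptional parameters -/
def isE (d : Fin t → ℕ) (p : Idx d × Fin t) : Prop := (p.1.2 : ℕ) = 0 ∧ d p.1.1 = d p.2

instance (d : Fin t → ℕ) : DecidablePred (isE d) := fun p => by unfold isE; infer_instance

/-- building a parameter family from its two parts -/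
def build (d : Fin t → ℕ) (N : ℕ) (hN : ∀ k, d k < N)
    (u : {p : Par d // ¬ isE d p.1} → F)
    (m : ∀ i : Fin N, Matrix {k : Fin t // d k = (i : ℕ)} {k : Fin t // d k = (i : ℕ)} F) :
    Par d → F :=
  fun p => if h : isE d p.1 then m ⟨d p.1.1.1, hN _⟩ ⟨p.1.1.1, rfl⟩ ⟨p.1.2, h.2.symm⟩
    else u ⟨p, h⟩

theorem Gbar_build (d : Fin t → ℕ) (hd : ∀ k, 1 ≤ d k) (N : ℕ) (hN : ∀ k, d k < N)
    (u : {p : Par d // ¬ isE d p.1} → F)
    (m : ∀ i : Fin N, Matrix {k : Fin t // d k = (i : ℕ)} {k : Fin t // d k = (i : ℕ)} F)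
    (i : Fin N) : Gbar d hd (build d N hN u m) i = m i := by
  ext k l
  obtain ⟨k, hk⟩ := k
  obtain ⟨l, hl⟩ := l
  have hi : i = ⟨d k, hN k⟩ := Fin.ext hk.symm
  subst hi
  unfold Gbar build
  rw [Matrix.of_apply, dif_pos ⟨rfl, hl.symm⟩]

theorem build_Gbar (d : Fin t → ℕ) (hd : ∀ k, 1 ≤ d k) (N : ℕ) (hN : ∀ k, d k < N)
    (c : Par d → F) :
    build d N hN (fun p => c p.1) (fun i => Gbar d hd c i) = c := by
  funext p
  unfold build
  by_cases h : isE d p.1
  · rw [dif_pos h]
    obtain ⟨⟨⟨k, ⟨r, hr⟩⟩, l⟩, hp⟩ := p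
    have h0 : r = 0 := h.1
    subst h0
    rfl
  · rw [dif_neg h]

theorem isUnit_Gbar_of_ge (d : Fin t → ℕ) (hd : ∀ k, 1 ≤ d k) (N : ℕ) (hN : ∀ k, d k < N)
    (c : Par d → F) (i : ℕ) (hi : N ≤ i) : IsUnit (Gbar d hd c i).det := by
  have : IsEmpty {k : Fin t // d k = i} := ⟨fun k => by have := hN k.1; have := k.2; omega⟩
  rw [det_isEmpty]; exact isUnit_one

/-- splitting the parameters -/
noncomputable def splitPar (d : Fin t → ℕ) (hd : ∀ k, 1 ≤ d k) (N : ℕ) (hN : ∀ k, d k < N) :
    {c : Par d → F // ∀ i : ℕ, IsUnit (Gbar d hd c i).det} ≃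
      ({p : Par d // ¬ isE d p.1} → F) × (∀ i : Fin N, GL {k : Fin t // d k = (i : ℕ)} F) where
  toFun c := (fun p => c.1 p.1, fun i => ((Matrix.isUnit_iff_isUnit_det _).mpr (c.2 i)).unit)
  invFun um := ⟨build d N hN um.1 (fun i => ((um.2 i : GL _ F) : Matrix _ _ F)), by
    intro i
    by_cases hi : i < N
    · have := Gbar_build d hd N hN um.1 (fun i => ((um.2 i : GL _ F) : Matrix _ _ F)) ⟨i, hi⟩
      simp only at this
      rw [this]
      exact (Matrix.isUnit_iff_isUnit_det _).mp (um.2 ⟨i, hi⟩).isUnit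
    · exact isUnit_Gbar_of_ge d hd N hN _ i (by omega)⟩
  left_inv c := by
    apply Subtype.ext
    simp only [IsUnit.unit_spec]
    exact build_Gbar d hd N hN c.1
  right_inv um := by
    apply Prod.ext
    · funext p
      simp only
      unfold build
      rw [dif_neg p.2]
    · funext i
      apply Units.ext
      simp only [IsUnit.unit_spec]
      exact Gbar_build d hd N hN um.1 (fun i => ((um.2 i : GL _ F) : Matrix _ _ F)) i

theorem card_GL_of_card [Fintype F] {n : Type*} [Fintype n] [DecidableEq n] (m : ℕ)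
    (h : Fintype.card n = m) :
    Nat.card (GL n F) = ∏ j : Fin m, (Fintype.card F ^ m - Fintype.card F ^ (j : ℕ)) := by
  subst h
  rw [Nat.card_congr (Units.mapEquiv
    (Matrix.reindexAlgEquiv F F (Fintype.equivFin n)).toMulEquiv).toEquiv, Matrix.card_GL_field]

/-- counting lemma for one pair of blocks -/
theorem cnt (n m : ℕ) :
    (∑ r : Fin n, if n ≤ (r : ℕ) + m ∧ ¬ ((r : ℕ) = 0 ∧ n = m) then 1 else 0) =
      min n m - (if n = m then 1 else 0) := by
  rw [Fin.sum_univ_eq_sum_range (fun r => if n ≤ r + m ∧ ¬ (r = 0 ∧ n = m) then 1 else 0) n,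
    ← Finset.card_filter]
  rcases lt_trichotomy n m with h | h | h
  · have : (Finset.range n).filter (fun r => n ≤ r + m ∧ ¬ (r = 0 ∧ n = m)) = Finset.range n := by
      ext r
      simp only [Finset.mem_filter, Finset.mem_range]
      omega
    rw [this, Finset.card_range, if_neg (by omega)]
    omega
  · have : (Finset.range n).filter (fun r => n ≤ r + m ∧ ¬ (r = 0 ∧ n = m)) = Finset.Ico 1 n := by
      ext r
      simp only [Finset.mem_filter, Finset.mem_range, Finset.mem_Ico]
      omega
    rw [this, Nat.card_Ico, if_pos h]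
    omega
  · have : (Finset.range n).filter (fun r => n ≤ r + m ∧ ¬ (r = 0 ∧ n = m)) =
        Finset.Ico (n - m) n := by
      ext r
      simp only [Finset.mem_filter, Finset.mem_range, Finset.mem_Ico]
      omega
    rw [this, Nat.card_Ico, if_neg (by omega)]
    omega

/-- grouping a sum by the block sizes -/
theorem group1 (d : Fin t → ℕ) (N : ℕ) (hN : ∀ k, d k < N) (f : ℕ → ℕ) :
    ∑ k, f (d k) =
      ∑ i ∈ Finset.range N, (Finset.univ.filter (fun k : Fin t => d k = i)).card * f i := by
  symm
  calc ∑ i ∈ Finset.range N, (Finset.univ.filter (fun k : Fin t => d k = i)).card * f i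
      = ∑ i ∈ Finset.range N, ∑ k : Fin t, if d k = i then f i else 0 := by
        apply Finset.sum_congr rfl
        intro i _
        rw [Finset.card_filter, Finset.sum_mul]
        apply Finset.sum_congr rfl
        intro k _
        split_ifs <;> simp
    _ = ∑ k : Fin t, ∑ i ∈ Finset.range N, if d k = i then f i else 0 := Finset.sum_comm
    _ = ∑ k, f (d k) := by
        apply Finset.sum_congr rfl
        intro k _
        rw [Finset.sum_ite_eq (Finset.range N) (d k) f, if_pos (Finset.mem_range.mpr (hN k))]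

/-- the arithmetic identity -/
theorem arith (a : ℕ → ℕ) (N : ℕ) :
    (∑ i ∈ Finset.range N, a i * ∑ j ∈ Finset.range N,
        a j * (min i j - (if i = j then 1 else 0))) =
      2 * (∑ i ∈ Finset.range N, ∑ j ∈ Finset.range N, if i < j then i * a i * a j else 0) +
        ∑ i ∈ Finset.range N, (i - 1) * a i ^ 2 := by
  have h1 : ∀ i ∈ Finset.range N, a i * ∑ j ∈ Finset.range N,
        a j * (min i j - (if i = j then 1 else 0)) =
      (∑ j ∈ Finset.range N, if i < j then i * a i * a j else 0) +
      (∑ j ∈ Finset.range N, if j < i then j * a j * a i else 0) + (i - 1) * a i ^ 2 := by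
    intro i hi
    have h3 : (i - 1) * a i ^ 2 =
        ∑ j ∈ Finset.range N, if i = j then (j - 1) * a j ^ 2 else 0 := by
      rw [Finset.sum_ite_eq (Finset.range N) i (fun j => (j - 1) * a j ^ 2), if_pos hi]
    rw [h3, Finset.mul_sum, ← Finset.sum_add_distrib, ← Finset.sum_add_distrib]
    apply Finset.sum_congr rfl
    intro j _
    rcases lt_trichotomy i j with h | h | h
    · have e1 : ¬ i = j := by omega
      have e2 : ¬ j < i := by omega
      simp only [if_pos h, if_neg e1, if_neg e2, min_eq_left (le_of_lt h), Nat.sub_zero,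
        add_zero]
      ring
    · subst h
      have e1 : ¬ i < i := lt_irrefl i
      simp only [if_neg e1, if_true, eq_self_iff_true, min_self, zero_add]
      ring
    · have e1 : ¬ i = j := by omega
      have e2 : ¬ i < j := by omega
      simp only [if_pos h, if_neg e1, if_neg e2, min_eq_right (le_of_lt h), Nat.sub_zero,
        add_zero, zero_add]
      ring
  rw [Finset.sum_congr rfl h1, Finset.sum_add_distrib, Finset.sum_add_distrib]
  have h2 : (∑ i ∈ Finset.range N, ∑ j ∈ Finset.range N, if j < i then j * a j * a i else 0) =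
      ∑ i ∈ Finset.range N, ∑ j ∈ Finset.range N, if i < j then i * a i * a j else 0 :=
    Finset.sum_comm
  rw [h2]
  ring

theorem card_nonE (d : Fin t → ℕ) :
    Nat.card {p : Par d // ¬ isE d p.1} =
      ∑ k, ∑ l, (min (d k) (d l) - (if d k = d l then 1 else 0)) := by
  rw [Nat.card_eq_fintype_card,
    Fintype.card_congr (Equiv.subtypeSubtypeEquivSubtypeInter
      (fun p : Idx d × Fin t => d p.1.1 ≤ (p.1.2 : ℕ) + d p.2) (fun p => ¬ isE d p)),
    Fintype.card_subtype, Finset.card_filter, Fintype.sum_prod_type, Fintype.sum_sigma]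
  apply Finset.sum_congr rfl
  intro k _
  rw [Finset.sum_comm]
  apply Finset.sum_congr rfl
  intro l _
  exact cnt (d k) (d l)

/-- the order of the centraliser of a unipotent matrix of given Jordan type -/
theorem card_commutant [Fintype F] (d : Fin t → ℕ) (hd : ∀ k, 1 ≤ d k) (N : ℕ)
    (hN : ∀ k, d k < N) :
    Nat.card {g : GL (Idx d) F // (g : Matrix (Idx d) (Idx d) F) * Cfsg.jordanTypeMatrix d F =
        Cfsg.jordanTypeMatrix d F * (g : Matrix (Idx d) (Idx d) F)} =
      Fintype.card F ^ (2 * (∑ i ∈ Finset.range N, ∑ j ∈ Finset.range N,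
          if i < j then i * (Finset.univ.filter (fun k : Fin t => d k = i)).card *
            (Finset.univ.filter (fun k : Fin t => d k = j)).card else 0) +
        ∑ i ∈ Finset.range N,
          (i - 1) * (Finset.univ.filter (fun k : Fin t => d k = i)).card ^ 2) *
      ∏ i ∈ Finset.range N, ∏ j : Fin ((Finset.univ.filter (fun k : Fin t => d k = i)).card),
        (Fintype.card F ^ (Finset.univ.filter (fun k : Fin t => d k = i)).card -
          Fintype.card F ^ (j : ℕ)) := by
  rw [Nat.card_congr ((commEquiv d hd).trans (splitPar d hd N hN)), Nat.card_prod, Nat.card_fun,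
    Nat.card_pi, card_nonE, Nat.card_eq_fintype_card (α := F)]
  congr 1
  · congr 1
    rw [← arith (fun i => (Finset.univ.filter (fun k : Fin t => d k = i)).card) N,
      group1 d N hN (fun i => ∑ l, (min i (d l) - if i = d l then 1 else 0))]
    apply Finset.sum_congr rfl
    intro i _
    congr 1
    rw [group1 d N hN (fun j => min i j - if i = j then 1 else 0)]
  · rw [Finset.prod_range]
    apply Finset.prod_congr rfl
    intro i _
    exact card_GL_of_card _ (by rw [Fintype.card_subtype])

end Cfsg.Agent.Lib.Helper6.GLC
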