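import Mathlib

set_option autoImplicit false

/-! Rings with an involutive anti-automorphism: the norm equation `star y * y = 1 + t` for a
symmetric nilpotent `t`, solved inside the commutative double centralizer of `t`. -/

namespace Cfsg.Agent.Lib.Helper6.GUC

/-- an involutive anti-automorphism of a ring, given as a bare function with its properties -/
structure IsInvol {R : Type*} [Ring R] (st : R → R) : Prop where
  add : ∀ x y, st (x + y) = st x + st y
  mul : ∀ x y, st (x * y) = st y * st x
  one : st 1 = 1
  invol : ∀ x, st (st x) = x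

namespace IsInvol

variable {R : Type*} [Ring R] {st : R → R} (h : IsInvol st)
include h

theorem zero : st 0 = 0 := by
  have := h.add 0 0
  simpa using this

theorem neg (x : R) : st (-x) = -st x := by
  have := h.add x (-x)
  rw [add_neg_cancel, h.zero] at this
  exact (neg_eq_of_add_eq_zero_right this.symm).symm

theorem sub (x y : R) : st (x - y) = st x - st y := by
  rw [sub_eq_add_neg, h.add, h.neg, sub_eq_add_neg]

theorem pow (x : R) (k : ℕ) : st (x ^ k) = st x ^ k := by
  induction k with
  | zero => rw [pow_zero, pow_zero, h.one]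
  | succ k ih => rw [pow_succ, h.mul, ih, pow_succ']

theorem injective : Function.Injective st := fun x y hxy => by
  have := congrArg st hxy
  rwa [h.invol, h.invol] at this

end IsInvol

/-- Hensel iteration in a commutative ring with involution -/
theorem hensel_comm {C : Type*} [CommRing C] {st : C → C} (h : IsInvol st) {t lam : C}
    (ht : st t = t) (hl1 : lam + st lam = 1) (k : ℕ) :
    ∃ z r : C, st r = r ∧ st (1 + t * z) * (1 + t * z) = 1 + t + t ^ (k + 1) * r := by
  induction k with
  | zero =>
    refine ⟨0, -1, ?_, ?_⟩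
    · rw [h.neg, h.one]
    · rw [mul_zero, add_zero, h.one]; ring
  | succ k ih =>
    obtain ⟨z, r, hrs, hyy⟩ := ih
    have htk : ∀ j, st (t ^ j) = t ^ j := fun j => by rw [h.pow, ht]
    refine ⟨z + t ^ k * (-(lam * r)) + z * (t ^ (k + 1) * (-(lam * r))),
      -r - t ^ k * (r * r) + (1 + t + t ^ (k + 1) * r) * (t ^ k * (lam * st lam * (r * r))),
      ?_, ?_⟩
    · simp only [h.add, h.sub, h.neg, h.mul, h.one, htk, hrs, ht, h.invol]
      ring
    · have e1 : 1 + t * (z + t ^ k * (-(lam * r)) + z * (t ^ (k + 1) * (-(lam * r)))) =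
          (1 + t * z) * (1 + t ^ (k + 1) * (-(lam * r))) := by ring
      rw [e1, h.mul, h.add _ (t ^ (k + 1) * _), h.one, h.mul _ (-(lam * r)), h.neg, h.mul, hrs, htk]
      have e2 : (1 + -(r * st lam) * t ^ (k + 1)) * st (1 + t * z) *
          ((1 + t * z) * (1 + t ^ (k + 1) * -(lam * r))) =
          (st (1 + t * z) * (1 + t * z)) *
            ((1 + -(r * st lam) * t ^ (k + 1)) * (1 + t ^ (k + 1) * -(lam * r))) := by ring
      rw [e2, hyy]
      have e3 : (1 + -(r * st lam) * t ^ (k + 1)) * (1 + t ^ (k + 1) * -(lam * r)) =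
          1 - t ^ (k + 1) * r * (lam + st lam) + t ^ (k + 1) * t ^ (k + 1) * (lam * st lam * (r * r)) := by
        ring
      rw [e3, hl1]
      ring

section noncomm

variable {R : Type*} [Ring R] {st : R → R} (h : IsInvol st)

/-- the double centralizer of `t` -/
def dc (t : R) : Subring R := Subring.centralizer (Subring.centralizer ({t} : Set R) : Set R)

theorem mem_dc {t c : R} : c ∈ dc t ↔ ∀ g : R, g * t = t * g → g * c = c * g := by
  unfold dc
  rw [Subring.mem_centralizer_iff]
  constructor
  · intro hc g hg
    apply hc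
    rw [SetLike.mem_coe, Subring.mem_centralizer_iff]
    intro x hx
    rw [Set.mem_singleton_iff] at hx
    subst hx
    exact hg.symm
  · intro hc g hg
    apply hc
    rw [SetLike.mem_coe, Subring.mem_centralizer_iff] at hg
    exact (hg t rfl).symm

theorem self_mem_dc (t : R) : t ∈ dc t := mem_dc.2 fun g hg => hg

theorem comm_t_of_mem_dc {t c : R} (hc : c ∈ dc t) : t * c = c * t := mem_dc.1 hc t rfl

theorem comm_of_mem_dc {t c c' : R} (hc : c ∈ dc t) (hc' : c' ∈ dc t) : c * c' = c' * c :=
  mem_dc.1 hc' c (comm_t_of_mem_dc hc).symm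

theorem central_mem_dc (t : R) {l : R} (hl : ∀ x, l * x = x * l) : l ∈ dc t :=
  mem_dc.2 fun g _ => (hl g).symm

include h in
theorem star_mem_dc {t c : R} (ht : st t = t) (hc : c ∈ dc t) : st c ∈ dc t := by
  rw [mem_dc] at hc ⊢
  intro g hg
  have h1 : st g * t = t * st g := by
    have := congrArg st hg
    rw [h.mul, h.mul, ht] at this
    exact this.symm
  have h2 := hc (st g) h1
  have := congrArg st h2
  rw [h.mul, h.mul, h.invol] at this
  exact this.symm

/-- the double centralizer is a commutative ring -/
@[reducible] def dcCommRing (t : R) : CommRing (dc t) :=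
  { (dc t).toRing with mul_comm := fun a b => Subtype.ext (comm_of_mem_dc a.2 b.2) }

include h in
/-- the norm equation `st y * y = 1 + t` for a nilpotent symmetric `t` -/
theorem hensel {t lam : R} (ht : st t = t) (hlc : ∀ x, lam * x = x * lam)
    (hl1 : lam + st lam = 1) (hnil : IsNilpotent t) :
    ∃ z : R, st (1 + t * z) * (1 + t * z) = 1 + t := by
  obtain ⟨m, hm⟩ := hnil
  letI : CommRing (dc t) := dcCommRing t
  let stC : dc t → dc t := fun c => ⟨st c.1, star_mem_dc h ht c.2⟩
  have hC : IsInvol stC :=
    { add := fun x y => Subtype.ext (h.add x.1 y.1)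
      mul := fun x y => Subtype.ext (h.mul x.1 y.1)
      one := Subtype.ext h.one
      invol := fun x => Subtype.ext (h.invol x.1) }
  obtain ⟨z, r, -, hz⟩ := hensel_comm hC (t := ⟨t, self_mem_dc t⟩)
    (lam := ⟨lam, central_mem_dc t hlc⟩) (Subtype.ext ht) (Subtype.ext hl1) m
  refine ⟨z.1, ?_⟩
  have := congrArg Subtype.val hz
  have e : t ^ (m + 1) = 0 := by rw [pow_succ, hm, zero_mul]
  have e' : (1 : R) + t + t ^ (m + 1) * r.1 = 1 + t := by rw [e, zero_mul, add_zero]
  rw [← e']
  exact this

end noncomm

end Cfsg.Agent.Lib.Helper6.GUC
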