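import Mathlib
import Cfsg.Agent.Lib.Helper6.GUCHensel

set_option autoImplicit false

/-! Counting the unitary elements of a finite ring with involution modulo a nil ideal. -/

namespace Cfsg.Agent.Lib.Helper6.GUC

theorem card_eq_of_free_transitive {α β κ : Type*} (f : α → β)
    (hf : Function.Surjective f) (act : κ → α → α) (h1 : ∀ u a, f (act u a) = f a)
    (h2 : ∀ a a', f a = f a' → ∃! u, act u a = a') :
    Nat.card α = Nat.card β * Nat.card κ := by
  choose s hs using hf
  let g : β × κ → α := fun p => act p.2 (s p.1)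
  have hg : Function.Bijective g := by
    constructor
    · rintro ⟨b, u⟩ ⟨b', u'⟩ hgg
      have hb : b = b' := by
        have := congrArg f hgg
        simp only [g, h1, hs] at this
        exact this
      subst hb
      have := (h2 (s b) (act u (s b)) (h1 u (s b)).symm).unique rfl hgg.symm
      rw [this]
    · intro a
      obtain ⟨u, hu, -⟩ := h2 (s (f a)) a (hs (f a))
      exact ⟨(f a, u), hu⟩
  rw [← Nat.card_prod]
  exact (Nat.card_congr (Equiv.ofBijective g hg)).symm

section

variable {R B : Type*} [Ring R] [Ring B] [Finite R] {st : R → R} {stB : B → B}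

theorem card_unitary (h : IsInvol st) (hB : IsInvol stB) (π : R →+* B)
    (hπ : Function.Surjective π) (hπs : ∀ x, π (st x) = stB (π x))
    (hnil : ∀ x, π x = 0 → IsNilpotent x)
    {lam : R} (hlc : ∀ x, lam * x = x * lam) (hl1 : lam + st lam = 1) :
    Nat.card {x : R // st x * x = 1} * Nat.card {x : R // π x = 0 ∧ st x = x} =
      Nat.card {b : B // stB b * b = 1} * Nat.card {x : R // π x = 0} := by
  -- units above 1
  have hunit : ∀ x : R, π x = 1 → ∃ x' : R, x * x' = 1 ∧ x' * x = 1 ∧ π x' = 1 := by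
    intro x hx
    have hn : IsNilpotent (x - 1) := hnil _ (by rw [map_sub, hx, map_one, sub_self])
    have hu : IsUnit x := by
      have := hn.isUnit_add_one
      rwa [sub_add_cancel] at this
    obtain ⟨u, rfl⟩ := hu
    refine ⟨(u⁻¹ : Rˣ), u.mul_inv, u.inv_mul, ?_⟩
    have : π (u : R) * π ((u⁻¹ : Rˣ) : R) = 1 := by rw [← map_mul, u.mul_inv, map_one]
    rwa [hx, one_mul] at this
  -- Hensel
  have hens : ∀ s : R, π s = 1 → st s = s → ∃ x : R, π x = 1 ∧ st x * x = s := by
    intro s hs hss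
    have ht : st (s - 1) = s - 1 := by rw [h.sub, hss, h.one]
    have hn : IsNilpotent (s - 1) := hnil _ (by rw [map_sub, hs, map_one, sub_self])
    obtain ⟨z, hz⟩ := hensel h ht hlc hl1 hn
    refine ⟨1 + (s - 1) * z, ?_, ?_⟩
    · rw [map_add, map_one, map_mul, map_sub, hs, map_one, sub_self, zero_mul, add_zero]
    · rw [hz]; abel
  -- (a)
  have ha : Nat.card {x : R // π x = 1} =
      Nat.card {s : R // π s = 1 ∧ st s = s} * Nat.card {u : R // π u = 1 ∧ st u * u = 1} := by
    refine card_eq_of_free_transitive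
      (fun x : {x : R // π x = 1} => (⟨st x.1 * x.1, by
        rw [map_mul, hπs, x.2, hB.one, one_mul], by rw [h.mul, h.invol]⟩ :
          {s : R // π s = 1 ∧ st s = s}))
      ?_ (fun u x => ⟨u.1 * x.1, by rw [map_mul, u.2.1, x.2, one_mul]⟩) ?_ ?_
    · rintro ⟨s, hs, hss⟩
      obtain ⟨x, hx, hxs⟩ := hens s hs hss
      exact ⟨⟨x, hx⟩, Subtype.ext hxs⟩
    · rintro ⟨u, hu, huu⟩ ⟨x, hx⟩
      apply Subtype.ext
      show st (u * x) * (u * x) = st x * x
      rw [h.mul, mul_assoc, ← mul_assoc (st u), huu, one_mul]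
    · rintro ⟨x, hx⟩ ⟨y, hy⟩ hxy
      have hxy' : st x * x = st y * y := congrArg Subtype.val hxy
      obtain ⟨x', hx1, hx2, hx3⟩ := hunit x hx
      have hsx : st x' * st x = 1 := by rw [← h.mul, hx1, h.one]
      refine ⟨⟨y * x', by rw [map_mul, hy, hx3, one_mul], ?_⟩, ?_, ?_⟩
      · rw [h.mul, mul_assoc, ← mul_assoc (st y), ← hxy', mul_assoc, hx1, mul_one, hsx]
      · apply Subtype.ext
        show y * x' * x = y
        rw [mul_assoc, hx2, mul_one]
      · rintro ⟨u, hu, huu⟩ hux
        have hux' : u * x = y := congrArg Subtype.val hux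
        apply Subtype.ext
        show u = y * x'
        rw [← hux', mul_assoc, hx1, mul_one]
  -- (b)
  have hb1 : Nat.card {x : R // π x = 1} = Nat.card {x : R // π x = 0} := by
    refine Nat.card_congr ⟨fun x => ⟨x.1 - 1, by rw [map_sub, x.2, map_one, sub_self]⟩,
      fun x => ⟨x.1 + 1, by rw [map_add, x.2, map_one, zero_add]⟩, fun x => ?_, fun x => ?_⟩
    · apply Subtype.ext; show x.1 - 1 + 1 = x.1; abel
    · apply Subtype.ext; show x.1 + 1 - 1 = x.1; abel
  have hb2 : Nat.card {s : R // π s = 1 ∧ st s = s} = Nat.card {x : R // π x = 0 ∧ st x = x} := by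
    refine Nat.card_congr ⟨fun x => ⟨x.1 - 1, by rw [map_sub, x.2.1, map_one, sub_self], by
        rw [h.sub, x.2.2, h.one]⟩,
      fun x => ⟨x.1 + 1, by rw [map_add, x.2.1, map_one, zero_add], by
        rw [h.add, x.2.2, h.one]⟩, fun x => ?_, fun x => ?_⟩
    · apply Subtype.ext; show x.1 - 1 + 1 = x.1; abel
    · apply Subtype.ext; show x.1 + 1 - 1 = x.1; abel
  -- (c)
  have hc : Nat.card {x : R // st x * x = 1} =
      Nat.card {b : B // stB b * b = 1} * Nat.card {u : R // π u = 1 ∧ st u * u = 1} := by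
    refine card_eq_of_free_transitive
      (fun x : {x : R // st x * x = 1} => (⟨π x.1, by
        rw [← hπs, ← map_mul, x.2, map_one]⟩ : {b : B // stB b * b = 1}))
      ?_ (fun u x => ⟨u.1 * x.1, by
        rw [h.mul, mul_assoc, ← mul_assoc (st u.1), u.2.2, one_mul, x.2]⟩) ?_ ?_
    · rintro ⟨b, hb⟩
      obtain ⟨y, rfl⟩ := hπ b
      have hs1 : π (st y * y) = 1 := by rw [map_mul, hπs, hb]
      have hs2 : st (st y * y) = st y * y := by rw [h.mul, h.invol]
      obtain ⟨x, hx, hxs⟩ := hens _ hs1 hs2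
      obtain ⟨x', hx1, hx2, hx3⟩ := hunit x hx
      have hsx : st x' * st x = 1 := by rw [← h.mul, hx1, h.one]
      refine ⟨⟨y * x', ?_⟩, ?_⟩
      · rw [h.mul, mul_assoc, ← mul_assoc (st y), ← hxs, mul_assoc (st x), hx1, mul_one, hsx]
      · apply Subtype.ext
        show π (y * x') = π y
        rw [map_mul, hx3, mul_one]
    · rintro ⟨u, hu, huu⟩ ⟨x, hx⟩
      apply Subtype.ext
      show π (u * x) = π x
      rw [map_mul, hu, one_mul]
    · rintro ⟨x, hx⟩ ⟨y, hy⟩ hxy
      have hxy' : π x = π y := congrArg Subtype.val hxy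
      have hx' : x * st x = 1 := mul_eq_one_comm.mp hx
      refine ⟨⟨y * st x, ?_, ?_⟩, ?_, ?_⟩
      · rw [map_mul, ← hxy', ← map_mul, hx', map_one]
      · rw [h.mul, h.invol, mul_assoc, ← mul_assoc (st y), hy, one_mul, hx']
      · apply Subtype.ext
        show y * st x * x = y
        rw [mul_assoc, hx, mul_one]
      · rintro ⟨u, hu, huu⟩ hux
        have hux' : u * x = y := congrArg Subtype.val hux
        apply Subtype.ext
        show u = y * st x
        rw [← hux', mul_assoc, hx', mul_one]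
  rw [hc, ← hb1, ha, hb2]
  ring

end

end Cfsg.Agent.Lib.Helper6.GUC
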