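import Mathlib
import Cfsg.Agent.Lib.Helper6.GLC3
import Cfsg.Agent.Lib.Helper6.GUCCount

set_option autoImplicit false
set_option linter.unusedSectionVars false

/-!
Farm GUC (statement S2646): centralisers of unipotent elements of the general unitary group.
Common definitions: the conjugate transpose over arbitrary index types, the model hermitian form
`H0` on the index type of a Jordan type matrix (antidiagonal on each block, `N† = -N`), and the
involution `cdag` on the Toeplitz parameters of the commutant.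
-/

namespace Cfsg.Agent.Lib.Helper6.GUC

open Matrix Cfsg.Agent.Lib.Helper6.GLC

variable {K : Type*} [Field K] (σ : K →+* K)

/-- the conjugate transpose -/
def ct {m n : Type*} (M : Matrix m n K) : Matrix n m K := (M.map σ)ᵀ

theorem ct_apply {m n : Type*} (M : Matrix m n K) (i : n) (j : m) : ct σ M i j = σ (M j i) := rfl

theorem ct_mul {l m n : Type*} [Fintype m] (M : Matrix l m K) (N : Matrix m n K) :
    ct σ (M * N) = ct σ N * ct σ M := by
  unfold ct
  rw [Matrix.map_mul, Matrix.transpose_mul]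

theorem ct_one {n : Type*} [DecidableEq n] : ct σ (1 : Matrix n n K) = 1 := by
  unfold ct
  rw [Matrix.map_one _ (map_zero _) (map_one _), Matrix.transpose_one]

theorem ct_add {m n : Type*} (M N : Matrix m n K) : ct σ (M + N) = ct σ M + ct σ N := by
  ext i j
  rw [Matrix.add_apply, ct_apply, ct_apply, ct_apply, Matrix.add_apply, map_add]

theorem ct_neg {m n : Type*} (M : Matrix m n K) : ct σ (-M) = -ct σ M := by
  ext i j
  rw [Matrix.neg_apply, ct_apply, ct_apply, Matrix.neg_apply, map_neg]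

theorem ct_sub {m n : Type*} (M N : Matrix m n K) : ct σ (M - N) = ct σ M - ct σ N := by
  rw [sub_eq_add_neg, ct_add, ct_neg, sub_eq_add_neg]

theorem ct_smul {m n : Type*} (c : K) (M : Matrix m n K) : ct σ (c • M) = σ c • ct σ M := by
  ext i j
  rw [Matrix.smul_apply, ct_apply, ct_apply, Matrix.smul_apply, smul_eq_mul, smul_eq_mul, map_mul]

theorem ct_ct (hσ : ∀ a, σ (σ a) = a) {m n : Type*} (M : Matrix m n K) : ct σ (ct σ M) = M := by
  ext i j
  rw [ct_apply, ct_apply, hσ]

theorem ct_zero {m n : Type*} : ct σ (0 : Matrix m n K) = 0 := by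
  ext i j
  rw [ct_apply, Matrix.zero_apply, Matrix.zero_apply, map_zero]

variable {t : ℕ}

/-- the constant of a block of size `i` in the model form: `ε ^ (i - 1)` with `σ ε = -ε` -/
def Cc (ε : K) (i : ℕ) : K := ε ^ (i - 1)

/-- the model hermitian form: on the block `k` the antidiagonal matrix with entries
`(-1) ^ r * Cc ε (d k)` at `((k, r), (k, d k - 1 - r))` -/
def H0 (ε : K) (d : Fin t → ℕ) : Matrix (Idx d) (Idx d) K :=
  Matrix.of fun x y =>
    if x.1 = y.1 ∧ (x.2 : ℕ) + (y.2 : ℕ) + 1 = d x.1 then (-1) ^ (x.2 : ℕ) * Cc ε (d x.1) else 0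

theorem H0_apply (ε : K) (d : Fin t → ℕ) (x y : Idx d) :
    H0 ε d x y =
      if x.1 = y.1 ∧ (x.2 : ℕ) + (y.2 : ℕ) + 1 = d x.1 then (-1) ^ (x.2 : ℕ) * Cc ε (d x.1)
      else 0 := rfl

/-- the inverse of the model form -/
def H0inv (ε : K) (d : Fin t → ℕ) : Matrix (Idx d) (Idx d) K :=
  Matrix.of fun x y =>
    if x.1 = y.1 ∧ (x.2 : ℕ) + (y.2 : ℕ) + 1 = d x.1 then
      (-1) ^ (y.2 : ℕ) * (Cc ε (d x.1))⁻¹ else 0

/-- the involution on the Toeplitz parameters: for `p = ((k, ρ), l)`,
`cdag c p = (-1) ^ (d k + d l + ρ) * (C_l / C_k) * σ (c ((l, ρ + d l - d k), k))` -/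
def cdag (ε : K) (d : Fin t → ℕ) (c : Par d → K) : Par d → K := fun p =>
  (-1) ^ (d p.1.1.1 + d p.1.2 + (p.1.1.2 : ℕ)) * (Cc ε (d p.1.2) * (Cc ε (d p.1.1.1))⁻¹) *
    σ (c ⟨(⟨p.1.2, ⟨(p.1.1.2 : ℕ) + d p.1.2 - d p.1.1.1, by
      have h1 := p.2
      have h2 := p.1.1.2.isLt
      omega⟩⟩, p.1.1.1), by
      have h1 := p.2
      show d p.1.2 ≤ ((p.1.1.2 : ℕ) + d p.1.2 - d p.1.1.1) + d p.1.1.1
      omega⟩)

/-- the adjoint with respect to the model form, on all matrices -/
def dag (ε : K) (d : Fin t → ℕ) (x : Matrix (Idx d) (Idx d) K) : Matrix (Idx d) (Idx d) K :=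
  H0inv ε d * ct σ x * H0 ε d

/-- the commutant of the nilpotent matrix `Nil K d`, as a subring -/
def Rc (K : Type*) [Field K] (d : Fin t → ℕ) : Subring (Matrix (Idx d) (Idx d) K) :=
  Subring.centralizer {Nil K d}

theorem mem_Rc (d : Fin t → ℕ) (x : Matrix (Idx d) (Idx d) K) :
    x ∈ Rc K d ↔ x * Nil K d = Nil K d * x := by
  unfold Rc
  rw [Subring.mem_centralizer_iff]
  constructor
  · intro h
    exact (h _ rfl).symm
  · intro h g hg
    rw [Set.mem_singleton_iff] at hg
    subst hg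
    exact h.symm

/-- the semisimple quotient of the commutant -/
abbrev Bq (K : Type*) [Field K] (d : Fin t → ℕ) (N : ℕ) : Type _ :=
  ∀ i : Fin N, Matrix {k : Fin t // d k = (i : ℕ)} {k : Fin t // d k = (i : ℕ)} K

/-- the projection of the commutant onto its semisimple quotient, as a function -/
def piFun (d : Fin t → ℕ) (hd : ∀ k, 1 ≤ d k) (N : ℕ) (x : Matrix (Idx d) (Idx d) K) : Bq K d N :=
  fun i => Gbar d hd (params d hd x) (i : ℕ)

/-- the conjugate transpose on the semisimple quotient -/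
def ctB (d : Fin t → ℕ) (N : ℕ) (b : Bq K d N) : Bq K d N := fun i => ct σ (b i)

end Cfsg.Agent.Lib.Helper6.GUC
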