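import Mathlib

set_option autoImplicit false

/-!
Symmetric matrices as an additive group, the trace pairing with an additive character,
transitivity of `GL_n` on non-zero vectors, and polarisation.
-/

namespace Cfsg.Agent.Lib.Helper6.Wl

open Matrix

/-- symmetric matrices as an additive subgroup -/
def symAdd (F : Type*) [Field F] (n : ℕ) : AddSubgroup (Matrix (Fin n) (Fin n) F) where
  carrier := {S | Sᵀ = S}
  add_mem' := by
    intro a b ha hb
    show (a + b)ᵀ = a + b
    rw [transpose_add, show aᵀ = a from ha, show bᵀ = b from hb]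
  zero_mem' := transpose_zero
  neg_mem' := by
    intro a ha
    show (-a)ᵀ = -a
    rw [transpose_neg, show aᵀ = a from ha]

theorem mem_symAdd {F : Type*} [Field F] {n : ℕ} (S : Matrix (Fin n) (Fin n) F) :
    S ∈ symAdd F n ↔ Sᵀ = S := Iff.rfl

theorem symAdd_transpose {F : Type*} [Field F] {n : ℕ} (S : symAdd F n) :
    (S : Matrix (Fin n) (Fin n) F)ᵀ = S := S.2

noncomputable instance symAddFintype (F : Type*) [Field F] [Fintype F] (n : ℕ) :
    Fintype (symAdd F n) := Fintype.ofFinite _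

section trace
variable {F : Type*} [Field F] {n : ℕ}

/-- the symmetric matrix `E_ij + E_ji` -/
def symUnit (i j : Fin n) : Matrix (Fin n) (Fin n) F :=
  Matrix.single i j 1 + Matrix.single j i 1

theorem symUnit_mem (i j : Fin n) : (symUnit i j : Matrix (Fin n) (Fin n) F) ∈ symAdd F n := by
  show (symUnit i j)ᵀ = symUnit i j
  unfold symUnit
  rw [transpose_add, Matrix.transpose_single, Matrix.transpose_single, add_comm]

theorem trace_symUnit_mul (i j : Fin n) (D : Matrix (Fin n) (Fin n) F) (hD : Dᵀ = D) :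
    Matrix.trace (symUnit i j * D) = 2 * D i j := by
  unfold symUnit
  rw [add_mul, Matrix.trace_add, Matrix.trace_single_mul, Matrix.trace_single_mul]
  have : D j i = D i j := by
    have := congrFun (congrFun hD i) j
    simpa using this
  rw [this, smul_eq_mul]
  ring

/-- the additive map `S ↦ tr (S D)` on symmetric matrices -/
def trHom (D : Matrix (Fin n) (Fin n) F) : symAdd F n →+ F where
  toFun S := Matrix.trace ((S : Matrix (Fin n) (Fin n) F) * D)
  map_zero' := by simp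
  map_add' S S' := by simp [add_mul]

theorem trHom_apply (D : Matrix (Fin n) (Fin n) F) (S : symAdd F n) :
    trHom D S = Matrix.trace ((S : Matrix (Fin n) (Fin n) F) * D) := rfl

/-- the additive map `t ↦ x ⬝ t` -/
def dotHom (x : Fin n → F) : (Fin n → F) →+ F where
  toFun t := x ⬝ᵥ t
  map_zero' := dotProduct_zero x
  map_add' := dotProduct_add x

theorem dotHom_apply (x t : Fin n → F) : dotHom x t = x ⬝ᵥ t := rfl

end trace

section char
variable {F : Type*} [Field F] [Fintype F] {n : ℕ}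

theorem exists_sym_psi_ne_one (h2 : (2 : F) ≠ 0) (ψ : AddChar F ℂ) (hψ : ψ ≠ 1)
    (D : Matrix (Fin n) (Fin n) F) (hD : Dᵀ = D) (hD0 : D ≠ 0) :
    ∃ S : symAdd F n, ψ (Matrix.trace ((S : Matrix (Fin n) (Fin n) F) * D)) ≠ 1 := by
  obtain ⟨c0, hc0⟩ := (AddChar.ne_one_iff).1 hψ
  have : ∃ i j, D i j ≠ 0 := by
    by_contra hcon
    push Not at hcon
    apply hD0
    ext i j
    exact hcon i j
  obtain ⟨i, j, hij⟩ := this
  have hmem : (c0 / (2 * D i j)) • (symUnit i j : Matrix (Fin n) (Fin n) F) ∈ symAdd F n := by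
    show ((c0 / (2 * D i j)) • (symUnit i j : Matrix (Fin n) (Fin n) F))ᵀ = _
    rw [transpose_smul, show (symUnit i j : Matrix (Fin n) (Fin n) F)ᵀ = symUnit i j from
      symUnit_mem i j]
  refine ⟨⟨_, hmem⟩, ?_⟩
  have htr : Matrix.trace (((c0 / (2 * D i j)) • (symUnit i j : Matrix (Fin n) (Fin n) F)) * D)
      = c0 := by
    rw [smul_mul_assoc, Matrix.trace_smul, trace_symUnit_mul i j D hD, smul_eq_mul]
    field_simp
  show ψ (Matrix.trace (((c0 / (2 * D i j)) • (symUnit i j : Matrix (Fin n) (Fin n) F)) * D)) ≠ 1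
  rw [htr]
  exact hc0

theorem sum_sym_psi_zero (h2 : (2 : F) ≠ 0) (ψ : AddChar F ℂ) (hψ : ψ ≠ 1)
    (D : Matrix (Fin n) (Fin n) F) (hD : Dᵀ = D) (hD0 : D ≠ 0) :
    ∑ S : symAdd F n, ψ (Matrix.trace ((S : Matrix (Fin n) (Fin n) F) * D)) = 0 := by
  have hne : ψ.compAddMonoidHom (trHom D) ≠ 1 := by
    obtain ⟨S, hS⟩ := exists_sym_psi_ne_one h2 ψ hψ D hD hD0
    exact (AddChar.ne_one_iff).2 ⟨S, hS⟩
  have := AddChar.sum_eq_zero_of_ne_one hne
  simpa [trHom_apply] using this

theorem sum_vec_psi_zero (ψ : AddChar F ℂ) (hψ : ψ ≠ 1) (x : Fin n → F) (hx : x ≠ 0) :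
    ∑ t : Fin n → F, ψ (x ⬝ᵥ t) = 0 := by
  classical
  have hne : ψ.compAddMonoidHom (dotHom x) ≠ 1 := by
    obtain ⟨c0, hc0⟩ := (AddChar.ne_one_iff).1 hψ
    obtain ⟨i, hi⟩ : ∃ i, x i ≠ 0 := by
      by_contra hcon
      push Not at hcon
      exact hx (funext hcon)
    refine (AddChar.ne_one_iff).2 ⟨Pi.single i (c0 / x i), ?_⟩
    have : x ⬝ᵥ Pi.single i (c0 / x i) = c0 := by
      rw [dotProduct_single]
      field_simp
    simpa [dotHom_apply, this] using hc0
  have := AddChar.sum_eq_zero_of_ne_one hne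
  simpa [dotHom_apply] using this

theorem exists_psi_ne_one (F : Type*) [Field F] [Fintype F] : ∃ ψ : AddChar F ℂ, ψ ≠ 1 := by
  obtain ⟨ψ, hψ⟩ := (AddChar.exists_apply_ne_zero (α := F) (a := 1)).2 one_ne_zero
  exact ⟨ψ, (AddChar.ne_one_iff).2 ⟨1, hψ⟩⟩

theorem psi_ne_zero (ψ : AddChar F ℂ) (x : F) : ψ x ≠ 0 := by
  intro h
  have : ψ (x + -x) = 1 := by rw [add_neg_cancel, AddChar.map_zero_eq_one]
  rw [AddChar.map_add_eq_mul, h, zero_mul] at this
  exact zero_ne_one this

end char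

section gl
variable {F : Type*} [Field F] {n : ℕ}

theorem exists_gl_mulVec (x : Fin n → F) (hx : x ≠ 0) (i0 : Fin n) :
    ∃ g : GL (Fin n) F, (g : Matrix (Fin n) (Fin n) F) *ᵥ Pi.single i0 1 = x := by
  classical
  have hφ : ∃ φ : Fin n → F, φ ⬝ᵥ Pi.single i0 1 = 1 ∧ φ ⬝ᵥ x ≠ 0 := by
    by_cases h : x i0 = 0
    · obtain ⟨i, hi⟩ : ∃ i, x i ≠ 0 := by
        by_contra hcon
        push Not at hcon
        exact hx (funext hcon)
      have hii0 : i ≠ i0 := fun e => hi (e ▸ h)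
      refine ⟨Pi.single i0 1 + Pi.single i (x i)⁻¹, ?_, ?_⟩
      · rw [dotProduct_single_one]
        simp [Ne.symm hii0]
      · rw [add_dotProduct, single_dotProduct, single_dotProduct, h]
        simp [hi]
    · exact ⟨Pi.single i0 1, by simp, by simpa using h⟩
  obtain ⟨φ, hφ1, hφx⟩ := hφ
  set M : Matrix (Fin n) (Fin n) F := 1 + vecMulVec (x - Pi.single i0 1) φ with hM
  have hdet : M.det ≠ 0 := by
    rw [hM, vecMulVec_eq Unit, det_one_add_replicateCol_mul_replicateRow, dotProduct_sub, hφ1]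
    simpa using hφx
  refine ⟨Matrix.GeneralLinearGroup.mkOfDetNeZero M hdet, ?_⟩
  show M *ᵥ Pi.single i0 1 = x
  rw [hM, add_mulVec, one_mulVec, vecMulVec_mulVec, hφ1]
  simp

theorem exists_gl_move (x y : Fin n → F) (hx : x ≠ 0) (hy : y ≠ 0) :
    ∃ g : GL (Fin n) F, (g : Matrix (Fin n) (Fin n) F) *ᵥ x = y := by
  have hn : 0 < n := by
    rcases Nat.eq_zero_or_pos n with h | h
    · subst h
      exact absurd (Subsingleton.elim x 0) hx
    · exact h
  obtain ⟨g1, hg1⟩ := exists_gl_mulVec x hx ⟨0, hn⟩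
  obtain ⟨g2, hg2⟩ := exists_gl_mulVec y hy ⟨0, hn⟩
  refine ⟨g2 * g1⁻¹, ?_⟩
  have hinv : ((g1⁻¹ : GL (Fin n) F) : Matrix (Fin n) (Fin n) F) *ᵥ
      ((g1 : Matrix (Fin n) (Fin n) F) *ᵥ Pi.single ⟨0, hn⟩ 1) = Pi.single ⟨0, hn⟩ 1 := by
    rw [mulVec_mulVec, ← Units.val_mul, inv_mul_cancel, Units.val_one, one_mulVec]
  rw [← hg1, Units.val_mul, ← mulVec_mulVec, hinv, hg2]

/-- polarisation: a non-zero symmetric matrix in odd characteristic has a non-isotropic vector -/
theorem exists_quad_ne_zero (h2 : (2 : F) ≠ 0) (T : Matrix (Fin n) (Fin n) F) (hT : Tᵀ = T)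
    (hT0 : T ≠ 0) : ∃ w : Fin n → F, w ⬝ᵥ (T *ᵥ w) ≠ 0 := by
  classical
  obtain ⟨i, j, hij⟩ : ∃ i j, T i j ≠ 0 := by
    by_contra hcon
    push Not at hcon
    apply hT0
    ext i j
    exact hcon i j
  have hsym : T j i = T i j := by
    have := congrFun (congrFun hT i) j
    simpa using this
  have hs : ∀ a b : Fin n, (Pi.single a (1 : F)) ⬝ᵥ (T *ᵥ Pi.single b 1) = T a b := by
    intro a b
    rw [single_one_dotProduct, mulVec_single_one]
    rfl
  by_cases hii : T i i = 0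
  · by_cases hjj : T j j = 0
    · refine ⟨Pi.single i 1 + Pi.single j 1, ?_⟩
      rw [mulVec_add, dotProduct_add, add_dotProduct, add_dotProduct, hs, hs, hs, hs, hii, hjj,
        hsym]
      intro h
      apply hij
      have h' : 2 * T i j = 0 := by linear_combination h
      rcases mul_eq_zero.1 h' with h'' | h''
      · exact absurd h'' h2
      · exact h''
    · exact ⟨Pi.single j 1, by rw [hs]; exact hjj⟩
  · exact ⟨Pi.single i 1, by rw [hs]; exact hii⟩

end gl

end Cfsg.Agent.Lib.Helper6.Wl
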