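import Mathlib
import Cfsg.Agent.Lib.Helper6.WlA

set_option autoImplicit false

/-!
The congruence orbit of a non-zero symmetric matrix over a finite field of odd characteristic
has at least `(q^n - 1)/2` elements.
-/

namespace Cfsg.Agent.Lib.Helper6.Wl

open Matrix

section qf
variable {F : Type*} [Field F] {n : ℕ}

/-- the quadratic form value `x ⬝ X x` -/
def qf (X : Matrix (Fin n) (Fin n) F) (x : Fin n → F) : F := x ⬝ᵥ (X *ᵥ x)

theorem conj_mulVec (B X : Matrix (Fin n) (Fin n) F) (x : Fin n → F) :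
    (Bᵀ * X * B) *ᵥ x = Bᵀ *ᵥ (X *ᵥ (B *ᵥ x)) := by
  rw [mulVec_mulVec, mulVec_mulVec]

theorem qf_conj (B X : Matrix (Fin n) (Fin n) F) (x : Fin n → F) :
    qf (Bᵀ * X * B) x = qf X (B *ᵥ x) := by
  unfold qf
  rw [conj_mulVec, dotProduct_mulVec, vecMul_transpose]

theorem sym_dot (X : Matrix (Fin n) (Fin n) F) (hX : Xᵀ = X) (y e : Fin n → F) :
    y ⬝ᵥ (X *ᵥ e) = e ⬝ᵥ (X *ᵥ y) := by
  rw [dotProduct_mulVec, ← mulVec_transpose, hX, dotProduct_comm]

theorem qf_add_smul (X : Matrix (Fin n) (Fin n) F) (hX : Xᵀ = X) (y e : Fin n → F) (d : F) :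
    qf X (y + d • e) = qf X y + 2 * d * (e ⬝ᵥ (X *ᵥ y)) + d * d * qf X e := by
  unfold qf
  simp only [mulVec_add, mulVec_smul, dotProduct_add, add_dotProduct, dotProduct_smul,
    smul_dotProduct, smul_eq_mul, sym_dot X hX y e]
  ring

theorem qf_single (X : Matrix (Fin n) (Fin n) F) (i : Fin n) :
    qf X (Pi.single i 1) = X i i := by
  unfold qf
  rw [single_one_dotProduct, mulVec_single_one]
  rfl

theorem gl_inv_mulVec (B : GL (Fin n) F) (x : Fin n → F) :
    ((B⁻¹ : GL (Fin n) F) : Matrix (Fin n) (Fin n) F) *ᵥ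
      ((B : Matrix (Fin n) (Fin n) F) *ᵥ x) = x := by
  rw [mulVec_mulVec, ← Units.val_mul, inv_mul_cancel, Units.val_one, one_mulVec]

theorem gl_mulVec_inv (B : GL (Fin n) F) (x : Fin n → F) :
    (B : Matrix (Fin n) (Fin n) F) *ᵥ
      (((B⁻¹ : GL (Fin n) F) : Matrix (Fin n) (Fin n) F) *ᵥ x) = x := by
  rw [mulVec_mulVec, ← Units.val_mul, mul_inv_cancel, Units.val_one, one_mulVec]

end qf

section count
variable {F : Type*} [Field F] [Fintype F] [DecidableEq F]

/-- the congruence orbit of `T` -/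
noncomputable def congOrbit {n : ℕ} (T : Matrix (Fin n) (Fin n) F) :
    Finset (Matrix (Fin n) (Fin n) F) :=
  Finset.univ.image (fun B : GL (Fin n) F =>
    (B : Matrix (Fin n) (Fin n) F)ᵀ * T * (B : Matrix (Fin n) (Fin n) F))

variable {m : ℕ}

theorem card_quad_le (T : Matrix (Fin (m + 1)) (Fin (m + 1)) F) (hT : Tᵀ = T) (hc : T 0 0 ≠ 0)
    (c : F) :
    (Finset.univ.filter (fun y : Fin (m + 1) → F => qf T y = c)).card
      ≤ 2 * Fintype.card F ^ m := by
  set e : Fin (m + 1) → F := Pi.single 0 1 with he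
  have hqe : qf T e = T 0 0 := qf_single T 0
  set s := Finset.univ.filter (fun y : Fin (m + 1) → F => qf T y = c) with hs
  have h1 := Finset.card_le_mul_card_image (f := fun y : Fin (m + 1) → F => Fin.tail y) s 2 ?_
  · calc s.card ≤ 2 * (s.image fun y => Fin.tail y).card := h1
      _ ≤ 2 * Fintype.card (Fin m → F) := Nat.mul_le_mul_left _ (Finset.card_le_univ _)
      _ = 2 * Fintype.card F ^ m := by rw [Fintype.card_fun, Fintype.card_fin]
  · intro z hz
    obtain ⟨y, hy, hyz⟩ := Finset.mem_image.1 hz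
    have hyc : qf T y = c := (Finset.mem_filter.1 hy).2
    set dstar : F := -(2 * (e ⬝ᵥ (T *ᵥ y))) / T 0 0 with hd
    have hsub : (s.filter fun a => Fin.tail a = z) ⊆ {y, y + dstar • e} := by
      intro a ha
      obtain ⟨has, haz⟩ := Finset.mem_filter.1 ha
      have hac : qf T a = c := (Finset.mem_filter.1 has).2
      have hay : a = y + (a 0 - y 0) • e := by
        ext j
        refine Fin.cases ?_ (fun k => ?_) j
        · simp only [Pi.add_apply, Pi.smul_apply, he, Pi.single_eq_same, smul_eq_mul]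
          ring
        · have h1 : a k.succ = y k.succ := by
            have := congrFun (haz.trans hyz.symm) k
            simpa [Fin.tail] using this
          simp [he, h1]
      have hq := qf_add_smul T hT y e (a 0 - y 0)
      rw [← hay, hac, hyc, hqe] at hq
      have hd0 : (a 0 - y 0) * (2 * (e ⬝ᵥ (T *ᵥ y)) + (a 0 - y 0) * T 0 0) = 0 := by
        linear_combination (-1 : F) * hq
      rcases mul_eq_zero.1 hd0 with h0 | h0
      · rw [Finset.mem_insert]
        left
        calc a = y + (a 0 - y 0) • e := hay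
          _ = y := by rw [h0, zero_smul, add_zero]
      · rw [Finset.mem_insert, Finset.mem_singleton]
        right
        have hdd : a 0 - y 0 = dstar := by
          rw [hd, eq_div_iff hc]
          linear_combination h0
        calc a = y + (a 0 - y 0) • e := hay
          _ = y + dstar • e := by rw [hdd]
    calc _ ≤ ({y, y + dstar • e} : Finset (Fin (m + 1) → F)).card := Finset.card_le_card hsub
      _ ≤ 2 := Finset.card_le_two

theorem card_quad_orbit_le (T : Matrix (Fin (m + 1)) (Fin (m + 1)) F) (hT : Tᵀ = T)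
    (hc : T 0 0 ≠ 0) (c : F) (X : Matrix (Fin (m + 1)) (Fin (m + 1)) F) (hX : X ∈ congOrbit T) :
    (Finset.univ.filter (fun x : Fin (m + 1) → F => qf X x = c)).card
      ≤ 2 * Fintype.card F ^ m := by
  obtain ⟨B, -, rfl⟩ := Finset.mem_image.1 hX
  refine le_trans (Finset.card_le_card_of_injOn
    (fun x => (B : Matrix (Fin (m + 1)) (Fin (m + 1)) F) *ᵥ x) ?_ ?_) (card_quad_le T hT hc c)
  · intro x hx
    simp only [Finset.coe_filter, Finset.mem_univ, true_and, Set.mem_ofPred_eq] at hx ⊢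
    rw [← qf_conj]
    exact hx
  · intro x _ x' _ hxx
    have hxx' : (B : Matrix (Fin (m + 1)) (Fin (m + 1)) F) *ᵥ x =
        (B : Matrix (Fin (m + 1)) (Fin (m + 1)) F) *ᵥ x' := hxx
    calc x = ((B⁻¹ : GL (Fin (m + 1)) F) : Matrix (Fin (m + 1)) (Fin (m + 1)) F) *ᵥ
          ((B : Matrix (Fin (m + 1)) (Fin (m + 1)) F) *ᵥ x) := (gl_inv_mulVec B x).symm
      _ = ((B⁻¹ : GL (Fin (m + 1)) F) : Matrix (Fin (m + 1)) (Fin (m + 1)) F) *ᵥ
          ((B : Matrix (Fin (m + 1)) (Fin (m + 1)) F) *ᵥ x') := by rw [hxx']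
      _ = x' := gl_inv_mulVec B x'

/-- the matrix `1 + e uᵀ` with `u 0 = 0` -/
def shearMat (u : Fin m → F) : Matrix (Fin (m + 1)) (Fin (m + 1)) F :=
  1 + vecMulVec (Pi.single 0 1) (Fin.cons 0 u : Fin (m + 1) → F)

theorem shearMat_det (u : Fin m → F) : (shearMat u).det = 1 := by
  unfold shearMat
  rw [vecMulVec_eq Unit, det_one_add_replicateCol_mul_replicateRow, dotProduct_single_one,
    Fin.cons_zero, add_zero]

theorem shearMat_mulVec_e (u : Fin m → F) :
    shearMat u *ᵥ Pi.single 0 1 = Pi.single 0 1 := by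
  unfold shearMat
  rw [add_mulVec, one_mulVec, vecMulVec_mulVec, dotProduct_single_one, Fin.cons_zero]
  simp

theorem shearMat_transpose_mulVec (u : Fin m → F) (y : Fin (m + 1) → F) :
    (shearMat u)ᵀ *ᵥ y = y + (y 0) • (Fin.cons 0 u : Fin (m + 1) → F) := by
  unfold shearMat
  rw [transpose_add, transpose_one, transpose_vecMulVec, add_mulVec, one_mulVec,
    vecMulVec_mulVec, single_one_dotProduct]
  simp

theorem card_orbit_ge (T : Matrix (Fin (m + 1)) (Fin (m + 1)) F)
    (hc : T 0 0 ≠ 0) (x : Fin (m + 1) → F) (hx : x ≠ 0) :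
    Fintype.card F ^ m ≤ ((congOrbit T).filter (fun X => qf X x = T 0 0)).card := by
  obtain ⟨g, hg⟩ := exists_gl_mulVec x hx 0
  set e : Fin (m + 1) → F := Pi.single 0 1 with he
  have hqe : qf T e = T 0 0 := qf_single T 0
  have hTe0 : (T *ᵥ e) 0 = T 0 0 := by
    rw [he, mulVec_single_one]
    rfl
  have hginv : ((g⁻¹ : GL (Fin (m + 1)) F) : Matrix (Fin (m + 1)) (Fin (m + 1)) F) *ᵥ x = e := by
    rw [← hg]
    exact gl_inv_mulVec g e
  let Bu : (Fin m → F) → GL (Fin (m + 1)) F := fun u =>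
    Matrix.GeneralLinearGroup.mkOfDetNeZero (shearMat u)
      (by rw [shearMat_det]; exact one_ne_zero) * g⁻¹
  have hBu : ∀ u, ((Bu u : GL (Fin (m + 1)) F) : Matrix (Fin (m + 1)) (Fin (m + 1)) F) =
      shearMat u * ((g⁻¹ : GL (Fin (m + 1)) F) : Matrix (Fin (m + 1)) (Fin (m + 1)) F) :=
    fun u => rfl
  have hBx : ∀ u, ((Bu u : GL (Fin (m + 1)) F) : Matrix (Fin (m + 1)) (Fin (m + 1)) F) *ᵥ x
      = e := by
    intro u
    rw [hBu, ← mulVec_mulVec, hginv, he, shearMat_mulVec_e]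
  let Φ : (Fin m → F) → Matrix (Fin (m + 1)) (Fin (m + 1)) F := fun u =>
    ((Bu u : GL (Fin (m + 1)) F) : Matrix (Fin (m + 1)) (Fin (m + 1)) F)ᵀ * T *
      ((Bu u : GL (Fin (m + 1)) F) : Matrix (Fin (m + 1)) (Fin (m + 1)) F)
  have hΦx : ∀ u, Φ u *ᵥ x =
      (((g⁻¹ : GL (Fin (m + 1)) F) : Matrix (Fin (m + 1)) (Fin (m + 1)) F))ᵀ *ᵥ
        (T *ᵥ e + (T 0 0) • (Fin.cons 0 u : Fin (m + 1) → F)) := by
    intro u
    show (((Bu u : GL (Fin (m + 1)) F) : Matrix (Fin (m + 1)) (Fin (m + 1)) F)ᵀ * T *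
      ((Bu u : GL (Fin (m + 1)) F) : Matrix (Fin (m + 1)) (Fin (m + 1)) F)) *ᵥ x = _
    rw [conj_mulVec, hBx, hBu, transpose_mul, ← mulVec_mulVec, shearMat_transpose_mulVec, hTe0]
  have hcancel : ∀ z : Fin (m + 1) → F, ((g : Matrix (Fin (m + 1)) (Fin (m + 1)) F))ᵀ *ᵥ
      ((((g⁻¹ : GL (Fin (m + 1)) F) : Matrix (Fin (m + 1)) (Fin (m + 1)) F))ᵀ *ᵥ z) = z := by
    intro z
    rw [mulVec_mulVec, ← transpose_mul, ← Units.val_mul, inv_mul_cancel, Units.val_one,
      transpose_one, one_mulVec]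
  calc Fintype.card F ^ m = (Finset.univ : Finset (Fin m → F)).card := by
        rw [Finset.card_univ, Fintype.card_fun, Fintype.card_fin]
    _ ≤ _ := Finset.card_le_card_of_injOn Φ ?_ ?_
  · intro u _
    simp only [Finset.coe_filter, Set.mem_ofPred_eq]
    refine ⟨Finset.mem_image.2 ⟨Bu u, Finset.mem_univ _, rfl⟩, ?_⟩
    show qf (((Bu u : GL (Fin (m + 1)) F) : Matrix (Fin (m + 1)) (Fin (m + 1)) F)ᵀ * T *
      ((Bu u : GL (Fin (m + 1)) F) : Matrix (Fin (m + 1)) (Fin (m + 1)) F)) x = T 0 0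
    rw [qf_conj, hBx]
    exact hqe
  · intro u _ u' _ huu
    have h1 : Φ u *ᵥ x = Φ u' *ᵥ x := by rw [show Φ u = Φ u' from huu]
    rw [hΦx, hΦx] at h1
    have h2 := congrArg (fun v => ((g : Matrix (Fin (m + 1)) (Fin (m + 1)) F))ᵀ *ᵥ v) h1
    simp only [hcancel] at h2
    have h3 : (T 0 0) • (Fin.cons 0 u : Fin (m + 1) → F) = (T 0 0) • Fin.cons 0 u' :=
      add_left_cancel h2
    have h4 : (Fin.cons 0 u : Fin (m + 1) → F) = Fin.cons 0 u' := by
      have := congrArg (fun v => (T 0 0)⁻¹ • v) h3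
      simpa [smul_smul, inv_mul_cancel₀ hc] using this
    have := congrArg Fin.tail h4
    simpa using this

theorem orbit_bound_aux (T : Matrix (Fin (m + 1)) (Fin (m + 1)) F) (hT : Tᵀ = T)
    (hc : T 0 0 ≠ 0) :
    Fintype.card F ^ (m + 1) - 1 ≤ 2 * (congOrbit T).card := by
  have hqpos : 0 < Fintype.card F ^ m := pow_pos Fintype.card_pos m
  have hswap := Finset.sum_card_bipartiteAbove_eq_sum_card_bipartiteBelow
    (fun (X : Matrix (Fin (m + 1)) (Fin (m + 1)) F) (x : Fin (m + 1) → F) => qf X x = T 0 0)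
    (s := congOrbit T) (t := Finset.univ)
  have hup : ∑ X ∈ congOrbit T, (Finset.bipartiteAbove
      (fun (X : Matrix (Fin (m + 1)) (Fin (m + 1)) F) (x : Fin (m + 1) → F) => qf X x = T 0 0)
      Finset.univ X).card ≤ (congOrbit T).card * (2 * Fintype.card F ^ m) := by
    rw [← smul_eq_mul]
    apply Finset.sum_le_card_nsmul
    intro X hX
    exact card_quad_orbit_le T hT hc (T 0 0) X hX
  have hlow : (Fintype.card F ^ (m + 1) - 1) * Fintype.card F ^ m ≤
      ∑ x ∈ (Finset.univ : Finset (Fin (m + 1) → F)), (Finset.bipartiteBelow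
      (fun (X : Matrix (Fin (m + 1)) (Fin (m + 1)) F) (x : Fin (m + 1) → F) => qf X x = T 0 0)
      (congOrbit T) x).card := by
    calc (Fintype.card F ^ (m + 1) - 1) * Fintype.card F ^ m
        = ((Finset.univ : Finset (Fin (m + 1) → F)).erase 0).card • Fintype.card F ^ m := by
          rw [Finset.card_erase_of_mem (Finset.mem_univ _), Finset.card_univ, Fintype.card_fun,
            Fintype.card_fin, smul_eq_mul]
      _ ≤ ∑ x ∈ ((Finset.univ : Finset (Fin (m + 1) → F)).erase 0), (Finset.bipartiteBelow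
          (fun (X : Matrix (Fin (m + 1)) (Fin (m + 1)) F) (x : Fin (m + 1) → F) =>
            qf X x = T 0 0) (congOrbit T) x).card :=
          Finset.card_nsmul_le_sum _ _ _
            (fun x hx => card_orbit_ge T hc x (Finset.ne_of_mem_erase hx))
      _ ≤ _ := Finset.sum_le_sum_of_subset (Finset.erase_subset _ _)
  have hfin : (Fintype.card F ^ (m + 1) - 1) * Fintype.card F ^ m ≤
      (2 * (congOrbit T).card) * Fintype.card F ^ m := by
    calc _ ≤ _ := hlow
      _ = _ := hswap.symm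
      _ ≤ _ := hup
      _ = _ := by ring
  exact Nat.le_of_mul_le_mul_right hfin hqpos

theorem orbit_bound {n : ℕ} (h2 : (2 : F) ≠ 0) (T : Matrix (Fin n) (Fin n) F) (hT : Tᵀ = T)
    (hT0 : T ≠ 0) :
    Fintype.card F ^ n - 1 ≤ 2 * (congOrbit T).card := by
  obtain ⟨w, hw⟩ := exists_quad_ne_zero h2 T hT hT0
  have hw0 : w ≠ 0 := by
    rintro rfl
    apply hw
    simp
  rcases n with _ | m
  · exact absurd (Subsingleton.elim w 0) hw0
  obtain ⟨g, hg⟩ := exists_gl_mulVec w hw0 0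
  set T' : Matrix (Fin (m + 1)) (Fin (m + 1)) F :=
    (g : Matrix (Fin (m + 1)) (Fin (m + 1)) F)ᵀ * T * (g : Matrix (Fin (m + 1)) (Fin (m + 1)) F)
    with hT'
  have hT's : T'ᵀ = T' := by
    rw [hT', transpose_mul, transpose_mul, transpose_transpose, hT, Matrix.mul_assoc]
  have hc : T' 0 0 ≠ 0 := by
    rw [← qf_single T' 0, hT', qf_conj, hg]
    exact hw
  have hsub : congOrbit T' ⊆ congOrbit T := by
    intro X hX
    obtain ⟨B, -, rfl⟩ := Finset.mem_image.1 hX
    refine Finset.mem_image.2 ⟨g * B, Finset.mem_univ _, ?_⟩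
    rw [Units.val_mul, transpose_mul, hT']
    simp only [Matrix.mul_assoc]
  calc _ ≤ 2 * (congOrbit T').card := orbit_bound_aux T' hT's hc
    _ ≤ _ := Nat.mul_le_mul_left _ (Finset.card_le_card hsub)

end count

end Cfsg.Agent.Lib.Helper6.Wl
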