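import Mathlib

set_option autoImplicit false
set_option linter.unusedSectionVars false
set_option linter.unusedVariables false
set_option linter.unusedSimpArgs false

/-! `GL_α(F) → SL_{α ⊕ 1}(F)` and reindexing of special linear groups. -/

namespace Cfsg.Agent.Lib.Helper6.BW

open Matrix

section emb

variable (α : Type*) [Fintype α] [DecidableEq α] (F : Type*) [Field F]

/-- the matrix `diag(g, (det g)⁻¹)` -/
noncomputable def embMat (g : GL α F) : Matrix (α ⊕ Unit) (α ⊕ Unit) F :=
  fromBlocks g.1 0 0 (diagonal fun _ => ((Matrix.GeneralLinearGroup.det g)⁻¹ : Fˣ).1)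

theorem det_embMat (g : GL α F) : (embMat α F g).det = 1 := by
  unfold embMat
  rw [det_fromBlocks_zero₂₁, det_diagonal, Finset.prod_const, Finset.card_univ,
    Fintype.card_unit, pow_one,
    ← Matrix.GeneralLinearGroup.val_det_apply, ← Units.val_mul, mul_inv_cancel, Units.val_one]

theorem embMat_mul (g h : GL α F) : embMat α F (g * h) = embMat α F g * embMat α F h := by
  unfold embMat
  rw [fromBlocks_multiply]
  simp only [Matrix.mul_zero, Matrix.zero_mul, add_zero, zero_add, diagonal_mul_diagonal,
    map_mul, _root_.mul_inv_rev, Units.val_mul]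
  congr 1
  ext i j
  rw [diagonal_apply, diagonal_apply]
  split_ifs <;> ring

theorem embMat_one : embMat α F 1 = 1 := by
  unfold embMat
  rw [map_one, inv_one, ← fromBlocks_one]
  congr 1

/-- the embedding `GL_α(F) → SL_{α ⊕ 1}(F)` -/
noncomputable def slEmb : GL α F →* SpecialLinearGroup (α ⊕ Unit) F where
  toFun g := ⟨embMat α F g, det_embMat α F g⟩
  map_one' := Subtype.ext (embMat_one α F)
  map_mul' g h := Subtype.ext (embMat_mul α F g h)

theorem slEmb_injective : Function.Injective (slEmb α F) := by
  intro g h hgh
  have h1 : embMat α F g = embMat α F h := congrArg Subtype.val hgh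
  unfold embMat at h1
  rw [fromBlocks_inj] at h1
  exact Units.ext h1.1

end emb

section reindex

variable {α β : Type*} [Fintype α] [DecidableEq α] [Fintype β] [DecidableEq β]
variable (F : Type*) [Field F]

/-- reindexing of special linear groups -/
def slReindex (e : α ≃ β) : SpecialLinearGroup α F ≃* SpecialLinearGroup β F where
  toFun A := ⟨Matrix.reindexAlgEquiv F F e A.1, by
    rw [Matrix.coe_reindexAlgEquiv, Matrix.det_reindex_self]
    exact A.2⟩
  invFun A := ⟨Matrix.reindexAlgEquiv F F e.symm A.1, by
    rw [Matrix.coe_reindexAlgEquiv, Matrix.det_reindex_self]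
    exact A.2⟩
  left_inv A := by
    apply Subtype.ext
    show Matrix.reindexAlgEquiv F F e.symm (Matrix.reindexAlgEquiv F F e A.1) = A.1
    simp
  right_inv A := by
    apply Subtype.ext
    show Matrix.reindexAlgEquiv F F e (Matrix.reindexAlgEquiv F F e.symm A.1) = A.1
    simp
  map_mul' A B := by
    apply Subtype.ext
    show Matrix.reindexAlgEquiv F F e (A.1 * B.1) = _
    rw [map_mul]
    rfl

end reindex

end Cfsg.Agent.Lib.Helper6.BW
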