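import Cfsg.Agent.Lib.Helper6.E6MBlockPerf
import Cfsg.Agent.Lib.Helper6.BW2

/-! E6M farm (S2340), unit BLOCKPERF on `Fin 6`: the subgroup of `SL (Fin 6) F` of the matrices
`[[A, B], [0, D]]` (blocks of size 3, rows and columns 0,1,2 first) with `det A = 1` is generated by
its coordinate transvections and is perfect. -/

set_option autoImplicit false

namespace Cfsg.Agent.Lib.Helper6.E6MBlockPerf

open Matrix Matrix.SpecialLinearGroup
open scoped commutatorElement

/-- generic: if `H` is generated by a set `T` each of whose members is a commutator of two members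
of `T`, then every hom from `H` to a commutative group is trivial. -/
theorem hom_trivial_of_closure {G A : Type*} [Group G] [CommGroup A] (H : Subgroup G) (T : Set G)
    (hH : H = Subgroup.closure T) (hT : ∀ t ∈ T, ∃ a ∈ T, ∃ b ∈ T, t = ⁅a, b⁆)
    (f : ↥H →* A) (g : ↥H) : f g = 1 := by
  have hsub : T ⊆ (H : Set G) := by rw [hH]; exact Subgroup.subset_closure
  have key : ∀ x ∈ Subgroup.closure T, ∀ hx : x ∈ H, f ⟨x, hx⟩ = 1 := by
    intro x hx
    induction hx using Subgroup.closure_induction with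
    | mem t ht =>
      intro hx
      obtain ⟨a, haT, b, hbT, hab⟩ := hT t ht
      have : (⟨t, hx⟩ : ↥H) = ⁅(⟨a, hsub haT⟩ : ↥H), (⟨b, hsub hbT⟩ : ↥H)⁆ := by
        apply Subtype.ext
        exact hab
      rw [this, map_commutatorElement]
      exact commutatorElement_eq_one_iff_commute.mpr (Commute.all _ _)
    | one =>
      intro hx
      exact map_one f
    | mul x y _ _ hx hy =>
      intro hxy
      have hx' : x ∈ H := by rw [hH]; assumption
      have hy' : y ∈ H := by rw [hH]; assumption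
      have : (⟨x * y, hxy⟩ : ↥H) = ⟨x, hx'⟩ * ⟨y, hy'⟩ := rfl
      rw [this, map_mul, hx hx', hy hy', one_mul]
    | inv x _ hx =>
      intro hxi
      have hx' : x ∈ H := by rw [hH]; assumption
      have : (⟨x⁻¹, hxi⟩ : ↥H) = (⟨x, hx'⟩)⁻¹ := rfl
      rw [this, map_inv, hx hx', inv_one]
  exact key g.1 (hH ▸ g.2) g.2

variable {F : Type*} [Field F]

/-- the index equivalence `Fin 3 ⊕ Fin 3 ≃ Fin 6` (first block = 0,1,2). -/
def e6 : Fin 3 ⊕ Fin 3 ≃ Fin 6 := finSumFinEquiv

theorem e6_inl (a : Fin 3) : e6 (Sum.inl a) = Fin.castAdd 3 a := rfl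
theorem e6_inr (a : Fin 3) : e6 (Sum.inr a) = Fin.natAdd 3 a := rfl

theorem e6_inl_val (a : Fin 3) : (e6 (Sum.inl a)).val = a.val := rfl
theorem e6_inr_val (a : Fin 3) : (e6 (Sum.inr a)).val = 3 + a.val := rfl

/-- the reindexing isomorphism. -/
def r6 (F : Type*) [Field F] : SpecialLinearGroup (Fin 3 ⊕ Fin 3) F ≃* SpecialLinearGroup (Fin 6) F :=
  Cfsg.Agent.Lib.Helper6.BW.slReindex F e6

theorem r6_apply (g : SpecialLinearGroup (Fin 3 ⊕ Fin 3) F) (i j : Fin 3 ⊕ Fin 3) :
    (r6 F g).1 (e6 i) (e6 j) = g.1 i j := by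
  show (Matrix.reindexAlgEquiv F F e6 g.1) (e6 i) (e6 j) = g.1 i j
  simp [Matrix.reindexAlgEquiv_apply, Matrix.reindex_apply]

theorem r6_symm_apply (g : SpecialLinearGroup (Fin 6) F) (i j : Fin 3 ⊕ Fin 3) :
    ((r6 F).symm g).1 i j = g.1 (e6 i) (e6 j) := by
  show (Matrix.reindexAlgEquiv F F e6.symm g.1) i j = g.1 (e6 i) (e6 j)
  simp [Matrix.reindexAlgEquiv_apply, Matrix.reindex_apply]

theorem r6_transvection {i j : Fin 3 ⊕ Fin 3} (h : i ≠ j) (c : F) :
    r6 F (transvection h c) =
      transvection (show e6 i ≠ e6 j from fun e => h (e6.injective e)) c := by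
  apply (r6 F).symm.injective
  rw [MulEquiv.symm_apply_apply]
  apply Subtype.ext
  ext a b
  rw [r6_symm_apply]
  simp only [transvection_coe, Matrix.add_apply, Matrix.one_apply, single_apply,
    e6.injective.eq_iff]

/-- the block subgroup of `SL (Fin 6) F`. -/
def block6 (F : Type*) [Field F] : Subgroup (SpecialLinearGroup (Fin 6) F) :=
  (blockSub F (Fin 3) (Fin 3)).map (r6 F).toMonoidHom

/-- allowed pairs in `Fin 6`. -/
def Allowed6 (i j : Fin 6) : Prop := ¬ (3 ≤ i.val ∧ j.val < 3)

/-- allowed coordinate transvections of `SL (Fin 6) F`. -/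
def allowedT6 (F : Type*) [Field F] : Set (SpecialLinearGroup (Fin 6) F) :=
  {t | ∃ (i j : Fin 6) (h : i ≠ j) (c : F), Allowed6 i j ∧ t = transvection h c}

theorem allowed6_iff (i j : Fin 3 ⊕ Fin 3) : Allowed6 (e6 i) (e6 j) ↔ Allowed i j := by
  rcases i with i | i <;> rcases j with j | j <;>
    simp [Allowed6, Allowed, e6_inl_val, e6_inr_val] <;> omega

theorem image_allowedT : (r6 F) '' (allowedT F (Fin 3) (Fin 3)) = allowedT6 F := by
  ext t
  constructor
  · rintro ⟨s, ⟨i, j, h, c, ha, rfl⟩, rfl⟩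
    exact ⟨e6 i, e6 j, _, c, (allowed6_iff i j).mpr ha, r6_transvection h c⟩
  · rintro ⟨i, j, h, c, ha, rfl⟩
    obtain ⟨i', rfl⟩ := e6.surjective i
    obtain ⟨j', rfl⟩ := e6.surjective j
    have h' : i' ≠ j' := fun e => h (by rw [e])
    exact ⟨transvection h' c, ⟨i', j', h', c, (allowed6_iff i' j').mp ha, rfl⟩,
      r6_transvection h' c⟩

/-- explicit membership in `block6`. -/
theorem mem_block6 (g : SpecialLinearGroup (Fin 6) F) :
    g ∈ block6 F ↔ (∀ i j : Fin 6, 3 ≤ i.val → j.val < 3 → g.1 i j = 0) ∧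
      (g.1.submatrix (Fin.castAdd 3 : Fin 3 → Fin 6) (Fin.castAdd 3)).det = 1 := by
  have h1 : g ∈ block6 F ↔ (r6 F).symm g ∈ blockSub F (Fin 3) (Fin 3) := by
    constructor
    · rintro ⟨x, hx, rfl⟩
      show (r6 F).symm ((r6 F) x) ∈ _
      rw [MulEquiv.symm_apply_apply]
      exact hx
    · intro h
      exact ⟨_, h, MulEquiv.apply_symm_apply (r6 F) g⟩
  rw [h1, mem_blockSub]
  have h11 : ((r6 F).symm g).1.toBlocks₁₁ =
      g.1.submatrix (Fin.castAdd 3 : Fin 3 → Fin 6) (Fin.castAdd 3) := by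
    ext a b
    simp only [toBlocks₁₁, of_apply, submatrix_apply]
    rw [r6_symm_apply]
    rfl
  rw [h11]
  refine and_congr_left (fun _ => ?_)
  constructor
  · intro h i j hi hj
    obtain ⟨i', rfl⟩ := e6.surjective i
    obtain ⟨j', rfl⟩ := e6.surjective j
    rcases i' with i' | i'
    · rw [e6_inl_val] at hi; omega
    rcases j' with j' | j'
    · have := congrFun (congrFun h i') j'
      simp only [toBlocks₂₁, of_apply, Matrix.zero_apply] at this
      rw [r6_symm_apply] at this
      exact this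
    · rw [e6_inr_val] at hj; omega
  · intro h
    ext a b
    simp only [toBlocks₂₁, of_apply, Matrix.zero_apply]
    rw [r6_symm_apply]
    apply h
    · rw [e6_inr_val]; omega
    · rw [e6_inl_val]; omega

/-- BLOCKPERF (1) on `Fin 6`. -/
theorem block6_eq_closure : block6 F = Subgroup.closure (allowedT6 F) := by
  unfold block6
  rw [blockSub_eq_closure (F := F) (m := Fin 3) (n := Fin 3) (by simp) (by simp),
    MonoidHom.map_closure]
  congr 1
  exact image_allowedT

/-- every allowed transvection of `SL (Fin 6) F` is a commutator of two allowed ones. -/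
theorem allowed6_is_commutator {i j : Fin 6} (h : i ≠ j) (c : F) (ha : Allowed6 i j) :
    ∃ a ∈ allowedT6 F, ∃ b ∈ allowedT6 F, transvection h c = ⁅a, b⁆ := by
  obtain ⟨i', rfl⟩ := e6.surjective i
  obtain ⟨j', rfl⟩ := e6.surjective j
  have h' : i' ≠ j' := fun e => h (by rw [e])
  obtain ⟨a, haT, b, hbT, hab⟩ := allowed_is_commutator (F := F) (m := Fin 3) (n := Fin 3)
    (by simp) (by simp) h' c ((allowed6_iff i' j').mp ha)
  refine ⟨r6 F a, ?_, r6 F b, ?_, ?_⟩
  · rw [← image_allowedT]; exact ⟨a, haT, rfl⟩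
  · rw [← image_allowedT]; exact ⟨b, hbT, rfl⟩
  · rw [← r6_transvection h' c, hab, map_commutatorElement]

/-- BLOCKPERF (2) on `Fin 6`: every hom from `block6` to a commutative group is trivial. -/
theorem hom_trivial6 {A : Type*} [CommGroup A] (f : ↥(block6 F) →* A) (g : ↥(block6 F)) :
    f g = 1 :=
  hom_trivial_of_closure (block6 F) (allowedT6 F) block6_eq_closure
    (fun t ht => by
      obtain ⟨i, j, h, c, ha, rfl⟩ := ht
      exact allowed6_is_commutator h c ha) f g

/-- `block6` is perfect. -/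
theorem commutator_block6_eq_top : commutator ↥(block6 F) = ⊤ := by
  rw [eq_top_iff]
  intro g _
  have := hom_trivial6 (Abelianization.of : ↥(block6 F) →* Abelianization ↥(block6 F)) g
  rw [← MonoidHom.mem_ker, Abelianization.ker_of] at this
  exact this

/-- allowed transvections lie in `block6`. -/
theorem transvection_mem_block6 {i j : Fin 6} (h : i ≠ j) (c : F) (ha : Allowed6 i j) :
    transvection h c ∈ block6 F := by
  rw [block6_eq_closure]
  exact Subgroup.subset_closure ⟨i, j, h, c, ha, rfl⟩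

end Cfsg.Agent.Lib.Helper6.E6MBlockPerf
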