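import Mathlib
import Cfsg.Agent.Lib.Helper4.SLCard

/-! E6M farm (S2340), unit PLKCOUNT: in the Pluecker model of `Λ³ F⁶` (20 coordinates indexed by the
3-subsets of `Fin 6`, `pl M` = the vector of the 3 x 3 minors of a 3 x 6 matrix `M`) the number of
nonzero decomposable vectors is `(q^3+1)(q^2+1)(q^5-1)`. -/

set_option autoImplicit false

namespace Cfsg.Agent.Lib.Helper6.E6MPlk

open Matrix

variable {F : Type*} [Field F]

/-- the 20 coordinates. -/
abbrev T3 := {s : Finset (Fin 6) // s.card = 3}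

/-- increasing enumeration of a 3-subset. -/
def emb (s : T3) : Fin 3 → Fin 6 := s.1.orderEmbOfFin s.2

theorem emb_injective (s : T3) : Function.Injective (emb s) :=
  (s.1.orderEmbOfFin s.2).injective

theorem emb_mem (s : T3) (a : Fin 3) : emb s a ∈ s.1 := Finset.orderEmbOfFin_mem s.1 s.2 a

/-- the minor on an arbitrary triple of columns. -/
def plAny (M : Matrix (Fin 3) (Fin 6) F) (σ : Fin 3 → Fin 6) : F := (M.submatrix id σ).det

/-- the Pluecker vector. -/
def pl (M : Matrix (Fin 3) (Fin 6) F) : T3 → F := fun s => plAny M (emb s)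

theorem plAny_of_not_injective (M : Matrix (Fin 3) (Fin 6) F) (σ : Fin 3 → Fin 6)
    (h : ¬ Function.Injective σ) : plAny M σ = 0 := by
  unfold Function.Injective at h
  push Not at h
  obtain ⟨a, b, hab, hne⟩ := h
  exact Matrix.det_zero_of_column_eq hne (fun r => by simp [submatrix_apply, hab])

theorem plAny_comp_perm (M : Matrix (Fin 3) (Fin 6) F) (τ : Fin 3 → Fin 6)
    (π : Equiv.Perm (Fin 3)) : plAny M (τ ∘ π) = Equiv.Perm.sign π * plAny M τ := by
  unfold plAny
  have : M.submatrix id (τ ∘ π) = ((M.submatrix id τ).submatrix id π) := by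
    ext r c; rfl
  rw [this, Matrix.det_permute']

theorem exists_perm (σ : Fin 3 → Fin 6) (h : Function.Injective σ) :
    ∃ (s : T3) (π : Equiv.Perm (Fin 3)), σ = emb s ∘ π := by
  classical
  let s : T3 := ⟨Finset.univ.image σ, by
    rw [Finset.card_image_of_injective _ h]; rfl⟩
  have hmem : ∀ a, σ a ∈ s.1 := fun a => Finset.mem_image_of_mem σ (Finset.mem_univ a)
  let iso := s.1.orderIsoOfFin s.2
  let f : Fin 3 → Fin 3 := fun a => iso.symm ⟨σ a, hmem a⟩
  have hf : Function.Injective f := by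
    intro a b hab
    have := iso.symm.injective hab
    exact h (Subtype.mk.inj this)
  have hfb : Function.Bijective f := Finite.injective_iff_bijective.mp hf
  refine ⟨s, Equiv.ofBijective f hfb, ?_⟩
  funext a
  show σ a = emb s (f a)
  have h1 : (iso (f a) : Fin 6) = emb s (f a) := Finset.coe_orderIsoOfFin_apply s.1 s.2 (f a)
  rw [← h1]
  show σ a = ((iso (iso.symm ⟨σ a, hmem a⟩) : s.1) : Fin 6)
  rw [OrderIso.apply_symm_apply]

theorem plAny_eq_of_pl_eq {M M' : Matrix (Fin 3) (Fin 6) F} (h : pl M = pl M')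
    (σ : Fin 3 → Fin 6) : plAny M σ = plAny M' σ := by
  by_cases hσ : Function.Injective σ
  · obtain ⟨s, π, rfl⟩ := exists_perm σ hσ
    rw [plAny_comp_perm, plAny_comp_perm]
    have := congrFun h s
    unfold pl at this
    rw [this]
  · rw [plAny_of_not_injective M σ hσ, plAny_of_not_injective M' σ hσ]

/-- some generalized minor is nonzero iff the Pluecker vector is nonzero. -/
theorem pl_ne_zero_iff (M : Matrix (Fin 3) (Fin 6) F) :
    pl M ≠ 0 ↔ ∃ σ : Fin 3 → Fin 6, plAny M σ ≠ 0 := by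
  constructor
  · intro h
    by_contra hcon
    push Not at hcon
    exact h (funext fun s => hcon (emb s))
  · rintro ⟨σ, hσ⟩ h0
    by_cases hi : Function.Injective σ
    · obtain ⟨s, π, rfl⟩ := exists_perm σ hi
      rw [plAny_comp_perm] at hσ
      have := congrFun h0 s
      unfold pl at this
      rw [this] at hσ
      simp at hσ
    · exact hσ (plAny_of_not_injective M σ hi)

/-- left multiplication. -/
theorem plAny_mul (g : Matrix (Fin 3) (Fin 3) F) (M : Matrix (Fin 3) (Fin 6) F)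
    (σ : Fin 3 → Fin 6) : plAny (g * M) σ = g.det * plAny M σ := by
  unfold plAny
  have : (g * M).submatrix id σ = g * M.submatrix id σ := by
    ext r c
    simp [Matrix.mul_apply, submatrix_apply]
  rw [this, det_mul]

theorem pl_mul (g : Matrix (Fin 3) (Fin 3) F) (M : Matrix (Fin 3) (Fin 6) F) :
    pl (g * M) = g.det • pl M := by
  funext s
  simp only [pl, plAny_mul, Pi.smul_apply, smul_eq_mul]

/-- Cauchy-Binet type expansion. -/
theorem det_mul_rect (M : Matrix (Fin 3) (Fin 6) F) (N : Matrix (Fin 6) (Fin 3) F) :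
    (M * N).det = ∑ p : Fin 3 → Fin 6, (∏ i, N (p i) i) * plAny M p := by
  have h1 : (M * N).det =
      ∑ p : Fin 3 → Fin 6, ∑ σ : Equiv.Perm (Fin 3),
        ((Equiv.Perm.sign σ : ℤ) : F) * ∏ i, M (σ i) (p i) * N (p i) i := by
    simp only [det_apply', mul_apply, Finset.prod_univ_sum, Finset.mul_sum,
      Fintype.piFinset_univ]
    rw [Finset.sum_comm]
  rw [h1]
  apply Finset.sum_congr rfl
  intro p _
  unfold plAny
  rw [det_apply', Finset.mul_sum]
  apply Finset.sum_congr rfl
  intro σ _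
  simp only [submatrix_apply, id_eq, Finset.prod_mul_distrib]
  ring


/-! ### Cramer's rule and the fibres of `pl` -/

/-- Cramer: the entries of `B⁻¹ * M`, `B` the block of `M` on the columns `τ`. -/
theorem inv_mul_apply (M : Matrix (Fin 3) (Fin 6) F) (τ : Fin 3 → Fin 6) (k : Fin 3) (j : Fin 6) :
    ((M.submatrix id τ)⁻¹ * M) k j =
      (plAny M τ)⁻¹ * plAny M (Function.update τ k j) := by
  have h1 : ((M.submatrix id τ)⁻¹ * M) k j = ((M.submatrix id τ)⁻¹ *ᵥ (fun r => M r j)) k := by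
    simp [Matrix.mul_apply, Matrix.mulVec, dotProduct]
  rw [h1, Matrix.inv_def, Matrix.smul_mulVec, Pi.smul_apply, ← Matrix.cramer_eq_adjugate_mulVec,
    Matrix.cramer_apply, Ring.inverse_eq_inv', smul_eq_mul]
  congr 1
  unfold plAny
  congr 1
  ext r c
  simp only [updateCol_apply, submatrix_apply, id_eq, Function.update_apply]
  split_ifs <;> rfl

/-- two matrices with the same nonzero Pluecker vector differ by an element of `SL₃`. -/
theorem exists_sl_of_pl_eq {M M' : Matrix (Fin 3) (Fin 6) F} (h : pl M = pl M')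
    (h0 : pl M ≠ 0) : ∃ g : Matrix.SpecialLinearGroup (Fin 3) F, M' = g.1 * M := by
  obtain ⟨s, hs⟩ : ∃ s : T3, pl M s ≠ 0 := by
    by_contra hcon
    push Not at hcon
    exact h0 (funext hcon)
  set B := M.submatrix id (emb s) with hB
  set B' := M'.submatrix id (emb s) with hB'
  have hdB : B.det = pl M s := rfl
  have hdB' : B'.det = pl M s := by rw [h]; rfl
  have hBu : IsUnit B.det := by rw [hdB]; exact isUnit_iff_ne_zero.mpr hs
  have hBu' : IsUnit B'.det := by rw [hdB']; exact isUnit_iff_ne_zero.mpr hs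
  have heq : B⁻¹ * M = B'⁻¹ * M' := by
    ext k j
    rw [hB, hB', inv_mul_apply, inv_mul_apply, plAny_eq_of_pl_eq h, plAny_eq_of_pl_eq h]
  have hM' : M' = (B' * B⁻¹) * M := by
    rw [Matrix.mul_assoc, heq, ← Matrix.mul_assoc, Matrix.mul_nonsing_inv _ hBu', Matrix.one_mul]
  refine ⟨⟨B' * B⁻¹, ?_⟩, hM'⟩
  rw [det_mul, Matrix.det_nonsing_inv, Ring.inverse_eq_inv', hdB, hdB']
  exact mul_inv_cancel₀ hs

/-- left multiplication by `SL₃` is free on matrices with nonzero Pluecker vector. -/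
theorem sl_mul_injective {M : Matrix (Fin 3) (Fin 6) F} (h0 : pl M ≠ 0)
    {g g' : Matrix (Fin 3) (Fin 3) F} (h : g * M = g' * M) : g = g' := by
  obtain ⟨s, hs⟩ : ∃ s : T3, pl M s ≠ 0 := by
    by_contra hcon
    push Not at hcon
    exact h0 (funext hcon)
  set B := M.submatrix id (emb s) with hB
  have hBu : IsUnit B.det := isUnit_iff_ne_zero.mpr hs
  have h1 : g * B = g' * B := by
    have : (g * M).submatrix id (emb s) = (g' * M).submatrix id (emb s) := by rw [h]
    have e1 : ∀ x : Matrix (Fin 3) (Fin 3) F, (x * M).submatrix id (emb s) = x * B := by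
      intro x; ext r c; simp [Matrix.mul_apply, hB]
    rw [e1, e1] at this
    exact this
  have := congrArg (fun X => X * B⁻¹) h1
  simp only [Matrix.mul_assoc, Matrix.mul_nonsing_inv _ hBu, Matrix.mul_one] at this
  exact this


/-! ### nonzero Pluecker vector iff independent rows -/

theorem vecMul_submatrix (M : Matrix (Fin 3) (Fin 6) F) (τ : Fin 3 → Fin 6) (v : Fin 3 → F) :
    v ᵥ* (M.submatrix id τ) = fun c => (v ᵥ* M) (τ c) := by
  funext c
  simp [Matrix.vecMul, dotProduct, submatrix_apply]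

theorem linearIndependent_of_pl_ne_zero {M : Matrix (Fin 3) (Fin 6) F} (h0 : pl M ≠ 0) :
    LinearIndependent F M.row := by
  obtain ⟨s, hs⟩ : ∃ s : T3, pl M s ≠ 0 := by
    by_contra hcon
    push Not at hcon
    exact h0 (funext hcon)
  rw [← Matrix.vecMul_injective_iff]
  intro v w hvw
  have hBu : IsUnit (M.submatrix id (emb s)) :=
    (Matrix.isUnit_iff_isUnit_det _).mpr (isUnit_iff_ne_zero.mpr hs)
  apply Matrix.vecMul_injective_of_isUnit hBu
  show v ᵥ* (M.submatrix id (emb s)) = w ᵥ* (M.submatrix id (emb s))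
  have hvw' : v ᵥ* M = w ᵥ* M := hvw
  rw [vecMul_submatrix, vecMul_submatrix, hvw']

theorem exists_right_inverse {M : Matrix (Fin 3) (Fin 6) F} (h : LinearIndependent F M.row) :
    ∃ N : Matrix (Fin 6) (Fin 3) F, M * N = 1 := by
  have hinj : Function.Injective M.vecMulLinear := by
    have := Matrix.vecMul_injective_iff.mpr h
    exact this
  obtain ⟨g, hg⟩ := LinearMap.exists_leftInverse_of_injective M.vecMulLinear
    (LinearMap.ker_eq_bot.mpr hinj)
  refine ⟨LinearMap.toMatrixRight' g, ?_⟩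
  have hgN : (LinearMap.toMatrixRight' g).vecMulLinear = g :=
    LinearMap.toMatrixRight'.symm_apply_apply g
  apply Matrix.ext_of_single_vecMul
  intro i
  rw [← Matrix.vecMul_vecMul, Matrix.vecMul_one]
  have h1 := LinearMap.congr_fun hg (Pi.single i 1)
  simp only [LinearMap.coe_comp, Function.comp_apply, LinearMap.id_coe, id_eq] at h1
  rw [← hgN] at h1
  exact h1

theorem pl_ne_zero_of_linearIndependent {M : Matrix (Fin 3) (Fin 6) F}
    (h : LinearIndependent F M.row) : pl M ≠ 0 := by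
  obtain ⟨N, hN⟩ := exists_right_inverse h
  rw [pl_ne_zero_iff]
  by_contra hcon
  push Not at hcon
  have := det_mul_rect M N
  rw [hN, det_one] at this
  rw [Finset.sum_eq_zero (fun p _ => by rw [hcon p, mul_zero])] at this
  exact one_ne_zero this

theorem pl_ne_zero_iff_linearIndependent (M : Matrix (Fin 3) (Fin 6) F) :
    pl M ≠ 0 ↔ LinearIndependent F M.row :=
  ⟨linearIndependent_of_pl_ne_zero, pl_ne_zero_of_linearIndependent⟩

/-! ### counting -/

section count

variable [Fintype F]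

/-- matrices with nonzero Pluecker vector. -/
abbrev R (F : Type*) [Field F] := {M : Matrix (Fin 3) (Fin 6) F // pl M ≠ 0}

/-- nonzero decomposable vectors. -/
abbrev Dec (F : Type*) [Field F] := {lam : T3 → F // lam ≠ 0 ∧ ∃ M : Matrix (Fin 3) (Fin 6) F, lam = pl M}

theorem card_R : Nat.card (R F) =
    (Fintype.card F ^ 6 - 1) * (Fintype.card F ^ 6 - Fintype.card F) *
      (Fintype.card F ^ 6 - Fintype.card F ^ 2) := by
  have e : R F ≃ {s : Fin 3 → (Fin 6 → F) // LinearIndependent F s} :=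
    Equiv.subtypeEquivRight (fun M => pl_ne_zero_iff_linearIndependent M)
  rw [Nat.card_congr e, _root_.card_linearIndependent (K := F) (V := Fin 6 → F) (k := 3)
    (by rw [Module.finrank_fin_fun]; norm_num), Module.finrank_fin_fun, Fin.prod_univ_three]
  simp

/-- the Pluecker map on `R`. -/
def plR (M : R F) : Dec F := ⟨pl M.1, M.2, M.1, rfl⟩

theorem card_fiber (lam : Dec F) :
    Nat.card {M : R F // plR M = lam} = Nat.card (Matrix.SpecialLinearGroup (Fin 3) F) := by
  obtain ⟨M₀, hM₀⟩ := lam.2.2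
  have h0 : pl M₀ ≠ 0 := by rw [← hM₀]; exact lam.2.1
  symm
  let f : Matrix.SpecialLinearGroup (Fin 3) F → {M : R F // plR M = lam} := fun g =>
    ⟨⟨g.1 * M₀, by rw [pl_mul, g.2, one_smul]; exact h0⟩, by
      apply Subtype.ext
      show pl (g.1 * M₀) = lam.1
      rw [pl_mul, g.2, one_smul, hM₀]⟩
  apply Nat.card_eq_of_bijective f
  constructor
  · intro g g' hgg
    have h1 : g.1 * M₀ = g'.1 * M₀ := congrArg (fun x : {M : R F // plR M = lam} => x.1.1) hgg
    exact Subtype.ext (sl_mul_injective h0 h1)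
  · rintro ⟨⟨M, hM⟩, hMl⟩
    have h1 : pl M₀ = pl M := by
      have := congrArg Subtype.val hMl
      simp only [plR] at this
      rw [this, hM₀]
    obtain ⟨g, hg⟩ := exists_sl_of_pl_eq h1 h0
    refine ⟨g, ?_⟩
    apply Subtype.ext
    apply Subtype.ext
    exact hg.symm

theorem card_R_eq : Nat.card (R F) =
    Nat.card (Dec F) * Nat.card (Matrix.SpecialLinearGroup (Fin 3) F) := by
  classical
  haveI : Fintype (Dec F) := Fintype.ofFinite _
  rw [Nat.card_congr (Equiv.sigmaFiberEquiv (plR (F := F))).symm, Nat.card_sigma]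
  rw [Finset.sum_congr rfl (fun lam _ => card_fiber lam), Finset.sum_const, Finset.card_univ,
    smul_eq_mul, ← Nat.card_eq_fintype_card]

/-- PLKCOUNT: the number of nonzero decomposable vectors. -/
theorem card_dec : Nat.card (Dec F) =
    (Fintype.card F ^ 3 + 1) * (Fintype.card F ^ 2 + 1) * (Fintype.card F ^ 5 - 1) := by
  set q := Fintype.card F with hq
  have hq2 : 2 ≤ q := Fintype.one_lt_card
  have hR := card_R (F := F)
  have hfib := card_R_eq (F := F)
  have hSL := Cfsg.Agent.Lib.Helper4.card_SL_mul (F := F) 3 (by norm_num)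
  rw [Matrix.card_GL_field, Fin.prod_univ_three] at hSL
  simp only [Fin.val_zero, Fin.val_one, Fin.val_two, pow_zero, pow_one] at hSL
  rw [← hq] at hR hSL
  set D := Nat.card (Dec F) with hD
  set S := Nat.card (Matrix.SpecialLinearGroup (Fin 3) F) with hS
  -- D * S = R, S * (q-1) = GL
  have h1 : D * ((q ^ 3 - 1) * (q ^ 3 - q) * (q ^ 3 - q ^ 2)) =
      (q ^ 6 - 1) * (q ^ 6 - q) * (q ^ 6 - q ^ 2) * (q - 1) := by
    rw [← hSL, ← hR, hfib]; ring
  have i1 : 1 ≤ q ^ 6 := Nat.one_le_pow _ _ (by omega)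
  have i2 : q ≤ q ^ 6 := by
    calc q = q ^ 1 := (pow_one q).symm
      _ ≤ q ^ 6 := Nat.pow_le_pow_right (by omega) (by norm_num)
  have i3 : q ^ 2 ≤ q ^ 6 := Nat.pow_le_pow_right (by omega) (by norm_num)
  have i4 : 1 ≤ q ^ 3 := Nat.one_le_pow _ _ (by omega)
  have i5 : q ≤ q ^ 3 := by
    calc q = q ^ 1 := (pow_one q).symm
      _ ≤ q ^ 3 := Nat.pow_le_pow_right (by omega) (by norm_num)
  have i6 : q ^ 2 ≤ q ^ 3 := Nat.pow_le_pow_right (by omega) (by norm_num)
  have i7 : 1 ≤ q := by omega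
  have i8 : 1 ≤ q ^ 5 := Nat.one_le_pow _ _ (by omega)
  have h2 : ((q ^ 3 + 1) * (q ^ 2 + 1) * (q ^ 5 - 1)) *
      ((q ^ 3 - 1) * (q ^ 3 - q) * (q ^ 3 - q ^ 2)) =
      (q ^ 6 - 1) * (q ^ 6 - q) * (q ^ 6 - q ^ 2) * (q - 1) := by
    zify [i1, i2, i3, i4, i5, i6, i7, i8]
    ring
  have hpos : 0 < (q ^ 3 - 1) * (q ^ 3 - q) * (q ^ 3 - q ^ 2) := by
    have a1 : 0 < q ^ 3 - 1 := by
      have : 2 ^ 3 ≤ q ^ 3 := Nat.pow_le_pow_left hq2 3
      omega
    have a2 : 0 < q ^ 3 - q := by
      have : q ^ 1 < q ^ 3 := Nat.pow_lt_pow_right (by omega) (by norm_num)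
      rw [pow_one] at this
      omega
    have a3 : 0 < q ^ 3 - q ^ 2 := by
      have : q ^ 2 < q ^ 3 := Nat.pow_lt_pow_right (by omega) (by norm_num)
      omega
    positivity
  exact Nat.eq_of_mul_eq_mul_right hpos (h1.trans h2.symm)

end count

end Cfsg.Agent.Lib.Helper6.E6MPlk
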