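import Mathlib
import Cfsg.Agent.Lib.Helper5.E6MDefs
import Cfsg.Agent.Lib.Helper6.E6MPlk

/-! E6M farm (S2340), unit MHOM: the matrix of `3 × 3` minors is multiplicative (Cauchy-Binet for
`3 × 6` times `6 × 3`), the Pluecker vector is equivariant. -/

set_option autoImplicit false

namespace Cfsg.Agent.Lib.Helper6.E6MMHOM

open Cfsg.Agent.Lib.Helper5.E6M Matrix

variable {F : Type*} [Field F]

theorem emb_eq (K : T3) : (K.emb : Fin 3 → Fin 6) = Cfsg.Agent.Lib.Helper6.E6MPlk.emb K := rfl

theorem range_emb (K : T3) : Set.range (K.emb : Fin 3 → Fin 6) = (K.1 : Set (Fin 6)) :=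
  Finset.range_orderEmbOfFin K.1 K.2

/-- `(K, π) ↦ K.emb ∘ π` is injective. -/
theorem embComp_injective :
    Function.Injective (fun x : T3 × Equiv.Perm (Fin 3) => ((x.1.emb : Fin 3 → Fin 6) ∘ x.2)) := by
  rintro ⟨K, π⟩ ⟨K', π'⟩ h
  simp only at h
  have hK : K = K' := by
    apply Subtype.ext
    have h1 : Set.range ((K.emb : Fin 3 → Fin 6) ∘ π) = Set.range ((K'.emb : Fin 3 → Fin 6) ∘ π') := by
      rw [h]
    rw [Set.range_comp, Set.range_comp, Equiv.range_eq_univ, Equiv.range_eq_univ,
      Set.image_univ, Set.image_univ, range_emb, range_emb] at h1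
    exact Finset.coe_injective h1
  subst hK
  have hπ : π = π' := by
    ext a
    have := congrFun h a
    simp only [Function.comp_apply] at this
    exact congrArg Fin.val (K.emb.injective this)
  rw [hπ]

/-- Cauchy-Binet for a `3 × 6` times a `6 × 3` matrix. -/
theorem cauchy_binet (M : Matrix (Fin 3) (Fin 6) F) (N : Matrix (Fin 6) (Fin 3) F) :
    (M * N).det = ∑ K : T3, (M.submatrix id K.emb).det * (N.submatrix K.emb id).det := by
  classical
  rw [Cfsg.Agent.Lib.Helper6.E6MPlk.det_mul_rect]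
  set f : (Fin 3 → Fin 6) → F := fun p =>
    (∏ i, N (p i) i) * Cfsg.Agent.Lib.Helper6.E6MPlk.plAny M p with hf
  set Φ : T3 × Equiv.Perm (Fin 3) → (Fin 3 → Fin 6) :=
    fun x => ((x.1.emb : Fin 3 → Fin 6) ∘ x.2) with hΦ
  have h1 : ∑ p : Fin 3 → Fin 6, f p = ∑ p ∈ Finset.univ.image Φ, f p := by
    symm
    apply Finset.sum_subset (Finset.subset_univ _)
    intro p _ hp
    have hni : ¬ Function.Injective p := by
      intro hinj
      obtain ⟨s, π, hsp⟩ := Cfsg.Agent.Lib.Helper6.E6MPlk.exists_perm p hinj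
      apply hp
      rw [Finset.mem_image]
      exact ⟨(s, π), Finset.mem_univ _, hsp.symm⟩
    simp only [hf]
    rw [Cfsg.Agent.Lib.Helper6.E6MPlk.plAny_of_not_injective M p hni, mul_zero]
  rw [h1, Finset.sum_image (fun x _ y _ h => embComp_injective h), Fintype.sum_prod_type]
  apply Finset.sum_congr rfl
  intro K _
  have h2 : ∀ π : Equiv.Perm (Fin 3), f (Φ (K, π)) =
      (M.submatrix id K.emb).det *
        (((Equiv.Perm.sign π : ℤ) : F) * ∏ i, (N.submatrix K.emb id) (π i) i) := by
    intro π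
    simp only [hf, hΦ]
    rw [Cfsg.Agent.Lib.Helper6.E6MPlk.plAny_comp_perm]
    simp only [Function.comp_apply, submatrix_apply, id_eq]
    unfold Cfsg.Agent.Lib.Helper6.E6MPlk.plAny
    push_cast
    ring
  rw [Finset.sum_congr rfl (fun π _ => h2 π), ← Finset.mul_sum, ← det_apply']

/-- the matrix of minors is multiplicative (all matrices, any field). -/
theorem Mm_mul' (g g' : Matrix (Fin 6) (Fin 6) F) : Mm (g * g') = Mm g * Mm g' := by
  ext J I
  simp only [Mm, of_apply, minor, Matrix.mul_apply]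
  have : (g * g').submatrix J.emb I.emb = (g.submatrix J.emb id) * (g'.submatrix id I.emb) := by
    ext a b
    simp [Matrix.mul_apply]
  rw [this, cauchy_binet]
  apply Finset.sum_congr rfl
  intro K _
  rfl

theorem Mm_one : Mm (1 : Matrix (Fin 6) (Fin 6) F) = 1 := by
  ext J I
  simp only [Mm, of_apply, minor]
  by_cases h : J = I
  · subst h
    have : (1 : Matrix (Fin 6) (Fin 6) F).submatrix J.emb J.emb = 1 := by
      ext a b
      simp [Matrix.one_apply, J.emb.injective.eq_iff]
    rw [this, det_one, Matrix.one_apply_eq]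
  · rw [Matrix.one_apply_ne h]
    -- some row index of J is not in I
    have hex : ∃ a : Fin 3, (J.emb a) ∉ I.1 := by
      by_contra hcon
      push Not at hcon
      apply h
      apply Subtype.ext
      apply Finset.eq_of_subset_of_card_le
      · intro x hx
        have : x ∈ Set.range (J.emb : Fin 3 → Fin 6) := by rw [range_emb]; exact hx
        obtain ⟨a, rfl⟩ := this
        exact hcon a
      · rw [J.2, I.2]
    obtain ⟨a, ha⟩ := hex
    apply Matrix.det_eq_zero_of_row_eq_zero a
    intro b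
    simp only [submatrix_apply]
    rw [Matrix.one_apply_ne]
    intro hab
    apply ha
    rw [hab]
    have : I.emb b ∈ Set.range (I.emb : Fin 3 → Fin 6) := ⟨b, rfl⟩
    rw [range_emb] at this
    exact this

theorem Mm_transpose (g : Matrix (Fin 6) (Fin 6) F) : Mm gᵀ = (Mm g)ᵀ := by
  ext J I
  simp only [Mm, of_apply, minor, transpose_apply]
  rw [← det_transpose]
  rfl

theorem Mm_tv_mul (p : IJ) (t : F) (g : Matrix (Fin 6) (Fin 6) F) :
    Mm ((tv p t).1 * g) = Mm (tv p t).1 * Mm g := Mm_mul' _ _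

theorem Mm_mul [Finite F] (g g' : SL6 F) : Mm (g * g').1 = Mm g.1 * Mm g'.1 := by
  rw [Matrix.SpecialLinearGroup.coe_mul]
  exact Mm_mul' _ _

/-- the Pluecker vector is equivariant (all matrices). -/
theorem pl_mul' (g : Matrix (Fin 6) (Fin 6) F) (C : Matrix (Fin 6) (Fin 3) F) :
    pl (g * C) = Mm g *ᵥ pl C := by
  funext J
  simp only [pl, Matrix.mulVec, dotProduct, Mm, of_apply, minor]
  have : (g * C).submatrix J.emb id = (g.submatrix J.emb id) * C := by
    ext a b
    simp [Matrix.mul_apply]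
  rw [this, cauchy_binet]
  rfl

theorem pl_mul [Finite F] (g : SL6 F) (C : Matrix (Fin 6) (Fin 3) F) :
    pl (g.1 * C) = Mm g.1 *ᵥ pl C := pl_mul' g.1 C

theorem Mm_mulVec_single (g : Matrix (Fin 6) (Fin 6) F) (I : T3) (a : F) :
    Mm g *ᵥ Pi.single I a = a • pl (g.submatrix id I.emb) := by
  classical
  funext J
  simp only [Matrix.mulVec, dotProduct, Pi.smul_apply, smul_eq_mul, pl, Mm, of_apply, minor]
  rw [Finset.sum_eq_single I]
  · rw [Pi.single_eq_same, mul_comm]
    rfl
  · intro K _ hK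
    rw [Pi.single_eq_of_ne hK, mul_zero]
  · intro h
    exact absurd (Finset.mem_univ I) h

end Cfsg.Agent.Lib.Helper6.E6MMHOM
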