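import Mathlib
import Cfsg.Agent.Lib.Helper5.E6MDefs
import Cfsg.Agent.Lib.Helper6.E6MPlk
import Cfsg.Agent.Lib.Helper6.E6MMHOM
import Cfsg.Agent.Lib.Helper6.E6MBlockPerf6

/-! E6M farm (S2340), unit STAB: the stabiliser in `SL₆(F)` of `e_012 ∈ Λ³F⁶` is the block group
`block6 F` of `E6MBlockPerf6`. -/

set_option autoImplicit false

namespace Cfsg.Agent.Lib.Helper6.E6MSTAB

open Cfsg.Agent.Lib.Helper5.E6M Matrix
open Cfsg.Agent.Lib.Helper6.E6MBlockPerf (block6 mem_block6)

variable {F : Type*} [Field F]

theorem I012_mem (i : Fin 6) : i ∈ I012.1 ↔ i.val < 3 := by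
  revert i; decide

theorem I012_emb_val (k : Fin 3) : (I012.emb k).val = k.val := by
  have h := Finset.orderEmbOfFin_unique (s := I012.1) I012.2
    (f := fun k : Fin 3 => (Fin.castLE (by norm_num : 3 ≤ 6) k : Fin 6))
    (by intro x; fin_cases x <;> decide)
    (by intro a b hab; exact hab)
  have h2 : I012.emb k = Fin.castLE (by norm_num : 3 ≤ 6) k := (congrFun h k).symm
  rw [h2]
  rfl

theorem I012_emb_eq (k : Fin 3) : I012.emb k = Fin.castAdd 3 k := by
  apply Fin.ext
  rw [I012_emb_val]
  rfl

/-- the first three columns. -/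
def cols (b : Matrix (Fin 6) (Fin 6) F) : Matrix (Fin 6) (Fin 3) F := b.submatrix id I012.emb

theorem pl_eq_plk (C : Matrix (Fin 6) (Fin 3) F) :
    pl C = Cfsg.Agent.Lib.Helper6.E6MPlk.pl Cᵀ := by
  funext J
  show (C.submatrix J.emb id).det = (Cᵀ.submatrix id (Cfsg.Agent.Lib.Helper6.E6MPlk.emb J)).det
  rw [← det_transpose]
  rfl

theorem fixes_iff (b : Matrix (Fin 6) (Fin 6) F) :
    Mm b *ᵥ Pi.single I012 1 = Pi.single I012 1 ↔ pl (cols b) = Pi.single I012 1 := by
  rw [Cfsg.Agent.Lib.Helper6.E6MMHOM.Mm_mulVec_single, one_smul]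
  rfl

/-- if the Pluecker vector of `C` is `e_012` then the rows `3,4,5` of `C` vanish. -/
theorem rows_zero_of_pl {C : Matrix (Fin 6) (Fin 3) F} (h : pl C = Pi.single I012 1)
    (i : Fin 6) (hi : 3 ≤ i.val) (k : Fin 3) : C i k = 0 := by
  classical
  set M : Matrix (Fin 3) (Fin 6) F := Cᵀ with hM
  have hpl : Cfsg.Agent.Lib.Helper6.E6MPlk.pl M = Pi.single I012 1 := by
    rw [← pl_eq_plk]; exact h
  set τ : Fin 3 → Fin 6 := Cfsg.Agent.Lib.Helper6.E6MPlk.emb I012 with hτ
  have hτ1 : Cfsg.Agent.Lib.Helper6.E6MPlk.plAny M τ = 1 := by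
    have := congrFun hpl I012
    rw [Pi.single_eq_same] at this
    exact this
  have hB : IsUnit (M.submatrix id τ).det := by
    show IsUnit (Cfsg.Agent.Lib.Helper6.E6MPlk.plAny M τ)
    rw [hτ1]; exact isUnit_one
  -- the generalized minors through column i vanish
  have hzero : ∀ k' : Fin 3,
      Cfsg.Agent.Lib.Helper6.E6MPlk.plAny M (Function.update τ k' i) = 0 := by
    intro k'
    by_cases hinj : Function.Injective (Function.update τ k' i)
    · obtain ⟨s, π, hs⟩ := Cfsg.Agent.Lib.Helper6.E6MPlk.exists_perm _ hinj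
      rw [hs, Cfsg.Agent.Lib.Helper6.E6MPlk.plAny_comp_perm]
      have hne : s ≠ I012 := by
        intro hs0
        -- i is a value of the updated map, hence lies in s = I012, impossible
        have h1 : Function.update τ k' i k' = i := Function.update_self ..
        rw [hs] at h1
        have h2 : i ∈ s.1 := by
          rw [← h1]
          exact Cfsg.Agent.Lib.Helper6.E6MPlk.emb_mem s (π k')
        rw [hs0, I012_mem] at h2
        omega
      have := congrFun hpl s
      rw [Pi.single_eq_of_ne hne] at this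
      show _ * Cfsg.Agent.Lib.Helper6.E6MPlk.pl M s = 0
      rw [this, mul_zero]
    · exact Cfsg.Agent.Lib.Helper6.E6MPlk.plAny_of_not_injective M _ hinj
  have hcol : ∀ k' : Fin 3, ((M.submatrix id τ)⁻¹ * M) k' i = 0 := by
    intro k'
    rw [Cfsg.Agent.Lib.Helper6.E6MPlk.inv_mul_apply, hzero, mul_zero]
  have hM2 : M = (M.submatrix id τ) * ((M.submatrix id τ)⁻¹ * M) := by
    rw [← Matrix.mul_assoc, Matrix.mul_nonsing_inv _ hB, Matrix.one_mul]
  have : M k i = 0 := by
    rw [hM2, Matrix.mul_apply]
    apply Finset.sum_eq_zero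
    intro k' _
    rw [hcol k', mul_zero]
  exact this

/-- unit STAB. -/
theorem stab (b : SL6 F) :
    Mm b.1 *ᵥ Pi.single I012 1 = Pi.single I012 1 ↔ b ∈ block6 F := by
  classical
  rw [fixes_iff, mem_block6]
  have hA : (b.1.submatrix (Fin.castAdd 3 : Fin 3 → Fin 6) (Fin.castAdd 3)) =
      (cols b.1).submatrix I012.emb id := by
    ext r c
    simp only [submatrix_apply, cols, id_eq]
    rw [I012_emb_eq, I012_emb_eq]
  constructor
  · intro h
    refine ⟨?_, ?_⟩
    · intro i j hi hj
      have := rows_zero_of_pl h i hi ⟨j.val, hj⟩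
      simp only [cols, submatrix_apply, id_eq] at this
      have hj' : I012.emb ⟨j.val, hj⟩ = j := by
        apply Fin.ext
        rw [I012_emb_val]
      rw [hj'] at this
      exact this
    · rw [hA]
      have := congrFun h I012
      rw [Pi.single_eq_same] at this
      exact this
  · rintro ⟨h0, hdet⟩
    funext J
    by_cases hJ : J = I012
    · subst hJ
      rw [Pi.single_eq_same]
      show ((cols b.1).submatrix I012.emb id).det = 1
      rw [← hA]
      exact hdet
    · rw [Pi.single_eq_of_ne hJ]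
      have hex : ∃ a : Fin 3, (J.emb a) ∉ I012.1 := by
        by_contra hcon
        push Not at hcon
        apply hJ
        apply Subtype.ext
        apply Finset.eq_of_subset_of_card_le
        · intro x hx
          have : x ∈ Set.range (J.emb : Fin 3 → Fin 6) := by
            rw [Cfsg.Agent.Lib.Helper6.E6MMHOM.range_emb]; exact hx
          obtain ⟨a, rfl⟩ := this
          exact hcon a
        · rw [J.2, I012.2]
      obtain ⟨a, ha⟩ := hex
      rw [I012_mem] at ha
      show ((cols b.1).submatrix J.emb id).det = 0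
      apply Matrix.det_eq_zero_of_row_eq_zero a
      intro c
      simp only [submatrix_apply, cols, id_eq]
      apply h0
      · omega
      · rw [I012_emb_val]; exact c.2

/-- the direction used by TRIVLINE. -/
theorem mem_block6_of_fixes (b : SL6 F)
    (h : Mm b.1 *ᵥ Pi.single I012 1 = Pi.single I012 1) : b ∈ block6 F := (stab b).mp h

end Cfsg.Agent.Lib.Helper6.E6MSTAB
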