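import Mathlib
import Cfsg.Agent.Lib.Helper5.E6MDefs
import Cfsg.Agent.Lib.Helper2.E6MCellBasic
import Cfsg.Agent.Lib.Helper6.E6MPlk
import Cfsg.Agent.Lib.Helper6.E6MSTAB

/-! E6M farm (S2340), unit CELLS: the support of `c` contains all nonzero decomposable vectors, of
which there are `(q^3+1)(q^2+1)(q^5-1)`. -/

set_option autoImplicit false

namespace Cfsg.Agent.Lib.Helper6.E6MCELLS

open Cfsg.Agent.Lib.Helper5.E6M Matrix

variable {F : Type*} [Field F]

/-- right multiplication by a `3 × 3` matrix. -/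
theorem pl_mul_right (C : Matrix (Fin 6) (Fin 3) F) (g : Matrix (Fin 3) (Fin 3) F) :
    pl (C * g) = g.det • pl C := by
  funext J
  simp only [pl, Pi.smul_apply, smul_eq_mul]
  have : (C * g).submatrix J.emb id = (C.submatrix J.emb id) * g := by
    ext a b
    simp [Matrix.mul_apply]
  rw [this, det_mul, mul_comm]

/-- a Pluecker vector with nonzero `I`-coordinate lies in the cell of `I`. -/
theorem mem_cell_of_pl (C : Matrix (Fin 6) (Fin 3) F) (I : T3) (h : pl C I ≠ 0) :
    pl C ∈ Cell I := by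
  set B := C.submatrix I.emb id with hB
  have hdet : B.det = pl C I := rfl
  have hBu : IsUnit B.det := by rw [hdet]; exact isUnit_iff_ne_zero.mpr h
  set C' := C * B⁻¹ with hC'
  set A : Matrix (Fin 3) (Fin 3) F := Matrix.of fun j k => C' (I.compl.emb j) k with hA
  have hcell : C' = cellMat I A := by
    ext i k
    by_cases hi : i ∈ I.1
    · obtain ⟨k₀, rfl⟩ := Cfsg.Agent.Lib.Helper2.E6MCell.exists_emb_of_mem I hi
      rw [Cfsg.Agent.Lib.Helper2.E6MCell.cellMat_emb]
      have h1 : C' (I.emb k₀) k = (B * B⁻¹) k₀ k := by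
        simp only [hC', hB, Matrix.mul_apply, submatrix_apply, id_eq]
      rw [h1, Matrix.mul_nonsing_inv _ hBu, Matrix.one_apply]
      by_cases hk : k₀ = k
      · simp [hk]
      · rw [if_neg hk, if_neg (fun e => hk e.symm)]
    · obtain ⟨j, rfl⟩ := Cfsg.Agent.Lib.Helper2.E6MCell.exists_compl_emb_of_not_mem I hi
      rw [Cfsg.Agent.Lib.Helper2.E6MCell.cellMat_compl_emb]
      rfl
  have hC : C = C' * B := by
    rw [hC', Matrix.mul_assoc, Matrix.nonsing_inv_mul _ hBu, Matrix.mul_one]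
  refine ⟨B.det, A, by rw [hdet]; exact h, ?_⟩
  conv_lhs => rw [hC]
  rw [pl_mul_right, hcell]

section count

variable [Fintype F] [DecidableEq F]

/-- unit CELLS. -/
theorem cells (c : (T3 → F) → ℕ)
    (hc : ∀ (I : T3) (l : T3 → F), l I ≠ 0 → (l ∈ Cell I → c l = 1) ∧ (l ∉ Cell I → c l = 0)) :
    (Fintype.card F ^ 3 + 1) * (Fintype.card F ^ 2 + 1) * (Fintype.card F ^ 5 - 1) ≤
      ∑ l ∈ Finset.univ.filter (fun l : T3 → F => l ≠ 0), c l := by
  classical
  rw [← Cfsg.Agent.Lib.Helper6.E6MPlk.card_dec (F := F)]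
  set S : Finset (T3 → F) := Finset.univ.filter (fun l : T3 → F =>
    l ≠ 0 ∧ ∃ M : Matrix (Fin 3) (Fin 6) F, l = Cfsg.Agent.Lib.Helper6.E6MPlk.pl M) with hS
  have hsub : S ⊆ Finset.univ.filter (fun l : T3 → F => l ≠ 0) := by
    intro l hl
    rw [hS, Finset.mem_filter] at hl
    rw [Finset.mem_filter]
    exact ⟨Finset.mem_univ _, hl.2.1⟩
  have hone : ∀ l ∈ S, c l = 1 := by
    intro l hl
    rw [hS, Finset.mem_filter] at hl
    obtain ⟨-, hl0, M, rfl⟩ := hl
    have hpl : Cfsg.Agent.Lib.Helper6.E6MPlk.pl M = pl Mᵀ := by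
      rw [Cfsg.Agent.Lib.Helper6.E6MSTAB.pl_eq_plk, transpose_transpose]
    obtain ⟨I, hI⟩ : ∃ I : T3, Cfsg.Agent.Lib.Helper6.E6MPlk.pl M I ≠ 0 := by
      by_contra hcon
      push Not at hcon
      exact hl0 (funext hcon)
    refine (hc I _ hI).1 ?_
    rw [hpl]
    apply mem_cell_of_pl
    rw [← hpl]
    exact hI
  calc Nat.card (Cfsg.Agent.Lib.Helper6.E6MPlk.Dec F) = S.card := by
        rw [Nat.card_eq_fintype_card, Fintype.card_subtype]
    _ = ∑ l ∈ S, c l := by
        rw [Finset.sum_congr rfl hone, Finset.sum_const, smul_eq_mul, mul_one]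
    _ ≤ ∑ l ∈ Finset.univ.filter (fun l : T3 → F => l ≠ 0), c l :=
        Finset.sum_le_sum_of_subset hsub

end count

end Cfsg.Agent.Lib.Helper6.E6MCELLS
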