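import Mathlib
import Cfsg.Agent.Lib.Helper5.E6MDefs
import Cfsg.Agent.Lib.Helper5.E6MDefs2
import Cfsg.Agent.Lib.Helper4.E6MMTV
import Cfsg.Agent.Lib.Helper2.E6MCell
import Cfsg.Agent.Lib.Helper6.E6MMHOM
import Cfsg.Agent.Lib.Helper6.E6MCELLS

/-! E6M farm (S2340), unit SUPP: the shape argument.  An `SL₆`-invariant multiplicity function on
`Λ³F⁶` whose mass on `{l₀₁₂ ≠ 0}` is `(q-1)q⁹` is the indicator of the decomposable vectors. -/

set_option autoImplicit false

namespace Cfsg.Agent.Lib.Helper6.E6MSUPP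

open Cfsg.Agent.Lib.Helper5.E6M Matrix

variable {F : Type*} [Field F]

/-! ### combinatorics of `repl` -/

theorem repl_val (I : T3) (i j : Fin 6) (h : j ∈ I.1 ∧ i ∉ I.1) :
    (repl I i j).1 = insert i (I.1.erase j) := by
  unfold repl
  rw [dif_pos h]

theorem repl_repl (i j : Fin 6) (hij : i ≠ j) (I : T3) (h : j ∈ I.1 ∧ i ∉ I.1) :
    i ∈ (repl I i j).1 ∧ j ∉ (repl I i j).1 ∧ repl (repl I i j) j i = I := by
  have h1 : i ∈ (repl I i j).1 := by
    rw [repl_val I i j h]; exact Finset.mem_insert_self _ _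
  have h2 : j ∉ (repl I i j).1 := by
    rw [repl_val I i j h]
    intro hh
    rcases Finset.mem_insert.mp hh with hh | hh
    · exact hij hh.symm
    · exact (Finset.notMem_erase j I.1) hh
  refine ⟨h1, h2, ?_⟩
  apply Subtype.ext
  rw [repl_val _ j i ⟨h1, h2⟩, repl_val I i j h,
    Finset.erase_insert (fun hh => h.2 (Finset.mem_of_mem_erase hh)), Finset.insert_erase h.1]

/-- the number of elements of `K` among `0, 1, 2` -/
def dd (K : T3) : ℕ := (K.1.filter (fun x => x < 3)).card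

theorem mem_I012 : ∀ x : Fin 6, x ∈ I012.1 ↔ x < 3 := by decide +kernel

theorem dd_three : ∀ K : T3, dd K = 3 → K = I012 := by decide +kernel

theorem dd_I012 : dd I012 = 3 := by decide +kernel

theorem dd_other : ∀ K : T3, K ≠ I012 → dd K ≠ 1 → dd K ≠ 2 → K = I345 := by decide +kernel

theorem dd_one : ∀ K : T3, dd K = 1 →
    ∃ p : IJ, p.1.2 ∈ K.1 ∧ p.1.1 ∉ K.1 ∧ p.1.1 < 3 ∧ p.1.2 < 3 := by decide +kernel

theorem dd_two : ∀ K : T3, dd K = 2 →
    ∃ p : IJ, 3 ≤ p.1.1 ∧ p.1.2 < 3 ∧ p.1.1 ∈ K.1 ∧ p.1.2 ∉ K.1 := by decide +kernel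

theorem dd_lt : ∀ K : T3, dd K ≠ 3 →
    ∃ p : IJ, p.1.1 < 3 ∧ 3 ≤ p.1.2 ∧ p.1.2 ∈ K.1 ∧ p.1.1 ∉ K.1 := by decide +kernel

set_option maxRecDepth 100000 in
theorem dd_repl_same : ∀ (i j : Fin 6) (J : T3), i < 3 → j < 3 → dd (repl J i j) = dd J := by
  decide +kernel

set_option maxRecDepth 100000 in
theorem dd_repl_up : ∀ (i j : Fin 6) (J : T3), (i < 3 ∧ 3 ≤ j ∧ j ∈ J.1 ∧ i ∉ J.1) →
    dd (repl J i j) = dd J + 1 := by
  decide +kernel

set_option maxRecDepth 100000 in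
theorem dd_repl_down : ∀ (i j : Fin 6) (J : T3), (3 ≤ i ∧ j < 3 ∧ j ∈ J.1 ∧ i ∉ J.1) →
    dd (repl J i j) + 1 = dd J := by
  decide +kernel

theorem repl_I045 : repl I045 3 0 = I345 := by decide +kernel

theorem I045_mem : (0 : Fin 6) ∈ I045.1 ∧ (3 : Fin 6) ∉ I045.1 := by decide +kernel

theorem card_nb : Fintype.card {K : T3 // dd K = 2} = 9 := by decide +kernel

theorem rsgn_mul_self (I : T3) (i j : Fin 6) :
    ((rsgn I i j : ℤ) : F) * ((rsgn I i j : ℤ) : F) = 1 := by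
  unfold rsgn
  rw [← Int.cast_mul, ← pow_add, ← two_mul, pow_mul]
  simp

theorem rsgn_ne_zero (I : T3) (i j : Fin 6) : ((rsgn I i j : ℤ) : F) ≠ 0 := by
  intro h
  have := rsgn_mul_self (F := F) I i j
  rw [h, mul_zero] at this
  exact zero_ne_one this

/-! ### the coordinates of `Mm (1 + t E_ij) l` -/

theorem tv_coord (p : IJ) (t : F) (l : T3 → F) (J : T3) :
    (Mm (Matrix.transvection p.1.1 p.1.2 t) *ᵥ l) J =
      l J + t * (if p.1.1 ∈ J.1 ∧ p.1.2 ∉ J.1 then
        ((rsgn (repl J p.1.2 p.1.1) p.1.1 p.1.2 : ℤ) : F) * l (repl J p.1.2 p.1.1) else 0) := by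
  classical
  have hM : ∀ I, Mm (Matrix.transvection p.1.1 p.1.2 t) J I * l I =
      (if J = I then l I else 0) +
        t * (if p.1.2 ∈ I.1 ∧ p.1.1 ∉ I.1 ∧ J = repl I p.1.1 p.1.2 then
          ((rsgn I p.1.1 p.1.2 : ℤ) : F) * l I else 0) := by
    intro I
    have : Mm (Matrix.transvection p.1.1 p.1.2 t) J I =
        minor (Matrix.transvection p.1.1 p.1.2 t) J I := rfl
    rw [this, Cfsg.Agent.Lib.Helper4.E6MMTV.minor_transvection, add_mul, ite_mul, one_mul,
      zero_mul, mul_assoc]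
    congr 2
    by_cases h2 : p.1.2 ∈ I.1 ∧ p.1.1 ∉ I.1 ∧ J = repl I p.1.1 p.1.2
    · rw [if_pos h2, if_pos h2]
    · rw [if_neg h2, if_neg h2, Int.cast_zero, zero_mul]
  simp only [Matrix.mulVec, dotProduct, hM]
  rw [Finset.sum_add_distrib, Finset.sum_ite_eq, if_pos (Finset.mem_univ _), ← Finset.mul_sum]
  congr 2
  by_cases hJ : p.1.1 ∈ J.1 ∧ p.1.2 ∉ J.1
  · obtain ⟨r1, r2, r3⟩ := repl_repl p.1.2 p.1.1 (fun h => p.2 h.symm) J hJ
    rw [if_pos hJ, Finset.sum_eq_single (repl J p.1.2 p.1.1)]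
    · rw [if_pos ⟨r1, r2, r3.symm⟩]
    · intro I _ hI
      rw [if_neg]
      rintro ⟨c1, c2, c3⟩
      apply hI
      obtain ⟨_, _, s3⟩ := repl_repl p.1.1 p.1.2 p.2 I ⟨c1, c2⟩
      rw [c3, s3]
    · intro h; exact absurd (Finset.mem_univ _) h
  · rw [if_neg hJ]
    apply Finset.sum_eq_zero
    intro I _
    rw [if_neg]
    rintro ⟨c1, c2, c3⟩
    apply hJ
    obtain ⟨s1, s2, _⟩ := repl_repl p.1.1 p.1.2 p.2 I ⟨c1, c2⟩
    rw [c3]
    exact ⟨s1, s2⟩

theorem tv_val (p : IJ) (t : F) : (tv p t).1 = Matrix.transvection p.1.1 p.1.2 t := rfl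

theorem Mm_mul_mulVec (g g' : SL6 F) (l : T3 → F) :
    Mm (g * g').1 *ᵥ l = Mm g.1 *ᵥ (Mm g'.1 *ᵥ l) := by
  rw [Matrix.SpecialLinearGroup.coe_mul, Cfsg.Agent.Lib.Helper6.E6MMHOM.Mm_mul',
    Matrix.mulVec_mulVec]

theorem Mm_one_mulVec (l : T3 → F) : Mm (1 : SL6 F).1 *ᵥ l = l := by
  rw [Matrix.SpecialLinearGroup.coe_one, Cfsg.Agent.Lib.Helper6.E6MMHOM.Mm_one, Matrix.one_mulVec]

/-! ### the torus -/

theorem minor_diagonal (d : Fin 6 → F) (J I : T3) :
    minor (Matrix.diagonal d) J I = if J = I then ∏ k, d (I.emb k) else 0 := by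
  classical
  unfold minor
  by_cases h : J = I
  · subst h
    rw [if_pos rfl]
    have : (Matrix.diagonal d).submatrix J.emb J.emb = Matrix.diagonal (fun k => d (J.emb k)) := by
      ext a b
      simp [Matrix.diagonal_apply, J.emb.injective.eq_iff]
    rw [this, Matrix.det_diagonal]
  · rw [if_neg h]
    have : ∃ a, J.emb a ∉ I.1 := by
      by_contra hcon
      push Not at hcon
      apply h
      apply Subtype.ext
      apply Finset.eq_of_subset_of_card_le
      · intro x hx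
        obtain ⟨a, rfl⟩ := (Cfsg.Agent.Lib.Helper4.E6MMTV.mem_T3 J x).mp hx
        exact hcon a
      · rw [I.2, J.2]
    obtain ⟨a, ha⟩ := this
    apply Matrix.det_eq_zero_of_row_eq_zero a
    intro b
    rw [Matrix.submatrix_apply, Matrix.diagonal_apply_ne]
    intro hh
    apply ha
    rw [hh]
    exact Cfsg.Agent.Lib.Helper2.E6MCell.emb_mem I b

theorem diag_coord (d : Fin 6 → F) (l : T3 → F) (J : T3) :
    (Mm (Matrix.diagonal d) *ᵥ l) J = (∏ k, d (J.emb k)) * l J := by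
  classical
  have hM : ∀ I, Mm (Matrix.diagonal d) J I * l I = if J = I then (∏ k, d (I.emb k)) * l I else 0 := by
    intro I
    have : Mm (Matrix.diagonal d) J I = minor (Matrix.diagonal d) J I := rfl
    rw [this, minor_diagonal]
    split_ifs <;> simp
  simp only [Matrix.mulVec, dotProduct, hM]
  rw [Finset.sum_ite_eq, if_pos (Finset.mem_univ _)]

/-- the torus element `diag(τ, 1, 1, τ⁻¹, 1, 1)` -/
noncomputable def hd (τ : F) : Fin 6 → F := fun i => if i = 0 then τ else if i = 3 then τ⁻¹ else 1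

theorem det_hd (τ : F) (hτ : τ ≠ 0) : (Matrix.diagonal (hd τ)).det = 1 := by
  rw [Matrix.det_diagonal, Fin.prod_univ_six]
  simp [hd, hτ]

noncomputable def hh (τ : F) (hτ : τ ≠ 0) : SL6 F := ⟨Matrix.diagonal (hd τ), det_hd τ hτ⟩

theorem hh_coord (τ : F) (hτ : τ ≠ 0) (l : T3 → F) :
    (Mm (hh τ hτ).1 *ᵥ l) I012 = τ * l I012 := by
  show (Mm (Matrix.diagonal (hd τ)) *ᵥ l) I012 = τ * l I012
  rw [diag_coord, Fin.prod_univ_three]
  simp only [Cfsg.Agent.Lib.Helper2.E6MCell.I012_emb]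
  simp [hd]

/-! ### the unipotent radical: prescribing the nine neighbour coordinates -/

theorem adjust (l : T3 → F) (h0 : l I012 ≠ 0) (v : T3 → F) (S : Finset T3)
    (hS : ∀ K ∈ S, dd K = 2) :
    ∃ g : SL6 F, (Mm g.1 *ᵥ l) I012 = l I012 ∧ ∀ K ∈ S, (Mm g.1 *ᵥ l) K = v K := by
  classical
  induction S using Finset.induction_on with
  | empty => exact ⟨1, by rw [Mm_one_mulVec], by simp⟩
  | insert K S hK ih =>
    obtain ⟨g, hg0, hgS⟩ := ih (fun K' hK' => hS K' (Finset.mem_insert_of_mem hK'))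
    have hdK : dd K = 2 := hS K (Finset.mem_insert_self _ _)
    obtain ⟨p, hp1, hp2, hpK1, hpK2⟩ := dd_two K hdK
    have hKrepl : repl K p.1.2 p.1.1 = I012 := by
      apply dd_three
      have := dd_repl_up p.1.2 p.1.1 K ⟨hp2, hp1, hpK1, hpK2⟩
      omega
    set l' := Mm g.1 *ᵥ l with hl'
    have hl0 : l' I012 ≠ 0 := by rw [hg0]; exact h0
    set ε : F := ((rsgn I012 p.1.1 p.1.2 : ℤ) : F) with hε
    have hεε : ε * ε = 1 := rsgn_mul_self I012 p.1.1 p.1.2
    refine ⟨tv p (ε * (v K - l' K) / l' I012) * g, ?_, ?_⟩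
    · rw [Mm_mul_mulVec, tv_val, tv_coord, if_neg, mul_zero, add_zero]
      · exact hg0
      rintro ⟨c1, _⟩
      have := (mem_I012 p.1.1).mp c1
      omega
    · intro K' hK'
      rw [Mm_mul_mulVec, tv_val, tv_coord]
      rcases Finset.mem_insert.mp hK' with rfl | hK'S
      · rw [if_pos ⟨hpK1, hpK2⟩, hKrepl]
        show l' K' + ε * (v K' - l' K') / l' I012 * (ε * l' I012) = v K'
        field_simp
        linear_combination (v K' - l' K') * hεε
      · have hne : K' ≠ K := fun h => hK (h ▸ hK'S)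
        rw [if_neg, mul_zero, add_zero]
        · exact hgS K' hK'S
        rintro ⟨c1, c2⟩
        apply hne
        have hd' : dd K' = 2 := hS K' hK'
        have hK'repl : repl K' p.1.2 p.1.1 = I012 := by
          apply dd_three
          have := dd_repl_up p.1.2 p.1.1 K' ⟨hp2, hp1, c1, c2⟩
          omega
        have e1 := (repl_repl p.1.2 p.1.1 (fun h => p.2 h.symm) K' ⟨c1, c2⟩).2.2
        have e2 := (repl_repl p.1.2 p.1.1 (fun h => p.2 h.symm) K ⟨hpK1, hpK2⟩).2.2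
        rw [← e1, ← e2, hK'repl, hKrepl]

/-! ### moving a shape -/

theorem move (σ : T3 → F) (hsh : ∀ K, dd K = 2 → σ K = 0) (hne : ∃ K, K ≠ I012 ∧ σ K ≠ 0) :
    ∃ g : SL6 F, (Mm g.1 *ᵥ σ) I012 = σ I012 ∧ (∀ K, dd K = 2 → (Mm g.1 *ᵥ σ) K = 0) ∧
      Mm g.1 *ᵥ σ ≠ σ := by
  classical
  by_cases h1 : ∃ K, dd K = 1 ∧ σ K ≠ 0
  · obtain ⟨K, hK1, hKσ⟩ := h1
    obtain ⟨p, hpK2, hpK1, hp1, hp2⟩ := dd_one K hK1
    refine ⟨tv p 1, ?_, ?_, ?_⟩
    · rw [tv_val, tv_coord, if_neg, mul_zero, add_zero]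
      rintro ⟨_, c2⟩
      exact c2 ((mem_I012 p.1.2).mpr hp2)
    · intro J hJ
      rw [tv_val, tv_coord, hsh J hJ]
      by_cases hc : p.1.1 ∈ J.1 ∧ p.1.2 ∉ J.1
      · rw [if_pos hc, hsh _ (by rw [dd_repl_same p.1.2 p.1.1 J hp2 hp1]; exact hJ)]
        simp
      · rw [if_neg hc]; simp
    · intro heq
      obtain ⟨r1, r2, r3⟩ := repl_repl p.1.1 p.1.2 p.2 K ⟨hpK2, hpK1⟩
      have := congrFun heq (repl K p.1.1 p.1.2)
      rw [tv_val, tv_coord, if_pos ⟨r1, r2⟩, r3, one_mul] at this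
      have h0 : ((rsgn K p.1.1 p.1.2 : ℤ) : F) * σ K = 0 := by
        linear_combination this
      rcases mul_eq_zero.mp h0 with h | h
      · exact rsgn_ne_zero K p.1.1 p.1.2 h
      · exact hKσ h
  · push Not at h1
    have h345 : σ I345 ≠ 0 := by
      obtain ⟨K, hK, hKσ⟩ := hne
      have : K = I345 := dd_other K hK (fun h => hKσ (h1 K h)) (fun h => hKσ (hsh K h))
      rw [← this]; exact hKσ
    have hp03 : p03.1 = ((0 : Fin 6), (3 : Fin 6)) := rfl
    refine ⟨tv p03 1, ?_, ?_, ?_⟩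
    · rw [tv_val, tv_coord]
      by_cases hc : p03.1.1 ∈ I012.1 ∧ p03.1.2 ∉ I012.1
      · rw [if_pos hc, hsh (repl I012 p03.1.2 p03.1.1)]
        · simp
        · have := dd_repl_down p03.1.2 p03.1.1 I012 ⟨by decide, by decide, hc.1, hc.2⟩
          rw [dd_I012] at this
          omega
      · rw [if_neg hc]; simp
    · intro J hJ
      rw [tv_val, tv_coord, hsh J hJ]
      by_cases hc : p03.1.1 ∈ J.1 ∧ p03.1.2 ∉ J.1
      · rw [if_pos hc, h1 (repl J p03.1.2 p03.1.1)]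
        · simp
        · have := dd_repl_down p03.1.2 p03.1.1 J ⟨by decide, by decide, hc.1, hc.2⟩
          omega
      · rw [if_neg hc]; simp
    · intro heq
      have := congrFun heq I045
      rw [tv_val, tv_coord, if_pos (by exact I045_mem), one_mul] at this
      have e : repl I045 p03.1.2 p03.1.1 = I345 := repl_I045
      rw [e] at this
      have h0 : ((rsgn I345 p03.1.1 p03.1.2 : ℤ) : F) * σ I345 = 0 := by
        linear_combination this
      rcases mul_eq_zero.mp h0 with h | h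
      · exact rsgn_ne_zero _ _ _ h
      · exact h345 h

/-! ### reaching the coordinate `012` -/

theorem reach : ∀ (m : ℕ) (I : T3), dd I + m = 3 → ∀ l : T3 → F, l I ≠ 0 →
    ∃ g : SL6 F, (Mm g.1 *ᵥ l) I012 ≠ 0 := by
  classical
  intro m
  induction m with
  | zero =>
    intro I hI l hl
    have : I = I012 := dd_three I (by omega)
    subst this
    exact ⟨1, by rw [Mm_one_mulVec]; exact hl⟩
  | succ m ih =>
    intro I hI l hl
    obtain ⟨p, hp1, hp2, hpI2, hpI1⟩ := dd_lt I (by omega)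
    obtain ⟨r1, r2, r3⟩ := repl_repl p.1.1 p.1.2 p.2 I ⟨hpI2, hpI1⟩
    have hdJ : dd (repl I p.1.1 p.1.2) + m = 3 := by
      have := dd_repl_up p.1.1 p.1.2 I ⟨hp1, hp2, hpI2, hpI1⟩
      omega
    have hco : ∀ t : F, (Mm (tv p t).1 *ᵥ l) (repl I p.1.1 p.1.2) =
        l (repl I p.1.1 p.1.2) + t * (((rsgn I p.1.1 p.1.2 : ℤ) : F) * l I) := by
      intro t
      rw [tv_val, tv_coord, if_pos ⟨r1, r2⟩, r3]
    by_cases hJ : l (repl I p.1.1 p.1.2) = 0
    · obtain ⟨g, hg⟩ := ih (repl I p.1.1 p.1.2) hdJ (Mm (tv p 1).1 *ᵥ l) (by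
        rw [hco, hJ, zero_add, one_mul]
        exact mul_ne_zero (rsgn_ne_zero _ _ _) hl)
      exact ⟨g * tv p 1, by rw [Mm_mul_mulVec]; exact hg⟩
    · exact ih (repl I p.1.1 p.1.2) hdJ l hJ

theorem dd_le : ∀ K : T3, dd K ≤ 3 := by decide +kernel

theorem single_eq_hh (τ : F) (hτ : τ ≠ 0) :
    (Pi.single I012 τ : T3 → F) = Mm (hh τ hτ).1 *ᵥ Pi.single I012 1 := by
  funext J
  show _ = (Mm (Matrix.diagonal (hd τ)) *ᵥ _) J
  rw [diag_coord]
  by_cases hJ : J = I012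
  · subst hJ
    rw [Pi.single_eq_same, Pi.single_eq_same, mul_one, Fin.prod_univ_three]
    simp only [Cfsg.Agent.Lib.Helper2.E6MCell.I012_emb]
    simp [hd]
  · rw [Pi.single_eq_of_ne hJ, Pi.single_eq_of_ne hJ, mul_zero]

section count

variable [Fintype F] [DecidableEq F]
variable (c : (T3 → F) → ℕ) (hinv : ∀ (g : SL6 F) (l : T3 → F), c (Mm g.1 *ᵥ l) = c l)

include hinv

/-- all the elements of all the cells have the same multiplicity -/
theorem cell_const (I : T3) (l : T3 → F) (hl : l ∈ Cell I) : c l = c (Pi.single I012 1) := by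
  obtain ⟨c', A, hc', rfl⟩ := hl
  obtain ⟨g, hg⟩ := Cfsg.Agent.Lib.Helper2.E6MCell.cell_orbit I A c'
  rw [hg, hinv, single_eq_hh c' hc', hinv]

/-- the shape argument: the multiplicity of the decomposable vectors is not `0` -/
theorem no_extra
    (hsum : ∑ l ∈ Finset.univ.filter (fun l : T3 → F => l I012 ≠ 0), c l =
      (Fintype.card F - 1) * Fintype.card F ^ 9)
    (h0 : c (Pi.single I012 1) = 0) : False := by
  classical
  have hq : 1 < Fintype.card F := Fintype.one_lt_card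
  have hN : 0 < (Fintype.card F - 1) * Fintype.card F ^ 9 :=
    Nat.mul_pos (Nat.sub_pos_of_lt hq) (pow_pos (by omega) _)
  -- a vector with positive multiplicity
  have hex : ∃ l₀ : T3 → F, l₀ I012 ≠ 0 ∧ c l₀ ≠ 0 := by
    by_contra hcon
    push Not at hcon
    rw [Finset.sum_eq_zero (fun l hl => hcon l (Finset.mem_filter.mp hl).2)] at hsum
    omega
  obtain ⟨l₀, hl₀, hcl₀⟩ := hex
  -- its shape
  obtain ⟨g, hg0, hgS⟩ := adjust l₀ hl₀ 0 (Finset.univ.filter (fun K : T3 => dd K = 2))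
    (fun K hK => (Finset.mem_filter.mp hK).2)
  set σ := Mm g.1 *ᵥ l₀ with hσ
  have hσ0 : σ I012 ≠ 0 := by rw [hg0]; exact hl₀
  have hσsh : ∀ K, dd K = 2 → σ K = 0 := fun K hK =>
    hgS K (Finset.mem_filter.mpr ⟨Finset.mem_univ _, hK⟩)
  have hcσ : c σ ≠ 0 := by rw [hσ, hinv]; exact hcl₀
  have hne : ∃ K, K ≠ I012 ∧ σ K ≠ 0 := by
    by_contra hcon
    push Not at hcon
    have : σ = Pi.single I012 (σ I012) := by
      funext J
      by_cases hJ : J = I012
      · subst hJ; rw [Pi.single_eq_same]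
      · rw [Pi.single_eq_of_ne hJ, hcon J hJ]
    apply hcσ
    rw [this, single_eq_hh _ hσ0, hinv, h0]
  obtain ⟨g', hg'0, hg'sh, hg'ne⟩ := move σ hσsh hne
  set σ' := Mm g'.1 *ᵥ σ with hσ'
  have hcσ' : c σ' ≠ 0 := by rw [hσ', hinv]; exact hcσ
  -- the map to the coordinates `012` and the nine neighbours
  set Ψ : (T3 → F) → F × ({K : T3 // dd K = 2} → F) := fun l => (l I012, fun K => l K.1) with hΨ
  set YF := Finset.univ.filter (fun l : T3 → F => l I012 ≠ 0 ∧ c l ≠ 0) with hYF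
  set Tgt := (Finset.univ.filter (fun a : F => a ≠ 0)) ×ˢ
    (Finset.univ : Finset ({K : T3 // dd K = 2} → F)) with hTgt
  have hTcard : Tgt.card = (Fintype.card F - 1) * Fintype.card F ^ 9 := by
    rw [hTgt, Finset.card_product, Finset.filter_ne' , Finset.card_erase_of_mem (Finset.mem_univ _),
      Finset.card_univ, Finset.card_univ, Fintype.card_fun, card_nb]
  have hsurj : Tgt ⊆ YF.image Ψ := by
    rintro ⟨c', v⟩ hx
    have hc' : c' ≠ 0 := (Finset.mem_filter.mp (Finset.mem_product.mp hx).1).2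
    have hτ : c' / σ I012 ≠ 0 := div_ne_zero hc' hσ0
    set l₁ := Mm (hh (c' / σ I012) hτ).1 *ᵥ σ with hl₁
    have hl₁0 : l₁ I012 = c' := by
      rw [hl₁, hh_coord]; field_simp
    obtain ⟨g₂, h20, h2S⟩ := adjust l₁ (by rw [hl₁0]; exact hc')
      (fun K => if h : dd K = 2 then v ⟨K, h⟩ else 0)
      (Finset.univ.filter (fun K : T3 => dd K = 2)) (fun K hK => (Finset.mem_filter.mp hK).2)
    rw [Finset.mem_image]
    refine ⟨Mm g₂.1 *ᵥ l₁, ?_, ?_⟩
    · rw [hYF, Finset.mem_filter]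
      refine ⟨Finset.mem_univ _, ?_, ?_⟩
      · rw [h20, hl₁0]; exact hc'
      · rw [hinv, hl₁, hinv]; exact hcσ
    · rw [hΨ]
      refine Prod.ext ?_ ?_
      · show (Mm g₂.1 *ᵥ l₁) I012 = c'
        rw [h20, hl₁0]
      · funext K
        show (Mm g₂.1 *ᵥ l₁) K.1 = v K
        rw [h2S K.1 (Finset.mem_filter.mpr ⟨Finset.mem_univ _, K.2⟩), dif_pos K.2]
  have hninj : ¬ Set.InjOn Ψ YF := by
    intro hinj
    have h1 : σ ∈ YF := by
      rw [hYF, Finset.mem_filter]; exact ⟨Finset.mem_univ _, hσ0, hcσ⟩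
    have h2 : σ' ∈ YF := by
      rw [hYF, Finset.mem_filter]
      refine ⟨Finset.mem_univ _, ?_, hcσ'⟩
      rw [hg'0]; exact hσ0
    apply hg'ne
    refine hinj (Finset.mem_coe.mpr h2) (Finset.mem_coe.mpr h1) ?_
    rw [hΨ]
    refine Prod.ext ?_ ?_
    · exact hg'0
    · funext K
      show σ' K.1 = σ K.1
      rw [hg'sh K.1 K.2, hσsh K.1 K.2]
  have hlt : (YF.image Ψ).card < YF.card :=
    lt_of_le_of_ne Finset.card_image_le (fun h => hninj (Finset.card_image_iff.mp h))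
  have hY : YF.card ≤ ∑ l ∈ Finset.univ.filter (fun l : T3 → F => l I012 ≠ 0), c l := by
    have hsub : YF ⊆ Finset.univ.filter (fun l : T3 → F => l I012 ≠ 0) := by
      intro l hl
      rw [hYF, Finset.mem_filter] at hl
      exact Finset.mem_filter.mpr ⟨Finset.mem_univ _, hl.2.1⟩
    calc YF.card = ∑ _l ∈ YF, 1 := (Finset.card_eq_sum_ones YF)
      _ ≤ ∑ l ∈ YF, c l := Finset.sum_le_sum (fun l hl => by
          rw [hYF, Finset.mem_filter] at hl
          exact Nat.one_le_iff_ne_zero.mpr hl.2.2)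
      _ ≤ _ := Finset.sum_le_sum_of_subset hsub
  have := Finset.card_le_card hsurj
  omega

/-- the case `I = {0,1,2}` -/
theorem supp012
    (hsum : ∑ l ∈ Finset.univ.filter (fun l : T3 → F => l I012 ≠ 0), c l =
      (Fintype.card F - 1) * Fintype.card F ^ 9) :
    c (Pi.single I012 1) = 1 ∧ ∀ l : T3 → F, l I012 ≠ 0 → l ∉ Cell I012 → c l = 0 := by
  classical
  have hq : 1 < Fintype.card F := Fintype.one_lt_card
  have hN : 0 < (Fintype.card F - 1) * Fintype.card F ^ 9 :=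
    Nat.mul_pos (Nat.sub_pos_of_lt hq) (pow_pos (by omega) _)
  set XF := Finset.univ.filter (fun l : T3 → F => l I012 ≠ 0) with hXF
  set CellF := Finset.univ.filter (fun l : T3 → F => l ∈ Cell I012) with hCellF
  have hCcard : CellF.card = (Fintype.card F - 1) * Fintype.card F ^ 9 := by
    rw [← Cfsg.Agent.Lib.Helper2.E6MCell.cell_card (F := F) I012, Nat.card_eq_fintype_card,
      Fintype.card_subtype]
  have hsub : CellF ⊆ XF := by
    intro l hl
    rw [hCellF, Finset.mem_filter] at hl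
    obtain ⟨c', A, hc', rfl⟩ := hl.2
    rw [hXF, Finset.mem_filter]
    refine ⟨Finset.mem_univ _, ?_⟩
    rw [Pi.smul_apply, Cfsg.Agent.Lib.Helper2.E6MCell.cell_coord, smul_eq_mul, mul_one]
    exact hc'
  have hsplit := Finset.sum_sdiff (f := c) hsub
  have hcell : ∑ l ∈ CellF, c l = ((Fintype.card F - 1) * Fintype.card F ^ 9) *
      c (Pi.single I012 1) := by
    rw [Finset.sum_congr rfl (fun l hl => cell_const c hinv I012 l
      (by rw [hCellF, Finset.mem_filter] at hl; exact hl.2)), Finset.sum_const, hCcard,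
      smul_eq_mul]
  rw [hcell, hsum] at hsplit
  have hc0 : c (Pi.single I012 1) ≠ 0 := fun h => no_extra c hinv hsum h
  have hc1 : c (Pi.single I012 1) = 1 := by
    by_contra hne
    have h2 : 2 ≤ c (Pi.single I012 1) := by omega
    have := Nat.mul_le_mul_left ((Fintype.card F - 1) * Fintype.card F ^ 9) h2
    omega
  refine ⟨hc1, fun l hl hnot => ?_⟩
  rw [hc1, mul_one] at hsplit
  have hR : ∑ l ∈ XF \ CellF, c l = 0 := by omega
  rw [Finset.sum_eq_zero_iff] at hR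
  apply hR
  rw [Finset.mem_sdiff, hXF, hCellF, Finset.mem_filter, Finset.mem_filter]
  exact ⟨⟨Finset.mem_univ _, hl⟩, fun h => hnot h.2⟩

/-- unit SUPP (the shape argument) -/
theorem supp
    (hsum : ∑ l ∈ Finset.univ.filter (fun l : T3 → F => l I012 ≠ 0), c l =
      (Fintype.card F - 1) * Fintype.card F ^ 9) :
    ∀ (I : T3) (l : T3 → F), l I ≠ 0 → (l ∈ Cell I → c l = 1) ∧ (l ∉ Cell I → c l = 0) := by
  classical
  obtain ⟨hc1, hX⟩ := supp012 c hinv hsum
  intro I l hl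
  refine ⟨fun hmem => ?_, fun hnot => ?_⟩
  · rw [cell_const c hinv I l hmem, hc1]
  · by_contra hcl
    obtain ⟨g, hg⟩ := reach (3 - dd I) I (by have := dd_le I; omega) l hl
    have hcl' : c (Mm g.1 *ᵥ l) ≠ 0 := by rw [hinv]; exact hcl
    have hmem' : Mm g.1 *ᵥ l ∈ Cell I012 := by
      by_contra h
      exact hcl' (hX _ hg h)
    obtain ⟨c', A, hc', hA⟩ := hmem'
    have hl_eq : l = Mm (g⁻¹).1 *ᵥ (Mm g.1 *ᵥ l) := by
      rw [← Mm_mul_mulVec, inv_mul_cancel, Mm_one_mulVec]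
    have hD : (Matrix.diagonal (fun k : Fin 3 => if k = 0 then c' else 1)).det = c' := by
      rw [Matrix.det_diagonal, Fin.prod_univ_three]; simp
    have e : l = pl (((g⁻¹).1 * cellMat I012 A) *
        Matrix.diagonal (fun k : Fin 3 => if k = 0 then c' else 1)) := by
      rw [Cfsg.Agent.Lib.Helper6.E6MCELLS.pl_mul_right, hD,
        Cfsg.Agent.Lib.Helper6.E6MMHOM.pl_mul', ← Matrix.mulVec_smul, ← hA]
      exact hl_eq
    apply hnot
    rw [e]
    apply Cfsg.Agent.Lib.Helper6.E6MCELLS.mem_cell_of_pl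
    rw [← e]
    exact hl

end count

end Cfsg.Agent.Lib.Helper6.E6MSUPP
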