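import Mathlib
import Cfsg.Prelude.Def_ChevStructure
import Cfsg.Agent.Lib.Helper5.ChevW0
import Cfsg.Agent.Lib.Helper5.ChevTorus
import Cfsg.Agent.Lib.Helper5.ChevTorusAct
import Cfsg.Agent.Lib.Helper5.ChevGen
import Cfsg.Agent.Lib.Helper5.ChevBnB
import Cfsg.Agent.Lib.Helper5.ChevMonoN
import Cfsg.Agent.Lib.Helper5.ChevNormal
import Cfsg.Agent.Lib.Helper5.ChevWRel
import Cfsg.Agent.Lib.Helper5.ChevRankOne
import Cfsg.Agent.Lib.Helper5.FieldFix.Basic
import Cfsg.Agent.Lib.Helper1.InvolN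
import Cfsg.Agent.Lib.Helper1.InvolMoves

set_option autoImplicit false

/-!
Unit R of the S4278 farm (G₂(q), q odd: all involutions are conjugate):
the case of a SIMPLE reflection.  For `m = n_i h` (`h ∈ H`) with `m * m = 1`:

* `refl_square` (R1): `m x_{α_i}(c) m⁻¹ = x_{-α_i}(k² c)` for some `k ≠ 0`;
* `refl_conj_diag` (R2): some conjugate of `m` under the group lies in `H`.
-/

namespace Cfsg.Agent.Lib.Helper6.G2InvR

open Cfsg Cfsg.Lie Cfsg.Agent.Lib.Helper5.ChevSym Cfsg.Agent.Lib.Helper5.ChevStruct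
  Cfsg.Agent.Lib.Helper1.InvolN Cfsg.Agent.Lib.Helper1.InvolMoves

variable {F : Type*} [Field F]

/-- conjugation by `n_i h` on a root element (all seven types) -/
theorem h6_nh_conj (D : ChevalleyDatum) (hD : D ∈ Seven) (i : ℕ) (hi : i < D.rank)
    (h : GL D.Idx F) (c : ℕ → F) (hc : ∀ j, c j ≠ 0)
    (hv : (h : Matrix D.Idx D.Idx F) = torusMat D c) (s : ℕ) (hs : s < D.nroots) (t : F) :
    (nGL D hD i * h) * xGL D hD s t * (nGL D hD i * h)⁻¹
      = xGL D hD (D.reflectRoot i s) ((eta D i s : F) * (chi D c s * t)) := by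
  have e1 : (nGL D hD i * h) * xGL D hD s t * (nGL D hD i * h)⁻¹
      = nGL D hD i * (h * xGL D hD s t * h⁻¹) * (nGL D hD i)⁻¹ := by group
  rw [e1]
  apply Units.ext
  rw [nGL_conj D hD i hi s hs (chi D c s * t) (h * xGL D hD s t * h⁻¹)
    (torus_conj_x D hD h (xGL D hD s t) c hc hv s t (xGL_val D hD s t)), xGL_val]

theorem h6_xGL_inj (D : ChevalleyDatum) (hD : D ∈ Seven) (r : ℕ) (hr : r < D.nroots) (t u : F)
    (h : xGL D hD r t = xGL D hD r u) : t = u := by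
  apply Cfsg.Agent.Lib.Helper5.FieldFix.x_inj_param D hD r hr
  have := congrArg (fun g : GL D.Idx F => (g : Matrix D.Idx D.Idx F)) h
  simpa [xGL_val] using this

theorem h6_range2 : List.range chevG2.rank = [0, 1] := rfl

theorem h6_cartan_vals : chevG2.cartan 0 6 = -3 ∧ chevG2.cartan 1 6 = 2 ∧ chevG2.cartan 0 7 = 2 ∧
    chevG2.cartan 1 7 = -1 ∧ chevG2.cartan 0 8 = -1 ∧ chevG2.cartan 1 8 = 1 ∧
    chevG2.cartan 0 10 = 3 ∧ chevG2.cartan 1 10 = -1 := by decide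

theorem h6_chi6 (c : ℕ → F) : chi chevG2 c 6 = (c 0) ^ (-3 : ℤ) * (c 1) ^ (2 : ℤ) := by
  unfold chi
  rw [h6_range2]
  simp only [List.map_cons, List.map_nil, List.prod_cons, List.prod_nil]
  rw [h6_cartan_vals.1, h6_cartan_vals.2.1, mul_one]

theorem h6_chi7 (c : ℕ → F) : chi chevG2 c 7 = (c 0) ^ (2 : ℤ) * (c 1) ^ (-1 : ℤ) := by
  unfold chi
  rw [h6_range2]
  simp only [List.map_cons, List.map_nil, List.prod_cons, List.prod_nil]
  rw [h6_cartan_vals.2.2.1, h6_cartan_vals.2.2.2.1, mul_one]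

theorem h6_chi8 (c : ℕ → F) : chi chevG2 c 8 = (c 0) ^ (-1 : ℤ) * (c 1) ^ (1 : ℤ) := by
  unfold chi
  rw [h6_range2]
  simp only [List.map_cons, List.map_nil, List.prod_cons, List.prod_nil]
  rw [h6_cartan_vals.2.2.2.2.1, h6_cartan_vals.2.2.2.2.2.1, mul_one]

theorem h6_chi10 (c : ℕ → F) : chi chevG2 c 10 = (c 0) ^ (3 : ℤ) * (c 1) ^ (-1 : ℤ) := by
  unfold chi
  rw [h6_range2]
  simp only [List.map_cons, List.map_nil, List.prod_cons, List.prod_nil]
  rw [h6_cartan_vals.2.2.2.2.2.2.1, h6_cartan_vals.2.2.2.2.2.2.2, mul_one]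

theorem h6_tab : chevG2.reflectRoot 0 6 = 10 ∧ chevG2.reflectRoot 0 10 = 6 ∧
    chevG2.reflectRoot 0 7 = 4 ∧ chevG2.neg 7 = 4 ∧ chevG2.reflectRoot 1 7 = 8 ∧
    chevG2.reflectRoot 1 8 = 7 ∧ chevG2.reflectRoot 1 6 = 5 ∧ chevG2.neg 6 = 5 ∧
    chevG2.simple 0 = 7 ∧ chevG2.simple 1 = 6 ∧ chevG2.rank = 2 ∧ chevG2.nroots = 12 := by decide

theorem h6_eta : eta chevG2 0 6 = 1 ∧ eta chevG2 0 10 = -1 ∧ eta chevG2 0 7 = -1 ∧
    eta chevG2 1 7 = 1 ∧ eta chevG2 1 8 = -1 ∧ eta chevG2 1 6 = -1 := by decide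

/-- twice conjugating by the involution `m` is the identity -/
theorem h6_conj_twice {G : Type*} [Group G] (m x : G) (hmm : m * m = 1) :
    m * (m * x * m⁻¹) * m⁻¹ = x := by
  have hinv : m⁻¹ = m := inv_eq_of_mul_eq_one_left hmm
  rw [hinv]
  calc m * (m * x * m) * m = (m * m) * x * (m * m) := by group
    _ = x := by rw [hmm, one_mul, mul_one]

/-- **R1**: the simple-reflection involutions `n_i h` of `G₂` act on `X_{α_i}` through a square -/
theorem refl_square (hD : chevG2 ∈ Seven) (i : ℕ) (hi : i < 2) (h m : GL chevG2.Idx F)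
    (hh : h ∈ chevG2.diagonalSubgroup F) (hm : m = nGL chevG2 hD i * h) (hmm : m * m = 1) :
    ∃ k : F, k ≠ 0 ∧ ∀ c : F, m * xGL chevG2 hD (chevG2.simple i) c * m⁻¹
      = xGL chevG2 hD (chevG2.neg (chevG2.simple i)) (k * k * c) := by
  obtain ⟨c, hc, hv⟩ := exists_torusMat_of_mem chevG2 hD h hh
  have hc0 := hc 0
  have hc1 := hc 1
  interval_cases i
  · -- `i = 0`, test root `6`
    have k1 := h6_nh_conj chevG2 hD 0 (by decide) h c hc hv 6 (by decide) (1 : F)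
    have k2 := h6_nh_conj chevG2 hD 0 (by decide) h c hc hv 10 (by decide)
      ((eta chevG2 0 6 : F) * (chi chevG2 c 6 * 1))
    rw [← hm] at k1 k2
    rw [h6_tab.1] at k1
    rw [h6_tab.2.1] at k2
    have k3 := h6_conj_twice m (xGL chevG2 hD 6 (1 : F)) hmm
    rw [k1, k2] at k3
    have k4 := h6_xGL_inj chevG2 hD 6 (by decide) _ _ k3
    rw [h6_eta.1, h6_eta.2.1, h6_chi6, h6_chi10] at k4
    have e : (c 0) ^ (3 : ℤ) * (c 1) ^ (-1 : ℤ) * ((c 0) ^ (-3 : ℤ) * (c 1) ^ (2 : ℤ)) = c 1 := by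
      simp only [zpow_neg, zpow_ofNat, zpow_one]
      field_simp
    push_cast at k4
    have hc1' : c 1 = -1 := by
      linear_combination (-1 : F) * k4 - e
    refine ⟨c 0, hc0, fun t => ?_⟩
    have k5 := h6_nh_conj chevG2 hD 0 (by decide) h c hc hv 7 (by decide) t
    rw [← hm] at k5
    rw [h6_tab.2.2.2.2.2.2.2.2.1, h6_tab.2.2.2.1, k5, h6_tab.2.2.1, h6_eta.2.2.1, h6_chi7, hc1']
    congr 1
    simp only [zpow_neg, zpow_ofNat, Int.cast_one, Int.cast_neg, zpow_one]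
    field_simp
  · -- `i = 1`, test root `7`
    have k1 := h6_nh_conj chevG2 hD 1 (by decide) h c hc hv 7 (by decide) (1 : F)
    have k2 := h6_nh_conj chevG2 hD 1 (by decide) h c hc hv 8 (by decide)
      ((eta chevG2 1 7 : F) * (chi chevG2 c 7 * 1))
    rw [← hm] at k1 k2
    rw [h6_tab.2.2.2.2.1] at k1
    rw [h6_tab.2.2.2.2.2.1] at k2
    have k3 := h6_conj_twice m (xGL chevG2 hD 7 (1 : F)) hmm
    rw [k1, k2] at k3
    have k4 := h6_xGL_inj chevG2 hD 7 (by decide) _ _ k3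
    rw [h6_eta.2.2.2.1, h6_eta.2.2.2.2.1, h6_chi7, h6_chi8] at k4
    have e : (c 0) ^ (-1 : ℤ) * (c 1) ^ (1 : ℤ) * ((c 0) ^ (2 : ℤ) * (c 1) ^ (-1 : ℤ)) = c 0 := by
      simp only [zpow_neg, zpow_ofNat, zpow_one]
      field_simp
    push_cast at k4
    have hc0' : c 0 = -1 := by
      linear_combination (-1 : F) * k4 - e
    refine ⟨c 1, hc1, fun t => ?_⟩
    have k5 := h6_nh_conj chevG2 hD 1 (by decide) h c hc hv 6 (by decide) t
    rw [← hm] at k5
    rw [h6_tab.2.2.2.2.2.2.2.2.2.1, h6_tab.2.2.2.2.2.2.2.1, k5, h6_tab.2.2.2.2.2.2.1,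
      h6_eta.2.2.2.2.2, h6_chi6, hc0']
    congr 1
    simp only [zpow_neg, zpow_ofNat, Int.cast_one, Int.cast_neg, zpow_one]
    field_simp

/-- **R2**: a simple-reflection involution `n_i h` of `G₂(q)`, `q` odd, is conjugate into `H` -/
theorem refl_conj_diag [Fintype F] (hodd : Odd (Fintype.card F)) (hD : chevG2 ∈ Seven) (i : ℕ)
    (hi : i < 2) (h m : GL chevG2.Idx F) (hh : h ∈ chevG2.diagonalSubgroup F)
    (hm : m = nGL chevG2 hD i * h) (hmm : m * m = 1) :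
    ∃ g ∈ chevG2.group F, g * m * g⁻¹ ∈ chevG2.diagonalSubgroup F := by
  obtain ⟨k, hk, hc⟩ := refl_square hD i hi h m hh hm hmm
  have hi' : i < chevG2.rank := hi
  have hdrop := drop_move chevG2 hD (chevG2.simple i) m (k * k) (mul_ne_zero hk hk) hmm hc k rfl
  have hk' : -k⁻¹ ≠ 0 := neg_ne_zero.2 (inv_ne_zero hk)
  -- the `N`-part of the drop move is `h_i(-1/k) n_i`
  have hnr : xGL chevG2 hD (chevG2.simple i) (-k⁻¹) * xGL chevG2 hD (chevG2.neg (chevG2.simple i)) k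
      * xGL chevG2 hD (chevG2.simple i) (-k⁻¹)
      = hGL chevG2 hD (chevG2.simple i) (-k⁻¹) * nGL chevG2 hD i := by
    apply Units.ext
    rw [Units.val_mul, Units.val_mul, Units.val_mul, xGL_val, xGL_val, hGL_val, nGL_val,
      ← nMat_eq_hMat_mul chevG2 hD, nMat_eq]
    have : -(-k⁻¹)⁻¹ = k := by rw [inv_neg, neg_neg, inv_inv]
    rw [this]
  have hnn : nGL chevG2 hD i * nGL chevG2 hD i = (hGL chevG2 hD (chevG2.simple i) (-1 : F))⁻¹ := by
    rw [eq_inv_iff_mul_eq_one]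
    apply Units.ext
    rw [Units.val_mul, Units.val_mul, nGL_val, hGL_val, hMat_eq, Units.val_one]
    have e1 := nMat_mul_neg (F := F) chevG2 hD (chevG2.simple i) (1 : F)
    calc chevG2.nMat F (chevG2.simple i) 1 * chevG2.nMat F (chevG2.simple i) 1
          * (chevG2.nMat F (chevG2.simple i) (-1) * chevG2.nMat F (chevG2.simple i) (-1))
        = chevG2.nMat F (chevG2.simple i) 1 * ((chevG2.nMat F (chevG2.simple i) 1
          * chevG2.nMat F (chevG2.simple i) (-1)) * chevG2.nMat F (chevG2.simple i) (-1)) := by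
          simp only [mul_assoc]
      _ = 1 := by rw [e1, one_mul, e1]
  have hH1 : hGL chevG2 hD (chevG2.simple i) (-k⁻¹) ∈ chevG2.diagonalSubgroup F :=
    mem_diagonal_of_val chevG2 _ _ (simple_pos chevG2 hD i hi').1 _ hk' (hGL_val chevG2 hD _ _)
  have hH2 : hGL chevG2 hD (chevG2.simple i) (-1 : F) ∈ chevG2.diagonalSubgroup F :=
    mem_diagonal_of_val chevG2 _ _ (simple_pos chevG2 hD i hi').1 _ (neg_ne_zero.2 one_ne_zero)
      (hGL_val chevG2 hD _ _)
  have hnm : xGL chevG2 hD (chevG2.simple i) (-k⁻¹)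
      * xGL chevG2 hD (chevG2.neg (chevG2.simple i)) k
      * xGL chevG2 hD (chevG2.simple i) (-k⁻¹) * m ∈ chevG2.diagonalSubgroup F := by
    rw [hnr, hm]
    have : hGL chevG2 hD (chevG2.simple i) (-k⁻¹) * nGL chevG2 hD i * (nGL chevG2 hD i * h)
        = hGL chevG2 hD (chevG2.simple i) (-k⁻¹) * (nGL chevG2 hD i * nGL chevG2 hD i) * h := by
      group
    rw [this, hnn]
    exact mul_mem (mul_mem hH1 (inv_mem hH2)) hh
  -- the conjugate lies in `B`
  set b : GL chevG2.Idx F := xGL chevG2 hD (chevG2.neg (chevG2.simple i)) k * m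
    * (xGL chevG2 hD (chevG2.neg (chevG2.simple i)) k)⁻¹ with hb
  have hbB : b ∈ chevG2.borelSubgroup F := by
    rw [hdrop]
    exact mul_mem (pos_le_borel chevG2 (xGL_mem_pos chevG2 hD _ (simple_pos chevG2 hD i hi') _))
      (diagonal_le_borel chevG2 hnm)
  have hbb : b * b = 1 := by
    rw [hb]
    calc xGL chevG2 hD (chevG2.neg (chevG2.simple i)) k * m
          * (xGL chevG2 hD (chevG2.neg (chevG2.simple i)) k)⁻¹
          * (xGL chevG2 hD (chevG2.neg (chevG2.simple i)) k * m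
          * (xGL chevG2 hD (chevG2.neg (chevG2.simple i)) k)⁻¹)
        = xGL chevG2 hD (chevG2.neg (chevG2.simple i)) k * (m * m)
          * (xGL chevG2 hD (chevG2.neg (chevG2.simple i)) k)⁻¹ := by group
      _ = 1 := by rw [hmm, mul_one, mul_inv_cancel]
  obtain ⟨g, hg, n, hn, -, hgn, b₁, hb₁, b₂, hb₂, hbn⟩ :=
    invol_conj_monomial_cell chevG2 hD hodd b (borel_le_group chevG2 hD hbB) hbb
  have hnB : n ∈ chevG2.borelSubgroup F := by
    have : n = b₁⁻¹ * b * b₂⁻¹ := by rw [hbn]; group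
    rw [this]
    exact mul_mem (mul_mem (inv_mem hb₁) hbB) (inv_mem hb₂)
  have hnH : n ∈ chevG2.diagonalSubgroup F := by
    rw [← borel_inf_monomial chevG2 hD]
    exact ⟨hnB, hn⟩
  refine ⟨g * xGL chevG2 hD (chevG2.neg (chevG2.simple i)) k,
    mul_mem hg (xGL_mem_group chevG2 hD _ _), ?_⟩
  have : g * xGL chevG2 hD (chevG2.neg (chevG2.simple i)) k * m
      * (g * xGL chevG2 hD (chevG2.neg (chevG2.simple i)) k)⁻¹ = g * b * g⁻¹ := by
    rw [hb]; group
  rw [this, hgn]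
  exact hnH

end Cfsg.Agent.Lib.Helper6.G2InvR
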