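import Mathlib
import Cfsg.Prelude.Def_ChevStructure
import Cfsg.Agent.Lib.Helper5.ChevGen
import Cfsg.Agent.Lib.Helper7.ChG2A
import Cfsg.Agent.Lib.Helper7.G2CentT
import Cfsg.Agent.Lib.Helper6.G2InvR

set_option autoImplicit false

/-!
S4280 farm (F₄(q), q odd: exactly two classes of involutions): the two representatives
`tA = h_{α_1}(-1)` (short simple root, `Φ_t = B₄`) and `tB = h_{α_3}(-1)` (long simple root,
`Φ_t = C₃ × A₁`), their membership, order, and nontriviality (unit P0).
-/

namespace Cfsg.Agent.Lib.Helper6.F4Inv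

open Cfsg Cfsg.Lie Cfsg.Agent.Lib.Helper5.ChevStruct Cfsg.Agent.Lib.Helper5.ChevSym
  Cfsg.Agent.Lib.Helper7.Ch2G

variable {F : Type*} [Field F]

theorem memF4 : chevF4 ∈ Seven := by simp [Seven]

def j1 : Fin chevF4.rank := ⟨1, by decide⟩

def j3 : Fin chevF4.rank := ⟨3, by decide⟩

/-- `h_{α_1}(-1)` (`α_1` = root 27, short): the involution with `Φ_t = B₄` -/
noncomputable def tA (F : Type*) [Field F] : GL chevF4.Idx F :=
  hLam chevF4 F (-1) (Pi.single j1 1)

/-- `h_{α_3}(-1)` (`α_3` = root 24, long): the involution with `Φ_t = C₃ × A₁` -/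
noncomputable def tB (F : Type*) [Field F] : GL chevF4.Idx F :=
  hLam chevF4 F (-1) (Pi.single j3 1)

theorem tA_mem : tA F ∈ chevF4.group F := hLam_mem_group chevF4 memF4 _ _

theorem tB_mem : tB F ∈ chevF4.group F := hLam_mem_group chevF4 memF4 _ _

theorem tA_mem_diagonal : tA F ∈ chevF4.diagonalSubgroup F := hLam_mem_diagonal chevF4 memF4 _ _

theorem tB_mem_diagonal : tB F ∈ chevF4.diagonalSubgroup F := hLam_mem_diagonal chevF4 memF4 _ _

theorem tA_sq : tA F * tA F = 1 := Cfsg.Agent.Lib.Helper7.ChG2.hLam_neg_one_sq chevF4 _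

theorem tB_sq : tB F * tB F = 1 := Cfsg.Agent.Lib.Helper7.ChG2.hLam_neg_one_sq chevF4 _

/-- `pairLam` of a coordinate vector is a Cartan entry -/
theorem h6_pairLam_single (D : ChevalleyDatum) (j : Fin D.rank) (r : ℕ) :
    pairLam D (Pi.single j 1) r = D.cartan j.val r := by
  unfold pairLam
  rw [Finset.sum_eq_single j]
  · rw [Pi.single_eq_same, one_mul]
  · intro b _ hb
    rw [Pi.single_eq_of_ne hb, zero_mul]
  · intro h
    exact absurd (Finset.mem_univ j) h

theorem h6_neg_one_ne_one [Fintype F] (hodd : Odd (Fintype.card F)) : (-1 : F) ≠ 1 := by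
  intro h
  have h2 : (2 : F) = 0 := by
    have : (1 : F) + 1 = 0 := by nth_rewrite 1 [← h]; ring
    rw [← this]; norm_num
  have hchar : ringChar F = 2 := by
    have : ringChar F ∣ 2 := by
      apply (ringChar.spec F 2).1
      exact_mod_cast h2
    rcases (Nat.dvd_prime Nat.prime_two).1 this with h1 | h1
    · exfalso
      have := CharP.ringChar_ne_one (R := F)
      exact this h1
    · exact h1
  have : Even (Fintype.card F) := by
    obtain ⟨n, hn⟩ := FiniteField.card F (ringChar F)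
    rw [hn.2, hchar]
    exact (Nat.even_pow' n.ne_zero).2 even_two
  exact (Nat.not_even_iff_odd.2 hodd) this

/-- a torus involution `h_λ(-1)` is nontrivial as soon as some root pairs oddly with `λ` -/
theorem h6_hLam_neg_one_ne_one [Fintype F] (hodd : Odd (Fintype.card F)) (D : ChevalleyDatum)
    (hD : D ∈ Seven) (lam : Fin D.rank → ℤ) (r : ℕ) (hr : r < D.nroots)
    (hp : Odd (pairLam D lam r)) : hLam D F (-1) lam ≠ 1 := by
  intro h
  have h1 := hLam_conj_x D hD (-1 : Fˣ) lam r (1 : F)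
  rw [h, one_mul, inv_one, mul_one, Odd.neg_one_zpow hp] at h1
  have h2 := Cfsg.Agent.Lib.Helper6.G2InvR.h6_xGL_inj D hD r hr _ _ h1
  apply h6_neg_one_ne_one (F := F) hodd
  rw [mul_one, Units.val_neg, Units.val_one] at h2
  exact h2.symm

/-! ### P0: the two involutions are nontrivial (q odd) -/
theorem tA_ne_one [Fintype F] (hodd : Odd (Fintype.card F)) : tA F ≠ 1 := by
  apply h6_hLam_neg_one_ne_one hodd chevF4 memF4 _ 33 (by decide)
  rw [h6_pairLam_single]
  decide

theorem tB_ne_one [Fintype F] (hodd : Odd (Fintype.card F)) : tB F ≠ 1 := by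
  apply h6_hLam_neg_one_ne_one hodd chevF4 memF4 _ 25 (by decide)
  rw [h6_pairLam_single]
  decide

end Cfsg.Agent.Lib.Helper6.F4Inv
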