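import Mathlib
import Cfsg.Prelude.Def_ChevStructure
import Cfsg.Agent.Lib.Helper5.ChevWKer
import Cfsg.Agent.Lib.Helper5.ChevFieldMap

set_option autoImplicit false

/-!
# In characteristic 2 the elements `n_w` depend only on the Weyl group element

Over the prime field `ZMod 2` the diagonal subgroup `H` is trivial (its generators are `h_r(1) = 1`),
so a word `w` acting trivially on the roots has `n_w = 1` over `ZMod 2`, and `n_w` over any field of
characteristic 2 is the image of `n_w` over `ZMod 2`.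
-/

namespace Cfsg.Agent.Lib.Helper6.Char2WGL

open Cfsg Cfsg.Lie Cfsg.Agent.Lib.Helper5.ChevSym Cfsg.Agent.Lib.Helper5.ChevStruct

variable {F K : Type*} [Field F] [Field K]

/-- `h_r(1) = 1` -/
theorem h6_hMat_one (D : ChevalleyDatum) (hD : D ∈ Seven) (r : ℕ) : D.hMat F r 1 = 1 := by
  rw [hMat_eq]
  exact nMat_mul_neg D hD r (1 : F)

/-- over `ZMod 2` the diagonal subgroup is trivial -/
theorem h6_diagonal_zmod2 (D : ChevalleyDatum) (hD : D ∈ Seven) :
    D.diagonalSubgroup (ZMod 2) = ⊥ := by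
  rw [eq_bot_iff]
  unfold ChevalleyDatum.diagonalSubgroup
  rw [Subgroup.closure_le]
  rintro g ⟨r, t, -, ht, hg⟩
  have key : ∀ t : ZMod 2, t ≠ 0 → t = 1 := by decide
  have ht1 : t = 1 := key t ht
  rw [ht1, h6_hMat_one D hD r] at hg
  show g = 1
  exact Units.ext hg

/-- the entries of `n_{p_i}` come from the prime field -/
theorem h6_glMap_nGL (D : ChevalleyDatum) (hD : D ∈ Seven) (f : F →+* K) (i : ℕ) :
    Matrix.GeneralLinearGroup.map f (nGL D hD i : GL D.Idx F) = nGL D hD i := by
  apply Units.ext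
  rw [glMap_val, nGL_val, nGL_val]
  unfold ChevalleyDatum.nMat
  rw [wordMat_map]
  unfold ChevalleyDatum.nWord
  simp only [List.map_cons, List.map_nil, map_one, map_neg, map_inv₀]

theorem h6_glMap_wGL (D : ChevalleyDatum) (hD : D ∈ Seven) (f : F →+* K) (w : List ℕ) :
    Matrix.GeneralLinearGroup.map f (wGL D hD w : GL D.Idx F) = wGL D hD w := by
  induction w with
  | nil => rw [wGL_nil, wGL_nil, map_one]
  | cons i w ih => rw [wGL_cons, wGL_cons, map_mul, ih, h6_glMap_nGL]

/-- **in characteristic 2 a word acting trivially on the roots gives `n_w = 1`** -/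
theorem h6_wGL_eq_one_char2 [CharP K 2] (D : ChevalleyDatum) (hD : D ∈ Seven) (w : List ℕ)
    (hw : Wd D w) (h : ∀ r < D.nroots, wAct D w r = r) : (wGL D hD w : GL D.Idx K) = 1 := by
  have h1 : (wGL D hD w : GL D.Idx (ZMod 2)) ∈ D.diagonalSubgroup (ZMod 2) :=
    wGL_mem_diagonal_of_act D hD w hw h
  rw [h6_diagonal_zmod2 D hD, Subgroup.mem_bot] at h1
  rw [← h6_glMap_wGL D hD (ZMod.castHom (dvd_refl 2) K) w, h1, map_one]

/-- in characteristic 2 two words with the same action on the roots give the same `n_w` -/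
theorem h6_wGL_congr_char2 [CharP K 2] (D : ChevalleyDatum) (hD : D ∈ Seven) (a b : List ℕ)
    (ha : Wd D a) (hb : Wd D b) (h : ∀ r < D.nroots, wAct D (a ++ b.reverse) r = r) :
    (wGL D hD a : GL D.Idx K) * wGL D hD b.reverse = 1 := by
  rw [← wGL_append]
  exact h6_wGL_eq_one_char2 D hD _ (ha.append hb.reverse) h

/-- a word moving some root gives `n_w ≠ 1` -/
theorem h6_wGL_ne_one (D : ChevalleyDatum) (hD : D ∈ Seven) (w : List ℕ) (hw : Wd D w)
    (r : ℕ) (hr : r < D.nroots) (h : wAct D w r ≠ r) : (wGL D hD w : GL D.Idx K) ≠ 1 := by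
  intro h1
  have h2 : (wGL D hD w : GL D.Idx K) ∈ D.diagonalSubgroup K := by
    rw [h1]
    exact one_mem _
  exact h (act_of_wGL_mem_diagonal D hD w hw h2 r hr)

end Cfsg.Agent.Lib.Helper6.Char2WGL
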