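import Mathlib
import Cfsg.Prelude.Def_ChevStructure
import Cfsg.Prelude.Def_LieChev
import Cfsg.Agent.Lib.Helper5.ChevWRel
import Cfsg.Agent.Lib.Helper5.ChevXGL
import Cfsg.Agent.Lib.Helper5.F4T.Core
import Cfsg.Agent.Lib.Helper5.ChevSymSound

set_option autoImplicit false

/-!
# Farm F4EV (S2174): the four classes of involutions of `F₄(q)`, `q` even — definitions

Everything is stated in `GL`, for words in the fundamental reflections (`wAct`, `wGL`).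
-/

namespace Cfsg.Agent.Lib.Helper6.F4Ev

open Cfsg Cfsg.Lie Cfsg.Agent.Lib.Helper5.ChevSym Cfsg.Agent.Lib.Helper5.ChevStruct
  Cfsg.Agent.Lib.Helper5.F4T

/-- `w` is a local maximum: every fundamental root is made negative or fixed -/
def LocMax (D : ChevalleyDatum) (w : List ℕ) : Prop :=
  ∀ i < D.rank, ¬ D.IsPosRoot (wAct D w (D.simple i)) ∨ wAct D w (D.simple i) = D.simple i

/-- the hypothesis on the Weyl group: every local maximum `w` with `w² = 1` is `w₀ w_J` for a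
word `L` (of `w_J`) in fundamental reflections fixed by and commuting with `w` -/
def HypB (D : ChevalleyDatum) (w0 : List ℕ) : Prop :=
  ∀ w : List ℕ, Wd D w → (∀ r < D.nroots, wAct D (w ++ w) r = r) → LocMax D w →
    ∃ L : List ℕ,
      (∀ i ∈ L, i < D.rank ∧ wAct D w (D.simple i) = D.simple i ∧
        ∀ r < D.nroots, wAct D (i :: w) r = wAct D (w ++ [i]) r) ∧
      ∀ r < D.nroots, wAct D (w ++ L) r = wAct D w0 r

/-- the double coset `B n_w B` in `GL` -/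
def cellW {F : Type*} [Field F] (D : ChevalleyDatum) (hD : D ∈ Seven) (w : List ℕ) :
    Set (GL D.Idx F) :=
  DoubleCoset.doubleCoset (wGL D hD w) (D.borelSubgroup F : Set (GL D.Idx F)) (D.borelSubgroup F)

/-- the longest element of `W(F₄)` -/
def w0F : List ℕ := w0Js.flatten

/-- the twelve local maxima of `W(F₄)` (the first is the identity) -/
def lmF : List (List ℕ) :=
  [[],
   [0, 1, 2, 3, 1, 2, 0, 1, 2, 3, 0, 1, 2, 1, 0],
   [3, 2, 1, 2, 0, 1, 2, 3, 2, 1, 2, 0, 1, 2, 3],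
   [3, 2, 1, 2, 0, 1, 2, 3, 2, 1, 2, 0, 1, 2, 3, 0, 1, 2, 1, 0],
   [2, 1, 2, 0, 1, 2, 3, 2, 1, 2, 0, 1, 2, 3, 2, 1, 2, 0, 1, 2, 1, 0],
   [2, 1, 2, 0, 1, 2, 3, 2, 1, 2, 0, 1, 2, 3, 2, 1, 2, 0, 1, 2, 0, 1],
   [3, 2, 1, 2, 0, 1, 2, 3, 2, 1, 2, 0, 1, 2, 3, 1, 2, 0, 1, 2, 0, 1],
   [2, 1, 2, 0, 1, 2, 3, 2, 1, 2, 0, 1, 2, 3, 2, 1, 2, 0, 1, 2, 0, 1, 0],
   [3, 2, 1, 2, 0, 1, 2, 3, 2, 1, 2, 0, 1, 2, 3, 1, 2, 0, 1, 2, 0, 1, 0],
   [3, 2, 1, 2, 0, 1, 2, 3, 2, 1, 2, 0, 1, 2, 3, 2, 1, 2, 0, 1, 2, 1, 0],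
   [3, 2, 1, 2, 0, 1, 2, 3, 2, 1, 2, 0, 1, 2, 3, 2, 1, 2, 0, 1, 2, 0, 1],
   [3, 2, 1, 2, 0, 1, 2, 3, 2, 1, 2, 0, 1, 2, 3, 2, 1, 2, 0, 1, 2, 0, 1, 0]]

/-- representatives of the seven classes of involutions of `W(F₄)` : `w_J` for
`J = A₁ (short), A₁ (long), A₁A₁, B₂, C₃, B₃, F₄` -/
def repF : List (List ℕ) :=
  [[0], [3], [0, 3], [1, 2, 1, 2], [2, 1, 2, 0, 1, 2, 0, 1, 0], [3, 2, 1, 2, 3, 2, 1, 2, 1],
   [3, 2, 1, 2, 0, 1, 2, 3, 2, 1, 2, 0, 1, 2, 3, 2, 1, 2, 0, 1, 2, 0, 1, 0]]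

variable (F : Type*) [Field F]

/-- the four matrices of the statement -/
def yList : List (Matrix chevF4.Idx chevF4.Idx F) :=
  [chevF4.x F 47 1, chevF4.x F 44 1, chevF4.x F 47 1 * chevF4.x F 44 1,
    chevF4.x F 39 1 * chevF4.x F 45 1]

/-- the four representatives in `GL` -/
def yGL : Fin 4 → GL chevF4.Idx F :=
  ![xGL chevF4 hF4 47 1, xGL chevF4 hF4 44 1, xGL chevF4 hF4 47 1 * xGL chevF4 hF4 44 1,
    xGL chevF4 hF4 39 1 * xGL chevF4 hF4 45 1]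

theorem yGL_mem_yList (k : Fin 4) :
    ((yGL F k : GL chevF4.Idx F) : Matrix chevF4.Idx chevF4.Idx F) ∈ yList F := by
  fin_cases k <;> simp [yGL, yList]

theorem eq_yGL_of_mem_yList (y : GL chevF4.Idx F)
    (h : ((y : GL chevF4.Idx F) : Matrix chevF4.Idx chevF4.Idx F) ∈ yList F) :
    ∃ k : Fin 4, y = yGL F k := by
  simp only [yList, List.mem_cons, List.not_mem_nil, or_false] at h
  rcases h with h | h | h | h
  · exact ⟨0, Units.ext (by rw [h]; simp [yGL])⟩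
  · exact ⟨1, Units.ext (by rw [h]; simp [yGL])⟩
  · exact ⟨2, Units.ext (by rw [h]; simp [yGL])⟩
  · exact ⟨3, Units.ext (by rw [h]; simp [yGL])⟩

theorem yGL_mem_group (k : Fin 4) : yGL F k ∈ chevF4.group F := by
  fin_cases k
  · exact xGL_mem_group chevF4 hF4 47 1
  · exact xGL_mem_group chevF4 hF4 44 1
  · exact mul_mem (xGL_mem_group chevF4 hF4 47 1) (xGL_mem_group chevF4 hF4 44 1)
  · exact mul_mem (xGL_mem_group chevF4 hF4 39 1) (xGL_mem_group chevF4 hF4 45 1)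

/-- the codes (`h_i ↦ i`, `e_s ↦ 4 + s`) of the coordinates spanning the short ideal `I`
(`h₁, h₂` and the 24 short roots); in characteristic two `I` is invariant under the group -/
def ishCode : List ℕ :=
  [0, 1, 7, 11, 12, 13, 14, 15, 16, 17, 18, 22, 23, 24, 31, 32, 33, 37, 38, 39, 40, 41, 42, 43,
    44, 48]

/-- the coordinates of the short ideal -/
abbrev IshT : Type := {j : chevF4.Idx // code chevF4 j ∈ ishCode}

/-- the restriction of a matrix to the coordinates of the short ideal -/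
def resI (M : Matrix chevF4.Idx chevF4.Idx F) : Matrix IshT IshT F :=
  M.submatrix Subtype.val Subtype.val

end Cfsg.Agent.Lib.Helper6.F4Ev
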