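import Mathlib
import Cfsg.Agent.Lib.Helper6.F4EvDefs
import Cfsg.Agent.Lib.Helper6.Char2WGL
import Cfsg.Agent.Lib.Helper5.ChevBN
import Cfsg.Agent.Lib.Helper5.ChevBruhat
import Cfsg.Agent.Lib.Helper5.ChevBruhatNF
import Cfsg.Agent.Lib.Helper5.ChevWeylHom
import Cfsg.Agent.Lib.Helper5.ChevWKer
import Cfsg.Agent.Lib.Helper5.ChevGen
import Cfsg.Agent.Lib.Helper5.StChar.DoubleCox
import Cfsg.Agent.Lib.Helper1.InvolN

set_option autoImplicit false

/-!
# Farm F4EV (S2174), unit A1 : the calculus of the cells `B n_w B` in `GL`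
-/

namespace Cfsg.Agent.Lib.Helper6.F4Ev

open Cfsg Cfsg.Lie Cfsg.Agent.Lib.Helper5.ChevSym Cfsg.Agent.Lib.Helper5.ChevStruct
  Cfsg.Agent.Lib.Helper5.F4T Cfsg.Agent.Lib.Helper6.Char2WGL

variable {F : Type*} [Field F]

theorem mem_cellW_iff (D : ChevalleyDatum) (hD : D ∈ Seven) (w : List ℕ) (x : GL D.Idx F) :
    x ∈ cellW D hD w ↔ ∃ b ∈ D.borelSubgroup F, ∃ b' ∈ D.borelSubgroup F,
      x = b * wGL D hD w * b' := by
  unfold cellW
  rw [DoubleCoset.mem_doubleCoset]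
  rfl

theorem cellW_mul_right (D : ChevalleyDatum) (hD : D ∈ Seven) (w : List ℕ) (x b : GL D.Idx F)
    (hx : x ∈ cellW D hD w) (hb : b ∈ D.borelSubgroup F) : x * b ∈ cellW D hD w := by
  rw [mem_cellW_iff] at hx ⊢
  obtain ⟨b1, hb1, b2, hb2, rfl⟩ := hx
  exact ⟨b1, hb1, b2 * b, mul_mem hb2 hb, by group⟩

theorem wGL_mem_cellW (D : ChevalleyDatum) (hD : D ∈ Seven) (w : List ℕ) (c : GL D.Idx F)
    (hc : c ∈ D.borelSubgroup F) : wGL D hD w * c ∈ cellW D hD w := by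
  rw [mem_cellW_iff]
  exact ⟨1, one_mem _, c, hc, by group⟩

/-- every element of the group lies in a cell -/
theorem A1a_exists_cell (D : ChevalleyDatum) (hD : D ∈ Seven) (g : GL D.Idx F)
    (hg : g ∈ D.group F) : ∃ w : List ℕ, Wd D w ∧ g ∈ cellW D hD w := by
  obtain ⟨b, hb, n, hn, u, hu, e⟩ := bruhat_exists D hD g hg
  obtain ⟨w, hw, h, hh, e2⟩ := exists_word_of_monomial D hD ⟨n, hn⟩
  refine ⟨w, hw, ?_⟩
  rw [mem_cellW_iff]
  refine ⟨b, hb, h * u, mul_mem (diagonal_le_borel D hh)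
    (pos_le_borel D (unegOf_le_pos D n hu)), ?_⟩
  have e3 : n = wGL D hD w * h := e2
  rw [e, e3]; group

/-- the cell determines the action of the word -/
theorem A1b_cell_unique (D : ChevalleyDatum) (hD : D ∈ Seven) (w w' : List ℕ) (hw : Wd D w)
    (hw' : Wd D w') (g : GL D.Idx F) (h : g ∈ cellW D hD w) (h' : g ∈ cellW D hD w') :
    ∀ r < D.nroots, wAct D w r = wAct D w' r := by
  rw [mem_cellW_iff] at h h'
  obtain ⟨b1, hb1, b2, hb2, e1⟩ := h
  obtain ⟨c1, hc1, c2, hc2, e2⟩ := h'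
  have hn := wGL_mem (F := F) D hD w hw
  have hn' := wGL_mem (F := F) D hD w' hw'
  have h1 := Cfsg.Agent.Lib.Helper1.InvolN.dc_unique D hD b1 c1 _ _ b2 c2 hb1 hc1 hn hn' hb2 hc2
    (e1.symm.trans e2)
  have h2 := (conj_monomial_diag_mem (F := F) D hD _ hn _ h1).1
  have e : (wGL D hD w : GL D.Idx F) * ((wGL D hD w)⁻¹ * wGL D hD w') * (wGL D hD w)⁻¹
      = wGL D hD w' * (wGL D hD w)⁻¹ := by group
  rw [e] at h2
  have h3 := (hrel_iff_act_eq D hD w' w hw' hw).1 h2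
  intro r hr
  exact (h3 r hr).symm

/-- `n_i B n_w B ⊆ B n_i n_w B` when `w⁻¹ a_i > 0` -/
theorem A1c_cell_mul_left (D : ChevalleyDatum) (hD : D ∈ Seven) (i : ℕ) (hi : i < D.rank)
    (w : List ℕ) (hw : Wd D w) (hpos : D.IsPosRoot (wAct D w.reverse (D.simple i)))
    (x : GL D.Idx F) (hx : x ∈ cellW D hD w) : nGL D hD i * x ∈ cellW D hD (i :: w) := by
  rw [mem_cellW_iff] at hx
  obtain ⟨b1, hb1, b2, hb2, rfl⟩ := hx
  have h1 := nGL_borel_wGL_pos D hD i hi w hw hpos b1 hb1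
  rw [← wGL_cons] at h1
  have h2 : nGL D hD i * b1 * wGL D hD w ∈ cellW D hD (i :: w) := h1
  have h3 := cellW_mul_right D hD (i :: w) _ b2 h2 hb2
  have e : nGL D hD i * (b1 * wGL D hD w * b2) = nGL D hD i * b1 * wGL D hD w * b2 := by group
  rw [e]; exact h3

/-- `ℓ(s_i w) = ℓ(w) + 1` when `w⁻¹ a_i > 0` -/
theorem A1f_card_negSet_cons_pos (D : ChevalleyDatum) (hD : D ∈ Seven) (i : ℕ) (hi : i < D.rank)
    (w : List ℕ) (hw : Wd D w) (hpos : D.IsPosRoot (wAct D w.reverse (D.simple i))) :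
    (negSet D (i :: w)).card = (negSet D w).card + 1 := by
  have h1 := Cfsg.Agent.Lib.Helper5.StChar.card_negSet_reverse D hD (i :: w) (Wd.cons hi hw)
  rw [List.reverse_cons] at h1
  rw [← h1, card_negSet_append_pos D hD w.reverse hw.reverse i hi hpos,
    Cfsg.Agent.Lib.Helper5.StChar.card_negSet_reverse D hD w hw]

/-- a positive root other than `a_i` stays positive under `s_i` -/
theorem A1i_reflect_pos (D : ChevalleyDatum) (hD : D ∈ Seven) (i : ℕ) (hi : i < D.rank) (r : ℕ)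
    (hr : D.IsPosRoot r) (hne : r ≠ D.simple i) : D.IsPosRoot (D.reflectRoot i r) :=
  (checkCoLin_spec D i (chkCoLin_all D hD i hi) r hr.1).2 hr hne

section char2

variable [CharP F 2]

/-- in characteristic two `n_w` only depends on the action of `w` -/
theorem A1h_wGL_congr (D : ChevalleyDatum) (hD : D ∈ Seven) (a b : List ℕ)
    (ha : Wd D a) (hb : Wd D b) (h : ∀ r < D.nroots, wAct D a r = wAct D b r) :
    (wGL D hD a : GL D.Idx F) = wGL D hD b := by
  have h1 := h6_wGL_congr_char2 (K := F) D hD a b ha hb (fun r hr => by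
    rw [wAct_append, h _ (wAct_lt D hD _ hb.reverse r hr)]
    exact wAct_reverse D hD b hb r hr)
  have h2 := h6_wGL_congr_char2 (K := F) D hD b b hb hb (fun r hr => by
    rw [wAct_append]
    exact wAct_reverse D hD b hb r hr)
  rw [← h2] at h1
  exact mul_right_cancel h1

theorem wGL_reverse_char2 (D : ChevalleyDatum) (hD : D ∈ Seven) (w : List ℕ) (hw : Wd D w) :
    ((wGL D hD w)⁻¹ : GL D.Idx F) = wGL D hD w.reverse := by
  apply inv_eq_of_mul_eq_one_right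
  exact h6_wGL_congr_char2 (K := F) D hD w w hw hw (fun r hr => by
    rw [wAct_append]
    exact wAct_reverse D hD w hw r hr)

theorem nGL_inv_char2' (D : ChevalleyDatum) (hD : D ∈ Seven) (i : ℕ) (hi : i < D.rank) :
    ((nGL D hD i)⁻¹ : GL D.Idx F) = nGL D hD i := by
  have := wGL_reverse_char2 (F := F) D hD [i] (Wd.single hi)
  rw [List.reverse_singleton, wGL_cons, wGL_nil, mul_one] at this
  exact this

/-- the inverse of a cell -/
theorem A1g_cell_inv (D : ChevalleyDatum) (hD : D ∈ Seven) (w : List ℕ) (hw : Wd D w)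
    (x : GL D.Idx F) (hx : x ∈ cellW D hD w) : x⁻¹ ∈ cellW D hD w.reverse := by
  rw [mem_cellW_iff] at hx ⊢
  obtain ⟨b1, hb1, b2, hb2, rfl⟩ := hx
  refine ⟨b2⁻¹, inv_mem hb2, b1⁻¹, inv_mem hb1, ?_⟩
  rw [← wGL_reverse_char2 D hD w hw]; group

/-- `B n_w B n_i ⊆ B n_w n_i B` when `w a_i > 0` -/
theorem A1d_cell_mul_right (D : ChevalleyDatum) (hD : D ∈ Seven) (i : ℕ)
    (hi : i < D.rank) (w : List ℕ) (hw : Wd D w) (hpos : D.IsPosRoot (wAct D w (D.simple i)))
    (x : GL D.Idx F) (hx : x ∈ cellW D hD w) : x * nGL D hD i ∈ cellW D hD (w ++ [i]) := by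
  have h1 := A1g_cell_inv D hD w hw x hx
  have h2 := A1c_cell_mul_left D hD i hi w.reverse hw.reverse
    (by rw [List.reverse_reverse]; exact hpos) _ h1
  have h3 := A1g_cell_inv D hD (i :: w.reverse) (Wd.cons hi hw.reverse) _ h2
  rw [List.reverse_cons, List.reverse_reverse, mul_inv_rev, inv_inv, nGL_inv_char2' D hD i hi] at h3
  exact h3

/-- `n_i B n_i ⊆ B ∪ B n_i B` -/
theorem A1e_conj_simple_borel (D : ChevalleyDatum) (hD : D ∈ Seven) (i : ℕ) (hi : i < D.rank)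
    (c : GL D.Idx F) (hc : c ∈ D.borelSubgroup F) :
    nGL D hD i * c * (nGL D hD i)⁻¹ ∈ D.borelSubgroup F ∨
      nGL D hD i * c * (nGL D hD i)⁻¹ ∈ cellW D hD [i] := by
  have h := nGL_borel_monomial D hD i hi (nGL D hD i) (nGL_mem D hD i hi) c hc
  rw [nGL_inv_char2' D hD i hi]
  rcases h with h | h
  · left
    have e : (nGL D hD i * nGL D hD i : GL D.Idx F) = 1 := by
      have := nGL_inv_char2' (F := F) D hD i hi
      exact inv_eq_iff_mul_eq_one.1 this
    rw [e, DoubleCoset.mem_doubleCoset] at h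
    obtain ⟨b1, hb1, b2, hb2, e2⟩ := h
    rw [e2]
    exact mul_mem (mul_mem hb1 (one_mem _)) hb2
  · right
    unfold cellW
    rw [wGL_cons, wGL_nil, mul_one]
    exact h

end char2

end Cfsg.Agent.Lib.Helper6.F4Ev
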