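import Mathlib
import Cfsg.Agent.Lib.Helper5.ChevTwistCore
import Cfsg.Agent.Lib.Helper5.F4T.Core

set_option autoImplicit false

/-!
# F4INV farm (S2184), units C2, C3a, C3b at the level of `GL`

`B ∩ n₀⁻¹ B n₀ ≤ H` for a word `w₀` of the longest element (any of the seven data), and
`n_J⁻¹ B n_J ∩ (n_J n₀)⁻¹ B (n_J n₀) ≤ H` when `n_J n₀ ≡ n₀ n_J` modulo `H`.
-/

namespace Cfsg.Agent.Lib.Helper6.F4Inv

open Cfsg Cfsg.Lie Cfsg.Agent.Lib.Helper5.ChevSym Cfsg.Agent.Lib.Helper5.ChevStruct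
  Cfsg.Agent.Lib.Helper5.F4T

section gl

variable {K : Type*} [Field K] (D : ChevalleyDatum) (hD : D ∈ Seven) (w0 : List ℕ)
  (hchk : checkW0 D w0 = true)

include hchk in
/-- `B ∩ n₀⁻¹ B n₀ ≤ H` in `GL` -/
theorem h6_opp_GL_gen (c : GL D.Idx K) (hc : c ∈ D.borelSubgroup K)
    (h : wGL D hD w0 * c * (wGL D hD w0)⁻¹ ∈ D.borelSubgroup K) :
    c ∈ D.diagonalSubgroup K := by
  obtain ⟨hwd, hmap⟩ := conj_pos_eq_neg' (K := K) D hD w0 hchk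
  set n : GL D.Idx K := wGL D hD w0 with hn
  have hnN : n ∈ D.monomialSubgroup K := wGL_mem D hD _ hwd
  have h2 : n * c * n⁻¹ ∈ (D.borelSubgroup K).map (MulAut.conj n).toMonoidHom :=
    ⟨c, hc, rfl⟩
  have h3 : (D.borelSubgroup K).map (MulAut.conj n).toMonoidHom
      = D.negUnipotent K ⊔ D.diagonalSubgroup K := by
    unfold ChevalleyDatum.borelSubgroup
    rw [Subgroup.map_sup, hmap, diagonal_map_conj D hD n hnN]
  rw [h3] at h2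
  have h4 : n * c * n⁻¹ ∈ D.borelSubgroup K ⊓
      (D.negUnipotent K ⊔ D.diagonalSubgroup K) := Subgroup.mem_inf.2 ⟨h, h2⟩
  rw [borel_inf_negBorel D hD] at h4
  have h5 := (conj_monomial_diag_mem D hD n hnN _ h4).2
  have e : n⁻¹ * (n * c * n⁻¹) * n = c := by group
  rwa [e] at h5

include hchk in
/-- if `n_J n₀ ≡ n₀ n_J` modulo `H`, then `n_J⁻¹ B n_J ∩ (n_J n₀)⁻¹ B (n_J n₀) ≤ H` -/
theorem h6_W_GL_gen (J : List ℕ) (hJ : Wd D J)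
    (hsw : ∀ r < D.nroots, wAct D (J ++ w0) r = wAct D (w0 ++ J) r)
    (c : GL D.Idx K)
    (h1 : (wGL D hD J * wGL D hD w0) * c * (wGL D hD J * wGL D hD w0)⁻¹ ∈ D.borelSubgroup K)
    (h2 : wGL D hD J * c * (wGL D hD J)⁻¹ ∈ D.borelSubgroup K) :
    c ∈ D.diagonalSubgroup K := by
  obtain ⟨hwd, -⟩ := conj_pos_eq_neg' (K := K) D hD w0 hchk
  set n : GL D.Idx K := wGL D hD w0 with hn
  set s : GL D.Idx K := wGL D hD J with hs
  have hsN : s ∈ D.monomialSubgroup K := wGL_mem D hD _ hJ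
  have hd : (wGL D hD (J ++ w0) * (wGL D hD (w0 ++ J))⁻¹ : GL D.Idx K)
      ∈ D.diagonalSubgroup K :=
    (hrel_iff_act_eq D hD _ _ (hJ.append hwd) (hwd.append hJ)).2 hsw
  rw [wGL_append, wGL_append, ← hn, ← hs] at hd
  set d : GL D.Idx K := s * n * (n * s)⁻¹ with hdd
  have hdB : d ∈ D.borelSubgroup K := diagonal_le_borel D hd
  have h3 : n * (s * c * s⁻¹) * n⁻¹ ∈ D.borelSubgroup K := by
    have e : n * (s * c * s⁻¹) * n⁻¹ = d⁻¹ * ((s * n) * c * (s * n)⁻¹) * d := by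
      rw [hdd]; group
    rw [e]
    exact mul_mem (mul_mem (inv_mem hdB) h1) hdB
  have h4 := h6_opp_GL_gen D hD w0 hchk (s * c * s⁻¹) h2 h3
  have h5 := (conj_monomial_diag_mem D hD s hsN _ h4).2
  have e : s⁻¹ * (s * c * s⁻¹) * s = c := by group
  rwa [e] at h5

end gl

/-! ### The data for `F₄` : `w₀ = ([0,3] ++ [1,2,1,2])⁴` -/

theorem h6_swapF_a : ∀ r < chevF4.nroots,
    wAct chevF4 ([0, 3] ++ w0Js.flatten) r = wAct chevF4 (w0Js.flatten ++ [0, 3]) r := by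
  decide +kernel

theorem h6_swapF_b : ∀ r < chevF4.nroots,
    wAct chevF4 ([1, 2, 1, 2] ++ w0Js.flatten) r = wAct chevF4 (w0Js.flatten ++ [1, 2, 1, 2]) r := by
  decide +kernel

theorem h6_wd_a : Wd chevF4 [0, 3] := by
  intro i hi
  simp only [List.mem_cons, List.not_mem_nil, or_false] at hi
  rcases hi with rfl | rfl <;> decide

theorem h6_wd_b : Wd chevF4 [1, 2, 1, 2] := by
  intro i hi
  simp only [List.mem_cons, List.not_mem_nil, or_false] at hi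
  rcases hi with rfl | rfl | rfl | rfl <;> decide

section f4

variable {K : Type*} [Field K]

/-- C2 in `GL` : `B ∩ n₀⁻¹ B n₀ ≤ H` -/
theorem h6_oppF_GL (c : GL chevF4.Idx K) (hc : c ∈ chevF4.borelSubgroup K)
    (h : wGL chevF4 hF4 w0Js.flatten * c * (wGL chevF4 hF4 w0Js.flatten)⁻¹
      ∈ chevF4.borelSubgroup K) : c ∈ chevF4.diagonalSubgroup K :=
  h6_opp_GL_gen chevF4 hF4 _ checkW0_w0 c hc h

/-- C3b in `GL` (`n₁ = wGL [0,3]`) -/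
theorem h6_WaF_GL (c : GL chevF4.Idx K)
    (h1 : (wGL chevF4 hF4 [0, 3] * wGL chevF4 hF4 w0Js.flatten) * c *
      (wGL chevF4 hF4 [0, 3] * wGL chevF4 hF4 w0Js.flatten)⁻¹ ∈ chevF4.borelSubgroup K)
    (h2 : wGL chevF4 hF4 [0, 3] * c * (wGL chevF4 hF4 [0, 3])⁻¹ ∈ chevF4.borelSubgroup K) :
    c ∈ chevF4.diagonalSubgroup K :=
  h6_W_GL_gen chevF4 hF4 _ checkW0_w0 [0, 3] h6_wd_a h6_swapF_a c h1 h2

/-- C3a in `GL` (`n₂ = wGL [1,2,1,2]`) -/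
theorem h6_WbF_GL (c : GL chevF4.Idx K)
    (h1 : (wGL chevF4 hF4 [1, 2, 1, 2] * wGL chevF4 hF4 w0Js.flatten) * c *
      (wGL chevF4 hF4 [1, 2, 1, 2] * wGL chevF4 hF4 w0Js.flatten)⁻¹ ∈ chevF4.borelSubgroup K)
    (h2 : wGL chevF4 hF4 [1, 2, 1, 2] * c * (wGL chevF4 hF4 [1, 2, 1, 2])⁻¹
      ∈ chevF4.borelSubgroup K) :
    c ∈ chevF4.diagonalSubgroup K :=
  h6_W_GL_gen chevF4 hF4 _ checkW0_w0 [1, 2, 1, 2] h6_wd_b h6_swapF_b c h1 h2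

/-- `(n₁ n₂)⁴ = wGL w0Js.flatten` -/
theorem h6_pow4_eq : ((wGL chevF4 hF4 [0, 3] * wGL chevF4 hF4 [1, 2, 1, 2]) ^ 4 : GL chevF4.Idx K)
    = wGL chevF4 hF4 w0Js.flatten := by
  have e : w0Js.flatten = ([0, 3] ++ [1, 2, 1, 2]) ++ (([0, 3] ++ [1, 2, 1, 2]) ++
      (([0, 3] ++ [1, 2, 1, 2]) ++ ([0, 3] ++ [1, 2, 1, 2]))) := rfl
  rw [e]
  simp only [wGL_append, pow_succ, pow_zero, one_mul, mul_assoc]

end f4

end Cfsg.Agent.Lib.Helper6.F4Inv
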