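import Mathlib
import Cfsg.Agent.Lib.Helper1.F4Out.Defs
import Cfsg.Agent.Lib.Helper6.Char2WGL
import Cfsg.Agent.Lib.Helper6.F4InvC2GL

set_option autoImplicit false

/-!
# F4INV farm (S2184), unit C4a: in characteristic 2 the elements `n₁`, `n₂`, `(n₁ n₂)⁴` are
involutions (and `≠ 1`).
-/

namespace Cfsg.Agent.Lib.Helper6.F4Inv

open Cfsg Cfsg.Lie Cfsg.Agent.Lib.Helper5.ChevSym Cfsg.Agent.Lib.Helper5.ChevStruct
  Cfsg.Agent.Lib.Helper5.F4T Cfsg.Agent.Lib.Helper1.F4Out Cfsg.Agent.Lib.Helper6.Char2WGL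

theorem h6_act_sq1 : ∀ r < chevF4.nroots, wAct chevF4 ([0, 3] ++ [0, 3]) r = r := by
  decide +kernel

theorem h6_act_sq2 : ∀ r < chevF4.nroots, wAct chevF4 ([1, 2, 1, 2] ++ [1, 2, 1, 2]) r = r := by
  decide +kernel

theorem h6_act_sq0 : ∀ r < chevF4.nroots, wAct chevF4 (w0Js.flatten ++ w0Js.flatten) r = r := by
  decide +kernel

theorem h6_wd_0 : Wd chevF4 w0Js.flatten := by
  intro i hi
  have : ∀ i ∈ w0Js.flatten, i < chevF4.rank := by decide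
  exact this i hi

theorem h6_act_ne1 : wAct chevF4 [0, 3] 33 ≠ 33 := by decide

theorem h6_act_ne2 : wAct chevF4 [1, 2, 1, 2] 27 ≠ 27 := by decide

theorem h6_act_ne0 : wAct chevF4 w0Js.flatten 33 ≠ 33 := by decide +kernel

section gl

variable {K : Type*} [Field K] [CharP K 2]

theorem h6_n1_sq : (n1 : GL chevF4.Idx K) * n1 = 1 := by
  unfold n1
  rw [← wGL_append]
  exact h6_wGL_eq_one_char2 chevF4 hF4 _ (h6_wd_a.append h6_wd_a) h6_act_sq1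

theorem h6_n2_sq : (n2 : GL chevF4.Idx K) * n2 = 1 := by
  unfold n2
  rw [← wGL_append]
  exact h6_wGL_eq_one_char2 chevF4 hF4 _ (h6_wd_b.append h6_wd_b) h6_act_sq2

theorem h6_n0_sq : ((n1 : GL chevF4.Idx K) * n2) ^ 4 * (n1 * n2) ^ 4 = 1 := by
  unfold n1 n2
  rw [h6_pow4_eq, ← wGL_append]
  exact h6_wGL_eq_one_char2 chevF4 hF4 _ (h6_wd_0.append h6_wd_0) h6_act_sq0

end gl

section ne

variable {K : Type*} [Field K]

theorem h6_n1_ne_one : (n1 : GL chevF4.Idx K) ≠ 1 :=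
  h6_wGL_ne_one chevF4 hF4 _ h6_wd_a 33 (by decide) h6_act_ne1

theorem h6_n2_ne_one : (n2 : GL chevF4.Idx K) ≠ 1 :=
  h6_wGL_ne_one chevF4 hF4 _ h6_wd_b 27 (by decide) h6_act_ne2

theorem h6_n0_ne_one : ((n1 : GL chevF4.Idx K) * n2) ^ 4 ≠ 1 := by
  unfold n1 n2
  rw [h6_pow4_eq]
  exact h6_wGL_ne_one chevF4 hF4 _ h6_wd_0 33 (by decide) h6_act_ne0

end ne

section sub

variable {K : Type*} [Field K] [CharP K 2] (m : ℕ)

/-- Unit C4a, for any `a b : ↥(fixG m)` with `↑a = n₁`, `↑b = n₂` -/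
theorem h6_a_sq (a : ↥(fixG (K := K) m)) (ha : (a : GL chevF4.Idx K) = n1) : a * a = 1 := by
  apply Subtype.ext
  rw [Subgroup.coe_mul, ha, h6_n1_sq]
  rfl

theorem h6_b_sq (b : ↥(fixG (K := K) m)) (hb : (b : GL chevF4.Idx K) = n2) : b * b = 1 := by
  apply Subtype.ext
  rw [Subgroup.coe_mul, hb, h6_n2_sq]
  rfl

theorem h6_w0_sq (a b : ↥(fixG (K := K) m)) (ha : (a : GL chevF4.Idx K) = n1)
    (hb : (b : GL chevF4.Idx K) = n2) : (a * b) ^ 4 * (a * b) ^ 4 = 1 := by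
  apply Subtype.ext
  rw [Subgroup.coe_mul, Subgroup.coe_pow, Subgroup.coe_mul, ha, hb, h6_n0_sq]
  rfl

theorem h6_a_ne_one (a : ↥(fixG (K := K) m)) (ha : (a : GL chevF4.Idx K) = n1) : a ≠ 1 := by
  intro h
  apply h6_n1_ne_one (K := K)
  rw [← ha, h]
  rfl

theorem h6_b_ne_one (b : ↥(fixG (K := K) m)) (hb : (b : GL chevF4.Idx K) = n2) : b ≠ 1 := by
  intro h
  apply h6_n2_ne_one (K := K)
  rw [← hb, h]
  rfl

theorem h6_a_order (a : ↥(fixG (K := K) m)) (ha : (a : GL chevF4.Idx K) = n1) : orderOf a = 2 := by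
  apply orderOf_eq_prime
  · rw [pow_two]; exact h6_a_sq m a ha
  · exact h6_a_ne_one m a ha

theorem h6_b_order (b : ↥(fixG (K := K) m)) (hb : (b : GL chevF4.Idx K) = n2) : orderOf b = 2 := by
  apply orderOf_eq_prime
  · rw [pow_two]; exact h6_b_sq m b hb
  · exact h6_b_ne_one m b hb

end sub

end Cfsg.Agent.Lib.Helper6.F4Inv
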