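import Mathlib
import Cfsg.Agent.Lib.Helper1.F4Out.PartA
import Cfsg.Agent.Lib.Helper5.F4T.BN
import Cfsg.Agent.Lib.Helper5.F4T.HFix
import Cfsg.Agent.Lib.Helper5.ChevWCoxStd
import Cfsg.Agent.Lib.Helper4.BNPair

set_option autoImplicit false

/-!
# F4INV farm (S2184), units C1a, C1b, C1c: the distinguished generators of the `(B, N)`-pair `bnF`
of `²F₄(q)`, the order of their product in the Weyl group, and the torus `B ∩ N`.
(port of helper5's `D4InvC1.lean`)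
-/

namespace Cfsg.Agent.Lib.Helper6.F4Inv

open Cfsg Cfsg.Lie Cfsg.Agent.Lib.Helper5.ChevSym Cfsg.Agent.Lib.Helper5.ChevSymP
  Cfsg.Agent.Lib.Helper5.ChevStruct Cfsg.Agent.Lib.Helper5.Ree Cfsg.Agent.Lib.Helper5.TwX
  Cfsg.Agent.Lib.Helper5.MatPow Cfsg.Agent.Lib.Helper5.F4T Cfsg.Agent.Lib.Helper5.TwAut
  Cfsg.Agent.Lib.Helper1.F4Out Cfsg.Agent.Lib.Helper4.BNPair

section general

variable {F : Type*} [Field F]

/-- two elements of `H` commute -/
theorem h6_diagonal_comm (D : ChevalleyDatum) (hD : D ∈ Seven) (x y : GL D.Idx F)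
    (hx : x ∈ D.diagonalSubgroup F) (hy : y ∈ D.diagonalSubgroup F) : x * y = y * x := by
  obtain ⟨c, -, hc⟩ := exists_torusMat_of_mem D hD x hx
  obtain ⟨c', -, hc'⟩ := exists_torusMat_of_mem D hD y hy
  apply Units.ext
  rw [Units.val_mul, Units.val_mul, hc, hc']
  unfold torusMat
  rw [Matrix.diagonal_mul_diagonal, Matrix.diagonal_mul_diagonal]
  congr 1
  funext i
  exact mul_comm _ _

end general

variable {K : Type*} [Field K] [Fintype K] [CharP K 2] (m : ℕ)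
  (hq : ∀ x : K, x ^ 2 ^ (2 * m + 1) = x)

/-- Unit C1a -/
theorem h6_bnF_S (a b : ↥(fixG (K := K) m)) (ha : (a : GL chevF4.Idx K) = n1)
    (hb : (b : GL chevF4.Idx K) = n2) : (bnF m hq).S = {a, b} := by
  ext s
  show (∃ J ∈ orbsF4, (s : GL chevF4.Idx K) = wGL chevF4 hF4 J) ↔ _
  simp only [orbsF4, List.mem_cons, List.not_mem_nil, or_false, Set.mem_insert_iff,
    Set.mem_singleton_iff]
  constructor
  · rintro ⟨J, rfl | rfl, h⟩
    · left; exact Subtype.ext (h.trans ha.symm)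
    · right; exact Subtype.ext (h.trans hb.symm)
  · rintro (rfl | rfl)
    · exact ⟨_, Or.inl rfl, ha⟩
    · exact ⟨_, Or.inr rfl, hb⟩

/-- the matrix of `(n₁ n₂)^k` -/
theorem h6_ab_pow_val (a b : ↥(fixG (K := K) m)) (ha : (a : GL chevF4.Idx K) = n1)
    (hb : (b : GL chevF4.Idx K) = n2) (k : ℕ) :
    (((a * b) ^ k : ↥(fixG (K := K) m)) : GL chevF4.Idx K) = wGL chevF4 hF4 (wpow aW k) := by
  induction k with
  | zero => rw [pow_zero]; rfl
  | succ k ih =>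
    rw [pow_succ', Subgroup.coe_mul, ih, Subgroup.coe_mul, ha, hb]
    show wGL chevF4 hF4 [0, 3] * wGL chevF4 hF4 [1, 2, 1, 2] * _
      = wGL chevF4 hF4 (aW ++ wpow aW k)
    rw [wGL_append, ← wGL_append chevF4 hF4 [0, 3] [1, 2, 1, 2]]
    rfl

/-- `B ∩ N = H` in the twisted group -/
theorem h6_bnF_BN_eq : (bnF m hq).B ⊓ (bnF m hq).N
    = (chevF4.diagonalSubgroup K ⊓ fixG m).subgroupOf (fixG m) := by
  ext x
  show x ∈ (chevF4.borelSubgroup K ⊓ fixG m).subgroupOf (fixG m) ⊓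
    (chevF4.monomialSubgroup K ⊓ fixG m).subgroupOf (fixG m) ↔ _
  rw [← borel_inf_monomial chevF4 hF4]
  simp only [Subgroup.mem_inf, Subgroup.mem_subgroupOf]
  tauto

/-- Unit C1b: `s₁ s₂` has order 8 in `W = N¹/H¹` -/
theorem h6_bnF_ord (a b : ↥(fixG (K := K) m)) (ha : (a : GL chevF4.Idx K) = n1)
    (hb : (b : GL chevF4.Idx K) = n2) :
    orderOf (π (bnF m hq) a * π (bnF m hq) b) = 8 := by
  have hS := h6_bnF_S m hq a b ha hb
  have haS : a ∈ (bnF m hq).S := by rw [hS]; simp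
  have hbS : b ∈ (bnF m hq).S := by rw [hS]; simp
  have haN := (bnF m hq).subset haS
  have hbN := (bnF m hq).subset hbS
  have hwN : a * b ∈ (bnF m hq).N := mul_mem haN hbN
  rw [← π_mul haN hbN]
  have hpow : ∀ k : ℕ, (π (bnF m hq) (a * b)) ^ k = π (bnF m hq) ((a * b) ^ k) := by
    intro k
    induction k with
    | zero => rw [pow_zero, pow_zero, π_one]
    | succ k ih => rw [pow_succ, pow_succ, π_mul (pow_mem hwN k) hwN, ih]
  have key : ∀ k : ℕ, (π (bnF m hq) (a * b)) ^ k = 1 ↔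
      ∀ r < 48, wAct chevF4 (wpow aW k) r = r := by
    intro k
    rw [hpow, π_eq_one_iff (pow_mem hwN k)]
    have hwd : Wd chevF4 (wpow aW k) := wd_wpow chevF4 _ aW_wd k
    constructor
    · intro h
      have h1 : (((a * b) ^ k : ↥(fixG (K := K) m)) : GL chevF4.Idx K)
          ∈ chevF4.borelSubgroup K :=
        (Subgroup.mem_inf.1 (Subgroup.mem_subgroupOf.1 h)).1
      rw [h6_ab_pow_val m a b ha hb] at h1
      have h2 : (wGL chevF4 hF4 (wpow aW k) : GL chevF4.Idx K)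
          ∈ chevF4.diagonalSubgroup K := by
        rw [← borel_inf_monomial chevF4 hF4]
        exact Subgroup.mem_inf.2 ⟨h1, wGL_mem chevF4 hF4 _ hwd⟩
      exact act_of_wGL_mem_diagonal chevF4 hF4 _ hwd h2
    · intro h
      have h2 := wGL_mem_diagonal_of_act (F := K) chevF4 hF4 _ hwd h
      show _ ∈ (chevF4.borelSubgroup K ⊓ fixG m).subgroupOf (fixG m)
      rw [Subgroup.mem_subgroupOf]
      refine Subgroup.mem_inf.2 ⟨?_, SetLike.coe_mem _⟩
      rw [h6_ab_pow_val m a b ha hb]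
      exact diagonal_le_borel chevF4 h2
  rw [orderOf_eq_iff (by norm_num)]
  refine ⟨(key 8).2 aW_pow8, fun k hk hk0 => ?_⟩
  rw [Ne, key]
  obtain ⟨r, hr, hne⟩ := aW_pow_ne k hk hk0
  intro h
  exact hne (h r hr)

/-- Unit C1c: `H¹ = B¹ ∩ N¹` is abelian -/
theorem h6_bnF_H_comm : ∀ x ∈ (bnF m hq).B ⊓ (bnF m hq).N,
    ∀ y ∈ (bnF m hq).B ⊓ (bnF m hq).N, x * y = y * x := by
  intro x hx y hy
  rw [h6_bnF_BN_eq, Subgroup.mem_subgroupOf] at hx hy
  apply Subtype.ext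
  exact h6_diagonal_comm chevF4 hF4 _ _ (Subgroup.mem_inf.1 hx).1 (Subgroup.mem_inf.1 hy).1

/-- Unit C1c: `H¹` has odd order `(q - 1)²` -/
theorem h6_bnF_H_odd : Odd (Nat.card ↥((bnF m hq).B ⊓ (bnF m hq).N)) := by
  rw [h6_bnF_BN_eq]
  have hle : chevF4.diagonalSubgroup K ⊓ fixG m ≤ fixG (K := K) m := inf_le_right
  rw [Nat.card_congr (Subgroup.subgroupOfEquivOfLe hle).toEquiv, card_diag_fix m hq]
  obtain ⟨n, -, hn⟩ := FiniteField.card K 2
  rw [hn]
  apply Odd.pow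
  have h1 : 1 ≤ 2 ^ (n : ℕ) := Nat.one_le_two_pow
  have h2 : Even (2 ^ (n : ℕ)) := (Nat.even_pow' n.ne_zero).2 even_two
  exact Nat.Even.sub_odd h1 h2 odd_one

instance h6_bnF_H_finite : Finite ↥((bnF m hq).B ⊓ (bnF m hq).N) :=
  Finite.of_injective (fun x => ((x : ↥(fixG (K := K) m)) : GL chevF4.Idx K))
    (fun _ _ h => Subtype.ext (Subtype.ext h))

end Cfsg.Agent.Lib.Helper6.F4Inv
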