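import Mathlib
import Cfsg.Agent.Lib.Helper1.F4Out.PartA
import Cfsg.Agent.Lib.Helper6.F4InvC2GL

set_option autoImplicit false

/-!
# F4INV farm (S2184), units C2, C3a, C3b for the `(B, N)`-pair `bnF` of `²F₄(q)`

Stated for arbitrary elements `a b` of `G1 = fixG m` with `↑a = n₁`, `↑b = n₂`.
-/

namespace Cfsg.Agent.Lib.Helper6.F4Inv

open Cfsg Cfsg.Lie Cfsg.Agent.Lib.Helper5.ChevSym Cfsg.Agent.Lib.Helper5.ChevSymP
  Cfsg.Agent.Lib.Helper5.ChevStruct Cfsg.Agent.Lib.Helper5.Ree Cfsg.Agent.Lib.Helper5.TwX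
  Cfsg.Agent.Lib.Helper5.MatPow Cfsg.Agent.Lib.Helper5.F4T Cfsg.Agent.Lib.Helper5.TwAut
  Cfsg.Agent.Lib.Helper1.F4Out

variable {K : Type*} [Field K] [Fintype K] [CharP K 2] (m : ℕ)
  (hq : ∀ x : K, x ^ 2 ^ (2 * m + 1) = x)

theorem h6_mem_bnF_B_iff (g : ↥(fixG (K := K) m)) :
    g ∈ (bnF m hq).B ↔ (g : GL chevF4.Idx K) ∈ chevF4.borelSubgroup K := by
  show g ∈ (chevF4.borelSubgroup K ⊓ fixG m).subgroupOf (fixG m) ↔ _
  rw [Subgroup.mem_subgroupOf, Subgroup.mem_inf]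
  exact ⟨fun h => h.1, fun h => ⟨h, g.2⟩⟩

theorem h6_mem_bnF_N_of_diag (g : ↥(fixG (K := K) m))
    (h : (g : GL chevF4.Idx K) ∈ chevF4.diagonalSubgroup K) : g ∈ (bnF m hq).N := by
  show g ∈ (chevF4.monomialSubgroup K ⊓ fixG m).subgroupOf (fixG m)
  rw [Subgroup.mem_subgroupOf, Subgroup.mem_inf]
  exact ⟨diagonal_le_monomial chevF4 h, g.2⟩

theorem h6_coe_w0F (a b : ↥(fixG (K := K) m)) (ha : (a : GL chevF4.Idx K) = n1)
    (hb : (b : GL chevF4.Idx K) = n2) :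
    (((a * b) ^ 4 : ↥(fixG (K := K) m)) : GL chevF4.Idx K) = wGL chevF4 hF4 w0Js.flatten := by
  rw [← h6_pow4_eq, Subgroup.coe_pow, Subgroup.coe_mul, ha, hb]
  rfl

/-- Unit C2 -/
theorem h6_bnF_opp (a b : ↥(fixG (K := K) m)) (ha : (a : GL chevF4.Idx K) = n1)
    (hb : (b : GL chevF4.Idx K) = n2) : ∀ c ∈ (bnF m hq).B,
    (a * b) ^ 4 * c * ((a * b) ^ 4)⁻¹ ∈ (bnF m hq).B → c ∈ (bnF m hq).N := by
  intro c hc h
  rw [h6_mem_bnF_B_iff] at hc h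
  apply h6_mem_bnF_N_of_diag
  apply h6_oppF_GL _ hc
  rw [← h6_coe_w0F m a b ha hb]
  exact h

/-- Unit C3a -/
theorem h6_bnF_W1 (a b : ↥(fixG (K := K) m)) (ha : (a : GL chevF4.Idx K) = n1)
    (hb : (b : GL chevF4.Idx K) = n2) : ∀ c ∈ (bnF m hq).B,
    (b * (a * b) ^ 4) * c * (b * (a * b) ^ 4)⁻¹ ∈ (bnF m hq).B →
    b * c * b⁻¹ ∈ (bnF m hq).B → c ∈ (bnF m hq).N := by
  intro c _ h1 h2
  rw [h6_mem_bnF_B_iff] at h1 h2
  apply h6_mem_bnF_N_of_diag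
  apply h6_WbF_GL
  · rw [← h6_coe_w0F m a b ha hb]
    have e : (wGL chevF4 hF4 [1, 2, 1, 2] : GL chevF4.Idx K) = (b : GL chevF4.Idx K) := hb.symm
    rw [e]
    exact h1
  · have e : (wGL chevF4 hF4 [1, 2, 1, 2] : GL chevF4.Idx K) = (b : GL chevF4.Idx K) := hb.symm
    rw [e]
    exact h2

/-- Unit C3b -/
theorem h6_bnF_W2 (a b : ↥(fixG (K := K) m)) (ha : (a : GL chevF4.Idx K) = n1)
    (hb : (b : GL chevF4.Idx K) = n2) : ∀ c ∈ (bnF m hq).B,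
    (a * (a * b) ^ 4) * c * (a * (a * b) ^ 4)⁻¹ ∈ (bnF m hq).B →
    a * c * a⁻¹ ∈ (bnF m hq).B → c ∈ (bnF m hq).N := by
  intro c _ h1 h2
  rw [h6_mem_bnF_B_iff] at h1 h2
  apply h6_mem_bnF_N_of_diag
  apply h6_WaF_GL
  · rw [← h6_coe_w0F m a b ha hb]
    have e : (wGL chevF4 hF4 [0, 3] : GL chevF4.Idx K) = (a : GL chevF4.Idx K) := ha.symm
    rw [e]
    exact h1
  · have e : (wGL chevF4 hF4 [0, 3] : GL chevF4.Idx K) = (a : GL chevF4.Idx K) := ha.symm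
    rw [e]
    exact h2

end Cfsg.Agent.Lib.Helper6.F4Inv
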