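import Mathlib
import Cfsg.Agent.Lib.Helper3.F4InvA
import Cfsg.Agent.Lib.Helper4.D4InvA2gen
import Cfsg.Agent.Lib.Helper6.F4InvC1
import Cfsg.Agent.Lib.Helper6.F4InvC2
import Cfsg.Agent.Lib.Helper6.F4InvSq

set_option autoImplicit false

/-!
# F4INV farm (S2184), part 1, first assembly: every involution of `²F₄(q)` is conjugate to
`n₁`, `n₂` or `(n₁ n₂)⁴`.
-/

namespace Cfsg.Agent.Lib.Helper6.F4Inv

open Cfsg Cfsg.Lie Cfsg.Agent.Lib.Helper5.ChevSym Cfsg.Agent.Lib.Helper5.ChevSymP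
  Cfsg.Agent.Lib.Helper5.ChevStruct Cfsg.Agent.Lib.Helper5.Ree Cfsg.Agent.Lib.Helper5.TwX
  Cfsg.Agent.Lib.Helper5.MatPow Cfsg.Agent.Lib.Helper5.F4T Cfsg.Agent.Lib.Helper5.TwAut
  Cfsg.Agent.Lib.Helper1.F4Out Cfsg.Agent.Lib.Helper4.BNPair

variable {K : Type*} [Field K] [Fintype K] [CharP K 2] (m : ℕ)
  (hq : ∀ x : K, x ^ 2 ^ (2 * m + 1) = x)

include hq in
/-- every involution of `²F₄(q)` is conjugate into `N` -/
theorem h6_conj_mem_N (a b : ↥(fixG (K := K) m)) (ha : (a : GL chevF4.Idx K) = n1)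
    (hb : (b : GL chevF4.Idx K) = n2) (t : ↥(fixG (K := K) m)) (ht : t * t = 1) :
    ∃ g : ↥(fixG (K := K) m), g * t * g⁻¹ ∈ (bnF m hq).N :=
  Cfsg.Agent.Lib.Helper3.F4Inv.invol_conj_mem_N (bnF m hq) a b (h6_bnF_S m hq a b ha hb)
    (h6_bnF_ord m hq a b ha hb) (h6_bnF_opp m hq a b ha hb) (h6_bnF_W1 m hq a b ha hb)
    (h6_bnF_W2 m hq a b ha hb) t ht

include hq in
/-- every involution of `²F₄(q)` is conjugate to `n₁`, `n₂` or `(n₁ n₂)⁴` -/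
theorem h6_three_classes (a b : ↥(fixG (K := K) m)) (ha : (a : GL chevF4.Idx K) = n1)
    (hb : (b : GL chevF4.Idx K) = n2) (t : ↥(fixG (K := K) m)) (ht : orderOf t = 2) :
    IsConj t a ∨ IsConj t b ∨ IsConj t ((a * b) ^ 4) := by
  have ht2 : t * t = 1 := by
    rw [← pow_two, ← ht]
    exact pow_orderOf_eq_one t
  have ht1 : t ≠ 1 := by
    intro h
    rw [h, orderOf_one] at ht
    norm_num at ht
  exact Cfsg.Agent.Lib.Helper4.D4Inv.invol_three_classes_gen (bnF m hq) a b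
    (h6_bnF_S m hq a b ha hb) 4 (h6_bnF_ord m hq a b ha hb)
    (fun t ht => h6_conj_mem_N m hq a b ha hb t ht) (h6_bnF_H_comm m hq) (h6_bnF_H_odd m hq)
    (h6_a_sq m a ha) (h6_b_sq m b hb) (h6_w0_sq m a b ha hb) t ht2 ht1

end Cfsg.Agent.Lib.Helper6.F4Inv
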