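import Mathlib

set_option autoImplicit false

/-!
F4OUT farm (S2128), unit NEGCELL, abstract part: `V ∩ (B ∪ B n B) ∩ G1 = Y` by counting.
-/

namespace Cfsg.Agent.Lib.Helper6.F4Out

/-- Let `x, y : P → Γ` be parametrisations (`P` finite with a base point `o`, `x o = 1`, `x`
injective) with `y p = n x(p) n⁻¹ ∈ V ∩ G1`, `n y(p) n⁻¹ ∈ B`, `B ∩ V = 1`, such that every element
of `G1 ∩ B n B` is `c n x(p)` with `c ∈ B`, and `y p ∈ B n B` for `p ≠ o`. Then every element of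
`G1 ∩ V ∩ (B ∪ B n B)` is some `y p`. -/
theorem h6_neg_cell_abs {Γ : Type*} [Group Γ] (B V G1 : Subgroup Γ) (n : Γ) {P : Type*} [Finite P]
    (o : P) (x y : P → Γ)
    (hBV : ∀ g ∈ B, g ∈ V → g = 1)
    (hy : ∀ p, y p = n * x p * n⁻¹)
    (hyV : ∀ p, y p ∈ V) (hyG : ∀ p, y p ∈ G1)
    (hxinj : Function.Injective x) (hxo : x o = 1)
    (hcell : ∀ g ∈ G1, (∃ b₁ ∈ B, ∃ b₂ ∈ B, g = b₁ * n * b₂) → ∃ c ∈ B, ∃ p, g = c * n * x p)
    (hycell : ∀ p, p ≠ o → ∃ b₁ ∈ B, ∃ b₂ ∈ B, y p = b₁ * n * b₂)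
    (hnn : ∀ p, n * y p * n⁻¹ ∈ B)
    (hne : ∃ p₁ : P, p₁ ≠ o)
    (g : Γ) (hg : g ∈ G1) (hV : g ∈ V)
    (hP : g ∈ B ∨ ∃ b₁ ∈ B, ∃ b₂ ∈ B, g = b₁ * n * b₂) : ∃ p, g = y p := by
  classical
  have hyo : y o = 1 := by rw [hy, hxo]; group
  have hyinj : Function.Injective y := by
    intro p p' e
    rw [hy, hy] at e
    exact hxinj (mul_left_cancel (mul_right_cancel e))
  -- an element `c n` with `c ∈ B` is not in `V`
  have hA : ∀ c ∈ B, c * n ∈ V → False := by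
    intro c hc hcn
    obtain ⟨p₁, hp₁⟩ := hne
    have h1 : (c * n) * y p₁ * (c * n)⁻¹ ∈ B := by
      have : (c * n) * y p₁ * (c * n)⁻¹ = c * (n * y p₁ * n⁻¹) * c⁻¹ := by group
      rw [this]
      exact mul_mem (mul_mem hc (hnn p₁)) (inv_mem hc)
    have h2 : (c * n) * y p₁ * (c * n)⁻¹ ∈ V := mul_mem (mul_mem hcn (hyV p₁)) (inv_mem hcn)
    have h3 := hBV _ h1 h2
    have h4 : y p₁ = 1 := by
      have : y p₁ = (c * n)⁻¹ * ((c * n) * y p₁ * (c * n)⁻¹) * (c * n) := by group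
      rw [this, h3]
      group
    exact hp₁ (hyinj (h4.trans hyo.symm))
  -- two elements of `V` with the same `X`-component are equal
  have hsame : ∀ g₁ ∈ V, ∀ g₂ ∈ V, ∀ c₁ ∈ B, ∀ c₂ ∈ B, ∀ p, g₁ = c₁ * n * x p →
      g₂ = c₂ * n * x p → g₁ = g₂ := by
    intro g₁ hg₁ g₂ hg₂ c₁ hc₁ c₂ hc₂ p e₁ e₂
    have h1 : g₁ * g₂⁻¹ = c₁ * c₂⁻¹ := by
      rw [e₁, e₂]
      group
    have h2 := hBV _ (by rw [h1]; exact mul_mem hc₁ (inv_mem hc₂)) (mul_mem hg₁ (inv_mem hg₂))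
    exact mul_inv_eq_one.1 h2
  -- the component map on `P ∖ o`
  have hex : ∀ p : {p : P // p ≠ o}, ∃ r : {p : P // p ≠ o}, ∃ c ∈ B, y p.1 = c * n * x r.1 := by
    intro p
    obtain ⟨c, hc, r, e⟩ := hcell _ (hyG p.1) (hycell p.1 p.2)
    refine ⟨⟨r, ?_⟩, c, hc, e⟩
    rintro rfl
    rw [hxo, mul_one] at e
    exact hA c hc (by rw [← e]; exact hyV p.1)
  choose φ hφ using hex
  have hφinj : Function.Injective φ := by
    intro p p' e
    obtain ⟨c, hc, e1⟩ := hφ p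
    obtain ⟨c', hc', e2⟩ := hφ p'
    rw [e] at e1
    exact Subtype.ext (hyinj (hsame _ (hyV _) _ (hyV _) c hc c' hc' _ e1 e2))
  have hφsurj : Function.Surjective φ := Finite.surjective_of_injective hφinj
  rcases hP with hgB | hgC
  · exact ⟨o, (hBV g hgB hV).trans hyo.symm⟩
  · obtain ⟨c, hc, p, e⟩ := hcell g hg hgC
    have hp : p ≠ o := by
      rintro rfl
      rw [hxo, mul_one] at e
      exact hA c hc (by rw [← e]; exact hV)
    obtain ⟨p', hp'⟩ := hφsurj ⟨p, hp⟩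
    obtain ⟨c', hc', e'⟩ := hφ p'
    rw [hp'] at e'
    exact ⟨p'.1, hsame g hV _ (hyV _) c hc c' hc' p e e'⟩

end Cfsg.Agent.Lib.Helper6.F4Out
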