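import Mathlib
import Cfsg.Agent.Lib.Helper1.F4Out.Defs
import Cfsg.Agent.Lib.Helper5.F4T.BN
import Cfsg.Agent.Lib.Helper5.TwX.BN
import Cfsg.Agent.Lib.Helper5.ChevDiag
import Cfsg.Agent.Lib.Helper6.F4OutNegAbs

set_option autoImplicit false

/-!
F4OUT farm (S2128): `y_J ∈ B n_J B` and the unit NEGCELL, modulo the facts of the units
ROOTS and CELLS (taken as hypotheses here; see `F4OutNegCell.lean` for the final statements).
-/

namespace Cfsg.Agent.Lib.Helper6.F4Out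

open Cfsg Cfsg.Lie Cfsg.Agent.Lib.Helper5.ChevSym Cfsg.Agent.Lib.Helper5.ChevSymP
  Cfsg.Agent.Lib.Helper5.ChevStruct Cfsg.Agent.Lib.Helper5.Ree Cfsg.Agent.Lib.Helper5.TwX
  Cfsg.Agent.Lib.Helper5.MatPow Cfsg.Agent.Lib.Helper5.F4T Cfsg.Agent.Lib.Helper5.TwAut
  Cfsg.Agent.Lib.Helper1.F4Out

variable {K : Type*} [Field K] [Fintype K] [CharP K 2] (m : ℕ)
  (hq : ∀ x : K, x ^ 2 ^ (2 * m + 1) = x)

theorem h6_borel_inf_neg (g : GL chevF4.Idx K) (h1 : g ∈ chevF4.borelSubgroup K)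
    (h2 : g ∈ chevF4.negUnipotent K) : g = 1 := by
  have : g ∈ chevF4.borelSubgroup K ⊓ chevF4.negUnipotent K := ⟨h1, h2⟩
  rw [borel_inf_neg chevF4 hF4] at this
  exact this

include hq in
/-- `n_J² ∈ B` -/
theorem h6_sq_mem_borel (J : List ℕ) (hJ : J ∈ orbsF4) :
    (wGL chevF4 hF4 J * wGL chevF4 hF4 J : GL chevF4.Idx K) ∈ chevF4.borelSubgroup K := by
  have hyp := hypX_F4 (K := K) m hq
  have h := (bnPairX chevF4 hF4 gF4 orbsF4 (fixG (K := K) m) hyp).sq_mem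
    ⟨wGL chevF4 hF4 J, hyp.hn J hJ⟩ ⟨J, hJ, rfl⟩
  have h' : (⟨wGL chevF4 hF4 J, hyp.hn J hJ⟩ * ⟨wGL chevF4 hF4 J, hyp.hn J hJ⟩ :
      ↥(fixG (K := K) m)) ∈ (chevF4.borelSubgroup K ⊓ fixG m).subgroupOf (fixG m) := h
  rw [Subgroup.mem_subgroupOf] at h'
  exact (Subgroup.mem_inf.1 h').1

include hq in
/-- a nontrivial element `n_J x n_J⁻¹ ∈ V` with `x ∈ U ∩ G1` lies in `B n_J B` -/
theorem h6_y_mem_cell_of (J : List ℕ) (hJ : J ∈ orbsF4) (x y : GL chevF4.Idx K)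
    (hxf : x ∈ fixG (K := K) m) (hxp : x ∈ chevF4.posUnipotent K)
    (hy : y = wGL chevF4 hF4 J * x * (wGL chevF4 hF4 J)⁻¹)
    (hyV : y ∈ chevF4.negUnipotent K) (hy1 : y ≠ 1) :
    ∃ b₁ ∈ chevF4.borelSubgroup K, ∃ b₂ ∈ chevF4.borelSubgroup K,
      y = b₁ * wGL chevF4 hF4 J * b₂ := by
  have hyp := hypX_F4 (K := K) m hq
  set P := bnPairX chevF4 hF4 gF4 orbsF4 (fixG (K := K) m) hyp with hP
  set n : GL chevF4.Idx K := wGL chevF4 hF4 J with hn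
  have hsq := h6_sq_mem_borel m hq J hJ
  have hs : (⟨n, hyp.hn J hJ⟩ : ↥(fixG (K := K) m)) ∈ P.S := ⟨J, hJ, rfl⟩
  have hsN : (⟨n, hyp.hn J hJ⟩ : ↥(fixG (K := K) m)) ∈ P.N := P.subset hs
  have hb : (⟨x, hxf⟩ : ↥(fixG (K := K) m)) ∈ P.B := by
    show _ ∈ (chevF4.borelSubgroup K ⊓ fixG m).subgroupOf (fixG m)
    rw [Subgroup.mem_subgroupOf]
    exact Subgroup.mem_inf.2 ⟨pos_le_borel chevF4 hxp, hxf⟩
  have hmem : ∀ b : ↥(fixG (K := K) m), b ∈ P.B → (b : GL chevF4.Idx K) ∈ chevF4.borelSubgroup K := by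
    intro b hb'
    have : b ∈ (chevF4.borelSubgroup K ⊓ fixG m).subgroupOf (fixG m) := hb'
    rw [Subgroup.mem_subgroupOf] at this
    exact (Subgroup.mem_inf.1 this).1
  have hu := P.mul_mem_union _ hs _ hsN _ hb
  have hyn : y = n * x * n * (n * n)⁻¹ := by rw [hy]; group
  rcases hu with h1 | h1
  · exfalso
    rw [DoubleCoset.mem_doubleCoset] at h1
    obtain ⟨b₁, hb₁, b₂, hb₂, e⟩ := h1
    have e' : n * x * n = (b₁ : GL chevF4.Idx K) * (n * n) * (b₂ : GL chevF4.Idx K) := by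
      have := congrArg Subtype.val e
      simpa using this
    have hyB : y ∈ chevF4.borelSubgroup K := by
      rw [hyn, e']
      exact mul_mem (mul_mem (mul_mem (hmem b₁ hb₁) hsq) (hmem b₂ hb₂)) (inv_mem hsq)
    exact hy1 (h6_borel_inf_neg y hyB hyV)
  · rw [DoubleCoset.mem_doubleCoset] at h1
    obtain ⟨b₁, hb₁, b₂, hb₂, e⟩ := h1
    have e' : n * x * n = (b₁ : GL chevF4.Idx K) * n * (b₂ : GL chevF4.Idx K) := by
      have := congrArg Subtype.val e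
      simpa using this
    refine ⟨b₁, hmem b₁ hb₁, (b₂ : GL chevF4.Idx K) * (n * n)⁻¹,
      mul_mem (hmem b₂ hb₂) (inv_mem hsq), ?_⟩
    rw [hyn, e']
    group

end Cfsg.Agent.Lib.Helper6.F4Out
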