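import Mathlib
import Cfsg.Agent.Lib.Helper6.F4OutYCell

set_option autoImplicit false

/-!
F4OUT farm (S2128): `y_J ∈ B n_J B` and the unit NEGCELL with the facts of the units ROOTS and CELLS
as hypotheses.
-/

namespace Cfsg.Agent.Lib.Helper6.F4Out

open Cfsg Cfsg.Lie Cfsg.Agent.Lib.Helper5.ChevSym Cfsg.Agent.Lib.Helper5.ChevSymP
  Cfsg.Agent.Lib.Helper5.ChevStruct Cfsg.Agent.Lib.Helper5.Ree Cfsg.Agent.Lib.Helper5.TwX
  Cfsg.Agent.Lib.Helper5.MatPow Cfsg.Agent.Lib.Helper5.F4T Cfsg.Agent.Lib.Helper5.TwAut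
  Cfsg.Agent.Lib.Helper1.F4Out

variable {K : Type*} [Field K] [Fintype K] [CharP K 2] (m : ℕ)
  (hq : ∀ x : K, x ^ 2 ^ (2 * m + 1) = x)

theorem h6_x1_zero (hadd : ∀ s t : K, x1 m (s + t) = x1 m s * x1 m t) : x1 m (0 : K) = 1 := by
  have h := hadd 0 0
  rw [add_zero] at h
  exact mul_eq_left.1 h.symm

theorem h6_x2_zero
    (hmul : ∀ t u s v : K, x2 m t u * x2 m s v = x2 m (t + s) (u + v + s * ph m t)) :
    x2 m (0 : K) 0 = 1 := by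
  have h := hmul 0 0 0 0
  simp only [add_zero, zero_mul] at h
  exact mul_eq_left.1 h

include hq in
theorem y1_mem_cell_of
    (hxf : ∀ t : K, x1 m t ∈ fixG (K := K) m) (hxp : ∀ t : K, x1 m t ∈ chevF4.posUnipotent K)
    (hyV : ∀ t : K, y1 m t ∈ chevF4.negUnipotent K)
    (hadd : ∀ s t : K, x1 m (s + t) = x1 m s * x1 m t)
    (hinj : Function.Injective (x1 (K := K) m))
    (hconj : ∀ t : K, n1 * x1 m t * (n1 : GL chevF4.Idx K)⁻¹ = y1 m t)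
    (t : K) (ht : t ≠ 0) : ∃ b₁ ∈ chevF4.borelSubgroup K,
    ∃ b₂ ∈ chevF4.borelSubgroup K, y1 m t = b₁ * n1 * b₂ := by
  apply h6_y_mem_cell_of m hq [0, 3] (by decide) (x1 m t) (y1 m t) (hxf t) (hxp t)
    (hconj t).symm (hyV t)
  intro h1
  rw [← hconj t] at h1
  have h2 : x1 m t = 1 := by
    have : x1 m t = (n1 : GL chevF4.Idx K)⁻¹ * (n1 * x1 m t * (n1 : GL chevF4.Idx K)⁻¹) * n1 := by
      group
    rw [this, h1]
    group
  exact ht (hinj (h2.trans (h6_x1_zero m hadd).symm))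

include hq in
theorem y2_mem_cell_of
    (hxf : ∀ t u : K, x2 m t u ∈ fixG (K := K) m)
    (hxp : ∀ t u : K, x2 m t u ∈ chevF4.posUnipotent K)
    (hyV : ∀ t u : K, y2 m t u ∈ chevF4.negUnipotent K)
    (hmul : ∀ t u s v : K, x2 m t u * x2 m s v = x2 m (t + s) (u + v + s * ph m t))
    (hinj : ∀ t u s v : K, x2 m t u = x2 m s v → t = s ∧ u = v)
    (hconj : ∀ t u : K, n2 * x2 m t u * (n2 : GL chevF4.Idx K)⁻¹ = y2 m t u)
    (t u : K) (htu : t ≠ 0 ∨ u ≠ 0) : ∃ b₁ ∈ chevF4.borelSubgroup K,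
    ∃ b₂ ∈ chevF4.borelSubgroup K, y2 m t u = b₁ * n2 * b₂ := by
  apply h6_y_mem_cell_of m hq [1, 2, 1, 2] (by decide) (x2 m t u) (y2 m t u) (hxf t u) (hxp t u)
    (hconj t u).symm (hyV t u)
  intro h1
  rw [← hconj t u] at h1
  have h2 : x2 m t u = 1 := by
    have : x2 m t u
        = (n2 : GL chevF4.Idx K)⁻¹ * (n2 * x2 m t u * (n2 : GL chevF4.Idx K)⁻¹) * n2 := by
      group
    rw [this, h1]
    group
  have h3 := hinj t u 0 0 (h2.trans (h6_x2_zero m hmul).symm)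
  rcases htu with h | h
  · exact h h3.1
  · exact h h3.2

include hq in
theorem neg_cell_n1_of
    (hxp : ∀ t : K, x1 m t ∈ chevF4.posUnipotent K)
    (hyV : ∀ t : K, y1 m t ∈ chevF4.negUnipotent K) (hyf : ∀ t : K, y1 m t ∈ fixG (K := K) m)
    (hadd : ∀ s t : K, x1 m (s + t) = x1 m s * x1 m t)
    (hinj : Function.Injective (x1 (K := K) m))
    (hconj : ∀ t : K, n1 * x1 m t * (n1 : GL chevF4.Idx K)⁻¹ = y1 m t)
    (hcell : ∀ g b₁ b₂ : GL chevF4.Idx K, g ∈ fixG (K := K) m → b₁ ∈ chevF4.borelSubgroup K →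
      b₂ ∈ chevF4.borelSubgroup K → g = b₁ * n1 * b₂ →
      ∃ c ∈ chevF4.borelSubgroup K ⊓ fixG m, ∃ t, g = c * n1 * x1 m t)
    (hycell : ∀ t : K, t ≠ 0 → ∃ b₁ ∈ chevF4.borelSubgroup K,
      ∃ b₂ ∈ chevF4.borelSubgroup K, y1 m t = b₁ * n1 * b₂)
    (g : GL chevF4.Idx K) (hg : g ∈ fixG (K := K) m)
    (hV : g ∈ chevF4.negUnipotent K)
    (hP : g ∈ chevF4.borelSubgroup K ∨ ∃ b₁ ∈ chevF4.borelSubgroup K,
      ∃ b₂ ∈ chevF4.borelSubgroup K, g = b₁ * n1 * b₂) : ∃ t, g = y1 m t := by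
  have hsq := h6_sq_mem_borel m hq [0, 3] (by decide)
  refine h6_neg_cell_abs (chevF4.borelSubgroup K) (chevF4.negUnipotent K) (fixG (K := K) m)
    (n1 : GL chevF4.Idx K) (0 : K) (x1 m) (y1 m) (fun g h1 h2 => h6_borel_inf_neg g h1 h2)
    (fun t => (hconj t).symm) hyV hyf hinj (h6_x1_zero m hadd) ?_ hycell ?_ ⟨1, one_ne_zero⟩
    g hg hV hP
  · rintro g hg ⟨b₁, hb₁, b₂, hb₂, e⟩
    obtain ⟨c, hc, t, e'⟩ := hcell g b₁ b₂ hg hb₁ hb₂ e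
    exact ⟨c, (Subgroup.mem_inf.1 hc).1, t, e'⟩
  · intro t
    have e : (n1 : GL chevF4.Idx K) * y1 m t * (n1 : GL chevF4.Idx K)⁻¹
        = (n1 * n1) * x1 m t * (n1 * n1 : GL chevF4.Idx K)⁻¹ := by
      rw [← hconj t]
      group
    rw [e]
    exact mul_mem (mul_mem hsq (pos_le_borel chevF4 (hxp t))) (inv_mem hsq)

include hq in
theorem neg_cell_n2_of
    (hxp : ∀ t u : K, x2 m t u ∈ chevF4.posUnipotent K)
    (hyV : ∀ t u : K, y2 m t u ∈ chevF4.negUnipotent K)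
    (hyf : ∀ t u : K, y2 m t u ∈ fixG (K := K) m)
    (hmul : ∀ t u s v : K, x2 m t u * x2 m s v = x2 m (t + s) (u + v + s * ph m t))
    (hinj : ∀ t u s v : K, x2 m t u = x2 m s v → t = s ∧ u = v)
    (hconj : ∀ t u : K, n2 * x2 m t u * (n2 : GL chevF4.Idx K)⁻¹ = y2 m t u)
    (hcell : ∀ g b₁ b₂ : GL chevF4.Idx K, g ∈ fixG (K := K) m → b₁ ∈ chevF4.borelSubgroup K →
      b₂ ∈ chevF4.borelSubgroup K → g = b₁ * n2 * b₂ →
      ∃ c ∈ chevF4.borelSubgroup K ⊓ fixG m, ∃ t u, g = c * n2 * x2 m t u)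
    (hycell : ∀ t u : K, (t ≠ 0 ∨ u ≠ 0) → ∃ b₁ ∈ chevF4.borelSubgroup K,
      ∃ b₂ ∈ chevF4.borelSubgroup K, y2 m t u = b₁ * n2 * b₂)
    (g : GL chevF4.Idx K) (hg : g ∈ fixG (K := K) m)
    (hV : g ∈ chevF4.negUnipotent K)
    (hP : g ∈ chevF4.borelSubgroup K ∨ ∃ b₁ ∈ chevF4.borelSubgroup K,
      ∃ b₂ ∈ chevF4.borelSubgroup K, g = b₁ * n2 * b₂) : ∃ t u, g = y2 m t u := by
  have hsq := h6_sq_mem_borel m hq [1, 2, 1, 2] (by decide)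
  have key := h6_neg_cell_abs (chevF4.borelSubgroup K) (chevF4.negUnipotent K) (fixG (K := K) m)
    (n2 : GL chevF4.Idx K) ((0, 0) : K × K) (fun p => x2 m p.1 p.2) (fun p => y2 m p.1 p.2)
    (fun g h1 h2 => h6_borel_inf_neg g h1 h2)
    (fun p => (hconj p.1 p.2).symm) (fun p => hyV p.1 p.2) (fun p => hyf p.1 p.2) ?_
    (h6_x2_zero m hmul) ?_ ?_ ?_ ⟨(1, 0), by simp⟩ g hg hV hP
  · obtain ⟨p, e⟩ := key
    exact ⟨p.1, p.2, e⟩
  · rintro ⟨t, u⟩ ⟨s, v⟩ e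
    obtain ⟨h1, h2⟩ := hinj t u s v e
    rw [h1, h2]
  · rintro g hg ⟨b₁, hb₁, b₂, hb₂, e⟩
    obtain ⟨c, hc, t, u, e'⟩ := hcell g b₁ b₂ hg hb₁ hb₂ e
    exact ⟨c, (Subgroup.mem_inf.1 hc).1, (t, u), e'⟩
  · rintro ⟨t, u⟩ hp
    apply hycell t u
    by_contra hcon
    push Not at hcon
    apply hp
    rw [hcon.1, hcon.2]
  · intro p
    have e : (n2 : GL chevF4.Idx K) * y2 m p.1 p.2 * (n2 : GL chevF4.Idx K)⁻¹
        = (n2 * n2) * x2 m p.1 p.2 * (n2 * n2 : GL chevF4.Idx K)⁻¹ := by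
      rw [← hconj p.1 p.2]
      group
    rw [e]
    exact mul_mem (mul_mem hsq (pos_le_borel chevF4 (hxp p.1 p.2))) (inv_mem hsq)

end Cfsg.Agent.Lib.Helper6.F4Out
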