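import Mathlib
import Cfsg.Agent.Lib.Helper6.F4OutNegCellOf
import Cfsg.Agent.Lib.Helper5.F4OutCells
import Cfsg.Agent.Lib.Helper2.F4OutS1
import Cfsg.Agent.Lib.Helper2.F4OutS2
import Cfsg.Agent.Lib.Helper2.F4OutS4

set_option autoImplicit false

/-!
F4OUT farm (S2128): the units NEGCELL (`neg_cell_n1`, `neg_cell_n2`) and `y1_mem_cell`,
`y2_mem_cell`, final statements.
-/

namespace Cfsg.Agent.Lib.Helper6.F4Out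

open Cfsg Cfsg.Lie Cfsg.Agent.Lib.Helper5.ChevSym Cfsg.Agent.Lib.Helper5.ChevSymP
  Cfsg.Agent.Lib.Helper5.ChevStruct Cfsg.Agent.Lib.Helper5.Ree Cfsg.Agent.Lib.Helper5.TwX
  Cfsg.Agent.Lib.Helper5.MatPow Cfsg.Agent.Lib.Helper5.F4T Cfsg.Agent.Lib.Helper5.TwAut
  Cfsg.Agent.Lib.Helper1.F4Out

variable {K : Type*} [Field K] [Fintype K] [CharP K 2] (m : ℕ)
  (hq : ∀ x : K, x ^ 2 ^ (2 * m + 1) = x)

include hq in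
theorem y1_mem_cell (t : K) (ht : t ≠ 0) : ∃ b₁ ∈ chevF4.borelSubgroup K,
    ∃ b₂ ∈ chevF4.borelSubgroup K, y1 m t = b₁ * n1 * b₂ :=
  y1_mem_cell_of m hq (Cfsg.Agent.Lib.Helper2.F4Out.x1_mem_fix m hq)
    (Cfsg.Agent.Lib.Helper2.F4Out.x1_mem_pos m) (Cfsg.Agent.Lib.Helper2.F4Out.y1_mem_neg m)
    (Cfsg.Agent.Lib.Helper2.F4Out.x1_add m) (Cfsg.Agent.Lib.Helper2.F4Out.x1_injective m)
    (Cfsg.Agent.Lib.Helper2.F4Out.n1_conj_x1 m) t ht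

include hq in
theorem y2_mem_cell (t u : K) (htu : t ≠ 0 ∨ u ≠ 0) : ∃ b₁ ∈ chevF4.borelSubgroup K,
    ∃ b₂ ∈ chevF4.borelSubgroup K, y2 m t u = b₁ * n2 * b₂ :=
  y2_mem_cell_of m hq (Cfsg.Agent.Lib.Helper2.F4Out.x2_mem_fix m hq)
    (Cfsg.Agent.Lib.Helper2.F4Out.x2_mem_pos m) (Cfsg.Agent.Lib.Helper2.F4Out.y2_mem_neg m)
    (Cfsg.Agent.Lib.Helper2.F4Out.x2_mul m hq) (Cfsg.Agent.Lib.Helper2.F4Out.x2_injective m)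
    (Cfsg.Agent.Lib.Helper2.F4Out.n2_conj_x2 m) t u htu

include hq in
theorem neg_cell_n1 (g : GL chevF4.Idx K) (hg : g ∈ fixG (K := K) m)
    (hV : g ∈ chevF4.negUnipotent K)
    (hP : g ∈ chevF4.borelSubgroup K ∨ ∃ b₁ ∈ chevF4.borelSubgroup K,
      ∃ b₂ ∈ chevF4.borelSubgroup K, g = b₁ * n1 * b₂) : ∃ t, g = y1 m t :=
  neg_cell_n1_of m hq (Cfsg.Agent.Lib.Helper2.F4Out.x1_mem_pos m)
    (Cfsg.Agent.Lib.Helper2.F4Out.y1_mem_neg m) (Cfsg.Agent.Lib.Helper2.F4Out.y1_mem_fix m hq)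
    (Cfsg.Agent.Lib.Helper2.F4Out.x1_add m) (Cfsg.Agent.Lib.Helper2.F4Out.x1_injective m)
    (Cfsg.Agent.Lib.Helper2.F4Out.n1_conj_x1 m)
    (fun g b₁ b₂ hg hb₁ hb₂ e => Cfsg.Agent.Lib.Helper5.F4Out.cell_n1 m hq g b₁ b₂ hg hb₁ hb₂ e)
    (fun t ht => y1_mem_cell m hq t ht) g hg hV hP

include hq in
theorem neg_cell_n2 (g : GL chevF4.Idx K) (hg : g ∈ fixG (K := K) m)
    (hV : g ∈ chevF4.negUnipotent K)
    (hP : g ∈ chevF4.borelSubgroup K ∨ ∃ b₁ ∈ chevF4.borelSubgroup K,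
      ∃ b₂ ∈ chevF4.borelSubgroup K, g = b₁ * n2 * b₂) : ∃ t u, g = y2 m t u :=
  neg_cell_n2_of m hq (Cfsg.Agent.Lib.Helper2.F4Out.x2_mem_pos m)
    (Cfsg.Agent.Lib.Helper2.F4Out.y2_mem_neg m) (Cfsg.Agent.Lib.Helper2.F4Out.y2_mem_fix m hq)
    (Cfsg.Agent.Lib.Helper2.F4Out.x2_mul m hq) (Cfsg.Agent.Lib.Helper2.F4Out.x2_injective m)
    (Cfsg.Agent.Lib.Helper2.F4Out.n2_conj_x2 m)
    (fun g b₁ b₂ hg hb₁ hb₂ e => Cfsg.Agent.Lib.Helper5.F4Out.cell_n2 m hq g b₁ b₂ hg hb₁ hb₂ e)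
    (fun t u htu => y2_mem_cell m hq t u htu) g hg hV hP

end Cfsg.Agent.Lib.Helper6.F4Out
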