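import Mathlib

set_option autoImplicit false

/-!
F4OUT farm (S2128), unit TRICK: a rigidity lemma in pure finite group theory.
-/

namespace Cfsg.Agent.Lib.Helper6.F4Out

/-- a left translation of a finite group which maps a subset of corank one into itself is
trivial -/
theorem h6_translate_eq_one {X : Type*} [Group X] [Finite X] (I : Set X) (x₀ : X)
    (hcard : I.ncard + 1 = Nat.card X) (hI : ∀ x ∈ I, x₀ * x ∈ I) : x₀ = 1 := by
  classical
  have hfin : I.Finite := Set.toFinite I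
  -- the complement is a singleton
  have hc : Iᶜ.ncard = 1 := by
    have := Set.ncard_add_ncard_compl I
    omega
  obtain ⟨e, he⟩ := Set.ncard_eq_one.1 hc
  -- left translation maps `I` onto `I`
  have himg : (fun x => x₀ * x) '' I = I := by
    apply Set.eq_of_subset_of_ncard_le
    · rintro _ ⟨x, hx, rfl⟩
      exact hI x hx
    · rw [Set.ncard_image_of_injective I (mul_right_injective x₀)]
    · exact hfin
  have hbij : Function.Bijective (fun x : X => x₀ * x) :=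
    ⟨mul_right_injective x₀, fun y => ⟨x₀⁻¹ * y, by simp⟩⟩
  have hcompl : (fun x => x₀ * x) '' Iᶜ = Iᶜ := by
    rw [Set.image_compl_eq hbij, himg]
  rw [he, Set.image_singleton] at hcompl
  have : x₀ * e = e := Set.singleton_eq_singleton_iff.1 hcompl
  exact mul_eq_right.1 this

/-- If `θ` fixes `X` pointwise, preserves `B` and `Y`, `θ n ∈ B n X`, every `1 ≠ y ∈ Y` lies in
`B n X`, with `X`-component unique, `Y ∩ B = 1` and `|Y| = |X|` finite, then `θ` fixes `Y`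
pointwise.  (For `y ≠ 1` write `y = b n ξ(y)`; `ξ` is injective on `Y ∖ 1`, its image misses exactly
one point `e` of `X`; `θ n = b₀ n x₀` gives `ξ (θ y) = x₀ ξ(y)`, so `x₀ e = e`, `x₀ = 1`.) -/
theorem trick {Γ : Type*} [Group Γ] (B X Y : Subgroup Γ) (n : Γ) [Finite X]
    (hXY : Nat.card Y = Nat.card X)
    (hY : ∀ y ∈ Y, y ≠ 1 → ∃ b ∈ B, ∃ x ∈ X, y = b * n * x)
    (huniq : ∀ x ∈ X, n * x * n⁻¹ ∈ B → x = 1)
    (hYB : ∀ y ∈ Y, y ∈ B → y = 1)
    (θ : Γ ≃* Γ) (hB : ∀ g, θ g ∈ B ↔ g ∈ B) (hθY : ∀ y ∈ Y, θ y ∈ Y)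
    (hθX : ∀ x ∈ X, θ x = x) (hn : ∃ b ∈ B, ∃ x ∈ X, θ n = b * n * x) :
    ∀ y ∈ Y, θ y = y := by
  classical
  have hXpos : 0 < Nat.card X := Nat.card_pos
  have hYfin : Finite Y := Nat.finite_of_card_ne_zero (by omega)
  obtain ⟨b₀, hb₀, x₀, hx₀, hθn⟩ := hn
  -- the `X`-component is unique
  have hfun : ∀ b ∈ B, ∀ b' ∈ B, ∀ x ∈ X, ∀ x' ∈ X, b * n * x = b' * n * x' → x = x' := by
    intro b hb b' hb' x hx x' hx' e
    have h1 : n * (x * x'⁻¹) * n⁻¹ = b⁻¹ * b' := by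
      have : n * (x * x'⁻¹) * n⁻¹ = b⁻¹ * (b * n * x) * x'⁻¹ * n⁻¹ := by group
      rw [this, e]
      group
    have h2 := huniq (x * x'⁻¹) (mul_mem hx (inv_mem hx')) (by
      rw [h1]; exact mul_mem (inv_mem hb) hb')
    exact mul_inv_eq_one.1 h2
  -- the nontrivial elements of `Y`
  let Ys := {y : ↥Y // y ≠ 1}
  have hex : ∀ y : Ys, ∃ x : ↥X, ∃ b ∈ B, (y.1 : Γ) = b * n * x := by
    intro y
    have hy1 : (y.1 : Γ) ≠ 1 := fun h => y.2 (Subtype.ext h)
    obtain ⟨b, hb, x, hx, e⟩ := hY y.1 y.1.2 hy1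
    exact ⟨⟨x, hx⟩, b, hb, e⟩
  choose ξ hξ using hex
  have hξinj : Function.Injective ξ := by
    intro y y' e
    obtain ⟨b, hb, e1⟩ := hξ y
    obtain ⟨b', hb', e2⟩ := hξ y'
    rw [e] at e1
    have h1 : (y.1 : Γ) * (y'.1 : Γ)⁻¹ = b * b'⁻¹ := by
      rw [e1, e2]
      group
    have h2 := hYB _ (mul_mem y.1.2 (inv_mem y'.1.2)) (by
      rw [h1]; exact mul_mem hb (inv_mem hb'))
    have h3 : (y.1 : Γ) = y'.1 := mul_inv_eq_one.1 h2
    exact Subtype.ext (Subtype.ext h3)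
  -- `θ` on `Ys`
  have hθne : ∀ y : Ys, (⟨θ y.1, hθY _ y.1.2⟩ : ↥Y) ≠ 1 := by
    intro y h
    have h1 : θ (y.1 : Γ) = 1 := congrArg Subtype.val h
    have h2 : (y.1 : Γ) = 1 := by
      have := θ.injective (h1.trans (map_one θ).symm)
      exact this
    exact y.2 (Subtype.ext h2)
  let τ : Ys → Ys := fun y => ⟨⟨θ y.1, hθY _ y.1.2⟩, hθne y⟩
  have hequi : ∀ y : Ys, ξ (τ y) = ⟨x₀, hx₀⟩ * ξ y := by
    intro y
    obtain ⟨b, hb, e1⟩ := hξ y
    obtain ⟨b', hb', e2⟩ := hξ (τ y)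
    have e3 : ((τ y).1 : Γ) = θ (y.1 : Γ) := rfl
    have e4 : θ (y.1 : Γ) = (θ b * b₀) * n * (x₀ * (ξ y : Γ)) := by
      rw [e1, map_mul, map_mul, hθn, hθX _ (ξ y).2]
      group
    rw [e3, e4] at e2
    have := hfun _ (mul_mem ((hB b).2 hb) hb₀) _ hb' _ (mul_mem hx₀ (ξ y).2) _ (ξ (τ y)).2 e2
    exact Subtype.ext this.symm
  -- the image of `ξ` has corank one
  have hcardYs : Nat.card Ys + 1 = Nat.card Y := by
    have : Fintype ↥Y := Fintype.ofFinite _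
    have h1 : Nat.card Ys = Fintype.card {y : ↥Y // y ≠ 1} := Nat.card_eq_fintype_card
    rw [h1, Fintype.card_subtype_compl, Fintype.card_subtype_eq, Nat.card_eq_fintype_card]
    have : 0 < Fintype.card ↥Y := Fintype.card_pos
    omega
  have hrange : (Set.range ξ).ncard + 1 = Nat.card X := by
    rw [← hXY, ← hcardYs, Set.ncard_range_of_injective hξinj]
  have hx1 : (⟨x₀, hx₀⟩ : ↥X) = 1 := by
    apply h6_translate_eq_one (Set.range ξ) _ hrange
    rintro _ ⟨y, rfl⟩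
    exact ⟨τ y, hequi y⟩
  intro y hy
  by_cases hy1 : y = 1
  · rw [hy1, map_one]
  · have hy' : (⟨y, hy⟩ : ↥Y) ≠ 1 := fun h => hy1 (congrArg Subtype.val h)
    have := hequi ⟨⟨y, hy⟩, hy'⟩
    rw [hx1, one_mul] at this
    have h2 := hξinj this
    exact congrArg (fun z : Ys => ((z.1 : ↥Y) : Γ)) h2

end Cfsg.Agent.Lib.Helper6.F4Out
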