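import Mathlib
import Cfsg.Prelude.Def_Local
import Cfsg.Agent.Lib.Helper1.PSolvSub
import Cfsg.Agent.Lib.Helper7.PCompl

/-! Unit Hall of the farm FG19 (S4411): a finite `p`-solvable group has a Hall `{p,q}`-subgroup. -/

set_option autoImplicit false

namespace Cfsg.Agent.Lib.Helper6.FG19Hall

open Cfsg

universe u

/-- `Y` is a Hall `{p,q}`-subgroup. -/
def IsHallPQ (p q : ℕ) {X : Type*} [Group X] (Y : Subgroup X) : Prop :=
  (∀ r : ℕ, r.Prime → r ∣ Nat.card Y → r = p ∨ r = q) ∧ ¬ p ∣ Y.index ∧ ¬ q ∣ Y.index

/-- order of a preimage under the quotient map -/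
theorem card_comap_mk' {X : Type*} [Group X] [Finite X] (N : Subgroup X) [N.Normal]
    (Kb : Subgroup (X ⧸ N)) :
    Nat.card (Kb.comap (QuotientGroup.mk' N)) = Nat.card Kb * Nat.card N := by
  have hidx : (Kb.comap (QuotientGroup.mk' N)).index = Kb.index :=
    Subgroup.index_comap_of_surjective Kb (QuotientGroup.mk'_surjective N)
  have h1 := Subgroup.card_mul_index (Kb.comap (QuotientGroup.mk' N))
  have h2 := Subgroup.card_mul_index Kb
  have h3 := Subgroup.card_eq_card_quotient_mul_card_subgroup N
  have hpos : 0 < Kb.index := Nat.pos_of_ne_zero Subgroup.index_ne_zero_of_finite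
  rw [hidx] at h1
  have h4 : Nat.card (Kb.comap (QuotientGroup.mk' N)) * Kb.index =
      Nat.card Kb * Nat.card N * Kb.index := by
    rw [h1, h3, ← h2]; ring
  exact Nat.eq_of_mul_eq_mul_right hpos h4

/-- Hall subgroups pull back along a quotient by a normal `{p,q}`-subgroup. -/
theorem isHallPQ_comap {X : Type*} [Group X] [Finite X] (p q : ℕ) (N : Subgroup X) [N.Normal]
    (hN : ∀ r : ℕ, r.Prime → r ∣ Nat.card N → r = p ∨ r = q) (Kb : Subgroup (X ⧸ N))
    (hKb : IsHallPQ p q Kb) : IsHallPQ p q (Kb.comap (QuotientGroup.mk' N)) := by
  obtain ⟨h1, h2, h3⟩ := hKb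
  have hidx : (Kb.comap (QuotientGroup.mk' N)).index = Kb.index :=
    Subgroup.index_comap_of_surjective Kb (QuotientGroup.mk'_surjective N)
  refine ⟨?_, ?_, ?_⟩
  · intro r hr hdvd
    rw [card_comap_mk'] at hdvd
    rcases (Nat.Prime.dvd_mul hr).mp hdvd with h | h
    · exact h1 r hr h
    · exact hN r hr h
  · rw [hidx]; exact h2
  · rw [hidx]; exact h3

/-- Hall subgroups of a subgroup of index prime to `p`, `q` are Hall subgroups. -/
theorem isHallPQ_map_subtype {X : Type*} [Group X] [Finite X] (p q : ℕ) [hp : Fact p.Prime]
    [hq : Fact q.Prime] (M : Subgroup X)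
    (hMp : ¬ p ∣ M.index) (hMq : ¬ q ∣ M.index) (Y : Subgroup M) (hY : IsHallPQ p q Y) :
    IsHallPQ p q (Y.map M.subtype) := by
  obtain ⟨h1, h2, h3⟩ := hY
  refine ⟨?_, ?_, ?_⟩
  · intro r hr hdvd
    rw [Subgroup.card_map_of_injective M.subtype_injective] at hdvd
    exact h1 r hr hdvd
  · rw [Subgroup.index_map_subtype]
    intro h
    rcases (Nat.Prime.dvd_mul hp.out).mp h with h | h
    · exact h2 h
    · exact hMp h
  · rw [Subgroup.index_map_subtype]
    intro h
    rcases (Nat.Prime.dvd_mul hq.out).mp h with h | h
    · exact h3 h
    · exact hMq h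

/-- `[X : M] = [N : M ∩ N]` when `M N = X`, `N` normal. -/
theorem index_eq_relIndex_of_sup_eq_top {X : Type*} [Group X] [Finite X] (M N : Subgroup X)
    [N.Normal] (h : M ⊔ N = ⊤) : M.index = M.relIndex N := by
  have h1 : N.relIndex M = N.index := by
    rw [← Subgroup.relIndex_sup_right (H := M) (K := N), h, Subgroup.relIndex_top_right]
  have h2 := Subgroup.card_mul_index N
  have h3 := Subgroup.card_mul_index M
  have h4 : Nat.card (N ⊓ M : Subgroup X) * N.relIndex M = Nat.card M := by
    have := Subgroup.relIndex_mul_relIndex ⊥ (N ⊓ M) M bot_le inf_le_right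
    rw [Subgroup.relIndex_bot_left, Subgroup.relIndex_bot_left, Subgroup.inf_relIndex_right] at this
    exact this
  have h5 : Nat.card (M ⊓ N : Subgroup X) * M.relIndex N = Nat.card N := by
    have := Subgroup.relIndex_mul_relIndex ⊥ (M ⊓ N) N bot_le inf_le_right
    rw [Subgroup.relIndex_bot_left, Subgroup.relIndex_bot_left, Subgroup.inf_relIndex_right] at this
    exact this
  have hpos : 0 < Nat.card M := Nat.card_pos
  rw [inf_comm] at h4
  have h6 : Nat.card M * M.index = Nat.card M * M.relIndex N := by
    rw [h3, ← h2, ← h5, ← h1, ← h4]; ring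
  exact Nat.eq_of_mul_eq_mul_left hpos h6

theorem exists_hall_pq_aux (p q : ℕ) [hp : Fact p.Prime] [hq : Fact q.Prime] :
    ∀ (n : ℕ) (X : Type u) [Group X] [Finite X], Nat.card X = n → IsPSolvable p X →
      ∃ Y : Subgroup X, IsHallPQ p q Y := by
  intro n
  induction n using Nat.strong_induction_on with
  | _ n ih =>
    intro X _ _ hn hsol
    by_cases htriv : Subsingleton X
    · refine ⟨⊤, ?_, ?_, ?_⟩
      · intro r hr hdvd
        rw [Subgroup.card_top, Nat.card_unique] at hdvd
        exact absurd (Nat.dvd_one.mp hdvd) hr.ne_one
      · rw [Subgroup.index_top]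
        exact fun h => hp.out.ne_one (Nat.dvd_one.mp h)
      · rw [Subgroup.index_top]
        exact fun h => hq.out.ne_one (Nat.dvd_one.mp h)
    · rw [not_subsingleton_iff_nontrivial] at htriv
      obtain ⟨N, hNn, hNne, hN⟩ :=
        Cfsg.Agent.Lib.Helper7.PCompl.exists_normal_of_isPSolvable p hsol
      haveI := hNn
      have hcardXN := Subgroup.card_eq_card_quotient_mul_card_subgroup N
      have hNpos : 0 < Nat.card N := Nat.card_pos
      have hN1 : 1 < Nat.card N := by
        rcases Nat.lt_or_ge 1 (Nat.card N) with h | h
        · exact h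
        · exfalso
          apply hNne
          exact Subgroup.card_eq_one.mp (le_antisymm h hNpos)
      have hQpos : 0 < Nat.card (X ⧸ N) := Nat.card_pos
      have hlt : Nat.card (X ⧸ N) < n := by
        rw [← hn, hcardXN]
        nlinarith
      have hsolQ : IsPSolvable p (X ⧸ N) :=
        Cfsg.Agent.Lib.Helper1.isPSolvable_of_surjective p (QuotientGroup.mk' N)
          (QuotientGroup.mk'_surjective N) hsol
      obtain ⟨Kb, hKb⟩ := ih _ hlt (X ⧸ N) rfl hsolQ
      rcases hN with ⟨m', hm'⟩ | hcop
      · -- `N` a `p`-group
        refine ⟨Kb.comap (QuotientGroup.mk' N), isHallPQ_comap p q N ?_ Kb hKb⟩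
        intro r hr hdvd
        rw [hm'] at hdvd
        exact Or.inl ((Nat.prime_dvd_prime_iff_eq hr hp.out).mp (hr.dvd_of_dvd_pow hdvd))
      · -- `N` a `p'`-group
        obtain ⟨X1, hX1⟩ : ∃ X1 : Subgroup X, X1 = Kb.comap (QuotientGroup.mk' N) := ⟨_, rfl⟩
        have hX1idx : X1.index = Kb.index := by
          rw [hX1]
          exact Subgroup.index_comap_of_surjective Kb (QuotientGroup.mk'_surjective N)
        have hX1p : ¬ p ∣ X1.index := by rw [hX1idx]; exact hKb.2.1
        have hX1q : ¬ q ∣ X1.index := by rw [hX1idx]; exact hKb.2.2
        by_cases hX1top : X1 = ⊤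
        · -- `X ⧸ N` is a `{p,q}`-group
          have hKbtop : Kb = ⊤ := by
            rw [hX1] at hX1top
            rw [eq_top_iff]
            intro x _
            obtain ⟨g, rfl⟩ := QuotientGroup.mk'_surjective N x
            have : g ∈ Kb.comap (QuotientGroup.mk' N) := by rw [hX1top]; trivial
            exact this
          have hXN : ∀ r : ℕ, r.Prime → r ∣ Nat.card (X ⧸ N) → r = p ∨ r = q := by
            intro r hr hdvd
            apply hKb.1 r hr
            rw [hKbtop, Subgroup.card_top]
            exact hdvd
          have hNp : ¬ p ∣ Nat.card N := fun h =>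
            (Nat.Prime.coprime_iff_not_dvd hp.out).mp hcop.symm h
          -- Sylow `q`-subgroup of `N`
          obtain ⟨QN⟩ : Nonempty (Sylow q N) := inferInstance
          obtain ⟨T, hT⟩ : ∃ T : Subgroup X, T = (QN : Subgroup N).map N.subtype := ⟨_, rfl⟩
          have hTN : T ≤ N := by
            rw [hT]; exact Subgroup.map_subtype_le _
          have hTcard : Nat.card T = q ^ (Nat.card N).factorization q := by
            rw [hT, Subgroup.card_map_of_injective N.subtype_injective]
            exact QN.card_eq_multiplicity
          have hfrat : Subgroup.normalizer (T : Set X) ⊔ N = ⊤ := by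
            rw [hT]; exact Sylow.normalizer_sup_eq_top QN
          by_cases hNT : Subgroup.normalizer (T : Set X) = ⊤
          · -- `T` normal in `X`
            haveI hTnorm : T.Normal := Subgroup.normalizer_eq_top_iff.mp hNT
            by_cases hTbot : T = ⊥
            · -- `N` is a `{p,q}'`-group: Schur-Zassenhaus
              have hNq : ¬ q ∣ Nat.card N := by
                intro h
                have h1 : Nat.card T = 1 := by rw [hTbot]; exact Subgroup.card_bot
                rw [hTcard] at h1
                have h2 : (Nat.card N).factorization q = 0 := by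
                  by_contra h0
                  have : 1 < q ^ (Nat.card N).factorization q :=
                    Nat.one_lt_pow h0 hq.out.one_lt
                  omega
                have h3 : 0 < (Nat.card N).factorization q :=
                  hq.out.factorization_pos_of_dvd hNpos.ne' h
                omega
              have hidxN : N.index = Nat.card (X ⧸ N) := Subgroup.index_eq_card N
              have hcopN : Nat.Coprime (Nat.card N) N.index := by
                rw [hidxN]
                apply Nat.Coprime.symm
                apply Nat.coprime_of_dvd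
                intro r hr h1 h2
                rcases hXN r hr h1 with rfl | rfl
                · exact hNp h2
                · exact hNq h2
              obtain ⟨Y, hY⟩ := Subgroup.exists_right_complement'_of_coprime hcopN
              have hYcard : Nat.card Y = N.index := (hY.symm.index_eq_card).symm
              have hYidx : Y.index = Nat.card N := hY.index_eq_card
              refine ⟨Y, ?_, ?_, ?_⟩
              · intro r hr hdvd
                rw [hYcard, hidxN] at hdvd
                exact hXN r hr hdvd
              · rw [hYidx]; exact hNp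
              · rw [hYidx]; exact hNq
            · -- pass to `X ⧸ T`
              have hTpos : 0 < Nat.card T := Nat.card_pos
              have hT1 : 1 < Nat.card T := by
                rcases Nat.lt_or_ge 1 (Nat.card T) with h | h
                · exact h
                · exfalso
                  apply hTbot
                  exact Subgroup.card_eq_one.mp (le_antisymm h hTpos)
              have hcardXT := Subgroup.card_eq_card_quotient_mul_card_subgroup T
              have hQTpos : 0 < Nat.card (X ⧸ T) := Nat.card_pos
              have hltT : Nat.card (X ⧸ T) < n := by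
                rw [← hn, hcardXT]
                nlinarith
              have hsolT : IsPSolvable p (X ⧸ T) :=
                Cfsg.Agent.Lib.Helper1.isPSolvable_of_surjective p (QuotientGroup.mk' T)
                  (QuotientGroup.mk'_surjective T) hsol
              obtain ⟨Lb, hLb⟩ := ih _ hltT (X ⧸ T) rfl hsolT
              refine ⟨Lb.comap (QuotientGroup.mk' T), isHallPQ_comap p q T ?_ Lb hLb⟩
              intro r hr hdvd
              rw [hTcard] at hdvd
              exact Or.inr ((Nat.prime_dvd_prime_iff_eq hr hq.out).mp (hr.dvd_of_dvd_pow hdvd))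
          · -- induct in `N_X(T)`
            obtain ⟨M, hM⟩ : ∃ M : Subgroup X, M = Subgroup.normalizer (T : Set X) := ⟨_, rfl⟩
            rw [← hM] at hNT hfrat
            have hTM : T ≤ M := by rw [hM]; exact Subgroup.le_normalizer
            -- index of `M`
            have hidx1 : M.index = (M ⊓ N).relIndex N := by
              rw [Subgroup.inf_relIndex_right]
              exact index_eq_relIndex_of_sup_eq_top M N hfrat
            have hTMN : T ≤ M ⊓ N := le_inf hTM hTN
            have hdvd1 : M.index ∣ T.relIndex N := by
              rw [hidx1]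
              exact Subgroup.relIndex_dvd_of_le_left N hTMN
            have hdvd2 : M.index ∣ Nat.card N := by
              rw [hidx1]
              exact Subgroup.relIndex_dvd_card _ _
            have hMp : ¬ p ∣ M.index := fun h => hNp (h.trans hdvd2)
            have hTrel : Nat.card T * T.relIndex N = Nat.card N := by
              have := Subgroup.relIndex_mul_relIndex ⊥ T N bot_le hTN
              rw [Subgroup.relIndex_bot_left, Subgroup.relIndex_bot_left] at this
              exact this
            have hMq : ¬ q ∣ M.index := by
              intro h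
              have h1 : q ∣ T.relIndex N := h.trans hdvd1
              have h2 : q ^ ((Nat.card N).factorization q + 1) ∣ Nat.card N := by
                obtain ⟨k, hk⟩ : ∃ k : ℕ, k = (Nat.card N).factorization q := ⟨_, rfl⟩
                rw [← hk] at hTcard ⊢
                obtain ⟨c, hc⟩ := h1
                refine ⟨c, ?_⟩
                rw [← hTrel, hTcard, hc, pow_succ]
                ring
              exact Nat.pow_succ_factorization_not_dvd hNpos.ne' hq.out h2
            have hMlt : Nat.card M < n := by
              rw [← hn]
              have hMne : M ≠ ⊤ := hNT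
              have h1 := Subgroup.card_mul_index M
              have h2 : M.index ≠ 1 := fun h => hMne (Subgroup.index_eq_one.mp h)
              have h3 : 0 < M.index := Nat.pos_of_ne_zero Subgroup.index_ne_zero_of_finite
              have h4 : 0 < Nat.card M := Nat.card_pos
              have h5 : 2 ≤ M.index := by omega
              nlinarith
            have hsolM : IsPSolvable p M := Cfsg.Agent.Lib.Helper1.PSolvSub.isPSolvable_subgroup hsol M
            obtain ⟨Y1, hY1⟩ := ih _ hMlt M rfl hsolM
            exact ⟨Y1.map M.subtype, isHallPQ_map_subtype p q M hMp hMq Y1 hY1⟩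
        · -- induct in `X1`
          have hX1lt : Nat.card X1 < n := by
            rw [← hn]
            have h1 := Subgroup.card_mul_index X1
            have h2 : X1.index ≠ 1 := fun h => hX1top (Subgroup.index_eq_one.mp h)
            have h3 : 0 < X1.index := Nat.pos_of_ne_zero Subgroup.index_ne_zero_of_finite
            have h4 : 0 < Nat.card X1 := Nat.card_pos
            have h5 : 2 ≤ X1.index := by omega
            nlinarith
          have hsolX1 : IsPSolvable p X1 :=
            Cfsg.Agent.Lib.Helper1.PSolvSub.isPSolvable_subgroup hsol X1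
          obtain ⟨Y1, hY1⟩ := ih _ hX1lt X1 rfl hsolX1
          exact ⟨Y1.map X1.subtype, isHallPQ_map_subtype p q X1 hX1p hX1q Y1 hY1⟩

/-- Unit Hall (FG19): a finite `p`-solvable group has a Hall `{p,q}`-subgroup. -/
theorem exists_hall_pq {X : Type u} [Group X] [Finite X] (p q : ℕ) [Fact p.Prime] [Fact q.Prime]
    (hsol : IsPSolvable p X) :
    ∃ Y : Subgroup X, (∀ r : ℕ, r.Prime → r ∣ Nat.card Y → r = p ∨ r = q) ∧
      ¬ p ∣ Y.index ∧ ¬ q ∣ Y.index :=
  exists_hall_pq_aux p q _ X rfl hsol

end Cfsg.Agent.Lib.Helper6.FG19Hall
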