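import Mathlib

/-! Nonsolvable Frobenius complements, part A: the perfect core, homomorphisms from perfect
groups to abelian groups, and the bound `|G : C_G(L)| ≤ |Aut (L / Z(L))|` for a perfect normal
subgroup `L`. -/

set_option autoImplicit false

namespace Cfsg.Agent.Lib.Helper6.NSFrob

open scoped commutatorElement

section Core

variable {G : Type*} [Group G]

/-- a stable term of the derived series of a finite group -/
theorem exists_derivedSeries_stable [Finite G] :
    ∃ n : ℕ, derivedSeries G (n + 1) = derivedSeries G n := by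
  by_contra hno
  push Not at hno
  have hlt : ∀ n, Nat.card (derivedSeries G (n + 1)) < Nat.card (derivedSeries G n) := by
    intro n
    have hle : derivedSeries G (n + 1) ≤ derivedSeries G n :=
      derivedSeries_antitone G (Nat.le_succ n)
    by_contra hge
    push Not at hge
    exact hno n (Subgroup.eq_of_le_of_card_ge hle hge)
  have hbound : ∀ n, Nat.card (derivedSeries G n) + n ≤ Nat.card G := by
    intro n
    induction n with
    | zero =>
      simp only [derivedSeries_zero, add_zero]
      exact le_of_eq Subgroup.card_top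
    | succ n ih =>
      have := hlt n
      omega
  have := hbound (Nat.card G + 1)
  omega

/-- the perfect core of a finite nonsolvable group -/
theorem exists_perfect_normal [Finite G] (hns : ¬ Group.IsSolvable G) :
    ∃ L : Subgroup G, L.Normal ∧ L ≠ ⊥ ∧ commutator ↥L = ⊤ := by
  obtain ⟨n, hn⟩ := exists_derivedSeries_stable (G := G)
  refine ⟨derivedSeries G n, derivedSeries_normal G n, ?_, ?_⟩
  · intro hb
    exact hns ((Group.isSolvable_def G).mpr ⟨n, hb⟩)
  · rw [derivedSeries_succ] at hn
    apply Subgroup.map_injective (derivedSeries G n).subtype_injective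
    rw [Subgroup.map_subtype_commutator, hn, ← MonoidHom.range_eq_map, Subgroup.range_subtype]

/-- a homomorphism from a perfect group to a commutative group is trivial -/
theorem hom_eq_one_of_perfect {L A : Type*} [Group L] [CommGroup A] (hL : commutator L = ⊤)
    (f : L →* A) (l : L) : f l = 1 := by
  have h := Abelianization.commutator_subset_ker f
  rw [hL] at h
  exact MonoidHom.mem_ker.mp (h (Subgroup.mem_top l))

/-- the same, for a group whose multiplication happens to be commutative -/
theorem hom_eq_one_of_perfect' {L A : Type*} [Group L] [inst : Group A]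
    (hA : ∀ a b : A, a * b = b * a) (hL : commutator L = ⊤) (f : L →* A) (l : L) : f l = 1 := by
  letI : CommGroup A := { inst with mul_comm := hA }
  exact hom_eq_one_of_perfect hL f l

end Core

section Aut

variable {L : Type*} [Group L]

/-- the automorphism of `L / Z(L)` induced by an automorphism of `L` -/
noncomputable def quotAutFun (θ : MulAut L) : MulAut (L ⧸ Subgroup.center L) :=
  QuotientGroup.congr (Subgroup.center L) (Subgroup.center L) θ
    (Subgroup.characteristic_iff_map_eq.mp inferInstance θ)

theorem quotAutFun_mk (θ : MulAut L) (x : L) :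
    quotAutFun θ (QuotientGroup.mk x) = QuotientGroup.mk (θ x) := rfl

/-- the homomorphism `Aut L → Aut (L / Z(L))` -/
noncomputable def quotAut : MulAut L →* MulAut (L ⧸ Subgroup.center L) where
  toFun := quotAutFun
  map_one' := by
    ext x
    induction x using QuotientGroup.induction_on with
    | H x => rfl
  map_mul' θ θ' := by
    ext x
    induction x using QuotientGroup.induction_on with
    | H x => rfl

theorem quotAut_mk (θ : MulAut L) (x : L) :
    quotAut θ (QuotientGroup.mk x) = QuotientGroup.mk (θ x) := rfl

/-- an automorphism of a perfect group which is trivial modulo the centre is trivial -/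
theorem eq_of_quotAut_eq_one (hL : commutator L = ⊤) (θ : MulAut L) (h : quotAut θ = 1)
    (x : L) : θ x = x := by
  have hz : ∀ l : L, θ l * l⁻¹ ∈ Subgroup.center L := by
    intro l
    have h1 : quotAut θ (QuotientGroup.mk l) = QuotientGroup.mk l := by rw [h]; rfl
    rw [quotAut_mk] at h1
    have h2 := QuotientGroup.eq.mp h1
    -- (θ l)⁻¹ * l ∈ center
    have h3 : ((θ l)⁻¹ * l)⁻¹ ∈ Subgroup.center L := Subgroup.inv_mem _ h2
    have h4 : ((θ l)⁻¹ * l)⁻¹ = l⁻¹ * θ l := by group
    rw [h4] at h3
    -- conjugate into the wanted shape using centrality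
    have h5 := Subgroup.mem_center_iff.mp h3 l
    have h6 : θ l * l⁻¹ = l⁻¹ * θ l := by
      have : l * (l⁻¹ * θ l) = (l⁻¹ * θ l) * l := h5
      calc θ l * l⁻¹ = (l * (l⁻¹ * θ l)) * l⁻¹ := by group
        _ = ((l⁻¹ * θ l) * l) * l⁻¹ := by rw [this]
        _ = l⁻¹ * θ l := by group
    rw [h6]
    exact h3
  let z : L →* Subgroup.center L :=
    { toFun := fun l => ⟨θ l * l⁻¹, hz l⟩
      map_one' := by
        apply Subtype.ext
        simp
      map_mul' := by
        intro a b
        apply Subtype.ext
        have hb := Subgroup.mem_center_iff.mp (hz b) ((θ a)⁻¹)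
        simp only [map_mul, Subgroup.coe_mul, mul_inv_rev]
        -- θ a * θ b * (b⁻¹ * a⁻¹) = θ a * a⁻¹ * (θ b * b⁻¹)
        have hb' := Subgroup.mem_center_iff.mp (hz b) (a⁻¹)
        calc θ a * θ b * (b⁻¹ * a⁻¹) = θ a * ((θ b * b⁻¹) * a⁻¹) := by group
          _ = θ a * (a⁻¹ * (θ b * b⁻¹)) := by rw [hb']
          _ = θ a * a⁻¹ * (θ b * b⁻¹) := by group }
  have hcomm : ∀ a b : Subgroup.center L, a * b = b * a := by
    intro a b
    apply Subtype.ext
    exact (Subgroup.mem_center_iff.mp a.2 b).symm
  have := hom_eq_one_of_perfect' hcomm hL z x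
  have h7 : (θ x * x⁻¹ : L) = 1 := congrArg Subtype.val this
  exact mul_inv_eq_one.mp h7

end Aut

section Bound

variable {G : Type*} [Group G] [Finite G]

/-- the action of `G` on `L / Z(L)` for a normal subgroup `L` -/
noncomputable def actQuot (L : Subgroup G) [L.Normal] : G →* MulAut (↥L ⧸ Subgroup.center ↥L) :=
  quotAut.comp MulAut.conjNormal

theorem ker_actQuot_le (L : Subgroup G) [L.Normal] (hL : commutator ↥L = ⊤) :
    (actQuot L).ker ≤ Subgroup.centralizer (L : Set G) := by
  intro g hg
  rw [MonoidHom.mem_ker] at hg
  rw [Subgroup.mem_centralizer_iff]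
  intro l hl
  have h1 := eq_of_quotAut_eq_one hL (MulAut.conjNormal g) hg ⟨l, hl⟩
  have h2 := congrArg Subtype.val h1
  rw [MulAut.conjNormal_apply] at h2
  -- g * l * g⁻¹ = l
  have h3 : g * l * g⁻¹ = l := h2
  calc l * g = (g * l * g⁻¹) * g := by rw [h3]
    _ = g * l := by group

theorem centralizer_le_ker_actQuot (L : Subgroup G) [L.Normal] :
    Subgroup.centralizer (L : Set G) ≤ (actQuot L).ker := by
  intro g hg
  rw [MonoidHom.mem_ker]
  rw [Subgroup.mem_centralizer_iff] at hg
  ext x
  induction x using QuotientGroup.induction_on with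
  | H x =>
    show quotAut (MulAut.conjNormal g) (QuotientGroup.mk x) = QuotientGroup.mk x
    rw [quotAut_mk]
    congr 1
    apply Subtype.ext
    rw [MulAut.conjNormal_apply]
    have := hg x x.2
    calc g * ↑x * g⁻¹ = (↑x * g) * g⁻¹ := by rw [this]
      _ = ↑x := by group

/-- `|G : C_G(L)|` is at most the number of automorphisms of `L / Z(L)` -/
theorem index_centralizer_le (L : Subgroup G) [L.Normal] (hL : commutator ↥L = ⊤)
    [Finite (MulAut (↥L ⧸ Subgroup.center ↥L))] :
    (Subgroup.centralizer (L : Set G)).index ≤ Nat.card (MulAut (↥L ⧸ Subgroup.center ↥L)) := by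
  have h1 : Subgroup.centralizer (L : Set G) = (actQuot L).ker :=
    le_antisymm (centralizer_le_ker_actQuot L) (ker_actQuot_le L hL)
  rw [h1, Subgroup.index_ker]
  exact Nat.card_le_card_of_injective _ Subtype.val_injective

end Bound

end Cfsg.Agent.Lib.Helper6.NSFrob
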