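import Mathlib
import Cfsg.Agent.Lib.Helper6.NSFrobA
import Cfsg.Agent.Lib.Helper4.SLCard
import Cfsg.Agent.Lib.Helper4.AltAbSyl4
import Cfsg.Agent.S0253
import Cfsg.Agent.S2119

/-! Nonsolvable Frobenius complements, part B: numerical facts about a group isomorphic to
`SL(2,5)`. -/

set_option autoImplicit false

namespace Cfsg.Agent.Lib.Helper6.NSFrob

/-- local notation for `SL(2,5)` -/
abbrev SL25 := Matrix.SpecialLinearGroup (Fin 2) (ZMod 5)

instance instFactPrimeFiveNS : Fact (Nat.Prime 5) := ⟨by norm_num⟩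

theorem card_SL25 : Nat.card SL25 = 120 := by
  rw [Cfsg.Agent.Lib.Helper4.card_SL2, ZMod.card]
  norm_num

/-- an explicit element of order four -/
def u0 : SL25 := ⟨!![0, 1; -1, 0], by rw [Matrix.det_fin_two_of]; decide⟩

theorem orderOf_u0 : orderOf u0 = 4 := by
  have h1 : ¬ u0 ^ 2 ^ 1 = 1 := by decide
  have h2 : u0 ^ 2 ^ (1 + 1) = 1 := by decide
  exact orderOf_eq_prime_pow h1 h2

section Iso

variable {L : Type*} [Group L] (e : L ≃* SL25)

include e

theorem card_of_iso : Nat.card L = 120 := by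
  rw [Nat.card_congr e.toEquiv, card_SL25]

theorem exists_orderOf_four : ∃ u : L, orderOf u = 4 :=
  ⟨e.symm u0, by rw [MulEquiv.orderOf_eq, orderOf_u0]⟩

theorem map_center_of_iso : (Subgroup.center L).map e.toMonoidHom = Subgroup.center SL25 := by
  ext x
  rw [Subgroup.mem_map, Subgroup.mem_center_iff]
  constructor
  · rintro ⟨l, hl, rfl⟩ y
    rw [Subgroup.mem_center_iff] at hl
    have := hl (e.symm y)
    have h2 := congrArg e this
    simpa using h2
  · intro hx
    refine ⟨e.symm x, ?_, by simp⟩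
    rw [Subgroup.mem_center_iff]
    intro l
    apply e.injective
    have := hx (e l)
    simpa using this

/-- `L / Z(L) ≅ A₅` -/
theorem nonempty_quot_iso :
    Nonempty (L ⧸ Subgroup.center L ≃* alternatingGroup (Fin 5)) := by
  obtain ⟨e2⟩ := Cfsg.Agent.S0253.result (F := ZMod 5) (ZMod.card 5)
  exact ⟨(QuotientGroup.congr (Subgroup.center L) (Subgroup.center SL25) e
    (map_center_of_iso e)).trans e2⟩

theorem card_quot : Nat.card (L ⧸ Subgroup.center L) = 60 := by
  obtain ⟨f⟩ := nonempty_quot_iso e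
  rw [Nat.card_congr f.toEquiv, Cfsg.Agent.Lib.Helper4.AltAbSyl.card_alt5]

theorem card_center : Nat.card (Subgroup.center L) = 2 := by
  have h1 := Subgroup.card_eq_card_quotient_mul_card_subgroup (Subgroup.center L)
  rw [card_of_iso e, card_quot e] at h1
  omega

theorem card_mulAut_quot : Nat.card (MulAut (L ⧸ Subgroup.center L)) = 120 := by
  obtain ⟨f⟩ := nonempty_quot_iso e
  rw [Nat.card_congr (MulAut.congr f).toEquiv]
  have hb := Cfsg.Agent.S2119.result 5 (by norm_num) (by norm_num)
  rw [← Nat.card_congr (Equiv.ofBijective _ hb), Nat.card_eq_fintype_card, Fintype.card_perm,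
    Fintype.card_fin]
  rfl

theorem finite_mulAut_quot : Finite (MulAut (L ⧸ Subgroup.center L)) := by
  apply Nat.finite_of_card_ne_zero
  rw [card_mulAut_quot e]
  norm_num

end Iso

end Cfsg.Agent.Lib.Helper6.NSFrob
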