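import Mathlib
import Cfsg.Agent.Lib.Helper6.NSFrobB
import Cfsg.Agent.Lib.Helper2.FrobCompA

/-! Nonsolvable Frobenius complements, part C: the structure theorem for a finite group whose
abelian subgroups are cyclic and which has a normal subgroup isomorphic to `SL(2,5)`. -/

set_option autoImplicit false

namespace Cfsg.Agent.Lib.Helper6.NSFrob

open Cfsg.Agent.Lib.Helper2.FrobComp Cfsg.Agent.Lib.Lead.UniqueP

section Cyc

variable {G : Type*} [Group G] [Finite G]

/-- the hypothesis passes to subgroups -/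
theorem cyc_subgroup (hcyc : ∀ A : Subgroup G, IsMulCommutative A → IsCyclic A)
    (K : Subgroup G) : ∀ A : Subgroup ↥K, IsMulCommutative A → IsCyclic A := by
  intro A hA
  haveI := hA
  haveI : IsMulCommutative ↥(A.map K.subtype) := Subgroup.map_isMulCommutative A K.subtype
  haveI : IsCyclic ↥(A.map K.subtype) := hcyc _ inferInstance
  exact (Subgroup.equivMapOfInjective A K.subtype K.subtype_injective).isCyclic.mpr inferInstance

/-- `p`-subgroups have at most one subgroup of order `p` -/
theorem uop_of_cyc (hcyc : ∀ A : Subgroup G, IsMulCommutative A → IsCyclic A) {p : ℕ}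
    [hp : Fact p.Prime] (P : Subgroup G) (hP : IsPGroup p P) : UOP p ↥P := by
  intro x y hx hy hx1
  haveI : Nontrivial ↥P := ⟨⟨x, 1, hx1⟩⟩
  haveI := hP.center_nontrivial
  have hPc : IsPGroup p ↥(Subgroup.center ↥P) := hP.to_subgroup _
  have hdvd : p ∣ Nat.card ↥(Subgroup.center ↥P) := by
    rcases hPc.card_eq_or_dvd with h1 | h1
    · exfalso
      have := Finite.one_lt_card (α := ↥(Subgroup.center ↥P))
      omega
    · exact h1
  obtain ⟨z, hz⟩ := exists_prime_orderOf_dvd_card' p hdvd
  set zP : ↥P := (z : ↥P) with hzP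
  have hzPo : orderOf zP = p := by rw [hzP, Subgroup.orderOf_coe]; exact hz
  have hcen : ∀ g : ↥P, Commute g zP := by
    intro g
    have := Subgroup.mem_center_iff.mp z.2 g
    exact this
  have hP' := cyc_subgroup hcyc P
  have key : ∀ w : ↥P, w ^ p = 1 → w ∈ Subgroup.zpowers zP := fun w hw =>
    cyc_mem hP' (hcen w) hzPo hw
  have hxz := key x hx
  have hyz := key y hy
  have hxo : orderOf x = p := orderOf_eq_prime hx hx1
  have hle : Subgroup.zpowers x ≤ Subgroup.zpowers zP := Subgroup.zpowers_le.mpr hxz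
  have heq : Subgroup.zpowers x = Subgroup.zpowers zP := by
    apply Subgroup.eq_of_le_of_card_ge hle
    rw [Nat.card_zpowers, Nat.card_zpowers, hxo, hzPo]
  rw [heq]; exact hyz

/-- Sylow subgroups of a subgroup of odd order are cyclic -/
theorem sylow_cyclic_of_odd (hcyc : ∀ A : Subgroup G, IsMulCommutative A → IsCyclic A)
    (M : Subgroup G) (hodd : Odd (Nat.card M)) (p : ℕ) [hp : Fact p.Prime] (P : Sylow p ↥M) :
    IsCyclic ↥(P : Subgroup ↥M) := by
  have hM := cyc_subgroup hcyc M
  have hu := uop_of_cyc hM (P : Subgroup ↥M) P.2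
  rcases cyclic_or_quaternion p P.2 hu with h | ⟨h2, -⟩
  · exact h
  · -- `p = 2`: the Sylow subgroup is trivial
    subst h2
    have h1 : Nat.card (P : Subgroup ↥M) ∣ Nat.card M := Subgroup.card_subgroup_dvd_card _
    obtain ⟨k, hk⟩ := P.2.exists_card_eq
    have hk0 : k = 0 := by
      by_contra hne
      have h2 : 2 ∣ Nat.card (P : Subgroup ↥M) := by
        rw [hk]; exact dvd_pow_self 2 hne
      have h3 : 2 ∣ Nat.card M := h2.trans h1
      rcases hodd with ⟨j, hj⟩
      omega
    rw [hk0, pow_zero] at hk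
    haveI : Subsingleton ↥(P : Subgroup ↥M) := (Nat.card_eq_one_iff_unique.mp hk).1
    exact isCyclic_of_subsingleton

end Cyc

end Cfsg.Agent.Lib.Helper6.NSFrob
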