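import Mathlib
import Cfsg.Agent.Lib.Helper6.NSFrobC

/-! Nonsolvable Frobenius complements, part D: the structure theorem. -/

set_option autoImplicit false
set_option maxHeartbeats 1000000

namespace Cfsg.Agent.Lib.Helper6.NSFrob

open Cfsg.Agent.Lib.Helper2.FrobComp Cfsg.Agent.Lib.Lead.UniqueP

variable {G : Type*} [Group G] [Finite G]

/-- `L ∩ C_G(L)` is the image of the centre of `L` -/
theorem inf_centralizer_eq (L : Subgroup G) :
    L ⊓ Subgroup.centralizer (L : Set G) = (Subgroup.center ↥L).map L.subtype := by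
  ext x
  rw [Subgroup.mem_inf, Subgroup.mem_map]
  constructor
  · rintro ⟨hxL, hxC⟩
    rw [Subgroup.mem_centralizer_iff] at hxC
    refine ⟨⟨x, hxL⟩, ?_, rfl⟩
    rw [Subgroup.mem_center_iff]
    intro l
    exact Subtype.ext (hxC l l.2)
  · rintro ⟨z, hz, rfl⟩
    rw [Subgroup.mem_center_iff] at hz
    refine ⟨z.2, ?_⟩
    rw [Subgroup.mem_centralizer_iff]
    intro l hl
    exact congrArg Subtype.val (hz ⟨l, hl⟩)

/-- The central involution of `G`, given a normal subgroup isomorphic to `SL(2,5)`. -/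
theorem central_involution
    (hcyc : ∀ A : Subgroup G, IsMulCommutative A → IsCyclic A)
    (L : Subgroup G) [hLn : L.Normal] (e : ↥L ≃* SL25) :
    ∃ t : G, t ∈ L ∧ t ∈ Subgroup.centralizer (L : Set G) ∧ orderOf t = 2 ∧
      (∀ x ∈ L ⊓ Subgroup.centralizer (L : Set G), x = 1 ∨ x = t) ∧
      (∀ g : G, g * t = t * g) ∧ (∀ s : G, s * s = 1 → s = 1 ∨ s = t) := by
  classical
  haveI : Fact (Nat.Prime 2) := ⟨Nat.prime_two⟩
  obtain ⟨C, hC⟩ : ∃ C : Subgroup G, C = Subgroup.centralizer (L : Set G) := ⟨_, rfl⟩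
  haveI hCn : C.Normal := by rw [hC]; exact Subgroup.normal_centralizer
  rw [← hC]
  -- the centre of `L`
  have hZcard : Nat.card ↥(L ⊓ C) = 2 := by
    rw [hC, inf_centralizer_eq L,
      ← Nat.card_congr (Subgroup.equivMapOfInjective _ _ L.subtype_injective).toEquiv]
    exact card_center e
  obtain ⟨⟨t, htZ⟩, ht1, htu⟩ := (Nat.card_eq_two_iff' (1 : ↥(L ⊓ C))).mp hZcard
  have ht1' : t ≠ 1 := fun h => ht1 (Subtype.ext h)
  have hZ : ∀ x ∈ L ⊓ C, x = 1 ∨ x = t := by
    intro x hx
    by_cases h : x = 1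
    · exact Or.inl h
    · right
      have := htu ⟨x, hx⟩ (fun h' => h (congrArg Subtype.val h'))
      exact congrArg Subtype.val this
  have htL : t ∈ L := (Subgroup.mem_inf.mp htZ).1
  have htC : t ∈ C := (Subgroup.mem_inf.mp htZ).2
  have htt : t * t = 1 := by
    rcases hZ (t * t) (Subgroup.mul_mem _ htZ htZ) with h | h
    · exact h
    · exfalso
      apply ht1'
      calc t = t⁻¹ * (t * t) := by group
        _ = t⁻¹ * t := by rw [h]
        _ = 1 := by group
  have hto : orderOf t = 2 := orderOf_eq_prime (by rw [pow_two]; exact htt) ht1'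
  -- `t` is central in `G`
  have htcen : ∀ g : G, g * t = t * g := by
    intro g
    have h1 : g * t * g⁻¹ ∈ L ⊓ C :=
      Subgroup.mem_inf.mpr ⟨hLn.conj_mem t htL g, hCn.conj_mem t htC g⟩
    rcases hZ _ h1 with h | h
    · exfalso
      apply ht1'
      calc t = g⁻¹ * (g * t * g⁻¹) * g := by group
        _ = 1 := by rw [h]; group
    · calc g * t = (g * t * g⁻¹) * g := by group
        _ = t * g := by rw [h]
  -- the unique involution
  have hinv : ∀ s : G, s * s = 1 → s = 1 ∨ s = t := by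
    intro s hs
    by_cases h1 : s = 1
    · exact Or.inl h1
    · right
      have hmem : s ∈ Subgroup.zpowers t :=
        cyc_mem hcyc (show Commute s t from htcen s) hto (by rw [pow_two]; exact hs)
      exact eq_of_mem_zpowers_of_orderOf_two hto hmem h1
  exact ⟨t, htL, htC, hto, hZ, htcen, hinv⟩

/-- The structure theorem. -/
theorem structure_of_normal_SL25
    (hcyc : ∀ A : Subgroup G, IsMulCommutative A → IsCyclic A)
    (L : Subgroup G) [hLn : L.Normal] (hL : commutator ↥L = ⊤) (e : ↥L ≃* SL25) :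
    ∃ M : Subgroup G, M.Normal ∧ ((L ⊔ M).index = 1 ∨ (L ⊔ M).index = 2) ∧ L ⊓ M = ⊥ ∧
      (∀ s ∈ L, ∀ x ∈ M, s * x = x * s) ∧
      (∀ (p : ℕ) [Fact p.Prime] (P : Sylow p M), IsCyclic P) ∧ (Nat.card M).Coprime 30 := by
  classical
  haveI : Fact (Nat.Prime 2) := ⟨Nat.prime_two⟩
  haveI : Fact (Nat.Prime 3) := ⟨Nat.prime_three⟩
  obtain ⟨t, htL, htC, hto, hZ, htcen, hinv⟩ := central_involution hcyc L e
  obtain ⟨C, hC⟩ : ∃ C : Subgroup G, C = Subgroup.centralizer (L : Set G) := ⟨_, rfl⟩
  rw [← hC] at htC hZ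
  haveI hCn : C.Normal := by rw [hC]; exact Subgroup.normal_centralizer
  have hZcard : Nat.card ↥(L ⊓ C) = 2 := by
    rw [hC, inf_centralizer_eq L,
      ← Nat.card_congr (Subgroup.equivMapOfInjective _ _ L.subtype_injective).toEquiv]
    exact card_center e
  have ht1' : t ≠ 1 := by
    intro h; rw [h, orderOf_one] at hto; omega
  have htt : t * t = 1 := by rw [← pow_two, ← hto]; exact pow_orderOf_eq_one t
  have hcentr : ∀ c ∈ C, ∀ l ∈ L, l * c = c * l := by
    intro c hc l hl
    rw [hC] at hc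
    exact (Subgroup.mem_centralizer_iff.mp hc) l hl
  -- no element of order four in `C`
  obtain ⟨u', hu'⟩ := exists_orderOf_four e
  set u : G := (u' : G) with hu
  have huL : u ∈ L := u'.2
  have huo : orderOf u = 4 := by rw [hu, Subgroup.orderOf_coe]; exact hu'
  have hu4 : u ^ 4 = 1 := by rw [← huo]; exact pow_orderOf_eq_one u
  have hu2 : u * u = t := by
    have h2 : (u * u) * (u * u) = 1 := by
      calc (u * u) * (u * u) = u ^ 4 := by rw [show (4 : ℕ) = 2 + 2 from rfl, pow_add, pow_two]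
        _ = 1 := hu4
    rcases hinv (u * u) h2 with h | h
    · exfalso
      have : orderOf u ∣ 2 := orderOf_dvd_of_pow_eq_one (by rw [pow_two]; exact h)
      rw [huo] at this
      omega
    · exact h
  have hno4 : ∀ d ∈ C, orderOf d ≠ 4 := by
    intro d hd hdo
    have hd4 : d ^ 4 = 1 := by rw [← hdo]; exact pow_orderOf_eq_one d
    have hd2 : d * d = t := by
      have h2 : (d * d) * (d * d) = 1 := by
        calc (d * d) * (d * d) = d ^ 4 := by rw [show (4 : ℕ) = 2 + 2 from rfl, pow_add, pow_two]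
          _ = 1 := hd4
      rcases hinv (d * d) h2 with h | h
      · exfalso
        have : orderOf d ∣ 2 := orderOf_dvd_of_pow_eq_one (by rw [pow_two]; exact h)
        rw [hdo] at this
        omega
      · exact h
    have hdu : u * d = d * u := hcentr d hd u huL
    have hw : (d * u⁻¹) * (d * u⁻¹) = 1 := by
      have hdu' : u⁻¹ * d = d * u⁻¹ := by
        calc u⁻¹ * d = u⁻¹ * (d * u) * u⁻¹ := by group
          _ = u⁻¹ * (u * d) * u⁻¹ := by rw [hdu]
          _ = d * u⁻¹ := by group
      calc (d * u⁻¹) * (d * u⁻¹) = d * (u⁻¹ * d) * u⁻¹ := by group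
        _ = d * (d * u⁻¹) * u⁻¹ := by rw [hdu']
        _ = (d * d) * (u * u)⁻¹ := by group
        _ = 1 := by rw [hd2, hu2]; group
    have hdL : d ∈ L := by
      rcases hinv _ hw with h | h
      · have : d = u := by
          calc d = (d * u⁻¹) * u := by group
            _ = u := by rw [h, one_mul]
        rw [this]; exact huL
      · have : d = t * u := by
          calc d = (d * u⁻¹) * u := by group
            _ = t * u := by rw [h]
        rw [this]; exact L.mul_mem htL huL
    rcases hZ d (Subgroup.mem_inf.mpr ⟨hdL, hd⟩) with h | h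
    · rw [h, orderOf_one] at hdo; omega
    · rw [h, hto] at hdo; omega
  -- `4` does not divide `|C|`
  have h4C : ¬ 4 ∣ Nat.card C := by
    intro h4
    obtain ⟨K, hK⟩ := Sylow.exists_subgroup_card_pow_prime (G := ↥C) 2 (n := 2)
      (by norm_num; exact h4)
    have hinj : Function.Injective (fun x : ↥K => ((x : ↥C) : G)) := by
      intro a b hab
      exact Subtype.ext (Subtype.ext hab)
    have hval : ∀ x : ↥K, ((x : ↥C) : G) = 1 ∨ ((x : ↥C) : G) = t := by
      intro x
      apply hinv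
      have hx4 : ((x : ↥C) : G) ^ 4 = 1 := by
        have h1 : x ^ 4 = 1 := by
          have := pow_card_eq_one' (G := ↥K) (x := x)
          rw [hK] at this
          norm_num at this
          exact this
        have h2 := congrArg (fun y : ↥K => ((y : ↥C) : G)) h1
        simpa using h2
      have hdvd : orderOf ((x : ↥C) : G) ∣ 4 := orderOf_dvd_of_pow_eq_one hx4
      have hne := hno4 ((x : ↥C) : G) (x : ↥C).2
      have hle := Nat.le_of_dvd (by norm_num) hdvd
      have hpos := orderOf_pos ((x : ↥C) : G)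
      have h12 : orderOf ((x : ↥C) : G) = 1 ∨ orderOf ((x : ↥C) : G) = 2 := by
        have h3 : orderOf ((x : ↥C) : G) ≠ 3 := by
          intro h3; rw [h3] at hdvd; omega
        omega
      rcases h12 with h | h
      · rw [orderOf_eq_one_iff] at h; rw [h, one_mul]
      · rw [← pow_two, ← h]; exact pow_orderOf_eq_one _
    have hsub : Set.range (fun x : ↥K => ((x : ↥C) : G)) ⊆ ({1, t} : Set G) := by
      rintro _ ⟨x, rfl⟩
      rcases hval x with h | h
      · left; exact h
      · right; exact h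
    have hle : Nat.card ↥K ≤ 2 := by
      have h1 : Nat.card ↥K = (Set.range (fun x : ↥K => ((x : ↥C) : G))).ncard := by
        rw [← Nat.card_coe_set_eq]
        exact Nat.card_congr (Equiv.ofInjective _ hinj)
      rw [h1]
      calc (Set.range (fun x : ↥K => ((x : ↥C) : G))).ncard ≤ ({1, t} : Set G).ncard :=
            Set.ncard_le_ncard hsub (Set.toFinite _)
        _ ≤ ({t} : Set G).ncard + 1 := Set.ncard_insert_le 1 {t}
        _ = 2 := by rw [Set.ncard_singleton]
    rw [hK] at hle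
    norm_num at hle
  -- the subgroup generated by `t` inside `C`
  obtain ⟨t', ht'⟩ : ∃ t' : ↥C, t' = ⟨t, htC⟩ := ⟨_, rfl⟩
  have ht'v : (t' : G) = t := by rw [ht']
  have ht'o : orderOf t' = 2 := by rw [ht', Subgroup.orderOf_mk]; exact hto
  have ht'cen : ∀ c : ↥C, c * t' = t' * c := by
    intro c
    apply Subtype.ext
    rw [Subgroup.coe_mul, Subgroup.coe_mul, ht'v]
    exact htcen c
  have hNn : (Subgroup.zpowers t').Normal := by
    constructor
    intro n hn g
    obtain ⟨k, hk⟩ := Subgroup.mem_zpowers_iff.mp hn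
    have hc : Commute g (t' ^ k) := (show Commute g t' from ht'cen g).zpow_right k
    have h1 : g * n * g⁻¹ = n := by
      rw [← hk]
      calc g * t' ^ k * g⁻¹ = t' ^ k * g * g⁻¹ := by rw [hc.eq]
        _ = t' ^ k := by group
    rw [h1]; exact hn
  have hNcard : Nat.card ↥(Subgroup.zpowers t') = 2 := by rw [Nat.card_zpowers, ht'o]
  have hidx : (Subgroup.zpowers t').index * 2 = Nat.card ↥C := by
    rw [← hNcard]; exact Subgroup.index_mul_card _
  have hidx_odd : ¬ 2 ∣ (Subgroup.zpowers t').index := by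
    intro h
    apply h4C
    rw [← hidx]
    obtain ⟨k, hk⟩ := h
    exact ⟨k, by rw [hk]; ring⟩
  have hcop : (Nat.card ↥(Subgroup.zpowers t')).Coprime (Subgroup.zpowers t').index := by
    rw [hNcard]; exact (Nat.Prime.coprime_iff_not_dvd Nat.prime_two).mpr hidx_odd
  obtain ⟨M', hM'⟩ := Subgroup.exists_right_complement'_of_coprime hcop
  have hM'idx : M'.index = 2 := by rw [hM'.index_eq_card, hNcard]
  have hM'card : Nat.card ↥M' = (Subgroup.zpowers t').index := (hM'.symm.index_eq_card).symm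
  have hM'odd : ¬ 2 ∣ Nat.card ↥M' := by rw [hM'card]; exact hidx_odd
  have hM'n : M'.Normal := Subgroup.normal_of_index_eq_two hM'idx
  have hclaim : ∀ x : ↥C, ¬ 2 ∣ orderOf x → x ∈ M' := by
    intro x hx
    have h1 : orderOf ((QuotientGroup.mk' M') x) ∣ orderOf x :=
      orderOf_map_dvd (QuotientGroup.mk' M') x
    have h2 : orderOf ((QuotientGroup.mk' M') x) ∣ 2 := by
      have h := orderOf_dvd_natCard ((QuotientGroup.mk' M') x)
      rwa [← Subgroup.index_eq_card, hM'idx] at h
    have h3 : orderOf ((QuotientGroup.mk' M') x) = 1 := by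
      rcases (Nat.dvd_prime Nat.prime_two).mp h2 with h | h
      · exact h
      · exfalso; rw [h] at h1; exact hx h1
    have h4 : (QuotientGroup.mk' M') x = 1 := orderOf_eq_one_iff.mp h3
    have h5 : x ∈ (QuotientGroup.mk' M').ker := MonoidHom.mem_ker.mpr h4
    rwa [QuotientGroup.ker_mk'] at h5
  -- the complement `M`
  obtain ⟨M, hM⟩ : ∃ M : Subgroup G, M = M'.map C.subtype := ⟨_, rfl⟩
  have hMC : M ≤ C := by rw [hM]; exact Subgroup.map_subtype_le M'
  have hMcard : Nat.card ↥M = Nat.card ↥M' := by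
    rw [hM]
    exact (Nat.card_congr
      (Subgroup.equivMapOfInjective M' C.subtype C.subtype_injective).toEquiv).symm
  have hModd : ¬ 2 ∣ Nat.card ↥M := by rw [hMcard]; exact hM'odd
  have hMord : ∀ x ∈ M, ¬ 2 ∣ orderOf x := by
    intro x hx h2
    apply hModd
    have h1 : orderOf (⟨x, hx⟩ : ↥M) = orderOf x := Subgroup.orderOf_mk x hx
    have h3 := orderOf_dvd_natCard (⟨x, hx⟩ : ↥M)
    rw [h1] at h3
    exact h2.trans h3
  have hmemM : ∀ (x : ↥C), x ∈ M' → (x : G) ∈ M := by
    intro x hx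
    rw [hM]
    exact Subgroup.mem_map.mpr ⟨x, hx, rfl⟩
  have hMmem : ∀ x ∈ C, ¬ 2 ∣ orderOf x → x ∈ M := by
    intro x hx hox
    have h1 : (⟨x, hx⟩ : ↥C) ∈ M' := hclaim ⟨x, hx⟩ (by rw [Subgroup.orderOf_mk]; exact hox)
    exact hmemM ⟨x, hx⟩ h1
  have hMn : M.Normal := by
    constructor
    intro x hx g
    apply hMmem _ (hCn.conj_mem x (hMC hx) g)
    have h1 : orderOf (g * x * g⁻¹) = orderOf x := by
      have h := MulEquiv.orderOf_eq (MulAut.conj g) x
      rwa [MulAut.conj_apply] at h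
    rw [h1]; exact hMord x hx
  have hLM : L ⊓ M = ⊥ := by
    rw [eq_bot_iff]
    intro x hx
    obtain ⟨hxL, hxM⟩ := Subgroup.mem_inf.mp hx
    rw [Subgroup.mem_bot]
    rcases hZ x (Subgroup.mem_inf.mpr ⟨hxL, hMC hxM⟩) with h | h
    · exact h
    · exfalso; apply hMord x hxM; rw [h, hto]
  have hcomm : ∀ s ∈ L, ∀ x ∈ M, s * x = x * s := by
    intro s hs x hx
    exact hcentr x (hMC hx) s hs
  have ht'M : t' ∉ M' := by
    intro h
    have h1 : (t' : G) ∈ M := hmemM t' h
    rw [ht'v] at h1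
    exact hMord t h1 (by rw [hto])
  have hCle : C ≤ L ⊔ M := by
    intro c hc
    by_cases hcM : (⟨c, hc⟩ : ↥C) ∈ M'
    · exact (le_sup_right : M ≤ L ⊔ M) (hmemM ⟨c, hc⟩ hcM)
    · have h1 : t' * ⟨c, hc⟩ ∈ M' :=
        (Subgroup.mul_mem_iff_of_index_two hM'idx).mpr
          ⟨fun h => absurd h ht'M, fun h => absurd h hcM⟩
      have h2 : t * c ∈ M := by
        have := hmemM _ h1
        rwa [Subgroup.coe_mul, ht'v] at this
      have h3 : c = t * (t * c) := by rw [← mul_assoc, htt, one_mul]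
      rw [h3]
      exact Subgroup.mul_mem_sup htL h2
  have hsup : L ⊔ M = L ⊔ C := le_antisymm (sup_le_sup_left hMC L) (sup_le le_sup_left hCle)
  have hindex : (L ⊔ M).index = 1 ∨ (L ⊔ M).index = 2 := by
    rw [hsup]
    haveI := finite_mulAut_quot e
    have h1 : C.index ≤ 120 := by
      have := index_centralizer_le L hL
      rwa [card_mulAut_quot e, ← hC] at this
    have h2 : C.relIndex (L ⊔ C) * (L ⊔ C).index = C.index :=
      Subgroup.relIndex_mul_index le_sup_right
    have h3 : C.relIndex (L ⊔ C) = C.relIndex L := Subgroup.relIndex_sup_right L C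
    have h4 : (L ⊓ C).relIndex L = C.relIndex L := Subgroup.inf_relIndex_left L C
    have h5 : (⊥ : Subgroup G).relIndex (L ⊓ C) * (L ⊓ C).relIndex L
        = (⊥ : Subgroup G).relIndex L :=
      Subgroup.relIndex_mul_relIndex ⊥ (L ⊓ C) L bot_le inf_le_left
    rw [Subgroup.relIndex_bot_left, Subgroup.relIndex_bot_left, hZcard, card_of_iso e] at h5
    have h6 : C.relIndex L = 60 := by rw [← h4]; omega
    rw [h3, h6] at h2
    have h7 : (L ⊔ C).index ≠ 0 := Subgroup.index_ne_zero_of_finite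
    omega
  have hpM : ∀ p : ℕ, [Fact p.Prime] → p ∣ 120 → ¬ p ∣ Nat.card ↥M := by
    intro p hp hp120 hpM
    obtain ⟨x, hx⟩ := exists_prime_orderOf_dvd_card' p hpM
    obtain ⟨y, hy⟩ := exists_prime_orderOf_dvd_card' (G := ↥L) p
      (by rw [card_of_iso e]; exact hp120)
    have hxo : orderOf (x : G) = p := by rw [Subgroup.orderOf_coe]; exact hx
    have hyo : orderOf (y : G) = p := by rw [Subgroup.orderOf_coe]; exact hy
    have hc : Commute (x : G) (y : G) := (hcomm y y.2 x x.2).symm
    have hmem : (x : G) ∈ Subgroup.zpowers (y : G) :=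
      cyc_mem hcyc hc hyo (by rw [← hxo]; exact pow_orderOf_eq_one _)
    have hxL : (x : G) ∈ L := (Subgroup.zpowers_le.mpr y.2) hmem
    have hx1 : (x : G) ∈ L ⊓ M := Subgroup.mem_inf.mpr ⟨hxL, x.2⟩
    rw [hLM, Subgroup.mem_bot] at hx1
    rw [hx1, orderOf_one] at hxo
    exact hp.out.one_lt.ne hxo
  have hcop30 : (Nat.card ↥M).Coprime 30 := by
    have hc : ∀ p : ℕ, p.Prime → ¬ p ∣ Nat.card ↥M → (Nat.card ↥M).Coprime p :=
      fun p hp h => ((Nat.Prime.coprime_iff_not_dvd hp).mpr h).symm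
    have h30 : (30 : ℕ) = 2 * (3 * 5) := by norm_num
    rw [h30]
    exact Nat.Coprime.mul_right (hc 2 Nat.prime_two hModd)
      (Nat.Coprime.mul_right (hc 3 Nat.prime_three (hpM 3 (by norm_num)))
        (hc 5 (by norm_num) (hpM 5 (by norm_num))))
  have hsyl : ∀ (p : ℕ) [Fact p.Prime] (P : Sylow p M), IsCyclic P := by
    intro p hp P
    exact sylow_cyclic_of_odd hcyc M (Nat.odd_iff.mpr (by omega)) p P
  exact ⟨M, hMn, hindex, hLM, hcomm, hsyl, hcop30⟩

end Cfsg.Agent.Lib.Helper6.NSFrob
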