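import Mathlib
import Cfsg.Agent.Lib.Helper6.NSFrobD

/-! Nonsolvable Frobenius complements, part E: from the Frobenius complement hypothesis to the
structure theorem, modulo the Zassenhaus theorem on perfect fixed-point-free groups (hypothesis
`Z` below). -/

set_option autoImplicit false
set_option maxHeartbeats 1000000

namespace Cfsg.Agent.Lib.Helper6.NSFrob

universe u

/-- The Frobenius kernel, with the fixed-point-free action of the complement. -/
theorem exists_kernel {L : Type u} [Group L] [Finite L] (H : Subgroup L)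
    (hH : Cfsg.IsFrobeniusComplement H) :
    ∃ N : Subgroup L, N.Normal ∧ N ≠ ⊥ ∧
      ∀ h ∈ H, h ≠ 1 → N ⊓ Subgroup.centralizer {h} = ⊥ := by
  obtain ⟨N, hN, hNn, hc⟩ := Cfsg.Agent.Lib.Helper1.frobenius_theorem H hH
  haveI := hNn
  have hNne : N ≠ ⊥ := by
    intro hb
    rw [hb] at hc
    exact hH.2.1 (Subgroup.isComplement'_bot_left.mp hc)
  exact ⟨N, hNn, hNne, (Cfsg.Agent.Lib.Helper1.frobenius_iff_fpf N H hc hNne hH.1).mp hH⟩

/-- Abelian subgroups of a Frobenius complement are cyclic (no solvability hypothesis). -/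
theorem cyc_of_frobenius {G : Type*} [Group G] [Finite G] {L : Type u} [Group L] [Finite L]
    (H : Subgroup L) (hH : Cfsg.IsFrobeniusComplement H) (e : G ≃* H) :
    ∀ A : Subgroup G, IsMulCommutative A → IsCyclic A := by
  obtain ⟨N, hNn, hNne, hfpf⟩ := exists_kernel H hH
  haveI := hNn
  have hHN : H ≤ Subgroup.normalizer (N : Set L) := by
    rw [Subgroup.normalizer_eq_top_iff.mpr hNn]; exact le_top
  intro A hA
  haveI := hA
  set A1 : Subgroup ↥H := A.map e.toMonoidHom with hA1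
  set A' : Subgroup L := A1.map H.subtype with hA'
  haveI : IsMulCommutative ↥A1 := Subgroup.map_isMulCommutative A e.toMonoidHom
  haveI : IsMulCommutative ↥A' := Subgroup.map_isMulCommutative A1 H.subtype
  have hA'H : A' ≤ H := Subgroup.map_subtype_le _
  have hA'N : A' ≤ Subgroup.normalizer (N : Set L) := hA'H.trans hHN
  have hfpf' : ∀ a ∈ A', a ≠ 1 → N ⊓ Subgroup.centralizer {a} = ⊥ :=
    fun a ha ha1 => hfpf a (hA'H ha) ha1
  have hcop := Cfsg.Agent.Lib.Helper1.coprime_of_fpf A' N hA'N hfpf'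
  haveI hA'sol : Group.IsSolvable ↥A' :=
    isSolvable_of_comm (isMulCommutative_iff.mp inferInstance)
  obtain ⟨V, hVne, hVN, hVc, hA'V⟩ :=
    Cfsg.Agent.Lib.Helper1.exists_invariant_abelian_of_coprime A' N hNne hA'N hcop
      (Or.inl hA'sol)
  haveI := hVc
  have hfpfV : ∀ a ∈ A', a ≠ 1 → V ⊓ Subgroup.centralizer {a} = ⊥ := by
    intro a ha ha1
    rw [eq_bot_iff, ← hfpf' a ha ha1]
    exact inf_le_inf_right _ hVN
  haveI : IsCyclic ↥A' :=
    Cfsg.Agent.Lib.Helper1.fpf_on_abelian_cyclic A' V hVne hA'V hfpfV (Or.inl inferInstance)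
  have e1 : ↥A ≃* ↥A1 := Subgroup.equivMapOfInjective A e.toMonoidHom e.injective
  have e2 : ↥A1 ≃* ↥A' := Subgroup.equivMapOfInjective A1 H.subtype H.subtype_injective
  exact (e1.trans e2).isCyclic.mpr inferInstance

/-- Perfectness is invariant under isomorphism. -/
theorem perfect_of_equiv {A B : Type*} [Group A] [Group B] (f : A ≃* B)
    (h : commutator A = ⊤) : commutator B = ⊤ := by
  have h1 := Subgroup.map_commutator (⊤ : Subgroup A) ⊤ f.toMonoidHom
  rw [Subgroup.map_top_of_surjective f.toMonoidHom f.surjective] at h1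
  rw [commutator_def] at h ⊢
  rw [← h1, h, Subgroup.map_top_of_surjective f.toMonoidHom f.surjective]

/-- The Zassenhaus hypothesis: perfect nontrivial fixed-point-free automorphism groups are
`SL(2,5)`. -/
def ZHyp : Prop :=
  ∀ (K : Type u) [Group K] [Finite K] (Γ : Subgroup (MulAut K)),
    (∀ φ ∈ Γ, φ ≠ 1 → ∀ k : K, φ k = k → k = 1) → commutator ↥Γ = ⊤ → Γ ≠ ⊥ →
    Nonempty (↥Γ ≃* SL25)

/-- A perfect nontrivial subgroup of a Frobenius complement is `SL(2,5)`. -/
theorem perfect_iso_SL25 (Z : ZHyp.{u})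
    {G : Type*} [Group G] [Finite G] {L : Type u} [Group L] [Finite L] (H : Subgroup L)
    (hH : Cfsg.IsFrobeniusComplement H) (e : G ≃* H) (X : Subgroup G)
    (hX : commutator ↥X = ⊤) (hXne : X ≠ ⊥) : Nonempty (↥X ≃* SL25) := by
  obtain ⟨N, hNn, hNne, hfpf⟩ := exists_kernel H hH
  haveI := hNn
  -- the action
  let φ : G →* MulAut ↥N := (MulAut.conjNormal (H := N)).comp (H.subtype.comp e.toMonoidHom)
  have hφ : ∀ (g : G) (n : ↥N),
      ((φ g n : ↥N) : L) = ((e g : ↥H) : L) * n * ((e g : ↥H) : L)⁻¹ := by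
    intro g n
    rfl
  have hfix : ∀ g : G, g ≠ 1 → ∀ n : ↥N, φ g n = n → n = 1 := by
    intro g hg n hn
    have hh1 : ((e g : ↥H) : L) ≠ 1 := by
      intro h
      apply hg
      apply e.injective
      rw [map_one]
      exact Subtype.ext h
    have h1 := hfpf _ (e g).2 hh1
    have h3 := congrArg Subtype.val hn
    rw [hφ] at h3
    have h2 : (n : L) ∈ N ⊓ Subgroup.centralizer {((e g : ↥H) : L)} := by
      refine Subgroup.mem_inf.mpr ⟨n.2, ?_⟩
      rw [Subgroup.mem_centralizer_iff]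
      intro h hh
      rw [Set.mem_singleton_iff] at hh
      rw [hh]
      calc ((e g : ↥H) : L) * n
          = (((e g : ↥H) : L) * n * ((e g : ↥H) : L)⁻¹) * ((e g : ↥H) : L) := by group
        _ = n * ((e g : ↥H) : L) := by rw [h3]
    rw [h1, Subgroup.mem_bot] at h2
    exact Subtype.ext h2
  have hinj : Function.Injective φ := by
    rw [injective_iff_map_eq_one]
    intro g hg
    by_contra hg1
    apply hNne
    rw [eq_bot_iff]
    intro n hn
    have := hfix g hg1 ⟨n, hn⟩ (by rw [hg, MulAut.one_apply])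
    rw [Subgroup.mem_bot]
    exact congrArg Subtype.val this
  -- the image
  have eX : ↥X ≃* ↥(X.map φ) := Subgroup.equivMapOfInjective X φ hinj
  have hΓperf : commutator ↥(X.map φ) = ⊤ := perfect_of_equiv eX hX
  have hΓne : X.map φ ≠ ⊥ := by
    intro h
    apply hXne
    exact (Subgroup.map_eq_bot_iff_of_injective X hinj).mp h
  have hΓfpf : ∀ ψ ∈ X.map φ, ψ ≠ 1 → ∀ k : ↥N, ψ k = k → k = 1 := by
    intro ψ hψ hψ1 k hk
    obtain ⟨x, hxX, rfl⟩ := Subgroup.mem_map.mp hψ
    have hx1 : x ≠ 1 := by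
      intro h; apply hψ1; rw [h, map_one]
    exact hfix x hx1 k hk
  obtain ⟨f⟩ := Z ↥N (X.map φ) hΓfpf hΓperf hΓne
  exact ⟨eX.trans f⟩

/-- The central involution of a nonsolvable Frobenius complement. -/
theorem involution_of_frobenius (Z : ZHyp.{u})
    {G : Type*} [Group G] [Finite G] (hns : ¬ Group.IsSolvable G)
    {L : Type u} [Group L] [Finite L] (H : Subgroup L)
    (hH : Cfsg.IsFrobeniusComplement H) (e : G ≃* H) :
    ∃ t : G, orderOf t = 2 ∧ (∀ g : G, g * t = t * g) ∧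
      ∀ s : G, s * s = 1 → s = 1 ∨ s = t := by
  have hcyc := cyc_of_frobenius H hH e
  obtain ⟨S, hSn, hSne, hSperf⟩ := exists_perfect_normal hns
  obtain ⟨f⟩ := perfect_iso_SL25 Z H hH e S hSperf hSne
  haveI := hSn
  obtain ⟨t, -, -, hto, -, htcen, hinv⟩ := central_involution hcyc S f
  exact ⟨t, hto, htcen, hinv⟩

/-- The structure of nonsolvable Frobenius complements, modulo `Z`. -/
theorem main (Z : ZHyp.{u})
    {G : Type*} [Group G] [Finite G] (hns : ¬ Group.IsSolvable G)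
    (hFC : ∃ (L : Type u) (_ : Group L) (_ : Finite L) (H : Subgroup L),
      Cfsg.IsFrobeniusComplement H ∧ Nonempty (G ≃* H)) :
    ∃ G₀ : Subgroup G, G₀.Normal ∧ (G₀.index = 1 ∨ G₀.index = 2) ∧
      ∃ S M : Subgroup G, S ⊔ M = G₀ ∧ S ⊓ M = ⊥ ∧ (∀ s ∈ S, ∀ x ∈ M, s * x = x * s) ∧
        Nonempty (S ≃* Matrix.SpecialLinearGroup (Fin 2) (ZMod 5)) ∧
        (∀ (p : ℕ) [Fact p.Prime] (P : Sylow p M), IsCyclic P) ∧ (Nat.card M).Coprime 30 := by
  obtain ⟨L, iG, iF, H, hH, ⟨e⟩⟩ := hFC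
  have hcyc := cyc_of_frobenius H hH e
  obtain ⟨S, hSn, hSne, hSperf⟩ := exists_perfect_normal hns
  obtain ⟨f⟩ := perfect_iso_SL25 Z H hH e S hSperf hSne
  haveI := hSn
  obtain ⟨M, hMn, hidx, hSM, hcomm, hsyl, hcop⟩ := structure_of_normal_SL25 hcyc S hSperf f
  haveI := hMn
  exact ⟨S ⊔ M, inferInstance, hidx, S, M, rfl, hSM, hcomm, ⟨f⟩, hsyl, hcop⟩

end Cfsg.Agent.Lib.Helper6.NSFrob
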