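import Mathlib
import Cfsg.Agent.Lib.Helper6.CharOps
import Cfsg.Agent.Lib.Helper6.Constituent
import Cfsg.Agent.Lib.Helper6.Regular

set_option autoImplicit false

namespace Cfsg.Agent.Lib.Helper6

open scoped ComplexConjugate

section

variable {G : Type*} [Group G] {H : Type*} [Group H]

/-- The outer product of two functions. -/
def prodFun (φ : G → ℂ) (ψ : H → ℂ) : G × H → ℂ := fun x => φ x.1 * ψ x.2

theorem IsCharacter.prodFun {φ : G → ℂ} {ψ : H → ℂ} (hφ : Cfsg.IsCharacter G φ)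
    (hψ : Cfsg.IsCharacter H ψ) : Cfsg.IsCharacter (G × H) (prodFun φ ψ) := by
  have h1 := IsCharacter.comp (MonoidHom.fst G H) hφ
  have h2 := IsCharacter.comp (MonoidHom.snd G H) hψ
  exact IsCharacter.mul h1 h2

theorem classInner_prodFun [Fintype G] [Fintype H] (φ φ' : G → ℂ) (ψ ψ' : H → ℂ) :
    Cfsg.classInner (prodFun φ ψ) (prodFun φ' ψ')
      = Cfsg.classInner φ φ' * Cfsg.classInner ψ ψ' := by
  unfold Cfsg.classInner prodFun
  rw [Fintype.sum_prod_type, Nat.card_prod]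
  have h1 : ∀ (x : G) (y : H), φ x * ψ y * conj (φ' x * ψ' y)
      = (φ x * conj (φ' x)) * (ψ y * conj (ψ' y)) := by
    intro x y
    rw [map_mul]; ring
  simp only [h1]
  have h2 : ∑ x : G, ∑ y : H, (φ x * conj (φ' x)) * (ψ y * conj (ψ' y))
      = (∑ x : G, φ x * conj (φ' x)) * (∑ y : H, ψ y * conj (ψ' y)) := by
    rw [Finset.sum_mul_sum]
  rw [h2]
  push_cast
  rw [mul_inv]
  ring

theorem IsIrrCharacter.prodFun [Finite G] [Finite H] {φ : G → ℂ} {ψ : H → ℂ}
    (hφ : Cfsg.IsIrrCharacter G φ) (hψ : Cfsg.IsIrrCharacter H ψ) :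
    Cfsg.IsIrrCharacter (G × H) (prodFun φ ψ) := by
  have : Fintype G := Fintype.ofFinite G
  have : Fintype H := Fintype.ofFinite H
  apply isIrrCharacter_of_classInner_self_eq_one
    (IsCharacter.prodFun (IsIrrCharacter.isCharacter hφ) (IsIrrCharacter.isCharacter hψ))
  rw [classInner_prodFun, classInner_isIrrCharacter hφ hφ, classInner_isIrrCharacter hψ hψ,
    if_pos rfl, if_pos rfl, mul_one]

theorem sum_sq_charDegree {K : Type*} [Group K] [Fintype K] [Fintype (Cfsg.IrrCharacter K)] :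
    ∑ χ : Cfsg.IrrCharacter K, (Cfsg.charDegree (χ : K → ℂ)) ^ 2 = Nat.card K := by
  have h := sum_sq_degree (G := K)
  have h2 : ∀ χ : Cfsg.IrrCharacter K, (χ : K → ℂ) 1 ^ 2
      = ((Cfsg.charDegree (χ : K → ℂ) ^ 2 : ℕ) : ℂ) := by
    intro χ
    rw [IsCharacter.apply_one_eq_charDegree (IsIrrCharacter.isCharacter χ.2)]
    push_cast
    rfl
  rw [Finset.sum_congr rfl (fun χ _ => h2 χ), ← Nat.cast_sum] at h
  exact_mod_cast h

/-- Every irreducible character of a direct product is an outer product. -/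
theorem exists_prodFun_of_isIrrCharacter [Finite G] [Finite H] {θ : G × H → ℂ}
    (hθ : Cfsg.IsIrrCharacter (G × H) θ) :
    ∃ (φ : G → ℂ) (ψ : H → ℂ), Cfsg.IsIrrCharacter G φ ∧ Cfsg.IsIrrCharacter H ψ ∧
      θ = prodFun φ ψ := by
  classical
  have : Fintype G := Fintype.ofFinite G
  have : Fintype H := Fintype.ofFinite H
  have : Fintype (Cfsg.IrrCharacter G) := Fintype.ofFinite _
  have : Fintype (Cfsg.IrrCharacter H) := Fintype.ofFinite _
  have : Fintype (Cfsg.IrrCharacter (G × H)) := Fintype.ofFinite _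
  let ι : Cfsg.IrrCharacter G × Cfsg.IrrCharacter H → Cfsg.IrrCharacter (G × H) :=
    fun p => ⟨prodFun (p.1 : G → ℂ) (p.2 : H → ℂ), IsIrrCharacter.prodFun p.1.2 p.2.2⟩
  have hι : Function.Injective ι := by
    intro p q hpq
    have h1 : prodFun (p.1 : G → ℂ) (p.2 : H → ℂ) = prodFun (q.1 : G → ℂ) (q.2 : H → ℂ) :=
      congrArg Subtype.val hpq
    have h2 := classInner_isIrrCharacter (IsIrrCharacter.prodFun p.1.2 p.2.2)
      (IsIrrCharacter.prodFun q.1.2 q.2.2)
    rw [if_pos h1, classInner_prodFun, classInner_irrCharacter, classInner_irrCharacter] at h2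
    by_cases h3 : p.1 = q.1
    · by_cases h4 : p.2 = q.2
      · exact Prod.ext h3 h4
      · rw [if_neg h4, mul_zero] at h2
        exact absurd h2 zero_ne_one
    · rw [if_neg h3, zero_mul] at h2
      exact absurd h2 zero_ne_one
  by_contra hcon
  have hnot : (⟨θ, hθ⟩ : Cfsg.IrrCharacter (G × H)) ∉ Finset.univ.image ι := by
    intro hmem
    obtain ⟨p, _, hp⟩ := Finset.mem_image.mp hmem
    apply hcon
    exact ⟨p.1, p.2, p.1.2, p.2.2, (congrArg Subtype.val hp).symm⟩
  have hdprod : ∀ p : Cfsg.IrrCharacter G × Cfsg.IrrCharacter H,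
      Cfsg.charDegree ((ι p : Cfsg.IrrCharacter (G × H)) : G × H → ℂ)
        = Cfsg.charDegree (p.1 : G → ℂ) * Cfsg.charDegree (p.2 : H → ℂ) := by
    intro p
    have h1 := IsCharacter.apply_one_eq_charDegree (IsIrrCharacter.isCharacter (ι p).2)
    have h2 := IsCharacter.apply_one_eq_charDegree (IsIrrCharacter.isCharacter p.1.2)
    have h3 := IsCharacter.apply_one_eq_charDegree (IsIrrCharacter.isCharacter p.2.2)
    have h4 : ((ι p : Cfsg.IrrCharacter (G × H)) : G × H → ℂ) 1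
        = (p.1 : G → ℂ) 1 * (p.2 : H → ℂ) 1 := rfl
    rw [h4, h2, h3] at h1
    exact_mod_cast h1.symm
  have htotal := sum_sq_charDegree (K := G × H)
  have himage : ∑ θ' ∈ Finset.univ.image ι, (Cfsg.charDegree (θ' : G × H → ℂ)) ^ 2
      = Nat.card (G × H) := by
    rw [Finset.sum_image (fun p _ q _ h => hι h), Fintype.sum_prod_type]
    simp only [hdprod, mul_pow]
    rw [← Finset.sum_mul_sum, sum_sq_charDegree (K := G), sum_sq_charDegree (K := H), Nat.card_prod]
  have hsplit := Finset.sum_add_sum_compl (Finset.univ.image ι)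
    (fun θ' : Cfsg.IrrCharacter (G × H) => (Cfsg.charDegree (θ' : G × H → ℂ)) ^ 2)
  rw [htotal, himage] at hsplit
  have hzero : ∑ θ' ∈ (Finset.univ.image ι)ᶜ, (Cfsg.charDegree (θ' : G × H → ℂ)) ^ 2 = 0 := by
    omega
  have hmem : (⟨θ, hθ⟩ : Cfsg.IrrCharacter (G × H)) ∈ (Finset.univ.image ι)ᶜ :=
    Finset.mem_compl.mpr hnot
  have h0 := (Finset.sum_eq_zero_iff.mp hzero) _ hmem
  have hpos := IsIrrCharacter.charDegree_pos hθ
  have : Cfsg.charDegree θ = 0 := by
    simpa using h0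
  omega

end

end Cfsg.Agent.Lib.Helper6
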