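import Mathlib

set_option autoImplicit false
set_option linter.unusedVariables false
set_option linter.style.longLine false

/-!
# S3103 piece E4a: the automorphism group of an elementary abelian `2`-group of order `≤ 16`
embeds in `GL(F_2^4)` (as linear equivalences)
-/

namespace Cfsg.Agent.Lib.Helper6.A8Emb

/-- linear automorphisms of a small `F_2`-space embed in those of `F_2^4`. -/
theorem exists_injective_linearEquiv {V : Type*} [AddCommGroup V] [Module (ZMod 2) V] [Finite V]
    (hcard : Nat.card V ≤ 16) :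
    ∃ g : (V ≃ₗ[ZMod 2] V) →* ((Fin 4 → ZMod 2) ≃ₗ[ZMod 2] (Fin 4 → ZMod 2)),
      Function.Injective g := by
  classical
  haveI : Module.Finite (ZMod 2) V := Module.Finite.of_finite
  have hpow : Nat.card V = 2 ^ Module.finrank (ZMod 2) V := by
    rw [Module.natCard_eq_pow_finrank (K := ZMod 2) (V := V)]
    simp
  have hr : Module.finrank (ZMod 2) V ≤ 4 := by
    by_contra hcon
    push Not at hcon
    have : 2 ^ 5 ≤ 2 ^ Module.finrank (ZMod 2) V := Nat.pow_le_pow_right (by norm_num) hcon
    omega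
  have hfr : Module.finrank (ZMod 2) (V × (Fin (4 - Module.finrank (ZMod 2) V) → ZMod 2)) =
      Module.finrank (ZMod 2) (Fin 4 → ZMod 2) := by
    rw [Module.finrank_prod, Module.finrank_fin_fun, Module.finrank_fin_fun]
    omega
  let e : (V × (Fin (4 - Module.finrank (ZMod 2) V) → ZMod 2)) ≃ₗ[ZMod 2] (Fin 4 → ZMod 2) :=
    LinearEquiv.ofFinrankEq _ _ hfr
  let g : (V ≃ₗ[ZMod 2] V) →* ((Fin 4 → ZMod 2) ≃ₗ[ZMod 2] (Fin 4 → ZMod 2)) :=
    { toFun := fun ψ => e.symm.trans ((ψ.prodCongr (LinearEquiv.refl _ _)).trans e)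
      map_one' := by
        ext w
        simp
      map_mul' := by
        intro a b
        ext w
        simp }
  refine ⟨g, ?_⟩
  intro a b hab
  ext v
  have h1 := congrArg (fun ψ : (Fin 4 → ZMod 2) ≃ₗ[ZMod 2] (Fin 4 → ZMod 2) => ψ (e (v, 0))) hab
  have h2 : e (a v, 0) = e (b v, 0) := by
    simpa [g] using h1
  have h3 := e.injective h2
  exact congrArg Prod.fst h3

theorem comm_of_sq {E : Type*} [Group E] (h2 : ∀ x : E, x ^ 2 = 1) (a b : E) : a * b = b * a := by
  have ha : a⁻¹ = a := inv_eq_of_mul_eq_one_right (by rw [← pow_two]; exact h2 a)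
  have hb : b⁻¹ = b := inv_eq_of_mul_eq_one_right (by rw [← pow_two]; exact h2 b)
  have hab : (a * b)⁻¹ = a * b := inv_eq_of_mul_eq_one_right (by rw [← pow_two]; exact h2 (a * b))
  calc a * b = (a * b)⁻¹ := hab.symm
    _ = b⁻¹ * a⁻¹ := mul_inv_rev a b
    _ = b * a := by rw [ha, hb]

/-- the commutative case. -/
theorem exists_injective_mulAut_comm {E : Type*} [CommGroup E] [Finite E]
    (h2 : ∀ x : E, x ^ 2 = 1) (hcard : Nat.card E ≤ 16) :
    ∃ f : MulAut E →* ((Fin 4 → ZMod 2) ≃ₗ[ZMod 2] (Fin 4 → ZMod 2)), Function.Injective f := by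
  classical
  letI modV : Module (ZMod 2) (Additive E) := AddCommGroup.zmodModule (n := 2) (fun x => by
    rw [← ofMul_toMul x, ← ofMul_pow, h2, ofMul_one])
  let f0 : MulAut E →* (Additive E ≃ₗ[ZMod 2] Additive E) :=
    { toFun := fun φ =>
        LinearEquiv.ofLinear
          (AddMonoidHom.toZModLinearMap 2 (MulEquiv.toAdditive φ).toAddMonoidHom)
          (AddMonoidHom.toZModLinearMap 2 (MulEquiv.toAdditive φ.symm).toAddMonoidHom)
          (by ext x; simp)
          (by ext x; simp)
      map_one' := by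
        ext x
        rfl
      map_mul' := by
        intro a b
        ext x
        rfl }
  have hf0 : Function.Injective f0 := by
    intro a b hab
    ext x
    have h1 := congrArg (fun ψ : Additive E ≃ₗ[ZMod 2] Additive E => ψ (Additive.ofMul x)) hab
    exact congrArg Additive.toMul h1
  have hcardV : Nat.card (Additive E) ≤ 16 := hcard
  obtain ⟨g, hg⟩ := exists_injective_linearEquiv (V := Additive E) hcardV
  exact ⟨g.comp f0, hg.comp hf0⟩

/-- PIECE E4a (verbatim). -/
theorem exists_injective_mulAut_to_linearEquiv {E : Type*} [Group E] [Finite E]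
    (h2 : ∀ x : E, x ^ 2 = 1) (hcard : Nat.card E ≤ 16) :
    ∃ f : MulAut E →* ((Fin 4 → ZMod 2) ≃ₗ[ZMod 2] (Fin 4 → ZMod 2)), Function.Injective f := by
  letI : CommGroup E := { (inferInstance : Group E) with mul_comm := comm_of_sq h2 }
  exact exists_injective_mulAut_comm (E := E) h2 hcard

end Cfsg.Agent.Lib.Helper6.A8Emb
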