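import Mathlib
import Cfsg.Agent.S0256

set_option autoImplicit false
set_option linter.unusedVariables false
set_option linter.style.longLine false

/-!
# S3103 piece E4b: `GL_4(2)` (as linear equivalences of `F_2^4`) embeds in `A_8`
-/

namespace Cfsg.Agent.Lib.Helper6.A8Emb

open Matrix

theorem zmod2_eq_one_of_isUnit (x : ZMod 2) (hx : IsUnit x) : x = 1 := by
  fin_cases x
  · exact absurd hx not_isUnit_zero
  · rfl

theorem det_eq_one (g : GL (Fin 4) (ZMod 2)) :
    (g : Matrix (Fin 4) (Fin 4) (ZMod 2)).det = 1 := by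
  have hu : IsUnit (g : Matrix (Fin 4) (Fin 4) (ZMod 2)).det :=
    (Matrix.isUnit_iff_isUnit_det _).mp g.isUnit
  exact zmod2_eq_one_of_isUnit _ hu

/-- `GL_4(2) → SL_4(2)`. -/
def glToSl : GL (Fin 4) (ZMod 2) →* SpecialLinearGroup (Fin 4) (ZMod 2) where
  toFun g := ⟨(g : Matrix (Fin 4) (Fin 4) (ZMod 2)), det_eq_one g⟩
  map_one' := by
    apply Subtype.ext
    rfl
  map_mul' a b := by
    apply Subtype.ext
    rfl

theorem glToSl_injective : Function.Injective glToSl := by
  intro a b hab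
  apply Units.ext
  exact congrArg Subtype.val hab

theorem center_sl_eq_bot :
    Subgroup.center (SpecialLinearGroup (Fin 4) (ZMod 2)) = ⊥ := by
  rw [eq_bot_iff]
  intro A hA
  rw [Matrix.SpecialLinearGroup.mem_center_iff] at hA
  obtain ⟨r, hr, hA⟩ := hA
  have hr1 : r = 1 := by
    apply zmod2_eq_one_of_isUnit
    exact IsUnit.of_pow_eq_one hr (by simp)
  rw [Subgroup.mem_bot]
  apply Subtype.ext
  rw [← hA, hr1]
  simp

/-- PIECE E4b (verbatim). -/
theorem exists_injective_linearEquiv_to_alt8 :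
    ∃ f : ((Fin 4 → ZMod 2) ≃ₗ[ZMod 2] (Fin 4 → ZMod 2)) →* ↥(alternatingGroup (Fin 8)),
      Function.Injective f := by
  obtain ⟨e⟩ := Cfsg.Agent.S0256.result (F := ZMod 2) (by simp)
  let e1 : ((Fin 4 → ZMod 2) ≃ₗ[ZMod 2] (Fin 4 → ZMod 2)) ≃* GL (Fin 4) (ZMod 2) :=
    (LinearMap.GeneralLinearGroup.generalLinearEquiv (ZMod 2) (Fin 4 → ZMod 2)).symm.trans
      (Matrix.GeneralLinearGroup.toLin).symm
  let q : SpecialLinearGroup (Fin 4) (ZMod 2) →*
      Matrix.ProjectiveSpecialLinearGroup (Fin 4) (ZMod 2) :=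
    QuotientGroup.mk' (Subgroup.center (SpecialLinearGroup (Fin 4) (ZMod 2)))
  have hq : Function.Injective q := by
    rw [← MonoidHom.ker_eq_bot_iff]
    show (QuotientGroup.mk' _).ker = ⊥
    rw [QuotientGroup.ker_mk', center_sl_eq_bot]
  refine ⟨e.toMonoidHom.comp (q.comp (glToSl.comp e1.toMonoidHom)), ?_⟩
  intro a b hab
  apply e1.injective
  apply glToSl_injective
  apply hq
  apply e.injective
  exact hab

end Cfsg.Agent.Lib.Helper6.A8Emb
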