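import Mathlib
import Cfsg.Agent.Lib.Helper3.QuatLift
import Cfsg.Agent.Lib.Helper5.OAut.D8

/-!
# GH5 (S3106), unit U16: recognising the central product `Q8 * D8`

`IsQ8D8 P` is the second alternative of S3106 for a group `P`.  `isQ8D8_of_gens` produces it
from generators `a b` (quaternion) and `u v` (dihedral) with a common central involution `z`.
-/

set_option autoImplicit false

namespace Cfsg.Agent.Lib.Helper6.GH5

open Cfsg.Agent.Lib.Helper3 Cfsg.Agent.Lib.Helper5.OAut

/-- The second alternative in the conclusion of S3106, for an abstract group `P`. -/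
def IsQ8D8 (P : Type*) [Group P] : Prop :=
  Nat.card P = 32 ∧ ∃ A B : Subgroup P,
    Nonempty (↥A ≃* QuaternionGroup 2) ∧ Nonempty (↥B ≃* DihedralGroup 4) ∧
      (∀ a ∈ A, ∀ b ∈ B, a * b = b * a) ∧ A ⊔ B = ⊤ ∧ A ⊓ B = Subgroup.center P

theorem quat2_sq6 : ∀ w : QuaternionGroup 2, w ≠ 1 →
    w = QuaternionGroup.a 2 ∨ w * w = QuaternionGroup.a 2 := by decide

theorem quat2_center6 : ∀ w : QuaternionGroup 2, (∀ v : QuaternionGroup 2, w * v = v * w) →
    w = 1 ∨ w = QuaternionGroup.a 2 := by decide

theorem dih4_center6 : ∀ w : DihedralGroup 4, (∀ v : DihedralGroup 4, w * v = v * w) →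
    w = 1 ∨ w = DihedralGroup.r 2 := by decide

section
variable {P : Type*} [Group P]

/-- An injective homomorphism from `Q8` given by quaternion generators. -/
theorem exists_quat_hom (a b z : P) (hz1 : z ≠ 1) (hzz : z * z = 1) (haa : a * a = z)
    (hbb : b * b = z) (hba : b * a * b⁻¹ = a⁻¹) :
    ∃ f : QuaternionGroup 2 →* P, Function.Injective f ∧ f (QuaternionGroup.a 2) = z ∧
      ∀ w : QuaternionGroup 2, ∀ y : P, Commute a y → Commute b y → Commute (f w) y := by
  have r1 : a ^ (2 * 2) = 1 := by
    have : a ^ (2 * 2) = (a * a) * (a * a) := by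
      rw [show (2 * 2 : ℕ) = 2 + 2 from rfl, pow_add, pow_two]
    rw [this, haa, hzz]
  have r2 : b * b = a ^ 2 := by rw [hbb, pow_two, haa]
  refine ⟨quatLift 2 a b r1 r2 hba, ?_, ?_, ?_⟩
  · rw [injective_iff_map_eq_one]
    intro w hw
    by_contra hw1
    have h2 : quatLift 2 a b r1 r2 hba (QuaternionGroup.a 2) = 1 := by
      rcases quat2_sq6 w hw1 with h | h
      · rw [← h]; exact hw
      · rw [← h, map_mul, hw, mul_one]
    have h3 := quatLift_a_natCast 2 a b r1 r2 hba 2
    have h4 : ((2 : ℕ) : ZMod (2 * 2)) = 2 := by norm_num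
    rw [h4, h2, pow_two, haa] at h3
    exact hz1 h3.symm
  · have h3 := quatLift_a_natCast 2 a b r1 r2 hba 2
    have h4 : ((2 : ℕ) : ZMod (2 * 2)) = 2 := by norm_num
    rw [h4, pow_two, haa] at h3
    exact h3
  · intro w y hay hby
    cases w with
    | a i =>
      rw [quatLift_a]
      unfold zmodPw
      exact hay.pow_left _
    | xa i =>
      rw [quatLift_xa]
      unfold zmodPw
      exact hby.mul_left (hay.pow_left _)

/-- An injective homomorphism from `D8` given by two involutions whose commutator is a central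
involution. -/
theorem exists_dih_hom (u v z : P) (hz1 : z ≠ 1) (hzz : z * z = 1) (hzc : ∀ g : P, g * z = z * g)
    (huu : u * u = 1) (hvv : v * v = 1) (huv : u * v = z * v * u) :
    ∃ g : DihedralGroup 4 →* P, Function.Injective g ∧ g (DihedralGroup.r 2) = z ∧
      ∀ w : DihedralGroup 4, ∀ x : P, Commute x u → Commute x v → Commute x (g w) := by
  have hvu : v * u = z * u * v := by
    rw [mul_assoc, huv, ← mul_assoc, ← mul_assoc, hzz, one_mul]
  have hr2 : (u * v) * (u * v) = z := by
    have : (u * v) * (u * v) = u * (v * u) * v := by group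
    rw [this, hvu]
    have : u * (z * u * v) * v = (u * z) * (u * (v * v)) := by group
    rw [this, hvv, mul_one, hzc u, mul_assoc, huu, mul_one]
  have hr4 : (u * v) ^ 4 = 1 := by
    have : (u * v) ^ 4 = ((u * v) * (u * v)) * ((u * v) * (u * v)) := by
      rw [show (4 : ℕ) = 2 + 2 from rfl, pow_add, pow_two]
    rw [this, hr2, hzz]
  have hr2' : (u * v) ^ 2 = z := by rw [pow_two, hr2]
  have hord : orderOf (u * v) = 4 := by
    have h := orderOf_eq_prime_pow (x := u * v) (p := 2) (n := 1)
      (by rw [pow_one, hr2']; exact hz1) (by simpa using hr4)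
    simpa using h
  have huinv : u⁻¹ = u := inv_eq_of_mul_eq_one_right huu
  have hvinv : v⁻¹ = v := inv_eq_of_mul_eq_one_right hvv
  have hsr : u * (u * v) * u = (u * v)⁻¹ := by
    rw [mul_inv_rev, huinv, hvinv, ← mul_assoc, huu, one_mul]
  have hns : u ∉ Subgroup.zpowers (u * v) := by
    intro hmem
    have hc : u * (u * v) = (u * v) * u := commute_of_mem_zpowers hmem
    have h1 : u * (u * v) * u = u * v := by rw [hc, mul_assoc, huu, mul_one]
    rw [hsr] at h1
    have h2 : (u * v) * (u * v) = 1 := by
      have h3 := inv_mul_cancel (u * v)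
      rw [h1] at h3
      exact h3
    rw [hr2] at h2
    exact hz1 h2
  refine ⟨dihHom (by rw [← hord]; exact pow_orderOf_eq_one (u * v)) huu hsr,
    dihHom_injective hord huu hsr hns, ?_, ?_⟩
  · show dihMap (u * v) u (DihedralGroup.r 2) = z
    rw [dihMap_r]
    have : (2 : ZMod 4).val = 2 := rfl
    rw [this, hr2']
  · intro w x hxu hxv
    show Commute x (dihMap (u * v) u w)
    cases w with
    | r i =>
      rw [dihMap_r]
      exact (hxu.mul_right hxv).pow_right _
    | sr i =>
      rw [dihMap_sr]
      exact hxu.mul_right ((hxu.mul_right hxv).pow_right _)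

/-- **U16 (core)**: a group of order 32 generated-by-cardinality by a quaternion pair `a, b` and a
dihedral pair `u, v` sharing the central involution `z` and commuting elementwise is `Q8 * D8`. -/
theorem isQ8D8_of_gens (hcard : Nat.card P = 32) (a b u v z : P) (hz1 : z ≠ 1)
    (hzz : z * z = 1) (hzc : ∀ g : P, g * z = z * g)
    (haa : a * a = z) (hbb : b * b = z) (hba : b * a * b⁻¹ = a⁻¹)
    (huu : u * u = 1) (hvv : v * v = 1) (huv : u * v = z * v * u)
    (hau : a * u = u * a) (hav : a * v = v * a) (hbu : b * u = u * b) (hbv : b * v = v * b) :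
    IsQ8D8 P := by
  have : Finite P := Nat.finite_of_card_ne_zero (by rw [hcard]; norm_num)
  obtain ⟨f, hf, hfz, hfC⟩ := exists_quat_hom a b z hz1 hzz haa hbb hba
  obtain ⟨g, hg, hgz, hgC⟩ := exists_dih_hom u v z hz1 hzz hzc huu hvv huv
  have comm : ∀ (m : QuaternionGroup 2) (n : DihedralGroup 4), Commute (f m) (g n) := by
    intro m n
    exact hgC n (f m) (hfC m u hau hbu) (hfC m v hav hbv)
  -- elements of the intersection
  have hint : ∀ x : P, x ∈ f.range → x ∈ g.range → x = 1 ∨ x = z := by
    intro x hxA hxB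
    obtain ⟨w, rfl⟩ := hxA
    obtain ⟨w', hw'⟩ := hxB
    have hcen : ∀ t : QuaternionGroup 2, w * t = t * w := by
      intro t
      apply hf
      rw [map_mul, map_mul, ← hw']
      exact ((comm t w').symm).eq
    rcases quat2_center6 w hcen with h | h
    · left; rw [h, map_one]
    · right; rw [h, hfz]
  have hzA : z ∈ f.range := ⟨_, hfz⟩
  have hzB : z ∈ g.range := ⟨_, hgz⟩
  -- the product map
  have hker : ∀ p : QuaternionGroup 2 × DihedralGroup 4,
      p ∈ (MonoidHom.noncommCoprod f g comm).ker →
        p = 1 ∨ p = (QuaternionGroup.a 2, DihedralGroup.r 2) := by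
    intro p hp
    rw [MonoidHom.mem_ker, MonoidHom.noncommCoprod_apply] at hp
    have h1 : f p.1 = (g p.2)⁻¹ := eq_inv_of_mul_eq_one_left hp
    have hA : f p.1 ∈ f.range := ⟨_, rfl⟩
    have hB : f p.1 ∈ g.range := by rw [h1]; exact inv_mem ⟨_, rfl⟩
    rcases hint _ hA hB with h | h
    · left
      have e1 : p.1 = 1 := hf (by rw [h, map_one])
      have e2 : p.2 = 1 := by
        apply hg
        rw [map_one]
        rw [h] at h1
        exact inv_eq_one.1 h1.symm
      exact Prod.ext e1 e2
    · right
      have e1 : p.1 = QuaternionGroup.a 2 := hf (by rw [h, hfz])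
      have e2 : p.2 = DihedralGroup.r 2 := by
        apply hg
        rw [hgz]
        rw [h] at h1
        have : g p.2 = z⁻¹ := by rw [h1, inv_inv]
        rw [this]
        exact inv_eq_of_mul_eq_one_right hzz
      exact Prod.ext e1 e2
  have hkcard : Nat.card (MonoidHom.noncommCoprod f g comm).ker ≤ 2 := by
    have hsub : ((MonoidHom.noncommCoprod f g comm).ker : Set (QuaternionGroup 2 × DihedralGroup 4))
        ⊆ {1, (QuaternionGroup.a 2, DihedralGroup.r 2)} := by
      intro p hp
      rcases hker p hp with h | h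
      · left; exact h
      · right; exact h
    calc Nat.card (MonoidHom.noncommCoprod f g comm).ker
        = Set.ncard ((MonoidHom.noncommCoprod f g comm).ker :
            Set (QuaternionGroup 2 × DihedralGroup 4)) := rfl
      _ ≤ Set.ncard ({1, (QuaternionGroup.a 2, DihedralGroup.r 2)} :
            Set (QuaternionGroup 2 × DihedralGroup 4)) :=
          Set.ncard_le_ncard hsub (Set.toFinite _)
      _ ≤ 2 := by
          have h := Set.ncard_insert_le (1 : QuaternionGroup 2 × DihedralGroup 4)
            {(QuaternionGroup.a 2, DihedralGroup.r 2)}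
          rw [Set.ncard_singleton] at h
          exact h
  have h64 : Nat.card (QuaternionGroup 2 × DihedralGroup 4) = 64 := by
    rw [Nat.card_prod, Nat.card_eq_fintype_card, QuaternionGroup.card, DihedralGroup.nat_card]
  have hrange : (MonoidHom.noncommCoprod f g comm).range = ⊤ := by
    apply Subgroup.eq_top_of_le_card
    rw [hcard]
    have h1 := Subgroup.card_mul_index (MonoidHom.noncommCoprod f g comm).ker
    rw [Subgroup.index_ker, h64] at h1
    have hpos : 0 < Nat.card (MonoidHom.noncommCoprod f g comm).ker := Nat.card_pos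
    nlinarith
  have hsup : f.range ⊔ g.range = ⊤ := by
    rw [← MonoidHom.noncommCoprod_range f g comm]; exact hrange
  have hcomm : ∀ x ∈ f.range, ∀ y ∈ g.range, x * y = y * x := by
    rintro x ⟨m, rfl⟩ y ⟨n, rfl⟩
    exact (comm m n).eq
  refine ⟨hcard, f.range, g.range, ⟨(MonoidHom.ofInjective hf).symm⟩,
    ⟨(MonoidHom.ofInjective hg).symm⟩, hcomm, hsup, ?_⟩
  -- the intersection is the centre
  ext x
  rw [Subgroup.mem_inf, Subgroup.mem_center_iff]
  constructor
  · rintro ⟨hxA, hxB⟩ t
    rcases hint x hxA hxB with h | h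
    · rw [h, mul_one, one_mul]
    · rw [h]; exact hzc t
  · intro hx
    have hxtop : x ∈ (MonoidHom.noncommCoprod f g comm).range := by rw [hrange]; trivial
    obtain ⟨p, hp⟩ := hxtop
    rw [MonoidHom.noncommCoprod_apply] at hp
    -- p.1 central in Q8, p.2 central in D8
    have hc1 : ∀ t : QuaternionGroup 2, p.1 * t = t * p.1 := by
      intro t
      apply hf
      rw [map_mul, map_mul]
      have h1 := hx (f t)
      rw [← hp] at h1
      -- f t * (f p.1 * g p.2) = f p.1 * g p.2 * f t
      have h2 : f p.1 * g p.2 * f t = f p.1 * f t * g p.2 := by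
        rw [mul_assoc, ((comm t p.2).symm).eq, ← mul_assoc]
      rw [h2, ← mul_assoc] at h1
      exact (mul_right_cancel h1).symm
    have hc2 : ∀ t : DihedralGroup 4, p.2 * t = t * p.2 := by
      intro t
      apply hg
      rw [map_mul, map_mul]
      have h1 := hx (g t)
      rw [← hp] at h1
      have h2 : g t * (f p.1 * g p.2) = f p.1 * (g t * g p.2) := by
        rw [← mul_assoc, ((comm p.1 t).symm).eq, mul_assoc]
      rw [h2, mul_assoc] at h1
      exact (mul_left_cancel h1).symm
    have hx1 : f p.1 = 1 ∨ f p.1 = z := by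
      rcases quat2_center6 p.1 hc1 with h | h
      · left; rw [h, map_one]
      · right; rw [h, hfz]
    have hx2 : g p.2 = 1 ∨ g p.2 = z := by
      rcases dih4_center6 p.2 hc2 with h | h
      · left; rw [h, map_one]
      · right; rw [h, hgz]
    have h1A : (1 : P) ∈ f.range := one_mem _
    have h1B : (1 : P) ∈ g.range := one_mem _
    rw [← hp]
    rcases hx1 with h | h <;> rcases hx2 with h' | h' <;> rw [h, h']
    · rw [mul_one]; exact ⟨h1A, h1B⟩
    · rw [one_mul]; exact ⟨hzA, hzB⟩
    · rw [mul_one]; exact ⟨hzA, hzB⟩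
    · rw [hzz]; exact ⟨h1A, h1B⟩

end

end Cfsg.Agent.Lib.Helper6.GH5
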