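import Mathlib
import Cfsg.Prelude.Def_CaseTheorems
import Cfsg.Prelude.Def_Transfer
import Cfsg.Agent.Lib.Helper6.GH5Q1

/-!
# GH5 (S3106), unit U2: sections of sections, (R5), (R5'), and transport of the conclusion
-/

set_option autoImplicit false

open scoped commutatorElement

namespace Cfsg.Agent.Lib.Helper6.GH5

/-! ### sectional rank: transport -/

theorem prankLE_of_mulEquiv6 {p k : ℕ} {Q Q' : Type*} [Group Q] [Group Q'] (e : Q ≃* Q')
    (h : Cfsg.PRankLE p k Q) : Cfsg.PRankLE p k Q' := by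
  intro A hA hexp
  have h1 := h (A.map e.symm.toMonoidHom) inferInstance ?_
  · rwa [Subgroup.card_map_of_injective e.symm.injective] at h1
  · rintro _ ⟨b, hb, rfl⟩
    show (e.symm b) ^ p = 1
    rw [← map_pow, hexp b hb, map_one]

/-- every homomorphic image of a subgroup has small rank. -/
theorem prankLE_of_section6 {p k : ℕ} {G : Type*} [Group G] (hr : Cfsg.SectionalPRankLE p k G)
    (H : Subgroup G) {Q : Type*} [Group Q] (f : H →* Q) (hf : Function.Surjective f) :
    Cfsg.PRankLE p k Q :=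
  prankLE_of_mulEquiv6 (QuotientGroup.quotientKerEquivOfSurjective f hf) (hr H f.ker)

/-- sectional rank passes to quotients. -/
theorem sectional_quotient6 {p k : ℕ} {G : Type*} [Group G] (hr : Cfsg.SectionalPRankLE p k G)
    (M : Subgroup G) [M.Normal] : Cfsg.SectionalPRankLE p k (G ⧸ M) := by
  intro H N hN
  have hg : Function.Surjective ((QuotientGroup.mk' M).subgroupComap H) :=
    MonoidHom.subgroupComap_surjective_of_surjective _ _ (QuotientGroup.mk'_surjective M)
  exact prankLE_of_section6 hr (H.comap (QuotientGroup.mk' M))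
    ((QuotientGroup.mk' N).comp ((QuotientGroup.mk' M).subgroupComap H))
    ((QuotientGroup.mk'_surjective N).comp hg)

/-- sectional rank passes along isomorphisms. -/
theorem sectional_of_mulEquiv {p k : ℕ} {G G' : Type*} [Group G] [Group G'] (e : G ≃* G')
    (hr : Cfsg.SectionalPRankLE p k G) : Cfsg.SectionalPRankLE p k G' := by
  intro H N hN
  have hg : Function.Surjective (e.toMonoidHom.subgroupComap H) :=
    MonoidHom.subgroupComap_surjective_of_surjective _ _ e.surjective
  exact prankLE_of_section6 hr (H.comap e.toMonoidHom)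
    ((QuotientGroup.mk' N).comp (e.toMonoidHom.subgroupComap H))
    ((QuotientGroup.mk'_surjective N).comp hg)

/-- sectional rank passes to subgroups. -/
theorem sectional_subgroup {p k : ℕ} {G : Type*} [Group G] (hr : Cfsg.SectionalPRankLE p k G)
    (Y : Subgroup G) : Cfsg.SectionalPRankLE p k ↥Y := by
  intro H N hN
  have e : ↥H ≃* ↥(H.map Y.subtype) := H.equivMapOfInjective Y.subtype Y.subtype_injective
  exact prankLE_of_section6 hr (H.map Y.subtype)
    ((QuotientGroup.mk' N).comp e.symm.toMonoidHom)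
    ((QuotientGroup.mk'_surjective N).comp e.symm.surjective)

/-! ### (R5) -/

section
variable {G : Type*} [Group G]

/-- **(R5)**, relative index form: an elementary abelian section `H / (B ⊓ H)` of a group of
sectional `2`-rank at most `k` has order at most `2 ^ k`. -/
theorem relIndex_le_of_sectional {k : ℕ} (hr : Cfsg.SectionalPRankLE 2 k G) (B H : Subgroup G)
    (hcomm : ∀ x ∈ H, ∀ y ∈ H, ⁅x, y⁆ ∈ B) (hsq : ∀ x ∈ H, x ^ 2 ∈ B) :
    B.relIndex H ≤ 2 ^ k := by
  haveI hN : (B.subgroupOf H).Normal := by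
    constructor
    intro n hn h
    rw [Subgroup.mem_subgroupOf] at hn ⊢
    have h1 : ((h * n * h⁻¹ : H) : G) = ⁅(h : G), (n : G)⁆ * n := by
      rw [commutatorElement_def]
      simp
    rw [h1]
    exact B.mul_mem (hcomm _ h.2 _ n.2) hn
  have hP := hr H (B.subgroupOf H)
  have hc : ∀ a b : H ⧸ B.subgroupOf H, a * b = b * a := by
    intro a b
    induction a using QuotientGroup.induction_on with
    | H x =>
    induction b using QuotientGroup.induction_on with
    | H y =>
    rw [← QuotientGroup.mk_mul, ← QuotientGroup.mk_mul, QuotientGroup.eq, Subgroup.mem_subgroupOf]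
    have h1 : (((x * y)⁻¹ * (y * x) : H) : G) = ⁅(y : G)⁻¹, (x : G)⁻¹⁆ := by
      rw [commutatorElement_def]
      simp [mul_assoc]
    rw [h1]
    exact hcomm _ (inv_mem y.2) _ (inv_mem x.2)
  have he : ∀ a : H ⧸ B.subgroupOf H, a ^ 2 = 1 := by
    intro a
    induction a using QuotientGroup.induction_on with
    | H x =>
    rw [← QuotientGroup.mk_pow, QuotientGroup.eq_one_iff, Subgroup.mem_subgroupOf]
    have h1 : ((x ^ 2 : H) : G) = (x : G) ^ 2 := by simp
    rw [h1]
    exact hsq _ x.2
  have h2 := hP ⊤ ⟨⟨fun a b => Subtype.ext (hc a b)⟩⟩ (fun a _ => he a)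
  rw [Subgroup.card_top] at h2
  have h3 : B.relIndex H = Nat.card (H ⧸ B.subgroupOf H) := Subgroup.index_eq_card _
  rw [h3]
  exact h2

/-- **(R5)**: no elementary abelian section of order `≥ 32` when the sectional `2`-rank is `≤ 4`. -/
theorem false_of_elemAb_section (hr : Cfsg.SectionalPRankLE 2 4 G) (B H : Subgroup G)
    (hcomm : ∀ x ∈ H, ∀ y ∈ H, ⁅x, y⁆ ∈ B) (hsq : ∀ x ∈ H, x ^ 2 ∈ B)
    (hidx : 32 ≤ B.relIndex H) : False := by
  have h := relIndex_le_of_sectional hr B H hcomm hsq
  omega

/-- **(R5)**, cardinality form with `B ≤ H`. -/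
theorem false_of_elemAb_section_card [Finite G] (hr : Cfsg.SectionalPRankLE 2 4 G)
    (B H : Subgroup G) (hBH : B ≤ H)
    (hcomm : ∀ x ∈ H, ∀ y ∈ H, ⁅x, y⁆ ∈ B) (hsq : ∀ x ∈ H, x ^ 2 ∈ B)
    (hcard : 32 * Nat.card B ≤ Nat.card H) : False := by
  have h := relIndex_le_of_sectional hr B H hcomm hsq
  have h1 : Nat.card (B.subgroupOf H) * (B.subgroupOf H).index = Nat.card H :=
    Subgroup.card_mul_index _
  have h2 : Nat.card (B.subgroupOf H) = Nat.card B :=
    Nat.card_congr (Subgroup.subgroupOfEquivOfLe hBH).toEquiv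
  have h3 : (B.subgroupOf H).index = B.relIndex H := rfl
  rw [h2, h3] at h1
  have hpos : 0 < Nat.card B := Nat.card_pos
  nlinarith

/-- multiplicative form of the hypotheses of (R5): squares `x * x` and commutation modulo `B`
(`x * y = b * (y * x)` with `b ∈ B`). -/
theorem false_of_elemAb_section_mul [Finite G] (hr : Cfsg.SectionalPRankLE 2 4 G)
    (B H : Subgroup G) (hBH : B ≤ H)
    (hcomm : ∀ x ∈ H, ∀ y ∈ H, x * y * (y * x)⁻¹ ∈ B) (hsq : ∀ x ∈ H, x * x ∈ B)
    (hcard : 32 * Nat.card B ≤ Nat.card H) : False := by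
  refine false_of_elemAb_section_card hr B H hBH ?_ ?_ hcard
  · intro x hx y hy
    have h := hcomm x hx y hy
    have h1 : ⁅x, y⁆ = x * y * (y * x)⁻¹ := by
      rw [commutatorElement_def]; group
    rw [h1]; exact h
  · intro x hx
    rw [pow_two]; exact hsq x hx

/-- **(R5')**: a central-in-`⟨W,u⟩` elementary abelian subgroup `W` of order 16 together with an
involution `u ∉ W` commuting with `W` gives `E₃₂`. -/
theorem false_of_central_E16 [Finite G] (hr : Cfsg.SectionalPRankLE 2 4 G) (W : Subgroup G)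
    (hWc : ∀ w ∈ W, ∀ w' ∈ W, w * w' = w' * w) (hW2 : ∀ w ∈ W, w * w = 1)
    (hcard : Nat.card W = 16) (u : G) (hu : u ∉ W) (huu : u * u = 1)
    (huW : ∀ w ∈ W, u * w = w * u) : False := by
  -- the subgroup generated by W and u
  have hk : ∀ x ∈ ((W : Set G) ∪ {u}), ∀ y ∈ ((W : Set G) ∪ {u}), x * y = y * x := by
    rintro x (hx | hx) y (hy | hy)
    · exact hWc x hx y hy
    · rw [Set.mem_singleton_iff] at hy; rw [hy]; exact (huW x hx).symm
    · rw [Set.mem_singleton_iff] at hx; rw [hx]; exact huW y hy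
    · rw [Set.mem_singleton_iff] at hx hy; rw [hx, hy]
  have hEc : ∀ x ∈ Subgroup.closure ((W : Set G) ∪ {u}),
      ∀ y ∈ Subgroup.closure ((W : Set G) ∪ {u}), x * y = y * x := by
    intro x hx y hy
    letI := Subgroup.closureCommGroupOfComm hk
    have := mul_comm (⟨x, hx⟩ : Subgroup.closure ((W : Set G) ∪ {u})) ⟨y, hy⟩
    exact congrArg Subtype.val this
  have hE2 : ∀ x ∈ Subgroup.closure ((W : Set G) ∪ {u}), x * x = 1 := by
    intro x hx
    induction hx using Subgroup.closure_induction with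
    | mem x hx =>
      rcases hx with hx | hx
      · exact hW2 x hx
      · rw [Set.mem_singleton_iff] at hx; rw [hx]; exact huu
    | one => rw [one_mul]
    | mul x y hx hy hx2 hy2 =>
      have hc := hEc x hx y hy
      calc x * y * (x * y) = x * (y * x) * y := by group
        _ = x * (x * y) * y := by rw [hc]
        _ = (x * x) * (y * y) := by group
        _ = 1 := by rw [hx2, hy2, one_mul]
    | inv x hx hx2 =>
      have : x⁻¹ = x := inv_eq_of_mul_eq_one_right hx2
      rw [this]; exact hx2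
  have hWE : W ≤ Subgroup.closure ((W : Set G) ∪ {u}) := by
    intro w hw
    exact Subgroup.subset_closure (Or.inl hw)
  have huE : u ∈ Subgroup.closure ((W : Set G) ∪ {u}) :=
    Subgroup.subset_closure (Or.inr rfl)
  have h := relIndex_le_of_sectional hr ⊥ (Subgroup.closure ((W : Set G) ∪ {u}))
    (by
      intro x hx y hy
      rw [Subgroup.mem_bot, commutatorElement_def, hEc x hx y hy]; group)
    (by
      intro x hx
      rw [Subgroup.mem_bot, pow_two]; exact hE2 x hx)
  rw [Subgroup.relIndex_bot_left] at h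
  have hdvd : Nat.card W ∣ Nat.card (Subgroup.closure ((W : Set G) ∪ {u})) :=
    Subgroup.card_dvd_of_le hWE
  rw [hcard] at hdvd
  have hpos : 0 < Nat.card (Subgroup.closure ((W : Set G) ∪ {u})) := Nat.card_pos
  have h16 : Nat.card (Subgroup.closure ((W : Set G) ∪ {u})) = 16 := by
    obtain ⟨m, hm⟩ := hdvd
    have : m = 1 := by
      have h' : 16 * m ≤ 2 ^ 4 := hm ▸ h
      have hm0 : 0 < m := by
        rcases Nat.eq_zero_or_pos m with h0 | h0
        · rw [h0, mul_zero] at hm; omega
        · exact h0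
      omega
    rw [hm, this]
  have hEW : W = Subgroup.closure ((W : Set G) ∪ {u}) :=
    Subgroup.eq_of_le_of_card_ge hWE (by rw [h16, hcard])
  exact hu (hEW ▸ huE)

end

/-! ### transport of the conclusion -/

/-- elementary abelian of order 16, for a type. -/
def IsE16 (P : Type*) [Group P] : Prop :=
  (∀ a b : P, a * b = b * a) ∧ (∀ a : P, a ^ 2 = 1) ∧ Nat.card P = 16

theorem IsE16.of_mulEquiv {P P' : Type*} [Group P] [Group P'] (e : P ≃* P') (h : IsE16 P) :
    IsE16 P' := by
  obtain ⟨hc, h2, hcard⟩ := h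
  refine ⟨?_, ?_, ?_⟩
  · intro a b
    have := hc (e.symm a) (e.symm b)
    rw [← map_mul, ← map_mul] at this
    exact e.symm.injective this
  · intro a
    have := h2 (e.symm a)
    rw [← map_pow] at this
    exact e.symm.injective (by rw [this, map_one])
  · rw [← hcard]; exact Nat.card_congr e.symm.toEquiv

theorem IsQ8D8.of_mulEquiv {P P' : Type*} [Group P] [Group P'] (e : P ≃* P') (h : IsQ8D8 P) :
    IsQ8D8 P' := by
  obtain ⟨hcard, A, B, ⟨eA⟩, ⟨eB⟩, hcomm, hsup, hinf⟩ := h
  refine ⟨by rw [← hcard]; exact Nat.card_congr e.symm.toEquiv,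
    A.map e.toMonoidHom, B.map e.toMonoidHom, ?_, ?_, ?_, ?_, ?_⟩
  · exact ⟨(A.equivMapOfInjective e.toMonoidHom e.injective).symm.trans eA⟩
  · exact ⟨(B.equivMapOfInjective e.toMonoidHom e.injective).symm.trans eB⟩
  · rintro _ ⟨a, ha, rfl⟩ _ ⟨b, hb, rfl⟩
    show e a * e b = e b * e a
    rw [← map_mul, ← map_mul, hcomm a ha b hb]
  · rw [← Subgroup.map_sup, hsup]
    exact Subgroup.map_top_of_surjective e.toMonoidHom e.surjective
  · rw [← Subgroup.map_inf _ _ e.toMonoidHom e.injective, hinf]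
    ext x
    rw [Subgroup.mem_map, Subgroup.mem_center_iff]
    constructor
    · rintro ⟨c, hc, rfl⟩ g
      rw [Subgroup.mem_center_iff] at hc
      have := hc (e.symm g)
      show g * e c = e c * g
      have h2 := congrArg e this
      rw [map_mul, map_mul, e.apply_symm_apply] at h2
      exact h2
    · intro hx
      refine ⟨e.symm x, ?_, e.apply_symm_apply x⟩
      rw [Subgroup.mem_center_iff]
      intro g
      have := hx (e g)
      apply e.injective
      rw [map_mul, map_mul, e.apply_symm_apply]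
      exact this

/-- The conclusion of S3106 for a subgroup `Q` from an abstract group `P ≃* Q`. -/
theorem conclusion_of_equiv {X : Type*} [Group X] (Q : Subgroup X) {P : Type*} [Group P]
    (e : P ≃* ↥Q) (h : IsE16 P ∨ IsQ8D8 P) :
    (Cfsg.IsElementaryAbelian 2 Q ∧ Nat.card ↥Q = 16) ∨
      (Nat.card ↥Q = 32 ∧ ∃ A B : Subgroup ↥Q,
        Nonempty (↥A ≃* QuaternionGroup 2) ∧ Nonempty (↥B ≃* DihedralGroup 4) ∧
          (∀ a ∈ A, ∀ b ∈ B, a * b = b * a) ∧ A ⊔ B = ⊤ ∧ A ⊓ B = Subgroup.center ↥Q) := by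
  rcases h with h | h
  · left
    obtain ⟨hc, h2, hcard⟩ := IsE16.of_mulEquiv e h
    refine ⟨⟨⟨⟨fun a b => hc a b⟩⟩, ?_⟩, hcard⟩
    intro a ha
    have := h2 ⟨a, ha⟩
    exact congrArg Subtype.val this
  · right
    exact IsQ8D8.of_mulEquiv e h

end Cfsg.Agent.Lib.Helper6.GH5
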