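import Mathlib
import Cfsg.Agent.Lib.Helper6.GH5R

/-!
# GH5 (S3106): (R5) in the "all squares" shape

`false_of_sq_section`: `M ≤ H`, `M` normalised by `H`, all squares of `H` in `M`,
`32 * |M| ≤ |H|` is impossible when the sectional `2`-rank is at most 4.
-/

set_option autoImplicit false

namespace Cfsg.Agent.Lib.Helper6.GH5

variable {G : Type*} [Group G]

theorem false_of_sq_section [Finite G] (hr : Cfsg.SectionalPRankLE 2 4 G) (H M : Subgroup G)
    (hMH : M ≤ H) (hnorm : ∀ h ∈ H, ∀ m ∈ M, h * m * h⁻¹ ∈ M) (hsq : ∀ h ∈ H, h * h ∈ M)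
    (hcard : 32 * Nat.card M ≤ Nat.card H) : False := by
  refine false_of_elemAb_section_mul hr M H hMH ?_ hsq hcard
  intro x hx y hy
  have h1 : x * y * (y * x)⁻¹ =
      ((x * y) * (x * y)) * (y⁻¹ * (x⁻¹ * x⁻¹) * y⁻¹⁻¹) * (y⁻¹ * y⁻¹) := by group
  rw [h1]
  refine mul_mem (mul_mem (hsq _ (mul_mem hx hy)) ?_) (hsq _ (inv_mem hy))
  exact hnorm _ (inv_mem hy) _ (hsq _ (inv_mem hx))

/-- existential packaging of `false_of_sq_section`. -/
theorem false_of_exists_sq_section [Finite G] (hr : Cfsg.SectionalPRankLE 2 4 G)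
    (h : ∃ H M : Subgroup G, M ≤ H ∧ (∀ h ∈ H, ∀ m ∈ M, h * m * h⁻¹ ∈ M) ∧
      (∀ h ∈ H, h * h ∈ M) ∧ 32 * Nat.card M ≤ Nat.card H) : False := by
  obtain ⟨H, M, hMH, hnorm, hsq, hcard⟩ := h
  exact false_of_sq_section hr H M hMH hnorm hsq hcard

end Cfsg.Agent.Lib.Helper6.GH5
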