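import Mathlib
import Cfsg.Agent.Lib.Helper6.SW1

set_option autoImplicit false
set_option linter.unusedSectionVars false
set_option linter.unusedVariables false
set_option linter.unusedSimpArgs false

/-! `GL₂(F)`: entries, rotation-type and reflection-type matrices, the normaliser of the
non-split torus; squares modulo commutators inside a subgroup. -/

namespace Cfsg.Agent.Lib.Helper6.GLS

open Matrix Cfsg.Agent.Lib.Helper6.SW
open scoped commutatorElement

section general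

variable {G : Type*} [Group G]

theorem commutator_subgroup_eq_map (K : Subgroup G) :
    ⁅K, K⁆ = (commutator ↥K).map K.subtype := by
  rw [commutator_def, Subgroup.map_commutator, ← MonoidHom.range_eq_map, Subgroup.range_subtype]

/-- `EA` for a subgroup, in terms of the ambient group -/
theorem EA_of_sq_mem (K : Subgroup G) (h : ∀ x ∈ K, x ^ 2 ∈ ⁅K, K⁆) : EA ↥K := by
  intro x
  have h1 := h x.1 x.2
  rw [commutator_subgroup_eq_map] at h1
  obtain ⟨y, hy, hyx⟩ := h1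
  have : y = x ^ 2 := Subtype.ext hyx
  rw [← this]
  exact hy

theorem sq_mem_of_EA (K : Subgroup G) (h : EA ↥K) : ∀ x ∈ K, x ^ 2 ∈ ⁅K, K⁆ := by
  intro x hx
  rw [commutator_subgroup_eq_map]
  exact ⟨⟨x, hx⟩ ^ 2, h ⟨x, hx⟩, rfl⟩

theorem commutator_self_le (K : Subgroup G) : ⁅K, K⁆ ≤ K := by
  rw [Subgroup.commutator_le]
  intro a ha b hb
  exact K.mul_mem (K.mul_mem (K.mul_mem ha hb) (K.inv_mem ha)) (K.inv_mem hb)

/-- the elements of `K` whose square is a product of commutators form a subgroup -/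
def sqSub (K : Subgroup G) : Subgroup G where
  carrier := {x | x ∈ K ∧ x ^ 2 ∈ ⁅K, K⁆}
  one_mem' := ⟨K.one_mem, by rw [one_pow]; exact Subgroup.one_mem _⟩
  mul_mem' := by
    rintro x y ⟨hx, hx2⟩ ⟨hy, hy2⟩
    refine ⟨K.mul_mem hx hy, ?_⟩
    have h1 : (x * y) ^ 2 = x ^ 2 * ⁅x⁻¹, y⁆ * y ^ 2 := by
      rw [commutatorElement_def, pow_two, pow_two, pow_two]
      group
    rw [h1]
    exact Subgroup.mul_mem _ (Subgroup.mul_mem _ hx2
      (Subgroup.commutator_mem_commutator (K.inv_mem hx) hy)) hy2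
  inv_mem' := by
    rintro x ⟨hx, hx2⟩
    refine ⟨K.inv_mem hx, ?_⟩
    have : x⁻¹ ^ 2 = (x ^ 2)⁻¹ := by group
    rw [this]
    exact Subgroup.inv_mem _ hx2

theorem mem_sqSub (K : Subgroup G) (x : G) : x ∈ sqSub K ↔ x ∈ K ∧ x ^ 2 ∈ ⁅K, K⁆ := Iff.rfl

end general

section entries

variable {F : Type*} [Field F]

local notation "GL2" => GL (Fin 2) F

theorem gl2_mul_00 (M M' : GL2) : (M * M').1 0 0 = M.1 0 0 * M'.1 0 0 + M.1 0 1 * M'.1 1 0 := by
  rw [Units.val_mul, Matrix.mul_apply, Fin.sum_univ_two]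

theorem gl2_mul_01 (M M' : GL2) : (M * M').1 0 1 = M.1 0 0 * M'.1 0 1 + M.1 0 1 * M'.1 1 1 := by
  rw [Units.val_mul, Matrix.mul_apply, Fin.sum_univ_two]

theorem gl2_mul_10 (M M' : GL2) : (M * M').1 1 0 = M.1 1 0 * M'.1 0 0 + M.1 1 1 * M'.1 1 0 := by
  rw [Units.val_mul, Matrix.mul_apply, Fin.sum_univ_two]

theorem gl2_mul_11 (M M' : GL2) : (M * M').1 1 1 = M.1 1 0 * M'.1 0 1 + M.1 1 1 * M'.1 1 1 := by
  rw [Units.val_mul, Matrix.mul_apply, Fin.sum_univ_two]

/-- the inverse of the determinant -/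
noncomputable def dinv (M : GL2) : F := Ring.inverse M.1.det

theorem gl2_inv_00 (M : GL2) : (M⁻¹).1 0 0 = dinv M * M.1 1 1 := by
  rw [Matrix.coe_units_inv, Matrix.inv_def, adjugate_fin_two]
  simp [dinv]

theorem gl2_inv_01 (M : GL2) : (M⁻¹).1 0 1 = -(dinv M * M.1 0 1) := by
  rw [Matrix.coe_units_inv, Matrix.inv_def, adjugate_fin_two]
  simp [dinv]

theorem gl2_inv_10 (M : GL2) : (M⁻¹).1 1 0 = -(dinv M * M.1 1 0) := by
  rw [Matrix.coe_units_inv, Matrix.inv_def, adjugate_fin_two]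
  simp [dinv]

theorem gl2_inv_11 (M : GL2) : (M⁻¹).1 1 1 = dinv M * M.1 0 0 := by
  rw [Matrix.coe_units_inv, Matrix.inv_def, adjugate_fin_two]
  simp [dinv]

theorem gl2_det (M : GL2) :
    ((Matrix.GeneralLinearGroup.det M : Fˣ) : F) = M.1 0 0 * M.1 1 1 - M.1 0 1 * M.1 1 0 := by
  rw [Matrix.GeneralLinearGroup.val_det_apply, det_fin_two]

theorem gl2_ext (M M' : GL2) (h00 : M.1 0 0 = M'.1 0 0) (h01 : M.1 0 1 = M'.1 0 1)
    (h10 : M.1 1 0 = M'.1 1 0) (h11 : M.1 1 1 = M'.1 1 1) : M = M' := by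
  apply Units.ext
  ext i j
  fin_cases i <;> fin_cases j
  · exact h00
  · exact h01
  · exact h10
  · exact h11

/-- scalar matrices -/
noncomputable def sc (u : Fˣ) : GL2 := Matrix.GeneralLinearGroup.scalar (Fin 2) u

theorem sc_00 (u : Fˣ) : (sc u).1 0 0 = u := by
  simp [sc, Matrix.GeneralLinearGroup.coe_scalar]

theorem sc_01 (u : Fˣ) : (sc u).1 0 1 = 0 := by
  simp [sc, Matrix.GeneralLinearGroup.coe_scalar]

theorem sc_10 (u : Fˣ) : (sc u).1 1 0 = 0 := by
  simp [sc, Matrix.GeneralLinearGroup.coe_scalar]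

theorem sc_11 (u : Fˣ) : (sc u).1 1 1 = u := by
  simp [sc, Matrix.GeneralLinearGroup.coe_scalar]

theorem sc_comm (u : Fˣ) (A : GL2) : sc u * A = A * sc u :=
  Matrix.GeneralLinearGroup.scalar_commute u A

theorem sc_one : sc (1 : Fˣ) = (1 : GL2) := map_one _

/-- rotation-type matrices `(x, -y; y, x)` -/
def IsRotG (M : GL2) : Prop := M.1 0 0 = M.1 1 1 ∧ M.1 0 1 = -M.1 1 0

/-- reflection-type matrices `(u, v; v, -u)` -/
def IsRefG (M : GL2) : Prop := M.1 0 0 = -M.1 1 1 ∧ M.1 0 1 = M.1 1 0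

theorem isRotG_one : IsRotG (1 : GL2) := by
  constructor <;> simp

theorem IsRotG.mul {M M' : GL2} (h : IsRotG M) (h' : IsRotG M') : IsRotG (M * M') := by
  obtain ⟨h1, h2⟩ := h
  obtain ⟨h1', h2'⟩ := h'
  constructor
  · rw [gl2_mul_00, gl2_mul_11]; simp only [h1, h1', h2, h2']; ring
  · rw [gl2_mul_01, gl2_mul_10]; simp only [h1, h1', h2, h2']; ring

theorem IsRotG.inv {M : GL2} (h : IsRotG M) : IsRotG M⁻¹ := by
  obtain ⟨h1, h2⟩ := h
  constructor
  · rw [gl2_inv_00, gl2_inv_11, h1]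
  · rw [gl2_inv_01, gl2_inv_10, h2]; ring

theorem IsRefG.mul {M M' : GL2} (h : IsRefG M) (h' : IsRefG M') : IsRotG (M * M') := by
  obtain ⟨h1, h2⟩ := h
  obtain ⟨h1', h2'⟩ := h'
  constructor
  · rw [gl2_mul_00, gl2_mul_11]; simp only [h1, h1', h2, h2']; ring
  · rw [gl2_mul_01, gl2_mul_10]; simp only [h1, h1', h2, h2']; ring

theorem IsRotG.mul_ref {M M' : GL2} (h : IsRotG M) (h' : IsRefG M') : IsRefG (M * M') := by
  obtain ⟨h1, h2⟩ := h
  obtain ⟨h1', h2'⟩ := h'
  constructor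
  · rw [gl2_mul_00, gl2_mul_11]; simp only [h1, h1', h2, h2']; ring
  · rw [gl2_mul_01, gl2_mul_10]; simp only [h1, h1', h2, h2']; ring

theorem IsRefG.mul_rot {M M' : GL2} (h : IsRefG M) (h' : IsRotG M') : IsRefG (M * M') := by
  obtain ⟨h1, h2⟩ := h
  obtain ⟨h1', h2'⟩ := h'
  constructor
  · rw [gl2_mul_00, gl2_mul_11]; simp only [h1, h1', h2, h2']; ring
  · rw [gl2_mul_01, gl2_mul_10]; simp only [h1, h1', h2, h2']; ring

theorem IsRefG.inv {M : GL2} (h : IsRefG M) : IsRefG M⁻¹ := by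
  obtain ⟨h1, h2⟩ := h
  constructor
  · rw [gl2_inv_00, gl2_inv_11, h1]; ring
  · rw [gl2_inv_01, gl2_inv_10, h2]

theorem not_rotG_and_refG (h2 : (2 : F) ≠ 0) (M : GL2) : ¬(IsRotG M ∧ IsRefG M) := by
  rintro ⟨⟨a1, a2⟩, ⟨b1, b2⟩⟩
  have hd : M.1.det ≠ 0 := Matrix.GeneralLinearGroup.det_ne_zero M
  rw [det_fin_two] at hd
  have e1 : M.1 1 1 = 0 := by
    have : (2 : F) * M.1 1 1 = 0 := by linear_combination b1 - a1
    exact (mul_eq_zero.mp this).resolve_left h2
  have e2 : M.1 1 0 = 0 := by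
    have : (2 : F) * M.1 1 0 = 0 := by linear_combination a2 - b2
    exact (mul_eq_zero.mp this).resolve_left h2
  apply hd
  rw [e1, e2]
  ring

/-- the key relation between rotation-type and reflection-type elements -/
theorem rot_ref_rot {x g : GL2} (hx : IsRotG x) (hg : IsRefG g) :
    x * g * x = sc (Matrix.GeneralLinearGroup.det x) * g := by
  obtain ⟨h1, h2⟩ := hx
  obtain ⟨h1', h2'⟩ := hg
  apply gl2_ext
  · rw [gl2_mul_00, gl2_mul_00, gl2_mul_01, gl2_mul_00, sc_00, sc_01, gl2_det]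
    simp only [h1, h1', h2, h2']; ring
  · rw [gl2_mul_01, gl2_mul_00, gl2_mul_01, gl2_mul_01, sc_00, sc_01, gl2_det]
    simp only [h1, h1', h2, h2']; ring
  · rw [gl2_mul_10, gl2_mul_10, gl2_mul_11, gl2_mul_10, sc_10, sc_11, gl2_det]
    simp only [h1, h1', h2, h2']; ring
  · rw [gl2_mul_11, gl2_mul_10, gl2_mul_11, gl2_mul_11, sc_10, sc_11, gl2_det]
    simp only [h1, h1', h2, h2']; ring

/-- conjugation by a reflection-type element -/
theorem IsRefG.conj_rot {g x : GL2} (hg : IsRefG g) (hx : IsRotG x) :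
    g * x * g⁻¹ = sc (Matrix.GeneralLinearGroup.det x) * x⁻¹ := by
  have h := rot_ref_rot hx hg
  have h1 : g * x = x⁻¹ * (x * g * x) := by group
  rw [mul_inv_eq_iff_eq_mul, h1, h, ← mul_assoc, sc_comm]

/-- the square of a reflection-type element -/
theorem IsRefG.sq_eq {g : GL2} (hg : IsRefG g) :
    g * g = sc (-Matrix.GeneralLinearGroup.det g) := by
  obtain ⟨h1, h2⟩ := hg
  apply gl2_ext
  · rw [gl2_mul_00, sc_00, Units.val_neg, gl2_det]; simp only [h1, h2]; ring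
  · rw [gl2_mul_01, sc_01]; simp only [h1, h2]; ring
  · rw [gl2_mul_10, sc_10]; simp only [h1, h2]; ring
  · rw [gl2_mul_11, sc_11, Units.val_neg, gl2_det]; simp only [h1, h2]; ring

/-- the quarter turn -/
noncomputable def rquartG (F : Type*) [Field F] : GL (Fin 2) F :=
  Matrix.GeneralLinearGroup.mkOfDetNeZero !![0, -1; 1, 0] (by rw [det_fin_two]; simp)

theorem rquartG_val : (rquartG F).1 = !![0, -1; 1, 0] := rfl

theorem isRotG_rquartG : IsRotG (rquartG F) := by
  constructor <;> simp [rquartG_val]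

theorem det_rquartG : Matrix.GeneralLinearGroup.det (rquartG F) = 1 := by
  apply Units.ext
  rw [gl2_det]
  simp [rquartG_val]

theorem rquartG_sq : rquartG F * rquartG F = sc (-1) := by
  apply gl2_ext
  · rw [gl2_mul_00, sc_00]; simp [rquartG_val]
  · rw [gl2_mul_01, sc_01]; simp [rquartG_val]
  · rw [gl2_mul_10, sc_10]; simp [rquartG_val]
  · rw [gl2_mul_11, sc_11]; simp [rquartG_val]

theorem rquartG_pow_four : (rquartG F) ^ 4 = 1 := by
  have h1 : (rquartG F) ^ 4 = (rquartG F * rquartG F) * (rquartG F * rquartG F) := by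
    rw [show (4 : ℕ) = 2 + 2 from rfl, pow_add, pow_two]
  rw [h1, rquartG_sq]
  apply gl2_ext
  · rw [gl2_mul_00, sc_00, sc_01]; simp
  · rw [gl2_mul_01, sc_00, sc_01]; simp
  · rw [gl2_mul_10, sc_10, sc_11, sc_00]; simp
  · rw [gl2_mul_11, sc_10, sc_11, sc_01]; simp

/-- the reflection `diag(1, -1)` -/
noncomputable def refl0 (F : Type*) [Field F] : GL (Fin 2) F :=
  Matrix.GeneralLinearGroup.mkOfDetNeZero !![1, 0; 0, -1] (by rw [det_fin_two]; simp)

theorem isRefG_refl0 : IsRefG (refl0 F) := by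
  constructor <;> simp [refl0, Matrix.GeneralLinearGroup.mkOfDetNeZero]

/-- the non-split torus -/
def torG (F : Type*) [Field F] : Subgroup (GL (Fin 2) F) where
  carrier := {M | IsRotG M}
  mul_mem' h h' := h.mul h'
  one_mem' := isRotG_one
  inv_mem' h := h.inv

/-- the normaliser of the non-split torus -/
def torGN (F : Type*) [Field F] : Subgroup (GL (Fin 2) F) where
  carrier := {M | IsRotG M ∨ IsRefG M}
  mul_mem' := by
    rintro M M' (h | h) (h' | h')
    · exact Or.inl (h.mul h')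
    · exact Or.inr (h.mul_ref h')
    · exact Or.inr (h.mul_rot h')
    · exact Or.inl (h.mul h')
  one_mem' := Or.inl isRotG_one
  inv_mem' := by
    rintro M (h | h)
    · exact Or.inl h.inv
    · exact Or.inr h.inv

theorem mem_torG (M : GL2) : M ∈ torG F ↔ IsRotG M := Iff.rfl

theorem mem_torGN (M : GL2) : M ∈ torGN F ↔ IsRotG M ∨ IsRefG M := Iff.rfl

theorem torG_le : torG F ≤ torGN F := fun M h => Or.inl h

end entries

end Cfsg.Agent.Lib.Helper6.GLS
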