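import Mathlib
import Cfsg.Agent.Lib.Helper6.SW1
import Cfsg.Agent.Lib.Helper6.GLS1
import Cfsg.Agent.Lib.Helper6.BW2

set_option autoImplicit false
set_option linter.unusedSectionVars false
set_option linter.unusedVariables false
set_option linter.unusedSimpArgs false

/-! Sylow subgroups of the kernel of a homomorphism to a commutative group, from a Sylow subgroup
of the whole group; reindexing of general linear groups; `SL_α → GL_β`. -/

namespace Cfsg.Agent.Lib.Helper6.KSec

open Matrix Cfsg.Agent.Lib.Helper6.SW Cfsg.Agent.Lib.Helper6.GLS Cfsg.Agent.Lib.Helper6.BW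
open scoped commutatorElement Pointwise

section transport

variable {G S Z : Type*} [Group G] [Finite G] [Group S] [CommGroup Z]

/-- if the intersection of one Sylow subgroup of `G` with the kernel of `δ` has `EA`, then so do
the Sylow subgroups of any group `S` embedded in `G` as that kernel -/
theorem EA_sylow_of_ker (p : ℕ) [Fact p.Prime] (ψ : S →* G) (hψ : Function.Injective ψ)
    (δ : G →* Z) (hrange : ψ.range = δ.ker) (P₀ : Sylow p G)
    (h : ∀ x ∈ (P₀ : Subgroup G) ⊓ δ.ker,
      x ^ 2 ∈ ⁅(P₀ : Subgroup G) ⊓ δ.ker, (P₀ : Subgroup G) ⊓ δ.ker⁆)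
    (P : Sylow p S) : EA ↥(P : Subgroup S) := by
  obtain ⟨R, hR⟩ := P.exists_comap_eq_of_injective hψ
  obtain ⟨g, hg⟩ := MulAction.exists_smul_eq G P₀ R
  have hRsub : (R : Subgroup G) = MulAut.conj g • (P₀ : Subgroup G) := by
    rw [← hg]
    rfl
  have h1 : EA ↥((P₀ : Subgroup G) ⊓ δ.ker) := EA_of_sq_mem _ h
  have h2 : MulAut.conj g • ((P₀ : Subgroup G) ⊓ δ.ker) = (R : Subgroup G) ⊓ δ.ker := by
    rw [Subgroup.smul_inf, ← hRsub]
    congr 1
    ext x
    rw [Subgroup.mem_pointwise_smul_iff_inv_smul_mem, MonoidHom.mem_ker, MonoidHom.mem_ker]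
    simp [MulAut.smul_def, map_mul]
  have h3 : EA ↥((R : Subgroup G) ⊓ δ.ker) := by
    rw [← h2]
    exact EA.of_mulEquiv (Subgroup.equivSMul (MulAut.conj g) ((P₀ : Subgroup G) ⊓ δ.ker)) h1
  have h4 : (P : Subgroup S).map ψ = δ.ker ⊓ (R : Subgroup G) := by
    rw [← hR, Subgroup.map_comap_eq, hrange]
  have h5 : EA ↥((P : Subgroup S).map ψ) := by
    rw [h4, inf_comm]
    exact h3
  exact EA.of_mulEquiv ((P : Subgroup S).equivMapOfInjective ψ hψ).symm h5

end transport

section reindex

variable {α β : Type*} [Fintype α] [DecidableEq α] [Fintype β] [DecidableEq β]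
variable (F : Type*) [Field F]

/-- reindexing of general linear groups -/
def glReindex (e : α ≃ β) : GL α F ≃* GL β F :=
  Units.mapEquiv (Matrix.reindexAlgEquiv F F e).toMulEquiv

theorem glReindex_val (e : α ≃ β) (g : GL α F) :
    (glReindex F e g).1 = Matrix.reindex e e g.1 := rfl

theorem det_glReindex (e : α ≃ β) (g : GL α F) :
    Matrix.GeneralLinearGroup.det (glReindex F e g) = Matrix.GeneralLinearGroup.det g := by
  apply Units.ext
  rw [Matrix.GeneralLinearGroup.val_det_apply, Matrix.GeneralLinearGroup.val_det_apply,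
    glReindex_val, Matrix.det_reindex_self]

theorem card_GL_eq (e : α ≃ β) : Nat.card (GL α F) = Nat.card (GL β F) :=
  Nat.card_congr (glReindex F e).toEquiv

/-- `SL_α(F) → GL_β(F)` along a reindexing -/
def slToGL (e : α ≃ β) : SpecialLinearGroup α F →* GL β F :=
  (SpecialLinearGroup.toGL).comp (slReindex F e).toMonoidHom

theorem slToGL_injective (e : α ≃ β) : Function.Injective (slToGL F e) :=
  SpecialLinearGroup.toGL_injective.comp (slReindex F e).injective

theorem range_slToGL (e : α ≃ β) :
    (slToGL F e).range = (Matrix.GeneralLinearGroup.det : GL β F →* Fˣ).ker := by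
  ext g
  rw [MonoidHom.mem_ker, MonoidHom.mem_range]
  constructor
  · rintro ⟨s, rfl⟩
    apply Units.ext
    rw [Matrix.GeneralLinearGroup.val_det_apply]
    exact (slReindex F e s).2
  · intro h
    have h1 : (g : Matrix β β F).det = 1 := by
      have := congrArg Units.val h
      simpa using this
    let s₀ : SpecialLinearGroup β F := ⟨g, h1⟩
    refine ⟨(slReindex F e).symm s₀, ?_⟩
    show SpecialLinearGroup.toGL (slReindex F e ((slReindex F e).symm s₀)) = g
    rw [MulEquiv.apply_symm_apply]
    exact Units.ext rfl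

end reindex

end Cfsg.Agent.Lib.Helper6.KSec
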