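import Mathlib
import Cfsg.Agent.Lib.Helper6.BW1
import Cfsg.Agent.Lib.Helper6.KSec2

set_option autoImplicit false
set_option linter.unusedSectionVars false
set_option linter.unusedVariables false
set_option linter.unusedSimpArgs false

/-! The diagonal matrices `diag(z, 1, …, 1)` in `GL_ι(F)`. -/

namespace Cfsg.Agent.Lib.Helper6.BW

open Matrix Cfsg.Agent.Lib.Helper6.KSec

section

variable {ι : Type*} [Fintype ι] [DecidableEq ι] (F : Type*) [Field F]

/-- the diagonal matrix with `z` at `i₀` and `1` elsewhere -/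
noncomputable def Dg (i₀ : ι) : Fˣ →* GL ι F :=
  (Units.map (Matrix.diagonalRingHom ι F).toMonoidHom).comp
    ((MulEquiv.piUnits (M := fun _ : ι => F)).symm.toMonoidHom.comp
      (MonoidHom.mulSingle (fun _ : ι => Fˣ) i₀))

theorem Dg_val (i₀ : ι) (z : Fˣ) :
    (Dg F i₀ z).1 = diagonal (fun i => ((Pi.mulSingle i₀ z : ι → Fˣ) i : F)) := rfl

theorem Dg_entry (i₀ : ι) (z : Fˣ) (i j : ι) :
    (Dg F i₀ z).1 i j = if i = j then (if i = i₀ then (z : F) else 1) else 0 := by
  rw [Dg_val, diagonal_apply]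
  by_cases hij : i = j
  · rw [if_pos hij, if_pos hij]
    by_cases hi : i = i₀
    · rw [if_pos hi, hi, Pi.mulSingle_eq_same]
    · rw [if_neg hi, Pi.mulSingle_eq_of_ne hi]
      rfl
  · rw [if_neg hij, if_neg hij]

theorem det_Dg (i₀ : ι) (z : Fˣ) : Matrix.GeneralLinearGroup.det (Dg F i₀ z) = z := by
  apply Units.ext
  rw [Matrix.GeneralLinearGroup.val_det_apply, Dg_val, det_diagonal,
    Finset.prod_eq_single i₀]
  · rw [Pi.mulSingle_eq_same]
  · intro l _ hl
    rw [Pi.mulSingle_eq_of_ne hl]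
    rfl
  · intro h
    exact absurd (Finset.mem_univ i₀) h

theorem Dg_commute (i₀ : ι) (z z' : Fˣ) : Commute (Dg F i₀ z) (Dg F i₀ z') := by
  show Dg F i₀ z * Dg F i₀ z' = Dg F i₀ z' * Dg F i₀ z
  rw [← map_mul, ← map_mul, mul_comm]

/-- in dimension one every matrix is of this form -/
theorem eq_Dg_of_card_one (h : Fintype.card ι = 1) (i₀ : ι) (x : GL ι F) :
    x = Dg F i₀ (Matrix.GeneralLinearGroup.det x) := by
  have hs : Subsingleton ι := Fintype.card_le_one_iff_subsingleton.mp (le_of_eq h)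
  apply Units.ext
  ext i j
  have hi : i = i₀ := Subsingleton.elim _ _
  have hj : j = i₀ := Subsingleton.elim _ _
  rw [Dg_entry, hi, hj, if_pos rfl, if_pos rfl, Matrix.GeneralLinearGroup.val_det_apply,
    det_eq_elem_of_subsingleton _ i₀]

theorem glReindex_Dg {ι' : Type*} [Fintype ι'] [DecidableEq ι'] (e : ι ≃ ι') (i₀ : ι) (z : Fˣ) :
    glReindex F e (Dg F i₀ z) = Dg F (e i₀) z := by
  apply Units.ext
  ext i j
  rw [glReindex_val, Matrix.reindex_apply, Matrix.submatrix_apply, Dg_entry, Dg_entry]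
  by_cases hij : i = j
  · rw [if_pos hij, if_pos (by rw [hij])]
    by_cases hi : i = e i₀
    · rw [if_pos hi, if_pos (by rw [hi]; simp)]
    · rw [if_neg hi, if_neg (fun hh => hi (by rw [← hh]; simp))]
  · rw [if_neg hij, if_neg (fun hh => hij (e.symm.injective hh))]

end

section block

variable (ι : Type*) [Fintype ι] [DecidableEq ι] (F : Type*) [Field F]

theorem bf₁_mulSingle_Dg (i₀ : ι) (z : Fˣ) :
    bf₁ ι (Fin 2) F (Pi.mulSingle 0 (Dg F i₀ z)) = Dg F (i₀, (0 : Fin 2)) z := by
  apply Units.ext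
  ext ⟨a, k⟩ ⟨b, l⟩
  rw [bf₁_val, blockDiagonal_apply, Dg_entry]
  by_cases hkl : k = l
  · subst hkl
    rw [if_pos rfl]
    by_cases hk : k = 0
    · subst hk
      rw [Pi.mulSingle_eq_same, Dg_entry]
      by_cases hab : a = b
      · subst hab
        rw [if_pos rfl, if_pos rfl]
        by_cases ha : a = i₀
        · rw [if_pos ha, if_pos (by rw [ha])]
        · rw [if_neg ha, if_neg (fun hh => ha (congrArg Prod.fst hh))]
      · rw [if_neg hab, if_neg (fun hh => hab (congrArg Prod.fst hh))]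
    · rw [Pi.mulSingle_eq_of_ne hk]
      by_cases hab : a = b
      · subst hab
        rw [if_pos rfl, if_neg (fun hh => hk (congrArg Prod.snd hh))]
        simp
      · rw [if_neg (fun hh => hab (congrArg Prod.fst hh))]
        simp [Matrix.one_apply_ne hab]
  · rw [if_neg hkl, if_neg (fun hh => hkl (congrArg Prod.snd hh))]

end block

end Cfsg.Agent.Lib.Helper6.BW
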