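import Mathlib

set_option autoImplicit false
set_option linter.unusedSectionVars false
set_option linter.unusedVariables false
set_option linter.unusedSimpArgs false

/-! The polynomial form of the Cauchy determinant identity, up to a sign. -/

namespace Cfsg.Agent.Lib.Helper6.Cau

open Finset Matrix

variable {R : Type*} [CommRing R] {n : ℕ}

/-- signed elementary symmetric sums over a finset -/
def esg (y : Fin n → R) (k : ℕ) (S : Finset (Fin n)) : R :=
  ∑ U ∈ S.powersetCard k, ∏ l ∈ U, (- y l)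

theorem prod_homog (y : Fin n → R) (S : Finset (Fin n)) (s t : R) :
    ∏ l ∈ S, (s - y l * t) = ∑ k ∈ range (S.card + 1), esg y k S * t ^ k * s ^ (S.card - k) := by
  have h1 : ∏ l ∈ S, (s - y l * t) = ∏ l ∈ S, ((- y l * t) + s) := by
    apply prod_congr rfl
    intro l _
    ring
  rw [h1, Finset.prod_add, Finset.sum_powerset]
  apply sum_congr rfl
  intro k hk
  unfold esg
  rw [sum_mul, sum_mul]
  apply sum_congr rfl
  intro U hU
  rw [mem_powersetCard] at hU
  rw [prod_mul_distrib, prod_const, prod_const, hU.2, card_sdiff_of_subset hU.1, hU.2]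

theorem prod_homog_erase (y : Fin n → R) (j : Fin n) (s t : R) :
    ∏ l ∈ univ.erase j, (s - y l * t) =
      ∑ k : Fin n, esg y k.val (univ.erase j) * t ^ k.val * s ^ (n - 1 - k.val) := by
  rw [prod_homog]
  have hc : (univ.erase j : Finset (Fin n)).card = n - 1 := by
    rw [card_erase_of_mem (mem_univ j), card_univ, Fintype.card_fin]
  have hn : 0 < n := Fin.pos j
  rw [hc, show n - 1 + 1 = n by omega]
  exact (Fin.sum_univ_eq_sum_range
    (fun k => esg y k (univ.erase j) * t ^ k * s ^ (n - 1 - k)) n).symm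

/-- the coefficient matrix -/
def cmat (y : Fin n → R) : Matrix (Fin n) (Fin n) R :=
  Matrix.of fun k j => esg y k.val (univ.erase j)

/-- the matrix of partial products -/
def pmat (x y : Fin n → R) : Matrix (Fin n) (Fin n) R :=
  Matrix.of fun i j => ∏ l ∈ univ.erase j, (1 - x i * y l)

theorem pmat_eq (x y : Fin n → R) : pmat x y = vandermonde x * cmat y := by
  ext i j
  rw [Matrix.mul_apply]
  show ∏ l ∈ univ.erase j, (1 - x i * y l) = _
  have h1 : ∏ l ∈ univ.erase j, (1 - x i * y l) = ∏ l ∈ univ.erase j, (1 - y l * x i) := by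
    apply prod_congr rfl
    intro l _
    ring
  rw [h1, prod_homog_erase]
  apply sum_congr rfl
  intro k _
  rw [vandermonde_apply]
  show _ = x i ^ k.val * esg y k.val (univ.erase j)
  rw [one_pow]
  ring

/-- the reversed Vandermonde matrix -/
def wmat (y : Fin n → R) : Matrix (Fin n) (Fin n) R :=
  (vandermonde y).submatrix id (Fin.revPerm)

theorem wmat_mul (y : Fin n → R) :
    wmat y * cmat y = Matrix.diagonal (fun j => ∏ l ∈ univ.erase j, (y j - y l)) := by
  ext m j
  rw [Matrix.mul_apply]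
  have h2 := prod_homog_erase y j (y m) 1
  have h3 : ∑ k : Fin n, wmat y m k * cmat y k j = ∏ l ∈ univ.erase j, (y m - y l * 1) := by
    rw [h2]
    apply sum_congr rfl
    intro k _
    show (y m) ^ ((Fin.revPerm k : Fin n) : ℕ) * esg y k.val (univ.erase j) = _
    rw [one_pow, Fin.revPerm_apply, Fin.val_rev]
    have : n - (k.val + 1) = n - 1 - k.val := by omega
    rw [this]
    ring
  rw [h3]
  by_cases hmj : m = j
  · subst hmj
    rw [Matrix.diagonal_apply_eq]
    apply prod_congr rfl
    intro l _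
    rw [mul_one]
  · rw [Matrix.diagonal_apply_ne _ hmj]
    apply prod_eq_zero (mem_erase.mpr ⟨hmj, mem_univ m⟩)
    ring

theorem prod_prod_erase (y : Fin n → R) :
    ∃ ε : R, (ε = 1 ∨ ε = -1) ∧
      ∏ j : Fin n, ∏ l ∈ univ.erase j, (y j - y l) =
        ε * (det (vandermonde y) * det (vandermonde y)) := by
  have hsplit : ∀ j : Fin n, ∏ l ∈ univ.erase j, (y j - y l) =
      (∏ l ∈ Iio j, (y j - y l)) * ∏ l ∈ Ioi j, (y j - y l) := by
    intro j
    have hd : Disjoint (Iio j) (Ioi j) := by
      rw [disjoint_left]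
      intro a ha hb
      rw [mem_Iio] at ha
      rw [mem_Ioi] at hb
      exact absurd ha (not_lt.mpr hb.le)
    rw [← prod_union hd]
    apply prod_congr _ (fun _ _ => rfl)
    ext a
    simp only [mem_erase, mem_univ, and_true, mem_union, mem_Iio, mem_Ioi]
    exact lt_or_lt_iff_ne.symm
  have h1 : ∏ j : Fin n, ∏ l ∈ Iio j, (y j - y l) = det (vandermonde y) := by
    rw [det_vandermonde]
    rw [Finset.prod_sigma', Finset.prod_sigma']
    apply Finset.prod_bij' (fun p _ => (⟨p.2, p.1⟩ : (_ : Fin n) × Fin n))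
      (fun p _ => (⟨p.2, p.1⟩ : (_ : Fin n) × Fin n))
    · intro p hp
      simp only [mem_sigma, mem_univ, mem_Iio, mem_Ioi, true_and] at hp ⊢
      exact hp
    · intro p hp
      simp only [mem_sigma, mem_univ, mem_Iio, mem_Ioi, true_and] at hp ⊢
      exact hp
    · intro p _
      rfl
    · intro p _
      rfl
    · intro p _
      rfl
  have h2 : ∏ j : Fin n, ∏ l ∈ Ioi j, (y j - y l) =
      (∏ j : Fin n, ∏ l ∈ Ioi j, (-1 : R)) * det (vandermonde y) := by
    rw [det_vandermonde, ← prod_mul_distrib]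
    apply prod_congr rfl
    intro j _
    rw [← prod_mul_distrib]
    apply prod_congr rfl
    intro l _
    ring
  have h3 : ∃ k : ℕ, (∏ j : Fin n, ∏ l ∈ Ioi j, (-1 : R)) = (-1) ^ k := by
    refine ⟨∑ j : Fin n, (Ioi j).card, ?_⟩
    rw [← prod_pow_eq_pow_sum]
    apply prod_congr rfl
    intro j _
    rw [prod_const]
  obtain ⟨k, hk⟩ := h3
  refine ⟨(-1) ^ k, neg_one_pow_eq_or R k, ?_⟩
  rw [prod_congr rfl (fun j _ => hsplit j), prod_mul_distrib, h1, h2, hk]
  ring

/-- the Cauchy determinant identity in polynomial form, up to a sign -/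
theorem det_pmat [IsDomain R] (x y : Fin n → R) (hy : Function.Injective y) :
    ∃ ε : R, (ε = 1 ∨ ε = -1) ∧
      det (pmat x y) = ε * det (vandermonde x) * det (vandermonde y) := by
  have hV : det (vandermonde y) ≠ 0 := det_vandermonde_ne_zero_iff.mpr hy
  obtain ⟨ε₂, hε₂, h2⟩ := prod_prod_erase y
  have hW : det (wmat y) = ((Equiv.Perm.sign (Fin.revPerm : Equiv.Perm (Fin n)) : ℤ) : R) *
      det (vandermonde y) := by
    unfold wmat
    rw [Matrix.det_permute']
  have hsign : ∃ ε₁ : R, (ε₁ = 1 ∨ ε₁ = -1) ∧ det (wmat y) = ε₁ * det (vandermonde y) := by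
    refine ⟨((Equiv.Perm.sign (Fin.revPerm : Equiv.Perm (Fin n)) : ℤ) : R), ?_, hW⟩
    rcases Int.units_eq_one_or (Equiv.Perm.sign (Fin.revPerm : Equiv.Perm (Fin n))) with h | h
    · left
      rw [h]
      simp
    · right
      rw [h]
      simp
  obtain ⟨ε₁, hε₁, h1⟩ := hsign
  have h3 : det (wmat y) * det (cmat y) = ε₂ * (det (vandermonde y) * det (vandermonde y)) := by
    rw [← Matrix.det_mul, wmat_mul, Matrix.det_diagonal, h2]
  rw [h1] at h3
  have h4 : det (vandermonde y) * (ε₁ * det (cmat y)) =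
      det (vandermonde y) * (ε₂ * det (vandermonde y)) := by
    linear_combination h3
  have h5 := mul_left_cancel₀ hV h4
  have hsq : ε₁ * ε₁ = 1 := by
    rcases hε₁ with h | h <;> rw [h] <;> ring
  have h6 : det (cmat y) = ε₁ * ε₂ * det (vandermonde y) := by
    calc det (cmat y) = ε₁ * ε₁ * det (cmat y) := by rw [hsq, one_mul]
      _ = ε₁ * (ε₁ * det (cmat y)) := by ring
      _ = ε₁ * (ε₂ * det (vandermonde y)) := by rw [h5]
      _ = ε₁ * ε₂ * det (vandermonde y) := by ring
  refine ⟨ε₁ * ε₂, ?_, ?_⟩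
  · rcases hε₁ with h | h <;> rcases hε₂ with h' | h' <;> rw [h, h'] <;> simp
  · rw [pmat_eq, Matrix.det_mul, h6]
    ring

end Cfsg.Agent.Lib.Helper6.Cau
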