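import Mathlib

set_option autoImplicit false
set_option linter.unusedSectionVars false
set_option linter.unusedVariables false
set_option linter.unusedSimpArgs false

/-! Geometric series in several variables and the coefficients of their products. -/

namespace Cfsg.Agent.Lib.Helper6.Cau

open Finset

section geom

variable {σ : Type*}

open scoped Classical in
/-- the geometric series `∑ k, (monomial e)^k` -/
noncomputable def geom (e : σ →₀ ℕ) : MvPowerSeries σ ℤ :=
  fun d => if ∃ k : ℕ, d = k • e then 1 else 0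

open scoped Classical in
theorem coeff_geom (e d : σ →₀ ℕ) :
    MvPowerSeries.coeff d (geom e) = if ∃ k : ℕ, d = k • e then 1 else 0 := rfl

/-- the monomial with coefficient one -/
noncomputable def mono (a : σ →₀ ℕ) : MvPowerSeries σ ℤ := MvPowerSeries.monomial a 1

theorem mono_zero : mono (0 : σ →₀ ℕ) = 1 := rfl

theorem mono_add (a b : σ →₀ ℕ) : mono (a + b) = mono a * mono b := by
  unfold mono
  rw [MvPowerSeries.monomial_mul_monomial, one_mul]

theorem mono_sum {ι : Type*} (s : Finset ι) (a : ι → (σ →₀ ℕ)) :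
    mono (∑ i ∈ s, a i) = ∏ i ∈ s, mono (a i) := by
  classical
  induction s using Finset.induction_on with
  | empty => rw [sum_empty, prod_empty, mono_zero]
  | insert i s hi ih => rw [sum_insert hi, prod_insert hi, mono_add, ih]

theorem coeff_mono_mul (a d : σ →₀ ℕ) (φ : MvPowerSeries σ ℤ) :
    MvPowerSeries.coeff d (mono a * φ) = if a ≤ d then MvPowerSeries.coeff (d - a) φ else 0 := by
  unfold mono
  rw [MvPowerSeries.coeff_monomial_mul, one_mul]

theorem one_sub_mono_mul_geom (e : σ →₀ ℕ) (he : e ≠ 0) : (1 - mono e) * geom e = 1 := by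
  classical
  ext d
  rw [sub_mul, one_mul, map_sub, coeff_mono_mul, coeff_geom, MvPowerSeries.coeff_one]
  by_cases hd : d = 0
  · subst hd
    have h1 : ∃ k : ℕ, (0 : σ →₀ ℕ) = k • e := ⟨0, by rw [zero_smul]⟩
    have h2 : ¬ e ≤ 0 := by
      intro h
      exact he (le_antisymm h (by simp))
    rw [if_pos h1, if_neg h2, if_pos rfl, sub_zero]
  · rw [if_neg hd]
    by_cases hk : ∃ k : ℕ, d = k • e
    · obtain ⟨k, rfl⟩ := hk
      have hk0 : k ≠ 0 := by
        rintro rfl
        exact hd (zero_smul _ _)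
      obtain ⟨k', rfl⟩ := Nat.exists_eq_succ_of_ne_zero hk0
      have hle : e ≤ (k' + 1) • e := by
        rw [succ_nsmul]
        exact le_add_self
      have hsub : (k' + 1) • e - e = k' • e := by
        rw [succ_nsmul]
        exact add_tsub_cancel_right _ _
      have h3 : ∃ k : ℕ, (k' + 1) • e = k • e := ⟨k' + 1, rfl⟩
      have h4 : ∃ k : ℕ, k' • e = k • e := ⟨k', rfl⟩
      rw [if_pos h3, if_pos hle, coeff_geom, hsub, if_pos h4, sub_self]
    · rw [if_neg hk]
      by_cases hle : e ≤ d
      · rw [if_pos hle, coeff_geom]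
        have : ¬ ∃ k : ℕ, d - e = k • e := by
          rintro ⟨k, hk'⟩
          apply hk
          refine ⟨k + 1, ?_⟩
          rw [succ_nsmul, ← hk']
          exact (tsub_add_cancel_of_le hle).symm
        rw [if_neg this, sub_zero]
      · rw [if_neg hle, sub_zero]

end geom

section count

variable {σ : Type*} {ι : Type*} [Fintype ι]

theorem nsmul_injective_of_ne_zero (e : σ →₀ ℕ) (he : e ≠ 0) {k k' : ℕ} (h : k • e = k' • e) :
    k = k' := by
  obtain ⟨a, ha⟩ : ∃ a, e a ≠ 0 := by
    by_contra hno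
    push Not at hno
    exact he (Finsupp.ext hno)
  have := DFunLike.congr_fun h a
  rw [Finsupp.smul_apply, Finsupp.smul_apply, smul_eq_mul, smul_eq_mul] at this
  exact Nat.eq_of_mul_eq_mul_right (Nat.pos_of_ne_zero ha) this

/-- the coefficients of a product of geometric series count the representations of the exponent -/
theorem coeff_prod_geom (e : ι → (σ →₀ ℕ)) (he : ∀ i, e i ≠ 0) (d : σ →₀ ℕ) :
    MvPowerSeries.coeff d (∏ i, geom (e i)) =
      (Nat.card {K : ι → ℕ // ∑ i, K i • e i = d} : ℤ) := by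
  classical
  rw [MvPowerSeries.coeff_prod]
  have h1 : ∀ l ∈ finsuppAntidiag (univ : Finset ι) d,
      ∏ i, MvPowerSeries.coeff (l i) (geom (e i)) =
        if ∀ i, ∃ k : ℕ, l i = k • e i then (1 : ℤ) else 0 := by
    intro l _
    rw [Finset.prod_congr rfl (fun i _ => coeff_geom (e i) (l i)), Finset.prod_boole]
    simp only [mem_univ, forall_true_left]
  rw [Finset.sum_congr rfl h1, Finset.sum_boole]
  congr 1
  rw [← Fintype.card_coe, ← Nat.card_eq_fintype_card]
  symm
  let Ψ : {K : ι → ℕ // ∑ i, K i • e i = d} →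
      {l // l ∈ (finsuppAntidiag (univ : Finset ι) d).filter
        (fun l => ∀ i, ∃ k : ℕ, l i = k • e i)} := fun K =>
    ⟨Finsupp.equivFunOnFinite.symm (fun i => K.1 i • e i), by
      rw [mem_filter, mem_finsuppAntidiag]
      refine ⟨⟨?_, subset_univ _⟩, ?_⟩
      · exact K.2
      · intro i
        exact ⟨K.1 i, rfl⟩⟩
  apply Nat.card_eq_of_bijective Ψ
  constructor
  · rintro ⟨K, hK⟩ ⟨K', hK'⟩ h
    apply Subtype.ext
    funext i
    have h2 := congrArg (fun l : {l // l ∈ (finsuppAntidiag (univ : Finset ι) d).filter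
        (fun l => ∀ i, ∃ k : ℕ, l i = k • e i)} => (l.1 : ι →₀ (σ →₀ ℕ)) i) h
    exact nsmul_injective_of_ne_zero (e i) (he i) h2
  · rintro ⟨l, hl⟩
    rw [mem_filter, mem_finsuppAntidiag] at hl
    obtain ⟨⟨hsum, _⟩, hk⟩ := hl
    choose K hK using hk
    refine ⟨⟨K, ?_⟩, ?_⟩
    · rw [← hsum]
      apply Finset.sum_congr rfl
      intro i _
      exact (hK i).symm
    · apply Subtype.ext
      apply Finsupp.ext
      intro i
      exact (hK i).symm

end count

end Cfsg.Agent.Lib.Helper6.Cau
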