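import Mathlib

set_option autoImplicit false
set_option linter.unusedSectionVars false
set_option linter.unusedVariables false
set_option linter.unusedSimpArgs false

/-! Labelings of a finite set: fibre cardinalities, permutations matching labelings, joint tables
of two labelings twisted by a permutation. -/

namespace Cfsg.Agent.Lib.Helper6.Flg

section fibers

variable {X : Type*} [Fintype X] [DecidableEq X] {L : Type*} [DecidableEq L]

/-- the size of the fibre of `f` over `l` -/
def fiberCard (f : X → L) (l : L) : ℕ := (Finset.univ.filter (fun x => f x = l)).card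

theorem fiberCard_eq_card (f : X → L) (l : L) :
    fiberCard f l = Fintype.card {x // f x = l} := by
  rw [fiberCard, Fintype.card_subtype]

theorem fiberCard_comp_perm (f : X → L) (τ : Equiv.Perm X) (l : L) :
    fiberCard (f ∘ τ) l = fiberCard f l := by
  unfold fiberCard
  apply Finset.card_bij (fun x _ => τ x)
  · intro x hx
    simpa using hx
  · intro x _ y _ h
    exact τ.injective h
  · intro y hy
    refine ⟨τ.symm y, ?_, by simp⟩
    simpa using hy

/-- labelings with the same fibre sizes differ by a permutation -/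
theorem exists_perm_of_fiberCard_eq (f f' : X → L) (h : ∀ l, fiberCard f l = fiberCard f' l) :
    ∃ τ : Equiv.Perm X, f' = f ∘ τ := by
  have e : ∀ l : L, {x // f' x = l} ≃ {x // f x = l} := fun l =>
    Fintype.equivOfCardEq (by rw [← fiberCard_eq_card, ← fiberCard_eq_card, h l])
  let τ : Equiv.Perm X :=
    (Equiv.sigmaFiberEquiv f').symm.trans ((Equiv.sigmaCongrRight e).trans (Equiv.sigmaFiberEquiv f))
  refine ⟨τ, ?_⟩
  funext x
  have h1 : τ x = ((e (f' x)) ⟨x, rfl⟩ : X) := rfl
  show f' x = f (τ x)
  rw [h1]
  exact ((e (f' x)) ⟨x, rfl⟩).2.symm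

theorem sum_fiberCard (f : X → L) (S : Finset L) (hS : ∀ x, f x ∈ S) :
    ∑ l ∈ S, fiberCard f l = Fintype.card X := by
  unfold fiberCard
  rw [← Finset.card_univ, Finset.card_eq_sum_card_fiberwise (f := f) (s := Finset.univ) (t := S)
    (fun x _ => hS x)]

/-- a labeling with prescribed fibre sizes -/
theorem exists_fiberCard_eq (T : L → ℕ) (S : Finset L) (hS : ∀ l, l ∉ S → T l = 0)
    (hsum : ∑ l ∈ S, T l = Fintype.card X) : ∃ Φ : X → L, ∀ l, fiberCard Φ l = T l := by
  have hc : Fintype.card X = Fintype.card (Σ l : ↥S, Fin (T l)) := by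
    rw [Fintype.card_sigma, ← hsum, ← Finset.sum_coe_sort S T]
    simp
  let e : X ≃ Σ l : ↥S, Fin (T l) := Fintype.equivOfCardEq hc
  refine ⟨fun x => ((e x).1 : L), ?_⟩
  intro l
  rw [fiberCard_eq_card]
  have h1 : Fintype.card {x // ((e x).1 : L) = l} =
      Fintype.card {s : Σ l : ↥S, Fin (T l) // (s.1 : L) = l} :=
    Fintype.card_congr (e.subtypeEquiv (fun x => Iff.rfl))
  rw [h1]
  by_cases hl : l ∈ S
  · have e2 : {s : Σ l : ↥S, Fin (T l) // (s.1 : L) = l} ≃
        {s : Σ l : ↥S, Fin (T l) // s.1 = ⟨l, hl⟩} :=
      Equiv.subtypeEquivRight (fun s => by rw [Subtype.ext_iff])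
    rw [Fintype.card_congr (e2.trans (Equiv.sigmaSubtype (⟨l, hl⟩ : ↥S))), Fintype.card_fin]
  · rw [hS l hl, Fintype.card_eq_zero_iff]
    constructor
    rintro ⟨s, hs⟩
    exact hl (hs ▸ s.1.2)

end fibers

section ranges

variable {A B C : Type*}

/-- functions with the same kernel have ranges of the same size -/
theorem card_range_eq_of_iff (f : A → B) (g : A → C) (h : ∀ w w', f w = f w' ↔ g w = g w') :
    Nat.card (Set.range f) = Nat.card (Set.range g) := by
  have hk : Setoid.ker f = Setoid.ker g := by
    ext w w'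
    exact h w w'
  rw [← Nat.card_congr (Setoid.quotientKerEquivRange f), ← Nat.card_congr (Setoid.quotientKerEquivRange g), hk]

end ranges

section tables

variable {X : Type*} [Fintype X] [DecidableEq X] (a b : X → ℕ)

/-- the permutations preserving a labeling -/
def lstab (a : X → ℕ) : Subgroup (Equiv.Perm X) where
  carrier := {σ | ∀ x, a (σ x) = a x}
  mul_mem' := by
    intro s t hs ht x
    show a (s (t x)) = a x
    rw [hs, ht]
  one_mem' := fun _ => rfl
  inv_mem' := by
    intro s hs x
    have h := hs (s⁻¹ x)
    have e : s (s⁻¹ x) = x := by simp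
    rw [e] at h
    exact h.symm

theorem mem_lstab (s : Equiv.Perm X) : s ∈ lstab a ↔ ∀ x, a (s x) = a x := Iff.rfl

/-- the pair of labels of `y`, the first one twisted by `w` -/
def jointLabel (w : Equiv.Perm X) : X → ℕ × ℕ := fun y => (a (w y), b y)

/-- the table of joint fibre sizes -/
def table (w : Equiv.Perm X) : ℕ × ℕ → ℕ := fiberCard (jointLabel a b w)

/-- the table of corner sums -/
def cs (w : Equiv.Perm X) : ℕ × ℕ → ℕ := fun p =>
  (Finset.univ.filter (fun y => p.1 ≤ a (w y) ∧ b y ≤ p.2)).card

theorem jointLabel_mul (w s s' : Equiv.Perm X) (hs : s ∈ lstab a) (hs' : s' ∈ lstab b) :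
    jointLabel a b (s * w * s') = jointLabel a b w ∘ s' := by
  funext y
  show (a (s (w (s' y))), b y) = (a (w (s' y)), b (s' y))
  rw [hs, hs']

theorem table_mul (w s s' : Equiv.Perm X) (hs : s ∈ lstab a) (hs' : s' ∈ lstab b) :
    table a b (s * w * s') = table a b w := by
  funext p
  unfold table
  rw [jointLabel_mul a b w s s' hs hs', fiberCard_comp_perm]

theorem cs_mul (w s s' : Equiv.Perm X) (hs : s ∈ lstab a) (hs' : s' ∈ lstab b) :
    cs a b (s * w * s') = cs a b w := by
  funext p
  unfold cs
  apply Finset.card_bij (fun y _ => s' y)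
  · intro y hy
    simp only [Finset.mem_filter, Finset.mem_univ, true_and] at hy ⊢
    have h1 : a ((s * w * s') y) = a (w (s' y)) := hs _
    rw [h1] at hy
    rw [hs' y]
    exact hy
  · intro x _ y _ h
    exact s'.injective h
  · intro y hy
    refine ⟨s'.symm y, ?_, by simp⟩
    simp only [Finset.mem_filter, Finset.mem_univ, true_and] at hy ⊢
    have h1 : a ((s * w * s') (s'.symm y)) = a (w y) := by
      have : (s * w * s') (s'.symm y) = s (w y) := by simp
      rw [this]
      exact hs _
    have h2 : b (s'.symm y) = b y := by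
      have := hs' (s'.symm y)
      rw [Equiv.apply_symm_apply] at this
      exact this.symm
    rw [h1, h2]
    exact hy

/-- equal tables: the permutations lie in the same double coset -/
theorem exists_of_table_eq (w w' : Equiv.Perm X) (h : table a b w = table a b w') :
    ∃ s ∈ lstab a, ∃ s' ∈ lstab b, w' = s * w * s' := by
  obtain ⟨τ, hτ⟩ := exists_perm_of_fiberCard_eq (jointLabel a b w) (jointLabel a b w')
    (fun l => congrFun h l)
  have h1 : ∀ y, a (w' y) = a (w (τ y)) := fun y => congrArg Prod.fst (congrFun hτ y)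
  have h2 : ∀ y, b y = b (τ y) := fun y => congrArg Prod.snd (congrFun hτ y)
  refine ⟨w' * τ⁻¹ * w⁻¹, ?_, τ, fun y => (h2 y).symm, ?_⟩
  · intro z
    show a (w' (τ⁻¹ (w⁻¹ z))) = a z
    rw [h1]
    simp
  · simp [mul_assoc]

theorem table_eq_iff (w w' : Equiv.Perm X) :
    table a b w = table a b w' ↔ ∃ s ∈ lstab a, ∃ s' ∈ lstab b, w' = s * w * s' := by
  constructor
  · exact exists_of_table_eq a b w w'
  · rintro ⟨s, hs, s', hs', rfl⟩
    exact (table_mul a b w s s' hs hs').symm

/-- the corner sums determine the table -/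
theorem table_eq_of_cs_eq (w w' : Equiv.Perm X) (h : cs a b w = cs a b w') :
    table a b w = table a b w' := by
  classical
  -- first differences
  have hD : ∀ (v : Equiv.Perm X) (i j : ℕ),
      cs a b v (i, j) = (Finset.univ.filter (fun y => a (v y) = i ∧ b y ≤ j)).card +
        cs a b v (i + 1, j) := by
    intro v i j
    unfold cs
    rw [← Finset.card_union_of_disjoint]
    · congr 1
      ext y
      simp only [Finset.mem_filter, Finset.mem_univ, true_and, Finset.mem_union]
      omega
    · rw [Finset.disjoint_left]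
      intro y hy hy'
      simp only [Finset.mem_filter, Finset.mem_univ, true_and] at hy hy'
      omega
  have hD1 : ∀ (i j : ℕ), (Finset.univ.filter (fun y => a (w y) = i ∧ b y ≤ j)).card =
      (Finset.univ.filter (fun y => a (w' y) = i ∧ b y ≤ j)).card := by
    intro i j
    have e1 := hD w i j
    have e2 := hD w' i j
    rw [h] at e1
    have e3 : cs a b w (i + 1, j) = cs a b w' (i + 1, j) := by rw [h]
    omega
  have hT : ∀ (v : Equiv.Perm X) (i j : ℕ),
      (Finset.univ.filter (fun y => a (v y) = i ∧ b y ≤ j + 1)).card =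
        table a b v (i, j + 1) +
          (Finset.univ.filter (fun y => a (v y) = i ∧ b y ≤ j)).card := by
    intro v i j
    unfold table fiberCard jointLabel
    rw [← Finset.card_union_of_disjoint]
    · congr 1
      ext y
      simp only [Finset.mem_filter, Finset.mem_univ, true_and, Finset.mem_union, Prod.mk.injEq]
      omega
    · rw [Finset.disjoint_left]
      intro y hy hy'
      simp only [Finset.mem_filter, Finset.mem_univ, true_and, Prod.mk.injEq] at hy hy'
      omega
  have hT0 : ∀ (v : Equiv.Perm X) (i : ℕ),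
      (Finset.univ.filter (fun y => a (v y) = i ∧ b y ≤ 0)).card = table a b v (i, 0) := by
    intro v i
    unfold table fiberCard jointLabel
    congr 1
    ext y
    simp only [Finset.mem_filter, Finset.mem_univ, true_and, Prod.mk.injEq]
    omega
  funext ⟨i, j⟩
  cases j with
  | zero => rw [← hT0, ← hT0, hD1]
  | succ j =>
    have e1 := hT w i j
    have e2 := hT w' i j
    rw [hD1 i (j + 1), hD1 i j] at e1
    omega

theorem cs_eq_iff (w w' : Equiv.Perm X) :
    cs a b w = cs a b w' ↔ table a b w = table a b w' := by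
  constructor
  · exact table_eq_of_cs_eq a b w w'
  · intro h
    obtain ⟨s, hs, s', hs', rfl⟩ := exists_of_table_eq a b w w' h
    exact (cs_mul a b w s s' hs hs').symm

end tables

end Cfsg.Agent.Lib.Helper6.Flg
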