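import Mathlib

/-!
# Counting linearly independent tuples adapted to a descending chain of subspaces
-/

set_option autoImplicit false

namespace Cfsg.Agent.Lib.Helper6.FlagCount

open Module

section count

variable {K V : Type*} [Field K] [AddCommGroup V] [Module K V]

/-- linearly independent `k`-tuples whose `j`-th entry lies in `W j` -/
def Adapted (W : ℕ → Submodule K V) (k : ℕ) : Type _ :=
  {s : Fin k → V // LinearIndependent K s ∧ ∀ j : Fin k, s j ∈ W j.val}

instance [Finite V] (W : ℕ → Submodule K V) (k : ℕ) : Finite (Adapted W k) := by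
  unfold Adapted; infer_instance

/-- peel off the first vector -/
def stepEquiv (W : ℕ → Submodule K V) (k : ℕ) :
    Adapted W (k + 1) ≃ Σ t : Adapted (fun i => W (i + 1)) k,
      {v : V // v ∈ W 0 ∧ v ∉ Submodule.span K (Set.range t.1)} where
  toFun s := ⟨⟨Fin.tail s.1, (linearIndependent_finSucc.mp s.2.1).1, fun j => s.2.2 j.succ⟩,
    ⟨s.1 0, s.2.2 0, (linearIndependent_finSucc.mp s.2.1).2⟩⟩
  invFun x := ⟨Fin.cons x.2.1 x.1.1, linearIndependent_finCons.mpr ⟨x.1.2.1, x.2.2.2⟩, by
    intro j
    refine Fin.cases ?_ (fun i => ?_) j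
    · simpa using x.2.2.1
    · simpa using x.1.2.2 i⟩
  left_inv s := by
    apply Subtype.ext
    simp only [Fin.cons_self_tail]
  right_inv := fun ⟨⟨t, ht⟩, ⟨v, hv⟩⟩ => by
    refine Sigma.ext (Subtype.ext ?_) ?_
    · exact Fin.tail_cons (α := fun _ => V) v t
    · apply (Subtype.heq_iff_coe_eq ?_).2
      · simp
      · intro x
        simp only [Fin.tail_cons]

variable [Fintype K] [Finite V]

lemma card_step (W : ℕ → Submodule K V) (k : ℕ) (t : Adapted (fun i => W (i + 1)) k)
    (hle : Submodule.span K (Set.range t.1) ≤ W 0) :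
    Nat.card {v : V // v ∈ W 0 ∧ v ∉ Submodule.span K (Set.range t.1)}
      = Nat.card (W 0) - Fintype.card K ^ k := by
  have h1 : Nat.card {v : V // v ∈ W 0 ∧ v ∉ Submodule.span K (Set.range t.1)}
      = (((W 0 : Submodule K V) : Set V) \ (Submodule.span K (Set.range t.1) : Set V)).ncard := by
    rw [← Nat.card_coe_set_eq]
    rfl
  rw [h1, Set.ncard_sdiff (by exact hle) (Set.toFinite _)]
  congr 1
  rw [← Nat.card_coe_set_eq]
  change Nat.card (Submodule.span K (Set.range t.1)) = _
  rw [Module.natCard_eq_pow_finrank (K := K), finrank_span_eq_card t.2.1, Fintype.card_fin,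
    Nat.card_eq_fintype_card]

theorem card_adapted (k : ℕ) : ∀ (W : ℕ → Submodule K V), (∀ j, j + 1 < k → W (j + 1) ≤ W j) →
    Nat.card (Adapted W k)
      = ∏ j : Fin k, (Nat.card (W j.val) - Fintype.card K ^ (k - 1 - j.val)) := by
  induction k with
  | zero =>
    intro W _
    have : Unique (Adapted W 0) := by
      refine ⟨⟨⟨fun i => i.elim0, ?_, fun j => j.elim0⟩⟩, fun s => ?_⟩
      · exact linearIndependent_empty_type
      · apply Subtype.ext
        funext i
        exact i.elim0
    simp
  | succ k ih =>
    intro W hW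
    have hchain : ∀ j, j < k + 1 → W j ≤ W 0 := by
      intro j
      induction j with
      | zero => intro _; exact le_rfl
      | succ j ihj =>
        intro hj
        exact (hW j hj).trans (ihj (by omega))
    have ih' := ih (fun i => W (i + 1)) (fun j hj => hW (j + 1) (by omega))
    classical
    let _ : Fintype (Adapted (fun i => W (i + 1)) k) := Fintype.ofFinite _
    rw [Nat.card_congr (stepEquiv W k), Nat.card_sigma]
    have hconst : ∀ t : Adapted (fun i => W (i + 1)) k,
        Nat.card {v : V // v ∈ W 0 ∧ v ∉ Submodule.span K (Set.range t.1)}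
          = Nat.card (W 0) - Fintype.card K ^ k := by
      intro t
      apply card_step
      rw [Submodule.span_le]
      rintro _ ⟨j, rfl⟩
      exact hchain (j.val + 1) (by omega) (t.2.2 j)
    rw [Finset.sum_congr rfl (fun t _ => hconst t), Finset.sum_const, Finset.card_univ,
      smul_eq_mul, ← Nat.card_eq_fintype_card, ih', Fin.prod_univ_succ, mul_comm]
    congr 1
    apply Finset.prod_congr rfl
    intro j _
    simp only [Fin.val_succ]
    congr 2
    omega

end count

end Cfsg.Agent.Lib.Helper6.FlagCount
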