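import Mathlib
import Cfsg.Prelude.Def_LinearParabolics
import Cfsg.Agent.Lib.Helper6.FlagCount

/-!
# The order of a block triangular subgroup of `GL_n(q)`
-/

set_option autoImplicit false

namespace Cfsg.Agent.Lib.Helper6.ParabolicCard

open Cfsg.Agent.Lib.Helper6.FlagCount

variable {F : Type*} [Field F] {n : ℕ}

/-- rows allowed in position `i` of a block triangular matrix -/
def rowSpace (F : Type*) [Field F] {n : ℕ} (b : Fin n → ℕ) (i : ℕ) : Submodule F (Fin n → F) where
  carrier := {v | ∀ j i' : Fin n, i'.val = i → b j < b i' → v j = 0}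
  add_mem' := by
    intro u v hu hv j i' h1 h2
    simp [hu j i' h1 h2, hv j i' h1 h2]
  zero_mem' := by intro j i' _ _; rfl
  smul_mem' := by
    intro c v hv j i' h1 h2
    simp [hv j i' h1 h2]

lemma mem_rowSpace (b : Fin n → ℕ) (i : Fin n) (v : Fin n → F) :
    v ∈ rowSpace F b i.val ↔ ∀ j, b j < b i → v j = 0 := by
  constructor
  · intro h j hj
    exact h j i rfl hj
  · intro h j i' hi' hj
    have : i' = i := Fin.ext hi'
    subst this
    exact h j hj

/-- coordinates of a row space -/
def rowSpaceEquiv (b : Fin n → ℕ) (i : Fin n) :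
    rowSpace F b i.val ≃ ({j : Fin n // b i ≤ b j} → F) where
  toFun v := fun j => v.1 j.1
  invFun f := ⟨fun j => if h : b i ≤ b j then f ⟨j, h⟩ else 0, by
    rw [mem_rowSpace]
    intro j hj
    simp [not_le.2 hj]⟩
  left_inv v := by
    apply Subtype.ext
    funext j
    by_cases h : b i ≤ b j
    · simp [h]
    · simp only [h, dite_false]
      exact ((mem_rowSpace b i v.1).1 v.2 j (not_le.1 h)).symm
  right_inv f := by
    funext j
    simp [j.2]

lemma card_rowSpace [Fintype F] (b : Fin n → ℕ) (i : Fin n) :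
    Nat.card (rowSpace F b i.val)
      = Fintype.card F ^ (Finset.univ.filter fun j : Fin n => b i ≤ b j).card := by
  rw [Nat.card_congr (rowSpaceEquiv b i), Nat.card_fun, Nat.card_eq_fintype_card,
    Nat.card_eq_fintype_card, Fintype.card_subtype]

lemma rowSpace_anti (b : Fin n → ℕ) (hb : Monotone b) (j : ℕ) (hj : j + 1 < n) :
    rowSpace F b (j + 1) ≤ rowSpace F b j := by
  intro v hv
  have h1 := (mem_rowSpace b ⟨j + 1, hj⟩ v).1 hv
  apply (mem_rowSpace b ⟨j, by omega⟩ v).2
  intro l hl
  apply h1 l
  exact lt_of_lt_of_le hl (hb (by simp [Fin.le_def]))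

/-- block triangular invertible matrices as adapted tuples of rows -/
noncomputable def blockTriEquiv (b : Fin n → ℕ) :
    {g : GL (Fin n) F // (g : Matrix (Fin n) (Fin n) F).BlockTriangular b}
      ≃ Adapted (rowSpace F b) n where
  toFun g := ⟨fun i => (g.1 : Matrix (Fin n) (Fin n) F) i,
    Matrix.linearIndependent_rows_iff_isUnit.2 (Units.isUnit g.1),
    fun i => (mem_rowSpace b i _).2 (fun j hj => g.2 hj)⟩
  invFun s := ⟨Matrix.GeneralLinearGroup.mk'' (Matrix.of s.1)
      ((Matrix.isUnit_iff_isUnit_det _).1 (Matrix.linearIndependent_rows_iff_isUnit.1 s.2.1)), by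
    intro i j hij
    exact (mem_rowSpace b i _).1 (s.2.2 i) j hij⟩
  left_inv g := by
    apply Subtype.ext
    apply Units.ext
    rfl
  right_inv s := by
    apply Subtype.ext
    rfl

theorem card_blockTri [Fintype F] (b : Fin n → ℕ) (hb : Monotone b) :
    Nat.card {g : GL (Fin n) F // (g : Matrix (Fin n) (Fin n) F).BlockTriangular b}
      = ∏ i : Fin n, (Fintype.card F ^ (Finset.univ.filter fun j : Fin n => b i ≤ b j).card
          - Fintype.card F ^ (n - 1 - i.val)) := by
  rw [Nat.card_congr (blockTriEquiv b), card_adapted n (rowSpace F b) (rowSpace_anti b hb)]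
  apply Finset.prod_congr rfl
  intro i _
  rw [card_rowSpace]

end Cfsg.Agent.Lib.Helper6.ParabolicCard
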