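import Mathlib
import Cfsg.Prelude.Def_LinearParabolics
import Cfsg.Agent.Lib.Helper6.ParabolicCard

/-!
# The index of a standard parabolic subgroup of `GL_n(q)`
-/

set_option autoImplicit false

namespace Cfsg.Agent.Lib.Helper6.ParabolicIndex

open Cfsg Cfsg.Agent.Lib.Helper6.ParabolicCard

section comb

variable {n : ℕ} (μ : Fin n → ℕ)

/-- the sum of the parts before `a` -/
def pre (a : Fin n) : ℕ := ∑ k ∈ Finset.univ.filter (fun k : Fin n => k < a), μ k

/-- the sum of the parts from `a` on -/
def post (a : Fin n) : ℕ := ∑ k ∈ Finset.univ.filter (fun k : Fin n => a ≤ k), μ k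

lemma pre_add_post (a : Fin n) : pre μ a + post μ a = ∑ k, μ k := by
  rw [pre, post]
  have h : (Finset.univ.filter fun k : Fin n => a ≤ k) = Finset.univ.filter fun k : Fin n => ¬ k < a := by
    ext k; simp
  rw [h, Finset.sum_filter_add_sum_filter_not]

lemma compLabel_mono : Monotone (compLabel μ) := by
  intro i i' h
  unfold compLabel
  apply Finset.card_le_card
  intro j hj
  simp only [Finset.mem_filter, Finset.mem_univ, true_and] at hj ⊢
  exact hj.trans (by exact_mod_cast h)

lemma sum_castLE (a : Fin n) :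
    ∑ i : Fin a.val, μ (Fin.castLE a.2.le i) = pre μ a := by
  rw [pre]
  refine Finset.sum_bij (fun i _ => Fin.castLE a.2.le i) ?_ ?_ ?_ ?_
  · intro i _
    simp only [Finset.mem_filter, Finset.mem_univ, true_and, Fin.lt_def, Fin.val_castLE]
    exact i.2
  · intro i _ j _ h
    apply Fin.ext
    have := congrArg Fin.val h
    simpa using this
  · intro k hk
    simp only [Finset.mem_filter, Finset.mem_univ, true_and, Fin.lt_def] at hk
    exact ⟨⟨k.val, hk⟩, Finset.mem_univ _, Fin.ext rfl⟩
  · intro i _
    rfl

variable (hμ : ∑ i, μ i = n)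

/-- positions as pairs (block, offset) -/
def posEquiv : ((a : Fin n) × Fin (μ a)) ≃ Fin n :=
  finSigmaFinEquiv.trans (finCongr hμ)

lemma posEquiv_val (x : (a : Fin n) × Fin (μ a)) :
    (posEquiv μ hμ x).val = pre μ x.1 + x.2.val := by
  rw [posEquiv, Equiv.trans_apply, finCongr_apply, Fin.val_cast, finSigmaFinEquiv_apply,
    sum_castLE]

lemma compLabel_posEquiv (x : (a : Fin n) × Fin (μ a)) :
    compLabel μ (posEquiv μ hμ x) = x.1.val := by
  obtain ⟨a, t⟩ := x
  unfold compLabel
  rw [posEquiv_val]
  have h : (Finset.univ.filter fun j : Fin n =>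
      (∑ k ∈ Finset.univ.filter (fun k : Fin n => k ≤ j), μ k) ≤ pre μ a + t.val)
      = Finset.univ.filter fun j : Fin n => j < a := by
    ext j
    simp only [Finset.mem_filter, Finset.mem_univ, true_and]
    constructor
    · intro h
      by_contra hja
      have hja' : a ≤ j := not_lt.1 hja
      have h1 : pre μ a + μ a ≤ ∑ k ∈ Finset.univ.filter (fun k : Fin n => k ≤ j), μ k := by
        rw [pre]
        have hsub : insert a (Finset.univ.filter (fun k : Fin n => k < a))
            ⊆ Finset.univ.filter (fun k : Fin n => k ≤ j) := by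
          intro k hk
          simp only [Finset.mem_insert, Finset.mem_filter, Finset.mem_univ, true_and] at hk ⊢
          rcases hk with rfl | hk
          · exact hja'
          · exact hk.le.trans hja'
        have h2 := Finset.sum_le_sum_of_subset (f := μ) hsub
        rw [Finset.sum_insert (by simp)] at h2
        omega
      have := t.2
      omega
    · intro hja
      have h1 : ∑ k ∈ Finset.univ.filter (fun k : Fin n => k ≤ j), μ k ≤ pre μ a := by
        rw [pre]
        apply Finset.sum_le_sum_of_subset
        intro k hk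
        simp only [Finset.mem_filter, Finset.mem_univ, true_and] at hk ⊢
        exact lt_of_le_of_lt hk hja
      omega
  have h' : (Finset.univ.filter fun j : Fin n => j < a) = Finset.Iio a := by ext; simp
  rw [h, h', Fin.card_Iio]

/-- the number of positions whose label is at least that of the position `x` -/
lemma card_label_ge (x : (a : Fin n) × Fin (μ a)) :
    (Finset.univ.filter fun j : Fin n => compLabel μ (posEquiv μ hμ x) ≤ compLabel μ j).card
      = post μ x.1 := by
  rw [compLabel_posEquiv]
  have h1 : (Finset.univ.filter fun j : Fin n => x.1.val ≤ compLabel μ j).card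
      = (Finset.univ.filter fun y : (a : Fin n) × Fin (μ a) => x.1 ≤ y.1).card := by
    symm
    refine Finset.card_bij (fun y _ => posEquiv μ hμ y) ?_ ?_ ?_
    · intro y hy
      simp only [Finset.mem_filter, Finset.mem_univ, true_and] at hy ⊢
      rw [compLabel_posEquiv]
      exact hy
    · intro y _ y' _ h
      exact (posEquiv μ hμ).injective h
    · intro j hj
      simp only [Finset.mem_filter, Finset.mem_univ, true_and] at hj
      refine ⟨(posEquiv μ hμ).symm j, ?_, by simp⟩
      simp only [Finset.mem_filter, Finset.mem_univ, true_and]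
      have := compLabel_posEquiv μ hμ ((posEquiv μ hμ).symm j)
      rw [Equiv.apply_symm_apply] at this
      rw [this] at hj
      exact hj
  rw [h1, post]
  have h2 : (Finset.univ.filter fun y : (a : Fin n) × Fin (μ a) => x.1 ≤ y.1)
      = (Finset.univ.filter fun k : Fin n => x.1 ≤ k).sigma (fun _ => Finset.univ) := by
    ext y
    simp
  rw [h2, Finset.card_sigma]
  simp

end comb

section arith

/-- the q-integer `1 + q + ⋯ + q^(d-1)` -/
def qint (q d : ℕ) : ℕ := ∑ l ∈ Finset.range d, q ^ l

lemma pred_mul_qint (q d : ℕ) (hq : 1 ≤ q) : (q - 1) * qint q d + 1 = q ^ d := by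
  obtain ⟨r, rfl⟩ : ∃ r, q = r + 1 := ⟨q - 1, by omega⟩
  simp only [Nat.add_sub_cancel]
  induction d with
  | zero => simp [qint]
  | succ d ih =>
    rw [qint, Finset.sum_range_succ, ← qint, mul_add, pow_succ]
    linear_combination ih

lemma pow_sub_pow_eq (q m d : ℕ) (hq : 1 ≤ q) :
    q ^ (m + d) - q ^ m = q ^ m * ((q - 1) * qint q d) := by
  have := pred_mul_qint q d hq
  rw [pow_add, ← this, mul_add, mul_one, Nat.add_sub_cancel]

lemma prod_qint_rev (q n : ℕ) :
    ∏ i : Fin n, qint q (n - i.val) = ∏ j ∈ Finset.range n, qint q (j + 1) := by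
  rw [Fin.prod_univ_eq_prod_range (fun i => qint q (n - i)) n,
    ← Finset.prod_range_reflect (fun j => qint q (j + 1)) n]
  apply Finset.prod_congr rfl
  intro j hj
  have := Finset.mem_range.1 hj
  congr 1
  omega

lemma prod_pow_rev (q n : ℕ) :
    ∏ i : Fin n, q ^ (n - 1 - i.val) * (q - 1) = ∏ i : Fin n, q ^ i.val * (q - 1) := by
  rw [← Equiv.prod_comp Fin.revPerm (fun i : Fin n => q ^ i.val * (q - 1))]
  apply Finset.prod_congr rfl
  intro i _
  rw [Fin.revPerm_apply, Fin.val_rev]
  congr 2
  omega

end arith

section main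

variable {F : Type*} [Field F] [Fintype F] {n : ℕ} (μ : Fin n → ℕ) (hμ : ∑ i, μ i = n)

omit [Fintype F] in
lemma le_post (a : Fin n) : μ a ≤ post μ a := by
  rw [post]
  exact Finset.single_le_sum (f := μ) (fun _ _ => Nat.zero_le _) (by simp)

include hμ in
theorem card_parabolic :
    Nat.card (parabolicGL n F μ)
      = (∏ i : Fin n, Fintype.card F ^ (n - 1 - i.val) * (Fintype.card F - 1))
        * ∏ a : Fin n, ∏ t ∈ Finset.range (μ a), qint (Fintype.card F) (t + 1) := by
  have hq : 1 ≤ Fintype.card F := Fintype.card_pos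
  have h0 : Nat.card (parabolicGL n F μ)
      = Nat.card {g : GL (Fin n) F // (g : Matrix (Fin n) (Fin n) F).BlockTriangular (compLabel μ)} :=
    Nat.card_congr (Equiv.subtypeEquivRight (fun g => Iff.rfl))
  rw [h0, card_blockTri (compLabel μ) (compLabel_mono μ)]
  have hfac : ∀ i : Fin n,
      Fintype.card F ^ (Finset.univ.filter fun j : Fin n => compLabel μ i ≤ compLabel μ j).card
        - Fintype.card F ^ (n - 1 - i.val)
      = (Fintype.card F ^ (n - 1 - i.val) * (Fintype.card F - 1))
        * qint (Fintype.card F) (((posEquiv μ hμ).symm i).2.val + 1) := by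
    intro i
    obtain ⟨x, hx⟩ : ∃ x, x = (posEquiv μ hμ).symm i := ⟨_, rfl⟩
    have hi : i = posEquiv μ hμ x := by rw [hx, Equiv.apply_symm_apply]
    rw [← hx, hi, card_label_ge, posEquiv_val]
    have h1 := pre_add_post μ x.1
    rw [hμ] at h1
    have h2 := le_post μ x.1
    have h3 := x.2.2
    have e : post μ x.1 = (n - 1 - (pre μ x.1 + x.2.val)) + (x.2.val + 1) := by omega
    rw [e, pow_sub_pow_eq _ _ _ hq, mul_assoc]
  rw [Finset.prod_congr rfl (fun i _ => hfac i), Finset.prod_mul_distrib]
  congr 1
  rw [← Equiv.prod_comp (posEquiv μ hμ)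
    (fun i => qint (Fintype.card F) (((posEquiv μ hμ).symm i).2.val + 1))]
  rw [Fintype.prod_sigma]
  apply Finset.prod_congr rfl
  intro a _
  rw [← Fin.prod_univ_eq_prod_range (fun t => qint (Fintype.card F) (t + 1)) (μ a)]
  apply Finset.prod_congr rfl
  intro y _
  rw [Equiv.symm_apply_apply]

theorem card_GL_eq :
    Nat.card (GL (Fin n) F)
      = (∏ i : Fin n, Fintype.card F ^ (n - 1 - i.val) * (Fintype.card F - 1))
        * ∏ j ∈ Finset.range n, qint (Fintype.card F) (j + 1) := by
  have hq : 1 ≤ Fintype.card F := Fintype.card_pos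
  rw [Matrix.card_GL_field, prod_pow_rev, ← prod_qint_rev, ← Finset.prod_mul_distrib]
  apply Finset.prod_congr rfl
  intro i _
  have e : n = i.val + (n - i.val) := by have := i.2; omega
  have e' : Fintype.card F ^ n = Fintype.card F ^ (i.val + (n - i.val)) := by rw [← e]
  rw [e', pow_sub_pow_eq _ _ _ hq, mul_assoc]

include hμ in
theorem index_parabolic :
    Nat.card (GL (Fin n) F ⧸ parabolicGL n F μ)
        * ∏ a : Fin n, ∏ t ∈ Finset.range (μ a), qint (Fintype.card F) (t + 1)
      = ∏ j ∈ Finset.range n, qint (Fintype.card F) (j + 1) := by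
  have h1 := Subgroup.index_mul_card (parabolicGL n F μ)
  rw [card_parabolic μ hμ, card_GL_eq, Subgroup.index] at h1
  have hK : 0 < ∏ i : Fin n, Fintype.card F ^ (n - 1 - i.val) * (Fintype.card F - 1) := by
    apply Finset.prod_pos
    intro i _
    have : 2 ≤ Fintype.card F := Fintype.one_lt_card
    have h2 : 0 < Fintype.card F - 1 := by omega
    positivity
  apply Nat.eq_of_mul_eq_mul_left hK
  rw [← h1]
  ring

end main

end Cfsg.Agent.Lib.Helper6.ParabolicIndex
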