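import Mathlib
import Cfsg.Prelude.Def_LinearParabolics
import Cfsg.Agent.Lib.Helper6.Flg1
import Cfsg.Agent.Lib.Helper6.ParabolicIndex

set_option autoImplicit false
set_option linter.unusedSectionVars false
set_option linter.unusedVariables false
set_option linter.unusedSimpArgs false

/-! The tables of joint fibre sizes of permutations are exactly the tables with the right row and
column sums. -/

namespace Cfsg.Agent.Lib.Helper6.Flg

open Cfsg Cfsg.Agent.Lib.Helper6.ParabolicIndex

section general

variable {X : Type*} [Fintype X] [DecidableEq X] (a b : X → ℕ)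

theorem fiberCard_fst (Φ : X → ℕ × ℕ) (m : ℕ) (hΦ : ∀ x, (Φ x).2 < m) (i : ℕ) :
    fiberCard (fun x => (Φ x).1) i = ∑ j ∈ Finset.range m, fiberCard Φ (i, j) := by
  unfold fiberCard
  rw [Finset.card_eq_sum_card_fiberwise (f := fun x => (Φ x).2) (t := Finset.range m)]
  · apply Finset.sum_congr rfl
    intro j _
    congr 1
    ext x
    simp only [Finset.mem_filter, Finset.mem_univ, true_and]
    constructor
    · rintro ⟨h1, h2⟩
      exact Prod.ext h1 h2
    · intro h
      rw [h]
      exact ⟨rfl, rfl⟩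
  · intro x _
    exact Finset.mem_range.mpr (hΦ x)

theorem fiberCard_snd (Φ : X → ℕ × ℕ) (m : ℕ) (hΦ : ∀ x, (Φ x).1 < m) (j : ℕ) :
    fiberCard (fun x => (Φ x).2) j = ∑ i ∈ Finset.range m, fiberCard Φ (i, j) := by
  unfold fiberCard
  rw [Finset.card_eq_sum_card_fiberwise (f := fun x => (Φ x).1) (t := Finset.range m)]
  · apply Finset.sum_congr rfl
    intro i _
    congr 1
    ext x
    simp only [Finset.mem_filter, Finset.mem_univ, true_and]
    constructor
    · rintro ⟨h1, h2⟩
      exact Prod.ext h2 h1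
    · intro h
      rw [h]
      exact ⟨rfl, rfl⟩
  · intro x _
    exact Finset.mem_range.mpr (hΦ x)

theorem table_row_sum (m : ℕ) (hb : ∀ x, b x < m) (w : Equiv.Perm X) (i : ℕ) :
    ∑ j ∈ Finset.range m, table a b w (i, j) = fiberCard a i := by
  unfold table
  rw [← fiberCard_fst (jointLabel a b w) m (fun x => hb x) i]
  exact fiberCard_comp_perm a w i

theorem table_col_sum (m : ℕ) (ha : ∀ x, a x < m) (w : Equiv.Perm X) (j : ℕ) :
    ∑ i ∈ Finset.range m, table a b w (i, j) = fiberCard b j := by
  unfold table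
  rw [← fiberCard_snd (jointLabel a b w) m (fun x => ha (w x)) j]
  rfl

theorem table_eq_zero (m : ℕ) (ha : ∀ x, a x < m) (hb : ∀ x, b x < m) (w : Equiv.Perm X)
    (p : ℕ × ℕ) (hp : ¬(p.1 < m ∧ p.2 < m)) : table a b w p = 0 := by
  unfold table fiberCard
  rw [Finset.card_eq_zero, Finset.filter_eq_empty_iff]
  intro y _ hy
  apply hp
  rw [← hy]
  exact ⟨ha (w y), hb y⟩

/-- every table with the right margins is the table of a permutation -/
theorem exists_table_eq (m : ℕ) (ha : ∀ x, a x < m) (hb : ∀ x, b x < m) (T : ℕ × ℕ → ℕ)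
    (hT : ∀ p : ℕ × ℕ, ¬(p.1 < m ∧ p.2 < m) → T p = 0)
    (hrow : ∀ i, ∑ j ∈ Finset.range m, T (i, j) = fiberCard a i)
    (hcol : ∀ j, ∑ i ∈ Finset.range m, T (i, j) = fiberCard b j) :
    ∃ w : Equiv.Perm X, table a b w = T := by
  classical
  have hsum : ∑ p ∈ Finset.range m ×ˢ Finset.range m, T p = Fintype.card X := by
    rw [Finset.sum_product]
    rw [Finset.sum_congr rfl (fun i _ => hrow i)]
    exact sum_fiberCard a (Finset.range m) (fun x => Finset.mem_range.mpr (ha x))
  obtain ⟨Φ, hΦ⟩ := exists_fiberCard_eq (X := X) T (Finset.range m ×ˢ Finset.range m)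
    (by
      intro p hp
      apply hT
      intro h
      apply hp
      rw [Finset.mem_product, Finset.mem_range, Finset.mem_range]
      exact h) hsum
  have hΦlt : ∀ x, (Φ x).1 < m ∧ (Φ x).2 < m := by
    intro x
    by_contra hno
    have h1 := hT (Φ x) hno
    rw [← hΦ] at h1
    unfold fiberCard at h1
    rw [Finset.card_eq_zero, Finset.filter_eq_empty_iff] at h1
    exact h1 (Finset.mem_univ x) rfl
  -- match the second labels with `b`
  have h2 : ∀ j, fiberCard (fun x => (Φ x).2) j = fiberCard b j := by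
    intro j
    rw [fiberCard_snd Φ m (fun x => (hΦlt x).1) j, ← hcol j]
    exact Finset.sum_congr rfl (fun i _ => hΦ (i, j))
  obtain ⟨τ, hτ⟩ := exists_perm_of_fiberCard_eq (fun x => (Φ x).2) b h2
  -- `Φ ∘ τ` has second label `b`
  have h1 : ∀ i, fiberCard a i = fiberCard (fun x => (Φ (τ x)).1) i := by
    intro i
    have e : (fun x => (Φ (τ x)).1) = (fun x => (Φ x).1) ∘ τ := rfl
    rw [e, fiberCard_comp_perm, fiberCard_fst Φ m (fun x => (hΦlt x).2) i, ← hrow i]
    exact Finset.sum_congr rfl (fun j _ => (hΦ (i, j)).symm)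
  obtain ⟨w, hw⟩ := exists_perm_of_fiberCard_eq a (fun x => (Φ (τ x)).1) h1
  refine ⟨w, ?_⟩
  have hj : jointLabel a b w = Φ ∘ τ := by
    funext y
    show (a (w y), b y) = Φ (τ y)
    have e1 : (Φ (τ y)).1 = a (w y) := congrFun hw y
    have e2 : b y = (Φ (τ y)).2 := congrFun hτ y
    exact Prod.ext e1.symm e2
  funext p
  unfold table
  rw [hj, fiberCard_comp_perm, hΦ]

end general

section count

variable {X : Type*} [Fintype X] [DecidableEq X] (a b : X → ℕ)

/-- the tables with given margins -/
def Margins (m : ℕ) (r c : Fin m → ℕ) : Type :=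
  {K : Fin m × Fin m → ℕ // (∀ i, ∑ j, K (i, j) = r i) ∧ (∀ j, ∑ i, K (i, j) = c j)}

theorem fiberCard_eq_zero_of_le (m : ℕ) (ha : ∀ x, a x < m) (i : ℕ) (hi : m ≤ i) :
    fiberCard a i = 0 := by
  unfold fiberCard
  rw [Finset.card_eq_zero, Finset.filter_eq_empty_iff]
  intro x _ hx
  have := ha x
  omega

theorem card_range_table (m : ℕ) (ha : ∀ x, a x < m) (hb : ∀ x, b x < m) :
    Nat.card (Set.range (table a b)) =
      Nat.card (Margins m (fun i => fiberCard a i.val) (fun j => fiberCard b j.val)) := by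
  classical
  let Ψ : Set.range (table a b) →
      Margins m (fun i => fiberCard a i.val) (fun j => fiberCard b j.val) := fun f =>
    ⟨fun p => f.1 (p.1.val, p.2.val), by
      obtain ⟨w, hw⟩ := f.2
      constructor
      · intro i
        rw [← hw, Fin.sum_univ_eq_sum_range (fun j => table a b w (i.val, j)) m]
        exact table_row_sum a b m hb w i.val
      · intro j
        rw [← hw, Fin.sum_univ_eq_sum_range (fun i => table a b w (i, j.val)) m]
        exact table_col_sum a b m ha w j.val⟩
  apply Nat.card_eq_of_bijective Ψ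
  constructor
  · rintro ⟨f, w, rfl⟩ ⟨f', w', rfl⟩ h
    apply Subtype.ext
    funext p
    by_cases hp : p.1 < m ∧ p.2 < m
    · have := congrFun (congrArg Subtype.val h) (⟨p.1, hp.1⟩, ⟨p.2, hp.2⟩)
      exact this
    · show table a b w p = table a b w' p
      rw [table_eq_zero a b m ha hb w p hp, table_eq_zero a b m ha hb w' p hp]
  · rintro ⟨K, hrow, hcol⟩
    let T : ℕ × ℕ → ℕ := fun p =>
      if h : p.1 < m ∧ p.2 < m then K (⟨p.1, h.1⟩, ⟨p.2, h.2⟩) else 0
    have hT : ∀ p : ℕ × ℕ, ¬(p.1 < m ∧ p.2 < m) → T p = 0 := fun p hp => dif_neg hp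
    have hTK : ∀ i j : Fin m, T (i.val, j.val) = K (i, j) := by
      intro i j
      show (if h : i.val < m ∧ j.val < m then K (⟨i.val, h.1⟩, ⟨j.val, h.2⟩) else 0) = K (i, j)
      rw [dif_pos ⟨i.2, j.2⟩]
    have hr : ∀ i, ∑ j ∈ Finset.range m, T (i, j) = fiberCard a i := by
      intro i
      by_cases hi : i < m
      · rw [← Fin.sum_univ_eq_sum_range (fun j => T (i, j)) m]
        have : ∑ j, K (⟨i, hi⟩, j) = fiberCard a i := hrow ⟨i, hi⟩
        rw [← this]
        apply Finset.sum_congr rfl
        intro j _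
        exact hTK ⟨i, hi⟩ j
      · rw [fiberCard_eq_zero_of_le a m ha i (not_lt.mp hi)]
        apply Finset.sum_eq_zero
        intro j _
        apply hT
        intro h
        exact hi h.1
    have hc : ∀ j, ∑ i ∈ Finset.range m, T (i, j) = fiberCard b j := by
      intro j
      by_cases hj : j < m
      · rw [← Fin.sum_univ_eq_sum_range (fun i => T (i, j)) m]
        have : ∑ i, K (i, ⟨j, hj⟩) = fiberCard b j := hcol ⟨j, hj⟩
        rw [← this]
        apply Finset.sum_congr rfl
        intro i _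
        exact hTK i ⟨j, hj⟩
      · rw [fiberCard_eq_zero_of_le b m hb j (not_lt.mp hj)]
        apply Finset.sum_eq_zero
        intro i _
        apply hT
        intro h
        exact hj h.2
    obtain ⟨w, hw⟩ := exists_table_eq a b m ha hb T hT hr hc
    refine ⟨⟨table a b w, w, rfl⟩, ?_⟩
    apply Subtype.ext
    funext p
    show table a b w (p.1.val, p.2.val) = K p
    rw [hw, hTK]

end count

section comp

variable {n : ℕ} (μ : Fin n → ℕ) (hμ : ∑ i, μ i = n)

include hμ in
theorem compLabel_lt (x : Fin n) : compLabel μ x < n := by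
  obtain ⟨y, rfl⟩ := (posEquiv μ hμ).surjective x
  rw [compLabel_posEquiv]
  exact y.1.2

include hμ in
theorem fiberCard_compLabel (i : Fin n) : fiberCard (compLabel μ) i.val = μ i := by
  classical
  rw [fiberCard_eq_card]
  have e : {x : Fin n // compLabel μ x = i.val} ≃ Fin (μ i) :=
    calc {x : Fin n // compLabel μ x = i.val}
        ≃ {y : (a : Fin n) × Fin (μ a) // y.1 = i} :=
          ((posEquiv μ hμ).subtypeEquiv (fun y => by
            rw [compLabel_posEquiv, Fin.val_inj])).symm
      _ ≃ Fin (μ i) := Equiv.sigmaSubtype i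
  rw [Fintype.card_congr e, Fintype.card_fin]

end comp

end Cfsg.Agent.Lib.Helper6.Flg
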