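import Mathlib
import Cfsg.Agent.Lib.Helper6.Cau1
import Cfsg.Agent.Lib.Helper6.Cau2
import Cfsg.Agent.Lib.Helper6.Flg6

set_option autoImplicit false
set_option linter.unusedSectionVars false
set_option linter.unusedVariables false
set_option linter.unusedSimpArgs false

/-! The Cauchy determinant in power series over two sets of variables, and the extraction of
coefficients: an alternating sum of numbers of contingency tables. -/

namespace Cfsg.Agent.Lib.Helper6.Cau

open Finset Matrix

variable {n : ℕ}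

/-- power series in two sets of `n` variables -/
abbrev PS (n : ℕ) := MvPowerSeries (Fin n ⊕ Fin n) ℤ

/-- the exponent vector with entries `α` and `β` -/
noncomputable def dd (α β : Fin n → ℕ) : (Fin n ⊕ Fin n) →₀ ℕ :=
  Finsupp.equivFunOnFinite.symm (Sum.elim α β)

theorem dd_inl (α β : Fin n → ℕ) (i : Fin n) : dd α β (Sum.inl i) = α i := rfl

theorem dd_inr (α β : Fin n → ℕ) (j : Fin n) : dd α β (Sum.inr j) = β j := rfl

theorem dd_le_iff (α β α' β' : Fin n → ℕ) :
    dd α β ≤ dd α' β' ↔ (∀ i, α i ≤ α' i) ∧ (∀ j, β j ≤ β' j) := by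
  rw [Finsupp.le_def, Sum.forall]
  rfl

theorem dd_sub (α β α' β' : Fin n → ℕ) :
    dd α' β' - dd α β = dd (fun i => α' i - α i) (fun j => β' j - β j) := by
  apply Finsupp.ext
  rintro (i | j)
  · rw [Finsupp.tsub_apply]
    rfl
  · rw [Finsupp.tsub_apply]
    rfl

/-- the exponent of `x_i y_j` -/
noncomputable def ee (p : Fin n × Fin n) : (Fin n ⊕ Fin n) →₀ ℕ :=
  Finsupp.single (Sum.inl p.1) 1 + Finsupp.single (Sum.inr p.2) 1

theorem ee_inl (p : Fin n × Fin n) (i : Fin n) :
    ee p (Sum.inl i) = if p.1 = i then 1 else 0 := by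
  unfold ee
  rw [Finsupp.add_apply, Finsupp.single_apply, Finsupp.single_apply]
  simp

theorem ee_inr (p : Fin n × Fin n) (j : Fin n) :
    ee p (Sum.inr j) = if p.2 = j then 1 else 0 := by
  unfold ee
  rw [Finsupp.add_apply, Finsupp.single_apply, Finsupp.single_apply]
  simp

theorem ee_ne_zero (p : Fin n × Fin n) : ee p ≠ 0 := by
  intro h
  have h1 := DFunLike.congr_fun h (Sum.inl p.1)
  rw [ee_inl, if_pos rfl] at h1
  exact one_ne_zero h1

/-- the variables -/
noncomputable def xs (i : Fin n) : PS n := mono (Finsupp.single (Sum.inl i) 1)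

/-- the variables -/
noncomputable def ys (j : Fin n) : PS n := mono (Finsupp.single (Sum.inr j) 1)

theorem xs_mul_ys (i j : Fin n) : xs i * ys j = mono (ee (i, j)) := (mono_add _ _).symm

theorem xs_pow (i : Fin n) (k : ℕ) : xs i ^ k = mono (Finsupp.single (Sum.inl i) k) :=
  MvPowerSeries.X_pow_eq (Sum.inl i) k

theorem ys_pow (j : Fin n) (k : ℕ) : ys j ^ k = mono (Finsupp.single (Sum.inr j) k) :=
  MvPowerSeries.X_pow_eq (Sum.inr j) k

theorem ys_injective : Function.Injective (ys : Fin n → PS n) := by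
  intro j j' h
  have h1 : (MvPowerSeries.X (Sum.inr j) : PS n) = MvPowerSeries.X (Sum.inr j') := h
  exact Sum.inr_injective (MvPowerSeries.X_inj.mp h1)

/-- the matrix of geometric series -/
noncomputable def gmat (n : ℕ) : Matrix (Fin n) (Fin n) (PS n) :=
  Matrix.of fun i j => geom (ee (i, j))

/-- the product of all geometric series -/
noncomputable def gall (n : ℕ) : PS n := ∏ p : Fin n × Fin n, geom (ee p)

theorem det_gmat (n : ℕ) : ∃ ε : PS n, (ε = 1 ∨ ε = -1) ∧
    det (gmat n) = ε * det (vandermonde (xs : Fin n → PS n)) *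
      det (vandermonde (ys : Fin n → PS n)) * gall n := by
  have : IsDomain (PS n) := NoZeroDivisors.to_isDomain _
  obtain ⟨ε, hε, h⟩ := det_pmat (xs : Fin n → PS n) ys ys_injective
  refine ⟨ε, hε, ?_⟩
  let r : Fin n → PS n := fun i => ∏ l, (1 - xs i * ys l)
  have h1 : pmat (xs : Fin n → PS n) ys = Matrix.diagonal r * gmat n := by
    apply Matrix.ext
    intro i j
    rw [Matrix.diagonal_mul]
    show ∏ l ∈ univ.erase j, (1 - xs i * ys l) = (∏ l, (1 - xs i * ys l)) * geom (ee (i, j))
    rw [← Finset.mul_prod_erase univ _ (mem_univ j), mul_comm (1 - xs i * ys j), mul_assoc,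
      xs_mul_ys, one_sub_mono_mul_geom _ (ee_ne_zero _), mul_one]
  have h2 : (∏ i, r i) * gall n = 1 := by
    show (∏ i, ∏ l, (1 - xs i * ys l)) * gall n = 1
    rw [← Fintype.prod_prod_type' (fun i l => 1 - (xs i : PS n) * ys l)]
    unfold gall
    rw [← Finset.prod_mul_distrib]
    apply Finset.prod_eq_one
    intro p _
    rw [xs_mul_ys]
    exact one_sub_mono_mul_geom _ (ee_ne_zero _)
  have h3 : det (pmat (xs : Fin n → PS n) ys) = (∏ i, r i) * det (gmat n) := by
    rw [h1, det_mul, det_diagonal]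
  calc det (gmat n) = det (gmat n) * ((∏ i, r i) * gall n) := by rw [h2, mul_one]
    _ = ((∏ i, r i) * det (gmat n)) * gall n := by ring
    _ = _ := by rw [← h3, h]

/-! ### coefficients -/

theorem sum_ee_inl (K : Fin n × Fin n → ℕ) (i : Fin n) :
    (∑ p, K p • ee p) (Sum.inl i) = ∑ j, K (i, j) := by
  rw [Finsupp.finsetSum_apply, Fintype.sum_prod_type]
  rw [Finset.sum_eq_single i]
  · apply sum_congr rfl
    intro j _
    rw [Finsupp.smul_apply, ee_inl, if_pos rfl, smul_eq_mul, mul_one]
  · intro a _ ha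
    apply sum_eq_zero
    intro j _
    rw [Finsupp.smul_apply, ee_inl, if_neg ha, smul_zero]
  · intro h
    exact absurd (mem_univ _) h

theorem sum_ee_inr (K : Fin n × Fin n → ℕ) (j : Fin n) :
    (∑ p, K p • ee p) (Sum.inr j) = ∑ i, K (i, j) := by
  rw [Finsupp.finsetSum_apply, Fintype.sum_prod_type_right]
  rw [Finset.sum_eq_single j]
  · apply sum_congr rfl
    intro i _
    rw [Finsupp.smul_apply, ee_inr, if_pos rfl, smul_eq_mul, mul_one]
  · intro a _ ha
    apply sum_eq_zero
    intro i _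
    rw [Finsupp.smul_apply, ee_inr, if_neg ha, smul_zero]
  · intro h
    exact absurd (mem_univ _) h

theorem coeff_gall (α β : Fin n → ℕ) :
    MvPowerSeries.coeff (dd α β) (gall n) = (Nat.card (Flg.Margins n α β) : ℤ) := by
  unfold gall
  rw [coeff_prod_geom _ ee_ne_zero]
  congr 1
  unfold Flg.Margins
  apply Nat.card_congr
  apply Equiv.subtypeEquivRight
  intro K
  rw [DFunLike.ext_iff, Sum.forall]
  constructor
  · rintro ⟨h1, h2⟩
    refine ⟨fun i => ?_, fun j => ?_⟩
    · rw [← sum_ee_inl, h1 i, dd_inl]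
    · rw [← sum_ee_inr, h2 j, dd_inr]
  · rintro ⟨h1, h2⟩
    refine ⟨fun i => ?_, fun j => ?_⟩
    · rw [sum_ee_inl, h1 i, dd_inl]
    · rw [sum_ee_inr, h2 j, dd_inr]

theorem sum_perm_inl (τ : Equiv.Perm (Fin n)) (m : Fin n → ℕ) (i : Fin n) :
    (∑ a, m a • ee (τ a, a)) (Sum.inl (τ i)) = m i := by
  rw [Finsupp.finsetSum_apply, Finset.sum_eq_single i]
  · rw [Finsupp.smul_apply, ee_inl, if_pos rfl, smul_eq_mul, mul_one]
  · intro a _ ha
    rw [Finsupp.smul_apply, ee_inl, if_neg (fun h => ha (τ.injective h)), smul_zero]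
  · intro h
    exact absurd (mem_univ _) h

theorem sum_perm_inr (τ : Equiv.Perm (Fin n)) (m : Fin n → ℕ) (j : Fin n) :
    (∑ a, m a • ee (τ a, a)) (Sum.inr j) = m j := by
  rw [Finsupp.finsetSum_apply, Finset.sum_eq_single j]
  · rw [Finsupp.smul_apply, ee_inr, if_pos rfl, smul_eq_mul, mul_one]
  · intro a _ ha
    rw [Finsupp.smul_apply, ee_inr, if_neg ha, smul_zero]
  · intro h
    exact absurd (mem_univ _) h

open scoped Classical in
theorem coeff_prod_perm (τ : Equiv.Perm (Fin n)) (lam lam' : Fin n → ℕ) :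
    MvPowerSeries.coeff (dd lam lam') (∏ i, gmat n (τ i) i) =
      if ∀ i, lam' i = lam (τ i) then 1 else 0 := by
  show MvPowerSeries.coeff (dd lam lam') (∏ i, geom (ee (τ i, i))) = _
  rw [coeff_prod_geom (fun i => ee (τ i, i)) (fun i => ee_ne_zero _)]
  have hiff : ∀ m : Fin n → ℕ, (∑ a, m a • ee (τ a, a) = dd lam lam') ↔
      (m = lam' ∧ ∀ i, lam' i = lam (τ i)) := by
    intro m
    constructor
    · intro h
      have h1 : m = lam' := by
        funext j
        rw [← sum_perm_inr τ m j, h, dd_inr]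
      refine ⟨h1, fun i => ?_⟩
      rw [← h1, ← sum_perm_inl τ m i, h, dd_inl]
    · rintro ⟨rfl, h2⟩
      apply Finsupp.ext
      rintro (i | j)
      · obtain ⟨i', rfl⟩ := τ.surjective i
        rw [sum_perm_inl, dd_inl, h2]
      · rw [sum_perm_inr, dd_inr]
  by_cases h : ∀ i, lam' i = lam (τ i)
  · rw [if_pos h]
    have : Nat.card {K : Fin n → ℕ // ∑ i, K i • ee (τ i, i) = dd lam lam'} = 1 := by
      rw [Nat.card_eq_one_iff_unique]
      constructor
      · constructor
        rintro ⟨m, hm⟩ ⟨m', hm'⟩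
        apply Subtype.ext
        show m = m'
        rw [((hiff m).mp hm).1, ((hiff m').mp hm').1]
      · exact ⟨⟨lam', (hiff lam').mpr ⟨rfl, h⟩⟩⟩
    rw [this]
    rfl
  · rw [if_neg h]
    have : IsEmpty {K : Fin n → ℕ // ∑ i, K i • ee (τ i, i) = dd lam lam'} := by
      constructor
      rintro ⟨m, hm⟩
      exact h ((hiff m).mp hm).2
    rw [Nat.card_of_isEmpty]
    rfl

theorem coeff_intCast_mul {σ : Type*} (z : ℤ) (φ : MvPowerSeries σ ℤ) (d : σ →₀ ℕ) :
    MvPowerSeries.coeff d ((z : MvPowerSeries σ ℤ) * φ) = z * MvPowerSeries.coeff d φ := by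
  rw [← zsmul_eq_mul, map_zsmul, smul_eq_mul]

theorem perm_eq_one_of_strictMono (τ : Equiv.Perm (Fin n)) (h : StrictMono τ) : τ = 1 := by
  apply Equiv.ext
  intro i
  have := (StrictMono.range_inj h (strictMono_id)).mp (by
    rw [Set.range_id]
    exact τ.surjective.range_eq)
  exact congrFun this i

open scoped Classical in
theorem coeff_det_gmat (lam lam' : Fin n → ℕ) (hl : StrictMono lam) (hl' : StrictMono lam') :
    MvPowerSeries.coeff (dd lam lam') (det (gmat n)) = if lam = lam' then 1 else 0 := by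
  rw [Matrix.det_apply', map_sum]
  have h1 : ∀ τ : Equiv.Perm (Fin n),
      MvPowerSeries.coeff (dd lam lam') (((Equiv.Perm.sign τ : ℤ) : PS n) * ∏ i, gmat n (τ i) i) =
        if τ = 1 ∧ lam = lam' then 1 else 0 := by
    intro τ
    rw [coeff_intCast_mul, coeff_prod_perm]
    by_cases h : ∀ i, lam' i = lam (τ i)
    · have hτ : τ = 1 := by
        apply perm_eq_one_of_strictMono
        intro i j hij
        have := hl' hij
        rw [h i, h j] at this
        exact hl.lt_iff_lt.mp this
      subst hτ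
      have h2 : lam = lam' := by
        funext i
        exact (h i).symm
      rw [if_pos h, if_pos ⟨rfl, h2⟩, Equiv.Perm.sign_one]
      simp
    · rw [if_neg h, mul_zero, if_neg]
      rintro ⟨rfl, h2⟩
      apply h
      intro i
      rw [h2]
      rfl
  rw [Finset.sum_congr rfl (fun τ _ => h1 τ)]
  by_cases h : lam = lam'
  · rw [if_pos h, Finset.sum_eq_single 1]
    · rw [if_pos ⟨rfl, h⟩]
    · intro τ _ hτ
      rw [if_neg (fun hh => hτ hh.1)]
    · intro hh
      exact absurd (mem_univ _) hh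
  · rw [if_neg h]
    apply Finset.sum_eq_zero
    intro τ _
    rw [if_neg (fun hh => h hh.2)]

/-! ### the Vandermonde determinants as sums of monomials -/

theorem det_vandermonde_xs :
    det (vandermonde (xs : Fin n → PS n)) =
      ∑ κ : Equiv.Perm (Fin n), ((Equiv.Perm.sign κ : ℤ) : PS n) *
        mono (∑ i, Finsupp.single (Sum.inl i) (κ i).val) := by
  rw [← Matrix.det_transpose, Matrix.det_apply']
  apply sum_congr rfl
  intro κ _
  congr 1
  rw [mono_sum]
  apply prod_congr rfl
  intro i _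
  rw [Matrix.transpose_apply, vandermonde_apply, xs_pow]

theorem det_vandermonde_ys :
    det (vandermonde (ys : Fin n → PS n)) =
      ∑ κ : Equiv.Perm (Fin n), ((Equiv.Perm.sign κ : ℤ) : PS n) *
        mono (∑ i, Finsupp.single (Sum.inr i) (κ i).val) := by
  rw [← Matrix.det_transpose, Matrix.det_apply']
  apply sum_congr rfl
  intro κ _
  congr 1
  rw [mono_sum]
  apply prod_congr rfl
  intro i _
  rw [Matrix.transpose_apply, vandermonde_apply, ys_pow]

theorem sum_single_add (a b : Fin n → ℕ) :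
    (∑ i, Finsupp.single (Sum.inl i : Fin n ⊕ Fin n) (a i)) +
      (∑ i, Finsupp.single (Sum.inr i : Fin n ⊕ Fin n) (b i)) = dd a b := by
  apply Finsupp.ext
  rintro (i | j)
  · rw [Finsupp.add_apply, Finsupp.finsetSum_apply, Finsupp.finsetSum_apply, dd_inl]
    rw [Finset.sum_eq_single i, Finsupp.single_eq_same]
    · rw [Finset.sum_eq_zero, add_zero]
      intro a' _
      rw [Finsupp.single_apply, if_neg (by simp)]
    · intro a' _ ha
      rw [Finsupp.single_apply, if_neg (fun h => ha (Sum.inl_injective h))]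
    · intro h
      exact absurd (mem_univ _) h
  · rw [Finsupp.add_apply, Finsupp.finsetSum_apply, Finsupp.finsetSum_apply, dd_inr]
    rw [Finset.sum_eq_single (a := j) (s := univ)
      (f := fun i => (Finsupp.single (Sum.inr i : Fin n ⊕ Fin n) (b i)) (Sum.inr j)),
      Finsupp.single_eq_same]
    · rw [Finset.sum_eq_zero, zero_add]
      intro a' _
      rw [Finsupp.single_apply, if_neg (by simp)]
    · intro a' _ ha
      rw [Finsupp.single_apply, if_neg (fun h => ha (Sum.inr_injective h))]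
    · intro h
      exact absurd (mem_univ _) h

open scoped Classical in
/-- the coefficient of the right hand side of the Cauchy identity -/
theorem coeff_rhs (lam lam' : Fin n → ℕ) :
    MvPowerSeries.coeff (dd lam lam')
      (det (vandermonde (xs : Fin n → PS n)) * det (vandermonde (ys : Fin n → PS n)) * gall n) =
      ∑ κ : Equiv.Perm (Fin n), ∑ κ' : Equiv.Perm (Fin n),
        if (∀ i, (κ i).val ≤ lam i) ∧ (∀ j, (κ' j).val ≤ lam' j) then
          (Equiv.Perm.sign κ : ℤ) * (Equiv.Perm.sign κ' : ℤ) *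
            (Nat.card (Flg.Margins n (fun i => lam i - (κ i).val)
              (fun j => lam' j - (κ' j).val)) : ℤ)
        else 0 := by
  rw [det_vandermonde_xs, det_vandermonde_ys, Finset.sum_mul_sum, Finset.sum_mul, map_sum]
  apply sum_congr rfl
  intro κ _
  rw [Finset.sum_mul, map_sum]
  apply sum_congr rfl
  intro κ' _
  have e1 : ((Equiv.Perm.sign κ : ℤ) : PS n) *
      mono (∑ i, Finsupp.single (Sum.inl i) (κ i).val) *
      (((Equiv.Perm.sign κ' : ℤ) : PS n) * mono (∑ i, Finsupp.single (Sum.inr i) (κ' i).val)) *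
      gall n =
      ((Equiv.Perm.sign κ : ℤ) : PS n) * (((Equiv.Perm.sign κ' : ℤ) : PS n) *
        (mono (dd (fun i => (κ i).val) (fun j => (κ' j).val)) * gall n)) := by
    rw [← sum_single_add, mono_add]
    ring
  rw [e1, coeff_intCast_mul, coeff_intCast_mul, coeff_mono_mul]
  by_cases h : (∀ i, (κ i).val ≤ lam i) ∧ (∀ j, (κ' j).val ≤ lam' j)
  · rw [if_pos h, if_pos ((dd_le_iff _ _ _ _).mpr h), dd_sub, coeff_gall]
    ring
  · rw [if_neg h, if_neg (fun hh => h ((dd_le_iff _ _ _ _).mp hh)), mul_zero, mul_zero]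

open scoped Classical in
/-- the alternating sum of the numbers of contingency tables -/
theorem cauchy_count (n : ℕ) : ∃ ε : ℤ, (ε = 1 ∨ ε = -1) ∧
    ∀ lam lam' : Fin n → ℕ, StrictMono lam → StrictMono lam' →
      ∑ κ : Equiv.Perm (Fin n), ∑ κ' : Equiv.Perm (Fin n),
        (if (∀ i, (κ i).val ≤ lam i) ∧ (∀ j, (κ' j).val ≤ lam' j) then
          (Equiv.Perm.sign κ : ℤ) * (Equiv.Perm.sign κ' : ℤ) *
            (Nat.card (Flg.Margins n (fun i => lam i - (κ i).val)
              (fun j => lam' j - (κ' j).val)) : ℤ)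
        else 0) = ε * (if lam = lam' then 1 else 0) := by
  obtain ⟨ε, hε, h⟩ := det_gmat n
  rcases hε with rfl | rfl
  · refine ⟨1, Or.inl rfl, ?_⟩
    intro lam lam' hl hl'
    rw [← coeff_rhs, one_mul, ← coeff_det_gmat lam lam' hl hl', h]
    congr 1
    ring
  · refine ⟨-1, Or.inr rfl, ?_⟩
    intro lam lam' hl hl'
    rw [← coeff_rhs, neg_one_mul, ← coeff_det_gmat lam lam' hl hl', h]
    have : (-1 : PS n) * det (vandermonde (xs : Fin n → PS n)) *
        det (vandermonde (ys : Fin n → PS n)) * gall n =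
        -(det (vandermonde (xs : Fin n → PS n)) * det (vandermonde (ys : Fin n → PS n)) *
          gall n) := by ring
    rw [this, map_neg, neg_neg]

end Cfsg.Agent.Lib.Helper6.Cau
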