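import Mathlib
import Cfsg.Prelude.Def_ParabolicCharacters
import Cfsg.Agent.Lib.Helper6.PermChar

set_option autoImplicit false
set_option linter.unusedSectionVars false
set_option linter.unusedVariables false
set_option linter.unusedSimpArgs false

/-! Orbits of a group on pairs of cosets, counted by a complete double coset invariant; the inner
product of two permutation characters on cosets. -/

namespace Cfsg.Agent.Lib.Helper6.Flg

open Cfsg Cfsg.Agent.Lib.Helper6

section orbits

variable {G : Type*} [Group G] (H K : Subgroup G) {ι : Type*} (inv : G → ι)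

theorem inv_out (hinv : ∀ g g', inv g = inv g' ↔ ∃ h ∈ H, ∃ k ∈ K, g' = h * g * k) (x y : G) :
    inv ((QuotientGroup.mk x : G ⧸ H).out⁻¹ * (QuotientGroup.mk y : G ⧸ K).out) =
      inv (x⁻¹ * y) := by
  obtain ⟨h, hh⟩ := QuotientGroup.mk_out_eq_mul H x
  obtain ⟨k, hk⟩ := QuotientGroup.mk_out_eq_mul K y
  rw [hh, hk]
  symm
  rw [hinv]
  refine ⟨(h : G)⁻¹, H.inv_mem h.2, k, k.2, ?_⟩
  group

/-- the orbits on pairs of cosets are counted by a complete double coset invariant -/
theorem card_orbits_prod (hinv : ∀ g g', inv g = inv g' ↔ ∃ h ∈ H, ∃ k ∈ K, g' = h * g * k) :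
    Nat.card (Quotient (MulAction.orbitRel G ((G ⧸ H) × (G ⧸ K)))) = Nat.card (Set.range inv) := by
  let φ : (G ⧸ H) × (G ⧸ K) → Set.range inv :=
    fun p => ⟨inv (p.1.out⁻¹ * p.2.out), ⟨_, rfl⟩⟩
  have hφ : ∀ x y : G, φ (QuotientGroup.mk x, QuotientGroup.mk y) =
      ⟨inv (x⁻¹ * y), ⟨_, rfl⟩⟩ := by
    intro x y
    apply Subtype.ext
    exact inv_out H K inv hinv x y
  have hconst : ∀ p q : (G ⧸ H) × (G ⧸ K), (MulAction.orbitRel G _) p q → φ p = φ q := by
    rintro ⟨p1, p2⟩ ⟨q1, q2⟩ hpq
    rw [MulAction.orbitRel_apply] at hpq
    obtain ⟨g, hg⟩ := hpq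
    induction q1 using QuotientGroup.induction_on with
    | H x =>
      induction q2 using QuotientGroup.induction_on with
      | H y =>
        have h1 : p1 = QuotientGroup.mk (g * x) := (congrArg Prod.fst hg).symm
        have h2 : p2 = QuotientGroup.mk (g * y) := (congrArg Prod.snd hg).symm
        rw [h1, h2, hφ, hφ]
        apply Subtype.ext
        show inv ((g * x)⁻¹ * (g * y)) = inv (x⁻¹ * y)
        congr 1
        group
  let Φ : Quotient (MulAction.orbitRel G ((G ⧸ H) × (G ⧸ K))) → Set.range inv :=
    Quotient.lift φ hconst
  apply Nat.card_congr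
  refine Equiv.ofBijective Φ ⟨?_, ?_⟩
  · intro P Q hPQ
    induction P using Quotient.inductionOn with
    | h p =>
      induction Q using Quotient.inductionOn with
      | h q =>
        obtain ⟨p1, p2⟩ := p
        obtain ⟨q1, q2⟩ := q
        induction p1 using QuotientGroup.induction_on with
        | H x =>
          induction p2 using QuotientGroup.induction_on with
          | H y =>
            induction q1 using QuotientGroup.induction_on with
            | H x' =>
              induction q2 using QuotientGroup.induction_on with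
              | H y' =>
                have h1 : φ (QuotientGroup.mk x, QuotientGroup.mk y) =
                    φ (QuotientGroup.mk x', QuotientGroup.mk y') := hPQ
                rw [hφ, hφ] at h1
                have h2 : inv (x⁻¹ * y) = inv (x'⁻¹ * y') := congrArg Subtype.val h1
                rw [hinv] at h2
                obtain ⟨h, hh, k, hk, hxy⟩ := h2
                apply Quotient.sound
                show (MulAction.orbitRel G _) _ _
                rw [MulAction.orbitRel_apply]
                refine ⟨x * h⁻¹ * x'⁻¹, ?_⟩
                show ((QuotientGroup.mk (x * h⁻¹ * x'⁻¹ * x') : G ⧸ H),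
                  (QuotientGroup.mk (x * h⁻¹ * x'⁻¹ * y') : G ⧸ K)) = _
                apply Prod.ext
                · show (QuotientGroup.mk (x * h⁻¹ * x'⁻¹ * x') : G ⧸ H) = QuotientGroup.mk x
                  rw [QuotientGroup.eq]
                  have : (x * h⁻¹ * x'⁻¹ * x')⁻¹ * x = h := by group
                  rw [this]
                  exact hh
                · show (QuotientGroup.mk (x * h⁻¹ * x'⁻¹ * y') : G ⧸ K) = QuotientGroup.mk y
                  rw [QuotientGroup.eq]
                  have e : x'⁻¹ * y' = h * (x⁻¹ * y) * k := hxy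
                  have : (x * h⁻¹ * x'⁻¹ * y')⁻¹ * y = k⁻¹ := by
                    have e2 : x * h⁻¹ * x'⁻¹ * y' = x * h⁻¹ * (x'⁻¹ * y') := by group
                    rw [e2, e]
                    group
                  rw [this]
                  exact K.inv_mem hk
  · rintro ⟨_, g, rfl⟩
    refine ⟨Quotient.mk _ (QuotientGroup.mk 1, QuotientGroup.mk g), ?_⟩
    show φ (QuotientGroup.mk 1, QuotientGroup.mk g) = _
    rw [hφ]
    apply Subtype.ext
    show inv (1⁻¹ * g) = inv g
    rw [inv_one, one_mul]

end orbits

section inner

variable {G : Type*} [Group G] [Fintype G] (H K : Subgroup G)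

/-- the inner product of two permutation characters on cosets is the number of orbits on pairs -/
theorem inner_fixedPointCharacter :
    (Nat.card G : ℂ)⁻¹ * ∑ g : G, fixedPointCharacter H g * fixedPointCharacter K g =
      (Nat.card (Quotient (MulAction.orbitRel G ((G ⧸ H) × (G ⧸ K)))) : ℂ) := by
  have h1 : ∀ g : G, fixedPointCharacter H g * fixedPointCharacter K g =
      permChar G ((G ⧸ H) × (G ⧸ K)) g := by
    intro g
    rw [permChar_prod]
    rfl
  rw [Finset.sum_congr rfl (fun g _ => h1 g), sum_permChar]
  have := card_ne_zero_complex G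
  field_simp

end inner

end Cfsg.Agent.Lib.Helper6.Flg
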