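import Mathlib
import Cfsg.Prelude.Def_ParabolicCharacters
import Cfsg.Agent.Lib.Helper6.Flg1
import Cfsg.Agent.Lib.Helper6.Flg3

set_option autoImplicit false
set_option linter.unusedSectionVars false
set_option linter.unusedVariables false
set_option linter.unusedSimpArgs false

/-! Corner ranks of a matrix with respect to two labelings of the indices: invariance under block
triangular matrices, and the values at permutation matrices. -/

namespace Cfsg.Agent.Lib.Helper6.Flg

open Matrix Cfsg

variable {n : ℕ} {F : Type*} [Field F] (a b : Fin n → ℕ)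

/-- the rank of the corner of `g` with rows of label at least `p.1` and columns of label at
most `p.2` -/
noncomputable def cornerRank (g : Matrix (Fin n) (Fin n) F) (p : ℕ × ℕ) : ℕ :=
  (g.submatrix (Subtype.val : {x : Fin n // p.1 ≤ a x} → Fin n)
    (Subtype.val : {y : Fin n // b y ≤ p.2} → Fin n)).rank

theorem sum_eq_sum_subtype (q : Fin n → Prop) [DecidablePred q] (f : Fin n → F)
    (hf : ∀ z, ¬ q z → f z = 0) : ∑ z, f z = ∑ z : {z // q z}, f z := by
  rw [← Finset.sum_filter_of_ne (p := q) (s := Finset.univ) (f := f)]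
  · exact Finset.sum_subtype (Finset.univ.filter q) (by simp) f
  · intro z _ hz
    by_contra hq
    exact hz (hf z hq)

theorem cornerRank_mul_left_le (P g : Matrix (Fin n) (Fin n) F) (hP : P.BlockTriangular a)
    (p : ℕ × ℕ) : cornerRank a b (P * g) p ≤ cornerRank a b g p := by
  unfold cornerRank
  have h : (P * g).submatrix (Subtype.val : {x : Fin n // p.1 ≤ a x} → Fin n)
      (Subtype.val : {y : Fin n // b y ≤ p.2} → Fin n) =
      P.submatrix (Subtype.val : {x : Fin n // p.1 ≤ a x} → Fin n) Subtype.val *
        g.submatrix (Subtype.val : {x : Fin n // p.1 ≤ a x} → Fin n)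
          (Subtype.val : {y : Fin n // b y ≤ p.2} → Fin n) := by
    ext x y
    simp only [Matrix.submatrix_apply, Matrix.mul_apply]
    apply sum_eq_sum_subtype (fun z => p.1 ≤ a z) (fun z => P x.1 z * g z y.1)
    intro z hz
    show P x.1 z * g z y.1 = 0
    have : P x.1 z = 0 := hP (lt_of_lt_of_le (not_le.mp hz) x.2)
    rw [this, zero_mul]
  rw [h]
  exact Matrix.rank_mul_le_right _ _

theorem cornerRank_mul_right_le (g Q : Matrix (Fin n) (Fin n) F) (hQ : Q.BlockTriangular b)
    (p : ℕ × ℕ) : cornerRank a b (g * Q) p ≤ cornerRank a b g p := by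
  unfold cornerRank
  have h : (g * Q).submatrix (Subtype.val : {x : Fin n // p.1 ≤ a x} → Fin n)
      (Subtype.val : {y : Fin n // b y ≤ p.2} → Fin n) =
      g.submatrix (Subtype.val : {x : Fin n // p.1 ≤ a x} → Fin n)
          (Subtype.val : {y : Fin n // b y ≤ p.2} → Fin n) *
        Q.submatrix (Subtype.val : {y : Fin n // b y ≤ p.2} → Fin n) Subtype.val := by
    ext x y
    simp only [Matrix.submatrix_apply, Matrix.mul_apply]
    apply sum_eq_sum_subtype (fun z => b z ≤ p.2) (fun z => g x.1 z * Q z y.1)
    intro z hz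
    show g x.1 z * Q z y.1 = 0
    have : Q z y.1 = 0 := hQ (lt_of_le_of_lt y.2 (not_le.mp hz))
    rw [this, mul_zero]
  rw [h]
  exact Matrix.rank_mul_le_left _ _

/-- corner ranks are constant on double cosets of the block triangular groups -/
theorem cornerRank_mul (P Q g : GL (Fin n) F) (hP : P.1.BlockTriangular a)
    (hP' : (P⁻¹).1.BlockTriangular a) (hQ : Q.1.BlockTriangular b)
    (hQ' : (Q⁻¹).1.BlockTriangular b) (p : ℕ × ℕ) :
    cornerRank a b ((P * g * Q : GL (Fin n) F) : Matrix (Fin n) (Fin n) F) p =
      cornerRank a b (g : Matrix (Fin n) (Fin n) F) p := by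
  apply le_antisymm
  · rw [Units.val_mul, Units.val_mul]
    exact (cornerRank_mul_right_le a b _ _ hQ p).trans (cornerRank_mul_left_le a b _ _ hP p)
  · have e : (g : Matrix (Fin n) (Fin n) F) =
        (P⁻¹).1 * ((P * g * Q : GL (Fin n) F) : Matrix (Fin n) (Fin n) F) * (Q⁻¹).1 := by
      rw [← Units.val_mul, ← Units.val_mul]
      congr 1
      group
    conv_lhs => rw [e]
    exact (cornerRank_mul_right_le a b _ _ hQ' p).trans (cornerRank_mul_left_le a b _ _ hP' p)

/-- the corner ranks of a permutation matrix -/
theorem cornerRank_perm (w : Equiv.Perm (Fin n)) (p : ℕ × ℕ) :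
    cornerRank a b ((Wgl n F w : GL (Fin n) F) : Matrix (Fin n) (Fin n) F) p = cs a b w p := by
  classical
  unfold cornerRank
  set M : Matrix {x : Fin n // p.1 ≤ a x} {y : Fin n // b y ≤ p.2} F :=
    ((Wgl n F w : GL (Fin n) F) : Matrix (Fin n) (Fin n) F).submatrix Subtype.val Subtype.val
    with hM
  have hMe : ∀ x y, M x y = if w.symm x.1 = y.1 then 1 else 0 := by
    intro x y
    rw [hM, Matrix.submatrix_apply, Wgl_apply]
  let d : {y : Fin n // b y ≤ p.2} → F := fun y => if p.1 ≤ a (w y.1) then 1 else 0
  have h1 : M * Matrix.diagonal d = M := by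
    ext x y
    rw [Matrix.mul_diagonal, hMe]
    split_ifs with h
    · have : p.1 ≤ a (w y.1) := by
        rw [← h, Equiv.apply_symm_apply]
        exact x.2
      show (1 : F) * (if p.1 ≤ a (w y.1) then 1 else 0) = 1
      rw [if_pos this, one_mul]
    · rw [zero_mul]
  have h2 : Mᵀ * M = Matrix.diagonal d := by
    ext y y'
    rw [Matrix.mul_apply, Matrix.diagonal_apply]
    simp only [Matrix.transpose_apply, hMe]
    by_cases hyy : y = y'
    · subst hyy
      rw [if_pos rfl]
      show _ = (if p.1 ≤ a (w y.1) then (1 : F) else 0)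
      by_cases hw : p.1 ≤ a (w y.1)
      · rw [if_pos hw, Finset.sum_eq_single (⟨w y.1, hw⟩ : {x : Fin n // p.1 ≤ a x})]
        · simp
        · intro x _ hx
          have : w.symm x.1 ≠ y.1 := by
            intro e
            apply hx
            apply Subtype.ext
            show x.1 = w y.1
            rw [← e, Equiv.apply_symm_apply]
          rw [if_neg this, zero_mul]
        · intro h
          exact absurd (Finset.mem_univ _) h
      · rw [if_neg hw]
        apply Finset.sum_eq_zero
        intro x _
        have : w.symm x.1 ≠ y.1 := by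
          intro e
          apply hw
          rw [← e, Equiv.apply_symm_apply]
          exact x.2
        rw [if_neg this, zero_mul]
    · rw [if_neg hyy]
      apply Finset.sum_eq_zero
      intro x _
      by_cases e : w.symm x.1 = y.1
      · have : w.symm x.1 ≠ y'.1 := by
          rw [e]
          intro e'
          exact hyy (Subtype.ext e')
        rw [if_neg this, mul_zero]
      · rw [if_neg e, zero_mul]
  have h3 : M.rank ≤ (Matrix.diagonal d).rank := by
    conv_lhs => rw [← h1]
    exact Matrix.rank_mul_le_right _ _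
  have h4 : (Matrix.diagonal d).rank ≤ M.rank := by
    rw [← h2]
    exact Matrix.rank_mul_le_right _ _
  rw [le_antisymm h3 h4, Matrix.rank_diagonal, Fintype.card_subtype]
  unfold cs
  apply Finset.card_bij (fun y _ => y.1)
  · intro y hy
    simp only [Finset.mem_filter, Finset.mem_univ, true_and, d] at hy ⊢
    refine ⟨?_, y.2⟩
    by_contra hno
    rw [if_neg hno] at hy
    exact hy rfl
  · intro y _ y' _ h
    exact Subtype.ext h
  · intro y hy
    simp only [Finset.mem_filter, Finset.mem_univ, true_and] at hy
    refine ⟨⟨y, hy.2⟩, ?_, rfl⟩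
    simp only [Finset.mem_filter, Finset.mem_univ, true_and, d]
    rw [if_pos hy.1]
    exact one_ne_zero

end Cfsg.Agent.Lib.Helper6.Flg
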