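import Mathlib
import Cfsg.Prelude.Def_LinearParabolics
import Cfsg.Agent.Lib.Helper6.Flg2
import Cfsg.Agent.Lib.Helper6.Flg4
import Cfsg.Agent.Lib.Helper6.ParabolicIndex

set_option autoImplicit false
set_option linter.unusedSectionVars false
set_option linter.unusedVariables false
set_option linter.unusedSimpArgs false

/-! The inner products of the permutation characters of `GL_n(F)` on flags and of the symmetric
group on set compositions: both count the tables of joint fibre sizes of permutations. -/

namespace Cfsg.Agent.Lib.Helper6.Flg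

open Matrix Cfsg Cfsg.Agent.Lib.Helper6.ParabolicIndex

variable {n : ℕ} {F : Type*} [Field F]

theorem upper_le_parabolic (α : Fin n → ℕ) : upperTriangularGL n F ≤ parabolicGL n F α := by
  intro g hg
  show (g : Matrix (Fin n) (Fin n) F).BlockTriangular (compLabel α)
  intro z y hzy
  apply hg
  show y < z
  by_contra hno
  exact absurd hzy (not_lt.mpr (compLabel_mono α (not_lt.mp hno)))

theorem Wgl_mem_parabolic (α : Fin n → ℕ) (s : Equiv.Perm (Fin n)) (hs : s ∈ lstab (compLabel α)) :
    Wgl n F s ∈ parabolicGL n F α := by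
  show ((Wgl n F s : GL (Fin n) F) : Matrix (Fin n) (Fin n) F).BlockTriangular (compLabel α)
  intro z y hzy
  rw [Wgl_apply]
  apply if_neg
  intro e
  rw [Equiv.symm_apply_eq] at e
  rw [e, hs y] at hzy
  exact lt_irrefl _ hzy

theorem cornerRank_eq_iff (α β : Fin n → ℕ) (g g' : GL (Fin n) F) :
    cornerRank (compLabel α) (compLabel β) (g : Matrix (Fin n) (Fin n) F) =
        cornerRank (compLabel α) (compLabel β) (g' : Matrix (Fin n) (Fin n) F) ↔
      ∃ h ∈ parabolicGL n F α, ∃ k ∈ parabolicGL n F β, g' = h * g * k := by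
  constructor
  · intro hgg
    obtain ⟨b₁, hb₁, w, b₂, hb₂, rfl⟩ := bruhat_exists g
    obtain ⟨b₁', hb₁', w', b₂', hb₂', rfl⟩ := bruhat_exists g'
    have hα := upper_le_parabolic (F := F) α
    have hβ := upper_le_parabolic (F := F) β
    have e1 : cornerRank (compLabel α) (compLabel β)
        ((b₁ * Wgl n F w * b₂ : GL (Fin n) F) : Matrix (Fin n) (Fin n) F) =
        cs (compLabel α) (compLabel β) w := by
      funext p
      rw [cornerRank_mul _ _ b₁ b₂ _ (hα hb₁) (hα (Subgroup.inv_mem _ hb₁)) (hβ hb₂)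
        (hβ (Subgroup.inv_mem _ hb₂)), cornerRank_perm]
    have e2 : cornerRank (compLabel α) (compLabel β)
        ((b₁' * Wgl n F w' * b₂' : GL (Fin n) F) : Matrix (Fin n) (Fin n) F) =
        cs (compLabel α) (compLabel β) w' := by
      funext p
      rw [cornerRank_mul _ _ b₁' b₂' _ (hα hb₁') (hα (Subgroup.inv_mem _ hb₁')) (hβ hb₂')
        (hβ (Subgroup.inv_mem _ hb₂')), cornerRank_perm]
    rw [e1, e2, cs_eq_iff] at hgg
    obtain ⟨s, hs, s', hs', rfl⟩ := exists_of_table_eq _ _ w w' hgg
    refine ⟨b₁' * Wgl n F s * b₁⁻¹, ?_, b₂⁻¹ * Wgl n F s' * b₂', ?_, ?_⟩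
    · exact Subgroup.mul_mem _ (Subgroup.mul_mem _ (hα hb₁') (Wgl_mem_parabolic α s hs))
        (hα (Subgroup.inv_mem _ hb₁))
    · exact Subgroup.mul_mem _ (Subgroup.mul_mem _ (hβ (Subgroup.inv_mem _ hb₂))
        (Wgl_mem_parabolic β s' hs')) (hβ hb₂')
    · rw [map_mul, map_mul]
      group
  · rintro ⟨h, hh, k, hk, rfl⟩
    funext p
    exact (cornerRank_mul _ _ h k g hh (Subgroup.inv_mem _ hh) hk (Subgroup.inv_mem _ hk) p).symm

theorem range_cornerRank (α β : Fin n → ℕ) :
    Set.range (fun g : GL (Fin n) F =>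
      cornerRank (compLabel α) (compLabel β) (g : Matrix (Fin n) (Fin n) F)) =
      Set.range (cs (compLabel α) (compLabel β)) := by
  ext f
  constructor
  · rintro ⟨g, rfl⟩
    obtain ⟨b₁, hb₁, w, b₂, hb₂, rfl⟩ := bruhat_exists g
    have hα := upper_le_parabolic (F := F) α
    have hβ := upper_le_parabolic (F := F) β
    refine ⟨w, ?_⟩
    funext p
    show _ = cornerRank (compLabel α) (compLabel β)
      ((b₁ * Wgl n F w * b₂ : GL (Fin n) F) : Matrix (Fin n) (Fin n) F) p
    rw [cornerRank_mul _ _ b₁ b₂ _ (hα hb₁) (hα (Subgroup.inv_mem _ hb₁)) (hβ hb₂)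
      (hβ (Subgroup.inv_mem _ hb₂)), cornerRank_perm]
  · rintro ⟨w, rfl⟩
    refine ⟨Wgl n F w, ?_⟩
    funext p
    exact cornerRank_perm _ _ w p

/-- the inner product of two flag characters of `GL_n(F)` -/
theorem inner_parabolic [Fintype (GL (Fin n) F)] (α β : Fin n → ℕ) :
    (Nat.card (GL (Fin n) F) : ℂ)⁻¹ * ∑ g : GL (Fin n) F,
        fixedPointCharacter (parabolicGL n F α) g * fixedPointCharacter (parabolicGL n F β) g =
      (Nat.card (Set.range (table (compLabel α) (compLabel β))) : ℂ) := by
  rw [inner_fixedPointCharacter,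
    card_orbits_prod (parabolicGL n F α) (parabolicGL n F β)
      (fun g : GL (Fin n) F =>
        cornerRank (compLabel α) (compLabel β) (g : Matrix (Fin n) (Fin n) F))
      (cornerRank_eq_iff α β),
    range_cornerRank,
    card_range_eq_of_iff (cs (compLabel α) (compLabel β)) (table (compLabel α) (compLabel β))
      (cs_eq_iff _ _)]

theorem youngSubgroup_eq (α : Fin n → ℕ) : youngSubgroup α = lstab (compLabel α) :=
  Subgroup.ext fun _ => Iff.rfl

/-- the inner product of two Young permutation characters -/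
theorem inner_young (α β : Fin n → ℕ) :
    (Nat.card (Equiv.Perm (Fin n)) : ℂ)⁻¹ * ∑ σ : Equiv.Perm (Fin n),
        fixedPointCharacter (youngSubgroup α) σ * fixedPointCharacter (youngSubgroup β) σ =
      (Nat.card (Set.range (table (compLabel α) (compLabel β))) : ℂ) := by
  rw [inner_fixedPointCharacter,
    card_orbits_prod (youngSubgroup α) (youngSubgroup β) (table (compLabel α) (compLabel β))
      (by
        intro w w'
        rw [youngSubgroup_eq, youngSubgroup_eq]
        exact table_eq_iff _ _ w w')]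

end Cfsg.Agent.Lib.Helper6.Flg
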