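import Mathlib
import Cfsg.Prelude.Def_LinearParabolics
import Cfsg.Agent.Lib.Helper6.ParabolicIndex

/-!
# Degrees of the partition-indexed characters of `GL_n(q)`
-/

set_option autoImplicit false

namespace Cfsg.Agent.Lib.Helper6.UnipotentDegree

open Cfsg Cfsg.Agent.Lib.Helper6.ParabolicIndex Polynomial

section arith

variable (q : ℕ)

lemma qint_add (t d : ℕ) : qint q (t + d) = qint q t + q ^ t * qint q d := by
  unfold qint
  rw [Finset.sum_range_add, Finset.mul_sum]
  congr 1
  apply Finset.sum_congr rfl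
  intro l _
  rw [pow_add]

/-- triangular numbers -/
def tri (m : ℕ) : ℕ := ∑ t ∈ Finset.range m, t

/-- tetrahedral numbers -/
def tet (n : ℕ) : ℕ := ∑ m ∈ Finset.range n, tri m

lemma tri_mul_two (m : ℕ) : tri m * 2 = m * (m - 1) := Finset.sum_range_id_mul_two m

lemma tet_mul_six (n : ℕ) : tet n * 6 = n * (n - 1) * (n - 2) := by
  induction n with
  | zero => simp [tet]
  | succ n ih =>
    rw [tet, Finset.sum_range_succ, ← tet, add_mul]
    have h1 : tri n * 6 = 3 * (n * (n - 1)) := by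
      rw [← tri_mul_two]; ring
    rw [ih, h1]
    rcases n with _ | _ | k
    · simp
    · simp
    · simp only [Nat.add_sub_cancel]
      have e1 : k + 1 + 1 - 1 = k + 1 := by omega
      have e2 : k + 1 + 1 - 2 = k := by omega
      have e3 : k + 1 + 1 + 1 - 2 = k + 1 := by omega
      rw [e2, e3]
      ring

lemma tet_eq (n : ℕ) : tet n = n * (n - 1) * (n - 2) / 6 := by
  rw [← tet_mul_six, Nat.mul_div_cancel _ (by norm_num)]

/-- the q-factorial, as a complex number -/
noncomputable def qf (m : ℕ) : ℂ := ∏ t ∈ Finset.range m, ((qint q (t + 1) : ℕ) : ℂ)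

lemma qf_split (L m : ℕ) (h : m ≤ L) :
    qf q L = qf q (L - m) * ∏ t ∈ Finset.range m, ((qint q (L - t) : ℕ) : ℂ) := by
  induction m with
  | zero => simp
  | succ m ih =>
    have h1 := ih (by omega)
    have e : L - m = (L - (m + 1)) + 1 := by omega
    have h2 : qf q (L - m) = qf q (L - (m + 1)) * ((qint q (L - m) : ℕ) : ℂ) := by
      conv_lhs => rw [e, qf, Finset.prod_range_succ, ← qf]
      rw [← e]
    rw [h1, h2, Finset.prod_range_succ]
    ring

lemma prod_sub (L m : ℕ) (h : m ≤ L) :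
    ∏ t ∈ Finset.range m, (((qint q L : ℕ) : ℂ) - ((qint q t : ℕ) : ℂ))
      = (q : ℂ) ^ tri m * ∏ t ∈ Finset.range m, ((qint q (L - t) : ℕ) : ℂ) := by
  rw [tri, ← Finset.prod_pow_eq_pow_sum, ← Finset.prod_mul_distrib]
  apply Finset.prod_congr rfl
  intro t ht
  have ht' := Finset.mem_range.1 ht
  have e : L = t + (L - t) := by omega
  have h1 := qint_add q t (L - t)
  rw [← e] at h1
  rw [h1]
  push_cast
  ring

lemma prod_sub_zero (L m : ℕ) (h : L < m) :
    ∏ t ∈ Finset.range m, (((qint q L : ℕ) : ℂ) - ((qint q t : ℕ) : ℂ)) = 0 :=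
  Finset.prod_eq_zero (Finset.mem_range.2 h) (sub_self _)

end arith

theorem fixedPointCharacter_one {G : Type*} [Group G] (H : Subgroup G) :
    fixedPointCharacter H 1 = (Nat.card (G ⧸ H) : ℂ) := by
  unfold fixedPointCharacter
  congr 1
  exact Nat.card_congr (Equiv.subtypeUnivEquiv (fun x => one_smul G x))

section main

variable {F : Type*} [Field F] [Fintype F] {n : ℕ} (ν : Fin n → ℕ) (hsum : ∑ i, ν i = n)

include hsum in
lemma sum_comp (κ : Equiv.Perm (Fin n)) (hκ : ∀ i : Fin n, (κ i).val ≤ ν i + i.val) :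
    ∑ i : Fin n, (ν i + i.val - (κ i).val) = n := by
  have h1 : ∑ i : Fin n, (ν i + i.val - (κ i).val) + ∑ i : Fin n, (κ i).val
      = ∑ i : Fin n, (ν i + i.val) := by
    rw [← Finset.sum_add_distrib]
    apply Finset.sum_congr rfl
    intro i _
    exact Nat.sub_add_cancel (hκ i)
  have h2 : ∑ i : Fin n, (κ i).val = ∑ i : Fin n, i.val :=
    Equiv.sum_comp κ (fun i : Fin n => i.val)
  rw [Finset.sum_add_distrib, hsum, h2] at h1
  omega

include hsum in
lemma term_eq (κ : Equiv.Perm (Fin n)) :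
    (if ∀ i : Fin n, (κ i).val ≤ ν i + i.val then
        ((Equiv.Perm.sign κ : ℤ) : ℂ) *
          fixedPointCharacter (parabolicGL n F fun i => ν i + i.val - (κ i).val) 1
      else 0) * (Fintype.card F : ℂ) ^ tet n * ∏ i : Fin n, qf (Fintype.card F) (ν i + i.val)
    = (∏ j ∈ Finset.range n, ((qint (Fintype.card F) (j + 1) : ℕ) : ℂ)) *
        (((Equiv.Perm.sign κ : ℤ) : ℂ) * ∏ i : Fin n, ∏ t ∈ Finset.range (κ i).val,
          (((qint (Fintype.card F) (ν i + i.val) : ℕ) : ℂ) - ((qint (Fintype.card F) t : ℕ) : ℂ))) := by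
  by_cases hκ : ∀ i : Fin n, (κ i).val ≤ ν i + i.val
  · rw [if_pos hκ, fixedPointCharacter_one]
    have hidx := index_parabolic (F := F) (fun i => ν i + i.val - (κ i).val) (sum_comp ν hsum κ hκ)
    have hidx' : (Nat.card (GL (Fin n) F ⧸ parabolicGL n F fun i => ν i + i.val - (κ i).val) : ℂ)
        * ∏ i : Fin n, qf (Fintype.card F) (ν i + i.val - (κ i).val)
        = ∏ j ∈ Finset.range n, ((qint (Fintype.card F) (j + 1) : ℕ) : ℂ) := by
      have := congrArg (fun k : ℕ => (k : ℂ)) hidx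
      simp only [Nat.cast_mul, Nat.cast_prod] at this
      exact this
    have hprod : ∏ i : Fin n, ∏ t ∈ Finset.range (κ i).val,
          (((qint (Fintype.card F) (ν i + i.val) : ℕ) : ℂ) - ((qint (Fintype.card F) t : ℕ) : ℂ))
        = (Fintype.card F : ℂ) ^ tet n * ∏ i : Fin n, ∏ t ∈ Finset.range (κ i).val,
            ((qint (Fintype.card F) (ν i + i.val - t) : ℕ) : ℂ) := by
      rw [Finset.prod_congr rfl (fun i _ => prod_sub (Fintype.card F) _ _ (hκ i)),
        Finset.prod_mul_distrib, Finset.prod_pow_eq_pow_sum]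
      congr 2
      rw [Equiv.sum_comp κ (fun i : Fin n => tri i.val), tet,
        Fin.sum_univ_eq_sum_range (fun m => tri m) n]
    have hsplit : ∏ i : Fin n, qf (Fintype.card F) (ν i + i.val)
        = (∏ i : Fin n, qf (Fintype.card F) (ν i + i.val - (κ i).val))
          * ∏ i : Fin n, ∏ t ∈ Finset.range (κ i).val,
            ((qint (Fintype.card F) (ν i + i.val - t) : ℕ) : ℂ) := by
      rw [← Finset.prod_mul_distrib]
      apply Finset.prod_congr rfl
      intro i _
      exact qf_split _ _ _ (hκ i)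
    rw [hprod, hsplit, ← hidx']
    ring
  · rw [if_neg hκ]
    push Not at hκ
    obtain ⟨i, hi⟩ := hκ
    have : ∏ i : Fin n, ∏ t ∈ Finset.range (κ i).val,
          (((qint (Fintype.card F) (ν i + i.val) : ℕ) : ℂ) - ((qint (Fintype.card F) t : ℕ) : ℂ))
        = 0 :=
      Finset.prod_eq_zero (Finset.mem_univ i) (prod_sub_zero _ _ _ hi)
    rw [this]
    ring

/-- the polynomials whose values are the falling q-factorials -/
noncomputable def fallPoly (q : ℕ) (m : ℕ) : ℂ[X] :=
  ∏ t ∈ Finset.range m, (X - C ((qint q t : ℕ) : ℂ))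

lemma fallPoly_monic (q m : ℕ) : (fallPoly q m).Monic :=
  monic_prod_of_monic _ _ (fun t _ => monic_X_sub_C _)

lemma fallPoly_natDegree (q m : ℕ) : (fallPoly q m).natDegree = m := by
  rw [fallPoly, natDegree_prod_of_monic _ _ (fun _ _ => monic_X_sub_C _),
    Finset.sum_congr rfl (fun _ _ => natDegree_X_sub_C _)]
  simp

lemma fallPoly_eval (q m : ℕ) (x : ℂ) :
    (fallPoly q m).eval x = ∏ t ∈ Finset.range m, (x - ((qint q t : ℕ) : ℂ)) := by
  rw [fallPoly, eval_prod]
  simp

lemma det_sum (q : ℕ) (x : Fin n → ℂ) :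
    ∑ κ : Equiv.Perm (Fin n), ((Equiv.Perm.sign κ : ℤ) : ℂ) *
        ∏ i : Fin n, ∏ t ∈ Finset.range (κ i).val, (x i - ((qint q t : ℕ) : ℂ))
      = ∏ i : Fin n, ∏ j ∈ Finset.univ.filter (fun j : Fin n => i < j), (x j - x i) := by
  have h1 := Matrix.det_eval_matrixOfPolynomials_eq_det_vandermonde x
    (fun m : Fin n => fallPoly q m.val) (fun m => fallPoly_natDegree q m.val)
    (fun m => fallPoly_monic q m.val)
  rw [Matrix.det_vandermonde] at h1
  have h2 : (∏ i : Fin n, ∏ j ∈ Finset.univ.filter (fun j : Fin n => i < j), (x j - x i))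
      = ∏ i : Fin n, ∏ j ∈ Finset.Ioi i, (x j - x i) := by
    apply Finset.prod_congr rfl
    intro i _
    apply Finset.prod_congr _ (fun _ _ => rfl)
    ext j
    simp
  rw [h2, h1, ← Matrix.det_transpose, Matrix.det_apply']
  apply Finset.sum_congr rfl
  intro κ _
  congr 1
  apply Finset.prod_congr rfl
  intro i _
  rw [Matrix.transpose_apply, Matrix.of_apply, fallPoly_eval]

include hsum in
theorem degree_formula :
    unipotentCharacterGL n F ν 1 * (Fintype.card F : ℂ) ^ tet n
        * ∏ i : Fin n, qf (Fintype.card F) (ν i + i.val)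
      = (∏ j ∈ Finset.range n, ((qint (Fintype.card F) (j + 1) : ℕ) : ℂ)) *
        ∏ i : Fin n, ∏ j ∈ Finset.univ.filter (fun j : Fin n => i < j),
          (((qint (Fintype.card F) (ν j + j.val) : ℕ) : ℂ)
            - ((qint (Fintype.card F) (ν i + i.val) : ℕ) : ℂ)) := by
  unfold unipotentCharacterGL
  rw [Finset.sum_mul, Finset.sum_mul, Finset.sum_congr rfl (fun κ _ => term_eq (F := F) ν hsum κ),
    ← Finset.mul_sum,
    det_sum (Fintype.card F) (fun i => ((qint (Fintype.card F) (ν i + i.val) : ℕ) : ℂ))]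

end main

end Cfsg.Agent.Lib.Helper6.UnipotentDegree
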