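import Mathlib
import Cfsg.Prelude.Def_LinearParabolics
import Cfsg.Prelude.Def_Characters
import Cfsg.Agent.Lib.Helper6.Flg5
import Cfsg.Agent.Lib.Helper6.Flg6
import Cfsg.Agent.Lib.Helper6.Cau3
import Cfsg.Agent.Lib.Helper6.UnipotentDegree
import Cfsg.Agent.Lib.Helper6.GaloisConj
import Cfsg.Agent.Lib.Helper6.PermChar

set_option autoImplicit false
set_option linter.unusedSectionVars false
set_option linter.unusedVariables false
set_option linter.unusedSimpArgs false

/-! The partition-indexed alternating sums of flag characters of `GL_n(q)` are orthonormal, hence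
irreducible characters, pairwise different. -/

namespace Cfsg.Agent.Lib.Helper6.UniGL

open Cfsg Cfsg.Agent.Lib.Helper6.Flg Cfsg.Agent.Lib.Helper6.Cau
open Cfsg.Agent.Lib.Helper6.ParabolicIndex
open scoped MatrixGroups ComplexConjugate

variable {F : Type*} [Field F] {n : ℕ}

theorem inner_flag [Fintype (GL (Fin n) F)] (α β : Fin n → ℕ) (hα : ∑ i, α i = n)
    (hβ : ∑ i, β i = n) :
    (Nat.card (GL (Fin n) F) : ℂ)⁻¹ * ∑ g : GL (Fin n) F,
        fixedPointCharacter (parabolicGL n F α) g * fixedPointCharacter (parabolicGL n F β) g =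
      (Nat.card (Margins n α β) : ℂ) := by
  rw [inner_parabolic α β, card_range_table _ _ n (compLabel_lt α hα) (compLabel_lt β hβ)]
  have e1 : (fun i : Fin n => fiberCard (compLabel α) i.val) = α :=
    funext (fiberCard_compLabel α hα)
  have e2 : (fun j : Fin n => fiberCard (compLabel β) j.val) = β :=
    funext (fiberCard_compLabel β hβ)
  rw [e1, e2]

open scoped Classical in
/-- the summands of the alternating sum of numbers of tables -/
noncomputable def term (lam lam' : Fin n → ℕ) (κ κ' : Equiv.Perm (Fin n)) : ℤ :=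
  if (∀ i, (κ i).val ≤ lam i) ∧ (∀ j, (κ' j).val ≤ lam' j) then
    (Equiv.Perm.sign κ : ℤ) * (Equiv.Perm.sign κ' : ℤ) *
      (Nat.card (Margins n (fun i => lam i - (κ i).val) (fun j => lam' j - (κ' j).val)) : ℤ)
  else 0

theorem sum_term (n : ℕ) : ∃ ε : ℤ, (ε = 1 ∨ ε = -1) ∧
    ∀ lam lam' : Fin n → ℕ, StrictMono lam → StrictMono lam' →
      ∑ κ : Equiv.Perm (Fin n), ∑ κ' : Equiv.Perm (Fin n), term lam lam' κ κ' =
        if lam = lam' then ε else 0 := by
  classical
  obtain ⟨ε, hε, h⟩ := cauchy_count n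
  refine ⟨ε, hε, ?_⟩
  intro lam lam' hl hl'
  have := h lam lam' hl hl'
  unfold term
  by_cases hh : lam = lam'
  · rw [if_pos hh]
    rw [if_pos hh, mul_one] at this
    convert this using 6
  · rw [if_neg hh]
    rw [if_neg hh, mul_zero] at this
    convert this using 6

/-- the summands of the alternating sum of flag characters -/
noncomputable def summand (ν : Fin n → ℕ) (κ : Equiv.Perm (Fin n)) (g : GL (Fin n) F) : ℂ :=
  if ∀ i : Fin n, (κ i).val ≤ ν i + i.val then
    ((Equiv.Perm.sign κ : ℤ) : ℂ) *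
      fixedPointCharacter (parabolicGL n F fun i => ν i + i.val - (κ i).val) g
  else 0

theorem unipotent_eq (ν : Fin n → ℕ) (g : GL (Fin n) F) :
    unipotentCharacterGL n F ν g = ∑ κ : Equiv.Perm (Fin n), summand ν κ g := rfl

theorem conj_summand (ν : Fin n → ℕ) (κ : Equiv.Perm (Fin n)) (g : GL (Fin n) F) :
    conj (summand ν κ g) = summand ν κ g := by
  unfold summand
  split_ifs
  · rw [map_mul, map_intCast]
    congr 1
    exact Complex.conj_natCast _
  · exact map_zero _

theorem conj_unipotent (ν : Fin n → ℕ) (g : GL (Fin n) F) :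
    conj (unipotentCharacterGL n F ν g) = unipotentCharacterGL n F ν g := by
  rw [unipotent_eq, map_sum]
  exact Finset.sum_congr rfl (fun κ _ => conj_summand ν κ g)

theorem inner_summand [Fintype (GL (Fin n) F)] (ν ν' : Fin n → ℕ) (hsum : ∑ i, ν i = n)
    (hsum' : ∑ i, ν' i = n) (κ κ' : Equiv.Perm (Fin n)) :
    (Nat.card (GL (Fin n) F) : ℂ)⁻¹ * ∑ g : GL (Fin n) F, summand ν κ g * summand ν' κ' g =
      ((term (fun i => ν i + i.val) (fun i => ν' i + i.val) κ κ' : ℤ) : ℂ) := by
  unfold term summand
  by_cases h1 : ∀ i : Fin n, (κ i).val ≤ ν i + i.val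
  · by_cases h2 : ∀ i : Fin n, (κ' i).val ≤ ν' i + i.val
    · rw [if_pos ⟨h1, h2⟩]
      simp only [if_pos h1, if_pos h2]
      have h3 : ∀ g : GL (Fin n) F,
          ((Equiv.Perm.sign κ : ℤ) : ℂ) *
            fixedPointCharacter (parabolicGL n F fun i => ν i + i.val - (κ i).val) g *
          (((Equiv.Perm.sign κ' : ℤ) : ℂ) *
            fixedPointCharacter (parabolicGL n F fun i => ν' i + i.val - (κ' i).val) g) =
          (((Equiv.Perm.sign κ : ℤ) : ℂ) * ((Equiv.Perm.sign κ' : ℤ) : ℂ)) *
            (fixedPointCharacter (parabolicGL n F fun i => ν i + i.val - (κ i).val) g *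
              fixedPointCharacter (parabolicGL n F fun i => ν' i + i.val - (κ' i).val) g) := by
        intro g
        ring
      rw [Finset.sum_congr rfl (fun g _ => h3 g), ← Finset.mul_sum, mul_left_comm,
        inner_flag _ _ (UnipotentDegree.sum_comp ν hsum κ h1)
          (UnipotentDegree.sum_comp ν' hsum' κ' h2)]
      push_cast
      ring
    · rw [if_neg (fun h => h2 h.2)]
      simp only [if_neg h2, mul_zero, Finset.sum_const_zero, Int.cast_zero]
  · rw [if_neg (fun h => h1 h.1)]
    simp only [if_neg h1, zero_mul, Finset.sum_const_zero, mul_zero, Int.cast_zero]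

theorem classInner_unipotent [Fintype (GL (Fin n) F)] (ν ν' : Fin n → ℕ) (hsum : ∑ i, ν i = n)
    (hsum' : ∑ i, ν' i = n) :
    classInner (unipotentCharacterGL n F ν) (unipotentCharacterGL n F ν') =
      ((∑ κ : Equiv.Perm (Fin n), ∑ κ' : Equiv.Perm (Fin n),
        term (fun i => ν i + i.val) (fun i => ν' i + i.val) κ κ' : ℤ) : ℂ) := by
  unfold classInner
  have h1 : ∀ g : GL (Fin n) F,
      unipotentCharacterGL n F ν g * conj (unipotentCharacterGL n F ν' g) =
        ∑ κ : Equiv.Perm (Fin n), ∑ κ' : Equiv.Perm (Fin n), summand ν κ g * summand ν' κ' g := by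
    intro g
    rw [conj_unipotent, unipotent_eq, unipotent_eq, Finset.sum_mul_sum]
  rw [Finset.sum_congr rfl (fun g _ => h1 g), Finset.sum_comm, Finset.mul_sum]
  push_cast
  apply Finset.sum_congr rfl
  intro κ _
  rw [Finset.sum_comm, Finset.mul_sum]
  apply Finset.sum_congr rfl
  intro κ' _
  exact inner_summand ν ν' hsum hsum' κ κ'

theorem strictMono_lam (ν : Fin n → ℕ) (hmono : Monotone ν) :
    StrictMono (fun i : Fin n => ν i + i.val) := by
  intro i j hij
  have h1 := hmono hij.le
  have h2 : i.val < j.val := hij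
  show ν i + i.val < ν j + j.val
  omega

theorem lam_eq_iff (ν ν' : Fin n → ℕ) :
    (fun i : Fin n => ν i + i.val) = (fun i : Fin n => ν' i + i.val) ↔ ν = ν' := by
  constructor
  · intro h
    funext i
    have : ν i + i.val = ν' i + i.val := congrFun h i
    omega
  · rintro rfl
    rfl

theorem classInner_self_re_nonneg {G : Type*} [Group G] [Fintype G] (f : G → ℂ) :
    0 ≤ (classInner f f).re := by
  unfold classInner
  have h1 : ∑ g : G, f g * conj (f g) = ((∑ g : G, Complex.normSq (f g) : ℝ) : ℂ) := by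
    rw [Complex.ofReal_sum]
    apply Finset.sum_congr rfl
    intro g _
    exact Complex.mul_conj (f g)
  rw [h1, ← Complex.ofReal_natCast, ← Complex.ofReal_inv, ← Complex.ofReal_mul, Complex.ofReal_re]
  apply mul_nonneg
  · exact inv_nonneg.mpr (Nat.cast_nonneg _)
  · exact Finset.sum_nonneg (fun g _ => Complex.normSq_nonneg _)

/-- orthonormality -/
theorem classInner_unipotent_eq [Fintype (GL (Fin n) F)] (ν ν' : Fin n → ℕ)
    (hmono : Monotone ν) (hsum : ∑ i, ν i = n) (hmono' : Monotone ν') (hsum' : ∑ i, ν' i = n) :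
    classInner (unipotentCharacterGL n F ν) (unipotentCharacterGL n F ν') =
      if ν = ν' then 1 else 0 := by
  classical
  obtain ⟨ε, hε, h⟩ := sum_term n
  have hε1 : ε = 1 := by
    rcases hε with h1 | h1
    · exact h1
    · exfalso
      have h2 := classInner_unipotent (F := F) ν ν hsum hsum
      rw [h _ _ (strictMono_lam ν hmono) (strictMono_lam ν hmono), if_pos rfl, h1] at h2
      have h3 := classInner_self_re_nonneg (unipotentCharacterGL n F ν)
      rw [h2] at h3
      simp at h3
      linarith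
  rw [classInner_unipotent ν ν' hsum hsum',
    h _ _ (strictMono_lam ν hmono) (strictMono_lam ν' hmono'), hε1]
  by_cases hνν : ν = ν'
  · rw [if_pos hνν, if_pos ((lam_eq_iff ν ν').mpr hνν)]
    simp
  · rw [if_neg hνν, if_neg (fun hh => hνν ((lam_eq_iff ν ν').mp hh))]
    simp

theorem isGeneralizedCharacter_unipotent [Finite (GL (Fin n) F)] (ν : Fin n → ℕ) :
    IsGeneralizedCharacter (GL (Fin n) F) (unipotentCharacterGL n F ν) := by
  have e : unipotentCharacterGL n F ν = ∑ κ : Equiv.Perm (Fin n), summand ν κ := by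
    funext g
    rw [Finset.sum_apply]
    rfl
  rw [e]
  apply IsGeneralizedCharacter.sum
  intro κ _
  by_cases h1 : ∀ i : Fin n, (κ i).val ≤ ν i + i.val
  · have e2 : summand ν κ = ((Equiv.Perm.sign κ : ℤ) : ℂ) •
        permChar (GL (Fin n) F)
          (GL (Fin n) F ⧸ parabolicGL n F fun i => ν i + i.val - (κ i).val) := by
      funext g
      unfold summand
      rw [if_pos h1]
      rfl
    rw [e2]
    apply IsGeneralizedCharacter.intCast_smul
    exact IsCharacter.isGeneralizedCharacter (isCharacter_permChar (G := GL (Fin n) F)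
      (GL (Fin n) F ⧸ parabolicGL n F fun i => ν i + i.val - (κ i).val))
  · have e2 : summand (F := F) ν κ = 0 := by
      funext g
      unfold summand
      rw [if_neg h1]
      rfl
    rw [e2]
    exact IsGeneralizedCharacter.zero

section degree

variable [Fintype F]

theorem qint_succ_pos (q t : ℕ) : 0 < qint q (t + 1) := by
  unfold qint
  rw [Finset.sum_range_succ', pow_zero]
  omega

theorem qint_strictMono (q : ℕ) (hq : 0 < q) {a b : ℕ} (hab : a < b) : qint q a < qint q b := by
  obtain ⟨d, rfl⟩ : ∃ d, b = a + (d + 1) := ⟨b - a - 1, by omega⟩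
  rw [UnipotentDegree.qint_add]
  have := qint_succ_pos q d
  have h2 : 0 < q ^ a := pow_pos hq a
  have := Nat.mul_pos h2 this
  omega

theorem unipotent_one_re_pos (ν : Fin n → ℕ) (hmono : Monotone ν) (hsum : ∑ i, ν i = n) :
    0 < (unipotentCharacterGL n F ν 1).re := by
  have hq : 0 < Fintype.card F := Fintype.card_pos
  set q := Fintype.card F with hqdef
  have h := UnipotentDegree.degree_formula (F := F) ν hsum
  rw [← hqdef] at h
  obtain ⟨A, hAdef⟩ : ∃ A : ℝ, A = (q : ℝ) ^ UnipotentDegree.tet n *
    ∏ i : Fin n, ∏ t ∈ Finset.range (ν i + i.val), ((qint q (t + 1) : ℕ) : ℝ) := ⟨_, rfl⟩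
  obtain ⟨B, hBdef⟩ : ∃ B : ℝ, B = (∏ j ∈ Finset.range n, ((qint q (j + 1) : ℕ) : ℝ)) *
    ∏ i : Fin n, ∏ j ∈ Finset.univ.filter (fun j : Fin n => i < j),
      (((qint q (ν j + j.val) : ℕ) : ℝ) - ((qint q (ν i + i.val) : ℕ) : ℝ)) := ⟨_, rfl⟩
  have hA : 0 < A := by
    rw [hAdef]
    apply mul_pos
    · exact pow_pos (by exact_mod_cast hq) _
    · apply Finset.prod_pos
      intro i _
      apply Finset.prod_pos
      intro t _
      exact_mod_cast qint_succ_pos q t
  have hB : 0 < B := by
    rw [hBdef]
    apply mul_pos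
    · apply Finset.prod_pos
      intro j _
      exact_mod_cast qint_succ_pos q j
    · apply Finset.prod_pos
      intro i _
      apply Finset.prod_pos
      intro j hj
      rw [Finset.mem_filter] at hj
      apply sub_pos.mpr
      have := qint_strictMono q hq (strictMono_lam ν hmono hj.2)
      exact_mod_cast this
  have hAB : unipotentCharacterGL n F ν 1 * (A : ℂ) = (B : ℂ) := by
    have eA : (A : ℂ) = (q : ℂ) ^ UnipotentDegree.tet n *
        ∏ i : Fin n, UnipotentDegree.qf q (ν i + i.val) := by
      unfold UnipotentDegree.qf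
      rw [hAdef]
      push_cast
      rfl
    have eB : (B : ℂ) = (∏ j ∈ Finset.range n, ((qint q (j + 1) : ℕ) : ℂ)) *
        ∏ i : Fin n, ∏ j ∈ Finset.univ.filter (fun j : Fin n => i < j),
          (((qint q (ν j + j.val) : ℕ) : ℂ) - ((qint q (ν i + i.val) : ℕ) : ℂ)) := by
      rw [hBdef]
      push_cast
      rfl
    rw [eA, eB, ← h]
    ring
  have hA' : (A : ℂ) ≠ 0 := by exact_mod_cast hA.ne'
  have h5 : unipotentCharacterGL n F ν 1 = ((B / A : ℝ) : ℂ) := by
    rw [Complex.ofReal_div]
    exact eq_div_of_mul_eq hA' hAB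
  rw [h5, Complex.ofReal_re]
  exact div_pos hB hA

/-- the alternating sums of flag characters are irreducible characters -/
theorem isIrrCharacter_unipotent (ν : Fin n → ℕ) (hmono : Monotone ν) (hsum : ∑ i, ν i = n) :
    IsIrrCharacter (GL (Fin n) F) (unipotentCharacterGL n F ν) := by
  classical
  have : Fintype (GL (Fin n) F) := inferInstance
  apply IsGeneralizedCharacter.isIrrCharacter_of_norm_one
    (isGeneralizedCharacter_unipotent ν)
  · rw [classInner_unipotent_eq ν ν hmono hsum hmono hsum, if_pos rfl]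
  · exact unipotent_one_re_pos ν hmono hsum

/-- different partitions give different characters -/
theorem unipotent_injective (ν ν' : Fin n → ℕ) (hmono : Monotone ν) (hsum : ∑ i, ν i = n)
    (hmono' : Monotone ν') (hsum' : ∑ i, ν' i = n)
    (h : unipotentCharacterGL n F ν = unipotentCharacterGL n F ν') : ν = ν' := by
  classical
  have : Fintype (GL (Fin n) F) := inferInstance
  by_contra hne
  have h1 := classInner_unipotent_eq (F := F) ν ν' hmono hsum hmono' hsum'
  have h2 := classInner_unipotent_eq (F := F) ν ν hmono hsum hmono hsum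
  rw [if_neg hne, ← h] at h1
  rw [if_pos rfl, h1] at h2
  exact zero_ne_one h2

end degree

end Cfsg.Agent.Lib.Helper6.UniGL
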