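import Mathlib
import Cfsg.Agent.Lib.Helper6.UniGL1
import Cfsg.Agent.Lib.Helper6.BW6

set_option autoImplicit false
set_option linter.unusedSectionVars false
set_option linter.unusedVariables false
set_option linter.unusedSimpArgs false

/-! The restrictions of the alternating sums of flag characters of `GL_n(q)` to `SL_n(q)` stay
orthonormal: the orbits of `SL_n(q)` on pairs of flags are those of `GL_n(q)`. -/

namespace Cfsg.Agent.Lib.Helper6.UniGL

open Cfsg Cfsg.Agent.Lib.Helper6.Flg Cfsg.Agent.Lib.Helper6.Cau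
open Cfsg.Agent.Lib.Helper6.ParabolicIndex
open scoped MatrixGroups ComplexConjugate

section general

variable {G S : Type*} [Group G] [Group S] [Fintype S] (ι : S →* G)

/-- Burnside's lemma for a group acting through a homomorphism with the same orbits -/
theorem sum_permChar_comp (X : Type*) [MulAction G X] [Finite X]
    (h : ∀ (z : X) (g : G), ∃ s : S, ι s • z = g • z) :
    ∑ s : S, permChar G X (ι s) =
      (Nat.card (Quotient (MulAction.orbitRel G X)) : ℂ) * (Nat.card S : ℂ) := by
  let _ : MulAction S X := MulAction.compHom X ι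
  have h1 := sum_permChar (G := S) X
  have h2 : ∀ s : S, permChar S X s = permChar G X (ι s) := fun s => rfl
  have h3 : MulAction.orbitRel S X = MulAction.orbitRel G X := by
    apply Setoid.ext
    intro a b
    rw [MulAction.orbitRel_apply, MulAction.orbitRel_apply, MulAction.mem_orbit_iff,
      MulAction.mem_orbit_iff]
    constructor
    · rintro ⟨s, rfl⟩
      exact ⟨ι s, rfl⟩
    · rintro ⟨g, rfl⟩
      obtain ⟨s, hs⟩ := h b g
      exact ⟨s, hs⟩
  rw [← h3, ← h1]
  exact Finset.sum_congr rfl (fun s _ => (h2 s).symm)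

end general

variable {F : Type*} [Field F] {n : ℕ}

/-- conjugating a diagonal matrix by a permutation matrix gives an upper triangular matrix -/
theorem conj_diag_mem (w : Equiv.Perm (Fin n)) (D : GL (Fin n) F) (d : Fin n → F)
    (hD : (D : Matrix (Fin n) (Fin n) F) = Matrix.diagonal d) :
    (Wgl n F w)⁻¹ * D * Wgl n F w ∈ upperTriangularGL n F := by
  show ((((Wgl n F w)⁻¹ * D * Wgl n F w : GL (Fin n) F)) :
    Matrix (Fin n) (Fin n) F).BlockTriangular id
  have e : (((Wgl n F w)⁻¹ * D * Wgl n F w : GL (Fin n) F) : Matrix (Fin n) (Fin n) F) =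
      Matrix.diagonal (fun z => d (w z)) := by
    rw [← map_inv, Units.val_mul, Units.val_mul, hD]
    ext z y
    rw [Matrix.mul_apply, Finset.sum_eq_single (w z)]
    · rw [Matrix.mul_diagonal, Wgl_apply, Wgl_apply, Matrix.diagonal_apply]
      have h1 : (w⁻¹).symm z = w z := rfl
      rw [if_pos h1, one_mul]
      by_cases hzy : z = y
      · subst hzy
        rw [if_pos rfl, if_pos (by simp), mul_one]
      · rw [if_neg hzy, if_neg, mul_zero]
        intro h2
        apply hzy
        rw [Equiv.symm_apply_apply] at h2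
        exact h2
    · intro v _ hv
      rw [Matrix.mul_diagonal, Wgl_apply]
      have h1 : (w⁻¹).symm z = w z := rfl
      rw [if_neg (by rw [h1]; exact fun hh => hv hh.symm), zero_mul, zero_mul]
    · intro hh
      exact absurd (Finset.mem_univ _) hh
  rw [e]
  exact Matrix.blockTriangular_diagonal _

/-- every orbit of `GL_n` on pairs of flags is an orbit of `SL_n` -/
theorem exists_sl_smul (α β : Fin n → ℕ)
    (z : (GL (Fin n) F ⧸ parabolicGL n F α) × (GL (Fin n) F ⧸ parabolicGL n F β))
    (g : GL (Fin n) F) :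
    ∃ s : Matrix.SpecialLinearGroup (Fin n) F,
      (Matrix.SpecialLinearGroup.toGL s : GL (Fin n) F) • z = g • z := by
  -- it suffices to find an element of the stabiliser with the determinant of `g`
  suffices hkey : ∃ t : GL (Fin n) F, t • z = z ∧
      Matrix.GeneralLinearGroup.det t = Matrix.GeneralLinearGroup.det g by
    obtain ⟨t, ht, hdet⟩ := hkey
    have hd : ((g * t⁻¹ : GL (Fin n) F) : Matrix (Fin n) (Fin n) F).det = 1 := by
      have h1 : Matrix.GeneralLinearGroup.det (g * t⁻¹) = 1 := by
        rw [map_mul, map_inv, hdet, mul_inv_cancel]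
      have h2 := congrArg Units.val h1
      rw [Matrix.GeneralLinearGroup.val_det_apply] at h2
      exact h2
    refine ⟨⟨((g * t⁻¹ : GL (Fin n) F) : Matrix (Fin n) (Fin n) F), hd⟩, ?_⟩
    have e : (Matrix.SpecialLinearGroup.toGL
        (⟨((g * t⁻¹ : GL (Fin n) F) : Matrix (Fin n) (Fin n) F), hd⟩ :
          Matrix.SpecialLinearGroup (Fin n) F) : GL (Fin n) F) = g * t⁻¹ := Units.ext rfl
    rw [e, mul_smul]
    congr 1
    rw [inv_smul_eq_iff, ht]
  rcases Nat.eq_zero_or_pos n with hn | hn
  · subst hn
    refine ⟨1, one_smul _ _, ?_⟩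
    have : Subsingleton (GL (Fin 0) F) := by
      constructor
      intro a b
      apply Units.ext
      exact Subsingleton.elim _ _
    rw [Subsingleton.elim g 1]
  · obtain ⟨z1, z2⟩ := z
    induction z1 using QuotientGroup.induction_on with
    | H x =>
      induction z2 using QuotientGroup.induction_on with
      | H y =>
        obtain ⟨b₁, hb₁, w, b₂, hb₂, hxy⟩ := bruhat_exists (x⁻¹ * y)
        have hα := upper_le_parabolic (F := F) α
        have hβ := upper_le_parabolic (F := F) β
        let i₀ : Fin n := ⟨0, hn⟩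
        let D : GL (Fin n) F := BW.Dg F i₀ (Matrix.GeneralLinearGroup.det g)
        have hDdiag : (D : Matrix (Fin n) (Fin n) F) = Matrix.diagonal
            (fun i => ((Pi.mulSingle i₀ (Matrix.GeneralLinearGroup.det g) : Fin n → Fˣ) i : F)) :=
          BW.Dg_val F i₀ _
        have hDB : D ∈ upperTriangularGL n F := by
          show (D : Matrix (Fin n) (Fin n) F).BlockTriangular id
          rw [hDdiag]
          exact Matrix.blockTriangular_diagonal _
        have hD' := conj_diag_mem w D _ hDdiag
        let c : GL (Fin n) F := x * b₁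
        refine ⟨c * D * c⁻¹, ?_, ?_⟩
        · have e1 : (c * D * c⁻¹) * x = x * (b₁ * D * b₁⁻¹) := by
            show (x * b₁ * D * (x * b₁)⁻¹) * x = x * (b₁ * D * b₁⁻¹)
            group
          have e2 : (c * D * c⁻¹) * y = y * (b₂⁻¹ * ((Wgl n F w)⁻¹ * D * Wgl n F w) * b₂) := by
            have hy : y = x * (b₁ * Wgl n F w * b₂) := by
              rw [← hxy]
              group
            rw [hy]
            show (x * b₁ * D * (x * b₁)⁻¹) * (x * (b₁ * Wgl n F w * b₂)) = _
            group
          apply Prod.ext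
          · show ((c * D * c⁻¹) • (QuotientGroup.mk x : GL (Fin n) F ⧸ parabolicGL n F α)) =
              QuotientGroup.mk x
            rw [MulAction.Quotient.smul_mk, smul_eq_mul, e1, QuotientGroup.eq]
            rw [mul_inv_rev]
            have h3 : (b₁ * D * b₁⁻¹)⁻¹ * x⁻¹ * x = (b₁ * D * b₁⁻¹)⁻¹ := by group
            rw [h3]
            exact Subgroup.inv_mem _ (Subgroup.mul_mem _ (Subgroup.mul_mem _ (hα hb₁) (hα hDB))
              (hα (Subgroup.inv_mem _ hb₁)))
          · show ((c * D * c⁻¹) • (QuotientGroup.mk y : GL (Fin n) F ⧸ parabolicGL n F β)) =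
              QuotientGroup.mk y
            rw [MulAction.Quotient.smul_mk, smul_eq_mul, e2, QuotientGroup.eq]
            rw [mul_inv_rev]
            have h3 : (b₂⁻¹ * ((Wgl n F w)⁻¹ * D * Wgl n F w) * b₂)⁻¹ * y⁻¹ * y =
                (b₂⁻¹ * ((Wgl n F w)⁻¹ * D * Wgl n F w) * b₂)⁻¹ := by group
            rw [h3]
            exact Subgroup.inv_mem _ (Subgroup.mul_mem _ (Subgroup.mul_mem _
              (hβ (Subgroup.inv_mem _ hb₂)) (hβ hD')) (hβ hb₂))
        · rw [map_mul, map_mul, map_inv, mul_comm, ← mul_assoc, inv_mul_cancel, one_mul]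
          exact BW.det_Dg F i₀ _

section inner

variable [Fintype F] [Fintype (Matrix.SpecialLinearGroup (Fin n) F)]

/-- the inner product over `SL_n` of two flag characters -/
theorem inner_flag_sl (α β : Fin n → ℕ) (hα : ∑ i, α i = n) (hβ : ∑ i, β i = n) :
    (Nat.card (Matrix.SpecialLinearGroup (Fin n) F) : ℂ)⁻¹ *
      ∑ s : Matrix.SpecialLinearGroup (Fin n) F,
        fixedPointCharacter (parabolicGL n F α) (Matrix.SpecialLinearGroup.toGL s) *
          fixedPointCharacter (parabolicGL n F β) (Matrix.SpecialLinearGroup.toGL s) =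
      (Nat.card (Margins n α β) : ℂ) := by
  classical
  have : Fintype (GL (Fin n) F) := inferInstance
  have h1 : ∀ s : Matrix.SpecialLinearGroup (Fin n) F,
      fixedPointCharacter (parabolicGL n F α) (Matrix.SpecialLinearGroup.toGL s) *
        fixedPointCharacter (parabolicGL n F β) (Matrix.SpecialLinearGroup.toGL s) =
      permChar (GL (Fin n) F)
        ((GL (Fin n) F ⧸ parabolicGL n F α) × (GL (Fin n) F ⧸ parabolicGL n F β))
        (Matrix.SpecialLinearGroup.toGL s) := by
    intro s
    rw [permChar_prod]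
    rfl
  rw [Finset.sum_congr rfl (fun s _ => h1 s),
    sum_permChar_comp Matrix.SpecialLinearGroup.toGL _ (exists_sl_smul α β)]
  have h2 := inner_fixedPointCharacter (parabolicGL n F α) (parabolicGL n F β)
  rw [inner_flag α β hα hβ] at h2
  rw [← h2]
  have := card_ne_zero_complex (Matrix.SpecialLinearGroup (Fin n) F)
  field_simp

/-- the restriction of the alternating sum of flag characters to `SL_n` -/
noncomputable def unipotentSL (ν : Fin n → ℕ) : Matrix.SpecialLinearGroup (Fin n) F → ℂ :=
  fun s => unipotentCharacterGL n F ν (Matrix.SpecialLinearGroup.toGL s)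

theorem inner_summand_sl (ν ν' : Fin n → ℕ) (hsum : ∑ i, ν i = n)
    (hsum' : ∑ i, ν' i = n) (κ κ' : Equiv.Perm (Fin n)) :
    (Nat.card (Matrix.SpecialLinearGroup (Fin n) F) : ℂ)⁻¹ *
      ∑ s : Matrix.SpecialLinearGroup (Fin n) F,
        summand ν κ (Matrix.SpecialLinearGroup.toGL s : GL (Fin n) F) *
          summand ν' κ' (Matrix.SpecialLinearGroup.toGL s : GL (Fin n) F) =
      ((term (fun i => ν i + i.val) (fun i => ν' i + i.val) κ κ' : ℤ) : ℂ) := by
  unfold term summand
  by_cases h1 : ∀ i : Fin n, (κ i).val ≤ ν i + i.val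
  · by_cases h2 : ∀ i : Fin n, (κ' i).val ≤ ν' i + i.val
    · rw [if_pos ⟨h1, h2⟩]
      simp only [if_pos h1, if_pos h2]
      have h3 : ∀ g : GL (Fin n) F,
          ((Equiv.Perm.sign κ : ℤ) : ℂ) *
            fixedPointCharacter (parabolicGL n F fun i => ν i + i.val - (κ i).val) g *
          (((Equiv.Perm.sign κ' : ℤ) : ℂ) *
            fixedPointCharacter (parabolicGL n F fun i => ν' i + i.val - (κ' i).val) g) =
          (((Equiv.Perm.sign κ : ℤ) : ℂ) * ((Equiv.Perm.sign κ' : ℤ) : ℂ)) *
            (fixedPointCharacter (parabolicGL n F fun i => ν i + i.val - (κ i).val) g *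
              fixedPointCharacter (parabolicGL n F fun i => ν' i + i.val - (κ' i).val) g) := by
        intro g
        ring
      rw [Finset.sum_congr rfl (fun s _ => h3 (Matrix.SpecialLinearGroup.toGL s)),
        ← Finset.mul_sum, mul_left_comm,
        inner_flag_sl _ _ (UnipotentDegree.sum_comp ν hsum κ h1)
          (UnipotentDegree.sum_comp ν' hsum' κ' h2)]
      push_cast
      ring
    · rw [if_neg (fun h => h2 h.2)]
      simp only [if_neg h2, mul_zero, Finset.sum_const_zero, Int.cast_zero]
  · rw [if_neg (fun h => h1 h.1)]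
    simp only [if_neg h1, zero_mul, Finset.sum_const_zero, mul_zero, Int.cast_zero]

theorem classInner_unipotentSL (ν ν' : Fin n → ℕ) (hsum : ∑ i, ν i = n)
    (hsum' : ∑ i, ν' i = n) :
    classInner (unipotentSL (F := F) ν) (unipotentSL ν') =
      ((∑ κ : Equiv.Perm (Fin n), ∑ κ' : Equiv.Perm (Fin n),
        term (fun i => ν i + i.val) (fun i => ν' i + i.val) κ κ' : ℤ) : ℂ) := by
  unfold classInner
  have h1 : ∀ s : Matrix.SpecialLinearGroup (Fin n) F,
      unipotentSL ν s * conj (unipotentSL ν' s) =
        ∑ κ : Equiv.Perm (Fin n), ∑ κ' : Equiv.Perm (Fin n),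
          summand ν κ (Matrix.SpecialLinearGroup.toGL s : GL (Fin n) F) *
            summand ν' κ' (Matrix.SpecialLinearGroup.toGL s : GL (Fin n) F) := by
    intro s
    unfold unipotentSL
    rw [conj_unipotent, unipotent_eq, unipotent_eq, Finset.sum_mul_sum]
  rw [Finset.sum_congr rfl (fun g _ => h1 g), Finset.sum_comm, Finset.mul_sum]
  push_cast
  apply Finset.sum_congr rfl
  intro κ _
  rw [Finset.sum_comm, Finset.mul_sum]
  apply Finset.sum_congr rfl
  intro κ' _
  exact inner_summand_sl ν ν' hsum hsum' κ κ'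

/-- orthonormality over `SL_n` -/
theorem classInner_unipotentSL_eq (ν ν' : Fin n → ℕ)
    (hmono : Monotone ν) (hsum : ∑ i, ν i = n) (hmono' : Monotone ν') (hsum' : ∑ i, ν' i = n) :
    classInner (unipotentSL (F := F) ν) (unipotentSL ν') = if ν = ν' then 1 else 0 := by
  classical
  obtain ⟨ε, hε, h⟩ := sum_term n
  have hε1 : ε = 1 := by
    rcases hε with h1 | h1
    · exact h1
    · exfalso
      have h2 := classInner_unipotentSL (F := F) ν ν hsum hsum
      rw [h _ _ (strictMono_lam ν hmono) (strictMono_lam ν hmono), if_pos rfl, h1] at h2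
      have h3 := classInner_self_re_nonneg (unipotentSL (F := F) ν)
      rw [h2] at h3
      simp at h3
      linarith
  rw [classInner_unipotentSL ν ν' hsum hsum',
    h _ _ (strictMono_lam ν hmono) (strictMono_lam ν' hmono'), hε1]
  by_cases hνν : ν = ν'
  · rw [if_pos hνν, if_pos ((lam_eq_iff ν ν').mpr hνν)]
    simp
  · rw [if_neg hνν, if_neg (fun hh => hνν ((lam_eq_iff ν ν').mp hh))]
    simp

/-- the restrictions to `SL_n` are irreducible characters -/
theorem isIrrCharacter_unipotentSL (ν : Fin n → ℕ) (hmono : Monotone ν) (hsum : ∑ i, ν i = n) :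
    IsIrrCharacter (Matrix.SpecialLinearGroup (Fin n) F) (unipotentSL (F := F) ν) := by
  classical
  have : Fintype (GL (Fin n) F) := inferInstance
  apply IsGeneralizedCharacter.isIrrCharacter_of_norm_one
  · exact IsGeneralizedCharacter.comp Matrix.SpecialLinearGroup.toGL
      (isGeneralizedCharacter_unipotent ν)
  · rw [classInner_unipotentSL_eq ν ν hmono hsum hmono hsum, if_pos rfl]
  · show 0 < (unipotentCharacterGL n F ν (Matrix.SpecialLinearGroup.toGL 1)).re
    rw [map_one]
    exact unipotent_one_re_pos ν hmono hsum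

end inner

end Cfsg.Agent.Lib.Helper6.UniGL
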