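import Mathlib
import Cfsg.Agent.Lib.Helper6.UniGL2

set_option autoImplicit false
set_option linter.unusedSectionVars false
set_option linter.unusedVariables false
set_option linter.unusedSimpArgs false

/-! The degree of the Steinberg character of `GL_n(q)`. -/

namespace Cfsg.Agent.Lib.Helper6.UniGL

open Cfsg Cfsg.Agent.Lib.Helper6.ParabolicIndex
open Cfsg.Agent.Lib.Helper6.UnipotentDegree
open scoped MatrixGroups

section arith

theorem sum_E (n : ℕ) :
    ∑ i ∈ Finset.range n, (1 + i) * (n - 1 - i) = tet n + tri n := by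
  induction n with
  | zero => simp [tet, tri]
  | succ n ih =>
    have h1 : ∑ i ∈ Finset.range (n + 1), (1 + i) * (n + 1 - 1 - i) =
        ∑ i ∈ Finset.range n, ((1 + i) * (n - 1 - i) + (1 + i)) := by
      rw [Finset.sum_range_succ]
      have : (1 + n) * (n + 1 - 1 - n) = 0 := by simp
      rw [this, add_zero]
      apply Finset.sum_congr rfl
      intro i hi
      rw [Finset.mem_range] at hi
      have : n + 1 - 1 - i = (n - 1 - i) + 1 := by omega
      rw [this]
      ring
    rw [h1, Finset.sum_add_distrib, ih]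
    have h2 : tet (n + 1) = tet n + tri n := Finset.sum_range_succ _ _
    have h3 : tri (n + 1) = ∑ i ∈ Finset.range n, (1 + i) := by
      unfold tri
      rw [Finset.sum_range_succ', add_zero]
      apply Finset.sum_congr rfl
      intro i _
      exact add_comm _ _
    rw [h2, h3]

theorem prod_filter_gt {n : ℕ} (i : Fin n) (g : ℕ → ℂ) :
    ∏ j ∈ Finset.univ.filter (fun j : Fin n => i < j), g j.val =
      ∏ t ∈ Finset.range (n - 1 - i.val), g (i.val + 1 + t) := by
  rw [Finset.prod_filter]
  have h1 : ∀ j : Fin n, (if i < j then g j.val else 1) =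
      (fun j : ℕ => if i.val < j then g j else 1) j.val := fun j => rfl
  rw [Finset.prod_congr rfl (fun j _ => h1 j),
    Fin.prod_univ_eq_prod_range (fun j : ℕ => if i.val < j then g j else 1) n,
    ← Finset.prod_filter]
  have h2 : (Finset.range n).filter (fun j => i.val < j) = Finset.Ico (i.val + 1) n := by
    ext j
    simp only [Finset.mem_filter, Finset.mem_range, Finset.mem_Ico]
    omega
  rw [h2, Finset.prod_Ico_eq_prod_range]
  have : n - (i.val + 1) = n - 1 - i.val := by omega
  rw [this]

end arith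

section degree

variable {F : Type*} [Field F] [Fintype F] {n : ℕ}

theorem qf_ne_zero (q m : ℕ) : qf q m ≠ 0 := by
  unfold qf
  rw [Finset.prod_ne_zero_iff]
  intro t _
  have := qint_succ_pos q t
  exact_mod_cast this.ne'

/-- the degree of the Steinberg character of `GL_n(q)` -/
theorem steinberg_degree :
    unipotentCharacterGL n F (fun _ => 1) 1 = ((Fintype.card F : ℕ) : ℂ) ^ tri n := by
  have hsum : ∑ i : Fin n, (fun _ : Fin n => 1) i = n := by simp
  have h := degree_formula (F := F) (fun _ : Fin n => 1) hsum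
  set q := Fintype.card F with hq
  have hq0 : (q : ℂ) ≠ 0 := by
    have : 0 < q := Fintype.card_pos
    exact_mod_cast this.ne'
  -- the inner products
  have hin : ∀ i : Fin n, ∏ j ∈ Finset.univ.filter (fun j : Fin n => i < j),
      (((qint q (1 + j.val) : ℕ) : ℂ) - ((qint q (1 + i.val) : ℕ) : ℂ)) =
      (q : ℂ) ^ ((1 + i.val) * (n - 1 - i.val)) * qf q (n - 1 - i.val) := by
    intro i
    rw [prod_filter_gt i (fun j => ((qint q (1 + j) : ℕ) : ℂ) - ((qint q (1 + i.val) : ℕ) : ℂ))]
    have h1 : ∀ t ∈ Finset.range (n - 1 - i.val),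
        ((qint q (1 + (i.val + 1 + t)) : ℕ) : ℂ) - ((qint q (1 + i.val) : ℕ) : ℂ) =
          (q : ℂ) ^ (1 + i.val) * ((qint q (t + 1) : ℕ) : ℂ) := by
      intro t _
      have e : 1 + (i.val + 1 + t) = (1 + i.val) + (t + 1) := by ring
      rw [e, qint_add]
      push_cast
      ring
    rw [Finset.prod_congr rfl h1, Finset.prod_mul_distrib, Finset.prod_const, Finset.card_range,
      ← pow_mul]
    rfl
  rw [Finset.prod_congr rfl (fun i _ => hin i), Finset.prod_mul_distrib] at h
  -- reindex
  have e1 : ∏ i : Fin n, (q : ℂ) ^ ((1 + i.val) * (n - 1 - i.val)) = (q : ℂ) ^ (tet n + tri n) := by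
    rw [Fin.prod_univ_eq_prod_range (fun i => (q : ℂ) ^ ((1 + i) * (n - 1 - i))) n,
      Finset.prod_pow_eq_pow_sum, sum_E]
  have e2 : ∏ i : Fin n, qf q (n - 1 - i.val) = ∏ m ∈ Finset.range n, qf q m := by
    rw [Fin.prod_univ_eq_prod_range (fun i => qf q (n - 1 - i)) n,
      Finset.prod_range_reflect (fun m => qf q m) n]
  have e3 : ∏ i : Fin n, qf q ((fun _ : Fin n => 1) i + i.val) =
      ∏ m ∈ Finset.range n, qf q (m + 1) := by
    rw [← Fin.prod_univ_eq_prod_range (fun m => qf q (m + 1)) n]
    apply Finset.prod_congr rfl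
    intro i _
    rw [add_comm]
  have e4 : (∏ j ∈ Finset.range n, ((qint q (j + 1) : ℕ) : ℂ)) * ∏ m ∈ Finset.range n, qf q m =
      ∏ m ∈ Finset.range n, qf q (m + 1) := by
    have h5 : ∏ j ∈ Finset.range n, ((qint q (j + 1) : ℕ) : ℂ) = qf q n := rfl
    have h6 := Finset.prod_range_succ (fun m => qf q m) n
    have h7 := Finset.prod_range_succ' (fun m => qf q m) n
    have h8 : qf q 0 = 1 := by
      unfold qf
      simp
    rw [h5, mul_comm, ← h6, h7, h8, mul_one]
  rw [e1, e2, e3] at h
  have hA : ∏ m ∈ Finset.range n, qf q (m + 1) ≠ 0 := by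
    rw [Finset.prod_ne_zero_iff]
    intro m _
    exact qf_ne_zero q (m + 1)
  have h9 : unipotentCharacterGL n F (fun _ => 1) 1 * (q : ℂ) ^ tet n *
      ∏ m ∈ Finset.range n, qf q (m + 1) =
      (q : ℂ) ^ (tet n + tri n) * ∏ m ∈ Finset.range n, qf q (m + 1) := by
    rw [h, ← e4]
    ring
  have h10 := mul_right_cancel₀ hA h9
  rw [pow_add, mul_comm] at h10
  exact mul_left_cancel₀ (pow_ne_zero _ hq0) h10

end degree

end Cfsg.Agent.Lib.Helper6.UniGL
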