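import Mathlib
import Cfsg.Agent.Lib.Helper6.UniGL3
import Cfsg.Agent.Lib.Helper6.DefectZero
import Cfsg.Agent.Lib.Helper6.BlkNormalP
import Cfsg.Agent.Lib.Helper4.SLCenter

set_option autoImplicit false
set_option linter.unusedSectionVars false
set_option linter.unusedVariables false
set_option linter.unusedSimpArgs false

/-! The Steinberg character of `PSL_n(q)`. -/

namespace Cfsg.Agent.Lib.Helper6.UniGL

open Cfsg Cfsg.Agent.Lib.Helper6.ParabolicIndex
open Cfsg.Agent.Lib.Helper6.UnipotentDegree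
open scoped MatrixGroups

section central

theorem fixedPointCharacter_of_mem_center {G : Type*} [Group G] (H : Subgroup G) (c : G)
    (hc : c ∈ Subgroup.center G) (hcH : c ∈ H) :
    fixedPointCharacter H c = fixedPointCharacter H 1 := by
  unfold fixedPointCharacter
  congr 1
  apply Nat.card_congr
  have h1 : ∀ x : G ⧸ H, c • x = x := by
    intro x
    induction x using QuotientGroup.induction_on with
    | H g =>
      rw [MulAction.Quotient.smul_mk, smul_eq_mul, QuotientGroup.eq]
      have e : (c * g)⁻¹ * g = c⁻¹ := by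
        have := (Subgroup.mem_center_iff.mp hc) g
        rw [← this]
        group
      rw [e]
      exact H.inv_mem hcH
  exact Equiv.subtypeEquivRight (fun x => by
    rw [MulAction.mem_fixedBy, MulAction.mem_fixedBy, h1 x, one_smul])

variable {F : Type*} [Field F] {n : ℕ}

theorem toGL_center_mem (z : Matrix.SpecialLinearGroup (Fin n) F)
    (hz : z ∈ Subgroup.center (Matrix.SpecialLinearGroup (Fin n) F)) (α : Fin n → ℕ) :
    (Matrix.SpecialLinearGroup.toGL z : GL (Fin n) F) ∈ Subgroup.center (GL (Fin n) F) ∧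
      (Matrix.SpecialLinearGroup.toGL z : GL (Fin n) F) ∈ parabolicGL n F α := by
  obtain ⟨r, _, hr⟩ := Matrix.SpecialLinearGroup.mem_center_iff.mp hz
  have hval : ((Matrix.SpecialLinearGroup.toGL z : GL (Fin n) F) : Matrix (Fin n) (Fin n) F) =
      Matrix.scalar (Fin n) r := hr.symm
  constructor
  · rw [Subgroup.mem_center_iff]
    intro g
    apply Units.ext
    rw [Units.val_mul, Units.val_mul, hval]
    exact (Matrix.scalar_commute r (fun r' => Commute.all r r') g.val).symm
  · show ((Matrix.SpecialLinearGroup.toGL z : GL (Fin n) F) :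
      Matrix (Fin n) (Fin n) F).BlockTriangular (compLabel α)
    rw [hval, Matrix.scalar_apply]
    exact Matrix.blockTriangular_diagonal _

theorem unipotentSL_center [Fintype F] (ν : Fin n → ℕ) (z : Matrix.SpecialLinearGroup (Fin n) F)
    (hz : z ∈ Subgroup.center (Matrix.SpecialLinearGroup (Fin n) F)) :
    unipotentSL (F := F) ν z = unipotentSL (F := F) ν 1 := by
  unfold unipotentSL
  rw [map_one, unipotent_eq, unipotent_eq]
  apply Finset.sum_congr rfl
  intro κ _
  unfold summand
  split_ifs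
  · congr 1
    exact fixedPointCharacter_of_mem_center _ _ (toGL_center_mem z hz (fun _ => 0)).1
      (toGL_center_mem z hz _).2
  · rfl

end central

section card

variable {F : Type*} [Field F] [Fintype F]

theorem not_dvd_pred (p f : ℕ) (hp : p.Prime) (hf : 1 ≤ f) : ¬ p ∣ p ^ f - 1 := by
  intro h
  have h1 : p ∣ p ^ f := dvd_pow_self p (by omega)
  have h2 : 1 ≤ p ^ f := Nat.one_le_pow _ _ hp.pos
  have h3 : p ∣ p ^ f - (p ^ f - 1) := Nat.dvd_sub h1 h
  have h4 : p ^ f - (p ^ f - 1) = 1 := by omega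
  rw [h4] at h3
  exact hp.one_lt.ne' (Nat.dvd_one.mp h3)

theorem not_dvd_qint (p f : ℕ) (hp : p.Prime) (hf : 1 ≤ f) (d : ℕ) :
    ¬ p ∣ qint (p ^ f) (d + 1) := by
  intro h
  have h0 := pred_mul_qint (p ^ f) (d + 1) (Nat.one_le_pow _ _ hp.pos)
  have h1 : p ∣ (p ^ f) ^ (d + 1) := by
    rw [← pow_mul]
    exact dvd_pow_self p (by positivity)
  have h2 : p ∣ (p ^ f - 1) * qint (p ^ f) (d + 1) := Dvd.dvd.mul_left h _
  rw [← h0] at h1
  have h3 := (Nat.dvd_add_right h2).mp h1
  exact hp.one_lt.ne' (Nat.dvd_one.mp h3)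

theorem sum_fin_rev (n : ℕ) : ∑ i : Fin n, (n - 1 - i.val) = tri n := by
  rw [Fin.sum_univ_eq_sum_range (fun i => n - 1 - i) n, Finset.sum_range_reflect (fun t => t) n]
  rfl

/-- the order of the Sylow `p`-subgroups of `PSL_n(q)` in characteristic `p` -/
theorem card_sylow_PSL (p : ℕ) [Fact p.Prime] [CharP F p] (n : ℕ) (hn : 1 ≤ n)
    (P : Sylow p (Matrix.ProjectiveSpecialLinearGroup (Fin n) F)) :
    Nat.card P = Fintype.card F ^ tri n := by
  classical
  have hp : p.Prime := Fact.out
  obtain ⟨f, _, hqf⟩ := FiniteField.card F p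
  have hf : 1 ≤ (f : ℕ) := f.pos
  have hfin : Finite (Matrix.ProjectiveSpecialLinearGroup (Fin n) F) := by
    have : Finite (Matrix.SpecialLinearGroup (Fin n) F) := inferInstance
    exact Quotient.finite _
  rw [Sylow.card_eq_multiplicity]
  have h1 := Cfsg.Agent.Lib.Helper4.card_PSL_mul (F := F) n hn
  have h2 := Cfsg.Agent.Lib.Helper4.card_SL_mul (F := F) n (by omega)
  have h3 := card_GL_eq (F := F) (n := n)
  rw [← h2, ← h1] at h3
  have h4 : ∏ i : Fin n, Fintype.card F ^ (n - 1 - i.val) * (Fintype.card F - 1) =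
      Fintype.card F ^ tri n * (Fintype.card F - 1) ^ n := by
    rw [Finset.prod_mul_distrib, Finset.prod_const, Finset.card_univ, Fintype.card_fin,
      Finset.prod_pow_eq_pow_sum, sum_fin_rev]
  rw [h4, hqf] at h3
  have hpsl : Nat.card (Matrix.ProjectiveSpecialLinearGroup (Fin n) F) ≠ 0 := Nat.card_pos.ne'
  have hq1 : p ^ (f : ℕ) - 1 ≠ 0 := by
    have : 2 ≤ p ^ (f : ℕ) := by
      calc 2 ≤ p := hp.two_le
        _ = p ^ 1 := (pow_one p).symm
        _ ≤ p ^ (f : ℕ) := Nat.pow_le_pow_right hp.pos hf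
    omega
  have hgcd : Nat.gcd n (p ^ (f : ℕ) - 1) ≠ 0 := Nat.gcd_ne_zero_left (by omega)
  have hgcd' : ¬ p ∣ Nat.gcd n (p ^ (f : ℕ) - 1) := fun h =>
    not_dvd_pred p f hp hf (h.trans (Nat.gcd_dvd_right _ _))
  have hprod : ∏ j ∈ Finset.range n, qint (p ^ (f : ℕ)) (j + 1) ≠ 0 := by
    rw [Finset.prod_ne_zero_iff]
    intro j _
    exact (qint_succ_pos _ j).ne'
  have hprod' : ¬ p ∣ ∏ j ∈ Finset.range n, qint (p ^ (f : ℕ)) (j + 1) := by
    rw [Prime.dvd_finsetProd_iff hp.prime]
    rintro ⟨j, _, hj⟩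
    exact not_dvd_qint p f hp hf j hj
  have h5 := congrArg (fun m : ℕ => m.factorization p) h3
  beta_reduce at h5
  rw [Nat.factorization_mul (mul_ne_zero hgcd hpsl) hq1,
    Nat.factorization_mul hgcd hpsl,
    Nat.factorization_mul (mul_ne_zero (pow_ne_zero _ (pow_ne_zero _ hp.ne_zero))
      (pow_ne_zero _ hq1)) hprod,
    Nat.factorization_mul (pow_ne_zero _ (pow_ne_zero _ hp.ne_zero)) (pow_ne_zero _ hq1)] at h5
  simp only [Finsupp.add_apply] at h5
  rw [Nat.factorization_eq_zero_of_not_dvd hgcd',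
    Nat.factorization_eq_zero_of_not_dvd (not_dvd_pred p f hp hf),
    Nat.factorization_eq_zero_of_not_dvd hprod', Nat.factorization_pow,
    Nat.factorization_pow, Nat.factorization_pow] at h5
  simp only [Finsupp.smul_apply, smul_eq_mul, hp.factorization_self, mul_one,
    Nat.factorization_eq_zero_of_not_dvd (not_dvd_pred p f hp hf), mul_zero, add_zero,
    zero_add] at h5
  rw [h5, hqf, ← pow_mul, mul_comm]

end card

section main

variable {F : Type*} [Field F] [Fintype F]

/-- the Steinberg character of `PSL_n(q)` -/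
theorem exists_steinberg_PSL (p : ℕ) [Fact p.Prime] [CharP F p] (n : ℕ) (hn : 2 ≤ n) :
    ∃ χ : Matrix.ProjectiveSpecialLinearGroup (Fin n) F → ℂ,
      IsIrrCharacter (Matrix.ProjectiveSpecialLinearGroup (Fin n) F) χ ∧
      ∀ P : Sylow p (Matrix.ProjectiveSpecialLinearGroup (Fin n) F),
        χ 1 = Nat.card P ∧
        ∀ x : Matrix.ProjectiveSpecialLinearGroup (Fin n) F, x ∈ P → x ≠ 1 → χ x = 0 := by
  classical
  have hp : p.Prime := Fact.out
  have : Fintype (Matrix.SpecialLinearGroup (Fin n) F) := Fintype.ofFinite _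
  have hfin : Finite (Matrix.ProjectiveSpecialLinearGroup (Fin n) F) := Quotient.finite _
  have hsum : ∑ i : Fin n, (fun _ : Fin n => 1) i = n := by simp
  let χS : IrrCharacter (Matrix.SpecialLinearGroup (Fin n) F) :=
    ⟨unipotentSL (F := F) (fun _ => 1), isIrrCharacter_unipotentSL _ monotone_const hsum⟩
  obtain ⟨β, hβ⟩ := IsIrrCharacter.exists_deflation
    (Subgroup.center (Matrix.SpecialLinearGroup (Fin n) F)) χS
    (fun z hz => unipotentSL_center _ z hz)
  have hβ1 : (β : Matrix.ProjectiveSpecialLinearGroup (Fin n) F → ℂ) 1 =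
      ((Fintype.card F : ℕ) : ℂ) ^ tri n := by
    have h1 := congrFun hβ 1
    rw [QuotientGroup.mk_one] at h1
    rw [← h1]
    show unipotentCharacterGL n F (fun _ => 1) (Matrix.SpecialLinearGroup.toGL 1) = _
    rw [map_one]
    exact steinberg_degree
  refine ⟨β.1, β.2, ?_⟩
  intro P
  have hPcard := card_sylow_PSL p n (by omega) P
  refine ⟨?_, ?_⟩
  · rw [hβ1, hPcard]
    push_cast
    rfl
  · intro x hxP hx1
    obtain ⟨m, ρ, hρirr, hρchar⟩ := β.2
    have : ρ.IsIrreducible := hρirr
    rw [← hρchar]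
    set k := (Nat.card (Matrix.ProjectiveSpecialLinearGroup (Fin n) F)).factorization p with hk
    have hcardk : Nat.card P = p ^ k := Sylow.card_eq_multiplicity P
    apply defect_zero_vanish ρ p k hp (Nat.ordProj_dvd _ p)
      (Nat.pow_succ_factorization_not_dvd Nat.card_pos.ne' hp)
    · -- the degree
      have h2 : ρ.character 1 = (Module.finrank ℂ (Fin m → ℂ) : ℂ) := Representation.char_one ρ
      rw [hρchar, hβ1, ← Nat.cast_pow, ← hPcard, hcardk] at h2
      have h3 : p ^ k = Module.finrank ℂ (Fin m → ℂ) := by exact_mod_cast h2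
      rw [← h3]
    · -- `x` has order divisible by `p`
      have hxp : IsPGroup p (P : Subgroup (Matrix.ProjectiveSpecialLinearGroup (Fin n) F)) :=
        P.isPGroup'
      obtain ⟨j, hj⟩ := hxp ⟨x, hxP⟩
      have hj' : x ^ p ^ j = 1 := by
        have := congrArg Subtype.val hj
        simpa using this
      have hdvd : orderOf x ∣ p ^ j := orderOf_dvd_of_pow_eq_one hj'
      obtain ⟨i, _, hi⟩ := (Nat.dvd_prime_pow hp).mp hdvd
      rcases Nat.eq_zero_or_pos i with h0 | h0
      · exfalso
        rw [h0, pow_zero, orderOf_eq_one_iff] at hi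
        exact hx1 hi
      · rw [hi]
        exact dvd_pow_self p (by omega)

end main

end Cfsg.Agent.Lib.Helper6.UniGL
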