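import Mathlib
import Cfsg.Agent.Lib.Helper1.AlperinOmega4
set_option autoImplicit false
open scoped Pointwise commutatorElement
universe u
namespace Cfsg.Agent.Lib.Helper6.HH2L

open Cfsg.Agent.Lib.Helper1.AlperinOmega

variable {G : Type u} [Group G]

/-- Alperin's lemma relative to a normal subgroup `Rn` (adaptation of
`Helper1.AlperinOmega.alperin_main`). -/
theorem alperin_main_rel [Finite G] {p : ℕ} [hp : Fact p.Prime] (hG : IsPGroup p G) (n : ℕ)
    (hn : p ^ n ≠ 2) (Rn : Subgroup G) [hRn : Rn.Normal]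
    (A : Subgroup G) [hAn : A.Normal] (hARn : A ≤ Rn) (hA : IsMulCommutative A)
    (hAe : ∀ a ∈ A, a ^ p ^ n = 1)
    (hmax : ∀ B : Subgroup G, B.Normal → B ≤ Rn → IsMulCommutative B → (∀ b ∈ B, b ^ p ^ n = 1) →
      A ≤ B → B = A) :
    ∀ (m : ℕ) (x : G),
      Nat.card G - Nat.card (Subgroup.normalizer ((A ⊔ Subgroup.zpowers x : Subgroup G) : Set G)) = m →
      x ∈ Rn → x ∈ Subgroup.centralizer (A : Set G) → x ^ p ^ n = 1 → x ^ p ∈ A → x ∈ A := by
  intro m
  induction m using Nat.strong_induction_on with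
  | _ m ih =>
  intro x hm hxRn hxC hxe hxp
  by_contra hxA
  have hn1 : n ≠ 0 := by
    rintro rfl
    rw [pow_zero, pow_one] at hxe
    exact hxA (hxe ▸ A.one_mem)
  have hAA : A ≤ Subgroup.centralizer (A : Set G) := by
    intro a ha
    rw [Subgroup.mem_centralizer_iff]
    intro a' ha'
    have := mul_comm' (⟨a', ha'⟩ : A) ⟨a, ha⟩
    exact congrArg Subtype.val this
  obtain ⟨N₁, hN₁⟩ : ∃ N₁, N₁ = Subgroup.normalizer ((A ⊔ Subgroup.zpowers x : Subgroup G) : Set G) :=
    ⟨_, rfl⟩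
  rw [← hN₁] at hm
  by_cases htop : N₁ = ⊤
  · -- normal case
    have hnorm : (A ⊔ Subgroup.zpowers x).Normal := by
      rw [← Subgroup.normalizer_eq_top_iff, ← hN₁, htop]
    obtain ⟨hc, he⟩ := sup_zpowers_comm_pow A hA hAe hxC hxe
    have hcomm : IsMulCommutative ↥(A ⊔ Subgroup.zpowers x) :=
      ⟨⟨fun a b => Subtype.ext (hc a.1 a.2 b.1 b.2)⟩⟩
    have hle : A ⊔ Subgroup.zpowers x ≤ Rn :=
      sup_le hARn (by rw [Subgroup.zpowers_le]; exact hxRn)
    have := hmax _ hnorm hle hcomm he le_sup_left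
    apply hxA
    rw [← this]
    exact Subgroup.mem_sup_right (Subgroup.mem_zpowers x)
  · have : Group.IsNilpotent G := hG.isNilpotent
    have hlt : N₁ < Subgroup.normalizer (N₁ : Set G) :=
      Group.normalizerCondition_of_isNilpotent N₁ (lt_top_iff_ne_top.mpr htop)
    obtain ⟨N₂, hN₂⟩ : ∃ N₂, N₂ = Subgroup.normalizer (N₁ : Set G) := ⟨_, rfl⟩
    rw [← hN₂] at hlt
    have hxN₁ : x ∈ N₁ := by
      rw [hN₁]
      exact Subgroup.le_normalizer (Subgroup.mem_sup_right (Subgroup.mem_zpowers x))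
    obtain ⟨S, hS⟩ : ∃ S : Set G, S = {s | ∃ h ∈ N₂, s = h * x * h⁻¹} := ⟨_, rfl⟩
    have hSRn : ∀ s ∈ S, s ∈ Rn := by
      intro s hs
      rw [hS] at hs
      obtain ⟨h, hh, rfl⟩ := hs
      exact hRn.conj_mem x hxRn h
    have hSN₁ : ∀ s ∈ S, s ∈ N₁ := by
      intro s hs
      rw [hS] at hs
      obtain ⟨h, hh, rfl⟩ := hs
      rw [hN₂] at hh
      exact (Subgroup.mem_normalizer_iff.mp hh x).mp hxN₁
    have hSnorm : ∀ s ∈ S, N₁ ≤ Subgroup.normalizer ((A ⊔ Subgroup.zpowers s : Subgroup G) : Set G) := by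
      intro s hs t ht
      rw [hS] at hs
      obtain ⟨h, hh, rfl⟩ := hs
      rw [hN₂] at hh
      have h1 : h⁻¹ * t * h⁻¹⁻¹ ∈ N₁ := (Subgroup.mem_normalizer_iff.mp (inv_mem hh) t).mp ht
      rw [hN₁] at h1
      have h2 := conj_mem_normalizer A h h1
      have e : h * (h⁻¹ * t * h⁻¹⁻¹) * h⁻¹ = t := by group
      rw [e] at h2
      exact h2
    have hSp : ∀ s ∈ S, s ^ p ∈ A := by
      intro s hs
      rw [hS] at hs
      obtain ⟨h, hh, rfl⟩ := hs
      rw [conj_pow]
      exact hAn.conj_mem _ hxp h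
    have hSe : ∀ s ∈ S, s ^ p ^ n = 1 := by
      intro s hs
      rw [hS] at hs
      obtain ⟨h, hh, rfl⟩ := hs
      rw [conj_pow, hxe]; group
    have hSC : ∀ s ∈ S, s ∈ Subgroup.centralizer (A : Set G) := by
      intro s hs
      rw [hS] at hs
      obtain ⟨h, hh, rfl⟩ := hs
      rw [Subgroup.mem_centralizer_iff]
      intro a ha
      have h1 : h⁻¹ * a * h⁻¹⁻¹ ∈ A := hAn.conj_mem a ha h⁻¹
      rw [Subgroup.mem_centralizer_iff] at hxC
      have h2 := hxC _ h1
      have e1 : a * (h * x * h⁻¹) = h * ((h⁻¹ * a * h⁻¹⁻¹) * x) * h⁻¹ := by group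
      have e2 : h * x * h⁻¹ * a = h * (x * (h⁻¹ * a * h⁻¹⁻¹)) * h⁻¹ := by group
      rw [e1, e2, h2]
    have hSS : ∀ s ∈ S, ∀ s' ∈ S, s * s' * s⁻¹ * s'⁻¹ ∈ A := by
      intro s hs s' hs'
      exact comm_mem_of_normalize A (hSp s hs) (hSnorm s hs (hSN₁ s' hs')) (hSnorm s' hs' (hSN₁ s hs))
    have hR := comm_pow_mem_of_sup_closure A S hSp hSS
    have hRe := pow_eq_one_of_sup_closure A hp.out hn hn1 hAe S hSe hSC hAA hR
    obtain ⟨R, hRdef⟩ : ∃ R, R = A ⊔ Subgroup.closure S := ⟨_, rfl⟩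
    rw [← hRdef] at hR hRe
    have hRRn : R ≤ Rn := by
      rw [hRdef]
      apply sup_le hARn
      rw [Subgroup.closure_le]
      exact hSRn
    have hRC : R ≤ Subgroup.centralizer (A : Set G) := by
      rw [hRdef]
      apply sup_le hAA
      rw [Subgroup.closure_le]
      exact hSC
    have hxS : x ∈ S := by
      rw [hS]
      exact ⟨1, N₂.one_mem, by group⟩
    have hxR : x ∈ R := by
      rw [hRdef]
      exact Subgroup.mem_sup_right (Subgroup.subset_closure hxS)
    have hRN : ∀ h ∈ N₂, ∀ r ∈ R, h * r * h⁻¹ ∈ R := by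
      intro h hh
      have hle : R ≤ R.comap (MulAut.conj h).toMonoidHom := by
        conv_lhs => rw [hRdef]
        apply sup_le
        · intro a ha
          rw [Subgroup.mem_comap]
          show h * a * h⁻¹ ∈ R
          rw [hRdef]
          exact Subgroup.mem_sup_left (hAn.conj_mem a ha h)
        · rw [Subgroup.closure_le]
          intro s hs
          show h * s * h⁻¹ ∈ R
          rw [hRdef]
          apply Subgroup.mem_sup_right
          apply Subgroup.subset_closure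
          rw [hS] at hs ⊢
          obtain ⟨h', hh', rfl⟩ := hs
          exact ⟨h * h', N₂.mul_mem hh hh', by group⟩
      intro r hr
      exact hle hr
    obtain ⟨r, hrR, hrA, hrN⟩ := exists_comm_mem_of_not_mem A R N₂ hRN hxR hxA
    have hnorm : N₂ ≤ Subgroup.normalizer ((A ⊔ Subgroup.zpowers r : Subgroup G) : Set G) := by
      intro h hh
      apply Cfsg.Agent.Lib.Helper1.mem_normalizer_of_forall_conj_mem (A := N₂) _ hh
      intro h hh y hy
      have h1 := conj_mem_sup_zpowers A h hy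
      have h2 : A ⊔ Subgroup.zpowers (h * r * h⁻¹) ≤ A ⊔ Subgroup.zpowers r := by
        apply sup_le le_sup_left
        rw [Subgroup.zpowers_le]
        have e : h * r * h⁻¹ = (h * r * h⁻¹ * r⁻¹) * r := by group
        rw [e]
        exact mul_mem (Subgroup.mem_sup_left (hrN h hh)) (Subgroup.mem_sup_right (Subgroup.mem_zpowers r))
      exact h2 h1
    have hc1 : Nat.card N₁ < Nat.card N₂ := by
      have h1 := Subgroup.card_le_of_le hlt.le
      rcases h1.lt_or_eq with h | h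
      · exact h
      · exact absurd (Subgroup.eq_of_le_of_card_ge hlt.le h.ge) hlt.ne
    have hc2 := Subgroup.card_le_of_le hnorm
    have hc3 := Subgroup.card_le_card_group
      (Subgroup.normalizer ((A ⊔ Subgroup.zpowers r : Subgroup G) : Set G))
    exact hrA (ih _ (by omega) r rfl (hRRn hrR) (hRC hrR) (hRe r hrR) (hR r hrR).1)

/-- Unit ALP of the Route-B plug-in (shape of helper1's `HH2L SHAPES`). -/
theorem alperin_equivariant {T : Type*} [Group T] [Finite T] {p : ℕ} [Fact p.Prime] (hp2 : p ≠ 2)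
    (hT : IsPGroup p T) (R E : Subgroup T) [R.Normal] [E.Normal] (hER : E ≤ R)
    (hEab : ∀ a ∈ E, ∀ b ∈ E, a * b = b * a) (hEexp : ∀ a ∈ E, a ^ p = 1)
    (hmax : ∀ E' : Subgroup T, E'.Normal → E ≤ E' → E' ≤ R → (∀ a ∈ E', ∀ b ∈ E', a * b = b * a) →
      (∀ a ∈ E', a ^ p = 1) → E' ≤ E)
    (x : T) (hxR : x ∈ R) (hxp : x ^ p = 1) (hxE : ∀ e ∈ E, x * e = e * x) : x ∈ E := by
  have hA : IsMulCommutative E := ⟨⟨fun a b => Subtype.ext (hEab a a.2 b b.2)⟩⟩
  have hn : p ^ 1 ≠ 2 := by rw [pow_one]; exact hp2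
  have hAe : ∀ a ∈ E, a ^ p ^ 1 = 1 := by intro a ha; rw [pow_one]; exact hEexp a ha
  have hmax' : ∀ B : Subgroup T, B.Normal → B ≤ R → IsMulCommutative B →
      (∀ b ∈ B, b ^ p ^ 1 = 1) → E ≤ B → B = E := by
    intro B hBn hBR hBc hBe hEB
    apply le_antisymm _ hEB
    apply hmax B hBn hEB hBR
    · intro a ha b hb
      have := mul_comm' (⟨a, ha⟩ : B) ⟨b, hb⟩
      exact congrArg Subtype.val this
    · intro a ha
      have := hBe a ha
      rwa [pow_one] at this
  apply alperin_main_rel hT 1 hn R E hER hA hAe hmax' _ x rfl hxR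
  · rw [Subgroup.mem_centralizer_iff]
    intro e he
    exact (hxE e he).symm
  · rw [pow_one]; exact hxp
  · rw [hxp]; exact E.one_mem

end Cfsg.Agent.Lib.Helper6.HH2L
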