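import Mathlib
import Cfsg.Agent.Lib.Helper1.HH2LFormA
set_option autoImplicit false
open scoped commutatorElement IsMulCommutative
namespace Cfsg.Agent.Lib.Helper6.HH2L

variable {L : Type*} [Group L]

/-- conjugation action of the normaliser of `C` on `C`. -/
def conjOn (C : Subgroup L) : ↥(Subgroup.normalizer (C : Set L)) →* MulAut ↥C where
  toFun g :=
    { toFun := fun c => ⟨(g : L) * c * (g : L)⁻¹, (Subgroup.mem_normalizer_iff.mp g.2 c).mp c.2⟩
      invFun := fun c => ⟨(g : L)⁻¹ * c * (g : L), by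
        have h := (Subgroup.mem_normalizer_iff.mp (Subgroup.inv_mem _ g.2) (c : L)).mp c.2
        simpa using h⟩
      left_inv := fun c => by apply Subtype.ext; simp only; group
      right_inv := fun c => by apply Subtype.ext; simp only; group
      map_mul' := fun c d => by apply Subtype.ext; simp only [Subgroup.coe_mul]; group }
  map_one' := by
    apply MulEquiv.ext; intro c; apply Subtype.ext
    simp
  map_mul' g h := by
    apply MulEquiv.ext; intro c; apply Subtype.ext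
    simp only [MulAut.mul_apply, MulEquiv.coe_mk, Equiv.coe_fn_mk, Subgroup.coe_mul, mul_inv_rev]
    group

@[simp] theorem conjOn_apply_coe (C : Subgroup L) (g : ↥(Subgroup.normalizer (C : Set L))) (c : ↥C) :
    ((conjOn C g c : ↥C) : L) = (g : L) * c * (g : L)⁻¹ := rfl

variable {K : Type*} [Group K]

/-- automorphisms act on the central quotient. -/
noncomputable def qAut : MulAut K →* MulAut (K ⧸ Subgroup.center K) where
  toFun e := QuotientGroup.congr (Subgroup.center K) (Subgroup.center K) e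
    (Subgroup.characteristic_iff_map_eq.mp inferInstance e)
  map_one' := by
    apply MulEquiv.ext; intro w
    induction w using QuotientGroup.induction_on with
    | H c => rfl
  map_mul' e f := by
    apply MulEquiv.ext; intro w
    induction w using QuotientGroup.induction_on with
    | H c => rfl

theorem qAut_mk (e : MulAut K) (c : K) :
    qAut e (QuotientGroup.mk' (Subgroup.center K) c) = QuotientGroup.mk' (Subgroup.center K) (e c) :=
  rfl

/-- automorphisms act on the centre. -/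
def zAut : MulAut K →* MulAut ↥(Subgroup.center K) where
  toFun e :=
    { toFun := fun z => ⟨e z, by
        rw [Subgroup.mem_center_iff]
        intro g
        obtain ⟨g', rfl⟩ := e.surjective g
        rw [← map_mul, ← map_mul, Subgroup.mem_center_iff.mp z.2 g']⟩
      invFun := fun z => ⟨e.symm z, by
        rw [Subgroup.mem_center_iff]
        intro g
        obtain ⟨g', rfl⟩ := e.symm.surjective g
        rw [← map_mul, ← map_mul, Subgroup.mem_center_iff.mp z.2 g']⟩
      left_inv := fun z => by apply Subtype.ext; simp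
      right_inv := fun z => by apply Subtype.ext; simp
      map_mul' := fun z z' => by apply Subtype.ext; simp }
  map_one' := by apply MulEquiv.ext; intro z; apply Subtype.ext; rfl
  map_mul' e f := by apply MulEquiv.ext; intro z; apply Subtype.ext; rfl

@[simp] theorem zAut_apply_coe (e : MulAut K) (z : ↥(Subgroup.center K)) :
    ((zAut e z : ↥(Subgroup.center K)) : K) = e z := rfl


theorem comm_elt_mul_left (hc2 : ∀ u v w : K, ⁅u, v⁆ * w = w * ⁅u, v⁆) (x y z : K) :
    ⁅x * y, z⁆ = ⁅x, z⁆ * ⁅y, z⁆ := by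
  have e : ⁅x * y, z⁆ = x * ⁅y, z⁆ * x⁻¹ * ⁅x, z⁆ := by
    simp only [commutatorElement_def]; group
  rw [e, ← hc2 y z x, mul_inv_cancel_right, ← hc2 y z]

theorem comm_elt_mul_right (hc2 : ∀ u v w : K, ⁅u, v⁆ * w = w * ⁅u, v⁆) (x y z : K) :
    ⁅x, y * z⁆ = ⁅x, y⁆ * ⁅x, z⁆ := by
  have e : ⁅x, y * z⁆ = ⁅x, y⁆ * (y * ⁅x, z⁆ * y⁻¹) := by
    simp only [commutatorElement_def]; group
  rw [e, ← hc2 x z y, mul_inv_cancel_right]

/-- the commutator form on the central quotient of a group of class at most two. -/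
theorem exists_comm_form (hc2 : ∀ u v w : K, ⁅u, v⁆ * w = w * ⁅u, v⁆) :
    ∃ β : (K ⧸ Subgroup.center K) →* (K ⧸ Subgroup.center K) →* ↥(Subgroup.center K),
      ∀ u v : K, ((β (QuotientGroup.mk' _ u) (QuotientGroup.mk' _ v) : ↥(Subgroup.center K)) : K) =
        ⁅u, v⁆ := by
  have hcen : ∀ u v : K, ⁅u, v⁆ ∈ Subgroup.center K := by
    intro u v; rw [Subgroup.mem_center_iff]; intro g; exact (hc2 u v g).symm
  -- first variable fixed
  let β₁ : K → (K →* ↥(Subgroup.center K)) := fun u =>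
    { toFun := fun v => ⟨⁅u, v⁆, hcen u v⟩
      map_one' := by apply Subtype.ext; simp [commutatorElement_def]
      map_mul' := fun v v' => by
        apply Subtype.ext
        simp only [Subgroup.coe_mul]
        exact comm_elt_mul_right hc2 u v v' }
  have hβ₁ker : ∀ u : K, Subgroup.center K ≤ (β₁ u).ker := by
    intro u v hv
    rw [MonoidHom.mem_ker]
    apply Subtype.ext
    show ⁅u, v⁆ = 1
    rw [commutatorElement_def, (Subgroup.mem_center_iff.mp hv u), mul_inv_cancel_right,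
      mul_inv_cancel]
  let β₂ : K → ((K ⧸ Subgroup.center K) →* ↥(Subgroup.center K)) := fun u =>
    QuotientGroup.lift (Subgroup.center K) (β₁ u) (hβ₁ker u)
  have hβ₂ : ∀ u v : K, ((β₂ u (QuotientGroup.mk' _ v) : ↥(Subgroup.center K)) : K) = ⁅u, v⁆ :=
    fun u v => rfl
  let β₃ : K →* ((K ⧸ Subgroup.center K) →* ↥(Subgroup.center K)) :=
    { toFun := β₂
      map_one' := by
        apply MonoidHom.ext; intro w
        induction w using QuotientGroup.induction_on with
        | H v =>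
          apply Subtype.ext
          show ⁅(1 : K), v⁆ = 1
          simp [commutatorElement_def]
      map_mul' := fun u u' => by
        apply MonoidHom.ext; intro w
        induction w using QuotientGroup.induction_on with
        | H v =>
          apply Subtype.ext
          show ⁅u * u', v⁆ = ⁅u, v⁆ * ⁅u', v⁆
          exact comm_elt_mul_left hc2 u u' v }
  have hβ₃ker : Subgroup.center K ≤ β₃.ker := by
    intro u hu
    rw [MonoidHom.mem_ker]
    apply MonoidHom.ext; intro w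
    induction w using QuotientGroup.induction_on with
    | H v =>
      apply Subtype.ext
      show ⁅u, v⁆ = 1
      rw [commutatorElement_def, ← (Subgroup.mem_center_iff.mp hu v), mul_inv_cancel_right,
        mul_inv_cancel]
  exact ⟨QuotientGroup.lift (Subgroup.center K) β₃ hβ₃ker, fun u v => rfl⟩


theorem mem_normalizer_of_conj_mem_finite {Ω : Type*} [Group Ω] {H : Subgroup Ω} [Finite H] {g : Ω}
    (h : ∀ y ∈ H, g * y * g⁻¹ ∈ H) : g ∈ Subgroup.normalizer (H : Set Ω) := by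
  have hle : H.map (MulAut.conj g).toMonoidHom ≤ H := by
    rintro _ ⟨y, hy, rfl⟩
    exact h y hy
  have heq : H.map (MulAut.conj g).toMonoidHom = H := by
    apply Subgroup.eq_of_le_of_card_ge hle
    rw [Subgroup.card_map_of_injective (MulAut.conj g).injective]
  rw [Subgroup.mem_normalizer_iff]
  intro y
  constructor
  · exact h y
  · intro hy
    rw [← heq] at hy
    obtain ⟨y', hy', e⟩ := hy
    have e' : g * y' * g⁻¹ = g * y * g⁻¹ := e
    have : y' = y := by
      have := mul_right_cancel e'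
      exact mul_left_cancel this
    rw [← this]; exact hy'

/-- Unit FORM-group of the Route-B plug-in (shape of helper1's `HH2L SHAPES`). -/
theorem form_group {L : Type*} [Group L] {p q : ℕ} [hp : Fact p.Prime] [hq : Fact q.Prime]
    (hpq : p ≠ q)
    (C : Subgroup L) [Finite C] (hCq : IsPGroup q C)
    (hC2 : ∀ u ∈ C, ∀ v ∈ C, ∀ w ∈ C, (u * v * u⁻¹ * v⁻¹) * w = w * (u * v * u⁻¹ * v⁻¹))
    (A : Subgroup L) [Finite A] (hAab : ∀ a ∈ A, ∀ b ∈ A, a * b = b * a)
    (hAexp : ∀ a ∈ A, a ^ p = 1)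
    (hAC : ∀ a ∈ A, ∀ c ∈ C, a * c * a⁻¹ ∈ C)
    (hAZ : ∀ a ∈ A, ∀ c ∈ C, (∀ w ∈ C, c * w = w * c) → a * c = c * a)
    (y : L) (n : ℕ) (hy : y ^ p ^ (n + 1) = 1)
    (hyA : ∀ a ∈ A, y * a * y⁻¹ ∈ A) (hyC : ∀ c ∈ C, y * c * y⁻¹ ∈ C)
    (hi : ∀ B : Subgroup L, B ≤ C → (∀ a ∈ B, ∀ b ∈ B, a * b = b * a) →
      (∀ b ∈ B, y * b * y⁻¹ ∈ B) → ∀ b ∈ B, y ^ p ^ n * b = b * y ^ p ^ n)
    (a : L) (ha : a ∈ A) :
    ∀ c ∈ C, (y ^ p ^ n * a * (y ^ p ^ n)⁻¹ * a⁻¹) * c =
      c * (y ^ p ^ n * a * (y ^ p ^ n)⁻¹ * a⁻¹) := by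
  -- class two on the type `C`
  have hc2 : ∀ u v w : ↥C, ⁅u, v⁆ * w = w * ⁅u, v⁆ := by
    intro u v w
    apply Subtype.ext
    simp only [commutatorElement_def, Subgroup.coe_mul, Subgroup.coe_inv]
    exact hC2 u u.2 v v.2 w w.2
  have hcen : ∀ u v : ↥C, ⁅u, v⁆ ∈ Subgroup.center ↥C := by
    intro u v; rw [Subgroup.mem_center_iff]; intro g; exact (hc2 u v g).symm
  haveI hWc : IsMulCommutative (↥C ⧸ Subgroup.center ↥C) := by
    refine ⟨⟨fun w w' => ?_⟩⟩
    induction w using QuotientGroup.induction_on with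
    | H u =>
      induction w' using QuotientGroup.induction_on with
      | H v =>
        show ((u * v : ↥C) : ↥C ⧸ Subgroup.center ↥C) = ((v * u : ↥C) : ↥C ⧸ Subgroup.center ↥C)
        rw [QuotientGroup.eq]
        have e : (u * v)⁻¹ * (v * u) = ⁅v⁻¹, u⁻¹⁆ := by
          simp only [commutatorElement_def]; group
        rw [e]; exact hcen _ _
  haveI hAc : IsMulCommutative ↥A := ⟨⟨fun a b => Subtype.ext (hAab a a.2 b b.2)⟩⟩
  -- normalisers
  have hyNC : y ∈ Subgroup.normalizer (C : Set L) := mem_normalizer_of_conj_mem_finite hyC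
  have hyNA : y ∈ Subgroup.normalizer (A : Set L) := mem_normalizer_of_conj_mem_finite hyA
  have hANC : A ≤ Subgroup.normalizer (C : Set L) :=
    fun a ha => mem_normalizer_of_conj_mem_finite (hAC a ha)
  obtain ⟨yC, hyC'⟩ : ∃ yC : ↥(Subgroup.normalizer (C : Set L)), (yC : L) = y := ⟨⟨y, hyNC⟩, rfl⟩
  obtain ⟨yA, hyA'⟩ : ∃ yA : ↥(Subgroup.normalizer (A : Set L)), (yA : L) = y := ⟨⟨y, hyNA⟩, rfl⟩
  have hyCN : yC ^ p ^ (n + 1) = 1 := by
    apply Subtype.ext; rw [SubgroupClass.coe_pow, hyC', hy]; rfl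
  have hyAN : yA ^ p ^ (n + 1) = 1 := by
    apply Subtype.ext; rw [SubgroupClass.coe_pow, hyA', hy]; rfl
  obtain ⟨σ, hσ⟩ : ∃ σ : MulAut (↥C ⧸ Subgroup.center ↥C), σ = qAut (conjOn C yC) := ⟨_, rfl⟩
  obtain ⟨τ, hτ⟩ : ∃ τ : MulAut ↥(Subgroup.center ↥C), τ = zAut (conjOn C yC) := ⟨_, rfl⟩
  obtain ⟨φ, hφ⟩ : ∃ φ : MulAut ↥A, φ = conjOn A yA := ⟨_, rfl⟩
  obtain ⟨ρ, hρ⟩ : ∃ ρ : ↥A →* MulAut (↥C ⧸ Subgroup.center ↥C),
      ∀ (b : ↥A) (u : ↥C), ρ b (QuotientGroup.mk' _ u) =
        QuotientGroup.mk' _ (conjOn C (Subgroup.inclusion hANC b) u) :=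
    ⟨qAut.comp ((conjOn C).comp (Subgroup.inclusion hANC)), fun b u => rfl⟩
  obtain ⟨β, hβ⟩ := exists_comm_form hc2
  have hσmk : ∀ (k : ℕ) (u : ↥C), (σ ^ k) (QuotientGroup.mk' _ u) =
      QuotientGroup.mk' _ (conjOn C (yC ^ k) u) := by
    intro k u
    rw [hσ, ← map_pow, ← map_pow]; rfl
  -- hypotheses of form_abstract
  have hW : (Nat.card (↥C ⧸ Subgroup.center ↥C)).Coprime p := by
    obtain ⟨k, hk⟩ := (IsPGroup.iff_card).mp hCq
    have hd : Nat.card (↥C ⧸ Subgroup.center ↥C) ∣ q ^ k := by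
      rw [← hk]; exact Subgroup.card_quotient_dvd_card _
    exact Nat.Coprime.coprime_dvd_left hd
      (Nat.Coprime.pow_left k ((Nat.coprime_primes hq.out hp.out).mpr (Ne.symm hpq)))
  have hA' : ∀ b : ↥A, b ^ p = 1 := fun b => Subtype.ext (by
    rw [SubgroupClass.coe_pow]; exact hAexp b b.2)
  have hβalt : ∀ w, β w w = 1 := by
    intro w
    induction w using QuotientGroup.induction_on with
    | H u =>
      show β (QuotientGroup.mk' _ u) (QuotientGroup.mk' _ u) = 1
      apply Subtype.ext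
      rw [hβ, commutatorElement_self]; rfl
  have hβA : ∀ b w w', β (ρ b w) (ρ b w') = β w w' := by
    intro b w w'
    induction w using QuotientGroup.induction_on with
    | H u =>
      induction w' using QuotientGroup.induction_on with
      | H v =>
        show β (ρ b (QuotientGroup.mk' _ u)) (ρ b (QuotientGroup.mk' _ v)) =
          β (QuotientGroup.mk' _ u) (QuotientGroup.mk' _ v)
        rw [hρ, hρ]
        apply Subtype.ext
        rw [hβ, hβ]
        apply Subtype.ext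
        simp only [commutatorElement_def, Subgroup.coe_mul, Subgroup.coe_inv, conjOn_apply_coe,
          Subgroup.coe_inclusion]
        have hz : ∀ w ∈ C, ((u : L) * v * (u : L)⁻¹ * (v : L)⁻¹) * w =
            w * ((u : L) * v * (u : L)⁻¹ * (v : L)⁻¹) := fun w hw => hC2 u u.2 v v.2 w hw
        have hzC : (u : L) * v * (u : L)⁻¹ * (v : L)⁻¹ ∈ C :=
          C.mul_mem (C.mul_mem (C.mul_mem u.2 v.2) (C.inv_mem u.2)) (C.inv_mem v.2)
        have h3 := hAZ b b.2 _ hzC hz
        calc (b : L) * u * (b : L)⁻¹ * ((b : L) * v * (b : L)⁻¹) * ((b : L) * u * (b : L)⁻¹)⁻¹ *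
              ((b : L) * v * (b : L)⁻¹)⁻¹
            = ((b : L) * ((u : L) * v * (u : L)⁻¹ * (v : L)⁻¹)) * (b : L)⁻¹ := by group
          _ = (u : L) * v * (u : L)⁻¹ * (v : L)⁻¹ := by rw [h3, mul_inv_cancel_right]
  have hσ1 : ∀ u : ↥C, σ (QuotientGroup.mk' _ u) = QuotientGroup.mk' _ (conjOn C yC u) := by
    intro u
    have := hσmk 1 u
    rwa [pow_one, pow_one] at this
  have hσβ : ∀ w w', β (σ w) (σ w') = τ (β w w') := by
    intro w w'
    induction w using QuotientGroup.induction_on with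
    | H u =>
      induction w' using QuotientGroup.induction_on with
      | H v =>
        show β (σ (QuotientGroup.mk' _ u)) (σ (QuotientGroup.mk' _ v)) =
          τ (β (QuotientGroup.mk' _ u) (QuotientGroup.mk' _ v))
        rw [hσ1, hσ1]
        apply Subtype.ext
        rw [hβ, hτ, zAut_apply_coe, hβ]
        apply Subtype.ext
        simp only [commutatorElement_def, Subgroup.coe_mul, Subgroup.coe_inv, conjOn_apply_coe]
        group
  have hσρ : ∀ b w, σ (ρ b w) = ρ (φ b) (σ w) := by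
    intro b w
    induction w using QuotientGroup.induction_on with
    | H u =>
      show σ (ρ b (QuotientGroup.mk' _ u)) = ρ (φ b) (σ (QuotientGroup.mk' _ u))
      rw [hρ, hσ1, hσ1, hρ]
      congr 1
      apply Subtype.ext
      simp only [conjOn_apply_coe, Subgroup.coe_inclusion, hφ, hyC', hyA']
      group
  have hσN : σ ^ p ^ (n + 1) = 1 := by
    rw [hσ, ← map_pow, ← map_pow, hyCN, map_one, map_one]
  have hφN : φ ^ p ^ (n + 1) = 1 := by
    rw [hφ, ← map_pow, hyAN, map_one]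
  have hi' : ∀ X : Subgroup (↥C ⧸ Subgroup.center ↥C), (∀ w ∈ X, σ w ∈ X) →
      (∀ w ∈ X, ∀ w' ∈ X, β w w' = 1) → ∀ w ∈ X, (σ ^ p ^ n) w = w := by
    intro X hXσ hXβ w hw
    obtain ⟨B, hB⟩ : ∃ B : Subgroup L,
        B = (X.comap (QuotientGroup.mk' (Subgroup.center ↥C))).map C.subtype := ⟨_, rfl⟩
    have hBC : B ≤ C := by rw [hB]; rintro _ ⟨k, -, rfl⟩; exact k.2
    have hBab : ∀ b ∈ B, ∀ b' ∈ B, b * b' = b' * b := by
      intro b hb b' hb'
      rw [hB] at hb hb'
      obtain ⟨u, hu, rfl⟩ := hb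
      obtain ⟨v, hv, rfl⟩ := hb'
      have h1 := hXβ _ hu _ hv
      have h2 := hβ u v
      rw [h1] at h2
      have h3 : ⁅u, v⁆ = 1 := h2.symm
      have h4 : Commute u v := commutatorElement_eq_one_iff_commute.mp h3
      exact congrArg Subtype.val h4.eq
    have hBy : ∀ b ∈ B, y * b * y⁻¹ ∈ B := by
      intro b hb
      rw [hB] at hb ⊢
      obtain ⟨u, hu, rfl⟩ := hb
      refine ⟨conjOn C yC u, ?_, ?_⟩
      · show QuotientGroup.mk' _ (conjOn C yC u) ∈ X
        rw [← hσ1]; exact hXσ _ hu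
      · show ((conjOn C yC u : ↥C) : L) = y * u * y⁻¹
        rw [conjOn_apply_coe, hyC']
    have hcomm := hi B hBC hBab hBy
    induction w using QuotientGroup.induction_on with
    | H u =>
      show (σ ^ p ^ n) (QuotientGroup.mk' _ u) = QuotientGroup.mk' _ u
      rw [hσmk]
      congr 1
      apply Subtype.ext
      rw [conjOn_apply_coe, SubgroupClass.coe_pow, hyC']
      have huB : (u : L) ∈ B := by rw [hB]; exact ⟨u, hw, rfl⟩
      rw [hcomm u huB, mul_inv_cancel_right]
  have key := Cfsg.Agent.Lib.Helper1.HH2L.form_abstract hW hA' ρ β hβalt hβA σ τ φ hσβ hσρ n hσN hφN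
    hi' (⟨a, ha⟩ : ↥A)
  -- the element z
  obtain ⟨z', hz'⟩ : ∃ z' : ↥A, z' = (φ ^ p ^ n) ⟨a, ha⟩ * (⟨a, ha⟩ : ↥A)⁻¹ := ⟨_, rfl⟩
  rw [← hz'] at key
  have hz'coe : (z' : L) = y ^ p ^ n * a * (y ^ p ^ n)⁻¹ * a⁻¹ := by
    rw [hz', hφ, ← map_pow, Subgroup.coe_mul, conjOn_apply_coe, SubgroupClass.coe_pow, hyA']
    rfl
  rw [← hz'coe]
  intro c hc
  -- z c z⁻¹ = c t with t central
  have h1 := key (QuotientGroup.mk' _ ⟨c, hc⟩)
  rw [hρ] at h1
  have h1 : (conjOn C (Subgroup.inclusion hANC z') ⟨c, hc⟩)⁻¹ * ⟨c, hc⟩ ∈ Subgroup.center ↥C :=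
    QuotientGroup.eq.mp h1
  obtain ⟨t, ht⟩ : ∃ t : L, t = ((z' : L) * c * (z' : L)⁻¹)⁻¹ * c := ⟨_, rfl⟩
  have htC : t ∈ C := by
    rw [ht]
    exact C.mul_mem (C.inv_mem (hAC z' z'.2 c hc)) hc
  have htcen : ∀ w ∈ C, t * w = w * t := by
    intro w hw
    have := Subgroup.mem_center_iff.mp h1 ⟨w, hw⟩
    have h2 := congrArg Subtype.val this
    simp only [Subgroup.coe_mul, Subgroup.coe_inv, conjOn_apply_coe, Subgroup.coe_inclusion] at h2
    rw [ht]; exact h2.symm
  have hzt : (z' : L) * t = t * (z' : L) := hAZ z' z'.2 t htC htcen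
  -- z^k c z^-k = c t^-k
  have hpow : ∀ k : ℕ, (z' : L) ^ k * c * ((z' : L) ^ k)⁻¹ = c * (t⁻¹) ^ k := by
    intro k
    induction k with
    | zero => simp
    | succ k ih =>
      have hzc : (z' : L) * c * (z' : L)⁻¹ = c * t⁻¹ := by rw [ht]; group
      have hzti : (z' : L) * t⁻¹ = t⁻¹ * (z' : L) := by
        have : Commute (z' : L) t := hzt
        exact this.inv_right.eq
      have hztk : (z' : L) * (t⁻¹) ^ k = (t⁻¹) ^ k * (z' : L) := by
        have : Commute (z' : L) t⁻¹ := hzti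
        exact (this.pow_right k).eq
      calc (z' : L) ^ (k + 1) * c * ((z' : L) ^ (k + 1))⁻¹
          = (z' : L) * ((z' : L) ^ k * c * ((z' : L) ^ k)⁻¹) * (z' : L)⁻¹ := by
            rw [pow_succ']; group
        _ = (z' : L) * (c * (t⁻¹) ^ k) * (z' : L)⁻¹ := by rw [ih]
        _ = ((z' : L) * c * (z' : L)⁻¹) * ((z' : L) * (t⁻¹) ^ k * (z' : L)⁻¹) := by group
        _ = (c * t⁻¹) * ((t⁻¹) ^ k) := by rw [hzc, hztk, mul_inv_cancel_right]
        _ = c * (t⁻¹) ^ (k + 1) := by rw [pow_succ']; group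
  have hzp : (z' : L) ^ p = 1 := hAexp z' z'.2
  have h3 := hpow p
  rw [hzp, one_mul, inv_one, mul_one] at h3
  have htp : (t⁻¹) ^ p = 1 := by
    have : c * (t⁻¹) ^ p = c * 1 := by rw [mul_one]; exact h3.symm
    exact mul_left_cancel this
  have ht1 : t = 1 := by
    obtain ⟨k, hk⟩ := hCq ⟨t, htC⟩
    have hk' : t ^ q ^ k = 1 := by simpa using congrArg Subtype.val hk
    have htp' : t ^ p = 1 := by rw [inv_pow] at htp; exact inv_eq_one.mp htp
    have hd1 : orderOf t ∣ q ^ k := orderOf_dvd_of_pow_eq_one hk'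
    have hd2 : orderOf t ∣ p := orderOf_dvd_of_pow_eq_one htp'
    have hcop : Nat.Coprime (q ^ k) p :=
      Nat.Coprime.pow_left k ((Nat.coprime_primes hq.out hp.out).mpr (Ne.symm hpq))
    exact orderOf_eq_one_iff.mp (Nat.eq_one_of_dvd_coprimes hcop hd1 hd2)
  have h4 : (z' : L) * c * (z' : L)⁻¹ = c := by
    have hzc : (z' : L) * c * (z' : L)⁻¹ = c * t⁻¹ := by rw [ht]; group
    rw [hzc, ht1, inv_one, mul_one]
  calc (z' : L) * c = ((z' : L) * c * (z' : L)⁻¹) * (z' : L) := by group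
    _ = c * (z' : L) := by rw [h4]

end Cfsg.Agent.Lib.Helper6.HH2L
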