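import Mathlib

/-!
# Modular representations: basic notions (fixed points, trace operator, invariant subspaces)
-/

namespace Cfsg.Agent.Lib.Helper6.MR

open Module

variable {k : Type*} [Field k] {G : Type*} [Group G] {V : Type*} [AddCommGroup V] [Module k V]

/-- `W` is invariant under the subgroup `K` -/
def Inv (ρ : Representation k G V) (K : Subgroup G) (W : Submodule k V) : Prop :=
  ∀ g ∈ K, ∀ v ∈ W, ρ g v ∈ W

theorem Inv.mono {ρ : Representation k G V} {K K' : Subgroup G} {W : Submodule k V}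
    (h : Inv ρ K W) (hK : K' ≤ K) : Inv ρ K' W := fun g hg v hv => h g (hK hg) v hv

theorem Inv.inf {ρ : Representation k G V} {K : Subgroup G} {W W' : Submodule k V}
    (h : Inv ρ K W) (h' : Inv ρ K W') : Inv ρ K (W ⊓ W') :=
  fun g hg v hv => ⟨h g hg v hv.1, h' g hg v hv.2⟩

theorem Inv.sup {ρ : Representation k G V} {K : Subgroup G} {W W' : Submodule k V}
    (h : Inv ρ K W) (h' : Inv ρ K W') : Inv ρ K (W ⊔ W') := by
  intro g hg v hv
  obtain ⟨a, ha, b, hb, rfl⟩ := Submodule.mem_sup.mp hv
  rw [map_add]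
  exact Submodule.add_mem _ (Submodule.mem_sup_left (h g hg a ha))
    (Submodule.mem_sup_right (h' g hg b hb))

theorem inv_bot (ρ : Representation k G V) (K : Subgroup G) : Inv ρ K ⊥ := by
  intro g _ v hv
  rw [Submodule.mem_bot] at hv
  rw [hv, map_zero]
  exact Submodule.zero_mem _

theorem inv_top (ρ : Representation k G V) (K : Subgroup G) : Inv ρ K ⊤ :=
  fun _ _ _ _ => Submodule.mem_top

/-- the inverse also preserves an invariant subspace -/
theorem Inv.map_eq {ρ : Representation k G V} {K : Subgroup G} {W : Submodule k V}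
    (h : Inv ρ K W) {g : G} (hg : g ∈ K) {v : V} : ρ g v ∈ W ↔ v ∈ W := by
  constructor
  · intro hv
    have := h g⁻¹ (K.inv_mem hg) _ hv
    rwa [← Module.End.mul_apply, ← map_mul, inv_mul_cancel, map_one, Module.End.one_apply] at this
  · exact h g hg v

/-- the fixed points of the subgroup `P` -/
def fixedPts (ρ : Representation k G V) (P : Subgroup G) : Submodule k V where
  carrier := {v | ∀ z ∈ P, ρ z v = v}
  add_mem' := by
    intro a b ha hb z hz
    rw [map_add, ha z hz, hb z hz]
  zero_mem' := by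
    intro z _
    rw [map_zero]
  smul_mem' := by
    intro c a ha z hz
    rw [map_smul, ha z hz]

theorem mem_fixedPts {ρ : Representation k G V} {P : Subgroup G} {v : V} :
    v ∈ fixedPts ρ P ↔ ∀ z ∈ P, ρ z v = v := Iff.rfl

/-- the kernel of an operator commuting with `K` up to conjugation is invariant -/
theorem inv_fixedPts (ρ : Representation k G V) (P K : Subgroup G)
    (hK : ∀ n ∈ K, ∀ z ∈ P, n⁻¹ * z * n ∈ P) : Inv ρ K (fixedPts ρ P) := by
  intro n hn v hv z hz
  have h1 := hv _ (hK n hn z hz)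
  have h2 : ρ z (ρ n v) = ρ n (ρ (n⁻¹ * z * n) v) := by
    rw [← Module.End.mul_apply, ← Module.End.mul_apply, ← map_mul, ← map_mul]
    congr 2
    group
  rw [h2, h1]

section trace

variable [Fintype G]

open Classical in
/-- the trace operator of the subgroup `P` -/
noncomputable def trOp (ρ : Representation k G V) (P : Subgroup G) : V →ₗ[k] V :=
  ∑ z ∈ Finset.univ.filter (fun z : G => z ∈ P), ρ z

open Classical in
theorem trOp_apply (ρ : Representation k G V) (P : Subgroup G) (v : V) :
    trOp ρ P v = ∑ z ∈ Finset.univ.filter (fun z : G => z ∈ P), ρ z v := by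
  unfold trOp
  rw [LinearMap.sum_apply]

open Classical in
/-- multiplying the trace by an element of `P` on the left -/
theorem rho_trOp (ρ : Representation k G V) (P : Subgroup G) {z : G} (hz : z ∈ P) (v : V) :
    ρ z (trOp ρ P v) = trOp ρ P v := by
  rw [trOp_apply, map_sum]
  apply Finset.sum_bij (fun w _ => z * w)
  · intro w hw
    rw [Finset.mem_filter] at hw ⊢
    exact ⟨Finset.mem_univ _, P.mul_mem hz hw.2⟩
  · intro a _ b _ hab
    exact mul_left_cancel hab
  · intro b hb
    rw [Finset.mem_filter] at hb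
    refine ⟨z⁻¹ * b, ?_, by group⟩
    rw [Finset.mem_filter]
    exact ⟨Finset.mem_univ _, P.mul_mem (P.inv_mem hz) hb.2⟩
  · intro w _
    rw [map_mul, Module.End.mul_apply]

open Classical in
theorem trOp_rho (ρ : Representation k G V) (P : Subgroup G) {z : G} (hz : z ∈ P) (v : V) :
    trOp ρ P (ρ z v) = trOp ρ P v := by
  rw [trOp_apply, trOp_apply]
  apply Finset.sum_bij (fun w _ => w * z)
  · intro w hw
    rw [Finset.mem_filter] at hw ⊢
    exact ⟨Finset.mem_univ _, P.mul_mem hw.2 hz⟩
  · intro a _ b _ hab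
    exact mul_right_cancel hab
  · intro b hb
    rw [Finset.mem_filter] at hb
    refine ⟨b * z⁻¹, ?_, by group⟩
    rw [Finset.mem_filter]
    exact ⟨Finset.mem_univ _, P.mul_mem hb.2 (P.inv_mem hz)⟩
  · intro w _
    rw [map_mul, Module.End.mul_apply]

/-- the image of the trace operator -/
noncomputable def trRange (ρ : Representation k G V) (P : Subgroup G) : Submodule k V :=
  LinearMap.range (trOp ρ P)

theorem trRange_le_fixedPts (ρ : Representation k G V) (P : Subgroup G) :
    trRange ρ P ≤ fixedPts ρ P := by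
  rintro _ ⟨v, rfl⟩ z hz
  exact rho_trOp ρ P hz v

open Classical in
/-- an element normalizing `P` commutes with the trace operator -/
theorem rho_comm_trOp (ρ : Representation k G V) (P : Subgroup G) {n : G}
    (hn : ∀ z, z ∈ P ↔ n * z * n⁻¹ ∈ P) (v : V) :
    ρ n (trOp ρ P v) = trOp ρ P (ρ n v) := by
  rw [trOp_apply, trOp_apply, map_sum]
  apply Finset.sum_bij (fun w _ => n * w * n⁻¹)
  · intro w hw
    rw [Finset.mem_filter] at hw ⊢
    exact ⟨Finset.mem_univ _, (hn w).mp hw.2⟩
  · intro a _ b _ hab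
    have := mul_right_cancel hab
    exact mul_left_cancel this
  · intro b hb
    rw [Finset.mem_filter] at hb
    refine ⟨n⁻¹ * b * n, ?_, by group⟩
    rw [Finset.mem_filter]
    refine ⟨Finset.mem_univ _, (hn _).mpr ?_⟩
    have : n * (n⁻¹ * b * n) * n⁻¹ = b := by group
    rw [this]
    exact hb.2
  · intro w _
    rw [← Module.End.mul_apply, ← Module.End.mul_apply, ← map_mul, ← map_mul]
    congr 2
    group

theorem inv_trRange (ρ : Representation k G V) (P K : Subgroup G)
    (hK : ∀ n ∈ K, ∀ z, z ∈ P ↔ n * z * n⁻¹ ∈ P) : Inv ρ K (trRange ρ P) := by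
  rintro n hn _ ⟨v, rfl⟩
  exact ⟨ρ n v, (rho_comm_trOp ρ P (hK n hn) v).symm⟩

/-- the trace operator preserves `P`-invariant subspaces -/
theorem trOp_mem (ρ : Representation k G V) (P : Subgroup G) {W : Submodule k V}
    (hW : Inv ρ P W) {v : V} (hv : v ∈ W) : trOp ρ P v ∈ W := by
  classical
  rw [trOp_apply]
  apply Submodule.sum_mem
  intro z hz
  rw [Finset.mem_filter] at hz
  exact hW z hz.2 v hv

end trace

/-- a simple invariant subspace -/
def SimpleInv (ρ : Representation k G V) (K : Subgroup G) (W : Submodule k V) : Prop :=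
  W ≠ ⊥ ∧ Inv ρ K W ∧ ∀ W' : Submodule k V, Inv ρ K W' → W' ≤ W → W' = ⊥ ∨ W' = W

/-- every nonzero invariant subspace of a finite-dimensional space contains a simple one -/
theorem exists_simpleInv_le [FiniteDimensional k V] (ρ : Representation k G V) (K : Subgroup G)
    {W : Submodule k V} (hW : Inv ρ K W) (hne : W ≠ ⊥) :
    ∃ W₁ : Submodule k V, SimpleInv ρ K W₁ ∧ W₁ ≤ W := by
  have hwf : WellFounded (fun a b : Submodule k V => a < b) := wellFounded_lt
  set S : Set (Submodule k V) := {U | U ≠ ⊥ ∧ Inv ρ K U ∧ U ≤ W} with hS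
  have hSne : S.Nonempty := ⟨W, hne, hW, le_refl _⟩
  obtain ⟨W₁, hW₁, hmin⟩ := hwf.has_min S hSne
  refine ⟨W₁, ⟨hW₁.1, hW₁.2.1, ?_⟩, hW₁.2.2⟩
  intro W' hW' hle
  by_cases h0 : W' = ⊥
  · exact Or.inl h0
  · right
    have hmem : W' ∈ S := ⟨h0, hW', hle.trans hW₁.2.2⟩
    have := hmin W' hmem
    exact le_antisymm hle (by
      by_contra hcon
      exact this (lt_of_le_of_ne hle (fun h => hcon (h ▸ le_refl _))))

/-- Maschke's theorem for invariant subspaces -/
theorem exists_inv_compl [Fintype G] (ρ : Representation k G V) (K : Subgroup G)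
    (hK : (Nat.card K : k) ≠ 0) {A B : Submodule k V} (hA : Inv ρ K A) (hB : Inv ρ K B)
    (hAB : A ≤ B) : ∃ C : Submodule k V, Inv ρ K C ∧ C ≤ B ∧ A ⊓ C = ⊥ ∧ A ⊔ C = B := by
  classical
  obtain ⟨A', hA'⟩ := Submodule.exists_isCompl A
  set π₀ : V →ₗ[k] V := A.projection A' hA' with hπ₀
  have hπ₀mem : ∀ v, π₀ v ∈ A := fun v => Submodule.projection_apply_mem hA' v
  have hπ₀id : ∀ a ∈ A, π₀ a = a := fun a ha => Submodule.projection_apply_of_mem_left hA' ha
  set S := Finset.univ.filter (fun g : G => g ∈ K) with hSdef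
  have hcard : (S.card : k) = (Nat.card K : k) := by
    congr 1
    rw [Nat.card_eq_fintype_card, Fintype.card_subtype]
  set π : V →ₗ[k] V := (Nat.card K : k)⁻¹ • ∑ g ∈ S, ρ g ∘ₗ π₀ ∘ₗ ρ g⁻¹ with hπ
  have hπapply : ∀ v, π v = (Nat.card K : k)⁻¹ • ∑ g ∈ S, ρ g (π₀ (ρ g⁻¹ v)) := by
    intro v
    rw [hπ, LinearMap.smul_apply, LinearMap.sum_apply]
    rfl
  have hπmem : ∀ v, π v ∈ A := by
    intro v
    rw [hπapply]
    apply Submodule.smul_mem
    apply Submodule.sum_mem
    intro g hg
    rw [hSdef, Finset.mem_filter] at hg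
    exact hA g hg.2 _ (hπ₀mem _)
  have hπid : ∀ a ∈ A, π a = a := by
    intro a ha
    rw [hπapply]
    have : ∀ g ∈ S, ρ g (π₀ (ρ g⁻¹ a)) = a := by
      intro g hg
      rw [hSdef, Finset.mem_filter] at hg
      rw [hπ₀id _ (hA g⁻¹ (K.inv_mem hg.2) a ha), ← Module.End.mul_apply, ← map_mul,
        mul_inv_cancel, map_one, Module.End.one_apply]
    rw [Finset.sum_congr rfl this, Finset.sum_const, ← Nat.cast_smul_eq_nsmul k, hcard,
      smul_smul, inv_mul_cancel₀ hK, one_smul]
  have hπcomm : ∀ h ∈ K, ∀ v, π (ρ h v) = ρ h (π v) := by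
    intro h hh v
    rw [hπapply, hπapply, map_smul, map_sum]
    congr 1
    apply Finset.sum_bij (fun g _ => h⁻¹ * g)
    · intro g hg
      rw [hSdef, Finset.mem_filter] at hg ⊢
      exact ⟨Finset.mem_univ _, K.mul_mem (K.inv_mem hh) hg.2⟩
    · intro a _ b _ hab
      exact mul_left_cancel hab
    · intro b hb
      rw [hSdef, Finset.mem_filter] at hb
      refine ⟨h * b, ?_, by group⟩
      rw [hSdef, Finset.mem_filter]
      exact ⟨Finset.mem_univ _, K.mul_mem hh hb.2⟩
    · intro g _
      have e1 : ρ g⁻¹ (ρ h v) = ρ (h⁻¹ * g)⁻¹ v := by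
        rw [← Module.End.mul_apply, ← map_mul]
        congr 2
        group
      have e2 : ρ h (ρ (h⁻¹ * g) (π₀ (ρ (h⁻¹ * g)⁻¹ v))) = ρ g (π₀ (ρ (h⁻¹ * g)⁻¹ v)) := by
        rw [← Module.End.mul_apply, ← map_mul]
        congr 2
        group
      rw [e1, e2]
  refine ⟨B ⊓ LinearMap.ker π, ?_, inf_le_left, ?_, ?_⟩
  · intro h hh v hv
    refine ⟨hB h hh v hv.1, ?_⟩
    show π (ρ h v) = 0
    have hv2 : π v = 0 := hv.2
    rw [hπcomm h hh, hv2, map_zero]
  · rw [eq_bot_iff]
    intro a ha
    rw [Submodule.mem_bot]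
    have h1 := hπid a ha.1
    have h2 : π a = 0 := ha.2.2
    rw [← h1, h2]
  · apply le_antisymm
    · exact sup_le hAB inf_le_left
    · intro b hb
      have : b = π b + (b - π b) := by abel
      rw [this]
      apply Submodule.add_mem
      · exact Submodule.mem_sup_left (hπmem b)
      · apply Submodule.mem_sup_right
        refine ⟨Submodule.sub_mem _ hb (hAB (hπmem b)), ?_⟩
        show π (b - π b) = 0
        rw [map_sub, hπid _ (hπmem b), sub_self]

/-- Schur's lemma over an algebraically closed field -/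
theorem schur [IsAlgClosed k] [FiniteDimensional k V] (ρ : Representation k G V)
    (hirr : ρ.IsIrreducible) (T : V →ₗ[k] V) (hT : ∀ g v, T (ρ g v) = ρ g (T v)) :
    ∃ c : k, ∀ v, T v = c • v := by
  have : Nontrivial V := by
    have h1 : Nontrivial (Subrepresentation ρ) := IsSimpleOrder.toNontrivial
    obtain ⟨a, b, hab⟩ := h1
    by_contra hcon
    rw [not_nontrivial_iff_subsingleton] at hcon
    apply hab
    apply Subrepresentation.toSubmodule_injective
    exact Subsingleton.elim _ _
  obtain ⟨c, hc⟩ := Module.End.exists_eigenvalue T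
  refine ⟨c, ?_⟩
  set E : Subrepresentation ρ :=
    { toSubmodule := Module.End.eigenspace T c
      apply_mem_toSubmodule := by
        intro g v hv
        rw [Module.End.mem_eigenspace_iff] at hv ⊢
        rw [hT, hv, map_smul] } with hE
  have h2 : E = ⊥ ∨ E = ⊤ := IsSimpleOrder.eq_bot_or_eq_top E
  rcases h2 with h2 | h2
  · exfalso
    rw [Module.End.hasEigenvalue_iff] at hc
    apply hc
    have : E.toSubmodule = (⊥ : Subrepresentation ρ).toSubmodule := by rw [h2]
    exact this
  · intro v
    have : v ∈ E.toSubmodule := by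
      rw [h2]
      exact Submodule.mem_top
    exact Module.End.mem_eigenspace_iff.mp this

/-- an irreducible representation has no proper nonzero invariant subspaces -/
theorem irr_inv_eq (ρ : Representation k G V) (hirr : ρ.IsIrreducible) (W : Submodule k V)
    (hW : Inv ρ ⊤ W) : W = ⊥ ∨ W = ⊤ := by
  set E : Subrepresentation ρ :=
    { toSubmodule := W
      apply_mem_toSubmodule := fun g v hv => hW g (Subgroup.mem_top g) v hv }
  rcases IsSimpleOrder.eq_bot_or_eq_top E with h | h
  · left
    have : E.toSubmodule = (⊥ : Subrepresentation ρ).toSubmodule := by rw [h]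
    exact this
  · right
    have : E.toSubmodule = (⊤ : Subrepresentation ρ).toSubmodule := by rw [h]
    exact this

end Cfsg.Agent.Lib.Helper6.MR
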