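import Mathlib
import Cfsg.Agent.Lib.Helper6.MR1

/-!
# Modular representations: free actions and Green's trace argument
-/

namespace Cfsg.Agent.Lib.Helper6.MR

open Module

variable {k : Type*} [Field k] {G : Type*} [Group G] [Fintype G]
  {V : Type*} [AddCommGroup V] [Module k V]

/-- a sum over a set on which `P` acts freely, of a `P`-equivariant function, is a trace -/
theorem sum_free_mem {Ω : Type*} [MulAction G Ω] [DecidableEq Ω] (ρ : Representation k G V)
    (P : Subgroup G) (U : Submodule k V) (F : Ω → V) :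
    ∀ (n : ℕ) (Ω₀ : Finset Ω), Ω₀.card = n →
      (∀ z ∈ P, ∀ ω ∈ Ω₀, z • ω ∈ Ω₀) → (∀ z ∈ P, ∀ ω ∈ Ω₀, z • ω = ω → z = 1) →
      (∀ z ∈ P, ∀ ω ∈ Ω₀, F (z • ω) = ρ z (F ω)) → (∀ ω ∈ Ω₀, F ω ∈ U) →
      ∑ ω ∈ Ω₀, F ω ∈ U.map (trOp ρ P) := by
  classical
  intro n
  induction n using Nat.strong_induction_on with
  | _ n ih =>
    intro Ω₀ hcard hstab hfree hF hU
    by_cases hemp : Ω₀ = ∅
    · rw [hemp, Finset.sum_empty]
      exact Submodule.zero_mem _
    · obtain ⟨ω₀, hω₀⟩ := Finset.nonempty_iff_ne_empty.mpr hemp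
      set PS := Finset.univ.filter (fun z : G => z ∈ P) with hPS
      set O := PS.image (fun z => z • ω₀) with hO
      have hOsub : O ⊆ Ω₀ := by
        intro ω hω
        rw [hO, Finset.mem_image] at hω
        obtain ⟨z, hz, rfl⟩ := hω
        rw [hPS, Finset.mem_filter] at hz
        exact hstab z hz.2 ω₀ hω₀
      have hinj : Set.InjOn (fun z : G => z • ω₀) PS := by
        intro a ha b hb hab
        rw [hPS, Finset.coe_filter] at ha hb
        simp only [Set.mem_setOf_eq, Finset.mem_univ, true_and] at ha hb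
        have h1 : (b⁻¹ * a) • ω₀ = ω₀ := by
          rw [mul_smul]
          have hab' : a • ω₀ = b • ω₀ := hab
          rw [hab', inv_smul_smul]
        have := hfree _ (P.mul_mem (P.inv_mem hb) ha) ω₀ hω₀ h1
        exact (inv_mul_eq_one.mp this).symm
      have hsumO : ∑ ω ∈ O, F ω = trOp ρ P (F ω₀) := by
        rw [hO, Finset.sum_image hinj, trOp_apply]
        apply Finset.sum_congr rfl
        intro z hz
        rw [hPS, Finset.mem_filter] at hz
        exact hF z hz.2 ω₀ hω₀
      have hOne : ω₀ ∈ O := by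
        rw [hO, Finset.mem_image]
        refine ⟨1, ?_, one_smul _ _⟩
        rw [hPS, Finset.mem_filter]
        exact ⟨Finset.mem_univ _, P.one_mem⟩
      have hlt : (Ω₀ \ O).card < n := by
        rw [← hcard]
        apply Finset.card_lt_card
        rw [Finset.ssubset_iff_of_subset Finset.sdiff_subset]
        exact ⟨ω₀, hω₀, fun h => (Finset.mem_sdiff.mp h).2 hOne⟩
      have hrest := ih _ hlt (Ω₀ \ O) rfl ?_ ?_ ?_ ?_
      · rw [← Finset.sum_sdiff hOsub, hsumO]
        exact Submodule.add_mem _ hrest (Submodule.mem_map_of_mem (hU ω₀ hω₀))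
      · intro z hz ω hω
        rw [Finset.mem_sdiff] at hω ⊢
        refine ⟨hstab z hz ω hω.1, ?_⟩
        intro hcon
        apply hω.2
        rw [hO, Finset.mem_image] at hcon ⊢
        obtain ⟨z', hz', hz'eq⟩ := hcon
        rw [hPS, Finset.mem_filter] at hz'
        refine ⟨z⁻¹ * z', ?_, ?_⟩
        · rw [hPS, Finset.mem_filter]
          exact ⟨Finset.mem_univ _, P.mul_mem (P.inv_mem hz) hz'.2⟩
        · show (z⁻¹ * z') • ω₀ = ω
          rw [mul_smul]
          have : z' • ω₀ = z • ω := hz'eq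
          rw [this, inv_smul_smul]
      · intro z hz ω hω
        exact hfree z hz ω (Finset.mem_sdiff.mp hω).1
      · intro z hz ω hω
        exact hF z hz ω (Finset.mem_sdiff.mp hω).1
      · intro ω hω
        exact hU ω (Finset.mem_sdiff.mp hω).1

/-- an irreducible representation on which the identity is a trace from the trivial subgroup
has all fixed points of `P` in the image of the trace of `P` -/
theorem fixedPts_le_trRange_of_trace (ρ : Representation k G V) (P : Subgroup G)
    (φ : V →ₗ[k] V) (c : k) (hc : c ≠ 0)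
    (hφ : ∀ v, ∑ g : G, ρ g (φ (ρ g⁻¹ v)) = c • v) :
    fixedPts ρ P ≤ trRange ρ P := by
  classical
  intro u hu
  have h1 : ∑ g ∈ (Finset.univ : Finset G), ρ g (φ (ρ g⁻¹ u)) ∈ (⊤ : Submodule k V).map (trOp ρ P) := by
    apply sum_free_mem (Ω := G) ρ P ⊤ (fun g => ρ g (φ (ρ g⁻¹ u))) _ Finset.univ rfl
    · intro _ _ _ _; exact Finset.mem_univ _
    · intro z _ ω _ h
      have : z * ω = ω := h
      exact mul_eq_right.mp this
    · intro z hz ω _
      show ρ (z * ω) (φ (ρ (z * ω)⁻¹ u)) = ρ z (ρ ω (φ (ρ ω⁻¹ u)))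
      have e1 : ρ (z * ω)⁻¹ u = ρ ω⁻¹ u := by
        rw [mul_inv_rev, map_mul, Module.End.mul_apply]
        congr 1
        exact hu z⁻¹ (P.inv_mem hz)
      rw [e1, map_mul, Module.End.mul_apply]
    · intro _ _; exact Submodule.mem_top
  rw [hφ u] at h1
  obtain ⟨w, _, hw⟩ := h1
  refine ⟨c⁻¹ • w, ?_⟩
  rw [map_smul, hw, smul_smul, inv_mul_cancel₀ hc, one_smul]

/-- **Green's argument**: an irreducible representation restricted to `N` cannot split into two
summands both having fixed points of `P` outside the trace -/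
theorem green [IsAlgClosed k] [FiniteDimensional k V] (p : ℕ) [Fact p.Prime] [CharP k p]
    (ρ : Representation k G V) (hirr : ρ.IsIrreducible) (P N : Subgroup G) (hPN : P ≤ N)
    (hfree : ∀ g : G, ∀ z ∈ P, z ≠ 1 → g⁻¹ * z * g ∈ N → g ∈ N)
    (hidx : ¬ p ∣ N.index)
    (U₁ U₂ : Submodule k V) (hc : IsCompl U₁ U₂) (h1 : Inv ρ N U₁) (h2 : Inv ρ N U₂) :
    U₁ ⊓ fixedPts ρ P ≤ U₁.map (trOp ρ P) ∨ U₂ ⊓ fixedPts ρ P ≤ U₂.map (trOp ρ P) := by
  classical
  haveI : Fintype (G ⧸ N) := Fintype.ofFinite _
  -- the general statement for a pair of complementary invariant subspaces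
  have key : ∀ (A B : Submodule k V) (hAB : IsCompl A B), Inv ρ N A → Inv ρ N B →
      ∀ c : k, c ≠ 0 →
      (∀ v, ∑ q : G ⧸ N, ρ q.out (A.projection B hAB (ρ q.out⁻¹ v)) = c • v) →
      B ⊓ fixedPts ρ P ≤ B.map (trOp ρ P) := by
    intro A B hAB hA hB c hc0 hτ
    set πA := A.projection B hAB with hπA
    set πB := B.projection A hAB.symm with hπB
    have hπAcomm : ∀ n ∈ N, ∀ v, πA (ρ n v) = ρ n (πA v) := by
      intro n hn v
      have hv : v = πA v + πB v := by
        rw [hπA, hπB]
        exact (Submodule.projection_add_projection_eq_self hAB v).symm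
      have h3 : ρ n v = ρ n (πA v) + ρ n (πB v) := by rw [← map_add, ← hv]
      rw [h3, map_add, hπA, Submodule.projection_apply_of_mem_left hAB
        (hA n hn _ (Submodule.projection_apply_mem hAB v)),
        Submodule.projection_apply_of_mem_right hAB
        (hB n hn _ (Submodule.projection_apply_mem hAB.symm v)), add_zero]
    have hπBcomm : ∀ n ∈ N, ∀ v, πB (ρ n v) = ρ n (πB v) := by
      intro n hn v
      have hv : v = πA v + πB v := by
        rw [hπA, hπB]
        exact (Submodule.projection_add_projection_eq_self hAB v).symm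
      have h3 : ρ n v = ρ n (πA v) + ρ n (πB v) := by rw [← map_add, ← hv]
      rw [h3, map_add, hπB, Submodule.projection_apply_of_mem_right hAB.symm
        (hA n hn _ (Submodule.projection_apply_mem hAB v)),
        Submodule.projection_apply_of_mem_left hAB.symm
        (hB n hn _ (Submodule.projection_apply_mem hAB.symm v)), zero_add]
    -- the operator Θ(a) = ρ(a) πA ρ(a)⁻¹ depends only on the coset of a
    have hΘ : ∀ a b : G, (a : G ⧸ N) = (b : G ⧸ N) → ∀ v,
        ρ a (πA (ρ a⁻¹ v)) = ρ b (πA (ρ b⁻¹ v)) := by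
      intro a b hab v
      have hn : a⁻¹ * b ∈ N := QuotientGroup.eq.mp hab
      have e1 : ρ b⁻¹ v = ρ (a⁻¹ * b)⁻¹ (ρ a⁻¹ v) := by
        rw [← Module.End.mul_apply, ← map_mul]
        congr 2
        group
      have e2 : ρ b (ρ (a⁻¹ * b)⁻¹ (πA (ρ a⁻¹ v))) = ρ a (πA (ρ a⁻¹ v)) := by
        rw [← Module.End.mul_apply, ← map_mul]
        congr 2
        group
      rw [e1, hπAcomm _ (N.inv_mem hn), e2]
    intro u hu
    have hu2 : u ∈ B := hu.1
    have huP : ∀ z ∈ P, ρ z u = u := hu.2
    -- apply πB to the trace identity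
    have h3 : c • u = ∑ q : G ⧸ N, πB (ρ q.out (πA (ρ q.out⁻¹ u))) := by
      have h4 := congrArg πB (hτ u)
      rw [map_smul, map_sum, hπB, Submodule.projection_apply_of_mem_left hAB.symm hu2] at h4
      exact h4.symm
    set F : G ⧸ N → V := fun q => πB (ρ q.out (πA (ρ q.out⁻¹ u))) with hF
    set q₀ : G ⧸ N := ((1 : G) : G ⧸ N) with hq₀
    have hFq₀ : F q₀ = 0 := by
      rw [hF]
      simp only
      rw [hΘ q₀.out 1 (QuotientGroup.out_eq' q₀) u, inv_one, map_one, Module.End.one_apply,
        Module.End.one_apply, hπA, hπB,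
        Submodule.projection_apply_of_mem_right hAB.symm (Submodule.projection_apply_mem hAB u)]
    have hFmem : ∀ q, F q ∈ B := fun q => Submodule.projection_apply_mem hAB.symm _
    have hFeq : ∀ z ∈ P, ∀ q : G ⧸ N, F (z • q) = ρ z (F q) := by
      intro z hz q
      rw [hF]
      simp only
      have hcos : ((z • q).out : G ⧸ N) = ((z * q.out : G) : G ⧸ N) := by
        rw [QuotientGroup.out_eq']
        conv_lhs => rw [← QuotientGroup.out_eq' q]
        rfl
      rw [hΘ _ _ hcos u]
      have e1 : ρ (z * q.out)⁻¹ u = ρ q.out⁻¹ u := by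
        rw [mul_inv_rev, map_mul, Module.End.mul_apply, huP z⁻¹ (P.inv_mem hz)]
      rw [e1, map_mul, Module.End.mul_apply, hπBcomm z (hPN hz)]
    have hsum : ∑ q ∈ Finset.univ.erase q₀, F q ∈ B.map (trOp ρ P) := by
      apply sum_free_mem (Ω := G ⧸ N) ρ P B F _ (Finset.univ.erase q₀) rfl
      · intro z hz q hq
        rw [Finset.mem_erase] at hq ⊢
        refine ⟨?_, Finset.mem_univ _⟩
        intro hcon
        apply hq.1
        have : q = z⁻¹ • q₀ := by rw [← hcon, inv_smul_smul]
        rw [this, hq₀]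
        show ((z⁻¹ * 1 : G) : G ⧸ N) = ((1 : G) : G ⧸ N)
        rw [QuotientGroup.eq]
        simpa using hPN hz
      · intro z hz q hq hzq
        by_contra hz1
        rw [Finset.mem_erase] at hq
        apply hq.1
        have hq' : q = (q.out : G ⧸ N) := (QuotientGroup.out_eq' q).symm
        have h5 : ((z * q.out : G) : G ⧸ N) = (q.out : G ⧸ N) := by
          conv_rhs => rw [← hq', ← hzq, hq']
          rfl
        have h6 : (z * q.out)⁻¹ * q.out ∈ N := QuotientGroup.eq.mp h5
        have h7 : q.out⁻¹ * z * q.out ∈ N := by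
          have : q.out⁻¹ * z * q.out = ((z * q.out)⁻¹ * q.out)⁻¹ := by group
          rw [this]
          exact N.inv_mem h6
        have h8 := hfree q.out z hz hz1 h7
        rw [hq', hq₀, QuotientGroup.eq]
        simpa using N.inv_mem h8
      · intro z hz q _
        exact hFeq z hz q
      · intro q _
        exact hFmem q
    have h9 : c • u ∈ B.map (trOp ρ P) := by
      rw [h3, ← Finset.add_sum_erase Finset.univ F (Finset.mem_univ q₀), hFq₀, zero_add]
      exact hsum
    have : u = c⁻¹ • (c • u) := by rw [smul_smul, inv_mul_cancel₀ hc0, one_smul]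
    rw [this]
    exact Submodule.smul_mem _ _ h9
  -- the two trace operators
  have hτG : ∀ (A B : Submodule k V) (hAB : IsCompl A B), Inv ρ N A → Inv ρ N B →
      ∃ c : k, ∀ v, ∑ q : G ⧸ N, ρ q.out (A.projection B hAB (ρ q.out⁻¹ v)) = c • v := by
    intro A B hAB hA hB
    set πA := A.projection B hAB with hπA
    set πB := B.projection A hAB.symm with hπB
    have hπAcomm : ∀ n ∈ N, ∀ v, πA (ρ n v) = ρ n (πA v) := by
      intro n hn v
      have hv : v = πA v + πB v := by
        rw [hπA, hπB]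
        exact (Submodule.projection_add_projection_eq_self hAB v).symm
      have h3 : ρ n v = ρ n (πA v) + ρ n (πB v) := by rw [← map_add, ← hv]
      rw [h3, map_add, hπA, Submodule.projection_apply_of_mem_left hAB
        (hA n hn _ (Submodule.projection_apply_mem hAB v)),
        Submodule.projection_apply_of_mem_right hAB
        (hB n hn _ (Submodule.projection_apply_mem hAB.symm v)), add_zero]
    have hΘ : ∀ a b : G, (a : G ⧸ N) = (b : G ⧸ N) → ∀ v,
        ρ a (πA (ρ a⁻¹ v)) = ρ b (πA (ρ b⁻¹ v)) := by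
      intro a b hab v
      have hn : a⁻¹ * b ∈ N := QuotientGroup.eq.mp hab
      have e1 : ρ b⁻¹ v = ρ (a⁻¹ * b)⁻¹ (ρ a⁻¹ v) := by
        rw [← Module.End.mul_apply, ← map_mul]
        congr 2
        group
      have e2 : ρ b (ρ (a⁻¹ * b)⁻¹ (πA (ρ a⁻¹ v))) = ρ a (πA (ρ a⁻¹ v)) := by
        rw [← Module.End.mul_apply, ← map_mul]
        congr 2
        group
      rw [e1, hπAcomm _ (N.inv_mem hn), e2]
    set T : V →ₗ[k] V := ∑ q : G ⧸ N, ρ q.out ∘ₗ πA ∘ₗ ρ q.out⁻¹ with hT
    have hTapply : ∀ v, T v = ∑ q : G ⧸ N, ρ q.out (πA (ρ q.out⁻¹ v)) := by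
      intro v
      rw [hT, LinearMap.sum_apply]
      rfl
    have hTcomm : ∀ g v, T (ρ g v) = ρ g (T v) := by
      intro g v
      rw [hTapply, hTapply, map_sum]
      symm
      apply Finset.sum_bij (fun q _ => g • q)
      · intro _ _; exact Finset.mem_univ _
      · intro a _ b _ hab
        have := congrArg (fun q => g⁻¹ • q) hab
        simpa using this
      · intro b _
        exact ⟨g⁻¹ • b, Finset.mem_univ _, by simp⟩
      · intro q _
        have hcos : ((g • q).out : G ⧸ N) = ((g * q.out : G) : G ⧸ N) := by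
          rw [QuotientGroup.out_eq']
          conv_lhs => rw [← QuotientGroup.out_eq' q]
          rfl
        rw [hΘ _ _ hcos (ρ g v)]
        have e1 : ρ (g * q.out)⁻¹ (ρ g v) = ρ q.out⁻¹ v := by
          rw [← Module.End.mul_apply, ← map_mul]
          congr 2
          group
        rw [e1, map_mul, Module.End.mul_apply]
    obtain ⟨c, hc⟩ := schur ρ hirr T hTcomm
    exact ⟨c, fun v => by rw [← hTapply, hc]⟩
  obtain ⟨c₁, hc₁⟩ := hτG U₁ U₂ hc h1 h2
  obtain ⟨c₂, hc₂⟩ := hτG U₂ U₁ hc.symm h2 h1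
  have hsum : c₁ + c₂ = (N.index : k) := by
    haveI : Nontrivial V := by
      have h1 : Nontrivial (Subrepresentation ρ) := IsSimpleOrder.toNontrivial
      obtain ⟨a, b, hab⟩ := h1
      by_contra hcon
      rw [not_nontrivial_iff_subsingleton] at hcon
      apply hab
      apply Subrepresentation.toSubmodule_injective
      exact Subsingleton.elim _ _
    obtain ⟨v, hv⟩ := exists_ne (0 : V)
    have h3 : (c₁ + c₂) • v = (N.index : k) • v := by
      rw [add_smul, ← hc₁ v, ← hc₂ v, ← Finset.sum_add_distrib]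
      have : ∀ q : G ⧸ N, ρ q.out (U₁.projection U₂ hc (ρ q.out⁻¹ v))
          + ρ q.out (U₂.projection U₁ hc.symm (ρ q.out⁻¹ v)) = v := by
        intro q
        rw [← map_add, Submodule.projection_add_projection_eq_self hc, ← Module.End.mul_apply,
          ← map_mul, mul_inv_cancel, map_one, Module.End.one_apply]
      rw [Finset.sum_congr rfl (fun q _ => this q), Finset.sum_const, Finset.card_univ,
        ← Nat.cast_smul_eq_nsmul k]
      congr 2
      rw [Subgroup.index, Nat.card_eq_fintype_card]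
    by_contra hne
    apply hv
    have : (c₁ + c₂ - (N.index : k)) • v = 0 := by rw [sub_smul, h3, sub_self]
    rcases smul_eq_zero.mp this with h | h
    · exact absurd (sub_eq_zero.mp h) hne
    · exact h
  have hidx' : (N.index : k) ≠ 0 := by
    intro h
    exact hidx ((CharP.cast_eq_zero_iff k p _).mp h)
  by_cases hc₁0 : c₁ = 0
  · left
    have hc₂0 : c₂ ≠ 0 := by
      intro h
      rw [hc₁0, h, add_zero] at hsum
      exact hidx' hsum.symm
    exact key U₂ U₁ hc.symm h2 h1 c₂ hc₂0 hc₂
  · right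
    exact key U₁ U₂ hc h1 h2 c₁ hc₁0 hc₁

end Cfsg.Agent.Lib.Helper6.MR
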