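import Mathlib
import Cfsg.Agent.Lib.Helper6.MR1

/-!
# Modular representations: the local data and the nilpotent operator `x - 1`
-/

namespace Cfsg.Agent.Lib.Helper6.MR

open Module

/-- the local situation: a subgroup `P` of prime order generated by `x`, a subgroup `N`
normalizing it in which `P` has a complement `H` of order prime to `p` -/
structure LD (p : ℕ) (G : Type*) [Group G] where
  P : Subgroup G
  N : Subgroup G
  H : Subgroup G
  x : G
  hx : P = Subgroup.zpowers x
  hord : orderOf x = p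
  hPN : P ≤ N
  hHN : H ≤ N
  hnorm : ∀ n ∈ N, ∀ z, z ∈ P ↔ n * z * n⁻¹ ∈ P
  hHp : ¬ p ∣ Nat.card H
  hdec : ∀ n ∈ N, ∃ z ∈ P, ∃ h ∈ H, n = z * h
  hfree : ∀ g : G, ∀ z ∈ P, z ≠ 1 → g⁻¹ * z * g ∈ N → g ∈ N
  hidx : ¬ p ∣ N.index

variable {k : Type*} [Field k] {G : Type*} [Group G] {V : Type*} [AddCommGroup V] [Module k V]
variable {p : ℕ} [hp : Fact p.Prime]

/-- the operator `x - 1` -/
noncomputable def Xop (D : LD p G) (ρ : Representation k G V) : Module.End k V := ρ D.x - 1

/-- the geometric sum `1 + y + ... + y^(a-1)` for `y = ρ x` -/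
noncomputable def gs (D : LD p G) (ρ : Representation k G V) (a : ℕ) : Module.End k V :=
  ∑ j ∈ Finset.range a, (ρ D.x) ^ j

theorem LD.x_mem (D : LD p G) : D.x ∈ D.P := by
  rw [D.hx]; exact Subgroup.mem_zpowers _

theorem LD.mem_P_iff (D : LD p G) (z : G) : z ∈ D.P ↔ ∃ j : ℕ, z = D.x ^ j := by
  have hfin : IsOfFinOrder D.x := by
    rw [← orderOf_pos_iff, D.hord]; exact hp.out.pos
  rw [D.hx, ← hfin.mem_powers_iff_mem_zpowers, Submonoid.mem_powers_iff]
  constructor
  · rintro ⟨j, hj⟩; exact ⟨j, hj.symm⟩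
  · rintro ⟨j, hj⟩; exact ⟨j, hj.symm⟩

theorem commute_gs_Xop (D : LD p G) (ρ : Representation k G V) (a : ℕ) :
    Commute (gs D ρ a) (Xop D ρ) := by
  unfold gs Xop
  apply Commute.sum_left
  intro j _
  apply Commute.sub_right
  · exact (Commute.refl _).pow_left j
  · exact Commute.one_right _

/-- `x - 1` times the geometric sum is `x^a - 1` -/
theorem Xop_mul_gs (D : LD p G) (ρ : Representation k G V) (a : ℕ) :
    Xop D ρ * gs D ρ a = (ρ D.x) ^ a - 1 := by
  unfold Xop gs
  exact mul_geom_sum (ρ D.x) a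

/-- the fixed points of `P` are the kernel of `x - 1` -/
theorem fixedPts_eq_ker (D : LD p G) (ρ : Representation k G V) :
    fixedPts ρ D.P = LinearMap.ker (Xop D ρ) := by
  ext v
  rw [mem_fixedPts, LinearMap.mem_ker]
  unfold Xop
  rw [LinearMap.sub_apply, Module.End.one_apply, sub_eq_zero]
  constructor
  · intro h; exact h _ D.x_mem
  · intro h z hz
    obtain ⟨j, rfl⟩ := (D.mem_P_iff z).mp hz
    rw [map_pow]
    have h2 : ∀ j : ℕ, ((ρ D.x) ^ j) v = v := by
      intro j
      induction j with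
      | zero => simp
      | succ j ih => rw [pow_succ, Module.End.mul_apply, h, ih]
    exact h2 j

/-- the geometric sum acts as a scalar on the fixed points -/
theorem gs_apply_of_mem_ker (D : LD p G) (ρ : Representation k G V) (a : ℕ) {v : V}
    (hv : v ∈ LinearMap.ker (Xop D ρ)) : gs D ρ a v = (a : k) • v := by
  have h1 : ρ D.x v = v := by
    rw [LinearMap.mem_ker] at hv
    unfold Xop at hv
    rw [LinearMap.sub_apply, Module.End.one_apply, sub_eq_zero] at hv
    exact hv
  have h2 : ∀ j : ℕ, ((ρ D.x) ^ j) v = v := by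
    intro j
    induction j with
    | zero => simp
    | succ j ih => rw [pow_succ, Module.End.mul_apply, h1, ih]
  unfold gs
  rw [LinearMap.sum_apply, Finset.sum_congr rfl (fun j _ => h2 j), Finset.sum_const,
    Finset.card_range, Nat.cast_smul_eq_nsmul]

/-- the polynomial identity `1 + T + ... + T^(p-1) = (T - 1)^(p-1)` in characteristic `p` -/
theorem geom_sum_eq_sub_one_pow [CharP k p] {A : Type*} [Ring A] [Algebra k A] (y : A) :
    ∑ j ∈ Finset.range p, y ^ j = (y - 1) ^ (p - 1) := by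
  have hpoly : (∑ j ∈ Finset.range p, (Polynomial.X : Polynomial k) ^ j)
      = (Polynomial.X - 1) ^ (p - 1) := by
    have h1 : (Polynomial.X - 1 : Polynomial k) ≠ 0 := Polynomial.X_sub_C_ne_zero 1
    apply mul_left_cancel₀ h1
    rw [mul_geom_sum, ← pow_succ', Nat.sub_add_cancel hp.out.one_le]
    haveI : CharP (Polynomial k) p := inferInstance
    rw [sub_pow_char, one_pow]
  have := congrArg (Polynomial.aeval y) hpoly
  simpa using this

open Classical in
/-- the trace operator of `P` is `(x - 1)^(p-1)` -/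
theorem trOp_eq_pow [Fintype G] [CharP k p] (D : LD p G) (ρ : Representation k G V) :
    trOp ρ D.P = (Xop D ρ) ^ (p - 1) := by
  unfold Xop
  rw [← geom_sum_eq_sub_one_pow (k := k) (ρ D.x)]
  unfold trOp
  have hinj : Set.InjOn (fun j : ℕ => D.x ^ j) (Finset.range p : Set ℕ) := by
    intro a ha b hb hab
    rw [Finset.coe_range, Set.mem_Iio] at ha hb
    have h1 : D.x ^ a = D.x ^ b := hab
    have hord := D.hord
    rw [pow_inj_mod] at h1
    have ha' : a % orderOf D.x = a := by rw [hord]; exact Nat.mod_eq_of_lt ha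
    have hb' : b % orderOf D.x = b := by rw [hord]; exact Nat.mod_eq_of_lt hb
    rw [ha', hb'] at h1
    exact h1
  have himg : Finset.univ.filter (fun z : G => z ∈ D.P) = (Finset.range p).image (fun j => D.x ^ j) := by
    ext z
    rw [Finset.mem_filter, Finset.mem_image]
    constructor
    · rintro ⟨_, hz⟩
      obtain ⟨j, rfl⟩ := (D.mem_P_iff z).mp hz
      refine ⟨j % p, Finset.mem_range.mpr (Nat.mod_lt _ hp.out.pos), ?_⟩
      have hjp : j % p = j % orderOf D.x := by rw [D.hord]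
      show D.x ^ (j % p) = D.x ^ j
      rw [hjp, pow_mod_orderOf]
    · rintro ⟨j, _, rfl⟩
      exact ⟨Finset.mem_univ _, (D.mem_P_iff _).mpr ⟨j, rfl⟩⟩
  rw [himg, Finset.sum_image hinj]
  apply Finset.sum_congr rfl
  intro j _
  rw [map_pow]

/-- elements of `P` act as powers of `ρ x` -/
theorem rho_of_mem_P (D : LD p G) (ρ : Representation k G V) {z : G} (hz : z ∈ D.P) :
    ∃ j : ℕ, ρ z = (ρ D.x) ^ j := by
  obtain ⟨j, rfl⟩ := (D.mem_P_iff z).mp hz
  exact ⟨j, map_pow _ _ _⟩

/-- a subspace stable under `x - 1` is stable under `P` -/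
theorem inv_P_of_Xop (D : LD p G) (ρ : Representation k G V) {W : Submodule k V}
    (hW : ∀ v ∈ W, Xop D ρ v ∈ W) : Inv ρ D.P W := by
  have h1 : ∀ v ∈ W, ρ D.x v ∈ W := by
    intro v hv
    have : ρ D.x v = Xop D ρ v + v := by
      unfold Xop
      rw [LinearMap.sub_apply, Module.End.one_apply]; abel
    rw [this]
    exact Submodule.add_mem _ (hW v hv) hv
  have h2 : ∀ (j : ℕ) (v : V), v ∈ W → ((ρ D.x) ^ j) v ∈ W := by
    intro j
    induction j with
    | zero => intro v hv; simpa using hv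
    | succ j ih =>
      intro v hv
      rw [pow_succ, Module.End.mul_apply]
      exact ih _ (h1 v hv)
  intro z hz v hv
  obtain ⟨j, hj⟩ := rho_of_mem_P D ρ hz
  rw [hj]
  exact h2 j v hv

/-- a `P`-stable subspace is stable under `x - 1` -/
theorem Xop_mem_of_inv (D : LD p G) (ρ : Representation k G V) {W : Submodule k V}
    (hW : Inv ρ D.P W) {v : V} (hv : v ∈ W) : Xop D ρ v ∈ W := by
  unfold Xop
  rw [LinearMap.sub_apply, Module.End.one_apply]
  exact Submodule.sub_mem _ (hW _ D.x_mem v hv) hv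

/-- a `P`-stable subspace is stable under the geometric sums -/
theorem gs_mem_of_inv (D : LD p G) (ρ : Representation k G V) {W : Submodule k V}
    (hW : Inv ρ D.P W) (a : ℕ) {v : V} (hv : v ∈ W) : gs D ρ a v ∈ W := by
  unfold gs
  rw [LinearMap.sum_apply]
  apply Submodule.sum_mem
  intro j _
  rw [← map_pow]
  exact hW _ (D.P.pow_mem D.x_mem j) v hv

theorem pow_mem_of_forall_mem {W : Submodule k V} {T : Module.End k V}
    (hT : ∀ v ∈ W, T v ∈ W) (j : ℕ) {v : V} (hv : v ∈ W) : (T ^ j) v ∈ W := by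
  induction j generalizing v with
  | zero => simpa using hv
  | succ j ih =>
    rw [pow_succ, Module.End.mul_apply]
    exact ih (hT v hv)

/-- invariance under `N` follows from invariance under `P` and `H` -/
theorem inv_N_of (D : LD p G) (ρ : Representation k G V) {W : Submodule k V}
    (hP : Inv ρ D.P W) (hH : Inv ρ D.H W) : Inv ρ D.N W := by
  intro n hn v hv
  obtain ⟨z, hz, h, hh, rfl⟩ := D.hdec n hn
  rw [map_mul, Module.End.mul_apply]
  exact hP z hz _ (hH h hh v hv)

/-- the twisting relation: for `n ∈ N`, `(x - 1) ρ(n) = ρ(n) (x - 1) g` with `g` a geometric sum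
of length prime to `p` -/
theorem twist [CharP k p] (D : LD p G) (ρ : Representation k G V) {n : G} (hn : n ∈ D.N) :
    ∃ a : ℕ, (a : k) ≠ 0 ∧ ∀ v, Xop D ρ (ρ n v) = ρ n (Xop D ρ (gs D ρ a v)) := by
  have h1 : n⁻¹ * D.x * n ∈ D.P := by
    have := (D.hnorm n⁻¹ (D.N.inv_mem hn) D.x).mp D.x_mem
    simpa using this
  obtain ⟨a, ha⟩ := (D.mem_P_iff _).mp h1
  refine ⟨a, ?_, ?_⟩
  · intro h0
    have hdvd : p ∣ a := (CharP.cast_eq_zero_iff k p a).mp h0
    have h2 : D.x ^ a = 1 := by
      have hdvd' : orderOf D.x ∣ a := by rw [D.hord]; exact hdvd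
      exact orderOf_dvd_iff_pow_eq_one.mp hdvd' 
    rw [h2] at ha
    have h3 : D.x = 1 := by
      have : D.x = n * (n⁻¹ * D.x * n) * n⁻¹ := by group
      rw [this, ha]; group
    have h4 := D.hord
    rw [h3, orderOf_one] at h4
    exact hp.out.one_lt.ne h4
  · intro v
    have h2 : ρ D.x (ρ n v) = ρ n (((ρ D.x) ^ a) v) := by
      rw [← map_pow, ← ha, ← Module.End.mul_apply, ← Module.End.mul_apply, ← map_mul, ← map_mul]
      congr 2
      group
    have h3 : Xop D ρ (gs D ρ a v) = ((ρ D.x) ^ a) v - v := by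
      rw [← Module.End.mul_apply, Xop_mul_gs, LinearMap.sub_apply, Module.End.one_apply]
    rw [h3, map_sub, ← h2]
    unfold Xop
    rw [LinearMap.sub_apply, Module.End.one_apply]

/-- powers of the twisting relation -/
theorem twist_pow [CharP k p] (D : LD p G) (ρ : Representation k G V) {n : G} (hn : n ∈ D.N) :
    ∃ a : ℕ, (a : k) ≠ 0 ∧ ∀ (j : ℕ) v,
      ((Xop D ρ) ^ j) (ρ n v) = ρ n (((Xop D ρ) ^ j) (((gs D ρ a) ^ j) v)) := by
  obtain ⟨a, ha0, ha⟩ := twist D ρ hn
  refine ⟨a, ha0, ?_⟩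
  intro j
  induction j with
  | zero => intro v; simp
  | succ j ih =>
    intro v
    have hc := commute_gs_Xop D ρ a
    have hc2 : Commute (gs D ρ a) ((Xop D ρ) ^ j) := hc.pow_right j
    have e1 : ∀ w, gs D ρ a (((Xop D ρ) ^ j) w) = ((Xop D ρ) ^ j) (gs D ρ a w) := by
      intro w
      rw [← Module.End.mul_apply, ← Module.End.mul_apply, hc2.eq]
    have e2 : ((Xop D ρ) ^ (j + 1)) (ρ n v) = Xop D ρ (((Xop D ρ) ^ j) (ρ n v)) := by
      rw [pow_succ', Module.End.mul_apply]
    have e3 : ((Xop D ρ) ^ (j + 1)) (((gs D ρ a) ^ (j + 1)) v)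
        = Xop D ρ (((Xop D ρ) ^ j) (gs D ρ a (((gs D ρ a) ^ j) v))) := by
      rw [pow_succ' (Xop D ρ) j, pow_succ' (gs D ρ a) j, Module.End.mul_apply,
        Module.End.mul_apply]
    rw [e2, ih, ha, e3, e1]

/-- the kernels of the powers of `x - 1` are `N`-invariant -/
theorem inv_ker_pow [CharP k p] (D : LD p G) (ρ : Representation k G V) (j : ℕ) :
    Inv ρ D.N (LinearMap.ker ((Xop D ρ) ^ j)) := by
  intro n hn v hv
  obtain ⟨a, _, ha⟩ := twist_pow D ρ hn
  rw [LinearMap.mem_ker] at hv ⊢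
  rw [ha j v]
  have hc2 : Commute ((gs D ρ a) ^ j) ((Xop D ρ) ^ j) :=
    ((commute_gs_Xop D ρ a).pow_right j).pow_left j
  have e1 : ((Xop D ρ) ^ j) (((gs D ρ a) ^ j) v) = ((gs D ρ a) ^ j) (((Xop D ρ) ^ j) v) := by
    rw [← Module.End.mul_apply, ← Module.End.mul_apply, hc2.eq]
  rw [e1, hv, map_zero, map_zero]

/-- the images of the powers of `x - 1` are `N`-invariant -/
theorem inv_range_pow [CharP k p] (D : LD p G) (ρ : Representation k G V) (j : ℕ) :
    Inv ρ D.N (LinearMap.range ((Xop D ρ) ^ j)) := by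
  rintro n hn _ ⟨v, rfl⟩
  obtain ⟨a, _, ha⟩ := twist_pow D ρ (D.N.inv_mem hn)
  have h3 := ha j (ρ n v)
  rw [← Module.End.mul_apply (ρ n⁻¹) (ρ n), ← map_mul, inv_mul_cancel, map_one,
    Module.End.one_apply] at h3
  refine ⟨((gs D ρ a) ^ j) (ρ n v), ?_⟩
  have h4 := congrArg (ρ n) h3
  rw [← Module.End.mul_apply (ρ n) (ρ n⁻¹), ← map_mul, mul_inv_cancel, map_one,
    Module.End.one_apply] at h4
  exact h4.symm

end Cfsg.Agent.Lib.Helper6.MR
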