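import Mathlib
import Cfsg.Agent.Lib.Helper6.MR3

/-!
# Modular representations: the equivariant splitting lemma
-/

namespace Cfsg.Agent.Lib.Helper6.MR

open Module

variable {k : Type*} [Field k] {G : Type*} [Group G] {V : Type*} [AddCommGroup V] [Module k V]
variable {p : ℕ} [hp : Fact p.Prime]

/-- the twisting relation in the other direction -/
theorem twist_pow' [CharP k p] (D : LD p G) (ρ : Representation k G V) {n : G} (hn : n ∈ D.N) :
    ∃ a : ℕ, (a : k) ≠ 0 ∧ ∀ (j : ℕ) v,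
      ρ n (((Xop D ρ) ^ j) v) = ((Xop D ρ) ^ j) (((gs D ρ a) ^ j) (ρ n v)) := by
  obtain ⟨a, ha0, ha⟩ := twist_pow D ρ (D.N.inv_mem hn)
  refine ⟨a, ha0, ?_⟩
  intro j v
  have h3 := ha j (ρ n v)
  rw [← Module.End.mul_apply (ρ n⁻¹) (ρ n), ← map_mul, inv_mul_cancel, map_one,
    Module.End.one_apply] at h3
  have h4 := congrArg (ρ n) h3
  rw [← Module.End.mul_apply (ρ n) (ρ n⁻¹), ← map_mul, mul_inv_cancel, map_one,
    Module.End.one_apply] at h4
  exact h4

/-- powers of the geometric sum act as scalars on the fixed points -/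
theorem gs_pow_apply_of_mem_ker (D : LD p G) (ρ : Representation k G V) (a j : ℕ) {v : V}
    (hv : v ∈ LinearMap.ker (Xop D ρ)) : ((gs D ρ a) ^ j) v = ((a : k) ^ j) • v := by
  induction j with
  | zero => simp
  | succ j ih =>
    rw [pow_succ', Module.End.mul_apply, ih, map_smul, gs_apply_of_mem_ker D ρ a hv, smul_smul,
      pow_succ]

omit hp in
theorem pow_add_apply (T : Module.End k V) (a b : ℕ) (v : V) :
    (T ^ (a + b)) v = (T ^ a) ((T ^ b) v) := by
  rw [pow_add, Module.End.mul_apply]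

/-- **the splitting lemma** -/
theorem split [Fintype G] [FiniteDimensional k V] [CharP k p] (D : LD p G)
    (ρ : Representation k G V) (W₁ : Submodule k V) (i : ℕ) (hsimple : SimpleInv ρ D.N W₁)
    (hker : W₁ ≤ LinearMap.ker (Xop D ρ)) (hrange : W₁ ≤ LinearMap.range ((Xop D ρ) ^ i))
    (hdisj : W₁ ⊓ LinearMap.range ((Xop D ρ) ^ (i + 1)) = ⊥) :
    ∃ U₁ U₂ : Submodule k V, IsCompl U₁ U₂ ∧ Inv ρ D.N U₁ ∧ Inv ρ D.N U₂ ∧
      U₁ ⊓ LinearMap.ker (Xop D ρ) = W₁ ∧ U₁ ≤ LinearMap.ker ((Xop D ρ) ^ (i + 1)) := by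
  classical
  set X := Xop D ρ with hX
  have hW₁N : Inv ρ D.N W₁ := hsimple.2.1
  have hHcard : (Nat.card D.H : k) ≠ 0 := by
    intro h
    exact D.hHp ((CharP.cast_eq_zero_iff k p _).mp h)
  have hkerX : ∀ w ∈ W₁, X w = 0 := fun w hw => LinearMap.mem_ker.mp (hker hw)
  -- Step A
  set Ut : Submodule k V := W₁.comap (X ^ i) with hUt
  have hUtinv : Inv ρ D.H Ut := by
    intro h hh u hu
    rw [hUt, Submodule.mem_comap] at hu ⊢
    obtain ⟨a, _, ha⟩ := twist_pow D ρ (D.hHN hh)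
    rw [ha i u]
    have hc2 : Commute ((gs D ρ a) ^ i) (X ^ i) :=
      ((commute_gs_Xop D ρ a).pow_right i).pow_left i
    have e1 : (X ^ i) (((gs D ρ a) ^ i) u) = ((gs D ρ a) ^ i) ((X ^ i) u) := by
      rw [← Module.End.mul_apply, ← Module.End.mul_apply, hc2.eq]
    rw [e1, gs_pow_apply_of_mem_ker D ρ a i (hker hu)]
    exact hW₁N h (D.hHN hh) _ (Submodule.smul_mem _ _ hu)
  have hkerle : LinearMap.ker (X ^ i) ≤ Ut := by
    intro v hv
    rw [hUt, Submodule.mem_comap, LinearMap.mem_ker.mp hv]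
    exact Submodule.zero_mem _
  have hkerinv : Inv ρ D.H (LinearMap.ker (X ^ i)) := (inv_ker_pow D ρ i).mono D.hHN
  -- Step B
  obtain ⟨W', hW'inv, hW'le, hW'disj, hW'sup⟩ :=
    exists_inv_compl ρ D.H hHcard hkerinv hUtinv hkerle
  -- Step C
  have hinjW' : ∀ w ∈ W', (X ^ i) w = 0 → w = 0 := by
    intro w hw h0
    have : w ∈ LinearMap.ker (X ^ i) ⊓ W' := ⟨LinearMap.mem_ker.mpr h0, hw⟩
    rw [hW'disj, Submodule.mem_bot] at this
    exact this
  have hmapW' : W'.map (X ^ i) = W₁ := by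
    apply le_antisymm
    · rintro _ ⟨w, hw, rfl⟩
      have := hW'le hw
      rwa [hUt, Submodule.mem_comap] at this
    · intro w hw
      obtain ⟨u, rfl⟩ := hrange hw
      have hu : u ∈ Ut := by rw [hUt, Submodule.mem_comap]; exact hw
      rw [← hW'sup] at hu
      obtain ⟨u₀, hu₀, w', hw', rfl⟩ := Submodule.mem_sup.mp hu
      refine ⟨w', hw', ?_⟩
      rw [map_add, LinearMap.mem_ker.mp hu₀, zero_add]
  -- Step D
  set U₁ : Submodule k V := ⨆ j : ℕ, W'.map (X ^ j) with hU₁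
  have hU₁X : ∀ u ∈ U₁, X u ∈ U₁ := by
    intro u hu
    have h1 : U₁.map X ≤ U₁ := by
      rw [hU₁, Submodule.map_iSup]
      apply iSup_le
      intro j
      rw [← Submodule.map_comp]
      have : X ∘ₗ (X ^ j) = X ^ (j + 1) := by rw [pow_succ']; rfl
      rw [this]
      exact le_iSup (fun j => W'.map (X ^ j)) (j + 1)
    exact h1 (Submodule.mem_map_of_mem hu)
  have hW'U₁ : W' ≤ U₁ := by
    have h1 : W'.map (X ^ 0) ≤ U₁ := le_iSup (fun j => W'.map (X ^ j)) 0
    rwa [pow_zero, Module.End.one_eq_id, Submodule.map_id] at h1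
  have hU₁dec : U₁ ≤ W' ⊔ U₁.map X := by
    rw [hU₁]
    apply iSup_le
    intro j
    cases j with
    | zero =>
      rw [pow_zero, Module.End.one_eq_id, Submodule.map_id]
      exact le_sup_left
    | succ j =>
      have : X ^ (j + 1) = X ∘ₗ (X ^ j) := by rw [pow_succ']; rfl
      rw [this, Submodule.map_comp]
      refine le_trans (Submodule.map_mono ?_) le_sup_right
      exact le_iSup (fun j => W'.map (X ^ j)) j
  have hU₁ker : U₁ ≤ LinearMap.ker (X ^ (i + 1)) := by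
    rw [hU₁]
    apply iSup_le
    intro j
    rintro _ ⟨w, hw, rfl⟩
    rw [LinearMap.mem_ker, ← Module.End.mul_apply, pow_mul_comm, Module.End.mul_apply, pow_succ',
      Module.End.mul_apply]
    have : (X ^ i) w ∈ W₁ := by rw [← hmapW']; exact Submodule.mem_map_of_mem hw
    rw [hkerX _ this, map_zero]
  have hU₁P : Inv ρ D.P U₁ := inv_P_of_Xop D ρ hU₁X
  have hU₁H : Inv ρ D.H U₁ := by
    intro h hh u hu
    rw [hU₁] at hu
    refine Submodule.iSup_induction (fun j => W'.map (X ^ j)) (motive := fun u => ρ h u ∈ U₁) hu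
      ?_ ?_ ?_
    · rintro j _ ⟨w, hw, rfl⟩
      obtain ⟨a, _, ha⟩ := twist_pow' D ρ (D.hHN hh)
      rw [ha j w]
      apply pow_mem_of_forall_mem hU₁X
      apply pow_mem_of_forall_mem (fun v hv => gs_mem_of_inv D ρ hU₁P a hv)
      exact hW'U₁ (hW'inv h hh w hw)
    · rw [map_zero]; exact Submodule.zero_mem _
    · intro a b ha hb
      rw [map_add]; exact Submodule.add_mem _ ha hb
  have hU₁N : Inv ρ D.N U₁ := inv_N_of D ρ hU₁P hU₁H
  have hW₁U₁ : W₁ ≤ U₁ := by
    rw [← hmapW']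
    exact le_iSup (fun j => W'.map (X ^ j)) i
  -- Step E
  have hE : U₁ ⊓ LinearMap.ker X = W₁ := by
    apply le_antisymm
    · rintro u ⟨hu, huX⟩
      have huX' : X u = 0 := LinearMap.mem_ker.mp huX
      have hpos : ∀ m : ℕ, 1 ≤ m → (X ^ m) u = 0 := by
        intro m hm
        obtain ⟨m', rfl⟩ := Nat.exists_eq_add_of_le hm
        rw [add_comm, pow_succ, Module.End.mul_apply, huX', map_zero]
      have hdecomp : ∀ u' ∈ U₁, ∃ w' ∈ W', ∃ u'' ∈ U₁, u' = w' + X u'' := by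
        intro u' hu'
        obtain ⟨w', hw', y, hy, rfl⟩ := Submodule.mem_sup.mp (hU₁dec hu')
        obtain ⟨u'', hu'', rfl⟩ := hy
        exact ⟨w', hw', u'', hu'', rfl⟩
      have claim : ∀ m : ℕ, m ≤ i → u ∈ U₁.map (X ^ m) := by
        intro m
        induction m with
        | zero =>
          intro _
          rw [pow_zero, Module.End.one_eq_id, Submodule.map_id]; exact hu
        | succ m ih =>
          intro hm
          obtain ⟨u', hu', rfl⟩ := ih (Nat.le_of_succ_le hm)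
          obtain ⟨w', hw', u'', hu'', rfl⟩ := hdecomp u' hu'
          have h1 : (X ^ (i - m)) ((X ^ m) (w' + X u'')) = 0 := hpos (i - m) (by omega)
          have h2 : (X ^ (i - m)) ((X ^ m) (w' + X u'')) = (X ^ i) w' + (X ^ (i + 1)) u'' := by
            rw [← pow_add_apply, Nat.sub_add_cancel (Nat.le_of_succ_le hm), map_add]
            congr 1
          rw [h2, LinearMap.mem_ker.mp (hU₁ker hu''), add_zero] at h1
          have hw0 := hinjW' w' hw' h1
          refine ⟨u'', hu'', ?_⟩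
          rw [hw0, zero_add, pow_succ, Module.End.mul_apply]
      obtain ⟨u', hu', rfl⟩ := claim i (le_refl i)
      obtain ⟨w', hw', u'', hu'', rfl⟩ := hdecomp u' hu'
      have : (X ^ i) (w' + X u'') = (X ^ i) w' := by
        rw [map_add]
        have : (X ^ i) (X u'') = (X ^ (i + 1)) u'' := by rw [pow_succ, Module.End.mul_apply]
        rw [this, LinearMap.mem_ker.mp (hU₁ker hu''), add_zero]
      rw [this, ← hmapW']
      exact Submodule.mem_map_of_mem hw'
    · exact le_inf hW₁U₁ hker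
  -- Step F
  set S : Set (Submodule k V) := {U | Inv ρ D.N U ∧ LinearMap.range (X ^ (i + 1)) ≤ U ∧
    U ⊓ W₁ = ⊥} with hS
  have hSne : S.Nonempty :=
    ⟨LinearMap.range (X ^ (i + 1)), inv_range_pow D ρ (i + 1), le_refl _, by
      rw [inf_comm]; exact hdisj⟩
  have hwf : WellFounded (fun a b : Submodule k V => a > b) := wellFounded_gt
  obtain ⟨U₂, hU₂S, hU₂max⟩ := hwf.has_min S hSne
  obtain ⟨hU₂N, hU₂range, hU₂W₁⟩ := hU₂S
  have hU₂P : Inv ρ D.P U₂ := hU₂N.mono D.hPN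
  have hU₂X : ∀ u ∈ U₂, X u ∈ U₂ := fun u hu => Xop_mem_of_inv D ρ hU₂P hu
  -- Step G
  have hG : U₁ ⊓ U₂ = ⊥ := by
    by_contra hne
    set Z := U₁ ⊓ U₂ with hZ
    have hZN : Inv ρ D.N Z := hU₁N.inf hU₂N
    have hZX : ∀ z ∈ Z, X z ∈ Z := fun z hz => ⟨hU₁X z hz.1, hU₂X z hz.2⟩
    obtain ⟨z₀, hz₀, hz₀ne⟩ := Submodule.exists_mem_ne_zero_of_ne_bot hne
    have hex : ∃ m : ℕ, (X ^ m) z₀ = 0 :=
      ⟨i + 1, LinearMap.mem_ker.mp (hU₁ker hz₀.1)⟩
    set m := Nat.find hex with hm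
    have hm0 : (X ^ m) z₀ = 0 := Nat.find_spec hex
    have hmpos : m ≠ 0 := by
      intro h0
      rw [h0, pow_zero, Module.End.one_apply] at hm0
      exact hz₀ne hm0
    obtain ⟨m', hm'⟩ := Nat.exists_eq_succ_of_ne_zero hmpos
    have hz₁ne : (X ^ m') z₀ ≠ 0 := by
      intro h
      have := Nat.find_min' hex h
      omega
    have hz₁Z : (X ^ m') z₀ ∈ Z := pow_mem_of_forall_mem hZX m' hz₀
    have hz₁ker : (X ^ m') z₀ ∈ LinearMap.ker X := by
      rw [LinearMap.mem_ker, ← Module.End.mul_apply, ← pow_succ', ← Nat.succ_eq_add_one, ← hm']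
      exact hm0
    have hZker : Inv ρ D.N (Z ⊓ LinearMap.ker X) := by
      have := inv_ker_pow D ρ 1
      rw [pow_one] at this
      exact hZN.inf this
    have hle : Z ⊓ LinearMap.ker X ≤ W₁ := by
      rw [← hE]
      exact inf_le_inf_right _ inf_le_left
    rcases hsimple.2.2 _ hZker hle with h | h
    · have : (X ^ m') z₀ ∈ Z ⊓ LinearMap.ker X := ⟨hz₁Z, hz₁ker⟩
      rw [h, Submodule.mem_bot] at this
      exact hz₁ne this
    · have hW₁U₂ : W₁ ≤ U₂ := by
        rw [← h]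
        exact le_trans inf_le_left inf_le_right
      apply hsimple.1
      rw [eq_bot_iff, ← hU₂W₁]
      exact le_inf hW₁U₂ (le_refl _)
  -- Step H
  set K₁ : Submodule k V := U₂.comap X with hK₁
  have hK₁le : K₁ ≤ W₁ ⊔ U₂ := by
    have hAle : W₁ ⊔ U₂ ≤ K₁ := by
      apply sup_le
      · intro w hw
        rw [hK₁, Submodule.mem_comap, hkerX w hw]
        exact Submodule.zero_mem _
      · intro u hu
        rw [hK₁, Submodule.mem_comap]
        exact hU₂X u hu
    have hK₁H : Inv ρ D.H K₁ := by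
      intro h hh v hv
      rw [hK₁, Submodule.mem_comap] at hv ⊢
      obtain ⟨a, _, ha⟩ := twist D ρ (D.hHN hh)
      rw [ha v]
      have hc := commute_gs_Xop D ρ a
      have e1 : X (gs D ρ a v) = gs D ρ a (X v) := by
        rw [← Module.End.mul_apply, ← Module.End.mul_apply, hc.eq]
      rw [e1]
      exact hU₂N h (D.hHN hh) _ (gs_mem_of_inv D ρ hU₂P a hv)
    have hAH : Inv ρ D.H (W₁ ⊔ U₂) := (hW₁N.sup hU₂N).mono D.hHN
    obtain ⟨C, hCinv, hCle, hCdisj, hCsup⟩ := exists_inv_compl ρ D.H hHcard hAH hK₁H hAle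
    set U₂' := U₂ ⊔ C with hU₂'
    have hU₂'le : U₂' ≤ K₁ := sup_le (le_trans le_sup_right hAle) hCle
    have hU₂'X : ∀ v ∈ U₂', X v ∈ U₂' := by
      intro v hv
      have := hU₂'le hv
      rw [hK₁, Submodule.mem_comap] at this
      exact Submodule.mem_sup_left this
    have hU₂'N : Inv ρ D.N U₂' :=
      inv_N_of D ρ (inv_P_of_Xop D ρ hU₂'X) ((hU₂N.mono D.hHN).sup hCinv)
    have hU₂'W₁ : U₂' ⊓ W₁ = ⊥ := by
      rw [eq_bot_iff]
      rintro v ⟨hv, hvW⟩
      obtain ⟨u₂, hu₂, c, hc, rfl⟩ := Submodule.mem_sup.mp hv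
      have hcA : c ∈ W₁ ⊔ U₂ := by
        have : c = (u₂ + c) - u₂ := by abel
        rw [this]
        exact Submodule.sub_mem _ (Submodule.mem_sup_left hvW) (Submodule.mem_sup_right hu₂)
      have hc0 : c = 0 := by
        have : c ∈ (W₁ ⊔ U₂) ⊓ C := ⟨hcA, hc⟩
        rw [hCdisj, Submodule.mem_bot] at this
        exact this
      rw [hc0, add_zero] at hvW ⊢
      rw [← hU₂W₁]
      exact ⟨hu₂, hvW⟩
    have hmem : U₂' ∈ S := ⟨hU₂'N, le_trans hU₂range le_sup_left, hU₂'W₁⟩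
    have hnot := hU₂max U₂' hmem
    have hU₂'eq : U₂' = U₂ := by
      by_contra hne
      exact hnot (lt_of_le_of_ne le_sup_left (fun h => hne h.symm))
    have hCU₂ : C ≤ U₂ := by rw [← hU₂'eq]; exact le_sup_right
    have hC0 : C = ⊥ := by
      rw [eq_bot_iff, ← hCdisj]
      exact le_inf (le_trans hCU₂ le_sup_right) (le_refl _)
    rw [← hCsup, hC0, sup_bot_eq]
  -- Step I
  have hL : ∀ v, X v ∈ U₁ ⊔ U₂ → v ∈ U₁ ⊔ U₂ := by
    intro v hv
    obtain ⟨u₁, hu₁, u₂, hu₂, hsum⟩ := Submodule.mem_sup.mp hv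
    obtain ⟨w', hw', y, hy, rfl⟩ := Submodule.mem_sup.mp (hU₁dec hu₁)
    obtain ⟨u₁', hu₁', rfl⟩ := hy
    set v' := v - u₁' with hv'
    have hXv' : X v' = w' + u₂ := by
      rw [hv', map_sub, ← hsum]; abel
    have h1 : (X ^ i) w' ∈ U₂ := by
      have h2 : (X ^ (i + 1)) v' = (X ^ i) w' + (X ^ i) u₂ := by
        rw [pow_succ, Module.End.mul_apply, hXv', map_add]
      have h3 : (X ^ (i + 1)) v' ∈ U₂ := hU₂range ⟨v', rfl⟩
      have h4 : (X ^ i) u₂ ∈ U₂ := pow_mem_of_forall_mem hU₂X i hu₂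
      have : (X ^ i) w' = (X ^ (i + 1)) v' - (X ^ i) u₂ := by rw [h2]; abel
      rw [this]
      exact Submodule.sub_mem _ h3 h4
    have h5 : (X ^ i) w' ∈ W₁ := by rw [← hmapW']; exact Submodule.mem_map_of_mem hw'
    have h6 : (X ^ i) w' = 0 := by
      have : (X ^ i) w' ∈ U₂ ⊓ W₁ := ⟨h1, h5⟩
      rw [hU₂W₁, Submodule.mem_bot] at this
      exact this
    have hw0 := hinjW' w' hw' h6
    rw [hw0, zero_add] at hXv'
    have hv'K : v' ∈ K₁ := by
      rw [hK₁, Submodule.mem_comap, hXv']; exact hu₂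
    have hv'mem : v' ∈ U₁ ⊔ U₂ := sup_le_sup_right hW₁U₁ U₂ (hK₁le hv'K)
    have : v = v' + u₁' := by rw [hv']; abel
    rw [this]
    exact Submodule.add_mem _ hv'mem (Submodule.mem_sup_left hu₁')
  have hI : U₁ ⊔ U₂ = ⊤ := by
    rw [eq_top_iff]
    intro v _
    have claim : ∀ m : ℕ, ∀ v, (X ^ m) v ∈ U₁ ⊔ U₂ → v ∈ U₁ ⊔ U₂ := by
      intro m
      induction m with
      | zero => intro v hv; simpa using hv
      | succ m ih =>
        intro v hv
        apply ih
        apply hL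
        rwa [← Module.End.mul_apply, ← pow_succ']
    exact claim (i + 1) v (Submodule.mem_sup_right (hU₂range ⟨v, rfl⟩))
  exact ⟨U₁, U₂, IsCompl.of_eq hG hI, hU₁N, hU₂N, hE, hU₁ker⟩

end Cfsg.Agent.Lib.Helper6.MR
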