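import Mathlib
import Cfsg.Agent.Lib.Helper6.MR2
import Cfsg.Agent.Lib.Helper6.MR4

/-!
# Modular representations: the Tate quotient of an irreducible module is simple
-/

namespace Cfsg.Agent.Lib.Helper6.MR

open Module

variable {k : Type*} [Field k] {G : Type*} [Group G] {V : Type*} [AddCommGroup V] [Module k V]
variable {p : ℕ} [hp : Fact p.Prime]

omit hp in
theorem range_pow_succ_le (T : Module.End k V) (j : ℕ) :
    LinearMap.range (T ^ (j + 1)) ≤ LinearMap.range (T ^ j) := by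
  rintro _ ⟨v, rfl⟩
  exact ⟨T v, by rw [pow_succ, Module.End.mul_apply]⟩

/-- for an irreducible representation, the fixed points of `P` modulo the traces form a simple
or zero module for the normalizer -/
theorem beta [Fintype G] [IsAlgClosed k] [FiniteDimensional k V] [CharP k p] (D : LD p G)
    (ρ : Representation k G V) (hirr : ρ.IsIrreducible) (W₀ : Submodule k V)
    (hW₀ : Inv ρ D.N W₀) (h1 : trRange ρ D.P ≤ W₀) (h2 : W₀ ≤ fixedPts ρ D.P) :
    W₀ = trRange ρ D.P ∨ W₀ = fixedPts ρ D.P := by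
  classical
  by_cases hEq : fixedPts ρ D.P ≤ trRange ρ D.P
  · left; exact le_antisymm (h2.trans hEq) h1
  have hfix : fixedPts ρ D.P = LinearMap.ker (Xop D ρ) := fixedPts_eq_ker D ρ
  have htr : trRange ρ D.P = LinearMap.range ((Xop D ρ) ^ (p - 1)) := by
    unfold trRange; rw [trOp_eq_pow D ρ]
  obtain ⟨F, hF⟩ : ∃ F : ℕ → Submodule k V,
      F = fun j => LinearMap.ker (Xop D ρ) ⊓ LinearMap.range ((Xop D ρ) ^ j) := ⟨_, rfl⟩
  have hFj : ∀ j, F j = LinearMap.ker (Xop D ρ) ⊓ LinearMap.range ((Xop D ρ) ^ j) := by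
    intro j; rw [hF]
  have hF0 : F 0 = LinearMap.ker (Xop D ρ) := by
    rw [hFj, pow_zero, Module.End.one_eq_id, LinearMap.range_id, inf_top_eq]
  have hFp : F (p - 1) = trRange ρ D.P := by
    rw [hFj, ← htr, ← hfix]
    exact inf_eq_right.mpr (trRange_le_fixedPts ρ D.P)
  have hFanti : ∀ j, F (j + 1) ≤ F j := by
    intro j
    rw [hFj, hFj]
    exact inf_le_inf_left _ (range_pow_succ_le (Xop D ρ) j)
  obtain ⟨i, hi, hne⟩ : ∃ i, i < p - 1 ∧ F (i + 1) ≠ F i := by
    by_contra hcon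
    push Not at hcon
    have hall : ∀ j, j ≤ p - 1 → F j = F 0 := by
      intro j
      induction j with
      | zero => intro _; rfl
      | succ j ih =>
        intro hj
        rw [hcon j (by omega), ih (by omega)]
    have h3 := hall (p - 1) le_rfl
    rw [hFp, hF0, ← hfix] at h3
    exact hEq (le_of_eq h3.symm)
  have hkN : Inv ρ D.N (LinearMap.ker (Xop D ρ)) := by
    have := inv_ker_pow D ρ 1
    rwa [pow_one] at this
  have hFN : ∀ j, Inv ρ D.N (F j) := by
    intro j; rw [hFj]; exact hkN.inf (inv_range_pow D ρ j)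
  have hHcard : (Nat.card D.H : k) ≠ 0 := by
    intro h
    exact D.hHp ((CharP.cast_eq_zero_iff k p _).mp h)
  obtain ⟨C₀, hC₀H, hC₀le, hC₀inf, hC₀sup⟩ := exists_inv_compl ρ D.H hHcard
    ((hFN (i + 1)).mono D.hHN) ((hFN i).mono D.hHN) (hFanti i)
  have hC₀ne : C₀ ≠ ⊥ := by
    intro h
    rw [h, sup_bot_eq] at hC₀sup
    exact hne hC₀sup
  have hFile : F i ≤ LinearMap.ker (Xop D ρ) := by rw [hFj]; exact inf_le_left
  have hFire : F i ≤ LinearMap.range ((Xop D ρ) ^ i) := by rw [hFj]; exact inf_le_right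
  have hC₀ker : C₀ ≤ LinearMap.ker (Xop D ρ) := hC₀le.trans hFile
  have hC₀P : Inv ρ D.P C₀ := by
    apply inv_P_of_Xop D ρ
    intro v hv
    have : Xop D ρ v = 0 := LinearMap.mem_ker.mp (hC₀ker hv)
    rw [this]; exact Submodule.zero_mem _
  have hC₀N : Inv ρ D.N C₀ := inv_N_of D ρ hC₀P hC₀H
  obtain ⟨W₁, hsimple, hW₁C₀⟩ := exists_simpleInv_le ρ D.N hC₀N hC₀ne
  have hker : W₁ ≤ LinearMap.ker (Xop D ρ) := hW₁C₀.trans hC₀ker
  have hrange : W₁ ≤ LinearMap.range ((Xop D ρ) ^ i) := hW₁C₀.trans (hC₀le.trans hFire)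
  have hdisj : W₁ ⊓ LinearMap.range ((Xop D ρ) ^ (i + 1)) = ⊥ := by
    rw [eq_bot_iff]
    rintro w ⟨hw1, hw2⟩
    have : w ∈ F (i + 1) ⊓ C₀ := by
      refine ⟨?_, hW₁C₀ hw1⟩
      rw [hFj]; exact ⟨hker hw1, hw2⟩
    rw [hC₀inf] at this
    exact this
  obtain ⟨U₁, U₂, hc, hU₁, hU₂, hE, hU₁k⟩ := split D ρ W₁ i hsimple hker hrange hdisj
  have hU₁map : U₁.map (trOp ρ D.P) = ⊥ := by
    rw [eq_bot_iff]
    rintro _ ⟨u, hu, rfl⟩
    rw [Submodule.mem_bot, trOp_eq_pow D ρ]
    have h3 : (Xop D ρ) ^ (p - 1) = (Xop D ρ) ^ ((p - 1 - (i + 1)) + (i + 1)) := by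
      congr 1; omega
    rw [h3, pow_add_apply, LinearMap.mem_ker.mp (hU₁k hu), map_zero]
  rcases green p ρ hirr D.P D.N D.hPN D.hfree D.hidx U₁ U₂ hc hU₁ hU₂ with hg | hg
  · exfalso
    rw [hU₁map, hfix, hE] at hg
    exact hsimple.1 (le_bot_iff.mp hg)
  · have hU₂tr : U₂ ⊓ fixedPts ρ D.P ≤ trRange ρ D.P := by
      intro v hv
      obtain ⟨u, _, hu⟩ := hg hv
      exact ⟨u, hu⟩
    have hfixle : fixedPts ρ D.P ≤ W₁ ⊔ trRange ρ D.P := by
      intro v hv
      have hvX : Xop D ρ v = 0 := by rw [hfix] at hv; exact LinearMap.mem_ker.mp hv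
      have hvtop : v ∈ U₁ ⊔ U₂ := by rw [hc.sup_eq_top]; exact Submodule.mem_top
      obtain ⟨u₁, hu₁, u₂, hu₂, rfl⟩ := Submodule.mem_sup.mp hvtop
      have hX1 : Xop D ρ u₁ ∈ U₁ := Xop_mem_of_inv D ρ (hU₁.mono D.hPN) hu₁
      have hX2 : Xop D ρ u₂ ∈ U₂ := Xop_mem_of_inv D ρ (hU₂.mono D.hPN) hu₂
      rw [map_add] at hvX
      have h4 : Xop D ρ u₁ = - Xop D ρ u₂ := eq_neg_of_add_eq_zero_left hvX
      have h5 : Xop D ρ u₁ ∈ U₁ ⊓ U₂ := ⟨hX1, by rw [h4]; exact Submodule.neg_mem _ hX2⟩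
      rw [hc.inf_eq_bot, Submodule.mem_bot] at h5
      have h6 : Xop D ρ u₂ = 0 := by
        rw [h5] at h4
        exact neg_eq_zero.mp h4.symm
      apply Submodule.add_mem
      · apply Submodule.mem_sup_left
        rw [← hE]; exact ⟨hu₁, LinearMap.mem_ker.mpr h5⟩
      · apply Submodule.mem_sup_right
        apply hU₂tr
        refine ⟨hu₂, ?_⟩
        rw [hfix]; exact LinearMap.mem_ker.mpr h6
    have hW01 : Inv ρ D.N (W₀ ⊓ W₁) := hW₀.inf hsimple.2.1
    rcases hsimple.2.2 (W₀ ⊓ W₁) hW01 inf_le_right with h7 | h7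
    · left
      apply le_antisymm _ h1
      intro w hw
      obtain ⟨w₁, hw₁, r, hr, hwr⟩ := Submodule.mem_sup.mp (hfixle (h2 hw))
      have hw₁0 : w₁ ∈ W₀ ⊓ W₁ := by
        refine ⟨?_, hw₁⟩
        have : w₁ = w - r := by rw [← hwr]; abel
        rw [this]; exact Submodule.sub_mem _ hw (h1 hr)
      rw [h7, Submodule.mem_bot] at hw₁0
      rw [← hwr, hw₁0, zero_add]; exact hr
    · right
      apply le_antisymm h2
      have hW₁W₀ : W₁ ≤ W₀ := by rw [← h7]; exact inf_le_left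
      exact hfixle.trans (sup_le hW₁W₀ h1)

/-! ### the action of functions on the group -/

/-- the action of a function on the group, viewed as an element of the group algebra -/
noncomputable def act [Fintype G] (ρ : Representation k G V) (a : G → k) : Module.End k V :=
  ∑ g : G, a g • ρ g

omit hp in
theorem act_apply [Fintype G] (ρ : Representation k G V) (a : G → k) (v : V) :
    act ρ a v = ∑ g : G, a g • ρ g v := by
  unfold act
  simp only [LinearMap.sum_apply, LinearMap.smul_apply]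

/-- convolution of functions on the group -/
def conv [Fintype G] (a b : G → k) : G → k := fun u => ∑ g : G, a g * b (g⁻¹ * u)

omit hp in
theorem act_conv [Fintype G] (ρ : Representation k G V) (a b : G → k) (v : V) :
    act ρ (conv a b) v = act ρ a (act ρ b v) := by
  rw [act_apply, act_apply]
  simp only [act_apply, map_sum, map_smul, Finset.smul_sum, smul_smul]
  unfold conv
  simp only [Finset.sum_smul]
  rw [Finset.sum_comm]
  apply Finset.sum_congr rfl
  intro g _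
  apply Fintype.sum_equiv (Equiv.mulLeft g⁻¹)
  intro u
  have : ρ g (ρ (g⁻¹ * u) v) = ρ u v := by
    rw [← Module.End.mul_apply, ← map_mul, mul_inv_cancel_left]
  simp only [Equiv.coe_mulLeft, this]

omit hp in
theorem act_mem [Fintype G] (ρ : Representation k G V) {K : Subgroup G} {W : Submodule k V}
    (hW : Inv ρ K W) {a : G → k} (ha : ∀ g, a g ≠ 0 → g ∈ K) {v : V} (hv : v ∈ W) :
    act ρ a v ∈ W := by
  rw [act_apply]
  apply Submodule.sum_mem
  intro g _
  by_cases h : a g = 0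
  · rw [h, zero_smul]; exact Submodule.zero_mem _
  · exact Submodule.smul_mem _ _ (hW g (ha g h) v hv)

omit hp in
theorem act_comm_rho [Fintype G] (ρ : Representation k G V) {K : Subgroup G} {a : G → k}
    (hcl : ∀ h ∈ K, ∀ g, a (h * g * h⁻¹) = a g) {h : G} (hh : h ∈ K) (v : V) :
    ρ h (act ρ a v) = act ρ a (ρ h v) := by
  rw [act_apply, act_apply, map_sum]
  apply Fintype.sum_equiv (MulAut.conj h).toEquiv
  intro g
  show ρ h (a g • ρ g v) = a (h * g * h⁻¹) • ρ (h * g * h⁻¹) (ρ h v)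
  rw [hcl h hh g, map_smul]
  congr 1
  rw [← Module.End.mul_apply, ← Module.End.mul_apply, ← map_mul, ← map_mul]
  congr 2
  group

omit hp in
theorem act_trOp [Fintype G] (D : LD p G) (ρ : Representation k G V) {a : G → k}
    (ha : ∀ g, a g ≠ 0 → g ∈ D.N) (v : V) :
    act ρ a (trOp ρ D.P v) = trOp ρ D.P (act ρ a v) := by
  rw [act_apply, act_apply, map_sum]
  apply Finset.sum_congr rfl
  intro g _
  by_cases h : a g = 0
  · rw [h, zero_smul, zero_smul, map_zero]
  · rw [map_smul, rho_comm_trOp ρ D.P (D.hnorm g (ha g h)) v]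

omit hp in
theorem inv_fixedPts_N (D : LD p G) (ρ : Representation k G V) :
    Inv ρ D.N (fixedPts ρ D.P) := by
  apply inv_fixedPts
  intro n hn z hz
  have := (D.hnorm n⁻¹ (D.N.inv_mem hn) z).mp hz
  rwa [inv_inv] at this

/-- the function `a` detects a nonzero class in the Tate quotient of `ρ` -/
def Hit [Fintype G] (D : LD p G) (ρ : Representation k G V) (a : G → k) : Prop :=
  ∃ u ∈ fixedPts ρ D.P, act ρ a u ∉ trRange ρ D.P

/-- isomorphism of representations -/
def IsIso {W : Type*} [AddCommGroup W] [Module k W] (ρ : Representation k G V)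
    (σ : Representation k G W) : Prop :=
  ∃ e : V ≃ₗ[k] W, ∀ g v, e (ρ g v) = σ g (e v)

omit hp in
theorem IsIso.symm {W : Type*} [AddCommGroup W] [Module k W] {ρ : Representation k G V}
    {σ : Representation k G W} (h : IsIso ρ σ) : IsIso σ ρ := by
  obtain ⟨e, he⟩ := h
  refine ⟨e.symm, ?_⟩
  intro g w
  apply e.injective
  rw [he, LinearEquiv.apply_symm_apply, LinearEquiv.apply_symm_apply]

omit hp in
theorem act_equiv [Fintype G] {W : Type*} [AddCommGroup W] [Module k W]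
    {ρ : Representation k G V} {σ : Representation k G W} (e : V ≃ₗ[k] W)
    (he : ∀ g v, e (ρ g v) = σ g (e v)) (a : G → k) (v : V) :
    e (act ρ a v) = act σ a (e v) := by
  rw [act_apply, act_apply, map_sum]
  apply Finset.sum_congr rfl
  intro g _
  rw [map_smul, he]

omit hp in
theorem trOp_equiv [Fintype G] {W : Type*} [AddCommGroup W] [Module k W]
    {ρ : Representation k G V} {σ : Representation k G W} (e : V ≃ₗ[k] W)
    (he : ∀ g v, e (ρ g v) = σ g (e v)) (P : Subgroup G) (v : V) :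
    e (trOp ρ P v) = trOp σ P (e v) := by
  classical
  rw [trOp_apply, trOp_apply, map_sum]
  apply Finset.sum_congr rfl
  intro g _
  rw [he]

omit hp in
theorem Hit.of_iso [Fintype G] {W : Type*} [AddCommGroup W] [Module k W]
    {ρ : Representation k G V} {σ : Representation k G W} (D : LD p G) {a : G → k}
    (h : IsIso ρ σ) (hh : Hit D ρ a) : Hit D σ a := by
  obtain ⟨e, he⟩ := h
  obtain ⟨u, hu, hnot⟩ := hh
  refine ⟨e u, ?_, ?_⟩
  · intro z hz
    rw [← he, hu z hz]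
  · rintro ⟨w, hw⟩
    apply hnot
    refine ⟨e.symm w, ?_⟩
    apply e.injective
    rw [trOp_equiv e he, LinearEquiv.apply_symm_apply, hw, act_equiv e he]

/-- two functions annihilating each other cannot both detect the Tate quotient of an irreducible
representation -/
theorem hit_excl [Fintype G] [IsAlgClosed k] [FiniteDimensional k V] [CharP k p] (D : LD p G)
    (ρ : Representation k G V) (hirr : ρ.IsIrreducible) (a a' : G → k)
    (ha : ∀ g, a g ≠ 0 → g ∈ D.H) (ha' : ∀ g, a' g ≠ 0 → g ∈ D.H)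
    (hcl : ∀ h ∈ D.H, ∀ g, a (h * g * h⁻¹) = a g) (hzero : conv a' a = 0)
    (hh : Hit D ρ a) : ¬ Hit D ρ a' := by
  have haN : ∀ g, a g ≠ 0 → g ∈ D.N := fun g hg => D.hHN (ha g hg)
  have ha'N : ∀ g, a' g ≠ 0 → g ∈ D.N := fun g hg => D.hHN (ha' g hg)
  have hfixN := inv_fixedPts_N D ρ
  set W₀ : Submodule k V := trRange ρ D.P ⊔ (fixedPts ρ D.P).map (act ρ a) with hW₀
  have hmapfix : (fixedPts ρ D.P).map (act ρ a) ≤ fixedPts ρ D.P := by
    rintro _ ⟨u, hu, rfl⟩
    exact act_mem ρ hfixN haN hu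
  have hmapH : Inv ρ D.H ((fixedPts ρ D.P).map (act ρ a)) := by
    rintro h hh _ ⟨u, hu, rfl⟩
    refine ⟨ρ h u, hfixN h (D.hHN hh) u hu, ?_⟩
    rw [act_comm_rho ρ hcl hh]
  have hmapP : Inv ρ D.P ((fixedPts ρ D.P).map (act ρ a)) := by
    rintro z hz _ ⟨u, hu, rfl⟩
    have : ρ z (act ρ a u) = act ρ a u := (act_mem ρ hfixN haN hu) z hz
    rw [this]
    exact ⟨u, hu, rfl⟩
  have hmapN : Inv ρ D.N ((fixedPts ρ D.P).map (act ρ a)) := inv_N_of D ρ hmapP hmapH
  have hW₀N : Inv ρ D.N W₀ := (inv_trRange ρ D.P D.N D.hnorm).sup hmapN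
  have h1 : trRange ρ D.P ≤ W₀ := le_sup_left
  have h2 : W₀ ≤ fixedPts ρ D.P := sup_le (trRange_le_fixedPts ρ D.P) hmapfix
  obtain ⟨u, hu, hnot⟩ := hh
  have hW₀ne : W₀ ≠ trRange ρ D.P := by
    intro h
    apply hnot
    rw [← h]
    exact Submodule.mem_sup_right ⟨u, hu, rfl⟩
  have hW₀eq : W₀ = fixedPts ρ D.P := (beta D ρ hirr W₀ hW₀N h1 h2).resolve_left hW₀ne
  rintro ⟨u', hu', hnot'⟩
  apply hnot'
  rw [← hW₀eq] at hu'
  obtain ⟨r, hr, y, hy, rfl⟩ := Submodule.mem_sup.mp hu'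
  obtain ⟨m, rfl⟩ := hr
  obtain ⟨u'', _, rfl⟩ := hy
  rw [map_add, ← act_conv, hzero]
  have : act ρ (0 : G → k) u'' = 0 := by
    rw [act_apply]
    simp
  rw [this, add_zero, act_trOp D ρ ha'N]
  exact ⟨_, rfl⟩

end Cfsg.Agent.Lib.Helper6.MR
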