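import Mathlib
import Cfsg.Agent.Lib.Helper6.MR5

/-!
# Modular representations: composition factors detecting a class of the Tate quotient
-/

namespace Cfsg.Agent.Lib.Helper6.MR

open Module

universe u v w

variable {k : Type u} [Field k] {G : Type v} [Group G] {V : Type w} [AddCommGroup V] [Module k V]
variable {p : ℕ}

/-! ### sub- and quotient representations -/

theorem sub_coe (ρ : Representation k G V) (A : Submodule k V) (hA : ∀ g, A ≤ A.comap (ρ g))
    (g : G) (w : A) : ((ρ.subrepresentation A hA g w : A) : V) = ρ g (w : V) := rfl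

theorem quot_mk (ρ : Representation k G V) (A : Submodule k V) (hA : ∀ g, A ≤ A.comap (ρ g))
    (g : G) (v : V) : ρ.quotient A hA g (A.mkQ v) = A.mkQ (ρ g v) := rfl

theorem act_sub_coe [Fintype G] (ρ : Representation k G V) (A : Submodule k V)
    (hA : ∀ g, A ≤ A.comap (ρ g)) (a : G → k) (w : A) :
    ((act (ρ.subrepresentation A hA) a w : A) : V) = act ρ a (w : V) := by
  rw [act_apply, act_apply, Submodule.coe_sum]
  apply Finset.sum_congr rfl
  intro g _
  rw [Submodule.coe_smul, sub_coe]

theorem trOp_sub_coe [Fintype G] (ρ : Representation k G V) (A : Submodule k V)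
    (hA : ∀ g, A ≤ A.comap (ρ g)) (P : Subgroup G) (w : A) :
    ((trOp (ρ.subrepresentation A hA) P w : A) : V) = trOp ρ P (w : V) := by
  classical
  rw [trOp_apply, trOp_apply, Submodule.coe_sum]
  apply Finset.sum_congr rfl
  intro g _
  rw [sub_coe]

theorem act_quot_mk [Fintype G] (ρ : Representation k G V) (A : Submodule k V)
    (hA : ∀ g, A ≤ A.comap (ρ g)) (a : G → k) (v : V) :
    act (ρ.quotient A hA) a (A.mkQ v) = A.mkQ (act ρ a v) := by
  rw [act_apply, act_apply, map_sum]
  apply Finset.sum_congr rfl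
  intro g _
  rw [quot_mk, map_smul]

theorem trOp_quot_mk [Fintype G] (ρ : Representation k G V) (A : Submodule k V)
    (hA : ∀ g, A ≤ A.comap (ρ g)) (P : Subgroup G) (v : V) :
    trOp (ρ.quotient A hA) P (A.mkQ v) = A.mkQ (trOp ρ P v) := by
  classical
  rw [trOp_apply, trOp_apply, map_sum]
  apply Finset.sum_congr rfl
  intro g _
  rw [quot_mk]

/-- half-exactness of the Tate quotient, cut by an idempotent of the group algebra of `N` -/
theorem hit_sub_or_quot [Fintype G] (D : LD p G) (ρ : Representation k G V) (a : G → k)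
    (hsupp : ∀ g, a g ≠ 0 → g ∈ D.N) (hidem : conv a a = a)
    (A : Submodule k V) (hA : ∀ g, A ≤ A.comap (ρ g)) (h : Hit D ρ a) :
    Hit D (ρ.subrepresentation A hA) a ∨ Hit D (ρ.quotient A hA) a := by
  obtain ⟨u, hu, hnot⟩ := h
  have hfixact : act ρ a u ∈ fixedPts ρ D.P := act_mem ρ (inv_fixedPts_N D ρ) hsupp hu
  by_cases hq : act (ρ.quotient A hA) a (A.mkQ u) ∈ trRange (ρ.quotient A hA) D.P
  · left
    obtain ⟨q, hq⟩ := hq
    obtain ⟨m', rfl⟩ := A.mkQ_surjective q
    rw [trOp_quot_mk, act_quot_mk] at hq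
    have hmem : act ρ a u - trOp ρ D.P m' ∈ A := (Submodule.Quotient.eq A).mp hq.symm
    refine ⟨⟨act ρ a u - trOp ρ D.P m', hmem⟩, ?_, ?_⟩
    · intro z hz
      apply Subtype.ext
      show ρ z (act ρ a u - trOp ρ D.P m') = act ρ a u - trOp ρ D.P m'
      rw [map_sub, rho_trOp ρ D.P hz, hfixact z hz]
    · rintro ⟨w', hw'⟩
      apply hnot
      have h8 := congrArg Subtype.val hw'
      rw [trOp_sub_coe, act_sub_coe] at h8
      simp only [map_sub] at h8
      rw [← act_conv, hidem, act_trOp D ρ hsupp] at h8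
      refine ⟨(w' : V) + act ρ a m', ?_⟩
      rw [map_add, h8]; abel
  · right
    refine ⟨A.mkQ u, ?_, hq⟩
    intro z hz
    rw [quot_mk, hu z hz]

/-! ### irreducibility -/

theorem exists_proper_of_not_irr [Nontrivial V] (ρ : Representation k G V)
    (h : ¬ ρ.IsIrreducible) :
    ∃ A : Submodule k V, (∀ g, A ≤ A.comap (ρ g)) ∧ A ≠ ⊥ ∧ A ≠ ⊤ := by
  by_contra hcon
  push Not at hcon
  apply h
  have hbt : (⊥ : Subrepresentation ρ) ≠ ⊤ := by
    intro hE
    have h1 : (⊥ : Subrepresentation ρ).toSubmodule = (⊤ : Subrepresentation ρ).toSubmodule := by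
      rw [hE]
    have h2 : (⊥ : Submodule k V) = ⊤ := h1
    exact bot_ne_top h2
  have : Nontrivial (Subrepresentation ρ) := ⟨⟨⊥, ⊤, hbt⟩⟩
  refine ⟨fun E => ?_⟩
  by_cases hE : E.toSubmodule = ⊥
  · left
    apply Subrepresentation.toSubmodule_injective
    exact hE
  · right
    apply Subrepresentation.toSubmodule_injective
    exact hcon E.toSubmodule (fun g v hv => E.apply_mem_toSubmodule g hv) hE

theorem irr_sub_of_simpleInv (ρ : Representation k G V) (S : Submodule k V)
    (hS : ∀ g, S ≤ S.comap (ρ g)) (hsimple : SimpleInv ρ ⊤ S) :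
    (ρ.subrepresentation S hS).IsIrreducible := by
  have hbt : (⊥ : Subrepresentation (ρ.subrepresentation S hS)) ≠ ⊤ := by
    intro hE
    have h1 : (⊥ : Subrepresentation (ρ.subrepresentation S hS)).toSubmodule
        = (⊤ : Subrepresentation (ρ.subrepresentation S hS)).toSubmodule := by rw [hE]
    have h2 : (⊥ : Submodule k S) = ⊤ := h1
    apply hsimple.1
    rw [eq_bot_iff]
    intro s hs
    have : (⟨s, hs⟩ : S) ∈ (⊤ : Submodule k S) := Submodule.mem_top
    rw [← h2, Submodule.mem_bot] at this
    rw [Submodule.mem_bot]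
    exact congrArg Subtype.val this
  have : Nontrivial (Subrepresentation (ρ.subrepresentation S hS)) := ⟨⟨⊥, ⊤, hbt⟩⟩
  refine ⟨fun E => ?_⟩
  have hW' : Inv ρ ⊤ (E.toSubmodule.map S.subtype) := by
    rintro g _ _ ⟨s, hs, rfl⟩
    exact ⟨ρ.subrepresentation S hS g s, E.apply_mem_toSubmodule g hs, rfl⟩
  have hle : E.toSubmodule.map S.subtype ≤ S := by
    rintro _ ⟨s, _, rfl⟩
    exact s.2
  rcases hsimple.2.2 _ hW' hle with h | h
  · left
    apply Subrepresentation.toSubmodule_injective
    show E.toSubmodule = ⊥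
    rw [eq_bot_iff]
    intro s hs
    have : (s : V) ∈ E.toSubmodule.map S.subtype := ⟨s, hs, rfl⟩
    rw [h, Submodule.mem_bot] at this
    rw [Submodule.mem_bot]
    exact Subtype.ext this
  · right
    apply Subrepresentation.toSubmodule_injective
    show E.toSubmodule = ⊤
    rw [eq_top_iff]
    intro s _
    have : (s : V) ∈ E.toSubmodule.map S.subtype := by rw [h]; exact s.2
    obtain ⟨s', hs', hss⟩ := this
    have : s' = s := Subtype.ext hss
    rw [← this]; exact hs'

/-- a bundled irreducible representation -/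
structure IrrRep (k : Type u) [Field k] (G : Type v) [Group G] where
  V : Type w
  [instACG : AddCommGroup V]
  [instMod : Module k V]
  [instFD : FiniteDimensional k V]
  ρ : Representation k G V
  irr : ρ.IsIrreducible

attribute [instance] IrrRep.instACG IrrRep.instMod IrrRep.instFD

/-- a module detecting a class of the Tate quotient has a composition factor doing so -/
theorem exists_irr_hit [Fintype G] (D : LD p G) (a : G → k)
    (hsupp : ∀ g, a g ≠ 0 → g ∈ D.N) (hidem : conv a a = a) :
    ∀ (n : ℕ) (V : Type w) [AddCommGroup V] [Module k V] [FiniteDimensional k V]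
      (ρ : Representation k G V), Module.finrank k V = n → Hit D ρ a →
      ∃ S : IrrRep.{u, v, w} k G, Hit D S.ρ a := by
  intro n
  induction n using Nat.strong_induction_on with
  | _ n ih =>
    intro V _ _ _ ρ hn hhit
    by_cases hirr : ρ.IsIrreducible
    · exact ⟨⟨V, ρ, hirr⟩, hhit⟩
    · have : Nontrivial V := by
        obtain ⟨u, hu, hnot⟩ := hhit
        refine ⟨u, 0, ?_⟩
        rintro rfl
        apply hnot
        rw [map_zero]; exact Submodule.zero_mem _
      obtain ⟨A, hA, hAbot, hAtop⟩ := exists_proper_of_not_irr ρ hirr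
      have h1 : Module.finrank k A < n := by rw [← hn]; exact Submodule.finrank_lt hAtop
      have h0 : 0 < Module.finrank k A :=
        Nat.pos_of_ne_zero (fun h0 => hAbot (Submodule.finrank_eq_zero.mp h0))
      have h2 : Module.finrank k (V ⧸ A) < n := by
        rw [← hn, ← Submodule.finrank_quotient_add_finrank A]
        omega
      rcases hit_sub_or_quot D ρ a hsupp hidem A hA hhit with h | h
      · exact ih _ h1 A (ρ.subrepresentation A hA) rfl h
      · exact ih _ h2 (V ⧸ A) (ρ.quotient A hA) rfl h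

/-! ### the permutation module -/

/-- the permutation representation on functions -/
def permRep (k : Type u) [Field k] (G : Type v) [Group G] (Ω : Type w) [MulAction G Ω] :
    Representation k G (Ω → k) where
  toFun g :=
    { toFun := fun f c => f (g⁻¹ • c)
      map_add' := fun _ _ => rfl
      map_smul' := fun _ _ => rfl }
  map_one' := by
    ext f c
    simp
  map_mul' := fun g h => by
    ext f c
    simp [mul_smul]

theorem permRep_apply {Ω : Type w} [MulAction G Ω] (g : G) (f : Ω → k) (c : Ω) :
    permRep k G Ω g f c = f (g⁻¹ • c) := rfl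

theorem act_permRep_apply [Fintype G] {Ω : Type w} [MulAction G Ω] (a : G → k) (f : Ω → k)
    (c : Ω) : act (permRep k G Ω) a f c = ∑ g : G, a g * f (g⁻¹ • c) := by
  rw [act_apply, Finset.sum_apply]
  apply Finset.sum_congr rfl
  intro g _
  rw [Pi.smul_apply, permRep_apply, smul_eq_mul]

theorem trOp_permRep_apply [Fintype G] {Ω : Type w} [MulAction G Ω] (P : Subgroup G)
    (f : Ω → k) (c : Ω) [DecidablePred (· ∈ P)] :
    trOp (permRep k G Ω) P f c = ∑ z ∈ Finset.univ.filter (fun z : G => z ∈ P), f (z⁻¹ • c) := by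
  classical
  rw [trOp_apply, Finset.sum_apply]
  apply Finset.sum_congr
  · ext z; simp
  · intro g _
    rw [permRep_apply]

theorem hit_perm [Fintype G] [hp : Fact p.Prime] [CharP k p] (D : LD p G) (a : G → k)
    (hsupp : ∀ g, a g ≠ 0 → g ∈ D.H) (h1 : a 1 ≠ 0) :
    Hit D (permRep k G (G ⧸ D.P)) a := by
  classical
  refine ⟨fun c => if c = ((1 : G) : G ⧸ D.P) then 1 else 0, ?_, ?_⟩
  · intro z hz
    funext c
    rw [permRep_apply]
    have : z⁻¹ • c = ((1 : G) : G ⧸ D.P) ↔ c = ((1 : G) : G ⧸ D.P) := by
      constructor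
      · intro h
        have h2 : c = z • ((1 : G) : G ⧸ D.P) := by rw [← h, smul_inv_smul]
        rw [h2]
        show ((z * 1 : G) : G ⧸ D.P) = ((1 : G) : G ⧸ D.P)
        rw [QuotientGroup.eq]
        simpa using D.P.inv_mem hz
      · intro h
        rw [h]
        show ((z⁻¹ * 1 : G) : G ⧸ D.P) = ((1 : G) : G ⧸ D.P)
        rw [QuotientGroup.eq]
        simpa using hz
    simp only [this]
  · rintro ⟨f, hf⟩
    have h2 := congrFun hf ((1 : G) : G ⧸ D.P)
    rw [trOp_permRep_apply, act_permRep_apply] at h2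
    have h3 : ∀ z ∈ Finset.univ.filter (fun z : G => z ∈ D.P),
        f (z⁻¹ • ((1 : G) : G ⧸ D.P)) = f ((1 : G) : G ⧸ D.P) := by
      intro z hz
      rw [Finset.mem_filter] at hz
      congr 1
      show ((z⁻¹ * 1 : G) : G ⧸ D.P) = ((1 : G) : G ⧸ D.P)
      rw [QuotientGroup.eq]
      simpa using hz.2
    rw [Finset.sum_congr rfl h3, Finset.sum_const] at h2
    have hcard : (Finset.univ.filter (fun z : G => z ∈ D.P)).card = p := by
      have h4 : Nat.card D.P = p := by
        rw [D.hx, Nat.card_zpowers, D.hord]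
      have h4' : (Finset.univ.filter (fun z : G => z ∈ D.P)).card = Nat.card D.P := by
        rw [Nat.card_eq_fintype_card, Fintype.card_subtype]
      exact h4'.trans h4
    rw [hcard, nsmul_eq_mul, CharP.cast_eq_zero k p, zero_mul] at h2
    have h5 : ∑ g : G, a g * (if g⁻¹ • ((1 : G) : G ⧸ D.P) = ((1 : G) : G ⧸ D.P) then (1 : k) else 0)
        = a 1 := by
      rw [Finset.sum_eq_single (1 : G)]
      · simp
      · intro g _ hg
        by_cases hag : a g = 0
        · rw [hag, zero_mul]
        · have hgH : g ∈ D.H := hsupp g hag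
          have hgP : g ∉ D.P := by
            intro hgP
            apply hg
            have hdvd : orderOf g ∣ p := by
              have := Subgroup.orderOf_dvd_natCard D.P hgP
              rwa [D.hx, Nat.card_zpowers, D.hord] at this
            have hdvd2 : orderOf g ∣ Nat.card D.H := Subgroup.orderOf_dvd_natCard D.H hgH
            rcases (Nat.dvd_prime hp.out).mp hdvd with h6 | h6
            · exact orderOf_eq_one_iff.mp h6
            · exfalso; rw [h6] at hdvd2; exact D.hHp hdvd2
          have : ¬ (g⁻¹ • ((1 : G) : G ⧸ D.P) = ((1 : G) : G ⧸ D.P)) := by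
            intro h7
            apply hgP
            have h8 : ((g⁻¹ * 1 : G) : G ⧸ D.P) = ((1 : G) : G ⧸ D.P) := h7
            rw [QuotientGroup.eq] at h8
            simpa using h8
          rw [if_neg this, mul_zero]
      · intro h; exact absurd (Finset.mem_univ _) h
    rw [h5] at h2
    exact h1 h2.symm

end Cfsg.Agent.Lib.Helper6.MR
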