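import Mathlib
import Cfsg.Prelude.Def_Blocks
import Cfsg.Agent.Lib.Helper6.MR6
import Cfsg.Agent.Lib.Helper6.BlkDefect
import Cfsg.Agent.Lib.Helper6.BlkAlg
import Cfsg.Agent.Lib.Helper6.BlkIdem
import Cfsg.Agent.Lib.Helper6.ClassMult
import Cfsg.Agent.Lib.Helper6.Orthogonality
import Cfsg.Agent.Lib.Helper6.DegreeDvd
import Cfsg.Agent.Lib.Helper6.Multiplicity
import Cfsg.Agent.Lib.Helper6.Constituent
import Cfsg.Agent.Lib.Helper6.Auto

/-!
# Modular representations: idempotents of the group algebra from characters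
-/

set_option linter.unusedSectionVars false

namespace Cfsg.Agent.Lib.Helper6.MR

open Module
open scoped ComplexConjugate

/-! ### identities for complex characters -/

section complexIdentities

variable {K : Type*} [Group K] [Fintype K]

theorem char_mul_comm {χ : K → ℂ} (hcf : Cfsg.IsClassFunction K χ) (a b : K) :
    χ (a * b) = χ (b * a) := by
  have := hcf (a * b) b
  rw [← this]
  congr 1
  group

theorem sum_inv_mul_char {χ ψ : K → ℂ} (hχ : Cfsg.IsIrrCharacter K χ)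
    (hψ : Cfsg.IsIrrCharacter K ψ) :
    ∑ h : K, χ h⁻¹ * ψ h = if χ = ψ then (Nat.card K : ℂ) else 0 := by
  have h1 := classInner_isIrrCharacter hψ hχ
  unfold Cfsg.classInner at h1
  have hK := card_ne_zero_complex K
  have h2 : ∑ h : K, χ h⁻¹ * ψ h = ∑ g : K, ψ g * conj (χ g) := by
    apply Finset.sum_congr rfl
    intro g _
    rw [IsCharacter.apply_inv (IsIrrCharacter.isCharacter hχ), mul_comm]
  rw [h2]
  by_cases h : χ = ψ
  · rw [if_pos h]
    rw [if_pos h.symm] at h1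
    field_simp at h1
    rw [h1]
  · rw [if_neg h]
    rw [if_neg (fun h' => h h'.symm)] at h1
    rcases mul_eq_zero.mp h1 with h3 | h3
    · exact absurd (inv_eq_zero.mp h3) hK
    · exact h3

theorem conv_char {χ ψ : K → ℂ} (hχ : Cfsg.IsIrrCharacter K χ) (hψ : Cfsg.IsIrrCharacter K ψ)
    (u : K) :
    ∑ g : K, χ g⁻¹ * ψ ((g⁻¹ * u)⁻¹)
      = if χ = ψ then (Nat.card K : ℂ) * ψ u⁻¹ / ψ 1 else 0 := by
  classical
  have hcfψ := IsIrrCharacter.isClassFunction hψ
  have hcfχ := IsIrrCharacter.isClassFunction hχ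
  have hx : Cfsg.IsClassFunction K (fun h => χ h⁻¹) := by
    intro g h
    show χ (h * g * h⁻¹)⁻¹ = χ g⁻¹
    have : (h * g * h⁻¹)⁻¹ = h * g⁻¹ * h⁻¹ := by group
    rw [this, hcfχ]
  have h1 := sum_classFunction_mul_shift hψ hx u⁻¹
  have h2 : ∑ g : K, χ g⁻¹ * ψ ((g⁻¹ * u)⁻¹) = ∑ h : K, χ h⁻¹ * ψ (h * u⁻¹) := by
    apply Finset.sum_congr rfl
    intro g _
    congr 1
    have : (g⁻¹ * u)⁻¹ = u⁻¹ * g := by group
    rw [this, char_mul_comm hcfψ]
  rw [h2, h1, sum_inv_mul_char hχ hψ]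
  split_ifs with h
  · rfl
  · rw [zero_mul, zero_div]

theorem conjsum_char {χ : K → ℂ} (hχ : Cfsg.IsIrrCharacter K χ) (u g₀ : K) :
    ∑ g : K, χ ((g⁻¹ * u * g * g₀⁻¹)⁻¹) = (Nat.card K : ℂ) * χ u⁻¹ * χ g₀ / χ 1 := by
  have hcf := IsIrrCharacter.isClassFunction hχ
  rw [← IsIrrCharacter.sum_conj_mul hχ u⁻¹ g₀]
  apply Fintype.sum_equiv (Equiv.inv K)
  intro g
  show χ ((g⁻¹ * u * g * g₀⁻¹)⁻¹) = χ (g⁻¹ * u⁻¹ * g⁻¹⁻¹ * g₀)
  have : (g⁻¹ * u * g * g₀⁻¹)⁻¹ = g₀ * (g⁻¹ * u⁻¹ * g⁻¹⁻¹) := by group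
  rw [this, char_mul_comm hcf]

theorem card_div_eq_sum_classes [DecidableEq K] [Fintype (ConjClasses K)] {χ : K → ℂ}
    (hχ : Cfsg.IsIrrCharacter K χ) :
    (Nat.card K : ℂ) / χ 1 = ∑ c : ConjClasses K,
      Cfsg.centralChar χ (Quotient.out c) * χ (Quotient.out c)⁻¹ := by
  have hcf := IsIrrCharacter.isClassFunction hχ
  have h1 := sum_inv_mul_char hχ hχ
  rw [if_pos rfl] at h1
  have hF : Cfsg.IsClassFunction K (fun g => χ g⁻¹ * χ g) := by
    intro g h
    show χ (h * g * h⁻¹)⁻¹ * χ (h * g * h⁻¹) = χ g⁻¹ * χ g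
    have : (h * g * h⁻¹)⁻¹ = h * g⁻¹ * h⁻¹ := by group
    rw [this, hcf, hcf]
  rw [sum_eq_sum_conjClasses _ hF] at h1
  rw [← h1, Finset.sum_div]
  apply Finset.sum_congr rfl
  intro c _
  unfold Cfsg.centralChar
  ring

end complexIdentities

/-! ### reduction of algebraic integers -/

section reduction

variable {k : Type*} [Field k] (π : Cfsg.AlgInt →+* k)

/-- the reduction of a complex number modulo the maximal ideal, zero if it is not integral -/
noncomputable def redC (z : ℂ) : k := by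
  classical
  exact if h : IsIntegral ℤ z then π ⟨z, h⟩ else 0

theorem redC_of {z : ℂ} (h : IsIntegral ℤ z) : redC π z = π ⟨z, h⟩ := by
  unfold redC
  rw [dif_pos h]

theorem redC_add {z w : ℂ} (hz : IsIntegral ℤ z) (hw : IsIntegral ℤ w) :
    redC π (z + w) = redC π z + redC π w := by
  rw [redC_of π hz, redC_of π hw, redC_of π (hz.add hw), ← map_add]
  rfl

theorem redC_mul {z w : ℂ} (hz : IsIntegral ℤ z) (hw : IsIntegral ℤ w) :
    redC π (z * w) = redC π z * redC π w := by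
  rw [redC_of π hz, redC_of π hw, redC_of π (hz.mul hw), ← map_mul]
  rfl

theorem redC_zero : redC π 0 = 0 := by
  rw [redC_of π isIntegral_zero]
  exact map_zero π

theorem redC_one : redC π 1 = 1 := by
  rw [redC_of π isIntegral_one]
  exact map_one π

theorem redC_natCast (n : ℕ) : redC π (n : ℂ) = (n : k) := by
  rw [redC_of π (isIntegral_algebraMap (R := ℤ) (A := ℂ) (x := (n : ℤ)) |> fun h => by simpa using h)]
  have : (⟨(n : ℂ), by exact_mod_cast (isIntegral_algebraMap (R := ℤ) (A := ℂ) (x := (n : ℤ)))⟩ : Cfsg.AlgInt)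
      = ((n : ℕ) : Cfsg.AlgInt) := by
    apply Subtype.ext
    simp
  rw [this, map_natCast]

theorem redC_sum {ι : Type*} (s : Finset ι) (f : ι → ℂ) (hf : ∀ i ∈ s, IsIntegral ℤ (f i)) :
    redC π (∑ i ∈ s, f i) = ∑ i ∈ s, redC π (f i) := by
  classical
  induction s using Finset.induction_on with
  | empty => simp [redC_zero]
  | insert i s hi ih =>
    rw [Finset.sum_insert hi, Finset.sum_insert hi,
      redC_add π (hf i (Finset.mem_insert_self i s))
        (IsIntegral.sum _ (fun j hj => hf j (Finset.mem_insert_of_mem hj))),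
      ih (fun j hj => hf j (Finset.mem_insert_of_mem hj))]

end reduction

/-! ### the functions attached to characters -/

section efun

variable {k : Type*} [Field k] (π : Cfsg.AlgInt →+* k)
variable {K : Type*} [Group K]

/-- the reduction of `g ↦ χ g⁻¹` -/
noncomputable def Efun (χ : K → ℂ) : K → k := fun g => redC π (χ g⁻¹)

theorem Efun_apply (χ : K → ℂ) (g : K) : Efun π χ g = redC π (χ g⁻¹) := rfl

theorem Efun_conj {χ : K → ℂ} (hcf : Cfsg.IsClassFunction K χ) (h g : K) :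
    Efun π χ (h * g * h⁻¹) = Efun π χ g := by
  rw [Efun_apply, Efun_apply]
  have : (h * g * h⁻¹)⁻¹ = h * g⁻¹ * h⁻¹ := by group
  rw [this, hcf]

theorem Efun_one [Finite K] {χ : K → ℂ} (hχ : Cfsg.IsCharacter K χ) :
    Efun π χ 1 = (Cfsg.charDegree χ : k) := by
  rw [Efun_apply, inv_one, IsCharacter.apply_one_eq_charDegree hχ, redC_natCast]

variable [Fintype K]

theorem conv_Efun_self {χ : K → ℂ} (hχ : Cfsg.IsIrrCharacter K χ) (c : ℕ)
    (hc : c * Cfsg.charDegree χ = Nat.card K) :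
    conv (Efun π χ) (Efun π χ) = (c : k) • Efun π χ := by
  have hch := IsIrrCharacter.isCharacter hχ
  have hint : ∀ g, IsIntegral ℤ (χ g) := fun g => IsCharacter.isIntegral_apply hch g
  have hdeg : χ 1 = (Cfsg.charDegree χ : ℂ) := IsCharacter.apply_one_eq_charDegree hch
  have hdeg0 : χ 1 ≠ 0 := by
    rw [hdeg]
    intro h
    have h0 : Cfsg.charDegree χ = 0 := by exact_mod_cast h
    rw [h0, mul_zero] at hc
    exact Nat.card_pos.ne' hc.symm
  funext u
  show ∑ g : K, redC π (χ g⁻¹) * redC π (χ (g⁻¹ * u)⁻¹) = (c : k) * redC π (χ u⁻¹)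
  have h1 : ∑ g : K, redC π (χ g⁻¹) * redC π (χ (g⁻¹ * u)⁻¹)
      = redC π (∑ g : K, χ g⁻¹ * χ ((g⁻¹ * u)⁻¹)) := by
    rw [redC_sum π _ _ (fun g _ => (hint _).mul (hint _))]
    apply Finset.sum_congr rfl
    intro g _
    rw [redC_mul π (hint _) (hint _)]
  rw [h1, conv_char hχ hχ u, if_pos rfl]
  have h2 : (Nat.card K : ℂ) * χ u⁻¹ / χ 1 = (c : ℂ) * χ u⁻¹ := by
    rw [← hc, hdeg]
    rw [hdeg] at hdeg0
    push_cast
    field_simp
  rw [h2, redC_mul π (isIntegral_algebraMap (R := ℤ) (A := ℂ) (x := (c : ℤ)) |> fun h => by simpa using h) (hint _), redC_natCast]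

theorem conv_Efun_ne {χ ψ : K → ℂ} (hχ : Cfsg.IsIrrCharacter K χ)
    (hψ : Cfsg.IsIrrCharacter K ψ) (hne : χ ≠ ψ) :
    conv (Efun π χ) (Efun π ψ) = 0 := by
  have hintχ : ∀ g, IsIntegral ℤ (χ g) :=
    fun g => IsCharacter.isIntegral_apply (IsIrrCharacter.isCharacter hχ) g
  have hintψ : ∀ g, IsIntegral ℤ (ψ g) :=
    fun g => IsCharacter.isIntegral_apply (IsIrrCharacter.isCharacter hψ) g
  funext u
  show ∑ g : K, redC π (χ g⁻¹) * redC π (ψ (g⁻¹ * u)⁻¹) = 0
  have h1 : ∑ g : K, redC π (χ g⁻¹) * redC π (ψ (g⁻¹ * u)⁻¹)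
      = redC π (∑ g : K, χ g⁻¹ * ψ ((g⁻¹ * u)⁻¹)) := by
    rw [redC_sum π _ _ (fun g _ => (hintχ _).mul (hintψ _))]
    apply Finset.sum_congr rfl
    intro g _
    rw [redC_mul π (hintχ _) (hintψ _)]
  rw [h1, conv_char hχ hψ u, if_neg hne, redC_zero]

theorem Efun_conjsum {χ : K → ℂ} (hχ : Cfsg.IsIrrCharacter K χ) (c : ℕ)
    (hc : c * Cfsg.charDegree χ = Nat.card K) (u g₀ : K) :
    ∑ g : K, Efun π χ (g⁻¹ * u * g * g₀⁻¹) = (c : k) * redC π (χ g₀) * Efun π χ u := by
  have hch := IsIrrCharacter.isCharacter hχ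
  have hint : ∀ g, IsIntegral ℤ (χ g) := fun g => IsCharacter.isIntegral_apply hch g
  have hdeg : χ 1 = (Cfsg.charDegree χ : ℂ) := IsCharacter.apply_one_eq_charDegree hch
  have hdeg0 : χ 1 ≠ 0 := by
    rw [hdeg]
    intro h
    have h0 : Cfsg.charDegree χ = 0 := by exact_mod_cast h
    rw [h0, mul_zero] at hc
    exact Nat.card_pos.ne' hc.symm
  have hcint : IsIntegral ℤ ((c : ℕ) : ℂ) := by
    have := isIntegral_algebraMap (R := ℤ) (A := ℂ) (x := (c : ℤ))
    simpa using this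
  show ∑ g : K, redC π (χ (g⁻¹ * u * g * g₀⁻¹)⁻¹) = (c : k) * redC π (χ g₀) * redC π (χ u⁻¹)
  rw [← redC_sum π _ _ (fun g _ => hint _), conjsum_char hχ u g₀]
  have h2 : (Nat.card K : ℂ) * χ u⁻¹ * χ g₀ / χ 1 = (c : ℂ) * χ g₀ * χ u⁻¹ := by
    rw [← hc, hdeg]
    rw [hdeg] at hdeg0
    push_cast
    field_simp
  rw [h2, redC_mul π (hcint.mul (hint _)) (hint _), redC_mul π hcint (hint _), redC_natCast]

theorem exists_Efun_ne_zero {p : ℕ} [CharP k p] {χ : K → ℂ} (hχ : Cfsg.IsIrrCharacter K χ)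
    (c : ℕ) (hc : c * Cfsg.charDegree χ = Nat.card K) (hpc : ¬ p ∣ c) :
    ∃ g, Efun π χ g ≠ 0 := by
  classical
  by_contra hcon
  push Not at hcon
  have hch := IsIrrCharacter.isCharacter hχ
  have hint : ∀ g, IsIntegral ℤ (χ g) := fun g => IsCharacter.isIntegral_apply hch g
  have hdeg : χ 1 = (Cfsg.charDegree χ : ℂ) := IsCharacter.apply_one_eq_charDegree hch
  have hdeg0 : χ 1 ≠ 0 := by
    rw [hdeg]
    intro h
    have h0 : Cfsg.charDegree χ = 0 := by exact_mod_cast h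
    rw [h0, mul_zero] at hc
    exact Nat.card_pos.ne' hc.symm
  have : Fintype (ConjClasses K) := Fintype.ofFinite _
  have h1 := card_div_eq_sum_classes hχ
  have h2 : (Nat.card K : ℂ) / χ 1 = (c : ℂ) := by
    rw [← hc, hdeg]
    rw [hdeg] at hdeg0
    push_cast
    field_simp
  rw [h2] at h1
  obtain ⟨F, hF⟩ : ∃ F : ConjClasses K → ℂ,
      F = fun d => Cfsg.centralChar χ (Quotient.out d) * χ (Quotient.out d)⁻¹ := ⟨_, rfl⟩
  have hFint : ∀ d, IsIntegral ℤ (F d) := by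
    intro d
    rw [hF]
    exact (IsIrrCharacter.isIntegral_centralChar' hχ _).mul (hint _)
  have hF0 : ∀ d, redC π (F d) = 0 := by
    intro d
    rw [hF]
    show redC π (Cfsg.centralChar χ (Quotient.out d) * χ (Quotient.out d)⁻¹) = 0
    rw [redC_mul π (IsIrrCharacter.isIntegral_centralChar' hχ _) (hint _)]
    have := hcon (Quotient.out d)
    rw [Efun_apply] at this
    rw [this, mul_zero]
  have h1' : ((c : ℕ) : ℂ) = ∑ d : ConjClasses K, F d := by
    rw [hF]; exact h1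
  have h3 := congrArg (redC π) h1'
  rw [redC_natCast, redC_sum π _ F (fun d _ => hFint d),
    Finset.sum_eq_zero (fun d _ => hF0 d)] at h3
  exact hpc ((CharP.cast_eq_zero_iff k p c).mp h3)

end efun

/-! ### extension by zero from a subgroup -/

section ext0

variable {k : Type*} [Field k] {G : Type*} [Group G]

/-- extension by zero of a function on a subgroup -/
noncomputable def ext0 (H : Subgroup G) (a : H → k) : G → k := by
  classical
  exact fun g => if h : g ∈ H then a ⟨g, h⟩ else 0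

theorem ext0_of_mem (H : Subgroup G) (a : H → k) {g : G} (h : g ∈ H) :
    ext0 H a g = a ⟨g, h⟩ := by
  unfold ext0
  rw [dif_pos h]

theorem ext0_of_not_mem (H : Subgroup G) (a : H → k) {g : G} (h : g ∉ H) :
    ext0 H a g = 0 := by
  unfold ext0
  rw [dif_neg h]

theorem ext0_supp (H : Subgroup G) (a : H → k) (g : G) (hg : ext0 H a g ≠ 0) : g ∈ H := by
  by_contra h
  exact hg (ext0_of_not_mem H a h)

theorem sum_ext0 [Fintype G] (H : Subgroup G) [Fintype H] (F : G → k)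
    (hF : ∀ g, g ∉ H → F g = 0) : ∑ g : G, F g = ∑ h : H, F (h : G) := by
  classical
  rw [← Finset.sum_subtype (Finset.univ.filter (fun g : G => g ∈ H)) (by simp) F]
  symm
  apply Finset.sum_subset (Finset.subset_univ _)
  intro g _ hg
  apply hF
  simpa using hg

theorem conv_ext0 [Fintype G] (H : Subgroup G) [Fintype H] (a b : H → k) :
    conv (ext0 H a) (ext0 H b) = ext0 H (conv a b) := by
  funext u
  show ∑ g : G, ext0 H a g * ext0 H b (g⁻¹ * u) = ext0 H (conv a b) u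
  rw [sum_ext0 H (fun g => ext0 H a g * ext0 H b (g⁻¹ * u))
    (fun g hg => by rw [ext0_of_not_mem H a hg, zero_mul])]
  by_cases hu : u ∈ H
  · rw [ext0_of_mem H _ hu]
    show _ = ∑ h : H, a h * b (h⁻¹ * ⟨u, hu⟩)
    apply Finset.sum_congr rfl
    intro h _
    rw [ext0_of_mem H a h.2, ext0_of_mem H b (H.mul_mem (H.inv_mem h.2) hu)]
    rfl
  · rw [ext0_of_not_mem H _ hu]
    apply Finset.sum_eq_zero
    intro h _
    have : (h : G)⁻¹ * u ∉ H := by
      intro h'
      apply hu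
      have := H.mul_mem h.2 h'
      rwa [mul_inv_cancel_left] at this
    rw [ext0_of_not_mem H b this, mul_zero]

theorem ext0_conj (H : Subgroup G) (a : H → k) (ha : ∀ h g : H, a (h * g * h⁻¹) = a g)
    (h : G) (hh : h ∈ H) (g : G) : ext0 H a (h * g * h⁻¹) = ext0 H a g := by
  by_cases hg : g ∈ H
  · rw [ext0_of_mem H a hg, ext0_of_mem H a (H.mul_mem (H.mul_mem hh hg) (H.inv_mem hh))]
    exact ha ⟨h, hh⟩ ⟨g, hg⟩
  · have : h * g * h⁻¹ ∉ H := by
      intro h'
      apply hg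
      have := H.mul_mem (H.mul_mem (H.inv_mem hh) h') hh
      simpa [mul_assoc] using this
    rw [ext0_of_not_mem H a hg, ext0_of_not_mem H a this]

theorem ext0_zero (H : Subgroup G) : ext0 H (0 : H → k) = 0 := by
  funext g
  by_cases hg : g ∈ H
  · rw [ext0_of_mem H _ hg]; rfl
  · rw [ext0_of_not_mem H _ hg]; rfl

end ext0

end Cfsg.Agent.Lib.Helper6.MR
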