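import Mathlib
import Cfsg.Agent.Lib.Helper6.MR7

/-!
# Modular representations: the simple modules attached to characters
-/

set_option linter.unusedSectionVars false

namespace Cfsg.Agent.Lib.Helper6.MR

open Module

universe u v

variable {k : Type u} [Field k] {G : Type v} [Group G] [Fintype G]

section basics

variable {V : Type*} [AddCommGroup V] [Module k V]

theorem act_smul (ρ : Representation k G V) (r : k) (a : G → k) (v : V) :
    act ρ (r • a) v = r • act ρ a v := by
  rw [act_apply, act_apply, Finset.smul_sum]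
  apply Finset.sum_congr rfl
  intro g _
  rw [Pi.smul_apply, smul_eq_mul, mul_smul]

theorem act_zero (ρ : Representation k G V) (v : V) : act ρ (0 : G → k) v = 0 := by
  rw [act_apply]
  simp

theorem conv_smul_left (r : k) (a b : G → k) : conv (r • a) b = r • conv a b := by
  funext u
  show ∑ g : G, (r • a) g * b (g⁻¹ * u) = r * ∑ g : G, a g * b (g⁻¹ * u)
  rw [Finset.mul_sum]
  apply Finset.sum_congr rfl
  intro g _
  rw [Pi.smul_apply, smul_eq_mul, mul_assoc]

theorem conv_smul_right (r : k) (a b : G → k) : conv a (r • b) = r • conv a b := by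
  funext u
  show ∑ g : G, a g * (r • b) (g⁻¹ * u) = r * ∑ g : G, a g * b (g⁻¹ * u)
  rw [Finset.mul_sum]
  apply Finset.sum_congr rfl
  intro g _
  rw [Pi.smul_apply, smul_eq_mul]
  ring

/-- the sum of the conjugates of the action of a function -/
theorem sum_conj_act (ρ : Representation k G V) (a : G → k) (v : V) :
    ∑ g : G, ρ g (act ρ a (ρ g⁻¹ v)) = act ρ (fun u => ∑ g : G, a (g⁻¹ * u * g)) v := by
  rw [act_apply]
  simp only [Finset.sum_smul, act_apply, map_sum, map_smul]
  conv_rhs => rw [Finset.sum_comm]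
  apply Finset.sum_congr rfl
  intro g _
  apply Fintype.sum_equiv (MulAut.conj g).toEquiv
  intro u
  show a u • ρ g (ρ u (ρ g⁻¹ v)) = a (g⁻¹ * (g * u * g⁻¹) * g) • ρ (g * u * g⁻¹) v
  have h1 : g⁻¹ * (g * u * g⁻¹) * g = u := by group
  rw [h1]
  congr 1
  rw [← Module.End.mul_apply, ← Module.End.mul_apply, ← map_mul, ← map_mul]

end basics

/-- the simple module attached to an irreducible character of defect zero: it is projective,
and the central functions of the irreducible characters act on it by the expected scalars -/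
theorem exists_defect_zero_module {p : ℕ} [CharP k p] (π : Cfsg.AlgInt →+* k)
    (χ : G → ℂ) (hχ : Cfsg.IsIrrCharacter G χ) (c : ℕ)
    (hc : c * Cfsg.charDegree χ = Nat.card G) (hpc : ¬ p ∣ c) :
    ∃ S : IrrRep.{u, v, max u v} k G,
      (∀ P : Subgroup G, fixedPts S.ρ P ≤ trRange S.ρ P) ∧
      (∀ w, act S.ρ (Efun π χ) w = (c : k) • w) ∧
      (∀ ψ : G → ℂ, Cfsg.IsIrrCharacter G ψ → ψ ≠ χ → ∀ w, act S.ρ (Efun π ψ) w = 0) := by
  classical
  have hcf := IsIrrCharacter.isClassFunction hχ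
  have hck : (c : k) ≠ 0 := fun h => hpc ((CharP.cast_eq_zero_iff k p c).mp h)
  have hact : ∀ (a f : G → k), act (permRep k G G) a f = conv a f := by
    intro a f
    funext u
    rw [act_permRep_apply]
    rfl
  obtain ⟨g₁, hg₁⟩ := exists_Efun_ne_zero (p := p) π hχ c hc hpc
  have hEcomm : ∀ g f, permRep k G G g (act (permRep k G G) (Efun π χ) f)
      = act (permRep k G G) (Efun π χ) (permRep k G G g f) := fun g f =>
    act_comm_rho (permRep k G G) (K := ⊤) (fun h _ g => Efun_conj π hcf h g) (Subgroup.mem_top g) f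
  have hI : Inv (permRep k G G) ⊤ (LinearMap.range (act (permRep k G G) (Efun π χ))) := by
    rintro g _ _ ⟨f, rfl⟩
    exact ⟨permRep k G G g f, (hEcomm g f).symm⟩
  have hIne : LinearMap.range (act (permRep k G G) (Efun π χ)) ≠ ⊥ := by
    intro h
    have h1 : act (permRep k G G) (Efun π χ) (Pi.single 1 1)
        ∈ LinearMap.range (act (permRep k G G) (Efun π χ)) := ⟨_, rfl⟩
    rw [h, Submodule.mem_bot, hact] at h1
    have h2 := congrFun h1 g₁
    have h3 : conv (Efun π χ) (Pi.single 1 1) g₁ = Efun π χ g₁ := by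
      show ∑ g : G, Efun π χ g * (Pi.single (1 : G) (1 : k) : G → k) (g⁻¹ * g₁) = Efun π χ g₁
      rw [Finset.sum_eq_single g₁]
      · rw [inv_mul_cancel, Pi.single_eq_same, mul_one]
      · intro g _ hg
        have : g⁻¹ * g₁ ≠ 1 := by
          intro h'
          apply hg
          have := inv_mul_eq_one.mp h'
          exact this
        rw [Pi.single_eq_of_ne this, mul_zero]
      · intro h'; exact absurd (Finset.mem_univ _) h'
    rw [h3] at h2
    exact hg₁ h2
  obtain ⟨S, hSsimple, hSI⟩ := exists_simpleInv_le (permRep k G G) ⊤ hI hIne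
  have hS : ∀ g, S ≤ S.comap (permRep k G G g) :=
    fun g v hv => hSsimple.2.1 g (Subgroup.mem_top g) v hv
  have hirr := irr_sub_of_simpleInv (permRep k G G) S hS hSsimple
  have hES : ∀ w : S, act (permRep k G G) (Efun π χ) (w : G → k) = (c : k) • (w : G → k) := by
    intro w
    obtain ⟨f, hf⟩ := hSI w.2
    rw [← hf, ← act_conv, conv_Efun_self π hχ c hc, act_smul]
  have hψS : ∀ ψ : G → ℂ, Cfsg.IsIrrCharacter G ψ → ψ ≠ χ → ∀ w : S,
      act (permRep k G G) (Efun π ψ) (w : G → k) = 0 := by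
    intro ψ hψ hne w
    obtain ⟨f, hf⟩ := hSI w.2
    rw [← hf, ← act_conv, conv_Efun_ne π hψ hχ hne, act_zero]
  refine ⟨⟨S, (permRep k G G).subrepresentation S hS, hirr⟩, ?_, ?_, ?_⟩
  · intro P
    have hr₀ : redC π (χ g₁⁻¹) ≠ 0 := hg₁
    apply fixedPts_le_trRange_of_trace ((permRep k G G).subrepresentation S hS) P
      (act ((permRep k G G).subrepresentation S hS) (fun u => Efun π χ (u * g₁⁻¹⁻¹)))
      ((c : k) * redC π (χ g₁⁻¹) * (c : k)) (mul_ne_zero (mul_ne_zero hck hr₀) hck)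
    intro w
    rw [sum_conj_act]
    have h4 : (fun u => ∑ g : G, Efun π χ (g⁻¹ * u * g * g₁⁻¹⁻¹))
        = ((c : k) * redC π (χ g₁⁻¹)) • Efun π χ := by
      funext u
      exact Efun_conjsum π hχ c hc u g₁⁻¹
    rw [h4, act_smul]
    apply Subtype.ext
    rw [Submodule.coe_smul, act_sub_coe, hES, Submodule.coe_smul, smul_smul]
  · intro w
    apply Subtype.ext
    rw [act_sub_coe, hES]
    rfl
  · intro ψ hψ hne w
    apply Subtype.ext
    rw [act_sub_coe, hψS ψ hψ hne]
    rfl

/-! ### the idempotents of the complement -/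

section eps

variable {p : ℕ} [hp : Fact p.Prime] [CharP k p] (π : Cfsg.AlgInt →+* k) (D : LD p G)

/-- the idempotent function attached to an irreducible character of `H` -/
noncomputable def epsFun [Fintype D.H] (ψ : D.H → ℂ) : G → k :=
  ext0 D.H (((Nat.card D.H / Cfsg.charDegree ψ : ℕ) : k)⁻¹ • Efun π ψ)

variable [Fintype D.H]

theorem epsFun_supp (ψ : D.H → ℂ) (g : G) (hg : epsFun π D ψ g ≠ 0) : g ∈ D.H :=
  ext0_supp D.H _ g hg

theorem card_div_mul {ψ : D.H → ℂ} (hψ : Cfsg.IsIrrCharacter D.H ψ) :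
    Nat.card D.H / Cfsg.charDegree ψ * Cfsg.charDegree ψ = Nat.card D.H :=
  Nat.div_mul_cancel (IsIrrCharacter.charDegree_dvd_card hψ)

theorem card_div_ne_zero {ψ : D.H → ℂ} (hψ : Cfsg.IsIrrCharacter D.H ψ) :
    ((Nat.card D.H / Cfsg.charDegree ψ : ℕ) : k) ≠ 0 := by
  intro h
  have h1 := (CharP.cast_eq_zero_iff k p _).mp h
  apply D.hHp
  rw [← card_div_mul D hψ]
  exact Dvd.dvd.mul_right h1 _

theorem charDegree_ne_zero_mod {ψ : D.H → ℂ} (hψ : Cfsg.IsIrrCharacter D.H ψ) :
    ((Cfsg.charDegree ψ : ℕ) : k) ≠ 0 := by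
  intro h
  have h1 := (CharP.cast_eq_zero_iff k p _).mp h
  apply D.hHp
  rw [← card_div_mul D hψ]
  exact Dvd.dvd.mul_left h1 _

theorem epsFun_idem {ψ : D.H → ℂ} (hψ : Cfsg.IsIrrCharacter D.H ψ) :
    conv (epsFun π D ψ) (epsFun π D ψ) = epsFun π D ψ := by
  unfold epsFun
  rw [conv_ext0, conv_smul_left, conv_smul_right, conv_Efun_self π hψ _ (card_div_mul D hψ),
    smul_smul, smul_smul]
  congr 2
  have := card_div_ne_zero (k := k) D hψ
  field_simp

theorem epsFun_orth {ψ ψ' : D.H → ℂ} (hψ : Cfsg.IsIrrCharacter D.H ψ)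
    (hψ' : Cfsg.IsIrrCharacter D.H ψ') (hne : ψ' ≠ ψ) :
    conv (epsFun π D ψ') (epsFun π D ψ) = 0 := by
  unfold epsFun
  rw [conv_ext0, conv_smul_left, conv_smul_right, conv_Efun_ne π hψ' hψ hne, smul_zero, smul_zero,
    ext0_zero]

theorem epsFun_class {ψ : D.H → ℂ} (hψ : Cfsg.IsIrrCharacter D.H ψ) (h : G) (hh : h ∈ D.H)
    (g : G) : epsFun π D ψ (h * g * h⁻¹) = epsFun π D ψ g := by
  unfold epsFun
  apply ext0_conj D.H _ _ h hh g
  intro h g
  rw [Pi.smul_apply, Pi.smul_apply, Efun_conj π (IsIrrCharacter.isClassFunction hψ)]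

theorem epsFun_one_ne {ψ : D.H → ℂ} (hψ : Cfsg.IsIrrCharacter D.H ψ) :
    epsFun π D ψ 1 ≠ 0 := by
  unfold epsFun
  rw [ext0_of_mem D.H _ D.H.one_mem]
  have : (⟨1, D.H.one_mem⟩ : D.H) = 1 := rfl
  rw [this, Pi.smul_apply, Efun_one π (IsIrrCharacter.isCharacter hψ), smul_eq_mul]
  exact mul_ne_zero (inv_ne_zero (card_div_ne_zero D hψ)) (charDegree_ne_zero_mod D hψ)

/-- the simple module attached to an irreducible character of the complement -/
theorem exists_sigma {ψ : D.H → ℂ} (hψ : Cfsg.IsIrrCharacter D.H ψ) :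
    ∃ S : IrrRep.{u, v, max u v} k G, Hit D S.ρ (epsFun π D ψ) := by
  have hfin : Finite (G ⧸ D.P) := inferInstance
  exact exists_irr_hit D (epsFun π D ψ) (fun g hg => D.hHN (epsFun_supp π D ψ g hg))
    (epsFun_idem π D hψ) _ (G ⧸ D.P → k) (permRep k G (G ⧸ D.P)) rfl
    (hit_perm D _ (epsFun_supp π D ψ) (epsFun_one_ne π D hψ))

end eps

end Cfsg.Agent.Lib.Helper6.MR
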