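import Mathlib
import Cfsg.Agent.Lib.Helper6.MR8

/-!
# Modular representations: density and the independence of traces
-/

set_option linter.unusedSectionVars false

namespace Cfsg.Agent.Lib.Helper6.MR

open Module

universe u v w

variable {k : Type u} [Field k] {G : Type v} [Group G] [Fintype G]

section bridge

variable {V : Type w} [AddCommGroup V] [Module k V]

theorem asAlgebraHom_eq_act (ρ : Representation k G V) (r : MonoidAlgebra k G) :
    ρ.asAlgebraHom r = act ρ (fun g => r.coeff g) := by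
  classical
  induction r using MonoidAlgebra.induction_linear with
  | zero =>
    rw [map_zero]
    ext v
    rw [act_apply]
    simp
  | add x y hx hy =>
    rw [map_add, hx, hy]
    ext v
    simp only [LinearMap.add_apply, act_apply, MonoidAlgebra.coeff_add, Finsupp.coe_add,
      Pi.add_apply, add_smul, Finset.sum_add_distrib]
  | single g c =>
    rw [Representation.asAlgebraHom_single]
    ext v
    rw [act_apply, LinearMap.smul_apply, Finset.sum_eq_single g]
    · rw [MonoidAlgebra.coeff_single, Finsupp.single_eq_same]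
    · intro h _ hne
      rw [MonoidAlgebra.coeff_single, Finsupp.single_apply, if_neg (Ne.symm hne), zero_smul]
    · intro h; exact absurd (Finset.mem_univ _) h

end bridge

section density

variable [IsAlgClosed k] {ι : Type*} [Fintype ι] [DecidableEq ι]

/-- an element of the group algebra acting by a prescribed endomorphism on one of finitely many
pairwise non-isomorphic irreducible representations, and by zero on the others -/
theorem exists_act_single (S : ι → IrrRep.{u, v, w} k G)
    (hS : ∀ i j, i ≠ j → ¬ IsIso (S i).ρ (S j).ρ) (i₀ : ι)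
    (φ : (S i₀).V →ₗ[k] (S i₀).V) :
    ∃ a : G → k, (∀ v, act (S i₀).ρ a v = φ v) ∧
      ∀ j, j ≠ i₀ → ∀ v, act (S j).ρ a v = 0 := by
  classical
  have hsimple : ∀ i, IsSimpleModule (MonoidAlgebra k G) (S i).ρ.asModule := fun i =>
    (Representation.irreducible_iff_isSimpleModule_asModule (S i).ρ).mp (S i).irr
  have hoff : ∀ i j, i ≠ j →
      ∀ T : (S j).ρ.asModule →ₗ[MonoidAlgebra k G] (S i).ρ.asModule, T = 0 := by
    intro i j hij T
    rcases LinearMap.bijective_or_eq_zero T with hb | h0
    · exfalso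
      apply hS j i (Ne.symm hij)
      refine ⟨((S j).ρ.asModuleEquiv.symm).trans
        (((LinearEquiv.ofBijective T hb).restrictScalars k).trans (S i).ρ.asModuleEquiv), ?_⟩
      intro g v
      show (S i).ρ.asModuleEquiv (T ((S j).ρ.asModuleEquiv.symm ((S j).ρ g v)))
        = (S i).ρ g ((S i).ρ.asModuleEquiv (T ((S j).ρ.asModuleEquiv.symm v)))
      rw [Representation.asModuleEquiv_symm_map_rho, map_smul,
        Representation.asModuleEquiv_map_smul, Representation.asAlgebraHom_of]
    · exact h0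
  have hdiag : ∀ i, ∀ T : (S i).ρ.asModule →ₗ[MonoidAlgebra k G] (S i).ρ.asModule,
      ∃ c : k, ∀ x, T x = c • x := by
    intro i T
    have hT' : ∀ g v, ((S i).ρ.asModuleEquiv.toLinearMap ∘ₗ (T.restrictScalars k) ∘ₗ
        (S i).ρ.asModuleEquiv.symm.toLinearMap) ((S i).ρ g v)
        = (S i).ρ g (((S i).ρ.asModuleEquiv.toLinearMap ∘ₗ (T.restrictScalars k) ∘ₗ
        (S i).ρ.asModuleEquiv.symm.toLinearMap) v) := by
      intro g v
      show (S i).ρ.asModuleEquiv (T ((S i).ρ.asModuleEquiv.symm ((S i).ρ g v)))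
        = (S i).ρ g ((S i).ρ.asModuleEquiv (T ((S i).ρ.asModuleEquiv.symm v)))
      rw [Representation.asModuleEquiv_symm_map_rho, map_smul,
        Representation.asModuleEquiv_map_smul, Representation.asAlgebraHom_of]
    obtain ⟨c, hc⟩ := schur (S i).ρ (S i).irr _ hT'
    refine ⟨c, fun x => ?_⟩
    have h1 := hc ((S i).ρ.asModuleEquiv x)
    apply (S i).ρ.asModuleEquiv.injective
    rw [map_smul, ← h1]
    show (S i).ρ.asModuleEquiv (T x)
      = (S i).ρ.asModuleEquiv (T ((S i).ρ.asModuleEquiv.symm ((S i).ρ.asModuleEquiv x)))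
    rw [LinearEquiv.symm_apply_apply]
  have hdecomp : ∀ T : Module.End (MonoidAlgebra k G) (Π i, (S i).ρ.asModule),
      ∃ cs : ι → k, ∀ m i, T m i = cs i • m i := by
    intro T
    choose cs hcs using fun i => hdiag i ((LinearMap.proj i) ∘ₗ T ∘ₗ
      (LinearMap.single (MonoidAlgebra k G) (fun i => (S i).ρ.asModule) i))
    refine ⟨cs, fun m i => ?_⟩
    have hm : m = ∑ j, Pi.single j (m j) := (Finset.univ_sum_single m).symm
    conv_lhs => rw [hm]
    rw [map_sum, Finset.sum_apply, Finset.sum_eq_single i]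
    · exact hcs i (m i)
    · intro j _ hji
      have := hoff i j (Ne.symm hji) ((LinearMap.proj i) ∘ₗ T ∘ₗ
        (LinearMap.single (MonoidAlgebra k G) (fun i => (S i).ρ.asModule) j))
      exact LinearMap.congr_fun this (m j)
    · intro h; exact absurd (Finset.mem_univ _) h
  obtain ⟨Φ, hΦ⟩ : ∃ Φ : (S i₀).ρ.asModule →ₗ[k] (S i₀).ρ.asModule,
      Φ = (S i₀).ρ.asModuleEquiv.symm.toLinearMap ∘ₗ φ ∘ₗ
        (S i₀).ρ.asModuleEquiv.toLinearMap := ⟨_, rfl⟩
  obtain ⟨f₀, hf₀⟩ : ∃ f₀ : (Π i, (S i).ρ.asModule) →ₗ[k] (Π i, (S i).ρ.asModule),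
      f₀ = (LinearMap.single k (fun i => (S i).ρ.asModule) i₀) ∘ₗ Φ ∘ₗ (LinearMap.proj i₀) :=
    ⟨_, rfl⟩
  have hf₀app : ∀ m, f₀ m = Pi.single i₀ (Φ (m i₀)) := by
    intro m; rw [hf₀]; rfl
  have hcomm : ∀ (T : Module.End (MonoidAlgebra k G) (Π i, (S i).ρ.asModule)) m,
      f₀ (T m) = T (f₀ m) := by
    intro T m
    obtain ⟨cs, hcs⟩ := hdecomp T
    funext i
    rw [hcs, hf₀app, hf₀app, hcs, map_smul]
    by_cases hi : i = i₀
    · subst hi
      rw [Pi.single_eq_same, Pi.single_eq_same]
    · rw [Pi.single_eq_of_ne hi, Pi.single_eq_of_ne hi, smul_zero]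
  let f : Module.End (Module.End (MonoidAlgebra k G) (Π i, (S i).ρ.asModule))
      (Π i, (S i).ρ.asModule) :=
    { toFun := f₀
      map_add' := f₀.map_add
      map_smul' := fun T m => hcomm T m }
  obtain ⟨s, hs⟩ := (Module.Finite.fg_top (R := k) (M := Π i, (S i).ρ.asModule))
  obtain ⟨r, hr⟩ := jacobson_density f s
  have hrsmul : ∀ (c : k) (x : Π i, (S i).ρ.asModule), r • (c • x) = c • (r • x) := by
    intro c x
    funext i
    have h1 : (r • (c • x)) i = (S i).ρ.asModuleEquiv.symm
        ((S i).ρ.asAlgebraHom r ((S i).ρ.asModuleEquiv (c • x i))) := rfl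
    have h2 : (c • (r • x)) i = c • (S i).ρ.asModuleEquiv.symm
        ((S i).ρ.asAlgebraHom r ((S i).ρ.asModuleEquiv (x i))) := rfl
    rw [h1, h2, map_smul, map_smul, map_smul]
  have hall : ∀ m, f₀ m = r • m := by
    intro m
    have hm : m ∈ Submodule.span k (s : Set (Π i, (S i).ρ.asModule)) := by
      rw [hs]; exact Submodule.mem_top
    induction hm using Submodule.span_induction with
    | mem x hx => exact hr x hx
    | zero => rw [map_zero, smul_zero]
    | add x y _ _ hx hy => rw [map_add, hx, hy, smul_add]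
    | smul c x _ hx => rw [map_smul, hx, hrsmul]
  refine ⟨fun g => r.coeff g, ?_, ?_⟩
  · intro v
    rw [← asAlgebraHom_eq_act]
    have h := congrFun (hall (Pi.single i₀ ((S i₀).ρ.asModuleEquiv.symm v))) i₀
    rw [hf₀app, Pi.single_eq_same, Pi.single_eq_same, hΦ] at h
    have h2 : (S i₀).ρ.asModuleEquiv.symm (φ v)
        = (r • (Pi.single i₀ ((S i₀).ρ.asModuleEquiv.symm v) : Π i, (S i).ρ.asModule)) i₀ := by
      rw [← h]
      show (S i₀).ρ.asModuleEquiv.symm (φ v) = (S i₀).ρ.asModuleEquiv.symm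
        (φ ((S i₀).ρ.asModuleEquiv ((S i₀).ρ.asModuleEquiv.symm v)))
      rw [LinearEquiv.apply_symm_apply]
    rw [Pi.smul_apply, Pi.single_eq_same] at h2
    have h3 := congrArg (S i₀).ρ.asModuleEquiv h2
    rw [LinearEquiv.apply_symm_apply, Representation.asModuleEquiv_map_smul,
      LinearEquiv.apply_symm_apply] at h3
    exact h3.symm
  · intro j hj v
    rw [← asAlgebraHom_eq_act]
    have h := congrFun (hall (Pi.single j ((S j).ρ.asModuleEquiv.symm v))) j
    rw [hf₀app, Pi.single_eq_of_ne hj] at h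
    rw [Pi.smul_apply, Pi.single_eq_same] at h
    have h3 := congrArg (S j).ρ.asModuleEquiv h
    rw [map_zero, Representation.asModuleEquiv_map_smul, LinearEquiv.apply_symm_apply] at h3
    exact h3.symm

end density

end Cfsg.Agent.Lib.Helper6.MR
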