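import Mathlib
import Cfsg.Agent.Lib.Helper6.MR9
import Cfsg.Agent.Lib.Helper6.IrrBasis

/-!
# Modular representations: counting simple modules against the `p`-regular classes
-/

set_option linter.unusedSectionVars false

namespace Cfsg.Agent.Lib.Helper6.MR

open Module TensorProduct

universe u v w

variable {k : Type u} [Field k] {G : Type v} [Group G] [Fintype G]

section traces

variable {V : Type w} [AddCommGroup V] [Module k V]

theorem nontrivial_of_irr (ρ : Representation k G V) (hirr : ρ.IsIrreducible) :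
    Nontrivial V := by
  have h1 : Nontrivial (Subrepresentation ρ) := IsSimpleOrder.toNontrivial
  obtain ⟨a, b, hab⟩ := h1
  by_contra hcon
  rw [not_nontrivial_iff_subsingleton] at hcon
  apply hab
  apply Subrepresentation.toSubmodule_injective
  exact Subsingleton.elim _ _

theorem exists_trace_one [FiniteDimensional k V] [Nontrivial V] :
    ∃ φ : V →ₗ[k] V, LinearMap.trace k V φ = 1 := by
  have hpos : 0 < Module.finrank k V := Module.finrank_pos
  refine ⟨dualTensorHom k V V (((Module.finBasis k V).coord ⟨0, hpos⟩) ⊗ₜ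
    ((Module.finBasis k V) ⟨0, hpos⟩)), ?_⟩
  rw [LinearMap.trace_eq_contract_apply, contractLeft_apply, Basis.coord_apply, Basis.repr_self,
    Finsupp.single_eq_same]

theorem trace_conj (ρ : Representation k G V) (h g : G) :
    LinearMap.trace k V (ρ (h * g * h⁻¹)) = LinearMap.trace k V (ρ g) := by
  have h1 : ρ (h * g * h⁻¹) = (ρ h * ρ g) * ρ h⁻¹ := by rw [map_mul, map_mul]
  rw [h1, LinearMap.trace_mul_comm, ← mul_assoc, ← map_mul, inv_mul_cancel, map_one, one_mul]

theorem sub_one_pow_char_pow {p : ℕ} [hp : Fact p.Prime] [CharP k p] {A : Type*} [Ring A]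
    [Algebra k A] (y : A) (n : ℕ) : (y - 1) ^ (p ^ n) = y ^ (p ^ n) - 1 := by
  have hpoly : ((Polynomial.X : Polynomial k) - 1) ^ (p ^ n) = Polynomial.X ^ (p ^ n) - 1 := by
    have : CharP (Polynomial k) p := inferInstance
    rw [sub_pow_char_pow, one_pow]
  have := congrArg (Polynomial.aeval y) hpoly
  simpa using this

theorem trace_mul_pElement {p : ℕ} [hp : Fact p.Prime] [CharP k p] [FiniteDimensional k V]
    (ρ : Representation k G V) {x y : G} (hc : Commute x y) {n : ℕ} (hy : orderOf y = p ^ n) :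
    LinearMap.trace k V (ρ (x * y)) = LinearMap.trace k V (ρ x) := by
  have hN : (ρ y - 1) ^ (p ^ n) = 0 := by
    rw [sub_one_pow_char_pow (k := k), ← map_pow, ← hy, pow_orderOf_eq_one, map_one, sub_self]
  have hcomm : Commute (ρ x) (ρ y - 1) := by
    apply Commute.sub_right
    · show ρ x * ρ y = ρ y * ρ x
      rw [← map_mul, ← map_mul, hc.eq]
    · exact Commute.one_right _
  have hnil : IsNilpotent (ρ x * (ρ y - 1)) := ⟨p ^ n, by rw [hcomm.mul_pow, hN, mul_zero]⟩
  have htr : LinearMap.trace k V (ρ x * (ρ y - 1)) = 0 :=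
    (LinearMap.isNilpotent_trace_of_isNilpotent hnil).eq_zero
  have h1 : ρ (x * y) = ρ x + ρ x * (ρ y - 1) := by
    rw [map_mul, mul_sub, mul_one]; abel
  rw [h1, map_add, htr, add_zero]

theorem trace_act (ρ : Representation k G V) (a : G → k) :
    LinearMap.trace k V (act ρ a) = ∑ g : G, a g * LinearMap.trace k V (ρ g) := by
  unfold act
  rw [map_sum]
  apply Finset.sum_congr rfl
  intro g _
  rw [map_smul, smul_eq_mul]

end traces

section count

variable [IsAlgClosed k] {ι : Type*} [Fintype ι] [DecidableEq ι]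

theorem linearIndependent_traces (S : ι → IrrRep.{u, v, w} k G)
    (hS : ∀ i j, i ≠ j → ¬ IsIso (S i).ρ (S j).ρ) :
    LinearIndependent k (fun i : ι => fun g : G => LinearMap.trace k (S i).V ((S i).ρ g)) := by
  classical
  rw [Fintype.linearIndependent_iff]
  intro cs hcs i₀
  have : Nontrivial (S i₀).V := nontrivial_of_irr (S i₀).ρ (S i₀).irr
  obtain ⟨φ, hφ⟩ := exists_trace_one (k := k) (V := (S i₀).V)
  obtain ⟨a, ha1, ha2⟩ := exists_act_single S hS i₀ φ
  have h1 : ∑ i, cs i * LinearMap.trace k (S i).V (act (S i).ρ a) = 0 := by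
    simp only [trace_act, Finset.mul_sum]
    rw [Finset.sum_comm]
    apply Finset.sum_eq_zero
    intro g _
    have h2 := congrFun hcs g
    simp only [Finset.sum_apply, Pi.smul_apply, smul_eq_mul, Pi.zero_apply] at h2
    calc ∑ i, cs i * (a g * LinearMap.trace k (S i).V ((S i).ρ g))
        = a g * ∑ i, cs i * LinearMap.trace k (S i).V ((S i).ρ g) := by
          rw [Finset.mul_sum]
          apply Finset.sum_congr rfl
          intro i _
          ring
      _ = 0 := by rw [h2, mul_zero]
  rw [Finset.sum_eq_single i₀] at h1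
  · have h3 : act (S i₀).ρ a = φ := LinearMap.ext ha1
    rw [h3, hφ, mul_one] at h1
    exact h1
  · intro j _ hj
    have h3 : act (S j).ρ a = 0 := LinearMap.ext (ha2 j hj)
    rw [h3, map_zero, mul_zero]
  · intro h; exact absurd (Finset.mem_univ _) h

/-- pairwise non-isomorphic irreducible representations in characteristic `p` are at most as
many as the `p`-regular classes -/
theorem card_le_pRegClasses {p : ℕ} [hp : Fact p.Prime] [CharP k p]
    (S : ι → IrrRep.{u, v, w} k G) (hS : ∀ i j, i ≠ j → ¬ IsIso (S i).ρ (S j).ρ) :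
    Fintype.card ι ≤ Nat.card {c : ConjClasses G //
      ∃ g : G, ¬ p ∣ orderOf g ∧ ConjClasses.mk g = c} := by
  classical
  have hli := linearIndependent_traces S hS
  have hpp : ∀ g : G, ∃ y : G, ¬ p ∣ orderOf y ∧
      ∀ i, LinearMap.trace k (S i).V ((S i).ρ g) = LinearMap.trace k (S i).V ((S i).ρ y) := by
    intro g
    obtain ⟨x, hx, y, hy, hg, hxr, n, hyn⟩ := exists_pParts p hp.out g
    refine ⟨x, hxr, fun i => ?_⟩
    have hc : Commute x y := by
      obtain ⟨a, ha⟩ := Subgroup.mem_zpowers_iff.mp hx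
      obtain ⟨b, hb⟩ := Subgroup.mem_zpowers_iff.mp hy
      rw [← ha, ← hb]
      exact (Commute.refl g).zpow_zpow a b
    have h1 := trace_mul_pElement (S i).ρ hc hyn
    rw [← hg] at h1
    exact h1
  choose y hy1 hy2 using hpp
  obtain ⟨τ, hτ⟩ : ∃ τ : G → {c : ConjClasses G //
      ∃ g : G, ¬ p ∣ orderOf g ∧ ConjClasses.mk g = c},
      ∀ g, (τ g).1 = ConjClasses.mk (y g) :=
    ⟨fun g => ⟨ConjClasses.mk (y g), y g, hy1 g, rfl⟩, fun g => rfl⟩
  obtain ⟨F, hFdef⟩ : ∃ F : ι → {c : ConjClasses G //
      ∃ g : G, ¬ p ∣ orderOf g ∧ ConjClasses.mk g = c} → k,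
      ∀ i c, F i c = LinearMap.trace k (S i).V ((S i).ρ (Quotient.out c.1)) := ⟨_, fun _ _ => rfl⟩
  have hF : ∀ i g, LinearMap.trace k (S i).V ((S i).ρ g) = F i (τ g) := by
    intro i g
    rw [hy2 g i, hFdef, hτ]
    have hconj : IsConj (y g) (Quotient.out (ConjClasses.mk (y g))) := by
      rw [← ConjClasses.mk_eq_mk_iff_isConj]
      exact (Quotient.out_eq _).symm
    obtain ⟨c, hc⟩ := isConj_iff.mp hconj
    rw [← hc, trace_conj]
  have hFli : LinearIndependent k F := by
    rw [Fintype.linearIndependent_iff]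
    intro cs hcs
    rw [Fintype.linearIndependent_iff] at hli
    apply hli cs
    funext g
    have h2 := congrFun hcs (τ g)
    simp only [Finset.sum_apply, Pi.smul_apply, smul_eq_mul, Pi.zero_apply] at h2 ⊢
    rw [← h2]
    apply Finset.sum_congr rfl
    intro i _
    rw [hF]
  have : Fintype {c : ConjClasses G // ∃ g : G, ¬ p ∣ orderOf g ∧ ConjClasses.mk g = c} :=
    Fintype.ofFinite _
  have h := hFli.fintype_card_le_finrank
  rw [Module.finrank_fintype_fun_eq_card] at h
  rw [Nat.card_eq_fintype_card]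
  exact h

end count

end Cfsg.Agent.Lib.Helper6.MR
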