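import Mathlib
import Cfsg.Agent.Lib.Helper6.MR10

/-!
# Modular representations: the lower bound for the number of `p`-regular classes
-/

set_option linter.unusedSectionVars false

namespace Cfsg.Agent.Lib.Helper6.MR

open Module

universe v

/-- the working field and reduction map for a modular maximal ideal -/
theorem exists_residue_field {p : ℕ} (M : Ideal Cfsg.AlgInt) (hM : Cfsg.IsPModular p M) :
    ∃ (k : Type) (_ : Field k) (_ : IsAlgClosed k) (_ : CharP k p),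
      Nonempty (Cfsg.AlgInt →+* k) := by
  have := hM.2.1
  let _ : Field (Cfsg.AlgInt ⧸ M) := Ideal.Quotient.field M
  refine ⟨AlgebraicClosure (Cfsg.AlgInt ⧸ M), inferInstance, inferInstance, ?_,
    ⟨(algebraMap (Cfsg.AlgInt ⧸ M) (AlgebraicClosure (Cfsg.AlgInt ⧸ M))).comp
      (Ideal.Quotient.mk M)⟩⟩
  rw [CharP.charP_iff_prime_eq_zero hM.1]
  have h1 : ((p : Cfsg.AlgInt ⧸ M)) = 0 := by
    have : (Ideal.Quotient.mk M) (p : Cfsg.AlgInt) = 0 := Ideal.Quotient.eq_zero_iff_mem.mpr hM.2.2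
    simpa using this
  have h2 := congrArg (algebraMap (Cfsg.AlgInt ⧸ M) (AlgebraicClosure (Cfsg.AlgInt ⧸ M))) h1
  simpa using h2

/-- **the module-theoretic count**: the characters of defect zero and the irreducible characters
of the complement `H` together are at most as many as the `p`-regular classes -/
theorem ms_count {G : Type v} [Group G] [Fintype G] {p : ℕ} [hp : Fact p.Prime]
    (M : Ideal Cfsg.AlgInt) (hM : Cfsg.IsPModular p M) (D : LD p G) :
    Nat.card {χ : Cfsg.IrrCharacter G // ¬ p ∣ Nat.card G / Cfsg.charDegree (χ : G → ℂ)}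
        + Nat.card (Cfsg.IrrCharacter D.H)
      ≤ Nat.card {c : ConjClasses G // ∃ g : G, ¬ p ∣ orderOf g ∧ ConjClasses.mk g = c} := by
  classical
  obtain ⟨k, hk1, hk2, hk3, ⟨π⟩⟩ := exists_residue_field M hM
  have : Fintype D.H := Fintype.ofFinite _
  have : Fintype (Cfsg.IrrCharacter G) := Fintype.ofFinite _
  have : Fintype (Cfsg.IrrCharacter D.H) := Fintype.ofFinite _
  -- the defect zero modules
  have hZ : ∀ χ : {χ : Cfsg.IrrCharacter G // ¬ p ∣ Nat.card G / Cfsg.charDegree (χ : G → ℂ)},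
      ∃ S : IrrRep.{0, v, v} k G,
        (∀ P : Subgroup G, fixedPts S.ρ P ≤ trRange S.ρ P) ∧
        (∀ w, act S.ρ (Efun π (χ.1 : G → ℂ)) w
          = ((Nat.card G / Cfsg.charDegree (χ.1 : G → ℂ) : ℕ) : k) • w) ∧
        (∀ ψ : G → ℂ, Cfsg.IsIrrCharacter G ψ → ψ ≠ (χ.1 : G → ℂ) →
          ∀ w, act S.ρ (Efun π ψ) w = 0) := by
    intro χ
    exact exists_defect_zero_module (p := p) π (χ.1 : G → ℂ) χ.1.2 _
      (Nat.div_mul_cancel (IsIrrCharacter.charDegree_dvd_card χ.1.2)) χ.2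
  choose SZ hSZ1 hSZ2 hSZ3 using hZ
  have hH : ∀ ψ : Cfsg.IrrCharacter D.H, ∃ S : IrrRep.{0, v, v} k G,
      Hit D S.ρ (epsFun π D (ψ : D.H → ℂ)) := fun ψ => exists_sigma π D ψ.2
  choose SH hSH using hH
  -- the family
  obtain ⟨S, hSl, hSr⟩ : ∃ S : ({χ : Cfsg.IrrCharacter G //
      ¬ p ∣ Nat.card G / Cfsg.charDegree (χ : G → ℂ)} ⊕ Cfsg.IrrCharacter D.H) → IrrRep.{0, v, v} k G,
      (∀ χ, S (Sum.inl χ) = SZ χ) ∧ (∀ ψ, S (Sum.inr ψ) = SH ψ) :=
    ⟨Sum.elim SZ SH, fun _ => rfl, fun _ => rfl⟩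
  have hnoHit : ∀ (χ : {χ : Cfsg.IrrCharacter G //
      ¬ p ∣ Nat.card G / Cfsg.charDegree (χ : G → ℂ)}) (ψ : Cfsg.IrrCharacter D.H),
      ¬ Hit D (SZ χ).ρ (epsFun π D (ψ : D.H → ℂ)) := by
    rintro χ ψ ⟨u, hu, hnot⟩
    apply hnot
    apply hSZ1 χ D.P
    exact act_mem (SZ χ).ρ (inv_fixedPts_N D (SZ χ).ρ)
      (fun g hg => D.hHN (epsFun_supp π D _ g hg)) hu
  have hS : ∀ i j, i ≠ j → ¬ IsIso (S i).ρ (S j).ρ := by
    intro i j hij hiso
    rcases i with χ | ψ <;> rcases j with χ' | ψ'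
    · -- two defect zero characters
      have hne : (χ.1 : G → ℂ) ≠ (χ'.1 : G → ℂ) := by
        intro h
        apply hij
        congr 1
        exact Subtype.ext (Subtype.ext h)
      rw [hSl, hSl] at hiso
      obtain ⟨e, he⟩ := hiso
      have : Nontrivial (SZ χ).V := nontrivial_of_irr (SZ χ).ρ (SZ χ).irr
      obtain ⟨w, hw⟩ := exists_ne (0 : (SZ χ).V)
      have h1 := act_equiv e he (Efun π (χ.1 : G → ℂ)) w
      rw [hSZ2 χ w, hSZ3 χ' _ χ.1.2 hne, map_smul] at h1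
      have hck : ((Nat.card G / Cfsg.charDegree (χ.1 : G → ℂ) : ℕ) : k) ≠ 0 :=
        fun h => χ.2 ((CharP.cast_eq_zero_iff k p _).mp h)
      rcases smul_eq_zero.mp h1 with h2 | h2
      · exact hck h2
      · exact hw (e.map_eq_zero_iff.mp h2)
    · rw [hSl, hSr] at hiso
      exact hnoHit χ ψ' (Hit.of_iso D hiso.symm (hSH ψ'))
    · rw [hSr, hSl] at hiso
      exact hnoHit χ' ψ (Hit.of_iso D hiso (hSH ψ))
    · have hne : (ψ'.1 : D.H → ℂ) ≠ (ψ.1 : D.H → ℂ) := by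
        intro h
        apply hij
        congr 1
        exact (Subtype.ext h).symm
      rw [hSr, hSr] at hiso
      have h1 : Hit D (SH ψ').ρ (epsFun π D (ψ : D.H → ℂ)) := Hit.of_iso D hiso (hSH ψ)
      exact hit_excl D (SH ψ').ρ (SH ψ').irr (epsFun π D (ψ : D.H → ℂ))
        (epsFun π D (ψ' : D.H → ℂ)) (epsFun_supp π D _) (epsFun_supp π D _)
        (epsFun_class π D ψ.2) (epsFun_orth π D ψ.2 ψ'.2 hne) h1 (hSH ψ')
  have h := card_le_pRegClasses (p := p) S hS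
  rw [Fintype.card_sum, Fintype.card_eq_nat_card, Fintype.card_eq_nat_card] at h
  exact h

end Cfsg.Agent.Lib.Helper6.MR
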