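import Mathlib
import Cfsg.Agent.Lib.Helper6.CliffordStab
import Cfsg.Agent.Lib.Helper6.Ito
import Cfsg.Agent.Lib.Helper6.BlkDim
import Cfsg.Agent.Lib.Helper6.BlkNormalDef
import Cfsg.Agent.Lib.Helper6.BlkCoverDefect

set_option autoImplicit false
set_option linter.unusedSectionVars false
open Cfsg

namespace Cfsg.Agent.Lib.Helper6

open scoped ComplexConjugate

section

variable {G : Type*} [Group G] [Fintype G] [DecidableEq G]

/-- a character vanishing on the `p`-singular elements has degree divisible by the `p`-part of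
the group order -/
theorem IsCharacter.pow_dvd_degree_of_vanish {p : ℕ} (hp : p.Prime) {β : G → ℂ}
    (hβ : Cfsg.IsCharacter G β) (hv : ∀ x : G, p ∣ orderOf x → β x = 0) (n : ℕ)
    (hn : p ^ n ∣ Nat.card G) : p ^ n ∣ Cfsg.charDegree β := by
  haveI : Fact p.Prime := ⟨hp⟩
  obtain ⟨P⟩ : Nonempty (Sylow p G) := inferInstance
  have hcard : Nat.card (P : Subgroup G) = p ^ (Nat.card G).factorization p :=
    Sylow.card_eq_multiplicity P
  have h1 := trivMult_spec (P : Subgroup G) hβ
  rw [finsum_subgroup_eq_of_vanish hp (P : Subgroup G) hcard β hv, hcard,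
    IsCharacter.apply_one_eq_charDegree hβ] at h1
  have hne : ((p ^ (Nat.card G).factorization p : ℕ) : ℂ) ≠ 0 := by
    exact_mod_cast (pow_pos hp.pos _).ne'
  have h2 : Cfsg.charDegree β = p ^ (Nat.card G).factorization p * trivMult (P : Subgroup G) β := by
    have : (Cfsg.charDegree β : ℂ)
        = ((p ^ (Nat.card G).factorization p : ℕ) : ℂ) * (trivMult (P : Subgroup G) β : ℂ) := by
      rw [← h1, ← mul_assoc, mul_inv_cancel₀ hne, one_mul]
    exact_mod_cast this
  rw [h2]
  have h3 : n ≤ (Nat.card G).factorization p :=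
    (hp.pow_dvd_iff_le_factorization Nat.card_pos.ne').mp hn
  exact Dvd.dvd.mul_right (pow_dvd_pow p h3) _

variable (N : Subgroup G) [Fintype N] (hN : N.Normal)

include hN in
/-- the irreducible constituents of the restriction of a character of `p`-defect zero to a normal
subgroup have `p`-defect zero -/
theorem pow_dvd_degree_of_constituent_of_defect_zero {p : ℕ} (hp : p.Prime)
    (χ : Cfsg.IrrCharacter G)
    (hχ : p ^ (Nat.card G).factorization p ∣ Cfsg.charDegree (χ : G → ℂ))
    (θ : Cfsg.IrrCharacter N)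
    (hc : Cfsg.classInner (fun n : N => (χ : G → ℂ) n) (θ : N → ℂ) ≠ 0) (n : ℕ)
    (hn : p ^ n ∣ Nat.card N) : p ^ n ∣ Cfsg.charDegree (θ : N → ℂ) := by
  classical
  obtain ⟨T, hT⟩ : ∃ T : Subgroup G, T = inertia N hN (θ : N → ℂ) := ⟨_, rfl⟩
  haveI : Fintype T := Fintype.ofFinite _
  have hNT : N ≤ T := by
    rw [hT]; exact le_inertia N hN (IsIrrCharacter.isClassFunction θ.2)
  have hstab : ∀ g : G, conjFun N hN (θ : N → ℂ) g = (θ : N → ℂ) → g ∈ T := by
    intro g hg
    rw [hT]; exact hg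
  have hinv : ∀ t ∈ T, conjFun N hN (θ : N → ℂ) t = (θ : N → ℂ) := by
    intro t ht
    rw [hT] at ht; exact ht
  obtain ⟨ψ, hψc, hψind⟩ := exists_indFun_eq_of_stab N hN T hNT θ hstab χ hc
  -- degrees
  have hdeg : Cfsg.charDegree (χ : G → ℂ) = T.index * Cfsg.charDegree (ψ : T → ℂ) := by
    have h1 := congrFun hψind 1
    rw [indFun_one, IsCharacter.apply_one_eq_charDegree (IsIrrCharacter.isCharacter χ.2),
      IsCharacter.apply_one_eq_charDegree (IsIrrCharacter.isCharacter ψ.2)] at h1
    exact_mod_cast h1.symm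
  have hψ0 : p ^ (Nat.card T).factorization p ∣ Cfsg.charDegree (ψ : T → ℂ) := by
    have h1 := (hp.pow_dvd_iff_le_factorization (charDegree_ne_zero χ)).mp hχ
    rw [hdeg, Nat.factorization_mul (Subgroup.index_ne_zero_of_finite) (charDegree_ne_zero ψ),
      Finsupp.add_apply, factorization_card_eq_add_index T hp] at h1
    apply (hp.pow_dvd_iff_le_factorization (charDegree_ne_zero ψ)).mpr
    omega
  -- vanishing of ψ
  have hψv : ∀ x : T, p ∣ orderOf x → (ψ : T → ℂ) x = 0 := by
    intro x hx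
    exact IsIrrCharacter.eq_zero_of_defect_zero ψ.2 p _ hp (Nat.ordProj_dvd _ _)
      (Nat.pow_succ_factorization_not_dvd Nat.card_pos.ne' hp) hψ0 x hx
  have hres := restrict_eq_smul_of_invariant_of_le N hN T hNT ψ.2 θ.2 hinv hψc
  apply IsCharacter.pow_dvd_degree_of_vanish hp (IsIrrCharacter.isCharacter θ.2) _ n hn
  intro x hx
  have h1 := congrFun hres x
  rw [Pi.smul_apply, smul_eq_mul] at h1
  have h2 : (ψ : T → ℂ) ⟨x, hNT x.2⟩ = 0 := by
    apply hψv
    have : orderOf (⟨(x : G), hNT x.2⟩ : T) = orderOf x := by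
      rw [← Subgroup.orderOf_coe, ← Subgroup.orderOf_coe]
    rw [this]
    exact hx
  rw [h2] at h1
  rcases mul_eq_zero.mp h1.symm with h | h
  · exact absurd h hψc
  · exact h

end

end Cfsg.Agent.Lib.Helper6
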