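import Mathlib
import Cfsg.Prelude.Def_Blocks
import Cfsg.Agent.Lib.Helper6.BlkIdem
import Cfsg.Agent.Lib.Helper6.BlkDefConj
import Cfsg.Agent.S0912
import Cfsg.Agent.S0929

set_option autoImplicit false
set_option linter.unusedSectionVars false
open Cfsg

namespace Cfsg.Agent.Lib.Helper6

open scoped ComplexConjugate

section

variable {G : Type*} [Group G] [Fintype G] [DecidableEq G]
variable {p : ℕ} {M : Ideal Cfsg.AlgInt}

/-- the block idempotent lies in any complex subalgebra containing enough separating class sums -/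
theorem blockMat_mem_of_sep (hM : Cfsg.IsPModular p M) (χ₀ : Cfsg.IrrCharacter G)
    (𝒜 : Subalgebra ℂ (Matrix G G ℂ))
    (hsep : ∀ ψ : Cfsg.IrrCharacter G, ψ ∉ Cfsg.blockOf M (χ₀ : G → ℂ) →
      ∃ g : G, regMat (classInd g) ∈ 𝒜 ∧ ¬ Cfsg.MemLocalIdeal M
        (Cfsg.centralChar (χ₀ : G → ℂ) g - Cfsg.centralChar (ψ : G → ℂ) g)) :
    blockMat (Cfsg.blockOf M (χ₀ : G → ℂ)) ∈ 𝒜 := by
  classical
  have : Fintype (Cfsg.IrrCharacter G) := Fintype.ofFinite _
  set B := Cfsg.blockOf M (χ₀ : G → ℂ) with hB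
  have hmemB : ∀ ψ : Cfsg.IrrCharacter G, ψ ∈ B ↔ Cfsg.SameBlock M (χ₀ : G → ℂ) (ψ : G → ℂ) :=
    fun ψ => Iff.rfl
  let gs : Cfsg.IrrCharacter G → G := fun ψ => if h : ψ ∈ B then 1 else Classical.choose (hsep ψ h)
  have hgs : ∀ ψ : Cfsg.IrrCharacter G, ψ ∉ B → regMat (classInd (gs ψ)) ∈ 𝒜 ∧
      ¬ Cfsg.MemLocalIdeal M
      (Cfsg.centralChar (χ₀ : G → ℂ) (gs ψ) - Cfsg.centralChar (ψ : G → ℂ) (gs ψ)) := by
    intro ψ hψ
    have := Classical.choose_spec (hsep ψ hψ)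
    simp only [gs, dif_neg hψ]
    exact this
  let d : Cfsg.IrrCharacter G → ℂ := fun ψ =>
    Cfsg.centralChar (χ₀ : G → ℂ) (gs ψ) - Cfsg.centralChar (ψ : G → ℂ) (gs ψ)
  let Zf : Cfsg.IrrCharacter G → Matrix G G ℂ := fun ψ => sepMat (ψ : G → ℂ) (gs ψ) (d ψ)
  have hZfc : ∀ ψ, Zf ψ ∈ centerAlg G := fun ψ => sepMat_mem_centerAlg _ _ _
  have hZfA : ∀ ψ, ψ ∉ B → Zf ψ ∈ 𝒜 := by
    intro ψ hψ
    simp only [Zf, sepMat]
    apply 𝒜.smul_mem
    apply 𝒜.sub_mem (hgs ψ hψ).1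
    exact 𝒜.smul_mem 𝒜.one_mem _
  have hZfω : ∀ (θ ψ : Cfsg.IrrCharacter G), cOmega (θ : G → ℂ) (Zf ψ)
      = (d ψ)⁻¹ * (Cfsg.centralChar (θ : G → ℂ) (gs ψ) - Cfsg.centralChar (ψ : G → ℂ) (gs ψ)) :=
    fun θ ψ => cOmega_sepMat θ.2 _ _ _
  have hunit : ∀ (θ ψ : Cfsg.IrrCharacter G), θ ∈ B → ψ ∉ B →
      cOmega (θ : G → ℂ) (Zf ψ) ≠ 0 := by
    intro θ ψ hθ hψ
    rw [hZfω]
    have hd0 : d ψ ≠ 0 := ne_zero_of_not_memLocalIdeal hM (hgs ψ hψ).2
    apply mul_ne_zero (inv_ne_zero hd0)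
    intro hcon
    apply (hgs ψ hψ).2
    have h1 : Cfsg.MemLocalIdeal M (Cfsg.centralChar (χ₀ : G → ℂ) (gs ψ)
        - Cfsg.centralChar (θ : G → ℂ) (gs ψ)) := (hmemB θ).mp hθ (gs ψ)
    have : Cfsg.centralChar (χ₀ : G → ℂ) (gs ψ) - Cfsg.centralChar (ψ : G → ℂ) (gs ψ)
        = Cfsg.centralChar (χ₀ : G → ℂ) (gs ψ) - Cfsg.centralChar (θ : G → ℂ) (gs ψ) := by
      rw [sub_eq_zero] at hcon
      rw [hcon]
    rw [this]
    exact h1
  let sOut : Finset (Cfsg.IrrCharacter G) := Finset.univ.filter (· ∉ B)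
  let sIn : Finset (Cfsg.IrrCharacter G) := Finset.univ.filter (· ∈ B)
  let Z : Matrix G G ℂ := (sOut.toList.map Zf).prod
  have hZc : Z ∈ centerAlg G := by
    apply (centerAlg G).list_prod_mem
    intro X hX
    obtain ⟨ψ, _, rfl⟩ := List.mem_map.mp hX
    exact hZfc ψ
  have hZA : Z ∈ 𝒜 := by
    apply 𝒜.list_prod_mem
    intro X hX
    obtain ⟨ψ, hψ, rfl⟩ := List.mem_map.mp hX
    apply hZfA ψ
    have := Finset.mem_toList.mp hψ
    simpa [sOut] using this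
  have hZω : ∀ θ : Cfsg.IrrCharacter G,
      cOmega (θ : G → ℂ) Z = ∏ ψ ∈ sOut, cOmega (θ : G → ℂ) (Zf ψ) := by
    intro θ
    rw [cOmega_list_prod θ.2]
    · rw [List.map_map, Finset.prod_map_toList]
      rfl
    · intro X hX
      obtain ⟨ψ, _, rfl⟩ := List.mem_map.mp hX
      exact hZfc ψ
  let a : Cfsg.IrrCharacter G → ℂ := fun θ => cOmega (θ : G → ℂ) Z
  have haOut : ∀ θ : Cfsg.IrrCharacter G, θ ∉ B → a θ = 0 := by
    intro θ hθ
    change cOmega (θ : G → ℂ) Z = 0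
    rw [hZω]
    apply Finset.prod_eq_zero (i := θ)
    · simp [sOut, hθ]
    · rw [hZfω, sub_self, mul_zero]
  have haIn : ∀ θ : Cfsg.IrrCharacter G, θ ∈ B → a θ ≠ 0 := by
    intro θ hθ
    change cOmega (θ : G → ℂ) Z ≠ 0
    rw [hZω]
    apply Finset.prod_ne_zero_iff.mpr
    intro ψ hψ
    exact hunit θ ψ hθ (by simpa [sOut] using hψ)
  let Yf : Cfsg.IrrCharacter G → Matrix G G ℂ := fun χ => 1 - (a χ)⁻¹ • Z
  let Y : Matrix G G ℂ := (sIn.toList.map Yf).prod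
  have hYfc : ∀ χ, Yf χ ∈ centerAlg G := fun χ =>
    (centerAlg G).sub_mem (centerAlg G).one_mem ((centerAlg G).smul_mem hZc _)
  have hYc : Y ∈ centerAlg G := by
    apply (centerAlg G).list_prod_mem
    intro X hX
    obtain ⟨ψ, _, rfl⟩ := List.mem_map.mp hX
    exact hYfc ψ
  have hYA : Y ∈ 𝒜 := by
    apply 𝒜.list_prod_mem
    intro X hX
    obtain ⟨χ, hχ, rfl⟩ := List.mem_map.mp hX
    exact 𝒜.sub_mem 𝒜.one_mem (𝒜.smul_mem hZA _)
  have hYω : ∀ θ : Cfsg.IrrCharacter G,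
      cOmega (θ : G → ℂ) Y = ∏ χ ∈ sIn, (1 - (a χ)⁻¹ * a θ) := by
    intro θ
    rw [cOmega_list_prod θ.2]
    · rw [List.map_map, Finset.prod_map_toList]
      apply Finset.prod_congr rfl
      intro χ _
      exact cOmega_one_sub_smul θ.2 _ _
    · intro X hX
      obtain ⟨ψ, _, rfl⟩ := List.mem_map.mp hX
      exact hYfc ψ
  have hXeq : 1 - Y = blockMat B := by
    apply eq_of_cOmega_eq ((centerAlg G).sub_mem (centerAlg G).one_mem hYc)
      (blockMat_mem_centerAlg B)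
    intro θ
    rw [cOmega_sub, cOmega_one (IsIrrCharacter.apply_one_ne_zero θ.2), hYω, cOmega_blockMat]
    split_ifs with hθ
    · have : ∏ χ ∈ sIn, (1 - (a χ)⁻¹ * a θ) = 0 := by
        apply Finset.prod_eq_zero (i := θ)
        · simp [sIn, hθ]
        · rw [inv_mul_cancel₀ (haIn θ hθ), sub_self]
      rw [this, sub_zero]
    · rw [haOut θ hθ]
      simp
  rw [← hXeq]
  exact 𝒜.sub_mem 𝒜.one_mem hYA

/-- matrices in the centre algebra supported on a normal subgroup -/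
def suppAlg (C : Subgroup G) : Subalgebra ℂ (Matrix G G ℂ) where
  carrier := {X | ∀ s t : G, s * t⁻¹ ∉ C → X s t = 0}
  mul_mem' := by
    intro X Y hX hY s t hst
    rw [Matrix.mul_apply]
    apply Finset.sum_eq_zero
    intro k _
    by_cases h1 : s * k⁻¹ ∈ C
    · have h2 : k * t⁻¹ ∉ C := by
        intro h2
        apply hst
        have := C.mul_mem h1 h2
        simpa [mul_assoc] using this
      rw [hY k t h2, mul_zero]
    · rw [hX s k h1, zero_mul]
  one_mem' := by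
    intro s t hst
    rw [Matrix.one_apply, if_neg]
    rintro rfl
    apply hst
    rw [mul_inv_cancel]
    exact C.one_mem
  add_mem' := by
    intro X Y hX hY s t hst
    rw [Matrix.add_apply, hX s t hst, hY s t hst, add_zero]
  zero_mem' := fun _ _ _ => rfl
  algebraMap_mem' := by
    intro c s t hst
    rw [Matrix.algebraMap_matrix_apply, if_neg]
    rintro rfl
    apply hst
    rw [mul_inv_cancel]
    exact C.one_mem

theorem mem_suppAlg (C : Subgroup G) (X : Matrix G G ℂ) :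
    X ∈ suppAlg C ↔ ∀ s t : G, s * t⁻¹ ∉ C → X s t = 0 := Iff.rfl

theorem classInd_mem_suppAlg (C : Subgroup G) [C.Normal] {g : G} (hg : g ∈ C) :
    regMat (classInd g) ∈ suppAlg C := by
  intro s t hst
  rw [regMat_apply]
  unfold classInd
  rw [if_neg]
  intro hc
  apply hst
  obtain ⟨c, hc⟩ := isConj_iff.mp hc
  rw [← hc]
  exact (inferInstance : C.Normal).conj_mem g hg c

/-- central characters vanish modulo the ideal off the centralizer of a normal `p`-subgroup -/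
theorem centralChar_memLocalIdeal_of_not_mem_centralizer (hM : Cfsg.IsPModular p M) [Fact p.Prime]
    (P : Subgroup G) [hPn : P.Normal] (hP : IsPGroup p P) (χ : Cfsg.IrrCharacter G) (g : G)
    (hg : g ∉ Subgroup.centralizer (P : Set G)) :
    Cfsg.MemLocalIdeal M (Cfsg.centralChar (χ : G → ℂ) g) := by
  by_contra hcon
  obtain ⟨g₀, hg₀⟩ := exists_isDefectClass hM χ
  have Q : Sylow p (Subgroup.centralizer ({g₀} : Set G)) := default
  have hD : Cfsg.IsDefectGroup p M (Cfsg.blockOf M (χ : G → ℂ))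
      ((Q : Subgroup (Subgroup.centralizer ({g₀} : Set G))).map
        (Subgroup.centralizer ({g₀} : Set G)).subtype) := ⟨g₀, hg₀, Q, rfl⟩
  obtain ⟨x, hgx, hxc, -⟩ := Cfsg.Agent.S0929.result p M hM _ ⟨χ, rfl⟩ _ hD g
    ⟨χ, sameBlock_refl hM _, hcon⟩
  have hcore := Cfsg.Agent.S0912.result p M hM _ ⟨χ, rfl⟩ _ hD
  have hPle : P ≤ Cfsg.pCore p G := le_sSup ⟨hPn, hP⟩
  apply hg
  obtain ⟨c, hc⟩ := isConj_iff.mp hgx
  rw [Subgroup.mem_centralizer_iff] at hxc ⊢
  intro y hy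
  have hy' : c * y * c⁻¹ ∈ P := hPn.conj_mem y hy c
  have h1 := hxc (c * y * c⁻¹) (hcore (hPle hy'))
  rw [← hc] at h1
  have h2 : c * (y * g) * c⁻¹ = c * (g * y) * c⁻¹ := by
    calc c * (y * g) * c⁻¹ = c * y * c⁻¹ * (c * g * c⁻¹) := by group
      _ = c * g * c⁻¹ * (c * y * c⁻¹) := h1
      _ = c * (g * y) * c⁻¹ := by group
  exact mul_left_cancel (mul_right_cancel h2)

/-- block idempotents are supported on the centralizer of a normal `p`-subgroup -/
theorem blockCoeff_eq_zero_of_not_mem_centralizer (hM : Cfsg.IsPModular p M) [Fact p.Prime]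
    (P : Subgroup G) [hPn : P.Normal] (hP : IsPGroup p P) (χ₀ : Cfsg.IrrCharacter G) (g : G)
    (hg : g ∉ Subgroup.centralizer (P : Set G)) :
    Cfsg.blockCoeff (Cfsg.blockOf M (χ₀ : G → ℂ)) g = 0 := by
  have hCn : (Subgroup.centralizer (P : Set G)).Normal := by
    constructor
    intro n hn c
    rw [Subgroup.mem_centralizer_iff] at hn ⊢
    intro y hy
    have hy' : c⁻¹ * y * c ∈ P := by
      have := hPn.conj_mem y hy c⁻¹
      simpa using this
    have h1 := hn _ hy'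
    calc y * (c * n * c⁻¹) = c * ((c⁻¹ * y * c) * n) * c⁻¹ := by group
      _ = c * (n * (c⁻¹ * y * c)) * c⁻¹ := by rw [h1]
      _ = c * n * c⁻¹ * y := by group
  have hmem := blockMat_mem_of_sep hM χ₀ (suppAlg (Subgroup.centralizer (P : Set G))) (by
    intro ψ hψ
    have h1 : ¬ Cfsg.SameBlock M (χ₀ : G → ℂ) (ψ : G → ℂ) := hψ
    unfold Cfsg.SameBlock at h1
    obtain ⟨x, hx⟩ := not_forall.mp h1
    refine ⟨x, ?_, hx⟩
    apply classInd_mem_suppAlg
    by_contra hxc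
    apply hx
    exact MemLocalIdeal.sub hM
      (centralChar_memLocalIdeal_of_not_mem_centralizer hM P hP χ₀ x hxc)
      (centralChar_memLocalIdeal_of_not_mem_centralizer hM P hP ψ x hxc))
  have := hmem g 1 (by rw [inv_one, mul_one]; exact hg)
  unfold blockMat at this
  rw [regMat_apply, inv_one, mul_one] at this
  exact this

end

end Cfsg.Agent.Lib.Helper6
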