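import Mathlib
import Cfsg.Prelude.Def_Blocks
import Cfsg.Prelude.Def_BrauerPairs
import Cfsg.Agent.Lib.Helper6.BrFull
import Cfsg.Agent.Lib.Helper6.BlkSupport
import Cfsg.Agent.Lib.Helper6.BrMax2

set_option autoImplicit false
set_option linter.unusedSectionVars false
open Cfsg

namespace Cfsg.Agent.Lib.Helper6

open scoped ComplexConjugate

section vanish

variable {G : Type*} [Group G] [Fintype G] [DecidableEq G]
variable {p : ℕ} [Fact p.Prime] {M : Ideal Cfsg.AlgInt}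
variable (N : Subgroup G) [Fintype N] [hN : N.Normal]

/-- if the central characters vanish modulo the ideal off the normal subgroup `N`, then characters
lying over the same block of `N` lie in the same block -/
theorem sameBlock_of_cover_of_vanish (hM : Cfsg.IsPModular p M)
    (hoff : ∀ (χ : Cfsg.IrrCharacter G) (g : G), g ∉ N →
      Cfsg.MemLocalIdeal M (Cfsg.centralChar (χ : G → ℂ) g))
    (χ χ' : Cfsg.IrrCharacter G) (θ θ' : Cfsg.IrrCharacter N)
    (hθθ' : Cfsg.SameBlock M (θ : N → ℂ) (θ' : N → ℂ))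
    (hθ : Cfsg.classInner (fun n : N => (χ : G → ℂ) n) (θ : N → ℂ) ≠ 0)
    (hθ' : Cfsg.classInner (fun n : N => (χ' : G → ℂ) n) (θ' : N → ℂ) ≠ 0) :
    Cfsg.SameBlock M (χ : G → ℂ) (χ' : G → ℂ) := by
  intro g
  by_cases hgN : g ∈ N
  · have e1 := (Cfsg.Agent.S0963.result N χ θ).mp hθ ⟨g, hgN⟩
    have e2 := (Cfsg.Agent.S0963.result N χ' θ').mp hθ' ⟨g, hgN⟩
    simp only at e1 e2
    rw [e1, e2]
    exact inducedCentralChar_sub_memLocalIdeal N hM θ.2 θ'.2 hθθ' g
  · exact MemLocalIdeal.sub hM (hoff χ g hgN) (hoff χ' g hgN)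

/-- under the same hypothesis, the idempotent of a stable block of `N` is a block idempotent -/
theorem exists_block_of_stable_of_vanish (hM : Cfsg.IsPModular p M)
    (hoff : ∀ (χ : Cfsg.IrrCharacter G) (g : G), g ∉ N →
      Cfsg.MemLocalIdeal M (Cfsg.centralChar (χ : G → ℂ) g))
    (c : Set (Cfsg.IrrCharacter N)) (hc : Cfsg.IsPBlock M c)
    (hst : ∀ x : G, Cfsg.StabilizesBlock N c x) :
    ∃ B : Set (Cfsg.IrrCharacter G), Cfsg.IsPBlock M B ∧
      ∀ g : G, Cfsg.blockCoeff B g = Cfsg.subgroupBlockCoeff N c g := by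
  classical
  have hNn : N.Normal := hN
  obtain ⟨θ₀, rfl⟩ := hc
  have hstG : GStable N hNn (Cfsg.blockOf M (θ₀ : N → ℂ)) := by
    intro ψ hψ g
    obtain ⟨_, h2⟩ := hst g⁻¹
    obtain ⟨χ', hχ', hconj⟩ := h2 ψ hψ
    have : irrConj N hNn g ψ = χ' := by
      apply Subtype.ext
      funext n
      rw [irrConj_coe, conjFun_apply]
      exact (hconj ⟨g * n * g⁻¹, hNn.conj_mem n n.2 g⟩ n (by simp [mul_assoc])).symm
    rw [this]
    exact hχ'
  obtain ⟨χ₀, hχ₀⟩ := exists_irr_over N θ₀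
  have hover : overSet N (Cfsg.blockOf M (θ₀ : N → ℂ)) = Cfsg.blockOf M (χ₀ : G → ℂ) := by
    ext χ
    constructor
    · rintro ⟨θ, hθ, hc⟩
      exact sameBlock_of_cover_of_vanish N hM hoff χ₀ χ θ₀ θ hθ hχ₀ hc
    · intro hχ
      exact overSet_union_blocks N hNn hM θ₀ hstG χ₀ ⟨θ₀, sameBlock_refl hM _, hχ₀⟩ χ hχ
  refine ⟨_, ⟨χ₀, rfl⟩, ?_⟩
  intro g
  rw [← hover, blockCoeff_overSet_eq N hNn hstG]
  unfold Cfsg.subgroupBlockCoeff
  by_cases hg : g ∈ N
  · rw [extendByZero_of_mem N _ hg, dif_pos hg]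
  · rw [extendByZero_of_not_mem N _ hg, dif_neg hg]

end vanish


section stabblock

variable {G : Type*} [Group G] [Fintype G] [DecidableEq G]
variable {p : ℕ} [Fact p.Prime] {M : Ideal Cfsg.AlgInt}

theorem centralizer_le_of_stab (Q : Subgroup G)
    (f : Set (Cfsg.IrrCharacter (Subgroup.centralizer (Q : Set G)))) (T : Subgroup G)
    (hT : ∀ y : G, y ∈ T ↔ y ∈ Subgroup.normalizer (Q : Set G) ∧
      Cfsg.StabilizesBlock (Subgroup.centralizer (Q : Set G)) f y) :
    Subgroup.centralizer (Q : Set G) ≤ T := by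
  intro c hc
  rw [hT]
  exact ⟨Subgroup.centralizer_le_normalizer _ hc,
    stabilizesBlock_of_mem_sup Q f ((le_sup_right : _ ≤ Q ⊔ _) hc)⟩

theorem le_of_stab (Q : Subgroup G)
    (f : Set (Cfsg.IrrCharacter (Subgroup.centralizer (Q : Set G)))) (T : Subgroup G)
    (hT : ∀ y : G, y ∈ T ↔ y ∈ Subgroup.normalizer (Q : Set G) ∧
      Cfsg.StabilizesBlock (Subgroup.centralizer (Q : Set G)) f y) :
    Q ≤ T := by
  intro c hc
  rw [hT]
  exact ⟨Subgroup.le_normalizer hc,
    stabilizesBlock_of_mem_sup Q f ((le_sup_left : Q ≤ Q ⊔ _) hc)⟩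

/-- central characters of the stabilizer `T` of `(Q, f)` vanish modulo the ideal off `C_G(Q)` -/
theorem centralChar_memLocalIdeal_of_stab (hM : Cfsg.IsPModular p M) (Q : Subgroup G)
    (hQ : IsPGroup p Q) (T : Subgroup G) [Fintype T] (hQT : Q ≤ T)
    (hTN : T ≤ Subgroup.normalizer (Q : Set G)) (χ : Cfsg.IrrCharacter T) (g : T)
    (hg : g ∉ (Subgroup.centralizer (Q : Set G)).subgroupOf T) :
    Cfsg.MemLocalIdeal M (Cfsg.centralChar (χ : T → ℂ) g) := by
  classical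
  haveI hQn : (Q.subgroupOf T).Normal := Subgroup.normal_subgroupOf_of_le_normalizer hTN
  have hQp : IsPGroup p (Q.subgroupOf T) := by
    rw [← Subgroup.comap_subtype]
    exact hQ.comap_subtype
  apply centralChar_memLocalIdeal_of_not_mem_centralizer hM (Q.subgroupOf T) hQp χ g
  intro hcon
  apply hg
  rw [Subgroup.mem_subgroupOf, Subgroup.mem_centralizer_iff]
  intro q hq
  have h1 := Subgroup.mem_centralizer_iff.mp hcon ⟨q, hQT hq⟩ (by
    change (⟨q, hQT hq⟩ : T) ∈ Q.subgroupOf T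
    rw [Subgroup.mem_subgroupOf]
    exact hq)
  have h2 := congrArg (Subtype.val : T → G) h1
  simpa using h2

/-- the idempotent of `f` is a block idempotent of the stabilizer `T` of `(Q, f)` -/
theorem exists_block_of_stabilizer (hM : Cfsg.IsPModular p M) (Q : Subgroup G)
    (hQ : IsPGroup p Q) (f : Set (Cfsg.IrrCharacter (Subgroup.centralizer (Q : Set G))))
    (hf : Cfsg.IsPBlock M f) (T : Subgroup G)
    (hT : ∀ y : G, y ∈ T ↔ y ∈ Subgroup.normalizer (Q : Set G) ∧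
      Cfsg.StabilizesBlock (Subgroup.centralizer (Q : Set G)) f y) :
    ∃ F : Set (Cfsg.IrrCharacter T), Cfsg.IsPBlock M F ∧
      ∀ t : T, Cfsg.blockCoeff F t
        = Cfsg.subgroupBlockCoeff (Subgroup.centralizer (Q : Set G)) f (t : G) := by
  classical
  have : Fintype T := Fintype.ofFinite _
  have : Fintype (Subgroup.centralizer (Q : Set G)) := Fintype.ofFinite _
  have hKT := centralizer_le_of_stab Q f T hT
  have hQT := le_of_stab Q f T hT
  have hTNQ : T ≤ Subgroup.normalizer (Q : Set G) := fun y hy => ((hT y).mp hy).1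
  have hTN : T ≤ Subgroup.normalizer
      ((Subgroup.centralizer (Q : Set G) : Subgroup G) : Set G) :=
    hTNQ.trans (normalizer_le_normalizer_centralizer Q)
  haveI hn : ((Subgroup.centralizer (Q : Set G)).subgroupOf T).Normal :=
    Subgroup.normal_subgroupOf_of_le_normalizer hTN
  have : Fintype ((Subgroup.centralizer (Q : Set G)).subgroupOf T) := Fintype.ofFinite _
  have hc : Cfsg.IsPBlock M (irrSub (Subgroup.centralizer (Q : Set G)) T hKT '' f) := by
    obtain ⟨θ₀, rfl⟩ := hf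
    exact ⟨irrSub _ T hKT θ₀, image_irrSub_blockOf _ T hKT θ₀⟩
  obtain ⟨F, hF, hcoef⟩ := exists_block_of_stable_of_vanish
    ((Subgroup.centralizer (Q : Set G)).subgroupOf T) hM
    (fun χ g hg => centralChar_memLocalIdeal_of_stab hM Q hQ T hQT hTNQ χ g hg)
    (irrSub _ T hKT '' f) hc
    (fun x => stabilizesBlock_irrSub _ T hKT hTN f x ((hT x).mp x.2).2)
  refine ⟨F, hF, ?_⟩
  intro t
  rw [hcoef, subgroupBlockCoeff_irrSub]


/-- `N_P(Q)` lies in the stabilizer of `(Q, f)` and in a defect group of the block of the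
stabilizer with the idempotent of `f` -/
theorem exists_isDefectGroup_ge_normalizerIn (hM : Cfsg.IsPModular p M) (P Q : Subgroup G)
    (e : Set (Cfsg.IrrCharacter (Subgroup.centralizer (P : Set G))))
    (f : Set (Cfsg.IrrCharacter (Subgroup.centralizer (Q : Set G))))
    (hPe : Cfsg.IsBrauerPair p M P e) (hQP : Q ≤ P) (hf : Cfsg.IsPBlock M f)
    (hle : Cfsg.SubpairLE p M Q f P e) (T : Subgroup G)
    (hT : ∀ y : G, y ∈ T ↔ y ∈ Subgroup.normalizer (Q : Set G) ∧
      Cfsg.StabilizesBlock (Subgroup.centralizer (Q : Set G)) f y)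
    (F : Set (Cfsg.IrrCharacter T)) (hF : Cfsg.IsPBlock M F)
    (hcoef : ∀ t : T, Cfsg.blockCoeff F t
        = Cfsg.subgroupBlockCoeff (Subgroup.centralizer (Q : Set G)) f (t : G)) :
    P ⊓ Subgroup.normalizer (Q : Set G) ≤ T ∧
    ∃ D : Subgroup T, Cfsg.IsDefectGroup p M F D ∧
      (P ⊓ Subgroup.normalizer (Q : Set G)).subgroupOf T ≤ D := by
  classical
  have : Fintype T := Fintype.ofFinite _
  have : Fintype (Subgroup.centralizer (Q : Set G)) := Fintype.ofFinite _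
  obtain ⟨R, hRdef⟩ : ∃ R : Subgroup G, R = P ⊓ Subgroup.normalizer (Q : Set G) := ⟨_, rfl⟩
  rw [← hRdef]
  have hRP : R ≤ P := by rw [hRdef]; exact inf_le_left
  have hQR : Q ≤ R := by rw [hRdef]; exact le_inf hQP Subgroup.le_normalizer
  have hRN : R ≤ Subgroup.normalizer (Q : Set G) := by rw [hRdef]; exact inf_le_right
  obtain ⟨e', he', hRe'⟩ := exists_subpairLE hM _ P R e le_rfl hPe hRP
  have hRe'p : Cfsg.IsBrauerPair p M R e' := ⟨hPe.1.to_le hRP, he'⟩
  obtain ⟨f'', hf'', hQf''⟩ := exists_subpairLE hM _ R Q e' le_rfl hRe'p hQR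
  have hch : Cfsg.SubpairLE p M Q f'' P e := Relation.ReflTransGen.trans hQf'' hRe'
  have hff : f'' = f := subpairLE_unique hM _ P Q e f'' f le_rfl hPe hf'' hf hch hle
  subst hff
  have hQf : Cfsg.IsBrauerPair p M Q f'' := ⟨hPe.1.to_le hQP, hf⟩
  have hn : Cfsg.IsNormalSubpair p M Q f'' R e' :=
    isNormalSubpair_of_chain hM ⟨Q, f''⟩ ⟨R, e'⟩ hQf'' hQf hRN
  have hRT : R ≤ T := by
    intro y hy
    rw [hT]
    exact ⟨hRN hy, hn.2.2.2.2.1 y hy⟩
  refine ⟨hRT, ?_⟩
  obtain ⟨c₀, hc₀R, hc₀Q, hne⟩ := exists_blockCoeff_of_isNormalSubpair hM Q R f'' e' hn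
  have hKT := centralizer_le_of_stab Q f'' T hT
  apply exists_isDefectGroup_ge hM F hF _ _ ⟨c₀, hKT hc₀Q⟩ _ _
  · have : IsPGroup p R := hPe.1.to_le hRP
    rw [← Subgroup.comap_subtype]
    exact this.comap_subtype
  · intro r hr
    rw [Subgroup.mem_subgroupOf] at hr
    rw [Subgroup.mem_centralizer_singleton_iff]
    apply Subtype.ext
    rw [Subgroup.coe_mul, Subgroup.coe_mul]
    exact (Subgroup.mem_centralizer_iff.mp hc₀R _ hr)
  · rw [hcoef, subgroupBlockCoeff_of_mem _ _ hc₀Q]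
    exact hne


theorem mem_normalizer_map_conj_iff (Q : Subgroup G) (x y : G) :
    y ∈ Subgroup.normalizer ((Q.map (MulAut.conj x).toMonoidHom : Subgroup G) : Set G)
      ↔ x⁻¹ * y * x ∈ Subgroup.normalizer (Q : Set G) := by
  constructor
  · intro h
    have := mem_normalizer_map_conj (Q.map (MulAut.conj x).toMonoidHom) x⁻¹ h
    have e1 : (Q.map (MulAut.conj x).toMonoidHom).map (MulAut.conj x⁻¹).toMonoidHom = Q := by
      rw [Subgroup.map_map]
      have : (MulAut.conj x⁻¹).toMonoidHom.comp (MulAut.conj x).toMonoidHom = MonoidHom.id G := by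
        ext g
        simp [MulAut.conj_apply, mul_assoc]
      rw [this, Subgroup.map_id]
    rw [e1, inv_inv] at this
    exact this
  · intro h
    have := mem_normalizer_map_conj Q x h
    have e : x * (x⁻¹ * y * x) * x⁻¹ = y := by group
    rwa [e] at this

/-- conjugation by `x` between two subgroups -/
noncomputable def conjSubEquiv (T₀ T' : Subgroup G) (x : G)
    (h : ∀ y : G, y ∈ T' ↔ x⁻¹ * y * x ∈ T₀) : T₀ ≃* T' where
  toFun t := ⟨x * (t : G) * x⁻¹, by
    rw [h]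
    have : x⁻¹ * (x * (t : G) * x⁻¹) * x = t := by group
    rw [this]
    exact t.2⟩
  invFun t := ⟨x⁻¹ * (t : G) * x, (h _).mp t.2⟩
  left_inv t := by
    apply Subtype.ext
    simp only
    group
  right_inv t := by
    apply Subtype.ext
    simp only
    group
  map_mul' s t := by
    apply Subtype.ext
    simp only [Subgroup.coe_mul]
    group

theorem conjSubEquiv_apply_coe (T₀ T' : Subgroup G) (x : G)
    (h : ∀ y : G, y ∈ T' ↔ x⁻¹ * y * x ∈ T₀) (t : T₀) :
    ((conjSubEquiv T₀ T' x h t : T') : G) = x * (t : G) * x⁻¹ := rfl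

theorem conjSubEquiv_symm_apply_coe (T₀ T' : Subgroup G) (x : G)
    (h : ∀ y : G, y ∈ T' ↔ x⁻¹ * y * x ∈ T₀) (t : T') :
    (((conjSubEquiv T₀ T' x h).symm t : T₀) : G) = x⁻¹ * (t : G) * x := rfl

/-- some conjugate of `(Q, f)` below the maximal pair `(P, e)` is fully normalized -/
theorem exists_conj_isDefectGroup_normalizerIn (hM : Cfsg.IsPModular p M)
    (B : Set (Cfsg.IrrCharacter G)) (P Q : Subgroup G)
    (e : Set (Cfsg.IrrCharacter (Subgroup.centralizer (P : Set G))))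
    (f : Set (Cfsg.IrrCharacter (Subgroup.centralizer (Q : Set G))))
    (hmax : Cfsg.IsMaximalBrauerPair p M B P e) (hQP : Q ≤ P) (hf : Cfsg.IsPBlock M f)
    (hle : Cfsg.SubpairLE p M Q f P e) :
    ∃ x : G, Cfsg.SubpairLE p M (Q.map (MulAut.conj x).toMonoidHom) (Cfsg.conjBlock Q x f) P e ∧
      ∀ (T' : Subgroup G), (∀ y : G, y ∈ T' ↔
          y ∈ Subgroup.normalizer ((Q.map (MulAut.conj x).toMonoidHom : Subgroup G) : Set G) ∧
          Cfsg.StabilizesBlock
            (Subgroup.centralizer ((Q.map (MulAut.conj x).toMonoidHom : Subgroup G) : Set G))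
            (Cfsg.conjBlock Q x f) y) →
        ∃ F' : Set (Cfsg.IrrCharacter T'), Cfsg.IsPBlock M F' ∧
          (∀ t : T', Cfsg.blockCoeff F' t = Cfsg.subgroupBlockCoeff
            (Subgroup.centralizer ((Q.map (MulAut.conj x).toMonoidHom : Subgroup G) : Set G))
            (Cfsg.conjBlock Q x f) (t : G)) ∧
          Cfsg.IsDefectGroup p M F'
            ((P ⊓ Subgroup.normalizer
              ((Q.map (MulAut.conj x).toMonoidHom : Subgroup G) : Set G)).subgroupOf T') := by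
  classical
  have : Fintype (Subgroup.centralizer (Q : Set G)) := Fintype.ofFinite _
  have hPe := hmax.1.1
  have hB := hmax.1.2.1
  have hQp : IsPGroup p Q := hPe.1.to_le hQP
  have hQf : Cfsg.IsBrauerPair p M Q f := ⟨hQp, hf⟩
  have hBQ : Cfsg.IsBrauerPairOf p M B Q f :=
    (isBrauerPairOf_iff_of_chain hM B hB ⟨Q, f⟩ ⟨P, e⟩ hle).mp hmax.1
  -- the stabilizer
  obtain ⟨T₀, hT₀def⟩ : ∃ T₀ : Subgroup G,
      T₀ = stabSub (Subgroup.centralizer (Q : Set G)) f ⊓ Subgroup.normalizer (Q : Set G) :=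
    ⟨_, rfl⟩
  have hT₀ : ∀ y : G, y ∈ T₀ ↔ y ∈ Subgroup.normalizer (Q : Set G) ∧
      Cfsg.StabilizesBlock (Subgroup.centralizer (Q : Set G)) f y := by
    intro y
    rw [hT₀def, Subgroup.mem_inf, mem_stabSub_iff]
    exact And.comm
  have : Fintype T₀ := Fintype.ofFinite _
  have hKT₀ := centralizer_le_of_stab Q f T₀ hT₀
  have hQT₀ := le_of_stab Q f T₀ hT₀
  have hT₀N : T₀ ≤ Subgroup.normalizer (Q : Set G) := fun y hy => ((hT₀ y).mp hy).1
  obtain ⟨F₀, hF₀, hcoef₀⟩ := exists_block_of_stabilizer hM Q hQp f hf T₀ hT₀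
  obtain ⟨D₀, hD₀⟩ := exists_isDefectGroup hM F₀ hF₀
  have hD₀dg := hD₀
  have hD₀p : IsPGroup p D₀ := IsDefectGroup.isPGroup' hD₀
  -- `Q ≤ D₀`
  have hQD₀ : Q.subgroupOf T₀ ≤ D₀ := by
    haveI hQn : (Q.subgroupOf T₀).Normal := Subgroup.normal_subgroupOf_of_le_normalizer hT₀N
    have hQp' : IsPGroup p (Q.subgroupOf T₀) := by
      rw [← Subgroup.comap_subtype]
      exact hQp.comap_subtype
    have h1 : Q.subgroupOf T₀ ≤ Cfsg.pCore p T₀ := le_sSup ⟨hQn, hQp'⟩
    exact h1.trans (Cfsg.Agent.S0912.result p M hM F₀ hF₀ D₀ hD₀)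
  obtain ⟨g, hg, S, hDS⟩ := hD₀
  have hD₀g : D₀ ≤ Subgroup.centralizer ({g} : Set T₀) := by
    rw [hDS]; exact sylow_map_le S
  obtain ⟨DG, hDG⟩ : ∃ DG : Subgroup G, DG = D₀.map T₀.subtype := ⟨_, rfl⟩
  have hDGp : IsPGroup p DG := by rw [hDG]; exact hD₀p.map _
  have hDGT : DG ≤ T₀ := by rw [hDG]; exact Subgroup.map_subtype_le D₀
  have hQDG : Q ≤ DG := by
    intro q hq
    rw [hDG]
    refine ⟨⟨q, hQT₀ hq⟩, hQD₀ ?_, rfl⟩
    rw [Subgroup.mem_subgroupOf]
    exact hq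
  have hDGN : DG ≤ Subgroup.normalizer (Q : Set G) := hDGT.trans hT₀N
  have : Fintype (Subgroup.centralizer (DG : Set G)) := Fintype.ofFinite _
  have hst : ∀ y ∈ DG, Cfsg.StabilizesBlock (Subgroup.centralizer (Q : Set G)) f y :=
    fun y hy => ((hT₀ y).mp (hDGT hy)).2
  -- the defect class lies in `C_G(Q)`
  have hgne : ¬ Cfsg.MemLocalIdeal M (Cfsg.blockCoeff F₀ g) := hg.2.1
  have hgQ : (g : G) ∈ Subgroup.centralizer (Q : Set G) := by
    by_contra hcon
    apply hgne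
    rw [hcoef₀, subgroupBlockCoeff_of_not_mem _ _ hcon]
    exact memLocalIdeal_zero hM
  have hgne' : ¬ Cfsg.MemLocalIdeal M (Cfsg.blockCoeff f ⟨(g : G), hgQ⟩) := by
    rw [hcoef₀, subgroupBlockCoeff_of_mem _ _ hgQ] at hgne
    exact hgne
  have hgDG : (g : G) ∈ Subgroup.centralizer (DG : Set G) := by
    rw [Subgroup.mem_centralizer_iff]
    intro r hr
    rw [hDG] at hr
    obtain ⟨d, hd, rfl⟩ := hr
    have := Subgroup.mem_centralizer_singleton_iff.mp (hD₀g hd)
    have h2 := congrArg Subtype.val this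
    simpa using h2
  obtain ⟨e', hn⟩ := exists_isNormalSubpair_of_blockCoeff hM Q DG hDGp hQDG hDGN f hQf hst (g : G)
    hgDG hgQ hgne'
  have hBR : Cfsg.IsBrauerPairOf p M B DG e' :=
    (isBrauerPairOf_iff_of_isNormalSubpair DG Q hM e' f hn B hB).mpr hBQ
  obtain ⟨x, hx⟩ := exists_conj_subpairLE hM B P DG e e' hmax hBR
  have hnx : Cfsg.NormalSubpairRel p M
      ⟨Q.map (MulAut.conj x).toMonoidHom, Cfsg.conjBlock Q x f⟩
      ⟨DG.map (MulAut.conj x).toMonoidHom, Cfsg.conjBlock DG x e'⟩ :=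
    isNormalSubpair_conj DG Q x e' f hn
  have hchx : Cfsg.SubpairLE p M (Q.map (MulAut.conj x).toMonoidHom) (Cfsg.conjBlock Q x f) P e :=
    Relation.ReflTransGen.head hnx hx
  have hDxP : DG.map (MulAut.conj x).toMonoidHom ≤ P := le_of_chain _ _ hx
  have hQxP : Q.map (MulAut.conj x).toMonoidHom ≤ P := (Subgroup.map_mono hQDG).trans hDxP
  refine ⟨x, hchx, ?_⟩
  intro T' hT'
  have : Fintype T' := Fintype.ofFinite _
  have hfx : Cfsg.IsPBlock M (Cfsg.conjBlock Q x f) := isPBlock_conjBlock Q x hf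
  have hQxp : IsPGroup p (Q.map (MulAut.conj x).toMonoidHom) := hQp.map _
  obtain ⟨F', hF', hcoef'⟩ := exists_block_of_stabilizer hM _ hQxp _ hfx T' hT'
  refine ⟨F', hF', hcoef', ?_⟩
  obtain ⟨_, D', hD', hle'⟩ := exists_isDefectGroup_ge_normalizerIn hM P _ e _ hPe hQxP hfx hchx
    T' hT' F' hF' hcoef'
  -- the conjugation isomorphism
  have hTT' : ∀ y : G, y ∈ T' ↔ x⁻¹ * y * x ∈ T₀ := by
    intro y
    rw [hT', hT₀, mem_normalizer_map_conj_iff, stabilizesBlock_conj_iff]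
  have hFF' : mapIrr (conjSubEquiv T₀ T' x hTT') '' F₀ = F' := by
    apply Cfsg.Agent.S4672.eq_of_blockCoeff_eq
    intro t
    rw [blockCoeff_mapIrr_image, hcoef₀, hcoef', conjSubEquiv_symm_apply_coe,
      subgroupBlockCoeff_conjBlock]
  have hDφ : Cfsg.IsDefectGroup p M F' (D₀.map (conjSubEquiv T₀ T' x hTT').toMonoidHom) := by
    rw [← hFF']
    exact IsDefectGroup.mapIrr _ hD₀dg
  have hDφle : D₀.map (conjSubEquiv T₀ T' x hTT').toMonoidHom
      ≤ (P ⊓ Subgroup.normalizer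
          ((Q.map (MulAut.conj x).toMonoidHom : Subgroup G) : Set G)).subgroupOf T' := by
    rintro _ ⟨d, hd, rfl⟩
    rw [Subgroup.mem_subgroupOf]
    refine ⟨?_, ((hT' _).mp (conjSubEquiv T₀ T' x hTT' d).2).1⟩
    apply hDxP
    change ((conjSubEquiv T₀ T' x hTT' d : T') : G) ∈ _
    rw [conjSubEquiv_apply_coe]
    apply conj_mem_map_conj
    rw [hDG]
    exact ⟨d, hd, rfl⟩
  have hcard := card_eq_of_isDefectGroup hM _ hF' _ _ hDφ hD'
  have heq : D₀.map (conjSubEquiv T₀ T' x hTT').toMonoidHom = D' :=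
    Subgroup.eq_of_le_of_card_ge (hDφle.trans hle') (le_of_eq hcard.symm)
  have heq2 : (P ⊓ Subgroup.normalizer
      ((Q.map (MulAut.conj x).toMonoidHom : Subgroup G) : Set G)).subgroupOf T' = D' :=
    le_antisymm hle' (heq ▸ hDφle)
  rw [heq2]
  exact hD'

end stabblock

end Cfsg.Agent.Lib.Helper6
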