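import Mathlib
import Cfsg.Prelude.Def_Blocks
import Cfsg.Agent.Lib.Helper6.BlkSecond2
import Cfsg.Agent.Lib.Helper6.BlkOrth2
import Cfsg.Agent.Lib.Helper6.BlkNormalDef

set_option autoImplicit false
set_option linter.unusedSectionVars false
open Cfsg

namespace Cfsg.Agent.Lib.Helper6

section ppart

variable {G : Type*} [Group G]

/-- the `p`-part of an element, as a function -/
noncomputable def ppEl (p : ℕ) (g : G) : G := by
  classical exact if h : ∃ x, Cfsg.IsPPart p g x then h.choose else 1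

/-- the `p'`-part of an element, as a function -/
noncomputable def prEl (p : ℕ) (g : G) : G := (ppEl p g)⁻¹ * g

theorem ppEl_mul_prEl (p : ℕ) (g : G) : ppEl p g * prEl p g = g := by
  unfold prEl; group

variable [Finite G] {p : ℕ} [hp : Fact p.Prime]

theorem exists_isPPart_el (g : G) : ∃ x, Cfsg.IsPPart p g x := by
  obtain ⟨v, hv, u, hu, hg, hvp, k, huk⟩ := exists_pParts p hp.out g
  obtain ⟨i, hi⟩ := Subgroup.mem_zpowers_iff.mp hv
  obtain ⟨j, hj⟩ := Subgroup.mem_zpowers_iff.mp hu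
  have hc : Commute u v := by
    rw [← hi, ← hj]
    exact (Commute.refl g).zpow_zpow j i
  exact ⟨u, v, by rw [hc.eq, ← hg], hc, ⟨k, huk⟩, hvp⟩

theorem isPPart_ppEl (g : G) : Cfsg.IsPPart p g (ppEl p g) := by
  unfold ppEl
  rw [dif_pos (exists_isPPart_el g)]
  exact (exists_isPPart_el g).choose_spec

theorem ppEl_eq_of_isPPart {g x : G} (h : Cfsg.IsPPart p g x) : ppEl p g = x :=
  IsPPart.unique hp.out (isPPart_ppEl g) h

theorem orderOf_ppEl (g : G) : ∃ k : ℕ, orderOf (ppEl p g) = p ^ k := by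
  obtain ⟨y, _, _, hk, _⟩ := isPPart_ppEl (p := p) g
  exact hk

theorem prEl_pRegular (g : G) : ¬ p ∣ orderOf (prEl p g) := by
  obtain ⟨y, hy, _, _, hyp⟩ := isPPart_ppEl (p := p) g
  have : prEl p g = y := by
    unfold prEl
    exact (eq_inv_mul_iff_mul_eq.mpr hy).symm
  rw [this]; exact hyp

theorem commute_ppEl_prEl (g : G) : Commute (ppEl p g) (prEl p g) := by
  obtain ⟨y, hy, hc, _, _⟩ := isPPart_ppEl (p := p) g
  have : prEl p g = y := by
    unfold prEl
    exact (eq_inv_mul_iff_mul_eq.mpr hy).symm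
  rw [this]; exact hc

theorem ppEl_mem_zpowers (g : G) : ppEl p g ∈ Subgroup.zpowers g :=
  IsPPart.mem_zpowers hp.out (isPPart_ppEl g)

theorem prEl_mem_zpowers (g : G) : prEl p g ∈ Subgroup.zpowers g := by
  unfold prEl
  exact Subgroup.mul_mem _ (Subgroup.inv_mem _ (ppEl_mem_zpowers g)) (Subgroup.mem_zpowers g)

theorem ppEl_mul_of_commute {u k : G} (hu : ∃ n : ℕ, orderOf u = p ^ n) (hk : ¬ p ∣ orderOf k)
    (hc : Commute u k) : ppEl p (u * k) = u :=
  ppEl_eq_of_isPPart ⟨k, rfl, hc, hu, hk⟩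

theorem prEl_mul_of_commute {u k : G} (hu : ∃ n : ℕ, orderOf u = p ^ n) (hk : ¬ p ∣ orderOf k)
    (hc : Commute u k) : prEl p (u * k) = k := by
  unfold prEl
  rw [ppEl_mul_of_commute hu hk hc]; group

theorem ppEl_of_pRegular {k : G} (hk : ¬ p ∣ orderOf k) : ppEl p k = 1 := by
  have := ppEl_mul_of_commute (p := p) (u := 1) (k := k) ⟨0, by simp⟩ hk (Commute.one_left k)
  rwa [one_mul] at this

theorem prEl_of_pRegular {k : G} (hk : ¬ p ∣ orderOf k) : prEl p k = k := by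
  unfold prEl
  rw [ppEl_of_pRegular hk]; group

theorem ppEl_of_pElement {u : G} (hu : ∃ n : ℕ, orderOf u = p ^ n) : ppEl p u = u := by
  have := ppEl_mul_of_commute (p := p) (u := u) (k := 1) hu
    (by rw [orderOf_one]; exact hp.out.not_dvd_one) (Commute.one_right u)
  rwa [mul_one] at this

theorem ppEl_one : ppEl p (1 : G) = 1 :=
  ppEl_of_pRegular (by rw [orderOf_one]; exact hp.out.not_dvd_one)

theorem prEl_one : prEl p (1 : G) = 1 :=
  prEl_of_pRegular (by rw [orderOf_one]; exact hp.out.not_dvd_one)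

theorem ppEl_conj (x g : G) : ppEl p (x * g * x⁻¹) = x * ppEl p g * x⁻¹ := by
  apply ppEl_eq_of_isPPart
  obtain ⟨y, hy, hc, ⟨k, hk⟩, hyp⟩ := isPPart_ppEl (p := p) g
  refine ⟨x * y * x⁻¹, ?_, ?_, ⟨k, ?_⟩, ?_⟩
  · have : x * ppEl p g * x⁻¹ * (x * y * x⁻¹) = x * (ppEl p g * y) * x⁻¹ := by group
    rw [this, hy]
  · have h1 : x * ppEl p g * x⁻¹ * (x * y * x⁻¹) = x * (ppEl p g * y) * x⁻¹ := by group
    have h2 : x * y * x⁻¹ * (x * ppEl p g * x⁻¹) = x * (y * ppEl p g) * x⁻¹ := by group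
    unfold Commute SemiconjBy
    rw [h1, h2, hc.eq]
  · have := (MulAut.conj x).orderOf_eq (ppEl p g)
    rw [MulAut.conj_apply] at this
    rw [this, hk]
  · have := (MulAut.conj x).orderOf_eq y
    rw [MulAut.conj_apply] at this
    rw [this]; exact hyp

theorem prEl_conj (x g : G) : prEl p (x * g * x⁻¹) = x * prEl p g * x⁻¹ := by
  unfold prEl
  rw [ppEl_conj]; group

theorem ppEl_coe (E : Subgroup G) (e : E) : ppEl p (e : G) = ((ppEl p e : E) : G) := by
  apply ppEl_eq_of_isPPart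
  obtain ⟨y, hy, hc, ⟨k, hk⟩, hyp⟩ := isPPart_ppEl (p := p) e
  refine ⟨(y : G), ?_, ?_, ⟨k, ?_⟩, ?_⟩
  · rw [← Subgroup.coe_mul, hy]
  · have := congrArg (fun t : E => (t : G)) hc.eq
    exact this
  · rw [Subgroup.orderOf_coe, hk]
  · rw [Subgroup.orderOf_coe]; exact hyp

theorem prEl_coe (E : Subgroup G) (e : E) : prEl p (e : G) = ((prEl p e : E) : G) := by
  unfold prEl
  rw [ppEl_coe, Subgroup.coe_mul, Subgroup.coe_inv]

end ppart

end Cfsg.Agent.Lib.Helper6
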