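import Mathlib
import Cfsg.Agent.Lib.Helper6.PPartEl
import Cfsg.Agent.Lib.Helper6.PComplement

set_option autoImplicit false
set_option linter.unusedSectionVars false
open Cfsg

namespace Cfsg.Agent.Lib.Helper6

section nilprod

variable {E : Type*} [Group E] [Finite E] {p : ℕ} [hp : Fact p.Prime]

/-- projections of a finite nilpotent group onto its Sylow `p`-subgroup and `p`-complement -/
theorem exists_proj_of_nilpotent [Group.IsNilpotent E] (S : Sylow p E) (K : Subgroup E)
    (hKn : K.Normal) (hKcop : Nat.Coprime (Nat.card K) p)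
    (hKidx : K.index = p ^ (Nat.card E).factorization p) :
    ∃ (πS : E →* ↥(S : Subgroup E)) (πK : E →* K),
      (∀ e : E, ((πS e : E)) * (πK e : E) = e) ∧
      (∀ e : E, ppEl p e = (πS e : E)) ∧ (∀ e : E, prEl p e = (πK e : E)) := by
  classical
  have hScard : Nat.card (S : Subgroup E) = p ^ (Nat.card E).factorization p :=
    Sylow.card_eq_multiplicity S
  have hSn : (S : Subgroup E).Normal := inferInstance
  have hdisj : Disjoint (S : Subgroup E) K := by
    apply Subgroup.disjoint_of_coprime_natCard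
    rw [hScard]
    exact (Nat.Coprime.pow_right _ hKcop).symm
  have hcomm : ∀ (u : ↥(S : Subgroup E)) (k : ↥K), Commute ((S : Subgroup E).subtype u) (K.subtype k) := by
    intro u k
    exact Subgroup.commute_of_normal_of_disjoint (S : Subgroup E) K hSn hKn hdisj u k u.2 k.2
  let f : ↥(S : Subgroup E) × ↥K →* E :=
    MonoidHom.noncommCoprod (S : Subgroup E).subtype K.subtype hcomm
  have hf : ∀ uk : ↥(S : Subgroup E) × ↥K, f uk = (uk.1 : E) * (uk.2 : E) := fun uk => rfl
  have hinj : Function.Injective f := by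
    rw [injective_iff_map_eq_one]
    rintro ⟨u, k⟩ h
    rw [hf] at h
    simp only at h
    have h1 : (u : E) = (k : E)⁻¹ := eq_inv_of_mul_eq_one_left h
    have h2 : (u : E) ∈ (S : Subgroup E) ⊓ K := ⟨u.2, by rw [h1]; exact K.inv_mem k.2⟩
    rw [hdisj.eq_bot, Subgroup.mem_bot] at h2
    have h3 : (k : E) = 1 := by rw [h2, one_mul] at h; exact h
    ext
    · exact h2
    · exact h3
  have hcard : Nat.card (↥(S : Subgroup E) × ↥K) = Nat.card E := by
    rw [Nat.card_prod, hScard, ← hKidx, mul_comm, Subgroup.card_mul_index]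
  have hbij : Function.Bijective f := by
    haveI : Fintype E := Fintype.ofFinite E
    haveI : Fintype (↥(S : Subgroup E) × ↥K) := Fintype.ofFinite _
    rw [Fintype.bijective_iff_injective_and_card]
    refine ⟨hinj, ?_⟩
    rw [← Nat.card_eq_fintype_card, ← Nat.card_eq_fintype_card, hcard]
  let eqv : ↥(S : Subgroup E) × ↥K ≃* E := MulEquiv.ofBijective f hbij
  let πS : E →* ↥(S : Subgroup E) := (MonoidHom.fst _ _).comp eqv.symm.toMonoidHom
  let πK : E →* K := (MonoidHom.snd _ _).comp eqv.symm.toMonoidHom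
  have hdec : ∀ e : E, ((πS e : E)) * (πK e : E) = e := by
    intro e
    have : f (eqv.symm e) = e := eqv.apply_symm_apply e
    rw [hf] at this
    exact this
  have hSel : ∀ u : ↥(S : Subgroup E), ∃ n : ℕ, orderOf (u : E) = p ^ n := by
    intro u
    obtain ⟨n, hn⟩ := (IsPGroup.iff_orderOf.1 S.isPGroup') u
    exact ⟨n, by rw [Subgroup.orderOf_coe, hn]⟩
  have hKel : ∀ k : K, ¬ p ∣ orderOf (k : E) := fun k =>
    (mem_pcomplement_iff hKn hKcop hKidx (k : E)).1 k.2
  refine ⟨πS, πK, hdec, ?_, ?_⟩
  · intro e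
    conv_lhs => rw [← hdec e]
    exact ppEl_mul_of_commute (hSel _) (hKel _) (hcomm _ _)
  · intro e
    conv_lhs => rw [← hdec e]
    exact prEl_mul_of_commute (hSel _) (hKel _) (hcomm _ _)

end nilprod

end Cfsg.Agent.Lib.Helper6
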