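import Mathlib
import Cfsg.Agent.Lib.Helper6.PPartEl
import Cfsg.Agent.Lib.Helper6.PComplement
import Cfsg.Agent.Lib.Helper6.BlkIdem
import Cfsg.Agent.Lib.Helper6.Multiplicity
import Cfsg.Agent.Lib.Helper6.CharOps
import Cfsg.Agent.Lib.Helper6.Mult

set_option autoImplicit false
set_option linter.unusedSectionVars false
open Cfsg

namespace Cfsg.Agent.Lib.Helper6

open scoped ComplexConjugate

section twistkey

variable {G : Type*} [Group G] [Fintype G] {p : ℕ} [hp : Fact p.Prime]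

/-- the key integrality: relative defect zero characters at elements with large centralizers -/
theorem twist_key (P : Subgroup G) {χ : G → ℂ} (hχ : Cfsg.IsIrrCharacter G χ)
    (hdeg : (Cfsg.charDegree χ).factorization p = P.index.factorization p)
    (x : G) (N : ℕ) (hN : N * Nat.card P ∣ Nat.card (Subgroup.centralizer ({x} : Set G))) :
    ∃ y : ℂ, IsIntegral ℤ y ∧
      ((P.index / p ^ P.index.factorization p : ℕ) : ℂ) * χ x = (N : ℂ) * y := by
  have hpr := hp.out
  obtain ⟨c', hc'⟩ := hN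
  obtain ⟨n, hn⟩ : ∃ n, n = P.index.factorization p := ⟨_, rfl⟩
  rw [← hn]
  rw [← hn] at hdeg
  have hidx0 : P.index ≠ 0 := P.index_ne_zero_of_finite
  have hdeg0 : Cfsg.charDegree χ ≠ 0 := (IsIrrCharacter.charDegree_pos hχ).ne'
  have h1 : p ^ n * (P.index / p ^ n) = P.index := by
    rw [hn]; exact Nat.ordProj_mul_ordCompl_eq_self _ _
  have h2 : p ^ n * (Cfsg.charDegree χ / p ^ n) = Cfsg.charDegree χ := by
    rw [← hdeg]; exact Nat.ordProj_mul_ordCompl_eq_self _ _
  obtain ⟨g', hg'⟩ : ∃ g', g' = P.index / p ^ n := ⟨_, rfl⟩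
  obtain ⟨d', hd'⟩ : ∃ d', d' = Cfsg.charDegree χ / p ^ n := ⟨_, rfl⟩
  rw [← hg'] at h1 ⊢
  rw [← hd'] at h2
  have hω := IsIrrCharacter.isIntegral_centralChar' hχ x
  unfold Cfsg.centralChar at hω
  rw [IsCharacter.apply_one_eq_charDegree (IsIrrCharacter.isCharacter hχ)] at hω
  set I := (Subgroup.centralizer ({x} : Set G)).index with hI
  have hIc : I * Nat.card (Subgroup.centralizer ({x} : Set G)) = Nat.card G :=
    (Subgroup.centralizer ({x} : Set G)).index_mul_card
  have hG : Nat.card P * P.index = Nat.card G := P.card_mul_index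
  have hPc : Nat.card P ≠ 0 := Nat.card_pos.ne'
  -- I * N * c' = p^n * g'
  have h3 : I * (N * c') = p ^ n * g' := by
    have : Nat.card P * (I * (N * c')) = Nat.card P * (p ^ n * g') := by
      rw [h1, hG, ← hIc, hc']; ring
    exact Nat.eq_of_mul_eq_mul_left (Nat.pos_of_ne_zero hPc) this
  refine ⟨(I : ℂ) * χ x / (Cfsg.charDegree χ : ℂ) * ((d' * c' : ℕ) : ℂ), ?_, ?_⟩
  · apply IsIntegral.mul hω
    have h := isIntegral_algebraMap (R := ℤ) (A := ℂ) (x := ((d' * c' : ℕ) : ℤ))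
    simpa using h
  · have hpn0 : ((p ^ n : ℕ) : ℂ) ≠ 0 := by exact_mod_cast (pow_pos hpr.pos n).ne'
    have hd0 : (d' : ℂ) ≠ 0 := by
      intro h
      have : d' = 0 := by exact_mod_cast h
      rw [this, mul_zero] at h2
      exact hdeg0 h2.symm
    have h3c : (I : ℂ) * ((N : ℂ) * (c' : ℂ)) = ((p ^ n : ℕ) : ℂ) * (g' : ℂ) := by exact_mod_cast h3
    have h2c : (Cfsg.charDegree χ : ℂ) = ((p ^ n : ℕ) : ℂ) * (d' : ℂ) := by exact_mod_cast h2.symm
    rw [h2c]
    obtain ⟨pn, hpn⟩ : ∃ pn : ℂ, pn = ((p ^ n : ℕ) : ℂ) := ⟨_, rfl⟩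
    rw [← hpn] at hpn0 h3c ⊢
    have e1 : (I : ℂ) * χ x / (pn * (d' : ℂ)) * ((d' * c' : ℕ) : ℂ)
        = ((I : ℂ) * (c' : ℂ)) * χ x / pn := by
      push_cast
      field_simp
    rw [e1]
    have e2 : (N : ℂ) * (((I : ℂ) * (c' : ℂ)) * χ x / pn)
        = ((I : ℂ) * ((N : ℂ) * (c' : ℂ))) * χ x / pn := by ring
    rw [e2, h3c]
    field_simp

end twistkey

section twistdiv

variable {G : Type*} [Group G] [Fintype G] {p : ℕ} [hp : Fact p.Prime]

/-- divisibility of a relative defect zero character on a `p'`-subgroup -/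
theorem exists_character_div (P : Subgroup G) {χ : G → ℂ} (hχ : Cfsg.IsIrrCharacter G χ)
    (hdeg : (Cfsg.charDegree χ).factorization p = P.index.factorization p)
    {K : Type*} [Group K] [Fintype K] (ι : K →* G) (hK : (Nat.card K).Coprime p)
    (j : ℕ) (hN : ∀ k : K, p ^ j * Nat.card P ∣ Nat.card (Subgroup.centralizer ({ι k} : Set G))) :
    ∃ X₀ : K → ℂ, Cfsg.IsCharacter K X₀ ∧ ∀ k : K, χ (ι k) = ((p ^ j : ℕ) : ℂ) * X₀ k := by
  classical
  have hpr := hp.out
  haveI : Fintype (Cfsg.IrrCharacter K) := Fintype.ofFinite _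
  have hχK : Cfsg.IsCharacter K (fun k : K => χ (ι k)) :=
    IsCharacter.comp ι (IsIrrCharacter.isCharacter hχ)
  obtain ⟨m, hm, hmi⟩ := IsCharacter.exists_mult hχK
  obtain ⟨g', hg'⟩ : ∃ g', g' = P.index / p ^ P.index.factorization p := ⟨_, rfl⟩
  have hg'cop : Nat.Coprime p g' := by
    rw [Nat.Prime.coprime_iff_not_dvd hpr, hg']
    exact Nat.not_dvd_ordCompl hpr P.index_ne_zero_of_finite
  have hdvd : ∀ β : Cfsg.IrrCharacter K, p ^ j ∣ m β := by
    intro β
    have h1 := hmi β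
    unfold Cfsg.classInner at h1
    have hy : ∀ k : K, ∃ y : ℂ, IsIntegral ℤ y ∧
        ((P.index / p ^ P.index.factorization p : ℕ) : ℂ) * χ (ι k) = ((p ^ j : ℕ) : ℂ) * y :=
      fun k => twist_key P hχ hdeg (ι k) (p ^ j) (hN k)
    choose y hyint hyeq using hy
    obtain ⟨Y, hY⟩ : ∃ Y : ℂ, Y = ∑ k : K, y k * conj ((β : K → ℂ) k) := ⟨_, rfl⟩
    have hYint : IsIntegral ℤ Y := by
      rw [hY]
      apply IsIntegral.sum
      intro k _
      apply IsIntegral.mul (hyint k)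
      exact isIntegral_conj (IsCharacter.isIntegral_apply (IsIrrCharacter.isCharacter β.2) k)
    have hKc : (Nat.card K : ℂ) ≠ 0 := card_ne_zero_complex K
    have h2 : ((g' * Nat.card K * m β : ℕ) : ℂ) = ((p ^ j : ℕ) : ℂ) * Y := by
      rw [hY, Finset.mul_sum]
      push_cast
      rw [← h1]
      rw [show (g' : ℂ) * (Nat.card K : ℂ) * ((Nat.card K : ℂ)⁻¹ *
          ∑ k : K, χ (ι k) * conj ((β : K → ℂ) k))
          = (g' : ℂ) * ∑ k : K, χ (ι k) * conj ((β : K → ℂ) k) by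
        field_simp]
      rw [Finset.mul_sum]
      apply Finset.sum_congr rfl
      intro k _
      have := hyeq k
      rw [← hg'] at this
      push_cast at this
      rw [← mul_assoc, ← mul_assoc, ← this]
    have h3 : IsIntegral ℤ (((g' * Nat.card K * m β : ℕ) : ℂ) / ((p ^ j : ℕ) : ℂ)) := by
      rw [h2]
      have hpj0 : ((p ^ j : ℕ) : ℂ) ≠ 0 := by exact_mod_cast (pow_pos hpr.pos j).ne'
      rw [mul_div_assoc, mul_comm, div_mul_cancel₀ _ hpj0]
      exact hYint
    have h4 := nat_dvd_of_isIntegral_div (pow_ne_zero j hpr.ne_zero) h3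
    have hcop : Nat.Coprime (p ^ j) (g' * Nat.card K) := by
      apply Nat.Coprime.pow_left
      exact Nat.Coprime.mul_right hg'cop hK.symm
    exact hcop.dvd_of_dvd_mul_left h4
  refine ⟨∑ β : Cfsg.IrrCharacter K, (m β / p ^ j) • (β : K → ℂ), ?_, ?_⟩
  · apply IsCharacter.sum
    intro β _
    exact IsCharacter.nsmul (IsIrrCharacter.isCharacter β.2) _
  · intro k
    have h1 := congrFun hm k
    rw [h1, Finset.sum_apply, Finset.sum_apply, Finset.mul_sum]
    apply Finset.sum_congr rfl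
    intro β _
    obtain ⟨t, ht⟩ := hdvd β
    rw [Pi.smul_apply, Pi.smul_apply, ht, Nat.mul_div_cancel_left _ (pow_pos hpr.pos j),
      nsmul_eq_mul, nsmul_eq_mul]
    push_cast
    ring

end twistdiv

end Cfsg.Agent.Lib.Helper6
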