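import Mathlib
import Cfsg.Agent.Lib.Helper6.TwistKey
import Cfsg.Agent.Lib.Helper6.NilProd

set_option autoImplicit false
set_option linter.unusedSectionVars false
open Cfsg

namespace Cfsg.Agent.Lib.Helper6

open scoped ComplexConjugate

section twistloc

/-- inducing a character supported on a normal subgroup -/
theorem isCharacter_index_mul_of_supported {S : Type*} [Group S] [Fintype S] (N : Subgroup S)
    [hN : N.Normal] {f : S → ℂ} (hf : Cfsg.IsClassFunction S f) (hf0 : ∀ u : S, u ∉ N → f u = 0)
    (hfN : Cfsg.IsCharacter N (fun n : N => f n)) :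
    Cfsg.IsCharacter S (fun u => (N.index : ℂ) * f u) := by
  classical
  have h1 := IsCharacter.indFun N hfN
  have h2 : Cfsg.indFun N (fun n : N => f n) = fun u => (N.index : ℂ) * f u := by
    funext u
    rw [indFun_restrict_normal_eq N hf u]
    split_ifs with h
    · rfl
    · rw [hf0 u h, mul_zero]
  rwa [h2] at h1

variable {G : Type*} [Group G] [Fintype G] [DecidableEq G] {p : ℕ} [hp : Fact p.Prime]

/-- the twisted function `g ↦ a (g_p) χ (g_{p'})` -/
noncomputable def ppTwist (p : ℕ) (a χ : G → ℂ) : G → ℂ := fun g => a (ppEl p g) * χ (prEl p g)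

theorem ppTwist_isClassFunction {a χ : G → ℂ} (ha : Cfsg.IsClassFunction G a)
    (hχ : Cfsg.IsClassFunction G χ) : Cfsg.IsClassFunction G (ppTwist p a χ) := by
  intro g h
  unfold ppTwist
  rw [ppEl_conj, prEl_conj, ha, hχ]

/-- the local statement: the twisted function restricted to a nilpotent subgroup is a character -/
theorem ppTwist_restrict_isCharacter (P : Subgroup G) [hPn : P.Normal]
    (hcent : ∀ k : G, ¬ p ∣ orderOf k → k ∈ Subgroup.centralizer (P : Set G))
    {χ : G → ℂ} (hχ : Cfsg.IsIrrCharacter G χ)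
    (hdeg : (Cfsg.charDegree χ).factorization p = P.index.factorization p)
    {a : G → ℂ} (ha : Cfsg.IsClassFunction G a) (ha0 : ∀ g : G, g ∉ P → a g = 0)
    (haP : Cfsg.IsCharacter P (fun u : P => a u))
    (E : Subgroup G) [Group.IsNilpotent E] :
    Cfsg.IsCharacter E (fun e : E => ppTwist p a χ e) := by
  classical
  have hpr := hp.out
  haveI : Fintype E := Fintype.ofFinite E
  obtain ⟨K, hKn, hKcop, hKidx⟩ := exists_normal_pcomplement_of_nilpotent (E := E) p
  obtain ⟨S⟩ := (inferInstance : Nonempty (Sylow p E))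
  obtain ⟨πS, πK, hdec, hpp, hpr'⟩ := exists_proj_of_nilpotent S K hKn hKcop hKidx
  haveI : Fintype K := Fintype.ofFinite K
  haveI : Fintype ↥(S : Subgroup E) := Fintype.ofFinite _
  -- the maps into G
  let ιS : ↥(S : Subgroup E) →* G := E.subtype.comp (S : Subgroup E).subtype
  let ιK : ↥K →* G := E.subtype.comp K.subtype
  -- P₀
  obtain ⟨P₀, hP₀⟩ : ∃ P₀ : Subgroup ↥(S : Subgroup E), P₀ = P.comap ιS := ⟨_, rfl⟩
  haveI hP₀n : P₀.Normal := by rw [hP₀]; exact hPn.comap ιS
  -- index of P₀ is a power of p
  have hidxdvd : P₀.index ∣ Nat.card ↥(S : Subgroup E) := P₀.index_dvd_card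
  obtain ⟨j, hj⟩ : ∃ j : ℕ, P₀.index = p ^ j := by
    have hc := Sylow.card_eq_multiplicity S
    rw [hc] at hidxdvd
    obtain ⟨j, _, hj⟩ := (Nat.dvd_prime_pow hpr).1 hidxdvd
    exact ⟨j, hj⟩
  -- the character on S
  have hA : Cfsg.IsCharacter ↥(S : Subgroup E) (fun u => (P₀.index : ℂ) * a (ιS u)) := by
    apply isCharacter_index_mul_of_supported P₀ (f := fun u => a (ιS u))
    · intro g h
      change a (ιS (h * g * h⁻¹)) = a (ιS g)
      rw [map_mul, map_mul, map_inv, ha]
    · intro u hu
      apply ha0
      intro h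
      apply hu
      rw [hP₀]
      exact h
    · let f : ↥P₀ →* ↥P :=
        { toFun := fun n => ⟨ιS (n : ↥(S : Subgroup E)), by
            have h2 : (n : ↥(S : Subgroup E)) ∈ P.comap ιS := hP₀ ▸ n.2
            exact h2⟩
          map_one' := by ext; simp
          map_mul' := by intro x y; ext; simp }
      exact IsCharacter.comp f haP
  -- the character on K
  have hcentK : ∀ k : ↥K, p ^ j * Nat.card P ∣
      Nat.card (Subgroup.centralizer ({ιK k} : Set G)) := by
    intro k
    obtain ⟨T, hT⟩ : ∃ T : Subgroup G, T = (ιS.range) ⊔ P := ⟨_, rfl⟩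
    have hcard : Nat.card T = p ^ j * Nat.card P := by
      have hPT : P ≤ T := by rw [hT]; exact le_sup_right
      have h1 : P.relIndex T = P.relIndex ιS.range := by
        rw [hT]; exact Subgroup.relIndex_sup_right _ _
      have h2 : P.relIndex ιS.range = P₀.index := by
        rw [hP₀, Subgroup.index_comap]
      have h3 : P.relIndex T * Nat.card P = Nat.card T := by
        have := Subgroup.relIndex_mul_relIndex ⊥ P T bot_le hPT
        rw [Subgroup.relIndex_bot_left, Subgroup.relIndex_bot_left] at this
        rw [mul_comm]; exact this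
      rw [← h3, h1, h2, hj]
    rw [← hcard]
    apply Subgroup.card_dvd_of_le
    rw [hT]
    apply sup_le
    · rintro _ ⟨u, rfl⟩
      rw [Subgroup.mem_centralizer_singleton_iff]
      have hc : (u : E) * (k : E) = (k : E) * (u : E) := by
        have hdisj : Disjoint (S : Subgroup E) K := by
          apply Subgroup.disjoint_of_coprime_natCard
          rw [Sylow.card_eq_multiplicity S]
          exact (Nat.Coprime.pow_right _ hKcop).symm
        exact (Subgroup.commute_of_normal_of_disjoint (S : Subgroup E) K inferInstance hKn hdisj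
          u k u.2 k.2).eq
      have := congrArg (fun t : E => (t : G)) hc
      exact this
    · have hk : ¬ p ∣ orderOf (ιK k) := by
        change ¬ p ∣ orderOf (((k : E)) : G)
        rw [Subgroup.orderOf_coe]
        exact (mem_pcomplement_iff hKn hKcop hKidx (k : E)).1 k.2
      have h1 := hcent _ hk
      intro w hw
      rw [Subgroup.mem_centralizer_singleton_iff]
      exact Subgroup.mem_centralizer_iff.1 h1 w hw
  have hKcard : (Nat.card ↥K).Coprime p := hKcop
  obtain ⟨X₀, hX₀, hX₀eq⟩ := exists_character_div P hχ hdeg ιK hKcard j hcentK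
  -- combine
  have hprod := IsCharacter.mul (IsCharacter.comp πS hA) (IsCharacter.comp πK hX₀)
  have heq : (fun e : E => ppTwist p a χ e)
      = (fun e : E => (P₀.index : ℂ) * a (ιS (πS e))) * (fun e : E => X₀ (πK e)) := by
    funext e
    rw [Pi.mul_apply]
    unfold ppTwist
    rw [ppEl_coe, prEl_coe, hpp e, hpr' e]
    have h1 : χ (((πK e : E)) : G) = ((p ^ j : ℕ) : ℂ) * X₀ (πK e) := hX₀eq (πK e)
    rw [h1, hj]
    change a (ιS (πS e)) * _ = _
    push_cast
    ring
  rw [heq]
  exact hprod

end twistloc

end Cfsg.Agent.Lib.Helper6
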