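import Mathlib
import Cfsg.Agent.Lib.Helper6.TwistLocal
import Cfsg.Agent.Lib.Helper6.BrauerGlobal
import Cfsg.Agent.Lib.Helper6.ElemProps
import Cfsg.Agent.Lib.Helper6.GenCharOps
import Cfsg.Agent.Lib.Helper6.GenChar
import Cfsg.Agent.Lib.Helper6.Orthogonality
import Cfsg.Agent.Lib.Helper6.Constituent

set_option autoImplicit false
set_option linter.unusedSectionVars false
open Cfsg

namespace Cfsg.Agent.Lib.Helper6

open scoped ComplexConjugate

section cut

variable {G : Type*} [Group G] [Fintype G]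

/-- if cutting an irreducible character down to a subset containing `1` gives a generalized
character, then the character vanishes off that subset -/
theorem eq_zero_of_cut_isGeneralizedCharacter {χ : G → ℂ} (hχirr : Cfsg.IsIrrCharacter G χ)
    (X : G → Prop) [DecidablePred X] (hX1 : X 1)
    (hθ : Cfsg.IsGeneralizedCharacter G (fun g => if X g then χ g else 0)) :
    ∀ g : G, ¬ X g → χ g = 0 := by
  classical
  have : Fintype (Cfsg.IrrCharacter G) := Fintype.ofFinite _
  obtain ⟨θ, hθdef⟩ : ∃ θ : G → ℂ, θ = fun g => if X g then χ g else 0 := ⟨_, rfl⟩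
  rw [← hθdef] at hθ
  obtain ⟨c, _, hci⟩ := IsGeneralizedCharacter.exists_int_coeff hθ
  have hc := hci ⟨χ, hχirr⟩
  have hGc : (Nat.card G : ℂ) ≠ 0 := card_ne_zero_complex G
  have hGr : (0 : ℝ) < (Nat.card G : ℝ) := by exact_mod_cast Nat.card_pos
  obtain ⟨A, hA⟩ : ∃ A : ℝ, A = ∑ g : G, if X g then Complex.normSq (χ g) else 0 := ⟨_, rfl⟩
  obtain ⟨B, hB⟩ : ∃ B : ℝ, B = ∑ g : G, if X g then 0 else Complex.normSq (χ g) := ⟨_, rfl⟩
  have hAB : A + B = (Nat.card G : ℝ) := by
    have h1 := classInner_isIrrCharacter hχirr hχirr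
    rw [if_pos rfl] at h1
    unfold Cfsg.classInner at h1
    have h2 : ∑ g : G, χ g * conj (χ g) = ((A + B : ℝ) : ℂ) := by
      rw [hA, hB, ← Finset.sum_add_distrib]
      push_cast
      apply Finset.sum_congr rfl
      intro g _
      rw [Complex.mul_conj]
      split_ifs <;> simp
    rw [h2] at h1
    have h3 : ((A + B : ℝ) : ℂ) = (Nat.card G : ℂ) := by
      field_simp at h1
      exact h1
    exact_mod_cast h3
  have hAc : (A : ℂ) = (Nat.card G : ℂ) * (c ⟨χ, hχirr⟩ : ℂ) := by
    unfold Cfsg.classInner at hc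
    have h2 : ∑ g : G, θ g * conj (χ g) = (A : ℂ) := by
      rw [hA]
      push_cast
      apply Finset.sum_congr rfl
      intro g _
      rw [hθdef]
      simp only
      split_ifs
      · rw [Complex.mul_conj]
      · simp
    rw [h2] at hc
    rw [← hc]
    field_simp
  have hAr : A = (Nat.card G : ℝ) * (c ⟨χ, hχirr⟩ : ℝ) := by exact_mod_cast hAc
  have hB0 : 0 ≤ B := by
    rw [hB]
    apply Finset.sum_nonneg
    intro g _
    split_ifs
    · exact le_refl _
    · exact Complex.normSq_nonneg _
  have hApos : 0 < A := by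
    rw [hA]
    apply Finset.sum_pos'
    · intro g _
      split_ifs
      · exact Complex.normSq_nonneg _
      · exact le_refl _
    · refine ⟨1, Finset.mem_univ _, ?_⟩
      rw [if_pos hX1, Complex.normSq_pos]
      exact IsIrrCharacter.apply_one_ne_zero hχirr
  have hcpos : 0 < c ⟨χ, hχirr⟩ := by
    have : (0 : ℝ) < (c ⟨χ, hχirr⟩ : ℝ) := by
      by_contra hle
      push Not at hle
      have : A ≤ 0 := by
        rw [hAr]
        exact mul_nonpos_of_nonneg_of_nonpos hGr.le hle
      linarith
    exact_mod_cast this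
  have hc1 : (1 : ℝ) ≤ (c ⟨χ, hχirr⟩ : ℝ) := by exact_mod_cast hcpos
  have hBz : B = 0 := by
    have h1 : (Nat.card G : ℝ) ≤ A := by
      rw [hAr]
      nlinarith
    linarith
  have hterm : ∀ g ∈ (Finset.univ : Finset G),
      (if X g then 0 else Complex.normSq (χ g)) = 0 := by
    rw [hB] at hBz
    apply (Finset.sum_eq_zero_iff_of_nonneg _).mp hBz
    intro g _
    split_ifs
    · exact le_refl _
    · exact Complex.normSq_nonneg _
  intro g hg
  have := hterm g (Finset.mem_univ g)
  rw [if_neg hg] at this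
  exact Complex.normSq_eq_zero.mp this

end cut

section twistglobal

variable {G : Type*} [Group G] [Fintype G] [DecidableEq G] {p : ℕ} [hp : Fact p.Prime]

/-- the twisted function is a generalized character -/
theorem ppTwist_isGeneralizedCharacter (P : Subgroup G) [hPn : P.Normal]
    (hcent : ∀ k : G, ¬ p ∣ orderOf k → k ∈ Subgroup.centralizer (P : Set G))
    {χ : G → ℂ} (hχ : Cfsg.IsIrrCharacter G χ)
    (hdeg : (Cfsg.charDegree χ).factorization p = P.index.factorization p)
    {a : G → ℂ} (ha : Cfsg.IsClassFunction G a) (ha0 : ∀ g : G, g ∉ P → a g = 0)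
    (haP : Cfsg.IsCharacter P (fun u : P => a u)) :
    Cfsg.IsGeneralizedCharacter G (ppTwist p a χ) := by
  apply isGeneralizedCharacter_of_restrict
    (ppTwist_isClassFunction ha (IsIrrCharacter.isClassFunction hχ))
  rintro E ⟨q, hq, hEq⟩
  haveI hnil : Group.IsNilpotent E := IsElementary.isNilpotent hq hEq
  exact IsCharacter.isGeneralizedCharacter
    (ppTwist_restrict_isCharacter P hcent hχ hdeg ha ha0 haP E)

/-- summing over the elements with `p`-part in `P` -/
theorem sum_ppEl_mem (P : Subgroup G) [Fintype P] [DecidablePred (· ∈ P)] (hP : IsPGroup p P)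
    (hcent : ∀ k : G, ¬ p ∣ orderOf k → k ∈ Subgroup.centralizer (P : Set G))
    (F : G → G → ℂ) :
    ∑ g : G, (if ppEl p g ∈ P then F (ppEl p g) (prEl p g) else 0)
      = ∑ u : P, ∑ k ∈ Finset.univ.filter (fun k : G => ¬ p ∣ orderOf k), F u k := by
  rw [← Finset.sum_filter, ← Finset.sum_product']
  refine Finset.sum_nbij'
    (fun g => if h : ppEl p g ∈ P then ((⟨ppEl p g, h⟩ : P), prEl p g) else (1, 1))
    (fun x => (x.1 : G) * x.2) ?_ ?_ ?_ ?_ ?_
  · intro g hg
    simp only [Finset.mem_filter, Finset.mem_univ, true_and] at hg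
    rw [dif_pos hg]
    simp only [Finset.mem_product, Finset.mem_univ, Finset.mem_filter, true_and]
    exact prEl_pRegular g
  · rintro ⟨u, k⟩ hx
    simp only [Finset.mem_product, Finset.mem_univ, Finset.mem_filter, true_and] at hx
    simp only [Finset.mem_filter, Finset.mem_univ, true_and]
    have hu : ∃ n : ℕ, orderOf (u : G) = p ^ n := by
      obtain ⟨n, hn⟩ := (IsPGroup.iff_orderOf.1 hP) u
      exact ⟨n, by rw [Subgroup.orderOf_coe, hn]⟩
    have hc : Commute (u : G) k :=
      (Subgroup.mem_centralizer_iff.1 (hcent k hx) u u.2)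
    rw [ppEl_mul_of_commute hu hx hc]
    exact u.2
  · intro g hg
    simp only [Finset.mem_filter, Finset.mem_univ, true_and] at hg
    rw [dif_pos hg]
    exact ppEl_mul_prEl p g
  · rintro ⟨u, k⟩ hx
    simp only [Finset.mem_product, Finset.mem_univ, Finset.mem_filter, true_and] at hx
    have hu : ∃ n : ℕ, orderOf (u : G) = p ^ n := by
      obtain ⟨n, hn⟩ := (IsPGroup.iff_orderOf.1 hP) u
      exact ⟨n, by rw [Subgroup.orderOf_coe, hn]⟩
    have hc : Commute (u : G) k :=
      (Subgroup.mem_centralizer_iff.1 (hcent k hx) u u.2)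
    have h1 := ppEl_mul_of_commute hu hx hc
    have h2 := prEl_mul_of_commute hu hx hc
    simp only
    rw [dif_pos (by rw [h1]; exact u.2)]
    ext
    · simp only [h1]
    · simp only [h2]
  · intro g hg
    simp only [Finset.mem_filter, Finset.mem_univ, true_and] at hg
    rw [dif_pos hg]

/-- inner products of twisted functions -/
theorem classInner_ppTwist (P : Subgroup G) [Fintype P] [DecidablePred (· ∈ P)] (hP : IsPGroup p P)
    (hcent : ∀ k : G, ¬ p ∣ orderOf k → k ∈ Subgroup.centralizer (P : Set G))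
    (a a' χ χ' : G → ℂ) (ha0 : ∀ g : G, g ∉ P → a g = 0) :
    Cfsg.classInner (ppTwist p a χ) (ppTwist p a' χ')
      = (Nat.card G : ℂ)⁻¹ * ((∑ u : P, a u * conj (a' u)) *
        ∑ k ∈ Finset.univ.filter (fun k : G => ¬ p ∣ orderOf k), χ k * conj (χ' k)) := by
  unfold Cfsg.classInner
  congr 1
  obtain ⟨F, hF⟩ : ∃ F : G → G → ℂ,
      F = fun u k => (a u * conj (a' u)) * (χ k * conj (χ' k)) := ⟨_, rfl⟩
  have h1 : ∀ g : G, ppTwist p a χ g * conj (ppTwist p a' χ' g)
      = if ppEl p g ∈ P then F (ppEl p g) (prEl p g) else 0 := by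
    intro g
    unfold ppTwist
    rw [hF]
    split_ifs with h
    · simp only [map_mul]; ring
    · rw [ha0 _ h]; simp
  rw [Finset.sum_congr rfl (fun g _ => h1 g), sum_ppEl_mem P hP hcent F, Finset.sum_mul, hF]
  apply Finset.sum_congr rfl
  intro u _
  rw [Finset.mul_sum]

end twistglobal

end Cfsg.Agent.Lib.Helper6
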