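import Mathlib
import Cfsg.Agent.Lib.Helper6.TwistGlobal
import Cfsg.Agent.Lib.Helper6.GaloisConj

set_option autoImplicit false
set_option linter.unusedSectionVars false
open Cfsg

namespace Cfsg.Agent.Lib.Helper6

open scoped ComplexConjugate

section twistT

variable {G : Type*} [Group G] [Fintype G] [DecidableEq G] {p : ℕ} [hp : Fact p.Prime]

/-- extension by zero of a function on a subgroup -/
noncomputable def extZero (P : Subgroup G) [DecidablePred (· ∈ P)] (ζ : P → ℂ) : G → ℂ :=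
  fun g => if h : g ∈ P then ζ ⟨g, h⟩ else 0

theorem extZero_coe (P : Subgroup G) [DecidablePred (· ∈ P)] (ζ : P → ℂ) (u : P) :
    extZero P ζ (u : G) = ζ u := by
  unfold extZero
  rw [dif_pos u.2]

theorem extZero_of_not_mem (P : Subgroup G) [DecidablePred (· ∈ P)] (ζ : P → ℂ) {g : G}
    (h : g ∉ P) : extZero P ζ g = 0 := by
  unfold extZero
  rw [dif_neg h]

theorem normal_of_sup_centralizer_eq_top (P : Subgroup G)
    (hG : P ⊔ Subgroup.centralizer (P : Set G) = ⊤) : P.Normal := by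
  rw [← Subgroup.normalizer_eq_top_iff]
  apply top_unique
  rw [← hG]
  exact sup_le Subgroup.le_normalizer (Subgroup.centralizer_le_normalizer _)

theorem exists_mul_of_sup_centralizer_eq_top (P : Subgroup G)
    (hG : P ⊔ Subgroup.centralizer (P : Set G) = ⊤) (g : G) :
    ∃ u ∈ P, ∃ c ∈ Subgroup.centralizer (P : Set G), g = u * c := by
  haveI := normal_of_sup_centralizer_eq_top P hG
  have h : g ∈ P ⊔ Subgroup.centralizer (P : Set G) := by rw [hG]; trivial
  rw [← SetLike.mem_coe, Subgroup.normal_mul] at h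
  obtain ⟨u, hu, c, hc, rfl⟩ := h
  exact ⟨u, hu, c, hc, rfl⟩

theorem pRegular_mem_centralizer (P : Subgroup G) (hP : IsPGroup p P)
    (hG : P ⊔ Subgroup.centralizer (P : Set G) = ⊤) (k : G) (hk : ¬ p ∣ orderOf k) :
    k ∈ Subgroup.centralizer (P : Set G) := by
  obtain ⟨u, hu, c, hc, rfl⟩ := exists_mul_of_sup_centralizer_eq_top P hG k
  have hcomm : Commute u c := (Subgroup.mem_centralizer_iff.1 hc u hu)
  obtain ⟨m, hm⟩ : ∃ m, m = orderOf (u * c) := ⟨_, rfl⟩
  have h1 : u ^ m * c ^ m = 1 := by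
    rw [← hcomm.mul_pow, hm, pow_orderOf_eq_one]
  have h2 : u ^ m ∈ Subgroup.centralizer (P : Set G) := by
    have : u ^ m = (c ^ m)⁻¹ := eq_inv_of_mul_eq_one_left h1
    rw [this]
    exact Subgroup.inv_mem _ (Subgroup.pow_mem _ hc m)
  obtain ⟨n, hn⟩ := (IsPGroup.iff_orderOf.1 hP) ⟨u, hu⟩
  have hn' : orderOf u = p ^ n := by
    rw [← hn]; exact (Subgroup.orderOf_mk u hu).symm
  have hcop : m.Coprime (orderOf u) := by
    rw [hn']
    apply Nat.Coprime.pow_right
    rw [Nat.coprime_comm, Nat.Prime.coprime_iff_not_dvd hp.out, hm]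
    exact hk
  obtain ⟨s, hs⟩ := exists_pow_eq_self_of_coprime hcop
  have hu' : u ∈ Subgroup.centralizer (P : Set G) := by
    rw [← hs]
    exact Subgroup.pow_mem _ h2 s
  exact Subgroup.mul_mem _ hu' hc

theorem extZero_isClassFunction (P : Subgroup G) [DecidablePred (· ∈ P)]
    (hG : P ⊔ Subgroup.centralizer (P : Set G) = ⊤) {ζ : P → ℂ}
    (hζ : Cfsg.IsClassFunction P ζ) : Cfsg.IsClassFunction G (extZero P ζ) := by
  haveI hPn := normal_of_sup_centralizer_eq_top P hG
  intro g h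
  by_cases hg : g ∈ P
  · obtain ⟨u, hu, c, hc, rfl⟩ := exists_mul_of_sup_centralizer_eq_top P hG h
    have e : u * c * g * (u * c)⁻¹ = u * g * u⁻¹ := by
      have : c * g = g * c := (Subgroup.mem_centralizer_iff.1 hc g hg).symm
      calc u * c * g * (u * c)⁻¹ = u * (c * g) * c⁻¹ * u⁻¹ := by group
        _ = u * (g * c) * c⁻¹ * u⁻¹ := by rw [this]
        _ = u * g * u⁻¹ := by group
    rw [e]
    have h1 : u * g * u⁻¹ ∈ P := hPn.conj_mem g hg u
    have h2 := hζ ⟨g, hg⟩ ⟨u, hu⟩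
    unfold extZero
    rw [dif_pos h1, dif_pos hg]
    exact h2
  · have h1 : h * g * h⁻¹ ∉ P := by
      intro hh
      apply hg
      have := hPn.conj_mem _ hh h⁻¹
      simpa [mul_assoc] using this
    rw [extZero_of_not_mem P ζ hg, extZero_of_not_mem P ζ h1]

end twistT

end Cfsg.Agent.Lib.Helper6
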