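import Mathlib
import Cfsg.Agent.Lib.Helper6.TwistT0

set_option autoImplicit false
set_option linter.unusedSectionVars false
open Cfsg

namespace Cfsg.Agent.Lib.Helper6

open scoped ComplexConjugate

section twistT1

variable {G : Type*} [Group G] [Fintype G] [DecidableEq G] {p : ℕ} [hp : Fact p.Prime]
variable (P : Subgroup G) [Fintype P] [DecidablePred (· ∈ P)]

/-- the twisted characters -/
noncomputable def tw (p : ℕ) (P : Subgroup G) [DecidablePred (· ∈ P)] (χ : G → ℂ) (ζ : P → ℂ) :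
    G → ℂ := ppTwist p (extZero P ζ) χ

theorem tw_apply_of_mem (χ : G → ℂ) (ζ : P → ℂ) {g : G} (h : ppEl p g ∈ P) :
    tw p P χ ζ g = ζ ⟨ppEl p g, h⟩ * χ (prEl p g) := by
  unfold tw ppTwist extZero
  rw [dif_pos h]

theorem tw_apply_of_not_mem (χ : G → ℂ) (ζ : P → ℂ) {g : G} (h : ppEl p g ∉ P) :
    tw p P χ ζ g = 0 := by
  unfold tw ppTwist extZero
  rw [dif_neg h, zero_mul]

theorem tw_apply_one (χ : G → ℂ) (ζ : P → ℂ) : tw p P χ ζ 1 = ζ 1 * χ 1 := by
  have h : ppEl p (1 : G) ∈ P := by rw [ppEl_one]; exact P.one_mem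
  rw [tw_apply_of_mem P χ ζ h, prEl_one]
  congr 2
  ext
  exact ppEl_one

theorem tw_apply_pRegular (χ : G → ℂ) (ζ : P → ℂ) {k : G} (hk : ¬ p ∣ orderOf k) :
    tw p P χ ζ k = ζ 1 * χ k := by
  have h : ppEl p k ∈ P := by rw [ppEl_of_pRegular hk]; exact P.one_mem
  rw [tw_apply_of_mem P χ ζ h, prEl_of_pRegular hk]
  congr 2
  ext
  exact ppEl_of_pRegular hk

theorem tw_isGeneralizedCharacter (hP : IsPGroup p P)
    (hG : P ⊔ Subgroup.centralizer (P : Set G) = ⊤) {χ : G → ℂ} (hχ : Cfsg.IsIrrCharacter G χ)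
    (hdeg : (Cfsg.charDegree χ).factorization p = P.index.factorization p)
    {ζ : P → ℂ} (hζ : Cfsg.IsCharacter P ζ) : Cfsg.IsGeneralizedCharacter G (tw p P χ ζ) := by
  haveI := normal_of_sup_centralizer_eq_top P hG
  unfold tw
  apply ppTwist_isGeneralizedCharacter P (pRegular_mem_centralizer P hP hG) hχ hdeg
    (extZero_isClassFunction P hG (IsCharacter.isClassFunction hζ))
    (fun g hg => extZero_of_not_mem P ζ hg)
  have : (fun u : P => extZero P ζ u) = ζ := by
    funext u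
    exact extZero_coe P ζ u
  rw [this]
  exact hζ

theorem classInner_tw (hP : IsPGroup p P) (hG : P ⊔ Subgroup.centralizer (P : Set G) = ⊤)
    (χ χ' : G → ℂ) (ζ ζ' : P → ℂ) :
    Cfsg.classInner (tw p P χ ζ) (tw p P χ' ζ')
      = Cfsg.classInner ζ ζ' * ((Nat.card P : ℂ) / (Nat.card G : ℂ) *
        ∑ k ∈ Finset.univ.filter (fun k : G => ¬ p ∣ orderOf k), χ k * conj (χ' k)) := by
  unfold tw
  rw [classInner_ppTwist P hP (pRegular_mem_centralizer P hP hG) _ _ _ _
    (fun g hg => extZero_of_not_mem P ζ hg)]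
  have h1 : ∑ u : P, extZero P ζ u * conj (extZero P ζ' u) = ∑ u : P, ζ u * conj (ζ' u) := by
    apply Finset.sum_congr rfl
    intro u _
    rw [extZero_coe, extZero_coe]
  rw [h1]
  unfold Cfsg.classInner
  have hPc : (Nat.card P : ℂ) ≠ 0 := card_ne_zero_complex P
  field_simp

end twistT1

end Cfsg.Agent.Lib.Helper6
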