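import Mathlib
import Cfsg.Agent.Lib.Helper6.TwistT1

set_option autoImplicit false
set_option linter.unusedSectionVars false
open Cfsg

namespace Cfsg.Agent.Lib.Helper6

open scoped ComplexConjugate

section twistT2

variable {G : Type*} [Group G] [Fintype G] [DecidableEq G] {p : ℕ} [hp : Fact p.Prime]
variable (P : Subgroup G) [Fintype P] [DecidablePred (· ∈ P)]
variable (hP : IsPGroup p P) (hG : P ⊔ Subgroup.centralizer (P : Set G) = ⊤)
variable (χ : Cfsg.IrrCharacter G)
variable (hdeg : (Cfsg.charDegree (χ : G → ℂ)).factorization p = P.index.factorization p)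
variable (lam : Cfsg.IrrCharacter P) (hlam1 : (lam : P → ℂ) 1 = 1)
variable (hH : ∀ (u : P) (k : G), ¬ p ∣ orderOf k → (χ : G → ℂ) ((u : G) * k) = (lam : P → ℂ) u * (χ : G → ℂ) k)

include hH in
theorem tw_lam_eq_cut (g : G) :
    tw p P (χ : G → ℂ) (lam : P → ℂ) g = if ppEl p g ∈ P then (χ : G → ℂ) g else 0 := by
  split_ifs with h
  · rw [tw_apply_of_mem P _ _ h, ← hH ⟨ppEl p g, h⟩ (prEl p g) (prEl_pRegular g)]
    simp only
    rw [ppEl_mul_prEl]
  · exact tw_apply_of_not_mem P _ _ h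

include hP hG hdeg hH in
/-- the character vanishes at elements whose `p`-part is outside `P` -/
theorem eq_zero_of_ppEl_not_mem (g : G) (hg : ppEl p g ∉ P) : (χ : G → ℂ) g = 0 := by
  have h1 := tw_isGeneralizedCharacter P hP hG χ.2 hdeg (IsIrrCharacter.isCharacter lam.2)
  have h2 : tw p P (χ : G → ℂ) (lam : P → ℂ)
      = fun g => if ppEl p g ∈ P then (χ : G → ℂ) g else 0 := by
    funext g
    exact tw_lam_eq_cut P χ lam hH g
  rw [h2] at h1
  exact eq_zero_of_cut_isGeneralizedCharacter χ.2 (fun g => ppEl p g ∈ P)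
    (by rw [ppEl_one]; exact P.one_mem) h1 g hg

include hP hG hdeg hH in
theorem tw_lam_eq : tw p P (χ : G → ℂ) (lam : P → ℂ) = (χ : G → ℂ) := by
  funext g
  rw [tw_lam_eq_cut P χ lam hH g]
  split_ifs with h
  · rfl
  · exact (eq_zero_of_ppEl_not_mem P hP hG χ hdeg lam hH g h).symm

include hP hG hdeg hH in
/-- the normalising constant is one -/
theorem tw_const_eq_one :
    (Nat.card P : ℂ) / (Nat.card G : ℂ) *
      ∑ k ∈ Finset.univ.filter (fun k : G => ¬ p ∣ orderOf k),
        (χ : G → ℂ) k * conj ((χ : G → ℂ) k) = 1 := by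
  have h1 := classInner_tw P hP hG (χ : G → ℂ) (χ : G → ℂ) (lam : P → ℂ) (lam : P → ℂ)
  rw [tw_lam_eq P hP hG χ hdeg lam hH, classInner_irrCharacter, if_pos rfl,
    classInner_irrCharacter, if_pos rfl, one_mul] at h1
  exact h1.symm

include hP hG hdeg hH in
theorem classInner_tw_self (ζ ζ' : P → ℂ) :
    Cfsg.classInner (tw p P (χ : G → ℂ) ζ) (tw p P (χ : G → ℂ) ζ') = Cfsg.classInner ζ ζ' := by
  rw [classInner_tw P hP hG, tw_const_eq_one P hP hG χ hdeg lam hH, mul_one]

include hP hG hdeg hH in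
/-- the twisted characters are irreducible -/
theorem tw_isIrrCharacter (ζ : Cfsg.IrrCharacter P) :
    Cfsg.IsIrrCharacter G (tw p P (χ : G → ℂ) (ζ : P → ℂ)) := by
  apply IsGeneralizedCharacter.isIrrCharacter_of_norm_one
    (tw_isGeneralizedCharacter P hP hG χ.2 hdeg (IsIrrCharacter.isCharacter ζ.2))
  · rw [classInner_tw_self P hP hG χ hdeg lam hH, classInner_irrCharacter, if_pos rfl]
  · rw [tw_apply_one, IsCharacter.apply_one_eq_charDegree (IsIrrCharacter.isCharacter ζ.2),
      IsCharacter.apply_one_eq_charDegree (IsIrrCharacter.isCharacter χ.2)]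
    have h1 := IsIrrCharacter.charDegree_pos ζ.2
    have h2 := IsIrrCharacter.charDegree_pos χ.2
    have : (0 : ℝ) < (Cfsg.charDegree (ζ : P → ℂ) : ℝ) * (Cfsg.charDegree (χ : G → ℂ) : ℝ) := by
      positivity
    rw [← Nat.cast_mul, Complex.natCast_re]
    exact_mod_cast Nat.mul_pos h1 h2

/-- the twisted characters as irreducible characters -/
noncomputable def twIrr (ζ : Cfsg.IrrCharacter P) : Cfsg.IrrCharacter G :=
  ⟨tw p P (χ : G → ℂ) (ζ : P → ℂ), tw_isIrrCharacter P hP hG χ hdeg lam hH ζ⟩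

include hP hG hdeg hH in
theorem twIrr_injective : Function.Injective (twIrr P hP hG χ hdeg lam hH) := by
  intro ζ ζ' h
  have h1 : tw p P (χ : G → ℂ) (ζ : P → ℂ) = tw p P (χ : G → ℂ) (ζ' : P → ℂ) :=
    congrArg Subtype.val h
  have h2 := classInner_tw_self P hP hG χ hdeg lam hH (ζ : P → ℂ) (ζ' : P → ℂ)
  rw [h1, classInner_tw_self P hP hG χ hdeg lam hH, classInner_irrCharacter, if_pos rfl,
    classInner_irrCharacter] at h2
  by_contra hne
  rw [if_neg hne] at h2
  exact one_ne_zero h2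

end twistT2

end Cfsg.Agent.Lib.Helper6
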