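import Mathlib
import Cfsg.Agent.Lib.Helper6.TwistT2
import Cfsg.Agent.Lib.Helper6.BlkCenter
import Cfsg.Agent.Lib.Helper6.BlkDefect
import Cfsg.Agent.Lib.Helper6.BlkDim
import Cfsg.Agent.Lib.Helper6.ClassMult

set_option autoImplicit false
set_option linter.unusedSectionVars false
open Cfsg

namespace Cfsg.Agent.Lib.Helper6

open scoped ComplexConjugate

section twistT3

variable {G : Type*} [Group G] [Fintype G] [DecidableEq G] {p : ℕ} [hp : Fact p.Prime]
variable {M : Ideal Cfsg.AlgInt}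

/-- characters that agree projectively on `p`-regular elements lie in the same block -/
theorem mem_blockOf_of_pRegular_proj (hM : Cfsg.IsPModular p M) (χ ψ : Cfsg.IrrCharacter G)
    (h : ∀ k : G, ¬ p ∣ orderOf k →
      (ψ : G → ℂ) k / (ψ : G → ℂ) 1 = (χ : G → ℂ) k / (χ : G → ℂ) 1) :
    ψ ∈ Cfsg.blockOf M (χ : G → ℂ) := by
  classical
  obtain ⟨B, hB⟩ : ∃ B, B = Cfsg.blockOf M (χ : G → ℂ) := ⟨_, rfl⟩
  rw [← hB]
  have hχB : χ ∈ B := by rw [hB]; exact sameBlock_refl hM _
  have h1 := cOmega_blockMat B χ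
  have h2 := cOmega_blockMat B ψ
  rw [if_pos hχB] at h1
  have h3 : cOmega (ψ : G → ℂ) (blockMat B) = cOmega (χ : G → ℂ) (blockMat B) := by
    unfold cOmega blockMat
    rw [Finset.sum_div, Finset.sum_div]
    apply Finset.sum_congr rfl
    intro g _
    rw [regMat_apply, inv_one, mul_one]
    by_cases hg : p ∣ orderOf g
    · rw [hB, blockCoeff_eq_zero_of_pSingular hM χ g hg, zero_mul, zero_mul, zero_div, zero_div]
    · rw [mul_div_assoc, mul_div_assoc, h g hg]
  rw [h3, h1] at h2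
  by_contra hn
  rw [if_neg hn] at h2
  exact one_ne_zero h2

variable (P : Subgroup G) [Fintype P] [DecidablePred (· ∈ P)]
variable (hP : IsPGroup p P) (hG : P ⊔ Subgroup.centralizer (P : Set G) = ⊤)
variable (χ : Cfsg.IrrCharacter G)
variable (hdeg : (Cfsg.charDegree (χ : G → ℂ)).factorization p = P.index.factorization p)
variable (lam : Cfsg.IrrCharacter P) (hlam1 : (lam : P → ℂ) 1 = 1)
variable (hH : ∀ (u : P) (k : G), ¬ p ∣ orderOf k → (χ : G → ℂ) ((u : G) * k) = (lam : P → ℂ) u * (χ : G → ℂ) k)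

include hP hG hdeg hH in
theorem twIrr_lam : twIrr P hP hG χ hdeg lam hH lam = χ :=
  Subtype.ext (tw_lam_eq P hP hG χ hdeg lam hH)

include hP hG hdeg hH in
theorem twIrr_mem_blockOf (hM : Cfsg.IsPModular p M) (ζ : Cfsg.IrrCharacter P) :
    twIrr P hP hG χ hdeg lam hH ζ ∈ Cfsg.blockOf M (χ : G → ℂ) := by
  apply mem_blockOf_of_pRegular_proj hM
  intro k hk
  change tw p P (χ : G → ℂ) (ζ : P → ℂ) k / tw p P (χ : G → ℂ) (ζ : P → ℂ) 1 = _
  rw [tw_apply_pRegular P _ _ hk, tw_apply_one]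
  have h1 := IsIrrCharacter.apply_one_ne_zero ζ.2
  have h2 := IsIrrCharacter.apply_one_ne_zero χ.2
  field_simp

include hP hG hdeg hH in
/-- Osima-type integrality for the set of twisted characters -/
theorem blockCoeff_range_twIrr_memLocalRing (hM : Cfsg.IsPModular p M) (g : G) :
    Cfsg.MemLocalRing M (Cfsg.blockCoeff (Set.range (twIrr P hP hG χ hdeg lam hH)) g) := by
  classical
  haveI : Fintype (Cfsg.IrrCharacter P) := Fintype.ofFinite _
  unfold Cfsg.blockCoeff
  rw [finsum_mem_range (twIrr_injective P hP hG χ hdeg lam hH), finsum_eq_sum_of_fintype]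
  by_cases hg : ppEl p g ∈ P
  · have h1 : ∀ ζ : Cfsg.IrrCharacter P,
        ((twIrr P hP hG χ hdeg lam hH ζ : Cfsg.IrrCharacter G) : G → ℂ) 1 *
          conj (((twIrr P hP hG χ hdeg lam hH ζ : Cfsg.IrrCharacter G) : G → ℂ) g)
        = ((χ : G → ℂ) 1 * conj ((χ : G → ℂ) (prEl p g))) *
          conj ((ζ : P → ℂ) ⟨ppEl p g, hg⟩ * (ζ : P → ℂ) 1) := by
      intro ζ
      change tw p P (χ : G → ℂ) (ζ : P → ℂ) 1 * conj (tw p P (χ : G → ℂ) (ζ : P → ℂ) g) = _
      rw [tw_apply_one, tw_apply_of_mem P _ _ hg, map_mul, map_mul,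
        IsIrrCharacter.conj_apply_one ζ.2]
      ring
    rw [Finset.sum_congr rfl (fun ζ _ => h1 ζ), ← Finset.mul_sum, ← map_sum,
      sum_irr_apply_mul_apply_one]
    split_ifs with hu
    · rw [Complex.conj_natCast]
      have e : (Nat.card G : ℂ)⁻¹ * ((χ : G → ℂ) 1 * conj ((χ : G → ℂ) (prEl p g)) * (Nat.card P : ℂ))
          = (((Cfsg.charDegree (χ : G → ℂ) : ℤ) : ℂ) / (P.index : ℂ)) * conj ((χ : G → ℂ) (prEl p g)) := by
        rw [IsCharacter.apply_one_eq_charDegree (IsIrrCharacter.isCharacter χ.2)]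
        have hG' : (Nat.card G : ℂ) = (Nat.card P : ℂ) * (P.index : ℂ) := by
          rw [← Nat.cast_mul, P.card_mul_index]
        have hPc : (Nat.card P : ℂ) ≠ 0 := card_ne_zero_complex P
        have hic : (P.index : ℂ) ≠ 0 := by exact_mod_cast P.index_ne_zero_of_finite
        rw [hG']
        push_cast
        field_simp
      rw [e]
      apply MemLocalRing.mul hM
      · apply memLocalRing_div_of_pow_dvd hM _ _ P.index_ne_zero_of_finite
        rw [← hdeg]
        exact_mod_cast Nat.ordProj_dvd _ _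
      · apply memLocalRing_of_isIntegral hM
        exact isIntegral_conj (IsCharacter.isIntegral_apply (IsIrrCharacter.isCharacter χ.2) _)
    · rw [map_zero, mul_zero, mul_zero]
      exact memLocalRing_zero hM
  · have h1 : ∀ ζ : Cfsg.IrrCharacter P,
        ((twIrr P hP hG χ hdeg lam hH ζ : Cfsg.IrrCharacter G) : G → ℂ) 1 *
          conj (((twIrr P hP hG χ hdeg lam hH ζ : Cfsg.IrrCharacter G) : G → ℂ) g) = 0 := by
      intro ζ
      change tw p P (χ : G → ℂ) (ζ : P → ℂ) 1 * conj (tw p P (χ : G → ℂ) (ζ : P → ℂ) g) = _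
      rw [tw_apply_of_not_mem P _ _ hg, map_zero, mul_zero]
    rw [Finset.sum_congr rfl (fun ζ _ => h1 ζ), Finset.sum_const_zero, mul_zero]
    exact memLocalRing_zero hM

include hP hG hdeg hH in
/-- the block of `χ` consists exactly of the twisted characters -/
theorem blockOf_eq_range_twIrr (hM : Cfsg.IsPModular p M) :
    Cfsg.blockOf M (χ : G → ℂ) = Set.range (twIrr P hP hG χ hdeg lam hH) := by
  apply Set.Subset.antisymm
  · apply blockOf_subset_of_memLocalRing hM _
      (blockCoeff_range_twIrr_memLocalRing P hP hG χ hdeg lam hH hM) χ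
    exact ⟨lam, twIrr_lam P hP hG χ hdeg lam hH⟩
  · rintro _ ⟨ζ, rfl⟩
    exact twIrr_mem_blockOf P hP hG χ hdeg lam hH hM ζ

end twistT3

end Cfsg.Agent.Lib.Helper6
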