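import Mathlib
import Cfsg.Agent.Lib.Helper6.TwistT3
import Cfsg.Agent.Lib.Helper6.BlkVanish
import Cfsg.Agent.Lib.Helper6.BlkMajor
import Cfsg.Agent.S0912

set_option autoImplicit false
set_option linter.unusedSectionVars false
open Cfsg

namespace Cfsg.Agent.Lib.Helper6

open scoped ComplexConjugate

section central

variable {G : Type*} [Group G] [Fintype G] [DecidableEq G] {p : ℕ} [hp : Fact p.Prime]
variable {M : Ideal Cfsg.AlgInt}

theorem sup_centralizer_eq_top_of_le_center (D : Subgroup G) (hDZ : D ≤ Subgroup.center G) :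
    D ⊔ Subgroup.centralizer (D : Set G) = ⊤ := by
  apply top_unique
  apply le_trans _ le_sup_right
  intro g _
  rw [Subgroup.mem_centralizer_iff]
  intro u hu
  exact (Subgroup.mem_center_iff.1 (hDZ hu) g).symm

/-- the linear character of a central subgroup lying under an irreducible character -/
theorem exists_central_linear (D : Subgroup G) (hDZ : D ≤ Subgroup.center G)
    (χ : Cfsg.IrrCharacter G) :
    ∃ lam : Cfsg.IrrCharacter D, (lam : D → ℂ) 1 = 1 ∧
      ∀ (u : D) (k : G), (χ : G → ℂ) ((u : G) * k) = (lam : D → ℂ) u * (χ : G → ℂ) k := by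
  have hχ1 := IsIrrCharacter.apply_one_ne_zero χ.2
  have hcen : ∀ u : D, ∀ h : G, (u : G) * h = h * (u : G) :=
    fun u h => (Subgroup.mem_center_iff.1 (hDZ u.2) h).symm
  have hmul : ∀ u v : D, (χ : G → ℂ) ((u : G) * (v : G)) / (χ : G → ℂ) 1
      = ((χ : G → ℂ) u / (χ : G → ℂ) 1) * ((χ : G → ℂ) v / (χ : G → ℂ) 1) := by
    intro u v
    rw [IsIrrCharacter.apply_central_mul χ.2 (hcen u)]
    field_simp
  have hne : ∀ u : D, (χ : G → ℂ) u / (χ : G → ℂ) 1 ≠ 0 := by
    intro u h0
    have h1 := hmul u u⁻¹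
    rw [h0, zero_mul, ← Subgroup.coe_mul, mul_inv_cancel, Subgroup.coe_one, div_self hχ1] at h1
    exact one_ne_zero h1
  let f : D →* ℂˣ :=
    { toFun := fun u => Units.mk0 _ (hne u)
      map_one' := by
        apply Units.ext
        simp [hχ1]
      map_mul' := by
        intro u v
        apply Units.ext
        simp only [Units.val_mk0, Units.val_mul, Subgroup.coe_mul]
        exact hmul u v }
  refine ⟨⟨fun u => (f u : ℂ), isIrrCharacter_of_hom f⟩, ?_, ?_⟩
  · change ((f 1 : ℂˣ) : ℂ) = 1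
    rw [map_one]; rfl
  · intro u k
    change _ = (χ : G → ℂ) u / (χ : G → ℂ) 1 * _
    rw [IsIrrCharacter.apply_central_mul χ.2 (hcen u)]
    field_simp

end central

end Cfsg.Agent.Lib.Helper6
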