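import Mathlib
import Cfsg.Agent.Lib.Helper6.TwistT3
import Cfsg.Agent.Lib.Helper6.TwistCentral
import Cfsg.Agent.Lib.Helper6.BlkMajor
import Cfsg.Agent.S0908
import Cfsg.Agent.S0912

set_option autoImplicit false
set_option linter.unusedSectionVars false
open Cfsg

namespace Cfsg.Agent.Lib.Helper6

open scoped ComplexConjugate

section twistDefect

variable {G : Type*} [Group G] [Fintype G] [DecidableEq G] {p : ℕ} [hp : Fact p.Prime]
variable {M : Ideal Cfsg.AlgInt}
variable (P : Subgroup G) [Fintype P] [DecidablePred (· ∈ P)]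
variable (hP : IsPGroup p P) (hG : P ⊔ Subgroup.centralizer (P : Set G) = ⊤)
variable (χ : Cfsg.IrrCharacter G)
variable (hdeg : (Cfsg.charDegree (χ : G → ℂ)).factorization p = P.index.factorization p)
variable (lam : Cfsg.IrrCharacter P) (hlam1 : (lam : P → ℂ) 1 = 1)
variable (hH : ∀ (u : P) (k : G), ¬ p ∣ orderOf k → (χ : G → ℂ) ((u : G) * k) = (lam : P → ℂ) u * (χ : G → ℂ) k)

include hP hG hdeg hH in
theorem charDegree_twIrr (ζ : Cfsg.IrrCharacter P) :
    Cfsg.charDegree ((twIrr P hP hG χ hdeg lam hH ζ : Cfsg.IrrCharacter G) : G → ℂ)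
      = Cfsg.charDegree (ζ : P → ℂ) * Cfsg.charDegree (χ : G → ℂ) := by
  have h1 : ((twIrr P hP hG χ hdeg lam hH ζ : Cfsg.IrrCharacter G) : G → ℂ) 1
      = (ζ : P → ℂ) 1 * (χ : G → ℂ) 1 := tw_apply_one P _ _
  rw [IsCharacter.apply_one_eq_charDegree (IsIrrCharacter.isCharacter (twIrr P hP hG χ hdeg lam hH ζ).2),
    IsCharacter.apply_one_eq_charDegree (IsIrrCharacter.isCharacter ζ.2),
    IsCharacter.apply_one_eq_charDegree (IsIrrCharacter.isCharacter χ.2), ← Nat.cast_mul] at h1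
  exact_mod_cast h1

include hP hG hdeg hH in
theorem sInf_blockOf_twist (hM : Cfsg.IsPModular p M) :
    sInf ((fun ψ : Cfsg.IrrCharacter G => (Cfsg.charDegree (ψ : G → ℂ)).factorization p) ''
      Cfsg.blockOf M (χ : G → ℂ)) = (Cfsg.charDegree (χ : G → ℂ)).factorization p := by
  apply le_antisymm
  · apply Nat.sInf_le
    exact ⟨χ, sameBlock_refl hM _, rfl⟩
  · apply le_csInf
    · exact ⟨_, χ, sameBlock_refl hM _, rfl⟩
    · rintro _ ⟨ψ, hψ, rfl⟩
      rw [blockOf_eq_range_twIrr P hP hG χ hdeg lam hH hM] at hψ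
      obtain ⟨ζ, rfl⟩ := hψ
      simp only
      rw [charDegree_twIrr, Nat.factorization_mul (IsIrrCharacter.charDegree_pos ζ.2).ne'
        (IsIrrCharacter.charDegree_pos χ.2).ne']
      simp

include hP hG hdeg hH in
theorem blockDefect_blockOf_twist (hM : Cfsg.IsPModular p M) :
    Cfsg.blockDefect p (Cfsg.blockOf M (χ : G → ℂ)) = (Nat.card P).factorization p := by
  unfold Cfsg.blockDefect
  rw [sInf_blockOf_twist P hP hG χ hdeg lam hH hM, hdeg, ← P.card_mul_index,
    Nat.factorization_mul Nat.card_pos.ne' P.index_ne_zero_of_finite]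
  simp

include hP hG hdeg hH in
theorem isDefectGroup_blockOf_twist (hM : Cfsg.IsPModular p M) :
    Cfsg.IsDefectGroup p M (Cfsg.blockOf M (χ : G → ℂ)) P := by
  obtain ⟨Q, hQ⟩ := exists_isDefectGroup hM _ ⟨χ, rfl⟩
  have hQcard := Cfsg.Agent.S0908.result p M hM _ ⟨χ, rfl⟩ Q hQ
  rw [blockDefect_blockOf_twist P hP hG χ hdeg lam hH hM] at hQcard
  haveI := normal_of_sup_centralizer_eq_top P hG
  have hPc : P ≤ Cfsg.pCore p G :=
    le_sSup (show P ∈ {N : Subgroup G | N.Normal ∧ IsPGroup p N} from ⟨inferInstance, hP⟩)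
  have hPQ : P ≤ Q := le_trans hPc (Cfsg.Agent.S0912.result p M hM _ ⟨χ, rfl⟩ Q hQ)
  obtain ⟨n, hn⟩ := IsPGroup.iff_card.1 hP
  have hPQ' : P = Q := by
    apply Subgroup.eq_of_le_of_card_ge hPQ
    rw [hQcard, hn, Nat.Prime.factorization_pow hp.out]
    simp
  rw [hPQ']
  exact hQ

end twistDefect

end Cfsg.Agent.Lib.Helper6
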