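import Mathlib
import Cfsg.Agent.Lib.Helper6.TwistDefect
import Cfsg.Agent.Lib.Helper6.BlkContrib
import Cfsg.Agent.Lib.Helper6.BlkHeightTilde

set_option autoImplicit false
set_option linter.unusedSectionVars false
open Cfsg

namespace Cfsg.Agent.Lib.Helper6

open scoped ComplexConjugate

section twistRank

variable {G : Type*} [Group G] [Fintype G] [DecidableEq G] {p : ℕ} [hp : Fact p.Prime]
variable {M : Ideal Cfsg.AlgInt}

/-- a block contains a character whose degree has the `p`-part of the index of a defect group -/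
theorem exists_mem_factorization_eq_index (hM : Cfsg.IsPModular p M)
    (B : Set (Cfsg.IrrCharacter G)) (hB : Cfsg.IsPBlock M B) (P : Subgroup G)
    (hD : Cfsg.IsDefectGroup p M B P) :
    ∃ χ ∈ B, (Cfsg.charDegree (χ : G → ℂ)).factorization p = P.index.factorization p := by
  have hcard := Cfsg.Agent.S0908.result p M hM B hB P hD
  obtain ⟨χ₀, rfl⟩ := hB
  have hχ₀ : χ₀ ∈ Cfsg.blockOf M (χ₀ : G → ℂ) := sameBlock_refl hM _
  have hne : ((fun ψ : Cfsg.IrrCharacter G => (Cfsg.charDegree (ψ : G → ℂ)).factorization p) ''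
      Cfsg.blockOf M (χ₀ : G → ℂ)).Nonempty := ⟨_, χ₀, hχ₀, rfl⟩
  obtain ⟨ψ, hψ, hψe⟩ := Nat.sInf_mem hne
  refine ⟨ψ, hψ, ?_⟩
  have h1 := factorization_card_eq_sInf_add_defect (p := p) _ χ₀ hχ₀
  have h2 : (Nat.card G).factorization p
      = (Nat.card P).factorization p + P.index.factorization p := by
    rw [← P.card_mul_index, Nat.factorization_mul Nat.card_pos.ne' P.index_ne_zero_of_finite]
    rfl
  rw [hcard, Nat.Prime.factorization_pow hp.out] at h2
  simp only [Finsupp.coe_smul, Pi.smul_apply, Finsupp.single_eq_same, smul_eq_mul, mul_one] at h2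
  simp only at hψe
  omega

variable (P : Subgroup G) [Fintype P] [DecidablePred (· ∈ P)]
variable (hP : IsPGroup p P) (hG : P ⊔ Subgroup.centralizer (P : Set G) = ⊤)
variable (χ : Cfsg.IrrCharacter G)
variable (hdeg : (Cfsg.charDegree (χ : G → ℂ)).factorization p = P.index.factorization p)
variable (lam : Cfsg.IrrCharacter P) (hlam1 : (lam : P → ℂ) 1 = 1)
variable (hH : ∀ (u : P) (k : G), ¬ p ∣ orderOf k → (χ : G → ℂ) ((u : G) * k) = (lam : P → ℂ) u * (χ : G → ℂ) k)

include hP hG hdeg hH in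
theorem blockRank_blockOf_twist (hM : Cfsg.IsPModular p M) :
    Cfsg.blockRank p (Cfsg.blockOf M (χ : G → ℂ)) = 1 := by
  obtain ⟨v, hv⟩ : ∃ v : G → ℂ, v = Cfsg.pRegularPart p (χ : G → ℂ) := ⟨_, rfl⟩
  have hv1 : v 1 = (χ : G → ℂ) 1 := by
    rw [hv]
    unfold Cfsg.pRegularPart Cfsg.IsPRegular
    rw [if_pos]
    rw [orderOf_one]
    exact hp.out.not_dvd_one
  have hv0 : v ≠ 0 := by
    intro h
    rw [h] at hv1
    exact IsIrrCharacter.apply_one_ne_zero χ.2 hv1.symm
  have hspan : Submodule.span ℂ ((fun ψ : Cfsg.IrrCharacter G =>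
      Cfsg.pRegularPart p (ψ : G → ℂ)) '' (Cfsg.blockOf M (χ : G → ℂ))) = Submodule.span ℂ {v} := by
    apply le_antisymm
    · rw [Submodule.span_le]
      rintro _ ⟨ψ, hψ, rfl⟩
      rw [blockOf_eq_range_twIrr P hP hG χ hdeg lam hH hM] at hψ
      obtain ⟨ζ, rfl⟩ := hψ
      rw [SetLike.mem_coe, Submodule.mem_span_singleton]
      refine ⟨(ζ : P → ℂ) 1, ?_⟩
      funext g
      rw [hv]
      change _ = Cfsg.pRegularPart p (tw p P (χ : G → ℂ) (ζ : P → ℂ)) g
      unfold Cfsg.pRegularPart Cfsg.IsPRegular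
      simp only [Pi.smul_apply, smul_eq_mul]
      by_cases hg : ¬ p ∣ orderOf g
      · rw [if_pos hg, if_pos hg, tw_apply_pRegular P _ _ hg]
      · rw [if_neg hg, if_neg hg, mul_zero]
    · rw [Submodule.span_le, Set.singleton_subset_iff]
      apply Submodule.subset_span
      exact ⟨χ, sameBlock_refl hM _, hv.symm⟩
  unfold Cfsg.blockRank
  rw [hspan]
  exact finrank_span_singleton hv0

end twistRank

end Cfsg.Agent.Lib.Helper6
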