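import Mathlib
import Cfsg.Agent.Lib.Helper6.TwistRank
import Cfsg.Agent.Lib.Helper6.BlkNormalP
import Cfsg.Agent.Lib.Helper6.ClassCount
import Cfsg.Agent.Lib.Helper6.BlkCover3
import Cfsg.Agent.Lib.Helper6.BlkDefConj

set_option autoImplicit false
set_option linter.unusedSectionVars false
open Cfsg

namespace Cfsg.Agent.Lib.Helper6

open scoped ComplexConjugate

section twistNormal

variable {G : Type*} [Group G] [Fintype G] [DecidableEq G] {p : ℕ} [hp : Fact p.Prime]
variable {M : Ideal Cfsg.AlgInt}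

theorem exists_orderOf_of_mem_pGroup {P : Subgroup G} (hP : IsPGroup p P) {u : G} (hu : u ∈ P) :
    ∃ n : ℕ, orderOf u = p ^ n := by
  obtain ⟨n, hn⟩ := hP ⟨u, hu⟩
  have h1 : u ^ p ^ n = 1 := by
    have := congrArg Subtype.val hn
    simpa using this
  obtain ⟨k, _, hk⟩ := (Nat.dvd_prime_pow hp.out).mp (orderOf_dvd_of_pow_eq_one h1)
  exact ⟨k, hk⟩

/-- the least exponent of `p` in the degrees of a block is the exponent of `p` in the index of a
defect group -/
theorem sInf_eq_index_factorization (hM : Cfsg.IsPModular p M)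
    (B : Set (Cfsg.IrrCharacter G)) (hB : Cfsg.IsPBlock M B) (P : Subgroup G)
    (hD : Cfsg.IsDefectGroup p M B P) :
    sInf ((fun ψ : Cfsg.IrrCharacter G => (Cfsg.charDegree (ψ : G → ℂ)).factorization p) '' B)
      = P.index.factorization p := by
  have hcard := Cfsg.Agent.S0908.result p M hM B hB P hD
  obtain ⟨χ₀, rfl⟩ := hB
  have hχ₀ : χ₀ ∈ Cfsg.blockOf M (χ₀ : G → ℂ) := sameBlock_refl hM _
  have h1 := factorization_card_eq_sInf_add_defect (p := p) _ χ₀ hχ₀
  have h2 : (Nat.card G).factorization p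
      = (Nat.card P).factorization p + P.index.factorization p := by
    rw [← P.card_mul_index, Nat.factorization_mul Nat.card_pos.ne' P.index_ne_zero_of_finite]
    rfl
  rw [hcard, Nat.Prime.factorization_pow hp.out] at h2
  simp only [Finsupp.single_eq_same] at h2
  omega

/-- a member of a block with normal defect group `P` that is trivial on `P` has height zero -/
theorem factorization_eq_index_of_const_on (hM : Cfsg.IsPModular p M)
    (B : Set (Cfsg.IrrCharacter G)) (hB : Cfsg.IsPBlock M B) (P : Subgroup G) [hPn : P.Normal]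
    (hD : Cfsg.IsDefectGroup p M B P) (θ : Cfsg.IrrCharacter G) (hθB : θ ∈ B)
    (hθ : ∀ x ∈ P, (θ : G → ℂ) x = (θ : G → ℂ) 1) :
    (Cfsg.charDegree (θ : G → ℂ)).factorization p = P.index.factorization p := by
  classical
  haveI : Fintype (G ⧸ P) := Fintype.ofFinite _
  apply le_antisymm
  · obtain ⟨β, hβ⟩ := IsIrrCharacter.exists_deflation P θ hθ
    have h1 : Cfsg.charDegree (θ : G → ℂ) = Cfsg.charDegree (β : G ⧸ P → ℂ) := by
      have h2 := congrFun hβ 1
      rw [QuotientGroup.mk_one,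
        IsCharacter.apply_one_eq_charDegree (IsIrrCharacter.isCharacter θ.2),
        IsCharacter.apply_one_eq_charDegree (IsIrrCharacter.isCharacter β.2)] at h2
      exact_mod_cast h2
    have h3 : Cfsg.charDegree (θ : G → ℂ) ∣ P.index := by
      rw [h1, Subgroup.index_eq_card]
      exact IsIrrCharacter.charDegree_dvd_card β.2
    exact (Nat.factorization_le_iff_dvd (IsIrrCharacter.charDegree_pos θ.2).ne'
      P.index_ne_zero_of_finite).mpr h3 p
  · rw [← sInf_eq_index_factorization hM B hB P hD]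
    exact Nat.sInf_le ⟨θ, hθB, rfl⟩

variable (P : Subgroup G) [Fintype P] [DecidablePred (· ∈ P)]

theorem tw_apply_mul_of_commute (hP : IsPGroup p P) (χ : G → ℂ) (ζ : P → ℂ) (y : P) (x : G)
    (hx : ¬ p ∣ orderOf x) (hc : Commute (y : G) x) :
    tw p P χ ζ ((y : G) * x) = ζ y * χ x := by
  have hy := exists_orderOf_of_mem_pGroup hP y.2
  have h1 : ppEl p ((y : G) * x) = (y : G) := ppEl_mul_of_commute hy hx hc
  have h : ppEl p ((y : G) * x) ∈ P := by rw [h1]; exact y.2
  rw [tw_apply_of_mem P χ ζ h, prEl_mul_of_commute hy hx hc]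
  congr 2
  ext
  exact h1

theorem tw_apply_coe (hP : IsPGroup p P) (χ : G → ℂ) (ζ : P → ℂ) (y : P) :
    tw p P χ ζ (y : G) = ζ y * χ 1 := by
  have := tw_apply_mul_of_commute P hP χ ζ y 1
    (by rw [orderOf_one]; exact hp.out.not_dvd_one) (Commute.one_right _)
  rwa [mul_one] at this

theorem hH_of_const_on (θ : Cfsg.IrrCharacter G)
    (hθ : ∀ x ∈ P, (θ : G → ℂ) x = (θ : G → ℂ) 1) :
    ∀ (u : P) (k : G), ¬ p ∣ orderOf k →
      (θ : G → ℂ) ((u : G) * k) = ((oneIrr P : Cfsg.IrrCharacter P) : P → ℂ) u * (θ : G → ℂ) k := by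
  intro u k _
  rw [IsCharacter.apply_mul_left_of_apply_eq (IsIrrCharacter.isCharacter θ.2) (hθ u u.2)]
  change _ = (1 : ℂ) * _
  rw [one_mul]

variable (hP : IsPGroup p P) (hG : P ⊔ Subgroup.centralizer (P : Set G) = ⊤)
variable (χ : Cfsg.IrrCharacter G)
variable (hdeg : (Cfsg.charDegree (χ : G → ℂ)).factorization p = P.index.factorization p)
variable (lam : Cfsg.IrrCharacter P) (hlam1 : (lam : P → ℂ) 1 = 1)
variable (hH : ∀ (u : P) (k : G), ¬ p ∣ orderOf k → (χ : G → ℂ) ((u : G) * k) = (lam : P → ℂ) u * (χ : G → ℂ) k)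

include hP hG hdeg hH in
theorem card_blockOf_twist (hM : Cfsg.IsPModular p M) :
    Nat.card (Cfsg.blockOf M (χ : G → ℂ)) = Nat.card (ConjClasses P) := by
  rw [blockOf_eq_range_twIrr P hP hG χ hdeg lam hH hM, ← card_irrCharacter]
  exact Nat.card_congr (Equiv.ofInjective _ (twIrr_injective P hP hG χ hdeg lam hH)).symm

include hP hG hdeg hH in
/-- a twisted character trivial on `P` comes from the trivial character of `P` -/
theorem eq_oneIrr_of_twIrr_const_on (ζ : Cfsg.IrrCharacter P)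
    (h : ∀ x ∈ P, ((twIrr P hP hG χ hdeg lam hH ζ : Cfsg.IrrCharacter G) : G → ℂ) x
      = ((twIrr P hP hG χ hdeg lam hH ζ : Cfsg.IrrCharacter G) : G → ℂ) 1) :
    ζ = oneIrr P := by
  have hχ1 := IsIrrCharacter.apply_one_ne_zero χ.2
  have h1 : ∀ u : P, (ζ : P → ℂ) u = (ζ : P → ℂ) 1 := by
    intro u
    have h2 := h u u.2
    change tw p P (χ : G → ℂ) (ζ : P → ℂ) (u : G) = tw p P (χ : G → ℂ) (ζ : P → ℂ) 1 at h2
    rw [tw_apply_coe P hP, tw_apply_one] at h2
    exact mul_right_cancel₀ hχ1 h2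
  by_contra hne
  have h3 := classInner_irrCharacter ζ (oneIrr P)
  rw [if_neg hne] at h3
  unfold Cfsg.classInner at h3
  have h4 : ∑ g : P, (ζ : P → ℂ) g * conj (((oneIrr P : Cfsg.IrrCharacter P) : P → ℂ) g)
      = (Nat.card P : ℂ) * (ζ : P → ℂ) 1 := by
    have h6 : ∑ g : P, (ζ : P → ℂ) g * conj (((oneIrr P : Cfsg.IrrCharacter P) : P → ℂ) g)
        = ∑ _g : P, (ζ : P → ℂ) 1 := by
      apply Finset.sum_congr rfl
      intro g _
      rw [h1 g]
      change (ζ : P → ℂ) 1 * conj (1 : ℂ) = (ζ : P → ℂ) 1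
      rw [map_one, mul_one]
    rw [h6, Finset.sum_const, Finset.card_univ, Nat.card_eq_fintype_card, nsmul_eq_mul]
  rw [h4] at h3
  have hc : (Nat.card P : ℂ) ≠ 0 := card_ne_zero_complex P
  have h5 : (ζ : P → ℂ) 1 = 0 := by
    field_simp at h3
    exact h3
  exact IsIrrCharacter.apply_one_ne_zero ζ.2 h5

end twistNormal

end Cfsg.Agent.Lib.Helper6
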