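import Mathlib
import Cfsg.Agent.Lib.Helper6.TwistNormal
import Cfsg.Agent.Lib.Helper6.BlkStab
import Cfsg.Agent.Lib.Helper6.BlkUniqueCover
import Cfsg.Agent.Lib.Helper6.BlkOrthFull
import Cfsg.Agent.S0187
import Cfsg.Agent.S0971
import Cfsg.Agent.S0934
import Cfsg.Agent.Lib.Helper6.Ito

set_option autoImplicit false
set_option linter.unusedSectionVars false
open Cfsg

namespace Cfsg.Agent.Lib.Helper6

open scoped ComplexConjugate

section normalAbel

variable {G : Type*} [Group G] [Fintype G] [DecidableEq G] {p : ℕ} [hp : Fact p.Prime]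
variable {M : Ideal Cfsg.AlgInt}

/-- in a group `G = P C_G(P)` a block with nonabelian defect group `P` has a member of positive
height -/
theorem exists_mem_block_pos_height (hM : Cfsg.IsPModular p M) (P : Subgroup G)
    (hP : IsPGroup p P) (hG : P ⊔ Subgroup.centralizer (P : Set G) = ⊤)
    (B : Set (Cfsg.IrrCharacter G)) (hB : Cfsg.IsPBlock M B)
    (hD : Cfsg.IsDefectGroup p M B P) (hnab : ¬ ∀ a b : P, a * b = b * a) :
    ∃ θ₁ ∈ B, P.index.factorization p + 1 ≤ (Cfsg.charDegree (θ₁ : G → ℂ)).factorization p := by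
  classical
  haveI : Fintype P := Fintype.ofFinite P
  haveI := normal_of_sup_centralizer_eq_top P hG
  have hpp : p.Prime := hp.out
  obtain ⟨χ₀, rfl⟩ := hB
  obtain ⟨θ₀, hθ₀B, hθ₀⟩ := exists_mem_block_const_on_normal hM χ₀ P hP
  have hBeq : Cfsg.blockOf M (χ₀ : G → ℂ) = Cfsg.blockOf M (θ₀ : G → ℂ) :=
    blockOf_eq_of_mem hM hθ₀B
  have hdeg := factorization_eq_index_of_const_on hM _ ⟨χ₀, rfl⟩ P hD θ₀ hθ₀B hθ₀
  have hH := hH_of_const_on (p := p) P θ₀ hθ₀
  obtain ⟨ζ, hζ⟩ : ∃ ζ : Cfsg.IrrCharacter P, (ζ : P → ℂ) 1 ≠ 1 := by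
    by_contra hcon
    push Not at hcon
    exact hnab (Cfsg.Agent.S0187.result.mpr hcon)
  refine ⟨twIrr P hP hG θ₀ hdeg (oneIrr P) hH ζ, ?_, ?_⟩
  · rw [hBeq]
    exact twIrr_mem_blockOf P hP hG θ₀ hdeg (oneIrr P) hH hM ζ
  · rw [charDegree_twIrr, Nat.factorization_mul (IsIrrCharacter.charDegree_pos ζ.2).ne'
      (IsIrrCharacter.charDegree_pos θ₀.2).ne', Finsupp.add_apply, hdeg]
    have h1 : Cfsg.charDegree (ζ : P → ℂ) ∣ Nat.card P := IsIrrCharacter.charDegree_dvd_card ζ.2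
    obtain ⟨n, hn⟩ := IsPGroup.iff_card.1 hP
    rw [hn] at h1
    obtain ⟨i, _, hi⟩ := (Nat.dvd_prime_pow hpp).mp h1
    have hi0 : i ≠ 0 := by
      intro h0
      apply hζ
      rw [IsCharacter.apply_one_eq_charDegree (IsIrrCharacter.isCharacter ζ.2), hi, h0, pow_zero,
        Nat.cast_one]
    rw [hi, hpp.factorization_pow, Finsupp.single_eq_same]
    omega

omit [Fintype G] [DecidableEq G] in
theorem map_centralizer_subgroupOf (P K : Subgroup G) (hPK : P ≤ K)
    (hCK : Subgroup.centralizer (P : Set G) ≤ K) :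
    (Subgroup.centralizer ((P.subgroupOf K : Subgroup K) : Set K)).map K.subtype
      = Subgroup.centralizer (P : Set G) := by
  ext x
  rw [Subgroup.mem_map]
  constructor
  · rintro ⟨n, hn, rfl⟩
    rw [Subgroup.mem_centralizer_iff] at hn ⊢
    intro d hd
    have h1 := hn ⟨d, hPK hd⟩ (by
      rw [SetLike.mem_coe, Subgroup.mem_subgroupOf]; exact hd)
    exact congrArg Subtype.val h1
  · intro hx
    refine ⟨⟨x, hCK hx⟩, ?_, rfl⟩
    rw [Subgroup.mem_centralizer_iff] at hx ⊢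
    intro q hq
    rw [SetLike.mem_coe, Subgroup.mem_subgroupOf] at hq
    apply Subtype.ext
    exact hx _ hq

omit [Fintype G] [DecidableEq G] in
theorem sup_centralizer_subgroupOf_eq_top (P : Subgroup G) :
    (P.subgroupOf (P ⊔ Subgroup.centralizer (P : Set G)))
      ⊔ Subgroup.centralizer ((P.subgroupOf (P ⊔ Subgroup.centralizer (P : Set G)) :
        Subgroup ↥(P ⊔ Subgroup.centralizer (P : Set G))) :
          Set ↥(P ⊔ Subgroup.centralizer (P : Set G))) = ⊤ := by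
  apply Subgroup.map_injective (Subgroup.subtype_injective (P ⊔ Subgroup.centralizer (P : Set G)))
  rw [Subgroup.map_sup, map_centralizer_subgroupOf P _ le_sup_left le_sup_right,
    Subgroup.map_subgroupOf_eq_of_le le_sup_left, ← MonoidHom.range_eq_map, Subgroup.range_subtype]

/-- a block with a normal nonabelian defect group has a member of positive height -/
theorem abelian_of_all_height_zero (hM : Cfsg.IsPModular p M) (B : Set (Cfsg.IrrCharacter G))
    (hB : Cfsg.IsPBlock M B) (P : Subgroup G) (hPn : P.Normal)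
    (hP : Cfsg.IsDefectGroup p M B P)
    (hh : ∀ χ ∈ B, Cfsg.blockHeight p B (χ : G → ℂ) = 0) :
    ∀ a ∈ P, ∀ c ∈ P, a * c = c * a := by
  classical
  by_contra hnab
  have hpp : p.Prime := hp.out
  haveI := hPn
  have hPp : IsPGroup p P := IsDefectGroup.isPGroup' hP
  haveI hCn : (Subgroup.centralizer (P : Set G)).Normal := Subgroup.normal_centralizer
  have hNn : (P ⊔ Subgroup.centralizer (P : Set G)).Normal := inferInstance
  haveI : Fintype ↥(P ⊔ Subgroup.centralizer (P : Set G)) := Fintype.ofFinite _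
  obtain ⟨χ₀, hBχ₀⟩ := hB
  obtain ⟨θ, hθ⟩ := exists_constituent_restrict (P ⊔ Subgroup.centralizer (P : Set G)) χ₀.2
  have hχ₀B : χ₀ ∈ B := by rw [hBχ₀]; exact sameBlock_refl hM _
  have hcov : ∃ χ ∈ B, ∃ θ' ∈ Cfsg.blockOf M (θ : ↥(P ⊔ Subgroup.centralizer (P : Set G)) → ℂ),
      Cfsg.classInner (fun n : ↥(P ⊔ Subgroup.centralizer (P : Set G)) => (χ : G → ℂ) n)
        (θ' : ↥(P ⊔ Subgroup.centralizer (P : Set G)) → ℂ) ≠ 0 :=
    ⟨χ₀, hχ₀B, θ, sameBlock_refl hM _, hθ⟩
  have h71 := (Cfsg.Agent.S0971.result p M hM P hPp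
    (Cfsg.blockOf M (θ : ↥(P ⊔ Subgroup.centralizer (P : Set G)) → ℂ)) ⟨θ, rfl⟩).2
  have hindNB := h71 B ⟨χ₀, hBχ₀⟩ hcov
  have hbP := isDefectGroup_of_induced hM P hPp (P ⊔ Subgroup.centralizer (P : Set G)) le_sup_left
    (by rw [Subgroup.normalizer_eq_top]; exact le_top) hindNB hP
  have hG' := sup_centralizer_subgroupOf_eq_top P
  have hP' : IsPGroup p (P.subgroupOf (P ⊔ Subgroup.centralizer (P : Set G))) :=
    hPp.comap_subtype
  have hnab' : ¬ ∀ a b : (P.subgroupOf (P ⊔ Subgroup.centralizer (P : Set G))), a * b = b * a := by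
    intro hc
    apply hnab
    intro a ha c hc'
    have := hc ⟨⟨a, le_sup_left (a := P) ha⟩, by rw [Subgroup.mem_subgroupOf]; exact ha⟩
      ⟨⟨c, le_sup_left (a := P) hc'⟩, by rw [Subgroup.mem_subgroupOf]; exact hc'⟩
    exact congrArg (fun x : ↥(P.subgroupOf (P ⊔ Subgroup.centralizer (P : Set G))) =>
      ((x : ↥(P ⊔ Subgroup.centralizer (P : Set G))) : G)) this
  obtain ⟨θ₁, hθ₁b, hθ₁deg⟩ := exists_mem_block_pos_height hM _ hP' hG' _ ⟨θ, rfl⟩ hbP hnab'
  obtain ⟨χ, hχB, hχc⟩ := Cfsg.Agent.S0934.result p M hM _ _ B hindNB θ₁ hθ₁b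
  -- the stabilizer
  obtain ⟨T, hTdef⟩ : ∃ T : Subgroup G, T = blockStab (P ⊔ Subgroup.centralizer (P : Set G)) hNn
    (Cfsg.blockOf M (θ : ↥(P ⊔ Subgroup.centralizer (P : Set G)) → ℂ)) := ⟨_, rfl⟩
  haveI : Fintype T := Fintype.ofFinite _
  have hNT : P ⊔ Subgroup.centralizer (P : Set G) ≤ T := by
    rw [hTdef]; exact le_blockStab _ hNn _
  have hT : ∀ g : G, g ∈ T ↔ ∀ θ' ∈ Cfsg.blockOf M (θ : ↥(P ⊔ Subgroup.centralizer (P : Set G)) → ℂ),
      irrConj (P ⊔ Subgroup.centralizer (P : Set G)) hNn g θ'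
        ∈ Cfsg.blockOf M (θ : ↥(P ⊔ Subgroup.centralizer (P : Set G)) → ℂ) := by
    intro g
    rw [hTdef]
    exact mem_blockStab_iff _ hNn hM _ ⟨θ, rfl⟩ g
  have huniq : ∀ β' : Set (Cfsg.IrrCharacter G), Cfsg.IsPBlock M β' →
      (∃ χ ∈ β', ∃ θ' ∈ Cfsg.blockOf M (θ : ↥(P ⊔ Subgroup.centralizer (P : Set G)) → ℂ),
        Cfsg.classInner (fun n : ↥(P ⊔ Subgroup.centralizer (P : Set G)) => (χ : G → ℂ) n)
        (θ' : ↥(P ⊔ Subgroup.centralizer (P : Set G)) → ℂ) ≠ 0) → β' = B := by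
    intro β' hβ' hcov'
    exact IsInducedBlock.unique _ hM (h71 β' hβ' hcov') hindNB
  have hform := blockDefect_of_unique_cover (P ⊔ Subgroup.centralizer (P : Set G)) hNn T hNT _ hT
    hM ⟨θ, rfl⟩ B ⟨χ₀, hBχ₀⟩ hcov huniq
  have c1 := Cfsg.Agent.S0908.result p M hM B ⟨χ₀, hBχ₀⟩ P hP
  have c2 := Cfsg.Agent.S0908.result p M hM _ ⟨θ, rfl⟩ _ hbP
  rw [Nat.card_congr (Subgroup.subgroupOfEquivOfLe (le_sup_left :
    P ≤ P ⊔ Subgroup.centralizer (P : Set G))).toEquiv, c1] at c2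
  have c3 := Nat.pow_right_injective hpp.two_le c2
  have hrel0 : ((P ⊔ Subgroup.centralizer (P : Set G)).relIndex T).factorization p = 0 := by
    omega
  -- Clifford correspondence
  obtain ⟨ψ, hψc, hψχ⟩ := exists_indFun_eq_of_stab (P ⊔ Subgroup.centralizer (P : Set G)) hNn T hNT
    θ₁ (stab_le_of_mem _ hNn T _ hT hM ⟨θ, rfl⟩ hθ₁b) χ hχc
  have hirr : Cfsg.IsIrrCharacter G (Cfsg.indFun T (ψ : T → ℂ)) := by
    rw [hψχ]; exact χ.2
  have hdegχ := charDegree_indFun T ψ hirr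
  rw [hψχ] at hdegχ
  haveI : Fintype ((P ⊔ Subgroup.centralizer (P : Set G)).subgroupOf T) := Fintype.ofFinite _
  have hdvd : Cfsg.charDegree (θ₁ : ↥(P ⊔ Subgroup.centralizer (P : Set G)) → ℂ)
      ∣ Cfsg.charDegree (ψ : T → ℂ) := by
    have := charDegree_dvd_of_constituent ((P ⊔ Subgroup.centralizer (P : Set G)).subgroupOf T)
      (hNn.subgroupOf T) ψ (irrSub _ T hNT θ₁)
      (by rw [classInner_restrict_irrSub]; exact hψc)
    rwa [charDegree_irrSub] at this
  have hle : (Cfsg.charDegree (θ₁ : ↥(P ⊔ Subgroup.centralizer (P : Set G)) → ℂ)).factorization p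
      ≤ (Cfsg.charDegree (ψ : T → ℂ)).factorization p :=
    (Nat.factorization_le_iff_dvd (charDegree_ne_zero θ₁) (charDegree_ne_zero ψ)).mpr hdvd p
  have hχfac : (Cfsg.charDegree (χ : G → ℂ)).factorization p
      = T.index.factorization p + (Cfsg.charDegree (ψ : T → ℂ)).factorization p := by
    rw [hdegχ, Nat.factorization_mul T.index_ne_zero_of_finite (charDegree_ne_zero ψ)]
    rfl
  have hidx1 : (P ⊔ Subgroup.centralizer (P : Set G)).index.factorization p
      = ((P ⊔ Subgroup.centralizer (P : Set G)).relIndex T).factorization p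
        + T.index.factorization p := by
    rw [← Subgroup.relIndex_mul_index hNT, Nat.factorization_mul
      (by unfold Subgroup.relIndex; exact Subgroup.index_ne_zero_of_finite)
      T.index_ne_zero_of_finite]
    rfl
  have hidx2 : P.index.factorization p
      = (P.subgroupOf (P ⊔ Subgroup.centralizer (P : Set G))).index.factorization p
        + (P ⊔ Subgroup.centralizer (P : Set G)).index.factorization p := by
    rw [← Subgroup.relIndex_mul_index (le_sup_left : P ≤ P ⊔ Subgroup.centralizer (P : Set G)),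
      Nat.factorization_mul
      (by unfold Subgroup.relIndex; exact Subgroup.index_ne_zero_of_finite)
      Subgroup.index_ne_zero_of_finite]
    rfl
  have hsInf := sInf_eq_index_factorization hM B ⟨χ₀, hBχ₀⟩ P hP
  have hht := hh χ hχB
  unfold Cfsg.blockHeight at hht
  rw [hsInf] at hht
  omega

/-- a block with a normal abelian defect group has all heights zero -/
theorem all_height_zero_of_abelian (hM : Cfsg.IsPModular p M) (B : Set (Cfsg.IrrCharacter G))
    (hB : Cfsg.IsPBlock M B) (P : Subgroup G) (hPn : P.Normal)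
    (hP : Cfsg.IsDefectGroup p M B P) (hcomm : ∀ a ∈ P, ∀ c ∈ P, a * c = c * a) :
    ∀ χ ∈ B, Cfsg.blockHeight p B (χ : G → ℂ) = 0 := by
  intro χ hχ
  obtain ⟨d, hd1, hd2⟩ := ito_aux (Nat.card G) G rfl P hPn hcomm (χ : G → ℂ) χ.2
  have hd : d = Cfsg.charDegree (χ : G → ℂ) := by
    rw [IsCharacter.apply_one_eq_charDegree (IsIrrCharacter.isCharacter χ.2)] at hd1
    exact_mod_cast hd1.symm
  rw [hd] at hd2
  have hle : (Cfsg.charDegree (χ : G → ℂ)).factorization p ≤ P.index.factorization p :=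
    (Nat.factorization_le_iff_dvd (charDegree_ne_zero χ) P.index_ne_zero_of_finite).mpr hd2 p
  unfold Cfsg.blockHeight
  rw [sInf_eq_index_factorization hM B hB P hP]
  omega

end normalAbel

end Cfsg.Agent.Lib.Helper6
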