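import Mathlib
import Cfsg.Prelude.Def_Blocks
import Cfsg.Prelude.Def_BrauerPairs
import Cfsg.Prelude.Def_BlockFusion
import Cfsg.Agent.Lib.Helper6.BrFus
import Cfsg.Agent.Lib.Helper6.BrNorm

set_option autoImplicit false
set_option linter.unusedSectionVars false
open Cfsg

namespace Cfsg.Agent.Lib.Helper6

open scoped ComplexConjugate

section fusion2

variable {G : Type*} [Group G] [Fintype G] [DecidableEq G]
variable {p : ℕ} [Fact p.Prime] {M : Ideal Cfsg.AlgInt}

/-- defect groups of the blocks of the stabilizers of `(Q, f)` and of a conjugate with the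
idempotents of `f` and its conjugate have the same order -/
theorem card_isDefectGroup_stab_conj (hM : Cfsg.IsPModular p M) (Q : Subgroup G) (x : G)
    (f : Set (Cfsg.IrrCharacter (Subgroup.centralizer (Q : Set G))))
    (T₀ : Subgroup G)
    (hT₀ : ∀ y : G, y ∈ T₀ ↔ y ∈ Subgroup.normalizer (Q : Set G) ∧
      Cfsg.StabilizesBlock (Subgroup.centralizer (Q : Set G)) f y)
    (T' : Subgroup G)
    (hT' : ∀ y : G, y ∈ T' ↔
      y ∈ Subgroup.normalizer ((Q.map (MulAut.conj x).toMonoidHom : Subgroup G) : Set G) ∧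
      Cfsg.StabilizesBlock
        (Subgroup.centralizer ((Q.map (MulAut.conj x).toMonoidHom : Subgroup G) : Set G))
        (Cfsg.conjBlock Q x f) y)
    (F₀ : Set (Cfsg.IrrCharacter T₀))
    (hcoef₀ : ∀ t : T₀, Cfsg.blockCoeff F₀ t
      = Cfsg.subgroupBlockCoeff (Subgroup.centralizer (Q : Set G)) f (t : G))
    (F' : Set (Cfsg.IrrCharacter T')) (hF' : Cfsg.IsPBlock M F')
    (hcoef' : ∀ t : T', Cfsg.blockCoeff F' t = Cfsg.subgroupBlockCoeff
      (Subgroup.centralizer ((Q.map (MulAut.conj x).toMonoidHom : Subgroup G) : Set G))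
      (Cfsg.conjBlock Q x f) (t : G))
    (D₀ : Subgroup T₀) (hD₀ : Cfsg.IsDefectGroup p M F₀ D₀)
    (D' : Subgroup T') (hD' : Cfsg.IsDefectGroup p M F' D') :
    Nat.card D' = Nat.card D₀ := by
  classical
  have : Fintype T₀ := Fintype.ofFinite _
  have : Fintype T' := Fintype.ofFinite _
  have hTT' : ∀ y : G, y ∈ T' ↔ x⁻¹ * y * x ∈ T₀ := by
    intro y
    rw [hT', hT₀, mem_normalizer_map_conj_iff, stabilizesBlock_conj_iff]
  have hFF' : mapIrr (conjSubEquiv T₀ T' x hTT') '' F₀ = F' := by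
    apply Cfsg.Agent.S4672.eq_of_blockCoeff_eq
    intro t
    rw [blockCoeff_mapIrr_image, hcoef₀, hcoef', conjSubEquiv_symm_apply_coe,
      subgroupBlockCoeff_conjBlock]
  have hDφ : Cfsg.IsDefectGroup p M F' (D₀.map (conjSubEquiv T₀ T' x hTT').toMonoidHom) := by
    rw [← hFF']
    exact IsDefectGroup.mapIrr _ hD₀
  rw [card_eq_of_isDefectGroup hM _ hF' _ _ hD' hDφ]
  exact Subgroup.card_map_of_injective (conjSubEquiv T₀ T' x hTT').injective

theorem card_subgroupOf_of_le {H T : Subgroup G} (h : H ≤ T) :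
    Nat.card (H.subgroupOf T) = Nat.card H :=
  Nat.card_congr (Subgroup.subgroupOfEquivOfLe h).toEquiv

/-- fully normalized subgroups in the fusion system of a block -/
theorem blockFusion_isFullyNormalized_iff (hM : Cfsg.IsPModular p M)
    (B : Set (Cfsg.IrrCharacter G))
    (P : Subgroup G) (e : Set (Cfsg.IrrCharacter (Subgroup.centralizer (P : Set G))))
    (F : Cfsg.FusionSystem P) (hF : Cfsg.IsBlockFusionSystemOn p M B P e F)
    (Q : Subgroup G) (f : Set (Cfsg.IrrCharacter (Subgroup.centralizer (Q : Set G))))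
    (hQP : Q ≤ P) (hf : Cfsg.IsPBlock M f) (hle : Cfsg.SubpairLE p M Q f P e)
    (T : Subgroup G) (hT : ∀ y : G, y ∈ T ↔ y ∈ Subgroup.normalizer (Q : Set G) ∧
      Cfsg.StabilizesBlock (Subgroup.centralizer (Q : Set G)) f y) :
    F.IsFullyNormalized Q ↔ ∃ F' : Set (Cfsg.IrrCharacter T), Cfsg.IsPBlock M F' ∧
      (∀ t : T, Cfsg.blockCoeff F' t
        = Cfsg.subgroupBlockCoeff (Subgroup.centralizer (Q : Set G)) f (t : G)) ∧
      Cfsg.IsDefectGroup p M F' ((P ⊓ Subgroup.normalizer (Q : Set G)).subgroupOf T) := by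
  classical
  have hmax := hF.1
  have hPe := hmax.1.1
  have hQp : IsPGroup p Q := hPe.1.to_le hQP
  constructor
  · rintro ⟨_, hfn⟩
    obtain ⟨x, hx, hTx⟩ := exists_conj_isDefectGroup_normalizerIn hM B P Q e f hmax hQP hf hle
    have hconj : F.IsConj Q (Q.map (MulAut.conj x).toMonoidHom) :=
      (blockFusion_isConj_iff hM B P e F hF Q f hQP hf hle _).mpr ⟨x, rfl, hx⟩
    have hc := hfn _ hconj
    unfold Cfsg.FusionSystem.normalizerIn at hc
    -- the stabilizer of the conjugate
    obtain ⟨T', hT'def⟩ : ∃ T' : Subgroup G,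
        T' = stabSub (Subgroup.centralizer
            ((Q.map (MulAut.conj x).toMonoidHom : Subgroup G) : Set G)) (Cfsg.conjBlock Q x f)
          ⊓ Subgroup.normalizer ((Q.map (MulAut.conj x).toMonoidHom : Subgroup G) : Set G) :=
      ⟨_, rfl⟩
    have hT' : ∀ y : G, y ∈ T' ↔
        y ∈ Subgroup.normalizer ((Q.map (MulAut.conj x).toMonoidHom : Subgroup G) : Set G) ∧
        Cfsg.StabilizesBlock
          (Subgroup.centralizer ((Q.map (MulAut.conj x).toMonoidHom : Subgroup G) : Set G))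
          (Cfsg.conjBlock Q x f) y := by
      intro y
      rw [hT'def, Subgroup.mem_inf, mem_stabSub_iff]
      exact And.comm
    obtain ⟨F'', hF'', hcoef'', hDx⟩ := hTx T' hT'
    obtain ⟨F', hF', hcoef'⟩ := exists_block_of_stabilizer hM Q hQp f hf T hT
    obtain ⟨hNT, D, hD, hXD⟩ := exists_isDefectGroup_ge_normalizerIn hM P Q e f hPe hQP hf hle T hT
      F' hF' hcoef'
    refine ⟨F', hF', hcoef', ?_⟩
    have hQxP := le_of_chain _ _ hx
    obtain ⟨hNT', _⟩ := exists_isDefectGroup_ge_normalizerIn hM P _ e _ hPe hQxP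
      (isPBlock_conjBlock Q x hf) hx T' hT' F'' hF'' hcoef''
    have h1 := card_isDefectGroup_stab_conj hM Q x f T hT T' hT' F' hcoef' F'' hF'' hcoef'' D hD
      _ hDx
    rw [card_subgroupOf_of_le hNT'] at h1
    have h2 : Nat.card D ≤ Nat.card ((P ⊓ Subgroup.normalizer (Q : Set G)).subgroupOf T) := by
      rw [card_subgroupOf_of_le hNT, ← h1]
      exact hc
    have := Subgroup.eq_of_le_of_card_ge hXD h2
    rw [this]
    exact hD
  · rintro ⟨F', hF', hcoef', hX⟩
    refine ⟨hQP, ?_⟩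
    intro Q' hQ'
    obtain ⟨g, rfl, hg⟩ := (blockFusion_isConj_iff hM B P e F hF Q f hQP hf hle _).mp hQ'
    have hQgP := le_of_chain _ _ hg
    obtain ⟨T', hT'def⟩ : ∃ T' : Subgroup G,
        T' = stabSub (Subgroup.centralizer
            ((Q.map (MulAut.conj g).toMonoidHom : Subgroup G) : Set G)) (Cfsg.conjBlock Q g f)
          ⊓ Subgroup.normalizer ((Q.map (MulAut.conj g).toMonoidHom : Subgroup G) : Set G) :=
      ⟨_, rfl⟩
    have hT' : ∀ y : G, y ∈ T' ↔
        y ∈ Subgroup.normalizer ((Q.map (MulAut.conj g).toMonoidHom : Subgroup G) : Set G) ∧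
        Cfsg.StabilizesBlock
          (Subgroup.centralizer ((Q.map (MulAut.conj g).toMonoidHom : Subgroup G) : Set G))
          (Cfsg.conjBlock Q g f) y := by
      intro y
      rw [hT'def, Subgroup.mem_inf, mem_stabSub_iff]
      exact And.comm
    have hfg := isPBlock_conjBlock (M := M) Q g hf
    obtain ⟨F'', hF'', hcoef''⟩ := exists_block_of_stabilizer hM _ (hQp.map _) _ hfg T' hT'
    obtain ⟨hNT', D', hD', hle'⟩ := exists_isDefectGroup_ge_normalizerIn hM P _ e _ hPe hQgP
      hfg hg T' hT' F'' hF'' hcoef''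
    obtain ⟨hNT, _⟩ := exists_isDefectGroup_ge_normalizerIn hM P Q e f hPe hQP hf hle T hT
      F' hF' hcoef'
    have h1 := card_isDefectGroup_stab_conj hM Q g f T hT T' hT' F' hcoef' F'' hF'' hcoef'' _ hX
      D' hD'
    unfold Cfsg.FusionSystem.normalizerIn
    rw [← card_subgroupOf_of_le hNT', ← card_subgroupOf_of_le hNT, ← h1]
    exact Subgroup.card_le_of_le hle'

end fusion2

end Cfsg.Agent.Lib.Helper6
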