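import Mathlib
import Cfsg.Prelude.Def_Blocks
import Cfsg.Prelude.Def_BrauerPairs
import Cfsg.Agent.Lib.Helper6.BrFus2

set_option autoImplicit false
set_option linter.unusedSectionVars false
open Cfsg

namespace Cfsg.Agent.Lib.Helper6

open scoped ComplexConjugate

section rel

variable {G : Type*} [Group G] [Fintype G] [DecidableEq G]
variable {p : ℕ} [Fact p.Prime] {M : Ideal Cfsg.AlgInt}
variable (L R : Subgroup G)

theorem coe_mem_centralizer_of_rel (hRL : R ≤ L)
    (c : Subgroup.centralizer ((R.subgroupOf L : Subgroup L) : Set L)) :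
    ((c : L) : G) ∈ Subgroup.centralizer (R : Set G) := by
  rw [Subgroup.mem_centralizer_iff]
  intro r hr
  have h1 := Subgroup.mem_centralizer_iff.mp c.2 ⟨r, hRL hr⟩ (by
    change (⟨r, hRL hr⟩ : L) ∈ R.subgroupOf L
    rw [Subgroup.mem_subgroupOf]
    exact hr)
  have h2 := congrArg (Subtype.val : L → G) h1
  simpa using h2

theorem mem_centralizer_rel_of_mem (hCL : Subgroup.centralizer (R : Set G) ≤ L) (d : G) (hd : d ∈ Subgroup.centralizer (R : Set G)) :
    (⟨d, hCL hd⟩ : L) ∈ Subgroup.centralizer ((R.subgroupOf L : Subgroup L) : Set L) := by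
  rw [Subgroup.mem_centralizer_iff]
  intro r hr
  rw [SetLike.mem_coe, Subgroup.mem_subgroupOf] at hr
  apply Subtype.ext
  rw [Subgroup.coe_mul, Subgroup.coe_mul]
  exact Subgroup.mem_centralizer_iff.mp hd _ hr

/-- the centralizer of `R` computed inside `L` is the centralizer in `G`, when the latter lies
in `L` -/
noncomputable def cEquiv (hRL : R ≤ L) (hCL : Subgroup.centralizer (R : Set G) ≤ L) :
    Subgroup.centralizer ((R.subgroupOf L : Subgroup L) : Set L)
      ≃* Subgroup.centralizer (R : Set G) where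
  toFun c := ⟨((c : L) : G), coe_mem_centralizer_of_rel L R hRL c⟩
  invFun d := ⟨⟨(d : G), hCL d.2⟩, mem_centralizer_rel_of_mem L R hCL d d.2⟩
  left_inv c := by
    apply Subtype.ext
    apply Subtype.ext
    rfl
  right_inv d := by
    apply Subtype.ext
    rfl
  map_mul' c d := by
    apply Subtype.ext
    rfl

theorem cEquiv_apply_coe (hRL : R ≤ L) (hCL : Subgroup.centralizer (R : Set G) ≤ L) (c : Subgroup.centralizer ((R.subgroupOf L : Subgroup L) : Set L)) :
    ((cEquiv L R hRL hCL c : _) : G) = ((c : L) : G) := rfl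

theorem cEquiv_symm_apply_coe (hRL : R ≤ L) (hCL : Subgroup.centralizer (R : Set G) ≤ L) (d : Subgroup.centralizer (R : Set G)) :
    ((((cEquiv L R hRL hCL).symm d : _) : L) : G) = (d : G) := rfl

/-- the Brauer central character value computed inside `L` -/
theorem brauerOmega_rel (hRL : R ≤ L) (hCL : Subgroup.centralizer (R : Set G) ≤ L) (β : L → ℂ) (ξ : Cfsg.IrrCharacter (Subgroup.centralizer (R : Set G))) :
    Cfsg.brauerOmega (R.subgroupOf L) β
        (mapIrr (cEquiv L R hRL hCL).symm ξ : _ → ℂ)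
      = Cfsg.brauerOmega R (Cfsg.extendByZero L β) (ξ : _ → ℂ) := by
  unfold Cfsg.brauerOmega
  rw [← finsum_comp_equiv (cEquiv L R hRL hCL).symm.toEquiv]
  apply finsum_congr
  intro d
  have h1 : ((cEquiv L R hRL hCL).symm.toEquiv d) = (cEquiv L R hRL hCL).symm d := rfl
  rw [h1, mapIrr_apply_apply, mapIrr_apply_one, extendByZero_of_mem L β (hCL d.2)]
  rfl

/-- a Brauer pair of a block of `L`, in terms of the ambient group -/
theorem isBrauerPairOf_rel_iff (hRL : R ≤ L) (hCL : Subgroup.centralizer (R : Set G) ≤ L) (b : Set (Cfsg.IrrCharacter L))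
    (e : Set (Cfsg.IrrCharacter (Subgroup.centralizer (R : Set G)))) :
    Cfsg.IsBrauerPairOf p M b (R.subgroupOf L) (mapIrr (cEquiv L R hRL hCL).symm '' e)
      ↔ IsPGroup p R ∧ Cfsg.IsPBlock M e ∧ Cfsg.IsPBlock M b ∧
        ∀ ξ ∈ e, Cfsg.MemLocalIdeal M
          (Cfsg.brauerOmega R (Cfsg.subgroupBlockCoeff L b) (ξ : _ → ℂ) - 1) := by
  have hpg : IsPGroup p (R.subgroupOf L) ↔ IsPGroup p R := by
    constructor
    · intro h
      have := h.map L.subtype
      rwa [Subgroup.map_subgroupOf_eq_of_le hRL] at this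
    · intro h
      rw [← Subgroup.comap_subtype]
      exact h.comap_subtype
  have hblk : Cfsg.IsPBlock M (mapIrr (cEquiv L R hRL hCL).symm '' e) ↔ Cfsg.IsPBlock M e := by
    constructor
    · intro h
      have := isPBlock_mapIrr_image (cEquiv L R hRL hCL) h
      have h2 := mapIrr_symm_image_image (cEquiv L R hRL hCL).symm e
      rw [MulEquiv.symm_symm] at h2
      rwa [h2] at this
    · exact isPBlock_mapIrr_image _
  constructor
  · rintro ⟨⟨h1, h2⟩, h3, h4⟩
    refine ⟨hpg.mp h1, hblk.mp h2, h3, ?_⟩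
    intro ξ hξ
    have := h4 _ ⟨ξ, hξ, rfl⟩
    rw [brauerOmega_rel, ← subgroupBlockCoeff_eq_extendByZero] at this
    exact this
  · rintro ⟨h1, h2, h3, h4⟩
    refine ⟨⟨hpg.mpr h1, hblk.mpr h2⟩, h3, ?_⟩
    rintro _ ⟨ξ, hξ, rfl⟩
    rw [brauerOmega_rel, ← subgroupBlockCoeff_eq_extendByZero]
    exact h4 ξ hξ


/-- compatibility of the conjugation actions on characters of `C_L(R)` and `C_G(R)` -/
theorem autIrr_nAut_rel (hRL : R ≤ L) (hCL : Subgroup.centralizer (R : Set G) ≤ L) (n : L)
    (hnL : n ∈ Subgroup.normalizer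
      ((Subgroup.centralizer ((R.subgroupOf L : Subgroup L) : Set L) : Subgroup L) : Set L))
    (hnG : (n : G) ∈ Subgroup.normalizer
      ((Subgroup.centralizer (R : Set G) : Subgroup G) : Set G))
    (ξ : Cfsg.IrrCharacter (Subgroup.centralizer (R : Set G))) :
    autIrr (nAut (Subgroup.centralizer ((R.subgroupOf L : Subgroup L) : Set L)) n hnL)
        (mapIrr (cEquiv L R hRL hCL).symm ξ)
      = mapIrr (cEquiv L R hRL hCL).symm
          (autIrr (nAut (Subgroup.centralizer (R : Set G)) (n : G) hnG) ξ) := by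
  apply Subtype.ext
  funext c'
  rw [autIrr_apply, mapIrr_apply, mapIrr_apply, autIrr_apply]
  apply congrArg
  apply Subtype.ext
  rw [MulEquiv.symm_symm, cEquiv_apply_coe, nAut_inv_apply_coe, nAut_inv_apply_coe, cEquiv_apply_coe]
  simp

theorem autIrr_nAut_rel_image (hRL : R ≤ L) (hCL : Subgroup.centralizer (R : Set G) ≤ L) (n : L)
    (hnL : n ∈ Subgroup.normalizer
      ((Subgroup.centralizer ((R.subgroupOf L : Subgroup L) : Set L) : Subgroup L) : Set L))
    (hnG : (n : G) ∈ Subgroup.normalizer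
      ((Subgroup.centralizer (R : Set G) : Subgroup G) : Set G))
    (e : Set (Cfsg.IrrCharacter (Subgroup.centralizer (R : Set G)))) :
    autIrr (nAut (Subgroup.centralizer ((R.subgroupOf L : Subgroup L) : Set L)) n hnL) ''
        (mapIrr (cEquiv L R hRL hCL).symm '' e)
      = mapIrr (cEquiv L R hRL hCL).symm ''
          (autIrr (nAut (Subgroup.centralizer (R : Set G)) (n : G) hnG) '' e) := by
  rw [Set.image_image, Set.image_image]
  apply Set.image_congr
  intro ξ _
  exact autIrr_nAut_rel L R hRL hCL n hnL hnG ξ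

theorem coe_mem_normalizer_of_rel (hRL : R ≤ L) (n : L)
    (hn : n ∈ Subgroup.normalizer ((R.subgroupOf L : Subgroup L) : Set L)) :
    (n : G) ∈ Subgroup.normalizer (R : Set G) := by
  rw [Subgroup.mem_normalizer_iff] at hn ⊢
  intro g
  constructor
  · intro hg
    have := (hn ⟨g, hRL hg⟩).mp (by rw [Subgroup.mem_subgroupOf]; exact hg)
    rw [Subgroup.mem_subgroupOf] at this
    simpa using this
  · intro hg
    have hgL : g ∈ L := by
      have h1 : (n : G)⁻¹ * ((n : G) * g * (n : G)⁻¹) * (n : G) ∈ L :=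
        L.mul_mem (L.mul_mem (L.inv_mem n.2) (hRL hg)) n.2
      have e : (n : G)⁻¹ * ((n : G) * g * (n : G)⁻¹) * (n : G) = g := by group
      rwa [e] at h1
    have := (hn ⟨g, hgL⟩).mpr (by
      rw [Subgroup.mem_subgroupOf]
      simpa using hg)
    rw [Subgroup.mem_subgroupOf] at this
    exact this

end rel

end Cfsg.Agent.Lib.Helper6
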