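import Mathlib
import Cfsg.Prelude.Def_Blocks
import Cfsg.Prelude.Def_BrauerPairs
import Cfsg.Agent.Lib.Helper6.BrRel

set_option autoImplicit false
set_option linter.unusedSectionVars false
open Cfsg

namespace Cfsg.Agent.Lib.Helper6

open scoped ComplexConjugate

section abel

variable {G : Type*} [Group G] [Fintype G] [DecidableEq G]
variable {p : ℕ} [Fact p.Prime] {M : Ideal Cfsg.AlgInt}

/-- for an abelian maximal pair group `P ≥ Q`, `P` is a defect group of `f` in `C_G(Q)` -/
theorem isDefectGroup_of_abelian (hM : Cfsg.IsPModular p M) (B : Set (Cfsg.IrrCharacter G))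
    (P : Subgroup G) (e : Set (Cfsg.IrrCharacter (Subgroup.centralizer (P : Set G))))
    (hmax : Cfsg.IsMaximalBrauerPair p M B P e)
    (hab : ∀ x ∈ P, ∀ y ∈ P, x * y = y * x) (Q : Subgroup G)
    (f : Set (Cfsg.IrrCharacter (Subgroup.centralizer (Q : Set G)))) (hQP : Q ≤ P)
    (hf : Cfsg.IsPBlock M f) (hle : Cfsg.SubpairLE p M Q f P e) :
    Cfsg.IsDefectGroup p M f (P.subgroupOf (Subgroup.centralizer (Q : Set G))) := by
  classical
  have hPe := hmax.1.1
  have hPC : ∀ Q' : Subgroup G, Q' ≤ P → P ≤ Subgroup.centralizer (Q' : Set G) := by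
    intro Q' hQ' u hu
    rw [Subgroup.mem_centralizer_iff]
    intro q hq
    exact hab q (hQ' hq) u hu
  obtain ⟨D, hD, hXD⟩ := exists_isDefectGroup_ge_centralizerIn hM P Q e f hPe hQP hf hle
  obtain ⟨x, hx, hDx⟩ := exists_conj_isDefectGroup_centralizerIn hM B P Q e f hmax hQP hf hle
  have hQxP := le_of_chain _ _ hx
  have h1 := card_isDefectGroup_conjBlock hM Q x f hf D _ hD hDx
  rw [card_subgroupOf_inf_right, inf_of_le_left (hPC _ hQxP)] at h1
  have hinf : P ⊓ Subgroup.centralizer (Q : Set G) = P := inf_of_le_left (hPC Q hQP)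
  rw [hinf] at hXD
  have h2 : Nat.card D ≤ Nat.card (P.subgroupOf (Subgroup.centralizer (Q : Set G))) := by
    rw [card_subgroupOf_of_le (hPC Q hQP), ← h1]
  have := Subgroup.eq_of_le_of_card_ge hXD h2
  rw [this]
  exact hD


theorem conjPair_of_stab (Q : Subgroup G)
    (f : Set (Cfsg.IrrCharacter (Subgroup.centralizer (Q : Set G)))) {x : G}
    (hxN : x ∈ Subgroup.normalizer (Q : Set G))
    (hxst : Cfsg.StabilizesBlock (Subgroup.centralizer (Q : Set G)) f x) :
    conjPair x ⟨Q, f⟩ = ⟨Q, f⟩ := by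
  rw [conjPair_of_mem_normalizer Q hxN]
  obtain ⟨hx', h⟩ := (stabilizesBlock_iff _ f x).mp hxst
  rw [h]

/-- for abelian `P`, an element stabilizing `(Q, f) ≤ (P, e)` is the product of an element
stabilizing `(P, e)` and an element of `C_G(Q)` -/
theorem exists_mul_of_abelian (hM : Cfsg.IsPModular p M) (B : Set (Cfsg.IrrCharacter G))
    (P : Subgroup G) (e : Set (Cfsg.IrrCharacter (Subgroup.centralizer (P : Set G))))
    (hmax : Cfsg.IsMaximalBrauerPair p M B P e)
    (hab : ∀ x ∈ P, ∀ y ∈ P, x * y = y * x) (Q : Subgroup G)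
    (f : Set (Cfsg.IrrCharacter (Subgroup.centralizer (Q : Set G)))) (hQP : Q ≤ P)
    (hf : Cfsg.IsPBlock M f) (hle : Cfsg.SubpairLE p M Q f P e) (x : G)
    (hxN : x ∈ Subgroup.normalizer (Q : Set G))
    (hxst : Cfsg.StabilizesBlock (Subgroup.centralizer (Q : Set G)) f x) :
    ∃ y : G, y ∈ Subgroup.normalizer (P : Set G) ∧
      Cfsg.StabilizesBlock (Subgroup.centralizer (P : Set G)) e y ∧
      ∃ c ∈ Subgroup.centralizer (Q : Set G), x = y * c := by
  classical
  have : Fintype (Subgroup.centralizer (Q : Set G)) := Fintype.ofFinite _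
  have : Fintype (Subgroup.centralizer (P : Set G)) := Fintype.ofFinite _
  have hPe := hmax.1.1
  have hP := hPe.1
  have hPH : P ≤ Subgroup.centralizer (Q : Set G) := by
    intro u hu
    rw [Subgroup.mem_centralizer_iff]
    intro q hq
    exact hab q (hQP hq) u hu
  have hCP : Subgroup.centralizer (P : Set G) ≤ Subgroup.centralizer (Q : Set G) :=
    Subgroup.centralizer_le hQP
  have hPdef := isDefectGroup_of_abelian hM B P e hmax hab Q f hQP hf hle
  -- step 2: the conjugate of `P` by `x` is again a defect group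
  have hxNH := normalizer_le_normalizer_centralizer Q hxN
  obtain ⟨_, hσf⟩ := (stabilizesBlock_iff _ f x).mp hxst
  have hPdef' : Cfsg.IsDefectGroup p M f
      ((P.subgroupOf (Subgroup.centralizer (Q : Set G))).map
        (nAut (Subgroup.centralizer (Q : Set G)) x hxNH : _ ≃* _).toMonoidHom) := by
    have h1 := IsDefectGroup.mapIrr (p := p) (M := M)
      (nAut (Subgroup.centralizer (Q : Set G)) x hxNH : _ ≃* _) hPdef
    have h2 : mapIrr (nAut (Subgroup.centralizer (Q : Set G)) x hxNH : _ ≃* _) '' f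
        = autIrr (nAut (Subgroup.centralizer (Q : Set G)) x hxNH) '' f :=
      Set.image_congr (fun θ _ => mapIrr_eq_autIrr _ θ)
    rw [h2, hσf] at h1
    exact h1
  -- step 3: conjugacy in `C_G(Q)`
  obtain ⟨θ₀, hθ₀⟩ := hf
  rw [hθ₀] at hPdef hPdef'
  obtain ⟨c₁, hc₁⟩ := isDefectGroup_conj hM θ₀ _ _ hPdef hPdef'
  -- `x₁ = c₁⁻¹ x` normalizes `P`
  obtain ⟨x₁, hx₁def⟩ : ∃ x₁ : G, x₁ = (c₁ : G)⁻¹ * x := ⟨_, rfl⟩
  have hx₁P : x₁ ∈ Subgroup.normalizer (P : Set G) := by
    apply mem_normalizer_of_map_conj_eq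
    ext g
    rw [mem_map_conj_iff]
    constructor
    · intro hg
      -- `x (x₁⁻¹ g x₁) x⁻¹ = c₁ g c₁⁻¹`
      have h1 : (⟨x * (x₁⁻¹ * g * x₁) * x⁻¹, by
          have := (Subgroup.mem_normalizer_iff.mp hxNH (x₁⁻¹ * g * x₁)).mp (hPH hg)
          exact this⟩ : Subgroup.centralizer (Q : Set G))
          ∈ (P.subgroupOf (Subgroup.centralizer (Q : Set G))).map
            (nAut (Subgroup.centralizer (Q : Set G)) x hxNH : _ ≃* _).toMonoidHom := by
        refine ⟨⟨x₁⁻¹ * g * x₁, hPH hg⟩, ?_, ?_⟩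
        · rw [SetLike.mem_coe, Subgroup.mem_subgroupOf]
          exact hg
        · apply Subtype.ext
          change ((nAut (Subgroup.centralizer (Q : Set G)) x hxNH ⟨x₁⁻¹ * g * x₁, hPH hg⟩ : _) : G)
            = _
          rw [nAut_apply_coe]
      rw [hc₁] at h1
      obtain ⟨u, hu, hue⟩ := h1
      rw [SetLike.mem_coe, Subgroup.mem_subgroupOf] at hu
      have h2 := congrArg (Subtype.val : Subgroup.centralizer (Q : Set G) → G) hue
      simp only [MulEquiv.coe_toMonoidHom, MulAut.conj_apply, Subgroup.coe_mul,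
        Subgroup.coe_inv] at h2
      -- `c₁ u c₁⁻¹ = x (x₁⁻¹ g x₁) x⁻¹`
      have h3 : g = (u : G) := by
        have h4 : x * (x₁⁻¹ * g * x₁) * x⁻¹ = (c₁ : G) * g * (c₁ : G)⁻¹ := by
          rw [hx₁def]
          group
        rw [h4] at h2
        have h5 := mul_left_cancel (mul_right_cancel h2)
        exact h5.symm
      rw [h3]
      exact hu
    · intro hg
      -- `c₁ g c₁⁻¹ ∈ x P x⁻¹`
      have h1 : (MulAut.conj c₁).toMonoidHom ⟨g, hPH hg⟩
          ∈ (P.subgroupOf (Subgroup.centralizer (Q : Set G))).map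
            (MulAut.conj c₁).toMonoidHom := by
        refine ⟨⟨g, hPH hg⟩, ?_, rfl⟩
        rw [SetLike.mem_coe, Subgroup.mem_subgroupOf]
        exact hg
      rw [← hc₁] at h1
      obtain ⟨u, hu, hue⟩ := h1
      rw [SetLike.mem_coe, Subgroup.mem_subgroupOf] at hu
      have h2 := congrArg (Subtype.val : Subgroup.centralizer (Q : Set G) → G) hue
      change ((nAut (Subgroup.centralizer (Q : Set G)) x hxNH u : _) : G) = _ at h2
      rw [nAut_apply_coe] at h2
      simp only [MulEquiv.coe_toMonoidHom, MulAut.conj_apply, Subgroup.coe_mul,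
        Subgroup.coe_inv] at h2
      -- `x u x⁻¹ = c₁ g c₁⁻¹`
      have h3 : x₁⁻¹ * g * x₁ = (u : G) := by
        rw [hx₁def]
        have : g = (c₁ : G)⁻¹ * (x * (u : G) * x⁻¹) * (c₁ : G) := by
          rw [h2]
          group
        rw [this]
        group
      rw [h3]
      exact hu
  -- step 4: `x₁` stabilizes `(Q, f)`
  have hf' : Cfsg.IsPBlock M f := ⟨θ₀, hθ₀⟩
  have hx₁stab : x₁ ∈ stabSub (Subgroup.centralizer (Q : Set G)) f := by
    rw [hx₁def]
    apply Subgroup.mul_mem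
    · apply Subgroup.inv_mem
      exact le_stabSub _ f c₁.2
    · rw [mem_stabSub_iff]
      exact hxst
  have hx₁st : Cfsg.StabilizesBlock (Subgroup.centralizer (Q : Set G)) f x₁ :=
    (mem_stabSub_iff _ f x₁).mp hx₁stab
  have hx₁N : x₁ ∈ Subgroup.normalizer (Q : Set G) := by
    rw [hx₁def]
    apply Subgroup.mul_mem _ _ hxN
    apply Subgroup.inv_mem
    exact Subgroup.centralizer_le_normalizer _ c₁.2
  -- step 5: the conjugate pair
  have hx₁C := normalizer_le_normalizer_centralizer P hx₁P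
  obtain ⟨e', he'def⟩ : ∃ e' : Set (Cfsg.IrrCharacter (Subgroup.centralizer (P : Set G))),
      e' = autIrr (nAut (Subgroup.centralizer (P : Set G)) x₁ hx₁C) '' e := ⟨_, rfl⟩
  have hch' : Cfsg.SubpairLE p M Q f P e' := by
    have h1 := chain_conj x₁ ⟨Q, f⟩ ⟨P, e⟩ hle
    rw [conjPair_of_stab Q f hx₁N hx₁st, conjPair_of_mem_normalizer P hx₁P, ← he'def] at h1
    exact h1
  -- step 6: normal steps
  have hPNQ : P ≤ Subgroup.normalizer (Q : Set G) :=
    hPH.trans (Subgroup.centralizer_le_normalizer _)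
  have hQf : Cfsg.IsBrauerPair p M Q f := ⟨hP.to_le hQP, hf'⟩
  have n1 : Cfsg.IsNormalSubpair p M Q f P e :=
    isNormalSubpair_of_chain hM ⟨Q, f⟩ ⟨P, e⟩ hle hQf hPNQ
  have n2 : Cfsg.IsNormalSubpair p M Q f P e' :=
    isNormalSubpair_of_chain hM ⟨Q, f⟩ ⟨P, e'⟩ hch' hQf hPNQ
  -- step 7: Brauer pairs of `f` inside `C_G(Q)`
  have b1 := (isBrauerPairOf_rel_iff (p := p) (M := M) (Subgroup.centralizer (Q : Set G)) P hPH hCP
    f e).mpr ⟨hP, n1.2.1.2, hf', n1.2.2.2.2.2⟩
  have b2 := (isBrauerPairOf_rel_iff (p := p) (M := M) (Subgroup.centralizer (Q : Set G)) P hPH hCP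
    f e').mpr ⟨hP, n2.2.1.2, hf', n2.2.2.2.2.2⟩
  -- step 8: conjugacy under the normalizer inside `C_G(Q)`
  rw [← hθ₀] at hPdef
  obtain ⟨n, hn, hne⟩ := exists_normalizer_conj hM f _ hPdef _ _ b1 b2
  -- step 9: translate to `G`
  have hnP : (n : G) ∈ Subgroup.normalizer (P : Set G) :=
    coe_mem_normalizer_of_rel _ P hPH n hn
  have hnC := normalizer_le_normalizer_centralizer P hnP
  rw [autIrr_nAut_rel_image _ P hPH hCP n _ hnC e] at hne
  have hne' : e' = autIrr (nAut (Subgroup.centralizer (P : Set G)) (n : G) hnC) '' e :=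
    (mapIrr _).injective.image_injective hne
  -- step 10: `y = n⁻¹ x₁` stabilizes `(P, e)`
  obtain ⟨y, hydef⟩ : ∃ y : G, y = (n : G)⁻¹ * x₁ := ⟨_, rfl⟩
  have hninvP : (n : G)⁻¹ ∈ Subgroup.normalizer (P : Set G) := Subgroup.inv_mem _ hnP
  have hyP : y ∈ Subgroup.normalizer (P : Set G) := by
    rw [hydef]
    exact Subgroup.mul_mem _ hninvP hx₁P
  have hyst : Cfsg.StabilizesBlock (Subgroup.centralizer (P : Set G)) e y := by
    rw [stabilizesBlock_iff]
    refine ⟨normalizer_le_normalizer_centralizer P hyP, ?_⟩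
    have h1 : nAut (Subgroup.centralizer (P : Set G)) y
        (normalizer_le_normalizer_centralizer P hyP)
        = nAut (Subgroup.centralizer (P : Set G)) ((n : G)⁻¹)
            (normalizer_le_normalizer_centralizer P hninvP)
          * nAut (Subgroup.centralizer (P : Set G)) x₁ hx₁C := by
      have hprod : (n : G)⁻¹ * x₁ ∈ Subgroup.normalizer
          ((Subgroup.centralizer (P : Set G) : Subgroup G) : Set G) :=
        Subgroup.mul_mem _ (normalizer_le_normalizer_centralizer P hninvP) hx₁C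
      exact (nAut_congr _ hydef _ hprod).trans (nAut_mul _ _ _ _ _ hprod)
    rw [h1, ← autIrr_image_image, ← he'def, hne', autIrr_image_image, nAut_inv _ _ hnC,
      inv_mul_cancel, autIrr_one_image]
  refine ⟨y, hyP, hyst, ?_⟩
  -- step 11: the factorization
  have hnQ : (n : G) ∈ Subgroup.centralizer (Q : Set G) := n.2
  have hyN : y ∈ Subgroup.normalizer (Q : Set G) := by
    rw [hydef]
    apply Subgroup.mul_mem _ _ hx₁N
    apply Subgroup.inv_mem
    exact Subgroup.centralizer_le_normalizer _ hnQ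
  have hyNC := normalizer_le_normalizer_centralizer Q hyN
  refine ⟨y⁻¹ * ((c₁ : G) * (n : G)) * y, ?_, ?_⟩
  · have h1 : (c₁ : G) * (n : G) ∈ Subgroup.centralizer (Q : Set G) :=
      Subgroup.mul_mem _ c₁.2 hnQ
    have hyinv : y⁻¹ ∈ Subgroup.normalizer
        ((Subgroup.centralizer (Q : Set G) : Subgroup G) : Set G) := Subgroup.inv_mem _ hyNC
    have := (Subgroup.mem_normalizer_iff.mp hyinv _).mp h1
    rwa [inv_inv] at this
  · rw [hydef, hx₁def]
    group

/-- an element stabilizing `(P, e)` and normalizing `Q` stabilizes the pair `(Q, f) ≤ (P, e)` -/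
theorem stabilizesBlock_of_stab_top (hM : Cfsg.IsPModular p M)
    (P : Subgroup G) (e : Set (Cfsg.IrrCharacter (Subgroup.centralizer (P : Set G))))
    (hPe : Cfsg.IsBrauerPair p M P e) (Q : Subgroup G)
    (f : Set (Cfsg.IrrCharacter (Subgroup.centralizer (Q : Set G))))
    (hf : Cfsg.IsPBlock M f) (hle : Cfsg.SubpairLE p M Q f P e) (y : G)
    (hyP : y ∈ Subgroup.normalizer (P : Set G))
    (hyst : Cfsg.StabilizesBlock (Subgroup.centralizer (P : Set G)) e y)
    (hyQ : y ∈ Subgroup.normalizer (Q : Set G)) :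
    Cfsg.StabilizesBlock (Subgroup.centralizer (Q : Set G)) f y := by
  classical
  have h1 := chain_conj y ⟨Q, f⟩ ⟨P, e⟩ hle
  rw [conjPair_of_stab P e hyP hyst, conjPair_of_mem_normalizer Q hyQ] at h1
  have hyC := normalizer_le_normalizer_centralizer Q hyQ
  have h2 : autIrr (nAut (Subgroup.centralizer (Q : Set G)) y hyC) '' f = f :=
    subpairLE_unique hM _ P Q e _ f le_rfl hPe (isPBlock_autIrr_image _ hf) hf h1 hle
  rw [stabilizesBlock_iff]
  exact ⟨hyC, h2⟩

/-- for abelian `P`: the index of `C_G(Q)` in the stabilizer of `(Q, f)` -/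
theorem index_stab_of_abelian (hM : Cfsg.IsPModular p M) (B : Set (Cfsg.IrrCharacter G))
    (P : Subgroup G) (e : Set (Cfsg.IrrCharacter (Subgroup.centralizer (P : Set G))))
    (hmax : Cfsg.IsMaximalBrauerPair p M B P e)
    (hab : ∀ x ∈ P, ∀ y ∈ P, x * y = y * x) (Q : Subgroup G)
    (f : Set (Cfsg.IrrCharacter (Subgroup.centralizer (Q : Set G)))) (hQP : Q ≤ P)
    (hf : Cfsg.IsPBlock M f) (hle : Cfsg.SubpairLE p M Q f P e)
    (TQ : Subgroup G) (hTQ : ∀ y : G, y ∈ TQ ↔ y ∈ Subgroup.normalizer (Q : Set G) ∧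
      Cfsg.StabilizesBlock (Subgroup.centralizer (Q : Set G)) f y)
    (TP : Subgroup G) (hTP : ∀ y : G, y ∈ TP ↔ y ∈ Subgroup.normalizer (P : Set G) ∧
      Cfsg.StabilizesBlock (Subgroup.centralizer (P : Set G)) e y) :
    ((Subgroup.centralizer (Q : Set G)).subgroupOf TQ).index
      = ((TP ⊓ Subgroup.centralizer (Q : Set G)).subgroupOf
          (TP ⊓ Subgroup.normalizer (Q : Set G))).index := by
  classical
  have hPe := hmax.1.1
  have hCT := centralizer_le_of_stab Q f TQ hTQ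
  have hTN : TQ ≤ Subgroup.normalizer (Q : Set G) := fun y hy => ((hTQ y).mp hy).1
  have hTNC : TQ ≤ Subgroup.normalizer
      ((Subgroup.centralizer (Q : Set G) : Subgroup G) : Set G) :=
    hTN.trans (normalizer_le_normalizer_centralizer Q)
  have hAT : TP ⊓ Subgroup.normalizer (Q : Set G) ≤ TQ := by
    intro y hy
    rw [hTQ]
    have h1 := (hTP y).mp hy.1
    exact ⟨hy.2, stabilizesBlock_of_stab_top hM P e hPe Q f hf hle y h1.1 h1.2 hy.2⟩
  haveI hn : ((Subgroup.centralizer (Q : Set G)).subgroupOf TQ).Normal :=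
    Subgroup.normal_subgroupOf_of_le_normalizer hTNC
  have htop : (TP ⊓ Subgroup.normalizer (Q : Set G)).subgroupOf TQ
      ⊔ (Subgroup.centralizer (Q : Set G)).subgroupOf TQ = ⊤ := by
    rw [eq_top_iff]
    intro t _
    obtain ⟨y, hyP, hyst, c, hc, hxyc⟩ := exists_mul_of_abelian hM B P e hmax hab Q f hQP hf hle
      (t : G) (hTN t.2) ((hTQ _).mp t.2).2
    have hyN : y ∈ Subgroup.normalizer (Q : Set G) := by
      have : y = (t : G) * c⁻¹ := by rw [hxyc]; group
      rw [this]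
      exact Subgroup.mul_mem _ (hTN t.2)
        (Subgroup.inv_mem _ (Subgroup.centralizer_le_normalizer _ hc))
    have hyA : y ∈ TP ⊓ Subgroup.normalizer (Q : Set G) := ⟨(hTP y).mpr ⟨hyP, hyst⟩, hyN⟩
    have ht : t = (⟨y, hAT hyA⟩ : TQ) * (⟨c, hCT hc⟩ : TQ) := by
      apply Subtype.ext
      exact hxyc
    rw [ht]
    apply Subgroup.mul_mem
    · apply (le_sup_left : _ ≤ (TP ⊓ Subgroup.normalizer (Q : Set G)).subgroupOf TQ
        ⊔ (Subgroup.centralizer (Q : Set G)).subgroupOf TQ)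
      rw [Subgroup.mem_subgroupOf]
      exact hyA
    · apply (le_sup_right : _ ≤ (TP ⊓ Subgroup.normalizer (Q : Set G)).subgroupOf TQ
        ⊔ (Subgroup.centralizer (Q : Set G)).subgroupOf TQ)
      rw [Subgroup.mem_subgroupOf]
      exact hc
  have h1 := Subgroup.relIndex_sup_right
    ((TP ⊓ Subgroup.normalizer (Q : Set G)).subgroupOf TQ)
    ((Subgroup.centralizer (Q : Set G)).subgroupOf TQ)
  rw [htop, Subgroup.relIndex_top_right, Subgroup.relIndex_subgroupOf hAT] at h1
  rw [h1]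
  have h2 : TP ⊓ Subgroup.centralizer (Q : Set G)
      = (TP ⊓ Subgroup.normalizer (Q : Set G)) ⊓ Subgroup.centralizer (Q : Set G) := by
    rw [inf_assoc, inf_of_le_right (Subgroup.centralizer_le_normalizer _)]
  change _ = (TP ⊓ Subgroup.centralizer (Q : Set G)).relIndex
    (TP ⊓ Subgroup.normalizer (Q : Set G))
  rw [h2, Subgroup.inf_relIndex_left]

end abel

end Cfsg.Agent.Lib.Helper6
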