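import Mathlib
import Cfsg.Prelude.Def_Blocks
import Cfsg.Prelude.Def_BrauerPairs
import Cfsg.Agent.Lib.Helper6.BrAbel
import Cfsg.Agent.Lib.Helper6.BrMax3

set_option autoImplicit false
set_option linter.unusedSectionVars false
open Cfsg

namespace Cfsg.Agent.Lib.Helper6

open scoped ComplexConjugate

section vanish2

variable {G : Type*} [Group G] [Fintype G] [DecidableEq G]
variable {p : ℕ} [Fact p.Prime] {M : Ideal Cfsg.AlgInt}
variable (N : Subgroup G) [Fintype N] [hN : N.Normal]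

/-- the block with the idempotent of a stable block of `N` and its defect groups, when the
central characters vanish modulo the ideal off `N` -/
theorem exists_block_of_stable_of_vanish' (hM : Cfsg.IsPModular p M)
    (hoff : ∀ (χ : Cfsg.IrrCharacter G) (g : G), g ∉ N →
      Cfsg.MemLocalIdeal M (Cfsg.centralChar (χ : G → ℂ) g))
    (c : Set (Cfsg.IrrCharacter N)) (hc : Cfsg.IsPBlock M c)
    (hst : ∀ x : G, Cfsg.StabilizesBlock N c x) :
    ∃ B : Set (Cfsg.IrrCharacter G), Cfsg.IsPBlock M B ∧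
      (∀ g : G, Cfsg.blockCoeff B g = Cfsg.subgroupBlockCoeff N c g) ∧
      ∀ D : Subgroup G, Cfsg.IsDefectGroup p M B D →
        ¬ p ∣ (D ⊔ N).index ∧ Cfsg.IsDefectGroup p M c ((D ⊓ N).subgroupOf N) := by
  classical
  have hNn : N.Normal := hN
  obtain ⟨θ₀, rfl⟩ := hc
  have hstG : GStable N hNn (Cfsg.blockOf M (θ₀ : N → ℂ)) := by
    intro ψ hψ g
    obtain ⟨_, h2⟩ := hst g⁻¹
    obtain ⟨χ', hχ', hconj⟩ := h2 ψ hψ
    have : irrConj N hNn g ψ = χ' := by
      apply Subtype.ext
      funext n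
      rw [irrConj_coe, conjFun_apply]
      exact (hconj ⟨g * n * g⁻¹, hNn.conj_mem n n.2 g⟩ n (by simp [mul_assoc])).symm
    rw [this]
    exact hχ'
  obtain ⟨χ₀, hχ₀⟩ := exists_irr_over N θ₀
  have hover : overSet N (Cfsg.blockOf M (θ₀ : N → ℂ)) = Cfsg.blockOf M (χ₀ : G → ℂ) := by
    ext χ
    constructor
    · rintro ⟨θ, hθ, hc⟩
      exact sameBlock_of_cover_of_vanish N hM hoff χ₀ χ θ₀ θ hθ hχ₀ hc
    · intro hχ
      exact overSet_union_blocks N hNn hM θ₀ hstG χ₀ ⟨θ₀, sameBlock_refl hM _, hχ₀⟩ χ hχ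
  refine ⟨_, ⟨χ₀, rfl⟩, ?_, ?_⟩
  · intro g
    rw [← hover, blockCoeff_overSet_eq N hNn hstG]
    unfold Cfsg.subgroupBlockCoeff
    by_cases hg : g ∈ N
    · rw [extendByZero_of_mem N _ hg, dif_pos hg]
    · rw [extendByZero_of_not_mem N _ hg, dif_neg hg]
  · intro D hD
    have hmax : ∀ χ' ∈ overSet N (Cfsg.blockOf M (θ₀ : N → ℂ)),
        Cfsg.blockDefect p (Cfsg.blockOf M (χ' : G → ℂ))
          ≤ Cfsg.blockDefect p (Cfsg.blockOf M (χ₀ : G → ℂ)) := by
      intro χ' hχ'
      rw [hover] at hχ'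
      rw [blockOf_eq_of_mem hM hχ']
    obtain ⟨h1, h2, _⟩ := fong_cover N hNn hM θ₀ hstG χ₀ ⟨θ₀, sameBlock_refl hM _, hχ₀⟩ hmax D hD
    exact ⟨h1, h2⟩

end vanish2


section inert

variable {G : Type*} [Group G] [Fintype G] [DecidableEq G]
variable {p : ℕ} [Fact p.Prime] {M : Ideal Cfsg.AlgInt}

/-- the block of the stabilizer `T` of `(Q, f)` with the idempotent of `f`, and its defect
groups -/
theorem exists_block_of_stabilizer' (hM : Cfsg.IsPModular p M) (Q : Subgroup G)
    (hQ : IsPGroup p Q) (f : Set (Cfsg.IrrCharacter (Subgroup.centralizer (Q : Set G))))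
    (hf : Cfsg.IsPBlock M f) (T : Subgroup G)
    (hT : ∀ y : G, y ∈ T ↔ y ∈ Subgroup.normalizer (Q : Set G) ∧
      Cfsg.StabilizesBlock (Subgroup.centralizer (Q : Set G)) f y) :
    ∃ F : Set (Cfsg.IrrCharacter T), Cfsg.IsPBlock M F ∧
      (∀ t : T, Cfsg.blockCoeff F t
        = Cfsg.subgroupBlockCoeff (Subgroup.centralizer (Q : Set G)) f (t : G)) ∧
      ∀ D : Subgroup T, Cfsg.IsDefectGroup p M F D →
        ¬ p ∣ (D ⊔ (Subgroup.centralizer (Q : Set G)).subgroupOf T).index := by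
  classical
  have : Fintype T := Fintype.ofFinite _
  have : Fintype (Subgroup.centralizer (Q : Set G)) := Fintype.ofFinite _
  have hKT := centralizer_le_of_stab Q f T hT
  have hQT := le_of_stab Q f T hT
  have hTNQ : T ≤ Subgroup.normalizer (Q : Set G) := fun y hy => ((hT y).mp hy).1
  have hTN : T ≤ Subgroup.normalizer
      ((Subgroup.centralizer (Q : Set G) : Subgroup G) : Set G) :=
    hTNQ.trans (normalizer_le_normalizer_centralizer Q)
  haveI hn : ((Subgroup.centralizer (Q : Set G)).subgroupOf T).Normal :=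
    Subgroup.normal_subgroupOf_of_le_normalizer hTN
  have : Fintype ((Subgroup.centralizer (Q : Set G)).subgroupOf T) := Fintype.ofFinite _
  have hc : Cfsg.IsPBlock M (irrSub (Subgroup.centralizer (Q : Set G)) T hKT '' f) := by
    obtain ⟨θ₀, rfl⟩ := hf
    exact ⟨irrSub _ T hKT θ₀, image_irrSub_blockOf _ T hKT θ₀⟩
  obtain ⟨F, hF, hcoef, hdef⟩ := exists_block_of_stable_of_vanish'
    ((Subgroup.centralizer (Q : Set G)).subgroupOf T) hM
    (fun χ g hg => centralChar_memLocalIdeal_of_stab hM Q hQ T hQT hTNQ χ g hg)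
    (irrSub _ T hKT '' f) hc
    (fun x => stabilizesBlock_irrSub _ T hKT hTN f x ((hT x).mp x.2).2)
  refine ⟨F, hF, ?_, fun D hD => (hdef D hD).1⟩
  intro t
  rw [hcoef, subgroupBlockCoeff_irrSub]

/-- the inertial index of a maximal Brauer pair is prime to `p` -/
theorem not_dvd_relIndex_of_maximal (hM : Cfsg.IsPModular p M) (B : Set (Cfsg.IrrCharacter G))
    (P : Subgroup G) (e : Set (Cfsg.IrrCharacter (Subgroup.centralizer (P : Set G))))
    (hmax : Cfsg.IsMaximalBrauerPair p M B P e) (T : Subgroup G)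
    (hT : ∀ y : G, y ∈ T ↔ y ∈ Subgroup.normalizer (P : Set G) ∧
      Cfsg.StabilizesBlock (Subgroup.centralizer (P : Set G)) e y) :
    ¬ p ∣ (P ⊔ Subgroup.centralizer (P : Set G)).relIndex T := by
  classical
  have : Fintype T := Fintype.ofFinite _
  have : Fintype (Subgroup.centralizer (P : Set G)) := Fintype.ofFinite _
  have hBe := hmax.1
  have hPe := hBe.1
  have hB := hBe.2.1
  have hP := hPe.1
  have hKT := centralizer_le_of_stab P e T hT
  have hPT := le_of_stab P e T hT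
  have hTN : T ≤ Subgroup.normalizer (P : Set G) := fun y hy => ((hT y).mp hy).1
  have hst : ∀ x ∈ T, Cfsg.StabilizesBlock (Subgroup.centralizer (P : Set G)) e x :=
    fun y hy => ((hT y).mp hy).2
  have hmaxN : ∀ (R : Subgroup G)
      (g : Set (Cfsg.IrrCharacter (Subgroup.centralizer (R : Set G)))),
      Cfsg.IsNormalSubpair p M P e R g → R = P := by
    intro R g h
    have : Fintype (Subgroup.centralizer (R : Set G)) := Fintype.ofFinite _
    apply hmax.2 R g
    · exact (isBrauerPairOf_iff_of_isNormalSubpair R P hM g e h B hB).mpr hBe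
    · exact Relation.ReflTransGen.single h
  obtain ⟨F, hF, hcoef, hdef⟩ := exists_block_of_stabilizer' hM P hP e hPe.2 T hT
  obtain ⟨D', hD'⟩ := exists_isDefectGroup hM F hF
  have hDP := map_defectGroup_eq_of_maximal P T hM hPT hTN e hPe hst hmaxN F hF hcoef D' hD'
  have hD'eq : D' = P.subgroupOf T := by
    rw [← hDP]
    exact (Subgroup.comap_map_eq_self_of_injective T.subtype_injective D').symm
  have h1 := hdef D' hD'
  rw [hD'eq, ← Subgroup.subgroupOf_sup hPT hKT] at h1
  exact h1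

end inert

end Cfsg.Agent.Lib.Helper6
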