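import Mathlib
import Cfsg.Prelude.Def_Blocks
import Cfsg.Prelude.Def_BrauerPairs
import Cfsg.Prelude.Def_BlockFusion
import Cfsg.Agent.Lib.Helper6.BrRel
import Cfsg.Agent.Lib.Helper6.BrInert

set_option autoImplicit false
set_option linter.unusedSectionVars false
open Cfsg

namespace Cfsg.Agent.Lib.Helper6

open scoped ComplexConjugate

section sat1

variable {G : Type*} [Group G] [Fintype G] [DecidableEq G]
variable {p : ℕ} [Fact p.Prime] {M : Ideal Cfsg.AlgInt}

/-- below a Brauer pair there is a pair on every subgroup -/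
theorem exists_subpair (hM : Cfsg.IsPModular p M) {P Q : Subgroup G}
    {e : Set (Cfsg.IrrCharacter (Subgroup.centralizer (P : Set G)))}
    (hPe : Cfsg.IsBrauerPair p M P e) (hQP : Q ≤ P) :
    ∃ f : Set (Cfsg.IrrCharacter (Subgroup.centralizer (Q : Set G))),
      Cfsg.IsPBlock M f ∧ Cfsg.SubpairLE p M Q f P e :=
  exists_subpairLE hM _ P Q e le_rfl hPe hQP

/-- below a Brauer pair there is at most one pair on every subgroup -/
theorem subpair_unique (hM : Cfsg.IsPModular p M) {P Q : Subgroup G}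
    {e : Set (Cfsg.IrrCharacter (Subgroup.centralizer (P : Set G)))}
    {f f' : Set (Cfsg.IrrCharacter (Subgroup.centralizer (Q : Set G)))}
    (hPe : Cfsg.IsBrauerPair p M P e)
    (hle : Cfsg.SubpairLE p M Q f P e) (hle' : Cfsg.SubpairLE p M Q f' P e) : f = f' :=
  subpairLE_unique hM _ P Q e f f' le_rfl hPe
    (isBrauerPair_of_chain ⟨Q, f⟩ ⟨P, e⟩ hle hPe).2
    (isBrauerPair_of_chain ⟨Q, f'⟩ ⟨P, e⟩ hle' hPe).2 hle hle'

/-- two pairs below the same pair are comparable when their groups are -/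
theorem subpair_mono (hM : Cfsg.IsPModular p M) {P A A' : Subgroup G}
    {e : Set (Cfsg.IrrCharacter (Subgroup.centralizer (P : Set G)))}
    {a : Set (Cfsg.IrrCharacter (Subgroup.centralizer (A : Set G)))}
    {a' : Set (Cfsg.IrrCharacter (Subgroup.centralizer (A' : Set G)))}
    (hPe : Cfsg.IsBrauerPair p M P e)
    (hle : Cfsg.SubpairLE p M A a P e) (hle' : Cfsg.SubpairLE p M A' a' P e) (hAA : A ≤ A') :
    Cfsg.SubpairLE p M A a A' a' := by
  have hA' := isBrauerPair_of_chain ⟨A', a'⟩ ⟨P, e⟩ hle' hPe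
  obtain ⟨a₂, ha₂, hle₂⟩ := exists_subpair hM hA' hAA
  have h3 : Cfsg.SubpairLE p M A a₂ P e := Relation.ReflTransGen.trans hle₂ hle'
  have := subpair_unique hM hPe hle h3
  rw [this]
  exact hle₂

theorem conjPair_one (a : Cfsg.BrauerPairIdx G) : conjPair 1 a = a := by
  apply pair_ext
  · change a.1.map _ = a.1
    have : (MulAut.conj (1 : G)).toMonoidHom = MonoidHom.id G := by
      ext g
      simp
    rw [this, Subgroup.map_id]
  · rw [pairSet_conjPair]
    have : cfun (1 : G) = id := by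
      funext F g
      unfold cfun
      simp
    rw [this, Set.image_id]

theorem conjPair_inv_conjPair (g : G) (a : Cfsg.BrauerPairIdx G) :
    conjPair g⁻¹ (conjPair g a) = a := by
  rw [← conjPair_mul, inv_mul_cancel, conjPair_one]

/-- elements of `P` fix the pair `(P, e)` -/
theorem conjPair_of_mem (hM : Cfsg.IsPModular p M) (P : Subgroup G)
    (e : Set (Cfsg.IrrCharacter (Subgroup.centralizer (P : Set G))))
    (hPe : Cfsg.IsBrauerPair p M P e) {u : G} (hu : u ∈ P) :
    conjPair u ⟨P, e⟩ = ⟨P, e⟩ := by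
  have : Fintype (Subgroup.centralizer (P : Set G)) := Fintype.ofFinite _
  have h := isNormalSubpair_refl hM P e hPe
  exact conjPair_of_stab P e (Subgroup.le_normalizer hu) (h.2.2.2.2.1 u hu)

/-- the defining condition of the maps of the fusion system of a block -/
def blockHom (p : ℕ) (M : Ideal Cfsg.AlgInt) (P : Subgroup G)
    (e : Set (Cfsg.IrrCharacter (Subgroup.centralizer (P : Set G)))) (Q : Subgroup G) :
    Set (Q →* G) :=
  {φ | Q ≤ P ∧ ∃ g : G, (∀ u : Q, φ u = g * (u : G) * g⁻¹) ∧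
        Q.map (MulAut.conj g).toMonoidHom ≤ P ∧
        ∃ f : Set (Cfsg.IrrCharacter (Subgroup.centralizer (Q : Set G))),
          Cfsg.SubpairLE p M Q f P e ∧
            Cfsg.SubpairLE p M (Q.map (MulAut.conj g).toMonoidHom) (Cfsg.conjBlock Q g f) P e}

theorem blockHom_inv_aux (P : Subgroup G)
    (e : Set (Cfsg.IrrCharacter (Subgroup.centralizer (P : Set G))))
    (Q : Subgroup G) (f : Set (Cfsg.IrrCharacter (Subgroup.centralizer (Q : Set G)))) (g : G)
    (hle : Cfsg.SubpairLE p M Q f P e)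
    (hleg : Cfsg.SubpairLE p M (Q.map (MulAut.conj g).toMonoidHom) (Cfsg.conjBlock Q g f) P e)
    (R : Subgroup G) (hR : R = Q.map (MulAut.conj g).toMonoidHom) :
    Cfsg.conjHom R g⁻¹ ∈ blockHom p M P e R := by
  subst hR
  have h1 : conjPair g⁻¹ (conjPair g ⟨Q, f⟩) = ⟨Q, f⟩ := conjPair_inv_conjPair g _
  have h2 : Cfsg.SubpairLE p M ((Q.map (MulAut.conj g).toMonoidHom).map
      (MulAut.conj g⁻¹).toMonoidHom)
      (Cfsg.conjBlock (Q.map (MulAut.conj g).toMonoidHom) g⁻¹ (Cfsg.conjBlock Q g f)) P e := by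
    change Relation.ReflTransGen _ (conjPair g⁻¹ (conjPair g ⟨Q, f⟩)) ⟨P, e⟩
    rw [h1]
    exact hle
  exact ⟨le_of_chain _ _ hleg, g⁻¹, fun u => rfl, le_of_chain _ _ h2, _, hleg, h2⟩

/-- the fusion system of a block on a maximal Brauer pair exists -/
theorem exists_blockFusionSystem (hM : Cfsg.IsPModular p M) (B : Set (Cfsg.IrrCharacter G))
    (P : Subgroup G) (e : Set (Cfsg.IrrCharacter (Subgroup.centralizer (P : Set G))))
    (hmax : Cfsg.IsMaximalBrauerPair p M B P e) :
    ∃ F : Cfsg.FusionSystem P, Cfsg.IsBlockFusionSystemOn p M B P e F := by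
  have hPe := hmax.1.1
  refine ⟨{ Hom := blockHom p M P e
            le_of_mem := ?_
            injective_of_mem := ?_
            conj_mem := ?_
            comp_mem := ?_
            inv_mem := ?_ }, hmax, fun Q φ => Iff.rfl⟩
  · rintro Q φ ⟨hQP, g, hg, hQg, _⟩
    refine ⟨hQP, fun x => ?_⟩
    rw [hg x]
    apply hQg
    exact conj_mem_map_conj Q g x.2
  · rintro Q φ ⟨hQP, g, hg, _⟩ x y hxy
    rw [hg x, hg y] at hxy
    apply Subtype.ext
    exact mul_left_cancel (mul_right_cancel hxy)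
  · intro Q g hQP hgP
    obtain ⟨f, hf, hle⟩ := exists_subpair hM hPe hQP
    have h1 := chain_conj g _ _ hle
    rw [conjPair_of_mem hM P e hPe hgP] at h1
    exact ⟨hQP, g, fun u => rfl, le_of_chain _ _ h1, f, hle, h1⟩
  · rintro Q Q₂ φ ψ ⟨hQP, g, hg, hQg, f, hle, hleg⟩ ⟨hQ₂P, k, hk, hQ₂k, f₂, hle₂, hle₂k⟩ h
    have hQgQ₂ : Q.map (MulAut.conj g).toMonoidHom ≤ Q₂ := by
      intro y hy
      rw [mem_map_conj_iff] at hy
      have := h ⟨_, hy⟩
      rw [hg] at this
      simpa [mul_assoc] using this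
    have h1 : Cfsg.SubpairLE p M (Q.map (MulAut.conj g).toMonoidHom) (Cfsg.conjBlock Q g f)
        Q₂ f₂ := subpair_mono hM hPe hleg hle₂ hQgQ₂
    have h2 := chain_conj k _ _ h1
    have h3 : Cfsg.SubpairLE p M (Q.map (MulAut.conj (k * g)).toMonoidHom)
        (Cfsg.conjBlock Q (k * g) f) P e := by
      change Relation.ReflTransGen _ (conjPair (k * g) ⟨Q, f⟩) ⟨P, e⟩
      rw [conjPair_mul]
      exact Relation.ReflTransGen.trans h2 hle₂k
    refine ⟨hQP, k * g, ?_, le_of_chain _ _ h3, f, hle, h3⟩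
    intro u
    change ψ ⟨φ u, _⟩ = _
    rw [hk]
    change k * φ u * k⁻¹ = _
    rw [hg]
    group
  · rintro Q φ ⟨hQP, g, hg, hQg, f, hle, hleg⟩
    have hR : φ.range = Q.map (MulAut.conj g).toMonoidHom := by
      rw [← range_conjHom]
      congr 1
      ext u
      rw [hg u]
      rfl
    refine ⟨Cfsg.conjHom φ.range g⁻¹, blockHom_inv_aux P e Q f g hle hleg _ hR, ?_⟩
    intro x
    change g⁻¹ * φ x * g⁻¹⁻¹ = _
    rw [hg]
    group

end sat1

end Cfsg.Agent.Lib.Helper6
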