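import Mathlib
import Cfsg.Prelude.Def_Blocks
import Cfsg.Prelude.Def_BrauerPairs
import Cfsg.Agent.Lib.Helper6.BrSat1

set_option autoImplicit false
set_option linter.unusedSectionVars false
open Cfsg

namespace Cfsg.Agent.Lib.Helper6

open scoped ComplexConjugate

section rel2

variable {G : Type*} [Group G] [Fintype G] [DecidableEq G]
variable {p : ℕ} [Fact p.Prime] {M : Ideal Cfsg.AlgInt}
variable (L : Subgroup G) (H : Subgroup L) (R : Subgroup G)

theorem mem_iff_of_map_eq (hHR : H.map L.subtype = R) (x : L) : x ∈ H ↔ (x : G) ∈ R := by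
  rw [← hHR, Subgroup.mem_map]
  constructor
  · intro hx
    exact ⟨x, hx, rfl⟩
  · rintro ⟨y, hy, hyx⟩
    have : y = x := Subtype.ext hyx
    rwa [← this]

theorem le_of_map_eq (hHR : H.map L.subtype = R) : R ≤ L := by
  rw [← hHR]
  rintro _ ⟨y, _, rfl⟩
  exact y.2

theorem coe_mem_centralizer_of_rel2 (hHR : H.map L.subtype = R)
    (c : Subgroup.centralizer ((H : Subgroup L) : Set L)) :
    ((c : L) : G) ∈ Subgroup.centralizer (R : Set G) := by
  rw [Subgroup.mem_centralizer_iff]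
  intro r hr
  have hrL := le_of_map_eq L H R hHR hr
  have h1 := Subgroup.mem_centralizer_iff.mp c.2 ⟨r, hrL⟩
    ((mem_iff_of_map_eq L H R hHR ⟨r, hrL⟩).mpr hr)
  have h2 := congrArg (Subtype.val : L → G) h1
  simpa using h2

theorem mem_centralizer_rel2_of_mem (hHR : H.map L.subtype = R)
    (hCL : Subgroup.centralizer (R : Set G) ≤ L) (d : G)
    (hd : d ∈ Subgroup.centralizer (R : Set G)) :
    (⟨d, hCL hd⟩ : L) ∈ Subgroup.centralizer ((H : Subgroup L) : Set L) := by
  rw [Subgroup.mem_centralizer_iff]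
  intro r hr
  rw [SetLike.mem_coe, mem_iff_of_map_eq L H R hHR] at hr
  apply Subtype.ext
  rw [Subgroup.coe_mul, Subgroup.coe_mul]
  exact Subgroup.mem_centralizer_iff.mp hd _ hr

/-- the centralizer of `H` in `L` is the centralizer in `G` of its image, when the latter lies
in `L` -/
noncomputable def cE (hHR : H.map L.subtype = R) (hCL : Subgroup.centralizer (R : Set G) ≤ L) :
    Subgroup.centralizer ((H : Subgroup L) : Set L) ≃* Subgroup.centralizer (R : Set G) where
  toFun c := ⟨((c : L) : G), coe_mem_centralizer_of_rel2 L H R hHR c⟩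
  invFun d := ⟨⟨(d : G), hCL d.2⟩, mem_centralizer_rel2_of_mem L H R hHR hCL d d.2⟩
  left_inv c := by
    apply Subtype.ext
    apply Subtype.ext
    rfl
  right_inv d := by
    apply Subtype.ext
    rfl
  map_mul' c d := by
    apply Subtype.ext
    rfl

theorem cE_apply_coe (hHR : H.map L.subtype = R) (hCL : Subgroup.centralizer (R : Set G) ≤ L)
    (c : Subgroup.centralizer ((H : Subgroup L) : Set L)) :
    ((cE L H R hHR hCL c : _) : G) = ((c : L) : G) := rfl

theorem cE_symm_apply_coe (hHR : H.map L.subtype = R)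
    (hCL : Subgroup.centralizer (R : Set G) ≤ L) (d : Subgroup.centralizer (R : Set G)) :
    ((((cE L H R hHR hCL).symm d : _) : L) : G) = (d : G) := rfl

/-- the Brauer central character value computed inside `L` -/
theorem brauerOmega_rel2 (hHR : H.map L.subtype = R)
    (hCL : Subgroup.centralizer (R : Set G) ≤ L) (β : L → ℂ)
    (ξ : Cfsg.IrrCharacter (Subgroup.centralizer (R : Set G))) :
    Cfsg.brauerOmega H β (mapIrr (cE L H R hHR hCL).symm ξ : _ → ℂ)
      = Cfsg.brauerOmega R (Cfsg.extendByZero L β) (ξ : _ → ℂ) := by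
  unfold Cfsg.brauerOmega
  rw [← finsum_comp_equiv (cE L H R hHR hCL).symm.toEquiv]
  apply finsum_congr
  intro d
  have h1 : ((cE L H R hHR hCL).symm.toEquiv d) = (cE L H R hHR hCL).symm d := rfl
  rw [h1, mapIrr_apply_apply, mapIrr_apply_one, extendByZero_of_mem L β (hCL d.2)]
  rfl

theorem brauerOmega_rel2' (hHR : H.map L.subtype = R)
    (hCL : Subgroup.centralizer (R : Set G) ≤ L) (β : L → ℂ)
    (ξ : Cfsg.IrrCharacter (Subgroup.centralizer ((H : Subgroup L) : Set L))) :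
    Cfsg.brauerOmega H β (ξ : _ → ℂ)
      = Cfsg.brauerOmega R (Cfsg.extendByZero L β) (mapIrr (cE L H R hHR hCL) ξ : _ → ℂ) := by
  rw [← brauerOmega_rel2 L H R hHR hCL]
  congr 2

theorem isPGroup_rel2_iff (hHR : H.map L.subtype = R) : IsPGroup p H ↔ IsPGroup p R := by
  constructor
  · intro h
    have := h.map L.subtype
    rwa [hHR] at this
  · intro h
    rw [← hHR] at h
    intro x
    obtain ⟨k, hk⟩ := h ⟨(x : L), Subgroup.mem_map_of_mem _ x.2⟩
    refine ⟨k, ?_⟩
    apply Subtype.ext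
    apply Subtype.ext
    have := congrArg (Subtype.val) hk
    simpa using this

theorem isPBlock_rel2_iff (hHR : H.map L.subtype = R)
    (hCL : Subgroup.centralizer (R : Set G) ≤ L)
    (e : Set (Cfsg.IrrCharacter (Subgroup.centralizer ((H : Subgroup L) : Set L)))) :
    Cfsg.IsPBlock M (mapIrr (cE L H R hHR hCL) '' e) ↔ Cfsg.IsPBlock M e := by
  constructor
  · intro h
    have := isPBlock_mapIrr_image (cE L H R hHR hCL).symm h
    rwa [mapIrr_symm_image_image] at this
  · exact isPBlock_mapIrr_image _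

/-- a Brauer pair of a block of `L`, in terms of the ambient group -/
theorem isBrauerPairOf_rel2_iff (hHR : H.map L.subtype = R)
    (hCL : Subgroup.centralizer (R : Set G) ≤ L) (b : Set (Cfsg.IrrCharacter L))
    (e : Set (Cfsg.IrrCharacter (Subgroup.centralizer ((H : Subgroup L) : Set L)))) :
    Cfsg.IsBrauerPairOf p M b H e
      ↔ IsPGroup p R ∧ Cfsg.IsPBlock M (mapIrr (cE L H R hHR hCL) '' e) ∧ Cfsg.IsPBlock M b ∧
        ∀ ξ ∈ mapIrr (cE L H R hHR hCL) '' e, Cfsg.MemLocalIdeal M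
          (Cfsg.brauerOmega R (Cfsg.subgroupBlockCoeff L b) (ξ : _ → ℂ) - 1) := by
  constructor
  · rintro ⟨⟨h1, h2⟩, h3, h4⟩
    refine ⟨(isPGroup_rel2_iff L H R hHR).mp h1, (isPBlock_rel2_iff L H R hHR hCL e).mpr h2, h3, ?_⟩
    rintro _ ⟨ξ, hξ, rfl⟩
    have := h4 ξ hξ
    rw [brauerOmega_rel2' L H R hHR hCL, ← subgroupBlockCoeff_eq_extendByZero] at this
    exact this
  · rintro ⟨h1, h2, h3, h4⟩
    refine ⟨⟨(isPGroup_rel2_iff L H R hHR).mpr h1, (isPBlock_rel2_iff L H R hHR hCL e).mp h2⟩,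
      h3, ?_⟩
    intro ξ hξ
    rw [brauerOmega_rel2' L H R hHR hCL, ← subgroupBlockCoeff_eq_extendByZero]
    exact h4 _ ⟨ξ, hξ, rfl⟩

theorem coe_mem_normalizer_of_rel2 (hHR : H.map L.subtype = R) (n : L)
    (hn : n ∈ Subgroup.normalizer ((H : Subgroup L) : Set L)) :
    (n : G) ∈ Subgroup.normalizer (R : Set G) := by
  have hRL := le_of_map_eq L H R hHR
  rw [Subgroup.mem_normalizer_iff] at hn ⊢
  intro g
  constructor
  · intro hg
    have := (hn ⟨g, hRL hg⟩).mp ((mem_iff_of_map_eq L H R hHR _).mpr hg)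
    rw [mem_iff_of_map_eq L H R hHR] at this
    simpa using this
  · intro hg
    have hgL : g ∈ L := by
      have h1 : (n : G)⁻¹ * ((n : G) * g * (n : G)⁻¹) * (n : G) ∈ L :=
        L.mul_mem (L.mul_mem (L.inv_mem n.2) (hRL hg)) n.2
      have e : (n : G)⁻¹ * ((n : G) * g * (n : G)⁻¹) * (n : G) = g := by group
      rwa [e] at h1
    have := (hn ⟨g, hgL⟩).mpr (by
      rw [mem_iff_of_map_eq L H R hHR]
      simpa using hg)
    rw [mem_iff_of_map_eq L H R hHR] at this
    exact this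

/-- the idempotent coefficients of a block of `C_L(H)`, extended to the ambient group -/
theorem extendByZero_subgroupBlockCoeff_rel2 (hHR : H.map L.subtype = R)
    (hCL : Subgroup.centralizer (R : Set G) ≤ L)
    (e : Set (Cfsg.IrrCharacter (Subgroup.centralizer ((H : Subgroup L) : Set L)))) :
    Cfsg.extendByZero L (Cfsg.subgroupBlockCoeff (Subgroup.centralizer ((H : Subgroup L) : Set L)) e)
      = Cfsg.subgroupBlockCoeff (Subgroup.centralizer (R : Set G))
          (mapIrr (cE L H R hHR hCL) '' e) := by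
  classical
  have : Fintype L := Fintype.ofFinite _
  funext g
  by_cases hg : g ∈ Subgroup.centralizer (R : Set G)
  · have hgL := hCL hg
    have hgC := mem_centralizer_rel2_of_mem L H R hHR hCL g hg
    rw [extendByZero_of_mem L _ hgL, subgroupBlockCoeff_of_mem _ _ hg,
      subgroupBlockCoeff_of_mem _ _ hgC, blockCoeff_mapIrr_image]
    rfl
  · rw [subgroupBlockCoeff_of_not_mem _ _ hg]
    by_cases hgL : g ∈ L
    · rw [extendByZero_of_mem L _ hgL, subgroupBlockCoeff_of_not_mem]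
      intro hcon
      apply hg
      exact coe_mem_centralizer_of_rel2 L H R hHR ⟨⟨g, hgL⟩, hcon⟩
    · rw [extendByZero_of_not_mem L _ hgL]

end rel2

section rel2pairs

variable {G : Type*} [Group G] [Fintype G] [DecidableEq G]
variable {p : ℕ} [Fact p.Prime] {M : Ideal Cfsg.AlgInt}
variable (L : Subgroup G)

/-- a normal inclusion of Brauer pairs of `L` gives one in the ambient group -/
theorem isNormalSubpair_of_rel2 (H₁ H₂ : Subgroup L) (R₁ R₂ : Subgroup G)
    (h1 : H₁.map L.subtype = R₁) (h2 : H₂.map L.subtype = R₂)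
    (hC1 : Subgroup.centralizer (R₁ : Set G) ≤ L) (hC2 : Subgroup.centralizer (R₂ : Set G) ≤ L)
    (e₁ : Set (Cfsg.IrrCharacter (Subgroup.centralizer ((H₁ : Subgroup L) : Set L))))
    (e₂ : Set (Cfsg.IrrCharacter (Subgroup.centralizer ((H₂ : Subgroup L) : Set L))))
    (h : Cfsg.IsNormalSubpair p M H₁ e₁ H₂ e₂) :
    Cfsg.IsNormalSubpair p M R₁ (mapIrr (cE L H₁ R₁ h1 hC1) '' e₁)
      R₂ (mapIrr (cE L H₂ R₂ h2 hC2) '' e₂) := by
  obtain ⟨⟨hp1, hb1⟩, ⟨hp2, hb2⟩, hle, hnorm, hst, hom⟩ := h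
  have hN : R₂ ≤ Subgroup.normalizer (R₁ : Set G) := by
    intro x hx
    have hxL := le_of_map_eq L H₂ R₂ h2 hx
    have hx2 : (⟨x, hxL⟩ : L) ∈ H₂ := (mem_iff_of_map_eq L H₂ R₂ h2 _).mpr hx
    exact coe_mem_normalizer_of_rel2 L H₁ R₁ h1 ⟨x, hxL⟩ (hnorm hx2)
  refine ⟨⟨(isPGroup_rel2_iff L H₁ R₁ h1).mp hp1, isPBlock_mapIrr_image _ hb1⟩,
    ⟨(isPGroup_rel2_iff L H₂ R₂ h2).mp hp2, isPBlock_mapIrr_image _ hb2⟩, ?_, hN, ?_, ?_⟩
  · rw [← h1, ← h2]
    exact Subgroup.map_mono hle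
  · intro x hx
    have hxL := le_of_map_eq L H₂ R₂ h2 hx
    have hx2 : (⟨x, hxL⟩ : L) ∈ H₂ := (mem_iff_of_map_eq L H₂ R₂ h2 _).mpr hx
    obtain ⟨_, hconj⟩ := hst _ hx2
    refine ⟨normalizer_le_normalizer_centralizer R₁ (hN hx), ?_⟩
    rintro _ ⟨χ, hχ, rfl⟩
    obtain ⟨χ', hχ', hc⟩ := hconj χ hχ
    refine ⟨_, ⟨χ', hχ', rfl⟩, ?_⟩
    intro k k' hk
    rw [mapIrr_apply, mapIrr_apply]
    apply hc
    apply Subtype.ext
    rw [cE_symm_apply_coe, Subgroup.coe_mul, Subgroup.coe_mul, Subgroup.coe_inv,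
      cE_symm_apply_coe]
    exact hk
  · rintro _ ⟨ξ, hξ, rfl⟩
    have := hom ξ hξ
    rw [brauerOmega_rel2' L H₂ R₂ h2 hC2, extendByZero_subgroupBlockCoeff_rel2 L H₁ R₁ h1 hC1] at this
    exact this

/-- an indexed pair of `L` and the corresponding pair of the ambient group -/
def PairRel (a : Cfsg.BrauerPairIdx L) (b : Cfsg.BrauerPairIdx G) : Prop :=
  ∃ (h1 : a.1.map L.subtype = b.1) (hC : Subgroup.centralizer (b.1 : Set G) ≤ L),
    b.2 = mapIrr (cE L a.1 b.1 h1 hC) '' a.2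

theorem PairRel.unique {a : Cfsg.BrauerPairIdx L} {b b' : Cfsg.BrauerPairIdx G}
    (h : PairRel L a b) (h' : PairRel L a b') : b = b' := by
  obtain ⟨H, eL⟩ := a
  obtain ⟨R, eG⟩ := b
  obtain ⟨R', eG'⟩ := b'
  obtain ⟨h1, hC, h2⟩ := h
  obtain ⟨h1', hC', h2'⟩ := h'
  simp only at h1 h1' hC hC' h2 h2'
  subst h1
  subst h1'
  rw [h2, h2']

/-- the pair of the ambient group attached to a pair of `L` -/
theorem PairRel.mk (H : Subgroup L) (hC : Subgroup.centralizer ((H.map L.subtype : Subgroup G) : Set G) ≤ L)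
    (eL : Set (Cfsg.IrrCharacter (Subgroup.centralizer ((H : Subgroup L) : Set L)))) :
    PairRel L ⟨H, eL⟩ ⟨H.map L.subtype, mapIrr (cE L H _ rfl hC) '' eL⟩ :=
  ⟨rfl, hC, rfl⟩

/-- the pair of `L` attached to a pair of the ambient group -/
theorem PairRel.mk' (R : Subgroup G) (hRL : R ≤ L) (hC : Subgroup.centralizer (R : Set G) ≤ L)
    (eG : Set (Cfsg.IrrCharacter (Subgroup.centralizer (R : Set G)))) :
    PairRel L ⟨R.subgroupOf L,
      mapIrr (cE L (R.subgroupOf L) R (Subgroup.map_subgroupOf_eq_of_le hRL) hC).symm '' eG⟩ ⟨R, eG⟩ := by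
  refine ⟨Subgroup.map_subgroupOf_eq_of_le hRL, hC, ?_⟩
  simp only
  have := mapIrr_symm_image_image (cE L (R.subgroupOf L) R
    (Subgroup.map_subgroupOf_eq_of_le hRL) hC).symm eG
  rw [MulEquiv.symm_symm] at this
  exact this.symm

/-- a chain of Brauer pairs of `L` gives a chain in the ambient group -/
theorem chain_of_rel2 (a b : Cfsg.BrauerPairIdx L)
    (h : Relation.ReflTransGen (Cfsg.NormalSubpairRel p M) a b) (a' : Cfsg.BrauerPairIdx G)
    (ha : PairRel L a a') :
    ∃ b' : Cfsg.BrauerPairIdx G, PairRel L b b' ∧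
      Relation.ReflTransGen (Cfsg.NormalSubpairRel p M) a' b' := by
  induction h with
  | refl => exact ⟨a', ha, Relation.ReflTransGen.refl⟩
  | @tail b c hab hbc ih =>
    obtain ⟨b', hb', hch⟩ := ih
    obtain ⟨H₁, e₁⟩ := b
    obtain ⟨H₂, e₂⟩ := c
    obtain ⟨R₁, f₁⟩ := b'
    obtain ⟨h1, hC1, h2⟩ := hb'
    simp only at h1 hC1 h2
    have hle : R₁ ≤ H₂.map L.subtype := by
      rw [← h1]
      exact Subgroup.map_mono hbc.2.2.1
    have hC2 : Subgroup.centralizer ((H₂.map L.subtype : Subgroup G) : Set G) ≤ L :=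
      (Subgroup.centralizer_le hle).trans hC1
    refine ⟨⟨H₂.map L.subtype, mapIrr (cE L H₂ _ rfl hC2) '' e₂⟩, PairRel.mk L H₂ hC2 e₂, ?_⟩
    apply Relation.ReflTransGen.tail hch
    change Cfsg.IsNormalSubpair p M R₁ f₁ _ _
    rw [h2]
    exact isNormalSubpair_of_rel2 L H₁ H₂ R₁ _ h1 rfl hC1 hC2 e₁ e₂ hbc

/-- conjugation of pairs of `L` by elements of `L` is conjugation in the ambient group -/
theorem PairRel.conj {H : Subgroup L} {R : Subgroup G}
    {eL : Set (Cfsg.IrrCharacter (Subgroup.centralizer ((H : Subgroup L) : Set L)))}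
    {eG : Set (Cfsg.IrrCharacter (Subgroup.centralizer (R : Set G)))}
    (h : PairRel L ⟨H, eL⟩ ⟨R, eG⟩) (c : L) :
    PairRel L ⟨H.map (MulAut.conj c).toMonoidHom, Cfsg.conjBlock H c eL⟩
      ⟨R.map (MulAut.conj (c : G)).toMonoidHom, Cfsg.conjBlock R (c : G) eG⟩ := by
  classical
  have : Fintype L := Fintype.ofFinite _
  obtain ⟨h1, hC, h2⟩ := h
  simp only at h1 hC h2
  have h1' : (H.map (MulAut.conj c).toMonoidHom).map L.subtype
      = R.map (MulAut.conj (c : G)).toMonoidHom := by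
    rw [← h1, Subgroup.map_map, Subgroup.map_map]
    congr 1
  have hC' : Subgroup.centralizer ((R.map (MulAut.conj (c : G)).toMonoidHom : Subgroup G) : Set G)
      ≤ L := by
    intro x hx
    rw [mem_centralizer_map_conj_iff] at hx
    have h3 := hC hx
    have h4 : (c : G) * ((c : G)⁻¹ * x * (c : G)) * (c : G)⁻¹ ∈ L :=
      L.mul_mem (L.mul_mem c.2 h3) (L.inv_mem c.2)
    have e : (c : G) * ((c : G)⁻¹ * x * (c : G)) * (c : G)⁻¹ = x := by group
    rwa [e] at h4
  refine ⟨h1', hC', ?_⟩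
  simp only
  rw [h2, conjBlock_eq, conjBlock_eq, Set.image_image, Set.image_image]
  apply Set.image_congr
  intro ξ _
  apply Subtype.ext
  funext k
  rw [mapIrr_apply, mapIrr_apply, mapIrr_apply, mapIrr_apply]
  apply congrArg
  apply Subtype.ext
  apply Subtype.ext
  rw [cE_symm_apply_coe, conjCentEquiv_symm_apply_coe, conjCentEquiv_symm_apply_coe]
  simp only [Subgroup.coe_mul, Subgroup.coe_inv]
  rw [cE_symm_apply_coe]

end rel2pairs

end Cfsg.Agent.Lib.Helper6
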