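import Mathlib
import Cfsg.Prelude.Def_Blocks
import Cfsg.Prelude.Def_BrauerPairs
import Cfsg.Prelude.Def_BlockFusion
import Cfsg.Agent.Lib.Helper6.BrSat1

set_option autoImplicit false
set_option linter.unusedSectionVars false
open Cfsg

namespace Cfsg.Agent.Lib.Helper6

open scoped ComplexConjugate

section sat2

variable {G : Type*} [Group G] [Fintype G] [DecidableEq G]
variable {p : ℕ} [Fact p.Prime] {M : Ideal Cfsg.AlgInt}

/-- an element inducing an automorphism of `Q` by conjugation normalizes `Q` -/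
theorem mem_normalizer_of_mulAut (Q : Subgroup G) (α : MulAut Q) (g : G)
    (h : ∀ x : Q, ((α x : Q) : G) = g * (x : G) * g⁻¹) :
    g ∈ Subgroup.normalizer (Q : Set G) := by
  rw [Subgroup.mem_normalizer_iff]
  intro y
  constructor
  · intro hy
    rw [← h ⟨y, hy⟩]
    exact (α ⟨y, hy⟩).2
  · intro hy
    obtain ⟨u, hu⟩ := α.surjective ⟨_, hy⟩
    have h1 := h u
    rw [hu] at h1
    have h2 : y = (u : G) := mul_left_cancel (mul_right_cancel h1)
    rw [h2]
    exact u.2

/-- the conjugation action of a subgroup of the normalizer of `Q` on `Q` -/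
noncomputable def conjActHom (Q T : Subgroup G) (hTN : T ≤ Subgroup.normalizer (Q : Set G)) :
    T →* MulAut Q :=
  Q.normalizerMonoidHom.comp (Subgroup.inclusion hTN)

theorem conjActHom_apply_coe (Q T : Subgroup G) (hTN : T ≤ Subgroup.normalizer (Q : Set G))
    (t : T) (u : Q) : ((conjActHom Q T hTN t u : Q) : G) = (t : G) * (u : G) * (t : G)⁻¹ := rfl

theorem conjActHom_ker (Q T : Subgroup G) (hTN : T ≤ Subgroup.normalizer (Q : Set G)) :
    (conjActHom Q T hTN).ker = (Subgroup.centralizer (Q : Set G)).subgroupOf T := by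
  ext t
  rw [MonoidHom.mem_ker, Subgroup.mem_subgroupOf, Subgroup.mem_centralizer_iff]
  constructor
  · intro h u hu
    have h1 := congrArg (fun α : MulAut Q => ((α ⟨u, hu⟩ : Q) : G)) h
    simp only [conjActHom_apply_coe, MulAut.one_apply] at h1
    calc u * (t : G) = ((t : G) * u * (t : G)⁻¹) * (t : G) := by rw [h1]
      _ = (t : G) * u := by group
  · intro h
    ext u
    rw [conjActHom_apply_coe, MulAut.one_apply, ← h u u.2]
    group

/-- the automorphism group of `Q` in the fusion system of a block is induced by the stabilizer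
of the pair on `Q` -/
theorem blockFusion_autGroup_eq (hM : Cfsg.IsPModular p M)
    (B : Set (Cfsg.IrrCharacter G))
    (P : Subgroup G) (e : Set (Cfsg.IrrCharacter (Subgroup.centralizer (P : Set G))))
    (F : Cfsg.FusionSystem P) (hF : Cfsg.IsBlockFusionSystemOn p M B P e F)
    (Q : Subgroup G) (f : Set (Cfsg.IrrCharacter (Subgroup.centralizer (Q : Set G))))
    (hQP : Q ≤ P) (hle : Cfsg.SubpairLE p M Q f P e)
    (T : Subgroup G) (hT : ∀ y : G, y ∈ T ↔ y ∈ Subgroup.normalizer (Q : Set G) ∧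
      Cfsg.StabilizesBlock (Subgroup.centralizer (Q : Set G)) f y)
    (hTN : T ≤ Subgroup.normalizer (Q : Set G)) :
    F.autGroup Q = (conjActHom Q T hTN).range := by
  classical
  have hPe := hF.1.1.1
  unfold Cfsg.FusionSystem.autGroup
  have hset : {α : MulAut Q | Q.subtype.comp α.toMonoidHom ∈ F.Hom Q}
      = ((conjActHom Q T hTN).range : Set (MulAut Q)) := by
    ext α
    rw [Set.mem_ofPred_eq, hF.2 Q, SetLike.mem_coe, MonoidHom.mem_range]
    constructor
    · rintro ⟨_, g, hg, _, f', hf', hf'g⟩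
      have hff : f' = f := subpair_unique hM hPe hf' hle
      subst hff
      have hgN : g ∈ Subgroup.normalizer (Q : Set G) := mem_normalizer_of_mulAut Q α g hg
      have h1 : Relation.ReflTransGen (Cfsg.NormalSubpairRel p M) (conjPair g ⟨Q, f'⟩) ⟨P, e⟩ :=
        hf'g
      rw [conjPair_of_mem_normalizer Q hgN] at h1
      have h2 := subpair_unique hM hPe h1 hle
      have hst : Cfsg.StabilizesBlock (Subgroup.centralizer (Q : Set G)) f' g :=
        (stabilizesBlock_iff _ f' g).mpr ⟨_, h2⟩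
      refine ⟨⟨g, (hT g).mpr ⟨hgN, hst⟩⟩, ?_⟩
      ext u
      rw [conjActHom_apply_coe]
      exact (hg u).symm
    · rintro ⟨t, rfl⟩
      have ht := (hT t).mp t.2
      refine ⟨hQP, (t : G), fun u => rfl, ?_, f, hle, ?_⟩
      · rw [map_conj_eq_of_mem_normalizer ht.1]
        exact hQP
      · change Relation.ReflTransGen _ (conjPair (t : G) ⟨Q, f⟩) ⟨P, e⟩
        rw [conjPair_of_stab Q f ht.1 ht.2]
        exact hle
  rw [hset, Subgroup.closure_eq]

/-- the automorphisms of `Q` induced by `P` -/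
theorem autInducedBy_eq (P Q T : Subgroup G) (hTN : T ≤ Subgroup.normalizer (Q : Set G))
    (hNT : P ⊓ Subgroup.normalizer (Q : Set G) ≤ T) :
    Cfsg.autInducedBy P Q
      = ((P ⊓ Subgroup.normalizer (Q : Set G)).subgroupOf T).map (conjActHom Q T hTN) := by
  unfold Cfsg.autInducedBy
  have hset : {α : MulAut Q | ∃ g ∈ P, ∀ x : Q, ((α x : Q) : G) = g * (x : G) * g⁻¹}
      = ((((P ⊓ Subgroup.normalizer (Q : Set G)).subgroupOf T).map (conjActHom Q T hTN) :
          Subgroup (MulAut Q)) : Set (MulAut Q)) := by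
    ext α
    rw [Set.mem_ofPred_eq, SetLike.mem_coe, Subgroup.mem_map]
    constructor
    · rintro ⟨g, hgP, hg⟩
      have hgN : g ∈ Subgroup.normalizer (Q : Set G) := mem_normalizer_of_mulAut Q α g hg
      refine ⟨⟨g, hNT ⟨hgP, hgN⟩⟩, ?_, ?_⟩
      · rw [Subgroup.mem_subgroupOf]
        exact ⟨hgP, hgN⟩
      · ext u
        rw [conjActHom_apply_coe]
        exact (hg u).symm
    · rintro ⟨t, ht, rfl⟩
      rw [Subgroup.mem_subgroupOf] at ht
      exact ⟨(t : G), ht.1, fun x => rfl⟩
  rw [hset, Subgroup.closure_eq]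

/-- a fully normalized subgroup is fully automized in the fusion system of a block -/
theorem blockFusion_isFullyAutomized (hM : Cfsg.IsPModular p M)
    (B : Set (Cfsg.IrrCharacter G))
    (P : Subgroup G) (e : Set (Cfsg.IrrCharacter (Subgroup.centralizer (P : Set G))))
    (F : Cfsg.FusionSystem P) (hF : Cfsg.IsBlockFusionSystemOn p M B P e F)
    (Q : Subgroup G) (hQP : Q ≤ P) (hfn : F.IsFullyNormalized Q) :
    F.IsFullyAutomized p Q := by
  classical
  have hPe := hF.1.1.1
  have hQp : IsPGroup p Q := hPe.1.to_le hQP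
  obtain ⟨f, hf, hle⟩ := exists_subpair hM hPe hQP
  obtain ⟨T, hTdef⟩ : ∃ T : Subgroup G,
      T = stabSub (Subgroup.centralizer (Q : Set G)) f ⊓ Subgroup.normalizer (Q : Set G) :=
    ⟨_, rfl⟩
  have hT : ∀ y : G, y ∈ T ↔ y ∈ Subgroup.normalizer (Q : Set G) ∧
      Cfsg.StabilizesBlock (Subgroup.centralizer (Q : Set G)) f y := by
    intro y
    rw [hTdef, Subgroup.mem_inf, mem_stabSub_iff]
    exact And.comm
  have hTN : T ≤ Subgroup.normalizer (Q : Set G) := fun y hy => ((hT y).mp hy).1
  have : Fintype T := Fintype.ofFinite _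
  obtain ⟨F', hF', hcoef', hD⟩ :=
    (blockFusion_isFullyNormalized_iff hM B P e F hF Q f hQP hf hle T hT).mp hfn
  obtain ⟨F'', hF'', hcoef'', hdef⟩ := exists_block_of_stabilizer' hM Q hQp f hf T hT
  have hFF : F' = F'' := by
    apply Cfsg.Agent.S4672.eq_of_blockCoeff_eq
    intro t
    rw [hcoef', hcoef'']
  subst hFF
  have hidx := hdef _ hD
  obtain ⟨hNT, _⟩ := exists_isDefectGroup_ge_normalizerIn hM P Q e f hPe hQP hf hle T hT
    F' hF' hcoef'
  refine ⟨hQP, ?_⟩
  have hpg : IsPGroup p ((Cfsg.autInducedBy P Q).subgroupOf (F.autGroup Q)) := by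
    rw [autInducedBy_eq P Q T hTN hNT, ← Subgroup.comap_subtype]
    apply IsPGroup.comap_subtype
    apply IsPGroup.map
    rw [← Subgroup.comap_subtype]
    apply IsPGroup.comap_subtype
    exact hPe.1.to_le inf_le_left
  have hind : ¬ p ∣ ((Cfsg.autInducedBy P Q).subgroupOf (F.autGroup Q)).index := by
    change ¬ p ∣ (Cfsg.autInducedBy P Q).relIndex (F.autGroup Q)
    rw [autInducedBy_eq P Q T hTN hNT, blockFusion_autGroup_eq hM B P e F hF Q f hQP hle T hT hTN,
      MonoidHom.range_eq_map, Subgroup.relIndex_map_map, top_sup_eq, Subgroup.relIndex_top_right,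
      conjActHom_ker]
    exact hidx
  exact ⟨hpg.toSylow hind, rfl⟩

end sat2

end Cfsg.Agent.Lib.Helper6
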