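import Mathlib
import Cfsg.Prelude.Def_Blocks
import Cfsg.Prelude.Def_BrauerPairs
import Cfsg.Prelude.Def_BlockFusion
import Cfsg.Agent.Lib.Helper6.BrSat2
import Cfsg.Agent.Lib.Helper6.BrRel2

set_option autoImplicit false
set_option linter.unusedSectionVars false
open Cfsg

namespace Cfsg.Agent.Lib.Helper6

open scoped ComplexConjugate

section sat3

variable {G : Type*} [Group G] [Fintype G] [DecidableEq G]
variable {p : ℕ} [Fact p.Prime] {M : Ideal Cfsg.AlgInt}

/-- the idempotent of a block `f` of `C_G(Q)` is a block idempotent of every subgroup between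
`Q C_G(Q)` and the stabilizer of `(Q, f)` -/
theorem exists_block_of_sub_stab (hM : Cfsg.IsPModular p M) (Q : Subgroup G)
    (hQ : IsPGroup p Q) (f : Set (Cfsg.IrrCharacter (Subgroup.centralizer (Q : Set G))))
    (hf : Cfsg.IsPBlock M f) (T : Subgroup G)
    (hKT : Subgroup.centralizer (Q : Set G) ≤ T) (hQT : Q ≤ T)
    (hTNQ : T ≤ Subgroup.normalizer (Q : Set G))
    (hst : ∀ x ∈ T, Cfsg.StabilizesBlock (Subgroup.centralizer (Q : Set G)) f x) :
    ∃ F : Set (Cfsg.IrrCharacter T), Cfsg.IsPBlock M F ∧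
      ∀ t : T, Cfsg.blockCoeff F t
        = Cfsg.subgroupBlockCoeff (Subgroup.centralizer (Q : Set G)) f (t : G) := by
  classical
  have : Fintype T := Fintype.ofFinite _
  have : Fintype (Subgroup.centralizer (Q : Set G)) := Fintype.ofFinite _
  have hTN : T ≤ Subgroup.normalizer
      ((Subgroup.centralizer (Q : Set G) : Subgroup G) : Set G) :=
    hTNQ.trans (normalizer_le_normalizer_centralizer Q)
  haveI hn : ((Subgroup.centralizer (Q : Set G)).subgroupOf T).Normal :=
    Subgroup.normal_subgroupOf_of_le_normalizer hTN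
  have : Fintype ((Subgroup.centralizer (Q : Set G)).subgroupOf T) := Fintype.ofFinite _
  have hc : Cfsg.IsPBlock M (irrSub (Subgroup.centralizer (Q : Set G)) T hKT '' f) := by
    obtain ⟨θ₀, rfl⟩ := hf
    exact ⟨irrSub _ T hKT θ₀, image_irrSub_blockOf _ T hKT θ₀⟩
  obtain ⟨F, hF, hcoef⟩ := exists_block_of_stable_of_vanish
    ((Subgroup.centralizer (Q : Set G)).subgroupOf T) hM
    (fun χ g hg => centralChar_memLocalIdeal_of_stab hM Q hQ T hQT hTNQ χ g hg)
    (irrSub _ T hKT '' f) hc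
    (fun x => stabilizesBlock_irrSub _ T hKT hTN f x (hst x x.2))
  refine ⟨F, hF, ?_⟩
  intro t
  rw [hcoef, subgroupBlockCoeff_irrSub]

/-- Brauer pairs of a block of `L` in terms of the corresponding pair of the ambient group -/
theorem isBrauerPairOf_of_pairRel (L : Subgroup G) (a : Cfsg.BrauerPairIdx L)
    (a' : Cfsg.BrauerPairIdx G) (h : PairRel L a a') (b : Set (Cfsg.IrrCharacter L)) :
    Cfsg.IsBrauerPairOf p M b a.1 a.2
      ↔ IsPGroup p a'.1 ∧ Cfsg.IsPBlock M a'.2 ∧ Cfsg.IsPBlock M b ∧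
        ∀ ξ ∈ a'.2, Cfsg.MemLocalIdeal M
          (Cfsg.brauerOmega a'.1 (Cfsg.subgroupBlockCoeff L b) (ξ : _ → ℂ) - 1) := by
  obtain ⟨H, eL⟩ := a
  obtain ⟨R, eG⟩ := a'
  obtain ⟨h1, hC, h2⟩ := h
  simp only at h1 hC h2 ⊢
  rw [h2]
  exact isBrauerPairOf_rel2_iff L H R h1 hC b eL

/-- the key step for receptivity: a pair normally above a fully normalized pair `(Q, f)`, on
a subgroup of `N_P(Q) C_G(Q)`, is conjugate under `C_G(Q)` to a pair below `(P, e)` -/
theorem exists_centralizer_conj_subpairLE (hM : Cfsg.IsPModular p M)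
    (B : Set (Cfsg.IrrCharacter G))
    (P : Subgroup G) (e : Set (Cfsg.IrrCharacter (Subgroup.centralizer (P : Set G))))
    (F : Cfsg.FusionSystem P) (hF : Cfsg.IsBlockFusionSystemOn p M B P e F)
    (Q : Subgroup G) (f : Set (Cfsg.IrrCharacter (Subgroup.centralizer (Q : Set G))))
    (hQP : Q ≤ P) (hf : Cfsg.IsPBlock M f) (hle : Cfsg.SubpairLE p M Q f P e)
    (hfn : F.IsFullyNormalized Q)
    (X : Subgroup G) (fX : Set (Cfsg.IrrCharacter (Subgroup.centralizer (X : Set G))))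
    (hQX : Q ≤ X)
    (hXL : X ≤ (P ⊓ Subgroup.normalizer (Q : Set G)) ⊔ Subgroup.centralizer (Q : Set G))
    (hnX : Cfsg.IsNormalSubpair p M Q f X fX) :
    ∃ z ∈ Subgroup.centralizer (Q : Set G),
      Cfsg.SubpairLE p M (X.map (MulAut.conj z).toMonoidHom) (Cfsg.conjBlock X z fX) P e := by
  classical
  have hmax := hF.1
  have hPe := hmax.1.1
  have hB := hmax.1.2.1
  have hQp : IsPGroup p Q := hPe.1.to_le hQP
  have hQf : Cfsg.IsBrauerPair p M Q f := ⟨hQp, hf⟩
  -- `D = N_P(Q)`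
  obtain ⟨D, hDdef⟩ : ∃ D : Subgroup G, D = P ⊓ Subgroup.normalizer (Q : Set G) := ⟨_, rfl⟩
  rw [← hDdef] at hXL
  have hDP : D ≤ P := by rw [hDdef]; exact inf_le_left
  have hQD : Q ≤ D := by rw [hDdef]; exact le_inf hQP Subgroup.le_normalizer
  have hDN : D ≤ Subgroup.normalizer (Q : Set G) := by rw [hDdef]; exact inf_le_right
  obtain ⟨fD, hfD, hleD⟩ := exists_subpair hM hPe hDP
  have hDfD : Cfsg.IsBrauerPair p M D fD := ⟨hPe.1.to_le hDP, hfD⟩
  have hQD_le : Cfsg.SubpairLE p M Q f D fD := subpair_mono hM hPe hle hleD hQD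
  have hnD : Cfsg.IsNormalSubpair p M Q f D fD :=
    isNormalSubpair_of_chain hM ⟨Q, f⟩ ⟨D, fD⟩ hQD_le hQf hDN
  -- `L = N_P(Q) C_G(Q)`
  obtain ⟨L, hLdef⟩ : ∃ L : Subgroup G, L = D ⊔ Subgroup.centralizer (Q : Set G) := ⟨_, rfl⟩
  rw [← hLdef] at hXL
  have hDL : D ≤ L := by rw [hLdef]; exact le_sup_left
  have hCL : Subgroup.centralizer (Q : Set G) ≤ L := by rw [hLdef]; exact le_sup_right
  have hQL : Q ≤ L := hQD.trans hDL
  have hLN : L ≤ Subgroup.normalizer (Q : Set G) := by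
    rw [hLdef]
    exact sup_le hDN (Subgroup.centralizer_le_normalizer _)
  have hLst : ∀ x ∈ L, Cfsg.StabilizesBlock (Subgroup.centralizer (Q : Set G)) f x := by
    intro x hx
    rw [← mem_stabSub_iff]
    have : L ≤ stabSub (Subgroup.centralizer (Q : Set G)) f := by
      rw [hLdef]
      refine sup_le ?_ (le_stabSub _ f)
      intro y hy
      rw [mem_stabSub_iff]
      exact hnD.2.2.2.2.1 y hy
    exact this hx
  have : Fintype L := Fintype.ofFinite _
  obtain ⟨bL, hbL, hcoefL⟩ := exists_block_of_sub_stab hM Q hQp f hf L hCL hQL hLN hLst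
  have hβ : Cfsg.subgroupBlockCoeff L bL
      = Cfsg.subgroupBlockCoeff (Subgroup.centralizer (Q : Set G)) f := by
    funext g
    by_cases hg : g ∈ L
    · rw [subgroupBlockCoeff_of_mem L bL hg, hcoefL]
    · rw [subgroupBlockCoeff_of_not_mem L bL hg, subgroupBlockCoeff_of_not_mem]
      exact fun hcon => hg (hCL hcon)
  -- pairs normally above `(Q, f)` on subgroups of `L` are pairs of `bL`
  have hpairL : ∀ (Y : Subgroup G) (fY : Set (Cfsg.IrrCharacter (Subgroup.centralizer (Y : Set G))))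
      (a : Cfsg.BrauerPairIdx L), Cfsg.IsNormalSubpair p M Q f Y fY → PairRel L a ⟨Y, fY⟩ →
      Cfsg.IsBrauerPairOf p M bL a.1 a.2 := by
    intro Y fY a hn ha
    rw [isBrauerPairOf_of_pairRel L a ⟨Y, fY⟩ ha bL]
    refine ⟨hn.2.1.1, hn.2.1.2, hbL, ?_⟩
    simp only
    rw [hβ]
    exact hn.2.2.2.2.2
  -- the maximal pair of `L`
  have hCD : Subgroup.centralizer (D : Set G) ≤ L := (Subgroup.centralizer_le hQD).trans hCL
  have haD := PairRel.mk' L D hDL hCD fD
  have haD_pair := hpairL D fD _ hnD haD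
  have hmaxL : Cfsg.IsMaximalBrauerPair p M bL (D.subgroupOf L)
      (mapIrr (cE L (D.subgroupOf L) D (Subgroup.map_subgroupOf_eq_of_le hDL) hCD).symm '' fD) := by
    refine ⟨haD_pair, ?_⟩
    intro R g hRg hleR
    have hDR : D.subgroupOf L ≤ R := le_of_chain _ ⟨R, g⟩ hleR
    have hD_RG : D ≤ R.map L.subtype := by
      intro x hx
      exact ⟨⟨x, hDL hx⟩, hDR (by rw [Subgroup.mem_subgroupOf]; exact hx), rfl⟩
    have hCR : Subgroup.centralizer ((R.map L.subtype : Subgroup G) : Set G) ≤ L :=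
      (Subgroup.centralizer_le (hQD.trans hD_RG)).trans hCL
    have hrel := PairRel.mk L R hCR g
    obtain ⟨hRGp, hgG, _, homR⟩ := (isBrauerPairOf_of_pairRel L _ _ hrel bL).mp hRg
    simp only at hRGp hgG homR
    have hRGL : R.map L.subtype ≤ L := le_of_map_eq L R _ rfl
    have hnR : Cfsg.IsNormalSubpair p M Q f (R.map L.subtype)
        (mapIrr (cE L R _ rfl hCR) '' g) := by
      refine ⟨hQf, ⟨hRGp, hgG⟩, hQD.trans hD_RG, hRGL.trans hLN,
        fun x hx => hLst x (hRGL hx), ?_⟩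
      rw [← hβ]
      exact homR
    have hBQ : Cfsg.IsBrauerPairOf p M B Q f :=
      (isBrauerPairOf_iff_of_chain hM B hB ⟨Q, f⟩ ⟨P, e⟩ hle).mp hmax.1
    have : Fintype (Subgroup.centralizer (Q : Set G)) := Fintype.ofFinite _
    have : Fintype (Subgroup.centralizer ((R.map L.subtype : Subgroup G) : Set G)) :=
      Fintype.ofFinite _
    have hBR : Cfsg.IsBrauerPairOf p M B (R.map L.subtype) (mapIrr (cE L R _ rfl hCR) '' g) :=
      (isBrauerPairOf_iff_of_isNormalSubpair (R.map L.subtype) Q hM _ f hnR B hB).mpr hBQ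
    obtain ⟨y, hy⟩ := exists_conj_subpairLE hM B P (R.map L.subtype) e _ hmax hBR
    have hny := isNormalSubpair_conj (R.map L.subtype) Q y _ f hnR
    have hny' : Cfsg.NormalSubpairRel p M
        ⟨Q.map (MulAut.conj y).toMonoidHom, Cfsg.conjBlock Q y f⟩
        ⟨(R.map L.subtype).map (MulAut.conj y).toMonoidHom,
          Cfsg.conjBlock (R.map L.subtype) y (mapIrr (cE L R _ rfl hCR) '' g)⟩ := hny
    have hQy : Cfsg.SubpairLE p M (Q.map (MulAut.conj y).toMonoidHom) (Cfsg.conjBlock Q y f) P e :=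
      Relation.ReflTransGen.head hny' hy
    have hconj : F.IsConj Q (Q.map (MulAut.conj y).toMonoidHom) :=
      (blockFusion_isConj_iff hM B P e F hF Q f hQP hf hle _).mpr ⟨y, rfl, hQy⟩
    have hcard := hfn.2 _ hconj
    have hRGy : (R.map L.subtype).map (MulAut.conj y).toMonoidHom
        ≤ Cfsg.FusionSystem.normalizerIn P (Q.map (MulAut.conj y).toMonoidHom) :=
      le_inf (le_of_chain _ _ hy) hny.2.2.2.1
    have hc1 : Nat.card (R.map L.subtype)
        = Nat.card ((R.map L.subtype).map (MulAut.conj y).toMonoidHom) :=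
      (Subgroup.card_map_of_injective (MulAut.conj y).injective).symm
    have hc2 := Subgroup.card_le_of_le hRGy
    have hc3 : Nat.card (Cfsg.FusionSystem.normalizerIn P Q) = Nat.card D := by
      rw [hDdef]
      rfl
    have hRGD : D = R.map L.subtype := Subgroup.eq_of_le_of_card_ge hD_RG (by omega)
    ext x
    rw [Subgroup.mem_subgroupOf, hRGD]
    exact mem_iff_of_map_eq L R _ rfl x
  -- the pair on `X`
  have hCX : Subgroup.centralizer (X : Set G) ≤ L := (Subgroup.centralizer_le hQX).trans hCL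
  have haX := PairRel.mk' L X hXL hCX fX
  have haX_pair := hpairL X fX _ hnX haX
  obtain ⟨c, hc⟩ := exists_conj_subpairLE hM bL _ _ _ _ hmaxL haX_pair
  have hrelc := PairRel.conj L haX c
  obtain ⟨d', hd', hch⟩ := chain_of_rel2 L _ _ hc _ hrelc
  have hd'eq : d' = ⟨D, fD⟩ := PairRel.unique L hd' haD
  rw [hd'eq] at hch
  -- decompose `c`
  have hDnC : D ≤ Subgroup.normalizer
      ((Subgroup.centralizer (Q : Set G) : Subgroup G) : Set G) :=
    hDN.trans (normalizer_le_normalizer_centralizer Q)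
  have hcL : (c : G) ∈ ((D ⊔ Subgroup.centralizer (Q : Set G) : Subgroup G) : Set G) := by
    rw [← hLdef]
    exact c.2
  rw [Subgroup.coe_mul_of_left_le_normalizer_right D _ hDnC, Set.mem_mul] at hcL
  obtain ⟨u, hu, z, hz, hcz⟩ := hcL
  have h1 := chain_conj u⁻¹ _ _ (Relation.ReflTransGen.trans hch hleD)
  rw [conjPair_of_mem hM P e hPe (P.inv_mem (hDP hu))] at h1
  have h2 : conjPair u⁻¹ ⟨X.map (MulAut.conj (c : G)).toMonoidHom, Cfsg.conjBlock X (c : G) fX⟩
      = conjPair z ⟨X, fX⟩ := by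
    have h3 : (⟨X.map (MulAut.conj (c : G)).toMonoidHom, Cfsg.conjBlock X (c : G) fX⟩ :
        Cfsg.BrauerPairIdx G) = conjPair (c : G) ⟨X, fX⟩ := rfl
    rw [h3, ← conjPair_mul, ← hcz]
    congr 1
    group
  rw [h2] at h1
  exact ⟨z, hz, h1⟩

end sat3

end Cfsg.Agent.Lib.Helper6
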