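import Mathlib
import Cfsg.Prelude.Def_Blocks
import Cfsg.Prelude.Def_BrauerPairs
import Cfsg.Prelude.Def_BlockFusion
import Cfsg.Agent.Lib.Helper6.BrSat3

set_option autoImplicit false
set_option linter.unusedSectionVars false
open Cfsg

namespace Cfsg.Agent.Lib.Helper6

open scoped ComplexConjugate

section sat4

variable {G : Type*} [Group G] [Fintype G] [DecidableEq G]
variable {p : ℕ} [Fact p.Prime] {M : Ideal Cfsg.AlgInt}

/-- a fully normalized subgroup is receptive in the fusion system of a block -/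
theorem blockFusion_isReceptive (hM : Cfsg.IsPModular p M)
    (B : Set (Cfsg.IrrCharacter G))
    (P : Subgroup G) (e : Set (Cfsg.IrrCharacter (Subgroup.centralizer (P : Set G))))
    (F : Cfsg.FusionSystem P) (hF : Cfsg.IsBlockFusionSystemOn p M B P e F)
    (Q : Subgroup G) (hQP : Q ≤ P) (hfn : F.IsFullyNormalized Q) :
    F.IsReceptive Q := by
  classical
  have hmax := hF.1
  have hPe := hmax.1.1
  refine ⟨hQP, ?_⟩
  intro R φ hφ hr
  obtain ⟨hRP, g, hg, hRg, fR, hleR, hleRg⟩ := (hF.2 R φ).mp hφ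
  have hrange : φ.range = R.map (MulAut.conj g).toMonoidHom := by
    rw [← range_conjHom]
    congr 1
    ext u
    rw [hg u]
    rfl
  have hQeq : Q = R.map (MulAut.conj g).toMonoidHom := hr.symm.trans hrange
  subst hQeq
  have hfR : Cfsg.IsPBlock M fR := (isBrauerPair_of_chain ⟨R, fR⟩ ⟨P, e⟩ hleR hPe).2
  have hfRg : Cfsg.IsPBlock M (Cfsg.conjBlock R g fR) := isPBlock_conjBlock R g hfR
  -- the extender
  obtain ⟨N, hNdef⟩ : ∃ N : Subgroup G, N = Cfsg.FusionSystem.extender P R φ := ⟨_, rfl⟩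
  rw [← hNdef]
  have hNP : N ≤ P := by
    rw [hNdef]
    unfold Cfsg.FusionSystem.extender
    rw [Subgroup.closure_le]
    intro y hy
    exact hy.1
  have hNN : N ≤ Subgroup.normalizer (R : Set G) := by
    rw [hNdef]
    unfold Cfsg.FusionSystem.extender
    rw [Subgroup.closure_le]
    intro y hy
    exact hy.2.1
  have hRN : R ≤ N := by
    rw [hNdef]
    unfold Cfsg.FusionSystem.extender
    intro y hy
    apply Subgroup.subset_closure
    refine ⟨hRP hy, Subgroup.le_normalizer hy, g * y * g⁻¹, hRg (conj_mem_map_conj R g hy), ?_⟩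
    intro x hx
    rw [hg, hg]
    simp only
    group
  -- the image of the extender lies in `N_P(Q) C_G(Q)`
  have hNgL : N.map (MulAut.conj g).toMonoidHom
      ≤ (P ⊓ Subgroup.normalizer ((R.map (MulAut.conj g).toMonoidHom : Subgroup G) : Set G))
        ⊔ Subgroup.centralizer ((R.map (MulAut.conj g).toMonoidHom : Subgroup G) : Set G) := by
    rw [Subgroup.map_le_iff_le_comap, hNdef]
    unfold Cfsg.FusionSystem.extender
    rw [Subgroup.closure_le]
    rintro y ⟨hyP, hyN, h, hhP, hh⟩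
    rw [SetLike.mem_coe, Subgroup.mem_comap]
    change g * y * g⁻¹ ∈ _
    have hkey : ∀ x ∈ R, ∀ hx : y * x * y⁻¹ ∈ R,
        g * (y * x * y⁻¹) * g⁻¹ = h * (g * x * g⁻¹) * h⁻¹ := by
      intro x hxR hx
      have := hh ⟨x, hxR⟩ hx
      rw [hg, hg] at this
      exact this
    have hyN' : ∀ x, x ∈ R → y * x * y⁻¹ ∈ R := fun x hx =>
      (Subgroup.mem_normalizer_iff.mp hyN x).mp hx
    have hyN'' : ∀ x, x ∈ R → y⁻¹ * x * y ∈ R := fun x hx => by
      have := (Subgroup.mem_normalizer_iff.mp (Subgroup.inv_mem _ hyN) x).mp hx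
      simpa using this
    -- `h` normalizes `Q`
    have hhN : h ∈ Subgroup.normalizer ((R.map (MulAut.conj g).toMonoidHom : Subgroup G) : Set G) := by
      have hfwd : ∀ q, q ∈ R.map (MulAut.conj g).toMonoidHom →
          h * q * h⁻¹ ∈ R.map (MulAut.conj g).toMonoidHom := by
        intro q hq
        rw [mem_map_conj_iff] at hq
        have h1 := hkey _ hq (hyN' _ hq)
        have e1 : g * (g⁻¹ * q * g) * g⁻¹ = q := by group
        rw [e1] at h1
        rw [← h1]
        exact conj_mem_map_conj R g (hyN' _ hq)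
      have hbwd : ∀ q, q ∈ R.map (MulAut.conj g).toMonoidHom →
          h⁻¹ * q * h ∈ R.map (MulAut.conj g).toMonoidHom := by
        intro q hq
        rw [mem_map_conj_iff] at hq
        have hx' := hyN'' _ hq
        have hx'' : y * (y⁻¹ * (g⁻¹ * q * g) * y) * y⁻¹ ∈ R := hyN' _ hx'
        have h1 := hkey _ hx' hx''
        have e1 : g * (y * (y⁻¹ * (g⁻¹ * q * g) * y) * y⁻¹) * g⁻¹ = q := by group
        rw [e1] at h1
        have e2 : h⁻¹ * q * h = g * (y⁻¹ * (g⁻¹ * q * g) * y) * g⁻¹ := by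
          conv_lhs => rw [h1]
          group
        rw [e2]
        exact conj_mem_map_conj R g hx'
      rw [Subgroup.mem_normalizer_iff]
      intro q
      constructor
      · exact hfwd q
      · intro hq
        have := hbwd _ hq
        have e : h⁻¹ * (h * q * h⁻¹) * h = q := by group
        rwa [e] at this
    -- `h⁻¹ g y g⁻¹` centralizes `Q`
    have hcen : h⁻¹ * (g * y * g⁻¹) ∈ Subgroup.centralizer
        ((R.map (MulAut.conj g).toMonoidHom : Subgroup G) : Set G) := by
      rw [Subgroup.mem_centralizer_iff]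
      intro q hq
      rw [SetLike.mem_coe, mem_map_conj_iff] at hq
      have h1 := hkey _ hq (hyN' _ hq)
      have e1 : g * (g⁻¹ * q * g) * g⁻¹ = q := by group
      rw [e1] at h1
      have e2 : g * (y * (g⁻¹ * q * g) * y⁻¹) * g⁻¹ = (g * y * g⁻¹) * q * (g * y * g⁻¹)⁻¹ := by
        group
      rw [e2] at h1
      calc q * (h⁻¹ * (g * y * g⁻¹)) = h⁻¹ * (h * q * h⁻¹) * (g * y * g⁻¹) := by group
        _ = h⁻¹ * ((g * y * g⁻¹) * q * (g * y * g⁻¹)⁻¹) * (g * y * g⁻¹) := by rw [h1]
        _ = h⁻¹ * (g * y * g⁻¹) * q := by group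
    have e3 : g * y * g⁻¹ = h * (h⁻¹ * (g * y * g⁻¹)) := by group
    rw [e3]
    exact Subgroup.mul_mem _ (Subgroup.mem_sup_left ⟨hhP, hhN⟩) (Subgroup.mem_sup_right hcen)
  -- the pair on the extender
  obtain ⟨fN, hfN, hleN⟩ := exists_subpair hM hPe hNP
  have hRfR : Cfsg.IsBrauerPair p M R fR := ⟨hPe.1.to_le hRP, hfR⟩
  have hRN_le : Cfsg.SubpairLE p M R fR N fN := subpair_mono hM hPe hleR hleN hRN
  have hnRN : Cfsg.IsNormalSubpair p M R fR N fN :=
    isNormalSubpair_of_chain hM ⟨R, fR⟩ ⟨N, fN⟩ hRN_le hRfR hNN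
  have hnX := isNormalSubpair_conj N R g fN fR hnRN
  obtain ⟨z, hz, hzle⟩ := exists_centralizer_conj_subpairLE hM B P e F hF
    (R.map (MulAut.conj g).toMonoidHom) (Cfsg.conjBlock R g fR) hQP hfRg hleRg hfn
    (N.map (MulAut.conj g).toMonoidHom) (Cfsg.conjBlock N g fN) (Subgroup.map_mono hRN) hNgL hnX
  have hzg : Cfsg.SubpairLE p M (N.map (MulAut.conj (z * g)).toMonoidHom)
      (Cfsg.conjBlock N (z * g) fN) P e := by
    change Relation.ReflTransGen _ (conjPair (z * g) ⟨N, fN⟩) ⟨P, e⟩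
    rw [conjPair_mul]
    exact hzle
  refine ⟨Cfsg.conjHom N (z * g), ?_, ?_⟩
  · rw [hF.2 N]
    exact ⟨hNP, z * g, fun u => rfl, le_of_chain _ _ hzg, fN, hleN, hzg⟩
  · intro x hxR hxN
    rw [hg]
    change (z * g) * x * (z * g)⁻¹ = _
    have h1 := Subgroup.mem_centralizer_iff.mp hz (g * x * g⁻¹) (conj_mem_map_conj R g hxR)
    calc (z * g) * x * (z * g)⁻¹ = z * (g * x * g⁻¹) * z⁻¹ := by group
      _ = (g * x * g⁻¹) * z * z⁻¹ := by rw [h1]
      _ = g * x * g⁻¹ := by group

/-- the fusion system of a block on a maximal Brauer pair is saturated -/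
theorem blockFusion_isSaturated (hM : Cfsg.IsPModular p M)
    (B : Set (Cfsg.IrrCharacter G))
    (P : Subgroup G) (e : Set (Cfsg.IrrCharacter (Subgroup.centralizer (P : Set G))))
    (F : Cfsg.FusionSystem P) (hF : Cfsg.IsBlockFusionSystemOn p M B P e F) :
    F.IsSaturated p := by
  classical
  have hmax := hF.1
  have hPe := hmax.1.1
  intro Q hQP
  obtain ⟨f, hf, hle⟩ := exists_subpair hM hPe hQP
  obtain ⟨x, hx, hTx⟩ := exists_conj_isDefectGroup_normalizerIn hM B P Q e f hmax hQP hf hle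
  have hconj : F.IsConj Q (Q.map (MulAut.conj x).toMonoidHom) :=
    (blockFusion_isConj_iff hM B P e F hF Q f hQP hf hle _).mpr ⟨x, rfl, hx⟩
  have hQxP := le_of_chain _ _ hx
  have hfx := isPBlock_conjBlock (M := M) Q x hf
  obtain ⟨T', hT'def⟩ : ∃ T' : Subgroup G,
      T' = stabSub (Subgroup.centralizer
          ((Q.map (MulAut.conj x).toMonoidHom : Subgroup G) : Set G)) (Cfsg.conjBlock Q x f)
        ⊓ Subgroup.normalizer ((Q.map (MulAut.conj x).toMonoidHom : Subgroup G) : Set G) :=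
    ⟨_, rfl⟩
  have hT' : ∀ y : G, y ∈ T' ↔
      y ∈ Subgroup.normalizer ((Q.map (MulAut.conj x).toMonoidHom : Subgroup G) : Set G) ∧
      Cfsg.StabilizesBlock
        (Subgroup.centralizer ((Q.map (MulAut.conj x).toMonoidHom : Subgroup G) : Set G))
        (Cfsg.conjBlock Q x f) y := by
    intro y
    rw [hT'def, Subgroup.mem_inf, mem_stabSub_iff]
    exact And.comm
  have hfn : F.IsFullyNormalized (Q.map (MulAut.conj x).toMonoidHom) :=
    (blockFusion_isFullyNormalized_iff hM B P e F hF _ _ hQxP hfx hx T' hT').mpr (hTx T' hT')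
  exact ⟨_, hconj, blockFusion_isFullyAutomized hM B P e F hF _ hQxP hfn,
    blockFusion_isReceptive hM B P e F hF _ hQxP hfn⟩

end sat4

end Cfsg.Agent.Lib.Helper6
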