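import Mathlib
import Cfsg.Prelude.Def_Blocks
import Cfsg.Prelude.Def_BrauerPairs
import Cfsg.Prelude.Def_BlockFusion
import Cfsg.Agent.Lib.Helper6.BrSat4
import Cfsg.Agent.Lib.Helper6.BlkOrthFull

set_option autoImplicit false
set_option linter.unusedSectionVars false
open Cfsg

namespace Cfsg.Agent.Lib.Helper6

open scoped ComplexConjugate

section sat5

variable {G : Type*} [Group G] [Fintype G] [DecidableEq G]
variable {p : ℕ} [Fact p.Prime] {M : Ideal Cfsg.AlgInt}

/-- the idempotent coefficients of a block of `L` with the idempotent of `f` -/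
theorem subgroupBlockCoeff_eq_of_coef (Q : Subgroup G)
    (f : Set (Cfsg.IrrCharacter (Subgroup.centralizer (Q : Set G)))) (L : Subgroup G)
    (hCL : Subgroup.centralizer (Q : Set G) ≤ L) (bL : Set (Cfsg.IrrCharacter L))
    (hcoefL : ∀ t : L, Cfsg.blockCoeff bL t
      = Cfsg.subgroupBlockCoeff (Subgroup.centralizer (Q : Set G)) f (t : G)) :
    Cfsg.subgroupBlockCoeff L bL
      = Cfsg.subgroupBlockCoeff (Subgroup.centralizer (Q : Set G)) f := by
  funext g
  by_cases hg : g ∈ L
  · rw [subgroupBlockCoeff_of_mem L bL hg, hcoefL]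
  · rw [subgroupBlockCoeff_of_not_mem L bL hg, subgroupBlockCoeff_of_not_mem]
    exact fun hcon => hg (hCL hcon)

/-- a Brauer pair `(R, g)` of the block of `L` with the idempotent of `f` whose group contains
`Q` gives a pair of the ambient group normally above `(Q, f)` -/
theorem isNormalSubpair_of_isBrauerPairOf_sub (Q : Subgroup G)
    (f : Set (Cfsg.IrrCharacter (Subgroup.centralizer (Q : Set G))))
    (hQf : Cfsg.IsBrauerPair p M Q f) (L : Subgroup G)
    (hCL : Subgroup.centralizer (Q : Set G) ≤ L)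
    (hLN : L ≤ Subgroup.normalizer (Q : Set G))
    (hLst : ∀ x ∈ L, Cfsg.StabilizesBlock (Subgroup.centralizer (Q : Set G)) f x)
    (bL : Set (Cfsg.IrrCharacter L))
    (hcoefL : ∀ t : L, Cfsg.blockCoeff bL t
      = Cfsg.subgroupBlockCoeff (Subgroup.centralizer (Q : Set G)) f (t : G))
    (R : Subgroup L)
    (g : Set (Cfsg.IrrCharacter (Subgroup.centralizer (R : Set L))))
    (hQR : Q ≤ R.map L.subtype) (hRg : Cfsg.IsBrauerPairOf p M bL R g) :
    ∃ hCR : Subgroup.centralizer ((R.map L.subtype : Subgroup G) : Set G) ≤ L,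
      Cfsg.IsNormalSubpair p M Q f (R.map L.subtype) (mapIrr (cE L R _ rfl hCR) '' g) := by
  have hCR : Subgroup.centralizer ((R.map L.subtype : Subgroup G) : Set G) ≤ L :=
    (Subgroup.centralizer_le hQR).trans hCL
  refine ⟨hCR, ?_⟩
  have hβ := subgroupBlockCoeff_eq_of_coef Q f L hCL bL hcoefL
  have hrel := PairRel.mk L R hCR g
  obtain ⟨hRGp, hgG, _, homR⟩ := (isBrauerPairOf_of_pairRel L _ _ hrel bL).mp hRg
  simp only at hRGp hgG homR
  have hRGL : R.map L.subtype ≤ L := le_of_map_eq L R _ rfl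
  refine ⟨hQf, ⟨hRGp, hgG⟩, hQR, hRGL.trans hLN, fun x hx => hLst x (hRGL hx), ?_⟩
  rw [← hβ]
  exact homR

theorem isConj_self (P : Subgroup G) (F : Cfsg.FusionSystem P) (Q : Subgroup G) (hQP : Q ≤ P) :
    F.IsConj Q Q := by
  refine ⟨Cfsg.conjHom Q 1, F.conj_mem hQP P.one_mem, ?_⟩
  rw [range_conjHom]
  have : (MulAut.conj (1 : G)).toMonoidHom = MonoidHom.id G := by
    ext g
    simp
  rw [this, Subgroup.map_id]

end sat5

end Cfsg.Agent.Lib.Helper6
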