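import Mathlib
import Cfsg.Prelude.Def_Blocks
import Cfsg.Prelude.Def_BrauerPairs
import Cfsg.Agent.Lib.Helper6.BrSat5

set_option autoImplicit false
set_option linter.unusedSectionVars false
open Cfsg

namespace Cfsg.Agent.Lib.Helper6

open scoped ComplexConjugate

/-- an automorphism of a cyclic `p`-group of order prime to `p` fixing a non-identity element is
trivial -/
theorem aut_eq_one_of_fix {P : Type*} [Group P] [Finite P] [hc : IsCyclic P] (p : ℕ)
    [hp : Fact p.Prime] (hP : IsPGroup p P) (α : MulAut P) (m : ℕ) (hm : α ^ m = 1)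
    (hcop : Nat.Coprime m p) (x : P) (hx1 : x ≠ 1) (hx : α x = x) : α = 1 := by
  classical
  have : Fintype P := Fintype.ofFinite P
  have hcomm : ∀ a b : P, a * b = b * a :=
    fun a b => (IsCyclic.isMulCommutative (α := P)).is_comm.comm a b
  -- an element of order `p` fixed by `α`
  obtain ⟨k, hk⟩ := (IsPGroup.iff_orderOf.mp hP) x
  have hk1 : k ≠ 0 := by
    rintro rfl
    rw [pow_zero, orderOf_eq_one_iff] at hk
    exact hx1 hk
  obtain ⟨k', rfl⟩ := Nat.exists_eq_succ_of_ne_zero hk1
  obtain ⟨c₀, hc₀def⟩ : ∃ c₀ : P, c₀ = x ^ (p ^ k') := ⟨_, rfl⟩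
  have hc₀ord : orderOf c₀ = p := by
    rw [hc₀def, orderOf_pow' x (pow_ne_zero _ hp.out.pos.ne'), hk,
      Nat.gcd_eq_right (pow_dvd_pow p (Nat.le_succ k')),
      pow_succ, Nat.mul_div_cancel_left _ (pow_pos hp.out.pos k')]
  have hc₀fix : α c₀ = c₀ := by rw [hc₀def, map_pow, hx]
  -- elements of order dividing `p` are powers of `c₀`
  have hΩ : ∀ w : P, w ^ p = 1 → α w = w := by
    intro w hw
    have hsub : (Finset.univ.filter fun a : P => a ∈ Subgroup.zpowers c₀)
        ⊆ Finset.univ.filter fun a : P => a ^ p = 1 := by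
      intro a ha
      rw [Finset.mem_filter] at ha ⊢
      refine ⟨Finset.mem_univ _, ?_⟩
      obtain ⟨i, rfl⟩ := ha.2
      rw [← zpow_natCast, ← zpow_mul, mul_comm, zpow_mul, zpow_natCast, ← hc₀ord,
        pow_orderOf_eq_one, one_zpow]
    have hcard1 : (Finset.univ.filter fun a : P => a ∈ Subgroup.zpowers c₀).card = p := by
      rw [← hc₀ord, ← Nat.card_zpowers, Nat.card_eq_fintype_card, Fintype.card_subtype]
    have hcard2 := IsCyclic.card_pow_eq_one_le (α := P) hp.out.pos
    have heq := Finset.eq_of_subset_of_card_le hsub (by rw [hcard1]; exact hcard2)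
    have hwmem : w ∈ Finset.univ.filter fun a : P => a ^ p = 1 := by
      rw [Finset.mem_filter]; exact ⟨Finset.mem_univ _, hw⟩
    rw [← heq, Finset.mem_filter] at hwmem
    obtain ⟨i, rfl⟩ := hwmem.2
    rw [map_zpow, hc₀fix]
  -- the key step
  have hkey : ∀ z : P, α (z ^ p) = z ^ p → α z = z := by
    intro z hz
    obtain ⟨w, hwdef⟩ : ∃ w : P, w = z⁻¹ * α z := ⟨_, rfl⟩
    have hαz : α z = z * w := by rw [hwdef]; group
    have hwp : w ^ p = 1 := by
      rw [hwdef, Commute.mul_pow (hcomm _ _ : Commute z⁻¹ (α z))]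
      rw [← map_pow, hz, inv_pow, inv_mul_cancel]
    have hαw : α w = w := hΩ w hwp
    have hiter : ∀ j : ℕ, (α ^ j) z = z * w ^ j := by
      intro j
      induction j with
      | zero => simp
      | succ j ih =>
        rw [pow_succ', MulAut.mul_apply, ih, map_mul, map_pow, hαw, hαz, pow_succ, mul_assoc,
          hcomm w (w ^ j)]
    have h1 := hiter m
    rw [hm, MulAut.one_apply] at h1
    have hwm : w ^ m = 1 := by
      have := mul_left_cancel (a := z) (b := 1) (c := w ^ m) (by rw [mul_one]; exact h1)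
      exact this.symm
    have hw1 : w = 1 := by
      have h2 := orderOf_dvd_of_pow_eq_one hwm
      have h3 := orderOf_dvd_of_pow_eq_one hwp
      have := Nat.dvd_gcd h2 h3
      rw [hcop] at this
      exact orderOf_eq_one_iff.mp (Nat.dvd_one.mp this)
    rw [hαz, hw1, mul_one]
  -- induction along a generator
  obtain ⟨y, hy⟩ := hc.exists_generator
  obtain ⟨n, hn⟩ := (IsPGroup.iff_orderOf.mp hP) y
  have hind : ∀ j : ℕ, j ≤ n → α (y ^ (p ^ (n - j))) = y ^ (p ^ (n - j)) := by
    intro j
    induction j with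
    | zero =>
      intro _
      rw [Nat.sub_zero, ← hn, pow_orderOf_eq_one, map_one]
    | succ j ih =>
      intro hj
      apply hkey
      have : (y ^ p ^ (n - (j + 1))) ^ p = y ^ p ^ (n - j) := by
        rw [← pow_mul, ← pow_succ]
        congr 2
        omega
      rw [this]
      exact ih (by omega)
  have hy1 : α y = y := by
    have := hind n le_rfl
    simpa using this
  ext z
  obtain ⟨i, rfl⟩ := hy z
  rw [map_zpow, hy1, MulAut.one_apply]

section maxdef

variable {G : Type*} [Group G] [Fintype G] [DecidableEq G]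
variable {p : ℕ} [Fact p.Prime] {M : Ideal Cfsg.AlgInt}

/-- a Brauer pair of `B` on a defect group of `B` is maximal -/
theorem isMaximalBrauerPair_of_isDefectGroup (hM : Cfsg.IsPModular p M)
    (B : Set (Cfsg.IrrCharacter G)) (P : Subgroup G)
    (c : Set (Cfsg.IrrCharacter (Subgroup.centralizer (P : Set G))))
    (hPD : Cfsg.IsDefectGroup p M B P) (hPc : Cfsg.IsBrauerPairOf p M B P c) :
    Cfsg.IsMaximalBrauerPair p M B P c := by
  refine ⟨hPc, ?_⟩
  intro R g hRg hle
  obtain ⟨b, hb, hch⟩ := exists_maximal_above (p := p) (M := M) B _ ⟨R, g⟩ le_rfl hRg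
  have hD := isDefectGroup_of_isMaximalBrauerPair hM B b.1 b.2 hb
  have hcard := card_eq_of_isDefectGroup hM B hPc.2.1 _ _ hD hPD
  have h1 : P ≤ R := le_of_chain _ ⟨R, g⟩ hle
  have h2 : R ≤ b.1 := le_of_chain ⟨R, g⟩ _ hch
  have h3 := Subgroup.card_le_of_le h2
  symm
  exact Subgroup.eq_of_le_of_card_ge h1 (by omega)

end maxdef

end Cfsg.Agent.Lib.Helper6
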