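import Mathlib
import Cfsg.Prelude.Def_Blocks
import Cfsg.Prelude.Def_BrauerPairs
import Cfsg.Agent.Lib.Helper6.BrRel2

set_option autoImplicit false
set_option linter.unusedSectionVars false
open Cfsg

namespace Cfsg.Agent.Lib.Helper6

open scoped ComplexConjugate

section rel3

variable {G : Type*} [Group G] [Fintype G] [DecidableEq G]
variable {p : ℕ} [Fact p.Prime] {M : Ideal Cfsg.AlgInt}
variable (L : Subgroup G) (H : Subgroup L) (R : Subgroup G)

/-- the centralizer of `H` in `L` is the centralizer in `G` of `R`, when the two have the same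
elements -/
noncomputable def cE3
    (hcen : ∀ x : L, x ∈ Subgroup.centralizer ((H : Subgroup L) : Set L)
      ↔ (x : G) ∈ Subgroup.centralizer (R : Set G))
    (hCL : Subgroup.centralizer (R : Set G) ≤ L) :
    Subgroup.centralizer ((H : Subgroup L) : Set L) ≃* Subgroup.centralizer (R : Set G) where
  toFun c := ⟨((c : L) : G), (hcen c).mp c.2⟩
  invFun d := ⟨⟨(d : G), hCL d.2⟩, (hcen _).mpr d.2⟩
  left_inv c := by
    apply Subtype.ext
    apply Subtype.ext
    rfl
  right_inv d := by
    apply Subtype.ext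
    rfl
  map_mul' c d := by
    apply Subtype.ext
    rfl

theorem cE3_apply_coe
    (hcen : ∀ x : L, x ∈ Subgroup.centralizer ((H : Subgroup L) : Set L)
      ↔ (x : G) ∈ Subgroup.centralizer (R : Set G))
    (hCL : Subgroup.centralizer (R : Set G) ≤ L)
    (c : Subgroup.centralizer ((H : Subgroup L) : Set L)) :
    ((cE3 L H R hcen hCL c : _) : G) = ((c : L) : G) := rfl

theorem cE3_symm_apply_coe
    (hcen : ∀ x : L, x ∈ Subgroup.centralizer ((H : Subgroup L) : Set L)
      ↔ (x : G) ∈ Subgroup.centralizer (R : Set G))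
    (hCL : Subgroup.centralizer (R : Set G) ≤ L) (d : Subgroup.centralizer (R : Set G)) :
    ((((cE3 L H R hcen hCL).symm d : _) : L) : G) = (d : G) := rfl

/-- the Brauer central character value computed inside `L` -/
theorem brauerOmega_rel3
    (hcen : ∀ x : L, x ∈ Subgroup.centralizer ((H : Subgroup L) : Set L)
      ↔ (x : G) ∈ Subgroup.centralizer (R : Set G))
    (hCL : Subgroup.centralizer (R : Set G) ≤ L) (β : L → ℂ)
    (ξ : Cfsg.IrrCharacter (Subgroup.centralizer (R : Set G))) :
    Cfsg.brauerOmega H β (mapIrr (cE3 L H R hcen hCL).symm ξ : _ → ℂ)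
      = Cfsg.brauerOmega R (Cfsg.extendByZero L β) (ξ : _ → ℂ) := by
  unfold Cfsg.brauerOmega
  rw [← finsum_comp_equiv (cE3 L H R hcen hCL).symm.toEquiv]
  apply finsum_congr
  intro d
  have h1 : ((cE3 L H R hcen hCL).symm.toEquiv d) = (cE3 L H R hcen hCL).symm d := rfl
  rw [h1, mapIrr_apply_apply, mapIrr_apply_one, extendByZero_of_mem L β (hCL d.2)]
  rfl

theorem brauerOmega_rel3'
    (hcen : ∀ x : L, x ∈ Subgroup.centralizer ((H : Subgroup L) : Set L)
      ↔ (x : G) ∈ Subgroup.centralizer (R : Set G))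
    (hCL : Subgroup.centralizer (R : Set G) ≤ L) (β : L → ℂ)
    (ξ : Cfsg.IrrCharacter (Subgroup.centralizer ((H : Subgroup L) : Set L))) :
    Cfsg.brauerOmega H β (ξ : _ → ℂ)
      = Cfsg.brauerOmega R (Cfsg.extendByZero L β) (mapIrr (cE3 L H R hcen hCL) ξ : _ → ℂ) := by
  rw [← brauerOmega_rel3 L H R hcen hCL]
  congr 2

/-- transport of the stabilizer condition from `L` to the ambient group -/
theorem stabilizesBlock_rel3
    (hcen : ∀ x : L, x ∈ Subgroup.centralizer ((H : Subgroup L) : Set L)
      ↔ (x : G) ∈ Subgroup.centralizer (R : Set G))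
    (hCL : Subgroup.centralizer (R : Set G) ≤ L)
    (e : Set (Cfsg.IrrCharacter (Subgroup.centralizer ((H : Subgroup L) : Set L)))) (x : L)
    (hxN : (x : G) ∈ Subgroup.normalizer ((Subgroup.centralizer (R : Set G) : Subgroup G) : Set G))
    (hst : Cfsg.StabilizesBlock (Subgroup.centralizer ((H : Subgroup L) : Set L)) e x) :
    Cfsg.StabilizesBlock (Subgroup.centralizer (R : Set G))
      (mapIrr (cE3 L H R hcen hCL) '' e) (x : G) := by
  obtain ⟨_, hconj⟩ := hst
  refine ⟨hxN, ?_⟩
  rintro _ ⟨χ, hχ, rfl⟩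
  obtain ⟨χ', hχ', hc⟩ := hconj χ hχ
  refine ⟨_, ⟨χ', hχ', rfl⟩, ?_⟩
  intro k k' hk
  rw [mapIrr_apply, mapIrr_apply]
  apply hc
  apply Subtype.ext
  rw [cE3_symm_apply_coe, Subgroup.coe_mul, Subgroup.coe_mul, Subgroup.coe_inv,
    cE3_symm_apply_coe]
  exact hk

end rel3

section centpairs

variable {G : Type*} [Group G] [Fintype G] [DecidableEq G]
variable {p : ℕ} [Fact p.Prime] {M : Ideal Cfsg.AlgInt}
variable (Q : Subgroup G)

/-- centralizers inside `C_G(Q)` -/
theorem mem_centralizer_cent_iff (R : Subgroup (Subgroup.centralizer (Q : Set G)))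
    (x : Subgroup.centralizer (Q : Set G)) :
    x ∈ Subgroup.centralizer (R : Set (Subgroup.centralizer (Q : Set G)))
      ↔ (x : G) ∈ Subgroup.centralizer
        ((Q ⊔ R.map (Subgroup.centralizer (Q : Set G)).subtype : Subgroup G) : Set G) := by
  constructor
  · intro hx
    have h1 : Q ⊔ R.map (Subgroup.centralizer (Q : Set G)).subtype
        ≤ Subgroup.centralizer ({(x : G)} : Set G) := by
      apply sup_le
      · intro q hq
        rw [Subgroup.mem_centralizer_singleton_iff]
        exact (Subgroup.mem_centralizer_iff.mp x.2 q hq)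
      · rintro _ ⟨r, hr, rfl⟩
        rw [Subgroup.mem_centralizer_singleton_iff]
        have := Subgroup.mem_centralizer_iff.mp hx r hr
        have h2 := congrArg Subtype.val this
        simpa using h2
    rw [Subgroup.mem_centralizer_iff]
    intro r hr
    exact (Subgroup.mem_centralizer_singleton_iff.mp (h1 hr))
  · intro hx
    rw [Subgroup.mem_centralizer_iff]
    intro r hr
    apply Subtype.ext
    rw [Subgroup.coe_mul, Subgroup.coe_mul]
    apply Subgroup.mem_centralizer_iff.mp hx
    exact (le_sup_right : _ ≤ Q ⊔ _) (Subgroup.mem_map_of_mem _ hr)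

theorem centralizer_sup_le (R : Subgroup (Subgroup.centralizer (Q : Set G))) :
    Subgroup.centralizer
        ((Q ⊔ R.map (Subgroup.centralizer (Q : Set G)).subtype : Subgroup G) : Set G)
      ≤ Subgroup.centralizer (Q : Set G) :=
  Subgroup.centralizer_le (le_sup_left : Q ≤ Q ⊔ R.map (Subgroup.centralizer (Q : Set G)).subtype)

/-- a Brauer pair `(R, g)` of the block `f` of `C_G(Q)` gives the pair `(Q R, g)` of the
ambient group, normally above `(Q, f)` -/
theorem isNormalSubpair_of_cent
    {f' : Set (Cfsg.IrrCharacter (Subgroup.centralizer (Q : Set G)))}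
    (hQf : Cfsg.IsBrauerPair p M Q f')
    (R : Subgroup (Subgroup.centralizer (Q : Set G)))
    (g : Set (Cfsg.IrrCharacter
      (Subgroup.centralizer (R : Set (Subgroup.centralizer (Q : Set G))))))
    (h : Cfsg.IsBrauerPairOf p M f' R g) :
    Cfsg.IsNormalSubpair p M Q f'
      (Q ⊔ R.map (Subgroup.centralizer (Q : Set G)).subtype)
      (mapIrr (cE3 (Subgroup.centralizer (Q : Set G)) R _ (mem_centralizer_cent_iff Q R)
        (centralizer_sup_le Q R)) '' g) := by
  classical
  have : Fintype (Subgroup.centralizer (Q : Set G)) := Fintype.ofFinite _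
  obtain ⟨⟨hRp, hg⟩, hf', hom⟩ := h
  have hRK : R.map (Subgroup.centralizer (Q : Set G)).subtype ≤ Subgroup.centralizer (Q : Set G) := by
    rintro _ ⟨r, _, rfl⟩
    exact r.2
  have hRN : R.map (Subgroup.centralizer (Q : Set G)).subtype
      ≤ Subgroup.normalizer (Q : Set G) := hRK.trans (Subgroup.centralizer_le_normalizer _)
  refine ⟨hQf, ⟨?_, isPBlock_mapIrr_image _ hg⟩, le_sup_left,
    sup_le Subgroup.le_normalizer hRN, ?_, ?_⟩
  · exact IsPGroup.to_sup_of_normal_left' hQf.1 (hRp.map _) hRN
  · intro x hx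
    apply stabilizesBlock_of_mem_sup
    exact (sup_le_sup_left hRK Q) hx
  · rintro _ ⟨ξ, hξ, rfl⟩
    have := hom ξ hξ
    rw [brauerOmega_rel3' _ R _ (mem_centralizer_cent_iff Q R) (centralizer_sup_le Q R),
      ← subgroupBlockCoeff_eq_extendByZero] at this
    exact this

end centpairs

end Cfsg.Agent.Lib.Helper6
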