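import Mathlib
import Cfsg.Prelude.Def_Blocks
import Cfsg.Prelude.Def_BlockLocal
import Cfsg.Prelude.Def_BrauerPairs
import Cfsg.Agent.Lib.Helper6.BrRel3
import Cfsg.Agent.Lib.Helper6.BrCyc

set_option autoImplicit false
set_option linter.unusedSectionVars false
open Cfsg

namespace Cfsg.Agent.Lib.Helper6

open scoped ComplexConjugate

section indin

variable {G : Type*} [Group G] [Fintype G] [DecidableEq G]
variable {p : ℕ} [Fact p.Prime] {M : Ideal Cfsg.AlgInt}

/-- the induced central character computed inside `L`, as an induced central character of the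
group `L` -/
theorem inducedCentralCharIn_eq (L K : Subgroup G) (A : Subgroup L) (φ : A ≃* K)
    (hφ : ∀ a : A, ((φ a : K) : G) = ((a : L) : G)) (ξ : K → ℂ) (h : L) :
    Cfsg.inducedCentralCharIn L K ξ (h : G)
      = Cfsg.inducedCentralChar A (fun a => ξ (φ a)) h := by
  unfold Cfsg.inducedCentralCharIn Cfsg.inducedCentralChar
  have himg : {k : K | ∃ x : L, (x : G) * (k : G) * (x : G)⁻¹ = (h : G)}
      = φ '' {a : A | IsConj h (a : L)} := by
    ext k
    constructor
    · rintro ⟨x, hx⟩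
      refine ⟨φ.symm k, ?_, φ.apply_symm_apply k⟩
      rw [Set.mem_ofPred_eq, isConj_iff]
      refine ⟨x⁻¹, ?_⟩
      apply Subtype.ext
      have h1 : (((φ.symm k : A) : L) : G) = (k : G) := by
        rw [← hφ, φ.apply_symm_apply]
      simp only [Subgroup.coe_mul, Subgroup.coe_inv, inv_inv]
      rw [h1, ← hx]
      group
    · rintro ⟨a, ha, rfl⟩
      rw [Set.mem_ofPred_eq, isConj_iff] at ha
      obtain ⟨x, hx⟩ := ha
      refine ⟨x⁻¹, ?_⟩
      rw [hφ, ← hx]
      simp only [Subgroup.coe_mul, Subgroup.coe_inv, inv_inv]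
      group
  rw [himg, finsum_mem_image (φ.injective.injOn)]
  apply finsum_mem_congr rfl
  intro a _
  simp only [map_one]

/-- block induction computed inside `L`, as block induction in the group `L` -/
theorem isInducedBlockIn_iff (L K : Subgroup G) (A : Subgroup L) (φ : A ≃* K)
    (hφ : ∀ a : A, ((φ a : K) : G) = ((a : L) : G))
    (e : Set (Cfsg.IrrCharacter K)) (f : Set (Cfsg.IrrCharacter L)) :
    Cfsg.IsInducedBlockIn M L K e f
      ↔ Cfsg.IsInducedBlock M A (mapIrr φ.symm '' e) f := by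
  have hblk : Cfsg.IsPBlock M (mapIrr φ.symm '' e) ↔ Cfsg.IsPBlock M e := by
    constructor
    · intro h
      have := isPBlock_mapIrr_image φ h
      have h2 := mapIrr_symm_image_image φ.symm e
      rw [MulEquiv.symm_symm] at h2
      rwa [h2] at this
    · exact isPBlock_mapIrr_image _
  have hfun : ∀ ξ : Cfsg.IrrCharacter K,
      ((mapIrr φ.symm ξ : Cfsg.IrrCharacter A) : A → ℂ) = fun a => (ξ : K → ℂ) (φ a) := by
    intro ξ
    funext a
    rw [mapIrr_apply, MulEquiv.symm_symm]
  constructor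
  · rintro ⟨h1, h2, h3⟩
    refine ⟨hblk.mpr h1, h2, ?_⟩
    rintro _ ⟨ξ, hξ, rfl⟩ χ hχ g
    rw [hfun, ← inducedCentralCharIn_eq L K A φ hφ]
    exact h3 ξ hξ χ hχ g
  · rintro ⟨h1, h2, h3⟩
    refine ⟨hblk.mp h1, h2, ?_⟩
    intro ξ hξ χ hχ g
    have := h3 _ ⟨ξ, hξ, rfl⟩ χ hχ g
    rw [hfun, ← inducedCentralCharIn_eq L K A φ hφ] at this
    exact this

end indin

section rel3symm

variable {G : Type*} [Group G] [Fintype G] [DecidableEq G]
variable {p : ℕ} [Fact p.Prime] {M : Ideal Cfsg.AlgInt}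
variable (L : Subgroup G) (H : Subgroup L) (R : Subgroup G)

/-- transport of the stabilizer condition from the ambient group to `L` -/
theorem stabilizesBlock_rel3_symm
    (hcen : ∀ x : L, x ∈ Subgroup.centralizer ((H : Subgroup L) : Set L)
      ↔ (x : G) ∈ Subgroup.centralizer (R : Set G))
    (hCL : Subgroup.centralizer (R : Set G) ≤ L)
    (e : Set (Cfsg.IrrCharacter (Subgroup.centralizer (R : Set G)))) (x : L)
    (hst : Cfsg.StabilizesBlock (Subgroup.centralizer (R : Set G)) e (x : G)) :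
    Cfsg.StabilizesBlock (Subgroup.centralizer ((H : Subgroup L) : Set L))
      (mapIrr (cE3 L H R hcen hCL).symm '' e) x := by
  obtain ⟨hxN, hconj⟩ := hst
  refine ⟨?_, ?_⟩
  · rw [Subgroup.mem_normalizer_iff]
    intro y
    rw [hcen, hcen]
    have := Subgroup.mem_normalizer_iff.mp hxN (y : G)
    simpa using this
  · rintro _ ⟨χ, hχ, rfl⟩
    obtain ⟨χ', hχ', hc⟩ := hconj χ hχ
    refine ⟨_, ⟨χ', hχ', rfl⟩, ?_⟩
    intro k k' hk
    rw [mapIrr_apply, mapIrr_apply, MulEquiv.symm_symm]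
    apply hc
    rw [cE3_apply_coe, cE3_apply_coe, hk]
    simp

end rel3symm

end Cfsg.Agent.Lib.Helper6
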