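import Mathlib
import Cfsg.Prelude.Def_Blocks
import Cfsg.Prelude.Def_BlockLocal
import Cfsg.Prelude.Def_BrauerPairs
import Cfsg.Agent.Lib.Helper6.BrIndIn
import Cfsg.Agent.Lib.Helper6.BlkMajor
import Cfsg.Agent.Lib.Helper6.BlkNormalAbel
import Cfsg.Agent.Lib.Helper6.BrFull
import Cfsg.Agent.Lib.Helper6.BrMax5
import Cfsg.Agent.Lib.Helper6.BlkDefConj
import Cfsg.Agent.S0973
import Cfsg.Agent.S0919

set_option autoImplicit false
set_option linter.unusedSectionVars false
open Cfsg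

namespace Cfsg.Agent.Lib.Helper6

open scoped ComplexConjugate

section conjtransport

variable {G : Type*} [Group G] [Fintype G] [DecidableEq G]
variable {p : ℕ} {M : Ideal Cfsg.AlgInt}

/-- the relative induced central character is compatible with conjugation -/
theorem inducedCentralCharIn_conj (y : G) (K₁ K₂ H₁ H₂ : Subgroup G)
    (φK : K₁ ≃* K₂) (hφK : ∀ k : K₁, ((φK k : K₂) : G) = y * (k : G) * y⁻¹)
    (φH : H₁ ≃* H₂) (hφH : ∀ k : H₁, ((φH k : H₂) : G) = y * (k : G) * y⁻¹)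
    (ξ : H₁ → ℂ) (h : K₁) :
    Cfsg.inducedCentralCharIn K₂ H₂ (fun k' : H₂ => ξ (φH.symm k')) ((φK h : K₂) : G)
      = Cfsg.inducedCentralCharIn K₁ H₁ ξ (h : G) := by
  unfold Cfsg.inducedCentralCharIn
  have himg : {k' : H₂ | ∃ x : K₂, (x : G) * (k' : G) * (x : G)⁻¹ = ((φK h : K₂) : G)}
      = φH '' {k : H₁ | ∃ x : K₁, (x : G) * (k : G) * (x : G)⁻¹ = (h : G)} := by
    ext k'
    constructor
    · rintro ⟨x, hx⟩
      refine ⟨φH.symm k', ?_, φH.apply_symm_apply k'⟩
      refine ⟨φK.symm x, ?_⟩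
      have h1 : ((φK.symm x : K₁) : G) = y⁻¹ * (x : G) * y := by
        have := hφK (φK.symm x)
        rw [MulEquiv.apply_symm_apply] at this
        rw [this]; group
      have h2 : ((φH.symm k' : H₁) : G) = y⁻¹ * (k' : G) * y := by
        have := hφH (φH.symm k')
        rw [MulEquiv.apply_symm_apply] at this
        rw [this]; group
      rw [h1, h2]
      have h3 : (h : G) = y⁻¹ * ((φK h : K₂) : G) * y := by
        rw [hφK]; group
      rw [h3, ← hx]
      group
    · rintro ⟨k, ⟨x, hx⟩, rfl⟩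
      refine ⟨φK x, ?_⟩
      rw [hφK, hφH, hφK, ← hx]
      group
  rw [himg, finsum_mem_image (φH.injective.injOn)]
  apply finsum_mem_congr rfl
  intro k _
  simp only [MulEquiv.symm_apply_apply, map_one]

/-- block induction inside a subgroup is compatible with conjugation -/
theorem IsInducedBlockIn.conj (y : G) (K₁ K₂ H₁ H₂ : Subgroup G)
    (φK : K₁ ≃* K₂) (hφK : ∀ k : K₁, ((φK k : K₂) : G) = y * (k : G) * y⁻¹)
    (φH : H₁ ≃* H₂) (hφH : ∀ k : H₁, ((φH k : H₂) : G) = y * (k : G) * y⁻¹)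
    {b : Set (Cfsg.IrrCharacter H₁)} {f : Set (Cfsg.IrrCharacter K₁)}
    (h : Cfsg.IsInducedBlockIn M K₁ H₁ b f) :
    Cfsg.IsInducedBlockIn M K₂ H₂ (mapIrr φH '' b) (mapIrr φK '' f) := by
  obtain ⟨h1, h2, h3⟩ := h
  refine ⟨isPBlock_mapIrr_image φH h1, isPBlock_mapIrr_image φK h2, ?_⟩
  rintro _ ⟨ξ, hξ, rfl⟩ _ ⟨χ, hχ, rfl⟩ k'
  have e1 : ((mapIrr φH ξ : Cfsg.IrrCharacter H₂) : H₂ → ℂ)
      = fun k' : H₂ => (ξ : H₁ → ℂ) (φH.symm k') := by
    funext k
    rw [mapIrr_apply]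
  have e2 : ((mapIrr φK χ : Cfsg.IrrCharacter K₂) : K₂ → ℂ)
      = fun k' : K₂ => (χ : K₁ → ℂ) (φK.symm k') := by
    funext k
    rw [mapIrr_apply]
  have e3 : ((k' : K₂) : G) = ((φK (φK.symm k') : K₂) : G) := by
    rw [MulEquiv.apply_symm_apply]
  rw [e1, e2, centralChar_comp_mulEquiv φK.symm (χ : K₁ → ℂ) k', e3,
    inducedCentralCharIn_conj y K₁ K₂ H₁ H₂ φK hφK φH hφH]
  exact h3 ξ hξ χ hχ (φK.symm k')

end conjtransport

section inner

variable {K : Type*} [Group K] [Finite K]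

/-- inner automorphisms fix the irreducible characters -/
theorem mapIrr_conj (c : K) (θ : Cfsg.IrrCharacter K) : mapIrr (MulAut.conj c) θ = θ := by
  apply Subtype.ext
  funext k
  rw [mapIrr_apply]
  have h1 : (MulAut.conj c).symm k = c⁻¹ * k * c⁻¹⁻¹ := by
    simp [MulAut.conj_symm_apply]
  rw [h1, IsIrrCharacter.isClassFunction θ.2]

theorem mapIrr_conj_image (c : K) (A : Set (Cfsg.IrrCharacter K)) :
    mapIrr (MulAut.conj c) '' A = A := by
  have : (mapIrr (MulAut.conj c) : Cfsg.IrrCharacter K → Cfsg.IrrCharacter K) = id := by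
    funext θ
    exact mapIrr_conj c θ
  rw [this, Set.image_id]

end inner

section rootdefect

variable {G : Type*} [Group G] [Fintype G] [DecidableEq G]
variable {p : ℕ} {M : Ideal Cfsg.AlgInt}

/-- the block of `K ≥ D C_G(D)` induced from a root of `B` induces `B` and has defect group `D` -/
theorem isDefectGroup_of_inducedIn (hM : Cfsg.IsPModular p M) [Fact p.Prime]
    (B : Set (Cfsg.IrrCharacter G)) (D : Subgroup G) (hD : Cfsg.IsDefectGroup p M B D)
    (H : Subgroup G) (hH : H = D ⊔ Subgroup.centralizer (D : Set G))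
    (b : Set (Cfsg.IrrCharacter H)) (hind : Cfsg.IsInducedBlock M H b B)
    (K : Subgroup G) (hHK : H ≤ K)
    (hKdef : ∀ β : Set (Cfsg.IrrCharacter K), Cfsg.IsPBlock M β → Cfsg.InducedBlockDefined M K β)
    (β : Set (Cfsg.IrrCharacter K)) (hβ : Cfsg.IsInducedBlockIn M K H b β) :
    Cfsg.IsInducedBlock M K β B ∧ Cfsg.IsDefectGroup p M β (D.subgroupOf K) := by
  classical
  have hp : p.Prime := hM.1
  have hB := hind.2.1
  have hDp : IsPGroup p D := IsDefectGroup.isPGroup' hD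
  have hDH : D ≤ H := by rw [hH]; exact le_sup_left
  have hHN : H ≤ Subgroup.normalizer (D : Set G) := by
    rw [hH]
    exact sup_le Subgroup.le_normalizer (Subgroup.centralizer_le_normalizer _)
  have hDK : D ≤ K := hDH.trans hHK
  haveI : Fintype K := Fintype.ofFinite _
  haveI : Fintype H := Fintype.ofFinite _
  haveI : Fintype ↥(H.subgroupOf K) := Fintype.ofFinite _
  obtain ⟨e, he⟩ : ∃ e : ↥(H.subgroupOf K) ≃* ↥H, e = Subgroup.subgroupOfEquivOfLe hHK :=
    ⟨_, rfl⟩
  have hecoe : ∀ x : ↥(H.subgroupOf K), ((e x : H) : G) = ((x : K) : G) := by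
    intro x
    rw [he]
    rfl
  have h1 := (isInducedBlockIn_iff (M := M) K H (H.subgroupOf K) e hecoe b β).mp hβ
  obtain ⟨B', hB'⟩ := hKdef β hβ.2.1
  obtain ⟨θ, hbθ⟩ := hind.1
  have hfun : ((mapIrr e.symm θ : Cfsg.IrrCharacter ↥(H.subgroupOf K)) : ↥(H.subgroupOf K) → ℂ)
      = fun x => (θ : H → ℂ) (e x) := by
    funext x
    rw [mapIrr_apply, MulEquiv.symm_symm]
  have h1' : Cfsg.IsInducedBlock M (H.subgroupOf K)
      (Cfsg.blockOf M (fun x : ↥(H.subgroupOf K) => (θ : H → ℂ) (e x))) β := by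
    rw [← hfun, ← mapIrr_image_blockOf, ← hbθ]
    exact h1
  have htrans := IsInducedBlock.trans hM K (H.subgroupOf K) H e hecoe θ h1' hB'
  rw [← hbθ] at htrans
  have hBB' : B = B' := IsInducedBlock.unique H hM hind htrans
  rw [← hBB'] at hB'
  refine ⟨hB', ?_⟩
  -- the defect group
  have hbD := isDefectGroup_of_induced hM D hDp H hDH hHN hind hD
  have hb₁D := IsDefectGroup.mapIrr (p := p) (M := M) e.symm hbD
  obtain ⟨E, hE, hle⟩ := IsInducedBlock.exists_defectGroup_ge (H.subgroupOf K) hM h1 _ hb₁D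
  have hDE : D.subgroupOf K ≤ E := by
    intro k hk
    rw [Subgroup.mem_subgroupOf] at hk
    apply hle
    have hkH : (k : G) ∈ H := hDH hk
    refine ⟨e.symm ⟨(k : G), hkH⟩, ?_, ?_⟩
    · refine ⟨⟨(k : G), hkH⟩, ?_, rfl⟩
      rw [SetLike.mem_coe, Subgroup.mem_subgroupOf]
      exact hk
    · apply Subtype.ext
      have h2 := hecoe (e.symm ⟨(k : G), hkH⟩)
      rw [MulEquiv.apply_symm_apply] at h2
      exact h2.symm
  have hc1 := Cfsg.Agent.S0908.result p M hM β hβ.2.1 E hE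
  have hc2 := Cfsg.Agent.S0908.result p M hM B hB D hD
  have hc3 := IsInducedBlock.blockDefect_le hM K hB'
  have hc4 : Nat.card (D.subgroupOf K) = Nat.card D :=
    Nat.card_congr (Subgroup.subgroupOfEquivOfLe hDK).toEquiv
  have hcard : Nat.card E ≤ Nat.card (D.subgroupOf K) := by
    rw [hc1, hc4, hc2]
    exact Nat.pow_le_pow_right hp.pos hc3
  have := Subgroup.eq_of_le_of_card_ge hDE hcard
  rw [this]
  exact hE

end rootdefect

section relconj

variable {G : Type*} [Group G] [Fintype G] [DecidableEq G]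
variable {p : ℕ} {M : Ideal Cfsg.AlgInt}

theorem map_sup_centralizer_subgroupOf' (D K : Subgroup G) (hDK : D ≤ K)
    (hCK : Subgroup.centralizer (D : Set G) ≤ K) :
    ((D.subgroupOf K) ⊔ Subgroup.centralizer ((D.subgroupOf K : Subgroup K) : Set K)).map K.subtype
      = D ⊔ Subgroup.centralizer (D : Set G) := by
  rw [Subgroup.map_sup, map_centralizer_subgroupOf D K hDK hCK,
    Subgroup.map_subgroupOf_eq_of_le hDK]

/-- the extended first main theorem inside a subgroup `K ≥ D C_G(D)`: two roots of a block `β`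
of `K` with defect group `D` are conjugate under `N_K(D)` -/
theorem exists_conj_of_inducedIn (hM : Cfsg.IsPModular p M) [Fact p.Prime]
    (K : Subgroup G) (β : Set (Cfsg.IrrCharacter K)) (D : Subgroup G) (hDK : D ≤ K)
    (hCK : Subgroup.centralizer (D : Set G) ≤ K)
    (hβD : Cfsg.IsDefectGroup p M β (D.subgroupOf K))
    (H : Subgroup G) (hH : H = D ⊔ Subgroup.centralizer (D : Set G))
    (b b' : Set (Cfsg.IrrCharacter H))
    (hb : Cfsg.IsInducedBlockIn M K H b β) (hb' : Cfsg.IsInducedBlockIn M K H b' β) :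
    ∃ n ∈ K, n ∈ Subgroup.normalizer (D : Set G) ∧ ∀ θ ∈ b, ∃ θ' ∈ b', ∀ x : H,
      ∀ hx : n * (x : G) * n⁻¹ ∈ H, (θ' : H → ℂ) x = (θ : H → ℂ) ⟨n * (x : G) * n⁻¹, hx⟩ := by
  classical
  subst hH
  haveI : Fintype K := Fintype.ofFinite _
  obtain ⟨A, hA⟩ : ∃ A : Subgroup K, A = (D.subgroupOf K) ⊔
      Subgroup.centralizer ((D.subgroupOf K : Subgroup K) : Set K) := ⟨_, rfl⟩
  have hmap : A.map K.subtype = D ⊔ Subgroup.centralizer (D : Set G) := by
    rw [hA]; exact map_sup_centralizer_subgroupOf' D K hDK hCK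
  obtain ⟨e, he⟩ : ∃ e : ↥A ≃* ↥(D ⊔ Subgroup.centralizer (D : Set G)),
      ∀ x : ↥A, ((e x : ↥(D ⊔ Subgroup.centralizer (D : Set G))) : G) = ((x : K) : G) := by
    refine ⟨(Subgroup.equivMapOfInjective _ K.subtype (Subgroup.subtype_injective _)).trans
      (MulEquiv.subgroupCongr hmap), ?_⟩
    intro x; rfl
  have hmemA : ∀ k : K, k ∈ A ↔ (k : G) ∈ D ⊔ Subgroup.centralizer (D : Set G) := by
    intro k
    rw [← hmap, Subgroup.mem_map]
    constructor
    · intro hk
      exact ⟨k, hk, rfl⟩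
    · rintro ⟨k', hk', hkk⟩
      have : k' = k := Subtype.ext hkk
      rwa [← this]
  have h1 := (isInducedBlockIn_iff (M := M) K _ A e he b β).mp hb
  have h1' := (isInducedBlockIn_iff (M := M) K _ A e he b' β).mp hb'
  subst hA
  obtain ⟨n, hn, hconj⟩ := (Cfsg.Agent.S0973.result p M hM β hb.2.1 (D.subgroupOf K) hβD).2
    _ _ h1 h1'
  refine ⟨(n : G), n.2, ?_, ?_⟩
  · rw [Subgroup.mem_normalizer_iff] at hn ⊢
    intro g
    constructor
    · intro hg
      have := (hn ⟨g, hDK hg⟩).mp (by rw [Subgroup.mem_subgroupOf]; exact hg)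
      rw [Subgroup.mem_subgroupOf] at this
      simpa using this
    · intro hg
      have hgK : g ∈ K := by
        have h2 : (n : G)⁻¹ * ((n : G) * g * (n : G)⁻¹) * (n : G) = g := by group
        rw [← h2]
        exact K.mul_mem (K.mul_mem (K.inv_mem n.2) (hDK hg)) n.2
      have := (hn ⟨g, hgK⟩).mpr (by rw [Subgroup.mem_subgroupOf]; simpa using hg)
      rw [Subgroup.mem_subgroupOf] at this
      exact this
  · intro θ hθ
    obtain ⟨θ₁', ⟨θ', hθ', rfl⟩, hc⟩ := hconj (mapIrr e.symm θ) ⟨θ, hθ, rfl⟩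
    refine ⟨θ', hθ', ?_⟩
    intro x hx
    have hx' : n * ((e.symm x) : K) * n⁻¹ ∈ (D.subgroupOf K) ⊔
        Subgroup.centralizer ((D.subgroupOf K : Subgroup K) : Set K) := by
      rw [hmemA]
      have h2 := he (e.symm x)
      rw [e.apply_symm_apply] at h2
      simp only [Subgroup.coe_mul, Subgroup.coe_inv]
      rw [← h2]
      exact hx
    have h3 := hc (e.symm x) hx'
    rw [mapIrr_apply, mapIrr_apply, MulEquiv.symm_symm,
      e.apply_symm_apply] at h3
    rw [h3]
    apply congrArg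
    apply Subtype.ext
    rw [he]
    have h2 := he (e.symm x)
    rw [e.apply_symm_apply] at h2
    simp only [Subgroup.coe_mul, Subgroup.coe_inv]
    rw [← h2]

end relconj

end Cfsg.Agent.Lib.Helper6
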