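import Mathlib
import Cfsg.Prelude.Def_Blocks
import Cfsg.Prelude.Def_BlockLocal
import Cfsg.Prelude.Def_BrauerPairs
import Cfsg.Agent.Lib.Helper6.MajorFusion
import Cfsg.Agent.Lib.Helper6.BrMax
import Cfsg.Agent.Lib.Helper6.BrMax5

set_option autoImplicit false
set_option linter.unusedSectionVars false
open Cfsg

namespace Cfsg.Agent.Lib.Helper6

open scoped ComplexConjugate

section fusion

variable {G : Type*} [Group G] [Fintype G] [DecidableEq G]
variable {p : ℕ} {M : Ideal Cfsg.AlgInt}

/-- a block of `L` with `D C_G(D) ≤ L ≤ N_G(D)` induces a block of every `K ≥ L` -/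
theorem exists_inducedIn_of_root (hM : Cfsg.IsPModular p M) [Fact p.Prime] (D : Subgroup G)
    (hDp : IsPGroup p D) (K L : Subgroup G) (hDL : D ≤ L)
    (hCL : Subgroup.centralizer (D : Set G) ≤ L)
    (hLN : L ≤ Subgroup.normalizer (D : Set G)) (hLK : L ≤ K)
    (b₁ : Set (Cfsg.IrrCharacter L)) (hb₁ : Cfsg.IsPBlock M b₁) :
    ∃ β : Set (Cfsg.IrrCharacter K), Cfsg.IsInducedBlockIn M K L b₁ β := by
  classical
  have hDK : D ≤ K := hDL.trans hLK
  obtain ⟨e, he⟩ : ∃ e : ↥(L.subgroupOf K) ≃* ↥L, e = Subgroup.subgroupOfEquivOfLe hLK :=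
    ⟨_, rfl⟩
  have hecoe : ∀ x : ↥(L.subgroupOf K), ((e x : L) : G) = ((x : K) : G) := by
    intro x
    rw [he]
    rfl
  have hP' : IsPGroup p (D.subgroupOf K) := by
    rw [← Subgroup.comap_subtype]
    exact hDp.comap_subtype
  have hPH' : D.subgroupOf K ≤ L.subgroupOf K := Subgroup.subgroupOf_mono K hDL
  have hCH' : Subgroup.centralizer ((D.subgroupOf K : Subgroup K) : Set K) ≤ L.subgroupOf K := by
    intro k hk
    rw [Subgroup.mem_subgroupOf]
    apply hCL
    rw [Subgroup.mem_centralizer_iff]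
    intro w hw
    have h1 := (Subgroup.mem_centralizer_iff.mp hk) ⟨w, hDK hw⟩
      (by rw [SetLike.mem_coe, Subgroup.mem_subgroupOf]; exact hw)
    exact congrArg (fun z : K => (z : G)) h1
  have hHN' : L.subgroupOf K ≤ Subgroup.normalizer ((D.subgroupOf K : Subgroup K) : Set K) := by
    intro k hk
    rw [Subgroup.mem_subgroupOf] at hk
    rw [Subgroup.mem_normalizer_iff]
    intro n
    rw [Subgroup.mem_subgroupOf, Subgroup.mem_subgroupOf]
    have := (Subgroup.mem_normalizer_iff.mp (hLN hk)) (n : G)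
    simpa using this
  haveI : Fintype K := Fintype.ofFinite _
  haveI : Fintype L := Fintype.ofFinite _
  haveI : Fintype ↥(L.subgroupOf K) := Fintype.ofFinite _
  obtain ⟨β, hβ⟩ := Cfsg.Agent.S0919.result (G := K) p M hM (D.subgroupOf K) (L.subgroupOf K)
    hP' hPH' hCH' hHN' (mapIrr e.symm '' b₁) (isPBlock_mapIrr_image e.symm hb₁)
  exact ⟨β, (isInducedBlockIn_iff (M := M) K L (L.subgroupOf K) e hecoe b₁ β).mpr hβ⟩

/-- the block induced inside `K` is unique -/
theorem IsInducedBlockIn.unique (hM : Cfsg.IsPModular p M) [Fact p.Prime] (K L : Subgroup G)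
    (hLK : L ≤ K) {b₁ : Set (Cfsg.IrrCharacter L)} {β β' : Set (Cfsg.IrrCharacter K)}
    (h : Cfsg.IsInducedBlockIn M K L b₁ β) (h' : Cfsg.IsInducedBlockIn M K L b₁ β') :
    β = β' := by
  classical
  obtain ⟨e, he⟩ : ∃ e : ↥(L.subgroupOf K) ≃* ↥L, e = Subgroup.subgroupOfEquivOfLe hLK :=
    ⟨_, rfl⟩
  have hecoe : ∀ x : ↥(L.subgroupOf K), ((e x : L) : G) = ((x : K) : G) := by
    intro x
    rw [he]
    rfl
  haveI : Fintype K := Fintype.ofFinite _
  haveI : Fintype ↥(L.subgroupOf K) := Fintype.ofFinite _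
  have h1 := (isInducedBlockIn_iff (M := M) K L (L.subgroupOf K) e hecoe b₁ β).mp h
  have h2 := (isInducedBlockIn_iff (M := M) K L (L.subgroupOf K) e hecoe b₁ β').mp h'
  exact IsInducedBlock.unique (L.subgroupOf K) hM h1 h2

/-- the induced block is defined for blocks of the centralizer of a `p`-element -/
theorem inducedBlockDefined_centralizer_singleton (hM : Cfsg.IsPModular p M) [Fact p.Prime]
    (w : G) (hw : IsPGroup p (Subgroup.zpowers w))
    (β : Set (Cfsg.IrrCharacter (Subgroup.centralizer ({w} : Set G))))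
    (hβ : Cfsg.IsPBlock M β) :
    Cfsg.InducedBlockDefined M (Subgroup.centralizer ({w} : Set G)) β := by
  apply Cfsg.Agent.S0919.result p M hM (Subgroup.zpowers w) _ hw ?_ ?_ ?_ β hβ
  · rw [Subgroup.zpowers_le, Subgroup.mem_centralizer_singleton_iff]
  · apply Subgroup.centralizer_le
    intro z hz
    rw [Set.mem_singleton_iff] at hz
    rw [hz]
    exact Subgroup.mem_zpowers w
  · refine le_trans ?_ (Subgroup.centralizer_le_normalizer _)
    intro k hk
    rw [Subgroup.mem_centralizer_singleton_iff] at hk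
    rw [Subgroup.mem_centralizer_iff]
    intro z hz
    obtain ⟨n, rfl⟩ := Subgroup.mem_zpowers_iff.mp hz
    have hc : Commute k w := hk
    exact ((hc.zpow_right n).eq).symm

/-- fusion of major subsections is controlled by the inertial group: if conjugation by `x`
carries the subsection `(v, βv)` to `(u, βu)`, both induced from the root `b`, then some element of
`N_G(D)` stabilizing `b` carries `v` to `u` -/
theorem exists_stab_of_fusion (hM : Cfsg.IsPModular p M) [Fact p.Prime]
    (B : Set (Cfsg.IrrCharacter G)) (D : Subgroup G) (hD : Cfsg.IsDefectGroup p M B D)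
    (H : Subgroup G) (hH : H = D ⊔ Subgroup.centralizer (D : Set G))
    (b : Set (Cfsg.IrrCharacter H)) (hind : Cfsg.IsInducedBlock M H b B)
    (u v : G) (hu : u ∈ D) (huZ : ∀ w ∈ D, w * u = u * w)
    (hv : v ∈ D) (hvZ : ∀ w ∈ D, w * v = v * w)
    (βu : Set (Cfsg.IrrCharacter (Subgroup.centralizer ({u} : Set G))))
    (βv : Set (Cfsg.IrrCharacter (Subgroup.centralizer ({v} : Set G))))
    (hβu : Cfsg.IsInducedBlockIn M (Subgroup.centralizer ({u} : Set G)) H b βu)
    (hβv : Cfsg.IsInducedBlockIn M (Subgroup.centralizer ({v} : Set G)) H b βv)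
    (x : G) (hx : x⁻¹ * u * x = v)
    (φ : Subgroup.centralizer ({v} : Set G) ≃* Subgroup.centralizer ({u} : Set G))
    (hφ : ∀ k : Subgroup.centralizer ({v} : Set G),
      ((φ k : Subgroup.centralizer ({u} : Set G)) : G) = x * (k : G) * x⁻¹)
    (hφβ : mapIrr φ '' βv = βu) :
    ∃ t : G, t ∈ Subgroup.normalizer (D : Set G) ∧ t ∈ stabSub H b ∧ t * v * t⁻¹ = u := by
  classical
  have hp : p.Prime := hM.1
  have hDp : IsPGroup p D := IsDefectGroup.isPGroup' hD
  have hDH : D ≤ H := by rw [hH]; exact le_sup_left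
  have hCH : Subgroup.centralizer (D : Set G) ≤ H := by rw [hH]; exact le_sup_right
  have hNH : Subgroup.normalizer (D : Set G) ≤ Subgroup.normalizer (H : Set G) := by
    rw [hH]
    have h1 := Subgroup.normalizer_inf_normalizer_le_normalizer_sup D
      (Subgroup.centralizer (D : Set G))
    intro g hg
    exact h1 ⟨hg, normalizer_le_normalizer_centralizer D hg⟩
  -- the centralizers
  have hDK : ∀ w : G, (∀ z ∈ D, z * w = w * z) → D ≤ Subgroup.centralizer ({w} : Set G) := by
    intro w hwZ z hz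
    rw [Subgroup.mem_centralizer_singleton_iff]
    exact hwZ z hz
  have hCK : ∀ w : G, w ∈ D →
      Subgroup.centralizer (D : Set G) ≤ Subgroup.centralizer ({w} : Set G) := by
    intro w hw
    apply Subgroup.centralizer_le
    intro z hz
    rw [Set.mem_singleton_iff] at hz
    rw [hz]
    exact hw
  have hHK : ∀ w : G, w ∈ D → (∀ z ∈ D, z * w = w * z) →
      H ≤ Subgroup.centralizer ({w} : Set G) := by
    intro w hw hwZ
    rw [hH]
    exact sup_le (hDK w hwZ) (hCK w hw)
  have hKdef : ∀ w : G, w ∈ D →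
      ∀ β : Set (Cfsg.IrrCharacter (Subgroup.centralizer ({w} : Set G))), Cfsg.IsPBlock M β →
        Cfsg.InducedBlockDefined M (Subgroup.centralizer ({w} : Set G)) β := by
    intro w hw β hβ
    exact inducedBlockDefined_centralizer_singleton hM w
      (hDp.to_le (by rw [Subgroup.zpowers_le]; exact hw)) β hβ
  obtain ⟨-, hβuD⟩ := isDefectGroup_of_inducedIn hM B D hD H hH b hind _ (hHK u hu huZ)
    (hKdef u hu) βu hβu
  obtain ⟨-, hβvD⟩ := isDefectGroup_of_inducedIn hM B D hD H hH b hind _ (hHK v hv hvZ)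
    (hKdef v hv) βv hβv
  have hE₂ := IsDefectGroup.mapIrr (p := p) (M := M) φ hβvD
  rw [hφβ] at hE₂
  haveI : Fintype (Subgroup.centralizer ({u} : Set G)) := Fintype.ofFinite _
  obtain ⟨θ₀, hθ₀⟩ := hβu.2.1
  rw [hθ₀] at hβuD hE₂
  obtain ⟨c, hc⟩ := isDefectGroup_conj hM θ₀ _ _ hβuD hE₂
  have hxv : x * v * x⁻¹ = u := by rw [← hx]; group
  have hcu : (c : G) * u = u * (c : G) := Subgroup.mem_centralizer_singleton_iff.mp c.2
  obtain ⟨y, hy⟩ : ∃ y : G, y = (c : G)⁻¹ * x := ⟨_, rfl⟩
  have hyv : y * v * y⁻¹ = u := by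
    rw [hy]
    calc (c : G)⁻¹ * x * v * ((c : G)⁻¹ * x)⁻¹ = (c : G)⁻¹ * (x * v * x⁻¹) * (c : G) := by group
      _ = (c : G)⁻¹ * (u * (c : G)) := by rw [hxv]; group
      _ = u := by rw [← hcu]; group
  have hyD : y ∈ Subgroup.normalizer (D : Set G) := by
    rw [Subgroup.mem_normalizer_iff]
    intro g
    constructor
    · intro hg
      have hgK : g ∈ Subgroup.centralizer ({v} : Set G) := hDK v hvZ hg
      have h1 : φ ⟨g, hgK⟩ ∈ (D.subgroupOf (Subgroup.centralizer ({v} : Set G))).map
          φ.toMonoidHom := by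
        refine ⟨⟨g, hgK⟩, ?_, rfl⟩
        rw [SetLike.mem_coe, Subgroup.mem_subgroupOf]
        exact hg
      rw [hc] at h1
      obtain ⟨d, hd, hdg⟩ := h1
      rw [SetLike.mem_coe, Subgroup.mem_subgroupOf] at hd
      have h2 := congrArg (fun z : Subgroup.centralizer ({u} : Set G) => (z : G)) hdg
      simp only [MulEquiv.coe_toMonoidHom, MulAut.conj_apply, Subgroup.coe_mul,
        Subgroup.coe_inv] at h2
      rw [hφ] at h2
      have h3 : y * g * y⁻¹ = (d : G) := by
        rw [hy]
        calc (c : G)⁻¹ * x * g * ((c : G)⁻¹ * x)⁻¹ = (c : G)⁻¹ * (x * g * x⁻¹) * (c : G) := by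
              group
          _ = (d : G) := by rw [← h2]; group
      rw [h3]
      exact hd
    · intro hg
      have hdK : y * g * y⁻¹ ∈ Subgroup.centralizer ({u} : Set G) := hDK u huZ hg
      have h1 : (MulAut.conj c) ⟨y * g * y⁻¹, hdK⟩ ∈
          (D.subgroupOf (Subgroup.centralizer ({u} : Set G))).map
            (MulAut.conj c).toMonoidHom := by
        refine ⟨⟨y * g * y⁻¹, hdK⟩, ?_, rfl⟩
        rw [SetLike.mem_coe, Subgroup.mem_subgroupOf]
        exact hg
      rw [← hc] at h1
      obtain ⟨g', hg', hgg⟩ := h1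
      rw [SetLike.mem_coe, Subgroup.mem_subgroupOf] at hg'
      have h2 := congrArg (fun z : Subgroup.centralizer ({u} : Set G) => (z : G)) hgg
      simp only [MulEquiv.coe_toMonoidHom, MulAut.conj_apply, Subgroup.coe_mul,
        Subgroup.coe_inv] at h2
      rw [hφ] at h2
      have h3 : (g' : G) = g := by
        have h4 : x * (g' : G) * x⁻¹ = x * g * x⁻¹ := by
          rw [h2, hy]; group
        have h5 : x⁻¹ * (x * (g' : G) * x⁻¹) * x = x⁻¹ * (x * g * x⁻¹) * x := by rw [h4]
        calc (g' : G) = x⁻¹ * (x * (g' : G) * x⁻¹) * x := by group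
          _ = x⁻¹ * (x * g * x⁻¹) * x := h5
          _ = g := by group
      rw [← h3]
      exact hg'
  have hyH : y ∈ Subgroup.normalizer (H : Set G) := hNH hyD
  -- the isomorphism given by `y`
  obtain ⟨φy, hφy⟩ : ∃ φy : Subgroup.centralizer ({v} : Set G) ≃*
      Subgroup.centralizer ({u} : Set G), φy = φ.trans (MulAut.conj c⁻¹) := ⟨_, rfl⟩
  have hφycoe : ∀ k : Subgroup.centralizer ({v} : Set G),
      ((φy k : Subgroup.centralizer ({u} : Set G)) : G) = y * (k : G) * y⁻¹ := by
    intro k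
    rw [hφy, MulEquiv.trans_apply, MulAut.conj_apply]
    simp only [Subgroup.coe_mul, Subgroup.coe_inv, inv_inv]
    rw [hφ, hy]
    group
  have hφyβ : mapIrr φy '' βv = βu := by
    have : mapIrr φy '' βv = mapIrr (MulAut.conj c⁻¹) '' (mapIrr φ '' βv) := by
      rw [Set.image_image]
      apply Set.image_congr
      intro θ _
      rw [hφy, mapIrr_trans]
    rw [this, hφβ]
    exact mapIrr_conj_image c⁻¹ βu
  have h7 := IsInducedBlockIn.conj (M := M) y _ _ H H φy hφycoe (nAut H y hyH)
    (nAut_apply_coe H y hyH) hβv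
  rw [hφyβ] at h7
  obtain ⟨n, hnK, hnD, hconj⟩ := exists_conj_of_inducedIn hM _ βu D (hDK u huZ) (hCK u hu)
    (by rw [hθ₀]; exact hβuD) H hH b _ hβu h7
  have hnu : n * u = u * n := Subgroup.mem_centralizer_singleton_iff.mp hnK
  refine ⟨n * y, Subgroup.mul_mem _ hnD hyD, ?_, ?_⟩
  · have htD : n * y ∈ Subgroup.normalizer (D : Set G) := Subgroup.mul_mem _ hnD hyD
    have htD' : (n * y)⁻¹ ∈ Subgroup.normalizer (D : Set G) := Subgroup.inv_mem _ htD
    have hinv : (n * y)⁻¹ ∈ stabSub H b := by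
      refine ⟨hNH htD', autIrr_image_eq_of_subset _ ?_⟩
      rintro _ ⟨θ, hθ, rfl⟩
      obtain ⟨θ', ⟨θ'', hθ'', rfl⟩, hc'⟩ := hconj θ hθ
      have : autIrr (nAut H (n * y)⁻¹ (hNH htD')) θ = θ'' := by
        apply Subtype.ext
        funext k
        rw [autIrr_apply]
        have hk1 : n * ((nAut H y hyH k : H) : G) * n⁻¹ ∈ H := by
          have := (Subgroup.mem_normalizer_iff.mp (hNH hnD) ((nAut H y hyH k : H) : G)).mp
            (nAut H y hyH k).2
          exact this
        have h8 := hc' (nAut H y hyH k) hk1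
        rw [mapIrr_apply, MulEquiv.symm_apply_apply] at h8
        rw [h8]
        apply congrArg
        apply Subtype.ext
        rw [nAut_inv_apply_coe]
        change _ = n * ((nAut H y hyH k : H) : G) * n⁻¹
        rw [nAut_apply_coe]
        group
      rw [this]
      exact hθ''
    have := Subgroup.inv_mem _ hinv
    rwa [inv_inv] at this
  · calc n * y * v * (n * y)⁻¹ = n * (y * v * y⁻¹) * n⁻¹ := by group
      _ = n * u * n⁻¹ := by rw [hyv]
      _ = u := by rw [hnu]; group

end fusion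

end Cfsg.Agent.Lib.Helper6
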