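import Mathlib
import Cfsg.Agent.Lib.Helper6.MajorFusion2
import Cfsg.Agent.Lib.Helper6.BrNorm

set_option autoImplicit false
set_option linter.unusedSectionVars false
open Cfsg

namespace Cfsg.Agent.Lib.Helper6

open scoped ComplexConjugate

section conjG

variable {G : Type*} [Group G] [Fintype G] [DecidableEq G]
variable {p : ℕ} {M : Ideal Cfsg.AlgInt}

/-- block induction to the whole group is compatible with conjugation -/
theorem IsInducedBlock.conj (y : G) (H₁ H₂ : Subgroup G)
    (φ : H₁ ≃* H₂) (hφ : ∀ k : H₁, ((φ k : H₂) : G) = y * (k : G) * y⁻¹)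
    {b : Set (Cfsg.IrrCharacter H₁)} {B : Set (Cfsg.IrrCharacter G)}
    (h : Cfsg.IsInducedBlock M H₁ b B) :
    Cfsg.IsInducedBlock M H₂ (mapIrr φ '' b) B := by
  obtain ⟨h1, h2, h3⟩ := h
  refine ⟨isPBlock_mapIrr_image φ h1, h2, ?_⟩
  rintro _ ⟨ξ, hξ, rfl⟩ χ hχ g
  have e1 : Cfsg.inducedCentralChar H₂ ((mapIrr φ ξ : Cfsg.IrrCharacter H₂) : H₂ → ℂ) g
      = Cfsg.inducedCentralChar H₁ (ξ : H₁ → ℂ) g := by
    unfold Cfsg.inducedCentralChar
    have himg : {h : H₂ | IsConj g (h : G)} = φ '' {h : H₁ | IsConj g (h : G)} := by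
      ext k'
      constructor
      · intro hk
        refine ⟨φ.symm k', ?_, φ.apply_symm_apply k'⟩
        rw [Set.mem_ofPred_eq] at hk ⊢
        have h4 := hφ (φ.symm k')
        rw [φ.apply_symm_apply] at h4
        refine hk.trans ?_
        rw [h4, isConj_iff]
        exact ⟨y⁻¹, by group⟩
      · rintro ⟨k, hk, rfl⟩
        rw [Set.mem_ofPred_eq] at hk ⊢
        refine hk.trans ?_
        rw [hφ, isConj_iff]
        exact ⟨y, rfl⟩
    rw [himg, finsum_mem_image (φ.injective.injOn)]
    apply finsum_mem_congr rfl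
    intro k _
    rw [mapIrr_apply_apply, mapIrr_apply_one]
  rw [e1]
  exact h3 ξ hξ χ hχ g

/-- centralizers of conjugate elements are conjugate -/
theorem mem_centralizer_singleton_conj_iff (g w x : G) (h : g * w * g⁻¹ = x) (y : G) :
    y ∈ Subgroup.centralizer ({x} : Set G) ↔ g⁻¹ * y * g ∈ Subgroup.centralizer ({w} : Set G) := by
  rw [Subgroup.mem_centralizer_singleton_iff, Subgroup.mem_centralizer_singleton_iff, ← h]
  constructor
  · intro h1
    have : g⁻¹ * (y * (g * w * g⁻¹)) * g = g⁻¹ * (g * w * g⁻¹ * y) * g := by rw [h1]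
    calc g⁻¹ * y * g * w = g⁻¹ * (y * (g * w * g⁻¹)) * g := by group
      _ = g⁻¹ * (g * w * g⁻¹ * y) * g := this
      _ = w * (g⁻¹ * y * g) := by group
  · intro h1
    calc y * (g * w * g⁻¹) = g * (g⁻¹ * y * g * w) * g⁻¹ := by group
      _ = g * (w * (g⁻¹ * y * g)) * g⁻¹ := by rw [h1]
      _ = g * w * g⁻¹ * y := by group

/-- the conjugation isomorphism between the centralizers of conjugate elements -/
noncomputable def centConj (g w x : G) (h : g * w * g⁻¹ = x) :
    Subgroup.centralizer ({w} : Set G) ≃* Subgroup.centralizer ({x} : Set G) :=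
  conjSubEquiv _ _ g (mem_centralizer_singleton_conj_iff g w x h)

theorem centConj_apply_coe (g w x : G) (h : g * w * g⁻¹ = x)
    (k : Subgroup.centralizer ({w} : Set G)) :
    ((centConj g w x h k : Subgroup.centralizer ({x} : Set G)) : G) = g * (k : G) * g⁻¹ := rfl

end conjG

section fusion

variable {G : Type*} [Group G] [Fintype G] [DecidableEq G]
variable {p : ℕ} {M : Ideal Cfsg.AlgInt}

/-- the subsection `(x, β')` is the conjugate of the subsection `(w, c ^ C_G(w))` obtained from
the root `c` on `C_G(P)` -/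
def SubsecFrom (M : Ideal Cfsg.AlgInt) (P : Subgroup G)
    (c : Set (Cfsg.IrrCharacter (Subgroup.centralizer (P : Set G)))) (w x : G)
    (β' : Set (Cfsg.IrrCharacter (Subgroup.centralizer ({x} : Set G)))) : Prop :=
  ∃ (g : G) (φ : Subgroup.centralizer ({w} : Set G) ≃* Subgroup.centralizer ({x} : Set G))
    (β : Set (Cfsg.IrrCharacter (Subgroup.centralizer ({w} : Set G)))),
    g * w * g⁻¹ = x ∧
    (∀ k : Subgroup.centralizer ({w} : Set G),
      ((φ k : Subgroup.centralizer ({x} : Set G)) : G) = g * (k : G) * g⁻¹) ∧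
    Cfsg.IsInducedBlockIn M (Subgroup.centralizer ({w} : Set G))
      (Subgroup.centralizer (P : Set G)) c β ∧ mapIrr φ '' β = β'

variable (hM : Cfsg.IsPModular p M) [Fact p.Prime]
  (B : Set (Cfsg.IrrCharacter G)) (P : Subgroup G) (hPD : Cfsg.IsDefectGroup p M B P)
  (hPab : ∀ x ∈ P, ∀ y ∈ P, x * y = y * x)
  (c : Set (Cfsg.IrrCharacter (Subgroup.centralizer (P : Set G))))
  (hc : Cfsg.IsInducedBlock M (Subgroup.centralizer (P : Set G)) c B)

include hM hPD hPab hc

/-- every element of `P` gives a subsection in each of its conjugates -/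
theorem SubsecFrom.exists (w x : G) (hw : w ∈ P) (hwx : IsConj w x) :
    ∃ β' : Set (Cfsg.IrrCharacter (Subgroup.centralizer ({x} : Set G))),
      SubsecFrom M P c w x β' ∧
        Cfsg.IsInducedBlock M (Subgroup.centralizer ({x} : Set G)) β' B := by
  classical
  have hPp : IsPGroup p P := IsDefectGroup.isPGroup' hPD
  have hPC : P ≤ Subgroup.centralizer (P : Set G) := by
    intro a ha
    rw [Subgroup.mem_centralizer_iff]
    intro b hb
    exact hPab b hb a ha
  have hH : Subgroup.centralizer (P : Set G) = P ⊔ Subgroup.centralizer (P : Set G) :=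
    (sup_eq_right.mpr hPC).symm
  have hCK : Subgroup.centralizer (P : Set G) ≤ Subgroup.centralizer ({w} : Set G) := by
    apply Subgroup.centralizer_le
    intro z hz
    rw [Set.mem_singleton_iff] at hz
    rw [hz]
    exact hw
  obtain ⟨g, hg⟩ := isConj_iff.mp hwx
  obtain ⟨β, hβ⟩ := exists_inducedIn_of_root hM P hPp (Subgroup.centralizer ({w} : Set G))
    (Subgroup.centralizer (P : Set G)) hPC (le_refl _) (Subgroup.centralizer_le_normalizer _)
    hCK c hc.1
  have hKdef : ∀ β : Set (Cfsg.IrrCharacter (Subgroup.centralizer ({w} : Set G))),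
      Cfsg.IsPBlock M β → Cfsg.InducedBlockDefined M (Subgroup.centralizer ({w} : Set G)) β := by
    intro β hβ
    exact inducedBlockDefined_centralizer_singleton hM w
      (hPp.to_le (by rw [Subgroup.zpowers_le]; exact hw)) β hβ
  obtain ⟨hβB, -⟩ := isDefectGroup_of_inducedIn hM B P hPD _ hH c hc _ hCK hKdef β hβ
  refine ⟨mapIrr (centConj g w x hg) '' β, ⟨g, centConj g w x hg, β, hg,
    centConj_apply_coe g w x hg, hβ, rfl⟩, ?_⟩
  exact IsInducedBlock.conj g _ _ (centConj g w x hg) (centConj_apply_coe g w x hg) hβB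

/-- fusion of subsections is controlled by the inertial group -/
theorem SubsecFrom.fusion (w w' x : G) (hw : w ∈ P) (hw' : w' ∈ P)
    (β' : Set (Cfsg.IrrCharacter (Subgroup.centralizer ({x} : Set G))))
    (h : SubsecFrom M P c w x β') (h' : SubsecFrom M P c w' x β') :
    ∃ t : G, t ∈ Subgroup.normalizer (P : Set G) ∧
      t ∈ stabSub (Subgroup.centralizer (P : Set G)) c ∧ t * w' * t⁻¹ = w := by
  classical
  have hPC : P ≤ Subgroup.centralizer (P : Set G) := by
    intro a ha
    rw [Subgroup.mem_centralizer_iff]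
    intro b hb
    exact hPab b hb a ha
  have hH : Subgroup.centralizer (P : Set G) = P ⊔ Subgroup.centralizer (P : Set G) :=
    (sup_eq_right.mpr hPC).symm
  obtain ⟨g, φ, β, hg, hφ, hβ, hφβ⟩ := h
  obtain ⟨g', φ', β₂, hg', hφ', hβ₂, hφβ₂⟩ := h'
  apply exists_stab_of_fusion hM B P hPD _ hH c hc w w' hw (fun z hz => hPab z hz w hw)
    hw' (fun z hz => hPab z hz w' hw') β β₂ hβ hβ₂ (g⁻¹ * g') ?_ (φ'.trans φ.symm) ?_ ?_
  · rw [← hg'] at hg
    calc (g⁻¹ * g')⁻¹ * w * (g⁻¹ * g') = g'⁻¹ * (g * w * g⁻¹) * g' := by group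
      _ = g'⁻¹ * (g' * w' * g'⁻¹) * g' := by rw [hg]
      _ = w' := by group
  · intro k
    rw [MulEquiv.trans_apply]
    have h1 := hφ (φ.symm (φ' k))
    rw [φ.apply_symm_apply, hφ'] at h1
    calc ((φ.symm (φ' k) : Subgroup.centralizer ({w} : Set G)) : G)
        = g⁻¹ * (g * ((φ.symm (φ' k) : Subgroup.centralizer ({w} : Set G)) : G) * g⁻¹) * g := by
          group
      _ = g⁻¹ * (g' * (k : G) * g'⁻¹) * g := by rw [← h1]
      _ = g⁻¹ * g' * (k : G) * (g⁻¹ * g')⁻¹ := by group
  · have : mapIrr (φ'.trans φ.symm) '' β₂ = mapIrr φ.symm '' (mapIrr φ' '' β₂) := by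
      rw [Set.image_image]
      apply Set.image_congr
      intro θ _
      rw [mapIrr_trans]
    rw [this, hφβ₂, ← hφβ]
    exact mapIrr_symm_image_image φ β

omit hPD hPab hc in
/-- the subsection obtained from `w` in a given conjugate is unique -/
theorem SubsecFrom.unique (w x : G) (hw : w ∈ P)
    (β' β'' : Set (Cfsg.IrrCharacter (Subgroup.centralizer ({x} : Set G))))
    (h : SubsecFrom M P c w x β') (h' : SubsecFrom M P c w x β'') : β' = β'' := by
  classical
  have hCK : Subgroup.centralizer (P : Set G) ≤ Subgroup.centralizer ({w} : Set G) := by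
    apply Subgroup.centralizer_le
    intro z hz
    rw [Set.mem_singleton_iff] at hz
    rw [hz]
    exact hw
  obtain ⟨g, φ, β, hg, hφ, hβ, hφβ⟩ := h
  obtain ⟨g₂, φ₂, β₂, hg₂, hφ₂, hβ₂, hφβ₂⟩ := h'
  have hββ : β = β₂ := IsInducedBlockIn.unique hM _ _ hCK hβ hβ₂
  have hz : g⁻¹ * g₂ ∈ Subgroup.centralizer ({w} : Set G) := by
    rw [Subgroup.mem_centralizer_singleton_iff]
    rw [← hg₂] at hg
    calc g⁻¹ * g₂ * w = g⁻¹ * (g₂ * w * g₂⁻¹) * g₂ := by group
      _ = g⁻¹ * (g * w * g⁻¹) * g₂ := by rw [hg]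
      _ = w * (g⁻¹ * g₂) := by group
  have hφeq : φ₂ = (MulAut.conj (⟨g⁻¹ * g₂, hz⟩ : Subgroup.centralizer ({w} : Set G))).trans φ := by
    ext k
    rw [hφ₂, MulEquiv.trans_apply, hφ, MulAut.conj_apply]
    simp only [Subgroup.coe_mul, Subgroup.coe_inv]
    group
  rw [← hφβ, ← hφβ₂, ← hββ, hφeq]
  have : mapIrr ((MulAut.conj (⟨g⁻¹ * g₂, hz⟩ : Subgroup.centralizer ({w} : Set G))).trans φ) '' β
      = mapIrr φ '' (mapIrr (MulAut.conj (⟨g⁻¹ * g₂, hz⟩ :
        Subgroup.centralizer ({w} : Set G))) '' β) := by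
    rw [Set.image_image]
    apply Set.image_congr
    intro θ _
    rw [mapIrr_trans]
  rw [this, mapIrr_conj_image]

omit hM hPD hPab hc in
/-- subsections obtained from elements conjugate under the inertial group coincide -/
theorem SubsecFrom.of_stab (w w' x : G) (t : G) (htN : t ∈ Subgroup.normalizer (P : Set G))
    (htS : t ∈ stabSub (Subgroup.centralizer (P : Set G)) c) (hww' : t * w * t⁻¹ = w')
    (β' : Set (Cfsg.IrrCharacter (Subgroup.centralizer ({x} : Set G))))
    (h : SubsecFrom M P c w x β') : SubsecFrom M P c w' x β' := by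
  classical
  obtain ⟨g, φ, β, hg, hφ, hβ, hφβ⟩ := h
  have htC : t ∈ Subgroup.normalizer ((Subgroup.centralizer (P : Set G) : Subgroup G) : Set G) :=
    normalizer_le_normalizer_centralizer P htN
  have h7 := IsInducedBlockIn.conj (M := M) t _ _ _ _ (centConj t w w' hww')
    (centConj_apply_coe t w w' hww') (nAut (Subgroup.centralizer (P : Set G)) t htC)
    (nAut_apply_coe _ t htC) hβ
  have hcc : mapIrr (nAut (Subgroup.centralizer (P : Set G)) t htC) '' c = c := by
    obtain ⟨hg', hA⟩ := htS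
    have : mapIrr (nAut (Subgroup.centralizer (P : Set G)) t htC) '' c
        = autIrr (nAut (Subgroup.centralizer (P : Set G)) t htC) '' c := by
      apply Set.image_congr
      intro θ _
      exact mapIrr_eq_autIrr _ θ
    rw [this]
    exact hA
  rw [hcc] at h7
  refine ⟨g * t⁻¹, (centConj t w w' hww').symm.trans φ, mapIrr (centConj t w w' hww') '' β,
    ?_, ?_, h7, ?_⟩
  · rw [← hg, ← hww']
    group
  · intro k
    rw [MulEquiv.trans_apply, hφ]
    have h1 := centConj_apply_coe t w w' hww' ((centConj t w w' hww').symm k)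
    rw [MulEquiv.apply_symm_apply] at h1
    rw [h1]
    group
  · rw [← hφβ]
    have : mapIrr ((centConj t w w' hww').symm.trans φ) '' (mapIrr (centConj t w w' hww') '' β)
        = mapIrr φ '' (mapIrr (centConj t w w' hww').symm ''
          (mapIrr (centConj t w w' hww') '' β)) := by
      rw [Set.image_image, Set.image_image, Set.image_image]
      apply Set.image_congr
      intro θ _
      rw [mapIrr_trans]
    rw [this, mapIrr_symm_image_image]

end fusion

end Cfsg.Agent.Lib.Helper6
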