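import Mathlib
import Cfsg.Agent.Lib.Helper6.MR3
import Cfsg.Agent.Lib.Helper6.BlkOrth2

/-!
# Groups with a Sylow `p`-subgroup of order `p`: the group theory
-/

set_option autoImplicit false
set_option linter.unusedSectionVars false

namespace Cfsg.Agent.Lib.Helper6.PB

open Cfsg.Agent.Lib.Helper6

variable {G : Type*} [Group G] [Finite G] {p : ℕ} [hp : Fact p.Prime] (P : Sylow p G)

local notation "𝐂" => Subgroup.centralizer ((P : Subgroup G) : Set G)
local notation "𝐍" => Subgroup.normalizer ((P : Subgroup G) : Set G)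

theorem P_le_N : (P : Subgroup G) ≤ 𝐍 := Subgroup.le_normalizer

theorem C_le_N : 𝐂 ≤ 𝐍 := Subgroup.centralizer_le_normalizer _

/-- the normalizer normalizes the centralizer -/
theorem conj_mem_C {n c : G} (hn : n ∈ 𝐍) (hc : c ∈ 𝐂) : n * c * n⁻¹ ∈ 𝐂 := by
  rw [Subgroup.mem_centralizer_iff] at hc ⊢
  intro y hy
  have h1 : n⁻¹ * y * n ∈ (P : Subgroup G) := by
    have := (Subgroup.mem_normalizer_iff''.mp hn y).mp hy
    exact this
  have h2 := hc _ h1
  calc y * (n * c * n⁻¹) = n * ((n⁻¹ * y * n) * c) * n⁻¹ := by group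
    _ = n * (c * (n⁻¹ * y * n)) * n⁻¹ := by rw [h2]
    _ = n * c * n⁻¹ * y := by group

theorem conj_mem_C' {n c : G} (hn : n ∈ 𝐍) (hc : c ∈ 𝐂) : n⁻¹ * c * n ∈ 𝐂 := by
  have := conj_mem_C P (inv_mem hn) hc
  rwa [inv_inv] at this

theorem conj_mem_P {n y : G} (hn : n ∈ 𝐍) (hy : y ∈ (P : Subgroup G)) :
    n * y * n⁻¹ ∈ (P : Subgroup G) :=
  (Subgroup.mem_normalizer_iff.mp hn y).mp hy

theorem conj_mem_P' {n y : G} (hn : n ∈ 𝐍) (hy : y ∈ (P : Subgroup G)) :
    n⁻¹ * y * n ∈ (P : Subgroup G) :=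
  (Subgroup.mem_normalizer_iff''.mp hn y).mp hy

/-- a `p`-element of the normalizer lies in `P` -/
theorem mem_P_of_pElement {z : G} (hzN : z ∈ 𝐍) (hz : ∃ k : ℕ, orderOf z = p ^ k) :
    z ∈ (P : Subgroup G) := by
  obtain ⟨k, hk⟩ := hz
  have hQ : IsPGroup p (Subgroup.zpowers z) := by
    apply IsPGroup.of_card (n := k)
    rw [Nat.card_zpowers, hk]
  have hQN : Subgroup.zpowers z ≤ Subgroup.normalizer ((P : Subgroup G) : Set G) :=
    Subgroup.zpowers_le.mpr hzN
  have hsup := IsPGroup.to_sup_of_normal_right' hQ P.isPGroup' hQN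
  have := P.is_maximal' hsup le_sup_right
  have h2 : Subgroup.zpowers z ≤ (P : Subgroup G) := by
    rw [← this]; exact le_sup_left
  exact h2 (Subgroup.mem_zpowers z)

/-- every `p`-element is conjugate into `P` -/
theorem exists_conj_mem_P {u : G} (hu : ∃ k : ℕ, orderOf u = p ^ k) :
    ∃ t : G, t⁻¹ * u * t ∈ (P : Subgroup G) := by
  obtain ⟨k, hk⟩ := hu
  have hQ : IsPGroup p (Subgroup.zpowers u) := by
    apply IsPGroup.of_card (n := k)
    rw [Nat.card_zpowers, hk]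
  obtain ⟨Q, hQ'⟩ := hQ.exists_le_sylow
  obtain ⟨t, ht⟩ := MulAction.exists_smul_eq G P Q
  refine ⟨t, ?_⟩
  have h1 : u ∈ (Q : Subgroup G) := hQ' (Subgroup.mem_zpowers u)
  rw [← ht, Sylow.coe_subgroup_smul, Subgroup.mem_pointwise_smul_iff_inv_smul_mem] at h1
  have h2 : (MulAut.conj t)⁻¹ • u = t⁻¹ * u * t := by
    rw [← map_inv]
    change MulAut.conj t⁻¹ u = _
    rw [MulAut.conj_apply, inv_inv]
  rwa [h2] at h1

section order

variable (hP : Nat.card P = p)
include hP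

theorem comm_of_mem {a b : G} (ha : a ∈ (P : Subgroup G)) (hb : b ∈ (P : Subgroup G)) :
    a * b = b * a := by
  have : IsCyclic (P : Subgroup G) := isCyclic_of_prime_card hP
  have := (IsCyclic.isMulCommutative (α := (P : Subgroup G))).is_comm.comm ⟨a, ha⟩ ⟨b, hb⟩
  exact congrArg Subtype.val this

theorem P_le_C : (P : Subgroup G) ≤ 𝐂 := by
  intro a ha
  rw [Subgroup.mem_centralizer_iff]
  intro b hb
  exact comm_of_mem P hP hb ha

theorem orderOf_eq_of_mem {z : G} (hz : z ∈ (P : Subgroup G)) (hz1 : z ≠ 1) : orderOf z = p := by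
  have h1 : orderOf (⟨z, hz⟩ : (P : Subgroup G)) ∣ Nat.card (P : Subgroup G) := orderOf_dvd_natCard _
  rw [hP, Subgroup.orderOf_mk] at h1
  rcases (Nat.dvd_prime hp.out).mp h1 with h | h
  · exact absurd (orderOf_eq_one_iff.mp h) hz1
  · exact h

theorem zpowers_eq_of_mem {z : G} (hz : z ∈ (P : Subgroup G)) (hz1 : z ≠ 1) :
    Subgroup.zpowers z = (P : Subgroup G) := by
  apply Subgroup.eq_of_le_of_card_ge (Subgroup.zpowers_le.mpr hz)
  rw [Nat.card_zpowers, orderOf_eq_of_mem P hP hz hz1, hP]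

theorem exists_gen : ∃ x : G, (P : Subgroup G) = Subgroup.zpowers x ∧ orderOf x = p := by
  have hne : ∃ z : G, z ∈ (P : Subgroup G) ∧ z ≠ 1 := by
    by_contra hcon
    push Not at hcon
    have h1 : (P : Subgroup G) = ⊥ := by
      rw [Subgroup.eq_bot_iff_forall]
      exact hcon
    have h2 : Nat.card (P : Subgroup G) = 1 := by rw [h1]; exact Subgroup.card_bot
    rw [hP] at h2
    exact hp.out.one_lt.ne' h2
  obtain ⟨z, hz, hz1⟩ := hne
  exact ⟨z, (zpowers_eq_of_mem P hP hz hz1).symm, orderOf_eq_of_mem P hP hz hz1⟩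

theorem centralizer_singleton_eq {z : G} (hz : z ∈ (P : Subgroup G)) (hz1 : z ≠ 1) :
    Subgroup.centralizer ({z} : Set G) = 𝐂 := by
  ext g
  rw [Subgroup.mem_centralizer_singleton_iff, Subgroup.mem_centralizer_iff]
  constructor
  · intro h y hy
    have hy' : y ∈ (P : Subgroup G) := hy
    rw [← zpowers_eq_of_mem P hP hz hz1, Subgroup.mem_zpowers_iff] at hy'
    obtain ⟨k, rfl⟩ := hy'
    have hc : Commute g z := h
    exact ((hc.zpow_right k).eq).symm
  · intro h
    exact (h z hz).symm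

theorem factorization_card : (Nat.card G).factorization p = 1 := by
  have h1 := Sylow.card_eq_multiplicity P
  rw [hP] at h1
  have h2 : p ^ 1 = p ^ (Nat.card G).factorization p := by rw [pow_one]; exact h1
  exact (Nat.pow_right_injective hp.out.two_le h2).symm

theorem not_sq_dvd_card : ¬ p ^ 2 ∣ Nat.card G := by
  intro h
  have := (hp.out.pow_dvd_iff_le_factorization Nat.card_pos.ne').mp h
  rw [factorization_card P hP] at this
  omega

theorem dvd_card : p ∣ Nat.card G := by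
  rw [← hP]
  exact Subgroup.card_subgroup_dvd_card _

/-- fusion of nonidentity elements of `P` is controlled by the normalizer -/
theorem mem_N_of_conj_mem {g z : G} (hz : z ∈ (P : Subgroup G)) (hz1 : z ≠ 1)
    (h : g⁻¹ * z * g ∈ 𝐍) : g ∈ 𝐍 := by
  have hw : orderOf (g⁻¹ * z * g) = p := by
    have h1 : g⁻¹ * z * g = MulAut.conj g⁻¹ z := by rw [MulAut.conj_apply, inv_inv]
    rw [h1, MulEquiv.orderOf_eq, orderOf_eq_of_mem P hP hz hz1]
  have hwP : g⁻¹ * z * g ∈ (P : Subgroup G) :=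
    mem_P_of_pElement P h ⟨1, by rw [hw, pow_one]⟩
  have hinv : g⁻¹ ∈ 𝐍 := by
    apply Subgroup.mem_normalizer_fintype
    intro y hy
    have hy' : y ∈ (P : Subgroup G) := hy
    rw [← zpowers_eq_of_mem P hP hz hz1, Subgroup.mem_zpowers_iff] at hy'
    obtain ⟨k, rfl⟩ := hy'
    have h2 : g⁻¹ * z ^ k * g⁻¹⁻¹ = (g⁻¹ * z * g) ^ k := by
      rw [inv_inv]
      have : g⁻¹ * z * g = MulAut.conj g⁻¹ z := by rw [MulAut.conj_apply, inv_inv]
      rw [this, ← map_zpow, MulAut.conj_apply, inv_inv]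
    rw [h2]
    exact zpow_mem hwP k
  have := inv_mem hinv
  rwa [inv_inv] at this

/-- a `p`-singular element of the centralizer is a product of a nonidentity element of `P` and a
`p`-regular element of the centralizer -/
theorem exists_decomp_C {c : G} (hc : c ∈ 𝐂) (hs : p ∣ orderOf c) :
    ∃ z ∈ (P : Subgroup G), z ≠ 1 ∧ ∃ y ∈ 𝐂, ¬ p ∣ orderOf y ∧ c = z * y := by
  obtain ⟨v, hv, u, hu, hcvu, hvp, k, huk⟩ := exists_pParts p hp.out c
  have huv : Commute u v := by
    obtain ⟨a, rfl⟩ := Subgroup.mem_zpowers_iff.mp hu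
    obtain ⟨b, rfl⟩ := Subgroup.mem_zpowers_iff.mp hv
    exact (Commute.refl c).zpow_zpow a b
  have hzc : Subgroup.zpowers c ≤ 𝐂 := Subgroup.zpowers_le.mpr hc
  have huP : u ∈ (P : Subgroup G) := mem_P_of_pElement P (C_le_N P (hzc hu)) ⟨k, huk⟩
  refine ⟨u, huP, ?_, v, hzc hv, hvp, ?_⟩
  · rintro rfl
    rw [mul_one] at hcvu
    rw [hcvu] at hs
    exact hvp hs
  · rw [hcvu]; exact huv.eq.symm

/-- the centralizer is a trivial intersection set on `p`-singular elements -/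
theorem mem_N_of_conj_mem_C {c g : G} (hc : c ∈ 𝐂) (hs : p ∣ orderOf c)
    (h : g⁻¹ * c * g ∈ 𝐂) : g ∈ 𝐍 := by
  obtain ⟨m, hm⟩ := hs
  have ho : 0 < orderOf c := orderOf_pos c
  have hm0 : 0 < m := by
    rcases Nat.eq_zero_or_pos m with h0 | h0
    · rw [h0, mul_zero] at hm; omega
    · exact h0
  have hz : orderOf (c ^ m) = p := by
    rw [orderOf_pow' c hm0.ne', hm, Nat.gcd_eq_right (Dvd.intro_left p rfl),
      Nat.mul_div_cancel _ hm0]
  have hzC : c ^ m ∈ 𝐂 := pow_mem hc m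
  have hzP : c ^ m ∈ (P : Subgroup G) :=
    mem_P_of_pElement P (C_le_N P hzC) ⟨1, by rw [hz, pow_one]⟩
  have hz1 : c ^ m ≠ 1 := by
    intro h1
    rw [h1, orderOf_one] at hz
    exact hp.out.one_lt.ne hz
  apply mem_N_of_conj_mem P hP hzP hz1
  have h2 : g⁻¹ * c ^ m * g = (g⁻¹ * c * g) ^ m := by
    have : g⁻¹ * c * g = MulAut.conj g⁻¹ c := by rw [MulAut.conj_apply, inv_inv]
    rw [this, ← map_pow, MulAut.conj_apply, inv_inv]
  rw [h2]
  exact C_le_N P (pow_mem h m)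

/-- every `p`-singular element is conjugate to a product `z * y` as above -/
theorem exists_conj_decomp (g : G) (hs : p ∣ orderOf g) :
    ∃ t : G, ∃ z ∈ (P : Subgroup G), z ≠ 1 ∧ ∃ y ∈ 𝐂, ¬ p ∣ orderOf y ∧ t⁻¹ * g * t = z * y := by
  obtain ⟨v, hv, u, hu, hgvu, hvp, k, huk⟩ := exists_pParts p hp.out g
  have huv : Commute u v := by
    obtain ⟨a, rfl⟩ := Subgroup.mem_zpowers_iff.mp hu
    obtain ⟨b, rfl⟩ := Subgroup.mem_zpowers_iff.mp hv
    exact (Commute.refl g).zpow_zpow a b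
  have hu1 : u ≠ 1 := by
    rintro rfl
    rw [mul_one] at hgvu
    rw [hgvu] at hs
    exact hvp hs
  obtain ⟨t, ht⟩ := exists_conj_mem_P P ⟨k, huk⟩
  have hz1 : t⁻¹ * u * t ≠ 1 := by
    intro h1
    apply hu1
    have : u = t * (t⁻¹ * u * t) * t⁻¹ := by group
    rw [this, h1]; group
  have hyC : t⁻¹ * v * t ∈ Subgroup.centralizer ({t⁻¹ * u * t} : Set G) := by
    rw [Subgroup.mem_centralizer_singleton_iff]
    calc t⁻¹ * v * t * (t⁻¹ * u * t) = t⁻¹ * (v * u) * t := by group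
      _ = t⁻¹ * (u * v) * t := by rw [huv.eq]
      _ = t⁻¹ * u * t * (t⁻¹ * v * t) := by group
  rw [centralizer_singleton_eq P hP ht hz1] at hyC
  refine ⟨t, t⁻¹ * u * t, ht, hz1, t⁻¹ * v * t, hyC, ?_, ?_⟩
  · have h1 : t⁻¹ * v * t = MulAut.conj t⁻¹ v := by rw [MulAut.conj_apply, inv_inv]
    rw [h1, MulEquiv.orderOf_eq]
    exact hvp
  · rw [hgvu, ← huv.eq]; group

/-- the local data for the modular count -/
theorem exists_LD : ∃ D : MR.LD p G, D.P = (P : Subgroup G) ∧ D.N = 𝐍 := by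
  classical
  obtain ⟨x, hx, hord⟩ := exists_gen P hP
  have hcardP' : Nat.card ((P : Subgroup G).subgroupOf 𝐍) = p := by
    exact (Nat.card_congr (Subgroup.subgroupOfEquivOfLe (P_le_N P)).toEquiv).trans hP
  have hidx : ¬ p ∣ ((P : Subgroup G).subgroupOf 𝐍).index := by
    intro hdvd
    have h1 := Subgroup.card_mul_index ((P : Subgroup G).subgroupOf 𝐍)
    have h2 : p ^ 2 ∣ Nat.card 𝐍 := by
      rw [← h1, hcardP', sq]
      exact Nat.mul_dvd_mul_left p hdvd
    exact not_sq_dvd_card P hP (h2.trans (Subgroup.card_subgroup_dvd_card _))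
  have hcop : Nat.Coprime (Nat.card ((P : Subgroup G).subgroupOf 𝐍))
      ((P : Subgroup G).subgroupOf 𝐍).index := by
    rw [hcardP']
    exact (Nat.Prime.coprime_iff_not_dvd hp.out).mpr hidx
  obtain ⟨H', hH'⟩ := Subgroup.exists_right_complement'_of_coprime hcop
  refine ⟨{ P := (P : Subgroup G), N := 𝐍, H := H'.map (Subgroup.subtype _), x := x, hx := hx,
            hord := hord, hPN := P_le_N P, hHN := ?_, hnorm := ?_, hHp := ?_, hdec := ?_,
            hfree := ?_, hidx := ?_ }, rfl, rfl⟩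
  · rintro _ ⟨h, _, rfl⟩
    exact h.2
  · intro n hn z
    exact Subgroup.mem_normalizer_iff.mp hn z
  · have h1 : Nat.card (H'.map (Subgroup.subtype 𝐍)) = Nat.card H' :=
      Nat.card_congr (Subgroup.equivMapOfInjective H' _ (Subgroup.subtype_injective _)).toEquiv.symm
    rw [h1, ← hH'.symm.index_eq_card]
    exact hidx
  · intro n hn
    obtain ⟨⟨a, b⟩, hab, -⟩ := Subgroup.IsComplement.existsUnique hH' ⟨n, hn⟩
    refine ⟨((a : 𝐍) : G), Subgroup.mem_subgroupOf.mp a.2, ((b : 𝐍) : G), ⟨b, b.2, rfl⟩, ?_⟩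
    have := congrArg Subtype.val hab
    exact this.symm
  · intro g z hz hz1 h
    exact mem_N_of_conj_mem P hP hz hz1 h
  · intro hdvd
    have h1 := Subgroup.card_mul_index 𝐍
    have h2 : p ∣ Nat.card 𝐍 := by
      have := Subgroup.card_dvd_of_le (P_le_N P)
      rwa [hP] at this
    apply not_sq_dvd_card P hP
    rw [← h1, sq]
    exact Nat.mul_dvd_mul h2 hdvd

end order

end Cfsg.Agent.Lib.Helper6.PB
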