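import Mathlib
import Cfsg.Agent.Lib.Helper6.PB1
import Cfsg.Agent.Lib.Helper6.BrConj
import Cfsg.Agent.Lib.Helper6.Auto
import Cfsg.Agent.Lib.Helper6.KfFusion

/-!
# The conjugation action of the normalizer of `P` on the characters of the centralizer
-/

set_option autoImplicit false
set_option linter.unusedSectionVars false

namespace Cfsg.Agent.Lib.Helper6.PB

open Cfsg.Agent.Lib.Helper6

variable {G : Type*} [Group G] [Fintype G] [DecidableEq G] {p : ℕ} [hp : Fact p.Prime]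
variable (P : Sylow p G)

local notation "𝐂" => Subgroup.centralizer ((P : Subgroup G) : Set G)
local notation "𝐍" => Subgroup.normalizer ((P : Subgroup G) : Set G)

/-- conjugation by an element of the normalizer, as an automorphism of the centralizer -/
noncomputable def cj (n : 𝐍) : 𝐂 ≃* 𝐂 where
  toFun c := ⟨(n : G) * c * (n : G)⁻¹, conj_mem_C P n.2 c.2⟩
  invFun c := ⟨(n : G)⁻¹ * c * (n : G), conj_mem_C' P n.2 c.2⟩
  left_inv c := by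
    apply Subtype.ext
    simp only
    group
  right_inv c := by
    apply Subtype.ext
    simp only
    group
  map_mul' a b := by
    apply Subtype.ext
    simp only [Subgroup.coe_mul]
    group

theorem cj_apply_coe (n : 𝐍) (c : 𝐂) : ((cj P n c : 𝐂) : G) = (n : G) * c * (n : G)⁻¹ := rfl

theorem cj_symm_apply_coe (n : 𝐍) (c : 𝐂) :
    (((cj P n).symm c : 𝐂) : G) = (n : G)⁻¹ * c * (n : G) := rfl

theorem cj_mul (n m : 𝐍) : cj P (n * m) = (cj P m).trans (cj P n) := by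
  ext c
  simp only [cj_apply_coe, MulEquiv.trans_apply, Subgroup.coe_mul]
  group

theorem cj_one : cj P 1 = MulEquiv.refl _ := by
  ext c
  rw [cj_apply_coe]
  simp

/-- the action on functions -/
noncomputable def cjF (n : 𝐍) (f : 𝐂 → ℂ) : 𝐂 → ℂ := fun c => f ((cj P n).symm c)

theorem cjF_apply (n : 𝐍) (f : 𝐂 → ℂ) (c : 𝐂) : cjF P n f c = f ((cj P n).symm c) := rfl

theorem cjF_sub (n : 𝐍) (f g : 𝐂 → ℂ) : cjF P n (f - g) = cjF P n f - cjF P n g := rfl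

theorem cjF_add (n : 𝐍) (f g : 𝐂 → ℂ) : cjF P n (f + g) = cjF P n f + cjF P n g := rfl

theorem cjF_mul (n m : 𝐍) (f : 𝐂 → ℂ) : cjF P (n * m) f = cjF P n (cjF P m f) := by
  funext c
  simp only [cjF_apply]
  congr 1
  apply Subtype.ext
  simp only [cj_symm_apply_coe, Subgroup.coe_mul]
  group

theorem cjF_one (f : 𝐂 → ℂ) : cjF P 1 f = f := by
  funext c
  simp only [cjF_apply]
  congr 1
  apply Subtype.ext
  rw [cj_symm_apply_coe]
  simp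

theorem cjF_of_mem_C (n : 𝐍) (hn : (n : G) ∈ 𝐂) {f : 𝐂 → ℂ} (hf : Cfsg.IsClassFunction 𝐂 f) :
    cjF P n f = f := by
  funext c
  simp only [cjF_apply]
  have h1 : (cj P n).symm c = (⟨(n : G), hn⟩ : 𝐂)⁻¹ * c * (⟨(n : G), hn⟩ : 𝐂)⁻¹⁻¹ := by
    apply Subtype.ext
    rw [cj_symm_apply_coe]
    simp
  rw [h1]
  exact hf c _

theorem cjF_restrict (n : 𝐍) {χ : G → ℂ} (hχ : Cfsg.IsClassFunction G χ) :
    cjF P n (fun c : 𝐂 => χ c) = fun c : 𝐂 => χ c := by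
  funext c
  simp only [cjF_apply, cj_symm_apply_coe]
  have := hχ (c : G) (n : G)⁻¹
  rwa [inv_inv] at this

variable [Fintype ↥(Subgroup.centralizer ((P : Subgroup G) : Set G))]

theorem classInner_cjF (n : 𝐍) (f g : 𝐂 → ℂ) :
    Cfsg.classInner (cjF P n f) (cjF P n g) = Cfsg.classInner f g :=
  classInner_comp_mulEquiv (cj P n).symm f g

/-- the action on irreducible characters -/
noncomputable def act (n : 𝐍) (ξ : Cfsg.IrrCharacter 𝐂) : Cfsg.IrrCharacter 𝐂 := mapIrr (cj P n) ξ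

theorem act_coe (n : 𝐍) (ξ : Cfsg.IrrCharacter 𝐂) :
    ((act P n ξ : Cfsg.IrrCharacter 𝐂) : 𝐂 → ℂ) = cjF P n (ξ : 𝐂 → ℂ) := rfl

theorem act_apply (n : 𝐍) (ξ : Cfsg.IrrCharacter 𝐂) (c : 𝐂) :
    ((act P n ξ : Cfsg.IrrCharacter 𝐂) : 𝐂 → ℂ) c = (ξ : 𝐂 → ℂ) ((cj P n).symm c) := rfl

theorem act_apply_one (n : 𝐍) (ξ : Cfsg.IrrCharacter 𝐂) :
    ((act P n ξ : Cfsg.IrrCharacter 𝐂) : 𝐂 → ℂ) 1 = (ξ : 𝐂 → ℂ) 1 := by
  rw [act_apply, map_one]

theorem act_mul (n m : 𝐍) (ξ : Cfsg.IrrCharacter 𝐂) : act P (n * m) ξ = act P n (act P m ξ) := by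
  apply Subtype.ext
  rw [act_coe, act_coe, act_coe, cjF_mul]

theorem act_one (ξ : Cfsg.IrrCharacter 𝐂) : act P 1 ξ = ξ := by
  apply Subtype.ext
  rw [act_coe, cjF_one]

theorem act_inv_act (n : 𝐍) (ξ : Cfsg.IrrCharacter 𝐂) : act P n⁻¹ (act P n ξ) = ξ := by
  rw [← act_mul, inv_mul_cancel, act_one]

theorem act_act_inv (n : 𝐍) (ξ : Cfsg.IrrCharacter 𝐂) : act P n (act P n⁻¹ ξ) = ξ := by
  rw [← act_mul, mul_inv_cancel, act_one]

theorem act_injective (n : 𝐍) : Function.Injective (act P n) := by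
  intro ξ ξ' h
  have := congrArg (act P n⁻¹) h
  rwa [act_inv_act, act_inv_act] at this

theorem act_eq_iff (n : 𝐍) (ξ ξ' : Cfsg.IrrCharacter 𝐂) : act P n ξ = ξ' ↔ ξ = act P n⁻¹ ξ' := by
  constructor
  · rintro rfl; rw [act_inv_act]
  · rintro rfl; rw [act_act_inv]

theorem act_of_mem_C (n : 𝐍) (hn : (n : G) ∈ 𝐂) (ξ : Cfsg.IrrCharacter 𝐂) : act P n ξ = ξ := by
  apply Subtype.ext
  rw [act_coe, cjF_of_mem_C P n hn (IsIrrCharacter.isClassFunction ξ.2)]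

variable {M : Ideal Cfsg.AlgInt}

theorem sameBlock_act_iff (n : 𝐍) (ξ ξ' : Cfsg.IrrCharacter 𝐂) :
    Cfsg.SameBlock M ((act P n ξ : Cfsg.IrrCharacter 𝐂) : 𝐂 → ℂ)
      ((act P n ξ' : Cfsg.IrrCharacter 𝐂) : 𝐂 → ℂ)
      ↔ Cfsg.SameBlock M (ξ : 𝐂 → ℂ) (ξ' : 𝐂 → ℂ) :=
  sameBlock_mapIrr_iff (cj P n) ξ ξ'

theorem act_image_blockOf (n : 𝐍) (ξ : Cfsg.IrrCharacter 𝐂) :
    act P n '' Cfsg.blockOf M (ξ : 𝐂 → ℂ)
      = Cfsg.blockOf M ((act P n ξ : Cfsg.IrrCharacter 𝐂) : 𝐂 → ℂ) :=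
  mapIrr_image_blockOf (cj P n) ξ

theorem isPBlock_act_image (n : 𝐍) {b : Set (Cfsg.IrrCharacter 𝐂)} (hb : Cfsg.IsPBlock M b) :
    Cfsg.IsPBlock M (act P n '' b) :=
  isPBlock_mapIrr_image (cj P n) hb

theorem isInducedBlock_act_image (n : 𝐍) {b : Set (Cfsg.IrrCharacter 𝐂)}
    {B : Set (Cfsg.IrrCharacter G)} (h : Cfsg.IsInducedBlock M 𝐂 b B) :
    Cfsg.IsInducedBlock M 𝐂 (act P n '' b) B :=
  IsInducedBlock.conj (n : G) 𝐂 𝐂 (cj P n) (fun k => cj_apply_coe P n k) h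

/-- the kernel condition is preserved -/
theorem act_const_P (n : 𝐍) {ξ : Cfsg.IrrCharacter 𝐂}
    (h : ∀ x : 𝐂, (x : G) ∈ (P : Subgroup G) → (ξ : 𝐂 → ℂ) x = (ξ : 𝐂 → ℂ) 1) :
    ∀ x : 𝐂, (x : G) ∈ (P : Subgroup G) →
      ((act P n ξ : Cfsg.IrrCharacter 𝐂) : 𝐂 → ℂ) x
        = ((act P n ξ : Cfsg.IrrCharacter 𝐂) : 𝐂 → ℂ) 1 := by
  intro x hx
  rw [act_apply_one, act_apply]
  apply h
  rw [cj_symm_apply_coe]
  exact conj_mem_P' P n.2 hx

/-- multiplicities in restrictions of class functions of `G` are invariant -/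
theorem classInner_restrict_act (n : 𝐍) {χ : G → ℂ} (hχ : Cfsg.IsClassFunction G χ)
    (ξ : Cfsg.IrrCharacter 𝐂) :
    Cfsg.classInner (fun c : 𝐂 => χ c) ((act P n ξ : Cfsg.IrrCharacter 𝐂) : 𝐂 → ℂ)
      = Cfsg.classInner (fun c : 𝐂 => χ c) (ξ : 𝐂 → ℂ) := by
  rw [act_coe]
  conv_lhs => rw [← cjF_restrict P n hχ]
  exact classInner_cjF P n _ _

end Cfsg.Agent.Lib.Helper6.PB
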