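import Mathlib
import Cfsg.Agent.Lib.Helper6.PB2
import Cfsg.Agent.Lib.Helper6.BlkMajor
import Cfsg.Agent.Lib.Helper6.BlkNormalP
import Cfsg.Agent.Lib.Helper6.BlkVanish
import Cfsg.Agent.Lib.Helper6.BlkSections
import Cfsg.Agent.S0968
import Cfsg.Agent.S4714
import Cfsg.Agent.S0912
import Cfsg.Agent.S0187

/-!
# The blocks of the centralizer of a Sylow subgroup of prime order
-/

set_option autoImplicit false
set_option linter.unusedSectionVars false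

namespace Cfsg.Agent.Lib.Helper6.PB

open Cfsg.Agent.Lib.Helper6
open scoped ComplexConjugate

variable {G : Type*} [Group G] [Fintype G] [DecidableEq G] {p : ℕ} [hp : Fact p.Prime]
variable (P : Sylow p G)
variable [Fintype ↥(Subgroup.centralizer ((P : Subgroup G) : Set G))]
variable {M : Ideal Cfsg.AlgInt}

local notation "𝐂" => Subgroup.centralizer ((P : Subgroup G) : Set G)
local notation "𝐍" => Subgroup.normalizer ((P : Subgroup G) : Set G)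
local notation "𝐃" => Subgroup.subgroupOf (P : Subgroup G) (Subgroup.centralizer ((P : Subgroup G) : Set G))

theorem mem_PD_iff (c : 𝐂) : c ∈ 𝐃 ↔ (c : G) ∈ (P : Subgroup G) := Subgroup.mem_subgroupOf

theorem PD_central {d : 𝐂} (hd : d ∈ 𝐃) (c : 𝐂) : d * c = c * d := by
  apply Subtype.ext
  have h1 := (Subgroup.mem_centralizer_iff.mp c.2) (d : G) ((mem_PD_iff P d).mp hd)
  simp only [Subgroup.coe_mul]
  exact h1

theorem PD_sup : 𝐃 ⊔ Subgroup.centralizer ((𝐃 : Subgroup 𝐂) : Set 𝐂) = ⊤ := by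
  rw [eq_top_iff]
  intro c _
  apply Subgroup.mem_sup_right
  rw [Subgroup.mem_centralizer_iff]
  intro d hd
  exact PD_central P hd c

theorem PD_isPGroup : IsPGroup p 𝐃 := IsPGroup.comap_subtype P.isPGroup'

theorem PD_normal : (𝐃 : Subgroup 𝐂).Normal := by
  constructor
  intro d hd c
  have : c * d * c⁻¹ = d := by
    rw [← PD_central P hd c]; group
  rw [this]; exact hd

/-- a `p`-element of the centralizer lies in `P` -/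
theorem mem_PD_of_pElement (c : 𝐂) (hc : ∃ k : ℕ, orderOf c = p ^ k) : c ∈ 𝐃 := by
  rw [mem_PD_iff]
  apply mem_P_of_pElement P (C_le_N P c.2)
  rwa [Subgroup.orderOf_coe]

theorem card_conjClasses_of_comm {A : Type*} [Group A] (h : ∀ a b : A, a * b = b * a) :
    Nat.card (ConjClasses A) = Nat.card A := by
  symm
  apply Nat.card_congr
  refine Equiv.ofBijective ConjClasses.mk ⟨?_, ConjClasses.mk_surjective⟩
  intro a b hab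
  rw [ConjClasses.mk_eq_mk_iff_isConj, isConj_iff] at hab
  obtain ⟨c, hc⟩ := hab
  rw [← hc, h c a]
  group

/-- multiplicativity of irreducible characters of the centralizer along `P` -/
theorem apply_mul_of_mem_P (ξ : Cfsg.IrrCharacter 𝐂) {y : 𝐂} (hy : (y : G) ∈ (P : Subgroup G))
    (c : 𝐂) : (ξ : 𝐂 → ℂ) (y * c) = (ξ : 𝐂 → ℂ) y * (ξ : 𝐂 → ℂ) c / (ξ : 𝐂 → ℂ) 1 :=
  IsIrrCharacter.apply_central_mul ξ.2 (fun h => PD_central P ((mem_PD_iff P y).mpr hy) h) c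

section order

variable (hP : Nat.card P = p)
include hP

theorem card_PD : Nat.card 𝐃 = p :=
  (Nat.card_congr (Subgroup.subgroupOfEquivOfLe (P_le_C P hP)).toEquiv).trans hP

theorem PD_comm (a b : 𝐃) : a * b = b * a := by
  apply Subtype.ext
  exact PD_central P a.2 b

variable (hM : Cfsg.IsPModular p M)
include hM

/-- every block of the centralizer has defect group `P` -/
theorem isDefectGroup_PD {b : Set (Cfsg.IrrCharacter 𝐂)} (hb : Cfsg.IsPBlock M b) :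
    Cfsg.IsDefectGroup p M b 𝐃 := by
  obtain ⟨Δ, hΔ⟩ := exists_isDefectGroup hM b hb
  have hΔp : IsPGroup p Δ := IsDefectGroup.isPGroup' hΔ
  have h1 : Δ ≤ 𝐃 := by
    intro d hd
    apply mem_PD_of_pElement P d
    obtain ⟨k, hk⟩ := hΔp ⟨d, hd⟩
    have hk' : d ^ p ^ k = 1 := congrArg Subtype.val hk
    obtain ⟨j, -, hj⟩ := (Nat.dvd_prime_pow hp.out).mp (orderOf_dvd_of_pow_eq_one hk')
    exact ⟨j, hj⟩
  have h2 : 𝐃 ≤ Δ := by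
    refine le_trans ?_ (Cfsg.Agent.S0912.result p M hM b hb Δ hΔ)
    unfold Cfsg.pCore
    exact le_sSup ⟨PD_normal P, PD_isPGroup P⟩
  rwa [le_antisymm h1 h2] at hΔ

theorem card_block {b : Set (Cfsg.IrrCharacter 𝐂)} (hb : Cfsg.IsPBlock M b) : Nat.card b = p := by
  have h := (Cfsg.Agent.S0968.result p M hM 𝐃 (PD_isPGroup P) (PD_sup P) b hb
    (isDefectGroup_PD P hP hM hb)).2.2
  rw [h, card_conjClasses_of_comm (PD_comm P hP), card_PD P hP]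

theorem exists_theta {b : Set (Cfsg.IrrCharacter 𝐂)} (hb : Cfsg.IsPBlock M b) :
    ∃ θ ∈ b, ∀ x : 𝐂, (x : G) ∈ (P : Subgroup G) → (θ : 𝐂 → ℂ) x = (θ : 𝐂 → ℂ) 1 := by
  obtain ⟨⟨θ, hθ, -⟩, -, -⟩ := Cfsg.Agent.S0968.result p M hM 𝐃 (PD_isPGroup P) (PD_sup P) b hb
    (isDefectGroup_PD P hP hM hb)
  exact ⟨θ, hθ.1, fun x hx => hθ.2 x ((mem_PD_iff P x).mpr hx)⟩

theorem theta_unique {b : Set (Cfsg.IrrCharacter 𝐂)} (hb : Cfsg.IsPBlock M b)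
    {θ θ' : Cfsg.IrrCharacter 𝐂} (hθ : θ ∈ b) (hθ' : θ' ∈ b)
    (h : ∀ x : 𝐂, (x : G) ∈ (P : Subgroup G) → (θ : 𝐂 → ℂ) x = (θ : 𝐂 → ℂ) 1)
    (h' : ∀ x : 𝐂, (x : G) ∈ (P : Subgroup G) → (θ' : 𝐂 → ℂ) x = (θ' : 𝐂 → ℂ) 1) : θ = θ' := by
  obtain ⟨hu, -, -⟩ := Cfsg.Agent.S0968.result p M hM 𝐃 (PD_isPGroup P) (PD_sup P) b hb
    (isDefectGroup_PD P hP hM hb)
  apply hu.unique
  · exact ⟨hθ, fun x hx => h x ((mem_PD_iff P x).mp hx)⟩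
  · exact ⟨hθ', fun x hx => h' x ((mem_PD_iff P x).mp hx)⟩

variable {b : Set (Cfsg.IrrCharacter ↥(Subgroup.centralizer ((P : Subgroup G) : Set G)))}
  (hb : Cfsg.IsPBlock M b)
variable {θ : Cfsg.IrrCharacter ↥(Subgroup.centralizer ((P : Subgroup G) : Set G))} (hθ : θ ∈ b)
variable (hθP : ∀ x : ↥(Subgroup.centralizer ((P : Subgroup G) : Set G)),
  (x : G) ∈ (P : Subgroup G) →
    (θ : ↥(Subgroup.centralizer ((P : Subgroup G) : Set G)) → ℂ) x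
      = (θ : ↥(Subgroup.centralizer ((P : Subgroup G) : Set G)) → ℂ) 1)
include hb hθ hθP

/-- the members of a block agree on the `p`-regular elements -/
theorem eq_theta_of_pRegular {ξ : Cfsg.IrrCharacter 𝐂} (hξ : ξ ∈ b) (x : 𝐂)
    (hx : ¬ p ∣ orderOf x) : (ξ : 𝐂 → ℂ) x = (θ : 𝐂 → ℂ) x := by
  have h := (Cfsg.Agent.S4714.result p M hM 𝐃 (PD_isPGroup P) (PD_sup P) b hb
    (isDefectGroup_PD P hP hM hb) θ hθ (fun y hy => hθP y ((mem_PD_iff P y).mp hy))).1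
  obtain ⟨ζ, hζ, -⟩ := (h ξ).mp hξ
  have h1 := hζ 1 x hx (Commute.one_left _)
  have h2 : (ζ : 𝐃 → ℂ) 1 = 1 := (Cfsg.Agent.S0187.result (G := 𝐃)).mp (PD_comm P hP) ζ
  rw [h2, one_mul] at h1
  simpa using h1

theorem apply_one_eq {ξ : Cfsg.IrrCharacter 𝐂} (hξ : ξ ∈ b) :
    (ξ : 𝐂 → ℂ) 1 = (θ : 𝐂 → ℂ) 1 :=
  eq_theta_of_pRegular P hP hM hb hθ hθP hξ 1 (by rw [orderOf_one]; exact hp.out.not_dvd_one)

/-- the sum of the members of a block vanishes at the `p`-singular elements -/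
theorem sum_block_of_pSingular [Fintype (Cfsg.IrrCharacter 𝐂)] [DecidablePred (· ∈ b)] (c : 𝐂)
    (hc : p ∣ orderOf c) : ∑ ξ ∈ Finset.univ.filter (· ∈ b), (ξ : 𝐂 → ℂ) c = 0 := by
  obtain ⟨χ₀, rfl⟩ := hb
  have h1 := weak_block_orthogonality hM χ₀ 1 c
    (by rw [orderOf_one]; exact hp.out.not_dvd_one) hc
  rw [finsum_mem_eq_sum_filter_lib] at h1
  have h2 : ∑ ξ ∈ Finset.univ.filter (· ∈ Cfsg.blockOf M (χ₀ : 𝐂 → ℂ)),
      (ξ : 𝐂 → ℂ) 1 * conj ((ξ : 𝐂 → ℂ) c)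
      = (θ : 𝐂 → ℂ) 1 * conj (∑ ξ ∈ Finset.univ.filter (· ∈ Cfsg.blockOf M (χ₀ : 𝐂 → ℂ)),
          (ξ : 𝐂 → ℂ) c) := by
    rw [map_sum, Finset.mul_sum]
    apply Finset.sum_congr rfl
    intro ξ hξ
    rw [apply_one_eq P hP hM ⟨χ₀, rfl⟩ hθ hθP (Finset.mem_filter.mp hξ).2]
  have h3 : (θ : 𝐂 → ℂ) 1 ≠ 0 := IsIrrCharacter.apply_one_ne_zero θ.2
  have h4 : ∑ ξ ∈ Finset.univ.filter (· ∈ Cfsg.blockOf M (χ₀ : 𝐂 → ℂ)),
      (ξ : 𝐂 → ℂ) 1 * conj ((ξ : 𝐂 → ℂ) c) = 0 := by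
    convert h1 using 2
  rw [h2] at h4
  rcases mul_eq_zero.mp h4 with h5 | h5
  · exact absurd h5 h3
  · have := congrArg conj h5
    simpa using this

theorem theta_mul_left {y : 𝐂} (hy : (y : G) ∈ (P : Subgroup G)) (c : 𝐂) :
    (θ : 𝐂 → ℂ) (y * c) = (θ : 𝐂 → ℂ) c :=
  IsCharacter.apply_mul_left_of_apply_eq (IsIrrCharacter.isCharacter θ.2) (hθP y hy) c

/-- a member of the block other than `θ` is not constant on `P` -/
theorem exists_ne_of_ne {ξ : Cfsg.IrrCharacter 𝐂} (hξ : ξ ∈ b) (hne : ξ ≠ θ) :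
    ∃ y : 𝐂, (y : G) ∈ (P : Subgroup G) ∧ (ξ : 𝐂 → ℂ) y ≠ (ξ : 𝐂 → ℂ) 1 := by
  by_contra hcon
  push Not at hcon
  exact hne (theta_unique P hP hM hb hξ hθ hcon hθP)

/-- an element of `P` at which `ξ ≠ θ` takes the value `ξ 1` is trivial -/
theorem eq_one_of_apply_eq {ξ : Cfsg.IrrCharacter 𝐂} (hξ : ξ ∈ b) (hne : ξ ≠ θ) {y : 𝐂}
    (hy : (y : G) ∈ (P : Subgroup G)) (h : (ξ : 𝐂 → ℂ) y = (ξ : 𝐂 → ℂ) 1) : y = 1 := by
  by_contra hy1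
  obtain ⟨y₀, hy₀, hy₀'⟩ := exists_ne_of_ne P hP hM hb hθ hθP hξ hne
  have hyG1 : (y : G) ≠ 1 := fun h' => hy1 (Subtype.ext h')
  have hz := zpowers_eq_of_mem P hP hy hyG1
  have h1 : (y₀ : G) ∈ Subgroup.zpowers (y : G) := by rw [hz]; exact hy₀
  have h2 := (isOfFinOrder_of_finite (y : G)).mem_powers_iff_mem_zpowers.mpr h1
  obtain ⟨k, hk⟩ := (Submonoid.mem_powers_iff _ _).mp h2
  have hk' : y ^ k = y₀ := Subtype.ext (by rw [Subgroup.coe_pow]; exact hk)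
  have h1ne : (ξ : 𝐂 → ℂ) 1 ≠ 0 := IsIrrCharacter.apply_one_ne_zero ξ.2
  have hpow : ∀ k : ℕ, (ξ : 𝐂 → ℂ) (y ^ k) = (ξ : 𝐂 → ℂ) 1 := by
    intro k
    induction k with
    | zero => rw [pow_zero]
    | succ k ih =>
      rw [pow_succ', apply_mul_of_mem_P P ξ hy, ih, h]
      field_simp
  apply hy₀'
  rw [← hk', hpow]

/-- the stabilizer in the normalizer of a member of the block other than `θ` is the centralizer -/
theorem stab_le_C {ξ : Cfsg.IrrCharacter 𝐂} (hξ : ξ ∈ b) (hne : ξ ≠ θ) (n : 𝐍)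
    (h : act P n ξ = ξ) : (n : G) ∈ 𝐂 := by
  rw [Subgroup.mem_centralizer_iff]
  intro y hy
  have hyC : y ∈ 𝐂 := P_le_C P hP hy
  have h1 : (ξ : 𝐂 → ℂ) ((cj P n).symm ⟨y, hyC⟩) = (ξ : 𝐂 → ℂ) ⟨y, hyC⟩ := by
    have := congrFun (congrArg Subtype.val h) ⟨y, hyC⟩
    rwa [act_apply] at this
  have hinv : (((⟨y, hyC⟩ : 𝐂)⁻¹ : 𝐂) : G) ∈ (P : Subgroup G) := by
    rw [Subgroup.coe_inv]
    exact inv_mem hy
  have hw : (ξ : 𝐂 → ℂ) ((⟨y, hyC⟩ : 𝐂)⁻¹ * (cj P n).symm ⟨y, hyC⟩) = (ξ : 𝐂 → ℂ) 1 := by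
    rw [apply_mul_of_mem_P P ξ hinv, h1, ← apply_mul_of_mem_P P ξ hinv, inv_mul_cancel]
  have hwP : ((((⟨y, hyC⟩ : 𝐂)⁻¹ * (cj P n).symm ⟨y, hyC⟩ : 𝐂)) : G) ∈ (P : Subgroup G) := by
    rw [Subgroup.coe_mul, cj_symm_apply_coe]
    exact mul_mem hinv (conj_mem_P' P n.2 hy)
  have h2 := eq_one_of_apply_eq P hP hM hb hθ hθP hξ hne hwP hw
  have h3 := congrArg Subtype.val h2
  rw [Subgroup.coe_mul, cj_symm_apply_coe, Subgroup.coe_inv, Subgroup.coe_one] at h3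
  have h4 : (n : G)⁻¹ * y * (n : G) = y := by
    have : (n : G)⁻¹ * y * (n : G) = y * (y⁻¹ * ((n : G)⁻¹ * y * (n : G))) := by group
    rw [this, h3, mul_one]
  calc y * (n : G) = (n : G) * ((n : G)⁻¹ * y * (n : G)) := by group
    _ = (n : G) * y := by rw [h4]

/-- the sum over `P` of a member of the block other than `θ` vanishes -/
theorem sum_P_eq_zero [Fintype 𝐃] {ξ : Cfsg.IrrCharacter 𝐂} (hξ : ξ ∈ b) (hne : ξ ≠ θ) :
    ∑ x : 𝐃, (ξ : 𝐂 → ℂ) (x : 𝐂) = 0 := by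
  obtain ⟨y₀, hy₀, hy₀'⟩ := exists_ne_of_ne P hP hM hb hθ hθP hξ hne
  have h1ne : (ξ : 𝐂 → ℂ) 1 ≠ 0 := IsIrrCharacter.apply_one_ne_zero ξ.2
  have h1 : ∑ x : 𝐃, (ξ : 𝐂 → ℂ) (y₀ * (x : 𝐂)) = ∑ x : 𝐃, (ξ : 𝐂 → ℂ) (x : 𝐂) :=
    Fintype.sum_equiv (Equiv.mulLeft (⟨y₀, (mem_PD_iff P y₀).mpr hy₀⟩ : 𝐃)) _ _ (fun x => rfl)
  have h2 : ∑ x : 𝐃, (ξ : 𝐂 → ℂ) (y₀ * (x : 𝐂))
      = (ξ : 𝐂 → ℂ) y₀ / (ξ : 𝐂 → ℂ) 1 * ∑ x : 𝐃, (ξ : 𝐂 → ℂ) (x : 𝐂) := by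
    rw [Finset.mul_sum]
    apply Finset.sum_congr rfl
    intro x _
    rw [apply_mul_of_mem_P P ξ hy₀]
    field_simp
  rw [h2] at h1
  have h3 : ((ξ : 𝐂 → ℂ) y₀ / (ξ : 𝐂 → ℂ) 1 - 1) * ∑ x : 𝐃, (ξ : 𝐂 → ℂ) (x : 𝐂) = 0 := by
    rw [sub_mul, h1, one_mul, sub_self]
  rcases mul_eq_zero.mp h3 with h4 | h4
  · exfalso
    apply hy₀'
    have : (ξ : 𝐂 → ℂ) y₀ / (ξ : 𝐂 → ℂ) 1 = 1 := by linear_combination h4
    rw [div_eq_one_iff_eq h1ne] at this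
    exact this
  · exact h4

end order

end Cfsg.Agent.Lib.Helper6.PB
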