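import Mathlib
import Cfsg.Agent.Lib.Helper6.PB3
import Cfsg.Agent.Lib.Helper6.IndFunMore
import Cfsg.Agent.Lib.Helper6.CharOps
import Cfsg.Agent.Lib.Helper6.GenChar

/-!
# The generalized characters attached to a block of the centralizer
-/

set_option autoImplicit false
set_option linter.unusedSectionVars false

namespace Cfsg.Agent.Lib.Helper6.PB

open Cfsg.Agent.Lib.Helper6
open scoped ComplexConjugate

variable {G : Type*} [Group G] [Fintype G] [DecidableEq G] {p : ℕ} [hp : Fact p.Prime]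
variable (P : Sylow p G)
variable [Fintype ↥(Subgroup.centralizer ((P : Subgroup G) : Set G))]
variable [Fintype ↥(Subgroup.normalizer ((P : Subgroup G) : Set G))]
variable {M : Ideal Cfsg.AlgInt}

local notation "𝐂" => Subgroup.centralizer ((P : Subgroup G) : Set G)
local notation "𝐍" => Subgroup.normalizer ((P : Subgroup G) : Set G)

/-- a block of the centralizer together with its canonical character -/
structure Loc (M : Ideal Cfsg.AlgInt) (P : Sylow p G) where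
  b : Set (Cfsg.IrrCharacter ↥(Subgroup.centralizer ((P : Subgroup G) : Set G)))
  θ : Cfsg.IrrCharacter ↥(Subgroup.centralizer ((P : Subgroup G) : Set G))
  hb : Cfsg.IsPBlock M b
  hθ : θ ∈ b
  hθP : ∀ x : ↥(Subgroup.centralizer ((P : Subgroup G) : Set G)), (x : G) ∈ (P : Subgroup G) →
    (θ : ↥(Subgroup.centralizer ((P : Subgroup G) : Set G)) → ℂ) x
      = (θ : ↥(Subgroup.centralizer ((P : Subgroup G) : Set G)) → ℂ) 1

/-- multiplicity of a character of the centralizer in the restriction of a character of `G` -/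
noncomputable def mlt (χ : Cfsg.IrrCharacter G) (ξ : Cfsg.IrrCharacter 𝐂) : ℕ :=
  (IsCharacter.classInner_nat (IsCharacter.restrict 𝐂 (IsIrrCharacter.isCharacter χ.2))
    (IsIrrCharacter.isCharacter ξ.2)).choose

theorem mlt_spec (χ : Cfsg.IrrCharacter G) (ξ : Cfsg.IrrCharacter 𝐂) :
    Cfsg.classInner (fun c : 𝐂 => (χ : G → ℂ) c) (ξ : 𝐂 → ℂ) = (mlt P χ ξ : ℂ) :=
  (IsCharacter.classInner_nat (IsCharacter.restrict 𝐂 (IsIrrCharacter.isCharacter χ.2))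
    (IsIrrCharacter.isCharacter ξ.2)).choose_spec

theorem mlt_spec' (χ : Cfsg.IrrCharacter G) (ξ : Cfsg.IrrCharacter 𝐂) :
    Cfsg.classInner (ξ : 𝐂 → ℂ) (fun c : 𝐂 => (χ : G → ℂ) c) = (mlt P χ ξ : ℂ) := by
  rw [← classInner_conj_symm, mlt_spec, Complex.conj_natCast]

theorem mlt_act (χ : Cfsg.IrrCharacter G) (n : 𝐍) (ξ : Cfsg.IrrCharacter 𝐂) :
    mlt P χ (act P n ξ) = mlt P χ ξ := by
  have h1 := mlt_spec P χ (act P n ξ)
  rw [classInner_restrict_act P n (IsIrrCharacter.isClassFunction χ.2), mlt_spec] at h1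
  exact_mod_cast h1.symm

/-- the integer coefficients -/
noncomputable def aco (θ ξ : Cfsg.IrrCharacter 𝐂) (χ : Cfsg.IrrCharacter G) : ℤ :=
  (mlt P χ θ : ℤ) - (mlt P χ ξ : ℤ)

/-- the generalized character `(θ - ξ)^G` -/
noncomputable def bet (θ ξ : Cfsg.IrrCharacter 𝐂) : G → ℂ :=
  Cfsg.indFun 𝐂 ((θ : 𝐂 → ℂ) - (ξ : 𝐂 → ℂ))

theorem bet_isClassFunction (θ ξ : Cfsg.IrrCharacter 𝐂) : Cfsg.IsClassFunction G (bet P θ ξ) :=
  indFun_isClassFunction _ _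

theorem classInner_bet (θ ξ : Cfsg.IrrCharacter 𝐂) (χ : Cfsg.IrrCharacter G) :
    Cfsg.classInner (bet P θ ξ) (χ : G → ℂ) = (aco P θ ξ χ : ℂ) := by
  unfold bet
  rw [IndFunMore.classInner_indFun 𝐂 _ _ (IsIrrCharacter.isClassFunction χ.2)]
  have h1 : (Nat.card 𝐂 : ℂ)⁻¹ * ∑ h : 𝐂, ((θ : 𝐂 → ℂ) - (ξ : 𝐂 → ℂ)) h * conj ((χ : G → ℂ) h)
      = Cfsg.classInner ((θ : 𝐂 → ℂ) - (ξ : 𝐂 → ℂ)) (fun c : 𝐂 => (χ : G → ℂ) c) := rfl
  rw [h1, classInner_sub_left, mlt_spec', mlt_spec']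
  unfold aco
  push_cast
  rfl

theorem bet_eq_sum [Fintype (Cfsg.IrrCharacter G)] (θ ξ : Cfsg.IrrCharacter 𝐂) :
    bet P θ ξ = ∑ χ : Cfsg.IrrCharacter G, (aco P θ ξ χ : ℂ) • (χ : G → ℂ) := by
  rw [classFunction_eq_sum (bet P θ ξ) (bet_isClassFunction P θ ξ)]
  apply Finset.sum_congr rfl
  intro χ _
  rw [classInner_bet]

theorem sum_aco_mul_aco [Fintype (Cfsg.IrrCharacter G)] (θ ξ ξ' : Cfsg.IrrCharacter 𝐂) :
    ((∑ χ : Cfsg.IrrCharacter G, aco P θ ξ χ * aco P θ ξ' χ : ℤ) : ℂ)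
      = Cfsg.classInner (bet P θ ξ) (bet P θ ξ') := by
  rw [bet_eq_sum, bet_eq_sum, classInner_sum_int]

section order

variable (hP : Nat.card P = p)
include hP

/-- the induced function at a `p`-singular element of the centralizer -/
theorem indFun_of_pSingular (f : 𝐂 → ℂ) (c : 𝐂) (hc : p ∣ orderOf (c : G)) :
    Cfsg.indFun 𝐂 f (c : G) = (Nat.card 𝐂 : ℂ)⁻¹ * ∑ n : 𝐍, cjF P n f c := by
  unfold Cfsg.indFun
  congr 1
  have h1 : ∀ x : G, Cfsg.extendByZero 𝐂 f (x⁻¹ * (c : G) * x)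
      = Cfsg.extendByZero 𝐍 (fun n : 𝐍 => cjF P n f c) x := by
    intro x
    by_cases hx : x ∈ 𝐍
    · rw [extendByZero_of_mem 𝐍 _ hx, extendByZero_of_mem 𝐂 f (conj_mem_C' P hx c.2)]
      rfl
    · rw [extendByZero_of_not_mem 𝐍 _ hx]
      apply extendByZero_of_not_mem
      intro hmem
      exact hx (mem_N_of_conj_mem_C P hP c.2 hc hmem)
  rw [Finset.sum_congr rfl (fun x _ => h1 x), sum_extendByZero]

end order

namespace Loc

variable {P}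
variable (L : Loc M P)

/-- the members of the block other than `θ` -/
def star : Set (Cfsg.IrrCharacter 𝐂) := {ξ | ξ ∈ L.b ∧ ξ ≠ L.θ}

section order

variable (hP : Nat.card P = p) (hM : Cfsg.IsPModular p M)
include hP hM

theorem b_eq : L.b = Cfsg.blockOf M (L.θ : 𝐂 → ℂ) := by
  obtain ⟨χ₀, h⟩ := L.hb
  have h1 : L.θ ∈ Cfsg.blockOf M (χ₀ : 𝐂 → ℂ) := by rw [← h]; exact L.hθ
  rw [h]
  exact blockOf_eq_of_mem hM h1

theorem theta_ne_act {ξ : Cfsg.IrrCharacter 𝐂} (hξ : ξ ∈ L.star) (n : 𝐍) : L.θ ≠ act P n ξ := by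
  intro h
  have h1 : ξ = act P n⁻¹ L.θ := by rw [h, act_inv_act]
  apply hξ.2
  apply theta_unique P hP hM L.hb hξ.1 L.hθ _ L.hθP
  rw [h1]
  exact act_const_P P n⁻¹ L.hθP

theorem ne_act_theta {ξ : Cfsg.IrrCharacter 𝐂} (hξ : ξ ∈ L.star) (n : 𝐍) : ξ ≠ act P n L.θ := by
  intro h
  apply hξ.2
  apply theta_unique P hP hM L.hb hξ.1 L.hθ _ L.hθP
  rw [h]
  exact act_const_P P n L.hθP

theorem act_mem_iff {ξ : Cfsg.IrrCharacter 𝐂} (hξ : ξ ∈ L.b) (n : 𝐍) :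
    act P n ξ ∈ L.b ↔ act P n L.θ = L.θ := by
  have hbeq := L.b_eq hP hM
  have h0 : Cfsg.SameBlock M (L.θ : 𝐂 → ℂ) (ξ : 𝐂 → ℂ) := by
    rw [hbeq] at hξ; exact hξ
  have h1 : Cfsg.SameBlock M ((act P n L.θ : Cfsg.IrrCharacter 𝐂) : 𝐂 → ℂ)
      ((act P n ξ : Cfsg.IrrCharacter 𝐂) : 𝐂 → ℂ) := (sameBlock_act_iff P n L.θ ξ).mpr h0
  constructor
  · intro h
    rw [hbeq] at h
    have h2 : Cfsg.SameBlock M (L.θ : 𝐂 → ℂ) ((act P n L.θ : Cfsg.IrrCharacter 𝐂) : 𝐂 → ℂ) :=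
      SameBlock.trans' hM h (SameBlock.symm' h1)
    have h3 : act P n L.θ ∈ L.b := by rw [hbeq]; exact h2
    exact theta_unique P hP hM L.hb h3 L.hθ (act_const_P P n L.hθP) L.hθP
  · intro h
    rw [h] at h1
    rw [hbeq]
    exact h1

theorem act_mem_star_iff {ξ : Cfsg.IrrCharacter 𝐂} (hξ : ξ ∈ L.star) (n : 𝐍) :
    act P n ξ ∈ L.star ↔ act P n L.θ = L.θ := by
  constructor
  · intro h
    exact (L.act_mem_iff hP hM hξ.1 n).mp h.1
  · intro h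
    exact ⟨(L.act_mem_iff hP hM hξ.1 n).mpr h, (L.theta_ne_act hP hM hξ n).symm⟩

end order

/-- the stabilizer of `θ` in the normalizer -/
def stabN : Subgroup 𝐍 where
  carrier := {n | act P n L.θ = L.θ}
  mul_mem' := by
    intro a b ha hb
    change act P (a * b) L.θ = L.θ
    rw [act_mul, hb, ha]
  one_mem' := act_one P L.θ
  inv_mem' := by
    intro a ha
    change act P a⁻¹ L.θ = L.θ
    have h1 : act P a L.θ = L.θ := ha
    conv_lhs => rw [← h1]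
    exact act_inv_act P a L.θ

theorem mem_stabN (n : 𝐍) : n ∈ L.stabN ↔ act P n L.θ = L.θ := Iff.rfl

/-- the stabilizer of `θ`, as a subgroup of `G` -/
def T : Subgroup G := (L.stabN).map (Subgroup.subtype _)

theorem mem_T_iff (g : G) : g ∈ L.T ↔ ∃ h : g ∈ 𝐍, act P ⟨g, h⟩ L.θ = L.θ := by
  constructor
  · rintro ⟨n, hn, rfl⟩
    exact ⟨n.2, hn⟩
  · rintro ⟨h, hn⟩
    exact ⟨⟨g, h⟩, hn, rfl⟩

theorem T_le_N : L.T ≤ 𝐍 := by
  intro g hg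
  obtain ⟨h, -⟩ := (L.mem_T_iff g).mp hg
  exact h

theorem C_le_T : 𝐂 ≤ L.T := by
  intro g hg
  rw [mem_T_iff]
  exact ⟨C_le_N P hg, act_of_mem_C P _ hg L.θ⟩

/-- the inertial index -/
noncomputable def e : ℕ := (𝐂).relIndex L.T

theorem card_T : Nat.card L.T = L.e * Nat.card 𝐂 := by
  have h1 := Subgroup.card_mul_index ((𝐂).subgroupOf L.T)
  have h2 : Nat.card ((𝐂).subgroupOf L.T) = Nat.card 𝐂 :=
    Nat.card_congr (Subgroup.subgroupOfEquivOfLe L.C_le_T).toEquiv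
  rw [h2] at h1
  rw [← h1, mul_comm]
  rfl

theorem card_stabN : Nat.card L.stabN = L.e * Nat.card 𝐂 := by
  rw [← L.card_T]
  exact Nat.card_congr (Subgroup.equivMapOfInjective L.stabN _ (Subgroup.subtype_injective _)).toEquiv

theorem e_pos : 0 < L.e := by
  have h1 := L.card_T
  have h2 : 0 < Nat.card L.T := Nat.card_pos
  rw [h1] at h2
  exact Nat.pos_of_mul_pos_right h2

section gram

theorem sum_ite_eq_card {α : Type*} [Fintype α] (q : α → Prop) [DecidablePred q] :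
    ∑ a : α, (if q a then (1 : ℂ) else 0) = (Nat.card {a // q a} : ℂ) := by
  rw [Finset.sum_boole, Nat.card_eq_fintype_card, Fintype.card_subtype]

theorem classInner_irr_eq {K : Type*} [Group K] [Fintype K] {χ ψ : Cfsg.IrrCharacter K}
    (h : χ = ψ) : Cfsg.classInner (χ : K → ℂ) (ψ : K → ℂ) = 1 := by
  rw [classInner_irrCharacter, if_pos h]

theorem classInner_irr_ne {K : Type*} [Group K] [Fintype K] {χ ψ : Cfsg.IrrCharacter K}
    (h : χ ≠ ψ) : Cfsg.classInner (χ : K → ℂ) (ψ : K → ℂ) = 0 := by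
  rw [classInner_irrCharacter, if_neg h]

variable (hP : Nat.card P = p) (hM : Cfsg.IsPModular p M)
include hP hM

theorem gamma_pRegular {ξ : Cfsg.IrrCharacter 𝐂} (hξ : ξ ∈ L.b) (c : 𝐂)
    (hc : ¬ p ∣ orderOf (c : G)) : ((L.θ : 𝐂 → ℂ) - (ξ : 𝐂 → ℂ)) c = 0 := by
  rw [Pi.sub_apply, sub_eq_zero]
  symm
  apply eq_theta_of_pRegular P hP hM L.hb L.hθ L.hθP hξ
  rwa [← Subgroup.orderOf_coe]

/-- the generalized characters vanish at the `p`-regular elements -/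
theorem bet_pRegular {ξ : Cfsg.IrrCharacter 𝐂} (hξ : ξ ∈ L.b) (g : G) (hg : ¬ p ∣ orderOf g) :
    bet P L.θ ξ g = 0 := by
  unfold bet Cfsg.indFun
  rw [Finset.sum_eq_zero, mul_zero]
  intro x _
  by_cases hx : x⁻¹ * g * x ∈ 𝐂
  · rw [extendByZero_of_mem 𝐂 _ hx]
    apply L.gamma_pRegular hP hM hξ ⟨_, hx⟩
    have : x⁻¹ * g * x = MulAut.conj x⁻¹ g := by rw [MulAut.conj_apply, inv_inv]
    change ¬ p ∣ orderOf (x⁻¹ * g * x)
    rw [this, MulEquiv.orderOf_eq]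
    exact hg
  · exact extendByZero_of_not_mem 𝐂 _ hx

theorem classInner_bet_bet {ξ : Cfsg.IrrCharacter 𝐂} (hξ : ξ ∈ L.b) (ξ' : Cfsg.IrrCharacter 𝐂) :
    Cfsg.classInner (bet P L.θ ξ) (bet P L.θ ξ')
      = (Nat.card 𝐂 : ℂ)⁻¹ * ∑ n : 𝐍, Cfsg.classInner ((L.θ : 𝐂 → ℂ) - (ξ : 𝐂 → ℂ))
          (cjF P n ((L.θ : 𝐂 → ℂ) - (ξ' : 𝐂 → ℂ))) := by
  have h0 : Cfsg.classInner (bet P L.θ ξ) (bet P L.θ ξ')
      = (Nat.card 𝐂 : ℂ)⁻¹ * ∑ c : 𝐂, ((L.θ : 𝐂 → ℂ) - (ξ : 𝐂 → ℂ)) c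
          * conj (bet P L.θ ξ' (c : G)) := by
    conv_lhs => unfold bet
    rw [IndFunMore.classInner_indFun 𝐂 _ _ (indFun_isClassFunction _ _)]
    rfl
  rw [h0]
  have h1 : ∀ c : 𝐂, ((L.θ : 𝐂 → ℂ) - (ξ : 𝐂 → ℂ)) c * conj (bet P L.θ ξ' (c : G))
      = ((L.θ : 𝐂 → ℂ) - (ξ : 𝐂 → ℂ)) c * conj ((Nat.card 𝐂 : ℂ)⁻¹ *
          ∑ n : 𝐍, cjF P n ((L.θ : 𝐂 → ℂ) - (ξ' : 𝐂 → ℂ)) c) := by
    intro c
    by_cases hc : p ∣ orderOf (c : G)
    · unfold bet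
      rw [indFun_of_pSingular P hP _ c hc]
    · rw [L.gamma_pRegular hP hM hξ c hc, zero_mul, zero_mul]
  rw [Finset.sum_congr rfl (fun c _ => h1 c)]
  congr 1
  unfold Cfsg.classInner
  simp only [map_mul, map_inv₀, Complex.conj_natCast, map_sum, Finset.mul_sum]
  rw [Finset.sum_comm]
  apply Finset.sum_congr rfl
  intro n _
  apply Finset.sum_congr rfl
  intro c _
  ring

theorem classInner_gamma_of_stab {ξ ξ' : Cfsg.IrrCharacter 𝐂} (hξ : ξ ∈ L.star)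
    (hξ' : ξ' ∈ L.star) (n : 𝐍) :
    Cfsg.classInner ((L.θ : 𝐂 → ℂ) - (ξ : 𝐂 → ℂ)) (cjF P n ((L.θ : 𝐂 → ℂ) - (ξ' : 𝐂 → ℂ)))
      = Cfsg.classInner (L.θ : 𝐂 → ℂ) ((act P n L.θ : Cfsg.IrrCharacter 𝐂) : 𝐂 → ℂ)
        + Cfsg.classInner (ξ : 𝐂 → ℂ) ((act P n ξ' : Cfsg.IrrCharacter 𝐂) : 𝐂 → ℂ) := by
  rw [cjF_sub, ← act_coe, ← act_coe, classInner_sub_left, classInner_sub_right,
    classInner_sub_right, classInner_irr_ne (L.theta_ne_act hP hM hξ' n),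
    classInner_irr_ne (L.ne_act_theta hP hM hξ n)]
  ring

open Classical in
theorem classInner_gamma {ξ ξ' : Cfsg.IrrCharacter 𝐂} (hξ : ξ ∈ L.star)
    (hξ' : ξ' ∈ L.star) (n : 𝐍) :
    Cfsg.classInner ((L.θ : 𝐂 → ℂ) - (ξ : 𝐂 → ℂ)) (cjF P n ((L.θ : 𝐂 → ℂ) - (ξ' : 𝐂 → ℂ)))
      = (if act P n L.θ = L.θ then (1 : ℂ) else 0) + (if act P n ξ' = ξ then (1 : ℂ) else 0) := by
  rw [L.classInner_gamma_of_stab hP hM hξ hξ' n, classInner_irrCharacter, classInner_irrCharacter]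
  congr 1
  · by_cases h : act P n L.θ = L.θ
    · rw [if_pos h, if_pos h.symm]
    · rw [if_neg h, if_neg (fun h' => h h'.symm)]
  · by_cases h : act P n ξ' = ξ
    · rw [if_pos h, if_pos h.symm]
    · rw [if_neg h, if_neg (fun h' => h h'.symm)]

omit hP hM in
open Classical in
theorem sum_stab : ∑ n : 𝐍, (if act P n L.θ = L.θ then (1 : ℂ) else 0)
    = (L.e : ℂ) * (Nat.card 𝐂 : ℂ) := by
  rw [sum_ite_eq_card]
  have : Nat.card {n : 𝐍 // act P n L.θ = L.θ} = Nat.card L.stabN := rfl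
  rw [this, L.card_stabN]
  push_cast
  rfl

open Classical in
theorem sum_transporter {ξ ξ' : Cfsg.IrrCharacter 𝐂} (hξ' : ξ' ∈ L.star)
    (h : ∃ n : 𝐍, act P n ξ' = ξ) :
    ∑ n : 𝐍, (if act P n ξ' = ξ then (1 : ℂ) else 0) = (Nat.card 𝐂 : ℂ) := by
  rw [sum_ite_eq_card]
  obtain ⟨n₀, hn₀⟩ := h
  congr 1
  apply Nat.card_congr
  refine ⟨fun n => ⟨((n₀⁻¹ * (n : 𝐍) : 𝐍) : G), ?_⟩,
    fun c => ⟨n₀ * ⟨(c : G), C_le_N P c.2⟩, ?_⟩, ?_, ?_⟩
  · apply stab_le_C P hP hM L.hb L.hθ L.hθP hξ'.1 hξ'.2 (n₀⁻¹ * (n : 𝐍))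
    rw [act_mul, n.2, ← hn₀, act_inv_act]
  · rw [act_mul, act_of_mem_C P ⟨(c : G), C_le_N P c.2⟩ c.2, hn₀]
  · intro n
    apply Subtype.ext
    apply Subtype.ext
    simp
  · intro c
    apply Subtype.ext
    simp

omit hP hM in
open Classical in
theorem sum_transporter_of_not {ξ ξ' : Cfsg.IrrCharacter 𝐂}
    (h : ¬ ∃ n : 𝐍, act P n ξ' = ξ) :
    ∑ n : 𝐍, (if act P n ξ' = ξ then (1 : ℂ) else 0) = 0 := by
  apply Finset.sum_eq_zero
  intro n _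
  rw [if_neg]
  intro hn
  exact h ⟨n, hn⟩

theorem gram_of_rel {ξ ξ' : Cfsg.IrrCharacter 𝐂} (hξ : ξ ∈ L.star) (hξ' : ξ' ∈ L.star)
    (h : ∃ n : 𝐍, act P n ξ' = ξ) :
    Cfsg.classInner (bet P L.θ ξ) (bet P L.θ ξ') = (L.e : ℂ) + 1 := by
  classical
  rw [L.classInner_bet_bet hP hM hξ.1 ξ',
    Finset.sum_congr rfl (fun n _ => L.classInner_gamma hP hM hξ hξ' n),
    Finset.sum_add_distrib, L.sum_stab, L.sum_transporter hP hM hξ' h]
  have hne := card_ne_zero_complex 𝐂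
  field_simp

theorem gram_of_not_rel {ξ ξ' : Cfsg.IrrCharacter 𝐂} (hξ : ξ ∈ L.star) (hξ' : ξ' ∈ L.star)
    (h : ¬ ∃ n : 𝐍, act P n ξ' = ξ) :
    Cfsg.classInner (bet P L.θ ξ) (bet P L.θ ξ') = (L.e : ℂ) := by
  classical
  rw [L.classInner_bet_bet hP hM hξ.1 ξ',
    Finset.sum_congr rfl (fun n _ => L.classInner_gamma hP hM hξ hξ' n),
    Finset.sum_add_distrib, L.sum_stab, sum_transporter_of_not h, add_zero]
  have hne := card_ne_zero_complex 𝐂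
  field_simp

end gram

end Loc

end Cfsg.Agent.Lib.Helper6.PB
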