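import Mathlib
import Cfsg.Prelude.Def_Blocks
import Cfsg.Agent.Lib.Helper6.BlkContrib

set_option autoImplicit false
set_option linter.unusedSectionVars false
open Cfsg

namespace Cfsg.Agent.Lib.Helper6

open scoped ComplexConjugate

section congr

variable {p : ℕ} {M : Ideal Cfsg.AlgInt}

theorem MemLocalIdeal.mul_sub_mul (hM : Cfsg.IsPModular p M) {x y x' y' : ℂ}
    (hx : Cfsg.MemLocalRing M x) (hy' : Cfsg.MemLocalRing M y')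
    (h : Cfsg.MemLocalIdeal M (x - y)) (h' : Cfsg.MemLocalIdeal M (x' - y')) :
    Cfsg.MemLocalIdeal M (x * x' - y * y') := by
  have e : x * x' - y * y' = x * (x' - y') + (x - y) * y' := by ring
  rw [e]
  exact MemLocalIdeal.add hM (MemLocalIdeal.mul_left hM hx h') (MemLocalIdeal.mul_right hM h hy')

theorem MemLocalIdeal.sum_sub_sum (hM : Cfsg.IsPModular p M) {ι : Type*} (s : Finset ι)
    (f g : ι → ℂ) (h : ∀ i ∈ s, Cfsg.MemLocalIdeal M (f i - g i)) :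
    Cfsg.MemLocalIdeal M (∑ i ∈ s, f i - ∑ i ∈ s, g i) := by
  rw [← Finset.sum_sub_distrib]
  exact MemLocalIdeal.sum hM s _ h

theorem MemLocalRing.of_sub (hM : Cfsg.IsPModular p M) {x y : ℂ}
    (hy : Cfsg.MemLocalRing M y) (h : Cfsg.MemLocalIdeal M (x - y)) : Cfsg.MemLocalRing M x := by
  have := MemLocalRing.add hM (MemLocalIdeal.memLocalRing h) hy
  rwa [sub_add_cancel] at this

theorem not_memLocalIdeal_of_sub (hM : Cfsg.IsPModular p M) {x y : ℂ}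
    (hy : ¬ Cfsg.MemLocalIdeal M y) (h : Cfsg.MemLocalIdeal M (x - y)) :
    ¬ Cfsg.MemLocalIdeal M x := by
  intro hx
  apply hy
  have := MemLocalIdeal.sub hM hx h
  rwa [sub_sub_cancel] at this

end congr

section rankone

variable {K : Type*} [Group K] [Fintype K] [DecidableEq K]
variable {p : ℕ} {M : Ideal Cfsg.AlgInt}

/-- the minimal `p`-adic valuation of a degree in `b` -/
noncomputable def minVal (p : ℕ) (b : Set (Cfsg.IrrCharacter K)) : ℕ :=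
  sInf ((fun χ : Cfsg.IrrCharacter K => (Cfsg.charDegree (χ : K → ℂ)).factorization p) '' b)

/-- the degree divided by the minimal power of `p` -/
noncomputable def normDeg (p : ℕ) (b : Set (Cfsg.IrrCharacter K)) (ξ : Cfsg.IrrCharacter K) : ℕ :=
  Cfsg.charDegree (ξ : K → ℂ) / p ^ minVal p b

theorem minVal_le (b : Set (Cfsg.IrrCharacter K)) (ξ : Cfsg.IrrCharacter K) (hξ : ξ ∈ b) :
    minVal p b ≤ (Cfsg.charDegree (ξ : K → ℂ)).factorization p :=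
  Nat.sInf_le ⟨ξ, hξ, rfl⟩

theorem normDeg_mul (b : Set (Cfsg.IrrCharacter K)) (ξ : Cfsg.IrrCharacter K) (hξ : ξ ∈ b) :
    p ^ minVal p b * normDeg p b ξ = Cfsg.charDegree (ξ : K → ℂ) := by
  unfold normDeg
  apply Nat.mul_div_cancel'
  exact (pow_dvd_pow p (minVal_le b ξ hξ)).trans (Nat.ordProj_dvd _ p)

theorem normDeg_ne_zero (b : Set (Cfsg.IrrCharacter K)) (ξ : Cfsg.IrrCharacter K) (hξ : ξ ∈ b) :
    normDeg p b ξ ≠ 0 := by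
  intro h
  have := normDeg_mul (p := p) b ξ hξ
  rw [h, mul_zero] at this
  exact charDegree_ne_zero ξ this.symm

theorem not_dvd_normDeg (hp : p.Prime) (b : Set (Cfsg.IrrCharacter K)) (ξ : Cfsg.IrrCharacter K)
    (hξ : ξ ∈ b) (h0 : Cfsg.blockHeight p b (ξ : K → ℂ) = 0) : ¬ p ∣ normDeg p b ξ := by
  intro hd
  have h1 := factorization_eq_sInf_add_height (p := p) b ξ hξ
  rw [h0, add_zero] at h1
  have h2 : p ^ (minVal p b + 1) ∣ Cfsg.charDegree (ξ : K → ℂ) := by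
    rw [← normDeg_mul b ξ hξ, pow_succ]
    exact Nat.mul_dvd_mul_left _ hd
  have h3 := (Nat.Prime.pow_dvd_iff_le_factorization hp (charDegree_ne_zero ξ)).mp h2
  unfold minVal at h3
  omega

/-- the normalised contribution `p ^ d [ξ°, ξ'°]` -/
noncomputable def mH (p : ℕ) (b : Set (Cfsg.IrrCharacter K)) (ξ ξ' : Cfsg.IrrCharacter K) : ℤ :=
  cInt p (ξ : K → ℂ) (ξ' : K → ℂ) / (p : ℤ) ^ minVal p b

theorem mH_mul (hM : Cfsg.IsPModular p M) [Fact p.Prime] (b : Set (Cfsg.IrrCharacter K))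
    (ξ ξ' : Cfsg.IrrCharacter K) (hξ' : ξ' ∈ b) :
    (p : ℤ) ^ minVal p b * mH p b ξ ξ' = cInt p (ξ : K → ℂ) (ξ' : K → ℂ) := by
  unfold mH
  apply Int.mul_ediv_cancel'
  exact (pow_dvd_pow (p : ℤ) (minVal_le b ξ' hξ')).trans (pow_dvd_cInt hM ξ ξ')

theorem mH_symm (hM : Cfsg.IsPModular p M) [Fact p.Prime] (b : Set (Cfsg.IrrCharacter K))
    (ξ ξ' : Cfsg.IrrCharacter K) : mH p b ξ ξ' = mH p b ξ' ξ := by
  unfold mH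
  rw [cInt_symm hM ξ ξ']

theorem mH_cross (hM : Cfsg.IsPModular p M) [Fact p.Prime] (ξ₀ ξ ξ' ξ'' : Cfsg.IrrCharacter K)
    (hξ' : ξ' ∈ Cfsg.blockOf M (ξ₀ : K → ℂ)) (hξ'' : ξ'' ∈ Cfsg.blockOf M (ξ₀ : K → ℂ)) :
    Cfsg.MemLocalIdeal M
      ((mH p (Cfsg.blockOf M (ξ₀ : K → ℂ)) ξ ξ' : ℂ)
          * (normDeg p (Cfsg.blockOf M (ξ₀ : K → ℂ)) ξ'' : ℂ)
        - (mH p (Cfsg.blockOf M (ξ₀ : K → ℂ)) ξ ξ'' : ℂ)
          * (normDeg p (Cfsg.blockOf M (ξ₀ : K → ℂ)) ξ' : ℂ)) := by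
  have hp : p.Prime := hM.1
  obtain ⟨b, hb⟩ : ∃ b : Set (Cfsg.IrrCharacter K), b = Cfsg.blockOf M (ξ₀ : K → ℂ) := ⟨_, rfl⟩
  rw [← hb] at hξ' hξ'' ⊢
  have hsb : Cfsg.SameBlock M (ξ' : K → ℂ) (ξ'' : K → ℂ) := by
    rw [hb] at hξ' hξ''
    exact SameBlock.trans' hM (SameBlock.symm' hξ') hξ''
  have h1 := cInt_div_sub hM ξ ξ' ξ'' hsb
  have h2 := MemLocalIdeal.mul_right hM h1
    (MemLocalRing.mul hM (memLocalRing_natCast hM (normDeg p b ξ'))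
      (memLocalRing_natCast hM (normDeg p b ξ'')))
  have hq0 : ((p : ℂ) ^ minVal p b) ≠ 0 := pow_ne_zero _ (by exact_mod_cast hp.ne_zero)
  have hn' : (normDeg p b ξ' : ℂ) ≠ 0 := by exact_mod_cast normDeg_ne_zero b ξ' hξ'
  have hn'' : (normDeg p b ξ'' : ℂ) ≠ 0 := by exact_mod_cast normDeg_ne_zero b ξ'' hξ''
  have e1 : (cInt p (ξ : K → ℂ) (ξ' : K → ℂ) : ℂ) = (p : ℂ) ^ minVal p b * (mH p b ξ ξ' : ℂ) := by
    have := mH_mul hM b ξ ξ' hξ'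
    exact_mod_cast congrArg (fun t : ℤ => (t : ℂ)) this.symm
  have e2 : (cInt p (ξ : K → ℂ) (ξ'' : K → ℂ) : ℂ)
      = (p : ℂ) ^ minVal p b * (mH p b ξ ξ'' : ℂ) := by
    have := mH_mul hM b ξ ξ'' hξ''
    exact_mod_cast congrArg (fun t : ℤ => (t : ℂ)) this.symm
  have e3 : (Cfsg.charDegree (ξ' : K → ℂ) : ℂ) = (p : ℂ) ^ minVal p b * (normDeg p b ξ' : ℂ) := by
    have := normDeg_mul (p := p) b ξ' hξ'
    exact_mod_cast congrArg (fun t : ℕ => (t : ℂ)) this.symm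
  have e4 : (Cfsg.charDegree (ξ'' : K → ℂ) : ℂ)
      = (p : ℂ) ^ minVal p b * (normDeg p b ξ'' : ℂ) := by
    have := normDeg_mul (p := p) b ξ'' hξ''
    exact_mod_cast congrArg (fun t : ℕ => (t : ℂ)) this.symm
  rw [e1, e2, e3, e4] at h2
  have e5 : ((p : ℂ) ^ minVal p b * (mH p b ξ ξ' : ℂ) / ((p : ℂ) ^ minVal p b * (normDeg p b ξ' : ℂ))
      - (p : ℂ) ^ minVal p b * (mH p b ξ ξ'' : ℂ) / ((p : ℂ) ^ minVal p b * (normDeg p b ξ'' : ℂ)))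
      * ((normDeg p b ξ' : ℂ) * (normDeg p b ξ'' : ℂ))
      = (mH p b ξ ξ' : ℂ) * (normDeg p b ξ'' : ℂ) - (mH p b ξ ξ'' : ℂ) * (normDeg p b ξ' : ℂ) := by
    field_simp
  rw [e5] at h2
  exact h2

/-- the unit `κ` -/
noncomputable def kappa (p : ℕ) (b : Set (Cfsg.IrrCharacter K)) (ξ₁ : Cfsg.IrrCharacter K) : ℂ :=
  (mH p b ξ₁ ξ₁ : ℂ) / (normDeg p b ξ₁ : ℂ) ^ 2

theorem kappa_unit (hM : Cfsg.IsPModular p M) [Fact p.Prime] (ξ₀ ξ₁ : Cfsg.IrrCharacter K)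
    (hξ₁ : ξ₁ ∈ Cfsg.blockOf M (ξ₀ : K → ℂ))
    (h0 : Cfsg.blockHeight p (Cfsg.blockOf M (ξ₀ : K → ℂ)) (ξ₁ : K → ℂ) = 0) :
    Cfsg.MemLocalRing M (kappa p (Cfsg.blockOf M (ξ₀ : K → ℂ)) ξ₁) ∧
    ¬ Cfsg.MemLocalIdeal M (kappa p (Cfsg.blockOf M (ξ₀ : K → ℂ)) ξ₁) := by
  have hp : p.Prime := hM.1
  obtain ⟨b, hb⟩ : ∃ b : Set (Cfsg.IrrCharacter K), b = Cfsg.blockOf M (ξ₀ : K → ℂ) := ⟨_, rfl⟩
  have hnd := not_dvd_normDeg hp (Cfsg.blockOf M (ξ₀ : K → ℂ)) ξ₁ hξ₁ h0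
  have hinvR : Cfsg.MemLocalRing M ((normDeg p (Cfsg.blockOf M (ξ₀ : K → ℂ)) ξ₁ : ℂ)⁻¹) :=
    memLocalRing_inv_natCast hM hnd
  have hinvN : ¬ Cfsg.MemLocalIdeal M ((normDeg p (Cfsg.blockOf M (ξ₀ : K → ℂ)) ξ₁ : ℂ)⁻¹) :=
    not_memLocalIdeal_inv hM (memLocalRing_natCast hM _)
      (fun h => hnd ((memLocalIdeal_natCast_iff hM _).mp h))
  have hmN : ¬ Cfsg.MemLocalIdeal M ((mH p (Cfsg.blockOf M (ξ₀ : K → ℂ)) ξ₁ ξ₁ : ℤ) : ℂ) := by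
    intro h
    rw [memLocalIdeal_intCast_iff hM] at h
    have h1 := not_pow_succ_dvd_cInt hM ξ₀ ξ₁ ξ₁ hξ₁ hξ₁ h0
    apply h1
    have h2 := factorization_eq_sInf_add_height (p := p) (Cfsg.blockOf M (ξ₀ : K → ℂ)) ξ₁ hξ₁
    rw [h0, add_zero] at h2
    rw [h2, ← mH_mul hM (Cfsg.blockOf M (ξ₀ : K → ℂ)) ξ₁ ξ₁ hξ₁, pow_succ]
    exact mul_dvd_mul_left _ h
  have e : kappa p (Cfsg.blockOf M (ξ₀ : K → ℂ)) ξ₁
      = (mH p (Cfsg.blockOf M (ξ₀ : K → ℂ)) ξ₁ ξ₁ : ℂ)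
        * ((normDeg p (Cfsg.blockOf M (ξ₀ : K → ℂ)) ξ₁ : ℂ)⁻¹
          * (normDeg p (Cfsg.blockOf M (ξ₀ : K → ℂ)) ξ₁ : ℂ)⁻¹) := by
    unfold kappa
    rw [div_eq_mul_inv, pow_two, mul_inv]
  rw [e]
  constructor
  · exact MemLocalRing.mul hM (memLocalRing_intCast hM _) (MemLocalRing.mul hM hinvR hinvR)
  · exact not_memLocalIdeal_mul hM (memLocalRing_intCast hM _) (MemLocalRing.mul hM hinvR hinvR)
      hmN (not_memLocalIdeal_mul hM hinvR hinvR hinvN hinvN)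

/-- modulo the local ideal the normalised contributions of a block have rank one -/
theorem mH_rank_one (hM : Cfsg.IsPModular p M) [Fact p.Prime] (ξ₀ ξ₁ ξ ξ' : Cfsg.IrrCharacter K)
    (hξ₁ : ξ₁ ∈ Cfsg.blockOf M (ξ₀ : K → ℂ)) (hξ : ξ ∈ Cfsg.blockOf M (ξ₀ : K → ℂ))
    (hξ' : ξ' ∈ Cfsg.blockOf M (ξ₀ : K → ℂ))
    (h0 : Cfsg.blockHeight p (Cfsg.blockOf M (ξ₀ : K → ℂ)) (ξ₁ : K → ℂ) = 0) :
    Cfsg.MemLocalIdeal M ((mH p (Cfsg.blockOf M (ξ₀ : K → ℂ)) ξ ξ' : ℂ)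
      - kappa p (Cfsg.blockOf M (ξ₀ : K → ℂ)) ξ₁
        * ((normDeg p (Cfsg.blockOf M (ξ₀ : K → ℂ)) ξ : ℂ)
          * (normDeg p (Cfsg.blockOf M (ξ₀ : K → ℂ)) ξ' : ℂ))) := by
  have hp : p.Prime := hM.1
  have hA1 := mH_cross hM ξ₀ ξ ξ' ξ₁ hξ' hξ₁
  have hA2 := mH_cross hM ξ₀ ξ₁ ξ ξ₁ hξ hξ₁
  obtain ⟨b, hb⟩ : ∃ b : Set (Cfsg.IrrCharacter K), b = Cfsg.blockOf M (ξ₀ : K → ℂ) := ⟨_, rfl⟩
  have hnd := not_dvd_normDeg hp (Cfsg.blockOf M (ξ₀ : K → ℂ)) ξ₁ hξ₁ h0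
  have hinvR : Cfsg.MemLocalRing M ((normDeg p (Cfsg.blockOf M (ξ₀ : K → ℂ)) ξ₁ : ℂ)⁻¹) :=
    memLocalRing_inv_natCast hM hnd
  rw [← hb] at hA1 hA2 hinvR hξ₁ ⊢
  have hn1 : (normDeg p b ξ₁ : ℂ) ≠ 0 := by exact_mod_cast normDeg_ne_zero b ξ₁ hξ₁
  have hsym : mH p b ξ ξ₁ = mH p b ξ₁ ξ := mH_symm hM b ξ ξ₁
  have hB1 := MemLocalIdeal.mul_left hM hinvR hA1
  have hB2 := MemLocalIdeal.mul_left hM
    (MemLocalRing.mul hM (MemLocalRing.mul hM hinvR hinvR) (memLocalRing_natCast hM (normDeg p b ξ')))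
    hA2
  have hB := MemLocalIdeal.add hM hB1 hB2
  have e : (normDeg p b ξ₁ : ℂ)⁻¹ * ((mH p b ξ ξ' : ℂ) * (normDeg p b ξ₁ : ℂ)
        - (mH p b ξ ξ₁ : ℂ) * (normDeg p b ξ' : ℂ))
      + (normDeg p b ξ₁ : ℂ)⁻¹ * (normDeg p b ξ₁ : ℂ)⁻¹ * (normDeg p b ξ' : ℂ)
        * ((mH p b ξ₁ ξ : ℂ) * (normDeg p b ξ₁ : ℂ) - (mH p b ξ₁ ξ₁ : ℂ) * (normDeg p b ξ : ℂ))
      = (mH p b ξ ξ' : ℂ) - kappa p b ξ₁ * ((normDeg p b ξ : ℂ) * (normDeg p b ξ' : ℂ)) := by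
    unfold kappa
    rw [hsym]
    field_simp
    ring
  rw [e] at hB
  exact hB

/-- the diagonal normalised contribution of a character of height zero is prime to `p` -/
theorem not_dvd_mH_self (hM : Cfsg.IsPModular p M) [Fact p.Prime] (ξ₀ ξ₁ : Cfsg.IrrCharacter K)
    (hξ₁ : ξ₁ ∈ Cfsg.blockOf M (ξ₀ : K → ℂ))
    (h0 : Cfsg.blockHeight p (Cfsg.blockOf M (ξ₀ : K → ℂ)) (ξ₁ : K → ℂ) = 0) :
    ¬ (p : ℤ) ∣ mH p (Cfsg.blockOf M (ξ₀ : K → ℂ)) ξ₁ ξ₁ := by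
  intro h
  have h1 := not_pow_succ_dvd_cInt hM ξ₀ ξ₁ ξ₁ hξ₁ hξ₁ h0
  apply h1
  have h2 := factorization_eq_sInf_add_height (p := p) (Cfsg.blockOf M (ξ₀ : K → ℂ)) ξ₁ hξ₁
  rw [h0, add_zero] at h2
  rw [h2, ← mH_mul hM (Cfsg.blockOf M (ξ₀ : K → ℂ)) ξ₁ ξ₁ hξ₁, pow_succ]
  exact mul_dvd_mul_left _ h

end rankone

end Cfsg.Agent.Lib.Helper6
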