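import Mathlib
import Cfsg.Prelude.Def_Blocks
import Cfsg.Agent.Lib.Helper6.BlkDefConj
import Cfsg.Agent.Lib.Helper6.BlkRigid
import Cfsg.Agent.Lib.Helper6.Ito
import Cfsg.Agent.Lib.Helper6.SylowMap

set_option autoImplicit false
set_option linter.unusedSectionVars false
open Cfsg

namespace Cfsg.Agent.Lib.Helper6

open scoped ComplexConjugate

section

variable {G : Type*} [Group G] [Fintype G] [DecidableEq G]
variable {p : ℕ} {M : Ideal Cfsg.AlgInt}

/-- a character value at `u * v` is congruent modulo the ideal to its value at `v`, when `u`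
is a `p`-element commuting with `v` -/
theorem IsCharacter.apply_mul_sub_memLocalIdeal (hM : Cfsg.IsPModular p M) {χ : G → ℂ}
    (hχ : Cfsg.IsCharacter G χ) {u v : G} (huv : Commute u v) {k : ℕ} (hu : u ^ (p ^ k) = 1) :
    Cfsg.MemLocalIdeal M (χ (u * v) - χ v) := by
  classical
  have hcomm : ∀ x ∈ ({u, v} : Set G), ∀ y ∈ ({u, v} : Set G), x * y = y * x := by
    intro x hx y hy
    rcases hx with rfl | rfl <;> rcases hy with rfl | rfl
    · rfl
    · exact huv.eq
    · exact huv.eq.symm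
    · rfl
  obtain ⟨A, hA⟩ : ∃ A : Subgroup G, A = Subgroup.closure ({u, v} : Set G) := ⟨_, rfl⟩
  have hAc : ∀ a b : A, a * b = b * a := by
    subst hA
    have := Subgroup.isMulCommutative_closure hcomm
    intro a b
    exact IsMulCommutative.is_comm.comm a b
  have huA : u ∈ A := by rw [hA]; exact Subgroup.subset_closure (by simp)
  have hvA : v ∈ A := by rw [hA]; exact Subgroup.subset_closure (by simp)
  have : Fintype A := Fintype.ofFinite A
  have : Fintype (Cfsg.IrrCharacter A) := Fintype.ofFinite _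
  obtain ⟨m, hm⟩ := IsCharacter.eq_sum_irr (IsCharacter.restrict A hχ)
  have hval : ∀ a : A, χ a = ∑ lam : Cfsg.IrrCharacter A, (m lam : ℂ) * (lam : A → ℂ) a := by
    intro a
    have := congrFun hm a
    rw [this, Finset.sum_apply]
    apply Finset.sum_congr rfl
    intro lam _
    simp [Pi.smul_apply]
  have h1 := hval (⟨u, huA⟩ * ⟨v, hvA⟩)
  have h2 := hval ⟨v, hvA⟩
  simp only [Subgroup.coe_mul] at h1
  rw [h1, h2, ← Finset.sum_sub_distrib]
  apply MemLocalIdeal.sum hM
  intro lam _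
  have hlin : (lam : A → ℂ) 1 = 1 := by
    obtain ⟨n, ρ, hirr, hρ⟩ := lam.2
    have := hirr
    have hfr := finrank_eq_one_of_comm hAc ρ
    rw [← hρ, Representation.char_one, hfr]
    simp
  have hmul := IsCharacter.mul_of_apply_one_eq_one (IsIrrCharacter.isCharacter lam.2) hlin
  rw [hmul, ← mul_sub]
  apply MemLocalIdeal.mul_left hM (memLocalRing_natCast hM _)
  have hpow : ((lam : A → ℂ) ⟨u, huA⟩) ^ (p ^ k) = 1 := by
    have hmulpow : ∀ j : ℕ, ((lam : A → ℂ) ⟨u, huA⟩) ^ j = (lam : A → ℂ) (⟨u, huA⟩ ^ j) := by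
      intro j
      induction j with
      | zero => simp [hlin]
      | succ j ih => rw [pow_succ, pow_succ, hmul, ih]
    rw [hmulpow]
    have : (⟨u, huA⟩ : A) ^ (p ^ k) = 1 := Subtype.ext (by simpa using hu)
    rw [this, hlin]
  have h3 := memLocalIdeal_sub_one_of_pow_eq_one hM hpow
  have h4 : (lam : A → ℂ) ⟨u, huA⟩ * (lam : A → ℂ) ⟨v, hvA⟩ - (lam : A → ℂ) ⟨v, hvA⟩
      = ((lam : A → ℂ) ⟨u, huA⟩ - 1) * (lam : A → ℂ) ⟨v, hvA⟩ := by ring
  rw [h4]
  exact MemLocalIdeal.mul_right hM h3 (memLocalRing_of_isIntegral hM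
    (IsCharacter.isIntegral_apply (IsIrrCharacter.isCharacter lam.2) _))

/-- when the `p`-parts of the class size and the degree agree, the central character value is
a unit exactly when the character value is -/
theorem centralChar_memLocalIdeal_iff (hM : Cfsg.IsPModular p M) {χ : G → ℂ}
    (hχ : Cfsg.IsIrrCharacter G χ) (g : G)
    (h : (Subgroup.centralizer ({g} : Set G)).index.factorization p
      = (Cfsg.charDegree χ).factorization p) :
    Cfsg.MemLocalIdeal M (Cfsg.centralChar χ g) ↔ Cfsg.MemLocalIdeal M (χ g) := by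
  have hp : p.Prime := hM.1
  set n := (Subgroup.centralizer ({g} : Set G)).index with hn
  set d := Cfsg.charDegree χ with hd
  have hn0 : n ≠ 0 := Subgroup.index_ne_zero_of_finite
  have hd0 : d ≠ 0 := (IsIrrCharacter.charDegree_pos hχ).ne'
  have hn1 := Nat.ordProj_mul_ordCompl_eq_self n p
  have hd1 := Nat.ordProj_mul_ordCompl_eq_self d p
  have hn2 := Nat.not_dvd_ordCompl hp hn0
  have hd2 := Nat.not_dvd_ordCompl hp hd0
  rw [h] at hn1 hn2
  set j := d.factorization p
  set n' := n / p ^ j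
  set d' := d / p ^ j
  have hd'0 : (d' : ℂ) ≠ 0 := by
    have : d' ≠ 0 := by
      rintro h0
      rw [h0] at hd2
      exact hd2 (dvd_zero p)
    exact_mod_cast this
  have hn'0 : (n' : ℂ) ≠ 0 := by
    have : n' ≠ 0 := by
      rintro h0
      rw [h0] at hn2
      exact hn2 (dvd_zero p)
    exact_mod_cast this
  have hp0 : (p : ℂ) ≠ 0 := by exact_mod_cast hp.ne_zero
  have key : Cfsg.centralChar χ g = ((n' : ℂ) * (d' : ℂ)⁻¹) * χ g := by
    unfold Cfsg.centralChar
    rw [IsCharacter.apply_one_eq_charDegree (IsIrrCharacter.isCharacter hχ), ← hn, ← hd]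
    have e1 : (n : ℂ) = (p : ℂ) ^ j * (n' : ℂ) := by exact_mod_cast hn1.symm
    have e2 : (d : ℂ) = (p : ℂ) ^ j * (d' : ℂ) := by exact_mod_cast hd1.symm
    rw [e1, e2]
    field_simp
  have hu1 : Cfsg.MemLocalRing M ((n' : ℂ) * (d' : ℂ)⁻¹) :=
    MemLocalRing.mul hM (memLocalRing_natCast hM _) (memLocalRing_inv_natCast hM hd2)
  have hu2 : Cfsg.MemLocalRing M ((d' : ℂ) * (n' : ℂ)⁻¹) :=
    MemLocalRing.mul hM (memLocalRing_natCast hM _) (memLocalRing_inv_natCast hM hn2)
  constructor
  · intro hω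
    have : χ g = ((d' : ℂ) * (n' : ℂ)⁻¹) * Cfsg.centralChar χ g := by
      rw [key]; field_simp
    rw [this]
    exact MemLocalIdeal.mul_left hM hu2 hω
  · intro hχg
    rw [key]
    exact MemLocalIdeal.mul_left hM hu1 hχg

end

end Cfsg.Agent.Lib.Helper6
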