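import Mathlib
import Cfsg.Prelude.Def_Blocks
import Cfsg.Agent.Lib.Helper6.BlkTildeInd
import Cfsg.Agent.Lib.Helper6.BlkHeightZero
import Cfsg.Agent.Lib.Helper6.BlkQuot
import Cfsg.Agent.Lib.Helper6.ClassFun

set_option autoImplicit false
set_option linter.unusedSectionVars false
open Cfsg

namespace Cfsg.Agent.Lib.Helper6

open scoped ComplexConjugate

section

variable {G : Type*} [Group G] [Fintype G] [DecidableEq G]
variable {p : ℕ} {M : Ideal Cfsg.AlgInt}

theorem tildeFun_sum_smul {ι : Type*} (s : Finset ι) (c : ι → ℂ) (f : ι → G → ℂ) :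
    tildeFun p (∑ i ∈ s, c i • f i) = ∑ i ∈ s, c i • tildeFun p (f i) := by
  funext x
  rw [Finset.sum_apply]
  unfold tildeFun
  simp only [Pi.smul_apply, smul_eq_mul]
  split_ifs with hx
  · simp
  · rw [Finset.sum_apply, Finset.mul_sum]
    apply Finset.sum_congr rfl
    intro i _
    simp only [Pi.smul_apply, smul_eq_mul]
    ring

/-- if the `b`-part of a class function vanishes on `p`-regular elements, then its
`p`-regular part is orthogonal to `b` -/
theorem classInner_tildeFun_eq_zero_of_blockPart (hM : Cfsg.IsPModular p M) [Fact p.Prime]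
    (ψ₀ : Cfsg.IrrCharacter G) {ϑ : G → ℂ} (hϑ : Cfsg.IsClassFunction G ϑ)
    (hvan : ∀ y : G, ¬ p ∣ orderOf y → Cfsg.blockPart (Cfsg.blockOf M (ψ₀ : G → ℂ)) ϑ y = 0)
    (ψ : Cfsg.IrrCharacter G) (hψ : ψ ∈ Cfsg.blockOf M (ψ₀ : G → ℂ)) :
    Cfsg.classInner (tildeFun p ϑ) (ψ : G → ℂ) = 0 := by
  classical
  haveI : Fintype (Cfsg.IrrCharacter G) := Fintype.ofFinite _
  conv_lhs => rw [classFunction_eq_sum ϑ hϑ]
  rw [tildeFun_sum_smul, classInner_sum_left]
  simp only [classInner_smul_left]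
  -- split off the characters outside the block
  have h1 : ∀ ψ' : Cfsg.IrrCharacter G, ψ' ∉ Cfsg.blockOf M (ψ₀ : G → ℂ) →
      Cfsg.classInner (tildeFun p (ψ' : G → ℂ)) (ψ : G → ℂ) = 0 := by
    intro ψ' hψ'
    obtain ⟨c, -, hci, hc0⟩ := tildeFun_int_coeff hM ψ'
    have : ψ ∉ Cfsg.blockOf M (ψ' : G → ℂ) := by
      intro hmem
      apply hψ'
      exact SameBlock.trans' hM hψ (SameBlock.symm' hmem)
    rw [hci ψ, hc0 ψ this, Int.cast_zero]
  rw [← Finset.sum_filter_add_sum_filter_not Finset.univ (· ∈ Cfsg.blockOf M (ψ₀ : G → ℂ))]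
  have h2 : ∑ ψ' ∈ Finset.univ.filter (fun ψ' => ¬ ψ' ∈ Cfsg.blockOf M (ψ₀ : G → ℂ)),
      Cfsg.classInner ϑ (ψ' : G → ℂ) * Cfsg.classInner (tildeFun p (ψ' : G → ℂ)) (ψ : G → ℂ)
      = 0 := by
    apply Finset.sum_eq_zero
    intro ψ' hψ'
    rw [Finset.mem_filter] at hψ'
    rw [h1 ψ' hψ'.2, mul_zero]
  rw [h2, add_zero]
  -- the remaining sum is the inner product with the tilde of the block part
  have h3 : ∑ ψ' ∈ Finset.univ.filter (· ∈ Cfsg.blockOf M (ψ₀ : G → ℂ)),
      Cfsg.classInner ϑ (ψ' : G → ℂ) * Cfsg.classInner (tildeFun p (ψ' : G → ℂ)) (ψ : G → ℂ)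
      = Cfsg.classInner (tildeFun p (∑ ψ' ∈ Finset.univ.filter
          (· ∈ Cfsg.blockOf M (ψ₀ : G → ℂ)), Cfsg.classInner ϑ (ψ' : G → ℂ) • (ψ' : G → ℂ)))
          (ψ : G → ℂ) := by
    rw [tildeFun_sum_smul, classInner_sum_left]
    simp only [classInner_smul_left]
  rw [h3]
  have h4 : tildeFun p (∑ ψ' ∈ Finset.univ.filter
      (· ∈ Cfsg.blockOf M (ψ₀ : G → ℂ)), Cfsg.classInner ϑ (ψ' : G → ℂ) • (ψ' : G → ℂ)) = 0 := by
    funext y
    unfold tildeFun
    simp only [Pi.zero_apply]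
    split_ifs with hy
    · rfl
    · have := hvan y hy
      rw [blockPart_eq_finset_sum] at this
      rw [Finset.sum_apply]
      simp only [Pi.smul_apply, smul_eq_mul]
      rw [this, mul_zero]
  rw [h4]
  exact classInner_zero_left _

/-- height zero characters have non-vanishing subsections for blocks inducing their block -/
theorem subsection_nonvanishing (hM : Cfsg.IsPModular p M) [Fact p.Prime] (x : G)
    (hx : ∃ k : ℕ, orderOf x = p ^ k) (H : Subgroup G) [Fintype H]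
    (hH : H = Subgroup.centralizer ({x} : Set G)) {b : Set (Cfsg.IrrCharacter H)}
    {B : Set (Cfsg.IrrCharacter G)} (hind : Cfsg.IsInducedBlock M H b B)
    (χ : Cfsg.IrrCharacter G) (hχ : χ ∈ B) (h0 : Cfsg.blockHeight p B (χ : G → ℂ) = 0) :
    ∃ y : H, ¬ p ∣ orderOf y ∧
      Cfsg.blockPart b (fun c : H => (χ : G → ℂ) (x * (c : G))) y ≠ 0 := by
  classical
  by_contra hcon
  push Not at hcon
  obtain ⟨ψ, hb⟩ := hind.1
  have hψb : ψ ∈ b := by rw [hb]; exact sameBlock_refl hM _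
  have hunit := (tilde_induced_criterion H hM hind χ ψ hψb).2 hχ h0
  apply hunit
  have hχch := IsIrrCharacter.isCharacter χ.2
  have hχcf := IsIrrCharacter.isClassFunction χ.2
  have hχS : ∀ g, Cfsg.MemLocalRing M ((χ : G → ℂ) g) := fun g =>
    memLocalRing_of_isIntegral hM (IsCharacter.isIntegral_apply hχch g)
  have hcommH : ∀ c : H, Commute x (c : G) := by
    intro c
    have h1 : ∀ g : G, g ∈ H → Commute x g := by
      intro g hg
      rw [hH, mem_centralizer_singleton_iff] at hg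
      exact hg
    exact h1 _ c.2
  obtain ⟨ϑ, hϑdef⟩ : ∃ ϑ : H → ℂ, ϑ = fun c : H => (χ : G → ℂ) (x * (c : G)) := ⟨_, rfl⟩
  rw [← hϑdef] at hcon
  have hϑcf : Cfsg.IsClassFunction H ϑ := by
    rw [hϑdef]
    intro g h
    simp only [Subgroup.coe_mul, Subgroup.coe_inv]
    have e : x * ((h : G) * (g : G) * (h : G)⁻¹) = (h : G) * (x * (g : G)) * (h : G)⁻¹ := by
      have := (hcommH h).eq
      calc x * ((h : G) * (g : G) * (h : G)⁻¹) = (x * (h : G)) * (g : G) * (h : G)⁻¹ := by group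
        _ = ((h : G) * x) * (g : G) * (h : G)⁻¹ := by rw [this]
        _ = (h : G) * (x * (g : G)) * (h : G)⁻¹ := by group
    rw [e]
    exact hχcf _ _
  have hϑS : ∀ c, Cfsg.MemLocalRing M (ϑ c) := by
    intro c; rw [hϑdef]; exact hχS _
  have hrcf : Cfsg.IsClassFunction H (resFun H (χ : G → ℂ)) := resFun_isClassFunction H hχcf
  have hrS : ∀ h : H, Cfsg.MemLocalRing M (resFun H (χ : G → ℂ) h) := fun h => hχS _
  rw [← cOmega_pRegMat_memLocalIdeal_iff hM hrcf hrS ψ]
  -- the twisted version vanishes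
  have hzero : cOmega (ψ : H → ℂ) (pRegMat p ϑ) = 0 := by
    have h1 := classInner_tildeFun_div (p := p) (χ := ϑ) (IsIrrCharacter.isCharacter ψ.2)
    rw [hb] at hcon hψb
    rw [classInner_tildeFun_eq_zero_of_blockPart hM ψ hϑcf hcon ψ hψb, zero_div] at h1
    have hu0 := ne_zero_of_not_memLocalIdeal hM (ordCompl_unit (G := H) hM).2
    rcases mul_eq_zero.mp h1.symm with h2 | h2
    · exact absurd h2 hu0
    · exact h2
  have hsplit : pRegMat p (resFun H (χ : G → ℂ))
      = (pRegMat p (resFun H (χ : G → ℂ)) - pRegMat p ϑ) + pRegMat p ϑ := by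
    rw [sub_add_cancel]
  rw [hsplit, cOmega_add, hzero, add_zero]
  apply cOmega_memLocalIdeal_of_entries hM ψ.2
  · exact (centerAlg H).sub_mem (pRegMat_mem_centerAlg hrcf) (pRegMat_mem_centerAlg hϑcf)
  · intro s t
    rw [Matrix.sub_apply]
    unfold pRegMat
    rw [regMat_apply, regMat_apply]
    split_ifs with hst
    · rw [sub_zero]; exact memLocalIdeal_zero hM
    · rw [hϑdef]
      simp only [resFun]
      obtain ⟨k, hk⟩ := hx
      have hxk : x ^ (p ^ k) = 1 := by rw [← hk]; exact pow_orderOf_eq_one x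
      have := IsCharacter.apply_mul_sub_memLocalIdeal hM hχch (hcommH ((s * t⁻¹)⁻¹)) hxk
      have h2 := MemLocalIdeal.neg this
      rw [neg_sub] at h2
      exact h2

end

end Cfsg.Agent.Lib.Helper6
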