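import Mathlib
import Cfsg.Prelude.Def_Blocks
import Cfsg.Prelude.Def_BlockRank
import Cfsg.Agent.Lib.Helper6.BlkSecond3
import Cfsg.Agent.Lib.Helper6.BlkOrthFull
import Cfsg.Agent.Lib.Helper6.BlkPrincipalSum

set_option autoImplicit false
set_option linter.unusedSectionVars false
open Cfsg

namespace Cfsg.Agent.Lib.Helper6

open scoped ComplexConjugate

section kernel

variable {K : Type*} [Group K] [Fintype K] [DecidableEq K]
variable {p : ℕ} {M : Ideal Cfsg.AlgInt}

theorem classInner_sub (f g ζ : K → ℂ) :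
    Cfsg.classInner (f - g) ζ = Cfsg.classInner f ζ - Cfsg.classInner g ζ := by
  unfold Cfsg.classInner
  rw [← mul_sub, ← Finset.sum_sub_distrib]
  congr 1
  apply Finset.sum_congr rfl
  intro k _
  simp only [Pi.sub_apply]
  ring

/-- on `p`-regular elements the block part only sees the `p`-regular part -/
theorem blockPart_eq_blockPart_pRegularPart (hM : Cfsg.IsPModular p M) (ξ₀ : Cfsg.IrrCharacter K)
    (f : K → ℂ) (s : K) (hs : ¬ p ∣ orderOf s) :
    Cfsg.blockPart (Cfsg.blockOf M (ξ₀ : K → ℂ)) f s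
      = Cfsg.blockPart (Cfsg.blockOf M (ξ₀ : K → ℂ)) (Cfsg.pRegularPart p f) s := by
  classical
  haveI : Fintype (Cfsg.IrrCharacter K) := Fintype.ofFinite _
  have h0 := blockPart_eq_zero_of_vanish_pRegular hM ξ₀ (η := f - Cfsg.pRegularPart p f)
    (by
      intro c hc
      simp only [Pi.sub_apply]
      unfold Cfsg.pRegularPart Cfsg.IsPRegular
      rw [if_pos hc, sub_self]) s hs
  rw [blockPart_eq_finset_sum] at h0 ⊢
  rw [blockPart_eq_finset_sum]
  rw [← sub_eq_zero, ← Finset.sum_sub_distrib]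
  rw [← h0]
  apply Finset.sum_congr rfl
  intro ζ _
  rw [classInner_sub]
  ring

/-- the block part on `p`-regular elements through its kernel -/
theorem blockPart_eq_sum_kernel (hM : Cfsg.IsPModular p M) (ξ₀ : Cfsg.IrrCharacter K)
    [Fintype (Cfsg.IrrCharacter K)] [DecidablePred (· ∈ Cfsg.blockOf M (ξ₀ : K → ℂ))]
    (f : K → ℂ) (s : K) (hs : ¬ p ∣ orderOf s) :
    Cfsg.blockPart (Cfsg.blockOf M (ξ₀ : K → ℂ)) f s
      = ∑ t ∈ Finset.univ.filter (fun t : K => ¬ p ∣ orderOf t),
          ((Nat.card K : ℂ)⁻¹ * ∑ ζ ∈ Finset.univ.filter (· ∈ Cfsg.blockOf M (ξ₀ : K → ℂ)),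
            (ζ : K → ℂ) s * conj ((ζ : K → ℂ) t)) * f t := by
  rw [blockPart_eq_blockPart_pRegularPart hM ξ₀ f s hs, blockPart_eq_finset_sum]
  unfold Cfsg.classInner
  have h1 : ∀ ζ : Cfsg.IrrCharacter K,
      ((Nat.card K : ℂ)⁻¹ * ∑ g : K, Cfsg.pRegularPart p f g * (starRingEnd ℂ) ((ζ : K → ℂ) g))
        * (ζ : K → ℂ) s
      = ∑ t ∈ Finset.univ.filter (fun t : K => ¬ p ∣ orderOf t),
          (Nat.card K : ℂ)⁻¹ * ((ζ : K → ℂ) s * conj ((ζ : K → ℂ) t)) * f t := by
    intro ζ
    rw [Finset.sum_filter, Finset.mul_sum, Finset.sum_mul]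
    apply Finset.sum_congr rfl
    intro t _
    unfold Cfsg.pRegularPart Cfsg.IsPRegular
    split_ifs with ht
    · ring
    · ring
  simp_rw [h1]
  rw [Finset.sum_comm]
  apply Finset.sum_congr rfl
  intro t _
  rw [Finset.mul_sum, Finset.sum_mul]

theorem sum_kernel_mul_conj {I : Type*} [Fintype I] (R : Finset K) (k : K → ℂ) (F : I → K → ℂ) :
    ∑ i, (∑ t ∈ R, k t * F i t) * conj (∑ t ∈ R, k t * F i t)
      = ∑ t ∈ R, ∑ t' ∈ R, k t * conj (k t') * ∑ i, F i t * conj (F i t') := by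
  have h1 : ∀ i, (∑ t ∈ R, k t * F i t) * conj (∑ t ∈ R, k t * F i t)
      = ∑ t ∈ R, ∑ t' ∈ R, k t * conj (k t') * (F i t * conj (F i t')) := by
    intro i
    rw [map_sum, Finset.sum_mul_sum]
    apply Finset.sum_congr rfl
    intro t _
    apply Finset.sum_congr rfl
    intro t' _
    rw [map_mul]
    ring
  simp_rw [h1]
  rw [Finset.sum_comm]
  apply Finset.sum_congr rfl
  intro t _
  rw [Finset.sum_comm]
  apply Finset.sum_congr rfl
  intro t' _
  rw [Finset.mul_sum]

/-- a quadratic identity on `p`-regular elements passes to block parts -/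
theorem sum_blockPart_mul_conj_congr (hM : Cfsg.IsPModular p M) (ξ₀ : Cfsg.IrrCharacter K)
    {I J : Type*} [Fintype I] [Fintype J] (F : I → K → ℂ) (Z : J → K → ℂ)
    (h : ∀ t t' : K, ¬ p ∣ orderOf t → ¬ p ∣ orderOf t' →
      ∑ i, F i t * conj (F i t') = ∑ j, Z j t * conj (Z j t'))
    (s : K) (hs : ¬ p ∣ orderOf s) :
    ∑ i, Cfsg.blockPart (Cfsg.blockOf M (ξ₀ : K → ℂ)) (F i) s
        * conj (Cfsg.blockPart (Cfsg.blockOf M (ξ₀ : K → ℂ)) (F i) s)
      = ∑ j, Cfsg.blockPart (Cfsg.blockOf M (ξ₀ : K → ℂ)) (Z j) s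
        * conj (Cfsg.blockPart (Cfsg.blockOf M (ξ₀ : K → ℂ)) (Z j) s) := by
  classical
  haveI : Fintype (Cfsg.IrrCharacter K) := Fintype.ofFinite _
  simp_rw [blockPart_eq_sum_kernel hM ξ₀ _ s hs]
  rw [sum_kernel_mul_conj, sum_kernel_mul_conj]
  apply Finset.sum_congr rfl
  intro t ht
  apply Finset.sum_congr rfl
  intro t' ht'
  rw [h t t' (Finset.mem_filter.mp ht).2 (Finset.mem_filter.mp ht').2]

theorem blockPart_irr_of_mem [Fintype (Cfsg.IrrCharacter K)] (e : Set (Cfsg.IrrCharacter K))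
    [DecidablePred (· ∈ e)] (ζ : Cfsg.IrrCharacter K) (s : K) :
    Cfsg.blockPart e (ζ : K → ℂ) s = if ζ ∈ e then (ζ : K → ℂ) s else 0 := by
  rw [blockPart_eq_finset_sum]
  simp_rw [classInner_irrCharacter]
  split_ifs with h
  · rw [Finset.sum_eq_single ζ]
    · rw [if_pos rfl, one_mul]
    · intro ψ _ hψ
      rw [if_neg (Ne.symm hψ), zero_mul]
    · intro h'
      exact absurd (Finset.mem_filter.mpr ⟨Finset.mem_univ _, h⟩) h'
  · apply Finset.sum_eq_zero
    intro ψ hψ
    have hψe : ψ ∈ e := (Finset.mem_filter.mp hψ).2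
    have : ζ ≠ ψ := fun h' => h (h' ▸ hψe)
    rw [if_neg this, zero_mul]

/-- the trace formula for the `p`-regular rank of a block -/
theorem sum_regular_sq_eq_blockRank (hM : Cfsg.IsPModular p M) (ξ₀ : Cfsg.IrrCharacter K)
    [Fintype (Cfsg.IrrCharacter K)] [DecidablePred (· ∈ Cfsg.blockOf M (ξ₀ : K → ℂ))] :
    ∑ s ∈ Finset.univ.filter (fun s : K => ¬ p ∣ orderOf s),
        ∑ ζ ∈ Finset.univ.filter (· ∈ Cfsg.blockOf M (ξ₀ : K → ℂ)),
          (ζ : K → ℂ) s * conj ((ζ : K → ℂ) s)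
      = (Nat.card K : ℂ) * (Cfsg.blockRank p (Cfsg.blockOf M (ξ₀ : K → ℂ)) : ℂ) := by
  classical
  have hcard := card_ne_zero_complex K
  obtain ⟨e, he⟩ : ∃ e : Set (Cfsg.IrrCharacter K), e = Cfsg.blockOf M (ξ₀ : K → ℂ) := ⟨_, rfl⟩
  obtain ⟨A, hA⟩ : ∃ A : Matrix K K ℂ, A = fun s t =>
      if ¬ p ∣ orderOf s ∧ ¬ p ∣ orderOf t then
        (Nat.card K : ℂ)⁻¹ * ∑ ζ ∈ Finset.univ.filter (· ∈ Cfsg.blockOf M (ξ₀ : K → ℂ)),
          (ζ : K → ℂ) s * conj ((ζ : K → ℂ) t)
      else 0 := ⟨_, rfl⟩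
  obtain ⟨W, hW⟩ : ∃ W : Submodule ℂ (K → ℂ), W = Submodule.span ℂ
      ((fun χ : Cfsg.IrrCharacter K => Cfsg.pRegularPart p (χ : K → ℂ)) ''
        (Cfsg.blockOf M (ξ₀ : K → ℂ))) := ⟨_, rfl⟩
  have hQapp : ∀ (f : K → ℂ) (s : K), Matrix.toLin' A f s = ∑ t, A s t * f t := by
    intro f s
    rw [Matrix.toLin'_apply]
    rfl
  have hproj : LinearMap.IsProj W (Matrix.toLin' A) := by
    constructor
    · intro f
      have h1 : Matrix.toLin' A f = ∑ ζ ∈ Finset.univ.filter (· ∈ Cfsg.blockOf M (ξ₀ : K → ℂ)),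
          ((Nat.card K : ℂ)⁻¹ * ∑ t ∈ Finset.univ.filter (fun t : K => ¬ p ∣ orderOf t),
            conj ((ζ : K → ℂ) t) * f t) • Cfsg.pRegularPart p (ζ : K → ℂ) := by
        funext s
        rw [hQapp, Finset.sum_apply]
        simp only [Pi.smul_apply, smul_eq_mul]
        unfold Cfsg.pRegularPart Cfsg.IsPRegular
        by_cases hs : ¬ p ∣ orderOf s
        · simp only [if_pos hs]
          rw [hA]
          simp only [hs, not_false_eq_true, true_and]
          have h2 : ∀ t : K, (if ¬ p ∣ orderOf t then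
              (Nat.card K : ℂ)⁻¹ * ∑ ζ ∈ Finset.univ.filter (· ∈ Cfsg.blockOf M (ξ₀ : K → ℂ)),
                (ζ : K → ℂ) s * conj ((ζ : K → ℂ) t) else 0) * f t
              = if ¬ p ∣ orderOf t then
                  ∑ ζ ∈ Finset.univ.filter (· ∈ Cfsg.blockOf M (ξ₀ : K → ℂ)),
                    (Nat.card K : ℂ)⁻¹ * (conj ((ζ : K → ℂ) t) * f t) * (ζ : K → ℂ) s
                else 0 := by
            intro t
            split_ifs with ht
            · rw [zero_mul]
            · rw [Finset.mul_sum, Finset.sum_mul]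
              apply Finset.sum_congr rfl
              intro ζ _
              ring
          simp_rw [h2]
          rw [← Finset.sum_filter, Finset.sum_comm]
          apply Finset.sum_congr rfl
          intro ζ _
          rw [Finset.mul_sum, Finset.sum_mul]
        · simp only [if_neg hs, mul_zero, Finset.sum_const_zero]
          apply Finset.sum_eq_zero
          intro t _
          rw [hA]
          simp only [hs, false_and, if_false, zero_mul]
      rw [h1, hW]
      apply Submodule.sum_mem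
      intro ζ hζ
      apply Submodule.smul_mem
      apply Submodule.subset_span
      exact ⟨ζ, (Finset.mem_filter.mp hζ).2, rfl⟩
    · intro w hw
      have hle : W ≤ LinearMap.eqLocus (Matrix.toLin' A) LinearMap.id := by
        rw [hW, Submodule.span_le]
        rintro _ ⟨ζ', hζ', rfl⟩
        rw [SetLike.mem_coe, LinearMap.mem_eqLocus, LinearMap.id_apply]
        funext s
        rw [hQapp]
        beta_reduce
        by_cases hs : ¬ p ∣ orderOf s
        · have h3 := blockPart_eq_sum_kernel hM ξ₀ (ζ' : K → ℂ) s hs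
          rw [blockPart_irr_of_mem, if_pos hζ'] at h3
          have h4 : Cfsg.pRegularPart p (ζ' : K → ℂ) s = (ζ' : K → ℂ) s := by
            unfold Cfsg.pRegularPart Cfsg.IsPRegular
            rw [if_pos hs]
          rw [h4, h3, Finset.sum_filter]
          apply Finset.sum_congr rfl
          intro t _
          rw [hA]
          unfold Cfsg.pRegularPart Cfsg.IsPRegular
          simp only [hs, not_false_eq_true, true_and]
          split_ifs with ht
          · rw [zero_mul]
          · rfl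
        · have h4 : Cfsg.pRegularPart p (ζ' : K → ℂ) s = 0 := by
            unfold Cfsg.pRegularPart Cfsg.IsPRegular
            rw [if_neg hs]
          rw [h4]
          apply Finset.sum_eq_zero
          intro t _
          rw [hA]
          simp only [hs, false_and, if_false, zero_mul]
      have := hle hw
      rw [LinearMap.mem_eqLocus, LinearMap.id_apply] at this
      exact this
  have htr := LinearMap.IsProj.trace hproj
  rw [Matrix.trace_toLin'_eq] at htr
  have hrank : Module.finrank ℂ W = Cfsg.blockRank p (Cfsg.blockOf M (ξ₀ : K → ℂ)) := by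
    rw [hW]
    rfl
  rw [hrank] at htr
  rw [← htr]
  unfold Matrix.trace
  simp only [Matrix.diag_apply]
  rw [Finset.mul_sum, Finset.sum_filter]
  apply Finset.sum_congr rfl
  intro s _
  rw [hA]
  beta_reduce
  by_cases hs : ¬ p ∣ orderOf s
  · rw [if_pos hs, if_pos ⟨hs, hs⟩, ← mul_assoc, mul_inv_cancel₀ hcard, one_mul]
  · rw [if_neg hs, if_neg (fun h => hs h.1), mul_zero]

end kernel

section subsection

variable {G : Type*} [Group G] [Fintype G] [DecidableEq G]
variable {p : ℕ} {M : Ideal Cfsg.AlgInt}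

/-- column orthogonality on the `p`-section of `u` against column orthogonality in `C_G(u)` -/
theorem sum_irr_shift_mul_conj (hp : p.Prime) [Fintype (Cfsg.IrrCharacter G)] (u : G)
    (hu : ∃ k : ℕ, orderOf u = p ^ k) (H : Subgroup G) [Fintype H]
    (hH : H = Subgroup.centralizer ({u} : Set G)) [Fintype (Cfsg.IrrCharacter H)]
    (t t' : H) (ht : ¬ p ∣ orderOf t) (ht' : ¬ p ∣ orderOf t') :
    ∑ χ : Cfsg.IrrCharacter G, (χ : G → ℂ) (u * (t : G)) * conj ((χ : G → ℂ) (u * (t' : G)))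
      = ∑ ζ : Cfsg.IrrCharacter H, (ζ : H → ℂ) t * conj ((ζ : H → ℂ) t') := by
  classical
  rw [← conjCount_eq_sum, ← conjCount_eq_sum, conjCount_shift hp u hu H hH t t' ht ht']
  unfold conjCount
  congr 1
  apply Finset.card_bij (fun s _ => s)
  · intro s hs
    simpa using hs
  · intro a _ b _ h
    exact h
  · intro b hb
    exact ⟨b, by simpa using hb, rfl⟩

/-- the `e`-part of the section function at `u⁻¹` is conjugate to that at `u` -/
theorem blockPart_shift_inv (u : G) (H : Subgroup G) [Fintype H]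
    (hH : H = Subgroup.centralizer ({u} : Set G)) (e : Set (Cfsg.IrrCharacter H))
    (χ : Cfsg.IrrCharacter G) (s : H) :
    Cfsg.blockPart e (fun c : H => (χ : G → ℂ) (u⁻¹ * (c : G))) s⁻¹
      = conj (Cfsg.blockPart e (fun c : H => (χ : G → ℂ) (u * (c : G))) s) := by
  classical
  haveI : Fintype (Cfsg.IrrCharacter H) := Fintype.ofFinite _
  have hχc : Cfsg.IsCharacter G (χ : G → ℂ) := IsIrrCharacter.isCharacter χ.2
  rw [blockPart_eq_finset_sum, blockPart_eq_finset_sum, map_sum]
  apply Finset.sum_congr rfl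
  intro ζ _
  have hζc : Cfsg.IsCharacter H (ζ : H → ℂ) := IsIrrCharacter.isCharacter ζ.2
  rw [map_mul, IsCharacter.apply_inv hζc]
  congr 1
  unfold Cfsg.classInner
  rw [map_mul, map_inv₀, Complex.conj_natCast, map_sum]
  congr 1
  rw [← Equiv.sum_comp (Equiv.inv H)]
  apply Finset.sum_congr rfl
  intro c _
  simp only [Equiv.inv_apply]
  rw [map_mul, IsCharacter.apply_inv hζc, Complex.conj_conj]
  congr 1
  have hc : u * (c : G) = (c : G) * u := by
    have h1 : (c : G) ∈ Subgroup.centralizer ({u} : Set G) := hH ▸ c.2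
    rw [mem_centralizer_singleton_iff] at h1
    exact h1
  have : u⁻¹ * ((c⁻¹ : H) : G) = (u * (c : G))⁻¹ := by
    rw [Subgroup.coe_inv, hc, mul_inv_rev]
  rw [this, IsCharacter.apply_inv hχc]

/-- Brauer's identity: the squared norms of the `e`-subsections of the characters of `B` on
the `p`-regular elements of `C_G(u)` add up to `|C_G(u)| l(e)` -/
theorem subsection_norm_sum (hM : Cfsg.IsPModular p M) [Fact p.Prime] (u : G)
    (hu : ∃ k : ℕ, orderOf u = p ^ k) (H : Subgroup G) [Fintype H]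
    (hH : H = Subgroup.centralizer ({u} : Set G)) (B : Set (Cfsg.IrrCharacter G))
    (e : Set (Cfsg.IrrCharacter H)) (hind : Cfsg.IsInducedBlock M H e B) :
    ∑ᶠ χ ∈ B, ∑ᶠ s : H,
        Cfsg.pRegularPart p (Cfsg.blockPart e (fun c : H => (χ : G → ℂ) (u * (c : G)))) s
          * Cfsg.blockPart e (fun c : H => (χ : G → ℂ) (u⁻¹ * (c : G))) s⁻¹
      = (Nat.card H : ℂ) * (Cfsg.blockRank p e : ℂ) := by
  classical
  have hp : p.Prime := hM.1
  haveI : Fintype (Cfsg.IrrCharacter G) := Fintype.ofFinite _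
  haveI : Fintype (Cfsg.IrrCharacter H) := Fintype.ofFinite _
  obtain ⟨ξ₀, he⟩ := hind.1
  obtain ⟨gfun, hgfun⟩ : ∃ gfun : Cfsg.IrrCharacter G → H → ℂ, gfun =
      fun (χ : Cfsg.IrrCharacter G) (s : H) =>
        Cfsg.blockPart e (fun c : H => (χ : G → ℂ) (u * (c : G))) s := ⟨_, rfl⟩
  have hinner : ∀ χ : Cfsg.IrrCharacter G, ∑ᶠ s : H,
        Cfsg.pRegularPart p (Cfsg.blockPart e (fun c : H => (χ : G → ℂ) (u * (c : G)))) s
          * Cfsg.blockPart e (fun c : H => (χ : G → ℂ) (u⁻¹ * (c : G))) s⁻¹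
      = ∑ s ∈ Finset.univ.filter (fun s : H => ¬ p ∣ orderOf s),
          gfun χ s * conj (gfun χ s) := by
    intro χ
    rw [finsum_eq_sum_of_fintype, Finset.sum_filter]
    apply Finset.sum_congr rfl
    intro s _
    rw [blockPart_shift_inv u H hH e χ s, hgfun]
    unfold Cfsg.pRegularPart Cfsg.IsPRegular
    split_ifs with hs
    · rw [zero_mul]
    · rfl
  simp_rw [hinner]
  have hzero : ∀ χ : Cfsg.IrrCharacter G, χ ∉ B →
      ∑ s ∈ Finset.univ.filter (fun s : H => ¬ p ∣ orderOf s), gfun χ s * conj (gfun χ s) = 0 := by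
    intro χ hχ
    apply Finset.sum_eq_zero
    intro s hs
    have hs' : ¬ p ∣ orderOf s := (Finset.mem_filter.mp hs).2
    have hnot : ¬ Cfsg.IsInducedBlock M H e (Cfsg.blockOf M (χ : G → ℂ)) := by
      intro h'
      have := IsInducedBlock.unique H hM hind h'
      apply hχ
      rw [this]
      exact sameBlock_refl hM _
    have := second_main_chars hM u hu H hH (B := Cfsg.blockOf M (χ : G → ℂ)) ⟨χ, rfl⟩ χ
      (sameBlock_refl hM _) hind.1 hnot s hs'
    rw [hgfun]
    beta_reduce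
    rw [this, zero_mul]
  rw [finsum_mem_eq_finite_toFinset_sum _ (Set.toFinite B)]
  rw [Finset.sum_subset (Finset.subset_univ _) (by
    intro χ _ hχ
    apply hzero
    intro h'
    apply hχ
    rw [Set.Finite.mem_toFinset]
    exact h')]
  rw [Finset.sum_comm]
  have hmain : ∀ s ∈ Finset.univ.filter (fun s : H => ¬ p ∣ orderOf s),
      ∑ χ : Cfsg.IrrCharacter G, gfun χ s * conj (gfun χ s)
        = ∑ ζ ∈ Finset.univ.filter (· ∈ Cfsg.blockOf M (ξ₀ : H → ℂ)),
            (ζ : H → ℂ) s * conj ((ζ : H → ℂ) s) := by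
    intro s hs
    have hs' : ¬ p ∣ orderOf s := (Finset.mem_filter.mp hs).2
    have h1 := sum_blockPart_mul_conj_congr hM ξ₀
      (F := fun (χ : Cfsg.IrrCharacter G) (c : H) => (χ : G → ℂ) (u * (c : G)))
      (Z := fun (ζ : Cfsg.IrrCharacter H) => (ζ : H → ℂ))
      (fun t t' ht ht' => sum_irr_shift_mul_conj hp u hu H hH t t' ht ht') s hs'
    rw [hgfun, he]
    beta_reduce
    rw [h1, Finset.sum_filter]
    apply Finset.sum_congr rfl
    intro ζ _
    rw [blockPart_irr_of_mem]
    split_ifs with hζ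
    · rfl
    · rw [zero_mul]
  rw [Finset.sum_congr rfl hmain, sum_regular_sq_eq_blockRank hM ξ₀, he]

end subsection

end Cfsg.Agent.Lib.Helper6
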