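import Mathlib
import Cfsg.Prelude.Def_Blocks
import Cfsg.Prelude.Def_BlockRank
import Cfsg.Agent.Lib.Helper6.BlkSubNorm
import Cfsg.Agent.Lib.Helper6.BlkSections

set_option autoImplicit false
set_option linter.unusedSectionVars false
open Cfsg

namespace Cfsg.Agent.Lib.Helper6

open scoped ComplexConjugate

section kernel2

variable {K : Type*} [Group K] [Fintype K] [DecidableEq K]
variable {p : ℕ} {M : Ideal Cfsg.AlgInt}

theorem sum_kernel_mul_conj₂ {I : Type*} [Fintype I] (R : Finset K) (k k' : K → ℂ)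
    (F : I → K → ℂ) :
    ∑ i, (∑ t ∈ R, k t * F i t) * conj (∑ t ∈ R, k' t * F i t)
      = ∑ t ∈ R, ∑ t' ∈ R, k t * conj (k' t') * ∑ i, F i t * conj (F i t') := by
  have h1 : ∀ i, (∑ t ∈ R, k t * F i t) * conj (∑ t ∈ R, k' t * F i t)
      = ∑ t ∈ R, ∑ t' ∈ R, k t * conj (k' t') * (F i t * conj (F i t')) := by
    intro i
    rw [map_sum, Finset.sum_mul_sum]
    apply Finset.sum_congr rfl
    intro t _
    apply Finset.sum_congr rfl
    intro t' _
    rw [map_mul]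
    ring
  simp_rw [h1]
  rw [Finset.sum_comm]
  apply Finset.sum_congr rfl
  intro t _
  rw [Finset.sum_comm]
  apply Finset.sum_congr rfl
  intro t' _
  rw [Finset.mul_sum]

/-- a sesquilinear identity on `p`-regular elements passes to block parts -/
theorem sum_blockPart_mul_conj_congr₂ (hM : Cfsg.IsPModular p M) (ξ₀ : Cfsg.IrrCharacter K)
    {I J : Type*} [Fintype I] [Fintype J] (F : I → K → ℂ) (Z : J → K → ℂ)
    (h : ∀ t t' : K, ¬ p ∣ orderOf t → ¬ p ∣ orderOf t' →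
      ∑ i, F i t * conj (F i t') = ∑ j, Z j t * conj (Z j t'))
    (s s' : K) (hs : ¬ p ∣ orderOf s) (hs' : ¬ p ∣ orderOf s') :
    ∑ i, Cfsg.blockPart (Cfsg.blockOf M (ξ₀ : K → ℂ)) (F i) s
        * conj (Cfsg.blockPart (Cfsg.blockOf M (ξ₀ : K → ℂ)) (F i) s')
      = ∑ j, Cfsg.blockPart (Cfsg.blockOf M (ξ₀ : K → ℂ)) (Z j) s
        * conj (Cfsg.blockPart (Cfsg.blockOf M (ξ₀ : K → ℂ)) (Z j) s') := by
  classical
  haveI : Fintype (Cfsg.IrrCharacter K) := Fintype.ofFinite _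
  simp_rw [blockPart_eq_sum_kernel hM ξ₀ _ s hs, blockPart_eq_sum_kernel hM ξ₀ _ s' hs']
  rw [sum_kernel_mul_conj₂, sum_kernel_mul_conj₂]
  apply Finset.sum_congr rfl
  intro t ht
  apply Finset.sum_congr rfl
  intro t' ht'
  rw [h t t' (Finset.mem_filter.mp ht).2 (Finset.mem_filter.mp ht').2]

/-- the block part is idempotent -/
theorem blockPart_blockPart [Fintype (Cfsg.IrrCharacter K)] (e : Set (Cfsg.IrrCharacter K))
    [DecidablePred (· ∈ e)] (f : K → ℂ) :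
    Cfsg.blockPart e (Cfsg.blockPart e f) = Cfsg.blockPart e f := by
  funext s
  rw [blockPart_eq_finset_sum e (Cfsg.blockPart e f), blockPart_eq_finset_sum e f]
  apply Finset.sum_congr rfl
  intro ζ hζ
  congr 1
  have hf : Cfsg.blockPart e f = ∑ χ ∈ Finset.univ.filter (· ∈ e),
      Cfsg.classInner f (χ : K → ℂ) • (χ : K → ℂ) := by
    funext t
    rw [blockPart_eq_finset_sum, Finset.sum_apply]
    rfl
  rw [hf, classInner_sum_left]
  simp_rw [classInner_smul_left, classInner_irrCharacter]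
  rw [Finset.sum_eq_single_of_mem ζ hζ]
  · rw [if_pos rfl, mul_one]
  · intro χ _ hne
    rw [if_neg hne, mul_zero]

end kernel2

section subcontrib

variable {G : Type*} [Group G] [Fintype G] [DecidableEq G]
variable {p : ℕ} {M : Ideal Cfsg.AlgInt}

/-- column orthogonality for the `b`-parts of a subsection -/
theorem sum_irr_blockPart_shift_mul (hM : Cfsg.IsPModular p M) [Fintype (Cfsg.IrrCharacter G)]
    (z : G) (hz : ∃ k : ℕ, orderOf z = p ^ k) (H : Subgroup G) [Fintype H]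
    (hH : H = Subgroup.centralizer ({z} : Set G)) [Fintype (Cfsg.IrrCharacter H)]
    (ξ₀ : Cfsg.IrrCharacter H) [DecidablePred (· ∈ Cfsg.blockOf M (ξ₀ : H → ℂ))]
    (s s' : H) (hs : ¬ p ∣ orderOf s) (hs' : ¬ p ∣ orderOf s') :
    ∑ ζ : Cfsg.IrrCharacter G,
        Cfsg.blockPart (Cfsg.blockOf M (ξ₀ : H → ℂ)) (fun c : H => (ζ : G → ℂ) (z * (c : G))) s
        * conj (Cfsg.blockPart (Cfsg.blockOf M (ξ₀ : H → ℂ))
            (fun c : H => (ζ : G → ℂ) (z * (c : G))) s')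
      = ∑ ξ ∈ Finset.univ.filter (· ∈ Cfsg.blockOf M (ξ₀ : H → ℂ)),
          (ξ : H → ℂ) s * conj ((ξ : H → ℂ) s') := by
  classical
  have hp : p.Prime := hM.1
  rw [sum_blockPart_mul_conj_congr₂ hM ξ₀
    (fun (ζ : Cfsg.IrrCharacter G) (c : H) => (ζ : G → ℂ) (z * (c : G)))
    (fun (ξ : Cfsg.IrrCharacter H) (c : H) => (ξ : H → ℂ) c)
    (fun t t' ht ht' => sum_irr_shift_mul_conj hp z hz H hH t t' ht ht') s s' hs hs']
  simp_rw [blockPart_irr_of_mem]
  rw [Finset.sum_filter]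
  apply Finset.sum_congr rfl
  intro ξ _
  split_ifs with h
  · rfl
  · rw [zero_mul]

/-- the contribution of the subsection `(z, b)` to the pair `(χ, ψ)` -/
noncomputable def subContrib (p : ℕ) (z : G) (H : Subgroup G) [Fintype H]
    (b : Set (Cfsg.IrrCharacter H)) (χ ψ : G → ℂ) : ℂ :=
  (Nat.card H : ℂ)⁻¹ * ∑ s ∈ Finset.univ.filter (fun s : H => ¬ p ∣ orderOf s),
    Cfsg.blockPart b (fun c : H => χ (z * (c : G))) s
      * conj (Cfsg.blockPart b (fun c : H => ψ (z * (c : G))) s)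

theorem subContrib_conj (z : G) (H : Subgroup G) [Fintype H]
    (b : Set (Cfsg.IrrCharacter H)) (χ ψ : G → ℂ) :
    conj (subContrib p z H b χ ψ) = subContrib p z H b ψ χ := by
  unfold subContrib
  rw [map_mul, map_inv₀, Complex.conj_natCast, map_sum]
  congr 1
  apply Finset.sum_congr rfl
  intro s _
  rw [map_mul, Complex.conj_conj, mul_comm]

/-- the contribution matrix is idempotent (row form) -/
theorem sum_subContrib_mul_conj (hM : Cfsg.IsPModular p M) [Fintype (Cfsg.IrrCharacter G)]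
    (z : G) (hz : ∃ k : ℕ, orderOf z = p ^ k) (H : Subgroup G) [Fintype H]
    (hH : H = Subgroup.centralizer ({z} : Set G))
    (ξ₀ : Cfsg.IrrCharacter H) (χ : G → ℂ) :
    ∑ ψ : Cfsg.IrrCharacter G,
        subContrib p z H (Cfsg.blockOf M (ξ₀ : H → ℂ)) χ (ψ : G → ℂ)
          * conj (subContrib p z H (Cfsg.blockOf M (ξ₀ : H → ℂ)) χ (ψ : G → ℂ))
      = subContrib p z H (Cfsg.blockOf M (ξ₀ : H → ℂ)) χ χ := by
  classical
  haveI : Fintype (Cfsg.IrrCharacter H) := Fintype.ofFinite _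
  have hcard : (Nat.card H : ℂ) ≠ 0 := card_ne_zero_complex H
  obtain ⟨b, hb⟩ : ∃ b : Set (Cfsg.IrrCharacter H), b = Cfsg.blockOf M (ξ₀ : H → ℂ) := ⟨_, rfl⟩
  obtain ⟨R, hR⟩ : ∃ R : Finset H, R = Finset.univ.filter (fun s : H => ¬ p ∣ orderOf s) :=
    ⟨_, rfl⟩
  obtain ⟨θ, hθ⟩ : ∃ θ : H → ℂ, θ = Cfsg.blockPart b (fun c : H => χ (z * (c : G))) := ⟨_, rfl⟩
  obtain ⟨Θ, hΘ⟩ : ∃ Θ : Cfsg.IrrCharacter G → H → ℂ,
      Θ = fun (ψ : Cfsg.IrrCharacter G) =>
        Cfsg.blockPart b (fun c : H => (ψ : G → ℂ) (z * (c : G))) := ⟨_, rfl⟩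
  have hcol : ∀ s ∈ R, ∀ s' ∈ R, ∑ ψ : Cfsg.IrrCharacter G, Θ ψ s' * conj (Θ ψ s)
      = ∑ ξ ∈ Finset.univ.filter (· ∈ b), (ξ : H → ℂ) s' * conj ((ξ : H → ℂ) s) := by
    intro s hs s' hs'
    rw [hR, Finset.mem_filter] at hs hs'
    rw [hΘ, hb]
    exact sum_irr_blockPart_shift_mul hM z hz H hH ξ₀ s' s hs'.2 hs.2
  have hproj : ∀ s ∈ R, ∑ s' ∈ R, conj (θ s') *
      ((Nat.card H : ℂ)⁻¹ * ∑ ξ ∈ Finset.univ.filter (· ∈ b),
        (ξ : H → ℂ) s' * conj ((ξ : H → ℂ) s)) = conj (θ s) := by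
    intro s hs
    rw [hR, Finset.mem_filter] at hs
    have h1 : Cfsg.blockPart b θ s = θ s := by
      rw [hθ, blockPart_blockPart]
    rw [hb] at h1
    rw [blockPart_eq_sum_kernel hM ξ₀ θ s hs.2] at h1
    rw [← h1, map_sum, hR, hb]
    apply Finset.sum_congr rfl
    intro s' _
    rw [map_mul, map_mul, map_inv₀, Complex.conj_natCast, map_sum, mul_comm]
    congr 2
    apply Finset.sum_congr rfl
    intro ξ _
    rw [map_mul, Complex.conj_conj, mul_comm]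
  have hexp : ∀ ψ : Cfsg.IrrCharacter G, subContrib p z H b χ (ψ : G → ℂ)
      = (Nat.card H : ℂ)⁻¹ * ∑ s ∈ R, θ s * conj (Θ ψ s) := by
    intro ψ
    unfold subContrib
    rw [hR, hθ, hΘ]
  have hexp' : subContrib p z H b χ χ = (Nat.card H : ℂ)⁻¹ * ∑ s ∈ R, θ s * conj (θ s) := by
    unfold subContrib
    rw [hR, hθ]
  rw [← hb]
  simp_rw [hexp]
  rw [hexp']
  have h2 : ∀ ψ : Cfsg.IrrCharacter G,
      ((Nat.card H : ℂ)⁻¹ * ∑ s ∈ R, θ s * conj (Θ ψ s))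
        * conj ((Nat.card H : ℂ)⁻¹ * ∑ s ∈ R, θ s * conj (Θ ψ s))
      = ∑ s ∈ R, ∑ s' ∈ R, (Nat.card H : ℂ)⁻¹ * (Nat.card H : ℂ)⁻¹ * (θ s * conj (θ s'))
          * (Θ ψ s' * conj (Θ ψ s)) := by
    intro ψ
    rw [map_mul, map_inv₀, Complex.conj_natCast, map_sum, mul_mul_mul_comm, Finset.sum_mul_sum,
      Finset.mul_sum]
    apply Finset.sum_congr rfl; intro s _
    rw [Finset.mul_sum]
    apply Finset.sum_congr rfl; intro s' _
    rw [map_mul, Complex.conj_conj]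
    ring
  simp_rw [h2]
  rw [Finset.sum_comm, Finset.mul_sum]
  apply Finset.sum_congr rfl
  intro s hs
  rw [Finset.sum_comm]
  simp_rw [← Finset.mul_sum]
  have h3 : ∀ s' ∈ R, (Nat.card H : ℂ)⁻¹ * (Nat.card H : ℂ)⁻¹ * (θ s * conj (θ s'))
      * ∑ ψ : Cfsg.IrrCharacter G, Θ ψ s' * conj (Θ ψ s)
      = (Nat.card H : ℂ)⁻¹ * θ s * (conj (θ s') *
      ((Nat.card H : ℂ)⁻¹ * ∑ ξ ∈ Finset.univ.filter (· ∈ b),
        (ξ : H → ℂ) s' * conj ((ξ : H → ℂ) s))) := by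
    intro s' hs'
    rw [hcol s hs s' hs']
    ring
  rw [Finset.sum_congr rfl h3, ← Finset.mul_sum, hproj s hs]
  ring

/-- the trace of the contribution matrix is the `p`-regular rank of `b` -/
theorem sum_subContrib_self (hM : Cfsg.IsPModular p M) [Fintype (Cfsg.IrrCharacter G)]
    (z : G) (hz : ∃ k : ℕ, orderOf z = p ^ k) (H : Subgroup G) [Fintype H]
    (hH : H = Subgroup.centralizer ({z} : Set G))
    (ξ₀ : Cfsg.IrrCharacter H) :
    ∑ χ : Cfsg.IrrCharacter G,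
        subContrib p z H (Cfsg.blockOf M (ξ₀ : H → ℂ)) (χ : G → ℂ) (χ : G → ℂ)
      = (Cfsg.blockRank p (Cfsg.blockOf M (ξ₀ : H → ℂ)) : ℂ) := by
  classical
  haveI : Fintype (Cfsg.IrrCharacter H) := Fintype.ofFinite _
  have hcard : (Nat.card H : ℂ) ≠ 0 := card_ne_zero_complex H
  unfold subContrib
  rw [← Finset.mul_sum, Finset.sum_comm]
  have h1 : ∀ s ∈ Finset.univ.filter (fun s : H => ¬ p ∣ orderOf s),
      ∑ χ : Cfsg.IrrCharacter G,
        Cfsg.blockPart (Cfsg.blockOf M (ξ₀ : H → ℂ)) (fun c : H => (χ : G → ℂ) (z * (c : G))) s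
        * conj (Cfsg.blockPart (Cfsg.blockOf M (ξ₀ : H → ℂ))
            (fun c : H => (χ : G → ℂ) (z * (c : G))) s)
      = ∑ ξ ∈ Finset.univ.filter (· ∈ Cfsg.blockOf M (ξ₀ : H → ℂ)),
          (ξ : H → ℂ) s * conj ((ξ : H → ℂ) s) := by
    intro s hs
    rw [Finset.mem_filter] at hs
    exact sum_irr_blockPart_shift_mul hM z hz H hH ξ₀ s s hs.2 hs.2
  rw [Finset.sum_congr rfl h1, sum_regular_sq_eq_blockRank hM ξ₀, ← mul_assoc,
    inv_mul_cancel₀ hcard, one_mul]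

end subcontrib

end Cfsg.Agent.Lib.Helper6
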