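import Mathlib
import Cfsg.Prelude.Def_Blocks
import Cfsg.Agent.Lib.Helper6.SubContrib
import Cfsg.Agent.Lib.Helper6.BlkRankOne
import Cfsg.Agent.Lib.Helper6.BlkSubsection
import Cfsg.Agent.Lib.Helper6.BlkVanish
import Cfsg.Agent.Lib.Helper6.BlkRigid
import Cfsg.Agent.Lib.Helper6.Mult

set_option autoImplicit false
set_option linter.unusedSectionVars false
open Cfsg

namespace Cfsg.Agent.Lib.Helper6

open scoped ComplexConjugate

section reginner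

variable {K : Type*} [Group K] [Fintype K] [DecidableEq K]
variable {p : ℕ} {M : Ideal Cfsg.AlgInt}

/-- the inner product over the `p`-regular elements through `cInt` -/
theorem regInner_eq (hM : Cfsg.IsPModular p M) [Fact p.Prime] (ξ ξ' : Cfsg.IrrCharacter K) :
    (Nat.card K : ℂ)⁻¹ * ∑ s ∈ Finset.univ.filter (fun s : K => ¬ p ∣ orderOf s),
        (ξ : K → ℂ) s * conj ((ξ' : K → ℂ) s)
      = (cInt p (ξ : K → ℂ) (ξ' : K → ℂ) : ℂ) / (p : ℂ) ^ (Nat.card K).factorization p := by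
  have hp : p.Prime := hM.1
  have hq0 : ((p : ℂ) ^ (Nat.card K).factorization p) ≠ 0 :=
    pow_ne_zero _ (by exact_mod_cast hp.ne_zero)
  rw [← cInt_spec hM ξ ξ', eq_div_iff hq0]
  unfold Cfsg.classInner tildeFun
  rw [mul_assoc, Finset.sum_mul, Finset.sum_filter]
  congr 1
  apply Finset.sum_congr rfl
  intro s _
  by_cases hs : p ∣ orderOf s
  · rw [if_neg (not_not.mpr hs), if_pos hs, zero_mul]
  · rw [if_pos hs, if_neg hs]
    push_cast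
    ring

/-- the normalised form: `p ^ d` times the regular inner product is `mH` -/
theorem pow_defect_mul_regInner (hM : Cfsg.IsPModular p M) [Fact p.Prime]
    (ξ₀ ξ ξ' : Cfsg.IrrCharacter K) (hξ' : ξ' ∈ Cfsg.blockOf M (ξ₀ : K → ℂ)) :
    (p : ℂ) ^ Cfsg.blockDefect p (Cfsg.blockOf M (ξ₀ : K → ℂ)) *
      ((Nat.card K : ℂ)⁻¹ * ∑ s ∈ Finset.univ.filter (fun s : K => ¬ p ∣ orderOf s),
        (ξ : K → ℂ) s * conj ((ξ' : K → ℂ) s))
      = (mH p (Cfsg.blockOf M (ξ₀ : K → ℂ)) ξ ξ' : ℂ) := by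
  have hp : p.Prime := hM.1
  have hp0 : (p : ℂ) ≠ 0 := by exact_mod_cast hp.ne_zero
  rw [regInner_eq hM ξ ξ']
  have h1 := factorization_card_eq_sInf_add_defect (p := p) (Cfsg.blockOf M (ξ₀ : K → ℂ)) ξ'
    hξ'
  have h2 : (cInt p (ξ : K → ℂ) (ξ' : K → ℂ) : ℂ)
      = (p : ℂ) ^ minVal p (Cfsg.blockOf M (ξ₀ : K → ℂ))
        * (mH p (Cfsg.blockOf M (ξ₀ : K → ℂ)) ξ ξ' : ℂ) := by
    have := mH_mul hM (Cfsg.blockOf M (ξ₀ : K → ℂ)) ξ ξ' hξ'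
    exact_mod_cast congrArg (fun t : ℤ => (t : ℂ)) this.symm
  have h3 : (Nat.card K).factorization p = minVal p (Cfsg.blockOf M (ξ₀ : K → ℂ))
      + Cfsg.blockDefect p (Cfsg.blockOf M (ξ₀ : K → ℂ)) := h1
  rw [h2, h3, pow_add]
  have ha : ((p : ℂ) ^ minVal p (Cfsg.blockOf M (ξ₀ : K → ℂ))) ≠ 0 := pow_ne_zero _ hp0
  have hb : ((p : ℂ) ^ Cfsg.blockDefect p (Cfsg.blockOf M (ξ₀ : K → ℂ))) ≠ 0 := pow_ne_zero _ hp0
  field_simp

end reginner

section shift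

variable {G : Type*} [Group G] [Fintype G] [DecidableEq G]
variable {p : ℕ} {M : Ideal Cfsg.AlgInt}

/-- the coefficients of the shifted restriction -/
theorem classInner_shift_eq (z : G) (H : Subgroup G) [Fintype H] (zH : H) (hzH : (zH : G) = z)
    (hzc : ∀ h : H, zH * h = h * zH) (χ : G → ℂ) (ξ : Cfsg.IrrCharacter H) :
    Cfsg.classInner (fun c : H => χ (z * (c : G))) (ξ : H → ℂ)
      = ((ξ : H → ℂ) zH / (ξ : H → ℂ) 1) * Cfsg.classInner (resFun H χ) (ξ : H → ℂ) := by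
  classical
  have hξc := IsIrrCharacter.isCharacter ξ.2
  have hzc' : ∀ h : H, zH⁻¹ * h = h * zH⁻¹ := by
    intro h
    have := hzc h
    calc zH⁻¹ * h = zH⁻¹ * (h * zH) * zH⁻¹ := by group
      _ = zH⁻¹ * (zH * h) * zH⁻¹ := by rw [this]
      _ = h * zH⁻¹ := by group
  have h2 : conj ((ξ : H → ℂ) 1) = (ξ : H → ℂ) 1 := by
    rw [IsCharacter.apply_one_eq_charDegree hξc, Complex.conj_natCast]
  have key : ∀ c : H, χ (z * ((zH⁻¹ * c : H) : G)) * conj ((ξ : H → ℂ) (zH⁻¹ * c))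
      = ((ξ : H → ℂ) zH / (ξ : H → ℂ) 1) * (χ (c : G) * conj ((ξ : H → ℂ) c)) := by
    intro c
    have h1 : z * ((zH⁻¹ * c : H) : G) = (c : G) := by
      rw [Subgroup.coe_mul, Subgroup.coe_inv, hzH, mul_inv_cancel_left]
    rw [h1, IsIrrCharacter.apply_central_mul ξ.2 hzc' c, map_div₀, map_mul,
      IsCharacter.apply_inv hξc zH, Complex.conj_conj, h2]
    ring
  unfold Cfsg.classInner
  calc (Nat.card H : ℂ)⁻¹ * ∑ g : H, (fun c : H => χ (z * (c : G))) g * conj ((ξ : H → ℂ) g)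
      = (Nat.card H : ℂ)⁻¹ * ∑ c : H, χ (z * ((zH⁻¹ * c : H) : G))
          * conj ((ξ : H → ℂ) (zH⁻¹ * c)) := by
        rw [← Equiv.sum_comp (Equiv.mulLeft zH⁻¹)]
        rfl
    _ = (Nat.card H : ℂ)⁻¹ * ∑ c : H, ((ξ : H → ℂ) zH / (ξ : H → ℂ) 1)
          * (χ (c : G) * conj ((ξ : H → ℂ) c)) := by
        congr 1
        exact Finset.sum_congr rfl (fun c _ => key c)
    _ = ((ξ : H → ℂ) zH / (ξ : H → ℂ) 1) * ((Nat.card H : ℂ)⁻¹ *
          ∑ g : H, resFun H χ g * conj ((ξ : H → ℂ) g)) := by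
        rw [← Finset.mul_sum]
        simp only [resFun_apply]
        ring

/-- the expansion of the contributions through the normalised contributions of `b` -/
theorem subContrib_expand (hM : Cfsg.IsPModular p M) [Fact p.Prime] (z : G) (H : Subgroup G)
    [Fintype H] (ξ₀ : Cfsg.IrrCharacter H) [Fintype (Cfsg.IrrCharacter H)]
    [DecidablePred (· ∈ Cfsg.blockOf M (ξ₀ : H → ℂ))] (χ ψ : G → ℂ) :
    (p : ℂ) ^ Cfsg.blockDefect p (Cfsg.blockOf M (ξ₀ : H → ℂ))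
        * subContrib p z H (Cfsg.blockOf M (ξ₀ : H → ℂ)) χ ψ
      = ∑ ξ ∈ Finset.univ.filter (· ∈ Cfsg.blockOf M (ξ₀ : H → ℂ)),
          ∑ ξ' ∈ Finset.univ.filter (· ∈ Cfsg.blockOf M (ξ₀ : H → ℂ)),
            Cfsg.classInner (fun c : H => χ (z * (c : G))) (ξ : H → ℂ)
              * conj (Cfsg.classInner (fun c : H => ψ (z * (c : G))) (ξ' : H → ℂ))
              * (mH p (Cfsg.blockOf M (ξ₀ : H → ℂ)) ξ ξ' : ℂ) := by
  classical
  obtain ⟨b, hb⟩ : ∃ b : Set (Cfsg.IrrCharacter H), b = Cfsg.blockOf M (ξ₀ : H → ℂ) := ⟨_, rfl⟩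
  obtain ⟨A, hA⟩ : ∃ A : Cfsg.IrrCharacter H → ℂ,
      A = fun (ξ : Cfsg.IrrCharacter H) =>
        Cfsg.classInner (fun c : H => χ (z * (c : G))) (ξ : H → ℂ) := ⟨_, rfl⟩
  obtain ⟨A', hA'⟩ : ∃ A' : Cfsg.IrrCharacter H → ℂ,
      A' = fun (ξ : Cfsg.IrrCharacter H) =>
        Cfsg.classInner (fun c : H => ψ (z * (c : G))) (ξ : H → ℂ) := ⟨_, rfl⟩
  have hterm : ∀ ξ ∈ Finset.univ.filter (· ∈ Cfsg.blockOf M (ξ₀ : H → ℂ)),
      ∀ ξ' ∈ Finset.univ.filter (· ∈ Cfsg.blockOf M (ξ₀ : H → ℂ)),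
      A ξ * conj (A' ξ') * (mH p (Cfsg.blockOf M (ξ₀ : H → ℂ)) ξ ξ' : ℂ)
      = (p : ℂ) ^ Cfsg.blockDefect p (Cfsg.blockOf M (ξ₀ : H → ℂ)) * ((Nat.card H : ℂ)⁻¹ *
        ∑ s ∈ Finset.univ.filter (fun s : H => ¬ p ∣ orderOf s),
          (A ξ * conj (A' ξ')) * ((ξ : H → ℂ) s * conj ((ξ' : H → ℂ) s))) := by
    intro ξ _ ξ' hξ'
    rw [← pow_defect_mul_regInner hM ξ₀ ξ ξ' (Finset.mem_filter.mp hξ').2, ← Finset.mul_sum]
    ring
  have hgoal : ∑ ξ ∈ Finset.univ.filter (· ∈ Cfsg.blockOf M (ξ₀ : H → ℂ)),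
          ∑ ξ' ∈ Finset.univ.filter (· ∈ Cfsg.blockOf M (ξ₀ : H → ℂ)),
            A ξ * conj (A' ξ') * (mH p (Cfsg.blockOf M (ξ₀ : H → ℂ)) ξ ξ' : ℂ)
      = (p : ℂ) ^ Cfsg.blockDefect p (Cfsg.blockOf M (ξ₀ : H → ℂ))
        * subContrib p z H (Cfsg.blockOf M (ξ₀ : H → ℂ)) χ ψ := by
    rw [Finset.sum_congr rfl (fun ξ hξ => Finset.sum_congr rfl (fun ξ' hξ' => hterm ξ hξ ξ' hξ'))]
    have hs : ∀ s : H, Cfsg.blockPart (Cfsg.blockOf M (ξ₀ : H → ℂ)) (fun c : H => χ (z * (c : G))) s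
        * conj (Cfsg.blockPart (Cfsg.blockOf M (ξ₀ : H → ℂ)) (fun c : H => ψ (z * (c : G))) s)
        = ∑ ξ ∈ Finset.univ.filter (· ∈ Cfsg.blockOf M (ξ₀ : H → ℂ)),
          ∑ ξ' ∈ Finset.univ.filter (· ∈ Cfsg.blockOf M (ξ₀ : H → ℂ)),
            (A ξ * conj (A' ξ')) * ((ξ : H → ℂ) s * conj ((ξ' : H → ℂ) s)) := by
      intro s
      rw [blockPart_eq_finset_sum, blockPart_eq_finset_sum, map_sum, Finset.sum_mul_sum]
      apply Finset.sum_congr rfl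
      intro ξ _
      apply Finset.sum_congr rfl
      intro ξ' _
      rw [hA, hA', map_mul]
      ring
    unfold subContrib
    simp_rw [hs]
    have hswap : ∑ s ∈ Finset.univ.filter (fun s : H => ¬ p ∣ orderOf s),
          ∑ ξ ∈ Finset.univ.filter (· ∈ Cfsg.blockOf M (ξ₀ : H → ℂ)),
          ∑ ξ' ∈ Finset.univ.filter (· ∈ Cfsg.blockOf M (ξ₀ : H → ℂ)),
            (A ξ * conj (A' ξ')) * ((ξ : H → ℂ) s * conj ((ξ' : H → ℂ) s))
        = ∑ ξ ∈ Finset.univ.filter (· ∈ Cfsg.blockOf M (ξ₀ : H → ℂ)),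
          ∑ ξ' ∈ Finset.univ.filter (· ∈ Cfsg.blockOf M (ξ₀ : H → ℂ)),
          ∑ s ∈ Finset.univ.filter (fun s : H => ¬ p ∣ orderOf s),
            (A ξ * conj (A' ξ')) * ((ξ : H → ℂ) s * conj ((ξ' : H → ℂ) s)) := by
      rw [Finset.sum_comm]
      apply Finset.sum_congr rfl
      intro ξ _
      rw [Finset.sum_comm]
    rw [hswap, Finset.mul_sum, Finset.mul_sum]
    apply Finset.sum_congr rfl
    intro ξ _
    rw [Finset.mul_sum, Finset.mul_sum]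
  rw [hA, hA'] at hgoal
  exact hgoal.symm

end shift

end Cfsg.Agent.Lib.Helper6
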