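import Mathlib
import Cfsg.Agent.Lib.Helper6.PB4
import Cfsg.Agent.Lib.Helper6.SubContribExp
import Cfsg.Agent.Lib.Helper6.BlkOrthFull
import Cfsg.Agent.Lib.Helper6.BlkSecond3
import Cfsg.Agent.Lib.Helper6.BlkExtFirst
import Cfsg.Agent.Lib.Helper6.DefectZeroCover
import Cfsg.Agent.S0973

/-!
# The second main theorem for a Sylow subgroup of prime order
-/

set_option autoImplicit false
set_option linter.unusedSectionVars false

namespace Cfsg.Agent.Lib.Helper6.PB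

open Cfsg.Agent.Lib.Helper6
open scoped ComplexConjugate

variable {G : Type*} [Group G] [Fintype G] [DecidableEq G] {p : ℕ} [hp : Fact p.Prime]
variable (P : Sylow p G)
variable [Fintype ↥(Subgroup.centralizer ((P : Subgroup G) : Set G))]
variable [Fintype ↥(Subgroup.normalizer ((P : Subgroup G) : Set G))]
variable {M : Ideal Cfsg.AlgInt}

local notation "𝐂" => Subgroup.centralizer ((P : Subgroup G) : Set G)
local notation "𝐍" => Subgroup.normalizer ((P : Subgroup G) : Set G)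

/-- two blocks, one contained in the other, are equal -/
theorem isPBlock_eq_of_subset {K : Type*} [Group K] [Fintype K] [DecidableEq K]
    (hM : Cfsg.IsPModular p M) {b₁ b₂ : Set (Cfsg.IrrCharacter K)}
    (h₁ : Cfsg.IsPBlock M b₁) (h₂ : Cfsg.IsPBlock M b₂) (h : b₁ ⊆ b₂) : b₁ = b₂ := by
  obtain ⟨χ₁, rfl⟩ := h₁
  obtain ⟨χ₂, rfl⟩ := h₂
  have h1 : χ₁ ∈ Cfsg.blockOf M (χ₂ : K → ℂ) := h (sameBlock_refl hM _)
  exact (blockOf_eq_of_mem hM h1).symm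

/-- the extended first main theorem, for a subgroup equal to `Q C_G(Q)` -/
theorem conj_aux (hM : Cfsg.IsPModular p M) (Q : Subgroup G) (hQ : IsPGroup p Q)
    (K : Subgroup G) [Fintype K] [Fintype (Subgroup.normalizer (Q : Set G))]
    (hK : K = Q ⊔ Subgroup.centralizer (Q : Set G))
    {B : Set (Cfsg.IrrCharacter G)} (hBP : Cfsg.IsDefectGroup p M B Q)
    (b b' : Set (Cfsg.IrrCharacter K)) (hb : Cfsg.IsInducedBlock M K b B)
    (hb' : Cfsg.IsInducedBlock M K b' B) :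
    ∃ n ∈ Subgroup.normalizer (Q : Set G), ∀ θ ∈ b, ∃ θ' ∈ b', ∀ x : K,
      ∀ hx : n * (x : G) * n⁻¹ ∈ K, (θ' : K → ℂ) x = (θ : K → ℂ) ⟨n * (x : G) * n⁻¹, hx⟩ := by
  subst hK
  exact extFirstMain_conj hM Q hQ hBP b b' hb hb'

theorem exists_aux (hM : Cfsg.IsPModular p M) (Q : Subgroup G)
    (K : Subgroup G) (hK : K = Q ⊔ Subgroup.centralizer (Q : Set G))
    {B : Set (Cfsg.IrrCharacter G)} (hB : Cfsg.IsPBlock M B) (hBP : Cfsg.IsDefectGroup p M B Q) :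
    ∃ b : Set (Cfsg.IrrCharacter K), Cfsg.IsInducedBlock M K b B := by
  subst hK
  obtain ⟨⟨b, -, hb⟩, -⟩ := Cfsg.Agent.S0973.result p M hM B hB Q hBP
  exact ⟨b, hb⟩

section order

variable (hP : Nat.card P = p) (hM : Cfsg.IsPModular p M)
include hP hM

/-- the blocks of the centralizer inducing a given block are conjugate under the normalizer -/
theorem exists_act_image_eq {B : Set (Cfsg.IrrCharacter G)}
    (hBP : Cfsg.IsDefectGroup p M B (P : Subgroup G)) {b b' : Set (Cfsg.IrrCharacter 𝐂)}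
    (hb : Cfsg.IsInducedBlock M 𝐂 b B) (hb' : Cfsg.IsInducedBlock M 𝐂 b' B) :
    ∃ n : 𝐍, b' = act P n '' b := by
  have hK : 𝐂 = (P : Subgroup G) ⊔ 𝐂 := (sup_eq_right.mpr (P_le_C P hP)).symm
  obtain ⟨n, hn, h⟩ := conj_aux hM (P : Subgroup G) P.isPGroup' 𝐂 hK hBP b b' hb hb'
  refine ⟨(⟨n, hn⟩ : 𝐍)⁻¹, ?_⟩
  symm
  apply isPBlock_eq_of_subset hM (isPBlock_act_image P _ hb.1) hb'.1
  rintro _ ⟨θ, hθ, rfl⟩
  obtain ⟨θ', hθ', h1⟩ := h θ hθ
  have : act P (⟨n, hn⟩ : 𝐍)⁻¹ θ = θ' := by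
    apply Subtype.ext
    funext x
    rw [act_apply, h1 x (conj_mem_C P hn x.2)]
    apply congrArg
    apply Subtype.ext
    rw [cj_symm_apply_coe]
    simp
  rw [this]
  exact hθ'

/-- a block with defect group `P` is induced from a block of the centralizer -/
theorem exists_loc {B : Set (Cfsg.IrrCharacter G)} (hB : Cfsg.IsPBlock M B)
    (hBP : Cfsg.IsDefectGroup p M B (P : Subgroup G)) :
    ∃ L : Loc M P, Cfsg.IsInducedBlock M 𝐂 L.b B := by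
  have hK : 𝐂 = (P : Subgroup G) ⊔ 𝐂 := (sup_eq_right.mpr (P_le_C P hP)).symm
  obtain ⟨b, hb⟩ := exists_aux hM (P : Subgroup G) 𝐂 hK hB hBP
  obtain ⟨θ, hθ, hθP⟩ := exists_theta P hP hM hb.1
  exact ⟨⟨b, θ, hb.1, hθ, hθP⟩, hb⟩

/-- the block part of a shifted restriction -/
theorem blockPart_shift [Fintype (Cfsg.IrrCharacter 𝐂)] (b' : Set (Cfsg.IrrCharacter 𝐂))
    [DecidablePred (· ∈ b')] (χ : Cfsg.IrrCharacter G) {z : G} (hz : z ∈ (P : Subgroup G))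
    (y : 𝐂) :
    Cfsg.blockPart b' (fun c : 𝐂 => (χ : G → ℂ) (z * (c : G))) y
      = ∑ ξ ∈ Finset.univ.filter (· ∈ b'),
          (mlt P χ ξ : ℂ) * (ξ : 𝐂 → ℂ) (⟨z, P_le_C P hP hz⟩ * y) := by
  rw [blockPart_eq_finset_sum]
  apply Finset.sum_congr rfl
  intro ξ _
  have hzc : ∀ h : 𝐂, (⟨z, P_le_C P hP hz⟩ : 𝐂) * h = h * ⟨z, P_le_C P hP hz⟩ :=
    fun h => PD_central P ((mem_PD_iff P _).mpr hz) h
  rw [classInner_shift_eq z 𝐂 ⟨z, P_le_C P hP hz⟩ rfl hzc (χ : G → ℂ) ξ]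
  have h1 : Cfsg.classInner (resFun 𝐂 (χ : G → ℂ)) (ξ : 𝐂 → ℂ) = (mlt P χ ξ : ℂ) := mlt_spec P χ ξ
  rw [h1, apply_mul_of_mem_P P ξ (y := ⟨z, P_le_C P hP hz⟩) hz y]
  have h1ne : (ξ : 𝐂 → ℂ) 1 ≠ 0 := IsIrrCharacter.apply_one_ne_zero ξ.2
  field_simp

/-- if a block of the centralizer does not induce the block of `χ`, all its members have the
same multiplicity in the restriction of `χ` -/
theorem mlt_eq_of_not_induced (L : Loc M P) (χ : Cfsg.IrrCharacter G)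
    (hnot : ¬ Cfsg.IsInducedBlock M 𝐂 L.b (Cfsg.blockOf M (χ : G → ℂ)))
    {ξ : Cfsg.IrrCharacter 𝐂} (hξ : ξ ∈ L.b) : mlt P χ ξ = mlt P χ L.θ := by
  classical
  have : Fintype (Cfsg.IrrCharacter 𝐂) := Fintype.ofFinite _
  set Φ : 𝐂 → ℂ := ∑ ξ' ∈ Finset.univ.filter (· ∈ L.b), (mlt P χ ξ' : ℂ) • (ξ' : 𝐂 → ℂ) with hΦ
  have hΦapp : ∀ c : 𝐂, Φ c = ∑ ξ' ∈ Finset.univ.filter (· ∈ L.b),
      (mlt P χ ξ' : ℂ) * (ξ' : 𝐂 → ℂ) c := by
    intro c
    rw [hΦ, Finset.sum_apply]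
    rfl
  -- `Φ` vanishes at the `p`-singular elements
  have hvan : ∀ c : 𝐂, p ∣ orderOf (c : G) → Φ c = 0 := by
    intro c hc
    obtain ⟨z, hz, hz1, y, hy, hyp, hczy⟩ := exists_decomp_C P hP c.2 hc
    have h1 := second_main_chars hM z ⟨1, by rw [pow_one]; exact orderOf_eq_of_mem P hP hz hz1⟩
      𝐂 (centralizer_singleton_eq P hP hz hz1).symm ⟨χ, rfl⟩ χ (sameBlock_refl hM _) L.hb hnot
      ⟨y, hy⟩ (by rwa [Subgroup.orderOf_mk])
    rw [blockPart_shift P hP hM L.b χ hz ⟨y, hy⟩] at h1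
    rw [hΦapp]
    have h2 : c = ⟨z, P_le_C P hP hz⟩ * ⟨y, hy⟩ := Subtype.ext hczy
    rw [h2]
    exact h1
  -- the coefficients of `Φ`
  have hcoef : ∀ ξ₀ : Cfsg.IrrCharacter 𝐂, ξ₀ ∈ L.b →
      Cfsg.classInner Φ (ξ₀ : 𝐂 → ℂ) = (mlt P χ ξ₀ : ℂ) := by
    intro ξ₀ hξ₀
    rw [hΦ, classInner_sum_left, Finset.sum_eq_single ξ₀]
    · rw [classInner_smul_left, Loc.classInner_irr_eq rfl, mul_one]
    · intro ξ' _ hne
      rw [classInner_smul_left, Loc.classInner_irr_ne hne, mul_zero]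
    · intro h
      exact absurd (Finset.mem_filter.mpr ⟨Finset.mem_univ _, hξ₀⟩) h
  have hsame : Cfsg.classInner Φ (ξ : 𝐂 → ℂ) = Cfsg.classInner Φ (L.θ : 𝐂 → ℂ) := by
    unfold Cfsg.classInner
    congr 1
    apply Finset.sum_congr rfl
    intro c _
    by_cases hc : p ∣ orderOf (c : G)
    · rw [hvan c hc, zero_mul, zero_mul]
    · rw [eq_theta_of_pRegular P hP hM L.hb L.hθ L.hθP hξ c (by rwa [← Subgroup.orderOf_coe])]
  rw [hcoef ξ hξ, hcoef L.θ L.hθ] at hsame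
  exact_mod_cast hsame

/-- a character of degree prime to `p` in the induced block has non-constant multiplicities -/
theorem exists_mlt_ne (L : Loc M P) {B : Set (Cfsg.IrrCharacter G)}
    (hind : Cfsg.IsInducedBlock M 𝐂 L.b B) (hBP : Cfsg.IsDefectGroup p M B (P : Subgroup G))
    (χ : Cfsg.IrrCharacter G) (hχ : χ ∈ B) (hχp : ¬ p ∣ Cfsg.charDegree (χ : G → ℂ)) :
    ∃ ξ ∈ L.b, mlt P χ ξ ≠ mlt P χ L.θ := by
  classical
  have : Fintype (Cfsg.IrrCharacter 𝐂) := Fintype.ofFinite _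
  by_contra hcon
  push Not at hcon
  apply hχp
  have hχc := IsIrrCharacter.isCharacter χ.2
  have hχcf := IsIrrCharacter.isClassFunction χ.2
  have hvan : ∀ g : G, p ∣ orderOf g → (χ : G → ℂ) g = 0 := by
    intro g hg
    obtain ⟨t, z, hz, hz1, y, hy, hyp, hgt⟩ := exists_conj_decomp P hP g hg
    have h1 : (χ : G → ℂ) g = (χ : G → ℂ) (z * y) := by
      rw [← hgt]
      have := hχcf g t⁻¹
      rw [inv_inv] at this
      exact this.symm
    rw [h1]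
    have hzC : z ∈ 𝐂 := P_le_C P hP hz
    have hϑ : Cfsg.IsClassFunction 𝐂 (fun c : 𝐂 => (χ : G → ℂ) (z * (c : G))) := by
      intro c h
      have hcomm : z * (h : G) = (h : G) * z := by
        have := PD_central P ((mem_PD_iff P ⟨z, hzC⟩).mpr hz) h
        exact congrArg Subtype.val this
      change (χ : G → ℂ) (z * ((h * c * h⁻¹ : 𝐂) : G)) = (χ : G → ℂ) (z * (c : G))
      have h2 : z * ((h * c * h⁻¹ : 𝐂) : G) = (h : G) * (z * (c : G)) * (h : G)⁻¹ := by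
        simp only [Subgroup.coe_mul, Subgroup.coe_inv]
        calc z * ((h : G) * (c : G) * (h : G)⁻¹) = (z * (h : G)) * (c : G) * (h : G)⁻¹ := by group
          _ = ((h : G) * z) * (c : G) * (h : G)⁻¹ := by rw [hcomm]
          _ = (h : G) * (z * (c : G)) * (h : G)⁻¹ := by group
      rw [h2]
      exact hχcf _ _
    have hyp' : ¬ p ∣ orderOf (⟨y, hy⟩ : 𝐂) := by rwa [Subgroup.orderOf_mk]
    have key := apply_eq_zero_of_blockPart_eq_zero hM hϑ ⟨y, hy⟩ ?_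
    · exact key
    intro ψ₀
    by_cases hb' : Cfsg.IsInducedBlock M 𝐂 (Cfsg.blockOf M (ψ₀ : 𝐂 → ℂ)) B
    · -- a conjugate of the block
      obtain ⟨n, hn⟩ := exists_act_image_eq P hP hM hBP hind hb'
      rw [blockPart_shift P hP hM _ χ hz ⟨y, hy⟩]
      have h3 : ∀ ξ' ∈ Finset.univ.filter (· ∈ Cfsg.blockOf M (ψ₀ : 𝐂 → ℂ)),
          (mlt P χ ξ' : ℂ) * (ξ' : 𝐂 → ℂ) (⟨z, hzC⟩ * ⟨y, hy⟩)
            = (mlt P χ L.θ : ℂ) * (ξ' : 𝐂 → ℂ) (⟨z, hzC⟩ * ⟨y, hy⟩) := by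
        intro ξ' hξ'
        have h4 : ξ' ∈ act P n '' L.b := by
          rw [← hn]; exact (Finset.mem_filter.mp hξ').2
        obtain ⟨ξ, hξ, rfl⟩ := h4
        rw [mlt_act, hcon ξ hξ]
      rw [Finset.sum_congr rfl h3, ← Finset.mul_sum]
      obtain ⟨θ', hθ', hθ'P⟩ := exists_theta P hP hM hb'.1
      rw [sum_block_of_pSingular P hP hM hb'.1 hθ' hθ'P, mul_zero]
      -- the element is `p`-singular
      have hcomm : Commute (⟨y, hy⟩ : 𝐂) ⟨z, hzC⟩ :=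
        (PD_central P ((mem_PD_iff P ⟨z, hzC⟩).mpr hz) ⟨y, hy⟩).symm
      have hzne : (⟨z, hzC⟩ : 𝐂) ≠ 1 := fun h => hz1 (congrArg Subtype.val h)
      have hzord : orderOf (⟨z, hzC⟩ : 𝐂) = p ^ 1 := by
        rw [Subgroup.orderOf_mk, pow_one]
        exact orderOf_eq_of_mem P hP hz hz1
      have := pSingular_mul_of_commute hp.out hyp' hzne hzord hcomm
      rwa [hcomm.eq] at this
    · exact second_main_chars hM z ⟨1, by rw [pow_one]; exact orderOf_eq_of_mem P hP hz hz1⟩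
        𝐂 (centralizer_singleton_eq P hP hz hz1).symm hind.2.1 χ hχ ⟨ψ₀, rfl⟩ hb' ⟨y, hy⟩ hyp'
  have := IsCharacter.pow_dvd_degree_of_vanish hp.out hχc hvan 1
    (by rw [pow_one]; exact dvd_card P hP)
  rwa [pow_one] at this

end order

end Cfsg.Agent.Lib.Helper6.PB
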