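import Mathlib

/-!
# The combinatorial lemma behind Brauer's theorem on blocks of defect one

Integer vectors `a j` (`j : J`, `|J| = t`) on a finite set `X` with Gram matrix `e * 1 + I`
and without zero columns: then `|X| ≤ e + t`, and in the case of equality the shape of the
vectors is determined.
-/

set_option autoImplicit false
set_option linter.unusedSectionVars false

namespace Cfsg.Agent.Lib.Helper6.PB

open Finset

section column

variable {J : Type*} [Fintype J] [DecidableEq J]

/-- the quadratic form `(t+1) |v|^2 - (sum v)^2` -/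
def colForm (v : J → ℤ) : ℤ := ((Fintype.card J : ℤ) + 1) * ∑ j, v j ^ 2 - (∑ j, v j) ^ 2

private theorem col_aux (v : J → ℤ) (hv : v ≠ 0) :
    ∃ (S : Finset J) (Q s : ℤ), S = univ.filter (fun j => v j ≠ 0) ∧ Q = ∑ j, v j ^ 2 ∧ s = ∑ j, v j ∧
      Q = ∑ j ∈ S, v j ^ 2 ∧ s = ∑ j ∈ S, v j ∧
      s ^ 2 ≤ (S.card : ℤ) * Q ∧ (S.card : ℤ) ≤ Q ∧ 1 ≤ (S.card : ℤ) ∧
      (S.card : ℤ) ≤ Fintype.card J ∧ ∀ j ∈ S, 1 ≤ v j ^ 2 := by
  refine ⟨univ.filter (fun j => v j ≠ 0), ∑ j, v j ^ 2, ∑ j, v j, rfl, rfl, rfl, ?_, ?_, ?_, ?_, ?_,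
    ?_, ?_⟩
  · symm
    apply Finset.sum_filter_of_ne
    intro j _ hj h0
    apply hj
    rw [h0]; ring
  · exact (Finset.sum_filter_ne_zero univ).symm
  · have h1 : ∑ j, v j = ∑ j ∈ univ.filter (fun j => v j ≠ 0), v j :=
      (Finset.sum_filter_ne_zero univ).symm
    have h2 : ∑ j, v j ^ 2 = ∑ j ∈ univ.filter (fun j => v j ≠ 0), v j ^ 2 := by
      symm
      apply Finset.sum_filter_of_ne
      intro j _ hj h0
      apply hj
      rw [h0]; ring
    rw [h1, h2]
    exact sq_sum_le_card_mul_sum_sq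
  · have h2 : ∑ j, v j ^ 2 = ∑ j ∈ univ.filter (fun j => v j ≠ 0), v j ^ 2 := by
      symm
      apply Finset.sum_filter_of_ne
      intro j _ hj h0
      apply hj
      rw [h0]; ring
    rw [h2, Finset.card_eq_sum_ones]
    push_cast
    apply Finset.sum_le_sum
    intro j hj
    have hj0 : v j ≠ 0 := (Finset.mem_filter.mp hj).2
    have : 0 < v j ^ 2 := by positivity
    linarith
  · have : (univ.filter (fun j => v j ≠ 0)).Nonempty := by
      by_contra hne
      rw [Finset.not_nonempty_iff_eq_empty] at hne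
      apply hv
      funext j
      by_contra hj
      have hj' : v j ≠ 0 := hj
      have : j ∈ univ.filter (fun j => v j ≠ 0) := by simp [hj']
      rw [hne] at this
      exact absurd this (Finset.notMem_empty j)
    have := Finset.card_pos.mpr this
    exact_mod_cast this
  · exact_mod_cast Finset.card_le_univ _
  · intro j hj
    have hj0 : v j ≠ 0 := (Finset.mem_filter.mp hj).2
    have : 0 < v j ^ 2 := by positivity
    linarith

theorem colForm_ge (v : J → ℤ) (hv : v ≠ 0) : (Fintype.card J : ℤ) ≤ colForm v := by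
  obtain ⟨S, Q, s, -, hQ, hs, -, -, h1, h2, h3, h4, -⟩ := col_aux v hv
  unfold colForm
  rw [← hQ, ← hs]
  nlinarith [mul_nonneg (by linarith : (0 : ℤ) ≤ (Fintype.card J : ℤ) + 1 - S.card)
    (by linarith : (0 : ℤ) ≤ Q - S.card),
    mul_nonneg (by linarith : (0 : ℤ) ≤ (S.card : ℤ) - 1)
    (by linarith : (0 : ℤ) ≤ (Fintype.card J : ℤ) - S.card)]

theorem colForm_eq (v : J → ℤ) (hv : v ≠ 0) (h : colForm v = Fintype.card J) :
    (∃ j₀, (v j₀ = 1 ∨ v j₀ = -1) ∧ ∀ j, j ≠ j₀ → v j = 0) ∨
      (∃ ε : ℤ, (ε = 1 ∨ ε = -1) ∧ ∀ j, v j = ε) := by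
  obtain ⟨S, Q, s, hS, hQ, hs, hQS, hsS, h1, h2, h3, h4, h5⟩ := col_aux v hv
  unfold colForm at h
  rw [← hQ, ← hs] at h
  set t : ℤ := (Fintype.card J : ℤ) with ht
  set m : ℤ := (S.card : ℤ) with hm
  have e1 : 0 ≤ (t + 1 - m) * (Q - m) := mul_nonneg (by linarith) (by linarith)
  have e2 : 0 ≤ (m - 1) * (t - m) := mul_nonneg (by linarith) (by linarith)
  have e3 : (t + 1 - m) * (Q - m) = 0 := by nlinarith
  have e4 : (m - 1) * (t - m) = 0 := by nlinarith
  have e5 : s ^ 2 = m * Q := by nlinarith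
  have hQm : Q = m := by
    rcases mul_eq_zero.mp e3 with h6 | h6
    · linarith
    · linarith
  have hsq : ∀ j ∈ S, v j ^ 2 = 1 := by
    have h6 : ∑ j ∈ S, (1 : ℤ) = ∑ j ∈ S, v j ^ 2 := by
      rw [← hQS, hQm, hm, Finset.card_eq_sum_ones]
      push_cast
      rfl
    have h7 := (Finset.sum_eq_sum_iff_of_le (fun j hj => h5 j hj)).mp h6
    intro j hj
    exact (h7 j hj).symm
  have hpm : ∀ j ∈ S, v j = 1 ∨ v j = -1 := by
    intro j hj
    have h6 := hsq j hj
    have h7 : (v j - 1) * (v j + 1) = 0 := by ring_nf; linarith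
    rcases mul_eq_zero.mp h7 with h8 | h8
    · left; linarith
    · right; linarith
  rcases mul_eq_zero.mp e4 with h6 | h6
  · -- one nonzero entry
    left
    have hc : S.card = 1 := by
      have : (S.card : ℤ) = 1 := by linarith
      exact_mod_cast this
    obtain ⟨j₀, hj₀⟩ := Finset.card_eq_one.mp hc
    refine ⟨j₀, hpm j₀ (by rw [hj₀]; exact Finset.mem_singleton_self _), ?_⟩
    intro j hj
    by_contra hvj
    have : j ∈ S := by rw [hS]; simp [hvj]
    rw [hj₀, Finset.mem_singleton] at this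
    exact hj this
  · -- all entries nonzero
    right
    have hc : S.card = Fintype.card J := by
      have : (S.card : ℤ) = (Fintype.card J : ℤ) := by linarith
      exact_mod_cast this
    have hSu : S = univ := (Finset.card_eq_iff_eq_univ S).mp hc
    have hall : ∀ j, v j = 1 ∨ v j = -1 := fun j => hpm j (by rw [hSu]; exact Finset.mem_univ j)
    have hst : s ^ 2 = t ^ 2 := by
      rw [e5, hQm]
      have : m = t := by linarith
      rw [this]; ring
    have hst' : (s - t) * (s + t) = 0 := by ring_nf; linarith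
    rcases mul_eq_zero.mp hst' with h7 | h7
    · refine ⟨1, Or.inl rfl, ?_⟩
      have h8 : ∑ j, (1 - v j) = 0 := by
        rw [Finset.sum_sub_distrib, ← hs]
        simp only [Finset.sum_const, Finset.card_univ, nsmul_eq_mul, mul_one]
        linarith
      have h9 := (Finset.sum_eq_zero_iff_of_nonneg (fun j _ => by
        rcases hall j with h | h <;> rw [h] <;> norm_num)).mp h8
      intro j
      have := h9 j (Finset.mem_univ j)
      linarith
    · refine ⟨-1, Or.inr rfl, ?_⟩
      have h8 : ∑ j, (1 + v j) = 0 := by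
        rw [Finset.sum_add_distrib, ← hs]
        simp only [Finset.sum_const, Finset.card_univ, nsmul_eq_mul, mul_one]
        linarith
      have h9 := (Finset.sum_eq_zero_iff_of_nonneg (fun j _ => by
        rcases hall j with h | h <;> rw [h] <;> norm_num)).mp h8
      intro j
      have := h9 j (Finset.mem_univ j)
      linarith

end column

section main

variable {X J : Type*} [Fintype X] [Fintype J] [DecidableEq J] [DecidableEq X]

/-- the sum of the column forms -/
theorem sum_colForm (a : J → X → ℤ) (e : ℤ)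
    (hgram : ∀ i j, ∑ χ, a i χ * a j χ = e + if i = j then 1 else 0) :
    ∑ χ, colForm (fun j => a j χ) = (Fintype.card J : ℤ) * (e + Fintype.card J) := by
  unfold colForm
  rw [Finset.sum_sub_distrib, ← Finset.mul_sum]
  have h1 : ∑ χ, ∑ j, a j χ ^ 2 = (Fintype.card J : ℤ) * (e + 1) := by
    rw [Finset.sum_comm]
    have : ∀ j, ∑ χ, a j χ ^ 2 = e + 1 := by
      intro j
      have := hgram j j
      rw [if_pos rfl] at this
      rw [← this]
      apply Finset.sum_congr rfl
      intro χ _
      ring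
    rw [Finset.sum_congr rfl (fun j _ => this j)]
    simp only [Finset.sum_const, Finset.card_univ, nsmul_eq_mul]
  have h2 : ∑ χ, (∑ j, a j χ) ^ 2
      = (Fintype.card J : ℤ) * (Fintype.card J : ℤ) * e + Fintype.card J := by
    have : ∀ χ, (∑ j, a j χ) ^ 2 = ∑ i, ∑ j, a i χ * a j χ := by
      intro χ
      rw [sq, Finset.sum_mul_sum]
    rw [Finset.sum_congr rfl (fun χ _ => this χ), Finset.sum_comm]
    have h3 : ∀ i, ∑ χ, ∑ j, a i χ * a j χ = (Fintype.card J : ℤ) * e + 1 := by
      intro i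
      rw [Finset.sum_comm]
      rw [Finset.sum_congr rfl (fun j _ => hgram i j), Finset.sum_add_distrib]
      simp only [Finset.sum_const, Finset.card_univ, nsmul_eq_mul, Finset.sum_ite_eq,
        Finset.mem_univ, if_true]
    rw [Finset.sum_congr rfl (fun i _ => h3 i)]
    simp only [Finset.sum_const, Finset.card_univ, nsmul_eq_mul]
    ring
  rw [h1, h2]
  ring

theorem comb_bound [Nonempty J] (a : J → X → ℤ) (e : ℕ)
    (hgram : ∀ i j, ∑ χ, a i χ * a j χ = (e : ℤ) + if i = j then 1 else 0)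
    (hne : ∀ χ, ∃ j, a j χ ≠ 0) :
    Fintype.card X ≤ e + Fintype.card J := by
  have h1 := sum_colForm a e hgram
  have h2 : ∑ _χ : X, (Fintype.card J : ℤ) ≤ ∑ χ, colForm (fun j => a j χ) := by
    apply Finset.sum_le_sum
    intro χ _
    apply colForm_ge
    intro h0
    obtain ⟨j, hj⟩ := hne χ
    exact hj (congrFun h0 j)
  rw [h1] at h2
  simp only [Finset.sum_const, Finset.card_univ, nsmul_eq_mul] at h2
  have ht : (0 : ℤ) < Fintype.card J := by exact_mod_cast Fintype.card_pos
  have h3 : (Fintype.card X : ℤ) ≤ e + Fintype.card J := by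
    by_contra hlt
    rw [not_le] at hlt
    nlinarith
  exact_mod_cast h3

/-- in the case of equality every column is a signed unit vector or a signed constant vector -/
theorem comb_columns [Nonempty J] (a : J → X → ℤ) (e : ℕ)
    (hgram : ∀ i j, ∑ χ, a i χ * a j χ = (e : ℤ) + if i = j then 1 else 0)
    (hne : ∀ χ, ∃ j, a j χ ≠ 0) (hcard : Fintype.card X = e + Fintype.card J) (χ : X) :
    (∃ j₀, (a j₀ χ = 1 ∨ a j₀ χ = -1) ∧ ∀ j, j ≠ j₀ → a j χ = 0) ∨
      (∃ ε : ℤ, (ε = 1 ∨ ε = -1) ∧ ∀ j, a j χ = ε) := by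
  have h1 := sum_colForm a e hgram
  have hnz : ∀ χ, (fun j => a j χ) ≠ 0 := by
    intro χ h0
    obtain ⟨j, hj⟩ := hne χ
    exact hj (congrFun h0 j)
  have h2 : ∑ χ, (colForm (fun j => a j χ) - (Fintype.card J : ℤ)) = 0 := by
    rw [Finset.sum_sub_distrib, h1]
    simp only [Finset.sum_const, Finset.card_univ, nsmul_eq_mul]
    rw [hcard]
    push_cast
    ring
  have h3 := (Finset.sum_eq_zero_iff_of_nonneg (fun χ _ => by
    have := colForm_ge _ (hnz χ); linarith)).mp h2
  have h4 : colForm (fun j => a j χ) = Fintype.card J := by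
    have := h3 χ (Finset.mem_univ χ)
    linarith
  exact colForm_eq _ (hnz χ) h4

/-- the structure in the case of equality -/
theorem comb_struct [Nonempty J] (a : J → X → ℤ) (e : ℕ)
    (hgram : ∀ i j, ∑ χ, a i χ * a j χ = (e : ℤ) + if i = j then 1 else 0)
    (hne : ∀ χ, ∃ j, a j χ ≠ 0) (hcard : Fintype.card X = e + Fintype.card J) :
    ∃ (Λ : J → X) (δ : X → ℤ), Function.Injective Λ ∧ (∀ χ, δ χ = 1 ∨ δ χ = -1) ∧
      (∀ j, a j (Λ j) = δ (Λ j)) ∧ (∀ i j, i ≠ j → a j (Λ i) = 0) ∧
      (∀ χ, χ ∉ Set.range Λ → ∀ j, a j χ = δ χ) := by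
  classical
  have hcol := comb_columns a e hgram hne hcard
  choose jm hjm using hne
  have hδ : ∀ χ, a (jm χ) χ = 1 ∨ a (jm χ) χ = -1 := by
    intro χ
    rcases hcol χ with ⟨j₀, hj₀, hz⟩ | ⟨ε, hε, hall⟩
    · have : jm χ = j₀ := by
        by_contra hne'
        exact hjm χ (hz _ hne')
      rw [this]; exact hj₀
    · rw [hall]; exact hε
  by_cases ht : Fintype.card J = 1
  · -- a single index
    obtain ⟨j₀, hj₀⟩ := Fintype.card_eq_one_iff.mp ht
    have hX : 0 < Fintype.card X := by rw [hcard]; omega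
    obtain ⟨χ₀⟩ := Fintype.card_pos_iff.mp hX
    refine ⟨fun _ => χ₀, fun χ => a (jm χ) χ, ?_, hδ, ?_, ?_, ?_⟩
    · intro i j _
      rw [hj₀ i, hj₀ j]
    · intro j
      change a j χ₀ = a (jm χ₀) χ₀
      rw [hj₀ j, hj₀ (jm χ₀)]
    · intro i j hij
      exact absurd ((hj₀ i).trans (hj₀ j).symm) hij
    · intro χ _ j
      change a j χ = a (jm χ) χ
      rw [hj₀ j, hj₀ (jm χ)]
  · -- at least two indices
    have ht2 : 1 < Fintype.card J := by
      have : 0 < Fintype.card J := Fintype.card_pos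
      omega
    obtain ⟨i₁, i₂, hi12⟩ := Fintype.exists_pair_of_one_lt_card ht2
    let K : X → Prop := fun χ => ∃ ε : ℤ, (ε = 1 ∨ ε = -1) ∧ ∀ j, a j χ = ε
    have hU : ∀ χ, ¬ K χ → ∃ j₀, (a j₀ χ = 1 ∨ a j₀ χ = -1) ∧ ∀ j, j ≠ j₀ → a j χ = 0 := by
      intro χ hK
      rcases hcol χ with h | h
      · exact h
      · exact absurd h hK
    -- the number of constant columns
    have hK : ((univ.filter K).card : ℤ) = e := by
      have h1 := hgram i₁ i₂
      rw [if_neg hi12, add_zero] at h1
      rw [← h1, Finset.card_eq_sum_ones, Finset.sum_filter]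
      push_cast
      apply Finset.sum_congr rfl
      intro χ _
      by_cases hχ : K χ
      · rw [if_pos hχ]
        obtain ⟨ε, hε, hall⟩ := hχ
        rw [hall, hall]
        rcases hε with h | h <;> rw [h] <;> norm_num
      · rw [if_neg hχ]
        obtain ⟨j₀, -, hz⟩ := hU χ hχ
        by_cases h1 : i₁ = j₀
        · have : i₂ ≠ j₀ := fun h2 => hi12 (h1.trans h2.symm)
          rw [hz _ this, mul_zero]
        · rw [hz _ h1, zero_mul]
    have hone : ∀ j, (univ.filter (fun χ => ¬ K χ ∧ a j χ ≠ 0)).card = 1 := by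
      intro j
      have h1 := hgram j j
      rw [if_pos rfl] at h1
      have h2 : ∑ χ, a j χ * a j χ
          = ((univ.filter K).card : ℤ) + ((univ.filter (fun χ => ¬ K χ ∧ a j χ ≠ 0)).card : ℤ) := by
        rw [Finset.card_eq_sum_ones, Finset.card_eq_sum_ones, Finset.sum_filter, Finset.sum_filter]
        push_cast
        rw [← Finset.sum_add_distrib]
        apply Finset.sum_congr rfl
        intro χ _
        by_cases hχ : K χ
        · rw [if_pos hχ, if_neg (fun h => h.1 hχ)]
          obtain ⟨ε, hε, hall⟩ := hχ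
          rw [hall]
          rcases hε with h | h <;> rw [h] <;> norm_num
        · rw [if_neg hχ]
          obtain ⟨j₀, hj₀, hz⟩ := hU χ hχ
          by_cases h1 : j = j₀
          · have h3 : a j χ ≠ 0 := by
              rw [h1]
              rcases hj₀ with h | h <;> rw [h] <;> norm_num
            rw [if_pos ⟨hχ, h3⟩, h1]
            rcases hj₀ with h | h <;> rw [h] <;> norm_num
          · rw [hz _ h1, if_neg (fun h => h.2 rfl)]
            norm_num
      rw [h2, hK] at h1
      have : ((univ.filter (fun χ => ¬ K χ ∧ a j χ ≠ 0)).card : ℤ) = 1 := by linarith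
      exact_mod_cast this
    have hex : ∀ j, ∃ χ, univ.filter (fun χ => ¬ K χ ∧ a j χ ≠ 0) = {χ} :=
      fun j => Finset.card_eq_one.mp (hone j)
    choose Λ hΛ using hex
    have hΛ1 : ∀ j, ¬ K (Λ j) ∧ a j (Λ j) ≠ 0 := by
      intro j
      have : Λ j ∈ univ.filter (fun χ => ¬ K χ ∧ a j χ ≠ 0) := by
        rw [hΛ j]; exact Finset.mem_singleton_self _
      exact (Finset.mem_filter.mp this).2
    have hΛ2 : ∀ j χ, ¬ K χ → a j χ ≠ 0 → χ = Λ j := by
      intro j χ h1 h2
      have : χ ∈ univ.filter (fun χ => ¬ K χ ∧ a j χ ≠ 0) :=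
        Finset.mem_filter.mpr ⟨Finset.mem_univ _, h1, h2⟩
      rw [hΛ j] at this
      exact Finset.mem_singleton.mp this
    have hpos : ∀ j, ∀ i, a i (Λ j) ≠ 0 → i = j := by
      intro j i hi
      obtain ⟨j₀, -, hz⟩ := hU (Λ j) (hΛ1 j).1
      have h1 : j = j₀ := by
        by_contra h
        exact (hΛ1 j).2 (hz _ h)
      have h2 : i = j₀ := by
        by_contra h
        exact hi (hz _ h)
      rw [h1, h2]
    refine ⟨Λ, fun χ => a (jm χ) χ, ?_, hδ, ?_, ?_, ?_⟩
    · intro i j hij
      have h1 := (hΛ1 i).2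
      rw [hij] at h1
      exact hpos j i h1
    · intro j
      change a j (Λ j) = a (jm (Λ j)) (Λ j)
      rw [hpos j (jm (Λ j)) (hjm _)]
    · intro i j hij
      by_contra h
      exact hij (hpos i j h).symm
    · intro χ hχ j
      change a j χ = a (jm χ) χ
      by_cases hK' : K χ
      · obtain ⟨ε, -, hall⟩ := hK'
        rw [hall, hall]
      · exfalso
        obtain ⟨j₀, hj₀, -⟩ := hU χ hK'
        apply hχ
        refine ⟨j₀, (hΛ2 j₀ χ hK' ?_).symm⟩
        rcases hj₀ with h | h <;> rw [h] <;> norm_num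

end main

section rank

open Module

/-- vectors with Gram matrix `e * 1 + I` are linearly independent -/
theorem linearIndependent_of_gram {X J : Type*} [Fintype X] [Fintype J] [DecidableEq J]
    (a : J → X → ℤ) (e : ℕ)
    (hgram : ∀ i j, ∑ χ, a i χ * a j χ = (e : ℤ) + if i = j then 1 else 0) :
    LinearIndependent ℂ (fun j : J => (fun χ : X => (a j χ : ℂ))) := by
  rw [Fintype.linearIndependent_iff]
  intro g hg i
  have hgramC : ∀ i j, ∑ χ, (a i χ : ℂ) * (a j χ : ℂ) = (e : ℂ) + if i = j then 1 else 0 := by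
    intro i j
    have := congrArg (fun z : ℤ => (z : ℂ)) (hgram i j)
    push_cast at this
    rw [this]
  -- pair the relation with `a i`
  have h1 : ∀ i, (e : ℂ) * ∑ j, g j + g i = 0 := by
    intro i
    have h2 : ∑ χ, (∑ j, g j • (fun χ : X => (a j χ : ℂ))) χ * (a i χ : ℂ) = 0 := by
      rw [hg]
      simp
    have h3 : ∑ χ, (∑ j, g j • (fun χ : X => (a j χ : ℂ))) χ * (a i χ : ℂ)
        = ∑ j, g j * ((e : ℂ) + if j = i then 1 else 0) := by
      simp only [Finset.sum_apply, Pi.smul_apply, smul_eq_mul, Finset.sum_mul]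
      rw [Finset.sum_comm]
      apply Finset.sum_congr rfl
      intro j _
      rw [← hgramC j i, Finset.mul_sum]
      apply Finset.sum_congr rfl
      intro χ _
      ring
    rw [h3] at h2
    simp only [mul_add, Finset.sum_add_distrib, mul_ite, mul_one, mul_zero, Finset.sum_ite_eq',
      Finset.mem_univ, if_true] at h2
    rw [← Finset.sum_mul] at h2
    linear_combination h2
  -- sum up
  have h4 : ((Fintype.card J : ℂ) * (e : ℂ) + 1) * ∑ j, g j = 0 := by
    have := Finset.sum_congr rfl (fun i (_ : i ∈ Finset.univ) => h1 i)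
    simp only [Finset.sum_add_distrib, Finset.sum_const, Finset.card_univ, nsmul_eq_mul] at this
    linear_combination this
  have h5 : ((Fintype.card J : ℂ) * (e : ℂ) + 1) ≠ 0 := by
    have : ((Fintype.card J * e + 1 : ℕ) : ℂ) ≠ 0 :=
      Nat.cast_ne_zero.mpr (Nat.succ_ne_zero (Fintype.card J * e))
    push_cast at this
    exact this
  have h6 : ∑ j, g j = 0 := by
    rcases mul_eq_zero.mp h4 with h | h
    · exact absurd h h5
    · exact h
  have := h1 i
  rw [h6, mul_zero, zero_add] at this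
  exact this

/-- a family satisfying `|J|` independent relations spans a space of dimension at most
`|X| - |J|` -/
theorem finrank_span_add_card_le {X J V : Type*} [Fintype X] [Fintype J] [DecidableEq J]
    [AddCommGroup V] [Module ℂ V] (v : X → V) (a : J → X → ℤ) (e : ℕ)
    (hgram : ∀ i j, ∑ χ, a i χ * a j χ = (e : ℤ) + if i = j then 1 else 0)
    (hrel : ∀ j, ∑ χ, (a j χ : ℂ) • v χ = 0) :
    finrank ℂ (Submodule.span ℂ (Set.range v)) + Fintype.card J ≤ Fintype.card X := by
  have h1 := LinearMap.finrank_range_add_finrank_ker (Fintype.linearCombination ℂ v)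
  rw [Fintype.range_linearCombination, Module.finrank_fintype_fun_eq_card] at h1
  have hli := linearIndependent_of_gram a e hgram
  have hker : ∀ j, (fun χ : X => (a j χ : ℂ)) ∈ LinearMap.ker (Fintype.linearCombination ℂ v) := by
    intro j
    rw [LinearMap.mem_ker, Fintype.linearCombination_apply]
    exact hrel j
  have hli' : LinearIndependent ℂ (fun j : J =>
      (⟨fun χ : X => (a j χ : ℂ), hker j⟩ : LinearMap.ker (Fintype.linearCombination ℂ v))) := by
    apply LinearIndependent.of_comp (Submodule.subtype _)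
    exact hli
  have h2 := hli'.fintype_card_le_finrank
  omega

end rank

end Cfsg.Agent.Lib.Helper6.PB
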