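import Mathlib
import Cfsg.Agent.Lib.Helper6.PB5
import Cfsg.Agent.Lib.Helper6.PB6

/-!
# Classes of non-canonical characters and the local inequalities
-/

set_option autoImplicit false
set_option linter.unusedSectionVars false

namespace Cfsg.Agent.Lib.Helper6.PB

open Cfsg.Agent.Lib.Helper6
open scoped ComplexConjugate

variable {G : Type*} [Group G] [Fintype G] [DecidableEq G] {p : ℕ} [hp : Fact p.Prime]
variable {P : Sylow p G}
variable [Fintype ↥(Subgroup.centralizer ((P : Subgroup G) : Set G))]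
variable [Fintype ↥(Subgroup.normalizer ((P : Subgroup G) : Set G))]
variable {M : Ideal Cfsg.AlgInt}

local notation "𝐂" => Subgroup.centralizer ((P : Subgroup G) : Set G)
local notation "𝐍" => Subgroup.normalizer ((P : Subgroup G) : Set G)

namespace Loc

variable (L : Loc M P)

/-- conjugacy under the normalizer on the non-canonical members of the block -/
def rel : Setoid {ξ : Cfsg.IrrCharacter 𝐂 // ξ ∈ L.star} where
  r ξ ξ' := ∃ n : 𝐍, act P n ξ.1 = ξ'.1
  iseqv := by
    refine ⟨fun ξ => ⟨1, act_one P _⟩, ?_, ?_⟩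
    · rintro ξ ξ' ⟨n, hn⟩
      exact ⟨n⁻¹, by rw [← hn, act_inv_act]⟩
    · rintro ξ ξ' ξ'' ⟨n, hn⟩ ⟨m, hm⟩
      exact ⟨m * n, by rw [act_mul, hn, hm]⟩

/-- the classes -/
abbrev J := Quotient L.rel

/-- representatives of the classes -/
noncomputable def rep (j : L.J) : Cfsg.IrrCharacter 𝐂 := (Quotient.out j).1

theorem rep_mem (j : L.J) : L.rep j ∈ L.star := (Quotient.out j).2

theorem rel_rep_iff (i j : L.J) : (∃ n : 𝐍, act P n (L.rep j) = L.rep i) ↔ i = j := by
  constructor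
  · intro h
    have h1 : L.rel.r (Quotient.out j) (Quotient.out i) := h
    have h2 := Quotient.sound (s := L.rel) h1
    rw [Quotient.out_eq, Quotient.out_eq] at h2
    exact h2.symm
  · rintro rfl
    exact ⟨1, act_one P _⟩

theorem rel_rep_mk {ξ : Cfsg.IrrCharacter 𝐂} (hξ : ξ ∈ L.star) (j : L.J) :
    (∃ n : 𝐍, act P n (L.rep j) = ξ) ↔ j = Quotient.mk L.rel ⟨ξ, hξ⟩ := by
  constructor
  · intro h
    have h1 : L.rel.r (Quotient.out j) ⟨ξ, hξ⟩ := h
    have h2 := Quotient.sound (s := L.rel) h1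
    rw [Quotient.out_eq] at h2
    exact h2
  · rintro rfl
    have := Quotient.exact (s := L.rel) (Quotient.out_eq (Quotient.mk L.rel ⟨ξ, hξ⟩))
    exact this

section count

variable (hP : Nat.card P = p) (hM : Cfsg.IsPModular p M)
include hP hM

theorem card_star : Nat.card L.star = p - 1 := by
  have h1 : L.star = L.b \ {L.θ} := by
    ext ξ
    simp [star]
  rw [Nat.card_coe_set_eq, h1, Set.ncard_sdiff_singleton_of_mem L.hθ,
    ← Nat.card_coe_set_eq, card_block P hP hM L.hb]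

/-- the number of members of a class -/
theorem card_class [Fintype (Cfsg.IrrCharacter 𝐂)] [DecidablePred (· ∈ L.star)]
    {ξ₀ : Cfsg.IrrCharacter 𝐂} (hξ₀ : ξ₀ ∈ L.star)
    [DecidablePred (fun ξ' : Cfsg.IrrCharacter 𝐂 => ∃ n : 𝐍, act P n ξ₀ = ξ')] :
    ((Finset.univ.filter (· ∈ L.star)).filter
      (fun ξ' : Cfsg.IrrCharacter 𝐂 => ∃ n : 𝐍, act P n ξ₀ = ξ')).card = L.e := by
  classical
  have h1 : ∑ ξ' ∈ Finset.univ.filter (· ∈ L.star),
      ∑ n : 𝐍, (if act P n ξ₀ = ξ' then (1 : ℂ) else 0) = (L.e : ℂ) * (Nat.card 𝐂 : ℂ) := by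
    rw [Finset.sum_comm, ← L.sum_stab]
    apply Finset.sum_congr rfl
    intro n _
    rw [Finset.sum_ite_eq]
    by_cases h : act P n L.θ = L.θ
    · rw [if_pos h, if_pos]
      exact Finset.mem_filter.mpr ⟨Finset.mem_univ _, (L.act_mem_star_iff hP hM hξ₀ n).mpr h⟩
    · rw [if_neg h, if_neg]
      intro h'
      exact h ((L.act_mem_star_iff hP hM hξ₀ n).mp (Finset.mem_filter.mp h').2)
  have h2 : ∑ ξ' ∈ Finset.univ.filter (· ∈ L.star),
      ∑ n : 𝐍, (if act P n ξ₀ = ξ' then (1 : ℂ) else 0)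
      = (((Finset.univ.filter (· ∈ L.star)).filter
          (fun ξ' : Cfsg.IrrCharacter 𝐂 => ∃ n : 𝐍, act P n ξ₀ = ξ')).card : ℂ)
        * (Nat.card 𝐂 : ℂ) := by
    have h3 : (((Finset.univ.filter (· ∈ L.star)).filter
          (fun ξ' : Cfsg.IrrCharacter 𝐂 => ∃ n : 𝐍, act P n ξ₀ = ξ')).card : ℂ)
        * (Nat.card 𝐂 : ℂ) = ∑ ξ' ∈ Finset.univ.filter (· ∈ L.star),
          if (∃ n : 𝐍, act P n ξ₀ = ξ') then (Nat.card 𝐂 : ℂ) else 0 := by
      rw [← Finset.sum_filter, Finset.sum_const, nsmul_eq_mul]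
    rw [h3]
    apply Finset.sum_congr rfl
    intro ξ' _
    by_cases h : ∃ n : 𝐍, act P n ξ₀ = ξ'
    · rw [if_pos h]
      convert L.sum_transporter hP hM hξ₀ h using 2
    · rw [if_neg h]
      convert sum_transporter_of_not h using 2
  rw [h2] at h1
  have hne := card_ne_zero_complex 𝐂
  have h3 := mul_right_cancel₀ hne h1
  exact_mod_cast h3

/-- the number of classes -/
theorem card_J_mul_e : Nat.card L.J * L.e = p - 1 := by
  classical
  have : Fintype (Cfsg.IrrCharacter 𝐂) := Fintype.ofFinite _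
  have : Fintype L.J := Fintype.ofFinite _
  have h1 : (Finset.univ.filter (· ∈ L.star)).card = p - 1 := by
    rw [← L.card_star hP hM, Nat.card_eq_fintype_card, Fintype.card_subtype]
  have h2 : ∑ ξ ∈ Finset.univ.filter (· ∈ L.star),
      ∑ j : L.J, (if ∃ n : 𝐍, act P n (L.rep j) = ξ then 1 else 0)
      = (Finset.univ.filter (· ∈ L.star)).card := by
    rw [Finset.card_eq_sum_ones]
    apply Finset.sum_congr rfl
    intro ξ hξ
    have hξ' : ξ ∈ L.star := (Finset.mem_filter.mp hξ).2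
    rw [Finset.sum_eq_single (Quotient.mk L.rel ⟨ξ, hξ'⟩)]
    · rw [if_pos ((L.rel_rep_mk hξ' _).mpr rfl)]
    · intro j _ hj
      rw [if_neg]
      intro h
      exact hj ((L.rel_rep_mk hξ' j).mp h)
    · intro h
      exact absurd (Finset.mem_univ _) h
  rw [Finset.sum_comm] at h2
  have h3 : ∀ j : L.J, ∑ ξ ∈ Finset.univ.filter (· ∈ L.star),
      (if ∃ n : 𝐍, act P n (L.rep j) = ξ then 1 else 0) = L.e := by
    intro j
    rw [← Finset.card_filter]
    exact L.card_class hP hM (L.rep_mem j)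
  rw [Finset.sum_congr rfl (fun j _ => h3 j)] at h2
  simp only [Finset.sum_const, Finset.card_univ, smul_eq_mul] at h2
  rw [Nat.card_eq_fintype_card, h2, h1]

end count

section bounds

theorem pRegularPart_sum {ι : Type*} (s : Finset ι) (c : ι → ℂ) (f : ι → G → ℂ) :
    Cfsg.pRegularPart p (∑ i ∈ s, c i • f i) = ∑ i ∈ s, c i • Cfsg.pRegularPart p (f i) := by
  classical
  funext g
  rw [Finset.sum_apply]
  simp only [Pi.smul_apply, Cfsg.pRegularPart]
  by_cases hg : Cfsg.IsPRegular p g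
  · simp only [if_pos hg, Finset.sum_apply, Pi.smul_apply]
  · simp only [if_neg hg, smul_zero, Finset.sum_const_zero]

variable (hP : Nat.card P = p) (hM : Cfsg.IsPModular p M)
include hP hM
variable {B : Set (Cfsg.IrrCharacter G)}
  (hind : Cfsg.IsInducedBlock M (Subgroup.centralizer ((P : Subgroup G) : Set G)) L.b B)
include hind

/-- the coefficients vanish outside the induced block -/
theorem mem_of_aco_ne_zero {ξ : Cfsg.IrrCharacter 𝐂} (hξ : ξ ∈ L.b) {χ : Cfsg.IrrCharacter G}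
    (h : aco P L.θ ξ χ ≠ 0) : χ ∈ B := by
  by_contra hχ
  apply h
  have hnot : ¬ Cfsg.IsInducedBlock M 𝐂 L.b (Cfsg.blockOf M (χ : G → ℂ)) := by
    intro h'
    have := IsInducedBlock.unique _ hM hind h'
    apply hχ
    rw [this]
    exact sameBlock_refl hM _
  unfold aco
  rw [mlt_eq_of_not_induced P hP hM L χ hnot hξ, sub_self]

theorem aco_eq_zero_of_not_mem {ξ : Cfsg.IrrCharacter 𝐂} (hξ : ξ ∈ L.b)
    {χ : Cfsg.IrrCharacter G} (hχ : χ ∉ B) : aco P L.θ ξ χ = 0 := by
  by_contra h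
  exact hχ (L.mem_of_aco_ne_zero hP hM hind hξ h)

theorem sum_aco_rep [Fintype (Cfsg.IrrCharacter G)] [DecidableEq L.J] (i j : L.J) :
    ∑ χ : Cfsg.IrrCharacter G, aco P L.θ (L.rep i) χ * aco P L.θ (L.rep j) χ
      = (L.e : ℤ) + if i = j then 1 else 0 := by
  have h := sum_aco_mul_aco P L.θ (L.rep i) (L.rep j)
  by_cases hij : i = j
  · rw [if_pos hij]
    rw [L.gram_of_rel hP hM (L.rep_mem i) (L.rep_mem j) ((L.rel_rep_iff i j).mpr hij)] at h
    exact_mod_cast h
  · rw [if_neg hij, add_zero]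
    rw [L.gram_of_not_rel hP hM (L.rep_mem i) (L.rep_mem j)
      (fun h' => hij ((L.rel_rep_iff i j).mp h'))] at h
    exact_mod_cast h

theorem sum_filter_aco_rep [Fintype (Cfsg.IrrCharacter G)] [DecidableEq L.J]
    [DecidablePred (· ∈ B)] (i j : L.J) :
    ∑ χ ∈ Finset.univ.filter (· ∈ B), aco P L.θ (L.rep i) χ * aco P L.θ (L.rep j) χ
      = (L.e : ℤ) + if i = j then 1 else 0 := by
  rw [← L.sum_aco_rep hP hM hind i j]
  apply Finset.sum_filter_of_ne
  intro χ _ hne
  by_contra hχ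
  apply hne
  rw [L.aco_eq_zero_of_not_mem hP hM hind (L.rep_mem i).1 hχ, zero_mul]

/-- the relations on the `p`-regular elements -/
theorem sum_filter_aco_pRegularPart [Fintype (Cfsg.IrrCharacter G)] [DecidablePred (· ∈ B)]
    (j : L.J) :
    ∑ χ ∈ Finset.univ.filter (· ∈ B),
      (aco P L.θ (L.rep j) χ : ℂ) • Cfsg.pRegularPart p (χ : G → ℂ) = 0 := by
  have h1 : ∑ χ ∈ Finset.univ.filter (· ∈ B),
      (aco P L.θ (L.rep j) χ : ℂ) • Cfsg.pRegularPart p (χ : G → ℂ)
      = ∑ χ : Cfsg.IrrCharacter G,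
          (aco P L.θ (L.rep j) χ : ℂ) • Cfsg.pRegularPart p (χ : G → ℂ) := by
    apply Finset.sum_filter_of_ne
    intro χ _ hne
    by_contra hχ
    apply hne
    rw [L.aco_eq_zero_of_not_mem hP hM hind (L.rep_mem j).1 hχ, Int.cast_zero, zero_smul]
  rw [h1, ← pRegularPart_sum, ← bet_eq_sum]
  funext g
  unfold Cfsg.pRegularPart
  by_cases hg : Cfsg.IsPRegular p g
  · simp only [if_pos hg]
    exact L.bet_pRegular hP hM (L.rep_mem j).1 g hg
  · simp only [if_neg hg]
    rfl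

variable (hBP : Cfsg.IsDefectGroup p M B (P : Subgroup G))
variable (hBp : ∀ χ ∈ B, ¬ p ∣ Cfsg.charDegree (χ : G → ℂ))
include hBP hBp

theorem exists_aco_ne_zero {χ : Cfsg.IrrCharacter G} (hχ : χ ∈ B) :
    ∃ j : L.J, aco P L.θ (L.rep j) χ ≠ 0 := by
  obtain ⟨ξ, hξ, hne⟩ := exists_mlt_ne P hP hM L hind hBP χ hχ (hBp χ hχ)
  have hξs : ξ ∈ L.star := ⟨hξ, fun h => hne (by rw [h])⟩
  refine ⟨Quotient.mk L.rel ⟨ξ, hξs⟩, ?_⟩
  obtain ⟨n, hn⟩ := (L.rel_rep_mk hξs _).mpr rfl
  unfold aco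
  rw [← mlt_act P χ n (L.rep _), hn]
  intro h
  apply hne
  have : (mlt P χ ξ : ℤ) = (mlt P χ L.θ : ℤ) := by linarith
  exact_mod_cast this

/-- the upper bound for the number of characters in the block -/
theorem card_le : Nat.card B ≤ L.e + Nat.card L.J := by
  classical
  have : Fintype (Cfsg.IrrCharacter G) := Fintype.ofFinite _
  have : Fintype L.J := Fintype.ofFinite _
  have hJne : Nonempty L.J := by
    by_contra hJ
    rw [not_nonempty_iff] at hJ
    have h1 := L.card_J_mul_e hP hM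
    rw [Nat.card_of_isEmpty, zero_mul] at h1
    have := hp.out.two_le
    omega
  have h1 := comb_bound (X := ↥(Finset.univ.filter (· ∈ B))) (J := L.J)
    (fun j χ => aco P L.θ (L.rep j) χ.1) L.e ?_ ?_
  · rw [Fintype.card_coe] at h1
    rw [Nat.card_eq_fintype_card (α := L.J), Nat.card_eq_fintype_card, Fintype.card_subtype]
    exact h1
  · intro i j
    rw [Finset.sum_coe_sort (Finset.univ.filter (· ∈ B))
      (fun χ => aco P L.θ (L.rep i) χ * aco P L.θ (L.rep j) χ)]
    exact L.sum_filter_aco_rep hP hM hind i j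
  · intro χ
    exact L.exists_aco_ne_zero hP hM hind hBP hBp (Finset.mem_filter.mp χ.2).2

omit hBP hBp in
/-- the lower bound for the number of characters in the block -/
theorem rank_add_le : Cfsg.blockRank p B + Nat.card L.J ≤ Nat.card B := by
  classical
  have : Fintype (Cfsg.IrrCharacter G) := Fintype.ofFinite _
  have : Fintype L.J := Fintype.ofFinite _
  have h1 := finrank_span_add_card_le (X := ↥(Finset.univ.filter (· ∈ B))) (J := L.J)
    (fun χ => Cfsg.pRegularPart p (χ.1 : G → ℂ))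
    (fun j χ => aco P L.θ (L.rep j) χ.1) L.e ?_ ?_
  · rw [Fintype.card_coe] at h1
    rw [Nat.card_eq_fintype_card (α := L.J), Nat.card_eq_fintype_card, Fintype.card_subtype]
    have h2 : Set.range (fun χ : ↥(Finset.univ.filter (· ∈ B)) =>
        Cfsg.pRegularPart p (χ.1 : G → ℂ))
        = (fun χ : Cfsg.IrrCharacter G => Cfsg.pRegularPart p (χ : G → ℂ)) '' B := by
      ext f
      constructor
      · rintro ⟨χ, rfl⟩
        exact ⟨χ.1, (Finset.mem_filter.mp χ.2).2, rfl⟩
      · rintro ⟨χ, hχ, rfl⟩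
        exact ⟨⟨χ, Finset.mem_filter.mpr ⟨Finset.mem_univ _, hχ⟩⟩, rfl⟩
    rw [h2] at h1
    exact h1
  · intro i j
    rw [Finset.sum_coe_sort (Finset.univ.filter (· ∈ B))
      (fun χ => aco P L.θ (L.rep i) χ * aco P L.θ (L.rep j) χ)]
    exact L.sum_filter_aco_rep hP hM hind i j
  · intro j
    rw [Finset.sum_coe_sort (Finset.univ.filter (· ∈ B))
      (fun χ => (aco P L.θ (L.rep j) χ : ℂ) • Cfsg.pRegularPart p (χ : G → ℂ))]
    exact L.sum_filter_aco_pRegularPart hP hM hind j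

end bounds

end Loc

end Cfsg.Agent.Lib.Helper6.PB
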