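import Mathlib
import Cfsg.Agent.Lib.Lead.PF2
import Cfsg.Agent.S0886
import Cfsg.Agent.S0146
import Cfsg.Agent.Lib.Helper6.Auto
import Cfsg.Agent.Lib.Helper6.IrrBasis
import Cfsg.Agent.Lib.Helper6.Orthogonality

/-!
# Counting the characters over an irreducible character of a normal subgroup with cyclic quotient
-/

set_option autoImplicit false
set_option linter.unusedSectionVars false

namespace Cfsg.Agent.Lib.Helper6.PB

open Cfsg.Agent.Lib.Helper6
open scoped ComplexConjugate

section abstractCount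

variable {Γ : Type*} [Group Γ] [Fintype Γ]

theorem comm_mem_of_cyclic_quot (K : Subgroup Γ) [hK : K.Normal] (hcyc : IsCyclic (Γ ⧸ K))
    (x y : Γ) : x * y * x⁻¹ * y⁻¹ ∈ K := by
  rw [← QuotientGroup.eq_one_iff]
  obtain ⟨g, hg⟩ := hcyc.exists_generator
  obtain ⟨a, ha⟩ := Subgroup.mem_zpowers_iff.mp (hg (x : Γ ⧸ K))
  obtain ⟨b, hb⟩ := Subgroup.mem_zpowers_iff.mp (hg (y : Γ ⧸ K))
  rw [QuotientGroup.mk_mul, QuotientGroup.mk_mul, QuotientGroup.mk_mul, QuotientGroup.mk_inv,
    QuotientGroup.mk_inv, ← ha, ← hb]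
  have hc : Commute (g ^ a) (g ^ b) := (Commute.refl g).zpow_zpow a b
  rw [hc.eq, mul_inv_cancel_right, mul_inv_cancel]

/-- the stabilizer of an irreducible character of a normal subgroup with cyclic quotient is
at most the number of characters over it, times the order of the subgroup -/
theorem card_stab_le (K T : Subgroup Γ) [hK : K.Normal] [Fintype K] (hcyc : IsCyclic (Γ ⧸ K))
    (θ : K → ℂ) (hθ : Cfsg.IsIrrCharacter K θ)
    (hT : ∀ g : Γ, g ∈ T ↔ ∀ k : K, θ ⟨g * k * g⁻¹, hK.conj_mem k k.2 g⟩ = θ k) :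
    Nat.card T ≤ Nat.card {ψ : Cfsg.IrrCharacter Γ //
        Cfsg.classInner (fun k : K => (ψ : Γ → ℂ) k) θ ≠ 0} * Nat.card K := by
  classical
  have hab : ∀ x ∈ T, ∀ y ∈ T, x * y * x⁻¹ * y⁻¹ ∈ K :=
    fun x _ y _ => comm_mem_of_cyclic_quot K hcyc x y
  obtain ⟨e, C, he, hC, hcard, hind, -, hone⟩ :=
    Cfsg.Agent.Lib.Lead.PF.ind_through_inertia K T θ hθ hT hab
  have hKT : K ≤ T := by
    intro g hg
    rw [hT]
    intro h
    exact IsIrrCharacter.isClassFunction hθ h ⟨g, hg⟩
  have he1 : e = 1 := by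
    have hK'n : (K.subgroupOf T).Normal := hK.subgroupOf T
    have hcyc' : IsCyclic (T ⧸ K.subgroupOf T) := by
      let f : T ⧸ K.subgroupOf T →* Γ ⧸ K :=
        QuotientGroup.map (K.subgroupOf T) K T.subtype (fun x hx => hx)
      have hf : Function.Injective f := by
        rw [injective_iff_map_eq_one]
        intro x
        induction x using QuotientGroup.induction_on with
        | H x =>
          intro hx
          have hx' : ((T.subtype x : Γ) : Γ ⧸ K) = 1 := hx
          rw [QuotientGroup.eq_one_iff] at hx'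
          rw [QuotientGroup.eq_one_iff]
          exact hx'
      exact isCyclic_of_injective f hf
    obtain ⟨χ, hχ, hχK⟩ := Cfsg.Agent.S0886.result (K.subgroupOf T) hcyc'
      (fun x => θ ⟨((x : T) : Γ), Subgroup.mem_subgroupOf.mp x.2⟩)
      (IsIrrCharacter.comp_mulEquiv (Subgroup.subgroupOfEquivOfLe hKT) hθ)
      (by
        intro g n
        exact (hT g).1 g.2 ⟨((n : T) : Γ), Subgroup.mem_subgroupOf.mp n.2⟩)
    exact hone χ hχ (fun k => hχK ⟨⟨k, hKT k.2⟩, Subgroup.mem_subgroupOf.mpr k.2⟩)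
  subst he1
  rw [one_pow, one_mul] at hcard
  rw [← hcard]
  apply Nat.mul_le_mul_right
  -- the members of `C` lie over `θ`
  have hover : ∀ χ ∈ C, Cfsg.classInner (fun k : K => χ k) θ ≠ 0 := by
    intro χ hχ
    have h1 : Cfsg.classInner (Cfsg.indFun K θ) χ = 1 := by
      rw [hind, classInner_smul_left, classInner_sum_left, Finset.sum_eq_single χ]
      · rw [classInner_isIrrCharacter (hC χ hχ) (hC χ hχ), if_pos rfl]
        simp
      · intro χ' hχ' hne
        rw [classInner_isIrrCharacter (hC χ' hχ') (hC χ hχ), if_neg hne]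
      · intro h; exact absurd hχ h
    rw [Cfsg.Agent.S0146.result K θ χ (IsIrrCharacter.isClassFunction (hC χ hχ))] at h1
    rw [← classInner_conj_symm, h1]
    simp
  have : Finite {ψ : Cfsg.IrrCharacter Γ //
        Cfsg.classInner (fun k : K => (ψ : Γ → ℂ) k) θ ≠ 0} := inferInstance
  let F : {χ // χ ∈ C} → {ψ : Cfsg.IrrCharacter Γ //
        Cfsg.classInner (fun k : K => (ψ : Γ → ℂ) k) θ ≠ 0} :=
    fun χ => ⟨⟨χ.1, hC χ.1 χ.2⟩, hover χ.1 χ.2⟩
  have hF : Function.Injective F := by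
    intro χ χ' h
    apply Subtype.ext
    have := congrArg (fun ψ => ((ψ.1 : Cfsg.IrrCharacter Γ) : Γ → ℂ)) h
    exact this
  have := Nat.card_le_card_of_injective F hF
  rwa [Nat.card_eq_fintype_card, Fintype.card_coe] at this

end abstractCount

end Cfsg.Agent.Lib.Helper6.PB
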