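import Mathlib
import Cfsg.Agent.Lib.Helper6.PB7
import Cfsg.Agent.Lib.Helper6.PB8
import Cfsg.Agent.Lib.Helper6.BlkCover
import Cfsg.Agent.Lib.Helper6.BlkNormalP
import Cfsg.Agent.Lib.Helper6.Clifford
import Cfsg.Agent.Lib.Helper6.Norm
import Cfsg.Agent.Lib.Helper6.Mult

/-!
# The characters of the normalizer over the canonical characters
-/

set_option autoImplicit false
set_option linter.unusedSectionVars false

namespace Cfsg.Agent.Lib.Helper6.PB

open Cfsg.Agent.Lib.Helper6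
open scoped ComplexConjugate

section abstractRestrict

variable {Γ : Type*} [Group Γ] [Fintype Γ]

/-- a character lying over a character of `K` trivial on the normal subgroup `Q ≤ K` is trivial
on `Q` -/
theorem trivial_of_over (Q K : Subgroup Γ) [hQ : Q.Normal] [Fintype Q] [Fintype K] (hQK : Q ≤ K)
    {ψ : Γ → ℂ} (hψ : Cfsg.IsIrrCharacter Γ ψ) {θ : K → ℂ} (hθ : Cfsg.IsIrrCharacter K θ)
    (hθQ : ∀ q : Q, θ ⟨q, hQK q.2⟩ = θ 1)
    (hc : Cfsg.classInner (fun k : K => ψ k) θ ≠ 0) : ∀ q : Q, ψ q = ψ 1 := by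
  apply IsIrrCharacter.const_on_normal_of_sum_ne_zero Q hψ
  obtain ⟨B, hB, hAB⟩ := IsCharacter.exists_eq_add_of_constituent
    (IsCharacter.restrict K (IsIrrCharacter.isCharacter hψ)) hθ hc
  have h1 : ∀ q : Q, ψ q = θ ⟨q, hQK q.2⟩ + B ⟨q, hQK q.2⟩ :=
    fun q => congrFun hAB ⟨q, hQK q.2⟩
  obtain ⟨m, hm⟩ := IsCharacter.classInner_nat (IsCharacter.comp (Subgroup.inclusion hQK) hB)
    (isCharacter_one (G := Q))
  have hQ0 : (Nat.card Q : ℂ) ≠ 0 := card_ne_zero_complex Q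
  have h2 : ∑ q : Q, B ⟨q, hQK q.2⟩ = (Nat.card Q : ℂ) * m := by
    rw [← hm]
    unfold Cfsg.classInner
    simp only [map_one, mul_one]
    rw [← mul_assoc, mul_inv_cancel₀ hQ0, one_mul]
    rfl
  obtain ⟨d, hd⟩ := IsCharacter.apply_one_eq_natCast (IsIrrCharacter.isCharacter hθ)
  have hd0 : d ≠ 0 := by
    intro h
    apply IsIrrCharacter.apply_one_ne_zero hθ
    rw [hd, h]; simp
  rw [Finset.sum_congr rfl (fun q _ => h1 q), Finset.sum_add_distrib, h2,
    Finset.sum_congr rfl (fun q _ => hθQ q), Finset.sum_const, Finset.card_univ, nsmul_eq_mul,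
    ← Nat.card_eq_fintype_card, hd, ← mul_add]
  apply mul_ne_zero hQ0
  have : ((d : ℂ) + (m : ℂ)) = ((d + m : ℕ) : ℂ) := by push_cast; rfl
  rw [this]
  exact_mod_cast (by omega : d + m ≠ 0)

/-- the restriction to a complement of an irreducible character trivial on `Q` is irreducible -/
theorem restrict_compl_irr {H : Type*} [Group H] [Fintype H] (Q : Subgroup Γ) [Fintype Q]
    (ι : H →* Γ) (hbij : Function.Bijective (fun x : Q × H => (x.1 : Γ) * ι x.2))
    {ψ : Γ → ℂ} (hψ : Cfsg.IsIrrCharacter Γ ψ) (hQ : ∀ q : Q, ψ q = ψ 1) :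
    Cfsg.IsIrrCharacter H (fun h => ψ (ι h)) := by
  apply isIrrCharacter_of_classInner_self_eq_one
    (IsCharacter.comp ι (IsIrrCharacter.isCharacter hψ))
  have h1 : Cfsg.classInner ψ ψ = 1 := by rw [classInner_isIrrCharacter hψ hψ, if_pos rfl]
  unfold Cfsg.classInner at h1 ⊢
  have hmul : ∀ (q : Q) (h : H), ψ ((q : Γ) * ι h) = ψ (ι h) := fun q h =>
    IsCharacter.apply_mul_left_of_apply_eq (IsIrrCharacter.isCharacter hψ) (hQ q) _
  have hsum : ∑ g : Γ, ψ g * conj (ψ g)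
      = (Nat.card Q : ℂ) * ∑ h : H, ψ (ι h) * conj (ψ (ι h)) := by
    rw [← (Equiv.ofBijective _ hbij).sum_comp, Fintype.sum_prod_type]
    simp only [Equiv.ofBijective_apply, hmul]
    rw [Finset.sum_const, Finset.card_univ, nsmul_eq_mul, Nat.card_eq_fintype_card]
  have hcard : (Nat.card Γ : ℂ) = (Nat.card Q : ℂ) * (Nat.card H : ℂ) := by
    rw [← Nat.cast_mul, ← Nat.card_prod, Nat.card_congr (Equiv.ofBijective _ hbij)]
  rw [hsum, hcard] at h1
  have hQ0 : (Nat.card Q : ℂ) ≠ 0 := card_ne_zero_complex Q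
  have hH0 : (Nat.card H : ℂ) ≠ 0 := card_ne_zero_complex H
  rw [← h1]
  field_simp

/-- two characters trivial on `Q` with equal restrictions to a complement are equal -/
theorem restrict_compl_inj {H : Type*} [Group H] (Q : Subgroup Γ) (ι : H →* Γ)
    (hsurj : Function.Surjective (fun x : Q × H => (x.1 : Γ) * ι x.2))
    {ψ ψ' : Γ → ℂ} (hψ : Cfsg.IsCharacter Γ ψ) (hψ' : Cfsg.IsCharacter Γ ψ')
    (hQ : ∀ q : Q, ψ q = ψ 1) (hQ' : ∀ q : Q, ψ' q = ψ' 1)
    (h : ∀ h : H, ψ (ι h) = ψ' (ι h)) : ψ = ψ' := by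
  funext g
  obtain ⟨⟨q, x⟩, rfl⟩ := hsurj g
  show ψ ((q : Γ) * ι x) = ψ' ((q : Γ) * ι x)
  rw [IsCharacter.apply_mul_left_of_apply_eq hψ (hQ q), IsCharacter.apply_mul_left_of_apply_eq hψ' (hQ' q), h]

end abstractRestrict

variable {G : Type*} [Group G] [Fintype G] [DecidableEq G] {p : ℕ} [hp : Fact p.Prime]
variable (P : Sylow p G)
variable [Fintype ↥(Subgroup.centralizer ((P : Subgroup G) : Set G))]
variable [Fintype ↥(Subgroup.normalizer ((P : Subgroup G) : Set G))]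
variable {M : Ideal Cfsg.AlgInt}

local notation "𝐂" => Subgroup.centralizer ((P : Subgroup G) : Set G)
local notation "𝐍" => Subgroup.normalizer ((P : Subgroup G) : Set G)

/-- the centralizer, inside the normalizer -/
def CN : Subgroup ↥(Subgroup.normalizer ((P : Subgroup G) : Set G)) :=
  Subgroup.subgroupOf (Subgroup.centralizer ((P : Subgroup G) : Set G))
    (Subgroup.normalizer ((P : Subgroup G) : Set G))

/-- the Sylow subgroup, inside the normalizer -/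
def PN : Subgroup ↥(Subgroup.normalizer ((P : Subgroup G) : Set G)) :=
  Subgroup.subgroupOf (P : Subgroup G) (Subgroup.normalizer ((P : Subgroup G) : Set G))

theorem mem_CN (n : 𝐍) : n ∈ CN P ↔ (n : G) ∈ 𝐂 := Subgroup.mem_subgroupOf

theorem mem_PN (n : 𝐍) : n ∈ PN P ↔ (n : G) ∈ (P : Subgroup G) := Subgroup.mem_subgroupOf

instance CN_normal : (CN P).Normal := ⟨fun c hc n => by
  rw [mem_CN] at hc ⊢
  exact conj_mem_C P n.2 hc⟩

instance PN_normal : (PN P).Normal := ⟨fun c hc n => by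
  rw [mem_PN] at hc ⊢
  exact conj_mem_P P n.2 hc⟩

noncomputable instance CN_fintype : Fintype (CN P) := Fintype.ofFinite _

noncomputable instance PN_fintype : Fintype (PN P) := Fintype.ofFinite _

theorem PN_le_CN (hP : Nat.card P = p) : PN P ≤ CN P := by
  intro n hn
  rw [mem_PN] at hn
  rw [mem_CN]
  exact P_le_C P hP hn

theorem card_CN : Nat.card (CN P) = Nat.card 𝐂 :=
  Nat.card_congr (Subgroup.subgroupOfEquivOfLe (C_le_N P)).toEquiv

/-- a function on the centralizer, transported to the centralizer inside the normalizer -/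
def toN (ξ : 𝐂 → ℂ) : CN P → ℂ := fun k => ξ ⟨((k : 𝐍) : G), (mem_CN P _).mp k.2⟩

theorem toN_irr (ξ : Cfsg.IrrCharacter 𝐂) : Cfsg.IsIrrCharacter (CN P) (toN P (ξ : 𝐂 → ℂ)) :=
  IsIrrCharacter.comp_mulEquiv (Subgroup.subgroupOfEquivOfLe (C_le_N P)) ξ.2

theorem isCyclic_quot (hP : Nat.card P = p) : IsCyclic (↥𝐍 ⧸ CN P) := by
  have hPcyc : IsCyclic (P : Subgroup G) := isCyclic_of_prime_card hP
  have hAut : IsCyclic (MulAut (P : Subgroup G)) := by
    have : IsCyclic (ZMod (Nat.card (P : Subgroup G)))ˣ :=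
      ZMod.isCyclic_units_prime (by rw [hP]; exact hp.out)
    exact isCyclic_of_surjective (IsCyclic.mulAutMulEquiv _).symm.toMonoidHom
      (IsCyclic.mulAutMulEquiv _).symm.surjective
  have hker : (Subgroup.normalizerMonoidHom (P : Subgroup G)).ker = CN P :=
    Subgroup.normalizerMonoidHom_ker _
  let f : ↥𝐍 ⧸ CN P →* MulAut (P : Subgroup G) :=
    QuotientGroup.lift (CN P) (Subgroup.normalizerMonoidHom (P : Subgroup G))
      (by intro x hx; rw [← hker] at hx; exact hx)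
  have hf : Function.Injective f := by
    rw [injective_iff_map_eq_one]
    intro x
    induction x using QuotientGroup.induction_on with
    | H x =>
      intro hx
      have hx' : Subgroup.normalizerMonoidHom (P : Subgroup G) x = 1 := hx
      rw [QuotientGroup.eq_one_iff, ← hker]
      exact hx'
  exact isCyclic_of_injective f hf

namespace Loc

variable {P}
variable (L : Loc M P)

theorem mem_stabN_iff (g : 𝐍) : g ∈ L.stabN ↔ ∀ k : CN P,
    toN P (L.θ : 𝐂 → ℂ) ⟨g * k * g⁻¹, (CN_normal P).conj_mem k k.2 g⟩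
      = toN P (L.θ : 𝐂 → ℂ) k := by
  rw [mem_stabN]
  constructor
  · intro h k
    have h1 := congrArg (fun ξ : Cfsg.IrrCharacter 𝐂 => (ξ : 𝐂 → ℂ)
      (cj P g ⟨((k : 𝐍) : G), (mem_CN P _).mp k.2⟩)) h
    simp only [act_apply, MulEquiv.symm_apply_apply] at h1
    exact (congrArg (L.θ : 𝐂 → ℂ) (Subtype.ext rfl)).trans h1.symm
  · intro h
    apply Subtype.ext
    funext c
    rw [act_apply]
    have h1 := h ⟨⟨(((cj P g).symm c : 𝐂) : G), C_le_N P ((cj P g).symm c).2⟩,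
      (mem_CN P _).mpr ((cj P g).symm c).2⟩
    rw [← show toN P (L.θ : 𝐂 → ℂ) ⟨⟨(((cj P g).symm c : 𝐂) : G), C_le_N P ((cj P g).symm c).2⟩,
      (mem_CN P _).mpr ((cj P g).symm c).2⟩ = (L.θ : 𝐂 → ℂ) ((cj P g).symm c) from rfl, ← h1]
    show (L.θ : 𝐂 → ℂ) _ = (L.θ : 𝐂 → ℂ) c
    apply congrArg
    apply Subtype.ext
    show (g : G) * ((g : G)⁻¹ * (c : G) * (g : G)) * (g : G)⁻¹ = c
    group

/-- the inertial index is at most the number of characters of the normalizer over `θ` -/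
theorem e_le_card_over (hP : Nat.card P = p) :
    L.e ≤ Nat.card {ψ : Cfsg.IrrCharacter 𝐍 //
      Cfsg.classInner (fun k : CN P => (ψ : 𝐍 → ℂ) k) (toN P (L.θ : 𝐂 → ℂ)) ≠ 0} := by
  have h1 := card_stab_le (CN P) L.stabN (isCyclic_quot P hP) (toN P (L.θ : 𝐂 → ℂ))
    (toN_irr P L.θ) L.mem_stabN_iff
  rw [L.card_stabN, card_CN] at h1
  exact Nat.le_of_mul_le_mul_right h1 Nat.card_pos

/-- characters over `θ` are trivial on `P` -/
theorem over_trivial (hP : Nat.card P = p) (ψ : Cfsg.IrrCharacter 𝐍)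
    (h : Cfsg.classInner (fun k : CN P => (ψ : 𝐍 → ℂ) k) (toN P (L.θ : 𝐂 → ℂ)) ≠ 0) :
    ∀ z : 𝐍, (z : G) ∈ (P : Subgroup G) → (ψ : 𝐍 → ℂ) z = (ψ : 𝐍 → ℂ) 1 := by
  intro z hz
  have := trivial_of_over (PN P) (CN P) (PN_le_CN P hP) ψ.2 (toN_irr P L.θ) ?_ h
    ⟨z, (mem_PN P z).mpr hz⟩
  · exact this
  · intro q
    have hq : ((q : 𝐍) : G) ∈ (P : Subgroup G) := (mem_PN P _).mp q.2
    exact L.hθP ⟨((q : 𝐍) : G), P_le_C P hP hq⟩ hq

/-- two local data with a common character of the normalizer over them induce the same block -/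
theorem induced_eq_of_over (hP : Nat.card P = p) (hM : Cfsg.IsPModular p M) (L' : Loc M P)
    {B B' : Set (Cfsg.IrrCharacter G)}
    (hB : Cfsg.IsInducedBlock M 𝐂 L.b B) (hB' : Cfsg.IsInducedBlock M 𝐂 L'.b B')
    (ψ : Cfsg.IrrCharacter 𝐍)
    (h : Cfsg.classInner (fun k : CN P => (ψ : 𝐍 → ℂ) k) (toN P (L.θ : 𝐂 → ℂ)) ≠ 0)
    (h' : Cfsg.classInner (fun k : CN P => (ψ : 𝐍 → ℂ) k) (toN P (L'.θ : 𝐂 → ℂ)) ≠ 0) :
    B = B' := by
  obtain ⟨g, hg⟩ := exists_conjFun_eq_of_constituents (CN P) (CN_normal P) ψ.2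
    (toN_irr P L.θ) (toN_irr P L'.θ) h h'
  have hθ' : L'.θ = act P g⁻¹ L.θ := by
    apply Subtype.ext
    funext c
    have h1 := congrFun hg ⟨⟨(c : G), C_le_N P c.2⟩, (mem_CN P _).mpr c.2⟩
    rw [conjFun_apply] at h1
    rw [act_apply]
    refine Eq.trans ?_ (h1.trans ?_)
    · rfl
    · show (L.θ : 𝐂 → ℂ) _ = (L.θ : 𝐂 → ℂ) _
      apply congrArg
      apply Subtype.ext
      show (g : G) * (c : G) * (g : G)⁻¹ = (((g⁻¹ : 𝐍) : G))⁻¹ * (c : G) * ((g⁻¹ : 𝐍) : G)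
      rw [Subgroup.coe_inv, inv_inv]
  have hb' : L'.b = act P g⁻¹ '' L.b := by
    rw [L'.b_eq hP hM, L.b_eq hP hM, act_image_blockOf, hθ']
  have h2 := isInducedBlock_act_image P g⁻¹ hB
  rw [← hb'] at h2
  exact IsInducedBlock.unique _ hM h2 hB'

end Loc

/-- the complement maps bijectively, with `P`, onto the normalizer -/
theorem compl_bijective (hP : Nat.card P = p) (D : MR.LD p G) (hDP : D.P = (P : Subgroup G))
    (hDN : D.N = 𝐍) (hHN : D.H ≤ 𝐍) :
    Function.Bijective (fun x : PN P × D.H => ((x.1 : 𝐍)) * Subgroup.inclusion hHN x.2) := by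
  constructor
  · rintro ⟨z, h⟩ ⟨z', h'⟩ hx
    have hx' : ((z : 𝐍) : G) * (h : G) = ((z' : 𝐍) : G) * (h' : G) :=
      congrArg (fun n : 𝐍 => (n : G)) hx
    have hw2 : ((z' : 𝐍) : G)⁻¹ * ((z : 𝐍) : G) = (h' : G) * (h : G)⁻¹ := by
      rw [inv_mul_eq_iff_eq_mul, ← mul_assoc, ← hx', mul_inv_cancel_right]
    have hwP : ((z' : 𝐍) : G)⁻¹ * ((z : 𝐍) : G) ∈ (P : Subgroup G) :=
      mul_mem (inv_mem ((mem_PN P _).mp z'.2)) ((mem_PN P _).mp z.2)
    have hwH : ((z' : 𝐍) : G)⁻¹ * ((z : 𝐍) : G) ∈ D.H := by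
      rw [hw2]; exact mul_mem h'.2 (inv_mem h.2)
    have hw1 : ((z' : 𝐍) : G)⁻¹ * ((z : 𝐍) : G) = 1 := by
      by_contra hne
      have ho := orderOf_eq_of_mem P hP hwP hne
      have hdvd : orderOf (⟨_, hwH⟩ : D.H) ∣ Nat.card D.H := orderOf_dvd_natCard _
      rw [Subgroup.orderOf_mk, ho] at hdvd
      exact D.hHp hdvd
    have hz : z = z' := by
      apply Subtype.ext; apply Subtype.ext
      rw [inv_mul_eq_one] at hw1; exact hw1.symm
    have hh : h = h' := by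
      apply Subtype.ext
      rw [hw1] at hw2
      have := hw2.symm
      rw [mul_inv_eq_one] at this; exact this.symm
    rw [hz, hh]
  · intro n
    obtain ⟨z, hz, h, hh, hn⟩ := D.hdec n (by rw [hDN]; exact n.2)
    rw [hDP] at hz
    refine ⟨(⟨⟨z, P_le_N P hz⟩, (mem_PN P _).mpr hz⟩, ⟨h, hh⟩), ?_⟩
    apply Subtype.ext
    exact hn.symm

/-- the inertial indices of distinct blocks add up to at most the class number of the complement -/
theorem sum_e_le (hP : Nat.card P = p) (hM : Cfsg.IsPModular p M) (D : MR.LD p G)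
    (hDP : D.P = (P : Subgroup G)) (hDN : D.N = 𝐍)
    (𝔅 : Finset (Set (Cfsg.IrrCharacter G))) (dat : Set (Cfsg.IrrCharacter G) → Loc M P)
    (hdat : ∀ B ∈ 𝔅, Cfsg.IsInducedBlock M 𝐂 (dat B).b B) :
    ∑ B ∈ 𝔅, (dat B).e ≤ Nat.card (Cfsg.IrrCharacter D.H) := by
  classical
  have : Fintype (Cfsg.IrrCharacter 𝐍) := Fintype.ofFinite _
  have : Fintype D.H := Fintype.ofFinite _
  have hHN : D.H ≤ 𝐍 := by rw [← hDN]; exact D.hHN
  have hbij := compl_bijective P hP D hDP hDN hHN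
  let ov : Loc M P → Finset (Cfsg.IrrCharacter 𝐍) := fun L => Finset.univ.filter (fun ψ =>
    Cfsg.classInner (fun k : CN P => (ψ : 𝐍 → ℂ) k) (toN P (L.θ : 𝐂 → ℂ)) ≠ 0)
  have h1 : ∀ L : Loc M P, L.e ≤ (ov L).card := by
    intro L
    have := L.e_le_card_over hP
    rwa [Nat.card_eq_fintype_card, Fintype.card_subtype] at this
  have hdisj : (𝔅 : Set (Set (Cfsg.IrrCharacter G))).PairwiseDisjoint
      (fun B => ov (dat B)) := by
    intro B hB B' hB' hne
    rw [Function.onFun, Finset.disjoint_left]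
    intro ψ hψ hψ'
    exact hne ((dat B).induced_eq_of_over hP hM (dat B') (hdat B hB) (hdat B' hB') ψ
      (Finset.mem_filter.mp hψ).2 (Finset.mem_filter.mp hψ').2)
  have h2 : ∑ B ∈ 𝔅, (ov (dat B)).card = (𝔅.biUnion (fun B => ov (dat B))).card :=
    (Finset.card_biUnion hdisj).symm
  have htriv : ∀ ψ ∈ 𝔅.biUnion (fun B => ov (dat B)), ∀ q : PN P,
      (ψ : 𝐍 → ℂ) q = (ψ : 𝐍 → ℂ) 1 := by
    intro ψ hψ q
    obtain ⟨B, hB, hψB⟩ := Finset.mem_biUnion.mp hψ
    exact (dat B).over_trivial hP ψ (Finset.mem_filter.mp hψB).2 q ((mem_PN P _).mp q.2)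
  let F : {ψ // ψ ∈ 𝔅.biUnion (fun B => ov (dat B))} → Cfsg.IrrCharacter D.H := fun ψ =>
    ⟨fun h => (ψ.1 : 𝐍 → ℂ) (Subgroup.inclusion hHN h),
      restrict_compl_irr (PN P) (Subgroup.inclusion hHN) hbij ψ.1.2 (htriv ψ.1 ψ.2)⟩
  have hF : Function.Injective F := by
    intro ψ ψ' h
    apply Subtype.ext; apply Subtype.ext
    apply restrict_compl_inj (PN P) (Subgroup.inclusion hHN) hbij.2
      (IsIrrCharacter.isCharacter ψ.1.2) (IsIrrCharacter.isCharacter ψ'.1.2)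
      (htriv ψ.1 ψ.2) (htriv ψ'.1 ψ'.2)
    intro x
    exact congrFun (congrArg Subtype.val h) x
  have h3 := Nat.card_le_card_of_injective F hF
  rw [Nat.card_eq_fintype_card, Fintype.card_coe] at h3
  calc ∑ B ∈ 𝔅, (dat B).e ≤ ∑ B ∈ 𝔅, (ov (dat B)).card :=
        Finset.sum_le_sum (fun B _ => h1 (dat B))
    _ = _ := h2
    _ ≤ _ := h3

end Cfsg.Agent.Lib.Helper6.PB
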