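import Mathlib
import Cfsg.Prelude.Def_Blocks
import Cfsg.Agent.Lib.Helper6.BlkHeightZero
import Cfsg.Agent.Lib.Helper6.BlkCenter

set_option autoImplicit false
set_option linter.unusedSectionVars false
open Cfsg

namespace Cfsg.Agent.Lib.Helper6.SL2Blk

open scoped ComplexConjugate
open Cfsg.Agent.Lib.Helper6

section

variable {G : Type*} [Group G] [Fintype G] [DecidableEq G]
variable {p : ℕ} {M : Ideal Cfsg.AlgInt}

/-- the inverse of a `p'`-degree is a local integer -/
theorem memLocalRing_inv_apply_one (hM : Cfsg.IsPModular p M) {χ : G → ℂ}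
    (hχ : Cfsg.IsCharacter G χ) (hd : ¬ p ∣ Cfsg.charDegree χ) :
    Cfsg.MemLocalRing M (χ 1)⁻¹ := by
  rw [IsCharacter.apply_one_eq_charDegree hχ]
  exact memLocalRing_inv_natCast hM hd

/-- for a character of `p'`-degree the central character at a class of size divisible by `p`
lies in the local ideal -/
theorem centralChar_memLocalIdeal_of_dvd_index (hM : Cfsg.IsPModular p M) {χ : G → ℂ}
    (hχ : Cfsg.IsCharacter G χ) (hd : ¬ p ∣ Cfsg.charDegree χ) (g : G)
    (hg : p ∣ (Subgroup.centralizer ({g} : Set G)).index) :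
    Cfsg.MemLocalIdeal M (Cfsg.centralChar χ g) := by
  unfold Cfsg.centralChar
  rw [div_eq_mul_inv]
  apply MemLocalIdeal.mul_right hM _ (memLocalRing_inv_apply_one hM hχ hd)
  apply MemLocalIdeal.mul_right hM _ (memLocalRing_of_isIntegral hM (IsCharacter.isIntegral_apply hχ g))
  exact (memLocalIdeal_natCast_iff hM _).mpr hg

/-- Two irreducible characters of `p'`-degree lie in the same `p`-block as soon as every
element either has class size divisible by `p` or is a `p`-element times an element at which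
the two characters have the same normalized value. -/
theorem sameBlock_of_cases (hM : Cfsg.IsPModular p M) {χ ψ : G → ℂ}
    (hχ : Cfsg.IsIrrCharacter G χ) (hψ : Cfsg.IsIrrCharacter G ψ)
    (hdχ : ¬ p ∣ Cfsg.charDegree χ) (hdψ : ¬ p ∣ Cfsg.charDegree ψ)
    (hcl : ∀ g : G, p ∣ (Subgroup.centralizer ({g} : Set G)).index ∨
      ∃ u z : G, g = u * z ∧ Commute u z ∧ u ^ p = 1 ∧ χ z * ψ 1 = ψ z * χ 1) :
    Cfsg.SameBlock M χ ψ := by
  intro g
  have hχc := IsIrrCharacter.isCharacter hχ
  have hψc := IsIrrCharacter.isCharacter hψ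
  rcases hcl g with hg | ⟨u, z, rfl, huz, hu, hz⟩
  · exact MemLocalIdeal.sub hM (centralChar_memLocalIdeal_of_dvd_index hM hχc hdχ g hg)
      (centralChar_memLocalIdeal_of_dvd_index hM hψc hdψ g hg)
  · have hu' : u ^ (p ^ 1) = 1 := by rwa [pow_one]
    have h1 := IsCharacter.apply_mul_sub_memLocalIdeal hM hχc huz hu'
    have h2 := IsCharacter.apply_mul_sub_memLocalIdeal hM hψc huz hu'
    have hχ1 : χ 1 ≠ 0 := IsIrrCharacter.apply_one_ne_zero hχ
    have hψ1 : ψ 1 ≠ 0 := IsIrrCharacter.apply_one_ne_zero hψ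
    have hkey : Cfsg.centralChar χ (u * z) - Cfsg.centralChar ψ (u * z) =
        ((Subgroup.centralizer ({u * z} : Set G)).index : ℂ) *
          ((χ (u * z) - χ z) * (χ 1)⁻¹ - (ψ (u * z) - ψ z) * (ψ 1)⁻¹) := by
      unfold Cfsg.centralChar
      have hz' : χ z * (χ 1)⁻¹ = ψ z * (ψ 1)⁻¹ := by
        field_simp
        rw [hz]; ring
      rw [div_eq_mul_inv, div_eq_mul_inv]
      linear_combination ((Subgroup.centralizer ({u * z} : Set G)).index : ℂ) * hz'
    rw [hkey]
    apply MemLocalIdeal.mul_left hM (memLocalRing_natCast hM _)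
    exact MemLocalIdeal.sub hM
      (MemLocalIdeal.mul_right hM h1 (memLocalRing_inv_apply_one hM hχc hdχ))
      (MemLocalIdeal.mul_right hM h2 (memLocalRing_inv_apply_one hM hψc hdψ))

/-- a quotient of naturals whose denominator has smaller `p`-part is a local integer -/
theorem memLocalRing_natDiv (hM : Cfsg.IsPModular p M) {A B : ℕ} (hB : B ≠ 0)
    (h : B.factorization p ≤ A.factorization p) : Cfsg.MemLocalRing M ((A : ℂ) / (B : ℂ)) := by
  have hp : p.Prime := hM.1
  have hB' : ¬ p ∣ B / p ^ B.factorization p := Nat.not_dvd_ordCompl hp hB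
  have hBeq : p ^ B.factorization p * (B / p ^ B.factorization p) = B :=
    Nat.ordProj_mul_ordCompl_eq_self B p
  have hdvd : p ^ B.factorization p ∣ A :=
    (pow_dvd_pow p h).trans (Nat.ordProj_dvd A p)
  obtain ⟨A', hA'⟩ := hdvd
  have hp0 : (p : ℂ) ≠ 0 := by exact_mod_cast hp.ne_zero
  have hB'0 : ((B / p ^ B.factorization p : ℕ) : ℂ) ≠ 0 := by
    intro h0
    have : B / p ^ B.factorization p = 0 := by exact_mod_cast h0
    rw [this, mul_zero] at hBeq
    exact hB hBeq.symm
  have hkey : (A : ℂ) / (B : ℂ) = (A' : ℂ) * ((B / p ^ B.factorization p : ℕ) : ℂ)⁻¹ := by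
    have hBc : (B : ℂ) = (p : ℂ) ^ B.factorization p * ((B / p ^ B.factorization p : ℕ) : ℂ) := by
      exact_mod_cast hBeq.symm
    have hAc : (A : ℂ) = (p : ℂ) ^ B.factorization p * (A' : ℂ) := by
      exact_mod_cast hA'
    rw [hAc]
    conv_lhs => rw [hBc]
    field_simp
  rw [hkey]
  exact MemLocalRing.mul hM (memLocalRing_natCast hM _) (memLocalRing_inv_natCast hM hB')

/-- a character of `p`-defect zero is alone in its block -/
theorem blockOf_eq_singleton_of_defect_zero (hM : Cfsg.IsPModular p M)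
    (χ : Cfsg.IrrCharacter G)
    (hd : (Nat.card G).factorization p ≤ (Cfsg.charDegree (χ : G → ℂ)).factorization p) :
    Cfsg.blockOf M (χ : G → ℂ) = {χ} := by
  classical
  apply Set.Subset.antisymm
  · apply blockOf_subset_of_memLocalRing hM {χ} _ χ rfl
    intro g
    unfold Cfsg.blockCoeff
    rw [finsum_mem_singleton]
    have hc := IsIrrCharacter.isCharacter χ.2
    rw [IsCharacter.apply_one_eq_charDegree hc]
    have h1 : (Nat.card G : ℂ)⁻¹ * ((Cfsg.charDegree (χ : G → ℂ) : ℂ) * conj ((χ : G → ℂ) g)) =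
        ((Cfsg.charDegree (χ : G → ℂ) : ℂ) / (Nat.card G : ℂ)) * conj ((χ : G → ℂ) g) := by
      rw [div_eq_mul_inv]; ring
    rw [h1]
    apply MemLocalRing.mul hM
    · exact memLocalRing_natDiv hM Nat.card_pos.ne' hd
    · apply memLocalRing_of_isIntegral hM
      have := IsCharacter.isIntegral_apply hc g
      have h2 : conj ((χ : G → ℂ) g) = (starRingEnd ℂ) ((χ : G → ℂ) g) := rfl
      rw [h2]
      exact this.map (starRingEnd ℂ).toIntAlgHom
  · intro ψ hψ
    rw [Set.mem_singleton_iff] at hψ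
    rw [hψ]
    exact sameBlock_refl hM _

end

end Cfsg.Agent.Lib.Helper6.SL2Blk
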