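import Mathlib
import Cfsg.Agent.Lib.Helper6.PB9
import Cfsg.Agent.Lib.Helper6.MR11
import Cfsg.Agent.Lib.Helper6.SecondOrth
import Cfsg.Agent.Lib.Helper6.DegreeDvd
import Cfsg.Agent.Lib.Helper6.BlkSections
import Cfsg.Agent.Lib.Helper6.SL2Blk1
import Cfsg.Agent.Lib.Helper6.BlkDefConj
import Cfsg.Agent.Lib.Helper6.Multiplicity
import Cfsg.Agent.S0908

/-!
# The global count: the ranks of the blocks of positive defect are the inertial indices
-/

set_option autoImplicit false
set_option linter.unusedSectionVars false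

namespace Cfsg.Agent.Lib.Helper6.PB

open Cfsg.Agent.Lib.Helper6
open scoped ComplexConjugate

section count

variable {G : Type*} [Group G] [Fintype G] [DecidableEq G]

theorem orderOf_conj_eq (g h : G) : orderOf (h * g * h⁻¹) = orderOf g := by
  have := (MulAut.conj h).orderOf_eq g
  rwa [MulAut.conj_apply] at this

/-- the sum of the squared character values over the `p`-regular elements -/
theorem sum_pRegular_irr_sq [Fintype (Cfsg.IrrCharacter G)] (p : ℕ) :
    ∑ y ∈ Finset.univ.filter (fun y : G => ¬ p ∣ orderOf y),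
      ∑ χ : Cfsg.IrrCharacter G, (χ : G → ℂ) y * conj ((χ : G → ℂ) y)
      = (Nat.card G : ℂ) * (Nat.card {c : ConjClasses G //
          ∃ g : G, ¬ p ∣ orderOf g ∧ ConjClasses.mk g = c} : ℂ) := by
  classical
  have : Fintype (ConjClasses G) := Fintype.ofFinite _
  have hF : Cfsg.IsClassFunction G (fun y : G => if ¬ p ∣ orderOf y then
      ∑ χ : Cfsg.IrrCharacter G, (χ : G → ℂ) y * conj ((χ : G → ℂ) y) else 0) := by
    intro g h
    show (if ¬ p ∣ orderOf (h * g * h⁻¹) then _ else 0) = if ¬ p ∣ orderOf g then _ else 0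
    rw [orderOf_conj_eq]
    by_cases hg : ¬ p ∣ orderOf g
    · rw [if_pos hg, if_pos hg]
      apply Finset.sum_congr rfl
      intro χ _
      rw [IsIrrCharacter.isClassFunction χ.2 g h]
    · rw [if_neg hg, if_neg hg]
  rw [Finset.sum_filter, sum_eq_sum_conjClasses _ hF]
  have hterm : ∀ c : ConjClasses G,
      ((Subgroup.centralizer ({Quotient.out c} : Set G)).index : ℂ) *
        (if ¬ p ∣ orderOf (Quotient.out c) then
          ∑ χ : Cfsg.IrrCharacter G, (χ : G → ℂ) (Quotient.out c) *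
            conj ((χ : G → ℂ) (Quotient.out c)) else 0)
        = if ¬ p ∣ orderOf (Quotient.out c) then (Nat.card G : ℂ) else 0 := by
    intro c
    by_cases h : ¬ p ∣ orderOf (Quotient.out c)
    · rw [if_pos h, if_pos h, (sum_irr_mul_conj _ _).1 (IsConj.refl _), ← Nat.cast_mul,
        Subgroup.index_mul_card]
    · rw [if_neg h, if_neg h, mul_zero]
  rw [Finset.sum_congr rfl (fun c _ => hterm c), ← Finset.sum_filter, Finset.sum_const,
    nsmul_eq_mul, mul_comm]
  congr 2
  rw [Nat.card_eq_fintype_card, Fintype.card_subtype]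
  congr 1
  ext c
  simp only [Finset.mem_filter, Finset.mem_univ, true_and]
  constructor
  · intro h
    exact ⟨Quotient.out c, h, Quotient.out_eq c⟩
  · rintro ⟨g, hg, rfl⟩
    have h1 : IsConj (Quotient.out (ConjClasses.mk g)) g :=
      ConjClasses.mk_eq_mk_iff_isConj.mp (Quotient.out_eq _)
    obtain ⟨u, hu⟩ := h1
    have h3 := hu.eq
    have h2 : g = (u : G) * Quotient.out (ConjClasses.mk g) * ((u : G))⁻¹ := by
      rw [h3, mul_inv_cancel_right]
    intro hdvd
    apply hg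
    rw [h2, orderOf_conj_eq]
    exact hdvd

variable {p : ℕ} [hp : Fact p.Prime] {M : Ideal Cfsg.AlgInt}

/-- the ranks of all the blocks add up to the number of `p`-regular classes -/
theorem sum_blockRank (hM : Cfsg.IsPModular p M) [Fintype (Cfsg.IrrCharacter G)]
    [DecidableEq (Set (Cfsg.IrrCharacter G))] :
    ∑ B ∈ Finset.univ.image (fun ψ : Cfsg.IrrCharacter G => Cfsg.blockOf M (ψ : G → ℂ)),
      Cfsg.blockRank p B
      = Nat.card {c : ConjClasses G // ∃ g : G, ¬ p ∣ orderOf g ∧ ConjClasses.mk g = c} := by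
  classical
  have hG : (Nat.card G : ℂ) ≠ 0 := card_ne_zero_complex G
  have h1 : (Nat.card G : ℂ) * ((∑ B ∈ Finset.univ.image
      (fun ψ : Cfsg.IrrCharacter G => Cfsg.blockOf M (ψ : G → ℂ)), Cfsg.blockRank p B : ℕ) : ℂ)
      = (Nat.card G : ℂ) * (Nat.card {c : ConjClasses G //
          ∃ g : G, ¬ p ∣ orderOf g ∧ ConjClasses.mk g = c} : ℂ) := by
    rw [← sum_pRegular_irr_sq p, Nat.cast_sum, Finset.mul_sum]
    have h2 : ∀ B ∈ Finset.univ.image
        (fun ψ : Cfsg.IrrCharacter G => Cfsg.blockOf M (ψ : G → ℂ)),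
        (Nat.card G : ℂ) * (Cfsg.blockRank p B : ℂ)
          = ∑ y ∈ Finset.univ.filter (fun y : G => ¬ p ∣ orderOf y),
              ∑ᶠ χ ∈ B, (χ : G → ℂ) y * conj ((χ : G → ℂ) y) := by
      intro B hB
      obtain ⟨χ₀, -, rfl⟩ := Finset.mem_image.mp hB
      exact blockRank_mul_card hM χ₀
    rw [Finset.sum_congr rfl h2, Finset.sum_comm]
    apply Finset.sum_congr rfl
    intro y _
    have h3 := sum_blockUnion hM (Set.univ : Set (Cfsg.IrrCharacter G))
      (fun _ _ => Set.subset_univ _)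
      (fun χ : Cfsg.IrrCharacter G => (χ : G → ℂ) y * conj ((χ : G → ℂ) y))
    have h4 : (Finset.univ.filter (· ∈ (Set.univ : Set (Cfsg.IrrCharacter G))))
        = Finset.univ := by
      ext χ; simp
    rw [h4] at h3
    exact h3.symm
  have h5 := mul_left_cancel₀ hG h1
  exact_mod_cast h5

end count

section main

variable {G : Type*} [Group G] [Fintype G] [DecidableEq G] {p : ℕ} [hp : Fact p.Prime]
variable (P : Sylow p G)
variable [Fintype ↥(Subgroup.centralizer ((P : Subgroup G) : Set G))]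
variable [Fintype ↥(Subgroup.normalizer ((P : Subgroup G) : Set G))]
variable {M : Ideal Cfsg.AlgInt}

local notation "𝐂" => Subgroup.centralizer ((P : Subgroup G) : Set G)
local notation "𝐍" => Subgroup.normalizer ((P : Subgroup G) : Set G)

theorem charDegree_ne_zero (χ : Cfsg.IrrCharacter G) : Cfsg.charDegree (χ : G → ℂ) ≠ 0 := by
  intro h
  apply IsIrrCharacter.apply_one_ne_zero χ.2
  rw [IsCharacter.apply_one_eq_charDegree (IsIrrCharacter.isCharacter χ.2), h]
  simp

variable (hP : Nat.card P = p)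
include hP

theorem dvd_div_iff (χ : Cfsg.IrrCharacter G) :
    p ∣ Nat.card G / Cfsg.charDegree (χ : G → ℂ) ↔ ¬ p ∣ Cfsg.charDegree (χ : G → ℂ) := by
  obtain ⟨m, hm⟩ := IsIrrCharacter.charDegree_dvd_card χ.2
  have hd0 : Cfsg.charDegree (χ : G → ℂ) ≠ 0 := charDegree_ne_zero χ
  have hq : Nat.card G / Cfsg.charDegree (χ : G → ℂ) = m := by
    rw [hm]; exact Nat.mul_div_cancel_left m (Nat.pos_of_ne_zero hd0)
  rw [hq]
  have h1 := dvd_card P hP
  have h2 := not_sq_dvd_card P hP
  rw [hm] at h1 h2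
  constructor
  · intro hpm hpd
    apply h2
    rw [pow_two]; exact Nat.mul_dvd_mul hpd hpm
  · intro hpd
    exact ((Nat.Prime.dvd_mul hp.out).mp h1).resolve_left hpd

variable (hM : Cfsg.IsPModular p M)
include hM

theorem blockOf_eq_singleton_of_dvd (χ : Cfsg.IrrCharacter G)
    (h : p ∣ Cfsg.charDegree (χ : G → ℂ)) : Cfsg.blockOf M (χ : G → ℂ) = {χ} := by
  apply SL2Blk.blockOf_eq_singleton_of_defect_zero hM χ
  rw [factorization_card P hP]
  exact (hp.out.dvd_iff_one_le_factorization (charDegree_ne_zero χ)).mp h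

theorem not_dvd_of_mem_blockOf {χ₀ χ : Cfsg.IrrCharacter G}
    (h0 : ¬ p ∣ Cfsg.charDegree (χ₀ : G → ℂ)) (hχ : χ ∈ Cfsg.blockOf M (χ₀ : G → ℂ)) :
    ¬ p ∣ Cfsg.charDegree (χ : G → ℂ) := by
  intro h
  have h1 := blockOf_eq_singleton_of_dvd P hP hM χ h
  have h2 := blockOf_eq_of_mem hM hχ
  have h3 : χ₀ ∈ Cfsg.blockOf M (χ₀ : G → ℂ) := sameBlock_refl hM _
  rw [h2, h1] at h3
  have h4 : χ₀ = χ := h3
  exact h0 (h4 ▸ h)

theorem blockDefect_blockOf (χ₀ : Cfsg.IrrCharacter G)
    (h0 : ¬ p ∣ Cfsg.charDegree (χ₀ : G → ℂ)) :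
    Cfsg.blockDefect p (Cfsg.blockOf M (χ₀ : G → ℂ)) = 1 := by
  unfold Cfsg.blockDefect
  rw [factorization_card P hP]
  have : sInf ((fun χ : Cfsg.IrrCharacter G => (Cfsg.charDegree (χ : G → ℂ)).factorization p) ''
      Cfsg.blockOf M (χ₀ : G → ℂ)) = 0 := by
    rw [Nat.sInf_eq_zero]
    left
    exact ⟨χ₀, sameBlock_refl hM _, Nat.factorization_eq_zero_of_not_dvd h0⟩
  rw [this]

theorem isDefectGroup_blockOf (χ₀ : Cfsg.IrrCharacter G)
    (h0 : ¬ p ∣ Cfsg.charDegree (χ₀ : G → ℂ)) :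
    Cfsg.IsDefectGroup p M (Cfsg.blockOf M (χ₀ : G → ℂ)) (P : Subgroup G) := by
  obtain ⟨D, hD⟩ := exists_isDefectGroup hM _ ⟨χ₀, rfl⟩
  have hcard := Cfsg.Agent.S0908.result p M hM _ ⟨χ₀, rfl⟩ D hD
  rw [blockDefect_blockOf P hP hM χ₀ h0, pow_one] at hcard
  have hDp : IsPGroup p D := IsPGroup.of_card (n := 1) (by rw [hcard, pow_one])
  obtain ⟨Q, hDQ⟩ := hDp.exists_le_sylow
  have hQcard : Nat.card Q = p := by
    rw [Sylow.card_eq_multiplicity, factorization_card P hP, pow_one]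
  have hDQ' : D = (Q : Subgroup G) := Subgroup.eq_of_le_of_card_ge hDQ (by rw [hcard, hQcard])
  obtain ⟨g, hg⟩ := MulAction.exists_smul_eq G Q P
  have h1 := IsDefectGroup.map_conj hM χ₀ D hD g
  have h2 : D.map (MulAut.conj g).toMonoidHom = (P : Subgroup G) := by
    rw [hDQ', ← hg, Sylow.coe_subgroup_smul]
    rfl
  rw [h2] at h1
  exact h1

theorem not_dvd_of_isDefectGroup {B : Set (Cfsg.IrrCharacter G)} (hB : Cfsg.IsPBlock M B)
    (hBP : Cfsg.IsDefectGroup p M B (P : Subgroup G)) :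
    ∀ χ ∈ B, ¬ p ∣ Cfsg.charDegree (χ : G → ℂ) := by
  intro χ hχ h
  obtain ⟨χ₀, rfl⟩ := hB
  have h1 := blockOf_eq_singleton_of_dvd P hP hM χ h
  have h2 := blockOf_eq_of_mem hM hχ
  have hcard := Cfsg.Agent.S0908.result p M hM _ ⟨χ₀, rfl⟩ (P : Subgroup G) hBP
  rw [h2, h1] at hcard
  have hdef : Cfsg.blockDefect p ({χ} : Set (Cfsg.IrrCharacter G)) = 0 := by
    unfold Cfsg.blockDefect
    rw [Set.image_singleton, csInf_singleton, factorization_card P hP]
    have := (hp.out.dvd_iff_one_le_factorization (charDegree_ne_zero χ)).mp h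
    omega
  rw [hdef, pow_zero] at hcard
  have h3 : p = 1 := hP.symm.trans hcard
  exact hp.out.one_lt.ne' h3

/-- the ranks of the blocks with defect group `P` are the inertial indices, for any choice of
the local data -/
theorem rank_eq_aux (dat : Set (Cfsg.IrrCharacter G) → Loc M P)
    (hdat : ∀ B, Cfsg.IsPBlock M B → Cfsg.IsDefectGroup p M B (P : Subgroup G) →
      Cfsg.IsInducedBlock M 𝐂 (dat B).b B) :
    ∀ B, Cfsg.IsPBlock M B → Cfsg.IsDefectGroup p M B (P : Subgroup G) →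
      Cfsg.blockRank p B = (dat B).e := by
  classical
  have : Fintype (Cfsg.IrrCharacter G) := Fintype.ofFinite _
  obtain ⟨D, hDP, hDN⟩ := exists_LD P hP
  obtain ⟨blk, hblk⟩ : ∃ blk : Cfsg.IrrCharacter G → Set (Cfsg.IrrCharacter G),
      blk = fun ψ : Cfsg.IrrCharacter G => Cfsg.blockOf M (ψ : G → ℂ) := ⟨_, rfl⟩
  obtain ⟨Zs, hZs⟩ : ∃ Zs : Finset (Cfsg.IrrCharacter G),
      Zs = Finset.univ.filter (fun χ : Cfsg.IrrCharacter G =>
        p ∣ Cfsg.charDegree (χ : G → ℂ)) := ⟨_, rfl⟩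
  obtain ⟨Ps, hPs⟩ : ∃ Ps : Finset (Cfsg.IrrCharacter G),
      Ps = Finset.univ.filter (fun χ : Cfsg.IrrCharacter G =>
        ¬ p ∣ Cfsg.charDegree (χ : G → ℂ)) := ⟨_, rfl⟩
  have hall : Finset.univ.image blk = Zs.image blk ∪ Ps.image blk := by
    rw [← Finset.image_union, hZs, hPs, Finset.filter_union_filter_not_eq]
  have hsum := sum_blockRank (G := G) (p := p) hM
  rw [← hblk] at hsum
  have hms := MR.ms_count M hM D
  have hz : Nat.card {χ : Cfsg.IrrCharacter G //
      ¬ p ∣ Nat.card G / Cfsg.charDegree (χ : G → ℂ)} = Zs.card := by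
    rw [Nat.card_eq_fintype_card, Fintype.card_subtype, hZs]
    congr 1
    ext χ
    simp only [Finset.mem_filter, Finset.mem_univ, true_and]
    rw [dvd_div_iff P hP χ, not_not]
  have h0 : ∑ B ∈ Zs.image blk, Cfsg.blockRank p B ≤ Zs.card := by
    calc ∑ B ∈ Zs.image blk, Cfsg.blockRank p B ≤ ∑ B ∈ Zs.image blk, 1 := by
          apply Finset.sum_le_sum
          intro B hB
          obtain ⟨χ, hχ, rfl⟩ := Finset.mem_image.mp hB
          rw [hZs] at hχ
          have hχ' := (Finset.mem_filter.mp hχ).2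
          rw [hblk]
          show Cfsg.blockRank p (Cfsg.blockOf M (χ : G → ℂ)) ≤ 1
          rw [blockOf_eq_singleton_of_dvd P hP hM χ hχ']
          unfold Cfsg.blockRank
          rw [Set.image_singleton]
          exact (finrank_span_le_card _).trans (by simp)
      _ = (Zs.image blk).card := by simp
      _ ≤ Zs.card := Finset.card_image_le
  have hplus : ∀ B ∈ Ps.image blk, Cfsg.IsPBlock M B ∧
      Cfsg.IsDefectGroup p M B (P : Subgroup G) := by
    intro B hB
    obtain ⟨χ, hχ, rfl⟩ := Finset.mem_image.mp hB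
    rw [hPs] at hχ
    rw [hblk]
    exact ⟨⟨χ, rfl⟩, isDefectGroup_blockOf P hP hM χ (Finset.mem_filter.mp hχ).2⟩
  have hle : ∀ B ∈ Ps.image blk, Cfsg.blockRank p B ≤ (dat B).e := by
    intro B hB
    obtain ⟨hB1, hB2⟩ := hplus B hB
    have hind := hdat B hB1 hB2
    have hBp := not_dvd_of_isDefectGroup P hP hM hB1 hB2
    have h1 := (dat B).card_le hP hM hind hB2 hBp
    have h2 := (dat B).rank_add_le hP hM hind
    omega
  have hE := sum_e_le P hP hM D hDP hDN (Ps.image blk) dat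
    (fun B hB => hdat B (hplus B hB).1 (hplus B hB).2)
  have hsplit : ∑ B ∈ Finset.univ.image blk, Cfsg.blockRank p B
      ≤ ∑ B ∈ Zs.image blk, Cfsg.blockRank p B + ∑ B ∈ Ps.image blk, Cfsg.blockRank p B := by
    rw [hall]
    have := Finset.sum_union_inter (s₁ := Zs.image blk) (s₂ := Ps.image blk)
      (f := fun B => Cfsg.blockRank p B)
    omega
  have hle' : ∑ B ∈ Ps.image blk, Cfsg.blockRank p B ≤ ∑ B ∈ Ps.image blk, (dat B).e :=
    Finset.sum_le_sum hle
  have heq : ∑ B ∈ Ps.image blk, Cfsg.blockRank p B = ∑ B ∈ Ps.image blk, (dat B).e := by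
    omega
  have hall_eq := (Finset.sum_eq_sum_iff_of_le hle).mp heq
  intro B hB hBP
  apply hall_eq
  obtain ⟨χ₀, rfl⟩ := hB
  apply Finset.mem_image.mpr
  refine ⟨χ₀, ?_, by rw [hblk]⟩
  rw [hPs]
  exact Finset.mem_filter.mpr ⟨Finset.mem_univ _,
    not_dvd_of_isDefectGroup P hP hM ⟨χ₀, rfl⟩ hBP χ₀ (sameBlock_refl hM _)⟩

/-- the rank of a block with defect group `P` is its inertial index -/
theorem rank_eq_e (L : Loc M P) {B : Set (Cfsg.IrrCharacter G)} (hB : Cfsg.IsPBlock M B)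
    (hBP : Cfsg.IsDefectGroup p M B (P : Subgroup G))
    (hind : Cfsg.IsInducedBlock M 𝐂 L.b B) : Cfsg.blockRank p B = L.e := by
  classical
  let dat : Set (Cfsg.IrrCharacter G) → Loc M P := fun B' =>
    if B' = B then L else
      if h : Cfsg.IsPBlock M B' ∧ Cfsg.IsDefectGroup p M B' (P : Subgroup G) then
        (exists_loc P hP hM h.1 h.2).choose else L
  have hdat : ∀ B', Cfsg.IsPBlock M B' → Cfsg.IsDefectGroup p M B' (P : Subgroup G) →
      Cfsg.IsInducedBlock M 𝐂 (dat B').b B' := by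
    intro B' h1 h2
    by_cases hBB : B' = B
    · have : dat B' = L := if_pos hBB
      rw [this, hBB]
      exact hind
    · have : dat B' = (exists_loc P hP hM h1 h2).choose := by
        show (if B' = B then L else _) = _
        rw [if_neg hBB, dif_pos (And.intro h1 h2)]
      rw [this]
      exact (exists_loc P hP hM h1 h2).choose_spec
  have h1 := rank_eq_aux P hP hM dat hdat B hB hBP
  have h2 : dat B = L := if_pos rfl
  rw [h2] at h1
  exact h1

/-- the number of characters in a block with defect group `P` -/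
theorem card_eq (L : Loc M P) {B : Set (Cfsg.IrrCharacter G)} (hB : Cfsg.IsPBlock M B)
    (hBP : Cfsg.IsDefectGroup p M B (P : Subgroup G))
    (hind : Cfsg.IsInducedBlock M 𝐂 L.b B) : Nat.card B = L.e + Nat.card L.J := by
  have h0 := rank_eq_e P hP hM L hB hBP hind
  have hBp := not_dvd_of_isDefectGroup P hP hM hB hBP
  have h1 := L.card_le hP hM hind hBP hBp
  have h2 := L.rank_add_le hP hM hind
  omega

end main

end Cfsg.Agent.Lib.Helper6.PB
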