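import Mathlib
import Cfsg.Agent.Lib.Helper6.PB10

/-!
# The structure of a block with defect group of prime order: exceptional and non-exceptional
characters
-/

set_option autoImplicit false
set_option linter.unusedSectionVars false

namespace Cfsg.Agent.Lib.Helper6.PB

open Cfsg.Agent.Lib.Helper6
open scoped ComplexConjugate

variable {G : Type*} [Group G] [Fintype G] [DecidableEq G] {p : ℕ} [hp : Fact p.Prime]
variable {P : Sylow p G}
variable [Fintype ↥(Subgroup.centralizer ((P : Subgroup G) : Set G))]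
variable [Fintype ↥(Subgroup.normalizer ((P : Subgroup G) : Set G))]
variable {M : Ideal Cfsg.AlgInt}

local notation "𝐂" => Subgroup.centralizer ((P : Subgroup G) : Set G)
local notation "𝐍" => Subgroup.normalizer ((P : Subgroup G) : Set G)

namespace Loc

/-- the structure of the block: the exceptional characters `Λ j` and the signs -/
structure Str (L : Loc M P) (B : Set (Cfsg.IrrCharacter G)) where
  Λ : L.J → Cfsg.IrrCharacter G
  δ : Cfsg.IrrCharacter G → ℤ
  inj : Function.Injective Λ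
  mem : ∀ j, Λ j ∈ B
  sgn : ∀ χ, δ χ = 1 ∨ δ χ = -1
  diag : ∀ j, aco P L.θ (L.rep j) (Λ j) = δ (Λ j)
  off : ∀ i j, i ≠ j → aco P L.θ (L.rep j) (Λ i) = 0
  rest : ∀ χ ∈ B, χ ∉ Set.range Λ → ∀ j, aco P L.θ (L.rep j) χ = δ χ

variable (L : Loc M P)

theorem nonempty_J (hP : Nat.card P = p) (hM : Cfsg.IsPModular p M) : Nonempty L.J := by
  by_contra hJ
  rw [not_nonempty_iff] at hJ
  have h1 := L.card_J_mul_e hP hM
  rw [Nat.card_of_isEmpty, zero_mul] at h1
  have := hp.out.two_le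
  omega

section existence

variable (hP : Nat.card P = p) (hM : Cfsg.IsPModular p M)
variable {B : Set (Cfsg.IrrCharacter G)} (hB : Cfsg.IsPBlock M B)
  (hBP : Cfsg.IsDefectGroup p M B (P : Subgroup G))
  (hind : Cfsg.IsInducedBlock M (Subgroup.centralizer ((P : Subgroup G) : Set G)) L.b B)
include hP hM hB hBP hind

theorem exists_str : Nonempty (L.Str B) := by
  classical
  have : Fintype (Cfsg.IrrCharacter G) := Fintype.ofFinite _
  have : Fintype L.J := Fintype.ofFinite _
  have hJne : Nonempty L.J := L.nonempty_J hP hM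
  have hBp := not_dvd_of_isDefectGroup P hP hM hB hBP
  have hcard : Fintype.card ↥(Finset.univ.filter (· ∈ B)) = L.e + Fintype.card L.J := by
    have h1 := card_eq P hP hM L hB hBP hind
    rw [Nat.card_eq_fintype_card (α := L.J), Nat.card_eq_fintype_card, Fintype.card_subtype] at h1
    rw [Fintype.card_coe]
    exact h1
  obtain ⟨Λ', δ', hinj, hsgn, hdiag, hoff, hrest⟩ :=
    comb_struct (X := ↥(Finset.univ.filter (· ∈ B))) (J := L.J)
      (fun j χ => aco P L.θ (L.rep j) χ.1) L.e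
      (by
        intro i j
        rw [Finset.sum_coe_sort (Finset.univ.filter (· ∈ B))
          (fun χ => aco P L.θ (L.rep i) χ * aco P L.θ (L.rep j) χ)]
        exact L.sum_filter_aco_rep hP hM hind i j)
      (fun χ => L.exists_aco_ne_zero hP hM hind hBP hBp (Finset.mem_filter.mp χ.2).2)
      hcard
  have hmemB : ∀ χ : ↥(Finset.univ.filter (· ∈ B)), χ.1 ∈ B :=
    fun χ => (Finset.mem_filter.mp χ.2).2
  have hmk : ∀ χ, χ ∈ B → χ ∈ Finset.univ.filter (· ∈ B) :=
    fun χ hχ => Finset.mem_filter.mpr ⟨Finset.mem_univ _, hχ⟩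
  refine ⟨⟨fun j => (Λ' j).1, fun χ => if h : χ ∈ B then δ' ⟨χ, hmk χ h⟩ else 1, ?_, ?_, ?_, ?_,
    ?_, ?_⟩⟩
  · intro i j h
    exact hinj (Subtype.ext h)
  · intro j
    exact hmemB (Λ' j)
  · intro χ
    by_cases h : χ ∈ B
    · rw [dif_pos h]; exact hsgn _
    · rw [dif_neg h]; exact Or.inl rfl
  · intro j
    rw [dif_pos (hmemB (Λ' j))]
    exact hdiag j
  · intro i j hij
    exact hoff i j hij
  · intro χ hχ hnot j
    rw [dif_pos hχ]
    apply hrest ⟨χ, hmk χ hχ⟩
    rintro ⟨i, hi⟩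
    apply hnot
    exact ⟨i, congrArg Subtype.val hi⟩

end existence

namespace Str

omit L
variable {L : Loc M P} {B : Set (Cfsg.IrrCharacter G)} (K : L.Str B)

/-- the non-exceptional characters -/
def S : Set (Cfsg.IrrCharacter G) := {χ | χ ∈ B ∧ χ ∉ Set.range K.Λ}

/-- the exceptional characters -/
def Y : Set (Cfsg.IrrCharacter G) := Set.range K.Λ

theorem S_subset : K.S ⊆ B := fun _ h => h.1

theorem Y_subset : K.Y ⊆ B := by
  rintro _ ⟨j, rfl⟩
  exact K.mem j

theorem union_eq : B = K.S ∪ K.Y := by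
  ext χ
  constructor
  · intro hχ
    by_cases h : χ ∈ Set.range K.Λ
    · exact Or.inr h
    · exact Or.inl ⟨hχ, h⟩
  · rintro (h | h)
    · exact h.1
    · exact K.Y_subset h

theorem disjoint : Disjoint K.S K.Y := by
  rw [Set.disjoint_left]
  intro χ h1 h2
  exact h1.2 h2

theorem card_Y : Nat.card K.Y = Nat.card L.J := Nat.card_range_of_injective K.inj

theorem card_add : Nat.card B = Nat.card K.S + Nat.card K.Y := by
  rw [Nat.card_coe_set_eq, Nat.card_coe_set_eq, Nat.card_coe_set_eq]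
  conv_lhs => rw [K.union_eq]
  exact Set.ncard_union_eq K.disjoint (Set.toFinite _) (Set.toFinite _)

variable (hP : Nat.card P = p) (hM : Cfsg.IsPModular p M)
  (hind : Cfsg.IsInducedBlock M (Subgroup.centralizer ((P : Subgroup G) : Set G)) L.b B)
include hP hM hind

theorem card_S (hB : Cfsg.IsPBlock M B) (hBP : Cfsg.IsDefectGroup p M B (P : Subgroup G)) :
    Nat.card K.S = L.e := by
  have h1 := card_eq P hP hM L hB hBP hind
  have h2 := K.card_add
  have h3 := K.card_Y
  omega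

/-- the relation on the `p`-regular elements -/
theorem relation [Fintype (Cfsg.IrrCharacter G)] [DecidablePred (· ∈ K.S)] (j : L.J) (g : G)
    (hg : ¬ p ∣ orderOf g) :
    ∑ χ ∈ Finset.univ.filter (· ∈ K.S), (K.δ χ : ℂ) * (χ : G → ℂ) g
      + (K.δ (K.Λ j) : ℂ) * (K.Λ j : G → ℂ) g = 0 := by
  classical
  have : Fintype L.J := Fintype.ofFinite _
  have h0 : bet P L.θ (L.rep j) g = 0 := L.bet_pRegular hP hM (L.rep_mem j).1 g hg
  rw [bet_eq_sum, Finset.sum_apply] at h0
  simp only [Pi.smul_apply, smul_eq_mul] at h0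
  rw [← Finset.sum_filter_add_sum_filter_not Finset.univ (· ∈ K.S)] at h0
  have h1 : ∑ χ ∈ Finset.univ.filter (· ∈ K.S),
      (aco P L.θ (L.rep j) χ : ℂ) * (χ : G → ℂ) g
      = ∑ χ ∈ Finset.univ.filter (· ∈ K.S), (K.δ χ : ℂ) * (χ : G → ℂ) g := by
    apply Finset.sum_congr rfl
    intro χ hχ
    have hχ' : χ ∈ K.S := (Finset.mem_filter.mp hχ).2
    rw [K.rest χ hχ'.1 hχ'.2 j]
  have h2 : ∑ χ ∈ Finset.univ.filter (fun χ => ¬ χ ∈ K.S),
      (aco P L.θ (L.rep j) χ : ℂ) * (χ : G → ℂ) g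
      = (K.δ (K.Λ j) : ℂ) * (K.Λ j : G → ℂ) g := by
    have hsub : Finset.univ.image K.Λ ⊆ Finset.univ.filter (fun χ => ¬ χ ∈ K.S) := by
      intro χ hχ
      obtain ⟨i, -, rfl⟩ := Finset.mem_image.mp hχ
      exact Finset.mem_filter.mpr ⟨Finset.mem_univ _, fun h => h.2 ⟨i, rfl⟩⟩
    rw [← Finset.sum_subset hsub, Finset.sum_image (fun a _ b _ h => K.inj h),
      Finset.sum_eq_single j]
    · rw [K.diag j]
    · intro i _ hij
      rw [K.off i j hij, Int.cast_zero, zero_mul]
    · intro h; exact absurd (Finset.mem_univ _) h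
    · intro χ hχ hnot
      have hχS : ¬ χ ∈ K.S := (Finset.mem_filter.mp hχ).2
      have hχB : χ ∉ B := by
        intro hB
        apply hχS
        refine ⟨hB, ?_⟩
        rintro ⟨i, rfl⟩
        exact hnot (Finset.mem_image.mpr ⟨i, Finset.mem_univ _, rfl⟩)
      rw [L.aco_eq_zero_of_not_mem hP hM hind (L.rep_mem j).1 hχB, Int.cast_zero, zero_mul]
  rw [h1, h2] at h0
  exact h0

/-- the signs of the exceptional characters coincide -/
theorem sign_const (i j : L.J) : K.δ (K.Λ i) = K.δ (K.Λ j) := by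
  classical
  have : Fintype (Cfsg.IrrCharacter G) := Fintype.ofFinite _
  have h1 : ¬ p ∣ orderOf (1 : G) := by
    rw [orderOf_one]
    exact hp.out.one_lt.ne' ∘ Nat.dvd_one.mp
  have hi := K.relation hP hM hind i 1 h1
  have hj := K.relation hP hM hind j 1 h1
  have h2 : (K.δ (K.Λ i) : ℂ) * (K.Λ i : G → ℂ) 1 = (K.δ (K.Λ j) : ℂ) * (K.Λ j : G → ℂ) 1 := by
    have := hi.trans hj.symm
    exact add_left_cancel this
  rw [IsCharacter.apply_one_eq_charDegree (IsIrrCharacter.isCharacter (K.Λ i).2),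
    IsCharacter.apply_one_eq_charDegree (IsIrrCharacter.isCharacter (K.Λ j).2)] at h2
  have h3 : K.δ (K.Λ i) * (Cfsg.charDegree (K.Λ i : G → ℂ) : ℤ)
      = K.δ (K.Λ j) * (Cfsg.charDegree (K.Λ j : G → ℂ) : ℤ) := by exact_mod_cast h2
  have hdi : 0 < (Cfsg.charDegree (K.Λ i : G → ℂ) : ℤ) := by
    exact_mod_cast Nat.pos_of_ne_zero (charDegree_ne_zero (K.Λ i))
  have hdj : 0 < (Cfsg.charDegree (K.Λ j : G → ℂ) : ℤ) := by
    exact_mod_cast Nat.pos_of_ne_zero (charDegree_ne_zero (K.Λ j))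
  rcases K.sgn (K.Λ i) with hi' | hi' <;> rcases K.sgn (K.Λ j) with hj' | hj' <;>
    rw [hi', hj'] at h3 ⊢ <;> first | rfl | (exfalso; linarith)

/-- the exceptional characters agree on the `p`-regular elements -/
theorem agree (i j : L.J) (g : G) (hg : ¬ p ∣ orderOf g) :
    (K.Λ i : G → ℂ) g = (K.Λ j : G → ℂ) g := by
  classical
  have : Fintype (Cfsg.IrrCharacter G) := Fintype.ofFinite _
  have hi := K.relation hP hM hind i g hg
  have hj := K.relation hP hM hind j g hg
  have h2 : (K.δ (K.Λ i) : ℂ) * (K.Λ i : G → ℂ) g = (K.δ (K.Λ j) : ℂ) * (K.Λ j : G → ℂ) g := by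
    have := hi.trans hj.symm
    exact add_left_cancel this
  rw [K.sign_const hP hM hind i j] at h2
  have hne : (K.δ (K.Λ j) : ℂ) ≠ 0 := by
    rcases K.sgn (K.Λ j) with h | h <;> rw [h] <;> simp
  exact mul_left_cancel₀ hne h2

end Str

end Loc

end Cfsg.Agent.Lib.Helper6.PB
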