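import Mathlib
import Cfsg.Agent.Lib.Helper6.PB11

/-!
# The degrees of the characters in a block with defect group of prime order
-/

set_option autoImplicit false
set_option linter.unusedSectionVars false

namespace Cfsg.Agent.Lib.Helper6.PB

open Cfsg.Agent.Lib.Helper6
open scoped ComplexConjugate

variable {G : Type*} [Group G] [Fintype G] [DecidableEq G] {p : ℕ} [hp : Fact p.Prime]
variable {P : Sylow p G}
variable [Fintype ↥(Subgroup.centralizer ((P : Subgroup G) : Set G))]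
variable [Fintype ↥(Subgroup.normalizer ((P : Subgroup G) : Set G))]
variable {M : Ideal Cfsg.AlgInt}

local notation "𝐂" => Subgroup.centralizer ((P : Subgroup G) : Set G)
local notation "𝐍" => Subgroup.normalizer ((P : Subgroup G) : Set G)

theorem image_act_mul (n m : 𝐍) (b : Set (Cfsg.IrrCharacter 𝐂)) :
    act P (n * m) '' b = act P n '' (act P m '' b) := by
  rw [Set.image_image]
  apply Set.image_congr
  intro ξ _
  exact act_mul P n m ξ

theorem image_act_one (b : Set (Cfsg.IrrCharacter 𝐂)) : act P 1 '' b = b := by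
  have : act P (1 : 𝐍) = id := by
    funext ξ
    exact act_one P ξ
  rw [this, Set.image_id]

/-- the degree as the sum over the constituents of the restriction to the centralizer -/
theorem degree_eq_sum [Fintype (Cfsg.IrrCharacter 𝐂)] (χ : Cfsg.IrrCharacter G) :
    (Cfsg.charDegree (χ : G → ℂ) : ℤ)
      = ∑ ξ : Cfsg.IrrCharacter 𝐂, (Cfsg.charDegree (ξ : 𝐂 → ℂ) : ℤ) * (mlt P χ ξ : ℤ) := by
  have h1 := restrict_apply_one_eq_sum 𝐂 (IsIrrCharacter.isCharacter χ.2)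
  rw [IsCharacter.apply_one_eq_charDegree (IsIrrCharacter.isCharacter χ.2)] at h1
  have h2 : ∀ ξ : Cfsg.IrrCharacter 𝐂, (ξ : 𝐂 → ℂ) 1 *
      Cfsg.classInner (fun n : 𝐂 => (χ : G → ℂ) n) (ξ : 𝐂 → ℂ)
      = (((Cfsg.charDegree (ξ : 𝐂 → ℂ) : ℤ) * (mlt P χ ξ : ℤ) : ℤ) : ℂ) := by
    intro ξ
    rw [IsCharacter.apply_one_eq_charDegree (IsIrrCharacter.isCharacter ξ.2), mlt_spec]
    push_cast
    rfl
  rw [Finset.sum_congr rfl (fun ξ _ => h2 ξ), ← Int.cast_sum] at h1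
  exact_mod_cast h1

namespace Loc

variable (L : Loc M P)
variable (hP : Nat.card P = p) (hM : Cfsg.IsPModular p M)
include hP hM

theorem image_act_eq_iff (n : 𝐍) : act P n '' L.b = L.b ↔ n ∈ L.stabN := by
  rw [mem_stabN]
  constructor
  · intro h
    have h1 : act P n L.θ ∈ L.b := by
      rw [← h]
      exact ⟨L.θ, L.hθ, rfl⟩
    exact (L.act_mem_iff hP hM L.hθ n).mp h1
  · intro h
    rw [L.b_eq hP hM, act_image_blockOf, h]

theorem image_act_eq_image_iff (n m : 𝐍) :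
    act P n '' L.b = act P m '' L.b ↔ m⁻¹ * n ∈ L.stabN := by
  rw [← L.image_act_eq_iff hP hM, image_act_mul]
  constructor
  · intro h
    rw [h, ← image_act_mul, inv_mul_cancel, image_act_one]
  · intro h
    have h1 : act P n '' L.b = act P m '' (act P m⁻¹ '' (act P n '' L.b)) := by
      rw [← image_act_mul, mul_inv_cancel, image_act_one]
    rw [h1, h]

/-- the number of conjugates of the block -/
theorem card_orbit [DecidableEq (Set (Cfsg.IrrCharacter 𝐂))] :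
    (Finset.univ.image (fun n : 𝐍 => act P n '' L.b)).card * L.e = (𝐂).relIndex 𝐍 := by
  classical
  have h1 := Finset.card_eq_sum_card_image (fun n : 𝐍 => act P n '' L.b) Finset.univ
  have h2 : ∀ b' ∈ Finset.univ.image (fun n : 𝐍 => act P n '' L.b),
      (Finset.univ.filter (fun n : 𝐍 => act P n '' L.b = b')).card = Nat.card L.stabN := by
    intro b' hb'
    obtain ⟨m, -, rfl⟩ := Finset.mem_image.mp hb'
    rw [Nat.card_eq_fintype_card, Fintype.card_subtype]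
    apply Finset.card_bij (fun n _ => m⁻¹ * n)
    · intro n hn
      have hn' := (Finset.mem_filter.mp hn).2
      exact Finset.mem_filter.mpr ⟨Finset.mem_univ _,
        (L.image_act_eq_image_iff hP hM n m).mp hn'⟩
    · intro a _ b _ h
      exact mul_left_cancel h
    · intro k hk
      have hk' := (Finset.mem_filter.mp hk).2
      refine ⟨m * k, Finset.mem_filter.mpr ⟨Finset.mem_univ _, ?_⟩, by simp⟩
      apply (L.image_act_eq_image_iff hP hM (m * k) m).mpr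
      rw [inv_mul_cancel_left]
      exact hk'
  rw [Finset.sum_congr rfl h2, Finset.sum_const, smul_eq_mul, Finset.card_univ,
    ← Nat.card_eq_fintype_card, L.card_stabN] at h1
  have h3 := Subgroup.card_mul_index ((𝐂).subgroupOf 𝐍)
  have h4 : Nat.card ((𝐂).subgroupOf 𝐍) = Nat.card 𝐂 := card_CN P
  rw [h4] at h3
  have h5 : Nat.card 𝐂 * ((𝐂).relIndex 𝐍) = Nat.card 𝐍 := h3
  have hpos : 0 < Nat.card 𝐂 := Nat.card_pos
  have h6 : Nat.card 𝐂 * ((Finset.univ.image (fun n : 𝐍 => act P n '' L.b)).card * L.e)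
      = Nat.card 𝐂 * ((𝐂).relIndex 𝐍) := by
    rw [h5, h1]; ring
  exact Nat.eq_of_mul_eq_mul_left hpos h6

/-- the sum of the multiplicities over the block -/
theorem sum_mlt_block [Fintype (Cfsg.IrrCharacter 𝐂)] [Fintype L.J] [DecidablePred (· ∈ L.b)]
    (χ : Cfsg.IrrCharacter G) :
    ∑ ξ ∈ Finset.univ.filter (· ∈ L.b), (mlt P χ ξ : ℤ)
      = (p : ℤ) * mlt P χ L.θ - (L.e : ℤ) * ∑ j : L.J, aco P L.θ (L.rep j) χ := by
  classical
  have h1 : ∑ ξ ∈ Finset.univ.filter (· ∈ L.b), (mlt P χ ξ : ℤ)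
      = ∑ ξ ∈ Finset.univ.filter (· ∈ L.b), ((mlt P χ L.θ : ℤ) - aco P L.θ ξ χ) := by
    apply Finset.sum_congr rfl
    intro ξ _
    unfold aco
    ring
  rw [h1, Finset.sum_sub_distrib, Finset.sum_const, nsmul_eq_mul]
  have hcard : (Finset.univ.filter (· ∈ L.b)).card = p := by
    have := card_block P hP hM L.hb
    rwa [Nat.card_eq_fintype_card, Fintype.card_subtype] at this
  rw [hcard]
  congr 1
  have h2 : ∑ ξ ∈ Finset.univ.filter (· ∈ L.b), aco P L.θ ξ χ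
      = ∑ ξ ∈ Finset.univ.filter (· ∈ L.star), aco P L.θ ξ χ := by
    symm
    apply Finset.sum_subset
    · intro ξ hξ
      exact Finset.mem_filter.mpr ⟨Finset.mem_univ _, ((Finset.mem_filter.mp hξ).2).1⟩
    · intro ξ hξ hnot
      have hξb := (Finset.mem_filter.mp hξ).2
      have : ξ = L.θ := by
        by_contra hne
        exact hnot (Finset.mem_filter.mpr ⟨Finset.mem_univ _, hξb, hne⟩)
      rw [this]
      unfold aco
      ring
  rw [h2]
  have h3 : ∀ ξ ∈ Finset.univ.filter (· ∈ L.star), aco P L.θ ξ χ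
      = ∑ j : L.J, if (∃ n : 𝐍, act P n (L.rep j) = ξ) then aco P L.θ (L.rep j) χ else 0 := by
    intro ξ hξ
    have hξs : ξ ∈ L.star := (Finset.mem_filter.mp hξ).2
    rw [Finset.sum_eq_single (Quotient.mk L.rel ⟨ξ, hξs⟩)]
    · have hex := (L.rel_rep_mk hξs _).mpr rfl
      rw [if_pos hex]
      obtain ⟨n, hn⟩ := hex
      unfold aco
      have hm : mlt P χ ξ = mlt P χ (L.rep (Quotient.mk L.rel ⟨ξ, hξs⟩)) := by
        conv_lhs => rw [← hn]
        exact mlt_act P χ n _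
      rw [hm]
    · intro j _ hj
      rw [if_neg]
      intro hex
      exact hj ((L.rel_rep_mk hξs j).mp hex)
    · intro h
      exact absurd (Finset.mem_univ _) h
  rw [Finset.sum_congr rfl h3, Finset.sum_comm, Finset.mul_sum]
  apply Finset.sum_congr rfl
  intro j _
  rw [← Finset.sum_filter, Finset.sum_const, nsmul_eq_mul, L.card_class hP hM (L.rep_mem j)]

/-- the degrees of the characters of the induced block, modulo `p` -/
theorem degree_congr [Fintype L.J] {B : Set (Cfsg.IrrCharacter G)} (hB : Cfsg.IsPBlock M B)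
    (hBP : Cfsg.IsDefectGroup p M B (P : Subgroup G))
    (hind : Cfsg.IsInducedBlock M 𝐂 L.b B) (χ : Cfsg.IrrCharacter G) (hχ : χ ∈ B) :
    (Cfsg.charDegree (χ : G → ℂ) : ℤ) ≡ -((((𝐂).relIndex 𝐍 : ℕ) : ℤ)
      * (Cfsg.charDegree (L.θ : 𝐂 → ℂ) : ℤ) * ∑ j : L.J, aco P L.θ (L.rep j) χ) [ZMOD p] := by
  classical
  have : Fintype (Cfsg.IrrCharacter 𝐂) := Fintype.ofFinite _
  have hBχ : Cfsg.blockOf M (χ : G → ℂ) = B := by
    obtain ⟨χ₀, rfl⟩ := hB
    exact (blockOf_eq_of_mem hM hχ).symm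
  obtain ⟨F, hF⟩ : ∃ F : Cfsg.IrrCharacter 𝐂 → ℤ,
      F = fun ξ : Cfsg.IrrCharacter 𝐂 =>
        (Cfsg.charDegree (ξ : 𝐂 → ℂ) : ℤ) * (mlt P χ ξ : ℤ) := ⟨_, rfl⟩
  obtain ⟨blk, hblk⟩ : ∃ blk : Cfsg.IrrCharacter 𝐂 → Set (Cfsg.IrrCharacter 𝐂),
      blk = fun ξ : Cfsg.IrrCharacter 𝐂 => Cfsg.blockOf M (ξ : 𝐂 → ℂ) := ⟨_, rfl⟩
  obtain ⟨𝔬, h𝔬⟩ : ∃ 𝔬 : Finset (Set (Cfsg.IrrCharacter 𝐂)),
      𝔬 = Finset.univ.image (fun n : 𝐍 => act P n '' L.b) := ⟨_, rfl⟩
  have hfilter : ∀ ξ₀ : Cfsg.IrrCharacter 𝐂,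
      Finset.univ.filter (fun ξ => blk ξ = blk ξ₀) = Finset.univ.filter (· ∈ blk ξ₀) := by
    intro ξ₀
    ext ξ
    simp only [Finset.mem_filter, Finset.mem_univ, true_and, hblk]
    constructor
    · intro h
      rw [← h]
      exact sameBlock_refl hM _
    · intro h
      exact (blockOf_eq_of_mem hM h).symm
  have hdeg := degree_eq_sum (P := P) χ
  have hfib := Finset.sum_fiberwise_of_maps_to (s := Finset.univ) (t := Finset.univ.image blk)
    (g := blk) (fun ξ _ => Finset.mem_image_of_mem _ (Finset.mem_univ ξ)) F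
  have h𝔬sub : 𝔬 ⊆ Finset.univ.image blk := by
    intro b' hb'
    rw [h𝔬] at hb'
    obtain ⟨n, -, rfl⟩ := Finset.mem_image.mp hb'
    rw [L.b_eq hP hM, act_image_blockOf]
    exact Finset.mem_image.mpr ⟨act P n L.θ, Finset.mem_univ _, by rw [hblk]⟩
  have hA : ∀ b' ∈ 𝔬, ∑ ξ ∈ Finset.univ.filter (fun ξ => blk ξ = b'), F ξ
      = (Cfsg.charDegree (L.θ : 𝐂 → ℂ) : ℤ)
        * ∑ ξ ∈ Finset.univ.filter (· ∈ L.b), (mlt P χ ξ : ℤ) := by
    intro b' hb'
    rw [h𝔬] at hb'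
    obtain ⟨n, -, rfl⟩ := Finset.mem_image.mp hb'
    have e1 : act P n '' L.b = blk (act P n L.θ) := by
      rw [hblk, L.b_eq hP hM, act_image_blockOf]
    rw [e1, hfilter, ← e1]
    have e2 : Finset.univ.filter (· ∈ act P n '' L.b)
        = (Finset.univ.filter (· ∈ L.b)).image (act P n) := by
      ext ξ
      simp only [Finset.mem_filter, Finset.mem_univ, true_and, Finset.mem_image, Set.mem_image]
    rw [e2, Finset.sum_image (fun a _ b _ h => act_injective P n h), Finset.mul_sum]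
    apply Finset.sum_congr rfl
    intro ξ hξ
    have hξb : ξ ∈ L.b := (Finset.mem_filter.mp hξ).2
    rw [hF]
    show (Cfsg.charDegree ((act P n ξ : Cfsg.IrrCharacter 𝐂) : 𝐂 → ℂ) : ℤ)
      * (mlt P χ (act P n ξ) : ℤ) = _
    rw [mlt_act]
    have : Cfsg.charDegree ((act P n ξ : Cfsg.IrrCharacter 𝐂) : 𝐂 → ℂ)
        = Cfsg.charDegree (L.θ : 𝐂 → ℂ) := by
      unfold Cfsg.charDegree
      rw [act_apply_one, apply_one_eq P hP hM L.hb L.hθ L.hθP hξb]
    rw [this]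
  have h0 : ∀ b' ∈ Finset.univ.image blk \ 𝔬,
      (p : ℤ) ∣ ∑ ξ ∈ Finset.univ.filter (fun ξ => blk ξ = b'), F ξ := by
    intro b' hb'
    obtain ⟨hb1, hb2⟩ := Finset.mem_sdiff.mp hb'
    obtain ⟨ξ₀, -, rfl⟩ := Finset.mem_image.mp hb1
    have hblock : Cfsg.IsPBlock M (blk ξ₀) := by
      rw [hblk]; exact ⟨ξ₀, rfl⟩
    obtain ⟨θ', hθ', hθ'P⟩ := exists_theta P hP hM hblock
    have hnot : ¬ Cfsg.IsInducedBlock M 𝐂 (blk ξ₀) (Cfsg.blockOf M (χ : G → ℂ)) := by
      rw [hBχ]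
      intro h
      obtain ⟨n, hn⟩ := exists_act_image_eq P hP hM hBP hind h
      apply hb2
      rw [h𝔬, hn]
      exact Finset.mem_image.mpr ⟨n, Finset.mem_univ _, rfl⟩
    rw [hfilter]
    have hconst : ∀ ξ ∈ Finset.univ.filter (· ∈ blk ξ₀),
        F ξ = (Cfsg.charDegree (θ' : 𝐂 → ℂ) : ℤ) * (mlt P χ θ' : ℤ) := by
      intro ξ hξ
      have hξb := (Finset.mem_filter.mp hξ).2
      rw [hF]
      show (Cfsg.charDegree (ξ : 𝐂 → ℂ) : ℤ) * (mlt P χ ξ : ℤ) = _
      rw [mlt_eq_of_not_induced P hP hM ⟨blk ξ₀, θ', hblock, hθ', hθ'P⟩ χ hnot hξb]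
      have : Cfsg.charDegree (ξ : 𝐂 → ℂ) = Cfsg.charDegree (θ' : 𝐂 → ℂ) := by
        unfold Cfsg.charDegree
        rw [apply_one_eq P hP hM hblock hθ' hθ'P hξb]
      rw [this]
    rw [Finset.sum_congr rfl hconst, Finset.sum_const, nsmul_eq_mul]
    have hcard : (Finset.univ.filter (· ∈ blk ξ₀)).card = p := by
      have := card_block P hP hM hblock
      rwa [Nat.card_eq_fintype_card, Fintype.card_subtype] at this
    rw [hcard]
    exact Dvd.intro _ rfl
  have hdeg' : (Cfsg.charDegree (χ : G → ℂ) : ℤ) = ∑ ξ : Cfsg.IrrCharacter 𝐂, F ξ := by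
    rw [hdeg, hF]
  rw [hdeg', ← hfib, ← Finset.sum_sdiff h𝔬sub, Finset.sum_congr rfl hA, Finset.sum_const,
    nsmul_eq_mul, L.sum_mlt_block hP hM χ]
  have hX := Finset.dvd_sum h0
  have hcard𝔬 := L.card_orbit hP hM
  rw [← h𝔬] at hcard𝔬
  obtain ⟨x, hx⟩ := hX
  rw [hx, Int.modEq_iff_dvd]
  have hf : ((((𝐂).relIndex 𝐍 : ℕ)) : ℤ) = (𝔬.card : ℤ) * (L.e : ℤ) := by
    exact_mod_cast hcard𝔬.symm
  rw [hf]
  refine ⟨-(x + 𝔬.card * Cfsg.charDegree (L.θ : 𝐂 → ℂ) * mlt P χ L.θ), ?_⟩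
  ring

end Loc

end Cfsg.Agent.Lib.Helper6.PB
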