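import Mathlib
import Cfsg.Agent.Lib.Helper6.PB12
import Cfsg.Agent.Lib.Helper6.BrPrin
import Cfsg.Agent.Lib.Helper6.BlkPairs
import Cfsg.Agent.Lib.Helper6.BlkPrincipal

/-!
# Degrees and values of the exceptional and non-exceptional characters; the principal block
-/

set_option autoImplicit false
set_option linter.unusedSectionVars false

namespace Cfsg.Agent.Lib.Helper6.PB

open Cfsg.Agent.Lib.Helper6
open scoped ComplexConjugate

variable {G : Type*} [Group G] [Fintype G] [DecidableEq G] {p : ℕ} [hp : Fact p.Prime]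
variable {P : Sylow p G}
variable [Fintype ↥(Subgroup.centralizer ((P : Subgroup G) : Set G))]
variable [Fintype ↥(Subgroup.normalizer ((P : Subgroup G) : Set G))]
variable {M : Ideal Cfsg.AlgInt}

local notation "𝐂" => Subgroup.centralizer ((P : Subgroup G) : Set G)
local notation "𝐍" => Subgroup.normalizer ((P : Subgroup G) : Set G)

namespace Loc

variable (L : Loc M P)

/-- the coefficients are constant on the classes -/
theorem aco_eq_rep {ξ : Cfsg.IrrCharacter 𝐂} (hξ : ξ ∈ L.star) (χ : Cfsg.IrrCharacter G) :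
    aco P L.θ ξ χ = aco P L.θ (L.rep (Quotient.mk L.rel ⟨ξ, hξ⟩)) χ := by
  obtain ⟨n, hn⟩ := (L.rel_rep_mk hξ _).mpr rfl
  unfold aco
  have hm : mlt P χ ξ = mlt P χ (L.rep (Quotient.mk L.rel ⟨ξ, hξ⟩)) := by
    conv_lhs => rw [← hn]
    exact mlt_act P χ n _
  rw [hm]

section stable

variable (hP : Nat.card P = p) (hM : Cfsg.IsPModular p M)
include hP hM

theorem e_dvd_relIndex : L.e ∣ (𝐂).relIndex 𝐍 := by
  classical
  exact Dvd.intro_left _ (L.card_orbit hP hM)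

/-- the value at a `p`-singular element of the centralizer, when `θ` is stable under the
normalizer -/
theorem value_of_stable [Fintype (Cfsg.IrrCharacter 𝐂)] [DecidablePred (· ∈ L.star)]
    (hstab : ∀ n : 𝐍, act P n L.θ = L.θ)
    {B : Set (Cfsg.IrrCharacter G)} (hB : Cfsg.IsPBlock M B)
    (hBP : Cfsg.IsDefectGroup p M B (P : Subgroup G))
    (hind : Cfsg.IsInducedBlock M 𝐂 L.b B) (χ : Cfsg.IrrCharacter G) (hχ : χ ∈ B)
    (c : 𝐂) (hc : p ∣ orderOf c) :
    (χ : G → ℂ) c = - ∑ ξ ∈ Finset.univ.filter (· ∈ L.star),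
      (aco P L.θ ξ χ : ℂ) * (ξ : 𝐂 → ℂ) c := by
  classical
  have hBχ : Cfsg.blockOf M (χ : G → ℂ) = B := by
    obtain ⟨χ₀, rfl⟩ := hB
    exact (blockOf_eq_of_mem hM hχ).symm
  have h1 : (χ : G → ℂ) c = ∑ ξ : Cfsg.IrrCharacter 𝐂, (mlt P χ ξ : ℂ) * (ξ : 𝐂 → ℂ) c := by
    have h := classFunction_eq_sum (fun n : 𝐂 => (χ : G → ℂ) n)
      (IsCharacter.isClassFunction (IsCharacter.restrict 𝐂 (IsIrrCharacter.isCharacter χ.2)))
    have h2 := congrFun h c
    simp only [Finset.sum_apply, Pi.smul_apply, smul_eq_mul] at h2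
    rw [h2]
    apply Finset.sum_congr rfl
    intro ξ _
    rw [mlt_spec]
  obtain ⟨F, hF⟩ : ∃ F : Cfsg.IrrCharacter 𝐂 → ℂ,
      F = fun ξ : Cfsg.IrrCharacter 𝐂 => (mlt P χ ξ : ℂ) * (ξ : 𝐂 → ℂ) c := ⟨_, rfl⟩
  obtain ⟨blk, hblk⟩ : ∃ blk : Cfsg.IrrCharacter 𝐂 → Set (Cfsg.IrrCharacter 𝐂),
      blk = fun ξ : Cfsg.IrrCharacter 𝐂 => Cfsg.blockOf M (ξ : 𝐂 → ℂ) := ⟨_, rfl⟩
  have hfilter : ∀ ξ₀ : Cfsg.IrrCharacter 𝐂,
      Finset.univ.filter (fun ξ => blk ξ = blk ξ₀) = Finset.univ.filter (· ∈ blk ξ₀) := by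
    intro ξ₀
    ext ξ
    simp only [Finset.mem_filter, Finset.mem_univ, true_and, hblk]
    constructor
    · intro h
      rw [← h]
      exact sameBlock_refl hM _
    · intro h
      exact (blockOf_eq_of_mem hM h).symm
  have hfib := Finset.sum_fiberwise_of_maps_to (s := Finset.univ) (t := Finset.univ.image blk)
    (g := blk) (fun ξ _ => Finset.mem_image_of_mem _ (Finset.mem_univ ξ)) F
  have hLb : L.b = blk L.θ := by rw [hblk]; exact L.b_eq hP hM
  have h1' : (χ : G → ℂ) c = ∑ ξ : Cfsg.IrrCharacter 𝐂, F ξ := by rw [h1, hF]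
  rw [h1', ← hfib, Finset.sum_eq_single (blk L.θ)]
  · rw [hfilter, ← hLb]
    have h3 : ∑ ξ ∈ Finset.univ.filter (· ∈ L.b), F ξ
        = ∑ ξ ∈ Finset.univ.filter (· ∈ L.b),
          ((mlt P χ L.θ : ℂ) * (ξ : 𝐂 → ℂ) c - (aco P L.θ ξ χ : ℂ) * (ξ : 𝐂 → ℂ) c) := by
      apply Finset.sum_congr rfl
      intro ξ _
      rw [hF]
      unfold aco
      push_cast
      ring
    rw [h3, Finset.sum_sub_distrib, ← Finset.mul_sum,
      sum_block_of_pSingular P hP hM L.hb L.hθ L.hθP c hc, mul_zero, zero_sub]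
    congr 1
    symm
    apply Finset.sum_subset
    · intro ξ hξ
      exact Finset.mem_filter.mpr ⟨Finset.mem_univ _, ((Finset.mem_filter.mp hξ).2).1⟩
    · intro ξ hξ hnot
      have hξb := (Finset.mem_filter.mp hξ).2
      have : ξ = L.θ := by
        by_contra hne
        exact hnot (Finset.mem_filter.mpr ⟨Finset.mem_univ _, hξb, hne⟩)
      rw [this]
      unfold aco
      simp
  · intro b' hb' hne
    obtain ⟨ξ₀, -, rfl⟩ := Finset.mem_image.mp hb'
    have hblock : Cfsg.IsPBlock M (blk ξ₀) := by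
      rw [hblk]; exact ⟨ξ₀, rfl⟩
    obtain ⟨θ', hθ', hθ'P⟩ := exists_theta P hP hM hblock
    have hnot : ¬ Cfsg.IsInducedBlock M 𝐂 (blk ξ₀) (Cfsg.blockOf M (χ : G → ℂ)) := by
      rw [hBχ]
      intro h
      obtain ⟨n, hn⟩ := exists_act_image_eq P hP hM hBP hind h
      apply hne
      rw [hn, ← hLb]
      exact (L.image_act_eq_iff hP hM n).mpr ((L.mem_stabN n).mpr (hstab n))
    rw [hfilter]
    have hconst : ∀ ξ ∈ Finset.univ.filter (· ∈ blk ξ₀),
        F ξ = (mlt P χ θ' : ℂ) * (ξ : 𝐂 → ℂ) c := by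
      intro ξ hξ
      have hξb := (Finset.mem_filter.mp hξ).2
      rw [hF]
      show (mlt P χ ξ : ℂ) * (ξ : 𝐂 → ℂ) c = _
      rw [mlt_eq_of_not_induced P hP hM ⟨blk ξ₀, θ', hblock, hθ', hθ'P⟩ χ hnot hξb]
    rw [Finset.sum_congr rfl hconst, ← Finset.mul_sum,
      sum_block_of_pSingular P hP hM hblock hθ' hθ'P c hc, mul_zero]
  · intro h
    exact absurd (Finset.mem_image_of_mem _ (Finset.mem_univ _)) h

end stable

namespace Str

omit L

variable {L : Loc M P} {B : Set (Cfsg.IrrCharacter G)} (K : L.Str B)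

theorem aco_S {χ : Cfsg.IrrCharacter G} (hχ : χ ∈ K.S) {ξ : Cfsg.IrrCharacter 𝐂}
    (hξ : ξ ∈ L.star) : aco P L.θ ξ χ = K.δ χ := by
  rw [L.aco_eq_rep hξ χ]
  exact K.rest χ hχ.1 hχ.2 _

variable (hP : Nat.card P = p) (hM : Cfsg.IsPModular p M) (hB : Cfsg.IsPBlock M B)
  (hBP : Cfsg.IsDefectGroup p M B (P : Subgroup G))
  (hind : Cfsg.IsInducedBlock M (Subgroup.centralizer ((P : Subgroup G) : Set G)) L.b B)
include hP hM hB hBP hind

/-- the degrees of the non-exceptional characters -/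
theorem degree_S {χ : Cfsg.IrrCharacter G} (hχ : χ ∈ K.S) :
    (Cfsg.charDegree (χ : G → ℂ) : ℤ) ≡ K.δ χ *
      ((((𝐂).relIndex 𝐍) / L.e * Cfsg.charDegree (L.θ : 𝐂 → ℂ) : ℕ) : ℤ) [ZMOD p] := by
  classical
  have : Fintype L.J := Fintype.ofFinite _
  have h := L.degree_congr hP hM hB hBP hind χ hχ.1
  have hsum : ∑ j : L.J, aco P L.θ (L.rep j) χ = (Fintype.card L.J : ℤ) * K.δ χ := by
    rw [Finset.sum_congr rfl (fun j _ => K.rest χ hχ.1 hχ.2 j), Finset.sum_const,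
      Finset.card_univ, nsmul_eq_mul]
  rw [hsum] at h
  have hJ := L.card_J_mul_e hP hM
  rw [Nat.card_eq_fintype_card] at hJ
  obtain ⟨c, hc⟩ := L.e_dvd_relIndex hP hM
  have hdiv : (𝐂).relIndex 𝐍 / L.e = c := by
    rw [hc]; exact Nat.mul_div_cancel_left c L.e_pos
  rw [hdiv]
  rw [hc] at h
  have hJ' : (Fintype.card L.J : ℤ) * (L.e : ℤ) = (p : ℤ) - 1 := by
    have h1 : 1 ≤ p := hp.out.one_lt.le
    have : ((Fintype.card L.J * L.e : ℕ) : ℤ) = ((p - 1 : ℕ) : ℤ) := by rw [hJ]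
    push_cast [Nat.cast_sub h1] at this
    exact this
  refine h.trans ?_
  rw [Int.modEq_iff_dvd]
  refine ⟨K.δ χ * c * Cfsg.charDegree (L.θ : 𝐂 → ℂ), ?_⟩
  push_cast
  linear_combination (K.δ χ * c * Cfsg.charDegree (L.θ : 𝐂 → ℂ)) * hJ'

/-- the degrees of the exceptional characters -/
theorem degree_Y (j : L.J) :
    (Cfsg.charDegree (K.Λ j : G → ℂ) : ℤ) ≡ -(K.δ (K.Λ j)) *
      ((((𝐂).relIndex 𝐍) * Cfsg.charDegree (L.θ : 𝐂 → ℂ) : ℕ) : ℤ) [ZMOD p] := by
  classical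
  have : Fintype L.J := Fintype.ofFinite _
  have h := L.degree_congr hP hM hB hBP hind (K.Λ j) (K.mem j)
  have hsum : ∑ i : L.J, aco P L.θ (L.rep i) (K.Λ j) = K.δ (K.Λ j) := by
    rw [Finset.sum_eq_single j]
    · exact K.diag j
    · intro i _ hij
      exact K.off j i (Ne.symm hij)
    · intro h'; exact absurd (Finset.mem_univ _) h'
  rw [hsum] at h
  refine h.trans ?_
  have : -((((𝐂).relIndex 𝐍 : ℕ) : ℤ) * (Cfsg.charDegree (L.θ : 𝐂 → ℂ) : ℤ) * K.δ (K.Λ j))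
      = -(K.δ (K.Λ j)) * ((((𝐂).relIndex 𝐍) * Cfsg.charDegree (L.θ : 𝐂 → ℂ) : ℕ) : ℤ) := by
    push_cast; ring
  rw [this]

/-- the values of the non-exceptional characters at `p`-singular elements, when `θ` is stable -/
theorem value_S (hstab : ∀ n : 𝐍, act P n L.θ = L.θ) {χ : Cfsg.IrrCharacter G} (hχ : χ ∈ K.S)
    (c : 𝐂) (hc : p ∣ orderOf c) :
    (χ : G → ℂ) c = (K.δ χ : ℂ) * (L.θ : 𝐂 → ℂ) c := by
  classical
  have : Fintype (Cfsg.IrrCharacter 𝐂) := Fintype.ofFinite _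
  rw [L.value_of_stable hP hM hstab hB hBP hind χ hχ.1 c hc]
  have h1 : ∑ ξ ∈ Finset.univ.filter (· ∈ L.star), (aco P L.θ ξ χ : ℂ) * (ξ : 𝐂 → ℂ) c
      = ∑ ξ ∈ Finset.univ.filter (· ∈ L.star), (K.δ χ : ℂ) * (ξ : 𝐂 → ℂ) c := by
    apply Finset.sum_congr rfl
    intro ξ hξ
    rw [K.aco_S hχ (Finset.mem_filter.mp hξ).2]
  rw [h1, ← Finset.mul_sum]
  have h0 := sum_block_of_pSingular P hP hM L.hb L.hθ L.hθP c hc
  have h2 : Finset.univ.filter (· ∈ L.b) = insert L.θ (Finset.univ.filter (· ∈ L.star)) := by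
    ext ξ
    simp only [Finset.mem_filter, Finset.mem_univ, true_and, Finset.mem_insert]
    constructor
    · intro h
      by_cases hne : ξ = L.θ
      · exact Or.inl hne
      · exact Or.inr ⟨h, hne⟩
    · rintro (h | h)
      · rw [h]; exact L.hθ
      · exact h.1
  have h3 : L.θ ∉ Finset.univ.filter (· ∈ L.star) := by
    intro h
    exact (Finset.mem_filter.mp h).2.2 rfl
  rw [h2, Finset.sum_insert h3] at h0
  have h4 : ∑ ξ ∈ Finset.univ.filter (· ∈ L.star), (ξ : 𝐂 → ℂ) c = - (L.θ : 𝐂 → ℂ) c := by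
    linear_combination h0
  rw [h4]
  ring

end Str

end Loc

section principal

variable (P)

/-- the local data of the principal block -/
noncomputable def prin (hM : Cfsg.IsPModular p M) : Loc M P :=
  ⟨Cfsg.principalBlock M 𝐂, oneIrr 𝐂, isPBlock_principalBlock, oneIrr_mem_principalBlock hM,
    fun _ _ => rfl⟩

theorem prin_stab (hM : Cfsg.IsPModular p M) (n : 𝐍) : act P n (prin P hM).θ = (prin P hM).θ :=
  mapIrr_oneIrr _

theorem prin_induced (hM : Cfsg.IsPModular p M) :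
    Cfsg.IsInducedBlock M 𝐂 (prin P hM).b (Cfsg.principalBlock M G) :=
  (isBrauerPairOf_iff_isInducedBlock hM (P : Subgroup G) P.isPGroup' _ _).mp
    (isBrauerPairOf_principal hM (P : Subgroup G) P.isPGroup')

theorem prin_T (hM : Cfsg.IsPModular p M) : (prin P hM).T = 𝐍 := by
  apply le_antisymm (prin P hM).T_le_N
  intro g hg
  rw [Loc.mem_T_iff]
  exact ⟨hg, prin_stab P hM ⟨g, hg⟩⟩

theorem prin_e (hM : Cfsg.IsPModular p M) : (prin P hM).e = (𝐂).relIndex 𝐍 := by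
  unfold Loc.e
  rw [prin_T]

theorem prin_defect (hM : Cfsg.IsPModular p M) :
    Cfsg.IsDefectGroup p M (Cfsg.principalBlock M G) (P : Subgroup G) :=
  (isDefectGroup_principal_iff hM _).mpr ⟨P, rfl⟩

theorem prin_theta_apply (hM : Cfsg.IsPModular p M) (c : 𝐂) :
    ((prin P hM).θ : 𝐂 → ℂ) c = 1 := rfl

theorem prin_charDegree (hM : Cfsg.IsPModular p M) :
    Cfsg.charDegree ((prin P hM).θ : 𝐂 → ℂ) = 1 := charDegree_one_fun

end principal

end Cfsg.Agent.Lib.Helper6.PB
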