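import Mathlib
import Cfsg.Prelude.Def_Blocks
import Cfsg.Agent.Lib.Helper6.BlkDim
import Cfsg.Agent.Lib.Helper6.BlkVanish

set_option autoImplicit false
set_option linter.unusedSectionVars false
open Cfsg

namespace Cfsg.Agent.Lib.Helper6

open scoped ComplexConjugate

section greenpl

variable {G : Type*} [Group G] [Fintype G] [DecidableEq G]
variable {p : ℕ} {M : Ideal Cfsg.AlgInt}

/-- summing a character over a translate `y S` of a subgroup `S` centralizing `y` -/
theorem sum_central_translate {χ : G → ℂ} (hχ : Cfsg.IsCharacter G χ) (y : G) (S : Subgroup G)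
    (hS : S ≤ Subgroup.centralizer ({y} : Set G)) :
    ∃ z : ℂ, IsIntegral ℤ z ∧ ∑ᶠ s : S, χ (y * s) = (Nat.card S : ℂ) * z := by
  classical
  obtain ⟨H, hH⟩ : ∃ H : Subgroup G, H = Subgroup.centralizer ({y} : Set G) := ⟨_, rfl⟩
  rw [← hH] at hS
  have hyH : y ∈ H := by
    rw [hH, Subgroup.mem_centralizer_singleton_iff]
  haveI : Fintype H := Fintype.ofFinite _
  haveI : Fintype (Cfsg.IrrCharacter H) := Fintype.ofFinite _
  have hyc : ∀ h : H, (⟨y, hyH⟩ : H) * h = h * ⟨y, hyH⟩ := by
    intro h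
    apply Subtype.ext
    have h2 : (h : G) ∈ Subgroup.centralizer ({y} : Set G) := hH ▸ h.2
    rw [Subgroup.mem_centralizer_singleton_iff] at h2
    exact h2.symm
  obtain ⟨m, hm⟩ := IsCharacter.eq_sum_irr (IsCharacter.restrict H hχ)
  haveI : Fintype (S.subgroupOf H) := Fintype.ofFinite _
  haveI : Fintype S := Fintype.ofFinite _
  have hcard : Nat.card (S.subgroupOf H) = Nat.card S :=
    Nat.card_congr (Subgroup.subgroupOfEquivOfLe hS).toEquiv
  refine ⟨∑ μ : Cfsg.IrrCharacter H, (m μ : ℂ) *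
    (Cfsg.centralChar (μ : H → ℂ) ⟨y, hyH⟩ * (trivMult (S.subgroupOf H) (μ : H → ℂ) : ℂ)), ?_, ?_⟩
  · apply IsIntegral.sum
    intro μ _
    apply IsIntegral.mul (isIntegral_natCast _)
    apply IsIntegral.mul (IsIrrCharacter.isIntegral_centralChar' μ.2 _)
    exact isIntegral_natCast _
  · have h1 : ∑ᶠ s : S, χ (y * s) = ∑ s' : (S.subgroupOf H), (fun h : H => χ h) (⟨y, hyH⟩ * (s' : H)) := by
      rw [finsum_eq_sum_of_fintype]
      symm
      apply Fintype.sum_equiv (Subgroup.subgroupOfEquivOfLe hS).toEquiv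
      intro s'
      rfl
    rw [h1, hm]
    simp only [Finset.sum_apply, Pi.smul_apply, Pi.mul_apply, Pi.natCast_apply, nsmul_eq_mul]
    rw [Finset.sum_comm, Finset.mul_sum]
    apply Finset.sum_congr rfl
    intro μ _
    rw [← Finset.mul_sum]
    have h2 : ∀ s' : (S.subgroupOf H), (μ : H → ℂ) (⟨y, hyH⟩ * (s' : H))
        = Cfsg.centralChar (μ : H → ℂ) ⟨y, hyH⟩ * (μ : H → ℂ) (s' : H) := by
      intro s'
      rw [IsIrrCharacter.apply_central_mul μ.2 hyc]
      unfold Cfsg.centralChar
      have : (Subgroup.centralizer ({(⟨y, hyH⟩ : H)} : Set H)) = ⊤ := by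
        rw [eq_top_iff]
        intro h _
        rw [Subgroup.mem_centralizer_singleton_iff]
        exact (hyc h).symm
      rw [this, Subgroup.index_top]
      push_cast
      ring
    rw [Finset.sum_congr rfl (fun s' _ => h2 s'), ← Finset.mul_sum]
    have h3 := trivMult_spec (S.subgroupOf H) (IsIrrCharacter.isCharacter μ.2)
    rw [finsum_eq_sum_of_fintype] at h3
    have hne : (Nat.card (S.subgroupOf H) : ℂ) ≠ 0 := by exact_mod_cast (Nat.card_pos (α := (S.subgroupOf H))).ne'
    have h4 : ∑ s' : (S.subgroupOf H), (μ : H → ℂ) (s' : H) = (Nat.card (S.subgroupOf H) : ℂ) * (trivMult (S.subgroupOf H) (μ : H → ℂ) : ℂ) := by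
      rw [← h3, ← mul_assoc, mul_inv_cancel₀ hne, one_mul]
    rw [h4, hcard]
    ring

/-- a nontrivial `p`-element times a commuting `p`-regular element is `p`-singular -/
theorem dvd_orderOf_mul_of_commute (hp : p.Prime) {y s : G} (hc : Commute y s)
    (hy : ¬ p ∣ orderOf y) {k : ℕ} (hs : orderOf s = p ^ k) (hs1 : s ≠ 1) :
    p ∣ orderOf (y * s) := by
  have hk : k ≠ 0 := by
    intro h0
    rw [h0, pow_zero, orderOf_eq_one_iff] at hs
    exact hs1 hs
  have hcop : Nat.Coprime (orderOf y) (orderOf s) := by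
    rw [hs]
    apply Nat.Coprime.pow_right
    rw [Nat.coprime_comm]
    exact (Nat.Prime.coprime_iff_not_dvd hp).mpr hy
  rw [hc.orderOf_mul_eq_mul_orderOf_of_coprime hcop, hs]
  exact Dvd.dvd.mul_left (dvd_pow_self p hk) _

/-- a generalized character vanishing at the `p`-singular elements takes at `y` a value divisible
by the `p`-part of the order of the centralizer of `y` -/
theorem genchar_vanishing_div [Fact p.Prime] [Fintype (Cfsg.IrrCharacter G)]
    (c : Cfsg.IrrCharacter G → ℤ)
    (hvan : ∀ x : G, p ∣ orderOf x → ∑ χ : Cfsg.IrrCharacter G, (c χ : ℂ) * (χ : G → ℂ) x = 0)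
    (y : G) :
    ∃ z : ℂ, IsIntegral ℤ z ∧ ∑ χ : Cfsg.IrrCharacter G, (c χ : ℂ) * (χ : G → ℂ) y
      = (p : ℂ) ^ ((Nat.card (Subgroup.centralizer ({y} : Set G))).factorization p) * z := by
  classical
  have hp : p.Prime := Fact.out
  by_cases hy : p ∣ orderOf y
  · exact ⟨0, isIntegral_zero, by rw [hvan y hy, mul_zero]⟩
  have Q : Sylow p (Subgroup.centralizer ({y} : Set G)) := default
  obtain ⟨S, hSdef⟩ : ∃ S : Subgroup G, S = (Q : Subgroup (Subgroup.centralizer ({y} : Set G))).map
      (Subgroup.centralizer ({y} : Set G)).subtype := ⟨_, rfl⟩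
  have hS : S ≤ Subgroup.centralizer ({y} : Set G) := by
    rw [hSdef]
    rintro _ ⟨w, _, rfl⟩
    exact w.2
  have hScard : Nat.card S = p ^ (Nat.card (Subgroup.centralizer ({y} : Set G))).factorization p := by
    rw [hSdef, Subgroup.card_map_of_injective (Subgroup.subtype_injective _),
      Sylow.card_eq_multiplicity]
  haveI : Fintype S := Fintype.ofFinite _
  have hz : ∀ χ : Cfsg.IrrCharacter G, ∃ z : ℂ, IsIntegral ℤ z ∧
      ∑ᶠ s : S, (χ : G → ℂ) (y * s) = (Nat.card S : ℂ) * z :=
    fun χ => sum_central_translate (IsIrrCharacter.isCharacter χ.2) y S hS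
  choose z hzint hzeq using hz
  refine ⟨∑ χ : Cfsg.IrrCharacter G, (c χ : ℂ) * z χ, ?_, ?_⟩
  · apply IsIntegral.sum
    intro χ _
    exact IsIntegral.mul (isIntegral_intCast _) (hzint χ)
  · have h1 : ∑ χ : Cfsg.IrrCharacter G, (c χ : ℂ) * (χ : G → ℂ) y
        = ∑ s : S, ∑ χ : Cfsg.IrrCharacter G, (c χ : ℂ) * (χ : G → ℂ) (y * s) := by
      rw [Finset.sum_eq_single (1 : S)]
      · simp
      · intro s _ hs1
        apply hvan
        have hsS : (s : G) ∈ Subgroup.centralizer ({y} : Set G) := hS s.2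
        rw [Subgroup.mem_centralizer_singleton_iff] at hsS
        have hpow : ∃ k, orderOf (s : G) = p ^ k := by
          have h1 : orderOf (s : G) ∣ Nat.card S := by
            rw [Subgroup.orderOf_coe]
            exact orderOf_dvd_natCard _
          rw [hScard] at h1
          obtain ⟨k, _, hk⟩ := (Nat.dvd_prime_pow hp).mp h1
          exact ⟨k, hk⟩
        obtain ⟨k, hk⟩ := hpow
        apply dvd_orderOf_mul_of_commute hp _ hy hk
        · intro h
          apply hs1
          exact Subtype.ext h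
        · exact hsS.symm
      · intro h
        exact absurd (Finset.mem_univ _) h
    rw [h1, Finset.sum_comm]
    have h2 : ∀ χ : Cfsg.IrrCharacter G, ∑ s : S, (c χ : ℂ) * (χ : G → ℂ) (y * s)
        = (p : ℂ) ^ ((Nat.card (Subgroup.centralizer ({y} : Set G))).factorization p)
          * ((c χ : ℂ) * z χ) := by
      intro χ
      rw [← Finset.mul_sum]
      have := hzeq χ
      rw [finsum_eq_sum_of_fintype] at this
      rw [this, hScard]
      push_cast
      ring
    rw [Finset.sum_congr rfl (fun χ _ => h2 χ), ← Finset.mul_sum]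

end greenpl

end Cfsg.Agent.Lib.Helper6
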