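import Mathlib

set_option autoImplicit false

namespace Cfsg.Agent.Lib.Helper6

open Matrix

/-- the rank of a square matrix is unchanged by extending the field -/
theorem rank_map_field {k K : Type*} [Field k] [Field K] (φ : k →+* K) {n : Type*} [Fintype n]
    [DecidableEq n] (A : Matrix n n k) : (A.map φ).rank = A.rank := by
  classical
  obtain ⟨L, L', D, hA⟩ := Matrix.Pivot.exists_list_transvec_mul_diagonal_mul_list_transvec A
  obtain ⟨P, hP⟩ : ∃ P : Matrix n n k, P = (L.map TransvectionStruct.toMatrix).prod := ⟨_, rfl⟩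
  obtain ⟨Q, hQ⟩ : ∃ Q : Matrix n n k, Q = (L'.map TransvectionStruct.toMatrix).prod := ⟨_, rfl⟩
  rw [← hP, ← hQ] at hA
  have hPdet : P.det = 1 := by rw [hP]; exact TransvectionStruct.det_toMatrix_prod L
  have hQdet : Q.det = 1 := by rw [hQ]; exact TransvectionStruct.det_toMatrix_prod L'
  have hPdet' : (P.map φ).det = 1 := by
    have := RingHom.map_det φ P
    rw [hPdet, map_one] at this
    rw [← RingHom.mapMatrix_apply]
    exact this.symm
  have hQdet' : (Q.map φ).det = 1 := by
    have := RingHom.map_det φ Q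
    rw [hQdet, map_one] at this
    rw [← RingHom.mapMatrix_apply]
    exact this.symm
  have hA' : A.map φ = P.map φ * Matrix.diagonal (fun i => φ (D i)) * Q.map φ := by
    rw [hA, Matrix.map_mul, Matrix.map_mul, Matrix.diagonal_map (map_zero φ)]
  have h1 : A.rank = (Matrix.diagonal D).rank := by
    rw [hA, Matrix.rank_mul_eq_left_of_isUnit_det Q _ (by rw [hQdet]; exact isUnit_one),
      Matrix.rank_mul_eq_right_of_isUnit_det P _ (by rw [hPdet]; exact isUnit_one)]
  have h2 : (A.map φ).rank = (Matrix.diagonal (fun i => φ (D i))).rank := by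
    rw [hA', Matrix.rank_mul_eq_left_of_isUnit_det (Q.map φ) _ (by rw [hQdet']; exact isUnit_one),
      Matrix.rank_mul_eq_right_of_isUnit_det (P.map φ) _ (by rw [hPdet']; exact isUnit_one)]
  rw [h1, h2, Matrix.rank_diagonal, Matrix.rank_diagonal]
  apply Fintype.card_congr
  apply Equiv.subtypeEquivRight
  intro i
  rw [Ne, Ne, map_eq_zero]

end Cfsg.Agent.Lib.Helper6
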