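import Mathlib
import Cfsg.Prelude.Def_Blocks
import Cfsg.Agent.Lib.Helper6.BlkIndDefect
import Cfsg.Agent.Lib.Helper6.BlkDefect
import Cfsg.Agent.Lib.Helper6.BlkHeightTilde
import Cfsg.Agent.Lib.Helper6.SylowMap
import Cfsg.Agent.S0908

set_option autoImplicit false
set_option linter.unusedSectionVars false
open Cfsg

namespace Cfsg.Agent.Lib.Helper6

open scoped ComplexConjugate

section

variable {G : Type*} [Group G] [Fintype G] [DecidableEq G]
variable {p : ℕ} {M : Ideal Cfsg.AlgInt}

theorem factorization_card_centralizer_add (_hp : p.Prime) (g : G) :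
    (Nat.card (Subgroup.centralizer ({g} : Set G))).factorization p
      + (Subgroup.centralizer ({g} : Set G)).index.factorization p
      = (Nat.card G).factorization p := by
  have h1 := (Subgroup.centralizer ({g} : Set G)).index_mul_card
  have hn0 : (Subgroup.centralizer ({g} : Set G)).index ≠ 0 := Subgroup.index_ne_zero_of_finite
  have hc0 : Nat.card (Subgroup.centralizer ({g} : Set G)) ≠ 0 := Nat.card_pos.ne'
  rw [← h1, Nat.factorization_mul hn0 hc0]
  simp only [Finsupp.coe_add, Pi.add_apply]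
  ring

/-- if the central character at `g` is a unit then the defect of the block is at most the
defect of the class of `g` -/
theorem blockDefect_le_of_centralChar (hM : Cfsg.IsPModular p M) (χ : Cfsg.IrrCharacter G) (g : G)
    (h : ¬ Cfsg.MemLocalIdeal M (Cfsg.centralChar (χ : G → ℂ) g)) :
    Cfsg.blockDefect p (Cfsg.blockOf M (χ : G → ℂ))
      ≤ (Nat.card (Subgroup.centralizer ({g} : Set G))).factorization p := by
  have hp : p.Prime := hM.1
  have hχB : χ ∈ Cfsg.blockOf M (χ : G → ℂ) := sameBlock_refl hM _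
  obtain ⟨ξ₀, hξ₀B, hξ₀min⟩ := exists_min_degree (p := p) (Cfsg.blockOf M (χ : G → ℂ)) χ hχB
  have hξ₀ : ¬ Cfsg.MemLocalIdeal M (Cfsg.centralChar (ξ₀ : G → ℂ) g) := by
    intro hcon
    apply h
    have := MemLocalIdeal.add hM (hξ₀B g) hcon
    rwa [sub_add_cancel] at this
  have h1 := factorization_index_le_of_centralChar hM ξ₀.2 g hξ₀
  have h2 := factorization_card_centralizer_add hp g
  unfold Cfsg.blockDefect
  have h3 : sInf ((fun ψ : Cfsg.IrrCharacter G => (Cfsg.charDegree (ψ : G → ℂ)).factorization p) ''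
      (Cfsg.blockOf M (χ : G → ℂ))) = (Cfsg.charDegree (ξ₀ : G → ℂ)).factorization p := by
    apply le_antisymm
    · exact Nat.sInf_le ⟨ξ₀, hξ₀B, rfl⟩
    · have hne : ((fun ψ : Cfsg.IrrCharacter G => (Cfsg.charDegree (ψ : G → ℂ)).factorization p) ''
          (Cfsg.blockOf M (χ : G → ℂ))).Nonempty := ⟨_, χ, hχB, rfl⟩
      apply le_csInf hne
      rintro _ ⟨ψ, hψ, rfl⟩
      exact hξ₀min ψ hψ
  rw [h3]
  omega

/-- if the block idempotent coefficient at `g` is a unit then the defect of the class of `g`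
is at most the defect of the block -/
theorem le_blockDefect_of_blockCoeff (hM : Cfsg.IsPModular p M) [Fact p.Prime]
    (χ₀ : Cfsg.IrrCharacter G) (g : G)
    (h : ¬ Cfsg.MemLocalIdeal M (Cfsg.blockCoeff (Cfsg.blockOf M (χ₀ : G → ℂ)) g)) :
    (Nat.card (Subgroup.centralizer ({g} : Set G))).factorization p
      ≤ Cfsg.blockDefect p (Cfsg.blockOf M (χ₀ : G → ℂ)) := by
  have hp : p.Prime := hM.1
  have Q : Sylow p (Subgroup.centralizer ({g} : Set G)) := default
  obtain ⟨E, hE, hQE⟩ := exists_defectGroup_ge_of_blockCoeff hM χ₀ g h _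
    (sylow_map_isPGroup Q) (sylow_map_le Q)
  have hcard := Cfsg.Agent.S0908.result p M hM _ ⟨χ₀, rfl⟩ E hE
  have h1 := Subgroup.card_le_of_le hQE
  rw [card_sylow_map, hcard] at h1
  exact (Nat.pow_le_pow_iff_right hp.one_lt).mp h1

end

end Cfsg.Agent.Lib.Helper6
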