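import Mathlib
import Cfsg.Agent.Lib.Helper6.BlkColumn
import Cfsg.Agent.Lib.Helper6.ClassFun
import Cfsg.Agent.Lib.Helper6.IrrBasis
import Cfsg.Agent.Lib.Helper6.ClassMult
import Cfsg.Agent.S0939

set_option autoImplicit false
set_option linter.unusedSectionVars false
open Cfsg

namespace Cfsg.Agent.Lib.Helper6

open scoped ComplexConjugate

section

variable {G : Type*} [Group G] [Finite G]

/-- Brauer's second main theorem for class functions, principal block: the principal block part of
the shifted restriction of a class function to the centralizer of a `p`-element `z` is the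
principal block part of the class function, on the `p`-section of `z`. -/
theorem blockPart_shift_principal (p : ℕ) [Fact p.Prime] (M : Ideal Cfsg.AlgInt)
    (hM : Cfsg.IsPModular p M) (z : G) (hz : ∃ k : ℕ, orderOf z = p ^ k) {ϑ : G → ℂ}
    (hϑ : Cfsg.IsClassFunction G ϑ) (y : Subgroup.centralizer ({z} : Set G))
    (hy : ¬ p ∣ orderOf y) :
    Cfsg.blockPart (Cfsg.principalBlock M (Subgroup.centralizer ({z} : Set G)))
        (fun c : Subgroup.centralizer ({z} : Set G) => ϑ (z * (c : G))) y
      = Cfsg.blockPart (Cfsg.principalBlock M G) ϑ (z * (y : G)) := by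
  classical
  have : Fintype G := Fintype.ofFinite G
  have hp : p.Prime := hM.1
  have : Fintype (Subgroup.centralizer ({z} : Set G)) := Fintype.ofFinite _
  have : Fintype (Cfsg.IrrCharacter G) := Fintype.ofFinite _
  have : Fintype (Cfsg.IrrCharacter (Subgroup.centralizer ({z} : Set G))) := Fintype.ofFinite _
  have hzC : z ∈ Subgroup.centralizer ({z} : Set G) := by rw [mem_centralizer_singleton_iff]
  have hP : IsPGroup p (Subgroup.zpowers z) := by
    obtain ⟨k, hk⟩ := hz
    apply IsPGroup.of_card (n := k)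
    rw [Nat.card_zpowers, hk]
  have hPH : Subgroup.zpowers z ≤ Subgroup.centralizer ({z} : Set G) := by
    rw [Subgroup.zpowers_le]; exact hzC
  have hCH : Subgroup.centralizer (Subgroup.zpowers z : Set G)
      ≤ Subgroup.centralizer ({z} : Set G) := by
    apply Subgroup.centralizer_le
    intro g hg
    rw [Set.mem_singleton_iff] at hg
    rw [hg]
    exact Subgroup.mem_zpowers z
  have hHN : Subgroup.centralizer ({z} : Set G)
      ≤ Subgroup.normalizer (Subgroup.zpowers z : Set G) :=
    centralizer_singleton_le_normalizer_zpowers z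
  have hdef : ∀ b : Set (Cfsg.IrrCharacter (Subgroup.centralizer ({z} : Set G))),
      Cfsg.IsPBlock M b → Cfsg.InducedBlockDefined M (Subgroup.centralizer ({z} : Set G)) b :=
    fun b hb => inducedBlockDefined_of_centralizer_le (Subgroup.zpowers z) _ hM hP hPH hCH hHN b hb
  have hind : Cfsg.IsInducedBlock M (Subgroup.centralizer ({z} : Set G))
      (Cfsg.blockOf M ((oneIrr (Subgroup.centralizer ({z} : Set G)) :
        Cfsg.IrrCharacter (Subgroup.centralizer ({z} : Set G))) :
          Subgroup.centralizer ({z} : Set G) → ℂ)) (Cfsg.principalBlock M G) :=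
    (Cfsg.Agent.S0936.result p M hM _ _ (hdef _ ⟨_, rfl⟩)).mpr rfl
  have huniq : ∀ ψ₀ : Cfsg.IrrCharacter (Subgroup.centralizer ({z} : Set G)),
      Cfsg.IsInducedBlock M (Subgroup.centralizer ({z} : Set G))
        (Cfsg.blockOf M (ψ₀ : Subgroup.centralizer ({z} : Set G) → ℂ)) (Cfsg.principalBlock M G) →
      Cfsg.blockOf M (ψ₀ : Subgroup.centralizer ({z} : Set G) → ℂ)
        = Cfsg.blockOf M ((oneIrr (Subgroup.centralizer ({z} : Set G)) :
        Cfsg.IrrCharacter (Subgroup.centralizer ({z} : Set G))) :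
          Subgroup.centralizer ({z} : Set G) → ℂ) := by
    intro ψ₀ h
    exact (Cfsg.Agent.S0936.result p M hM _ _ ⟨_, h⟩).mp h
  have h2 : ∀ ζ : Cfsg.IrrCharacter G, Cfsg.blockPart
      (Cfsg.principalBlock M (Subgroup.centralizer ({z} : Set G)))
      (fun c : Subgroup.centralizer ({z} : Set G) => (ζ : G → ℂ) (z * (c : G))) y
      = if ζ ∈ Cfsg.principalBlock M G then (ζ : G → ℂ) (z * (y : G)) else 0 := fun ζ =>
    blockPart_shift_of_unique_induced hM z hz _ rfl _ _ hind huniq ζ y hy
  -- expand `ϑ`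
  have hexp := classFunction_eq_sum ϑ hϑ
  have hshift : (fun c : Subgroup.centralizer ({z} : Set G) => ϑ (z * (c : G)))
      = ∑ ζ : Cfsg.IrrCharacter G, Cfsg.classInner ϑ (ζ : G → ℂ) •
          (fun c : Subgroup.centralizer ({z} : Set G) => (ζ : G → ℂ) (z * (c : G))) := by
    funext c
    conv_lhs => rw [hexp]
    simp only [Finset.sum_apply, Pi.smul_apply, smul_eq_mul]
  rw [hshift, blockPart_eq_finset_sum, blockPart_eq_finset_sum]
  simp_rw [classInner_sum_left, classInner_smul_left, Finset.sum_mul]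
  rw [Finset.sum_comm]
  have h3 : ∀ ζ : Cfsg.IrrCharacter G,
      ∑ ψ ∈ Finset.univ.filter (· ∈ Cfsg.principalBlock M (Subgroup.centralizer ({z} : Set G))),
        Cfsg.classInner ϑ (ζ : G → ℂ) * Cfsg.classInner
          (fun c : Subgroup.centralizer ({z} : Set G) => (ζ : G → ℂ) (z * (c : G)))
            (ψ : Subgroup.centralizer ({z} : Set G) → ℂ)
          * (ψ : Subgroup.centralizer ({z} : Set G) → ℂ) y
      = Cfsg.classInner ϑ (ζ : G → ℂ) *
          (if ζ ∈ Cfsg.principalBlock M G then (ζ : G → ℂ) (z * (y : G)) else 0) := by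
    intro ζ
    rw [← h2 ζ, blockPart_eq_finset_sum, Finset.mul_sum]
    apply Finset.sum_congr rfl
    intro ψ _
    ring
  simp_rw [h3]
  rw [Finset.sum_filter]
  apply Finset.sum_congr rfl
  intro ζ _
  split_ifs
  · rfl
  · rw [mul_zero]

end

section kernel

variable {G : Type*} [Group G] [Fintype G] [DecidableEq G]

/-- for an irreducible character and a normal subgroup, the sum over a coset -/
theorem IsIrrCharacter.sum_normal_mul (N : Subgroup G) [hN : N.Normal] [Fintype N]
    {χ : G → ℂ} (hχ : Cfsg.IsIrrCharacter G χ) (w : G) :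
    ∑ n : N, χ ((n : G) * w) = (∑ n : N, χ (n : G)) * χ w / χ 1 := by
  classical
  have hG := card_ne_zero_complex G
  have h1 : ∀ a : G, ∑ g : G, χ (g * a * g⁻¹ * w) = (Nat.card G : ℂ) * χ a * χ w / χ 1 :=
    fun a => IsIrrCharacter.sum_conj_mul hχ a w
  have h2 : ∑ n : N, ∑ g : G, χ (g * (n : G) * g⁻¹ * w)
      = (Nat.card G : ℂ) * ∑ n : N, χ ((n : G) * w) := by
    rw [Finset.sum_comm]
    have h3 : ∀ g : G, ∑ n : N, χ (g * (n : G) * g⁻¹ * w) = ∑ n : N, χ ((n : G) * w) := by
      intro g
      let e : N ≃ N :=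
        { toFun := fun n => ⟨g * (n : G) * g⁻¹, hN.conj_mem n n.2 g⟩
          invFun := fun n => ⟨g⁻¹ * (n : G) * g, by
            have := hN.conj_mem n n.2 g⁻¹
            rwa [inv_inv] at this⟩
          left_inv := by
            intro n
            apply Subtype.ext
            show g⁻¹ * (g * (n : G) * g⁻¹) * g = (n : G)
            group
          right_inv := by
            intro n
            apply Subtype.ext
            show g * (g⁻¹ * (n : G) * g) * g⁻¹ = (n : G)
            group }
      exact Equiv.sum_comp e (fun n : N => χ ((n : G) * w))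
    simp_rw [h3]
    rw [Finset.sum_const, Finset.card_univ, nsmul_eq_mul, Nat.card_eq_fintype_card]
  simp_rw [h1] at h2
  have h4 : ∑ n : N, (Nat.card G : ℂ) * χ (n : G) * χ w / χ 1
      = (Nat.card G : ℂ) * ((∑ n : N, χ (n : G)) * χ w / χ 1) := by
    rw [Finset.sum_mul, Finset.sum_div, Finset.mul_sum]
    apply Finset.sum_congr rfl
    intro n _
    ring
  rw [h4] at h2
  exact (mul_left_cancel₀ hG h2).symm

/-- the regular character of the quotient `G ⧸ N` -/
theorem sum_apply_one_mul_conj_of_kernel_ge [Fintype (Cfsg.IrrCharacter G)] (N : Subgroup G)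
    [hN : N.Normal] [Fintype N] [DecidablePred (fun χ : Cfsg.IrrCharacter G =>
        ∀ n ∈ N, (χ : G → ℂ) n = (χ : G → ℂ) 1)] (g : G) [Decidable (g ∈ N)] :
    ∑ χ ∈ Finset.univ.filter (fun χ : Cfsg.IrrCharacter G =>
        ∀ n ∈ N, (χ : G → ℂ) n = (χ : G → ℂ) 1), (χ : G → ℂ) 1 * conj ((χ : G → ℂ) g)
      = if g ∈ N then (N.index : ℂ) else 0 := by
  classical
  have hN0 : (Nat.card N : ℂ) ≠ 0 := card_ne_zero_complex N
  have h1 : ∑ n : N, ∑ χ : Cfsg.IrrCharacter G, (χ : G → ℂ) ((n : G) * g⁻¹) * (χ : G → ℂ) 1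
      = if g ∈ N then (Nat.card G : ℂ) else 0 := by
    simp_rw [sum_irr_apply_mul_apply_one]
    split_ifs with hg
    · rw [Finset.sum_eq_single (⟨g, hg⟩ : N)]
      · rw [if_pos]; simp
      · intro n _ hn
        rw [if_neg]
        intro h
        apply hn
        apply Subtype.ext
        show (n : G) = g
        calc (n : G) = ((n : G) * g⁻¹) * g := by group
          _ = g := by rw [h, one_mul]
      · intro h; exact absurd (Finset.mem_univ _) h
    · apply Finset.sum_eq_zero
      intro n _
      rw [if_neg]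
      intro h
      apply hg
      have : g = (n : G) := by
        calc g = ((n : G) * g⁻¹)⁻¹ * (n : G) := by group
          _ = (n : G) := by rw [h, inv_one, one_mul]
      rw [this]; exact n.2
  rw [Finset.sum_comm] at h1
  have h2 : ∀ χ : Cfsg.IrrCharacter G,
      ∑ n : N, (χ : G → ℂ) ((n : G) * g⁻¹) * (χ : G → ℂ) 1
      = if (∀ n ∈ N, (χ : G → ℂ) n = (χ : G → ℂ) 1) then
          (Nat.card N : ℂ) * ((χ : G → ℂ) 1 * conj ((χ : G → ℂ) g)) else 0 := by
    intro χ
    rw [← Finset.sum_mul, IsIrrCharacter.sum_normal_mul N χ.2 g⁻¹]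
    have hne := IsIrrCharacter.apply_one_ne_zero χ.2
    split_ifs with h
    · have : ∑ n : N, (χ : G → ℂ) (n : G) = (Nat.card N : ℂ) * (χ : G → ℂ) 1 := by
        have : ∀ n : N, (χ : G → ℂ) (n : G) = (χ : G → ℂ) 1 := fun n => h n n.2
        simp_rw [this]
        rw [Finset.sum_const, Finset.card_univ, ← Nat.card_eq_fintype_card, nsmul_eq_mul]
      rw [this, IsCharacter.apply_inv (IsIrrCharacter.isCharacter χ.2)]
      field_simp
    · have : ∑ n : N, (χ : G → ℂ) (n : G) = 0 := by
        by_contra hne'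
        apply h
        intro n hn
        exact IsIrrCharacter.const_on_normal_of_sum_ne_zero N χ.2 hne' ⟨n, hn⟩
      rw [this]
      simp
  simp_rw [h2] at h1
  rw [← Finset.sum_filter, ← Finset.mul_sum] at h1
  have h3 : (Nat.card G : ℂ) = (N.index : ℂ) * (Nat.card N : ℂ) := by
    rw [← Nat.cast_mul, N.index_mul_card]
  split_ifs at h1 ⊢ with hg
  · rw [h3, mul_comm] at h1
    exact mul_right_cancel₀ hN0 h1
  · rcases mul_eq_zero.mp h1 with h | h
    · exact absurd h hN0
    · exact h

end kernel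

section coeff

variable {G : Type*} [Group G] [Finite G]

/-- the coefficients of the principal block idempotent of a group with a normal `p`-complement -/
theorem blockCoeff_principal_of_normal_complement (p : ℕ) [Fact p.Prime] (M : Ideal Cfsg.AlgInt)
    (hM : Cfsg.IsPModular p M) (hnc : ∃ k : ℕ, (Cfsg.pPrimeCore p G).index = p ^ k) (g : G)
    [Decidable (g ∈ Cfsg.pPrimeCore p G)] :
    Cfsg.blockCoeff (Cfsg.principalBlock M G) g
      = if g ∈ Cfsg.pPrimeCore p G then (Nat.card (Cfsg.pPrimeCore p G) : ℂ)⁻¹ else 0 := by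
  classical
  have : Fintype G := Fintype.ofFinite G
  have : Fintype (Cfsg.IrrCharacter G) := Fintype.ofFinite _
  have : Fintype (Cfsg.pPrimeCore p G) := Fintype.ofFinite _
  obtain ⟨hNn, hNc⟩ := pPrimeCore_normal_and_coprime (G := G) p
  have hb0 := Cfsg.Agent.S0939.result (G := G) p M hM hnc
  unfold Cfsg.blockCoeff
  rw [finsum_mem_eq_sum_filter_lib]
  have h1 := sum_apply_one_mul_conj_of_kernel_ge (Cfsg.pPrimeCore p G) g
  have h2 : Finset.univ.filter (· ∈ Cfsg.principalBlock M G)
      = Finset.univ.filter (fun χ : Cfsg.IrrCharacter G =>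
        ∀ n ∈ Cfsg.pPrimeCore p G, (χ : G → ℂ) n = (χ : G → ℂ) 1) := by
    ext χ
    simp only [Finset.mem_filter, Finset.mem_univ, true_and]
    rw [hb0]
    rfl
  rw [h2, h1]
  have hN0 : (Nat.card (Cfsg.pPrimeCore p G) : ℂ) ≠ 0 := card_ne_zero_complex _
  have hG0 : (Nat.card G : ℂ) ≠ 0 := card_ne_zero_complex G
  have h3 : (Nat.card G : ℂ) = ((Cfsg.pPrimeCore p G).index : ℂ)
      * (Nat.card (Cfsg.pPrimeCore p G) : ℂ) := by
    rw [← Nat.cast_mul, (Cfsg.pPrimeCore p G).index_mul_card]
  split_ifs with hg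
  · rw [h3]
    have hi0 : ((Cfsg.pPrimeCore p G).index : ℂ) ≠ 0 := by
      intro h
      rw [h, zero_mul] at h3
      exact hG0 h3
    field_simp
  · rw [mul_zero]

end coeff

end Cfsg.Agent.Lib.Helper6
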