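import Mathlib
import Cfsg.Agent.Lib.Helper6.PComplement

set_option autoImplicit false
set_option linter.unusedSectionVars false

namespace Cfsg.Agent.Lib.Helper6

section

variable {E : Type*} [Group E] [Finite E]

/-- the normal `ℓ`-complement of a nilpotent group, chosen for every number `ℓ` (the whole
group when `ℓ` is not a prime) -/
noncomputable def primeCompl (E : Type*) [Group E] [Finite E] [Group.IsNilpotent E] (ℓ : ℕ) :
    Subgroup E := by
  classical
  exact if h : ℓ.Prime then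
    haveI : Fact ℓ.Prime := ⟨h⟩
    Classical.choose (exists_normal_pcomplement_of_nilpotent (E := E) ℓ)
  else ⊤

theorem primeCompl_normal [Group.IsNilpotent E] (ℓ : ℕ) : (primeCompl E ℓ).Normal := by
  unfold primeCompl
  by_cases h : ℓ.Prime
  · rw [dif_pos h]
    haveI : Fact ℓ.Prime := ⟨h⟩
    exact (Classical.choose_spec (exists_normal_pcomplement_of_nilpotent (E := E) ℓ)).1
  · rw [dif_neg h]
    infer_instance

theorem primeCompl_coprime [Group.IsNilpotent E] {ℓ : ℕ} (h : ℓ.Prime) :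
    Nat.Coprime (Nat.card (primeCompl E ℓ)) ℓ := by
  unfold primeCompl
  rw [dif_pos h]
  haveI : Fact ℓ.Prime := ⟨h⟩
  exact (Classical.choose_spec (exists_normal_pcomplement_of_nilpotent (E := E) ℓ)).2.1

theorem primeCompl_index [Group.IsNilpotent E] {ℓ : ℕ} (h : ℓ.Prime) :
    (primeCompl E ℓ).index = ℓ ^ (Nat.card E).factorization ℓ := by
  unfold primeCompl
  rw [dif_pos h]
  haveI : Fact ℓ.Prime := ⟨h⟩
  exact (Classical.choose_spec (exists_normal_pcomplement_of_nilpotent (E := E) ℓ)).2.2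

/-- the intersection of the normal `ℓ`-complements for `ℓ` in a finite set of primes -/
noncomputable def hallCompl (E : Type*) [Group E] [Finite E] [Group.IsNilpotent E]
    (s : Finset ℕ) : Subgroup E := ⨅ ℓ ∈ s, primeCompl E ℓ

theorem hallCompl_normal [Group.IsNilpotent E] (s : Finset ℕ) : (hallCompl E s).Normal := by
  unfold hallCompl
  apply Subgroup.normal_iInf_normal
  intro ℓ
  apply Subgroup.normal_iInf_normal
  intro _
  exact primeCompl_normal ℓ

theorem hallCompl_le [Group.IsNilpotent E] {s : Finset ℕ} {ℓ : ℕ} (h : ℓ ∈ s) :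
    hallCompl E s ≤ primeCompl E ℓ := by
  unfold hallCompl
  exact iInf₂_le ℓ h

theorem hallCompl_coprime [Group.IsNilpotent E] (s : Finset ℕ) (hs : ∀ ℓ ∈ s, ℓ.Prime) {ℓ : ℕ}
    (h : ℓ ∈ s) : Nat.Coprime (Nat.card (hallCompl E s)) ℓ := by
  have h1 := Subgroup.card_dvd_of_le (hallCompl_le (E := E) h)
  exact Nat.Coprime.coprime_dvd_left h1 (primeCompl_coprime (hs ℓ h))

theorem hallCompl_insert [Group.IsNilpotent E] [DecidableEq ℕ] (s : Finset ℕ) (ℓ : ℕ) :
    hallCompl E (insert ℓ s) = primeCompl E ℓ ⊓ hallCompl E s := by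
  unfold hallCompl
  rw [Finset.iInf_insert]

theorem hallCompl_index_dvd [Group.IsNilpotent E] (s : Finset ℕ) (hs : ∀ ℓ ∈ s, ℓ.Prime) :
    (hallCompl E s).index ∣ ∏ ℓ ∈ s, ℓ ^ (Nat.card E).factorization ℓ := by
  classical
  induction s using Finset.induction_on with
  | empty =>
    unfold hallCompl
    simp
  | insert ℓ s hℓ ih =>
    rw [hallCompl_insert, Finset.prod_insert hℓ]
    have ih' := ih (fun q hq => hs q (Finset.mem_insert_of_mem hq))
    have hℓp := hs ℓ (Finset.mem_insert_self ℓ s)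
    have h1 : (primeCompl E ℓ ⊓ hallCompl E s).index
        = (primeCompl E ℓ).relIndex (hallCompl E s) * (hallCompl E s).index := by
      rw [← Subgroup.inf_relIndex_right, Subgroup.relIndex_mul_index inf_le_right]
    rw [h1]
    haveI := primeCompl_normal (E := E) ℓ
    have h2 : (primeCompl E ℓ).relIndex (hallCompl E s) ∣ ℓ ^ (Nat.card E).factorization ℓ := by
      rw [← primeCompl_index hℓp]
      exact Subgroup.relIndex_dvd_index_of_normal _ _
    exact Nat.mul_dvd_mul h2 ih'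

/-- Hall decomposition of a finite nilpotent group with respect to a coprime factorization. -/
theorem exists_hall_decomp [Group.IsNilpotent E] (m n : ℕ) (hcop : Nat.Coprime m n)
    (hmn0 : m * n ≠ 0) (hE : Nat.card E ∣ m * n) :
    ∃ A B : Subgroup E, A.Normal ∧ B.Normal ∧ Nat.card A ∣ m ∧ Nat.card B ∣ n ∧ A.index ∣ n ∧
      Nat.card A * Nat.card B = Nat.card E := by
  have hE0 : Nat.card E ≠ 0 := Nat.card_pos.ne'
  have hm0 : m ≠ 0 := fun h => hmn0 (by rw [h, zero_mul])
  have hn0 : n ≠ 0 := fun h => hmn0 (by rw [h, mul_zero])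
  -- a number coprime to all prime factors of `r` is coprime to `r`
  have key : ∀ (r c : ℕ), r ≠ 0 → (∀ ℓ ∈ r.primeFactors, Nat.Coprime c ℓ) → Nat.Coprime c r := by
    intro r c hr h
    apply Nat.Coprime.symm
    apply Nat.coprime_of_dvd
    intro q hq hqr hqc
    have hqmem : q ∈ r.primeFactors := Nat.mem_primeFactors.mpr ⟨hq, hqr, hr⟩
    have := h q hqmem
    have h1 : q ∣ Nat.gcd c q := Nat.dvd_gcd hqc dvd_rfl
    rw [this] at h1
    exact hq.one_lt.ne' (Nat.dvd_one.mp h1)
  have key2 : ∀ (r r' : ℕ), Nat.Coprime r r' →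
      Nat.Coprime (∏ ℓ ∈ r.primeFactors, ℓ ^ (Nat.card E).factorization ℓ) r' := by
    intro r r' hrr'
    apply Nat.Coprime.prod_left
    intro ℓ hℓ
    apply Nat.Coprime.pow_left
    exact Nat.Coprime.coprime_dvd_left (Nat.dvd_of_mem_primeFactors hℓ) hrr'
  obtain ⟨A, hA⟩ : ∃ A : Subgroup E, A = hallCompl E n.primeFactors := ⟨_, rfl⟩
  obtain ⟨B, hB⟩ : ∃ B : Subgroup E, B = hallCompl E m.primeFactors := ⟨_, rfl⟩
  have hAn : A.Normal := by rw [hA]; exact hallCompl_normal _
  have hBn : B.Normal := by rw [hB]; exact hallCompl_normal _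
  have hAcop : Nat.Coprime (Nat.card A) n := by
    apply key n _ hn0
    intro ℓ hℓ
    rw [hA]
    exact hallCompl_coprime _ (fun q hq => Nat.prime_of_mem_primeFactors hq) hℓ
  have hBcop : Nat.Coprime (Nat.card B) m := by
    apply key m _ hm0
    intro ℓ hℓ
    rw [hB]
    exact hallCompl_coprime _ (fun q hq => Nat.prime_of_mem_primeFactors hq) hℓ
  have hAidx : Nat.Coprime A.index m := by
    have h1 := hallCompl_index_dvd (E := E) n.primeFactors
      (fun q hq => Nat.prime_of_mem_primeFactors hq)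
    rw [← hA] at h1
    exact Nat.Coprime.coprime_dvd_left h1 (key2 n m hcop.symm)
  have hBidx : Nat.Coprime B.index n := by
    have h1 := hallCompl_index_dvd (E := E) m.primeFactors
      (fun q hq => Nat.prime_of_mem_primeFactors hq)
    rw [← hB] at h1
    exact Nat.Coprime.coprime_dvd_left h1 (key2 m n hcop)
  have hA1 := A.card_mul_index
  have hB1 := B.card_mul_index
  have hAm : Nat.card A ∣ m := by
    have : Nat.card A ∣ m * n := (Dvd.intro _ hA1).trans hE
    exact hAcop.dvd_of_dvd_mul_right this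
  have hBn' : Nat.card B ∣ n := by
    have : Nat.card B ∣ m * n := (Dvd.intro _ hB1).trans hE
    exact hBcop.dvd_of_dvd_mul_left this
  have hAidxn : A.index ∣ n := by
    have : A.index ∣ m * n := (Dvd.intro_left _ hA1).trans hE
    exact hAidx.dvd_of_dvd_mul_left this
  have hBidxm : B.index ∣ m := by
    have : B.index ∣ m * n := (Dvd.intro_left _ hB1).trans hE
    exact hBidx.dvd_of_dvd_mul_right this
  refine ⟨A, B, hAn, hBn, hAm, hBn', hAidxn, ?_⟩
  -- `|A| = |E : B|`
  have h1 : Nat.card A ∣ B.index := by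
    have h2 : Nat.card A ∣ Nat.card B * B.index := by rw [hB1, ← hA1]; exact Dvd.intro _ rfl
    have h3 : Nat.Coprime (Nat.card A) (Nat.card B) :=
      Nat.Coprime.coprime_dvd_left hAm (Nat.Coprime.coprime_dvd_right hBn' hcop)
    exact h3.dvd_of_dvd_mul_left h2
  have h2 : B.index ∣ Nat.card A := by
    have h3 : B.index ∣ Nat.card A * A.index := by rw [hA1, ← hB1]; exact Dvd.intro_left _ rfl
    have h4 : Nat.Coprime B.index A.index :=
      Nat.Coprime.coprime_dvd_left hBidxm (Nat.Coprime.coprime_dvd_right hAidxn hcop)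
    exact h4.dvd_of_dvd_mul_right h3
  have h3 : Nat.card A = B.index := Nat.dvd_antisymm h1 h2
  rw [h3, mul_comm]
  exact hB1

end

end Cfsg.Agent.Lib.Helper6

namespace Cfsg.Agent.Lib.Helper6

section

variable {E : Type*} [Group E] [Finite E]

/-- in a nilpotent group the power map `x ↦ x ^ k` (`k ≡ 0 mod m`, `k ≡ 1 mod n`) is constant
on the cosets of the normal Hall subgroup for the primes of `m` -/
theorem exists_hall_pow_invariant [Group.IsNilpotent E] (m n : ℕ) (hcop : Nat.Coprime m n)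
    (hmn0 : m * n ≠ 0) (hE : Nat.card E ∣ m * n) (k : ℕ) (hkm : k ≡ 0 [MOD m])
    (hkn : k ≡ 1 [MOD n]) :
    ∃ A : Subgroup E, A.Normal ∧ A.index ∣ n ∧
      (∀ x a : E, a ∈ A → (x * a) ^ k = x ^ k) ∧ (∀ x a : E, a ∈ A → (a * x) ^ k = x ^ k) := by
  obtain ⟨A, B, hAn, hBn, hAm, hBn', hAidx, hcard⟩ := exists_hall_decomp (E := E) m n hcop hmn0 hE
  have hcopAB : Nat.Coprime (Nat.card A) (Nat.card B) :=
    Nat.Coprime.coprime_dvd_left hAm (Nat.Coprime.coprime_dvd_right hBn' hcop)
  have hdisj : Disjoint A B := Subgroup.disjoint_of_coprime_natCard hcopAB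
  have hcomm : ∀ a ∈ A, ∀ b ∈ B, Commute a b := fun a ha b hb =>
    Subgroup.commute_of_normal_of_disjoint A B hAn hBn hdisj a b ha hb
  have hcompl : A.IsComplement' B := Subgroup.isComplement'_of_coprime hcard hcopAB
  have hApow : ∀ a ∈ A, a ^ k = 1 := by
    intro a ha
    have h1 : orderOf a ∣ Nat.card A := by
      have := Subgroup.orderOf_dvd_natCard A ha
      exact this
    have h2 : orderOf a ∣ k := (h1.trans hAm).trans ((Nat.modEq_zero_iff_dvd).mp hkm)
    exact orderOf_dvd_iff_pow_eq_one.mp h2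
  have hBpow : ∀ b ∈ B, b ^ k = b := by
    intro b hb
    have h1 : orderOf b ∣ n := (Subgroup.orderOf_dvd_natCard B hb).trans hBn'
    have h2 : k ≡ 1 [MOD orderOf b] := hkn.of_dvd h1
    have := (pow_eq_pow_iff_modEq (x := b)).mpr h2
    rwa [pow_one] at this
  have hdecomp : ∀ x : E, ∃ a ∈ A, ∃ b ∈ B, x = a * b := by
    intro x
    obtain ⟨⟨⟨a, ha⟩, ⟨b, hb⟩⟩, hab, -⟩ := (Subgroup.isComplement_iff_existsUnique.mp hcompl) x
    exact ⟨a, ha, b, hb, hab.symm⟩
  have hpow : ∀ a ∈ A, ∀ b ∈ B, (a * b) ^ k = b := by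
    intro a ha b hb
    rw [(hcomm a ha b hb).mul_pow, hApow a ha, hBpow b hb, one_mul]
  refine ⟨A, hAn, hAidx, ?_, ?_⟩
  · intro x a ha
    obtain ⟨a₀, ha₀, b₀, hb₀, rfl⟩ := hdecomp x
    rw [hpow a₀ ha₀ b₀ hb₀]
    have h1 : a₀ * b₀ * a = (a₀ * a) * b₀ := by
      rw [mul_assoc, (hcomm a ha b₀ hb₀).eq.symm, ← mul_assoc]
    rw [h1, hpow (a₀ * a) (A.mul_mem ha₀ ha) b₀ hb₀]
  · intro x a ha
    obtain ⟨a₀, ha₀, b₀, hb₀, rfl⟩ := hdecomp x
    rw [hpow a₀ ha₀ b₀ hb₀, ← mul_assoc, hpow (a * a₀) (A.mul_mem ha ha₀) b₀ hb₀]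

end

end Cfsg.Agent.Lib.Helper6
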