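import Mathlib
import Cfsg.Agent.Lib.Helper6.BrauerGlobal
import Cfsg.Agent.Lib.Helper6.HallNilp
import Cfsg.Agent.Lib.Helper6.Norm
import Cfsg.Agent.Lib.Helper6.Decomp
import Cfsg.Agent.Lib.Helper6.CosetSum
import Cfsg.Agent.Lib.Helper6.BlkShift
import Cfsg.Agent.Lib.Helper6.ElemProps
import Cfsg.Agent.S0146

set_option autoImplicit false
set_option linter.unusedSectionVars false
open Cfsg

namespace Cfsg.Agent.Lib.Helper6

open scoped ComplexConjugate

section

variable {G : Type*} [Group G] [Fintype G]

/-- Brauer's characterization with algebraic integer coefficients: if the restrictions of a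
class function to the elementary subgroups have integral inner products with the irreducible
characters, then so does the class function. -/
theorem isIntegral_classInner_of_restrict {θ : G → ℂ} (hθ : Cfsg.IsClassFunction G θ)
    (hE : ∀ (E : Subgroup G) [Fintype E], IsElem E → ∀ ψ : E → ℂ, Cfsg.IsIrrCharacter E ψ →
      IsIntegral ℤ (Cfsg.classInner (fun e : E => θ e) ψ))
    {χ : G → ℂ} (hχ : Cfsg.IsCharacter G χ) : IsIntegral ℤ (Cfsg.classInner θ χ) := by
  classical
  obtain ⟨n, E, φ, c, hEφ, h1⟩ := IndCharComb.exists_sum (one_mem_indCharComb (G := G))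
  have h2 : θ = (fun _ : G => (1 : ℂ)) * θ := by funext g; simp
  have hχcf := IsCharacter.isClassFunction hχ
  rw [h2, h1, Finset.sum_mul, classInner_sum_left]
  apply IsIntegral.sum
  intro i _
  rw [smul_mul_assoc, classInner_smul_left, ← indFun_mul_restrict (E i) (φ i) hθ,
    Cfsg.Agent.S0146.result (E i) _ χ hχcf]
  apply IsIntegral.mul (isIntegral_algebraMap (R := ℤ) (A := ℂ) (x := c i))
  haveI : Fintype (Cfsg.IrrCharacter (E i)) := Fintype.ofFinite _
  -- move `φ i` to the right
  have hψ' : Cfsg.IsCharacter (E i) (fun e : E i => χ e * conj (φ i e)) :=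
    IsCharacter.mul (IsCharacter.restrict (E i) hχ) (IsCharacter.conj (hEφ i).2)
  have h3 : Cfsg.classInner (φ i * fun h : E i => θ h) (fun h : E i => χ h)
      = Cfsg.classInner (fun e : E i => θ e) (fun e : E i => χ e * conj (φ i e)) := by
    unfold Cfsg.classInner
    congr 1
    apply Finset.sum_congr rfl
    intro e _
    simp only [Pi.mul_apply, map_mul, Complex.conj_conj]
    ring
  rw [h3]
  obtain ⟨mm, hmm⟩ := IsCharacter.eq_sum_irr hψ'
  rw [hmm, classInner_sum_right]
  apply IsIntegral.sum
  intro ψ _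
  have h4 : (mm ψ • (ψ : E i → ℂ)) = ((mm ψ : ℂ)) • (ψ : E i → ℂ) := by
    funext e
    simp [Pi.smul_apply]
  rw [h4, classInner_smul_right, Complex.conj_natCast]
  apply IsIntegral.mul
  · have h5 := isIntegral_algebraMap (R := ℤ) (A := ℂ) (x := (mm ψ : ℤ))
    simpa using h5
  · exact hE (E i) (hEφ i).1 ψ ψ.2

end

section

variable {E : Type*} [Group E] [Fintype E] [DecidableEq E]

/-- a function constant on the cosets of a normal subgroup `A` of index dividing `n`, with
values `n` or `0`, has integral inner products with the irreducible characters -/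
theorem isIntegral_classInner_of_coset_invariant (A : Subgroup E) [hAn : A.Normal] (n : ℕ)
    (hidx : A.index ∣ n) (T : E → Prop) [DecidablePred T]
    (hr : ∀ x a : E, a ∈ A → (T (x * a) ↔ T x)) (hl : ∀ x a : E, a ∈ A → (T (a * x) ↔ T x))
    {ψ : E → ℂ} (hψ : Cfsg.IsIrrCharacter E ψ) :
    IsIntegral ℤ (Cfsg.classInner (fun e : E => if T e then (n : ℂ) else 0) ψ) := by
  classical
  haveI : Fintype A := Fintype.ofFinite _
  have hA0 : (Nat.card A : ℂ) ≠ 0 := card_ne_zero_complex A
  have hE0 : (Nat.card E : ℂ) ≠ 0 := card_ne_zero_complex E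
  obtain ⟨f, hf⟩ : ∃ f : E → ℂ, f = fun e : E => if T e then (n : ℂ) else 0 := ⟨_, rfl⟩
  rw [← hf]
  have hfr : ∀ x a : E, a ∈ A → f (x * a) = f x := by
    intro x a ha
    rw [hf]
    simp only [hr x a ha]
  have hfl : ∀ x a : E, a ∈ A → f (a * x) = f x := by
    intro x a ha
    rw [hf]
    simp only [hl x a ha]
  by_cases hS : ∑ a : A, ψ a = 0
  · -- the inner product vanishes
    have h1 : ∀ a : A, ∑ e : E, f e * conj (ψ e) = ∑ e : E, f e * conj (ψ ((a : E) * e)) := by
      intro a
      rw [← Equiv.sum_comp (Equiv.mulLeft (a : E)) (fun e : E => f e * conj (ψ e))]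
      apply Finset.sum_congr rfl
      intro e _
      simp only [Equiv.coe_mulLeft]
      rw [hfl e a a.2]
    have h2 : (Nat.card A : ℂ) * ∑ e : E, f e * conj (ψ e) = 0 := by
      have : (Nat.card A : ℂ) * ∑ e : E, f e * conj (ψ e)
          = ∑ a : A, ∑ e : E, f e * conj (ψ ((a : E) * e)) := by
        rw [← Finset.sum_congr rfl (fun a _ => h1 a), Finset.sum_const, Finset.card_univ,
          nsmul_eq_mul, Nat.card_eq_fintype_card]
      rw [this, Finset.sum_comm]
      apply Finset.sum_eq_zero
      intro e _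
      rw [← Finset.mul_sum, ← map_sum, IsIrrCharacter.sum_normal_mul A hψ e, hS, zero_mul,
        zero_div, map_zero, mul_zero]
    have h3 : ∑ e : E, f e * conj (ψ e) = 0 := by
      rcases mul_eq_zero.mp h2 with h | h
      · exact absurd h hA0
      · exact h
    unfold Cfsg.classInner
    rw [h3, mul_zero]
    exact isIntegral_zero
  · -- `A` is in the kernel
    have hconst := IsIrrCharacter.const_on_normal_of_sum_ne_zero A hψ hS
    have hψc := IsIrrCharacter.isCharacter hψ
    haveI : Fintype (E ⧸ A) := Fintype.ofFinite _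
    have h1 := sum_eq_card_mul_sum_quotient A (fun e : E => f e * conj (ψ e)) (by
      intro g t ht
      rw [hfr g t ht, IsCharacter.apply_mul_of_apply_eq hψc (hconst ⟨t, ht⟩)])
    unfold Cfsg.classInner
    rw [h1]
    have hidx' : (Nat.card E : ℂ) = (Nat.card A : ℂ) * (A.index : ℂ) := by
      rw [← A.card_mul_index]; push_cast; ring
    have hidx0 : (A.index : ℂ) ≠ 0 := by
      intro h
      rw [hidx', h, mul_zero] at hE0
      exact hE0 rfl
    obtain ⟨r, hr'⟩ := hidx
    have h2 : (Nat.card E : ℂ)⁻¹ * ((Nat.card A : ℂ) * ∑ q : E ⧸ A, f q.out * conj (ψ q.out))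
        = ∑ q : E ⧸ A, (if T q.out then (r : ℂ) else 0) * conj (ψ q.out) := by
      rw [hidx', Finset.mul_sum, Finset.mul_sum]
      apply Finset.sum_congr rfl
      intro q _
      rw [hf]
      simp only
      by_cases hT : T q.out
      · rw [if_pos hT, if_pos hT, hr']
        push_cast
        field_simp
      · rw [if_neg hT, if_neg hT]
        ring
    rw [h2]
    apply IsIntegral.sum
    intro q _
    apply IsIntegral.mul
    · by_cases hT : T q.out
      · rw [if_pos hT]
        have h5 := isIntegral_algebraMap (R := ℤ) (A := ℂ) (x := (r : ℤ))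
        simpa using h5
      · rw [if_neg hT]
        exact isIntegral_zero
    · have h6 := IsCharacter.isIntegral_apply (IsCharacter.conj hψc) q.out
      exact h6

end

section

variable {G : Type*} [Group G] [Fintype G]

open Classical in
/-- the indicator function of a `π'`-section, multiplied by the `π'`-part of the group order, has
algebraic integer coefficients -/
theorem isIntegral_classInner_section (m n : ℕ) (hmn : Nat.card G = m * n) (hcop : Nat.Coprime m n)
    (g : G) (k : ℕ) (hkm : k ≡ 0 [MOD m]) (hkn : k ≡ 1 [MOD n]) {χ : G → ℂ}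
    (hχ : Cfsg.IsCharacter G χ) :
    IsIntegral ℤ (Cfsg.classInner (fun x : G => if IsConj (x ^ k) g then (n : ℂ) else 0) χ) := by
  have hmn0 : m * n ≠ 0 := by rw [← hmn]; exact Nat.card_pos.ne'
  apply isIntegral_classInner_of_restrict _ _ hχ
  · intro x h
    have h1 : (h * x * h⁻¹) ^ k = h * x ^ k * h⁻¹ := by
      rw [conj_pow]
    simp only [h1]
    have h2 : IsConj (h * x ^ k * h⁻¹) g ↔ IsConj (x ^ k) g := by
      have h3 : IsConj (x ^ k) (h * x ^ k * h⁻¹) := isConj_iff.mpr ⟨h, rfl⟩
      exact ⟨fun h4 => h3.trans h4, fun h4 => h3.symm.trans h4⟩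
    simp only [h2]
  · intro E _ hE ψ hψ
    obtain ⟨q, hq, hEq⟩ := hE
    haveI : Group.IsNilpotent E := IsElementary.isNilpotent hq hEq
    have hcard : Nat.card E ∣ m * n := by
      rw [← hmn]; exact Subgroup.card_subgroup_dvd_card E
    obtain ⟨A, hAn, hAidx, hr, hl⟩ :=
      exists_hall_pow_invariant (E := E) m n hcop hmn0 hcard k hkm hkn
    have hT : ∀ x y : E, x ^ k = y ^ k →
        (IsConj ((x : G) ^ k) g ↔ IsConj ((y : G) ^ k) g) := by
      intro x y hxy
      have : ((x : G) ^ k) = ((y : G) ^ k) := by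
        have := congrArg (fun t : E => (t : G)) hxy
        simpa using this
      rw [this]
    have := isIntegral_classInner_of_coset_invariant A n hAidx
      (fun e : E => IsConj ((e : G) ^ k) g)
      (fun x a ha => hT _ _ (hr x a ha)) (fun x a ha => hT _ _ (hl x a ha)) hψ
    convert this using 3

end

end Cfsg.Agent.Lib.Helper6
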