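import Mathlib
import Cfsg.Agent.Lib.Helper6.ClassMult
import Cfsg.Agent.Lib.Helper6.ClassSum
import Cfsg.Agent.Lib.Helper6.ClassFun
import Cfsg.Agent.Lib.Helper6.AlgIntComb
import Cfsg.Agent.Lib.Helper6.BlkDefect
import Cfsg.Agent.Lib.Helper6.BlkDefLe
import Cfsg.Agent.Lib.Helper6.BlkIdem

set_option autoImplicit false
set_option linter.unusedSectionVars false
open Cfsg

namespace Cfsg.Agent.Lib.Helper6

open scoped ComplexConjugate

section identity

variable {G : Type*} [Group G] [Fintype G] [DecidableEq G]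

/-- generalized orthogonality summed over two conjugations -/
theorem sum_sum_classFunction_conj_mul [Fintype (Cfsg.IrrCharacter G)] {f : G → ℂ}
    (hf : Cfsg.IsClassFunction G f) (a b : G) :
    ∑ g : G, ∑ h : G, f (g * a * g⁻¹ * (h * b * h⁻¹))
      = (Nat.card G : ℂ) ^ 2 * ∑ χ : Cfsg.IrrCharacter G,
          Cfsg.classInner f (χ : G → ℂ) * (χ : G → ℂ) a * (χ : G → ℂ) b / (χ : G → ℂ) 1 := by
  have h1 := classFunction_eq_sum f hf
  have h2 : ∀ w : G, f w = ∑ χ : Cfsg.IrrCharacter G,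
      Cfsg.classInner f (χ : G → ℂ) * (χ : G → ℂ) w := by
    intro w
    have := congrFun h1 w
    simpa [Finset.sum_apply, Pi.smul_apply, smul_eq_mul] using this
  have step : ∀ h : G, ∑ g : G, f (g * a * g⁻¹ * (h * b * h⁻¹))
      = (Nat.card G : ℂ) * ∑ χ : Cfsg.IrrCharacter G,
          Cfsg.classInner f (χ : G → ℂ) * (χ : G → ℂ) a * (χ : G → ℂ) b / (χ : G → ℂ) 1 := by
    intro h
    simp only [h2 (_ * _)]
    rw [Finset.sum_comm, Finset.mul_sum]
    apply Finset.sum_congr rfl
    intro χ _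
    have hcf := IsCharacter.isClassFunction (IsIrrCharacter.isCharacter χ.2)
    rw [← Finset.mul_sum, IsIrrCharacter.sum_conj_mul χ.2, hcf b h]
    ring
  rw [Finset.sum_comm, Finset.sum_congr rfl (fun h _ => step h), Finset.sum_const,
    Finset.card_univ, ← Nat.card_eq_fintype_card, nsmul_eq_mul]
  ring

omit [Fintype G] [DecidableEq G] in
theorem centralizer_singleton_inv_rob (x : G) :
    Subgroup.centralizer ({x⁻¹} : Set G) = Subgroup.centralizer ({x} : Set G) := by
  ext w
  rw [mem_centralizer_singleton_iff, mem_centralizer_singleton_iff]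
  constructor
  · intro h
    have : x * w = x * (w * x⁻¹) * x := by group
    rw [this, ← h]
    group
  · intro h
    have : x⁻¹ * w = x⁻¹ * (w * x) * x⁻¹ := by group
    rw [this, ← h]
    group

/-- the class multiplication identity in terms of central characters -/
theorem sum_classInner_mul_centralChar [Fintype (Cfsg.IrrCharacter G)] {f : G → ℂ}
    (hf : Cfsg.IsClassFunction G f) (a b : G) :
    ∑ χ : Cfsg.IrrCharacter G, Cfsg.classInner f (χ : G → ℂ) * Cfsg.centralChar (χ : G → ℂ) a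
        * Cfsg.centralChar (χ : G → ℂ) b⁻¹ * (χ : G → ℂ) 1
      = ((Nat.card (Subgroup.centralizer ({a} : Set G)) : ℂ)
          * (Nat.card (Subgroup.centralizer ({b} : Set G)) : ℂ))⁻¹
        * ∑ g : G, ∑ h : G, f (g * a * g⁻¹ * (h * b * h⁻¹)⁻¹) := by
  have hG := card_ne_zero_complex G
  have hCa : (Nat.card (Subgroup.centralizer ({a} : Set G)) : ℂ) ≠ 0 := by
    exact_mod_cast (Nat.card_pos (α := Subgroup.centralizer ({a} : Set G))).ne'
  have hCb : (Nat.card (Subgroup.centralizer ({b} : Set G)) : ℂ) ≠ 0 := by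
    exact_mod_cast (Nat.card_pos (α := Subgroup.centralizer ({b} : Set G))).ne'
  have hia : ((Subgroup.centralizer ({a} : Set G)).index : ℂ)
      = (Nat.card G : ℂ) / (Nat.card (Subgroup.centralizer ({a} : Set G)) : ℂ) := by
    rw [eq_div_iff hCa]
    exact_mod_cast (Subgroup.centralizer ({a} : Set G)).index_mul_card
  have hib : ((Subgroup.centralizer ({b} : Set G)).index : ℂ)
      = (Nat.card G : ℂ) / (Nat.card (Subgroup.centralizer ({b} : Set G)) : ℂ) := by
    rw [eq_div_iff hCb]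
    exact_mod_cast (Subgroup.centralizer ({b} : Set G)).index_mul_card
  have h1 : ∀ g h : G, g * a * g⁻¹ * (h * b * h⁻¹)⁻¹ = g * a * g⁻¹ * (h * b⁻¹ * h⁻¹) := by
    intro g h
    group
  simp only [h1]
  rw [sum_sum_classFunction_conj_mul hf a b⁻¹, Finset.mul_sum, Finset.mul_sum]
  apply Finset.sum_congr rfl
  intro χ _
  have hχ1 := IsIrrCharacter.apply_one_ne_zero χ.2
  unfold Cfsg.centralChar
  rw [centralizer_singleton_inv_rob, hia, hib]
  field_simp

end identity

section pelem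

variable {G : Type*} [Group G] [Fintype G] [DecidableEq G]

open Classical in
/-- a multiple of the indicator function of the set of `p`-elements has integral multiplicities -/
theorem exists_pElem_classFunction (p : ℕ) [hp : Fact p.Prime] :
    ∃ f : G → ℂ, Cfsg.IsClassFunction G f ∧
      (∀ χ : G → ℂ, Cfsg.IsCharacter G χ → IsIntegral ℤ (Cfsg.classInner f χ)) ∧
      ∀ x : G, f x = if (∃ t : ℕ, orderOf x = p ^ t)
        then ((Nat.card G / p ^ (Nat.card G).factorization p : ℕ) : ℂ) else 0 := by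
  classical
  have hpp := hp.out
  have hG0 : Nat.card G ≠ 0 := Nat.card_pos.ne'
  obtain ⟨m, hm⟩ : ∃ m : ℕ, m = p ^ (Nat.card G).factorization p := ⟨_, rfl⟩
  obtain ⟨n, hn⟩ : ∃ n : ℕ, n = Nat.card G / p ^ (Nat.card G).factorization p := ⟨_, rfl⟩
  have hmn : Nat.card G = m * n := by
    rw [hm, hn]
    exact (Nat.ordProj_mul_ordCompl_eq_self (Nat.card G) p).symm
  have hcop : Nat.Coprime m n := by
    rw [hm, hn]
    exact Nat.Coprime.pow_left _ (Nat.coprime_ordCompl hpp hG0)
  obtain ⟨k, hkm, hkn⟩ := Nat.chineseRemainder hcop 0 1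
  have hiff : ∀ x : G, IsConj (x ^ k) 1 ↔ ∃ t : ℕ, orderOf x = p ^ t := by
    intro x
    rw [isConj_one_left]
    constructor
    · intro hx
      have h1 : orderOf x ∣ k := orderOf_dvd_of_pow_eq_one hx
      have h2 : orderOf x ∣ m * n := by
        rw [← hmn]
        exact orderOf_dvd_natCard x
      have h3 : Nat.Coprime k n := by
        have := Nat.ModEq.gcd_eq hkn
        rw [Nat.coprime_iff_gcd_eq_one, this]
        simp
      have h4 : Nat.Coprime (orderOf x) n := Nat.Coprime.coprime_dvd_left h1 h3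
      have h5 : orderOf x ∣ m := h4.dvd_of_dvd_mul_right h2
      rw [hm] at h5
      obtain ⟨t, _, ht⟩ := (Nat.dvd_prime_pow hpp).mp h5
      exact ⟨t, ht⟩
    · rintro ⟨t, ht⟩
      have h1 : p ^ t ∣ Nat.card G := by
        rw [← ht]
        exact orderOf_dvd_natCard x
      have h2 : t ≤ (Nat.card G).factorization p :=
        (hpp.pow_dvd_iff_le_factorization hG0).mp h1
      have h3 : m ∣ k := (Nat.modEq_zero_iff_dvd).mp hkm
      have h4 : orderOf x ∣ k := by
        rw [ht]
        exact (pow_dvd_pow p h2).trans (hm ▸ h3)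
      exact orderOf_dvd_iff_pow_eq_one.mp h4
  refine ⟨fun x => if IsConj (x ^ k) 1 then (n : ℂ) else 0, ?_, ?_, ?_⟩
  · intro x h
    have h1 : (h * x * h⁻¹) ^ k = h * x ^ k * h⁻¹ := by rw [conj_pow]
    simp only [h1]
    have h2 : IsConj (h * x ^ k * h⁻¹) 1 ↔ IsConj (x ^ k) 1 := by
      have h3 : IsConj (x ^ k) (h * x ^ k * h⁻¹) := isConj_iff.mpr ⟨h, rfl⟩
      exact ⟨fun h4 => h3.trans h4, fun h4 => h3.symm.trans h4⟩
    simp only [h2]
  · intro χ hχ
    have h5 := isIntegral_classInner_section m n hmn hcop (1 : G) k hkm hkn hχ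
    have h6 : (fun x : G => if IsConj (x ^ k) 1 then (n : ℂ) else 0)
        = (fun x : G => @ite ℂ (IsConj (x ^ k) 1) (Classical.propDecidable _) (n : ℂ) 0) := by
      funext x
      by_cases hx : IsConj (x ^ k) 1
      · rw [if_pos hx, if_pos hx]
      · rw [if_neg hx, if_neg hx]
    rw [h6]
    convert h5
  · intro x
    simp only [hiff x, ← hn]

end pelem

section separated

variable {G : Type*} [Group G] [Fintype G] [DecidableEq G]

open Classical in
/-- the double conjugation sum for a function detecting `p`-elements, at separated elements -/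
theorem sum_sum_separated {p : ℕ} (c : ℂ) (f : G → ℂ)
    (hfv : ∀ x : G, f x = if (∃ t : ℕ, orderOf x = p ^ t) then c else 0) (x y : G)
    (hsep : ∀ g h : G, IsConj x g → IsConj y h → ∀ k : ℕ, 0 < k → orderOf (g * h⁻¹) ≠ p ^ k) :
    ∑ g : G, ∑ h : G, f (g * x * g⁻¹ * (h * y * h⁻¹)⁻¹)
      = ∑ h : G, ∑ g : G, if g * x * g⁻¹ = h * y * h⁻¹ then c else 0 := by
  rw [Finset.sum_comm]
  apply Finset.sum_congr rfl
  intro h _
  apply Finset.sum_congr rfl
  intro g _
  rw [hfv]
  have hiff : (∃ t : ℕ, orderOf (g * x * g⁻¹ * (h * y * h⁻¹)⁻¹) = p ^ t)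
      ↔ g * x * g⁻¹ = h * y * h⁻¹ := by
    constructor
    · rintro ⟨t, ht⟩
      rcases Nat.eq_zero_or_pos t with h0 | h0
      · rw [h0, pow_zero, orderOf_eq_one_iff] at ht
        exact mul_inv_eq_one.mp ht
      · exact absurd ht (hsep _ _ (isConj_iff.mpr ⟨g, rfl⟩) (isConj_iff.mpr ⟨h, rfl⟩) t h0)
    · intro he
      refine ⟨0, ?_⟩
      rw [he, mul_inv_cancel, orderOf_one, pow_zero]
  simp only [hiff]

open Classical in
theorem sum_sum_separated_self {p : ℕ} (c : ℂ) (f : G → ℂ)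
    (hfv : ∀ x : G, f x = if (∃ t : ℕ, orderOf x = p ^ t) then c else 0) (x : G)
    (hsep : ∀ g h : G, IsConj x g → IsConj x h → ∀ k : ℕ, 0 < k → orderOf (g * h⁻¹) ≠ p ^ k) :
    ∑ g : G, ∑ h : G, f (g * x * g⁻¹ * (h * x * h⁻¹)⁻¹)
      = (Nat.card G : ℂ) * (Nat.card (Subgroup.centralizer ({x} : Set G)) : ℂ) * c := by
  rw [sum_sum_separated c f hfv x x hsep]
  have h1 : ∀ h : G, ∑ g : G, (if g * x * g⁻¹ = h * x * h⁻¹ then c else 0)
      = (Nat.card (Subgroup.centralizer ({x} : Set G)) : ℂ) * c := by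
    intro h
    rw [← Finset.sum_filter, Finset.sum_const,
      card_filter_conj_eq_card_centralizer (isConj_iff.mpr ⟨h, rfl⟩), nsmul_eq_mul]
  rw [Finset.sum_congr rfl (fun h _ => h1 h), Finset.sum_const, Finset.card_univ,
    ← Nat.card_eq_fintype_card, nsmul_eq_mul]
  ring

open Classical in
theorem sum_sum_separated_ne {p : ℕ} (c : ℂ) (f : G → ℂ)
    (hfv : ∀ x : G, f x = if (∃ t : ℕ, orderOf x = p ^ t) then c else 0) (x y : G)
    (hxy : ¬ IsConj x y)
    (hsep : ∀ g h : G, IsConj x g → IsConj y h → ∀ k : ℕ, 0 < k → orderOf (g * h⁻¹) ≠ p ^ k) :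
    ∑ g : G, ∑ h : G, f (g * x * g⁻¹ * (h * y * h⁻¹)⁻¹) = 0 := by
  rw [sum_sum_separated c f hfv x y hsep]
  apply Finset.sum_eq_zero
  intro h _
  apply Finset.sum_eq_zero
  intro g _
  rw [if_neg]
  intro he
  apply hxy
  have h1 : IsConj x (g * x * g⁻¹) := isConj_iff.mpr ⟨g, rfl⟩
  have h2 : IsConj y (h * y * h⁻¹) := isConj_iff.mpr ⟨h, rfl⟩
  rw [he] at h1
  exact h1.trans h2.symm

end separated

end Cfsg.Agent.Lib.Helper6
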