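import Mathlib
import Cfsg.Agent.Lib.Helper6.ResField
import Cfsg.Agent.Lib.Helper6.RobIdentity
import Cfsg.Agent.Lib.Helper6.BlkDefectClasses
import Cfsg.Agent.Lib.Helper6.BlkDefConj
import Cfsg.Agent.Lib.Helper6.BlkContrib
import Cfsg.Agent.Lib.Helper6.BlkMinMax2
import Cfsg.Agent.S0906
import Cfsg.Agent.S0908
import Cfsg.Agent.S0911

set_option autoImplicit false
set_option linter.unusedSectionVars false
open Cfsg

namespace Cfsg.Agent.Lib.Helper6

open scoped ComplexConjugate
open Matrix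

section natdiv

variable {p : ℕ} {M : Ideal Cfsg.AlgInt}

theorem natCast_div_eq (hp : p.Prime) {A B : ℕ} (hB : B ≠ 0)
    (h : B.factorization p ≤ A.factorization p) :
    (A : ℂ) / (B : ℂ) = ((p ^ (A.factorization p - B.factorization p) : ℕ) : ℂ)
      * ((A / p ^ A.factorization p : ℕ) : ℂ) * ((B / p ^ B.factorization p : ℕ) : ℂ)⁻¹ := by
  have e1 := Nat.ordProj_mul_ordCompl_eq_self A p
  have e2 := Nat.ordProj_mul_ordCompl_eq_self B p
  have n2 := Nat.not_dvd_ordCompl hp hB
  have hB' : ((B / p ^ B.factorization p : ℕ) : ℂ) ≠ 0 := by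
    intro h0
    have : B / p ^ B.factorization p = 0 := by exact_mod_cast h0
    rw [this] at n2
    exact n2 (dvd_zero p)
  have hp0 : (p : ℂ) ≠ 0 := by exact_mod_cast hp.ne_zero
  obtain ⟨A', hA'⟩ : ∃ A' : ℕ, A' = A / p ^ A.factorization p := ⟨_, rfl⟩
  obtain ⟨B', hB''⟩ : ∃ B' : ℕ, B' = B / p ^ B.factorization p := ⟨_, rfl⟩
  obtain ⟨α, hα⟩ : ∃ α : ℕ, α = A.factorization p := ⟨_, rfl⟩
  obtain ⟨β, hβ⟩ : ∃ β : ℕ, β = B.factorization p := ⟨_, rfl⟩
  rw [← hA', ← hα] at e1
  rw [← hB'', ← hβ] at e2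
  rw [← hB''] at hB'
  rw [← hα, ← hβ] at h
  rw [← hA', ← hB'', ← hα, ← hβ]
  have hA : (A : ℂ) = (p : ℂ) ^ α * (A' : ℂ) := by exact_mod_cast e1.symm
  have hBB : (B : ℂ) = (p : ℂ) ^ β * (B' : ℂ) := by exact_mod_cast e2.symm
  have hsplit : α = (α - β) + β := by omega
  rw [hA, hBB]
  conv_lhs => rw [hsplit, pow_add]
  push_cast
  field_simp

theorem memLocalRing_natCast_div (hM : Cfsg.IsPModular p M) {A B : ℕ} (hB : B ≠ 0)
    (h : B.factorization p ≤ A.factorization p) : Cfsg.MemLocalRing M ((A : ℂ) / (B : ℂ)) := by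
  rw [natCast_div_eq hM.1 hB h]
  exact MemLocalRing.mul hM (MemLocalRing.mul hM (memLocalRing_natCast hM _)
    (memLocalRing_natCast hM _)) (memLocalRing_inv_natCast hM (Nat.not_dvd_ordCompl hM.1 hB))

theorem memLocalIdeal_natCast_div (hM : Cfsg.IsPModular p M) {A B : ℕ} (hB : B ≠ 0)
    (h : B.factorization p < A.factorization p) : Cfsg.MemLocalIdeal M ((A : ℂ) / (B : ℂ)) := by
  rw [natCast_div_eq hM.1 hB h.le]
  apply MemLocalIdeal.mul_right hM _ (memLocalRing_inv_natCast hM (Nat.not_dvd_ordCompl hM.1 hB))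
  apply MemLocalIdeal.mul_right hM _ (memLocalRing_natCast hM _)
  rw [memLocalIdeal_natCast_iff hM]
  exact dvd_pow_self p (by omega)

theorem not_memLocalIdeal_natCast_div (hM : Cfsg.IsPModular p M) {A B : ℕ} (hA : A ≠ 0)
    (hB : B ≠ 0) (h : A.factorization p = B.factorization p) :
    ¬ Cfsg.MemLocalIdeal M ((A : ℂ) / (B : ℂ)) := by
  rw [natCast_div_eq hM.1 hB h.ge, h, Nat.sub_self, pow_zero, Nat.cast_one, one_mul]
  apply not_memLocalIdeal_mul hM (memLocalRing_natCast hM _)
    (memLocalRing_inv_natCast hM (Nat.not_dvd_ordCompl hM.1 hB))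
  · rw [← h, memLocalIdeal_natCast_iff hM]
    exact Nat.not_dvd_ordCompl hM.1 hA
  · exact not_memLocalIdeal_inv hM (memLocalRing_natCast hM _)
      (by rw [memLocalIdeal_natCast_iff hM]; exact Nat.not_dvd_ordCompl hM.1 hB)

end natdiv

section terms

variable {G : Type*} [Group G] [Fintype G] [DecidableEq G]
variable {p : ℕ} {M : Ideal Cfsg.AlgInt}

theorem factorization_prime_pow (hp : p.Prime) (e : ℕ) : (p ^ e).factorization p = e := by
  rw [Nat.factorization_pow, Finsupp.smul_apply, hp.factorization_self, smul_eq_mul, mul_one]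

/-- the terms of Robinson's identity away from the critical degree vanish mod `M` -/
theorem robinson_term_memLocalIdeal (hM : Cfsg.IsPModular p M) {χ : G → ℂ}
    (hχ : Cfsg.IsIrrCharacter G χ) (a b : G) (e : ℕ)
    (ha : (Subgroup.centralizer ({a} : Set G)).index.factorization p = e)
    (hb : (Subgroup.centralizer ({b} : Set G)).index.factorization p = e)
    (hne : (Cfsg.charDegree χ).factorization p ≠ e) {c : ℂ} (hc : Cfsg.MemLocalRing M c) :
    Cfsg.MemLocalIdeal M (c * Cfsg.centralChar χ a * Cfsg.centralChar χ b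
      * (χ 1 / ((p ^ e : ℕ) : ℂ))) := by
  have hp := hM.1
  have hpe0 : p ^ e ≠ 0 := pow_ne_zero _ hp.ne_zero
  have hd0 : Cfsg.charDegree χ ≠ 0 := (IsIrrCharacter.charDegree_pos hχ).ne'
  have hωa := memLocalRing_of_isIntegral hM (IsIrrCharacter.isIntegral_centralChar' hχ a)
  have hωb := memLocalRing_of_isIntegral hM (IsIrrCharacter.isIntegral_centralChar' hχ b)
  have hχ1 := IsCharacter.apply_one_eq_charDegree (IsIrrCharacter.isCharacter hχ)
  rcases lt_or_gt_of_ne hne with hlt | hgt
  · -- degree too small: the central character at `b` vanishes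
    have hbI : Cfsg.MemLocalIdeal M (Cfsg.centralChar χ b) := by
      by_contra hcon
      have := factorization_index_le_of_centralChar hM hχ b hcon
      omega
    have hrw : c * Cfsg.centralChar χ a * Cfsg.centralChar χ b * (χ 1 / ((p ^ e : ℕ) : ℂ))
        = (c * ((((Subgroup.centralizer ({a} : Set G)).index : ℕ) : ℂ) / ((p ^ e : ℕ) : ℂ) * χ a))
          * Cfsg.centralChar χ b := by
      have h1 := IsIrrCharacter.apply_one_ne_zero hχ
      have h2 : ((p ^ e : ℕ) : ℂ) ≠ 0 := by exact_mod_cast hpe0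
      unfold Cfsg.centralChar
      field_simp
    rw [hrw]
    apply MemLocalIdeal.mul_left hM _ hbI
    apply MemLocalRing.mul hM hc
    apply MemLocalRing.mul hM
    · apply memLocalRing_natCast_div hM hpe0
      rw [factorization_prime_pow hp, ha]
    · exact memLocalRing_of_isIntegral hM
        (IsCharacter.isIntegral_apply (IsIrrCharacter.isCharacter hχ) a)
  · -- degree too large
    apply MemLocalIdeal.mul_left hM
      (MemLocalRing.mul hM (MemLocalRing.mul hM hc hωa) hωb)
    rw [hχ1]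
    apply memLocalIdeal_natCast_div hM hpe0
    rw [factorization_prime_pow hp]
    exact hgt

/-- Robinson's sum reduces mod `M` to the characters of critical degree -/
theorem robinson_sum_congr (hM : Cfsg.IsPModular p M) [Fintype (Cfsg.IrrCharacter G)]
    (c : Cfsg.IrrCharacter G → ℂ) (hc : ∀ χ, Cfsg.MemLocalRing M (c χ)) (a b : G) (e : ℕ)
    (ha : (Subgroup.centralizer ({a} : Set G)).index.factorization p = e)
    (hb : (Subgroup.centralizer ({b} : Set G)).index.factorization p = e) :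
    Cfsg.MemLocalIdeal M
      ((∑ χ : Cfsg.IrrCharacter G, c χ * Cfsg.centralChar (χ : G → ℂ) a
          * Cfsg.centralChar (χ : G → ℂ) b * ((χ : G → ℂ) 1 / ((p ^ e : ℕ) : ℂ)))
        - ∑ χ ∈ Finset.univ.filter (fun χ : Cfsg.IrrCharacter G =>
            (Cfsg.charDegree (χ : G → ℂ)).factorization p = e),
          c χ * Cfsg.centralChar (χ : G → ℂ) a
          * Cfsg.centralChar (χ : G → ℂ) b * ((χ : G → ℂ) 1 / ((p ^ e : ℕ) : ℂ))) := by
  rw [← Finset.sum_filter_add_sum_filter_not Finset.univ (fun χ : Cfsg.IrrCharacter G =>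
    (Cfsg.charDegree (χ : G → ℂ)).factorization p = e), add_sub_cancel_left]
  apply MemLocalIdeal.sum hM
  intro χ hχ
  rw [Finset.mem_filter] at hχ
  exact robinson_term_memLocalIdeal hM χ.2 a b e ha hb hχ.2 (hc χ)

end terms


section main

variable {G : Type*} [Group G] [Fintype G] [DecidableEq G]
variable {p : ℕ} [hp : Fact p.Prime] {M : Ideal Cfsg.AlgInt}

/-- the valuation of a class size when the Sylow subgroups of the centralizer have order `|D|` -/
theorem factorization_index_of_sylow_map (D : Subgroup G) (x : G)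
    (S : Sylow p ↥(Subgroup.centralizer ({x} : Set G)))
    (hS : (S : Subgroup ↥(Subgroup.centralizer ({x} : Set G))).map
      (Subgroup.centralizer ({x} : Set G)).subtype = D) :
    (Nat.card (Subgroup.centralizer ({x} : Set G))).factorization p
        = (Nat.card D).factorization p ∧
    (Subgroup.centralizer ({x} : Set G)).index.factorization p
      = (Nat.card G).factorization p - (Nat.card D).factorization p := by
  have hpp := hp.out
  have h1 : Nat.card D = p ^ (Nat.card (Subgroup.centralizer ({x} : Set G))).factorization p := by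
    rw [← hS, Subgroup.card_map_of_injective (Subgroup.subtype_injective _),
      Sylow.card_eq_multiplicity]
  have h2 : (Nat.card D).factorization p
      = (Nat.card (Subgroup.centralizer ({x} : Set G))).factorization p := by
    rw [h1, factorization_prime_pow hpp]
  have h3 := factorization_card_centralizer_add (p := p) hpp x
  constructor
  · exact h2.symm
  · omega

/-- Robinson's separation theorem: elements with a common defect group `D` whose classes are
separated by `p`-elements give distinct blocks with defect group `D` -/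
theorem robinson_separated (hM : Cfsg.IsPModular p M) (D : Subgroup G) {r : ℕ} (x : Fin r → G)
    (hx : ∀ i j : Fin r, IsConj (x i) (x j) → i = j)
    (hD : ∀ i : Fin r, ∃ S : Sylow p ↥(Subgroup.centralizer ({x i} : Set G)),
      (S : Subgroup ↥(Subgroup.centralizer ({x i} : Set G))).map
        (Subgroup.centralizer ({x i} : Set G)).subtype = D)
    (hsep : ∀ i j : Fin r, ∀ g h : G, IsConj (x i) g → IsConj (x j) h →
      ∀ k : ℕ, 0 < k → orderOf (g * h⁻¹) ≠ p ^ k) :
    ∃ B : Fin r → Set (Cfsg.IrrCharacter G), Function.Injective B ∧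
      (∀ i : Fin r, Cfsg.IsPBlock M (B i) ∧ Cfsg.IsDefectGroup p M (B i) D) ∧
      ∀ χ : Fin r → Cfsg.IrrCharacter G,
        (∀ i : Fin r, χ i ∈ B i ∧ Cfsg.blockHeight p (B i) (χ i : G → ℂ) = 0) →
        ¬ Cfsg.MemLocalIdeal M (Matrix.det (Matrix.of fun i j : Fin r => (χ i : G → ℂ) (x j))) := by
  classical
  haveI : Fintype (Cfsg.IrrCharacter G) := Fintype.ofFinite _
  have hpp := hp.out
  have hG0 : Nat.card G ≠ 0 := Nat.card_pos.ne'
  obtain ⟨a, ha⟩ : ∃ a : ℕ, a = (Nat.card G).factorization p := ⟨_, rfl⟩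
  obtain ⟨d, hd⟩ : ∃ d : ℕ, d = (Nat.card D).factorization p := ⟨_, rfl⟩
  obtain ⟨e, he⟩ : ∃ e : ℕ, e = a - d := ⟨_, rfl⟩
  obtain ⟨n, hn⟩ : ∃ n : ℕ, n = Nat.card G / p ^ (Nat.card G).factorization p := ⟨_, rfl⟩
  have hn_ndvd : ¬ p ∣ n := by rw [hn]; exact Nat.not_dvd_ordCompl hpp hG0
  have hn0 : (n : ℂ) ≠ 0 := by
    intro h0
    have : n = 0 := by exact_mod_cast h0
    rw [this] at hn_ndvd
    exact hn_ndvd (dvd_zero p)
  have hpe0 : p ^ e ≠ 0 := pow_ne_zero _ hpp.ne_zero
  have hpe0' : ((p ^ e : ℕ) : ℂ) ≠ 0 := by exact_mod_cast hpe0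
  -- valuations
  have hCd : ∀ i, (Nat.card (Subgroup.centralizer ({x i} : Set G))).factorization p = d := by
    intro i
    obtain ⟨S, hS⟩ := hD i
    rw [hd]
    exact (factorization_index_of_sylow_map D (x i) S hS).1
  have hIdx : ∀ i, (Subgroup.centralizer ({x i} : Set G)).index.factorization p = e := by
    intro i
    obtain ⟨S, hS⟩ := hD i
    rw [he, ha, hd]
    exact (factorization_index_of_sylow_map D (x i) S hS).2
  have hIdx' : ∀ i, (Subgroup.centralizer ({(x i)⁻¹} : Set G)).index.factorization p = e := by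
    intro i
    rw [centralizer_singleton_inv_rob]
    exact hIdx i
  have hdle : ∀ i : Fin r, d ≤ a := by
    intro i
    have := factorization_card_centralizer_add (p := p) hpp (x i)
    rw [hCd i, ← ha] at this
    omega
  have hidx0 : ∀ i, (Subgroup.centralizer ({x i} : Set G)).index ≠ 0 :=
    fun i => Subgroup.index_ne_zero_of_finite
  -- the class function
  obtain ⟨f, hfcf, hfint, hfv⟩ := exists_pElem_classFunction (G := G) p
  rw [← hn] at hfv
  obtain ⟨c, hcdef⟩ : ∃ c : Cfsg.IrrCharacter G → ℂ,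
      c = fun χ : Cfsg.IrrCharacter G => Cfsg.classInner f (χ : G → ℂ) * (n : ℂ)⁻¹ := ⟨_, rfl⟩
  have hcR : ∀ χ, Cfsg.MemLocalRing M (c χ) := by
    intro χ
    rw [hcdef]
    exact MemLocalRing.mul hM (memLocalRing_of_isIntegral hM
      (hfint _ (IsIrrCharacter.isCharacter χ.2))) (memLocalRing_inv_natCast hM hn_ndvd)
  -- the identity
  have hident : ∀ i j : Fin r,
      ∑ χ : Cfsg.IrrCharacter G, c χ * Cfsg.centralChar (χ : G → ℂ) (x i)
          * Cfsg.centralChar (χ : G → ℂ) (x j)⁻¹ * ((χ : G → ℂ) 1 / ((p ^ e : ℕ) : ℂ))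
        = if i = j then (((Subgroup.centralizer ({x i} : Set G)).index : ℕ) : ℂ)
            / ((p ^ e : ℕ) : ℂ) else 0 := by
    intro i j
    have h1 := sum_classInner_mul_centralChar hfcf (x i) (x j)
    have h2 : ∑ χ : Cfsg.IrrCharacter G, c χ * Cfsg.centralChar (χ : G → ℂ) (x i)
          * Cfsg.centralChar (χ : G → ℂ) (x j)⁻¹ * ((χ : G → ℂ) 1 / ((p ^ e : ℕ) : ℂ))
        = ((n : ℂ)⁻¹ * (((p ^ e : ℕ) : ℂ))⁻¹) * ∑ χ : Cfsg.IrrCharacter G,
            Cfsg.classInner f (χ : G → ℂ) * Cfsg.centralChar (χ : G → ℂ) (x i)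
              * Cfsg.centralChar (χ : G → ℂ) (x j)⁻¹ * (χ : G → ℂ) 1 := by
      rw [Finset.mul_sum]
      apply Finset.sum_congr rfl
      intro χ _
      rw [hcdef]
      ring
    rw [h2, h1]
    have hCi : (Nat.card (Subgroup.centralizer ({x i} : Set G)) : ℂ) ≠ 0 := by
      exact_mod_cast (Nat.card_pos (α := Subgroup.centralizer ({x i} : Set G))).ne'
    by_cases hij : i = j
    · subst hij
      rw [if_pos rfl, sum_sum_separated_self (n : ℂ) f hfv (x i) (hsep i i)]
      have hia : ((Subgroup.centralizer ({x i} : Set G)).index : ℂ)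
          = (Nat.card G : ℂ) / (Nat.card (Subgroup.centralizer ({x i} : Set G)) : ℂ) := by
        rw [eq_div_iff hCi]
        exact_mod_cast (Subgroup.centralizer ({x i} : Set G)).index_mul_card
      rw [hia]
      field_simp
    · rw [if_neg hij, sum_sum_separated_ne (n : ℂ) f hfv (x i) (x j)
        (fun hc => hij (hx i j hc)) (hsep i j), mul_zero, mul_zero]
  -- the matrices over the local ring
  let β : Type _ := {χ : Cfsg.IrrCharacter G // (Cfsg.charDegree (χ : G → ℂ)).factorization p = e}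
  have hωR : ∀ (χ : Cfsg.IrrCharacter G) (g : G),
      Cfsg.MemLocalRing M (Cfsg.centralChar (χ : G → ℂ) g) := fun χ g =>
    memLocalRing_of_isIntegral hM (IsIrrCharacter.isIntegral_centralChar' χ.2 g)
  have hdegR : ∀ χ : β, Cfsg.MemLocalRing M (((χ : Cfsg.IrrCharacter G) : G → ℂ) 1
      / ((p ^ e : ℕ) : ℂ)) := by
    intro χ
    rw [IsCharacter.apply_one_eq_charDegree (IsIrrCharacter.isCharacter χ.1.2)]
    apply memLocalRing_natCast_div hM hpe0
    rw [factorization_prime_pow hpp, χ.2]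
  let W : Matrix (Fin r) β (localSubring hM) := fun i χ =>
    ⟨Cfsg.centralChar ((χ : Cfsg.IrrCharacter G) : G → ℂ) (x i), hωR _ _⟩
  let W' : Matrix β (Fin r) (localSubring hM) := fun χ j =>
    ⟨c χ * Cfsg.centralChar ((χ : Cfsg.IrrCharacter G) : G → ℂ) (x j)⁻¹
      * (((χ : Cfsg.IrrCharacter G) : G → ℂ) 1 / ((p ^ e : ℕ) : ℂ)),
      MemLocalRing.mul hM (MemLocalRing.mul hM (hcR _) (hωR _ _)) (hdegR χ)⟩
  have hUR : ∀ i : Fin r, Cfsg.MemLocalRing M
      ((((Subgroup.centralizer ({x i} : Set G)).index : ℕ) : ℂ) / ((p ^ e : ℕ) : ℂ)) := by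
    intro i
    apply memLocalRing_natCast_div hM hpe0
    rw [factorization_prime_pow hpp, hIdx i]
  have hUnot : ∀ i : Fin r, ¬ Cfsg.MemLocalIdeal M
      ((((Subgroup.centralizer ({x i} : Set G)).index : ℕ) : ℂ) / ((p ^ e : ℕ) : ℂ)) := by
    intro i
    apply not_memLocalIdeal_natCast_div hM (hidx0 i) hpe0
    rw [factorization_prime_pow hpp, hIdx i]
  let U : Fin r → localSubring hM := fun i =>
    ⟨(((Subgroup.centralizer ({x i} : Set G)).index : ℕ) : ℂ) / ((p ^ e : ℕ) : ℂ), hUR i⟩
  -- the congruence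
  have hcongr : (W.map (resMap hM)) * (W'.map (resMap hM))
      = Matrix.diagonal (fun i => resMap hM (U i)) := by
    rw [← Matrix.map_mul]
    ext i j
    rw [Matrix.map_apply, Matrix.diagonal_apply]
    have hval : (((W * W') i j : localSubring hM) : ℂ)
        = ∑ χ ∈ Finset.univ.filter (fun χ : Cfsg.IrrCharacter G =>
            (Cfsg.charDegree (χ : G → ℂ)).factorization p = e),
          c χ * Cfsg.centralChar (χ : G → ℂ) (x i)
          * Cfsg.centralChar (χ : G → ℂ) (x j)⁻¹ * ((χ : G → ℂ) 1 / ((p ^ e : ℕ) : ℂ)) := by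
      rw [Matrix.mul_apply]
      rw [Finset.sum_subtype (p := fun χ : Cfsg.IrrCharacter G =>
            (Cfsg.charDegree (χ : G → ℂ)).factorization p = e)
          (Finset.univ.filter (fun χ : Cfsg.IrrCharacter G =>
            (Cfsg.charDegree (χ : G → ℂ)).factorization p = e)) (by simp)
          (fun χ : Cfsg.IrrCharacter G => c χ * Cfsg.centralChar (χ : G → ℂ) (x i)
          * Cfsg.centralChar (χ : G → ℂ) (x j)⁻¹ * ((χ : G → ℂ) 1 / ((p ^ e : ℕ) : ℂ)))]
      rw [← Subring.subtype_apply, map_sum]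
      apply Finset.sum_congr rfl
      intro χ _
      simp only [Subring.subtype_apply, Subring.coe_mul, W, W']
      ring
    have hsc := robinson_sum_congr hM c hcR (x i) (x j)⁻¹ e (hIdx i) (hIdx' j)
    rw [hident i j, ← hval] at hsc
    by_cases hij : i = j
    · rw [if_pos hij, resMap_eq_iff]
      rw [if_pos hij] at hsc
      have := MemLocalIdeal.neg hsc
      rw [neg_sub] at this
      exact this
    · rw [if_neg hij, resMap_eq_zero_iff]
      rw [if_neg hij, zero_sub] at hsc
      have := MemLocalIdeal.neg hsc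
      rw [neg_neg] at this
      exact this
  have hdet : ((W.map (resMap hM)) * (W'.map (resMap hM))).det ≠ 0 := by
    rw [hcongr, Matrix.det_diagonal, Finset.prod_ne_zero_iff]
    intro i _
    rw [Ne, resMap_eq_zero_iff]
    exact hUnot i
  obtain ⟨ε, hεinj, hεdet⟩ := exists_minor_of_mul_det_ne_zero _ _ hdet
  -- facts about the chosen characters
  have hF1 : ∀ k : Fin r, ∃ i : Fin r, ¬ Cfsg.MemLocalIdeal M
      (Cfsg.centralChar (((ε k : β) : Cfsg.IrrCharacter G) : G → ℂ) (x i)) := by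
    intro k
    by_contra hcon
    push Not at hcon
    apply hεdet
    apply Matrix.det_eq_zero_of_column_eq_zero k
    intro i
    rw [Matrix.submatrix_apply, Matrix.map_apply, resMap_eq_zero_iff]
    exact hcon i
  have hmem : ∀ k : Fin r, ((ε k : β) : Cfsg.IrrCharacter G)
      ∈ Cfsg.blockOf M ((((ε k : β) : Cfsg.IrrCharacter G)) : G → ℂ) :=
    fun k => sameBlock_refl hM _
  have hF2 : ∀ (k : Fin r) (χ' : Cfsg.IrrCharacter G),
      χ' ∈ Cfsg.blockOf M ((((ε k : β) : Cfsg.IrrCharacter G)) : G → ℂ) →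
      e ≤ (Cfsg.charDegree (χ' : G → ℂ)).factorization p := by
    intro k χ' hχ'
    obtain ⟨i, hi⟩ := hF1 k
    have h1 : ¬ Cfsg.MemLocalIdeal M (Cfsg.centralChar (χ' : G → ℂ) (x i)) := by
      intro h2
      apply hi
      have := MemLocalIdeal.add hM (hχ' (x i)) h2
      rw [sub_add_cancel] at this
      exact this
    have := factorization_index_le_of_centralChar hM χ'.2 (x i) h1
    rw [hIdx i] at this
    exact this
  have hF3 : ∀ k : Fin r,
      sInf ((fun χ : Cfsg.IrrCharacter G => (Cfsg.charDegree (χ : G → ℂ)).factorization p) ''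
        Cfsg.blockOf M ((((ε k : β) : Cfsg.IrrCharacter G)) : G → ℂ)) = e := by
    intro k
    apply le_antisymm
    · exact Nat.sInf_le ⟨_, hmem k, (ε k).2⟩
    · apply le_csInf (Set.Nonempty.image _ ⟨_, hmem k⟩)
      rintro _ ⟨χ', hχ', rfl⟩
      exact hF2 k χ' hχ'
  have hF4 : ∀ k : Fin r,
      Cfsg.blockDefect p (Cfsg.blockOf M ((((ε k : β) : Cfsg.IrrCharacter G)) : G → ℂ)) = d := by
    intro k
    unfold Cfsg.blockDefect
    rw [hF3 k, he, ← ha]
    have := hdle k
    omega
  refine ⟨fun k => Cfsg.blockOf M ((((ε k : β) : Cfsg.IrrCharacter G)) : G → ℂ), ?_, ?_, ?_⟩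
  · -- injectivity
    intro k k' hkk
    by_contra hne
    apply hεdet
    apply Matrix.det_zero_of_column_eq hne
    intro i
    rw [Matrix.submatrix_apply, Matrix.submatrix_apply, Matrix.map_apply, Matrix.map_apply,
      resMap_eq_iff]
    have h1 : ((ε k' : β) : Cfsg.IrrCharacter G)
        ∈ Cfsg.blockOf M ((((ε k : β) : Cfsg.IrrCharacter G)) : G → ℂ) := by
      have h2 : Cfsg.blockOf M ((((ε k : β) : Cfsg.IrrCharacter G)) : G → ℂ)
          = Cfsg.blockOf M ((((ε k' : β) : Cfsg.IrrCharacter G)) : G → ℂ) := hkk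
      rw [h2]
      exact hmem k'
    exact h1 (x i)
  · intro k
    refine ⟨⟨_, rfl⟩, ?_⟩
    obtain ⟨i, hi⟩ := hF1 k
    obtain ⟨g, hg⟩ := Cfsg.Agent.S0906.result p M hM _
      (⟨((ε k : β) : Cfsg.IrrCharacter G), rfl⟩ :
        Cfsg.IsPBlock M (Cfsg.blockOf M ((((ε k : β) : Cfsg.IrrCharacter G)) : G → ℂ)))
    obtain ⟨Dg⟩ : Nonempty (Sylow p (Subgroup.centralizer ({g} : Set G))) := inferInstance
    have hDg : Cfsg.IsDefectGroup p M
        (Cfsg.blockOf M ((((ε k : β) : Cfsg.IrrCharacter G)) : G → ℂ))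
        ((Dg : Subgroup (Subgroup.centralizer ({g} : Set G))).map
          (Subgroup.centralizer ({g} : Set G)).subtype) := ⟨g, hg, Dg, rfl⟩
    obtain ⟨y, Q, hyQ⟩ := (Cfsg.Agent.S0911.result p M hM _ ⟨_, rfl⟩ g hg Dg (x i)).2
      ⟨_, hmem k, hi⟩
    have hcard1 := Cfsg.Agent.S0908.result p M hM _ ⟨_, rfl⟩ _ hDg
    rw [hF4 k] at hcard1
    have hcard2 : Nat.card ((Q : Subgroup (Subgroup.centralizer ({x i} : Set G))).map
        (Subgroup.centralizer ({x i} : Set G)).subtype) = p ^ d := by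
      rw [Subgroup.card_map_of_injective (Subgroup.subtype_injective _),
        Sylow.card_eq_multiplicity, hCd i]
    have heq := Subgroup.eq_of_le_of_card_ge hyQ (by rw [card_map_conj, hcard1, hcard2])
    obtain ⟨S, hS⟩ := hD i
    obtain ⟨cc, _, hcc⟩ := sylow_map_conj Q S
    have h1 := IsDefectGroup.map_conj hM _ _ hDg y
    rw [heq] at h1
    have h2 := IsDefectGroup.map_conj hM _ _ h1 cc
    rw [← hcc, hS] at h2
    exact h2
  · intro ψ hψ
    have hψdeg : ∀ k : Fin r, (Cfsg.charDegree ((ψ k : Cfsg.IrrCharacter G) : G → ℂ)).factorization p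
        = e := by
      intro k
      have h1 := factorization_eq_sInf_add_height (p := p) _ (ψ k) (hψ k).1
      rw [(hψ k).2, add_zero, hF3 k] at h1
      exact h1
    let Ω : Matrix (Fin r) (Fin r) (localSubring hM) := fun k j =>
      ⟨Cfsg.centralChar ((ψ k : Cfsg.IrrCharacter G) : G → ℂ) (x j), hωR _ _⟩
    have hΩmap : Ω.map (resMap hM) = ((W.map (resMap hM)).submatrix id ε)ᵀ := by
      ext k j
      rw [Matrix.map_apply, Matrix.transpose_apply, Matrix.submatrix_apply, Matrix.map_apply,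
        resMap_eq_iff]
      have := MemLocalIdeal.neg ((hψ k).1 (x j))
      rw [neg_sub] at this
      exact this
    have hΩdet : ¬ Cfsg.MemLocalIdeal M ((Ω.map (fun z => (z : ℂ))).det) := by
      rw [← coe_det_localSubring, ← resMap_eq_zero_iff, resMap_det, hΩmap, Matrix.det_transpose]
      exact hεdet
    have hΩR : Cfsg.MemLocalRing M ((Ω.map (fun z => (z : ℂ))).det) := by
      rw [← coe_det_localSubring]
      exact (Ω.det).2
    have hfac : (Matrix.of fun k j : Fin r => ((ψ k : Cfsg.IrrCharacter G) : G → ℂ) (x j))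
        = Matrix.diagonal (fun k : Fin r => ((ψ k : Cfsg.IrrCharacter G) : G → ℂ) 1
            / ((p ^ e : ℕ) : ℂ))
          * (Ω.map (fun z => (z : ℂ)))
          * Matrix.diagonal (fun j : Fin r => ((p ^ e : ℕ) : ℂ)
            / (((Subgroup.centralizer ({x j} : Set G)).index : ℕ) : ℂ)) := by
      ext k j
      rw [Matrix.mul_diagonal, Matrix.diagonal_mul, Matrix.of_apply, Matrix.map_apply]
      simp only [Ω]
      unfold Cfsg.centralChar
      have h1 := IsIrrCharacter.apply_one_ne_zero (ψ k).2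
      have h2 : (((Subgroup.centralizer ({x j} : Set G)).index : ℕ) : ℂ) ≠ 0 := by
        exact_mod_cast hidx0 j
      field_simp
    rw [hfac, Matrix.det_mul, Matrix.det_mul, Matrix.det_diagonal, Matrix.det_diagonal]
    have hv1 : ∀ k : Fin r, Cfsg.MemLocalRing M (((ψ k : Cfsg.IrrCharacter G) : G → ℂ) 1
        / ((p ^ e : ℕ) : ℂ)) := by
      intro k
      rw [IsCharacter.apply_one_eq_charDegree (IsIrrCharacter.isCharacter (ψ k).2)]
      apply memLocalRing_natCast_div hM hpe0
      rw [factorization_prime_pow hpp, hψdeg k]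
    have hv2 : ∀ k : Fin r, ¬ Cfsg.MemLocalIdeal M (((ψ k : Cfsg.IrrCharacter G) : G → ℂ) 1
        / ((p ^ e : ℕ) : ℂ)) := by
      intro k
      rw [IsCharacter.apply_one_eq_charDegree (IsIrrCharacter.isCharacter (ψ k).2)]
      apply not_memLocalIdeal_natCast_div hM (IsIrrCharacter.charDegree_pos (ψ k).2).ne' hpe0
      rw [factorization_prime_pow hpp, hψdeg k]
    have hw1 : ∀ j : Fin r, Cfsg.MemLocalRing M (((p ^ e : ℕ) : ℂ)
        / (((Subgroup.centralizer ({x j} : Set G)).index : ℕ) : ℂ)) := by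
      intro j
      apply memLocalRing_natCast_div hM (hidx0 j)
      rw [factorization_prime_pow hpp, hIdx j]
    have hw2 : ∀ j : Fin r, ¬ Cfsg.MemLocalIdeal M (((p ^ e : ℕ) : ℂ)
        / (((Subgroup.centralizer ({x j} : Set G)).index : ℕ) : ℂ)) := by
      intro j
      apply not_memLocalIdeal_natCast_div hM hpe0 (hidx0 j)
      rw [factorization_prime_pow hpp, hIdx j]
    apply not_memLocalIdeal_mul hM
    · exact MemLocalRing.mul hM (MemLocalRing.prod hM _ _ (fun k _ => hv1 k)) hΩR
    · exact MemLocalRing.prod hM _ _ (fun j _ => hw1 j)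
    · exact not_memLocalIdeal_mul hM (MemLocalRing.prod hM _ _ (fun k _ => hv1 k)) hΩR
        (not_memLocalIdeal_prod hM _ _ (fun k _ => hv1 k) (fun k _ => hv2 k)) hΩdet
    · exact not_memLocalIdeal_prod hM _ _ (fun j _ => hw1 j) (fun j _ => hw2 j)

end main

end Cfsg.Agent.Lib.Helper6
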