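import Mathlib
import Cfsg.Agent.Lib.Helper6.RobSep
import Cfsg.Agent.Lib.Helper6.BlkDim
import Cfsg.Agent.Lib.Helper6.BlkCenter
import Cfsg.Agent.Lib.Helper6.BlkIndDefect

set_option autoImplicit false
set_option linter.unusedSectionVars false
open Cfsg

namespace Cfsg.Agent.Lib.Helper6

open scoped ComplexConjugate
open Matrix

section grp

variable {G : Type*} [Group G] [Fintype G] [DecidableEq G]
variable {p : ℕ} [hp : Fact p.Prime]

theorem card_centralizer_eq_of_isConj {g g' : G} (h : IsConj g g') :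
    Nat.card (Subgroup.centralizer ({g} : Set G)) = Nat.card (Subgroup.centralizer ({g'} : Set G)) := by
  have h1 := card_conj_eq_index g
  have h2 := card_conj_eq_index g'
  have h3 : (Finset.univ.filter (fun x : G => IsConj g x))
      = (Finset.univ.filter (fun x : G => IsConj g' x)) := by
    ext x
    simp only [Finset.mem_filter, Finset.mem_univ, true_and]
    exact ⟨fun hx => h.symm.trans hx, fun hx => h.trans hx⟩
  rw [h3, h2] at h1
  have h4 := (Subgroup.centralizer ({g} : Set G)).index_mul_card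
  have h5 := (Subgroup.centralizer ({g'} : Set G)).index_mul_card
  rw [← h1] at h4
  have hpos : 0 < (Subgroup.centralizer ({g'} : Set G)).index :=
    Nat.pos_of_ne_zero Subgroup.index_ne_zero_of_finite
  exact Nat.eq_of_mul_eq_mul_left hpos (h4.trans h5.symm)

/-- a `p`-subgroup of a centralizer of the right order is a Sylow subgroup of it -/
theorem exists_sylow_map_eq (D : Subgroup G) (hD : IsPGroup p D) (y : G)
    (hDy : D ≤ Subgroup.centralizer ({y} : Set G))
    (hcard : Nat.card D = p ^ (Nat.card (Subgroup.centralizer ({y} : Set G))).factorization p) :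
    ∃ Q : Sylow p (Subgroup.centralizer ({y} : Set G)),
      (Q : Subgroup (Subgroup.centralizer ({y} : Set G))).map
        (Subgroup.centralizer ({y} : Set G)).subtype = D := by
  obtain ⟨Q, hQ⟩ := exists_sylow_map_ge hD hDy
  refine ⟨Q, (Subgroup.eq_of_le_of_card_ge hQ ?_).symm⟩
  rw [Subgroup.card_map_of_injective (Subgroup.subtype_injective _), Sylow.card_eq_multiplicity,
    hcard]

theorem sylow_map_card {x : G} (Q : Sylow p (Subgroup.centralizer ({x} : Set G))) :
    Nat.card ((Q : Subgroup (Subgroup.centralizer ({x} : Set G))).map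
        (Subgroup.centralizer ({x} : Set G)).subtype)
      = p ^ (Nat.card (Subgroup.centralizer ({x} : Set G))).factorization p := by
  rw [Subgroup.card_map_of_injective (Subgroup.subtype_injective _), Sylow.card_eq_multiplicity]

/-- transport of the defect group of a class along conjugation, for a normal subgroup -/
theorem sylow_map_transport_conj (D : Subgroup G) [hDn : D.Normal] {x' : G}
    (Q : Sylow p (Subgroup.centralizer ({x'} : Set G)))
    (hQ : (Q : Subgroup (Subgroup.centralizer ({x'} : Set G))).map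
        (Subgroup.centralizer ({x'} : Set G)).subtype = D) {x : G} (h : IsConj x' x) :
    ∃ Q' : Sylow p (Subgroup.centralizer ({x} : Set G)),
      (Q' : Subgroup (Subgroup.centralizer ({x} : Set G))).map
        (Subgroup.centralizer ({x} : Set G)).subtype = D := by
  have hDp : IsPGroup p D := by rw [← hQ]; exact sylow_map_isPGroup Q
  obtain ⟨c, hc⟩ := isConj_iff.mp h
  apply exists_sylow_map_eq D hDp x
  · intro u hu
    have h1 : c⁻¹ * u * c ∈ D := by
      have := hDn.conj_mem u hu c⁻¹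
      simpa using this
    rw [← hQ] at h1
    have h2 := mem_centralizer_singleton_iff.mp (sylow_map_le Q h1)
    rw [mem_centralizer_singleton_iff, ← hc]
    calc c * x' * c⁻¹ * u = c * (x' * (c⁻¹ * u * c)) * c⁻¹ := by group
      _ = c * ((c⁻¹ * u * c) * x') * c⁻¹ := by rw [h2]
      _ = u * (c * x' * c⁻¹) := by group
  · rw [← card_centralizer_eq_of_isConj h, ← hQ, sylow_map_card]

theorem sylow_map_transport_inv (D : Subgroup G) {x : G}
    (Q : Sylow p (Subgroup.centralizer ({x} : Set G)))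
    (hQ : (Q : Subgroup (Subgroup.centralizer ({x} : Set G))).map
        (Subgroup.centralizer ({x} : Set G)).subtype = D) :
    ∃ Q' : Sylow p (Subgroup.centralizer ({x⁻¹} : Set G)),
      (Q' : Subgroup (Subgroup.centralizer ({x⁻¹} : Set G))).map
        (Subgroup.centralizer ({x⁻¹} : Set G)).subtype = D := by
  have hDp : IsPGroup p D := by rw [← hQ]; exact sylow_map_isPGroup Q
  apply exists_sylow_map_eq D hDp x⁻¹
  · rw [centralizer_singleton_inv_rob, ← hQ]
    exact sylow_map_le Q
  · rw [centralizer_singleton_inv_rob, ← hQ, sylow_map_card]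

end grp

section pairs

variable {G : Type*} [Group G] [Fintype G] [DecidableEq G]

theorem card_conj_pairs_pred (a b : G) (R : G → G → Prop) [DecidableRel R] :
    (Finset.univ.filter (fun q : G × G => R (q.1 * a * q.1⁻¹) (q.2 * b * q.2⁻¹))).card
      = Nat.card (Subgroup.centralizer ({a} : Set G)) * Nat.card (Subgroup.centralizer ({b} : Set G))
        * Nat.card {q : G × G // IsConj a q.1 ∧ IsConj b q.2 ∧ R q.1 q.2} := by
  set s := Finset.univ.filter (fun q : G × G => R (q.1 * a * q.1⁻¹) (q.2 * b * q.2⁻¹)) with hs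
  set t := Finset.univ.filter (fun q : G × G => IsConj a q.1 ∧ IsConj b q.2 ∧ R q.1 q.2)
    with ht
  let f : G × G → G × G := fun q => (q.1 * a * q.1⁻¹, q.2 * b * q.2⁻¹)
  have hmaps : ∀ q ∈ s, f q ∈ t := by
    intro q hq
    simp only [hs, Finset.mem_filter, Finset.mem_univ, true_and] at hq
    simp only [ht, Finset.mem_filter, Finset.mem_univ, true_and, f]
    exact ⟨isConj_iff.mpr ⟨q.1, rfl⟩, isConj_iff.mpr ⟨q.2, rfl⟩, hq⟩
  rw [Finset.card_eq_sum_card_fiberwise hmaps]
  have hfib : ∀ q ∈ t, (s.filter (fun q' => f q' = q)).card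
      = Nat.card (Subgroup.centralizer ({a} : Set G))
        * Nat.card (Subgroup.centralizer ({b} : Set G)) := by
    intro q hq
    simp only [ht, Finset.mem_filter, Finset.mem_univ, true_and] at hq
    have heq : s.filter (fun q' => f q' = q)
        = (Finset.univ.filter (fun g : G => g * a * g⁻¹ = q.1)) ×ˢ
          (Finset.univ.filter (fun h : G => h * b * h⁻¹ = q.2)) := by
      ext q'
      simp only [hs, Finset.mem_filter, Finset.mem_univ, true_and, Finset.mem_product, f]
      constructor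
      · rintro ⟨_, h2⟩
        rw [← h2]
        exact ⟨rfl, rfl⟩
      · rintro ⟨h1, h2⟩
        refine ⟨?_, Prod.ext h1 h2⟩
        rw [h1, h2]
        exact hq.2.2
    rw [heq, Finset.card_product, card_filter_conj_eq_card_centralizer hq.1,
      card_filter_conj_eq_card_centralizer hq.2.1]
  rw [Finset.sum_congr rfl hfib, Finset.sum_const, smul_eq_mul, mul_comm]
  congr 1
  rw [Nat.card_eq_fintype_card, Fintype.card_subtype]

end pairs


section ident

variable {G : Type*} [Group G] [Fintype G] [DecidableEq G]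

open Classical in
theorem sum_conj_subgroup_eq (P : Subgroup G) {χ : G → ℂ} (hχ : Cfsg.IsCharacter G χ) :
    ∑ s ∈ Finset.univ.filter (fun s : G => s ∈ P), conj (χ s)
      = (Nat.card P : ℂ) * (trivMult P χ : ℂ) := by
  haveI : Fintype P := Fintype.ofFinite _
  have h1 := trivMult_spec P hχ
  have hP0 : (Nat.card P : ℂ) ≠ 0 := by
    exact_mod_cast (Nat.card_pos (α := P)).ne'
  have h2 : ∑ᶠ x : P, χ x = ∑ s ∈ Finset.univ.filter (fun s : G => s ∈ P), χ s := by
    rw [finsum_eq_sum_of_fintype]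
    rw [Finset.sum_subtype (p := fun s : G => s ∈ P) (Finset.univ.filter (fun s : G => s ∈ P))
      (by simp) (fun s => χ s)]
  rw [h2] at h1
  have h3 : ∑ s ∈ Finset.univ.filter (fun s : G => s ∈ P), χ s
      = (Nat.card P : ℂ) * (trivMult P χ : ℂ) := by
    rw [← h1]
    field_simp
  rw [← map_sum, h3, map_mul, Complex.conj_natCast, Complex.conj_natCast]

open Classical in
/-- Robinson's pair count through the character table -/
theorem robinson_count_identity [Fintype (Cfsg.IrrCharacter G)] (P : Subgroup G) (a b : G) :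
    (Nat.card G : ℂ) * (Nat.card {yz : G × G // IsConj a yz.1 ∧ IsConj b yz.2
        ∧ yz.2 * yz.1⁻¹ ∈ P} : ℂ)
      = (Nat.card P : ℂ) * ∑ χ : Cfsg.IrrCharacter G, (trivMult P (χ : G → ℂ) : ℂ)
          * Cfsg.centralChar (χ : G → ℂ) b * Cfsg.centralChar (χ : G → ℂ) a⁻¹
          * (χ : G → ℂ) 1 := by
  have hG := card_ne_zero_complex G
  have hCa : (Nat.card (Subgroup.centralizer ({a} : Set G)) : ℂ) ≠ 0 := by
    exact_mod_cast (Nat.card_pos (α := Subgroup.centralizer ({a} : Set G))).ne'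
  have hCb : (Nat.card (Subgroup.centralizer ({b} : Set G)) : ℂ) ≠ 0 := by
    exact_mod_cast (Nat.card_pos (α := Subgroup.centralizer ({b} : Set G))).ne'
  have hia : ((Subgroup.centralizer ({a} : Set G)).index : ℂ)
      = (Nat.card G : ℂ) / (Nat.card (Subgroup.centralizer ({a} : Set G)) : ℂ) := by
    rw [eq_div_iff hCa]
    exact_mod_cast (Subgroup.centralizer ({a} : Set G)).index_mul_card
  have hib : ((Subgroup.centralizer ({b} : Set G)).index : ℂ)
      = (Nat.card G : ℂ) / (Nat.card (Subgroup.centralizer ({b} : Set G)) : ℂ) := by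
    rw [eq_div_iff hCb]
    exact_mod_cast (Subgroup.centralizer ({b} : Set G)).index_mul_card
  -- swap the components
  have hswap : Nat.card {yz : G × G // IsConj a yz.1 ∧ IsConj b yz.2 ∧ yz.2 * yz.1⁻¹ ∈ P}
      = Nat.card {q : G × G // IsConj b q.1 ∧ IsConj a q.2 ∧ q.1 * q.2⁻¹ ∈ P} := by
    apply Nat.card_congr
    refine Equiv.subtypeEquiv (Equiv.prodComm G G) ?_
    rintro ⟨y, z⟩
    simp only [Equiv.prodComm_apply, Prod.swap_prod_mk]
    tauto
  have h1 := card_conj_pairs_pred b a (fun z y => z * y⁻¹ ∈ P)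
  -- count by the elements of `P`
  have h2 : ((Finset.univ.filter (fun q : G × G =>
      (q.1 * b * q.1⁻¹) * (q.2 * a * q.2⁻¹)⁻¹ ∈ P)).card : ℂ)
      = ∑ s ∈ Finset.univ.filter (fun s : G => s ∈ P),
        ((Finset.univ.filter (fun q : G × G =>
          q.1 * b * q.1⁻¹ * (q.2 * a⁻¹ * q.2⁻¹) = s)).card : ℂ) := by
    have h3 : ∀ s : G, ((Finset.univ.filter (fun q : G × G =>
          q.1 * b * q.1⁻¹ * (q.2 * a⁻¹ * q.2⁻¹) = s)).card : ℂ)
        = ∑ q : G × G, if (q.1 * b * q.1⁻¹) * (q.2 * a * q.2⁻¹)⁻¹ = s then (1 : ℂ) else 0 := by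
      intro s
      rw [Finset.card_filter, Nat.cast_sum]
      apply Finset.sum_congr rfl
      intro q _
      have : (q.2 * a * q.2⁻¹)⁻¹ = q.2 * a⁻¹ * q.2⁻¹ := by group
      rw [this]
      simp
    simp only [h3]
    rw [Finset.sum_comm, Finset.card_filter, Nat.cast_sum]
    apply Finset.sum_congr rfl
    intro q _
    rw [Finset.sum_ite_eq]
    simp
  have h4 : ∀ s : G, ((Finset.univ.filter (fun q : G × G =>
          q.1 * b * q.1⁻¹ * (q.2 * a⁻¹ * q.2⁻¹) = s)).card : ℂ)
      = (Nat.card G : ℂ) * ∑ χ : Cfsg.IrrCharacter G,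
          (χ : G → ℂ) b * (χ : G → ℂ) a⁻¹ * conj ((χ : G → ℂ) s) / (χ : G → ℂ) 1 :=
    fun s => card_conj_mul_conj_eq b a⁻¹ s
  have h5 : ((Finset.univ.filter (fun q : G × G =>
      (q.1 * b * q.1⁻¹) * (q.2 * a * q.2⁻¹)⁻¹ ∈ P)).card : ℂ)
      = (Nat.card G : ℂ) * (Nat.card P : ℂ) * ∑ χ : Cfsg.IrrCharacter G,
          (trivMult P (χ : G → ℂ) : ℂ) * ((χ : G → ℂ) b * (χ : G → ℂ) a⁻¹ / (χ : G → ℂ) 1) := by
    rw [h2]
    simp only [h4]
    rw [← Finset.mul_sum, Finset.sum_comm, mul_assoc, Finset.mul_sum (a := (Nat.card P : ℂ))]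
    congr 1
    apply Finset.sum_congr rfl
    intro χ _
    have h6 : ∑ s ∈ Finset.univ.filter (fun s : G => s ∈ P),
        (χ : G → ℂ) b * (χ : G → ℂ) a⁻¹ * conj ((χ : G → ℂ) s) / (χ : G → ℂ) 1
        = ((χ : G → ℂ) b * (χ : G → ℂ) a⁻¹ / (χ : G → ℂ) 1)
          * ∑ s ∈ Finset.univ.filter (fun s : G => s ∈ P), conj ((χ : G → ℂ) s) := by
      rw [Finset.mul_sum]
      apply Finset.sum_congr rfl
      intro s _
      ring
    rw [h6, sum_conj_subgroup_eq P (IsIrrCharacter.isCharacter χ.2)]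
    ring
  rw [h1] at h5
  rw [hswap]
  have h7 : (Nat.card {q : G × G // IsConj b q.1 ∧ IsConj a q.2 ∧ q.1 * q.2⁻¹ ∈ P} : ℂ)
      = ((Nat.card (Subgroup.centralizer ({b} : Set G)) : ℂ)
          * (Nat.card (Subgroup.centralizer ({a} : Set G)) : ℂ))⁻¹
        * ((Nat.card G : ℂ) * (Nat.card P : ℂ) * ∑ χ : Cfsg.IrrCharacter G,
          (trivMult P (χ : G → ℂ) : ℂ)
            * ((χ : G → ℂ) b * (χ : G → ℂ) a⁻¹ / (χ : G → ℂ) 1)) := by
    rw [← h5]
    push_cast
    field_simp
  rw [h7, Finset.mul_sum, Finset.mul_sum, Finset.mul_sum, Finset.mul_sum]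
  apply Finset.sum_congr rfl
  intro χ _
  have hχ1 := IsIrrCharacter.apply_one_ne_zero χ.2
  unfold Cfsg.centralChar
  rw [centralizer_singleton_inv_rob, hia, hib]
  field_simp

end ident


section dg

variable {G : Type*} [Group G] [Fintype G] [DecidableEq G]
variable {p : ℕ} [hp : Fact p.Prime] {M : Ideal Cfsg.AlgInt}

/-- a character of critical degree whose central character does not vanish at an element with
defect group `D` lies in a block with defect group `D` -/
theorem isDefectGroup_of_centralChar (hM : Cfsg.IsPModular p M) (D : Subgroup G) (x : G)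
    (S : Sylow p ↥(Subgroup.centralizer ({x} : Set G)))
    (hS : (S : Subgroup ↥(Subgroup.centralizer ({x} : Set G))).map
      (Subgroup.centralizer ({x} : Set G)).subtype = D) (χ : Cfsg.IrrCharacter G)
    (hdeg : (Cfsg.charDegree (χ : G → ℂ)).factorization p
      = (Nat.card G).factorization p - (Nat.card D).factorization p)
    (hω : ¬ Cfsg.MemLocalIdeal M (Cfsg.centralChar (χ : G → ℂ) x)) :
    Cfsg.IsDefectGroup p M (Cfsg.blockOf M (χ : G → ℂ)) D ∧
      sInf ((fun χ : Cfsg.IrrCharacter G => (Cfsg.charDegree (χ : G → ℂ)).factorization p) ''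
        Cfsg.blockOf M (χ : G → ℂ))
        = (Nat.card G).factorization p - (Nat.card D).factorization p := by
  have hpp := hp.out
  obtain ⟨hCd, hIdx⟩ := factorization_index_of_sylow_map D x S hS
  have hmem : χ ∈ Cfsg.blockOf M (χ : G → ℂ) := sameBlock_refl hM _
  have hdle : (Nat.card D).factorization p ≤ (Nat.card G).factorization p := by
    have := factorization_card_centralizer_add (p := p) hpp x
    omega
  have hF2 : ∀ χ' : Cfsg.IrrCharacter G, χ' ∈ Cfsg.blockOf M (χ : G → ℂ) →
      (Nat.card G).factorization p - (Nat.card D).factorization p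
        ≤ (Cfsg.charDegree (χ' : G → ℂ)).factorization p := by
    intro χ' hχ'
    have h1 : ¬ Cfsg.MemLocalIdeal M (Cfsg.centralChar (χ' : G → ℂ) x) := by
      intro h2
      apply hω
      have := MemLocalIdeal.add hM (hχ' x) h2
      rw [sub_add_cancel] at this
      exact this
    have := factorization_index_le_of_centralChar hM χ'.2 x h1
    rw [hIdx] at this
    exact this
  have hF3 : sInf ((fun χ : Cfsg.IrrCharacter G => (Cfsg.charDegree (χ : G → ℂ)).factorization p) ''
        Cfsg.blockOf M (χ : G → ℂ))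
        = (Nat.card G).factorization p - (Nat.card D).factorization p := by
    apply le_antisymm
    · exact Nat.sInf_le ⟨_, hmem, hdeg⟩
    · apply le_csInf (Set.Nonempty.image _ ⟨_, hmem⟩)
      rintro _ ⟨χ', hχ', rfl⟩
      exact hF2 χ' hχ'
  have hF4 : Cfsg.blockDefect p (Cfsg.blockOf M (χ : G → ℂ)) = (Nat.card D).factorization p := by
    unfold Cfsg.blockDefect
    rw [hF3]
    omega
  refine ⟨?_, hF3⟩
  obtain ⟨g, hg⟩ := Cfsg.Agent.S0906.result p M hM _
    (⟨χ, rfl⟩ : Cfsg.IsPBlock M (Cfsg.blockOf M (χ : G → ℂ)))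
  obtain ⟨Dg⟩ : Nonempty (Sylow p (Subgroup.centralizer ({g} : Set G))) := inferInstance
  have hDg : Cfsg.IsDefectGroup p M (Cfsg.blockOf M (χ : G → ℂ))
      ((Dg : Subgroup (Subgroup.centralizer ({g} : Set G))).map
        (Subgroup.centralizer ({g} : Set G)).subtype) := ⟨g, hg, Dg, rfl⟩
  obtain ⟨y, Q, hyQ⟩ := (Cfsg.Agent.S0911.result p M hM _ ⟨_, rfl⟩ g hg Dg x).2
    ⟨_, hmem, hω⟩
  have hcard1 := Cfsg.Agent.S0908.result p M hM _ ⟨_, rfl⟩ _ hDg
  rw [hF4] at hcard1
  have hcard2 : Nat.card ((Q : Subgroup (Subgroup.centralizer ({x} : Set G))).map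
      (Subgroup.centralizer ({x} : Set G)).subtype) = p ^ (Nat.card D).factorization p := by
    rw [sylow_map_card, hCd]
  have heq := Subgroup.eq_of_le_of_card_ge hyQ (by rw [card_map_conj, hcard1, hcard2])
  obtain ⟨cc, _, hcc⟩ := sylow_map_conj Q S
  have h1 := IsDefectGroup.map_conj hM _ _ hDg y
  rw [heq] at h1
  have h2 := IsDefectGroup.map_conj hM _ _ h1 cc
  rw [← hcc, hS] at h2
  exact h2

omit [Fintype G] [DecidableEq G] hp in
theorem map_conj_eq_of_normal (D : Subgroup G) [hDn : D.Normal] (y : G) :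
    D.map (MulAut.conj y).toMonoidHom = D := by
  ext u
  constructor
  · rintro ⟨v, hv, rfl⟩
    simp only [MulEquiv.coe_toMonoidHom, MulAut.conj_apply]
    exact hDn.conj_mem v hv y
  · intro hu
    refine ⟨y⁻¹ * u * y, ?_, ?_⟩
    · have := hDn.conj_mem u hu y⁻¹
      simpa using this
    · simp only [MulEquiv.coe_toMonoidHom, MulAut.conj_apply]
      group

/-- for a normal defect group `D`: a class on which the idempotent of one block with defect
group `D` and the central character of another do not vanish has defect group `D` -/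
theorem exists_sylow_map_eq_of_coeff_of_centralChar (hM : Cfsg.IsPModular p M) (D : Subgroup G)
    [hDn : D.Normal] (χ₁ χ₂ : Cfsg.IrrCharacter G)
    (h1 : Cfsg.IsDefectGroup p M (Cfsg.blockOf M (χ₁ : G → ℂ)) D)
    (h2 : Cfsg.IsDefectGroup p M (Cfsg.blockOf M (χ₂ : G → ℂ)) D) (g : G)
    (ha : ¬ Cfsg.MemLocalIdeal M (Cfsg.blockCoeff (Cfsg.blockOf M (χ₁ : G → ℂ)) g))
    (hw : ¬ Cfsg.MemLocalIdeal M (Cfsg.centralChar (χ₂ : G → ℂ) g)) :
    ¬ p ∣ orderOf g ∧ ∃ Q : Sylow p (Subgroup.centralizer ({g} : Set G)),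
      (Q : Subgroup (Subgroup.centralizer ({g} : Set G))).map
        (Subgroup.centralizer ({g} : Set G)).subtype = D := by
  refine ⟨pRegular_of_blockCoeff hM χ₁ g ha, ?_⟩
  obtain ⟨g₁, hg₁, P₁, hP₁⟩ := h1
  obtain ⟨g₂, hg₂, P₂, hP₂⟩ := h2
  obtain ⟨y, Q, hQ⟩ := (Cfsg.Agent.S0911.result p M hM _ ⟨χ₁, rfl⟩ g₁ hg₁ P₁ g).1
    (blockCoeff_memLocalRing hM χ₁ g) ha
  obtain ⟨y', Q', hQ'⟩ := (Cfsg.Agent.S0911.result p M hM _ ⟨χ₂, rfl⟩ g₂ hg₂ P₂ g).2
    ⟨χ₂, sameBlock_refl hM _, hw⟩
  rw [← hP₁, map_conj_eq_of_normal] at hQ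
  rw [← hP₂, map_conj_eq_of_normal] at hQ'
  obtain ⟨cc, _, hcc⟩ := sylow_map_conj Q' Q
  refine ⟨Q, le_antisymm hQ ?_⟩
  rw [hcc]
  intro u hu
  refine ⟨cc⁻¹ * u * cc, hQ' ?_, ?_⟩
  · have := hDn.conj_mem u hu cc⁻¹
    simpa using this
  · simp only [MulEquiv.coe_toMonoidHom, MulAut.conj_apply]
    group

end dg

end Cfsg.Agent.Lib.Helper6
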