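import Mathlib
import Cfsg.Agent.Lib.Helper6.RobCount1
import Cfsg.Agent.Lib.Helper6.RankExt
import Cfsg.Agent.Lib.Helper6.BlkCover3
import Cfsg.Agent.S0957

set_option autoImplicit false
set_option linter.unusedSectionVars false
set_option maxHeartbeats 1600000
open Cfsg

namespace Cfsg.Agent.Lib.Helper6

open scoped ComplexConjugate
open Matrix

section count

variable {G : Type*} [Group G] [Fintype G] [DecidableEq G]
variable {p : ℕ} [hp : Fact p.Prime] {M : Ideal Cfsg.AlgInt}

/-- the residue field has characteristic `p` -/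
theorem charP_resField (hM : Cfsg.IsPModular p M) : CharP (ResField hM) p := by
  rw [CharP.charP_iff_prime_eq_zero hM.1]
  have h1 : ((p : ℕ) : ResField hM) = resMap hM ((p : ℕ) : localSubring hM) := by
    rw [map_natCast]
  rw [h1, resMap_eq_zero_iff]
  push_cast
  exact memLocalIdeal_prime hM

/-- Robinson: the number of blocks with a given normal defect group as a rank -/
theorem robinson_count (hM : Cfsg.IsPModular p M) (D : Subgroup G) [hDn : D.Normal]
    (hD : IsPGroup p D) (S : Sylow p G) {ι : Type*} [Fintype ι] [DecidableEq ι]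
    (K : ι → ConjClasses G) (hKinj : Function.Injective K)
    (hK : ∀ C : ConjClasses G, (∃ i, K i = C) ↔ ∃ x ∈ C.carrier, ¬ p ∣ orderOf x ∧
      ∃ Q : Sylow p (Subgroup.centralizer ({x} : Set G)),
        (Q : Subgroup (Subgroup.centralizer ({x} : Set G))).map
          (Subgroup.centralizer ({x} : Set G)).subtype = D) :
    Nat.card {B : Set (Cfsg.IrrCharacter G) // Cfsg.IsPBlock M B ∧ Cfsg.IsDefectGroup p M B D}
      = (Matrix.of fun i j : ι => ((Nat.card {yz : G × G // yz.1 ∈ (K i).carrier ∧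
          yz.2 ∈ (K j).carrier ∧ yz.2 * yz.1⁻¹ ∈ (S : Subgroup G)}
          / p ^ ((Nat.card G).factorization p - (Nat.card D).factorization p) : ℕ)
          : ZMod p)).rank := by
  classical
  haveI : Fintype (Cfsg.IrrCharacter G) := Fintype.ofFinite _
  have hpp := hp.out
  have hG0 : Nat.card G ≠ 0 := Nat.card_pos.ne'
  obtain ⟨a, ha⟩ : ∃ a : ℕ, a = (Nat.card G).factorization p := ⟨_, rfl⟩
  obtain ⟨d, hd⟩ : ∃ d : ℕ, d = (Nat.card D).factorization p := ⟨_, rfl⟩
  obtain ⟨e, he⟩ : ∃ e : ℕ, e = a - d := ⟨_, rfl⟩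
  obtain ⟨n, hn⟩ : ∃ n : ℕ, n = Nat.card G / p ^ (Nat.card G).factorization p := ⟨_, rfl⟩
  rw [← ha, ← hd, ← he]
  have hn_ndvd : ¬ p ∣ n := by rw [hn]; exact Nat.not_dvd_ordCompl hpp hG0
  have hn0 : (n : ℂ) ≠ 0 := by
    intro h0
    have : n = 0 := by exact_mod_cast h0
    rw [this] at hn_ndvd
    exact hn_ndvd (dvd_zero p)
  have hGn : Nat.card G = p ^ a * n := by
    rw [ha, hn]
    exact (Nat.ordProj_mul_ordCompl_eq_self (Nat.card G) p).symm
  have hScard : Nat.card (S : Subgroup G) = p ^ a := by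
    rw [ha]; exact Sylow.card_eq_multiplicity S
  have hDcard : Nat.card D = p ^ d := by
    obtain ⟨k, hk⟩ := hD.exists_card_eq
    rw [hd, hk, factorization_prime_pow hpp]
  have hpe0 : p ^ e ≠ 0 := pow_ne_zero _ hpp.ne_zero
  have hpe0' : ((p ^ e : ℕ) : ℂ) ≠ 0 := by exact_mod_cast hpe0
  -- representatives
  obtain ⟨x, hxdef⟩ : ∃ x : ι → G, x = fun i => Quotient.out (K i) := ⟨_, rfl⟩
  have hxK : ∀ i, ConjClasses.mk (x i) = K i := by
    intro i
    rw [hxdef]
    exact Quotient.out_eq _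
  have hxprop : ∀ i, ¬ p ∣ orderOf (x i) ∧
      ∃ Q : Sylow p (Subgroup.centralizer ({x i} : Set G)),
        (Q : Subgroup (Subgroup.centralizer ({x i} : Set G))).map
          (Subgroup.centralizer ({x i} : Set G)).subtype = D := by
    intro i
    obtain ⟨x', hx', hreg, Q, hQ⟩ := (hK (K i)).mp ⟨i, rfl⟩
    have hconj : IsConj x' (x i) := by
      rw [← ConjClasses.mk_eq_mk_iff_isConj, hxK i]
      exact ConjClasses.mem_carrier_iff_mk_eq.mp hx'
    refine ⟨?_, sylow_map_transport_conj D Q hQ hconj⟩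
    obtain ⟨c, hc⟩ := isConj_iff.mp hconj
    have e1 : c * x' * c⁻¹ = MulAut.conj c x' := by simp [MulAut.conj_apply]
    rw [← hc, e1, MulEquiv.orderOf_eq]
    exact hreg
  have hmemK : ∀ i (y : G), y ∈ (K i).carrier ↔ IsConj (x i) y := by
    intro i y
    rw [ConjClasses.mem_carrier_iff_mk_eq, ← hxK i, ConjClasses.mk_eq_mk_iff_isConj, isConj_comm]
  have hCd : ∀ i, (Nat.card (Subgroup.centralizer ({x i} : Set G))).factorization p = d := by
    intro i
    obtain ⟨Q, hQ⟩ := (hxprop i).2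
    rw [hd]
    exact (factorization_index_of_sylow_map D (x i) Q hQ).1
  have hIdx : ∀ i, (Subgroup.centralizer ({x i} : Set G)).index.factorization p = e := by
    intro i
    obtain ⟨Q, hQ⟩ := (hxprop i).2
    rw [he, ha, hd]
    exact (factorization_index_of_sylow_map D (x i) Q hQ).2
  have hIdx' : ∀ i, (Subgroup.centralizer ({(x i)⁻¹} : Set G)).index.factorization p = e := by
    intro i
    rw [centralizer_singleton_inv_rob]
    exact hIdx i
  have hdle : ∀ i : ι, d ≤ a := by
    intro i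
    have := factorization_card_centralizer_add (p := p) hpp (x i)
    rw [hCd i, ← ha] at this
    omega
  -- the pair counts
  obtain ⟨N, hNdef⟩ : ∃ N : ι → ι → ℕ, N = fun i j => Nat.card {yz : G × G //
      yz.1 ∈ (K i).carrier ∧ yz.2 ∈ (K j).carrier ∧ yz.2 * yz.1⁻¹ ∈ (S : Subgroup G)} :=
    ⟨_, rfl⟩
  have hN : ∀ i j, N i j = Nat.card {yz : G × G // IsConj (x i) yz.1 ∧ IsConj (x j) yz.2
      ∧ yz.2 * yz.1⁻¹ ∈ (S : Subgroup G)} := by
    intro i j
    rw [hNdef]
    apply Nat.card_congr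
    apply Equiv.subtypeEquivRight
    intro yz
    rw [hmemK i, hmemK j]
  have hNdvd : ∀ i j, p ^ e ∣ N i j := by
    intro i j
    obtain ⟨Q, hQ⟩ := (hxprop i).2
    have h1 := Cfsg.Agent.S0957.result p S (x i) (x j) Q
    rw [← hN i j] at h1
    have h2 : Nat.card (S : Subgroup G) / Nat.card Q = p ^ e := by
      rw [hScard, Sylow.card_eq_multiplicity, hCd i, he, Nat.pow_div (hdle i) hpp.pos]
    rw [h2] at h1
    exact h1
  -- the coefficients
  obtain ⟨c, hcdef⟩ : ∃ c : Cfsg.IrrCharacter G → ℂ,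
      c = fun χ : Cfsg.IrrCharacter G => (trivMult (S : Subgroup G) (χ : G → ℂ) : ℂ) * (n : ℂ)⁻¹ :=
    ⟨_, rfl⟩
  have hcR : ∀ χ, Cfsg.MemLocalRing M (c χ) := by
    intro χ
    rw [hcdef]
    exact MemLocalRing.mul hM (memLocalRing_natCast hM _) (memLocalRing_inv_natCast hM hn_ndvd)
  have hident : ∀ i j : ι, (((N i j / p ^ e : ℕ)) : ℂ)
      = ∑ χ : Cfsg.IrrCharacter G, c χ * Cfsg.centralChar (χ : G → ℂ) (x j)
          * Cfsg.centralChar (χ : G → ℂ) (x i)⁻¹ * ((χ : G → ℂ) 1 / ((p ^ e : ℕ) : ℂ)) := by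
    intro i j
    have h1 := robinson_count_identity (S : Subgroup G) (x i) (x j)
    rw [← hN i j, hScard, hGn] at h1
    rw [Nat.cast_div (hNdvd i j) hpe0']
    have hpa : ((p ^ a : ℕ) : ℂ) ≠ 0 := by exact_mod_cast (pow_ne_zero a hpp.ne_zero)
    have h2 : (N i j : ℂ) = (n : ℂ)⁻¹ * ∑ χ : Cfsg.IrrCharacter G,
        (trivMult (S : Subgroup G) (χ : G → ℂ) : ℂ) * Cfsg.centralChar (χ : G → ℂ) (x j)
          * Cfsg.centralChar (χ : G → ℂ) (x i)⁻¹ * (χ : G → ℂ) 1 := by
      push_cast at h1 hpa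
      have h3 : ((p : ℂ) ^ a * (n : ℂ)) * (N i j : ℂ) = (p : ℂ) ^ a * ∑ χ : Cfsg.IrrCharacter G,
        (trivMult (S : Subgroup G) (χ : G → ℂ) : ℂ) * Cfsg.centralChar (χ : G → ℂ) (x j)
          * Cfsg.centralChar (χ : G → ℂ) (x i)⁻¹ * (χ : G → ℂ) 1 := h1
      field_simp
      have := mul_left_cancel₀ hpa (by rw [← h3]; ring :
        (p : ℂ) ^ a * ((n : ℂ) * (N i j : ℂ)) = (p : ℂ) ^ a * _)
      rw [← this]
      ring
    rw [h2, Finset.mul_sum, Finset.sum_div]
    apply Finset.sum_congr rfl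
    intro χ _
    rw [hcdef]
    ring
  -- the congruence
  have hωR : ∀ (χ : Cfsg.IrrCharacter G) (g : G),
      Cfsg.MemLocalRing M (Cfsg.centralChar (χ : G → ℂ) g) := fun χ g =>
    memLocalRing_of_isIntegral hM (IsIrrCharacter.isIntegral_centralChar' χ.2 g)
  let β : Type _ := {χ : Cfsg.IrrCharacter G // (Cfsg.charDegree (χ : G → ℂ)).factorization p = e}
  have hdegR : ∀ χ : β, Cfsg.MemLocalRing M (((χ : Cfsg.IrrCharacter G) : G → ℂ) 1
      / ((p ^ e : ℕ) : ℂ)) := by
    intro χ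
    rw [IsCharacter.apply_one_eq_charDegree (IsIrrCharacter.isCharacter χ.1.2)]
    apply memLocalRing_natCast_div hM hpe0
    rw [factorization_prime_pow hpp, χ.2]
  let wR : Cfsg.IrrCharacter G → G → localSubring hM := fun χ g =>
    ⟨Cfsg.centralChar (χ : G → ℂ) g, hωR χ g⟩
  let γR : β → localSubring hM := fun χ =>
    ⟨c χ * (((χ : Cfsg.IrrCharacter G) : G → ℂ) 1 / ((p ^ e : ℕ) : ℂ)),
      MemLocalRing.mul hM (hcR _) (hdegR χ)⟩
  let wF : Cfsg.IrrCharacter G → G → ResField hM := fun χ g => resMap hM (wR χ g)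
  let γF : β → ResField hM := fun χ => resMap hM (γR χ)
  have hE1 : ∀ i j : ι, (((N i j / p ^ e : ℕ)) : ResField hM)
      = ∑ χ : β, wF χ (x j) * γF χ * wF χ (x i)⁻¹ := by
    intro i j
    have h1 : (((N i j / p ^ e : ℕ)) : ResField hM)
        = resMap hM (((N i j / p ^ e : ℕ)) : localSubring hM) := by rw [map_natCast]
    rw [h1]
    simp only [wF, γF]
    simp only [← map_mul]
    rw [← map_sum, resMap_eq_iff]
    have hval : ((∑ χ : β, wR χ (x j) * γR χ * wR χ (x i)⁻¹ : localSubring hM) : ℂ)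
        = ∑ χ ∈ Finset.univ.filter (fun χ : Cfsg.IrrCharacter G =>
            (Cfsg.charDegree (χ : G → ℂ)).factorization p = e),
          c χ * Cfsg.centralChar (χ : G → ℂ) (x j)
          * Cfsg.centralChar (χ : G → ℂ) (x i)⁻¹ * ((χ : G → ℂ) 1 / ((p ^ e : ℕ) : ℂ)) := by
      rw [Finset.sum_subtype (p := fun χ : Cfsg.IrrCharacter G =>
            (Cfsg.charDegree (χ : G → ℂ)).factorization p = e)
          (Finset.univ.filter (fun χ : Cfsg.IrrCharacter G =>
            (Cfsg.charDegree (χ : G → ℂ)).factorization p = e)) (by simp)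
          (fun χ : Cfsg.IrrCharacter G => c χ * Cfsg.centralChar (χ : G → ℂ) (x j)
          * Cfsg.centralChar (χ : G → ℂ) (x i)⁻¹ * ((χ : G → ℂ) 1 / ((p ^ e : ℕ) : ℂ)))]
      rw [← Subring.subtype_apply, map_sum]
      apply Finset.sum_congr rfl
      intro χ _
      simp only [Subring.subtype_apply, Subring.coe_mul, wR, γR]
      ring
    rw [hval]
    have hsc := robinson_sum_congr hM c hcR (x j) (x i)⁻¹ e (hIdx j) (hIdx' i)
    rw [← hident i j] at hsc
    have h2 : ((((N i j / p ^ e : ℕ)) : localSubring hM) : ℂ) = (((N i j / p ^ e : ℕ)) : ℂ) := by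
      push_cast
      rfl
    rw [h2]
    exact hsc
  -- the blocks
  let 𝔅 : Type _ := {B : Set (Cfsg.IrrCharacter G) //
    Cfsg.IsPBlock M B ∧ Cfsg.IsDefectGroup p M B D}
  haveI : Fintype 𝔅 := Fintype.ofFinite _
  obtain ⟨rep, hrep⟩ : ∃ rep : 𝔅 → Cfsg.IrrCharacter G,
      ∀ B : 𝔅, B.1 = Cfsg.blockOf M ((rep B : Cfsg.IrrCharacter G) : G → ℂ) :=
    ⟨fun B => Classical.choose B.2.1, fun B => Classical.choose_spec B.2.1⟩
  have hrepD : ∀ B : 𝔅, Cfsg.IsDefectGroup p M
      (Cfsg.blockOf M ((rep B : Cfsg.IrrCharacter G) : G → ℂ)) D := by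
    intro B
    rw [← hrep B]
    exact B.2.2
  have hmem_iff : ∀ (B : 𝔅) (χ : Cfsg.IrrCharacter G), χ ∈ B.1 →
      B.1 = Cfsg.blockOf M (χ : G → ℂ) := by
    intro B χ hχ
    rw [hrep B] at hχ ⊢
    exact blockOf_eq_of_mem hM hχ
  have hwF_eq : ∀ (B : 𝔅) (χ : Cfsg.IrrCharacter G), χ ∈ B.1 → ∀ g : G,
      wF χ g = wF (rep B) g := by
    intro B χ hχ g
    rw [hrep B] at hχ
    simp only [wF]
    rw [resMap_eq_iff]
    have := MemLocalIdeal.neg (hχ g)
    rw [neg_sub] at this
    exact this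
  have hE2 : ∀ χ : β, ¬ Cfsg.IsDefectGroup p M
      (Cfsg.blockOf M (((χ : Cfsg.IrrCharacter G)) : G → ℂ)) D → ∀ i, wF χ (x i) = 0 := by
    intro χ hnot i
    by_contra hne
    apply hnot
    simp only [wF] at hne
    rw [resMap_eq_zero_iff] at hne
    obtain ⟨Q, hQ⟩ := (hxprop i).2
    refine (isDefectGroup_of_centralChar hM D (x i) Q hQ χ.1 ?_ hne).1
    rw [χ.2, he, ha, hd]
  obtain ⟨gF, hgF⟩ : ∃ gF : 𝔅 → ResField hM,
      gF = fun B => ∑ χ : β, if (χ : Cfsg.IrrCharacter G) ∈ B.1 then γF χ else 0 := ⟨_, rfl⟩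
  have hE3 : ∀ i j : ι, ∑ χ : β, wF χ (x j) * γF χ * wF χ (x i)⁻¹
      = ∑ B : 𝔅, wF (rep B) (x j) * gF B * wF (rep B) (x i)⁻¹ := by
    intro i j
    have h1 : ∀ B : 𝔅, wF (rep B) (x j) * gF B * wF (rep B) (x i)⁻¹
        = ∑ χ : β, if (χ : Cfsg.IrrCharacter G) ∈ B.1
            then wF χ (x j) * γF χ * wF χ (x i)⁻¹ else 0 := by
      intro B
      rw [hgF, Finset.mul_sum, Finset.sum_mul]
      apply Finset.sum_congr rfl
      intro χ _
      by_cases hχ : (χ : Cfsg.IrrCharacter G) ∈ B.1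
      · rw [if_pos hχ, if_pos hχ, hwF_eq B χ hχ, hwF_eq B χ hχ]
      · rw [if_neg hχ, if_neg hχ, mul_zero, zero_mul]
    rw [Finset.sum_congr rfl (fun B _ => h1 B), Finset.sum_comm]
    apply Finset.sum_congr rfl
    intro χ _
    by_cases hχD : Cfsg.IsDefectGroup p M
        (Cfsg.blockOf M (((χ : Cfsg.IrrCharacter G)) : G → ℂ)) D
    · let B₀ : 𝔅 := ⟨Cfsg.blockOf M (((χ : Cfsg.IrrCharacter G)) : G → ℂ), ⟨_, rfl⟩, hχD⟩
      rw [Finset.sum_eq_single B₀]
      · rw [if_pos]
        exact sameBlock_refl hM _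
      · intro B _ hB
        rw [if_neg]
        intro hχ
        apply hB
        apply Subtype.ext
        exact hmem_iff B χ hχ
      · intro h
        exact absurd (Finset.mem_univ _) h
    · rw [hE2 χ hχD j, zero_mul, zero_mul]
      symm
      apply Finset.sum_eq_zero
      intro B _
      rw [if_neg]
      intro hχ
      apply hχD
      rw [← hmem_iff B χ hχ]
      exact B.2.2
  -- the dual family
  let aR : 𝔅 → G → localSubring hM := fun B g =>
    ⟨Cfsg.blockCoeff (Cfsg.blockOf M ((rep B : Cfsg.IrrCharacter G) : G → ℂ)) g,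
      blockCoeff_memLocalRing hM (rep B) g⟩
  let aF : 𝔅 → G → ResField hM := fun B g => resMap hM (aR B g)
  have hxi : ∀ i, x i = Quotient.out (K i) := fun i => by rw [hxdef]
  have hE4 : ∀ B B' : 𝔅, ∑ i : ι, aF B (x i) * wF (rep B') (x i)
      = if B = B' then 1 else 0 := by
    intro B B'
    have h1 : ∑ cc : ConjClasses G,
        Cfsg.blockCoeff (Cfsg.blockOf M ((rep B : Cfsg.IrrCharacter G) : G → ℂ)) (Quotient.out cc)
          * Cfsg.centralChar ((rep B' : Cfsg.IrrCharacter G) : G → ℂ) (Quotient.out cc)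
        = if rep B' ∈ Cfsg.blockOf M ((rep B : Cfsg.IrrCharacter G) : G → ℂ) then 1 else 0 := by
      rw [← cOmega_blockMat, cOmega_eq_sum_classes
        (IsCharacter.isClassFunction (IsIrrCharacter.isCharacter (rep B').2))
        (blockMat_mem_centerAlg _)]
      apply Finset.sum_congr rfl
      intro cc _
      unfold blockMat
      rw [regMat_apply, inv_one, mul_one]
    have h2 : ∑ cc : ConjClasses G, aF B (Quotient.out cc) * wF (rep B') (Quotient.out cc)
        = if B = B' then 1 else 0 := by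
      simp only [aF, wF, ← map_mul]
      rw [← map_sum]
      have h3 : (∑ cc : ConjClasses G, aR B (Quotient.out cc) * wR (rep B') (Quotient.out cc)
          : localSubring hM) = if B = B' then 1 else 0 := by
        apply Subtype.ext
        rw [← Subring.subtype_apply, map_sum]
        simp only [Subring.subtype_apply, Subring.coe_mul, aR, wR]
        rw [h1]
        by_cases hBB : B = B'
        · rw [if_pos hBB, if_pos]
          · simp
          · rw [hBB]
            exact sameBlock_refl hM _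
        · rw [if_neg hBB, if_neg]
          · simp
          · intro hmem
            apply hBB
            apply Subtype.ext
            rw [hrep B, hrep B']
            exact blockOf_eq_of_mem hM hmem
      rw [h3]
      split_ifs <;> simp
    rw [← h2]
    simp only [hxi]
    rw [← Finset.sum_image (s := Finset.univ) (g := K)
      (f := fun cc : ConjClasses G => aF B (Quotient.out cc) * wF (rep B') (Quotient.out cc))
      (fun i _ j _ h => hKinj h)]
    apply Finset.sum_subset (Finset.subset_univ (Finset.univ.image K))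
    intro cc _ hcc
    by_contra hne
    apply hcc
    obtain ⟨hne1, hne2⟩ := mul_ne_zero_iff.mp hne
    simp only [aF, wF] at hne1 hne2
    rw [Ne, resMap_eq_zero_iff] at hne1 hne2
    obtain ⟨hreg, Q, hQ⟩ := exists_sylow_map_eq_of_coeff_of_centralChar hM D (rep B) (rep B')
      (hrepD B) (hrepD B') (Quotient.out cc) hne1 hne2
    obtain ⟨i, hi⟩ := (hK cc).mpr ⟨Quotient.out cc,
      ConjClasses.mem_carrier_iff_mk_eq.mpr (Quotient.out_eq cc), hreg, Q, hQ⟩
    rw [Finset.mem_image]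
    exact ⟨i, Finset.mem_univ _, hi⟩
  -- the diagonal entries are units
  have hE5 : ∀ B : 𝔅, gF B ≠ 0 := by
    intro B
    have hBdef : Cfsg.blockDefect p (Cfsg.blockOf M ((rep B : Cfsg.IrrCharacter G) : G → ℂ)) = d := by
      have h1 := Cfsg.Agent.S0908.result p M hM _ ⟨rep B, rfl⟩ D (hrepD B)
      rw [hDcard] at h1
      exact (Nat.pow_right_injective hpp.two_le h1).symm
    have hrepmem : rep B ∈ Cfsg.blockOf M ((rep B : Cfsg.IrrCharacter G) : G → ℂ) :=
      sameBlock_refl hM _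
    have hsInf : sInf ((fun χ : Cfsg.IrrCharacter G =>
        (Cfsg.charDegree (χ : G → ℂ)).factorization p) ''
        Cfsg.blockOf M ((rep B : Cfsg.IrrCharacter G) : G → ℂ)) = e ∧ d ≤ a := by
      have h1 := factorization_card_eq_sInf_add_defect (p := p) _ (rep B) hrepmem
      rw [hBdef, ← ha] at h1
      constructor <;> omega
    obtain ⟨T, hT⟩ : ∃ T : Cfsg.IrrCharacter G → ℂ,
        T = fun χ => c χ * ((χ : G → ℂ) 1 / ((p ^ e : ℕ) : ℂ)) := ⟨_, rfl⟩
    have hg : gF B = resMap hM (∑ χ : β, if (χ : Cfsg.IrrCharacter G) ∈ B.1 then γR χ else 0) := by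
      rw [hgF, map_sum]
      apply Finset.sum_congr rfl
      intro χ _
      split_ifs
      · rfl
      · rw [map_zero]
    rw [hg, Ne, resMap_eq_zero_iff]
    have hval : ((∑ χ : β, if (χ : Cfsg.IrrCharacter G) ∈ B.1 then γR χ else 0
        : localSubring hM) : ℂ)
        = ∑ χ ∈ Finset.univ.filter
            (fun χ : Cfsg.IrrCharacter G => χ ∈ Cfsg.blockOf M ((rep B : Cfsg.IrrCharacter G) : G → ℂ)),
          if (Cfsg.charDegree (χ : G → ℂ)).factorization p = e then T χ else 0 := by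
      rw [← Subring.subtype_apply, map_sum, Finset.sum_filter]
      have h1 : ∀ χ : Cfsg.IrrCharacter G,
          (if χ ∈ Cfsg.blockOf M ((rep B : Cfsg.IrrCharacter G) : G → ℂ)
            then (if (Cfsg.charDegree (χ : G → ℂ)).factorization p = e then T χ else 0) else 0)
          = if (Cfsg.charDegree (χ : G → ℂ)).factorization p = e
            then (if χ ∈ B.1 then T χ else 0) else 0 := by
        intro χ
        rw [hrep B]
        split_ifs <;> rfl
      rw [Finset.sum_congr rfl (fun χ _ => h1 χ), ← Finset.sum_filter]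
      rw [Finset.sum_subtype (p := fun χ : Cfsg.IrrCharacter G =>
            (Cfsg.charDegree (χ : G → ℂ)).factorization p = e)
          (Finset.univ.filter (fun χ : Cfsg.IrrCharacter G =>
            (Cfsg.charDegree (χ : G → ℂ)).factorization p = e)) (by simp)
          (fun χ : Cfsg.IrrCharacter G => if χ ∈ B.1 then T χ else 0)]
      apply Finset.sum_congr rfl
      intro χ _
      rw [Subring.subtype_apply]
      split_ifs
      · simp only [γR, hT]
      · rfl
    rw [hval]
    -- the full sum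
    have hsq := sum_sq_degree_eq_card_mul hM (rep B) (S : Subgroup G) hScard
    have hfac := factorization_sum_sq_degree hM (rep B)
    rw [hBdef, ← ha] at hfac
    obtain ⟨A, hA⟩ : ∃ A : ℕ, A = ∑ β ∈ Finset.univ.filter
        (· ∈ Cfsg.blockOf M ((rep B : Cfsg.IrrCharacter G) : G → ℂ)),
        Cfsg.charDegree (β : G → ℂ) ^ 2 := ⟨_, rfl⟩
    rw [← hA] at hsq hfac
    have hA0 : A ≠ 0 := by
      rw [hA]
      apply (Finset.sum_pos' (fun β _ => Nat.zero_le _) ⟨rep B, ?_, ?_⟩).ne'
      · rw [Finset.mem_filter]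
        exact ⟨Finset.mem_univ _, hrepmem⟩
      · exact pow_pos (IsIrrCharacter.charDegree_pos (rep B).2) 2
    have hfull : ∑ χ ∈ Finset.univ.filter
        (fun χ : Cfsg.IrrCharacter G => χ ∈ Cfsg.blockOf M ((rep B : Cfsg.IrrCharacter G) : G → ℂ)),
        T χ = (A : ℂ) / ((Nat.card G * p ^ e : ℕ) : ℂ) := by
      have h1 : (A : ℂ) = (Nat.card (S : Subgroup G) : ℂ) * ∑ β ∈ Finset.univ.filter
          (· ∈ Cfsg.blockOf M ((rep B : Cfsg.IrrCharacter G) : G → ℂ)),
          ((Cfsg.charDegree (β : G → ℂ) : ℕ) : ℂ) * (trivMult (S : Subgroup G) (β : G → ℂ) : ℂ) := by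
        rw [hsq]
        push_cast
        rfl
      rw [h1, hScard, hGn, Finset.mul_sum, Finset.sum_div]
      apply Finset.sum_congr rfl
      intro χ _
      rw [hT, hcdef]
      simp only []
      rw [IsCharacter.apply_one_eq_charDegree (IsIrrCharacter.isCharacter χ.2)]
      have hpa : ((p : ℂ) ^ a) ≠ 0 := pow_ne_zero a (by exact_mod_cast hpp.ne_zero)
      have hpe : ((p : ℂ) ^ e) ≠ 0 := pow_ne_zero e (by exact_mod_cast hpp.ne_zero)
      push_cast
      field_simp
    have hnot : ¬ Cfsg.MemLocalIdeal M ((A : ℂ) / ((Nat.card G * p ^ e : ℕ) : ℂ)) := by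
      apply not_memLocalIdeal_natCast_div hM hA0 (Nat.mul_ne_zero hG0 hpe0)
      rw [hfac, Nat.factorization_mul hG0 hpe0, Finsupp.add_apply, factorization_prime_pow hpp,
        ← ha]
      have := hsInf.2
      omega
    rw [← hfull] at hnot
    intro hr1
    apply hnot
    have hdiff : Cfsg.MemLocalIdeal M (∑ χ ∈ Finset.univ.filter
        (fun χ : Cfsg.IrrCharacter G => χ ∈ Cfsg.blockOf M ((rep B : Cfsg.IrrCharacter G) : G → ℂ)),
        (T χ - if (Cfsg.charDegree (χ : G → ℂ)).factorization p = e then T χ else 0)) := by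
      apply MemLocalIdeal.sum hM
      intro χ hχ
      rw [Finset.mem_filter] at hχ
      by_cases hdeg : (Cfsg.charDegree (χ : G → ℂ)).factorization p = e
      · rw [if_pos hdeg, sub_self]
        exact memLocalIdeal_zero hM
      · rw [if_neg hdeg, sub_zero, hT]
        apply MemLocalIdeal.mul_left hM (hcR χ)
        rw [IsCharacter.apply_one_eq_charDegree (IsIrrCharacter.isCharacter χ.2)]
        apply memLocalIdeal_natCast_div hM hpe0
        rw [factorization_prime_pow hpp]
        have h2 : e ≤ (Cfsg.charDegree (χ : G → ℂ)).factorization p := by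
          rw [← hsInf.1]
          exact Nat.sInf_le ⟨χ, hχ.2, rfl⟩
        omega
    rw [Finset.sum_sub_distrib] at hdiff
    have := MemLocalIdeal.add hM hdiff hr1
    rw [sub_add_cancel] at this
    exact this
  -- the inversion permutation
  have hσex : ∀ i : ι, ∃ i' : ι, K i' = ConjClasses.mk (x i)⁻¹ := by
    intro i
    obtain ⟨Q, hQ⟩ := (hxprop i).2
    obtain ⟨Q', hQ'⟩ := sylow_map_transport_inv D Q hQ
    apply (hK _).mpr
    refine ⟨(x i)⁻¹, ConjClasses.mem_carrier_mk, ?_, Q', hQ'⟩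
    rw [orderOf_inv]
    exact (hxprop i).1
  obtain ⟨σ₀, hσ₀⟩ : ∃ σ₀ : ι → ι, ∀ i, K (σ₀ i) = ConjClasses.mk (x i)⁻¹ :=
    ⟨fun i => (hσex i).choose, fun i => (hσex i).choose_spec⟩
  have hσinj : Function.Injective σ₀ := by
    intro i i' h
    have h1 : ConjClasses.mk (x i)⁻¹ = ConjClasses.mk (x i')⁻¹ := by
      rw [← hσ₀ i, ← hσ₀ i', h]
    rw [ConjClasses.mk_eq_mk_iff_isConj] at h1
    have h2 : IsConj (x i) (x i') := by
      obtain ⟨cc, hcc⟩ := isConj_iff.mp h1
      refine isConj_iff.mpr ⟨cc, ?_⟩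
      have h3 : cc * x i * cc⁻¹ = (cc * (x i)⁻¹ * cc⁻¹)⁻¹ := by group
      rw [h3, hcc, inv_inv]
    apply hKinj
    rw [← hxK i, ← hxK i']
    exact ConjClasses.mk_eq_mk_iff_isConj.mpr h2
  let σ : ι ≃ ι := Equiv.ofBijective σ₀ (Finite.injective_iff_bijective.mp hσinj)
  have hσw : ∀ (χ : Cfsg.IrrCharacter G) (i : ι), wF χ (x i)⁻¹ = wF χ (x (σ i)) := by
    intro χ i
    have hc : IsConj (x (σ i)) (x i)⁻¹ := by
      rw [← ConjClasses.mk_eq_mk_iff_isConj, hxK]
      exact hσ₀ i
    have h1 := centralChar_eq_of_isConj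
      (IsCharacter.isClassFunction (IsIrrCharacter.isCharacter χ.2)) hc
    simp only [wF, wR]
    congr 1
    apply Subtype.ext
    exact h1
  -- the matrices
  let V : Matrix ι 𝔅 (ResField hM) := fun i B => wF (rep B) (x i)
  let A : Matrix 𝔅 ι (ResField hM) := fun B i => aF B (x i)
  have hAV : A * V = 1 := by
    ext B B'
    rw [Matrix.mul_apply, Matrix.one_apply]
    exact hE4 B B'
  let V' : Matrix ι 𝔅 (ResField hM) := fun i B => wF (rep B) (x i)⁻¹
  let A' : Matrix 𝔅 ι (ResField hM) := fun B i => aF B (x (σ i))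
  have hA'V' : A' * V' = 1 := by
    ext B B'
    rw [Matrix.mul_apply, Matrix.one_apply, ← hE4 B B']
    simp only [A', V', hσw]
    exact Equiv.sum_comp σ (fun i => aF B (x i) * wF (rep B') (x i))
  let ΩF : Matrix ι ι (ResField hM) := Matrix.of fun i j => (((N i j / p ^ e : ℕ)) : ResField hM)
  have hΩ : ΩF = V' * Matrix.diagonal gF * Vᵀ := by
    ext i j
    have h0 : ΩF i j = (((N i j / p ^ e : ℕ)) : ResField hM) := rfl
    rw [h0, hE1, hE3, Matrix.mul_apply]
    apply Finset.sum_congr rfl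
    intro B _
    rw [Matrix.mul_diagonal, Matrix.transpose_apply]
    simp only [V, V']
    ring
  have hdiag : A' * ΩF * Aᵀ = Matrix.diagonal gF := by
    rw [hΩ]
    have h1 : Vᵀ * Aᵀ = 1 := by rw [← Matrix.transpose_mul, hAV, Matrix.transpose_one]
    calc A' * (V' * Matrix.diagonal gF * Vᵀ) * Aᵀ
        = (A' * V') * Matrix.diagonal gF * (Vᵀ * Aᵀ) := by simp only [Matrix.mul_assoc]
      _ = Matrix.diagonal gF := by rw [hA'V', h1, Matrix.one_mul, Matrix.mul_one]
  have hrank1 : (Matrix.diagonal gF).rank = Fintype.card 𝔅 := by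
    apply Matrix.rank_of_isUnit
    rw [Matrix.isUnit_iff_isUnit_det, Matrix.det_diagonal, isUnit_iff_ne_zero,
      Finset.prod_ne_zero_iff]
    intro B _
    exact hE5 B
  have hrank2 : Fintype.card 𝔅 ≤ ΩF.rank := by
    rw [← hrank1, ← hdiag]
    exact (Matrix.rank_mul_le_left _ _).trans (Matrix.rank_mul_le_right _ _)
  have hrank3 : ΩF.rank ≤ Fintype.card 𝔅 := by
    rw [hΩ, Matrix.mul_assoc]
    exact (Matrix.rank_mul_le_left _ _).trans (Matrix.rank_le_card_width _)
  haveI := charP_resField hM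
  let φ : ZMod p →+* ResField hM := ZMod.castHom (dvd_refl p) (ResField hM)
  have hmap : ΩF = (Matrix.of fun i j : ι => (((N i j / p ^ e : ℕ)) : ZMod p)).map φ := by
    ext i j
    simp [ΩF, map_natCast]
  rw [Nat.card_eq_fintype_card]
  have hfin : (Matrix.of fun i j : ι => ((Nat.card {yz : G × G // yz.1 ∈ (K i).carrier ∧
          yz.2 ∈ (K j).carrier ∧ yz.2 * yz.1⁻¹ ∈ (S : Subgroup G)} / p ^ e : ℕ) : ZMod p))
      = Matrix.of fun i j : ι => (((N i j / p ^ e : ℕ)) : ZMod p) := by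
    rw [hNdef]
  rw [hfin, ← rank_map_field φ, ← hmap]
  exact le_antisymm hrank2 hrank3

end count

end Cfsg.Agent.Lib.Helper6
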