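import Mathlib
import Cfsg.Prelude.Def_Blocks
import Cfsg.Agent.Lib.Helper6.GreenPL
import Cfsg.Agent.Lib.Helper6.BlkMinMax2
import Cfsg.Agent.Lib.Helper4.ConjClass
import Cfsg.Agent.S4443

set_option autoImplicit false
set_option linter.unusedSectionVars false
open Cfsg

namespace Cfsg.Agent.Lib.Helper6

section sylowdefcount

variable {H : Type*} [Group H] [Finite H]
variable {p : ℕ} [Fact p.Prime]

/-- for a normal Sylow subgroup `D`: a class has "defect group" `D` iff it consists of
`p`-regular elements centralizing `D` -/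
theorem class_defect_normal_sylow_iff (D : Sylow p H) [hn : (D : Subgroup H).Normal]
    (C : ConjClasses H) :
    (∃ x ∈ C.carrier, ¬ p ∣ orderOf x ∧ ∃ Q : Sylow p (Subgroup.centralizer ({x} : Set H)),
      (Q : Subgroup (Subgroup.centralizer ({x} : Set H))).map
        (Subgroup.centralizer ({x} : Set H)).subtype = (D : Subgroup H)) ↔
    (∀ n : H, ConjClasses.mk n = C → ¬ p ∣ orderOf n ∧
      n ∈ Subgroup.centralizer ((D : Subgroup H) : Set H)) := by
  constructor
  · rintro ⟨x, hxC, hreg, Q, hQ⟩ n hn'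
    rw [ConjClasses.mem_carrier_iff_mk_eq] at hxC
    rw [← hxC, ConjClasses.mk_eq_mk_iff_isConj, isConj_iff] at hn'
    obtain ⟨c, hc⟩ := hn'
    have hc' : n = c⁻¹ * x * c := by rw [← hc]; group
    constructor
    · rw [hc']
      have : orderOf (c⁻¹ * x * c) = orderOf x := by
        have := orderOf_injective (MulAut.conj c⁻¹).toMonoidHom (MulAut.conj c⁻¹).injective x
        simpa [MulAut.conj_apply] using this
      rwa [this]
    · rw [Subgroup.mem_centralizer_iff]
      intro δ hδ
      -- c δ c⁻¹ ∈ D commutes with x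
      have h1 : c * δ * c⁻¹ ∈ (D : Subgroup H) := hn.conj_mem δ hδ c
      rw [← hQ] at h1
      have h2 := sylow_map_le Q h1
      rw [Subgroup.mem_centralizer_singleton_iff] at h2
      rw [hc']
      have : c⁻¹ * (x * (c * δ * c⁻¹)) * c = c⁻¹ * ((c * δ * c⁻¹) * x) * c := by rw [h2]
      have e1 : c⁻¹ * (x * (c * δ * c⁻¹)) * c = c⁻¹ * x * c * δ := by group
      have e2 : c⁻¹ * ((c * δ * c⁻¹) * x) * c = δ * (c⁻¹ * x * c) := by group
      rw [← e1, this, e2]
  · intro h
    obtain ⟨x, hx⟩ : ∃ x, ConjClasses.mk x = C := Quotient.exists_rep C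
    obtain ⟨hreg, hcent⟩ := h x hx
    refine ⟨x, ConjClasses.mem_carrier_iff_mk_eq.mpr hx, hreg, ?_⟩
    have hDx : (D : Subgroup H) ≤ Subgroup.centralizer ({x} : Set H) := by
      intro δ hδ
      rw [Subgroup.mem_centralizer_singleton_iff]
      rw [Subgroup.mem_centralizer_iff] at hcent
      exact hcent δ hδ
    obtain ⟨Q, hQ⟩ := exists_sylow_map_ge D.2 hDx
    refine ⟨Q, ?_⟩
    symm
    apply Subgroup.eq_of_le_of_card_ge hQ
    rw [Subgroup.card_map_of_injective (Subgroup.subtype_injective _), Sylow.card_eq_multiplicity,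
      Sylow.card_eq_multiplicity]
    apply Nat.pow_le_pow_right (Fact.out : p.Prime).pos
    exact (Nat.factorization_le_iff_dvd Nat.card_pos.ne' Nat.card_pos.ne').mpr
      (Subgroup.card_subgroup_dvd_card _) p

/-- two `p`-regular elements centralizing the `p`-group `D` which differ by an element of `D`
are equal -/
theorem eq_of_mul_inv_mem_of_centralize (D : Subgroup H) (hD : IsPGroup p D) {y z : H}
    (hy : ¬ p ∣ orderOf y) (hz : ¬ p ∣ orderOf z)
    (hyD : y ∈ Subgroup.centralizer (D : Set H)) (h : z * y⁻¹ ∈ D) : z = y := by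
  classical
  haveI : Fintype H := Fintype.ofFinite H
  have hp : p.Prime := Fact.out
  by_contra hne
  apply hz
  obtain ⟨u, hu⟩ : ∃ u, u = z * y⁻¹ := ⟨_, rfl⟩
  rw [← hu] at h
  have hzu : z = y * u := by
    rw [Subgroup.mem_centralizer_iff] at hyD
    rw [← hyD u h, hu]
    group
  have hu1 : u ≠ 1 := by
    intro h1
    apply hne
    rw [hzu, h1, mul_one]
  obtain ⟨k, hk⟩ := (IsPGroup.iff_orderOf.mp hD) ⟨u, h⟩
  rw [Subgroup.orderOf_mk] at hk
  rw [hzu]
  apply dvd_orderOf_mul_of_commute hp _ hy hk hu1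
  rw [Subgroup.mem_centralizer_iff] at hyD
  exact (hyD u h).symm

theorem card_blocks_normal_sylow (M : Ideal Cfsg.AlgInt) (hM : Cfsg.IsPModular p M) (D : Sylow p H)
    [hn : (D : Subgroup H).Normal] :
    Nat.card {b : Set (Cfsg.IrrCharacter H) // Cfsg.IsPBlock M b ∧
        Cfsg.IsDefectGroup p M b (D : Subgroup H)}
      = Nat.card {C : ConjClasses H // ∀ n : H, ConjClasses.mk n = C → ¬ p ∣ orderOf n ∧
          n ∈ Subgroup.centralizer ((D : Subgroup H) : Set H)} := by
  classical
  haveI : Fintype H := Fintype.ofFinite H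
  have hp : p.Prime := Fact.out
  obtain ⟨Pr, hPr⟩ : ∃ Pr : ConjClasses H → Prop, Pr = fun C =>
      ∃ x ∈ C.carrier, ¬ p ∣ orderOf x ∧ ∃ Q : Sylow p (Subgroup.centralizer ({x} : Set H)),
      (Q : Subgroup (Subgroup.centralizer ({x} : Set H))).map
        (Subgroup.centralizer ({x} : Set H)).subtype = (D : Subgroup H) := ⟨_, rfl⟩
  have hPri : ∀ C, Pr C ↔ ∃ x ∈ C.carrier, ¬ p ∣ orderOf x ∧
      ∃ Q : Sylow p (Subgroup.centralizer ({x} : Set H)),
      (Q : Subgroup (Subgroup.centralizer ({x} : Set H))).map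
        (Subgroup.centralizer ({x} : Set H)).subtype = (D : Subgroup H) := by
    intro C
    rw [hPr]
  haveI : Fintype {C : ConjClasses H // Pr C} := Fintype.ofFinite _
  have hK : ∀ C : ConjClasses H, (∃ i : {C : ConjClasses H // Pr C}, i.1 = C) ↔
      ∃ x ∈ C.carrier, ¬ p ∣ orderOf x ∧ ∃ Q : Sylow p (Subgroup.centralizer ({x} : Set H)),
      (Q : Subgroup (Subgroup.centralizer ({x} : Set H))).map
        (Subgroup.centralizer ({x} : Set H)).subtype = (D : Subgroup H) := by
    intro C
    constructor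
    · rintro ⟨i, rfl⟩
      exact (hPri _).mp i.2
    · intro h
      exact ⟨⟨C, (hPri _).mpr h⟩, rfl⟩
  have hrob := Cfsg.Agent.S4443.result p M hM (D : Subgroup H) D.2 D
    (fun i : {C : ConjClasses H // Pr C} => i.1) Subtype.val_injective hK
  rw [hrob]
  have hexp : (Nat.card H).factorization p - (Nat.card (D : Subgroup H)).factorization p = 0 := by
    rw [Sylow.card_eq_multiplicity, hp.factorization_pow, Finsupp.single_eq_same, Nat.sub_self]
  rw [hexp, pow_zero]
  simp only [Nat.div_one]
  -- the properties of the classes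
  have hprop : ∀ i : {C : ConjClasses H // Pr C}, ∀ n : H, n ∈ i.1.carrier → ¬ p ∣ orderOf n ∧
      n ∈ Subgroup.centralizer ((D : Subgroup H) : Set H) := by
    intro i n hn'
    exact (class_defect_normal_sylow_iff D i.1).mp ((hPri _).mp i.2) n
      (ConjClasses.mem_carrier_iff_mk_eq.mp hn')
  -- the matrix is diagonal
  have hmat : (Matrix.of fun i j : {C : ConjClasses H // Pr C} =>
      ((Nat.card {yz : H × H // yz.1 ∈ i.1.carrier ∧ yz.2 ∈ j.1.carrier ∧
        yz.2 * yz.1⁻¹ ∈ (D : Subgroup H)} : ℕ) : ZMod p))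
      = Matrix.diagonal (fun i : {C : ConjClasses H // Pr C} =>
        ((Nat.card i.1.carrier : ℕ) : ZMod p)) := by
    ext i j
    rw [Matrix.of_apply, Matrix.diagonal_apply]
    by_cases hij : i = j
    · rw [if_pos hij]
      subst hij
      congr 1
      apply Nat.card_congr
      exact
        { toFun := fun yz => ⟨yz.1.1, yz.2.1⟩
          invFun := fun y => ⟨(y.1, y.1), y.2, y.2, by simp⟩
          left_inv := by
            rintro ⟨⟨y, z⟩, hy, hz, hyz⟩
            have : z = y := eq_of_mul_inv_mem_of_centralize (D : Subgroup H) D.2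
              (hprop i y hy).1 (hprop i z hz).1 (hprop i y hy).2 hyz
            subst this
            rfl
          right_inv := fun _ => rfl }
    · rw [if_neg hij]
      have hemp : IsEmpty {yz : H × H // yz.1 ∈ i.1.carrier ∧ yz.2 ∈ j.1.carrier ∧
          yz.2 * yz.1⁻¹ ∈ (D : Subgroup H)} := by
        constructor
        rintro ⟨⟨y, z⟩, hy, hz, hyz⟩
        apply hij
        have : z = y := eq_of_mul_inv_mem_of_centralize (D : Subgroup H) D.2
          (hprop i y hy).1 (hprop j z hz).1 (hprop i y hy).2 hyz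
        simp only at hy hz
        rw [this] at hz
        apply Subtype.ext
        rw [← ConjClasses.mem_carrier_iff_mk_eq.mp hy, ← ConjClasses.mem_carrier_iff_mk_eq.mp hz]
      rw [Nat.card_of_isEmpty, Nat.cast_zero]
  rw [hmat, Matrix.rank_diagonal]
  -- all diagonal entries are nonzero
  have hnz : ∀ i : {C : ConjClasses H // Pr C}, ((Nat.card i.1.carrier : ℕ) : ZMod p) ≠ 0 := by
    intro i
    rw [Ne, ZMod.natCast_eq_zero_iff]
    intro hdvd
    obtain ⟨x, hx⟩ : ∃ x, ConjClasses.mk x = i.1 := Quotient.exists_rep i.1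
    have hxc := (hprop i x (ConjClasses.mem_carrier_iff_mk_eq.mpr hx)).2
    have hDx : (D : Subgroup H) ≤ Subgroup.centralizer ({x} : Set H) := by
      intro δ hδ
      rw [Subgroup.mem_centralizer_singleton_iff]
      rw [Subgroup.mem_centralizer_iff] at hxc
      exact hxc δ hδ
    have h1 := Cfsg.Agent.Lib.Helper4.card_carrier_mul_card_centralizer x
    rw [hx] at h1
    obtain ⟨a, ha⟩ : ∃ a, a = (Nat.card H).factorization p := ⟨_, rfl⟩
    have h2 : p ^ a ∣ Nat.card (Subgroup.centralizer ({x} : Set H)) := by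
      rw [ha, ← Sylow.card_eq_multiplicity D]
      exact Subgroup.card_dvd_of_le hDx
    have h3 : p ^ (a + 1) ∣ Nat.card H := by
      rw [← h1, pow_succ']
      exact mul_dvd_mul hdvd h2
    have h4 := (hp.pow_dvd_iff_le_factorization Nat.card_pos.ne').mp h3
    omega
  rw [Fintype.card_congr (Equiv.subtypeUnivEquiv hnz), ← Nat.card_eq_fintype_card]
  apply Nat.card_congr
  apply Equiv.subtypeEquivRight
  intro C
  rw [hPri]
  exact class_defect_normal_sylow_iff D C

end sylowdefcount

end Cfsg.Agent.Lib.Helper6
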