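import Mathlib
import Cfsg.Prelude.Def_Blocks
import Cfsg.Agent.Lib.Helper6.SylowDefCount
import Cfsg.Agent.Lib.Helper6.BlkFirstMain
import Cfsg.Agent.Lib.Helper6.BlkOrthFull

set_option autoImplicit false
set_option linter.unusedSectionVars false
open Cfsg

namespace Cfsg.Agent.Lib.Helper6

section sylowdefcount2

variable {G : Type*} [Group G] [Fintype G] [DecidableEq G]
variable {p : ℕ} [Fact p.Prime]

/-- the first main theorem as an equality of cardinalities -/
theorem card_blocks_firstMain (M : Ideal Cfsg.AlgInt) (hM : Cfsg.IsPModular p M) (D : Subgroup G)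
    (hD : IsPGroup p D) [Fintype (Subgroup.normalizer (D : Set G))] :
    Nat.card {B : Set (Cfsg.IrrCharacter G) // Cfsg.IsPBlock M B ∧ Cfsg.IsDefectGroup p M B D}
      = Nat.card {b : Set (Cfsg.IrrCharacter (Subgroup.normalizer (D : Set G))) //
          Cfsg.IsPBlock M b ∧
          Cfsg.IsDefectGroup p M b (D.subgroupOf (Subgroup.normalizer (D : Set G)))} := by
  classical
  symm
  have hex : ∀ b : {b : Set (Cfsg.IrrCharacter (Subgroup.normalizer (D : Set G))) //
      Cfsg.IsPBlock M b ∧
      Cfsg.IsDefectGroup p M b (D.subgroupOf (Subgroup.normalizer (D : Set G)))},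
      ∃ B : Set (Cfsg.IrrCharacter G), Cfsg.IsPBlock M B ∧ Cfsg.IsDefectGroup p M B D ∧
        Cfsg.IsInducedBlock M (Subgroup.normalizer (D : Set G)) b.1 B :=
    fun b => firstMain_induced hM D hD b.1 b.2.1 b.2.2
  choose f hf1 hf2 hf3 using hex
  apply Nat.card_eq_of_bijective (fun b => (⟨f b, hf1 b, hf2 b⟩ :
    {B : Set (Cfsg.IrrCharacter G) // Cfsg.IsPBlock M B ∧ Cfsg.IsDefectGroup p M B D}))
  constructor
  · intro b₁ b₂ h
    have h' : f b₁ = f b₂ := congrArg Subtype.val h
    apply Subtype.ext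
    have h3 := hf3 b₂
    rw [← h'] at h3
    exact firstMain_unique hM D hD (f b₁) b₁.1 b₂.1 b₁.2.2 (hf3 b₁) h3
  · rintro ⟨B, hB, hBD⟩
    obtain ⟨b, hb, hbD, hind⟩ := firstMain_exists hM D hD B hB hBD
    refine ⟨⟨b, hb, hbD⟩, ?_⟩
    apply Subtype.ext
    exact IsInducedBlock.unique _ hM (hf3 ⟨b, hb, hbD⟩) hind

end sylowdefcount2

/-- the number of blocks with a Sylow defect group -/
theorem card_blocks_sylow_defect {G : Type*} [Group G] [Finite G] (p : ℕ) [Fact p.Prime]
    (M : Ideal Cfsg.AlgInt) (hM : Cfsg.IsPModular p M) (P : Sylow p G) :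
    Nat.card {B : Set (Cfsg.IrrCharacter G) // Cfsg.IsPBlock M B ∧
        Cfsg.IsDefectGroup p M B (P : Subgroup G)}
      = Nat.card {C : ConjClasses (Subgroup.normalizer ((P : Subgroup G) : Set G)) //
          ∀ n : Subgroup.normalizer ((P : Subgroup G) : Set G), ConjClasses.mk n = C →
            ¬ p ∣ orderOf n ∧ (n : G) ∈ Subgroup.centralizer ((P : Subgroup G) : Set G)} := by
  classical
  haveI : Fintype G := Fintype.ofFinite G
  haveI : Fintype (Subgroup.normalizer ((P : Subgroup G) : Set G)) := Fintype.ofFinite _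
  rw [card_blocks_firstMain M hM (P : Subgroup G) P.2]
  have hPN : (P : Subgroup G) ≤ Subgroup.normalizer ((P : Subgroup G) : Set G) :=
    Subgroup.le_normalizer
  obtain ⟨PN, hPNdef⟩ : ∃ PN : Sylow p (Subgroup.normalizer ((P : Subgroup G) : Set G)),
      PN = P.subtype hPN := ⟨_, rfl⟩
  have hcoe : (PN : Subgroup (Subgroup.normalizer ((P : Subgroup G) : Set G)))
      = (P : Subgroup G).subgroupOf (Subgroup.normalizer ((P : Subgroup G) : Set G)) := by
    rw [hPNdef, Sylow.coe_subtype]
  haveI hn : (PN : Subgroup (Subgroup.normalizer ((P : Subgroup G) : Set G))).Normal := by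
    rw [hcoe]
    exact subgroupOf_normalizer_normal _
  have h1 := card_blocks_normal_sylow M hM PN
  rw [hcoe] at h1
  rw [h1]
  apply Nat.card_congr
  apply Equiv.subtypeEquivRight
  intro C
  apply forall_congr'
  intro n
  apply imp_congr_right
  intro _
  apply and_congr_right
  intro _
  rw [Subgroup.mem_centralizer_iff, Subgroup.mem_centralizer_iff]
  constructor
  · intro h δ hδ
    have := h ⟨δ, hPN hδ⟩ (by rw [SetLike.mem_coe, Subgroup.mem_subgroupOf]; exact hδ)
    exact congrArg Subtype.val this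
  · intro h δ hδ
    rw [SetLike.mem_coe, Subgroup.mem_subgroupOf] at hδ
    apply Subtype.ext
    exact h (δ : G) hδ

end Cfsg.Agent.Lib.Helper6
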