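import Mathlib

set_option autoImplicit false

/-!
Farm STSL (statement S2401): groups with Steinberg generators of type `A` over an index type `I`
(the Steinberg group `St_I(K)` and its subgroups), common definitions.
-/

namespace Cfsg.Agent.Lib.Helper6.StSL

open Matrix

/-- A group `Γ` with Steinberg generators `x i j t` (`i ≠ j`) of type `A` over the index type `I`,
satisfying Steinberg's relations (R1), (R2), together with a homomorphism to `SL_I(K)` mapping
`x i j t` to the transvection `1 + t E_ij`. The values `x i i t` are irrelevant. -/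
structure StA (I : Type*) [DecidableEq I] [Fintype I] (K : Type*) [Field K] (Γ : Type*)
    [Group Γ] where
  x : I → I → K → Γ
  x_add : ∀ i j : I, i ≠ j → ∀ t u : K, x i j t * x i j u = x i j (t + u)
  comm_ne : ∀ i j k l : I, i ≠ j → k ≠ l → i ≠ l → j ≠ k → ∀ t u : K,
    x i j t * x k l u = x k l u * x i j t
  comm_eq : ∀ i j l : I, i ≠ j → j ≠ l → i ≠ l → ∀ t u : K,
    x i j t * x j l u * (x i j t)⁻¹ * (x j l u)⁻¹ = x i l (t * u)
  π : Γ →* Matrix.SpecialLinearGroup I K
  π_x : ∀ i j : I, i ≠ j → ∀ t : K,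
    ((π (x i j t) : Matrix.SpecialLinearGroup I K) : Matrix I I K) = Matrix.transvection i j t

variable {I : Type*} [DecidableEq I] [Fintype I] {K : Type*} [Field K] {Γ : Type*} [Group Γ]

namespace StA

variable (S : StA I K Γ)

/-- `w_ij(t) = x_ij(t) x_ji(-t⁻¹) x_ij(t)` -/
def w (i j : I) (t : K) : Γ := S.x i j t * S.x j i (-t⁻¹) * S.x i j t

/-- `h_ij(t) = w_ij(t) w_ij(-1)` -/
def h (i j : I) (t : K) : Γ := S.w i j t * S.w i j (-1)

/-- the subgroup generated by the `x i j t` with `i, j ∈ J` -/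
def sub (J : Finset I) : Subgroup Γ :=
  Subgroup.closure {g | ∃ (i j : I) (t : K), i ∈ J ∧ j ∈ J ∧ i ≠ j ∧ g = S.x i j t}

theorem x_mem_sub {J : Finset I} {i j : I} (hi : i ∈ J) (hj : j ∈ J) (hij : i ≠ j) (t : K) :
    S.x i j t ∈ S.sub J :=
  Subgroup.subset_closure ⟨i, j, t, hi, hj, hij, rfl⟩

theorem sub_mono {J J' : Finset I} (h : J ⊆ J') : S.sub J ≤ S.sub J' := by
  apply Subgroup.closure_mono
  rintro g ⟨i, j, t, hi, hj, hij, rfl⟩
  exact ⟨i, j, t, h hi, h hj, hij, rfl⟩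

theorem x_zero {i j : I} (hij : i ≠ j) : S.x i j 0 = 1 := by
  have := S.x_add i j hij 0 0
  rw [add_zero] at this
  exact mul_eq_left.1 this

theorem x_neg {i j : I} (hij : i ≠ j) (t : K) : S.x i j (-t) = (S.x i j t)⁻¹ := by
  rw [eq_inv_iff_mul_eq_one, S.x_add i j hij, neg_add_cancel, S.x_zero hij]

theorem x_inv {i j : I} (hij : i ≠ j) (t : K) : (S.x i j t)⁻¹ = S.x i j (-t) :=
  (S.x_neg hij t).symm

/-- (R2b) as a rewriting rule: `x_ij(t) x_jl(u) = x_il(tu) x_jl(u) x_ij(t)` -/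
theorem x_mul_x {i j l : I} (hij : i ≠ j) (hjl : j ≠ l) (hil : i ≠ l) (t u : K) :
    S.x i j t * S.x j l u = S.x i l (t * u) * S.x j l u * S.x i j t := by
  rw [← S.comm_eq i j l hij hjl hil t u]
  group

/-- `x_jl(u) x_ij(t) = x_il(-tu) x_ij(t) x_jl(u)` -/
theorem x_mul_x' {i j l : I} (hij : i ≠ j) (hjl : j ≠ l) (hil : i ≠ l) (t u : K) :
    S.x j l u * S.x i j t = S.x i l (-(t * u)) * S.x i j t * S.x j l u := by
  rw [S.x_neg hil, ← S.comm_eq i j l hij hjl hil t u]
  group

theorem w_mem_sub {J : Finset I} {i j : I} (hi : i ∈ J) (hj : j ∈ J) (hij : i ≠ j) (t : K) :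
    S.w i j t ∈ S.sub J :=
  mul_mem (mul_mem (S.x_mem_sub hi hj hij t) (S.x_mem_sub hj hi hij.symm _))
    (S.x_mem_sub hi hj hij t)

theorem h_mem_sub {J : Finset I} {i j : I} (hi : i ∈ J) (hj : j ∈ J) (hij : i ≠ j) (t : K) :
    S.h i j t ∈ S.sub J :=
  mul_mem (S.w_mem_sub hi hj hij t) (S.w_mem_sub hi hj hij _)

end StA

/-- the constants of the monomial matrix `w_ij(t)`: `w e_k = wc i j t k • e_(swap i j k)` -/
def wc (i j : I) (t : K) (k : I) : K := if k = i then -t⁻¹ else if k = j then t else 1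

/-- the diagonal entries of `h_ij(t)` -/
def chi (i j : I) (t : K) (k : I) : K := if k = i then t else if k = j then t⁻¹ else 1

end Cfsg.Agent.Lib.Helper6.StSL
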