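import Mathlib
import Cfsg.Agent.Lib.Helper6.SecondOrth
import Cfsg.Agent.Lib.Helper6.Linear
import Cfsg.Agent.Lib.Helper6.ClassMult
import Cfsg.Agent.Lib.Helper6.Constituent
import Cfsg.Agent.Lib.Helper6.Mult

set_option autoImplicit false
set_option linter.style.haveILetI false
set_option linter.unusedSectionVars false

namespace Cfsg.Agent.Lib.Helper6.MulCop

open scoped ComplexConjugate

variable {G : Type*} [Group G] [Finite G]

/-- A linear character has values of norm one. -/
theorem normSq_linear {χ : G → ℂ} (hχ : Cfsg.IsCharacter G χ) (h1 : χ 1 = 1) (g : G) :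
    Complex.normSq (χ g) = 1 := by
  have hinv : χ g⁻¹ = conj (χ g) := by
    obtain ⟨n, ρ, rfl⟩ := hχ
    exact character_inv ρ g
  have hmul : χ g * χ g⁻¹ = 1 := by
    rw [← IsCharacter.mul_of_apply_one_eq_one hχ h1, mul_inv_cancel, h1]
  rw [hinv, Complex.mul_conj] at hmul
  exact_mod_cast hmul

/-- Second orthogonality, split into linear and nonlinear characters. -/
theorem index_add_sum_normSq [Fintype (Cfsg.IrrCharacter G)]
    [DecidablePred (fun χ : Cfsg.IrrCharacter G => (χ : G → ℂ) 1 = 1)] (g : G) :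
    ((commutator G).index : ℝ) +
      ∑ χ ∈ Finset.univ.filter (fun χ : Cfsg.IrrCharacter G => ¬ (χ : G → ℂ) 1 = 1),
        Complex.normSq ((χ : G → ℂ) g)
      = (Nat.card (Subgroup.centralizer ({g} : Set G)) : ℝ) := by
  haveI : Fintype G := Fintype.ofFinite G
  have h := (sum_irr_mul_conj g g).1 (IsConj.refl g)
  have h2 : ∑ χ : Cfsg.IrrCharacter G, Complex.normSq ((χ : G → ℂ) g)
      = (Nat.card (Subgroup.centralizer ({g} : Set G)) : ℝ) := by
    have h3 : ((∑ χ : Cfsg.IrrCharacter G, Complex.normSq ((χ : G → ℂ) g) : ℝ) : ℂ)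
        = ((Nat.card (Subgroup.centralizer ({g} : Set G)) : ℝ) : ℂ) := by
      push_cast
      rw [← h]
      apply Finset.sum_congr rfl
      intro χ _
      rw [Complex.mul_conj]
    exact_mod_cast h3
  rw [← Finset.sum_filter_add_sum_filter_not Finset.univ
    (fun χ : Cfsg.IrrCharacter G => (χ : G → ℂ) 1 = 1)] at h2
  have h4 : ∑ χ ∈ Finset.univ.filter (fun χ : Cfsg.IrrCharacter G => (χ : G → ℂ) 1 = 1),
      Complex.normSq ((χ : G → ℂ) g) = ((commutator G).index : ℝ) := by
    have h5 : ∀ χ ∈ Finset.univ.filter (fun χ : Cfsg.IrrCharacter G => (χ : G → ℂ) 1 = 1),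
        Complex.normSq ((χ : G → ℂ) g) = 1 := by
      intro χ hχ
      rw [Finset.mem_filter] at hχ
      exact normSq_linear (IsIrrCharacter.isCharacter χ.2) hχ.2 g
    rw [Finset.sum_congr rfl h5, Finset.sum_const, nsmul_eq_mul, mul_one,
      ← card_linear_characters (G := G), Nat.card_eq_fintype_card, Fintype.card_subtype]
  rw [h4] at h2
  exact h2

/-- If all nonlinear irreducible characters vanish at `g`, the centralizer of `g` has order
`|G : G'|`. -/
theorem card_centralizer_eq_index_of_vanish (g : G)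
    (h : ∀ χ : Cfsg.IrrCharacter G, (χ : G → ℂ) 1 ≠ 1 → (χ : G → ℂ) g = 0) :
    Nat.card (Subgroup.centralizer ({g} : Set G)) = (commutator G).index := by
  classical
  haveI : Fintype (Cfsg.IrrCharacter G) := Fintype.ofFinite _
  have h1 := index_add_sum_normSq g
  rw [Finset.sum_eq_zero, add_zero] at h1
  · exact_mod_cast h1.symm
  · intro χ hχ
    rw [Finset.mem_filter] at hχ
    rw [h χ hχ.2, map_zero]

/-- If the centralizer of `g` has order at most `|G : G'|`, all nonlinear irreducible characters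
vanish at `g`. -/
theorem vanish_of_card_centralizer_le (g : G)
    (h : Nat.card (Subgroup.centralizer ({g} : Set G)) ≤ (commutator G).index)
    (χ : Cfsg.IrrCharacter G) (hχ : (χ : G → ℂ) 1 ≠ 1) : (χ : G → ℂ) g = 0 := by
  classical
  haveI : Fintype (Cfsg.IrrCharacter G) := Fintype.ofFinite _
  have h1 := index_add_sum_normSq g
  have h2 : (Nat.card (Subgroup.centralizer ({g} : Set G)) : ℝ) ≤ ((commutator G).index : ℝ) := by
    exact_mod_cast h
  have h3 : ∑ χ ∈ Finset.univ.filter (fun χ : Cfsg.IrrCharacter G => ¬ (χ : G → ℂ) 1 = 1),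
        Complex.normSq ((χ : G → ℂ) g) ≤ 0 := by linarith
  have h4 : ∀ χ ∈ Finset.univ.filter (fun χ : Cfsg.IrrCharacter G => ¬ (χ : G → ℂ) 1 = 1),
      0 ≤ Complex.normSq ((χ : G → ℂ) g) := fun χ _ => Complex.normSq_nonneg _
  have h5 := (Finset.sum_eq_zero_iff_of_nonneg h4).mp (le_antisymm h3 (Finset.sum_nonneg h4))
  have h6 := h5 χ (by rw [Finset.mem_filter]; exact ⟨Finset.mem_univ _, hχ⟩)
  exact Complex.normSq_eq_zero.mp h6

theorem centralizer_one_eq_top : Subgroup.centralizer ({1} : Set G) = ⊤ := by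
  ext x
  simp [Subgroup.mem_centralizer_singleton_iff]

/-- In an abelian group all irreducible characters are linear. -/
theorem apply_one_eq_one_of_comm (hc : IsMulCommutative G) (χ : Cfsg.IrrCharacter G) :
    (χ : G → ℂ) 1 = 1 := by
  by_contra hne
  have hbot : commutator G = ⊥ := by
    rw [commutator_def, Subgroup.commutator_eq_bot_iff_le_centralizer]
    intro x _
    rw [Subgroup.mem_centralizer_iff]
    intro y _
    exact mul_comm' y x
  have h1 : Nat.card (Subgroup.centralizer ({1} : Set G)) ≤ (commutator G).index := by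
    rw [hbot, Subgroup.index_bot]
    exact Subgroup.card_le_card_group _
  exact IsIrrCharacter.apply_one_ne_zero χ.2 (vanish_of_card_centralizer_le 1 h1 χ hne)

/-- A nonabelian group has a nonlinear irreducible character. -/
theorem exists_nonlinear (hc : ¬ IsMulCommutative G) :
    ∃ χ : Cfsg.IrrCharacter G, (χ : G → ℂ) 1 ≠ 1 := by
  by_contra hall
  push Not at hall
  apply hc
  have h1 := card_centralizer_eq_index_of_vanish (G := G) 1 (fun χ hχ => absurd (hall χ) hχ)
  rw [centralizer_one_eq_top, Subgroup.card_top] at h1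
  have h2 := Subgroup.card_mul_index (commutator G)
  rw [← h1] at h2
  have h3 : Nat.card (commutator G) = 1 := by
    have hpos : 0 < Nat.card G := Nat.card_pos
    exact Nat.eq_of_mul_eq_mul_right hpos (by rw [h2, one_mul])
  have hbot : commutator G = ⊥ := Subgroup.card_eq_one.mp h3
  refine ⟨⟨fun a b => ?_⟩⟩
  have hmem := Subgroup.commutator_mem_commutator (H₁ := (⊤ : Subgroup G)) (H₂ := ⊤)
    (Subgroup.mem_top a) (Subgroup.mem_top b)
  rw [← commutator_def, hbot, Subgroup.mem_bot, commutatorElement_eq_one_iff_mul_comm] at hmem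
  exact hmem

/-- Key consequence of the class-sum formula: if `χ` is a nonlinear irreducible character with
`χ (g y g⁻¹ x) = χ y χ x` for all `g`, then `χ y χ x = 0`. -/
theorem mul_eq_zero_of_sum {χ : G → ℂ} (hχ : Cfsg.IsIrrCharacter G χ) (h1 : χ 1 ≠ 1) (x y : G)
    (h : ∀ g : G, χ (g * y * g⁻¹ * x) = χ y * χ x) : χ y * χ x = 0 := by
  haveI : Fintype G := Fintype.ofFinite G
  have h2 := IsIrrCharacter.sum_conj_mul hχ y x
  rw [Finset.sum_congr rfl (fun g _ => h g), Finset.sum_const, Finset.card_univ, nsmul_eq_mul,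
    ← Nat.card_eq_fintype_card] at h2
  have hN : (Nat.card G : ℂ) ≠ 0 := by
    have : 0 < Nat.card G := Nat.card_pos
    exact_mod_cast this.ne'
  have hd : χ 1 ≠ 0 := IsIrrCharacter.apply_one_ne_zero hχ
  have h3 : (χ y * χ x) * (χ 1 - 1) = 0 := by
    field_simp at h2
    linear_combination h2
  rcases mul_eq_zero.mp h3 with h4 | h4
  · exact h4
  · exact absurd (sub_eq_zero.mp h4) h1

/-- If a character vanishes on the nonidentity elements of a subgroup `R`, then `|R|` divides its
degree. -/
theorem exists_nat_mul_card_of_vanish {χ : G → ℂ} (hχ : Cfsg.IsCharacter G χ) (R : Subgroup G)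
    (hv : ∀ u ∈ R, u ≠ 1 → χ u = 0) : ∃ n : ℕ, χ 1 = (n : ℂ) * (Nat.card R : ℂ) := by
  haveI : Fintype R := Fintype.ofFinite R
  have hres := IsCharacter.restrict R hχ
  obtain ⟨n, hn⟩ := IsCharacter.classInner_nat hres (isCharacter_one (G := R))
  refine ⟨n, ?_⟩
  unfold Cfsg.classInner at hn
  have hsum : ∑ r : R, χ (r : G) * conj ((1 : ℂ)) = χ 1 := by
    rw [Finset.sum_eq_single (1 : R)]
    · simp
    · intro r _ hr
      have hr' : (r : G) ≠ 1 := fun h => hr (Subtype.ext h)
      rw [hv r r.2 hr', zero_mul]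
    · intro h
      exact absurd (Finset.mem_univ _) h
  rw [hsum] at hn
  have hR : (Nat.card R : ℂ) ≠ 0 := by
    have : 0 < Nat.card R := Nat.card_pos
    exact_mod_cast this.ne'
  rw [← hn]
  field_simp

end Cfsg.Agent.Lib.Helper6.MulCop
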