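import Mathlib
import Cfsg.Agent.Lib.Helper1.ClassTwo

/-!
# NG5 farm (S1904): unit U10 comm_idx4, verbatim (helper6)

A class-2 group `K` with a central subgroup `Z` of index at most 4 has at most one nontrivial
commutator.
-/

set_option autoImplicit false
open scoped commutatorElement

namespace Cfsg.Agent.Lib.Helper6.NG5U10
open Cfsg.Agent.Lib.Helper1

/-- powers of an element with `c ^ 2 = 1` -/
theorem pow_eq_one_or_self {H : Type*} [Group H] (c : H) (hc : c ^ 2 = 1) (n : ℕ) :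
    c ^ n = 1 ∨ c ^ n = c := by
  induction n using Nat.strong_induction_on with
  | _ n ih =>
    match n, ih with
    | 0, _ => exact Or.inl (pow_zero c)
    | 1, _ => exact Or.inr (pow_one c)
    | n + 2, ih =>
      have : c ^ (n + 2) = c ^ n := by rw [pow_add, hc, mul_one]
      rw [this]
      exact ih n (by omega)

/-- whole-group version -/
theorem core {H : Type*} [Group H] [Finite H] (hcc : CommCentral H) (Z : Subgroup H)
    (hZ : ∀ z ∈ Z, ∀ k : H, z * k = k * z) (hcard : Nat.card H ≤ 4 * Nat.card Z) :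
    ∃ c : H, ∀ a b : H, ⁅a, b⁆ = 1 ∨ ⁅a, b⁆ = c := by
  by_cases hab : ∀ a b : H, a * b = b * a
  · exact ⟨1, fun a b => Or.inl (commutatorElement_eq_one_iff_mul_comm.2 (hab a b))⟩
  push Not at hab
  obtain ⟨k1, k2, hk⟩ := hab
  set c : H := ⁅k1, k2⁆ with hc
  have hc1 : c ≠ 1 := fun h1 => hk (commutatorElement_eq_one_iff_mul_comm.1 h1)
  have hcinv : ⁅k2, k1⁆ = c⁻¹ := by rw [hc, commutatorElement_inv]
  have hzl : ∀ z ∈ Z, ∀ y : H, ⁅z, y⁆ = 1 := fun z hz y =>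
    commutatorElement_eq_one_iff_mul_comm.2 (hZ z hz y)
  have hzr : ∀ z ∈ Z, ∀ y : H, ⁅y, z⁆ = 1 := fun z hz y =>
    commutatorElement_eq_one_iff_mul_comm.2 (hZ z hz y).symm
  have key1 : ∀ (i j : ℕ) (z : Z) (y : H),
      ⁅k1 ^ i * k2 ^ j * (z : H), y⁆ = ⁅k1, y⁆ ^ i * ⁅k2, y⁆ ^ j := by
    intro i j z y
    rw [hcc.comm_mul_left, hcc.comm_mul_left, hcc.comm_pow_left, hcc.comm_pow_left,
      hzl z z.2, mul_one]
  have key2 : ∀ (i j : ℕ) (z : Z) (y : H),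
      ⁅y, k1 ^ i * k2 ^ j * (z : H)⁆ = ⁅y, k1⁆ ^ i * ⁅y, k2⁆ ^ j := by
    intro i j z y
    rw [hcc.comm_mul_right, hcc.comm_mul_right, hcc.comm_pow_right, hcc.comm_pow_right,
      hzr z z.2, mul_one]
  have hself : ∀ y : H, ⁅y, y⁆ = 1 := fun y => commutatorElement_self y
  -- the covering map
  let f : Fin 2 × Fin 2 × Z → H := fun x => k1 ^ (x.1 : ℕ) * k2 ^ (x.2.1 : ℕ) * (x.2.2 : H)
  have hpow_inj : ∀ (d : H), d ≠ 1 → ∀ i j : Fin 2, d ^ (i : ℕ) = d ^ (j : ℕ) → i = j := by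
    intro d hd i j hij
    fin_cases i <;> fin_cases j
    · rfl
    · exfalso; simp at hij; exact hd hij.symm
    · exfalso; simp at hij; exact hd hij
    · rfl
  have hcinv1 : c⁻¹ ≠ 1 := fun h1 => hc1 (inv_eq_one.1 h1)
  have hf : Function.Injective f := by
    rintro ⟨i, j, z⟩ ⟨i', j', z'⟩ hx
    have hx' : k1 ^ (i : ℕ) * k2 ^ (j : ℕ) * (z : H) = k1 ^ (i' : ℕ) * k2 ^ (j' : ℕ) * (z' : H) :=
      hx
    have h1 : c ^ (i : ℕ) = c ^ (i' : ℕ) := by
      have := congrArg (fun u => ⁅u, k2⁆) hx'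
      simp only [key1, hself, one_pow, mul_one] at this
      exact this
    have h2 : c⁻¹ ^ (j : ℕ) = c⁻¹ ^ (j' : ℕ) := by
      have := congrArg (fun u => ⁅u, k1⁆) hx'
      simp only [key1, hself, one_pow, one_mul, hcinv] at this
      exact this
    have hi : i = i' := hpow_inj c hc1 i i' h1
    have hj : j = j' := hpow_inj c⁻¹ hcinv1 j j' h2
    subst hi; subst hj
    have hz : (z : H) = z' := mul_left_cancel hx'
    rw [Subtype.ext hz]
  have hcardD : Nat.card (Fin 2 × Fin 2 × Z) = 4 * Nat.card Z := by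
    rw [Nat.card_prod, Nat.card_prod, Nat.card_eq_fintype_card (α := Fin 2), Fintype.card_fin]
    ring
  have hbij : Function.Bijective f := hf.bijective_of_nat_card_le (by rw [hcardD]; exact hcard)
  have hsurj := hbij.2
  -- `c ^ 2 = 1`
  have hc2 : c ^ 2 = 1 := by
    obtain ⟨⟨i, j, z⟩, hx⟩ := hsurj (k1 ^ 2)
    have hx' : k1 ^ (i : ℕ) * k2 ^ (j : ℕ) * (z : H) = k1 ^ 2 := hx
    have h2 : c⁻¹ ^ (j : ℕ) = 1 := by
      have := congrArg (fun u => ⁅u, k1⁆) hx'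
      simp only [key1, hself, one_pow, one_mul, hcinv, hcc.comm_pow_left] at this
      exact this
    have hj : j = 0 := hpow_inj c⁻¹ hcinv1 j 0 (by simpa using h2)
    have h1 : c ^ (i : ℕ) = c ^ 2 := by
      have := congrArg (fun u => ⁅u, k2⁆) hx'
      simp only [key1, hself, one_pow, mul_one, hcc.comm_pow_left] at this
      exact this
    fin_cases i
    · simpa using h1.symm
    · exfalso
      simp only [Fin.mk_one, Fin.isValue, Fin.val_one, pow_one] at h1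
      have : c = 1 := by
        have h3 : c * 1 = c * c := by rw [mul_one, ← pow_two]; exact h1
        exact (mul_left_cancel h3).symm
      exact hc1 this
  have hcinv' : c⁻¹ = c := by
    rw [inv_eq_iff_mul_eq_one, ← pow_two]
    exact hc2
  refine ⟨c, fun a b => ?_⟩
  obtain ⟨⟨i, j, z⟩, rfl⟩ := hsurj a
  obtain ⟨⟨i', j', z'⟩, rfl⟩ := hsurj b
  show ⁅k1 ^ (i : ℕ) * k2 ^ (j : ℕ) * (z : H), k1 ^ (i' : ℕ) * k2 ^ (j' : ℕ) * (z' : H)⁆ = 1 ∨
    ⁅k1 ^ (i : ℕ) * k2 ^ (j : ℕ) * (z : H), k1 ^ (i' : ℕ) * k2 ^ (j' : ℕ) * (z' : H)⁆ = c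
  rw [key1, key2, key2, hself, hself, hcinv, hcinv', one_pow, one_pow, one_mul, mul_one,
    ← pow_mul, ← pow_mul, ← pow_add]
  exact pow_eq_one_or_self c hc2 _

/-- U10. -/
theorem comm_idx4 {G : Type*} [Group G] [Finite G] (K Z : Subgroup G) (hZK : Z ≤ K)
    (hcen : ∀ z ∈ Z, ∀ k ∈ K, z * k = k * z)
    (hcl2 : ∀ k ∈ K, ∀ k' ∈ K, ∀ k'' ∈ K, ⁅k, k'⁆ * k'' = k'' * ⁅k, k'⁆)
    (hcard : Nat.card K ≤ 4 * Nat.card Z) :
    ∃ c : G, ∀ k ∈ K, ∀ k' ∈ K, ⁅k, k'⁆ = 1 ∨ ⁅k, k'⁆ = c := by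
  have hcc : CommCentral K := by
    intro x y z
    apply Subtype.ext
    exact hcl2 x x.2 y y.2 z z.2
  have hZ' : ∀ z ∈ Z.subgroupOf K, ∀ k : K, z * k = k * z := by
    intro z hz k
    apply Subtype.ext
    exact hcen z (Subgroup.mem_subgroupOf.1 hz) k k.2
  have hcard' : Nat.card K ≤ 4 * Nat.card (Z.subgroupOf K) := by
    rw [Nat.card_congr (Subgroup.subgroupOfEquivOfLe hZK).toEquiv]
    exact hcard
  obtain ⟨c, hc⟩ := core hcc (Z.subgroupOf K) hZ' hcard'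
  refine ⟨(c : G), fun k hk k' hk' => ?_⟩
  rcases hc ⟨k, hk⟩ ⟨k', hk'⟩ with h1 | h1
  · left
    have := congrArg Subtype.val h1
    exact this
  · right
    have := congrArg Subtype.val h1
    exact this

end Cfsg.Agent.Lib.Helper6.NG5U10
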