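import Mathlib
import Cfsg.Agent.Lib.Helper8.NG5Defs

/-!
# NG5 farm (S1904): unit U20 exists_Y, verbatim (helper6)
-/

set_option autoImplicit false
open scoped commutatorElement

namespace Cfsg.Agent.Lib.Helper6.NG5U20
open Cfsg.Agent.Lib.Helper8.NG5

variable {X : Type*} [Group X] [Finite X] {A : Subgroup (MulAut X)}

/-- for central `c'`: `⁅y * y', g⁆ = ⁅y', g⁆ * ⁅y, g⁆` -/
theorem comm_mul_of_central {G : Type*} [Group G] (y y' g : G)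
    (hc : ∀ x : G, x * ⁅y', g⁆ = ⁅y', g⁆ * x) : ⁅y * y', g⁆ = ⁅y', g⁆ * ⁅y, g⁆ := by
  calc ⁅y * y', g⁆ = y * ⁅y', g⁆ * y⁻¹ * ⁅y, g⁆ := by
        simp only [commutatorElement_def]; group
    _ = ⁅y', g⁆ * y * y⁻¹ * ⁅y, g⁆ := by rw [hc y]
    _ = ⁅y', g⁆ * ⁅y, g⁆ := by rw [mul_inv_cancel_right]

/-- for central `⁅y', y⁆`: `(y * y') ^ 2 = ⁅y', y⁆ * y ^ 2 * y' ^ 2` -/
theorem mul_sq_of_central {G : Type*} [Group G] (y y' : G)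
    (hc : ∀ x : G, x * ⁅y', y⁆ = ⁅y', y⁆ * x) : (y * y') ^ 2 = ⁅y', y⁆ * y ^ 2 * y' ^ 2 := by
  have h1 : y' * y = ⁅y', y⁆ * (y * y') := by
    rw [commutatorElement_def]; group
  calc (y * y') ^ 2 = y * (y' * y) * y' := by rw [pow_two]; group
    _ = y * (⁅y', y⁆ * (y * y')) * y' := by rw [h1]
    _ = (y * ⁅y', y⁆) * (y * y') * y' := by simp only [mul_assoc]
    _ = (⁅y', y⁆ * y) * (y * y') * y' := by rw [hc y]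
    _ = ⁅y', y⁆ * y ^ 2 * y' ^ 2 := by simp only [pow_two, mul_assoc]

/-- for central `⁅y, g⁆`: `⁅y⁻¹, g⁆ = ⁅y, g⁆⁻¹` -/
theorem comm_inv_of_central {G : Type*} [Group G] (y g : G)
    (hc : ∀ x : G, x * ⁅y, g⁆ = ⁅y, g⁆ * x) : ⁅y⁻¹, g⁆ = ⁅y, g⁆⁻¹ := by
  have h1 : ⁅y⁻¹, g⁆ = y⁻¹ * ⁅y, g⁆⁻¹ * y := by
    simp only [commutatorElement_def]; group
  have h2 : y⁻¹ * ⁅y, g⁆⁻¹ = ⁅y, g⁆⁻¹ * y⁻¹ := by
    have := hc y
    calc y⁻¹ * ⁅y, g⁆⁻¹ = ⁅y, g⁆⁻¹ * (⁅y, g⁆ * y⁻¹) * ⁅y, g⁆⁻¹ := by group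
      _ = ⁅y, g⁆⁻¹ * (y⁻¹ * ⁅y, g⁆) * ⁅y, g⁆⁻¹ := by rw [hc y⁻¹]
      _ = ⁅y, g⁆⁻¹ * y⁻¹ := by group
  rw [h1, h2, inv_mul_cancel_right]

/-- U20. -/
theorem exists_Y (h : Hyp X A) {W : Subgroup X} (w : B2 X A W) : ∃ Y : Subgroup X, IsY W Y := by
  have hcen : ∀ c ∈ W, ∀ g : X, g * c = c * g :=
    fun c hc g => (Subgroup.mem_center_iff.1 (w.central hc)) g
  refine ⟨{ carrier := {y | y ^ 2 ∈ W ∧ ∀ g : X, ⁅y, g⁆ ∈ W}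
            mul_mem' := ?_
            one_mem' := ?_
            inv_mem' := ?_ }, fun y => Iff.rfl⟩
  · rintro y y' ⟨hy2, hyc⟩ ⟨hy'2, hy'c⟩
    refine ⟨?_, fun g => ?_⟩
    · rw [mul_sq_of_central y y' (hcen _ (hy'c y))]
      exact W.mul_mem (W.mul_mem (hy'c y) hy2) hy'2
    · rw [comm_mul_of_central y y' g (hcen _ (hy'c g))]
      exact W.mul_mem (hy'c g) (hyc g)
  · refine ⟨by simp, fun g => ?_⟩
    rw [commutatorElement_one_left]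
    exact W.one_mem
  · rintro y ⟨hy2, hyc⟩
    refine ⟨?_, fun g => ?_⟩
    · rw [inv_pow]
      exact W.inv_mem hy2
    · rw [comm_inv_of_central y g (hcen _ (hyc g))]
      exact W.inv_mem (hyc g)

end Cfsg.Agent.Lib.Helper6.NG5U20
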