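import Mathlib
import Cfsg.Agent.Lib.Helper8.NG5Defs
import Cfsg.Agent.Lib.Helper9.NG5U06
import Cfsg.Agent.Lib.Helper6.NG5U20

/-!
# NG5 farm (S1904): unit U21 Y_facts, verbatim (helper6)
-/

set_option autoImplicit false
open scoped commutatorElement

namespace Cfsg.Agent.Lib.Helper6.NG5U21
open Cfsg.Agent.Lib.Helper8.NG5

variable {X : Type*} [Group X] [Finite X] {A : Subgroup (MulAut X)}

/-- U21. -/
theorem Y_facts (h : Hyp X A) {W Y : Subgroup X} (w : B2 X A W) (hY : IsY W Y) :
    GNormal A Y ∧ W ≤ Y ∧ (∀ y ∈ Y, y ^ 2 = 1 → y ∈ W) ∧ ∃ y ∈ Y, y ∉ W := by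
  have hcen : ∀ c ∈ W, ∀ g : X, g * c = c * g :=
    fun c hc g => (Subgroup.mem_center_iff.1 (w.central hc)) g
  have hconj : ∀ c ∈ W, ∀ g : X, g * c * g⁻¹ = c := by
    intro c hc g
    rw [hcen c hc g, mul_inv_cancel_right]
  have hWn : W.Normal := ⟨fun c hc g => by rw [hconj c hc g]; exact hc⟩
  refine ⟨⟨⟨?_⟩, ?_⟩, ?_, ?_, ?_⟩
  · -- normal
    intro y hy g
    obtain ⟨hy2, hyc⟩ := (hY y).1 hy
    refine (hY _).2 ⟨?_, fun x => ?_⟩
    · have : (g * y * g⁻¹) ^ 2 = g * y ^ 2 * g⁻¹ := by
        rw [pow_two, pow_two]; group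
      rw [this, hconj _ hy2 g]
      exact hy2
    · have : ⁅g * y * g⁻¹, x⁆ = g * ⁅y, g⁻¹ * x * g⁆ * g⁻¹ := by
        simp only [commutatorElement_def]; group
      rw [this, hconj _ (hyc _) g]
      exact hyc _
  · -- A-invariant
    intro φ hφ y hy
    obtain ⟨hy2, hyc⟩ := (hY y).1 hy
    refine (hY _).2 ⟨?_, fun x => ?_⟩
    · rw [← map_pow]
      exact w.inv φ hφ _ hy2
    · have : ⁅φ y, x⁆ = φ ⁅y, φ⁻¹ x⁆ := by
        rw [map_commutatorElement]
        simp
      rw [this]
      exact w.inv φ hφ _ (hyc _)
  · -- W ≤ Y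
    intro c hc
    refine (hY c).2 ⟨?_, fun g => ?_⟩
    · rw [w.exp c hc]; exact W.one_mem
    · rw [commutatorElement_eq_one_iff_mul_comm.2 (hcen c hc g).symm]
      exact W.one_mem
  · -- involutions of Y lie in W
    intro y hy hy2
    obtain ⟨-, hyc⟩ := (hY y).1 hy
    have hyinv : y⁻¹ = y := by
      rw [inv_eq_iff_mul_eq_one, ← pow_two]; exact hy2
    have hyy : y * y = 1 := by rw [← pow_two]; exact hy2
    -- E = W ∪ yW
    let E : Subgroup X :=
      { carrier := {e | e ∈ W ∨ y * e ∈ W}
        one_mem' := Or.inl W.one_mem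
        mul_mem' := by
          rintro a b (ha | ha) (hb | hb)
          · exact Or.inl (W.mul_mem ha hb)
          · right
            have : y * (a * b) = a * (y * b) := by
              rw [← mul_assoc, hcen a ha y, mul_assoc]
            rw [this]
            exact W.mul_mem ha hb
          · right
            rw [← mul_assoc]
            exact W.mul_mem ha hb
          · left
            have ha' : a = y * (y * a) := by rw [← mul_assoc, hyy, one_mul]
            have hb' : b = y * (y * b) := by rw [← mul_assoc, hyy, one_mul]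
            have : a * b = (y * a) * (y * b) := by
              calc a * b = (y * (y * a)) * (y * (y * b)) := by rw [← ha', ← hb']
                _ = y * ((y * a) * y) * (y * b) := by simp only [mul_assoc]
                _ = y * (y * (y * a)) * (y * b) := by rw [← hcen _ ha y]
                _ = (y * y) * (y * a) * (y * b) := by simp only [mul_assoc]
                _ = (y * a) * (y * b) := by rw [hyy, one_mul]
            rw [this]
            exact W.mul_mem ha hb
        inv_mem' := by
          rintro a (ha | ha)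
          · exact Or.inl (W.inv_mem ha)
          · right
            have ha' : a = y * (y * a) := by rw [← mul_assoc, hyy, one_mul]
            have this : y * a⁻¹ = (y * a)⁻¹ := by
              have hc := hcen _ (W.inv_mem ha) y
              calc y * a⁻¹ = y * (y * (y * a))⁻¹ := by rw [← ha']
                _ = y * ((y * a)⁻¹ * y⁻¹) := by rw [mul_inv_rev]
                _ = y * ((y * a)⁻¹ * y) := by rw [hyinv]
                _ = y * (y * (y * a)⁻¹) := by rw [hc]
                _ = (y * a)⁻¹ := by rw [← mul_assoc, hyy, one_mul]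
            rw [this]
            exact W.inv_mem ha }
    have hEexp : ∀ e ∈ E, e ^ 2 = 1 := by
      rintro e (he | he)
      · exact w.exp e he
      · have he' : e = y * (y * e) := by rw [← mul_assoc, hyy, one_mul]
        have : e ^ 2 = y * y * ((y * e) * (y * e)) := by
          calc e ^ 2 = (y * (y * e)) * (y * (y * e)) := by rw [← he', pow_two]
            _ = y * ((y * e) * y) * (y * e) := by simp only [mul_assoc]
            _ = y * (y * (y * e)) * (y * e) := by rw [← hcen _ he y]
            _ = y * y * ((y * e) * (y * e)) := by simp only [mul_assoc]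
        rw [this, hyy, one_mul, ← pow_two, w.exp _ he]
    have hEn : E.Normal := by
      constructor
      rintro e (he | he) g
      · left
        rw [hconj e he g]; exact he
      · right
        -- y * (g e g⁻¹) = ⁅y, g⁆ * g (y e) g⁻¹
        have : y * (g * e * g⁻¹) = ⁅y, g⁆ * (g * (y * e) * g⁻¹) := by
          simp only [commutatorElement_def]; group
        rw [this, hconj _ he g]
        exact W.mul_mem (hyc g) he
    have hWE : W ≤ E := fun c hc => Or.inl hc
    have hyE : y ∈ E := Or.inr (by rw [hyy]; exact W.one_mem)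
    have hle : Nat.card E ≤ Nat.card W := by rw [w.card]; exact h.ne E hEn hEexp
    have hEW : W = E := Subgroup.eq_of_le_of_card_ge hWE hle
    rw [hEW]
    exact hyE
  · -- Y ≠ W
    have hne : ¬ (⊤ : Subgroup X) ≤ W := by
      intro htop
      obtain ⟨x, y, hxy⟩ := h.na
      exact hxy (hcen y (htop (Subgroup.mem_top y)) x)
    obtain ⟨x, -, hxW, hx2, hxc⟩ :=
      Cfsg.Agent.Lib.Helper9.NG5U06.socle h.pg W ⊤ hWn inferInstance le_top hne
    exact ⟨x, (hY x).2 ⟨hx2, hxc⟩, hxW⟩

end Cfsg.Agent.Lib.Helper6.NG5U21
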