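import Mathlib
import Cfsg.Agent.Lib.Helper8.NG5Defs

/-!
# NG5 farm (S1904): unit U22 comm_fixed, verbatim (helper6)
-/

set_option autoImplicit false
open scoped commutatorElement

namespace Cfsg.Agent.Lib.Helper6.NG5U22
open Cfsg.Agent.Lib.Helper8.NG5

variable {X : Type*} [Group X] [Finite X] {A : Subgroup (MulAut X)}

/-- a subgroup of order 4 has an element different from `1` and from a given `c` -/
theorem exists_ne_of_card_four {G : Type*} [Group G] (W : Subgroup G) (hW : Nat.card W = 4)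
    (c : G) : ∃ w ∈ W, w ≠ 1 ∧ w ≠ c := by
  by_contra hcon
  push Not at hcon
  have hsub : (W : Set G) ⊆ {1, c} := by
    intro x hx
    by_cases h1 : x = 1
    · exact Or.inl h1
    · exact Or.inr (hcon x hx h1)
  have hfin : ({1, c} : Set G).Finite := Set.toFinite _
  have h1 : (W : Set G).ncard ≤ ({1, c} : Set G).ncard := Set.ncard_le_ncard hsub hfin
  have h2 : ({1, c} : Set G).ncard ≤ 2 := by
    have := Set.ncard_insert_le (1 : G) ({c} : Set G)
    rw [Set.ncard_singleton] at this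
    exact this
  have h3 : Nat.card W = (W : Set G).ncard := rfl
  omega

set_option linter.unusedVariables false in
/-- U22. -/
theorem comm_fixed (h : Hyp X A) {W : Subgroup X} (w : B2 X A W) (K : Subgroup X)
    (hK : ∀ φ ∈ A, ∀ k ∈ K, φ k ∈ K) (hKW : ∀ k ∈ K, ∀ k' ∈ K, ⁅k, k'⁆ ∈ W) (c : X)
    (hc : ∀ k ∈ K, ∀ k' ∈ K, ⁅k, k'⁆ = 1 ∨ ⁅k, k'⁆ = c) :
    ∀ k ∈ K, ∀ k' ∈ K, k * k' = k' * k := by
  intro k hk k' hk'
  by_contra hne
  have hne1 : ⁅k, k'⁆ ≠ 1 := fun h1 => hne (commutatorElement_eq_one_iff_mul_comm.1 h1)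
  have hkc : ⁅k, k'⁆ = c := (hc k hk k' hk').resolve_left hne1
  have hc1 : c ≠ 1 := hkc ▸ hne1
  have hcW : c ∈ W := hkc ▸ hKW k hk k' hk'
  -- every `φ ∈ A` fixes `c`
  have hfix : ∀ φ ∈ A, φ c = c := by
    intro φ hφ
    have h1 : φ c = ⁅φ k, φ k'⁆ := by
      rw [← hkc]
      exact map_commutatorElement φ k k'
    rcases hc (φ k) (hK φ hφ k hk) (φ k') (hK φ hφ k' hk') with h2 | h2
    · exfalso
      rw [h2] at h1
      exact hc1 ((map_eq_one_iff φ φ.injective).1 h1)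
    · rw [h1, h2]
  obtain ⟨w', hw'W, hw'1, hw'c⟩ := exists_ne_of_card_four W w.card c
  obtain ⟨φ, hφ, hφc⟩ := w.trans c hcW w' hw'W hc1 hw'1
  exact hw'c (hφc ▸ hfix φ hφ)

end Cfsg.Agent.Lib.Helper6.NG5U22
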