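import Mathlib

set_option autoImplicit false

/-!
Farm OMM (S2346): the arithmetic of the bound, in `ℕ`.  `j ≥ 2`, `W` has dimension `2 j + 2`,
`V` has dimension `2 n`, `n = j + 2`.
-/

namespace Cfsg.Agent.Lib.Helper6.OMMArith

/-- the numerator of the bound of S2346 -/
def Dn (q n : ℕ) : ℕ := (q ^ n + 1) * (q ^ (n - 1) - q)

/-- the bound of S2346 -/
def dn (q n : ℕ) : ℕ := Dn q n / (q ^ 2 - 1)

/-- the number of non-zero singular vectors of the minus-type space of dimension `2 j + 2` -/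
def Ns (q j : ℕ) : ℕ := (q ^ (j + 1) + 1) * (q ^ j - 1)

/-- the number of vectors of a given non-zero value -/
def Nc (q j : ℕ) : ℕ := q ^ (2 * j + 1) + q ^ j

theorem pows (q j : ℕ) : q ^ (j + 1) = q * q ^ j ∧ q ^ (j + 2) = q * q * q ^ j ∧
    q ^ (2 * j + 1) = q * q ^ j * q ^ j := by
  refine ⟨by ring, by ring, by ring⟩

theorem Ns_eq (q j : ℕ) (hq : 1 ≤ q) : Ns q j + 1 + q ^ (j + 1) = q ^ (2 * j + 1) + q ^ j := by
  obtain ⟨h1, -, h3⟩ := pows q j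
  unfold Ns
  rw [h1, h3]
  have hX : 1 ≤ q ^ j := Nat.one_le_pow _ _ hq
  obtain ⟨Y, hY⟩ : ∃ Y, q ^ j = Y + 1 := ⟨q ^ j - 1, by omega⟩
  rw [hY, Nat.add_sub_cancel]
  ring

theorem Nc_eq (q j : ℕ) (hq : 1 ≤ q) : Nc q j = Ns q j + q ^ (j + 1) + 1 := by
  have := Ns_eq q j hq
  unfold Nc
  omega

theorem Dn_succ (q j : ℕ) (hq : 1 ≤ q) (hj : 1 ≤ j) :
    Dn q (j + 2) = Dn q (j + 1) + (q ^ 2 - 1) * (Ns q j + 1) := by
  obtain ⟨h1, h2, -⟩ := pows q j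
  unfold Dn Ns
  have e1 : j + 2 - 1 = j + 1 := by omega
  have e2 : j + 1 - 1 = j := by omega
  rw [e1, e2, h1, h2]
  have hX : q ≤ q ^ j := by
    calc q = q ^ 1 := (pow_one q).symm
      _ ≤ q ^ j := Nat.pow_le_pow_right hq hj
  obtain ⟨Y, hY⟩ : ∃ Y, q ^ j = q + Y := ⟨q ^ j - q, by omega⟩
  obtain ⟨r, hr⟩ : ∃ r, q = r + 1 := ⟨q - 1, by omega⟩
  rw [hY]
  have e3 : q * (q + Y) - q = q * (q + Y - 1) := by
    rw [Nat.mul_sub, mul_one]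
  have e4 : q + Y - q = Y := by omega
  have e5 : q ^ 2 - 1 = r * (r + 2) := by
    rw [hr]
    have : (r + 1) ^ 2 = r * (r + 2) + 1 := by ring
    rw [this, Nat.add_sub_cancel]
  have e6 : q + Y - 1 = r + Y := by omega
  rw [e3, e4, e5, e6, hr]
  ring

theorem Dn_two (q : ℕ) : Dn q 2 = 0 := by
  unfold Dn
  simp

theorem dvd_Dn (q : ℕ) (hq : 1 ≤ q) (j : ℕ) : (q ^ 2 - 1) ∣ Dn q (j + 2) := by
  induction j with
  | zero => rw [Dn_two]; exact dvd_zero _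
  | succ j ih =>
    rw [Dn_succ q (j + 1) hq (by omega)]
    exact dvd_add ih (dvd_mul_right _ _)

theorem Dn_eq (q : ℕ) (hq : 1 ≤ q) (j : ℕ) : Dn q (j + 2) = (q ^ 2 - 1) * dn q (j + 2) := by
  unfold dn
  rw [Nat.mul_div_cancel' (dvd_Dn q hq j)]

theorem dn_succ (q j : ℕ) (hq : 2 ≤ q) (hj : 1 ≤ j) :
    dn q (j + 2) = dn q (j + 1) + Ns q j + 1 := by
  have h1 := Dn_succ q j (by omega) hj
  obtain ⟨i, rfl⟩ : ∃ i, j = i + 1 := ⟨j - 1, by omega⟩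
  rw [Dn_eq q (by omega) (i + 1), Dn_eq q (by omega) i, ← mul_add] at h1
  have hpos : 0 < q ^ 2 - 1 := by
    have : 4 ≤ q ^ 2 := by nlinarith
    omega
  have := Nat.eq_of_mul_eq_mul_left hpos h1
  omega

/-- `d_3 = (q² + 1)(q - 1) + 1` -/
theorem dn_three (q : ℕ) (hq : 2 ≤ q) : dn q 3 = (q ^ 2 + 1) * (q - 1) + 1 := by
  have h := dn_succ q 1 hq le_rfl
  have h0 : dn q 2 = 0 := by unfold dn; rw [Dn_two]; simp
  have e : (1 : ℕ) + 2 = 3 := rfl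
  have e' : (1 : ℕ) + 1 = 2 := rfl
  rw [e, e', h0] at h
  rw [h]
  unfold Ns
  simp

/-- the bound of S2346 follows from the multiplied inequality -/
theorem bound_of_mul (q n k : ℕ) (h : (q ^ n + 1) * (q ^ (n - 1) - q) ≤ (q ^ 2 - 1) * k) :
    (q ^ n + 1) * (q ^ (n - 1) - q) / (q ^ 2 - 1) ≤ k :=
  Nat.div_le_of_le_mul h

theorem bound_eq_dn (q n : ℕ) : (q ^ n + 1) * (q ^ (n - 1) - q) / (q ^ 2 - 1) = dn q n := rfl

/-- `2 N_s ≥ d_n` -/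
theorem two_Ns_ge (q j : ℕ) (hq : 2 ≤ q) (hj : 2 ≤ j) : dn q (j + 2) ≤ 2 * Ns q j := by
  have hpos : 0 < q ^ 2 - 1 := by
    have : 4 ≤ q ^ 2 := by nlinarith
    omega
  apply Nat.le_of_mul_le_mul_left _ hpos
  rw [← Dn_eq q (by omega) j]
  obtain ⟨h1, h2, -⟩ := pows q j
  unfold Dn Ns
  have e1 : j + 2 - 1 = j + 1 := by omega
  rw [e1, h1, h2]
  have hX : 1 ≤ q ^ j := Nat.one_le_pow _ _ (by omega)
  obtain ⟨Y, hY⟩ : ∃ Y, q ^ j = Y + 1 := ⟨q ^ j - 1, by omega⟩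
  obtain ⟨r, hr⟩ : ∃ r, q = r + 2 := ⟨q - 2, by omega⟩
  rw [hY, Nat.add_sub_cancel]
  have e3 : q * (Y + 1) - q = q * Y := by
    rw [Nat.mul_add, mul_one, Nat.add_sub_cancel]
  have e5 : q ^ 2 - 1 = r * r + 4 * r + 3 := by
    rw [hr]
    have : (r + 2) ^ 2 = (r * r + 4 * r + 3) + 1 := by ring
    rw [this, Nat.add_sub_cancel]
  rw [e3, e5, hr]
  nlinarith [Nat.zero_le (r * Y), Nat.zero_le (r * r * Y), Nat.zero_le Y, Nat.zero_le r,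
    Nat.zero_le (r * r * r * Y * Y), Nat.zero_le (Y * Y), Nat.zero_le (r * Y * Y),
    Nat.zero_le (r * r * Y * Y)]

theorem Ns_le_Nc (q j : ℕ) (hq : 1 ≤ q) : Ns q j ≤ Nc q j := by
  rw [Nc_eq q j hq]
  omega

/-- `2 N_c ≥ d_n` -/
theorem two_Nc_ge (q j : ℕ) (hq : 2 ≤ q) (hj : 2 ≤ j) : dn q (j + 2) ≤ 2 * Nc q j := by
  have := two_Ns_ge q j hq hj
  have := Ns_le_Nc q j (by omega)
  omega

/-- `N_s + N_c ≥ d_n` -/
theorem Ns_add_Nc_ge (q j : ℕ) (hq : 2 ≤ q) (hj : 2 ≤ j) : dn q (j + 2) ≤ Ns q j + Nc q j := by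
  have := two_Ns_ge q j hq hj
  have := Ns_le_Nc q j (by omega)
  omega

/-- the non-singular multiplicity-one case: `r₀ ≥ d_{n-1} - 1` suffices -/
theorem Nc_case (q j r0 : ℕ) (hq : 2 ≤ q) (hj : 1 ≤ j) (hr : dn q (j + 1) ≤ r0 + 1) :
    dn q (j + 2) ≤ r0 + Nc q j := by
  rw [dn_succ q j hq hj, Nc_eq q j (by omega)]
  have : 1 ≤ q ^ (j + 1) := Nat.one_le_pow _ _ (by omega)
  omega

/-- the singular multiplicity-one case: `r₀ ≥ d_{n-1}` gives `k ≥ d_n - 1` -/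
theorem Ns_case (q j r0 : ℕ) (hq : 2 ≤ q) (hj : 1 ≤ j) (hr : dn q (j + 1) ≤ r0) :
    dn q (j + 2) ≤ r0 + Ns q j + 1 := by
  rw [dn_succ q j hq hj]
  omega

end Cfsg.Agent.Lib.Helper6.OMMArith
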