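import Mathlib
import Cfsg.Agent.Lib.Helper5.OS.Defs

set_option autoImplicit false
set_option linter.unusedSectionVars false
set_option linter.unusedVariables false
set_option linter.unusedSimpArgs false
set_option linter.style.haveILetI false
set_option maxHeartbeats 1000000

/-! # S3421 piece P5: the involution centralizer data `CData`. -/

open Cfsg.Agent.Lib.Helper5.OS

namespace Cfsg.Agent.Lib.Helper6.OS

variable {G : Type*} [Group G] [Finite G] {p q n m : ℕ}

/-- two elements of a cyclic subgroup commute -/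
theorem commute_of_mem_zpowers {a x y : G} (hx : x ∈ Subgroup.zpowers a)
    (hy : y ∈ Subgroup.zpowers a) : x * y = y * x := by
  obtain ⟨i, rfl⟩ := hx
  obtain ⟨j, rfl⟩ := hy
  exact ((Commute.refl a).zpow_left i).zpow_right j

/-- a cyclic subgroup is contained in the centralizer of each of its elements -/
theorem zpowers_le_centralizer_of_mem {a y : G} (hy : y ∈ Subgroup.zpowers a) :
    Subgroup.zpowers a ≤ Subgroup.centralizer ({y} : Set G) := by
  intro x hx
  rw [Subgroup.mem_centralizer_singleton_iff]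
  exact commute_of_mem_zpowers hx hy

/-- A cyclic subgroup has at most one involution. -/
theorem eq_of_orderOf_two_of_mem_zpowers {a s t : G} (hs : s ∈ Subgroup.zpowers a)
    (ht : t ∈ Subgroup.zpowers a) (hso : orderOf s = 2) (hto : orderOf t = 2) : s = t := by
  classical
  haveI := Fintype.ofFinite ↥(Subgroup.zpowers a)
  by_contra hst
  have h := IsCyclic.card_pow_eq_one_le (α := ↥(Subgroup.zpowers a)) (n := 2) (by norm_num)
  have hs1 : s ≠ 1 := by intro h1; rw [h1, orderOf_one] at hso; norm_num at hso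
  have ht1 : t ≠ 1 := by intro h1; rw [h1, orderOf_one] at hto; norm_num at hto
  have hsub : ({1, ⟨s, hs⟩, ⟨t, ht⟩} : Finset ↥(Subgroup.zpowers a)) ⊆
      Finset.univ.filter (fun x => x ^ 2 = 1) := by
    intro x hx
    simp only [Finset.mem_insert, Finset.mem_singleton] at hx
    rw [Finset.mem_filter]
    refine ⟨Finset.mem_univ _, ?_⟩
    rcases hx with rfl | rfl | rfl
    · exact one_pow 2
    · apply Subtype.ext; show s ^ 2 = 1; rw [← hso]; exact pow_orderOf_eq_one _
    · apply Subtype.ext; show t ^ 2 = 1; rw [← hto]; exact pow_orderOf_eq_one _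
  have hcard : ({1, ⟨s, hs⟩, ⟨t, ht⟩} : Finset ↥(Subgroup.zpowers a)).card = 3 := by
    rw [Finset.card_insert_of_notMem, Finset.card_insert_of_notMem, Finset.card_singleton]
    · simp only [Finset.mem_singleton]
      intro h1; exact hst (congrArg Subtype.val h1)
    · simp only [Finset.mem_insert, Finset.mem_singleton, not_or]
      refine ⟨?_, ?_⟩
      · intro h1; exact hs1 (congrArg Subtype.val h1).symm
      · intro h1; exact ht1 (congrArg Subtype.val h1).symm
  have := Finset.card_le_card hsub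
  omega

/-- if `H ⊓ ⟨a⟩` has index 2 in `H` and `t ∈ H ⊓ ⟨a⟩` is an involution then `H ≤ C(t)` -/
theorem le_centralizer_of_index_two {a t : G} (H : Subgroup G) (htH : t ∈ H)
    (htA : t ∈ Subgroup.zpowers a) (hto : orderOf t = 2)
    (hidx : Nat.card ↥(H ⊓ Subgroup.zpowers a) * 2 = Nat.card H) :
    H ≤ Subgroup.centralizer ({t} : Set G) := by
  have hcK : Nat.card ↥((H ⊓ Subgroup.zpowers a).subgroupOf H) =
      Nat.card ↥(H ⊓ Subgroup.zpowers a) :=
    Nat.card_congr (Subgroup.subgroupOfEquivOfLe inf_le_left).toEquiv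
  have hK : ((H ⊓ Subgroup.zpowers a).subgroupOf H).index = 2 := by
    have h1 := Subgroup.card_mul_index ((H ⊓ Subgroup.zpowers a).subgroupOf H)
    rw [hcK, ← hidx] at h1
    have hpos : 0 < Nat.card ↥(H ⊓ Subgroup.zpowers a) := Nat.card_pos
    exact Nat.eq_of_mul_eq_mul_left hpos h1
  have hN : ((H ⊓ Subgroup.zpowers a).subgroupOf H).Normal := Subgroup.normal_of_index_eq_two hK
  intro g hg
  have hmem : (⟨t, htH⟩ : ↥H) ∈ (H ⊓ Subgroup.zpowers a).subgroupOf H := by
    rw [Subgroup.mem_subgroupOf]; exact ⟨htH, htA⟩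
  have hc := hN.conj_mem _ hmem ⟨g, hg⟩
  rw [Subgroup.mem_subgroupOf] at hc
  have hc' : g * t * g⁻¹ ∈ Subgroup.zpowers a := hc.2
  have ho : orderOf (g * t * g⁻¹) = 2 := by
    rw [← MulAut.conj_apply, MulEquiv.orderOf_eq, hto]
  have he := eq_of_orderOf_two_of_mem_zpowers hc' htA ho hto
  rw [Subgroup.mem_centralizer_singleton_iff]
  exact mul_inv_eq_iff_eq_mul.1 he

theorem exists_CData (h : Hyp G p q n m) : ∃ (t a0 : G) (T : Sylow 2 G), CData G n t a0 T := by
  obtain ⟨a0, ha0⟩ := h.exn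
  obtain ⟨k, hk⟩ := h.neven
  have hn2 := h.n_ge
  have hkpos : 0 < k := by omega
  have hn0 : n ≠ 0 := by omega
  have hA0card : Nat.card ↥(Subgroup.zpowers a0) = n := by rw [Nat.card_zpowers, ha0]
  have hto : orderOf (a0 ^ k) = 2 := by
    rw [orderOf_pow' a0 hkpos.ne', ha0, hk, Nat.gcd_eq_right ⟨2, by ring⟩]
    have : k + k = 2 * k := by ring
    rw [this]; exact Nat.mul_div_cancel 2 hkpos
  have htA : a0 ^ k ∈ Subgroup.zpowers a0 := Subgroup.pow_mem _ (Subgroup.mem_zpowers a0) k
  have ht1 : a0 ^ k ≠ 1 := by intro h1; rw [h1, orderOf_one] at hto; norm_num at hto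
  have hCt : Nat.card (Subgroup.centralizer ({a0 ^ k} : Set G)) ∣ 2 * n :=
    h.card_centralizer_dvd_2n ht1 (by rw [hto, hk]; exact ⟨k, by ring⟩)
  -- Sylow 2-subgroup of A0 containing t
  have htp : IsPGroup 2 ↥(Subgroup.zpowers (⟨a0 ^ k, htA⟩ : ↥(Subgroup.zpowers a0))) := by
    apply IsPGroup.of_card (n := 1)
    rw [Nat.card_zpowers, Subgroup.orderOf_mk, hto]; norm_num
  obtain ⟨S, hS⟩ := htp.exists_le_sylow
  have htS : (⟨a0 ^ k, htA⟩ : ↥(Subgroup.zpowers a0)) ∈ S := hS (Subgroup.mem_zpowers _)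
  have hScard : Nat.card ↥(S : Subgroup ↥(Subgroup.zpowers a0)) = 2 ^ (n.factorization 2) := by
    rw [Sylow.card_eq_multiplicity, hA0card]
  have hT0card : Nat.card ↥((S : Subgroup ↥(Subgroup.zpowers a0)).map
      (Subgroup.zpowers a0).subtype) = 2 ^ (n.factorization 2) := by
    rw [← hScard]
    exact Nat.card_congr (Subgroup.equivMapOfInjective (S : Subgroup ↥(Subgroup.zpowers a0))
      (Subgroup.zpowers a0).subtype (Subgroup.subtype_injective _)).symm.toEquiv
  have hT0A : (S : Subgroup ↥(Subgroup.zpowers a0)).map (Subgroup.zpowers a0).subtype ≤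
      Subgroup.zpowers a0 := by
    rintro x ⟨y, _, rfl⟩; exact y.2
  have hT0p : IsPGroup 2 ↥((S : Subgroup ↥(Subgroup.zpowers a0)).map
      (Subgroup.zpowers a0).subtype) := S.2.map _
  have htT0 : a0 ^ k ∈ (S : Subgroup ↥(Subgroup.zpowers a0)).map
      (Subgroup.zpowers a0).subtype := ⟨⟨a0 ^ k, htA⟩, htS, rfl⟩
  obtain ⟨T, hT0T⟩ := hT0p.exists_le_sylow
  have hq0 : q ≠ 0 := by have := h.q5; omega
  have hm0 : m ≠ 0 := by have := h.m_ge; omega
  have hq2 : q.factorization 2 = 0 :=
    Nat.factorization_eq_zero_of_not_dvd (Nat.two_dvd_ne_zero.2 (Nat.odd_iff.1 h.q_odd))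
  have hm2 : m.factorization 2 = 0 :=
    Nat.factorization_eq_zero_of_not_dvd (Nat.two_dvd_ne_zero.2 (Nat.odd_iff.1 h.m_odd))
  have hTcard : Nat.card (T : Subgroup G) = 2 ^ (n.factorization 2 + 1) := by
    rw [Sylow.card_eq_multiplicity, h.card]
    congr 1
    rw [Nat.factorization_mul (by positivity) hm0, Nat.factorization_mul hq0 (by positivity),
      Nat.factorization_mul (by norm_num) hn0]
    simp only [Finsupp.add_apply]
    rw [hq2, hm2, Nat.prime_two.factorization_self]
    ring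
  have hTA : Nat.card ↥((T : Subgroup G) ⊓ Subgroup.zpowers a0) = 2 ^ (n.factorization 2) := by
    have hp : IsPGroup 2 ↥((T : Subgroup G) ⊓ Subgroup.zpowers a0) := T.2.to_le inf_le_left
    obtain ⟨j, hj⟩ := IsPGroup.iff_card.1 hp
    have h1 : 2 ^ j ∣ n := by
      rw [← hj, ← hA0card]; exact Subgroup.card_dvd_of_le inf_le_right
    have h2 : 2 ^ (n.factorization 2) ∣ 2 ^ j := by
      rw [← hj, ← hT0card]; exact Subgroup.card_dvd_of_le (le_inf hT0T hT0A)
    have h3 : j ≤ n.factorization 2 :=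
      (Nat.Prime.pow_dvd_iff_le_factorization Nat.prime_two hn0).1 h1
    have h4 : n.factorization 2 ≤ j := (Nat.pow_dvd_pow_iff_le_right (by norm_num)).1 h2
    rw [hj]; congr 1; omega
  have hTC : (T : Subgroup G) ≤ Subgroup.centralizer ({a0 ^ k} : Set G) :=
    le_centralizer_of_index_two (T : Subgroup G) (hT0T htT0) htA hto
      (by rw [hTA, hTcard, pow_succ])
  have hAC : Subgroup.zpowers a0 ≤ Subgroup.centralizer ({a0 ^ k} : Set G) :=
    zpowers_le_centralizer_of_mem htA
  have hcardC : Nat.card (Subgroup.centralizer ({a0 ^ k} : Set G)) = 2 * n := by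
    obtain ⟨d, hd⟩ : n ∣ Nat.card (Subgroup.centralizer ({a0 ^ k} : Set G)) := by
      rw [← hA0card]; exact Subgroup.card_dvd_of_le hAC
    obtain ⟨e, he⟩ := hCt
    have hde : d * e = 2 := by
      have : n * (d * e) = n * 2 := by rw [← mul_assoc, ← hd, ← he]; ring
      exact Nat.eq_of_mul_eq_mul_left (by omega) this
    have hd12 : d = 1 ∨ d = 2 := (Nat.dvd_prime Nat.prime_two).1 ⟨e, hde.symm⟩
    rcases hd12 with rfl | rfl
    · exfalso
      have h2 : 2 ^ (n.factorization 2 + 1) ∣ n := by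
        rw [mul_one] at hd
        rw [← hTcard]
        calc Nat.card (T : Subgroup G) ∣ Nat.card (Subgroup.centralizer ({a0 ^ k} : Set G)) :=
              Subgroup.card_dvd_of_le hTC
          _ = n := hd
      exact Nat.pow_succ_factorization_not_dvd hn0 Nat.prime_two h2
    · rw [hd]; ring
  refine ⟨a0 ^ k, a0, T, ?_⟩
  refine
    { ha0 := ha0
      ht := hto
      tA := htA
      cardC := hcardC
      TC := hTC
      TA := by rw [hTA, hTcard, pow_succ]
      cent := ?_ }
  intro y hy hy1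
  have hyn : orderOf y ∣ n := by rw [← ha0]; exact orderOf_dvd_of_mem_zpowers hy
  have hdvd := h.card_centralizer_dvd_2n hy1 hyn
  have hAy : Subgroup.zpowers a0 ≤ Subgroup.centralizer ({y} : Set G) :=
    zpowers_le_centralizer_of_mem hy
  obtain ⟨d, hd⟩ : n ∣ Nat.card (Subgroup.centralizer ({y} : Set G)) := by
    rw [← hA0card]; exact Subgroup.card_dvd_of_le hAy
  obtain ⟨e, he⟩ := hdvd
  have hde : d * e = 2 := by
    have : n * (d * e) = n * 2 := by rw [← mul_assoc, ← hd, ← he]; ring
    exact Nat.eq_of_mul_eq_mul_left (by omega) this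
  have hd12 : d = 1 ∨ d = 2 := (Nat.dvd_prime Nat.prime_two).1 ⟨e, hde.symm⟩
  rcases hd12 with rfl | rfl
  · left
    exact (Subgroup.eq_of_le_of_card_ge hAy (by rw [hd, hA0card, mul_one])).symm
  · right
    have hle : Subgroup.centralizer ({y} : Set G) ≤ Subgroup.centralizer ({a0 ^ k} : Set G) := by
      apply le_centralizer_of_index_two (a := a0) _ (hAy htA) htA hto
      rw [inf_eq_right.2 hAy, hA0card, hd]
    exact Subgroup.eq_of_le_of_card_ge hle (by rw [hcardC, hd]; omega)

end Cfsg.Agent.Lib.Helper6.OS
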