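import Mathlib
import Cfsg.Agent.Lib.Helper5.OS.Defs
import Cfsg.Agent.Lib.Helper5.OS.Basic
import Cfsg.Agent.Lib.Helper6.OSP5
import Cfsg.Agent.Lib.Helper1.PLengthOne
import Cfsg.Agent.S0508

set_option autoImplicit false
set_option linter.unusedSectionVars false
set_option linter.unusedVariables false
set_option linter.unusedSimpArgs false
set_option linter.style.haveILetI false
set_option maxHeartbeats 1000000

/-! # S3421 piece P8b: apply the Brauer–Suzuki–Wall dihedral theorem S0508. -/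

open Cfsg.Agent.Lib.Helper5.OS

namespace Cfsg.Agent.Lib.Helper6.OS

variable {G : Type*} [Group G] [Finite G] {p q n m : ℕ}

/-- a subgroup of a cyclic subgroup is cyclic -/
theorem isCyclic_of_le_zpowers {a : G} (K : Subgroup G) (hK : K ≤ Subgroup.zpowers a) :
    IsCyclic ↥K := by
  haveI : IsCyclic ↥(K.subgroupOf (Subgroup.zpowers a)) := inferInstance
  exact isCyclic_of_surjective (Subgroup.subgroupOfEquivOfLe hK).toMonoidHom
    (Subgroup.subgroupOfEquivOfLe hK).surjective

/-- an element of odd order which squares to one is trivial -/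
theorem eq_one_of_odd_of_sq {y : G} (ho : Odd (orderOf y)) (h2 : y ^ 2 = 1) : y = 1 := by
  have hd : orderOf y ∣ 2 := orderOf_dvd_of_pow_eq_one h2
  rcases (Nat.dvd_prime Nat.prime_two).1 hd with h1 | h1
  · exact orderOf_eq_one_iff.1 h1
  · exfalso; rw [h1] at ho; exact absurd ho (by decide)

/-- odd order elements of `C(t)` lie in `⟨a0⟩` -/
theorem mem_zpowers_of_odd (h : Hyp G p q n m) {t a0 : G} {T : Sylow 2 G} (hC : CData G n t a0 T)
    {y : G} (hy : y ∈ Subgroup.centralizer ({t} : Set G)) (ho : Odd (orderOf y)) :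
    y ∈ Subgroup.zpowers a0 := by
  have hidx : ((Subgroup.zpowers a0).subgroupOf (Subgroup.centralizer ({t} : Set G))).index = 2 :=
    hC.relIndex_zpowers h
  have hsq := Subgroup.sq_mem_of_index_two hidx ⟨y, hy⟩
  rw [Subgroup.mem_subgroupOf] at hsq
  have hsq' : y ^ 2 ∈ Subgroup.zpowers a0 := by simpa using hsq
  obtain ⟨k, hk⟩ := ho
  have : y = (y ^ 2) ^ (k + 1) := by
    rw [← pow_mul]
    have : 2 * (k + 1) = orderOf y + 1 := by rw [hk]; ring
    rw [this, pow_succ, pow_orderOf_eq_one, one_mul]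
  rw [this]
  exact Subgroup.pow_mem _ hsq' _

/-- the normalizer of `⟨a0⟩` lies in `C(t)` -/
theorem conj_t_eq_of_mem {t a0 : G} {T : Sylow 2 G} (hC : CData G n t a0 T) {g : G}
    (hg : g * t * g⁻¹ ∈ Subgroup.zpowers a0) : g ∈ Subgroup.centralizer ({t} : Set G) := by
  have ho : orderOf (g * t * g⁻¹) = 2 := by rw [orderOf_conj_eq, hC.ht]
  have he := eq_of_orderOf_two_of_mem_zpowers hg hC.tA ho hC.ht
  rw [Subgroup.mem_centralizer_singleton_iff]
  exact mul_inv_eq_iff_eq_mul.1 he

theorem exists_psl_of_data (h : Hyp G p q n m) [IsSimpleGroup G]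
    {t a0 : G} {T : Sylow 2 G} (hC : CData G n t a0 T) {u : G} (huT : u ∈ (T : Subgroup G))
    (huA : u ∉ Subgroup.zpowers a0) (hu : orderOf u = 2)
    (hinvT : ∀ x ∈ (T : Subgroup G) ⊓ Subgroup.zpowers a0, u * x * u⁻¹ = x⁻¹)
    (hinvO : ∀ y ∈ Subgroup.zpowers a0, Odd (orderOf y) → u * y * u⁻¹ = y⁻¹)
    (hdih : Nonempty (↥(T : Subgroup G) ≃* DihedralGroup (Nat.card ↥((T : Subgroup G) ⊓ Subgroup.zpowers a0))))
    (hdih2 : 2 ≤ Nat.card ↥((T : Subgroup G) ⊓ Subgroup.zpowers a0)) :
    ∃ (F : Type) (_ : Field F) (_ : Fintype F), Odd (Fintype.card F) ∧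
      Nonempty (G ≃* Matrix.ProjectiveSpecialLinearGroup (Fin 2) F) := by
  have huC : u ∈ Subgroup.centralizer ({t} : Set G) := hC.TC huT
  have htZ : ∀ s ∈ (T : Subgroup G), s * t = t * s := fun s hs =>
    Subgroup.mem_centralizer_singleton_iff.1 (hC.TC hs)
  -- the core
  obtain ⟨O, hOdef⟩ : ∃ O : Subgroup G, O = (Cfsg.oddCore (Subgroup.centralizer ({t} : Set G))).map
      (Subgroup.centralizer ({t} : Set G)).subtype := ⟨_, rfl⟩
  have hOodd : ∀ y ∈ O, Odd (orderOf y) := by
    intro y hy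
    rw [hOdef] at hy
    obtain ⟨c, hc, rfl⟩ := hy
    have h1 : orderOf c ∣ Nat.card ↥(Cfsg.oddCore ↥(Subgroup.centralizer ({t} : Set G))) :=
      Subgroup.orderOf_dvd_natCard _ hc
    have h2 : (Nat.card ↥(Cfsg.pPrimeCore 2 ↥(Subgroup.centralizer ({t} : Set G)))).Coprime 2 :=
      Cfsg.Agent.Lib.Helper1.pPrimeCore_card_coprime 2
    have h3 : (orderOf c).Coprime 2 := Nat.Coprime.coprime_dvd_left h1 h2
    show Odd (orderOf ((c : G)))
    rw [Subgroup.orderOf_coe]
    exact Nat.coprime_two_right.1 h3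
  have hOA : O ≤ Subgroup.zpowers a0 := by
    intro y hy
    have hyC : y ∈ Subgroup.centralizer ({t} : Set G) := by
      rw [hOdef] at hy
      obtain ⟨c, hc, rfl⟩ := hy
      exact c.2
    exact mem_zpowers_of_odd h hC hyC (hOodd y hy)
  -- centralizers of nontrivial odd elements
  have hcent : ∀ y ∈ Subgroup.zpowers a0, y ≠ 1 → Odd (orderOf y) →
      Subgroup.centralizer ({y} : Set G) = Subgroup.zpowers a0 := by
    intro y hy hy1 ho
    rcases hC.cent y hy hy1 with h1 | h1
    · exact h1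
    · exfalso
      have huy : u ∈ Subgroup.centralizer ({y} : Set G) := by rw [h1]; exact huC
      have h2 : u * y = y * u := Subgroup.mem_centralizer_singleton_iff.1 huy
      have h3 : u * y * u⁻¹ = y := by rw [h2, mul_inv_cancel_right]
      have h4 := hinvO y hy ho
      rw [h3] at h4
      have h5 : y ^ 2 = 1 := by
        rw [pow_two]
        nth_rewrite 1 [h4]
        exact inv_mul_cancel y
      exact hy1 (eq_one_of_odd_of_sq ho h5)
  refine Cfsg.Agent.S0508.result T _ hdih2 hdih t hC.ht hC.t_mem htZ O hOdef ?_ ?_ ?_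
  · -- (ha)
    intro hOne
    obtain ⟨⟨y, hyO⟩, hy1⟩ := Subgroup.ne_bot_iff_exists_ne_one.1 hOne
    have hy1' : y ≠ 1 := fun hh => hy1 (Subtype.ext hh)
    have hCy := hcent y (hOA hyO) hy1' (hOodd y hyO)
    have heq : (T : Subgroup G) ⊓ Subgroup.centralizer (O : Set G) =
        (T : Subgroup G) ⊓ Subgroup.zpowers a0 := by
      apply le_antisymm
      · intro s hs
        have hs2 : s ∈ Subgroup.centralizer (O : Set G) := hs.2
        have hsy : s ∈ Subgroup.centralizer ({y} : Set G) := by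
          rw [Subgroup.mem_centralizer_singleton_iff]
          exact ((Subgroup.mem_centralizer_iff.1 hs2) y hyO).symm
        rw [hCy] at hsy
        exact Subgroup.mem_inf.2 ⟨hs.1, hsy⟩
      · intro s hs
        have hs2 : s ∈ Subgroup.zpowers a0 := hs.2
        have hsO : s ∈ Subgroup.centralizer (O : Set G) := by
          rw [Subgroup.mem_centralizer_iff]
          intro z hz
          exact commute_of_mem_zpowers (hOA hz) hs2
        exact Subgroup.mem_inf.2 ⟨hs.1, hsO⟩
    rw [heq]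
    refine ⟨isCyclic_of_le_zpowers _ inf_le_right, ?_⟩
    have h1 := Cfsg.Agent.Lib.Helper5.OS.card_mul_relIndex_of_le ((T : Subgroup G) ⊓ Subgroup.zpowers a0) (T : Subgroup G)
      inf_le_left
    rw [← hC.TA] at h1
    exact Nat.eq_of_mul_eq_mul_left (by omega) h1
  · -- (hb)
    intro s hs hsc y hy
    have hsA : s ∉ Subgroup.zpowers a0 := by
      intro hsA
      apply hsc
      rw [Subgroup.mem_centralizer_iff]
      intro z hz
      exact commute_of_mem_zpowers (hOA hz) hsA
    have hsC : s ∈ Subgroup.centralizer ({t} : Set G) := hC.TC hs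
    have hidx : ((Subgroup.zpowers a0).subgroupOf (Subgroup.centralizer ({t} : Set G))).index = 2 :=
      hC.relIndex_zpowers h
    have huinvC : u⁻¹ ∈ Subgroup.centralizer ({t} : Set G) := Subgroup.inv_mem _ huC
    have hmul := Subgroup.mul_mem_iff_of_index_two hidx
      (a := (⟨s, hsC⟩ : ↥(Subgroup.centralizer ({t} : Set G))))
      (b := (⟨u⁻¹, huinvC⟩ : ↥(Subgroup.centralizer ({t} : Set G))))
    have ha : s * u⁻¹ ∈ Subgroup.zpowers a0 := by
      have : (⟨s, hsC⟩ : ↥(Subgroup.centralizer ({t} : Set G))) * ⟨u⁻¹, huinvC⟩ ∈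
          (Subgroup.zpowers a0).subgroupOf (Subgroup.centralizer ({t} : Set G)) := by
        rw [hmul, Subgroup.mem_subgroupOf, Subgroup.mem_subgroupOf]
        constructor
        · intro hh; exact absurd hh hsA
        · intro hh
          exfalso
          apply huA
          have : u⁻¹ ∈ Subgroup.zpowers a0 := hh
          exact (Subgroup.inv_mem_iff _).1 this
      rw [Subgroup.mem_subgroupOf] at this
      exact this
    have hyA : y ∈ Subgroup.zpowers a0 := hOA hy
    have hyinvA : y⁻¹ ∈ Subgroup.zpowers a0 := Subgroup.inv_mem _ hyA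
    have hs_eq : s = (s * u⁻¹) * u := by rw [inv_mul_cancel_right]
    have hcomm : (s * u⁻¹) * y⁻¹ = y⁻¹ * (s * u⁻¹) := commute_of_mem_zpowers ha hyinvA
    have huy := hinvO y hyA (hOodd y hy)
    calc s * y * s⁻¹ = (s * u⁻¹) * (u * y * u⁻¹) * (s * u⁻¹)⁻¹ := by group
      _ = (s * u⁻¹) * y⁻¹ * (s * u⁻¹)⁻¹ := by rw [huy]
      _ = y⁻¹ := by rw [hcomm, mul_inv_cancel_right]
  · -- (hc)
    intro Y hYO hYne g hg
    obtain ⟨⟨y, hyY⟩, hy1⟩ := Subgroup.ne_bot_iff_exists_ne_one.1 hYne
    have hy1' : y ≠ 1 := fun hh => hy1 (Subtype.ext hh)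
    have hy'Y : g * y * g⁻¹ ∈ Y := (Subgroup.mem_normalizer_iff.1 hg y).1 hyY
    have hy'1 : g * y * g⁻¹ ≠ 1 := by
      intro hh
      apply hy1'
      have : g * y = g := by
        have := mul_inv_eq_one.1 hh
        exact this
      exact mul_eq_left.1 this
    have hyA : y ∈ Subgroup.zpowers a0 := hOA (hYO hyY)
    have hCy' := hcent (g * y * g⁻¹) (hOA (hYO hy'Y)) hy'1 (hOodd _ (hYO hy'Y))
    apply conj_t_eq_of_mem hC
    rw [← hCy', Subgroup.mem_centralizer_singleton_iff]
    have hty : t * y = y * t := commute_of_mem_zpowers hC.tA hyA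
    calc g * t * g⁻¹ * (g * y * g⁻¹) = g * (t * y) * g⁻¹ := by group
      _ = g * (y * t) * g⁻¹ := by rw [hty]
      _ = g * y * g⁻¹ * (g * t * g⁻¹) := by group

end Cfsg.Agent.Lib.Helper6.OS
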