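import Mathlib
import Cfsg.Agent.Lib.Helper1.Index
import Cfsg.Agent.Lib.Helper1.Nilpotent
import Cfsg.Agent.Lib.Helper4.ConjClass

/-!
# Kazarin's theorem: group-theoretic lemmas

General lemmas about finite groups used in the proof that an element with a
conjugacy class of prime-power size has a solvable normal closure.
-/

set_option autoImplicit false
set_option linter.style.haveILetI false

namespace Cfsg.Agent.Lib.Helper6.Kazarin

variable {G : Type*} [Group G]

/-! ### Joins of solvable subgroups -/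

theorem mem_sup_iff_of_le_normalizer {X Y : Subgroup G}
    (hn : Y ≤ Subgroup.normalizer (X : Set G)) {g : G} :
    g ∈ X ⊔ Y ↔ ∃ x ∈ X, ∃ y ∈ Y, g = x * y := by
  have h := Subgroup.coe_mul_of_right_le_normalizer_left X Y hn
  constructor
  · intro hg
    have : g ∈ ((X ⊔ Y : Subgroup G) : Set G) := hg
    rw [h] at this
    obtain ⟨x, hx, y, hy, rfl⟩ := this
    exact ⟨x, hx, y, hy, rfl⟩
  · rintro ⟨x, hx, y, hy, rfl⟩
    exact Subgroup.mul_mem_sup hx hy

theorem subgroupOf_sup_normal {X Y : Subgroup G}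
    (hn : Y ≤ Subgroup.normalizer (X : Set G)) : (X.subgroupOf (X ⊔ Y)).Normal :=
  (Subgroup.normal_subgroupOf_iff_le_normalizer le_sup_left).2
    (sup_le Subgroup.le_normalizer hn)

theorem quot_surjective {X Y : Subgroup G}
    (hn : Y ≤ Subgroup.normalizer (X : Set G)) :
    haveI := subgroupOf_sup_normal hn
    Function.Surjective ((QuotientGroup.mk' (X.subgroupOf (X ⊔ Y))).comp
      (Subgroup.inclusion (le_sup_right : Y ≤ X ⊔ Y))) := by
  haveI := subgroupOf_sup_normal hn
  intro q
  obtain ⟨⟨k, hk⟩, rfl⟩ := QuotientGroup.mk'_surjective _ q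
  obtain ⟨x, hx, y, hy, rfl⟩ := (mem_sup_iff_of_le_normalizer hn).1 hk
  refine ⟨⟨y, hy⟩, ?_⟩
  simp only [MonoidHom.comp_apply, QuotientGroup.mk'_apply]
  rw [QuotientGroup.eq]
  rw [Subgroup.mem_subgroupOf]
  simp only [Subgroup.coe_mul, Subgroup.coe_inv, Subgroup.coe_inclusion]
  have : y⁻¹ * (x * y) = y⁻¹ * x * y⁻¹⁻¹ := by group
  rw [this]
  exact (Subgroup.mem_normalizer_iff.1 (hn (Y.inv_mem hy)) x).1 hx

theorem isSolvable_sup_of_le_normalizer {X Y : Subgroup G}
    (hn : Y ≤ Subgroup.normalizer (X : Set G)) (hX : Group.IsSolvable ↥X)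
    (hY : Group.IsSolvable ↥Y) : Group.IsSolvable ↥(X ⊔ Y) := by
  haveI := subgroupOf_sup_normal hn
  have hq : Group.IsSolvable (↥(X ⊔ Y) ⧸ X.subgroupOf (X ⊔ Y)) :=
    Group.isSolvable_of_surjective (quot_surjective hn)
  refine Group.isSolvable_of_ker_le_range (Subgroup.inclusion (le_sup_left : X ≤ X ⊔ Y))
    (QuotientGroup.mk' (X.subgroupOf (X ⊔ Y))) ?_
  rw [QuotientGroup.ker_mk']
  intro k hk
  rw [Subgroup.mem_subgroupOf] at hk
  exact ⟨⟨k.1, hk⟩, rfl⟩

/-! ### Index of a subgroup against a normal subgroup -/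

theorem relIndex_sup_eq_of_normal [Finite G] (C M : Subgroup G) [M.Normal] :
    C.relIndex (C ⊔ M) = C.relIndex M := by
  have h1 : M.relIndex (C ⊔ M) = M.relIndex C := Subgroup.relIndex_sup_right C M
  have h2 : Nat.card M * M.relIndex (C ⊔ M) = Nat.card ↥(C ⊔ M) := by
    have := Subgroup.relIndex_mul_relIndex (H := (⊥ : Subgroup G)) (K := M) (L := C ⊔ M)
      bot_le le_sup_right
    rwa [Subgroup.relIndex_bot_left, Subgroup.relIndex_bot_left] at this
  have h3 : Nat.card ↥(M ⊓ C) * M.relIndex C = Nat.card C := by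
    have := Subgroup.relIndex_mul_relIndex (H := (⊥ : Subgroup G)) (K := M ⊓ C) (L := C)
      bot_le inf_le_right
    rwa [Subgroup.relIndex_bot_left, Subgroup.relIndex_bot_left,
      Subgroup.inf_relIndex_right] at this
  have h4 : Nat.card ↥(M ⊓ C) * C.relIndex M = Nat.card M := by
    have := Subgroup.relIndex_mul_relIndex (H := (⊥ : Subgroup G)) (K := M ⊓ C) (L := M)
      bot_le inf_le_left
    rwa [Subgroup.relIndex_bot_left, Subgroup.relIndex_bot_left,
      Subgroup.inf_relIndex_left] at this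
  have h5 : Nat.card C * C.relIndex (C ⊔ M) = Nat.card ↥(C ⊔ M) := by
    have := Subgroup.relIndex_mul_relIndex (H := (⊥ : Subgroup G)) (K := C) (L := C ⊔ M)
      bot_le le_sup_left
    rwa [Subgroup.relIndex_bot_left, Subgroup.relIndex_bot_left] at this
  have hpos : 0 < Nat.card ↥(M ⊓ C) := Nat.card_pos
  have hposC : 0 < Nat.card C := Nat.card_pos
  have hr : 0 < M.relIndex C := by
    rcases Nat.eq_zero_or_pos (M.relIndex C) with h | h
    · rw [h, mul_zero] at h3; omega
    · exact h
  -- card C * relIndex(C, C ⊔ M) = card M * relIndex(M, C)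
  rw [h1] at h2
  have h6 : Nat.card C * C.relIndex (C ⊔ M) = Nat.card M * M.relIndex C := by rw [h5, h2]
  rw [← h3, ← h4] at h6
  have h7 : Nat.card ↥(M ⊓ C) * M.relIndex C * C.relIndex (C ⊔ M) =
      Nat.card ↥(M ⊓ C) * M.relIndex C * C.relIndex M := by
    rw [h6]; ring
  exact Nat.eq_of_mul_eq_mul_left (Nat.mul_pos hpos hr) h7

theorem relIndex_dvd_index_of_normal_right [Finite G] (C M : Subgroup G) [M.Normal] :
    C.relIndex M ∣ C.index := by
  rw [← relIndex_sup_eq_of_normal C M]
  exact Subgroup.relIndex_dvd_index_of_le le_sup_left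

theorem index_eq_relIndex_of_sup_eq_top [Finite G] (C M : Subgroup G) [M.Normal]
    (h : C ⊔ M = ⊤) : C.index = C.relIndex M := by
  rw [← relIndex_sup_eq_of_normal C M, h, Subgroup.relIndex_top_right]

/-- If `M` is normal and `M ≤ H ≤ C ⊔ M` then `C.relIndex H = C.relIndex M`. -/
theorem relIndex_eq_of_le_of_le_sup [Finite G] (C M H : Subgroup G) [M.Normal]
    (h1 : M ≤ H) (h2 : H ≤ C ⊔ M) : C.relIndex H = C.relIndex M := by
  have hne : ∀ K : Subgroup G, C.relIndex K ≠ 0 := by
    intro K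
    have : 0 < C.relIndex K := by
      have := Subgroup.relIndex_dvd_card C K
      exact Nat.pos_of_dvd_of_pos this Nat.card_pos
    omega
  apply le_antisymm
  · rw [← relIndex_sup_eq_of_normal C M]
    exact Subgroup.relIndex_le_of_le_right h2 (hne _)
  · exact Subgroup.relIndex_le_of_le_right h1 (hne _)

/-! ### Solvability transport -/

theorem isSolvable_of_le {H K : Subgroup G} (h : H ≤ K) (hK : Group.IsSolvable ↥K) :
    Group.IsSolvable ↥H :=
  Group.isSolvable_of_isSolvable_injective (Subgroup.inclusion_injective h)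

theorem isSolvable_map {G' : Type*} [Group G'] (f : G →* G') (H : Subgroup G)
    (hH : Group.IsSolvable ↥H) : Group.IsSolvable ↥(H.map f) :=
  Group.isSolvable_of_surjective (f.subgroupMap_surjective H)

/-- conjugate of a subgroup -/
def conjSub (y : G) (K : Subgroup G) : Subgroup G := K.map (MulAut.conj y).toMonoidHom

theorem mem_conjSub {y : G} {K : Subgroup G} {x : G} :
    x ∈ conjSub y K ↔ y⁻¹ * x * y ∈ K := by
  unfold conjSub
  rw [Subgroup.mem_map]
  constructor
  · rintro ⟨k, hk, rfl⟩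
    simp only [MulEquiv.coe_toMonoidHom, MulAut.conj_apply]
    have : y⁻¹ * (y * k * y⁻¹) * y = k := by group
    rwa [this]
  · intro h
    refine ⟨_, h, ?_⟩
    simp only [MulEquiv.coe_toMonoidHom, MulAut.conj_apply]
    group

theorem isSolvable_conjSub (y : G) (K : Subgroup G) (hK : Group.IsSolvable ↥K) :
    Group.IsSolvable ↥(conjSub y K) := isSolvable_map _ K hK

theorem le_normalizer_of_forall {M K : Subgroup G}
    (h : ∀ m ∈ M, ∀ k ∈ K, m * k * m⁻¹ ∈ K) : M ≤ Subgroup.normalizer (K : Set G) := by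
  intro m hm
  rw [Subgroup.mem_normalizer_iff]
  intro k
  constructor
  · exact h m hm k
  · intro hk
    have := h m⁻¹ (M.inv_mem hm) _ hk
    have e : m⁻¹ * (m * k * m⁻¹) * m⁻¹⁻¹ = k := by group
    rwa [e] at this

/-- In a finite group, a solvable subgroup of a non-solvable minimal normal subgroup `M` which is
normalized by `M` is trivial. -/
theorem eq_bot_of_isSolvable_of_minimal [Finite G] (M : Subgroup G) [hMn : M.Normal]
    (hmin : ∀ L : Subgroup G, L.Normal → L ≤ M → L ≠ ⊥ → L = M)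
    (hMns : ¬ Group.IsSolvable ↥M)
    (K : Subgroup G) (hKM : K ≤ M) (hn : ∀ m ∈ M, ∀ k ∈ K, m * k * m⁻¹ ∈ K)
    (hK : Group.IsSolvable ↥K) : K = ⊥ := by
  let P : Subgroup G → Prop := fun K =>
    K ≤ M ∧ (∀ m ∈ M, ∀ k ∈ K, m * k * m⁻¹ ∈ K) ∧ Group.IsSolvable ↥K
  have hPK : P K := ⟨hKM, hn, hK⟩
  obtain ⟨R, hKR, hR⟩ := Finite.exists_le_maximal (p := P) hPK
  have hRP : P R := hR.prop
  -- P is closed under binary sups
  have hsup : ∀ A B : Subgroup G, P A → P B → P (A ⊔ B) := by
    intro A B hA hB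
    refine ⟨sup_le hA.1 hB.1, ?_, ?_⟩
    · intro m hm k hk
      have hc : (MulAut.conj m).toMonoidHom k ∈ (A ⊔ B).map (MulAut.conj m).toMonoidHom :=
        Subgroup.mem_map_of_mem _ hk
      rw [Subgroup.map_sup] at hc
      have h1 : A.map (MulAut.conj m).toMonoidHom ≤ A := by
        rintro _ ⟨a, ha, rfl⟩
        exact hA.2.1 m hm a ha
      have h2 : B.map (MulAut.conj m).toMonoidHom ≤ B := by
        rintro _ ⟨a, ha, rfl⟩
        exact hB.2.1 m hm a ha
      exact (sup_le_sup h1 h2) hc
    · apply isSolvable_sup_of_le_normalizer _ hA.2.2 hB.2.2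
      exact le_trans hB.1 (le_normalizer_of_forall hA.2.1)
  -- P is closed under conjugation
  have hconj : ∀ (y : G) (A : Subgroup G), P A → P (conjSub y A) := by
    intro y A hA
    refine ⟨?_, ?_, isSolvable_conjSub y A hA.2.2⟩
    · intro x hx
      rw [mem_conjSub] at hx
      have := hMn.conj_mem _ (hA.1 hx) y
      have e : y * (y⁻¹ * x * y) * y⁻¹ = x := by group
      rwa [e] at this
    · intro m hm k hk
      rw [mem_conjSub] at hk ⊢
      have hm' : y⁻¹ * m * y ∈ M := by
        have := hMn.conj_mem _ hm y⁻¹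
        simpa using this
      have := hA.2.1 _ hm' _ hk
      have e : y⁻¹ * m * y * (y⁻¹ * k * y) * (y⁻¹ * m * y)⁻¹ = y⁻¹ * (m * k * m⁻¹) * y := by group
      rwa [e] at this
  -- R is normal
  have hRn : R.Normal := by
    constructor
    intro n hnR y
    have h1 : P (R ⊔ conjSub y R) := hsup _ _ hRP (hconj y R hRP)
    have h2 : R ⊔ conjSub y R ≤ R := hR.le_of_ge h1 le_sup_left
    apply h2
    apply Subgroup.mem_sup_right
    rw [mem_conjSub]
    have e : y⁻¹ * (y * n * y⁻¹) * y = n := by group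
    rwa [e]
  by_cases hRb : R = ⊥
  · rw [hRb] at hKR
    exact le_bot_iff.mp hKR
  · exfalso
    have := hmin R hRn hRP.1 hRb
    rw [this] at hRP
    exact hMns hRP.2.2

/-! ### Sylow subgroups and subgroups of prime power index -/

/-- If `C` has `p`-power index and `T` is a Sylow `p`-subgroup then `G = C T`. -/
theorem exists_mul_of_index_prime_pow [Finite G] {p : ℕ} [hp : Fact p.Prime] (C : Subgroup G)
    (j : ℕ) (hj : C.index = p ^ j) (T : Sylow p G) (y : G) :
    ∃ c ∈ C, ∃ t ∈ (T : Subgroup G), y = c * t := by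
  apply Cfsg.Agent.Lib.Helper1.mul_eq_of_coprime_index C (T : Subgroup G)
  rw [hj]
  apply Nat.Coprime.pow_left
  exact (Nat.Prime.coprime_iff_not_dvd hp.out).mpr T.not_dvd_index

theorem mem_centralizer_singleton_iff' {g x : G} :
    x ∈ Subgroup.centralizer ({g} : Set G) ↔ x * g = g * x := by
  rw [Subgroup.mem_centralizer_singleton_iff]

/-- A `p`-element whose class has `p`-power size centralizes every minimal normal subgroup. -/
theorem le_centralizer_of_pElement [Finite G] {p : ℕ} [hp : Fact p.Prime] (M : Subgroup G)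
    [hMn : M.Normal] (hmin : ∀ L : Subgroup G, L.Normal → L ≤ M → L ≠ ⊥ → L = M)
    (g : G) (a : ℕ) (hg : orderOf g = p ^ a) (j : ℕ)
    (hj : (Subgroup.centralizer ({g} : Set G)).index = p ^ j) :
    M ≤ Subgroup.centralizer ({g} : Set G) := by
  set C := Subgroup.centralizer ({g} : Set G) with hC
  by_cases hpM : p ∣ Nat.card M
  · -- Sylow subgroup containing g
    have hgp : IsPGroup p (Subgroup.zpowers g) :=
      IsPGroup.of_card (n := a) (by rw [Nat.card_zpowers, hg])
    obtain ⟨T, hT⟩ := hgp.exists_le_sylow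
    have hgT : g ∈ (T : Subgroup G) := hT (Subgroup.mem_zpowers g)
    -- an element of order p in M
    obtain ⟨m, hm⟩ := exists_prime_orderOf_dvd_card' (G := M) p hpM
    have hmp : IsPGroup p (Subgroup.zpowers (m : G)) :=
      IsPGroup.of_card (n := 1) (by rw [Nat.card_zpowers, Subgroup.orderOf_coe, hm, pow_one])
    obtain ⟨Q, hQ⟩ := hmp.exists_le_sylow
    obtain ⟨c, hc⟩ := MulAction.exists_smul_eq G Q T
    have hmQ : (m : G) ∈ (Q : Subgroup G) := hQ (Subgroup.mem_zpowers _)
    have hm'T : c * (m : G) * c⁻¹ ∈ (T : Subgroup G) := by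
      rw [← hc, Sylow.coe_subgroup_smul]
      have := Subgroup.smul_mem_pointwise_smul (m : G) (MulAut.conj c) (Q : Subgroup G) hmQ
      simpa [MulAut.smul_def] using this
    have hm'M : c * (m : G) * c⁻¹ ∈ M := hMn.conj_mem _ m.2 c
    have hm'1 : c * (m : G) * c⁻¹ ≠ 1 := by
      intro h
      have h1 : (m : G) = 1 := by
        have : (m : G) = c⁻¹ * (c * (m : G) * c⁻¹) * c := by group
        rw [this, h]; group
      have h2 : m = 1 := Subtype.ext h1
      rw [h2, orderOf_one] at hm
      exact hp.out.one_lt.ne hm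
    -- the normal subgroup M ∩ T of T meets the centre of T
    haveI : Group.IsNilpotent ↥(T : Subgroup G) := T.2.isNilpotent
    have hNne : M.subgroupOf (T : Subgroup G) ≠ ⊥ := by
      intro h
      have : (⟨c * (m : G) * c⁻¹, hm'T⟩ : ↥(T : Subgroup G)) ∈ M.subgroupOf (T : Subgroup G) := by
        rw [Subgroup.mem_subgroupOf]; exact hm'M
      rw [h, Subgroup.mem_bot] at this
      exact hm'1 (congrArg Subtype.val this)
    have hz := Cfsg.Agent.Lib.Helper1.normal_inf_center_ne_bot
      (M.subgroupOf (T : Subgroup G)) hNne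
    obtain ⟨⟨z, hzmem⟩, hz1⟩ := (Subgroup.ne_bot_iff_exists_ne_one).mp hz
    obtain ⟨hzM, hzZ⟩ := Subgroup.mem_inf.mp hzmem
    rw [Subgroup.mem_subgroupOf] at hzM
    have hzne : (z : G) ≠ 1 := by
      intro h
      apply hz1
      apply Subtype.ext
      apply Subtype.ext
      exact h
    have hzcomm : ∀ t ∈ (T : Subgroup G), t * (z : G) = (z : G) * t := by
      intro t ht
      have := (Subgroup.mem_center_iff.mp hzZ) ⟨t, ht⟩
      exact congrArg Subtype.val this
    have hzC : (z : G) ∈ C := by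
      rw [hC, mem_centralizer_singleton_iff']
      exact (hzcomm g hgT).symm
    -- the normal closure of z lies in C
    have hLC : Subgroup.normalClosure ({(z : G)} : Set G) ≤ C := by
      rw [Subgroup.normalClosure, Subgroup.closure_le]
      intro x hx
      rw [Group.mem_conjugatesOfSet_iff] at hx
      obtain ⟨z', hz', hconj⟩ := hx
      rw [Set.mem_singleton_iff] at hz'
      subst hz'
      obtain ⟨y, rfl⟩ := isConj_iff.mp hconj
      obtain ⟨c', hc', t, ht, rfl⟩ := exists_mul_of_index_prime_pow C j hj T y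
      have h1 : c' * t * (z : G) * (c' * t)⁻¹ = c' * (z : G) * c'⁻¹ := by
        have := hzcomm t ht
        calc c' * t * (z : G) * (c' * t)⁻¹ = c' * (t * (z : G)) * t⁻¹ * c'⁻¹ := by group
          _ = c' * ((z : G) * t) * t⁻¹ * c'⁻¹ := by rw [this]
          _ = c' * (z : G) * c'⁻¹ := by group
      rw [h1]
      exact C.mul_mem (C.mul_mem hc' hzC) (C.inv_mem hc')
    have hLM : Subgroup.normalClosure ({(z : G)} : Set G) ≤ M :=
      Subgroup.normalClosure_le_normal (by
        intro x hx
        rw [Set.mem_singleton_iff] at hx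
        rw [hx]; exact hzM)
    have hLne : Subgroup.normalClosure ({(z : G)} : Set G) ≠ ⊥ := by
      intro h
      have : (z : G) ∈ Subgroup.normalClosure ({(z : G)} : Set G) :=
        Subgroup.subset_normalClosure (Set.mem_singleton _)
      rw [h, Subgroup.mem_bot] at this
      exact hzne this
    rw [← hmin _ Subgroup.normalClosure_normal hLM hLne]
    exact hLC
  · -- p does not divide |M|
    rw [← Subgroup.relIndex_eq_one]
    have h1 : C.relIndex M ∣ Nat.card M := Subgroup.relIndex_dvd_card C M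
    have h2 : C.relIndex M ∣ p ^ j := hj ▸ relIndex_dvd_index_of_normal_right C M
    have hcop : Nat.Coprime (Nat.card M) (p ^ j) :=
      Nat.Coprime.pow_right j ((Nat.Prime.coprime_iff_not_dvd hp.out).mpr hpM).symm
    exact Nat.eq_one_of_dvd_coprimes hcop h1 h2

/-! ### Passing to subgroups and quotients -/

theorem centralizer_subtype_eq (H : Subgroup G) (g : G) (hgH : g ∈ H) :
    Subgroup.centralizer ({(⟨g, hgH⟩ : H)} : Set H) =
      (Subgroup.centralizer ({g} : Set G)).subgroupOf H := by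
  ext x
  rw [Subgroup.mem_subgroupOf, Subgroup.mem_centralizer_singleton_iff,
    Subgroup.mem_centralizer_singleton_iff, Subtype.ext_iff]
  rfl

theorem index_centralizer_subgroup_dvd [Finite G] (M : Subgroup G) [M.Normal] (g : G)
    (H : Subgroup G) (hMH : M ≤ H) (hH : H ≤ Subgroup.centralizer ({g} : Set G) ⊔ M)
    (hgH : g ∈ H) :
    (Subgroup.centralizer ({(⟨g, hgH⟩ : H)} : Set H)).index ∣
      (Subgroup.centralizer ({g} : Set G)).index := by
  rw [centralizer_subtype_eq]
  change (Subgroup.centralizer ({g} : Set G)).relIndex H ∣ _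
  rw [relIndex_eq_of_le_of_le_sup _ M H hMH hH]
  exact relIndex_dvd_index_of_normal_right _ M

theorem index_centralizer_map_dvd [Finite G] {Q : Type*} [Group Q] (π : G →* Q)
    (hπ : Function.Surjective π) (x : G) :
    (Subgroup.centralizer ({π x} : Set Q)).index ∣ (Subgroup.centralizer ({x} : Set G)).index := by
  have h1 : (Subgroup.centralizer ({x} : Set G)).map π ≤ Subgroup.centralizer ({π x} : Set Q) := by
    rintro _ ⟨c, hc, rfl⟩
    rw [SetLike.mem_coe, Subgroup.mem_centralizer_singleton_iff] at hc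
    rw [Subgroup.mem_centralizer_singleton_iff, ← map_mul, hc, map_mul]
  exact (Subgroup.index_dvd_of_le h1).trans (Subgroup.index_map_dvd _ hπ)

theorem index_centralizer_pow_dvd [Finite G] (x : G) (n : ℕ) :
    (Subgroup.centralizer ({x ^ n} : Set G)).index ∣ (Subgroup.centralizer ({x} : Set G)).index := by
  apply Subgroup.index_dvd_of_le
  intro c hc
  rw [Subgroup.mem_centralizer_singleton_iff] at hc ⊢
  have : Commute c x := hc
  exact (this.pow_right n).eq

/-- If the normal closure of `g` in a subgroup `H ≥ M` is solvable, then `g` centralizes the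
non-solvable minimal normal subgroup `M`. -/
theorem le_centralizer_of_isSolvable_normalClosure [Finite G] (M : Subgroup G) [hMn : M.Normal]
    (hmin : ∀ L : Subgroup G, L.Normal → L ≤ M → L ≠ ⊥ → L = M)
    (hMns : ¬ Group.IsSolvable ↥M) (g : G) (H : Subgroup G) (hMH : M ≤ H) (hgH : g ∈ H)
    (hsol : Group.IsSolvable ↥(Subgroup.normalClosure ({(⟨g, hgH⟩ : H)} : Set H))) :
    M ≤ Subgroup.centralizer ({g} : Set G) := by
  set N' : Subgroup G := (Subgroup.normalClosure ({(⟨g, hgH⟩ : H)} : Set H)).map H.subtype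
    with hN'
  have hN'sol : Group.IsSolvable ↥N' := isSolvable_map _ _ hsol
  have hKsol : Group.IsSolvable ↥(N' ⊓ M) := isSolvable_of_le inf_le_left hN'sol
  have hgN : (⟨g, hgH⟩ : H) ∈ Subgroup.normalClosure ({(⟨g, hgH⟩ : H)} : Set H) :=
    Subgroup.subset_normalClosure (Set.mem_singleton _)
  have hnorm : ∀ m ∈ M, ∀ k ∈ N', m * k * m⁻¹ ∈ N' := by
    intro m hm k hk
    rw [hN', Subgroup.mem_map] at hk ⊢
    obtain ⟨n, hn, rfl⟩ := hk
    refine ⟨⟨m, hMH hm⟩ * n * ⟨m, hMH hm⟩⁻¹, ?_, ?_⟩
    · exact Subgroup.normalClosure_normal.conj_mem _ hn _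
    · simp
  have hK : N' ⊓ M = ⊥ := by
    apply eq_bot_of_isSolvable_of_minimal M hmin hMns _ inf_le_right _ hKsol
    intro m hm k hk
    rw [Subgroup.mem_inf] at hk ⊢
    exact ⟨hnorm m hm k hk.1, hMn.conj_mem _ hk.2 m⟩
  intro m hm
  rw [mem_centralizer_singleton_iff']
  have h1 : m * g * m⁻¹ * g⁻¹ ∈ N' ⊓ M := by
    rw [Subgroup.mem_inf]
    constructor
    · apply N'.mul_mem
      · apply hnorm m hm
        rw [hN', Subgroup.mem_map]
        exact ⟨_, hgN, rfl⟩
      · apply N'.inv_mem
        rw [hN', Subgroup.mem_map]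
        exact ⟨_, hgN, rfl⟩
    · have : m * g * m⁻¹ * g⁻¹ = m * (g * m⁻¹ * g⁻¹) := by group
      rw [this]
      exact M.mul_mem hm (hMn.conj_mem _ (M.inv_mem hm) g)
  rw [hK, Subgroup.mem_bot] at h1
  calc m * g = (m * g * m⁻¹ * g⁻¹) * (g * m) := by group
    _ = g * m := by rw [h1, one_mul]

/-! ### The coprime case -/

theorem index_dvd_of_sup_zpowers_eq_top [Finite G] (M : Subgroup G) [hMn : M.Normal] (g : G)
    (htop : M ⊔ Subgroup.zpowers g = ⊤) : M.index ∣ orderOf g := by
  rw [← Subgroup.relIndex_top_right, ← htop, Subgroup.relIndex_sup_left, ← Nat.card_zpowers]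
  exact Subgroup.relIndex_dvd_card _ _

theorem sylow_le_of_index_coprime [Finite G] {p : ℕ} [hp : Fact p.Prime] (M : Subgroup G)
    [hMn : M.Normal] (hcop : Nat.Coprime M.index p) (P : Sylow p G) :
    (P : Subgroup G) ≤ M := by
  intro t ht
  obtain ⟨k, hk⟩ := (IsPGroup.iff_orderOf.mp P.2) ⟨t, ht⟩
  rw [Subgroup.orderOf_mk] at hk
  have h1 : Nat.Coprime M.index (orderOf t) := by
    rw [hk]; exact Nat.Coprime.pow_right k hcop
  obtain ⟨m, hm⟩ := exists_pow_eq_self_of_coprime h1
  rw [← hm]
  exact M.pow_mem (M.pow_index_mem t) m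

theorem le_centralizer_of_coprime [Finite G] {p r : ℕ} [hp : Fact p.Prime] [hr : Fact r.Prime]
    (hpr : r ≠ p) (M : Subgroup G) [hMn : M.Normal]
    (hmin : ∀ L : Subgroup G, L.Normal → L ≤ M → L ≠ ⊥ → L = M)
    (hMns : ¬ Group.IsSolvable ↥M) (g : G) (hg : orderOf g = r)
    (htop : M ⊔ Subgroup.zpowers g = ⊤) (hrM : ¬ r ∣ Nat.card M) (j : ℕ)
    (hj : (Subgroup.centralizer ({g} : Set G)).index = p ^ j) :
    M ≤ Subgroup.centralizer ({g} : Set G) := by
  set C := Subgroup.centralizer ({g} : Set G) with hC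
  have hrp : Nat.Coprime r p := (Nat.coprime_primes hr.out hp.out).mpr hpr
  have hidx : M.index ∣ r := hg ▸ index_dvd_of_sup_zpowers_eq_top M g htop
  have hcop : Nat.Coprime M.index p := Nat.Coprime.coprime_dvd_left hidx hrp
  have hPM : ∀ P : Sylow p G, (P : Subgroup G) ≤ M := sylow_le_of_index_coprime M hcop
  -- the number of Sylow p-subgroups is prime to r
  have hcard : ¬ r ∣ Nat.card (Sylow p G) := by
    intro h
    obtain ⟨P⟩ : Nonempty (Sylow p G) := inferInstance
    rw [P.card_eq_index_normalizer,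
      index_eq_relIndex_of_sup_eq_top _ M (Sylow.normalizer_sup_eq_top' P (hPM P))] at h
    exact hrM (h.trans (Subgroup.relIndex_dvd_card _ _))
  -- g normalizes some Sylow p-subgroup
  have hZ : IsPGroup r (Subgroup.zpowers g) :=
    IsPGroup.of_card (n := 1) (by rw [Nat.card_zpowers, hg, pow_one])
  obtain ⟨P₁, hP₁⟩ := hZ.nonempty_fixed_point_of_prime_not_dvd_card (Sylow p G) hcard
  have hgP₁ : g • P₁ = P₁ := by
    have := hP₁ ⟨g, Subgroup.mem_zpowers g⟩
    exact this
  -- g normalizes all Sylow p-subgroups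
  have hall : ∀ P : Sylow p G, g • P = P := by
    intro P
    obtain ⟨y, hy⟩ := MulAction.exists_smul_eq G P₁ P
    obtain ⟨c, hc, t, ht, rfl⟩ := exists_mul_of_index_prime_pow C j hj P₁ y
    have ht' : t • P₁ = P₁ := Sylow.smul_eq_iff_mem_normalizer.mpr (Subgroup.le_normalizer ht)
    rw [mul_smul, ht'] at hy
    rw [← hy, ← mul_smul]
    rw [hC, mem_centralizer_singleton_iff'] at hc
    rw [← hc, mul_smul, hgP₁]
  -- the kernel of the action on Sylow subgroups
  set Kp : Subgroup G := (MulAction.toPermHom G (Sylow p G)).ker with hKp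
  have hmemK : ∀ n : G, n ∈ Kp ↔ ∀ P : Sylow p G, n • P = P := by
    intro n
    rw [hKp, MonoidHom.mem_ker, Equiv.Perm.ext_iff]
    simp only [MulAction.toPermHom_apply, MulAction.toPerm_apply, Equiv.Perm.coe_one, id_eq]
  have hgK : g ∈ Kp := (hmemK g).mpr hall
  have hKn : Kp.Normal := MonoidHom.normal_ker _
  have hcomm : ∀ m ∈ M, m * g * m⁻¹ * g⁻¹ ∈ Kp ⊓ M := by
    intro m hm
    rw [Subgroup.mem_inf]
    constructor
    · exact Kp.mul_mem (hKn.conj_mem _ hgK m) (Kp.inv_mem hgK)
    · have : m * g * m⁻¹ * g⁻¹ = m * (g * m⁻¹ * g⁻¹) := by group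
      rw [this]
      exact M.mul_mem hm (hMn.conj_mem _ (M.inv_mem hm) g)
  by_cases hL : Kp ⊓ M = ⊥
  · intro m hm
    rw [mem_centralizer_singleton_iff']
    have h1 := hcomm m hm
    rw [hL, Subgroup.mem_bot] at h1
    calc m * g = (m * g * m⁻¹ * g⁻¹) * (g * m) := by group
      _ = g * m := by rw [h1, one_mul]
  · have hLM : Kp ⊓ M = M := hmin _ inferInstance inf_le_right hL
    have hMK : M ≤ Kp := by rw [← hLM]; exact inf_le_left
    have hKtop : Kp = ⊤ := by
      rw [eq_top_iff, ← htop]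
      apply sup_le hMK
      rw [Subgroup.zpowers_le]
      exact hgK
    have hP₁n : (P₁ : Subgroup G).Normal := by
      rw [← Subgroup.normalizer_eq_top_iff, eq_top_iff]
      intro y _
      apply Sylow.smul_eq_iff_mem_normalizer.mp
      apply (hmemK y).mp
      rw [hKtop]; trivial
    by_cases hb : (P₁ : Subgroup G) = ⊥
    · have hpG : ¬ p ∣ Nat.card G := fun h => P₁.ne_bot_of_dvd_card h hb
      have hj0 : j = 0 := by
        by_contra hj0
        apply hpG
        have h1 : p ∣ p ^ j := dvd_pow_self p hj0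
        exact h1.trans (hj ▸ Subgroup.index_dvd_card C)
      rw [hj0, pow_zero, Subgroup.index_eq_one] at hj
      rw [hj]; exact le_top
    · exfalso
      have hPM' : (P₁ : Subgroup G) = M := hmin _ hP₁n (hPM P₁) hb
      apply hMns
      haveI : Group.IsNilpotent ↥(P₁ : Subgroup G) := P₁.2.isNilpotent
      have : Group.IsSolvable ↥(P₁ : Subgroup G) := inferInstance
      rwa [hPM'] at this

end Cfsg.Agent.Lib.Helper6.Kazarin
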