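import Mathlib
import Cfsg.Prelude.Def_Blocks
import Cfsg.Agent.S0142
import Cfsg.Agent.Lib.Helper6.BlkLocal
import Cfsg.Agent.Lib.Helper6.BlkOrth2
import Cfsg.Agent.Lib.Helper6.Mult
import Cfsg.Agent.Lib.Helper6.Orthogonality
import Cfsg.Agent.Lib.Helper6.DegreeDvd
import Cfsg.Agent.Lib.Helper6.KazA

/-!
# Kazarin's theorem: the block-theoretic step

`G = M⟨g⟩` with `g` of prime order `r`, the class of `g` of size a power of a prime `p ≠ r`,
and `r ∣ |M|`: then `g` centralizes the minimal normal subgroup `M`.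
-/

set_option autoImplicit false
set_option linter.style.haveILetI false

namespace Cfsg.Agent.Lib.Helper6.Kazarin

open Cfsg.Agent.Lib.Helper6
open scoped ComplexConjugate

/-- a maximal ideal of the algebraic integers above `p` exists -/
theorem exists_modular_ideal (p : ℕ) [hp : Fact p.Prime] :
    ∃ M : Ideal Cfsg.AlgInt, Cfsg.IsPModular p M := by
  have hne : Ideal.span {(p : Cfsg.AlgInt)} ≠ ⊤ := by
    intro h
    rw [Ideal.span_singleton_eq_top] at h
    obtain ⟨u, hu⟩ := h.exists_right_inv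
    have hu' : (p : ℂ) * (u : ℂ) = 1 := by
      have := congrArg (fun x : Cfsg.AlgInt => (x : ℂ)) hu
      simpa using this
    have hp0 : (p : ℂ) ≠ 0 := by exact_mod_cast hp.out.ne_zero
    have hval : (u : ℂ) = algebraMap ℚ ℂ (1 / p : ℚ) := by
      have : (u : ℂ) = 1 / p := by
        rw [eq_div_iff hp0, mul_comm]; exact hu'
      rw [this]; simp
    have hint : IsIntegral ℤ (algebraMap ℚ ℂ (1 / p : ℚ)) := hval ▸ u.2
    have hint' : IsIntegral ℤ (1 / p : ℚ) :=
      (isIntegral_algebraMap_iff (A := ℚ) (B := ℂ) (R := ℤ) (algebraMap ℚ ℂ).injective).1 hint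
    obtain ⟨n, hn⟩ := IsIntegrallyClosed.isIntegral_iff.1 hint'
    have : (n : ℚ) * p = 1 := by
      have hp0' : (p : ℚ) ≠ 0 := by exact_mod_cast hp.out.ne_zero
      simp at hn
      rw [hn]; field_simp
    have h2 : (n * p : ℤ) = 1 := by exact_mod_cast this
    have := Int.eq_one_or_neg_one_of_mul_eq_one' h2
    have hp1 := hp.out.one_lt
    omega
  obtain ⟨M, hM, hle⟩ := Ideal.exists_le_maximal _ hne
  exact ⟨M, hp.out, hM, hle (Ideal.subset_span rfl)⟩

variable {G : Type*} [Group G]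

/-- if `ρ g` is a scalar then all commutators `[y, g]` lie in the kernel of `ρ` -/
theorem comm_mem_ker_of_scalar {V : Type*} [AddCommGroup V] [Module ℂ V]
    (ρ : Representation ℂ G V) (g : G) (ω : ℂ)
    (hω : ρ g = ω • (LinearMap.id : V →ₗ[ℂ] V)) (y : G) :
    y * g * y⁻¹ * g⁻¹ ∈ MonoidHom.ker (ρ : G →* _) := by
  rw [MonoidHom.mem_ker, map_mul, map_mul, map_mul]
  have hcomm : ρ y * ρ g = ρ g * ρ y := by
    rw [hω]
    ext v
    simp
  rw [hcomm, mul_assoc (ρ g), ← map_mul, mul_inv_cancel, map_one, mul_one, ← map_mul,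
    mul_inv_cancel, map_one]

/-- elements of `M ⊔ ⟨g⟩` for `M` normal in a finite group -/
theorem exists_mul_pow_of_sup_eq_top [Finite G] (M : Subgroup G) [hMn : M.Normal] (g : G)
    (htop : M ⊔ Subgroup.zpowers g = ⊤) (x : G) : ∃ m ∈ M, ∃ i : ℕ, x = m * g ^ i := by
  have hx : x ∈ M ⊔ Subgroup.zpowers g := by rw [htop]; trivial
  rw [Subgroup.mem_sup_of_normal_left] at hx
  obtain ⟨m, hm, z, hz, rfl⟩ := hx
  rw [← mem_powers_iff_mem_zpowers, Submonoid.mem_powers_iff] at hz
  obtain ⟨i, rfl⟩ := hz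
  exact ⟨m, hm, i, rfl⟩

/-- An irreducible representation of `G = M⟨g⟩` which is trivial on `M` and scalar at `g` is
linear. -/
theorem linear_of_scalar [Finite G] (M : Subgroup G) [hMn : M.Normal] (g : G)
    (htop : M ⊔ Subgroup.zpowers g = ⊤) {n : ℕ} (ρ : Representation ℂ G (Fin n → ℂ))
    [ρ.IsIrreducible] (hM : M ≤ MonoidHom.ker (ρ : G →* _)) (ω : ℂ)
    (hω : ρ g = ω • (LinearMap.id : (Fin n → ℂ) →ₗ[ℂ] (Fin n → ℂ))) :
    n = 1 ∧ ω ^ orderOf g = 1 ∧ ∀ m ∈ M, ∀ i : ℕ, ρ.character (m * g ^ i) = ω ^ i := by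
  classical
  have : Fintype G := Fintype.ofFinite G
  have hrho : ∀ m ∈ M, ∀ i : ℕ,
      ρ (m * g ^ i) = (ω ^ i) • (LinearMap.id : (Fin n → ℂ) →ₗ[ℂ] (Fin n → ℂ)) := by
    intro m hm i
    have h1 : ρ m = 1 := MonoidHom.mem_ker.mp (hM hm)
    rw [map_mul, h1, one_mul, map_pow, hω]
    ext v
    simp [smul_pow]
  have hchar : ∀ m ∈ M, ∀ i : ℕ, ρ.character (m * g ^ i) = (n : ℂ) * ω ^ i := by
    intro m hm i
    unfold Representation.character
    rw [hrho m hm i]
    simp [mul_comm]
  have hn0 : n ≠ 0 := by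
    intro h0
    have h1 := classInner_irr_self ρ
    unfold Cfsg.classInner at h1
    have hz : ∀ x : G, ρ.character x = 0 := by
      intro x
      obtain ⟨m, hm, i, rfl⟩ := exists_mul_pow_of_sup_eq_top M g htop x
      rw [hchar m hm i, h0]; simp
    simp [hz] at h1
  -- ω is a root of unity
  have hωr : ω ^ orderOf g = 1 := by
    have h1 := hrho 1 M.one_mem (orderOf g)
    rw [one_mul, pow_orderOf_eq_one, map_one] at h1
    have h2 := congrArg (fun f : (Fin n → ℂ) →ₗ[ℂ] (Fin n → ℂ) =>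
      f (fun _ => (1 : ℂ)) ⟨0, Nat.pos_of_ne_zero hn0⟩) h1
    simp at h2
    exact h2.symm
  have hnorm : ‖ω‖ = 1 := norm_eq_one_of_pow_eq_one (orderOf_pos g) hωr
  have hn1 : n = 1 := by
    have h1 := classInner_irr_self ρ
    unfold Cfsg.classInner at h1
    have hG := card_ne_zero_complex G
    have h2 : ∑ x : G, ρ.character x * conj (ρ.character x)
        = (Nat.card G : ℂ) * ((n : ℂ) * (n : ℂ)) := by
      have : ∀ x : G, ρ.character x * conj (ρ.character x) = (n : ℂ) * (n : ℂ) := by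
        intro x
        obtain ⟨m, hm, i, rfl⟩ := exists_mul_pow_of_sup_eq_top M g htop x
        rw [hchar m hm i, map_mul, Complex.conj_natCast]
        have h3 : ω ^ i * conj (ω ^ i) = 1 := by
          rw [Complex.mul_conj, Complex.normSq_eq_norm_sq, norm_pow, hnorm]
          simp
        calc (n : ℂ) * ω ^ i * ((n : ℂ) * conj (ω ^ i))
            = (n : ℂ) * (n : ℂ) * (ω ^ i * conj (ω ^ i)) := by ring
          _ = (n : ℂ) * (n : ℂ) := by rw [h3, mul_one]
      rw [Finset.sum_congr rfl (fun x _ => this x)]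
      simp [Nat.card_eq_fintype_card]
    rw [h2] at h1
    have h3 : ((n : ℂ) * (n : ℂ)) = 1 := by
      field_simp at h1
      linear_combination h1
    have h4 : n * n = 1 := by exact_mod_cast h3
    rcases Nat.eq_zero_or_pos n with h | h
    · rw [h] at h4; simp at h4
    · nlinarith
  refine ⟨hn1, hωr, ?_⟩
  intro m hm i
  rw [hchar m hm i, hn1]
  simp

/-- The block-theoretic contradiction. -/
theorem block_case [Finite G] {p r : ℕ} (hp : p.Prime) [hr : Fact r.Prime] (hpr : r ≠ p)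
    (M : Subgroup G) [hMn : M.Normal] (g : G) (hg : orderOf g = r)
    (htop : M ⊔ Subgroup.zpowers g = ⊤) (hrM : r ∣ Nat.card M) (j : ℕ)
    (hj : (Subgroup.centralizer ({g} : Set G)).index = p ^ j)
    (hK : ∀ K : Subgroup G, K.Normal → (∀ y : G, y * g * y⁻¹ * g⁻¹ ∈ K) → M ≤ K) : False := by
  classical
  have : Fintype G := Fintype.ofFinite G
  have : Fintype (Cfsg.IrrCharacter G) := Fintype.ofFinite _
  obtain ⟨Mr, hMr⟩ := exists_modular_ideal r
  let χ₀ : Cfsg.IrrCharacter G := ⟨fun _ => (1 : ℂ), isIrrCharacter_one⟩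
  obtain ⟨y₀, hy₀⟩ := exists_prime_orderOf_dvd_card' (G := M) r hrM
  set B : Finset (Cfsg.IrrCharacter G) :=
    Finset.univ.filter (· ∈ Cfsg.blockOf Mr (χ₀ : G → ℂ)) with hB
  have horth : ∀ y : G, r ∣ orderOf y →
      ∑ χ ∈ B, (χ : G → ℂ) 1 * conj ((χ : G → ℂ) y) = 0 := by
    intro y hy
    exact weak_block_orthogonality_finset hMr χ₀ 1 y
      (by rw [orderOf_one]; exact Nat.Prime.not_dvd_one hr.out) hy
  let T : Cfsg.IrrCharacter G → ℂ := fun χ =>
    (χ : G → ℂ) 1 * conj ((χ : G → ℂ) (y₀ : G)) +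
      ∑ k ∈ Finset.Ico 1 r, (χ : G → ℂ) 1 * conj ((χ : G → ℂ) (g ^ k))
  have hT0 : ∑ χ ∈ B, T χ = 0 := by
    simp only [T]
    rw [Finset.sum_add_distrib, horth _ (by rw [Subgroup.orderOf_coe, hy₀]), Finset.sum_comm,
      zero_add]
    apply Finset.sum_eq_zero
    intro k hk
    apply horth
    rw [Finset.mem_Ico] at hk
    have hcop : (orderOf g).Coprime k := by
      rw [hg]
      exact (Nat.Prime.coprime_iff_not_dvd hr.out).mpr
        (Nat.not_dvd_of_pos_of_lt (by omega) hk.2)
    rw [hcop.orderOf_pow, hg]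
  have hχ₀B : χ₀ ∈ B := by
    rw [hB, Finset.mem_filter]
    refine ⟨Finset.mem_univ _, ?_⟩
    intro x
    rw [sub_self]
    exact memLocalIdeal_zero hMr
  have hr1 : 1 ≤ r := hr.out.one_lt.le
  have hTχ₀ : T χ₀ = (r : ℂ) := by
    simp only [T, χ₀, map_one, mul_one, Finset.sum_const, Nat.card_Ico, nsmul_eq_mul]
    rw [Nat.cast_sub hr1]
    ring
  -- the main claim
  have hmain : ∀ χ ∈ B, χ ≠ χ₀ → ∃ s : ℂ, IsIntegral ℤ s ∧ T χ = (p : ℂ) * s := by
    intro χ hχ hne
    obtain ⟨n, ρ, hirr, hchar⟩ := χ.2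
    have h1 : (χ : G → ℂ) 1 = (n : ℂ) := by
      rw [← hchar, Representation.char_one]
      simp
    have hconjint : ∀ y : G, IsIntegral ℤ (conj ((χ : G → ℂ) y)) := by
      intro y
      rw [← hchar, ← character_inv]
      exact isIntegral_character ρ y⁻¹
    by_cases hpn : p ∣ n
    · obtain ⟨m, rfl⟩ := hpn
      refine ⟨(m : ℂ) * (conj ((χ : G → ℂ) (y₀ : G)) +
        ∑ k ∈ Finset.Ico 1 r, conj ((χ : G → ℂ) (g ^ k))), ?_, ?_⟩
      · apply IsIntegral.mul
        · exact isIntegral_algebraMap (x := (m : ℤ)) |> fun h => by simpa using h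
        · apply IsIntegral.add (hconjint _)
          apply IsIntegral.sum
          intro k _
          exact hconjint _
      · simp only [T]
        rw [h1, ← Finset.mul_sum]
        push_cast
        ring
    · refine ⟨0, isIntegral_zero, ?_⟩
      rw [mul_zero]
      -- χ(g) ≠ 0
      have hsame : Cfsg.SameBlock Mr (χ₀ : G → ℂ) (χ : G → ℂ) := (Finset.mem_filter.mp hχ).2
      have hn0 : (n : ℂ) ≠ 0 := by
        intro h
        apply hpn
        have : n = 0 := by exact_mod_cast h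
        rw [this]; exact dvd_zero p
      have hχg : (χ : G → ℂ) g ≠ 0 := by
        intro h0
        have h2 := hsame g
        unfold Cfsg.centralChar at h2
        rw [h0, mul_zero, zero_div, sub_zero, hj] at h2
        simp only [χ₀, mul_one, div_one] at h2
        have h3 : Cfsg.MemLocalIdeal Mr (((p ^ j : ℕ) : ℂ)) := h2
        rw [memLocalIdeal_natCast_iff hMr] at h3
        have h4 : r ∣ p := Nat.Prime.dvd_of_dvd_pow hr.out h3
        exact hpr ((Nat.prime_dvd_prime_iff_eq hr.out hp).mp h4)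
      -- Burnside
      have hcop : Nat.Coprime (Module.finrank ℂ (Fin n → ℂ))
          (Subgroup.centralizer ({g} : Set G)).index := by
        rw [hj, Module.finrank_fin_fun]
        exact Nat.Coprime.pow_right j (Nat.Coprime.symm ((Nat.Prime.coprime_iff_not_dvd hp).mpr hpn))
      rcases Cfsg.Agent.S0142.result ρ g hcop with h0 | h0
      · exfalso; apply hχg; rw [← hchar]; exact h0
      · obtain ⟨ω, hω⟩ := (norm_character_eq_iff ρ g).mp h0
        have hMker : M ≤ MonoidHom.ker (ρ : G →* _) :=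
          hK _ (MonoidHom.normal_ker _) (comm_mem_ker_of_scalar ρ g ω hω)
        obtain ⟨hn1, hωr, hval⟩ := linear_of_scalar M g htop ρ hMker ω hω
        rw [hg] at hωr
        have hω1 : ω ≠ 1 := by
          intro h
          apply hne
          apply Subtype.ext
          funext x
          obtain ⟨m, hm, i, rfl⟩ := exists_mul_pow_of_sup_eq_top M g htop x
          rw [← hchar, hval m hm i, h]
          simp [χ₀]
        have hgeom : ∑ k ∈ Finset.range r, ω ^ k = 0 := by
          have h2 := mul_geom_sum ω r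
          rw [hωr, sub_self] at h2
          rcases mul_eq_zero.mp h2 with h3 | h3
          · exact absurd (sub_eq_zero.mp h3) hω1
          · exact h3
        have hy₀v : (χ : G → ℂ) (y₀ : G) = 1 := by
          have := hval (y₀ : G) y₀.2 0
          rw [pow_zero, mul_one, pow_zero] at this
          rw [← hchar]; exact this
        have hgk : ∀ k : ℕ, (χ : G → ℂ) (g ^ k) = ω ^ k := by
          intro k
          have := hval 1 M.one_mem k
          rw [one_mul] at this
          rw [← hchar]; exact this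
        simp only [T]
        rw [h1, hn1, hy₀v]
        simp only [hgk]
        rw [Finset.range_eq_Ico, Finset.sum_eq_sum_Ico_succ_bot hr.out.pos] at hgeom
        have h5 : (1 : ℂ) + ∑ k ∈ Finset.Ico 1 r, ω ^ k = 0 := by
          simpa using hgeom
        have h6 : conj ((1 : ℂ) + ∑ k ∈ Finset.Ico 1 r, ω ^ k) = 0 := by rw [h5, map_zero]
        rw [map_add, map_one, map_sum] at h6
        simp only [Nat.cast_one, one_mul, map_one]
        exact h6
  -- conclusion
  rw [← Finset.add_sum_erase B _ hχ₀B, hTχ₀] at hT0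
  have hS : ∃ S : ℂ, IsIntegral ℤ S ∧ ∑ χ ∈ B.erase χ₀, T χ = (p : ℂ) * S := by
    have hmain' : ∀ χ : Cfsg.IrrCharacter G, χ ∈ B.erase χ₀ →
        ∃ s : ℂ, IsIntegral ℤ s ∧ T χ = (p : ℂ) * s := by
      intro χ hχ
      exact hmain χ (Finset.mem_of_mem_erase hχ) (Finset.ne_of_mem_erase hχ)
    choose! s hs using hmain'
    refine ⟨∑ χ ∈ B.erase χ₀, s χ, ?_, ?_⟩
    · apply IsIntegral.sum
      intro χ hχ
      exact (hs χ hχ).1
    · rw [Finset.mul_sum]
      apply Finset.sum_congr rfl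
      intro χ hχ
      exact (hs χ hχ).2
  obtain ⟨S, hSint, hSeq⟩ := hS
  rw [hSeq] at hT0
  have hp0 : (p : ℂ) ≠ 0 := by exact_mod_cast hp.ne_zero
  have h1 : -S = ((r : ℕ) : ℂ) / ((p : ℕ) : ℂ) := by
    field_simp
    linear_combination -hT0
  have h2 : IsIntegral ℤ (((r : ℕ) : ℂ) / ((p : ℕ) : ℂ)) := by
    rw [← h1]; exact hSint.neg
  have h3 := nat_dvd_of_isIntegral_div hp.ne_zero h2
  exact hpr ((Nat.prime_dvd_prime_iff_eq hp hr.out).mp h3).symm

end Cfsg.Agent.Lib.Helper6.Kazarin
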