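import Mathlib
import Cfsg.Agent.Lib.Helper6.KazA
import Cfsg.Agent.Lib.Helper6.KazB

/-!
# Kazarin's theorem

If the conjugacy class of `x` in the finite group `G` has prime power size, then the normal
closure of `x` is solvable.
-/

set_option autoImplicit false
set_option linter.style.haveILetI false

namespace Cfsg.Agent.Lib.Helper6.Kazarin

universe u

section

variable {G : Type*} [Group G]

theorem le_centralizer_of_dvd [Finite G] {p r : ℕ} (hp : p.Prime) [hr : Fact r.Prime]
    (hpr : r ≠ p) (M : Subgroup G) [hMn : M.Normal]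
    (hmin : ∀ L : Subgroup G, L.Normal → L ≤ M → L ≠ ⊥ → L = M)
    (g : G) (hg : orderOf g = r) (htop : M ⊔ Subgroup.zpowers g = ⊤) (hrM : r ∣ Nat.card M)
    (j : ℕ) (hj : (Subgroup.centralizer ({g} : Set G)).index = p ^ j) :
    M ≤ Subgroup.centralizer ({g} : Set G) := by
  by_contra hnot
  apply block_case hp hpr M g hg htop hrM j hj
  intro K hKn hKc
  by_cases hL : K ⊓ M = ⊥
  · exfalso
    apply hnot
    intro m hm
    rw [mem_centralizer_singleton_iff']
    have h1 : m * g * m⁻¹ * g⁻¹ ∈ K ⊓ M := by
      rw [Subgroup.mem_inf]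
      refine ⟨hKc m, ?_⟩
      have : m * g * m⁻¹ * g⁻¹ = m * (g * m⁻¹ * g⁻¹) := by group
      rw [this]
      exact M.mul_mem hm (hMn.conj_mem _ (M.inv_mem hm) g)
    rw [hL, Subgroup.mem_bot] at h1
    calc m * g = (m * g * m⁻¹ * g⁻¹) * (g * m) := by group
      _ = g * m := by rw [h1, one_mul]
  · have := hmin _ inferInstance inf_le_right hL
    rw [← this]
    exact inf_le_left

theorem card_quotient_lt [Finite G] (C : Subgroup G) [C.Normal] (hC : C ≠ ⊥) :
    Nat.card (G ⧸ C) < Nat.card G := by
  rw [← Subgroup.index_eq_card, ← Subgroup.index_mul_card C]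
  have h1 : 1 < Nat.card C := by
    rcases Nat.lt_or_ge 1 (Nat.card C) with h | h
    · exact h
    · exfalso
      apply hC
      rw [← Subgroup.card_eq_one]
      have : 0 < Nat.card C := Nat.card_pos
      omega
  have h2 : 0 < C.index := Nat.pos_of_ne_zero Subgroup.index_ne_zero_of_finite
  nlinarith

theorem card_subgroup_lt [Finite G] (H : Subgroup G) (hH : H ≠ ⊤) : Nat.card H < Nat.card G := by
  rcases Nat.lt_or_ge (Nat.card H) (Nat.card G) with h | h
  · exact h
  · exact absurd (Subgroup.eq_top_of_card_eq H (le_antisymm (Subgroup.card_le_card_group H) h)) hH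

end

/-- Kazarin's theorem, inductive form. -/
theorem kazarin_aux {p : ℕ} (hp : p.Prime) :
    ∀ (n : ℕ) (G : Type u) [Group G] [Finite G], Nat.card G = n →
      ∀ (x : G) (k : ℕ), (Subgroup.centralizer ({x} : Set G)).index = p ^ k →
        Group.IsSolvable ↥(Subgroup.normalClosure ({x} : Set G)) := by
  intro n
  induction n using Nat.strong_induction_on with
  | _ n ih =>
  intro G _ _ hn x k hk
  by_contra hns
  haveI : Fact p.Prime := ⟨hp⟩
  set N := Subgroup.normalClosure ({x} : Set G) with hN
  have hNn : N.Normal := Subgroup.normalClosure_normal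
  have hxN : x ∈ N := Subgroup.subset_normalClosure (Set.mem_singleton x)
  have hNbot : N ≠ ⊥ := by
    intro h
    apply hns
    rw [h]
    infer_instance
  -- a minimal normal subgroup of G inside N
  obtain ⟨M, hMN', hMmin⟩ := Finite.exists_le_minimal
    (p := fun L : Subgroup G => L.Normal ∧ L ≠ ⊥ ∧ L ≤ N) (a := N) ⟨hNn, hNbot, le_rfl⟩
  obtain ⟨hMn, hMbot, hMN⟩ := hMmin.prop
  haveI := hMn
  have hmin : ∀ L : Subgroup G, L.Normal → L ≤ M → L ≠ ⊥ → L = M := by
    intro L hLn hLM hLb
    exact le_antisymm hLM (hMmin.le_of_le ⟨hLn, hLb, hLM.trans hMN⟩ hLM)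
  -- image of N in a quotient by a nontrivial normal subgroup is solvable
  have hquot : ∀ (C : Subgroup G) [C.Normal], C ≠ ⊥ →
      Group.IsSolvable ↥(N.map (QuotientGroup.mk' C)) := by
    intro C _ hC
    have hlt : Nat.card (G ⧸ C) < n := hn ▸ card_quotient_lt C hC
    have hdvd := index_centralizer_map_dvd (QuotientGroup.mk' C)
      (QuotientGroup.mk'_surjective C) x
    rw [hk] at hdvd
    obtain ⟨k', _, hk'⟩ := (Nat.dvd_prime_pow hp).mp hdvd
    have := ih _ hlt (G ⧸ C) rfl (QuotientGroup.mk' C x) k' hk'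
    rw [hN, Subgroup.map_normalClosure _ _ (QuotientGroup.mk'_surjective C), Set.image_singleton]
    exact this
  -- M is not solvable
  have hMns : ¬ Group.IsSolvable ↥M := by
    intro hMs
    apply hns
    have hq := hquot M hMbot
    refine Group.isSolvable_of_ker_le_range (Subgroup.inclusion hMN)
      ((QuotientGroup.mk' M).subgroupMap N) ?_
    intro y hy
    rw [MonoidHom.mem_ker] at hy
    have h1 : (QuotientGroup.mk' M) (y : G) = 1 := by
      have := congrArg Subtype.val hy
      simpa using this
    rw [QuotientGroup.mk'_apply, QuotientGroup.eq_one_iff] at h1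
    exact ⟨⟨y, h1⟩, rfl⟩
  -- an element g of prime order r, a power of x
  have hx1 : x ≠ 1 := by
    intro h
    apply hNbot
    rw [eq_bot_iff, hN, h]
    apply Subgroup.normalClosure_le_normal
    intro y hy
    rw [Set.mem_singleton_iff] at hy
    rw [hy]; exact Subgroup.one_mem _
  have hox : orderOf x ≠ 1 := fun h => hx1 (orderOf_eq_one_iff.mp h)
  set r := (orderOf x).minFac with hr
  have hrp : r.Prime := Nat.minFac_prime hox
  haveI : Fact r.Prime := ⟨hrp⟩
  set g := x ^ (orderOf x / r) with hgdef
  have hg : orderOf g = r :=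
    orderOf_pow_orderOf_div (orderOf_pos x).ne' (Nat.minFac_dvd _)
  have hg1 : g ≠ 1 := by
    intro h
    rw [h, orderOf_one] at hg
    exact hrp.one_lt.ne hg
  have hgdvd := index_centralizer_pow_dvd x (orderOf x / r)
  rw [hk] at hgdvd
  obtain ⟨j, _, hj⟩ := (Nat.dvd_prime_pow hp).mp hgdvd
  -- Claim A: g centralizes M
  have hA : M ≤ Subgroup.centralizer ({g} : Set G) := by
    by_cases hrpeq : r = p
    · exact le_centralizer_of_pElement M hmin g 1 (by rw [hg, hrpeq, pow_one]) j hj
    · by_cases htop : M ⊔ Subgroup.zpowers g = ⊤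
      · by_cases hrM : r ∣ Nat.card M
        · exact le_centralizer_of_dvd hp hrpeq M hmin g hg htop hrM j hj
        · exact le_centralizer_of_coprime hrpeq M hmin hMns g hg htop hrM j hj
      · have hlt : Nat.card ↥(M ⊔ Subgroup.zpowers g) < n := hn ▸ card_subgroup_lt _ htop
        have hgH : g ∈ M ⊔ Subgroup.zpowers g :=
          Subgroup.mem_sup_right (Subgroup.mem_zpowers g)
        have hHle : M ⊔ Subgroup.zpowers g ≤ Subgroup.centralizer ({g} : Set G) ⊔ M := by
          apply sup_le le_sup_right
          apply le_trans _ le_sup_left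
          rw [Subgroup.zpowers_le, Subgroup.mem_centralizer_singleton_iff]
        have hdvd := index_centralizer_subgroup_dvd M g _ le_sup_left hHle hgH
        rw [hj] at hdvd
        obtain ⟨j', _, hj'⟩ := (Nat.dvd_prime_pow hp).mp hdvd
        have hsol := ih _ hlt ↥(M ⊔ Subgroup.zpowers g) rfl ⟨g, hgH⟩ j' hj'
        exact le_centralizer_of_isSolvable_normalClosure M hmin hMns g _ le_sup_left hgH hsol
  -- the centralizer of M
  set C := Subgroup.centralizer (M : Set G) with hC
  have hgC : g ∈ C := by
    rw [hC, Subgroup.mem_centralizer_iff]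
    intro m hm
    have := hA hm
    rw [mem_centralizer_singleton_iff'] at this
    exact this
  have hCbot : C ≠ ⊥ := by
    intro h
    rw [h, Subgroup.mem_bot] at hgC
    exact hg1 hgC
  have hCM : C ⊓ M = ⊥ := by
    by_contra hne
    have h1 : C ⊓ M = M := hmin _ inferInstance inf_le_right hne
    have hMC : M ≤ C := by rw [← h1]; exact inf_le_left
    apply hMns
    apply Group.isSolvable_of_comm
    intro a b
    have ha := hMC a.2
    rw [hC, Subgroup.mem_centralizer_iff] at ha
    apply Subtype.ext
    exact (ha b b.2).symm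
  have hq := hquot C hCbot
  apply hMns
  let f : ↥M →* ↥(N.map (QuotientGroup.mk' C)) :=
    ((QuotientGroup.mk' C).subgroupMap N).comp (Subgroup.inclusion hMN)
  have hf : Function.Injective f := by
    rw [injective_iff_map_eq_one]
    intro m hm
    have h1 : (QuotientGroup.mk' C) (m : G) = 1 := by
      have := congrArg Subtype.val hm
      simpa [f] using this
    rw [QuotientGroup.mk'_apply, QuotientGroup.eq_one_iff] at h1
    have h2 : (m : G) ∈ C ⊓ M := Subgroup.mem_inf.mpr ⟨h1, m.2⟩
    rw [hCM, Subgroup.mem_bot] at h2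
    exact Subtype.ext h2
  exact Group.isSolvable_of_isSolvable_injective hf

/-- **Kazarin's theorem** (centralizer index form). -/
theorem kazarin {G : Type u} [Group G] [Finite G] (x : G) {p : ℕ} (hp : p.Prime) (k : ℕ)
    (hx : (Subgroup.centralizer ({x} : Set G)).index = p ^ k) :
    Group.IsSolvable ↥(Subgroup.normalClosure ({x} : Set G)) :=
  kazarin_aux hp _ G rfl x k hx

/-- **Kazarin's theorem** (class size form). -/
theorem kazarin' {G : Type u} [Group G] [Finite G] (x : G) {p : ℕ} (hp : p.Prime) (k : ℕ)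
    (hx : (ConjClasses.mk x).carrier.ncard = p ^ k) :
    Group.IsSolvable ↥(Subgroup.normalClosure ({x} : Set G)) := by
  apply kazarin x hp k
  rw [← Cfsg.Agent.Lib.Helper4.card_carrier_eq_index, Nat.card_coe_set_eq]
  exact hx

end Cfsg.Agent.Lib.Helper6.Kazarin
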