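import Mathlib
import Cfsg.Prelude.Def_Solvable
import Cfsg.Agent.Lib.Helper1.PCore
import Cfsg.Agent.Lib.Helper6.KazMain

/-!
# Consequences of Kazarin's theorem

If `|x^G|` is a power of `p` then `[x^G, x^G] ⊆ O_p(G)`.
-/

set_option autoImplicit false
set_option linter.style.haveILetI false

namespace Cfsg.Agent.Lib.Helper6.Kazarin

variable {G : Type*} [Group G]

/-- conjugating by a power -/
theorem pow_conj_eq_of_central {b c z : G} (hz : c * b * c⁻¹ * b⁻¹ = z) (hzc : c * z = z * c)
    (j : ℕ) : c ^ j * b * (c ^ j)⁻¹ = z ^ j * b := by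
  induction j with
  | zero => simp
  | succ j ih =>
    have h1 : c ^ (j + 1) * b * (c ^ (j + 1))⁻¹ = c * (c ^ j * b * (c ^ j)⁻¹) * c⁻¹ := by
      rw [pow_succ']; group
    rw [h1, ih]
    have h2 : c * b * c⁻¹ = z * b := by rw [← hz]; group
    have hzj : c * z ^ j = z ^ j * c := ((Commute.pow_right (show Commute c z from hzc)) j).eq
    calc c * (z ^ j * b) * c⁻¹ = (c * z ^ j) * b * c⁻¹ := by group
      _ = z ^ j * c * b * c⁻¹ := by rw [hzj]
      _ = z ^ j * (c * b * c⁻¹) := by group
      _ = z ^ j * (z * b) := by rw [h2]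
      _ = z ^ (j + 1) * b := by rw [pow_succ]; group

/-- If `O_p(G) = 1` and `B ⊴ G` has all commutators central in `B` and without `p`-torsion,
then `B` is a `p'`-group. -/
theorem not_dvd_card_of_central_commutators [Finite G] {p : ℕ} [hp : Fact p.Prime]
    (hO : ∀ L : Subgroup G, L.Normal → IsPGroup p L → L = ⊥) (B : Subgroup G) [hBn : B.Normal]
    (hc : ∀ b ∈ B, ∀ c ∈ B, ∀ d ∈ B, d * (c * b * c⁻¹ * b⁻¹) = (c * b * c⁻¹ * b⁻¹) * d)
    (hA : ∀ b ∈ B, ∀ c ∈ B, ∀ m : ℕ, (c * b * c⁻¹ * b⁻¹) ^ (p ^ m) = 1 →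
      c * b * c⁻¹ * b⁻¹ = 1) :
    ¬ p ∣ Nat.card B := by
  -- p-elements of B commute
  have hcomm : ∀ b ∈ B, ∀ c ∈ B, (∃ m : ℕ, c ^ (p ^ m) = 1) → c * b = b * c := by
    intro b hb c hcB ⟨m, hm⟩
    have h1 := pow_conj_eq_of_central (b := b) (c := c) rfl (hc b hb c hcB c hcB) (p ^ m)
    rw [hm] at h1
    have h2 : (c * b * c⁻¹ * b⁻¹) ^ (p ^ m) = 1 := by
      have : (c * b * c⁻¹ * b⁻¹) ^ (p ^ m) * b = b := by rw [← h1]; group
      exact mul_eq_right.mp this
    have h3 := hA b hb c hcB m h2
    calc c * b = (c * b * c⁻¹ * b⁻¹) * (b * c) := by group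
      _ = b * c := by rw [h3, one_mul]
  let T : Subgroup G :=
    { carrier := {b | b ∈ B ∧ ∃ m : ℕ, b ^ (p ^ m) = 1}
      one_mem' := ⟨B.one_mem, 0, by simp⟩
      mul_mem' := by
        rintro b c ⟨hb, mb, hmb⟩ ⟨hcB, mc, hmc⟩
        refine ⟨B.mul_mem hb hcB, mb + mc, ?_⟩
        have hbc : Commute b c := (hcomm b hb c hcB ⟨mc, hmc⟩).symm
        rw [hbc.mul_pow, pow_add, pow_mul, hmb, one_pow, one_mul, mul_comm, pow_mul, hmc, one_pow]
      inv_mem' := by
        rintro b ⟨hb, mb, hmb⟩
        exact ⟨B.inv_mem hb, mb, by rw [inv_pow, hmb, inv_one]⟩ }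
  have hTn : T.Normal := by
    constructor
    rintro b ⟨hb, mb, hmb⟩ g
    refine ⟨hBn.conj_mem b hb g, mb, ?_⟩
    rw [conj_pow, hmb]; group
  have hTp : IsPGroup p T := by
    rintro ⟨b, hb, mb, hmb⟩
    exact ⟨mb, Subtype.ext (by simpa using hmb)⟩
  have hT := hO T hTn hTp
  intro hdvd
  obtain ⟨b, hb⟩ := exists_prime_orderOf_dvd_card' (G := B) p hdvd
  have hbT : (b : G) ∈ T := by
    refine ⟨b.2, 1, ?_⟩
    rw [pow_one]
    have h1 : orderOf (b : G) = p := by rw [Subgroup.orderOf_coe, hb]
    rw [← h1]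
    exact pow_orderOf_eq_one _
  rw [hT, Subgroup.mem_bot] at hbT
  have : b = 1 := Subtype.ext hbT
  rw [this, orderOf_one] at hb
  exact hp.out.one_lt.ne hb

/-- iterated commutator subgroups of a subgroup, inside the ambient group -/
def derSub (N : Subgroup G) : ℕ → Subgroup G
  | 0 => N
  | (k + 1) => ⁅derSub N k, derSub N k⁆

theorem derSub_normal (N : Subgroup G) [N.Normal] (k : ℕ) : (derSub N k).Normal := by
  induction k with
  | zero => exact ‹N.Normal›
  | succ k ih =>
    haveI := ih
    exact Subgroup.commutator_normal _ _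

theorem derSub_le (N : Subgroup G) [N.Normal] (k : ℕ) : derSub N k ≤ N := by
  induction k with
  | zero => exact le_rfl
  | succ k ih =>
    haveI := derSub_normal N k
    exact (Subgroup.commutator_le_left _ _).trans ih

theorem map_derivedSeries_eq_derSub (N : Subgroup G) (k : ℕ) :
    (derivedSeries ↥N k).map N.subtype = derSub N k := by
  induction k with
  | zero =>
    rw [derivedSeries_zero, ← MonoidHom.range_eq_map, Subgroup.range_subtype]
    rfl
  | succ k ih =>
    rw [derivedSeries_succ, Subgroup.map_commutator, ih]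
    rfl

theorem exists_derSub_eq_bot (N : Subgroup G) (hN : Group.IsSolvable ↥N) :
    ∃ k, derSub N k = ⊥ := by
  obtain ⟨k, hk⟩ := hN.solvable
  exact ⟨k, by rw [← map_derivedSeries_eq_derSub, hk, Subgroup.map_bot]⟩

/-- A solvable normal subgroup `N` of a group with `O_p(G) = 1`, such that `N` centralizes every
normal `p'`-subgroup of `G` inside `N`, is abelian. -/
theorem comm_of_isSolvable_of_centralizes [Finite G] {p : ℕ} [hp : Fact p.Prime]
    (hO : ∀ L : Subgroup G, L.Normal → IsPGroup p L → L = ⊥) (N : Subgroup G) [hNn : N.Normal]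
    (hsol : Group.IsSolvable ↥N)
    (hcent : ∀ L : Subgroup G, L.Normal → L ≤ N → ¬ p ∣ Nat.card L →
      L ≤ Subgroup.centralizer (N : Set G)) :
    ∀ a ∈ N, ∀ b ∈ N, a * b = b * a := by
  classical
  have hex := exists_derSub_eq_bot N hsol
  -- key step: a normal subgroup B ≤ N with ⁅B,B⁆ central in N and p'-order commutators
  have hkey : ∀ k, ¬ p ∣ Nat.card (derSub N (k + 1)) → derSub N (k + 1) = ⊥ := by
    intro k hA
    haveI := derSub_normal N k
    haveI := derSub_normal N (k + 1)
    have hAc := hcent _ (derSub_normal N (k + 1)) (derSub_le N (k + 1)) hA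
    have hmemA : ∀ b ∈ derSub N k, ∀ c ∈ derSub N k, c * b * c⁻¹ * b⁻¹ ∈ derSub N (k + 1) := by
      intro b hb c hc
      have := Subgroup.commutator_mem_commutator hc hb
      rwa [commutatorElement_def] at this
    have hB : ¬ p ∣ Nat.card (derSub N k) := by
      apply not_dvd_card_of_central_commutators hO
      · intro b hb c hc d hd
        have h1 := hAc (hmemA b hb c hc)
        rw [Subgroup.mem_centralizer_iff] at h1
        exact h1 d (derSub_le N k hd)
      · intro b hb c hc m hm
        have hz := hmemA b hb c hc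
        have h1 : orderOf (c * b * c⁻¹ * b⁻¹) ∣ p ^ m := orderOf_dvd_of_pow_eq_one hm
        have h2 : orderOf (c * b * c⁻¹ * b⁻¹) ∣ Nat.card (derSub N (k + 1)) := by
          have := orderOf_dvd_natCard (⟨_, hz⟩ : derSub N (k + 1))
          rwa [Subgroup.orderOf_mk] at this
        have hcop : Nat.Coprime (p ^ m) (Nat.card (derSub N (k + 1))) :=
          Nat.Coprime.pow_left m ((Nat.Prime.coprime_iff_not_dvd hp.out).mpr hA)
        have := Nat.eq_one_of_dvd_coprimes hcop h1 h2
        exact orderOf_eq_one_iff.mp this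
    have hBc := hcent _ (derSub_normal N k) (derSub_le N k) hB
    show ⁅derSub N k, derSub N k⁆ = ⊥
    rw [Subgroup.commutator_eq_bot_iff_le_centralizer]
    exact hBc.trans (Subgroup.centralizer_le (derSub_le N k))
  -- p'-order of the bottom terms
  have hdesc : ∀ k, derSub N (k + 2) = ⊥ → derSub N (k + 1) = ⊥ := by
    intro k hk
    apply hkey
    haveI := derSub_normal N (k + 1)
    apply not_dvd_card_of_central_commutators hO
    · intro b hb c hc d hd
      have : c * b * c⁻¹ * b⁻¹ = 1 := by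
        have := Subgroup.commutator_mem_commutator hc hb
        rw [commutatorElement_def] at this
        have h2 : c * b * c⁻¹ * b⁻¹ ∈ derSub N (k + 2) := this
        rwa [hk, Subgroup.mem_bot] at h2
      rw [this, mul_one, one_mul]
    · intro b hb c hc m _
      have := Subgroup.commutator_mem_commutator hc hb
      rw [commutatorElement_def] at this
      have h2 : c * b * c⁻¹ * b⁻¹ ∈ derSub N (k + 2) := this
      rwa [hk, Subgroup.mem_bot] at h2
  have h1 : derSub N 1 = ⊥ := by
    obtain ⟨k, hk⟩ := hex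
    induction k with
    | zero =>
      show ⁅derSub N 0, derSub N 0⁆ = ⊥
      rw [hk]
      exact Subgroup.commutator_bot_left _
    | succ k ih =>
      rcases k with _ | k
      · exact hk
      · exact ih (hdesc k hk)
  intro a ha b hb
  have h2 : ⁅N, N⁆ = ⊥ := h1
  rw [Subgroup.commutator_eq_bot_iff_le_centralizer] at h2
  have := h2 hb
  rw [Subgroup.mem_centralizer_iff] at this
  exact this a ha

/-- If `O_p(G) = 1` and the class of `x` has `p`-power size, the normal closure of `x` is
abelian. -/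
theorem comm_of_pCore_trivial [Finite G] {p : ℕ} [hp : Fact p.Prime]
    (hO : ∀ L : Subgroup G, L.Normal → IsPGroup p L → L = ⊥) (x : G) (a : ℕ)
    (hx : (Subgroup.centralizer ({x} : Set G)).index = p ^ a) :
    ∀ u ∈ Subgroup.normalClosure ({x} : Set G), ∀ v ∈ Subgroup.normalClosure ({x} : Set G),
      u * v = v * u := by
  have hsol := kazarin x hp.out a hx
  haveI : (Subgroup.normalClosure ({x} : Set G)).Normal := Subgroup.normalClosure_normal
  apply comm_of_isSolvable_of_centralizes hO _ hsol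
  intro L hLn _ hLp
  haveI := hLn
  -- L ≤ C_G(x)
  have h1 : L ≤ Subgroup.centralizer ({x} : Set G) := by
    rw [← Subgroup.relIndex_eq_one]
    have h1 : (Subgroup.centralizer ({x} : Set G)).relIndex L ∣ Nat.card L :=
      Subgroup.relIndex_dvd_card _ L
    have h2 : (Subgroup.centralizer ({x} : Set G)).relIndex L ∣ p ^ a :=
      hx ▸ relIndex_dvd_index_of_normal_right _ L
    have hcop : Nat.Coprime (Nat.card L) (p ^ a) :=
      Nat.Coprime.pow_right a ((Nat.Prime.coprime_iff_not_dvd hp.out).mpr hLp).symm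
    exact Nat.eq_one_of_dvd_coprimes hcop h1 h2
  rw [Subgroup.le_centralizer_iff]
  apply Subgroup.normalClosure_le_normal
  intro y hy
  rw [Set.mem_singleton_iff] at hy
  subst hy
  rw [SetLike.mem_coe, Subgroup.mem_centralizer_iff]
  intro l hl
  have := h1 hl
  rw [Subgroup.mem_centralizer_singleton_iff] at this
  exact this

/-- If the class of `x` has `p`-power size then commutators of conjugates of `x` lie in
`O_p(G)`. -/
theorem comm_mem_pCore [Finite G] (p : ℕ) [hp : Fact p.Prime] (x : G)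
    (hx : ∃ a : ℕ, (Subgroup.centralizer ({x} : Set G)).index = p ^ a) (g h : G) :
    (g * x * g⁻¹) * (h * x * h⁻¹) * (g * x * g⁻¹)⁻¹ * (h * x * h⁻¹)⁻¹ ∈ Cfsg.pCore p G := by
  obtain ⟨a, ha⟩ := hx
  haveI : (Cfsg.pCore p G).Normal := Cfsg.Agent.Lib.Helper1.pCore_normal p
  set π := QuotientGroup.mk' (Cfsg.pCore p G) with hπ
  have hsurj : Function.Surjective π := QuotientGroup.mk'_surjective _
  -- O_p of the quotient is trivial
  have hO : ∀ L : Subgroup (G ⧸ Cfsg.pCore p G), L.Normal → IsPGroup p L → L = ⊥ := by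
    intro L hLn hLp
    have h1 : (L.comap π).Normal := hLn.comap _
    have h2 : IsPGroup p (L.comap π) := by
      apply hLp.comap_of_ker_isPGroup
      rw [hπ, QuotientGroup.ker_mk']
      exact Cfsg.Agent.Lib.Helper1.pCore_isPGroup p
    have h3 := Cfsg.Agent.Lib.Helper1.le_pCore h1 h2
    rw [eq_bot_iff]
    intro y hy
    obtain ⟨g, rfl⟩ := hsurj y
    have h4 : g ∈ Cfsg.pCore p G := h3 hy
    rw [Subgroup.mem_bot, hπ, QuotientGroup.mk'_apply, QuotientGroup.eq_one_iff]
    exact h4
  have hdvd := index_centralizer_map_dvd π hsurj x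
  rw [ha] at hdvd
  obtain ⟨a', _, ha'⟩ := (Nat.dvd_prime_pow hp.out).mp hdvd
  have hcomm := comm_of_pCore_trivial hO (π x) a' ha'
  have hmem : ∀ g : G, π (g * x * g⁻¹) ∈ Subgroup.normalClosure ({π x} : Set _) := by
    intro g
    rw [map_mul, map_mul, map_inv]
    exact Subgroup.normalClosure_normal.conj_mem _
      (Subgroup.subset_normalClosure (Set.mem_singleton _)) _
  have h1 := hcomm _ (hmem g) _ (hmem h)
  rw [← QuotientGroup.eq_one_iff, ← QuotientGroup.mk'_apply, ← hπ, map_mul, map_mul, map_mul,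
    map_inv, map_inv, h1]
  group

end Cfsg.Agent.Lib.Helper6.Kazarin
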