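import Mathlib
import Cfsg.Prelude

set_option autoImplicit false
set_option linter.unusedSectionVars false
set_option linter.unusedVariables false
set_option linter.unusedSimpArgs false
open Cfsg

/-! A criterion for a finite group to be `Qd(p)`-free: if the commutators of the normalizer of every
nontrivial `p`-subgroup are `p`-elements, then no section of the group (or of a quotient of it) is
isomorphic to `Qd(p)`. -/

namespace Cfsg.Agent.Lib.Helper6.QdSection

open Matrix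

/-! ### the abstract argument (Frattini) -/

theorem no_section {G : Type*} [Group G] [Finite G] {Q : Type*} [Group Q] (p : ℕ) [Fact p.Prime]
    (hG : ∀ E : Subgroup G, E ≠ ⊥ → IsPGroup p E → ∀ g ∈ Subgroup.normalizer (E : Set G),
      ∀ h ∈ Subgroup.normalizer (E : Set G), ∃ k : ℕ, (g * h * g⁻¹ * h⁻¹) ^ (p ^ k) = 1)
    (V : Subgroup Q) [hVn : V.Normal] (hV : V ≠ ⊥) (hVp : IsPGroup p V)
    (a b : Q) (hab : ∀ k : ℕ, (a * b * a⁻¹ * b⁻¹) ^ (p ^ k) ≠ 1)
    (H : Subgroup G) (f : H →* Q) (hf : Function.Surjective f) : False := by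
  classical
  let E₁ : Subgroup H := V.comap f
  have hE₁n : E₁.Normal := hVn.comap f
  let P : Sylow p E₁ := default
  let E : Subgroup H := (P : Subgroup E₁).map E₁.subtype
  have hfrat : Subgroup.normalizer (E : Set H) ⊔ E₁ = ⊤ := Sylow.normalizer_sup_eq_top P
  let f' : E₁ →* V := f.subgroupComap V
  have hf' : Function.Surjective f' := f.subgroupComap_surjective_of_surjective V hf
  let P' : Sylow p V := P.mapSurjective hf'
  have hP' : (P' : Subgroup V) = ⊤ := by
    have htop : IsPGroup p (⊤ : Subgroup V) := by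
      intro g
      obtain ⟨k, hk⟩ := hVp g.1
      refine ⟨k, ?_⟩
      apply Subtype.ext
      rw [SubmonoidClass.coe_pow, hk]
      rfl
    exact (P'.is_maximal' htop le_top).symm
  have hVE : V ≤ E.map f := by
    intro v hv
    have h1 : (⟨v, hv⟩ : V) ∈ (P' : Subgroup V) := by rw [hP']; trivial
    rw [Sylow.coe_mapSurjective] at h1
    obtain ⟨e, he, hfe⟩ := h1
    refine ⟨(e : H), ⟨e, he, rfl⟩, ?_⟩
    exact congrArg Subtype.val hfe
  have hEne : E.map H.subtype ≠ ⊥ := by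
    intro h0
    apply hV
    rw [eq_bot_iff]
    intro v hv
    obtain ⟨e, he, rfl⟩ := hVE hv
    have h1 : (e : G) ∈ E.map H.subtype := ⟨e, he, rfl⟩
    rw [h0, Subgroup.mem_bot] at h1
    have h2 : e = 1 := Subtype.ext h1
    rw [h2, map_one]
    exact Subgroup.one_mem _
  have hEp : IsPGroup p (E.map H.subtype) := (P.isPGroup'.map _).map _
  -- lifting elements of `Q` to the normalizer
  have hlift : ∀ x : Q, ∃ y ∈ Subgroup.normalizer (E : Set H), f y = x := by
    intro x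
    obtain ⟨y, rfl⟩ := hf x
    have hy : y ∈ Subgroup.normalizer (E : Set H) ⊔ E₁ := by rw [hfrat]; trivial
    have hy' : y ∈ ((Subgroup.normalizer (E : Set H) ⊔ E₁ : Subgroup H) : Set H) := hy
    rw [Subgroup.mul_normal] at hy'
    obtain ⟨n, hn, e, he, rfl⟩ := hy'
    have hfe : f e ∈ V := he
    obtain ⟨e', he', hfe'⟩ := hVE hfe
    refine ⟨n * e', Subgroup.mul_mem _ hn (Subgroup.le_normalizer he'), ?_⟩
    rw [map_mul, map_mul, hfe']
  obtain ⟨a', ha', rfl⟩ := hlift a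
  obtain ⟨b', hb', rfl⟩ := hlift b
  have hna : (a' : G) ∈ Subgroup.normalizer ((E.map H.subtype : Subgroup G) : Set G) :=
    Subgroup.le_normalizer_map H.subtype ⟨a', ha', rfl⟩
  have hnb : (b' : G) ∈ Subgroup.normalizer ((E.map H.subtype : Subgroup G) : Set G) :=
    Subgroup.le_normalizer_map H.subtype ⟨b', hb', rfl⟩
  obtain ⟨k, hk⟩ := hG _ hEne hEp _ hna _ hnb
  apply hab k
  have h1 : (a' * b' * a'⁻¹ * b'⁻¹) ^ (p ^ k) = 1 := by
    apply Subtype.ext
    rw [SubmonoidClass.coe_pow]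
    exact hk
  rw [← map_inv, ← map_inv, ← map_mul, ← map_mul, ← map_mul, ← map_pow, h1, map_one]

/-- a section of a quotient gives a subgroup with a surjection -/
theorem exists_of_involves {G : Type*} [Group G] (Z : Subgroup G) [Z.Normal] {Q : Type*} [Group Q]
    (h : Cfsg.Involves Q (G ⧸ Z)) : ∃ (H : Subgroup G) (f : H →* Q), Function.Surjective f := by
  obtain ⟨K, R, hR, ⟨φ⟩⟩ := h
  refine ⟨K.comap (QuotientGroup.mk' Z),
    (φ.toMonoidHom.comp (QuotientGroup.mk' (R.subgroupOf K))).comp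
      ((QuotientGroup.mk' Z).subgroupComap K), ?_⟩
  intro x
  obtain ⟨y, rfl⟩ := φ.surjective x
  obtain ⟨z, rfl⟩ := QuotientGroup.mk'_surjective (R.subgroupOf K) y
  obtain ⟨w, rfl⟩ := (QuotientGroup.mk' Z).subgroupComap_surjective_of_surjective K
    (QuotientGroup.mk'_surjective Z) z
  exact ⟨w, rfl⟩


/-! ### facts on `Qd(p)` -/

section qd

variable (p : ℕ) [hp : Fact p.Prime]

theorem qd_last_row (M : Matrix.SpecialLinearGroup (Fin 3) (ZMod p)) (hM : M ∈ Cfsg.qd p) :
    (M : Matrix (Fin 3) (Fin 3) (ZMod p)) 2 0 = 0 ∧ (M : Matrix (Fin 3) (Fin 3) (ZMod p)) 2 1 = 0 ∧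
      (M : Matrix (Fin 3) (Fin 3) (ZMod p)) 2 2 = 1 := by
  unfold Cfsg.qd at hM
  induction hM using Subgroup.closure_induction with
  | mem x hx => exact hx
  | one => simp
  | mul x y _ _ hx hy =>
    obtain ⟨a1, a2, a3⟩ := hx
    obtain ⟨b1, b2, b3⟩ := hy
    simp only [Matrix.SpecialLinearGroup.coe_mul, Matrix.mul_apply, Fin.sum_univ_three]
    simp [a1, a2, a3, b1, b2, b3]
  | inv x _ hx =>
    obtain ⟨a1, a2, a3⟩ := hx
    have hdet := x.2
    rw [Matrix.det_fin_three] at hdet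
    simp only [a1, a2, a3] at hdet
    simp only [Matrix.SpecialLinearGroup.coe_inv, Matrix.adjugate_fin_three]
    simp only [Matrix.of_apply, Matrix.cons_val', Matrix.cons_val_zero, Matrix.cons_val_one,
      Matrix.cons_val_two, Matrix.empty_val', Matrix.cons_val_fin_one, a1, a2, a3]
    refine ⟨by simp, by simp, ?_⟩
    simp
    linear_combination hdet

/-- the upper left block -/
def blk {R : Type*} (M : Matrix (Fin 3) (Fin 3) R) : Matrix (Fin 2) (Fin 2) R :=
  !![M 0 0, M 0 1; M 1 0, M 1 1]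

theorem blk_mul {R : Type*} [CommRing R] (M N : Matrix (Fin 3) (Fin 3) R) (h0 : N 2 0 = 0)
    (h1 : N 2 1 = 0) : blk (M * N) = blk M * blk N := by
  ext i j
  fin_cases i <;> fin_cases j <;>
    simp [blk, Matrix.mul_apply, Fin.sum_univ_three, Fin.sum_univ_two, h0, h1]

theorem blk_one {R : Type*} [CommRing R] : blk (1 : Matrix (Fin 3) (Fin 3) R) = 1 := by
  ext i j
  fin_cases i <;> fin_cases j <;> simp [blk]

/-- the projection of `Qd(p)` on the upper left block -/
def rho : ↥(Cfsg.qd p) →* Matrix (Fin 2) (Fin 2) (ZMod p) where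
  toFun g := blk ((g : Matrix.SpecialLinearGroup (Fin 3) (ZMod p)) : Matrix (Fin 3) (Fin 3) (ZMod p))
  map_one' := by
    simp only [Subgroup.coe_one, Matrix.SpecialLinearGroup.coe_one]
    exact blk_one
  map_mul' g h := by
    obtain ⟨h0, h1, h2⟩ := qd_last_row p h.1 h.2
    simp only [Subgroup.coe_mul, Matrix.SpecialLinearGroup.coe_mul]
    exact blk_mul _ _ h0 h1

theorem rho_apply (g : ↥(Cfsg.qd p)) :
    rho p g = blk ((g : Matrix.SpecialLinearGroup (Fin 3) (ZMod p)) :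
      Matrix (Fin 3) (Fin 3) (ZMod p)) := rfl

/-- elements of the kernel have order dividing `p` -/
theorem ker_rho_pow (g : ↥(Cfsg.qd p)) (hg : g ∈ (rho p).ker) : g ^ p = 1 := by
  obtain ⟨h0, h1, h2⟩ := qd_last_row p g.1 g.2
  rw [MonoidHom.mem_ker, rho_apply] at hg
  set M : Matrix (Fin 3) (Fin 3) (ZMod p) :=
    ((g : Matrix.SpecialLinearGroup (Fin 3) (ZMod p)) : Matrix (Fin 3) (Fin 3) (ZMod p)) with hM
  have e00 : M 0 0 = 1 := by
    have := congrFun (congrFun hg 0) 0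
    simpa [blk] using this
  have e01 : M 0 1 = 0 := by
    have := congrFun (congrFun hg 0) 1
    simpa [blk] using this
  have e10 : M 1 0 = 0 := by
    have := congrFun (congrFun hg 1) 0
    simpa [blk] using this
  have e11 : M 1 1 = 1 := by
    have := congrFun (congrFun hg 1) 1
    simpa [blk] using this
  have hsq : (M - 1) ^ 2 = 0 := by
    ext i j
    fin_cases i <;> fin_cases j <;>
      simp [pow_two, Matrix.mul_apply, Fin.sum_univ_three, h0, h1, h2, e00, e01, e10, e11]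
  have hp2 : 2 ≤ p := hp.out.two_le
  have hpw : (M - 1) ^ p = 0 := by
    have hk : (M - 1) ^ p = (M - 1) ^ 2 * (M - 1) ^ (p - 2) := by
      rw [← pow_add]
      congr 1
      omega
    rw [hk, hsq, zero_mul]
  have hMp : M ^ p = 1 := by
    have hc : Commute M 1 := Commute.one_right M
    have := sub_pow_char_of_commute (p := p) hc
    rw [hpw, one_pow] at this
    exact (sub_eq_zero.mp this.symm)
  apply Subtype.ext
  apply Subtype.ext
  rw [SubmonoidClass.coe_pow, Matrix.SpecialLinearGroup.coe_pow]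
  exact hMp


/-- a translation -/
def tEl : Matrix.SpecialLinearGroup (Fin 3) (ZMod p) :=
  ⟨!![1, 0, 1; 0, 1, 0; 0, 0, 1], by rw [Matrix.det_fin_three]; simp⟩

/-- an upper elementary matrix -/
def aEl : Matrix.SpecialLinearGroup (Fin 3) (ZMod p) :=
  ⟨!![1, 1, 0; 0, 1, 0; 0, 0, 1], by rw [Matrix.det_fin_three]; simp⟩

/-- a lower elementary matrix -/
def bEl : Matrix.SpecialLinearGroup (Fin 3) (ZMod p) :=
  ⟨!![1, 0, 0; 1, 1, 0; 0, 0, 1], by rw [Matrix.det_fin_three]; simp⟩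

/-- the inverse of `aEl` -/
def aEl' : Matrix.SpecialLinearGroup (Fin 3) (ZMod p) :=
  ⟨!![1, -1, 0; 0, 1, 0; 0, 0, 1], by rw [Matrix.det_fin_three]; simp⟩

/-- the inverse of `bEl` -/
def bEl' : Matrix.SpecialLinearGroup (Fin 3) (ZMod p) :=
  ⟨!![1, 0, 0; -1, 1, 0; 0, 0, 1], by rw [Matrix.det_fin_three]; simp⟩

theorem tEl_mem : tEl p ∈ Cfsg.qd p := Subgroup.subset_closure (by
  rw [Set.mem_ofPred_eq]; simp [tEl])
theorem aEl_mem : aEl p ∈ Cfsg.qd p := Subgroup.subset_closure (by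
  rw [Set.mem_ofPred_eq]; simp [aEl])
theorem bEl_mem : bEl p ∈ Cfsg.qd p := Subgroup.subset_closure (by
  rw [Set.mem_ofPred_eq]; simp [bEl])

theorem aEl_inv : (aEl p)⁻¹ = aEl' p := by
  apply inv_eq_of_mul_eq_one_right
  apply Subtype.ext
  rw [Matrix.SpecialLinearGroup.coe_mul]
  ext i j
  fin_cases i <;> fin_cases j <;> simp [aEl, aEl', Matrix.mul_apply, Fin.sum_univ_three]

theorem bEl_inv : (bEl p)⁻¹ = bEl' p := by
  apply inv_eq_of_mul_eq_one_right
  apply Subtype.ext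
  rw [Matrix.SpecialLinearGroup.coe_mul]
  ext i j
  fin_cases i <;> fin_cases j <;> simp [bEl, bEl', Matrix.mul_apply, Fin.sum_univ_three]

theorem ker_rho_ne_bot : (rho p).ker ≠ ⊥ := by
  intro h
  have h1 : (⟨tEl p, tEl_mem p⟩ : ↥(Cfsg.qd p)) ∈ (rho p).ker := by
    rw [MonoidHom.mem_ker, rho_apply]
    ext i j
    fin_cases i <;> fin_cases j <;> simp [blk, tEl]
  rw [h, Subgroup.mem_bot] at h1
  have h2 := congrArg (fun g : ↥(Cfsg.qd p) =>
    ((g : Matrix.SpecialLinearGroup (Fin 3) (ZMod p)) : Matrix (Fin 3) (Fin 3) (ZMod p)) 0 2) h1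
  simp [tEl] at h2

theorem ker_rho_isPGroup : IsPGroup p (rho p).ker := by
  intro g
  refine ⟨1, ?_⟩
  apply Subtype.ext
  rw [pow_one, SubmonoidClass.coe_pow]
  exact ker_rho_pow p g.1 g.2

/-- the commutator of `aEl` and `bEl` is not a `p`-element -/
theorem comm_not_pow (k : ℕ) :
    ((⟨aEl p, aEl_mem p⟩ : ↥(Cfsg.qd p)) * ⟨bEl p, bEl_mem p⟩ * (⟨aEl p, aEl_mem p⟩)⁻¹ *
      (⟨bEl p, bEl_mem p⟩)⁻¹) ^ (p ^ k) ≠ 1 := by
  intro h
  have h1 := congrArg (rho p) h
  rw [map_pow, map_one] at h1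
  set C : Matrix (Fin 2) (Fin 2) (ZMod p) := !![3, -1; 1, 0] with hC
  have h2 : rho p ((⟨aEl p, aEl_mem p⟩ : ↥(Cfsg.qd p)) * ⟨bEl p, bEl_mem p⟩ *
      (⟨aEl p, aEl_mem p⟩)⁻¹ * (⟨bEl p, bEl_mem p⟩)⁻¹) = C := by
    rw [rho_apply]
    simp only [Subgroup.coe_mul, Subgroup.coe_inv, aEl_inv, bEl_inv,
      Matrix.SpecialLinearGroup.coe_mul]
    ext i j
    fin_cases i <;> fin_cases j <;>
      simp [blk, aEl, bEl, aEl', bEl', Matrix.mul_apply, Fin.sum_univ_three, hC] <;> ring
  rw [h2] at h1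
  have hc : Commute C 1 := Commute.one_right C
  have h3 := sub_pow_char_pow_of_commute (p := p) (n := k) hc
  rw [h1, one_pow, sub_self] at h3
  have h4 := congrArg Matrix.det h3
  rw [Matrix.det_pow, Matrix.det_zero] at h4
  have h5 : (C - 1).det = -1 := by
    rw [Matrix.det_fin_two]
    simp [hC]
    ring
  rw [h5] at h4
  have h6 : ((-1 : ZMod p) ^ (p ^ k)) ≠ 0 := pow_ne_zero _ (neg_ne_zero.mpr one_ne_zero)
  exact h6 h4

end qd

/-- **Criterion.** If, in the finite group `G`, the commutators of elements of the normalizer of any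
nontrivial `p`-subgroup are `p`-elements, then `Qd(p)` is not involved in any quotient `G ⧸ Z`. -/
theorem not_involves_qd {G : Type*} [Group G] [Finite G] (Z : Subgroup G) [Z.Normal] (p : ℕ)
    [Fact p.Prime]
    (hG : ∀ E : Subgroup G, E ≠ ⊥ → IsPGroup p E → ∀ g ∈ Subgroup.normalizer (E : Set G),
      ∀ h ∈ Subgroup.normalizer (E : Set G), ∃ k : ℕ, (g * h * g⁻¹ * h⁻¹) ^ (p ^ k) = 1) :
    ¬ Cfsg.Involves ↥(Cfsg.qd p) (G ⧸ Z) := by
  intro hinv
  obtain ⟨H, f, hf⟩ := exists_of_involves Z hinv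
  exact no_section p hG (rho p).ker (ker_rho_ne_bot p) (ker_rho_isPGroup p) _ _ (comm_not_pow p)
    H f hf

end Cfsg.Agent.Lib.Helper6.QdSection
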