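import Mathlib

set_option autoImplicit false
set_option linter.unusedVariables false
set_option linter.unusedSectionVars false
set_option linter.style.longLine false
set_option maxHeartbeats 1000000

/-!
# S1233, unit U-A, part 1: facts on a quaternion subgroup of order 8

All facts are stated for a homomorphism `φ : QuaternionGroup 2 →* G` (for a subgroup `P` with
`e : P ≃* QuaternionGroup 2` take `φ := P.subtype.comp e.symm.toMonoidHom`, see `homOf`).
`zq = a 2` is the central involution, `iq = a 1`, `jq = xa 0` are generators.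
-/

namespace Cfsg.Agent.Lib.Helper6.QQA

open QuaternionGroup

/-- the central involution of `Q8` -/
abbrev zq : QuaternionGroup 2 := a 2
/-- first generator of `Q8` -/
abbrev iq : QuaternionGroup 2 := a 1
/-- second generator of `Q8` -/
abbrev jq : QuaternionGroup 2 := xa 0

theorem q8_sq : ∀ w : QuaternionGroup 2, w * w = 1 ∨ w * w = zq := by decide
theorem q8_sq_one : ∀ w : QuaternionGroup 2, w * w = 1 → w = 1 ∨ w = zq := by decide
theorem q8_comm : ∀ v w : QuaternionGroup 2, v * w = w * v ∨ v * w = zq * (w * v) := by decide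
theorem q8_center : ∀ w : QuaternionGroup 2, (∀ v, w * v = v * w) → w = 1 ∨ w = zq := by decide
theorem q8_z_ne : zq ≠ 1 := by decide
theorem q8_z_sq : zq * zq = 1 := by decide
theorem q8_z_comm : ∀ v : QuaternionGroup 2, zq * v = v * zq := by decide
theorem q8_i_sq : iq * iq = zq := by decide
theorem q8_j_sq : jq * jq = zq := by decide
theorem q8_ji : jq * iq * jq⁻¹ = zq * iq := by decide
theorem q8_ij : iq * jq * iq⁻¹ = zq * jq := by decide
theorem q8_gen : ∀ w : QuaternionGroup 2, ∃ m n : Fin 4, w = iq ^ (m : ℕ) * jq ^ (n : ℕ) := by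
  decide
/-- the four inner automorphisms, on the generators -/
theorem q8_inner : ∀ s t : Bool, ∃ v : QuaternionGroup 2,
    v * iq * v⁻¹ = (if s then zq * iq else iq) ∧ v * jq * v⁻¹ = (if t then zq * jq else jq) := by
  decide
/-- elements of order `4` square to `z` -/
theorem q8_sq_z : ∀ w : QuaternionGroup 2, w ≠ 1 → w ≠ zq → w * w = zq := by decide
/-- two non-commuting elements generate: everything is a word in them -/
theorem q8_gen' : ∀ u v : QuaternionGroup 2, u * v ≠ v * u →
    ∀ w : QuaternionGroup 2, ∃ m n : Fin 4, w = u ^ (m : ℕ) * v ^ (n : ℕ) := by decide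
/-- a non-central element commutes only with its powers -/
theorem q8_centralizer : ∀ u w : QuaternionGroup 2, u * u = zq → w * u = u * w →
    ∃ m : Fin 4, w = u ^ (m : ℕ) := by decide
/-- for `u` of order 4 there is `v` of order 4 inverting it -/
theorem q8_exists_inverting : ∀ u : QuaternionGroup 2, u * u = zq →
    ∃ v : QuaternionGroup 2, v * v = zq ∧ v * u * v⁻¹ = zq * u := by decide

section hom

variable {G : Type*} [Group G]

/-- the homomorphism `Q8 → G` attached to a subgroup isomorphic to `Q8` -/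
def homOf {P : Subgroup G} (e : ↥P ≃* QuaternionGroup 2) : QuaternionGroup 2 →* G :=
  P.subtype.comp e.symm.toMonoidHom

theorem homOf_injective {P : Subgroup G} (e : ↥P ≃* QuaternionGroup 2) :
    Function.Injective (homOf e) :=
  Subtype.val_injective.comp e.symm.injective

theorem homOf_mem {P : Subgroup G} (e : ↥P ≃* QuaternionGroup 2) (w : QuaternionGroup 2) :
    homOf e w ∈ P := (e.symm w).2

theorem exists_homOf_eq {P : Subgroup G} (e : ↥P ≃* QuaternionGroup 2) {p : G} (hp : p ∈ P) :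
    ∃ w : QuaternionGroup 2, homOf e w = p :=
  ⟨e ⟨p, hp⟩, by simp [homOf]⟩

theorem homOf_range {P : Subgroup G} (e : ↥P ≃* QuaternionGroup 2) : (homOf e).range = P := by
  ext p
  constructor
  · rintro ⟨w, rfl⟩
    exact homOf_mem e w
  · intro hp
    obtain ⟨w, hw⟩ := exists_homOf_eq e hp
    exact ⟨w, hw⟩

variable (φ : QuaternionGroup 2 →* G)

theorem hom_z_sq : φ zq * φ zq = 1 := by rw [← map_mul, q8_z_sq, map_one]

theorem hom_z_ne (hφ : Function.Injective φ) : φ zq ≠ 1 := by
  intro h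
  exact q8_z_ne (hφ (h.trans (map_one φ).symm))

theorem hom_z_comm (w : QuaternionGroup 2) : φ zq * φ w = φ w * φ zq := by
  rw [← map_mul, ← map_mul, q8_z_comm]

theorem hom_sq (w : QuaternionGroup 2) : φ w * φ w = 1 ∨ φ w * φ w = φ zq := by
  rcases q8_sq w with h | h
  · left; rw [← map_mul, h, map_one]
  · right; rw [← map_mul, h]

theorem hom_sq_one (hφ : Function.Injective φ) (w : QuaternionGroup 2) (h : φ w * φ w = 1) :
    φ w = 1 ∨ φ w = φ zq := by
  have h1 : w * w = 1 := hφ (by rw [map_mul, h, map_one])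
  rcases q8_sq_one w h1 with h2 | h2
  · left; rw [h2, map_one]
  · right; rw [h2]

theorem hom_comm (v w : QuaternionGroup 2) :
    φ v * φ w = φ w * φ v ∨ φ v * φ w = φ zq * (φ w * φ v) := by
  rcases q8_comm v w with h | h
  · left; rw [← map_mul, h, map_mul]
  · right; rw [← map_mul, h, map_mul, map_mul]

theorem hom_center (hφ : Function.Injective φ) (w : QuaternionGroup 2)
    (h : ∀ v, φ w * φ v = φ v * φ w) : φ w = 1 ∨ φ w = φ zq := by
  have h1 : ∀ v, w * v = v * w := fun v => hφ (by rw [map_mul, map_mul, h v])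
  rcases q8_center w h1 with h2 | h2
  · left; rw [h2, map_one]
  · right; rw [h2]

/-- **A4(a)**: an element acting trivially modulo the centre on `φ(Q8)` acts as an inner
automorphism -/
theorem exists_inner_of_comm (x : G)
    (hx : ∀ w, x * φ w * x⁻¹ * (φ w)⁻¹ = 1 ∨ x * φ w * x⁻¹ * (φ w)⁻¹ = φ zq) :
    ∃ v : QuaternionGroup 2, ∀ w, x * φ w * x⁻¹ = φ v * φ w * (φ v)⁻¹ := by
  have key : ∀ w, ∃ s : Bool, x * φ w * x⁻¹ = (if s then φ zq * φ w else φ w) := by
    intro w
    rcases hx w with h | h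
    · exact ⟨false, by simpa using mul_inv_eq_one.mp h⟩
    · refine ⟨true, ?_⟩
      have := mul_inv_eq_iff_eq_mul.mp h
      simpa using this
  obtain ⟨s, hs⟩ := key iq
  obtain ⟨t, ht⟩ := key jq
  obtain ⟨v, hv1, hv2⟩ := q8_inner s t
  refine ⟨v, ?_⟩
  have hi : x * φ iq * x⁻¹ = φ v * φ iq * (φ v)⁻¹ := by
    have h0 : φ v * φ iq * (φ v)⁻¹ = φ (v * iq * v⁻¹) := by rw [map_mul, map_mul, map_inv]
    rw [hs, h0, hv1]
    cases s
    · rfl
    · show φ zq * φ iq = φ (zq * iq)
      rw [map_mul]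
  have hj : x * φ jq * x⁻¹ = φ v * φ jq * (φ v)⁻¹ := by
    have h0 : φ v * φ jq * (φ v)⁻¹ = φ (v * jq * v⁻¹) := by rw [map_mul, map_mul, map_inv]
    rw [ht, h0, hv2]
    cases t
    · rfl
    · show φ zq * φ jq = φ (zq * jq)
      rw [map_mul]
  intro w
  obtain ⟨m, n, rfl⟩ := q8_gen w
  rw [map_mul, map_pow, map_pow]
  have h1 : x * (φ iq ^ (m : ℕ) * φ jq ^ (n : ℕ)) * x⁻¹ =
      (x * φ iq * x⁻¹) ^ (m : ℕ) * (x * φ jq * x⁻¹) ^ (n : ℕ) := by
    rw [conj_pow, conj_pow]; group
  have h2 : φ v * (φ iq ^ (m : ℕ) * φ jq ^ (n : ℕ)) * (φ v)⁻¹ =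
      (φ v * φ iq * (φ v)⁻¹) ^ (m : ℕ) * (φ v * φ jq * (φ v)⁻¹) ^ (n : ℕ) := by
    rw [conj_pow, conj_pow]; group
  rw [h1, h2, hi, hj]

end hom

end Cfsg.Agent.Lib.Helper6.QQA
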