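import Mathlib
import Cfsg.Agent.Lib.Helper1.S1233Defs
import Cfsg.Agent.Lib.Helper6.QQA1

set_option autoImplicit false
set_option linter.unusedVariables false
set_option linter.unusedSectionVars false
set_option linter.style.longLine false
set_option linter.style.haveILetI false
set_option maxHeartbeats 1000000

/-!
# S1233 farm, unit U-A0: the central involution (`exists_base`) and first consequences of `Base`
-/

namespace Cfsg.Agent.Lib.Helper6.S1233A

open Cfsg.Agent.Lib.Helper1.S1233 Cfsg.Agent.Lib.Helper6.QQA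

variable {S : Type*} [Group S]

/-- `|L₁ L₂| |L₁ ∩ L₂| = |L₁| |L₂|` for elementwise commuting subgroups -/
theorem card_sup_mul_card_inf (L₁ L₂ : Subgroup S)
    (hcomm : ∀ x ∈ L₁, ∀ y ∈ L₂, x * y = y * x) :
    Nat.card ↥(L₁ ⊔ L₂) * Nat.card ↥(L₁ ⊓ L₂) = Nat.card ↥L₁ * Nat.card ↥L₂ := by
  have hc : ∀ (m : ↥L₁) (n : ↥L₂), Commute (L₁.subtype m) (L₂.subtype n) :=
    fun m n => hcomm m.1 m.2 n.1 n.2
  set f : ↥L₁ × ↥L₂ →* S := MonoidHom.noncommCoprod L₁.subtype L₂.subtype hc with hf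
  have hr : f.range = L₁ ⊔ L₂ := by
    rw [hf, MonoidHom.noncommCoprod_range, Subgroup.range_subtype, Subgroup.range_subtype]
  have hker : ∀ p : ↥L₁ × ↥L₂, p ∈ f.ker ↔ (p.1 : S) * (p.2 : S) = 1 := by
    intro p
    rw [MonoidHom.mem_ker]
    rfl
  have hk : Nat.card ↥f.ker = Nat.card ↥(L₁ ⊓ L₂) := by
    apply Nat.card_congr
    refine ⟨fun p => ⟨(p.1.1 : S), p.1.1.2, ?_⟩,
      fun z => ⟨(⟨z.1, z.2.1⟩, ⟨(z.1)⁻¹, L₂.inv_mem z.2.2⟩), ?_⟩, ?_, ?_⟩
    · have h1 := (hker p.1).1 p.2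
      have h2 : (p.1.1 : S) = ((p.1.2 : S))⁻¹ := eq_inv_of_mul_eq_one_left h1
      rw [h2]
      exact L₂.inv_mem p.1.2.2
    · rw [hker]
      exact mul_inv_cancel _
    · intro p
      have h1 := (hker p.1).1 p.2
      apply Subtype.ext
      apply Prod.ext
      · rfl
      · apply Subtype.ext
        exact inv_eq_of_mul_eq_one_right h1
    · intro z
      rfl
  have h1 := Subgroup.card_mul_index f.ker
  rw [Subgroup.index_ker, Nat.card_prod, hk, hr] at h1
  rw [mul_comm]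
  exact h1

/-- elements of the join of two elementwise commuting subgroups are products -/
theorem exists_mul_of_mem_sup {L₁ L₂ : Subgroup S}
    (hcomm : ∀ x ∈ L₁, ∀ y ∈ L₂, x * y = y * x) {x : S} (hx : x ∈ L₁ ⊔ L₂) :
    ∃ a ∈ L₁, ∃ b ∈ L₂, x = a * b := by
  have hc : ∀ (m : ↥L₁) (n : ↥L₂), Commute (L₁.subtype m) (L₂.subtype n) :=
    fun m n => hcomm m.1 m.2 n.1 n.2
  have hr : (MonoidHom.noncommCoprod L₁.subtype L₂.subtype hc).range = L₁ ⊔ L₂ := by
    rw [MonoidHom.noncommCoprod_range, Subgroup.range_subtype, Subgroup.range_subtype]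
  rw [← hr] at hx
  obtain ⟨p, rfl⟩ := hx
  exact ⟨p.1, p.1.2, p.2, p.2.2, rfl⟩

theorem card_q8 {P : Subgroup S} (e : ↥P ≃* QuaternionGroup 2) : Nat.card ↥P = 8 := by
  rw [Nat.card_congr e.toEquiv, Nat.card_eq_fintype_card, QuaternionGroup.card]

/-- an element of `P ≅ Q8` commuting with all of `P` is `1` or the central involution -/
theorem central_q8 {P : Subgroup S} (e : ↥P ≃* QuaternionGroup 2) {x : S} (hx : x ∈ P)
    (hc : ∀ p ∈ P, x * p = p * x) : x = 1 ∨ x = homOf e zq := by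
  obtain ⟨w, rfl⟩ := exists_homOf_eq e hx
  exact hom_center (homOf e) (homOf_injective e) w (fun v => hc _ (homOf_mem e v))

/-- an involution of `P ≅ Q8` is the central one -/
theorem involution_q8 {P : Subgroup S} (e : ↥P ≃* QuaternionGroup 2) {x : S} (hx : x ∈ P)
    (h1 : x ≠ 1) (h2 : x * x = 1) : x = homOf e zq := by
  obtain ⟨w, rfl⟩ := exists_homOf_eq e hx
  rcases hom_sq_one (homOf e) (homOf_injective e) w h2 with h | h
  · exact absurd h h1
  · exact h

theorem exists_base [Finite S] (hS : IsPGroup 2 S) (Q Q₁ Q₂ : Subgroup S)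
    (e₁ : Q₁ ≃* QuaternionGroup 2) (e₂ : Q₂ ≃* QuaternionGroup 2)
    (hcomm : ∀ a ∈ Q₁, ∀ b ∈ Q₂, a * b = b * a) (hQ : Q₁ ⊔ Q₂ = Q) (hQ32 : Nat.card Q = 32)
    (hC : Subgroup.centralizer (Q : Set S) ≤ Q) : ∃ z : S, Base Q₁ Q₂ z := by
  classical
  haveI : Fact (Nat.Prime 2) := ⟨Nat.prime_two⟩
  subst hQ
  set z : S := homOf e₁ zq with hz
  have hz1 : z ∈ Q₁ := homOf_mem e₁ zq
  have hzne : z ≠ 1 := hom_z_ne (homOf e₁) (homOf_injective e₁)
  have hzsq : z * z = 1 := hom_z_sq (homOf e₁)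
  -- the intersection
  have hinf : ∀ x ∈ Q₁ ⊓ Q₂, x = 1 ∨ x = z := by
    intro x hx
    exact central_q8 e₁ hx.1 (fun p hp => (hcomm p hp x hx.2).symm)
  have hcardinf : Nat.card ↥(Q₁ ⊓ Q₂) = 2 := by
    have h1 := card_sup_mul_card_inf Q₁ Q₂ hcomm
    rw [hQ32, card_q8 e₁, card_q8 e₂] at h1
    omega
  have hz2 : z ∈ Q₂ := by
    have h1 : 1 < Nat.card ↥(Q₁ ⊓ Q₂) := by rw [hcardinf]; norm_num
    haveI : Nontrivial ↥(Q₁ ⊓ Q₂) := Finite.one_lt_card_iff_nontrivial.mp h1
    obtain ⟨x, hx⟩ := exists_ne (1 : ↥(Q₁ ⊓ Q₂))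
    have hx1 : (x : S) ≠ 1 := fun h => hx (Subtype.ext h)
    rcases hinf x x.2 with h | h
    · exact absurd h hx1
    · rw [← h]; exact x.2.2
  have hz2' : z = homOf e₂ zq := involution_q8 e₂ hz2 hzne hzsq
  -- `z` is central in `S`
  have hcentral : ∀ g : S, g * z = z * g := by
    haveI : Nontrivial S := ⟨⟨z, 1, hzne⟩⟩
    haveI := hS.center_nontrivial
    obtain ⟨c, hc⟩ := exists_ne (1 : ↥(Subgroup.center S))
    have hc1 : (c : S) ≠ 1 := fun h => hc (Subtype.ext h)
    have hcc : ∀ g : S, g * (c : S) = (c : S) * g := fun g => (Subgroup.mem_center_iff.mp c.2 g)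
    have hcQ : (c : S) ∈ Q₁ ⊔ Q₂ := by
      apply hC
      rw [Subgroup.mem_centralizer_iff]
      intro g _
      exact hcc g
    obtain ⟨a, ha, b, hb, hab⟩ := exists_mul_of_mem_sup hcomm hcQ
    have ha' : a = 1 ∨ a = z := by
      apply central_q8 e₁ ha
      intro p hp
      have h1 := hcc p
      rw [hab] at h1
      -- p * (a * b) = a * b * p, b commutes with p
      have h2 : p * b = b * p := hcomm p hp b hb
      have h3 : p * a * b = a * p * b := by
        calc p * a * b = p * (a * b) := by group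
          _ = a * b * p := h1
          _ = a * (b * p) := by group
          _ = a * (p * b) := by rw [h2]
          _ = a * p * b := by group
      exact (mul_right_cancel h3).symm
    have hb' : b = 1 ∨ b = z := by
      rw [hz2']
      apply central_q8 e₂ hb
      intro p hp
      have h1 := hcc p
      rw [hab] at h1
      have h2 : a * p = p * a := hcomm a ha p hp
      have h3 : a * (p * b) = a * (b * p) := by
        calc a * (p * b) = a * p * b := by group
          _ = p * a * b := by rw [h2]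
          _ = p * (a * b) := by group
          _ = a * b * p := h1
          _ = a * (b * p) := by group
      exact (mul_left_cancel h3).symm
    have hcz : (c : S) = z := by
      rcases ha' with rfl | rfl <;> rcases hb' with rfl | rfl
      · exact absurd (by rw [hab, mul_one]) hc1
      · rw [hab, one_mul]
      · rw [hab, mul_one]
      · exact absurd (by rw [hab, hzsq]) hc1
    intro g
    rw [← hcz]
    exact hcc g
  exact ⟨z, ⟨inferInstance, hS, ⟨e₁⟩, ⟨e₂⟩, hcomm, hQ32, hC, hzne, hzsq, hcentral, hz1, hz2⟩⟩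

/-- under `Base`, `z` is the central involution of `Q₁` -/
theorem base_z₁ {Q₁ Q₂ : Subgroup S} {z : S} (hB : Base Q₁ Q₂ z) (e₁ : Q₁ ≃* QuaternionGroup 2) :
    homOf e₁ zq = z :=
  (involution_q8 e₁ hB.z_mem₁ hB.z_ne hB.z_sq).symm

/-- under `Base`, `z` is the central involution of `Q₂` -/
theorem base_z₂ {Q₁ Q₂ : Subgroup S} {z : S} (hB : Base Q₁ Q₂ z) (e₂ : Q₂ ≃* QuaternionGroup 2) :
    homOf e₂ zq = z :=
  (involution_q8 e₂ hB.z_mem₂ hB.z_ne hB.z_sq).symm

/-- `⟨z⟩ = {1, z}` -/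
theorem mem_Zs_iff {z : S} (hz : z * z = 1) {x : S} : x ∈ Zs z ↔ x = 1 ∨ x = z := by
  constructor
  · intro hx
    obtain ⟨k, hk⟩ := Subgroup.mem_zpowers_iff.mp hx
    have h2 : z ^ (2 : ℤ) = 1 := by rw [zpow_ofNat, pow_two, hz]
    rcases Int.emod_two_eq_zero_or_one k with h | h
    · left
      have hk2 : k = 2 * (k / 2) := by omega
      rw [← hk, hk2, zpow_mul, h2, one_zpow]
    · right
      have hk2 : k = 2 * (k / 2) + 1 := by omega
      rw [← hk, hk2, zpow_add, zpow_mul, h2, one_zpow, one_mul, zpow_one]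
  · intro hx
    rcases hx with h | h
    · rw [h]; exact one_mem _
    · rw [h]; exact Subgroup.mem_zpowers z

end Cfsg.Agent.Lib.Helper6.S1233A
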