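import Mathlib
import Cfsg.Agent.Lib.Helper1.S1233Defs
import Cfsg.Agent.Lib.Helper6.QQA1
import Cfsg.Agent.Lib.Helper6.S1233A0

set_option autoImplicit false
set_option linter.unusedVariables false
set_option linter.unusedSectionVars false
set_option linter.style.longLine false
set_option linter.style.haveILetI false
set_option maxHeartbeats 1000000

/-!
# S1233 farm, unit U-A1: squares, commutators, intersection, and the quaternion group `Q₁`
-/

namespace Cfsg.Agent.Lib.Helper6.S1233A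

open Cfsg.Agent.Lib.Helper1.S1233 Cfsg.Agent.Lib.Helper6.QQA QuaternionGroup

theorem q8_cm : ∀ u v : QuaternionGroup 2, u⁻¹ * v⁻¹ * u * v = 1 ∨ u⁻¹ * v⁻¹ * u * v = zq := by
  decide

theorem q8_gen2 : ∀ u v : QuaternionGroup 2, u * u = zq → v * v = zq →
    (∀ m : Fin 4, v ≠ u ^ (m : ℕ)) →
    v⁻¹ * u * v = u⁻¹ ∧ ∀ w : QuaternionGroup 2, ∃ m n : Fin 4, w = u ^ (m : ℕ) * v ^ (n : ℕ) := by
  decide

theorem q8_one_or : ∀ w : QuaternionGroup 2, (w = 1 ∨ w = zq) ∨ w * w = zq := by decide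

variable {S : Type*} [Group S]

section quat

variable {P : Subgroup S} (e : ↥P ≃* QuaternionGroup 2) {z : S} (hz : homOf e zq = z)
include hz

theorem q8_sub_sq {x : S} (hx : x ∈ P) : x * x ∈ Zs z := by
  obtain ⟨w, rfl⟩ := exists_homOf_eq e hx
  rcases hom_sq (homOf e) w with h | h
  · rw [h]; exact one_mem _
  · rw [h, hz]; exact Subgroup.mem_zpowers z

theorem q8_sub_cm {x y : S} (hx : x ∈ P) (hy : y ∈ P) : cm x y ∈ Zs z := by
  obtain ⟨u, rfl⟩ := exists_homOf_eq e hx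
  obtain ⟨v, rfl⟩ := exists_homOf_eq e hy
  have h : cm (homOf e u) (homOf e v) = homOf e (u⁻¹ * v⁻¹ * u * v) := by
    simp only [cm, map_mul, map_inv]
  rw [h]
  rcases q8_cm u v with h1 | h1
  · rw [h1, map_one]; exact one_mem _
  · rw [h1, hz]; exact Subgroup.mem_zpowers z

theorem q8_sub_one_or {x : S} (hx : x ∈ P) : x ∈ Zs z ∨ x * x = z := by
  obtain ⟨w, rfl⟩ := exists_homOf_eq e hx
  rcases q8_one_or w with (h | h) | h
  · left; rw [h, map_one]; exact one_mem _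
  · left; rw [h, hz]; exact Subgroup.mem_zpowers z
  · right; rw [← map_mul, h, hz]

theorem q8_sub_gen {x y : S} (hx : x ∈ P) (hy : y ∈ P) (hxx : x * x = z) (hyy : y * y = z)
    (hne : y ∉ Subgroup.zpowers x) : y⁻¹ * x * y = x⁻¹ ∧ P = Subgroup.closure {x, y} := by
  obtain ⟨u, rfl⟩ := exists_homOf_eq e hx
  obtain ⟨v, rfl⟩ := exists_homOf_eq e hy
  have hinj := homOf_injective e
  have hu : u * u = zq := hinj (by rw [map_mul, hxx, hz])
  have hv : v * v = zq := hinj (by rw [map_mul, hyy, hz])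
  have hm : ∀ m : Fin 4, v ≠ u ^ (m : ℕ) := by
    intro m h
    apply hne
    rw [h, map_pow]
    exact Subgroup.pow_mem _ (Subgroup.mem_zpowers _) _
  obtain ⟨h1, h2⟩ := q8_gen2 u v hu hv hm
  refine ⟨?_, ?_⟩
  · rw [← map_inv, ← map_inv, ← map_mul, ← map_mul, h1]
  · apply le_antisymm
    · intro p hp
      obtain ⟨w, rfl⟩ := exists_homOf_eq e hp
      obtain ⟨m, n, rfl⟩ := h2 w
      rw [map_mul, map_pow, map_pow]
      exact mul_mem (Subgroup.pow_mem _ (Subgroup.subset_closure (by simp)) _)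
        (Subgroup.pow_mem _ (Subgroup.subset_closure (by simp)) _)
    · rw [Subgroup.closure_le]
      intro p hp
      rcases hp with rfl | rfl
      · exact homOf_mem e u
      · exact homOf_mem e v

end quat

variable {Q₁ Q₂ : Subgroup S} {z : S}

theorem A1_sq (hB : Base Q₁ Q₂ z) : ∀ x ∈ Q₁ ⊔ Q₂, x * x ∈ Zs z := by
  obtain ⟨e₁⟩ := hB.q1
  obtain ⟨e₂⟩ := hB.q2
  intro x hx
  obtain ⟨a, ha, b, hb, rfl⟩ := exists_mul_of_mem_sup hB.comm hx
  have h1 : a * b * (a * b) = (a * a) * (b * b) := by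
    have := hB.comm a ha b hb
    calc a * b * (a * b) = a * (b * a) * b := by group
      _ = a * (a * b) * b := by rw [this]
      _ = (a * a) * (b * b) := by group
  rw [h1]
  exact mul_mem (q8_sub_sq e₁ (base_z₁ hB e₁) ha) (q8_sub_sq e₂ (base_z₂ hB e₂) hb)

theorem A1_comm (hB : Base Q₁ Q₂ z) : ∀ x ∈ Q₁ ⊔ Q₂, ∀ y ∈ Q₁ ⊔ Q₂, cm x (y) ∈ Zs z := by
  obtain ⟨e₁⟩ := hB.q1
  obtain ⟨e₂⟩ := hB.q2
  intro x hx y hy
  have hc : ∀ (m : ↥Q₁) (n : ↥Q₂), Commute (Q₁.subtype m) (Q₂.subtype n) :=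
    fun m n => hB.comm m.1 m.2 n.1 n.2
  have hr : (MonoidHom.noncommCoprod Q₁.subtype Q₂.subtype hc).range = Q₁ ⊔ Q₂ := by
    rw [MonoidHom.noncommCoprod_range, Subgroup.range_subtype, Subgroup.range_subtype]
  rw [← hr] at hx hy
  obtain ⟨p, rfl⟩ := hx
  obtain ⟨q, rfl⟩ := hy
  set f := MonoidHom.noncommCoprod Q₁.subtype Q₂.subtype hc with hf
  have h : cm (f p) (f q) = f (p⁻¹ * q⁻¹ * p * q) := by
    simp only [cm, map_mul, map_inv]
  rw [h]
  have h2 : f (p⁻¹ * q⁻¹ * p * q) = cm (p.1 : S) (q.1 : S) * cm (p.2 : S) (q.2 : S) := by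
    rfl
  rw [h2]
  exact mul_mem (q8_sub_cm e₁ (base_z₁ hB e₁) p.1.2 q.1.2)
    (q8_sub_cm e₂ (base_z₂ hB e₂) p.2.2 q.2.2)

theorem A1_inf (hB : Base Q₁ Q₂ z) : Q₁ ⊓ Q₂ = Zs z := by
  obtain ⟨e₁⟩ := hB.q1
  apply le_antisymm
  · intro x hx
    rw [mem_Zs_iff hB.z_sq]
    have := central_q8 e₁ hx.1 (fun p hp => (hB.comm p hp x hx.2).symm)
    rwa [base_z₁ hB e₁] at this
  · rw [Subgroup.zpowers_le]
    exact ⟨hB.z_mem₁, hB.z_mem₂⟩

/-- elements of the quaternion group `Q₁` -/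
theorem A1_q8 (hB : Base Q₁ Q₂ z) : ∀ x ∈ Q₁, x ∈ Zs z ∨ x * x = z := by
  obtain ⟨e₁⟩ := hB.q1
  intro x hx
  exact q8_sub_one_or e₁ (base_z₁ hB e₁) hx

theorem A1_q8_gen (hB : Base Q₁ Q₂ z) : ∀ x ∈ Q₁, ∀ y ∈ Q₁, x * x = z → y * y = z →
    y ∉ Subgroup.zpowers x → y⁻¹ * x * y = x⁻¹ ∧ Q₁ = Subgroup.closure {x, y} := by
  obtain ⟨e₁⟩ := hB.q1
  intro x hx y hy hxx hyy hne
  exact q8_sub_gen e₁ (base_z₁ hB e₁) hx hy hxx hyy hne

end Cfsg.Agent.Lib.Helper6.S1233A
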