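import Mathlib
import Cfsg.Agent.Lib.Helper1.S1233Defs
import Cfsg.Agent.Lib.Helper6.QQA1
import Cfsg.Agent.Lib.Helper6.S1233A0
import Cfsg.Agent.Lib.Helper6.S1233A1

set_option autoImplicit false
set_option linter.unusedVariables false
set_option linter.unusedSectionVars false
set_option linter.style.longLine false
set_option linter.style.haveILetI false
set_option maxHeartbeats 1000000

/-!
# S1233 farm, units U-A5, U-A2, U-A3
-/

namespace Cfsg.Agent.Lib.Helper6.S1233A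

open Cfsg.Agent.Lib.Helper1.S1233 Cfsg.Agent.Lib.Helper6.QQA QuaternionGroup

variable {S : Type*} [Group S]

/-- **A5**, generic form: an element acting trivially modulo `z` on `P ≅ Q8` is a product of an
element of `P` and an element centralizing `P`. -/
theorem A5_gen {P : Subgroup S} (e : ↥P ≃* QuaternionGroup 2) {z : S} (hz : homOf e zq = z)
    (hzsq : z * z = 1) (x : S) (hx : ∀ a ∈ P, cm x (a) ∈ Zs z) :
    ∃ q ∈ P, ∃ y ∈ cen P, x = q * y := by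
  have h1 : ∀ w, x⁻¹ * homOf e w * x⁻¹⁻¹ * (homOf e w)⁻¹ = 1 ∨
      x⁻¹ * homOf e w * x⁻¹⁻¹ * (homOf e w)⁻¹ = homOf e zq := by
    intro w
    have h2 := hx (homOf e w)⁻¹ (P.inv_mem (homOf_mem e w))
    rw [mem_Zs_iff hzsq] at h2
    have h3 : cm x (homOf e w)⁻¹ = x⁻¹ * homOf e w * x⁻¹⁻¹ * (homOf e w)⁻¹ := by
      simp only [cm, inv_inv]
    rw [h3] at h2
    rw [hz]
    exact h2
  obtain ⟨v, hv⟩ := exists_inner_of_comm (homOf e) x⁻¹ h1
  -- `y' = (φ v)⁻¹ x⁻¹` centralizes `P`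
  have hy' : ∀ p ∈ P, p * ((homOf e v)⁻¹ * x⁻¹) = ((homOf e v)⁻¹ * x⁻¹) * p := by
    intro p hp
    obtain ⟨w, rfl⟩ := exists_homOf_eq e hp
    have h4 := hv w
    rw [inv_inv] at h4
    -- x⁻¹ φw x = φv φw φv⁻¹
    have h5 : (homOf e v)⁻¹ * x⁻¹ * homOf e w = homOf e w * ((homOf e v)⁻¹ * x⁻¹) := by
      calc (homOf e v)⁻¹ * x⁻¹ * homOf e w
          = (homOf e v)⁻¹ * (x⁻¹ * homOf e w * x) * x⁻¹ := by group
        _ = (homOf e v)⁻¹ * (homOf e v * homOf e w * (homOf e v)⁻¹) * x⁻¹ := by rw [h4]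
        _ = homOf e w * ((homOf e v)⁻¹ * x⁻¹) := by group
    exact h5.symm
  refine ⟨(homOf e v)⁻¹, P.inv_mem (homOf_mem e v), ((homOf e v)⁻¹ * x⁻¹)⁻¹, ?_, ?_⟩
  · apply Subgroup.inv_mem
    rw [Subgroup.mem_centralizer_iff]
    intro p hp
    exact hy' p hp
  · -- x = (φ v)⁻¹ * ((φ v)⁻¹ x⁻¹)⁻¹ : use that y' commutes with φ v⁻¹
    have h6 := hy' (homOf e v)⁻¹ (P.inv_mem (homOf_mem e v))
    -- (φv)⁻¹ * y' = y' * (φv)⁻¹
    have h7 : x = ((homOf e v)⁻¹ * x⁻¹)⁻¹ * (homOf e v)⁻¹ := by group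
    have h8 : ((homOf e v)⁻¹ * x⁻¹)⁻¹ * (homOf e v)⁻¹ =
        (homOf e v)⁻¹ * ((homOf e v)⁻¹ * x⁻¹)⁻¹ := by
      have h9 : ((homOf e v)⁻¹ * x⁻¹)⁻¹ * (homOf e v)⁻¹ * ((homOf e v)⁻¹ * x⁻¹) = (homOf e v)⁻¹ := by
        rw [mul_assoc, h6, ← mul_assoc, inv_mul_cancel, one_mul]
      calc ((homOf e v)⁻¹ * x⁻¹)⁻¹ * (homOf e v)⁻¹
          = (((homOf e v)⁻¹ * x⁻¹)⁻¹ * (homOf e v)⁻¹ * ((homOf e v)⁻¹ * x⁻¹)) *
              ((homOf e v)⁻¹ * x⁻¹)⁻¹ := by group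
        _ = (homOf e v)⁻¹ * ((homOf e v)⁻¹ * x⁻¹)⁻¹ := by rw [h9]
    rw [← h8]
    exact h7

variable {Q₁ Q₂ : Subgroup S} {z : S}

/-- A5 -/
theorem A5 (hB : Base Q₁ Q₂ z) : ∀ x : S, (∀ a ∈ Q₁, cm x (a) ∈ Zs z) →
    ∃ q ∈ Q₁, ∃ y ∈ cen Q₁, x = q * y := by
  obtain ⟨e₁⟩ := hB.q1
  intro x hx
  exact A5_gen e₁ (base_z₁ hB e₁) hB.z_sq x hx

/-- A5 for the second factor -/
theorem A5' (hB : Base Q₁ Q₂ z) : ∀ x : S, (∀ a ∈ Q₂, cm x (a) ∈ Zs z) →
    ∃ q ∈ Q₂, ∃ y ∈ cen Q₂, x = q * y := by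
  obtain ⟨e₂⟩ := hB.q2
  intro x hx
  exact A5_gen e₂ (base_z₂ hB e₂) hB.z_sq x hx

/-- KEY A2 -/
theorem A2 (hB : Base Q₁ Q₂ z) : ∀ x : S, (∀ q ∈ Q₁ ⊔ Q₂, cm x (q) ∈ Zs z) → x ∈ Q₁ ⊔ Q₂ := by
  intro x hx
  obtain ⟨q1, hq1, y1, hy1, rfl⟩ := A5 hB x (fun a ha => hx a (Subgroup.mem_sup_left ha))
  have hy1' : ∀ b ∈ Q₂, cm y1 (b) ∈ Zs z := by
    intro b hb
    have h1 := hx b (Subgroup.mem_sup_right hb)
    have h2 : cm (q1 * y1) b = cm y1 b := by
      have h3 : q1⁻¹ * b⁻¹ = b⁻¹ * q1⁻¹ := by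
        have := hB.comm q1 hq1 b hb
        calc q1⁻¹ * b⁻¹ = (b * q1)⁻¹ := by group
          _ = (q1 * b)⁻¹ := by rw [this]
          _ = b⁻¹ * q1⁻¹ := by group
      calc cm (q1 * y1) b = y1⁻¹ * (q1⁻¹ * b⁻¹) * q1 * y1 * b := by simp only [cm]; group
        _ = y1⁻¹ * (b⁻¹ * q1⁻¹) * q1 * y1 * b := by rw [h3]
        _ = cm y1 b := by simp only [cm]; group
    rw [h2] at h1
    exact h1
  obtain ⟨q2, hq2, y2, hy2, rfl⟩ := A5' hB y1 hy1'
  -- y2 centralizes Q₁ too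
  have hy2' : y2 ∈ cen Q₁ := by
    have hq2c : q2 ∈ cen Q₁ := by
      rw [Subgroup.mem_centralizer_iff]
      intro a ha
      exact hB.comm a ha q2 hq2
    have : y2 = q2⁻¹ * (q2 * y2) := by group
    rw [this]
    exact mul_mem (inv_mem hq2c) hy1
  have hy2Q : y2 ∈ Q₁ ⊔ Q₂ := by
    apply hB.cent
    rw [Subgroup.mem_centralizer_iff]
    intro g hg
    have hle : Q₁ ⊔ Q₂ ≤ Subgroup.centralizer {y2} := by
      apply sup_le
      · intro a ha
        rw [Subgroup.mem_centralizer_iff]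
        intro y hy
        rw [Set.mem_singleton_iff] at hy
        subst hy
        exact ((Subgroup.mem_centralizer_iff.mp hy2') a ha).symm
      · intro b hb
        rw [Subgroup.mem_centralizer_iff]
        intro y hy
        rw [Set.mem_singleton_iff] at hy
        subst hy
        exact ((Subgroup.mem_centralizer_iff.mp hy2) b hb).symm
    have := (Subgroup.mem_centralizer_iff.mp (hle hg)) y2 (Set.mem_singleton y2)
    exact this.symm
  exact mul_mem (Subgroup.mem_sup_left hq1) (mul_mem (Subgroup.mem_sup_right hq2) hy2Q)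

theorem A3_cent (hB : Base Q₁ Q₂ z) : ∀ x ∈ Q₁ ⊔ Q₂, (∀ b ∈ Q₂, x * b = b * x) → x ∈ Q₁ := by
  obtain ⟨e₂⟩ := hB.q2
  intro x hx hc
  obtain ⟨a, ha, b0, hb0, rfl⟩ := exists_mul_of_mem_sup hB.comm hx
  have hb0' : b0 = 1 ∨ b0 = homOf e₂ zq := by
    apply central_q8 e₂ hb0
    intro p hp
    have h1 := hc p hp
    have h2 : a * p = p * a := hB.comm a ha p hp
    have h3 : a * (b0 * p) = a * (p * b0) := by
      calc a * (b0 * p) = a * b0 * p := by group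
        _ = p * (a * b0) := h1
        _ = p * a * b0 := by group
        _ = a * p * b0 := by rw [h2]
        _ = a * (p * b0) := by group
    exact mul_left_cancel h3
  rw [base_z₂ hB e₂] at hb0'
  rcases hb0' with rfl | rfl
  · rw [mul_one]; exact ha
  · exact mul_mem ha hB.z_mem₁

theorem A3_sq (hB : Base Q₁ Q₂ z) : ∀ x ∈ Q₁ ⊔ Q₂, x * x = z → x ∈ Q₁ ∨ x ∈ Q₂ := by
  obtain ⟨e₁⟩ := hB.q1
  obtain ⟨e₂⟩ := hB.q2
  intro x hx hxx
  obtain ⟨a, ha, b, hb, rfl⟩ := exists_mul_of_mem_sup hB.comm hx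
  have h1 : a * b * (a * b) = (a * a) * (b * b) := by
    have := hB.comm a ha b hb
    calc a * b * (a * b) = a * (b * a) * b := by group
      _ = a * (a * b) * b := by rw [this]
      _ = (a * a) * (b * b) := by group
  rw [h1] at hxx
  have haa := q8_sub_sq e₁ (base_z₁ hB e₁) ha
  have hbb := q8_sub_sq e₂ (base_z₂ hB e₂) hb
  rw [mem_Zs_iff hB.z_sq] at haa hbb
  rcases haa with haa | haa
  · -- a is an involution or 1: a ∈ ⟨z⟩ ≤ Q₂
    right
    have ha' : a = 1 ∨ a = z := by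
      by_cases h : a = 1
      · left; exact h
      · right
        have := involution_q8 e₁ ha h haa
        rwa [base_z₁ hB e₁] at this
    rcases ha' with rfl | rfl
    · rw [one_mul]; exact hb
    · exact mul_mem hB.z_mem₂ hb
  · rcases hbb with hbb | hbb
    · left
      have hb' : b = 1 ∨ b = z := by
        by_cases h : b = 1
        · left; exact h
        · right
          have := involution_q8 e₂ hb h hbb
          rwa [base_z₂ hB e₂] at this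
      rcases hb' with rfl | rfl
      · rw [mul_one]; exact ha
      · exact mul_mem ha hB.z_mem₁
    · exfalso
      rw [haa, hbb, hB.z_sq] at hxx
      exact hB.z_ne hxx.symm

theorem q8_ij_ne : iq * jq ≠ jq * iq := by decide

theorem A3_q8 (hB : Base Q₁ Q₂ z) : ∀ P : Subgroup S, P ≤ Q₁ ⊔ Q₂ →
    Nonempty (P ≃* QuaternionGroup 2) → P = Q₁ ∨ P = Q₂ := by
  obtain ⟨e₁⟩ := hB.q1
  obtain ⟨e₂⟩ := hB.q2
  haveI := hB.fin
  intro P hP ⟨e⟩
  have hinj := homOf_injective e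
  -- the involution of `P` is `z`
  have hzP : homOf e zq = z := by
    have h1 : homOf e zq ∈ Zs z := by
      rw [← q8_i_sq, map_mul]
      exact A1_sq hB _ (hP (homOf_mem e iq))
    rw [mem_Zs_iff hB.z_sq] at h1
    rcases h1 with h1 | h1
    · exact absurd h1 (hom_z_ne (homOf e) hinj)
    · exact h1
  have hi : homOf e iq * homOf e iq = z := by rw [← map_mul, q8_i_sq, hzP]
  have hj : homOf e jq * homOf e jq = z := by rw [← map_mul, q8_j_sq, hzP]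
  have hncomm : homOf e iq * homOf e jq ≠ homOf e jq * homOf e iq := by
    intro h
    apply q8_ij_ne
    apply hinj
    rw [map_mul, map_mul, h]
  have hgen : ∀ T : Subgroup S, homOf e iq ∈ T → homOf e jq ∈ T → P ≤ T := by
    intro T h1 h2 p hp
    obtain ⟨w, rfl⟩ := exists_homOf_eq e hp
    obtain ⟨m, n, rfl⟩ := q8_gen w
    rw [map_mul, map_pow, map_pow]
    exact mul_mem (T.pow_mem h1 _) (T.pow_mem h2 _)
  rcases A3_sq hB _ (hP (homOf_mem e iq)) hi with h1 | h1 <;>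
    rcases A3_sq hB _ (hP (homOf_mem e jq)) hj with h2 | h2
  · left
    apply Subgroup.eq_of_le_of_card_ge (hgen Q₁ h1 h2)
    rw [card_q8 e, card_q8 e₁]
  · exact absurd (hB.comm _ h1 _ h2) hncomm
  · exact absurd (hB.comm _ h2 _ h1).symm hncomm
  · right
    apply Subgroup.eq_of_le_of_card_ge (hgen Q₂ h1 h2)
    rw [card_q8 e, card_q8 e₂]

end Cfsg.Agent.Lib.Helper6.S1233A
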