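import Mathlib
import Cfsg.Agent.Lib.Helper6.QQA1

set_option autoImplicit false
set_option linter.unusedVariables false
set_option linter.unusedSectionVars false
set_option linter.style.longLine false
set_option maxHeartbeats 4000000
set_option maxRecDepth 100000
set_option synthInstance.maxHeartbeats 400000
set_option synthInstance.maxSize 2048

/-!
# S1233 farm, unit U-A4, part a: automorphisms of `Q8` as pairs of generators (all by `decide`)

An automorphism `α` of `QuaternionGroup 2` is recorded by the pair `(u, v) = (α iq, α jq)`;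
`ev u v` is the induced map.  `F1, F2, F3` say that `α` fixes the line `⟨iq⟩`, `⟨jq⟩`,
`⟨iq * jq⟩` respectively; `α` is inner iff `F1 ∧ F2`.
-/

namespace Cfsg.Agent.Lib.Helper6.QQA

open QuaternionGroup

/-- the map of `Q8` determined by the images `u, v` of the generators `iq, jq` -/
def ev (u v : QuaternionGroup 2) : QuaternionGroup 2 → QuaternionGroup 2
  | a k => u ^ (ZMod.val k)
  | xa k => u ^ (ZMod.val (-k)) * v

/-- `(u, v)` is the image of `(iq, jq)` under an automorphism -/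
def Val (u v : QuaternionGroup 2) : Prop := u * u = zq ∧ v * v = zq ∧ u * v ≠ v * u
instance (u v : QuaternionGroup 2) : Decidable (Val u v) := by unfold Val; infer_instance
/-- the line `⟨iq⟩` is fixed -/
def F1 (u v : QuaternionGroup 2) : Prop := u = iq ∨ u = zq * iq
instance (u v : QuaternionGroup 2) : Decidable (F1 u v) := by unfold F1; infer_instance
/-- the line `⟨jq⟩` is fixed -/
def F2 (u v : QuaternionGroup 2) : Prop := v = jq ∨ v = zq * jq
instance (u v : QuaternionGroup 2) : Decidable (F2 u v) := by unfold F2; infer_instance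
/-- the line `⟨iq * jq⟩` is fixed -/
def F3 (u v : QuaternionGroup 2) : Prop := u * v = iq * jq ∨ u * v = zq * (iq * jq)
instance (u v : QuaternionGroup 2) : Decidable (F3 u v) := by unfold F3; infer_instance
/-- exactly one line is fixed -/
def One (u v : QuaternionGroup 2) : Prop := ¬ (F1 u v ∧ F2 u v) ∧ (F1 u v ∨ F2 u v ∨ F3 u v)
instance (u v : QuaternionGroup 2) : Decidable (One u v) := by unfold One; infer_instance

theorem ev_iq : ∀ u v : QuaternionGroup 2, ev u v iq = u := by decide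
theorem ev_jq : ∀ u v : QuaternionGroup 2, ev u v jq = v := by decide

theorem ev_gen : ∀ u v : QuaternionGroup 2, Val u v →
    ∀ m n : Fin 4, ev u v (iq ^ (m : ℕ) * jq ^ (n : ℕ)) = u ^ (m : ℕ) * v ^ (n : ℕ) := by decide

theorem ev_inner_cm : ∀ u v : QuaternionGroup 2, Val u v → F1 u v → F2 u v →
    ∀ w : QuaternionGroup 2, ev u v w⁻¹ * w = 1 ∨ ev u v w⁻¹ * w = zq := by decide

theorem conj_F : ∀ q : QuaternionGroup 2,
    F1 (q⁻¹ * iq * q) (q⁻¹ * jq * q) ∧ F2 (q⁻¹ * iq * q) (q⁻¹ * jq * q) := by decide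

theorem ev_three : ∀ u v : QuaternionGroup 2, Val u v → ¬ F1 u v → ¬ F2 u v → ¬ F3 u v →
    F1 (ev u v (ev u v (ev u v iq))) (ev u v (ev u v (ev u v jq))) ∧
    F2 (ev u v (ev u v (ev u v iq))) (ev u v (ev u v (ev u v jq))) := by decide

theorem two_lines : ∀ u v : QuaternionGroup 2, Val u v →
    (F1 u v → F3 u v → F2 u v) ∧ (F2 u v → F3 u v → F1 u v) := by decide

theorem ev_prod : ∀ u v u' v' : QuaternionGroup 2, Val u v → Val u' v' → One u v → One u' v' →
    ¬ One (ev u' v' u) (ev u' v' v) := by decide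

theorem fix_unique1 : ∀ u v : QuaternionGroup 2, Val u v → F1 u v → ¬ F2 u v →
    ∀ w : QuaternionGroup 2, w * w = zq → (∃ m : Fin 4, ev u v w = w ^ (m : ℕ)) →
    ∃ m : Fin 4, w = iq ^ (m : ℕ) := by decide

theorem fix_unique2 : ∀ u v : QuaternionGroup 2, Val u v → F2 u v → ¬ F1 u v →
    ∀ w : QuaternionGroup 2, w * w = zq → (∃ m : Fin 4, ev u v w = w ^ (m : ℕ)) →
    ∃ m : Fin 4, w = jq ^ (m : ℕ) := by decide

theorem fix_unique3 : ∀ u v : QuaternionGroup 2, Val u v → F3 u v → ¬ F1 u v →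
    ∀ w : QuaternionGroup 2, w * w = zq → (∃ m : Fin 4, ev u v w = w ^ (m : ℕ)) →
    ∃ m : Fin 4, w = (iq * jq) ^ (m : ℕ) := by decide

theorem ev_outer : ∀ u v a0 b0 : QuaternionGroup 2, Val u v → a0 * a0 = zq → b0 * b0 = zq →
    (∀ m : Fin 4, b0 ≠ a0 ^ (m : ℕ)) → ev u v a0 = a0 →
    ((ev u v b0 = b0 ∨ ev u v b0 = b0 * zq) → F1 u v ∧ F2 u v) ∧
    (¬ (F1 u v ∧ F2 u v) → (ev u v b0 = b0 * a0 ∨ ev u v b0 = b0 * a0⁻¹) ∧
      ev u v (ev u v b0) = b0 * zq) := by decide

theorem q8_pow_four : ∀ w : QuaternionGroup 2, w ^ 4 = 1 := by decide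

theorem q8_k_sq : (iq * jq) * (iq * jq) = zq := by decide

end Cfsg.Agent.Lib.Helper6.QQA
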