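import Mathlib
import Cfsg.Agent.Lib.Helper1.S1233Defs
import Cfsg.Agent.Lib.Helper6.QQA1
import Cfsg.Agent.Lib.Helper6.S1233A0
import Cfsg.Agent.Lib.Helper6.S1233A1
import Cfsg.Agent.Lib.Helper6.S1233A2
import Cfsg.Agent.Lib.Helper6.S1233A4a

set_option autoImplicit false
set_option linter.unusedVariables false
set_option linter.unusedSectionVars false
set_option linter.style.longLine false
set_option linter.style.haveILetI false
set_option maxHeartbeats 1000000

/-!
# S1233 farm, unit U-A4, part b: elements normalizing a quaternion subgroup `P` of a `2`-group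

`K = P ⊔ C(P)`.  For `x` with `x⁻¹ P x ≤ P` the pair `(u, v)` with `x⁻¹ φ(iq) x = φ u`,
`x⁻¹ φ(jq) x = φ v` determines the action; `x ∈ K ↔ F1 u v ∧ F2 u v`; a `2`-element fixes a line.
-/

namespace Cfsg.Agent.Lib.Helper6.S1233A

open Cfsg.Agent.Lib.Helper1.S1233 Cfsg.Agent.Lib.Helper6.QQA QuaternionGroup

variable {S : Type*} [Group S]

section general

variable {P : Subgroup S} (e : ↥P ≃* QuaternionGroup 2)

/-- the action of a normalizing element is given by `ev u v` -/
theorem conj_eq_ev (x : S) (u v : QuaternionGroup 2)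
    (hu : x⁻¹ * homOf e iq * x = homOf e u) (hv : x⁻¹ * homOf e jq * x = homOf e v) :
    Val u v ∧ ∀ w, x⁻¹ * homOf e w * x = homOf e (ev u v w) := by
  have hinj := homOf_injective e
  have hsq : ∀ (w w' : QuaternionGroup 2), w * w = zq → x⁻¹ * homOf e w * x = homOf e w' →
      w' * w' = zq := by
    intro w w' hw hw'
    have h1 : homOf e (w' * w') = x⁻¹ * homOf e zq * x := by
      rw [map_mul, ← hw', ← hw, map_mul]; group
    have h2 : homOf e (w' * w') * homOf e (w' * w') = 1 := by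
      rw [h1]
      have := hom_z_sq (homOf e)
      calc x⁻¹ * homOf e zq * x * (x⁻¹ * homOf e zq * x)
          = x⁻¹ * (homOf e zq * homOf e zq) * x := by group
        _ = 1 := by rw [this]; group
    have h3 : homOf e (w' * w') ≠ 1 := by
      rw [h1]
      intro h
      apply hom_z_ne (homOf e) hinj
      have : homOf e zq = x * (x⁻¹ * homOf e zq * x) * x⁻¹ := by group
      rw [this, h]; group
    rcases hom_sq_one (homOf e) hinj _ h2 with h | h
    · exact absurd h h3
    · exact hinj h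
  have hval : Val u v := by
    refine ⟨hsq iq u q8_i_sq hu, hsq jq v q8_j_sq hv, ?_⟩
    intro h
    have h1 : homOf e u * homOf e v = homOf e v * homOf e u := by
      rw [← map_mul, ← map_mul, h]
    rw [← hu, ← hv] at h1
    have h2 : homOf e iq * homOf e jq = homOf e jq * homOf e iq := by
      have h3 : x⁻¹ * (homOf e iq * homOf e jq) * x = x⁻¹ * (homOf e jq * homOf e iq) * x := by
        calc x⁻¹ * (homOf e iq * homOf e jq) * x
            = x⁻¹ * homOf e iq * x * (x⁻¹ * homOf e jq * x) := by group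
          _ = x⁻¹ * homOf e jq * x * (x⁻¹ * homOf e iq * x) := h1
          _ = x⁻¹ * (homOf e jq * homOf e iq) * x := by group
      exact mul_left_cancel (mul_right_cancel h3)
    rw [← map_mul, ← map_mul] at h2
    exact (by decide : iq * jq ≠ jq * iq) (hinj h2)
  refine ⟨hval, ?_⟩
  intro w
  obtain ⟨m, n, rfl⟩ := q8_gen w
  rw [ev_gen u v hval m n, map_mul, map_pow, map_pow, map_mul, map_pow, map_pow, ← hu, ← hv]
  have h1 : ∀ (g : S) (k : ℕ), (x⁻¹ * g * x) ^ k = x⁻¹ * g ^ k * x := by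
    intro g k
    have := conj_pow (a := x⁻¹) (b := g) (i := k)
    rw [inv_inv] at this
    exact this
  rw [h1, h1]
  group

/-- a normalizing element has a pair -/
theorem exists_pair (x : S) (hx : ∀ a ∈ P, x⁻¹ * a * x ∈ P) :
    ∃ u v : QuaternionGroup 2, x⁻¹ * homOf e iq * x = homOf e u ∧
      x⁻¹ * homOf e jq * x = homOf e v := by
  obtain ⟨u, hu⟩ := exists_homOf_eq e (hx _ (homOf_mem e iq))
  obtain ⟨v, hv⟩ := exists_homOf_eq e (hx _ (homOf_mem e jq))
  exact ⟨u, v, hu.symm, hv.symm⟩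

/-- membership in `zpowers` of an element of `P` of order dividing 4 -/
theorem mem_zpowers_homOf {w w' : QuaternionGroup 2}
    (h : homOf e w' ∈ Subgroup.zpowers (homOf e w)) : ∃ m : Fin 4, w' = w ^ (m : ℕ) := by
  have hinj := homOf_injective e
  obtain ⟨k, hk⟩ := Subgroup.mem_zpowers_iff.mp h
  have h4 : homOf e w ^ (4 : ℤ) = 1 := by
    rw [zpow_ofNat, ← map_pow, q8_pow_four, map_one]
  have hk4 : k = 4 * (k / 4) + k % 4 := by omega
  have hnn : 0 ≤ k % 4 := Int.emod_nonneg k (by norm_num)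
  have hlt : k % 4 < 4 := Int.emod_lt_of_pos k (by norm_num)
  obtain ⟨n, hn⟩ : ∃ n : ℕ, (n : ℤ) = k % 4 := ⟨(k % 4).toNat, Int.toNat_of_nonneg hnn⟩
  have hn4 : n < 4 := by omega
  refine ⟨⟨n, hn4⟩, ?_⟩
  apply hinj
  rw [← hk, hk4, zpow_add, zpow_mul, h4, one_zpow, one_mul, map_pow, ← hn, zpow_natCast]

variable {z : S} (hz : homOf e zq = z) (hzsq : z * z = 1)
include hz hzsq

/-- `x ∈ P ⊔ C(P)` iff its pair is inner -/
theorem mem_K_iff (x : S) (u v : QuaternionGroup 2)
    (hu : x⁻¹ * homOf e iq * x = homOf e u) (hv : x⁻¹ * homOf e jq * x = homOf e v) :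
    x ∈ P ⊔ cen P ↔ F1 u v ∧ F2 u v := by
  obtain ⟨hval, hall⟩ := conj_eq_ev e x u v hu hv
  have hinj := homOf_injective e
  constructor
  · intro hxK
    have hcomm : ∀ a ∈ P, ∀ c ∈ cen P, a * c = c * a := by
      intro a ha c hc
      exact (Subgroup.mem_centralizer_iff.mp hc) a ha
    obtain ⟨q, hq, c, hc, rfl⟩ := exists_mul_of_mem_sup hcomm hxK
    obtain ⟨q0, rfl⟩ := exists_homOf_eq e hq
    have key : ∀ w, (homOf e q0 * c)⁻¹ * homOf e w * (homOf e q0 * c) = homOf e (q0⁻¹ * w * q0) := by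
      intro w
      have h1 := hcomm (homOf e (q0⁻¹ * w * q0)) (homOf_mem e _) c hc
      calc (homOf e q0 * c)⁻¹ * homOf e w * (homOf e q0 * c)
          = c⁻¹ * (homOf e (q0⁻¹ * w * q0) * c) := by
            rw [map_mul, map_mul, map_inv]; group
        _ = c⁻¹ * (c * homOf e (q0⁻¹ * w * q0)) := by rw [h1]
        _ = homOf e (q0⁻¹ * w * q0) := by group
    have hu' : u = q0⁻¹ * iq * q0 := hinj (by rw [← hu, key])
    have hv' : v = q0⁻¹ * jq * q0 := hinj (by rw [← hv, key])
    rw [hu', hv']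
    exact conj_F q0
  · rintro ⟨h1, h2⟩
    have hcm : ∀ a ∈ P, cm x (a) ∈ Zs z := by
      intro a ha
      obtain ⟨w, rfl⟩ := exists_homOf_eq e ha
      have h3 : cm x (homOf e w) = homOf e (ev u v w⁻¹ * w) := by
        rw [map_mul, ← hall w⁻¹, map_inv]
      rw [h3]
      rcases ev_inner_cm u v hval h1 h2 w with h | h
      · rw [h, map_one]; exact one_mem _
      · rw [h, hz]; exact Subgroup.mem_zpowers z
    obtain ⟨q, hq, y, hy, rfl⟩ := A5_gen e hz hzsq x hcm
    exact mul_mem (Subgroup.mem_sup_left hq) (Subgroup.mem_sup_right hy)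

/-- a normalizing element of a finite `2`-group fixes one of the three lines -/
theorem exists_fix [Finite S] (hS : IsPGroup 2 S) (x : S) (u v : QuaternionGroup 2)
    (hu : x⁻¹ * homOf e iq * x = homOf e u) (hv : x⁻¹ * homOf e jq * x = homOf e v) :
    F1 u v ∨ F2 u v ∨ F3 u v := by
  haveI : Fact (Nat.Prime 2) := ⟨Nat.prime_two⟩
  obtain ⟨hval, hall⟩ := conj_eq_ev e x u v hu hv
  by_contra hcon
  push Not at hcon
  obtain ⟨n1, n2, n3⟩ := hcon
  obtain ⟨h1, h2⟩ := ev_three u v hval n1 n2 n3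
  -- the pair of `x ^ 3`
  have h3 : ∀ w, (x ^ 3)⁻¹ * homOf e w * x ^ 3 = homOf e (ev u v (ev u v (ev u v w))) := by
    intro w
    rw [← hall, ← hall, ← hall]
    rw [pow_succ, pow_two]
    group
  have hx3 : x ^ 3 ∈ P ⊔ cen P :=
    (mem_K_iff e hz hzsq (x ^ 3) _ _ (h3 iq) (h3 jq)).mpr ⟨h1, h2⟩
  obtain ⟨k, hk⟩ := (IsPGroup.iff_orderOf.mp hS) x
  have hcop : Nat.Coprime 3 (orderOf x) := by
    rw [hk]
    exact Nat.Coprime.pow_right k (by norm_num)
  obtain ⟨m, hm⟩ := exists_pow_eq_self_of_coprime hcop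
  have hxK : x ∈ P ⊔ cen P := by
    rw [← hm]
    exact Subgroup.pow_mem _ hx3 m
  exact n1 ((mem_K_iff e hz hzsq x u v hu hv).mp hxK).1

/-- the product of two elements outside `K` lies in `K` -/
theorem mul_mem_K [Finite S] (hS : IsPGroup 2 S) (x y : S)
    (hx : ∀ a ∈ P, x⁻¹ * a * x ∈ P) (hy : ∀ a ∈ P, y⁻¹ * a * y ∈ P)
    (hxK : x ∉ P ⊔ cen P) (hyK : y ∉ P ⊔ cen P) : x * y ∈ P ⊔ cen P := by
  obtain ⟨u, v, hu, hv⟩ := exists_pair e x hx
  obtain ⟨u', v', hu', hv'⟩ := exists_pair e y hy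
  obtain ⟨hval, hall⟩ := conj_eq_ev e x u v hu hv
  obtain ⟨hval', hall'⟩ := conj_eq_ev e y u' v' hu' hv'
  have hone : One u v :=
    ⟨fun h => hxK ((mem_K_iff e hz hzsq x u v hu hv).mpr h), exists_fix e hz hzsq hS x u v hu hv⟩
  have hone' : One u' v' :=
    ⟨fun h => hyK ((mem_K_iff e hz hzsq y u' v' hu' hv').mpr h),
      exists_fix e hz hzsq hS y u' v' hu' hv'⟩
  have hxy : ∀ w, (x * y)⁻¹ * homOf e w * (x * y) = homOf e (ev u' v' (ev u v w)) := by
    intro w
    rw [← hall', ← hall]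
    group
  have hxy1 : (x * y)⁻¹ * homOf e iq * (x * y) = homOf e (ev u' v' u) := by
    rw [hxy, ev_iq]
  have hxy2 : (x * y)⁻¹ * homOf e jq * (x * y) = homOf e (ev u' v' v) := by
    rw [hxy, ev_jq]
  by_contra hcon
  have hone'' : One (ev u' v' u) (ev u' v' v) :=
    ⟨fun h => hcon ((mem_K_iff e hz hzsq (x * y) _ _ hxy1 hxy2).mpr h),
      exists_fix e hz hzsq hS (x * y) _ _ hxy1 hxy2⟩
  exact ev_prod u v u' v' hval hval' hone hone' hone''

/-- an element outside `K` normalizes exactly one cyclic subgroup of order 4 -/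
theorem exists_unique_fix [Finite S] (hS : IsPGroup 2 S) (x : S)
    (hx : ∀ a ∈ P, x⁻¹ * a * x ∈ P) (hxK : x ∉ P ⊔ cen P) :
    ∃ i ∈ P, i * i = z ∧ x⁻¹ * i * x ∈ Subgroup.zpowers i ∧
      ∀ i' ∈ P, i' * i' = z → x⁻¹ * i' * x ∈ Subgroup.zpowers i' → i' ∈ Subgroup.zpowers i := by
  obtain ⟨u, v, hu, hv⟩ := exists_pair e x hx
  obtain ⟨hval, hall⟩ := conj_eq_ev e x u v hu hv
  have hinj := homOf_injective e
  have hnot : ¬ (F1 u v ∧ F2 u v) := fun h => hxK ((mem_K_iff e hz hzsq x u v hu hv).mpr h)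
  have hfix := exists_fix e hz hzsq hS x u v hu hv
  -- uniform treatment: `g` generator of the fixed line
  have main : ∀ g : QuaternionGroup 2, g * g = zq → (ev u v g = g ∨ ev u v g = zq * g) →
      (∀ w : QuaternionGroup 2, w * w = zq → (∃ m : Fin 4, ev u v w = w ^ (m : ℕ)) →
        ∃ m : Fin 4, w = g ^ (m : ℕ)) →
      ∃ i ∈ P, i * i = z ∧ x⁻¹ * i * x ∈ Subgroup.zpowers i ∧
        ∀ i' ∈ P, i' * i' = z → x⁻¹ * i' * x ∈ Subgroup.zpowers i' →
          i' ∈ Subgroup.zpowers i := by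
    intro g hg hfg huniq
    refine ⟨homOf e g, homOf_mem e g, by rw [← map_mul, hg, hz], ?_, ?_⟩
    · rw [hall]
      rcases hfg with h | h
      · rw [h]; exact Subgroup.mem_zpowers _
      · rw [h, ← hg]
        have : homOf e (g * g * g) = homOf e g ^ 3 := by
          rw [map_mul, map_mul, pow_succ, pow_two]
        rw [this]
        exact Subgroup.pow_mem _ (Subgroup.mem_zpowers _) 3
    · intro i' hi' hi'sq hi'fix
      obtain ⟨w, rfl⟩ := exists_homOf_eq e hi'
      have hw : w * w = zq := hinj (by rw [map_mul, hi'sq, hz])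
      rw [hall] at hi'fix
      obtain ⟨m, hm⟩ := mem_zpowers_homOf e hi'fix
      obtain ⟨m', hm'⟩ := huniq w hw ⟨m, hm⟩
      rw [hm', map_pow]
      exact Subgroup.pow_mem _ (Subgroup.mem_zpowers _) _
  by_cases h1 : F1 u v
  · have h2 : ¬ F2 u v := fun h => hnot ⟨h1, h⟩
    apply main iq q8_i_sq
    · rw [ev_iq]; exact h1
    · exact fix_unique1 u v hval h1 h2
  · by_cases h2 : F2 u v
    · apply main jq q8_j_sq
      · rw [ev_jq]; exact h2
      · exact fix_unique2 u v hval h2 h1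
    · have h3 : F3 u v := by
        rcases hfix with h | h | h
        · exact absurd h h1
        · exact absurd h h2
        · exact h
      apply main (iq * jq) q8_k_sq
      · have : ev u v (iq * jq) = u * v := by
          have := ev_gen u v hval 1 1
          simpa using this
        rw [this]
        exact h3
      · exact fix_unique3 u v hval h3 h1

end general

end Cfsg.Agent.Lib.Helper6.S1233A
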