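import Mathlib
import Cfsg.Agent.Lib.Helper1.S1233Defs
import Cfsg.Agent.Lib.Helper6.QQA1
import Cfsg.Agent.Lib.Helper6.S1233A0
import Cfsg.Agent.Lib.Helper6.S1233A1
import Cfsg.Agent.Lib.Helper6.S1233A2
import Cfsg.Agent.Lib.Helper6.S1233A4a
import Cfsg.Agent.Lib.Helper6.S1233A4b

set_option autoImplicit false
set_option linter.unusedVariables false
set_option linter.unusedSectionVars false
set_option linter.style.longLine false
set_option linter.style.haveILetI false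
set_option maxHeartbeats 1000000

/-!
# S1233 farm, unit U-A4: `A4_index`, `A4_fix`, `A4_outer` (and the elementwise index form)
-/

namespace Cfsg.Agent.Lib.Helper6.S1233A

open Cfsg.Agent.Lib.Helper1.S1233 Cfsg.Agent.Lib.Helper6.QQA QuaternionGroup

variable {S : Type*} [Group S] {Q₁ Q₂ : Subgroup S} {z : S}

/-- A4b : index ≤ 2 of `Q₁ C_S(Q₁)` in `N_S(Q₁)` -/
theorem A4_index (hB : Base Q₁ Q₂ z) : ∀ x y : S, (∀ a ∈ Q₁, x⁻¹ * a * x ∈ Q₁) →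
    (∀ a ∈ Q₁, y⁻¹ * a * y ∈ Q₁) → x ∉ Q₁ ⊔ cen Q₁ → y ∉ Q₁ ⊔ cen Q₁ → x * y ∈ Q₁ ⊔ cen Q₁ := by
  obtain ⟨e₁⟩ := hB.q1
  haveI := hB.fin
  intro x y hx hy hxK hyK
  exact mul_mem_K e₁ (base_z₁ hB e₁) hB.z_sq hB.pS x y hx hy hxK hyK

/-- A4b : an outer element normalizes exactly one cyclic subgroup of order 4 -/
theorem A4_fix (hB : Base Q₁ Q₂ z) : ∀ x : S, (∀ a ∈ Q₁, x⁻¹ * a * x ∈ Q₁) → x ∉ Q₁ ⊔ cen Q₁ →
    ∃ i ∈ Q₁, i * i = z ∧ x⁻¹ * i * x ∈ Subgroup.zpowers i ∧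
      ∀ i' ∈ Q₁, i' * i' = z → x⁻¹ * i' * x ∈ Subgroup.zpowers i' → i' ∈ Subgroup.zpowers i := by
  obtain ⟨e₁⟩ := hB.q1
  haveI := hB.fin
  intro x hx hxK
  exact exists_unique_fix e₁ (base_z₁ hB e₁) hB.z_sq hB.pS x hx hxK

/-- A4c -/
theorem A4_outer (hB : Base Q₁ Q₂ z) : ∀ x i j : S, i ∈ Q₁ → j ∈ Q₁ → i * i = z → j * j = z →
    j ∉ Subgroup.zpowers i → (∀ a ∈ Q₁, x⁻¹ * a * x ∈ Q₁) → x * i = i * x →
    ((x⁻¹ * j * x = j ∨ x⁻¹ * j * x = j * z) → x ∈ Q₁ ⊔ cen Q₁) ∧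
    (x ∉ Q₁ ⊔ cen Q₁ → (x⁻¹ * j * x = j * i ∨ x⁻¹ * j * x = j * i⁻¹) ∧
      (x * x)⁻¹ * j * (x * x) = j * z) := by
  obtain ⟨e₁⟩ := hB.q1
  intro x i j hi hj hii hjj hne hx hxi
  have hz := base_z₁ hB e₁
  have hinj := homOf_injective e₁
  obtain ⟨u, v, hu, hv⟩ := exists_pair e₁ x hx
  obtain ⟨hval, hall⟩ := conj_eq_ev e₁ x u v hu hv
  obtain ⟨a0, rfl⟩ := exists_homOf_eq e₁ hi
  obtain ⟨b0, rfl⟩ := exists_homOf_eq e₁ hj
  have ha0 : a0 * a0 = zq := hinj (by rw [map_mul, hii, hz])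
  have hb0 : b0 * b0 = zq := hinj (by rw [map_mul, hjj, hz])
  have hm : ∀ m : Fin 4, b0 ≠ a0 ^ (m : ℕ) := by
    intro m h
    apply hne
    rw [h, map_pow]
    exact Subgroup.pow_mem _ (Subgroup.mem_zpowers _) _
  have hfa : ev u v a0 = a0 := by
    apply hinj
    rw [← hall]
    calc x⁻¹ * homOf e₁ a0 * x = x⁻¹ * (homOf e₁ a0 * x) := by group
      _ = x⁻¹ * (x * homOf e₁ a0) := by rw [hxi]
      _ = homOf e₁ a0 := by group
  obtain ⟨p1, p2⟩ := ev_outer u v a0 b0 hval ha0 hb0 hm hfa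
  constructor
  · intro h
    apply (mem_K_iff e₁ hz hB.z_sq x u v hu hv).mpr
    apply p1
    rw [hall] at h
    rcases h with h | h
    · left; exact hinj h
    · right
      apply hinj
      rw [h, map_mul, hz]
  · intro hxK
    have hnot : ¬ (F1 u v ∧ F2 u v) :=
      fun h => hxK ((mem_K_iff e₁ hz hB.z_sq x u v hu hv).mpr h)
    obtain ⟨q1, q2⟩ := p2 hnot
    constructor
    · rw [hall]
      rcases q1 with h | h
      · left; rw [h, map_mul]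
      · right; rw [h, map_mul, map_inv]
    · have : (x * x)⁻¹ * homOf e₁ b0 * (x * x) = homOf e₁ (ev u v (ev u v b0)) := by
        rw [← hall, ← hall]; group
      rw [this, q2, map_mul, hz]

/-- normalizing from the left implies normalizing from the right, in a finite group -/
theorem conj_inv_mem_of_conj_mem [Finite S] (P : Subgroup S) (g : S)
    (hg : ∀ p ∈ P, g * p * g⁻¹ ∈ P) : ∀ p ∈ P, g⁻¹ * p * g ∈ P := by
  have hpow : ∀ k : ℕ, ∀ p ∈ P, g ^ k * p * (g ^ k)⁻¹ ∈ P := by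
    intro k
    induction k with
    | zero => intro p hp; simpa using hp
    | succ k ih =>
      intro p hp
      have h1 := hg _ (ih p hp)
      have h2 : g ^ (k + 1) * p * (g ^ (k + 1))⁻¹ = g * (g ^ k * p * (g ^ k)⁻¹) * g⁻¹ := by
        rw [pow_succ']; group
      rw [h2]; exact h1
  intro p hp
  have hpos : 0 < orderOf g := orderOf_pos g
  have h1 : g ^ (orderOf g - 1) = g⁻¹ := by
    have h2 : g ^ (orderOf g - 1) * g = 1 := by
      rw [← pow_succ, Nat.sub_add_cancel hpos, pow_orderOf_eq_one]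
    exact eq_inv_of_mul_eq_one_left h2
  have h3 := hpow (orderOf g - 1) p hp
  rw [h1, inv_inv] at h3
  exact h3

/-- elements of `P ⊔ C(P)` act on `P` as elements of `P` -/
theorem inner_of_mem_K (P : Subgroup S) {g : S} (hg : g ∈ P ⊔ cen P) :
    ∃ q ∈ P, ∀ p ∈ P, g * p * g⁻¹ = q * p * q⁻¹ := by
  have hcomm : ∀ a ∈ P, ∀ c ∈ cen P, a * c = c * a := by
    intro a ha c hc
    exact (Subgroup.mem_centralizer_iff.mp hc) a ha
  obtain ⟨q, hq, c, hc, rfl⟩ := exists_mul_of_mem_sup hcomm hg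
  refine ⟨q, hq, ?_⟩
  intro p hp
  have h1 := hcomm p hp c hc
  calc q * c * p * (q * c)⁻¹ = q * (c * p) * c⁻¹ * q⁻¹ := by group
    _ = q * (p * c) * c⁻¹ * q⁻¹ := by rw [h1]
    _ = q * p * q⁻¹ := by group

/-- **A4b, elementwise index form** (shape requested by helper8) -/
theorem a4b_index [Finite S] (hS : IsPGroup 2 S) (P : Subgroup S) (e : P ≃* QuaternionGroup 2)
    (x y : S) (hx : ∀ p ∈ P, x * p * x⁻¹ ∈ P) (hy : ∀ p ∈ P, y * p * y⁻¹ ∈ P) :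
    (∃ q ∈ P, ∀ p ∈ P, x * p * x⁻¹ = q * p * q⁻¹) ∨
    (∃ q ∈ P, ∀ p ∈ P, y * p * y⁻¹ = q * p * q⁻¹) ∨
    (∃ q ∈ P, ∀ p ∈ P, (x⁻¹ * y) * p * (x⁻¹ * y)⁻¹ = q * p * q⁻¹) := by
  by_cases hxK : x ∈ P ⊔ cen P
  · left; exact inner_of_mem_K P hxK
  · by_cases hyK : y ∈ P ⊔ cen P
    · right; left; exact inner_of_mem_K P hyK
    · right; right
      apply inner_of_mem_K P
      have hx' : ∀ a ∈ P, (x⁻¹)⁻¹ * a * x⁻¹ ∈ P := by
        intro a ha; rw [inv_inv]; exact hx a ha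
      have hy' : ∀ a ∈ P, y⁻¹ * a * y ∈ P := conj_inv_mem_of_conj_mem P y hy
      have hxK' : x⁻¹ ∉ P ⊔ cen P := fun h => hxK (by simpa using inv_mem h)
      exact mul_mem_K e rfl (hom_z_sq (homOf e)) hS x⁻¹ y hx' hy' hxK' hyK

end Cfsg.Agent.Lib.Helper6.S1233A
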