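import Cfsg.Agent.Lib.Helper6.HupA

set_option autoImplicit false

/-! Huppert, odd characteristic: a transitive semilinear group has a normal subgroup of index two. -/

namespace Cfsg.Agent.Lib.Helper6.Hup

open Module

variable {q : ℕ} [Fact q.Prime] {V : Type*} [AddCommGroup V] [Module (ZMod q) V]
  {G : Type*} [Group G]

theorem index_two_of_semilin [Finite V] (ρ : G →* (V ≃ₗ[ZMod q] V))
    (htrans : ∀ v w : V, v ≠ 0 → w ≠ 0 → ∃ g : G, ρ g v = w) (hq2 : q ≠ 2)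
    (hsl : SemiLin ρ) : ∃ N : Subgroup G, N.Normal ∧ N.index = 2 := by
  classical
  obtain ⟨F, _, _, e, he⟩ := hsl
  obtain ⟨v0, hv0⟩ : ∃ v0 : V, v0 = e.symm 1 := ⟨_, rfl⟩
  have hev0 : e v0 = 1 := by rw [hv0]; exact e.apply_symm_apply 1
  have hv0ne : v0 ≠ 0 := by
    intro h0
    rw [h0, map_zero] at hev0
    exact zero_ne_one hev0
  have ha : ∀ g : G, ∃ σ : F ≃+* F, ∀ v, e (ρ g v) = e (ρ g v0) * σ (e v) := by
    intro g
    obtain ⟨a', σ, hσ⟩ := he g
    refine ⟨σ, fun v => ?_⟩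
    have h1 : e (ρ g v0) = a' := by rw [hσ v0, hev0, map_one, mul_one]
    rw [h1]; exact hσ v
  have ha0 : ∀ g : G, e (ρ g v0) ≠ 0 := by
    intro g h0
    have h1 : ρ g v0 = 0 := by
      have h2 : e (ρ g v0) = e 0 := by rw [map_zero]; exact h0
      exact e.injective h2
    exact hv0ne ((ρ g).map_eq_zero_iff.mp h1)
  have ha1 : e (ρ 1 v0) = 1 := by rw [map_one]; exact hev0
  have hamul : ∀ g g' : G, ∃ σ : F ≃+* F,
      e (ρ (g * g') v0) = e (ρ g v0) * σ (e (ρ g' v0)) := by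
    intro g g'
    obtain ⟨σ, hσ⟩ := ha g
    refine ⟨σ, ?_⟩
    rw [map_mul, LinearEquiv.mul_apply, hσ]
  have hcardF : Fintype.card F = q ^ finrank (ZMod q) V := by
    rw [← Nat.card_eq_fintype_card, ← Nat.card_congr e.toEquiv, natCard_eq_pow (q := q) V]
  have hodd : Odd (Fintype.card F) := by
    rw [hcardF]
    exact (Nat.Prime.odd_of_ne_two Fact.out hq2).pow
  have hF : ringChar F ≠ 2 := by
    intro h2
    have h3 := FiniteField.even_card_iff_char_two.mp h2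
    rcases hodd with ⟨k, hk⟩
    omega
  have hneg : (-1 : F) ≠ 1 := Ring.neg_one_ne_one_of_char_ne_two hF
  obtain ⟨m, hm⟩ : ∃ m : ℕ, m = Fintype.card F / 2 := ⟨_, rfl⟩
  have hpm : ∀ g : G, e (ρ g v0) ^ m = 1 ∨ e (ρ g v0) ^ m = -1 := by
    intro g
    rw [hm]
    exact FiniteField.pow_dichotomy hF (ha0 g)
  have hχmul : ∀ g g' : G,
      e (ρ (g * g') v0) ^ m = e (ρ g v0) ^ m * e (ρ g' v0) ^ m := by
    intro g g'
    obtain ⟨σ, hσ⟩ := hamul g g'
    rw [hσ, mul_pow, ← map_pow σ]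
    rcases hpm g' with h1 | h1 <;> rw [h1] <;> simp
  let χ : G →* F :=
    { toFun := fun g => e (ρ g v0) ^ m
      map_one' := by
        show e (ρ 1 v0) ^ m = 1
        rw [ha1, one_pow]
      map_mul' := hχmul }
  obtain ⟨b0, hb0⟩ := FiniteField.exists_nonsquare hF
  have hb00 : b0 ≠ 0 := by
    rintro rfl
    exact hb0 ⟨0, by simp⟩
  have hb0m : b0 ^ m = -1 := by
    rw [hm]
    rcases FiniteField.pow_dichotomy hF hb00 with h1 | h1
    · exact absurd ((FiniteField.isSquare_iff hF hb00).mpr h1) hb0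
    · exact h1
  have hw0 : e.symm b0 ≠ 0 := by
    intro h0
    apply hb00
    have h1 := congrArg e h0
    rw [e.apply_symm_apply, map_zero] at h1
    exact h1
  obtain ⟨g0, hg0⟩ := htrans v0 (e.symm b0) hv0ne hw0
  have hag0 : e (ρ g0 v0) = b0 := by rw [hg0, e.apply_symm_apply]
  have hmem : ∀ g : G, g ∈ χ.toHomUnits.ker ↔ e (ρ g v0) ^ m = 1 := by
    intro g
    rw [MonoidHom.mem_ker, Units.ext_iff, MonoidHom.coe_toHomUnits]
    rfl
  refine ⟨χ.toHomUnits.ker, MonoidHom.normal_ker _, ?_⟩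
  rw [Subgroup.index_eq_two_iff]
  refine ⟨g0, fun b => ?_⟩
  rw [hmem, hmem, hχmul, hag0, hb0m]
  rcases hpm b with h1 | h1 <;> rw [h1]
  · right
    refine ⟨rfl, ?_⟩
    rw [one_mul]
    exact hneg
  · left
    refine ⟨by rw [neg_mul_neg, one_mul], hneg⟩

end Cfsg.Agent.Lib.Helper6.Hup
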