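import Cfsg.Agent.Lib.Helper6.HupW
import Cfsg.Agent.Lib.Helper6.HupZ
import Cfsg.Agent.Lib.Helper2.SL2ThreeSub

set_option autoImplicit false

/-! Huppert, regular case in dimension two: index two or `SL(2,3)`, `SL(2,3) × C₅`. -/

namespace Cfsg.Agent.Lib.Helper6.Hup

open Module

variable {q : ℕ} [Fact q.Prime] {V : Type*} [AddCommGroup V] [Module (ZMod q) V]
  {G : Type*} [Group G]

theorem arith_three (q : ℕ) (hq : q.Prime) (hq2 : q ≠ 2) (h : q ^ 2 - 1 ∣ 12 * (q - 1)) :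
    q = 3 ∨ q = 5 ∨ q = 11 := by
  have h2 := hq.two_le
  obtain ⟨k, rfl⟩ : ∃ k, q = k + 1 := ⟨q - 1, by omega⟩
  have e1 : (k + 1) ^ 2 - 1 = k * (k + 2) := by
    have : (k + 1) ^ 2 = k * (k + 2) + 1 := by ring
    omega
  have e2 : 12 * (k + 1 - 1) = k * 12 := by
    rw [Nat.add_sub_cancel]; ring
  rw [e1, e2] at h
  have h3 : k + 2 ∣ 12 := Nat.dvd_of_mul_dvd_mul_left (by omega) h
  have h4 : k + 2 ≤ 12 := Nat.le_of_dvd (by norm_num) h3
  have h5 : k ≤ 10 := by omega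
  clear h h4 e1 e2 h2
  interval_cases k <;>
    first | omega | (exfalso; revert hq; norm_num) | (exfalso; revert h3; norm_num)

namespace BData

variable {ρ : G →* (V ≃ₗ[ZMod q] V)} {C : Subgroup G} (hB : BData ρ C)
include hB

theorem card_Zc_two [Finite G] (hn : finrank (ZMod q) V = 2)
    (hD : Nat.card (actQ C hB.normal).ker = 8 ∨ Nat.card (actQ C hB.normal).ker = 40) :
    Nat.card (Zc C) = 2 := by
  haveI : Fact (Nat.Prime 2) := ⟨Nat.prime_two⟩
  have hCD : C ≤ (actQ C hB.normal).ker := by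
    intro c hc
    rw [mem_ker_actQ]
    intro b hb
    exact hB.comm c hc b hb
  have hcd := Subgroup.card_dvd_of_le hCD
  have hcard := hB.card
  rw [hn] at hcard
  have hμ : 2 ∣ Nat.card (Zc C) := by
    have h2 := Subgroup.card_dvd_of_le hB.symp.mu_le
    rwa [hB.symp.mu_card] at h2
  obtain ⟨k, hk⟩ := IsPGroup.iff_card.mp hB.two
  obtain ⟨t, ht⟩ := hμ
  have hZpos : 0 < Nat.card (Zc C) := Nat.card_pos
  have h8 : 2 ^ 2 * (2 * t) = 8 * t := by ring
  rw [hcard, ht, h8] at hcd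
  rcases hD with h | h
  · rw [h] at hcd
    have hcd' : 8 * t ∣ 8 * 1 := hcd
    have ht1 : t ∣ 1 := Nat.dvd_of_mul_dvd_mul_left (by norm_num : 0 < 8) hcd'
    have := Nat.dvd_one.mp ht1
    omega
  · rw [h] at hcd
    have hcd' : 8 * t ∣ 8 * 5 := hcd
    have ht5 : t ∣ 5 := Nat.dvd_of_mul_dvd_mul_left (by norm_num : 0 < 8) hcd'
    rcases (Nat.dvd_prime (by norm_num : Nat.Prime 5)).mp ht5 with h1 | h5
    · omega
    · exfalso
      rw [hcard, ht, h5] at hk
      have h5d : 5 ∣ 2 ^ k := by rw [← hk]; norm_num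
      have := Nat.Prime.dvd_of_dvd_pow (by norm_num : Nat.Prime 5) h5d
      omega

theorem central_of_five [Finite G] [Nontrivial V] (hρ : Function.Injective ρ)
    (hr3 : Nat.card (actQ C hB.normal).range = 3) {w : G} (hw5 : w ^ 5 = 1) :
    ∀ x : G, x * w = w * x := by
  have hS := hB.symp
  have hψ : actQ C hB.normal w = 1 := by
    have h5 : (actQ C hB.normal w) ^ 5 = 1 := by rw [← map_pow, hw5, map_one]
    have h3 : (actQ C hB.normal w) ^ 3 = 1 := by
      have := pow_card_eq_one'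
        (x := (⟨actQ C hB.normal w, ⟨w, rfl⟩⟩ : (actQ C hB.normal).range))
      rw [hr3] at this
      exact congrArg Subtype.val this
    exact eq_one_of_pow_coprime _ 5 3 (by norm_num) h5 h3
  have hwD : w ∈ (actQ C hB.normal).ker := MonoidHom.mem_ker.mpr hψ
  have hcomm : ∀ c ∈ C, w * c = c * w := by
    intro c hc
    have h5 : (hB.lam hρ c hc ⟨w, hwD⟩) ^ 5 = 1 := by
      rw [← map_pow]
      have : (⟨w, hwD⟩ : (actQ C hB.normal).ker) ^ 5 = 1 := Subtype.ext hw5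
      rw [this, map_one]
    have h2 : (hB.lam hρ c hc ⟨w, hwD⟩) ^ 2 = 1 := by
      have := pow_card_eq_one' (x := hB.lam hρ c hc ⟨w, hwD⟩)
      rwa [hS.mu_card] at this
    have h1 := eq_one_of_pow_coprime _ 5 2 (by norm_num) h5 h2
    have h1' : cm w c = 1 := congrArg Subtype.val h1
    exact cm_eq_one_iff.mp h1'
  have hsc := hB.mem_scalSub_of_commute hcomm
  rw [mem_scalSub] at hsc
  obtain ⟨s, hs⟩ := hsc
  intro x
  exact scalar_central ρ hρ hs x

end BData

/-- context for the quaternion analysis -/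
structure QCtx (ρ : G →* (V ≃ₗ[ZMod q] V)) (C : Subgroup G) (z0 : G) : Prop where
  hB : BData ρ C
  hyp : Hyp ρ
  reg : Reg ρ
  hn : finrank (ZMod q) V = 2
  cardZ : Nat.card (Zc C) = 2
  hz0 : z0 ∈ Zc C
  hz01 : z0 ≠ 1

namespace QCtx

variable {ρ : G →* (V ≃ₗ[ZMod q] V)} {C : Subgroup G} {z0 : G} (X : QCtx ρ C z0)
include X

theorem two_elts : ∀ z ∈ Zc C, z = 1 ∨ z = z0 := by
  intro z hz
  obtain ⟨y, hy, huniq⟩ := (Nat.card_eq_two_iff' (1 : Zc C)).mp X.cardZ
  by_cases hz1 : z = 1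
  · left; exact hz1
  · right
    have e1 : (⟨z, hz⟩ : Zc C) = y := huniq _ (fun h => hz1 (congrArg Subtype.val h))
    have e2 : (⟨z0, X.hz0⟩ : Zc C) = y :=
      huniq _ (fun h => X.hz01 (congrArg Subtype.val h))
    exact congrArg Subtype.val (e1.trans e2.symm)

theorem z0_sq : z0 ^ 2 = 1 := by
  have h := pow_card_eq_one' (x := (⟨z0, X.hz0⟩ : Zc C))
  rw [X.cardZ] at h
  exact congrArg Subtype.val h

theorem z0_central (y : G) : y * z0 = z0 * y := X.hB.scalar_commute X.hyp.inj X.hz0 y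

theorem sq_ne_one {x : G} (hx : x ∈ C) (hxz : x ∉ Zc C) : x ^ 2 ≠ 1 := by
  intro h2
  have hx1 : x ≠ 1 := fun h1 => hxz (by rw [h1]; exact (Zc C).one_mem)
  apply hxz
  rw [mem_Zc]
  exact ⟨hx, fun b _ => X.hyp.invol_central X.reg h2 hx1 b⟩

theorem sq_eq {x : G} (hx : x ∈ C) (hxz : x ∉ Zc C) : x ^ 2 = z0 := by
  rcases X.two_elts _ (X.hB.sq x hx) with h | h
  · exact absurd h (X.sq_ne_one hx hxz)
  · exact h

theorem cm_eq {x y : G} (hx : x ∈ C) (hy : y ∈ C) (hne : cm x y ≠ 1) : cm x y = z0 := by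
  rcases X.two_elts _ (X.hB.comm x hx y hy) with h | h
  · exact absurd h hne
  · exact h

theorem quat_rel [Finite G] {g b : G} (hb : b ∈ C) (hbz : b ∉ Zc C) (hgb : cm g b ∉ Zc C) :
    g * b * g⁻¹ ∈ C ∧ g * b * g⁻¹ ∉ Zc C ∧ cm (g * b * g⁻¹) b = z0 ∧ b ^ 4 = 1 ∧ b ^ 2 ≠ 1 ∧
      (g * b * g⁻¹) * (g * b * g⁻¹) = b ^ 2 ∧ (g * b * g⁻¹) * b * (g * b * g⁻¹)⁻¹ = b⁻¹ ∧
      (∀ x ∈ C, ∃ i : ℕ, x = b ^ i ∨ x = (g * b * g⁻¹) * b ^ i) := by
  have hB := X.hB
  have hS := hB.symp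
  obtain ⟨c, hc⟩ : ∃ c, c = g * b * g⁻¹ := ⟨_, rfl⟩
  rw [← hc]
  have hcC : c ∈ C := by rw [hc]; exact hB.normal.conj_mem b hb g
  have hcz : c ∉ Zc C := by
    intro hcZ
    apply hbz
    have h1 := (Zc_normal hB.normal).conj_mem c hcZ g⁻¹
    have e : g⁻¹ * c * g⁻¹⁻¹ = b := by rw [hc]; group
    rwa [e] at h1
  have hcmgb : cm g b = c * b⁻¹ := by rw [hc]; rfl
  have hcb1 : cm c b ≠ 1 := by
    intro h1
    rcases hB.mem_or_of_comm X.hn hb hbz hcC h1 with h | h
    · exact hcz h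
    · exact hgb (by rw [hcmgb]; exact h)
  have hcb := X.cm_eq hcC hb hcb1
  have hb2 := X.sq_eq hb hbz
  have hc2 := X.sq_eq hcC hcz
  have hz2 := X.z0_sq
  refine ⟨hcC, hcz, hcb, ?_, ?_, ?_, ?_, ?_⟩
  · have e : b ^ 4 = (b ^ 2) ^ 2 := by rw [← pow_mul]
    rw [e, hb2, hz2]
  · rw [hb2]; exact X.hz01
  · rw [← pow_two, hc2, hb2]
  · have e1 : c * b * c⁻¹ = cm c b * b := by unfold cm; group
    have e2 : z0 * b = b⁻¹ := by
      apply eq_inv_of_mul_eq_one_left
      rw [mul_assoc, ← pow_two, hb2, ← pow_two, hz2]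
    rw [e1, hcb, e2]
  · intro x hx
    by_cases hxb : cm x b = 1
    · obtain ⟨i, z, hz, rfl⟩ := hB.comm_decomp X.hn hb hbz hx hxb
      rcases X.two_elts z hz with h | h
      · exact ⟨i, Or.inl (by rw [h, mul_one])⟩
      · exact ⟨i + 2, Or.inl (by rw [h, pow_add, hb2])⟩
    · have hxb' := X.cm_eq hx hb hxb
      have hy : c⁻¹ * x ∈ C := mul_mem (inv_mem hcC) hx
      have hy1 : cm (c⁻¹ * x) b = 1 := by
        rw [hS.cm_mul_left (inv_mem hcC) hx hb, hS.cm_inv_left hcC hb, hcb, hxb',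
          inv_mul_cancel]
      obtain ⟨i, z, hz, hyz⟩ := hB.comm_decomp X.hn hb hbz hy hy1
      have hxe : x = c * (b ^ i * z) := by rw [← hyz]; group
      rcases X.two_elts z hz with h | h
      · exact ⟨i, Or.inr (by rw [hxe, h, mul_one])⟩
      · exact ⟨i + 2, Or.inr (by rw [hxe, h, pow_add, hb2])⟩

theorem sl_core [Finite G] [Finite V] [Nontrivial V]
    (hGD : Nat.card G = Nat.card (actQ C X.hB.normal).ker * 3)
    (hD : Nat.card (actQ C X.hB.normal).ker = 8 ∨ Nat.card (actQ C X.hB.normal).ker = 40) :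
    ∃ U : Subgroup G, Nat.card U = 24 ∧
      Nonempty (U ≃* Matrix.SpecialLinearGroup (Fin 2) (ZMod 3)) := by
  have hB := X.hB
  have hS := hB.symp
  haveI : Fact (Nat.Prime 3) := ⟨Nat.prime_three⟩
  obtain ⟨g, hg⟩ := exists_prime_orderOf_dvd_card' (G := G) 3
    (by rw [hGD]; exact Dvd.intro_left _ rfl)
  have hg3 : g ^ 3 = 1 := by rw [← hg]; exact pow_orderOf_eq_one g
  have hgD : g ∉ (actQ C hB.normal).ker := by
    intro hmem
    have h1 := orderOf_dvd_natCard (⟨g, hmem⟩ : (actQ C hB.normal).ker)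
    rw [Subgroup.orderOf_mk, hg] at h1
    rcases hD with h | h <;> rw [h] at h1 <;> omega
  have hgi3 : g⁻¹ ^ 3 = 1 := by rw [inv_pow, hg3, inv_one]
  have hgiD : g⁻¹ ∉ (actQ C hB.normal).ker := fun hmem => hgD (by simpa using inv_mem hmem)
  have hfix := hB.fix_unique X.hn hg3 hgD
  have hfixi := hB.fix_unique X.hn hgi3 hgiD
  obtain ⟨b, hb, hbz⟩ := hB.exists_noncentral X.hn
  have hgb : cm g b ∉ Zc C := fun hmem => hbz (hfix b hb hmem)
  obtain ⟨hcC, hcz, hcb, hb4, hb2, hcc, hcbc, hgen⟩ := X.quat_rel hb hbz hgb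
  obtain ⟨c, hc⟩ : ∃ c, c = g * b * g⁻¹ := ⟨_, rfl⟩
  rw [← hc] at hcC hcz hcb hcc hcbc hgen
  obtain ⟨d, hd⟩ : ∃ d, d = g * c * g⁻¹ := ⟨_, rfl⟩
  have hdC : d ∈ C := by rw [hd]; exact hB.normal.conj_mem c hcC g
  have hgd : g * d * g⁻¹ = b := by
    rw [hd, hc]
    have e3 : g * g * g = 1 := by rw [← pow_two, ← pow_succ]; exact hg3
    have e : g * (g * (g * b * g⁻¹) * g⁻¹) * g⁻¹ = (g * g * g) * b * (g * g * g)⁻¹ := by group
    rw [e, e3, one_mul, inv_one, mul_one]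
  have hdz : d ∉ Zc C := by
    intro hdZ
    apply hcz
    have h1 := (Zc_normal hB.normal).conj_mem d hdZ g⁻¹
    have e : g⁻¹ * d * g⁻¹⁻¹ = c := by rw [hd]; group
    rwa [e] at h1
  have hgc : cm g c ∉ Zc C := fun hmem => hcz (hfix c hcC hmem)
  have hgdd : cm g d ∉ Zc C := fun hmem => hdz (hfix d hdC hmem)
  have hcmgc : cm g c = d * c⁻¹ := by rw [hd]; rfl
  have hcmgd : cm g d = b * d⁻¹ := by unfold cm; rw [hgd]
  have hdb1 : cm d b ≠ 1 := by
    intro h1
    rcases hB.mem_or_of_comm X.hn hb hbz hdC h1 with h | h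
    · exact hdz h
    · apply hgdd
      rw [hcmgd]
      have h2 := inv_mem h
      have e : (d * b⁻¹)⁻¹ = b * d⁻¹ := by group
      rwa [e] at h2
  have hdb := X.cm_eq hdC hb hdb1
  have hy : d * c⁻¹ ∈ C := mul_mem hdC (inv_mem hcC)
  have hy1 : cm (d * c⁻¹) b = 1 := by
    rw [hS.cm_mul_left hdC (inv_mem hcC) hb, hS.cm_inv_left hcC hb, hdb, hcb, mul_inv_cancel]
  have hzmem : d * c⁻¹ * b⁻¹ ∈ Zc C := by
    rcases hB.mem_or_of_comm X.hn hb hbz hy hy1 with h | h
    · exact absurd (by rw [hcmgc]; exact h) hgc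
    · exact h
  have hnorm : ∀ y : G, y ∈ Subgroup.normalizer (C : Set G) := by
    intro y
    haveI := hB.normal
    rw [Subgroup.normalizer_eq_top]; exact Subgroup.mem_top y
  have hdexp : d = (d * c⁻¹ * b⁻¹) * (b * c) := by group
  rcases X.two_elts _ hzmem with hz | hz
  · rw [hz, one_mul] at hdexp
    obtain ⟨U, hU, _, hiso⟩ := Cfsg.Agent.Lib.Helper2.SL2ThreeSub.sl2_three_subgroup C b c g
      hb hcC hb4 hb2 hcc hcbc hc.symm (by rw [← hd]; exact hdexp) hgen (hnorm g) hg3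
    exact ⟨U, hU, hiso⟩
  · rw [hz] at hdexp
    have hgib : cm g⁻¹ b ∉ Zc C := fun hmem => hbz (hfixi b hb hmem)
    obtain ⟨_, _, _, _, _, hcc', hcbc', hgen'⟩ := X.quat_rel hb hbz hgib
    have hd' : g⁻¹ * b * g⁻¹⁻¹ = d := by rw [← hgd]; group
    rw [hd'] at hcc' hcbc' hgen'
    have hgc' : g⁻¹ * d * g⁻¹⁻¹ = b * d := by
      have e1 : g⁻¹ * d * g⁻¹⁻¹ = c := by rw [hd]; group
      have hzc := X.z0_central b
      have e2 : b * d = c := by
        calc b * d = b * (z0 * (b * c)) := by rw [← hdexp]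
          _ = (b * z0) * (b * c) := by group
          _ = (z0 * b) * (b * c) := by rw [hzc]
          _ = z0 * (b * b) * c := by group
          _ = z0 * z0 * c := by rw [← pow_two, X.sq_eq hb hbz]
          _ = c := by rw [← pow_two, X.z0_sq, one_mul]
      rw [e1, e2]
    obtain ⟨U, hU, _, hiso⟩ := Cfsg.Agent.Lib.Helper2.SL2ThreeSub.sl2_three_subgroup C b d g⁻¹
      hb hdC hb4 hb2 hcc' hcbc' hd' hgc' hgen' (hnorm g⁻¹) hgi3
    exact ⟨U, hU, hiso⟩

end QCtx

/-- the regular case in dimension two outside the semilinear groups -/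
theorem BData.reg_two [Finite G] [Finite V] [Nontrivial V] {ρ : G →* (V ≃ₗ[ZMod q] V)}
    {C : Subgroup G} (hB : BData ρ C) (h : Hyp ρ) (hreg : Reg ρ)
    (hn : finrank (ZMod q) V = 2) (hq2 : q ≠ 2) :
    (∃ N : Subgroup G, N.Normal ∧ N.index = 2) ∨
      (q = 5 ∧ Nonempty (G ≃* Matrix.SpecialLinearGroup (Fin 2) (ZMod 3))) ∨
      (q = 11 ∧ Nonempty (G ≃* Matrix.SpecialLinearGroup (Fin 2) (ZMod 3) ×
        Multiplicative (ZMod 5))) := by
  classical
  have hR := card_range_actQ_dvd C hB.normal (hB.card_quot_eq hn)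
  have hG := card_eq_ker_mul_range (actQ C hB.normal)
  obtain ⟨r, hr⟩ : ∃ r, r = Nat.card (actQ C hB.normal).range := ⟨_, rfl⟩
  rw [← hr] at hR hG
  have hle : r ≤ 6 := Nat.le_of_dvd (by norm_num) hR
  have hpos : 0 < r := Nat.pos_of_dvd_of_pos hR (by norm_num)
  have hr' : r = 1 ∨ r = 2 ∨ r = 3 ∨ r = 6 := by
    interval_cases r <;> omega
  rcases hr' with h1 | h2 | h3 | h6
  · left
    apply hB.index_two_of_ker_top h.inj hn
    have htop : (actQ C hB.normal).ker = ⊤ := by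
      apply Subgroup.eq_top_of_card_eq
      rw [hG, h1, mul_one]
    intro g
    rw [htop]; exact Subgroup.mem_top g
  · left; exact index_two_of_range _ (Or.inl (by rw [← hr, h2]))
  · right
    rw [h3] at hG hr
    have hGV : Nat.card G = q ^ 2 - 1 := by
      rw [h.card_of_reg hreg, natCard_eq_pow (q := q) V, hn]
    have hDd := hB.card_ker_dvd h.inj hn
    have hdvd : q ^ 2 - 1 ∣ 12 * (q - 1) := by
      rw [← hGV, hG]
      exact (Nat.mul_dvd_mul_right hDd 3).trans ⟨1, by ring⟩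
    have hS := hB.symp
    obtain ⟨c1, h1c, h1z⟩ := hB.exists_noncentral hn
    obtain ⟨c2, h2c, h21⟩ := hS.exists_noncomm h1c h1z
    have hζ : cm c2 c1 ∈ Zc C := hB.comm c2 h2c c1 h1c
    rcases arith_three q Fact.out hq2 hdvd with hq | hq | hq
    · exfalso
      have e : q ^ 2 - 1 = 8 := by rw [hq]; norm_num
      rw [e] at hGV
      omega
    · left
      refine ⟨hq, ?_⟩
      have e : q ^ 2 - 1 = 24 := by rw [hq]; norm_num
      rw [e] at hGV
      have hD8 : Nat.card (actQ C hB.normal).ker = 8 := by omega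
      have X : QCtx ρ C (cm c2 c1) :=
        ⟨hB, h, hreg, hn, hB.card_Zc_two hn (Or.inl hD8), hζ, h21⟩
      obtain ⟨U, hU, ⟨eU⟩⟩ := X.sl_core hG (Or.inl hD8)
      have hUtop : U = ⊤ := Subgroup.eq_top_of_card_eq U (by rw [hU, hGV])
      exact ⟨(Subgroup.topEquiv.symm.trans (MulEquiv.subgroupCongr hUtop.symm)).trans eU⟩
    · right
      refine ⟨hq, ?_⟩
      have e : q ^ 2 - 1 = 120 := by rw [hq]; norm_num
      rw [e] at hGV
      have hD40 : Nat.card (actQ C hB.normal).ker = 40 := by omega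
      have X : QCtx ρ C (cm c2 c1) :=
        ⟨hB, h, hreg, hn, hB.card_Zc_two hn (Or.inr hD40), hζ, h21⟩
      obtain ⟨U, hU, ⟨eU⟩⟩ := X.sl_core hG (Or.inr hD40)
      haveI : Fact (Nat.Prime 5) := ⟨by norm_num⟩
      obtain ⟨w, hw⟩ := exists_prime_orderOf_dvd_card' (G := G) 5 (by rw [hGV]; norm_num)
      have hw5 : w ^ 5 = 1 := by rw [← hw]; exact pow_orderOf_eq_one w
      have hwc := hB.central_of_five h.inj hr.symm hw5
      have hK : Nat.card (Subgroup.zpowers w) = 5 := by rw [Nat.card_zpowers, hw]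
      have hKc : ∀ (u : U) (k : Subgroup.zpowers w),
          Commute (U.subtype u) ((Subgroup.zpowers w).subtype k) := by
        intro u k
        obtain ⟨i, hi⟩ := Subgroup.mem_zpowers_iff.mp k.2
        show Commute (u : G) (k : G)
        rw [← hi]
        exact (show Commute (u : G) w from hwc u).zpow_right i
      have hφinj : Function.Injective
          (MonoidHom.noncommCoprod U.subtype (Subgroup.zpowers w).subtype hKc) := by
        rw [injective_iff_map_eq_one]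
        rintro ⟨u, k⟩ huk
        rw [MonoidHom.noncommCoprod_apply] at huk
        have huk' : (u : G) * (k : G) = 1 := huk
        have hu_eq : (u : G) = (k : G)⁻¹ := eq_inv_of_mul_eq_one_left huk'
        have hu24 : (u : G) ^ 24 = 1 := by
          have h4 := pow_card_eq_one' (x := u)
          rw [hU] at h4
          exact congrArg Subtype.val h4
        have hk5 : (k : G) ^ 5 = 1 := by
          have h4 := pow_card_eq_one' (x := k)
          rw [hK] at h4
          exact congrArg Subtype.val h4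
        have hu5 : (u : G) ^ 5 = 1 := by rw [hu_eq, inv_pow, hk5, inv_one]
        have hu1 : (u : G) = 1 := eq_one_of_pow_coprime _ 24 5 (by norm_num) hu24 hu5
        have hk1 : (k : G) = 1 := by
          rw [hu1] at hu_eq
          exact inv_eq_one.mp hu_eq.symm
        exact Prod.ext (Subtype.ext hu1) (Subtype.ext hk1)
      have hφbij := hφinj.bijective_of_nat_card_le (by rw [Nat.card_prod, hU, hK, hGV])
      have eK : Subgroup.zpowers w ≃* Multiplicative (ZMod 5) :=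
        mulEquivOfPrimeCardEq (p := 5) hK
          ((Nat.card_congr Multiplicative.toAdd).trans (Nat.card_zmod 5))
      exact ⟨(MulEquiv.ofBijective _ hφbij).symm.trans (MulEquiv.prodCongr eU eK)⟩
  · left; exact index_two_of_range _ (Or.inr (by rw [← hr, h6]))

end Cfsg.Agent.Lib.Helper6.Hup
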