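import Mathlib
import Cfsg.Agent.Lib.Helper1.SPEDefs

set_option autoImplicit false
set_option linter.unusedSectionVars false
set_option linter.unusedVariables false

/-!
Farm SPE (statement S2333), unit F: the lower count.  For an independent pair `(x, y) = (h e₀, h e₁)`
at least `q^(2m)` forms of the orbit of `qf T` take the values of `qf T` at `(e₀, e₁)` on `(x, y)`:
the shears `1 + e₀ ũ₁ᵀ + e₁ ũ₂ᵀ`.
-/

namespace Cfsg.Agent.Lib.Helper6.SPE

open Matrix Cfsg.Agent.Lib.Helper6.Wl Cfsg.Agent.Lib.Helper1.SPE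

variable {F : Type*} [Field F] [Fintype F] [DecidableEq F]

theorem polF_qf_eq {n : ℕ} (T : Matrix (Fin n) (Fin n) F) (x y : Fin n → F) :
    polF (qf T) x y = x ⬝ᵥ (T *ᵥ y) + y ⬝ᵥ (T *ᵥ x) := by
  unfold polF qf
  rw [mulVec_add, dotProduct_add, add_dotProduct, add_dotProduct]
  ring

theorem polF_qf_add_right {n : ℕ} (T : Matrix (Fin n) (Fin n) F) (x y z : Fin n → F) :
    polF (qf T) x (y + z) = polF (qf T) x y + polF (qf T) x z := by
  rw [polF_qf_eq, polF_qf_eq, polF_qf_eq, mulVec_add, dotProduct_add, add_dotProduct]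
  ring

theorem polF_qf_smul_right {n : ℕ} (T : Matrix (Fin n) (Fin n) F) (x : Fin n → F) (c : F)
    (y : Fin n → F) : polF (qf T) x (c • y) = c * polF (qf T) x y := by
  rw [polF_qf_eq, polF_qf_eq, mulVec_smul, dotProduct_smul, smul_dotProduct, smul_eq_mul,
    smul_eq_mul]
  ring

theorem polF_qf_comm {n : ℕ} (T : Matrix (Fin n) (Fin n) F) (x y : Fin n → F) :
    polF (qf T) x y = polF (qf T) y x := by
  rw [polF_qf_eq, polF_qf_eq, add_comm]

theorem polF_qf_self (h2 : (2 : F) = 0) {n : ℕ} (T : Matrix (Fin n) (Fin n) F) (x : Fin n → F) :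
    polF (qf T) x x = 0 := by
  rw [polF_qf_eq, ← two_mul, h2, zero_mul]

/-- the vector `(0, 0, u)` -/
def tl {m : ℕ} (u : Fin m → F) : Fin (m + 2) → F :=
  (Fin.cons 0 (Fin.cons 0 u : Fin (m + 1) → F) : Fin (m + 1 + 1) → F)

theorem tl_zero {m : ℕ} (u : Fin m → F) : tl u 0 = 0 := rfl

theorem tl_one {m : ℕ} (u : Fin m → F) : tl u 1 = 0 := rfl

theorem tl_succ_succ {m : ℕ} (u : Fin m → F) (k : Fin m) : tl u k.succ.succ = u k := rfl

theorem tl_injective {m : ℕ} (u u' : Fin m → F) (h : tl u = tl u') : u = u' := by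
  funext k
  have := congrFun h k.succ.succ
  rwa [tl_succ_succ, tl_succ_succ] at this

/-- `1 + e_i ũᵀ` -/
def sh1 {m : ℕ} (i : Fin (m + 2)) (u : Fin m → F) : Matrix (Fin (m + 2)) (Fin (m + 2)) F :=
  1 + vecMulVec (Pi.single i 1) (tl u)

theorem sh1_det {m : ℕ} (i : Fin (m + 2)) (u : Fin m → F) (hi : tl u i = 0) :
    (sh1 i u).det = 1 := by
  unfold sh1
  rw [vecMulVec_eq Unit, det_one_add_replicateCol_mul_replicateRow, dotProduct_single_one, hi,
    add_zero]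

theorem sh1_mulVec {m : ℕ} (i : Fin (m + 2)) (u : Fin m → F) (z : Fin (m + 2) → F) :
    sh1 i u *ᵥ z = z + (tl u ⬝ᵥ z) • Pi.single i 1 := by
  unfold sh1
  rw [add_mulVec, one_mulVec, vecMulVec_mulVec, op_smul_eq_smul]

/-- the shear `1 + e₀ ũ₁ᵀ + e₁ ũ₂ᵀ` as an element of `GL` -/
noncomputable def shGL {m : ℕ} (u : (Fin m → F) × (Fin m → F)) : GL (Fin (m + 2)) F :=
  Matrix.GeneralLinearGroup.mkOfDetNeZero (sh1 0 u.1)
      (by rw [sh1_det 0 u.1 (tl_zero u.1)]; exact one_ne_zero) *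
    Matrix.GeneralLinearGroup.mkOfDetNeZero (sh1 1 u.2)
      (by rw [sh1_det 1 u.2 (tl_one u.2)]; exact one_ne_zero)

theorem shGL_mulVec {m : ℕ} (u : (Fin m → F) × (Fin m → F)) (z : Fin (m + 2) → F) :
    ((shGL u : GL (Fin (m + 2)) F) : Matrix (Fin (m + 2)) (Fin (m + 2)) F) *ᵥ z =
      z + (tl u.1 ⬝ᵥ z) • Pi.single 0 1 + (tl u.2 ⬝ᵥ z) • Pi.single 1 1 := by
  have h : ((shGL u : GL (Fin (m + 2)) F) : Matrix (Fin (m + 2)) (Fin (m + 2)) F) =
      sh1 0 u.1 * sh1 1 u.2 := rfl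
  rw [h, ← mulVec_mulVec, sh1_mulVec 1, sh1_mulVec 0, dotProduct_add, dotProduct_smul,
    dotProduct_single_one, tl_one, smul_zero, add_zero]
  abel

theorem shGL_e0 {m : ℕ} (u : (Fin m → F) × (Fin m → F)) :
    ((shGL u : GL (Fin (m + 2)) F) : Matrix (Fin (m + 2)) (Fin (m + 2)) F) *ᵥ Pi.single 0 1 =
      Pi.single 0 1 := by
  rw [shGL_mulVec, dotProduct_single_one, dotProduct_single_one, tl_zero, tl_zero, zero_smul,
    zero_smul, add_zero, add_zero]

theorem shGL_e1 {m : ℕ} (u : (Fin m → F) × (Fin m → F)) :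
    ((shGL u : GL (Fin (m + 2)) F) : Matrix (Fin (m + 2)) (Fin (m + 2)) F) *ᵥ Pi.single 1 1 =
      Pi.single 1 1 := by
  rw [shGL_mulVec, dotProduct_single_one, dotProduct_single_one, tl_one, tl_one, zero_smul,
    zero_smul, add_zero, add_zero]

/-- the polar form of `Q ∘ s` at `(e₀, z)` and `(e₁, z)` -/
theorem polF_shear (h2 : (2 : F) = 0) {m : ℕ} (T : Matrix (Fin (m + 2)) (Fin (m + 2)) F)
    (u : (Fin m → F) × (Fin m → F)) (z : Fin (m + 2) → F) :
    polF (fun v => qf T (((shGL u : GL (Fin (m + 2)) F) :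
        Matrix (Fin (m + 2)) (Fin (m + 2)) F) *ᵥ v)) (Pi.single 0 1) z =
      polF (qf T) (Pi.single 0 1) z +
        (tl u.2 ⬝ᵥ z) * polF (qf T) (Pi.single 0 1) (Pi.single 1 1) ∧
    polF (fun v => qf T (((shGL u : GL (Fin (m + 2)) F) :
        Matrix (Fin (m + 2)) (Fin (m + 2)) F) *ᵥ v)) (Pi.single 1 1) z =
      polF (qf T) (Pi.single 1 1) z +
        (tl u.1 ⬝ᵥ z) * polF (qf T) (Pi.single 0 1) (Pi.single 1 1) := by
  constructor
  · have h : polF (fun v => qf T (((shGL u : GL (Fin (m + 2)) F) :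
        Matrix (Fin (m + 2)) (Fin (m + 2)) F) *ᵥ v)) (Pi.single 0 1) z =
        polF (qf T) (Pi.single 0 1) (((shGL u : GL (Fin (m + 2)) F) :
          Matrix (Fin (m + 2)) (Fin (m + 2)) F) *ᵥ z) := by
      unfold polF
      simp only [mulVec_add, shGL_e0]
    rw [h, shGL_mulVec, polF_qf_add_right, polF_qf_add_right, polF_qf_smul_right,
      polF_qf_smul_right, polF_qf_self h2, mul_zero, add_zero]
  · have h : polF (fun v => qf T (((shGL u : GL (Fin (m + 2)) F) :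
        Matrix (Fin (m + 2)) (Fin (m + 2)) F) *ᵥ v)) (Pi.single 1 1) z =
        polF (qf T) (Pi.single 1 1) (((shGL u : GL (Fin (m + 2)) F) :
          Matrix (Fin (m + 2)) (Fin (m + 2)) F) *ᵥ z) := by
      unfold polF
      simp only [mulVec_add, shGL_e1]
    rw [h, shGL_mulVec, polF_qf_add_right, polF_qf_add_right, polF_qf_smul_right,
      polF_qf_smul_right, polF_qf_self h2, mul_zero, add_zero,
      polF_qf_comm T (Pi.single 1 1) (Pi.single 0 1)]

theorem dot_ext {n : ℕ} (a a' : Fin n → F) (h : ∀ z : Fin n → F, a ⬝ᵥ z = a' ⬝ᵥ z) : a = a' := by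
  funext k
  have := h (Pi.single k 1)
  rwa [dotProduct_single_one, dotProduct_single_one] at this

/-- shears `s = 1 + e₀ ũ₁ᵀ + e₁ ũ₂ᵀ` (`ũ = (0, 0, u)`): `Q ∘ (s h⁻¹)` has the right values at
`(x, y) = (h e₀, h e₁)`, and `pol (e₀, s z) = pol e₀ z + (ũ₂ ⬝ z) b` recovers `u₂` (likewise `u₁`) -/
theorem card_orbit_pairs_ge (h2 : (2 : F) = 0) {m : ℕ}
    (T : Matrix (Fin (m + 2)) (Fin (m + 2)) F)
    (hb : polF (qf T) (Pi.single 0 1) (Pi.single 1 1) ≠ 0)
    (x y : Fin (m + 2) → F) (h : GL (Fin (m + 2)) F)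
    (hx : (h : Matrix (Fin (m + 2)) (Fin (m + 2)) F) *ᵥ Pi.single 0 1 = x)
    (hy : (h : Matrix (Fin (m + 2)) (Fin (m + 2)) F) *ᵥ Pi.single 1 1 = y) :
    Fintype.card F ^ (2 * m) ≤ ((qOrbit T).filter (fun Q' =>
      Q' x = qf T (Pi.single 0 1) ∧ Q' y = qf T (Pi.single 1 1) ∧
        polF Q' x y = polF (qf T) (Pi.single 0 1) (Pi.single 1 1))).card := by
  have hinvx : ((h⁻¹ : GL (Fin (m + 2)) F) : Matrix (Fin (m + 2)) (Fin (m + 2)) F) *ᵥ x =
      Pi.single 0 1 := by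
    rw [← hx]; exact gl_inv_mulVec h _
  have hinvy : ((h⁻¹ : GL (Fin (m + 2)) F) : Matrix (Fin (m + 2)) (Fin (m + 2)) F) *ᵥ y =
      Pi.single 1 1 := by
    rw [← hy]; exact gl_inv_mulVec h _
  let Φ : (Fin m → F) × (Fin m → F) → ((Fin (m + 2) → F) → F) := fun u v =>
    qf T (((shGL u * h⁻¹ : GL (Fin (m + 2)) F) : Matrix (Fin (m + 2)) (Fin (m + 2)) F) *ᵥ v)
  have hΦ : ∀ u v, Φ u v = qf T (((shGL u : GL (Fin (m + 2)) F) :
      Matrix (Fin (m + 2)) (Fin (m + 2)) F) *ᵥ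
      (((h⁻¹ : GL (Fin (m + 2)) F) : Matrix (Fin (m + 2)) (Fin (m + 2)) F) *ᵥ v)) := by
    intro u v
    show qf T (((shGL u * h⁻¹ : GL (Fin (m + 2)) F) :
      Matrix (Fin (m + 2)) (Fin (m + 2)) F) *ᵥ v) = _
    rw [Units.val_mul, ← mulVec_mulVec]
  have hΦh : ∀ u z, Φ u ((h : Matrix (Fin (m + 2)) (Fin (m + 2)) F) *ᵥ z) =
      qf T (((shGL u : GL (Fin (m + 2)) F) : Matrix (Fin (m + 2)) (Fin (m + 2)) F) *ᵥ z) := by
    intro u z
    rw [hΦ, gl_inv_mulVec]
  calc Fintype.card F ^ (2 * m)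
      = (Finset.univ : Finset ((Fin m → F) × (Fin m → F))).card := by
        rw [Finset.card_univ, Fintype.card_prod, Fintype.card_fun, Fintype.card_fin, two_mul,
          pow_add]
    _ ≤ _ := Finset.card_le_card_of_injOn Φ ?_ ?_
  · intro u _
    simp only [Finset.coe_filter, Set.mem_ofPred_eq]
    refine ⟨Finset.mem_image.2 ⟨shGL u * h⁻¹, Finset.mem_univ _, rfl⟩, ?_, ?_, ?_⟩
    · rw [hΦ, hinvx, shGL_e0]
    · rw [hΦ, hinvy, shGL_e1]
    · unfold polF
      rw [hΦ, hΦ, hΦ, mulVec_add, mulVec_add, hinvx, hinvy, shGL_e0, shGL_e1]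
  · intro u _ u' _ huu
    have huu' : Φ u = Φ u' := huu
    have key : ∀ z, qf T (((shGL u : GL (Fin (m + 2)) F) :
        Matrix (Fin (m + 2)) (Fin (m + 2)) F) *ᵥ z) =
        qf T (((shGL u' : GL (Fin (m + 2)) F) : Matrix (Fin (m + 2)) (Fin (m + 2)) F) *ᵥ z) := by
      intro z
      rw [← hΦh u z, ← hΦh u' z, huu']
    have keyf : (fun v => qf T (((shGL u : GL (Fin (m + 2)) F) :
        Matrix (Fin (m + 2)) (Fin (m + 2)) F) *ᵥ v)) =
        (fun v => qf T (((shGL u' : GL (Fin (m + 2)) F) :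
          Matrix (Fin (m + 2)) (Fin (m + 2)) F) *ᵥ v)) := funext key
    have e2 : tl u.2 = tl u'.2 := by
      apply dot_ext
      intro z
      have h1 := (polF_shear h2 T u z).1
      have h1' := (polF_shear h2 T u' z).1
      rw [keyf] at h1
      have := h1.symm.trans h1'
      exact mul_right_cancel₀ hb (add_left_cancel this)
    have e1 : tl u.1 = tl u'.1 := by
      apply dot_ext
      intro z
      have h1 := (polF_shear h2 T u z).2
      have h1' := (polF_shear h2 T u' z).2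
      rw [keyf] at h1
      have := h1.symm.trans h1'
      exact mul_right_cancel₀ hb (add_left_cancel this)
    exact Prod.ext (tl_injective _ _ e1) (tl_injective _ _ e2)

end Cfsg.Agent.Lib.Helper6.SPE
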