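import Mathlib
import Cfsg.Agent.Lib.Helper5.SympPerfect
import Cfsg.Agent.Lib.Helper6.WlB

set_option autoImplicit false

/-!
Lower bound `(q^n - 1)/2` for the degree of a non-linear irreducible complex representation
of `Sp_{2n}(q)`, `q` odd (Landazuri–Seitz via the Siegel unipotent radical).
-/

namespace Cfsg.Agent.Lib.Helper6.Wl

open Matrix Cfsg

section elements
variable {F : Type*} [Field F] {n : ℕ}

/-- the upper unitriangular element `[[1,S],[0,1]]` -/
def uQ (S : symAdd F n) : symplecticGroup (Fin n) F :=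
  ⟨fromBlocks 1 (S : Matrix (Fin n) (Fin n) F) 0 1, by
    rw [SymplecticGroup.fromBlocks_mem_iff]
    refine ⟨by simp, ?_, by simp⟩
    rw [symAdd_transpose]
    simp⟩

theorem uQ_coe (S : symAdd F n) :
    ((uQ S : symplecticGroup (Fin n) F) : Matrix (Fin n ⊕ Fin n) (Fin n ⊕ Fin n) F) =
      fromBlocks 1 (S : Matrix (Fin n) (Fin n) F) 0 1 := rfl

theorem uQ_add (S S' : symAdd F n) : uQ (S + S') = uQ S * uQ S' := by
  apply Subtype.ext
  rw [Submonoid.coe_mul, uQ_coe, uQ_coe, uQ_coe, fromBlocks_multiply]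
  simp only [Matrix.one_mul, Matrix.mul_one, Matrix.mul_zero, Matrix.zero_mul, add_zero, zero_add,
    AddSubgroup.coe_add]
  rw [add_comm]

theorem uQ_zero : uQ (0 : symAdd F n) = 1 := by
  apply Subtype.ext
  rw [uQ_coe]
  simp

/-- the lower unitriangular element `[[1,0],[S,1]]` -/
def lQ (S : symAdd F n) : symplecticGroup (Fin n) F :=
  ⟨fromBlocks 1 0 (S : Matrix (Fin n) (Fin n) F) 1, by
    rw [SymplecticGroup.fromBlocks_mem_iff]
    refine ⟨?_, by simp, by simp⟩
    rw [symAdd_transpose]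
    simp⟩

theorem lQ_coe (S : symAdd F n) :
    ((lQ S : symplecticGroup (Fin n) F) : Matrix (Fin n ⊕ Fin n) (Fin n ⊕ Fin n) F) =
      fromBlocks 1 0 (S : Matrix (Fin n) (Fin n) F) 1 := rfl

/-- the Levi element `diag(A, A⁻ᵀ)` -/
def lev (A : GL (Fin n) F) : symplecticGroup (Fin n) F :=
  ⟨fromBlocks (A : Matrix (Fin n) (Fin n) F) 0 0
      ((A⁻¹ : GL (Fin n) F) : Matrix (Fin n) (Fin n) F)ᵀ, by
    rw [SymplecticGroup.fromBlocks_mem_iff]
    refine ⟨by simp, by simp, ?_⟩
    rw [← transpose_mul, ← Units.val_mul, inv_mul_cancel]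
    simp⟩

theorem lev_coe (A : GL (Fin n) F) :
    ((lev A : symplecticGroup (Fin n) F) : Matrix (Fin n ⊕ Fin n) (Fin n ⊕ Fin n) F) =
      fromBlocks (A : Matrix (Fin n) (Fin n) F) 0 0
        ((A⁻¹ : GL (Fin n) F) : Matrix (Fin n) (Fin n) F)ᵀ := rfl

/-- `S ↦ A S Aᵀ` on symmetric matrices -/
def conjSym (A : GL (Fin n) F) (S : symAdd F n) : symAdd F n :=
  ⟨(A : Matrix (Fin n) (Fin n) F) * (S : Matrix (Fin n) (Fin n) F) *
      (A : Matrix (Fin n) (Fin n) F)ᵀ, by
    show ((A : Matrix (Fin n) (Fin n) F) * (S : Matrix (Fin n) (Fin n) F) *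
      (A : Matrix (Fin n) (Fin n) F)ᵀ)ᵀ = _
    rw [transpose_mul, transpose_mul, transpose_transpose, symAdd_transpose, Matrix.mul_assoc]⟩

theorem conjSym_coe (A : GL (Fin n) F) (S : symAdd F n) :
    ((conjSym A S : symAdd F n) : Matrix (Fin n) (Fin n) F) =
      (A : Matrix (Fin n) (Fin n) F) * (S : Matrix (Fin n) (Fin n) F) *
      (A : Matrix (Fin n) (Fin n) F)ᵀ := rfl

theorem conjSym_mul (A B : GL (Fin n) F) (S : symAdd F n) :
    conjSym (A * B) S = conjSym A (conjSym B S) := by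
  apply Subtype.ext
  rw [conjSym_coe, conjSym_coe, conjSym_coe, Units.val_mul, transpose_mul]
  simp only [Matrix.mul_assoc]

theorem conjSym_one (S : symAdd F n) : conjSym (1 : GL (Fin n) F) S = S := by
  apply Subtype.ext
  rw [conjSym_coe]
  simp

/-- `conjSym` as a permutation -/
def conjSymEquiv (A : GL (Fin n) F) : symAdd F n ≃ symAdd F n where
  toFun := conjSym A
  invFun := conjSym A⁻¹
  left_inv S := by rw [← conjSym_mul, inv_mul_cancel, conjSym_one]
  right_inv S := by rw [← conjSym_mul, mul_inv_cancel, conjSym_one]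

/-- `T ↦ Bᵀ T B` on symmetric matrices -/
def congSym (B : GL (Fin n) F) (T : symAdd F n) : symAdd F n :=
  ⟨(B : Matrix (Fin n) (Fin n) F)ᵀ * (T : Matrix (Fin n) (Fin n) F) *
      (B : Matrix (Fin n) (Fin n) F), by
    show ((B : Matrix (Fin n) (Fin n) F)ᵀ * (T : Matrix (Fin n) (Fin n) F) *
      (B : Matrix (Fin n) (Fin n) F))ᵀ = _
    rw [transpose_mul, transpose_mul, transpose_transpose, symAdd_transpose, Matrix.mul_assoc]⟩

theorem congSym_coe (B : GL (Fin n) F) (T : symAdd F n) :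
    ((congSym B T : symAdd F n) : Matrix (Fin n) (Fin n) F) =
      (B : Matrix (Fin n) (Fin n) F)ᵀ * (T : Matrix (Fin n) (Fin n) F) *
      (B : Matrix (Fin n) (Fin n) F) := rfl

theorem lev_mul_uQ (A : GL (Fin n) F) (S : symAdd F n) :
    lev A * uQ S = uQ (conjSym A S) * lev A := by
  apply Subtype.ext
  rw [Submonoid.coe_mul, Submonoid.coe_mul, lev_coe, uQ_coe, uQ_coe, fromBlocks_multiply,
    fromBlocks_multiply]
  have h : (A : Matrix (Fin n) (Fin n) F) * (S : Matrix (Fin n) (Fin n) F) *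
      (A : Matrix (Fin n) (Fin n) F)ᵀ * ((A⁻¹ : GL (Fin n) F) : Matrix (Fin n) (Fin n) F)ᵀ =
      (A : Matrix (Fin n) (Fin n) F) * (S : Matrix (Fin n) (Fin n) F) := by
    rw [Matrix.mul_assoc, ← transpose_mul, ← Units.val_mul, inv_mul_cancel, Units.val_one,
      transpose_one, Matrix.mul_one]
  simp only [conjSym_coe, Matrix.one_mul, Matrix.mul_one, Matrix.mul_zero, Matrix.zero_mul,
    add_zero, zero_add, h]

theorem uQ_conjSym (A : GL (Fin n) F) (S : symAdd F n) :
    uQ (conjSym A S) = lev A * uQ S * (lev A)⁻¹ :=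
  eq_mul_inv_of_mul_eq (lev_mul_uQ A S).symm

theorem tv_single_eq (i : Fin n) (c : F) :
    Cfsg.Agent.Lib.Helper5.SympPerfect.tv n (Pi.single (Sum.inl i) 1) c =
      uQ ⟨c • Matrix.single i i 1, by
        show (c • Matrix.single i i (1 : F))ᵀ = _
        rw [transpose_smul, Matrix.transpose_single]⟩ := by
  apply Subtype.ext
  rw [Cfsg.Agent.Lib.Helper5.SympPerfect.tv_coe, uQ_coe]
  unfold sympTransvection
  have : J (Fin n) F *ᵥ Pi.single (Sum.inl i) 1 = Pi.single (Sum.inr i) 1 := by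
    rw [mulVec_single_one]
    ext (j|j) <;> simp [J, Matrix.col, Pi.single_apply, Matrix.one_apply]
  rw [this]
  ext (a|a) (b|b)
  · simp [Matrix.one_apply, vecMulVec_apply, Pi.single_apply]
  · simp [Matrix.single_apply, vecMulVec_apply, Pi.single_apply]
    by_cases h1 : b = i
    · by_cases h2 : a = i
      · subst h1
        subst h2
        simp
      · have h3 : ¬ (i = a) := fun e => h2 e.symm
        simp [h2, h3]
    · have h3 : ¬ (i = b) := fun e => h1 e.symm
      simp [h1, h3]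
  · simp [Matrix.single_apply, vecMulVec_apply]
  · simp [Matrix.one_apply, vecMulVec_apply, Pi.single_apply]

end elements

section rep
variable {F : Type*} [Field F] [Fintype F] [DecidableEq F] {n : ℕ}
variable {V : Type*} [AddCommGroup V] [Module ℂ V] [FiniteDimensional ℂ V]
variable (ρ : Representation ℂ (symplecticGroup (Fin n) F) V) (ψ : AddChar F ℂ)

/-- the isotypic projector of the abelian group `Q` for the character `S ↦ ψ(tr(TS))` -/
noncomputable def eT (T : symAdd F n) : Module.End ℂ V :=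
  ((Fintype.card (symAdd F n) : ℂ))⁻¹ • ∑ S : symAdd F n,
    ψ (-(Matrix.trace ((T : Matrix (Fin n) (Fin n) F) * (S : Matrix (Fin n) (Fin n) F)))) •
      ρ (uQ S)

theorem rho_mul_eT (S0 T : symAdd F n) :
    ρ (uQ S0) * eT ρ ψ T =
      ψ (Matrix.trace ((T : Matrix (Fin n) (Fin n) F) * (S0 : Matrix (Fin n) (Fin n) F))) •
        eT ρ ψ T := by
  have key : ρ (uQ S0) * ∑ S : symAdd F n,
      ψ (-(Matrix.trace ((T : Matrix (Fin n) (Fin n) F) * (S : Matrix (Fin n) (Fin n) F)))) •
        ρ (uQ S) =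
      ψ (Matrix.trace ((T : Matrix (Fin n) (Fin n) F) * (S0 : Matrix (Fin n) (Fin n) F))) •
        ∑ S : symAdd F n,
      ψ (-(Matrix.trace ((T : Matrix (Fin n) (Fin n) F) * (S : Matrix (Fin n) (Fin n) F)))) •
        ρ (uQ S) := by
    rw [Finset.mul_sum, Finset.smul_sum]
    refine Fintype.sum_equiv (Equiv.addLeft S0)
      (fun S : symAdd F n => ρ (uQ S0) * (ψ (-(Matrix.trace ((T : Matrix (Fin n) (Fin n) F) *
        (S : Matrix (Fin n) (Fin n) F)))) • ρ (uQ S)))
      (fun S : symAdd F n => ψ (Matrix.trace ((T : Matrix (Fin n) (Fin n) F) *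
        (S0 : Matrix (Fin n) (Fin n) F))) • (ψ (-(Matrix.trace ((T : Matrix (Fin n) (Fin n) F) *
        (S : Matrix (Fin n) (Fin n) F)))) • ρ (uQ S))) ?_
    intro S
    show ρ (uQ S0) * (ψ (-(Matrix.trace ((T : Matrix (Fin n) (Fin n) F) *
        (S : Matrix (Fin n) (Fin n) F)))) • ρ (uQ S)) =
      ψ (Matrix.trace ((T : Matrix (Fin n) (Fin n) F) *
        (S0 : Matrix (Fin n) (Fin n) F))) • (ψ (-(Matrix.trace ((T : Matrix (Fin n) (Fin n) F) *
        ((S0 + S : symAdd F n) : Matrix (Fin n) (Fin n) F)))) • ρ (uQ (S0 + S)))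
    rw [mul_smul_comm, ← MonoidHom.map_mul ρ, ← uQ_add, smul_smul]
    congr 1
    rw [← AddChar.map_add_eq_mul]
    congr 1
    rw [AddSubgroup.coe_add, Matrix.mul_add, Matrix.trace_add]
    ring
  unfold eT
  rw [mul_smul_comm, key, smul_comm]

theorem eT_mul (T : symAdd F n) (X : Module.End ℂ V) :
    eT ρ ψ T * X = ((Fintype.card (symAdd F n) : ℂ))⁻¹ • ∑ S : symAdd F n,
      ψ (-(Matrix.trace ((T : Matrix (Fin n) (Fin n) F) * (S : Matrix (Fin n) (Fin n) F)))) •
        (ρ (uQ S) * X) := by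
  unfold eT
  rw [smul_mul_assoc, Finset.sum_mul]
  simp only [smul_mul_assoc]

theorem eT_idem (T : symAdd F n) : IsIdempotentElem (eT ρ ψ T) := by
  show eT ρ ψ T * eT ρ ψ T = eT ρ ψ T
  rw [eT_mul]
  have h : ∀ S : symAdd F n,
      ψ (-(Matrix.trace ((T : Matrix (Fin n) (Fin n) F) * (S : Matrix (Fin n) (Fin n) F)))) •
        (ρ (uQ S) * eT ρ ψ T) = eT ρ ψ T := by
    intro S
    rw [rho_mul_eT, smul_smul, ← AddChar.map_add_eq_mul, neg_add_cancel,
      AddChar.map_zero_eq_one, one_smul]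
  rw [Finset.sum_congr rfl (fun S _ => h S), Finset.sum_const, Finset.card_univ,
    ← Nat.cast_smul_eq_nsmul ℂ, smul_smul, inv_mul_cancel₀, one_smul]
  exact Nat.cast_ne_zero.2 Fintype.card_ne_zero

theorem sum_eT (h2 : (2 : F) ≠ 0) (hψ : ψ ≠ 1) : ∑ T : symAdd F n, eT ρ ψ T = 1 := by
  classical
  unfold eT
  rw [← Finset.smul_sum, Finset.sum_comm]
  have h : ∀ S : symAdd F n, ∑ T : symAdd F n,
      ψ (-(Matrix.trace ((T : Matrix (Fin n) (Fin n) F) * (S : Matrix (Fin n) (Fin n) F)))) •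
        ρ (uQ S) =
      if S = 0 then (Fintype.card (symAdd F n) : ℂ) • (1 : Module.End ℂ V) else 0 := by
    intro S
    rw [← Finset.sum_smul]
    split_ifs with hS
    · subst hS
      simp [uQ_zero]
    · have h0 : (-(S : Matrix (Fin n) (Fin n) F)) ≠ 0 := by
        intro h
        apply hS
        apply Subtype.ext
        simpa using h
      have := sum_sym_psi_zero h2 ψ hψ (-(S : Matrix (Fin n) (Fin n) F))
        (by rw [transpose_neg, symAdd_transpose]) h0
      rw [show (∑ T : symAdd F n, ψ (-(Matrix.trace ((T : Matrix (Fin n) (Fin n) F) *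
        (S : Matrix (Fin n) (Fin n) F))))) = 0 from by
          simpa [Matrix.mul_neg, Matrix.trace_neg] using this, zero_smul]
  rw [Finset.sum_congr rfl (fun S _ => h S), Finset.sum_ite_eq' Finset.univ (0 : symAdd F n)
    (fun _ => (Fintype.card (symAdd F n) : ℂ) • (1 : Module.End ℂ V)), if_pos (Finset.mem_univ _),
    smul_smul, inv_mul_cancel₀, one_smul]
  exact Nat.cast_ne_zero.2 Fintype.card_ne_zero

theorem trace_eT (T : symAdd F n) :
    LinearMap.trace ℂ V (eT ρ ψ T) = ((Fintype.card (symAdd F n) : ℂ))⁻¹ *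
      ∑ S : symAdd F n,
        ψ (-(Matrix.trace ((T : Matrix (Fin n) (Fin n) F) * (S : Matrix (Fin n) (Fin n) F)))) *
          LinearMap.trace ℂ V (ρ (uQ S)) := by
  unfold eT
  simp [map_sum, smul_eq_mul]

theorem trace_rho_conj (g h : symplecticGroup (Fin n) F) :
    LinearMap.trace ℂ V (ρ (g * h * g⁻¹)) = LinearMap.trace ℂ V (ρ h) := by
  rw [MonoidHom.map_mul ρ, MonoidHom.map_mul ρ, LinearMap.trace_mul_comm, ← mul_assoc,
    ← MonoidHom.map_mul ρ, inv_mul_cancel, MonoidHom.map_one ρ, one_mul]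

theorem trace_eT_cong (B : GL (Fin n) F) (T : symAdd F n) :
    LinearMap.trace ℂ V (eT ρ ψ (congSym B T)) = LinearMap.trace ℂ V (eT ρ ψ T) := by
  rw [trace_eT, trace_eT]
  congr 1
  refine Fintype.sum_equiv (conjSymEquiv B) _ _ ?_
  intro S
  show _ = ψ (-(Matrix.trace ((T : Matrix (Fin n) (Fin n) F) *
    ((conjSym B S : symAdd F n) : Matrix (Fin n) (Fin n) F)))) *
      LinearMap.trace ℂ V (ρ (uQ (conjSym B S)))
  have hcoef : Matrix.trace (((congSym B T : symAdd F n) : Matrix (Fin n) (Fin n) F) *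
      (S : Matrix (Fin n) (Fin n) F)) =
      Matrix.trace ((T : Matrix (Fin n) (Fin n) F) *
        ((conjSym B S : symAdd F n) : Matrix (Fin n) (Fin n) F)) := by
    rw [congSym_coe, conjSym_coe]
    calc Matrix.trace ((B : Matrix (Fin n) (Fin n) F)ᵀ * (T : Matrix (Fin n) (Fin n) F) *
          (B : Matrix (Fin n) (Fin n) F) * (S : Matrix (Fin n) (Fin n) F))
        = Matrix.trace ((B : Matrix (Fin n) (Fin n) F)ᵀ * ((T : Matrix (Fin n) (Fin n) F) *
          (B : Matrix (Fin n) (Fin n) F) * (S : Matrix (Fin n) (Fin n) F))) := by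
          simp only [Matrix.mul_assoc]
      _ = Matrix.trace (((T : Matrix (Fin n) (Fin n) F) *
          (B : Matrix (Fin n) (Fin n) F) * (S : Matrix (Fin n) (Fin n) F)) *
          (B : Matrix (Fin n) (Fin n) F)ᵀ) := Matrix.trace_mul_comm _ _
      _ = _ := by simp only [Matrix.mul_assoc]
  rw [uQ_conjSym, trace_rho_conj, hcoef]

theorem rho_trivial_of_uQ (hn : 0 < n) (h : ∀ S : symAdd F n, ρ (uQ S) = 1) :
    ∀ g, ρ g = 1 := by
  have hK : Subgroup.closure (Cfsg.Agent.Lib.Helper5.SympTv.tvSet F n) ≤ MonoidHom.ker ρ := by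
    rw [Subgroup.closure_le]
    intro A hA
    obtain ⟨w, c, hAw⟩ := hA
    have hAeq : A = Cfsg.Agent.Lib.Helper5.SympPerfect.tv n w c := Subtype.ext hAw
    by_cases hw : w = 0
    · subst hw
      rw [hAeq, Cfsg.Agent.Lib.Helper5.SympPerfect.tv_zero_vec]
      exact one_mem _
    · obtain ⟨g, hg⟩ := Cfsg.Agent.Lib.Helper5.SympPerfect.exists_move n
        (Pi.single (Sum.inl ⟨0, hn⟩) 1) w
        (Cfsg.Agent.Lib.Helper5.SympPerfect.single_inl_ne_zero n ⟨0, hn⟩) hw
      rw [hAeq, ← hg, ← Cfsg.Agent.Lib.Helper5.SympPerfect.conj_tv]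
      apply (MonoidHom.normal_ker ρ).conj_mem
      rw [tv_single_eq]
      exact MonoidHom.mem_ker.2 (h _)
  rw [Cfsg.Agent.Lib.Helper5.SympGen.closure_tvSet_eq_top] at hK
  intro g
  exact MonoidHom.mem_ker.1 (hK (Subgroup.mem_top g))

theorem not_irreducible_of_trivial (hρ : ∀ g, ρ g = 1) (hdim : 2 ≤ Module.finrank ℂ V) :
    ¬ ρ.IsIrreducible := by
  intro hirr
  have hpos : 0 < Module.finrank ℂ V := by omega
  obtain ⟨v, hv⟩ := Module.finrank_pos_iff_exists_ne_zero.1 hpos
  let U : Subrepresentation ρ := ⟨Submodule.span ℂ {v}, by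
    intro g x hx
    rw [hρ g]
    exact hx⟩
  rcases hirr.eq_bot_or_eq_top U with hU | hU
  · have h1 : U.toSubmodule = ⊥ := by rw [hU]; rfl
    have : v ∈ (⊥ : Submodule ℂ V) := by
      rw [← h1]
      exact Submodule.mem_span_singleton_self v
    exact hv ((Submodule.mem_bot ℂ).1 this)
  · have h1 : U.toSubmodule = ⊤ := by rw [hU]; rfl
    have h2 : Module.finrank ℂ (Submodule.span ℂ {v}) = 1 := finrank_span_singleton hv
    have h3 : Module.finrank ℂ (Submodule.span ℂ {v}) = Module.finrank ℂ V := by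
      rw [show Submodule.span ℂ {v} = ⊤ from h1, finrank_top]
    omega

theorem degree_lower_bound (hn : 0 < n) (h2 : (2 : F) ≠ 0) (hirr : ρ.IsIrreducible)
    (hdim : 2 ≤ Module.finrank ℂ V) :
    (Fintype.card F ^ n - 1) / 2 ≤ Module.finrank ℂ V := by
  classical
  obtain ⟨ψ, hψ⟩ := exists_psi_ne_one F
  by_cases hall : ∀ T : symAdd F n, T ≠ 0 → eT ρ ψ T = 0
  · exfalso
    have h0 : eT ρ ψ 0 = 1 := by
      rw [← sum_eT ρ ψ h2 hψ]
      symm
      apply Finset.sum_eq_single
      · intro T _ hT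
        exact hall T hT
      · intro h
        exact absurd (Finset.mem_univ _) h
    have htriv : ∀ S : symAdd F n, ρ (uQ S) = 1 := by
      intro S
      have := rho_mul_eT ρ ψ S 0
      rw [h0, mul_one] at this
      rw [this]
      simp
    exact not_irreducible_of_trivial ρ (rho_trivial_of_uQ ρ hn htriv) hdim hirr
  · push Not at hall
    obtain ⟨T0, hT0, heT0⟩ := hall
    have hm : ∀ T : symAdd F n,
        ((Module.finrank ℂ (LinearMap.range (eT ρ ψ T)) : ℕ) : ℂ) =
          LinearMap.trace ℂ V (eT ρ ψ T) := fun T =>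
      ((LinearMap.IsIdempotentElem.isProj_range _ (eT_idem ρ ψ T)).trace).symm
    have hsum : ∑ T : symAdd F n, Module.finrank ℂ (LinearMap.range (eT ρ ψ T)) =
        Module.finrank ℂ V := by
      have : ((∑ T : symAdd F n, Module.finrank ℂ (LinearMap.range (eT ρ ψ T)) : ℕ) : ℂ) =
          (Module.finrank ℂ V : ℂ) := by
        rw [Nat.cast_sum, Finset.sum_congr rfl (fun T _ => hm T), ← map_sum, sum_eT ρ ψ h2 hψ,
          LinearMap.trace_one]
      exact_mod_cast this
    have h0 : 1 ≤ Module.finrank ℂ (LinearMap.range (eT ρ ψ T0)) := by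
      rw [Nat.one_le_iff_ne_zero]
      intro hz
      apply heT0
      apply (LinearMap.IsIdempotentElem.trace_eq_zero_iff (eT_idem ρ ψ T0)).1
      rw [← hm, hz, Nat.cast_zero]
    set O : Finset (symAdd F n) := Finset.univ.image (fun B : GL (Fin n) F => congSym B T0)
      with hO
    have horb : ∀ T ∈ O, Module.finrank ℂ (LinearMap.range (eT ρ ψ T)) =
        Module.finrank ℂ (LinearMap.range (eT ρ ψ T0)) := by
      intro T hT
      obtain ⟨B, -, rfl⟩ := Finset.mem_image.1 hT
      have : ((Module.finrank ℂ (LinearMap.range (eT ρ ψ (congSym B T0))) : ℕ) : ℂ) =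
          (Module.finrank ℂ (LinearMap.range (eT ρ ψ T0)) : ℕ) := by
        rw [hm, hm, trace_eT_cong]
      exact_mod_cast this
    have hcard : O.card = (congOrbit (T0 : Matrix (Fin n) (Fin n) F)).card := by
      rw [← Finset.card_image_of_injective O Subtype.val_injective, hO, Finset.image_image]
      rfl
    have hT0' : (T0 : Matrix (Fin n) (Fin n) F) ≠ 0 := by
      intro h
      apply hT0
      apply Subtype.ext
      exact h
    calc (Fintype.card F ^ n - 1) / 2 ≤ O.card := by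
          apply Nat.div_le_of_le_mul
          rw [hcard]
          exact orbit_bound h2 _ T0.2 hT0'
      _ ≤ ∑ T ∈ O, Module.finrank ℂ (LinearMap.range (eT ρ ψ T)) := by
          rw [Finset.sum_congr rfl horb, Finset.sum_const, smul_eq_mul]
          exact Nat.le_mul_of_pos_right _ h0
      _ ≤ ∑ T : symAdd F n, Module.finrank ℂ (LinearMap.range (eT ρ ψ T)) :=
          Finset.sum_le_sum_of_subset (Finset.subset_univ _)
      _ = Module.finrank ℂ V := hsum

end rep

end Cfsg.Agent.Lib.Helper6.Wl
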