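import Mathlib
import Cfsg.Agent.Lib.Helper5.SympTv
import Cfsg.Agent.Lib.Helper6.WlA

set_option autoImplicit false

/-!
Heisenberg operators on functions `F^n → ℂ`: they form a basis of the endomorphism algebra,
and every symplectic matrix is implemented by an invertible operator (Skolem–Noether).
-/

namespace Cfsg.Agent.Lib.Helper6.Wl

open Matrix Cfsg

section heis
variable {F : Type*} [Field F] [Fintype F] [DecidableEq F] {n : ℕ}

/-- first half of a vector of `F^{2n}` -/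
def va (v : Fin n ⊕ Fin n → F) : Fin n → F := fun i => v (Sum.inl i)

/-- second half of a vector of `F^{2n}` -/
def vb (v : Fin n ⊕ Fin n → F) : Fin n → F := fun i => v (Sum.inr i)

omit [Fintype F] [DecidableEq F] in
theorem va_add (v w : Fin n ⊕ Fin n → F) : va (v + w) = va v + va w := rfl

omit [Fintype F] [DecidableEq F] in
theorem vb_add (v w : Fin n ⊕ Fin n → F) : vb (v + w) = vb v + vb w := rfl

omit [Fintype F] [DecidableEq F] in
theorem va_zero : va (0 : Fin n ⊕ Fin n → F) = 0 := rfl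

omit [Fintype F] [DecidableEq F] in
theorem vb_zero : vb (0 : Fin n ⊕ Fin n → F) = 0 := rfl

omit [Fintype F] [DecidableEq F] in
theorem va_neg (v : Fin n ⊕ Fin n → F) : va (-v) = -va v := rfl

omit [Fintype F] [DecidableEq F] in
theorem vb_neg (v : Fin n ⊕ Fin n → F) : vb (-v) = -vb v := rfl

omit [Fintype F] [DecidableEq F] in
theorem vec_ext_ab {v w : Fin n ⊕ Fin n → F} (ha : va v = va w) (hb : vb v = vb w) : v = w := by
  ext (i|i)
  · exact congrFun ha i
  · exact congrFun hb i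

/-- the alternating coefficient -/
def hcoef (v w : Fin n ⊕ Fin n → F) : F := va v ⬝ᵥ vb w - va w ⬝ᵥ vb v

omit [Fintype F] [DecidableEq F] in
theorem hcoef_eq (v w : Fin n ⊕ Fin n → F) : hcoef v w = - sympForm n F v w := by
  unfold hcoef sympForm
  rw [Matrix.J, fromBlocks_mulVec]
  simp only [zero_mulVec, neg_mulVec, one_mulVec, zero_add, add_zero, dotProduct, va, vb,
    Fintype.sum_sum_type, Sum.elim_inl, Sum.elim_inr, Pi.neg_apply, Function.comp_apply, mul_neg,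
    Finset.sum_neg_distrib]
  have : ∀ i, w (Sum.inl i) * v (Sum.inr i) = v (Sum.inr i) * w (Sum.inl i) :=
    fun i => mul_comm _ _
  simp only [this]
  ring

omit [Fintype F] [DecidableEq F] in
theorem hcoef_mulVec (g : symplecticGroup (Fin n) F) (v w : Fin n ⊕ Fin n → F) :
    hcoef ((g : Matrix (Fin n ⊕ Fin n) (Fin n ⊕ Fin n) F) *ᵥ v)
      ((g : Matrix (Fin n ⊕ Fin n) (Fin n ⊕ Fin n) F) *ᵥ w) = hcoef v w := by
  rw [hcoef_eq, hcoef_eq, Cfsg.Agent.Lib.Helper5.SympTv.sympForm_mulVec n g.2]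

variable (ψ : AddChar F ℂ) (γ : F)

/-- the Heisenberg operator -/
def heis (v : Fin n ⊕ Fin n → F) : Module.End ℂ ((Fin n → F) → ℂ) where
  toFun f := fun t => ψ (vb v ⬝ᵥ t + γ * (va v ⬝ᵥ vb v)) * f (t + va v)
  map_add' f f' := by
    funext t
    simp [mul_add]
  map_smul' c f := by
    funext t
    simp [mul_left_comm]

omit [Fintype F] [DecidableEq F] in
theorem heis_apply (v : Fin n ⊕ Fin n → F) (f : (Fin n → F) → ℂ) (t : Fin n → F) :
    heis ψ γ v f t = ψ (vb v ⬝ᵥ t + γ * (va v ⬝ᵥ vb v)) * f (t + va v) := rfl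

omit [Fintype F] [DecidableEq F] in
theorem heis_zero : heis ψ γ (0 : Fin n ⊕ Fin n → F) = 1 := by
  refine LinearMap.ext fun f => funext fun t => ?_
  rw [heis_apply, va_zero, vb_zero]
  simp

omit [Fintype F] [DecidableEq F] in
theorem heis_mul (hγ : γ + γ = 1) (v w : Fin n ⊕ Fin n → F) :
    heis ψ γ v * heis ψ γ w = ψ (γ * hcoef v w) • heis ψ γ (v + w) := by
  refine LinearMap.ext fun f => funext fun t => ?_
  rw [Module.End.mul_apply, heis_apply, heis_apply, LinearMap.smul_apply, Pi.smul_apply,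
    heis_apply, smul_eq_mul, ← mul_assoc, ← mul_assoc, ← AddChar.map_add_eq_mul,
    ← AddChar.map_add_eq_mul, va_add, vb_add, add_assoc t]
  congr 2
  unfold hcoef
  simp only [dotProduct_add, add_dotProduct, dotProduct_comm (vb w) (va v)]
  linear_combination (-(va v ⬝ᵥ vb w)) * hγ

theorem heis_linearIndependent (hψ : ψ ≠ 1) :
    LinearIndependent ℂ (fun v : Fin n ⊕ Fin n → F => heis ψ γ v) := by
  rw [Fintype.linearIndependent_iff]
  intro c hc v0
  obtain ⟨E, hE⟩ : ∃ E : (Fin n ⊕ Fin n → F) → (Fin n → F) → ℂ, ∀ v t, E v t =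
      ψ (vb v ⬝ᵥ t + γ * (va v ⬝ᵥ vb v)) * (if va v = va v0 then 1 else 0) :=
    ⟨_, fun _ _ => rfl⟩
  have key : ∀ t : Fin n → F, ∑ v : Fin n ⊕ Fin n → F, c v * E v t = 0 := by
    intro t
    have h2 : ∑ v : Fin n ⊕ Fin n → F, c v * E v t =
        (∑ v : Fin n ⊕ Fin n → F, c v • heis ψ γ v) (Pi.single (t + va v0) 1) t := by
      rw [LinearMap.sum_apply, Finset.sum_apply]
      apply Finset.sum_congr rfl
      intro v _
      rw [LinearMap.smul_apply, Pi.smul_apply, heis_apply, Pi.single_apply, smul_eq_mul, hE]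
      simp only [add_right_inj]
    rw [h2, hc]
    rfl
  have h3 : ∑ v : Fin n ⊕ Fin n → F, c v * (∑ t : Fin n → F, ψ (-(vb v0 ⬝ᵥ t)) * E v t) = 0 := by
    have e1 : ∀ v : Fin n ⊕ Fin n → F, c v * (∑ t : Fin n → F, ψ (-(vb v0 ⬝ᵥ t)) * E v t) =
        ∑ t : Fin n → F, ψ (-(vb v0 ⬝ᵥ t)) * (c v * E v t) := by
      intro v
      rw [Finset.mul_sum]
      apply Finset.sum_congr rfl
      intro t _
      ring
    have e2 : ∀ t : Fin n → F, ψ (-(vb v0 ⬝ᵥ t)) * (∑ v : Fin n ⊕ Fin n → F, c v * E v t) =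
        ∑ v : Fin n ⊕ Fin n → F, ψ (-(vb v0 ⬝ᵥ t)) * (c v * E v t) := by
      intro t
      rw [Finset.mul_sum]
    calc ∑ v : Fin n ⊕ Fin n → F, c v * (∑ t : Fin n → F, ψ (-(vb v0 ⬝ᵥ t)) * E v t)
        = ∑ v : Fin n ⊕ Fin n → F, ∑ t : Fin n → F, ψ (-(vb v0 ⬝ᵥ t)) * (c v * E v t) :=
          Finset.sum_congr rfl (fun v _ => e1 v)
      _ = ∑ t : Fin n → F, ∑ v : Fin n ⊕ Fin n → F, ψ (-(vb v0 ⬝ᵥ t)) * (c v * E v t) :=
          Finset.sum_comm
      _ = ∑ t : Fin n → F, ψ (-(vb v0 ⬝ᵥ t)) * (∑ v : Fin n ⊕ Fin n → F, c v * E v t) :=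
          Finset.sum_congr rfl (fun t _ => (e2 t).symm)
      _ = 0 := by
          rw [Finset.sum_congr rfl (fun t _ => by rw [key t, mul_zero])]
          exact Finset.sum_const_zero
  have hG : ∀ v : Fin n ⊕ Fin n → F, v ≠ v0 →
      (∑ t : Fin n → F, ψ (-(vb v0 ⬝ᵥ t)) * E v t) = 0 := by
    intro v hv
    by_cases ha : va v = va v0
    · have hb : vb v - vb v0 ≠ 0 := by
        intro h
        apply hv
        exact vec_ext_ab ha (sub_eq_zero.1 h)
      have hterm : ∀ t : Fin n → F, ψ (-(vb v0 ⬝ᵥ t)) * E v t =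
          ψ (γ * (va v ⬝ᵥ vb v)) * ψ ((vb v - vb v0) ⬝ᵥ t) := by
        intro t
        rw [hE, if_pos ha, mul_one, ← AddChar.map_add_eq_mul, ← AddChar.map_add_eq_mul]
        congr 1
        rw [sub_dotProduct]
        ring
      rw [Finset.sum_congr rfl (fun t _ => hterm t), ← Finset.mul_sum,
        sum_vec_psi_zero ψ hψ _ hb, mul_zero]
    · have hterm : ∀ t : Fin n → F, ψ (-(vb v0 ⬝ᵥ t)) * E v t = 0 := by
        intro t
        rw [hE, if_neg ha, mul_zero, mul_zero]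
      rw [Finset.sum_congr rfl (fun t _ => hterm t)]
      exact Finset.sum_const_zero
  have hG0 : (∑ t : Fin n → F, ψ (-(vb v0 ⬝ᵥ t)) * E v0 t) =
      (Fintype.card (Fin n → F) : ℂ) * ψ (γ * (va v0 ⬝ᵥ vb v0)) := by
    have hterm : ∀ t : Fin n → F, ψ (-(vb v0 ⬝ᵥ t)) * E v0 t = ψ (γ * (va v0 ⬝ᵥ vb v0)) := by
      intro t
      rw [hE, if_pos rfl, mul_one, ← AddChar.map_add_eq_mul]
      congr 1
      ring
    rw [Finset.sum_congr rfl (fun t _ => hterm t), Finset.sum_const, Finset.card_univ,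
      nsmul_eq_mul]
  rw [Finset.sum_eq_single v0 (fun v _ hv => by rw [hG v hv, mul_zero])
    (fun h => absurd (Finset.mem_univ _) h), hG0] at h3
  rcases mul_eq_zero.1 h3 with h | h
  · exact h
  · exfalso
    rcases mul_eq_zero.1 h with h' | h'
    · exact (Nat.cast_ne_zero.2 Fintype.card_ne_zero) h'
    · exact psi_ne_zero ψ _ h'

theorem card_H_eq : Fintype.card (Fin n ⊕ Fin n → F) =
    Module.finrank ℂ (Module.End ℂ ((Fin n → F) → ℂ)) := by
  rw [Module.finrank_linearMap, Module.finrank_fintype_fun_eq_card, Fintype.card_fun,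
    Fintype.card_fun, Fintype.card_sum, Fintype.card_fin, pow_add]

/-- the Heisenberg operators as a basis of the endomorphism algebra -/
noncomputable def heisBasis (hψ : ψ ≠ 1) :
    Module.Basis (Fin n ⊕ Fin n → F) ℂ (Module.End ℂ ((Fin n → F) → ℂ)) :=
  basisOfLinearIndependentOfCardEqFinrank (heis_linearIndependent ψ γ hψ) card_H_eq

theorem heisBasis_apply (hψ : ψ ≠ 1) (v : Fin n ⊕ Fin n → F) :
    heisBasis ψ γ hψ v = heis ψ γ v := by
  unfold heisBasis
  rw [coe_basisOfLinearIndependentOfCardEqFinrank]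

theorem central_of_commute (hψ : ψ ≠ 1) (Z : Module.End ℂ ((Fin n → F) → ℂ))
    (hZ : ∀ v, Z * heis ψ γ v = heis ψ γ v * Z) : ∃ c : ℂ, Z = c • 1 := by
  have h1 : LinearMap.mulLeft ℂ Z = LinearMap.mulRight ℂ Z := by
    apply (heisBasis ψ γ hψ).ext
    intro v
    rw [heisBasis_apply, LinearMap.mulLeft_apply, LinearMap.mulRight_apply]
    exact hZ v
  have h2 : Z ∈ Subalgebra.center ℂ (Module.End ℂ ((Fin n → F) → ℂ)) := by
    rw [Subalgebra.mem_center_iff]
    intro b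
    have := LinearMap.congr_fun h1 b
    rw [LinearMap.mulLeft_apply, LinearMap.mulRight_apply] at this
    exact this.symm
  obtain ⟨a, ha⟩ := (Algebra.IsCentral.mem_center_iff ℂ).1 h2
  exact ⟨a, by rw [ha, Algebra.algebraMap_eq_smul_one]⟩

omit [Fintype F] in
/-- the action of a symplectic matrix on `F^{2n}` as a permutation -/
def actH (g : symplecticGroup (Fin n) F) : (Fin n ⊕ Fin n → F) ≃ (Fin n ⊕ Fin n → F) where
  toFun v := (g : Matrix (Fin n ⊕ Fin n) (Fin n ⊕ Fin n) F) *ᵥ v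
  invFun v := ((g⁻¹ : symplecticGroup (Fin n) F) : Matrix (Fin n ⊕ Fin n) (Fin n ⊕ Fin n) F) *ᵥ v
  left_inv v := by
    show ((g⁻¹ : symplecticGroup (Fin n) F) : Matrix (Fin n ⊕ Fin n) (Fin n ⊕ Fin n) F) *ᵥ
      ((g : Matrix (Fin n ⊕ Fin n) (Fin n ⊕ Fin n) F) *ᵥ v) = v
    rw [mulVec_mulVec, ← Submonoid.coe_mul, inv_mul_cancel]
    simp
  right_inv v := by
    show (g : Matrix (Fin n ⊕ Fin n) (Fin n ⊕ Fin n) F) *ᵥ
      (((g⁻¹ : symplecticGroup (Fin n) F) : Matrix (Fin n ⊕ Fin n) (Fin n ⊕ Fin n) F) *ᵥ v) = v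
    rw [mulVec_mulVec, ← Submonoid.coe_mul, mul_inv_cancel]
    simp

/-- `X` implements the symplectic matrix `g` -/
def Impl (g : symplecticGroup (Fin n) F) (X : Module.End ℂ ((Fin n → F) → ℂ)) : Prop :=
  ∀ v, X * heis ψ γ v = heis ψ γ ((g : Matrix (Fin n ⊕ Fin n) (Fin n ⊕ Fin n) F) *ᵥ v) * X

theorem exists_impl (hγ : γ + γ = 1) (hψ : ψ ≠ 1) (g : symplecticGroup (Fin n) F) :
    ∃ T : ((Fin n → F) → ℂ) ≃ₗ[ℂ] ((Fin n → F) → ℂ), Impl ψ γ g T.toLinearMap := by
  set b := heisBasis ψ γ hψ with hb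
  set L : Module.End ℂ ((Fin n → F) → ℂ) ≃ₗ[ℂ] Module.End ℂ ((Fin n → F) → ℂ) :=
    b.equiv b (actH g) with hL
  have hLh : ∀ v, L (heis ψ γ v) =
      heis ψ γ ((g : Matrix (Fin n ⊕ Fin n) (Fin n ⊕ Fin n) F) *ᵥ v) := by
    intro v
    rw [← heisBasis_apply ψ γ hψ v, hL, Module.Basis.equiv_apply, hb, heisBasis_apply]
    rfl
  have h1 : L 1 = 1 := by
    rw [← heis_zero ψ γ, hLh, mulVec_zero]
  have hmul0 : ∀ v w, L (heis ψ γ v * heis ψ γ w) = L (heis ψ γ v) * L (heis ψ γ w) := by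
    intro v w
    rw [heis_mul ψ γ hγ, map_smul, hLh, hLh, hLh, heis_mul ψ γ hγ, hcoef_mulVec, mulVec_add]
  have hmul : ∀ x y, L (x * y) = L x * L y := by
    have hbil : (LinearMap.mul ℂ (Module.End ℂ ((Fin n → F) → ℂ))).compr₂ L.toLinearMap =
        (LinearMap.mul ℂ (Module.End ℂ ((Fin n → F) → ℂ))).compl₁₂ L.toLinearMap
          L.toLinearMap := by
      apply b.ext
      intro v
      apply b.ext
      intro w
      simp only [LinearMap.compr₂_apply, LinearMap.compl₁₂_apply, LinearMap.mul_apply',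
        LinearEquiv.coe_coe, hb, heisBasis_apply]
      exact hmul0 v w
    intro x y
    have := LinearMap.congr_fun (LinearMap.congr_fun hbil x) y
    simpa only [LinearMap.compr₂_apply, LinearMap.compl₁₂_apply, LinearMap.mul_apply',
      LinearEquiv.coe_coe] using this
  obtain ⟨T, hT⟩ := AlgEquiv.eq_linearEquivConjAlgEquiv (AlgEquiv.ofLinearEquiv L h1 hmul)
  refine ⟨T, fun v => ?_⟩
  have h3 : heis ψ γ ((g : Matrix (Fin n ⊕ Fin n) (Fin n ⊕ Fin n) F) *ᵥ v) =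
      T.conjAlgEquiv ℂ (heis ψ γ v) := by
    rw [← hT, ← hLh v]
    rfl
  rw [h3, LinearEquiv.conjAlgEquiv_apply]
  refine LinearMap.ext fun f => ?_
  simp

variable {ψ γ}

omit [Fintype F] in
theorem Impl.smul {g : symplecticGroup (Fin n) F} {X : Module.End ℂ ((Fin n → F) → ℂ)}
    (h : Impl ψ γ g X) (c : ℂ) : Impl ψ γ g (c • X) := by
  intro v
  rw [smul_mul_assoc, h v, mul_smul_comm]

omit [Fintype F] in
theorem Impl.mul {g h : symplecticGroup (Fin n) F} {X Y : Module.End ℂ ((Fin n → F) → ℂ)}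
    (hX : Impl ψ γ g X) (hY : Impl ψ γ h Y) : Impl ψ γ (g * h) (X * Y) := by
  intro v
  rw [mul_assoc, hY v, ← mul_assoc, hX, mul_assoc, Submonoid.coe_mul, mulVec_mulVec]

omit [Fintype F] in
theorem Impl.one : Impl ψ γ (1 : symplecticGroup (Fin n) F) 1 := by
  intro v
  simp

theorem impl_unique (hψ : ψ ≠ 1) {g : symplecticGroup (Fin n) F}
    {X Y : Module.End ℂ ((Fin n → F) → ℂ)} (hX : Impl ψ γ g X) (hY : Impl ψ γ g Y)
    (hYu : IsUnit Y) : ∃ c : ℂ, X = c • Y := by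
  obtain ⟨Yi, h1, h2⟩ := isUnit_iff_exists.1 hYu
  have hYi : ∀ v, Yi * heis ψ γ ((g : Matrix (Fin n ⊕ Fin n) (Fin n ⊕ Fin n) F) *ᵥ v) =
      heis ψ γ v * Yi := by
    intro v
    calc Yi * heis ψ γ ((g : Matrix (Fin n ⊕ Fin n) (Fin n ⊕ Fin n) F) *ᵥ v)
        = Yi * heis ψ γ ((g : Matrix (Fin n ⊕ Fin n) (Fin n ⊕ Fin n) F) *ᵥ v) * (Y * Yi) := by
          rw [h1, mul_one]
      _ = Yi * (heis ψ γ ((g : Matrix (Fin n ⊕ Fin n) (Fin n ⊕ Fin n) F) *ᵥ v) * Y) * Yi := by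
          simp only [mul_assoc]
      _ = Yi * (Y * heis ψ γ v) * Yi := by rw [hY v]
      _ = (Yi * Y) * heis ψ γ v * Yi := by simp only [mul_assoc]
      _ = heis ψ γ v * Yi := by rw [h2, one_mul]
  obtain ⟨c, hc⟩ := central_of_commute ψ γ hψ (Yi * X) (by
    intro v
    rw [mul_assoc, hX v, ← mul_assoc, hYi v, mul_assoc])
  refine ⟨c, ?_⟩
  calc X = (Y * Yi) * X := by rw [h1, one_mul]
    _ = Y * (Yi * X) := mul_assoc _ _ _
    _ = Y * (c • 1) := by rw [hc]
    _ = c • Y := by rw [mul_smul_comm, mul_one]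

end heis

end Cfsg.Agent.Lib.Helper6.Wl
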