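import Mathlib
import Cfsg.Agent.Lib.Helper6.WlD

set_option autoImplicit false

/-!
The parity operator, even and odd functions, the cocycle-killing normalisation and the
Weil representation of `Sp_{2n}(q)`, `q` odd, as a genuine representation.
-/

namespace Cfsg.Agent.Lib.Helper6.Wl

open Matrix Cfsg

/-- the standing hypotheses for the Weil representation -/
structure WeilData (F : Type*) [Field F] [Fintype F] (ψ : AddChar F ℂ) (γ : F) : Prop where
  h2 : (2 : F) ≠ 0
  hodd : Odd (Fintype.card F)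
  hγ : γ + γ = 1
  hψ : ψ ≠ 1

section parity
variable {F : Type*} [Field F] [Fintype F] [DecidableEq F] {n : ℕ}

/-- the parity operator `f ↦ f(-·)` -/
def parOp : Module.End ℂ ((Fin n → F) → ℂ) where
  toFun f := fun t => f (-t)
  map_add' _ _ := rfl
  map_smul' _ _ := rfl

omit [Fintype F] [DecidableEq F] in
theorem parOp_apply (f : (Fin n → F) → ℂ) (t : Fin n → F) : parOp f t = f (-t) := rfl

omit [Fintype F] [DecidableEq F] in
theorem parOp_mul_self : (parOp : Module.End ℂ ((Fin n → F) → ℂ)) * parOp = 1 := by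
  refine LinearMap.ext fun f => funext fun t => ?_
  rw [Module.End.mul_apply, parOp_apply, parOp_apply, neg_neg]
  rfl

omit [Fintype F] [DecidableEq F] in
theorem isUnit_parOp : IsUnit (parOp : Module.End ℂ ((Fin n → F) → ℂ)) :=
  isUnit_iff_exists.2 ⟨parOp, parOp_mul_self, parOp_mul_self⟩

/-- the central element `-1` of the symplectic group -/
def negSp : symplecticGroup (Fin n) F :=
  ⟨-1, SymplecticGroup.neg_mem (one_mem _)⟩

omit [Fintype F] [DecidableEq F] in
theorem parOp_heis (ψ : AddChar F ℂ) (γ : F) (v : Fin n ⊕ Fin n → F) :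
    parOp * heis ψ γ v = heis ψ γ (-v) * parOp := by
  refine LinearMap.ext fun f => funext fun t => ?_
  rw [Module.End.mul_apply, Module.End.mul_apply, parOp_apply, heis_apply, heis_apply,
    parOp_apply, va_neg, vb_neg]
  simp only [neg_dotProduct, dotProduct_neg, neg_neg, neg_add]

omit [Fintype F] in
theorem impl_parOp (ψ : AddChar F ℂ) (γ : F) :
    Impl ψ γ (negSp : symplecticGroup (Fin n) F) parOp := by
  intro v
  rw [parOp_heis]
  congr 2
  show -v = (-1 : Matrix (Fin n ⊕ Fin n) (Fin n ⊕ Fin n) F) *ᵥ v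
  rw [neg_mulVec, one_mulVec]

theorem trace_parOp (h2 : (2 : F) ≠ 0) :
    LinearMap.trace ℂ ((Fin n → F) → ℂ) (parOp : Module.End ℂ ((Fin n → F) → ℂ)) = 1 := by
  rw [LinearMap.trace_eq_matrix_trace ℂ (Pi.basisFun ℂ (Fin n → F)),
    LinearMap.toMatrix_eq_toMatrix', Matrix.trace]
  simp only [Matrix.diag_apply, LinearMap.toMatrix'_apply, parOp_apply, Pi.single_apply]
  rw [Finset.sum_eq_single (0 : Fin n → F)]
  · simp
  · intro t _ ht
    rw [if_neg]
    intro h
    apply ht
    funext i
    have hi : -t i = t i := congrFun h i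
    have h3 : (2 : F) * t i = 0 := by linear_combination (-1 : F) * hi
    rcases mul_eq_zero.1 h3 with h4 | h4
    · exact absurd h4 h2
    · exact h4
  · intro h
    exact absurd (Finset.mem_univ _) h

variable (F n)

/-- odd functions -/
def Wm : Submodule ℂ ((Fin n → F) → ℂ) where
  carrier := {f | ∀ t, f (-t) = -f t}
  add_mem' := by
    intro f g hf hg t
    show f (-t) + g (-t) = -(f t + g t)
    rw [hf t, hg t]
    ring
  zero_mem' := by
    intro t
    show (0 : ℂ) = -0
    simp
  smul_mem' := by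
    intro c f hf t
    show c * f (-t) = -(c * f t)
    rw [hf t]
    ring

/-- even functions -/
def Wp : Submodule ℂ ((Fin n → F) → ℂ) where
  carrier := {f | ∀ t, f (-t) = f t}
  add_mem' := by
    intro f g hf hg t
    show f (-t) + g (-t) = f t + g t
    rw [hf t, hg t]
  zero_mem' := by
    intro t
    rfl
  smul_mem' := by
    intro c f hf t
    show c * f (-t) = c * f t
    rw [hf t]

variable {F n}

omit [Fintype F] [DecidableEq F] in
theorem mem_Wm {f : (Fin n → F) → ℂ} : f ∈ Wm F n ↔ ∀ t, f (-t) = -f t := Iff.rfl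

omit [Fintype F] [DecidableEq F] in
theorem mem_Wp {f : (Fin n → F) → ℂ} : f ∈ Wp F n ↔ ∀ t, f (-t) = f t := Iff.rfl

/-- projection onto odd functions -/
noncomputable def projM : Module.End ℂ ((Fin n → F) → ℂ) := (2 : ℂ)⁻¹ • (1 - parOp)

/-- projection onto even functions -/
noncomputable def projP : Module.End ℂ ((Fin n → F) → ℂ) := (2 : ℂ)⁻¹ • (1 + parOp)

omit [Fintype F] [DecidableEq F] in
theorem projM_apply (f : (Fin n → F) → ℂ) (t : Fin n → F) :
    projM f t = (2 : ℂ)⁻¹ * (f t - f (-t)) := rfl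

omit [Fintype F] [DecidableEq F] in
theorem projP_apply (f : (Fin n → F) → ℂ) (t : Fin n → F) :
    projP f t = (2 : ℂ)⁻¹ * (f t + f (-t)) := rfl

omit [Fintype F] [DecidableEq F] in
theorem isProj_M : LinearMap.IsProj (Wm F n) (projM : Module.End ℂ ((Fin n → F) → ℂ)) :=
  ⟨fun f t => by rw [projM_apply, projM_apply, neg_neg]; ring,
   fun f hf => funext fun t => by rw [projM_apply, hf t]; ring⟩

omit [Fintype F] [DecidableEq F] in
theorem isProj_P : LinearMap.IsProj (Wp F n) (projP : Module.End ℂ ((Fin n → F) → ℂ)) :=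
  ⟨fun f t => by rw [projP_apply, projP_apply, neg_neg]; ring,
   fun f hf => funext fun t => by rw [projP_apply, hf t]; ring⟩

theorem finrank_Wm (h2 : (2 : F) ≠ 0) :
    (Module.finrank ℂ (Wm F n) : ℂ) = (2 : ℂ)⁻¹ * ((Fintype.card F : ℂ) ^ n - 1) := by
  rw [← (isProj_M (F := F) (n := n)).trace, projM, map_smul, map_sub, LinearMap.trace_one,
    trace_parOp h2, Module.finrank_fintype_fun_eq_card, Fintype.card_fun, Fintype.card_fin,
    smul_eq_mul]
  push_cast
  ring

theorem finrank_Wp (h2 : (2 : F) ≠ 0) :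
    (Module.finrank ℂ (Wp F n) : ℂ) = (2 : ℂ)⁻¹ * ((Fintype.card F : ℂ) ^ n + 1) := by
  rw [← (isProj_P (F := F) (n := n)).trace, projP, map_smul, map_add, LinearMap.trace_one,
    trace_parOp h2, Module.finrank_fintype_fun_eq_card, Fintype.card_fun, Fintype.card_fin,
    smul_eq_mul]
  push_cast
  ring

theorem finrank_nat (h2 : (2 : F) ≠ 0) (hodd : Odd (Fintype.card F)) :
    Module.finrank ℂ (Wm F n) = (Fintype.card F ^ n - 1) / 2 ∧
      Module.finrank ℂ (Wp F n) = Module.finrank ℂ (Wm F n) + 1 := by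
  obtain ⟨m, hm⟩ := hodd.pow (n := n)
  have h1 := finrank_Wm (F := F) (n := n) h2
  have h3 := finrank_Wp (F := F) (n := n) h2
  have hc : ((Fintype.card F : ℂ)) ^ n = 2 * (m : ℂ) + 1 := by
    have : ((Fintype.card F ^ n : ℕ) : ℂ) = ((2 * m + 1 : ℕ) : ℂ) := by rw [hm]
    push_cast at this
    exact this
  rw [hc] at h1 h3
  have e1 : Module.finrank ℂ (Wm F n) = m := by
    have : (Module.finrank ℂ (Wm F n) : ℂ) = (m : ℂ) := by
      rw [h1]
      ring
    exact_mod_cast this
  have e2 : Module.finrank ℂ (Wp F n) = m + 1 := by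
    have : (Module.finrank ℂ (Wp F n) : ℂ) = ((m + 1 : ℕ) : ℂ) := by
      rw [h3]
      push_cast
      ring
    exact_mod_cast this
  refine ⟨?_, ?_⟩
  · rw [e1, hm]
    omega
  · rw [e1, e2]

/-- compression of an operator to the odd functions -/
noncomputable def resM (X : Module.End ℂ ((Fin n → F) → ℂ)) : Module.End ℂ (Wm F n) :=
  (LinearMap.codRestrict (Wm F n) projM (fun f => isProj_M.map_mem f)) ∘ₗ X ∘ₗ (Wm F n).subtype

/-- compression of an operator to the even functions -/
noncomputable def resP (X : Module.End ℂ ((Fin n → F) → ℂ)) : Module.End ℂ (Wp F n) :=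
  (LinearMap.codRestrict (Wp F n) projP (fun f => isProj_P.map_mem f)) ∘ₗ X ∘ₗ (Wp F n).subtype

omit [Fintype F] [DecidableEq F] in
theorem resM_apply_coe (X : Module.End ℂ ((Fin n → F) → ℂ)) (f : Wm F n) :
    ((resM X f : Wm F n) : (Fin n → F) → ℂ) = projM (X (f : (Fin n → F) → ℂ)) := rfl

omit [Fintype F] [DecidableEq F] in
theorem resP_apply_coe (X : Module.End ℂ ((Fin n → F) → ℂ)) (f : Wp F n) :
    ((resP X f : Wp F n) : (Fin n → F) → ℂ) = projP (X (f : (Fin n → F) → ℂ)) := rfl

omit [Fintype F] [DecidableEq F] in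
theorem resM_smul (c : ℂ) (X : Module.End ℂ ((Fin n → F) → ℂ)) : resM (c • X) = c • resM X := by
  refine LinearMap.ext fun f => Subtype.ext ?_
  rw [resM_apply_coe, LinearMap.smul_apply, LinearMap.smul_apply, map_smul]
  rfl

omit [Fintype F] [DecidableEq F] in
theorem resP_smul (c : ℂ) (X : Module.End ℂ ((Fin n → F) → ℂ)) : resP (c • X) = c • resP X := by
  refine LinearMap.ext fun f => Subtype.ext ?_
  rw [resP_apply_coe, LinearMap.smul_apply, LinearMap.smul_apply, map_smul]
  rfl

omit [Fintype F] [DecidableEq F] in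
theorem resM_one : resM (1 : Module.End ℂ ((Fin n → F) → ℂ)) = 1 :=
  LinearMap.ext fun f => Subtype.ext (by
    rw [resM_apply_coe]
    exact isProj_M.map_id _ f.2)

omit [Fintype F] [DecidableEq F] in
theorem resP_one : resP (1 : Module.End ℂ ((Fin n → F) → ℂ)) = 1 :=
  LinearMap.ext fun f => Subtype.ext (by
    rw [resP_apply_coe]
    exact isProj_P.map_id _ f.2)

omit [Fintype F] [DecidableEq F] in
theorem resM_mul (X Y : Module.End ℂ ((Fin n → F) → ℂ)) (hY : ∀ f ∈ Wm F n, Y f ∈ Wm F n) :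
    resM (X * Y) = resM X * resM Y := by
  refine LinearMap.ext fun f => Subtype.ext ?_
  rw [resM_apply_coe, Module.End.mul_apply, Module.End.mul_apply, resM_apply_coe, resM_apply_coe,
    isProj_M.map_id _ (hY f f.2)]

omit [Fintype F] [DecidableEq F] in
theorem resP_mul (X Y : Module.End ℂ ((Fin n → F) → ℂ)) (hY : ∀ f ∈ Wp F n, Y f ∈ Wp F n) :
    resP (X * Y) = resP X * resP Y := by
  refine LinearMap.ext fun f => Subtype.ext ?_
  rw [resP_apply_coe, Module.End.mul_apply, Module.End.mul_apply, resP_apply_coe, resP_apply_coe,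
    isProj_P.map_id _ (hY f f.2)]

/-- the normalising scalar: ratio of the determinants on even and odd functions -/
noncomputable def kap (X : Module.End ℂ ((Fin n → F) → ℂ)) : ℂ :=
  LinearMap.det (resP X) / LinearMap.det (resM X)

omit [Fintype F] [DecidableEq F] in
theorem kap_one : kap (1 : Module.End ℂ ((Fin n → F) → ℂ)) = 1 := by
  unfold kap
  rw [resP_one, resM_one, map_one, map_one, div_one]

omit [Fintype F] [DecidableEq F] in
theorem kap_mul (X Y : Module.End ℂ ((Fin n → F) → ℂ)) (hYm : ∀ f ∈ Wm F n, Y f ∈ Wm F n)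
    (hYp : ∀ f ∈ Wp F n, Y f ∈ Wp F n) : kap (X * Y) = kap X * kap Y := by
  unfold kap
  rw [resP_mul _ _ hYp, resM_mul _ _ hYm, map_mul, map_mul, mul_div_mul_comm]

theorem kap_smul (hdim : Module.finrank ℂ (Wp F n) = Module.finrank ℂ (Wm F n) + 1) (c : ℂ)
    (hc : c ≠ 0) (X : Module.End ℂ ((Fin n → F) → ℂ)) : kap (c • X) = c * kap X := by
  unfold kap
  rw [resP_smul, resM_smul, LinearMap.det_smul, LinearMap.det_smul, hdim, pow_succ, mul_assoc,
    mul_div_mul_left _ _ (pow_ne_zero _ hc), mul_div_assoc]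

omit [Fintype F] [DecidableEq F] in
theorem mem_Wm_of_comm {X : Module.End ℂ ((Fin n → F) → ℂ)} (hX : X * parOp = parOp * X) :
    ∀ f ∈ Wm F n, X f ∈ Wm F n := by
  intro f hf t
  have h1 : parOp (X f) = X (parOp f) := by
    have := LinearMap.congr_fun hX f
    rw [Module.End.mul_apply, Module.End.mul_apply] at this
    exact this.symm
  have h2 : parOp f = -f := funext fun s => hf s
  calc X f (-t) = parOp (X f) t := rfl
    _ = X (parOp f) t := by rw [h1]
    _ = -X f t := by
        rw [h2, map_neg]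
        rfl

omit [Fintype F] [DecidableEq F] in
theorem mem_Wp_of_comm {X : Module.End ℂ ((Fin n → F) → ℂ)} (hX : X * parOp = parOp * X) :
    ∀ f ∈ Wp F n, X f ∈ Wp F n := by
  intro f hf t
  have h1 : parOp (X f) = X (parOp f) := by
    have := LinearMap.congr_fun hX f
    rw [Module.End.mul_apply, Module.End.mul_apply] at this
    exact this.symm
  have h2 : parOp f = f := funext fun s => hf s
  calc X f (-t) = parOp (X f) t := rfl
    _ = X (parOp f) t := by rw [h1]
    _ = X f t := by rw [h2]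

variable {ψ : AddChar F ℂ} {γ : F}

theorem impl_comm_parOp (D : WeilData F ψ γ) {g : symplecticGroup (Fin n) F}
    {X : Module.End ℂ ((Fin n → F) → ℂ)} (hX : Impl ψ γ g X) (hXu : IsUnit X) :
    X * parOp = parOp * X := by
  have hP : Impl ψ γ (negSp : symplecticGroup (Fin n) F) parOp := impl_parOp ψ γ
  have h1 : Impl ψ γ (g * negSp) (X * parOp) := hX.mul hP
  have h2' : Impl ψ γ (negSp * g) (parOp * X) := hP.mul hX
  have hcomm : (negSp : symplecticGroup (Fin n) F) * g = g * negSp := by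
    apply Subtype.ext
    rw [Submonoid.coe_mul, Submonoid.coe_mul]
    show (-1 : Matrix (Fin n ⊕ Fin n) (Fin n ⊕ Fin n) F) * g.1 = g.1 * (-1)
    rw [neg_mul, mul_neg, one_mul, mul_one]
  rw [hcomm] at h2'
  have hu : IsUnit (parOp * X) := isUnit_parOp.mul hXu
  obtain ⟨ε, hε⟩ := impl_unique D.hψ h1 h2' hu
  obtain ⟨Xi, hx1, hx2⟩ := isUnit_iff_exists.1 hXu
  have ht : LinearMap.trace ℂ ((Fin n → F) → ℂ) parOp =
      ε * LinearMap.trace ℂ ((Fin n → F) → ℂ) parOp := by
    calc LinearMap.trace ℂ ((Fin n → F) → ℂ) parOp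
        = LinearMap.trace ℂ ((Fin n → F) → ℂ) (Xi * (X * parOp)) := by
          rw [← mul_assoc, hx2, one_mul]
      _ = LinearMap.trace ℂ ((Fin n → F) → ℂ) (Xi * (ε • (parOp * X))) := by rw [hε]
      _ = ε * LinearMap.trace ℂ ((Fin n → F) → ℂ) (Xi * (parOp * X)) := by
          rw [mul_smul_comm, map_smul, smul_eq_mul]
      _ = ε * LinearMap.trace ℂ ((Fin n → F) → ℂ) ((parOp * X) * Xi) := by
          rw [LinearMap.trace_mul_comm]
      _ = ε * LinearMap.trace ℂ ((Fin n → F) → ℂ) parOp := by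
          rw [mul_assoc, hx1, mul_one]
  rw [trace_parOp D.h2] at ht
  have hε1 : ε = 1 := by
    rw [mul_one] at ht
    exact ht.symm
  rw [hε, hε1, one_smul]

omit [Fintype F] [DecidableEq F] in
theorem kap_ne_zero_of_unit_comm {X : Module.End ℂ ((Fin n → F) → ℂ)} (hXu : IsUnit X)
    (hc : X * parOp = parOp * X) : kap X ≠ 0 := by
  obtain ⟨Xi, h1, h2⟩ := isUnit_iff_exists.1 hXu
  have hci : Xi * parOp = parOp * Xi := by
    calc Xi * parOp = Xi * parOp * (X * Xi) := by rw [h1, mul_one]
      _ = Xi * (parOp * X) * Xi := by simp only [mul_assoc]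
      _ = Xi * (X * parOp) * Xi := by rw [hc]
      _ = (Xi * X) * parOp * Xi := by simp only [mul_assoc]
      _ = parOp * Xi := by rw [h2, one_mul]
  have : kap X * kap Xi = 1 := by
    rw [← kap_mul X Xi (mem_Wm_of_comm hci) (mem_Wp_of_comm hci), h1, kap_one]
  exact left_ne_zero_of_mul_eq_one this

/-- the normalised implementers -/
def Good (ψ : AddChar F ℂ) (γ : F) (g : symplecticGroup (Fin n) F)
    (X : Module.End ℂ ((Fin n → F) → ℂ)) : Prop :=
  Impl ψ γ g X ∧ IsUnit X ∧ kap X = 1

theorem exists_good (D : WeilData F ψ γ) (g : symplecticGroup (Fin n) F) :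
    ∃ X : Module.End ℂ ((Fin n → F) → ℂ), Good ψ γ g X := by
  have hdim := (finrank_nat (F := F) (n := n) D.h2 D.hodd).2
  obtain ⟨T, hT⟩ := exists_impl ψ γ D.hγ D.hψ g
  have hTu : IsUnit T.toLinearMap := by
    rw [isUnit_iff_exists]
    refine ⟨T.symm.toLinearMap, ?_, ?_⟩
    · refine LinearMap.ext fun f => ?_
      simp [Module.End.mul_apply]
    · refine LinearMap.ext fun f => ?_
      simp [Module.End.mul_apply]
  have hc := impl_comm_parOp D hT hTu
  have hk := kap_ne_zero_of_unit_comm hTu hc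
  refine ⟨(kap T.toLinearMap)⁻¹ • T.toLinearMap, hT.smul _, ?_, ?_⟩
  · obtain ⟨Ti, h1, h2⟩ := isUnit_iff_exists.1 hTu
    rw [isUnit_iff_exists]
    refine ⟨kap T.toLinearMap • Ti, ?_, ?_⟩
    · rw [smul_mul_smul_comm, inv_mul_cancel₀ hk, h1, one_smul]
    · rw [smul_mul_smul_comm, mul_inv_cancel₀ hk, h2, one_smul]
  · rw [kap_smul hdim _ (inv_ne_zero hk), inv_mul_cancel₀ hk]

theorem good_unique (D : WeilData F ψ γ) {g : symplecticGroup (Fin n) F}
    {X Y : Module.End ℂ ((Fin n → F) → ℂ)} (hX : Good ψ γ g X) (hY : Good ψ γ g Y) : X = Y := by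
  have hdim := (finrank_nat (F := F) (n := n) D.h2 D.hodd).2
  obtain ⟨c, hc⟩ := impl_unique D.hψ hX.1 hY.1 hY.2.1
  have hc0 : c ≠ 0 := by
    rintro rfl
    rw [zero_smul] at hc
    have := hX.2.1
    rw [hc] at this
    exact not_isUnit_zero this
  have h1 := hX.2.2
  rw [hc, kap_smul hdim c hc0, hY.2.2, mul_one] at h1
  rw [hc, h1, one_smul]

theorem good_mul (D : WeilData F ψ γ) {g h : symplecticGroup (Fin n) F}
    {X Y : Module.End ℂ ((Fin n → F) → ℂ)} (hX : Good ψ γ g X) (hY : Good ψ γ h Y) :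
    Good ψ γ (g * h) (X * Y) := by
  refine ⟨hX.1.mul hY.1, hX.2.1.mul hY.2.1, ?_⟩
  have hc := impl_comm_parOp D hY.1 hY.2.1
  rw [kap_mul X Y (mem_Wm_of_comm hc) (mem_Wp_of_comm hc), hX.2.2, hY.2.2, mul_one]

omit [Fintype F] in
theorem good_one : Good ψ γ (1 : symplecticGroup (Fin n) F) 1 :=
  ⟨Impl.one, isUnit_one, kap_one⟩

/-- the Weil representation -/
noncomputable def weilRep (D : WeilData F ψ γ) :
    Representation ℂ (symplecticGroup (Fin n) F) ((Fin n → F) → ℂ) where
  toFun g := Classical.choose (exists_good D g)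
  map_one' := good_unique D (Classical.choose_spec (exists_good D 1)) good_one
  map_mul' g h := good_unique D (Classical.choose_spec (exists_good D (g * h)))
    (good_mul D (Classical.choose_spec (exists_good D g)) (Classical.choose_spec (exists_good D h)))

theorem weilRep_good (D : WeilData F ψ γ) (g : symplecticGroup (Fin n) F) :
    Good ψ γ g (weilRep D g) := Classical.choose_spec (exists_good D g)

theorem weilRep_comm_parOp (D : WeilData F ψ γ) (g : symplecticGroup (Fin n) F) :
    weilRep D g * parOp = parOp * weilRep D g :=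
  impl_comm_parOp D (weilRep_good D g).1 (weilRep_good D g).2.1

/-- every implementer of `g` is a scalar multiple of the Weil operator of `g` -/
theorem impl_eq_smul_weilRep (D : WeilData F ψ γ) {g : symplecticGroup (Fin n) F}
    {X : Module.End ℂ ((Fin n → F) → ℂ)} (hX : Impl ψ γ g X) : ∃ c : ℂ, X = c • weilRep D g :=
  impl_unique D.hψ hX (weilRep_good D g).1 (weilRep_good D g).2.1

end parity

end Cfsg.Agent.Lib.Helper6.Wl
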