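import Mathlib
import Cfsg.Agent.Lib.Helper6.RepBasic
import Cfsg.Agent.Lib.Helper6.WlC
import Cfsg.Agent.Lib.Helper6.WlE

set_option autoImplicit false

/-!
Irreducibility of the odd part of the Weil representation, and the theorem on the smallest
degree of a non-linear irreducible complex representation of `Sp_{2n}(q)`, `q` odd.
-/

namespace Cfsg.Agent.Lib.Helper6.Wl

open Matrix Cfsg

section general

theorem isIrreducible_sub {G : Type*} [Group G] {W : Type*} [AddCommGroup W] [Module ℂ W]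
    {ρ : Representation ℂ G W} (σ : Subrepresentation ρ) (hne : σ.toSubmodule ≠ ⊥)
    (h : ∀ U : Submodule ℂ W, U ≤ σ.toSubmodule → (∀ g, ∀ x ∈ U, ρ g x ∈ U) → U ≠ ⊥ →
      σ.toSubmodule ≤ U) : σ.toRepresentation.IsIrreducible := by
  have hnt : Nontrivial (Subrepresentation σ.toRepresentation) := by
    refine ⟨⟨⊥, ⊤, fun hbt => hne ?_⟩⟩
    have h1 : (⊥ : Submodule ℂ σ.toSubmodule) = ⊤ := congrArg Subrepresentation.toSubmodule hbt
    rw [eq_bot_iff]
    intro x hx
    have h2 : (⟨x, hx⟩ : σ.toSubmodule) ∈ (⊤ : Submodule ℂ σ.toSubmodule) := Submodule.mem_top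
    rw [← h1, Submodule.mem_bot] at h2
    exact (Submodule.mem_bot ℂ).2 (congrArg Subtype.val h2)
  haveI := hnt
  refine ⟨fun τ => ?_⟩
  by_cases hτ : τ.toSubmodule = ⊥
  · left
    exact Subrepresentation.toSubmodule_injective hτ
  · right
    apply Subrepresentation.toSubmodule_injective
    show τ.toSubmodule = ⊤
    set U : Submodule ℂ W := τ.toSubmodule.map σ.toSubmodule.subtype with hU
    have hU1 : U ≤ σ.toSubmodule := Submodule.map_subtype_le _ _
    have hU2 : ∀ g, ∀ x ∈ U, ρ g x ∈ U := by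
      intro g x hx
      obtain ⟨y, hy, rfl⟩ := Submodule.mem_map.1 hx
      exact Submodule.mem_map.2 ⟨σ.toRepresentation g y, τ.apply_mem_toSubmodule g hy, rfl⟩
    have hU3 : U ≠ ⊥ := by
      obtain ⟨y, hy, hy0⟩ := Submodule.exists_mem_ne_zero_of_ne_bot hτ
      rw [Submodule.ne_bot_iff]
      refine ⟨(y : W), Submodule.mem_map.2 ⟨y, hy, rfl⟩, ?_⟩
      intro h0
      exact hy0 (Subtype.ext h0)
    have hle := h U hU1 hU2 hU3
    rw [eq_top_iff]
    intro y _
    obtain ⟨y', hy', hyy⟩ := Submodule.mem_map.1 (hle y.2)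
    have : y' = y := Subtype.ext hyy
    rw [← this]
    exact hy'

end general

section ops
variable {F : Type*} [Field F] [Fintype F] [DecidableEq F] {n : ℕ}

omit [Fintype F] [DecidableEq F] in
theorem transpose_mulVec_dot (M : Matrix (Fin n) (Fin n) F) (b t : Fin n → F) :
    (Mᵀ *ᵥ b) ⬝ᵥ t = b ⬝ᵥ (M *ᵥ t) := by
  rw [dotProduct_comm, dotProduct_mulVec, vecMul_transpose, dotProduct_comm]

omit [Fintype F] [DecidableEq F] in
theorem va_lQ (S : symAdd F n) (v : Fin n ⊕ Fin n → F) :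
    va ((lQ S : Matrix (Fin n ⊕ Fin n) (Fin n ⊕ Fin n) F) *ᵥ v) = va v := by
  funext i
  show ((fromBlocks 1 0 (S : Matrix (Fin n) (Fin n) F) 1) *ᵥ v) (Sum.inl i) = v (Sum.inl i)
  rw [fromBlocks_mulVec]
  simp

omit [Fintype F] [DecidableEq F] in
theorem vb_lQ (S : symAdd F n) (v : Fin n ⊕ Fin n → F) :
    vb ((lQ S : Matrix (Fin n ⊕ Fin n) (Fin n ⊕ Fin n) F) *ᵥ v) =
      (S : Matrix (Fin n) (Fin n) F) *ᵥ va v + vb v := by
  funext i
  show ((fromBlocks 1 0 (S : Matrix (Fin n) (Fin n) F) 1) *ᵥ v) (Sum.inr i) =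
    ((S : Matrix (Fin n) (Fin n) F) *ᵥ va v + vb v) i
  rw [fromBlocks_mulVec]
  simp only [Sum.elim_inr, one_mulVec, Pi.add_apply]
  rfl

omit [Fintype F] [DecidableEq F] in
theorem va_lev (A : GL (Fin n) F) (v : Fin n ⊕ Fin n → F) :
    va ((lev A : Matrix (Fin n ⊕ Fin n) (Fin n ⊕ Fin n) F) *ᵥ v) =
      (A : Matrix (Fin n) (Fin n) F) *ᵥ va v := by
  funext i
  show ((fromBlocks (A : Matrix (Fin n) (Fin n) F) 0 0
    ((A⁻¹ : GL (Fin n) F) : Matrix (Fin n) (Fin n) F)ᵀ) *ᵥ v) (Sum.inl i) = _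
  rw [fromBlocks_mulVec]
  simp only [Sum.elim_inl, zero_mulVec, add_zero]
  rfl

omit [Fintype F] [DecidableEq F] in
theorem vb_lev (A : GL (Fin n) F) (v : Fin n ⊕ Fin n → F) :
    vb ((lev A : Matrix (Fin n ⊕ Fin n) (Fin n ⊕ Fin n) F) *ᵥ v) =
      ((A⁻¹ : GL (Fin n) F) : Matrix (Fin n) (Fin n) F)ᵀ *ᵥ vb v := by
  funext i
  show ((fromBlocks (A : Matrix (Fin n) (Fin n) F) 0 0
    ((A⁻¹ : GL (Fin n) F) : Matrix (Fin n) (Fin n) F)ᵀ) *ᵥ v) (Sum.inr i) = _
  rw [fromBlocks_mulVec]
  simp only [Sum.elim_inr, zero_mulVec, zero_add]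
  rfl

variable (ψ : AddChar F ℂ) (γ : F)

/-- multiplication by the quadratic character `t ↦ ψ(-γ tᵀ S t)` -/
def mulOp (S : symAdd F n) : Module.End ℂ ((Fin n → F) → ℂ) where
  toFun f := fun t => ψ (-(γ * qf (S : Matrix (Fin n) (Fin n) F) t)) * f t
  map_add' f f' := by
    funext t
    simp [mul_add]
  map_smul' c f := by
    funext t
    simp [mul_left_comm]

omit [Fintype F] [DecidableEq F] in
theorem mulOp_apply (S : symAdd F n) (f : (Fin n → F) → ℂ) (t : Fin n → F) :
    mulOp ψ γ S f t = ψ (-(γ * qf (S : Matrix (Fin n) (Fin n) F) t)) * f t := rfl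

omit [Fintype F] in
theorem impl_mulOp (hγ : γ + γ = 1) (S : symAdd F n) : Impl ψ γ (lQ S) (mulOp ψ γ S) := by
  intro v
  refine LinearMap.ext fun f => funext fun t => ?_
  rw [Module.End.mul_apply, Module.End.mul_apply, mulOp_apply, heis_apply, heis_apply,
    mulOp_apply, va_lQ, vb_lQ, ← mul_assoc, ← mul_assoc, ← AddChar.map_add_eq_mul,
    ← AddChar.map_add_eq_mul]
  congr 2
  have hq : qf (S : Matrix (Fin n) (Fin n) F) (t + va v) =
      qf (S : Matrix (Fin n) (Fin n) F) t + 2 * (va v ⬝ᵥ ((S : Matrix (Fin n) (Fin n) F) *ᵥ t)) +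
        qf (S : Matrix (Fin n) (Fin n) F) (va v) := by
    have := qf_add_smul (S : Matrix (Fin n) (Fin n) F) S.2 t (va v) 1
    simpa using this
  have h1 : ((S : Matrix (Fin n) (Fin n) F) *ᵥ va v) ⬝ᵥ t =
      va v ⬝ᵥ ((S : Matrix (Fin n) (Fin n) F) *ᵥ t) := by
    rw [dotProduct_comm, sym_dot (S : Matrix (Fin n) (Fin n) F) S.2]
  have h2 : va v ⬝ᵥ ((S : Matrix (Fin n) (Fin n) F) *ᵥ va v) =
      qf (S : Matrix (Fin n) (Fin n) F) (va v) := rfl
  rw [hq, add_dotProduct, dotProduct_add, h1, h2]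
  linear_combination (va v ⬝ᵥ ((S : Matrix (Fin n) (Fin n) F) *ᵥ t)) * hγ

/-- the substitution operator `f ↦ f(A⁻¹ ·)` -/
def pullOp (A : GL (Fin n) F) : Module.End ℂ ((Fin n → F) → ℂ) where
  toFun f := fun t => f (((A⁻¹ : GL (Fin n) F) : Matrix (Fin n) (Fin n) F) *ᵥ t)
  map_add' _ _ := rfl
  map_smul' _ _ := rfl

omit [Fintype F] [DecidableEq F] in
theorem pullOp_apply (A : GL (Fin n) F) (f : (Fin n → F) → ℂ) (t : Fin n → F) :
    pullOp A f t = f (((A⁻¹ : GL (Fin n) F) : Matrix (Fin n) (Fin n) F) *ᵥ t) := rfl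

omit [Fintype F] in
theorem impl_pullOp (A : GL (Fin n) F) : Impl ψ γ (lev A) (pullOp A) := by
  intro v
  refine LinearMap.ext fun f => funext fun t => ?_
  rw [Module.End.mul_apply, Module.End.mul_apply, pullOp_apply, heis_apply, heis_apply,
    pullOp_apply, va_lev, vb_lev, transpose_mulVec_dot, mulVec_add, gl_inv_mulVec]
  have h1 : ((A : Matrix (Fin n) (Fin n) F) *ᵥ va v) ⬝ᵥ
      (((A⁻¹ : GL (Fin n) F) : Matrix (Fin n) (Fin n) F)ᵀ *ᵥ vb v) = va v ⬝ᵥ vb v := by
    rw [dotProduct_comm, transpose_mulVec_dot, gl_inv_mulVec, dotProduct_comm]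
  rw [h1]

omit [Fintype F] in
theorem pullOp_single (A : GL (Fin n) F) (s : Fin n → F) :
    pullOp A (Pi.single s (1 : ℂ)) = Pi.single ((A : Matrix (Fin n) (Fin n) F) *ᵥ s) 1 := by
  funext t
  rw [pullOp_apply, Pi.single_apply, Pi.single_apply]
  have : ((A⁻¹ : GL (Fin n) F) : Matrix (Fin n) (Fin n) F) *ᵥ t = s ↔
      t = (A : Matrix (Fin n) (Fin n) F) *ᵥ s := by
    constructor
    · intro h
      rw [← h, gl_mulVec_inv]
    · intro h
      rw [h, gl_inv_mulVec]
  simp only [this]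

end ops

section irr
variable {F : Type*} [Field F] [Fintype F] [DecidableEq F] {n : ℕ}

/-- the odd function `δ_t - δ_{-t}` -/
def eOdd (t : Fin n → F) : (Fin n → F) → ℂ := Pi.single t 1 - Pi.single (-t) 1

omit [Fintype F] in
theorem pullOp_eOdd (A : GL (Fin n) F) (s : Fin n → F) :
    pullOp A (eOdd s) = eOdd ((A : Matrix (Fin n) (Fin n) F) *ᵥ s) := by
  unfold eOdd
  rw [map_sub, pullOp_single, pullOp_single, mulVec_neg]

omit [Fintype F] [DecidableEq F] in
theorem vecMulVec_self_eq (t t0 : Fin n → F) (h : vecMulVec t t = vecMulVec t0 t0) :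
    t = t0 ∨ t = -t0 := by
  by_cases h0 : t0 = 0
  · left
    subst h0
    funext i
    have := congrFun (congrFun h i) i
    simp only [vecMulVec_apply, Pi.zero_apply, mul_zero] at this
    exact mul_self_eq_zero.1 this
  · obtain ⟨i, hi⟩ : ∃ i, t0 i ≠ 0 := by
      by_contra hcon
      push Not at hcon
      exact h0 (funext hcon)
    have hii := congrFun (congrFun h i) i
    simp only [vecMulVec_apply] at hii
    rcases mul_self_eq_mul_self_iff.1 hii with h1 | h1
    · left
      funext j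
      have hji := congrFun (congrFun h j) i
      simp only [vecMulVec_apply] at hji
      rw [h1] at hji
      exact mul_right_cancel₀ hi hji
    · right
      funext j
      have hji := congrFun (congrFun h j) i
      simp only [vecMulVec_apply] at hji
      rw [h1] at hji
      have : t j * t0 i = (-t0 j) * t0 i := by linear_combination (-1 : F) * hji
      exact mul_right_cancel₀ hi this

omit [Fintype F] [DecidableEq F] in
theorem trace_mul_vecMulVec (S : Matrix (Fin n) (Fin n) F) (t : Fin n → F) :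
    Matrix.trace (S * vecMulVec t t) = qf S t := by
  rw [mul_vecMulVec, trace_vecMulVec, dotProduct_comm]
  rfl

variable {ψ : AddChar F ℂ} {γ : F}

theorem proj_sum (D : WeilData F ψ γ) (t0 t : Fin n → F) :
    ∑ S : symAdd F n, ψ (γ * qf (S : Matrix (Fin n) (Fin n) F) t0) *
      ψ (-(γ * qf (S : Matrix (Fin n) (Fin n) F) t)) =
      if vecMulVec t t = vecMulVec t0 t0 then (Fintype.card (symAdd F n) : ℂ) else 0 := by
  have hγ0 : γ ≠ 0 := by
    intro h
    have := D.hγ
    rw [h, add_zero] at this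
    exact zero_ne_one this
  have hterm : ∀ S : symAdd F n, ψ (γ * qf (S : Matrix (Fin n) (Fin n) F) t0) *
      ψ (-(γ * qf (S : Matrix (Fin n) (Fin n) F) t)) =
      ψ (Matrix.trace ((S : Matrix (Fin n) (Fin n) F) *
        (γ • (vecMulVec t0 t0 - vecMulVec t t)))) := by
    intro S
    rw [← AddChar.map_add_eq_mul, Matrix.mul_smul, Matrix.trace_smul, Matrix.mul_sub,
      Matrix.trace_sub, trace_mul_vecMulVec, trace_mul_vecMulVec, smul_eq_mul]
    congr 1
    ring
  rw [Finset.sum_congr rfl (fun S _ => hterm S)]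
  split_ifs with h
  · rw [h, sub_self, smul_zero]
    simp
  · apply sum_sym_psi_zero D.h2 ψ D.hψ
    · rw [transpose_smul, transpose_sub, transpose_vecMulVec, transpose_vecMulVec]
    · intro h0
      apply h
      have h1 : vecMulVec t0 t0 - vecMulVec t t = 0 := by
        rcases smul_eq_zero.1 h0 with h2 | h2
        · exact absurd h2 hγ0
        · exact h2
      exact (sub_eq_zero.1 h1).symm

theorem odd_irreducible_core (D : WeilData F ψ γ) (U : Submodule ℂ ((Fin n → F) → ℂ))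
    (hU1 : U ≤ Wm F n) (hU2 : ∀ g, ∀ x ∈ U, weilRep D g x ∈ U) (hU3 : U ≠ ⊥) :
    Wm F n ≤ U := by
  -- invariance under all implementers
  have hinv : ∀ (g : symplecticGroup (Fin n) F) (X : Module.End ℂ ((Fin n → F) → ℂ)),
      Impl ψ γ g X → ∀ x ∈ U, X x ∈ U := by
    intro g X hX x hx
    obtain ⟨c, hc⟩ := impl_eq_smul_weilRep D hX
    rw [hc, LinearMap.smul_apply]
    exact U.smul_mem c (hU2 g x hx)
  obtain ⟨f, hfU, hf0⟩ := Submodule.exists_mem_ne_zero_of_ne_bot hU3
  have hfodd : ∀ t, f (-t) = -f t := hU1 hfU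
  obtain ⟨t0, ht0⟩ : ∃ t0, f t0 ≠ 0 := by
    by_contra hcon
    push Not at hcon
    exact hf0 (funext hcon)
  have ht00 : t0 ≠ 0 := by
    rintro rfl
    have h1 := hfodd 0
    rw [neg_zero] at h1
    have h2 : (2 : ℂ) * f 0 = 0 := by linear_combination h1
    rcases mul_eq_zero.1 h2 with h3 | h3
    · exact two_ne_zero h3
    · exact ht0 h3
  have hneg : t0 ≠ -t0 := by
    intro h
    apply ht00
    funext i
    have hi : t0 i = -t0 i := congrFun h i
    have h3 : (2 : F) * t0 i = 0 := by linear_combination hi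
    rcases mul_eq_zero.1 h3 with h4 | h4
    · exact absurd h4 D.h2
    · exact h4
  -- the projected vector
  have hcard : (Fintype.card (symAdd F n) : ℂ) ≠ 0 := Nat.cast_ne_zero.2 Fintype.card_ne_zero
  have hPi : ((Fintype.card (symAdd F n) : ℂ))⁻¹ • ∑ S : symAdd F n,
      ψ (γ * qf (S : Matrix (Fin n) (Fin n) F) t0) • mulOp ψ γ S f ∈ U := by
    apply U.smul_mem
    apply U.sum_mem
    intro S _
    apply U.smul_mem
    exact hinv (lQ S) (mulOp ψ γ S) (impl_mulOp ψ γ D.hγ S) f hfU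
  have hPieq : ((Fintype.card (symAdd F n) : ℂ))⁻¹ • ∑ S : symAdd F n,
      ψ (γ * qf (S : Matrix (Fin n) (Fin n) F) t0) • mulOp ψ γ S f = f t0 • eOdd t0 := by
    funext t
    rw [Pi.smul_apply, Finset.sum_apply]
    have hterm : ∀ S : symAdd F n, (ψ (γ * qf (S : Matrix (Fin n) (Fin n) F) t0) •
        mulOp ψ γ S f) t = (ψ (γ * qf (S : Matrix (Fin n) (Fin n) F) t0) *
        ψ (-(γ * qf (S : Matrix (Fin n) (Fin n) F) t))) * f t := by
      intro S
      rw [Pi.smul_apply, mulOp_apply, smul_eq_mul, mul_assoc]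
    rw [Finset.sum_congr rfl (fun S _ => hterm S), ← Finset.sum_mul, proj_sum D t0 t,
      smul_eq_mul, Pi.smul_apply, smul_eq_mul]
    unfold eOdd
    rw [Pi.sub_apply, Pi.single_apply, Pi.single_apply]
    by_cases h1 : t = t0
    · subst h1
      rw [if_pos rfl, if_pos rfl, if_neg hneg]
      field_simp
      ring
    · by_cases h2 : t = -t0
      · subst h2
        have h3 : vecMulVec (-t0) (-t0) = vecMulVec t0 t0 := by
          ext i j
          simp [vecMulVec_apply]
        rw [if_pos h3, if_neg h1, if_pos rfl, hfodd]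
        field_simp
        ring
      · have h3 : ¬ (vecMulVec t t = vecMulVec t0 t0) := by
          intro h
          rcases vecMulVec_self_eq t t0 h with h4 | h4
          · exact h1 h4
          · exact h2 h4
        rw [if_neg h3, if_neg h1, if_neg h2]
        ring
  have he0 : eOdd t0 ∈ U := by
    have h1 : f t0 • eOdd t0 ∈ U := by
      rw [← hPieq]
      exact hPi
    have h2 := U.smul_mem (f t0)⁻¹ h1
    rwa [smul_smul, inv_mul_cancel₀ ht0, one_smul] at h2
  have heall : ∀ t : Fin n → F, eOdd t ∈ U := by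
    intro t
    by_cases ht : t = 0
    · subst ht
      have : eOdd (0 : Fin n → F) = 0 := by
        unfold eOdd
        rw [neg_zero, sub_self]
      rw [this]
      exact U.zero_mem
    · obtain ⟨A, hA⟩ := exists_gl_move t0 t ht00 ht
      rw [← hA, ← pullOp_eOdd]
      exact hinv (lev A) (pullOp A) (impl_pullOp ψ γ A) _ he0
  intro g hg
  have hgodd : ∀ t, g (-t) = -g t := hg
  have hgsum : g = ∑ t : Fin n → F, (g t / 2) • eOdd t := by
    funext s
    rw [Finset.sum_apply]
    have hterm : ∀ t : Fin n → F, ((g t / 2) • eOdd t) s =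
        (if s = t then g t / 2 else 0) - (if t = -s then g t / 2 else 0) := by
      intro t
      unfold eOdd
      rw [Pi.smul_apply, Pi.sub_apply, Pi.single_apply, Pi.single_apply, smul_eq_mul, mul_sub]
      have : (s = -t) ↔ (t = -s) := by
        constructor
        · intro h
          rw [h, neg_neg]
        · intro h
          rw [h, neg_neg]
      simp only [this, mul_ite, mul_one, mul_zero]
    rw [Finset.sum_congr rfl (fun t _ => hterm t), Finset.sum_sub_distrib,
      Finset.sum_ite_eq Finset.univ s (fun t => g t / 2), Finset.sum_ite_eq' Finset.univ (-s)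
        (fun t => g t / 2), if_pos (Finset.mem_univ _), if_pos (Finset.mem_univ _), hgodd]
    ring
  rw [hgsum]
  apply U.sum_mem
  intro t _
  exact U.smul_mem _ (heall t)

end irr

section final
variable {F : Type*} [Field F] [Fintype F] [DecidableEq F]

theorem two_ne_zero_of_odd (hodd : Odd (Fintype.card F)) : (2 : F) ≠ 0 := by
  intro h
  have h1 : ringChar F = 2 := CharP.ringChar_of_prime_eq_zero Nat.prime_two (by exact_mod_cast h)
  have h2 := FiniteField.even_card_of_char_two h1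
  rcases hodd with ⟨k, hk⟩
  omega

theorem exists_weil_irrep (n : ℕ) (hn : 0 < n) (hodd : Odd (Fintype.card F)) :
    ∃ ρ : Representation ℂ (symplecticGroup (Fin n) F) (Fin ((Fintype.card F ^ n - 1) / 2) → ℂ),
      ρ.IsIrreducible := by
  have h2 : (2 : F) ≠ 0 := two_ne_zero_of_odd hodd
  obtain ⟨ψ, hψ⟩ := exists_psi_ne_one F
  have hγ : (2 : F)⁻¹ + (2 : F)⁻¹ = 1 := by
    rw [← two_mul, mul_inv_cancel₀ h2]
  have D : WeilData F ψ (2 : F)⁻¹ := ⟨h2, hodd, hγ, hψ⟩
  have hfr := (finrank_nat (F := F) (n := n) h2 hodd).1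
  let σ : Subrepresentation (weilRep (n := n) D) :=
    ⟨Wm F n, fun g f hf => mem_Wm_of_comm (weilRep_comm_parOp D g) f hf⟩
  have hq3 : 3 ≤ Fintype.card F := by
    have h1 : 1 < Fintype.card F := Fintype.one_lt_card
    rcases hodd with ⟨k, hk⟩
    omega
  have hqn : 3 ≤ Fintype.card F ^ n := le_trans hq3 (Nat.le_self_pow (by omega) _)
  have hne : σ.toSubmodule ≠ ⊥ := by
    intro h
    have h1 : Module.finrank ℂ (Wm F n) = 0 := by
      rw [show Wm F n = ⊥ from h]
      exact finrank_bot ℂ _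
    rw [hfr] at h1
    omega
  haveI hirr : σ.toRepresentation.IsIrreducible :=
    isIrreducible_sub σ hne (fun U hU1 hU2 hU3 => odd_irreducible_core D U hU1 hU2 hU3)
  obtain ⟨ρ', ⟨e⟩⟩ := Cfsg.Agent.Lib.Helper6.exists_fin_rep σ.toRepresentation
  haveI : ρ'.IsIrreducible := Cfsg.Agent.Lib.Helper6.isIrreducible_of_equiv e
  have key : ∀ (k : ℕ), Module.finrank ℂ (Wm F n) = k →
      ∃ ρ : Representation ℂ (symplecticGroup (Fin n) F) (Fin k → ℂ), ρ.IsIrreducible := by
    intro k hk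
    subst hk
    exact ⟨ρ', inferInstance⟩
  exact key _ hfr

theorem sp_min_degree (n : ℕ) (hn : 2 ≤ n) (hodd : Odd (Fintype.card F)) :
    (∀ (k : ℕ) (ρ : Representation ℂ (Matrix.symplecticGroup (Fin n) F) (Fin k → ℂ)),
      ρ.IsIrreducible → 2 ≤ k → (Fintype.card F ^ n - 1) / 2 ≤ k) ∧
    (∃ ρ : Representation ℂ (Matrix.symplecticGroup (Fin n) F)
      (Fin ((Fintype.card F ^ n - 1) / 2) → ℂ), ρ.IsIrreducible) := by
  refine ⟨?_, exists_weil_irrep n (by omega) hodd⟩
  intro k ρ hirr hk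
  have h := degree_lower_bound ρ (by omega) (two_ne_zero_of_odd hodd) hirr
    (by rw [Module.finrank_fin_fun]; exact hk)
  rwa [Module.finrank_fin_fun] at h

end final

end Cfsg.Agent.Lib.Helper6.Wl
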