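import Mathlib
import Cfsg.Agent.Lib.Helper1.SPEDefs
import Cfsg.Agent.Lib.Helper6.WlC

set_option autoImplicit false
set_option linter.unusedSectionVars false
set_option linter.unusedVariables false

/-!
Farm SPW (statement S2524: the Weil characters of `Sp_{2n}(q)`, `q` odd, and the gap), Parts I
(orbit bound for symmetric forms of rank at least two, `q` odd) and II (the Weil side): definitions.
We reuse helper1's `Cfsg.Agent.Lib.Helper1.SPE.{polF, bq, qOrbit, Ani, Hyp}` and `Wl.qf`.
-/

namespace Cfsg.Agent.Lib.Helper6.SPW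

open Matrix Cfsg.Agent.Lib.Helper6.Wl Cfsg.Agent.Lib.Helper1.SPE

variable {F : Type*} [Field F]

/-- the discriminant `pol(x,y)² - 4 Q(x) Q(y)` of the pair `(x, y)` for `Q`
(`= -` the Gram determinant of the polar form on `⟨x, y⟩`) -/
def disc {n : ℕ} (Q : (Fin n → F) → F) (x y : Fin n → F) : F :=
  polF Q x y * polF Q x y - 4 * Q x * Q y

/-- the polar form of the binary quadratic form `bq a b c`, at `(s, t)`, `(s', t')` -/
def bp (a b c s t s' t' : F) : F := 2 * a * s * s' + b * (s * t' + t * s') + 2 * c * t * t'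

/-- the matrix `T` has rank at most one: `T = c x xᵀ` -/
def IsRk1 {n : ℕ} (T : Matrix (Fin n) (Fin n) F) : Prop :=
  ∃ (c : F) (x : Fin n → F), T = c • vecMulVec x x

end Cfsg.Agent.Lib.Helper6.SPW
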