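import Mathlib
import Cfsg.Agent.Lib.Helper6.SPWDefs
import Cfsg.Agent.Lib.Helper6.SPEF

set_option autoImplicit false
set_option linter.unusedSectionVars false
set_option linter.unusedVariables false

/-!
Farm SPW (statement S2524), unit OF: the lower count, characteristic free, for a reference pair
`(e₀, e₁)` with nonzero discriminant.
-/

namespace Cfsg.Agent.Lib.Helper6.SPW

open Matrix Cfsg.Agent.Lib.Helper6.Wl Cfsg.Agent.Lib.Helper1.SPE Cfsg.Agent.Lib.Helper6.SPE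

variable {F : Type*} [Field F] [Fintype F] [DecidableEq F]

theorem polF_qf_self' {n : ℕ} (T : Matrix (Fin n) (Fin n) F) (x : Fin n → F) :
    polF (qf T) x x = 2 * qf T x := by
  rw [polF_qf_eq]
  unfold qf
  ring

/-- the polar form of `Q ∘ s` at `(e₀, z)` and `(e₁, z)`, any characteristic -/
theorem polF_shear' {m : ℕ} (T : Matrix (Fin (m + 2)) (Fin (m + 2)) F)
    (u : (Fin m → F) × (Fin m → F)) (z : Fin (m + 2) → F) :
    polF (fun v => qf T (((shGL u : GL (Fin (m + 2)) F) :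
        Matrix (Fin (m + 2)) (Fin (m + 2)) F) *ᵥ v)) (Pi.single 0 1) z =
      polF (qf T) (Pi.single 0 1) z +
        (tl u.1 ⬝ᵥ z) * (2 * qf T (Pi.single 0 1)) +
        (tl u.2 ⬝ᵥ z) * polF (qf T) (Pi.single 0 1) (Pi.single 1 1) ∧
    polF (fun v => qf T (((shGL u : GL (Fin (m + 2)) F) :
        Matrix (Fin (m + 2)) (Fin (m + 2)) F) *ᵥ v)) (Pi.single 1 1) z =
      polF (qf T) (Pi.single 1 1) z +
        (tl u.1 ⬝ᵥ z) * polF (qf T) (Pi.single 0 1) (Pi.single 1 1) +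
        (tl u.2 ⬝ᵥ z) * (2 * qf T (Pi.single 1 1)) := by
  constructor
  · have h : polF (fun v => qf T (((shGL u : GL (Fin (m + 2)) F) :
        Matrix (Fin (m + 2)) (Fin (m + 2)) F) *ᵥ v)) (Pi.single 0 1) z =
        polF (qf T) (Pi.single 0 1) (((shGL u : GL (Fin (m + 2)) F) :
          Matrix (Fin (m + 2)) (Fin (m + 2)) F) *ᵥ z) := by
      unfold polF
      simp only [mulVec_add, shGL_e0]
    rw [h, shGL_mulVec, polF_qf_add_right, polF_qf_add_right, polF_qf_smul_right,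
      polF_qf_smul_right, polF_qf_self']
  · have h : polF (fun v => qf T (((shGL u : GL (Fin (m + 2)) F) :
        Matrix (Fin (m + 2)) (Fin (m + 2)) F) *ᵥ v)) (Pi.single 1 1) z =
        polF (qf T) (Pi.single 1 1) (((shGL u : GL (Fin (m + 2)) F) :
          Matrix (Fin (m + 2)) (Fin (m + 2)) F) *ᵥ z) := by
      unfold polF
      simp only [mulVec_add, shGL_e1]
    rw [h, shGL_mulVec, polF_qf_add_right, polF_qf_add_right, polF_qf_smul_right,
      polF_qf_smul_right, polF_qf_self',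
      polF_qf_comm T (Pi.single 1 1) (Pi.single 0 1)]

theorem card_orbit_pairs_ge_disc {m : ℕ}
    (T : Matrix (Fin (m + 2)) (Fin (m + 2)) F)
    (hd : disc (qf T) (Pi.single 0 1) (Pi.single 1 1) ≠ 0)
    (x y : Fin (m + 2) → F) (h : GL (Fin (m + 2)) F)
    (hx : (h : Matrix (Fin (m + 2)) (Fin (m + 2)) F) *ᵥ Pi.single 0 1 = x)
    (hy : (h : Matrix (Fin (m + 2)) (Fin (m + 2)) F) *ᵥ Pi.single 1 1 = y) :
    Fintype.card F ^ (2 * m) ≤ ((qOrbit T).filter (fun Q' =>
      Q' x = qf T (Pi.single 0 1) ∧ Q' y = qf T (Pi.single 1 1) ∧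
        polF Q' x y = polF (qf T) (Pi.single 0 1) (Pi.single 1 1))).card := by
  have hinvx : ((h⁻¹ : GL (Fin (m + 2)) F) : Matrix (Fin (m + 2)) (Fin (m + 2)) F) *ᵥ x =
      Pi.single 0 1 := by
    rw [← hx]; exact gl_inv_mulVec h _
  have hinvy : ((h⁻¹ : GL (Fin (m + 2)) F) : Matrix (Fin (m + 2)) (Fin (m + 2)) F) *ᵥ y =
      Pi.single 1 1 := by
    rw [← hy]; exact gl_inv_mulVec h _
  let Φ : (Fin m → F) × (Fin m → F) → ((Fin (m + 2) → F) → F) := fun u v =>
    qf T (((shGL u * h⁻¹ : GL (Fin (m + 2)) F) : Matrix (Fin (m + 2)) (Fin (m + 2)) F) *ᵥ v)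
  have hΦ : ∀ u v, Φ u v = qf T (((shGL u : GL (Fin (m + 2)) F) :
      Matrix (Fin (m + 2)) (Fin (m + 2)) F) *ᵥ
      (((h⁻¹ : GL (Fin (m + 2)) F) : Matrix (Fin (m + 2)) (Fin (m + 2)) F) *ᵥ v)) := by
    intro u v
    show qf T (((shGL u * h⁻¹ : GL (Fin (m + 2)) F) :
      Matrix (Fin (m + 2)) (Fin (m + 2)) F) *ᵥ v) = _
    rw [Units.val_mul, ← mulVec_mulVec]
  have hΦh : ∀ u z, Φ u ((h : Matrix (Fin (m + 2)) (Fin (m + 2)) F) *ᵥ z) =
      qf T (((shGL u : GL (Fin (m + 2)) F) : Matrix (Fin (m + 2)) (Fin (m + 2)) F) *ᵥ z) := by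
    intro u z
    rw [hΦ, gl_inv_mulVec]
  -- the Gram determinant
  set a := qf T (Pi.single 0 1) with ha
  set c := qf T (Pi.single 1 1) with hc
  set b := polF (qf T) (Pi.single 0 1) (Pi.single 1 1) with hb
  have hdet : (2 * a) * (2 * c) - b * b ≠ 0 := by
    intro h0
    apply hd
    unfold disc
    rw [← ha, ← hc, ← hb]
    linear_combination -h0
  calc Fintype.card F ^ (2 * m)
      = (Finset.univ : Finset ((Fin m → F) × (Fin m → F))).card := by
        rw [Finset.card_univ, Fintype.card_prod, Fintype.card_fun, Fintype.card_fin, two_mul,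
          pow_add]
    _ ≤ _ := Finset.card_le_card_of_injOn Φ ?_ ?_
  · intro u _
    simp only [Finset.coe_filter, Set.mem_ofPred_eq]
    refine ⟨Finset.mem_image.2 ⟨shGL u * h⁻¹, Finset.mem_univ _, rfl⟩, ?_, ?_, ?_⟩
    · rw [hΦ, hinvx, shGL_e0]
    · rw [hΦ, hinvy, shGL_e1]
    · unfold polF
      rw [hΦ, hΦ, hΦ, mulVec_add, mulVec_add, hinvx, hinvy, shGL_e0, shGL_e1]
      rfl
  · intro u _ u' _ huu
    have huu' : Φ u = Φ u' := huu
    have key : ∀ z, qf T (((shGL u : GL (Fin (m + 2)) F) :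
        Matrix (Fin (m + 2)) (Fin (m + 2)) F) *ᵥ z) =
        qf T (((shGL u' : GL (Fin (m + 2)) F) : Matrix (Fin (m + 2)) (Fin (m + 2)) F) *ᵥ z) := by
      intro z
      rw [← hΦh u z, ← hΦh u' z, huu']
    have keyf : (fun v => qf T (((shGL u : GL (Fin (m + 2)) F) :
        Matrix (Fin (m + 2)) (Fin (m + 2)) F) *ᵥ v)) =
        (fun v => qf T (((shGL u' : GL (Fin (m + 2)) F) :
          Matrix (Fin (m + 2)) (Fin (m + 2)) F) *ᵥ v)) := funext key
    have eqs : ∀ z : Fin (m + 2) → F,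
        (tl u.1 ⬝ᵥ z) * (2 * a) + (tl u.2 ⬝ᵥ z) * b =
          (tl u'.1 ⬝ᵥ z) * (2 * a) + (tl u'.2 ⬝ᵥ z) * b ∧
        (tl u.1 ⬝ᵥ z) * b + (tl u.2 ⬝ᵥ z) * (2 * c) =
          (tl u'.1 ⬝ᵥ z) * b + (tl u'.2 ⬝ᵥ z) * (2 * c) := by
      intro z
      have h1 := (polF_shear' T u z).1
      have h1' := (polF_shear' T u' z).1
      have h2 := (polF_shear' T u z).2
      have h2' := (polF_shear' T u' z).2
      rw [keyf] at h1 h2
      have e1 := h1.symm.trans h1'
      have e2 := h2.symm.trans h2'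
      constructor
      · linear_combination e1
      · linear_combination e2
    have e1 : tl u.1 = tl u'.1 := by
      apply dot_ext
      intro z
      obtain ⟨q1, q2⟩ := eqs z
      have : (tl u.1 ⬝ᵥ z - tl u'.1 ⬝ᵥ z) * ((2 * a) * (2 * c) - b * b) = 0 := by
        linear_combination (2 * c) * q1 - b * q2
      rcases mul_eq_zero.1 this with h0 | h0
      · exact sub_eq_zero.1 h0
      · exact absurd h0 hdet
    have e2 : tl u.2 = tl u'.2 := by
      apply dot_ext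
      intro z
      obtain ⟨q1, q2⟩ := eqs z
      have : (tl u.2 ⬝ᵥ z - tl u'.2 ⬝ᵥ z) * ((2 * a) * (2 * c) - b * b) = 0 := by
        linear_combination (2 * a) * q2 - b * q1
      rcases mul_eq_zero.1 this with h0 | h0
      · exact sub_eq_zero.1 h0
      · exact absurd h0 hdet
    exact Prod.ext (tl_injective _ _ e1) (tl_injective _ _ e2)

end Cfsg.Agent.Lib.Helper6.SPW
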