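import Mathlib
import Cfsg.Agent.Lib.Helper6.SPWDefs
import Cfsg.Agent.Lib.Helper6.SPWF
import Cfsg.Agent.Lib.Helper4.SPED

set_option autoImplicit false
set_option linter.unusedSectionVars false
set_option linter.unusedVariables false

/-!
Farm SPW (statement S2524), unit OG: the orbit bound for symmetric forms of rank at least two,
`q` odd, with the units OC (choice of the plane) and OE (upper count) as hypotheses.
-/

namespace Cfsg.Agent.Lib.Helper6.SPW

open Matrix Cfsg.Agent.Lib.Helper6.Wl Cfsg.Agent.Lib.Helper1.SPE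
open Cfsg.Agent.Lib.Helper4.SPE (exists_gl_pair card_indep_pairs)

variable {F : Type*} [Field F] [Fintype F] [DecidableEq F]

theorem polF_conj' {n : ℕ} (T : Matrix (Fin n) (Fin n) F) (g : Matrix (Fin n) (Fin n) F)
    (x y : Fin n → F) :
    polF (qf (gᵀ * T * g)) x y = polF (qf T) (g *ᵥ x) (g *ᵥ y) := by
  unfold polF
  rw [qf_conj, qf_conj, qf_conj, mulVec_add]

/-- the statement of unit OE for matrices of size `m + 2` -/
def PairsLe (F : Type*) [Field F] [Fintype F] [DecidableEq F] : Prop :=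
  ∀ {m : ℕ} (T : Matrix (Fin (m + 2)) (Fin (m + 2)) F),
    disc (qf T) (Pi.single 0 1) (Pi.single 1 1) ≠ 0 →
    (Ani (qf T) (Pi.single 0 1) (Pi.single 1 1) ∨
      Hyp (qf T) (Pi.single 0 1) (Pi.single 1 1)) →
    (Finset.univ.filter (fun p : (Fin (m + 2) → F) × (Fin (m + 2) → F) =>
      qf T p.1 = qf T (Pi.single 0 1) ∧ qf T p.2 = qf T (Pi.single 1 1) ∧
        polF (qf T) p.1 p.2 = polF (qf T) (Pi.single 0 1) (Pi.single 1 1))).card
      ≤ 2 * (Fintype.card F + 1) * Fintype.card F ^ (2 * m)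

theorem orbit_bound_aux_odd (hE : PairsLe F) {m : ℕ}
    (T : Matrix (Fin (m + 2)) (Fin (m + 2)) F)
    (hd : disc (qf T) (Pi.single 0 1) (Pi.single 1 1) ≠ 0)
    (hcase : Ani (qf T) (Pi.single 0 1) (Pi.single 1 1) ∨
      Hyp (qf T) (Pi.single 0 1) (Pi.single 1 1)) :
    (Fintype.card F ^ (m + 2) - 1) * (Fintype.card F ^ (m + 2) - Fintype.card F) ≤
      2 * (Fintype.card F + 1) * (qOrbit T).card := by
  classical
  set a := qf T (Pi.single 0 1) with ha
  set c := qf T (Pi.single 1 1) with hc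
  set b := polF (qf T) (Pi.single 0 1) (Pi.single 1 1) with hbdef
  set t : Finset ((Fin (m + 2) → F) × (Fin (m + 2) → F)) :=
    Finset.univ.filter (fun p => ∀ s t : F, s • p.1 + t • p.2 = 0 → s = 0 ∧ t = 0) with ht
  let R : ((Fin (m + 2) → F) → F) → ((Fin (m + 2) → F) × (Fin (m + 2) → F)) → Prop :=
    fun Q' p => Q' p.1 = a ∧ Q' p.2 = c ∧ polF Q' p.1 p.2 = b
  have hqpos : 0 < Fintype.card F ^ (2 * m) := pow_pos Fintype.card_pos _
  have hswap := Finset.sum_card_bipartiteAbove_eq_sum_card_bipartiteBelow R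
    (s := qOrbit T) (t := t)
  have hup : ∑ Q' ∈ qOrbit T, (Finset.bipartiteAbove R t Q').card ≤
      (qOrbit T).card * (2 * (Fintype.card F + 1) * Fintype.card F ^ (2 * m)) := by
    rw [← smul_eq_mul]
    apply Finset.sum_le_card_nsmul
    intro Q' hQ'
    obtain ⟨g, -, rfl⟩ := Finset.mem_image.1 hQ'
    refine le_trans (Finset.card_le_card_of_injOn
      (fun p => ((g : Matrix (Fin (m + 2)) (Fin (m + 2)) F) *ᵥ p.1,
        (g : Matrix (Fin (m + 2)) (Fin (m + 2)) F) *ᵥ p.2)) ?_ ?_)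
      (hE T hd hcase)
    · intro p hp
      have hp' := Finset.mem_coe.mp hp
      rw [Finset.mem_bipartiteAbove] at hp'
      obtain ⟨-, h1, h2', h3⟩ := hp'
      simp only [Finset.coe_filter, Finset.mem_univ, true_and, Set.mem_ofPred_eq]
      refine ⟨h1, h2', ?_⟩
      have : polF (fun x => qf T ((g : Matrix (Fin (m + 2)) (Fin (m + 2)) F) *ᵥ x)) p.1 p.2 =
          polF (qf T) ((g : Matrix (Fin (m + 2)) (Fin (m + 2)) F) *ᵥ p.1)
            ((g : Matrix (Fin (m + 2)) (Fin (m + 2)) F) *ᵥ p.2) := by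
        simp only [polF, mulVec_add]
      rw [← this]
      exact h3
    · intro p _ p' _ hpp
      have h1 : (g : Matrix (Fin (m + 2)) (Fin (m + 2)) F) *ᵥ p.1 =
          (g : Matrix (Fin (m + 2)) (Fin (m + 2)) F) *ᵥ p'.1 := congrArg Prod.fst hpp
      have h2' : (g : Matrix (Fin (m + 2)) (Fin (m + 2)) F) *ᵥ p.2 =
          (g : Matrix (Fin (m + 2)) (Fin (m + 2)) F) *ᵥ p'.2 := congrArg Prod.snd hpp
      have e1 := congrArg (fun v => ((g⁻¹ : GL (Fin (m + 2)) F) :
        Matrix (Fin (m + 2)) (Fin (m + 2)) F) *ᵥ v) h1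
      have e2 := congrArg (fun v => ((g⁻¹ : GL (Fin (m + 2)) F) :
        Matrix (Fin (m + 2)) (Fin (m + 2)) F) *ᵥ v) h2'
      simp only [gl_inv_mulVec] at e1 e2
      exact Prod.ext e1 e2
  have hlow : t.card * Fintype.card F ^ (2 * m) ≤
      ∑ p ∈ t, (Finset.bipartiteBelow R (qOrbit T) p).card := by
    rw [← smul_eq_mul]
    apply Finset.card_nsmul_le_sum
    intro p hp
    have hind := (Finset.mem_filter.1 hp).2
    obtain ⟨h, hx, hy⟩ := exists_gl_pair p.1 p.2 hind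
    exact card_orbit_pairs_ge_disc T hd p.1 p.2 h hx hy
  have hfin : t.card * Fintype.card F ^ (2 * m) ≤
      (2 * (Fintype.card F + 1) * (qOrbit T).card) * Fintype.card F ^ (2 * m) := by
    calc _ ≤ _ := hlow
      _ = _ := hswap.symm
      _ ≤ _ := hup
      _ = _ := by ring
  have := Nat.le_of_mul_le_mul_right hfin hqpos
  rw [ht, card_indep_pairs] at this
  exact this

/-- the orbit bound with units OC (`hC`: choice of the plane, `hI`: independence) and OE (`hE`)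
as hypotheses -/
theorem orbit_bound_odd_of (hE : PairsLe F) {n : ℕ} (hn : 2 ≤ n)
    (T : Matrix (Fin n) (Fin n) F)
    (hC : ∃ x₀ y₀ : Fin n → F, disc (qf T) x₀ y₀ ≠ 0 ∧
      (Ani (qf T) x₀ y₀ ∨ Hyp (qf T) x₀ y₀))
    (hI : ∀ x y : Fin n → F, disc (qf T) x y ≠ 0 →
      ∀ s t : F, s • x + t • y = 0 → s = 0 ∧ t = 0) :
    (Fintype.card F ^ n - 1) * (Fintype.card F ^ n - Fintype.card F) ≤
      2 * (Fintype.card F + 1) * (qOrbit T).card := by
  obtain ⟨x₀, y₀, hdisc, hcase⟩ := hC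
  have hind := hI x₀ y₀ hdisc
  obtain ⟨m, rfl⟩ : ∃ m, n = m + 2 := ⟨n - 2, by omega⟩
  obtain ⟨g, hg0, hg1⟩ := exists_gl_pair x₀ y₀ hind
  set G : Matrix (Fin (m + 2)) (Fin (m + 2)) F := (g : Matrix (Fin (m + 2)) (Fin (m + 2)) F)
    with hG
  set T' : Matrix (Fin (m + 2)) (Fin (m + 2)) F := Gᵀ * T * G with hT'
  have hqf : ∀ x, qf T' x = qf T (G *ᵥ x) := fun x => qf_conj G T x
  have hpolT : ∀ x y, polF (qf T') x y = polF (qf T) (G *ᵥ x) (G *ᵥ y) :=
    fun x y => polF_conj' T G x y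
  have hd : disc (qf T') (Pi.single 0 1) (Pi.single 1 1) ≠ 0 := by
    unfold disc
    rw [hpolT, hqf, hqf, hg0, hg1]
    exact hdisc
  have hcase' : Ani (qf T') (Pi.single 0 1) (Pi.single 1 1) ∨
      Hyp (qf T') (Pi.single 0 1) (Pi.single 1 1) := by
    rcases hcase with h | ⟨h1, h2', h3⟩
    · left
      intro s t hst
      apply h s t
      rw [hqf, mulVec_add, mulVec_smul, mulVec_smul, hg0, hg1] at hst
      exact hst
    · right
      refine ⟨by rw [hqf, hg0]; exact h1, by rw [hqf, hg1]; exact h2', ?_⟩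
      intro z hz0 hz1
      rw [hpolT, hg0] at hz0
      rw [hpolT, hg1] at hz1
      rw [hqf]
      exact h3 _ hz0 hz1
  have hsub : qOrbit T' ⊆ qOrbit T := by
    intro Q' hQ'
    obtain ⟨b, -, rfl⟩ := Finset.mem_image.1 hQ'
    refine Finset.mem_image.2 ⟨g * b, Finset.mem_univ _, ?_⟩
    funext x
    show qf T (((g * b : GL (Fin (m + 2)) F) : Matrix (Fin (m + 2)) (Fin (m + 2)) F) *ᵥ x) =
      qf T' ((b : Matrix (Fin (m + 2)) (Fin (m + 2)) F) *ᵥ x)
    rw [hqf, Units.val_mul, mulVec_mulVec]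
  calc _ ≤ 2 * (Fintype.card F + 1) * (qOrbit T').card := orbit_bound_aux_odd hE T' hd hcase'
    _ ≤ _ := Nat.mul_le_mul_left _ (Finset.card_le_card hsub)

end Cfsg.Agent.Lib.Helper6.SPW
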