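import Mathlib
import Cfsg.Agent.Lib.Helper6.SPWDefs
import Cfsg.Agent.Lib.Helper6.SPWG

set_option autoImplicit false
set_option linter.unusedSectionVars false
set_option linter.unusedVariables false

/-!
Farm SPW (statement S2524), unit OR: a `Q`-character `T` occurring in a representation of
`Sp_{2n}(q)`, `q` odd, forces `dim V ≥ |GL_n-orbit of T|`; with the orbit bound: the gap.
-/

namespace Cfsg.Agent.Lib.Helper6.SPW

open Matrix Cfsg Cfsg.Agent.Lib.Helper6.Wl Cfsg.Agent.Lib.Helper1.SPE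

section rep
variable {F : Type*} [Field F] [Fintype F] [DecidableEq F] {n : ℕ}
variable {V : Type*} [AddCommGroup V] [Module ℂ V] [FiniteDimensional ℂ V]
variable (ρ : Representation ℂ (symplecticGroup (Fin n) F) V) (ψ : AddChar F ℂ)

theorem card_qOrbit_le_congOrbit (T : Matrix (Fin n) (Fin n) F) :
    (qOrbit T).card ≤ (congOrbit T).card := by
  classical
  have h : qOrbit T = (congOrbit T).image (fun X => qf X) := by
    unfold qOrbit congOrbit
    rw [Finset.image_image]
    apply Finset.image_congr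
    intro g _
    funext x
    show qf T ((g : Matrix (Fin n) (Fin n) F) *ᵥ x) =
      qf ((g : Matrix (Fin n) (Fin n) F)ᵀ * T * (g : Matrix (Fin n) (Fin n) F)) x
    rw [qf_conj]
  rw [h]
  exact Finset.card_image_le

/-- the rank of the projector `eT` as a natural number -/
theorem finrank_range_eT (T : symAdd F n) :
    ((Module.finrank ℂ (LinearMap.range (eT ρ ψ T)) : ℕ) : ℂ) =
      LinearMap.trace ℂ V (eT ρ ψ T) :=
  ((LinearMap.IsIdempotentElem.isProj_range _ (eT_idem ρ ψ T)).trace).symm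

theorem sum_finrank_eT (h2 : (2 : F) ≠ 0) (hψ : ψ ≠ 1) :
    ∑ T : symAdd F n, Module.finrank ℂ (LinearMap.range (eT ρ ψ T)) = Module.finrank ℂ V := by
  have : ((∑ T : symAdd F n, Module.finrank ℂ (LinearMap.range (eT ρ ψ T)) : ℕ) : ℂ) =
      (Module.finrank ℂ V : ℂ) := by
    rw [Nat.cast_sum, Finset.sum_congr rfl (fun T _ => finrank_range_eT ρ ψ T), ← map_sum,
      sum_eT ρ ψ h2 hψ, LinearMap.trace_one]
  exact_mod_cast this

theorem finrank_ge_congOrbit (h2 : (2 : F) ≠ 0) (hψ : ψ ≠ 1) (T0 : symAdd F n)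
    (heT0 : eT ρ ψ T0 ≠ 0) :
    (congOrbit (T0 : Matrix (Fin n) (Fin n) F)).card ≤ Module.finrank ℂ V := by
  classical
  have h0 : 1 ≤ Module.finrank ℂ (LinearMap.range (eT ρ ψ T0)) := by
    rw [Nat.one_le_iff_ne_zero]
    intro hz
    apply heT0
    apply (LinearMap.IsIdempotentElem.trace_eq_zero_iff (eT_idem ρ ψ T0)).1
    rw [← finrank_range_eT, hz, Nat.cast_zero]
  set O : Finset (symAdd F n) := Finset.univ.image (fun B : GL (Fin n) F => congSym B T0)
    with hO
  have horb : ∀ T ∈ O, Module.finrank ℂ (LinearMap.range (eT ρ ψ T)) =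
      Module.finrank ℂ (LinearMap.range (eT ρ ψ T0)) := by
    intro T hT
    obtain ⟨B, -, rfl⟩ := Finset.mem_image.1 hT
    have : ((Module.finrank ℂ (LinearMap.range (eT ρ ψ (congSym B T0))) : ℕ) : ℂ) =
        (Module.finrank ℂ (LinearMap.range (eT ρ ψ T0)) : ℕ) := by
      rw [finrank_range_eT, finrank_range_eT, trace_eT_cong]
    exact_mod_cast this
  have hcard : O.card = (congOrbit (T0 : Matrix (Fin n) (Fin n) F)).card := by
    rw [← Finset.card_image_of_injective O Subtype.val_injective, hO, Finset.image_image]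
    rfl
  calc (congOrbit (T0 : Matrix (Fin n) (Fin n) F)).card = O.card := hcard.symm
    _ ≤ ∑ T ∈ O, Module.finrank ℂ (LinearMap.range (eT ρ ψ T)) := by
        rw [Finset.sum_congr rfl horb, Finset.sum_const, smul_eq_mul]
        exact Nat.le_mul_of_pos_right _ h0
    _ ≤ ∑ T : symAdd F n, Module.finrank ℂ (LinearMap.range (eT ρ ψ T)) :=
        Finset.sum_le_sum_of_subset (Finset.subset_univ _)
    _ = Module.finrank ℂ V := sum_finrank_eT ρ ψ h2 hψ

/-- the gap, with the orbit bound as a hypothesis -/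
theorem gap_bound_of (h2 : (2 : F) ≠ 0) (hψ : ψ ≠ 1) (T : symAdd F n)
    (hT : eT ρ ψ T ≠ 0)
    (hO : (Fintype.card F ^ n - 1) * (Fintype.card F ^ n - Fintype.card F) ≤
      2 * (Fintype.card F + 1) * (qOrbit (T : Matrix (Fin n) (Fin n) F)).card) :
    (Fintype.card F ^ n - 1) * (Fintype.card F ^ n - Fintype.card F) ≤
      2 * (Fintype.card F + 1) * Module.finrank ℂ V := by
  refine le_trans hO (Nat.mul_le_mul_left _ ?_)
  exact le_trans (card_qOrbit_le_congOrbit _) (finrank_ge_congOrbit ρ ψ h2 hψ T hT)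

end rep

end Cfsg.Agent.Lib.Helper6.SPW
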