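import Mathlib
import Cfsg.Agent.Lib.Helper6.WlF

set_option autoImplicit false
set_option linter.unusedSectionVars false
set_option linter.unusedVariables false

/-!
Irreducibility of the even part `Wp` of the Weil representation of `Sp_{2n}(q)`, `q` odd
(any `n`), by the Heisenberg trick: a `G`-invariant subspace which is invariant under one
non-trivial Heisenberg operator is invariant under all of them, hence is `⊥` or `⊤`.
-/

namespace Cfsg.Agent.Lib.Helper6.Wl

open Matrix Cfsg

section even
variable {F : Type*} [Field F] [Fintype F] [DecidableEq F] {n : ℕ}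
variable {ψ : AddChar F ℂ} {γ : F}

/-- the even basis vector `δ_t + δ_{-t}` -/
def eEven (t : Fin n → F) : (Fin n → F) → ℂ := Pi.single t 1 + Pi.single (-t) 1

theorem pullOp_eEven (A : GL (Fin n) F) (s : Fin n → F) :
    pullOp A (eEven s) = eEven ((A : Matrix (Fin n) (Fin n) F) *ᵥ s) := by
  unfold eEven
  rw [map_add, pullOp_single, pullOp_single, mulVec_neg]

/-- a `G`-invariant subspace invariant under one nonzero Heisenberg operator is invariant under
all of them -/
theorem heis_inv_all (D : WeilData F ψ γ) (K : Submodule ℂ ((Fin n → F) → ℂ))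
    (hK : ∀ g, ∀ x ∈ K, weilRep D g x ∈ K) (v0 : Fin n ⊕ Fin n → F) (hv0 : v0 ≠ 0)
    (h0 : ∀ x ∈ K, heis ψ γ v0 x ∈ K) (v : Fin n ⊕ Fin n → F) :
    ∀ x ∈ K, heis ψ γ v x ∈ K := by
  intro x hx
  by_cases hv : v = 0
  · subst hv
    rw [heis_zero]
    exact hx
  · obtain ⟨g, hg⟩ := Cfsg.Agent.Lib.Helper5.SympPerfect.exists_move n v0 v hv0 hv
    have himpl := (weilRep_good D g).1 v0
    rw [hg] at himpl
    -- x = X y with y = X⁻¹ x
    set y := weilRep D g⁻¹ x with hy
    have hyK : y ∈ K := hK g⁻¹ x hx
    have hxy : weilRep D g y = x := by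
      rw [hy, ← Module.End.mul_apply, ← MonoidHom.map_mul, mul_inv_cancel, MonoidHom.map_one]
      rfl
    have h1 : heis ψ γ v x = weilRep D g (heis ψ γ v0 y) := by
      calc heis ψ γ v x = heis ψ γ v (weilRep D g y) := by rw [hxy]
        _ = (heis ψ γ v * weilRep D g) y := rfl
        _ = (weilRep D g * heis ψ γ v0) y := by rw [himpl]
        _ = weilRep D g (heis ψ γ v0 y) := rfl
    rw [h1]
    exact hK g _ (h0 y hyK)

/-- a subspace invariant under all Heisenberg operators is `⊥` or `⊤` -/
theorem eq_bot_or_top_of_heis (hψ : ψ ≠ 1) (K : Submodule ℂ ((Fin n → F) → ℂ))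
    (h : ∀ v, ∀ x ∈ K, heis ψ γ v x ∈ K) : K = ⊥ ∨ K = ⊤ := by
  have hall : ∀ A : Module.End ℂ ((Fin n → F) → ℂ), ∀ x ∈ K, A x ∈ K := by
    intro A
    have hA : A ∈ Submodule.span ℂ (Set.range (heisBasis ψ γ hψ)) := by
      rw [(heisBasis ψ γ hψ).span_eq]
      exact Submodule.mem_top
    refine Submodule.span_induction (p := fun A _ => ∀ x ∈ K, A x ∈ K) ?_ ?_ ?_ ?_ hA
    · rintro _ ⟨v, rfl⟩ x hx
      rw [heisBasis_apply]
      exact h v x hx
    · intro x _
      rw [LinearMap.zero_apply]
      exact K.zero_mem
    · intro A B _ _ hA hB x hx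
      rw [LinearMap.add_apply]
      exact K.add_mem (hA x hx) (hB x hx)
    · intro c A _ hA x hx
      rw [LinearMap.smul_apply]
      exact K.smul_mem c (hA x hx)
  by_cases hK : K = ⊥
  · left
    exact hK
  · right
    obtain ⟨x, hxK, hx0⟩ := Submodule.exists_mem_ne_zero_of_ne_bot hK
    obtain ⟨t, ht⟩ : ∃ t, x t ≠ 0 := by
      by_contra hcon
      push Not at hcon
      exact hx0 (funext hcon)
    rw [eq_top_iff]
    intro y _
    set A : Module.End ℂ ((Fin n → F) → ℂ) :=
      (LinearMap.proj (R := ℂ) (φ := fun _ : Fin n → F => ℂ) t).smulRight ((x t)⁻¹ • y) with hA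
    have hAx : A x = y := by
      rw [hA, LinearMap.smulRight_apply, LinearMap.proj_apply, smul_smul, mul_inv_cancel₀ ht,
        one_smul]
    rw [← hAx]
    exact hall A x hxK

theorem neg_ne_self_of_ne_zero (h2 : (2 : F) ≠ 0) (t0 : Fin n → F) (ht00 : t0 ≠ 0) : t0 ≠ -t0 := by
  intro h
  apply ht00
  funext i
  have hi : t0 i = -t0 i := congrFun h i
  have h3 : (2 : F) * t0 i = 0 := by linear_combination hi
  rcases mul_eq_zero.1 h3 with h4 | h4
  · exact absurd h4 h2
  · exact h4

/-- every even function is a combination of the `eEven t` -/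
theorem even_eq_sum (h2 : (2 : F) ≠ 0) (g : (Fin n → F) → ℂ) (hg : ∀ t, g (-t) = g t) :
    g = ∑ t : Fin n → F, (g t / 2) • eEven t := by
  funext s
  rw [Finset.sum_apply]
  have hterm : ∀ t : Fin n → F, ((g t / 2) • eEven t) s =
      (if s = t then g t / 2 else 0) + (if t = -s then g t / 2 else 0) := by
    intro t
    unfold eEven
    rw [Pi.smul_apply, Pi.add_apply, Pi.single_apply, Pi.single_apply, smul_eq_mul, mul_add]
    have : (s = -t) ↔ (t = -s) := by
      constructor
      · intro h
        rw [h, neg_neg]
      · intro h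
        rw [h, neg_neg]
    simp only [this, mul_ite, mul_one, mul_zero]
  rw [Finset.sum_congr rfl (fun t _ => hterm t), Finset.sum_add_distrib,
    Finset.sum_ite_eq Finset.univ s (fun t => g t / 2), Finset.sum_ite_eq' Finset.univ (-s)
      (fun t => g t / 2), if_pos (Finset.mem_univ _), if_pos (Finset.mem_univ _), hg]
  ring

/-- the `Q`-projection of an even function onto the `t0`-component -/
theorem even_proj (D : WeilData F ψ γ) (f : (Fin n → F) → ℂ) (hf : ∀ t, f (-t) = f t)
    (t0 : Fin n → F) (ht00 : t0 ≠ 0) :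
    ((Fintype.card (symAdd F n) : ℂ))⁻¹ • ∑ S : symAdd F n,
      ψ (γ * qf (S : Matrix (Fin n) (Fin n) F) t0) • mulOp ψ γ S f = f t0 • eEven t0 := by
  have hneg : t0 ≠ -t0 := neg_ne_self_of_ne_zero D.h2 t0 ht00
  have hcard : (Fintype.card (symAdd F n) : ℂ) ≠ 0 := Nat.cast_ne_zero.2 Fintype.card_ne_zero
  funext t
  rw [Pi.smul_apply, Finset.sum_apply]
  have hterm : ∀ S : symAdd F n, (ψ (γ * qf (S : Matrix (Fin n) (Fin n) F) t0) •
      mulOp ψ γ S f) t = (ψ (γ * qf (S : Matrix (Fin n) (Fin n) F) t0) *
      ψ (-(γ * qf (S : Matrix (Fin n) (Fin n) F) t))) * f t := by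
    intro S
    rw [Pi.smul_apply, mulOp_apply, smul_eq_mul, mul_assoc]
  rw [Finset.sum_congr rfl (fun S _ => hterm S), ← Finset.sum_mul, proj_sum D t0 t,
    smul_eq_mul, Pi.smul_apply, smul_eq_mul]
  unfold eEven
  rw [Pi.add_apply, Pi.single_apply, Pi.single_apply]
  by_cases h1 : t = t0
  · subst h1
    rw [if_pos rfl, if_pos rfl, if_neg hneg]
    field_simp
    ring
  · by_cases h2 : t = -t0
    · subst h2
      have h3 : vecMulVec (-t0) (-t0) = vecMulVec t0 t0 := by
        ext i j
        simp [vecMulVec_apply]
      rw [if_pos h3, if_neg h1, if_pos rfl, hf]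
      field_simp
      ring
    · have h3 : ¬ (vecMulVec t t = vecMulVec t0 t0) := by
        intro h
        rcases vecMulVec_self_eq t t0 h with h4 | h4
        · exact h1 h4
        · exact h2 h4
      rw [if_neg h3, if_neg h1, if_neg h2]
      ring

theorem even_irreducible_core (D : WeilData F ψ γ) (U : Submodule ℂ ((Fin n → F) → ℂ))
    (hU1 : U ≤ Wp F n) (hU2 : ∀ g, ∀ x ∈ U, weilRep D g x ∈ U) (hU3 : U ≠ ⊥) :
    Wp F n ≤ U := by
  classical
  have hinv : ∀ (g : symplecticGroup (Fin n) F) (X : Module.End ℂ ((Fin n → F) → ℂ)),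
      Impl ψ γ g X → ∀ x ∈ U, X x ∈ U := by
    intro g X hX x hx
    obtain ⟨c, hc⟩ := impl_eq_smul_weilRep D hX
    rw [hc, LinearMap.smul_apply]
    exact U.smul_mem c (hU2 g x hx)
  -- it suffices to have all `eEven t` in `U`
  have hsuff : (∀ t : Fin n → F, eEven t ∈ U) → Wp F n ≤ U := by
    intro hall g hg
    rw [even_eq_sum D.h2 g hg]
    apply U.sum_mem
    intro t _
    exact U.smul_mem _ (hall t)
  -- Lemma A
  have hA : ∀ f ∈ U, ∀ t0 : Fin n → F, t0 ≠ 0 → f t0 ≠ 0 → ∀ t : Fin n → F, t ≠ 0 →
      eEven t ∈ U := by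
    intro f hfU t0 ht00 ht0 t ht
    have hfe : ∀ t, f (-t) = f t := hU1 hfU
    have hPi : ((Fintype.card (symAdd F n) : ℂ))⁻¹ • ∑ S : symAdd F n,
        ψ (γ * qf (S : Matrix (Fin n) (Fin n) F) t0) • mulOp ψ γ S f ∈ U := by
      apply U.smul_mem
      apply U.sum_mem
      intro S _
      apply U.smul_mem
      exact hinv (lQ S) (mulOp ψ γ S) (impl_mulOp ψ γ D.hγ S) f hfU
    rw [even_proj D f hfe t0 ht00] at hPi
    have he0 : eEven t0 ∈ U := by
      have h2 := U.smul_mem (f t0)⁻¹ hPi
      rwa [smul_smul, inv_mul_cancel₀ ht0, one_smul] at h2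
    obtain ⟨A, hA⟩ := exists_gl_move t0 t ht00 ht
    rw [← hA, ← pullOp_eEven]
    exact hinv (lev A) (pullOp A) (impl_pullOp ψ γ A) _ he0
  by_cases hcase : ∃ f ∈ U, ∃ t0 : Fin n → F, t0 ≠ 0 ∧ f t0 ≠ 0
  · obtain ⟨f, hfU, t0, ht00, ht0⟩ := hcase
    have hall := hA f hfU t0 ht00 ht0
    by_cases hz : ∃ f' ∈ U, f' (0 : Fin n → F) ≠ 0
    · -- sub-case A1
      obtain ⟨f', hf'U, hf'0⟩ := hz
      apply hsuff
      intro t
      by_cases ht : t = 0
      · subst ht
        have hf'e : ∀ t, f' (-t) = f' t := hU1 hf'U
        have hdec := even_eq_sum D.h2 f' hf'e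
        have hsplit : ∑ t : Fin n → F, (f' t / 2) • eEven t =
            (f' 0 / 2) • eEven (0 : Fin n → F) +
              ∑ t ∈ Finset.univ.erase (0 : Fin n → F), (f' t / 2) • eEven t := by
          exact (Finset.add_sum_erase Finset.univ (fun t => (f' t / 2) • eEven t)
            (Finset.mem_univ (0 : Fin n → F))).symm
        have hrest : ∑ t ∈ Finset.univ.erase (0 : Fin n → F), (f' t / 2) • eEven t ∈ U := by
          apply U.sum_mem
          intro t ht
          exact U.smul_mem _ (hall t (Finset.ne_of_mem_erase ht))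
        have h1 : (f' 0 / 2) • eEven (0 : Fin n → F) ∈ U := by
          have : (f' 0 / 2) • eEven (0 : Fin n → F) =
              f' - ∑ t ∈ Finset.univ.erase (0 : Fin n → F), (f' t / 2) • eEven t := by
            rw [eq_sub_iff_add_eq, ← hsplit, ← hdec]
          rw [this]
          exact U.sub_mem hf'U hrest
        have hne : f' 0 / 2 ≠ 0 := div_ne_zero hf'0 two_ne_zero
        have h2 := U.smul_mem (f' 0 / 2)⁻¹ h1
        rwa [smul_smul, inv_mul_cancel₀ hne, one_smul] at h2
      · exact hall t ht
    · -- sub-case A2: contradiction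
      exfalso
      push Not at hz
      set K : Submodule ℂ ((Fin n → F) → ℂ) :=
        { carrier := {f | f 0 = 0}
          add_mem' := by
            intro a b ha hb
            show a 0 + b 0 = 0
            rw [show a 0 = 0 from ha, show b 0 = 0 from hb, add_zero]
          zero_mem' := rfl
          smul_mem' := by
            intro c a ha
            show c * a 0 = 0
            rw [show a 0 = 0 from ha, mul_zero] } with hKdef
      have hUK : U ≤ K := fun x hx => hz x hx
      have hWmK : Wm F n ≤ K := by
        intro x hx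
        have h1 : x (-0) = -x 0 := hx 0
        rw [neg_zero] at h1
        have h2 : (2 : ℂ) * x 0 = 0 := by linear_combination h1
        rcases mul_eq_zero.1 h2 with h3 | h3
        · exact absurd h3 two_ne_zero
        · exact h3
      have hKinv : ∀ g, ∀ x ∈ K, weilRep D g x ∈ K := by
        intro g x hx
        have hx0 : x 0 = 0 := hx
        -- decompose x = projP x + projM x
        have hdec : x = projP x + projM x := by
          funext t
          rw [Pi.add_apply, projP_apply, projM_apply]
          ring
        have hP : projP x ∈ U := by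
          have hPe : ∀ t, (projP x) (-t) = projP x t := by
            intro t
            rw [projP_apply, projP_apply, neg_neg, add_comm]
          rw [even_eq_sum D.h2 (projP x) hPe]
          apply U.sum_mem
          intro t _
          by_cases ht : t = 0
          · subst ht
            have : projP x (0 : Fin n → F) = 0 := by
              rw [projP_apply, neg_zero, hx0]
              ring
            rw [this, zero_div, zero_smul]
            exact U.zero_mem
          · exact U.smul_mem _ (hall t ht)
        have hM : projM x ∈ Wm F n := by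
          intro t
          rw [projM_apply, projM_apply, neg_neg]
          ring
        rw [hdec, map_add]
        apply K.add_mem
        · exact hUK (hU2 g _ hP)
        · exact hWmK (mem_Wm_of_comm (weilRep_comm_parOp D g) _ hM)
      set v0 : Fin n ⊕ Fin n → F := Sum.elim 0 t0 with hv0
      have hv0ne : v0 ≠ 0 := by
        intro h
        apply ht00
        funext i
        have := congrFun h (Sum.inr i)
        simpa [hv0] using this
      have hK0 : ∀ x ∈ K, heis ψ γ v0 x ∈ K := by
        intro x hx
        have hx0 : x 0 = 0 := hx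
        show heis ψ γ v0 x 0 = 0
        rw [heis_apply]
        have hva : va v0 = 0 := rfl
        rw [hva, add_zero, hx0, mul_zero]
      have hKall := heis_inv_all D K hKinv v0 hv0ne hK0
      rcases eq_bot_or_top_of_heis D.hψ K hKall with hb | htop
      · have h1 : eEven t0 ∈ K := hUK (hall t0 ht00)
        rw [hb, Submodule.mem_bot] at h1
        have h2 := congrFun h1 t0
        unfold eEven at h2
        rw [Pi.add_apply, Pi.single_apply, Pi.single_apply, if_pos rfl,
          if_neg (neg_ne_self_of_ne_zero D.h2 t0 ht00)] at h2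
        simp at h2
      · have h1 : (Pi.single (0 : Fin n → F) (1 : ℂ) : (Fin n → F) → ℂ) ∈ K := by
          rw [htop]
          exact Submodule.mem_top
        have h2 : (Pi.single (0 : Fin n → F) (1 : ℂ) : (Fin n → F) → ℂ) 0 = 0 := h1
        rw [Pi.single_eq_same] at h2
        exact one_ne_zero h2
  · -- case B: every function in `U` is supported at `0`
    push Not at hcase
    by_cases hsub : ∀ t : Fin n → F, t = 0
    · -- the domain is a point
      obtain ⟨f, hfU, hf0⟩ := Submodule.exists_mem_ne_zero_of_ne_bot hU3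
      have hf00 : f 0 ≠ 0 := by
        intro h
        apply hf0
        funext t
        rw [hsub t]
        exact h
      intro g _
      have : g = (g 0 / f 0) • f := by
        funext t
        rw [hsub t, Pi.smul_apply, smul_eq_mul, div_mul_cancel₀ _ hf00]
      rw [this]
      exact U.smul_mem _ hfU
    · exfalso
      push Not at hsub
      obtain ⟨t1, ht1⟩ := hsub
      set v0 : Fin n ⊕ Fin n → F := Sum.elim 0 t1 with hv0
      have hv0ne : v0 ≠ 0 := by
        intro h
        apply ht1
        funext i
        have := congrFun h (Sum.inr i)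
        simpa [hv0] using this
      have hK0 : ∀ x ∈ U, heis ψ γ v0 x ∈ U := by
        intro x hx
        have : heis ψ γ v0 x = x := by
          funext t
          rw [heis_apply]
          have hva : va v0 = 0 := rfl
          have hvb : vb v0 = t1 := rfl
          rw [hva, hvb, add_zero]
          by_cases ht : t = 0
          · subst ht
            simp
          · have := hcase x hx t ht
            rw [this, mul_zero]
        rw [this]
        exact hx
      have hKall := heis_inv_all D U hU2 v0 hv0ne hK0
      rcases eq_bot_or_top_of_heis D.hψ U hKall with hb | htop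
      · exact hU3 hb
      · have h1 : (Pi.single t1 (1 : ℂ) : (Fin n → F) → ℂ) ∈ U := by
          rw [htop]
          exact Submodule.mem_top
        have h2 := hcase _ h1 t1 ht1
        rw [Pi.single_eq_same] at h2
        exact one_ne_zero h2

end even

end Cfsg.Agent.Lib.Helper6.Wl
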