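import Mathlib
import Cfsg.Agent.Lib.Helper6.WlG

set_option autoImplicit false
set_option linter.unusedSectionVars false
set_option linter.unusedVariables false

/-!
The normalised Weil representation acts on the lower Siegel radical `lQ S` EXACTLY by the
multiplication operators `mulOp` (for `n ≥ 2`): the normalising scalar `kap (mulOp S)` is a
`GL_n`-invariant character of the additive group of symmetric matrices, hence trivial.
-/

namespace Cfsg.Agent.Lib.Helper6.Wl

open Matrix Cfsg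

section exact
variable {F : Type*} [Field F] [Fintype F] [DecidableEq F] {n : ℕ}
variable (ψ : AddChar F ℂ) (γ : F)

theorem qf_neg_vec (X : Matrix (Fin n) (Fin n) F) (t : Fin n → F) : qf X (-t) = qf X t := by
  unfold qf
  rw [mulVec_neg, neg_dotProduct, dotProduct_neg, neg_neg]

theorem qf_add_mat (X Y : Matrix (Fin n) (Fin n) F) (t : Fin n → F) :
    qf (X + Y) t = qf X t + qf Y t := by
  unfold qf
  rw [add_mulVec, dotProduct_add]

theorem qf_zero_mat (t : Fin n → F) : qf (0 : Matrix (Fin n) (Fin n) F) t = 0 := by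
  unfold qf
  rw [zero_mulVec, dotProduct_zero]

theorem mulOp_add (S S' : symAdd F n) : mulOp ψ γ (S + S') = mulOp ψ γ S * mulOp ψ γ S' := by
  refine LinearMap.ext fun f => funext fun t => ?_
  rw [Module.End.mul_apply, mulOp_apply, mulOp_apply, mulOp_apply, AddSubgroup.coe_add, qf_add_mat,
    ← mul_assoc, ← AddChar.map_add_eq_mul]
  congr 2
  ring

theorem mulOp_zero : mulOp ψ γ (0 : symAdd F n) = 1 := by
  refine LinearMap.ext fun f => funext fun t => ?_
  rw [mulOp_apply, AddSubgroup.coe_zero, qf_zero_mat, mul_zero, neg_zero, AddChar.map_zero_eq_one,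
    one_mul]
  rfl

theorem isUnit_mulOp (S : symAdd F n) : IsUnit (mulOp ψ γ S) := by
  rw [isUnit_iff_exists]
  refine ⟨mulOp ψ γ (-S), ?_, ?_⟩
  · rw [← mulOp_add, add_neg_cancel, mulOp_zero]
  · rw [← mulOp_add, neg_add_cancel, mulOp_zero]

theorem mulOp_comm_parOp (S : symAdd F n) : mulOp ψ γ S * parOp = parOp * mulOp ψ γ S := by
  refine LinearMap.ext fun f => funext fun t => ?_
  rw [Module.End.mul_apply, Module.End.mul_apply, mulOp_apply, parOp_apply, parOp_apply,
    mulOp_apply, qf_neg_vec]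

theorem pullOp_comm_parOp (A : GL (Fin n) F) :
    (pullOp A : Module.End ℂ ((Fin n → F) → ℂ)) * parOp = parOp * pullOp A := by
  refine LinearMap.ext fun f => funext fun t => ?_
  rw [Module.End.mul_apply, Module.End.mul_apply, pullOp_apply, parOp_apply, parOp_apply,
    pullOp_apply, mulVec_neg]

theorem pullOp_mul_inv (A : GL (Fin n) F) :
    (pullOp A : Module.End ℂ ((Fin n → F) → ℂ)) * pullOp A⁻¹ = 1 := by
  refine LinearMap.ext fun f => funext fun t => ?_
  rw [Module.End.mul_apply, pullOp_apply, pullOp_apply, inv_inv, gl_mulVec_inv]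
  rfl

theorem pullOp_inv_mul (A : GL (Fin n) F) :
    (pullOp A⁻¹ : Module.End ℂ ((Fin n → F) → ℂ)) * pullOp A = 1 := by
  have := pullOp_mul_inv (F := F) (n := n) A⁻¹
  rwa [inv_inv] at this

/-- `pullOp A * mulOp S * pullOp A⁻¹ = mulOp (A⁻ᵀ S A⁻¹)` -/
theorem pullOp_mulOp_conj (A : GL (Fin n) F) (S : symAdd F n) :
    pullOp A * mulOp ψ γ S * pullOp A⁻¹ = mulOp ψ γ (congSym A⁻¹ S) := by
  refine LinearMap.ext fun f => funext fun t => ?_
  rw [Module.End.mul_apply, Module.End.mul_apply, pullOp_apply, mulOp_apply, pullOp_apply,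
    mulOp_apply, inv_inv, gl_mulVec_inv, congSym_coe, qf_conj]

/-- the normalising scalar of `mulOp S` -/
noncomputable def kapS (S : symAdd F n) : ℂ := kap (mulOp ψ γ S)

theorem kapS_add (S S' : symAdd F n) : kapS ψ γ (S + S') = kapS ψ γ S * kapS ψ γ S' := by
  unfold kapS
  rw [mulOp_add, kap_mul _ _ (mem_Wm_of_comm (mulOp_comm_parOp ψ γ S'))
    (mem_Wp_of_comm (mulOp_comm_parOp ψ γ S'))]

theorem kapS_zero : kapS ψ γ (0 : symAdd F n) = 1 := by
  unfold kapS
  rw [mulOp_zero, kap_one]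

theorem kapS_ne_zero (S : symAdd F n) : kapS ψ γ S ≠ 0 :=
  kap_ne_zero_of_unit_comm (isUnit_mulOp ψ γ S) (mulOp_comm_parOp ψ γ S)

theorem kapS_neg (S : symAdd F n) : kapS ψ γ (-S) = (kapS ψ γ S)⁻¹ := by
  have h := kapS_add ψ γ S (-S)
  rw [add_neg_cancel, kapS_zero] at h
  exact eq_inv_of_mul_eq_one_right h.symm

theorem kapS_cong (A : GL (Fin n) F) (S : symAdd F n) :
    kapS ψ γ (congSym A S) = kapS ψ γ S := by
  have h := pullOp_mulOp_conj ψ γ A⁻¹ S
  rw [inv_inv] at h
  unfold kapS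
  rw [← h, kap_mul _ _ (mem_Wm_of_comm (pullOp_comm_parOp A))
    (mem_Wp_of_comm (pullOp_comm_parOp A)),
    kap_mul _ _ (mem_Wm_of_comm (mulOp_comm_parOp ψ γ S))
    (mem_Wp_of_comm (mulOp_comm_parOp ψ γ S))]
  have h1 : kap (pullOp A⁻¹ : Module.End ℂ ((Fin n → F) → ℂ)) * kap (pullOp A) = 1 := by
    rw [← kap_mul _ _ (mem_Wm_of_comm (pullOp_comm_parOp A))
      (mem_Wp_of_comm (pullOp_comm_parOp A)), pullOp_inv_mul, kap_one]
  calc kap (pullOp A⁻¹ : Module.End ℂ ((Fin n → F) → ℂ)) * kap (mulOp ψ γ S) * kap (pullOp A)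
      = (kap (pullOp A⁻¹ : Module.End ℂ ((Fin n → F) → ℂ)) * kap (pullOp A)) *
          kap (mulOp ψ γ S) := by ring
    _ = kap (mulOp ψ γ S) := by rw [h1, one_mul]

/-- the rank one symmetric matrix `x xᵀ` -/
def rk1 (x : Fin n → F) : symAdd F n :=
  ⟨vecMulVec x x, by
    show (vecMulVec x x)ᵀ = _
    rw [transpose_vecMulVec]⟩

theorem rk1_coe (x : Fin n → F) : ((rk1 x : symAdd F n) : Matrix (Fin n) (Fin n) F) =
    vecMulVec x x := rfl

theorem congSym_rk1 (B : GL (Fin n) F) (x : Fin n → F) :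
    congSym B (rk1 x) = rk1 ((B : Matrix (Fin n) (Fin n) F)ᵀ *ᵥ x) := by
  apply Subtype.ext
  rw [congSym_coe, rk1_coe, rk1_coe, mul_vecMulVec, vecMulVec_mul, ← mulVec_transpose]

/-- transpose of an element of `GL` -/
noncomputable def glT (A : GL (Fin n) F) : GL (Fin n) F :=
  Matrix.GeneralLinearGroup.mkOfDetNeZero (A : Matrix (Fin n) (Fin n) F)ᵀ (by
    rw [det_transpose]
    exact (Matrix.GeneralLinearGroup.det A).ne_zero)

theorem glT_coe (A : GL (Fin n) F) : ((glT A : GL (Fin n) F) : Matrix (Fin n) (Fin n) F) =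
    (A : Matrix (Fin n) (Fin n) F)ᵀ := rfl

theorem kapS_rk1_eq (x y : Fin n → F) (hx : x ≠ 0) (hy : y ≠ 0) :
    kapS ψ γ (rk1 x) = kapS ψ γ (rk1 y) := by
  obtain ⟨A, hA⟩ := exists_gl_move x y hx hy
  have h := kapS_cong ψ γ (glT A) (rk1 x)
  rw [congSym_rk1, glT_coe, transpose_transpose, hA] at h
  exact h.symm

theorem rk1_smul_vec (a : F) (x : Fin n → F) :
    ((rk1 (a • x) : symAdd F n) : Matrix (Fin n) (Fin n) F) = (a * a) • vecMulVec x x := by
  rw [rk1_coe]
  ext i j
  simp only [vecMulVec_apply, Pi.smul_apply, smul_eq_mul, Matrix.smul_apply]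
  ring

/-- `c x xᵀ` as a symmetric matrix -/
def sm1 (c : F) (x : Fin n → F) : symAdd F n :=
  ⟨c • vecMulVec x x, by
    show (c • vecMulVec x x)ᵀ = _
    rw [transpose_smul, transpose_vecMulVec]⟩

theorem sm1_coe (c : F) (x : Fin n → F) : ((sm1 c x : symAdd F n) : Matrix (Fin n) (Fin n) F) =
    c • vecMulVec x x := rfl

theorem rk1_zero : rk1 (0 : Fin n → F) = 0 := by
  apply Subtype.ext
  rw [rk1_coe]
  ext i j
  simp [vecMulVec_apply]

/-- all `kapS (rk1 x)`, `x ≠ 0`, are equal to one (`n ≥ 2`) -/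
theorem kapS_rk1 (h2 : (2 : F) ≠ 0) (hn : 2 ≤ n) (x : Fin n → F) : kapS ψ γ (rk1 x) = 1 := by
  by_cases hx0 : x = 0
  · rw [hx0, rk1_zero, kapS_zero]
  -- two distinct coordinates
  set i0 : Fin n := ⟨0, by omega⟩ with hi0
  set i1 : Fin n := ⟨1, by omega⟩ with hi1
  have hne : i0 ≠ i1 := by
    intro h
    have := congrArg Fin.val h
    simp [hi0, hi1] at this
  set e0 : Fin n → F := Pi.single i0 1 with he0
  set e1 : Fin n → F := Pi.single i1 1 with he1
  have he00 : e0 ≠ 0 := by
    intro h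
    have := congrFun h i0
    simp [he0] at this
  have he10 : e1 ≠ 0 := by
    intro h
    have := congrFun h i1
    simp [he1] at this
  have hsum0 : e0 + e1 ≠ 0 := by
    intro h
    have := congrFun h i0
    simp [he0, he1, Pi.single_apply, hne] at this
  have hsub0 : e0 - e1 ≠ 0 := by
    intro h
    have := congrFun h i0
    simp [he0, he1, Pi.single_apply, hne] at this
  set k := kapS ψ γ (rk1 e0) with hk
  have hk0 : k ≠ 0 := kapS_ne_zero ψ γ _
  have hall : ∀ y : Fin n → F, y ≠ 0 → kapS ψ γ (rk1 y) = k := fun y hy =>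
    kapS_rk1_eq ψ γ y e0 hy he00
  -- k = k^4
  have h4 : k = k * k * (k * k) := by
    have h2e : (2 : F) • e0 ≠ 0 := by
      intro h
      rcases smul_eq_zero.1 h with h' | h'
      · exact h2 h'
      · exact he00 h'
    have hdec : rk1 ((2 : F) • e0) = rk1 e0 + rk1 e0 + (rk1 e0 + rk1 e0) := by
      apply Subtype.ext
      rw [rk1_smul_vec, AddSubgroup.coe_add, AddSubgroup.coe_add, rk1_coe]
      ext i j
      simp only [Matrix.smul_apply, Matrix.add_apply, smul_eq_mul]
      ring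
    have := hall _ h2e
    rw [hdec, kapS_add, kapS_add] at this
    exact this.symm
  -- k^2 = k^4
  have h24 : k * k = k * k * (k * k) := by
    have hdec : rk1 (e0 + e1) + rk1 (e0 - e1) = rk1 e0 + rk1 e0 + (rk1 e1 + rk1 e1) := by
      apply Subtype.ext
      simp only [AddSubgroup.coe_add, rk1_coe]
      ext i j
      simp only [Matrix.add_apply, vecMulVec_apply, Pi.add_apply, Pi.sub_apply]
      ring
    have h := congrArg (kapS ψ γ) hdec
    rw [kapS_add, kapS_add, kapS_add, kapS_add, hall _ hsum0, hall _ hsub0, hall _ he10] at h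
    exact h
  have hk1 : k = 1 := by
    have h5 : k = k * k := by rw [h24, ← h4]
    have h6 : k * (k - 1) = 0 := by linear_combination -h5
    rcases mul_eq_zero.1 h6 with h7 | h7
    · exact absurd h7 hk0
    · exact sub_eq_zero.1 h7
  rw [hall x hx0, hk1]

theorem kapS_sm1 (h2 : (2 : F) ≠ 0) (hn : 2 ≤ n) (c : F) (x : Fin n → F) :
    kapS ψ γ (sm1 c x) = 1 := by
  have hdec : sm1 c x = rk1 (((c + 1) / 2) • x) + -rk1 (((c - 1) / 2) • x) := by
    apply Subtype.ext
    rw [AddSubgroup.coe_add, AddSubgroup.coe_neg, rk1_smul_vec, rk1_smul_vec, sm1_coe, ← sub_eq_add_neg,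
      ← sub_smul]
    congr 1
    field_simp
    ring
  rw [hdec, kapS_add, kapS_neg, kapS_rk1 ψ γ h2 hn, kapS_rk1 ψ γ h2 hn, inv_one, mul_one]

/-- a symmetric matrix is a combination of rank one matrices -/
theorem sym_decomp (h2 : (2 : F) ≠ 0) (S : symAdd F n) :
    S = ∑ i : Fin n, ∑ j : Fin n,
      (sm1 ((S : Matrix (Fin n) (Fin n) F) i j / 2) (Pi.single i 1 + Pi.single j 1) +
        -sm1 ((S : Matrix (Fin n) (Fin n) F) i j / 2) (Pi.single i 1) +
        -sm1 ((S : Matrix (Fin n) (Fin n) F) i j / 2) (Pi.single j 1)) := by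
  apply Subtype.ext
  rw [AddSubgroup.val_finset_sum]
  simp only [AddSubgroup.val_finset_sum, AddSubgroup.coe_add, AddSubgroup.coe_neg, sm1_coe]
  ext a b
  rw [Matrix.sum_apply]
  simp only [Matrix.sum_apply, Matrix.add_apply, Matrix.neg_apply, Matrix.smul_apply,
    vecMulVec_apply, Pi.add_apply, smul_eq_mul]
  have hterm : ∀ i j : Fin n,
      (S : Matrix (Fin n) (Fin n) F) i j / 2 *
          (((Pi.single i 1 : Fin n → F) a + (Pi.single j 1 : Fin n → F) a) *
            ((Pi.single i 1 : Fin n → F) b + (Pi.single j 1 : Fin n → F) b)) +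
        -((S : Matrix (Fin n) (Fin n) F) i j / 2 *
          ((Pi.single i 1 : Fin n → F) a * (Pi.single i 1 : Fin n → F) b)) +
        -((S : Matrix (Fin n) (Fin n) F) i j / 2 *
          ((Pi.single j 1 : Fin n → F) a * (Pi.single j 1 : Fin n → F) b)) =
      (if a = i then (if b = j then (S : Matrix (Fin n) (Fin n) F) i j / 2 else 0) else 0) +
        (if b = i then (if a = j then (S : Matrix (Fin n) (Fin n) F) i j / 2 else 0) else 0) := by
    intro i j
    simp only [Pi.single_apply]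
    split_ifs <;> ring
  rw [Finset.sum_congr rfl (fun i _ => Finset.sum_congr rfl (fun j _ => hterm i j))]
  simp only [Finset.sum_add_distrib]
  rw [Finset.sum_eq_single a, Finset.sum_eq_single b]
  · rw [if_pos rfl, if_pos rfl]
    have hsw : ∑ i : Fin n, ∑ j : Fin n,
        (if b = i then (if a = j then (S : Matrix (Fin n) (Fin n) F) i j / 2 else 0) else 0) =
        (S : Matrix (Fin n) (Fin n) F) b a / 2 := by
      rw [Finset.sum_eq_single b, Finset.sum_eq_single a]
      · rw [if_pos rfl, if_pos rfl]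
      · intro j _ hj
        rw [if_pos rfl, if_neg (Ne.symm hj)]
      · intro h; exact absurd (Finset.mem_univ _) h
      · intro i _ hi
        apply Finset.sum_eq_zero
        intro j _
        rw [if_neg (Ne.symm hi)]
      · intro h; exact absurd (Finset.mem_univ _) h
    rw [hsw]
    have hsym : (S : Matrix (Fin n) (Fin n) F) b a = (S : Matrix (Fin n) (Fin n) F) a b := by
      have := congrFun (congrFun (symAdd_transpose S) a) b
      rwa [transpose_apply] at this
    rw [hsym]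
    field_simp
    ring
  · intro j _ hj
    rw [if_pos rfl, if_neg (Ne.symm hj)]
  · intro h; exact absurd (Finset.mem_univ _) h
  · intro i _ hi
    apply Finset.sum_eq_zero
    intro j _
    rw [if_neg (Ne.symm hi)]
  · intro h; exact absurd (Finset.mem_univ _) h

theorem kapS_eq_one (h2 : (2 : F) ≠ 0) (hn : 2 ≤ n) (S : symAdd F n) : kapS ψ γ S = 1 := by
  classical
  have hsum : ∀ (ι : Type) (s : Finset ι) (f : ι → symAdd F n),
      (∀ i ∈ s, kapS ψ γ (f i) = 1) → kapS ψ γ (∑ i ∈ s, f i) = 1 := by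
    intro ι s f
    refine Finset.induction_on s ?_ ?_
    · intro _
      rw [Finset.sum_empty, kapS_zero]
    · intro a s ha ih h
      rw [Finset.sum_insert ha, kapS_add, h a (Finset.mem_insert_self a s),
        ih (fun i hi => h i (Finset.mem_insert_of_mem hi)), mul_one]
  rw [sym_decomp h2 S]
  apply hsum
  intro i _
  apply hsum
  intro j _
  rw [kapS_add, kapS_add, kapS_neg, kapS_neg, kapS_sm1 ψ γ h2 hn, kapS_sm1 ψ γ h2 hn,
    kapS_sm1 ψ γ h2 hn, inv_one, mul_one, mul_one]

/-- EXACTNESS: the normalised Weil representation acts on `lQ S` by `mulOp S` (`n ≥ 2`) -/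
theorem weilRep_lQ {ψ : AddChar F ℂ} {γ : F} (D : WeilData F ψ γ) (hn : 2 ≤ n) (S : symAdd F n) :
    weilRep D (lQ S) = mulOp ψ γ S := by
  apply good_unique D (weilRep_good D (lQ S))
  exact ⟨impl_mulOp ψ γ D.hγ S, isUnit_mulOp ψ γ S, kapS_eq_one ψ γ D.h2 hn S⟩

end exact

end Cfsg.Agent.Lib.Helper6.Wl
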