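import Mathlib
import Cfsg.Agent.Lib.Helper1.SPWDefs2
import Cfsg.Agent.Lib.Helper6.ProdChar

set_option autoImplicit false
set_option linter.unusedSectionVars false
set_option linter.unusedVariables false

/-!
Farm SPW, unit B1b: `τ 1 • comp τ` is a character of `SL₂`.
-/

namespace Cfsg.Agent.Lib.Helper6.SPW

open Matrix Cfsg Cfsg.Agent.Lib.Helper6.Wl Cfsg.Agent.Lib.Helper4 Cfsg.Agent.Lib.Helper1.SPW
open Module

section abstract
variable {F : Type*} [Field F] [Fintype F] [DecidableEq F] {m : ℕ}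
variable {G : Type*} [Group G] [Fintype G]
variable [Fintype (symplecticGroup (Fin m) F)]
variable (D : Datum F m G)
variable {V : Type*} [AddCommGroup V] [Module ℂ V] [FiniteDimensional ℂ V]
variable {Ω : Type*} [AddCommGroup Ω] [Module ℂ Ω] [FiniteDimensional ℂ Ω]
variable (ρ : Representation ℂ G V) (ρΩ : Representation ℂ G Ω) (ψ : AddChar F ℂ)

theorem comp_conj (τ : symplecticGroup (Fin m) F → ℂ)
    (x y : Matrix.SpecialLinearGroup (Fin 2) F) :
    Cfsg.Agent.Lib.Helper1.SPW.comp D ρ τ (y * x * y⁻¹) =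
      Cfsg.Agent.Lib.Helper1.SPW.comp D ρ τ x := by
  unfold Cfsg.Agent.Lib.Helper1.SPW.comp
  congr 1
  apply Finset.sum_congr rfl
  intro g _
  congr 1
  have h1 : D.iS (y * x * y⁻¹) * D.iG g = D.iS y * (D.iS x * D.iG g) * (D.iS y)⁻¹ := by
    have hc : D.iS y⁻¹ * D.iG g = D.iG g * D.iS y⁻¹ := D.comm y⁻¹ g
    rw [map_mul, map_mul, ← map_inv, mul_assoc, mul_assoc, hc, mul_assoc, mul_assoc]
  rw [h1, map_mul ρ, map_mul ρ, LinearMap.trace_mul_comm, ← mul_assoc, ← map_mul ρ, inv_mul_cancel,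
    map_one, one_mul]

/-- the inner product of a `τ`-component with a function on `SL₂` is an inner product on
`SL₂ × G'` -/
theorem classInner_comp_eq (τ : symplecticGroup (Fin m) F → ℂ)
    (χ : Matrix.SpecialLinearGroup (Fin 2) F → ℂ) :
    classInner (Cfsg.Agent.Lib.Helper1.SPW.comp D ρ τ) χ =
      classInner (fun k : Matrix.SpecialLinearGroup (Fin 2) F × symplecticGroup (Fin m) F =>
        LinearMap.trace ℂ V (ρ (D.iSG k))) (Cfsg.Agent.Lib.Helper6.prodFun χ τ) := by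
  unfold classInner Cfsg.Agent.Lib.Helper1.SPW.comp Cfsg.Agent.Lib.Helper6.prodFun
  rw [Nat.card_prod, Nat.cast_mul, mul_inv, mul_assoc, Fintype.sum_prod_type,
    Nat.card_eq_fintype_card (α := symplecticGroup (Fin m) F)]
  congr 1
  rw [Finset.mul_sum]
  apply Finset.sum_congr rfl
  intro x _
  rw [mul_assoc, Finset.sum_mul]
  congr 1
  apply Finset.sum_congr rfl
  intro g _
  have h1 : D.iSG (x, g) = D.iS x * D.iG g := rfl
  show _ = LinearMap.trace ℂ V (ρ (D.iSG (x, g))) * (starRingEnd ℂ) (χ x * τ g)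
  rw [map_mul (starRingEnd ℂ), h1]
  ring

/-- **Unit B1b** -/
theorem isCharacter_comp (τ : symplecticGroup (Fin m) F → ℂ)
    (hτ : IsIrrCharacter (symplecticGroup (Fin m) F) τ) :
    IsCharacter (Matrix.SpecialLinearGroup (Fin 2) F)
      (fun x => τ 1 * Cfsg.Agent.Lib.Helper1.SPW.comp D ρ τ x) := by
  obtain ⟨d, hd⟩ : ∃ d : ℕ, τ 1 = d := by
    obtain ⟨n, ρ', _, rfl⟩ := hτ
    exact ⟨n, by rw [Representation.char_one, Module.finrank_fin_fun]⟩
  apply Cfsg.Agent.Lib.Helper6.isCharacter_of_classInner_nat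
  · intro x y
    show τ 1 * Cfsg.Agent.Lib.Helper1.SPW.comp D ρ τ (y * x * y⁻¹) =
      τ 1 * Cfsg.Agent.Lib.Helper1.SPW.comp D ρ τ x
    rw [comp_conj]
  · intro χ
    have hΦ : IsCharacter (Matrix.SpecialLinearGroup (Fin 2) F × symplecticGroup (Fin m) F)
        (fun k => LinearMap.trace ℂ V (ρ (D.iSG k))) :=
      Cfsg.Agent.Lib.Helper6.isCharacter_character (ρ.comp D.iSG)
    obtain ⟨n, hn⟩ := Cfsg.Agent.Lib.Helper6.IsCharacter.classInner_nat hΦ
      (Cfsg.Agent.Lib.Helper6.IsIrrCharacter.isCharacter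
        (Cfsg.Agent.Lib.Helper6.IsIrrCharacter.prodFun χ.2 hτ))
    refine ⟨d * n, ?_⟩
    have h1 : (fun x => τ 1 * Cfsg.Agent.Lib.Helper1.SPW.comp D ρ τ x) =
        (τ 1) • Cfsg.Agent.Lib.Helper1.SPW.comp D ρ τ := by
      funext x
      rfl
    rw [h1, Cfsg.Agent.Lib.Helper6.classInner_smul_left, classInner_comp_eq, hn, hd]
    push_cast
    ring

end abstract

end Cfsg.Agent.Lib.Helper6.SPW
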