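import Mathlib
import Cfsg.Agent.Lib.Helper1.SPWDefs2
import Cfsg.Agent.Lib.Helper6.ClassFun
import Cfsg.Agent.Lib.Helper6.Orthogonality

set_option autoImplicit false
set_option linter.unusedSectionVars false
set_option linter.unusedVariables false

/-!
Farm SPW, unit B2: Parseval over `Irr(G')` for the dimension of `Hom_{SL₂ × G'}(Ω, V)`.
-/

namespace Cfsg.Agent.Lib.Helper6.SPW

open Matrix Cfsg Cfsg.Agent.Lib.Helper6.Wl Cfsg.Agent.Lib.Helper4 Cfsg.Agent.Lib.Helper1.SPW
open Module

section general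
variable {H : Type*} [Group H] [Fintype H]

/-- Parseval for class functions -/
theorem classInner_eq_sum_irr [Fintype (IrrCharacter H)] (a b : H → ℂ)
    (hb : IsClassFunction H b) :
    classInner a b = ∑ τ : IrrCharacter H,
      classInner a (τ : H → ℂ) * (starRingEnd ℂ) (classInner b (τ : H → ℂ)) := by
  conv_lhs => rw [Cfsg.Agent.Lib.Helper6.classFunction_eq_sum b hb]
  rw [Cfsg.Agent.Lib.Helper6.classInner_sum_right]
  apply Finset.sum_congr rfl
  intro τ _
  rw [Cfsg.Agent.Lib.Helper6.classInner_smul_right, mul_comm]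

end general

section homK
variable {G : Type*} [Group G]
variable {V : Type*} [AddCommGroup V] [Module ℂ V] [FiniteDimensional ℂ V]
variable {Ω : Type*} [AddCommGroup Ω] [Module ℂ Ω] [FiniteDimensional ℂ Ω]
variable (ρ : Representation ℂ G V) (ρΩ : Representation ℂ G Ω)

/-- the dimension of the space of `K`-maps is the inner product of the characters -/
theorem finrank_homK_eq {K : Type*} [Group K] [Fintype K] (f : K →* G) :
    (finrank ℂ (homK ρ ρΩ f) : ℂ) =
      classInner (fun k => LinearMap.trace ℂ V (ρ (f k)))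
        (fun k => LinearMap.trace ℂ Ω (ρΩ (f k))) := by
  have hinv : Invertible (Nat.card K : ℂ) :=
    invertibleOfNonzero (Cfsg.Agent.Lib.Helper6.card_ne_zero_complex K)
  have h1 := Cfsg.Agent.Lib.Helper6.classInner_character (ρ.comp f) (ρΩ.comp f)
  have h2 := Representation.card_inv_mul_sum_char_mul_char_eq_finrank (ρΩ.comp f) (ρ.comp f)
  have h3 : classInner (fun k => LinearMap.trace ℂ V (ρ (f k)))
      (fun k => LinearMap.trace ℂ Ω (ρΩ (f k))) =
      (finrank ℂ (Representation.IntertwiningMap (ρΩ.comp f) (ρ.comp f)) : ℂ) := by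
    rw [← h2]
    exact h1
  rw [h3]
  congr 1
  have hr : LinearMap.range (Representation.IntertwiningMap.toLinearMapl
      (ρ := ρΩ.comp f) (σ := ρ.comp f)) = homK ρ ρΩ f := by
    ext φ
    constructor
    · rintro ⟨g, rfl⟩
      intro k
      exact g.isIntertwining' k
    · intro hφ
      exact ⟨⟨φ, fun k => hφ k⟩, rfl⟩
  rw [← hr]
  exact (LinearMap.finrank_range_of_inj (f := Representation.IntertwiningMap.toLinearMapl
      (ρ := ρΩ.comp f) (σ := ρ.comp f))
    (fun a b h => Representation.IntertwiningMap.toLinearMap_injective (ρΩ.comp f) (ρ.comp f) h))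

end homK

section abstract
variable {F : Type*} [Field F] [Fintype F] [DecidableEq F] {m : ℕ}
variable {G : Type*} [Group G] [Fintype G]
variable [Fintype (symplecticGroup (Fin m) F)]
variable (D : Datum F m G)
variable {V : Type*} [AddCommGroup V] [Module ℂ V] [FiniteDimensional ℂ V]
variable {Ω : Type*} [AddCommGroup Ω] [Module ℂ Ω] [FiniteDimensional ℂ Ω]
variable (ρ : Representation ℂ G V) (ρΩ : Representation ℂ G Ω) (ψ : AddChar F ℂ)

/-- the function `g ↦ tr ρ (iS x * iG g)` on `G'` -/
noncomputable def trSG (x : Matrix.SpecialLinearGroup (Fin 2) F)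
    (g : symplecticGroup (Fin m) F) : ℂ :=
  LinearMap.trace ℂ V (ρ (D.iS x * D.iG g))

theorem isClassFunction_trSG (x : Matrix.SpecialLinearGroup (Fin 2) F) :
    IsClassFunction (symplecticGroup (Fin m) F) (trSG D ρ x) := by
  intro g h
  unfold trSG
  have h1 : D.iS x * D.iG (h * g * h⁻¹) = D.iG h * (D.iS x * D.iG g) * (D.iG h)⁻¹ := by
    rw [map_mul, map_mul, map_inv, ← mul_assoc, ← mul_assoc, D.comm x h, mul_assoc (D.iG h)]
  rw [h1, map_mul ρ, map_mul ρ, LinearMap.trace_mul_comm, ← mul_assoc, ← map_mul ρ, inv_mul_cancel,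
    map_one, one_mul]

theorem comp_eq_classInner (τ : symplecticGroup (Fin m) F → ℂ)
    (x : Matrix.SpecialLinearGroup (Fin 2) F) :
    Cfsg.Agent.Lib.Helper1.SPW.comp D ρ τ x = classInner (trSG D ρ x) τ := by
  unfold Cfsg.Agent.Lib.Helper1.SPW.comp classInner trSG
  rw [Nat.card_eq_fintype_card]

/-- **Unit B2** -/
theorem finrank_homK_iSG [Fintype (IrrCharacter (symplecticGroup (Fin m) F))] :
    (finrank ℂ (homK ρ ρΩ D.iSG) : ℂ) =
      ∑ τ : IrrCharacter (symplecticGroup (Fin m) F),
        classInner (Cfsg.Agent.Lib.Helper1.SPW.comp D ρ (τ : symplecticGroup (Fin m) F → ℂ))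
          (Cfsg.Agent.Lib.Helper1.SPW.comp D ρΩ (τ : symplecticGroup (Fin m) F → ℂ)) := by
  rw [finrank_homK_eq]
  have hL : classInner
      (fun k : Matrix.SpecialLinearGroup (Fin 2) F × symplecticGroup (Fin m) F =>
        LinearMap.trace ℂ V (ρ (D.iSG k)))
      (fun k => LinearMap.trace ℂ Ω (ρΩ (D.iSG k))) =
      (Nat.card (Matrix.SpecialLinearGroup (Fin 2) F) : ℂ)⁻¹ *
        ∑ x : Matrix.SpecialLinearGroup (Fin 2) F, classInner (trSG D ρ x) (trSG D ρΩ x) := by
    unfold classInner
    rw [Nat.card_prod, Nat.cast_mul, mul_inv, mul_assoc, Fintype.sum_prod_type, Finset.mul_sum]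
    congr 1
  rw [hL]
  have hP : ∀ x : Matrix.SpecialLinearGroup (Fin 2) F,
      classInner (trSG D ρ x) (trSG D ρΩ x) =
        ∑ τ : IrrCharacter (symplecticGroup (Fin m) F),
          Cfsg.Agent.Lib.Helper1.SPW.comp D ρ (τ : symplecticGroup (Fin m) F → ℂ) x *
            (starRingEnd ℂ)
              (Cfsg.Agent.Lib.Helper1.SPW.comp D ρΩ (τ : symplecticGroup (Fin m) F → ℂ) x) := by
    intro x
    rw [classInner_eq_sum_irr _ _ (isClassFunction_trSG D ρΩ x)]
    apply Finset.sum_congr rfl
    intro τ _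
    rw [comp_eq_classInner, comp_eq_classInner]
  rw [Finset.sum_congr rfl (fun x _ => hP x), Finset.sum_comm, Finset.mul_sum]
  apply Finset.sum_congr rfl
  intro τ _
  unfold classInner
  rfl

end abstract

end Cfsg.Agent.Lib.Helper6.SPW
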