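import Mathlib
import Cfsg.Agent.Lib.Helper1.SPWA1

set_option autoImplicit false
set_option linter.unusedSectionVars false
set_option linter.unusedVariables false

/-!
Farm SPW, unit A7d, part A: the projectors `pD d` of the abelian group `{iH (ab b 0)}` and the
`Q'`-spectrum of the `a`-part of a module satisfying `Rk1`.
-/

namespace Cfsg.Agent.Lib.Helper6.SPW

open Matrix Cfsg Cfsg.Agent.Lib.Helper6.Wl Cfsg.Agent.Lib.Helper4 Cfsg.Agent.Lib.Helper1.SPW
open Module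

section pd
variable {F : Type*} [Field F] [Fintype F] [DecidableEq F] {m : ℕ}
variable {G : Type*} [Group G]
variable (D : Datum F m G)
variable {V : Type*} [AddCommGroup V] [Module ℂ V]
variable (ρ : Representation ℂ G V) (ψ : AddChar F ℂ)

theorem vb_elim_zero (b : Fin m → F) : vb (Sum.elim b (0 : Fin m → F)) = 0 := by
  funext i
  rfl

theorem va_elim_zero (b : Fin m → F) : va (Sum.elim b (0 : Fin m → F)) = b := by
  funext i
  rfl

theorem ab_mul_ab (b b' : Fin m → F) (s s' : F) :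
    (Heis.ab b s : Heis m F) * Heis.ab b' s' = Heis.ab (b + b') (s + s') := by
  ext i
  · cases i <;> simp [Heis.ab]
  · show s + s' + hcoef (Sum.elim b (0 : Fin m → F)) (Sum.elim b' (0 : Fin m → F)) = s + s'
    unfold hcoef
    rw [vb_elim_zero, vb_elim_zero, dotProduct_zero, dotProduct_zero, sub_zero, add_zero]

theorem ab_zero_zero : (Heis.ab (0 : Fin m → F) 0 : Heis m F) = 1 := by
  rw [Heis.ab_zero, Heis.cen_zero]

theorem ab_eq_mul_cen (b : Fin m → F) (s : F) :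
    (Heis.ab b s : Heis m F) = Heis.ab b 0 * Heis.cen s := by
  rw [← Heis.ab_zero, ab_mul_ab, add_zero, zero_add]

/-- projector of the group `{iH (ab b 0)}` for the character `b ↦ ψ (2 d·b)` -/
noncomputable def pD (d : Fin m → F) : Module.End ℂ V :=
  ((Fintype.card (Fin m → F) : ℂ))⁻¹ •
    ∑ b : Fin m → F, ψ (-(2 * (d ⬝ᵥ b))) • ρ (D.iH (Heis.ab b 0))

theorem rho_ab_mul_pD (b0 d : Fin m → F) :
    ρ (D.iH (Heis.ab b0 0)) * pD D ρ ψ d = ψ (2 * (d ⬝ᵥ b0)) • pD D ρ ψ d := by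
  have key : ρ (D.iH (Heis.ab b0 0)) *
      ∑ b : Fin m → F, ψ (-(2 * (d ⬝ᵥ b))) • ρ (D.iH (Heis.ab b 0)) =
      ψ (2 * (d ⬝ᵥ b0)) •
        ∑ b : Fin m → F, ψ (-(2 * (d ⬝ᵥ b))) • ρ (D.iH (Heis.ab b 0)) := by
    rw [Finset.mul_sum, Finset.smul_sum]
    refine Fintype.sum_equiv (Equiv.addLeft b0)
      (fun b : Fin m → F => ρ (D.iH (Heis.ab b0 0)) *
        (ψ (-(2 * (d ⬝ᵥ b))) • ρ (D.iH (Heis.ab b 0))))
      (fun b : Fin m → F => ψ (2 * (d ⬝ᵥ b0)) •
        (ψ (-(2 * (d ⬝ᵥ b))) • ρ (D.iH (Heis.ab b 0)))) ?_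
    intro b
    show ρ (D.iH (Heis.ab b0 0)) * (ψ (-(2 * (d ⬝ᵥ b))) • ρ (D.iH (Heis.ab b 0))) =
      ψ (2 * (d ⬝ᵥ b0)) • (ψ (-(2 * (d ⬝ᵥ (b0 + b)))) • ρ (D.iH (Heis.ab (b0 + b) 0)))
    rw [mul_smul_comm, ← MonoidHom.map_mul ρ, ← MonoidHom.map_mul D.iH, ab_mul_ab, add_zero,
      smul_smul]
    congr 1
    rw [← AddChar.map_add_eq_mul]
    congr 1
    rw [dotProduct_add]
    ring
  unfold pD
  rw [mul_smul_comm, key, smul_comm]

theorem sum_pD (h2 : (2 : F) ≠ 0) (hψ : ψ ≠ 1) : ∑ d : Fin m → F, pD D ρ ψ d = 1 := by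
  classical
  unfold pD
  rw [← Finset.smul_sum, Finset.sum_comm]
  have h : ∀ b : Fin m → F, ∑ d : Fin m → F,
      ψ (-(2 * (d ⬝ᵥ b))) • ρ (D.iH (Heis.ab b 0)) =
      if b = 0 then (Fintype.card (Fin m → F) : ℂ) • (1 : Module.End ℂ V) else 0 := by
    intro b
    rw [← Finset.sum_smul]
    split_ifs with hb
    · subst hb
      simp [ab_zero_zero]
    · have h0 : (-(2 : F)) • b ≠ 0 := by
        intro h
        apply hb
        have h3 : (-(2 : F)) ≠ 0 := neg_ne_zero.2 h2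
        exact (smul_eq_zero.1 h).resolve_left h3
      have := sum_vec_psi_zero ψ hψ ((-(2 : F)) • b) h0
      rw [show (∑ d : Fin m → F, ψ (-(2 * (d ⬝ᵥ b)))) = 0 from by
        rw [← this]
        apply Finset.sum_congr rfl
        intro d _
        congr 1
        rw [smul_dotProduct, dotProduct_comm, smul_eq_mul]
        ring, zero_smul]
  rw [Finset.sum_congr rfl (fun b _ => h b), Finset.sum_ite_eq' Finset.univ (0 : Fin m → F)
    (fun _ => (Fintype.card (Fin m → F) : ℂ) • (1 : Module.End ℂ V)), if_pos (Finset.mem_univ _),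
    smul_smul, inv_mul_cancel₀, one_smul]
  exact Nat.cast_ne_zero.2 Fintype.card_ne_zero

/-- the vectors `eZ a (pD d u)` are `A`-eigenvectors with the character `(a, d)` -/
theorem rho_ab_eZ_pD (a : F) (d b : Fin m → F) (s : F) (u : V) :
    ρ (D.iH (Heis.ab b s)) (eZ D ρ ψ a (pD D ρ ψ d u)) =
      ψ (a * s + 2 * (d ⬝ᵥ b)) • eZ D ρ ψ a (pD D ρ ψ d u) := by
  have h1 : ρ (D.iH (Heis.ab b s)) * (eZ D ρ ψ a * pD D ρ ψ d) =
      ψ (a * s + 2 * (d ⬝ᵥ b)) • (eZ D ρ ψ a * pD D ρ ψ d) := by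
    rw [ab_eq_mul_cen, MonoidHom.map_mul D.iH, MonoidHom.map_mul ρ, mul_assoc,
      ← mul_assoc (ρ (D.iH (Heis.cen s))), rho_cen_mul_eZ, smul_mul_assoc, mul_smul_comm,
      ← mul_assoc, eZ_comm_iH, mul_assoc, rho_ab_mul_pD, mul_smul_comm, smul_smul,
      ← AddChar.map_add_eq_mul]
  have := LinearMap.congr_fun h1 u
  simpa using this

end pd

end Cfsg.Agent.Lib.Helper6.SPW
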