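import Mathlib
import Cfsg.Agent.Lib.Helper6.SPWA7dA

set_option autoImplicit false
set_option linter.unusedSectionVars false
set_option linter.unusedVariables false

/-!
Farm SPW, unit A7d, part B: the `Q'`-spectrum of the `a`-part of a module satisfying `Rk1`, and
the absence of `G'`-fixed vectors in the `a`-part.
-/

namespace Cfsg.Agent.Lib.Helper6.SPW

open Matrix Cfsg Cfsg.Agent.Lib.Helper6.Wl Cfsg.Agent.Lib.Helper4 Cfsg.Agent.Lib.Helper1.SPW
open Module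

section spectrum
variable {F : Type*} [Field F] [Fintype F] [DecidableEq F] {m : ℕ}
variable {G : Type*} [Group G]
variable (D : Datum F m G)
variable {V : Type*} [AddCommGroup V] [Module ℂ V]
variable (ρ : Representation ℂ G V) (ψ : AddChar F ℂ)

/-- on a `Q'`-eigenvector with character `S ↦ ψ (tr (S T₀))` the projector `eT T'` is `[T' = T₀]` -/
theorem eT_apply_eigen (h2 : (2 : F) ≠ 0) (hψ : ψ ≠ 1)
    (σ : Representation ℂ (symplecticGroup (Fin m) F) V) (T' : symAdd F m)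
    (T0 : Matrix (Fin m) (Fin m) F) (hT0 : T0ᵀ = T0) (v : V)
    (hv : ∀ S : symAdd F m, σ (uQ S) v =
      ψ (Matrix.trace ((S : Matrix (Fin m) (Fin m) F) * T0)) • v) :
    eT σ ψ T' v = if (T' : Matrix (Fin m) (Fin m) F) = T0 then v else 0 := by
  unfold eT
  rw [LinearMap.smul_apply, LinearMap.sum_apply]
  have hterm : ∀ S : symAdd F m,
      (ψ (-(Matrix.trace ((T' : Matrix (Fin m) (Fin m) F) * (S : Matrix (Fin m) (Fin m) F)))) •
        σ (uQ S)) v =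
      ψ (Matrix.trace ((S : Matrix (Fin m) (Fin m) F) *
        (T0 - (T' : Matrix (Fin m) (Fin m) F)))) • v := by
    intro S
    rw [LinearMap.smul_apply, hv S, smul_smul, ← AddChar.map_add_eq_mul]
    congr 2
    rw [Matrix.mul_sub, Matrix.trace_sub, Matrix.trace_mul_comm (T' : Matrix (Fin m) (Fin m) F)]
    ring
  rw [Finset.sum_congr rfl (fun S _ => hterm S), ← Finset.sum_smul]
  by_cases hT : (T' : Matrix (Fin m) (Fin m) F) = T0
  · rw [if_pos hT]
    have h0 : ∀ S : symAdd F m, ψ (Matrix.trace ((S : Matrix (Fin m) (Fin m) F) *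
        (T0 - (T' : Matrix (Fin m) (Fin m) F)))) = 1 := by
      intro S
      rw [hT, sub_self, Matrix.mul_zero, Matrix.trace_zero, AddChar.map_zero_eq_one]
    rw [Finset.sum_congr rfl (fun S _ => h0 S), Finset.sum_const, Finset.card_univ, nsmul_eq_mul,
      mul_one, smul_smul, inv_mul_cancel₀, one_smul]
    exact_mod_cast (Fintype.card_pos (α := symAdd F m)).ne'
  · rw [if_neg hT]
    have hD : (T0 - (T' : Matrix (Fin m) (Fin m) F))ᵀ = T0 - (T' : Matrix (Fin m) (Fin m) F) := by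
      rw [Matrix.transpose_sub, hT0, symAdd_transpose]
    rw [sum_sym_psi_zero h2 ψ hψ _ hD (sub_ne_zero.2 (fun h => hT h.symm)), zero_smul, smul_zero]

theorem vecMulVec_self_transpose (d : Fin m → F) (c : F) :
    (c • vecMulVec d d)ᵀ = c • vecMulVec d d := by
  rw [Matrix.transpose_smul]
  congr 1
  ext i j
  simp [vecMulVec_apply, mul_comm]

/-- the `Q'`-projectors on the `A`-eigenspaces of the `a`-part -/
theorem eT_mul_eZ_pD (h2 : (2 : F) ≠ 0) (hψ : ψ ≠ 1) (rV : Rk1 D ρ ψ) {a : F} (ha : a ≠ 0)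
    (T' : symAdd F m) (d : Fin m → F) :
    eT (ρ.comp D.iG) ψ T' * (eZ D ρ ψ a * pD D ρ ψ d) =
      if (T' : Matrix (Fin m) (Fin m) F) = a⁻¹ • vecMulVec d d
        then eZ D ρ ψ a * pD D ρ ψ d else 0 := by
  apply LinearMap.ext
  intro u
  have hv := rV.1 a d (eZ D ρ ψ a (pD D ρ ψ d u)) ha
    (fun b s => rho_ab_eZ_pD D ρ ψ a d b s u)
  have h1 := eT_apply_eigen ψ h2 hψ (ρ.comp D.iG) T' (a⁻¹ • vecMulVec d d)
    (vecMulVec_self_transpose d a⁻¹) (eZ D ρ ψ a (pD D ρ ψ d u)) (by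
      intro S
      show ρ (D.iG (uQ S)) _ = _
      rw [hv S]
      congr 2
      rw [Matrix.mul_smul, Matrix.trace_smul, trace_mul_vecMulVec, smul_eq_mul]
      rfl)
  show eT (ρ.comp D.iG) ψ T' (eZ D ρ ψ a (pD D ρ ψ d u)) = _
  rw [h1]
  split_ifs <;> rfl

theorem eZ_eq_sum_pD (h2 : (2 : F) ≠ 0) (hψ : ψ ≠ 1) (a : F) :
    eZ D ρ ψ a = ∑ d : Fin m → F, eZ D ρ ψ a * pD D ρ ψ d := by
  rw [← Finset.mul_sum, sum_pD D ρ ψ h2 hψ, mul_one]

/-- the `Q'`-spectrum of the `a`-part consists of the `a⁻¹ d dᵀ` -/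
theorem eT_mul_eZ_eq_zero (h2 : (2 : F) ≠ 0) (hψ : ψ ≠ 1) (rV : Rk1 D ρ ψ) {a : F} (ha : a ≠ 0)
    (T' : symAdd F m)
    (hT' : ¬ ∃ d : Fin m → F, (T' : Matrix (Fin m) (Fin m) F) = a⁻¹ • vecMulVec d d) :
    eT (ρ.comp D.iG) ψ T' * eZ D ρ ψ a = 0 := by
  rw [eZ_eq_sum_pD D ρ ψ h2 hψ a, Finset.mul_sum]
  apply Finset.sum_eq_zero
  intro d _
  rw [eT_mul_eZ_pD D ρ ψ h2 hψ rV ha, if_neg]
  exact fun h => hT' ⟨d, h⟩

theorem smul_vecMulVec_eq_zero_iff {a : F} (ha : a ≠ 0) (d : Fin m → F) :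
    a⁻¹ • vecMulVec d d = 0 ↔ d = 0 := by
  constructor
  · intro h
    funext i
    have h1 := congrFun (congrFun h i) i
    simp only [Matrix.smul_apply, vecMulVec_apply, smul_eq_mul, Matrix.zero_apply] at h1
    rcases mul_eq_zero.1 h1 with h3 | h3
    · exact absurd h3 (inv_ne_zero ha)
    · exact mul_self_eq_zero.1 h3
  · intro h
    rw [h]
    ext i j
    simp [vecMulVec_apply]

/-- the `Q'`-fixed vectors of the `a`-part are the `A`-eigenvectors with `d = 0` -/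
theorem eT_zero_mul_eZ (h2 : (2 : F) ≠ 0) (hψ : ψ ≠ 1) (rV : Rk1 D ρ ψ) {a : F} (ha : a ≠ 0) :
    eT (ρ.comp D.iG) ψ (0 : symAdd F m) * eZ D ρ ψ a = eZ D ρ ψ a * pD D ρ ψ 0 := by
  classical
  conv_lhs => rw [eZ_eq_sum_pD D ρ ψ h2 hψ a, Finset.mul_sum]
  rw [Finset.sum_eq_single (0 : Fin m → F)]
  · rw [eT_mul_eZ_pD D ρ ψ h2 hψ rV ha, if_pos]
    exact ((smul_vecMulVec_eq_zero_iff ha 0).2 rfl).symm
  · intro d _ hd
    rw [eT_mul_eZ_pD D ρ ψ h2 hψ rV ha, if_neg]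
    intro h
    exact hd ((smul_vecMulVec_eq_zero_iff ha d).1 h.symm)
  · intro h
    exact absurd (Finset.mem_univ _) h

end spectrum

end Cfsg.Agent.Lib.Helper6.SPW
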