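import Mathlib
import Cfsg.Agent.Lib.Helper6.SPWA7dB

set_option autoImplicit false
set_option linter.unusedSectionVars false
set_option linter.unusedVariables false

/-!
Farm SPW, unit A7d, part C: the `a`-part of a module satisfying `Rk1` has no nonzero `G'`-fixed
vector.
-/

namespace Cfsg.Agent.Lib.Helper6.SPW

open Matrix Cfsg Cfsg.Agent.Lib.Helper6.Wl Cfsg.Agent.Lib.Helper4 Cfsg.Agent.Lib.Helper1.SPW
open Module

section fixed
variable {F : Type*} [Field F] [Fintype F] [DecidableEq F] {m : ℕ}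
variable {G : Type*} [Group G]
variable (D : Datum F m G)
variable {V : Type*} [AddCommGroup V] [Module ℂ V]
variable (ρ : Representation ℂ G V) (ψ : AddChar F ℂ)

/-- the symmetric matrix `r E_{ii}` -/
def symE (i : Fin m) (r : F) : symAdd F m :=
  ⟨r • Matrix.single i i 1, by
    show (r • Matrix.single i i (1 : F))ᵀ = _
    rw [transpose_smul, Matrix.transpose_single]⟩

theorem symE_mulVec (i : Fin m) (r c : F) :
    ((symE i r : symAdd F m) : Matrix (Fin m) (Fin m) F) *ᵥ (Pi.single i c) =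
      Pi.single i (r * c) := by
  show (r • Matrix.single i i (1 : F)) *ᵥ (Pi.single i c) = _
  rw [Matrix.smul_mulVec, Matrix.single_mulVec]
  funext k
  simp [Pi.single_apply, Function.update_apply]

theorem lQ_mulVec_elim (S : symAdd F m) (b : Fin m → F) :
    (lQ S : Matrix (Fin m ⊕ Fin m) (Fin m ⊕ Fin m) F) *ᵥ (Sum.elim b (0 : Fin m → F)) =
      Sum.elim b ((S : Matrix (Fin m) (Fin m) F) *ᵥ b) := by
  apply vec_ext_ab
  · rw [va_lQ]
    rfl
  · rw [vb_lQ, va_elim_zero, vb_elim_zero, add_zero]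
    rfl

/-- the three Heisenberg elements -/
theorem heis_rel (i : Fin m) (r : F) :
    (⟨Sum.elim (Pi.single i 1) (0 : Fin m → F), 0⟩ : Heis m F) *
      ⟨Sum.elim (Pi.single i 1) (Pi.single i r), 0⟩ =
      ⟨Sum.elim (Pi.single i 2) (Pi.single i r), r⟩ := by
  ext k
  · cases k with
    | inl k =>
      show (Pi.single i (1 : F) : Fin m → F) k + (Pi.single i (1 : F) : Fin m → F) k =
        (Pi.single i (2 : F) : Fin m → F) k
      by_cases hk : k = i
      · subst hk
        simp only [Pi.single_eq_same]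
        norm_num
      · simp [Pi.single_eq_of_ne hk]
    | inr k =>
      show (0 : F) + (Pi.single i r : Fin m → F) k = (Pi.single i r : Fin m → F) k
      rw [zero_add]
  · show (0 : F) + 0 + hcoef (Sum.elim (Pi.single i 1) (0 : Fin m → F))
      (Sum.elim (Pi.single i 1) (Pi.single i r)) = r
    unfold hcoef
    have h1 : va (Sum.elim (Pi.single i (1 : F)) (0 : Fin m → F)) = Pi.single i 1 := rfl
    have h2 : vb (Sum.elim (Pi.single i (1 : F)) (Pi.single i r : Fin m → F)) = Pi.single i r := rfl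
    have h3 : vb (Sum.elim (Pi.single i (1 : F)) (0 : Fin m → F)) = 0 := rfl
    rw [h1, h2, h3, dotProduct_zero, single_dotProduct, Pi.single_eq_same]
    ring

theorem eq_zero_of_fixed_eZ (hm : 0 < m) (h2 : (2 : F) ≠ 0) (hψ : ψ ≠ 1) (rV : Rk1 D ρ ψ)
    {a : F} (ha : a ≠ 0) (v : V) (hv : eZ D ρ ψ a v = v)
    (hfix : ∀ g : symplecticGroup (Fin m) F, ρ (D.iG g) v = v) : v = 0 := by
  -- `v` is fixed by the projector `eT 0`
  have h0 : eT (ρ.comp D.iG) ψ (0 : symAdd F m) v = v := by
    unfold eT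
    rw [LinearMap.smul_apply, LinearMap.sum_apply]
    have hterm : ∀ S : symAdd F m,
        (ψ (-(Matrix.trace (((0 : symAdd F m) : Matrix (Fin m) (Fin m) F) *
          (S : Matrix (Fin m) (Fin m) F)))) • (ρ.comp D.iG) (uQ S)) v = v := by
      intro S
      rw [LinearMap.smul_apply]
      show _ • ρ (D.iG (uQ S)) v = v
      rw [hfix, AddSubgroup.coe_zero, Matrix.zero_mul, Matrix.trace_zero, neg_zero,
        AddChar.map_zero_eq_one, one_smul]
    rw [Finset.sum_congr rfl (fun S _ => hterm S), Finset.sum_const, Finset.card_univ,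
      ← Nat.cast_smul_eq_nsmul ℂ, smul_smul, inv_mul_cancel₀, one_smul]
    exact_mod_cast (Fintype.card_pos (α := symAdd F m)).ne'
  -- hence an `A`-eigenvector with `d = 0`
  have h1 : v = eZ D ρ ψ a (pD D ρ ψ 0 v) := by
    have := LinearMap.congr_fun (eT_zero_mul_eZ D ρ ψ h2 hψ rV ha) v
    simp only [Module.End.mul_apply] at this
    rw [hv, h0] at this
    exact this
  have hA : ∀ (b : Fin m → F) (s : F), ρ (D.iH (Heis.ab b s)) v = ψ (a * s) • v := by
    intro b s
    rw [h1, rho_ab_eZ_pD, zero_dotProduct, mul_zero, add_zero]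
  -- the `G'`-conjugates of `A`
  have hC : ∀ (g : symplecticGroup (Fin m) F) (b : Fin m → F) (s : F),
      ρ (D.iH ⟨(g : Matrix (Fin m ⊕ Fin m) (Fin m ⊕ Fin m) F) *ᵥ (Sum.elim b (0 : Fin m → F)), s⟩) v
        = ψ (a * s) • v := by
    intro g b s
    have hc := D.conjG g (Heis.ab b s)
    have hc' : D.iH ⟨(g : Matrix (Fin m ⊕ Fin m) (Fin m ⊕ Fin m) F) *ᵥ
        (Sum.elim b (0 : Fin m → F)), s⟩ = D.iG g * D.iH (Heis.ab b s) * (D.iG g)⁻¹ := hc.symm
    rw [hc', map_mul ρ, map_mul ρ, ← map_inv, Module.End.mul_apply, Module.End.mul_apply, hfix,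
      hA, map_smul, hfix]
  by_contra hv0
  apply hψ
  -- all values `ψ (a r)` are one
  have hr : ∀ r : F, ψ (a * r) = 1 := by
    intro r
    have i : Fin m := ⟨0, hm⟩
    have e1 : ρ (D.iH ⟨Sum.elim (Pi.single i 1) (0 : Fin m → F), 0⟩) v = v := by
      have := hA (Pi.single i 1) 0
      rw [mul_zero, AddChar.map_zero_eq_one, one_smul] at this
      exact this
    have e2 : ρ (D.iH ⟨Sum.elim (Pi.single i 1) (Pi.single i r), 0⟩) v = v := by
      have := hC (lQ (symE i r)) (Pi.single i 1) 0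
      rw [lQ_mulVec_elim, symE_mulVec, mul_one, mul_zero, AddChar.map_zero_eq_one, one_smul] at this
      exact this
    have e3 : ρ (D.iH ⟨Sum.elim (Pi.single i 2) (Pi.single i r), r⟩) v = ψ (a * r) • v := by
      have := hC (lQ (symE i (r / 2))) (Pi.single i 2) r
      rw [lQ_mulVec_elim, symE_mulVec, div_mul_cancel₀ r h2] at this
      exact this
    rw [← heis_rel i r, map_mul D.iH, map_mul ρ, Module.End.mul_apply, e2, e1] at e3
    have h5 : (ψ (a * r) - 1) • v = 0 := by
      rw [sub_smul, one_smul, ← e3, sub_self]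
    rcases smul_eq_zero.1 h5 with h6 | h6
    · exact sub_eq_zero.1 h6
    · exact absurd h6 hv0
  ext x
  have := hr (a⁻¹ * x)
  rw [mul_inv_cancel_left₀ ha] at this
  rw [this]
  rfl

end fixed

end Cfsg.Agent.Lib.Helper6.SPW
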