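import Mathlib
import Cfsg.Agent.Lib.Helper6.SPWA7dC
import Cfsg.Agent.Lib.Helper3.SPWA5c
import Cfsg.Agent.Lib.Helper6.SPWR
import Cfsg.Agent.Lib.Helper6.ClassFun
import Cfsg.Agent.Lib.Helper6.CharOps

set_option autoImplicit false
set_option linter.unusedSectionVars false
set_option linter.unusedVariables false

/-!
Farm SPW, unit A7d: the constituents of `Ω_a` do not occur in `V_{a'}` when `a'/a` is a nonsquare.
-/

namespace Cfsg.Agent.Lib.Helper6.SPW

open Matrix Cfsg Cfsg.Agent.Lib.Helper6.Wl Cfsg.Agent.Lib.Helper4 Cfsg.Agent.Lib.Helper1.SPW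
open Module

section mult
variable {F : Type*} [Field F] [Fintype F] [DecidableEq F] {m : ℕ}
variable (ψ : AddChar F ℂ)

/-- multiplicity of the character `T'` of `Q'` in a class function of `Sp_{2m}` -/
noncomputable def mQ (χ : symplecticGroup (Fin m) F → ℂ) (T' : symAdd F m) : ℂ :=
  ((Fintype.card (symAdd F m) : ℂ))⁻¹ * ∑ S : symAdd F m,
    ψ (-(Matrix.trace ((T' : Matrix (Fin m) (Fin m) F) * (S : Matrix (Fin m) (Fin m) F)))) *
      χ (uQ S)

theorem mQ_smul (c : ℂ) (χ : symplecticGroup (Fin m) F → ℂ) (T' : symAdd F m) :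
    mQ ψ (c • χ) T' = c * mQ ψ χ T' := by
  unfold mQ
  have h : ∀ S : symAdd F m,
      ψ (-(Matrix.trace ((T' : Matrix (Fin m) (Fin m) F) * (S : Matrix (Fin m) (Fin m) F)))) *
        (c • χ) (uQ S) =
      c * (ψ (-(Matrix.trace ((T' : Matrix (Fin m) (Fin m) F) *
        (S : Matrix (Fin m) (Fin m) F)))) * χ (uQ S)) := by
    intro S
    show _ * (c * χ (uQ S)) = _
    ring
  rw [Finset.sum_congr rfl (fun S _ => h S), ← Finset.mul_sum]
  ring

theorem mQ_sum {ι : Type*} (s : Finset ι) (f : ι → symplecticGroup (Fin m) F → ℂ)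
    (T' : symAdd F m) : mQ ψ (∑ i ∈ s, f i) T' = ∑ i ∈ s, mQ ψ (f i) T' := by
  unfold mQ
  rw [← Finset.mul_sum]
  congr 1
  rw [Finset.sum_comm]
  apply Finset.sum_congr rfl
  intro S _
  rw [Finset.sum_apply, Finset.mul_sum]

theorem mQ_character {W : Type*} [AddCommGroup W] [Module ℂ W] [FiniteDimensional ℂ W]
    (σ : Representation ℂ (symplecticGroup (Fin m) F) W) (T' : symAdd F m) :
    mQ ψ σ.character T' = LinearMap.trace ℂ W (eT σ ψ T') :=
  (trace_eT σ ψ T').symm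

theorem mQ_irr_nat (θ : symplecticGroup (Fin m) F → ℂ)
    (hθ : IsIrrCharacter (symplecticGroup (Fin m) F) θ) (T' : symAdd F m) :
    ∃ k : ℕ, mQ ψ θ T' = k := by
  obtain ⟨n, σ, _, rfl⟩ := hθ
  exact ⟨_, by rw [mQ_character, ← finrank_range_eT]⟩

end mult

section main
variable {F : Type*} [Field F] [Fintype F] [DecidableEq F] {m : ℕ}
variable {G : Type*} [Group G] [Fintype G]
variable [Fintype (symplecticGroup (Fin m) F)]
variable (D : Datum F m G)
variable {V : Type*} [AddCommGroup V] [Module ℂ V] [FiniteDimensional ℂ V]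
variable {Ω : Type*} [AddCommGroup Ω] [Module ℂ Ω] [FiniteDimensional ℂ Ω]
variable (ρ : Representation ℂ G V) (ρΩ : Representation ℂ G Ω) (ψ : AddChar F ℂ)

theorem mQ_chiA (a : F) (T' : symAdd F m) :
    mQ ψ (chiA D ρ ψ a) T' =
      LinearMap.trace ℂ V (eT (ρ.comp D.iG) ψ T' * eZ D ρ ψ a) := by
  unfold mQ chiA
  rw [eT_mul, map_smul, smul_eq_mul, map_sum]
  congr 1
  apply Finset.sum_congr rfl
  intro S _
  rw [map_smul, smul_eq_mul]
  rfl

/-- a constituent of a character has no more `Q'`-spectrum than the character -/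
theorem mQ_eq_zero_of_constituent (χ : symplecticGroup (Fin m) F → ℂ)
    (hχ : IsCharacter (symplecticGroup (Fin m) F) χ)
    (τ : symplecticGroup (Fin m) F → ℂ) (hτ : IsIrrCharacter (symplecticGroup (Fin m) F) τ)
    (h1 : classInner χ τ ≠ 0) (T' : symAdd F m) (h0 : mQ ψ χ T' = 0) : mQ ψ τ T' = 0 := by
  classical
  haveI : Fintype (IrrCharacter (symplecticGroup (Fin m) F)) := Fintype.ofFinite _
  have hn : ∀ θ : IrrCharacter (symplecticGroup (Fin m) F),
      ∃ n : ℕ, classInner χ (θ : symplecticGroup (Fin m) F → ℂ) = n := fun θ =>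
    Cfsg.Agent.Lib.Helper6.IsCharacter.classInner_nat hχ
      (Cfsg.Agent.Lib.Helper6.IsIrrCharacter.isCharacter θ.2)
  choose nθ hnθ using hn
  have hk : ∀ θ : IrrCharacter (symplecticGroup (Fin m) F),
      ∃ k : ℕ, mQ ψ (θ : symplecticGroup (Fin m) F → ℂ) T' = k := fun θ =>
    mQ_irr_nat ψ _ θ.2 T'
  choose kθ hkθ using hk
  have hdec := Cfsg.Agent.Lib.Helper6.classFunction_eq_sum χ
    (Cfsg.Agent.Lib.Helper6.IsCharacter.isClassFunction hχ)
  have h2 : mQ ψ χ T' = ((∑ θ : IrrCharacter (symplecticGroup (Fin m) F), nθ θ * kθ θ : ℕ) : ℂ) := by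
    conv_lhs => rw [hdec]
    rw [mQ_sum]
    push_cast
    apply Finset.sum_congr rfl
    intro θ _
    rw [mQ_smul, hnθ, hkθ]
  rw [h2] at h0
  have h3 : ∑ θ : IrrCharacter (symplecticGroup (Fin m) F), nθ θ * kθ θ = 0 := by
    exact_mod_cast h0
  have h4 := (Finset.sum_eq_zero_iff.1 h3) ⟨τ, hτ⟩ (Finset.mem_univ _)
  have h5 : nθ ⟨τ, hτ⟩ ≠ 0 := by
    intro h
    apply h1
    have := hnθ ⟨τ, hτ⟩
    rw [h] at this
    simpa using this
  have h6 : kθ ⟨τ, hτ⟩ = 0 := (Nat.mul_eq_zero.1 h4).resolve_left h5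
  have := hkθ ⟨τ, hτ⟩
  rw [h6] at this
  simpa using this

/-- the two rank one families are disjoint off zero -/
theorem rank_one_disjoint {a a' : F} (ha : a ≠ 0) (ha' : a' ≠ 0) (hns : ¬ IsSquare (a' / a))
    (T' : Matrix (Fin m) (Fin m) F) (hT' : T' ≠ 0) :
    (¬ ∃ d : Fin m → F, T' = a⁻¹ • vecMulVec d d) ∨
      (¬ ∃ d : Fin m → F, T' = a'⁻¹ • vecMulVec d d) := by
  by_contra hcon
  push Not at hcon
  obtain ⟨⟨d, hd⟩, ⟨d', hd'⟩⟩ := hcon
  have hd0 : d ≠ 0 := by
    intro h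
    apply hT'
    rw [hd, (smul_vecMulVec_eq_zero_iff ha d).2 h]
  obtain ⟨i, hi⟩ : ∃ i, d i ≠ 0 := by
    by_contra h
    push Not at h
    exact hd0 (funext h)
  apply hns
  have h1 : a⁻¹ * (d i * d i) = a'⁻¹ * (d' i * d' i) := by
    have := congrFun (congrFun (hd.symm.trans hd') i) i
    simpa [Matrix.smul_apply, vecMulVec_apply] using this
  refine ⟨d' i / d i, ?_⟩
  field_simp
  field_simp at h1
  linear_combination h1

/-- **Unit A7d** -/
theorem chiA_disjoint (hm : 0 < m) (hodd : Odd (Fintype.card F)) (hψ : ψ ≠ 1) {a a' : F}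
    (ha : a ≠ 0) (ha' : a' ≠ 0) (hns : ¬ IsSquare (a' / a))
    (rV : Rk1 D ρ ψ) (rΩ : Rk1 D ρΩ ψ)
    (hΩa : LinearMap.trace ℂ Ω (eZ D ρΩ ψ a) = (Fintype.card F : ℂ) ^ m)
    (τ : symplecticGroup (Fin m) F → ℂ) (hτ : IsIrrCharacter (symplecticGroup (Fin m) F) τ)
    (h1 : classInner (chiA D ρΩ ψ a) τ ≠ 0) : classInner (chiA D ρ ψ a') τ = 0 := by
  have h2 : (2 : F) ≠ 0 := two_ne_zero_of_odd hodd
  by_contra h1'
  -- the `Q'`-spectrum of `τ` is trivial
  have hsp : ∀ T' : symAdd F m, T' ≠ 0 → mQ ψ τ T' = 0 := by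
    intro T' hT'
    have hT'm : (T' : Matrix (Fin m) (Fin m) F) ≠ 0 := fun h => hT' (Subtype.ext h)
    rcases rank_one_disjoint ha ha' hns _ hT'm with h | h
    · apply mQ_eq_zero_of_constituent ψ _
        (Cfsg.Agent.Lib.Helper3.SPW.isCharacter_chiA D ρΩ ψ a) τ hτ h1
      rw [mQ_chiA, eT_mul_eZ_eq_zero D ρΩ ψ h2 hψ rΩ ha T' h, map_zero]
    · apply mQ_eq_zero_of_constituent ψ _
        (Cfsg.Agent.Lib.Helper3.SPW.isCharacter_chiA D ρ ψ a') τ hτ h1'
      rw [mQ_chiA, eT_mul_eZ_eq_zero D ρ ψ h2 hψ rV ha' T' h, map_zero]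
  obtain ⟨n, σ, hσ, rfl⟩ := hτ
  -- the projectors `eT T'`, `T' ≠ 0`, vanish
  have he : ∀ T' : symAdd F m, T' ≠ 0 → eT σ ψ T' = 0 := by
    intro T' hT'
    have h3 := hsp T' hT'
    rw [mQ_character, ← finrank_range_eT] at h3
    have h4 : Module.finrank ℂ (LinearMap.range (eT σ ψ T')) = 0 := by exact_mod_cast h3
    have h5 : LinearMap.range (eT σ ψ T') = ⊥ := Submodule.finrank_eq_zero.1 h4
    exact LinearMap.range_eq_bot.1 h5
  have he0 : eT σ ψ (0 : symAdd F m) = 1 := by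
    classical
    have h3 := sum_eT σ ψ h2 hψ
    rw [Finset.sum_eq_single (0 : symAdd F m) (fun T' _ hT' => he T' hT')
      (fun h => absurd (Finset.mem_univ _) h)] at h3
    exact h3
  have hQ : ∀ S : symAdd F m, σ (uQ S) = 1 := by
    intro S
    have h3 := rho_mul_eT σ ψ S (0 : symAdd F m)
    rw [he0, mul_one, AddSubgroup.coe_zero, Matrix.zero_mul, Matrix.trace_zero,
      AddChar.map_zero_eq_one, one_smul] at h3
    exact h3
  have htriv := rho_trivial_of_uQ σ hm hQ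
  -- so `τ` is a multiple of the trivial character, which does not occur in `Ω_a`
  apply h1
  have hsum : (∑ g : symplecticGroup (Fin m) F, ρΩ (D.iG g)) * eZ D ρΩ ψ a = 0 := by
    apply LinearMap.ext
    intro u
    rw [LinearMap.zero_apply]
    apply eq_zero_of_fixed_eZ D ρΩ ψ hm h2 hψ rΩ ha
    · have hc : eZ D ρΩ ψ a * ((∑ g : symplecticGroup (Fin m) F, ρΩ (D.iG g)) * eZ D ρΩ ψ a) =
          (∑ g : symplecticGroup (Fin m) F, ρΩ (D.iG g)) * eZ D ρΩ ψ a := by
        rw [← mul_assoc, Finset.mul_sum]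
        have : ∀ g : symplecticGroup (Fin m) F,
            eZ D ρΩ ψ a * ρΩ (D.iG g) = ρΩ (D.iG g) * eZ D ρΩ ψ a :=
          fun g => (eZ_comm_iG D ρΩ ψ g a).symm
        rw [Finset.sum_congr rfl (fun g _ => this g), ← Finset.sum_mul, mul_assoc, eZ_idem]
      exact LinearMap.congr_fun hc u
    · intro h
      have hc : ρΩ (D.iG h) * ((∑ g : symplecticGroup (Fin m) F, ρΩ (D.iG g)) * eZ D ρΩ ψ a) =
          (∑ g : symplecticGroup (Fin m) F, ρΩ (D.iG g)) * eZ D ρΩ ψ a := by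
        rw [← mul_assoc, Finset.mul_sum]
        congr 1
        rw [← Equiv.sum_comp (Equiv.mulLeft h) (fun g => ρΩ (D.iG g))]
        apply Finset.sum_congr rfl
        intro g _
        simp only [Equiv.coe_mulLeft]
        rw [map_mul D.iG, map_mul ρΩ]
      exact LinearMap.congr_fun hc u
  unfold classInner chiA
  have h3 : ∑ g : symplecticGroup (Fin m) F,
      LinearMap.trace ℂ Ω (ρΩ (D.iG g) * eZ D ρΩ ψ a) * (starRingEnd ℂ) (σ.character g) = 0 := by
    have h4 : ∀ g : symplecticGroup (Fin m) F, σ.character g = σ.character 1 := by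
      intro g
      unfold Representation.character
      rw [htriv g, htriv 1]
    rw [Finset.sum_congr rfl (fun g _ => by rw [h4 g]), ← Finset.sum_mul, ← map_sum,
      ← Finset.sum_mul, hsum, map_zero, zero_mul]
  rw [h3, mul_zero]

end main

end Cfsg.Agent.Lib.Helper6.SPW
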