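import Mathlib
import Cfsg.Agent.Lib.Helper1.SPWDefs2
import Cfsg.Agent.Lib.Helper6.CenterIndex

set_option autoImplicit false
set_option linter.unusedSectionVars false
set_option linter.unusedVariables false

/-!
Farm SPW, unit B1: the `U`-multiplicities and the central sign of the `τ`-components.
-/

namespace Cfsg.Agent.Lib.Helper6.SPW

open Matrix Cfsg Cfsg.Agent.Lib.Helper6.Wl Cfsg.Agent.Lib.Helper4 Cfsg.Agent.Lib.Helper1.SPW
open Module

section abstract
variable {F : Type*} [Field F] [Fintype F] [DecidableEq F] {m : ℕ}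
variable {G : Type*} [Group G] [Fintype G]
variable [Fintype (symplecticGroup (Fin m) F)]
variable (D : Datum F m G)
variable {V : Type*} [AddCommGroup V] [Module ℂ V] [FiniteDimensional ℂ V]
variable {Ω : Type*} [AddCommGroup Ω] [Module ℂ Ω] [FiniteDimensional ℂ Ω]
variable (ρ : Representation ℂ G V) (ρΩ : Representation ℂ G Ω) (ψ : AddChar F ℂ)

/-- `iS (upperU x) = iH (cen x)` (`D.cenU`) -/
theorem mU_comp (τ : symplecticGroup (Fin m) F → ℂ) (a : F) :
    mU ψ (Cfsg.Agent.Lib.Helper1.SPW.comp D ρ τ) a = classInner (chiA D ρ ψ a) τ := by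
  unfold mU Cfsg.Agent.Lib.Helper1.SPW.comp classInner chiA eZ
  rw [Nat.card_eq_fintype_card]
  have h1 : ∀ g : symplecticGroup (Fin m) F,
      LinearMap.trace ℂ V (ρ (D.iG g) *
        ((Fintype.card F : ℂ)⁻¹ • ∑ x : F, ψ (-(a * x)) • ρ (D.iH (Heis.cen x)))) =
      (Fintype.card F : ℂ)⁻¹ * ∑ x : F, ψ (-(a * x)) *
        LinearMap.trace ℂ V (ρ (D.iS (upperU x) * D.iG g)) := by
    intro g
    rw [mul_smul_comm, map_smul, smul_eq_mul, Finset.mul_sum, map_sum]
    congr 1
    apply Finset.sum_congr rfl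
    intro x _
    rw [mul_smul_comm, map_smul, smul_eq_mul, D.cenU, ← map_mul ρ, D.comm]
  simp only [h1]
  simp only [Finset.mul_sum, Finset.sum_mul]
  rw [Finset.sum_comm]
  apply Finset.sum_congr rfl
  intro g _
  apply Finset.sum_congr rfl
  intro x _
  ring

theorem negSp_mem_center : (negSp : symplecticGroup (Fin m) F) ∈
    Subgroup.center (symplecticGroup (Fin m) F) := by
  rw [Subgroup.mem_center_iff]
  intro g
  apply Subtype.ext
  show (g : Matrix (Fin m ⊕ Fin m) (Fin m ⊕ Fin m) F) * (-1) =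
    (-1) * (g : Matrix (Fin m ⊕ Fin m) (Fin m ⊕ Fin m) F)
  simp

theorem negSp_sq : (negSp : symplecticGroup (Fin m) F) * negSp = 1 := by
  apply Subtype.ext
  show (-1 : Matrix (Fin m ⊕ Fin m) (Fin m ⊕ Fin m) F) * (-1) = 1
  simp

/-- the central character relation for the central involution -/
theorem irr_negSp_mul (τ : symplecticGroup (Fin m) F → ℂ)
    (hτ : IsIrrCharacter (symplecticGroup (Fin m) F) τ) (g : symplecticGroup (Fin m) F) :
    τ 1 * τ (negSp * g) = τ negSp * τ g := by
  obtain ⟨n, ρ', hirr, rfl⟩ := hτ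
  haveI := hirr
  obtain ⟨c, hc, -⟩ := Cfsg.Agent.Lib.Helper6.exists_scalar_of_mem_center ρ'
    (negSp_mem_center (F := F) (m := m))
  have h1 : ρ'.character (negSp * g) = c * ρ'.character g := by
    unfold Representation.character
    rw [map_mul, hc, smul_mul_assoc, map_smul, smul_eq_mul]
    rfl
  have h2 : ρ'.character negSp = c * ρ'.character 1 := by
    unfold Representation.character
    rw [hc, map_smul, smul_eq_mul, map_one]
    rfl
  rw [h1, h2]
  ring

theorem irr_one_real (τ : symplecticGroup (Fin m) F → ℂ)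
    (hτ : IsIrrCharacter (symplecticGroup (Fin m) F) τ) : (starRingEnd ℂ) (τ 1) = τ 1 := by
  obtain ⟨n, ρ', hirr, rfl⟩ := hτ
  rw [Representation.char_one]
  simp

/-- `iS (-1) = z₀ (iG negSp)⁻¹`, and `negSp` is a scalar `τ(negSp)/τ(1)` on the `τ`-component -/
theorem comp_neg (τ : symplecticGroup (Fin m) F → ℂ)
    (hτ : IsIrrCharacter (symplecticGroup (Fin m) F) τ) (s : ℂ)
    (hs : ρ (D.iS (-1) * D.iG negSp) = s • 1) (x : Matrix.SpecialLinearGroup (Fin 2) F) :
    τ 1 * Cfsg.Agent.Lib.Helper1.SPW.comp D ρ τ (-x) =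
      s * (starRingEnd ℂ) (τ negSp) * Cfsg.Agent.Lib.Helper1.SPW.comp D ρ τ x := by
  unfold Cfsg.Agent.Lib.Helper1.SPW.comp
  have h1 : ∀ g : symplecticGroup (Fin m) F,
      LinearMap.trace ℂ V (ρ (D.iS (-x) * D.iG g)) =
        s * LinearMap.trace ℂ V (ρ (D.iS x * D.iG (negSp * g))) := by
    intro g
    have he : D.iS (-x) * D.iG g =
        (D.iS (-1) * D.iG negSp) * (D.iS x * D.iG (negSp * g)) := by
      have hx : -x = -1 * x := (neg_one_mul x).symm
      have hc : D.iG negSp * D.iS x = D.iS x * D.iG negSp := (D.comm x negSp).symm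
      have hn : D.iG (negSp : symplecticGroup (Fin m) F) * D.iG negSp = 1 := by
        rw [← map_mul, negSp_sq, map_one]
      rw [hx, map_mul, map_mul]
      calc D.iS (-1) * D.iS x * D.iG g
          = D.iS (-1) * D.iS x * (D.iG negSp * D.iG negSp) * D.iG g := by rw [hn, mul_one]
        _ = D.iS (-1) * (D.iS x * D.iG negSp) * D.iG negSp * D.iG g := by
            simp only [mul_assoc]
        _ = D.iS (-1) * (D.iG negSp * D.iS x) * D.iG negSp * D.iG g := by rw [hc]
        _ = D.iS (-1) * D.iG negSp * (D.iS x * (D.iG negSp * D.iG g)) := by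
            simp only [mul_assoc]
    rw [he, map_mul ρ, hs, smul_mul_assoc, one_mul, map_smul, smul_eq_mul]
  simp only [h1]
  -- reindex the sum
  have h2 : ∑ g : symplecticGroup (Fin m) F,
      s * LinearMap.trace ℂ V (ρ (D.iS x * D.iG (negSp * g))) * (starRingEnd ℂ) (τ g) =
      ∑ g : symplecticGroup (Fin m) F,
        s * LinearMap.trace ℂ V (ρ (D.iS x * D.iG g)) * (starRingEnd ℂ) (τ (negSp * g)) := by
    rw [← Equiv.sum_comp (Equiv.mulLeft (negSp : symplecticGroup (Fin m) F))
      (fun g => s * LinearMap.trace ℂ V (ρ (D.iS x * D.iG g)) * (starRingEnd ℂ) (τ (negSp * g)))]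
    apply Finset.sum_congr rfl
    intro g _
    simp only [Equiv.coe_mulLeft]
    rw [← mul_assoc negSp negSp g, negSp_sq, one_mul]
  rw [h2]
  have h3 : ∀ g : symplecticGroup (Fin m) F,
      τ 1 * (starRingEnd ℂ) (τ (negSp * g)) = (starRingEnd ℂ) (τ negSp) * (starRingEnd ℂ) (τ g) := by
    intro g
    rw [← irr_one_real τ hτ, ← map_mul, irr_negSp_mul τ hτ g, map_mul]
  rw [Finset.mul_sum, Finset.mul_sum, Finset.mul_sum, Finset.mul_sum]
  apply Finset.sum_congr rfl
  intro g _
  have := h3 g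
  linear_combination (↑(Fintype.card ↥(symplecticGroup (Fin m) F)) : ℂ)⁻¹ * s *
    LinearMap.trace ℂ V (ρ (D.iS x * D.iG g)) * this

end abstract

end Cfsg.Agent.Lib.Helper6.SPW
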