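import Mathlib
import Cfsg.Agent.Lib.Helper1.SPWDefs2

set_option autoImplicit false
set_option linter.unusedSectionVars false
set_option linter.unusedVariables false

/-!
Farm SPW, unit B1c: the `τ`-components have no trivial constituent on `SL₂` (given unit A6 as a
hypothesis).
-/

namespace Cfsg.Agent.Lib.Helper6.SPW

open Matrix Cfsg Cfsg.Agent.Lib.Helper6.Wl Cfsg.Agent.Lib.Helper4 Cfsg.Agent.Lib.Helper1.SPW
open Module

section abstract
variable {F : Type*} [Field F] [Fintype F] [DecidableEq F] {m : ℕ}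
variable {G : Type*} [Group G] [Fintype G]
variable [Fintype (symplecticGroup (Fin m) F)]
variable (D : Datum F m G)
variable {V : Type*} [AddCommGroup V] [Module ℂ V] [FiniteDimensional ℂ V]
variable {Ω : Type*} [AddCommGroup Ω] [Module ℂ Ω] [FiniteDimensional ℂ Ω]
variable (ρ : Representation ℂ G V) (ρΩ : Representation ℂ G Ω) (ψ : AddChar F ℂ)

/-- an irreducible nontrivial module has no nonzero fixed vector -/
theorem eq_zero_of_fixed (hirr : ρ.IsIrreducible) (hnt : ∃ g : G, ρ g ≠ 1) (v : V)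
    (hv : ∀ g : G, ρ g v = v) : v = 0 := by
  by_contra hv0
  let U : Subrepresentation ρ := ⟨Submodule.span ℂ {v}, by
    intro g x hx
    obtain ⟨c, rfl⟩ := Submodule.mem_span_singleton.1 hx
    rw [map_smul, hv g]
    exact Submodule.smul_mem _ _ (Submodule.mem_span_singleton_self v)⟩
  rcases hirr.eq_bot_or_eq_top U with hU | hU
  · have h1 : U.toSubmodule = ⊥ := by rw [hU]; rfl
    have : v ∈ (⊥ : Submodule ℂ V) := by
      rw [← h1]
      exact Submodule.mem_span_singleton_self v
    exact hv0 ((Submodule.mem_bot ℂ).1 this)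
  · have h1 : U.toSubmodule = ⊤ := by rw [hU]; rfl
    obtain ⟨g, hg⟩ := hnt
    apply hg
    apply LinearMap.ext
    intro w
    have hw : w ∈ Submodule.span ℂ {v} := by
      rw [show Submodule.span ℂ {v} = ⊤ from h1]
      exact Submodule.mem_top
    obtain ⟨c, rfl⟩ := Submodule.mem_span_singleton.1 hw
    rw [map_smul, hv g]
    rfl

/-- the averaging operator of `iS (SL₂)` vanishes -/
theorem sum_iS_eq_zero_of
    (hfix : ∀ v : V, (∀ x : Matrix.SpecialLinearGroup (Fin 2) F, ρ (D.iS x) v = v) →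
      ∀ g : G, ρ g v = v)
    (hirr : ρ.IsIrreducible) (hnt : ∃ g : G, ρ g ≠ 1) :
    ∑ x : Matrix.SpecialLinearGroup (Fin 2) F, ρ (D.iS x) = 0 := by
  apply LinearMap.ext
  intro v
  rw [LinearMap.sum_apply, LinearMap.zero_apply]
  apply eq_zero_of_fixed ρ hirr hnt
  apply hfix
  intro y
  rw [map_sum]
  rw [← Equiv.sum_comp (Equiv.mulLeft y) (fun x => ρ (D.iS x) v)]
  apply Finset.sum_congr rfl
  intro x _
  simp only [Equiv.coe_mulLeft]
  rw [map_mul, map_mul]
  rfl

/-- **Unit B1c**, with the statement of A6 (`fixed_of_iS_fixed`) as a hypothesis -/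
theorem comp_inner_one_of
    (hfix : ∀ v : V, (∀ x : Matrix.SpecialLinearGroup (Fin 2) F, ρ (D.iS x) v = v) →
      ∀ g : G, ρ g v = v)
    (hirr : ρ.IsIrreducible) (hnt : ∃ g : G, ρ g ≠ 1)
    (τ : symplecticGroup (Fin m) F → ℂ) :
    classInner (Cfsg.Agent.Lib.Helper1.SPW.comp D ρ τ) (fun _ => (1 : ℂ)) = 0 := by
  have hP := sum_iS_eq_zero_of D ρ hfix hirr hnt
  unfold classInner Cfsg.Agent.Lib.Helper1.SPW.comp
  have h1 : ∑ x : Matrix.SpecialLinearGroup (Fin 2) F,
      ((Fintype.card (symplecticGroup (Fin m) F) : ℂ))⁻¹ *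
        (∑ g : symplecticGroup (Fin m) F,
          LinearMap.trace ℂ V (ρ (D.iS x * D.iG g)) * (starRingEnd ℂ) (τ g)) *
        (starRingEnd ℂ) (1 : ℂ) = 0 := by
    simp only [map_one, mul_one]
    rw [← Finset.mul_sum, Finset.sum_comm]
    have h2 : ∀ g : symplecticGroup (Fin m) F,
        ∑ x : Matrix.SpecialLinearGroup (Fin 2) F,
          LinearMap.trace ℂ V (ρ (D.iS x * D.iG g)) * (starRingEnd ℂ) (τ g) = 0 := by
      intro g
      rw [← Finset.sum_mul]
      have h3 : ∑ x : Matrix.SpecialLinearGroup (Fin 2) F,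
          LinearMap.trace ℂ V (ρ (D.iS x * D.iG g)) =
          LinearMap.trace ℂ V ((∑ x : Matrix.SpecialLinearGroup (Fin 2) F, ρ (D.iS x)) *
            ρ (D.iG g)) := by
        rw [Finset.sum_mul, map_sum]
        apply Finset.sum_congr rfl
        intro x _
        rw [map_mul ρ]
      rw [h3, hP, zero_mul, map_zero, zero_mul]
    rw [Finset.sum_congr rfl (fun g _ => h2 g), Finset.sum_const_zero, mul_zero]
  rw [h1, mul_zero]

end abstract

end Cfsg.Agent.Lib.Helper6.SPW
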