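import Mathlib
import Cfsg.Agent.Lib.Helper6.SPWB1c
import Cfsg.Agent.Lib.Helper4.SPWA6

set_option autoImplicit false
set_option linter.unusedSectionVars false
set_option linter.unusedVariables false

/-!
Farm SPW, unit B1c, verbatim form (with unit A6 of helper4).
-/

namespace Cfsg.Agent.Lib.Helper6.SPW

open Matrix Cfsg Cfsg.Agent.Lib.Helper6.Wl Cfsg.Agent.Lib.Helper4 Cfsg.Agent.Lib.Helper1.SPW
open Module

section abstract
variable {F : Type*} [Field F] [Fintype F] [DecidableEq F] {m : ℕ}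
variable {G : Type*} [Group G] [Fintype G]
variable [Fintype (symplecticGroup (Fin m) F)]
variable (D : Datum F m G)
variable {V : Type*} [AddCommGroup V] [Module ℂ V] [FiniteDimensional ℂ V]
variable {Ω : Type*} [AddCommGroup Ω] [Module ℂ Ω] [FiniteDimensional ℂ Ω]
variable (ρ : Representation ℂ G V) (ρΩ : Representation ℂ G Ω) (ψ : AddChar F ℂ)

/-- **Unit B1c**: no `iS(SL₂)`-fixed vectors (A6) -/
theorem comp_inner_one (hm : 0 < m)
    (rV : Rk1 D ρ ψ) (hirr : ρ.IsIrreducible) (hnt : ∃ g : G, ρ g ≠ 1)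
    (τ : symplecticGroup (Fin m) F → ℂ)
    (hτ : IsIrrCharacter (symplecticGroup (Fin m) F) τ) :
    classInner (Cfsg.Agent.Lib.Helper1.SPW.comp D ρ τ) (fun _ => (1 : ℂ)) = 0 :=
  comp_inner_one_of D ρ
    (fun v hv g => Cfsg.Agent.Lib.Helper4.SPWB.fixed_of_iS_fixed D ρ ψ hm rV v hv g) hirr hnt τ

end abstract

end Cfsg.Agent.Lib.Helper6.SPW
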