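import Mathlib
import Cfsg.Agent.Lib.Helper5.SPWIDefs
import Cfsg.Agent.Lib.Helper5.SPEDefs
import Cfsg.Agent.Lib.Helper6.SPWR

set_option autoImplicit false
set_option linter.unusedSectionVars false
set_option linter.unusedVariables false

/-!
Farm SPW (statement S2524), Part I in helper5's shapes (`Cfsg/Agent/Lib/Helper5/SPWIStubs.lean`):
unit IF verbatim, and units IG (orbit bound) and IZ (gap) with units IC and IE as hypotheses.
-/

namespace Cfsg.Agent.Lib.Helper6.SPWI

open Matrix Cfsg Cfsg.Agent.Lib.Helper6.Wl Cfsg.Agent.Lib.Helper1.SPE Cfsg.Agent.Lib.Helper5.SPWI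
open Cfsg.Agent.Lib.Helper6.SPW

variable {F : Type*} [Field F] [Fintype F] [DecidableEq F]

theorem disc_ne_zero_iff {n : ℕ} (Q : (Fin n → F) → F) (x y : Fin n → F) :
    disc Q x y ≠ 0 ↔ 4 * Q x * Q y - polF Q x y * polF Q x y ≠ 0 := by
  unfold disc
  constructor
  · intro h h0
    apply h
    linear_combination -h0
  · intro h h0
    apply h
    linear_combination -h0

/-- unit IF of helper5's stubs, verbatim -/
theorem card_orbit_pairs_ge_odd {m : ℕ} (T : Matrix (Fin (m + 2)) (Fin (m + 2)) F)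
    (hd : 4 * qf T (Pi.single 0 1) * qf T (Pi.single 1 1) -
      polF (qf T) (Pi.single 0 1) (Pi.single 1 1) * polF (qf T) (Pi.single 0 1) (Pi.single 1 1) ≠ 0)
    (x y : Fin (m + 2) → F) (h : GL (Fin (m + 2)) F)
    (hx : (h : Matrix (Fin (m + 2)) (Fin (m + 2)) F) *ᵥ Pi.single 0 1 = x)
    (hy : (h : Matrix (Fin (m + 2)) (Fin (m + 2)) F) *ᵥ Pi.single 1 1 = y) :
    Fintype.card F ^ (2 * m) ≤ ((qOrbit T).filter (fun Q' =>
      Q' x = qf T (Pi.single 0 1) ∧ Q' y = qf T (Pi.single 1 1) ∧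
      polF Q' x y = polF (qf T) (Pi.single 0 1) (Pi.single 1 1))).card :=
  card_orbit_pairs_ge_disc T ((disc_ne_zero_iff _ _ _).2 hd) x y h hx hy

/-- a pair with nondegenerate Gram matrix is independent -/
theorem indep_of_disc {n : ℕ} (T : Matrix (Fin n) (Fin n) F) (x y : Fin n → F)
    (h : disc (qf T) x y ≠ 0) : ∀ s t : F, s • x + t • y = 0 → s = 0 ∧ t = 0 := by
  have hQs : ∀ (r : F) (v : Fin n → F), qf T (r • v) = r * r * qf T v := by
    intro r v
    unfold qf
    rw [mulVec_smul, dotProduct_smul, smul_dotProduct, smul_eq_mul, smul_eq_mul]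
    ring
  have hPs : ∀ (r : F) (v w : Fin n → F), polF (qf T) (r • v) w = r * polF (qf T) v w := by
    intro r v w
    rw [Cfsg.Agent.Lib.Helper6.SPE.polF_qf_comm, Cfsg.Agent.Lib.Helper6.SPE.polF_qf_smul_right,
      Cfsg.Agent.Lib.Helper6.SPE.polF_qf_comm]
  intro s t hst
  by_contra hcon
  apply h
  by_cases hs : s = 0
  · have ht : t ≠ 0 := fun ht => hcon ⟨hs, ht⟩
    have hy : y = 0 := by
      rw [hs, zero_smul, zero_add] at hst
      rcases smul_eq_zero.1 hst with h1 | h1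
      · exact absurd h1 ht
      · exact h1
    unfold disc
    have h1 : qf T y = 0 := by rw [hy]; unfold qf; simp
    have h2 : polF (qf T) x y = 0 := by
      rw [hy]; unfold polF qf; simp
    rw [h1, h2]; ring
  · have hx : x = (-(t / s)) • y := by
      have : s • x = -(t • y) := eq_neg_of_add_eq_zero_left hst
      have h1 : x = s⁻¹ • (s • x) := by rw [smul_smul, inv_mul_cancel₀ hs, one_smul]
      rw [h1, this, smul_neg, smul_smul, neg_smul]
      congr 2
      field_simp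
    unfold disc
    rw [hx, hQs, hPs, polF_qf_self']
    ring

/-- unit IG (orbit bound) in helper5's shape, with units IC and IE as hypotheses -/
theorem orbit_bound_odd_of
    (hIE : ∀ {m : ℕ} (T : Matrix (Fin (m + 2)) (Fin (m + 2)) F),
      4 * qf T (Pi.single 0 1) * qf T (Pi.single 1 1) -
        polF (qf T) (Pi.single 0 1) (Pi.single 1 1) *
          polF (qf T) (Pi.single 0 1) (Pi.single 1 1) ≠ 0 →
      (Ani (qf T) (Pi.single 0 1) (Pi.single 1 1) ∨
        Hyp (qf T) (Pi.single 0 1) (Pi.single 1 1)) →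
      (Finset.univ.filter (fun p : (Fin (m + 2) → F) × (Fin (m + 2) → F) =>
        qf T p.1 = qf T (Pi.single 0 1) ∧ qf T p.2 = qf T (Pi.single 1 1) ∧
        polF (qf T) p.1 p.2 = polF (qf T) (Pi.single 0 1) (Pi.single 1 1))).card ≤
        2 * (Fintype.card F + 1) * Fintype.card F ^ (2 * m))
    {n : ℕ} (hn : 2 ≤ n) (T : Matrix (Fin n) (Fin n) F)
    (hIC : ∃ x₀ y₀ : Fin n → F,
      4 * qf T x₀ * qf T y₀ - polF (qf T) x₀ y₀ * polF (qf T) x₀ y₀ ≠ 0 ∧
      (Ani (qf T) x₀ y₀ ∨ Hyp (qf T) x₀ y₀)) :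
    (Fintype.card F ^ n - 1) * (Fintype.card F ^ n - Fintype.card F) ≤
      2 * (Fintype.card F + 1) * (qOrbit T).card := by
  have hE : PairsLe F := by
    intro m T' hd hcase
    exact hIE T' ((disc_ne_zero_iff _ _ _).1 hd) hcase
  obtain ⟨x₀, y₀, hd, hcase⟩ := hIC
  exact Cfsg.Agent.Lib.Helper6.SPW.orbit_bound_odd_of hE hn T
    ⟨x₀, y₀, (disc_ne_zero_iff _ _ _).2 hd, hcase⟩
    (fun x y h => indep_of_disc T x y h)

section rep
variable {n : ℕ} {V : Type*} [AddCommGroup V] [Module ℂ V] [FiniteDimensional ℂ V]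
variable (ρ : Representation ℂ (symplecticGroup (Fin n) F) V) (ψ : AddChar F ℂ)

theorem eC_coe (T : symAdd F n) :
    Cfsg.Agent.Lib.Helper5.SPE.eC ρ ψ (T : Matrix (Fin n) (Fin n) F) = eT ρ ψ T := rfl

end rep

end Cfsg.Agent.Lib.Helper6.SPWI
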