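import Mathlib
import Cfsg.Agent.Lib.Helper5.SPEDefs

set_option autoImplicit false
set_option linter.unusedSectionVars false
set_option linter.unusedVariables false

/-!
# Farm SPE (S2333), unit P: the projectors `eC` (port of `WlC` / helper3 `MNUP`)
-/

namespace Cfsg.Agent.Lib.Helper6.SPE

open Matrix Cfsg Cfsg.Agent.Lib.Helper6.Wl Cfsg.Agent.Lib.Helper5.SPE

section unitP
variable {F : Type*} [Field F] [Fintype F] [DecidableEq F] {n : ℕ}
variable {V : Type*} [AddCommGroup V] [Module ℂ V] [FiniteDimensional ℂ V]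
variable (ρ : Representation ℂ (symplecticGroup (Fin n) F) V) (ψ : AddChar F ℂ)

/-- `tr (D (a x xᵀ)) = a qf D x` -/
theorem trace_mul_vecMulVec (D : Matrix (Fin n) (Fin n) F) (a : F) (x : Fin n → F) :
    Matrix.trace (D * (a • vecMulVec x x)) = a * qf D x := by
  rw [Matrix.mul_smul, Matrix.trace_smul, smul_eq_mul, mul_vecMulVec, trace_vecMulVec,
    dotProduct_comm]
  rfl

theorem rho_mul_eC (S0 : symAdd F n) (C : Matrix (Fin n) (Fin n) F) :
    ρ (uQ S0) * eC ρ ψ C = ψ (Matrix.trace (C * (S0 : Matrix (Fin n) (Fin n) F))) • eC ρ ψ C := by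
  have key : ρ (uQ S0) * ∑ S : symAdd F n,
      ψ (-(Matrix.trace (C * (S : Matrix (Fin n) (Fin n) F)))) • ρ (uQ S) =
      ψ (Matrix.trace (C * (S0 : Matrix (Fin n) (Fin n) F))) •
        ∑ S : symAdd F n,
      ψ (-(Matrix.trace (C * (S : Matrix (Fin n) (Fin n) F)))) • ρ (uQ S) := by
    rw [Finset.mul_sum, Finset.smul_sum]
    refine Fintype.sum_equiv (Equiv.addLeft S0)
      (fun S : symAdd F n => ρ (uQ S0) * (ψ (-(Matrix.trace (C *
        (S : Matrix (Fin n) (Fin n) F)))) • ρ (uQ S)))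
      (fun S : symAdd F n => ψ (Matrix.trace (C *
        (S0 : Matrix (Fin n) (Fin n) F))) • (ψ (-(Matrix.trace (C *
        (S : Matrix (Fin n) (Fin n) F)))) • ρ (uQ S))) ?_
    intro S
    show ρ (uQ S0) * (ψ (-(Matrix.trace (C *
        (S : Matrix (Fin n) (Fin n) F)))) • ρ (uQ S)) =
      ψ (Matrix.trace (C *
        (S0 : Matrix (Fin n) (Fin n) F))) • (ψ (-(Matrix.trace (C *
        ((S0 + S : symAdd F n) : Matrix (Fin n) (Fin n) F)))) • ρ (uQ (S0 + S)))
    rw [mul_smul_comm, ← MonoidHom.map_mul ρ, ← uQ_add, smul_smul]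
    congr 1
    rw [← AddChar.map_add_eq_mul]
    congr 1
    rw [AddSubgroup.coe_add, Matrix.mul_add, Matrix.trace_add]
    ring
  unfold eC
  rw [mul_smul_comm, key, smul_comm]

theorem rho_uQ_comm (S S' : symAdd F n) : ρ (uQ S) * ρ (uQ S') = ρ (uQ S') * ρ (uQ S) := by
  rw [← MonoidHom.map_mul ρ, ← MonoidHom.map_mul ρ, ← uQ_add, ← uQ_add, add_comm]

theorem eC_comm_rho (S0 : symAdd F n) (C : Matrix (Fin n) (Fin n) F) :
    eC ρ ψ C * ρ (uQ S0) = ρ (uQ S0) * eC ρ ψ C := by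
  unfold eC
  rw [smul_mul_assoc, mul_smul_comm, Finset.sum_mul, Finset.mul_sum]
  congr 1
  refine Finset.sum_congr rfl ?_
  intro S _
  rw [smul_mul_assoc, mul_smul_comm, rho_uQ_comm]

theorem eC_mul_rho (S0 : symAdd F n) (C : Matrix (Fin n) (Fin n) F) :
    eC ρ ψ C * ρ (uQ S0) = ψ (Matrix.trace (C * (S0 : Matrix (Fin n) (Fin n) F))) • eC ρ ψ C := by
  rw [eC_comm_rho, rho_mul_eC]

theorem eC_mul (C : Matrix (Fin n) (Fin n) F) (X : Module.End ℂ V) :
    eC ρ ψ C * X = ((Fintype.card (symAdd F n) : ℂ))⁻¹ • ∑ S : symAdd F n,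
      ψ (-(Matrix.trace (C * (S : Matrix (Fin n) (Fin n) F)))) • (ρ (uQ S) * X) := by
  unfold eC
  rw [smul_mul_assoc, Finset.sum_mul]
  simp only [smul_mul_assoc]

theorem eC_idem (C : Matrix (Fin n) (Fin n) F) : IsIdempotentElem (eC ρ ψ C) := by
  show eC ρ ψ C * eC ρ ψ C = eC ρ ψ C
  rw [eC_mul]
  have h : ∀ S : symAdd F n,
      ψ (-(Matrix.trace (C * (S : Matrix (Fin n) (Fin n) F)))) •
        (ρ (uQ S) * eC ρ ψ C) = eC ρ ψ C := by
    intro S
    rw [rho_mul_eC, smul_smul, ← AddChar.map_add_eq_mul, neg_add_cancel,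
      AddChar.map_zero_eq_one, one_smul]
  rw [Finset.sum_congr rfl (fun S _ => h S), Finset.sum_const, Finset.card_univ,
    ← Nat.cast_smul_eq_nsmul ℂ, smul_smul, inv_mul_cancel₀, one_smul]
  exact Nat.cast_ne_zero.2 Fintype.card_ne_zero

/-- different quadratic forms give orthogonal projectors -/
theorem eC_mul_eC_of_ne (hψ : ψ ≠ 1) (C C' : Matrix (Fin n) (Fin n) F) (h : qf C ≠ qf C') :
    eC ρ ψ C * eC ρ ψ C' = 0 := by
  obtain ⟨x, hx⟩ : ∃ x, qf C x ≠ qf C' x := by
    by_contra hcon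
    push Not at hcon
    exact h (funext hcon)
  obtain ⟨b, hb⟩ : ∃ b, ψ b ≠ 1 := by
    by_contra hcon
    push Not at hcon
    apply hψ
    ext b
    rw [hcon b]
    rfl
  have hd : qf C x - qf C' x ≠ 0 := sub_ne_zero.2 hx
  set a : F := b / (qf C x - qf C' x) with ha
  set S : symAdd F n := ⟨a • vecMulVec x x, by
    show (a • vecMulVec x x)ᵀ = _
    rw [transpose_smul, transpose_vecMulVec]⟩ with hS
  have hSc : (S : Matrix (Fin n) (Fin n) F) = a • vecMulVec x x := rfl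
  have hne : ψ (Matrix.trace (C * (S : Matrix (Fin n) (Fin n) F))) ≠
      ψ (Matrix.trace (C' * (S : Matrix (Fin n) (Fin n) F))) := by
    rw [hSc, trace_mul_vecMulVec, trace_mul_vecMulVec]
    intro heq
    apply hb
    have h1 : b = a * qf C x + -(a * qf C' x) := by
      rw [ha]
      field_simp
      ring
    rw [h1, AddChar.map_add_eq_mul, heq, ← AddChar.map_add_eq_mul, add_neg_cancel,
      AddChar.map_zero_eq_one]
  have h1 : eC ρ ψ C * ρ (uQ S) * eC ρ ψ C' =
      ψ (Matrix.trace (C * (S : Matrix (Fin n) (Fin n) F))) • (eC ρ ψ C * eC ρ ψ C') := by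
    rw [eC_mul_rho, smul_mul_assoc]
  have h2 : eC ρ ψ C * ρ (uQ S) * eC ρ ψ C' =
      ψ (Matrix.trace (C' * (S : Matrix (Fin n) (Fin n) F))) • (eC ρ ψ C * eC ρ ψ C') := by
    rw [mul_assoc, rho_mul_eC, mul_smul_comm]
  have h3 : (ψ (Matrix.trace (C * (S : Matrix (Fin n) (Fin n) F))) -
      ψ (Matrix.trace (C' * (S : Matrix (Fin n) (Fin n) F)))) • (eC ρ ψ C * eC ρ ψ C') = 0 := by
    rw [sub_smul, ← h1, ← h2, sub_self]
  rcases smul_eq_zero.1 h3 with h4 | h4
  · exact absurd (sub_eq_zero.1 h4) hne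
  · exact h4

/-- the additive map `C ↦ -tr (C S)` on all matrices -/
def ntrHom (S : Matrix (Fin n) (Fin n) F) : Matrix (Fin n) (Fin n) F →+ F where
  toFun C := -(Matrix.trace (C * S))
  map_zero' := by simp
  map_add' C C' := by
    rw [add_mul, Matrix.trace_add, neg_add]

theorem ntrHom_apply (S C : Matrix (Fin n) (Fin n) F) :
    ntrHom S C = -(Matrix.trace (C * S)) := rfl

theorem sum_mat_psi_zero (hψ : ψ ≠ 1) (S : Matrix (Fin n) (Fin n) F) (hS : S ≠ 0) :
    ∑ C : Matrix (Fin n) (Fin n) F, ψ (-(Matrix.trace (C * S))) = 0 := by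
  have hne : ψ.compAddMonoidHom (ntrHom S) ≠ 1 := by
    obtain ⟨c0, hc0⟩ := (AddChar.ne_one_iff).1 hψ
    obtain ⟨i, j, hij⟩ : ∃ i j, S i j ≠ 0 := by
      by_contra hcon
      push Not at hcon
      apply hS
      ext i j
      exact hcon i j
    refine (AddChar.ne_one_iff).2 ⟨Matrix.single j i (-(c0 / S i j)), ?_⟩
    have htr : ntrHom S (Matrix.single j i (-(c0 / S i j))) = c0 := by
      rw [ntrHom_apply, Matrix.trace_single_mul, smul_eq_mul]
      field_simp
    show ψ (ntrHom S (Matrix.single j i (-(c0 / S i j)))) ≠ 1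
    rw [htr]
    exact hc0
  have := AddChar.sum_eq_zero_of_ne_one hne
  simpa [ntrHom_apply] using this

/-- sum over ALL matrices: `∑_C ψ (-tr (C S)) = 0` for `S ≠ 0` -/
theorem sum_eC (hψ : ψ ≠ 1) : ∑ C : Matrix (Fin n) (Fin n) F, eC ρ ψ C =
    ((Fintype.card (Matrix (Fin n) (Fin n) F) : ℂ) * ((Fintype.card (symAdd F n) : ℂ))⁻¹) •
      (1 : Module.End ℂ V) := by
  classical
  unfold eC
  rw [← Finset.smul_sum, Finset.sum_comm]
  have h : ∀ S : symAdd F n, ∑ C : Matrix (Fin n) (Fin n) F,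
      ψ (-(Matrix.trace (C * (S : Matrix (Fin n) (Fin n) F)))) • ρ (uQ S) =
      if S = 0 then (Fintype.card (Matrix (Fin n) (Fin n) F) : ℂ) • (1 : Module.End ℂ V)
        else 0 := by
    intro S
    rw [← Finset.sum_smul]
    split_ifs with hS
    · subst hS
      simp [uQ_zero]
    · have h0 : (S : Matrix (Fin n) (Fin n) F) ≠ 0 := by
        intro h
        apply hS
        apply Subtype.ext
        simpa using h
      rw [sum_mat_psi_zero ψ hψ _ h0, zero_smul]
  rw [Finset.sum_congr rfl (fun S _ => h S), Finset.sum_ite_eq' Finset.univ (0 : symAdd F n)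
    (fun _ => (Fintype.card (Matrix (Fin n) (Fin n) F) : ℂ) • (1 : Module.End ℂ V)),
    if_pos (Finset.mem_univ _), smul_smul, mul_comm]

theorem trace_eC (C : Matrix (Fin n) (Fin n) F) :
    LinearMap.trace ℂ V (eC ρ ψ C) = ((Fintype.card (symAdd F n) : ℂ))⁻¹ *
      ∑ S : symAdd F n,
        ψ (-(Matrix.trace (C * (S : Matrix (Fin n) (Fin n) F)))) *
          LinearMap.trace ℂ V (ρ (uQ S)) := by
  unfold eC
  simp [map_sum, smul_eq_mul]

theorem trace_eC_cong (B : GL (Fin n) F) (C : Matrix (Fin n) (Fin n) F) :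
    LinearMap.trace ℂ V (eC ρ ψ ((B : Matrix (Fin n) (Fin n) F)ᵀ * C * (B : Matrix (Fin n) (Fin n) F))) =
      LinearMap.trace ℂ V (eC ρ ψ C) := by
  rw [trace_eC, trace_eC]
  congr 1
  refine Fintype.sum_equiv (conjSymEquiv B) _ _ ?_
  intro S
  show _ = ψ (-(Matrix.trace (C *
    ((conjSym B S : symAdd F n) : Matrix (Fin n) (Fin n) F)))) *
      LinearMap.trace ℂ V (ρ (uQ (conjSym B S)))
  have hcoef : Matrix.trace (((B : Matrix (Fin n) (Fin n) F)ᵀ * C *
      (B : Matrix (Fin n) (Fin n) F)) * (S : Matrix (Fin n) (Fin n) F)) =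
      Matrix.trace (C * ((conjSym B S : symAdd F n) : Matrix (Fin n) (Fin n) F)) := by
    rw [conjSym_coe]
    calc Matrix.trace ((B : Matrix (Fin n) (Fin n) F)ᵀ * C *
          (B : Matrix (Fin n) (Fin n) F) * (S : Matrix (Fin n) (Fin n) F))
        = Matrix.trace ((B : Matrix (Fin n) (Fin n) F)ᵀ * (C *
          (B : Matrix (Fin n) (Fin n) F) * (S : Matrix (Fin n) (Fin n) F))) := by
          simp only [Matrix.mul_assoc]
      _ = Matrix.trace ((C *
          (B : Matrix (Fin n) (Fin n) F) * (S : Matrix (Fin n) (Fin n) F)) *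
          (B : Matrix (Fin n) (Fin n) F)ᵀ) := Matrix.trace_mul_comm _ _
      _ = _ := by simp only [Matrix.mul_assoc]
  rw [uQ_conjSym, trace_rho_conj, hcoef]

/-- the trace of an idempotent is a natural number, positive if the idempotent is not zero -/
theorem trace_idem_nat (e : Module.End ℂ V) (he : IsIdempotentElem e) :
    ∃ r : ℕ, LinearMap.trace ℂ V e = (r : ℂ) ∧ (e ≠ 0 → 1 ≤ r) := by
  have hproj : LinearMap.IsProj (LinearMap.range e) e := by
    constructor
    · intro x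
      exact LinearMap.mem_range_self e x
    · rintro _ ⟨y, rfl⟩
      have := congrArg (fun f : Module.End ℂ V => f y) he.eq
      exact this
  refine ⟨Module.finrank ℂ (LinearMap.range e), hproj.trace, ?_⟩
  intro he0
  rw [Nat.one_le_iff_ne_zero]
  intro h
  apply he0
  have hbot : LinearMap.range e = ⊥ := Submodule.finrank_eq_zero.1 h
  exact LinearMap.range_eq_bot.1 hbot

/-- a sum of pairwise orthogonal idempotents is an idempotent -/
theorem sum_eC_idem (hψ : ψ ≠ 1) (O : Finset (Matrix (Fin n) (Fin n) F))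
    (hne : ∀ C ∈ O, ∀ C' ∈ O, C ≠ C' → qf C ≠ qf C') :
    IsIdempotentElem (∑ C ∈ O, eC ρ ψ C) := by
  classical
  show (∑ C ∈ O, eC ρ ψ C) * (∑ C ∈ O, eC ρ ψ C) = ∑ C ∈ O, eC ρ ψ C
  rw [Finset.sum_mul]
  refine Finset.sum_congr rfl ?_
  intro C hC
  rw [Finset.mul_sum, Finset.sum_eq_single C]
  · exact (eC_idem ρ ψ C).eq
  · intro C' hC' hCC'
    exact eC_mul_eC_of_ne ρ ψ hψ C C' (hne C hC C' hC' (Ne.symm hCC'))
  · intro h
    exact absurd hC h

/-- dimension count: pairwise form-distinct matrices whose projectors all have trace `r` -/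
theorem finrank_ge (hψ : ψ ≠ 1) (O : Finset (Matrix (Fin n) (Fin n) F)) (r : ℕ)
    (hne : ∀ C ∈ O, ∀ C' ∈ O, C ≠ C' → qf C ≠ qf C')
    (hr : ∀ C ∈ O, LinearMap.trace ℂ V (eC ρ ψ C) = (r : ℂ)) :
    O.card * r ≤ Module.finrank ℂ V := by
  classical
  have hid := sum_eC_idem ρ ψ hψ O hne
  have hproj : LinearMap.IsProj (LinearMap.range (∑ C ∈ O, eC ρ ψ C)) (∑ C ∈ O, eC ρ ψ C) := by
    constructor
    · intro x
      exact LinearMap.mem_range_self _ x
    · rintro _ ⟨y, rfl⟩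
      have := congrArg (fun f : Module.End ℂ V => f y) hid.eq
      exact this
  have h1 : ((Module.finrank ℂ (LinearMap.range (∑ C ∈ O, eC ρ ψ C)) : ℕ) : ℂ) =
      ((O.card * r : ℕ) : ℂ) := by
    rw [← hproj.trace, map_sum, Finset.sum_congr rfl hr, Finset.sum_const, nsmul_eq_mul,
      Nat.cast_mul]
  have h2 : Module.finrank ℂ (LinearMap.range (∑ C ∈ O, eC ρ ψ C)) = O.card * r := by
    exact_mod_cast h1
  rw [← h2]
  exact Submodule.finrank_le _

end unitP

end Cfsg.Agent.Lib.Helper6.SPE
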