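import Mathlib
import Cfsg.Agent.Lib.Helper6.WlH

set_option autoImplicit false
set_option linter.unusedSectionVars false
set_option linter.unusedVariables false

/-!
The `Q`-spectrum (upper Siegel radical `uQ`) of the Weil representation: the isotypic
projector `eT (weilRep D) ψ T` is conjugate (by the image of `J`) to the multiplication by the
indicator of `{t | c • t tᵀ = T}`.
-/

namespace Cfsg.Agent.Lib.Helper6.Wl

open Matrix Cfsg

section jel
variable {F : Type*} [Field F] [Fintype F] [DecidableEq F] {n : ℕ}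

/-- the element `J` of the symplectic group -/
def jSp : symplecticGroup (Fin n) F := ⟨J (Fin n) F, SymplecticGroup.J_mem _ _⟩

theorem jSp_coe : ((jSp : symplecticGroup (Fin n) F) :
    Matrix (Fin n ⊕ Fin n) (Fin n ⊕ Fin n) F) = J (Fin n) F := rfl

theorem uQ_mul_jSp (S : symAdd F n) : uQ S * jSp = jSp * lQ (-S) := by
  apply Subtype.ext
  rw [Submonoid.coe_mul, Submonoid.coe_mul, uQ_coe, lQ_coe, jSp_coe, J, fromBlocks_multiply,
    fromBlocks_multiply]
  simp

theorem uQ_eq_conj (S : symAdd F n) : uQ S = jSp * lQ (-S) * jSp⁻¹ := by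
  rw [← uQ_mul_jSp, mul_inv_cancel_right]

variable {V : Type*} [AddCommGroup V] [Module ℂ V]

theorem rho_uQ_eq (ρ : Representation ℂ (symplecticGroup (Fin n) F) V) (S : symAdd F n) :
    ρ (uQ S) = ρ jSp * ρ (lQ (-S)) * ρ jSp⁻¹ := by
  rw [← map_mul, ← map_mul, ← uQ_eq_conj]

theorem rho_jSp_mul_inv (ρ : Representation ℂ (symplecticGroup (Fin n) F) V) :
    ρ jSp * ρ jSp⁻¹ = 1 := by
  rw [← map_mul, mul_inv_cancel, map_one]

theorem rho_jSp_inv_mul (ρ : Representation ℂ (symplecticGroup (Fin n) F) V) :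
    ρ jSp⁻¹ * ρ jSp = 1 := by
  rw [← map_mul, inv_mul_cancel, map_one]

end jel

section spec
variable {F : Type*} [Field F] [Fintype F] [DecidableEq F] {n : ℕ}

/-- multiplication by the indicator of `{t | c • t tᵀ = T}` -/
def pT (c : F) (T : symAdd F n) : Module.End ℂ ((Fin n → F) → ℂ) where
  toFun f := fun t => if c • vecMulVec t t = (T : Matrix (Fin n) (Fin n) F) then f t else 0
  map_add' f g := by
    funext t
    show (if _ then (f + g) t else 0) = (if _ then f t else 0) + (if _ then g t else 0)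
    split_ifs <;> simp
  map_smul' a f := by
    funext t
    show (if _ then (a • f) t else 0) = a • (if _ then f t else 0)
    split_ifs <;> simp

theorem pT_apply (c : F) (T : symAdd F n) (f : (Fin n → F) → ℂ) (t : Fin n → F) :
    pT c T f t = if c • vecMulVec t t = (T : Matrix (Fin n) (Fin n) F) then f t else 0 := rfl

theorem pT_eq_zero (c : F) (T : symAdd F n)
    (h : ¬ ∃ x : Fin n → F, (T : Matrix (Fin n) (Fin n) F) = c • vecMulVec x x) : pT c T = 0 := by
  apply LinearMap.ext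
  intro f
  funext t
  rw [pT_apply, if_neg]
  · rfl
  · intro ht
    exact h ⟨t, ht.symm⟩

variable (ψ : AddChar F ℂ)

theorem shift_ne_one (hψ : ψ ≠ 1) (a : F) (ha : a ≠ 0) : AddChar.mulShift ψ a ≠ 1 := by
  intro h
  exact hψ ((AddChar.mulShift_unit_eq_one_iff ψ (isUnit_iff_ne_zero.2 ha)).1 h)

theorem weilData_shift (hodd : Odd (Fintype.card F)) (hψ : ψ ≠ 1) (c : F) (hc : c ≠ 0) :
    WeilData F (AddChar.mulShift ψ (2 * c)) (2 : F)⁻¹ := by
  have h2 : (2 : F) ≠ 0 := two_ne_zero_of_odd hodd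
  refine ⟨h2, hodd, ?_, shift_ne_one ψ hψ _ (mul_ne_zero h2 hc)⟩
  rw [← two_mul, mul_inv_cancel₀ h2]

/-- the averaged multiplication operators give the indicator projector -/
theorem avg_mulOp (h2 : (2 : F) ≠ 0) (hψ : ψ ≠ 1) (c : F) (T : symAdd F n) :
    ((Fintype.card (symAdd F n) : ℂ))⁻¹ • ∑ S : symAdd F n,
      ψ (-(Matrix.trace ((T : Matrix (Fin n) (Fin n) F) * (S : Matrix (Fin n) (Fin n) F)))) •
        mulOp (AddChar.mulShift ψ (2 * c)) (2 : F)⁻¹ (-S) = pT c T := by
  apply LinearMap.ext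
  intro f
  funext t
  rw [LinearMap.smul_apply, LinearMap.sum_apply, pT_apply]
  show ((Fintype.card (symAdd F n) : ℂ))⁻¹ * (∑ S : symAdd F n,
      (ψ (-(Matrix.trace ((T : Matrix (Fin n) (Fin n) F) * (S : Matrix (Fin n) (Fin n) F)))) •
        mulOp (AddChar.mulShift ψ (2 * c)) (2 : F)⁻¹ (-S)) f) t = _
  rw [Finset.sum_apply]
  have hterm : ∀ S : symAdd F n,
      ((ψ (-(Matrix.trace ((T : Matrix (Fin n) (Fin n) F) * (S : Matrix (Fin n) (Fin n) F)))) •
        mulOp (AddChar.mulShift ψ (2 * c)) (2 : F)⁻¹ (-S)) f) t =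
      ψ (Matrix.trace ((S : Matrix (Fin n) (Fin n) F) *
        (c • vecMulVec t t - (T : Matrix (Fin n) (Fin n) F)))) * f t := by
    intro S
    rw [LinearMap.smul_apply, Pi.smul_apply, mulOp_apply, smul_eq_mul, AddChar.mulShift_apply,
      ← mul_assoc, ← AddChar.map_add_eq_mul]
    congr 2
    rw [Matrix.mul_sub, Matrix.trace_sub, Matrix.mul_smul, Matrix.trace_smul,
      trace_mul_vecMulVec, Matrix.trace_mul_comm (T : Matrix (Fin n) (Fin n) F)]
    have hq : qf ((-S : symAdd F n) : Matrix (Fin n) (Fin n) F) t =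
        -qf (S : Matrix (Fin n) (Fin n) F) t := by
      unfold qf
      rw [AddSubgroup.coe_neg, Matrix.neg_mulVec, dotProduct_neg]
    rw [hq, smul_eq_mul]
    field_simp
    ring
  rw [Finset.sum_congr rfl (fun S _ => hterm S), ← Finset.sum_mul]
  by_cases hT : c • vecMulVec t t = (T : Matrix (Fin n) (Fin n) F)
  · rw [if_pos hT]
    have h0 : ∀ S : symAdd F n, ψ (Matrix.trace ((S : Matrix (Fin n) (Fin n) F) *
        (c • vecMulVec t t - (T : Matrix (Fin n) (Fin n) F)))) = 1 := by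
      intro S
      rw [hT, sub_self, Matrix.mul_zero, Matrix.trace_zero, AddChar.map_zero_eq_one]
    rw [Finset.sum_congr rfl (fun S _ => h0 S), Finset.sum_const, Finset.card_univ, nsmul_eq_mul,
      mul_one, ← mul_assoc, inv_mul_cancel₀, one_mul]
    exact_mod_cast (Fintype.card_pos (α := symAdd F n)).ne'
  · rw [if_neg hT]
    have hD : (c • vecMulVec t t - (T : Matrix (Fin n) (Fin n) F))ᵀ =
        c • vecMulVec t t - (T : Matrix (Fin n) (Fin n) F) := by
      rw [Matrix.transpose_sub, Matrix.transpose_smul, symAdd_transpose]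
      congr 2
      ext i j
      simp [vecMulVec_apply, mul_comm]
    rw [sum_sym_psi_zero h2 ψ hψ _ hD (sub_ne_zero.2 hT), zero_mul, mul_zero]

theorem eT_weilRep (hodd : Odd (Fintype.card F)) (hψ : ψ ≠ 1) (c : F) (hc : c ≠ 0)
    (hn : 2 ≤ n) (T : symAdd F n) :
    eT (weilRep (n := n) (weilData_shift ψ hodd hψ c hc)) ψ T =
      weilRep (n := n) (weilData_shift ψ hodd hψ c hc) jSp * pT c T *
        weilRep (n := n) (weilData_shift ψ hodd hψ c hc) jSp⁻¹ := by
  have h2 : (2 : F) ≠ 0 := two_ne_zero_of_odd hodd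
  rw [← avg_mulOp ψ h2 hψ c T]
  unfold eT
  rw [mul_smul_comm, smul_mul_assoc, Finset.mul_sum, Finset.sum_mul]
  congr 1
  apply Finset.sum_congr rfl
  intro S _
  rw [mul_smul_comm, smul_mul_assoc, rho_uQ_eq, weilRep_lQ _ hn]

end spec

end Cfsg.Agent.Lib.Helper6.Wl
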