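import Mathlib
import Cfsg.Agent.Lib.Helper6.WlI
import Cfsg.Agent.Lib.Helper6.RepBasic

set_option autoImplicit false
set_option linter.unusedSectionVars false
set_option linter.unusedVariables false

/-!
The two Weil representations of `Sp_{2n}(q)` (`q` odd, `n ≥ 2`) attached to `ψ` and a scalar
`c ≠ 0`: degrees `(q^n ± 1)/2`, irreducible, central signs `± s0`, and the spectrum of the
Siegel radical `uQ` consists of the rank one matrices `c • x xᵀ`, each with multiplicity one.
-/

namespace Cfsg.Agent.Lib.Helper6.Wl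

open Matrix Cfsg

section gen
variable {F : Type*} [Field F] [Fintype F] [DecidableEq F] {n : ℕ}
variable {V : Type*} [AddCommGroup V] [Module ℂ V]
variable (ρ : Representation ℂ (symplecticGroup (Fin n) F) V) (ψ : AddChar F ℂ)

theorem eT_sub_coe (σ : Subrepresentation ρ) (T : symAdd F n) (w : σ.toSubmodule) :
    ((eT σ.toRepresentation ψ T w : σ.toSubmodule) : V) = eT ρ ψ T (w : V) := by
  unfold eT
  rw [LinearMap.smul_apply, LinearMap.smul_apply, LinearMap.sum_apply, LinearMap.sum_apply,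
    Submodule.coe_smul, Submodule.coe_sum]
  congr 1

theorem eT_sub_eq_zero (σ : Subrepresentation ρ) (T : symAdd F n) (h : eT ρ ψ T = 0) :
    eT σ.toRepresentation ψ T = 0 := by
  apply LinearMap.ext
  intro w
  apply Subtype.ext
  rw [eT_sub_coe, h]
  rfl

theorem eT_transport {W : Type*} [AddCommGroup W] [Module ℂ W] (e : V ≃ₗ[ℂ] W) (T : symAdd F n) :
    eT (transport ρ e) ψ T = e.conj (eT ρ ψ T) := by
  unfold eT
  rw [map_smul, map_sum]
  congr 1
  apply Finset.sum_congr rfl
  intro S _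
  rw [map_smul]
  rfl

theorem trace_of_sub [FiniteDimensional ℂ V] (W : Submodule ℂ V) (P X : Module.End ℂ V)
    (hP : LinearMap.IsProj W P) (Y : Module.End ℂ W)
    (hY : ∀ w : W, ((Y w : W) : V) = X (w : V)) :
    LinearMap.trace ℂ W Y = LinearMap.trace ℂ V (X * P) := by
  have hX : ∀ w ∈ W, X w ∈ W := by
    intro w hw
    have := hY ⟨w, hw⟩
    rw [← this]
    exact (Y ⟨w, hw⟩).2
  have hf : ∀ x, (X * P) x ∈ W := fun x => hX _ (hP.map_mem x)
  rw [← LinearMap.trace_restrict_eq_of_forall_mem W (X * P) hf]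
  congr 1
  apply LinearMap.ext
  intro w
  apply Subtype.ext
  rw [hY]
  show _ = X (P w)
  rw [hP.map_id _ w.2]

end gen

section sign
variable {F : Type*} [Field F] [Fintype F] [DecidableEq F] {n : ℕ}
variable {ψ : AddChar F ℂ} {γ : F}

theorem negSp_mul_self : (negSp : symplecticGroup (Fin n) F) * negSp = 1 := by
  apply Subtype.ext
  show (-1 : Matrix (Fin n ⊕ Fin n) (Fin n ⊕ Fin n) F) * (-1) = 1
  simp

theorem weilRep_negSp (D : WeilData F ψ γ) :
    ∃ s : ℂ, (s = 1 ∨ s = -1) ∧ weilRep (n := n) D negSp = s • parOp := by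
  obtain ⟨c, hc⟩ := impl_eq_smul_weilRep D (impl_parOp ψ γ (n := n))
  have hc0 : c ≠ 0 := by
    intro h
    rw [h, zero_smul] at hc
    have h1 := congrFun (LinearMap.congr_fun hc (fun _ => (1 : ℂ))) 0
    rw [parOp_apply] at h1
    exact one_ne_zero h1
  have hW : weilRep (n := n) D negSp = c⁻¹ • parOp := by
    rw [hc, smul_smul, inv_mul_cancel₀ hc0, one_smul]
  refine ⟨c⁻¹, ?_, hW⟩
  have h1 : weilRep (n := n) D negSp * weilRep (n := n) D negSp = 1 := by
    rw [← map_mul, negSp_mul_self, map_one]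
  rw [hW, smul_mul_smul_comm, parOp_mul_self] at h1
  have h2 := congrFun (LinearMap.congr_fun h1 (fun _ => (1 : ℂ))) 0
  rw [LinearMap.smul_apply, Pi.smul_apply] at h2
  have h3 : c⁻¹ * c⁻¹ = 1 := by
    simpa using h2
  exact mul_self_eq_one_iff.1 h3

theorem parOp_of_mem_Wp (f : (Fin n → F) → ℂ) (hf : f ∈ Wp F n) : parOp f = f := by
  funext t
  rw [parOp_apply]
  exact hf t

theorem parOp_of_mem_Wm (f : (Fin n → F) → ℂ) (hf : f ∈ Wm F n) : parOp f = -f := by
  funext t
  rw [parOp_apply]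
  exact hf t

/-- the even Weil subrepresentation -/
def subP (D : WeilData F ψ γ) : Subrepresentation (weilRep (n := n) D) :=
  ⟨Wp F n, fun g f hf => mem_Wp_of_comm (weilRep_comm_parOp D g) f hf⟩

/-- the odd Weil subrepresentation -/
def subM (D : WeilData F ψ γ) : Subrepresentation (weilRep (n := n) D) :=
  ⟨Wm F n, fun g f hf => mem_Wm_of_comm (weilRep_comm_parOp D g) f hf⟩

theorem subP_negSp (D : WeilData F ψ γ) (s : ℂ) (hs : weilRep (n := n) D negSp = s • parOp) :
    (subP (n := n) D).toRepresentation negSp = s • 1 := by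
  apply LinearMap.ext
  intro w
  apply Subtype.ext
  show weilRep (n := n) D negSp (w : (Fin n → F) → ℂ) = _
  rw [hs, LinearMap.smul_apply, parOp_of_mem_Wp _ w.2]
  rfl

theorem subM_negSp (D : WeilData F ψ γ) (s : ℂ) (hs : weilRep (n := n) D negSp = s • parOp) :
    (subM (n := n) D).toRepresentation negSp = (-s) • 1 := by
  apply LinearMap.ext
  intro w
  apply Subtype.ext
  show weilRep (n := n) D negSp (w : (Fin n → F) → ℂ) = _
  rw [hs, LinearMap.smul_apply, parOp_of_mem_Wm _ w.2]
  show s • -(w : (Fin n → F) → ℂ) = (-s) • (w : (Fin n → F) → ℂ)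
  rw [smul_neg, neg_smul]

theorem comm_projP {X : Module.End ℂ ((Fin n → F) → ℂ)} (hX : X * parOp = parOp * X) :
    X * projP = projP * X := by
  unfold projP
  rw [mul_smul_comm, smul_mul_assoc, mul_add, add_mul, hX, mul_one, one_mul]

theorem comm_projM {X : Module.End ℂ ((Fin n → F) → ℂ)} (hX : X * parOp = parOp * X) :
    X * projM = projM * X := by
  unfold projM
  rw [mul_smul_comm, smul_mul_assoc, mul_sub, sub_mul, hX, mul_one, one_mul]

end sign

section traces
variable {F : Type*} [Field F] [Fintype F] [DecidableEq F] {n : ℕ}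

theorem vecMulVec_neg_neg (x : Fin n → F) : vecMulVec (-x) (-x) = vecMulVec x x := by
  ext i j
  simp [vecMulVec_apply]

theorem smul_vecMulVec_eq_iff (c : F) (hc : c ≠ 0) (t x : Fin n → F) :
    c • vecMulVec t t = c • vecMulVec x x ↔ t = x ∨ t = -x := by
  constructor
  · intro h
    have h1 : vecMulVec t t = vecMulVec x x := by
      have := congrArg (fun M => c⁻¹ • M) h
      simpa [smul_smul, inv_mul_cancel₀ hc] using this
    exact vecMulVec_self_eq t x h1
  · rintro (rfl | rfl)
    · rfl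
    · rw [vecMulVec_neg_neg]

theorem sum_two_pts (h2 : (2 : F) ≠ 0) (x : Fin n → F) (hx : x ≠ 0) (g : (Fin n → F) → ℂ)
    (hg : ∀ t, g t = if t = x ∨ t = -x then (2 : ℂ)⁻¹ else 0) :
    ∑ t : Fin n → F, g t = 1 := by
  have hne : x ≠ -x := neg_ne_self_of_ne_zero h2 x hx
  have hg' : ∀ t, g t = (if t = x then (2 : ℂ)⁻¹ else 0) + (if t = -x then (2 : ℂ)⁻¹ else 0) := by
    intro t
    rw [hg t]
    by_cases h1 : t = x
    · have h3 : t ≠ -x := by
        rw [h1]
        exact hne
      rw [if_pos (Or.inl h1), if_pos h1, if_neg h3, add_zero]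
    · by_cases h3 : t = -x
      · rw [if_pos (Or.inr h3), if_neg h1, if_pos h3, zero_add]
      · rw [if_neg (by tauto), if_neg h1, if_neg h3, add_zero]
  rw [Finset.sum_congr rfl (fun t _ => hg' t), Finset.sum_add_distrib, Finset.sum_ite_eq',
    Finset.sum_ite_eq', if_pos (Finset.mem_univ _), if_pos (Finset.mem_univ _)]
  norm_num

theorem trace_pT_projP (h2 : (2 : F) ≠ 0) (c : F) (hc : c ≠ 0) (x : Fin n → F) (hx : x ≠ 0) :
    LinearMap.trace ℂ ((Fin n → F) → ℂ) (pT c (sm1 c x) * projP) = 1 := by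
  rw [LinearMap.trace_eq_matrix_trace ℂ (Pi.basisFun ℂ (Fin n → F)),
    LinearMap.toMatrix_eq_toMatrix', Matrix.trace]
  simp only [Matrix.diag_apply, LinearMap.toMatrix'_apply, Module.End.mul_apply, pT_apply,
    projP_apply]
  apply sum_two_pts h2 x hx
  intro t
  have hne : x ≠ -x := neg_ne_self_of_ne_zero h2 x hx
  by_cases h : t = x ∨ t = -x
  · rw [if_pos (show c • vecMulVec t t = ((sm1 c x : symAdd F n) : Matrix (Fin n) (Fin n) F) from
      (smul_vecMulVec_eq_iff c hc t x).2 h), if_pos h]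
    have ht : -t ≠ t := by
      rcases h with rfl | rfl
      · exact fun h' => hne h'.symm
      · rw [neg_neg]
        exact hne
    rw [Pi.single_eq_same, Pi.single_eq_of_ne ht]
    ring
  · rw [if_neg (show ¬ c • vecMulVec t t = ((sm1 c x : symAdd F n) : Matrix (Fin n) (Fin n) F) from
      fun h' => h ((smul_vecMulVec_eq_iff c hc t x).1 h')), if_neg h]

theorem trace_pT_projM (h2 : (2 : F) ≠ 0) (c : F) (hc : c ≠ 0) (x : Fin n → F) (hx : x ≠ 0) :
    LinearMap.trace ℂ ((Fin n → F) → ℂ) (pT c (sm1 c x) * projM) = 1 := by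
  rw [LinearMap.trace_eq_matrix_trace ℂ (Pi.basisFun ℂ (Fin n → F)),
    LinearMap.toMatrix_eq_toMatrix', Matrix.trace]
  simp only [Matrix.diag_apply, LinearMap.toMatrix'_apply, Module.End.mul_apply, pT_apply,
    projM_apply]
  apply sum_two_pts h2 x hx
  intro t
  have hne : x ≠ -x := neg_ne_self_of_ne_zero h2 x hx
  by_cases h : t = x ∨ t = -x
  · rw [if_pos (show c • vecMulVec t t = ((sm1 c x : symAdd F n) : Matrix (Fin n) (Fin n) F) from
      (smul_vecMulVec_eq_iff c hc t x).2 h), if_pos h]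
    have ht : -t ≠ t := by
      rcases h with rfl | rfl
      · exact fun h' => hne h'.symm
      · rw [neg_neg]
        exact hne
    rw [Pi.single_eq_same, Pi.single_eq_of_ne ht]
    ring
  · rw [if_neg (show ¬ c • vecMulVec t t = ((sm1 c x : symAdd F n) : Matrix (Fin n) (Fin n) F) from
      fun h' => h ((smul_vecMulVec_eq_iff c hc t x).1 h')), if_neg h]

end traces

end Cfsg.Agent.Lib.Helper6.Wl
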