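import Mathlib
import Cfsg.Agent.Lib.Helper6.WlJ

set_option autoImplicit false
set_option linter.unusedSectionVars false
set_option linter.unusedVariables false

/-!
Final statement of the Weil side: existence of the pair of Weil representations of
`Sp_{2n}(q)` (`q` odd, `n ≥ 2`) with prescribed `Q`-spectrum `{c • x xᵀ}`.
-/

namespace Cfsg.Agent.Lib.Helper6.Wl

open Matrix Cfsg

section final
variable {F : Type*} [Field F] [Fintype F] [DecidableEq F]

theorem trace_eT_subP (hodd : Odd (Fintype.card F)) (ψ : AddChar F ℂ) (hψ : ψ ≠ 1) (c : F)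
    (hc : c ≠ 0) (n : ℕ) (hn : 2 ≤ n) (x : Fin n → F) (hx : x ≠ 0) :
    LinearMap.trace ℂ _
      (eT (subP (n := n) (weilData_shift ψ hodd hψ c hc)).toRepresentation ψ (sm1 c x)) = 1 := by
  have h2 : (2 : F) ≠ 0 := two_ne_zero_of_odd hodd
  have h1 := trace_of_sub (Wp F n) projP
    (eT (weilRep (n := n) (weilData_shift ψ hodd hψ c hc)) ψ (sm1 c x)) isProj_P
    (eT (subP (n := n) (weilData_shift ψ hodd hψ c hc)).toRepresentation ψ (sm1 c x))
    (fun w => eT_sub_coe _ ψ (subP (n := n) (weilData_shift ψ hodd hψ c hc)) (sm1 c x) w)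
  refine h1.trans ?_
  rw [eT_weilRep ψ hodd hψ c hc hn]
  have hcomm : weilRep (n := n) (weilData_shift ψ hodd hψ c hc) jSp⁻¹ * projP =
      projP * weilRep (n := n) (weilData_shift ψ hodd hψ c hc) jSp⁻¹ :=
    comm_projP (weilRep_comm_parOp _ _)
  rw [mul_assoc, hcomm, ← mul_assoc, LinearMap.trace_mul_comm, ← mul_assoc, ← mul_assoc,
    rho_jSp_inv_mul, one_mul]
  exact trace_pT_projP h2 c hc x hx

theorem trace_eT_subM (hodd : Odd (Fintype.card F)) (ψ : AddChar F ℂ) (hψ : ψ ≠ 1) (c : F)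
    (hc : c ≠ 0) (n : ℕ) (hn : 2 ≤ n) (x : Fin n → F) (hx : x ≠ 0) :
    LinearMap.trace ℂ _
      (eT (subM (n := n) (weilData_shift ψ hodd hψ c hc)).toRepresentation ψ (sm1 c x)) = 1 := by
  have h2 : (2 : F) ≠ 0 := two_ne_zero_of_odd hodd
  have h1 := trace_of_sub (Wm F n) projM
    (eT (weilRep (n := n) (weilData_shift ψ hodd hψ c hc)) ψ (sm1 c x)) isProj_M
    (eT (subM (n := n) (weilData_shift ψ hodd hψ c hc)).toRepresentation ψ (sm1 c x))
    (fun w => eT_sub_coe _ ψ (subM (n := n) (weilData_shift ψ hodd hψ c hc)) (sm1 c x) w)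
  refine h1.trans ?_
  rw [eT_weilRep ψ hodd hψ c hc hn]
  have hcomm : weilRep (n := n) (weilData_shift ψ hodd hψ c hc) jSp⁻¹ * projM =
      projM * weilRep (n := n) (weilData_shift ψ hodd hψ c hc) jSp⁻¹ :=
    comm_projM (weilRep_comm_parOp _ _)
  rw [mul_assoc, hcomm, ← mul_assoc, LinearMap.trace_mul_comm, ← mul_assoc, ← mul_assoc,
    rho_jSp_inv_mul, one_mul]
  exact trace_pT_projM h2 c hc x hx

theorem eT_weilRep_eq_zero (hodd : Odd (Fintype.card F)) (ψ : AddChar F ℂ) (hψ : ψ ≠ 1) (c : F)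
    (hc : c ≠ 0) (n : ℕ) (hn : 2 ≤ n) (T : symAdd F n)
    (h : ¬ ∃ x : Fin n → F, (T : Matrix (Fin n) (Fin n) F) = c • vecMulVec x x) :
    eT (weilRep (n := n) (weilData_shift ψ hodd hψ c hc)) ψ T = 0 := by
  rw [eT_weilRep ψ hodd hψ c hc hn, pT_eq_zero c T h, mul_zero, zero_mul]

/-- **The Weil pair.** -/
theorem exists_weil_pair (n : ℕ) (hn : 2 ≤ n) (hodd : Odd (Fintype.card F)) (ψ : AddChar F ℂ)
    (hψ : ψ ≠ 1) (c : F) (hc : c ≠ 0) :
    ∃ (s0 : ℂ) (kP kM : ℕ) (rP : Representation ℂ (symplecticGroup (Fin n) F) (Fin kP → ℂ))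
      (rM : Representation ℂ (symplecticGroup (Fin n) F) (Fin kM → ℂ)),
      (s0 = 1 ∨ s0 = -1) ∧ 2 * kP = Fintype.card F ^ n + 1 ∧ 2 * kM = Fintype.card F ^ n - 1 ∧
      rP.IsIrreducible ∧ rM.IsIrreducible ∧
      rP negSp = s0 • 1 ∧ rM negSp = (-s0) • 1 ∧
      (∀ T : symAdd F n, eT rP ψ T ≠ 0 →
        ∃ x : Fin n → F, (T : Matrix (Fin n) (Fin n) F) = c • vecMulVec x x) ∧
      (∀ T : symAdd F n, eT rM ψ T ≠ 0 →
        ∃ x : Fin n → F, (T : Matrix (Fin n) (Fin n) F) = c • vecMulVec x x) ∧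
      (∀ x : Fin n → F, x ≠ 0 → LinearMap.trace ℂ _ (eT rP ψ (sm1 c x)) = 1) ∧
      (∀ x : Fin n → F, x ≠ 0 → LinearMap.trace ℂ _ (eT rM ψ (sm1 c x)) = 1) := by
  have h2 : (2 : F) ≠ 0 := two_ne_zero_of_odd hodd
  obtain ⟨s0, hs0, hs⟩ := weilRep_negSp (n := n) (weilData_shift ψ hodd hψ c hc)
  obtain ⟨hfm, hfp⟩ := finrank_nat (F := F) (n := n) h2 hodd
  obtain ⟨k, hk⟩ := hodd.pow (n := n)
  have hq3 : 3 ≤ Fintype.card F := by
    have h1 : 1 < Fintype.card F := Fintype.one_lt_card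
    rcases hodd with ⟨k, hk⟩
    omega
  have hqn : 3 ≤ Fintype.card F ^ n := le_trans hq3 (Nat.le_self_pow (by omega) _)
  have hneP : (subP (n := n) (weilData_shift ψ hodd hψ c hc)).toSubmodule ≠ ⊥ := by
    intro h
    have h1 : Module.finrank ℂ (Wp F n) = 0 := by
      rw [show Wp F n = ⊥ from h]
      exact finrank_bot ℂ _
    omega
  have hneM : (subM (n := n) (weilData_shift ψ hodd hψ c hc)).toSubmodule ≠ ⊥ := by
    intro h
    have h1 : Module.finrank ℂ (Wm F n) = 0 := by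
      rw [show Wm F n = ⊥ from h]
      exact finrank_bot ℂ _
    omega
  haveI hirrP : (subP (n := n) (weilData_shift ψ hodd hψ c hc)).toRepresentation.IsIrreducible :=
    isIrreducible_sub _ hneP (fun U hU1 hU2 hU3 => even_irreducible_core _ U hU1 hU2 hU3)
  haveI hirrM : (subM (n := n) (weilData_shift ψ hodd hψ c hc)).toRepresentation.IsIrreducible :=
    isIrreducible_sub _ hneM (fun U hU1 hU2 hU3 => odd_irreducible_core _ U hU1 hU2 hU3)
  let eP : (subP (n := n) (weilData_shift ψ hodd hψ c hc)).toSubmodule ≃ₗ[ℂ]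
      (Fin (Module.finrank ℂ (Wp F n)) → ℂ) := (Module.finBasis ℂ (Wp F n)).equivFun
  let eM : (subM (n := n) (weilData_shift ψ hodd hψ c hc)).toSubmodule ≃ₗ[ℂ]
      (Fin (Module.finrank ℂ (Wm F n)) → ℂ) := (Module.finBasis ℂ (Wm F n)).equivFun
  refine ⟨s0, Module.finrank ℂ (Wp F n), Module.finrank ℂ (Wm F n),
    transport (subP (n := n) (weilData_shift ψ hodd hψ c hc)).toRepresentation eP,
    transport (subM (n := n) (weilData_shift ψ hodd hψ c hc)).toRepresentation eM,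
    hs0, by omega, by omega, isIrreducible_of_equiv (transportEquiv _ eP),
    isIrreducible_of_equiv (transportEquiv _ eM), ?_, ?_, ?_, ?_, ?_, ?_⟩
  · rw [transport_apply, subP_negSp _ s0 hs]
    apply LinearMap.ext
    intro v
    simp
  · rw [transport_apply, subM_negSp _ s0 hs]
    apply LinearMap.ext
    intro v
    simp
  · intro T hT
    by_contra hcon
    apply hT
    rw [eT_transport, eT_sub_eq_zero _ ψ _ T (eT_weilRep_eq_zero hodd ψ hψ c hc n hn T hcon),
      map_zero]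
  · intro T hT
    by_contra hcon
    apply hT
    rw [eT_transport, eT_sub_eq_zero _ ψ _ T (eT_weilRep_eq_zero hodd ψ hψ c hc n hn T hcon),
      map_zero]
  · intro x hx
    rw [eT_transport, LinearMap.trace_conj']
    exact trace_eT_subP hodd ψ hψ c hc n hn x hx
  · intro x hx
    rw [eT_transport, LinearMap.trace_conj']
    exact trace_eT_subM hodd ψ hψ c hc n hn x hx

end final

end Cfsg.Agent.Lib.Helper6.Wl
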