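import Mathlib
import Cfsg.Agent.Lib.Helper6.WlH

set_option autoImplicit false
set_option linter.unusedSectionVars false
set_option linter.unusedVariables false

/-!
Exactness of the Weil representation on the lower Siegel radical for ALL `n` (including `n = 1`):
the determinants of an even multiplication operator on even and odd functions agree, by the
explicit isomorphism `Wp ≃ Wm × ℂ`, `f ↦ (ε f, f 0)` for an orientation `ε` of the vectors.
-/

namespace Cfsg.Agent.Lib.Helper6.Wl

open Matrix Cfsg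

section orient
variable {F : Type*} [Field F] [Fintype F] [DecidableEq F] {n : ℕ}

/-- an orientation: `ε (-t) = - ε t`, `ε t = ± 1` for `t ≠ -t` -/
noncomputable def orient (t : Fin n → F) : ℂ :=
  if t = -t then 0
  else if Fintype.equivFin (Fin n → F) t < Fintype.equivFin (Fin n → F) (-t) then 1 else -1

theorem orient_neg (t : Fin n → F) : orient (-t) = -orient t := by
  unfold orient
  rw [neg_neg]
  by_cases h : t = -t
  · rw [if_pos h, if_pos h.symm, neg_zero]
  · rw [if_neg h, if_neg (fun h' => h h'.symm)]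
    have hne : Fintype.equivFin (Fin n → F) t ≠ Fintype.equivFin (Fin n → F) (-t) :=
      fun h' => h ((Fintype.equivFin (Fin n → F)).injective h')
    rcases lt_or_gt_of_ne hne with h1 | h1
    · rw [if_pos h1, if_neg (not_lt.2 h1.le)]
    · rw [if_neg (not_lt.2 h1.le), if_pos h1, neg_neg]

theorem orient_mul_self (t : Fin n → F) (h : t ≠ -t) : orient t * orient t = 1 := by
  unfold orient
  rw [if_neg h]
  split_ifs <;> norm_num

theorem orient_zero : orient (0 : Fin n → F) = 0 := by
  unfold orient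
  rw [if_pos (by simp)]

variable (F n)

/-- the isomorphism `f ↦ (ε f, f 0)` from even functions to odd functions times `ℂ` -/
noncomputable def evenOddEquiv (h2 : (2 : F) ≠ 0) : Wp F n ≃ₗ[ℂ] (Wm F n × ℂ) where
  toFun f := (⟨fun t => orient t * (f : (Fin n → F) → ℂ) t, by
    intro t
    show orient (-t) * (f : (Fin n → F) → ℂ) (-t) = -(orient t * (f : (Fin n → F) → ℂ) t)
    rw [orient_neg, f.2 t]
    ring⟩, (f : (Fin n → F) → ℂ) 0)
  map_add' f g := by
    apply Prod.ext
    · apply Subtype.ext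
      funext t
      show orient t * ((f : (Fin n → F) → ℂ) t + (g : (Fin n → F) → ℂ) t) =
        orient t * (f : (Fin n → F) → ℂ) t + orient t * (g : (Fin n → F) → ℂ) t
      ring
    · rfl
  map_smul' a f := by
    apply Prod.ext
    · apply Subtype.ext
      funext t
      show orient t * (a * (f : (Fin n → F) → ℂ) t) = a * (orient t * (f : (Fin n → F) → ℂ) t)
      ring
    · rfl
  invFun p := ⟨fun t => orient t * (p.1 : (Fin n → F) → ℂ) t + p.2 * (if t = 0 then 1 else 0), by
    intro t
    show orient (-t) * (p.1 : (Fin n → F) → ℂ) (-t) + p.2 * (if -t = 0 then 1 else 0) =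
      orient t * (p.1 : (Fin n → F) → ℂ) t + p.2 * (if t = 0 then 1 else 0)
    rw [orient_neg, p.1.2 t]
    have : (-t = 0) ↔ (t = 0) := neg_eq_zero
    simp only [this]
    ring⟩
  left_inv f := by
    apply Subtype.ext
    funext t
    show orient t * (orient t * (f : (Fin n → F) → ℂ) t) +
      (f : (Fin n → F) → ℂ) 0 * (if t = 0 then 1 else 0) = (f : (Fin n → F) → ℂ) t
    by_cases ht : t = 0
    · rw [if_pos ht, ht, orient_zero]
      ring
    · rw [if_neg ht, ← mul_assoc, orient_mul_self t (neg_ne_self_of_ne_zero h2 t ht)]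
      ring
  right_inv p := by
    have hp0 : (p.1 : (Fin n → F) → ℂ) 0 = 0 := by
      have h := p.1.2 0
      rw [neg_zero] at h
      have h' : (2 : ℂ) * (p.1 : (Fin n → F) → ℂ) 0 = 0 := by linear_combination h
      rcases mul_eq_zero.1 h' with h3 | h3
      · exact absurd h3 two_ne_zero
      · exact h3
    apply Prod.ext
    · apply Subtype.ext
      funext t
      show orient t * (orient t * (p.1 : (Fin n → F) → ℂ) t + p.2 * (if t = 0 then 1 else 0)) =
        (p.1 : (Fin n → F) → ℂ) t
      by_cases ht : t = 0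
      · rw [ht, orient_zero, hp0]
        ring
      · rw [if_neg ht, mul_zero, add_zero, ← mul_assoc,
          orient_mul_self t (neg_ne_self_of_ne_zero h2 t ht), one_mul]
    · show orient (0 : Fin n → F) * (p.1 : (Fin n → F) → ℂ) 0 + p.2 * (if (0 : Fin n → F) = 0 then 1 else 0)
        = p.2
      rw [if_pos rfl, orient_zero]
      ring

variable {F n}

theorem evenOddEquiv_fst (h2 : (2 : F) ≠ 0) (f : Wp F n) (t : Fin n → F) :
    (((evenOddEquiv F n h2 f).1 : Wm F n) : (Fin n → F) → ℂ) t =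
      orient t * (f : (Fin n → F) → ℂ) t := rfl

theorem evenOddEquiv_snd (h2 : (2 : F) ≠ 0) (f : Wp F n) :
    (evenOddEquiv F n h2 f).2 = (f : (Fin n → F) → ℂ) 0 := rfl

end orient

section exactAll
variable {F : Type*} [Field F] [Fintype F] [DecidableEq F] {n : ℕ}
variable (ψ : AddChar F ℂ) (γ : F)

theorem resP_mulOp_apply (S : symAdd F n) (f : Wp F n) (t : Fin n → F) :
    ((resP (mulOp ψ γ S) f : Wp F n) : (Fin n → F) → ℂ) t =
      ψ (-(γ * qf (S : Matrix (Fin n) (Fin n) F) t)) * (f : (Fin n → F) → ℂ) t := by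
  rw [resP_apply_coe, projP_apply, mulOp_apply, mulOp_apply, qf_neg_vec, f.2 t]
  ring

theorem resM_mulOp_apply (S : symAdd F n) (f : Wm F n) (t : Fin n → F) :
    ((resM (mulOp ψ γ S) f : Wm F n) : (Fin n → F) → ℂ) t =
      ψ (-(γ * qf (S : Matrix (Fin n) (Fin n) F) t)) * (f : (Fin n → F) → ℂ) t := by
  rw [resM_apply_coe, projM_apply, mulOp_apply, mulOp_apply, qf_neg_vec, f.2 t]
  ring

theorem qf_zero_vec (X : Matrix (Fin n) (Fin n) F) : qf X (0 : Fin n → F) = 0 := by
  unfold qf
  rw [zero_dotProduct]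

theorem conj_resP_mulOp (h2 : (2 : F) ≠ 0) (S : symAdd F n) :
    ((evenOddEquiv F n h2 : Wp F n →ₗ[ℂ] (Wm F n × ℂ)) ∘ₗ resP (mulOp ψ γ S) ∘ₗ
      ((evenOddEquiv F n h2).symm : (Wm F n × ℂ) →ₗ[ℂ] Wp F n)) =
      LinearMap.prodMap (resM (mulOp ψ γ S)) (1 : Module.End ℂ ℂ) := by
  apply LinearMap.ext
  intro p
  obtain ⟨f, rfl⟩ := (evenOddEquiv F n h2).surjective p
  show evenOddEquiv F n h2 (resP (mulOp ψ γ S) ((evenOddEquiv F n h2).symm (evenOddEquiv F n h2 f)))
    = _
  rw [LinearEquiv.symm_apply_apply]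
  apply Prod.ext
  · apply Subtype.ext
    funext t
    show (((evenOddEquiv F n h2 (resP (mulOp ψ γ S) f)).1 : Wm F n) : (Fin n → F) → ℂ) t =
      ((resM (mulOp ψ γ S) (evenOddEquiv F n h2 f).1 : Wm F n) : (Fin n → F) → ℂ) t
    rw [evenOddEquiv_fst, resP_mulOp_apply, resM_mulOp_apply, evenOddEquiv_fst]
    ring
  · show (evenOddEquiv F n h2 (resP (mulOp ψ γ S) f)).2 = (evenOddEquiv F n h2 f).2
    rw [evenOddEquiv_snd, evenOddEquiv_snd, resP_mulOp_apply, qf_zero_vec, mul_zero, neg_zero,
      AddChar.map_zero_eq_one, one_mul]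

/-- `kapS = 1` for ALL `n` -/
theorem kapS_eq_one_all (h2 : (2 : F) ≠ 0) (S : symAdd F n) : kapS ψ γ S = 1 := by
  unfold kapS kap
  have h1 : LinearMap.det (resP (mulOp ψ γ S)) = LinearMap.det (resM (mulOp ψ γ S)) := by
    rw [← LinearMap.det_conj (resP (mulOp ψ γ S)) (evenOddEquiv F n h2), conj_resP_mulOp ψ γ h2 S,
      LinearMap.det_prodMap, map_one, mul_one]
  rw [h1]
  have hne : LinearMap.det (resM (mulOp ψ γ S)) ≠ 0 := by
    have hk := kapS_ne_zero ψ γ S
    unfold kapS kap at hk
    intro h0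
    rw [h0, div_zero] at hk
    exact hk rfl
  exact div_self hne

/-- EXACTNESS for all `n`: the normalised Weil representation acts on `lQ S` by `mulOp S` -/
theorem weilRep_lQ_all {ψ : AddChar F ℂ} {γ : F} (D : WeilData F ψ γ) (S : symAdd F n) :
    weilRep D (lQ S) = mulOp ψ γ S := by
  apply good_unique D (weilRep_good D (lQ S))
  exact ⟨impl_mulOp ψ γ D.hγ S, isUnit_mulOp ψ γ S, kapS_eq_one_all ψ γ D.h2 S⟩

end exactAll

end Cfsg.Agent.Lib.Helper6.Wl
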