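import Mathlib
import Cfsg.Agent.Lib.Helper6.WlK
import Cfsg.Agent.Lib.Helper6.WlL

set_option autoImplicit false
set_option linter.unusedSectionVars false
set_option linter.unusedVariables false

/-!
The Weil pair for ALL `n ≥ 1` (in particular `n = 1`, i.e. `SL₂(q)`): same statements as in
`WlK`, with the exactness `weilRep_lQ_all` valid for every `n`.
-/

namespace Cfsg.Agent.Lib.Helper6.Wl

open Matrix Cfsg

section finalAll
variable {F : Type*} [Field F] [Fintype F] [DecidableEq F]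

theorem eT_weilRep_all (ψ : AddChar F ℂ) (hodd : Odd (Fintype.card F)) (hψ : ψ ≠ 1) (c : F)
    (hc : c ≠ 0) (n : ℕ) (T : symAdd F n) :
    eT (weilRep (n := n) (weilData_shift ψ hodd hψ c hc)) ψ T =
      weilRep (n := n) (weilData_shift ψ hodd hψ c hc) jSp * pT c T *
        weilRep (n := n) (weilData_shift ψ hodd hψ c hc) jSp⁻¹ := by
  have h2 : (2 : F) ≠ 0 := two_ne_zero_of_odd hodd
  rw [← avg_mulOp ψ h2 hψ c T]
  unfold eT
  rw [mul_smul_comm, smul_mul_assoc, Finset.mul_sum, Finset.sum_mul]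
  congr 1
  apply Finset.sum_congr rfl
  intro S _
  rw [mul_smul_comm, smul_mul_assoc, rho_uQ_eq, weilRep_lQ_all]

theorem trace_eT_subP_all (hodd : Odd (Fintype.card F)) (ψ : AddChar F ℂ) (hψ : ψ ≠ 1) (c : F)
    (hc : c ≠ 0) (n : ℕ) (x : Fin n → F) (hx : x ≠ 0) :
    LinearMap.trace ℂ _
      (eT (subP (n := n) (weilData_shift ψ hodd hψ c hc)).toRepresentation ψ (sm1 c x)) = 1 := by
  have h2 : (2 : F) ≠ 0 := two_ne_zero_of_odd hodd
  have h1 := trace_of_sub (Wp F n) projP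
    (eT (weilRep (n := n) (weilData_shift ψ hodd hψ c hc)) ψ (sm1 c x)) isProj_P
    (eT (subP (n := n) (weilData_shift ψ hodd hψ c hc)).toRepresentation ψ (sm1 c x))
    (fun w => eT_sub_coe _ ψ (subP (n := n) (weilData_shift ψ hodd hψ c hc)) (sm1 c x) w)
  refine h1.trans ?_
  rw [eT_weilRep_all ψ hodd hψ c hc n]
  have hcomm : weilRep (n := n) (weilData_shift ψ hodd hψ c hc) jSp⁻¹ * projP =
      projP * weilRep (n := n) (weilData_shift ψ hodd hψ c hc) jSp⁻¹ :=
    comm_projP (weilRep_comm_parOp _ _)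
  rw [mul_assoc, hcomm, ← mul_assoc, LinearMap.trace_mul_comm, ← mul_assoc, ← mul_assoc,
    rho_jSp_inv_mul, one_mul]
  exact trace_pT_projP h2 c hc x hx

theorem trace_eT_subM_all (hodd : Odd (Fintype.card F)) (ψ : AddChar F ℂ) (hψ : ψ ≠ 1) (c : F)
    (hc : c ≠ 0) (n : ℕ) (x : Fin n → F) (hx : x ≠ 0) :
    LinearMap.trace ℂ _
      (eT (subM (n := n) (weilData_shift ψ hodd hψ c hc)).toRepresentation ψ (sm1 c x)) = 1 := by
  have h2 : (2 : F) ≠ 0 := two_ne_zero_of_odd hodd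
  have h1 := trace_of_sub (Wm F n) projM
    (eT (weilRep (n := n) (weilData_shift ψ hodd hψ c hc)) ψ (sm1 c x)) isProj_M
    (eT (subM (n := n) (weilData_shift ψ hodd hψ c hc)).toRepresentation ψ (sm1 c x))
    (fun w => eT_sub_coe _ ψ (subM (n := n) (weilData_shift ψ hodd hψ c hc)) (sm1 c x) w)
  refine h1.trans ?_
  rw [eT_weilRep_all ψ hodd hψ c hc n]
  have hcomm : weilRep (n := n) (weilData_shift ψ hodd hψ c hc) jSp⁻¹ * projM =
      projM * weilRep (n := n) (weilData_shift ψ hodd hψ c hc) jSp⁻¹ :=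
    comm_projM (weilRep_comm_parOp _ _)
  rw [mul_assoc, hcomm, ← mul_assoc, LinearMap.trace_mul_comm, ← mul_assoc, ← mul_assoc,
    rho_jSp_inv_mul, one_mul]
  exact trace_pT_projM h2 c hc x hx

theorem eT_weilRep_eq_zero_all (hodd : Odd (Fintype.card F)) (ψ : AddChar F ℂ) (hψ : ψ ≠ 1) (c : F)
    (hc : c ≠ 0) (n : ℕ) (T : symAdd F n)
    (h : ¬ ∃ x : Fin n → F, (T : Matrix (Fin n) (Fin n) F) = c • vecMulVec x x) :
    eT (weilRep (n := n) (weilData_shift ψ hodd hψ c hc)) ψ T = 0 := by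
  rw [eT_weilRep_all ψ hodd hψ c hc n, pT_eq_zero c T h, mul_zero, zero_mul]

theorem smul_vecMulVec_zero (c : F) (n : ℕ) :
    c • vecMulVec (0 : Fin n → F) (0 : Fin n → F) = 0 := by
  ext i j
  simp [vecMulVec_apply]

/-- the value of the `T = 0` projector on the even part: trace one -/
theorem trace_pT_zero_projP (h2 : (2 : F) ≠ 0) (c : F) (hc : c ≠ 0) (n : ℕ) :
    LinearMap.trace ℂ ((Fin n → F) → ℂ) (pT c (0 : symAdd F n) * projP) = 1 := by
  rw [LinearMap.trace_eq_matrix_trace ℂ (Pi.basisFun ℂ (Fin n → F)),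
    LinearMap.toMatrix_eq_toMatrix', Matrix.trace]
  simp only [Matrix.diag_apply, LinearMap.toMatrix'_apply, Module.End.mul_apply, pT_apply,
    projP_apply]
  rw [Finset.sum_eq_single (0 : Fin n → F)]
  · rw [if_pos (show c • vecMulVec (0 : Fin n → F) 0 =
      ((0 : symAdd F n) : Matrix (Fin n) (Fin n) F) from smul_vecMulVec_zero c n)]
    rw [neg_zero, Pi.single_eq_same]
    norm_num
  · intro t _ ht
    rw [if_neg]
    intro h
    apply ht
    have h1 : c • vecMulVec t t = c • vecMulVec (0 : Fin n → F) 0 := by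
      rw [h, smul_vecMulVec_zero]
      rfl
    rcases (smul_vecMulVec_eq_iff c hc t 0).1 h1 with h3 | h3
    · exact h3
    · rw [h3, neg_zero]
  · intro h
    exact absurd (Finset.mem_univ _) h

/-- the value of the `T = 0` projector on the odd part: trace zero -/
theorem trace_pT_zero_projM (h2 : (2 : F) ≠ 0) (c : F) (hc : c ≠ 0) (n : ℕ) :
    LinearMap.trace ℂ ((Fin n → F) → ℂ) (pT c (0 : symAdd F n) * projM) = 0 := by
  rw [LinearMap.trace_eq_matrix_trace ℂ (Pi.basisFun ℂ (Fin n → F)),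
    LinearMap.toMatrix_eq_toMatrix', Matrix.trace]
  simp only [Matrix.diag_apply, LinearMap.toMatrix'_apply, Module.End.mul_apply, pT_apply,
    projM_apply]
  apply Finset.sum_eq_zero
  intro t _
  by_cases h : c • vecMulVec t t = ((0 : symAdd F n) : Matrix (Fin n) (Fin n) F)
  · rw [if_pos h]
    have h1 : c • vecMulVec t t = c • vecMulVec (0 : Fin n → F) 0 := by
      rw [h, smul_vecMulVec_zero]
      rfl
    have ht : t = 0 := by
      rcases (smul_vecMulVec_eq_iff c hc t 0).1 h1 with h3 | h3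
      · exact h3
      · rw [h3, neg_zero]
    rw [ht, neg_zero, sub_self, mul_zero]
  · rw [if_neg h]

theorem trace_eT_zero_subP_all (hodd : Odd (Fintype.card F)) (ψ : AddChar F ℂ) (hψ : ψ ≠ 1)
    (c : F) (hc : c ≠ 0) (n : ℕ) :
    LinearMap.trace ℂ _
      (eT (subP (n := n) (weilData_shift ψ hodd hψ c hc)).toRepresentation ψ 0) = 1 := by
  have h2 : (2 : F) ≠ 0 := two_ne_zero_of_odd hodd
  have h1 := trace_of_sub (Wp F n) projP
    (eT (weilRep (n := n) (weilData_shift ψ hodd hψ c hc)) ψ 0) isProj_P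
    (eT (subP (n := n) (weilData_shift ψ hodd hψ c hc)).toRepresentation ψ 0)
    (fun w => eT_sub_coe _ ψ (subP (n := n) (weilData_shift ψ hodd hψ c hc)) 0 w)
  refine h1.trans ?_
  rw [eT_weilRep_all ψ hodd hψ c hc n]
  have hcomm : weilRep (n := n) (weilData_shift ψ hodd hψ c hc) jSp⁻¹ * projP =
      projP * weilRep (n := n) (weilData_shift ψ hodd hψ c hc) jSp⁻¹ :=
    comm_projP (weilRep_comm_parOp _ _)
  rw [mul_assoc, hcomm, ← mul_assoc, LinearMap.trace_mul_comm, ← mul_assoc, ← mul_assoc,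
    rho_jSp_inv_mul, one_mul]
  exact trace_pT_zero_projP h2 c hc n

theorem trace_eT_zero_subM_all (hodd : Odd (Fintype.card F)) (ψ : AddChar F ℂ) (hψ : ψ ≠ 1)
    (c : F) (hc : c ≠ 0) (n : ℕ) :
    LinearMap.trace ℂ _
      (eT (subM (n := n) (weilData_shift ψ hodd hψ c hc)).toRepresentation ψ 0) = 0 := by
  have h2 : (2 : F) ≠ 0 := two_ne_zero_of_odd hodd
  have h1 := trace_of_sub (Wm F n) projM
    (eT (weilRep (n := n) (weilData_shift ψ hodd hψ c hc)) ψ 0) isProj_M
    (eT (subM (n := n) (weilData_shift ψ hodd hψ c hc)).toRepresentation ψ 0)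
    (fun w => eT_sub_coe _ ψ (subM (n := n) (weilData_shift ψ hodd hψ c hc)) 0 w)
  refine h1.trans ?_
  rw [eT_weilRep_all ψ hodd hψ c hc n]
  have hcomm : weilRep (n := n) (weilData_shift ψ hodd hψ c hc) jSp⁻¹ * projM =
      projM * weilRep (n := n) (weilData_shift ψ hodd hψ c hc) jSp⁻¹ :=
    comm_projM (weilRep_comm_parOp _ _)
  rw [mul_assoc, hcomm, ← mul_assoc, LinearMap.trace_mul_comm, ← mul_assoc, ← mul_assoc,
    rho_jSp_inv_mul, one_mul]
  exact trace_pT_zero_projM h2 c hc n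

/-- **The Weil pair, all `n ≥ 1`**, with the extra information on the `T = 0` projector. -/
theorem exists_weil_pair_all (n : ℕ) (hn : 1 ≤ n) (hodd : Odd (Fintype.card F)) (ψ : AddChar F ℂ)
    (hψ : ψ ≠ 1) (c : F) (hc : c ≠ 0) :
    ∃ (s0 : ℂ) (kP kM : ℕ) (rP : Representation ℂ (symplecticGroup (Fin n) F) (Fin kP → ℂ))
      (rM : Representation ℂ (symplecticGroup (Fin n) F) (Fin kM → ℂ)),
      (s0 = 1 ∨ s0 = -1) ∧ 2 * kP = Fintype.card F ^ n + 1 ∧ 2 * kM = Fintype.card F ^ n - 1 ∧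
      rP.IsIrreducible ∧ rM.IsIrreducible ∧
      rP negSp = s0 • 1 ∧ rM negSp = (-s0) • 1 ∧
      (∀ T : symAdd F n, eT rP ψ T ≠ 0 →
        ∃ x : Fin n → F, (T : Matrix (Fin n) (Fin n) F) = c • vecMulVec x x) ∧
      (∀ T : symAdd F n, eT rM ψ T ≠ 0 →
        ∃ x : Fin n → F, (T : Matrix (Fin n) (Fin n) F) = c • vecMulVec x x) ∧
      (∀ x : Fin n → F, x ≠ 0 → LinearMap.trace ℂ _ (eT rP ψ (sm1 c x)) = 1) ∧
      (∀ x : Fin n → F, x ≠ 0 → LinearMap.trace ℂ _ (eT rM ψ (sm1 c x)) = 1) ∧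
      LinearMap.trace ℂ _ (eT rP ψ 0) = 1 ∧ LinearMap.trace ℂ _ (eT rM ψ 0) = 0 := by
  have h2 : (2 : F) ≠ 0 := two_ne_zero_of_odd hodd
  obtain ⟨s0, hs0, hs⟩ := weilRep_negSp (n := n) (weilData_shift ψ hodd hψ c hc)
  obtain ⟨hfm, hfp⟩ := finrank_nat (F := F) (n := n) h2 hodd
  obtain ⟨k, hk⟩ := hodd.pow (n := n)
  have hq3 : 3 ≤ Fintype.card F := by
    have h1 : 1 < Fintype.card F := Fintype.one_lt_card
    rcases hodd with ⟨k, hk⟩
    omega
  have hqn : 3 ≤ Fintype.card F ^ n := le_trans hq3 (Nat.le_self_pow (by omega) _)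
  have hneP : (subP (n := n) (weilData_shift ψ hodd hψ c hc)).toSubmodule ≠ ⊥ := by
    intro h
    have h1 : Module.finrank ℂ (Wp F n) = 0 := by
      rw [show Wp F n = ⊥ from h]
      exact finrank_bot ℂ _
    omega
  have hneM : (subM (n := n) (weilData_shift ψ hodd hψ c hc)).toSubmodule ≠ ⊥ := by
    intro h
    have h1 : Module.finrank ℂ (Wm F n) = 0 := by
      rw [show Wm F n = ⊥ from h]
      exact finrank_bot ℂ _
    omega
  have hirrP : (subP (n := n) (weilData_shift ψ hodd hψ c hc)).toRepresentation.IsIrreducible :=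
    isIrreducible_sub _ hneP (fun U hU1 hU2 hU3 => even_irreducible_core _ U hU1 hU2 hU3)
  have hirrM : (subM (n := n) (weilData_shift ψ hodd hψ c hc)).toRepresentation.IsIrreducible :=
    isIrreducible_sub _ hneM (fun U hU1 hU2 hU3 => odd_irreducible_core _ U hU1 hU2 hU3)
  let eP : (subP (n := n) (weilData_shift ψ hodd hψ c hc)).toSubmodule ≃ₗ[ℂ]
      (Fin (Module.finrank ℂ (Wp F n)) → ℂ) := (Module.finBasis ℂ (Wp F n)).equivFun
  let eM : (subM (n := n) (weilData_shift ψ hodd hψ c hc)).toSubmodule ≃ₗ[ℂ]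
      (Fin (Module.finrank ℂ (Wm F n)) → ℂ) := (Module.finBasis ℂ (Wm F n)).equivFun
  refine ⟨s0, Module.finrank ℂ (Wp F n), Module.finrank ℂ (Wm F n),
    transport (subP (n := n) (weilData_shift ψ hodd hψ c hc)).toRepresentation eP,
    transport (subM (n := n) (weilData_shift ψ hodd hψ c hc)).toRepresentation eM,
    hs0, by omega, by omega, isIrreducible_of_equiv (transportEquiv _ eP),
    isIrreducible_of_equiv (transportEquiv _ eM), ?_, ?_, ?_, ?_, ?_, ?_, ?_, ?_⟩
  · rw [transport_apply, subP_negSp _ s0 hs]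
    apply LinearMap.ext
    intro v
    simp
  · rw [transport_apply, subM_negSp _ s0 hs]
    apply LinearMap.ext
    intro v
    simp
  · intro T hT
    by_contra hcon
    apply hT
    rw [eT_transport, eT_sub_eq_zero _ ψ _ T (eT_weilRep_eq_zero_all hodd ψ hψ c hc n T hcon),
      map_zero]
  · intro T hT
    by_contra hcon
    apply hT
    rw [eT_transport, eT_sub_eq_zero _ ψ _ T (eT_weilRep_eq_zero_all hodd ψ hψ c hc n T hcon),
      map_zero]
  · intro x hx
    rw [eT_transport, LinearMap.trace_conj']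
    exact trace_eT_subP_all hodd ψ hψ c hc n x hx
  · intro x hx
    rw [eT_transport, LinearMap.trace_conj']
    exact trace_eT_subM_all hodd ψ hψ c hc n x hx
  · rw [eT_transport, LinearMap.trace_conj']
    exact trace_eT_zero_subP_all hodd ψ hψ c hc n
  · rw [eT_transport, LinearMap.trace_conj']
    exact trace_eT_zero_subM_all hodd ψ hψ c hc n

end finalAll

end Cfsg.Agent.Lib.Helper6.Wl
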