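import Mathlib
import Cfsg.Agent.Lib.Helper6.WlM

set_option autoImplicit false
set_option linter.unusedSectionVars false
set_option linter.unusedVariables false

/-!
Unit W of the SPW farm (Part II): the Weil pair in the shape of `tools/helper1/SPW_stubs.lean.txt`.
-/

namespace Cfsg.Agent.Lib.Helper6.SPW

open Matrix Cfsg Cfsg.Agent.Lib.Helper6.Wl

section unitW
variable {F : Type*} [Field F] [Fintype F] [DecidableEq F]

theorem exists_weil_pair {n : ℕ} (hn : 1 ≤ n) (hodd : Odd (Fintype.card F)) (ψ : AddChar F ℂ)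
    (hψ : ψ ≠ 1) (c : F) (hc : c ≠ 0) :
    ∃ (s0 : ℂ) (kP kM : ℕ)
      (rP : Representation ℂ (symplecticGroup (Fin n) F) (Fin kP → ℂ))
      (rM : Representation ℂ (symplecticGroup (Fin n) F) (Fin kM → ℂ)),
      (s0 = 1 ∨ s0 = -1) ∧ 2 * kP = Fintype.card F ^ n + 1 ∧ 2 * kM + 1 = Fintype.card F ^ n ∧
      rP.IsIrreducible ∧ rM.IsIrreducible ∧
      rP negSp = s0 • 1 ∧ rM negSp = (-s0) • 1 ∧
      (∀ T : symAdd F n, eT rP ψ T ≠ 0 →
        ∃ x : Fin n → F, (T : Matrix (Fin n) (Fin n) F) = c • vecMulVec x x) ∧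
      (∀ T : symAdd F n, eT rM ψ T ≠ 0 →
        ∃ x : Fin n → F, (T : Matrix (Fin n) (Fin n) F) = c • vecMulVec x x) ∧
      (∀ (x : Fin n → F) (T : symAdd F n), x ≠ 0 →
        (T : Matrix (Fin n) (Fin n) F) = c • vecMulVec x x →
        LinearMap.trace ℂ _ (eT rP ψ T) = 1 ∧ LinearMap.trace ℂ _ (eT rM ψ T) = 1) := by
  obtain ⟨s0, kP, kM, rP, rM, h1, h2, h3, h4, h5, h6, h7, h8, h9, h10, h11, -, -⟩ :=
    exists_weil_pair_all n hn hodd ψ hψ c hc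
  have hq : 1 ≤ Fintype.card F ^ n := Nat.one_le_pow _ _ Fintype.card_pos
  refine ⟨s0, kP, kM, rP, rM, h1, h2, by omega, h4, h5, h6, h7, h8, h9, ?_⟩
  intro x T hx hT
  have hTe : T = sm1 c x := Subtype.ext (by rw [hT, sm1_coe])
  rw [hTe]
  exact ⟨h10 x hx, h11 x hx⟩

/-- the same with the multiplicities of the trivial character `T = 0` of `uQ` -/
theorem exists_weil_pair_zero {n : ℕ} (hn : 1 ≤ n) (hodd : Odd (Fintype.card F)) (ψ : AddChar F ℂ)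
    (hψ : ψ ≠ 1) (c : F) (hc : c ≠ 0) :
    ∃ (s0 : ℂ) (kP kM : ℕ)
      (rP : Representation ℂ (symplecticGroup (Fin n) F) (Fin kP → ℂ))
      (rM : Representation ℂ (symplecticGroup (Fin n) F) (Fin kM → ℂ)),
      (s0 = 1 ∨ s0 = -1) ∧ 2 * kP = Fintype.card F ^ n + 1 ∧ 2 * kM + 1 = Fintype.card F ^ n ∧
      rP.IsIrreducible ∧ rM.IsIrreducible ∧
      rP negSp = s0 • 1 ∧ rM negSp = (-s0) • 1 ∧
      (∀ T : symAdd F n, eT rP ψ T ≠ 0 →
        ∃ x : Fin n → F, (T : Matrix (Fin n) (Fin n) F) = c • vecMulVec x x) ∧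
      (∀ T : symAdd F n, eT rM ψ T ≠ 0 →
        ∃ x : Fin n → F, (T : Matrix (Fin n) (Fin n) F) = c • vecMulVec x x) ∧
      (∀ (x : Fin n → F) (T : symAdd F n), x ≠ 0 →
        (T : Matrix (Fin n) (Fin n) F) = c • vecMulVec x x →
        LinearMap.trace ℂ _ (eT rP ψ T) = 1 ∧ LinearMap.trace ℂ _ (eT rM ψ T) = 1) ∧
      LinearMap.trace ℂ _ (eT rP ψ 0) = 1 ∧ LinearMap.trace ℂ _ (eT rM ψ 0) = 0 := by
  obtain ⟨s0, kP, kM, rP, rM, h1, h2, h3, h4, h5, h6, h7, h8, h9, h10, h11, h12, h13⟩ :=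
    exists_weil_pair_all n hn hodd ψ hψ c hc
  have hq : 1 ≤ Fintype.card F ^ n := Nat.one_le_pow _ _ Fintype.card_pos
  refine ⟨s0, kP, kM, rP, rM, h1, h2, by omega, h4, h5, h6, h7, h8, h9, ?_, h12, h13⟩
  intro x T hx hT
  have hTe : T = sm1 c x := Subtype.ext (by rw [hT, sm1_coe])
  rw [hTe]
  exact ⟨h10 x hx, h11 x hx⟩

end unitW

end Cfsg.Agent.Lib.Helper6.SPW
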