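import Mathlib

set_option autoImplicit false
open scoped commutatorElement

namespace Cfsg.Agent.Lib.Helper6.SqF

variable {P : Type*} [Group P]

/-- If all commutators are central, `g ↦ ⁅g, x⁆` is a homomorphism. -/
theorem commutator_mul_left_of_central (hc : ∀ a b : P, ⁅a, b⁆ ∈ Subgroup.center P)
    (g₁ g₂ x : P) : ⁅g₁ * g₂, x⁆ = ⁅g₁, x⁆ * ⁅g₂, x⁆ := by
  have h2 := Subgroup.mem_center_iff.mp (hc g₂ x)
  have key : ⁅g₁ * g₂, x⁆ = g₁ * ⁅g₂, x⁆ * x * g₁⁻¹ * x⁻¹ := by
    simp only [commutatorElement_def]; group
  rw [key, h2 g₁, h2 (⁅g₁, x⁆)]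
  simp only [commutatorElement_def]; group

/-- If all commutators are central, `⁅g, x * y⁆ = ⁅g, x⁆ * ⁅g, y⁆`. -/
theorem commutator_mul_right_of_central (hc : ∀ a b : P, ⁅a, b⁆ ∈ Subgroup.center P)
    (g x y : P) : ⁅g, x * y⁆ = ⁅g, x⁆ * ⁅g, y⁆ := by
  have h2 := Subgroup.mem_center_iff.mp (hc g y)
  have key : ⁅g, x * y⁆ = g * x * g⁻¹ * ⁅g, y⁆ * x⁻¹ := by
    simp only [commutatorElement_def]; group
  rw [key, mul_assoc (g * x * g⁻¹), ← h2 x⁻¹]
  simp only [commutatorElement_def]; group

/-- the homomorphism `g ↦ ⁅g, x⁆` -/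
noncomputable def commHom (hc : ∀ a b : P, ⁅a, b⁆ ∈ Subgroup.center P) (x : P) : P →* P :=
  MonoidHom.mk' (fun g => ⁅g, x⁆) (fun g₁ g₂ => commutator_mul_left_of_central hc g₁ g₂ x)

theorem commHom_apply (hc : ∀ a b : P, ⁅a, b⁆ ∈ Subgroup.center P) (x g : P) :
    commHom hc x g = ⁅g, x⁆ := rfl

theorem commHom_ker (hc : ∀ a b : P, ⁅a, b⁆ ∈ Subgroup.center P) (x : P) :
    (commHom hc x).ker = Subgroup.centralizer ({x} : Set P) := by
  ext g
  rw [MonoidHom.mem_ker, commHom_apply, commutatorElement_eq_one_iff_mul_comm,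
    Subgroup.mem_centralizer_iff]
  constructor
  · intro h y hy
    rw [Set.mem_singleton_iff] at hy
    rw [hy]; exact h.symm
  · intro h
    exact (h x (Set.mem_singleton x)).symm

/-- (PG) Knoche's theorem: a finite `p`-group all of whose class sizes divide `p` has derived
subgroup of order dividing `p`. -/
theorem card_commutator_dvd_of_index_dvd [Finite P] {p : ℕ} [hp : Fact p.Prime]
    (hP : IsPGroup p P)
    (h : ∀ x : P, (Subgroup.centralizer ({x} : Set P)).index ∣ p) :
    Nat.card (commutator P) ∣ p := by
  classical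
  -- Step A: commutator ≤ every centralizer
  have hA : ∀ x : P, commutator P ≤ Subgroup.centralizer ({x} : Set P) := by
    intro x
    rcases (Nat.dvd_prime hp.out).mp (h x) with h1 | h1
    · rw [Subgroup.index_eq_one.mp h1]; exact le_top
    · have hcard : Nat.card P ≠ 1 := by
        intro hc1
        have : (Subgroup.centralizer ({x} : Set P)).index ∣ Nat.card P :=
          Subgroup.index_dvd_card _
        rw [h1, hc1] at this
        exact hp.out.one_lt.ne' (Nat.dvd_one.mp this)
      obtain ⟨k, hk⟩ := hP.exists_card_eq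
      have hk0 : k ≠ 0 := by
        rintro rfl
        rw [pow_zero] at hk
        exact hcard hk
      have hmin : (Nat.card P).minFac = p := by
        rw [hk, hp.out.pow_minFac hk0]
      haveI hn : (Subgroup.centralizer ({x} : Set P)).Normal :=
        Subgroup.normal_of_index_eq_minFac_card (h1.trans hmin.symm)
      have hq : Nat.card (P ⧸ Subgroup.centralizer ({x} : Set P)) = p := h1
      haveI : IsCyclic (P ⧸ Subgroup.centralizer ({x} : Set P)) := isCyclic_of_prime_card hq
      apply Subgroup.Normal.quotient_commutative_iff_commutator_le.mp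
      exact ⟨⟨fun a b => (IsCyclic.commGroup
        (α := P ⧸ Subgroup.centralizer ({x} : Set P))).mul_comm a b⟩⟩
  have hc : ∀ a b : P, ⁅a, b⁆ ∈ Subgroup.center P := by
    intro a b
    rw [Subgroup.mem_center_iff]
    intro g
    have h1 : ⁅a, b⁆ ∈ commutator P := by
      rw [commutator_def]
      exact Subgroup.commutator_mem_commutator (Subgroup.mem_top a) (Subgroup.mem_top b)
    have h2 := hA g h1
    rw [Subgroup.mem_centralizer_iff] at h2
    exact h2 g (Set.mem_singleton g)
  -- images
  set A : P → Subgroup P := fun x => (commHom hc x).range with hAdef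
  have hAcard : ∀ x : P, Nat.card (A x) = (Subgroup.centralizer ({x} : Set P)).index := by
    intro x
    rw [← commHom_ker hc x, Subgroup.index_ker]
  have hAle : ∀ x : P, A x ≠ ⊥ → Nat.card (A x) = p := by
    intro x hx
    rcases (Nat.dvd_prime hp.out).mp (hAcard x ▸ h x) with h1 | h1
    · exact absurd (Subgroup.card_eq_one.mp h1) hx
    · exact h1
  have hcomm_le : ∀ B : Subgroup P, (∀ x : P, A x ≤ B) → commutator P ≤ B := by
    intro B hB
    rw [commutator_def, Subgroup.commutator_le]
    intro g _ x _
    exact hB x ⟨g, rfl⟩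
  -- pairwise lemma
  have hpair : ∀ x y : P, A x ≠ ⊥ → A y ≠ ⊥ → A x ≠ A y →
      Subgroup.centralizer ({x} : Set P) = Subgroup.centralizer ({y} : Set P) := by
    intro x y hx hy hxy
    have hcx := hAle x hx
    have hcy := hAle y hy
    have hdisj : A x ⊓ A y = ⊥ := by
      by_contra hne
      have h1 : Nat.card ↥(A x ⊓ A y) ∣ p := hcx ▸ Subgroup.card_dvd_of_le inf_le_left
      rcases (Nat.dvd_prime hp.out).mp h1 with h2 | h2
      · exact hne (Subgroup.card_eq_one.mp h2)
      · have e1 : A x ⊓ A y = A x :=
          Subgroup.eq_of_le_of_card_ge inf_le_left (by rw [h2, hcx])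
        have e2 : A x ⊓ A y = A y :=
          Subgroup.eq_of_le_of_card_ge inf_le_right (by rw [h2, hcy])
        exact hxy (e1.symm.trans e2)
    have hinf : Subgroup.centralizer ({x * y} : Set P) =
        Subgroup.centralizer ({x} : Set P) ⊓ Subgroup.centralizer ({y} : Set P) := by
      rw [← commHom_ker hc (x * y), ← commHom_ker hc x, ← commHom_ker hc y]
      ext g
      rw [Subgroup.mem_inf, MonoidHom.mem_ker, MonoidHom.mem_ker, MonoidHom.mem_ker,
        commHom_apply, commHom_apply, commHom_apply, commutator_mul_right_of_central hc]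
      constructor
      · intro hg
        have h1 : ⁅g, x⁆ = ⁅g, y⁆⁻¹ := eq_inv_of_mul_eq_one_left hg
        have h2 : ⁅g, x⁆ ∈ A x ⊓ A y :=
          ⟨⟨g, rfl⟩, by rw [h1]; exact (A y).inv_mem ⟨g, rfl⟩⟩
        rw [hdisj, Subgroup.mem_bot] at h2
        refine ⟨h2, ?_⟩
        rw [h2, one_mul] at hg
        exact hg
      · rintro ⟨h1, h2⟩
        rw [h1, h2, one_mul]
    have hix : (Subgroup.centralizer ({x} : Set P)).index = p := by rw [← hAcard, hcx]
    have hiy : (Subgroup.centralizer ({y} : Set P)).index = p := by rw [← hAcard, hcy]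
    have hixy : (Subgroup.centralizer ({x} : Set P) ⊓
        Subgroup.centralizer ({y} : Set P)).index = p := by
      rcases (Nat.dvd_prime hp.out).mp (hinf ▸ h (x * y)) with h1 | h1
      · exfalso
        have := Subgroup.index_eq_one.mp h1
        have h2 : Subgroup.centralizer ({x} : Set P) = ⊤ :=
          top_le_iff.mp (this ▸ inf_le_left)
        rw [h2, Subgroup.index_top] at hix
        exact hp.out.one_lt.ne' hix.symm
      · exact h1
    have e1 : Subgroup.centralizer ({x} : Set P) ⊓ Subgroup.centralizer ({y} : Set P) =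
        Subgroup.centralizer ({x} : Set P) := by
      apply le_antisymm inf_le_left
      rw [← Subgroup.relIndex_eq_one]
      have := Subgroup.relIndex_mul_index (H := Subgroup.centralizer ({x} : Set P) ⊓
        Subgroup.centralizer ({y} : Set P)) (K := Subgroup.centralizer ({x} : Set P)) inf_le_left
      rw [hix, hixy] at this
      exact Nat.eq_of_mul_eq_mul_right hp.out.pos (by rw [this, one_mul])
    have e2 : Subgroup.centralizer ({x} : Set P) ⊓ Subgroup.centralizer ({y} : Set P) =
        Subgroup.centralizer ({y} : Set P) := by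
      apply le_antisymm inf_le_right
      rw [← Subgroup.relIndex_eq_one]
      have := Subgroup.relIndex_mul_index (H := Subgroup.centralizer ({x} : Set P) ⊓
        Subgroup.centralizer ({y} : Set P)) (K := Subgroup.centralizer ({y} : Set P)) inf_le_right
      rw [hiy, hixy] at this
      exact Nat.eq_of_mul_eq_mul_right hp.out.pos (by rw [this, one_mul])
    exact e1.symm.trans e2
  -- conclusion
  by_cases hall : ∀ x y : P, A x ≠ ⊥ → A y ≠ ⊥ → A x = A y
  · by_cases hex : ∃ x : P, A x ≠ ⊥
    · obtain ⟨x, hx⟩ := hex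
      have hle : commutator P ≤ A x := by
        apply hcomm_le
        intro y
        by_cases hy : A y = ⊥
        · rw [hy]; exact bot_le
        · rw [hall y x hy hx]
      have := Subgroup.card_dvd_of_le hle
      rwa [hAle x hx] at this
    · push Not at hex
      have hle : commutator P ≤ ⊥ := hcomm_le ⊥ (fun y => (hex y).le)
      have : commutator P = ⊥ := le_bot_iff.mp hle
      rw [this, Subgroup.card_bot]
      exact one_dvd p
  · exfalso
    push Not at hall
    obtain ⟨x, y, hx, hy, hxy⟩ := hall
    have hM := hpair x y hx hy hxy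
    -- centralizer {x} ≠ ⊤
    have hne : Subgroup.centralizer ({x} : Set P) ≠ ⊤ := by
      intro htop
      have := hAcard x
      rw [htop, Subgroup.index_top] at this
      exact hx (Subgroup.card_eq_one.mp this)
    obtain ⟨u, hu⟩ : ∃ u : P, u ∉ Subgroup.centralizer ({x} : Set P) := by
      by_contra hcon
      push Not at hcon
      exact hne (top_le_iff.mp (fun u _ => hcon u))
    -- A u ≠ ⊥
    have hAu : A u ≠ ⊥ := by
      intro hbot
      have h1 := hAcard u
      rw [hbot, Subgroup.card_bot] at h1
      have h2 := Subgroup.index_eq_one.mp h1.symm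
      apply hu
      rw [Subgroup.mem_centralizer_iff]
      intro z hz
      rw [Set.mem_singleton_iff] at hz
      subst hz
      have h3 : z ∈ Subgroup.centralizer ({u} : Set P) := by rw [h2]; trivial
      rw [Subgroup.mem_centralizer_iff] at h3
      exact (h3 u (Set.mem_singleton u)).symm
    have huu : u ∈ Subgroup.centralizer ({u} : Set P) := by
      rw [Subgroup.mem_centralizer_iff]
      intro z hz
      rw [Set.mem_singleton_iff] at hz
      rw [hz]
    by_cases h1 : A u = A x
    · have h2 : A u ≠ A y := fun h3 => hxy (h1.symm.trans h3)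
      have h3 := hpair u y hAu hy h2
      rw [h3, ← hM] at huu
      exact hu huu
    · have h3 := hpair u x hAu hx h1
      rw [h3] at huu
      exact hu huu

end Cfsg.Agent.Lib.Helper6.SqF
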