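import Mathlib
import Cfsg.Agent.Lib.Helper6.StSLDefs

set_option autoImplicit false

/-!
Farm STSL (S2401), unit D2, part a: general lemmas on closures (normalisation, commutation,
splitting of a commutative closure).
-/

namespace Cfsg.Agent.Lib.Helper6.StSL

section general

variable {G : Type*} [Group G]

/-- conjugation by `x` maps `closure s` into `H` as soon as it maps `s` into `H` -/
theorem conj_mem_of_gens (s : Set G) (H : Subgroup G) (x : G)
    (h : ∀ g ∈ s, x * g * x⁻¹ ∈ H) : ∀ g ∈ Subgroup.closure s, x * g * x⁻¹ ∈ H := by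
  intro g hg
  induction hg using Subgroup.closure_induction with
  | mem g hg => exact h g hg
  | one => simp
  | mul a b _ _ ha hb =>
    have : x * (a * b) * x⁻¹ = (x * a * x⁻¹) * (x * b * x⁻¹) := by group
    rw [this]
    exact mul_mem ha hb
  | inv a _ ha =>
    have : x * a⁻¹ * x⁻¹ = (x * a * x⁻¹)⁻¹ := by group
    rw [this]
    exact inv_mem ha

/-- `closure s` normalises the subgroup `H = closure s'` as soon as the generators and their
inverses conjugate `s'` into `H` -/
theorem closure_normalizes (s s' : Set G)
    (h : ∀ x ∈ s, ∀ g ∈ s', x * g * x⁻¹ ∈ Subgroup.closure s' ∧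
      x⁻¹ * g * x ∈ Subgroup.closure s') :
    ∀ x ∈ Subgroup.closure s, ∀ g ∈ Subgroup.closure s',
      x * g * x⁻¹ ∈ Subgroup.closure s' ∧ x⁻¹ * g * x ∈ Subgroup.closure s' := by
  intro x hx
  induction hx using Subgroup.closure_induction with
  | mem x hx =>
    intro g hg
    refine ⟨conj_mem_of_gens s' _ x (fun g hg => (h x hx g hg).1) g hg, ?_⟩
    have := conj_mem_of_gens s' (Subgroup.closure s') x⁻¹ (fun g hg => by
      have := (h x hx g hg).2
      simpa using this) g hg
    simpa using this
  | one => intro g hg; simpa using hg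
  | mul a b _ _ ha hb =>
    intro g hg
    constructor
    · have : a * b * g * (a * b)⁻¹ = a * (b * g * b⁻¹) * a⁻¹ := by group
      rw [this]
      exact (ha _ (hb g hg).1).1
    · have : (a * b)⁻¹ * g * (a * b) = b⁻¹ * (a⁻¹ * g * a) * b := by group
      rw [this]
      exact (hb _ (ha g hg).2).2
  | inv a _ ha =>
    intro g hg
    refine ⟨?_, ?_⟩
    · have := (ha g hg).2
      simpa using this
    · have := (ha g hg).1
      simpa using this

/-- elementwise commutation of two closures -/
theorem closure_commute (s s' : Set G) (h : ∀ x ∈ s, ∀ g ∈ s', x * g = g * x) :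
    ∀ x ∈ Subgroup.closure s, ∀ g ∈ Subgroup.closure s', x * g = g * x := by
  intro x hx g hg
  have h1 : Subgroup.closure s' ≤ Subgroup.centralizer (s : Set G) := by
    rw [Subgroup.closure_le]
    intro g hg
    rw [SetLike.mem_coe, Subgroup.mem_centralizer_iff]
    intro x hx
    exact h x hx g hg
  have h2 : Subgroup.closure s ≤ Subgroup.centralizer ((Subgroup.closure s' : Subgroup G) : Set G) := by
    rw [Subgroup.closure_le]
    intro x hx
    rw [SetLike.mem_coe, Subgroup.mem_centralizer_iff]
    intro g hg
    have := Subgroup.mem_centralizer_iff.1 (h1 hg) x hx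
    exact this.symm
  exact (Subgroup.mem_centralizer_iff.1 (h2 hx) g hg).symm

/-- left induction for a generating set closed under inverses -/
theorem closure_induction_left' (s : Set G) (hs : ∀ x ∈ s, x⁻¹ ∈ s) (p : G → Prop) (one : p 1)
    (mul_left : ∀ x ∈ s, ∀ y, p y → p (x * y)) : ∀ x ∈ Subgroup.closure s, p x := by
  intro x hx
  induction hx using Subgroup.closure_induction_left with
  | one => exact one
  | mul_left x hx y _ ih => exact mul_left x hx y ih
  | inv_mul_cancel x hx y _ ih => exact mul_left x⁻¹ (hs x hx) y ih

end general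

end Cfsg.Agent.Lib.Helper6.StSL
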