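import Mathlib
import Cfsg.Agent.Lib.Helper6.StSLD2a

set_option autoImplicit false

/-!
Farm STSL (S2401), unit D2, part b: the subgroups `L`, `C`, `R`, `T`, `Sg` attached to an index
`a ∈ J` and their mutual normalisation.
-/

namespace Cfsg.Agent.Lib.Helper6.StSL

open Matrix

variable {I : Type*} [DecidableEq I] [Fintype I] {K : Type*} [Field K] {Γ : Type*} [Group Γ]
  (S : StA I K Γ) (J : Finset I) (a : I)

/-- generators of the column group `C` -/
def genC : Set Γ := {g | ∃ (m : I) (u : K), m ∈ J.erase a ∧ g = S.x m a u}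

/-- generators of the row group `R` -/
def genR : Set Γ := {g | ∃ (m : I) (u : K), m ∈ J.erase a ∧ g = S.x a m u}

/-- generators of the torus `T` -/
def genT : Set Γ := {g | ∃ (m : I) (t : K), m ∈ J.erase a ∧ t ≠ 0 ∧ g = S.h a m t}

/-- generators of `L = S.sub (J.erase a)` -/
def genL : Set Γ := {g | ∃ (i j : I) (t : K), i ∈ J.erase a ∧ j ∈ J.erase a ∧ i ≠ j ∧ g = S.x i j t}

/-- generators of the stabiliser `Sg` of `e_a`: the `x i j u` with `j ≠ a` -/
def genS : Set Γ := {g | ∃ (i j : I) (u : K), i ∈ J ∧ j ∈ J.erase a ∧ i ≠ j ∧ g = S.x i j u}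

def Csub : Subgroup Γ := Subgroup.closure (genC S J a)
def Rsub : Subgroup Γ := Subgroup.closure (genR S J a)
def Tsub : Subgroup Γ := Subgroup.closure (genT S J a)
def Ssub : Subgroup Γ := Subgroup.closure (genS S J a)

theorem sub_erase_eq : S.sub (J.erase a) = Subgroup.closure (genL S J a) := rfl

theorem genL_subset_genS : genL S J a ⊆ genS S J a := by
  rintro g ⟨i, j, t, hi, hj, hij, rfl⟩
  exact ⟨i, j, t, Finset.mem_of_mem_erase hi, hj, hij, rfl⟩

theorem genR_subset_genS (ha : a ∈ J) : genR S J a ⊆ genS S J a := by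
  rintro g ⟨m, u, hm, rfl⟩
  exact ⟨a, m, u, ha, hm, (Finset.ne_of_mem_erase hm).symm, rfl⟩

theorem L_le_S : S.sub (J.erase a) ≤ Ssub S J a :=
  Subgroup.closure_mono (genL_subset_genS S J a)

theorem R_le_S (ha : a ∈ J) : Rsub S J a ≤ Ssub S J a :=
  Subgroup.closure_mono (genR_subset_genS S J a ha)

theorem x_mem_Csub {m : I} (hm : m ∈ J.erase a) (u : K) : S.x m a u ∈ Csub S J a :=
  Subgroup.subset_closure ⟨m, u, hm, rfl⟩

theorem x_mem_Rsub {m : I} (hm : m ∈ J.erase a) (u : K) : S.x a m u ∈ Rsub S J a :=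
  Subgroup.subset_closure ⟨m, u, hm, rfl⟩

theorem h_mem_Tsub {m : I} (hm : m ∈ J.erase a) {t : K} (ht : t ≠ 0) : S.h a m t ∈ Tsub S J a :=
  Subgroup.subset_closure ⟨m, t, hm, ht, rfl⟩

theorem x_mem_Ssub {i j : I} (hi : i ∈ J) (hj : j ∈ J.erase a) (hij : i ≠ j) (u : K) :
    S.x i j u ∈ Ssub S J a :=
  Subgroup.subset_closure ⟨i, j, u, hi, hj, hij, rfl⟩

/-! ### conjugation of a root element by a root element -/

/-- `x_ij(s) x_ma(u) x_ij(s)⁻¹ ∈ C` for `i, j, m ≠ a` -/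
theorem conj_genL_genC {i j m : I} (hia : i ≠ a) (hja : j ≠ a) (hma : m ≠ a) (hij : i ≠ j)
    (hi : i ∈ J) (hm : m ∈ J) (s u : K) :
    S.x i j s * S.x m a u * (S.x i j s)⁻¹ ∈ Csub S J a := by
  by_cases hjm : j = m
  · subst hjm
    have := S.x_mul_x hij hja hia s u
    rw [this]
    have e : S.x i a (s * u) * S.x j a u * S.x i j s * (S.x i j s)⁻¹ =
        S.x i a (s * u) * S.x j a u := by group
    rw [e]
    exact mul_mem (x_mem_Csub S J a (Finset.mem_erase.2 ⟨hia, hi⟩) _)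
      (x_mem_Csub S J a (Finset.mem_erase.2 ⟨hja, hm⟩) _)
  · have := S.comm_ne i j m a hij hma hia hjm s u
    rw [this]
    have e : S.x m a u * S.x i j s * (S.x i j s)⁻¹ = S.x m a u := by group
    rw [e]
    exact x_mem_Csub S J a (Finset.mem_erase.2 ⟨hma, hm⟩) _

/-- `x_ij(s) x_am(u) x_ij(s)⁻¹ ∈ R` for `i, j, m ≠ a` -/
theorem conj_genL_genR {i j m : I} (hia : i ≠ a) (hja : j ≠ a) (hma : m ≠ a) (hij : i ≠ j)
    (hj : j ∈ J) (hm : m ∈ J) (s u : K) :
    S.x i j s * S.x a m u * (S.x i j s)⁻¹ ∈ Rsub S J a := by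
  by_cases him : i = m
  · subst him
    -- `x_ij(s) x_ai(u) = x_aj(-us) x_ai(u) x_ij(s)`
    have := S.x_mul_x' (Ne.symm hia) hij (Ne.symm hja) u s
    rw [this]
    have e : S.x a j (-(u * s)) * S.x a i u * S.x i j s * (S.x i j s)⁻¹ =
        S.x a j (-(u * s)) * S.x a i u := by group
    rw [e]
    exact mul_mem (x_mem_Rsub S J a (Finset.mem_erase.2 ⟨hja, hj⟩) _)
      (x_mem_Rsub S J a (Finset.mem_erase.2 ⟨hia, hm⟩) _)
  · have := S.comm_ne i j a m hij (Ne.symm hma) him hja s u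
    rw [this]
    have e : S.x a m u * S.x i j s * (S.x i j s)⁻¹ = S.x a m u := by group
    rw [e]
    exact x_mem_Rsub S J a (Finset.mem_erase.2 ⟨hma, hm⟩) _

/-- `L` normalises `C` -/
theorem L_norm_C : ∀ l ∈ S.sub (J.erase a), ∀ c ∈ Csub S J a,
    l * c * l⁻¹ ∈ Csub S J a ∧ l⁻¹ * c * l ∈ Csub S J a := by
  apply closure_normalizes
  rintro x ⟨i, j, s, hi, hj, hij, rfl⟩ g ⟨m, u, hm, rfl⟩
  have hia := Finset.ne_of_mem_erase hi
  have hja := Finset.ne_of_mem_erase hj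
  have hma := Finset.ne_of_mem_erase hm
  refine ⟨conj_genL_genC S J a hia hja hma hij (Finset.mem_of_mem_erase hi)
    (Finset.mem_of_mem_erase hm) s u, ?_⟩
  have := conj_genL_genC S J a hia hja hma hij (Finset.mem_of_mem_erase hi)
    (Finset.mem_of_mem_erase hm) (-s) u
  rw [S.x_neg hij, inv_inv] at this
  exact this

/-- `L` normalises `R` -/
theorem L_norm_R : ∀ l ∈ S.sub (J.erase a), ∀ r ∈ Rsub S J a,
    l * r * l⁻¹ ∈ Rsub S J a ∧ l⁻¹ * r * l ∈ Rsub S J a := by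
  apply closure_normalizes
  rintro x ⟨i, j, s, hi, hj, hij, rfl⟩ g ⟨m, u, hm, rfl⟩
  have hia := Finset.ne_of_mem_erase hi
  have hja := Finset.ne_of_mem_erase hj
  have hma := Finset.ne_of_mem_erase hm
  refine ⟨conj_genL_genR S J a hia hja hma hij (Finset.mem_of_mem_erase hj)
    (Finset.mem_of_mem_erase hm) s u, ?_⟩
  have := conj_genL_genR S J a hia hja hma hij (Finset.mem_of_mem_erase hj)
    (Finset.mem_of_mem_erase hm) (-s) u
  rw [S.x_neg hij, inv_inv] at this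
  exact this

/-! ### the cells -/

/-- the big cell `Z₀ = C T Sg` -/
def InZ0 (g : Γ) : Prop := ∃ c ∈ Csub S J a, ∃ t ∈ Tsub S J a, ∃ s ∈ Ssub S J a, g = c * t * s

/-- the translated cells `w_ak(1) Z₀` -/
def InZk (k : I) (g : Γ) : Prop := ∃ z, InZ0 S J a z ∧ g = S.w a k 1 * z

/-- the union of the cells -/
def InZ (g : Γ) : Prop := InZ0 S J a g ∨ ∃ k ∈ J.erase a, InZk S J a k g

end Cfsg.Agent.Lib.Helper6.StSL
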