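import Mathlib

/-! S4033 farm (helper8), piece A4 `exists_valid`. -/

set_option autoImplicit false

namespace Cfsg.Agent.Lib.Helper8.PR

open scoped commutatorElement

/-- the iterated commutators `[J, S, …, S]`. -/
def h6_iter {G : Type*} [Group G] (S J : Subgroup G) : ℕ → Subgroup G
  | 0 => J
  | (i + 1) => ⁅h6_iter S J i, S⁆

theorem h6_iter_le_lcs {G : Type*} [Group G] (S J : Subgroup G) (hJS : J ≤ S) (i : ℕ) :
    h6_iter S J i ≤ S.lowerCentralSeries i := by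
  induction i with
  | zero => exact hJS
  | succ i ih =>
    show ⁅h6_iter S J i, S⁆ ≤ ⁅S.lowerCentralSeries i, S⁆
    exact Subgroup.commutator_mono ih le_rfl

theorem h6_iter_le {G : Type*} [Group G] (S J : Subgroup G)
    (hJn : ∀ g ∈ S, ∀ j ∈ J, g * j * g⁻¹ ∈ J) (i : ℕ) : h6_iter S J i ≤ J := by
  induction i with
  | zero => exact le_rfl
  | succ i ih =>
    show ⁅h6_iter S J i, S⁆ ≤ J
    rw [Subgroup.commutator_le]
    intro d hd g hg
    have h1 : d ∈ J := ih hd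
    have h2 : g * d⁻¹ * g⁻¹ ∈ J := hJn g hg d⁻¹ (J.inv_mem h1)
    have : ⁅d, g⁆ = d * (g * d⁻¹ * g⁻¹) := by
      rw [commutatorElement_def]; group
    rw [this]
    exact J.mul_mem h1 h2

/-- A4 -/
theorem exists_valid {G : Type*} [Group G] [Finite G] {s : ℕ} (hs : s.Prime)
    (S J : Subgroup G) (hS : IsPGroup s S) (hJS : J ≤ S)
    (hJn : ∀ g ∈ S, ∀ j ∈ J, g * j * g⁻¹ ∈ J) (hJ : ∃ j ∈ J, j ∉ Subgroup.center G) :
    ∃ d ∈ J, d ∉ Subgroup.center G ∧ ∀ g ∈ S, d⁻¹ * g⁻¹ * d * g ∈ Subgroup.center G := by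
  have : Fact s.Prime := ⟨hs⟩
  have hnil : Group.IsNilpotent S := hS.isNilpotent
  obtain ⟨k, hk⟩ := (Subgroup.isNilpotent_iff_lowerCentralSeries S).mp hnil
  have hex : ∃ i, h6_iter S J i ≤ Subgroup.center G := by
    refine ⟨k, ?_⟩
    refine (h6_iter_le_lcs S J hJS k).trans ?_
    rw [hk]
    exact bot_le
  classical
  set i₀ := Nat.find hex with hi₀
  have h1 : h6_iter S J i₀ ≤ Subgroup.center G := Nat.find_spec hex
  have h0 : i₀ ≠ 0 := by
    intro h0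
    rw [h0] at h1
    obtain ⟨j, hj, hjc⟩ := hJ
    exact hjc (h1 hj)
  obtain ⟨i, hi⟩ := Nat.exists_eq_succ_of_ne_zero h0
  have h2 : ¬ h6_iter S J i ≤ Subgroup.center G := Nat.find_min hex (by omega)
  obtain ⟨d, hd, hdc⟩ := SetLike.not_le_iff_exists.mp h2
  refine ⟨d, h6_iter_le S J hJn i hd, hdc, ?_⟩
  intro g hg
  apply h1
  rw [hi]
  show d⁻¹ * g⁻¹ * d * g ∈ ⁅h6_iter S J i, S⁆
  have : d⁻¹ * g⁻¹ * d * g = ⁅d⁻¹, g⁻¹⁆ := by
    rw [commutatorElement_def]; group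
  rw [this]
  exact Subgroup.commutator_mem_commutator (inv_mem hd) (inv_mem hg)

end Cfsg.Agent.Lib.Helper8.PR
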