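import Mathlib
import Cfsg.Agent.Lib.Helper1.TCSDefs
import Cfsg.Agent.Lib.Helper1.TCSApi
import Cfsg.Agent.Lib.Helper1.TCSBasic
import Cfsg.Agent.Lib.Helper1.TCSBasicC
import Cfsg.Agent.Lib.Helper1.TCSC1
import Cfsg.Agent.Lib.Helper2.TCSG2
import Cfsg.Agent.Lib.Helper2.TCSG4
import Cfsg.Agent.Lib.Helper4.TCSX1a
import Cfsg.Agent.Lib.Helper4.TCSX1b
import Cfsg.Agent.Lib.Helper9.TCSG9
import Cfsg.Agent.Lib.Helper8.CSGAsym
import Cfsg.Agent.Lib.Helper4.TCSX1c

set_option autoImplicit false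
set_option maxHeartbeats 4000000
set_option linter.unusedVariables false
set_option linter.unusedSectionVars false
set_option linter.style.longLine false

namespace Cfsg.Agent.Lib.Helper1.TCS

open Cfsg.Agent.Lib.Helper8.CSG Cfsg.Agent.Lib.Helper1.PSG

variable {G : Type*} [Group G] [Finite G] {p a n : ℕ}

/-- C2 -/
theorem partC_a_one [Fact p.Prime] (h : H3 G (p ^ a) n)
    (hβ : ∀ t : G, PElt p t → idx t ≠ 1 → idx t = p ^ a * n) : a = 1 := by
  have hp : p.Prime := Fact.out
  have ha1 : 1 ≤ a := by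
    by_contra hcon
    have h0 : a = 0 := by omega
    have := h.hm
    rw [h0, pow_zero] at this
    exact lt_irrefl 1 this
  have hpm : p ∣ p ^ a := dvd_pow_self p (by omega)
  obtain ⟨P⟩ : Nonempty (Sylow p G) := inferInstance
  obtain ⟨a0, ha0P, x0, hx0P, hax⟩ := sylow_not_comm h hpm P
  obtain ⟨u, huP, ⟨x1, hx1P, hux1⟩, hcommP, hupP⟩ :=
    exists_second_center hp (P : Subgroup G) (P : Subgroup G) P.isPGroup' le_rfl
      (fun x hx b hb => (P : Subgroup G).mul_mem ((P : Subgroup G).mul_mem hx hb) ((P : Subgroup G).inv_mem hx))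
      ⟨a0, ha0P, x0, hx0P, hax⟩
  -- [u, P] ≤ Z(G)
  have hcommG : ∀ s ∈ (P : Subgroup G), u * s * u⁻¹ * s⁻¹ ∈ Subgroup.center G := by
    intro s hs
    apply center_sylow h hpm P
    · exact (P : Subgroup G).mul_mem ((P : Subgroup G).mul_mem ((P : Subgroup G).mul_mem huP hs)
        ((P : Subgroup G).inv_mem huP)) ((P : Subgroup G).inv_mem hs)
    · intro y hy
      exact hcommP s hs y hy
  -- u is noncentral
  have hun : idx u ≠ 1 := by
    intro h1
    have := h8_mem_center_of_idx_eq_one h1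
    exact hux1 ((Subgroup.mem_center_iff.mp this x1).symm)
  have huPE : PElt p u := h1tcs_pelt_of_isPGroup P.isPGroup' huP
  have hui : idx u = p ^ a * n := hβ u huPE hun
  obtain ⟨hc1, hc2, hc3, hc4, hc5, hc6⟩ := hc_struct h hp hpm huPE hun
  obtain ⟨hs1, hs2, hs3, hs4, hs5⟩ := sylow_second h hpm P huP hun hcommG
  have hfac : (p ^ a).factorization p = a := by
    rw [Nat.Prime.factorization_pow hp]; simp
  rw [hfac] at hs5
  -- apply the exponent lemma
  have hrel : (Cz u).relIndex (P : Subgroup G) ∣ p := by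
    apply exp_lemma hp (P : Subgroup G) (Hc p u) (Hc p u ⊓ Subgroup.center G) P.isPGroup' huP hcommG hupP
      inf_le_left
    · -- V abelian
      intro v hv w hw
      exact hc5 hui v (Hc_le p u hv) w hw
    · exact hc1
    · exact hs2
    · -- hK
      intro x hxP hxu v hv
      have hxC : x ∈ Cz u := mem_Cz.mpr hxu
      exact (hc3 v hv x hxC (h1tcs_pelt_of_isPGroup P.isPGroup' hxP)).symm
    · -- hfix
      intro y hyP hyu v hv hyv
      refine ⟨hv, ?_⟩
      apply h8_mem_center_of_idx_eq_one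
      apply idx_eq_one_of_not_dvd h
      intro hdvd
      have h1 := pow_dvd_relIndex_sylow P v hdvd
      -- C_P(u) ≤ C_P(v)
      have hle : Cz u ⊓ (P : Subgroup G) ≤ Cz v ⊓ (P : Subgroup G) := by
        intro x hx
        refine ⟨mem_Cz.mpr ?_, hx.2⟩
        exact (hc3 v hv x hx.1 (h1tcs_pelt_of_isPGroup P.isPGroup' hx.2)).symm
      have h2 : (Cz v ⊓ (P : Subgroup G)).relIndex (P : Subgroup G) ∣
          (Cz u ⊓ (P : Subgroup G)).relIndex (P : Subgroup G) := Subgroup.relIndex_dvd_of_le_left _ hle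
      rw [Subgroup.inf_relIndex_right, Subgroup.inf_relIndex_right, hs5] at h2
      have h3 : (Cz v).relIndex (P : Subgroup G) = p ^ a := Nat.dvd_antisymm h2 h1
      -- then the two intersections have the same order, hence are equal
      have e1 := h4_card_mul_relIndex (inf_le_right : Cz u ⊓ (P : Subgroup G) ≤ (P : Subgroup G))
      have e2 := h4_card_mul_relIndex (inf_le_right : Cz v ⊓ (P : Subgroup G) ≤ (P : Subgroup G))
      rw [Subgroup.inf_relIndex_right, hs5] at e1
      rw [Subgroup.inf_relIndex_right, h3] at e2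
      have hcard : Nat.card (Cz u ⊓ (P : Subgroup G) : Subgroup G) = Nat.card (Cz v ⊓ (P : Subgroup G) : Subgroup G) :=
        Nat.eq_of_mul_eq_mul_right (pow_pos hp.pos a) (e1.trans e2.symm)
      have heq : Cz u ⊓ (P : Subgroup G) = Cz v ⊓ (P : Subgroup G) :=
        Subgroup.eq_of_le_of_card_ge hle hcard.symm.le
      have hy : y ∈ Cz v ⊓ (P : Subgroup G) := ⟨mem_Cz.mpr hyv, hyP⟩
      rw [← heq] at hy
      exact hyu (mem_Cz.mp hy.1)
    · -- hVF
      obtain ⟨-, -, -, -, hb5⟩ := partC_basic h hβ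
      obtain ⟨k, hkH, hki⟩ := hb5 u huPE hun
      intro hle
      exact hki (h8_idx_eq_one_of_mem_center (hle hkH).2)
  rw [hs5] at hrel
  -- p ^ a ∣ p
  have : a ≤ 1 := by
    have h1 : p ^ a ∣ p ^ 1 := by simpa using hrel
    exact (Nat.pow_dvd_pow_iff_le_right hp.one_lt).mp h1
  omega

end Cfsg.Agent.Lib.Helper1.TCS
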