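import Mathlib
import Cfsg.Agent.Lib.Helper1.TCSDefs
import Cfsg.Agent.Lib.Helper1.TCSApi
import Cfsg.Agent.Lib.Helper1.TCSBasic
import Cfsg.Agent.Lib.Helper1.TCSBasicC
import Cfsg.Agent.Lib.Helper2.TCSG4
import Cfsg.Agent.Lib.Helper4.TCSX1a
import Cfsg.Agent.Lib.Helper4.TCSX1b
import Cfsg.Agent.Lib.Helper9.TCSG9
import Cfsg.Agent.Lib.Helper8.CSGAsym
import Cfsg.Agent.Lib.Helper4.TCSX1c

set_option autoImplicit false
set_option maxHeartbeats 4000000
set_option linter.unusedVariables false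
set_option linter.unusedSectionVars false
set_option linter.style.longLine false

namespace Cfsg.Agent.Lib.Helper1.TCS

open Cfsg.Agent.Lib.Helper8.CSG Cfsg.Agent.Lib.Helper1.PSG

variable {G : Type*} [Group G] [Finite G] {p a n : ℕ}

/-- a subgroup of index `p` in a `p`-group `P` is normalized by `P`. -/
theorem h6_normal_of_relIndex_prime [Fact p.Prime] (P N0 : Subgroup G) (hP : IsPGroup p P)
    (hrel : N0.relIndex P = p) : (N0.subgroupOf P).Normal := by
  apply Subgroup.normal_of_index_eq_minFac_card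
  show N0.relIndex P = _
  rw [hrel]
  obtain ⟨k, hk⟩ := IsPGroup.iff_card.mp hP
  have hk0 : k ≠ 0 := by
    rintro rfl
    rw [pow_zero] at hk
    have h1 : N0.relIndex P ∣ Nat.card P := Subgroup.relIndex_dvd_card N0 P
    rw [hrel, hk] at h1
    exact (Fact.out : p.Prime).one_lt.ne' (Nat.dvd_one.mp h1)
  rw [hk, Nat.Prime.pow_minFac Fact.out hk0]

/-- a subgroup of index `p` in a nonabelian `p`-group is not central. -/
theorem h6_not_central_of_relIndex_prime [Fact p.Prime] (P N0 : Subgroup G) (hP : IsPGroup p P)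
    (hrel : N0.relIndex P = p) (hnc : ∃ a ∈ P, ∃ x ∈ P, a * x ≠ x * a) :
    ∃ a ∈ N0 ⊓ P, ∃ x ∈ P, a * x ≠ x * a := by
  by_contra hcon
  push Not at hcon
  haveI := h6_normal_of_relIndex_prime P N0 hP hrel
  have hcard : Nat.card (P ⧸ N0.subgroupOf P) = p := hrel
  haveI : IsCyclic (P ⧸ N0.subgroupOf P) := isCyclic_of_prime_card hcard
  have hker : (QuotientGroup.mk' (N0.subgroupOf P)).ker ≤ Subgroup.center P := by
    rw [QuotientGroup.ker_mk']
    intro a ha
    rw [Subgroup.mem_center_iff]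
    intro x
    apply Subtype.ext
    have := hcon (a : G) ⟨Subgroup.mem_subgroupOf.mp ha, a.2⟩ (x : G) x.2
    simp only [Subgroup.coe_mul]
    exact this.symm
  obtain ⟨a, haP, x, hxP, hax⟩ := hnc
  have := commutative_of_cyclic_center_quotient (QuotientGroup.mk' (N0.subgroupOf P)) hker
    (⟨a, haP⟩ : P) ⟨x, hxP⟩
  exact hax (congrArg Subtype.val this)

/-- C3 -/
theorem partC_setup [Fact p.Prime] (h : H3 G p n) (hβ : ∀ t : G, PElt p t → idx t ≠ 1 → idx t = p * n)
    {y : G} (hy : (orderOf y).Coprime p) (hyi : idx y = p) :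
    ∃ (P : Sylow p G) (u : G), u ∈ (P : Subgroup G) ∧ idx u ≠ 1 ∧ u * y = y * u ∧
      (∀ s ∈ (P : Subgroup G), u * s * u⁻¹ * s⁻¹ ∈ Subgroup.center G) ∧
      (Cz y).relIndex (P : Subgroup G) = p ∧ (P : Subgroup G) ⊓ Cz y ≤ Cz u := by
  have hp : p.Prime := Fact.out
  have hpm : p ∣ p := dvd_rfl
  -- a Sylow p-subgroup of C(y), inside a Sylow p-subgroup of G
  obtain ⟨S, hSC, hSp, hScard⟩ := h1tcs_exists_sylow_in p (Cz y)
  obtain ⟨P, hSP⟩ := hSp.exists_le_sylow
  have hPcard : Nat.card (P : Subgroup G) = p ^ (Nat.card G).factorization p := P.card_eq_multiplicity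
  have hGC : Nat.card G = Nat.card (Cz y) * p := by
    have := Subgroup.card_mul_index (Cz y)
    unfold idx at hyi
    rw [hyi] at this
    exact this.symm
  have hfac : (Nat.card G).factorization p = (Nat.card (Cz y)).factorization p + 1 := by
    rw [hGC, Nat.factorization_mul Nat.card_pos.ne' hp.ne_zero]
    simp [hp.factorization_self]
  -- relIndex = p
  have hrel : (Cz y).relIndex (P : Subgroup G) = p := by
    have h1 : p ∣ (Cz y).relIndex (P : Subgroup G) := by
      have := pow_dvd_relIndex_sylow P y (j := 1) (by rw [pow_one, hyi])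
      rwa [pow_one] at this
    have e1 := h4_card_mul_relIndex (inf_le_right : Cz y ⊓ (P : Subgroup G) ≤ (P : Subgroup G))
    rw [Subgroup.inf_relIndex_right] at e1
    have hSle : S ≤ Cz y ⊓ (P : Subgroup G) := le_inf hSC hSP
    have h2 : Nat.card S ∣ Nat.card (Cz y ⊓ (P : Subgroup G) : Subgroup G) := Subgroup.card_dvd_of_le hSle
    obtain ⟨t, ht⟩ := h2
    rw [ht, hScard, hPcard, hfac, pow_succ, mul_assoc] at e1
    have e2 : t * (Cz y).relIndex (P : Subgroup G) = p :=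
      Nat.eq_of_mul_eq_mul_left (pow_pos hp.pos _) e1
    have h3 : (Cz y).relIndex (P : Subgroup G) ∣ p := Dvd.intro_left _ e2
    exact Nat.dvd_antisymm h3 h1
  -- N0 = P ⊓ C(y) is normal in P and not central
  set N0 := (P : Subgroup G) ⊓ Cz y with hN0
  have hrel0 : N0.relIndex (P : Subgroup G) = p := by
    rw [hN0, inf_comm, Subgroup.inf_relIndex_right]; exact hrel
  haveI hnorm := h6_normal_of_relIndex_prime (P : Subgroup G) N0 P.isPGroup' hrel0
  have hNn : ∀ x ∈ (P : Subgroup G), ∀ b ∈ N0, x * b * x⁻¹ ∈ N0 := by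
    intro x hx b hb
    have hbP : b ∈ (P : Subgroup G) := hb.1
    have := hnorm.conj_mem ⟨b, hbP⟩ (Subgroup.mem_subgroupOf.mpr hb) ⟨x, hx⟩
    exact Subgroup.mem_subgroupOf.mp this
  obtain ⟨a0, ha0, x0, hx0P, hax0⟩ := h6_not_central_of_relIndex_prime (P : Subgroup G) N0 P.isPGroup' hrel0
    (sylow_not_comm h hpm P)
  obtain ⟨u, huN, ⟨x1, hx1P, hux1⟩, hcommP, hupP⟩ :=
    exists_second_center hp (P : Subgroup G) N0 P.isPGroup' inf_le_left hNn ⟨a0, ha0.1, x0, hx0P, hax0⟩
  have huP : u ∈ (P : Subgroup G) := huN.1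
  have huy : u * y = y * u := mem_Cz.mp huN.2
  have hcommG : ∀ s ∈ (P : Subgroup G), u * s * u⁻¹ * s⁻¹ ∈ Subgroup.center G := by
    intro s hs
    apply center_sylow h hpm P
    · exact (P : Subgroup G).mul_mem ((P : Subgroup G).mul_mem ((P : Subgroup G).mul_mem huP hs)
        ((P : Subgroup G).inv_mem huP)) ((P : Subgroup G).inv_mem hs)
    · intro z hz
      exact hcommP s hs z hz
  have hun : idx u ≠ 1 := by
    intro h1
    have := h8_mem_center_of_idx_eq_one h1
    exact hux1 ((Subgroup.mem_center_iff.mp this x1).symm)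
  have huPE : PElt p u := h1tcs_pelt_of_isPGroup P.isPGroup' huP
  refine ⟨P, u, huP, hun, huy, hcommG, hrel, ?_⟩
  -- P ⊓ C(u) ≤ P ⊓ C(y), equal by index
  obtain ⟨hc1, hc2, hc3, hc4, hc5, hc6⟩ := hc_struct h hp hpm huPE hun
  obtain ⟨hs1, hs2, hs3, hs4, hs5⟩ := sylow_second h hpm P huP hun hcommG
  rw [hp.factorization_self, pow_one] at hs5
  have hyH : y ∈ Hc p u := mem_Hc huy.symm hy
  have hle : Cz u ⊓ (P : Subgroup G) ≤ Cz y ⊓ (P : Subgroup G) := by
    intro x hx
    refine ⟨mem_Cz.mpr ?_, hx.2⟩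
    exact (hc3 y hyH x hx.1 (h1tcs_pelt_of_isPGroup P.isPGroup' hx.2)).symm
  have e1 := h4_card_mul_relIndex (inf_le_right : Cz u ⊓ (P : Subgroup G) ≤ (P : Subgroup G))
  have e2 := h4_card_mul_relIndex (inf_le_right : Cz y ⊓ (P : Subgroup G) ≤ (P : Subgroup G))
  rw [Subgroup.inf_relIndex_right, hs5] at e1
  rw [Subgroup.inf_relIndex_right, hrel] at e2
  have hcard : Nat.card (Cz u ⊓ (P : Subgroup G) : Subgroup G) = Nat.card (Cz y ⊓ (P : Subgroup G) : Subgroup G) :=
    Nat.eq_of_mul_eq_mul_right hp.pos (e1.trans e2.symm)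
  have heq : Cz u ⊓ (P : Subgroup G) = Cz y ⊓ (P : Subgroup G) :=
    Subgroup.eq_of_le_of_card_ge hle hcard.symm.le
  intro x hx
  have : x ∈ Cz y ⊓ (P : Subgroup G) := ⟨hx.2, hx.1⟩
  rw [← heq] at this
  exact this.1

end Cfsg.Agent.Lib.Helper1.TCS
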