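import Mathlib
import Cfsg.Agent.Lib.Helper1.TCSDefs
import Cfsg.Agent.Lib.Helper1.TCSApi
import Cfsg.Agent.Lib.Helper1.TCSBasic
import Cfsg.Agent.Lib.Helper1.TCSBasicC
import Cfsg.Agent.Lib.Helper1.FittingCentralizer
import Cfsg.Agent.Lib.Helper1.PLengthOne
import Cfsg.Agent.Lib.Helper4.TCSX1a
import Cfsg.Agent.Lib.Helper4.TCSX1b
import Cfsg.Agent.Lib.Helper8.CSGAsym
import Cfsg.Agent.Lib.Helper4.TCSX1c
import Cfsg.Agent.Lib.Helper6.TCSC3

set_option autoImplicit false
set_option maxHeartbeats 4000000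
set_option linter.unusedVariables false
set_option linter.unusedSectionVars false
set_option linter.style.longLine false

namespace Cfsg.Agent.Lib.Helper1.TCS

open Cfsg.Agent.Lib.Helper8.CSG Cfsg.Agent.Lib.Helper1.PSG

variable {G : Type*} [Group G] [Finite G] {p a n : ℕ}

/-- if `|P : C_P(k)| = |G : C_G(k)|` then `G = P C_G(k)`: every element is `s c` with `s ∈ P`, `c ∈ C(k)`. -/
theorem h6_exists_mul_of_relIndex_eq (P : Subgroup G) (k : G) (hrel : (Cz k).relIndex P = idx k) (g : G) :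
    ∃ s ∈ P, ∃ c ∈ Cz k, g = s * c := by
  -- P acts on G ⧸ C(k)
  have hstab : MulAction.stabilizer P ((1 : G) : G ⧸ Cz k) = (Cz k).subgroupOf P := by
    ext s
    rw [MulAction.mem_stabilizer_iff, Subgroup.mem_subgroupOf]
    have e1 : s • ((1 : G) : G ⧸ Cz k) = (((s : G) * 1 : G) : G ⧸ Cz k) := rfl
    rw [e1, QuotientGroup.eq]
    constructor
    · intro h
      have : (s : G)⁻¹ ∈ Cz k := by simpa using h
      simpa using (Cz k).inv_mem this
    · intro h
      simpa using (Cz k).inv_mem h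
  have h1 := MulAction.index_stabilizer (G := P) (x := ((1 : G) : G ⧸ Cz k))
  rw [hstab] at h1
  have h2 : (MulAction.orbit P ((1 : G) : G ⧸ Cz k)).ncard = Nat.card (G ⧸ Cz k) := by
    rw [← h1]
    exact hrel
  have h3 := (Set.eq_univ_iff_ncard _).mpr h2
  have h4 : ((g : G) : G ⧸ Cz k) ∈ MulAction.orbit P ((1 : G) : G ⧸ Cz k) := by
    rw [h3]; trivial
  obtain ⟨s, hs⟩ := h4
  have e2 : s • ((1 : G) : G ⧸ Cz k) = (((s : G) * 1 : G) : G ⧸ Cz k) := rfl
  change s • ((1 : G) : G ⧸ Cz k) = ((g : G) : G ⧸ Cz k) at hs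
  rw [e2, mul_one] at hs
  have h5 : (s : G)⁻¹ * g ∈ Cz k := QuotientGroup.eq.mp hs
  exact ⟨s, s.2, (s : G)⁻¹ * g, h5, by group⟩

/-- C4 -/
theorem partC_core [Fact p.Prime] (h : H3 G p n) (hβ : ∀ t : G, PElt p t → idx t ≠ 1 → idx t = p * n) :
    ∃ O : Subgroup G, O.Normal ∧ (Nat.card O).Coprime p ∧
      ∀ k : G, (orderOf k).Coprime p → (idx k = 1 ∨ idx k = p) → k ∈ O := by
  have hp : p.Prime := Fact.out
  have hpm : p ∣ p := dvd_rfl
  refine ⟨Cfsg.pPrimeCore p G, Cfsg.Agent.Lib.Helper1.pPrimeCore_normal p,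
    Cfsg.Agent.Lib.Helper1.pPrimeCore_card_coprime p, ?_⟩
  intro k hk hki
  rcases hki with hk1 | hkp
  · -- central
    have hkc := h8_mem_center_of_idx_eq_one hk1
    have hnorm : (Subgroup.zpowers k).Normal := by
      constructor
      intro x hx g
      obtain ⟨i, rfl⟩ := Subgroup.mem_zpowers_iff.mp hx
      have : g * k ^ i * g⁻¹ = k ^ i := by
        have hc : k ^ i ∈ Subgroup.center G := Subgroup.zpow_mem _ hkc i
        rw [Subgroup.mem_center_iff.mp hc g]; group
      rw [this]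
      exact Subgroup.zpow_mem_zpowers k i
    have hcard : (Nat.card (Subgroup.zpowers k)).Coprime p := by
      rw [Nat.card_zpowers]; exact hk
    exact Cfsg.Agent.Lib.Helper1.le_pPrimeCore hnorm hcard (Subgroup.mem_zpowers k)
  · -- idx k = p
    obtain ⟨P, u, huP, hun, huk, hcommG, hrel, hSle⟩ := partC_setup h hβ hk hkp
    have huPE : PElt p u := h1tcs_pelt_of_isPGroup P.isPGroup' huP
    obtain ⟨hc1, hc2, hc3, hc4, hc5, hc6⟩ := hc_struct h hp hpm huPE hun
    obtain ⟨hs1, hs2, hs3, hs4, hs5⟩ := sylow_second h hpm P huP hun hcommG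
    have hkH : k ∈ Hc p u := mem_Hc huk.symm hk
    have hle : Subgroup.normalClosure ({k} : Set G) ≤ Hc p u := by
      unfold Subgroup.normalClosure
      rw [Subgroup.closure_le]
      intro x hx
      rw [Group.mem_conjugatesOfSet_iff] at hx
      obtain ⟨b, hb, hbx⟩ := hx
      rw [Set.mem_singleton_iff] at hb
      subst hb
      obtain ⟨g, hg⟩ := isConj_iff.mp hbx
      obtain ⟨s, hsP, c, hcC, rfl⟩ := h6_exists_mul_of_relIndex_eq (P : Subgroup G) b (hrel.trans hkp.symm) g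
      have hcb : c * b = b * c := mem_Cz.mp hcC
      have : s * c * b * (s * c)⁻¹ = s * b * s⁻¹ := by
        calc s * c * b * (s * c)⁻¹ = s * (c * b) * c⁻¹ * s⁻¹ := by group
          _ = s * (b * c) * c⁻¹ * s⁻¹ := by rw [hcb]
          _ = s * b * s⁻¹ := by group
      rw [← hg, this]
      exact hs2 s hsP b hkH
    have hcard : (Nat.card (Subgroup.normalClosure ({k} : Set G))).Coprime p :=
      Nat.Coprime.coprime_dvd_left (Subgroup.card_dvd_of_le hle) hc1
    exact Cfsg.Agent.Lib.Helper1.le_pPrimeCore Subgroup.normalClosure_normal hcard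
      (Subgroup.subset_normalClosure (Set.mem_singleton k))

end Cfsg.Agent.Lib.Helper1.TCS
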