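import Mathlib
import Cfsg.Agent.Lib.Helper1.TCSDefs

/-! S4284 farm (helper1), pieces AL1 `AL_key`, AL2 `AL_omega`. -/

set_option autoImplicit false
set_option maxHeartbeats 4000000
set_option linter.unusedVariables false
set_option linter.unusedSectionVars false
set_option linter.style.longLine false

namespace Cfsg.Agent.Lib.Helper1.TCS

open Cfsg.Agent.Lib.Helper8.CSG Cfsg.Agent.Lib.Helper1.PSG

/-- a `p`-element killed by a number prime to `p` is trivial. -/
theorem h6_eq_one_of_pow_eq_one {A : Type*} [Group A] {p : ℕ} [Fact p.Prime] (hA : IsPGroup p A) (z : A)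
    (N : ℕ) (hN : ¬ p ∣ N) (hz : z ^ N = 1) : z = 1 := by
  obtain ⟨k, hk⟩ := hA z
  have h1 : orderOf z ∣ N := orderOf_dvd_of_pow_eq_one hz
  have h2 : orderOf z ∣ p ^ k := orderOf_dvd_of_pow_eq_one hk
  have hcop : Nat.Coprime N (p ^ k) :=
    Nat.Coprime.pow_right k ((Nat.Prime.coprime_iff_not_dvd (Fact.out)).mpr hN).symm
  have : orderOf z = 1 := Nat.eq_one_of_dvd_coprimes hcop h1 h2
  exact orderOf_eq_one_iff.mp this

/-- AL1 -/
theorem AL_key {E A : Type*} [Group E] [Finite E] [CommGroup A] [Finite A] (f : E →* MulAut A) (p : ℕ) [Fact p.Prime]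
    (F : Subgroup A) (hA : IsPGroup p A) (hF : ∀ e : E, ∀ a ∈ F, f e a = a)
    (hfix : ∀ e : E, e ≠ 1 → ∀ a : A, f e a = a → a ∈ F)
    (M : Subgroup E) (hM : M ≠ ⊥) (hpM : ¬ p ∣ Nat.card M) (e : E) (he : ∀ x ∈ M, e * x * e⁻¹ ∈ M)
    (a : A) (hz : f e a * a⁻¹ ∈ F) : f e a * a⁻¹ = 1 := by
  classical
  letI : Fintype M := Fintype.ofFinite M
  -- the averaging operator
  set τ : A → A := fun b => ∏ x : M, f (x : E) b with hτ
  have τmul : ∀ b c : A, τ (b * c) = τ b * τ c := by
    intro b c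
    simp only [hτ, map_mul, Finset.prod_mul_distrib]
  -- τ b is fixed by M
  have τfix : ∀ (y : M) (b : A), f (y : E) (τ b) = τ b := by
    intro y b
    simp only [hτ, map_prod]
    have : ∀ x : M, f (y : E) (f (x : E) b) = f ((y * x : M) : E) b := by
      intro x
      rw [Subgroup.coe_mul, map_mul]; rfl
    simp_rw [this]
    exact Equiv.prod_comp (Equiv.mulLeft y) (fun x : M => f (x : E) b)
  -- hence τ b ∈ F
  obtain ⟨y0, hy0M, hy01⟩ : ∃ y ∈ M, y ≠ (1 : E) := by
    by_contra hcon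
    push Not at hcon
    exact hM ((Subgroup.eq_bot_iff_forall M).mpr hcon)
  have τF : ∀ b : A, τ b ∈ F := fun b => hfix y0 hy01 (τ b) (τfix ⟨y0, hy0M⟩ b)
  -- conjugation by e permutes M
  have hinj : Function.Injective (fun x : M => (⟨e * x * e⁻¹, he x x.2⟩ : M)) := by
    intro x x' hxx
    have := congrArg Subtype.val hxx
    simp only at this
    apply Subtype.ext
    have h2 : e * (x : E) = e * (x' : E) := mul_right_cancel this
    exact mul_left_cancel h2
  let σ : M ≃ M := Equiv.ofBijective _ (Finite.injective_iff_bijective.mp hinj)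
  have τe : ∀ b : A, f e (τ b) = τ (f e b) := by
    intro b
    simp only [hτ, map_prod]
    have h1 : ∀ x : M, f e (f (x : E) b) = f ((σ x : M) : E) (f e b) := by
      intro x
      show f e (f (x : E) b) = f (e * (x : E) * e⁻¹) (f e b)
      rw [← MulAut.mul_apply, ← MulAut.mul_apply, ← map_mul, ← map_mul]
      congr 2
      group
    simp_rw [h1]
    exact Equiv.prod_comp σ (fun x : M => f (x : E) (f e b))
  -- compute
  set z := f e a * a⁻¹ with hzdef
  have hea : f e a = z * a := by rw [hzdef]; group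
  have h1 : τ a = τ z * τ a := by
    calc τ a = f e (τ a) := (hF e _ (τF a)).symm
      _ = τ (f e a) := τe a
      _ = τ (z * a) := by rw [hea]
      _ = τ z * τ a := τmul z a
  have h2 : τ z = 1 := by
    have := h1
    calc τ z = τ z * τ a * (τ a)⁻¹ := by group
      _ = τ a * (τ a)⁻¹ := by rw [← this]
      _ = 1 := by group
  have h3 : τ z = z ^ Nat.card M := by
    simp only [hτ]
    have : ∀ x : M, f (x : E) z = z := fun x => hF x z hz
    simp_rw [this]
    rw [Finset.prod_const, Finset.card_univ, Nat.card_eq_fintype_card]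
  rw [h3] at h2
  exact h6_eq_one_of_pow_eq_one hA z _ hpM h2

/-- in a cyclic group of prime order every nonidentity element generates. -/
theorem h6_gen_of_prime {E : Type*} [Group E] {q : ℕ} [Fact q.Prime] {h w : E} (hh : orderOf h = q)
    (hw : w ∈ Subgroup.zpowers h) (hw1 : w ≠ 1) : ∃ k : ℕ, w ^ k = h := by
  have hcard : Nat.card (Subgroup.zpowers h) = q := by rw [Nat.card_zpowers, hh]
  have hg : (⟨w, hw⟩ : Subgroup.zpowers h) ≠ 1 := by
    intro h1
    exact hw1 (congrArg Subtype.val h1)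
  obtain ⟨k, hk⟩ := mem_powers_of_prime_card hcard (g' := ⟨h, Subgroup.mem_zpowers h⟩) hg
  refine ⟨k, ?_⟩
  have := congrArg Subtype.val hk
  simpa using this

/-- conjugation by an element normalizing `⟨h⟩`. -/
theorem h6_conj_mem_zpowers {E : Type*} [Group E] {h d : E} (hdn : d * h * d⁻¹ ∈ Subgroup.zpowers h) :
    ∀ y ∈ Subgroup.zpowers h, d * y * d⁻¹ ∈ Subgroup.zpowers h := by
  intro y hy
  obtain ⟨i, rfl⟩ := Subgroup.mem_zpowers_iff.mp hy
  have : d * h ^ i * d⁻¹ = (d * h * d⁻¹) ^ i := by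
    rw [← MulAut.conj_apply, map_zpow, MulAut.conj_apply]
  rw [this]
  exact Subgroup.zpow_mem _ hdn i

theorem h6_conj_pow_mem_zpowers {E : Type*} [Group E] {h d : E} (hdn : d * h * d⁻¹ ∈ Subgroup.zpowers h)
    (j : ℕ) : ∀ y ∈ Subgroup.zpowers h, d ^ j * y * (d ^ j)⁻¹ ∈ Subgroup.zpowers h := by
  induction j with
  | zero => intro y hy; simpa using hy
  | succ j ih =>
    intro y hy
    have := h6_conj_mem_zpowers hdn _ (ih y hy)
    have e : d ^ (j + 1) * y * (d ^ (j + 1))⁻¹ = d * (d ^ j * y * (d ^ j)⁻¹) * d⁻¹ := by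
      rw [pow_succ']; group
    rw [e]; exact this

/-- AL2 -/
theorem AL_omega {E A : Type*} [Group E] [Finite E] [CommGroup A] [Finite A] (f : E →* MulAut A) (p p' : ℕ) [Fact p.Prime]
    [Fact p'.Prime] (hpp : p ≠ p') (F : Subgroup A) (hA : IsPGroup p A) (hF : ∀ e : E, ∀ a ∈ F, f e a = a)
    (hfix : ∀ e : E, e ≠ 1 → ∀ a : A, f e a = a → a ∈ F)
    {h d : E} (hh : orderOf h = p') {s : ℕ} (hs : s.Prime) (hd : orderOf d = s)
    (hdn : d * h * d⁻¹ ∈ Subgroup.zpowers h) (hdh : d * h ≠ h * d) : ∀ a : A, a ∈ F := by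
  classical
  haveI : Fact s.Prime := ⟨hs⟩
  set H := Subgroup.zpowers h with hH
  letI : Fintype H := Fintype.ofFinite H
  have hcardH : Fintype.card H = p' := by
    rw [← Nat.card_eq_fintype_card, hH, Nat.card_zpowers, hh]
  have hh1 : h ≠ 1 := by
    intro h1
    rw [h1, orderOf_one] at hh
    exact (Fact.out : p'.Prime).ne_one hh.symm
  have hd1 : d ≠ 1 := by
    intro h1
    rw [h1, orderOf_one] at hd
    exact hs.ne_one hd.symm
  -- the two averaging operators
  set T : A → A := fun b => ∏ y : H, f (y : E) b with hT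
  set S : A → A := fun b => ∏ j ∈ Finset.range s, f (d ^ j) b with hS
  have TF : ∀ b : A, T b ∈ F := by
    intro b
    apply hfix h hh1
    simp only [hT, map_prod]
    have : ∀ x : H, f h (f (x : E) b) = f (((⟨h, Subgroup.mem_zpowers h⟩ : H) * x : H) : E) b := by
      intro x
      rw [Subgroup.coe_mul, map_mul]; rfl
    simp_rw [this]
    exact Equiv.prod_comp (Equiv.mulLeft (⟨h, Subgroup.mem_zpowers h⟩ : H)) (fun x : H => f (x : E) b)
  have SF : ∀ b : A, S b ∈ F := by
    intro b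
    apply hfix d hd1
    simp only [hS, map_prod]
    have : ∀ j : ℕ, f d (f (d ^ j) b) = f (d ^ (j + 1)) b := by
      intro j
      rw [pow_succ', map_mul]; rfl
    simp_rw [this]
    obtain ⟨s', rfl⟩ : ∃ s', s = s' + 1 := ⟨s - 1, by have := hs.pos; omega⟩
    rw [Finset.prod_range_succ, Finset.prod_range_succ']
    have e : d ^ (s' + 1) = d ^ 0 := by rw [← hd, pow_orderOf_eq_one, pow_zero]
    rw [e]
  -- the twisted sums
  have UF : ∀ j : ℕ, ¬ s ∣ j → ∀ a : A, ∏ y : H, f ((y : E) * d ^ j * (y : E)⁻¹) a ∈ F := by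
    intro j hj a
    set c := d ^ j with hc
    have hcn : ∀ y ∈ H, c * y * c⁻¹ ∈ H := h6_conj_pow_mem_zpowers hdn j
    -- d is a power of c
    have hdc : ∃ t : ℕ, c ^ t = d := by
      have hcop : Nat.Coprime j s := ((Nat.Prime.coprime_iff_not_dvd hs).mpr hj).symm
      obtain ⟨t, -, ht⟩ := Nat.exists_mul_mod_eq_one_of_coprime hcop hs.one_lt
      refine ⟨t, ?_⟩
      rw [hc, ← pow_mul, ← pow_mod_orderOf, hd, ht, pow_one]
    -- c does not commute with nonidentity elements of H
    have hnc : ∀ w ∈ H, w * c = c * w → w = 1 := by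
      intro w hw hwc
      by_contra hw1
      obtain ⟨k, hk⟩ := h6_gen_of_prime hh hw hw1
      obtain ⟨t, ht⟩ := hdc
      apply hdh
      have h1 : Commute w c := hwc
      have h2 : Commute h d := by
        rw [← hk, ← ht]
        exact (h1.pow_left k).pow_right t
      exact h2.eq.symm
    -- the map φ
    have hφmem : ∀ y : H, (y : E) * (c * (y : E)⁻¹ * c⁻¹) ∈ H :=
      fun y => H.mul_mem y.2 (hcn _ (H.inv_mem y.2))
    have hinj : Function.Injective (fun y : H => (⟨(y : E) * (c * (y : E)⁻¹ * c⁻¹), hφmem y⟩ : H)) := by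
      intro y y' hyy
      have e1 := congrArg Subtype.val hyy
      simp only at e1
      have e2 : ((y' : E)⁻¹ * (y : E)) * c = c * ((y' : E)⁻¹ * (y : E)) := by
        have : (y : E) * c * (y : E)⁻¹ = (y' : E) * c * (y' : E)⁻¹ := by
          calc (y : E) * c * (y : E)⁻¹ = ((y : E) * (c * (y : E)⁻¹ * c⁻¹)) * c := by group
            _ = ((y' : E) * (c * (y' : E)⁻¹ * c⁻¹)) * c := by rw [e1]
            _ = (y' : E) * c * (y' : E)⁻¹ := by group
        calc ((y' : E)⁻¹ * (y : E)) * c = (y' : E)⁻¹ * ((y : E) * c * (y : E)⁻¹) * (y : E) := by group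
          _ = (y' : E)⁻¹ * ((y' : E) * c * (y' : E)⁻¹) * (y : E) := by rw [this]
          _ = c * ((y' : E)⁻¹ * (y : E)) := by group
      have := hnc _ (H.mul_mem (H.inv_mem y'.2) y.2) e2
      apply Subtype.ext
      calc (y : E) = (y' : E) * ((y' : E)⁻¹ * (y : E)) := by group
        _ = (y' : E) := by rw [this, mul_one]
    let φ : H ≃ H := Equiv.ofBijective _ (Finite.injective_iff_bijective.mp hinj)
    have e3 : ∀ y : H, f ((y : E) * c * (y : E)⁻¹) a = f ((φ y : H) : E) (f c a) := by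
      intro y
      show f ((y : E) * c * (y : E)⁻¹) a = f ((y : E) * (c * (y : E)⁻¹ * c⁻¹)) (f c a)
      rw [← MulAut.mul_apply, ← map_mul]
      congr 2
      group
    simp_rw [e3]
    rw [Equiv.prod_comp φ (fun y : H => f (y : E) (f c a))]
    exact TF (f c a)
  -- the main identity
  intro a
  set X : A := ∏ y : H, f (y : E) (S (f ((y : E)⁻¹) a)) with hX
  have XF : X ∈ F := by
    apply Subgroup.prod_mem
    intro y _
    rw [hF _ _ (SF _)]
    exact SF _
  have Xeq : X = ∏ j ∈ Finset.range s, ∏ y : H, f ((y : E) * d ^ j * (y : E)⁻¹) a := by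
    simp only [hX, hS, map_prod]
    rw [Finset.prod_comm]
    apply Finset.prod_congr rfl
    intro j _
    apply Finset.prod_congr rfl
    intro y _
    rw [← MulAut.mul_apply, ← MulAut.mul_apply, ← map_mul, ← map_mul]
  obtain ⟨s', rfl⟩ : ∃ s', s = s' + 1 := ⟨s - 1, by have := hs.pos; omega⟩
  rw [Finset.prod_range_succ'] at Xeq
  have e0 : ∏ y : H, f ((y : E) * d ^ 0 * (y : E)⁻¹) a = a ^ p' := by
    have : ∀ y : H, f ((y : E) * d ^ 0 * (y : E)⁻¹) a = a := by
      intro y
      have : (y : E) * d ^ 0 * (y : E)⁻¹ = 1 := by rw [pow_zero]; group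
      rw [this, map_one]; rfl
    simp_rw [this]
    rw [Finset.prod_const, Finset.card_univ, hcardH]
  rw [e0] at Xeq
  have restF : ∏ j ∈ Finset.range s', ∏ y : H, f ((y : E) * d ^ (j + 1) * (y : E)⁻¹) a ∈ F := by
    apply Subgroup.prod_mem
    intro j hj
    apply UF (j + 1)
    intro hdiv
    have := Nat.le_of_dvd (Nat.succ_pos j) hdiv
    have := Finset.mem_range.mp hj
    omega
  have hap : a ^ p' ∈ F := by
    have : a ^ p' = (∏ j ∈ Finset.range s', ∏ y : H, f ((y : E) * d ^ (j + 1) * (y : E)⁻¹) a)⁻¹ * X := by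
      rw [Xeq]; group
    rw [this]
    exact F.mul_mem (F.inv_mem restF) XF
  -- a is a power of a ^ p'
  obtain ⟨k, hk⟩ := hA a
  have hcop : Nat.Coprime p' (p ^ k) :=
    Nat.Coprime.pow_right k ((Nat.coprime_primes Fact.out Fact.out).mpr (Ne.symm hpp))
  have hbez : (1 : ℤ) = (p' : ℤ) * Nat.gcdA p' (p ^ k) + ((p ^ k : ℕ) : ℤ) * Nat.gcdB p' (p ^ k) := by
    have := Nat.gcd_eq_gcd_ab p' (p ^ k)
    rw [hcop.gcd_eq_one] at this
    exact_mod_cast this
  have : a = (a ^ p') ^ (Nat.gcdA p' (p ^ k)) * (a ^ (p ^ k)) ^ (Nat.gcdB p' (p ^ k)) := by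
    rw [← zpow_natCast a p', ← zpow_natCast a (p ^ k), ← zpow_mul, ← zpow_mul, ← zpow_add, ← hbez, zpow_one]
  rw [this, hk, one_zpow, mul_one]
  exact F.zpow_mem hap _

end Cfsg.Agent.Lib.Helper1.TCS
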