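import Mathlib
import Cfsg.Agent.Lib.Helper1.TCSDefs
import Cfsg.Agent.Lib.Helper6.TCSAL1

/-! S4284 farm (helper1), piece AL. -/

set_option autoImplicit false
set_option maxHeartbeats 4000000
set_option linter.unusedVariables false
set_option linter.unusedSectionVars false
set_option linter.style.longLine false

namespace Cfsg.Agent.Lib.Helper1.TCS

open Cfsg.Agent.Lib.Helper8.CSG Cfsg.Agent.Lib.Helper1.PSG

/-- a subgroup strictly containing a subgroup of order `q` (with `q² ∤ |E|`) has an element of prime order `≠ q`. -/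
theorem h6_exists_prime_order {E : Type*} [Group E] [Finite E] {q : ℕ} (hq : q.Prime)
    (hq2 : ¬ q ^ 2 ∣ Nat.card E) (P L : Subgroup E) (hP : Nat.card P = q) (hPL : P ≤ L)
    (hne : ∃ c ∈ L, c ∉ P) : ∃ (s : ℕ) (d : E), s.Prime ∧ s ≠ q ∧ d ∈ L ∧ orderOf d = s := by
  have hcard : Nat.card P * P.relIndex L = Nat.card L := by
    rw [← Subgroup.relIndex_bot_left P, ← Subgroup.relIndex_bot_left L]
    exact Subgroup.relIndex_mul_relIndex ⊥ P L bot_le hPL
  set k := P.relIndex L with hk
  have hk1 : k ≠ 1 := by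
    intro h1
    rw [hk, Subgroup.relIndex_eq_one] at h1
    obtain ⟨c, hcL, hcP⟩ := hne
    exact hcP (h1 hcL)
  have hk0 : k ≠ 0 := by
    intro h0
    rw [h0, mul_zero] at hcard
    exact Nat.card_pos.ne' hcard.symm
  have hqk : ¬ q ∣ k := by
    intro hd
    apply hq2
    have : q ^ 2 ∣ Nat.card L := by
      rw [← hcard, hP, sq]
      exact Nat.mul_dvd_mul_left q hd
    exact this.trans (Subgroup.card_subgroup_dvd_card L)
  have hs : k.minFac.Prime := Nat.minFac_prime hk1
  have hsq : k.minFac ≠ q := by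
    intro h
    exact hqk (h ▸ Nat.minFac_dvd k)
  have hsL : k.minFac ∣ Nat.card L := by
    rw [← hcard]
    exact Dvd.dvd.mul_left (Nat.minFac_dvd k) _
  haveI : Fact k.minFac.Prime := ⟨hs⟩
  obtain ⟨x, hx⟩ := exists_prime_orderOf_dvd_card' (G := L) k.minFac hsL
  exact ⟨k.minFac, (x : E), hs, hsq, x.2, by rw [Subgroup.orderOf_coe, hx]⟩

/-- AL -/
theorem AL {E A A' : Type*} [Group E] [Finite E] [CommGroup A] [Finite A] [CommGroup A'] [Finite A']
    (f : E →* MulAut A) (f' : E →* MulAut A') (p p' : ℕ) [Fact p.Prime] [Fact p'.Prime] (hpp : p ≠ p')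
    (F : Subgroup A) (F' : Subgroup A') (hA : IsPGroup p A) (hA' : IsPGroup p' A')
    (hF : ∀ e : E, ∀ a ∈ F, f e a = a) (hF' : ∀ e : E, ∀ a ∈ F', f' e a = a)
    (hfix : ∀ e : E, e ≠ 1 → ∀ a : A, f e a = a → a ∈ F)
    (hfix' : ∀ e : E, e ≠ 1 → ∀ a : A', f' e a = a → a ∈ F')
    (hne : ∃ a : A, a ∉ F)
    (hkey' : ∀ e : E, orderOf e = p' → ∃ a : A', f' e a * a⁻¹ ∈ F' ∧ f' e a * a⁻¹ ≠ 1)
    (hp : p ∣ Nat.card E) (hp' : p' ∣ Nat.card E) (hp'2 : ¬ p' ^ 2 ∣ Nat.card E) : False := by
  have hpr : p.Prime := Fact.out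
  have hpr' : p'.Prime := Fact.out
  -- KEY
  have KEY : ∀ e : E, orderOf e = p' → ∀ M : Subgroup E, M ≠ ⊥ → ¬ p' ∣ Nat.card M →
      (∀ x ∈ M, e * x * e⁻¹ ∈ M) → False := by
    intro e he M hM hpM hn
    obtain ⟨a, ha1, ha2⟩ := hkey' e he
    exact ha2 (AL_key f' p' F' hA' hF' hfix' M hM hpM e hn a ha1)
  -- a Sylow p'-subgroup has order p'
  have hv : (Nat.card E).factorization p' = 1 := by
    have h1 : 1 ≤ (Nat.card E).factorization p' :=
      (hpr'.pow_dvd_iff_le_factorization Nat.card_pos.ne').mp (by simpa using hp')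
    have h2 : ¬ 2 ≤ (Nat.card E).factorization p' := by
      intro h
      exact hp'2 ((hpr'.pow_dvd_iff_le_factorization Nat.card_pos.ne').mpr h)
    omega
  obtain ⟨P⟩ : Nonempty (Sylow p' E) := inferInstance
  have hPcard : Nat.card (P : Subgroup E) = p' := by
    have := P.card_eq_multiplicity
    rwa [hv, pow_one] at this
  -- a generator
  obtain ⟨h, hhP, hh1⟩ : ∃ h ∈ (P : Subgroup E), h ≠ 1 := by
    by_contra hcon
    push Not at hcon
    have : (P : Subgroup E) = ⊥ := (Subgroup.eq_bot_iff_forall _).mpr hcon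
    rw [this, Subgroup.card_bot] at hPcard
    exact hpr'.ne_one hPcard.symm
  have hho : orderOf h = p' := by
    have h1 : orderOf h ∣ p' := by
      have := orderOf_dvd_natCard (⟨h, hhP⟩ : (P : Subgroup E))
      rwa [hPcard, Subgroup.orderOf_mk] at this
    rcases (Nat.dvd_prime hpr').mp h1 with h2 | h2
    · exact absurd (orderOf_eq_one_iff.mp h2) hh1
    · exact h2
  have hzP : Subgroup.zpowers h = (P : Subgroup E) := by
    apply Subgroup.eq_of_le_of_card_ge
    · rw [Subgroup.zpowers_le]; exact hhP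
    · rw [Nat.card_zpowers, hho, hPcard]
  have hzcard : Nat.card (Subgroup.zpowers h) = p' := by rw [hzP, hPcard]
  -- (1) C(h) = ⟨h⟩
  have hC : ∀ c : E, c * h = h * c → c ∈ Subgroup.zpowers h := by
    intro c hc
    by_contra hcz
    have hle : Subgroup.zpowers h ≤ Subgroup.centralizer ({h} : Set E) := by
      rw [Subgroup.zpowers_le]
      exact Subgroup.mem_centralizer_singleton_iff.mpr rfl
    obtain ⟨s, d, hs, hsp, hdC, hds⟩ := h6_exists_prime_order hpr' hp'2 (Subgroup.zpowers h)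
      (Subgroup.centralizer ({h} : Set E)) hzcard hle
      ⟨c, Subgroup.mem_centralizer_singleton_iff.mpr hc, hcz⟩
    have hdh : d * h = h * d := Subgroup.mem_centralizer_singleton_iff.mp hdC
    apply KEY h hho (Subgroup.zpowers d)
    · intro hbot
      rw [Subgroup.zpowers_eq_bot] at hbot
      rw [hbot, orderOf_one] at hds
      exact hs.ne_one hds.symm
    · rw [Nat.card_zpowers, hds]
      intro hdvd
      exact hsp ((Nat.prime_dvd_prime_iff_eq hpr' hs).mp hdvd).symm
    · intro x hx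
      obtain ⟨i, rfl⟩ := Subgroup.mem_zpowers_iff.mp hx
      have hcomm : Commute h (d ^ i) := (show Commute h d from hdh.symm).zpow_right i
      have : h * d ^ i * h⁻¹ = d ^ i := by
        rw [hcomm.eq]; group
      rw [this]
      exact Subgroup.zpow_mem_zpowers d i
  -- (2) N(P) ≠ P
  have hN : ∃ g ∈ Subgroup.normalizer ((P : Subgroup E) : Set E), g ∉ (P : Subgroup E) := by
    by_contra hcon
    push Not at hcon
    have hNC : Subgroup.normalizer ((P : Subgroup E) : Set E) ≤ Subgroup.centralizer ((P : Subgroup E) : Set E) := by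
      intro g hg
      have hgP := hcon g hg
      rw [Subgroup.mem_centralizer_iff]
      intro y hy
      rw [← hzP] at hgP hy
      obtain ⟨i, rfl⟩ := Subgroup.mem_zpowers_iff.mp hgP
      obtain ⟨j, rfl⟩ := Subgroup.mem_zpowers_iff.mp hy
      exact ((Commute.refl h).zpow_zpow j i).eq
    set T := (MonoidHom.transferSylow P hNC).ker with hT
    have hcompl := MonoidHom.ker_transferSylow_isComplement' P hNC
    have hTp' : ¬ p' ∣ Nat.card T := MonoidHom.not_dvd_card_ker_transferSylow P hNC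
    have hTcard : Nat.card T * Nat.card (P : Subgroup E) = Nat.card E := hcompl.card_mul
    apply KEY h hho T
    · intro hbot
      rw [hbot, Subgroup.card_bot, one_mul, hPcard] at hTcard
      rw [← hTcard] at hp
      exact hpp ((Nat.prime_dvd_prime_iff_eq hpr hpr').mp hp)
    · exact hTp'
    · intro x hx
      exact (inferInstance : T.Normal).conj_mem x hx h
  -- (3)
  obtain ⟨g, hgN, hgP⟩ := hN
  obtain ⟨s, d, hs, hsp, hdN, hds⟩ := h6_exists_prime_order hpr' hp'2 (P : Subgroup E)
    (Subgroup.normalizer ((P : Subgroup E) : Set E)) hPcard Subgroup.le_normalizer ⟨g, hgN, hgP⟩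
  have hdn : d * h * d⁻¹ ∈ Subgroup.zpowers h := by
    rw [hzP]
    exact (Subgroup.mem_normalizer_iff.mp hdN h).mp hhP
  have hdh : d * h ≠ h * d := by
    intro hcomm
    have hdz := hC d hcomm
    have h1 : orderOf d ∣ p' := by
      have := orderOf_dvd_natCard (⟨d, hdz⟩ : Subgroup.zpowers h)
      rwa [hzcard, Subgroup.orderOf_mk] at this
    rw [hds] at h1
    exact hsp ((Nat.prime_dvd_prime_iff_eq hs hpr').mp h1)
  obtain ⟨a, ha⟩ := hne
  exact ha (AL_omega f p p' hpp F hA hF hfix hho hs hds hdn hdh a)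

end Cfsg.Agent.Lib.Helper1.TCS
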