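import Mathlib
import Cfsg.Agent.Lib.Helper1.TCSDefs
import Cfsg.Agent.Lib.Helper9.PSGBasicB
import Cfsg.Agent.Lib.Helper6.TCSAL1
import Cfsg.Agent.Lib.Helper6.TCSAL

/-! S4284 farm (helper1), piece ALc. -/

set_option autoImplicit false
set_option maxHeartbeats 4000000
set_option linter.unusedVariables false
set_option linter.unusedSectionVars false
set_option linter.style.longLine false

namespace Cfsg.Agent.Lib.Helper1.TCS

open Cfsg.Agent.Lib.Helper8.CSG Cfsg.Agent.Lib.Helper1.PSG

/-- conjugation by the elements of `N` on a subgroup `A` normalized by `N`. -/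
def h6_conjHom {G : Type*} [Group G] (N A : Subgroup G) (hn : ∀ x ∈ N, ∀ a ∈ A, x * a * x⁻¹ ∈ A) :
    N →* MulAut A where
  toFun x :=
    { toFun := fun a => ⟨(x : G) * a * (x : G)⁻¹, hn x x.2 a a.2⟩
      invFun := fun a => ⟨(x : G)⁻¹ * a * (x : G), by
        have := hn (x : G)⁻¹ (N.inv_mem x.2) a a.2
        simpa using this⟩
      left_inv := fun a => by apply Subtype.ext; simp only; group
      right_inv := fun a => by apply Subtype.ext; simp only; group
      map_mul' := fun a b => by apply Subtype.ext; simp only [Subgroup.coe_mul]; group }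
  map_one' := by
    apply MulEquiv.ext
    intro a
    apply Subtype.ext
    simp
  map_mul' x y := by
    apply MulEquiv.ext
    intro a
    apply Subtype.ext
    simp only [MulEquiv.coe_mk, Equiv.coe_fn_mk, Subgroup.coe_mul, MulAut.mul_apply]
    group

theorem h6_conjHom_apply {G : Type*} [Group G] (N A : Subgroup G)
    (hn : ∀ x ∈ N, ∀ a ∈ A, x * a * x⁻¹ ∈ A) (x : N) (a : A) :
    ((h6_conjHom N A hn x a : A) : G) = (x : G) * a * (x : G)⁻¹ := rfl

/-- ALc -/
theorem ALc {G : Type*} [Group G] [Finite G] (p p' : ℕ) (hp : p.Prime) (hp' : p'.Prime) (hpp : p ≠ p')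
    (C A A' : Subgroup G) (hAC : A ≤ C) (hA'C : A' ≤ C) (hAp : IsPGroup p A) (hA'p : IsPGroup p' A')
    (hAcomm : ∀ a ∈ A, ∀ c ∈ C, a * c = c * a) (hA'comm : ∀ a ∈ A', ∀ c ∈ C, a * c = c * a)
    (hAn : ∀ x ∈ Subgroup.normalizer (C : Set G), ∀ a ∈ A, x * a * x⁻¹ ∈ A)
    (hA'n : ∀ x ∈ Subgroup.normalizer (C : Set G), ∀ a ∈ A', x * a * x⁻¹ ∈ A')
    (hfix : ∀ x ∈ Subgroup.normalizer (C : Set G), x ∉ C → ∀ a ∈ A, x * a = a * x → a ∈ Subgroup.center G)
    (hfix' : ∀ x ∈ Subgroup.normalizer (C : Set G), x ∉ C → ∀ a ∈ A', x * a = a * x → a ∈ Subgroup.center G)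
    (hne : ∃ a ∈ A, a ∉ Subgroup.center G)
    (hkey' : ∀ x ∈ Subgroup.normalizer (C : Set G), x ∉ C → PElt p' x →
      ∃ a ∈ A', x * a * x⁻¹ * a⁻¹ ∈ Subgroup.center G ∧ x * a * x⁻¹ * a⁻¹ ≠ 1)
    (hdiv : p ∣ C.relIndex (Subgroup.normalizer (C : Set G)))
    (hdiv' : p' ∣ C.relIndex (Subgroup.normalizer (C : Set G)))
    (hdiv'2 : ¬ p' ^ 2 ∣ C.relIndex (Subgroup.normalizer (C : Set G))) : False := by
  haveI : Fact p.Prime := ⟨hp⟩
  haveI : Fact p'.Prime := ⟨hp'⟩
  set N := Subgroup.normalizer (C : Set G) with hN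
  set C' : Subgroup N := C.subgroupOf N with hC'
  haveI : C'.Normal := Subgroup.normal_in_normalizer
  -- commutative group structures
  letI instA : CommGroup A :=
    { (inferInstance : Group A) with
      mul_comm := fun a b => Subtype.ext (hAcomm a a.2 b (hAC b.2)) }
  letI instA' : CommGroup A' :=
    { (inferInstance : Group A') with
      mul_comm := fun a b => Subtype.ext (hA'comm a a.2 b (hA'C b.2)) }
  -- the actions
  have hker : C' ≤ (h6_conjHom N A hAn).ker := by
    intro x hx
    rw [MonoidHom.mem_ker]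
    apply MulEquiv.ext
    intro a
    apply Subtype.ext
    rw [h6_conjHom_apply]
    have hxC : (x : G) ∈ C := Subgroup.mem_subgroupOf.mp hx
    have := hAcomm a a.2 (x : G) hxC
    show (x : G) * a * (x : G)⁻¹ = a
    rw [← this]; group
  have hker' : C' ≤ (h6_conjHom N A' hA'n).ker := by
    intro x hx
    rw [MonoidHom.mem_ker]
    apply MulEquiv.ext
    intro a
    apply Subtype.ext
    rw [h6_conjHom_apply]
    have hxC : (x : G) ∈ C := Subgroup.mem_subgroupOf.mp hx
    have := hA'comm a a.2 (x : G) hxC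
    show (x : G) * a * (x : G)⁻¹ = a
    rw [← this]; group
  set f : N ⧸ C' →* MulAut A := QuotientGroup.lift C' (h6_conjHom N A hAn) hker with hf
  set f' : N ⧸ C' →* MulAut A' := QuotientGroup.lift C' (h6_conjHom N A' hA'n) hker' with hf'
  have fmk : ∀ (x : N) (a : A), ((f (QuotientGroup.mk x) a : A) : G) = (x : G) * a * (x : G)⁻¹ := by
    intro x a
    rw [hf, QuotientGroup.lift_mk, h6_conjHom_apply]
  have f'mk : ∀ (x : N) (a : A'), ((f' (QuotientGroup.mk x) a : A') : G) = (x : G) * a * (x : G)⁻¹ := by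
    intro x a
    rw [hf', QuotientGroup.lift_mk, h6_conjHom_apply]
  have mk_ne_one : ∀ x : N, (QuotientGroup.mk x : N ⧸ C') ≠ 1 → (x : G) ∉ C := by
    intro x hx hxC
    apply hx
    rw [QuotientGroup.eq_one_iff]
    exact Subgroup.mem_subgroupOf.mpr hxC
  set F : Subgroup A := (Subgroup.center G).subgroupOf A with hF
  set F' : Subgroup A' := (Subgroup.center G).subgroupOf A' with hF'
  have hcardE : Nat.card (N ⧸ C') = C.relIndex N := rfl
  refine AL f f' p p' hpp F F' hAp hA'p ?_ ?_ ?_ ?_ ?_ ?_ (hcardE ▸ hdiv) (hcardE ▸ hdiv') (hcardE ▸ hdiv'2)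
  · -- hF
    intro e a ha
    induction e using QuotientGroup.induction_on with
    | H x =>
      apply Subtype.ext
      rw [fmk]
      have hc : (a : G) ∈ Subgroup.center G := Subgroup.mem_subgroupOf.mp ha
      rw [Subgroup.mem_center_iff.mp hc (x : G)]; group
  · intro e a ha
    induction e using QuotientGroup.induction_on with
    | H x =>
      apply Subtype.ext
      rw [f'mk]
      have hc : (a : G) ∈ Subgroup.center G := Subgroup.mem_subgroupOf.mp ha
      rw [Subgroup.mem_center_iff.mp hc (x : G)]; group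
  · -- hfix
    intro e he a hea
    induction e using QuotientGroup.induction_on with
    | H x =>
      have hxC := mk_ne_one x he
      have h1 := congrArg Subtype.val hea
      rw [fmk] at h1
      apply Subgroup.mem_subgroupOf.mpr
      apply hfix (x : G) x.2 hxC a a.2
      calc (x : G) * a = ((x : G) * a * (x : G)⁻¹) * (x : G) := by group
        _ = a * (x : G) := by rw [h1]
  · intro e he a hea
    induction e using QuotientGroup.induction_on with
    | H x =>
      have hxC := mk_ne_one x he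
      have h1 := congrArg Subtype.val hea
      rw [f'mk] at h1
      apply Subgroup.mem_subgroupOf.mpr
      apply hfix' (x : G) x.2 hxC a a.2
      calc (x : G) * a = ((x : G) * a * (x : G)⁻¹) * (x : G) := by group
        _ = a * (x : G) := by rw [h1]
  · -- hne
    obtain ⟨a, haA, haz⟩ := hne
    exact ⟨⟨a, haA⟩, fun h => haz (Subgroup.mem_subgroupOf.mp h)⟩
  · -- hkey'
    intro e he
    obtain ⟨x0, rfl⟩ := QuotientGroup.mk_surjective e
    obtain ⟨u, w, hx0, hcomm, hu, hw, huz, hwz, -⟩ := Cfsg.Agent.Lib.Helper1.PSG.exists_decomp p' x0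
    -- the image of w is trivial
    have hw1 : (QuotientGroup.mk w : N ⧸ C') = 1 := by
      obtain ⟨j, hj⟩ := Subgroup.mem_zpowers_iff.mp hwz
      have h1 : orderOf (QuotientGroup.mk w : N ⧸ C') ∣ p' := by
        rw [← hj, QuotientGroup.mk_zpow, ← he]
        exact orderOf_dvd_of_pow_eq_one (by
          rw [← zpow_natCast, ← zpow_mul, mul_comm, zpow_mul, zpow_natCast, pow_orderOf_eq_one, one_zpow])
      have h2 : orderOf (QuotientGroup.mk w : N ⧸ C') ∣ orderOf w :=
        orderOf_dvd_of_pow_eq_one (by rw [← QuotientGroup.mk_pow, pow_orderOf_eq_one]; rfl)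
      have hcop : Nat.Coprime p' (orderOf w) := (Nat.Prime.coprime_iff_not_dvd hp').mpr hw
      exact orderOf_eq_one_iff.mp (Nat.eq_one_of_dvd_coprimes hcop h1 h2)
    have hmk : (QuotientGroup.mk x0 : N ⧸ C') = QuotientGroup.mk u := by
      rw [hx0, QuotientGroup.mk_mul, hw1, mul_one]
    rw [hmk] at he ⊢
    have hu1 : (QuotientGroup.mk u : N ⧸ C') ≠ 1 := by
      intro h1
      rw [h1, orderOf_one] at he
      exact hp'.ne_one he.symm
    have huC := mk_ne_one u hu1
    have huP : PElt p' (u : G) := by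
      obtain ⟨k, hk⟩ := hu
      exact ⟨k, by have := congrArg Subtype.val hk; simpa using this⟩
    obtain ⟨a, haA', hac, ha1⟩ := hkey' (u : G) u.2 huC huP
    refine ⟨⟨a, haA'⟩, ?_, ?_⟩
    · apply Subgroup.mem_subgroupOf.mpr
      rw [Subgroup.coe_mul, f'mk, Subgroup.coe_inv]
      exact hac
    · intro h1
      apply ha1
      have := congrArg Subtype.val h1
      rw [Subgroup.coe_mul, f'mk, Subgroup.coe_inv] at this
      exact this

end Cfsg.Agent.Lib.Helper1.TCS
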