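import Mathlib

/-! # The lattice argument for coherent families of exceptional characters -/

set_option autoImplicit false

namespace Cfsg.Agent.Lib.Helper6

/-- the indicator vector -/
def eVec {B : Type*} [DecidableEq B] (X : B) : B → ℤ := fun b => if b = X then 1 else 0

theorem eVec_apply {B : Type*} [DecidableEq B] (X b : B) : eVec X b = if b = X then 1 else 0 := rfl

theorem sum_eVec_mul {B : Type*} [Fintype B] [DecidableEq B] (X : B) (f : B → ℤ) :
    ∑ b, eVec X b * f b = f X := by
  unfold eVec
  simp

theorem sum_mul_eVec {B : Type*} [Fintype B] [DecidableEq B] (X : B) (f : B → ℤ) :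
    ∑ b, f b * eVec X b = f X := by
  unfold eVec
  simp

/-- an integer vector of norm two orthogonal to a positive vector is a difference of two
distinct indicator vectors -/
theorem exists_eVec_sub_of_norm_two {B : Type*} [Fintype B] [DecidableEq B] (deg : B → ℤ)
    (hdeg : ∀ b, 0 < deg b) (w : B → ℤ) (h2 : ∑ b, w b * w b = 2) (h0 : ∑ b, w b * deg b = 0) :
    ∃ X Y : B, X ≠ Y ∧ ∀ b, w b = eVec X b - eVec Y b := by
  classical
  have hle : ∀ b, w b * w b ≤ 2 := by
    intro b
    rw [← h2]
    exact Finset.single_le_sum (f := fun b => w b * w b) (fun i _ => mul_self_nonneg (w i))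
      (Finset.mem_univ b)
  have hval : ∀ b, w b = 0 ∨ w b = 1 ∨ w b = -1 := by
    intro b
    have h1 := hle b
    have h3 : -1 ≤ w b := by nlinarith
    have h4 : w b ≤ 1 := by nlinarith
    omega
  have hsq : ∀ b, w b * w b = if w b ≠ 0 then 1 else 0 := by
    intro b
    rcases hval b with h | h | h <;> simp [h]
  have hcard : (Finset.univ.filter (fun b => w b ≠ 0)).card = 2 := by
    have h1 : ∑ b, w b * w b = ((Finset.univ.filter (fun b => w b ≠ 0)).card : ℤ) := by
      rw [Finset.sum_congr rfl (fun b _ => hsq b), Finset.sum_ite, Finset.sum_const,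
        Finset.sum_const_zero, add_zero, nsmul_eq_mul, mul_one]
    rw [h2] at h1
    exact_mod_cast h1.symm
  obtain ⟨X, Y, hXY, hS⟩ := Finset.card_eq_two.mp hcard
  have hX : w X ≠ 0 := by
    have : X ∈ Finset.univ.filter (fun b => w b ≠ 0) := by rw [hS]; simp
    exact (Finset.mem_filter.mp this).2
  have hY : w Y ≠ 0 := by
    have : Y ∈ Finset.univ.filter (fun b => w b ≠ 0) := by rw [hS]; simp
    exact (Finset.mem_filter.mp this).2
  have hother : ∀ b, b ≠ X → b ≠ Y → w b = 0 := by
    intro b hbX hbY
    by_contra hb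
    have : b ∈ Finset.univ.filter (fun b => w b ≠ 0) := Finset.mem_filter.mpr ⟨Finset.mem_univ _, hb⟩
    rw [hS] at this
    simp at this
    rcases this with h | h
    · exact hbX h
    · exact hbY h
  have hsum : w X * deg X + w Y * deg Y = 0 := by
    rw [← h0]
    have h1 : ∑ b, w b * deg b = ∑ b ∈ ({X, Y} : Finset B), w b * deg b := by
      symm
      apply Finset.sum_subset (Finset.subset_univ _)
      intro b _ hb
      simp at hb
      rw [hother b hb.1 hb.2, zero_mul]
    rw [h1, Finset.sum_pair hXY]
  have hdX := hdeg X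
  have hdY := hdeg Y
  rcases hval X with h | h | h
  · exact absurd h hX
  · rcases hval Y with h' | h' | h'
    · exact absurd h' hY
    · rw [h, h'] at hsum; linarith
    · refine ⟨X, Y, hXY, ?_⟩
      intro b
      unfold eVec
      by_cases hbX : b = X
      · rw [hbX, h]; simp [hXY]
      · by_cases hbY : b = Y
        · rw [hbY, h']; simp [hXY.symm]
        · rw [hother b hbX hbY]; simp [hbX, hbY]
  · rcases hval Y with h' | h' | h'
    · exact absurd h' hY
    · refine ⟨Y, X, hXY.symm, ?_⟩
      intro b
      unfold eVec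
      by_cases hbX : b = X
      · rw [hbX, h]; simp [hXY]
      · by_cases hbY : b = Y
        · rw [hbY, h']; simp [hXY.symm]
        · rw [hother b hbX hbY]; simp [hbX, hbY]
    · rw [h, h'] at hsum; linarith

theorem sum_eVec_sub_mul {B : Type*} [Fintype B] [DecidableEq B] (X Y X' Y' : B) :
    ∑ b, (eVec X b - eVec Y b) * (eVec X' b - eVec Y' b)
      = (if X = X' then 1 else 0) - (if X = Y' then 1 else 0) - (if Y = X' then 1 else 0)
        + (if Y = Y' then (1 : ℤ) else 0) := by
  have h : ∀ b, (eVec X b - eVec Y b) * (eVec X' b - eVec Y' b)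
      = eVec X b * (eVec X' b - eVec Y' b) - eVec Y b * (eVec X' b - eVec Y' b) := by
    intro b; ring
  rw [Finset.sum_congr rfl (fun b _ => h b), Finset.sum_sub_distrib, sum_eVec_mul, sum_eVec_mul]
  unfold eVec
  ring

/-- the coherence lemma: a family of integer vectors with Gram matrix `m + [i ∼ j]`, orthogonal to
a positive vector, with at least two classes -/
theorem coherence_lattice {B I : Type*} [Fintype B] [DecidableEq B] [Fintype I] [DecidableEq I]
    (deg : B → ℤ) (hdeg : ∀ b, 0 < deg b) (m : ℤ) (R : I → I → Prop) [DecidableRel R]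
    (v : I → B → ℤ)
    (hv : ∀ i j, ∑ b, v i b * v j b = m + if R i j then 1 else 0)
    (hv1 : ∀ i, ∑ b, v i b * deg b = 0)
    (hR : ∃ i j, ¬ R i j) (hRrefl : ∀ i, R i i) :
    ∃ (δ : ℤ) (w : B → ℤ) (Θ : I → B) (d : ℤ), (δ = 1 ∨ δ = -1) ∧ (∀ i j, Θ i = Θ j ↔ R i j) ∧
      (∀ i b, v i b = w b - δ * eVec (Θ i) b) ∧ ∀ i, w (Θ i) = d := by
  classical
  -- equal vectors for related indices
  have heq : ∀ i j, R i j → v i = v j := by
    intro i j hij
    have h1 : ∑ b, (v i b - v j b) * (v i b - v j b) = 0 := by
      have : ∀ b, (v i b - v j b) * (v i b - v j b)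
          = v i b * v i b - v i b * v j b - (v j b * v i b - v j b * v j b) := by intro b; ring
      rw [Finset.sum_congr rfl (fun b _ => this b), Finset.sum_sub_distrib, Finset.sum_sub_distrib,
        Finset.sum_sub_distrib, hv i i, hv i j, hv j j]
      have hji : ∑ b, v j b * v i b = ∑ b, v i b * v j b :=
        Finset.sum_congr rfl (fun b _ => mul_comm _ _)
      rw [hji, hv i j, if_pos (hRrefl i), if_pos hij, if_pos (hRrefl j)]
      ring
    funext b
    have h2 := (Finset.sum_eq_zero_iff_of_nonneg (fun b _ => mul_self_nonneg (v i b - v j b))).mp h1 b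
      (Finset.mem_univ b)
    have h3 : v i b - v j b = 0 := mul_self_eq_zero.mp h2
    linarith
  have hRsymm : ∀ i j, R i j → R j i := by
    intro i j hij
    have h1 := hv j i
    have hji : ∑ b, v j b * v i b = ∑ b, v i b * v j b :=
      Finset.sum_congr rfl (fun b _ => mul_comm _ _)
    rw [hji, hv i j, if_pos hij] at h1
    by_contra hcon
    rw [if_neg hcon] at h1
    linarith
  have hRof : ∀ i j, v i = v j → R i j := by
    intro i j hij
    have h1 := hv i j
    rw [← hij, hv i i, if_pos (hRrefl i)] at h1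
    by_contra hcon
    rw [if_neg hcon] at h1
    linarith
  -- differences
  have hdiff : ∀ i j, ¬ R i j → ∃ X Y : B, X ≠ Y ∧ ∀ b, v i b - v j b = eVec X b - eVec Y b := by
    intro i j hij
    apply exists_eVec_sub_of_norm_two deg hdeg (fun b => v i b - v j b)
    · have : ∀ b, (v i b - v j b) * (v i b - v j b)
          = v i b * v i b - v i b * v j b - (v j b * v i b - v j b * v j b) := by intro b; ring
      rw [Finset.sum_congr rfl (fun b _ => this b), Finset.sum_sub_distrib, Finset.sum_sub_distrib,
        Finset.sum_sub_distrib, hv i i, hv i j, hv j j]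
      have hji : ∑ b, v j b * v i b = ∑ b, v i b * v j b :=
        Finset.sum_congr rfl (fun b _ => mul_comm _ _)
      rw [hji, hv i j, if_pos (hRrefl i), if_neg hij, if_pos (hRrefl j)]
      ring
    · have : ∀ b, (v i b - v j b) * deg b = v i b * deg b - v j b * deg b := by intro b; ring
      rw [Finset.sum_congr rfl (fun b _ => this b), Finset.sum_sub_distrib, hv1 i, hv1 j, sub_zero]
  obtain ⟨i₁, j₁, hij₁⟩ := hR
  haveI : Nonempty B := by
    obtain ⟨X, _, _, _⟩ := hdiff i₁ j₁ hij₁
    exact ⟨X⟩
  -- choose `X j`, `Y j` for `j` outside the class of `i₁`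
  have hXY : ∀ j : I, ∃ XY : B × B, ¬ R i₁ j → XY.1 ≠ XY.2 ∧
      ∀ b, v i₁ b - v j b = eVec XY.1 b - eVec XY.2 b := by
    intro j
    by_cases hj : R i₁ j
    · exact ⟨(Classical.arbitrary B, Classical.arbitrary B), fun h => absurd hj h⟩
    · obtain ⟨X, Y, h1, h2⟩ := hdiff i₁ j hj
      exact ⟨(X, Y), fun _ => ⟨h1, h2⟩⟩
  choose XY hXYspec using hXY
  -- inner products of differences
  have hinner : ∀ j k, ¬ R i₁ j → ¬ R i₁ k → ¬ R j k →
      (if (XY j).1 = (XY k).1 then 1 else 0) - (if (XY j).1 = (XY k).2 then 1 else 0)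
        - (if (XY j).2 = (XY k).1 then 1 else 0) + (if (XY j).2 = (XY k).2 then (1 : ℤ) else 0)
        = 1 := by
    intro j k hj hk hjk
    rw [← sum_eVec_sub_mul]
    have h1 : ∀ b, (eVec (XY j).1 b - eVec (XY j).2 b) * (eVec (XY k).1 b - eVec (XY k).2 b)
        = (v i₁ b - v j b) * (v i₁ b - v k b) := by
      intro b
      rw [(hXYspec j hj).2 b, (hXYspec k hk).2 b]
    rw [Finset.sum_congr rfl (fun b _ => h1 b)]
    have : ∀ b, (v i₁ b - v j b) * (v i₁ b - v k b)
        = v i₁ b * v i₁ b - v i₁ b * v k b - (v j b * v i₁ b - v j b * v k b) := by intro b; ring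
    rw [Finset.sum_congr rfl (fun b _ => this b), Finset.sum_sub_distrib, Finset.sum_sub_distrib,
      Finset.sum_sub_distrib, hv i₁ i₁, hv i₁ k, hv j k]
    have hji : ∑ b, v j b * v i₁ b = ∑ b, v i₁ b * v j b :=
      Finset.sum_congr rfl (fun b _ => mul_comm _ _)
    rw [hji, hv i₁ j, if_pos (hRrefl i₁), if_neg hk, if_neg hjk, if_neg hj]
    ring
  have hsame : ∀ j k, ¬ R i₁ j → ¬ R i₁ k → R j k → XY j = XY k := by
    intro j k hj hk hjk
    have h1 := (hXYspec j hj)
    have h2 := (hXYspec k hk)
    have h3 : ∀ b, eVec (XY j).1 b - eVec (XY j).2 b = eVec (XY k).1 b - eVec (XY k).2 b := by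
      intro b
      rw [← h1.2 b, ← h2.2 b, heq j k hjk]
    have h4 := h3 (XY j).1
    have h5 := h3 (XY j).2
    unfold eVec at h4 h5
    have hne := h1.1
    have hne' := h2.1
    simp only [if_true, if_neg hne, if_neg hne.symm] at h4 h5
    have e1 : (XY j).1 = (XY k).1 := by
      by_contra hc
      rw [if_neg hc] at h4
      by_cases hc2 : (XY j).1 = (XY k).2
      · rw [if_pos hc2] at h4; omega
      · rw [if_neg hc2] at h4; omega
    have e2 : (XY j).2 = (XY k).2 := by
      by_contra hc
      rw [if_neg hc] at h5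
      by_cases hc2 : (XY j).2 = (XY k).1
      · rw [if_pos hc2] at h5; omega
      · rw [if_neg hc2] at h5; omega
    exact Prod.ext e1 e2
  -- the dichotomy
  have hdich : (∀ j k, ¬ R i₁ j → ¬ R i₁ k → (XY j).1 = (XY k).1) ∨
      (∀ j k, ¬ R i₁ j → ¬ R i₁ k → (XY j).2 = (XY k).2) := by
    by_cases hα : ∀ j k, ¬ R i₁ j → ¬ R i₁ k → (XY j).1 = (XY k).1
    · exact Or.inl hα
    · right
      push Not at hα
      obtain ⟨j, k, hj, hk, hjk1⟩ := hα
      have hjkR : ¬ R j k := by
        intro h
        exact hjk1 (by rw [hsame j k hj hk h])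
      have hjne := (hXYspec j hj).1
      have hkne := (hXYspec k hk).1
      have hY : (XY j).2 = (XY k).2 := by
        have h1 := hinner j k hj hk hjkR
        rw [if_neg hjk1] at h1
        by_contra hc
        rw [if_neg hc] at h1
        split_ifs at h1 <;> omega
      have key : ∀ l, ¬ R i₁ l → (XY l).2 = (XY j).2 := by
        intro l hl
        by_cases hlj : R l j
        · rw [hsame l j hl hj hlj]
        · by_cases hlk : R l k
          · rw [hsame l k hl hk hlk, hY]
          · by_contra hc
            have h1 := hinner l j hl hj hlj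
            have h2 := hinner l k hl hk hlk
            rw [if_neg hc] at h1
            rw [← hY, if_neg hc] at h2
            have e1 : (XY l).1 = (XY j).1 := by
              by_contra hc1
              rw [if_neg hc1] at h1
              split_ifs at h1 <;> omega
            have e2 : (XY l).1 = (XY k).1 := by
              by_contra hc1
              rw [if_neg hc1] at h2
              split_ifs at h2 <;> omega
            exact hjk1 (e1.symm.trans e2)
      intro l l' hl hl'
      rw [key l hl, key l' hl']
  -- build the data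
  have hbuild : ∃ (δ : ℤ) (w : B → ℤ) (Θ : I → B), (δ = 1 ∨ δ = -1) ∧
      (∀ i b, v i b = w b - δ * eVec (Θ i) b) := by
    rcases hdich with hα | hβ
    · -- common positive part
      refine ⟨-1, fun b => v i₁ b - eVec (XY j₁).1 b,
        fun i => if R i₁ i then (XY j₁).1 else (XY i).2, Or.inr rfl, ?_⟩
      intro i b
      by_cases hi : R i₁ i
      · simp only [if_pos hi]
        rw [← heq i₁ i hi]
        ring
      · simp only [if_neg hi]
        have h1 := (hXYspec i hi).2 b
        rw [hα i j₁ hi hij₁] at h1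
        linarith
    · refine ⟨1, fun b => v i₁ b + eVec (XY j₁).2 b,
        fun i => if R i₁ i then (XY j₁).2 else (XY i).1, Or.inl rfl, ?_⟩
      intro i b
      by_cases hi : R i₁ i
      · simp only [if_pos hi]
        rw [← heq i₁ i hi]
        ring
      · simp only [if_neg hi]
        have h1 := (hXYspec i hi).2 b
        rw [hβ i j₁ hi hij₁] at h1
        linarith
  obtain ⟨δ, w, Θ, hδ, hvw⟩ := hbuild
  have hδ2 : δ * δ = 1 := by rcases hδ with h | h <;> rw [h] <;> norm_num
  have hδ0 : δ ≠ 0 := by rcases hδ with h | h <;> rw [h] <;> norm_num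
  have hΘ : ∀ i j, Θ i = Θ j ↔ R i j := by
    intro i j
    constructor
    · intro h
      apply hRof
      funext b
      rw [hvw i b, hvw j b, h]
    · intro h
      have h1 := heq i j h
      have h2 := congrFun h1 (Θ i)
      rw [hvw i, hvw j] at h2
      unfold eVec at h2
      simp only [if_true] at h2
      by_contra hc
      rw [if_neg hc] at h2
      have : δ = 0 := by linarith
      exact hδ0 this
  -- the Gram matrix in terms of `w`
  have hgram : ∀ i j, ∑ b, v i b * v j b
      = ∑ b, w b * w b - δ * w (Θ i) - δ * w (Θ j) + if Θ i = Θ j then 1 else 0 := by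
    intro i j
    have h1 : ∀ b, v i b * v j b = w b * w b - δ * (eVec (Θ i) b * w b) - δ * (eVec (Θ j) b * w b)
        + (δ * δ) * (eVec (Θ i) b * eVec (Θ j) b) := by
      intro b
      rw [hvw i b, hvw j b]
      ring
    rw [Finset.sum_congr rfl (fun b _ => h1 b), Finset.sum_add_distrib, Finset.sum_sub_distrib,
      Finset.sum_sub_distrib, ← Finset.mul_sum, ← Finset.mul_sum, ← Finset.mul_sum, sum_eVec_mul,
      sum_eVec_mul, sum_eVec_mul, hδ2, one_mul]
    unfold eVec
    by_cases h : Θ i = Θ j
    · simp [h]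
    · simp [h]
  refine ⟨δ, w, Θ, w (Θ i₁), hδ, hΘ, hvw, ?_⟩
  have hd : ∀ i j, ¬ R i j → w (Θ i) = w (Θ j) := by
    intro i j hij
    have h1 := hgram i i
    have h2 := hgram i j
    rw [hv i i, if_pos (hRrefl i), if_pos rfl] at h1
    rw [hv i j, if_neg hij, if_neg (fun h => hij ((hΘ i j).mp h))] at h2
    have h3 : δ * w (Θ i) = δ * w (Θ j) := by linarith
    exact mul_left_cancel₀ hδ0 h3
  intro i
  by_cases hi : R i₁ i
  · rw [(hΘ i₁ i).mpr hi]
  · exact (hd i₁ i hi).symm

end Cfsg.Agent.Lib.Helper6
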