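import Mathlib
import Cfsg.Prelude.Def_Blocks
import Cfsg.Agent.Lib.Helper6.BLGroup

/-! # The action of the normalizer of an abelian Sylow subgroup on its elements and on its
linear characters -/

set_option autoImplicit false
set_option linter.unusedSectionVars false
open Cfsg

namespace Cfsg.Agent.Lib.Helper6

section act

variable {G : Type*} [Group G]

/-- conjugation by an element of the normalizer -/
def conjNormalizerEquiv (P : Subgroup G) (n : ↥(Subgroup.normalizer (P : Set G))) : ↥P ≃* ↥P where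
  toFun w := ⟨(n : G) * w * (n : G)⁻¹, (Subgroup.mem_normalizer_iff.mp n.2 w).mp w.2⟩
  invFun w := ⟨(n : G)⁻¹ * w * (n : G), by
    have := (Subgroup.mem_normalizer_iff.mp (Subgroup.inv_mem _ n.2) w).mp w.2
    simpa using this⟩
  left_inv w := by ext; simp [mul_assoc]
  right_inv w := by ext; simp [mul_assoc]
  map_mul' a b := by ext; simp [mul_assoc]

theorem conjNormalizerEquiv_apply (P : Subgroup G) (n : ↥(Subgroup.normalizer (P : Set G)))
    (w : ↥P) : ((conjNormalizerEquiv P n w : ↥P) : G) = (n : G) * w * (n : G)⁻¹ := rfl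

theorem conjNormalizerEquiv_symm_apply (P : Subgroup G)
    (n : ↥(Subgroup.normalizer (P : Set G))) (w : ↥P) :
    (((conjNormalizerEquiv P n).symm w : ↥P) : G) = (n : G)⁻¹ * w * (n : G) := rfl

/-- the action of the normalizer on linear characters -/
def actHom (P : Subgroup G) (n : ↥(Subgroup.normalizer (P : Set G))) (ψ : ↥P →* ℂˣ) : ↥P →* ℂˣ :=
  ψ.comp (conjNormalizerEquiv P n).symm.toMonoidHom

theorem actHom_apply (P : Subgroup G) (n : ↥(Subgroup.normalizer (P : Set G))) (ψ : ↥P →* ℂˣ)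
    (w : ↥P) : actHom P n ψ w = ψ ((conjNormalizerEquiv P n).symm w) := rfl

theorem actHom_one (P : Subgroup G) (ψ : ↥P →* ℂˣ) : actHom P 1 ψ = ψ := by
  ext w
  rw [actHom_apply]
  congr 2
  ext
  rw [conjNormalizerEquiv_symm_apply]
  simp

theorem actHom_mul (P : Subgroup G) (a b : ↥(Subgroup.normalizer (P : Set G))) (ψ : ↥P →* ℂˣ) :
    actHom P (a * b) ψ = actHom P a (actHom P b ψ) := by
  ext w
  rw [actHom_apply, actHom_apply, actHom_apply]
  congr 2
  ext
  simp only [conjNormalizerEquiv_symm_apply, Subgroup.coe_mul, mul_inv_rev]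
  group

theorem actHom_one_hom (P : Subgroup G) (n : ↥(Subgroup.normalizer (P : Set G))) :
    actHom P n (1 : ↥P →* ℂˣ) = 1 := by
  ext w
  rw [actHom_apply]
  simp

/-- the relation of being conjugate under the normalizer, as in the statements -/
def blRel (P : Subgroup G) (ψ ψ' : ↥P →* ℂˣ) : Prop :=
  ∃ n : G, n ∈ Subgroup.normalizer (P : Set G) ∧
    ∀ w w' : ↥P, (w' : G) = n * w * n⁻¹ → ψ' w' = ψ w

theorem blRel_iff (P : Subgroup G) (ψ ψ' : ↥P →* ℂˣ) :
    blRel P ψ ψ' ↔ ∃ n : ↥(Subgroup.normalizer (P : Set G)), actHom P n ψ = ψ' := by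
  constructor
  · rintro ⟨n, hn, h⟩
    refine ⟨⟨n, hn⟩, ?_⟩
    ext w'
    rw [actHom_apply]
    have := h ((conjNormalizerEquiv P ⟨n, hn⟩).symm w') w' (by
      rw [conjNormalizerEquiv_symm_apply]
      simp only
      group)
    rw [this]
  · rintro ⟨n, rfl⟩
    refine ⟨n, n.2, ?_⟩
    intro w w' hw
    rw [actHom_apply]
    congr 1
    ext
    rw [conjNormalizerEquiv_symm_apply, hw]
    group

theorem blRel_refl (P : Subgroup G) (ψ : ↥P →* ℂˣ) : blRel P ψ ψ :=
  (blRel_iff P ψ ψ).mpr ⟨1, actHom_one P ψ⟩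

theorem blRel_symm (P : Subgroup G) {ψ ψ' : ↥P →* ℂˣ} (h : blRel P ψ ψ') : blRel P ψ' ψ := by
  obtain ⟨n, rfl⟩ := (blRel_iff P ψ ψ').mp h
  refine (blRel_iff P _ _).mpr ⟨n⁻¹, ?_⟩
  rw [← actHom_mul, inv_mul_cancel, actHom_one]

theorem blRel_trans (P : Subgroup G) {ψ ψ' ψ'' : ↥P →* ℂˣ} (h : blRel P ψ ψ')
    (h' : blRel P ψ' ψ'') : blRel P ψ ψ'' := by
  obtain ⟨n, rfl⟩ := (blRel_iff P ψ ψ').mp h
  obtain ⟨n', rfl⟩ := (blRel_iff P _ ψ'').mp h'
  exact (blRel_iff P _ _).mpr ⟨n' * n, actHom_mul P n' n ψ⟩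

theorem blRel_ne_one (P : Subgroup G) {ψ ψ' : ↥P →* ℂˣ} (h : blRel P ψ ψ') (hψ : ψ ≠ 1) :
    ψ' ≠ 1 := by
  intro h1
  obtain ⟨n, hn⟩ := (blRel_iff P ψ' ψ).mp (blRel_symm P h)
  rw [h1, actHom_one_hom] at hn
  exact hψ hn.symm

end act

section orbits

variable {G : Type*} [Group G] [Finite G] {p : ℕ} [Fact p.Prime]

/-- an element of the normalizer fixing a nonidentity element of `P` centralizes `P` -/
theorem mem_centralizer_of_conj_eq (P : Sylow p G) (hab : IsMulCommutative P)
    (hfrob : ∀ y : G, y ∈ (P : Subgroup G) → y ≠ 1 →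
      Subgroup.centralizer ({y} : Set G) ⊓ Subgroup.normalizer ((P : Subgroup G) : Set G)
        = Subgroup.centralizer ((P : Subgroup G) : Set G))
    (y : G) (hy : y ∈ (P : Subgroup G)) (hy1 : y ≠ 1)
    (n : G) (hn : n ∈ Subgroup.normalizer ((P : Subgroup G) : Set G)) :
    n * y * n⁻¹ = y ↔ n ∈ Subgroup.centralizer ((P : Subgroup G) : Set G) := by
  constructor
  · intro h
    rw [← hfrob y hy hy1, Subgroup.mem_inf]
    refine ⟨?_, hn⟩
    rw [Subgroup.mem_centralizer_iff]
    intro z hz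
    rw [Set.mem_singleton_iff] at hz
    rw [hz]
    calc y * n = (n * y * n⁻¹) * n := by rw [h]
      _ = n * y := by group
  · intro h
    rw [Subgroup.mem_centralizer_iff] at h
    have := h y hy
    rw [← this]
    group

/-- the number of conjugates in `P` of a nonidentity element of `P` -/
theorem card_conj_in_sylow (P : Sylow p G) (hab : IsMulCommutative P)
    (hfrob : ∀ y : G, y ∈ (P : Subgroup G) → y ≠ 1 →
      Subgroup.centralizer ({y} : Set G) ⊓ Subgroup.normalizer ((P : Subgroup G) : Set G)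
        = Subgroup.centralizer ((P : Subgroup G) : Set G))
    (y : G) (hy : y ∈ (P : Subgroup G)) (hy1 : y ≠ 1) :
    Nat.card {w : (P : Subgroup G) // (w : G) ≠ 1 ∧ IsConj y (w : G)}
      = (Subgroup.centralizer ((P : Subgroup G) : Set G)).relIndex
          (Subgroup.normalizer ((P : Subgroup G) : Set G)) := by
  classical
  rw [← card_orbit_eq_relIndex (Subgroup.normalizer ((P : Subgroup G) : Set G))
    (Subgroup.centralizer ((P : Subgroup G) : Set G))
    (fun n x => (n : G) * x * (n : G)⁻¹) (by intro x; simp)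
    (by intro a b x; simp only [Subgroup.coe_mul, mul_inv_rev]; group) y
    (fun n => mem_centralizer_of_conj_eq P hab hfrob y hy hy1 n n.2)]
  refine Nat.card_congr (Equiv.ofBijective
    (fun w => ⟨(w.1 : G), ?_⟩) ⟨?_, ?_⟩)
  · obtain ⟨n, hn, h⟩ := bl_exists_normalizer_conj P hab y w.1 hy w.1.2 w.2.2
    exact ⟨⟨n, hn⟩, h⟩
  · intro a b hab'
    have := congrArg Subtype.val hab'
    exact Subtype.ext (Subtype.ext this)
  · rintro ⟨x, ⟨n, rfl⟩⟩
    have hmem : (n : G) * y * (n : G)⁻¹ ∈ (P : Subgroup G) :=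
      (Subgroup.mem_normalizer_iff.mp n.2 y).mp hy
    refine ⟨⟨⟨(n : G) * y * (n : G)⁻¹, hmem⟩, ?_, ?_⟩, rfl⟩
    · intro h
      apply hy1
      have h' : (n : G) * y * (n : G)⁻¹ = 1 := h
      have : y = (n : G)⁻¹ * ((n : G) * y * (n : G)⁻¹) * (n : G) := by group
      rw [this, h']; group
    · exact isConj_iff.mpr ⟨n, rfl⟩

/-- an element of the normalizer fixing a nontrivial linear character of `P` centralizes `P` -/
theorem actHom_eq_self_iff (P : Sylow p G) (hab : IsMulCommutative P)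
    (hfrob : ∀ y : G, y ∈ (P : Subgroup G) → y ≠ 1 →
      Subgroup.centralizer ({y} : Set G) ⊓ Subgroup.normalizer ((P : Subgroup G) : Set G)
        = Subgroup.centralizer ((P : Subgroup G) : Set G))
    (ψ : ↥(P : Subgroup G) →* ℂˣ) (hψ : ψ ≠ 1)
    (n : ↥(Subgroup.normalizer ((P : Subgroup G) : Set G))) :
    actHom (P : Subgroup G) n ψ = ψ
      ↔ (n : G) ∈ Subgroup.centralizer ((P : Subgroup G) : Set G) := by
  constructor
  · intro h
    by_contra hn
    apply hψ
    -- the map `w ↦ w⁻¹ * n⁻¹ w n` is injective, hence surjective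
    obtain ⟨φ, hφ⟩ : ∃ φ : ↥(P : Subgroup G) → ↥(P : Subgroup G),
        φ = fun w => w⁻¹ * (conjNormalizerEquiv (P : Subgroup G) n).symm w := ⟨_, rfl⟩
    have hinj : Function.Injective φ := by
      intro w w' hww
      rw [hφ] at hww
      simp only at hww
      have h1 := congrArg Subtype.val hww
      simp only [Subgroup.coe_mul, Subgroup.coe_inv, conjNormalizerEquiv_symm_apply] at h1
      -- `u = w * w'⁻¹` is fixed by `n⁻¹`
      by_contra hne
      have hu1 : (w : G) * (w' : G)⁻¹ ≠ 1 := by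
        intro h2
        apply hne
        apply Subtype.ext
        exact mul_inv_eq_one.mp h2
      have hu : (w : G) * (w' : G)⁻¹ ∈ (P : Subgroup G) :=
        Subgroup.mul_mem _ w.2 (Subgroup.inv_mem _ w'.2)
      have hfix : (n : G)⁻¹ * ((w : G) * (w' : G)⁻¹) * ((n : G)⁻¹)⁻¹ = (w : G) * (w' : G)⁻¹ := by
        have e1 : (n : G)⁻¹ * (w : G) * (n : G)
            = (w : G) * (w' : G)⁻¹ * ((n : G)⁻¹ * (w' : G) * (n : G)) := by
          calc (n : G)⁻¹ * (w : G) * (n : G)
              = (w : G) * ((w : G)⁻¹ * ((n : G)⁻¹ * (w : G) * (n : G))) := by group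
            _ = (w : G) * ((w' : G)⁻¹ * ((n : G)⁻¹ * (w' : G) * (n : G))) := by rw [h1]
            _ = _ := by group
        calc (n : G)⁻¹ * ((w : G) * (w' : G)⁻¹) * ((n : G)⁻¹)⁻¹
            = ((n : G)⁻¹ * (w : G) * (n : G)) * ((n : G)⁻¹ * (w' : G) * (n : G))⁻¹ := by group
          _ = _ := by rw [e1]; group
      have := (mem_centralizer_of_conj_eq P hab hfrob _ hu hu1 (n : G)⁻¹
        (Subgroup.inv_mem _ n.2)).mp hfix
      exact hn (by simpa using Subgroup.inv_mem _ this)
    have hsurj : Function.Surjective φ := Finite.injective_iff_surjective.mp hinj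
    have hz : ∀ z : ↥(P : Subgroup G), ψ z = 1 := by
      intro z
      obtain ⟨w, rfl⟩ := hsurj z
      rw [hφ]
      simp only [map_mul, map_inv]
      have := congrArg (fun f : ↥(P : Subgroup G) →* ℂˣ => f w) h
      simp only [actHom_apply] at this
      rw [this, inv_mul_cancel]
    ext z
    rw [hz z]
    rfl
  · intro h
    ext w
    rw [actHom_apply]
    congr 2
    ext
    rw [conjNormalizerEquiv_symm_apply]
    rw [Subgroup.mem_centralizer_iff] at h
    have := h w w.2
    calc (n : G)⁻¹ * (w : G) * (n : G) = (n : G)⁻¹ * ((w : G) * (n : G)) := by group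
      _ = (n : G)⁻¹ * ((n : G) * (w : G)) := by rw [this]
      _ = w := by group

/-- the number of `N`-conjugates of a nontrivial linear character of `P` -/
theorem card_blRel (P : Sylow p G) (hab : IsMulCommutative P)
    (hfrob : ∀ y : G, y ∈ (P : Subgroup G) → y ≠ 1 →
      Subgroup.centralizer ({y} : Set G) ⊓ Subgroup.normalizer ((P : Subgroup G) : Set G)
        = Subgroup.centralizer ((P : Subgroup G) : Set G))
    (ψ : ↥(P : Subgroup G) →* ℂˣ) (hψ : ψ ≠ 1) :
    Nat.card {ψ' : ↥(P : Subgroup G) →* ℂˣ // blRel (P : Subgroup G) ψ ψ'}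
      = (Subgroup.centralizer ((P : Subgroup G) : Set G)).relIndex
          (Subgroup.normalizer ((P : Subgroup G) : Set G)) := by
  classical
  rw [← card_orbit_eq_relIndex (Subgroup.normalizer ((P : Subgroup G) : Set G))
    (Subgroup.centralizer ((P : Subgroup G) : Set G))
    (fun n ψ => actHom (P : Subgroup G) n ψ) (actHom_one _) (actHom_mul _) ψ
    (fun n => actHom_eq_self_iff P hab hfrob ψ hψ n)]
  apply Nat.card_congr
  apply Equiv.subtypeEquivRight
  intro ψ'
  exact blRel_iff _ ψ ψ'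

end orbits

end Cfsg.Agent.Lib.Helper6
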