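import Mathlib
import Cfsg.Prelude.Def_Blocks
import Cfsg.Agent.Lib.Helper6.BLAct
import Cfsg.Agent.Lib.Helper6.BLLin
import Cfsg.Agent.Lib.Helper6.BlkSections

/-! # Orbit sums of linear characters of an abelian Sylow subgroup under its normalizer -/

set_option autoImplicit false
set_option linter.unusedSectionVars false
open Cfsg

namespace Cfsg.Agent.Lib.Helper6

open scoped ComplexConjugate

section orb

variable {G : Type*} [Group G]

/-- the permutation of the linear characters induced by an element of the normalizer -/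
def actEquiv (P : Subgroup G) (n : ↥(Subgroup.normalizer (P : Set G))) :
    (↥P →* ℂˣ) ≃ (↥P →* ℂˣ) where
  toFun := actHom P n
  invFun := actHom P n⁻¹
  left_inv ψ := by rw [← actHom_mul, inv_mul_cancel, actHom_one]
  right_inv ψ := by rw [← actHom_mul, mul_inv_cancel, actHom_one]

theorem actEquiv_apply (P : Subgroup G) (n : ↥(Subgroup.normalizer (P : Set G)))
    (ψ : ↥P →* ℂˣ) : actEquiv P n ψ = actHom P n ψ := rfl

open Classical in
/-- the sum of the conjugates of a linear character under the normalizer -/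
noncomputable def orbSum (P : Subgroup G) [Fintype (↥P →* ℂˣ)] (ψ : ↥P →* ℂˣ) (w : ↥P) : ℂ :=
  ∑ ψ' : ↥P →* ℂˣ, if blRel P ψ ψ' then ((ψ' w : ℂˣ) : ℂ) else 0

theorem orbSum_eq_finsum (P : Subgroup G) [Fintype (↥P →* ℂˣ)] (ψ : ↥P →* ℂˣ) (w : ↥P) :
    ∑ᶠ ψ' ∈ {ψ' : ↥P →* ℂˣ | ∃ n : G, n ∈ Subgroup.normalizer (P : Set G) ∧
        ∀ w w' : ↥P, (w' : G) = n * w * n⁻¹ → ψ' w' = ψ w}, ((ψ' w : ℂˣ) : ℂ)
      = orbSum P ψ w := by
  classical
  unfold orbSum
  rw [finsum_mem_eq_sum_filter_lib, Finset.sum_filter]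
  apply Finset.sum_congr rfl
  intro ψ' _
  apply if_congr _ rfl rfl
  exact Iff.rfl

/-- inner products with class functions of `G` are constant on orbits -/
theorem sum_hom_mul_conj_of_blRel (P : Subgroup G) [Fintype ↥P] (θ : G → ℂ)
    (hθ : Cfsg.IsClassFunction G θ) (ψ ψ' : ↥P →* ℂˣ) (h : blRel P ψ ψ') :
    ∑ w : ↥P, ((ψ' w : ℂˣ) : ℂ) * conj (θ (w : G))
      = ∑ w : ↥P, ((ψ w : ℂˣ) : ℂ) * conj (θ (w : G)) := by
  obtain ⟨n, rfl⟩ := (blRel_iff P ψ ψ').mp h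
  rw [← Equiv.sum_comp (conjNormalizerEquiv P n).toEquiv
    (fun w : ↥P => ((actHom P n ψ w : ℂˣ) : ℂ) * conj (θ (w : G)))]
  apply Finset.sum_congr rfl
  intro u _
  rw [actHom_apply]
  simp only [MulEquiv.toEquiv_eq_coe, EquivLike.coe_coe, MulEquiv.symm_apply_apply]
  rw [conjNormalizerEquiv_apply, hθ]

theorem orbSum_conj (P : Subgroup G) [Fintype (↥P →* ℂˣ)] (ψ : ↥P →* ℂˣ) (n : G)
    (hn : n ∈ Subgroup.normalizer (P : Set G)) (w w' : ↥P) (hw : (w' : G) = n * w * n⁻¹) :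
    orbSum P ψ w' = orbSum P ψ w := by
  classical
  unfold orbSum
  rw [← Equiv.sum_comp (actEquiv P ⟨n, hn⟩)
    (fun ψ' : ↥P →* ℂˣ => if blRel P ψ ψ' then ((ψ' w' : ℂˣ) : ℂ) else 0)]
  apply Finset.sum_congr rfl
  intro ψ'' _
  have h1 : blRel P ψ (actEquiv P ⟨n, hn⟩ ψ'') ↔ blRel P ψ ψ'' := by
    have h2 : blRel P ψ'' (actEquiv P ⟨n, hn⟩ ψ'') := (blRel_iff P _ _).mpr ⟨⟨n, hn⟩, rfl⟩
    constructor
    · intro h
      exact blRel_trans P h (blRel_symm P h2)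
    · intro h
      exact blRel_trans P h h2
  have h3 : (actEquiv P ⟨n, hn⟩ ψ'') w' = ψ'' w := by
    rw [actEquiv_apply, actHom_apply]
    congr 1
    ext
    rw [conjNormalizerEquiv_symm_apply, hw]
    simp only
    group
  simp only [h1, h3]

end orb

section orb2

variable {G : Type*} [Group G] [Finite G] {p : ℕ} [Fact p.Prime]

theorem orbSum_one (P : Sylow p G) [Fintype (↥(P : Subgroup G) →* ℂˣ)]
    (hab : IsMulCommutative P)
    (hfrob : ∀ y : G, y ∈ (P : Subgroup G) → y ≠ 1 →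
      Subgroup.centralizer ({y} : Set G) ⊓ Subgroup.normalizer ((P : Subgroup G) : Set G)
        = Subgroup.centralizer ((P : Subgroup G) : Set G))
    (ψ : ↥(P : Subgroup G) →* ℂˣ) (hψ : ψ ≠ 1) :
    orbSum (P : Subgroup G) ψ 1
      = ((Subgroup.centralizer ((P : Subgroup G) : Set G)).relIndex
          (Subgroup.normalizer ((P : Subgroup G) : Set G)) : ℂ) := by
  classical
  unfold orbSum
  simp only [map_one, Units.val_one]
  rw [Finset.sum_ite, Finset.sum_const_zero, add_zero, Finset.sum_const, nsmul_eq_mul, mul_one,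
    ← card_blRel P hab hfrob ψ hψ, Nat.card_eq_fintype_card, Fintype.card_subtype]

/-- sums over an orbit -/
theorem sum_blRel_const (P : Sylow p G) [Fintype (↥(P : Subgroup G) →* ℂˣ)]
    (hab : IsMulCommutative P)
    (hfrob : ∀ y : G, y ∈ (P : Subgroup G) → y ≠ 1 →
      Subgroup.centralizer ({y} : Set G) ⊓ Subgroup.normalizer ((P : Subgroup G) : Set G)
        = Subgroup.centralizer ((P : Subgroup G) : Set G))
    (ψ : ↥(P : Subgroup G) →* ℂˣ) (hψ : ψ ≠ 1) (c : ℂ)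
    [DecidablePred (fun ψ' : ↥(P : Subgroup G) →* ℂˣ => blRel (P : Subgroup G) ψ ψ')] :
    ∑ ψ' : ↥(P : Subgroup G) →* ℂˣ, (if blRel (P : Subgroup G) ψ ψ' then c else 0)
      = ((Subgroup.centralizer ((P : Subgroup G) : Set G)).relIndex
          (Subgroup.normalizer ((P : Subgroup G) : Set G)) : ℂ) * c := by
  classical
  rw [Finset.sum_ite, Finset.sum_const_zero, add_zero, Finset.sum_const, nsmul_eq_mul,
    ← card_blRel P hab hfrob ψ hψ, Nat.card_eq_fintype_card, Fintype.card_subtype]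

theorem sum_orbSum (P : Sylow p G) [Fintype ↥(P : Subgroup G)]
    [Fintype (↥(P : Subgroup G) →* ℂˣ)]
    (ψ : ↥(P : Subgroup G) →* ℂˣ) (hψ : ψ ≠ 1) :
    ∑ w : ↥(P : Subgroup G), orbSum (P : Subgroup G) ψ w = 0 := by
  classical
  unfold orbSum
  rw [Finset.sum_comm]
  apply Finset.sum_eq_zero
  intro ψ' _
  split_ifs with h
  · exact sum_hom_eq_zero ψ' (blRel_ne_one _ h hψ)
  · simp

theorem sum_orbSum_mul_conj_classFunction (P : Sylow p G) [Fintype ↥(P : Subgroup G)]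
    [Fintype (↥(P : Subgroup G) →* ℂˣ)]
    (hab : IsMulCommutative P)
    (hfrob : ∀ y : G, y ∈ (P : Subgroup G) → y ≠ 1 →
      Subgroup.centralizer ({y} : Set G) ⊓ Subgroup.normalizer ((P : Subgroup G) : Set G)
        = Subgroup.centralizer ((P : Subgroup G) : Set G))
    (ψ : ↥(P : Subgroup G) →* ℂˣ) (hψ : ψ ≠ 1) (θ : G → ℂ) (hθ : Cfsg.IsClassFunction G θ) :
    ∑ w : ↥(P : Subgroup G), orbSum (P : Subgroup G) ψ w * conj (θ (w : G))
      = ((Subgroup.centralizer ((P : Subgroup G) : Set G)).relIndex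
          (Subgroup.normalizer ((P : Subgroup G) : Set G)) : ℂ)
        * ∑ w : ↥(P : Subgroup G), ((ψ w : ℂˣ) : ℂ) * conj (θ (w : G)) := by
  classical
  unfold orbSum
  simp_rw [Finset.sum_mul]
  rw [Finset.sum_comm]
  have h1 : ∀ ψ' : ↥(P : Subgroup G) →* ℂˣ,
      ∑ w : ↥(P : Subgroup G), (if blRel (P : Subgroup G) ψ ψ' then ((ψ' w : ℂˣ) : ℂ) else 0)
        * conj (θ (w : G))
      = if blRel (P : Subgroup G) ψ ψ' then
          ∑ w : ↥(P : Subgroup G), ((ψ w : ℂˣ) : ℂ) * conj (θ (w : G)) else 0 := by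
    intro ψ'
    split_ifs with h
    · exact sum_hom_mul_conj_of_blRel _ θ hθ ψ ψ' h
    · simp
  rw [Finset.sum_congr rfl (fun ψ' _ => h1 ψ')]
  exact sum_blRel_const P hab hfrob ψ hψ _

theorem sum_orbSum_mul_conj_orbSum (P : Sylow p G) [Fintype ↥(P : Subgroup G)]
    [Fintype (↥(P : Subgroup G) →* ℂˣ)]
    (hab : IsMulCommutative P)
    (hfrob : ∀ y : G, y ∈ (P : Subgroup G) → y ≠ 1 →
      Subgroup.centralizer ({y} : Set G) ⊓ Subgroup.normalizer ((P : Subgroup G) : Set G)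
        = Subgroup.centralizer ((P : Subgroup G) : Set G))
    (ψ ψ' : ↥(P : Subgroup G) →* ℂˣ) (hψ : ψ ≠ 1)
    [Decidable (blRel (P : Subgroup G) ψ ψ')] :
    ∑ w : ↥(P : Subgroup G), orbSum (P : Subgroup G) ψ w * conj (orbSum (P : Subgroup G) ψ' w)
      = (Nat.card P : ℂ) * (if blRel (P : Subgroup G) ψ ψ' then
          ((Subgroup.centralizer ((P : Subgroup G) : Set G)).relIndex
          (Subgroup.normalizer ((P : Subgroup G) : Set G)) : ℂ) else 0) := by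
  classical
  unfold orbSum
  have h1 : ∀ w : ↥(P : Subgroup G),
      (∑ ψ₁ : ↥(P : Subgroup G) →* ℂˣ,
        if blRel (P : Subgroup G) ψ ψ₁ then ((ψ₁ w : ℂˣ) : ℂ) else 0)
      * conj (∑ ψ₂ : ↥(P : Subgroup G) →* ℂˣ,
        if blRel (P : Subgroup G) ψ' ψ₂ then ((ψ₂ w : ℂˣ) : ℂ) else 0)
      = ∑ ψ₁ : ↥(P : Subgroup G) →* ℂˣ, ∑ ψ₂ : ↥(P : Subgroup G) →* ℂˣ,
        if blRel (P : Subgroup G) ψ ψ₁ ∧ blRel (P : Subgroup G) ψ' ψ₂ then
          ((ψ₁ w : ℂˣ) : ℂ) * conj ((ψ₂ w : ℂˣ) : ℂ) else 0 := by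
    intro w
    rw [map_sum, Finset.sum_mul_sum]
    apply Finset.sum_congr rfl
    intro ψ₁ _
    apply Finset.sum_congr rfl
    intro ψ₂ _
    by_cases h1 : blRel (P : Subgroup G) ψ ψ₁ <;> by_cases h2 : blRel (P : Subgroup G) ψ' ψ₂ <;>
      simp [h1, h2]
  rw [Finset.sum_congr rfl (fun w _ => h1 w), Finset.sum_comm]
  have h2 : ∀ ψ₁ : ↥(P : Subgroup G) →* ℂˣ,
      ∑ w : ↥(P : Subgroup G), ∑ ψ₂ : ↥(P : Subgroup G) →* ℂˣ,
        (if blRel (P : Subgroup G) ψ ψ₁ ∧ blRel (P : Subgroup G) ψ' ψ₂ then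
          ((ψ₁ w : ℂˣ) : ℂ) * conj ((ψ₂ w : ℂˣ) : ℂ) else 0)
      = if blRel (P : Subgroup G) ψ ψ₁ then
          (if blRel (P : Subgroup G) ψ ψ' then (Nat.card P : ℂ) else 0) else 0 := by
    intro ψ₁
    rw [Finset.sum_comm]
    have h3 : ∀ ψ₂ : ↥(P : Subgroup G) →* ℂˣ,
        ∑ w : ↥(P : Subgroup G),
        (if blRel (P : Subgroup G) ψ ψ₁ ∧ blRel (P : Subgroup G) ψ' ψ₂ then
          ((ψ₁ w : ℂˣ) : ℂ) * conj ((ψ₂ w : ℂˣ) : ℂ) else 0)
        = if blRel (P : Subgroup G) ψ ψ₁ ∧ blRel (P : Subgroup G) ψ' ψ₂ then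
            (if ψ₁ = ψ₂ then (Nat.card P : ℂ) else 0) else 0 := by
      intro ψ₂
      split_ifs with h4 h5
      · rw [sum_hom_mul_conj, if_pos h5]
      · rw [sum_hom_mul_conj, if_neg h5]
      · simp
    rw [Finset.sum_congr rfl (fun ψ₂ _ => h3 ψ₂)]
    rw [Finset.sum_eq_single ψ₁]
    · by_cases h4 : blRel (P : Subgroup G) ψ ψ₁
      · rw [if_pos h4, if_pos rfl]
        by_cases h5 : blRel (P : Subgroup G) ψ ψ'
        · rw [if_pos h5, if_pos ⟨h4, blRel_trans _ (blRel_symm _ h5) h4⟩]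
        · have h6 : ¬ blRel (P : Subgroup G) ψ' ψ₁ := by
            intro h6
            exact h5 (blRel_trans _ h4 (blRel_symm _ h6))
          simp [h5, h6]
      · simp [h4]
    · intro ψ₂ _ hne
      simp [Ne.symm hne]
    · intro h; exact absurd (Finset.mem_univ _) h
  rw [Finset.sum_congr rfl (fun ψ₁ _ => h2 ψ₁), sum_blRel_const P hab hfrob ψ hψ]
  split_ifs <;> ring

end orb2

end Cfsg.Agent.Lib.Helper6
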