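import Mathlib
import Cfsg.Prelude.Def_Blocks
import Cfsg.Agent.Lib.Helper6.BlkPrincipalKer
import Cfsg.Agent.Lib.Helper6.BlkSections
import Cfsg.Agent.Lib.Helper6.BlkOrthFull
import Cfsg.Agent.Lib.Helper6.BrPrin
import Cfsg.Agent.Lib.Helper6.PPartEl
import Cfsg.Agent.Lib.Helper6.BLGroup
import Cfsg.Agent.S0936
import Cfsg.Agent.S0939

/-! # Sums over `p`-sections whose centralizer has a normal `p`-complement -/

set_option autoImplicit false
set_option linter.unusedSectionVars false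
open Cfsg

namespace Cfsg.Agent.Lib.Helper6

open scoped ComplexConjugate

section sec

variable {G : Type*} [Group G] [Fintype G] [DecidableEq G]
variable {p : ℕ} {M : Ideal Cfsg.AlgInt}

/-- the sum of a class function over the elements whose `p`-part is conjugate to `x` -/
theorem sum_isConj_ppEl [Fact p.Prime] (x : G) (hx : ∃ k : ℕ, orderOf x = p ^ k)
    (H : Subgroup G) [Fintype H] (hH : H = Subgroup.centralizer ({x} : Set G))
    (F : G → ℂ) (hF : Cfsg.IsClassFunction G F) :
    ∑ g : G, (if IsConj (ppEl p g) x then F g else 0)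
      = (Nat.card G : ℂ) / (Nat.card H : ℂ)
        * ∑ y ∈ Finset.univ.filter (fun y : H => ¬ p ∣ orderOf y), F (x * (y : G)) := by
  classical
  have hp : p.Prime := Fact.out
  have h1 := sum_section hp x hx H hH F hF
  have h2 : ∀ g : G,
      F g * ((Finset.univ.filter (fun t : G => Cfsg.IsPPart p g (t * x * t⁻¹))).card : ℂ)
      = (if IsConj (ppEl p g) x then F g else 0) * (Nat.card H : ℂ) := by
    intro g
    rw [card_conjugators_pPart hp x g (ppEl p g) (isPPart_ppEl g)]
    split_ifs with h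
    · rw [hH]
    · simp
  rw [Finset.sum_congr rfl (fun g _ => h2 g), ← Finset.sum_mul] at h1
  have hH0 : (Nat.card H : ℂ) ≠ 0 := by exact_mod_cast Nat.card_pos.ne'
  rw [div_mul_eq_mul_div, eq_div_iff hH0, h1]

/-- the same sum when the `p`-regular elements of the centralizer form the `p'`-core and the
class function is constant on the section -/
theorem sum_isConj_ppEl_of_const [Fact p.Prime] (x : G) (hx : ∃ k : ℕ, orderOf x = p ^ k)
    (H : Subgroup G) [Fintype H] (hH : H = Subgroup.centralizer ({x} : Set G))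
    (q : ℕ) (hq : q ≠ 0) (hidx : (Cfsg.pPrimeCore p H).index = q)
    (hreg : ∀ v : H, ¬ p ∣ orderOf v ↔ v ∈ Cfsg.pPrimeCore p H)
    (F : G → ℂ) (hF : Cfsg.IsClassFunction G F) (c : ℂ)
    (hc : ∀ v : H, v ∈ Cfsg.pPrimeCore p H → F (x * (v : G)) = c) :
    ∑ g : G, (if IsConj (ppEl p g) x then F g else 0) = (Nat.card G : ℂ) / (q : ℂ) * c := by
  classical
  rw [sum_isConj_ppEl x hx H hH F hF]
  have h1 : ∀ y ∈ Finset.univ.filter (fun y : H => ¬ p ∣ orderOf y), F (x * (y : G)) = c := by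
    intro y hy
    rw [Finset.mem_filter] at hy
    exact hc y ((hreg y).mp hy.2)
  rw [Finset.sum_congr rfl h1, Finset.sum_const, nsmul_eq_mul]
  have h2 : (Finset.univ.filter (fun y : H => ¬ p ∣ orderOf y)).card
      = Nat.card (Cfsg.pPrimeCore p H) := by
    rw [Nat.card_eq_fintype_card, Fintype.card_subtype]
    congr 1
    ext v
    simp only [Finset.mem_filter, Finset.mem_univ, true_and]
    exact hreg v
  have h3 := (Cfsg.pPrimeCore p H).card_mul_index
  rw [hidx] at h3
  rw [h2, ← h3]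
  have hK0 : (Nat.card (Cfsg.pPrimeCore p H) : ℂ) ≠ 0 := by exact_mod_cast Nat.card_pos.ne'
  have hq0 : (q : ℂ) ≠ 0 := by exact_mod_cast hq
  push_cast
  field_simp

open Classical in
/-- the sum of a non-principal character over a coset `x O_{p'}(C(x))` vanishes when `C(x)` has
a normal `p`-complement -/
theorem sum_core_eq_zero_of_not_principal (hM : Cfsg.IsPModular p M) [Fact p.Prime] (x : G)
    (hx : ∃ k : ℕ, orderOf x = p ^ k)
    (H : Subgroup G) [Fintype H] (hH : H = Subgroup.centralizer ({x} : Set G))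
    (hnc : ∃ k : ℕ, (Cfsg.pPrimeCore p H).index = p ^ k)
    (χ : Cfsg.IrrCharacter G) (hχ : χ ∉ Cfsg.principalBlock M G) :
    ∑ v ∈ Finset.univ.filter (fun v : H => v ∈ Cfsg.pPrimeCore p H),
      (χ : G → ℂ) (x * (v : G)) = 0 := by
  classical
  have hp : p.Prime := hM.1
  haveI : Fintype (Cfsg.IrrCharacter H) := Fintype.ofFinite _
  obtain ⟨ϑ, hϑdef⟩ : ∃ ϑ : H → ℂ, ϑ = fun c : H => (χ : G → ℂ) (x * (c : G)) := ⟨_, rfl⟩
  have hcomm : ∀ h : H, (h : G) * x = x * (h : G) := by
    intro h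
    have h2 : (h : G) ∈ Subgroup.centralizer ({x} : Set G) := hH ▸ h.2
    rw [Subgroup.mem_centralizer_singleton_iff] at h2
    exact h2
  have hϑ : Cfsg.IsClassFunction H ϑ := by
    intro g h
    rw [hϑdef]
    simp only [Subgroup.coe_mul, Subgroup.coe_inv]
    have e : x * ((h : G) * (g : G) * (h : G)⁻¹) = (h : G) * (x * (g : G)) * (h : G)⁻¹ := by
      rw [← mul_assoc, ← mul_assoc, ← hcomm h]
      group
    rw [e]
    exact IsIrrCharacter.isClassFunction χ.2 _ _
  obtain ⟨K, hK⟩ : ∃ K : Subgroup H, K = Cfsg.pPrimeCore p H := ⟨_, rfl⟩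
  haveI hKn : K.Normal := by rw [hK]; infer_instance
  haveI : Fintype K := Fintype.ofFinite K
  have hb₀ := Cfsg.Agent.S0939.result (G := H) p M hM hnc
  have hnot : ¬ Cfsg.IsInducedBlock M H (Cfsg.principalBlock M H)
      (Cfsg.blockOf M (χ : G → ℂ)) := by
    intro hind
    have h1 := (Cfsg.Agent.S0936.result p M hM H (Cfsg.principalBlock M H) ⟨_, hind⟩).mpr rfl
    have h2 := IsInducedBlock.unique H hM hind h1
    apply hχ
    rw [← h2]
    exact sameBlock_refl hM _
  have h0 := second_main_chars hM x hx H hH (B := Cfsg.blockOf M (χ : G → ℂ)) ⟨χ, rfl⟩ χ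
    (sameBlock_refl hM _) (isPBlock_principalBlock (M := M) (G := H)) hnot 1
    (by rw [orderOf_one]; exact hp.not_dvd_one)
  rw [← hϑdef, blockPart_eq_finset_sum] at h0
  have hexp : ∀ v : H, ϑ v
      = ∑ ξ : Cfsg.IrrCharacter H, Cfsg.classInner ϑ (ξ : H → ℂ) * (ξ : H → ℂ) v := by
    intro v
    rw [← blockPart_univ hϑ v, blockPart_eq_finset_sum]
    apply Finset.sum_congr _ (fun _ _ => rfl)
    ext ξ; simp
  have hsumξ : ∀ ξ : Cfsg.IrrCharacter H,
      ∑ v ∈ Finset.univ.filter (fun v : H => v ∈ K), (ξ : H → ℂ) v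
      = if ξ ∈ Cfsg.principalBlock M H then (Nat.card K : ℂ) * (ξ : H → ℂ) 1 else 0 := by
    intro ξ
    split_ifs with hξ
    · rw [hb₀] at hξ
      have : ∀ v ∈ Finset.univ.filter (fun v : H => v ∈ K), (ξ : H → ℂ) v = (ξ : H → ℂ) 1 := by
        intro v hv
        rw [Finset.mem_filter] at hv
        exact hξ v (hK ▸ hv.2)
      rw [Finset.sum_congr rfl this, Finset.sum_const, nsmul_eq_mul]
      congr 2
      rw [Nat.card_eq_fintype_card, Fintype.card_subtype]
    · by_contra hne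
      apply hξ
      rw [hb₀]
      have hs : ∑ n : K, (ξ : H → ℂ) n ≠ 0 := by
        rw [← Finset.sum_subtype (Finset.univ.filter (fun v : H => v ∈ K))
          (p := fun v : H => v ∈ K) (by intro v; simp) (fun v => (ξ : H → ℂ) v)]
        exact hne
      intro n hn
      exact IsIrrCharacter.const_on_normal_of_sum_ne_zero K ξ.2 hs ⟨n, hK ▸ hn⟩
  rw [← hK]
  have h1 : ∑ v ∈ Finset.univ.filter (fun v : H => v ∈ K), (χ : G → ℂ) (x * (v : G))
      = ∑ v ∈ Finset.univ.filter (fun v : H => v ∈ K), ϑ v := by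
    rw [hϑdef]
  rw [h1, Finset.sum_congr rfl (fun v _ => hexp v), Finset.sum_comm]
  simp_rw [← Finset.mul_sum, hsumξ]
  have h2 : ∀ ξ : Cfsg.IrrCharacter H, Cfsg.classInner ϑ (ξ : H → ℂ)
      * (if ξ ∈ Cfsg.principalBlock M H then (Nat.card K : ℂ) * (ξ : H → ℂ) 1 else 0)
      = (Nat.card K : ℂ) * (if ξ ∈ Cfsg.principalBlock M H then
          Cfsg.classInner ϑ (ξ : H → ℂ) * (ξ : H → ℂ) 1 else 0) := by
    intro ξ
    split_ifs <;> ring
  rw [Finset.sum_congr rfl (fun ξ _ => h2 ξ), ← Finset.mul_sum, ← Finset.sum_filter, h0, mul_zero]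

end sec

end Cfsg.Agent.Lib.Helper6
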