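import Mathlib
import Cfsg.Prelude.Def_Blocks
import Cfsg.Agent.Lib.Helper6.BLSec
import Cfsg.Agent.Lib.Helper6.BLAct
import Cfsg.Agent.Lib.Helper6.PPartEl

/-! # Class functions of `G` attached to invariant functions on an abelian Sylow subgroup -/

set_option autoImplicit false
set_option linter.unusedSectionVars false
open Cfsg

namespace Cfsg.Agent.Lib.Helper6

open scoped ComplexConjugate

section sharp

variable {G : Type*} [Group G] [Fintype G] [DecidableEq G]
variable {p : ℕ} {M : Ideal Cfsg.AlgInt}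

open Classical in
/-- the class function on `G` attached to a function on `P` -/
noncomputable def sharpFun (p : ℕ) (P : Subgroup G) [Fintype P] (m : ℕ) (f : P → ℂ) (g : G) : ℂ :=
  (m : ℂ)⁻¹ * ∑ w : P, if (w : G) ≠ 1 ∧ IsConj (ppEl p g) (w : G) then f w else 0

theorem isClassFunction_sharpFun [Fact p.Prime] (P : Subgroup G) [Fintype P] (m : ℕ)
    (f : P → ℂ) : Cfsg.IsClassFunction G (sharpFun p P m f) := by
  classical
  intro g h
  unfold sharpFun
  congr 1
  apply Finset.sum_congr rfl
  intro w _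
  rw [ppEl_conj]
  apply if_congr _ rfl rfl
  apply and_congr Iff.rfl
  have h1 : IsConj (ppEl p g) (h * ppEl p g * h⁻¹) := isConj_iff.mpr ⟨h, rfl⟩
  constructor
  · intro h2
    exact h1.trans h2
  · intro h2
    exact h1.symm.trans h2

theorem sharpFun_of_pRegular [Fact p.Prime] (P : Subgroup G) [Fintype P] (m : ℕ)
    (f : P → ℂ) (g : G) (hg : ¬ p ∣ orderOf g) : sharpFun p P m f g = 0 := by
  classical
  unfold sharpFun
  rw [ppEl_of_pRegular hg, Finset.sum_eq_zero, mul_zero]
  intro w _
  rw [if_neg]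
  rintro ⟨h1, h2⟩
  exact h1 (isConj_one_right.mp h2)

theorem sharpFun_of_isPPart [Fact p.Prime] (P : Sylow p G) [Fintype ↥(P : Subgroup G)]
    (hab : IsMulCommutative P)
    (hfrob : ∀ y : G, y ∈ (P : Subgroup G) → y ≠ 1 →
      Subgroup.centralizer ({y} : Set G) ⊓ Subgroup.normalizer ((P : Subgroup G) : Set G)
        = Subgroup.centralizer ((P : Subgroup G) : Set G))
    (m : ℕ) (hm : m ≠ 0)
    (hCN : (Subgroup.centralizer ((P : Subgroup G) : Set G)).relIndex
      (Subgroup.normalizer ((P : Subgroup G) : Set G)) = m)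
    (f : ↥(P : Subgroup G) → ℂ)
    (hf : ∀ n ∈ Subgroup.normalizer ((P : Subgroup G) : Set G), ∀ w w' : ↥(P : Subgroup G),
      (w' : G) = n * w * n⁻¹ → f w' = f w)
    (g y : G) (hgy : Cfsg.IsPPart p g y) (hy : y ∈ (P : Subgroup G)) (hy1 : y ≠ 1) :
    sharpFun p (P : Subgroup G) m f g = f ⟨y, hy⟩ := by
  classical
  unfold sharpFun
  rw [ppEl_eq_of_isPPart hgy, ← Finset.sum_filter]
  have h1 : ∀ w ∈ Finset.univ.filter (fun w : ↥(P : Subgroup G) => (w : G) ≠ 1 ∧ IsConj y (w : G)),
      f w = f ⟨y, hy⟩ := by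
    intro w hw
    rw [Finset.mem_filter] at hw
    obtain ⟨n, hn, h⟩ := bl_exists_normalizer_conj P hab y w hy w.2 hw.2.2
    exact hf n hn ⟨y, hy⟩ w h.symm
  rw [Finset.sum_congr rfl h1, Finset.sum_const, nsmul_eq_mul]
  have h2 : (Finset.univ.filter
      (fun w : ↥(P : Subgroup G) => (w : G) ≠ 1 ∧ IsConj y (w : G))).card = m := by
    rw [← hCN, ← card_conj_in_sylow P hab hfrob y hy hy1, Nat.card_eq_fintype_card,
      Fintype.card_subtype]
  rw [h2]
  have hm0 : (m : ℂ) ≠ 0 := by exact_mod_cast hm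
  field_simp

/-- the inner product with a class function that is constant on the relevant sections -/
theorem classInner_sharpFun [Fact p.Prime] (P : Sylow p G) [Fintype ↥(P : Subgroup G)]
    (hab : IsMulCommutative P)
    (hfrob : ∀ y : G, y ∈ (P : Subgroup G) → y ≠ 1 →
      Subgroup.centralizer ({y} : Set G) ⊓ Subgroup.normalizer ((P : Subgroup G) : Set G)
        = Subgroup.centralizer ((P : Subgroup G) : Set G))
    (m : ℕ) (f : ↥(P : Subgroup G) → ℂ) (θ : G → ℂ) (hθ : Cfsg.IsClassFunction G θ)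
    (c : ↥(P : Subgroup G) → ℂ)
    (hc : ∀ w : ↥(P : Subgroup G), (w : G) ≠ 1 →
      ∀ v : Subgroup.centralizer ({(w : G)} : Set G),
        v ∈ Cfsg.pPrimeCore p (Subgroup.centralizer ({(w : G)} : Set G)) →
        θ ((w : G) * (v : G)) = c w) :
    Cfsg.classInner (sharpFun p (P : Subgroup G) m f) θ
      = ((m : ℂ) * (Nat.card P : ℂ))⁻¹
        * ∑ w : ↥(P : Subgroup G), if (w : G) ≠ 1 then f w * conj (c w) else 0 := by
  classical
  have hp : p.Prime := Fact.out
  unfold Cfsg.classInner sharpFun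
  have hP0 : (Nat.card P : ℂ) ≠ 0 := by exact_mod_cast Nat.card_pos.ne'
  have hG0 : (Nat.card G : ℂ) ≠ 0 := by exact_mod_cast Nat.card_pos.ne'
  have h1 : ∀ g : G, ((m : ℂ)⁻¹ * ∑ w : ↥(P : Subgroup G),
        if (w : G) ≠ 1 ∧ IsConj (ppEl p g) (w : G) then f w else 0) * conj (θ g)
      = (m : ℂ)⁻¹ * ∑ w : ↥(P : Subgroup G),
        if (w : G) ≠ 1 then f w * (if IsConj (ppEl p g) (w : G) then conj (θ g) else 0)
        else 0 := by
    intro g
    rw [mul_assoc, Finset.sum_mul]
    congr 1
    apply Finset.sum_congr rfl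
    intro w _
    by_cases h1 : (w : G) ≠ 1
    · by_cases h2 : IsConj (ppEl p g) (w : G)
      · rw [if_pos ⟨h1, h2⟩, if_pos h1, if_pos h2]
      · rw [if_neg (fun h => h2 h.2), if_pos h1, if_neg h2, mul_zero, zero_mul]
    · rw [if_neg (fun h => h1 h.1), if_neg h1, zero_mul]
  rw [Finset.sum_congr rfl (fun g _ => h1 g), ← Finset.mul_sum, Finset.sum_comm]
  have h2 : ∀ w : ↥(P : Subgroup G),
      ∑ g : G, (if (w : G) ≠ 1 then
        f w * (if IsConj (ppEl p g) (w : G) then conj (θ g) else 0) else 0)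
      = if (w : G) ≠ 1 then f w * ((Nat.card G : ℂ) / (Nat.card P : ℂ) * conj (c w)) else 0 := by
    intro w
    split_ifs with hw
    · rw [← Finset.mul_sum]
      congr 1
      haveI : Fintype (Subgroup.centralizer ({(w : G)} : Set G)) := Fintype.ofFinite _
      obtain ⟨hidx, hreg⟩ := centralizer_pPrimeCore_data P hab hfrob (w : G) w.2 hw
      have hx : ∃ k : ℕ, orderOf (w : G) = p ^ k := by
        obtain ⟨k, hk⟩ := (IsPGroup.iff_orderOf.mp P.2) w
        exact ⟨k, by rw [← hk, Subgroup.orderOf_coe]⟩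
      have hF : Cfsg.IsClassFunction G (fun g => conj (θ g)) := by
        intro g h
        simp only
        rw [hθ g h]
      exact sum_isConj_ppEl_of_const (w : G) hx _ rfl (Nat.card P) Nat.card_pos.ne' hidx hreg
        (fun g => conj (θ g)) hF (conj (c w)) (fun v hv => by rw [hc w hw v hv])
    · simp
  rw [Finset.sum_congr rfl (fun w _ => h2 w)]
  have h3 : ∀ w : ↥(P : Subgroup G),
      (if (w : G) ≠ 1 then f w * ((Nat.card G : ℂ) / (Nat.card P : ℂ) * conj (c w)) else 0)
      = ((Nat.card G : ℂ) / (Nat.card P : ℂ)) * (if (w : G) ≠ 1 then f w * conj (c w) else 0) := by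
    intro w
    split_ifs <;> ring
  rw [Finset.sum_congr rfl (fun w _ => h3 w), ← Finset.mul_sum]
  field_simp

/-- characters outside the principal block are orthogonal to the class functions `f^♯` -/
theorem classInner_sharpFun_of_not_principal (hM : Cfsg.IsPModular p M) [Fact p.Prime]
    (P : Sylow p G) [Fintype ↥(P : Subgroup G)]
    (hab : IsMulCommutative P)
    (hfrob : ∀ y : G, y ∈ (P : Subgroup G) → y ≠ 1 →
      Subgroup.centralizer ({y} : Set G) ⊓ Subgroup.normalizer ((P : Subgroup G) : Set G)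
        = Subgroup.centralizer ((P : Subgroup G) : Set G))
    (m : ℕ) (f : ↥(P : Subgroup G) → ℂ) (χ : Cfsg.IrrCharacter G)
    (hχ : χ ∉ Cfsg.principalBlock M G) :
    Cfsg.classInner (sharpFun p (P : Subgroup G) m f) (χ : G → ℂ) = 0 := by
  classical
  have hp : p.Prime := Fact.out
  unfold Cfsg.classInner sharpFun
  have h1 : ∀ g : G, ((m : ℂ)⁻¹ * ∑ w : ↥(P : Subgroup G),
        if (w : G) ≠ 1 ∧ IsConj (ppEl p g) (w : G) then f w else 0) * conj ((χ : G → ℂ) g)
      = (m : ℂ)⁻¹ * ∑ w : ↥(P : Subgroup G),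
        if (w : G) ≠ 1 then
          f w * (if IsConj (ppEl p g) (w : G) then conj ((χ : G → ℂ) g) else 0)
        else 0 := by
    intro g
    rw [mul_assoc, Finset.sum_mul]
    congr 1
    apply Finset.sum_congr rfl
    intro w _
    by_cases h1 : (w : G) ≠ 1
    · by_cases h2 : IsConj (ppEl p g) (w : G)
      · rw [if_pos ⟨h1, h2⟩, if_pos h1, if_pos h2]
      · rw [if_neg (fun h => h2 h.2), if_pos h1, if_neg h2, mul_zero, zero_mul]
    · rw [if_neg (fun h => h1 h.1), if_neg h1, zero_mul]
  rw [Finset.sum_congr rfl (fun g _ => h1 g), ← Finset.mul_sum, Finset.sum_comm]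
  have h2 : ∀ w : ↥(P : Subgroup G),
      ∑ g : G, (if (w : G) ≠ 1 then
        f w * (if IsConj (ppEl p g) (w : G) then conj ((χ : G → ℂ) g) else 0) else 0) = 0 := by
    intro w
    split_ifs with hw
    · rw [← Finset.mul_sum]
      haveI : Fintype (Subgroup.centralizer ({(w : G)} : Set G)) := Fintype.ofFinite _
      obtain ⟨hidx, hreg⟩ := centralizer_pPrimeCore_data P hab hfrob (w : G) w.2 hw
      have hx : ∃ k : ℕ, orderOf (w : G) = p ^ k := by
        obtain ⟨k, hk⟩ := (IsPGroup.iff_orderOf.mp P.2) w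
        exact ⟨k, by rw [← hk, Subgroup.orderOf_coe]⟩
      have hF : Cfsg.IsClassFunction G (fun g => conj ((χ : G → ℂ) g)) := by
        intro g h
        simp only
        rw [IsIrrCharacter.isClassFunction χ.2 g h]
      have hnc : ∃ k : ℕ, (Cfsg.pPrimeCore p
          (Subgroup.centralizer ({(w : G)} : Set G))).index = p ^ k := by
        rw [hidx]
        exact IsPGroup.iff_card.mp P.2
      rw [sum_isConj_ppEl (w : G) hx _ rfl (fun g => conj ((χ : G → ℂ) g)) hF]
      have h3 := sum_core_eq_zero_of_not_principal hM (w : G) hx _ rfl hnc χ hχ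
      have h4 : (Finset.univ.filter
          (fun y : Subgroup.centralizer ({(w : G)} : Set G) => ¬ p ∣ orderOf y))
          = Finset.univ.filter (fun v : Subgroup.centralizer ({(w : G)} : Set G) =>
            v ∈ Cfsg.pPrimeCore p (Subgroup.centralizer ({(w : G)} : Set G))) := by
        ext v
        simp only [Finset.mem_filter, Finset.mem_univ, true_and]
        exact hreg v
      rw [h4]
      rw [← map_sum]
      rw [show (∑ v ∈ Finset.univ.filter (fun v : Subgroup.centralizer ({(w : G)} : Set G) =>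
            v ∈ Cfsg.pPrimeCore p (Subgroup.centralizer ({(w : G)} : Set G))),
            (χ : G → ℂ) ((w : G) * (v : G))) = 0 from by convert h3]
      simp
    · simp
  rw [Finset.sum_congr rfl (fun w _ => h2 w)]
  simp

end sharp

end Cfsg.Agent.Lib.Helper6
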