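import Mathlib
import Cfsg.Prelude.Def_Blocks
import Cfsg.Agent.Lib.Helper6.BLSharp
import Cfsg.Agent.Lib.Helper6.BLOrb
import Cfsg.Agent.Lib.Helper6.BLCoh
import Cfsg.Agent.Lib.Helper6.GenChar
import Cfsg.Agent.Lib.Helper6.ClassFun
import Cfsg.Agent.Lib.Helper6.Mult

/-! # The principal block of a group with an abelian Sylow subgroup and a semiregular
action of `N/C` : the basic inner products and the coherence argument -/

set_option autoImplicit false
set_option linter.unusedSectionVars false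
open Cfsg

namespace Cfsg.Agent.Lib.Helper6

open scoped ComplexConjugate

section main

variable {G : Type*} [Group G] [Fintype G] [DecidableEq G]
variable {p : ℕ} {M : Ideal Cfsg.AlgInt}

/-- the function `m - σ_ψ` on `P` -/
noncomputable def blFun (P : Subgroup G) [Fintype (↥P →* ℂˣ)] (m : ℕ) (ψ : ↥P →* ℂˣ)
    (w : ↥P) : ℂ := (m : ℂ) - orbSum P ψ w

theorem blFun_conj (P : Subgroup G) [Fintype (↥P →* ℂˣ)] (m : ℕ) (ψ : ↥P →* ℂˣ) (n : G)
    (hn : n ∈ Subgroup.normalizer (P : Set G)) (w w' : ↥P) (hw : (w' : G) = n * w * n⁻¹) :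
    blFun P m ψ w' = blFun P m ψ w := by
  unfold blFun
  rw [orbSum_conj P ψ n hn w w' hw]

theorem blFun_one [Fact p.Prime] (P : Sylow p G) [Fintype (↥(P : Subgroup G) →* ℂˣ)]
    (hab : IsMulCommutative P)
    (hfrob : ∀ y : G, y ∈ (P : Subgroup G) → y ≠ 1 →
      Subgroup.centralizer ({y} : Set G) ⊓ Subgroup.normalizer ((P : Subgroup G) : Set G)
        = Subgroup.centralizer ((P : Subgroup G) : Set G))
    (m : ℕ)
    (hCN : (Subgroup.centralizer ((P : Subgroup G) : Set G)).relIndex
      (Subgroup.normalizer ((P : Subgroup G) : Set G)) = m)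
    (ψ : ↥(P : Subgroup G) →* ℂˣ) (hψ : ψ ≠ 1) (w : ↥(P : Subgroup G)) (hw : ¬ (w : G) ≠ 1) :
    blFun (P : Subgroup G) m ψ w = 0 := by
  have hw1 : w = 1 := by
    apply Subtype.ext
    simpa using hw
  unfold blFun
  rw [hw1, orbSum_one P hab hfrob ψ hψ, hCN, sub_self]

/-- the inner product of `f_ψ^♯` with a character of the principal block -/
theorem classInner_sharp_blFun_principal (hM : Cfsg.IsPModular p M) [Fact p.Prime]
    (P : Sylow p G) [Fintype ↥(P : Subgroup G)] [Fintype (↥(P : Subgroup G) →* ℂˣ)]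
    (hab : IsMulCommutative P)
    (hfrob : ∀ y : G, y ∈ (P : Subgroup G) → y ≠ 1 →
      Subgroup.centralizer ({y} : Set G) ⊓ Subgroup.normalizer ((P : Subgroup G) : Set G)
        = Subgroup.centralizer ((P : Subgroup G) : Set G))
    (m : ℕ) (hm : m ≠ 0)
    (hCN : (Subgroup.centralizer ((P : Subgroup G) : Set G)).relIndex
      (Subgroup.normalizer ((P : Subgroup G) : Set G)) = m)
    (ψ : ↥(P : Subgroup G) →* ℂˣ) (hψ : ψ ≠ 1)
    (χ : Cfsg.IrrCharacter G) (hχ : χ ∈ Cfsg.principalBlock M G) :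
    Cfsg.classInner (sharpFun p (P : Subgroup G) m (blFun (P : Subgroup G) m ψ)) (χ : G → ℂ)
      = conj (Cfsg.classInner (fun w : ↥(P : Subgroup G) => (χ : G → ℂ) w)
          (fun w => (((1 : ↥(P : Subgroup G) →* ℂˣ) w : ℂˣ) : ℂ)))
        - conj (Cfsg.classInner (fun w : ↥(P : Subgroup G) => (χ : G → ℂ) w)
          (fun w => ((ψ w : ℂˣ) : ℂ))) := by
  classical
  have hχcf := IsIrrCharacter.isClassFunction χ.2
  rw [classInner_sharpFun P hab hfrob m _ (χ : G → ℂ) hχcf (fun w => (χ : G → ℂ) w)]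
  · have h1 : ∀ w : ↥(P : Subgroup G),
        (if (w : G) ≠ 1 then blFun (P : Subgroup G) m ψ w * conj ((χ : G → ℂ) w) else 0)
        = (m : ℂ) * conj ((χ : G → ℂ) w)
          - orbSum (P : Subgroup G) ψ w * conj ((χ : G → ℂ) w) := by
      intro w
      split_ifs with hw
      · unfold blFun; ring
      · have := blFun_one P hab hfrob m hCN ψ hψ w hw
        unfold blFun at this
        rw [← sub_mul, this, zero_mul]
    rw [Finset.sum_congr rfl (fun w _ => h1 w), Finset.sum_sub_distrib, ← Finset.mul_sum,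
      sum_orbSum_mul_conj_classFunction P hab hfrob ψ hψ _ hχcf, hCN]
    unfold Cfsg.classInner
    have hP0 : (Nat.card P : ℂ) ≠ 0 := by exact_mod_cast Nat.card_pos.ne'
    have hm0 : (m : ℂ) ≠ 0 := by exact_mod_cast hm
    simp only [map_mul, map_inv₀, map_natCast, map_sum, Complex.conj_conj, MonoidHom.one_apply,
      Units.val_one, mul_one]
    have h2 : ∀ w : ↥(P : Subgroup G), conj ((χ : G → ℂ) w) * ((ψ w : ℂˣ) : ℂ)
        = ((ψ w : ℂˣ) : ℂ) * conj ((χ : G → ℂ) w) := fun w => mul_comm _ _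
    rw [Finset.sum_congr rfl (fun w _ => h2 w)]
    field_simp
  · intro w hw v hv
    haveI : Fintype (Subgroup.centralizer ({(w : G)} : Set G)) := Fintype.ofFinite _
    have hx : ∃ k : ℕ, orderOf (w : G) = p ^ k := by
      obtain ⟨k, hk⟩ := (IsPGroup.iff_orderOf.mp P.2) w
      exact ⟨k, by rw [← hk, Subgroup.orderOf_coe]⟩
    exact principal_apply_mul_core hM (w : G) hx _ rfl χ hχ v hv

/-- the Gram matrix of the functions `f_ψ^♯` -/
theorem classInner_sharp_blFun_sharp_blFun [Fact p.Prime]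
    (P : Sylow p G) [Fintype ↥(P : Subgroup G)] [Fintype (↥(P : Subgroup G) →* ℂˣ)]
    (hab : IsMulCommutative P)
    (hfrob : ∀ y : G, y ∈ (P : Subgroup G) → y ≠ 1 →
      Subgroup.centralizer ({y} : Set G) ⊓ Subgroup.normalizer ((P : Subgroup G) : Set G)
        = Subgroup.centralizer ((P : Subgroup G) : Set G))
    (m : ℕ) (hm : m ≠ 0)
    (hCN : (Subgroup.centralizer ((P : Subgroup G) : Set G)).relIndex
      (Subgroup.normalizer ((P : Subgroup G) : Set G)) = m)
    (ψ ψ' : ↥(P : Subgroup G) →* ℂˣ) (hψ : ψ ≠ 1) (hψ' : ψ' ≠ 1)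
    [Decidable (blRel (P : Subgroup G) ψ ψ')] :
    Cfsg.classInner (sharpFun p (P : Subgroup G) m (blFun (P : Subgroup G) m ψ))
        (sharpFun p (P : Subgroup G) m (blFun (P : Subgroup G) m ψ'))
      = (m : ℂ) + if blRel (P : Subgroup G) ψ ψ' then 1 else 0 := by
  classical
  have hp : p.Prime := Fact.out
  rw [classInner_sharpFun P hab hfrob m _ _ (isClassFunction_sharpFun _ _ _)
    (blFun (P : Subgroup G) m ψ')]
  · have h1 : ∀ w : ↥(P : Subgroup G),
        (if (w : G) ≠ 1 then blFun (P : Subgroup G) m ψ w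
          * conj (blFun (P : Subgroup G) m ψ' w) else 0)
        = (m : ℂ) * (m : ℂ) - (m : ℂ) * conj (orbSum (P : Subgroup G) ψ' w)
          - (m : ℂ) * orbSum (P : Subgroup G) ψ w
          + orbSum (P : Subgroup G) ψ w * conj (orbSum (P : Subgroup G) ψ' w) := by
      intro w
      split_ifs with hw
      · unfold blFun
        simp only [map_sub, map_natCast]
        ring
      · have h2 := blFun_one P hab hfrob m hCN ψ hψ w hw
        have h3 := blFun_one P hab hfrob m hCN ψ' hψ' w hw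
        unfold blFun at h2 h3
        have h4 : orbSum (P : Subgroup G) ψ w = m := by linear_combination -h2
        have h5 : orbSum (P : Subgroup G) ψ' w = m := by linear_combination -h3
        rw [h4, h5]
        simp only [map_natCast]
        ring
    have e1 : ∑ w : ↥(P : Subgroup G), (m : ℂ) * conj (orbSum (P : Subgroup G) ψ' w) = 0 := by
      rw [← Finset.mul_sum, ← map_sum, sum_orbSum P ψ' hψ', map_zero, mul_zero]
    have e2 : ∑ w : ↥(P : Subgroup G), (m : ℂ) * orbSum (P : Subgroup G) ψ w = 0 := by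
      rw [← Finset.mul_sum, sum_orbSum P ψ hψ, mul_zero]
    rw [Finset.sum_congr rfl (fun w _ => h1 w), Finset.sum_add_distrib, Finset.sum_sub_distrib,
      Finset.sum_sub_distrib, e1, e2,
      sum_orbSum_mul_conj_orbSum P hab hfrob ψ ψ' hψ, hCN]
    have hP0 : (Nat.card P : ℂ) ≠ 0 := by exact_mod_cast Nat.card_pos.ne'
    have hm0 : (m : ℂ) ≠ 0 := by exact_mod_cast hm
    simp only [Finset.sum_const, Finset.card_univ, nsmul_eq_mul, sub_zero]
    rw [← Nat.card_eq_fintype_card]
    split_ifs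
    · field_simp
    · field_simp
      ring
  · intro w hw v hv
    obtain ⟨hidx, hreg⟩ := centralizer_pPrimeCore_data P hab hfrob (w : G) w.2 hw
    have hx : ∃ k : ℕ, orderOf (w : G) = p ^ k := by
      obtain ⟨k, hk⟩ := (IsPGroup.iff_orderOf.mp P.2) w
      exact ⟨k, by rw [← hk, Subgroup.orderOf_coe]⟩
    have hvreg : ¬ p ∣ orderOf (v : G) := by
      rw [Subgroup.orderOf_coe]
      exact (hreg v).mpr hv
    have hcomm : Commute (w : G) (v : G) := by
      have := v.2
      rw [Subgroup.mem_centralizer_iff] at this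
      exact this (w : G) (Set.mem_singleton _)
    have hpp : Cfsg.IsPPart p ((w : G) * (v : G)) (w : G) := ⟨(v : G), rfl, hcomm, hx, hvreg⟩
    rw [sharpFun_of_isPPart P hab hfrob m hm hCN _ (blFun_conj _ m ψ') _ _ hpp w.2 hw]

end main

end Cfsg.Agent.Lib.Helper6
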