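import Mathlib
import Cfsg.Prelude.Def_Blocks
import Cfsg.Agent.Lib.Helper6.BLMain

/-! # The coherence argument for the principal block in the Brauer–Leonard situation -/

set_option autoImplicit false
set_option linter.unusedSectionVars false
open Cfsg

namespace Cfsg.Agent.Lib.Helper6

open scoped ComplexConjugate

section core

variable {G : Type*} [Group G] [Fintype G] [DecidableEq G]
variable {p : ℕ} {M : Ideal Cfsg.AlgInt}

set_option maxHeartbeats 800000 in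
theorem bl_core (hM : Cfsg.IsPModular p M) [Fact p.Prime]
    (P : Sylow p G) [Fintype ↥(P : Subgroup G)] [Fintype (↥(P : Subgroup G) →* ℂˣ)]
    [Fintype (Cfsg.IrrCharacter G)] [DecidableEq (Cfsg.IrrCharacter G)]
    (hab : IsMulCommutative P)
    (hfrob : ∀ y : G, y ∈ (P : Subgroup G) → y ≠ 1 →
      Subgroup.centralizer ({y} : Set G) ⊓ Subgroup.normalizer ((P : Subgroup G) : Set G)
        = Subgroup.centralizer ((P : Subgroup G) : Set G))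
    (m : ℕ) (hm1 : 1 < m) (hm2 : m + 1 < Nat.card P)
    (hCN : (Subgroup.centralizer ((P : Subgroup G) : Set G)).relIndex
      (Subgroup.normalizer ((P : Subgroup G) : Set G)) = m) :
    ∃ (δ d : ℤ) (w : Cfsg.IrrCharacter G → ℤ)
      (Θ : (↥(P : Subgroup G) →* ℂˣ) → Cfsg.IrrCharacter G),
      (δ = 1 ∨ δ = -1) ∧
      (∀ ψ, ψ ≠ 1 → Θ ψ ∈ Cfsg.principalBlock M G) ∧
      (∀ ψ ψ', ψ ≠ 1 → ψ' ≠ 1 → (Θ ψ = Θ ψ' ↔ blRel (P : Subgroup G) ψ ψ')) ∧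
      (∀ ψ, ψ ≠ 1 → w (Θ ψ) = d) ∧
      (∀ χ, χ ∉ Cfsg.principalBlock M G → w χ = 0) ∧
      (∀ ψ, ψ ≠ 1 → sharpFun p (P : Subgroup G) m (blFun (P : Subgroup G) m ψ)
          = ∑ χ : Cfsg.IrrCharacter G, ((w χ - δ * eVec (Θ ψ) χ : ℤ) : ℂ) • (χ : G → ℂ)) ∧
      (∀ ψ, ψ ≠ 1 → ∑ χ : Cfsg.IrrCharacter G,
          (w χ - δ * eVec (Θ ψ) χ) * (w χ - δ * eVec (Θ ψ) χ) = (m : ℤ) + 1) ∧
      (∀ χ ∈ Cfsg.principalBlock M G, ∀ ψ, ψ ≠ 1 →
        Cfsg.classInner (fun w : ↥(P : Subgroup G) => (χ : G → ℂ) w)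
            (fun w => (((1 : ↥(P : Subgroup G) →* ℂˣ) w : ℂˣ) : ℂ))
          - Cfsg.classInner (fun w : ↥(P : Subgroup G) => (χ : G → ℂ) w)
            (fun w => ((ψ w : ℂˣ) : ℂ))
          = ((w χ - δ * eVec (Θ ψ) χ : ℤ) : ℂ)) ∧
      (∃ ψ₁ ψ₂ : ↥(P : Subgroup G) →* ℂˣ, ψ₁ ≠ 1 ∧ ψ₂ ≠ 1 ∧ ¬ blRel (P : Subgroup G) ψ₁ ψ₂) := by
  classical
  have hp : p.Prime := Fact.out
  have hm0 : m ≠ 0 := by omega
  -- multiplicities
  have hnat : ∀ (χ : Cfsg.IrrCharacter G) (μ : ↥(P : Subgroup G) →* ℂˣ), ∃ n : ℕ,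
      Cfsg.classInner (fun w : ↥(P : Subgroup G) => (χ : G → ℂ) w)
        (fun w => ((μ w : ℂˣ) : ℂ)) = n := by
    intro χ μ
    exact IsCharacter.classInner_irr_nat
      (IsCharacter.restrict (P : Subgroup G) (IsIrrCharacter.isCharacter χ.2))
      (isIrrCharacter_of_hom μ)
  choose cnat hcnat using hnat
  obtain ⟨v, hvdef⟩ : ∃ v : {ψ : ↥(P : Subgroup G) →* ℂˣ // ψ ≠ 1} → Cfsg.IrrCharacter G → ℤ,
      v = fun i χ => if χ ∈ Cfsg.principalBlock M G then (cnat χ 1 : ℤ) - (cnat χ i.1 : ℤ)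
        else 0 := ⟨_, rfl⟩
  have hFχ : ∀ (i : {ψ : ↥(P : Subgroup G) →* ℂˣ // ψ ≠ 1}) (χ : Cfsg.IrrCharacter G),
      Cfsg.classInner (sharpFun p (P : Subgroup G) m (blFun (P : Subgroup G) m i.1))
        (χ : G → ℂ) = (v i χ : ℂ) := by
    intro i χ
    rw [hvdef]
    simp only
    by_cases hχ : χ ∈ Cfsg.principalBlock M G
    · rw [if_pos hχ, classInner_sharp_blFun_principal hM P hab hfrob m hm0 hCN i.1 i.2 χ hχ,
        hcnat, hcnat]
      simp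
    · rw [if_neg hχ, classInner_sharpFun_of_not_principal hM P hab hfrob m _ χ hχ]
      simp
  have hFexp : ∀ i : {ψ : ↥(P : Subgroup G) →* ℂˣ // ψ ≠ 1},
      sharpFun p (P : Subgroup G) m (blFun (P : Subgroup G) m i.1)
        = ∑ χ : Cfsg.IrrCharacter G, (v i χ : ℂ) • (χ : G → ℂ) := by
    intro i
    have h1 := classFunction_eq_sum _
      (isClassFunction_sharpFun (p := p) (P : Subgroup G) m (blFun (P : Subgroup G) m i.1))
    rw [Finset.sum_congr rfl (fun χ _ => by rw [hFχ i χ])] at h1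
    exact h1
  have hgram : ∀ i j : {ψ : ↥(P : Subgroup G) →* ℂˣ // ψ ≠ 1},
      ∑ χ : Cfsg.IrrCharacter G, v i χ * v j χ
        = (m : ℤ) + if blRel (P : Subgroup G) i.1 j.1 then 1 else 0 := by
    intro i j
    have h1 := classInner_sharp_blFun_sharp_blFun P hab hfrob m hm0 hCN i.1 j.1 i.2 j.2
    rw [hFexp i, hFexp j, classInner_sum_int] at h1
    have h2 : ((m : ℂ) + if blRel (P : Subgroup G) i.1 j.1 then 1 else 0)
        = (((m : ℤ) + if blRel (P : Subgroup G) i.1 j.1 then 1 else 0 : ℤ) : ℂ) := by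
      split_ifs <;> simp
    rw [h2] at h1
    exact_mod_cast h1
  have hdeg0 : ∀ i : {ψ : ↥(P : Subgroup G) →* ℂˣ // ψ ≠ 1},
      ∑ χ : Cfsg.IrrCharacter G, v i χ * (Cfsg.charDegree (χ : G → ℂ) : ℤ) = 0 := by
    intro i
    have h1 := sharpFun_of_pRegular (p := p) (P : Subgroup G) m (blFun (P : Subgroup G) m i.1) 1
      (by rw [orderOf_one]; exact hp.not_dvd_one)
    rw [hFexp i] at h1
    simp only [Finset.sum_apply, Pi.smul_apply, smul_eq_mul] at h1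
    have h2 : ∀ χ : Cfsg.IrrCharacter G, (v i χ : ℂ) * (χ : G → ℂ) 1
        = ((v i χ * (Cfsg.charDegree (χ : G → ℂ) : ℤ) : ℤ) : ℂ) := by
      intro χ
      rw [IsCharacter.apply_one_eq_charDegree (IsIrrCharacter.isCharacter χ.2)]
      push_cast
      ring
    rw [Finset.sum_congr rfl (fun χ _ => h2 χ), ← Int.cast_sum] at h1
    exact_mod_cast h1
  -- two classes
  have hcardH : Fintype.card (↥(P : Subgroup G) →* ℂˣ) = Nat.card P := by
    rw [← Nat.card_eq_fintype_card, card_homs_of_comm hab]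
  have hR : ∃ i j : {ψ : ↥(P : Subgroup G) →* ℂˣ // ψ ≠ 1},
      ¬ blRel (P : Subgroup G) i.1 j.1 := by
    have hnt : ∃ ψ₀ : ↥(P : Subgroup G) →* ℂˣ, ψ₀ ≠ 1 := by
      by_contra hne
      push Not at hne
      have : Fintype.card (↥(P : Subgroup G) →* ℂˣ) ≤ 1 :=
        Fintype.card_le_one_iff.mpr (fun a b => by rw [hne a, hne b])
      omega
    obtain ⟨ψ₀, hψ₀⟩ := hnt
    by_contra hall
    push Not at hall
    have hsub : (Finset.univ : Finset (↥(P : Subgroup G) →* ℂˣ))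
        ⊆ insert 1 (Finset.univ.filter (fun ψ' => blRel (P : Subgroup G) ψ₀ ψ')) := by
      intro ψ _
      by_cases hψ : ψ = 1
      · rw [hψ]; exact Finset.mem_insert_self _ _
      · apply Finset.mem_insert_of_mem
        rw [Finset.mem_filter]
        exact ⟨Finset.mem_univ _, hall ⟨ψ₀, hψ₀⟩ ⟨ψ, hψ⟩⟩
    have h1 := Finset.card_le_card hsub
    have h2 := Finset.card_insert_le (1 : ↥(P : Subgroup G) →* ℂˣ)
      (Finset.univ.filter (fun ψ' => blRel (P : Subgroup G) ψ₀ ψ'))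
    have h3 : (Finset.univ.filter (fun ψ' => blRel (P : Subgroup G) ψ₀ ψ')).card = m := by
      rw [← hCN, ← card_blRel P hab hfrob ψ₀ hψ₀, Nat.card_eq_fintype_card, Fintype.card_subtype]
    rw [Finset.card_univ, hcardH] at h1
    omega
  obtain ⟨δ, w, Θ, d, hδ, hΘ, hvw, hwd⟩ := coherence_lattice
    (fun χ : Cfsg.IrrCharacter G => (Cfsg.charDegree (χ : G → ℂ) : ℤ))
    (fun χ => by exact_mod_cast IsIrrCharacter.charDegree_pos χ.2) (m : ℤ)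
    (fun i j : {ψ : ↥(P : Subgroup G) →* ℂˣ // ψ ≠ 1} => blRel (P : Subgroup G) i.1 j.1)
    v hgram hdeg0 hR (fun i => blRel_refl _ _)
  have hδ0 : δ ≠ 0 := by rcases hδ with h | h <;> rw [h] <;> norm_num
  obtain ⟨i₁, j₁, hij₁⟩ := hR
  have hΘne : Θ i₁ ≠ Θ j₁ := fun h => hij₁ ((hΘ i₁ j₁).mp h)
  -- outside the principal block
  have hout : ∀ χ : Cfsg.IrrCharacter G, χ ∉ Cfsg.principalBlock M G →
      w χ = 0 ∧ ∀ i, Θ i ≠ χ := by
    intro χ hχ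
    have hv0 : ∀ i, v i χ = 0 := by
      intro i
      rw [hvdef]
      simp only
      rw [if_neg hχ]
    have hw0 : w χ = 0 := by
      by_cases h1 : Θ i₁ = χ
      · have h2 : Θ j₁ ≠ χ := fun h => hΘne (h1.trans h.symm)
        have := hvw j₁ χ
        rw [hv0 j₁, eVec_apply, if_neg (Ne.symm h2), mul_zero, sub_zero] at this
        exact this.symm
      · have := hvw i₁ χ
        rw [hv0 i₁, eVec_apply, if_neg (Ne.symm h1), mul_zero, sub_zero] at this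
        exact this.symm
    refine ⟨hw0, ?_⟩
    intro i hi
    have := hvw i χ
    rw [hv0 i, hw0, eVec_apply, if_pos hi.symm, mul_one, zero_sub] at this
    exact hδ0 (by linarith)
  obtain ⟨Θ', hΘ'⟩ : ∃ Θ' : (↥(P : Subgroup G) →* ℂˣ) → Cfsg.IrrCharacter G,
      Θ' = fun ψ => if h : ψ ≠ 1 then Θ ⟨ψ, h⟩ else Θ i₁ := ⟨_, rfl⟩
  have hΘ'eq : ∀ (ψ : ↥(P : Subgroup G) →* ℂˣ) (h : ψ ≠ 1), Θ' ψ = Θ ⟨ψ, h⟩ := by
    intro ψ h
    rw [hΘ']
    simp only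
    rw [dif_pos h]
  refine ⟨δ, d, w, Θ', hδ, ?_, ?_, ?_,
    fun χ hχ => (hout χ hχ).1, ?_, ?_, ?_, ⟨i₁.1, j₁.1, i₁.2, j₁.2, hij₁⟩⟩
  · intro ψ hψ
    rw [hΘ'eq ψ hψ]
    by_contra hχ
    exact (hout _ hχ).2 ⟨ψ, hψ⟩ rfl
  · intro ψ ψ' hψ hψ'
    rw [hΘ'eq ψ hψ, hΘ'eq ψ' hψ']
    exact hΘ ⟨ψ, hψ⟩ ⟨ψ', hψ'⟩
  · intro ψ hψ
    rw [hΘ'eq ψ hψ]
    exact hwd ⟨ψ, hψ⟩
  · intro ψ hψ
    rw [hΘ'eq ψ hψ, hFexp ⟨ψ, hψ⟩]
    apply Finset.sum_congr rfl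
    intro χ _
    rw [hvw ⟨ψ, hψ⟩ χ]
  · intro ψ hψ
    rw [hΘ'eq ψ hψ]
    have := hgram ⟨ψ, hψ⟩ ⟨ψ, hψ⟩
    rw [if_pos (blRel_refl _ _)] at this
    rw [← this]
    apply Finset.sum_congr rfl
    intro χ _
    rw [hvw ⟨ψ, hψ⟩ χ]
  · intro χ hχ ψ hψ
    rw [hΘ'eq ψ hψ, hcnat, hcnat, ← hvw ⟨ψ, hψ⟩ χ, hvdef]
    simp only
    rw [if_pos hχ]
    push_cast
    ring

end core

end Cfsg.Agent.Lib.Helper6
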