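import Mathlib
import Cfsg.Prelude.Def_Blocks
import Cfsg.Agent.Lib.Helper6.BLCore
import Cfsg.Agent.Lib.Helper6.BrPrin

/-! # Consequences of the coherence argument in the Brauer–Leonard situation -/

set_option autoImplicit false
set_option linter.unusedSectionVars false
open Cfsg

namespace Cfsg.Agent.Lib.Helper6

open scoped ComplexConjugate

section data

variable {G : Type*} [Group G] [Fintype G] [DecidableEq G]
variable {p : ℕ}

/-- the data produced by the coherence argument -/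
structure BLData (M : Ideal Cfsg.AlgInt) (P : Sylow p G) [Fintype ↥(P : Subgroup G)]
    [Fintype (↥(P : Subgroup G) →* ℂˣ)]
    [Fintype (Cfsg.IrrCharacter G)] [DecidableEq (Cfsg.IrrCharacter G)] (m : ℕ) where
  δ : ℤ
  d : ℤ
  w : Cfsg.IrrCharacter G → ℤ
  Θ : (↥(P : Subgroup G) →* ℂˣ) → Cfsg.IrrCharacter G
  hδ : δ = 1 ∨ δ = -1
  hΘmem : ∀ ψ, ψ ≠ 1 → Θ ψ ∈ Cfsg.principalBlock M G
  hΘ : ∀ ψ ψ', ψ ≠ 1 → ψ' ≠ 1 → (Θ ψ = Θ ψ' ↔ blRel (P : Subgroup G) ψ ψ')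
  hwd : ∀ ψ, ψ ≠ 1 → w (Θ ψ) = d
  hw0 : ∀ χ, χ ∉ Cfsg.principalBlock M G → w χ = 0
  hF : ∀ ψ, ψ ≠ 1 → sharpFun p (P : Subgroup G) m (blFun (P : Subgroup G) m ψ)
          = ∑ χ : Cfsg.IrrCharacter G, ((w χ - δ * eVec (Θ ψ) χ : ℤ) : ℂ) • (χ : G → ℂ)
  hnorm : ∀ ψ, ψ ≠ 1 → ∑ χ : Cfsg.IrrCharacter G,
          (w χ - δ * eVec (Θ ψ) χ) * (w χ - δ * eVec (Θ ψ) χ) = (m : ℤ) + 1
  hmult : ∀ χ ∈ Cfsg.principalBlock M G, ∀ ψ, ψ ≠ 1 →
        Cfsg.classInner (fun w : ↥(P : Subgroup G) => (χ : G → ℂ) w)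
            (fun w => (((1 : ↥(P : Subgroup G) →* ℂˣ) w : ℂˣ) : ℂ))
          - Cfsg.classInner (fun w : ↥(P : Subgroup G) => (χ : G → ℂ) w)
            (fun w => ((ψ w : ℂˣ) : ℂ))
          = ((w χ - δ * eVec (Θ ψ) χ : ℤ) : ℂ)
  hclasses : ∃ ψ₁ ψ₂ : ↥(P : Subgroup G) →* ℂˣ, ψ₁ ≠ 1 ∧ ψ₂ ≠ 1 ∧ ¬ blRel (P : Subgroup G) ψ₁ ψ₂

variable {M : Ideal Cfsg.AlgInt}

theorem exists_blData (hM : Cfsg.IsPModular p M) [Fact p.Prime]
    (P : Sylow p G) [Fintype ↥(P : Subgroup G)] [Fintype (↥(P : Subgroup G) →* ℂˣ)]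
    [Fintype (Cfsg.IrrCharacter G)] [DecidableEq (Cfsg.IrrCharacter G)]
    (hab : IsMulCommutative P)
    (hfrob : ∀ y : G, y ∈ (P : Subgroup G) → y ≠ 1 →
      Subgroup.centralizer ({y} : Set G) ⊓ Subgroup.normalizer ((P : Subgroup G) : Set G)
        = Subgroup.centralizer ((P : Subgroup G) : Set G))
    (m : ℕ) (hm1 : 1 < m) (hm2 : m + 1 < Nat.card P)
    (hCN : (Subgroup.centralizer ((P : Subgroup G) : Set G)).relIndex
      (Subgroup.normalizer ((P : Subgroup G) : Set G)) = m) :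
    Nonempty (BLData M P m) := by
  obtain ⟨δ, d, w, Θ, h1, h2, h3, h4, h5, h6, h7, h8, h9⟩ :=
    bl_core hM P hab hfrob m hm1 hm2 hCN
  exact ⟨⟨δ, d, w, Θ, h1, h2, h3, h4, h5, h6, h7, h8, h9⟩⟩

variable {P : Sylow p G} [Fintype ↥(P : Subgroup G)] [Fintype (↥(P : Subgroup G) →* ℂˣ)]
    [Fintype (Cfsg.IrrCharacter G)] [DecidableEq (Cfsg.IrrCharacter G)] {m : ℕ}

theorem BLData.δ_ne_zero (D : BLData M P m) : D.δ ≠ 0 := by
  rcases D.hδ with h | h <;> rw [h] <;> norm_num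

theorem BLData.δ_mul_δ (D : BLData M P m) : D.δ * D.δ = 1 := by
  rcases D.hδ with h | h <;> rw [h] <;> norm_num

theorem BLData.exists_not_rel (D : BLData M P m) (ψ : ↥(P : Subgroup G) →* ℂˣ) :
    ∃ ψ' : ↥(P : Subgroup G) →* ℂˣ, ψ' ≠ 1 ∧ ¬ blRel (P : Subgroup G) ψ ψ' := by
  obtain ⟨ψ₁, ψ₂, h1, h2, h12⟩ := D.hclasses
  by_cases h : blRel (P : Subgroup G) ψ ψ₁
  · refine ⟨ψ₂, h2, ?_⟩
    intro h'
    exact h12 (blRel_trans _ (blRel_symm _ h) h')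
  · exact ⟨ψ₁, h1, h⟩

/-- the principal character is not exceptional and has coefficient one -/
theorem BLData.one [Fact p.Prime] (D : BLData M P m) (hM : Cfsg.IsPModular p M) :
    D.w (oneIrr G) = 1 ∧ ∀ ψ, ψ ≠ 1 → D.Θ ψ ≠ oneIrr G := by
  classical
  have hP0 : (Nat.card P : ℂ) ≠ 0 := by exact_mod_cast Nat.card_pos.ne'
  have h1 : ∀ ψ : ↥(P : Subgroup G) →* ℂˣ, ψ ≠ 1 →
      D.w (oneIrr G) - D.δ * eVec (D.Θ ψ) (oneIrr G) = 1 := by
    intro ψ hψ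
    have h2 := D.hmult (oneIrr G) (oneIrr_mem_principalBlock hM) ψ hψ
    have h3 : Cfsg.classInner (fun w : ↥(P : Subgroup G) => ((oneIrr G : Cfsg.IrrCharacter G) : G → ℂ) w)
        (fun w => (((1 : ↥(P : Subgroup G) →* ℂˣ) w : ℂˣ) : ℂ)) = 1 := by
      unfold Cfsg.classInner
      have : ∀ w : ↥(P : Subgroup G), ((oneIrr G : Cfsg.IrrCharacter G) : G → ℂ) (w : G)
          * conj (((1 : ↥(P : Subgroup G) →* ℂˣ) w : ℂˣ) : ℂ) = 1 := by
        intro w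
        change (1 : ℂ) * conj (1 : ℂ) = 1
        simp
      rw [Finset.sum_congr rfl (fun w _ => this w)]
      simp only [Finset.sum_const, Finset.card_univ, nsmul_eq_mul, mul_one]
      rw [← Nat.card_eq_fintype_card]
      field_simp
    have h4 : Cfsg.classInner (fun w : ↥(P : Subgroup G) => ((oneIrr G : Cfsg.IrrCharacter G) : G → ℂ) w)
        (fun w => ((ψ w : ℂˣ) : ℂ)) = 0 := by
      unfold Cfsg.classInner
      have : ∀ w : ↥(P : Subgroup G), ((oneIrr G : Cfsg.IrrCharacter G) : G → ℂ) (w : G)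
          * conj ((ψ w : ℂˣ) : ℂ) = conj ((ψ w : ℂˣ) : ℂ) := by
        intro w
        change (1 : ℂ) * conj ((ψ w : ℂˣ) : ℂ) = _
        rw [one_mul]
      rw [Finset.sum_congr rfl (fun w _ => this w), ← map_sum, sum_hom_eq_zero ψ hψ, map_zero,
        mul_zero]
    rw [h3, h4, sub_zero] at h2
    exact_mod_cast h2.symm
  have hΘ1 : ∀ ψ, ψ ≠ 1 → D.Θ ψ ≠ oneIrr G := by
    intro ψ hψ hΘ
    obtain ⟨ψ', hψ', hrel⟩ := D.exists_not_rel ψ
    have h2 := h1 ψ hψ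
    have h3 := h1 ψ' hψ'
    rw [eVec_apply, if_pos hΘ.symm] at h2
    have hne : oneIrr G ≠ D.Θ ψ' := by
      intro h
      apply hrel
      exact (D.hΘ ψ ψ' hψ hψ').mp (hΘ.trans h)
    rw [eVec_apply, if_neg hne] at h3
    have := D.δ_ne_zero
    apply this
    linarith
  refine ⟨?_, hΘ1⟩
  obtain ⟨ψ₁, ψ₂, hψ₁, _, _⟩ := D.hclasses
  have h2 := h1 ψ₁ hψ₁
  rw [eVec_apply, if_neg (Ne.symm (hΘ1 ψ₁ hψ₁))] at h2
  linarith

/-- the values of the characters of the principal block at nonidentity elements of `P` -/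
theorem BLData.val (D : BLData M P m) (hab : IsMulCommutative P)
    (χ : Cfsg.IrrCharacter G) (hχ : χ ∈ Cfsg.principalBlock M G)
    (y : ↥(P : Subgroup G)) (hy : y ≠ 1) :
    (χ : G → ℂ) (y : G) = (D.w χ : ℂ) + (D.δ : ℂ) *
      ∑ μ : ↥(P : Subgroup G) →* ℂˣ, if μ ≠ 1 ∧ D.Θ μ = χ then ((μ y : ℂˣ) : ℂ) else 0 := by
  classical
  have h1 := hom_expansion hab (fun w : ↥(P : Subgroup G) => (χ : G → ℂ) (w : G)) y
  have h2 : ∀ μ : ↥(P : Subgroup G) →* ℂˣ,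
      ((Nat.card ↥(P : Subgroup G) : ℂ)⁻¹ * ∑ b : ↥(P : Subgroup G),
        (χ : G → ℂ) (b : G) * conj ((μ b : ℂˣ) : ℂ))
      = Cfsg.classInner (fun w : ↥(P : Subgroup G) => (χ : G → ℂ) w)
            (fun w => (((1 : ↥(P : Subgroup G) →* ℂˣ) w : ℂˣ) : ℂ))
        - (if μ = 1 then 0 else ((D.w χ - D.δ * eVec (D.Θ μ) χ : ℤ) : ℂ)) := by
    intro μ
    split_ifs with hμ
    · rw [hμ, sub_zero]
      rfl
    · rw [← D.hmult χ hχ μ hμ]
      unfold Cfsg.classInner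
      ring
  rw [Finset.sum_congr rfl (fun μ _ => by rw [h2 μ])] at h1
  simp only [sub_mul, Finset.sum_sub_distrib] at h1
  rw [← Finset.mul_sum, sum_homs_apply hab, if_neg hy, mul_zero, zero_sub] at h1
  rw [h1]
  have h3 : ∀ μ : ↥(P : Subgroup G) →* ℂˣ,
      (if μ = 1 then (0 : ℂ) else ((D.w χ - D.δ * eVec (D.Θ μ) χ : ℤ) : ℂ)) * ((μ y : ℂˣ) : ℂ)
      = (D.w χ : ℂ) * (((μ y : ℂˣ) : ℂ) - if μ = 1 then 1 else 0)
        - (D.δ : ℂ) * (if μ ≠ 1 ∧ D.Θ μ = χ then ((μ y : ℂˣ) : ℂ) else 0) := by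
    intro μ
    by_cases hμ : μ = 1
    · rw [if_pos hμ, if_pos hμ, if_neg (fun h => h.1 hμ), hμ]
      simp
    · rw [if_neg hμ, if_neg hμ, eVec_apply]
      by_cases hΘ : D.Θ μ = χ
      · rw [if_pos hΘ.symm, if_pos ⟨hμ, hΘ⟩]
        push_cast
        ring
      · rw [if_neg (Ne.symm hΘ), if_neg (fun h => hΘ h.2)]
        push_cast
        ring
  rw [Finset.sum_congr rfl (fun μ _ => h3 μ), Finset.sum_sub_distrib, ← Finset.mul_sum,
    ← Finset.mul_sum, Finset.sum_sub_distrib, sum_homs_apply hab, if_neg hy,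
    Finset.sum_ite_eq' Finset.univ (1 : ↥(P : Subgroup G) →* ℂˣ) (fun _ => (1 : ℂ))]
  simp
  ring

/-- the sum `∑ w_χ χ(g)` at `p`-regular elements -/
theorem BLData.sum_pRegular [Fact p.Prime] (D : BLData M P m)
    (ψ : ↥(P : Subgroup G) →* ℂˣ) (hψ : ψ ≠ 1) (g : G) (hg : ¬ p ∣ orderOf g) :
    ∑ χ : Cfsg.IrrCharacter G, (D.w χ : ℂ) * (χ : G → ℂ) g
      = (D.δ : ℂ) * ((D.Θ ψ : Cfsg.IrrCharacter G) : G → ℂ) g := by
  classical
  have h1 := sharpFun_of_pRegular (p := p) (P : Subgroup G) m (blFun (P : Subgroup G) m ψ) g hg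
  rw [D.hF ψ hψ] at h1
  simp only [Finset.sum_apply, Pi.smul_apply, smul_eq_mul] at h1
  have h2 : ∀ χ : Cfsg.IrrCharacter G,
      ((D.w χ - D.δ * eVec (D.Θ ψ) χ : ℤ) : ℂ) * (χ : G → ℂ) g
      = (D.w χ : ℂ) * (χ : G → ℂ) g
        - (D.δ : ℂ) * (if χ = D.Θ ψ then (χ : G → ℂ) g else 0) := by
    intro χ
    rw [eVec_apply]
    split_ifs <;> push_cast <;> ring
  rw [Finset.sum_congr rfl (fun χ _ => h2 χ), Finset.sum_sub_distrib, ← Finset.mul_sum,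
    Finset.sum_ite_eq' Finset.univ (D.Θ ψ) (fun χ => (χ : G → ℂ) g), if_pos (Finset.mem_univ _)]
    at h1
  linear_combination h1

end data

end Cfsg.Agent.Lib.Helper6
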