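import Mathlib
import Cfsg.Prelude.Def_Blocks
import Cfsg.Agent.S0146
import Cfsg.Agent.Lib.Helper6.BlkContrib
import Cfsg.Agent.Lib.Helper6.BlkPrincipal
import Cfsg.Agent.Lib.Helper6.BlkCover2
import Cfsg.Agent.Lib.Helper6.BlkStab

/-! # The principal block and subgroups: characters over / under principal block characters -/

namespace Cfsg.Agent.Lib.Helper6

open scoped ComplexConjugate

section principal

variable {G : Type*} [Group G] [Fintype G]
variable {p : ℕ} {M : Ideal Cfsg.AlgInt}

/-- membership in the principal block is detected by the sum over the `p`-regular elements -/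
theorem mem_principalBlock_iff_classInner_tildeFun (hM : Cfsg.IsPModular p M) [Fact p.Prime]
    (χ : Cfsg.IrrCharacter G) :
    χ ∈ Cfsg.principalBlock M G ↔
      Cfsg.classInner (tildeFun p (fun _ : G => (1 : ℂ))) (χ : G → ℂ) ≠ 0 := by
  classical
  have hspec := cInt_spec hM (oneIrr G) χ
  change Cfsg.classInner (tildeFun p (fun _ : G => (1 : ℂ))) (χ : G → ℂ) = _ at hspec
  constructor
  · intro hχ h0
    have hχ' : χ ∈ Cfsg.blockOf M ((oneIrr G : Cfsg.IrrCharacter G) : G → ℂ) := hχ
    have hh : Cfsg.blockHeight p (Cfsg.blockOf M ((oneIrr G : Cfsg.IrrCharacter G) : G → ℂ))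
        ((oneIrr G : Cfsg.IrrCharacter G) : G → ℂ) = 0 := by
      unfold Cfsg.blockHeight
      have : Cfsg.charDegree ((oneIrr G : Cfsg.IrrCharacter G) : G → ℂ) = 1 := by
        unfold Cfsg.charDegree
        change ⌊((1 : ℂ)).re⌋₊ = 1
        simp
      rw [this]
      simp
    have h1 := not_pow_succ_dvd_cInt hM (oneIrr G) (oneIrr G) χ (sameBlock_refl hM _) hχ' hh
    rw [h0] at hspec
    have h2 : cInt p ((oneIrr G : Cfsg.IrrCharacter G) : G → ℂ) (χ : G → ℂ) = 0 := by
      exact_mod_cast hspec.symm
    rw [h2] at h1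
    exact h1 (dvd_zero _)
  · intro h0
    by_contra hχ
    have h1 := cInt_eq_zero_of_not_mem hM (oneIrr G) χ hχ
    rw [h1] at hspec
    apply h0
    rw [hspec]
    simp

/-- the scaled `p`-regular indicator restricted to a subgroup -/
theorem tildeFun_one_restrict (H : Subgroup G) [Fintype H] (h : H) :
    tildeFun p (fun _ : G => (1 : ℂ)) (h : G)
      = ((p ^ ((Nat.card G).factorization p - (Nat.card H).factorization p) : ℕ) : ℂ)
        * tildeFun p (fun _ : H => (1 : ℂ)) h := by
  unfold tildeFun
  rw [Subgroup.orderOf_coe]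
  split_ifs
  · simp
  · have hle : (Nat.card H).factorization p ≤ (Nat.card G).factorization p := by
      have hdvd : Nat.card H ∣ Nat.card G := Subgroup.card_subgroup_dvd_card H
      exact (Nat.factorization_le_iff_dvd Nat.card_pos.ne' Nat.card_pos.ne').mpr hdvd p
    have e : (Nat.card G).factorization p
        = ((Nat.card G).factorization p - (Nat.card H).factorization p)
          + (Nat.card H).factorization p := by omega
    conv_lhs => rw [e, pow_add]
    push_cast
    ring

/-- every principal block character of a subgroup lies under a principal block character of the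
group -/
theorem exists_mem_principalBlock_over (hM : Cfsg.IsPModular p M) [Fact p.Prime]
    (H : Subgroup G) [Fintype H] (θ : Cfsg.IrrCharacter H) (hθ : θ ∈ Cfsg.principalBlock M H) :
    ∃ χ : Cfsg.IrrCharacter G, χ ∈ Cfsg.principalBlock M G ∧
      Cfsg.classInner (fun h : H => (χ : G → ℂ) h) (θ : H → ℂ) ≠ 0 := by
  classical
  have hp : p.Prime := hM.1
  have : Fintype (Cfsg.IrrCharacter G) := Fintype.ofFinite _
  obtain ⟨c, hc, hci, hc0⟩ := tildeFun_int_coeff hM (oneIrr G)
  change tildeFun p (fun _ : G => (1 : ℂ)) = _ at hc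
  have hTcf : Cfsg.IsClassFunction G (tildeFun p (fun _ : G => (1 : ℂ))) := by
    rw [hc]
    apply isClassFunction_sum
    intro β _
    exact isClassFunction_smul _ (IsIrrCharacter.isClassFunction β.2)
  have h1 := Cfsg.Agent.S0146.result H (θ : H → ℂ) (tildeFun p (fun _ : G => (1 : ℂ))) hTcf
  have h2 : (fun h : H => tildeFun p (fun _ : G => (1 : ℂ)) (h : G))
      = ((p ^ ((Nat.card G).factorization p - (Nat.card H).factorization p) : ℕ) : ℂ)
        • tildeFun p (fun _ : H => (1 : ℂ)) := by
    funext h
    rw [tildeFun_one_restrict H h]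
    rfl
  have h3 := (mem_principalBlock_iff_classInner_tildeFun hM θ).mp hθ
  have h4 : Cfsg.classInner (Cfsg.indFun H (θ : H → ℂ)) (tildeFun p (fun _ : G => (1 : ℂ))) ≠ 0 := by
    rw [h1, h2, classInner_smul_right, ← classInner_conj_symm]
    apply mul_ne_zero
    · rw [Complex.conj_natCast]
      exact_mod_cast (pow_pos hp.pos _).ne'
    · intro h
      apply h3
      have := congrArg conj h
      rwa [Complex.conj_conj, map_zero] at this
  by_contra hcon
  push Not at hcon
  apply h4
  rw [hc, classInner_sum_right]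
  apply Finset.sum_eq_zero
  intro β _
  rw [classInner_smul_right]
  by_cases hβ : β ∈ Cfsg.principalBlock M G
  · have h5 := hcon β hβ
    have h6 := Cfsg.Agent.S0146.result H (θ : H → ℂ) (β : G → ℂ)
      (IsIrrCharacter.isClassFunction β.2)
    rw [h6, ← classInner_conj_symm, h5, map_zero, mul_zero]
  · have : c β = 0 := hc0 β hβ
    rw [this]
    simp

end principal

section normal

variable {G : Type*} [Group G] [Fintype G] [DecidableEq G]
variable {p : ℕ} {M : Ideal Cfsg.AlgInt}
variable (N : Subgroup G) [Fintype N]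

/-- the constituents of the restriction of a principal block character to a normal subgroup lie
in the principal block -/
theorem mem_principalBlock_of_constituent (hN : N.Normal) (hM : Cfsg.IsPModular p M)
    (χ : Cfsg.IrrCharacter G) (hχ : χ ∈ Cfsg.principalBlock M G) (θ : Cfsg.IrrCharacter N)
    (hθ : Cfsg.classInner (fun n : N => (χ : G → ℂ) n) (θ : N → ℂ) ≠ 0) :
    θ ∈ Cfsg.principalBlock M N := by
  have h1 : Cfsg.classInner (fun n : N => ((oneIrr G : Cfsg.IrrCharacter G) : G → ℂ) n)
      ((oneIrr N : Cfsg.IrrCharacter N) : N → ℂ) ≠ 0 := by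
    have := classInner_isIrrCharacter (oneIrr N).2 (oneIrr N).2
    rw [if_pos rfl] at this
    change Cfsg.classInner (fun _ : N => (1 : ℂ)) (fun _ : N => (1 : ℂ)) ≠ 0
    change Cfsg.classInner (fun _ : N => (1 : ℂ)) (fun _ : N => (1 : ℂ)) = 1 at this
    rw [this]
    exact one_ne_zero
  obtain ⟨g, hg⟩ := exists_conj_mem_block_of_sameBlock N hN hM (oneIrr N) (oneIrr G) χ hχ
    (oneIrr N) (sameBlock_refl hM _) h1 θ hθ
  -- conjugate back
  have h2 : Cfsg.SameBlock M ((oneIrr N : Cfsg.IrrCharacter N) : N → ℂ)
      (conjFun N hN (θ : N → ℂ) g) := hg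
  have h3 := sameBlock_conjFun N hN h2 g⁻¹
  rw [conjFun_conjFun, mul_inv_cancel, conjFun_one] at h3
  have h4 : conjFun N hN ((oneIrr N : Cfsg.IrrCharacter N) : N → ℂ) g⁻¹
      = ((oneIrr N : Cfsg.IrrCharacter N) : N → ℂ) := rfl
  rw [h4] at h3
  exact h3

end normal

end Cfsg.Agent.Lib.Helper6
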