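import Mathlib
import Cfsg.Prelude.Def_Blocks
import Cfsg.Agent.Lib.Helper6.BLData
import Cfsg.Agent.Lib.Helper6.BlkPrincipalCover

/-! # Further consequences in the Brauer–Leonard situation -/

set_option autoImplicit false
set_option linter.unusedSectionVars false
open Cfsg

namespace Cfsg.Agent.Lib.Helper6

open scoped ComplexConjugate

section data2

variable {G : Type*} [Group G] [Fintype G] [DecidableEq G]
variable {p : ℕ} {M : Ideal Cfsg.AlgInt}

/-- every `p`-element is conjugate into a given Sylow `p`-subgroup -/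
theorem exists_conj_mem_sylow_of_pElement [Fact p.Prime] (P : Sylow p G) (u : G)
    (hu : ∃ k : ℕ, orderOf u = p ^ k) : ∃ g : G, g * u * g⁻¹ ∈ (P : Subgroup G) := by
  obtain ⟨k, hk⟩ := hu
  have hpg : IsPGroup p (Subgroup.zpowers u) :=
    IsPGroup.of_card (n := k) (by rw [Nat.card_zpowers, hk])
  obtain ⟨Q, hQ⟩ := hpg.exists_le_sylow
  obtain ⟨g, hg⟩ := MulAction.exists_smul_eq G Q P
  refine ⟨g, ?_⟩
  have h1 : u ∈ (Q : Subgroup G) := hQ (Subgroup.mem_zpowers u)
  have h2 := Subgroup.smul_mem_pointwise_smul u (MulAut.conj g) (Q : Subgroup G) h1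
  rw [← hg]
  rw [Sylow.coe_subgroup_smul]
  simpa [MulAut.smul_def, MulAut.conj_apply] using h2

/-- characters of the principal block are constant on the relevant `p`-sections -/
theorem principal_apply_of_isPPart (hM : Cfsg.IsPModular p M) [Fact p.Prime]
    (P : Sylow p G) (hab : IsMulCommutative P)
    (hfrob : ∀ y : G, y ∈ (P : Subgroup G) → y ≠ 1 →
      Subgroup.centralizer ({y} : Set G) ⊓ Subgroup.normalizer ((P : Subgroup G) : Set G)
        = Subgroup.centralizer ((P : Subgroup G) : Set G))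
    (χ : Cfsg.IrrCharacter G) (hχ : χ ∈ Cfsg.principalBlock M G) (z y : G)
    (hzy : Cfsg.IsPPart p z y) (hy : y ∈ (P : Subgroup G)) (hy1 : y ≠ 1) :
    (χ : G → ℂ) z = (χ : G → ℂ) y := by
  classical
  obtain ⟨v, hv, hcomm, hx, hvreg⟩ := hzy
  haveI : Fintype (Subgroup.centralizer ({y} : Set G)) := Fintype.ofFinite _
  obtain ⟨hidx, hreg⟩ := centralizer_pPrimeCore_data P hab hfrob y hy hy1
  have hvmem : v ∈ Subgroup.centralizer ({y} : Set G) := by
    rw [Subgroup.mem_centralizer_iff]
    intro h hh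
    rw [Set.mem_singleton_iff] at hh
    rw [hh]
    exact hcomm.eq
  have hcore : (⟨v, hvmem⟩ : Subgroup.centralizer ({y} : Set G))
      ∈ Cfsg.pPrimeCore p (Subgroup.centralizer ({y} : Set G)) := by
    apply (hreg _).mp
    rw [← Subgroup.orderOf_coe]
    exact hvreg
  have := principal_apply_mul_core hM y hx _ rfl χ hχ ⟨v, hvmem⟩ hcore
  rw [← hv]
  exact this

/-- a nonprincipal character of the principal block does not vanish on all `p`-singular
elements -/
theorem not_vanish_of_mem_principalBlock (hM : Cfsg.IsPModular p M) [Fact p.Prime]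
    (χ : Cfsg.IrrCharacter G) (hχ : χ ∈ Cfsg.principalBlock M G) (hne : χ ≠ oneIrr G)
    (hvan : ∀ z : G, p ∣ orderOf z → (χ : G → ℂ) z = 0) : False := by
  classical
  have h1 := (mem_principalBlock_iff_classInner_tildeFun hM χ).mp hχ
  apply h1
  have h2 : ∀ g : G, tildeFun p (fun _ : G => (1 : ℂ)) g * conj ((χ : G → ℂ) g)
      = ((p ^ (Nat.card G).factorization p : ℕ) : ℂ)
        * conj ((χ : G → ℂ) g * conj (((oneIrr G : Cfsg.IrrCharacter G) : G → ℂ) g)) := by
    intro g
    rw [tildeFun_eq]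
    simp only
    change _ = _ * conj ((χ : G → ℂ) g * conj (1 : ℂ))
    split_ifs with hg
    · rw [hvan g hg]; simp
    · simp
  unfold Cfsg.classInner
  rw [Finset.sum_congr rfl (fun g _ => h2 g), ← Finset.mul_sum, ← map_sum]
  have h3 := classInner_irrCharacter χ (oneIrr G)
  rw [if_neg hne] at h3
  unfold Cfsg.classInner at h3
  have hG0 : (Nat.card G : ℂ) ≠ 0 := by exact_mod_cast Nat.card_pos.ne'
  rcases mul_eq_zero.mp h3 with h4 | h4
  · exact absurd (inv_eq_zero.mp h4) hG0
  · rw [h4]; simp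

variable {P : Sylow p G} [Fintype ↥(P : Subgroup G)] [Fintype (↥(P : Subgroup G) →* ℂˣ)]
    [Fintype (Cfsg.IrrCharacter G)] [DecidableEq (Cfsg.IrrCharacter G)] {m : ℕ}

/-- the coefficient of a nonexceptional character of the principal block is nonzero -/
theorem BLData.w_ne_zero [Fact p.Prime] (D : BLData M P m) (hM : Cfsg.IsPModular p M)
    (hab : IsMulCommutative P)
    (hfrob : ∀ y : G, y ∈ (P : Subgroup G) → y ≠ 1 →
      Subgroup.centralizer ({y} : Set G) ⊓ Subgroup.normalizer ((P : Subgroup G) : Set G)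
        = Subgroup.centralizer ((P : Subgroup G) : Set G))
    (χ : Cfsg.IrrCharacter G) (hχ : χ ∈ Cfsg.principalBlock M G)
    (hX : ∀ ψ, ψ ≠ 1 → D.Θ ψ ≠ χ) : D.w χ ≠ 0 := by
  classical
  intro hw
  by_cases h1 : χ = oneIrr G
  · rw [h1, (D.one hM).1] at hw
    exact one_ne_zero hw
  · apply not_vanish_of_mem_principalBlock hM χ hχ h1
    intro z hz
    have hu := orderOf_ppEl (p := p) z
    obtain ⟨g, hg⟩ := exists_conj_mem_sylow_of_pElement P (ppEl p z) hu
    have hpp : Cfsg.IsPPart p (g * z * g⁻¹) (g * ppEl p z * g⁻¹) :=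
      IsPPart.conj (isPPart_ppEl z) g
    have hne1 : g * ppEl p z * g⁻¹ ≠ 1 := by
      intro h
      have h2 : ppEl p z = 1 := by
        have : ppEl p z = g⁻¹ * (g * ppEl p z * g⁻¹) * g := by group
        rw [this, h]; group
      have h3 := prEl_pRegular (p := p) z
      have h4 : prEl p z = z := by
        have := ppEl_mul_prEl p z
        rw [h2, one_mul] at this
        exact this
      rw [h4] at h3
      exact h3 hz
    rw [← IsIrrCharacter.isClassFunction χ.2 z g,
      principal_apply_of_isPPart hM P hab hfrob χ hχ _ _ hpp hg hne1]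
    have h5 := D.val hab χ hχ ⟨_, hg⟩ (by
      intro h
      apply hne1
      exact congrArg Subtype.val h)
    simp only at h5
    rw [h5, hw, Finset.sum_eq_zero]
    · simp
    · intro μ _
      rw [if_neg]
      rintro ⟨h6, h7⟩
      exact hX μ h6 h7

end data2

end Cfsg.Agent.Lib.Helper6
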