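import Mathlib
import Cfsg.Prelude.Def_Blocks
import Cfsg.Agent.Lib.Helper6.BLData2

/-! # The sets `X` and `Y` in the Brauer–Leonard situation -/

set_option autoImplicit false
set_option linter.unusedSectionVars false
open Cfsg

namespace Cfsg.Agent.Lib.Helper6

open scoped ComplexConjugate

section data3

variable {G : Type*} [Group G] [Fintype G] [DecidableEq G]
variable {p : ℕ} {M : Ideal Cfsg.AlgInt}
variable {P : Sylow p G} [Fintype ↥(P : Subgroup G)] [Fintype (↥(P : Subgroup G) →* ℂˣ)]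
    [Fintype (Cfsg.IrrCharacter G)] [DecidableEq (Cfsg.IrrCharacter G)] {m : ℕ}

open Classical in
/-- the exceptional characters -/
noncomputable def BLData.Y (D : BLData M P m) : Finset (Cfsg.IrrCharacter G) :=
  (Finset.univ.filter (fun ψ : ↥(P : Subgroup G) →* ℂˣ => ψ ≠ 1)).image D.Θ

open Classical in
/-- the principal block as a finset -/
noncomputable def prinFinset (M : Ideal Cfsg.AlgInt) (G : Type*) [Group G]
    [Fintype (Cfsg.IrrCharacter G)] : Finset (Cfsg.IrrCharacter G) :=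
  Finset.univ.filter (· ∈ Cfsg.principalBlock M G)

/-- the nonexceptional characters -/
noncomputable def BLData.X (D : BLData M P m) : Finset (Cfsg.IrrCharacter G) :=
  prinFinset M G \ D.Y

theorem BLData.mem_Y (D : BLData M P m) (χ : Cfsg.IrrCharacter G) :
    χ ∈ D.Y ↔ ∃ ψ, ψ ≠ 1 ∧ D.Θ ψ = χ := by
  classical
  unfold BLData.Y
  simp

theorem mem_prinFinset {χ : Cfsg.IrrCharacter G} :
    χ ∈ prinFinset M G ↔ χ ∈ Cfsg.principalBlock M G := by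
  classical
  unfold prinFinset
  simp

theorem BLData.Y_subset (D : BLData M P m) : D.Y ⊆ prinFinset M G := by
  intro χ hχ
  obtain ⟨ψ, hψ, rfl⟩ := (D.mem_Y χ).mp hχ
  exact mem_prinFinset.mpr (D.hΘmem ψ hψ)

theorem BLData.mem_X (D : BLData M P m) (χ : Cfsg.IrrCharacter G) :
    χ ∈ D.X ↔ χ ∈ Cfsg.principalBlock M G ∧ ∀ ψ, ψ ≠ 1 → D.Θ ψ ≠ χ := by
  unfold BLData.X
  rw [Finset.mem_sdiff, mem_prinFinset, D.mem_Y]
  constructor
  · rintro ⟨h1, h2⟩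
    exact ⟨h1, fun ψ hψ h => h2 ⟨ψ, hψ, h⟩⟩
  · rintro ⟨h1, h2⟩
    exact ⟨h1, fun ⟨ψ, hψ, h⟩ => h2 ψ hψ h⟩

theorem BLData.one_lt_card_Y (D : BLData M P m) : 1 < D.Y.card := by
  obtain ⟨ψ₁, ψ₂, h1, h2, h12⟩ := D.hclasses
  rw [Finset.one_lt_card]
  refine ⟨D.Θ ψ₁, (D.mem_Y _).mpr ⟨ψ₁, h1, rfl⟩, D.Θ ψ₂, (D.mem_Y _).mpr ⟨ψ₂, h2, rfl⟩, ?_⟩
  intro h
  exact h12 ((D.hΘ ψ₁ ψ₂ h1 h2).mp h)

/-- the number of exceptional characters -/
theorem BLData.card_Y [Fact p.Prime] (D : BLData M P m) (hab : IsMulCommutative P)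
    (hfrob : ∀ y : G, y ∈ (P : Subgroup G) → y ≠ 1 →
      Subgroup.centralizer ({y} : Set G) ⊓ Subgroup.normalizer ((P : Subgroup G) : Set G)
        = Subgroup.centralizer ((P : Subgroup G) : Set G))
    (hCN : (Subgroup.centralizer ((P : Subgroup G) : Set G)).relIndex
      (Subgroup.normalizer ((P : Subgroup G) : Set G)) = m) :
    D.Y.card * m = Nat.card P - 1 := by
  classical
  have hcardH : Fintype.card (↥(P : Subgroup G) →* ℂˣ) = Nat.card P := by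
    rw [← Nat.card_eq_fintype_card, card_homs_of_comm hab]
  have h1 : (Finset.univ.filter (fun ψ : ↥(P : Subgroup G) →* ℂˣ => ψ ≠ 1)).card
      = Nat.card P - 1 := by
    rw [Finset.filter_ne' Finset.univ (1 : ↥(P : Subgroup G) →* ℂˣ),
      Finset.card_erase_of_mem (Finset.mem_univ _), Finset.card_univ, hcardH]
  rw [← h1, Finset.card_eq_sum_card_image D.Θ]
  have h2 : ∀ η ∈ (Finset.univ.filter (fun ψ : ↥(P : Subgroup G) →* ℂˣ => ψ ≠ 1)).image D.Θ,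
      ((Finset.univ.filter (fun ψ : ↥(P : Subgroup G) →* ℂˣ => ψ ≠ 1)).filter
        (fun ψ => D.Θ ψ = η)).card = m := by
    intro η hη
    obtain ⟨ψ₀, hψ₀, rfl⟩ := Finset.mem_image.mp hη
    rw [Finset.mem_filter] at hψ₀
    have h3 : ((Finset.univ.filter (fun ψ : ↥(P : Subgroup G) →* ℂˣ => ψ ≠ 1)).filter
        (fun ψ => D.Θ ψ = D.Θ ψ₀))
        = Finset.univ.filter (fun ψ => blRel (P : Subgroup G) ψ₀ ψ) := by
      ext ψ
      simp only [Finset.mem_filter, Finset.mem_univ, true_and]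
      constructor
      · rintro ⟨h4, h5⟩
        exact (D.hΘ ψ₀ ψ hψ₀.2 h4).mp h5.symm
      · intro h4
        have h5 := blRel_ne_one _ h4 hψ₀.2
        exact ⟨h5, ((D.hΘ ψ₀ ψ hψ₀.2 h5).mpr h4).symm⟩
    rw [h3, ← hCN, ← card_blRel P hab hfrob ψ₀ hψ₀.2, Nat.card_eq_fintype_card,
      Fintype.card_subtype]
  unfold BLData.Y
  rw [Finset.sum_congr rfl h2, Finset.sum_const, smul_eq_mul]

/-- the norm equation -/
theorem BLData.norm_eq (D : BLData M P m) :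
    (D.d - D.δ) ^ 2 + ((D.Y.card : ℤ) - 1) * D.d ^ 2 + ∑ χ ∈ D.X, D.w χ ^ 2 = (m : ℤ) + 1 := by
  classical
  obtain ⟨ψ₀, _, hψ₀, _, _⟩ := D.hclasses
  have hη₀ : D.Θ ψ₀ ∈ D.Y := (D.mem_Y _).mpr ⟨ψ₀, hψ₀, rfl⟩
  rw [← D.hnorm ψ₀ hψ₀]
  rw [← Finset.sum_filter_add_sum_filter_not Finset.univ (· ∈ Cfsg.principalBlock M G)]
  have h0 : ∑ χ ∈ Finset.univ.filter (fun χ : Cfsg.IrrCharacter G =>
      ¬ χ ∈ Cfsg.principalBlock M G),
      (D.w χ - D.δ * eVec (D.Θ ψ₀) χ) * (D.w χ - D.δ * eVec (D.Θ ψ₀) χ) = 0 := by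
    apply Finset.sum_eq_zero
    intro χ hχ
    rw [Finset.mem_filter] at hχ
    have h1 : χ ≠ D.Θ ψ₀ := by
      intro h
      apply hχ.2
      rw [h]
      exact D.hΘmem ψ₀ hψ₀
    rw [D.hw0 χ hχ.2, eVec_apply, if_neg h1]
    ring
  rw [h0, add_zero]
  have h1 : Finset.univ.filter (fun χ : Cfsg.IrrCharacter G => χ ∈ Cfsg.principalBlock M G)
      = prinFinset M G := by
    unfold prinFinset
    rfl
  rw [h1, ← Finset.sum_sdiff D.Y_subset]
  have h2 : ∑ χ ∈ prinFinset M G \ D.Y,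
      (D.w χ - D.δ * eVec (D.Θ ψ₀) χ) * (D.w χ - D.δ * eVec (D.Θ ψ₀) χ)
      = ∑ χ ∈ D.X, D.w χ ^ 2 := by
    unfold BLData.X
    apply Finset.sum_congr rfl
    intro χ hχ
    rw [Finset.mem_sdiff] at hχ
    have h3 : χ ≠ D.Θ ψ₀ := by
      intro h
      apply hχ.2
      rw [h]; exact hη₀
    rw [eVec_apply, if_neg h3]
    ring
  rw [h2, ← Finset.add_sum_erase D.Y _ hη₀]
  have h3 : ∑ χ ∈ D.Y.erase (D.Θ ψ₀),
      (D.w χ - D.δ * eVec (D.Θ ψ₀) χ) * (D.w χ - D.δ * eVec (D.Θ ψ₀) χ)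
      = ((D.Y.card : ℤ) - 1) * D.d ^ 2 := by
    have h4 : ∀ χ ∈ D.Y.erase (D.Θ ψ₀),
        (D.w χ - D.δ * eVec (D.Θ ψ₀) χ) * (D.w χ - D.δ * eVec (D.Θ ψ₀) χ) = D.d ^ 2 := by
      intro χ hχ
      rw [Finset.mem_erase] at hχ
      obtain ⟨ψ, hψ, rfl⟩ := (D.mem_Y χ).mp hχ.2
      rw [eVec_apply, if_neg hχ.1, D.hwd ψ hψ]
      ring
    rw [Finset.sum_congr rfl h4, Finset.sum_const, Finset.card_erase_of_mem hη₀, nsmul_eq_mul]
    have := D.one_lt_card_Y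
    push_cast [Nat.cast_sub (le_of_lt this)]
    ring
  rw [h3, eVec_apply, if_pos rfl, D.hwd ψ₀ hψ₀]
  ring

/-- the exceptional characters agree on `p`-regular elements -/
theorem BLData.pRegular_eq [Fact p.Prime] (D : BLData M P m)
    (η η' : Cfsg.IrrCharacter G) (hη : η ∈ D.Y) (hη' : η' ∈ D.Y) (g : G)
    (hg : ¬ p ∣ orderOf g) : (η : G → ℂ) g = (η' : G → ℂ) g := by
  obtain ⟨ψ, hψ, rfl⟩ := (D.mem_Y η).mp hη
  obtain ⟨ψ', hψ', rfl⟩ := (D.mem_Y η').mp hη'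
  have h1 := D.sum_pRegular ψ hψ g hg
  have h2 := D.sum_pRegular ψ' hψ' g hg
  rw [h1] at h2
  have hδ : (D.δ : ℂ) ≠ 0 := by exact_mod_cast D.δ_ne_zero
  exact mul_left_cancel₀ hδ h2

/-- the relation on `p`-regular elements -/
theorem BLData.pRegular_rel [Fact p.Prime] (D : BLData M P m)
    (η : Cfsg.IrrCharacter G) (hη : η ∈ D.Y) (g : G) (hg : ¬ p ∣ orderOf g) :
    ((D.Y.card : ℂ) * (D.d : ℂ) - (D.δ : ℂ)) * (η : G → ℂ) g
      + ∑ χ ∈ D.X, (D.w χ : ℂ) * (χ : G → ℂ) g = 0 := by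
  classical
  obtain ⟨ψ, hψ, hη'⟩ := (D.mem_Y η).mp hη
  have h1 := D.sum_pRegular ψ hψ g hg
  rw [hη'] at h1
  rw [← Finset.sum_filter_add_sum_filter_not Finset.univ (· ∈ Cfsg.principalBlock M G)] at h1
  have h0 : ∑ χ ∈ Finset.univ.filter (fun χ : Cfsg.IrrCharacter G =>
      ¬ χ ∈ Cfsg.principalBlock M G), (D.w χ : ℂ) * (χ : G → ℂ) g = 0 := by
    apply Finset.sum_eq_zero
    intro χ hχ
    rw [Finset.mem_filter] at hχ
    rw [D.hw0 χ hχ.2]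
    simp
  rw [h0, add_zero] at h1
  have h2 : Finset.univ.filter (fun χ : Cfsg.IrrCharacter G => χ ∈ Cfsg.principalBlock M G)
      = prinFinset M G := by
    unfold prinFinset
    rfl
  rw [h2, ← Finset.sum_sdiff D.Y_subset] at h1
  have h3 : ∑ χ ∈ D.Y, (D.w χ : ℂ) * (χ : G → ℂ) g
      = (D.Y.card : ℂ) * (D.d : ℂ) * (η : G → ℂ) g := by
    have h4 : ∀ χ ∈ D.Y, (D.w χ : ℂ) * (χ : G → ℂ) g = (D.d : ℂ) * (η : G → ℂ) g := by
      intro χ hχ
      rw [D.pRegular_eq χ η hχ hη g hg]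
      obtain ⟨ψ', hψ', rfl⟩ := (D.mem_Y χ).mp hχ
      rw [D.hwd ψ' hψ']
    rw [Finset.sum_congr rfl h4, Finset.sum_const, nsmul_eq_mul]
    ring
  rw [h3] at h1
  unfold BLData.X
  linear_combination h1

end data3

end Cfsg.Agent.Lib.Helper6
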