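import Mathlib
import Cfsg.Prelude.Def_Blocks
import Cfsg.Agent.Lib.Helper6.BLData3

/-! # The case `|N : C| = 3` of the Brauer–Leonard situation: normalisation `d = 0` -/

set_option autoImplicit false
set_option linter.unusedSectionVars false
open Cfsg

namespace Cfsg.Agent.Lib.Helper6

open scoped ComplexConjugate

theorem finset_card_two_cases {α : Type*} [DecidableEq α] (s : Finset α) (hs : s.card = 2)
    (a b : α) (ha : a ∈ s) (hb : b ∈ s) (hab : a ≠ b) (c : α) (hc : c ∈ s) : c = a ∨ c = b := by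
  have h1 : ({a, b} : Finset α) ⊆ s := by
    intro x hx
    rw [Finset.mem_insert, Finset.mem_singleton] at hx
    rcases hx with rfl | rfl
    · exact ha
    · exact hb
  have h2 : ({a, b} : Finset α).card = 2 := Finset.card_pair hab
  have h3 := Finset.eq_of_subset_of_card_le h1 (by rw [hs, h2])
  rw [← h3, Finset.mem_insert, Finset.mem_singleton] at hc
  exact hc

section three

variable {G : Type*} [Group G] [Fintype G] [DecidableEq G]
variable {p : ℕ} {M : Ideal Cfsg.AlgInt}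
variable {P : Sylow p G} [Fintype ↥(P : Subgroup G)] [Fintype (↥(P : Subgroup G) →* ℂˣ)]
    [Fintype (Cfsg.IrrCharacter G)] [DecidableEq (Cfsg.IrrCharacter G)] {m : ℕ}

theorem BLData.one_mem_X [Fact p.Prime] (D : BLData M P m) (hM : Cfsg.IsPModular p M) :
    oneIrr G ∈ D.X :=
  (D.mem_X _).mpr ⟨oneIrr_mem_principalBlock hM, (D.one hM).2⟩

/-- swapping the two exceptional characters when there are exactly two of them -/
theorem BLData.exists_swap (D : BLData M P m) (hd : D.d = D.δ) (hY : D.Y.card = 2) :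
    ∃ D' : BLData M P m, D'.d = 0 := by
  classical
  -- the other exceptional character
  have hother : ∀ ψ : ↥(P : Subgroup G) →* ℂˣ, ∃ η : Cfsg.IrrCharacter G,
      ψ ≠ 1 → (η ∈ D.Y ∧ η ≠ D.Θ ψ) := by
    intro ψ
    obtain ⟨ψ', hψ', hrel⟩ := D.exists_not_rel ψ
    refine ⟨D.Θ ψ', fun hψ => ⟨(D.mem_Y _).mpr ⟨ψ', hψ', rfl⟩, ?_⟩⟩
    intro h
    exact hrel ((D.hΘ ψ ψ' hψ hψ').mp h.symm)
  choose Θ' hΘ' using hother
  have hYmem : ∀ ψ, ψ ≠ 1 → D.Θ ψ ∈ D.Y := fun ψ hψ => (D.mem_Y _).mpr ⟨ψ, hψ, rfl⟩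
  have hcases : ∀ ψ, ψ ≠ 1 → ∀ χ ∈ D.Y, χ = D.Θ ψ ∨ χ = Θ' ψ := by
    intro ψ hψ χ hχ
    exact finset_card_two_cases D.Y hY _ _ (hYmem ψ hψ) (hΘ' ψ hψ).1 (Ne.symm (hΘ' ψ hψ).2) χ hχ
  have hind : ∀ ψ, ψ ≠ 1 → ∀ χ : Cfsg.IrrCharacter G,
      (if χ ∈ D.Y then (1 : ℤ) else 0) = eVec (D.Θ ψ) χ + eVec (Θ' ψ) χ := by
    intro ψ hψ χ
    rw [eVec_apply, eVec_apply]
    by_cases hχ : χ ∈ D.Y
    · rw [if_pos hχ]
      rcases hcases ψ hψ χ hχ with h | h
      · rw [if_pos h, if_neg]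
        · ring
        · rw [h]; exact Ne.symm (hΘ' ψ hψ).2
      · rw [if_neg, if_pos h]
        · ring
        · rw [h]; exact (hΘ' ψ hψ).2
    · rw [if_neg hχ, if_neg, if_neg]
      · ring
      · intro h; apply hχ; rw [h]; exact (hΘ' ψ hψ).1
      · intro h; apply hχ; rw [h]; exact hYmem ψ hψ
  have hkey : ∀ ψ, ψ ≠ 1 → ∀ χ : Cfsg.IrrCharacter G,
      (D.w χ - D.δ * (if χ ∈ D.Y then (1 : ℤ) else 0)) - (-D.δ) * eVec (Θ' ψ) χ
        = D.w χ - D.δ * eVec (D.Θ ψ) χ := by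
    intro ψ hψ χ
    rw [hind ψ hψ χ]
    ring
  refine ⟨⟨-D.δ, 0, fun χ => D.w χ - D.δ * (if χ ∈ D.Y then (1 : ℤ) else 0), Θ', ?_, ?_, ?_, ?_,
    ?_, ?_, ?_, ?_, D.hclasses⟩, rfl⟩
  · rcases D.hδ with h | h
    · right; rw [h]
    · left; rw [h]; norm_num
  · intro ψ hψ
    exact mem_prinFinset.mp (D.Y_subset (hΘ' ψ hψ).1)
  · intro ψ ψ' hψ hψ'
    rw [← D.hΘ ψ ψ' hψ hψ']
    constructor
    · intro h
      rcases hcases ψ' hψ' (D.Θ ψ) (hYmem ψ hψ) with h1 | h1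
      · exact h1
      · exfalso
        rw [← h] at h1
        exact (hΘ' ψ hψ).2 h1.symm
    · intro h
      rcases hcases ψ' hψ' (Θ' ψ) (hΘ' ψ hψ).1 with h1 | h1
      · exfalso
        rw [← h] at h1
        exact (hΘ' ψ hψ).2 h1
      · exact h1
  · intro ψ hψ
    obtain ⟨ψ'', hψ'', h⟩ := (D.mem_Y _).mp (hΘ' ψ hψ).1
    rw [if_pos (hΘ' ψ hψ).1, ← h, D.hwd ψ'' hψ'', hd]
    ring
  · intro χ hχ
    rw [D.hw0 χ hχ, if_neg]
    · ring
    · intro h
      exact hχ (mem_prinFinset.mp (D.Y_subset h))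
  · intro ψ hψ
    rw [D.hF ψ hψ]
    apply Finset.sum_congr rfl
    intro χ _
    rw [hkey ψ hψ χ]
  · intro ψ hψ
    rw [← D.hnorm ψ hψ]
    apply Finset.sum_congr rfl
    intro χ _
    rw [hkey ψ hψ χ]
  · intro χ hχ ψ hψ
    rw [D.hmult χ hχ ψ hψ]
    rw [hkey ψ hψ χ]

/-- for `|N : C| = 3` the data can be normalised to `d = 0` -/
theorem exists_blData_three (hM : Cfsg.IsPModular p M) [Fact p.Prime]
    (hab : IsMulCommutative P)
    (hfrob : ∀ y : G, y ∈ (P : Subgroup G) → y ≠ 1 →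
      Subgroup.centralizer ({y} : Set G) ⊓ Subgroup.normalizer ((P : Subgroup G) : Set G)
        = Subgroup.centralizer ((P : Subgroup G) : Set G))
    (hm2 : 3 + 1 < Nat.card P)
    (hCN : (Subgroup.centralizer ((P : Subgroup G) : Set G)).relIndex
      (Subgroup.normalizer ((P : Subgroup G) : Set G)) = 3) :
    ∃ D : BLData M P 3, D.d = 0 := by
  classical
  have hp : p.Prime := Fact.out
  obtain ⟨D⟩ := exists_blData hM P hab hfrob 3 (by norm_num) hm2 hCN
  by_cases hd0 : D.d = 0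
  · exact ⟨D, hd0⟩
  have hnorm : (D.d - D.δ) ^ 2 + ((D.Y.card : ℤ) - 1) * D.d ^ 2 + ∑ χ ∈ D.X, D.w χ ^ 2 = 4 := by
    have := D.norm_eq
    push_cast at this
    linarith
  have hY1 := D.one_lt_card_Y
  have hcardY := D.card_Y hab hfrob hCN
  have h1X := D.one_mem_X hM
  have hw1 := (D.one hM).1
  have hXne : ∀ χ ∈ D.X, D.w χ ≠ 0 := by
    intro χ hχ
    obtain ⟨h1, h2⟩ := (D.mem_X χ).mp hχ
    exact D.w_ne_zero hM hab hfrob χ h1 h2
  -- the sum over `X`
  have hS : ∑ χ ∈ D.X, D.w χ ^ 2 = 1 + ∑ χ ∈ D.X.erase (oneIrr G), D.w χ ^ 2 := by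
    rw [← Finset.add_sum_erase D.X _ h1X, hw1]
    norm_num
  have hS0 : 0 ≤ ∑ χ ∈ D.X.erase (oneIrr G), D.w χ ^ 2 :=
    Finset.sum_nonneg (fun χ _ => sq_nonneg _)
  have hr2 : (2 : ℤ) ≤ D.Y.card := by exact_mod_cast hY1
  have hδ2 := D.δ_mul_δ
  have hd2 : 1 ≤ D.d ^ 2 := by
    have : 0 < D.d ^ 2 := by positivity
    omega
  -- `d = δ`
  have hdδ : D.d = D.δ := by
    have hmono : D.d ^ 2 ≤ ((D.Y.card : ℤ) - 1) * D.d ^ 2 := by nlinarith
    have h1 : D.d ^ 2 < 4 := by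
      by_contra h
      push Not at h
      nlinarith [sq_nonneg (D.d - D.δ)]
    have h2 : D.d = 1 ∨ D.d = -1 := by
      have h3 : -2 < D.d := by nlinarith
      have h4 : D.d < 2 := by nlinarith
      omega
    rcases D.hδ with hδ | hδ <;> rcases h2 with h2 | h2
    · rw [hδ, h2]
    · exfalso
      rw [hδ, h2] at hnorm
      nlinarith
    · exfalso
      rw [hδ, h2] at hnorm
      nlinarith
    · rw [hδ, h2]
  rw [hdδ, sub_self] at hnorm
  have hnorm' : ((D.Y.card : ℤ) - 1) + ∑ χ ∈ D.X.erase (oneIrr G), D.w χ ^ 2 = 3 := by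
    have : D.δ ^ 2 = 1 := by rw [sq]; exact hδ2
    rw [this, hS] at hnorm
    linarith
  have hr4 : (D.Y.card : ℤ) ≤ 4 := by linarith
  have hrcases : D.Y.card = 2 ∨ D.Y.card = 3 ∨ D.Y.card = 4 := by omega
  rcases hrcases with hr | hr | hr
  · exact D.exists_swap hdδ hr
  · -- `|P| = 10` is not a prime power
    exfalso
    rw [hr] at hcardY
    obtain ⟨k, hk⟩ := IsPGroup.iff_card.mp P.2
    have h10 : p ^ k = 10 := by
      have : Nat.card (P : Subgroup G) = 10 := by omega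
      rw [← hk]; exact this
    have hk0 : k ≠ 0 := by
      intro h; rw [h] at h10; norm_num at h10
    have hpd : p ∣ 10 := by
      rw [← h10]; exact dvd_pow_self p hk0
    have hp25 : p = 2 ∨ p = 5 := by
      have h2 : p ∣ 2 * 5 := by norm_num; exact hpd
      rcases (Nat.Prime.dvd_mul hp).mp h2 with h | h
      · left; exact (Nat.prime_dvd_prime_iff_eq hp Nat.prime_two).mp h
      · right; exact (Nat.prime_dvd_prime_iff_eq hp Nat.prime_five).mp h
    rcases hp25 with h | h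
    · rw [h] at h10
      have hk4 : k < 4 := by
        by_contra hk4
        push Not at hk4
        have : 2 ^ 4 ≤ 2 ^ k := Nat.pow_le_pow_right (by norm_num) hk4
        omega
      interval_cases k <;> omega
    · rw [h] at h10
      have hk2 : k < 2 := by
        by_contra hk2
        push Not at hk2
        have : 5 ^ 2 ≤ 5 ^ k := Nat.pow_le_pow_right (by norm_num) hk2
        omega
      interval_cases k <;> omega
  · -- `X = {1}` and the degree relation fails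
    exfalso
    have hS1 : ∑ χ ∈ D.X.erase (oneIrr G), D.w χ ^ 2 = 0 := by
      rw [hr] at hnorm'
      push_cast at hnorm'
      linarith
    have hXe : D.X.erase (oneIrr G) = ∅ := by
      by_contra hne
      obtain ⟨χ, hχ⟩ := Finset.nonempty_iff_ne_empty.mpr hne
      have h1 := (Finset.sum_eq_zero_iff_of_nonneg (fun χ _ => sq_nonneg (D.w χ))).mp hS1 χ hχ
      have h2 := hXne χ (Finset.mem_of_mem_erase hχ)
      exact h2 (by simpa using h1)
    obtain ⟨ψ₁, _, hψ₁, _, _⟩ := D.hclasses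
    have hη : D.Θ ψ₁ ∈ D.Y := (D.mem_Y _).mpr ⟨ψ₁, hψ₁, rfl⟩
    have hrel := D.pRegular_rel (D.Θ ψ₁) hη 1 (by rw [orderOf_one]; exact hp.not_dvd_one)
    rw [← Finset.add_sum_erase D.X _ h1X, hXe, Finset.sum_empty, add_zero, hw1, hr, hdδ,
      IsCharacter.apply_one_eq_charDegree (IsIrrCharacter.isCharacter (D.Θ ψ₁).2)] at hrel
    have h1 : ((oneIrr G : Cfsg.IrrCharacter G) : G → ℂ) 1 = 1 := rfl
    rw [h1] at hrel
    have h2 : ((4 : ℤ) * D.δ - D.δ) * (Cfsg.charDegree ((D.Θ ψ₁ : Cfsg.IrrCharacter G) : G → ℂ) : ℤ)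
        + 1 = 0 := by
      have : ((((4 : ℤ) * D.δ - D.δ) * (Cfsg.charDegree ((D.Θ ψ₁ : Cfsg.IrrCharacter G) : G → ℂ) : ℤ)
        + 1 : ℤ) : ℂ) = 0 := by
        push_cast
        linear_combination hrel
      exact_mod_cast this
    rcases D.hδ with hδ | hδ <;> rw [hδ] at h2 <;> omega

end three

end Cfsg.Agent.Lib.Helper6
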