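import Mathlib
import Cfsg.Prelude.Def_Blocks
import Cfsg.Agent.Lib.Helper6.BLThree

/-! # The case `|N : C| = 3`: the three nonexceptional characters -/

set_option autoImplicit false
set_option linter.unusedSectionVars false
open Cfsg

namespace Cfsg.Agent.Lib.Helper6

open scoped ComplexConjugate

section three2

variable {G : Type*} [Group G] [Fintype G] [DecidableEq G]
variable {p : ℕ} {M : Ideal Cfsg.AlgInt}
variable {P : Sylow p G} [Fintype ↥(P : Subgroup G)] [Fintype (↥(P : Subgroup G) →* ℂˣ)]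
    [Fintype (Cfsg.IrrCharacter G)] [DecidableEq (Cfsg.IrrCharacter G)] {m : ℕ}

/-- with `d = 0` and `m = 3` there are exactly three nonexceptional characters, with signs -/
theorem BLData.three_X [Fact p.Prime] (D : BLData M P 3) (hd : D.d = 0)
    (hM : Cfsg.IsPModular p M) (hab : IsMulCommutative P)
    (hfrob : ∀ y : G, y ∈ (P : Subgroup G) → y ≠ 1 →
      Subgroup.centralizer ({y} : Set G) ⊓ Subgroup.normalizer ((P : Subgroup G) : Set G)
        = Subgroup.centralizer ((P : Subgroup G) : Set G)) :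
    D.X.card = 3 ∧ ∀ χ ∈ D.X, D.w χ = 1 ∨ D.w χ = -1 := by
  classical
  have hnorm : ∑ χ ∈ D.X, D.w χ ^ 2 = 3 := by
    have := D.norm_eq
    rw [hd] at this
    have h2 : D.δ ^ 2 = 1 := by rw [sq]; exact D.δ_mul_δ
    push_cast at this
    nlinarith
  have hXne : ∀ χ ∈ D.X, D.w χ ≠ 0 := by
    intro χ hχ
    obtain ⟨h1, h2⟩ := (D.mem_X χ).mp hχ
    exact D.w_ne_zero hM hab hfrob χ h1 h2
  have hge : ∀ χ ∈ D.X, 1 ≤ D.w χ ^ 2 := by
    intro χ hχ
    have := hXne χ hχ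
    have h2 : 0 < D.w χ ^ 2 := by positivity
    omega
  have hsq : ∀ χ ∈ D.X, D.w χ ^ 2 = 1 := by
    intro χ hχ
    by_contra hne
    have h1 := hge χ hχ
    have h2 : 2 ≤ D.w χ ^ 2 := by omega
    have h3 : 4 ≤ D.w χ ^ 2 := by
      by_contra h4
      push Not at h4
      have h5 : -2 < D.w χ := by nlinarith
      have h6 : D.w χ < 2 := by nlinarith
      have h7 : D.w χ = -1 ∨ D.w χ = 0 ∨ D.w χ = 1 := by omega
      rcases h7 with h | h | h <;> rw [h] at h2 <;> norm_num at h2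
    have h4 : D.w χ ^ 2 ≤ ∑ χ ∈ D.X, D.w χ ^ 2 :=
      Finset.single_le_sum (f := fun χ => D.w χ ^ 2) (fun i _ => sq_nonneg _) hχ
    omega
  constructor
  · have : ∑ χ ∈ D.X, D.w χ ^ 2 = D.X.card := by
      rw [Finset.sum_congr rfl hsq]
      simp
    rw [this] at hnorm
    exact_mod_cast hnorm
  · intro χ hχ
    have h := hsq χ hχ
    have h1 : (D.w χ - 1) * (D.w χ + 1) = 0 := by ring_nf; rw [h]; ring
    rcases mul_eq_zero.mp h1 with h2 | h2
    · left; omega
    · right; omega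

/-- the sum of the exceptional characters at a nonidentity element of `P` -/
theorem BLData.sum_Y_apply (D : BLData M P m) (hd : D.d = 0) (hab : IsMulCommutative P)
    (y : ↥(P : Subgroup G)) (hy : y ≠ 1) :
    ∑ η ∈ D.Y, (η : G → ℂ) (y : G) = -(D.δ : ℂ) := by
  classical
  have h1 : ∀ η ∈ D.Y, (η : G → ℂ) (y : G) = (D.δ : ℂ) *
      ∑ μ : ↥(P : Subgroup G) →* ℂˣ, if μ ≠ 1 ∧ D.Θ μ = η then ((μ y : ℂˣ) : ℂ) else 0 := by
    intro η hη
    obtain ⟨ψ, hψ, rfl⟩ := (D.mem_Y η).mp hη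
    rw [D.val hab (D.Θ ψ) (D.hΘmem ψ hψ) y hy, D.hwd ψ hψ, hd]
    simp
  rw [Finset.sum_congr rfl h1, ← Finset.mul_sum, Finset.sum_comm]
  have h2 : ∀ μ : ↥(P : Subgroup G) →* ℂˣ,
      ∑ η ∈ D.Y, (if μ ≠ 1 ∧ D.Θ μ = η then ((μ y : ℂˣ) : ℂ) else 0)
      = ((μ y : ℂˣ) : ℂ) - if μ = 1 then 1 else 0 := by
    intro μ
    by_cases hμ : μ = 1
    · rw [if_pos hμ, Finset.sum_eq_zero]
      · rw [hμ]; simp
      · intro η _
        rw [if_neg (fun h => h.1 hμ)]
    · rw [if_neg hμ, sub_zero, Finset.sum_eq_single (D.Θ μ)]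
      · rw [if_pos ⟨hμ, rfl⟩]
      · intro η _ hne
        rw [if_neg (fun h => hne h.2.symm)]
      · intro h
        exact absurd ((D.mem_Y _).mpr ⟨μ, hμ, rfl⟩) h
  rw [Finset.sum_congr rfl (fun μ _ => h2 μ), Finset.sum_sub_distrib, sum_homs_apply hab,
    if_neg hy, Finset.sum_ite_eq' Finset.univ (1 : ↥(P : Subgroup G) →* ℂˣ) (fun _ => (1 : ℂ)),
    if_pos (Finset.mem_univ _)]
  ring

/-- degrees of nonexceptional characters are congruent to their values modulo `|P|` -/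
theorem BLData.degree_congr [Fact p.Prime] (D : BLData M P m) (hab : IsMulCommutative P)
    (χ : Cfsg.IrrCharacter G) (hχ : χ ∈ D.X) :
    (Nat.card P : ℤ) ∣ (Cfsg.charDegree (χ : G → ℂ) : ℤ) - D.w χ := by
  classical
  obtain ⟨h1, h2⟩ := (D.mem_X χ).mp hχ
  obtain ⟨n, hn⟩ := IsCharacter.classInner_irr_nat
      (IsCharacter.restrict (P : Subgroup G) (IsIrrCharacter.isCharacter χ.2))
      (isIrrCharacter_of_hom (1 : ↥(P : Subgroup G) →* ℂˣ))
  have hval : ∀ w : ↥(P : Subgroup G), (χ : G → ℂ) (w : G)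
      = if w = 1 then (Cfsg.charDegree (χ : G → ℂ) : ℂ) else (D.w χ : ℂ) := by
    intro w
    split_ifs with hw
    · rw [hw]
      exact IsCharacter.apply_one_eq_charDegree (IsIrrCharacter.isCharacter χ.2)
    · rw [D.val hab χ h1 w hw, Finset.sum_eq_zero]
      · simp
      · intro μ _
        rw [if_neg]
        rintro ⟨h6, h7⟩
        exact h2 μ h6 h7
  unfold Cfsg.classInner at hn
  have h3 : ∀ w : ↥(P : Subgroup G), (χ : G → ℂ) (w : G)
      * conj (((1 : ↥(P : Subgroup G) →* ℂˣ) w : ℂˣ) : ℂ)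
      = (D.w χ : ℂ) + if w = 1 then (Cfsg.charDegree (χ : G → ℂ) : ℂ) - (D.w χ : ℂ) else 0 := by
    intro w
    rw [hval w]
    simp only [MonoidHom.one_apply, Units.val_one, map_one, mul_one]
    split_ifs <;> ring
  rw [Finset.sum_congr rfl (fun w _ => h3 w), Finset.sum_add_distrib, Finset.sum_const,
    Finset.card_univ, nsmul_eq_mul,
    Finset.sum_ite_eq' Finset.univ (1 : ↥(P : Subgroup G)) (fun _ => _),
    if_pos (Finset.mem_univ _), ← Nat.card_eq_fintype_card] at hn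
  have hP0 : (Nat.card P : ℂ) ≠ 0 := by exact_mod_cast Nat.card_pos.ne'
  have h4 : (Cfsg.charDegree (χ : G → ℂ) : ℂ) - (D.w χ : ℂ)
      = (Nat.card P : ℂ) * ((n : ℂ) - (D.w χ : ℂ)) := by
    field_simp at hn
    linear_combination hn
  refine ⟨(n : ℤ) - D.w χ, ?_⟩
  exact_mod_cast h4

end three2

end Cfsg.Agent.Lib.Helper6
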