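import Mathlib
import Cfsg.Agent.Lib.Helper6.BlkOrthFull
import Cfsg.Agent.Lib.Helper6.ClassMult
import Cfsg.Agent.Lib.Helper6.IrrBasis
import Cfsg.Agent.Lib.Helper6.BlkSecond3

set_option autoImplicit false
set_option linter.unusedSectionVars false
open Cfsg

namespace Cfsg.Agent.Lib.Helper6

open scoped ComplexConjugate

section

variable {G : Type*} [Group G] [Fintype G] [DecidableEq G]
variable {p : ℕ} {M : Ideal Cfsg.AlgInt}

theorem IsPPart.inv' {u x : G} (h : Cfsg.IsPPart p u x) : Cfsg.IsPPart p u⁻¹ x⁻¹ := by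
  obtain ⟨y, hxy, hcomm, ⟨k, hk⟩, hy⟩ := h
  refine ⟨y⁻¹, ?_, hcomm.inv_inv, ⟨k, by rw [orderOf_inv, hk]⟩, by rw [orderOf_inv]; exact hy⟩
  rw [← hxy, mul_inv_rev, hcomm.inv_inv.eq]

/-- Block form of the vanishing of class multiplication constants: if no element of the
`p`-section of `z` is a product of a conjugate of `a` and a conjugate of `b`, then in every block
the sum of `χ a * χ b / χ 1 * conj (χ z)` vanishes. -/
theorem block_sum_classMult_eq_zero (hM : Cfsg.IsPModular p M) [Fintype (Cfsg.IrrCharacter G)]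
    (a b z : G) (hz : Cfsg.IsPPart p z z)
    (hno : ∀ c : G, Cfsg.IsPPart p c z → ∀ g h : G, g * a * g⁻¹ * (h * b * h⁻¹) ≠ c)
    (χ₀ : Cfsg.IrrCharacter G) [DecidablePred (· ∈ Cfsg.blockOf M (χ₀ : G → ℂ))] :
    ∑ χ ∈ Finset.univ.filter (· ∈ Cfsg.blockOf M (χ₀ : G → ℂ)),
      ((χ : G → ℂ) a * (χ : G → ℂ) b / (χ : G → ℂ) 1) * conj ((χ : G → ℂ) z) = 0 := by
  classical
  have hG := card_ne_zero_complex G
  obtain ⟨ϑ, hϑdef⟩ : ∃ ϑ : G → ℂ, ϑ = ∑ χ : Cfsg.IrrCharacter G,
      conj ((χ : G → ℂ) a * (χ : G → ℂ) b / (χ : G → ℂ) 1) • (χ : G → ℂ) := ⟨_, rfl⟩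
  have hϑ : Cfsg.IsClassFunction G ϑ := by
    rw [hϑdef]
    apply isClassFunction_sum
    intro χ _
    exact isClassFunction_smul _ (IsIrrCharacter.isClassFunction χ.2)
  have hval : ∀ c : G, conj (ϑ c) = (Nat.card G : ℂ)⁻¹ * ((Finset.univ.filter
      (fun pr : G × G => pr.1 * a * pr.1⁻¹ * (pr.2 * b * pr.2⁻¹) = c)).card : ℂ) := by
    intro c
    rw [card_conj_mul_conj_eq a b c, ← mul_assoc, inv_mul_cancel₀ hG, one_mul, hϑdef]
    simp only [Finset.sum_apply, Pi.smul_apply, smul_eq_mul, map_sum, map_mul, Complex.conj_conj]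
    apply Finset.sum_congr rfl
    intro χ _
    ring
  have hvan : ∀ c : G, Cfsg.IsPPart p c z → ϑ c = 0 := by
    intro c hc
    have h1 := hval c
    have : (Finset.univ.filter
        (fun pr : G × G => pr.1 * a * pr.1⁻¹ * (pr.2 * b * pr.2⁻¹) = c)) = ∅ := by
      rw [Finset.filter_eq_empty_iff]
      intro pr _
      exact hno c hc pr.1 pr.2
    rw [this, Finset.card_empty, Nat.cast_zero, mul_zero] at h1
    have := congrArg conj h1
    rwa [Complex.conj_conj, map_zero] at this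
  have h0 := blockPart_vanish_pSection hM hϑ z hvan χ₀ z hz
  rw [blockPart_eq_finset_sum] at h0
  have hinner : ∀ χ : Cfsg.IrrCharacter G, Cfsg.classInner ϑ (χ : G → ℂ)
      = conj ((χ : G → ℂ) a * (χ : G → ℂ) b / (χ : G → ℂ) 1) := by
    intro χ
    rw [hϑdef, classInner_sum_left]
    simp_rw [classInner_smul_left, classInner_irrCharacter]
    rw [Finset.sum_eq_single_of_mem χ (Finset.mem_univ _)]
    · rw [if_pos rfl, mul_one]
    · intro χ' _ hne
      rw [if_neg hne, mul_zero]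
  simp_rw [hinner] at h0
  have := congrArg conj h0
  rw [map_zero, map_sum] at this
  rw [← this]
  apply Finset.sum_congr rfl
  intro χ _
  rw [map_mul, Complex.conj_conj]

end

end Cfsg.Agent.Lib.Helper6
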