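import Mathlib
import Cfsg.Prelude.Def_Blocks
import Cfsg.Agent.Lib.Helper6.BLThree2
import Cfsg.Agent.Lib.Helper6.BlkClassMult
import Cfsg.Agent.Lib.Helper6.BlkKer
import Cfsg.Agent.Lib.Helper6.CharBasic

/-! # Involutions in the case `|N : C| = 3` of the Brauer–Leonard situation -/

set_option autoImplicit false
set_option linter.unusedSectionVars false
open Cfsg

namespace Cfsg.Agent.Lib.Helper6

open scoped ComplexConjugate

section inv

variable {G : Type*} [Group G] [Fintype G] [DecidableEq G]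

/-- the value of a character at an involution is an integer -/
theorem IsCharacter.exists_int_apply_of_orderOf_two {χ : G → ℂ} (hχ : Cfsg.IsCharacter G χ)
    (t : G) (ht : orderOf t = 2) : ∃ z : ℤ, χ t = (z : ℂ) := by
  classical
  obtain ⟨n, ρ, rfl⟩ := hχ
  obtain ⟨ι, _, b, μ, h, hμ⟩ := exists_eigenbasis_rep ρ t
  rw [ht] at hμ
  have h1 : ρ.character t = ∑ i, μ i := trace_eq_sum_of_eigenbasis b μ (ρ t) h
  have h2 : ∀ i, μ i = 1 ∨ μ i = -1 := by
    intro i
    have := hμ i
    have h3 : (μ i - 1) * (μ i + 1) = 0 := by ring_nf; rw [this]; ring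
    rcases mul_eq_zero.mp h3 with h4 | h4
    · left; exact sub_eq_zero.mp h4
    · right; exact eq_neg_of_add_eq_zero_left h4
  refine ⟨∑ i, (if μ i = 1 then (1 : ℤ) else -1), ?_⟩
  rw [h1]
  push_cast
  apply Finset.sum_congr rfl
  intro i _
  rcases h2 i with h3 | h3
  · rw [if_pos h3, h3]
  · rw [if_neg, h3]
    rw [h3]
    norm_num

/-- a nonprincipal irreducible character does not have in its kernel an element lying in no
proper normal subgroup -/
theorem apply_ne_apply_one_of_normal_closure (χ : Cfsg.IrrCharacter G)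
    (hχ : χ ≠ oneIrr G) (t : G) (ht : ∀ K : Subgroup G, K.Normal → t ∈ K → K = ⊤) :
    (χ : G → ℂ) t ≠ (χ : G → ℂ) 1 := by
  classical
  intro h
  have hc := IsIrrCharacter.isCharacter χ.2
  have h1 := ht (charKer hc) (charKer_normal hc) ((mem_charKer hc t).mpr h)
  have h2 : ∀ g : G, (χ : G → ℂ) g = (χ : G → ℂ) 1 := by
    intro g
    have : g ∈ charKer hc := by rw [h1]; exact Subgroup.mem_top g
    exact (mem_charKer hc g).mp this
  have h3 := classInner_irrCharacter χ (oneIrr G)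
  rw [if_neg hχ] at h3
  unfold Cfsg.classInner at h3
  have h4 : ∀ g : G, (χ : G → ℂ) g * conj (((oneIrr G : Cfsg.IrrCharacter G) : G → ℂ) g)
      = (χ : G → ℂ) 1 := by
    intro g
    change (χ : G → ℂ) g * conj (1 : ℂ) = _
    rw [h2 g, map_one, mul_one]
  rw [Finset.sum_congr rfl (fun g _ => h4 g), Finset.sum_const, Finset.card_univ, nsmul_eq_mul,
    ← Nat.card_eq_fintype_card] at h3
  have hG0 : (Nat.card G : ℂ) ≠ 0 := by exact_mod_cast Nat.card_pos.ne'
  have h5 : (χ : G → ℂ) 1 ≠ 0 := IsIrrCharacter.apply_one_ne_zero χ.2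
  rcases mul_eq_zero.mp h3 with h6 | h6
  · exact absurd (inv_eq_zero.mp h6) hG0
  · rcases mul_eq_zero.mp h6 with h7 | h7
    · exact hG0 h7
    · exact h5 h7

variable {p : ℕ} [Fact p.Prime]

/-- a product of two involutions is inverted by both, and so is its `p`-part -/
theorem conj_pPart_of_product_involutions (t₁ t₂ c y : G) (h1 : t₁ * t₁ = 1) (h2 : t₂ * t₂ = 1)
    (hc : t₁ * t₂ = c) (hy : Cfsg.IsPPart p c y) :
    t₁ * y * t₁⁻¹ = y⁻¹ ∧ t₂ * y * t₂⁻¹ = y⁻¹ := by
  have hp : p.Prime := Fact.out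
  have ht1 : t₁⁻¹ = t₁ := inv_eq_of_mul_eq_one_left h1
  have ht2 : t₂⁻¹ = t₂ := inv_eq_of_mul_eq_one_left h2
  have hcinv : c⁻¹ = t₂ * t₁ := by rw [← hc, mul_inv_rev, ht1, ht2]
  have hyinv := IsPPart.inv' hy
  constructor
  · have h3 := IsPPart.conj hy t₁
    have h4 : t₁ * c * t₁⁻¹ = c⁻¹ := by
      rw [hcinv, ← hc, ht1]
      calc t₁ * (t₁ * t₂) * t₁ = (t₁ * t₁) * t₂ * t₁ := by group
        _ = t₂ * t₁ := by rw [h1, one_mul]
    rw [h4] at h3
    exact IsPPart.unique hp h3 hyinv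
  · have h3 := IsPPart.conj hy t₂
    have h4 : t₂ * c * t₂⁻¹ = c⁻¹ := by
      rw [hcinv, ← hc, ht2]
      calc t₂ * (t₁ * t₂) * t₂ = t₂ * t₁ * (t₂ * t₂) := by group
        _ = t₂ * t₁ := by rw [h2, mul_one]
    rw [h4] at h3
    exact IsPPart.unique hp h3 hyinv

/-- the third power of an element of the normalizer lies in the centralizer -/
theorem pow_three_mem_centralizer (P : Sylow p G)
    (hCN : (Subgroup.centralizer ((P : Subgroup G) : Set G)).relIndex
      (Subgroup.normalizer ((P : Subgroup G) : Set G)) = 3)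
    (n : G) (hn : n ∈ Subgroup.normalizer ((P : Subgroup G) : Set G)) :
    n ^ 3 ∈ Subgroup.centralizer ((P : Subgroup G) : Set G) := by
  have h1 := Subgroup.pow_index_mem
    ((Subgroup.centralizer ((P : Subgroup G) : Set G)).subgroupOf
      (Subgroup.normalizer ((P : Subgroup G) : Set G)))
    (⟨n, hn⟩ : Subgroup.normalizer ((P : Subgroup G) : Set G))
  have h2 : ((Subgroup.centralizer ((P : Subgroup G) : Set G)).subgroupOf
      (Subgroup.normalizer ((P : Subgroup G) : Set G))).index = 3 := hCN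
  rw [h2, Subgroup.mem_subgroupOf] at h1
  simpa using h1

/-- a nonidentity element of `P` conjugate to its inverse is an involution -/
theorem eq_inv_of_isConj_inv (P : Sylow p G) (hab : IsMulCommutative P)
    (hfrob : ∀ y : G, y ∈ (P : Subgroup G) → y ≠ 1 →
      Subgroup.centralizer ({y} : Set G) ⊓ Subgroup.normalizer ((P : Subgroup G) : Set G)
        = Subgroup.centralizer ((P : Subgroup G) : Set G))
    (hCN : (Subgroup.centralizer ((P : Subgroup G) : Set G)).relIndex
      (Subgroup.normalizer ((P : Subgroup G) : Set G)) = 3)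
    (y : G) (hy : y ∈ (P : Subgroup G)) (hy1 : y ≠ 1) (hc : IsConj y y⁻¹) : y⁻¹ = y := by
  obtain ⟨n, hn, hny⟩ := bl_exists_normalizer_conj P hab y y⁻¹ hy (Subgroup.inv_mem _ hy) hc
  have hn2 : n ^ 2 ∈ Subgroup.normalizer ((P : Subgroup G) : Set G) := Subgroup.pow_mem _ hn 2
  have h1 : n ^ 2 * y * (n ^ 2)⁻¹ = y := by
    calc n ^ 2 * y * (n ^ 2)⁻¹ = (n * n) * y * (n * n)⁻¹ := by rw [sq]
      _ = n * (n * y * n⁻¹) * n⁻¹ := by group
      _ = n * y⁻¹ * n⁻¹ := by rw [hny]
      _ = (n * y * n⁻¹)⁻¹ := by group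
      _ = y := by rw [hny, inv_inv]
  have h2 := (mem_centralizer_of_conj_eq P hab hfrob y hy hy1 (n ^ 2) hn2).mp h1
  have h3 := pow_three_mem_centralizer P hCN n hn
  have h4 : n ∈ Subgroup.centralizer ((P : Subgroup G) : Set G) := by
    have : n = n ^ 3 * (n ^ 2)⁻¹ := by
      rw [pow_succ' n 2, mul_inv_cancel_right]
    rw [this]
    exact Subgroup.mul_mem _ h3 (Subgroup.inv_mem _ h2)
  have h5 := (mem_centralizer_of_conj_eq P hab hfrob y hy hy1 n hn).mpr h4
  rw [← hny, h5]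

/-- for odd `p` no element with `p`-part in `P \ 1` is a product of two conjugate involutions -/
theorem no_product_of_involutions_odd (P : Sylow p G) (hab : IsMulCommutative P)
    (hfrob : ∀ y : G, y ∈ (P : Subgroup G) → y ≠ 1 →
      Subgroup.centralizer ({y} : Set G) ⊓ Subgroup.normalizer ((P : Subgroup G) : Set G)
        = Subgroup.centralizer ((P : Subgroup G) : Set G))
    (hCN : (Subgroup.centralizer ((P : Subgroup G) : Set G)).relIndex
      (Subgroup.normalizer ((P : Subgroup G) : Set G)) = 3)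
    (hp2 : p ≠ 2) (t : G) (ht : orderOf t = 2)
    (y : G) (hy : y ∈ (P : Subgroup G)) (hy1 : y ≠ 1) (c : G) (hcy : Cfsg.IsPPart p c y)
    (g h : G) : g * t * g⁻¹ * (h * t * h⁻¹) ≠ c := by
  have hp : p.Prime := Fact.out
  intro hc
  have htt : t * t = 1 := by
    have := pow_orderOf_eq_one t
    rw [ht, sq] at this
    exact this
  have h1 : (g * t * g⁻¹) * (g * t * g⁻¹) = 1 := by
    calc (g * t * g⁻¹) * (g * t * g⁻¹) = g * (t * t) * g⁻¹ := by group
      _ = 1 := by rw [htt]; group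
  have h2 : (h * t * h⁻¹) * (h * t * h⁻¹) = 1 := by
    calc (h * t * h⁻¹) * (h * t * h⁻¹) = h * (t * t) * h⁻¹ := by group
      _ = 1 := by rw [htt]; group
  obtain ⟨h3, _⟩ := conj_pPart_of_product_involutions (p := p) _ _ c y h1 h2 hc hcy
  have h4 : IsConj y y⁻¹ := isConj_iff.mpr ⟨_, h3⟩
  have h5 := eq_inv_of_isConj_inv P hab hfrob hCN y hy hy1 h4
  have h6 : y ^ 2 = 1 := by
    rw [sq]
    nth_rewrite 1 [← h5]
    exact inv_mul_cancel y
  obtain ⟨_, _, _, ⟨k, hk⟩, _⟩ := hcy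
  have h7 : orderOf y ∣ 2 := orderOf_dvd_of_pow_eq_one h6
  rw [hk] at h7
  have hk0 : k = 0 := by
    by_contra hk0
    have : p ∣ 2 := dvd_trans (dvd_pow_self p hk0) h7
    exact hp2 ((Nat.prime_dvd_prime_iff_eq hp Nat.prime_two).mp this)
  rw [hk0, pow_zero] at hk
  exact hy1 (orderOf_eq_one_iff.mp hk)

end inv

end Cfsg.Agent.Lib.Helper6
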