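import Mathlib
import Cfsg.Prelude.Def_Solvable

set_option autoImplicit false
set_option linter.unusedSectionVars false
open Cfsg

namespace Cfsg.Agent.Lib.Helper6

section kleinFour

variable {C : Type*} [Group C] [Finite C]

/-- a `2`-element normalizing a Sylow `2`-subgroup lies in it -/
theorem mem_sylow_of_mem_normalizer_of_pow {p : ℕ} [Fact p.Prime] (Q : Sylow p C) (g : C)
    (hg : g ∈ Subgroup.normalizer ((Q : Subgroup C) : Set C)) (j : ℕ) (hj : orderOf g = p ^ j) :
    g ∈ (Q : Subgroup C) := by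
  have hP : IsPGroup p (Subgroup.zpowers g) := by
    apply IsPGroup.of_card (n := j)
    rw [Nat.card_zpowers, hj]
  have h1 := hP.inf_normalizer_sylow Q
  exact (h1.le ⟨Subgroup.mem_zpowers g, hg⟩).2

/-- in a group with a central involution `z` lying in a Klein four Sylow `2`-subgroup `Q`,
the normalizer of `Q` centralizes `Q` -/
theorem normalizer_le_centralizer_of_kleinFour (Q : Sylow 2 C) (hQ : IsKleinFour (Q : Subgroup C))
    (z : C) (hzQ : z ∈ (Q : Subgroup C)) (hz2 : orderOf z = 2) (hzc : ∀ g : C, g * z = z * g) :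
    Subgroup.normalizer ((Q : Subgroup C) : Set C) ≤ Subgroup.centralizer ((Q : Subgroup C) : Set C) := by
  classical
  have : Fact (Nat.Prime 2) := ⟨Nat.prime_two⟩
  intro n hn
  have hcomm : ∀ a b : C, a ∈ (Q : Subgroup C) → b ∈ (Q : Subgroup C) → a * b = b * a := by
    intro a b ha hb
    have h1 := mul_comm_of_exponent_two (hQ.exponent_two) (⟨a, ha⟩ : (Q : Subgroup C)) ⟨b, hb⟩
    exact congrArg (fun t : (Q : Subgroup C) => (t : C)) h1
  have hzz : z * z = 1 := by
    rw [← sq, ← hz2, pow_orderOf_eq_one]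
  -- the subgroup generated by `z` inside `Q` has index two
  obtain ⟨Z, hZ⟩ : ∃ Z : Subgroup (Q : Subgroup C), Z = Subgroup.zpowers (⟨z, hzQ⟩ : (Q : Subgroup C)) :=
    ⟨_, rfl⟩
  have hZcard : Nat.card Z = 2 := by
    rw [hZ, Nat.card_zpowers, ← Subgroup.orderOf_coe]
    exact hz2
  have hZidx : Z.index = 2 := by
    have h1 := Subgroup.card_mul_index Z
    rw [hZcard, hQ.card_four] at h1
    omega
  have hZmem : ∀ w : (Q : Subgroup C), w ∈ Z ↔ ((w : C) = 1 ∨ (w : C) = z) := by
    intro w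
    rw [hZ]
    constructor
    · intro hw
      obtain ⟨i, hi⟩ := Subgroup.mem_zpowers_iff.mp hw
      have h1 : (w : C) = z ^ i := by
        rw [← hi]
        simp
      rcases Int.even_or_odd i with ⟨k, hk⟩ | ⟨k, hk⟩
      · left
        rw [h1, hk, ← two_mul, zpow_mul, zpow_ofNat, sq, hzz, one_zpow]
      · right
        rw [h1, hk, zpow_add, zpow_mul, zpow_ofNat, sq, hzz, one_zpow, one_mul, zpow_one]
    · rintro (h | h)
      · have : w = 1 := Subtype.ext h
        rw [this]
        exact one_mem _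
      · have : w = ⟨z, hzQ⟩ := Subtype.ext h
        rw [this]
        exact Subgroup.mem_zpowers _
  -- conjugation by `n` moves `w` inside its coset
  have hconjmem : ∀ w : C, w ∈ (Q : Subgroup C) → n * w * n⁻¹ ∈ (Q : Subgroup C) := by
    intro w hw
    exact (Subgroup.mem_normalizer_iff.mp hn w).mp hw
  have hstep : ∀ w : C, w ∈ (Q : Subgroup C) → (n * w * n⁻¹ = w ∨ n * w * n⁻¹ = w * z) := by
    intro w hw
    have hw' := hconjmem w hw
    have h1 : ((⟨w, hw⟩ : (Q : Subgroup C)) ∈ Z ↔ (⟨n * w * n⁻¹, hw'⟩ : (Q : Subgroup C)) ∈ Z) := by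
      rw [hZmem, hZmem]
      simp only
      constructor
      · rintro (h | h)
        · left; rw [h]; group
        · right; rw [h, hzc n, mul_assoc, mul_inv_cancel, mul_one]
      · rintro (h | h)
        · left
          have : w = n⁻¹ * (n * w * n⁻¹) * n := by group
          rw [this, h]; group
        · right
          have : w = n⁻¹ * (n * w * n⁻¹) * n := by group
          rw [this, h, mul_assoc, ← hzc n, ← mul_assoc, inv_mul_cancel, one_mul]
    have h2 : ((⟨w, hw⟩ : (Q : Subgroup C))⁻¹ * (⟨n * w * n⁻¹, hw'⟩ : (Q : Subgroup C))) ∈ Z := by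
      rw [Subgroup.mul_mem_iff_of_index_two hZidx, inv_mem_iff]
      exact h1
    rw [hZmem] at h2
    rcases h2 with h | h
    · left
      have h3 : w⁻¹ * (n * w * n⁻¹) = 1 := h
      exact (inv_mul_eq_one.mp h3).symm
    · right
      have h3 : w⁻¹ * (n * w * n⁻¹) = z := h
      rw [← h3]
      group
  have hsq : ∀ w : C, w ∈ (Q : Subgroup C) → n ^ 2 * w = w * n ^ 2 := by
    intro w hw
    have h1 : n ^ 2 * w * (n ^ 2)⁻¹ = w := by
      have : n ^ 2 * w * (n ^ 2)⁻¹ = n * (n * w * n⁻¹) * n⁻¹ := by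
        rw [sq]; group
      rw [this]
      rcases hstep w hw with h | h
      · rw [h, h]
      · rw [h]
        have : n * (w * z) * n⁻¹ = (n * w * n⁻¹) * (n * z * n⁻¹) := by group
        rw [this, h, hzc n, mul_assoc z, mul_inv_cancel, mul_one, mul_assoc, hzz, mul_one]
    calc n ^ 2 * w = n ^ 2 * w * (n ^ 2)⁻¹ * n ^ 2 := by
          rw [inv_mul_cancel_right]
      _ = w * n ^ 2 := by rw [h1]
  -- the odd part of the order
  have hord : orderOf n ≠ 0 := (orderOf_pos n).ne'
  obtain ⟨j, t, ht, hjt⟩ := Nat.exists_eq_two_pow_mul_odd hord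
  have hnt : n ^ t ∈ (Q : Subgroup C) := by
    apply mem_sylow_of_mem_normalizer_of_pow Q (n ^ t) (Subgroup.pow_mem _ hn t) j
    rw [orderOf_pow' n ht.pos.ne', hjt, Nat.gcd_mul_left_left, Nat.mul_div_cancel _ ht.pos]
  -- conclusion
  rw [Subgroup.mem_centralizer_iff]
  intro w hw
  have hw' : w ∈ (Q : Subgroup C) := hw
  have h1 : n ^ t * w = w * n ^ t := hcomm _ _ hnt hw'
  have h2 := hsq w hw'
  obtain ⟨u, hu⟩ := ht
  have h3 : n = n ^ t * ((n ^ 2) ^ u)⁻¹ := by
    rw [hu, ← pow_mul, pow_succ, ← (Commute.self_pow n (2 * u)).eq, mul_inv_cancel_right]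
  have h4 : (n ^ 2) ^ u * w = w * (n ^ 2) ^ u := by
    have hc : Commute (n ^ 2) w := h2
    exact (hc.pow_left u).eq
  have h5 : ((n ^ 2) ^ u)⁻¹ * w = w * ((n ^ 2) ^ u)⁻¹ := by
    have hc : Commute ((n ^ 2) ^ u) w := h4
    exact hc.inv_left.eq
  have hcn : Commute n w := by
    rw [h3]
    exact Commute.mul_left h1 h5
  exact hcn.eq.symm

end kleinFour

section centralizer

variable {G : Type*} [Group G] [Finite G]

/-- a Klein four Sylow `2`-subgroup is commutative -/
theorem kleinFour_comm (P : Subgroup G) (hP : IsKleinFour P) (a b : G) (ha : a ∈ P) (hb : b ∈ P) :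
    a * b = b * a := by
  have h1 := mul_comm_of_exponent_two (hP.exponent_two) (⟨a, ha⟩ : P) ⟨b, hb⟩
  exact congrArg (fun t : P => (t : G)) h1

/-- the centralizer of an involution of a Klein four Sylow `2`-subgroup has a normal
`2`-complement -/
theorem centralizer_involution_index_pPrimeCore (P : Sylow 2 G)
    (hP : IsKleinFour (P : Subgroup G)) (z : G) (hzP : z ∈ (P : Subgroup G))
    (hz2 : orderOf z = 2) :
    ∃ k : ℕ, (Cfsg.pPrimeCore 2 (Subgroup.centralizer ({z} : Set G))).index = 2 ^ k := by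
  classical
  have : Fact (Nat.Prime 2) := ⟨Nat.prime_two⟩
  have hPC : (P : Subgroup G) ≤ Subgroup.centralizer ({z} : Set G) := by
    intro w hw
    rw [Subgroup.mem_centralizer_singleton_iff]
    exact kleinFour_comm _ hP w z hw hzP
  obtain ⟨Q, hQdef⟩ : ∃ Q : Sylow 2 (Subgroup.centralizer ({z} : Set G)), Q = P.subtype hPC :=
    ⟨_, rfl⟩
  have hQcoe : (Q : Subgroup (Subgroup.centralizer ({z} : Set G)))
      = (P : Subgroup G).subgroupOf (Subgroup.centralizer ({z} : Set G)) := by
    rw [hQdef]; rfl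
  obtain ⟨e, _⟩ : ∃ e : ↥((P : Subgroup G).subgroupOf (Subgroup.centralizer ({z} : Set G)))
      ≃* ↥(P : Subgroup G), e = Subgroup.subgroupOfEquivOfLe hPC := ⟨_, rfl⟩
  have hQK : IsKleinFour (Q : Subgroup (Subgroup.centralizer ({z} : Set G))) := by
    rw [hQcoe]
    constructor
    · rw [Nat.card_congr e.toEquiv]
      exact hP.card_four
    · rw [Monoid.exponent_eq_of_mulEquiv e]
      exact hP.exponent_two
  have hzC : z ∈ Subgroup.centralizer ({z} : Set G) := by
    rw [Subgroup.mem_centralizer_singleton_iff]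
  have hNC := normalizer_le_centralizer_of_kleinFour Q hQK ⟨z, hzC⟩
    (by rw [hQcoe, Subgroup.mem_subgroupOf]; exact hzP)
    (by rw [← Subgroup.orderOf_coe]; exact hz2)
    (by
      intro g
      apply Subtype.ext
      have := g.2
      rw [Subgroup.mem_centralizer_singleton_iff] at this
      exact this)
  obtain ⟨K, hK⟩ : ∃ K : Subgroup (Subgroup.centralizer ({z} : Set G)),
      K = (MonoidHom.transferSylow Q hNC).ker := ⟨_, rfl⟩
  have hcompl : Subgroup.IsComplement' K (Q : Subgroup (Subgroup.centralizer ({z} : Set G))) := by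
    rw [hK]
    exact MonoidHom.ker_transferSylow_isComplement' Q hNC
  have hKidx : K.index = 4 := by
    rw [hcompl.symm.index_eq_card]
    exact hQK.card_four
  have hKcop : (Nat.card K).Coprime 2 := by
    rw [Nat.coprime_comm, Nat.Prime.coprime_iff_not_dvd Nat.prime_two, hK]
    exact MonoidHom.not_dvd_card_ker_transferSylow Q hNC
  have hKn : K.Normal := by
    rw [hK]
    exact MonoidHom.normal_ker _
  have hle : K ≤ Cfsg.pPrimeCore 2 (Subgroup.centralizer ({z} : Set G)) :=
    le_sSup ⟨hKn, hKcop⟩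
  have hdvd := Subgroup.index_dvd_of_le hle
  rw [hKidx] at hdvd
  have h4 : (4 : ℕ) = 2 ^ 2 := by norm_num
  rw [h4] at hdvd
  obtain ⟨k, _, hk⟩ := (Nat.dvd_prime_pow Nat.prime_two).mp hdvd
  exact ⟨k, hk⟩

end centralizer

end Cfsg.Agent.Lib.Helper6
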