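import Mathlib
import Cfsg.Prelude.Def_Blocks
import Cfsg.Agent.Lib.Helper6.KleinFour
import Cfsg.Agent.Lib.Helper6.BlkDim
import Cfsg.Agent.Lib.Helper6.BlkOrthFull
import Cfsg.Agent.S0947
import Cfsg.Agent.S0944
import Cfsg.Agent.S4710

set_option autoImplicit false
set_option linter.unusedSectionVars false
open Cfsg

namespace Cfsg.Agent.Lib.Helper6

open scoped ComplexConjugate

section arith

/-- odd integers whose squares add up to `4` -/
theorem card_eq_four_of_sum_odd_sq {α : Type*} (S : Finset α) (n : α → ℤ)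
    (hodd : ∀ a ∈ S, Odd (n a)) (hsum : ∑ a ∈ S, n a ^ 2 = 4) :
    S.card = 4 ∧ ∀ a ∈ S, n a = 1 ∨ n a = -1 := by
  have h1 : ∀ a ∈ S, n a = 1 ∨ n a = -1 := by
    intro a ha
    have h2 : n a ^ 2 ≤ ∑ b ∈ S, n b ^ 2 :=
      Finset.single_le_sum (f := fun b => n b ^ 2) (fun b _ => sq_nonneg (n b)) ha
    rw [hsum] at h2
    have h3 : -2 ≤ n a ∧ n a ≤ 2 := by
      constructor <;> nlinarith
    obtain ⟨k, hk⟩ := hodd a ha
    omega
  refine ⟨?_, h1⟩
  have h2 : ∑ a ∈ S, n a ^ 2 = ∑ a ∈ S, (1 : ℤ) := by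
    apply Finset.sum_congr rfl
    intro a ha
    rcases h1 a ha with h | h <;> rw [h] <;> norm_num
  rw [hsum, Finset.sum_const, nsmul_eq_mul, mul_one] at h2
  exact_mod_cast h2.symm

end arith

section block

variable {G : Type*} [Group G] [Fintype G] [DecidableEq G]
variable {M : Ideal Cfsg.AlgInt}

/-- existence of an involution in a Klein four group -/
theorem exists_involution_of_kleinFour (P : Subgroup G) (hP : IsKleinFour P) :
    ∃ z ∈ P, orderOf z = 2 := by
  have hnt : Nontrivial P := by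
    rw [← Finite.one_lt_card_iff_nontrivial, hP.card_four]
    norm_num
  obtain ⟨w, hw⟩ := exists_ne (1 : P)
  refine ⟨(w : G), w.2, ?_⟩
  have h1 : orderOf w ∣ 2 := by
    rw [← hP.exponent_two]
    exact Monoid.order_dvd_exponent w
  rw [Subgroup.orderOf_coe]
  rcases (Nat.dvd_prime Nat.prime_two).mp h1 with h | h
  · exact absurd (orderOf_eq_one_iff.mp h) hw
  · exact h

/-- every non-identity element of a Klein four group is an involution -/
theorem orderOf_eq_two_of_kleinFour (P : Subgroup G) (hP : IsKleinFour P) (w : G) (hw : w ∈ P)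
    (hw1 : w ≠ 1) : orderOf w = 2 := by
  have h1 : orderOf (⟨w, hw⟩ : P) ∣ 2 := by
    rw [← hP.exponent_two]
    exact Monoid.order_dvd_exponent _
  rw [← Subgroup.orderOf_coe] at h1
  rcases (Nat.dvd_prime Nat.prime_two).mp h1 with h | h
  · exact absurd (orderOf_eq_one_iff.mp h) hw1
  · exact h

/-- degrees modulo `4` when all involutions of a Klein four subgroup are conjugate -/
theorem four_dvd_degree_sub_of_kleinFour (P : Subgroup G) (hP : IsKleinFour P)
    {χ : G → ℂ} (hχ : Cfsg.IsCharacter G χ) (n : ℤ)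
    (hval : ∀ w ∈ P, w ≠ 1 → χ w = (n : ℂ)) :
    (4 : ℤ) ∣ (Cfsg.charDegree χ : ℤ) - n := by
  classical
  have : Fintype P := Fintype.ofFinite _
  have h1 := trivMult_spec P hχ
  rw [finsum_eq_sum_of_fintype, hP.card_four] at h1
  have h2 : ∑ x : P, χ x = χ 1 + 3 * (n : ℂ) := by
    rw [← Finset.add_sum_erase Finset.univ (fun x : P => χ x) (Finset.mem_univ (1 : P))]
    congr 1
    have h3 : ∀ x ∈ Finset.univ.erase (1 : P), χ (x : G) = (n : ℂ) := by
      intro x hx
      rw [Finset.mem_erase] at hx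
      apply hval x x.2
      intro h
      apply hx.1
      exact Subtype.ext h
    rw [Finset.sum_congr rfl h3, Finset.sum_const, Finset.card_erase_of_mem (Finset.mem_univ _),
      Finset.card_univ, ← Nat.card_eq_fintype_card, hP.card_four]
    norm_num
  rw [h2, IsCharacter.apply_one_eq_charDegree hχ] at h1
  have h4 : ((Cfsg.charDegree χ : ℤ) : ℂ) + 3 * (n : ℂ) = ((4 * (trivMult P χ : ℤ) : ℤ) : ℂ) := by
    have : ((4 : ℕ) : ℂ) ≠ 0 := by norm_num
    push_cast
    push_cast at h1
    field_simp at h1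
    linear_combination h1
  have h5 : (Cfsg.charDegree χ : ℤ) + 3 * n = 4 * (trivMult P χ : ℤ) := by
    exact_mod_cast h4
  exact ⟨(trivMult P χ : ℤ) - n, by linarith⟩

/-- the principal `2`-block of a group with Klein four Sylow `2`-subgroup has four members, all
taking the value `±1` at the involution `z` -/
theorem kleinFour_principalBlock_values (hM : Cfsg.IsPModular 2 M) (P : Sylow 2 G)
    (hP : IsKleinFour (P : Subgroup G)) (z : G) (hzP : z ∈ (P : Subgroup G))
    (hz2 : orderOf z = 2) [Fintype (Cfsg.IrrCharacter G)]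
    [DecidablePred (· ∈ Cfsg.principalBlock M G)] :
    ∃ n : Cfsg.IrrCharacter G → ℤ,
      (∀ ζ : Cfsg.IrrCharacter G, (ζ : G → ℂ) z = (n ζ : ℂ)) ∧
      (Finset.univ.filter (· ∈ Cfsg.principalBlock M G)).card = 4 ∧
      ∀ ζ ∈ Cfsg.principalBlock M G, n ζ = 1 ∨ n ζ = -1 := by
  classical
  have : Fact (Nat.Prime 2) := ⟨Nat.prime_two⟩
  have hz1 : z ≠ 1 := by
    intro h
    rw [h, orderOf_one] at hz2
    norm_num at hz2
  have hC := centralizer_involution_index_pPrimeCore P hP z hzP hz2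
  have h947 := (Cfsg.Agent.S0947.result 2 M hM z ⟨1, by rw [hz2, pow_one]⟩ hz1
    (1 : Subgroup.centralizer ({z} : Set G)) (by rw [orderOf_one]; norm_num)).2 hC
  rw [Subgroup.coe_one, mul_one] at h947
  -- the 2-part of the order of the centralizer
  have hPcard : Nat.card (P : Subgroup G) = 2 ^ (Nat.card G).factorization 2 :=
    Sylow.card_eq_multiplicity P
  have ha : (Nat.card G).factorization 2 = 2 := by
    rw [hP.card_four] at hPcard
    have h4 : (4 : ℕ) = 2 ^ 2 := by norm_num
    rw [h4] at hPcard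
    exact (Nat.pow_right_injective (le_refl 2) hPcard).symm
  have hPC : (P : Subgroup G) ≤ Subgroup.centralizer ({z} : Set G) := by
    intro w hw
    rw [Subgroup.mem_centralizer_singleton_iff]
    exact kleinFour_comm _ hP w z hw hzP
  have hCfac : (Nat.card (Subgroup.centralizer ({z} : Set G))).factorization 2 = 2 := by
    have h1 : Nat.card (P : Subgroup G) ∣ Nat.card (Subgroup.centralizer ({z} : Set G)) :=
      Subgroup.card_dvd_of_le hPC
    have h2 : Nat.card (Subgroup.centralizer ({z} : Set G)) ∣ Nat.card G :=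
      Subgroup.card_subgroup_dvd_card _
    have h3 := (Nat.factorization_le_iff_dvd Nat.card_pos.ne' Nat.card_pos.ne').mpr h1 2
    have h4 := (Nat.factorization_le_iff_dvd Nat.card_pos.ne' Nat.card_pos.ne').mpr h2 2
    rw [hP.card_four] at h3
    have h5 : (4 : ℕ).factorization 2 = 2 := by
      have : (4 : ℕ) = 2 ^ 2 := by norm_num
      rw [this, Nat.Prime.factorization_pow Nat.prime_two]
      simp
    rw [h5] at h3
    rw [ha] at h4
    omega
  rw [hCfac] at h947
  -- integer values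
  have hval : ∀ ζ : Cfsg.IrrCharacter G, ∃ n : ℤ, (ζ : G → ℂ) z = (n : ℂ) ∧
      (2 : ℤ) ∣ (Cfsg.charDegree (ζ : G → ℂ) : ℤ) - n :=
    fun ζ => Cfsg.Agent.S0944.result ζ z hz2
  choose n hn1 hn2 using hval
  refine ⟨n, hn1, ?_⟩
  -- odd degrees in the principal block
  have hdef : Cfsg.blockDefect 2 (Cfsg.principalBlock M G) = 2 := by
    rw [blockDefect_principal hM, ha]
  have hheight := (Cfsg.Agent.S4710.result 2 M hM (Cfsg.principalBlock M G) ⟨oneIrr G, rfl⟩ 2
    hdef).2
  have hone : oneIrr G ∈ Cfsg.principalBlock M G := by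
    rw [principalBlock_eq]; exact sameBlock_refl hM _
  have hdegodd : ∀ ζ ∈ Cfsg.principalBlock M G, Odd (Cfsg.charDegree (ζ : G → ℂ)) := by
    intro ζ hζ
    have h1 := (hheight ζ hζ).2 (le_refl 2)
    have h2 := factorization_eq_sInf_add_height (p := 2) (Cfsg.principalBlock M G) ζ hζ
    have h3 := factorization_card_eq_sInf_add_defect (p := 2) (Cfsg.principalBlock M G)
      (oneIrr G) hone
    rw [hdef, ha] at h3
    have h4 : (Cfsg.charDegree (ζ : G → ℂ)).factorization 2 = 0 := by omega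
    rw [Nat.factorization_eq_zero_iff] at h4
    rcases h4 with h | h | h
    · exact absurd Nat.prime_two h
    · rw [← Nat.not_even_iff_odd, even_iff_two_dvd]; exact h
    · exact absurd h (charDegree_ne_zero ζ)
  have hnodd : ∀ ζ ∈ Finset.univ.filter (· ∈ Cfsg.principalBlock M G), Odd (n ζ) := by
    intro ζ hζ
    rw [Finset.mem_filter] at hζ
    have h1 := hdegodd ζ hζ.2
    have h2 := hn2 ζ
    obtain ⟨k, hk⟩ := h1
    obtain ⟨c, hc⟩ := h2
    rw [hk] at hc
    push_cast at hc
    exact ⟨k - c, by linarith⟩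
  have hsum : ∑ ζ ∈ Finset.univ.filter (· ∈ Cfsg.principalBlock M G), n ζ ^ 2 = 4 := by
    rw [finsum_mem_eq_sum_filter_lib] at h947
    have h1 : ∀ ζ : Cfsg.IrrCharacter G, ‖(ζ : G → ℂ) z‖ ^ 2 = ((n ζ ^ 2 : ℤ) : ℝ) := by
      intro ζ
      rw [hn1 ζ, Complex.norm_intCast, sq_abs]
      push_cast
      rfl
    simp_rw [h1] at h947
    have h2 : ((∑ ζ ∈ Finset.univ.filter (· ∈ Cfsg.principalBlock M G), n ζ ^ 2 : ℤ) : ℝ)
        = ((4 : ℤ) : ℝ) := by
      rw [Int.cast_sum, h947]
      norm_num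
    exact_mod_cast h2
  obtain ⟨hcard, hpm⟩ := card_eq_four_of_sum_odd_sq _ n hnodd hsum
  refine ⟨hcard, ?_⟩
  intro ζ hζ
  exact hpm ζ (by rw [Finset.mem_filter]; exact ⟨Finset.mem_univ _, hζ⟩)

end block

end Cfsg.Agent.Lib.Helper6
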