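import Mathlib
import Cfsg.Prelude.Def_Transfer
import Cfsg.Agent.Lib.Helper1.NormalPComplement
import Cfsg.Agent.Lib.Helper2.PNilpotentQuot

set_option autoImplicit false
set_option linter.unusedSectionVars false

/-!
# Groups with a quaternion Sylow `2`-subgroup of order `8`: fusion

The elementwise properties of `Q₈` are packaged in `Q8Data`.  If the centre of `G` is generated
by the involution of `S`, `O(G) = 1` and `G ≠ S`, then `G / Z(G)` has a Klein four Sylow
`2`-subgroup whose normalizer does not centralize it.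
-/

namespace Cfsg.Agent.Lib.Helper6.Q8

open QuaternionGroup

theorem q8_sq : ∀ x : QuaternionGroup 2, x * x = 1 ∨ x * x = a 2 := by decide
theorem q8_invol : ∀ x : QuaternionGroup 2, x * x = 1 → x = 1 ∨ x = a 2 := by decide
theorem q8_cent : ∀ u y : QuaternionGroup 2, u * u ≠ 1 → u * y = y * u →
    y = 1 ∨ y = u ∨ y = u * u ∨ y = u * u * u := by decide
theorem q8_inv_conj : ∀ u : QuaternionGroup 2, ∃ s : QuaternionGroup 2, s * u * s⁻¹ = u⁻¹ := by
  decide
theorem q8_pow4 : ∀ x : QuaternionGroup 2, x * x * x * x = 1 := by decide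
theorem q8_a1 : (a 1 : QuaternionGroup 2) * a 1 ≠ 1 := by decide
theorem q8_a2 : (a 2 : QuaternionGroup 2) ≠ 1 := by decide
theorem q8_a2_sq : (a 2 : QuaternionGroup 2) * a 2 = 1 := by decide

variable {G : Type*} [Group G]

/-- the elementwise properties of a quaternion subgroup of order `8` with involution `z` -/
structure Q8Data (S : Subgroup G) (z : G) : Prop where
  card : Nat.card S = 8
  z_mem : z ∈ S
  z_ne : z ≠ 1
  z_sq : z * z = 1
  sq : ∀ x ∈ S, x * x = 1 ∨ x * x = z
  invol : ∀ x ∈ S, x * x = 1 → x = 1 ∨ x = z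
  cent : ∀ u ∈ S, ∀ y ∈ S, u * u ≠ 1 → u * y = y * u →
    y = 1 ∨ y = u ∨ y = u * u ∨ y = u * u * u
  inv_conj : ∀ u ∈ S, ∃ s ∈ S, s * u * s⁻¹ = u⁻¹
  pow4 : ∀ x ∈ S, x * x * x * x = 1
  exists4 : ∃ u ∈ S, u * u ≠ 1

theorem Q8Data.of_equiv {S : Subgroup G} (e : S ≃* QuaternionGroup 2) :
    Q8Data S ((e.symm (a 2) : S) : G) := by
  have hcoe : ∀ x y : S, ((x * y : S) : G) = (x : G) * (y : G) := fun x y => rfl
  have key : ∀ x : S, ∀ w : QuaternionGroup 2, e x = w ↔ x = e.symm w := by
    intro x w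
    constructor
    · intro h
      rw [← h, MulEquiv.symm_apply_apply]
    · intro h
      rw [h, MulEquiv.apply_symm_apply]
  refine ⟨?_, (e.symm (a 2)).2, ?_, ?_, ?_, ?_, ?_, ?_, ?_, ?_⟩
  · rw [Nat.card_congr e.toEquiv, Nat.card_eq_fintype_card, QuaternionGroup.card]
  · intro h
    have h1 : e.symm (a 2) = 1 := Subtype.ext h
    have h2 : (a 2 : QuaternionGroup 2) = 1 := by
      rw [← e.apply_symm_apply (a 2), h1, map_one]
    exact q8_a2 h2
  · have h1 : e.symm (a 2) * e.symm (a 2) = 1 := by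
      rw [← map_mul, q8_a2_sq, map_one]
    exact congrArg Subtype.val h1
  · intro x hx
    rcases q8_sq (e ⟨x, hx⟩) with h | h
    · left
      rw [← map_mul, ← e.map_one] at h
      exact congrArg Subtype.val (e.injective h)
    · right
      rw [← map_mul, key] at h
      exact congrArg Subtype.val h
  · intro x hx hxx
    have h1 : e ⟨x, hx⟩ * e ⟨x, hx⟩ = 1 := by
      rw [← map_mul]
      have : (⟨x, hx⟩ : S) * ⟨x, hx⟩ = 1 := Subtype.ext hxx
      rw [this, map_one]
    rcases q8_invol _ h1 with h | h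
    · left
      rw [← e.map_one] at h
      exact congrArg Subtype.val (e.injective h)
    · right
      rw [key] at h
      exact congrArg Subtype.val h
  · intro u hu y hy huu huy
    have h1 : e ⟨u, hu⟩ * e ⟨u, hu⟩ ≠ 1 := by
      intro h
      rw [← map_mul, ← e.map_one] at h
      exact huu (congrArg Subtype.val (e.injective h))
    have h2 : e ⟨u, hu⟩ * e ⟨y, hy⟩ = e ⟨y, hy⟩ * e ⟨u, hu⟩ := by
      rw [← map_mul, ← map_mul]
      congr 1
      exact Subtype.ext huy
    rcases q8_cent _ _ h1 h2 with h | h | h | h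
    · left
      rw [← e.map_one] at h
      exact congrArg Subtype.val (e.injective h)
    · right; left
      exact congrArg Subtype.val (e.injective h)
    · right; right; left
      rw [← map_mul] at h
      exact congrArg Subtype.val (e.injective h)
    · right; right; right
      rw [← map_mul, ← map_mul] at h
      exact congrArg Subtype.val (e.injective h)
  · intro u hu
    obtain ⟨s, hs⟩ := q8_inv_conj (e ⟨u, hu⟩)
    refine ⟨(e.symm s : S), (e.symm s).2, ?_⟩
    have h1 : e.symm s * ⟨u, hu⟩ * (e.symm s)⁻¹ = (⟨u, hu⟩ : S)⁻¹ := by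
      apply e.injective
      rw [map_mul, map_mul, map_inv, map_inv, e.apply_symm_apply]
      exact hs
    exact congrArg Subtype.val h1
  · intro x hx
    have h1 := q8_pow4 (e ⟨x, hx⟩)
    rw [← map_mul, ← map_mul, ← map_mul, ← e.map_one] at h1
    exact congrArg Subtype.val (e.injective h1)
  · refine ⟨(e.symm (a 1) : S), (e.symm (a 1)).2, ?_⟩
    intro h
    have h1 : e.symm (a 1) * e.symm (a 1) = 1 := Subtype.ext h
    rw [← map_mul] at h1
    have h2 : (a 1 : QuaternionGroup 2) * a 1 = 1 := by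
      rw [← e.apply_symm_apply (a 1 * a 1), h1, map_one]
    exact q8_a1 h2

theorem Q8Data.cube_eq_inv {S : Subgroup G} {z : G} (h : Q8Data S z) {u : G} (hu : u ∈ S) :
    u * u * u = u⁻¹ := by
  have := h.pow4 u hu
  exact eq_inv_of_mul_eq_one_left this

theorem Q8Data.sq_eq {S : Subgroup G} {z : G} (h : Q8Data S z) {u : G} (hu : u ∈ S)
    (huu : u * u ≠ 1) : u * u = z := by
  rcases h.sq u hu with h1 | h1
  · exact absurd h1 huu
  · exact h1

variable [Finite G]

/-- the centre of order two is generated by the involution of the quaternion Sylow subgroup -/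
theorem center_eq {S : Sylow 2 G} {z : G} (h : Q8Data (S : Subgroup G) z)
    (hc : Nat.card (Subgroup.center G) = 2) :
    z ∈ Subgroup.center G ∧ ∀ c ∈ Subgroup.center G, c = 1 ∨ c = z := by
  have : Fact (Nat.Prime 2) := ⟨Nat.prime_two⟩
  have hpg : IsPGroup 2 (Subgroup.center G) := by
    apply IsPGroup.of_card (n := 1)
    rw [hc, pow_one]
  have hle : Subgroup.center G ≤ (S : Subgroup G) := hpg.le_sylow_of_normal S
  have hall : ∀ c ∈ Subgroup.center G, c = 1 ∨ c = z := by
    intro c hcm
    apply h.invol c (hle hcm)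
    have h1 : (⟨c, hcm⟩ : Subgroup.center G) ^ 2 = 1 := by
      rw [← hc]
      exact pow_card_eq_one'
    have h2 := congrArg (fun t : Subgroup.center G => (t : G)) h1
    simpa [sq] using h2
  refine ⟨?_, hall⟩
  have hnt : Nontrivial (Subgroup.center G) := by
    rw [← Finite.one_lt_card_iff_nontrivial, hc]
    norm_num
  obtain ⟨w, hw⟩ := exists_ne (1 : Subgroup.center G)
  rcases hall w w.2 with h1 | h1
  · exact absurd (Subtype.ext h1) hw
  · rw [← h1]
    exact w.2

/-- the centre consists of non-generators of the quaternion Sylow subgroup -/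
theorem nongenerating {S : Subgroup G} {z : G} (h : Q8Data S z)
    (hz : z ∈ Subgroup.center G) (hcen : ∀ c ∈ Subgroup.center G, c = 1 ∨ c = z)
    (M : Subgroup G) (hMS : M ≤ S) (hS : S ≤ Subgroup.center G ⊔ M) : S ≤ M := by
  have hdec : ∀ x ∈ S, x ∈ M ∨ z * x ∈ M := by
    intro x hx
    have h1 := hS hx
    rw [← SetLike.mem_coe, Subgroup.normal_mul, Set.mem_mul] at h1
    obtain ⟨c, hcm, m, hm, hcmx⟩ := h1
    rcases hcen c hcm with h2 | h2
    · left
      rw [← hcmx, h2, one_mul]
      exact hm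
    · right
      rw [← hcmx, h2, ← mul_assoc, h.z_sq, one_mul]
      exact hm
  have h4 : ∀ u ∈ S, u * u ≠ 1 → u ∈ M := by
    intro u hu huu
    rcases hdec u hu with h1 | h1
    · exact h1
    · have h2 : z * u = u⁻¹ := by
        rw [← h.sq_eq hu huu, h.cube_eq_inv hu]
      rw [h2] at h1
      exact (Subgroup.inv_mem_iff M).mp h1
  obtain ⟨u₀, hu₀, hu₀u₀⟩ := h.exists4
  have hzM : z ∈ M := by
    rw [← h.sq_eq hu₀ hu₀u₀]
    exact M.mul_mem (h4 u₀ hu₀ hu₀u₀) (h4 u₀ hu₀ hu₀u₀)
  intro x hx
  rcases hdec x hx with h1 | h1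
  · exact h1
  · have : x = z * (z * x) := by
      rw [← mul_assoc, h.z_sq, one_mul]
    rw [this]
    exact M.mul_mem hzM h1

/-- the image of the Sylow subgroup in the central quotient -/
noncomputable def sylowBar (S : Sylow 2 G) : Sylow 2 (G ⧸ Subgroup.center G) :=
  haveI : Fact (Nat.Prime 2) := ⟨Nat.prime_two⟩
  S.mapSurjective (QuotientGroup.mk'_surjective (Subgroup.center G))

theorem coe_sylowBar (S : Sylow 2 G) :
    (sylowBar S : Subgroup (G ⧸ Subgroup.center G))
      = (S : Subgroup G).map (QuotientGroup.mk' (Subgroup.center G)) := by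
  haveI : Fact (Nat.Prime 2) := ⟨Nat.prime_two⟩
  exact Sylow.coe_mapSurjective (QuotientGroup.mk'_surjective (Subgroup.center G)) S

/-- without odd normal subgroups and with `G ≠ S`, the normalizer of the image of `S` in
`G / Z(G)` does not centralize it -/
theorem not_normalizer_le_centralizer {S : Sylow 2 G} {z : G} (h : Q8Data (S : Subgroup G) z)
    (hz : z ∈ Subgroup.center G) (hcen : ∀ c ∈ Subgroup.center G, c = 1 ∨ c = z)
    (hO : ∀ N : Subgroup G, N.Normal → Odd (Nat.card N) → N = ⊥)
    (hG : (S : Subgroup G) ≠ ⊤) :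
    ¬ (Subgroup.normalizer ((sylowBar S : Subgroup (G ⧸ Subgroup.center G)) :
        Set (G ⧸ Subgroup.center G))
      ≤ Subgroup.centralizer ((sylowBar S : Subgroup (G ⧸ Subgroup.center G)) :
        Set (G ⧸ Subgroup.center G))) := by
  haveI : Fact (Nat.Prime 2) := ⟨Nat.prime_two⟩
  intro hNC
  have h1 := Cfsg.Agent.Lib.Helper1.hasNormalPComplement_of_normalizer_le_centralizer
    (sylowBar S) hNC
  have hZS : Subgroup.center G ≤ (S : Subgroup G) := by
    intro c hc
    rcases hcen c hc with h2 | h2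
    · rw [h2]; exact Subgroup.one_mem _
    · rw [h2]; exact h.z_mem
  have h2 := Cfsg.Agent.Lib.Helper2.hasNormalPComplement_of_quotient_nongenerating S
    (Subgroup.center G) hZS (fun M hM hSM => nongenerating h hz hcen M hM hSM) h1
  obtain ⟨N, hNn, hNc⟩ := (Cfsg.Agent.Lib.Helper1.hasNormalPComplement_iff S).mp h2
  have hcard : Nat.card N = (S : Subgroup G).index := hNc.index_eq_card.symm
  have hodd : Odd (Nat.card N) := by
    rw [hcard, ← Nat.not_even_iff_odd, even_iff_two_dvd]
    exact S.not_dvd_index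
  have hN := hO N hNn hodd
  rw [hN] at hNc
  exact hG (Subgroup.isComplement'_bot_left.mp hNc)

end Cfsg.Agent.Lib.Helper6.Q8
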