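import Mathlib
import Cfsg.Agent.Lib.Helper6.Q8Sylow1
import Cfsg.Agent.Lib.Helper6.KleinFour
import Cfsg.Agent.Lib.Helper6.KleinFourBlock
import Cfsg.Agent.Lib.Helper2.FourGroup

set_option autoImplicit false
set_option linter.unusedSectionVars false

/-!
# Quaternion Sylow `2`-subgroups of order `8`: the central quotient

`G / Z(G)` has a Klein four Sylow `2`-subgroup and a single class of involutions.
-/

namespace Cfsg.Agent.Lib.Helper6.Q8

open Cfsg.Agent.Lib.Helper6

section generic

variable {H : Type*} [Group H] [Finite H]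

/-- an element normalizing a Klein four Sylow `2`-subgroup and fixing one of its involutions
centralizes it -/
theorem centralizes_of_fixes_involution (P : Sylow 2 H) (hP : IsKleinFour (P : Subgroup H))
    (a : H) (haP : a ∈ (P : Subgroup H)) (ha2 : orderOf a = 2) (n : H)
    (hn : n ∈ Subgroup.normalizer ((P : Subgroup H) : Set H)) (hna : n * a * n⁻¹ = a) :
    n ∈ Subgroup.centralizer ((P : Subgroup H) : Set H) := by
  classical
  have : Fact (Nat.Prime 2) := ⟨Nat.prime_two⟩
  have hPC : (P : Subgroup H) ≤ Subgroup.centralizer ({a} : Set H) := by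
    intro w hw
    rw [Subgroup.mem_centralizer_singleton_iff]
    exact kleinFour_comm _ hP w a hw haP
  obtain ⟨Q, hQdef⟩ : ∃ Q : Sylow 2 (Subgroup.centralizer ({a} : Set H)), Q = P.subtype hPC :=
    ⟨_, rfl⟩
  have hQcoe : (Q : Subgroup (Subgroup.centralizer ({a} : Set H)))
      = (P : Subgroup H).subgroupOf (Subgroup.centralizer ({a} : Set H)) := by
    rw [hQdef]; rfl
  obtain ⟨e, _⟩ : ∃ e : ↥((P : Subgroup H).subgroupOf (Subgroup.centralizer ({a} : Set H)))
      ≃* ↥(P : Subgroup H), e = Subgroup.subgroupOfEquivOfLe hPC := ⟨_, rfl⟩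
  have hQK : IsKleinFour (Q : Subgroup (Subgroup.centralizer ({a} : Set H))) := by
    rw [hQcoe]
    constructor
    · rw [Nat.card_congr e.toEquiv]
      exact hP.card_four
    · rw [Monoid.exponent_eq_of_mulEquiv e]
      exact hP.exponent_two
  have haC : a ∈ Subgroup.centralizer ({a} : Set H) := by
    rw [Subgroup.mem_centralizer_singleton_iff]
  have hNC := normalizer_le_centralizer_of_kleinFour Q hQK ⟨a, haC⟩
    (by rw [hQcoe, Subgroup.mem_subgroupOf]; exact haP)
    (by rw [← Subgroup.orderOf_coe]; exact ha2)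
    (by
      intro g
      apply Subtype.ext
      have := g.2
      rw [Subgroup.mem_centralizer_singleton_iff] at this
      exact this)
  have hnC : n ∈ Subgroup.centralizer ({a} : Set H) := by
    rw [Subgroup.mem_centralizer_singleton_iff]
    calc n * a = n * a * n⁻¹ * n := by group
      _ = a * n := by rw [hna]
  have hnN : (⟨n, hnC⟩ : Subgroup.centralizer ({a} : Set H))
      ∈ Subgroup.normalizer ((Q : Subgroup (Subgroup.centralizer ({a} : Set H))) : Set _) := by
    rw [Subgroup.mem_normalizer_iff]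
    intro w
    rw [hQcoe, Subgroup.mem_subgroupOf, Subgroup.mem_subgroupOf]
    exact Subgroup.mem_normalizer_iff.mp hn (w : H)
  have h1 := hNC hnN
  rw [Subgroup.mem_centralizer_iff] at h1 ⊢
  intro w hw
  have hw' : (⟨w, hPC hw⟩ : Subgroup.centralizer ({a} : Set H))
      ∈ (Q : Subgroup (Subgroup.centralizer ({a} : Set H))) := by
    rw [hQcoe, Subgroup.mem_subgroupOf]
    exact hw
  have h2 := h1 ⟨w, hPC hw⟩ hw'
  exact congrArg Subtype.val h2

/-- if the normalizer of a Klein four Sylow `2`-subgroup does not centralize it, all involutions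
of the group are conjugate -/
theorem involutions_conj_of_not_le (P : Sylow 2 H) (hP : IsKleinFour (P : Subgroup H))
    (hNC : ¬ (Subgroup.normalizer ((P : Subgroup H) : Set H)
      ≤ Subgroup.centralizer ((P : Subgroup H) : Set H))) :
    ∀ s t : H, orderOf s = 2 → orderOf t = 2 → IsConj s t := by
  classical
  have : Fact (Nat.Prime 2) := ⟨Nat.prime_two⟩
  have : Fintype H := Fintype.ofFinite H
  rw [SetLike.not_le_iff_exists] at hNC
  obtain ⟨n, hn, hnc⟩ := hNC
  have hnorm : ∀ w : H, w ∈ (P : Subgroup H) → n * w * n⁻¹ ∈ (P : Subgroup H) := fun w hw =>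
    (Subgroup.mem_normalizer_iff.mp hn w).mp hw
  have hfix : ∀ w : H, w ∈ (P : Subgroup H) → w ≠ 1 → n * w * n⁻¹ ≠ w := by
    intro w hw hw1 h
    exact hnc (centralizes_of_fixes_involution P hP w hw
      (orderOf_eq_two_of_kleinFour _ hP w hw hw1) n hn h)
  have hconj1 : ∀ w : H, w ≠ 1 → n * w * n⁻¹ ≠ 1 := by
    intro w hw1 h
    apply hw1
    have : w = n⁻¹ * (n * w * n⁻¹) * n := by group
    rw [this, h]
    group
  obtain ⟨a, haP, ha2⟩ := exists_involution_of_kleinFour _ hP
  have ha1 : a ≠ 1 := by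
    intro h
    rw [h, orderOf_one] at ha2
    norm_num at ha2
  obtain ⟨b, hb⟩ : ∃ b : H, b = n * a * n⁻¹ := ⟨_, rfl⟩
  have hbP : b ∈ (P : Subgroup H) := by rw [hb]; exact hnorm a haP
  have hb1 : b ≠ 1 := by rw [hb]; exact hconj1 a ha1
  have hba : b ≠ a := by rw [hb]; exact hfix a haP ha1
  obtain ⟨c, hc⟩ : ∃ c : H, c = n * b * n⁻¹ := ⟨_, rfl⟩
  have hcP : c ∈ (P : Subgroup H) := by rw [hc]; exact hnorm b hbP
  have hc1 : c ≠ 1 := by rw [hc]; exact hconj1 b hb1
  have hcb : c ≠ b := by rw [hc]; exact hfix b hbP hb1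
  have hsq : ∀ w : H, w ∈ (P : Subgroup H) → w * w = 1 := by
    intro w hw
    by_cases hw1 : w = 1
    · rw [hw1, one_mul]
    · have := orderOf_eq_two_of_kleinFour _ hP w hw hw1
      rw [← sq, ← this, pow_orderOf_eq_one]
  have hca : c ≠ a := by
    intro hca
    have habP : a * b ∈ (P : Subgroup H) := Subgroup.mul_mem _ haP hbP
    have hab1 : a * b ≠ 1 := by
      intro h
      apply hba
      have h2 := hsq a haP
      have : b = a⁻¹ := eq_inv_of_mul_eq_one_right h
      have h3 : a⁻¹ = a := inv_eq_of_mul_eq_one_right h2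
      rw [this, h3]
    apply hfix (a * b) habP hab1
    have : n * (a * b) * n⁻¹ = (n * a * n⁻¹) * (n * b * n⁻¹) := by group
    rw [this, ← hb, ← hc, hca]
    exact kleinFour_comm _ hP b a hbP haP
  -- the four elements of `P`
  have hall : ∀ w : H, w ∈ (P : Subgroup H) → w = 1 ∨ w = a ∨ w = b ∨ w = c := by
    haveI : IsKleinFour ↥(P : Subgroup H) := hP
    have hcab : c = a * b := by
      rcases Cfsg.Agent.Lib.Helper2.FourGroup.mem_cases (P : Subgroup H) haP hbP ha1 hb1
        (Ne.symm hba) hcP with h | h | h | h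
      · exact absurd h hc1
      · exact absurd h hca
      · exact absurd h hcb
      · exact h
    intro w hw
    rw [hcab]
    exact Cfsg.Agent.Lib.Helper2.FourGroup.mem_cases (P : Subgroup H) haP hbP ha1 hb1
      (Ne.symm hba) hw
  have hbc : IsConj a b := isConj_iff.mpr ⟨n, hb.symm⟩
  have hcc : IsConj b c := isConj_iff.mpr ⟨n, hc.symm⟩
  have hconjP : ∀ w : H, w ∈ (P : Subgroup H) → w ≠ 1 → IsConj w a := by
    intro w hw hw1
    rcases hall w hw with h | h | h | h
    · exact absurd h hw1
    · rw [h]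
    · rw [h]; exact hbc.symm
    · rw [h]; exact (hbc.trans hcc).symm
  have hinto : ∀ s : H, orderOf s = 2 → IsConj s a := by
    intro s hs
    have hPs : IsPGroup 2 (Subgroup.zpowers s) := by
      apply IsPGroup.of_card (n := 1)
      rw [Nat.card_zpowers, hs, pow_one]
    obtain ⟨Q, hQ⟩ := hPs.exists_le_sylow
    obtain ⟨x, hx⟩ := MulAction.exists_smul_eq H Q P
    have hsQ : s ∈ (Q : Subgroup H) := hQ (Subgroup.mem_zpowers s)
    have h1 : x * s * x⁻¹ ∈ (P : Subgroup H) := by
      rw [← hx, Sylow.coe_subgroup_smul]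
      have := Subgroup.smul_mem_pointwise_smul s (MulAut.conj x) (Q : Subgroup H) hsQ
      rwa [MulAut.smul_def, MulAut.conj_apply] at this
    have hs1 : s ≠ 1 := by
      intro h
      rw [h, orderOf_one] at hs
      norm_num at hs
    have h2 : x * s * x⁻¹ ≠ 1 := by
      intro h
      apply hs1
      have : s = x⁻¹ * (x * s * x⁻¹) * x := by group
      rw [this, h]
      group
    have h3 : IsConj s (x * s * x⁻¹) := isConj_iff.mpr ⟨x, rfl⟩
    exact h3.trans (hconjP _ h1 h2)
  intro s t hs ht
  exact (hinto s hs).trans (hinto t ht).symm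

end generic

section quotient

variable {G : Type*} [Group G] [Finite G]

theorem card_sylowBar {S : Sylow 2 G} {z : G} (h : Q8Data (S : Subgroup G) z)
    (hc : Nat.card (Subgroup.center G) = 2) :
    Nat.card (sylowBar S : Subgroup (G ⧸ Subgroup.center G)) = 4 := by
  have : Fact (Nat.Prime 2) := ⟨Nat.prime_two⟩
  have h1 := (sylowBar S).card_eq_multiplicity
  have h2 := S.card_eq_multiplicity
  have h3 := Subgroup.card_eq_card_quotient_mul_card_subgroup (Subgroup.center G)
  rw [hc] at h3
  have hq0 : Nat.card (G ⧸ Subgroup.center G) ≠ 0 := Nat.card_pos.ne'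
  have h4 : (Nat.card G).factorization 2 = (Nat.card (G ⧸ Subgroup.center G)).factorization 2 + 1 := by
    rw [h3, Nat.factorization_mul hq0 (by norm_num)]
    simp [Nat.Prime.factorization_self Nat.prime_two]
  have h5 : (Nat.card G).factorization 2 = 3 := by
    have h6 : (2 : ℕ) ^ (Nat.card G).factorization 2 = 2 ^ 3 := by
      rw [← h2, h.card]
      norm_num
    exact Nat.pow_right_injective (le_refl 2) h6
  have h7 : (Nat.card (G ⧸ Subgroup.center G)).factorization 2 = 2 := by omega
  rw [h1, h7]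
  norm_num

theorem sq_sylowBar {S : Sylow 2 G} {z : G} (h : Q8Data (S : Subgroup G) z)
    (hz : z ∈ Subgroup.center G) (q : G ⧸ Subgroup.center G)
    (hq : q ∈ (sylowBar S : Subgroup (G ⧸ Subgroup.center G))) : q * q = 1 := by
  rw [coe_sylowBar, Subgroup.mem_map] at hq
  obtain ⟨s, hs, rfl⟩ := hq
  rw [← map_mul]
  have hmem : s * s ∈ Subgroup.center G := by
    rcases h.sq s hs with h1 | h1
    · rw [h1]; exact Subgroup.one_mem _
    · rw [h1]; exact hz
  rw [← MonoidHom.mem_ker, QuotientGroup.ker_mk']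
  exact hmem

theorem isKleinFour_sylowBar {S : Sylow 2 G} {z : G} (h : Q8Data (S : Subgroup G) z)
    (hz : z ∈ Subgroup.center G) (hc : Nat.card (Subgroup.center G) = 2) :
    IsKleinFour (sylowBar S : Subgroup (G ⧸ Subgroup.center G)) := by
  have hcard := card_sylowBar h hc
  refine ⟨hcard, ?_⟩
  have hdvd : Monoid.exponent (sylowBar S : Subgroup (G ⧸ Subgroup.center G)) ∣ 2 :=
    Monoid.exponent_dvd_of_forall_pow_eq_one (fun x => by
      rw [sq]
      exact Subtype.ext (sq_sylowBar h hz x x.2))
  rcases (Nat.dvd_prime Nat.prime_two).mp hdvd with h1 | h1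
  · exfalso
    have hsub : Subsingleton (sylowBar S : Subgroup (G ⧸ Subgroup.center G)) :=
      Monoid.exp_eq_one_iff.mp h1
    have : Nat.card (sylowBar S : Subgroup (G ⧸ Subgroup.center G)) = 1 := Nat.card_unique
    rw [hcard] at this
    norm_num at this
  · exact h1

/-- all involutions of the central quotient are conjugate -/
theorem involutions_conj_quotient {S : Sylow 2 G} {z : G} (h : Q8Data (S : Subgroup G) z)
    (hc : Nat.card (Subgroup.center G) = 2)
    (hz : z ∈ Subgroup.center G) (hcen : ∀ c ∈ Subgroup.center G, c = 1 ∨ c = z)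
    (hO : ∀ N : Subgroup G, N.Normal → Odd (Nat.card N) → N = ⊥)
    (hG : (S : Subgroup G) ≠ ⊤) :
    ∀ s t : G ⧸ Subgroup.center G, orderOf s = 2 → orderOf t = 2 → IsConj s t :=
  involutions_conj_of_not_le (sylowBar S) (isKleinFour_sylowBar h hz hc)
    (not_normalizer_le_centralizer h hz hcen hO hG)

end quotient

end Cfsg.Agent.Lib.Helper6.Q8
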