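import Mathlib
import Cfsg.Prelude.Def_ChevStructure
import Cfsg.Agent.Lib.Helper5.ChevW0Def
import Cfsg.Agent.Lib.Helper5.ChevBruhat
import Cfsg.Agent.Lib.Helper5.ChevWRel
import Cfsg.Agent.Lib.Helper5.ChevWPoly

set_option autoImplicit false

/-!
S4280 farm, unit E3/E4 (generic part): Bool checkers for the centralizer count of the torus
involution `h_{α_j}(-1)`.

* `presB D j w`  : the word `w` preserves the parity of the `j`-th Cartan row;
* `cntB D j w`   : the number of positive roots `r` with `w r < 0` and `cartan j r` even;
* `posEvenB D j` : the number of positive roots with `cartan j r` even.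
-/

namespace Cfsg.Agent.Lib.Helper6.F4Inv

open Cfsg Cfsg.Lie Cfsg.Agent.Lib.Helper5.ChevStruct Cfsg.Agent.Lib.Helper5.ChevSym

/-- Bool: the word `w` preserves the parity of the `j`-th Cartan row -/
def presB (D : ChevalleyDatum) (j : ℕ) (w : List ℕ) : Bool :=
  (List.range D.nroots).all fun r =>
    decide (D.cartan j (wActC D w r) % 2 = D.cartan j r % 2)

theorem h6_even_iff_mod (a b : ℤ) : (Even a ↔ Even b) ↔ a % 2 = b % 2 := by
  rw [Int.even_iff, Int.even_iff]
  omega

theorem presB_iff (D : ChevalleyDatum) (j : ℕ) (w : List ℕ) :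
    presB D j w = true ↔
      ∀ r < D.nroots, (Even (D.cartan j (wAct D w r)) ↔ Even (D.cartan j r)) := by
  unfold presB
  rw [List.all_eq_true]
  constructor
  · intro h r hr
    have := h r (List.mem_range.2 hr)
    rw [decide_eq_true_eq, wActC_eq] at this
    exact (h6_even_iff_mod _ _).2 this
  · intro h r hr
    rw [decide_eq_true_eq, wActC_eq]
    exact (h6_even_iff_mod _ _).1 (h r (List.mem_range.1 hr))

/-- the number of positive roots `r` with `w r < 0` and `cartan j r` even -/
def cntB (D : ChevalleyDatum) (j : ℕ) (w : List ℕ) : ℕ :=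
  ((List.range D.nroots).filter fun r =>
    decide (D.IsPosRoot r) && !decide (D.IsPosRoot (wActC D w r))
      && decide (D.cartan j r % 2 = 0)).length

theorem h6_card_filter_range (n : ℕ) (p : ℕ → Prop) [DecidablePred p] (b : ℕ → Bool)
    (h : ∀ r < n, (b r = true ↔ p r)) :
    ((Finset.range n).filter p).card = ((List.range n).filter b).length := by
  have h1 : (Finset.range n).filter p = ((List.range n).filter b).toFinset := by
    ext r
    rw [Finset.mem_filter, Finset.mem_range, List.mem_toFinset, List.mem_filter, List.mem_range]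
    constructor
    · rintro ⟨h1, h2⟩
      exact ⟨h1, (h r h1).2 h2⟩
    · rintro ⟨h1, h2⟩
      exact ⟨h1, (h r h1).1 h2⟩
  rw [h1, List.toFinset_card_of_nodup]
  exact (List.nodup_range).filter _

theorem cntB_eq (D : ChevalleyDatum) (j : ℕ) (w : List ℕ) :
    ((negSet D w).filter fun r => Even (D.cartan j r)).card = cntB D j w := by
  unfold cntB negSet
  rw [Finset.filter_filter]
  apply h6_card_filter_range
  intro r _
  rw [Bool.and_eq_true, Bool.and_eq_true, decide_eq_true_eq, Bool.not_eq_true',
    decide_eq_false_iff_not, decide_eq_true_eq, wActC_eq, Int.even_iff]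

/-- the number of positive roots with `cartan j r` even -/
def posEvenB (D : ChevalleyDatum) (j : ℕ) : ℕ :=
  ((List.range D.nroots).filter fun r =>
    decide (D.IsPosRoot r) && decide (D.cartan j r % 2 = 0)).length

theorem posEvenB_eq (D : ChevalleyDatum) (j : ℕ) :
    ((Finset.range D.nroots).filter fun r => D.IsPosRoot r ∧ Even (D.cartan j r)).card
      = posEvenB D j := by
  unfold posEvenB
  apply h6_card_filter_range
  intro r _
  rw [Bool.and_eq_true, decide_eq_true_eq, decide_eq_true_eq, Int.even_iff]

/-- the sum over the stabiliser words, as the value of the histogram polynomial -/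
theorem sum_pow_cnt (D : ChevalleyDatum) (j : ℕ) (L : List (List ℕ)) (q : ℕ) :
    (L.map fun w => q ^ ((negSet D w).filter fun r => Even (D.cartan j r)).card).sum
      = evalP (histo (L.map (cntB D j))) q := by
  rw [evalP_histo, List.map_map]
  congr 1
  apply List.map_congr_left
  intro w _
  rw [Function.comp_apply, cntB_eq]

/-- `presB` only depends on the action -/
theorem presB_congr (D : ChevalleyDatum) (j : ℕ) (a b : List ℕ)
    (h : ∀ r < D.nroots, wAct D a r = wAct D b r) : presB D j a = presB D j b := by
  rw [Bool.eq_iff_iff, presB_iff, presB_iff]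
  constructor
  · intro h1 r hr
    rw [← h r hr]
    exact h1 r hr
  · intro h1 r hr
    rw [h r hr]
    exact h1 r hr

end Cfsg.Agent.Lib.Helper6.F4Inv
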