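import Mathlib
import Cfsg.Prelude
import Cfsg.Agent.Lib.Helper5.OrthCard

set_option autoImplicit false
set_option linter.unusedSectionVars false
set_option linter.unusedVariables false
set_option linter.unusedSimpArgs false
open Cfsg

/-! The central extension of `(ZMod 2)^ι` by `ZMod 2` given by a bilinear cocycle, and its
outer automorphism group. -/

namespace Cfsg.Agent.Lib.Helper6.ExtraOut

open Matrix Cfsg.Agent.Lib.Helper5.OrthCard

variable {ι : Type} [Fintype ι] [DecidableEq ι]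

theorem add_self_z2 (a : ZMod 2) : a + a = 0 := CharTwo.add_self_eq_zero a

theorem z2_cases (a : ZMod 2) : a = 0 ∨ a = 1 := by
  fin_cases a
  · left; rfl
  · right; rfl

theorem vadd_self (v : ι → ZMod 2) : v + v = 0 := by
  funext i
  exact add_self_z2 (v i)

/-- two bilinear forms with the same diagonal differ by the polar form of a function -/
theorem exists_mu (β₁ β₂ : LinearMap.BilinForm (ZMod 2) (ι → ZMod 2))
    (h : ∀ v, β₁ v v = β₂ v v) :
    ∃ μ : (ι → ZMod 2) → ZMod 2, ∀ v w, μ (v + w) = μ v + μ w + β₁ v w + β₂ v w := by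
  classical
  obtain ⟨_⟩ : Nonempty (LinearOrder ι) :=
    ⟨LinearOrder.lift' (Fintype.equivFin ι) (Fintype.equivFin ι).injective⟩
  obtain ⟨γ, hγdef⟩ : ∃ γ : LinearMap.BilinForm (ZMod 2) (ι → ZMod 2), γ = β₁ + β₂ := ⟨_, rfl⟩
  have hγ : ∀ v, γ v v = 0 := by
    intro v
    rw [hγdef, LinearMap.add_apply, LinearMap.add_apply, h v]
    exact add_self_z2 _
  have hsym : ∀ v w, γ v w = γ w v := by
    intro v w
    have h1 := hγ (v + w)
    simp only [map_add, LinearMap.add_apply, hγ v, hγ w] at h1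
    have h2 := add_self_z2 (γ w v)
    linear_combination h1 - h2
  obtain ⟨M, hMdef⟩ : ∃ M : Matrix ι ι (ZMod 2), M = LinearMap.BilinForm.toMatrix' γ := ⟨_, rfl⟩
  obtain ⟨U, hUdef⟩ : ∃ U : Matrix ι ι (ZMod 2), U = fun i j => if i < j then M i j else 0 :=
    ⟨_, rfl⟩
  have hM : M = U + Uᵀ := by
    ext i j
    rw [Matrix.add_apply, Matrix.transpose_apply, hUdef]
    simp only
    rcases lt_trichotomy i j with hij | hij | hij
    · rw [if_pos hij, if_neg (not_lt.mpr hij.le), add_zero]
    · subst hij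
      rw [if_neg (lt_irrefl _), add_zero, hMdef, LinearMap.BilinForm.toMatrix'_apply, hγ]
    · rw [if_neg (not_lt.mpr hij.le), if_pos hij, zero_add, hMdef,
        LinearMap.BilinForm.toMatrix'_apply, LinearMap.BilinForm.toMatrix'_apply, hsym]
  obtain ⟨δ, hδdef⟩ : ∃ δ : LinearMap.BilinForm (ZMod 2) (ι → ZMod 2), δ = Matrix.toBilin' U :=
    ⟨_, rfl⟩
  have hδ : ∀ v w, δ v w + δ w v = γ v w := by
    intro v w
    have h1 : γ = Matrix.toBilin' M := by rw [hMdef, Matrix.toBilin'_toMatrix']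
    have h3 : Matrix.toBilin' Uᵀ v w = Matrix.toBilin' U w v := by
      rw [Matrix.toBilin'_apply', Matrix.toBilin'_apply', Matrix.dotProduct_mulVec,
        Matrix.vecMul_transpose, dotProduct_comm]
    rw [h1, hM, map_add, LinearMap.add_apply, LinearMap.add_apply, h3, hδdef]
  refine ⟨fun v => δ v v, fun v w => ?_⟩
  have h2 := hδ v w
  rw [hγdef, LinearMap.add_apply, LinearMap.add_apply] at h2
  simp only [map_add, LinearMap.add_apply]
  linear_combination h2

/-- the extension group -/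
@[ext] structure QH (β : LinearMap.BilinForm (ZMod 2) (ι → ZMod 2)) where
  v : ι → ZMod 2
  c : ZMod 2

namespace QH

variable {β : LinearMap.BilinForm (ZMod 2) (ι → ZMod 2)}

instance : Mul (QH β) := ⟨fun x y => ⟨x.v + y.v, x.c + y.c + β x.v y.v⟩⟩
instance : One (QH β) := ⟨⟨0, 0⟩⟩
instance : Inv (QH β) := ⟨fun x => ⟨x.v, x.c + β x.v x.v⟩⟩

@[simp] theorem mul_v (x y : QH β) : (x * y).v = x.v + y.v := rfl
@[simp] theorem mul_c (x y : QH β) : (x * y).c = x.c + y.c + β x.v y.v := rfl
@[simp] theorem one_v : (1 : QH β).v = 0 := rfl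
@[simp] theorem one_c : (1 : QH β).c = 0 := rfl
@[simp] theorem inv_v (x : QH β) : (x⁻¹).v = x.v := rfl
@[simp] theorem inv_c (x : QH β) : (x⁻¹).c = x.c + β x.v x.v := rfl

instance : Group (QH β) where
  mul_assoc x y z := by
    apply QH.ext
    · simp [add_assoc]
    · simp only [mul_c, mul_v, map_add, LinearMap.add_apply]; ring
  one_mul x := by
    apply QH.ext
    · simp
    · simp
  mul_one x := by
    apply QH.ext
    · simp
    · simp
  inv_mul_cancel x := by
    apply QH.ext
    · simp [vadd_self]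
    · simp only [mul_c, inv_c, inv_v, one_c]
      linear_combination add_self_z2 x.c + add_self_z2 (β x.v x.v)

/-- the underlying product type -/
def equivProd : QH β ≃ (ι → ZMod 2) × ZMod 2 where
  toFun x := (x.v, x.c)
  invFun y := ⟨y.1, y.2⟩
  left_inv _ := rfl
  right_inv _ := rfl

instance : Finite (QH β) := Finite.of_equiv _ equivProd.symm

theorem card_qh : Nat.card (QH β) = 2 ^ (Fintype.card ι + 1) := by
  rw [Nat.card_congr equivProd, Nat.card_prod, Nat.card_fun, Nat.card_zmod, pow_succ]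
  simp

theorem mk_mul_mk (v w : ι → ZMod 2) (c d : ZMod 2) :
    (⟨v, c⟩ : QH β) * ⟨w, d⟩ = ⟨v + w, c + d + β v w⟩ := rfl

theorem one_def : (1 : QH β) = ⟨0, 0⟩ := rfl

theorem split (x : QH β) : x = ⟨x.v, 0⟩ * ⟨0, x.c⟩ := by
  apply QH.ext
  · simp
  · simp

theorem sq_eq (x : QH β) : x * x = ⟨0, β x.v x.v⟩ := by
  apply QH.ext
  · simp [vadd_self]
  · simp only [mul_c]
    linear_combination add_self_z2 x.c

theorem comm_iff (x y : QH β) : x * y = y * x ↔ β x.v y.v = β y.v x.v := by
  constructor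
  · intro h
    have h1 := congrArg QH.c h
    simp only [mul_c] at h1
    linear_combination h1
  · intro h
    apply QH.ext
    · simp [add_comm]
    · simp only [mul_c]
      linear_combination h

theorem conj_eq (y x : QH β) : y * x * y⁻¹ = ⟨x.v, x.c + (β y.v x.v + β x.v y.v)⟩ := by
  apply QH.ext
  · simp only [mul_v, inv_v]
    funext i
    simp only [Pi.add_apply]
    linear_combination add_self_z2 (y.v i)
  · simp only [mul_c, mul_v, inv_c, inv_v, map_add, LinearMap.add_apply]
    linear_combination add_self_z2 y.c + add_self_z2 (β y.v y.v)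

section aut

variable (hnd : ∀ v, (∀ w, β v w + β w v = 0) → v = 0)
include hnd

theorem central_iff (x : QH β) : (∀ y, x * y = y * x) ↔ x.v = 0 := by
  constructor
  · intro h
    apply hnd
    intro w
    have h1 := (comm_iff x ⟨w, 0⟩).mp (h _)
    simp only at h1
    rw [h1]
    exact add_self_z2 _
  · intro h y
    rw [comm_iff, h]
    simp

theorem aut_z (α : QH β ≃* QH β) : α ⟨0, 1⟩ = ⟨0, 1⟩ := by
  have hc : ∀ y, α ⟨0, 1⟩ * y = y * α ⟨0, 1⟩ := by
    intro y
    have h1 : (⟨0, 1⟩ : QH β) * α.symm y = α.symm y * ⟨0, 1⟩ :=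
      (central_iff hnd _).mpr rfl _
    have h2 := congrArg α h1
    rw [map_mul, map_mul, MulEquiv.apply_symm_apply] at h2
    exact h2
  have hv := (central_iff hnd _).mp hc
  have hne : α ⟨0, 1⟩ ≠ 1 := by
    intro h1
    have h2 : (⟨0, 1⟩ : QH β) = 1 := α.injective (by rw [h1, map_one])
    have h3 := congrArg QH.c h2
    simp at h3
  apply QH.ext
  · exact hv
  · rcases z2_cases (α ⟨0, 1⟩).c with h0 | h1
    · exfalso
      apply hne
      apply QH.ext
      · exact hv
      · exact h0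
    · exact h1

theorem aut_zc (α : QH β ≃* QH β) (r : ZMod 2) : α ⟨0, r⟩ = ⟨0, r⟩ := by
  rcases z2_cases r with rfl | rfl
  · exact map_one α
  · exact aut_z hnd α

/-- the induced map on the quotient by the centre -/
def bar (α : QH β ≃* QH β) (v : ι → ZMod 2) : ι → ZMod 2 := (α ⟨v, 0⟩).v

theorem aut_v (α : QH β ≃* QH β) (x : QH β) : (α x).v = bar α x.v := by
  conv_lhs => rw [split x, map_mul, aut_zc hnd]
  simp [bar]

theorem bar_add (α : QH β ≃* QH β) (v w : ι → ZMod 2) : bar α (v + w) = bar α v + bar α w := by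
  have h1 : (α (⟨v, 0⟩ * ⟨w, 0⟩)).v = bar α v + bar α w := by
    rw [map_mul]; rfl
  rw [aut_v hnd] at h1
  exact h1

theorem bar_Q (α : QH β ≃* QH β) (v : ι → ZMod 2) : β (bar α v) (bar α v) = β v v := by
  have h1 : α (⟨v, 0⟩ * ⟨v, 0⟩) = α ⟨v, 0⟩ * α ⟨v, 0⟩ := map_mul _ _ _
  rw [sq_eq, sq_eq, aut_zc hnd] at h1
  exact (congrArg QH.c h1).symm

theorem bar_comp (α α' : QH β ≃* QH β) (v : ι → ZMod 2) :
    bar (α'.trans α) v = bar α (bar α' v) := by
  show (α (α' ⟨v, 0⟩)).v = _
  rw [aut_v hnd]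
  rfl

theorem bar_refl (v : ι → ZMod 2) : bar (MulEquiv.refl (QH β)) v = v := rfl

/-- the induced map as a linear map -/
def barLin (α : QH β ≃* QH β) : (ι → ZMod 2) →ₗ[ZMod 2] (ι → ZMod 2) :=
  AddMonoidHom.toZModLinearMap 2 (AddMonoidHom.mk' (bar α) (bar_add hnd α))

theorem barLin_apply (α : QH β ≃* QH β) (v : ι → ZMod 2) : barLin hnd α v = bar α v := rfl

theorem barLin_mul (α α' : MulAut (QH β)) :
    barLin hnd (α * α') = (barLin hnd α).comp (barLin hnd α') := by
  apply LinearMap.ext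
  intro v
  exact bar_comp hnd α α' v

theorem barLin_one : barLin hnd (1 : MulAut (QH β)) = LinearMap.id := by
  apply LinearMap.ext
  intro v
  rfl

/-- the action on the quotient, as a matrix -/
noncomputable def Φ₀ : MulAut (QH β) →* Matrix.GeneralLinearGroup ι (ZMod 2) :=
  MonoidHom.mk' (fun α => ⟨LinearMap.toMatrix' (barLin hnd α), LinearMap.toMatrix' (barLin hnd α⁻¹),
    by rw [← LinearMap.toMatrix'_comp, ← barLin_mul, mul_inv_cancel, barLin_one,
      LinearMap.toMatrix'_id],
    by rw [← LinearMap.toMatrix'_comp, ← barLin_mul, inv_mul_cancel, barLin_one,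
      LinearMap.toMatrix'_id]⟩)
    (by
      intro a b
      apply Units.ext
      show LinearMap.toMatrix' (barLin hnd (a * b)) =
        LinearMap.toMatrix' (barLin hnd a) * LinearMap.toMatrix' (barLin hnd b)
      rw [barLin_mul, LinearMap.toMatrix'_comp])

theorem Φ₀_mulVec (α : MulAut (QH β)) (v : ι → ZMod 2) :
    ((Φ₀ hnd α : Matrix.GeneralLinearGroup ι (ZMod 2)) : Matrix ι ι (ZMod 2)) *ᵥ v = bar α v := by
  show LinearMap.toMatrix' (barLin hnd α) *ᵥ v = _
  rw [LinearMap.toMatrix'_mulVec]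
  rfl

/-- the action on the quotient, as an isometry -/
noncomputable def Φ : MulAut (QH β) →* ↥(isometryGroup (ZMod 2) (fun v => β v v)) :=
  (Φ₀ hnd).codRestrict _ (fun α => by
    rw [mem_isometryGroup_iff]
    intro v
    rw [Φ₀_mulVec]
    exact bar_Q hnd α v)

theorem Φ_mulVec (α : MulAut (QH β)) (v : ι → ZMod 2) :
    (((Φ hnd α : ↥(isometryGroup (ZMod 2) (fun v => β v v))) :
      Matrix.GeneralLinearGroup ι (ZMod 2)) : Matrix ι ι (ZMod 2)) *ᵥ v = bar α v :=
  Φ₀_mulVec hnd α v

end aut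

end QH

end Cfsg.Agent.Lib.Helper6.ExtraOut
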