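import Mathlib
import Cfsg.Prelude
import Cfsg.Agent.Lib.Helper6.ExtraOut1

set_option autoImplicit false
set_option linter.unusedSectionVars false
set_option linter.unusedVariables false
set_option linter.unusedSimpArgs false
open Cfsg

/-! The outer automorphism group of the extension group `QH β` is the isometry group of the
diagonal quadratic form of `β`. -/

namespace Cfsg.Agent.Lib.Helper6.ExtraOut

open Matrix Cfsg.Agent.Lib.Helper5.OrthCard

variable {ι : Type} [Fintype ι] [DecidableEq ι]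

/-- isomorphic groups have isomorphic outer automorphism groups -/
noncomputable def outCongr {G H : Type*} [Group G] [Group H] (e : G ≃* H) :
    Cfsg.Out G ≃* Cfsg.Out H :=
  QuotientGroup.congr (Cfsg.Inn G) (Cfsg.Inn H) (MulAut.congr e) (by
    ext φ
    constructor
    · rintro ⟨_, ⟨g, rfl⟩, rfl⟩
      refine ⟨e g, ?_⟩
      apply MulEquiv.ext
      intro x
      simp [MulAut.congr, MulAut.conj_apply]
    · rintro ⟨h, rfl⟩
      refine ⟨MulAut.conj (e.symm h), ⟨e.symm h, rfl⟩, ?_⟩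
      apply MulEquiv.ext
      intro x
      simp [MulAut.congr, MulAut.conj_apply])

namespace QH

variable {β : LinearMap.BilinForm (ZMod 2) (ι → ZMod 2)}

section aut

variable (hnd : ∀ v, (∀ w, β v w + β w v = 0) → v = 0)
include hnd

/-- the central component of the image of `(v, 0)` -/
def lc (α : QH β ≃* QH β) (v : ι → ZMod 2) : ZMod 2 := (α ⟨v, 0⟩).c

theorem aut_eq (α : QH β ≃* QH β) (x : QH β) : α x = ⟨bar α x.v, lc α x.v + x.c⟩ := by
  conv_lhs => rw [split x, map_mul, aut_zc hnd]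
  apply QH.ext
  · simp [bar]
  · simp [lc]

theorem lc_add (α : QH β ≃* QH β) (v w : ι → ZMod 2) :
    lc α (v + w) + β v w = lc α v + lc α w + β (bar α v) (bar α w) := by
  have h1 := congrArg QH.c (map_mul α ⟨v, 0⟩ ⟨w, 0⟩)
  rw [mk_mul_mk, aut_eq hnd] at h1
  simp only [mul_c, zero_add, add_zero] at h1
  exact h1

theorem nondeg_polar : (β + β.flip).Nondegenerate := by
  constructor
  · intro x hx
    apply hnd
    intro w
    have := hx w
    simpa using this
  · intro y hy
    apply hnd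
    intro w
    have := hy w
    rw [LinearMap.add_apply, LinearMap.add_apply, LinearMap.BilinForm.flip_apply] at this
    rw [add_comm]
    exact this

theorem bar_eq_of_ker (α : MulAut (QH β)) (h : Φ hnd α = 1) (v : ι → ZMod 2) : bar α v = v := by
  rw [← Φ_mulVec hnd α v, h]
  simp

theorem ker_le : (Φ hnd).ker ≤ Cfsg.Inn (QH β) := by
  intro α hα
  rw [MonoidHom.mem_ker] at hα
  have hbar := bar_eq_of_ker hnd α hα
  have hadd : ∀ v w, lc α (v + w) = lc α v + lc α w := by
    intro v w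
    have h1 := lc_add hnd α v w
    rw [hbar, hbar] at h1
    linear_combination h1
  obtain ⟨ℓ, hℓ⟩ : ∃ ℓ : Module.Dual (ZMod 2) (ι → ZMod 2), ∀ v, ℓ v = lc α v :=
    ⟨AddMonoidHom.toZModLinearMap 2 (AddMonoidHom.mk' (lc α) hadd), fun v => rfl⟩
  obtain ⟨w, hw⟩ : ∃ w : ι → ZMod 2, ∀ v, β w v + β v w = lc α v := by
    refine ⟨((β + β.flip).toDual (nondeg_polar hnd)).symm ℓ, fun v => ?_⟩
    have h1 := LinearMap.BilinForm.apply_toDual_symm_apply (B := β + β.flip)
      (hB := nondeg_polar hnd) ℓ v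
    rw [LinearMap.add_apply, LinearMap.add_apply, LinearMap.BilinForm.flip_apply, hℓ] at h1
    exact h1
  refine ⟨⟨w, 0⟩, ?_⟩
  apply MulEquiv.ext
  intro x
  rw [MulAut.conj_apply, conj_eq, aut_eq hnd, hbar]
  apply QH.ext
  · rfl
  · show x.c + (β w x.v + β x.v w) = lc α x.v + x.c
    rw [hw, add_comm]

theorem Φ₀_coe (α : MulAut (QH β)) :
    ((Φ₀ hnd α : Matrix.GeneralLinearGroup ι (ZMod 2)) : Matrix ι ι (ZMod 2)) =
      LinearMap.toMatrix' (barLin hnd α) := rfl

theorem le_ker : Cfsg.Inn (QH β) ≤ (Φ hnd).ker := by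
  rintro _ ⟨y, rfl⟩
  rw [MonoidHom.mem_ker]
  apply Subtype.ext
  apply Units.ext
  show LinearMap.toMatrix' (barLin hnd (MulAut.conj y)) = 1
  rw [← LinearMap.toMatrix'_id]
  congr 1
  apply LinearMap.ext
  intro v
  show (MulAut.conj y ⟨v, 0⟩).v = v
  rw [MulAut.conj_apply, conj_eq]

theorem ker_eq : (Φ hnd).ker = Cfsg.Inn (QH β) := le_antisymm (ker_le hnd) (le_ker hnd)

theorem surj : Function.Surjective (Φ hnd) := by
  intro g
  have hg := (mem_isometryGroup_iff _ _).mp g.2
  obtain ⟨gM, hgM⟩ : ∃ gM : Matrix ι ι (ZMod 2),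
      gM = ((g : Matrix.GeneralLinearGroup ι (ZMod 2)) : Matrix ι ι (ZMod 2)) := ⟨_, rfl⟩
  rw [← hgM] at hg
  have hinj : ∀ v w : ι → ZMod 2, gM *ᵥ v = gM *ᵥ w → v = w := by
    intro v w h
    have h1 := congrArg (fun u => ((g⁻¹ : ↥(isometryGroup (ZMod 2) (fun v => β v v))).1 :
      Matrix ι ι (ZMod 2)) *ᵥ u) h
    simp only [Matrix.mulVec_mulVec] at h1
    have h2 : ((g⁻¹ : ↥(isometryGroup (ZMod 2) (fun v => β v v))).1 : Matrix ι ι (ZMod 2)) * gM
        = 1 := by
      rw [hgM, ← Units.val_mul, ← Subgroup.coe_mul, inv_mul_cancel]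
      rfl
    rw [h2, Matrix.one_mulVec, Matrix.one_mulVec] at h1
    exact h1
  obtain ⟨μ, hμ⟩ := exists_mu (β.compl₁₂ (Matrix.toLin' gM) (Matrix.toLin' gM)) β (by
    intro v
    rw [LinearMap.compl₁₂_apply, Matrix.toLin'_apply]
    exact hg v)
  simp only [LinearMap.compl₁₂_apply, Matrix.toLin'_apply] at hμ
  have hmul : ∀ x y : QH β, (⟨gM *ᵥ (x * y).v, (x * y).c + μ (x * y).v⟩ : QH β) =
      ⟨gM *ᵥ x.v, x.c + μ x.v⟩ * ⟨gM *ᵥ y.v, y.c + μ y.v⟩ := by
    intro x y
    apply QH.ext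
    · simp only [mul_v, Matrix.mulVec_add]
    · simp only [mul_c, mul_v]
      linear_combination hμ x.v y.v + add_self_z2 (β x.v y.v)
  have hbij : Function.Bijective (MonoidHom.mk' (fun x : QH β =>
      (⟨gM *ᵥ x.v, x.c + μ x.v⟩ : QH β)) hmul) := by
    rw [← Finite.injective_iff_bijective]
    intro x y hxy
    have h1 : gM *ᵥ x.v = gM *ᵥ y.v := congrArg QH.v hxy
    have h2 : x.c + μ x.v = y.c + μ y.v := congrArg QH.c hxy
    have h3 := hinj _ _ h1
    apply QH.ext
    · exact h3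
    · rw [h3] at h2
      exact add_right_cancel h2
  refine ⟨MulEquiv.ofBijective _ hbij, ?_⟩
  apply Subtype.ext
  apply Units.ext
  show LinearMap.toMatrix' (barLin hnd (MulEquiv.ofBijective _ hbij)) = _
  rw [← hgM]
  refine Eq.trans ?_ (LinearMap.toMatrix'_toLin' gM)
  congr 1

/-- the outer automorphism group is the isometry group -/
noncomputable def outEquiv :
    Cfsg.Out (QH β) ≃* ↥(isometryGroup (ZMod 2) (fun v => β v v)) :=
  (QuotientGroup.quotientMulEquivOfEq (ker_eq hnd).symm).trans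
    (QuotientGroup.quotientKerEquivOfSurjective (Φ hnd) (surj hnd))

end aut

end QH

end Cfsg.Agent.Lib.Helper6.ExtraOut
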