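import Mathlib

set_option autoImplicit false
set_option linter.unusedSectionVars false
set_option linter.unusedVariables false
set_option linter.unusedSimpArgs false

/-! A nondegenerate symmetric bilinear form over a perfect field of characteristic two that is not
alternating has an orthonormal basis. -/

namespace Cfsg.Agent.Lib.Helper6.SymCharTwo

open Module

universe u

theorem exists_orthonormal {F : Type*} [Field F] [CharP F 2] [PerfectRing F 2] (n : ℕ) :
    ∀ {V : Type u} [AddCommGroup V] [Module F V] [FiniteDimensional F V]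
      (B : V →ₗ[F] V →ₗ[F] F), B.IsSymm → B.Nondegenerate → (∃ v, B v v ≠ 0) → finrank F V = n →
      ∃ b : Fin n → V, ∀ i j, B (b i) (b j) = if i = j then 1 else 0 := by
  induction n with
  | zero =>
    intro V _ _ _ B _ _ _ _
    exact ⟨Fin.elim0, fun i => i.elim0⟩
  | succ n ih =>
    intro V _ _ _ B hS hB hna hn
    have h2 : (2 : F) = 0 := CharTwo.two_eq_zero
    have hsymm : ∀ x y, B x y = B y x := fun x y => (hS.eq y x).symm
    -- a vector of norm one
    obtain ⟨v₀, hv₀⟩ := hna
    obtain ⟨d, hd⟩ := (bijective_frobenius F 2).surjective (B v₀ v₀)⁻¹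
    rw [frobenius_def] at hd
    have hw₁ : B (d • v₀) (d • v₀) = 1 := by
      have e1 : B (d • v₀) (d • v₀) = d ^ 2 * B v₀ v₀ := by
        simp only [map_smul, LinearMap.smul_apply, smul_eq_mul]
        ring
      rw [e1, hd, inv_mul_cancel₀ hv₀]
    -- a vector of norm one whose orthogonal complement is not alternating (when `n ≥ 1`)
    have key : ∃ v : V, B v v = 1 ∧ (n = 0 ∨ ∃ u, B v u = 0 ∧ B u u ≠ 0) := by
      obtain ⟨w₁, hw₁def⟩ : ∃ w, w = d • v₀ := ⟨_, rfl⟩
      rw [← hw₁def] at hw₁
      by_cases hn0 : n = 0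
      · exact ⟨w₁, hw₁, Or.inl hn0⟩
      by_cases halt : ∃ u, B w₁ u = 0 ∧ B u u ≠ 0
      · exact ⟨w₁, hw₁, Or.inr halt⟩
      push Not at halt
      -- the complement of `w₁` is alternating; pick `e ≠ 0` in it and `f` with `B e f = 1`
      have hker : finrank F (LinearMap.ker (B w₁)) = n := by
        have hsurj : LinearMap.range (B w₁) = ⊤ := by
          rw [eq_top_iff]
          intro a _
          exact ⟨a • w₁, by rw [map_smul, hw₁, smul_eq_mul, mul_one]⟩
        have := LinearMap.finrank_range_add_finrank_ker (B w₁)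
        rw [hsurj, finrank_top, Module.finrank_self, hn] at this
        omega
      have hnt : Nontrivial (LinearMap.ker (B w₁)) :=
        Module.nontrivial_of_finrank_pos (R := F) (by rw [hker]; omega)
      obtain ⟨e, he⟩ := exists_ne (0 : LinearMap.ker (B w₁))
      have he0 : (e : V) ≠ 0 := fun h => he (Subtype.ext h)
      have hwe : B w₁ (e : V) = 0 := LinearMap.mem_ker.mp e.2
      have hee : B (e : V) (e : V) = 0 := halt _ hwe
      -- some `y` with `B e y ≠ 0`
      obtain ⟨y, hy⟩ : ∃ y, B (e : V) y ≠ 0 := by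
        by_contra hcon
        push Not at hcon
        exact he0 (hB.1 _ hcon)
      -- project `y` to the complement of `w₁`
      set f₀ := y - B w₁ y • w₁ with hf₀
      have hwf₀ : B w₁ f₀ = 0 := by
        rw [hf₀, map_sub, map_smul, hw₁, smul_eq_mul, mul_one, sub_self]
      have hef₀ : B (e : V) f₀ = B (e : V) y := by
        rw [hf₀, map_sub, map_smul, hsymm (e : V) w₁, hwe, smul_zero, sub_zero]
      set f := (B (e : V) y)⁻¹ • f₀ with hf
      have hwf : B w₁ f = 0 := by rw [hf, map_smul, hwf₀, smul_zero]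
      have hef : B (e : V) f = 1 := by
        rw [hf, map_smul, hef₀, smul_eq_mul, inv_mul_cancel₀ hy]
      have hff : B f f = 0 := halt _ hwf
      refine ⟨w₁ + e, ?_, Or.inr ⟨w₁ + f, ?_, ?_⟩⟩
      · simp only [map_add, LinearMap.add_apply]
        rw [hw₁, hwe, hsymm (e : V) w₁, hwe, hee]
        ring
      · simp only [map_add, LinearMap.add_apply]
        rw [hw₁, hwf, hsymm (e : V) w₁, hwe, hef]
        linear_combination h2
      · simp only [map_add, LinearMap.add_apply]
        rw [hw₁, hwf, hsymm f w₁, hwf, hff]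
        simp
    obtain ⟨v, hvv, hv'⟩ := key
    obtain ⟨W, hW⟩ : ∃ W : Submodule F V, W = LinearMap.ker (B v) := ⟨_, rfl⟩
    have hmemW : ∀ x, x ∈ W ↔ B v x = 0 := by
      intro x; rw [hW, LinearMap.mem_ker]
    have hmemW' : ∀ x, x ∈ W → B x v = 0 := by
      intro x hx
      rw [hsymm x v, (hmemW x).mp hx]
    have hdimW : finrank F W = n := by
      have hsurj : LinearMap.range (B v) = ⊤ := by
        rw [eq_top_iff]
        intro a _
        exact ⟨a • v, by rw [map_smul, hvv, smul_eq_mul, mul_one]⟩
      have := LinearMap.finrank_range_add_finrank_ker (B v)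
      rw [hsurj, finrank_top, Module.finrank_self, hn, ← hW] at this
      omega
    set B' : W →ₗ[F] W →ₗ[F] F := B.domRestrict₁₂ W W with hB'
    have hB'a : ∀ x y : W, B' x y = B (x : V) (y : V) := fun x y => rfl
    have hS' : B'.IsSymm := ⟨fun x y => by rw [hB'a, hB'a]; exact hS.eq _ _⟩
    have hsepL : B'.SeparatingLeft := by
      intro x hx
      apply Subtype.ext
      apply hB.1 (x : V)
      intro y
      have hw : y - B v y • v ∈ W := by
        rw [hmemW, map_sub, map_smul, hvv, smul_eq_mul, mul_one, sub_self]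
      have h1 : B (x : V) (y - B v y • v) = 0 := hx ⟨_, hw⟩
      rw [map_sub, map_smul, hmemW' _ x.2, smul_zero, sub_zero] at h1
      exact h1
    have hsepR : B'.SeparatingRight := by
      intro y hy
      apply hsepL y
      intro x
      rw [hB'a, hsymm, ← hB'a, hy x]
    have hna' : n = 0 ∨ ∃ u : W, B' u u ≠ 0 := by
      rcases hv' with h | ⟨u, hu1, hu2⟩
      · exact Or.inl h
      · exact Or.inr ⟨⟨u, (hmemW u).mpr hu1⟩, hu2⟩
    obtain ⟨b', hb'⟩ : ∃ b' : Fin n → W, ∀ i j, B' (b' i) (b' j) = if i = j then 1 else 0 := by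
      rcases hna' with h | h
      · subst h
        exact ⟨Fin.elim0, fun i => i.elim0⟩
      · exact ih B' hS' ⟨hsepL, hsepR⟩ h hdimW
    refine ⟨Fin.cons v (fun i => (b' i : V)), ?_⟩
    intro i j
    refine Fin.cases ?_ (fun i => ?_) i <;> refine Fin.cases ?_ (fun j => ?_) j
    · simp [hvv]
    · simp only [Fin.cons_zero, Fin.cons_succ]
      rw [(hmemW _).mp (b' j).2]
      simp [(Fin.succ_ne_zero j).symm]
    · simp only [Fin.cons_zero, Fin.cons_succ]
      rw [hmemW' _ (b' i).2]
      simp [Fin.succ_ne_zero i]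
    · simp only [Fin.cons_succ, Fin.succ_inj]
      exact hb' i j

/-- an orthonormal family is linearly independent -/
theorem linearIndependent_of_orthonormal {F : Type*} [Field F] {V : Type*} [AddCommGroup V]
    [Module F V] (B : V →ₗ[F] V →ₗ[F] F) {n : ℕ} (b : Fin n → V)
    (hb : ∀ i j, B (b i) (b j) = if i = j then 1 else 0) : LinearIndependent F b := by
  rw [Fintype.linearIndependent_iff]
  intro c hc j
  have h1 := congrArg (fun x => B (b j) x) hc
  simp only [map_sum, map_smul, map_zero, hb, smul_eq_mul] at h1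
  rw [Finset.sum_eq_single j (fun i _ hij => by rw [if_neg (Ne.symm hij), mul_zero])
    (fun h => absurd (Finset.mem_univ j) h), if_pos rfl, mul_one] at h1
  exact h1

end Cfsg.Agent.Lib.Helper6.SymCharTwo
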