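import Mathlib
import Cfsg.Agent.Lib.Helper5.AltForm
import Cfsg.Agent.Lib.Helper6.SymCharTwo

set_option autoImplicit false
set_option linter.unusedSectionVars false
set_option linter.unusedVariables false
set_option linter.unusedSimpArgs false

/-! Involutions preserving a nondegenerate alternating form in characteristic two: normal forms
`t x = x + ∑ f(x, w (τ i)) w i`. -/

namespace Cfsg.Agent.Lib.Helper6.InvAbs

open Cfsg.Agent.Lib.Helper5

variable {F : Type*} [Field F] {V : Type*} [AddCommGroup V] [Module F V]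

/-- `t` is an involution preserving the nondegenerate alternating form `f` -/
structure Inv (f : LinearMap.BilinForm F V) (t : V →ₗ[F] V) : Prop where
  alt : ∀ x, f x x = 0
  nondeg : f.Nondegenerate
  sq : ∀ x, t (t x) = x
  isom : ∀ x y, f (t x) (t y) = f x y

variable {f : LinearMap.BilinForm F V} {t : V →ₗ[F] V}

/-- `t - 1` -/
def Nl (t : V →ₗ[F] V) : V →ₗ[F] V := t - LinearMap.id

theorem Nl_apply (t : V →ₗ[F] V) (x : V) : Nl t x = t x - x := rfl

theorem symm [CharP F 2] (h : Inv f t) (x y : V) : f x y = f y x := by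
  have h1 := h.alt (x + y)
  simp only [map_add, LinearMap.add_apply, h.alt, zero_add, add_zero] at h1
  have h2 : f x y = - f y x := eq_neg_of_add_eq_zero_right h1
  rw [h2, CharTwo.neg_eq]

theorem adj (h : Inv f t) (x y : V) : f (t x) y = f x (t y) := by
  rw [← h.isom (t x) y, h.sq]

theorem N_adj (h : Inv f t) (x y : V) : f (Nl t x) y = f x (Nl t y) := by
  rw [Nl_apply, Nl_apply, map_sub, LinearMap.sub_apply, map_sub, adj h]

theorem vec_add_self (F : Type*) [Field F] {V : Type*} [AddCommGroup V] [Module F V]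
    [CharP F 2] (x : V) : x + x = 0 := by
  have h2 : (2 : F) = 0 := CharTwo.two_eq_zero
  have : (2 : F) • x = 0 := by rw [h2, zero_smul]
  rw [two_smul] at this
  exact this

theorem N_N [CharP F 2] (h : Inv f t) (y : V) : Nl t (Nl t y) = 0 := by
  rw [Nl_apply, Nl_apply, map_sub, h.sq]
  have h2 : t y + t y = 0 := vec_add_self F _
  have h3 : y + y = 0 := vec_add_self F _
  calc y - t y - (t y - y) = (y + y) - (t y + t y) := by abel
    _ = 0 := by rw [h2, h3, sub_zero]

theorem f_N_N [CharP F 2] (h : Inv f t) (x y : V) : f (Nl t x) (Nl t y) = 0 := by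
  rw [N_adj h, N_N h, map_zero]

theorem f_self_t (h : Inv f t) (v : V) : f v (t v) = f v (Nl t v) := by
  rw [Nl_apply, map_sub, h.alt, sub_zero]

/-- the bilinear form induced on the image of `t - 1`, defined through a section `s` -/
noncomputable def gam (f : LinearMap.BilinForm F V) (t : V →ₗ[F] V)
    (s : ↥(LinearMap.range (Nl t)) →ₗ[F] V) :
    LinearMap.BilinForm F ↥(LinearMap.range (Nl t)) :=
  LinearMap.mk₂ F (fun x y => f (y : V) (s x))
    (fun x x' y => by rw [map_add, map_add])
    (fun c x y => by rw [map_smul, map_smul])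
    (fun x y y' => by rw [Submodule.coe_add, map_add, LinearMap.add_apply])
    (fun c x y => by rw [Submodule.coe_smul, map_smul, LinearMap.smul_apply])

theorem gam_apply (s : ↥(LinearMap.range (Nl t)) →ₗ[F] V) (x y : ↥(LinearMap.range (Nl t))) :
    gam f t s x y = f (y : V) (s x) := rfl

theorem gam_N (h : Inv f t) (s : ↥(LinearMap.range (Nl t)) →ₗ[F] V)
    (hs : ∀ w : ↥(LinearMap.range (Nl t)), Nl t (s w) = w)
    (w' : ↥(LinearMap.range (Nl t))) (x : V) :
    gam f t s w' ⟨Nl t x, LinearMap.mem_range_self _ x⟩ = f x (w' : V) := by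
  rw [gam_apply]
  show f (Nl t x) (s w') = _
  rw [N_adj h, hs]

theorem gam_isSymm [CharP F 2] (h : Inv f t) (s : ↥(LinearMap.range (Nl t)) →ₗ[F] V)
    (hs : ∀ w : ↥(LinearMap.range (Nl t)), Nl t (s w) = w) : LinearMap.IsSymm (gam f t s) := by
  refine ⟨fun x y => ?_⟩
  rw [RingHom.id_apply, gam_apply, gam_apply]
  conv_lhs => rw [← hs y]
  rw [N_adj h, hs, symm h]

theorem gam_nondegenerate [CharP F 2] (h : Inv f t) (s : ↥(LinearMap.range (Nl t)) →ₗ[F] V)
    (hs : ∀ w : ↥(LinearMap.range (Nl t)), Nl t (s w) = w) : (gam f t s).Nondegenerate := by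
  have hleft : ∀ x : ↥(LinearMap.range (Nl t)), (∀ y, gam f t s x y = 0) → x = 0 := by
    intro x hx
    have h1 : ∀ u : V, f u (x : V) = 0 := by
      intro u
      rw [← gam_N h s hs x u]
      exact hx _
    have h2 := h.nondeg.2 (x : V) h1
    exact Subtype.ext h2
  constructor
  · exact hleft
  · intro y hy
    apply hleft
    intro x
    have h1 := (gam_isSymm h s hs).eq x y
    rw [hy x, map_zero] at h1
    exact h1.symm

theorem gam_diag (h : Inv f t) (s : ↥(LinearMap.range (Nl t)) →ₗ[F] V)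
    (hs : ∀ w : ↥(LinearMap.range (Nl t)), Nl t (s w) = w) (v : V) :
    gam f t s ⟨Nl t v, LinearMap.mem_range_self _ v⟩ ⟨Nl t v, LinearMap.mem_range_self _ v⟩ =
      f v (t v) := by
  rw [gam_N h s hs, f_self_t h]

theorem exists_section (t : V →ₗ[F] V) :
    ∃ s : ↥(LinearMap.range (Nl t)) →ₗ[F] V,
      ∀ w : ↥(LinearMap.range (Nl t)), Nl t (s w) = w := by
  obtain ⟨s, hs'⟩ := (Nl t).rangeRestrict.exists_rightInverse_of_surjective
    (LinearMap.range_rangeRestrict _)
  refine ⟨s, fun w => ?_⟩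
  have h1 := congrArg (fun g : ↥(LinearMap.range (Nl t)) →ₗ[F] ↥(LinearMap.range (Nl t)) =>
    ((g w : ↥(LinearMap.range (Nl t))) : V)) hs'
  exact h1

/-- **Normal form, non-alternating case.** -/
theorem normal_form_nonalt [CharP F 2] [PerfectRing F 2] [FiniteDimensional F V] (h : Inv f t)
    (hna : ∃ v, f v (t v) ≠ 0) :
    ∃ w : Fin (Module.finrank F (LinearMap.range (Nl t))) → V,
      LinearIndependent F w ∧ (∀ i j, f (w i) (w j) = 0) ∧
      (∀ x, t x - x = ∑ i, f x (w i) • w i) ∧
      (∀ i, ∃ v, t v - v = w i ∧ f v (t v) = 1) := by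
  obtain ⟨s, hs⟩ := exists_section t
  obtain ⟨v₀, hv₀⟩ := hna
  obtain ⟨b₀, hb₀⟩ := SymCharTwo.exists_orthonormal
    (Module.finrank F (LinearMap.range (Nl t))) (gam f t s)
    (gam_isSymm h s hs) (gam_nondegenerate h s hs)
    ⟨⟨Nl t v₀, LinearMap.mem_range_self _ v₀⟩, by rw [gam_diag h s hs]; exact hv₀⟩ rfl
  have hli := SymCharTwo.linearIndependent_of_orthonormal (gam f t s) b₀ hb₀
  set b := basisOfLinearIndependentOfCardEqFinrank' b₀ hli (by rw [Fintype.card_fin]) with hbdef
  have hb : ∀ i j, gam f t s (b i) (b j) = if i = j then 1 else 0 := by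
    intro i j
    rw [hbdef, coe_basisOfLinearIndependentOfCardEqFinrank']
    exact hb₀ i j
  refine ⟨fun i => ((b i : ↥(LinearMap.range (Nl t))) : V), ?_, ?_, ?_, ?_⟩
  · exact b.linearIndependent.map' (Submodule.subtype _) (Submodule.ker_subtype _)
  · intro i j
    show f ((b i : ↥(LinearMap.range (Nl t))) : V) ((b j : ↥(LinearMap.range (Nl t))) : V) = 0
    rw [← hs (b i), ← hs (b j)]
    exact f_N_N h _ _
  · intro x
    set y : ↥(LinearMap.range (Nl t)) := ⟨Nl t x, LinearMap.mem_range_self _ x⟩ with hy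
    have hrepr : ∀ j, b.repr y j = f x ((b j : ↥(LinearMap.range (Nl t))) : V) := by
      intro j
      have h1 := congrArg (gam f t s (b j)) (b.sum_repr y)
      rw [map_sum] at h1
      simp only [map_smul, smul_eq_mul, hb] at h1
      rw [Finset.sum_eq_single j (fun i _ hij => by rw [if_neg (Ne.symm hij), mul_zero])
        (fun h => absurd (Finset.mem_univ j) h), if_pos rfl, mul_one] at h1
      rw [h1, hy, gam_N h s hs]
    have h2 := congrArg (fun z : ↥(LinearMap.range (Nl t)) => (z : V)) (b.sum_repr y)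
    simp only [Submodule.coe_sum, Submodule.coe_smul] at h2
    rw [show t x - x = (y : V) from rfl, ← h2]
    apply Finset.sum_congr rfl
    intro i _
    rw [hrepr]
  · intro i
    refine ⟨s (b i), hs (b i), ?_⟩
    have h1 := hb i i
    rw [if_pos rfl] at h1
    have h2 : b i = ⟨Nl t (s (b i)), LinearMap.mem_range_self _ _⟩ := Subtype.ext (hs (b i)).symm
    rw [h2, gam_diag h s hs] at h1
    rw [← h1]

/-- **Normal form, alternating case.** -/
theorem normal_form_alt [CharP F 2] [FiniteDimensional F V] (h : Inv f t)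
    (halt : ∀ v, f v (t v) = 0) :
    ∃ (k : ℕ) (w : Fin k ⊕ Fin k → V),
      k + k = Module.finrank F (LinearMap.range (Nl t)) ∧
      LinearIndependent F w ∧ (∀ i j, f (w i) (w j) = 0) ∧
      (∀ x, t x - x = ∑ i, f x (w (Sum.swap i)) • w i) ∧
      (∀ i, ∃ v, t v - v = w i) := by
  obtain ⟨s, hs⟩ := exists_section t
  have hAlt : LinearMap.BilinForm.IsAlt (gam f t s) := by
    intro w
    obtain ⟨v, hv⟩ := w.2
    have hw : w = ⟨Nl t v, LinearMap.mem_range_self _ v⟩ := Subtype.ext hv.symm
    rw [hw, gam_diag h s hs]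
    exact halt v
  obtain ⟨k, k0, b, h1, h2, h3, h4, h5, h6⟩ := AltForm.exists_darboux_basis (gam f t s) hAlt
  have hk0 : k0 = 0 := by
    rw [h6]
    have hker : LinearMap.ker (gam f t s) = ⊥ :=
      LinearMap.separatingLeft_iff_ker_eq_bot.mp (gam_nondegenerate h s hs).1
    rw [hker, finrank_bot]
  subst hk0
  have hsym : ∀ x y, gam f t s x y = gam f t s y x := fun x y =>
    ((gam_isSymm h s hs).eq y x).symm
  have hpair : ∀ i j : Fin k ⊕ Fin k,
      gam f t s (b (Sum.inl (Sum.swap i))) (b (Sum.inl j)) = if i = j then 1 else 0 := by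
    intro i j
    rcases i with i | i <;> rcases j with j | j
    · rw [Sum.swap_inl, hsym, h1]
      simp only [Sum.inl.injEq, eq_comm]
    · rw [Sum.swap_inl, h3]
      simp
    · rw [Sum.swap_inr, h2]
      simp
    · rw [Sum.swap_inr, h1]
      simp only [Sum.inr.injEq]
  refine ⟨k, fun i => ((b (Sum.inl i) : ↥(LinearMap.range (Nl t))) : V),
    by omega, ?_, ?_, ?_, ?_⟩
  · have hli1 : LinearIndependent F (fun i : Fin k ⊕ Fin k => b (Sum.inl i)) :=
      b.linearIndependent.comp _ Sum.inl_injective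
    exact hli1.map' (Submodule.subtype _) (Submodule.ker_subtype _)
  · intro i j
    show f ((b (Sum.inl i) : ↥(LinearMap.range (Nl t))) : V)
      ((b (Sum.inl j) : ↥(LinearMap.range (Nl t))) : V) = 0
    rw [← hs (b (Sum.inl i)), ← hs (b (Sum.inl j))]
    exact f_N_N h _ _
  · intro x
    set y : ↥(LinearMap.range (Nl t)) := ⟨Nl t x, LinearMap.mem_range_self _ x⟩ with hy
    have hsum : y = ∑ i : Fin k ⊕ Fin k, b.repr y (Sum.inl i) • b (Sum.inl i) := by
      have h0 := (b.sum_repr y).symm
      rw [Fintype.sum_sum_type] at h0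
      rw [Finset.univ_eq_empty (α := Fin 0), Finset.sum_empty, add_zero] at h0
      exact h0
    have hrepr : ∀ j : Fin k ⊕ Fin k, b.repr y (Sum.inl j) =
        f x ((b (Sum.inl (Sum.swap j)) : ↥(LinearMap.range (Nl t))) : V) := by
      intro j
      have h7 := congrArg (gam f t s (b (Sum.inl (Sum.swap j)))) hsum
      rw [map_sum] at h7
      simp only [map_smul, smul_eq_mul, hpair] at h7
      rw [Finset.sum_eq_single j (fun i _ hij => by rw [if_neg (Ne.symm hij), mul_zero])
        (fun h => absurd (Finset.mem_univ j) h), if_pos rfl, mul_one] at h7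
      rw [← h7, hy, gam_N h s hs]
    have h8 := congrArg (fun z : ↥(LinearMap.range (Nl t)) => (z : V)) hsum
    simp only [Submodule.coe_sum, Submodule.coe_smul] at h8
    rw [show t x - x = (y : V) from rfl, h8]
    apply Finset.sum_congr rfl
    intro i _
    rw [hrepr]
  · intro i
    exact ⟨s (b (Sum.inl i)), hs (b (Sum.inl i))⟩

/-- conjugating a normal form -/
theorem conj_abs {ι : Type*} [Fintype ι] (τ : ι → ι) {t t' : V →ₗ[F] V} (w w' : ι → V)
    (hN : ∀ x, t x - x = ∑ i, f x (w (τ i)) • w i)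
    (hN' : ∀ x, t' x - x = ∑ i, f x (w' (τ i)) • w' i)
    (g : V ≃ₗ[F] V) (hg : ∀ u v, f (g u) (g v) = f u v) (hgw : ∀ i, g (w i) = w' i) (x : V) :
    g (t (g.symm x)) = t' x := by
  have e1 : t (g.symm x) = g.symm x + ∑ i, f (g.symm x) (w (τ i)) • w i := by
    rw [← hN]; abel
  have e2 : t' x = x + ∑ i, f x (w' (τ i)) • w' i := by
    rw [← hN']; abel
  rw [e1, e2, map_add, LinearEquiv.apply_symm_apply, map_sum]
  congr 1
  apply Finset.sum_congr rfl
  intro i _
  rw [map_smul, hgw, ← hgw (τ i), ← hg (g.symm x) (w (τ i)), LinearEquiv.apply_symm_apply]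

/-- the alternating type is invariant under conjugation by isometries of `f` -/
theorem alt_conj {t t' : V →ₗ[F] V} (g : V ≃ₗ[F] V) (hg : ∀ u v, f (g u) (g v) = f u v)
    (hc : ∀ x, g (t (g.symm x)) = t' x) (halt : ∀ v, f v (t v) = 0) (v : V) :
    f v (t' v) = 0 := by
  have h1 := hg (g.symm v) (t (g.symm v))
  rw [LinearEquiv.apply_symm_apply, hc] at h1
  rw [h1]
  exact halt _

/-- conjugate maps have the same rank of `t - 1` -/
theorem finrank_range_conj {t t' : V →ₗ[F] V} (g : V ≃ₗ[F] V)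
    (hc : ∀ x, g (t (g.symm x)) = t' x) :
    Module.finrank F (LinearMap.range (Nl t')) = Module.finrank F (LinearMap.range (Nl t)) := by
  have h1 : LinearMap.range (Nl t') = (LinearMap.range (Nl t)).map (g : V →ₗ[F] V) := by
    ext y
    constructor
    · rintro ⟨x, rfl⟩
      refine ⟨Nl t (g.symm x), LinearMap.mem_range_self _ _, ?_⟩
      show g (Nl t (g.symm x)) = Nl t' x
      rw [Nl_apply, Nl_apply, map_sub, hc, LinearEquiv.apply_symm_apply]
    · rintro ⟨z, ⟨x, rfl⟩, rfl⟩
      refine ⟨g x, ?_⟩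
      show Nl t' (g x) = g (Nl t x)
      rw [Nl_apply, Nl_apply, map_sub, ← hc, LinearEquiv.symm_apply_apply]
  rw [h1]
  exact LinearEquiv.finrank_map_eq g _

end Cfsg.Agent.Lib.Helper6.InvAbs
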