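import Mathlib
import Cfsg.Prelude
import Cfsg.Agent.Lib.Helper5.OmegaCrit
import Cfsg.Agent.Lib.Helper5.ClassParity
import Cfsg.Agent.Lib.Helper5.OrthBridge
import Cfsg.Agent.Lib.Helper6.InvAbs

set_option autoImplicit false
set_option linter.unusedSectionVars false
set_option linter.unusedVariables false
set_option linter.unusedSimpArgs false
open Cfsg

/-! Involutions of orthogonal groups over finite fields of characteristic two. -/

namespace Cfsg.Agent.Lib.Helper6.OrthInv2

open Matrix QuadraticMap Module Cfsg.Agent.Lib.Helper5 Cfsg.Agent.Lib.Helper5.CartanDieudonne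
  Cfsg.Agent.Lib.Helper5.Refl Cfsg.Agent.Lib.Helper5.OrthCard Cfsg.Agent.Lib.Helper5.SpinorNorm

variable {ι : Type} [Fintype ι] [DecidableEq ι] {F : Type*} [Field F]
  (Q : QuadraticForm F (ι → F))

/-- the linear map of an isometry -/
noncomputable def tL (t : ↥(isometryGroup F ⇑Q)) : (ι → F) →ₗ[F] (ι → F) :=
  Matrix.mulVecLin ((t : Matrix.GeneralLinearGroup ι F) : Matrix ι ι F)

theorem tL_apply (t : ↥(isometryGroup F ⇑Q)) (x : ι → F) : tL Q t x = act Q t x := rfl

theorem act_one' (x : ι → F) : act Q 1 x = x := by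
  show (1 : Matrix ι ι F) *ᵥ x = x
  rw [one_mulVec]

theorem act_inv_act' (a : ↥(isometryGroup F ⇑Q)) (x : ι → F) : act Q a⁻¹ (act Q a x) = x := by
  rw [← act_mul, inv_mul_cancel, act_one']

theorem act_act_inv' (a : ↥(isometryGroup F ⇑Q)) (x : ι → F) : act Q a (act Q a⁻¹ x) = x := by
  rw [← act_mul, mul_inv_cancel, act_one']

theorem ext_act' {g h : ↥(isometryGroup F ⇑Q)} (H : ∀ x, act Q g x = act Q h x) : g = h := by
  apply Subtype.ext
  apply Units.ext
  rw [ext_iff_mulVec]
  exact H

theorem polar_self_zero [CharP F 2] (x : ι → F) : polar ⇑Q x x = 0 := by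
  rw [polar_self]
  have h2 : (2 : F) = 0 := CharTwo.two_eq_zero
  rw [two_nsmul]
  exact CharTwo.add_self_eq_zero _

theorem inv_tL [CharP F 2] (hQ : (polarBilin Q).Nondegenerate) (t : ↥(isometryGroup F ⇑Q))
    (ht : t * t = 1) : InvAbs.Inv (polarBilin Q) (tL Q t) where
  alt := fun x => by rw [polarBilin_apply_apply]; exact polar_self_zero Q x
  nondeg := hQ
  sq := fun x => by rw [tL_apply, tL_apply, ← act_mul, ht, act_one']
  isom := fun x y => by
    rw [polarBilin_apply_apply, polarBilin_apply_apply, tL_apply, tL_apply, polar_act]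

/-- `Q((t - 1) x) = f(x, t x)` -/
theorem quad_N [CharP F 2] (t : ↥(isometryGroup F ⇑Q)) (x : ι → F) :
    Q (act Q t x - x) = polar ⇑Q x (act Q t x) := by
  have h1 : act Q t x - x = x + act Q t x := by
    have : x + x = 0 := InvAbs.vec_add_self F x
    calc act Q t x - x = act Q t x - x + (x + x) := by rw [this, add_zero]
      _ = x + act Q t x := by abel
  rw [h1]
  unfold polar
  rw [quad_act]
  have : Q x + Q x = 0 := CharTwo.add_self_eq_zero _
  linear_combination this

/-- **normal form, non-alternating type** -/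
theorem normalB [Fintype F] [CharP F 2] (hQ : (polarBilin Q).Nondegenerate)
    (t : ↥(isometryGroup F ⇑Q)) (ht : t * t = 1) (hna : ∃ v, polar ⇑Q v (act Q t v) ≠ 0) :
    ∃ w : Fin (finrank F (LinearMap.range (InvAbs.Nl (tL Q t)))) → (ι → F),
      LinearIndependent F w ∧ (∀ i j, polar ⇑Q (w i) (w j) = 0) ∧
      (∀ x, act Q t x - x = ∑ i, polar ⇑Q x (w i) • w i) ∧ (∀ i, Q (w i) = 1) := by
  obtain ⟨w, hli, h0, hN, hv⟩ := InvAbs.normal_form_nonalt (inv_tL Q hQ t ht) hna
  refine ⟨w, hli, h0, hN, fun i => ?_⟩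
  obtain ⟨v, hv1, hv2⟩ := hv i
  rw [← hv1]
  exact (quad_N Q t v).trans hv2

/-- **normal form, alternating type** -/
theorem normalA [Fintype F] [CharP F 2] (hQ : (polarBilin Q).Nondegenerate)
    (t : ↥(isometryGroup F ⇑Q)) (ht : t * t = 1) (halt : ∀ v, polar ⇑Q v (act Q t v) = 0) :
    ∃ (k : ℕ) (w : Fin k ⊕ Fin k → (ι → F)),
      k + k = finrank F (LinearMap.range (InvAbs.Nl (tL Q t))) ∧
      LinearIndependent F w ∧ (∀ i j, polar ⇑Q (w i) (w j) = 0) ∧
      (∀ x, act Q t x - x = ∑ i, polar ⇑Q x (w (Sum.swap i)) • w i) ∧ (∀ i, Q (w i) = 0) := by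
  obtain ⟨k, w, hk, hli, h0, hN, hv⟩ := InvAbs.normal_form_alt (inv_tL Q hQ t ht) halt
  refine ⟨k, w, hk, hli, h0, hN, fun i => ?_⟩
  obtain ⟨v, hv1⟩ := hv i
  rw [← hv1]
  exact (quad_N Q t v).trans (halt v)

/-- conjugacy of two involutions with the same normal form -/
theorem conj_of_forms [FiniteDimensional F (ι → F)] (hQ : (polarBilin Q).Nondegenerate)
    {κ : Type*} [Fintype κ] (τ : κ → κ)
    (t s : ↥(isometryGroup F ⇑Q)) (w w' : κ → (ι → F))
    (hli : LinearIndependent F w) (hli' : LinearIndependent F w')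
    (h0 : ∀ i j, polar ⇑Q (w i) (w j) = 0) (h0' : ∀ i j, polar ⇑Q (w' i) (w' j) = 0)
    (hq : ∀ i, Q (w i) = Q (w' i))
    (hN : ∀ x, act Q t x - x = ∑ i, polar ⇑Q x (w (τ i)) • w i)
    (hN' : ∀ x, act Q s x - x = ∑ i, polar ⇑Q x (w' (τ i)) • w' i) :
    ∃ g : ↥(isometryGroup F ⇑Q), g * t * g⁻¹ = s := by
  classical
  set e := Fintype.equivFin κ with he
  obtain ⟨g, hg, hgx⟩ := QuadIsom.witt_family Q hQ (Fintype.card κ) (w ∘ e.symm) (w' ∘ e.symm)
    (hli.comp _ e.symm.injective) (hli'.comp _ e.symm.injective)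
    (fun i => hq _)
    (fun i j => by
      simp only [Function.comp_apply]
      rw [h0, h0'])
  obtain ⟨A, hA⟩ := exists_isom_of_linearEquiv Q g hg
  have hgw : ∀ i, g (w i) = w' i := by
    intro i
    have h1 := hgx (e i)
    simp only [Function.comp_apply, Equiv.symm_apply_apply] at h1
    exact h1
  have hgp : ∀ u v, polarBilin Q (g u) (g v) = polarBilin Q u v := by
    intro u v
    rw [polarBilin_apply_apply, polarBilin_apply_apply]
    exact QuadIsom.polar_of_isom Q (g : (ι → F) →ₗ[F] (ι → F)) hg u v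
  have hc := InvAbs.conj_abs (f := polarBilin Q) τ (t := tL Q t) (t' := tL Q s) w w'
    (fun x => by rw [tL_apply]; exact hN x) (fun x => by rw [tL_apply]; exact hN' x) g hgp hgw
  refine ⟨A, ?_⟩
  apply ext_act'
  intro x
  rw [act_mul, act_mul]
  have h1 : act Q A⁻¹ x = g.symm x := by
    apply g.injective
    rw [LinearEquiv.apply_symm_apply, ← hA, act_act_inv']
  rw [h1, hA]
  exact hc x

/-- involutions of the same rank and the same type are conjugate in the isometry group -/
theorem conj_of_same_type [Fintype F] [CharP F 2] (hQ : (polarBilin Q).Nondegenerate)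
    (t s : ↥(isometryGroup F ⇑Q)) (ht : t * t = 1) (hs : s * s = 1)
    (hr : finrank F (LinearMap.range (InvAbs.Nl (tL Q t))) =
      finrank F (LinearMap.range (InvAbs.Nl (tL Q s))))
    (htype : (∀ v, polar ⇑Q v (act Q t v) = 0) ↔ (∀ v, polar ⇑Q v (act Q s v) = 0)) :
    ∃ g : ↥(isometryGroup F ⇑Q), g * t * g⁻¹ = s := by
  by_cases hA : ∀ v, polar ⇑Q v (act Q t v) = 0
  · have hB := htype.mp hA
    obtain ⟨k, w, hk, hli, h0, hN, hq⟩ := normalA Q hQ t ht hA
    obtain ⟨k', w', hk', hli', h0', hN', hq'⟩ := normalA Q hQ s hs hB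
    have hkk : k' = k := by omega
    subst hkk
    exact conj_of_forms Q hQ Sum.swap t s w w' hli hli' h0 h0'
      (fun i => by rw [hq, hq']) hN hN'
  · have hB : ¬ ∀ v, polar ⇑Q v (act Q s v) = 0 := fun h => hA (htype.mpr h)
    push Not at hA hB
    obtain ⟨w, hli, h0, hN, hq⟩ := normalB Q hQ t ht hA
    obtain ⟨w', hli', h0', hN', hq'⟩ := normalB Q hQ s hs hB
    set w'' : Fin (finrank F (LinearMap.range (InvAbs.Nl (tL Q t)))) → (ι → F) :=
      w' ∘ Fin.cast hr with hw''
    have hli'' : LinearIndependent F w'' := hli'.comp _ (Fin.cast_injective hr)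
    have hN'' : ∀ x, act Q s x - x = ∑ i, polar ⇑Q x (w'' i) • w'' i := by
      intro x
      rw [hN' x]
      exact (Fintype.sum_equiv (finCongr hr) _ _ (fun i => rfl)).symm
    exact conj_of_forms Q hQ id t s w w'' hli hli'' h0 (fun i j => h0' _ _)
      (fun i => by rw [hq]; exact (hq' _).symm) hN hN''

/-- the linear equivalence of an invertible matrix -/
noncomputable def glEquiv (g : Matrix.GeneralLinearGroup ι F) :
    (ι → F) ≃ₗ[F] (ι → F) :=
  LinearEquiv.ofLinearMap (Matrix.mulVecLin (g : Matrix ι ι F))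
    (Matrix.mulVecLin ((g⁻¹ : Matrix.GeneralLinearGroup ι F) : Matrix ι ι F))
    (by
      apply LinearMap.ext
      intro x
      simp only [LinearMap.comp_apply, Matrix.mulVecLin_apply, LinearMap.id_apply,
        Matrix.mulVec_mulVec]
      rw [← Units.val_mul, mul_inv_cancel, Units.val_one, one_mulVec])
    (by
      apply LinearMap.ext
      intro x
      simp only [LinearMap.comp_apply, Matrix.mulVecLin_apply, LinearMap.id_apply,
        Matrix.mulVec_mulVec]
      rw [← Units.val_mul, inv_mul_cancel, Units.val_one, one_mulVec])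

theorem glEquiv_apply (g : Matrix.GeneralLinearGroup ι F) (x : ι → F) :
    glEquiv g x = (g : Matrix ι ι F) *ᵥ x := rfl

theorem glEquiv_symm_apply (g : Matrix.GeneralLinearGroup ι F) (x : ι → F) :
    (glEquiv g).symm x = ((g⁻¹ : Matrix.GeneralLinearGroup ι F) : Matrix ι ι F) *ᵥ x := rfl

/-- conjugacy under a form-preserving invertible matrix gives conjugacy in the isometry group -/
theorem conj_of_symp [Fintype F] [CharP F 2] (hQ : (polarBilin Q).Nondegenerate)
    (t s : ↥(isometryGroup F ⇑Q)) (ht : t * t = 1) (hs : s * s = 1)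
    (g : Matrix.GeneralLinearGroup ι F)
    (hg : ∀ u v, polar ⇑Q ((g : Matrix ι ι F) *ᵥ u) ((g : Matrix ι ι F) *ᵥ v) = polar ⇑Q u v)
    (hgts : g * (t : Matrix.GeneralLinearGroup ι F) * g⁻¹ = (s : Matrix.GeneralLinearGroup ι F)) :
    ∃ c : ↥(isometryGroup F ⇑Q), c * t * c⁻¹ = s := by
  have hgp : ∀ u v, polarBilin Q (glEquiv g u) (glEquiv g v) = polarBilin Q u v := by
    intro u v
    rw [polarBilin_apply_apply, polarBilin_apply_apply, glEquiv_apply, glEquiv_apply, hg]
  have hc : ∀ x, glEquiv g (tL Q t ((glEquiv g).symm x)) = tL Q s x := by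
    intro x
    rw [glEquiv_apply, glEquiv_symm_apply, tL_apply, tL_apply]
    unfold act
    rw [Matrix.mulVec_mulVec, Matrix.mulVec_mulVec, ← hgts]
    rfl
  have hc' : ∀ x, (glEquiv g).symm (tL Q s ((glEquiv g).symm.symm x)) = tL Q t x := by
    intro x
    rw [LinearEquiv.symm_symm, ← hc, LinearEquiv.symm_apply_apply, LinearEquiv.symm_apply_apply]
  have hgp' : ∀ u v, polarBilin Q ((glEquiv g).symm u) ((glEquiv g).symm v) = polarBilin Q u v := by
    intro u v
    rw [← hgp, LinearEquiv.apply_symm_apply, LinearEquiv.apply_symm_apply]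
  apply conj_of_same_type Q hQ t s ht hs
  · exact (InvAbs.finrank_range_conj (glEquiv g) hc).symm
  · constructor
    · intro h v
      have := InvAbs.alt_conj (f := polarBilin Q) (glEquiv g) hgp hc
        (fun v => by rw [polarBilin_apply_apply, tL_apply]; exact h v) v
      rw [polarBilin_apply_apply, tL_apply] at this
      exact this
    · intro h v
      have := InvAbs.alt_conj (f := polarBilin Q) (glEquiv g).symm hgp' hc'
        (fun v => by rw [polarBilin_apply_apply, tL_apply]; exact h v) v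
      rw [polarBilin_apply_apply, tL_apply] at this
      exact this

/-- **Involutions of the orthogonal group in characteristic two are conjugate iff they are
conjugate in the symplectic group of the polar form.** -/
theorem conj_iff_symp [Fintype F] [CharP F 2] (Q₀ : (ι → F) → F) (hQQ : ⇑Q = Q₀)
    (hQ : (polarBilin Q).Nondegenerate)
    (t s : ↥(isometryGroup F Q₀)) (ht : orderOf t = 2) (hs : orderOf s = 2) :
    IsConj t s ↔ ∃ g ∈ Cfsg.preserving (Units.coeHom (Matrix ι ι F))
      (fun u v => Q₀ (u + v) - Q₀ u - Q₀ v),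
      g * (t : Matrix.GeneralLinearGroup ι F) * g⁻¹ = (s : Matrix.GeneralLinearGroup ι F) := by
  subst hQQ
  have ht' : t * t = 1 := by
    have := pow_orderOf_eq_one t
    rw [ht, pow_two] at this
    exact this
  have hs' : s * s = 1 := by
    have := pow_orderOf_eq_one s
    rw [hs, pow_two] at this
    exact this
  constructor
  · intro h
    obtain ⟨c, hc⟩ := isConj_iff.mp h
    refine ⟨(c : Matrix.GeneralLinearGroup ι F), ?_, ?_⟩
    · intro u v
      show Q (act Q c u + act Q c v) - Q (act Q c u) - Q (act Q c v) = Q (u + v) - Q u - Q v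
      rw [← Siegel.act_add, quad_act, quad_act, quad_act]
    · rw [← hc]
      rfl
  · rintro ⟨g, hg, hgts⟩
    obtain ⟨c, hc⟩ := conj_of_symp Q hQ t s ht' hs' g (fun u v => hg u v) hgts
    exact isConj_iff.mpr ⟨c, hc⟩

end Cfsg.Agent.Lib.Helper6.OrthInv2
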