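import Mathlib
import Cfsg.Prelude
import Cfsg.Agent.Lib.Helper5.QuadStd
import Cfsg.Agent.Lib.Helper5.PlusGeom
import Cfsg.Agent.Lib.Helper5.OrthPlane
import Cfsg.Agent.Lib.Helper5.MaxTS
import Cfsg.Agent.Lib.Helper6.OrthInv2

set_option autoImplicit false
set_option linter.unusedSectionVars false
set_option linter.unusedVariables false
set_option linter.unusedSimpArgs false
open Cfsg

/-! The standard plus and minus forms: nondegeneracy, in the form used for the involution
statements. -/

namespace Cfsg.Agent.Lib.Helper6.OrthInv2Std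

open Matrix QuadraticMap Module Cfsg.Agent.Lib.Helper5 Cfsg.Agent.Lib.Helper5.OrthCard
  Cfsg.Agent.Lib.Helper5.OrthPlane

variable {F : Type*} [Field F]

theorem minusForm_eq_genForm (k : ℕ) (a b : F) :
    minusForm k F a b = genForm (binForm a b) k := by
  apply DFunLike.coe_injective
  rw [coe_minusForm]
  funext v
  rw [genForm_apply, binForm_apply]
  simp only [Cfsg.quadFormMinus]
  ring

theorem minus_nondeg [Finite F] (k : ℕ) (c d : F)
    (hcd : ∀ z₁ z₂ : F, z₁ ^ 2 + c * z₁ * z₂ + d * z₂ ^ 2 = 0 → z₁ = 0 ∧ z₂ = 0) :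
    (polarBilin (minusForm k F c d)).Nondegenerate := by
  rw [minusForm_eq_genForm]
  exact genForm_nondegenerate (binForm c d) (binForm_nondegenerate c d (anisotropic_of c d hcd)) k

end Cfsg.Agent.Lib.Helper6.OrthInv2Std
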