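import Mathlib
import Cfsg.Prelude
import Cfsg.Agent.Lib.Helper6.ExtraOut2
import Cfsg.Agent.Lib.Helper1.ES8
import Cfsg.Agent.Lib.Helper4.ES2E
import Cfsg.Agent.Lib.Helper5.IsomReindex
import Cfsg.Agent.Lib.Helper6.OrthInv2Std

set_option autoImplicit false
set_option linter.unusedSectionVars false
set_option linter.unusedVariables false
set_option linter.unusedSimpArgs false
open Cfsg

/-! The twisted Heisenberg groups as extension groups, and the outer automorphism groups of
the extraspecial 2-groups. -/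

namespace Cfsg.Agent.Lib.Helper6.ExtraOut

open Matrix Cfsg.Agent.Lib.Helper5 Cfsg.Agent.Lib.Helper5.OrthCard Cfsg.Agent.Lib.Helper1.ES
  Cfsg.Agent.Lib.Helper5.OrthPlane

variable {n : ℕ}

theorem sig_zero : ∀ (n : ℕ) (i : Fin n), sig 0 n i = 0
  | 0, i => i.elim0
  | 1, _ => rfl
  | (n + 2), i => by
    show (Fin.cons 0 (sig 0 (n + 1)) : Fin (n + 2) → ZMod 2) i = 0
    refine Fin.cases ?_ (fun j => ?_) i
    · rfl
    · rw [Fin.cons_succ]
      exact sig_zero (n + 1) j

theorem sig_castSucc (ε : ZMod 2) : ∀ (m : ℕ) (i : Fin m), sig ε (m + 1) (Fin.castSucc i) = 0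
  | 0, i => i.elim0
  | (m + 1), i => by
    show (Fin.cons 0 (sig ε (m + 1)) : Fin (m + 2) → ZMod 2) (Fin.castSucc i) = 0
    refine Fin.cases ?_ (fun j => ?_) i
    · rfl
    · rw [← Fin.succ_castSucc, Fin.cons_succ]
      exact sig_castSucc ε m j

theorem sig_last (ε : ZMod 2) : ∀ (m : ℕ), sig ε (m + 1) (Fin.last m) = ε
  | 0 => rfl
  | (m + 1) => by
    show (Fin.cons 0 (sig ε (m + 1)) : Fin (m + 2) → ZMod 2) (Fin.last (m + 1)) = ε
    rw [← Fin.succ_last, Fin.cons_succ]
    exact sig_last ε m

/-- the cocycle of the twisted Heisenberg group, as a bilinear form -/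
def βTH (s t : Fin n → ZMod 2) : LinearMap.BilinForm (ZMod 2) (Fin n ⊕ Fin n → ZMod 2) :=
  LinearMap.mk₂ (ZMod 2)
    (fun v w => TH.bil s t (fun i => v (Sum.inl i)) (fun i => v (Sum.inr i))
      (fun i => w (Sum.inl i)) (fun i => w (Sum.inr i)))
    (by
      intro v v' w
      unfold TH.bil
      rw [← Finset.sum_add_distrib]
      apply Finset.sum_congr rfl
      intro i _
      simp only [Pi.add_apply]
      ring)
    (by
      intro c v w
      unfold TH.bil
      rw [Finset.smul_sum]
      apply Finset.sum_congr rfl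
      intro i _
      simp only [Pi.smul_apply, smul_eq_mul]
      ring)
    (by
      intro v w w'
      unfold TH.bil
      rw [← Finset.sum_add_distrib]
      apply Finset.sum_congr rfl
      intro i _
      simp only [Pi.add_apply]
      ring)
    (by
      intro c v w
      unfold TH.bil
      rw [Finset.smul_sum]
      apply Finset.sum_congr rfl
      intro i _
      simp only [Pi.smul_apply, smul_eq_mul]
      ring)

theorem βTH_apply (s t : Fin n → ZMod 2) (v w : Fin n ⊕ Fin n → ZMod 2) :
    βTH s t v w = ∑ i, (v (Sum.inl i) * w (Sum.inr i) + s i * v (Sum.inl i) * w (Sum.inl i) +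
      t i * v (Sum.inr i) * w (Sum.inr i)) := rfl

theorem βTH_polar (s t : Fin n → ZMod 2) (v w : Fin n ⊕ Fin n → ZMod 2) :
    βTH s t v w + βTH s t w v =
      ∑ i, (v (Sum.inl i) * w (Sum.inr i) + w (Sum.inl i) * v (Sum.inr i)) := by
  rw [βTH_apply, βTH_apply, ← Finset.sum_add_distrib]
  apply Finset.sum_congr rfl
  intro i _
  linear_combination add_self_z2 (s i * v (Sum.inl i) * w (Sum.inl i)) +
    add_self_z2 (t i * v (Sum.inr i) * w (Sum.inr i))

theorem βTH_nondeg (s t : Fin n → ZMod 2) :
    ∀ v, (∀ w, βTH s t v w + βTH s t w v = 0) → v = 0 := by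
  intro v hv
  funext k
  rcases k with i | i
  · have h1 := hv (Pi.single (Sum.inr i) 1)
    rw [βTH_polar] at h1
    simpa [Pi.single_apply] using h1
  · have h1 := hv (Pi.single (Sum.inl i) 1)
    rw [βTH_polar] at h1
    simpa [Pi.single_apply] using h1

/-- the twisted Heisenberg group as an extension group -/
def thEquiv (s t : Fin n → ZMod 2) : TH s t ≃* QH (βTH s t) where
  toFun x := ⟨Sum.elim x.a x.b, x.c⟩
  invFun y := ⟨fun i => y.v (Sum.inl i), fun i => y.v (Sum.inr i), y.c⟩
  left_inv x := by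
    apply TH.ext <;> rfl
  right_inv y := by
    apply QH.ext
    · funext k
      rcases k with i | i <;> rfl
    · rfl
  map_mul' x y := by
    apply QH.ext
    · funext k
      rcases k with i | i <;> rfl
    · rfl

/-- the number of solutions of `x² = 1` in the extension group -/
theorem QH.sq_eq_one_iff {ι : Type} [Fintype ι] [DecidableEq ι]
    {β : LinearMap.BilinForm (ZMod 2) (ι → ZMod 2)} (x : QH β) :
    x ^ 2 = 1 ↔ β x.v x.v = 0 := by
  rw [pow_two, QH.sq_eq]
  constructor
  · intro h
    exact congrArg QH.c h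
  · intro h
    rw [h]
    rfl

theorem QH.card_sq_eq_one {ι : Type} [Fintype ι] [DecidableEq ι]
    (β : LinearMap.BilinForm (ZMod 2) (ι → ZMod 2)) :
    Nat.card {x : QH β // x ^ 2 = 1} = 2 * Nat.card {v : ι → ZMod 2 // β v v = 0} := by
  have e : {x : QH β // x ^ 2 = 1} ≃ {v : ι → ZMod 2 // β v v = 0} × ZMod 2 :=
    { toFun := fun x => (⟨x.1.v, (QH.sq_eq_one_iff x.1).mp x.2⟩, x.1.c)
      invFun := fun y => ⟨⟨y.1.1, y.2⟩, (QH.sq_eq_one_iff _).mpr y.1.2⟩
      left_inv := fun x => rfl
      right_inv := fun y => rfl }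
  rw [Nat.card_congr e, Nat.card_prod, Nat.card_zmod, mul_comm]

/-- transporting the count of solutions of `x² = 1` -/
theorem card_sq_congr {G H : Type*} [Group G] [Group H] (e : G ≃* H) :
    Nat.card {x : G // x ^ 2 = 1} = Nat.card {x : H // x ^ 2 = 1} := by
  apply Nat.card_congr
  exact
    { toFun := fun x => ⟨e x.1, by rw [← map_pow, x.2, map_one]⟩
      invFun := fun y => ⟨e.symm y.1, by rw [← map_pow, y.2, map_one]⟩
      left_inv := fun x => by apply Subtype.ext; simp
      right_inv := fun y => by apply Subtype.ext; simp }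

end Cfsg.Agent.Lib.Helper6.ExtraOut
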