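import Mathlib
import Cfsg.Agent.Lib.Helper6.PU0
import Cfsg.Agent.Lib.Helper4.PSL2Syl
import Cfsg.Agent.Lib.Helper7.S2770Pd
import Cfsg.Agent.Lib.Helper8.PU2770N

/-! # S2770 : `PSL₂(p^n)` is `PSLlike p n` (units of helper4, helper7, helper8) -/

set_option autoImplicit false

namespace Cfsg.Agent.Lib.Helper6.PU

theorem psl2_like (F : Type) [Field F] [Fintype F] (p n : ℕ) [Fact p.Prime] (hn : 1 ≤ n)
    (hF : Fintype.card F = p ^ n) :
    PSLlike p n (Matrix.ProjectiveSpecialLinearGroup (Fin 2) F) := by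
  obtain ⟨h1, h2, h3⟩ := Cfsg.Agent.Lib.Helper4.PSL2Syl.psl_sylow F p n hn hF
  refine ⟨h1, h2, h3, (fun U => by
      have := Cfsg.Agent.Lib.Helper4.PSL2Syl.charP_of_card (F := F) (p := p) hn hF
      exact Cfsg.Agent.Lib.Helper7.S2770Pd.pd_psl2 p U), ?_, fun h => Cfsg.Agent.Lib.Helper8.PU2770N.psl_elt F p n h hF⟩
  intro h2n
  apply Matrix.ProjectiveSpecialLinearGroup.rank_two_simple
  rw [Nat.card_eq_fintype_card, hF]
  calc 4 = 2 ^ 2 := rfl
    _ ≤ p ^ 2 := Nat.pow_le_pow_left (Fact.out : p.Prime).two_le 2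
    _ ≤ p ^ n := Nat.pow_le_pow_right (Fact.out : p.Prime).pos h2n


end Cfsg.Agent.Lib.Helper6.PU
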