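import Mathlib
import Cfsg.Prelude.Def_Blocks
import Cfsg.Agent.Lib.Helper6.BlkDim
import Cfsg.Agent.Lib.Helper6.GreenPL
import Cfsg.Agent.Lib.Helper6.Auto

set_option autoImplicit false
set_option linter.unusedSectionVars false
open Cfsg

namespace Cfsg.Agent.Lib.Helper6

open scoped ComplexConjugate

section greendl

variable {G : Type*} [Group G] [Fintype G] [DecidableEq G]
variable {p : ℕ} {M : Ideal Cfsg.AlgInt}

theorem centralizer_singleton_inv_gdl (y : G) :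
    Subgroup.centralizer ({y⁻¹} : Set G) = Subgroup.centralizer ({y} : Set G) := by
  ext g
  rw [Subgroup.mem_centralizer_singleton_iff, Subgroup.mem_centralizer_singleton_iff]
  constructor
  · intro h
    have : y * (g * y⁻¹) * y = y * (y⁻¹ * g) * y := by rw [h]
    exact (by simpa [mul_assoc] using this : y * g = g * y).symm
  · intro h
    have : y⁻¹ * (g * y) * y⁻¹ = y⁻¹ * (y * g) * y⁻¹ := by rw [h]
    exact (by simpa [mul_assoc] using this : y⁻¹ * g = g * y⁻¹).symm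

/-- the block idempotent coefficient at `y`, multiplied by `p ^ d`, is divisible by the `p`-part of
the centralizer order of `y` -/
theorem blockCoeff_pow_defect (hM : Cfsg.IsPModular p M) [Fact p.Prime]
    (χ₀ : Cfsg.IrrCharacter G) (y : G) :
    ∃ z : ℂ, Cfsg.MemLocalRing M z ∧
      (p : ℂ) ^ (Cfsg.blockDefect p (Cfsg.blockOf M (χ₀ : G → ℂ)))
        * Cfsg.blockCoeff (Cfsg.blockOf M (χ₀ : G → ℂ)) y
      = (p : ℂ) ^ ((Nat.card (Subgroup.centralizer ({y} : Set G))).factorization p) * z := by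
  classical
  have hp : p.Prime := hM.1
  haveI : Fintype (Cfsg.IrrCharacter G) := Fintype.ofFinite _
  obtain ⟨B, hBdef⟩ : ∃ B, B = Cfsg.blockOf M (χ₀ : G → ℂ) := ⟨_, rfl⟩
  have hχ₀ : χ₀ ∈ B := by rw [hBdef]; exact sameBlock_refl hM _
  rw [← hBdef]
  obtain ⟨e, he⟩ : ∃ e, e = sInf ((fun χ : Cfsg.IrrCharacter G =>
    (Cfsg.charDegree (χ : G → ℂ)).factorization p) '' B) := ⟨_, rfl⟩
  have hcard := factorization_card_eq_sInf_add_defect (p := p) B χ₀ hχ₀
  rw [← he] at hcard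
  have hdvd : ∀ β ∈ B, p ^ e ∣ Cfsg.charDegree (β : G → ℂ) := by
    intro β hβ
    have : e ≤ (Cfsg.charDegree (β : G → ℂ)).factorization p := by
      rw [he]
      exact Nat.sInf_le ⟨β, hβ, rfl⟩
    exact (pow_dvd_pow p this).trans (Nat.ordProj_dvd _ _)
  have hGne : (Nat.card G : ℂ) ≠ 0 := by exact_mod_cast Nat.card_pos.ne'
  have hp0 : (p : ℂ) ≠ 0 := by exact_mod_cast hp.ne_zero
  obtain ⟨c, hc⟩ : ∃ c : Cfsg.IrrCharacter G → ℤ, c = fun β =>
      if β ∈ B then ((Cfsg.charDegree (β : G → ℂ) / p ^ e : ℕ) : ℤ) else 0 := ⟨_, rfl⟩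
  have hcB : ∀ β ∈ B, (p : ℂ) ^ e * (c β : ℂ) = (β : G → ℂ) 1 := by
    intro β hβ
    rw [hc]
    simp only [if_pos hβ]
    rw [IsCharacter.apply_one_eq_charDegree (IsIrrCharacter.isCharacter β.2)]
    obtain ⟨k, hk⟩ := hdvd β hβ
    rw [hk, Nat.mul_div_cancel_left _ (pow_pos hp.pos _)]
    push_cast
    ring
  have hcnB : ∀ β, β ∉ B → c β = 0 := by
    intro β hβ
    rw [hc]
    simp only [if_neg hβ]
  -- the key identity
  have hkey : ∀ x : G, (Nat.card G : ℂ) * Cfsg.blockCoeff B x⁻¹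
      = (p : ℂ) ^ e * ∑ β : Cfsg.IrrCharacter G, (c β : ℂ) * (β : G → ℂ) x := by
    intro x
    unfold Cfsg.blockCoeff
    rw [← mul_assoc, mul_inv_cancel₀ hGne, one_mul, finsum_mem_eq_sum_filter_lib, Finset.mul_sum,
      Finset.sum_filter]
    apply Finset.sum_congr rfl
    intro β _
    by_cases hβ : β ∈ B
    · rw [if_pos hβ, ← mul_assoc, hcB β hβ,
        ← IsCharacter.apply_inv (IsIrrCharacter.isCharacter β.2), inv_inv]
    · rw [if_neg hβ, hcnB β hβ, Int.cast_zero, zero_mul, mul_zero]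
  have hvan : ∀ x : G, p ∣ orderOf x →
      ∑ β : Cfsg.IrrCharacter G, (c β : ℂ) * (β : G → ℂ) x = 0 := by
    intro x hx
    have h1 := hkey x
    rw [hBdef, blockCoeff_eq_zero_of_pSingular hM χ₀ x⁻¹ (by rw [orderOf_inv]; exact hx),
      mul_zero] at h1
    exact (mul_eq_zero.mp h1.symm).resolve_left (pow_ne_zero _ hp0)
  obtain ⟨z, hzint, hz⟩ := genchar_vanishing_div c hvan y⁻¹
  rw [centralizer_singleton_inv_gdl] at hz
  have h1 := hkey y⁻¹
  rw [inv_inv, hz] at h1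
  -- |G| = p^a n
  obtain ⟨n, hn⟩ : ∃ n, n = Nat.card G / p ^ (Nat.card G).factorization p := ⟨_, rfl⟩
  have hnp : ¬ p ∣ n := by
    rw [hn]
    exact Nat.not_dvd_ordCompl hp Nat.card_pos.ne'
  have hGn : (Nat.card G : ℂ) = (p : ℂ) ^ (Nat.card G).factorization p * (n : ℂ) := by
    rw [hn]
    exact_mod_cast congrArg (Nat.cast : ℕ → ℂ) (Nat.ordProj_mul_ordCompl_eq_self (Nat.card G) p).symm
  have hn0 : (n : ℂ) ≠ 0 := by
    intro h0
    apply hGne
    rw [hGn, h0, mul_zero]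
  refine ⟨(n : ℂ)⁻¹ * z, MemLocalRing.mul hM (memLocalRing_inv_natCast hM hnp)
    (memLocalRing_of_isIntegral hM hzint), ?_⟩
  rw [hGn, hcard, pow_add] at h1
  have hpe : (p : ℂ) ^ e ≠ 0 := pow_ne_zero _ hp0
  have h2 : (p : ℂ) ^ e * ((p : ℂ) ^ Cfsg.blockDefect p B * Cfsg.blockCoeff B y * (n : ℂ))
      = (p : ℂ) ^ e * ((p : ℂ) ^ (Nat.card (Subgroup.centralizer ({y} : Set G))).factorization p * z) := by
    rw [← h1]
    ring
  have h3 := mul_left_cancel₀ hpe h2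
  rw [← mul_assoc, mul_comm _ ((n : ℂ)⁻¹), mul_assoc, ← h3]
  field_simp

end greendl

end Cfsg.Agent.Lib.Helper6
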