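import Mathlib

set_option autoImplicit false

namespace Cfsg.Agent.Lib.Helper6

/-- orbit lemma: a property closed under addition holds for the sum of an invariant function
as soon as it holds for every "orbit contribution" -/
theorem orbit_sum_induction {Γ X : Type*} [Group Γ] [Fintype Γ] [Fintype X]
    (act : Γ → X → X) (h1 : ∀ x, act 1 x = x) (hmul : ∀ a b x, act (a * b) x = act a (act b x))
    (F : X → ℂ) (hF : ∀ γ x, F (act γ x) = F x)
    (Pr : ℂ → Prop) (h0 : Pr 0) (hadd : ∀ a b, Pr a → Pr b → Pr (a + b))
    (h : ∀ x, Pr ((Nat.card Γ : ℂ) / (Nat.card {γ : Γ // act γ x = x} : ℂ) * F x)) :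
    Pr (∑ x, F x) := by
  classical
  letI inst : MulAction Γ X := { smul := act, one_smul := h1, mul_smul := hmul }
  have hsmul : ∀ (γ : Γ) (x : X), γ • x = act γ x := fun _ _ => rfl
  have hsum : ∀ (s : Finset (Quotient (MulAction.orbitRel Γ X))) (f : Quotient (MulAction.orbitRel Γ X) → ℂ),
      (∀ q ∈ s, Pr (f q)) → Pr (∑ q ∈ s, f q) := by
    intro s f
    induction s using Finset.induction_on with
    | empty => intro _; simpa using h0
    | insert a s ha ih =>
      intro hq
      rw [Finset.sum_insert ha]
      exact hadd _ _ (hq a (Finset.mem_insert_self _ _))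
        (ih (fun q hq' => hq q (Finset.mem_insert_of_mem hq')))
  rw [Finset.sum_partition (MulAction.orbitRel Γ X)]
  apply hsum
  intro q _
  induction q using Quotient.inductionOn with
  | h x₀ =>
    have hconst : ∀ y ∈ Finset.univ.filter (fun y : X => (Quotient.mk (MulAction.orbitRel Γ X) y) = Quotient.mk _ x₀),
        F y = F x₀ := by
      intro y hy
      rw [Finset.mem_filter] at hy
      have := Quotient.exact hy.2
      change y ∈ MulAction.orbit Γ x₀ at this
      obtain ⟨γ, rfl⟩ := this
      exact hF γ x₀
    rw [Finset.sum_congr rfl hconst, Finset.sum_const, nsmul_eq_mul]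
    have hcard : (Finset.univ.filter (fun y : X => (Quotient.mk (MulAction.orbitRel Γ X) y) = Quotient.mk _ x₀)).card
        = Nat.card (MulAction.orbit Γ x₀) := by
      rw [Nat.card_eq_fintype_card, Fintype.card_subtype]
      congr 1
      ext y
      simp only [Finset.mem_filter, Finset.mem_univ, true_and]
      constructor
      · intro hy
        exact Quotient.exact hy
      · intro hy
        exact Quotient.sound hy
    have hos := MulAction.card_orbit_mul_card_stabilizer_eq_card_group Γ x₀
    have hstab : Nat.card (MulAction.stabilizer Γ x₀) = Nat.card {γ : Γ // act γ x₀ = x₀} := by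
      apply Nat.card_congr
      exact Equiv.subtypeEquivRight (fun γ => by rw [MulAction.mem_stabilizer_iff, hsmul])
    have hne : (Nat.card {γ : Γ // act γ x₀ = x₀} : ℂ) ≠ 0 := by
      rw [← hstab]
      exact_mod_cast (Nat.card_pos (α := MulAction.stabilizer Γ x₀)).ne'
    have : ((Finset.univ.filter (fun y : X => (Quotient.mk (MulAction.orbitRel Γ X) y) = Quotient.mk _ x₀)).card : ℂ)
        = (Nat.card Γ : ℂ) / (Nat.card {γ : Γ // act γ x₀ = x₀} : ℂ) := by
      rw [hcard, eq_div_iff hne, ← hstab]
      rw [← Nat.card_eq_fintype_card, ← Nat.card_eq_fintype_card, ← Nat.card_eq_fintype_card] at hos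
      exact_mod_cast hos
    rw [this]
    exact h x₀

end Cfsg.Agent.Lib.Helper6
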