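import Mathlib
import Cfsg.Prelude.Def_Blocks
import Cfsg.Agent.Lib.Helper6.BlkDim
import Cfsg.Agent.Lib.Helper6.BlkOrth2
import Cfsg.Agent.Lib.Helper6.BlkExt
import Cfsg.Agent.Lib.Helper6.BlkIndDefect
import Cfsg.Agent.Lib.Helper6.GreenDL
import Cfsg.Agent.Lib.Helper6.GreenOrbit
import Cfsg.Agent.Lib.Helper6.BlkDefectClasses
import Cfsg.Agent.S0908

set_option autoImplicit false
set_option linter.unusedSectionVars false
open Cfsg

namespace Cfsg.Agent.Lib.Helper6

open scoped ComplexConjugate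

section greencount

variable {G : Type*} [Group G] [Fintype G] [DecidableEq G]
variable {p : ℕ} {M : Ideal Cfsg.AlgInt}

/-- the sum of the block idempotent coefficients over a right translate `g P` -/
noncomputable def greenAlpha (B : Set (Cfsg.IrrCharacter G)) (P : Subgroup G) (g : G) : ℂ :=
  ∑ᶠ u : P, Cfsg.blockCoeff B (g * u)

theorem blockCoeff_conv (B : Set (Cfsg.IrrCharacter G)) (u : G) :
    ∑ g : G, Cfsg.blockCoeff B (g * u) * Cfsg.blockCoeff B g⁻¹ = Cfsg.blockCoeff B u := by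
  have h1 := congrFun (congrFun (blockMat_idem B) u) 1
  unfold blockMat at h1
  rw [regMat_mul_regMat_apply, regMat_apply, inv_one, mul_one] at h1
  rw [← h1]
  apply Fintype.sum_equiv (Equiv.inv G)
  intro g
  simp only [Equiv.inv_apply, inv_inv]
  congr 1
  have := blockCoeff_isClassFunction B (g * u) g⁻¹
  rw [← this]
  congr 1
  group

/-- `ã(1) = Σ_g α(g) ã(g⁻¹)` -/
theorem blockCoeff_one_eq_sum (hM : Cfsg.IsPModular p M) (χ₀ : Cfsg.IrrCharacter G)
    (P : Subgroup G) {a : ℕ} (hP : Nat.card P = p ^ a) :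
    ∑ g : G, greenAlpha (Cfsg.blockOf M (χ₀ : G → ℂ)) P g
        * Cfsg.blockCoeff (Cfsg.blockOf M (χ₀ : G → ℂ)) g⁻¹
      = Cfsg.blockCoeff (Cfsg.blockOf M (χ₀ : G → ℂ)) 1 := by
  classical
  haveI : Fintype P := Fintype.ofFinite _
  unfold greenAlpha
  simp_rw [finsum_eq_sum_of_fintype, Finset.sum_mul]
  rw [Finset.sum_comm]
  simp_rw [blockCoeff_conv]
  rw [← finsum_eq_sum_of_fintype]
  exact finsum_subgroup_eq_of_vanish hM.1 P hP _
    (fun x hx => blockCoeff_eq_zero_of_pSingular hM χ₀ x hx)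

/-- `p ^ d ã(1) / p ^ a` is a unit of the local ring -/
theorem blockCoeff_one_unit (hM : Cfsg.IsPModular p M) [Fact p.Prime] (χ₀ : Cfsg.IrrCharacter G) :
    ¬ Cfsg.MemLocalIdeal M ((p : ℂ) ^ (Cfsg.blockDefect p (Cfsg.blockOf M (χ₀ : G → ℂ)))
      * Cfsg.blockCoeff (Cfsg.blockOf M (χ₀ : G → ℂ)) 1 / (p : ℂ) ^ (Nat.card G).factorization p) := by
  classical
  have hp : p.Prime := hM.1
  haveI : Fintype (Cfsg.IrrCharacter G) := Fintype.ofFinite _
  obtain ⟨B, hBdef⟩ : ∃ B, B = Cfsg.blockOf M (χ₀ : G → ℂ) := ⟨_, rfl⟩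
  have hχ₀ : χ₀ ∈ B := by rw [hBdef]; exact sameBlock_refl hM _
  have hfac := factorization_sum_sq_degree hM χ₀
  rw [← hBdef] at hfac ⊢
  have hcard := factorization_card_eq_sInf_add_defect (p := p) B χ₀ hχ₀
  obtain ⟨T, hT⟩ : ∃ T, T = ∑ β ∈ Finset.univ.filter (· ∈ B), Cfsg.charDegree (β : G → ℂ) ^ 2 :=
    ⟨_, rfl⟩
  rw [← hT] at hfac
  have hT0 : T ≠ 0 := by
    rw [hT]
    apply (Finset.sum_pos' (fun _ _ => Nat.zero_le _) ⟨χ₀, by simp [hχ₀], ?_⟩).ne'
    exact pow_pos (IsIrrCharacter.charDegree_pos χ₀.2) 2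
  obtain ⟨a, ha⟩ : ∃ a, a = (Nat.card G).factorization p := ⟨_, rfl⟩
  obtain ⟨d, hd⟩ : ∃ d, d = Cfsg.blockDefect p B := ⟨_, rfl⟩
  rw [← ha, ← hd] at hfac hcard ⊢
  have hda : d ≤ a := by omega
  obtain ⟨n, hn⟩ : ∃ n, n = Nat.card G / p ^ a := ⟨_, rfl⟩
  obtain ⟨T', hT'⟩ : ∃ T', T' = T / p ^ (2 * a - d) := ⟨_, rfl⟩
  have hnp : ¬ p ∣ n := by
    rw [hn, ha]
    exact Nat.not_dvd_ordCompl hp Nat.card_pos.ne'
  have hT'p : ¬ p ∣ T' := by
    rw [hT', ← hfac]
    exact Nat.not_dvd_ordCompl hp hT0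
  have hGn : (Nat.card G : ℂ) = (p : ℂ) ^ a * (n : ℂ) := by
    rw [hn, ha]
    exact_mod_cast congrArg (Nat.cast : ℕ → ℂ) (Nat.ordProj_mul_ordCompl_eq_self (Nat.card G) p).symm
  have hTT : (T : ℂ) = (p : ℂ) ^ (2 * a - d) * (T' : ℂ) := by
    rw [hT', ← hfac]
    exact_mod_cast congrArg (Nat.cast : ℕ → ℂ) (Nat.ordProj_mul_ordCompl_eq_self T p).symm
  have hp0 : (p : ℂ) ≠ 0 := by exact_mod_cast hp.ne_zero
  have hGne : (Nat.card G : ℂ) ≠ 0 := by exact_mod_cast Nat.card_pos.ne'
  have hn0 : (n : ℂ) ≠ 0 := by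
    intro h0
    apply hGne
    rw [hGn, h0, mul_zero]
  have hcoeff : Cfsg.blockCoeff B 1 = (T : ℂ) / (Nat.card G : ℂ) := by
    unfold Cfsg.blockCoeff
    rw [finsum_mem_eq_sum_filter_lib, hT, div_eq_inv_mul]
    congr 1
    push_cast
    apply Finset.sum_congr rfl
    intro β _
    rw [IsCharacter.apply_one_eq_charDegree (IsIrrCharacter.isCharacter β.2), Complex.conj_natCast, sq]
  have hval : (p : ℂ) ^ d * Cfsg.blockCoeff B 1 / (p : ℂ) ^ a = (T' : ℂ) / (n : ℂ) := by
    rw [hcoeff, hTT, hGn]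
    have : (p : ℂ) ^ d * (p : ℂ) ^ (2 * a - d) = (p : ℂ) ^ a * (p : ℂ) ^ a := by
      rw [← pow_add, ← pow_add]
      congr 1
      omega
    field_simp
    rw [this]
    ring
  rw [hval]
  intro hmem
  apply hT'p
  rw [← memLocalIdeal_natCast_iff hM]
  have := MemLocalIdeal.mul_left hM (memLocalRing_natCast hM n) hmem
  rwa [mul_div_cancel₀ _ hn0] at this

/-- `p ^ d ã(y)` is divisible by the order of any `p`-subgroup centralizing `y` -/
theorem blockCoeff_pow_defect_sub (hM : Cfsg.IsPModular p M) [Fact p.Prime]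
    (χ₀ : Cfsg.IrrCharacter G) (y : G) (Q : Subgroup G) (hQ : IsPGroup p Q)
    (hQy : Q ≤ Subgroup.centralizer ({y} : Set G)) :
    ∃ z : ℂ, Cfsg.MemLocalRing M z ∧
      (p : ℂ) ^ (Cfsg.blockDefect p (Cfsg.blockOf M (χ₀ : G → ℂ)))
        * Cfsg.blockCoeff (Cfsg.blockOf M (χ₀ : G → ℂ)) y = (Nat.card Q : ℂ) * z := by
  have hp : p.Prime := hM.1
  obtain ⟨z, hz, h⟩ := blockCoeff_pow_defect hM χ₀ y
  obtain ⟨t, ht⟩ := IsPGroup.exists_card_eq hQ
  have hdvd : p ^ t ∣ Nat.card (Subgroup.centralizer ({y} : Set G)) := by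
    rw [← ht]
    exact Subgroup.card_dvd_of_le hQy
  have hle : t ≤ (Nat.card (Subgroup.centralizer ({y} : Set G))).factorization p :=
    (hp.pow_dvd_iff_le_factorization Nat.card_pos.ne').mp hdvd
  obtain ⟨k, hk⟩ := Nat.exists_eq_add_of_le hle
  refine ⟨(p : ℂ) ^ k * z, MemLocalRing.mul hM (MemLocalRing.pow hM (memLocalRing_natCast hM p) k) hz, ?_⟩
  rw [h, hk, ht, pow_add]
  push_cast
  ring

/-- `p ^ d α(g)` is divisible by `|P ∩ g P g⁻¹|` -/
theorem greenAlpha_div (hM : Cfsg.IsPModular p M) [Fact p.Prime] (χ₀ : Cfsg.IrrCharacter G)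
    (P : Subgroup G) (hP : IsPGroup p P) (g : G) :
    ∃ z : ℂ, Cfsg.MemLocalRing M z ∧
      (p : ℂ) ^ (Cfsg.blockDefect p (Cfsg.blockOf M (χ₀ : G → ℂ)))
        * greenAlpha (Cfsg.blockOf M (χ₀ : G → ℂ)) P g
      = (Nat.card (P ⊓ P.map (MulAut.conj g).toMonoidHom : Subgroup G) : ℂ) * z := by
  classical
  have hp : p.Prime := hM.1
  obtain ⟨R, hR⟩ : ∃ R : Subgroup G, R = P ⊓ P.map (MulAut.conj g).toMonoidHom := ⟨_, rfl⟩
  rw [← hR]
  obtain ⟨B, hBdef⟩ : ∃ B, B = Cfsg.blockOf M (χ₀ : G → ℂ) := ⟨_, rfl⟩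
  obtain ⟨d, hd⟩ : ∃ d, d = Cfsg.blockDefect p B := ⟨_, rfl⟩
  haveI : Fintype P := Fintype.ofFinite _
  haveI : Fintype R := Fintype.ofFinite _
  have hRP : R ≤ P := by rw [hR]; exact inf_le_left
  have hRne : (Nat.card R : ℂ) ≠ 0 := by exact_mod_cast (Nat.card_pos (α := R)).ne'
  have hmem : ∀ (v : R) (u : P), g⁻¹ * (v : G) * g * (u : G) * (v : G)⁻¹ ∈ P := by
    intro v u
    have hv : (v : G) ∈ P ⊓ P.map (MulAut.conj g).toMonoidHom := hR ▸ v.2
    obtain ⟨w, hw, hwv⟩ := hv.2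
    have : g⁻¹ * (v : G) * g = w := by
      rw [← hwv]
      simp [MulAut.conj_apply]
      group
    rw [this]
    exact P.mul_mem (P.mul_mem hw u.2) (P.inv_mem hv.1)
  obtain ⟨act, hact⟩ : ∃ act : R → P → P, act = fun v u =>
    ⟨g⁻¹ * (v : G) * g * (u : G) * (v : G)⁻¹, hmem v u⟩ := ⟨_, rfl⟩
  have hactv : ∀ (v : R) (u : P), ((act v u : P) : G) = g⁻¹ * (v : G) * g * (u : G) * (v : G)⁻¹ := by
    intro v u
    rw [hact]
  have hact1 : ∀ u, act 1 u = u := by
    intro u
    rw [hact]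
    apply Subtype.ext
    simp
  have hactmul : ∀ a b u, act (a * b) u = act a (act b u) := by
    intro a b u
    rw [hact]
    apply Subtype.ext
    simp only [Subgroup.coe_mul]
    group
  have hF : ∀ (v : R) (u : P), Cfsg.blockCoeff B (g * ((act v u : P) : G))
      = Cfsg.blockCoeff B (g * (u : G)) := by
    intro v u
    rw [hact]
    simp only
    have := blockCoeff_isClassFunction B (g * (u : G)) (v : G)
    rw [← this]
    congr 1
    group
  have key := orbit_sum_induction act hact1 hactmul (fun u : P => Cfsg.blockCoeff B (g * (u : G))) hF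
    (fun w => Cfsg.MemLocalRing M ((p : ℂ) ^ d * w / (Nat.card R : ℂ)))
    (by simp only [mul_zero, zero_div]; exact memLocalRing_zero hM)
    (by
      intro a b ha hb
      have := MemLocalRing.add hM ha hb
      rwa [← add_div, ← mul_add] at this)
    (by
      intro u
      -- the stabilizer
      obtain ⟨Q, hQdef⟩ : ∃ Q : Subgroup G, Q = R ⊓ Subgroup.centralizer ({g * (u : G)} : Set G) :=
        ⟨_, rfl⟩
      have hstab : Nat.card {v : R // act v u = u} = Nat.card Q := by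
        apply Nat.card_congr
        have hiff : ∀ v : G, v ∈ R → ((g⁻¹ * v * g * (u : G) * v⁻¹ = (u : G)) ↔
            v ∈ Subgroup.centralizer ({g * (u : G)} : Set G)) := by
          intro v _
          rw [Subgroup.mem_centralizer_singleton_iff]
          constructor
          · intro h
            have : g * (g⁻¹ * v * g * (u : G) * v⁻¹) * v = g * (u : G) * v := by rw [h]
            rw [← this]
            group
          · intro h
            have : g⁻¹ * (v * (g * (u : G))) * v⁻¹ = g⁻¹ * (g * (u : G) * v) * v⁻¹ := by rw [h]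
            have e1 : g⁻¹ * (v * (g * (u : G))) * v⁻¹ = g⁻¹ * v * g * (u : G) * v⁻¹ := by group
            have e2 : g⁻¹ * (g * (u : G) * v) * v⁻¹ = (u : G) := by group
            rw [← e1, this, e2]
        exact
          { toFun := fun v => ⟨(v.1 : G), by
              rw [hQdef]
              refine ⟨v.1.2, (hiff _ v.1.2).mp ?_⟩
              have h2 := congrArg Subtype.val v.2
              rw [hactv] at h2
              exact h2⟩
            invFun := fun w => ⟨⟨(w : G), by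
              have h2 : (w : G) ∈ R ⊓ Subgroup.centralizer ({g * (u : G)} : Set G) := hQdef ▸ w.2
              exact h2.1⟩, by
              have h2 : (w : G) ∈ R ⊓ Subgroup.centralizer ({g * (u : G)} : Set G) := hQdef ▸ w.2
              apply Subtype.ext
              rw [hactv]
              exact (hiff _ h2.1).mpr h2.2⟩
            left_inv := fun _ => rfl
            right_inv := fun _ => rfl }
      have hQp : IsPGroup p Q := by
        apply hP.to_le
        rw [hQdef]
        exact inf_le_left.trans hRP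
      obtain ⟨z, hz, hzeq⟩ := blockCoeff_pow_defect_sub hM χ₀ (g * (u : G)) Q hQp
        (by rw [hQdef]; exact inf_le_right)
      rw [← hBdef, ← hd] at hzeq
      rw [hstab]
      have hQne : (Nat.card Q : ℂ) ≠ 0 := by exact_mod_cast (Nat.card_pos (α := Q)).ne'
      have : (p : ℂ) ^ d * ((Nat.card R : ℂ) / (Nat.card Q : ℂ) * Cfsg.blockCoeff B (g * (u : G)))
          / (Nat.card R : ℂ) = z := by
        have e : (p : ℂ) ^ d * ((Nat.card R : ℂ) / (Nat.card Q : ℂ) * Cfsg.blockCoeff B (g * (u : G)))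
            / (Nat.card R : ℂ) = ((p : ℂ) ^ d * Cfsg.blockCoeff B (g * (u : G))) / (Nat.card Q : ℂ) := by
          field_simp
        rw [e, hzeq]
        field_simp
      rw [this]
      exact hz)
  refine ⟨_, key, ?_⟩
  unfold greenAlpha
  rw [finsum_eq_sum_of_fintype, ← hBdef, ← hd]
  field_simp

theorem greenAlpha_memLocalRing (hM : Cfsg.IsPModular p M) (χ₀ : Cfsg.IrrCharacter G)
    (P : Subgroup G) (g : G) :
    Cfsg.MemLocalRing M (greenAlpha (Cfsg.blockOf M (χ₀ : G → ℂ)) P g) := by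
  classical
  haveI : Fintype P := Fintype.ofFinite _
  unfold greenAlpha
  rw [finsum_eq_sum_of_fintype]
  apply MemLocalRing.sum hM
  intro u _
  exact blockCoeff_memLocalRing hM χ₀ _

theorem greenAlpha_conj (B : Set (Cfsg.IrrCharacter G)) (P : Subgroup G) (v : P) (g : G) :
    greenAlpha B P ((v : G) * g * (v : G)⁻¹) = greenAlpha B P g := by
  classical
  haveI : Fintype P := Fintype.ofFinite _
  unfold greenAlpha
  rw [finsum_eq_sum_of_fintype, finsum_eq_sum_of_fintype]
  apply Fintype.sum_equiv ((Equiv.mulLeft v⁻¹).trans (Equiv.mulRight v))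
  intro u
  simp only [Equiv.trans_apply, Equiv.coe_mulLeft, Equiv.coe_mulRight, Subgroup.coe_mul,
    Subgroup.coe_inv]
  have := blockCoeff_isClassFunction B ((v : G) * g * (v : G)⁻¹ * (u : G)) (v : G)⁻¹
  rw [← this]
  congr 1
  group

/-- Green's theorem, core counting argument -/
theorem green_core (hM : Cfsg.IsPModular p M) [Fact p.Prime] (χ₀ : Cfsg.IrrCharacter G)
    (P : Subgroup G) (hP : Nat.card P = p ^ (Nat.card G).factorization p) :
    ∃ g : G, ¬ p ∣ orderOf g ∧
      Cfsg.IsDefectGroup p M (Cfsg.blockOf M (χ₀ : G → ℂ))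
        (P ⊓ Subgroup.centralizer ({g} : Set G)) ∧
      P ⊓ P.map (MulAut.conj g).toMonoidHom = P ⊓ Subgroup.centralizer ({g} : Set G) ∧
      (Nat.card (Subgroup.centralizer ({g} : Set G))).factorization p
        = Cfsg.blockDefect p (Cfsg.blockOf M (χ₀ : G → ℂ)) := by
  classical
  have hp : p.Prime := hM.1
  have hPp : IsPGroup p P := IsPGroup.of_card hP
  obtain ⟨B, hBdef⟩ : ∃ B, B = Cfsg.blockOf M (χ₀ : G → ℂ) := ⟨_, rfl⟩
  obtain ⟨d, hd⟩ : ∃ d, d = Cfsg.blockDefect p B := ⟨_, rfl⟩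
  obtain ⟨a, ha⟩ : ∃ a, a = (Nat.card G).factorization p := ⟨_, rfl⟩
  rw [← hBdef, ← hd]
  rw [← ha] at hP
  haveI : Fintype P := Fintype.ofFinite _
  have hp0 : (p : ℂ) ≠ 0 := by exact_mod_cast hp.ne_zero
  have hpm : ∀ k : ℕ, Cfsg.MemLocalRing M ((p : ℂ) ^ k) :=
    fun k => MemLocalRing.pow hM (memLocalRing_natCast hM p) k
  have hpi : ∀ k : ℕ, k ≠ 0 → Cfsg.MemLocalIdeal M ((p : ℂ) ^ k) := by
    intro k hk
    obtain ⟨k', rfl⟩ := Nat.exists_eq_succ_of_ne_zero hk
    rw [pow_succ]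
    exact MemLocalIdeal.mul_left hM (hpm k') (memLocalIdeal_prime hM)
  -- Claim A
  have hA : ∃ g : G, ¬ Cfsg.MemLocalIdeal M ((p : ℂ) ^ d *
      (greenAlpha B P g * Cfsg.blockCoeff B g⁻¹)
        / (Nat.card (P ⊓ Subgroup.centralizer ({g} : Set G) : Subgroup G) : ℂ)) := by
    by_contra hcon
    push Not at hcon
    obtain ⟨act, hact⟩ : ∃ act : P → G → G, act = fun (v : P) (g : G) => (v : G) * g * (v : G)⁻¹ := ⟨_, rfl⟩
    have hactv : ∀ (v : P) (g : G), act v g = (v : G) * g * (v : G)⁻¹ := by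
      intro v g
      rw [hact]
    have hact1 : ∀ g, act 1 g = g := by
      intro g
      rw [hact]
      simp
    have hactmul : ∀ a b g, act (a * b) g = act a (act b g) := by
      intro a b g
      rw [hact]
      simp only [Subgroup.coe_mul]
      group
    have hF : ∀ (v : P) (g : G), greenAlpha B P (act v g) * Cfsg.blockCoeff B (act v g)⁻¹
        = greenAlpha B P g * Cfsg.blockCoeff B g⁻¹ := by
      intro v g
      rw [hact]
      simp only
      rw [greenAlpha_conj]
      congr 1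
      have := blockCoeff_isClassFunction B g⁻¹ (v : G)
      rw [← this]
      congr 1
      group
    have key := orbit_sum_induction act hact1 hactmul
      (fun g : G => greenAlpha B P g * Cfsg.blockCoeff B g⁻¹) hF
      (fun w => Cfsg.MemLocalIdeal M ((p : ℂ) ^ d * w / (p : ℂ) ^ a))
      (by simp only [mul_zero, zero_div]; exact memLocalIdeal_zero hM)
      (by
        intro x y hx hy
        have := MemLocalIdeal.add hM hx hy
        rwa [← add_div, ← mul_add] at this)
      (by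
        intro g
        have hstab : Nat.card {v : P // act v g = g}
            = Nat.card (P ⊓ Subgroup.centralizer ({g} : Set G) : Subgroup G) := by
          apply Nat.card_congr
          have hiff : ∀ v : G, (v * g * v⁻¹ = g ↔ v ∈ Subgroup.centralizer ({g} : Set G)) := by
            intro v
            rw [Subgroup.mem_centralizer_singleton_iff]
            constructor
            · intro h
              have : v * g * v⁻¹ * v = g * v := by rw [h]
              rw [← this]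
              group
            · intro h
              have : v * g * v⁻¹ = g * v * v⁻¹ := by rw [h]
              rw [this]
              group
          exact
            { toFun := fun v => ⟨(v.1 : G), v.1.2, (hiff _).mp (by
                have h2 := v.2
                rw [hactv] at h2
                exact h2)⟩
              invFun := fun w => ⟨⟨(w : G), w.2.1⟩, by
                rw [hactv]
                exact (hiff _).mpr w.2.2⟩
              left_inv := fun _ => rfl
              right_inv := fun _ => rfl }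
        rw [hstab, hP]
        have e : (p : ℂ) ^ d * (((p ^ a : ℕ) : ℂ)
            / (Nat.card (P ⊓ Subgroup.centralizer ({g} : Set G) : Subgroup G) : ℂ)
            * (greenAlpha B P g * Cfsg.blockCoeff B g⁻¹)) / (p : ℂ) ^ a
            = (p : ℂ) ^ d * (greenAlpha B P g * Cfsg.blockCoeff B g⁻¹)
              / (Nat.card (P ⊓ Subgroup.centralizer ({g} : Set G) : Subgroup G) : ℂ) := by
          push_cast
          have : (p : ℂ) ^ a ≠ 0 := pow_ne_zero _ hp0
          field_simp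
        rw [e]
        exact hcon g)
    have h1 := blockCoeff_one_eq_sum hM χ₀ P hP
    rw [← hBdef] at h1
    rw [h1] at key
    have h2 := blockCoeff_one_unit hM χ₀
    rw [← hBdef, ← hd, ← ha] at h2
    exact h2 key
  obtain ⟨g, hg⟩ := hA
  obtain ⟨Q, hQdef⟩ : ∃ Q : Subgroup G, Q = P ⊓ Subgroup.centralizer ({g} : Set G) := ⟨_, rfl⟩
  obtain ⟨R, hRdef⟩ : ∃ R : Subgroup G, R = P ⊓ P.map (MulAut.conj g).toMonoidHom := ⟨_, rfl⟩
  refine ⟨g, ?_⟩
  rw [← hQdef] at hg ⊢
  rw [← hRdef]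
  have hQR : Q ≤ R := by
    rw [hQdef, hRdef]
    intro v hv
    refine ⟨hv.1, ⟨v, hv.1, ?_⟩⟩
    have := (Subgroup.mem_centralizer_singleton_iff (G := G)).mp hv.2
    simp only [MulEquiv.coe_toMonoidHom, MulAut.conj_apply]
    rw [← this]
    group
  have hQp : IsPGroup p Q := hPp.to_le (by rw [hQdef]; exact inf_le_left)
  have hRp : IsPGroup p R := hPp.to_le (by rw [hRdef]; exact inf_le_left)
  obtain ⟨t, ht⟩ := IsPGroup.exists_card_eq hQp
  obtain ⟨r, hr⟩ := IsPGroup.exists_card_eq hRp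
  have htr : t ≤ r := by
    have := Subgroup.card_dvd_of_le hQR
    rw [ht, hr] at this
    exact (Nat.pow_dvd_pow_iff_le_right hp.one_lt).mp this
  have hQc : Q ≤ Subgroup.centralizer ({g} : Set G) := by rw [hQdef]; exact inf_le_right
  have hQc' : Q ≤ Subgroup.centralizer ({g⁻¹} : Set G) := by
    rw [centralizer_singleton_inv_gdl]; exact hQc
  obtain ⟨z₁, hz₁, hz₁eq⟩ := greenAlpha_div hM χ₀ P hPp g
  obtain ⟨z₂, hz₂, hz₂eq⟩ := blockCoeff_pow_defect_sub hM χ₀ g⁻¹ Q hQp hQc'
  rw [← hBdef, ← hd, ← hRdef, hr] at hz₁eq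
  rw [← hBdef, ← hd, ht] at hz₂eq
  rw [ht] at hg
  push_cast at hz₁eq hz₂eq hg
  have hα := greenAlpha_memLocalRing hM χ₀ P g
  have hã := blockCoeff_memLocalRing hM χ₀ g⁻¹
  rw [← hBdef] at hα hã
  have hpt : (p : ℂ) ^ t ≠ 0 := pow_ne_zero _ hp0
  -- (1)
  have h1 : ¬ Cfsg.MemLocalIdeal M (Cfsg.blockCoeff B g⁻¹) := by
    intro hmem
    apply hg
    obtain ⟨k, hk⟩ := Nat.exists_eq_add_of_le htr
    have e : (p : ℂ) ^ d * (greenAlpha B P g * Cfsg.blockCoeff B g⁻¹) / (p : ℂ) ^ t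
        = (p : ℂ) ^ k * z₁ * Cfsg.blockCoeff B g⁻¹ := by
      rw [← mul_assoc, hz₁eq, hk, pow_add]
      field_simp
    rw [e]
    exact MemLocalIdeal.mul_left hM (MemLocalRing.mul hM (hpm k) hz₁) hmem
  -- (2)
  have h2 : ¬ Cfsg.MemLocalIdeal M (greenAlpha B P g) := by
    intro hmem
    apply hg
    have e : (p : ℂ) ^ d * (greenAlpha B P g * Cfsg.blockCoeff B g⁻¹) / (p : ℂ) ^ t
        = greenAlpha B P g * z₂ := by
      have : (p : ℂ) ^ d * (greenAlpha B P g * Cfsg.blockCoeff B g⁻¹)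
          = greenAlpha B P g * ((p : ℂ) ^ d * Cfsg.blockCoeff B g⁻¹) := by ring
      rw [this, hz₂eq]
      field_simp
    rw [e]
    exact MemLocalIdeal.mul_right hM hmem hz₂
  -- (3)
  have h3 : d ≤ t := by
    by_contra hlt
    push Not at hlt
    apply hg
    obtain ⟨k, hk⟩ := Nat.exists_eq_add_of_lt hlt
    have e : (p : ℂ) ^ d * (greenAlpha B P g * Cfsg.blockCoeff B g⁻¹) / (p : ℂ) ^ t
        = (p : ℂ) ^ (k + 1) * (greenAlpha B P g * Cfsg.blockCoeff B g⁻¹) := by
      rw [hk, add_assoc, pow_add]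
      field_simp
    rw [e]
    exact MemLocalIdeal.mul_right hM (hpi _ (Nat.succ_ne_zero k)) (MemLocalRing.mul hM hα hã)
  -- (4)
  have h4 := le_blockDefect_of_blockCoeff hM χ₀ g⁻¹ (by rw [← hBdef]; exact h1)
  rw [centralizer_singleton_inv_gdl, ← hBdef, ← hd] at h4
  -- (5)
  have h5 : t ≤ (Nat.card (Subgroup.centralizer ({g} : Set G))).factorization p := by
    have := Subgroup.card_dvd_of_le hQc
    rw [ht] at this
    exact (hp.pow_dvd_iff_le_factorization Nat.card_pos.ne').mp this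
  -- (6)
  have h6 : r ≤ d := by
    by_contra hlt
    push Not at hlt
    apply h2
    obtain ⟨k, hk⟩ := Nat.exists_eq_add_of_lt hlt
    have e : greenAlpha B P g = (p : ℂ) ^ (k + 1) * z₁ := by
      have hpd : (p : ℂ) ^ d ≠ 0 := pow_ne_zero _ hp0
      apply mul_left_cancel₀ hpd
      rw [hz₁eq, hk, add_assoc, pow_add]
      ring
    rw [e]
    exact MemLocalIdeal.mul_right hM (hpi _ (Nat.succ_ne_zero k)) hz₁
  have htd : t = d := by omega
  have hrd : r = d := by omega
  have hQR' : Q = R := by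
    apply Subgroup.eq_of_le_of_card_ge hQR
    rw [ht, hr, htd, hrd]
  refine ⟨?_, ?_, hQR'.symm, by omega⟩
  · have := pRegular_of_blockCoeff hM χ₀ g⁻¹ (by rw [← hBdef]; exact h1)
    rwa [orderOf_inv] at this
  · obtain ⟨E, hE, hQE⟩ := exists_defectGroup_ge_of_blockCoeff hM χ₀ g⁻¹
      (by rw [← hBdef]; exact h1) Q hQp hQc'
    have hEcard := Cfsg.Agent.S0908.result p M hM _ ⟨χ₀, rfl⟩ E hE
    rw [← hBdef] at hEcard hE
    rw [← hd] at hEcard
    have : Q = E := by
      apply Subgroup.eq_of_le_of_card_ge hQE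
      rw [ht, hEcard, htd]
    rw [this]
    exact hE

end greencount

end Cfsg.Agent.Lib.Helper6
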