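import Mathlib
import Cfsg.Prelude.Def_Blocks
import Cfsg.Agent.Lib.Helper6.GreenCount
import Cfsg.Agent.Lib.Helper6.BlkFirstMain

set_option autoImplicit false
set_option linter.unusedSectionVars false
open Cfsg

namespace Cfsg.Agent.Lib.Helper6

open scoped ComplexConjugate

/-- Green's theorem -/
theorem green_theorem {G : Type*} [Group G] [Finite G] (p : ℕ) [Fact p.Prime]
    (M : Ideal Cfsg.AlgInt) (hM : Cfsg.IsPModular p M) (B : Set (Cfsg.IrrCharacter G))
    (hB : Cfsg.IsPBlock M B) (D : Subgroup G) (hD : Cfsg.IsDefectGroup p M B D) (P : Sylow p G)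
    (hDP : D ≤ P) :
    ∃ x : G, ¬ p ∣ orderOf x ∧
      (∃ S : Sylow p (Subgroup.centralizer ({x} : Set G)),
        (S : Subgroup (Subgroup.centralizer ({x} : Set G))).map
          (Subgroup.centralizer ({x} : Set G)).subtype = D) ∧
      (P : Subgroup G) ⊓ (P : Subgroup G).map (MulAut.conj x).toMonoidHom = D := by
  classical
  have hp : p.Prime := hM.1
  haveI : Fintype G := Fintype.ofFinite G
  have hDp : IsPGroup p D := P.2.to_le hDP
  obtain ⟨N, hNdef⟩ : ∃ N : Subgroup G, N = Subgroup.normalizer (D : Set G) := ⟨_, rfl⟩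
  haveI : Fintype (Subgroup.normalizer (D : Set G)) := Fintype.ofFinite _
  obtain ⟨b, hb, hbD, -⟩ := firstMain_exists hM D hDp B hB hD
  obtain ⟨ξ₀, hbξ⟩ := hb
  have hDN : D ≤ Subgroup.normalizer (D : Set G) := Subgroup.le_normalizer
  -- a Sylow subgroup of N containing P ∩ N
  have hPNp : IsPGroup p (((P : Subgroup G) ⊓ Subgroup.normalizer (D : Set G)).subgroupOf
      (Subgroup.normalizer (D : Set G))) := by
    rw [← Subgroup.comap_subtype]
    exact (P.2.to_le inf_le_left).comap_subtype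
  obtain ⟨PN, hPN⟩ := hPNp.exists_le_sylow
  obtain ⟨y, hy, hdef, heq, hfac⟩ := green_core hM ξ₀ (PN : Subgroup (Subgroup.normalizer (D : Set G)))
    (Sylow.card_eq_multiplicity PN)
  rw [← hbξ] at hdef hfac
  -- the defect group found is `D`
  obtain ⟨DN, hDNdef⟩ : ∃ DN : Subgroup (Subgroup.normalizer (D : Set G)),
      DN = D.subgroupOf (Subgroup.normalizer (D : Set G)) := ⟨_, rfl⟩
  rw [← hDNdef] at hbD
  have hDNn : DN.Normal := by rw [hDNdef]; exact subgroupOf_normalizer_normal D
  have hDNp : IsPGroup p DN := by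
    rw [hDNdef, ← Subgroup.comap_subtype]
    exact hDp.comap_subtype
  have hcore : DN ≤ Cfsg.pCore p (Subgroup.normalizer (D : Set G)) :=
    le_sSup (show DN ∈ {K : Subgroup (Subgroup.normalizer (D : Set G)) | K.Normal ∧ IsPGroup p K}
      from ⟨hDNn, hDNp⟩)
  have hbblock : Cfsg.IsPBlock M b := ⟨ξ₀, hbξ⟩
  have hle := hcore.trans (Cfsg.Agent.S0912.result p M hM b hbblock _ hdef)
  have hc1 := Cfsg.Agent.S0908.result p M hM b hbblock _ hdef
  have hc2 := Cfsg.Agent.S0908.result p M hM b hbblock _ hbD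
  have hA : DN = (PN : Subgroup (Subgroup.normalizer (D : Set G)))
      ⊓ Subgroup.centralizer ({y} : Set (Subgroup.normalizer (D : Set G))) :=
    Subgroup.eq_of_le_of_card_ge hle (by rw [hc1, hc2])
  rw [← hA] at heq
  -- `DN` is a Sylow subgroup of `C_N(y)`
  have hDNy : DN ≤ Subgroup.centralizer ({y} : Set (Subgroup.normalizer (D : Set G))) := by
    rw [hA]; exact inf_le_right
  obtain ⟨Q, hQ⟩ := exists_sylow_map_ge hDNp hDNy
  have hQeq : DN = (Q : Subgroup (Subgroup.centralizer ({y} : Set (Subgroup.normalizer (D : Set G))))).map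
      (Subgroup.centralizer ({y} : Set (Subgroup.normalizer (D : Set G)))).subtype := by
    apply Subgroup.eq_of_le_of_card_ge hQ
    rw [Subgroup.card_map_of_injective (Subgroup.subtype_injective _), Sylow.card_eq_multiplicity,
      hfac, hc2]
  rw [hDNdef] at hQeq
  obtain ⟨S, hS⟩ := exists_sylow_centralizer_of_normalizer D hDp y Q hQeq
  refine ⟨(y : G), ?_, ⟨S, hS.symm⟩, ?_⟩
  · rwa [Subgroup.orderOf_coe]
  · -- the intersection
    have hyN : (y : G) ∈ Subgroup.normalizer (D : Set G) := y.2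
    have hDT : D ≤ (P : Subgroup G) ⊓ (P : Subgroup G).map (MulAut.conj (y : G)).toMonoidHom := by
      apply le_inf hDP
      intro δ hδ
      refine ⟨(y : G)⁻¹ * δ * (y : G), hDP ?_, ?_⟩
      · have := (Subgroup.mem_normalizer_iff.mp (Subgroup.inv_mem _ hyN) δ).mp hδ
        simpa using this
      · simp only [MulEquiv.coe_toMonoidHom, MulAut.conj_apply]
        group
    by_contra hne
    have hlt : D < (P : Subgroup G) ⊓ (P : Subgroup G).map (MulAut.conj (y : G)).toMonoidHom :=
      lt_of_le_of_ne hDT (fun h => hne h.symm)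
    obtain ⟨s, hsT, hsN, hsD⟩ := exists_mem_normalizer_not_mem (P.2.to_le inf_le_left) hlt
    apply hsD
    have h1 : (⟨s, hsN⟩ : Subgroup.normalizer (D : Set G)) ∈ (PN : Subgroup _) := by
      apply hPN
      rw [Subgroup.mem_subgroupOf]
      exact ⟨hsT.1, hsN⟩
    have h2 : (⟨s, hsN⟩ : Subgroup.normalizer (D : Set G)) ∈
        (PN : Subgroup (Subgroup.normalizer (D : Set G))).map (MulAut.conj y).toMonoidHom := by
      obtain ⟨w, hw, hws⟩ := hsT.2
      simp only [MulEquiv.coe_toMonoidHom, MulAut.conj_apply] at hws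
      have hwN : w ∈ Subgroup.normalizer (D : Set G) := by
        have : w = (y : G)⁻¹ * s * (y : G) := by rw [← hws]; group
        rw [this]
        exact Subgroup.mul_mem _ (Subgroup.mul_mem _ (Subgroup.inv_mem _ hyN) hsN) hyN
      refine ⟨⟨w, hwN⟩, hPN ?_, ?_⟩
      · rw [Subgroup.mem_subgroupOf]
        exact ⟨hw, hwN⟩
      · apply Subtype.ext
        simp only [MulEquiv.coe_toMonoidHom, MulAut.conj_apply]
        exact hws
    have h3 : (⟨s, hsN⟩ : Subgroup.normalizer (D : Set G)) ∈ DN := by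
      rw [← heq]
      exact ⟨h1, h2⟩
    rw [hDNdef, Subgroup.mem_subgroupOf] at h3
    exact h3

end Cfsg.Agent.Lib.Helper6
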