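import Mathlib
import Cfsg.Agent.S0906
import Cfsg.Agent.S0908
import Cfsg.Agent.S0956

/-! S2441 farm, unit B0 (abstract block glue): if every `p`-subgroup `DD` which is, for every
Sylow `p`-subgroup `P ≥ DD`, of the form `P ⊓ xPx⁻¹` with `x` centralising `DD`, is trivial or
Sylow, then every `p`-block has defect zero or full defect. -/

set_option autoImplicit false
set_option linter.unusedSectionVars false
set_option linter.unusedVariables false
set_option linter.style.longLine false

namespace Cfsg.Agent.Lib.Helper6.ChDich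

open Cfsg

theorem dich_abs {G : Type*} [Group G] [Finite G] (p : ℕ) [Fact p.Prime]
    (M : Ideal Cfsg.AlgInt) (hM : Cfsg.IsPModular p M)
    (hG : ∀ DD : Subgroup G, IsPGroup p DD →
      (∀ P : Sylow p G, DD ≤ P → ∃ x : G, x ∈ Subgroup.centralizer (DD : Set G) ∧
        (P : Subgroup G) ⊓ (P : Subgroup G).map (MulAut.conj x).toMonoidHom = DD) →
      DD = ⊥ ∨ ∃ P : Sylow p G, (P : Subgroup G) = DD) :
    ∀ B : Set (Cfsg.IrrCharacter G), Cfsg.IsPBlock M B →
      Cfsg.blockDefect p B = 0 ∨ Cfsg.blockDefect p B = (Nat.card G).factorization p := by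
  classical
  intro B hB
  have hp : p.Prime := Fact.out
  obtain ⟨g, hg⟩ := Cfsg.Agent.S0906.result p M hM B hB
  obtain ⟨S0⟩ : Nonempty (Sylow p (Subgroup.centralizer ({g} : Set G))) := inferInstance
  obtain ⟨D, hDdef⟩ : ∃ D : Subgroup G,
      D = (S0 : Subgroup (Subgroup.centralizer ({g} : Set G))).map
      (Subgroup.centralizer ({g} : Set G)).subtype := ⟨_, rfl⟩
  have hD : Cfsg.IsDefectGroup p M B D := ⟨g, hg, S0, hDdef⟩
  have hDp : IsPGroup p D := by
    rw [hDdef]; exact S0.isPGroup'.map _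
  have hcard := Cfsg.Agent.S0908.result p M hM B hB D hD
  have hgood : ∀ P : Sylow p G, D ≤ P → ∃ x : G, x ∈ Subgroup.centralizer (D : Set G) ∧
      (P : Subgroup G) ⊓ (P : Subgroup G).map (MulAut.conj x).toMonoidHom = D := by
    intro P hDP
    obtain ⟨x, hxp, ⟨S, hS⟩, hint⟩ := Cfsg.Agent.S0956.result p M hM B hB D hD P hDP
    refine ⟨x, ?_, hint⟩
    rw [← hS, Subgroup.mem_centralizer_iff]
    rintro d ⟨c, hc, rfl⟩
    have hc2 := c.2
    rw [Subgroup.mem_centralizer_iff] at hc2
    exact (hc2 x (Set.mem_singleton x)).symm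
  rcases hG D hDp hgood with hbot | ⟨P, hP⟩
  · left
    rw [hbot, Subgroup.card_bot] at hcard
    by_contra hne
    have h1 : 1 < p ^ Cfsg.blockDefect p B := Nat.one_lt_pow hne hp.one_lt
    omega
  · right
    have hPcard : Nat.card (P : Subgroup G) = p ^ (Nat.card G).factorization p :=
      Sylow.card_eq_multiplicity P
    rw [hP, hcard] at hPcard
    exact Nat.pow_right_injective hp.two_le hPcard

end Cfsg.Agent.Lib.Helper6.ChDich

namespace Cfsg.Agent.Lib.Helper6.ChDich

open Cfsg

/-- conjugate of a subgroup: `conjSub g Q = g Q g⁻¹`. -/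
abbrev conjSub {G : Type*} [Group G] (g : G) (Q : Subgroup G) : Subgroup G :=
  Q.map (MulAut.conj g).toMonoidHom

theorem mem_conjSub {G : Type*} [Group G] (g : G) (Q : Subgroup G) (y : G) :
    y ∈ conjSub g Q ↔ g⁻¹ * y * g ∈ Q := by
  constructor
  · rintro ⟨q, hq, rfl⟩
    simpa [MulAut.conj_apply, mul_assoc] using hq
  · intro h
    exact ⟨g⁻¹ * y * g, h, by simp [MulAut.conj_apply, mul_assoc]⟩

/-- **B0'**: reduction of the hypothesis of `dich_abs` to a statement about the subgroups of one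
fixed Sylow `p`-subgroup `U`: call `Q ≤ U` *good* if `Q = U ⊓ xUx⁻¹` for some `x` centralising
`Q`. If every `Q ≤ U`, all of whose `G`-conjugates inside `U` are good, is `⊥` or `U`, then the
hypothesis `hG` of `dich_abs` holds. -/
theorem hG_of_sylow {G : Type*} [Group G] [Finite G] (p : ℕ) [Fact p.Prime] (U : Sylow p G)
    (hU : ∀ Q : Subgroup G, Q ≤ (U : Subgroup G) →
      (∀ g : G, conjSub g Q ≤ (U : Subgroup G) →
        ∃ x : G, x ∈ Subgroup.centralizer ((conjSub g Q : Subgroup G) : Set G) ∧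
          (U : Subgroup G) ⊓ conjSub x (U : Subgroup G) = conjSub g Q) →
      Q = ⊥ ∨ Q = (U : Subgroup G)) :
    ∀ DD : Subgroup G, IsPGroup p DD →
      (∀ P : Sylow p G, DD ≤ P → ∃ x : G, x ∈ Subgroup.centralizer (DD : Set G) ∧
        (P : Subgroup G) ⊓ (P : Subgroup G).map (MulAut.conj x).toMonoidHom = DD) →
      DD = ⊥ ∨ ∃ P : Sylow p G, (P : Subgroup G) = DD := by
  classical
  intro DD hDDp hgood
  obtain ⟨P0, hDP0⟩ := hDDp.exists_le_sylow
  -- P0 = g0 • U
  obtain ⟨g0, hg0⟩ := MulAction.exists_smul_eq G U P0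
  have hP0 : (P0 : Subgroup G) = conjSub g0 (U : Subgroup G) := by
    rw [← hg0]; rfl
  -- Q := g0⁻¹ DD g0
  set Q : Subgroup G := conjSub g0⁻¹ DD with hQ
  have hconj_conj : ∀ (a b : G) (K : Subgroup G), conjSub a (conjSub b K) = conjSub (a * b) K := by
    intro a b K
    ext y
    simp only [mem_conjSub]
    constructor <;> intro h <;> simpa [mul_assoc] using h
  have hconj_one : ∀ K : Subgroup G, conjSub 1 K = K := by
    intro K; ext y; simp [mem_conjSub]
  have hconj_mono : ∀ (a : G) (K L : Subgroup G), K ≤ L → conjSub a K ≤ conjSub a L :=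
    fun a K L h => Subgroup.map_mono h
  have hQU : Q ≤ (U : Subgroup G) := by
    have := hconj_mono g0⁻¹ _ _ hDP0
    rw [hP0, hconj_conj, inv_mul_cancel, hconj_one] at this
    exact this
  have hDDQ : DD = conjSub g0 Q := by
    rw [hQ, hconj_conj, mul_inv_cancel, hconj_one]
  have key := hU Q hQU ?_
  · rcases key with h | h
    · left
      rw [hDDQ, h]
      exact Subgroup.map_bot _
    · right
      refine ⟨P0, ?_⟩
      rw [hDDQ, h, hP0]
  · intro g hgU
    -- P' := (g0 g⁻¹) U (g0 g⁻¹)⁻¹ contains DD, since g Q g⁻¹ ≤ U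
    set a : G := g0 * g⁻¹ with ha
    have hDDa : DD = conjSub a (conjSub g Q) := by
      rw [hconj_conj, ha, inv_mul_cancel_right]; exact hDDQ
    let P' : Sylow p G := a • U
    have hP' : (P' : Subgroup G) = conjSub a (U : Subgroup G) := rfl
    have hDP' : DD ≤ P' := by
      rw [hP', hDDa]; exact hconj_mono a _ _ hgU
    obtain ⟨x', hx'c, hx'⟩ := hgood P' hDP'
    refine ⟨a⁻¹ * x' * a, ?_, ?_⟩
    · rw [Subgroup.mem_centralizer_iff]
      intro y hy
      have hy' : a * y * a⁻¹ ∈ DD := by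
        rw [hDDa, mem_conjSub]
        simpa [mul_assoc] using hy
      have := (Subgroup.mem_centralizer_iff.mp hx'c) _ hy'
      -- this : a*y*a⁻¹ * x' = x' * (a*y*a⁻¹)
      have h2 : y * (a⁻¹ * x' * a) = a⁻¹ * (a * y * a⁻¹ * x') * a := by group
      have h3 : (a⁻¹ * x' * a) * y = a⁻¹ * (x' * (a * y * a⁻¹)) * a := by group
      rw [h2, h3, this]
    · -- conjugate hx' by a⁻¹
      have h1 : conjSub a⁻¹ ((P' : Subgroup G) ⊓ conjSub x' (P' : Subgroup G)) = conjSub a⁻¹ DD := by
        show conjSub a⁻¹ ((P' : Subgroup G) ⊓ (P' : Subgroup G).map (MulAut.conj x').toMonoidHom) = _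
        rw [hx']
      have h2 : conjSub a⁻¹ DD = conjSub g Q := by
        rw [hDDa, hconj_conj, inv_mul_cancel, hconj_one]
      rw [← h2, ← h1]
      ext y
      simp only [Subgroup.mem_inf, mem_conjSub, hP', inv_inv]
      constructor
      · rintro ⟨h1, h2⟩
        refine ⟨by simpa [mul_assoc] using h1, ?_⟩
        have : a⁻¹ * (x'⁻¹ * (a * y * a⁻¹) * x') * a = (a⁻¹ * x' * a)⁻¹ * y * (a⁻¹ * x' * a) := by
          group
        rw [this]; exact h2
      · rintro ⟨h1, h2⟩
        refine ⟨by simpa [mul_assoc] using h1, ?_⟩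
        have : a⁻¹ * (x'⁻¹ * (a * y * a⁻¹) * x') * a = (a⁻¹ * x' * a)⁻¹ * y * (a⁻¹ * x' * a) := by
          group
        rw [← this]; exact h2

end Cfsg.Agent.Lib.Helper6.ChDich
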