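import Mathlib
import Cfsg.Agent.Lib.Helper6.ChDich0
import Cfsg.Agent.Lib.Helper5.ChevGroupCard

/-! S2441 farm: the two notions `Good` and `Std` used by the units A, B, C, MAIN. -/

set_option autoImplicit false
set_option linter.unusedSectionVars false
set_option linter.unusedVariables false
set_option linter.style.longLine false

namespace Cfsg.Agent.Lib.Helper6.ChDich

open Cfsg Cfsg.Lie Cfsg.Agent.Lib.Helper5.ChevStruct Cfsg.Agent.Lib.Helper5.ChevSym

/-- `Q` is *good*: `Q = U ⊓ xUx⁻¹` for some `x ∈ G` centralising `Q`. -/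
def Good (D : ChevalleyDatum) (F : Type*) [Field F] (Q : Subgroup (GL D.Idx F)) : Prop :=
  ∃ x : GL D.Idx F, x ∈ D.group F ∧ x ∈ Subgroup.centralizer (Q : Set (GL D.Idx F)) ∧
    D.posUnipotent F ⊓ conjSub x (D.posUnipotent F) = Q

/-- `Q0` is *standard* w.r.t. `(h, w)`: `Q0 = U ⊓ nUn⁻¹`, `n = h * wGL w`, and `n * v`
centralises `Q0` for some `v ∈ U`. -/
def Std (D : ChevalleyDatum) (hD : D ∈ Seven) (F : Type*) [Field F]
    (Q0 : Subgroup (GL D.Idx F)) (h : GL D.Idx F) (w : List ℕ) : Prop :=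
  h ∈ D.diagonalSubgroup F ∧ Wd D w ∧
  Q0 = D.posUnipotent F ⊓ conjSub (h * wGL D hD w) (D.posUnipotent F) ∧
  ∃ v ∈ D.posUnipotent F,
    h * wGL D hD w * v ∈ Subgroup.centralizer (Q0 : Set (GL D.Idx F))

/-- the property `(P_w)`: every positive root that `w⁻¹` keeps positive is fixed by `w` -/
def PW' (D : ChevalleyDatum) (w : List ℕ) : Prop :=
  ∀ a, D.IsPosRoot a → D.IsPosRoot (wAct D w.reverse a) → wAct D w a = a

end Cfsg.Agent.Lib.Helper6.ChDich
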