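import Mathlib
import Cfsg.Agent.Lib.Helper6.ChDichDef

/-! S2441 farm, unit A0 (Bruhat normal form of a good subgroup) and general `conjSub` glue. -/

set_option autoImplicit false
set_option linter.unusedSectionVars false
set_option linter.unusedVariables false
set_option linter.style.longLine false

namespace Cfsg.Agent.Lib.Helper6.ChDich

open Cfsg Cfsg.Lie Cfsg.Agent.Lib.Helper5.ChevStruct Cfsg.Agent.Lib.Helper5.ChevSym

variable {F : Type*} [Field F]

theorem h6_conj_mem_iff {G : Type*} [Group G] (K : Subgroup G) (u : G) (hu : u ∈ K) (y : G) :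
    u * y * u⁻¹ ∈ K ↔ y ∈ K := by
  constructor
  · intro h
    have : y = u⁻¹ * (u * y * u⁻¹) * u := by group
    rw [this]
    exact mul_mem (mul_mem (inv_mem hu) h) hu
  · intro h
    exact mul_mem (mul_mem hu h) (inv_mem hu)

theorem h6_conj_mem_iff' {G : Type*} [Group G] (K : Subgroup G) (u : G) (hu : u ∈ K) (y : G) :
    u⁻¹ * y * u ∈ K ↔ y ∈ K := by
  have := h6_conj_mem_iff K u⁻¹ (inv_mem hu) y
  rwa [inv_inv] at this

/-- A0 -/
theorem good_std (D : ChevalleyDatum) (hD : D ∈ Seven) (Q : Subgroup (GL D.Idx F))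
    (hQ : Good D F Q) :
    ∃ u ∈ D.posUnipotent F, ∃ (h : GL D.Idx F) (w : List ℕ),
      Std D hD F (conjSub u⁻¹ Q) h w := by
  obtain ⟨x, hxG, hxc, hxQ⟩ := hQ
  obtain ⟨w, hw, b, hb, v, hv, hx⟩ := bruhat_exists_word D hD x hxG
  have hb' : b ∈ ((D.posUnipotent F ⊔ D.diagonalSubgroup F : Subgroup (GL D.Idx F)) :
      Set (GL D.Idx F)) := hb
  rw [Subgroup.coe_mul_of_right_le_normalizer_left _ _ (diagonal_le_normalizer_pos D hD)] at hb'
  obtain ⟨u, hu, h, hh, rfl⟩ := Set.mem_mul.1 hb'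
  have hvU : v ∈ D.posUnipotent F := rootSetSub_le_pos D _ (fun r hr => hr.1) hv
  refine ⟨u, hu, h, w, hh, hw, ?_, v * u, mul_mem hvU hu, ?_⟩
  · ext y
    rw [mem_conjSub, inv_inv, ← hxQ, Subgroup.mem_inf, Subgroup.mem_inf, mem_conjSub,
      mem_conjSub, h6_conj_mem_iff _ u hu]
    have e : x⁻¹ * (u * y * u⁻¹) * x = v⁻¹ * ((h * wGL D hD w)⁻¹ * y * (h * wGL D hD w)) * v := by
      rw [hx]; group
    rw [e, h6_conj_mem_iff' _ v hvU]
  · rw [Subgroup.mem_centralizer_iff]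
    intro y hy
    have hy' : u * y * u⁻¹ ∈ Q := by
      have := (mem_conjSub u⁻¹ Q y).1 hy
      rwa [inv_inv] at this
    have hc := (Subgroup.mem_centralizer_iff.1 hxc) _ hy'
    rw [hx] at hc
    have e1 : y * (h * wGL D hD w * (v * u)) = u⁻¹ * (u * y * u⁻¹ * (u * h * wGL D hD w * v)) * u := by
      group
    have e2 : h * wGL D hD w * (v * u) * y = u⁻¹ * (u * h * wGL D hD w * v * (u * y * u⁻¹)) * u := by
      group
    rw [e1, e2, hc]

end Cfsg.Agent.Lib.Helper6.ChDich
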