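import Mathlib
import Cfsg.Agent.Lib.Helper6.ChDichA
import Cfsg.Agent.Lib.Helper5.ChevCoLin
import Cfsg.Agent.Lib.Helper7.ChR2
import Cfsg.Agent.Lib.Helper8.ChevE4

/-! S2441 farm, units A1, A2, A3, B', C1, C2. -/

set_option autoImplicit false
set_option linter.unusedSectionVars false
set_option linter.unusedVariables false
set_option linter.style.longLine false

namespace Cfsg.Agent.Lib.Helper6.ChDich

open Cfsg Cfsg.Lie Cfsg.Agent.Lib.Helper5.ChevStruct Cfsg.Agent.Lib.Helper5.ChevSym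
open Cfsg.Agent.Lib.Helper8.ChevE

variable {F : Type*} [Field F]

/-- conjugation by `n = h * wGL w` on root elements -/
theorem h6_nconj (D : ChevalleyDatum) (hD : D ∈ Seven) (h : GL D.Idx F)
    (hh : h ∈ D.diagonalSubgroup F) (w : List ℕ) (hw : Wd D w) (r : ℕ) (hr : r < D.nroots) :
    ∃ c : F, c ≠ 0 ∧ ∀ t : F,
      (h * wGL D hD w) * xGL D hD r t * (h * wGL D hD w)⁻¹ = xGL D hD (wAct D w r) (c * t) := by
  obtain ⟨cc, hcc, hval⟩ := exists_torusMat_of_mem D hD h hh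
  obtain ⟨ε, hε, hconj⟩ := wGL_conj (F := F) D hD w hw r hr
  refine ⟨chi D cc (wAct D w r) * ε, mul_ne_zero (chi_ne_zero D cc hcc _)
    (by rcases hε with rfl | rfl <;> simp), ?_⟩
  intro t
  have e1 : wGL D hD w * xGL D hD r t * (wGL D hD w)⁻¹ = xGL D hD (wAct D w r) (ε * t) := by
    apply Units.ext
    rw [hconj t (xGL D hD r t) rfl, xGL_val]
  have e2 : (h * wGL D hD w) * xGL D hD r t * (h * wGL D hD w)⁻¹
      = h * (wGL D hD w * xGL D hD r t * (wGL D hD w)⁻¹) * h⁻¹ := by group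
  rw [e2, e1]
  apply Units.ext
  rw [torus_conj_x D hD h _ cc hcc hval (wAct D w r) (ε * t) rfl, xGL_val, mul_assoc]

/-- conjugation by `n⁻¹` on root elements -/
theorem h6_nconj_inv (D : ChevalleyDatum) (hD : D ∈ Seven) (h : GL D.Idx F)
    (hh : h ∈ D.diagonalSubgroup F) (w : List ℕ) (hw : Wd D w) (r : ℕ) (hr : r < D.nroots) :
    ∃ c : F, c ≠ 0 ∧ ∀ t : F,
      (h * wGL D hD w)⁻¹ * xGL D hD r t * (h * wGL D hD w)
        = xGL D hD (wAct D w.reverse r) (c * t) := by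
  have hw' : ∀ i ∈ w.reverse, i < D.rank := fun i hi => hw i (List.mem_reverse.1 hi)
  have hr' : wAct D w.reverse r < D.nroots := wAct_lt D hD _ hw' r hr
  obtain ⟨c, hc, hconj⟩ := h6_nconj D hD h hh w hw _ hr'
  refine ⟨c⁻¹, inv_ne_zero hc, ?_⟩
  intro t
  have := hconj (c⁻¹ * t)
  rw [wAct_reverse D hD w hw r hr, ← mul_assoc, mul_inv_cancel₀ hc, one_mul] at this
  rw [← this]
  group

/-- A1 -/
theorem std_x_mem (D : ChevalleyDatum) (hD : D ∈ Seven) (Q0 : Subgroup (GL D.Idx F))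
    (h : GL D.Idx F) (w : List ℕ) (hs : Std D hD F Q0 h w) (a : ℕ) (ha : D.IsPosRoot a)
    (hwa : D.IsPosRoot (wAct D w.reverse a)) (t : F) : xGL D hD a t ∈ Q0 := by
  obtain ⟨hh, hw, hQ0, -⟩ := hs
  rw [hQ0, Subgroup.mem_inf, mem_conjSub]
  refine ⟨xGL_mem_pos D hD a ha t, ?_⟩
  obtain ⟨c, -, hc⟩ := h6_nconj_inv D hD h hh w hw a ha.1
  rw [hc t]
  exact xGL_mem_pos D hD _ hwa _

/-- A2 -/
theorem std_pos_of_Eent (D : ChevalleyDatum) (hD : D ∈ Seven) (Q0 : Subgroup (GL D.Idx F))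
    (h : GL D.Idx F) (w : List ℕ) (hs : Std D hD F Q0 h w) (y : GL D.Idx F) (hy : y ∈ Q0)
    (g i : ℕ) (hg : D.IsPosRoot g)
    (hE : Eent D g i (y : Matrix D.Idx D.Idx F) ≠ 0) : D.IsPosRoot (wAct D w.reverse g) := by
  obtain ⟨hh, hw, hQ0, -⟩ := hs
  by_contra hnp
  apply hE
  have hw' : ∀ i ∈ w.reverse, i < D.rank := fun i hi => hw i (List.mem_reverse.1 hi)
  have hneg : D.IsPosRoot (D.neg (wAct D w.reverse g)) :=
    pos_neg_of_not_pos D hD _ (wAct_lt D hD _ hw' g hg.1) hnp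
  rw [hQ0, Subgroup.mem_inf, mem_conjSub] at hy
  have := Eent_monomial D hD h hh w hw _ hy.2 g hg hneg i
  have e : (h * wGL D hD w) * ((h * wGL D hD w)⁻¹ * y * (h * wGL D hD w)) * (h * wGL D hD w)⁻¹
      = y := by group
  rwa [e] at this

/-- A3 -/
theorem std_PW (p : ℕ) [Fact p.Prime] [CharP F p] (D : ChevalleyDatum) (hD : D ∈ Seven)
    (Q0 : Subgroup (GL D.Idx F)) (h : GL D.Idx F) (w : List ℕ) (hs : Std D hD F Q0 h w) :
    PW' D w := by
  intro a ha hwa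
  have hx : xGL D hD a 1 ∈ Q0 := std_x_mem D hD Q0 h w hs a ha hwa 1
  obtain ⟨hh, hw, hQ0, v, hv, hcen⟩ := hs
  have hc := (Subgroup.mem_centralizer_iff.1 hcen) _ hx
  obtain ⟨c, hc0, hconj⟩ := h6_nconj_inv D hD h hh w hw a ha.1
  have e : v * xGL D hD a 1 * v⁻¹ = xGL D hD (wAct D w.reverse a) (c * 1) := by
    rw [← hconj 1]
    have : v * xGL D hD a 1 * v⁻¹
        = (h * wGL D hD w)⁻¹ * (h * wGL D hD w * v * xGL D hD a 1) * v⁻¹ := by group
    rw [this, ← hc]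
    group
  obtain ⟨i, hi, hgood⟩ := exists_good (F := F) p D hD a ha.1
  have h2 := Eent_conj_x D hD v hv a ha i hi (1 : F)
  rw [e, xGL_val, Eent_x D hD _ a i hwa ha hi] at h2
  by_cases heq : wAct D w.reverse a = a
  · have := wAct_reverse D hD w hw a ha.1
    rwa [heq] at this
  · exfalso
    rw [if_neg heq, mul_one] at h2
    exact hgood h2.symm

/-- B' : if `w⁻¹ α_j < 0` then all entries `E_{α_j,i}` vanish on `Q0` -/
theorem std_Eent_simple_zero (D : ChevalleyDatum) (hD : D ∈ Seven) (Q0 : Subgroup (GL D.Idx F))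
    (h : GL D.Idx F) (w : List ℕ) (hs : Std D hD F Q0 h w) (j : ℕ) (hj : j < D.rank)
    (hneg : ¬ D.IsPosRoot (wAct D w.reverse (D.simple j))) (y : GL D.Idx F) (hy : y ∈ Q0) (i : ℕ) :
    Eent D (D.simple j) i (y : Matrix D.Idx D.Idx F) = 0 := by
  by_contra hE
  exact hneg (std_pos_of_Eent D hD Q0 h w hs y hy (D.simple j) i (simple_pos D hD j hj) hE)

/-- C1 -/
theorem std_C1 (p : ℕ) [Fact p.Prime] [CharP F p] (D : ChevalleyDatum) (hD : D ∈ Seven)
    (Q0 : Subgroup (GL D.Idx F)) (hQ0 : Q0 ≤ D.posUnipotent F) (j : ℕ) (hj : j < D.rank)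
    (u1 : GL D.Idx F) (hu1 : u1 ∈ D.posUnipotent F) (h1 : GL D.Idx F) (w1 : List ℕ)
    (hs1 : Std D hD F (conjSub u1⁻¹ (conjSub (nGL D hD j) Q0)) h1 w1) :
    ¬ D.IsPosRoot (wAct D w1.reverse (D.simple j)) := by
  intro hpos
  have hsp := simple_pos D hD j hj
  have hx := std_x_mem D hD _ h1 w1 hs1 (D.simple j) hsp hpos 1
  rw [mem_conjSub, inv_inv, mem_conjSub] at hx
  have hq0 := hQ0 hx
  obtain ⟨i, hi, hgood⟩ := exists_good (F := F) p D hD (D.simple j) hsp.1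
  have h2 := Eent_conj_x D hD u1 hu1 (D.simple j) hsp i hi (1 : F)
  have hneg : D.IsPosRoot (D.neg (wAct D [j].reverse (D.simple j))) := by
    have : wAct D [j].reverse (D.simple j) = D.neg (D.simple j) := by
      simp only [List.reverse_cons, List.reverse_nil, List.nil_append]
      unfold wAct
      simp only [List.foldr_cons, List.foldr_nil]
      exact reflectRoot_simple D j
    rw [this, (neg_lt D hD _ hsp.1).2.2]
    exact hsp
  have h3 := Eent_monomial D hD (1 : GL D.Idx F) (one_mem _) [j]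
    (by intro k hk; rw [List.mem_singleton] at hk; rw [hk]; exact hj) _ hq0 (D.simple j) hsp hneg i
  have e : ((1 : GL D.Idx F) * wGL D hD [j]) *
      ((nGL D hD j)⁻¹ * (u1 * xGL D hD (D.simple j) 1 * u1⁻¹) * nGL D hD j) *
      ((1 : GL D.Idx F) * wGL D hD [j])⁻¹ = u1 * xGL D hD (D.simple j) 1 * u1⁻¹ := by
    rw [wGL_cons, wGL_nil]
    group
  rw [e, h2, mul_one] at h3
  exact hgood h3

/-- C2 -/
theorem std_C2 (p : ℕ) [Fact p.Prime] [CharP F p] (D : ChevalleyDatum) (hD : D ∈ Seven)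
    (Q0 : Subgroup (GL D.Idx F)) (h : GL D.Idx F) (w : List ℕ) (hs : Std D hD F Q0 h w)
    (j : ℕ) (hj : j < D.rank) (hneg : ¬ D.IsPosRoot (wAct D w.reverse (D.simple j)))
    (u1 : GL D.Idx F) (hu1 : u1 ∈ D.posUnipotent F) (h1 : GL D.Idx F) (w1 : List ℕ)
    (hs1 : Std D hD F (conjSub u1⁻¹ (conjSub (nGL D hD j) Q0)) h1 w1)
    (a : ℕ) (ha : D.IsPosRoot a) (hwa : D.IsPosRoot (wAct D w.reverse a)) :
    D.IsPosRoot (wAct D w1.reverse (D.reflectRoot j a)) := by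
  have hne : a ≠ D.simple j := by
    rintro rfl
    exact hneg hwa
  have hpos : D.IsPosRoot (D.reflectRoot j a) :=
    (checkCoLin_spec D j (chkCoLin_all D hD j hj) a ha.1).2 ha hne
  have hx : xGL D hD a 1 ∈ Q0 := std_x_mem D hD Q0 h w hs a ha hwa 1
  -- z := n_j x_a(1) n_j⁻¹ = x_{s_j a}(η)
  have hz : nGL D hD j * xGL D hD a 1 * (nGL D hD j)⁻¹
      = xGL D hD (D.reflectRoot j a) ((eta D j a : F) * 1) := by
    apply Units.ext
    rw [nGL_conj D hD j hj a ha.1 1 (xGL D hD a 1) rfl, xGL_val]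
  have hη : ((eta D j a : ℤ) : F) ≠ 0 := by
    rcases eta_sq D hD j hj a ha.1 with h | h <;> rw [h] <;> simp
  -- y := u1⁻¹ z u1 ∈ Q2
  have hy : u1⁻¹ * xGL D hD (D.reflectRoot j a) ((eta D j a : F) * 1) * u1⁻¹⁻¹
      ∈ conjSub u1⁻¹ (conjSub (nGL D hD j) Q0) := by
    rw [mem_conjSub, mem_conjSub, ← hz]
    have : (nGL D hD j)⁻¹ * (u1⁻¹⁻¹ * (u1⁻¹ * (nGL D hD j * xGL D hD a 1 * (nGL D hD j)⁻¹) * u1⁻¹⁻¹)
        * u1⁻¹) * nGL D hD j = xGL D hD a 1 := by group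
    rw [this]
    exact hx
  obtain ⟨i, hi, hgood⟩ := exists_good (F := F) p D hD (D.reflectRoot j a) hpos.1
  have h2 := Eent_conj_x D hD u1⁻¹ (inv_mem hu1) (D.reflectRoot j a) hpos i hi ((eta D j a : F) * 1)
  refine std_pos_of_Eent D hD _ h1 w1 hs1 _ hy (D.reflectRoot j a) i hpos ?_
  rw [h2, mul_one]
  exact mul_ne_zero hgood hη

end Cfsg.Agent.Lib.Helper6.ChDich
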