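import Mathlib
import Cfsg.Prelude.Def_ChevStructure
import Cfsg.Prelude.Def_LieChev
import Cfsg.Agent.Lib.Helper5.ChevWRel
import Cfsg.Agent.Lib.Helper5.ChevXGL
import Cfsg.Agent.Lib.Helper5.ChevChk.W0All
import Cfsg.Agent.Lib.Helper6.F4EvDefs

set_option autoImplicit false

/-!
# Farm E6EV (S2175): the three classes of involutions of `E₆(q)`, `q` even — definitions
-/

namespace Cfsg.Agent.Lib.Helper6.E6Ev

open Cfsg Cfsg.Lie Cfsg.Agent.Lib.Helper5.ChevSym Cfsg.Agent.Lib.Helper5.ChevStruct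

theorem memE6v : chevE6 ∈ Seven := by simp [Seven]

/-- the longest element of `W(E₆)` (the word of `chkW0_E6`) -/
def w0E6 : List ℕ :=
  [0, 1, 2, 0, 3, 1, 2, 0, 3, 2, 4, 3, 1, 2, 0, 3, 2, 4, 3, 1, 5, 4, 3, 1, 2, 0, 3, 2, 4, 3, 1,
    5, 4, 3, 2, 0]

theorem chkW0_w0E6 : checkW0 chevE6 w0E6 = true := chkW0_E6

/-- the six local maxima of `W(E₆)` that are involutions (the last is the identity):
`w₀ w_I` for `I = ∅, {1}, {3}, {2,3,4}, {0,2,3,4,5}, all` (nodes numbered from 0) -/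
def lmE6 : List (List ℕ) :=
  [[0, 2, 3, 4, 5, 1, 3, 4, 2, 3, 0, 2, 1, 3, 4, 5, 1, 3, 4, 2, 3, 0, 2, 1, 3, 4, 2, 3, 0, 2, 1, 3,
     0, 2, 1, 0],
   [0, 2, 3, 4, 5, 1, 3, 4, 2, 3, 0, 2, 1, 3, 4, 5, 1, 3, 4, 2, 3, 0, 2, 1, 3, 4, 2, 3, 0, 2, 1, 3,
     0, 2, 0],
   [0, 2, 3, 4, 5, 1, 3, 4, 2, 3, 0, 2, 1, 3, 4, 5, 1, 3, 4, 2, 3, 0, 2, 1, 3, 4, 3, 0, 2, 1, 3, 0,
     2, 1, 0],
   [0, 2, 3, 4, 5, 1, 3, 4, 2, 3, 0, 2, 1, 3, 4, 5, 4, 3, 0, 2, 1, 3, 4, 0, 2, 1, 3, 2, 1, 0],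
   [1, 3, 4, 2, 3, 0, 2, 1, 3, 4, 5, 4, 3, 2, 1, 3, 4, 0, 2, 3, 1],
   []]

variable (F : Type*) [Field F]

/-- the three matrices of the statement -/
def yList6 : List (Matrix chevE6.Idx chevE6.Idx F) :=
  [chevE6.x F 71 1, chevE6.x F 68 1 * chevE6.x F 66 1,
    chevE6.x F 55 1 * chevE6.x F 65 1 * chevE6.x F 67 1]

/-- the three representatives in `GL` -/
def yGL6 : Fin 3 → GL chevE6.Idx F :=
  ![xGL chevE6 memE6v 71 1, xGL chevE6 memE6v 68 1 * xGL chevE6 memE6v 66 1,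
    xGL chevE6 memE6v 55 1 * xGL chevE6 memE6v 65 1 * xGL chevE6 memE6v 67 1]

theorem yGL6_mem_yList6 (k : Fin 3) :
    ((yGL6 F k : GL chevE6.Idx F) : Matrix chevE6.Idx chevE6.Idx F) ∈ yList6 F := by
  fin_cases k <;> simp [yGL6, yList6]

theorem eq_yGL6_of_mem_yList6 (y : GL chevE6.Idx F)
    (h : ((y : GL chevE6.Idx F) : Matrix chevE6.Idx chevE6.Idx F) ∈ yList6 F) :
    ∃ k : Fin 3, y = yGL6 F k := by
  simp only [yList6, List.mem_cons, List.not_mem_nil, or_false] at h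
  rcases h with h | h | h
  · exact ⟨0, Units.ext (by rw [h]; simp [yGL6])⟩
  · exact ⟨1, Units.ext (by rw [h]; simp [yGL6])⟩
  · exact ⟨2, Units.ext (by rw [h]; simp [yGL6])⟩

theorem yGL6_mem_group (k : Fin 3) : yGL6 F k ∈ chevE6.group F := by
  fin_cases k
  · exact xGL_mem_group chevE6 memE6v 71 1
  · exact mul_mem (xGL_mem_group chevE6 memE6v 68 1) (xGL_mem_group chevE6 memE6v 66 1)
  · exact mul_mem (mul_mem (xGL_mem_group chevE6 memE6v 55 1) (xGL_mem_group chevE6 memE6v 65 1))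
      (xGL_mem_group chevE6 memE6v 67 1)

end Cfsg.Agent.Lib.Helper6.E6Ev
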