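import Mathlib

/-! E6M2 farm (S2341): the Frobenius `x ↦ x ^ q` of a field with `q²` elements. -/

set_option autoImplicit false

namespace Cfsg.Agent.Lib.Helper6.E6M2Frob

variable {K : Type*} [Field K] [Fintype K] (q : ℕ) (hq : IsPrimePow q)
  (hK : Fintype.card K = q ^ 2)

include hq hK in
/-- `x ↦ x ^ q` is a ring homomorphism -/
theorem exists_frob : ∃ φ : K →+* K, ∀ x, φ x = x ^ q := by
  obtain ⟨p, hp⟩ := CharP.exists K
  haveI := hp
  obtain ⟨n, hpp, hcard⟩ := FiniteField.card K p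
  haveI : Fact p.Prime := ⟨hpp⟩
  obtain ⟨r, k, hr, hk, rfl⟩ := hq
  have hr' : r.Prime := Nat.prime_iff.mpr hr
  -- `r = p`
  have hrp : r = p := by
    have h1 : r ∣ p ^ (n : ℕ) := by
      rw [← hcard, hK]
      exact Dvd.dvd.pow (dvd_pow_self r (by omega)) (by norm_num)
    exact (Nat.prime_dvd_prime_iff_eq hr' hpp).mp (hr'.dvd_of_dvd_pow h1)
  subst hrp
  refine ⟨iterateFrobenius K r k, fun x => ?_⟩
  rw [iterateFrobenius_def]

include hq hK in
theorem add_pow_q (x y : K) : (x + y) ^ q = x ^ q + y ^ q := by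
  obtain ⟨φ, hφ⟩ := exists_frob q hq hK
  rw [← hφ, ← hφ, ← hφ, map_add]

include hq hK in
theorem neg_pow_q (x : K) : (-x) ^ q = -(x ^ q) := by
  obtain ⟨φ, hφ⟩ := exists_frob q hq hK
  rw [← hφ, ← hφ, map_neg]

include hq hK in
theorem sub_pow_q (x y : K) : (x - y) ^ q = x ^ q - y ^ q := by
  obtain ⟨φ, hφ⟩ := exists_frob q hq hK
  rw [← hφ, ← hφ, ← hφ, map_sub]

include hq hK in
theorem intCast_pow_q (z : ℤ) : ((z : ℤ) : K) ^ q = ((z : ℤ) : K) := by
  obtain ⟨φ, hφ⟩ := exists_frob q hq hK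
  rw [← hφ, map_intCast]

include hq hK in
theorem sum_pow_q {ι : Type*} (s : Finset ι) (f : ι → K) :
    (∑ i ∈ s, f i) ^ q = ∑ i ∈ s, f i ^ q := by
  obtain ⟨φ, hφ⟩ := exists_frob q hq hK
  rw [← hφ, map_sum]
  exact Finset.sum_congr rfl (fun i _ => hφ _)

include hK in
theorem pow_q_pow_q (x : K) : (x ^ q) ^ q = x := by
  rw [← pow_mul, ← sq, ← hK, FiniteField.pow_card]

end Cfsg.Agent.Lib.Helper6.E6M2Frob
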