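import Mathlib
import Cfsg.Agent.Lib.Helper3.E6M2DefsC
import Cfsg.Agent.Lib.Helper6.E6MSUPP
import Cfsg.Agent.Lib.Helper6.E6M2Frob

/-! E6M2 farm (S2341), layer C2: the torus element `diag(c,1,1,1,1,c⁻¹)`, `c ∈ F_q^×`, as a product
of six long root elements of `RJ q`. -/

set_option autoImplicit false

namespace Cfsg.Agent.Lib.Helper6.E6M2TORUS

open Cfsg.Agent.Lib.Helper5.E6M Cfsg.Agent.Lib.Helper3.E6M2C Matrix

variable {K : Type*} [Field K]

/-- the embedding of `2 × 2` matrices at the positions `0`, `5` -/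
def iota2 (A : Matrix (Fin 2) (Fin 2) K) : Matrix (Fin 6) (Fin 6) K :=
  Matrix.of fun i j =>
    if i = 0 then (if j = 0 then A 0 0 else if j = 5 then A 0 1 else 0)
    else if i = 5 then (if j = 0 then A 1 0 else if j = 5 then A 1 1 else 0)
    else if i = j then 1 else 0

theorem iota2_mul (A B : Matrix (Fin 2) (Fin 2) K) : iota2 A * iota2 B = iota2 (A * B) := by
  ext i j
  fin_cases i <;> fin_cases j <;>
    simp [iota2, Matrix.mul_apply, Fin.sum_univ_six, Fin.sum_univ_two]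

theorem tv05 (c : K) : Matrix.transvection (0 : Fin 6) 5 c = iota2 !![1, c; 0, 1] := by
  ext i j
  fin_cases i <;> fin_cases j <;> simp [iota2, Matrix.transvection]

theorem tv50 (c : K) : Matrix.transvection (5 : Fin 6) 0 c = iota2 !![1, 0; c, 1] := by
  ext i j
  fin_cases i <;> fin_cases j <;> simp [iota2, Matrix.transvection]

/-- the diagonal of the torus element -/
def hdJ (c : K) : Fin 6 → K := fun i => if i = 0 then c else if i = 5 then c⁻¹ else 1

theorem diag05 (c : K) : Matrix.diagonal (hdJ c) = iota2 !![c, 0; 0, c⁻¹] := by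
  ext i j
  fin_cases i <;> fin_cases j <;> simp [iota2, hdJ]

theorem sl2_identity (c : K) (hc : c ≠ 0) :
    Matrix.transvection (0 : Fin 6) 5 c * Matrix.transvection 5 0 (-c⁻¹) *
      Matrix.transvection 0 5 c * Matrix.transvection 0 5 (-1) * Matrix.transvection 5 0 1 *
      Matrix.transvection 0 5 (-1) = Matrix.diagonal (hdJ c) := by
  rw [tv05, tv50, tv05, tv50, diag05, iota2_mul, iota2_mul, iota2_mul, iota2_mul, iota2_mul]
  congr 1
  ext i j
  fin_cases i <;> fin_cases j <;>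
    simp [Matrix.mul_apply, Fin.sum_univ_two] <;> field_simp <;> ring

/-- the torus element as a product of long root elements -/
def hJ (c : K) : SL6 K := xl 0 c * xl 5 (-c⁻¹) * xl 0 c * xl 0 (-1) * xl 5 1 * xl 0 (-1)

theorem hJ_val (c : K) (hc : c ≠ 0) : (hJ c).1 = Matrix.diagonal (hdJ c) := by
  rw [← sl2_identity c hc]
  rfl

theorem xl_mem (q : ℕ) (i : Fin 6) (t : K) (ht : t ^ q = t) : xl i t ∈ RJ q :=
  Subgroup.subset_closure (Or.inr ⟨i, t, ht, rfl⟩)

theorem xs_mem (q : ℕ) (p : IJ) (t : K) : xs q p t ∈ RJ q :=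
  Subgroup.subset_closure (Or.inl ⟨p, t, rfl⟩)

section fin

variable [Fintype K] (q : ℕ) (hq : IsPrimePow q) (hK : Fintype.card K = q ^ 2)

include hq hK in
theorem hJ_mem (c : K) (hc : c ^ q = c) : hJ c ∈ RJ q := by
  have h1 : (1 : K) ^ q = 1 := one_pow q
  have hm1 : (-1 : K) ^ q = -1 := by
    rw [Cfsg.Agent.Lib.Helper6.E6M2Frob.neg_pow_q q hq hK, h1]
  have hci : (-c⁻¹) ^ q = -c⁻¹ := by
    rw [Cfsg.Agent.Lib.Helper6.E6M2Frob.neg_pow_q q hq hK, inv_pow, hc]
  unfold hJ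
  exact mul_mem (mul_mem (mul_mem (mul_mem (mul_mem (xl_mem q 0 c hc) (xl_mem q 5 _ hci))
    (xl_mem q 0 c hc)) (xl_mem q 0 _ hm1)) (xl_mem q 5 1 h1)) (xl_mem q 0 _ hm1)

end fin

theorem hJ_coord (c : K) (hc : c ≠ 0) (l : T3 → K) :
    (Mm (hJ c).1 *ᵥ l) I012 = c * l I012 := by
  rw [hJ_val c hc, Cfsg.Agent.Lib.Helper6.E6MSUPP.diag_coord, Fin.prod_univ_three]
  simp only [Cfsg.Agent.Lib.Helper2.E6MCell.I012_emb]
  simp [hdJ]

theorem single_eq_hJ (c : K) (hc : c ≠ 0) :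
    (Pi.single I012 c : T3 → K) = Mm (hJ c).1 *ᵥ Pi.single I012 1 := by
  classical
  funext J
  rw [hJ_val c hc, Cfsg.Agent.Lib.Helper6.E6MSUPP.diag_coord]
  by_cases hJ' : J = I012
  · subst hJ'
    rw [Pi.single_eq_same, Pi.single_eq_same, mul_one, Fin.prod_univ_three]
    simp only [Cfsg.Agent.Lib.Helper2.E6MCell.I012_emb]
    simp [hdJ]
  · rw [Pi.single_eq_of_ne hJ', Pi.single_eq_of_ne hJ', mul_zero]

end Cfsg.Agent.Lib.Helper6.E6M2TORUS
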