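import Mathlib
import Cfsg.Agent.Lib.Helper3.E6M2DefsC
import Cfsg.Agent.Lib.Helper7.E6M2LAM
import Cfsg.Agent.Lib.Helper6.E6MSUPP
import Cfsg.Agent.Lib.Helper6.E6M2Frob
import Cfsg.Agent.Lib.Helper6.E6M2TORUS

/-! E6M2 farm (S2341), layer C2: the tools of the shape argument inside `RJ q`
(`adjust2`, `move2`, `reach2`). -/

set_option autoImplicit false

namespace Cfsg.Agent.Lib.Helper6.E6M2SUPPBase

open Cfsg.Agent.Lib.Helper5.E6M Cfsg.Agent.Lib.Helper3.E6M2C Matrix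
open Cfsg.Agent.Lib.Helper6.E6MSUPP Cfsg.Agent.Lib.Helper6.E6M2TORUS

/-! ### tables -/

theorem epsI_long : ∀ I : T3, IsLong I → epsI I = 1 := by decide +kernel

set_option maxRecDepth 100000 in
theorem dd_repl_same3 : ∀ (i j : Fin 6) (J : T3), 3 ≤ i → 3 ≤ j → dd (repl J i j) = dd J := by
  decide +kernel

theorem tau_nbr : ∀ p : IJ, (3 ≤ p.1.1 ∧ p.1.2 < 3) →
    tauI (repl I012 p.1.1 p.1.2) = repl I012 (Fin.rev p.1.2) (Fin.rev p.1.1) := by
  decide +kernel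

theorem long_nbr : ∀ p : IJ, (3 ≤ p.1.1 ∧ p.1.2 < 3) →
    (IsLong (repl I012 p.1.1 p.1.2) ↔ p.1.2 = Fin.rev p.1.1) := by
  decide +kernel

theorem dd_one2 : ∀ K : T3, dd K = 1 →
    ∃ p : IJ, p.1.2 ∈ K.1 ∧ p.1.1 ∉ K.1 ∧ p.1.1 < 3 ∧ p.1.2 < 3 ∧
      ¬ (Fin.rev p.1.2 ∈ K.1 ∧ Fin.rev p.1.1 ∉ K.1) := by decide +kernel

theorem long_step : ∀ I : T3, IsLong I → dd I ≠ 3 →
    ∃ i : Fin 6, i < 3 ∧ Fin.rev i ∈ I.1 ∧ i ∉ I.1 ∧ IsLong (repl I i (Fin.rev i)) := by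
  decide +kernel

theorem repl_I034 : repl I034 5 0 = I345 := by decide +kernel

theorem I034_mem : (0 : Fin 6) ∈ I034.1 ∧ (5 : Fin 6) ∉ I034.1 := by decide +kernel

theorem long_I012 : IsLong I012 := by decide +kernel

theorem rev_lt : ∀ i : Fin 6, (i < 3 ↔ 3 ≤ Fin.rev i) := by decide

theorem rev_ge : ∀ i : Fin 6, (3 ≤ i ↔ Fin.rev i < 3) := by decide

theorem lpos_val (i : Fin 6) : (lpos i).1 = (i, Fin.rev i) := rfl

theorem revp_val (p : IJ) : (revp p).1 = (Fin.rev p.1.2, Fin.rev p.1.1) := rfl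

theorem mem_repl (I : T3) (i j : Fin 6) (h : j ∈ I.1 ∧ i ∉ I.1) (x : Fin 6) (hxi : x ≠ i)
    (hxj : x ≠ j) : x ∈ (repl I i j).1 ↔ x ∈ I.1 := by
  rw [repl_val I i j h, Finset.mem_insert, Finset.mem_erase]
  constructor
  · rintro (h1 | ⟨_, h2⟩)
    · exact absurd h1 hxi
    · exact h2
  · intro h1
    exact Or.inr ⟨hxj, h1⟩

section main

variable {K : Type*} [Field K] [Fintype K] [DecidableEq K] (q : ℕ) (hq : IsPrimePow q)
  (hK : Fintype.card K = q ^ 2)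

/-- long coordinates of elements of `Λ_τ` are in `F_q` -/
theorem long_coord (l : T3 → K) (hl : InLam q l) (I : T3) (hI : IsLong I) : l I ^ q = l I := by
  have h := hl I
  rw [show tauI I = I from hI, epsI_long I hI] at h
  simpa using h.symm

/-- dd-2 sets are determined by the position of the root element moving them to `012` -/
theorem nbr_uniq (p' : IJ) (h1 : 3 ≤ p'.1.1) (h2 : p'.1.2 < 3) (N' : T3) (hd : dd N' = 2)
    (c1 : p'.1.1 ∈ N'.1) (c2 : p'.1.2 ∉ N'.1) :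
    repl N' p'.1.2 p'.1.1 = I012 ∧ N' = repl I012 p'.1.1 p'.1.2 := by
  have hr : repl N' p'.1.2 p'.1.1 = I012 := by
    apply dd_three
    have := dd_repl_up p'.1.2 p'.1.1 N' ⟨h2, h1, c1, c2⟩
    omega
  refine ⟨hr, ?_⟩
  have e := (repl_repl p'.1.2 p'.1.1 (fun h => p'.2 h.symm) N' ⟨c1, c2⟩).2.2
  rw [hr] at e
  exact e.symm

include hq hK in
theorem step2 (l : T3 → K) (hl : InLam q l) (h0 : l I012 ≠ 0) (N : T3) (hN : dd N = 2) (w : K)
    (hw : IsLong N → w ^ q = w) :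
    ∃ g : SL6 K, g ∈ RJ q ∧ (Mm g.1 *ᵥ l) I012 = l I012 ∧ (Mm g.1 *ᵥ l) N = w ∧
      ∀ N' : T3, dd N' = 2 → N' ≠ N → N' ≠ tauI N → (Mm g.1 *ᵥ l) N' = l N' := by
  obtain ⟨p, hp1, hp2, hpN1, hpN2⟩ := dd_two N hN
  obtain ⟨hNrepl, hNeq⟩ := nbr_uniq p hp1 hp2 N hN hpN1 hpN2
  set ε : K := ((rsgn I012 p.1.1 p.1.2 : ℤ) : K) with hε
  have hεε : ε * ε = 1 := rsgn_mul_self I012 p.1.1 p.1.2
  have hnot012 : p.1.1 ∉ I012.1 := by
    intro c1
    have := (mem_I012 p.1.1).mp c1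
    omega
  by_cases hlong : IsLong N
  · -- a long root element
    have hpl : p.1.2 = Fin.rev p.1.1 := (long_nbr p ⟨hp1, hp2⟩).mp (hNeq ▸ hlong)
    have hlp : lpos p.1.1 = p := by
      apply Subtype.ext
      apply Prod.ext
      · rfl
      · exact hpl.symm
    have htq : (ε * (w - l N) / l I012) ^ q = ε * (w - l N) / l I012 := by
      rw [div_pow, mul_pow, Cfsg.Agent.Lib.Helper6.E6M2Frob.sub_pow_q q hq hK, hw hlong,
        long_coord q l hl N hlong, long_coord q l hl I012 long_I012, hε,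
        Cfsg.Agent.Lib.Helper6.E6M2Frob.intCast_pow_q q hq hK]
    refine ⟨xl p.1.1 (ε * (w - l N) / l I012), xl_mem q _ _ htq, ?_, ?_, ?_⟩
    · show (Mm (tv (lpos p.1.1) _).1 *ᵥ l) I012 = l I012
      rw [hlp, tv_val, tv_coord, if_neg (fun h => hnot012 h.1), mul_zero, add_zero]
    · show (Mm (tv (lpos p.1.1) _).1 *ᵥ l) N = w
      rw [hlp, tv_val, tv_coord, if_pos ⟨hpN1, hpN2⟩, hNrepl]
      show l N + ε * (w - l N) / l I012 * (ε * l I012) = w
      field_simp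
      linear_combination (w - l N) * hεε
    · intro N' hd hne _
      show (Mm (tv (lpos p.1.1) _).1 *ᵥ l) N' = l N'
      rw [hlp, tv_val, tv_coord, if_neg, mul_zero, add_zero]
      rintro ⟨c1, c2⟩
      exact hne ((nbr_uniq p hp1 hp2 N' hd c1 c2).2.trans hNeq.symm)
  · -- a short root element
    have hr1 : (3 : Fin 6) ≤ Fin.rev p.1.2 := (rev_lt p.1.2).mp hp2
    have hr2 : Fin.rev p.1.1 < 3 := (rev_ge p.1.1).mp hp1
    have htau : tauI N = repl I012 (Fin.rev p.1.2) (Fin.rev p.1.1) := by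
      rw [hNeq]; exact tau_nbr p ⟨hp1, hp2⟩
    -- the inner factor
    have hinner : ∀ (u : K) (X : T3), (X = I012 ∨ (dd X = 2 ∧ X ≠ tauI N)) →
        (Mm (Matrix.transvection (revp p).1.1 (revp p).1.2 u) *ᵥ l) X = l X := by
      intro u X hX
      rw [tv_coord, if_neg, mul_zero, add_zero]
      rintro ⟨c1, c2⟩
      have c1' : Fin.rev p.1.2 ∈ X.1 := c1
      have c2' : Fin.rev p.1.1 ∉ X.1 := c2
      rcases hX with rfl | ⟨hd, hne⟩
      · have := (mem_I012 _).mp c1'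
        omega
      · apply hne
        rw [htau]
        exact (nbr_uniq (revp p) hr1 hr2 X hd c1' c2').2
    have hNne : N ≠ tauI N := fun h => hlong h.symm
    refine ⟨xs q p (ε * (w - l N) / l I012), xs_mem q p _, ?_, ?_, ?_⟩
    · unfold xs
      rw [Mm_mul_mulVec, tv_val, tv_val, tv_coord, if_neg (fun h => hnot012 h.1), mul_zero,
        add_zero, hinner _ I012 (Or.inl rfl)]
    · unfold xs
      rw [Mm_mul_mulVec, tv_val, tv_val, tv_coord, if_pos ⟨hpN1, hpN2⟩, hNrepl,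
        hinner _ I012 (Or.inl rfl), hinner _ N (Or.inr ⟨hN, hNne⟩)]
      show l N + ε * (w - l N) / l I012 * (ε * l I012) = w
      field_simp
      linear_combination (w - l N) * hεε
    · intro N' hd hne hne'
      unfold xs
      rw [Mm_mul_mulVec, tv_val, tv_val, tv_coord, if_neg, mul_zero, add_zero,
        hinner _ N' (Or.inr ⟨hd, hne'⟩)]
      rintro ⟨c1, c2⟩
      exact hne ((nbr_uniq p hp1 hp2 N' hd c1 c2).2.trans hNeq.symm)

include hq hK in
/-- prescribing the nine neighbour coordinates inside `Λ_τ` -/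
theorem adjust2 (l : T3 → K) (hl : InLam q l) (h0 : l I012 ≠ 0) (v : T3 → K) (hv : InLam q v)
    (S : Finset T3) (hS : ∀ N ∈ S, dd N = 2) :
    ∃ g : SL6 K, g ∈ RJ q ∧ (Mm g.1 *ᵥ l) I012 = l I012 ∧ ∀ N ∈ S, (Mm g.1 *ᵥ l) N = v N := by
  classical
  induction S using Finset.induction_on with
  | empty => exact ⟨1, one_mem _, by rw [Mm_one_mulVec], by simp⟩
  | insert N S hN ih =>
    obtain ⟨g, hgR, hg0, hgS⟩ := ih (fun N' hN' => hS N' (Finset.mem_insert_of_mem hN'))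
    have hdN : dd N = 2 := hS N (Finset.mem_insert_self _ _)
    have hl' : InLam q (Mm g.1 *ᵥ l) := Cfsg.Agent.Lib.Helper7.E6M2C.inLam_RJ q hq hK g hgR l hl
    obtain ⟨g₁, hg₁R, h10, h1N, h1o⟩ := step2 q hq hK (Mm g.1 *ᵥ l) hl'
      (by rw [hg0]; exact h0) N hdN (v N) (fun hlong => long_coord q v hv N hlong)
    have hl'' : InLam q (Mm (g₁ * g).1 *ᵥ l) :=
      Cfsg.Agent.Lib.Helper7.E6M2C.inLam_RJ q hq hK _ (mul_mem hg₁R hgR) l hl
    refine ⟨g₁ * g, mul_mem hg₁R hgR, ?_, ?_⟩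
    · rw [Mm_mul_mulVec, h10, hg0]
    · intro N' hN'
      by_cases e1 : N' = N
      · rw [e1, Mm_mul_mulVec, h1N]
      · have hN'S : N' ∈ S := by
          rcases Finset.mem_insert.mp hN' with h | h
          · exact absurd h e1
          · exact h
        by_cases e2 : N' = tauI N
        · rw [e2, hl'' N, hv N, Mm_mul_mulVec, h1N]
        · rw [Mm_mul_mulVec, h1o N' (hS N' hN') e1 e2, hgS N' hN'S]

/-- moving a shape which is not a multiple of `e_012` -/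
theorem move2 (σ : T3 → K) (hsh : ∀ X, dd X = 2 → σ X = 0) (hne : ∃ X, X ≠ I012 ∧ σ X ≠ 0) :
    ∃ g : SL6 K, g ∈ RJ q ∧ (Mm g.1 *ᵥ σ) I012 = σ I012 ∧
      (∀ X, dd X = 2 → (Mm g.1 *ᵥ σ) X = 0) ∧ Mm g.1 *ᵥ σ ≠ σ := by
  classical
  by_cases h1 : ∃ X, dd X = 1 ∧ σ X ≠ 0
  · obtain ⟨X, hX1, hXσ⟩ := h1
    obtain ⟨p, hpX2, hpX1, hp1, hp2, hpc⟩ := dd_one2 X hX1
    have hr1 : (3 : Fin 6) ≤ Fin.rev p.1.2 := (rev_lt p.1.2).mp hp2
    have hr2 : (3 : Fin 6) ≤ Fin.rev p.1.1 := (rev_lt p.1.1).mp hp1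
    -- the inner factor
    have hinner : ∀ (u : K) (Y : T3),
        (Mm (Matrix.transvection (revp p).1.1 (revp p).1.2 u) *ᵥ σ) Y = σ Y +
          u * (if Fin.rev p.1.2 ∈ Y.1 ∧ Fin.rev p.1.1 ∉ Y.1 then
            ((rsgn (repl Y (Fin.rev p.1.1) (Fin.rev p.1.2)) (Fin.rev p.1.2) (Fin.rev p.1.1) : ℤ) : K)
              * σ (repl Y (Fin.rev p.1.1) (Fin.rev p.1.2)) else 0) := by
      intro u Y
      rw [tv_coord, revp_val]
    have hin012 : ∀ u : K, (Mm (Matrix.transvection (revp p).1.1 (revp p).1.2 u) *ᵥ σ) I012 =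
        σ I012 := by
      intro u
      rw [hinner, if_neg, mul_zero, add_zero]
      rintro ⟨c1, _⟩
      have := (mem_I012 _).mp c1
      omega
    have hinsh : ∀ (u : K) (Y : T3), dd Y = 2 →
        (Mm (Matrix.transvection (revp p).1.1 (revp p).1.2 u) *ᵥ σ) Y = 0 := by
      intro u Y hY
      rw [hinner, hsh Y hY]
      by_cases hc : Fin.rev p.1.2 ∈ Y.1 ∧ Fin.rev p.1.1 ∉ Y.1
      · rw [if_pos hc, hsh _ (by rw [dd_repl_same3 _ _ Y hr2 hr1]; exact hY)]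
        simp
      · rw [if_neg hc]; simp
    obtain ⟨r1, r2, r3⟩ := repl_repl p.1.1 p.1.2 p.2 X ⟨hpX2, hpX1⟩
    have hne1 : ∀ i : Fin 6, i < 3 → ∀ j : Fin 6, 3 ≤ j → j ≠ i := by
      intro i hi j hj h; rw [h] at hj; omega
    have hinX : ∀ u : K, (Mm (Matrix.transvection (revp p).1.1 (revp p).1.2 u) *ᵥ σ) X = σ X := by
      intro u
      rw [hinner, if_neg hpc, mul_zero, add_zero]
    have hinJ : ∀ u : K, (Mm (Matrix.transvection (revp p).1.1 (revp p).1.2 u) *ᵥ σ)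
        (repl X p.1.1 p.1.2) = σ (repl X p.1.1 p.1.2) := by
      intro u
      rw [hinner, if_neg, mul_zero, add_zero]
      rintro ⟨c1, c2⟩
      apply hpc
      rw [mem_repl X p.1.1 p.1.2 ⟨hpX2, hpX1⟩ _ (hne1 _ hp1 _ hr1) (hne1 _ hp2 _ hr1)] at c1
      rw [mem_repl X p.1.1 p.1.2 ⟨hpX2, hpX1⟩ _ (hne1 _ hp1 _ hr2) (hne1 _ hp2 _ hr2)] at c2
      exact ⟨c1, c2⟩
    refine ⟨xs q p 1, xs_mem q p 1, ?_, ?_, ?_⟩
    · unfold xs
      rw [Mm_mul_mulVec, tv_val, tv_val, tv_coord, if_neg, mul_zero, add_zero, hin012]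
      rintro ⟨_, c2⟩
      exact c2 ((mem_I012 p.1.2).mpr hp2)
    · intro Y hY
      unfold xs
      rw [Mm_mul_mulVec, tv_val, tv_val, tv_coord, hinsh _ Y hY]
      by_cases hc : p.1.1 ∈ Y.1 ∧ p.1.2 ∉ Y.1
      · rw [if_pos hc, hinsh _ _ (by rw [dd_repl_same p.1.2 p.1.1 Y hp2 hp1]; exact hY)]
        simp
      · rw [if_neg hc]; simp
    · intro heq
      have := congrFun heq (repl X p.1.1 p.1.2)
      unfold xs at this
      rw [Mm_mul_mulVec, tv_val, tv_val, tv_coord, if_pos ⟨r1, r2⟩, r3, one_mul, hinJ, hinX] at this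
      have h0 : ((rsgn X p.1.1 p.1.2 : ℤ) : K) * σ X = 0 := by
        linear_combination this
      rcases mul_eq_zero.mp h0 with h | h
      · exact rsgn_ne_zero X p.1.1 p.1.2 h
      · exact hXσ h
  · push Not at h1
    have h345 : σ I345 ≠ 0 := by
      obtain ⟨X, hX, hXσ⟩ := hne
      have : X = I345 := dd_other X hX (fun h => hXσ (h1 X h)) (fun h => hXσ (hsh X h))
      rw [← this]; exact hXσ
    have h11 : (1 : K) ^ q = 1 := one_pow q
    refine ⟨xl 0 1, xl_mem q 0 1 h11, ?_, ?_, ?_⟩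
    · show (Mm (tv (lpos 0) 1).1 *ᵥ σ) I012 = σ I012
      rw [tv_val, tv_coord]
      by_cases hc : (lpos 0).1.1 ∈ I012.1 ∧ (lpos 0).1.2 ∉ I012.1
      · rw [if_pos hc, hsh (repl I012 (lpos 0).1.2 (lpos 0).1.1)]
        · simp
        · have := dd_repl_down (lpos 0).1.2 (lpos 0).1.1 I012 ⟨by decide, by decide, hc.1, hc.2⟩
          rw [dd_I012] at this
          omega
      · rw [if_neg hc]; simp
    · intro J hJ
      show (Mm (tv (lpos 0) 1).1 *ᵥ σ) J = 0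
      rw [tv_val, tv_coord, hsh J hJ]
      by_cases hc : (lpos 0).1.1 ∈ J.1 ∧ (lpos 0).1.2 ∉ J.1
      · rw [if_pos hc, h1 (repl J (lpos 0).1.2 (lpos 0).1.1)]
        · simp
        · have := dd_repl_down (lpos 0).1.2 (lpos 0).1.1 J ⟨by decide, by decide, hc.1, hc.2⟩
          omega
      · rw [if_neg hc]; simp
    · intro heq
      have := congrFun heq I034
      change (Mm (tv (lpos 0) 1).1 *ᵥ σ) I034 = σ I034 at this
      rw [tv_val, tv_coord, if_pos (by exact I034_mem), one_mul] at this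
      have e : repl I034 (lpos 0).1.2 (lpos 0).1.1 = I345 := repl_I034
      rw [e] at this
      have h0 : ((rsgn I345 (lpos 0).1.1 (lpos 0).1.2 : ℤ) : K) * σ I345 = 0 := by
        linear_combination this
      rcases mul_eq_zero.mp h0 with h | h
      · exact rsgn_ne_zero _ _ _ h
      · exact h345 h

/-- reaching the coordinate `012` from a long coordinate -/
theorem reach2 : ∀ (m : ℕ) (I : T3), IsLong I → dd I + m = 3 → ∀ l : T3 → K, l I ≠ 0 →
    ∃ g : SL6 K, g ∈ RJ q ∧ (Mm g.1 *ᵥ l) I012 ≠ 0 := by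
  classical
  intro m
  induction m with
  | zero =>
    intro I _ hI l hl
    have : I = I012 := dd_three I (by omega)
    subst this
    exact ⟨1, one_mem _, by rw [Mm_one_mulVec]; exact hl⟩
  | succ m ih =>
    intro I hIl hI l hl
    obtain ⟨i, hi1, hi2, hi3, hJl⟩ := long_step I hIl (by omega)
    have hri : (3 : Fin 6) ≤ Fin.rev i := (rev_lt i).mp hi1
    have hne : i ≠ Fin.rev i := fun h => by rw [← h] at hri; omega
    obtain ⟨r1, r2, r3⟩ := repl_repl i (Fin.rev i) hne I ⟨hi2, hi3⟩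
    have hdJ : dd (repl I i (Fin.rev i)) + m = 3 := by
      have := dd_repl_up i (Fin.rev i) I ⟨hi1, hri, hi2, hi3⟩
      omega
    have h11 : (1 : K) ^ q = 1 := one_pow q
    have hco : (Mm (xl i (1 : K)).1 *ᵥ l) (repl I i (Fin.rev i)) =
        l (repl I i (Fin.rev i)) + 1 * (((rsgn I i (Fin.rev i) : ℤ) : K) * l I) := by
      show (Mm (tv (lpos i) 1).1 *ᵥ l) (repl I i (Fin.rev i)) = _
      rw [tv_val, tv_coord, lpos_val, if_pos ⟨r1, r2⟩, r3]
    by_cases hJ : l (repl I i (Fin.rev i)) = 0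
    · obtain ⟨g, hgR, hg⟩ := ih (repl I i (Fin.rev i)) hJl hdJ (Mm (xl i (1 : K)).1 *ᵥ l) (by
        rw [hco, hJ, zero_add, one_mul]
        exact mul_ne_zero (rsgn_ne_zero _ _ _) hl)
      exact ⟨g * xl i 1, mul_mem hgR (xl_mem q i 1 h11), by rw [Mm_mul_mulVec]; exact hg⟩
    · exact ih (repl I i (Fin.rev i)) hJl hdJ l hJ

end main

end Cfsg.Agent.Lib.Helper6.E6M2SUPPBase
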