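import Mathlib
import Cfsg.Agent.Lib.Helper5.FrobFix
import Cfsg.Agent.Lib.Helper6.E6M2Frob

/-! E6M2 farm (S2341): counting the fixed points of a twisted Frobenius on `X → K`, `|K| = q²`:
`#{v | v (τ x) = eps x * (v x) ^ q} = q ^ |X|` for an involution `τ` of `X` and signs `eps`. -/

set_option autoImplicit false

namespace Cfsg.Agent.Lib.Helper6.E6M2Twist

variable {K : Type*} [Field K] [Fintype K] (q : ℕ) (hq : IsPrimePow q)
  (hK : Fintype.card K = q ^ 2)

variable {X : Type*} [Fintype X] [DecidableEq X] (τ : X → X) (hτ : ∀ x, τ (τ x) = x)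
  (eps : X → ℤ) (heps : ∀ x, eps x * eps x = 1) (hepsτ : ∀ x, eps (τ x) = eps x)
  (hfix : ∀ x, τ x = x → eps x = 1)

include hq hK heps in
theorem twist_twice (x : X) (a : K) :
    ((eps x : ℤ) : K) * (((eps x : ℤ) : K) * a ^ q) ^ q = a := by
  rw [mul_pow, Cfsg.Agent.Lib.Helper6.E6M2Frob.intCast_pow_q q hq hK,
    Cfsg.Agent.Lib.Helper6.E6M2Frob.pow_q_pow_q q hK, ← mul_assoc, ← Int.cast_mul, heps x,
    Int.cast_one, one_mul]

/-- the representatives of the non-trivial orbits -/
noncomputable def Rep (x : X) : Prop := Fintype.equivFin X x < Fintype.equivFin X (τ x)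

noncomputable instance : DecidablePred (Rep τ) := fun _ => Classical.dec _

theorem rep_ne (x : X) (h : Rep τ x) : τ x ≠ x := by
  intro h'
  unfold Rep at h
  rw [h'] at h
  exact lt_irrefl _ h

include hτ in
theorem rep_tau (x : X) (h1 : τ x ≠ x) (h2 : ¬ Rep τ x) : Rep τ (τ x) := by
  unfold Rep at h2 ⊢
  rw [hτ]
  rcases lt_trichotomy (Fintype.equivFin X x) (Fintype.equivFin X (τ x)) with h | h | h
  · exact absurd h h2
  · exact absurd ((Fintype.equivFin X).injective h).symm h1
  · exact h

include hτ in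
theorem not_rep_tau (x : X) (h : Rep τ x) : ¬ Rep τ (τ x) := by
  unfold Rep at h ⊢
  rw [hτ]
  exact lt_asymm h

/-- the parametrisation -/
noncomputable def param (b : {x : X // τ x = x} → {a : K // a ^ q = a})
    (d : {x : X // Rep τ x} → K) (x : X) : K :=
  if h : τ x = x then (b ⟨x, h⟩).1
  else if h2 : Rep τ x then d ⟨x, h2⟩
  else ((eps x : ℤ) : K) * (d ⟨τ x, rep_tau τ hτ x h h2⟩) ^ q

include hq hK heps hepsτ hfix in
theorem param_mem (b : {x : X // τ x = x} → {a : K // a ^ q = a})
    (d : {x : X // Rep τ x} → K) (x : X) :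
    param q τ hτ eps b d (τ x) = ((eps x : ℤ) : K) * param q τ hτ eps b d x ^ q := by
  by_cases h : τ x = x
  · have e1 : param q τ hτ eps b d x = (b ⟨x, h⟩).1 := by
      unfold param; rw [dif_pos h]
    rw [h, e1, (b ⟨x, h⟩).2, hfix x h, Int.cast_one, one_mul]
  · have hτx : τ (τ x) ≠ τ x := fun h' => h (by rw [hτ] at h'; exact h'.symm)
    by_cases h2 : Rep τ x
    · have e1 : param q τ hτ eps b d x = d ⟨x, h2⟩ := by
        unfold param; rw [dif_neg h, dif_pos h2]
      have h3 : ¬ Rep τ (τ x) := not_rep_tau τ hτ x h2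
      have e2 : param q τ hτ eps b d (τ x) =
          ((eps (τ x) : ℤ) : K) * (d ⟨τ (τ x), rep_tau τ hτ (τ x) hτx h3⟩) ^ q := by
        unfold param; rw [dif_neg hτx, dif_neg h3]
      rw [e1, e2, hepsτ]
      congr 3
      exact Subtype.ext (hτ x)
    · have h3 : Rep τ (τ x) := rep_tau τ hτ x h h2
      have e1 : param q τ hτ eps b d x = ((eps x : ℤ) : K) * (d ⟨τ x, h3⟩) ^ q := by
        unfold param; rw [dif_neg h, dif_neg h2]
      have e2 : param q τ hτ eps b d (τ x) = d ⟨τ x, h3⟩ := by
        unfold param; rw [dif_neg hτx, dif_pos h3]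
      rw [e1, e2, twist_twice q hq hK eps heps]

include hq hK hτ heps hepsτ hfix in
/-- the count -/
theorem card_twisted :
    Nat.card {v : X → K // ∀ x, v (τ x) = ((eps x : ℤ) : K) * v x ^ q} = q ^ Fintype.card X := by
  classical
  have hq2 : 2 ≤ q := hq.two_le
  -- the equivalence
  let E : {v : X → K // ∀ x, v (τ x) = ((eps x : ℤ) : K) * v x ^ q} ≃
      ({x : X // τ x = x} → {a : K // a ^ q = a}) × ({x : X // Rep τ x} → K) :=
    { toFun := fun v => (fun x => ⟨v.1 x.1, by
          have := v.2 x.1
          rw [x.2, hfix x.1 x.2, Int.cast_one, one_mul] at this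
          exact this.symm⟩, fun x => v.1 x.1)
      invFun := fun bd => ⟨param q τ hτ eps bd.1 bd.2, param_mem q hq hK τ hτ eps heps hepsτ hfix bd.1 bd.2⟩
      left_inv := by
        intro v
        apply Subtype.ext
        funext x
        show param q τ hτ eps _ _ x = v.1 x
        unfold param
        by_cases h : τ x = x
        · rw [dif_pos h]
        · rw [dif_neg h]
          by_cases h2 : Rep τ x
          · rw [dif_pos h2]
          · rw [dif_neg h2]
            show ((eps x : ℤ) : K) * (v.1 (τ x)) ^ q = v.1 x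
            rw [v.2 x, twist_twice q hq hK eps heps]
      right_inv := by
        rintro ⟨b, d⟩
        refine Prod.ext ?_ ?_
        · funext x
          apply Subtype.ext
          show param q τ hτ eps b d x.1 = (b x).1
          unfold param
          rw [dif_pos x.2]
        · funext x
          show param q τ hτ eps b d x.1 = d x
          unfold param
          rw [dif_neg (rep_ne τ x.1 x.2), dif_pos x.2] }
  rw [Nat.card_congr E, Nat.card_prod, Nat.card_fun, Nat.card_fun,
    Cfsg.Agent.Lib.Helper5.FrobFix.card_fixed hq2 hK, Nat.card_eq_fintype_card (α := K), hK,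
    ← pow_mul, ← pow_add]
  congr 1
  -- `|X| = |Fix| + 2 |Rep|`
  rw [Nat.card_eq_fintype_card, Nat.card_eq_fintype_card, Fintype.card_subtype,
    Fintype.card_subtype]
  have h1 : (Finset.univ.filter (fun x : X => Rep τ x)).card =
      (Finset.univ.filter (fun x : X => τ x ≠ x ∧ ¬ Rep τ x)).card := by
    apply Finset.card_nbij' τ τ
    · intro x hx
      rw [Finset.mem_coe, Finset.mem_filter] at hx ⊢
      exact ⟨Finset.mem_univ _, fun h' => rep_ne τ x hx.2 (by rw [hτ] at h'; exact h'.symm),
        not_rep_tau τ hτ x hx.2⟩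
    · intro x hx
      rw [Finset.mem_coe, Finset.mem_filter] at hx ⊢
      exact ⟨Finset.mem_univ _, rep_tau τ hτ x hx.2.1 hx.2.2⟩
    · intro x _; exact hτ x
    · intro x _; exact hτ x
  have h2 : Fintype.card X = (Finset.univ.filter (fun x : X => τ x = x)).card +
      ((Finset.univ.filter (fun x : X => Rep τ x)).card +
        (Finset.univ.filter (fun x : X => τ x ≠ x ∧ ¬ Rep τ x)).card) := by
    rw [← Finset.card_univ, ← Finset.card_filter_add_card_filter_not (fun x : X => τ x = x)]
    congr 1
    rw [← Finset.card_filter_add_card_filter_not (s := Finset.univ.filter (fun x : X => ¬ τ x = x))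
      (fun x : X => Rep τ x), Finset.filter_filter, Finset.filter_filter]
    congr 2
    ext x
    simp only [Finset.mem_filter, Finset.mem_univ, true_and]
    constructor
    · exact fun h => h.2
    · exact fun h => ⟨rep_ne τ x h, h⟩
  rw [h2, ← h1]
  ring

end Cfsg.Agent.Lib.Helper6.E6M2Twist
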