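import Mathlib
import Cfsg.Agent.Lib.Helper3.E6M2DefsC
import Cfsg.Agent.Lib.Helper7.E6M2LAM
import Cfsg.Agent.Lib.Helper2.E6MCell
import Cfsg.Agent.Lib.Helper6.E6MCELLS
import Cfsg.Agent.Lib.Helper6.E6M2SUPPBase
import Cfsg.Agent.Lib.Helper6.E6M2Twist

/-! E6M2 farm (S2341), layer C2, units CELLORBIT2 and CELLCARD2: the cells `Cell I ∩ Λ_τ`. -/

set_option autoImplicit false

namespace Cfsg.Agent.Lib.Helper6.E6M2CELL

open Cfsg.Agent.Lib.Helper5.E6M Cfsg.Agent.Lib.Helper3.E6M2C Matrix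
open Cfsg.Agent.Lib.Helper6.E6MSUPP Cfsg.Agent.Lib.Helper6.E6M2TORUS
open Cfsg.Agent.Lib.Helper6.E6M2SUPPBase

section gen

variable {K : Type*} [Field K]

/-- a non-zero multiple of a Plücker vector with non-zero `I`-coordinate is in `Cell I` -/
theorem mem_cell_of_smul_pl (C : Matrix (Fin 6) (Fin 3) K) (c' : K) (I : T3)
    (h : (c' • pl C) I ≠ 0) : c' • pl C ∈ Cell I := by
  have hD : (Matrix.diagonal (fun k : Fin 3 => if k = 0 then c' else 1)).det = c' := by
    rw [Matrix.det_diagonal, Fin.prod_univ_three]; simp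
  have e : c' • pl C = pl (C * Matrix.diagonal (fun k : Fin 3 => if k = 0 then c' else 1)) := by
    rw [Cfsg.Agent.Lib.Helper6.E6MCELLS.pl_mul_right, hD]
  rw [e] at h ⊢
  exact Cfsg.Agent.Lib.Helper6.E6MCELLS.mem_cell_of_pl _ I h

/-- the image of a cell element is decomposable -/
theorem Mm_cell (g : SL6 K) (I : T3) (l : T3 → K) (hl : l ∈ Cell I) :
    ∃ (c' : K) (C : Matrix (Fin 6) (Fin 3) K), Mm g.1 *ᵥ l = c' • pl C := by
  obtain ⟨c', A, _, rfl⟩ := hl
  exact ⟨c', g.1 * cellMat I A, by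
    rw [Matrix.mulVec_smul, Cfsg.Agent.Lib.Helper6.E6MMHOM.pl_mul']⟩

/-- the neighbours of `012` in the sense of the unit CELLCARD have two elements below `3` -/
theorem dd_nbr (j k : Fin 3) : dd (Cfsg.Agent.Lib.Helper2.E6MCell.nbr I012 j k) = 2 := by
  unfold dd Cfsg.Agent.Lib.Helper2.E6MCell.nbr
  have h1 : ¬ (I012.compl.emb j < 3) := by
    intro h
    exact Cfsg.Agent.Lib.Helper2.E6MCell.compl_emb_not_mem I012 j ((mem_I012 _).mpr h)
  rw [Finset.filter_insert, if_neg h1]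
  have h2 : (I012.1.erase (I012.emb k)).filter (fun x => x < 3) = I012.1.erase (I012.emb k) := by
    apply Finset.filter_true_of_mem
    intro x hx
    exact (mem_I012 x).mp (Finset.mem_of_mem_erase hx)
  rw [h2, Finset.card_erase_of_mem (Cfsg.Agent.Lib.Helper2.E6MCell.emb_mem I012 k), I012.2]

/-- elements of `Cell I012` are determined by the coordinate `012` and its neighbours -/
theorem cell_ext (l l' : T3 → K) (hl : l ∈ Cell I012) (hl' : l' ∈ Cell I012)
    (h0 : l I012 = l' I012) (hN : ∀ N, dd N = 2 → l N = l' N) : l = l' := by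
  obtain ⟨c, A, hc, rfl⟩ := hl
  obtain ⟨c', A', hc', rfl⟩ := hl'
  have h1 : c = c' := by
    simpa [Cfsg.Agent.Lib.Helper2.E6MCell.cell_coord] using h0
  subst h1
  have h2 : A = A' := by
    ext j k
    have h2 := hN _ (dd_nbr j k)
    simp only [Pi.smul_apply, smul_eq_mul, Cfsg.Agent.Lib.Helper2.E6MCell.neighbour] at h2
    have h3 := mul_left_cancel₀ hc h2
    exact mul_left_cancel₀ (Cfsg.Agent.Lib.Helper2.E6MCell.nbrSgn_ne_zero I012 j k) h3
  rw [h2]

end gen

section main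

variable {K : Type*} [Field K] [Fintype K] [DecidableEq K] (q : ℕ) (hq : IsPrimePow q)
  (hK : Fintype.card K = q ^ 2)

include hq hK in
/-- `cell_orbit2` for `I = {0,1,2}` -/
theorem cell_orbit012 (l : T3 → K) (hl : l ∈ Cell I012) (hl' : InLam q l) :
    ∃ (g : SL6 K) (c : K), g ∈ RJ q ∧ c ^ q = c ∧ c ≠ 0 ∧ l = Mm g.1 *ᵥ Pi.single I012 c := by
  classical
  have hc0 : l I012 ≠ 0 := by
    obtain ⟨c', A, hc', rfl⟩ := hl
    simpa [Cfsg.Agent.Lib.Helper2.E6MCell.cell_coord] using hc'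
  have hcq : l I012 ^ q = l I012 := long_coord q l hl' I012 long_I012
  have hm : InLam q (Pi.single I012 (l I012)) := Cfsg.Agent.Lib.Helper7.E6M2C.inLam_single q hq I012 long_I012 _ hcq
  obtain ⟨g, hgR, hg0, hgS⟩ := adjust2 q hq hK (Pi.single I012 (l I012)) hm
    (by rw [Pi.single_eq_same]; exact hc0) l hl'
    (Finset.univ.filter (fun N : T3 => dd N = 2)) (fun N hN => (Finset.mem_filter.mp hN).2)
  rw [Pi.single_eq_same] at hg0
  refine ⟨g, l I012, hgR, hcq, hc0, ?_⟩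
  have hmem : Mm g.1 *ᵥ Pi.single I012 (l I012) ∈ Cell I012 := by
    rw [Cfsg.Agent.Lib.Helper6.E6MMHOM.Mm_mulVec_single]
    apply mem_cell_of_smul_pl
    rw [← Cfsg.Agent.Lib.Helper6.E6MMHOM.Mm_mulVec_single, hg0]
    exact hc0
  exact cell_ext l _ hl hmem hg0.symm
    (fun N hN => (hgS N (Finset.mem_filter.mpr ⟨Finset.mem_univ _, hN⟩)).symm)

include hq hK in
/-- unit CELLORBIT2 -/
theorem cell_orbit2 (I : T3) (hI : IsLong I) (l : T3 → K) (hl : l ∈ Cell I) (hl' : InLam q l) :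
    ∃ (g : SL6 K) (c : K), g ∈ RJ q ∧ c ^ q = c ∧ c ≠ 0 ∧ l = Mm g.1 *ᵥ Pi.single I012 c := by
  classical
  have hlI : l I ≠ 0 := by
    obtain ⟨c', A, hc', rfl⟩ := hl
    simpa [Cfsg.Agent.Lib.Helper2.E6MCell.cell_coord] using hc'
  obtain ⟨g₀, hg₀R, hg₀⟩ := reach2 q (3 - dd I) I hI (by have := dd_le I; omega) l hlI
  have hl₀ : InLam q (Mm g₀.1 *ᵥ l) := Cfsg.Agent.Lib.Helper7.E6M2C.inLam_RJ q hq hK g₀ hg₀R l hl'
  have hmem : Mm g₀.1 *ᵥ l ∈ Cell I012 := by
    obtain ⟨c', C, hC⟩ := Mm_cell g₀ I l hl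
    rw [hC] at hg₀ ⊢
    exact mem_cell_of_smul_pl C c' I012 hg₀
  obtain ⟨g₁, c, hg₁R, hcq, hc0, hg₁⟩ := cell_orbit012 q hq hK _ hmem hl₀
  refine ⟨g₀⁻¹ * g₁, c, mul_mem (inv_mem hg₀R) hg₁R, hcq, hc0, ?_⟩
  rw [Mm_mul_mulVec, ← hg₁, ← Mm_mul_mulVec, inv_mul_cancel, Mm_one_mulVec]

end main

/-! ### tables -/

theorem tauI_tauI : ∀ I : T3, tauI (tauI I) = I := by decide +kernel

theorem epsI_sq : ∀ I : T3, epsI I * epsI I = 1 := by decide +kernel

theorem epsI_tauI : ∀ I : T3, epsI (tauI I) = epsI I := by decide +kernel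

theorem dd_tauI : ∀ I : T3, dd I = 2 → dd (tauI I) = 2 := by decide +kernel

set_option maxRecDepth 100000 in
theorem rsgn_swap : ∀ (p : IJ) (J : T3), (p.1.1 ∈ J.1 ∧ p.1.2 ∉ J.1) →
    rsgn J p.1.2 p.1.1 = rsgn (repl J p.1.2 p.1.1) p.1.1 p.1.2 := by decide +kernel

theorem dd_tauI_iff (I : T3) : dd (tauI I) = 2 ↔ dd I = 2 :=
  ⟨fun h => by have := dd_tauI _ h; rwa [tauI_tauI] at this, dd_tauI I⟩

section weyl

variable {K : Type*} [Field K]

/-- the swapped position -/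
def swp (p : IJ) : IJ := ⟨(p.1.2, p.1.1), fun h => p.2 h.symm⟩

/-- the monomial element `x_p(1) x_{-p}(-1) x_p(1)` -/
def wel (p : IJ) : SL6 K := tv p 1 * tv (swp p) (-1) * tv p 1

theorem wel_coord (p : IJ) (l : T3 → K) (J : T3) (h1 : p.1.1 ∈ J.1) (h2 : p.1.2 ∉ J.1) :
    (Mm (wel p : SL6 K).1 *ᵥ l) J =
      ((rsgn (repl J p.1.2 p.1.1) p.1.1 p.1.2 : ℤ) : K) * l (repl J p.1.2 p.1.1) := by
  obtain ⟨r1, r2, r3⟩ := repl_repl p.1.2 p.1.1 (fun h => p.2 h.symm) J ⟨h1, h2⟩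
  set J' := repl J p.1.2 p.1.1 with hJ'
  set ε : K := ((rsgn J' p.1.1 p.1.2 : ℤ) : K) with hε
  have hεε : ε * ε = 1 := rsgn_mul_self J' p.1.1 p.1.2
  have hsw : ((rsgn J p.1.2 p.1.1 : ℤ) : K) = ε := by
    rw [hε, hJ', rsgn_swap p J ⟨h1, h2⟩]
  have hs1 : (swp p).1.1 = p.1.2 := rfl
  have hs2 : (swp p).1.2 = p.1.1 := rfl
  have houtJ : ∀ a : T3 → K, (Mm (Matrix.transvection p.1.1 p.1.2 1) *ᵥ a) J =
      a J + 1 * (ε * a J') := by
    intro a
    rw [tv_coord p 1 a J, if_pos ⟨h1, h2⟩]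
  have houtJ' : ∀ a : T3 → K, (Mm (Matrix.transvection p.1.1 p.1.2 1) *ᵥ a) J' = a J' := by
    intro a
    rw [tv_coord p 1 a J', if_neg (fun h => h.2 r1), mul_zero, add_zero]
  have hmidJ : ∀ a : T3 → K,
      (Mm (Matrix.transvection (swp p).1.1 (swp p).1.2 (-1)) *ᵥ a) J = a J := by
    intro a
    rw [tv_coord (swp p) (-1) a J, hs1, hs2, if_neg (fun h => h2 h.1), mul_zero, add_zero]
  have hmidJ' : ∀ a : T3 → K,
      (Mm (Matrix.transvection (swp p).1.1 (swp p).1.2 (-1)) *ᵥ a) J' =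
        a J' + (-1) * (ε * a J) := by
    intro a
    rw [tv_coord (swp p) (-1) a J', hs1, hs2, if_pos ⟨r1, r2⟩, r3, hsw]
  unfold wel
  rw [Mm_mul_mulVec, Mm_mul_mulVec, tv_val, tv_val, houtJ, hmidJ, hmidJ', houtJ, houtJ']
  linear_combination (-(l J) - ε * l J') * hεε

end weyl

section card

variable {K : Type*} [Field K] [Fintype K] [DecidableEq K] (q : ℕ) (hq : IsPrimePow q)
  (hK : Fintype.card K = q ^ 2)

include hq hK in
theorem wel_mem (i : Fin 6) : (wel (lpos i) : SL6 K) ∈ RJ q := by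
  have h1 : (1 : K) ^ q = 1 := one_pow q
  have hm1 : (-1 : K) ^ q = -1 := by
    rw [Cfsg.Agent.Lib.Helper6.E6M2Frob.neg_pow_q q hq hK, h1]
  have hs : swp (lpos i) = lpos (Fin.rev i) := by
    apply Subtype.ext
    show (Fin.rev i, i) = (Fin.rev i, Fin.rev (Fin.rev i))
    rw [Fin.rev_rev]
  unfold wel
  rw [hs]
  exact mul_mem (mul_mem (xl_mem q i 1 h1) (xl_mem q (Fin.rev i) (-1) hm1)) (xl_mem q i 1 h1)

include hq hK in
/-- transport of cells by a group element -/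
theorem card_cell_le (I I' : T3) (g : SL6 K) (hg : g ∈ RJ q)
    (h : ∀ l : T3 → K, l I ≠ 0 → (Mm g.1 *ᵥ l) I' ≠ 0) :
    Nat.card {l : T3 → K // l ∈ Cell I ∧ InLam q l} ≤
      Nat.card {l : T3 → K // l ∈ Cell I' ∧ InLam q l} := by
  classical
  apply Nat.card_le_card_of_injective
    (fun l : {l : T3 → K // l ∈ Cell I ∧ InLam q l} =>
      (⟨Mm g.1 *ᵥ l.1, by
        refine ⟨?_, Cfsg.Agent.Lib.Helper7.E6M2C.inLam_RJ q hq hK g hg l.1 l.2.2⟩
        have hlI : l.1 I ≠ 0 := by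
          obtain ⟨c', A, hc', hl⟩ := l.2.1
          rw [hl]
          simpa [Cfsg.Agent.Lib.Helper2.E6MCell.cell_coord] using hc'
        obtain ⟨c', C, hC⟩ := Mm_cell g I l.1 l.2.1
        have := h l.1 hlI
        rw [hC] at this ⊢
        exact mem_cell_of_smul_pl C c' I' this⟩ :
        {l : T3 → K // l ∈ Cell I' ∧ InLam q l}))
  intro l l' hll
  apply Subtype.ext
  have h1 : Mm g.1 *ᵥ l.1 = Mm g.1 *ᵥ l'.1 := congrArg Subtype.val hll
  have h2 := congrArg (fun x => Mm (g⁻¹).1 *ᵥ x) h1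
  simp only [← Mm_mul_mulVec, inv_mul_cancel, Mm_one_mulVec] at h2
  exact h2

include hq hK in
/-- all the cells of long coordinates have the same number of elements -/
theorem card_cell_eq : ∀ (m : ℕ) (I : T3), IsLong I → dd I + m = 3 →
    Nat.card {l : T3 → K // l ∈ Cell I ∧ InLam q l} =
      Nat.card {l : T3 → K // l ∈ Cell I012 ∧ InLam q l} := by
  intro m
  induction m with
  | zero =>
    intro I _ hI
    have : I = I012 := dd_three I (by omega)
    rw [this]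
  | succ m ih =>
    intro I hIl hI
    obtain ⟨i, hi1, hi2, hi3, hJl⟩ := long_step I hIl (by omega)
    have hri : (3 : Fin 6) ≤ Fin.rev i := (rev_lt i).mp hi1
    have hne : i ≠ Fin.rev i := fun h => by rw [← h] at hri; omega
    obtain ⟨r1, r2, r3⟩ := repl_repl i (Fin.rev i) hne I ⟨hi2, hi3⟩
    have hdJ : dd (repl I i (Fin.rev i)) + m = 3 := by
      have := dd_repl_up i (Fin.rev i) I ⟨hi1, hri, hi2, hi3⟩
      omega
    rw [← ih (repl I i (Fin.rev i)) hJl hdJ]
    apply le_antisymm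
    · apply card_cell_le q hq hK I (repl I i (Fin.rev i)) (wel (lpos i)) (wel_mem q hq hK i)
      intro l hl
      rw [wel_coord (lpos i) l (repl I i (Fin.rev i)) r1 r2, lpos_val]
      show ((rsgn (repl (repl I i (Fin.rev i)) (Fin.rev i) i) i (Fin.rev i) : ℤ) : K) *
        l (repl (repl I i (Fin.rev i)) (Fin.rev i) i) ≠ 0
      rw [r3]
      exact mul_ne_zero (rsgn_ne_zero _ _ _) hl
    · apply card_cell_le q hq hK (repl I i (Fin.rev i)) I (wel (lpos (Fin.rev i)))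
        (wel_mem q hq hK (Fin.rev i))
      intro l hl
      have e1 : (lpos (Fin.rev i)).1.1 = Fin.rev i := rfl
      have e2 : (lpos (Fin.rev i)).1.2 = i := by
        show Fin.rev (Fin.rev i) = i
        exact Fin.rev_rev i
      rw [wel_coord (lpos (Fin.rev i)) l I (by rw [e1]; exact hi2) (by rw [e2]; exact hi3), e1, e2]
      exact mul_ne_zero (rsgn_ne_zero _ _ _) hl

end card

section card2

variable {K : Type*} [Field K] [Fintype K] [DecidableEq K] (q : ℕ) (hq : IsPrimePow q)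
  (hK : Fintype.card K = q ^ 2)

include hq hK in
theorem card_fqx : Nat.card {a : K // a ^ q = a ∧ a ≠ 0} = q - 1 := by
  classical
  have hq2 : 2 ≤ q := hq.two_le
  have h1 := Cfsg.Agent.Lib.Helper5.FrobFix.card_fixed hq2 hK
  rw [Nat.card_eq_fintype_card, Fintype.card_subtype] at h1 ⊢
  have h2 : Finset.univ.filter (fun a : K => a ^ q = a ∧ a ≠ 0) =
      (Finset.univ.filter (fun a : K => a ^ q = a)).erase 0 := by
    ext a
    simp only [Finset.mem_filter, Finset.mem_univ, true_and, Finset.mem_erase]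
    tauto
  rw [h2, Finset.card_erase_of_mem, h1]
  rw [Finset.mem_filter]
  exact ⟨Finset.mem_univ _, zero_pow (by omega)⟩

include hq hK in
theorem card_cell012 :
    Nat.card {l : T3 → K // l ∈ Cell I012 ∧ InLam q l} = (q - 1) * q ^ 9 := by
  classical
  have hq2 : 2 ≤ q := hq.two_le
  have hW : Nat.card {v : {N : T3 // dd N = 2} → K // ∀ x : {N : T3 // dd N = 2},
      v (⟨tauI x.1, dd_tauI x.1 x.2⟩ : {N : T3 // dd N = 2}) =
        ((epsI x.1 : ℤ) : K) * v x ^ q} = q ^ 9 := by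
    have := Cfsg.Agent.Lib.Helper6.E6M2Twist.card_twisted (K := K) q hq hK
      (X := {N : T3 // dd N = 2})
      (fun x => (⟨tauI x.1, dd_tauI x.1 x.2⟩ : {N : T3 // dd N = 2}))
      (fun x => Subtype.ext (tauI_tauI x.1)) (fun x => epsI x.1) (fun x => epsI_sq x.1)
      (fun x => epsI_tauI x.1) (fun x hx => epsI_long x.1 (congrArg Subtype.val hx))
    rw [this, card_nb]
  rw [← hW, ← card_fqx q hq hK, ← Nat.card_prod]
  apply Nat.card_eq_of_bijective
    (fun l : {l : T3 → K // l ∈ Cell I012 ∧ InLam q l} =>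
      ((⟨l.1 I012, long_coord q l.1 l.2.2 I012 long_I012, by
          obtain ⟨c', A, hc', hl⟩ := l.2.1
          rw [hl]
          simpa [Cfsg.Agent.Lib.Helper2.E6MCell.cell_coord] using hc'⟩ :
          {a : K // a ^ q = a ∧ a ≠ 0}),
        (⟨fun N => l.1 N.1, fun x => l.2.2 x.1⟩ :
          {v : {N : T3 // dd N = 2} → K // ∀ x : {N : T3 // dd N = 2},
            v (⟨tauI x.1, dd_tauI x.1 x.2⟩ : {N : T3 // dd N = 2}) =
              ((epsI x.1 : ℤ) : K) * v x ^ q})))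
  constructor
  · intro l l' h
    apply Subtype.ext
    have h1 := congrArg (fun x => x.1.1) h
    have h2 := congrArg (fun x => x.2.1) h
    exact cell_ext l.1 l'.1 l.2.1 l'.2.1 h1 (fun N hN => congrFun h2 ⟨N, hN⟩)
  · rintro ⟨a, v⟩
    set vf : T3 → K := fun I => if h : dd I = 2 then v.1 ⟨I, h⟩ else 0 with hvf
    have hvL : InLam q vf := by
      intro I
      by_cases h : dd I = 2
      · have h' : dd (tauI I) = 2 := dd_tauI I h
        rw [hvf]
        simp only [dif_pos h, dif_pos h']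
        exact v.2 ⟨I, h⟩
      · have h' : ¬ dd (tauI I) = 2 := fun hh => h ((dd_tauI_iff I).mp hh)
        rw [hvf]
        simp only [dif_neg h, dif_neg h']
        rw [zero_pow (by omega), mul_zero]
    have hm : InLam q (Pi.single I012 a.1) := Cfsg.Agent.Lib.Helper7.E6M2C.inLam_single q hq I012 long_I012 _ a.2.1
    obtain ⟨g, hgR, hg0, hgS⟩ := adjust2 q hq hK (Pi.single I012 a.1) hm
      (by rw [Pi.single_eq_same]; exact a.2.2) vf hvL
      (Finset.univ.filter (fun N : T3 => dd N = 2)) (fun N hN => (Finset.mem_filter.mp hN).2)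
    rw [Pi.single_eq_same] at hg0
    have hmem : Mm g.1 *ᵥ Pi.single I012 a.1 ∈ Cell I012 := by
      rw [Cfsg.Agent.Lib.Helper6.E6MMHOM.Mm_mulVec_single]
      apply mem_cell_of_smul_pl
      rw [← Cfsg.Agent.Lib.Helper6.E6MMHOM.Mm_mulVec_single, hg0]
      exact a.2.2
    refine ⟨⟨Mm g.1 *ᵥ Pi.single I012 a.1, hmem, Cfsg.Agent.Lib.Helper7.E6M2C.inLam_RJ q hq hK g hgR _ hm⟩, ?_⟩
    refine Prod.ext ?_ ?_
    · apply Subtype.ext
      exact hg0
    · apply Subtype.ext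
      funext N
      show (Mm g.1 *ᵥ Pi.single I012 a.1) N.1 = v.1 N
      rw [hgS N.1 (Finset.mem_filter.mpr ⟨Finset.mem_univ _, N.2⟩), hvf]
      simp only [dif_pos N.2]

include hq hK in
/-- unit CELLCARD2 -/
theorem cell_card2 (I : T3) (hI : IsLong I) :
    Nat.card {l : T3 → K // l ∈ Cell I ∧ InLam q l} = (q - 1) * q ^ 9 := by
  rw [card_cell_eq q hq hK (3 - dd I) I hI (by have := dd_le I; omega), card_cell012 q hq hK]

end card2

section lamiff

variable {K : Type*} [Field K] [Fintype K] [DecidableEq K] (q : ℕ) (hq : IsPrimePow q)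
  (hK : Fintype.card K = q ^ 2)

include hq hK in
/-- a cell element whose coordinate `012` and nine neighbour coordinates are `τ`-compatible lies in
`Λ_τ` (the "hard direction" of the hermitian parametrisation, for free from `adjust2`) -/
theorem inLam_of_cell012 (l : T3 → K) (hl : l ∈ Cell I012) (h0 : l I012 ^ q = l I012)
    (hN : ∀ N : T3, dd N = 2 → l (tauI N) = ((epsI N : ℤ) : K) * l N ^ q) : InLam q l := by
  classical
  have hq2 : 2 ≤ q := hq.two_le
  have hc0 : l I012 ≠ 0 := by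
    obtain ⟨c', A, hc', rfl⟩ := hl
    simpa [Cfsg.Agent.Lib.Helper2.E6MCell.cell_coord] using hc'
  set vf : T3 → K := fun I => if dd I = 2 then l I else 0 with hvf
  have hvL : InLam q vf := by
    intro I
    by_cases h : dd I = 2
    · have h' : dd (tauI I) = 2 := dd_tauI I h
      rw [hvf]
      simp only [if_pos h, if_pos h']
      exact hN I h
    · have h' : ¬ dd (tauI I) = 2 := fun hh => h ((dd_tauI_iff I).mp hh)
      rw [hvf]
      simp only [if_neg h, if_neg h']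
      rw [zero_pow (by omega), mul_zero]
  have hm : InLam q (Pi.single I012 (l I012)) := Cfsg.Agent.Lib.Helper7.E6M2C.inLam_single q hq I012 long_I012 _ h0
  obtain ⟨g, hgR, hg0, hgS⟩ := adjust2 q hq hK (Pi.single I012 (l I012)) hm
    (by rw [Pi.single_eq_same]; exact hc0) vf hvL
    (Finset.univ.filter (fun N : T3 => dd N = 2)) (fun N hN => (Finset.mem_filter.mp hN).2)
  rw [Pi.single_eq_same] at hg0
  have hmem : Mm g.1 *ᵥ Pi.single I012 (l I012) ∈ Cell I012 := by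
    rw [Cfsg.Agent.Lib.Helper6.E6MMHOM.Mm_mulVec_single]
    apply mem_cell_of_smul_pl
    rw [← Cfsg.Agent.Lib.Helper6.E6MMHOM.Mm_mulVec_single, hg0]
    exact hc0
  have heq : l = Mm g.1 *ᵥ Pi.single I012 (l I012) :=
    cell_ext l _ hl hmem hg0.symm (fun N hN' => by
      rw [hgS N (Finset.mem_filter.mpr ⟨Finset.mem_univ _, hN'⟩), hvf]
      simp only [if_pos hN'])
  rw [heq]
  exact Cfsg.Agent.Lib.Helper7.E6M2C.inLam_RJ q hq hK g hgR _ hm

end lamiff

end Cfsg.Agent.Lib.Helper6.E6M2CELL
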