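import Mathlib
import Cfsg.Agent.Lib.Helper3.E6M2DefsC
import Cfsg.Agent.Lib.Helper7.E6M2LAM
import Cfsg.Agent.Lib.Helper2.E6MCell
import Cfsg.Agent.Lib.Helper6.E6M2SUPPBase
import Cfsg.Agent.Lib.Helper6.E6M2CELL

/-! E6M2 farm (S2341), layer C2: `adjust2` around an arbitrary long coordinate `I`, and the hard
direction of the hermitian parametrisation of `Cell I ∩ Λ_τ`. -/

set_option autoImplicit false

namespace Cfsg.Agent.Lib.Helper6.E6M2ADJ

open Cfsg.Agent.Lib.Helper5.E6M Cfsg.Agent.Lib.Helper3.E6M2C Matrix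
open Cfsg.Agent.Lib.Helper6.E6MSUPP Cfsg.Agent.Lib.Helper6.E6M2TORUS
open Cfsg.Agent.Lib.Helper6.E6M2SUPPBase Cfsg.Agent.Lib.Helper6.E6M2CELL

/-- the number of elements of `X` in `I` -/
def ddI (I X : T3) : ℕ := (X.1.filter (fun x => x ∈ I.1)).card

/-! ### tables -/

set_option maxRecDepth 100000 in
theorem ddI_three : ∀ I K : T3, ddI I K = 3 → K = I := by decide +kernel

set_option maxRecDepth 100000 in
theorem ddI_two : ∀ I N : T3, ddI I N = 2 →
    ∃ p : IJ, p.1.1 ∉ I.1 ∧ p.1.2 ∈ I.1 ∧ p.1.1 ∈ N.1 ∧ p.1.2 ∉ N.1 := by decide +kernel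

set_option maxRecDepth 100000 in
theorem ddI_repl_up : ∀ (I : T3) (i j : Fin 6) (J : T3), (i ∈ I.1 ∧ j ∉ I.1 ∧ j ∈ J.1 ∧ i ∉ J.1) →
    ddI I (repl J i j) = ddI I J + 1 := by decide +kernel

set_option maxRecDepth 100000 in
theorem tau_nbrI : ∀ I : T3, IsLong I → ∀ p : IJ, (p.1.1 ∉ I.1 ∧ p.1.2 ∈ I.1) →
    tauI (repl I p.1.1 p.1.2) = repl I (Fin.rev p.1.2) (Fin.rev p.1.1) := by decide +kernel

set_option maxRecDepth 100000 in
theorem long_nbrI : ∀ I : T3, IsLong I → ∀ p : IJ, (p.1.1 ∉ I.1 ∧ p.1.2 ∈ I.1) →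
    (IsLong (repl I p.1.1 p.1.2) ↔ p.1.2 = Fin.rev p.1.1) := by decide +kernel

theorem rev_memI : ∀ I : T3, IsLong I → ∀ x : Fin 6, (x ∈ I.1 ↔ Fin.rev x ∉ I.1) := by
  decide +kernel

set_option maxRecDepth 100000 in
theorem ddI_tauI : ∀ I : T3, IsLong I → ∀ N : T3, ddI I N = 2 → ddI I (tauI N) = 2 := by
  decide +kernel

theorem ddI_tauI_iff (I : T3) (hI : IsLong I) (N : T3) : ddI I (tauI N) = 2 ↔ ddI I N = 2 :=
  ⟨fun h => by have := ddI_tauI I hI _ h; rwa [tauI_tauI] at this, ddI_tauI I hI N⟩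

/-- `ddI`-2 sets are determined by the position of the root element moving them to `I` -/
theorem nbr_uniqI (I : T3) (p' : IJ) (h1 : p'.1.1 ∉ I.1) (h2 : p'.1.2 ∈ I.1) (N' : T3)
    (hd : ddI I N' = 2) (c1 : p'.1.1 ∈ N'.1) (c2 : p'.1.2 ∉ N'.1) :
    repl N' p'.1.2 p'.1.1 = I ∧ N' = repl I p'.1.1 p'.1.2 := by
  have hr : repl N' p'.1.2 p'.1.1 = I := by
    apply ddI_three
    have := ddI_repl_up I p'.1.2 p'.1.1 N' ⟨h2, h1, c1, c2⟩
    omega
  refine ⟨hr, ?_⟩
  have e := (repl_repl p'.1.2 p'.1.1 (fun h => p'.2 h.symm) N' ⟨c1, c2⟩).2.2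
  rw [hr] at e
  exact e.symm

section gen

variable {K : Type*} [Field K]

/-- the neighbours of `I` in the sense of the unit CELLCARD have two elements in `I` -/
theorem ddI_nbr (I : T3) (j k : Fin 3) :
    ddI I (Cfsg.Agent.Lib.Helper2.E6MCell.nbr I j k) = 2 := by
  unfold ddI Cfsg.Agent.Lib.Helper2.E6MCell.nbr
  have h1 : ¬ (I.compl.emb j ∈ I.1) := Cfsg.Agent.Lib.Helper2.E6MCell.compl_emb_not_mem I j
  rw [Finset.filter_insert, if_neg h1]
  have h2 : (I.1.erase (I.emb k)).filter (fun x => x ∈ I.1) = I.1.erase (I.emb k) := by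
    apply Finset.filter_true_of_mem
    intro x hx
    exact Finset.mem_of_mem_erase hx
  rw [h2, Finset.card_erase_of_mem (Cfsg.Agent.Lib.Helper2.E6MCell.emb_mem I k), I.2]

/-- elements of `Cell I` are determined by the coordinate `I` and its neighbours -/
theorem cell_extI (I : T3) (l l' : T3 → K) (hl : l ∈ Cell I) (hl' : l' ∈ Cell I)
    (h0 : l I = l' I) (hN : ∀ N, ddI I N = 2 → l N = l' N) : l = l' := by
  obtain ⟨c, A, hc, rfl⟩ := hl
  obtain ⟨c', A', hc', rfl⟩ := hl'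
  have h1 : c = c' := by
    simpa [Cfsg.Agent.Lib.Helper2.E6MCell.cell_coord] using h0
  subst h1
  have h2 : A = A' := by
    ext j k
    have h2 := hN _ (ddI_nbr I j k)
    simp only [Pi.smul_apply, smul_eq_mul, Cfsg.Agent.Lib.Helper2.E6MCell.neighbour] at h2
    have h3 := mul_left_cancel₀ hc h2
    exact mul_left_cancel₀ (Cfsg.Agent.Lib.Helper2.E6MCell.nbrSgn_ne_zero I j k) h3
  rw [h2]

end gen

section main

variable {K : Type*} [Field K] [Fintype K] [DecidableEq K] (q : ℕ) (hq : IsPrimePow q)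
  (hK : Fintype.card K = q ^ 2)

include hq hK in
theorem step2I (I : T3) (hI : IsLong I) (l : T3 → K) (hl : InLam q l) (h0 : l I ≠ 0) (N : T3)
    (hN : ddI I N = 2) (w : K) (hw : IsLong N → w ^ q = w) :
    ∃ g : SL6 K, g ∈ RJ q ∧ (Mm g.1 *ᵥ l) I = l I ∧ (Mm g.1 *ᵥ l) N = w ∧
      ∀ N' : T3, ddI I N' = 2 → N' ≠ N → N' ≠ tauI N → (Mm g.1 *ᵥ l) N' = l N' := by
  obtain ⟨p, hp1, hp2, hpN1, hpN2⟩ := ddI_two I N hN
  obtain ⟨hNrepl, hNeq⟩ := nbr_uniqI I p hp1 hp2 N hN hpN1 hpN2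
  set ε : K := ((rsgn I p.1.1 p.1.2 : ℤ) : K) with hε
  have hεε : ε * ε = 1 := rsgn_mul_self I p.1.1 p.1.2
  by_cases hlong : IsLong N
  · -- a long root element
    have hpl : p.1.2 = Fin.rev p.1.1 := (long_nbrI I hI p ⟨hp1, hp2⟩).mp (hNeq ▸ hlong)
    have hlp : lpos p.1.1 = p := by
      apply Subtype.ext
      apply Prod.ext
      · rfl
      · exact hpl.symm
    have htq : (ε * (w - l N) / l I) ^ q = ε * (w - l N) / l I := by
      rw [div_pow, mul_pow, Cfsg.Agent.Lib.Helper6.E6M2Frob.sub_pow_q q hq hK, hw hlong,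
        long_coord q l hl N hlong, long_coord q l hl I hI, hε,
        Cfsg.Agent.Lib.Helper6.E6M2Frob.intCast_pow_q q hq hK]
    refine ⟨xl p.1.1 (ε * (w - l N) / l I), xl_mem q _ _ htq, ?_, ?_, ?_⟩
    · show (Mm (tv (lpos p.1.1) _).1 *ᵥ l) I = l I
      rw [hlp, tv_val, tv_coord, if_neg (fun h => hp1 h.1), mul_zero, add_zero]
    · show (Mm (tv (lpos p.1.1) _).1 *ᵥ l) N = w
      rw [hlp, tv_val, tv_coord, if_pos ⟨hpN1, hpN2⟩, hNrepl]
      show l N + ε * (w - l N) / l I * (ε * l I) = w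
      field_simp
      linear_combination (w - l N) * hεε
    · intro N' hd hne _
      show (Mm (tv (lpos p.1.1) _).1 *ᵥ l) N' = l N'
      rw [hlp, tv_val, tv_coord, if_neg, mul_zero, add_zero]
      rintro ⟨c1, c2⟩
      exact hne ((nbr_uniqI I p hp1 hp2 N' hd c1 c2).2.trans hNeq.symm)
  · -- a short root element
    have hr1 : Fin.rev p.1.2 ∉ I.1 := (rev_memI I hI p.1.2).mp hp2
    have hr2 : Fin.rev p.1.1 ∈ I.1 := by
      rw [rev_memI I hI (Fin.rev p.1.1), Fin.rev_rev]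
      exact hp1
    have htau : tauI N = repl I (Fin.rev p.1.2) (Fin.rev p.1.1) := by
      rw [hNeq]; exact tau_nbrI I hI p ⟨hp1, hp2⟩
    -- the inner factor
    have hinner : ∀ (u : K) (X : T3), (X = I ∨ (ddI I X = 2 ∧ X ≠ tauI N)) →
        (Mm (Matrix.transvection (revp p).1.1 (revp p).1.2 u) *ᵥ l) X = l X := by
      intro u X hX
      rw [tv_coord, if_neg, mul_zero, add_zero]
      rintro ⟨c1, c2⟩
      have c1' : Fin.rev p.1.2 ∈ X.1 := c1
      have c2' : Fin.rev p.1.1 ∉ X.1 := c2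
      rcases hX with rfl | ⟨hd, hne⟩
      · exact hr1 c1'
      · apply hne
        rw [htau]
        exact (nbr_uniqI I (revp p) hr1 hr2 X hd c1' c2').2
    have hNne : N ≠ tauI N := fun h => hlong h.symm
    refine ⟨xs q p (ε * (w - l N) / l I), xs_mem q p _, ?_, ?_, ?_⟩
    · unfold xs
      rw [Mm_mul_mulVec, tv_val, tv_val, tv_coord, if_neg (fun h => hp1 h.1), mul_zero,
        add_zero, hinner _ I (Or.inl rfl)]
    · unfold xs
      rw [Mm_mul_mulVec, tv_val, tv_val, tv_coord, if_pos ⟨hpN1, hpN2⟩, hNrepl,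
        hinner _ I (Or.inl rfl), hinner _ N (Or.inr ⟨hN, hNne⟩)]
      show l N + ε * (w - l N) / l I * (ε * l I) = w
      field_simp
      linear_combination (w - l N) * hεε
    · intro N' hd hne hne'
      unfold xs
      rw [Mm_mul_mulVec, tv_val, tv_val, tv_coord, if_neg, mul_zero, add_zero,
        hinner _ N' (Or.inr ⟨hd, hne'⟩)]
      rintro ⟨c1, c2⟩
      exact hne ((nbr_uniqI I p hp1 hp2 N' hd c1 c2).2.trans hNeq.symm)

include hq hK in
/-- prescribing the nine neighbour coordinates of a long `I` inside `Λ_τ` -/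
theorem adjust2I (I : T3) (hI : IsLong I) (l : T3 → K) (hl : InLam q l) (h0 : l I ≠ 0)
    (v : T3 → K) (hv : InLam q v) (S : Finset T3) (hS : ∀ N ∈ S, ddI I N = 2) :
    ∃ g : SL6 K, g ∈ RJ q ∧ (Mm g.1 *ᵥ l) I = l I ∧ ∀ N ∈ S, (Mm g.1 *ᵥ l) N = v N := by
  classical
  induction S using Finset.induction_on with
  | empty => exact ⟨1, one_mem _, by rw [Mm_one_mulVec], by simp⟩
  | insert N S hN ih =>
    obtain ⟨g, hgR, hg0, hgS⟩ := ih (fun N' hN' => hS N' (Finset.mem_insert_of_mem hN'))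
    have hdN : ddI I N = 2 := hS N (Finset.mem_insert_self _ _)
    have hl' : InLam q (Mm g.1 *ᵥ l) := Cfsg.Agent.Lib.Helper7.E6M2C.inLam_RJ q hq hK g hgR l hl
    obtain ⟨g₁, hg₁R, h10, h1N, h1o⟩ := step2I q hq hK I hI (Mm g.1 *ᵥ l) hl'
      (by rw [hg0]; exact h0) N hdN (v N) (fun hlong => long_coord q v hv N hlong)
    have hl'' : InLam q (Mm (g₁ * g).1 *ᵥ l) :=
      Cfsg.Agent.Lib.Helper7.E6M2C.inLam_RJ q hq hK _ (mul_mem hg₁R hgR) l hl
    refine ⟨g₁ * g, mul_mem hg₁R hgR, ?_, ?_⟩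
    · rw [Mm_mul_mulVec, h10, hg0]
    · intro N' hN'
      by_cases e1 : N' = N
      · rw [e1, Mm_mul_mulVec, h1N]
      · have hN'S : N' ∈ S := by
          rcases Finset.mem_insert.mp hN' with h | h
          · exact absurd h e1
          · exact h
        by_cases e2 : N' = tauI N
        · rw [e2, hl'' N, hv N, Mm_mul_mulVec, h1N]
        · rw [Mm_mul_mulVec, h1o N' (hS N' hN') e1 e2, hgS N' hN'S]

include hq hK in
/-- a cell element of a long `I` whose coordinate `I` and nine neighbour coordinates are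
`τ`-compatible lies in `Λ_τ` (the hard direction of the hermitian parametrisation) -/
theorem inLam_of_cell (I : T3) (hI : IsLong I) (l : T3 → K) (hl : l ∈ Cell I)
    (h0 : l I ^ q = l I)
    (hN : ∀ N : T3, ddI I N = 2 → l (tauI N) = ((epsI N : ℤ) : K) * l N ^ q) : InLam q l := by
  classical
  have hq2 : 2 ≤ q := hq.two_le
  have hc0 : l I ≠ 0 := by
    obtain ⟨c', A, hc', rfl⟩ := hl
    simpa [Cfsg.Agent.Lib.Helper2.E6MCell.cell_coord] using hc'
  set vf : T3 → K := fun X => if ddI I X = 2 then l X else 0 with hvf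
  have hvL : InLam q vf := by
    intro X
    by_cases h : ddI I X = 2
    · have h' : ddI I (tauI X) = 2 := ddI_tauI I hI X h
      rw [hvf]
      simp only [if_pos h, if_pos h']
      exact hN X h
    · have h' : ¬ ddI I (tauI X) = 2 := fun hh => h ((ddI_tauI_iff I hI X).mp hh)
      rw [hvf]
      simp only [if_neg h, if_neg h']
      rw [zero_pow (by omega), mul_zero]
  have hm : InLam q (Pi.single I (l I)) := Cfsg.Agent.Lib.Helper7.E6M2C.inLam_single q hq I hI _ h0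
  obtain ⟨g, hgR, hg0, hgS⟩ := adjust2I q hq hK I hI (Pi.single I (l I)) hm
    (by rw [Pi.single_eq_same]; exact hc0) vf hvL
    (Finset.univ.filter (fun N : T3 => ddI I N = 2)) (fun N hN => (Finset.mem_filter.mp hN).2)
  rw [Pi.single_eq_same] at hg0
  have hmem : Mm g.1 *ᵥ Pi.single I (l I) ∈ Cell I := by
    rw [Cfsg.Agent.Lib.Helper6.E6MMHOM.Mm_mulVec_single]
    apply mem_cell_of_smul_pl
    rw [← Cfsg.Agent.Lib.Helper6.E6MMHOM.Mm_mulVec_single, hg0]
    exact hc0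
  have heq : l = Mm g.1 *ᵥ Pi.single I (l I) :=
    cell_extI I l _ hl hmem hg0.symm (fun N hN' => by
      rw [hgS N (Finset.mem_filter.mpr ⟨Finset.mem_univ _, hN'⟩), hvf]
      simp only [if_pos hN'])
  rw [heq]
  exact Cfsg.Agent.Lib.Helper7.E6M2C.inLam_RJ q hq hK g hgR _ hm

end main

end Cfsg.Agent.Lib.Helper6.E6M2ADJ
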