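import Mathlib
import Cfsg.Agent.Lib.Helper4.SLnGen
import Cfsg.Agent.Lib.Helper5.E6MDefs

/-! E6M farm (S2340), unit GEN: induction on `SL_n` along left multiplication by coordinate
transvections. -/

set_option autoImplicit false

namespace Cfsg.Agent.Lib.Helper6.E6MGEN

open Cfsg.Agent.Lib.Helper5.E6M Matrix

/-- unit GEN (no finiteness needed, `2 ≤ n` would do). -/
theorem sl_induction {K : Type*} [Field K] [Finite K] (n : ℕ) (hn : 3 ≤ n)
    (P : Matrix.SpecialLinearGroup (Fin n) K → Prop) (h1 : P 1)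
    (hstep : ∀ (i j : Fin n) (hij : i ≠ j) (t : K) (g : Matrix.SpecialLinearGroup (Fin n) K),
      P g → P (⟨Matrix.transvection i j t, Matrix.det_transvection_of_ne _ _ hij t⟩ * g)) :
    ∀ g, P g := by
  intro g
  have : Nontrivial (Fin n) := Fin.nontrivial_iff_two_le.mpr (by omega)
  have key := Cfsg.Agent.Lib.Helper4.transvection_induction_gen (F := K) (ι := Fin n)
    (fun A => ∀ g', P g' → P (A * g'))
    (fun i j h c g' hg' => hstep i j h c g' hg')
    (fun A B hA hB g' hg' => by rw [mul_assoc]; exact hA _ (hB _ hg')) g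
  have := key 1 h1
  rwa [mul_one] at this

end Cfsg.Agent.Lib.Helper6.E6MGEN
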