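import Mathlib
import Cfsg.Agent.Lib.Helper5.E6MDefs
import Cfsg.Agent.Lib.Helper5.E6MRel
import Cfsg.Agent.Lib.Helper5.E6MQL
import Cfsg.Agent.Lib.Helper6.E6MGEN
import Cfsg.Agent.Lib.Helper6.E6MMHOM

/-! E6M farm (S2340), unit LING: `φ g` normalises `Q` and acts on `Q/Z` by `Mm g`. -/

set_option autoImplicit false

namespace Cfsg.Agent.Lib.Helper6.E6MLING

open Cfsg.Agent.Lib.Helper5.E6M Matrix

variable {F : Type*} [Field F] {G : Type*} [Group G] (D : Data F G)

theorem T3list_nodup : T3list.Nodup := by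
  unfold T3list
  rw [List.nodup_append]
  refine ⟨tabL1b, tabL0b, ?_⟩
  intro a ha b hb hab
  subst hab
  exact (tabL01 a).1 ((tabL1c a).mpr ha) hb

theorem mem_T3list (I : T3) : I ∈ T3list := by
  unfold T3list
  rw [List.mem_append]
  by_cases h : (0 : Fin 6) ∈ I.1
  · exact Or.inl ((tabL1c I).mp h)
  · exact Or.inr ((tabL01 I).2 h)

theorem sum_T3list {M : Type*} [AddCommMonoid M] (f : T3 → M) :
    (T3list.map f).sum = ∑ I : T3, f I := by
  classical
  rw [← List.sum_toFinset f T3list_nodup]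
  congr 1
  ext I
  simp [mem_T3list I]

theorem single_sum (s : T3 → F) : ∑ I : T3, (Pi.single I (s I) : T3 → F) = s := by
  classical
  exact Finset.univ_sum_single s

variable (hD : Rel D)

include hD in
/-- conjugation by a single root element of the Levi part. -/
theorem xij_conj_Phi (p : IJ) (t : F) (s : T3 → F) :
    ∃ c : F, ∀ r : F, D.xij p t * Phi D r s * (D.xij p t)⁻¹ =
      Phi D (r + c) (Mm (Matrix.transvection p.1.1 p.1.2 t) *ᵥ s) := by
  classical
  set x := D.xij p t with hx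
  set T := Mm (Matrix.transvection p.1.1 p.1.2 t) with hT
  -- conjugating the ordered product
  have hxI : ∀ K : T3, x * D.xI K (s K) * x⁻¹ = Phi D 0 (T *ᵥ Pi.single K (s K)) :=
    fun K => hD.xij_xI p t K (s K)
  have key : ∀ L : List T3, x * (L.map fun I => D.xI I (s I)).prod * x⁻¹ =
      (L.map fun I => Phi D 0 (T *ᵥ Pi.single I (s I))).prod := by
    intro L
    induction L with
    | nil => simp
    | cons K L ih =>
      rw [List.map_cons, List.prod_cons, List.map_cons, List.prod_cons, ← ih, ← hxI]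
      group
  obtain ⟨c, hc⟩ := Cfsg.Agent.Lib.Helper5.E6MQL.Phi_list_prod D hD
    (T3list.map fun I => ((0 : F), T *ᵥ Pi.single I (s I)))
  have hsum : ((T3list.map fun I => ((0 : F), T *ᵥ Pi.single I (s I))).map Prod.snd).sum =
      T *ᵥ s := by
    rw [List.map_map]
    have : (Prod.snd ∘ fun I => ((0 : F), T *ᵥ Pi.single I (s I))) =
        fun I => T *ᵥ (Pi.single I (s I) : T3 → F) := rfl
    rw [this, sum_T3list, ← Matrix.mulVec_sum, single_sum]
  have hmap : ((T3list.map fun I => ((0 : F), T *ᵥ Pi.single I (s I))).map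
      fun q => Phi D q.1 q.2) = T3list.map fun I => Phi D 0 (T *ᵥ Pi.single I (s I)) := by
    rw [List.map_map]
    rfl
  rw [hmap, hsum] at hc
  refine ⟨c, fun r => ?_⟩
  have h1 : x * Phi D r s * x⁻¹ =
      (x * D.z r * x⁻¹) * (x * (T3list.map fun I => D.xI I (s I)).prod * x⁻¹) := by
    unfold Phi
    group
  rw [h1, key, hc, hD.xij_z, Cfsg.Agent.Lib.Helper5.E6MQL.z_mul_Phi D hD]

include hD in
/-- unit LING. -/
theorem phi_conj_Phi [Finite F] (φ : SL6 F →* G) (hφ : ∀ (p : IJ) (t : F), φ (tv p t) = D.xij p t)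
    (g : SL6 F) (s : T3 → F) :
    ∃ c : F, ∀ r : F, φ g * Phi D r s * (φ g)⁻¹ = Phi D (r + c) (Mm g.1 *ᵥ s) := by
  revert s
  refine Cfsg.Agent.Lib.Helper6.E6MGEN.sl_induction (K := F) 6 (by norm_num)
    (fun g => ∀ s : T3 → F, ∃ c : F, ∀ r : F,
      φ g * Phi D r s * (φ g)⁻¹ = Phi D (r + c) (Mm g.1 *ᵥ s)) ?_ ?_ g
  · intro s
    refine ⟨0, fun r => ?_⟩
    rw [map_one, one_mul, inv_one, mul_one, add_zero]
    show Phi D r s = Phi D r (Mm (1 : Matrix (Fin 6) (Fin 6) F) *ᵥ s)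
    rw [Cfsg.Agent.Lib.Helper6.E6MMHOM.Mm_one, Matrix.one_mulVec]
  · intro i j hij t g ih s
    obtain ⟨c, hc⟩ := ih s
    set p : IJ := ⟨(i, j), hij⟩ with hp
    obtain ⟨c', hc'⟩ := xij_conj_Phi D hD p t (Mm g.1 *ᵥ s)
    refine ⟨c + c', fun r => ?_⟩
    have h1 : (⟨Matrix.transvection i j t, Matrix.det_transvection_of_ne _ _ hij t⟩ : SL6 F) =
        tv p t := rfl
    rw [h1, map_mul, hφ]
    have h2 : D.xij p t * φ g * Phi D r s * (D.xij p t * φ g)⁻¹ =
        D.xij p t * (φ g * Phi D r s * (φ g)⁻¹) * (D.xij p t)⁻¹ := by group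
    rw [h2, hc, hc', add_assoc]
    congr 1
    rw [Matrix.SpecialLinearGroup.coe_mul, Cfsg.Agent.Lib.Helper6.E6MMHOM.Mm_mul',
      ← Matrix.mulVec_mulVec]
    rfl

end Cfsg.Agent.Lib.Helper6.E6MLING
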