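import Mathlib
import Cfsg.Agent.Lib.Helper6.F4EvDefs
import Cfsg.Agent.Lib.Helper6.F4EvA1
import Cfsg.Agent.Lib.Helper6.F4InvC2GL
import Cfsg.Agent.Lib.Helper5.ChevGen
import Cfsg.Agent.Lib.Helper5.ChevWRel

set_option autoImplicit false

/-!
# Farm F4EV (S2174), unit A2

In characteristic two, every involution of the Chevalley group is conjugate to `n_w c` with
`c ∈ H` and `w` a local maximum of the Weyl group (given the hypothesis `HypB` on the Weyl group).
-/

namespace Cfsg.Agent.Lib.Helper6.F4Ev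

open Cfsg Cfsg.Lie Cfsg.Agent.Lib.Helper5.ChevSym Cfsg.Agent.Lib.Helper5.ChevStruct
  Cfsg.Agent.Lib.Helper5.F4T

variable {F : Type*} [Field F]

/-- `x` is conjugate to `t` in the group -/
def ConjG (D : ChevalleyDatum) (t x : GL D.Idx F) : Prop := ∃ g ∈ D.group F, g * t * g⁻¹ = x

theorem ConjG.conj {D : ChevalleyDatum} {t x : GL D.Idx F} (h : ConjG D t x) (y : GL D.Idx F)
    (hy : y ∈ D.group F) : ConjG D t (y * x * y⁻¹) := by
  obtain ⟨g, hg, e⟩ := h
  exact ⟨y * g, mul_mem hy hg, by rw [← e]; group⟩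

theorem ConjG.sq {D : ChevalleyDatum} {t x : GL D.Idx F} (h : ConjG D t x) (ht : t * t = 1) :
    x * x = 1 := by
  obtain ⟨g, -, e⟩ := h
  rw [← e]
  have : g * t * g⁻¹ * (g * t * g⁻¹) = g * (t * t) * g⁻¹ := by group
  rw [this, ht]; group

section char2

variable [CharP F 2] (D : ChevalleyDatum) (hD : D ∈ Seven)

theorem nGL_sq_char2 (i : ℕ) (hi : i < D.rank) : (nGL D hD i * nGL D hD i : GL D.Idx F) = 1 := by
  have h := A1h_wGL_congr (F := F) D hD [i, i] [] (Wd.cons hi (Wd.single hi)) (Wd.nil D)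
    (fun r hr => by
      have := (reflectRoot_invol D hD i hi r hr).2
      exact this)
  rw [wGL_cons, wGL_cons, wGL_nil, mul_one] at h
  exact h

theorem nGL_inv_char2 (i : ℕ) (hi : i < D.rank) : ((nGL D hD i)⁻¹ : GL D.Idx F) = nGL D hD i :=
  inv_eq_of_mul_eq_one_left (nGL_sq_char2 D hD i hi)

theorem nGL_mem_group_of (i : ℕ) (hi : i < D.rank) : (nGL D hD i : GL D.Idx F) ∈ D.group F :=
  monomial_le_group D hD (nGL_mem D hD i hi)

theorem wGL_mem_group_of (w : List ℕ) (hw : Wd D w) : (wGL D hD w : GL D.Idx F) ∈ D.group F :=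
  monomial_le_group D hD (wGL_mem D hD w hw)

/-- the single step: a fundamental reflection fixed by and commuting with `w` conjugates the
Borel part into `B` when the cell is maximal -/
theorem step_mem_borel (t : GL D.Idx F) (w : List ℕ) (hw : Wd D w)
    (hmax : ∀ x : GL D.Idx F, ConjG D t x → ∀ w' : List ℕ, Wd D w' → x ∈ cellW D hD w' →
      (negSet D w').card ≤ (negSet D w).card)
    (i : ℕ) (hi : i < D.rank) (hfix : wAct D w (D.simple i) = D.simple i)
    (hcomm : ∀ r < D.nroots, wAct D (i :: w) r = wAct D (w ++ [i]) r)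
    (c : GL D.Idx F) (hc : c ∈ D.borelSubgroup F) (hconj : ConjG D t (wGL D hD w * c)) :
    nGL D hD i * c * (nGL D hD i)⁻¹ ∈ D.borelSubgroup F ∧
      ConjG D t (wGL D hD w * (nGL D hD i * c * (nGL D hD i)⁻¹)) := by
  have hpp : D.IsPosRoot (D.simple i) := (checkUp_spec D i (chkUp_all D hD i hi)).1
  have hcommGL : (nGL D hD i * wGL D hD w : GL D.Idx F) = wGL D hD w * nGL D hD i := by
    have := A1h_wGL_congr (F := F) D hD (i :: w) (w ++ [i]) (Wd.cons hi hw)
      (hw.append (Wd.single hi)) hcomm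
    rw [wGL_cons, wGL_append, wGL_cons, wGL_nil, mul_one] at this
    exact this
  have e : nGL D hD i * (wGL D hD w * c) * (nGL D hD i)⁻¹
      = wGL D hD w * (nGL D hD i * c * (nGL D hD i)⁻¹) := by
    rw [← mul_assoc, hcommGL]; group
  have hconj' : ConjG D t (wGL D hD w * (nGL D hD i * c * (nGL D hD i)⁻¹)) := by
    rw [← e]
    exact hconj.conj _ (nGL_mem_group_of D hD i hi)
  refine ⟨?_, hconj'⟩
  rcases A1e_conj_simple_borel D hD i hi c hc with h | h
  · exact h
  · exfalso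
    rw [mem_cellW_iff] at h
    obtain ⟨b1, hb1, b2, hb2, hb⟩ := h
    rw [wGL_cons, wGL_nil, mul_one] at hb
    have h1 : wGL D hD w * b1 ∈ cellW D hD w := wGL_mem_cellW D hD w b1 hb1
    have h2 : wGL D hD w * b1 * nGL D hD i ∈ cellW D hD (w ++ [i]) :=
      A1d_cell_mul_right D hD i hi w hw (by rw [hfix]; exact hpp) _ h1
    have h3 : wGL D hD w * (nGL D hD i * c * (nGL D hD i)⁻¹) ∈ cellW D hD (w ++ [i]) := by
      rw [hb]
      have := cellW_mul_right D hD (w ++ [i]) _ b2 h2 hb2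
      have e2 : wGL D hD w * (b1 * nGL D hD i * b2) = wGL D hD w * b1 * nGL D hD i * b2 := by
        group
      rw [e2]; exact this
    have h4 := hmax _ hconj' (w ++ [i]) (hw.append (Wd.single hi)) h3
    rw [card_negSet_append_pos D hD w hw i hi (by rw [hfix]; exact hpp)] at h4
    omega

/-- iterating the single step along a word -/
theorem steps_mem_borel (t : GL D.Idx F) (w : List ℕ) (hw : Wd D w)
    (hmax : ∀ x : GL D.Idx F, ConjG D t x → ∀ w' : List ℕ, Wd D w' → x ∈ cellW D hD w' →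
      (negSet D w').card ≤ (negSet D w).card)
    (L : List ℕ)
    (hL : ∀ i ∈ L, i < D.rank ∧ wAct D w (D.simple i) = D.simple i ∧
      ∀ r < D.nroots, wAct D (i :: w) r = wAct D (w ++ [i]) r)
    (c : GL D.Idx F) (hc : c ∈ D.borelSubgroup F) (hconj : ConjG D t (wGL D hD w * c)) :
    wGL D hD L * c * (wGL D hD L)⁻¹ ∈ D.borelSubgroup F ∧
      ConjG D t (wGL D hD w * (wGL D hD L * c * (wGL D hD L)⁻¹)) := by
  induction L with
  | nil =>
    rw [wGL_nil]
    simpa using ⟨hc, hconj⟩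
  | cons i L ih =>
    obtain ⟨h1, h2⟩ := ih (fun j hj => hL j (List.mem_cons_of_mem _ hj))
    obtain ⟨hi, hfix, hcomm⟩ := hL i (List.mem_cons_self ..)
    have h3 := step_mem_borel D hD t w hw hmax i hi hfix hcomm _ h1 h2
    have e : wGL D hD (i :: L) * c * (wGL D hD (i :: L))⁻¹
        = nGL D hD i * (wGL D hD L * c * (wGL D hD L)⁻¹) * (nGL D hD i)⁻¹ := by
      rw [wGL_cons]; group
    rw [e]
    exact h3

/-- **Unit A2.** -/
theorem invol_conj_cell (w0 : List ℕ) (hchk : checkW0 D w0 = true) (hb : HypB D w0)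
    (t : GL D.Idx F) (ht : t ∈ D.group F) (ht2 : t * t = 1) :
    ∃ g ∈ D.group F, ∃ w : List ℕ, Wd D w ∧ (∀ r < D.nroots, wAct D (w ++ w) r = r) ∧
      LocMax D w ∧ ∃ c ∈ D.diagonalSubgroup F, g * t * g⁻¹ = wGL D hD w * c := by
  classical
  -- a conjugate in a cell of maximal length
  let P : ℕ → Prop := fun k => ∃ x : GL D.Idx F, ConjG D t x ∧ ∃ w : List ℕ, Wd D w ∧
    x ∈ cellW D hD w ∧ (negSet D w).card = k
  have hbd : ∀ k, P k → k ≤ D.nroots := by
    rintro k ⟨x, -, w, -, -, rfl⟩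
    calc (negSet D w).card ≤ (Finset.range D.nroots).card := by
          apply Finset.card_le_card
          unfold negSet
          exact Finset.filter_subset _ _
      _ = D.nroots := Finset.card_range _
  have hex : ∃ k, P k := by
    obtain ⟨w, hw, hcell⟩ := A1a_exists_cell D hD t ht
    exact ⟨_, t, ⟨1, one_mem _, by group⟩, w, hw, hcell, rfl⟩
  obtain ⟨k0, hk0⟩ := hex
  have hPk : P (Nat.findGreatest P D.nroots) := Nat.findGreatest_spec (hbd k0 hk0) hk0
  have hmaxk : ∀ k, P k → k ≤ Nat.findGreatest P D.nroots :=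
    fun k hk => Nat.le_findGreatest (hbd k hk) hk
  obtain ⟨x0, hx0, w, hw, hcell, hcard⟩ := hPk
  have hmax : ∀ x : GL D.Idx F, ConjG D t x → ∀ w' : List ℕ, Wd D w' → x ∈ cellW D hD w' →
      (negSet D w').card ≤ (negSet D w).card := by
    intro x hx w' hw' hxc
    rw [hcard]
    exact hmaxk _ ⟨x, hx, w', hw', hxc, rfl⟩
  -- normalise to `n_w c`
  rw [mem_cellW_iff] at hcell
  obtain ⟨b, hb1, b', hb2, e0⟩ := hcell
  set c : GL D.Idx F := b' * b with hcdef
  have hc : c ∈ D.borelSubgroup F := mul_mem hb2 hb1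
  have hconj : ConjG D t (wGL D hD w * c) := by
    have := hx0.conj b⁻¹ (inv_mem (borel_le_group D hD hb1))
    rw [e0] at this
    have e : b⁻¹ * (b * wGL D hD w * b') * b⁻¹⁻¹ = wGL D hD w * c := by
      rw [hcdef]; group
    rwa [e] at this
  have ht1 : (wGL D hD w * c) * (wGL D hD w * c) = 1 := hconj.sq ht2
  -- `w` is an involution
  have hinv : ∀ r < D.nroots, wAct D w r = wAct D w.reverse r := by
    have h1 : wGL D hD w * c ∈ cellW D hD w := wGL_mem_cellW D hD w c hc
    have h2 := A1g_cell_inv D hD w hw _ h1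
    rw [inv_eq_of_mul_eq_one_left ht1] at h2
    exact A1b_cell_unique D hD w w.reverse hw hw.reverse _ h1 h2
  have hw2 : ∀ r < D.nroots, wAct D (w ++ w) r = r := by
    intro r hr
    rw [wAct_append, hinv _ (wAct_lt D hD w hw r hr)]
    have := wAct_reverse D hD w.reverse hw.reverse r hr
    rwa [List.reverse_reverse] at this
  have hwsq : (wGL D hD w * wGL D hD w : GL D.Idx F) = 1 := by
    have := A1h_wGL_congr (F := F) D hD (w ++ w) [] (hw.append hw) (Wd.nil D) hw2
    rwa [wGL_append, wGL_nil] at this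
  -- `w` is a local maximum
  have hloc : LocMax D w := by
    intro i hi
    by_contra hcon
    push Not at hcon
    obtain ⟨hpos, hne⟩ := hcon
    have hp : D.simple i < D.nroots := simple_lt D hD i hi
    have hposr : D.IsPosRoot (wAct D w.reverse (D.simple i)) := by
      rw [← hinv _ hp]; exact hpos
    have h1 : wGL D hD w * c ∈ cellW D hD w := wGL_mem_cellW D hD w c hc
    have h2 := A1c_cell_mul_left D hD i hi w hw hposr _ h1
    have hpos2 : D.IsPosRoot (wAct D (i :: w) (D.simple i)) :=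
      A1i_reflect_pos D hD i hi _ hpos hne
    have h3 := A1d_cell_mul_right D hD i hi (i :: w) (Wd.cons hi hw) hpos2 _ h2
    have hconj2 : ConjG D t (nGL D hD i * (wGL D hD w * c) * nGL D hD i) := by
      have := hconj.conj _ (nGL_mem_group_of D hD i hi)
      rwa [nGL_inv_char2 D hD i hi] at this
    have h4 := hmax _ hconj2 _ ((Wd.cons hi hw).append (Wd.single hi)) h3
    rw [card_negSet_append_pos D hD (i :: w) (Wd.cons hi hw) i hi hpos2,
      A1f_card_negSet_cons_pos D hD i hi w hw hposr] at h4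
    omega
  -- the Weyl group hypothesis
  obtain ⟨L, hL, hLw0⟩ := hb w hw hw2 hloc
  have hLwd : Wd D L := fun i hi => (hL i hi).1
  obtain ⟨hc1, hconj1⟩ := steps_mem_borel D hD t w hw hmax L hL c hc hconj
  set c1 : GL D.Idx F := wGL D hD L * c * (wGL D hD L)⁻¹ with hc1def
  have ht3 : (wGL D hD w * c1) * (wGL D hD w * c1) = 1 := hconj1.sq ht2
  have hc1' : wGL D hD w * c1 * (wGL D hD w)⁻¹ ∈ D.borelSubgroup F := by
    have e : wGL D hD w * c1 * (wGL D hD w)⁻¹ = c1⁻¹ := by
      have h1 : (wGL D hD w)⁻¹ = wGL D hD w := inv_eq_of_mul_eq_one_left hwsq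
      rw [h1]
      apply eq_inv_of_mul_eq_one_left
      calc wGL D hD w * c1 * wGL D hD w * c1 = (wGL D hD w * c1) * (wGL D hD w * c1) := by group
        _ = 1 := ht3
    rw [e]; exact inv_mem hc1
  obtain ⟨hw0wd, -⟩ := conj_pos_eq_neg' (K := F) D hD w0 hchk
  have hw0eq : (wGL D hD w * wGL D hD L : GL D.Idx F) = wGL D hD w0 := by
    rw [← wGL_append]
    exact A1h_wGL_congr D hD _ _ (hw.append hLwd) hw0wd hLw0
  have hopp : wGL D hD w0 * c * (wGL D hD w0)⁻¹ ∈ D.borelSubgroup F := by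
    have e : wGL D hD w0 * c * (wGL D hD w0)⁻¹ = wGL D hD w * c1 * (wGL D hD w)⁻¹ := by
      rw [← hw0eq, hc1def]; group
    rw [e]; exact hc1'
  have hcH : c ∈ D.diagonalSubgroup F := Cfsg.Agent.Lib.Helper6.F4Inv.h6_opp_GL_gen D hD w0 hchk c hc hopp
  obtain ⟨g, hg, hgt⟩ := hconj
  exact ⟨g, hg, w, hw, hw2, hloc, c, hcH, hgt⟩

end char2

end Cfsg.Agent.Lib.Helper6.F4Ev
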