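import Mathlib
import Cfsg.Agent.Lib.Helper8.E8CoreDefs
import Cfsg.Agent.Lib.Helper5.ChevW0Def
import Cfsg.Agent.Lib.Helper5.ChevLevi
import Cfsg.Agent.Lib.Helper5.ChevChk.ChainAddE8

set_option autoImplicit false

/-!
# Farm E8CORE (S5751), unit ADD : the level grading of words of root elements of `E₈(2)`

A word of root elements of level at least `m ≥ 0` is the identity plus a matrix raising the level
by at least `m`; for `m ≥ 1` the entries (Cartan row `i`, column `e_{-ρ}`), `lev ρ = m`, are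
additive in the letters.
-/

namespace Cfsg.Agent.Lib.Helper6.E8Core

open Cfsg Cfsg.Lie Cfsg.Agent.Lib.Helper5.ChevStruct Cfsg.Agent.Lib.Helper5.ChevSym
  Cfsg.Agent.Lib.Helper8.E8Core

/-- the level of a basis vector -/
def idxLev : chevE8.Idx → ℤ
  | Sum.inl _ => 0
  | Sum.inr u => lev u.val

/-- `M - 1` raises the level by at least `m` -/
def BlockUpK (m : ℤ) (M : Matrix chevE8.Idx chevE8.Idx F2) : Prop :=
  ∀ a b, (M - 1) a b ≠ 0 → idxLev b + m ≤ idxLev a

/-- the chain table of `E₈` is additive for the coroot coordinates (all roots have the same length) -/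
theorem lvlOK_E8 : LvlOK chevE8 rlOne := by
  have h : ∀ r < chevE8.nroots, checkChainAdd chevE8 rlOne r = true :=
    fun r hr => chkChainAdd_E8 r hr
  refine ⟨fun r hr => (checkChainAdd_spec chevE8 rlOne r (h r hr)).1,
    fun r hr => (checkChainAdd_spec chevE8 rlOne r (h r hr)).2.1,
    fun r hr => (checkChainAdd_spec chevE8 rlOne r (h r hr)).2.2.1, fun r hr e he i p hp => ⟨?_, ?_⟩⟩
  · have hW := (weightsOK_all chevE8 (by simp)).chain r hr (e.1, p.1, i) (by
      unfold flatChain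
      rw [List.mem_flatMap]
      refine ⟨e, he, ?_⟩
      rw [List.mem_map]
      exact ⟨(p, i), List.mem_zipIdx_iff_getElem?.2 hp, rfl⟩)
    exact ⟨hW.2.1, hW.1⟩
  · exact (checkChainAdd_spec chevE8 rlOne r (h r hr)).2.2.2 e he i p hp

theorem lvlJ_eq_lev (r : ℕ) : lvlJ chevE8 rlOne JN r = lev r := by
  classical
  unfold lvlJ
  have e : (Finset.range chevE8.rank).filter (fun k => k ∉ JN) = {node} := by
    ext k
    simp only [Finset.mem_filter, Finset.mem_range, Finset.mem_singleton, JN, Set.mem_setOf_eq,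
      not_not, rank_E8, node]
    omega
  rw [e, Finset.sum_singleton]
  unfold wt rlOne co lev
  rw [mul_one]

theorem idxLvl_eq_idxLev (a : chevE8.Idx) : idxLvl chevE8 rlOne JN a = idxLev a := by
  rcases a with i | u
  · rfl
  · exact lvlJ_eq_lev u.val

/-- the off-diagonal structure of `x_r(t)` with respect to the level -/
theorem x_sub_one_lev (r : ℕ) (hr : r < chevE8.nroots) (t : F2) (a b : chevE8.Idx)
    (hne : (chevE8.x F2 r t - 1) a b ≠ 0) :
    ∃ i : ℕ, 1 ≤ i ∧ idxLev a = idxLev b + (i : ℤ) * lev r := by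
  obtain ⟨i, hi, e⟩ := x_sub_one_lvl chevE8 rlOne lvlOK_E8 JN r hr t a b hne
  rw [idxLvl_eq_idxLev, idxLvl_eq_idxLev, lvlJ_eq_lev] at e
  exact ⟨i, hi, e⟩

theorem blockUpK_one (m : ℤ) : BlockUpK m 1 := by
  intro a b h
  exact absurd (by simp) h

theorem blockUpK_mul (m : ℤ) (hm : 0 ≤ m) (M N : Matrix chevE8.Idx chevE8.Idx F2)
    (hM : BlockUpK m M) (hN : BlockUpK m N) : BlockUpK m (M * N) := by
  intro a b h
  have e : M * N - 1 = (M - 1) * (N - 1) + (M - 1) + (N - 1) := by noncomm_ring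
  rw [e, Matrix.add_apply, Matrix.add_apply] at h
  by_contra hlt
  apply h
  have h1 : (M - 1) a b = 0 := by
    by_contra h1
    exact hlt (hM a b h1)
  have h2 : (N - 1) a b = 0 := by
    by_contra h2
    exact hlt (hN a b h2)
  rw [h1, h2, add_zero, add_zero, Matrix.mul_apply]
  apply Finset.sum_eq_zero
  intro c _
  by_contra hc
  have hc1 : (M - 1) a c ≠ 0 := left_ne_zero_of_mul hc
  have hc2 : (N - 1) c b ≠ 0 := right_ne_zero_of_mul hc
  have := hM a c hc1
  have := hN c b hc2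
  omega

theorem blockUpK_x (m : ℤ) (hm : 0 ≤ m) (r : ℕ) (hr : r < chevE8.nroots) (t : F2)
    (h : t = 0 ∨ m ≤ lev r) : BlockUpK m (chevE8.x F2 r t) := by
  rcases h with rfl | h
  · rw [x_at_zero]
    exact blockUpK_one m
  · intro a b hne
    obtain ⟨i, hi, e⟩ := x_sub_one_lev r hr t a b hne
    rw [e]
    have : lev r ≤ (i : ℤ) * lev r := by
      have hi' : (1 : ℤ) ≤ (i : ℤ) := by exact_mod_cast hi
      nlinarith
    omega

theorem wordMat_cons' (p : ℕ × F2) (w : List (ℕ × F2)) :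
    chevE8.wordMat F2 (p :: w) = chevE8.x F2 p.1 p.2 * chevE8.wordMat F2 w := by
  unfold ChevalleyDatum.wordMat
  rw [List.map_cons, List.prod_cons]

theorem ADD_word_blockUp (m : ℤ) (hm : 0 ≤ m) (w : List (ℕ × F2))
    (hw : ∀ p ∈ w, p.1 < chevE8.nroots ∧ (p.2 = 0 ∨ m ≤ lev p.1)) :
    BlockUpK m (chevE8.wordMat F2 w) := by
  induction w with
  | nil =>
    have : chevE8.wordMat F2 [] = 1 := by simp [ChevalleyDatum.wordMat]
    rw [this]
    exact blockUpK_one m
  | cons p w ih =>
    rw [wordMat_cons']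
    have hp := hw p List.mem_cons_self
    exact blockUpK_mul m hm _ _ (blockUpK_x m hm p.1 hp.1 p.2 hp.2)
      (ih fun q hq => hw q (List.mem_cons_of_mem _ hq))

/-- the entries (Cartan row, root column) of `x_r(t)`, for any datum -/
theorem xMat_inl_inr {F : Type*} [Field F] (D : ChevalleyDatum) (r s : Fin D.nroots) (t : F)
    (i : Fin D.rank) :
    D.xMat F r t (Sum.inl i) (Sum.inr s)
      = if s = r then 0 else if s.val = D.negIdx.getD r.val 0 then
          (((D.coroot.getD r.val #[]).getD i.val 0 : ℤ) : F) * t else 0 := by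
  simp only [ChevalleyDatum.xMat, Matrix.of_apply]

/-- the entry (Cartan row `i`, column `e_{-ρ}`) of `x_r(t)`, for any of the seven data -/
theorem x_entry_gen {F : Type*} [Field F] (D : ChevalleyDatum) (hD : D ∈ Seven) (r : ℕ)
    (hr : r < D.nroots) (t : F) (ρ : ℕ) (hρ : ρ < D.nroots)
    (nρ : Fin D.nroots) (hn : nρ.val = D.neg ρ) (i : Fin D.rank) :
    D.x F r t (Sum.inl i) (Sum.inr nρ)
      = if r = ρ then (((D.coroot.getD ρ #[]).getD i.val 0 : ℤ) : F) * t else 0 := by
  unfold ChevalleyDatum.x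
  rw [dif_pos hr, xMat_inl_inr]
  by_cases hrρ : r = ρ
  · subst hrρ
    rw [if_pos rfl]
    have h1 : nρ ≠ ⟨r, hr⟩ := by
      intro h
      have := congrArg Fin.val h
      rw [hn] at this
      exact (neg_lt D hD r hr).2.1 this
    have h2 : nρ.val = D.negIdx.getD r 0 := hn
    rw [if_neg h1, if_pos h2]
  · rw [if_neg hrρ]
    by_cases h1 : nρ = ⟨r, hr⟩
    · rw [if_pos h1]
    · have h2 : nρ.val ≠ D.negIdx.getD r 0 := by
        intro h
        apply hrρ
        have e : D.neg ρ = D.neg r := by rw [← hn]; exact h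
        have := congrArg D.neg e
        rw [(neg_lt D hD ρ hρ).2.2, (neg_lt D hD r hr).2.2] at this
        exact this.symm
      rw [if_neg h1, if_neg h2]

theorem x_entry (r : ℕ) (hr : r < chevE8.nroots) (t : F2) (ρ : ℕ) (hρ : ρ < chevE8.nroots)
    (nρ : Fin chevE8.nroots) (hn : nρ.val = chevE8.neg ρ) (i : Fin chevE8.rank) :
    chevE8.x F2 r t (Sum.inl i) (Sum.inr nρ)
      = if r = ρ then (((chevE8.coroot.getD ρ #[]).getD i.val 0 : ℤ) : F2) * t else 0 :=
  x_entry_gen chevE8 hE8 r hr t ρ hρ nρ hn i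

theorem ADD_word_entry (m : ℤ) (hm : 1 ≤ m) (w : List (ℕ × F2))
    (hw : ∀ p ∈ w, p.1 < chevE8.nroots ∧ (p.2 = 0 ∨ m ≤ lev p.1))
    (ρ : ℕ) (hρ : ρ < chevE8.nroots) (hρm : lev ρ = m) (nρ : Fin chevE8.nroots)
    (hn : nρ.val = chevE8.neg ρ) (i : Fin chevE8.rank) :
    chevE8.wordMat F2 w (Sum.inl i) (Sum.inr nρ)
      = (((chevE8.coroot.getD ρ #[]).getD i.val 0 : ℤ) : F2)
        * ((w.filter fun p => p.1 = ρ).map Prod.snd).sum := by
  have hm0 : 0 ≤ m := by omega
  induction w with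
  | nil =>
    have : chevE8.wordMat F2 [] = 1 := by simp [ChevalleyDatum.wordMat]
    rw [this]
    simp
  | cons p w ih =>
    have hp := hw p List.mem_cons_self
    have hw' : ∀ q ∈ w, q.1 < chevE8.nroots ∧ (q.2 = 0 ∨ m ≤ lev q.1) :=
      fun q hq => hw q (List.mem_cons_of_mem _ hq)
    have hX := blockUpK_x m hm0 p.1 hp.1 p.2 hp.2
    have hW := ADD_word_blockUp m hm0 w hw'
    rw [wordMat_cons']
    -- additivity of the entry
    have hlev : idxLev (Sum.inr nρ : chevE8.Idx) = - m := by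
      show lev nρ.val = -m
      rw [hn]
      have := lvlJ_neg chevE8 rlOne lvlOK_E8 JN ρ hρ
      rw [lvlJ_eq_lev, lvlJ_eq_lev] at this
      rw [this, hρm]
    have hadd : (chevE8.x F2 p.1 p.2 * chevE8.wordMat F2 w) (Sum.inl i) (Sum.inr nρ)
        = chevE8.x F2 p.1 p.2 (Sum.inl i) (Sum.inr nρ)
          + chevE8.wordMat F2 w (Sum.inl i) (Sum.inr nρ) := by
      have e : chevE8.x F2 p.1 p.2 * chevE8.wordMat F2 w
          = (chevE8.x F2 p.1 p.2 - 1) * (chevE8.wordMat F2 w - 1) + chevE8.x F2 p.1 p.2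
            + chevE8.wordMat F2 w - 1 := by noncomm_ring
      rw [e, Matrix.sub_apply, Matrix.add_apply, Matrix.add_apply]
      have h0 : ((chevE8.x F2 p.1 p.2 - 1) * (chevE8.wordMat F2 w - 1)) (Sum.inl i) (Sum.inr nρ)
          = 0 := by
        rw [Matrix.mul_apply]
        apply Finset.sum_eq_zero
        intro c _
        by_contra hc
        have hc1 := hX _ _ (left_ne_zero_of_mul hc)
        have hc2 := hW _ _ (right_ne_zero_of_mul hc)
        rw [hlev] at hc2
        have : idxLev (Sum.inl i : chevE8.Idx) = 0 := rfl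
        omega
      rw [h0, zero_add, Matrix.one_apply_ne (by simp), sub_zero]
    rw [hadd, ih hw', x_entry p.1 hp.1 p.2 ρ hρ nρ hn i]
    by_cases hpρ : p.1 = ρ
    · rw [if_pos hpρ, List.filter_cons_of_pos (by simpa using hpρ), List.map_cons, List.sum_cons,
        mul_add]
    · rw [if_neg hpρ, List.filter_cons_of_neg (by simpa using hpρ), zero_add]

end Cfsg.Agent.Lib.Helper6.E8Core
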