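import Mathlib
import Cfsg.Agent.Lib.Helper6.BLData2
import Cfsg.Agent.Lib.Helper6.BLGroup

/-! # Groups whose Sylow 3-subgroup is elementary abelian, with `C(s) = S` for `s ≠ 1` :
group-theoretic preliminaries -/

set_option autoImplicit false
open Cfsg

namespace Cfsg.Agent.Lib.Helper6.Tn

section prelim

variable {G : Type*} [Group G] [Finite G]

/-- `C(P) = P` -/
theorem centralizer_sylow_eq (P : Sylow 3 G) (hab : IsMulCommutative P)
    (hcent : ∀ s ∈ (P : Subgroup G), s ≠ 1 →
      Subgroup.centralizer ({s} : Set G) = (P : Subgroup G))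
    (hne : ∃ s ∈ (P : Subgroup G), s ≠ 1) :
    Subgroup.centralizer ((P : Subgroup G) : Set G) = (P : Subgroup G) := by
  obtain ⟨s, hs, hs1⟩ := hne
  apply le_antisymm
  · intro x hx
    rw [← hcent s hs hs1, Subgroup.mem_centralizer_singleton_iff]
    rw [Subgroup.mem_centralizer_iff] at hx
    exact (hx s hs).symm
  · intro x hx
    rw [Subgroup.mem_centralizer_iff]
    intro z hz
    exact mul_comm_of_mem_sylow P hab z x hz hx

/-- the Brauer–Leonard hypothesis -/
theorem hfrob_of_hcent (P : Sylow 3 G) (hab : IsMulCommutative P)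
    (hcent : ∀ s ∈ (P : Subgroup G), s ≠ 1 →
      Subgroup.centralizer ({s} : Set G) = (P : Subgroup G)) :
    ∀ y : G, y ∈ (P : Subgroup G) → y ≠ 1 →
      Subgroup.centralizer ({y} : Set G) ⊓ Subgroup.normalizer ((P : Subgroup G) : Set G)
        = Subgroup.centralizer ((P : Subgroup G) : Set G) := by
  intro y hy hy1
  rw [centralizer_sylow_eq P hab hcent ⟨y, hy, hy1⟩, hcent y hy hy1]
  exact inf_eq_left.mpr Subgroup.le_normalizer

/-- an element commuting with `a`, where `g a g⁻¹ ∈ P \ 1`, is conjugated into `P` by `g` -/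
theorem conj_mem_of_commute (P : Sylow 3 G)
    (hcent : ∀ s ∈ (P : Subgroup G), s ≠ 1 →
      Subgroup.centralizer ({s} : Set G) = (P : Subgroup G))
    {a x : G} (g : G) (hga : g * a * g⁻¹ ∈ (P : Subgroup G)) (ha1 : a ≠ 1)
    (hx : x * a = a * x) : g * x * g⁻¹ ∈ (P : Subgroup G) := by
  have h1 : g * a * g⁻¹ ≠ 1 := by
    intro h
    apply ha1
    have : a = g⁻¹ * (g * a * g⁻¹) * g := by group
    rw [this, h]; group
  rw [← hcent _ hga h1, Subgroup.mem_centralizer_singleton_iff]
  calc g * x * g⁻¹ * (g * a * g⁻¹) = g * (x * a) * g⁻¹ := by group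
    _ = g * (a * x) * g⁻¹ := by rw [hx]
    _ = g * a * g⁻¹ * (g * x * g⁻¹) := by group

/-- `P` is a trivial intersection subgroup -/
theorem mem_normalizer_of_conj_mem (P : Sylow 3 G) (hab : IsMulCommutative P)
    (hcent : ∀ s ∈ (P : Subgroup G), s ≠ 1 →
      Subgroup.centralizer ({s} : Set G) = (P : Subgroup G))
    {g s : G} (hs : s ∈ (P : Subgroup G)) (hs1 : s ≠ 1) (hgs : g * s * g⁻¹ ∈ (P : Subgroup G)) :
    g ∈ Subgroup.normalizer ((P : Subgroup G) : Set G) := by
  have hcomm : ∀ a b : G, a ∈ (P : Subgroup G) → b ∈ (P : Subgroup G) → a * b = b * a :=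
    fun a b ha hb => mul_comm_of_mem_sylow P hab a b ha hb
  have h1 : g * s * g⁻¹ ≠ 1 := by
    intro h
    apply hs1
    have : s = g⁻¹ * (g * s * g⁻¹) * g := by group
    rw [this, h]; group
  rw [Subgroup.mem_normalizer_iff]
  intro h
  constructor
  · intro hh
    exact conj_mem_of_commute P hcent g hgs hs1 (hcomm h s hh hs)
  · intro hh
    have h2 : g⁻¹ * (g * s * g⁻¹) * g⁻¹⁻¹ ∈ (P : Subgroup G) := by
      have : g⁻¹ * (g * s * g⁻¹) * g⁻¹⁻¹ = s := by group
      rw [this]; exact hs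
    have h3 := conj_mem_of_commute P hcent g⁻¹ h2 h1 (hcomm _ _ hh hgs)
    have : g⁻¹ * (g * h * g⁻¹) * g⁻¹⁻¹ = h := by group
    rw [this] at h3
    exact h3

/-- if `|N(P)|` is even then every element of `P` is conjugate to its inverse -/
theorem isConj_inv_of_even (P : Sylow 3 G) (hab : IsMulCommutative P)
    (hexp : ∀ a ∈ (P : Subgroup G), a ^ 3 = 1)
    (hcent : ∀ s ∈ (P : Subgroup G), s ≠ 1 →
      Subgroup.centralizer ({s} : Set G) = (P : Subgroup G))
    (hev : 2 ∣ Nat.card (Subgroup.normalizer ((P : Subgroup G) : Set G)))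
    (y : G) (hy : y ∈ (P : Subgroup G)) : IsConj y y⁻¹ := by
  have : Fact (Nat.Prime 2) := ⟨Nat.prime_two⟩
  obtain ⟨t', ht'⟩ := exists_prime_orderOf_dvd_card'
    (G := Subgroup.normalizer ((P : Subgroup G) : Set G)) 2 hev
  obtain ⟨t, htN, ht2, ht1⟩ : ∃ t : G, t ∈ Subgroup.normalizer ((P : Subgroup G) : Set G) ∧
      t ^ 2 = 1 ∧ t ≠ 1 := by
    refine ⟨(t' : G), t'.2, ?_, ?_⟩
    · have := pow_orderOf_eq_one t'
      rw [ht'] at this
      exact_mod_cast congrArg Subtype.val this
    · intro h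
      have : t' = 1 := Subtype.ext h
      rw [this, orderOf_one] at ht'
      omega
  clear ht' t'
  have htP : t ∉ (P : Subgroup G) := by
    intro h
    have h3 := hexp _ h
    apply ht1
    calc t = t ^ 3 * (t ^ 2)⁻¹ := by group
      _ = 1 := by rw [h3, ht2]; simp
  have hcomm : ∀ a b : G, a ∈ (P : Subgroup G) → b ∈ (P : Subgroup G) → a * b = b * a :=
    fun a b ha hb => mul_comm_of_mem_sylow P hab a b ha hb
  have hy' : t * y * t⁻¹ ∈ (P : Subgroup G) :=
    (Subgroup.mem_normalizer_iff.mp htN y).mp hy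
  have htinv : t⁻¹ = t := by
    have : t * t = 1 := by rw [← sq]; exact ht2
    exact inv_eq_of_mul_eq_one_left this
  by_cases hu : y * (t * y * t⁻¹) = 1
  · rw [isConj_iff]
    refine ⟨t, ?_⟩
    exact (eq_inv_of_mul_eq_one_right hu)
  · exfalso
    apply htP
    have hu' := Subgroup.mul_mem _ hy hy'
    rw [← hcent _ hu' hu, Subgroup.mem_centralizer_singleton_iff]
    rw [htinv]
    have e1 : t * y * t * y = y * (t * y * t) := by
      have := hcomm _ _ hy' hy
      rw [htinv] at this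
      exact this
    calc t * (y * (t * y * t))
        = t * y * t * y * t := by group
      _ = y * (t * y * t) * t := by rw [e1]

end prelim

end Cfsg.Agent.Lib.Helper6.Tn
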