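import Mathlib
import Cfsg.Agent.Lib.Helper6.TnA

/-! # Pairs of elements of order 3 whose product has order 3 -/

set_option autoImplicit false
open Cfsg

namespace Cfsg.Agent.Lib.Helper6.Tn

section triangle

variable {G : Type*} [Group G]

theorem mul_self_of_cube {a : G} (ha : a ^ 3 = 1) : a * a = a⁻¹ := by
  rw [pow_three'] at ha
  exact eq_inv_of_mul_eq_one_left ha

theorem inv_mul_inv_of_cube {b : G} (hb : b ^ 3 = 1) : b⁻¹ * b⁻¹ = b := by
  have h1 := mul_self_of_cube hb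
  calc b⁻¹ * b⁻¹ = (b * b)⁻¹ := by group
    _ = b := by rw [h1, inv_inv]

/-- the translation subgroup of the triangle group `(3,3,3)` is abelian -/
theorem comm_of_cube (a b : G) (ha : a ^ 3 = 1) (hb : b ^ 3 = 1) (hab3 : (a * b) ^ 3 = 1) :
    (a * b⁻¹) * (b⁻¹ * a) = (b⁻¹ * a) * (a * b⁻¹) := by
  have h1 : a * b * a = b⁻¹ * a⁻¹ * b⁻¹ := by
    calc a * b * a = (a * b * (a * b) * (a * b)) * (b⁻¹ * a⁻¹ * b⁻¹) := by group
      _ = (a * b) ^ 3 * (b⁻¹ * a⁻¹ * b⁻¹) := by rw [pow_three']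
      _ = b⁻¹ * a⁻¹ * b⁻¹ := by rw [hab3, one_mul]
  calc (a * b⁻¹) * (b⁻¹ * a) = a * (b⁻¹ * b⁻¹) * a := by group
    _ = a * b * a := by rw [inv_mul_inv_of_cube hb]
    _ = b⁻¹ * a⁻¹ * b⁻¹ := h1
    _ = b⁻¹ * (a * a) * b⁻¹ := by rw [mul_self_of_cube ha]
    _ = (b⁻¹ * a) * (a * b⁻¹) := by group

theorem closure_pair_comm (u u' : G) (h : u * u' = u' * u) :
    ∀ x ∈ Subgroup.closure ({u, u'} : Set G), ∀ z ∈ Subgroup.closure ({u, u'} : Set G),
      x * z = z * x := by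
  have h1 : Subgroup.closure ({u, u'} : Set G) ≤ Subgroup.centralizer ({u, u'} : Set G) := by
    rw [Subgroup.closure_le]
    intro w hw
    rw [SetLike.mem_coe, Subgroup.mem_centralizer_iff]
    intro v hv
    rcases hw with rfl | hw <;> rcases hv with rfl | hv
    · rfl
    · rw [Set.mem_singleton_iff] at hv; rw [hv]; exact h.symm
    · rw [Set.mem_singleton_iff] at hw; rw [hw]; exact h
    · rw [Set.mem_singleton_iff] at hv hw; rw [hv, hw]
  intro x hx z hz
  have h2 := Subgroup.closure_le_centralizer_centralizer ({u, u'} : Set G) hx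
  rw [Subgroup.mem_centralizer_iff] at h2
  exact (h2 z (h1 hz)).symm

end triangle

section main

variable {G : Type*} [Group G] [Finite G]

/-- two conjugates of `y ∈ P \ 1` whose product is an element of `P \ 1` not conjugate to `y`
lie in `P` -/
theorem mem_sylow_of_mul (P : Sylow 3 G) (hab : IsMulCommutative P)
    (hexp : ∀ a ∈ (P : Subgroup G), a ^ 3 = 1)
    (hcent : ∀ s ∈ (P : Subgroup G), s ≠ 1 →
      Subgroup.centralizer ({s} : Set G) = (P : Subgroup G))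
    (y y' a b : G) (hy : y ∈ (P : Subgroup G)) (hy1 : y ≠ 1) (hy' : y' ∈ (P : Subgroup G))
    (hy'1 : y' ≠ 1) (hinv : IsConj y y⁻¹) (hnc : ¬ IsConj y y') (ha : IsConj y a)
    (hb : IsConj y b) (hmul : a * b = y') : a ∈ (P : Subgroup G) ∧ b ∈ (P : Subgroup G) := by
  classical
  haveI : Fintype G := Fintype.ofFinite G
  obtain ⟨c, hc⟩ := isConj_iff.mp ha
  obtain ⟨c', hc'⟩ := isConj_iff.mp hb
  have hy3 := hexp y hy
  have ha3 : a ^ 3 = 1 := by
    rw [← hc]
    rw [conj_pow, hy3]; group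
  have hb3 : b ^ 3 = 1 := by
    rw [← hc']
    rw [conj_pow, hy3]; group
  have hab3 : (a * b) ^ 3 = 1 := by rw [hmul]; exact hexp y' hy'
  have ha1 : a ≠ 1 := by
    intro h
    apply hy1
    have : y = c⁻¹ * (c * y * c⁻¹) * c := by group
    rw [this, hc, h]; group
  have hcya : c⁻¹ * a * c⁻¹⁻¹ ∈ (P : Subgroup G) := by
    have : c⁻¹ * a * c⁻¹⁻¹ = y := by rw [← hc]; group
    rw [this]; exact hy
  obtain ⟨u, hu⟩ : ∃ u : G, u = a * b⁻¹ := ⟨_, rfl⟩
  obtain ⟨u', hu'⟩ : ∃ u' : G, u' = b⁻¹ * a := ⟨_, rfl⟩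
  have huu' : u * u' = u' * u := by rw [hu, hu']; exact comm_of_cube a b ha3 hb3 hab3
  obtain ⟨A, hA⟩ : ∃ A : Subgroup G, A = Subgroup.closure ({u, u'} : Set G) := ⟨_, rfl⟩
  have huA : u ∈ A := by rw [hA]; exact Subgroup.subset_closure (by simp)
  have hu'A : u' ∈ A := by rw [hA]; exact Subgroup.subset_closure (by simp)
  have hAcomm : ∀ x ∈ A, ∀ z ∈ A, x * z = z * x := by
    rw [hA]; exact closure_pair_comm u u' huu'
  -- conjugation by `a⁻¹` maps `A` into itself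
  have hκ : ∀ x ∈ A, a⁻¹ * x * a ∈ A := by
    intro x hx
    rw [hA] at hx
    induction hx using Subgroup.closure_induction with
    | mem w hw =>
      rcases hw with rfl | hw
      · have : a⁻¹ * w * a = u' := by rw [hu', hu]; group
        rw [this]; exact hu'A
      · rw [Set.mem_singleton_iff] at hw
        have h1 : u * u' = a * b * a := by
          rw [hu, hu']
          calc a * b⁻¹ * (b⁻¹ * a) = a * (b⁻¹ * b⁻¹) * a := by group
            _ = a * b * a := by rw [inv_mul_inv_of_cube hb3]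
        have : a⁻¹ * w * a = (u * u')⁻¹ := by
          rw [h1, hw, hu']
          calc a⁻¹ * (b⁻¹ * a) * a = a⁻¹ * b⁻¹ * (a * a) := by group
            _ = a⁻¹ * b⁻¹ * a⁻¹ := by rw [mul_self_of_cube ha3]
            _ = (a * b * a)⁻¹ := by group
        rw [this]
        exact Subgroup.inv_mem _ (Subgroup.mul_mem _ huA hu'A)
    | one => simp
    | mul x z _ _ hx hz =>
      have : a⁻¹ * (x * z) * a = (a⁻¹ * x * a) * (a⁻¹ * z * a) := by group
      rw [this]; exact Subgroup.mul_mem _ hx hz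
    | inv x _ hx =>
      have : a⁻¹ * x⁻¹ * a = (a⁻¹ * x * a)⁻¹ := by group
      rw [this]; exact Subgroup.inv_mem _ hx
  by_cases h3 : ∃ x ∈ A, orderOf x = 3
  · -- `A` contains an element of order 3
    obtain ⟨x, hxA, hx3⟩ := h3
    have hx1 : x ≠ 1 := by
      intro h
      rw [h, orderOf_one] at hx3
      omega
    obtain ⟨g, hg⟩ := exists_conj_mem_sylow_of_pElement P x ⟨1, by rw [hx3, pow_one]⟩
    have hgA : ∀ z ∈ A, g * z * g⁻¹ ∈ (P : Subgroup G) := fun z hz =>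
      conj_mem_of_commute P hcent g hg hx1 (hAcomm z hz x hxA)
    have hgx1 : g * x * g⁻¹ ≠ 1 := by
      intro h
      apply hx1
      have : x = g⁻¹ * (g * x * g⁻¹) * g := by group
      rw [this, h]; group
    -- `g a g⁻¹` normalizes `P`
    have h4 : (g * a * g⁻¹)⁻¹ * (g * x * g⁻¹) * (g * a * g⁻¹)⁻¹⁻¹ ∈ (P : Subgroup G) := by
      have : (g * a * g⁻¹)⁻¹ * (g * x * g⁻¹) * (g * a * g⁻¹)⁻¹⁻¹ = g * (a⁻¹ * x * a) * g⁻¹ := by
        group
      rw [this]
      exact hgA _ (hκ x hxA)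
    have h5 : (g * a * g⁻¹)⁻¹ ∈ Subgroup.normalizer ((P : Subgroup G) : Set G) :=
      mem_normalizer_of_conj_mem P hab hcent hg hgx1 h4
    have h6 : g * a * g⁻¹ ∈ Subgroup.normalizer ((P : Subgroup G) : Set G) := by
      have := Subgroup.inv_mem _ h5
      rwa [inv_inv] at this
    have h7 : g * a * g⁻¹ ∈ (P : Subgroup G) := by
      have hpg : IsPGroup 3 (Subgroup.zpowers (g * a * g⁻¹)) := by
        intro w
        obtain ⟨k, hk⟩ := Subgroup.mem_zpowers_iff.mp w.2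
        refine ⟨1, Subtype.ext ?_⟩
        rw [pow_one]
        simp only [Subgroup.coe_pow, Subgroup.coe_one]
        rw [← hk, ← zpow_natCast, ← zpow_mul, mul_comm, zpow_mul, zpow_natCast]
        have : (g * a * g⁻¹) ^ 3 = 1 := by
          rw [conj_pow, ha3]; group
        rw [this, one_zpow]
      have h8 := hpg.inf_normalizer_sylow P
      have h9 : g * a * g⁻¹ ∈ Subgroup.zpowers (g * a * g⁻¹) ⊓
          Subgroup.normalizer ((P : Subgroup G) : Set G) :=
        Subgroup.mem_inf.mpr ⟨Subgroup.mem_zpowers _, h6⟩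
      exact (Subgroup.mem_inf.mp (h8.le h9)).2
    have h10 : g * b * g⁻¹ ∈ (P : Subgroup G) := by
      have : g * b * g⁻¹ = (g * u * g⁻¹)⁻¹ * (g * a * g⁻¹) := by rw [hu]; group
      rw [this]
      exact Subgroup.mul_mem _ (Subgroup.inv_mem _ (hgA u huA)) h7
    have h11 : g * y' * g⁻¹ ∈ (P : Subgroup G) := by
      have : g * y' * g⁻¹ = (g * a * g⁻¹) * (g * b * g⁻¹) := by rw [← hmul]; group
      rw [this]
      exact Subgroup.mul_mem _ h7 h10
    have h12 : g ∈ Subgroup.normalizer ((P : Subgroup G) : Set G) :=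
      mem_normalizer_of_conj_mem P hab hcent hy' hy'1 h11
    rw [Subgroup.mem_normalizer_iff] at h12
    exact ⟨(h12 a).mpr h7, (h12 b).mpr h10⟩
  · -- `A` has no element of order 3 : then `a b` is conjugate to `a⁻¹`
    exfalso
    have h3' : ∀ x ∈ A, orderOf x ≠ 3 := fun x hx h => h3 ⟨x, hx, h⟩
    have hfpf : ∀ x ∈ A, x * a = a * x → x = 1 := by
      intro x hx hxa
      by_contra hx1
      have h4 := conj_mem_of_commute P hcent c⁻¹ hcya ha1 hxa
      have h5 := hexp _ h4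
      have h6 : x ^ 3 = 1 := by
        rw [conj_pow] at h5
        have : x ^ 3 = c * (c⁻¹ * x ^ 3 * c⁻¹⁻¹) * c⁻¹ := by group
        rw [this, h5]; group
      exact h3' x hx (orderOf_eq_prime h6 hx1)
    haveI : Finite A := inferInstance
    -- the map `x ↦ x⁻¹ (a⁻¹ x a)` on `A`
    let φ : A → A := fun x => ⟨(x : G)⁻¹ * (a⁻¹ * (x : G) * a),
      Subgroup.mul_mem _ (Subgroup.inv_mem _ x.2) (hκ x x.2)⟩
    have hφinj : Function.Injective φ := by
      intro x z hxz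
      have h4 : (x : G)⁻¹ * (a⁻¹ * (x : G) * a) = (z : G)⁻¹ * (a⁻¹ * (z : G) * a) :=
        congrArg Subtype.val hxz
      have hxz' : (x : G) * (z : G)⁻¹ ∈ A := Subgroup.mul_mem _ x.2 (Subgroup.inv_mem _ z.2)
      have e3 : a⁻¹ * (x : G) * a = (x : G) * ((z : G)⁻¹ * (a⁻¹ * (z : G) * a)) := by
        rw [← h4]; group
      have e2 : a⁻¹ * ((x : G) * (z : G)⁻¹) * a
          = (a⁻¹ * (x : G) * a) * (a⁻¹ * (z : G) * a)⁻¹ := by group
      have e1 : a⁻¹ * ((x : G) * (z : G)⁻¹) * a = (x : G) * (z : G)⁻¹ := by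
        rw [e2, e3]; group
      have h5 : (x : G) * (z : G)⁻¹ * a = a * ((x : G) * (z : G)⁻¹) := by
        have e5 : (x : G) * (z : G)⁻¹ * a = a * (a⁻¹ * ((x : G) * (z : G)⁻¹) * a) := by group
        rw [e5, e1]
      have h6 := hfpf _ hxz' h5
      exact Subtype.ext (mul_inv_eq_one.mp h6)
    have hφsurj : Function.Surjective φ := Finite.injective_iff_surjective.mp hφinj
    obtain ⟨v', hv'⟩ : ∃ v' : G, v' = a⁻¹ * u⁻¹ * a := ⟨_, rfl⟩
    have hv'A : v' ∈ A := by rw [hv']; exact hκ _ (Subgroup.inv_mem _ huA)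
    have hab' : a * b = a⁻¹ * v' := by
      rw [hv', hu]
      have e6 : a = a⁻¹ * a⁻¹ := (inv_mul_inv_of_cube ha3).symm
      calc a * b = (a⁻¹ * a⁻¹) * b := by rw [← e6]
        _ = a⁻¹ * (a⁻¹ * (a * b⁻¹)⁻¹ * a) := by group
    obtain ⟨z, hz⟩ := hφsurj ⟨v'⁻¹, Subgroup.inv_mem _ hv'A⟩
    have hz' : (z : G)⁻¹ * (a⁻¹ * (z : G) * a) = v'⁻¹ := congrArg Subtype.val hz
    have hconj : (a⁻¹ * (z : G) * a) * a⁻¹ * (a⁻¹ * (z : G) * a)⁻¹ = a * b := by
      rw [hab']
      have e1 : v' = (a⁻¹ * (z : G) * a)⁻¹ * (z : G) := by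
        have : v' = ((z : G)⁻¹ * (a⁻¹ * (z : G) * a))⁻¹ := by rw [hz', inv_inv]
        rw [this]; group
      have e2 : (a⁻¹ * (z : G) * a)⁻¹ * (z : G) = (z : G) * (a⁻¹ * (z : G) * a)⁻¹ :=
        hAcomm _ (Subgroup.inv_mem _ (hκ z z.2)) _ z.2
      rw [e1, e2]
      group
    have h13 : IsConj a⁻¹ (a * b) := isConj_iff.mpr ⟨_, hconj⟩
    have h14 : IsConj y⁻¹ a⁻¹ := by
      rw [isConj_iff]
      refine ⟨c, ?_⟩
      rw [← hc]; group
    apply hnc
    rw [← hmul]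
    exact hinv.trans (h14.trans h13)

end main

end Cfsg.Agent.Lib.Helper6.Tn
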