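import Mathlib
import Cfsg.Agent.Lib.Helper6.TnB

/-! # A Sylow 3-subgroup of exponent 3 with `C(s) ≤ N(P)` for `s ≠ 1`: fusion and the
`(3,3,3)`-triangle lemma (no semiregularity assumed) -/

set_option autoImplicit false
open Cfsg

namespace Cfsg.Agent.Lib.Helper6.Tv

section prelim

variable {G : Type*} [Group G] [Finite G]

/-- an identity in an additive commutative group -/
theorem add_id3 {H : Type*} [AddCommGroup H] (x y z : H) :
    -(x + x + y) + -(x + y + z) + (y + y + z) = -(x + x + x) := by abel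

/-- the same identity for three pairwise commuting elements of a group -/
theorem comm_id3 (x y z : G) (hxy : x * y = y * x) (hxz : x * z = z * x) (hyz : y * z = z * y) :
    (x * x * y)⁻¹ * (x * y * z)⁻¹ * (y * y * z) = (x * x * x)⁻¹ := by
  have hc : ∀ p ∈ ({x, y, z} : Set G), ∀ q ∈ ({x, y, z} : Set G), p * q = q * p := by
    intro p hp q hq
    simp only [Set.mem_insert_iff, Set.mem_singleton_iff] at hp hq
    rcases hp with rfl | rfl | rfl <;> rcases hq with rfl | rfl | rfl <;>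
      first | rfl | assumption | (symm; assumption)
  letI : CommGroup (Subgroup.closure ({x, y, z} : Set G)) := Subgroup.closureCommGroupOfComm hc
  have hx : x ∈ Subgroup.closure ({x, y, z} : Set G) := Subgroup.subset_closure (by simp)
  have hy : y ∈ Subgroup.closure ({x, y, z} : Set G) := Subgroup.subset_closure (by simp)
  have hz : z ∈ Subgroup.closure ({x, y, z} : Set G) := Subgroup.subset_closure (by simp)
  have h := add_id3 (H := Additive (Subgroup.closure ({x, y, z} : Set G)))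
    (Additive.ofMul ⟨x, hx⟩) (Additive.ofMul ⟨y, hy⟩) (Additive.ofMul ⟨z, hz⟩)
  have h' : ((⟨x, hx⟩ : Subgroup.closure ({x, y, z} : Set G)) * ⟨x, hx⟩ * ⟨y, hy⟩)⁻¹
      * (⟨x, hx⟩ * ⟨y, hy⟩ * ⟨z, hz⟩)⁻¹ * (⟨y, hy⟩ * ⟨y, hy⟩ * ⟨z, hz⟩)
      = (⟨x, hx⟩ * ⟨x, hx⟩ * ⟨x, hx⟩)⁻¹ := h
  exact congrArg Subtype.val h'

variable (P : Sylow 3 G)

/-- a `3`-element of the normalizer of `P` lies in `P` -/
theorem mem_of_cube {g : G} (hg : g ∈ Subgroup.normalizer ((P : Subgroup G) : Set G))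
    (h3 : g ^ 3 = 1) : g ∈ (P : Subgroup G) := by
  haveI : Fact (Nat.Prime 3) := ⟨Nat.prime_three⟩
  have hpg : IsPGroup 3 (Subgroup.zpowers g) := by
    intro w
    obtain ⟨k, hk⟩ := Subgroup.mem_zpowers_iff.mp w.2
    refine ⟨1, Subtype.ext ?_⟩
    rw [pow_one]
    simp only [Subgroup.coe_pow, Subgroup.coe_one]
    rw [← hk, ← zpow_natCast, ← zpow_mul, mul_comm, zpow_mul, zpow_natCast, h3, one_zpow]
  have h8 := hpg.inf_normalizer_sylow P
  have h9 : g ∈ Subgroup.zpowers g ⊓ Subgroup.normalizer ((P : Subgroup G) : Set G) :=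
    Subgroup.mem_inf.mpr ⟨Subgroup.mem_zpowers _, hg⟩
  exact (Subgroup.mem_inf.mp (h8.le h9)).2

variable (hloc : ∀ s ∈ (P : Subgroup G), s ≠ 1 →
  Subgroup.centralizer ({s} : Set G) ≤ Subgroup.normalizer ((P : Subgroup G) : Set G))

include hloc

/-- a `3`-element commuting with a nonidentity element of `P` lies in `P` -/
theorem mem_of_commute {y x : G} (hy : y ∈ (P : Subgroup G)) (hy1 : y ≠ 1)
    (hx : x * y = y * x) (h3 : x ^ 3 = 1) : x ∈ (P : Subgroup G) := by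
  apply mem_of_cube P _ h3
  apply hloc y hy hy1
  rw [Subgroup.mem_centralizer_singleton_iff]
  exact hx

variable (hcomm : ∀ x ∈ (P : Subgroup G), ∀ y ∈ (P : Subgroup G), x * y = y * x)
  (hexp : ∀ x ∈ (P : Subgroup G), x ^ 3 = 1)

include hcomm hexp

theorem conj_mem_aux {g s h : G} (hs : s ∈ (P : Subgroup G)) (hs1 : s ≠ 1)
    (hgs : g * s * g⁻¹ ∈ (P : Subgroup G)) (hh : h ∈ (P : Subgroup G)) :
    g * h * g⁻¹ ∈ (P : Subgroup G) := by
  have h1 : g * s * g⁻¹ ≠ 1 := by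
    intro h
    apply hs1
    have : s = g⁻¹ * (g * s * g⁻¹) * g := by group
    rw [this, h]; group
  apply mem_of_commute P hloc hgs h1
  · calc g * h * g⁻¹ * (g * s * g⁻¹) = g * (h * s) * g⁻¹ := by group
      _ = g * (s * h) * g⁻¹ := by rw [hcomm h hh s hs]
      _ = g * s * g⁻¹ * (g * h * g⁻¹) := by group
  · rw [conj_pow, hexp h hh]; group

/-- `P` is a trivial intersection subgroup: fusion in `P` is controlled by `N(P)` -/
theorem mem_normalizer_of_conj {g s : G} (hs : s ∈ (P : Subgroup G)) (hs1 : s ≠ 1)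
    (hgs : g * s * g⁻¹ ∈ (P : Subgroup G)) :
    g ∈ Subgroup.normalizer ((P : Subgroup G) : Set G) := by
  have h1 : g * s * g⁻¹ ≠ 1 := by
    intro h
    apply hs1
    have : s = g⁻¹ * (g * s * g⁻¹) * g := by group
    rw [this, h]; group
  rw [Subgroup.mem_normalizer_iff]
  intro h
  constructor
  · intro hh
    exact conj_mem_aux P hloc hcomm hexp hs hs1 hgs hh
  · intro hh
    have h2 : g⁻¹ * (g * s * g⁻¹) * g⁻¹⁻¹ ∈ (P : Subgroup G) := by
      have : g⁻¹ * (g * s * g⁻¹) * g⁻¹⁻¹ = s := by group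
      rw [this]; exact hs
    have h3 := conj_mem_aux P hloc hcomm hexp hgs h1 h2 hh
    have : g⁻¹ * (g * h * g⁻¹) * g⁻¹⁻¹ = h := by group
    rw [this] at h3
    exact h3

/-- the `(3,3,3)`-triangle lemma: if `a³ = b³ = 1`, `a b ∈ P \ 1` and `a` is not conjugate to
`(a b)⁻¹`, then `a, b ∈ P` -/
theorem mem_of_mul (a b : G) (ha3 : a ^ 3 = 1) (hb3 : b ^ 3 = 1)
    (hw : a * b ∈ (P : Subgroup G)) (hw1 : a * b ≠ 1) (hnc : ¬ IsConj a (a * b)⁻¹) :
    a ∈ (P : Subgroup G) ∧ b ∈ (P : Subgroup G) := by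
  classical
  haveI : Fintype G := Fintype.ofFinite G
  haveI : Fact (Nat.Prime 3) := ⟨Nat.prime_three⟩
  have hab3 : (a * b) ^ 3 = 1 := hexp _ hw
  obtain ⟨u, hu⟩ : ∃ u : G, u = a * b⁻¹ := ⟨_, rfl⟩
  obtain ⟨u', hu'⟩ : ∃ u' : G, u' = b⁻¹ * a := ⟨_, rfl⟩
  have huu' : u * u' = u' * u := by rw [hu, hu']; exact Tn.comm_of_cube a b ha3 hb3 hab3
  obtain ⟨A, hA⟩ : ∃ A : Subgroup G, A = Subgroup.closure ({u, u'} : Set G) := ⟨_, rfl⟩
  have huA : u ∈ A := by rw [hA]; exact Subgroup.subset_closure (by simp)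
  have hu'A : u' ∈ A := by rw [hA]; exact Subgroup.subset_closure (by simp)
  have hAcomm : ∀ x ∈ A, ∀ z ∈ A, x * z = z * x := by
    rw [hA]; exact Tn.closure_pair_comm u u' huu'
  -- conjugation by `a⁻¹` maps `A` into itself
  have hκ : ∀ x ∈ A, a⁻¹ * x * a ∈ A := by
    intro x hx
    rw [hA] at hx
    induction hx using Subgroup.closure_induction with
    | mem w hw =>
      rcases hw with rfl | hw
      · have : a⁻¹ * w * a = u' := by rw [hu', hu]; group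
        rw [this]; exact hu'A
      · rw [Set.mem_singleton_iff] at hw
        have h1 : u * u' = a * b * a := by
          rw [hu, hu']
          calc a * b⁻¹ * (b⁻¹ * a) = a * (b⁻¹ * b⁻¹) * a := by group
            _ = a * b * a := by rw [Tn.inv_mul_inv_of_cube hb3]
        have : a⁻¹ * w * a = (u * u')⁻¹ := by
          rw [h1, hw, hu']
          calc a⁻¹ * (b⁻¹ * a) * a = a⁻¹ * b⁻¹ * (a * a) := by group
            _ = a⁻¹ * b⁻¹ * a⁻¹ := by rw [Tn.mul_self_of_cube ha3]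
            _ = (a * b * a)⁻¹ := by group
        rw [this]
        exact Subgroup.inv_mem _ (Subgroup.mul_mem _ huA hu'A)
    | one => simp
    | mul x z _ _ hx hz =>
      have : a⁻¹ * (x * z) * a = (a⁻¹ * x * a) * (a⁻¹ * z * a) := by group
      rw [this]; exact Subgroup.mul_mem _ hx hz
    | inv x _ hx =>
      have : a⁻¹ * x⁻¹ * a = (a⁻¹ * x * a)⁻¹ := by group
      rw [this]; exact Subgroup.inv_mem _ hx
  obtain ⟨v', hv'⟩ : ∃ v' : G, v' = a⁻¹ * u⁻¹ * a := ⟨_, rfl⟩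
  have hv'A : v' ∈ A := by rw [hv']; exact hκ _ (Subgroup.inv_mem _ huA)
  have hab' : a * b = a⁻¹ * v' := by
    rw [hv', hu]
    have e6 : a = a⁻¹ * a⁻¹ := (Tn.inv_mul_inv_of_cube ha3).symm
    calc a * b = (a⁻¹ * a⁻¹) * b := by rw [← e6]
      _ = a⁻¹ * (a⁻¹ * (a * b⁻¹)⁻¹ * a) := by group
  by_cases h3 : ∃ x ∈ A, x ≠ 1 ∧ x ^ 3 = 1
  · -- `A` contains an element of order 3
    obtain ⟨x, hxA, hx1, hx3⟩ := h3
    have hxo : orderOf x = 3 := orderOf_eq_prime hx3 hx1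
    obtain ⟨g, hg⟩ := exists_conj_mem_sylow_of_pElement P x ⟨1, by rw [hxo, pow_one]⟩
    have hgx1 : g * x * g⁻¹ ≠ 1 := by
      intro h
      apply hx1
      have : x = g⁻¹ * (g * x * g⁻¹) * g := by group
      rw [this, h]; group
    -- elements of `A` are conjugated into `C(g x g⁻¹)`
    have hgcomm : ∀ z ∈ A, g * z * g⁻¹ * (g * x * g⁻¹) = g * x * g⁻¹ * (g * z * g⁻¹) := by
      intro z hz
      calc g * z * g⁻¹ * (g * x * g⁻¹) = g * (z * x) * g⁻¹ := by group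
        _ = g * (x * z) * g⁻¹ := by rw [hAcomm z hz x hxA]
        _ = g * x * g⁻¹ * (g * z * g⁻¹) := by group
    have hgN : ∀ z ∈ A, g * z * g⁻¹ ∈ Subgroup.normalizer ((P : Subgroup G) : Set G) := by
      intro z hz
      apply hloc _ hg hgx1
      rw [Subgroup.mem_centralizer_singleton_iff]
      exact hgcomm z hz
    have hgP : ∀ z ∈ A, z ^ 3 = 1 → g * z * g⁻¹ ∈ (P : Subgroup G) := by
      intro z hz hz3
      apply mem_of_cube P (hgN z hz)
      rw [conj_pow, hz3]; group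
    -- `g a⁻¹ g⁻¹` normalizes `P`
    have h4 : (g * a * g⁻¹)⁻¹ * (g * x * g⁻¹) * (g * a * g⁻¹)⁻¹⁻¹ ∈ (P : Subgroup G) := by
      have : (g * a * g⁻¹)⁻¹ * (g * x * g⁻¹) * (g * a * g⁻¹)⁻¹⁻¹ = g * (a⁻¹ * x * a) * g⁻¹ := by
        group
      rw [this]
      apply hgP _ (hκ x hxA)
      rw [show a⁻¹ * x * a = a⁻¹ * x * a⁻¹⁻¹ by group, conj_pow, hx3]; group
    have h5 : (g * a * g⁻¹)⁻¹ ∈ Subgroup.normalizer ((P : Subgroup G) : Set G) :=
      mem_normalizer_of_conj P hloc hcomm hexp hg hgx1 h4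
    have h6 : g * a * g⁻¹ ∈ Subgroup.normalizer ((P : Subgroup G) : Set G) := by
      have := Subgroup.inv_mem _ h5
      rwa [inv_inv] at this
    have h7 : g * a * g⁻¹ ∈ (P : Subgroup G) := by
      apply mem_of_cube P h6
      rw [conj_pow, ha3]; group
    have h10' : g * b * g⁻¹ ∈ Subgroup.normalizer ((P : Subgroup G) : Set G) := by
      have : g * b * g⁻¹ = (g * u * g⁻¹)⁻¹ * (g * a * g⁻¹) := by rw [hu]; group
      rw [this]
      exact Subgroup.mul_mem _ (Subgroup.inv_mem _ (hgN u huA)) h6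
    have h10 : g * b * g⁻¹ ∈ (P : Subgroup G) := by
      apply mem_of_cube P h10'
      rw [conj_pow, hb3]; group
    have h11 : g * (a * b) * g⁻¹ ∈ (P : Subgroup G) := by
      have : g * (a * b) * g⁻¹ = (g * a * g⁻¹) * (g * b * g⁻¹) := by group
      rw [this]
      exact Subgroup.mul_mem _ h7 h10
    have h12 : g ∈ Subgroup.normalizer ((P : Subgroup G) : Set G) :=
      mem_normalizer_of_conj P hloc hcomm hexp hw hw1 h11
    rw [Subgroup.mem_normalizer_iff] at h12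
    exact ⟨(h12 a).mpr h7, (h12 b).mpr h10⟩
  · -- `A` has no element of order 3 : then `a b` is conjugate to `a⁻¹`
    exfalso
    have h3' : ∀ x ∈ A, x ^ 3 = 1 → x = 1 := by
      intro x hx hx3
      by_contra hx1
      exact h3 ⟨x, hx, hx1, hx3⟩
    -- cubing is a bijection of `A`
    let cube : A → A := fun x => x ^ 3
    have hcinj : Function.Injective cube := by
      intro x z hxz
      have h4 : (x : G) ^ 3 = (z : G) ^ 3 := by
        have := congrArg Subtype.val hxz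
        simpa [cube] using this
      have hxz' : (x : G) * (z : G)⁻¹ ∈ A := Subgroup.mul_mem _ x.2 (Subgroup.inv_mem _ z.2)
      have hc : Commute (x : G) (z : G)⁻¹ := hAcomm _ x.2 _ (Subgroup.inv_mem _ z.2)
      have h5 : ((x : G) * (z : G)⁻¹) ^ 3 = 1 := by
        rw [hc.mul_pow, inv_pow, h4, mul_inv_cancel]
      exact Subtype.ext (mul_inv_eq_one.mp (h3' _ hxz' h5))
    have hcsurj : Function.Surjective cube := Finite.injective_iff_surjective.mp hcinj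
    obtain ⟨v₀', hv₀'⟩ := hcsurj ⟨v'⁻¹, Subgroup.inv_mem _ hv'A⟩
    obtain ⟨v₀, hv₀A, hv₀⟩ : ∃ v₀ : G, v₀ ∈ A ∧ v₀ * v₀ * v₀ = v'⁻¹ := by
      refine ⟨(v₀' : G), v₀'.2, ?_⟩
      have := congrArg Subtype.val hv₀'
      simp only [cube, Subgroup.coe_pow] at this
      rw [← this, pow_succ, pow_two]
    obtain ⟨k1, hk1⟩ : ∃ k1 : G, k1 = a⁻¹ * v₀ * a := ⟨_, rfl⟩
    obtain ⟨k2, hk2⟩ : ∃ k2 : G, k2 = a⁻¹ * k1 * a := ⟨_, rfl⟩
    have hk1A : k1 ∈ A := by rw [hk1]; exact hκ _ hv₀A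
    have hk2A : k2 ∈ A := by rw [hk2]; exact hκ _ hk1A
    have hk3 : a⁻¹ * k2 * a = v₀ := by
      rw [hk2, hk1]
      have e1 : a⁻¹ * (a⁻¹ * (a⁻¹ * v₀ * a) * a) * a = (a ^ 3)⁻¹ * v₀ * a ^ 3 := by
        rw [pow_succ, pow_two]; group
      rw [e1, ha3]; group
    obtain ⟨f, hf⟩ : ∃ f : G, f = v₀ * k1 * k2 := ⟨_, rfl⟩
    have hfA : f ∈ A := by
      rw [hf]; exact Subgroup.mul_mem _ (Subgroup.mul_mem _ hv₀A hk1A) hk2A
    have h01 : v₀ * k1 = k1 * v₀ := hAcomm _ hv₀A _ hk1A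
    have h02 : v₀ * k2 = k2 * v₀ := hAcomm _ hv₀A _ hk2A
    have h12 : k1 * k2 = k2 * k1 := hAcomm _ hk1A _ hk2A
    have hfa : a⁻¹ * f * a = f := by
      have e1 : a⁻¹ * f * a = (a⁻¹ * v₀ * a) * (a⁻¹ * k1 * a) * (a⁻¹ * k2 * a) := by
        rw [hf]; group
      rw [e1, ← hk1, ← hk2, hk3, hf]
      calc k1 * k2 * v₀ = k1 * (k2 * v₀) := by group
        _ = k1 * (v₀ * k2) := by rw [h02]
        _ = (k1 * v₀) * k2 := by group
        _ = v₀ * k1 * k2 := by rw [h01]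
    have hfcomm : Commute a⁻¹ f⁻¹ := by
      have e1 : f * a = a * f := by
        calc f * a = a * (a⁻¹ * f * a) := by group
          _ = a * f := by rw [hfa]
      have e2 : Commute f a := e1
      exact (e2.inv_inv).symm
    obtain ⟨z, hz⟩ : ∃ z : G, z = (v₀ * v₀ * k1)⁻¹ := ⟨_, rfl⟩
    have hzA : z ∈ A := by
      rw [hz]
      exact Subgroup.inv_mem _ (Subgroup.mul_mem _ (Subgroup.mul_mem _ hv₀A hv₀A) hk1A)
    have hκz : a⁻¹ * z * a = (k1 * k1 * k2)⁻¹ := by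
      rw [hz, hk2, hk1]; group
    -- `a b` is conjugate to `a⁻¹ f⁻¹`
    have hconj : (a⁻¹ * z * a) * (a⁻¹ * f⁻¹) * (a⁻¹ * z * a)⁻¹ = a * b := by
      rw [hab']
      have e1 : (a⁻¹ * z * a) * (a⁻¹ * f⁻¹) * (a⁻¹ * z * a)⁻¹
          = a⁻¹ * (z * f⁻¹ * (a⁻¹ * z * a)⁻¹) := by group
      rw [e1, hκz, hz, hf, inv_inv]
      have e2 := comm_id3 v₀ k1 k2 h01 h02 h12
      have e3 : v' = (v₀ * v₀ * v₀)⁻¹ := by rw [hv₀, inv_inv]
      rw [e3, ← e2]
    have hf1 : f = 1 := by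
      apply h3' f hfA
      have e1 : ((a⁻¹ * z * a) * (a⁻¹ * f⁻¹) * (a⁻¹ * z * a)⁻¹) ^ 3 = 1 := by
        rw [hconj]; exact hab3
      rw [conj_pow] at e1
      have e2 : (a⁻¹ * f⁻¹) ^ 3 = 1 := by
        have : (a⁻¹ * f⁻¹) ^ 3 = (a⁻¹ * z * a)⁻¹
            * ((a⁻¹ * z * a) * (a⁻¹ * f⁻¹) ^ 3 * (a⁻¹ * z * a)⁻¹) * (a⁻¹ * z * a) := by group
        rw [this, e1]; group
      rw [hfcomm.mul_pow, inv_pow, ha3, inv_one, one_mul, inv_pow, inv_eq_one] at e2
      exact e2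
    apply hnc
    rw [isConj_comm, isConj_iff]
    refine ⟨(a⁻¹ * z * a)⁻¹, ?_⟩
    rw [← hconj, hf1]
    group

end prelim

end Cfsg.Agent.Lib.Helper6.Tv
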