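import Mathlib
import Cfsg.Prelude.Def_Blocks
import Cfsg.Agent.Lib.Helper6.BlkSupport
import Cfsg.Agent.Lib.Helper6.BlkPReg

set_option autoImplicit false
set_option linter.unusedSectionVars false
open Cfsg

namespace Cfsg.Agent.Lib.Helper6

section

variable {G : Type*} [Group G] [Fintype G] [DecidableEq G]
variable {p : ℕ} {M : Ideal Cfsg.AlgInt}

theorem centralChar_one (χ : G → ℂ) (h : χ 1 ≠ 0) : Cfsg.centralChar χ 1 = 1 := by
  unfold Cfsg.centralChar
  have : Subgroup.centralizer ({1} : Set G) = ⊤ := by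
    ext x
    simp [Subgroup.mem_centralizer_iff]
  rw [this, Subgroup.index_top, Nat.cast_one, one_mul, div_self h]

/-- **A group with a self-centralizing normal `p`-subgroup has a single `p`-block.** -/
theorem sameBlock_of_centralizer_le (hM : Cfsg.IsPModular p M) [Fact p.Prime]
    (Q : Subgroup G) [hQn : Q.Normal] (hQ : IsPGroup p Q)
    (hC : Subgroup.centralizer (Q : Set G) ≤ Q) (χ ψ : Cfsg.IrrCharacter G) :
    Cfsg.SameBlock M (χ : G → ℂ) (ψ : G → ℂ) := by
  have hp : p.Prime := hM.1
  apply sameBlock_of_forall_pRegular hM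
  intro g hg
  by_cases hg1 : g = 1
  · rw [hg1, centralChar_one _ (IsIrrCharacter.apply_one_ne_zero χ.2),
      centralChar_one _ (IsIrrCharacter.apply_one_ne_zero ψ.2), sub_self]
    exact memLocalIdeal_zero hM
  · have hgC : g ∉ Subgroup.centralizer (Q : Set G) := by
      intro hgC
      apply hg1
      obtain ⟨k, hk⟩ := (IsPGroup.iff_orderOf.mp hQ) ⟨g, hC hgC⟩
      rw [Subgroup.orderOf_mk] at hk
      rcases Nat.eq_zero_or_pos k with rfl | hkpos
      · rw [pow_zero, orderOf_eq_one_iff] at hk
        exact hk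
      · exfalso
        apply hg
        rw [hk]
        exact dvd_pow_self p hkpos.ne'
    exact MemLocalIdeal.sub hM
      (centralChar_memLocalIdeal_of_not_mem_centralizer hM Q hQ χ g hgC)
      (centralChar_memLocalIdeal_of_not_mem_centralizer hM Q hQ ψ g hgC)

end

end Cfsg.Agent.Lib.Helper6
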