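import Mathlib
import Cfsg.Prelude.Def_Blocks
import Cfsg.Agent.Lib.Helper6.BLSec
import Cfsg.Agent.Lib.Helper6.BlkUniqueBlock
import Cfsg.Agent.Lib.Helper6.BlkLocal
import Cfsg.Agent.Lib.Helper6.Auto
import Cfsg.Agent.Lib.Helper8.GlE

/-! # Character-theoretic generalities for a Sylow 3-subgroup with `C(s) ≤ N(P)`:
multiplicities on cyclic subgroups, vanishing outside the principal block, non-vanishing inside -/

set_option autoImplicit false
set_option linter.unusedSectionVars false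
open Cfsg

namespace Cfsg.Agent.Lib.Helper6.Tv

open scoped ComplexConjugate
open Cfsg.Agent.Lib.Helper6

section cyc

variable {G : Type*} [Group G] [Fintype G]

/-- the multiplicity of a linear character of a cyclic subgroup in a character of `G` -/
theorem cyclic_mult {χ : G → ℂ} (hχ : Cfsg.IsCharacter G χ) (c : G) (n : ℕ) (hn : orderOf c = n)
    (hn0 : 0 < n) (z : ℂ) (hz : z ^ n = 1) :
    ∃ m : ℕ, ∑ k ∈ Finset.range n, χ (c ^ k) * conj (z ^ k) = (n : ℂ) * (m : ℂ) := by
  classical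
  haveI : Fintype (Subgroup.zpowers c) := Fintype.ofFinite _
  obtain ⟨lam, hlam⟩ := Cfsg.Agent.Lib.Helper8.Gl.exists_hom_zpowers c n hn z hz hn0
  have hres := IsCharacter.restrict (Subgroup.zpowers c) hχ
  obtain ⟨m, hm⟩ := IsCharacter.classInner_irr_nat hres (isIrrCharacter_of_hom lam)
  refine ⟨m, ?_⟩
  unfold Cfsg.classInner at hm
  rw [Cfsg.Agent.Lib.Helper8.Gl.sum_zpowers c n hn] at hm
  have hcard : Nat.card (Subgroup.zpowers c) = n := by rw [Nat.card_zpowers, hn]
  rw [hcard] at hm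
  have hn0' : (n : ℂ) ≠ 0 := by exact_mod_cast hn0.ne'
  have h2 : ∑ k ∈ Finset.range n, χ (c ^ k) * conj (z ^ k)
      = ∑ k ∈ Finset.range n, (fun h : Subgroup.zpowers c => χ h)
          ⟨c ^ k, Subgroup.npow_mem_zpowers c k⟩
          * conj ((lam ⟨c ^ k, Subgroup.npow_mem_zpowers c k⟩ : ℂˣ) : ℂ) := by
    apply Finset.sum_congr rfl
    intro k _
    rw [hlam k]
  rw [h2]
  rw [← hm]
  field_simp

end cyc

section blk

variable {G : Type*} [Group G] [Fintype G] [DecidableEq G]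
variable {M : Ideal Cfsg.AlgInt}

/-- a character in the principal block does not vanish on a class of size prime to `3` -/
theorem ne_zero_of_principal (hM : Cfsg.IsPModular 3 M) (χ : Cfsg.IrrCharacter G)
    (hχ : χ ∈ Cfsg.principalBlock M G) (x : G)
    (hidx : ¬ 3 ∣ (Subgroup.centralizer ({x} : Set G)).index) : (χ : G → ℂ) x ≠ 0 := by
  intro h0
  have h1 := hχ x
  unfold Cfsg.centralChar at h1
  rw [h0] at h1
  simp only [mul_one, div_one, mul_zero, zero_div, sub_zero] at h1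
  exact hidx ((memLocalIdeal_natCast_iff hM _).mp h1)

open Classical in
/-- characters outside the principal block vanish on the `3`-section of a nonidentity element
of `P` -/
theorem vanish_section (hM : Cfsg.IsPModular 3 M) (P : Sylow 3 G)
    (hcomm : ∀ x ∈ (P : Subgroup G), ∀ y ∈ (P : Subgroup G), x * y = y * x)
    (hCP : Subgroup.centralizer ((P : Subgroup G) : Set G) ≤ (P : Subgroup G))
    (hloc : ∀ s ∈ (P : Subgroup G), s ≠ 1 →
      Subgroup.centralizer ({s} : Set G) ≤ Subgroup.normalizer ((P : Subgroup G) : Set G))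
    (χ : Cfsg.IrrCharacter G) (hχ : χ ∉ Cfsg.principalBlock M G)
    (x : G) (hx : x ∈ (P : Subgroup G)) (hx1 : x ≠ 1)
    (y : G) (hy : y * x = x * y) (hy3 : ¬ 3 ∣ orderOf y) : (χ : G → ℂ) (x * y) = 0 := by
  classical
  haveI : Fact (Nat.Prime 3) := ⟨Nat.prime_three⟩
  obtain ⟨H, hH⟩ : ∃ H : Subgroup G, H = Subgroup.centralizer ({x} : Set G) := ⟨_, rfl⟩
  haveI : Fintype H := Fintype.ofFinite _
  haveI : Fintype (Cfsg.IrrCharacter H) := Fintype.ofFinite _
  have hmemH : ∀ g : G, g ∈ H ↔ g * x = x * g := by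
    intro g
    rw [hH, Subgroup.mem_centralizer_singleton_iff]
  have hxo : ∃ k : ℕ, orderOf x = 3 ^ k := by
    obtain ⟨k, hk⟩ := (IsPGroup.iff_orderOf.mp P.2) ⟨x, hx⟩
    exact ⟨k, by rw [← hk, Subgroup.orderOf_mk]⟩
  have hPH : ∀ p ∈ (P : Subgroup G), p ∈ H := fun p hp => (hmemH p).mpr (hcomm p hp x hx)
  have hHN : ∀ h ∈ H, h ∈ Subgroup.normalizer ((P : Subgroup G) : Set G) := by
    intro h hh
    rw [hH] at hh
    exact hloc x hx hx1 hh
  -- the normal `3`-subgroup `Q = P ∩ H` of `H` is self-centralizing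
  obtain ⟨Q, hQdef⟩ : ∃ Q : Subgroup H, Q = (P : Subgroup G).subgroupOf H := ⟨_, rfl⟩
  have hmemQ : ∀ h : H, h ∈ Q ↔ (h : G) ∈ (P : Subgroup G) := by
    intro h
    rw [hQdef, Subgroup.mem_subgroupOf]
  haveI hQn : Q.Normal := by
    constructor
    intro n hn g
    rw [hmemQ] at hn ⊢
    have := hHN g g.2
    rw [Subgroup.mem_normalizer_iff] at this
    simpa using (this n).mp hn
  have hQp : IsPGroup 3 Q := by
    rw [hQdef]
    exact P.2.comap_subtype
  have hQC : Subgroup.centralizer (Q : Set H) ≤ Q := by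
    intro h hh
    rw [hmemQ]
    apply hCP
    rw [Subgroup.mem_centralizer_iff]
    intro p hp
    rw [Subgroup.mem_centralizer_iff] at hh
    have := hh ⟨p, hPH p hp⟩ ((hmemQ _).mpr hp)
    exact congrArg Subtype.val this
  have hall : Cfsg.principalBlock M H = Set.univ := by
    ext ξ
    simp only [Set.mem_univ, iff_true]
    exact sameBlock_of_centralizer_le hM Q hQp hQC (oneIrr H) ξ
  obtain ⟨ϑ, hϑdef⟩ : ∃ ϑ : H → ℂ, ϑ = fun c : H => (χ : G → ℂ) (x * (c : G)) := ⟨_, rfl⟩
  have hϑ : Cfsg.IsClassFunction H ϑ := by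
    intro g h
    rw [hϑdef]
    simp only [Subgroup.coe_mul, Subgroup.coe_inv]
    have hcx : (h : G) * x = x * (h : G) := (hmemH h).mp h.2
    have e : x * ((h : G) * (g : G) * (h : G)⁻¹) = (h : G) * (x * (g : G)) * (h : G)⁻¹ := by
      rw [← mul_assoc, ← mul_assoc, ← hcx]
      group
    rw [e]
    exact IsIrrCharacter.isClassFunction χ.2 _ _
  have hnot : ¬ Cfsg.IsInducedBlock M H (Cfsg.principalBlock M H)
      (Cfsg.blockOf M (χ : G → ℂ)) := by
    intro hind
    have h1 := (Cfsg.Agent.S0936.result 3 M hM H (Cfsg.principalBlock M H) ⟨_, hind⟩).mpr rfl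
    have h2 := IsInducedBlock.unique H hM hind h1
    apply hχ
    rw [← h2]
    exact sameBlock_refl hM _
  have hyH : y ∈ H := (hmemH y).mpr hy
  have h0 := second_main_chars hM x hxo H hH (B := Cfsg.blockOf M (χ : G → ℂ)) ⟨χ, rfl⟩ χ
    (sameBlock_refl hM _) (isPBlock_principalBlock (M := M) (G := H)) hnot ⟨y, hyH⟩
    (by rw [Subgroup.orderOf_mk]; exact hy3)
  rw [hall, ← hϑdef, blockPart_univ hϑ] at h0
  rw [hϑdef] at h0
  exact h0

end blk

end Cfsg.Agent.Lib.Helper6.Tv
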