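import Mathlib

/-! # Local data for a Sylow 3-subgroup `3²` whose normalizer is `S₃ × S₃` -/

set_option autoImplicit false

namespace Cfsg.Agent.Lib.Helper6.Tv

/-- `N(P) = P ⋊ ⟨t₁, t₂⟩` with `P = ⟨a⟩ × ⟨b⟩`, where `t₁` centralizes `a` and inverts `b`, and
`t₂` inverts `a` and centralizes `b` -/
structure Loc {G : Type*} [Group G] (P : Sylow 3 G) (a b t₁ t₂ : G) : Prop where
  haP : a ∈ (P : Subgroup G)
  hbP : b ∈ (P : Subgroup G)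
  ha1 : a ≠ 1
  hb1 : b ≠ 1
  hba : b ≠ a
  hba' : b ≠ a⁻¹
  ht₁N : t₁ ∈ Subgroup.normalizer ((P : Subgroup G) : Set G)
  ht₂N : t₂ ∈ Subgroup.normalizer ((P : Subgroup G) : Set G)
  ht₁ : t₁ * t₁ = 1
  ht₂ : t₂ * t₂ = 1
  h₁₂ : t₁ * t₂ = t₂ * t₁
  h₁a : t₁ * a = a * t₁
  h₁b : t₁ * b * t₁⁻¹ = b⁻¹
  h₂a : t₂ * a * t₂⁻¹ = a⁻¹
  h₂b : t₂ * b = b * t₂
  hN : ∀ n ∈ Subgroup.normalizer ((P : Subgroup G) : Set G), ∃ s ∈ (P : Subgroup G),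
    n = s ∨ n = s * t₁ ∨ n = s * t₂ ∨ n = s * (t₁ * t₂)
  hcardN : Nat.card (Subgroup.normalizer ((P : Subgroup G) : Set G)) = 36

theorem Loc.symm {G : Type*} [Group G] {P : Sylow 3 G} {a b t₁ t₂ : G} (L : Loc P a b t₁ t₂) :
    Loc P b a t₂ t₁ where
  haP := L.hbP
  hbP := L.haP
  ha1 := L.hb1
  hb1 := L.ha1
  hba := L.hba.symm
  hba' := by
    intro h
    apply L.hba'
    rw [h, inv_inv]
  ht₁N := L.ht₂N
  ht₂N := L.ht₁N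
  ht₁ := L.ht₂
  ht₂ := L.ht₁
  h₁₂ := L.h₁₂.symm
  h₁a := L.h₂b
  h₁b := L.h₂a
  h₂a := L.h₁b
  h₂b := L.h₁a
  hN := by
    intro n hn
    obtain ⟨s, hs, h⟩ := L.hN n hn
    refine ⟨s, hs, ?_⟩
    rcases h with h | h | h | h
    · exact Or.inl h
    · exact Or.inr (Or.inr (Or.inl h))
    · exact Or.inr (Or.inl h)
    · right; right; right
      rw [h, L.h₁₂]
  hcardN := L.hcardN

end Cfsg.Agent.Lib.Helper6.Tv
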