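import Mathlib
import Cfsg.Agent.Lib.Helper6.TvA
import Cfsg.Agent.Lib.Helper6.TvB

/-! # Consequences of the local data `Loc` : fusion, centralizers, local class products -/

set_option autoImplicit false
set_option linter.unusedSectionVars false
open Cfsg

namespace Cfsg.Agent.Lib.Helper6.Tv

section loc

variable {G : Type*} [Group G] [Finite G] {P : Sylow 3 G} {a b t₁ t₂ : G}

theorem eq_one_of_sq_of_cube {x : G} (h2 : x * x = 1) (h3 : x ^ 3 = 1) : x = 1 := by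
  have : x ^ 3 = x * x * x := by rw [pow_succ, pow_two]
  rw [this, h2, one_mul] at h3
  exact h3

theorem inv_ne_self_of_cube {x : G} (h3 : x ^ 3 = 1) (h1 : x ≠ 1) : x⁻¹ ≠ x := by
  intro h
  apply h1
  apply eq_one_of_sq_of_cube _ h3
  calc x * x = x⁻¹ * x := by rw [h]
    _ = 1 := inv_mul_cancel x

variable (hcomm : ∀ x ∈ (P : Subgroup G), ∀ y ∈ (P : Subgroup G), x * y = y * x)
  (hexp : ∀ x ∈ (P : Subgroup G), x ^ 3 = 1)
  (hloc : ∀ s ∈ (P : Subgroup G), s ≠ 1 →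
    Subgroup.centralizer ({s} : Set G) ≤ Subgroup.normalizer ((P : Subgroup G) : Set G))
  (L : Loc P a b t₁ t₂)

include L

theorem Loc.t₁_inv : t₁⁻¹ = t₁ := inv_eq_of_mul_eq_one_left L.ht₁

theorem Loc.t₂_inv : t₂⁻¹ = t₂ := inv_eq_of_mul_eq_one_left L.ht₂

include hexp

theorem Loc.a3 : a ^ 3 = 1 := hexp a L.haP

theorem Loc.b3 : b ^ 3 = 1 := hexp b L.hbP

theorem Loc.a_inv_ne : a⁻¹ ≠ a := inv_ne_self_of_cube (L.a3 hexp) L.ha1

theorem Loc.b_inv_ne : b⁻¹ ≠ b := inv_ne_self_of_cube (L.b3 hexp) L.hb1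

theorem Loc.t₁_ne_one : t₁ ≠ 1 := by
  intro h
  have := L.h₁b
  rw [h] at this
  simp only [one_mul, inv_one, mul_one] at this
  exact L.b_inv_ne hexp this.symm

theorem Loc.t₁_not_mem : t₁ ∉ (P : Subgroup G) := fun h =>
  L.t₁_ne_one hexp (eq_one_of_sq_of_cube L.ht₁ (hexp _ h))

theorem Loc.orderOf_a : orderOf a = 3 := orderOf_eq_prime (L.a3 hexp) L.ha1

theorem Loc.orderOf_t₁ : orderOf t₁ = 2 :=
  orderOf_eq_prime (by rw [pow_two]; exact L.ht₁) (L.t₁_ne_one hexp)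

theorem Loc.orderOf_at₁ : orderOf (a * t₁) = 6 := by
  have hc : Commute a t₁ := L.h₁a.symm
  have := hc.orderOf_mul_eq_mul_orderOf_of_coprime
    (by rw [L.orderOf_a hexp, L.orderOf_t₁ hexp]; norm_num)
  rw [this, L.orderOf_a hexp, L.orderOf_t₁ hexp]

theorem Loc.at₁_pow (k : ℕ) : (a * t₁) ^ k = a ^ k * t₁ ^ k := by
  have hc : Commute a t₁ := L.h₁a.symm
  exact hc.mul_pow k

theorem Loc.at₁_pow_four : (a * t₁) ^ 4 = a := by
  rw [L.at₁_pow hexp]
  have h1 : a ^ 4 = a := by rw [pow_succ, L.a3 hexp, one_mul]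
  have h2 : t₁ ^ 4 = 1 := by
    have : t₁ ^ 4 = (t₁ * t₁) * (t₁ * t₁) := by
      rw [pow_succ, pow_succ, pow_two]; group
    rw [this, L.ht₁, one_mul]
  rw [h1, h2, mul_one]

include hcomm

theorem Loc.ab_comm : a * b = b * a := hcomm a L.haP b L.hbP

theorem Loc.abP : a * b ∈ (P : Subgroup G) := Subgroup.mul_mem _ L.haP L.hbP

theorem Loc.ab_ne_one : a * b ≠ 1 := by
  intro h
  apply L.hba'
  exact (eq_inv_of_mul_eq_one_right h)

theorem Loc.ab_ne_a : a * b ≠ a := by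
  intro h
  apply L.hb1
  have : a * b = a * 1 := by rw [h, mul_one]
  exact mul_left_cancel this

theorem Loc.ab_ne_a_inv : a * b ≠ a⁻¹ := by
  intro h
  apply L.hba
  have h1 : b = a⁻¹ * a⁻¹ := by
    calc b = a⁻¹ * (a * b) := by group
      _ = a⁻¹ * a⁻¹ := by rw [h]
  rw [h1, Tn.inv_mul_inv_of_cube (L.a3 hexp)]

theorem Loc.orderOf_ab : orderOf (a * b) = 3 :=
  orderOf_eq_prime (hexp _ (L.abP hcomm hexp)) (L.ab_ne_one hcomm hexp)

/-- the conjugates of `a` under the normalizer -/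
theorem Loc.conj_a {n : G} (hn : n ∈ Subgroup.normalizer ((P : Subgroup G) : Set G)) :
    n * a * n⁻¹ = a ∨ n * a * n⁻¹ = a⁻¹ := by
  obtain ⟨s, hs, h⟩ := L.hN n hn
  have hsa : ∀ y ∈ (P : Subgroup G), s * y * s⁻¹ = y := by
    intro y hy
    rw [hcomm s hs y hy]; group
  have h2 : t₂ * a⁻¹ * t₂⁻¹ = a := by
    have := L.h₂a
    calc t₂ * a⁻¹ * t₂⁻¹ = (t₂ * a * t₂⁻¹)⁻¹ := by group
      _ = a := by rw [this, inv_inv]
  rcases h with h | h | h | h
  · left; rw [h]; exact hsa a L.haP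
  · left
    rw [h]
    calc s * t₁ * a * (s * t₁)⁻¹ = s * (t₁ * a) * t₁⁻¹ * s⁻¹ := by group
      _ = s * (a * t₁) * t₁⁻¹ * s⁻¹ := by rw [L.h₁a]
      _ = s * a * s⁻¹ := by group
      _ = a := hsa a L.haP
  · right
    rw [h]
    calc s * t₂ * a * (s * t₂)⁻¹ = s * (t₂ * a * t₂⁻¹) * s⁻¹ := by group
      _ = s * a⁻¹ * s⁻¹ := by rw [L.h₂a]
      _ = a⁻¹ := hsa _ (Subgroup.inv_mem _ L.haP)
  · right
    rw [h]
    calc s * (t₁ * t₂) * a * (s * (t₁ * t₂))⁻¹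
        = s * (t₁ * (t₂ * a * t₂⁻¹) * t₁⁻¹) * s⁻¹ := by group
      _ = s * (t₁ * a⁻¹ * t₁⁻¹) * s⁻¹ := by rw [L.h₂a]
      _ = s * ((t₁ * a) * t₁⁻¹)⁻¹ * s⁻¹ := by group
      _ = s * ((a * t₁) * t₁⁻¹)⁻¹ * s⁻¹ := by rw [L.h₁a]
      _ = s * a⁻¹ * s⁻¹ := by group
      _ = a⁻¹ := hsa _ (Subgroup.inv_mem _ L.haP)

/-- an element of the normalizer centralizing `a b` lies in `P` -/
theorem Loc.mem_of_conj_ab {n : G} (hn : n ∈ Subgroup.normalizer ((P : Subgroup G) : Set G))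
    (h : n * (a * b) = a * b * n) : n ∈ (P : Subgroup G) := by
  have ha := L.conj_a hcomm hexp hn
  have hb := L.symm.conj_a hcomm hexp hn
  have hab : n * (a * b) * n⁻¹ = (n * a * n⁻¹) * (n * b * n⁻¹) := by group
  have h1 : n * (a * b) * n⁻¹ = a * b := by rw [h]; group
  rw [h1] at hab
  obtain ⟨s, hs, hn'⟩ := L.hN n hn
  have hsa : ∀ y ∈ (P : Subgroup G), s * y * s⁻¹ = y := by
    intro y hy
    rw [hcomm s hs y hy]; group
  rcases hn' with h' | h' | h' | h'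
  · rw [h']; exact hs
  · exfalso
    have e : n * b * n⁻¹ = b⁻¹ := by
      rw [h']
      calc s * t₁ * b * (s * t₁)⁻¹ = s * (t₁ * b * t₁⁻¹) * s⁻¹ := by group
        _ = s * b⁻¹ * s⁻¹ := by rw [L.h₁b]
        _ = b⁻¹ := hsa _ (Subgroup.inv_mem _ L.hbP)
    have e2 : n * a * n⁻¹ = a := by
      rw [h']
      calc s * t₁ * a * (s * t₁)⁻¹ = s * (t₁ * a) * t₁⁻¹ * s⁻¹ := by group
        _ = s * (a * t₁) * t₁⁻¹ * s⁻¹ := by rw [L.h₁a]
        _ = s * a * s⁻¹ := by group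
        _ = a := hsa a L.haP
    rw [e, e2] at hab
    exact L.b_inv_ne hexp (mul_left_cancel hab).symm
  · exfalso
    have e : n * a * n⁻¹ = a⁻¹ := by
      rw [h']
      calc s * t₂ * a * (s * t₂)⁻¹ = s * (t₂ * a * t₂⁻¹) * s⁻¹ := by group
        _ = s * a⁻¹ * s⁻¹ := by rw [L.h₂a]
        _ = a⁻¹ := hsa _ (Subgroup.inv_mem _ L.haP)
    have e2 : n * b * n⁻¹ = b := by
      rw [h']
      calc s * t₂ * b * (s * t₂)⁻¹ = s * (t₂ * b) * t₂⁻¹ * s⁻¹ := by group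
        _ = s * (b * t₂) * t₂⁻¹ * s⁻¹ := by rw [L.h₂b]
        _ = s * b * s⁻¹ := by group
        _ = b := hsa b L.hbP
    rw [e, e2] at hab
    exact L.a_inv_ne hexp (mul_right_cancel hab).symm
  · exfalso
    have e : n * a * n⁻¹ = a⁻¹ := by
      rw [h']
      calc s * (t₁ * t₂) * a * (s * (t₁ * t₂))⁻¹
          = s * (t₁ * (t₂ * a * t₂⁻¹) * t₁⁻¹) * s⁻¹ := by group
        _ = s * (t₁ * a⁻¹ * t₁⁻¹) * s⁻¹ := by rw [L.h₂a]
        _ = s * ((t₁ * a) * t₁⁻¹)⁻¹ * s⁻¹ := by group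
        _ = s * ((a * t₁) * t₁⁻¹)⁻¹ * s⁻¹ := by rw [L.h₁a]
        _ = s * a⁻¹ * s⁻¹ := by group
        _ = a⁻¹ := hsa _ (Subgroup.inv_mem _ L.haP)
    have e2 : n * b * n⁻¹ = b⁻¹ := by
      rw [h', L.h₁₂]
      calc s * (t₂ * t₁) * b * (s * (t₂ * t₁))⁻¹
          = s * (t₂ * (t₁ * b * t₁⁻¹) * t₂⁻¹) * s⁻¹ := by group
        _ = s * (t₂ * b⁻¹ * t₂⁻¹) * s⁻¹ := by rw [L.h₁b]
        _ = s * ((t₂ * b) * t₂⁻¹)⁻¹ * s⁻¹ := by group
        _ = s * ((b * t₂) * t₂⁻¹)⁻¹ * s⁻¹ := by rw [L.h₂b]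
        _ = s * b⁻¹ * s⁻¹ := by group
        _ = b⁻¹ := hsa _ (Subgroup.inv_mem _ L.hbP)
    rw [e, e2] at hab
    -- a b = a⁻¹ b⁻¹
    have h3 : (a * b) * (a * b) = 1 := by
      calc (a * b) * (a * b) = (a⁻¹ * b⁻¹) * (a * b) := by rw [← hab]
        _ = a⁻¹ * (b⁻¹ * a) * b := by group
        _ = a⁻¹ * (a * b⁻¹) * b := by
            rw [hcomm _ (Subgroup.inv_mem _ L.hbP) _ L.haP]
        _ = 1 := by group
    exact L.ab_ne_one hcomm hexp
      (eq_one_of_sq_of_cube h3 (hexp _ (L.abP hcomm hexp)))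

include hloc

/-- fusion of `a` in `P` -/
theorem Loc.eq_of_isConj_a {x : G} (hx : x ∈ (P : Subgroup G)) (h : IsConj a x) :
    x = a ∨ x = a⁻¹ := by
  obtain ⟨g, hg⟩ := isConj_iff.mp h
  have hgN := mem_normalizer_of_conj P hloc hcomm hexp L.haP L.ha1 (by rw [hg]; exact hx)
  rw [← hg]
  exact L.conj_a hcomm hexp hgN

theorem Loc.not_isConj_a_b : ¬ IsConj a b := by
  intro h
  rcases L.eq_of_isConj_a hcomm hexp hloc L.hbP h with h | h
  · exact L.hba h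
  · exact L.hba' h

theorem Loc.not_isConj_a_ab : ¬ IsConj a (a * b) := by
  intro h
  rcases L.eq_of_isConj_a hcomm hexp hloc (L.abP hcomm hexp) h with h | h
  · exact L.ab_ne_a hcomm hexp h
  · exact L.ab_ne_a_inv hcomm hexp h

theorem Loc.isConj_a_inv : IsConj a a⁻¹ := isConj_iff.mpr ⟨t₂, L.h₂a⟩

theorem Loc.isConj_ab_inv : IsConj (a * b) (a * b)⁻¹ := by
  rw [isConj_iff]
  refine ⟨t₁ * t₂, ?_⟩
  calc t₁ * t₂ * (a * b) * (t₁ * t₂)⁻¹
      = t₁ * ((t₂ * a * t₂⁻¹) * ((t₂ * b) * t₂⁻¹)) * t₁⁻¹ := by group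
    _ = t₁ * (a⁻¹ * ((b * t₂) * t₂⁻¹)) * t₁⁻¹ := by rw [L.h₂a, L.h₂b]
    _ = ((t₁ * a) * t₁⁻¹)⁻¹ * (t₁ * b * t₁⁻¹) := by group
    _ = ((a * t₁) * t₁⁻¹)⁻¹ * b⁻¹ := by rw [L.h₁a, L.h₁b]
    _ = a⁻¹ * b⁻¹ := by group
    _ = (b * a)⁻¹ := by group
    _ = (a * b)⁻¹ := by rw [L.ab_comm hcomm hexp]

theorem Loc.isConj_at₁_inv : IsConj (a * t₁) (a * t₁)⁻¹ := by
  rw [isConj_iff]
  refine ⟨t₂, ?_⟩
  calc t₂ * (a * t₁) * t₂⁻¹ = (t₂ * a * t₂⁻¹) * (t₂ * t₁) * t₂⁻¹ := by group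
    _ = a⁻¹ * (t₁ * t₂) * t₂⁻¹ := by rw [L.h₂a, L.h₁₂]
    _ = a⁻¹ * t₁ := by group
    _ = a⁻¹ * t₁⁻¹ := by rw [L.t₁_inv]
    _ = (t₁ * a)⁻¹ := by group
    _ = (a * t₁)⁻¹ := by rw [L.h₁a]

theorem Loc.not_isConj_at₁_bt₂ : ¬ IsConj (a * t₁) (b * t₂) := by
  intro h
  obtain ⟨g, hg⟩ := isConj_iff.mp h
  apply L.not_isConj_a_b hcomm hexp hloc
  rw [isConj_iff]
  refine ⟨g, ?_⟩
  rw [← L.at₁_pow_four hexp, ← L.symm.at₁_pow_four hexp, ← hg, conj_pow]

/-- the centralizer of `a b` is `P` -/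
theorem Loc.centralizer_ab :
    Subgroup.centralizer ({a * b} : Set G) = (P : Subgroup G) := by
  apply le_antisymm
  · intro n hn
    have hnN := hloc _ (L.abP hcomm hexp) (L.ab_ne_one hcomm hexp) hn
    rw [Subgroup.mem_centralizer_singleton_iff] at hn
    exact L.mem_of_conj_ab hcomm hexp hnN hn
  · intro n hn
    rw [Subgroup.mem_centralizer_singleton_iff]
    exact hcomm n hn _ (L.abP hcomm hexp)

variable (hcardP : Nat.card (P : Subgroup G) = 9)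

include hcardP

theorem Loc.card_centralizer_ab :
    Nat.card (Subgroup.centralizer ({a * b} : Set G)) = 9 := by
  rw [L.centralizer_ab hcomm hexp hloc, hcardP]

theorem Loc.card_centralizer_a :
    Nat.card (Subgroup.centralizer ({a} : Set G)) = 18 := by
  have h1 : (P : Subgroup G) ≤ Subgroup.centralizer ({a} : Set G) := by
    intro n hn
    rw [Subgroup.mem_centralizer_singleton_iff]
    exact hcomm n hn _ L.haP
  have h2 : Subgroup.centralizer ({a} : Set G)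
      ≤ Subgroup.normalizer ((P : Subgroup G) : Set G) := hloc a L.haP L.ha1
  have d1 := Subgroup.card_dvd_of_le h1
  have d2 := Subgroup.card_dvd_of_le h2
  rw [hcardP] at d1
  rw [L.hcardN] at d2
  have hne9 : Nat.card (Subgroup.centralizer ({a} : Set G)) ≠ 9 := by
    intro h
    have := Subgroup.eq_of_le_of_card_ge h1 (by rw [h, hcardP])
    apply L.t₁_not_mem hexp
    rw [this, Subgroup.mem_centralizer_singleton_iff]
    exact L.h₁a
  have hne36 : Nat.card (Subgroup.centralizer ({a} : Set G)) ≠ 36 := by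
    intro h
    have := Subgroup.eq_of_le_of_card_ge h2 (by rw [h, L.hcardN])
    have h3 : t₂ ∈ Subgroup.centralizer ({a} : Set G) := by rw [this]; exact L.ht₂N
    rw [Subgroup.mem_centralizer_singleton_iff] at h3
    apply L.a_inv_ne hexp
    rw [← L.h₂a, h3]; group
  obtain ⟨k, hk⟩ := d1
  have hpos : 0 < Nat.card (Subgroup.centralizer ({a} : Set G)) := Nat.card_pos
  have hle : Nat.card (Subgroup.centralizer ({a} : Set G)) ≤ 36 := Nat.le_of_dvd (by norm_num) d2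
  have hk4 : k ≤ 4 := by omega
  interval_cases k
  · omega
  · omega
  · omega
  · exfalso
    rw [hk] at d2
    norm_num at d2
  · omega

theorem Loc.card_centralizer_at₁ :
    Nat.card (Subgroup.centralizer ({a * t₁} : Set G)) = 6 := by
  have h1 : Subgroup.zpowers (a * t₁) ≤ Subgroup.centralizer ({a * t₁} : Set G) := by
    rw [Subgroup.zpowers_le, Subgroup.mem_centralizer_singleton_iff]
  have h2 : Subgroup.centralizer ({a * t₁} : Set G) ≤ Subgroup.centralizer ({a} : Set G) := by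
    intro n hn
    rw [Subgroup.mem_centralizer_singleton_iff] at hn ⊢
    rw [← L.at₁_pow_four hexp]
    have hc : Commute n (a * t₁) := hn
    exact hc.pow_right 4
  have d1 := Subgroup.card_dvd_of_le h1
  have d2 := Subgroup.card_dvd_of_le h2
  rw [Nat.card_zpowers, L.orderOf_at₁ hexp] at d1
  rw [L.card_centralizer_a hcomm hexp hloc hcardP] at d2
  have hne18 : Nat.card (Subgroup.centralizer ({a * t₁} : Set G)) ≠ 18 := by
    intro h
    have := Subgroup.eq_of_le_of_card_ge h2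
      (by rw [h, L.card_centralizer_a hcomm hexp hloc hcardP])
    have h3 : b ∈ Subgroup.centralizer ({a * t₁} : Set G) := by
      rw [this, Subgroup.mem_centralizer_singleton_iff]
      exact (L.ab_comm hcomm hexp).symm
    rw [Subgroup.mem_centralizer_singleton_iff] at h3
    -- b a t₁ = a t₁ b = a b⁻¹ t₁
    apply L.b_inv_ne hexp
    have e1 : t₁ * b = b⁻¹ * t₁ := by
      calc t₁ * b = (t₁ * b * t₁⁻¹) * t₁ := by group
        _ = b⁻¹ * t₁ := by rw [L.h₁b]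
    have e2 : a * b * t₁ = a * b⁻¹ * t₁ := by
      calc a * b * t₁ = b * a * t₁ := by rw [L.ab_comm hcomm hexp]
        _ = b * (a * t₁) := by group
        _ = a * t₁ * b := h3
        _ = a * (t₁ * b) := by group
        _ = a * (b⁻¹ * t₁) := by rw [e1]
        _ = a * b⁻¹ * t₁ := by group
    exact (mul_left_cancel (mul_right_cancel e2)).symm
  obtain ⟨k, hk⟩ := d1
  have hle : Nat.card (Subgroup.centralizer ({a * t₁} : Set G)) ≤ 18 :=
    Nat.le_of_dvd (by norm_num) d2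
  have hpos : 0 < Nat.card (Subgroup.centralizer ({a * t₁} : Set G)) := Nat.card_pos
  have hk3 : k ≤ 3 := by omega
  interval_cases k
  · omega
  · omega
  · exfalso
    rw [hk] at d2
    norm_num at d2
  · omega

end loc

end Cfsg.Agent.Lib.Helper6.Tv
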