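import Mathlib
import Cfsg.Agent.Lib.Helper6.TvC

/-! # Local class products: pairs of `3`-elements whose product lies in `P` -/

set_option autoImplicit false
set_option linter.unusedSectionVars false
open Cfsg

namespace Cfsg.Agent.Lib.Helper6.Tv

section cnt

variable {G : Type*} [Group G] [Finite G] {P : Sylow 3 G} {a b t₁ t₂ : G}

theorem cube_of_isConj {x u : G} (hx : x ^ 3 = 1) (h : IsConj x u) : u ^ 3 = 1 := by
  obtain ⟨g, hg⟩ := isConj_iff.mp h
  rw [← hg, conj_pow, hx]; group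

variable (hcomm : ∀ x ∈ (P : Subgroup G), ∀ y ∈ (P : Subgroup G), x * y = y * x)
  (hexp : ∀ x ∈ (P : Subgroup G), x ^ 3 = 1)
  (hloc : ∀ s ∈ (P : Subgroup G), s ≠ 1 →
    Subgroup.centralizer ({s} : Set G) ≤ Subgroup.normalizer ((P : Subgroup G) : Set G))
  (L : Loc P a b t₁ t₂)

include hcomm hexp hloc L

/-- a product of two conjugates of `a` is never `a b` -/
theorem Loc.no_mul_aa_ab (u v : G) (hu : IsConj a u) (hv : IsConj a v) : u * v ≠ a * b := by
  intro h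
  have hu3 := cube_of_isConj (L.a3 hexp) hu
  have hv3 := cube_of_isConj (L.a3 hexp) hv
  have hnc : ¬ IsConj u (u * v)⁻¹ := by
    rw [h]
    intro hc
    exact L.not_isConj_a_ab hcomm hexp hloc
      ((hu.trans hc).trans (L.isConj_ab_inv hcomm hexp hloc).symm)
  obtain ⟨huP, hvP⟩ := mem_of_mul P hloc hcomm hexp u v hu3 hv3
    (by rw [h]; exact L.abP hcomm hexp) (by rw [h]; exact L.ab_ne_one hcomm hexp) hnc
  have e1 : a * a = a⁻¹ := Tn.mul_self_of_cube (L.a3 hexp)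
  have e2 : a⁻¹ * a⁻¹ = a := Tn.inv_mul_inv_of_cube (L.a3 hexp)
  rcases L.eq_of_isConj_a hcomm hexp hloc huP hu with rfl | rfl <;>
    rcases L.eq_of_isConj_a hcomm hexp hloc hvP hv with rfl | rfl
  · rw [e1] at h; exact L.ab_ne_a_inv hcomm hexp h.symm
  · rw [mul_inv_cancel] at h; exact L.ab_ne_one hcomm hexp h.symm
  · rw [inv_mul_cancel] at h; exact L.ab_ne_one hcomm hexp h.symm
  · rw [e2] at h; exact L.ab_ne_a hcomm hexp h.symm

/-- a product of two conjugates of `a` is never `b` -/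
theorem Loc.no_mul_aa_b (u v : G) (hu : IsConj a u) (hv : IsConj a v) : u * v ≠ b := by
  intro h
  have hu3 := cube_of_isConj (L.a3 hexp) hu
  have hv3 := cube_of_isConj (L.a3 hexp) hv
  have hnc : ¬ IsConj u (u * v)⁻¹ := by
    rw [h]
    intro hc
    exact L.not_isConj_a_b hcomm hexp hloc ((hu.trans hc).trans (L.symm.isConj_a_inv hcomm hexp hloc).symm)
  obtain ⟨huP, hvP⟩ := mem_of_mul P hloc hcomm hexp u v hu3 hv3
    (by rw [h]; exact L.hbP) (by rw [h]; exact L.hb1) hnc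
  have e1 : a * a = a⁻¹ := Tn.mul_self_of_cube (L.a3 hexp)
  have e2 : a⁻¹ * a⁻¹ = a := Tn.inv_mul_inv_of_cube (L.a3 hexp)
  rcases L.eq_of_isConj_a hcomm hexp hloc huP hu with rfl | rfl <;>
    rcases L.eq_of_isConj_a hcomm hexp hloc hvP hv with rfl | rfl
  · rw [e1] at h; exact L.hba' h.symm
  · rw [mul_inv_cancel] at h; exact L.hb1 h.symm
  · rw [inv_mul_cancel] at h; exact L.hb1 h.symm
  · rw [e2] at h; exact L.hba h.symm

/-- the only way to write `a b` as a conjugate of `a` times a conjugate of `b` -/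
theorem Loc.eq_of_mul_ab (u v : G) (hu : IsConj a u) (hv : IsConj b v) (h : u * v = a * b) :
    u = a ∧ v = b := by
  have hu3 := cube_of_isConj (L.a3 hexp) hu
  have hv3 := cube_of_isConj (L.b3 hexp) hv
  have hnc : ¬ IsConj u (u * v)⁻¹ := by
    rw [h]
    intro hc
    exact L.not_isConj_a_ab hcomm hexp hloc
      ((hu.trans hc).trans (L.isConj_ab_inv hcomm hexp hloc).symm)
  obtain ⟨huP, hvP⟩ := mem_of_mul P hloc hcomm hexp u v hu3 hv3
    (by rw [h]; exact L.abP hcomm hexp) (by rw [h]; exact L.ab_ne_one hcomm hexp) hnc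
  rcases L.eq_of_isConj_a hcomm hexp hloc huP hu with rfl | rfl <;>
    rcases L.symm.eq_of_isConj_a hcomm hexp hloc hvP hv with rfl | rfl
  · exact ⟨rfl, rfl⟩
  · exfalso
    exact L.b_inv_ne hexp (mul_left_cancel h)
  · exfalso
    exact L.a_inv_ne hexp (mul_right_cancel h)
  · exfalso
    have e : (a * b)⁻¹ = a * b := by
      calc (a * b)⁻¹ = (b * a)⁻¹ := by rw [L.ab_comm hcomm hexp]
        _ = a⁻¹ * b⁻¹ := by group
        _ = a * b := h
    exact inv_ne_self_of_cube (hexp _ (L.abP hcomm hexp)) (L.ab_ne_one hcomm hexp) e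

theorem Loc.card_mul_ab :
    Nat.card {p : G × G // IsConj a p.1 ∧ IsConj b p.2 ∧ p.1 * p.2 = a * b} = 1 := by
  rw [Nat.card_eq_one_iff_unique]
  refine ⟨⟨?_⟩, ⟨⟨(a, b), IsConj.refl a, IsConj.refl b, rfl⟩⟩⟩
  rintro ⟨⟨u, v⟩, hu, hv, h⟩ ⟨⟨u', v'⟩, hu', hv', h'⟩
  obtain ⟨rfl, rfl⟩ := L.eq_of_mul_ab hcomm hexp hloc u v hu hv h
  obtain ⟨rfl, rfl⟩ := L.eq_of_mul_ab hcomm hexp hloc u' v' hu' hv' h'
  rfl

theorem Loc.card_mul_aa_ab :
    Nat.card {p : G × G // IsConj a p.1 ∧ IsConj a p.2 ∧ p.1 * p.2 = a * b} = 0 := by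
  rw [Nat.card_eq_zero]
  left
  constructor
  rintro ⟨⟨u, v⟩, hu, hv, h⟩
  exact L.no_mul_aa_ab hcomm hexp hloc u v hu hv h

theorem Loc.card_mul_aa_b :
    Nat.card {p : G × G // IsConj a p.1 ∧ IsConj a p.2 ∧ p.1 * p.2 = b} = 0 := by
  rw [Nat.card_eq_zero]
  left
  constructor
  rintro ⟨⟨u, v⟩, hu, hv, h⟩
  exact L.no_mul_aa_b hcomm hexp hloc u v hu hv h

end cnt

end Cfsg.Agent.Lib.Helper6.Tv
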