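import Mathlib
import Cfsg.Prelude.Def_Blocks
import Cfsg.Agent.Lib.Helper6.TvD
import Cfsg.Agent.Lib.Helper6.TvE

/-! # Integrality of the values of the irreducible characters on the special classes -/

set_option autoImplicit false
set_option linter.unusedSectionVars false
open Cfsg

namespace Cfsg.Agent.Lib.Helper6.Tv

open scoped ComplexConjugate
open Cfsg.Agent.Lib.Helper6

section gen

variable {G : Type*} [Group G] [Finite G]

theorem sum_range_three (f : ℕ → ℂ) : ∑ k ∈ Finset.range 3, f k = f 0 + f 1 + f 2 := by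
  rw [Finset.sum_range_succ, Finset.sum_range_succ, Finset.sum_range_succ,
    Finset.sum_range_zero, zero_add]

theorem sum_range_six (f : ℕ → ℂ) :
    ∑ k ∈ Finset.range 6, f k = f 0 + f 1 + f 2 + f 3 + f 4 + f 5 := by
  rw [Finset.sum_range_succ, Finset.sum_range_succ, Finset.sum_range_succ,
    Finset.sum_range_succ, Finset.sum_range_succ, Finset.sum_range_succ,
    Finset.sum_range_zero, zero_add]

/-- a primitive cube root of unity -/
theorem exists_omega : ∃ w : ℂ, 1 + w + w ^ 2 = 0 := by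
  refine ⟨Complex.exp (2 * Real.pi * Complex.I / (3 : ℕ)), ?_⟩
  have h := (Complex.isPrimitiveRoot_exp 3 (by norm_num)).geom_sum_eq_zero (by norm_num)
  rw [Finset.sum_range_succ, Finset.sum_range_succ, Finset.sum_range_succ,
    Finset.sum_range_zero, zero_add, pow_zero, pow_one] at h
  exact h

/-- the value of a character at a real element is real -/
theorem conj_eq_of_isConj_inv {χ : G → ℂ} (hχ : Cfsg.IsCharacter G χ) {g : G}
    (h : IsConj g g⁻¹) : conj (χ g) = χ g := by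
  rw [← IsCharacter.apply_inv hχ g]
  exact (Cfsg.Agent.Lib.Helper8.Gl.eq_of_isConj (IsCharacter.isClassFunction hχ) h).symm

theorem apply_inv_of_isConj_inv {χ : G → ℂ} (hχ : Cfsg.IsCharacter G χ) {g : G}
    (h : IsConj g g⁻¹) : χ g⁻¹ = χ g :=
  (Cfsg.Agent.Lib.Helper8.Gl.eq_of_isConj (IsCharacter.isClassFunction hχ) h).symm

end gen

section int

variable {G : Type*} [Group G] [Fintype G] {P : Sylow 3 G} {a b t₁ t₂ : G}

variable (hcomm : ∀ x ∈ (P : Subgroup G), ∀ y ∈ (P : Subgroup G), x * y = y * x)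
  (hexp : ∀ x ∈ (P : Subgroup G), x ^ 3 = 1)
  (hloc : ∀ s ∈ (P : Subgroup G), s ≠ 1 →
    Subgroup.centralizer ({s} : Set G) ≤ Subgroup.normalizer ((P : Subgroup G) : Set G))
  (L : Loc P a b t₁ t₂)

include hcomm hexp hloc L

/-- the sum over a cyclic group of order `3` generated by a real element -/
theorem sum_cyc_three {χ : G → ℂ} (hχ : Cfsg.IsCharacter G χ) (x : G) (hx3 : x ^ 3 = 1)
    (hreal : IsConj x x⁻¹) (w : ℂ) :
    ∑ k ∈ Finset.range 3, χ (x ^ k) * conj (w ^ k)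
      = χ 1 + χ x * conj w + χ x * conj w ^ 2 := by
  rw [sum_range_three, pow_zero, pow_zero, pow_one, pow_one, map_one, mul_one, map_pow]
  have h2 : x ^ 2 = x⁻¹ := by
    rw [pow_two]; exact Tn.mul_self_of_cube hx3
  rw [h2, apply_inv_of_isConj_inv hχ hreal]

/-- the sum over the cyclic group of order `6` generated by `a t₁` -/
theorem Loc.sum_cyc_six {χ : G → ℂ} (hχ : Cfsg.IsCharacter G χ) (w : ℂ) :
    ∑ k ∈ Finset.range 6, χ ((a * t₁) ^ k) * conj (w ^ k)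
      = χ 1 + χ (a * t₁) * conj w + χ a * conj w ^ 2 + χ t₁ * conj w ^ 3
        + χ a * conj w ^ 4 + χ (a * t₁) * conj w ^ 5 := by
  have h6 : (a * t₁) ^ 6 = 1 := by
    rw [← L.orderOf_at₁ hexp]; exact pow_orderOf_eq_one _
  have h4 := L.at₁_pow_four hexp
  have h3 : (a * t₁) ^ 3 = t₁ := by
    rw [L.at₁_pow hexp, L.a3 hexp, one_mul]
    have : t₁ ^ 3 = t₁ * t₁ * t₁ := by rw [pow_succ, pow_two]
    rw [this, L.ht₁, one_mul]
  have h2 : (a * t₁) ^ 2 = a⁻¹ := by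
    have : (a * t₁) ^ 2 * (a * t₁) ^ 4 = 1 := by rw [← pow_add]; exact h6
    rw [h4] at this
    exact eq_inv_of_mul_eq_one_left this
  have h5 : (a * t₁) ^ 5 = (a * t₁)⁻¹ := by
    have : (a * t₁) ^ 5 * (a * t₁) = 1 := by rw [← pow_succ]; exact h6
    exact eq_inv_of_mul_eq_one_left this
  rw [sum_range_six, pow_zero, pow_zero, pow_one, pow_one, map_one, mul_one, h2, h3, h4, h5,
    apply_inv_of_isConj_inv hχ (L.isConj_a_inv hcomm hexp hloc),
    apply_inv_of_isConj_inv hχ (L.isConj_at₁_inv hcomm hexp hloc)]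
  simp only [map_pow]

/-- integrality: the values at `a b`, `a`, `a t₁` come from three integers -/
theorem Loc.exists_int {χ : G → ℂ} (hχ : Cfsg.IsCharacter G χ) :
    ∃ r₁ r₂ r₃ : ℤ, χ (a * b) = (r₁ : ℂ) + r₂ + r₃ ∧ χ a = (r₁ : ℂ) + r₂ - 2 * r₃ ∧
      χ (a * t₁) = (r₁ : ℂ) - r₂ := by
  obtain ⟨ω, hω⟩ := exists_omega
  obtain ⟨w, hwdef⟩ : ∃ w : ℂ, w = conj ω := ⟨_, rfl⟩
  have hw : 1 + w + w ^ 2 = 0 := by
    have := congrArg (starRingEnd ℂ) hω
    simp only [map_add, map_one, map_pow, map_zero] at this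
    rw [hwdef]; exact this
  have hω3 : ω ^ 3 = 1 := by linear_combination (ω - 1) * hω
  have hw3 : w ^ 3 = 1 := by linear_combination (w - 1) * hw
  have hw4 : w ^ 4 = w := by linear_combination w * hw3
  have hw5 : w ^ 5 = w ^ 2 := by linear_combination w ^ 2 * hw3
  -- cyclic groups of order 3
  obtain ⟨ma, hma⟩ := cyclic_mult hχ a 3 (L.orderOf_a hexp) (by norm_num) ω hω3
  rw [sum_cyc_three hcomm hexp hloc L hχ a (L.a3 hexp) (L.isConj_a_inv hcomm hexp hloc),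
    ← hwdef] at hma
  obtain ⟨mc, hmc⟩ := cyclic_mult hχ (a * b) 3 (L.orderOf_ab hcomm hexp) (by norm_num) ω hω3
  rw [sum_cyc_three hcomm hexp hloc L hχ (a * b) (hexp _ (L.abP hcomm hexp))
    (L.isConj_ab_inv hcomm hexp hloc), ← hwdef] at hmc
  -- the cyclic group of order 6
  obtain ⟨n₁, hn₁⟩ := cyclic_mult hχ (a * t₁) 6 (L.orderOf_at₁ hexp) (by norm_num) 1 (one_pow 6)
  rw [L.sum_cyc_six hcomm hexp hloc hχ, map_one] at hn₁
  obtain ⟨n₂, hn₂⟩ := cyclic_mult hχ (a * t₁) 6 (L.orderOf_at₁ hexp) (by norm_num) ω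
    (by rw [show 6 = 3 * 2 by norm_num, pow_mul, hω3, one_pow])
  rw [L.sum_cyc_six hcomm hexp hloc hχ, ← hwdef, hw3, hw4, hw5] at hn₂
  obtain ⟨n₃, hn₃⟩ := cyclic_mult hχ (a * t₁) 6 (L.orderOf_at₁ hexp) (by norm_num) (-1)
    (by norm_num)
  rw [L.sum_cyc_six hcomm hexp hloc hχ] at hn₃
  simp only [map_neg, map_one] at hn₃
  obtain ⟨n₄, hn₄⟩ := cyclic_mult hχ (a * t₁) 6 (L.orderOf_at₁ hexp) (by norm_num) (-ω)
    (by rw [show 6 = 3 * 2 by norm_num, pow_mul, neg_pow, hω3]; norm_num)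
  rw [L.sum_cyc_six hcomm hexp hloc hχ] at hn₄
  simp only [map_neg] at hn₄
  rw [← hwdef] at hn₄
  have hn₄' : χ 1 - χ (a * t₁) * w + χ a * w ^ 2 - χ t₁ + χ a * w - χ (a * t₁) * w ^ 2
      = 6 * (n₄ : ℂ) := by
    have e3 : (-w) ^ 3 = -1 := by rw [neg_pow, hw3]; norm_num
    have e4 : (-w) ^ 4 = w := by rw [neg_pow, hw4]; norm_num
    have e5 : (-w) ^ 5 = -w ^ 2 := by rw [neg_pow, hw5]; norm_num
    have e2 : (-w) ^ 2 = w ^ 2 := by rw [neg_pow]; norm_num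
    rw [e2, e3, e4, e5] at hn₄
    push_cast at hn₄
    linear_combination hn₄
  refine ⟨(n₁ : ℤ) - n₂ + ((ma : ℤ) - mc), (n₃ : ℤ) - n₄ + ((ma : ℤ) - mc), (ma : ℤ) - mc,
    ?_, ?_, ?_⟩
  · push_cast at hma hmc hn₁ hn₂ hn₃ ⊢
    linear_combination (1 / 6 : ℂ) * hn₁ - (1 / 6 : ℂ) * hn₂ + (1 / 6 : ℂ) * hn₃
      - (1 / 6 : ℂ) * hn₄' + hma - hmc
      + ((1 / 3 : ℂ) * χ a - (χ a - χ (a * b))) * hw
  · push_cast at hma hmc hn₁ hn₂ hn₃ ⊢
    linear_combination (1 / 6 : ℂ) * hn₁ - (1 / 6 : ℂ) * hn₂ + (1 / 6 : ℂ) * hn₃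
      - (1 / 6 : ℂ) * hn₄' + (1 / 3 : ℂ) * χ a * hw
  · push_cast at hma hmc hn₁ hn₂ hn₃ ⊢
    linear_combination (1 / 6 : ℂ) * hn₁ - (1 / 6 : ℂ) * hn₂ - (1 / 6 : ℂ) * hn₃
      + (1 / 6 : ℂ) * hn₄' + (1 / 3 : ℂ) * χ (a * t₁) * hw

end int

end Cfsg.Agent.Lib.Helper6.Tv
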