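import Mathlib
import Cfsg.Prelude.Def_Blocks
import Cfsg.Agent.Lib.Helper6.TvF
import Cfsg.Agent.Lib.Helper6.SecondOrth
import Cfsg.Agent.Lib.Helper6.ClassMult
import Cfsg.Agent.Lib.Helper6.BlkPrincipal

/-! # Integer-valued columns of the character table: Gram relations -/

set_option autoImplicit false
set_option linter.unusedSectionVars false
open Cfsg

namespace Cfsg.Agent.Lib.Helper6.Tv

open scoped ComplexConjugate
open Cfsg.Agent.Lib.Helper6

section gram

variable {G : Type*} [Group G] [Fintype G] [DecidableEq G]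
variable [Fintype (Cfsg.IrrCharacter G)]

/-- second orthogonality for two integer-valued columns -/
theorem gram_int (g h : G) (f f' : Cfsg.IrrCharacter G → ℤ)
    (hf : ∀ χ : Cfsg.IrrCharacter G, (χ : G → ℂ) g = (f χ : ℂ))
    (hf' : ∀ χ : Cfsg.IrrCharacter G, (χ : G → ℂ) h = (f' χ : ℂ)) :
    (IsConj g h → ∑ χ, f χ * f' χ = (Nat.card (Subgroup.centralizer ({g} : Set G)) : ℤ)) ∧
    (¬ IsConj g h → ∑ χ, f χ * f' χ = 0) := by
  have h0 : ((∑ χ, f χ * f' χ : ℤ) : ℂ)
      = ∑ χ : Cfsg.IrrCharacter G, (χ : G → ℂ) g * conj ((χ : G → ℂ) h) := by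
    push_cast
    apply Finset.sum_congr rfl
    intro χ _
    rw [hf χ, hf' χ, map_intCast]
  obtain ⟨h1, h2⟩ := sum_irr_mul_conj g h
  constructor
  · intro hc
    have := h1 hc
    rw [← h0] at this
    exact_mod_cast this
  · intro hc
    have := h2 hc
    rw [← h0] at this
    exact_mod_cast this

/-- orthogonality of an integer-valued column with the degrees -/
theorem deg_int (g : G) (hg : g ≠ 1) (f : Cfsg.IrrCharacter G → ℤ)
    (hf : ∀ χ : Cfsg.IrrCharacter G, (χ : G → ℂ) g = (f χ : ℂ)) :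
    ∑ χ : Cfsg.IrrCharacter G, f χ * (Cfsg.charDegree (χ : G → ℂ) : ℤ) = 0 := by
  have h0 : ((∑ χ : Cfsg.IrrCharacter G, f χ * (Cfsg.charDegree (χ : G → ℂ) : ℤ) : ℤ) : ℂ)
      = ∑ χ : Cfsg.IrrCharacter G, (χ : G → ℂ) g * (χ : G → ℂ) 1 := by
    push_cast
    apply Finset.sum_congr rfl
    intro χ _
    rw [hf χ, IsCharacter.apply_one_eq_charDegree (IsIrrCharacter.isCharacter χ.2)]
  have h1 := sum_irr_apply_mul_apply_one g
  rw [if_neg hg, ← h0] at h1
  exact_mod_cast h1

/-- bilinear expansion -/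
theorem gram6 {ι : Type*} (S : Finset ι) (x y va vt vc va' vt' vc' : ι → ℤ)
    (A B C A' B' C' : ℤ)
    (hx : ∀ i, 6 * x i = A * va i + B * vt i + C * vc i)
    (hy : ∀ i, 6 * y i = A' * va' i + B' * vt' i + C' * vc' i) :
    36 * ∑ i ∈ S, x i * y i
      = A * A' * ∑ i ∈ S, va i * va' i + A * B' * ∑ i ∈ S, va i * vt' i
        + A * C' * ∑ i ∈ S, va i * vc' i + B * A' * ∑ i ∈ S, vt i * va' i
        + B * B' * ∑ i ∈ S, vt i * vt' i + B * C' * ∑ i ∈ S, vt i * vc' i
        + C * A' * ∑ i ∈ S, vc i * va' i + C * B' * ∑ i ∈ S, vc i * vt' i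
        + C * C' * ∑ i ∈ S, vc i * vc' i := by
  simp only [Finset.mul_sum]
  simp only [← Finset.sum_add_distrib]
  apply Finset.sum_congr rfl
  intro i _
  have : 36 * (x i * y i) = (6 * x i) * (6 * y i) := by ring
  rw [this, hx i, hy i]
  ring

/-- linear expansion -/
theorem lin6 {ι : Type*} (S : Finset ι) (x va vt vc d : ι → ℤ) (A B C : ℤ)
    (hx : ∀ i, 6 * x i = A * va i + B * vt i + C * vc i) :
    6 * ∑ i ∈ S, x i * d i
      = A * ∑ i ∈ S, va i * d i + B * ∑ i ∈ S, vt i * d i + C * ∑ i ∈ S, vc i * d i := by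
  simp only [Finset.mul_sum]
  simp only [← Finset.sum_add_distrib]
  apply Finset.sum_congr rfl
  intro i _
  have : 6 * (x i * d i) = (6 * x i) * d i := by ring
  rw [this, hx i]
  ring

end gram

end Cfsg.Agent.Lib.Helper6.Tv
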