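import Mathlib
import Cfsg.Prelude.Def_Blocks
import Cfsg.Agent.Lib.Helper6.TvG
import Cfsg.Agent.Lib.Helper8.GlB
import Cfsg.Agent.Lib.Helper4.GridComb

/-! # A Sylow 3-subgroup `3²` with normalizer `S₃ × S₃` and `C(s) ≤ N(P)`: the group has order 36 -/

set_option autoImplicit false
set_option linter.unusedSectionVars false
set_option maxHeartbeats 800000
open Cfsg

namespace Cfsg.Agent.Lib.Helper6.Tv

open scoped ComplexConjugate
open Cfsg.Agent.Lib.Helper6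
open Cfsg.Agent.Lib.Helper4.GridComb

section main

variable {G : Type*} [Group G] [Fintype G] [DecidableEq G]
variable [Fintype (Cfsg.IrrCharacter G)]

/-- the class multiplication constant in terms of integer-valued columns -/
theorem class_sum (g₁ g₂ g₃ : G) (f₁ f₂ f₃ : Cfsg.IrrCharacter G → ℤ)
    (hf₁ : ∀ χ : Cfsg.IrrCharacter G, (χ : G → ℂ) g₁ = (f₁ χ : ℂ))
    (hf₂ : ∀ χ : Cfsg.IrrCharacter G, (χ : G → ℂ) g₂ = (f₂ χ : ℂ))
    (hf₃ : ∀ χ : Cfsg.IrrCharacter G, (χ : G → ℂ) g₃ = (f₃ χ : ℂ)) :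
    (Nat.card G : ℚ) * ∑ χ : Cfsg.IrrCharacter G,
        ((f₁ χ * f₂ χ * f₃ χ : ℤ) : ℚ) / (Cfsg.charDegree (χ : G → ℂ) : ℚ)
      = ((Nat.card (Subgroup.centralizer ({g₁} : Set G))
        * Nat.card (Subgroup.centralizer ({g₂} : Set G))
        * Nat.card {p : G × G // IsConj g₁ p.1 ∧ IsConj g₂ p.2 ∧ p.1 * p.2 = g₃} : ℕ) : ℚ) := by
  have h1 := card_conj_mul_conj_eq g₁ g₂ g₃
  have h2 := card_conj_pairs g₁ g₂ g₃
  rw [h2] at h1
  have h3 : ∑ χ : Cfsg.IrrCharacter G,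
      (χ : G → ℂ) g₁ * (χ : G → ℂ) g₂ * conj ((χ : G → ℂ) g₃) / (χ : G → ℂ) 1
      = ((∑ χ : Cfsg.IrrCharacter G,
        ((f₁ χ * f₂ χ * f₃ χ : ℤ) : ℚ) / (Cfsg.charDegree (χ : G → ℂ) : ℚ) : ℚ) : ℂ) := by
    push_cast
    apply Finset.sum_congr rfl
    intro χ _
    rw [hf₁ χ, hf₂ χ, hf₃ χ, map_intCast,
      IsCharacter.apply_one_eq_charDegree (IsIrrCharacter.isCharacter χ.2)]
  rw [h3] at h1
  have h4 : (((Nat.card (Subgroup.centralizer ({g₁} : Set G))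
        * Nat.card (Subgroup.centralizer ({g₂} : Set G))
        * Nat.card {p : G × G // IsConj g₁ p.1 ∧ IsConj g₂ p.2 ∧ p.1 * p.2 = g₃} : ℕ) : ℚ) : ℂ)
      = (((Nat.card G : ℚ) * ∑ χ : Cfsg.IrrCharacter G,
        ((f₁ χ * f₂ χ * f₃ χ : ℤ) : ℚ) / (Cfsg.charDegree (χ : G → ℂ) : ℚ) : ℚ) : ℂ) := by
    push_cast
    push_cast at h1
    exact h1
  exact_mod_cast h4.symm

variable {M : Ideal Cfsg.AlgInt} {P : Sylow 3 G} {a b t₁ t₂ : G}

theorem card_eq_36 (hM : Cfsg.IsPModular 3 M)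
    (hcomm : ∀ x ∈ (P : Subgroup G), ∀ y ∈ (P : Subgroup G), x * y = y * x)
    (hexp : ∀ x ∈ (P : Subgroup G), x ^ 3 = 1)
    (hloc : ∀ s ∈ (P : Subgroup G), s ≠ 1 →
      Subgroup.centralizer ({s} : Set G) ≤ Subgroup.normalizer ((P : Subgroup G) : Set G))
    (hCP : Subgroup.centralizer ((P : Subgroup G) : Set G) ≤ (P : Subgroup G))
    (hcardP : Nat.card (P : Subgroup G) = 9)
    (L : Loc P a b t₁ t₂) : Nat.card G = 36 := by
  classical
  haveI : Fact (Nat.Prime 3) := ⟨Nat.prime_three⟩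
  have hχc : ∀ χ : Cfsg.IrrCharacter G, Cfsg.IsCharacter G (χ : G → ℂ) :=
    fun χ => IsIrrCharacter.isCharacter χ.2
  choose r₁ r₂ r₃ hr using fun χ : Cfsg.IrrCharacter G =>
    L.exists_int hcomm hexp hloc (hχc χ)
  choose c₁ c₂ c₃ hc using fun χ : Cfsg.IrrCharacter G =>
    L.symm.exists_int hcomm hexp hloc (hχc χ)
  have hba : b * a = a * b := (L.ab_comm hcomm hexp).symm
  -- the integer-valued columns
  obtain ⟨va, hvadef⟩ : ∃ va : Cfsg.IrrCharacter G → ℤ,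
    va = fun χ => r₁ χ + r₂ χ - 2 * r₃ χ := ⟨_, rfl⟩
  obtain ⟨vt, hvtdef⟩ : ∃ vt : Cfsg.IrrCharacter G → ℤ, vt = fun χ => r₁ χ - r₂ χ := ⟨_, rfl⟩
  obtain ⟨vc, hvcdef⟩ : ∃ vc : Cfsg.IrrCharacter G → ℤ,
    vc = fun χ => r₁ χ + r₂ χ + r₃ χ := ⟨_, rfl⟩
  obtain ⟨vb, hvbdef⟩ : ∃ vb : Cfsg.IrrCharacter G → ℤ,
    vb = fun χ => c₁ χ + c₂ χ - 2 * c₃ χ := ⟨_, rfl⟩
  obtain ⟨vs, hvsdef⟩ : ∃ vs : Cfsg.IrrCharacter G → ℤ, vs = fun χ => c₁ χ - c₂ χ := ⟨_, rfl⟩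
  have hva : ∀ χ : Cfsg.IrrCharacter G, (χ : G → ℂ) a = (va χ : ℂ) := by
    intro χ; rw [(hr χ).2.1, hvadef]; push_cast; ring
  have hvt : ∀ χ : Cfsg.IrrCharacter G, (χ : G → ℂ) (a * t₁) = (vt χ : ℂ) := by
    intro χ; rw [(hr χ).2.2, hvtdef]; push_cast; ring
  have hvc : ∀ χ : Cfsg.IrrCharacter G, (χ : G → ℂ) (a * b) = (vc χ : ℂ) := by
    intro χ; rw [(hr χ).1, hvcdef]; push_cast; ring
  have hvb : ∀ χ : Cfsg.IrrCharacter G, (χ : G → ℂ) b = (vb χ : ℂ) := by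
    intro χ; rw [(hc χ).2.1, hvbdef]; push_cast; ring
  have hvs : ∀ χ : Cfsg.IrrCharacter G, (χ : G → ℂ) (b * t₂) = (vs χ : ℂ) := by
    intro χ; rw [(hc χ).2.2, hvsdef]; push_cast; ring
  have hcsum : ∀ χ : Cfsg.IrrCharacter G, c₁ χ + c₂ χ + c₃ χ = vc χ := by
    intro χ
    have h1 := (hc χ).1
    rw [hba, hvc χ] at h1
    have : ((vc χ : ℤ) : ℂ) = ((c₁ χ + c₂ χ + c₃ χ : ℤ) : ℂ) := by push_cast; exact h1
    exact (Int.cast_injective this).symm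
  -- non-conjugacy
  have oa := L.orderOf_a hexp
  have ob := L.symm.orderOf_a hexp
  have oc := L.orderOf_ab hcomm hexp
  have ot := L.orderOf_at₁ hexp
  have os := L.symm.orderOf_at₁ hexp
  have nab : ¬ IsConj a b := L.not_isConj_a_b hcomm hexp hloc
  have nac : ¬ IsConj a (a * b) := L.not_isConj_a_ab hcomm hexp hloc
  have nbc : ¬ IsConj b (a * b) := by
    have := L.symm.not_isConj_a_ab hcomm hexp hloc
    rwa [hba] at this
  have nts : ¬ IsConj (a * t₁) (b * t₂) := L.not_isConj_at₁_bt₂ hcomm hexp hloc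
  have nord : ∀ {g h : G}, orderOf g ≠ orderOf h → ¬ IsConj g h :=
    fun h => Cfsg.Agent.Lib.Helper8.Gl.not_isConj_of_orderOf_ne h
  -- centralizer orders
  have ca := L.card_centralizer_a hcomm hexp hloc hcardP
  have cb := L.symm.card_centralizer_a hcomm hexp hloc hcardP
  have cc := L.card_centralizer_ab hcomm hexp hloc hcardP
  have ct := L.card_centralizer_at₁ hcomm hexp hloc hcardP
  have cs := L.symm.card_centralizer_at₁ hcomm hexp hloc hcardP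
  -- Gram sums
  have Saa : ∑ χ, va χ * va χ = 18 := by
    have := (gram_int a a va va hva hva).1 (IsConj.refl a); rw [ca] at this; exact_mod_cast this
  have Stt : ∑ χ, vt χ * vt χ = 6 := by
    have := (gram_int _ _ vt vt hvt hvt).1 (IsConj.refl (a * t₁)); rw [ct] at this
    exact_mod_cast this
  have Scc : ∑ χ, vc χ * vc χ = 9 := by
    have := (gram_int _ _ vc vc hvc hvc).1 (IsConj.refl (a * b)); rw [cc] at this
    exact_mod_cast this
  have Sbb : ∑ χ, vb χ * vb χ = 18 := by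
    have := (gram_int b b vb vb hvb hvb).1 (IsConj.refl b); rw [cb] at this; exact_mod_cast this
  have Sss : ∑ χ, vs χ * vs χ = 6 := by
    have := (gram_int _ _ vs vs hvs hvs).1 (IsConj.refl (b * t₂)); rw [cs] at this
    exact_mod_cast this
  have Sat : ∑ χ, va χ * vt χ = 0 :=
    (gram_int _ _ va vt hva hvt).2 (nord (by rw [oa, ot]; norm_num))
  have Sta : ∑ χ, vt χ * va χ = 0 :=
    (gram_int _ _ vt va hvt hva).2 (nord (by rw [oa, ot]; norm_num))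
  have Sac : ∑ χ, va χ * vc χ = 0 := (gram_int _ _ va vc hva hvc).2 nac
  have Sca : ∑ χ, vc χ * va χ = 0 := (gram_int _ _ vc va hvc hva).2 (fun h => nac h.symm)
  have Stc : ∑ χ, vt χ * vc χ = 0 :=
    (gram_int _ _ vt vc hvt hvc).2 (nord (by rw [oc, ot]; norm_num))
  have Sct : ∑ χ, vc χ * vt χ = 0 :=
    (gram_int _ _ vc vt hvc hvt).2 (nord (by rw [oc, ot]; norm_num))
  have Sbs : ∑ χ, vb χ * vs χ = 0 :=
    (gram_int _ _ vb vs hvb hvs).2 (nord (by rw [ob, os]; norm_num))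
  have Ssb : ∑ χ, vs χ * vb χ = 0 :=
    (gram_int _ _ vs vb hvs hvb).2 (nord (by rw [ob, os]; norm_num))
  have Sbc : ∑ χ, vb χ * vc χ = 0 := (gram_int _ _ vb vc hvb hvc).2 nbc
  have Scb : ∑ χ, vc χ * vb χ = 0 := (gram_int _ _ vc vb hvc hvb).2 (fun h => nbc h.symm)
  have Ssc : ∑ χ, vs χ * vc χ = 0 :=
    (gram_int _ _ vs vc hvs hvc).2 (nord (by rw [oc, os]; norm_num))
  have Scs : ∑ χ, vc χ * vs χ = 0 :=
    (gram_int _ _ vc vs hvc hvs).2 (nord (by rw [oc, os]; norm_num))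
  have Sab : ∑ χ, va χ * vb χ = 0 := (gram_int _ _ va vb hva hvb).2 nab
  have Sas : ∑ χ, va χ * vs χ = 0 :=
    (gram_int _ _ va vs hva hvs).2 (nord (by rw [oa, os]; norm_num))
  have Stb : ∑ χ, vt χ * vb χ = 0 :=
    (gram_int _ _ vt vb hvt hvb).2 (nord (by rw [ob, ot]; norm_num))
  have Sts : ∑ χ, vt χ * vs χ = 0 := (gram_int _ _ vt vs hvt hvs).2 nts
  -- degree sums
  obtain ⟨deg, hdegdef⟩ : ∃ deg : Cfsg.IrrCharacter G → ℤ,
    deg = fun χ : Cfsg.IrrCharacter G => (Cfsg.charDegree (χ : G → ℂ) : ℤ) := ⟨_, rfl⟩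
  have hat1 : a * t₁ ≠ 1 := by
    intro h
    rw [h, orderOf_one] at ot
    norm_num at ot
  have hbt1 : b * t₂ ≠ 1 := by
    intro h
    rw [h, orderOf_one] at os
    norm_num at os
  have Da : ∑ χ, va χ * deg χ = 0 := by rw [hdegdef]; exact deg_int a L.ha1 va hva
  have Dt : ∑ χ, vt χ * deg χ = 0 := by rw [hdegdef]; exact deg_int _ hat1 vt hvt
  have Dc : ∑ χ, vc χ * deg χ = 0 := by
    rw [hdegdef]; exact deg_int _ (L.ab_ne_one hcomm hexp) vc hvc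
  have Db : ∑ χ, vb χ * deg χ = 0 := by rw [hdegdef]; exact deg_int b L.hb1 vb hvb
  have Ds : ∑ χ, vs χ * deg χ = 0 := by rw [hdegdef]; exact deg_int _ hbt1 vs hvs
  -- the two frames
  obtain ⟨r, hrdef⟩ : ∃ r : Fin 3 → Cfsg.IrrCharacter G → ℤ, r = ![r₁, r₂, r₃] := ⟨_, rfl⟩
  obtain ⟨c, hcdef⟩ : ∃ c : Fin 3 → Cfsg.IrrCharacter G → ℤ, c = ![c₁, c₂, c₃] := ⟨_, rfl⟩
  obtain ⟨cA, hcA⟩ : ∃ cA : Fin 3 → ℤ, cA = ![1, 1, -2] := ⟨_, rfl⟩
  obtain ⟨cB, hcB⟩ : ∃ cB : Fin 3 → ℤ, cB = ![3, -3, 0] := ⟨_, rfl⟩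
  obtain ⟨cC, hcC⟩ : ∃ cC : Fin 3 → ℤ, cC = ![2, 2, 2] := ⟨_, rfl⟩
  have h6r : ∀ i χ, 6 * r i χ = cA i * va χ + cB i * vt χ + cC i * vc χ := by
    intro i χ
    rw [hrdef, hcA, hcB, hcC, hvadef, hvtdef, hvcdef]
    fin_cases i <;> simp <;> ring
  have h6c : ∀ i χ, 6 * c i χ = cA i * vb χ + cB i * vs χ + cC i * vc χ := by
    intro i χ
    rw [← hcsum χ, hcdef, hcA, hcB, hcC, hvbdef, hvsdef]
    fin_cases i <;> simp <;> ring
  have hrr : ∀ i k : Fin 3, ∑ χ, r i χ * r k χ = if i = k then 3 else 0 := by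
    intro i k
    have := gram6 Finset.univ (r i) (r k) va vt vc va vt vc (cA i) (cB i) (cC i)
      (cA k) (cB k) (cC k) (h6r i) (h6r k)
    rw [Saa, Sat, Sac, Sta, Stt, Stc, Sca, Sct, Scc] at this
    obtain ⟨s, hs⟩ : ∃ s : ℤ, s = ∑ χ, r i χ * r k χ := ⟨_, rfl⟩
    rw [← hs] at this ⊢
    rw [hcA, hcB, hcC] at this
    fin_cases i <;> fin_cases k <;> simp at this ⊢ <;> omega
  have hcc : ∀ i k : Fin 3, ∑ χ, c i χ * c k χ = if i = k then 3 else 0 := by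
    intro i k
    have := gram6 Finset.univ (c i) (c k) vb vs vc vb vs vc (cA i) (cB i) (cC i)
      (cA k) (cB k) (cC k) (h6c i) (h6c k)
    rw [Sbb, Sbs, Sbc, Ssb, Sss, Ssc, Scb, Scs, Scc] at this
    obtain ⟨s, hs⟩ : ∃ s : ℤ, s = ∑ χ, c i χ * c k χ := ⟨_, rfl⟩
    rw [← hs] at this ⊢
    rw [hcA, hcB, hcC] at this
    fin_cases i <;> fin_cases k <;> simp at this ⊢ <;> omega
  have hrc : ∀ i k : Fin 3, ∑ χ, r i χ * c k χ = 1 := by
    intro i k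
    have := gram6 Finset.univ (r i) (c k) va vt vc vb vs vc (cA i) (cB i) (cC i)
      (cA k) (cB k) (cC k) (h6r i) (h6c k)
    rw [Sab, Sas, Sac, Stb, Sts, Stc, Scb, Scs, Scc] at this
    obtain ⟨s, hs⟩ : ∃ s : ℤ, s = ∑ χ, r i χ * c k χ := ⟨_, rfl⟩
    rw [← hs] at this ⊢
    rw [hcA, hcB, hcC] at this
    fin_cases i <;> fin_cases k <;> simp at this ⊢ <;> omega
  have hrd : ∀ i : Fin 3, ∑ χ, r i χ * deg χ = 0 := by
    intro i
    have := lin6 Finset.univ (r i) va vt vc deg (cA i) (cB i) (cC i) (h6r i)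
    rw [Da, Dt, Dc] at this
    omega
  have hcd : ∀ i : Fin 3, ∑ χ, c i χ * deg χ = 0 := by
    intro i
    have := lin6 Finset.univ (c i) vb vs vc deg (cA i) (cB i) (cC i) (h6c i)
    rw [Db, Ds, Dc] at this
    omega
  have hr0 : ∀ χ, r 0 χ = r₁ χ := by intro χ; rw [hrdef]; rfl
  have hr1 : ∀ χ, r 1 χ = r₂ χ := by intro χ; rw [hrdef]; rfl
  have hr2 : ∀ χ, r 2 χ = r₃ χ := by intro χ; rw [hrdef]; rfl
  have hc0 : ∀ χ, c 0 χ = c₁ χ := by intro χ; rw [hcdef]; rfl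
  have hc1 : ∀ χ, c 1 χ = c₂ χ := by intro χ; rw [hcdef]; rfl
  have hc2 : ∀ χ, c 2 χ = c₃ χ := by intro χ; rw [hcdef]; rfl
  have hpa : ∀ χ, r 0 χ + r 1 χ - 2 * r 2 χ = va χ := by
    intro χ; rw [hr0, hr1, hr2, hvadef]
  have hpc : ∀ χ, r 0 χ + r 1 χ + r 2 χ = vc χ := by
    intro χ; rw [hr0, hr1, hr2, hvcdef]
  have hpb : ∀ χ, c 0 χ + c 1 χ - 2 * c 2 χ = vb χ := by
    intro χ; rw [hc0, hc1, hc2, hvbdef]
  have hpc' : ∀ χ, c 0 χ + c 1 χ + c 2 χ = vc χ := by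
    intro χ; rw [hc0, hc1, hc2]; exact hcsum χ
  have hsum : ∀ χ, r 0 χ + r 1 χ + r 2 χ = c 0 χ + c 1 χ + c 2 χ := by
    intro χ; rw [hpc, hpc']
  -- vanishing outside the principal block, non-vanishing inside
  have hidx : ¬ 3 ∣ (Subgroup.centralizer ({a * b} : Set G)).index := by
    rw [L.centralizer_ab hcomm hexp hloc]
    exact P.not_dvd_index
  have hnz : ∀ χ, ((∃ i, r i χ ≠ 0) ∨ (∃ j, c j χ ≠ 0)) → r 0 χ + r 1 χ + r 2 χ ≠ 0 := by
    intro χ hne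
    by_cases hχ : χ ∈ Cfsg.principalBlock M G
    · have h1 := ne_zero_of_principal hM χ hχ (a * b) hidx
      rw [hvc χ] at h1
      rw [hpc]
      intro h0
      apply h1
      rw [h0]; simp
    · exfalso
      have o1 : ¬ 3 ∣ orderOf (1 : G) := by rw [orderOf_one]; norm_num
      have e1 := vanish_section hM P hcomm hCP hloc χ hχ a L.haP L.ha1 1 (by group) o1
      have e2 := vanish_section hM P hcomm hCP hloc χ hχ a L.haP L.ha1 t₁ L.h₁a
        (by rw [L.orderOf_t₁ hexp]; norm_num)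
      have e3 := vanish_section hM P hcomm hCP hloc χ hχ (a * b) (L.abP hcomm hexp)
        (L.ab_ne_one hcomm hexp) 1 (by group) o1
      have e4 := vanish_section hM P hcomm hCP hloc χ hχ b L.hbP L.hb1 1 (by group) o1
      have e5 := vanish_section hM P hcomm hCP hloc χ hχ b L.hbP L.hb1 t₂ L.symm.h₁a
        (by rw [L.symm.orderOf_t₁ hexp]; norm_num)
      rw [mul_one] at e1 e3 e4
      rw [hva χ] at e1
      rw [hvt χ] at e2
      rw [hvc χ] at e3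
      rw [hvb χ] at e4
      rw [hvs χ] at e5
      have z1 : va χ = 0 := by exact_mod_cast e1
      have z2 : vt χ = 0 := by exact_mod_cast e2
      have z3 : vc χ = 0 := by exact_mod_cast e3
      have z4 : vb χ = 0 := by exact_mod_cast e4
      have z5 : vs χ = 0 := by exact_mod_cast e5
      rcases hne with ⟨i, hi⟩ | ⟨j, hj⟩
      · apply hi
        have := h6r i χ
        rw [z1, z2, z3] at this
        omega
      · apply hj
        have := h6c j χ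
        rw [z3, z4, z5] at this
        omega
  -- the trivial character
  have hone : ∀ g : G, ((oneIrr G : Cfsg.IrrCharacter G) : G → ℂ) g = 1 := fun g => rfl
  have o_a : va (oneIrr G) = 1 := by
    have := hva (oneIrr G); rw [hone] at this; exact_mod_cast this.symm
  have o_t : vt (oneIrr G) = 1 := by
    have := hvt (oneIrr G); rw [hone] at this; exact_mod_cast this.symm
  have o_c : vc (oneIrr G) = 1 := by
    have := hvc (oneIrr G); rw [hone] at this; exact_mod_cast this.symm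
  have o_b : vb (oneIrr G) = 1 := by
    have := hvb (oneIrr G); rw [hone] at this; exact_mod_cast this.symm
  have o_s : vs (oneIrr G) = 1 := by
    have := hvs (oneIrr G); rw [hone] at this; exact_mod_cast this.symm
  have hro : r 0 (oneIrr G) = 1 ∧ r 1 (oneIrr G) = 0 ∧ r 2 (oneIrr G) = 0 := by
    have h0 := h6r 0 (oneIrr G)
    have h1 := h6r 1 (oneIrr G)
    have h2 := h6r 2 (oneIrr G)
    rw [o_a, o_t, o_c, hcA, hcB, hcC] at h0 h1 h2
    simp at h0 h1 h2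
    refine ⟨by omega, by omega, by omega⟩
  have hco : c 0 (oneIrr G) = 1 ∧ c 1 (oneIrr G) = 0 ∧ c 2 (oneIrr G) = 0 := by
    have h0 := h6c 0 (oneIrr G)
    have h1 := h6c 1 (oneIrr G)
    have h2 := h6c 2 (oneIrr G)
    rw [o_b, o_s, o_c, hcA, hcB, hcC] at h0 h1 h2
    simp at h0 h1 h2
    refine ⟨by omega, by omega, by omega⟩
  have hdeg : ∀ χ, 0 < deg χ := by
    intro χ
    rw [hdegdef]
    show (0 : ℤ) < (Cfsg.charDegree (χ : G → ℂ) : ℤ)
    exact_mod_cast IsIrrCharacter.charDegree_pos χ.2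
  have hdo : deg (oneIrr G) = 1 := by
    rw [hdegdef]
    show (Cfsg.charDegree (fun _ : G => (1 : ℂ)) : ℤ) = 1
    rw [charDegree_one_fun]; rfl
  -- the class equations
  have hG0 : (Nat.card G : ℚ) ≠ 0 := by exact_mod_cast Nat.card_pos.ne'
  have hdegQ : ∀ χ, (deg χ : ℚ) = (Cfsg.charDegree (χ : G → ℂ) : ℚ) := by
    intro χ; rw [hdegdef]; push_cast; rfl
  have E1 := class_sum a a (a * b) va va vc hva hva hvc
  rw [L.card_mul_aa_ab hcomm hexp hloc] at E1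
  have E2 := class_sum a a b va va vb hva hva hvb
  rw [L.card_mul_aa_b hcomm hexp hloc] at E2
  have E3 := class_sum b b (a * b) vb vb vc hvb hvb hvc
  have hcnt3 : Nat.card {p : G × G // IsConj b p.1 ∧ IsConj b p.2 ∧ p.1 * p.2 = a * b} = 0 := by
    have := L.symm.card_mul_aa_ab hcomm hexp hloc
    rwa [hba] at this
  rw [hcnt3] at E3
  have E4 := class_sum b b a vb vb va hvb hvb hva
  rw [L.symm.card_mul_aa_b hcomm hexp hloc] at E4
  have E5 := class_sum a b (a * b) va vb vc hva hvb hvc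
  rw [L.card_mul_ab hcomm hexp hloc, ca, cb] at E5
  simp only [Nat.mul_zero, Nat.cast_zero, mul_eq_zero, hG0, false_or] at E1 E2 E3 E4
  have h1 : ∑ χ, (((r 0 χ + r 1 χ - 2 * r 2 χ) ^ 2 * (r 0 χ + r 1 χ + r 2 χ) : ℤ) : ℚ)
      / (deg χ : ℚ) = 0 := by
    rw [← E1]
    apply Finset.sum_congr rfl
    intro χ _
    rw [hpa, hpc, hdegQ, pow_two]
  have h2 : ∑ χ, (((r 0 χ + r 1 χ - 2 * r 2 χ) ^ 2 * (c 0 χ + c 1 χ - 2 * c 2 χ) : ℤ) : ℚ)
      / (deg χ : ℚ) = 0 := by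
    rw [← E2]
    apply Finset.sum_congr rfl
    intro χ _
    rw [hpa, hpb, hdegQ, pow_two]
  have h3 : ∑ χ, (((c 0 χ + c 1 χ - 2 * c 2 χ) ^ 2 * (r 0 χ + r 1 χ + r 2 χ) : ℤ) : ℚ)
      / (deg χ : ℚ) = 0 := by
    rw [← E3]
    apply Finset.sum_congr rfl
    intro χ _
    rw [hpb, hpc, hdegQ, pow_two]
  have h4 : ∑ χ, (((c 0 χ + c 1 χ - 2 * c 2 χ) ^ 2 * (r 0 χ + r 1 χ - 2 * r 2 χ) : ℤ) : ℚ)
      / (deg χ : ℚ) = 0 := by
    rw [← E4]
    apply Finset.sum_congr rfl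
    intro χ _
    rw [hpa, hpb, hdegQ, pow_two]
  have hfin := grid_comb (oneIrr G) deg hdeg hdo r c hrr hcc hrc hrd hcd hsum hnz hro hco
    h1 h2 h3 h4
  have h5 : ∑ χ : Cfsg.IrrCharacter G, ((va χ * vb χ * vc χ : ℤ) : ℚ)
      / (Cfsg.charDegree (χ : G → ℂ) : ℚ) = 9 := by
    rw [← hfin]
    apply Finset.sum_congr rfl
    intro χ _
    rw [hpa, hpb, hpc, hdegQ]
  rw [h5] at E5
  have h6 : (Nat.card G : ℚ) = 36 := by
    push_cast at E5
    linarith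
  exact_mod_cast h6

end main

end Cfsg.Agent.Lib.Helper6.Tv
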