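import Mathlib
import Cfsg.Prelude.Def_CaseTheorems
import Cfsg.Prelude.Def_Transfer

/-!
# GH5 (S3106): group-level glue

* `elemAb_of_generated` : a group generated by pairwise commuting involutions is elementary abelian.
* `false_of_gens` : (R5) for a subgroup given by generators (`closure S / B` elementary abelian of
  order `≥ 32`).
* `case_N_O_group` : the group part of the case (N,O).
* `fpf_of_layers` : the fixed-point-freeness needed in the case (N,N).
-/

set_option autoImplicit false

namespace Cfsg.Agent.Lib.Helper6.GH5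

/-- A group generated by pairwise commuting involutions is elementary abelian. -/
theorem elemAb_of_generated {K : Type*} [Group K] (S : Set K) (hS : Subgroup.closure S = ⊤)
    (hcomm : ∀ s ∈ S, ∀ t ∈ S, s * t = t * s) (hsq : ∀ s ∈ S, s * s = 1) :
    (∀ a b : K, a * b = b * a) ∧ ∀ a : K, a * a = 1 := by
  have hc : ∀ a b : K, a * b = b * a := by
    intro a b
    have ha : a ∈ Subgroup.closure S := by rw [hS]; trivial
    have hb : b ∈ Subgroup.closure S := by rw [hS]; trivial
    letI := Subgroup.closureCommGroupOfComm hcomm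
    have := mul_comm (⟨a, ha⟩ : Subgroup.closure S) ⟨b, hb⟩
    exact congrArg Subtype.val this
  refine ⟨hc, ?_⟩
  intro a
  have ha : a ∈ Subgroup.closure S := by rw [hS]; trivial
  induction ha using Subgroup.closure_induction with
  | mem x hx => exact hsq x hx
  | one => rw [one_mul]
  | mul x y _ _ hx2 hy2 =>
    calc x * y * (x * y) = x * (y * x) * y := by group
      _ = x * (x * y) * y := by rw [hc y x]
      _ = (x * x) * (y * y) := by group
      _ = 1 := by rw [hx2, hy2, one_mul]
  | inv x _ hx2 =>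
    have : x⁻¹ = x := inv_eq_of_mul_eq_one_right hx2
    rw [this]; exact hx2

section
variable {Y : Type*} [Group Y]

/-- pigeonhole on cosets. -/
theorem exists_lt_mem6 [Finite Y] (B H : Subgroup Y) (n : ℕ) (h : B.relIndex H ≤ n)
    (f : Fin (n + 1) → Y) (hf : ∀ i, f i ∈ H) : ∃ i j, i < j ∧ (f i)⁻¹ * f j ∈ B := by
  by_contra hne
  push Not at hne
  have h3 : B.relIndex H = Nat.card (H ⧸ B.subgroupOf H) := Subgroup.index_eq_card _
  have hinj : Function.Injective
      (fun i : Fin (n + 1) => (QuotientGroup.mk (⟨f i, hf i⟩ : H) : H ⧸ B.subgroupOf H)) := by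
    intro i j hij
    by_contra hne'
    have hij' : (QuotientGroup.mk (⟨f i, hf i⟩ : H) : H ⧸ B.subgroupOf H) =
        QuotientGroup.mk (⟨f j, hf j⟩ : H) := hij
    rcases lt_or_gt_of_ne hne' with hlt | hlt
    · apply hne i j hlt
      have := QuotientGroup.eq.mp hij'
      rw [Subgroup.mem_subgroupOf] at this
      simpa using this
    · apply hne j i hlt
      have := QuotientGroup.eq.mp hij'.symm
      rw [Subgroup.mem_subgroupOf] at this
      simpa using this
  have h4 := Nat.card_le_card_of_injective _ hinj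
  rw [Nat.card_fin, ← h3] at h4
  omega

/-- **(R5), generator form**: if `B` is centralised by the generators `S`, squares of generators
and the "commutators" `(s t)⁻¹ (t s)` of generators lie in `B`, then `closure S / B` is elementary
abelian; so `|closure S| ≥ 32 |B|` is impossible when the sectional `2`-rank is at most 4. -/
theorem false_of_gens [Finite Y] (hr : Cfsg.SectionalPRankLE 2 4 Y) (B : Subgroup Y) (S : Set Y)
    (hBS : B ≤ Subgroup.closure S) (hBc : ∀ b ∈ B, ∀ s ∈ S, s * b = b * s)
    (hcomm : ∀ s ∈ S, ∀ t ∈ S, (s * t)⁻¹ * (t * s) ∈ B) (hsq : ∀ s ∈ S, s * s ∈ B)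
    (hcard : 32 * Nat.card B ≤ Nat.card (Subgroup.closure S)) : False := by
  -- every element of H commutes with every element of B
  have hcen : ∀ h ∈ Subgroup.closure S, ∀ b ∈ B, h * b = b * h := by
    intro h hh b hb
    have : Subgroup.closure S ≤ Subgroup.centralizer ({b} : Set Y) := by
      rw [Subgroup.closure_le]
      intro s hs
      show s ∈ Subgroup.centralizer ({b} : Set Y)
      rw [Subgroup.mem_centralizer_singleton_iff]
      exact hBc b hb s hs
    have h1 := this hh
    rw [Subgroup.mem_centralizer_singleton_iff] at h1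
    exact h1
  haveI hN : (B.subgroupOf (Subgroup.closure S)).Normal := by
    constructor
    intro n hn h
    rw [Subgroup.mem_subgroupOf] at hn ⊢
    have h1 : ((h * n * h⁻¹ : Subgroup.closure S) : Y) = (n : Y) := by
      have h2 := hcen h h.2 n hn
      show (h : Y) * (n : Y) * (h : Y)⁻¹ = n
      rw [h2, mul_assoc, mul_inv_cancel, mul_one]
    rw [h1]; exact hn
  have hP := hr (Subgroup.closure S) (B.subgroupOf (Subgroup.closure S))
  -- the quotient is generated by commuting involutions
  have hgen : Subgroup.closure ((QuotientGroup.mk' (B.subgroupOf (Subgroup.closure S))) ''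
      (((↑) : Subgroup.closure S → Y) ⁻¹' S)) = ⊤ := by
    rw [← MonoidHom.map_closure, Subgroup.closure_closure_coe_preimage,
      Subgroup.map_top_of_surjective _ (QuotientGroup.mk'_surjective _)]
  have hE := elemAb_of_generated _ hgen
    (by
      rintro _ ⟨s, hs, rfl⟩ _ ⟨t, ht, rfl⟩
      show (QuotientGroup.mk s : _ ⧸ B.subgroupOf (Subgroup.closure S)) * QuotientGroup.mk t =
        QuotientGroup.mk t * QuotientGroup.mk s
      rw [← QuotientGroup.mk_mul, ← QuotientGroup.mk_mul, QuotientGroup.eq,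
        Subgroup.mem_subgroupOf]
      have := hcomm (s : Y) hs (t : Y) ht
      simpa using this)
    (by
      rintro _ ⟨s, hs, rfl⟩
      show (QuotientGroup.mk s : _ ⧸ B.subgroupOf (Subgroup.closure S)) * QuotientGroup.mk s = 1
      rw [← QuotientGroup.mk_mul, QuotientGroup.eq_one_iff, Subgroup.mem_subgroupOf]
      have := hsq (s : Y) hs
      simpa using this)
  have h2 := hP ⊤ ⟨⟨fun a b => Subtype.ext (hE.1 a b)⟩⟩
    (fun a _ => by rw [pow_two]; exact hE.2 a)
  rw [Subgroup.card_top] at h2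
  have h3 := Subgroup.card_eq_card_quotient_mul_card_subgroup
    (B.subgroupOf (Subgroup.closure S))
  have h4 : Nat.card (B.subgroupOf (Subgroup.closure S)) = Nat.card B :=
    Nat.card_congr (Subgroup.subgroupOfEquivOfLe hBS).toEquiv
  rw [h4] at h3
  have hpos : 0 < Nat.card B := Nat.card_pos
  have h5 : Nat.card (Subgroup.closure S) ≤ 2 ^ 4 * Nat.card B := by
    rw [h3]; exact Nat.mul_le_mul_right _ h2
  nlinarith

/-- **Case (N,O), group part.**  `W` elementary abelian of order 16, `x, x'` commuting with `W`,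
with `x² = x'² = [x,x'] = z ∈ W` and `x, x', x x'` outside `W`: then `⟨W, x, x'⟩ / ⟨z⟩` is
elementary abelian of order `≥ 32`. -/
theorem case_N_O_group [Finite Y] (hr : Cfsg.SectionalPRankLE 2 4 Y) (W : Subgroup Y)
    (hWc : ∀ w ∈ W, ∀ w' ∈ W, w * w' = w' * w) (hW2 : ∀ w ∈ W, w * w = 1)
    (hcard : Nat.card W = 16) (x x' z : Y) (hz : z ∈ W)
    (hxW : ∀ w ∈ W, x * w = w * x) (hx'W : ∀ w ∈ W, x' * w = w * x')
    (hxx : x * x = z) (hx'x' : x' * x' = z) (hcomm : x * x' = z * (x' * x))
    (hx : x ∉ W) (hx' : x' ∉ W) (hxx' : x * x' ∉ W) : False := by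
  have hzz : z * z = 1 := hW2 z hz
  have hzinv : z⁻¹ = z := inv_eq_of_mul_eq_one_right hzz
  have hxz : x * z = z * x := hxW z hz
  have hx'z : x' * z = z * x' := hx'W z hz
  have hcomm' : x' * x = z * (x * x') := by
    rw [hcomm, ← mul_assoc, hzz, one_mul]
  have hWS : (W : Set Y) ⊆ (W : Set Y) ∪ {x, x'} := Set.subset_union_left
  have hWH : W ≤ Subgroup.closure ((W : Set Y) ∪ {x, x'}) := by
    intro w hw; exact Subgroup.subset_closure (hWS hw)
  have hxH : x ∈ Subgroup.closure ((W : Set Y) ∪ {x, x'}) :=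
    Subgroup.subset_closure (Or.inr (Or.inl rfl))
  have hx'H : x' ∈ Subgroup.closure ((W : Set Y) ∪ {x, x'}) :=
    Subgroup.subset_closure (Or.inr (Or.inr rfl))
  -- membership in B = zpowers z
  have h1B : (1 : Y) ∈ Subgroup.zpowers z := one_mem _
  have hzB : z ∈ Subgroup.zpowers z := Subgroup.mem_zpowers z
  -- B is centralised by the generators
  have hBc : ∀ b ∈ Subgroup.zpowers z, ∀ s ∈ ((W : Set Y) ∪ {x, x'}), s * b = b * s := by
    intro b hb s hs
    obtain ⟨k, rfl⟩ := Subgroup.mem_zpowers_iff.1 hb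
    have hsz : Commute s z := by
      rcases hs with hs | hs | hs
      · exact hWc s hs z hz
      · rw [hs]; exact hxz
      · rw [Set.mem_singleton_iff] at hs; rw [hs]; exact hx'z
    exact (hsz.zpow_right k).eq
  have hBS : Subgroup.zpowers z ≤ Subgroup.closure ((W : Set Y) ∪ {x, x'}) := by
    rw [Subgroup.zpowers_le]; exact hWH hz
  -- commutators of generators
  have hzc' : Commute z (x' * x) :=
    (show Commute z x' from hx'z.symm).mul_right (show Commute z x from hxz.symm)
  have hkey : (x' * x)⁻¹ * (z * (x' * x)) = z := by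
    rw [hzc'.eq, ← mul_assoc, inv_mul_cancel, one_mul]
  have hxx'1 : (x * x')⁻¹ * (x' * x) = z := by
    calc (x * x')⁻¹ * (x' * x) = (z * (x' * x))⁻¹ * (x' * x) := by rw [hcomm]
      _ = (x' * x)⁻¹ * (z * (x' * x)) := by rw [mul_inv_rev, hzinv, mul_assoc]
      _ = z := hkey
  have hx'x1 : (x' * x)⁻¹ * (x * x') = z := by
    rw [hcomm]; exact hkey
  have hcomm1 : ∀ s t : Y, s * t = t * s → (s * t)⁻¹ * (t * s) ∈ Subgroup.zpowers z := by
    intro s t h; rw [h, inv_mul_cancel]; exact h1B
  have hcm : ∀ s ∈ ((W : Set Y) ∪ {x, x'}), ∀ t ∈ ((W : Set Y) ∪ {x, x'}),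
      (s * t)⁻¹ * (t * s) ∈ Subgroup.zpowers z := by
    intro s hs t ht
    rcases hs with hs | hs | hs <;> rcases ht with ht | ht | ht
    · exact hcomm1 s t (hWc s hs t ht)
    · rw [ht]; exact hcomm1 s x (hxW s hs).symm
    · rw [Set.mem_singleton_iff] at ht; rw [ht]; exact hcomm1 s x' (hx'W s hs).symm
    · rw [hs]; exact hcomm1 x t (hxW t ht)
    · rw [hs, ht]; exact hcomm1 x x rfl
    · rw [Set.mem_singleton_iff] at ht; rw [hs, ht, hxx'1]; exact hzB
    · rw [Set.mem_singleton_iff] at hs; rw [hs]; exact hcomm1 x' t (hx'W t ht)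
    · rw [Set.mem_singleton_iff] at hs; rw [hs, ht, hx'x1]; exact hzB
    · rw [Set.mem_singleton_iff] at hs ht; rw [hs, ht]; exact hcomm1 x' x' rfl
  have hsq : ∀ s ∈ ((W : Set Y) ∪ {x, x'}), s * s ∈ Subgroup.zpowers z := by
    intro s hs
    rcases hs with hs | hs | hs
    · rw [hW2 s hs]; exact h1B
    · rw [hs, hxx]; exact hzB
    · rw [Set.mem_singleton_iff] at hs; rw [hs, hx'x']; exact hzB
  -- cardinalities
  have hB2 : Nat.card (Subgroup.zpowers z) ≤ 2 := by
    rw [Nat.card_zpowers]
    apply Nat.le_of_dvd (by norm_num)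
    apply orderOf_dvd_of_pow_eq_one
    rw [pow_two]; exact hzz
  have hidx : 4 ≤ W.relIndex (Subgroup.closure ((W : Set Y) ∪ {x, x'})) := by
    by_contra hlt
    push Not at hlt
    have hle : W.relIndex (Subgroup.closure ((W : Set Y) ∪ {x, x'})) ≤ 3 := by omega
    obtain ⟨i, j, hij, hmem⟩ := exists_lt_mem6 W _ 3 hle ![1, x, x', x * x'] (by
      intro i
      fin_cases i
      · exact one_mem _
      · exact hxH
      · exact hx'H
      · exact mul_mem hxH hx'H)
    fin_cases i <;> fin_cases j <;> simp at hij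
    · -- (0,1)
      apply hx; simpa using hmem
    · apply hx'; simpa using hmem
    · apply hxx'; simpa using hmem
    · -- (1,2): x⁻¹ * x' ∈ W
      apply hxx'
      have h1 : x⁻¹ * x' ∈ W := by simpa using hmem
      have h2 : x * x' = (x * x) * (x⁻¹ * x') := by group
      rw [h2, hxx]; exact mul_mem hz h1
    · -- (1,3): x⁻¹ * (x * x') ∈ W
      apply hx'
      have h1 : x⁻¹ * (x * x') ∈ W := by simpa using hmem
      have h2 : x⁻¹ * (x * x') = x' := by group
      rw [h2] at h1; exact h1
    · -- (2,3): x'⁻¹ * (x * x') ∈ W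
      apply hx
      have h1 : x'⁻¹ * (x * x') ∈ W := by simpa using hmem
      have h2 : x = x' * (x'⁻¹ * (x * x')) * x'⁻¹ := by group
      have h3 : x' * (x'⁻¹ * (x * x')) * x'⁻¹ = x'⁻¹ * (x * x') := by
        rw [hx'W _ h1, mul_assoc, mul_inv_cancel, mul_one]
      rw [h2, h3]; exact h1
  have hH : Nat.card (Subgroup.closure ((W : Set Y) ∪ {x, x'})) =
      16 * W.relIndex (Subgroup.closure ((W : Set Y) ∪ {x, x'})) := by
    have h1 := Subgroup.card_mul_index
      (W.subgroupOf (Subgroup.closure ((W : Set Y) ∪ {x, x'})))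
    have h2 : Nat.card (W.subgroupOf (Subgroup.closure ((W : Set Y) ∪ {x, x'}))) = Nat.card W :=
      Nat.card_congr (Subgroup.subgroupOfEquivOfLe hWH).toEquiv
    rw [h2, hcard] at h1
    exact h1.symm
  refine false_of_gens hr (Subgroup.zpowers z) ((W : Set Y) ∪ {x, x'}) hBS hBc hcm hsq ?_
  rw [hH]
  nlinarith

/-- **Case (N,N), fixed-point-freeness**: if `y` fixes no nonidentity element of `W` and no
nonzero element of `Q / W` (`y q y⁻¹ q⁻¹ ∈ W → q ∈ W`), then `y` is fixed-point-free on `Q`. -/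
theorem fpf_of_layers (Q W : Subgroup Y) (y : Y)
    (hyW : ∀ w ∈ W, y * w * y⁻¹ = w → w = 1)
    (hyV : ∀ q ∈ Q, (y * q * y⁻¹) * q⁻¹ ∈ W → q ∈ W) :
    ∀ q ∈ Q, y * q * y⁻¹ = q → q = 1 := by
  intro q hq h
  have h1 : (y * q * y⁻¹) * q⁻¹ ∈ W := by rw [h, mul_inv_cancel]; exact one_mem _
  exact hyW q (hyV q hq h1) h

end

end Cfsg.Agent.Lib.Helper6.GH5
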