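import Mathlib

/-!
HIG farm (S3050), unit US2a: third isomorphism theorem packaging.
-/

set_option autoImplicit false

namespace Cfsg.Agent.Lib.Helper6.HIG

/-- US2a: third isomorphism theorem packaging. -/
theorem quotient_equiv {G : Type*} [Group G] {S : Type*} [Group S] (Q : Subgroup G) [Q.Normal]
    (e : G ⧸ Q ≃* S) (Z : Subgroup G) [Z.Normal] (hZQ : Z ≤ Q) :
    ∃ e' : (G ⧸ Z) ⧸ (Q.map (QuotientGroup.mk' Z)) ≃* S,
      ∀ g : G, e' (QuotientGroup.mk (QuotientGroup.mk g : G ⧸ Z)) = e (QuotientGroup.mk g) := by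
  refine ⟨(QuotientGroup.quotientQuotientEquivQuotient Z Q hZQ).trans e, ?_⟩
  intro g
  rfl

end Cfsg.Agent.Lib.Helper6.HIG
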