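import Mathlib

/-!
HIG farm (S3050), unit US2b: a fixed-point-free element of order three stays fixed-point-free
on `Q/Z` (coprime action), and its image in `G/Z` still has order three.
-/

set_option autoImplicit false

namespace Cfsg.Agent.Lib.Helper6.HIG

/-- US2b: coprime action: a fixed-point-free element of order three stays fixed-point-free on `Q/Z`. -/
theorem fpf_quotient {G : Type*} [Group G] [Finite G] (Q : Subgroup G) [Q.Normal]
    (hQ : IsPGroup 2 ↥Q) (Z : Subgroup G) [Z.Normal] (hZQ : Z ≤ Q)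
    (x : G) (hx : orderOf x = 3) (hfpf : ∀ q ∈ Q, x * q * x⁻¹ = q → q = 1) :
    orderOf (QuotientGroup.mk x : G ⧸ Z) = 3 ∧
      ∀ q' ∈ Q.map (QuotientGroup.mk' Z),
        (QuotientGroup.mk x : G ⧸ Z) * q' * (QuotientGroup.mk x : G ⧸ Z)⁻¹ = q' → q' = 1 := by
  classical
  have hx3 : x * x * x = 1 := by
    have h := pow_orderOf_eq_one x
    rw [hx] at h
    simpa [pow_succ] using h
  have hxQ : x ∉ Q := by
    intro hxQ
    obtain ⟨k, hk⟩ := (IsPGroup.iff_orderOf.mp hQ) ⟨x, hxQ⟩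
    have h1 : orderOf (⟨x, hxQ⟩ : ↥Q) = orderOf x := by
      rw [← Subgroup.orderOf_coe]
    rw [h1, hx] at hk
    have h3 : (3 : ℕ) ∣ 2 ^ k := by rw [← hk]
    have h4 : (3 : ℕ) ∣ 2 := (Nat.Prime.dvd_of_dvd_pow (by norm_num) h3)
    omega
  refine ⟨?_, ?_⟩
  · haveI : Fact (Nat.Prime 3) := ⟨by norm_num⟩
    refine orderOf_eq_prime ?_ ?_
    · rw [← QuotientGroup.mk_pow]
      have h := pow_orderOf_eq_one x
      rw [hx] at h
      rw [h]
      rfl
    · intro h
      have hxZ : x ∈ Z := (QuotientGroup.eq_one_iff x).mp h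
      exact hxQ (hZQ hxZ)
  · intro q' hq' hfix
    obtain ⟨q, hqQ, rfl⟩ := Subgroup.mem_map.mp hq'
    change ((x : G ⧸ Z) * (q : G ⧸ Z) * (x : G ⧸ Z)⁻¹ = (q : G ⧸ Z)) at hfix
    -- `q⁻¹ * (x q x⁻¹) ∈ Z`
    have h1 : q⁻¹ * (x * q * x⁻¹) ∈ Z := by
      have h2 : ((q : G ⧸ Z)) = ((x * q * x⁻¹ : G) : G ⧸ Z) := by
        rw [QuotientGroup.mk_mul, QuotientGroup.mk_mul, QuotientGroup.mk_inv]
        exact hfix.symm
      exact QuotientGroup.eq.mp h2
    -- the twisted conjugation map on `Z`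
    have hmem : ∀ t : ↥Z, q⁻¹ * (x * (q * (t : G)) * x⁻¹) ∈ Z := by
      intro t
      have h2 : x * (t : G) * x⁻¹ ∈ Z := ‹Z.Normal›.conj_mem _ t.2 x
      have h3 : q⁻¹ * (x * (q * (t : G)) * x⁻¹) = (q⁻¹ * (x * q * x⁻¹)) * (x * (t : G) * x⁻¹) := by
        group
      rw [h3]
      exact Z.mul_mem h1 h2
    let f : Function.End ↥Z := fun t => ⟨q⁻¹ * (x * (q * (t : G)) * x⁻¹), hmem t⟩
    have hfval : ∀ t : ↥Z, q * ((f t : ↥Z) : G) = x * (q * (t : G)) * x⁻¹ := by
      intro t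
      change q * (q⁻¹ * (x * (q * (t : G)) * x⁻¹)) = _
      group
    have key : ∀ y : G, x * (x * (x * y * x⁻¹) * x⁻¹) * x⁻¹ = y := by
      intro y
      have h2 : x * (x * (x * y * x⁻¹) * x⁻¹) * x⁻¹ = (x * x * x) * y * (x * x * x)⁻¹ := by group
      rw [h2, hx3]
      simp
    have hf3 : f ^ 3 ^ 1 = 1 := by
      funext t
      change (f ^ 3) t = t
      have h2 : (f ^ 3) t = f (f (f t)) := by
        rw [pow_succ, pow_succ, pow_one]
        rfl
      rw [h2]
      apply Subtype.ext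
      have h3 : q * ((f (f (f t)) : ↥Z) : G) = q * (t : G) := by
        rw [hfval, hfval, hfval]
        exact key _
      exact mul_left_cancel h3
    haveI : Fintype ↥Z := Fintype.ofFinite _
    haveI : Fact (Nat.Prime 3) := ⟨by norm_num⟩
    have hmod := Equiv.Perm.card_fixedPoints_modEq (p := 3) (n := 1) (f := f) hf3
    -- `card Z` is a power of two
    have hZp : IsPGroup 2 ↥Z := by
      have : IsPGroup 2 ↥Q := hQ
      exact IsPGroup.to_le hQ hZQ
    haveI : Fact (Nat.Prime 2) := ⟨Nat.prime_two⟩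
    obtain ⟨m, hm⟩ := hZp.exists_card_eq
    have hne : Nonempty (Function.fixedPoints f) := by
      by_contra hempty
      rw [not_nonempty_iff] at hempty
      have h0 : Fintype.card (Function.fixedPoints f) = 0 := Fintype.card_eq_zero
      rw [h0, ← Nat.card_eq_fintype_card, hm] at hmod
      have h3 : (3 : ℕ) ∣ 2 ^ m := (Nat.modEq_zero_iff_dvd).mp hmod
      have h4 : (3 : ℕ) ∣ 2 := (Nat.Prime.dvd_of_dvd_pow (by norm_num) h3)
      omega
    obtain ⟨⟨t, ht⟩⟩ := hne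
    have ht' : f t = t := ht
    have h5 : x * (q * (t : G)) * x⁻¹ = q * (t : G) := by
      rw [← hfval, ht']
    have h6 : q * (t : G) = 1 := hfpf _ (Q.mul_mem hqQ (hZQ t.2)) h5
    have h7 : q = (t : G)⁻¹ := eq_inv_of_mul_eq_one_left h6
    have h8 : q ∈ Z := by rw [h7]; exact Z.inv_mem t.2
    exact (QuotientGroup.eq_one_iff q).mpr h8

end Cfsg.Agent.Lib.Helper6.HIG
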