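import Mathlib
import Cfsg.Agent.Lib.Helper6.GH5G
import Cfsg.Agent.Lib.Helper8.GH5Cases
import Cfsg.Agent.Lib.Helper8.GH5NN

/-!
# GH5 (S3106): wrappers for the cases (N,O) and (N,N) through the one-layer dictionary

The hypotheses on `piV, piW, ρV, ρW, s, c` are conjuncts of `Helper1.GH5U7.exists_layer`.
-/

set_option autoImplicit false

namespace Cfsg.Agent.Lib.Helper6.GH5

open Cfsg.Agent.Lib.Helper8.GH5Cases

/-- **Case (N,O), complete**: `P` fixes two different nonzero vectors `v, v'` of `V` but at most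
one nonzero vector of `Wt`; `s` is nonvanishing; `|W| = 16`.  Contradiction with (R5). -/
theorem false_of_layer_N_O {Y : Type*} [Group Y] [Finite Y]
    (hr : Cfsg.SectionalPRankLE 2 4 Y) (Q W : Subgroup Y) (hWQ : W ≤ Q)
    (hc : ∀ w ∈ W, ∀ q ∈ Q, w * q = q * w) (hexp : ∀ w ∈ W, w * w = 1)
    (hcardW : Nat.card W = 16)
    {G V Wt : Type*} [Group G] [AddCommGroup V] [AddCommGroup Wt]
    {ρV : G →* AddMonoid.End V} {ρW : G →* AddMonoid.End Wt} {s : V → Wt} {c : V → V → Wt}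
    (h : SC ρV ρW s c)
    (piV : Q → V) (piW : W → Wt)
    (hpiV_surj : Function.Surjective piV) (hpiV_mul : ∀ a b, piV (a * b) = piV a + piV b)
    (hpiV_ker : ∀ a : Q, (a : Y) ∈ W → piV a = 0)
    (hpiW_inj : Function.Injective piW)
    (hs : ∀ (q : Q) (hq : (q : Y) * q ∈ W), s (piV q) = piW ⟨(q : Y) * q, hq⟩)
    (hcm : ∀ (q q' : Q) (hq : (q : Y) * q' * (q : Y)⁻¹ * (q' : Y)⁻¹ ∈ W),
      c (piV q) (piV q') = piW ⟨(q : Y) * q' * (q : Y)⁻¹ * (q' : Y)⁻¹, hq⟩)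
    (hsq : ∀ q : Q, (q : Y) * q ∈ W)
    (hs_ne : ∀ v, v ≠ 0 → s v ≠ 0) (P : Subgroup G)
    (hCW : ∀ w w' : Wt, (∀ g ∈ P, ρW g w = w) → (∀ g ∈ P, ρW g w' = w') → w ≠ 0 → w' ≠ 0 →
      w = w')
    (v v' : V) (hv : v ≠ 0) (hv' : v' ≠ 0) (hvv' : v ≠ v')
    (hfix : ∀ g ∈ P, ρV g v = v) (hfix' : ∀ g ∈ P, ρV g v' = v') : False := by
  obtain ⟨h1, h2, h3⟩ := case_N_O h hs_ne P hCW v v' hv hv' hvv' hfix hfix'
  obtain ⟨x, rfl⟩ := hpiV_surj v
  obtain ⟨x', rfl⟩ := hpiV_surj v'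
  -- commutators of Q lie in W
  have hcmW : ∀ a b : Q, (a : Y) * b * (a : Y)⁻¹ * (b : Y)⁻¹ ∈ W := by
    intro a b
    have e1 : (a : Y) * b * (a : Y)⁻¹ * (b : Y)⁻¹ =
        (((a * b : Q) : Y) * ((a * b : Q) : Y)) *
          ((b : Y)⁻¹ * ((((a⁻¹ : Q) : Y)) * ((a⁻¹ : Q) : Y)) * (b : Y)) *
            ((((b⁻¹ : Q) : Y)) * ((b⁻¹ : Q) : Y)) := by
      simp only [Subgroup.coe_mul, Subgroup.coe_inv]
      group
    rw [e1]
    refine mul_mem (mul_mem (hsq _) ?_) (hsq _)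
    have hw := hsq (a⁻¹)
    have e2 : (b : Y)⁻¹ * ((((a⁻¹ : Q) : Y)) * ((a⁻¹ : Q) : Y)) * (b : Y) =
        (((a⁻¹ : Q) : Y)) * ((a⁻¹ : Q) : Y) := by
      have := hc _ hw (b : Y) b.2
      rw [mul_assoc, this, ← mul_assoc, inv_mul_cancel, one_mul]
    rw [e2]; exact hw
  have hz : (x : Y) * x ∈ W := hsq x
  have hz' : (x' : Y) * x' ∈ W := hsq x'
  have hsx : s (piV x) = piW ⟨(x : Y) * x, hz⟩ := hs x hz
  have hsx' : s (piV x') = piW ⟨(x' : Y) * x', hz'⟩ := hs x' hz'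
  have e1 : (x' : Y) * x' = (x : Y) * x := by
    have := hpiW_inj (hsx'.symm.trans (h1.trans hsx))
    exact congrArg Subtype.val this
  have hcx := hcm x x' (hcmW x x')
  have e2 : (x : Y) * x' * (x : Y)⁻¹ * (x' : Y)⁻¹ = (x : Y) * x := by
    have := hpiW_inj (hcx.symm.trans (h3.trans hsx))
    exact congrArg Subtype.val this
  have e3 : (x : Y) * x' = ((x : Y) * x) * ((x' : Y) * x) := by
    have : (x : Y) * x' = ((x : Y) * x' * (x : Y)⁻¹ * (x' : Y)⁻¹) * ((x' : Y) * x) := by group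
    rw [this, e2]
  have hxW : (x : Y) ∉ W := fun hmem => hv (hpiV_ker x hmem)
  have hx'W : (x' : Y) ∉ W := fun hmem => hv' (hpiV_ker x' hmem)
  have hxx'W : (x : Y) * x' ∉ W := by
    intro hmem
    have := hpiV_ker (x * x') (by simpa using hmem)
    rw [hpiV_mul] at this
    exact h.add_ne_zero_V hvv' this
  exact case_N_O_group hr W (fun w hw w' hw' => hc w hw w' (hWQ hw')) hexp hcardW
    (x : Y) (x' : Y) ((x : Y) * x) hz
    (fun w hw => (hc w hw x x.2).symm) (fun w hw => (hc w hw x' x'.2).symm)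
    rfl e1 e3 hxW hx'W hxx'W

/-- **Case (N,N), complete**: both `V` and `Wt` of type `N` (elements of order 3 of `Y ⧸ Q` fix
only `0`) force `Q` to be elementary abelian by Higman's lemma (S3050). -/
theorem false_of_layer_N_N {Y : Type*} [Group Y] [Finite Y] (Q W : Subgroup Y) [Q.Normal]
    (hQ : IsPGroup 2 ↥Q) (e : Y ⧸ Q ≃* ↥(alternatingGroup (Fin 5)))
    {V Wt : Type*} [AddCommGroup V] [AddCommGroup Wt]
    {ρV : (Y ⧸ Q) →* AddMonoid.End V} {ρW : (Y ⧸ Q) →* AddMonoid.End Wt}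
    (piV : Q → V) (piW : W → Wt)
    (hV2 : ∀ u : V, u + u = 0)
    (hpiV_mul : ∀ a b, piV (a * b) = piV a + piV b)
    (hpiV_ker : ∀ a : Q, piV a = 0 ↔ (a : Y) ∈ W)
    (hpiW_inj : Function.Injective piW) (hpiW_mul : ∀ a b, piW (a * b) = piW a + piW b)
    (hρV : ∀ (y : Y) (q : Q) (hq : y * q * y⁻¹ ∈ Q),
      ρV (QuotientGroup.mk y) (piV q) = piV ⟨y * q * y⁻¹, hq⟩)
    (hρW : ∀ (y : Y) (w : W) (hw : y * w * y⁻¹ ∈ W),
      ρW (QuotientGroup.mk y) (piW w) = piW ⟨y * w * y⁻¹, hw⟩)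
    (hVN : ∀ g : Y ⧸ Q, orderOf g = 3 → ∀ u : V, ρV g u = u → u = 0)
    (hWN : ∀ g : Y ⧸ Q, orderOf g = 3 → ∀ w : Wt, ρW g w = w → w = 0)
    (hne : ∃ q ∈ Q, q * q ≠ 1) : False := by
  haveI : Fact (Nat.Prime 3) := ⟨Nat.prime_three⟩
  -- an element of order 3
  have hcardY : Nat.card Y = Nat.card Q * 60 := by
    have h60 : Nat.card ↥(alternatingGroup (Fin 5)) = 60 := by
      rw [nat_card_alternatingGroup]; simp [Nat.factorial]
    rw [Subgroup.card_eq_card_quotient_mul_card_subgroup Q, Nat.card_congr e.toEquiv, h60,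
      mul_comm]
  have h3 : 3 ∣ Nat.card Y := by rw [hcardY]; exact Dvd.dvd.mul_left (by norm_num) _
  obtain ⟨y, hy⟩ := exists_prime_orderOf_dvd_card' 3 h3
  have hyQ : y ∉ Q := by
    intro hmem
    obtain ⟨k, hk⟩ := hQ ⟨y, hmem⟩
    have hk' : y ^ 2 ^ k = 1 := by
      have := congrArg Subtype.val hk
      simpa using this
    have hd : 3 ∣ 2 ^ k := by rw [← hy]; exact orderOf_dvd_of_pow_eq_one hk'
    have := (Nat.Prime.dvd_of_dvd_pow Nat.prime_three hd)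
    omega
  have hg : orderOf (QuotientGroup.mk y : Y ⧸ Q) = 3 := by
    have hd : orderOf (QuotientGroup.mk y : Y ⧸ Q) ∣ 3 := by
      apply orderOf_dvd_of_pow_eq_one
      rw [← QuotientGroup.mk_pow, ← hy, pow_orderOf_eq_one]; rfl
    rcases (Nat.dvd_prime Nat.prime_three).1 hd with h1 | h1
    · exfalso
      rw [orderOf_eq_one_iff, QuotientGroup.eq_one_iff] at h1
      exact hyQ h1
    · exact h1
  have hpiW_one : piW 1 = 0 := by
    have := hpiW_mul 1 1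
    rw [mul_one] at this
    exact left_eq_add.mp this
  have hpiV_one : piV 1 = 0 := by
    have := hpiV_mul 1 1
    rw [mul_one] at this
    exact left_eq_add.mp this
  have hfpf := fpf_of_layers Q W y
    (by
      intro w hw hfix
      have hw' : y * w * y⁻¹ ∈ W := by rw [hfix]; exact hw
      have h1 := hρW y ⟨w, hw⟩ hw'
      have h2 : (⟨y * w * y⁻¹, hw'⟩ : W) = ⟨w, hw⟩ := Subtype.ext hfix
      rw [h2] at h1
      have h4 := hWN _ hg _ h1
      have h5 : (⟨w, hw⟩ : W) = 1 := hpiW_inj (h4.trans hpiW_one.symm)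
      exact congrArg Subtype.val h5)
    (by
      intro q hq hmem
      have hq' : y * q * y⁻¹ ∈ Q := Subgroup.Normal.conj_mem inferInstance q hq y
      have h1 := hρV y ⟨q, hq⟩ hq'
      -- piV of the conjugate equals piV q
      have h2 : piV (⟨y * q * y⁻¹, hq'⟩ * (⟨q, hq⟩ : Q)⁻¹) = 0 :=
        (hpiV_ker _).2 (by simpa using hmem)
      rw [hpiV_mul] at h2
      have h3 : piV ((⟨q, hq⟩ : Q)⁻¹) = piV ⟨q, hq⟩ := by
        have h4 : piV ((⟨q, hq⟩ : Q)⁻¹) + piV ⟨q, hq⟩ = 0 := by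
          rw [← hpiV_mul, inv_mul_cancel, hpiV_one]
        have h5 := hV2 (piV ⟨q, hq⟩)
        exact add_right_cancel (h4.trans h5.symm)
      rw [h3] at h2
      have h6 : piV ⟨y * q * y⁻¹, hq'⟩ = piV ⟨q, hq⟩ := by
        have h5 := hV2 (piV ⟨q, hq⟩)
        exact add_right_cancel (h2.trans h5.symm)
      rw [h6] at h1
      have h7 := hVN _ hg _ h1
      exact (hpiV_ker _).1 h7)
  have hE := Cfsg.Agent.Lib.Helper8.GH5NN.elemAb_of_fpf Q hQ e y hy hfpf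
  obtain ⟨q, hq, hqq⟩ := hne
  apply hqq
  have := hE.2 q hq
  rwa [pow_two] at this

end Cfsg.Agent.Lib.Helper6.GH5
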