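import Mathlib
import Cfsg.Agent.Lib.Helper6.GH5W
import Cfsg.Agent.Lib.Helper9.GH5M
import Cfsg.Agent.Lib.Helper4.GH5MO5

/-!
# GH5 (S3106): final wrappers (N,N) and (N,O) for the one-layer dispatcher

Hypotheses: conjuncts of `Helper1.GH5U7.exists_layer` + `Helper9.GH5M.TypeN` / `Helper4.GH5.TypeOData`.
-/

set_option autoImplicit false

namespace Cfsg.Agent.Lib.Helper6.GH5

open Cfsg.Agent.Lib.Helper8.GH5Cases Cfsg.Agent.Lib.Helper9.GH5M Cfsg.Agent.Lib.Helper4.GH5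

/-- **(NO) wrapper**: `V` of type `N`, `Wt` of type `O` (`TypeOData`), `s` nonvanishing,
`|W| = 16`: contradiction. -/
theorem wrapper_NO {Y : Type*} [Group Y] [Finite Y]
    (hr : Cfsg.SectionalPRankLE 2 4 Y) (Q W : Subgroup Y) [Q.Normal] (hWQ : W ≤ Q)
    (hc : ∀ w ∈ W, ∀ q ∈ Q, w * q = q * w) (hexp : ∀ w ∈ W, w * w = 1)
    (hcardW : Nat.card W = 16) (e : Y ⧸ Q ≃* ↥(alternatingGroup (Fin 5)))
    {V Wt : Type*} [AddCommGroup V] [AddCommGroup Wt] [Finite V]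
    {ρV : (Y ⧸ Q) →* AddMonoid.End V} {ρW : (Y ⧸ Q) →* AddMonoid.End Wt}
    {s : V → Wt} {c : V → V → Wt} (h : SC ρV ρW s c)
    (piV : Q → V) (piW : W → Wt)
    (hpiV_surj : Function.Surjective piV) (hpiV_mul : ∀ a b, piV (a * b) = piV a + piV b)
    (hpiV_ker : ∀ a : Q, piV a = 0 ↔ (a : Y) ∈ W)
    (hpiW_inj : Function.Injective piW)
    (hs : ∀ (q : Q) (hq : (q : Y) * q ∈ W), s (piV q) = piW ⟨(q : Y) * q, hq⟩)
    (hcm : ∀ (q q' : Q) (hq : (q : Y) * q' * (q : Y)⁻¹ * (q' : Y)⁻¹ ∈ W),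
      c (piV q) (piV q') = piW ⟨(q : Y) * q' * (q : Y)⁻¹ * (q' : Y)⁻¹, hq⟩)
    (hsq : ∀ q ∈ Q, q * q ∈ W)
    (hNV : TypeN ρV) (hcardV : Nat.card V = 16) (hinjV : Function.Injective ρV)
    (dW : TypeOData ρW) (hs_ne : ∀ v, v ≠ 0 → s v ≠ 0) : False := by
  have hnt : Nontrivial V := by
    rw [← Finite.one_lt_card_iff_nontrivial, hcardV]; norm_num
  obtain ⟨v, hv⟩ := exists_ne (0 : V)
  have hP4 : Nat.card (stab ρV v) = 4 := TypeN.card_stab e h.V2 hNV hcardV hinjV v hv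
  obtain ⟨v', hv'0, hv'v, hfix'⟩ := TypeN.exists_second_fixed e h.V2 hNV hcardV hinjV v hv
  obtain ⟨m, hm⟩ := dW.fix_four h.W2 (stab ρV v) hP4
  refine false_of_layer_N_O hr Q W hWQ hc hexp hcardW h piV piW hpiV_surj hpiV_mul
    (fun a ha => (hpiV_ker a).2 ha) hpiW_inj hs hcm (fun q => hsq q q.2) hs_ne (stab ρV v)
    ?_ v v' hv hv'0 (fun hh => hv'v hh.symm) (fun g hg => mem_stab.1 hg) hfix'
  intro w w' hw hw' hw0 hw'0
  rcases hm w hw with h1 | h1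
  · exact absurd h1 hw0
  · rcases hm w' hw' with h2 | h2
    · exact absurd h2 hw'0
    · rw [h1, h2]

/-- **(NN) wrapper**: `V` and `Wt` both of type `N`: contradiction with `∃ q ∈ Q, q * q ≠ 1`. -/
theorem wrapper_NN {Y : Type*} [Group Y] [Finite Y] (Q W : Subgroup Y) [Q.Normal]
    (hQ : IsPGroup 2 ↥Q) (e : Y ⧸ Q ≃* ↥(alternatingGroup (Fin 5)))
    {V Wt : Type*} [AddCommGroup V] [AddCommGroup Wt] [Finite V] [Finite Wt]
    {ρV : (Y ⧸ Q) →* AddMonoid.End V} {ρW : (Y ⧸ Q) →* AddMonoid.End Wt}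
    (piV : Q → V) (piW : W → Wt)
    (hV2 : ∀ u : V, u + u = 0) (hW2 : ∀ w : Wt, w + w = 0)
    (hpiV_mul : ∀ a b, piV (a * b) = piV a + piV b)
    (hpiV_ker : ∀ a : Q, piV a = 0 ↔ (a : Y) ∈ W)
    (hpiW_inj : Function.Injective piW) (hpiW_mul : ∀ a b, piW (a * b) = piW a + piW b)
    (hρV : ∀ (y : Y) (q : Q) (hq : y * q * y⁻¹ ∈ Q),
      ρV (QuotientGroup.mk y) (piV q) = piV ⟨y * q * y⁻¹, hq⟩)
    (hρW : ∀ (y : Y) (w : W) (hw : y * w * y⁻¹ ∈ W),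
      ρW (QuotientGroup.mk y) (piW w) = piW ⟨y * w * y⁻¹, hw⟩)
    (hNV : TypeN ρV) (hcardV : Nat.card V = 16) (hinjV : Function.Injective ρV)
    (hNW : TypeN ρW) (hcardWt : Nat.card Wt = 16) (hinjW : Function.Injective ρW)
    (hne : ∃ q ∈ Q, q * q ≠ 1) : False :=
  false_of_layer_N_N Q W hQ e piV piW hV2 hpiV_mul hpiV_ker hpiW_inj hpiW_mul hρV hρW
    (fun g hg u hu => TypeN.three_fpf e hV2 hNV hcardV hinjV g hg u hu)
    (fun g hg w hw => TypeN.three_fpf e hW2 hNW hcardWt hinjW g hg w hw) hne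

end Cfsg.Agent.Lib.Helper6.GH5
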