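import Mathlib

set_option autoImplicit false
set_option maxHeartbeats 1000000
set_option linter.unusedVariables false
set_option linter.unusedSectionVars false
set_option linter.style.longLine false

/-!
# Isotypic projector for a cyclic group of field multiplications (farm-out (E) of S3776)
-/

namespace Cfsg.Agent.Lib.Helper6.SzProj

open Polynomial

variable {F : Type*} [Field F] [Fintype F] [CharP F 2]

theorem two_zero : (2 : F) = 0 := CharTwo.two_eq_zero

theorem odd_cast (m : ℕ) (hm : Odd m) : ((m : ℕ) : F) = 1 := by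
  obtain ⟨k, rfl⟩ := hm
  push_cast
  rw [two_zero]
  ring

/-- geometric sum over an `m`-th root of unity, `m` odd, characteristic two -/
theorem geom_root [DecidableEq F] (m : ℕ) (hm : Odd m) (v : F) (hv : v ^ m = 1) :
    ∑ j ∈ Finset.range m, v ^ j = if v = 1 then 1 else 0 := by
  classical
  by_cases h : v = 1
  · rw [if_pos h, h]
    simp only [one_pow, Finset.sum_const, Finset.card_range, nsmul_eq_mul, mul_one]
    exact odd_cast m hm
  · rw [if_neg h, geom_sum_eq h, hv, sub_self, zero_div]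

theorem pow_two_pow_inj (i : ℕ) (x y : F) (h : x ^ 2 ^ i = y ^ 2 ^ i) : x = y := by
  have : Fact (Nat.Prime 2) := ⟨Nat.prime_two⟩
  have h1 : (x - y) ^ 2 ^ i = 0 := by
    rw [sub_pow_char_pow, h, sub_self]
  exact sub_eq_zero.mp (pow_eq_zero_iff (by positivity) |>.mp h1)

/-- the absolute trace -/
noncomputable def tr (n : ℕ) (y : F) : F := ∑ i ∈ Finset.range n, y ^ 2 ^ i

theorem tr_sq (n : ℕ) (hcard : Fintype.card F = 2 ^ n) (y : F) : tr n y ^ 2 = tr n y := by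
  have : Fact (Nat.Prime 2) := ⟨Nat.prime_two⟩
  unfold tr
  rw [sum_pow_char 2]
  have e1 : ∀ i ∈ Finset.range n, (y ^ 2 ^ i) ^ 2 = y ^ 2 ^ (i + 1) := by
    intro i _
    rw [← pow_mul, pow_succ]
  rw [Finset.sum_congr rfl e1]
  have h2 : y ^ 2 ^ n = y := by
    rw [← hcard]; exact FiniteField.pow_card y
  have e2 := Finset.sum_range_succ' (fun i => y ^ 2 ^ i) n
  have e3 := Finset.sum_range_succ (fun i => y ^ 2 ^ i) n
  simp only [pow_zero, pow_one] at e2
  rw [e3, h2] at e2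
  exact (add_right_cancel e2).symm

theorem tr_zero_or_one (n : ℕ) (hcard : Fintype.card F = 2 ^ n) (y : F) :
    tr n y = 0 ∨ tr n y = 1 := by
  have h := tr_sq n hcard y
  have h1 : tr n y * (tr n y - 1) = 0 := by
    rw [mul_sub, mul_one, ← pow_two, h, sub_self]
  rcases mul_eq_zero.mp h1 with h2 | h2
  · exact Or.inl h2
  · exact Or.inr (sub_eq_zero.mp h2)

/-- the exponent (0 or 1) representing the trace -/
noncomputable def trN (n : ℕ) (y : F) : ℕ := by
  classical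
  exact if tr n y = 0 then 0 else 1

theorem trN_cast (n : ℕ) (hcard : Fintype.card F = 2 ^ n) (y : F) :
    ((trN n y : ℕ) : F) = tr n y := by
  classical
  unfold trN
  rcases tr_zero_or_one n hcard y with h | h
  · rw [if_pos h, h]; simp
  · rw [if_neg (by rw [h]; exact one_ne_zero), h]; simp

section grp

variable {X : Type*} [Group X]

/-- an ordered product `y 0 ^ ex 0 * y 1 ^ ex 1 * ...` -/
def prodSeq (y : ℕ → X) (ex : ℕ → ℕ) : ℕ → X
  | 0 => 1
  | (k + 1) => prodSeq y ex k * y k ^ ex k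

theorem add_one' (c : X → F) (hc : ∀ x x', c (x * x') = c x + c x') : c 1 = 0 := by
  have h := hc 1 1
  rw [mul_one] at h
  exact left_eq_add.mp h

theorem add_pow' (c : X → F) (hc : ∀ x x', c (x * x') = c x + c x') (x : X) (k : ℕ) :
    c (x ^ k) = (k : F) * c x := by
  induction k with
  | zero => simp [add_one' c hc]
  | succ k ih => rw [pow_succ, hc, ih]; push_cast; ring

theorem sum_prodSeq (c : X → F) (hc : ∀ x x', c (x * x') = c x + c x')
    (y : ℕ → X) (ex : ℕ → ℕ) (k : ℕ) :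
    c (prodSeq y ex k) = ∑ j ∈ Finset.range k, (ex j : F) * c (y j) := by
  induction k with
  | zero => simp [prodSeq, add_one' c hc]
  | succ k ih =>
    rw [prodSeq, hc, ih, add_pow' c hc, Finset.sum_range_succ]

end grp

/-- a nonzero additive polynomial of small degree has a non-root -/
theorem exists_nonroot (n : ℕ) (hcard : Fintype.card F = 2 ^ n) (hn : 1 ≤ n)
    (I : Finset ℕ) (hI : ∀ i ∈ I, i < n) (h0 : 0 ∈ I) :
    ∃ z : F, ∑ i ∈ I, z ^ 2 ^ i ≠ 0 := by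
  classical
  by_contra hcon
  push Not at hcon
  set p : F[X] := ∑ i ∈ I, (X : F[X]) ^ 2 ^ i with hp
  have heval : ∀ z ∈ (Finset.univ : Finset F), eval z p = 0 := by
    intro z _
    rw [hp, eval_finsetSum]
    simp only [eval_pow, eval_X]
    exact hcon z
  have hdeg : p.natDegree ≤ 2 ^ (n - 1) := by
    rw [hp]
    apply Polynomial.natDegree_sum_le_of_forall_le
    intro i hi
    rw [natDegree_X_pow]
    exact Nat.pow_le_pow_right (by norm_num) (by have := hI i hi; omega)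
  have hlt : p.natDegree < (Finset.univ : Finset F).card := by
    rw [Finset.card_univ, hcard]
    calc p.natDegree ≤ 2 ^ (n - 1) := hdeg
      _ < 2 ^ n := Nat.pow_lt_pow_right (by norm_num) (by omega)
  have hz := eq_zero_of_natDegree_lt_card_of_eval_eq_zero' p Finset.univ heval hlt
  have hc1 : p.coeff 1 = 1 := by
    rw [hp, finsetSum_coeff]
    have : ∀ i ∈ I, ((X : F[X]) ^ 2 ^ i).coeff 1 = if i = 0 then 1 else 0 := by
      intro i _
      rw [coeff_X_pow]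
      by_cases hi : i = 0
      · subst hi; simp
      · rw [if_neg hi, if_neg]
        intro h1
        have : 2 ≤ 2 ^ i := by
          calc 2 = 2 ^ 1 := by norm_num
            _ ≤ 2 ^ i := Nat.pow_le_pow_right (by norm_num) (by omega)
        omega
    rw [Finset.sum_congr rfl this, Finset.sum_ite_eq' I 0, if_pos h0]
  rw [hz] at hc1
  simp at hc1

section core

variable {X : Type*} [Group X]

/-- the abstract projector: characters `w ρ ^ j` of a cyclic group of odd order `m` -/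
theorem proj_core (n : ℕ) (hcard : Fintype.card F = 2 ^ n) (hn : 1 ≤ n) (m : ℕ) (hm : Odd m)
    (c : (F ≃+* F) → X → F) (hc : ∀ ρ x x', c ρ (x * x') = c ρ x + c ρ x')
    (y : ℕ → X) (w : (F ≃+* F) → F) (hw : ∀ ρ, w ρ ^ m = 1) (x₀ : X)
    (hy : ∀ ρ j, c ρ (y j) = w ρ ^ j * c ρ x₀) (ρ₀ : F ≃+* F) (h0 : c ρ₀ x₀ ≠ 0)
    (hsep : ∀ ρ, ρ ≠ ρ₀ → ∀ i, i < n → w ρ ≠ w ρ₀ ^ 2 ^ i) :
    ∃ x : X, c ρ₀ x ≠ 0 ∧ ∀ ρ, ρ ≠ ρ₀ → c ρ x = 0 := by
  classical
  have hw0 : w ρ₀ ≠ 0 := by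
    intro h
    have := hw ρ₀
    rw [h, zero_pow (by rcases hm with ⟨k, rfl⟩; omega)] at this
    exact zero_ne_one this
  set u₀ : F := (w ρ₀)⁻¹ with hu₀
  have hu₀m : u₀ ^ m = 1 := by rw [hu₀, inv_pow, hw ρ₀, inv_one]
  -- the key computation
  have key : ∀ (z : F) (ρ : F ≃+* F),
      c ρ (prodSeq y (fun j => trN n (z * u₀ ^ j)) m) =
        c ρ x₀ * ∑ i ∈ Finset.range n, z ^ 2 ^ i * (if u₀ ^ 2 ^ i * w ρ = 1 then 1 else 0) := by
    intro z ρ
    rw [sum_prodSeq (c ρ) (hc ρ)]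
    have e1 : ∀ j ∈ Finset.range m, ((trN n (z * u₀ ^ j) : ℕ) : F) * c ρ (y j) =
        ∑ i ∈ Finset.range n, c ρ x₀ * (z ^ 2 ^ i * (u₀ ^ 2 ^ i * w ρ) ^ j) := by
      intro j _
      rw [trN_cast n hcard, hy, tr, Finset.sum_mul]
      apply Finset.sum_congr rfl
      intro i _
      rw [mul_pow, mul_pow, ← pow_mul, ← pow_mul, mul_comm j (2 ^ i)]
      ring
    rw [Finset.sum_congr rfl e1, Finset.sum_comm, Finset.mul_sum]
    apply Finset.sum_congr rfl
    intro i _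
    rw [← Finset.mul_sum, ← Finset.mul_sum]
    congr 2
    apply geom_root m hm
    rw [mul_pow, ← pow_mul, mul_comm (2 ^ i) m, pow_mul, hu₀m, one_pow, one_mul, hw]
  -- the good index set
  set I : Finset ℕ := (Finset.range n).filter (fun i => u₀ ^ 2 ^ i * w ρ₀ = 1) with hI
  have h0I : 0 ∈ I := by
    rw [hI, Finset.mem_filter, Finset.mem_range]
    refine ⟨by omega, ?_⟩
    rw [pow_zero, pow_one, hu₀, inv_mul_cancel₀ hw0]
  obtain ⟨z, hz⟩ := exists_nonroot n hcard hn I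
    (fun i hi => Finset.mem_range.mp (Finset.mem_filter.mp hi).1) h0I
  refine ⟨prodSeq y (fun j => trN n (z * u₀ ^ j)) m, ?_, ?_⟩
  · rw [key z ρ₀]
    apply mul_ne_zero h0
    have : ∑ i ∈ Finset.range n, z ^ 2 ^ i * (if u₀ ^ 2 ^ i * w ρ₀ = 1 then (1 : F) else 0) =
        ∑ i ∈ I, z ^ 2 ^ i := by
      rw [hI, Finset.sum_filter]
      apply Finset.sum_congr rfl
      intro i _
      split_ifs <;> simp
    rw [this]
    exact hz
  · intro ρ hρ
    rw [key z ρ]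
    have : ∀ i ∈ Finset.range n, z ^ 2 ^ i * (if u₀ ^ 2 ^ i * w ρ = 1 then (1 : F) else 0) = 0 := by
      intro i hi
      rw [if_neg, mul_zero]
      intro h1
      apply hsep ρ hρ i (Finset.mem_range.mp hi)
      rw [hu₀, inv_pow] at h1
      have h2 : w ρ₀ ^ 2 ^ i ≠ 0 := pow_ne_zero _ hw0
      field_simp at h1
      exact h1
    rw [Finset.sum_eq_zero this, mul_zero]

end core

section spec

variable {X : Type*} [Group X]

/-- the projector, with the two field lemmas `n2`, `n4` as hypotheses -/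
theorem projector_aux (n e : ℕ) (hcard : Fintype.card F = 2 ^ n) (hn : 2 ≤ n) (he : e ∣ n)
    (M : Subgroup Fˣ) (hM : ∀ b : Fˣ, b ^ e ∈ M)
    (hn2 : ∀ ρ : F ≃+* F, (∀ a ∈ M, ρ ((a : Fˣ) : F) = ((a : Fˣ) : F)) → ρ = 1)
    (hn4 : ∀ ρ ρ' : F ≃+* F, ρ ≠ 1 → ρ' ≠ 1 → ∀ i : ℕ, i < n →
      (∀ a ∈ M, ((a : Fˣ) : F) * (ρ' ((a : Fˣ) : F)) ^ (2 ^ i) =
        ρ ((a : Fˣ) : F) * ((a : Fˣ) : F) ^ (2 ^ i)) → ρ = ρ')
    (c : (F ≃+* F) → X → F) (hc : ∀ ρ x x', c ρ (x * x') = c ρ x + c ρ x')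
    (act : Fˣ → X → X)
    (hact : ∀ a ∈ M, ∀ ρ x, c ρ (act a x) = (((a : Fˣ) : F) / ρ ((a : Fˣ) : F)) * c ρ x)
    (x₀ : X) (ρ₀ : F ≃+* F) (h0 : c ρ₀ x₀ ≠ 0) :
    ∃ x : X, c ρ₀ x ≠ 0 ∧ ∀ ρ, ρ ≠ ρ₀ → c ρ x = 0 := by
  classical
  obtain ⟨g, hg⟩ := (IsCyclic.exists_generator (α := ↥M))
  set a0 : Fˣ := (g : Fˣ) with ha0
  have ha0M : a0 ∈ M := g.2
  -- every element of M is a power of a0
  have hpowers : ∀ a ∈ M, ∃ k : ℕ, a0 ^ k = a := by
    intro a ha
    have h1 : (⟨a, ha⟩ : ↥M) ∈ Subgroup.zpowers g := hg _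
    rw [← mem_powers_iff_mem_zpowers] at h1
    obtain ⟨k, hk⟩ := h1
    refine ⟨k, ?_⟩
    have := congrArg (Subtype.val) hk
    simpa using this
  set m : ℕ := orderOf a0 with hm
  have hmodd : Odd m := by
    have h1 : m ∣ Fintype.card Fˣ := orderOf_dvd_card
    rw [Fintype.card_units, hcard] at h1
    have h2 : Odd (2 ^ n - 1) := by
      have : 2 ^ n = 2 * 2 ^ (n - 1) := by
        rw [← pow_succ']; congr 1; omega
      rw [this]
      exact ⟨2 ^ (n - 1) - 1, by have : 1 ≤ 2 ^ (n - 1) := Nat.one_le_two_pow; omega⟩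
    exact Odd.of_dvd_nat h2 h1
  have ha0m : ((a0 : Fˣ) : F) ^ m = 1 := by
    rw [← Units.val_pow_eq_pow_val, hm, pow_orderOf_eq_one, Units.val_one]
  have ha0ne : ((a0 : Fˣ) : F) ≠ 0 := Units.ne_zero a0
  have hρne : ∀ ρ : F ≃+* F, ρ ((a0 : Fˣ) : F) ≠ 0 := by
    intro ρ h
    exact ha0ne ((map_eq_zero_iff ρ ρ.injective).mp h)
  -- fixing a0 means fixing M
  have hfix : ∀ ρ : F ≃+* F, ρ ((a0 : Fˣ) : F) = ((a0 : Fˣ) : F) → ρ = 1 := by
    intro ρ h
    apply hn2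
    intro a ha
    obtain ⟨k, rfl⟩ := hpowers a ha
    rw [Units.val_pow_eq_pow_val, map_pow, h]
  apply proj_core n hcard (by omega) m hmodd c hc (fun j => act (a0 ^ j) x₀)
    (fun ρ => ((a0 : Fˣ) : F) / ρ ((a0 : Fˣ) : F)) ?_ x₀ ?_ ρ₀ h0 ?_
  · intro ρ
    show (((a0 : Fˣ) : F) / ρ ((a0 : Fˣ) : F)) ^ m = 1
    rw [div_pow, ← map_pow, ha0m, map_one, div_one]
  · intro ρ j
    show c ρ (act (a0 ^ j) x₀) = (((a0 : Fˣ) : F) / ρ ((a0 : Fˣ) : F)) ^ j * c ρ x₀
    rw [hact (a0 ^ j) (Subgroup.pow_mem M ha0M j), Units.val_pow_eq_pow_val, map_pow, div_pow]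
  · intro ρ hρ i hi hw
    change ((a0 : Fˣ) : F) / ρ ((a0 : Fˣ) : F) =
      (((a0 : Fˣ) : F) / ρ₀ ((a0 : Fˣ) : F)) ^ 2 ^ i at hw
    by_cases h1 : ρ₀ = 1
    · -- then w ρ₀ = 1
      apply hρ
      rw [h1]
      apply hfix
      rw [h1] at hw
      simp only [RingAut.one_apply, div_self ha0ne, one_pow] at hw
      have h2 := hρne ρ
      field_simp at hw
      exact hw.symm
    · by_cases h2 : ρ = 1
      · apply h1
        apply hfix
        rw [h2] at hw
        simp only [RingAut.one_apply, div_self ha0ne] at hw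
        have h3 : ((a0 : Fˣ) : F) / ρ₀ ((a0 : Fˣ) : F) = 1 := by
          apply pow_two_pow_inj i
          rw [one_pow]; exact hw.symm
        have h4 := hρne ρ₀
        field_simp at h3
        exact h3.symm
      · apply hρ
        apply hn4 ρ ρ₀ h2 h1 i hi
        have hR : ((a0 : Fˣ) : F) * (ρ₀ ((a0 : Fˣ) : F)) ^ 2 ^ i =
            ρ ((a0 : Fˣ) : F) * ((a0 : Fˣ) : F) ^ 2 ^ i := by
          have h3 := hρne ρ
          have h4 := hρne ρ₀
          rw [div_pow] at hw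
          have h5 : (ρ₀ ((a0 : Fˣ) : F)) ^ 2 ^ i ≠ 0 := pow_ne_zero _ h4
          field_simp at hw
          linear_combination hw
        intro a ha
        obtain ⟨k, rfl⟩ := hpowers a ha
        rw [Units.val_pow_eq_pow_val, map_pow, map_pow]
        calc ((a0 : Fˣ) : F) ^ k * ((ρ₀ ((a0 : Fˣ) : F)) ^ k) ^ 2 ^ i
            = (((a0 : Fˣ) : F) * (ρ₀ ((a0 : Fˣ) : F)) ^ 2 ^ i) ^ k := by
              rw [mul_pow, ← pow_mul, ← pow_mul, mul_comm k]
          _ = (ρ ((a0 : Fˣ) : F) * ((a0 : Fˣ) : F) ^ 2 ^ i) ^ k := by rw [hR]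
          _ = (ρ ((a0 : Fˣ) : F)) ^ k * (((a0 : Fˣ) : F) ^ k) ^ 2 ^ i := by
              rw [mul_pow, ← pow_mul, ← pow_mul, mul_comm k]

end spec

end Cfsg.Agent.Lib.Helper6.SzProj
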