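import Mathlib
import Cfsg.Agent.Lib.Helper6.SzProj
import Cfsg.Agent.Lib.Helper5.SzFld

set_option autoImplicit false
set_option linter.unusedVariables false
set_option linter.style.longLine false

/-!
# The isotypic projector (farm-out (E) of S3776), verbatim form
-/

namespace Cfsg.Agent.Lib.Helper6.SzProj

variable {F : Type*} [Field F] [Fintype F] [CharP F 2]

theorem projector {X : Type*} [Group X] (n e : ℕ) (hcard : Fintype.card F = 2 ^ n) (hn : 2 ≤ n) (he : e ∣ n) (M : Subgroup Fˣ) (hM : ∀ b : Fˣ, b ^ e ∈ M) (c : (F ≃+* F) → X → F) (hc : ∀ ρ x x', c ρ (x * x') = c ρ x + c ρ x') (act : Fˣ → X → X) (hact : ∀ a ∈ M, ∀ ρ x, c ρ (act a x) = (((a : Fˣ) : F) / ρ ((a : Fˣ) : F)) * c ρ x) (x₀ : X) (ρ₀ : F ≃+* F) (h0 : c ρ₀ x₀ ≠ 0) : ∃ x : X, c ρ₀ x ≠ 0 ∧ ∀ ρ, ρ ≠ ρ₀ → c ρ x = 0 :=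
  projector_aux n e hcard hn he M hM
    (fun ρ h => Cfsg.Agent.Lib.Helper5.SzFld.n2 n e hcard hn he M hM ρ h)
    (fun ρ ρ' h1 h2 i hi h => Cfsg.Agent.Lib.Helper5.SzFld.n4 n e hcard hn he M hM ρ ρ' h1 h2 i hi h)
    c hc act hact x₀ ρ₀ h0

end Cfsg.Agent.Lib.Helper6.SzProj
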