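import Cfsg.Agent.Lib.Helper6.HupR

set_option autoImplicit false

/-! Huppert: the case `(q, n) = (2, 6)`, where no primitive prime divisor exists. -/

namespace Cfsg.Agent.Lib.Helper6.Hup

open Module

variable {q : ℕ} [Fact q.Prime] {V : Type*} [AddCommGroup V] [Module (ZMod q) V]
  {G : Type*} [Group G]

/-- the `s`-torsion of an abelian subgroup -/
def torSub (N : Subgroup G) (hN : ∀ a ∈ N, ∀ b ∈ N, a * b = b * a) (s : ℕ) : Subgroup G where
  carrier := {z | z ∈ N ∧ z ^ s = 1}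
  one_mem' := ⟨N.one_mem, one_pow s⟩
  mul_mem' := by
    rintro a b ⟨ha, ha'⟩ ⟨hb, hb'⟩
    refine ⟨N.mul_mem ha hb, ?_⟩
    have hc : Commute a b := hN a ha b hb
    rw [hc.mul_pow, ha', hb', one_mul]
  inv_mem' := by
    rintro a ⟨ha, ha'⟩
    exact ⟨N.inv_mem ha, by rw [inv_pow, ha', inv_one]⟩

theorem eq_one_of_pCore_bot {s : ℕ} (hb : Cfsg.pCore s G = ⊥)
    {N : Subgroup G} (hNn : N.Normal) (hN : ∀ a ∈ N, ∀ b ∈ N, a * b = b * a) {y : G}
    (hy : y ∈ N) (hys : y ^ s = 1) : y = 1 := by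
  have hTn : (torSub N hN s).Normal := by
    constructor
    rintro z ⟨hz, hz'⟩ g
    exact ⟨hNn.conj_mem z hz g, by rw [conj_pow, hz', mul_one, mul_inv_cancel]⟩
  have hTp : IsPGroup s (torSub N hN s) := by
    intro z
    refine ⟨1, ?_⟩
    rw [pow_one]
    apply Subtype.ext
    rw [Subgroup.coe_pow]
    exact z.2.2
  have hle := Cfsg.Agent.Lib.Helper1.le_pCore hTn hTp
  rw [hb] at hle
  exact Subgroup.mem_bot.mp (hle ⟨hy, hys⟩)

/-- an element of prime order `p0` with `O_{p0} = 1` moves some core -/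
theorem exists_noncentral_of_bot [Finite G] [Group.IsSolvable G] {p0 : ℕ}
    (hb : Cfsg.pCore p0 G = ⊥) {x : G} (hx1 : x ≠ 1) (hxp : x ^ p0 = 1) :
    ∃ r : ℕ, r.Prime ∧ ∃ g ∈ Cfsg.pCore r G, x * g ≠ g * x := by
  by_contra hcon
  push Not at hcon
  have hF : Cfsg.fittingSubgroup G ≤ Subgroup.centralizer ({x} : Set G) := by
    rw [Cfsg.Agent.Lib.Helper1.fittingSubgroup_eq_iSup_pCore]
    apply iSup_le
    intro p g hg
    rw [Subgroup.mem_centralizer_iff]
    intro y hy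
    rw [Set.mem_singleton_iff] at hy
    rw [hy]
    exact hcon p p.2 g hg
  have hxc : x ∈ Subgroup.centralizer (Cfsg.fittingSubgroup G : Set G) := by
    rw [Subgroup.mem_centralizer_iff]
    intro g hg
    have := Subgroup.mem_centralizer_iff.mp (hF hg) x rfl
    exact this.symm
  have hxF : x ∈ Cfsg.fittingSubgroup G :=
    Cfsg.Agent.Lib.Helper1.centralizer_fittingSubgroup_le hxc
  have hxZ : x ∈ Zc (Cfsg.fittingSubgroup G) := by
    rw [mem_Zc]
    exact ⟨hxF, fun b hb => Subgroup.mem_centralizer_iff.mp hxc b hb⟩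
  exact hx1 (eq_one_of_pCore_bot hb (Zc_normal Cfsg.Agent.Lib.Helper1.fittingSubgroup_normal)
    (Zc_comm _) hxZ hxp)

theorem Zc_pCore_le_Zc_fitting [Finite G] (p : ℕ) [Fact p.Prime] :
    Zc (Cfsg.pCore p G) ≤ Zc (Cfsg.fittingSubgroup G) := by
  intro z hz
  rw [mem_Zc] at hz ⊢
  have hF := Cfsg.Agent.Lib.Helper1.fittingSubgroup_eq_iSup_pCore (G := G)
  constructor
  · rw [hF]
    exact (le_iSup (fun r : Nat.Primes => Cfsg.pCore (r : ℕ) G) ⟨p, Fact.out⟩) hz.1
  · have hle : Cfsg.fittingSubgroup G ≤ Subgroup.centralizer ({z} : Set G) := by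
      rw [hF]
      apply iSup_le
      intro r g hg
      rw [Subgroup.mem_centralizer_iff]
      intro y hy
      rw [Set.mem_singleton_iff] at hy
      subst hy
      by_cases hrp : (r : ℕ) = p
      · have hg' : g ∈ Cfsg.pCore p G := by rw [← hrp]; exact hg
        exact (hz.2 g hg').symm
      · haveI : Fact (r : ℕ).Prime := ⟨r.2⟩
        have hd := IsPGroup.disjoint_of_ne p r (Ne.symm hrp) _ _
          (Cfsg.Agent.Lib.Helper1.pCore_isPGroup (G := G) p)
          (Cfsg.Agent.Lib.Helper1.pCore_isPGroup (G := G) r)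
        exact (Subgroup.commute_of_normal_of_disjoint _ _
          (Cfsg.Agent.Lib.Helper1.pCore_normal p) (Cfsg.Agent.Lib.Helper1.pCore_normal r) hd
          y g hz.1 hg).eq
    intro b hb
    have := Subgroup.mem_centralizer_iff.mp (hle hb) z rfl
    exact this.symm

/-- an element of prime order `p0` normalising a subgroup of order less than `p0` centralises it -/
theorem cent_of_small {p0 : ℕ} (hp0 : p0.Prime) {y : G} (hy : y ^ p0 = 1) (N : Subgroup G)
    [Finite N] (hyN : ∀ b, y * b * y⁻¹ ∈ N ↔ b ∈ N) (hc : Nat.card N < p0) :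
    ∀ b ∈ N, y * b = b * y := by
  haveI : Fact p0.Prime := ⟨hp0⟩
  have h1 := card_modEq_fixed (phi N y hyN) p0 (fun t => by
    apply Subtype.ext
    rw [phi_iter, hy, one_mul, inv_one, mul_one])
  have h2 : Nat.card {t : N // phi N y hyN t = t} ≤ Nat.card N := Finite.card_subtype_le _
  have h3 := h1.eq_of_lt_of_lt hc (lt_of_le_of_lt h2 hc)
  have h4 := forall_of_card_subtype_eq _ h3.symm
  intro b hb
  have h5 : y * b * y⁻¹ = b := congrArg Subtype.val (h4 ⟨b, hb⟩)
  calc y * b = (y * b * y⁻¹) * y := by group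
    _ = b * y := by rw [h5]

namespace Hyp

variable {ρ : G →* (V ≃ₗ[ZMod q] V)} (h : Hyp ρ)
include h

/-- an abelian normal subgroup embeds in the units of its field -/
theorem card_dvd_units [Finite G] [Finite V] [Nontrivial V] {N : Subgroup G} (hNn : N.Normal)
    (hN : ∀ a ∈ N, ∀ b ∈ N, a * b = b * a) : Nat.card N ∣ Nat.card (algOf ρ N) - 1 := by
  have hA := h.FL hNn hN
  letI : Field (algOf ρ N) := hA.isField.toField
  let f : N →* (algOf ρ N)ˣ := MonoidHom.mk'
    (fun z => ⟨⟨Lh ρ (z : G), Lh_mem_algOf ρ z.2⟩, ⟨Lh ρ (z : G)⁻¹, Lh_mem_algOf ρ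
      (N.inv_mem z.2)⟩, Subtype.ext (Lh_mul_inv ρ _), Subtype.ext (Lh_inv_mul ρ _)⟩)
    (fun a b => Units.ext (Subtype.ext (map_mul (Lh ρ) _ _)))
  have hf : Function.Injective f := by
    intro a b hab
    apply Subtype.ext
    apply Lh_injective ρ h.inj
    exact congrArg (fun u : (algOf ρ N)ˣ => ((u : algOf ρ N) : Module.End (ZMod q) V)) hab
  have h1 := Subgroup.card_dvd_of_injective f hf
  rw [Nat.card_units] at h1
  exact h1

theorem abel_26 [Finite G] [Finite V] [Nontrivial V] (hn : finrank (ZMod q) V = 6)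
    (hsl : ¬ SemiLin ρ) {N : Subgroup G} (hNn : N.Normal)
    (hN : ∀ a ∈ N, ∀ b ∈ N, a * b = b * a) :
    ∃ d : ℕ, 1 ≤ d ∧ d ≤ 5 ∧ Nat.card (algOf ρ N) = q ^ d ∧ Nat.card N ∣ q ^ d - 1 := by
  have hA := h.FL hNn hN
  have h1 := hA.finrank_pos
  have h2 := hA.finrank_le
  have h3 := hA.card_eq
  rw [hn] at h2
  refine ⟨finrank (ZMod q) (algOf ρ N), h1, ?_, h3, ?_⟩
  · by_contra hlt
    have h6 : finrank (ZMod q) (algOf ρ N) = 6 := by omega
    apply hsl
    apply h.semilin_of_card hNn hN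
    rw [h3, natCard_eq_pow (q := q) V, hn, h6]
  · have h4 := h.card_dvd_units hNn hN
    rw [h3] at h4
    exact h4

theorem core_26 [Finite G] [Finite V] [Nontrivial V] (hq : q = 2)
    (hn : finrank (ZMod q) V = 6) {r : ℕ} (hr : r.Prime) (hne : Cfsg.pCore r G ≠ ⊥) :
    r = 3 ∨ r = 7 := by
  haveI : Fact r.Prime := ⟨hr⟩
  obtain ⟨z, hz, hz1, hzr⟩ := exists_elt_of_pCore_ne_bot r hne
  have hZn := Zc_normal (Cfsg.Agent.Lib.Helper1.pCore_normal (G := G) r)
  have hA := h.FL hZn (Zc_comm _)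
  have h1 := hA.card_V_modEq_one (Lh_mem_algOf ρ hz)
    (fun h1 => hz1 (Lh_injective ρ h.inj (h1.trans (map_one _).symm))) r
    (by rw [← Lh_pow, hzr, map_one])
  rw [natCard_eq_pow (q := q) V, hn] at h1
  have h1' : 2 ^ 6 ≡ 1 [MOD r] := by
    have e : q ^ 6 = 2 ^ 6 := by rw [hq]
    rw [e] at h1; exact h1
  have h2 : r ∣ 2 ^ 6 - 1 := (Nat.modEq_iff_dvd' (by norm_num : 1 ≤ 2 ^ 6)).mp h1'.symm
  have e2 : 2 ^ 6 - 1 = 3 ^ 2 * 7 := by norm_num
  rw [e2] at h2
  rcases (Nat.Prime.dvd_mul hr).mp h2 with h4 | h4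
  · left
    exact (Nat.prime_dvd_prime_iff_eq hr Nat.prime_three).mp (hr.dvd_of_dvd_pow h4)
  · right
    exact (Nat.prime_dvd_prime_iff_eq hr (by norm_num)).mp h4

theorem case_A [Finite G] [Finite V] [Nontrivial V] (hsol : Group.IsSolvable G) (hq : q = 2)
    (hn : finrank (ZMod q) V = 6) (hsl : ¬ SemiLin ρ) (h7 : Cfsg.pCore 7 G = ⊥) : False := by
  have := hsol
  haveI : Fact (Nat.Prime 7) := ⟨by norm_num⟩
  haveI : Fact (Nat.Prime 3) := ⟨Nat.prime_three⟩
  have hp7 : (7 : ℕ).Prime := by norm_num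
  have hp3 : (3 : ℕ).Prime := Nat.prime_three
  have hV : Nat.card V = 64 := by
    rw [natCard_eq_pow (q := q) V, hn]
    have e : q ^ 6 = 2 ^ 6 := by rw [hq]
    rw [e]; norm_num
  have hdvd := h.card_sub_one_dvd
  rw [hV] at hdvd
  have h7d : 7 ∣ Nat.card G := Dvd.dvd.trans (by norm_num) hdvd
  obtain ⟨y, hy⟩ := exists_prime_orderOf_dvd_card' 7 h7d
  have hy1 : y ≠ 1 := by
    rintro rfl
    rw [orderOf_one] at hy
    omega
  have hy7 : y ^ 7 = 1 := by rw [← hy]; exact pow_orderOf_eq_one y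
  obtain ⟨r, hr, g, hg, hyg⟩ := exists_noncentral_of_bot h7 hy1 hy7
  have hrne : Cfsg.pCore r G ≠ ⊥ := by
    intro hb
    rw [hb, Subgroup.mem_bot] at hg
    subst hg
    exact hyg (by rw [mul_one, one_mul])
  have hr3 : r = 3 := by
    rcases h.core_26 hq hn hr hrne with h3 | h7'
    · exact h3
    · exfalso; subst h7'; exact hrne h7
  subst hr3
  have hRn := Cfsg.Agent.Lib.Helper1.pCore_normal (G := G) 3
  have hR := Cfsg.Agent.Lib.Helper1.pCore_isPGroup (G := G) 3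
  have := hRn
  obtain ⟨C, hC⟩ := exists_crit 3 (Cfsg.pCore 3 G) hR
  have hxC : ¬ ∀ c ∈ C, y * c = c * y := fun hc =>
    hyg (hC.cent_of_cent hRn hR hp3 hp7 (by norm_num) hy7 hc g hg)
  have hsmall : ∀ N : Subgroup G, N.Normal → (∀ a ∈ N, ∀ b ∈ N, a * b = b * a) →
      IsPGroup 3 N → ∀ b ∈ N, y * b = b * y := by
    intro N hNn hN hNp
    obtain ⟨d, hd1, hd5, _, hdv⟩ := h.abel_26 hn hsl hNn hN
    obtain ⟨k, hk⟩ := IsPGroup.iff_card.mp hNp
    have hk1 : k ≤ 1 := by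
      by_contra hk2
      push Not at hk2
      have h9 : 9 ∣ q ^ d - 1 := by
        refine Dvd.dvd.trans ?_ hdv
        rw [hk]
        have e9 : (9 : ℕ) = 3 ^ 2 := by norm_num
        rw [e9]
        exact pow_dvd_pow 3 hk2
      rw [hq] at h9
      interval_cases d <;> omega
    have hle : Nat.card N ≤ 3 := by
      rw [hk]
      interval_cases k <;> norm_num
    exact cent_of_small hp7 hy7 N (normal_conj_iff hNn y) (by omega)
  have hC3 : IsPGroup 3 C := hR.to_le hC.le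
  have hCab : ¬ ∀ a ∈ C, ∀ b ∈ C, a * b = b * a := fun hab =>
    hxC (hsmall C hC.normal hab hC3)
  have hZn := Zc_normal hC.normal
  have hA := h.FL hZn (Zc_comm C)
  have hxZ := hsmall (Zc C) hZn (Zc_comm C) (hC3.to_le (Zc_le C))
  have hnab : ∃ a ∈ C, ∃ b ∈ C, a * b ≠ b * a := by
    push Not at hCab; exact hCab
  have hS := exists_sympT ρ h.inj hp3 hC hA hnab
  obtain ⟨M, hM⟩ := SympT.exists_sq hp3 _ C rfl hS
  have hcomm : ∀ a ∈ C, ∀ b ∈ C, cm a b ∈ Zc C := fun a ha b hb => hC.comm a ha b (hC.le hb)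
  obtain ⟨hQ, hMn⟩ := crit_M_le ρ h.inj hcomm hA M hM
  rw [hn] at hMn
  have hM5 : M + 1 < 7 := by
    by_contra hcon
    have hM6 : M = 6 := by omega
    obtain ⟨k, hk⟩ := IsPGroup.iff_card.mp hC3
    have h36 : 2 ∣ 3 ^ k := by
      rw [← hk, hM, hM6]
      exact Dvd.dvd.mul_right (by norm_num) _
    have := Nat.Prime.dvd_of_dvd_pow Nat.prime_two h36
    omega
  have h1 := SympT.triv_of_small hp3 hp7 (by norm_num) y hy7
    (fun z (hz : z ∈ muSub C 3) => hxZ z hz.1) _ C rfl hS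
    (normal_conj_iff hC.normal y) M hM hM5
  exact hxC (cent_of_cmx_mem hC.le hR hp3 hp7 (by norm_num) hy7 hxZ h1)

theorem case_B1 [Finite G] [Finite V] [Nontrivial V] (hq : q = 2)
    (hn : finrank (ZMod q) V = 6) (hsl : ¬ SemiLin ρ) (h3 : Cfsg.pCore 3 G ≠ ⊥)
    (h7 : Cfsg.pCore 7 G ≠ ⊥) : False := by
  haveI : Fact (Nat.Prime 7) := ⟨by norm_num⟩
  haveI : Fact (Nat.Prime 3) := ⟨Nat.prime_three⟩
  obtain ⟨z3, hz3, hz31, hz33⟩ := exists_elt_of_pCore_ne_bot 3 h3
  obtain ⟨z7, hz7, hz71, hz77⟩ := exists_elt_of_pCore_ne_bot 7 h7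
  have hZn := Zc_normal (Cfsg.Agent.Lib.Helper1.fittingSubgroup_normal (G := G))
  have hN := Zc_comm (Cfsg.fittingSubgroup G)
  have m3 := Zc_pCore_le_Zc_fitting 3 hz3
  have m7 := Zc_pCore_le_Zc_fitting 7 hz7
  have c3 := h.card_modEq_one hZn hN m3 hz31 3 hz33
  have c7 := h.card_modEq_one hZn hN m7 hz71 7 hz77
  obtain ⟨d, hd1, hd5, hcard, _⟩ := h.abel_26 hn hsl hZn hN
  rw [hcard, hq] at c3 c7
  interval_cases d <;>
    first | exact absurd c3 (by decide) | exact absurd c7 (by decide)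

theorem case_B2 [Finite G] [Finite V] [Nontrivial V] (hsol : Group.IsSolvable G) (hq : q = 2)
    (hn : finrank (ZMod q) V = 6) (hsl : ¬ SemiLin ρ) (h3 : Cfsg.pCore 3 G = ⊥) : False := by
  have := hsol
  haveI : Fact (Nat.Prime 7) := ⟨by norm_num⟩
  haveI : Fact (Nat.Prime 3) := ⟨Nat.prime_three⟩
  have hp7 : (7 : ℕ).Prime := by norm_num
  have hp3 : (3 : ℕ).Prime := Nat.prime_three
  have hV : Nat.card V = 64 := by
    rw [natCard_eq_pow (q := q) V, hn]
    have e : q ^ 6 = 2 ^ 6 := by rw [hq]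
    rw [e]; norm_num
  have hdvd := h.card_sub_one_dvd
  rw [hV] at hdvd
  have h9d : 9 ∣ Nat.card G := Dvd.dvd.trans (by norm_num) hdvd
  have h3d : 3 ∣ Nat.card G := Dvd.dvd.trans (by norm_num) hdvd
  have hRn := Cfsg.Agent.Lib.Helper1.pCore_normal (G := G) 7
  have hR := Cfsg.Agent.Lib.Helper1.pCore_isPGroup (G := G) 7
  have := hRn
  obtain ⟨C, hC⟩ := exists_crit 7 (Cfsg.pCore 7 G) hR
  have hmove : ∀ x : G, x ≠ 1 → x ^ 3 = 1 → ¬ ∀ c ∈ C, x * c = c * x := by
    intro x hx1 hx3 hc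
    obtain ⟨r, hr, g, hg, hxg⟩ := exists_noncentral_of_bot h3 hx1 hx3
    have hrne : Cfsg.pCore r G ≠ ⊥ := by
      intro hb
      rw [hb, Subgroup.mem_bot] at hg
      subst hg
      exact hxg (by rw [mul_one, one_mul])
    have hr7 : r = 7 := by
      rcases h.core_26 hq hn hr hrne with h3' | h7'
      · exfalso; subst h3'; exact hrne h3
      · exact h7'
    subst hr7
    exact hxg (hC.cent_of_cent hRn hR hp7 hp3 (by norm_num) hx3 hc g hg)
  have hC7 : IsPGroup 7 C := hR.to_le hC.le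
  have hCab : ∀ a ∈ C, ∀ b ∈ C, a * b = b * a := by
    by_contra hCab
    have hnab : ∃ a ∈ C, ∃ b ∈ C, a * b ≠ b * a := by
      push Not at hCab; exact hCab
    have hZn := Zc_normal hC.normal
    have hA := h.FL hZn (Zc_comm C)
    have hS := exists_sympT ρ h.inj hp7 hC hA hnab
    obtain ⟨M, hM⟩ := SympT.exists_sq hp7 _ C rfl hS
    have hcomm : ∀ a ∈ C, ∀ b ∈ C, cm a b ∈ Zc C := fun a ha b hb =>
      hC.comm a ha b (hC.le hb)
    obtain ⟨hQ, hMn⟩ := crit_M_le ρ h.inj hcomm hA M hM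
    rw [hn] at hMn
    obtain ⟨k, hk⟩ := IsPGroup.iff_card.mp hC7
    have hCpos : 0 < Nat.card C := Nat.card_pos
    have hMpos : 0 < M := by
      rcases Nat.eq_zero_or_pos M with h0 | h0
      · exfalso
        rw [h0] at hM
        norm_num at hM
        omega
      · exact h0
    have hcop : Nat.Coprime M 7 := by
      rw [Nat.coprime_comm, Nat.Prime.coprime_iff_not_dvd hp7]
      intro hd
      have := Nat.le_of_dvd hMpos hd
      omega
    have hdv : M ^ 2 ∣ 7 ^ k := by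
      rw [← hk, hM]
      exact Dvd.intro _ rfl
    have hM2 : M ^ 2 = 1 := Nat.Coprime.eq_one_of_dvd (Nat.Coprime.pow 2 k hcop) hdv
    rw [hM2, one_mul] at hM
    have hZeq : Zc C = C := Subgroup.eq_of_le_of_card_ge (Zc_le C) (le_of_eq hM)
    obtain ⟨a, ha, b, hb, hab⟩ := hnab
    have haZ : a ∈ Zc C := by rw [hZeq]; exact ha
    exact hab ((mem_Zc.mp haZ).2 b hb).symm
  obtain ⟨d, hd1, hd5, _, hdv⟩ := h.abel_26 hn hsl hC.normal hCab
  obtain ⟨k, hk⟩ := IsPGroup.iff_card.mp hC7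
  have hk1 : k ≤ 1 := by
    by_contra hk2
    push Not at hk2
    have h49 : 49 ∣ q ^ d - 1 := by
      refine Dvd.dvd.trans ?_ hdv
      rw [hk]
      have e49 : (49 : ℕ) = 7 ^ 2 := by norm_num
      rw [e49]
      exact pow_dvd_pow 7 hk2
    rw [hq] at h49
    interval_cases d <;> omega
  obtain ⟨x0, hx0⟩ := exists_prime_orderOf_dvd_card' 3 h3d
  have hx01 : x0 ≠ 1 := by
    rintro rfl
    rw [orderOf_one] at hx0
    omega
  have hx03 : x0 ^ 3 = 1 := by rw [← hx0]; exact pow_orderOf_eq_one x0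
  interval_cases k
  · have hsub : Subsingleton C := (Nat.card_eq_one_iff_unique.mp (by rw [hk]; norm_num)).1
    apply hmove x0 hx01 hx03
    intro c hc
    have hc1 : c = 1 := congrArg Subtype.val (Subsingleton.elim (⟨c, hc⟩ : C) 1)
    rw [hc1, mul_one, one_mul]
  · have hk7 : Nat.card C = 7 := by rw [hk]; norm_num
    haveI := hC.normal
    haveI : IsCyclic C := isCyclic_of_prime_card hk7
    have hAut : Nat.card (MulAut C) = 6 := by
      rw [IsCyclic.card_mulAut, hk7, Nat.totient_prime hp7]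
    have hG := card_eq_ker_mul_range (MulAut.conjNormal (H := C))
    have hr6 : Nat.card (MulAut.conjNormal (H := C)).range ∣ 6 := by
      rw [← hAut]; exact Subgroup.card_subgroup_dvd_card _
    have h3k : 3 ∣ Nat.card (MulAut.conjNormal (H := C)).ker := by
      by_contra hnd
      have hcop3 : Nat.Coprime 3 (Nat.card (MulAut.conjNormal (H := C)).ker) :=
        (Nat.Prime.coprime_iff_not_dvd hp3).mpr hnd
      have hcop : Nat.Coprime (3 ^ 2) (Nat.card (MulAut.conjNormal (H := C)).ker) :=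
        Nat.Coprime.pow_left 2 hcop3
      rw [hG] at h9d
      have h9r : 3 ^ 2 ∣ Nat.card (MulAut.conjNormal (H := C)).range :=
        hcop.dvd_of_dvd_mul_left (by norm_num; exact h9d)
      have := Nat.le_of_dvd (by norm_num) (h9r.trans hr6)
      omega
    obtain ⟨x, hx⟩ := exists_prime_orderOf_dvd_card' 3 h3k
    have hx' : orderOf (x : G) = 3 := by rw [Subgroup.orderOf_coe]; exact hx
    have hx1 : (x : G) ≠ 1 := by
      intro h1
      rw [h1, orderOf_one] at hx'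
      omega
    have hx3 : (x : G) ^ 3 = 1 := by rw [← hx']; exact pow_orderOf_eq_one _
    apply hmove (x : G) hx1 hx3
    intro c hc
    have hxk := x.2
    rw [MonoidHom.mem_ker] at hxk
    have h5 := congrArg (fun f : MulAut C => ((f ⟨c, hc⟩ : C) : G)) hxk
    simp only [MulAut.conjNormal_apply, MulAut.one_apply] at h5
    calc (x : G) * c = ((x : G) * c * (x : G)⁻¹) * x := by group
      _ = c * x := by rw [h5]

/-- the case `(q, n) = (2, 6)` -/
theorem case26 [Finite G] [Finite V] [Nontrivial V] (hsol : Group.IsSolvable G) (hq : q = 2)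
    (hn : finrank (ZMod q) V = 6) : SemiLin ρ := by
  by_contra hsl
  by_cases h7 : Cfsg.pCore 7 G = ⊥
  · exact h.case_A hsol hq hn hsl h7
  · by_cases h3 : Cfsg.pCore 3 G = ⊥
    · exact h.case_B2 hsol hq hn hsl h3
    · exact h.case_B1 hq hn hsl h3 h7

end Hyp

end Cfsg.Agent.Lib.Helper6.Hup
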