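import Mathlib

/-!
# HD farm (S1235): interface-independent core lemmas (helper6)

* `comm_mem_of_sq`, `card_le_of_comm_mem`, `card_le_of_sq` : helper2's L1 = U2
  (`b ∈ R`, `R/M` of exponent 2, `|C_R(b)| ≤ k` ⟹ `|R| ≤ k |M|`).
* `exists_normalizing_not_mem` : normalizers grow in a `p`-subgroup (with `g ^ p ∈ N`).
* `commutator_lt_of_isPGroup` : nilpotent action, `1 ≠ T ⊴ P`, `P` a `p`-group ⟹ `[T,P] < T`.
-/

namespace Cfsg.Agent.Lib.Helper6.HDCore

open Subgroup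

variable {G : Type*} [Group G]

/-- If `R/M` has exponent 2 (and `R` normalises `M`) then commutators of `R` lie in `M`. -/
theorem comm_mem_of_sq {R M : Subgroup G} (hnorm : ∀ r ∈ R, ∀ m ∈ M, r * m * r⁻¹ ∈ M)
    (hsq : ∀ r ∈ R, r ^ 2 ∈ M) {r b : G} (hr : r ∈ R) (hb : b ∈ R) :
    r * b * r⁻¹ * b⁻¹ ∈ M := by
  have h1 : (r * b) ^ 2 ∈ M := hsq _ (R.mul_mem hr hb)
  have h2 : (r⁻¹) ^ 2 ∈ M := hsq _ (R.inv_mem hr)
  have h3 : (b⁻¹) ^ 2 ∈ M := hsq _ (R.inv_mem hb)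
  have h4 : b⁻¹ * (r⁻¹) ^ 2 * (b⁻¹)⁻¹ ∈ M := hnorm _ (R.inv_mem hb) _ h2
  have : r * b * r⁻¹ * b⁻¹ = (r * b) ^ 2 * (b⁻¹ * (r⁻¹) ^ 2 * (b⁻¹)⁻¹) * (b⁻¹) ^ 2 := by
    simp only [pow_two]
    group
  rw [this]
  exact M.mul_mem (M.mul_mem h1 h4) h3

/-- L1, commutator form: the class of `b` under `R` lies in the coset `M b`,
hence `|R| ≤ |C_R(b)| |M|`. -/
theorem card_le_of_comm_mem [Finite G] (R M : Subgroup G) (b : G)
    (hcomm : ∀ r ∈ R, r * b * r⁻¹ * b⁻¹ ∈ M) (k : ℕ)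
    (hk : Nat.card (R ⊓ centralizer {b} : Subgroup G) ≤ k) :
    Nat.card R ≤ k * Nat.card M := by
  classical
  haveI : Fintype R := Fintype.ofFinite _
  haveI : Fintype M := Fintype.ofFinite _
  let f : R → M := fun r => ⟨(r : G) * b * (r : G)⁻¹ * b⁻¹, hcomm r r.2⟩
  have key := Finset.card_le_mul_card_image (f := f) Finset.univ k ?_
  · calc Nat.card R = Fintype.card R := Nat.card_eq_fintype_card
      _ = (Finset.univ : Finset R).card := rfl
      _ ≤ k * (Finset.univ.image f).card := key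
      _ ≤ k * Fintype.card M := Nat.mul_le_mul_left _ (Finset.card_le_univ _)
      _ = k * Nat.card M := by rw [Nat.card_eq_fintype_card]
  · intro a ha
    obtain ⟨r0, -, rfl⟩ := Finset.mem_image.1 ha
    have hfib : (Finset.univ.filter fun x => f x = f r0).card
        = Nat.card {x : R // f x = f r0} := by
      rw [Nat.card_eq_fintype_card, Fintype.card_subtype]
    rw [hfib]
    refine le_trans (Nat.card_le_card_of_injective
      (fun x => (⟨(r0 : G)⁻¹ * (x.1 : G), ?_⟩ : (R ⊓ centralizer {b} : Subgroup G))) ?_) hk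
    · refine ⟨R.mul_mem (R.inv_mem r0.2) x.1.2, ?_⟩
      show (r0 : G)⁻¹ * (x.1 : G) ∈ centralizer {b}
      rw [mem_centralizer_singleton_iff]
      have hx : (x.1 : G) * b * (x.1 : G)⁻¹ * b⁻¹ = (r0 : G) * b * (r0 : G)⁻¹ * b⁻¹ :=
        congrArg Subtype.val x.2
      have hx' : (x.1 : G) * b * (x.1 : G)⁻¹ = (r0 : G) * b * (r0 : G)⁻¹ :=
        mul_right_cancel hx
      calc (r0 : G)⁻¹ * (x.1 : G) * b
          = (r0 : G)⁻¹ * ((x.1 : G) * b * (x.1 : G)⁻¹) * (x.1 : G) := by group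
        _ = (r0 : G)⁻¹ * ((r0 : G) * b * (r0 : G)⁻¹) * (x.1 : G) := by rw [hx']
        _ = b * ((r0 : G)⁻¹ * (x.1 : G)) := by group
    · intro x y hxy
      have h := congrArg Subtype.val hxy
      simp only at h
      exact Subtype.ext (Subtype.ext (mul_left_cancel h))

/-- L1 = U2 (helper2): `b ∈ R`, `M ⊴ R`, `R/M` of exponent 2, `|C_R(b)| ≤ k` ⟹ `|R| ≤ k |M|`. -/
theorem card_le_of_sq [Finite G] (R M : Subgroup G)
    (hnorm : ∀ r ∈ R, ∀ m ∈ M, r * m * r⁻¹ ∈ M) (hsq : ∀ r ∈ R, r ^ 2 ∈ M)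
    (b : G) (hb : b ∈ R) (k : ℕ)
    (hk : Nat.card (R ⊓ centralizer {b} : Subgroup G) ≤ k) :
    Nat.card R ≤ k * Nat.card M :=
  card_le_of_comm_mem R M b (fun _ hr => comm_mem_of_sq hnorm hsq hr hb) k hk

/-- L1 with the hypothesis "all subgroups of `C_R(b)` have order at most `k`". -/
theorem card_le_of_sq' [Finite G] (R M : Subgroup G)
    (hnorm : ∀ r ∈ R, ∀ m ∈ M, r * m * r⁻¹ ∈ M) (hsq : ∀ r ∈ R, r ^ 2 ∈ M)
    (b : G) (hb : b ∈ R) (k : ℕ)
    (hk : ∀ C : Subgroup G, C ≤ R → (∀ c ∈ C, c * b = b * c) → Nat.card C ≤ k) :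
    Nat.card R ≤ k * Nat.card M := by
  refine card_le_of_sq R M hnorm hsq b hb k (hk _ inf_le_left ?_)
  intro c hc
  exact mem_centralizer_singleton_iff.1 hc.2

/-- Normalizers grow in a `p`-subgroup: `N < S`, `S` a `p`-group ⟹ some `g ∈ S ∖ N`
normalises `N` and has `g ^ p ∈ N`. -/
theorem exists_normalizing_not_mem [Finite G] {p : ℕ} [Fact p.Prime] (S N : Subgroup G)
    (hS : IsPGroup p S) (hNS : N ≤ S) (hne : N ≠ S) :
    ∃ g ∈ S, g ∉ N ∧ g ∈ normalizer (N : Set G) ∧ g ^ p ∈ N := by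
  have : Group.IsNilpotent S := hS.isNilpotent
  have hnc : NormalizerCondition S := Group.normalizerCondition_of_isNilpotent
  have hlt : N.subgroupOf S < ⊤ := by
    rw [lt_top_iff_ne_top, Ne, subgroupOf_eq_top]
    intro h
    exact hne (le_antisymm hNS h)
  obtain ⟨g, hgn, hgN⟩ := SetLike.exists_of_lt (hnc _ hlt)
  -- `g : S` normalises `N.subgroupOf S`, `g ∉ N`
  have hgN' : (g : G) ∉ N := fun h => hgN (mem_subgroupOf.2 h)
  have hgnorm : (g : G) ∈ normalizer (N : Set G) := by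
    rw [mem_normalizer_iff]
    intro h
    constructor
    · intro hh
      have h1 : (⟨h, hNS hh⟩ : S) ∈ N.subgroupOf S := mem_subgroupOf.2 hh
      have h2 := (mem_normalizer_iff.1 hgn ⟨h, hNS hh⟩).1 h1
      exact mem_subgroupOf.1 h2
    · intro hh
      have hhS : h ∈ S := by
        have : h = (g : G)⁻¹ * ((g : G) * h * (g : G)⁻¹) * (g : G) := by group
        rw [this]
        exact S.mul_mem (S.mul_mem (S.inv_mem g.2) (hNS hh)) g.2
      have h2 : g * ⟨h, hhS⟩ * g⁻¹ ∈ N.subgroupOf S := mem_subgroupOf.2 hh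
      have h1 := (mem_normalizer_iff.1 hgn ⟨h, hhS⟩).2 h2
      exact mem_subgroupOf.1 h1
  -- descend along `p`-th powers
  obtain ⟨n, hn⟩ := hS g
  have hex : ∃ k, (g : G) ^ p ^ k ∈ N := ⟨n, by
    have : (g : G) ^ p ^ n = 1 := by
      have := congrArg Subtype.val hn
      simpa using this
    rw [this]; exact N.one_mem⟩
  classical
  have hk0 : Nat.find hex ≠ 0 := by
    intro h0
    have := Nat.find_spec hex
    rw [h0, pow_zero, pow_one] at this
    exact hgN' this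
  obtain ⟨k, hk⟩ := Nat.exists_eq_succ_of_ne_zero hk0
  refine ⟨(g : G) ^ p ^ k, S.pow_mem g.2 _, ?_, (normalizer (N : Set G)).pow_mem hgnorm _, ?_⟩
  · exact Nat.find_min hex (by omega)
  · have := Nat.find_spec hex
    rw [hk, pow_succ, pow_mul] at this
    exact this

/-- Element form of `exists_normalizing_not_mem`. -/
theorem exists_normalizing_not_mem' [Finite G] {p : ℕ} [Fact p.Prime] (S N : Subgroup G)
    (hS : IsPGroup p S) (hNS : N ≤ S) (hne : N ≠ S) :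
    ∃ g ∈ S, g ∉ N ∧ (∀ n, n ∈ N ↔ g * n * g⁻¹ ∈ N) ∧ g ^ p ∈ N := by
  obtain ⟨g, hgS, hgN, hgn, hgp⟩ := exists_normalizing_not_mem S N hS hNS hne
  exact ⟨g, hgS, hgN, mem_normalizer_iff.1 hgn, hgp⟩

/-- Nilpotent action: `P` a finite `p`-group, `T ≤ P`, `⁅T, P⁆ = T` ⟹ `T = ⊥`. -/
theorem eq_bot_of_commutator_eq [Finite G] {p : ℕ} [Fact p.Prime] (P T : Subgroup G)
    (hP : IsPGroup p P) (hTP : T ≤ P) (h : ⁅T, P⁆ = T) : T = ⊥ := by
  have hnil : Group.IsNilpotent P := hP.isNilpotent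
  obtain ⟨n, hn⟩ := (isNilpotent_iff_lowerCentralSeries P).1 hnil
  have key : ∀ m, T ≤ P.lowerCentralSeries m := by
    intro m
    induction m with
    | zero => exact hTP
    | succ m ih =>
      rw [Subgroup.lowerCentralSeries_succ]
      calc T = ⁅T, P⁆ := h.symm
        _ ≤ ⁅P.lowerCentralSeries m, P⁆ := commutator_mono ih le_rfl
  exact le_bot_iff.1 (hn ▸ key n)

/-- Nilpotent action: `P` a finite `p`-group, `1 ≠ T ≤ P` normalised by `P` ⟹ `[T,P] < T`. -/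
theorem commutator_lt_of_isPGroup [Finite G] {p : ℕ} [Fact p.Prime] (P T : Subgroup G)
    (hP : IsPGroup p P) (hTP : T ≤ P) (hnorm : ∀ g ∈ P, ∀ t ∈ T, g * t * g⁻¹ ∈ T)
    (hT : T ≠ ⊥) : ⁅T, P⁆ < T := by
  have hle : ⁅T, P⁆ ≤ T := by
    rw [commutator_le]
    intro t ht g hg
    rw [commutatorElement_def]
    have h1 : g * t⁻¹ * g⁻¹ ∈ T := hnorm g hg _ (T.inv_mem ht)
    have : t * g * t⁻¹ * g⁻¹ = t * (g * t⁻¹ * g⁻¹) := by group
    rw [this]
    exact T.mul_mem ht h1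
  refine lt_of_le_of_ne hle ?_
  intro h
  exact hT (eq_bot_of_commutator_eq P T hP hTP h)

/-- `⁅T, P⁆` is again normalised by `P` (when `T` is). -/
theorem commutator_normalized (P T : Subgroup G)
    (hnorm : ∀ g ∈ P, ∀ t ∈ T, g * t * g⁻¹ ∈ T) :
    ∀ g ∈ P, ∀ x ∈ ⁅T, P⁆, g * x * g⁻¹ ∈ ⁅T, P⁆ := by
  intro g hg x hx
  have hmap : (⁅T, P⁆).map (MulAut.conj g).toMonoidHom ≤ ⁅T, P⁆ := by
    rw [map_commutator]
    apply commutator_mono
    · rintro _ ⟨t, ht, rfl⟩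
      exact hnorm g hg t ht
    · rintro _ ⟨q, hq, rfl⟩
      exact P.mul_mem (P.mul_mem hg hq) (P.inv_mem hg)
  exact hmap ⟨x, hx, rfl⟩

end Cfsg.Agent.Lib.Helper6.HDCore
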