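import Mathlib
import Cfsg.Agent.Lib.Helper2.HDDefs
import Cfsg.Agent.Lib.Helper6.HDCore

/-!
# HD farm (S1235): unit U5_normalizer, verbatim (helper6)
-/

set_option autoImplicit false

namespace Cfsg.Agent.Lib.Helper6.HD

open Cfsg.Agent.Lib.Helper2.HDDefs Subgroup

/-- pigeonhole: two subgroups of `T` whose orders multiply to more than `|T|` meet nontrivially -/
theorem exists_ne_one_of_card_lt {G : Type*} [Group G] [Finite G] (T B C : Subgroup G)
    (hB : B ≤ T) (hC : C ≤ T)
    (h : Nat.card T < Nat.card B * Nat.card C) : ∃ b ∈ B, b ∈ C ∧ b ≠ 1 := by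
  by_contra hcon
  push Not at hcon
  have hinj : Function.Injective (fun x : B × C =>
      (⟨(x.1 : G) * (x.2 : G), T.mul_mem (hB x.1.2) (hC x.2.2)⟩ : T)) := by
    rintro ⟨b, c⟩ ⟨b', c'⟩ hx
    have h1 : (b : G) * c = b' * c' := congrArg Subtype.val hx
    have h2 : (b' : G)⁻¹ * b = c' * (c : G)⁻¹ := by
      calc (b' : G)⁻¹ * b = (b' : G)⁻¹ * ((b : G) * c) * (c : G)⁻¹ := by group
        _ = (b' : G)⁻¹ * ((b' : G) * c') * (c : G)⁻¹ := by rw [h1]
        _ = c' * (c : G)⁻¹ := by group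
    have h3 : (b' : G)⁻¹ * b = 1 :=
      hcon _ (B.mul_mem (B.inv_mem b'.2) b.2) (h2 ▸ C.mul_mem c'.2 (C.inv_mem c.2))
    have h4 : (b : G) = b' := by
      have := inv_mul_eq_one.1 h3
      exact this.symm
    have h5 : (c : G) = c' := by
      rw [h4] at h1
      exact mul_left_cancel h1
    exact Prod.ext (Subtype.ext h4) (Subtype.ext h5)
  have := Nat.card_le_card_of_injective _ hinj
  rw [Nat.card_prod] at this
  omega

/-- U5 (case B): `|N_P(T) : T| ≤ 4`. -/
theorem U5_normalizer {P : Type*} [Group P] [Finite P] (hP : IsPGroup 2 P) (T B : Subgroup P)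
    (hBT : B ≤ T) (hT16 : Nat.card T = 16) (hTexp : ∀ t ∈ T, t * t = 1) (hB4 : Nat.card B = 4)
    (hcent : SmallCent T B) : Nat.card ↥(Subgroup.normalizer (T : Set P)) ≤ 64 := by
  haveI : Fact (Nat.Prime 2) := ⟨Nat.prime_two⟩
  set N : Subgroup P := Subgroup.normalizer (T : Set P) with hN
  have hTN : T ≤ N := le_normalizer
  have hNP : IsPGroup 2 N := hP.to_subgroup N
  have hnormT : ∀ g ∈ N, ∀ t ∈ T, g * t * g⁻¹ ∈ T := fun g hg t ht =>
    (mem_normalizer_iff.1 hg t).1 ht
  have hTbot : T ≠ ⊥ := by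
    intro h
    rw [h, card_bot] at hT16
    omega
  -- centralizers of nonidentity elements of `B` inside `N` are small
  have hcentb : ∀ b ∈ B, b ≠ 1 → Nat.card (N ⊓ centralizer {b} : Subgroup P) ≤ 16 := by
    intro b hb hb1
    rw [← hT16]
    apply card_le_of_le
    intro s hs
    exact hcent b hb hb1 s (mem_centralizer_singleton_iff.1 hs.2)
  -- `T1 = [T, N] < T`
  set T1 : Subgroup P := ⁅T, N⁆ with hT1
  have hT1lt : T1 < T := HDCore.commutator_lt_of_isPGroup N T hNP hTN hnormT hTbot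
  have hT1norm : ∀ g ∈ N, ∀ x ∈ T1, g * x * g⁻¹ ∈ T1 := HDCore.commutator_normalized N T hnormT
  have hT1dvd : Nat.card T1 ∣ 16 := hT16 ▸ card_dvd_of_le hT1lt.le
  have hT1ne : Nat.card T1 ≠ 16 := by
    intro h
    have : T1 = T := eq_of_le_of_card_ge hT1lt.le (by rw [h, hT16])
    exact hT1lt.ne this
  have hT1le : Nat.card T1 ≤ 16 := Nat.le_of_dvd (by norm_num) hT1dvd
  by_cases h8 : Nat.card T1 = 8
  · -- `B ∩ T1 ≠ 1`
    obtain ⟨b, hbB, hbT1, hb1⟩ := exists_ne_one_of_card_lt T B T1 hBT hT1lt.le (by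
      rw [hT16, hB4, h8]; norm_num)
    set T2 : Subgroup P := ⁅T1, N⁆ with hT2
    have hT1bot : T1 ≠ ⊥ := by
      intro h
      rw [h, card_bot] at h8
      omega
    have hT2lt : T2 < T1 :=
      HDCore.commutator_lt_of_isPGroup N T1 hNP (hT1lt.le.trans hTN) hT1norm hT1bot
    have hT2dvd : Nat.card T2 ∣ 8 := h8 ▸ card_dvd_of_le hT2lt.le
    have hT2ne : Nat.card T2 ≠ 8 := by
      intro h
      have : T2 = T1 := eq_of_le_of_card_ge hT2lt.le (by rw [h, h8])
      exact hT2lt.ne this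
    have hT2le8 : Nat.card T2 ≤ 8 := Nat.le_of_dvd (by norm_num) hT2dvd
    have hT2le : Nat.card T2 ≤ 4 := by
      generalize Nat.card T2 = d at *
      interval_cases d <;> first | omega | (exfalso; revert hT2dvd; decide)
    have hcomm : ∀ r ∈ N, r * b * r⁻¹ * b⁻¹ ∈ T2 := by
      intro r hr
      rw [hT2, commutator_comm, ← commutatorElement_def]
      exact commutator_mem_commutator hr hbT1
    have := HDCore.card_le_of_comm_mem N T2 b hcomm 16 (hcentb b hbB hb1)
    calc Nat.card N ≤ 16 * Nat.card T2 := this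
      _ ≤ 16 * 4 := Nat.mul_le_mul_left _ hT2le
      _ = 64 := by norm_num
  · have hT1le4 : Nat.card T1 ≤ 4 := by
      generalize Nat.card T1 = d at *
      interval_cases d <;> first | omega | (exfalso; revert hT1dvd; decide)
    -- a nonidentity element of `B`
    obtain ⟨b, hbB, hb1⟩ : ∃ b ∈ B, b ≠ 1 := by
      by_contra hcon
      push Not at hcon
      have : B = ⊥ := (eq_bot_iff_forall B).2 hcon
      rw [this, card_bot] at hB4
      omega
    have hcomm : ∀ r ∈ N, r * b * r⁻¹ * b⁻¹ ∈ T1 := by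
      intro r hr
      rw [hT1, commutator_comm, ← commutatorElement_def]
      exact commutator_mem_commutator hr (hBT hbB)
    have := HDCore.card_le_of_comm_mem N T1 b hcomm 16 (hcentb b hbB hb1)
    calc Nat.card N ≤ 16 * Nat.card T1 := this
      _ ≤ 16 * 4 := Nat.mul_le_mul_left _ hT1le4
      _ = 64 := by norm_num

end Cfsg.Agent.Lib.Helper6.HD
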