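import Mathlib
import Cfsg.Prelude

set_option autoImplicit false
set_option maxHeartbeats 1000000
set_option linter.unusedVariables false
set_option linter.unusedSectionVars false
set_option linter.style.longLine false

/-!
# The count `a(t)` in Thompson's order formula for the Hall-Janko pattern (farm-out piece C of S3313)
-/

namespace Cfsg.Agent.Lib.Helper6.HJc

variable {G : Type*} [Group G]

theorem orderOf_conj_eq (z u : G) (h : IsConj z u) : orderOf u = orderOf z := by
  obtain ⟨c, hc⟩ := isConj_iff.mp h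
  rw [← hc]
  have := MulEquiv.orderOf_eq (MulAut.conj c) z
  simpa [MulAut.conj_apply] using this

/-- elementwise commuting subgroups: the join is the set of products -/
theorem mem_sup_comm (V B : Subgroup G) (hcomm : ∀ a ∈ V, ∀ b ∈ B, a * b = b * a) (x : G)
    (hx : x ∈ V ⊔ B) : ∃ a ∈ V, ∃ b ∈ B, x = a * b := by
  let S : Subgroup G :=
    { carrier := {x | ∃ a ∈ V, ∃ b ∈ B, x = a * b}
      one_mem' := ⟨1, V.one_mem, 1, B.one_mem, by simp⟩
      mul_mem' := by
        rintro x y ⟨a, ha, b, hb, rfl⟩ ⟨a', ha', b', hb', rfl⟩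
        refine ⟨a * a', V.mul_mem ha ha', b * b', B.mul_mem hb hb', ?_⟩
        have h := hcomm a' ha' b hb
        calc a * b * (a' * b') = a * (b * a') * b' := by group
          _ = a * (a' * b) * b' := by rw [h]
          _ = a * a' * (b * b') := by group
      inv_mem' := by
        rintro x ⟨a, ha, b, hb, rfl⟩
        refine ⟨a⁻¹, V.inv_mem ha, b⁻¹, B.inv_mem hb, ?_⟩
        have h := hcomm a⁻¹ (V.inv_mem ha) b⁻¹ (B.inv_mem hb)
        rw [mul_inv_rev, h] }
  have h1 : V ⊔ B ≤ S := by
    apply sup_le
    · intro a ha; exact ⟨a, ha, 1, B.one_mem, by simp⟩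
    · intro b hb; exact ⟨1, V.one_mem, b, hb, by simp⟩
  exact h1 hx

theorem inv_pow_odd (a : G) (ha : a ^ 2 = 1) (k : ℤ) (hk : Odd k) : a ^ k = a := by
  obtain ⟨j, rfl⟩ := hk
  rw [zpow_add, zpow_mul, zpow_one]
  have : a ^ (2 : ℤ) = 1 := by exact_mod_cast ha
  rw [this, one_zpow, one_mul]

theorem inv_pow_even (a : G) (ha : a ^ 2 = 1) (k : ℤ) (hk : Even k) : a ^ k = 1 := by
  obtain ⟨j, rfl⟩ := hk
  rw [← two_mul, zpow_mul]
  have : a ^ (2 : ℤ) = 1 := by exact_mod_cast ha
  rw [this, one_zpow]

theorem count_t_aux [Finite G] (z t : G) (hz : orderOf z = 2) (ht : orderOf t = 2) (hzt : ¬ IsConj z t)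
    (V B : Subgroup G) (hVB : Cfsg.IsInternalDirectProduct V B (Subgroup.centralizer ({t} : Set G)))
    (hV2 : ∀ v ∈ V, v ^ 2 = 1) (htV : t ∈ V)
    (hBz : ∀ x ∈ B, orderOf x = 2 → IsConj x z)
    (hCt : ∀ x ∈ Subgroup.centralizer ({t} : Set G), orderOf x = 2 → x ∉ B → IsConj x t) :
    Nat.card {p : G × G // IsConj z p.1 ∧ IsConj t p.2 ∧ t ∈ Subgroup.zpowers (p.1 * p.2)} =
    Nat.card {p : G × G // p.1 ∈ B ∧ p.2 ∈ B ∧ orderOf p.1 = 2 ∧ p.2 * p.2 = 1 ∧
      Odd (orderOf (p.1 * p.2))} := by
  haveI : Fact (Nat.Prime 2) := ⟨Nat.prime_two⟩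
  obtain ⟨hVD, hBD, hcomm, hinf, hsup⟩ := hVB
  have ht1 : t ≠ 1 := by
    intro h; rw [h, orderOf_one] at ht; omega
  have htt : t * t = 1 := by
    have := pow_orderOf_eq_one t
    rw [ht, pow_two] at this; exact this
  have ht2 : t ^ 2 = 1 := by rw [pow_two]; exact htt
  have hbot : ∀ x, x ∈ V → x ∈ B → x = 1 := by
    intro x hxV hxB
    have : x ∈ V ⊓ B := ⟨hxV, hxB⟩
    rw [hinf] at this
    exact Subgroup.mem_bot.mp this
  have htB : t ∉ B := fun h => ht1 (hbot t htV h)
  symm
  apply Nat.card_congr
  refine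
    { toFun := fun p => ⟨(p.1.1, t * p.1.2), ?_, ?_, ?_⟩
      invFun := fun p => ⟨(p.1.1, t * p.1.2), ?_⟩
      left_inv := fun p => by
        apply Subtype.ext
        apply Prod.ext
        · rfl
        · show t * (t * p.1.2) = p.1.2
          rw [← mul_assoc, htt, one_mul]
      right_inv := fun p => by
        apply Subtype.ext
        apply Prod.ext
        · rfl
        · show t * (t * p.1.2) = p.1.2
          rw [← mul_assoc, htt, one_mul] }
  · -- IsConj z u
    exact (hBz p.1.1 p.2.1 p.2.2.2.1).symm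
  · -- IsConj t (t * b)
    obtain ⟨hu, hb, hu2, hbb, hodd⟩ := p.2
    set b := p.1.2
    have htb : t * b = b * t := hcomm t htV b hb
    have hvv : (t * b) ^ 2 = 1 := by
      rw [pow_two]
      calc t * b * (t * b) = t * (b * t) * b := by group
        _ = t * (t * b) * b := by rw [htb]
        _ = (t * t) * (b * b) := by group
        _ = 1 := by rw [htt, hbb, one_mul]
    have hv1 : t * b ≠ 1 := by
      intro h
      have hbV : b ∈ V := by
        have : b = t⁻¹ := eq_inv_of_mul_eq_one_right h
        rw [this]; exact V.inv_mem htV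
      have := hbot b hbV hb
      rw [this, mul_one] at h
      exact ht1 h
    have hv2 : orderOf (t * b) = 2 := orderOf_eq_prime hvv hv1
    have hvD : t * b ∈ Subgroup.centralizer ({t} : Set G) :=
      Subgroup.mul_mem _ (hVD htV) (hBD hb)
    have hvB : t * b ∉ B := by
      intro h
      apply htB
      have : t = t * b * b⁻¹ := by group
      rw [this]
      exact B.mul_mem h (B.inv_mem hb)
    exact (hCt (t * b) hvD hv2 hvB).symm
  · -- t ∈ zpowers (u * (t * b))
    obtain ⟨hu, hb, hu2, hbb, hodd⟩ := p.2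
    set u := p.1.1
    set b := p.1.2
    show t ∈ Subgroup.zpowers (u * (t * b))
    have htu : t * u = u * t := hcomm t htV u hu
    have htub : Commute t (u * b) := by
      have := hcomm t htV (u * b) (B.mul_mem hu hb)
      exact this
    have e1 : u * (t * b) = t * (u * b) := by
      calc u * (t * b) = (u * t) * b := by group
        _ = (t * u) * b := by rw [htu]
        _ = t * (u * b) := by group
    have e2 : (u * (t * b)) ^ orderOf (u * b) = t := by
      rw [e1, htub.mul_pow, pow_orderOf_eq_one, mul_one]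
      obtain ⟨r, hr⟩ := hodd
      rw [hr, pow_succ, pow_mul, ht2, one_pow, one_mul]
    have h3 := Subgroup.npow_mem_zpowers (u * (t * b)) (orderOf (u * b))
    rw [e2] at h3
    exact h3
  · -- backward membership
    obtain ⟨hzu, htv, hmem⟩ := p.2
    set u := p.1.1
    set v := p.1.2
    show u ∈ B ∧ t * v ∈ B ∧ orderOf u = 2 ∧ (t * v) * (t * v) = 1 ∧ Odd (orderOf (u * (t * v)))
    have hu2 : orderOf u = 2 := by rw [orderOf_conj_eq z u hzu, hz]
    have hv2 : orderOf v = 2 := by rw [orderOf_conj_eq t v htv, ht]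
    have huu : u * u = 1 := by
      have := pow_orderOf_eq_one u
      rw [hu2, pow_two] at this; exact this
    have hvv : v * v = 1 := by
      have := pow_orderOf_eq_one v
      rw [hv2, pow_two] at this; exact this
    have huinv : u⁻¹ = u := inv_eq_of_mul_eq_one_left huu
    have hvinv : v⁻¹ = v := inv_eq_of_mul_eq_one_left hvv
    obtain ⟨k, hk⟩ := Subgroup.mem_zpowers_iff.mp hmem
    have htinv : t⁻¹ = t := inv_eq_of_mul_eq_one_left htt
    have huvinv : (u * v)⁻¹ = v * u := by rw [mul_inv_rev, huinv, hvinv]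
    -- u centralizes t
    have hut : u * t = t * u := by
      have h1 : u * (u * v) * u⁻¹ = (u * v)⁻¹ := by
        rw [huvinv, huinv]
        calc u * (u * v) * u = (u * u) * v * u := by group
          _ = v * u := by rw [huu, one_mul]
      have h2 : u * t * u⁻¹ = t := by
        rw [← hk, ← conj_zpow, h1, inv_zpow, hk, htinv]
      calc u * t = (u * t * u⁻¹) * u := by group
        _ = t * u := by rw [h2]
    have hvt : v * t = t * v := by
      have h1 : v * (u * v) * v⁻¹ = (u * v)⁻¹ := by
        rw [huvinv, hvinv]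
        calc v * (u * v) * v = v * u * (v * v) := by group
          _ = v * u := by rw [hvv, mul_one]
      have h2 : v * t * v⁻¹ = t := by
        rw [← hk, ← conj_zpow, h1, inv_zpow, hk, htinv]
      calc v * t = (v * t * v⁻¹) * v := by group
        _ = t * v := by rw [h2]
    have huD : u ∈ Subgroup.centralizer ({t} : Set G) :=
      Subgroup.mem_centralizer_singleton_iff.mpr hut
    have hvD : v ∈ Subgroup.centralizer ({t} : Set G) :=
      Subgroup.mem_centralizer_singleton_iff.mpr hvt
    have huB : u ∈ B := by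
      by_contra h
      exact hzt (hzu.trans (hCt u huD hu2 h))
    have hvB : v ∉ B := by
      intro h
      exact hzt ((htv.trans (hBz v h hv2)).symm)
    rw [← hsup] at hvD
    obtain ⟨a, ha, b, hb, hvab⟩ := mem_sup_comm V B hcomm v hvD
    have haa : a ^ 2 = 1 := hV2 a ha
    have hab : a * b = b * a := hcomm a ha b hb
    have hbb : b * b = 1 := by
      have h1 : v * v = (a * a) * (b * b) := by
        rw [hvab]
        calc a * b * (a * b) = a * (b * a) * b := by group
          _ = a * (a * b) * b := by rw [hab]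
          _ = (a * a) * (b * b) := by group
      rw [hvv, ← pow_two, haa, one_mul] at h1
      exact h1.symm
    have hau : a * u = u * a := hcomm a ha u huB
    have haub : Commute a (u * b) := hcomm a ha (u * b) (B.mul_mem huB hb)
    have e1 : u * v = a * (u * b) := by
      rw [hvab]
      calc u * (a * b) = (u * a) * b := by group
        _ = (a * u) * b := by rw [hau]
        _ = a * (u * b) := by group
    have e2 : a ^ k * (u * b) ^ k = t := by
      rw [← haub.mul_zpow, ← e1, hk]
    have e3 : (u * b) ^ k = 1 := by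
      apply hbot
      · have : (u * b) ^ k = (a ^ k)⁻¹ * t := by rw [← e2]; group
        rw [this]
        exact V.mul_mem (V.inv_mem (V.zpow_mem ha k)) htV
      · exact B.zpow_mem (B.mul_mem huB hb) k
    have e4 : a ^ k = t := by rw [e3, mul_one] at e2; exact e2
    have hkodd : Odd k := by
      rcases Int.even_or_odd k with h | h
      · exfalso
        rw [inv_pow_even a haa k h] at e4
        exact ht1 e4.symm
      · exact h
    have hat : a = t := by rw [inv_pow_odd a haa k hkodd] at e4; exact e4
    have htvb : t * v = b := by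
      rw [hvab, hat, ← mul_assoc, htt, one_mul]
    refine ⟨huB, ?_, hu2, ?_, ?_⟩
    · rw [htvb]; exact hb
    · rw [htvb]; exact hbb
    · rw [htvb]
      have h1 : (orderOf (u * b) : ℤ) ∣ k := orderOf_dvd_iff_zpow_eq_one.mpr e3
      by_contra hne
      rw [Nat.not_odd_iff_even] at hne
      obtain ⟨r, hr⟩ := hne
      obtain ⟨j, hj⟩ := hkodd
      obtain ⟨q, hq⟩ := h1
      rw [hr] at hq
      push_cast at hq
      have h5 : k = 2 * ((r : ℤ) * q) := by rw [hq]; ring
      omega

end Cfsg.Agent.Lib.Helper6.HJc
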