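import Mathlib
import Cfsg.Agent.Lib.Lead.ConjCount

set_option autoImplicit false
set_option maxHeartbeats 1000000
set_option linter.unusedVariables false
set_option linter.unusedSectionVars false
set_option linter.style.longLine false

/-!
# Double counting of commuting pairs of conjugates (farm-out piece D of S3313)
-/

namespace Cfsg.Agent.Lib.Helper6.HJd

variable {G : Type*} [Group G]

/-- number of conjugates of `t` commuting with a conjugate of `z` -/
theorem card_comm_conj [Finite G] (z t g : G) :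
    Nat.card {b : G // IsConj t b ∧ b * (g * z * g⁻¹) = (g * z * g⁻¹) * b} =
      Nat.card {b : G // IsConj t b ∧ b * z = z * b} := by
  apply Nat.card_congr
  refine
    { toFun := fun b => ⟨g⁻¹ * b.1 * g, ?_, ?_⟩
      invFun := fun b => ⟨g * b.1 * g⁻¹, ?_, ?_⟩
      left_inv := fun b => by apply Subtype.ext; simp; group
      right_inv := fun b => by apply Subtype.ext; simp; group }
  · obtain ⟨c, hc⟩ := isConj_iff.mp b.2.1
    exact isConj_iff.mpr ⟨g⁻¹ * c, by rw [← hc]; group⟩
  · have h := b.2.2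
    have e1 : g⁻¹ * b.1 * g * z = g⁻¹ * (b.1 * (g * z * g⁻¹)) * g := by group
    rw [e1, h]; group
  · obtain ⟨c, hc⟩ := isConj_iff.mp b.2.1
    exact isConj_iff.mpr ⟨g * c, by rw [← hc]; group⟩
  · have h := b.2.2
    have e1 : g * b.1 * g⁻¹ * (g * z * g⁻¹) = g * (b.1 * z) * g⁻¹ := by group
    rw [e1, h]; group

theorem card_pairs [Finite G] (z t : G) :
    Nat.card {p : G × G // IsConj z p.1 ∧ IsConj t p.2 ∧ p.2 * p.1 = p.1 * p.2} =
      Nat.card {a : G // IsConj z a} * Nat.card {b : G // IsConj t b ∧ b * z = z * b} := by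
  classical
  haveI : Fintype {a : G // IsConj z a} := Fintype.ofFinite _
  have e : {p : G × G // IsConj z p.1 ∧ IsConj t p.2 ∧ p.2 * p.1 = p.1 * p.2} ≃
      Σ a : {a : G // IsConj z a}, {b : G // IsConj t b ∧ b * a.1 = a.1 * b} :=
    { toFun := fun p => ⟨⟨p.1.1, p.2.1⟩, ⟨p.1.2, p.2.2.1, p.2.2.2⟩⟩
      invFun := fun s => ⟨(s.1.1, s.2.1), s.1.2, s.2.2.1, s.2.2.2⟩
      left_inv := fun p => rfl
      right_inv := fun s => rfl }
  rw [Nat.card_congr e, Nat.card_sigma]
  have h : ∀ a : {a : G // IsConj z a},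
      Nat.card {b : G // IsConj t b ∧ b * a.1 = a.1 * b} =
        Nat.card {b : G // IsConj t b ∧ b * z = z * b} := by
    intro a
    obtain ⟨c, hc⟩ := isConj_iff.mp a.2
    rw [← hc]
    exact card_comm_conj z t c
  rw [Finset.sum_congr rfl (fun a _ => h a), Finset.sum_const, Finset.card_univ, smul_eq_mul,
    Nat.card_eq_fintype_card (α := {a : G // IsConj z a})]

theorem card_pairs' [Finite G] (z t : G) :
    Nat.card {p : G × G // IsConj z p.1 ∧ IsConj t p.2 ∧ p.2 * p.1 = p.1 * p.2} =
      Nat.card {b : G // IsConj t b} * Nat.card {a : G // IsConj z a ∧ a * t = t * a} := by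
  rw [← card_pairs t z]
  apply Nat.card_congr
  exact
    { toFun := fun p => ⟨(p.1.2, p.1.1), p.2.2.1, p.2.1, p.2.2.2.symm⟩
      invFun := fun p => ⟨(p.1.2, p.1.1), p.2.2.1, p.2.1, p.2.2.2.symm⟩
      left_inv := fun p => rfl
      right_inv := fun p => rfl }

theorem card_conj_comm_mul [Finite G] (z t : G) :
    Nat.card {b : G // IsConj t b ∧ b * z = z * b} * Nat.card (Subgroup.centralizer ({t} : Set G)) =
    Nat.card {a : G // IsConj z a ∧ a * t = t * a} * Nat.card (Subgroup.centralizer ({z} : Set G)) := by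
  have h1 := card_pairs z t
  have h2 := card_pairs' z t
  have h3 := Cfsg.Agent.Lib.Lead.card_conj_mul_card_centralizer z
  have h4 := Cfsg.Agent.Lib.Lead.card_conj_mul_card_centralizer t
  have hz : 0 < Nat.card {a : G // IsConj z a} :=
    Nat.card_pos_iff.mpr ⟨⟨⟨z, IsConj.refl z⟩⟩, inferInstance⟩
  have ht : 0 < Nat.card {b : G // IsConj t b} :=
    Nat.card_pos_iff.mpr ⟨⟨⟨t, IsConj.refl t⟩⟩, inferInstance⟩
  set A := Nat.card {a : G // IsConj z a}
  set B := Nat.card {b : G // IsConj t b}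
  set N1 := Nat.card {b : G // IsConj t b ∧ b * z = z * b}
  set N2 := Nat.card {a : G // IsConj z a ∧ a * t = t * a}
  set Cz := Nat.card (Subgroup.centralizer ({z} : Set G))
  set Ct := Nat.card (Subgroup.centralizer ({t} : Set G))
  have h5 : A * N1 = B * N2 := by rw [← h1, ← h2]
  have h6 : A * Cz = B * Ct := by rw [h3, h4]
  apply Nat.eq_of_mul_eq_mul_left (Nat.mul_pos hz ht)
  calc A * B * (N1 * Ct) = (A * N1) * (B * Ct) := by ring
    _ = (B * N2) * (A * Cz) := by rw [h5, h6]
    _ = A * B * (N2 * Cz) := by ring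

end Cfsg.Agent.Lib.Helper6.HJd
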