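import Mathlib
import Cfsg.Agent.Lib.Helper8.HJ4

/-!
# Groups of type `J₂` (S1721 / S5382), part A: the action of `C = C(z)` on `Q / ⟨z⟩` (1)

`Rz z x y`: `x` and `y` agree modulo `⟨z⟩`.  The kernel of the action of `C` on `Q / ⟨z⟩` is `Q`,
elements of order five act fixed-point-freely.
-/

set_option autoImplicit false

namespace Cfsg.Agent.Lib.Helper6.J2A
open Cfsg.Agent.Lib.Helper4.ES2
open Cfsg.Agent.Lib.Helper8.HJ

variable {G : Type*} [Group G]

/-- `x` and `y` agree modulo `⟨z⟩` -/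
def Rz (z x y : G) : Prop := x = y ∨ x = y * z

theorem Rz_refl (z x : G) : Rz z x x := Or.inl rfl

theorem Rz_symm {z x y : G} (hz : z * z = 1) (h : Rz z x y) : Rz z y x := by
  rcases h with h | h
  · exact Or.inl h.symm
  · right; rw [h, mul_assoc, hz, mul_one]

theorem Rz_trans {z x y w : G} (hz : z * z = 1) (h1 : Rz z x y) (h2 : Rz z y w) : Rz z x w := by
  rcases h1 with h1 | h1 <;> rcases h2 with h2 | h2
  · left; rw [h1, h2]
  · right; rw [h1, h2]
  · right; rw [h1, h2]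
  · left; rw [h1, h2, mul_assoc, hz, mul_one]

theorem comm_inv_of_comm {c z : G} (hc : c * z = z * c) : c⁻¹ * z = z * c⁻¹ := by
  have h1 : z = c⁻¹ * (z * c) := by rw [← hc]; group
  calc c⁻¹ * z = c⁻¹ * (z * c) * c⁻¹ := by group
    _ = z * c⁻¹ := by rw [← h1]

theorem Rz_conj {z x y c : G} (hc : c * z = z * c) (h : Rz z x y) :
    Rz z (c * x * c⁻¹) (c * y * c⁻¹) := by
  rcases h with h | h
  · left; rw [h]
  · right; rw [h]
    have h1 := comm_inv_of_comm hc
    calc c * (y * z) * c⁻¹ = c * y * (z * c⁻¹) := by group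
      _ = c * y * (c⁻¹ * z) := by rw [h1]
      _ = c * y * c⁻¹ * z := by group

theorem Rz_mul {z x y x' y' : G} (hz : z * z = 1) (hzy : y' * z = z * y') (h : Rz z x y)
    (h' : Rz z x' y') : Rz z (x * x') (y * y') := by
  rcases h with h | h <;> rcases h' with h' | h'
  · left; rw [h, h']
  · right; rw [h, h']; group
  · right; rw [h, h', mul_assoc, ← hzy]; group
  · left
    rw [h, h']
    calc y * z * (y' * z) = y * (z * y') * z := by group
      _ = y * (y' * z) * z := by rw [hzy]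
      _ = y * y' * (z * z) := by group
      _ = y * y' := by rw [hz, mul_one]

theorem Rz_inv {z x y : G} (hz : z * z = 1) (hzy : y * z = z * y) (h : Rz z x y) :
    Rz z x⁻¹ y⁻¹ := by
  rcases h with h | h
  · left; rw [h]
  · right
    rw [h, mul_inv_rev]
    have h1 : z⁻¹ = z := inv_eq_of_mul_eq_one_right hz
    rw [h1]
    exact (comm_inv_of_comm hzy).symm ▸ rfl

/-- an element with `g ^ 5 = 1` fixing `x` modulo a central involution fixes `x` -/
theorem conj_eq_of_Rz_five {z g x : G} (hz : z * z = 1) (hg5 : g ^ 5 = 1) (hgz : g * z = z * g)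
    (h : Rz z (g * x * g⁻¹) x) : g * x * g⁻¹ = x := by
  rcases h with h | h
  · exact h
  · -- `g² x g⁻² = x`
    have h2 : g ^ 2 * x * (g ^ 2)⁻¹ = x := by
      calc g ^ 2 * x * (g ^ 2)⁻¹ = g * (g * x * g⁻¹) * g⁻¹ := by rw [pow_two]; group
        _ = g * (x * z) * g⁻¹ := by rw [h]
        _ = g * x * (z * g⁻¹) := by group
        _ = g * x * (g⁻¹ * z) := by rw [comm_inv_of_comm hgz]
        _ = g * x * g⁻¹ * z := by group
        _ = x * z * z := by rw [h]
        _ = x := by rw [mul_assoc, hz, mul_one]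
    have h3 : g ^ 2 * x = x * g ^ 2 := by
      calc g ^ 2 * x = g ^ 2 * x * (g ^ 2)⁻¹ * g ^ 2 := by group
        _ = x * g ^ 2 := by rw [h2]
    have h6 : g = (g ^ 2) ^ 3 := by
      rw [← pow_mul, show 2 * 3 = 5 + 1 from rfl, pow_add, hg5, one_mul, pow_one]
    have h4 : (g ^ 2) ^ 3 * x = x * (g ^ 2) ^ 3 := by
      have hc : Commute (g ^ 2) x := h3
      exact (hc.pow_left 3)
    rw [← h6] at h4
    calc g * x * g⁻¹ = x * g * g⁻¹ := by rw [h4]
      _ = x := by group

section setting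

variable [Finite G] (C Q : Subgroup G) (z : G)
  (hD : Data Q z) (hQ : Nat.card Q = 32) (hQC : Q ≤ C)
  (hCz : ∀ c ∈ C, c * z = z * c)
  (hQn : ∀ c ∈ C, ∀ q ∈ Q, c * q * c⁻¹ ∈ Q)
  (hself : ∀ c ∈ C, (∀ q ∈ Q, c * q = q * c) → c ∈ Q)
  (psi : ↥C →* alternatingGroup (Fin 5)) (hpsis : Function.Surjective psi)
  (hpsik : ∀ c : ↥C, psi c = 1 ↔ (c : G) ∈ Q)

include hQ hpsis hpsik in
/-- an element of order five of `C` outside `Q` -/
theorem exists_five : ∃ g ∈ C, g ^ 5 = 1 ∧ ∀ k : ℕ, 0 < k → k < 5 → g ^ k ∉ Q := by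
  classical
  have hσ : ∃ σ : alternatingGroup (Fin 5), orderOf σ = 5 := by
    have : Fact (Nat.Prime 5) := ⟨by norm_num⟩
    have hcard : Nat.card (alternatingGroup (Fin 5)) = 60 := by
      rw [nat_card_alternatingGroup]; simp [Nat.factorial]
    exact exists_prime_orderOf_dvd_card' 5 (by rw [hcard]; norm_num)
  obtain ⟨σ, hσ⟩ := hσ
  obtain ⟨g₁, hg₁⟩ := hpsis σ
  have h5Q : ((g₁ : G) ^ 5) ∈ Q := by
    have h0 := pow_orderOf_eq_one σ
    rw [hσ] at h0
    have h1 : psi (g₁ ^ 5) = 1 := by rw [map_pow, hg₁, h0]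
    have h2 := (hpsik (g₁ ^ 5)).mp h1
    simpa using h2
  have h160 : ((g₁ : G) ^ 5) ^ 32 = 1 := by
    have h1 : (⟨(g₁ : G) ^ 5, h5Q⟩ : ↥Q) ^ Nat.card ↥Q = 1 := pow_card_eq_one'
    rw [hQ] at h1
    have h2 := congrArg (Subtype.val) h1
    simpa using h2
  refine ⟨(g₁ : G) ^ 32, C.pow_mem g₁.2 32, ?_, ?_⟩
  · rw [← pow_mul, show 32 * 5 = 5 * 32 from rfl, pow_mul]; exact h160
  · intro k hk0 hk5 hmem
    have h1 : psi (g₁ ^ (32 * k)) = 1 := by
      apply (hpsik _).mpr
      have : ((g₁ ^ (32 * k) : ↥C) : G) = ((g₁ : G) ^ 32) ^ k := by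
        rw [Subgroup.coe_pow, pow_mul]
      rw [this]; exact hmem
    rw [map_pow, hg₁] at h1
    have h2 := orderOf_dvd_of_pow_eq_one h1
    rw [hσ] at h2
    have h3 : (5 : ℕ) ∣ k := by
      have h4 : Nat.Coprime 5 32 := by norm_num
      exact h4.dvd_of_dvd_mul_left h2
    have := Nat.le_of_dvd hk0 h3
    omega

include hD hQC hCz hQn hself hQ hpsis hpsik in
/-- the kernel of the action of `C` on `Q / ⟨z⟩` is `Q` -/
theorem mem_of_trivial_mod (c : G) (hc : c ∈ C) (htriv : ∀ q ∈ Q, Rz z (c * q * c⁻¹) q) :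
    c ∈ Q := by
  classical
  have hzz := hD.z_sq
  let K : Subgroup ↥C :=
    { carrier := {c | ∀ q ∈ Q, Rz z ((c : G) * q * (c : G)⁻¹) q}
      one_mem' := by
        intro q _
        left
        simp
      mul_mem' := by
        intro a b ha hb q hq
        have h1 := hb q hq
        have h2 := Rz_conj (hCz a a.2) h1
        have h3 := ha q hq
        have h4 := Rz_trans hzz h2 h3
        have h5 : ((a * b : ↥C) : G) * q * ((a * b : ↥C) : G)⁻¹ =
            (a : G) * ((b : G) * q * (b : G)⁻¹) * (a : G)⁻¹ := by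
          rw [Subgroup.coe_mul]; group
        rw [h5]; exact h4
      inv_mem' := by
        intro a ha q hq
        have hq' : (a : G)⁻¹ * q * ((a : G)⁻¹)⁻¹ ∈ Q := hQn _ (C.inv_mem a.2) q hq
        have h1 := ha _ hq'
        have h2 : (a : G) * ((a : G)⁻¹ * q * ((a : G)⁻¹)⁻¹) * (a : G)⁻¹ = q := by group
        rw [h2] at h1
        have h3 := Rz_symm hzz h1
        simpa using h3 }
  have hKn : K.Normal := by
    constructor
    intro a ha d q hq
    have hq' : (d : G)⁻¹ * q * ((d : G)⁻¹)⁻¹ ∈ Q := hQn _ (C.inv_mem d.2) q hq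
    have h1 := ha _ hq'
    have h2 := Rz_conj (hCz d d.2) h1
    have h3 : ((d * a * d⁻¹ : ↥C) : G) * q * ((d * a * d⁻¹ : ↥C) : G)⁻¹ =
        (d : G) * ((a : G) * ((d : G)⁻¹ * q * ((d : G)⁻¹)⁻¹) * (a : G)⁻¹) * (d : G)⁻¹ := by
      simp only [Subgroup.coe_mul, Subgroup.coe_inv]; group
    have h4 : (d : G) * ((d : G)⁻¹ * q * ((d : G)⁻¹)⁻¹) * (d : G)⁻¹ = q := by group
    rw [h4] at h2
    show Rz z _ _
    rw [h3]; exact h2
  have hKmap : (K.map psi).Normal := Subgroup.Normal.map hKn psi hpsis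
  have hcK : (⟨c, hc⟩ : ↥C) ∈ K := htriv
  rcases hKmap.eq_bot_or_eq_top with hbot | htop
  · have h1 : psi ⟨c, hc⟩ ∈ K.map psi := Subgroup.mem_map_of_mem psi hcK
    rw [hbot, Subgroup.mem_bot] at h1
    exact (hpsik _).mp h1
  · exfalso
    obtain ⟨g, hgC, hg5, hgk⟩ := exists_five C Q hQ psi hpsis hpsik
    have hgK : (⟨g, hgC⟩ : ↥C) ∈ K := by
      have h1 : psi ⟨g, hgC⟩ ∈ K.map psi := by rw [htop]; exact Subgroup.mem_top _
      obtain ⟨k, hkK, hk⟩ := Subgroup.mem_map.mp h1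
      -- `g * k⁻¹ ∈ Q ≤ K`
      have h2 : psi (⟨g, hgC⟩ * k⁻¹) = 1 := by rw [map_mul, map_inv, hk, mul_inv_cancel]
      have h3 := (hpsik _).mp h2
      have h4 : (⟨g, hgC⟩ * k⁻¹ : ↥C) ∈ K := by
        intro q hq
        have h5 : ∀ a ∈ Q, Rz z (a * q * a⁻¹) q := by
          intro a ha
          have h6 : a * q * a⁻¹ = cm a q * q := by unfold cm; group
          rw [h6]
          rcases hD.comm_mem a ha q hq with h7 | h7
          · left; rw [h7, one_mul]
          · right; rw [h7]; exact (hD.z_comm q hq).symm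
        exact h5 _ h3
      have h5 : (⟨g, hgC⟩ : ↥C) = (⟨g, hgC⟩ * k⁻¹) * k := by group
      rw [h5]; exact K.mul_mem h4 hkK
    have hcent : ∀ q ∈ Q, g * q = q * g := by
      intro q hq
      have h1 := conj_eq_of_Rz_five hzz hg5 (hCz g hgC) (hgK q hq)
      calc g * q = g * q * g⁻¹ * g := by group
        _ = q * g := by rw [h1]
    have h1 := hself g hgC hcent
    have h2 := hgk 1 (by norm_num) (by norm_num)
    rw [pow_one] at h2
    exact h2 h1

include hD hQC hCz hQn hself hQ in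
/-- an element `h` of `C` outside `Q` with `h ^ 5 = 1` fixes no point of `Q / ⟨z⟩` except zero -/
theorem fix_five (h : G) (hhC : h ∈ C) (hh5 : h ^ 5 = 1) (hhQ : h ∉ Q) (x : G) (hx : x ∈ Q)
    (hfix : Rz z (h * x * h⁻¹) x) : x = 1 ∨ x = z := by
  classical
  have hzz := hD.z_sq
  have hfix' := conj_eq_of_Rz_five hzz hh5 (hCz h hhC) hfix
  -- the fixed points
  let F : Subgroup G := Q ⊓ Subgroup.centralizer ({h} : Set G)
  have hmemF : ∀ y, y ∈ F ↔ y ∈ Q ∧ h * y * h⁻¹ = y := by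
    intro y
    show y ∈ Q ∧ y ∈ Subgroup.centralizer ({h} : Set G) ↔ _
    rw [Subgroup.mem_centralizer_iff]
    constructor
    · rintro ⟨h1, h2⟩
      refine ⟨h1, ?_⟩
      have h3 := h2 h (Set.mem_singleton h)
      rw [h3]; group
    · rintro ⟨h1, h2⟩
      refine ⟨h1, ?_⟩
      intro w hw
      rw [Set.mem_singleton_iff] at hw
      subst hw
      calc w * y = w * y * w⁻¹ * w := by group
        _ = y * w := by rw [h2]
  have hmod := card_modEq_fixed (Q : Set G) h hh5 (fun x hx => hQn h hhC x hx)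
  have hcF : Nat.card {x : G // x ∈ (Q : Set G) ∧ h * x * h⁻¹ = x} = Nat.card ↥F := by
    apply Nat.card_congr
    exact Equiv.subtypeEquivRight (fun y => by rw [hmemF]; rfl)
  rw [hcF] at hmod
  have hQ' : Nat.card ↥(Q : Set G) = 32 := hQ
  rw [hQ'] at hmod
  have hFQ : F ≤ Q := inf_le_left
  have hdvd : Nat.card ↥F ∣ 32 := by
    have := Subgroup.card_dvd_of_le hFQ
    rwa [hQ] at this
  obtain ⟨k, hk5, hk⟩ := (Nat.dvd_prime_pow (show Nat.Prime 2 by norm_num)).mp
    (show Nat.card ↥F ∣ 2 ^ 5 by simpa using hdvd)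
  have hk15 : k = 1 ∨ k = 5 := by
    rw [hk] at hmod
    interval_cases k <;> simp [Nat.ModEq] at hmod ⊢
  rcases hk15 with rfl | rfl
  · -- `F = {1, z}`
    have hzF : z ∈ F := by
      rw [hmemF]
      refine ⟨hD.zQ, ?_⟩
      rw [hCz h hhC]; group
    have hoz : orderOf z = 2 := orderOf_eq_prime (by rw [pow_two]; exact hzz) hD.z_ne
    have hle : Subgroup.zpowers z ≤ F := by
      rw [Subgroup.zpowers_le]; exact hzF
    have heq : Subgroup.zpowers z = F := by
      apply Subgroup.eq_of_le_of_card_ge hle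
      rw [Nat.card_zpowers, hoz, hk]; norm_num
    have hxF : x ∈ F := (hmemF x).mpr ⟨hx, hfix'⟩
    rw [← heq] at hxF
    exact mem_zpowers_of_sq hzz hxF
  · exfalso
    have hFQ' : F = Q := by
      apply Subgroup.eq_of_le_of_card_ge hFQ
      rw [hk, hQ]; norm_num
    apply hhQ
    apply hself h hhC
    intro q hq
    have hqF : q ∈ F := by rw [hFQ']; exact hq
    have h1 := ((hmemF q).mp hqF).2
    calc h * q = h * q * h⁻¹ * h := by group
      _ = q * h := by rw [h1]

end setting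

end Cfsg.Agent.Lib.Helper6.J2A
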