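import Mathlib
import Cfsg.Agent.Lib.Helper6.J2A1

/-!
# Groups of type `J₂` (S1721 / S5382), part A: the action of `C = C(z)` on `Q / ⟨z⟩` (2)

The ten noncentral involutions of `Q` as an orbit of an element of order five.
-/

set_option autoImplicit false

namespace Cfsg.Agent.Lib.Helper6.J2A
open Cfsg.Agent.Lib.Helper4.ES2
open Cfsg.Agent.Lib.Helper8.HJ

variable {G : Type*} [Group G]

theorem conj_sq {g x : G} (hx : x * x = 1) : (g * x * g⁻¹) * (g * x * g⁻¹) = 1 := by
  calc (g * x * g⁻¹) * (g * x * g⁻¹) = g * (x * x) * g⁻¹ := by group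
    _ = 1 := by rw [hx]; group

theorem conj_ne_one {g x : G} (hx : x ≠ 1) : g * x * g⁻¹ ≠ 1 := by
  intro h
  apply hx
  calc x = g⁻¹ * (g * x * g⁻¹) * g := by group
    _ = 1 := by rw [h]; group

theorem conj_ne_z {g x z : G} (hgz : g * z = z * g) (hx : x ≠ z) : g * x * g⁻¹ ≠ z := by
  intro h
  apply hx
  calc x = g⁻¹ * (g * x * g⁻¹) * g := by group
    _ = g⁻¹ * z * g := by rw [h]
    _ = g⁻¹ * (z * g) := by group
    _ = g⁻¹ * (g * z) := by rw [hgz]
    _ = z := by group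

theorem ncard_pair_z {z : G} (hz : z ≠ 1) : ({1, z} : Set G).ncard = 2 :=
  Set.ncard_pair (Ne.symm hz)

section setting

variable [Finite G] (C Q : Subgroup G) (z : G)
  (hD : Data Q z) (hQ : Nat.card Q = 32) (hQC : Q ≤ C)
  (hCz : ∀ c ∈ C, c * z = z * c)
  (hQn : ∀ c ∈ C, ∀ q ∈ Q, c * q * c⁻¹ ∈ Q)
  (hself : ∀ c ∈ C, (∀ q ∈ Q, c * q = q * c) → c ∈ Q)

include hD hQ hQC hCz hQn hself in
/-- the orbit of a noncentral involution under an element of order five -/
theorem orbit_five (g : G) (hgC : g ∈ C) (hg5 : g ^ 5 = 1)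
    (hgk : ∀ k : ℕ, 0 < k → k < 5 → g ^ k ∉ Q) :
    invCount Q = 12 ∧ RkLE 2 Q ∧
    ∃ u : Fin 5 → G,
      (∀ i, u i ∈ Q ∧ u i * u i = 1 ∧ u i ≠ 1 ∧ u i ≠ z) ∧
      (∀ i j, Rz z (u i) (u j) → i = j) ∧
      (∀ i, g * u i * g⁻¹ = u (i + 1)) ∧
      (∀ x ∈ Q, x * x = 1 → x = 1 ∨ x = z ∨ ∃ i, x = u i ∨ x = u i * z) := by
  classical
  have hzz := hD.z_sq
  have hg1 : g ∉ Q := by
    have := hgk 1 (by norm_num) (by norm_num)
    rwa [pow_one] at this
  have hnc : ¬ (∀ q ∈ Q, g * q * g⁻¹ = q) := by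
    intro h
    apply hg1
    apply hself g hgC
    intro q hq
    calc g * q = g * q * g⁻¹ * g := by group
      _ = q * g := by rw [h q hq]
  obtain ⟨hinv, hrk⟩ := minus_type hD hQ g hg5 (hQn g hgC) (hCz g hgC) hnc
  refine ⟨hinv, hrk, ?_⟩
  -- the set of solutions of `x² = 1`
  set S : Set G := {x : G | x ∈ Q ∧ x * x = 1} with hS
  have hSfin : S.Finite := Set.toFinite S
  have hScard : S.ncard = 12 := hinv
  have h1S : (1 : G) ∈ S := ⟨Q.one_mem, by simp⟩
  have hzS : z ∈ S := ⟨hD.zQ, hzz⟩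
  have hsub : ({1, z} : Set G) ⊆ S := by
    intro x hx
    rcases hx with rfl | hx
    · exact h1S
    · rw [Set.mem_singleton_iff] at hx; subst hx; exact hzS
  have hdiff : (S \ {1, z}).ncard = 10 := by
    rw [Set.ncard_diff hsub (Set.toFinite _), hScard, ncard_pair_z hD.z_ne]
  -- a noncentral involution
  have hex : ∃ u₀, u₀ ∈ S \ {1, z} := by
    have : (S \ {1, z}).Nonempty := by
      rw [← Set.ncard_pos (Set.toFinite _), hdiff]; norm_num
    exact this
  obtain ⟨u₀, hu₀S, hu₀n⟩ := hex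
  have hu₀1 : u₀ ≠ 1 := fun h => hu₀n (by rw [h]; exact Set.mem_insert _ _)
  have hu₀z : u₀ ≠ z := fun h => hu₀n (by rw [h]; exact Set.mem_insert_of_mem _ rfl)
  -- powers of `g`
  have hgkC : ∀ k : ℕ, g ^ k ∈ C := fun k => C.pow_mem hgC k
  have hgkz : ∀ k : ℕ, g ^ k * z = z * g ^ k := fun k => hCz _ (hgkC k)
  let u : Fin 5 → G := fun i => g ^ (i : ℕ) * u₀ * (g ^ (i : ℕ))⁻¹
  have hu : ∀ i, u i ∈ Q ∧ u i * u i = 1 ∧ u i ≠ 1 ∧ u i ≠ z := by
    intro i
    exact ⟨hQn _ (hgkC i) u₀ hu₀S.1, conj_sq hu₀S.2, conj_ne_one hu₀1,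
      conj_ne_z (hgkz i) hu₀z⟩
  -- no coincidences
  have hlt : ∀ i j : Fin 5, i < j → ¬ Rz z (u j) (u i) := by
    intro i j hij hR
    have hk0 : 0 < (j : ℕ) - (i : ℕ) := Nat.sub_pos_of_lt hij
    have hk5 : (j : ℕ) - (i : ℕ) < 5 := by have := j.2; omega
    have h1 : u j = g ^ ((j : ℕ) - (i : ℕ)) * u i * (g ^ ((j : ℕ) - (i : ℕ)))⁻¹ := by
      show g ^ (j : ℕ) * u₀ * (g ^ (j : ℕ))⁻¹ =
        g ^ ((j : ℕ) - (i : ℕ)) * (g ^ (i : ℕ) * u₀ * (g ^ (i : ℕ))⁻¹) *
          (g ^ ((j : ℕ) - (i : ℕ)))⁻¹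
      have h2 : g ^ (j : ℕ) = g ^ ((j : ℕ) - (i : ℕ)) * g ^ (i : ℕ) := by
        rw [← pow_add]; congr 1
        have : (i : ℕ) ≤ (j : ℕ) := le_of_lt hij
        omega
      rw [h2]; group
    rw [h1] at hR
    have h5 : (g ^ ((j : ℕ) - (i : ℕ))) ^ 5 = 1 := by
      rw [← pow_mul, mul_comm, pow_mul, hg5, one_pow]
    rcases fix_five C Q z hD hQ hQC hCz hQn hself _ (hgkC _) h5 (hgk _ hk0 hk5) (u i) (hu i).1 hR
      with h3 | h3
    · exact (hu i).2.2.1 h3
    · exact (hu i).2.2.2 h3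
  have huniq : ∀ i j, Rz z (u i) (u j) → i = j := by
    intro i j hR
    rcases lt_trichotomy i j with h | h | h
    · exact absurd (Rz_symm hzz hR) (hlt i j h)
    · exact h
    · exact absurd hR (hlt j i h)
  have hstep : ∀ i, g * u i * g⁻¹ = u (i + 1) := by
    intro i
    have h1 : ∀ k : ℕ, g * (g ^ k * u₀ * (g ^ k)⁻¹) * g⁻¹ = g ^ (k + 1) * u₀ * (g ^ (k + 1))⁻¹ := by
      intro k
      rw [pow_succ']; group
    show g * (g ^ (i : ℕ) * u₀ * (g ^ (i : ℕ))⁻¹) * g⁻¹ =
      g ^ ((i + 1 : Fin 5) : ℕ) * u₀ * (g ^ ((i + 1 : Fin 5) : ℕ))⁻¹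
    rw [h1]
    fin_cases i
    · rfl
    · rfl
    · rfl
    · rfl
    · show g ^ (4 + 1) * u₀ * (g ^ (4 + 1))⁻¹ = g ^ 0 * u₀ * (g ^ 0)⁻¹
      rw [show 4 + 1 = 5 from rfl, hg5, pow_zero]
  refine ⟨u, hu, huniq, hstep, ?_⟩
  -- exhaustion
  let f : Fin 5 × Bool → G := fun p => if p.2 then u p.1 * z else u p.1
  have hfinj : Function.Injective f := by
    rintro ⟨i, b⟩ ⟨j, b'⟩ h
    have hij : i = j := by
      apply huniq
      cases b <;> cases b' <;> simp only [f] at h
      · exact Or.inl (by simpa using h)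
      · right; simpa using h
      · apply Rz_symm hzz; right; simpa using h.symm
      · left; simpa using h
    subst hij
    cases b <;> cases b' <;> simp only [f] at h
    · rfl
    · exfalso
      have h2 : u i = u i * z := by simpa using h
      apply hD.z_ne
      calc z = (u i)⁻¹ * (u i * z) := by group
        _ = 1 := by rw [← h2]; group
    · exfalso
      have h2 : u i * z = u i := by simpa using h
      apply hD.z_ne
      calc z = (u i)⁻¹ * (u i * z) := by group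
        _ = 1 := by rw [h2]; group
    · rfl
  have hfS : Set.range f ⊆ S \ {1, z} := by
    rintro x ⟨⟨i, b⟩, rfl⟩
    obtain ⟨h1, h2, h3, h4⟩ := hu i
    cases b
    · refine ⟨⟨h1, h2⟩, ?_⟩
      simp only [f]
      intro hx
      rcases hx with hx | hx
      · exact h3 (by simpa using hx)
      · rw [Set.mem_singleton_iff] at hx; exact h4 (by simpa using hx)
    · refine ⟨⟨Q.mul_mem h1 hD.zQ, ?_⟩, ?_⟩
      · show (u i * z) * (u i * z) = 1
        have hc := hD.z_comm (u i) h1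
        calc (u i * z) * (u i * z) = u i * (z * u i) * z := by group
          _ = u i * (u i * z) * z := by rw [hc]
          _ = (u i * u i) * (z * z) := by group
          _ = 1 := by rw [h2, hzz, mul_one]
      · simp only [f]
        intro hx
        rcases hx with hx | hx
        · have hx' : u i * z = 1 := by simpa using hx
          apply h4
          calc u i = u i * z * z := by rw [mul_assoc, hzz, mul_one]
            _ = z := by rw [hx', one_mul]
        · rw [Set.mem_singleton_iff] at hx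
          have hx' : u i * z = z := by simpa using hx
          apply h3
          calc u i = u i * z * z⁻¹ := by group
            _ = 1 := by rw [hx']; group
  have hrcard : (Set.range f).ncard = 10 := by
    rw [← Set.image_univ, Set.ncard_image_of_injective _ hfinj, Set.ncard_univ]
    simp
  have heq : Set.range f = S \ {1, z} :=
    Set.eq_of_subset_of_ncard_le hfS (by rw [hdiff, hrcard]) (Set.toFinite _)
  intro x hxQ hxx
  by_cases hx1 : x = 1
  · exact Or.inl hx1
  by_cases hxz : x = z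
  · exact Or.inr (Or.inl hxz)
  right; right
  have hxS : x ∈ S \ {1, z} := by
    refine ⟨⟨hxQ, hxx⟩, ?_⟩
    intro hx
    rcases hx with hx | hx
    · exact hx1 hx
    · rw [Set.mem_singleton_iff] at hx; exact hxz hx
  rw [← heq] at hxS
  obtain ⟨⟨i, b⟩, hib⟩ := hxS
  refine ⟨i, ?_⟩
  cases b
  · left; simpa [f] using hib.symm
  · right; simpa [f] using hib.symm

end setting

end Cfsg.Agent.Lib.Helper6.J2A
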