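import Mathlib
import Cfsg.Agent.Lib.Helper6.J2A2

/-!
# Groups of type `J₂` (S1721 / S5382), part A: the action of `C = C(z)` on `Q / ⟨z⟩` (3)

Generation of `Q` by the five involutions, and the product of the five.
-/

set_option autoImplicit false

namespace Cfsg.Agent.Lib.Helper6.J2A
open Cfsg.Agent.Lib.Helper4.ES2
open Cfsg.Agent.Lib.Helper8.HJ

variable {G : Type*} [Group G]

section setting

variable [Finite G] (C Q : Subgroup G) (z : G)
  (hD : Data Q z) (hQ : Nat.card Q = 32) (hQC : Q ≤ C)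
  (hCz : ∀ c ∈ C, c * z = z * c)
  (hQn : ∀ c ∈ C, ∀ q ∈ Q, c * q * c⁻¹ ∈ Q)
  (hself : ∀ c ∈ C, (∀ q ∈ Q, c * q = q * c) → c ∈ Q)

include hD in
/-- distinct points do not commute -/
theorem cm_points (hrk : RkLE 2 Q) (u : Fin 5 → G)
    (hu : ∀ i, u i ∈ Q ∧ u i * u i = 1 ∧ u i ≠ 1 ∧ u i ≠ z)
    (huniq : ∀ i j, Rz z (u i) (u j) → i = j) :
    ∀ i j, i ≠ j → cm (u i) (u j) = z := by
  intro i j hij
  obtain ⟨hi1, hi2, hi3, hi4⟩ := hu i
  obtain ⟨hj1, hj2, hj3, hj4⟩ := hu j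
  apply (hD.cm_eq_z_iff hi1 hj1).mpr
  apply not_comm_of_rk hD hrk hi1 hj1 hi2 hj2 hi3 hi4 hj3 hj4
  · intro h; exact hij (huniq i j (Or.inl h.symm))
  · intro h
    apply hij
    apply huniq i j
    apply Rz_symm hD.z_sq
    exact Or.inr h

include hD hQ hQC hCz hQn hself in
/-- the five points generate `Q` -/
theorem closure_points (g : G) (hgC : g ∈ C) (hg5 : g ^ 5 = 1) (hg1 : g ∉ Q)
    (u : Fin 5 → G)
    (hu : ∀ i, u i ∈ Q ∧ u i * u i = 1 ∧ u i ≠ 1 ∧ u i ≠ z)
    (hcm : ∀ i j, i ≠ j → cm (u i) (u j) = z)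
    (hstep : ∀ i, g * u i * g⁻¹ = u (i + 1)) :
    Subgroup.closure (Set.range u) = Q := by
  classical
  have hzz := hD.z_sq
  set H : Subgroup G := Subgroup.closure (Set.range u) with hH
  have hHQ : H ≤ Q := by
    rw [hH, Subgroup.closure_le]
    rintro x ⟨i, rfl⟩
    exact (hu i).1
  have huH : ∀ i, u i ∈ H := fun i => Subgroup.subset_closure ⟨i, rfl⟩
  have hzH : z ∈ H := by
    have h1 := hcm 0 1 (by decide)
    rw [← h1]
    unfold cm
    exact H.mul_mem (H.mul_mem (H.mul_mem (huH 0) (huH 1)) (H.inv_mem (huH 0))) (H.inv_mem (huH 1))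
  -- `H` is invariant under `g`
  have hHg : ∀ x ∈ (H : Set G), g * x * g⁻¹ ∈ (H : Set G) := by
    intro x hx
    have h1 : H ≤ H.comap (MulAut.conj g).toMonoidHom := by
      rw [hH, Subgroup.closure_le]
      rintro y ⟨i, rfl⟩
      show (MulAut.conj g) (u i) ∈ Subgroup.closure (Set.range u)
      rw [MulAut.conj_apply, hstep i]
      exact Subgroup.subset_closure ⟨i + 1, rfl⟩
    have h2 := h1 hx
    simpa [MulAut.conj_apply] using h2
  have hmod := card_modEq_fixed (H : Set G) g hg5 hHg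
  -- the fixed points of `g` in `H` are `1, z`
  have hfixcard : Nat.card {x : G // x ∈ (H : Set G) ∧ g * x * g⁻¹ = x} = 2 := by
    have hsub : {x : G | x ∈ (H : Set G) ∧ g * x * g⁻¹ = x} = ({1, z} : Set G) := by
      ext x
      constructor
      · rintro ⟨hxH, hxg⟩
        rcases fix_five C Q z hD hQ hQC hCz hQn hself g hgC hg5 hg1 x (hHQ hxH) (Or.inl hxg)
          with h | h
        · exact Or.inl h
        · exact Or.inr h
      · intro hx
        rcases hx with rfl | hx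
        · exact ⟨H.one_mem, by group⟩
        · rw [Set.mem_singleton_iff] at hx
          subst hx
          refine ⟨hzH, ?_⟩
          rw [hCz g hgC]; group
    have h1 : Nat.card {x : G // x ∈ (H : Set G) ∧ g * x * g⁻¹ = x} =
        ({x : G | x ∈ (H : Set G) ∧ g * x * g⁻¹ = x}).ncard := rfl
    rw [h1, hsub]
    exact ncard_pair_z hD.z_ne
  rw [hfixcard] at hmod
  have hdvd : Nat.card ↥H ∣ 32 := by
    have := Subgroup.card_dvd_of_le hHQ
    rwa [hQ] at this
  obtain ⟨k, hk5, hk⟩ := (Nat.dvd_prime_pow (show Nat.Prime 2 by norm_num)).mp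
    (show Nat.card ↥H ∣ 2 ^ 5 by simpa using hdvd)
  have hHc : Nat.card ↥(H : Set G) = Nat.card ↥H := rfl
  rw [hHc, hk] at hmod
  have hk15 : k = 1 ∨ k = 5 := by
    interval_cases k <;> simp [Nat.ModEq] at hmod ⊢
  rcases hk15 with rfl | rfl
  · exfalso
    -- three distinct elements `1, z, u 0` in a group of order two
    have hoz : orderOf z = 2 := orderOf_eq_prime (by rw [pow_two]; exact hzz) hD.z_ne
    have hle : Subgroup.zpowers z ≤ H := by
      rw [Subgroup.zpowers_le]; exact hzH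
    have heq : Subgroup.zpowers z = H := by
      apply Subgroup.eq_of_le_of_card_ge hle
      rw [Nat.card_zpowers, hoz, hk]; norm_num
    have h0 : u 0 ∈ Subgroup.zpowers z := by rw [heq]; exact huH 0
    rcases mem_zpowers_of_sq hzz h0 with h | h
    · exact (hu 0).2.2.1 h
    · exact (hu 0).2.2.2 h
  · apply Subgroup.eq_of_le_of_card_ge hHQ
    rw [hk, hQ]; norm_num

include hD in
/-- the product of the five points is central -/
theorem prod_points (u : Fin 5 → G)
    (hu : ∀ i, u i ∈ Q ∧ u i * u i = 1 ∧ u i ≠ 1 ∧ u i ≠ z)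
    (hcm : ∀ i j, i ≠ j → cm (u i) (u j) = z)
    (hgen : Subgroup.closure (Set.range u) = Q) :
    u 0 * u 1 * u 2 * u 3 * u 4 = 1 ∨ u 0 * u 1 * u 2 * u 3 * u 4 = z := by
  have hzz := hD.z_sq
  have hm : ∀ i, u i ∈ Q := fun i => (hu i).1
  have hpQ : u 0 * u 1 * u 2 * u 3 * u 4 ∈ Q :=
    Q.mul_mem (Q.mul_mem (Q.mul_mem (Q.mul_mem (hm 0) (hm 1)) (hm 2)) (hm 3)) (hm 4)
  apply hD.center_sub _ hpQ
  -- commutes with each generator
  have hk : ∀ k, cm (u 0 * u 1 * u 2 * u 3 * u 4) (u k) = 1 := by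
    intro k
    rw [hD.cm_mul_left (Q.mul_mem (Q.mul_mem (Q.mul_mem (hm 0) (hm 1)) (hm 2)) (hm 3)) (hm 4) (hm k),
      hD.cm_mul_left (Q.mul_mem (Q.mul_mem (hm 0) (hm 1)) (hm 2)) (hm 3) (hm k),
      hD.cm_mul_left (Q.mul_mem (hm 0) (hm 1)) (hm 2) (hm k),
      hD.cm_mul_left (hm 0) (hm 1) (hm k)]
    fin_cases k
    · show cm (u 0) (u 0) * cm (u 1) (u 0) * cm (u 2) (u 0) * cm (u 3) (u 0) * cm (u 4) (u 0) = 1
      rw [cm_self, hcm 1 0 (by decide), hcm 2 0 (by decide), hcm 3 0 (by decide),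
        hcm 4 0 (by decide), one_mul, hzz, one_mul, hzz]
    · show cm (u 0) (u 1) * cm (u 1) (u 1) * cm (u 2) (u 1) * cm (u 3) (u 1) * cm (u 4) (u 1) = 1
      rw [cm_self, hcm 0 1 (by decide), hcm 2 1 (by decide), hcm 3 1 (by decide),
        hcm 4 1 (by decide), mul_one, hzz, one_mul, hzz]
    · show cm (u 0) (u 2) * cm (u 1) (u 2) * cm (u 2) (u 2) * cm (u 3) (u 2) * cm (u 4) (u 2) = 1
      rw [cm_self, hcm 0 2 (by decide), hcm 1 2 (by decide), hcm 3 2 (by decide),
        hcm 4 2 (by decide), mul_one, hzz, one_mul, hzz]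
    · show cm (u 0) (u 3) * cm (u 1) (u 3) * cm (u 2) (u 3) * cm (u 3) (u 3) * cm (u 4) (u 3) = 1
      rw [cm_self, hcm 0 3 (by decide), hcm 1 3 (by decide), hcm 2 3 (by decide),
        hcm 4 3 (by decide), mul_one, hzz, one_mul, hzz]
    · show cm (u 0) (u 4) * cm (u 1) (u 4) * cm (u 2) (u 4) * cm (u 3) (u 4) * cm (u 4) (u 4) = 1
      rw [cm_self, hcm 0 4 (by decide), hcm 1 4 (by decide), hcm 2 4 (by decide),
        hcm 3 4 (by decide), mul_one, hzz, one_mul, hzz]
  intro q hq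
  -- `q` lies in the closure
  have hqc : q ∈ Subgroup.centralizer ({u 0 * u 1 * u 2 * u 3 * u 4} : Set G) := by
    have hle : Subgroup.closure (Set.range u) ≤
        Subgroup.centralizer ({u 0 * u 1 * u 2 * u 3 * u 4} : Set G) := by
      rw [Subgroup.closure_le]
      rintro x ⟨k, rfl⟩
      rw [SetLike.mem_coe, Subgroup.mem_centralizer_iff]
      intro y hy
      rw [Set.mem_singleton_iff] at hy
      subst hy
      exact cm_eq_one_iff.mp (hk k)
    apply hle
    rw [hgen]; exact hq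
  rw [Subgroup.mem_centralizer_iff] at hqc
  exact (hqc _ (Set.mem_singleton _)).symm

end setting

end Cfsg.Agent.Lib.Helper6.J2A
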