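import Mathlib
import Cfsg.Agent.Lib.Helper6.J2A3

/-!
# Groups of type `J₂` (S1721 / S5382), part A: the action of `C = C(z)` on `Q / ⟨z⟩` (4)

`module_part`: `Q = 2^{1+4}_-`, its ten noncentral involutions are `u i`, `u i * z` (`i : Fin 5`),
and `C` permutes the five pairs through a homomorphism `phi` with kernel `Q` and image `A₅`.
-/

set_option autoImplicit false

namespace Cfsg.Agent.Lib.Helper6.J2A
open Cfsg.Agent.Lib.Helper4.ES2
open Cfsg.Agent.Lib.Helper8.HJ

variable {G : Type*} [Group G]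

/-- an injective homomorphism `A₅ → S₅` has image `A₅` -/
theorem range_eq_alternating (θ : alternatingGroup (Fin 5) →* Equiv.Perm (Fin 5))
    (hθ : Function.Injective θ) : θ.range = alternatingGroup (Fin 5) := by
  classical
  have hcard : Nat.card (alternatingGroup (Fin 5)) = 60 := by
    rw [nat_card_alternatingGroup]; simp [Nat.factorial]
  -- the sign is trivial on the image
  have hsign : ∀ a, Equiv.Perm.sign (θ a) = 1 := by
    let s : alternatingGroup (Fin 5) →* ℤˣ := Equiv.Perm.sign.comp θ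
    have hn : s.ker.Normal := MonoidHom.normal_ker s
    rcases hn.eq_bot_or_eq_top with h | h
    · exfalso
      have hinj : Function.Injective s := (MonoidHom.ker_eq_bot_iff s).mp h
      have h1 := Nat.card_le_card_of_injective s hinj
      rw [hcard] at h1
      have h2 : Nat.card ℤˣ = 2 := by simp
      omega
    · intro a
      have : a ∈ s.ker := by rw [h]; exact Subgroup.mem_top a
      exact this
  have hle : θ.range ≤ alternatingGroup (Fin 5) := by
    rintro x ⟨a, rfl⟩
    exact Equiv.Perm.mem_alternatingGroup.mpr (hsign a)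
  apply Subgroup.eq_of_le_of_card_ge hle
  have h1 : Nat.card ↥θ.range = Nat.card (alternatingGroup (Fin 5)) :=
    (Nat.card_congr (MonoidHom.ofInjective hθ).toEquiv).symm
  rw [h1]

theorem module_part [Finite G] (C Q : Subgroup G) (z : G)
    (hD : Data Q z) (hQ : Nat.card Q = 32) (hQC : Q ≤ C)
    (hCz : ∀ c ∈ C, c * z = z * c)
    (hQn : ∀ c ∈ C, ∀ q ∈ Q, c * q * c⁻¹ ∈ Q)
    (hself : ∀ c ∈ C, (∀ q ∈ Q, c * q = q * c) → c ∈ Q)
    (psi : ↥C →* alternatingGroup (Fin 5)) (hpsis : Function.Surjective psi)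
    (hpsik : ∀ c : ↥C, psi c = 1 ↔ (c : G) ∈ Q) :
    ∃ (phi : ↥C →* Equiv.Perm (Fin 5)) (u : Fin 5 → G),
      (∀ c : ↥C, phi c = 1 ↔ (c : G) ∈ Q) ∧
      phi.range = alternatingGroup (Fin 5) ∧
      (∀ i, u i ∈ Q ∧ u i * u i = 1 ∧ u i ≠ 1 ∧ u i ≠ z) ∧
      (∀ i j, i ≠ j → cm (u i) (u j) = z) ∧
      (∀ x ∈ Q, x * x = 1 → x = 1 ∨ x = z ∨ ∃ i, x = u i ∨ x = u i * z) ∧
      (∀ (c : ↥C) (i : Fin 5), (c : G) * u i * (c : G)⁻¹ = u (phi c i) ∨
        (c : G) * u i * (c : G)⁻¹ = u (phi c i) * z) ∧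
      (u 0 * u 1 * u 2 * u 3 * u 4 = 1 ∨ u 0 * u 1 * u 2 * u 3 * u 4 = z) ∧
      Subgroup.closure (Set.range u) = Q ∧
      invCount Q = 12 ∧ RkLE 2 Q := by
  classical
  have hzz := hD.z_sq
  obtain ⟨g, hgC, hg5, hgk⟩ := exists_five C Q hQ psi hpsis hpsik
  have hg1 : g ∉ Q := by
    have := hgk 1 (by norm_num) (by norm_num)
    rwa [pow_one] at this
  obtain ⟨hinv, hrk, u, hu, huniq, hstep, hexh⟩ :=
    orbit_five C Q z hD hQ hQC hCz hQn hself g hgC hg5 hgk
  have hcm := cm_points Q z hD hrk u hu huniq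
  have hgen := closure_points C Q z hD hQ hQC hCz hQn hself g hgC hg5 hg1 u hu hcm hstep
  have hprod := prod_points Q z hD u hu hcm hgen
  -- the action on the five points
  have hex : ∀ (c : ↥C) (i : Fin 5), ∃ j, Rz z ((c : G) * u i * (c : G)⁻¹) (u j) := by
    intro c i
    obtain ⟨h1, h2, h3, h4⟩ := hu i
    have hxQ : (c : G) * u i * (c : G)⁻¹ ∈ Q := hQn c c.2 _ h1
    rcases hexh _ hxQ (conj_sq h2) with h | h | ⟨j, h⟩
    · exact absurd h (conj_ne_one h3)
    · exact absurd h (conj_ne_z (hCz c c.2) h4)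
    · exact ⟨j, h⟩
  choose a ha using hex
  have ha1 : ∀ i, a 1 i = i := by
    intro i
    have h1 := ha 1 i
    have h2 : ((1 : ↥C) : G) * u i * ((1 : ↥C) : G)⁻¹ = u i := by simp
    rw [h2] at h1
    exact (huniq _ _ h1).symm
  have hamul : ∀ c c' i, a (c * c') i = a c (a c' i) := by
    intro c c' i
    have h1 := ha (c * c') i
    have h2 := Rz_conj (hCz c c.2) (ha c' i)
    have h3 := ha c (a c' i)
    have h4 : ((c * c' : ↥C) : G) * u i * ((c * c' : ↥C) : G)⁻¹ =
        (c : G) * ((c' : G) * u i * (c' : G)⁻¹) * (c : G)⁻¹ := by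
      rw [Subgroup.coe_mul]; group
    rw [h4] at h1
    exact huniq _ _ (Rz_trans hzz (Rz_symm hzz h1) (Rz_trans hzz h2 h3))
  let phi : ↥C →* Equiv.Perm (Fin 5) :=
    { toFun := fun c =>
        { toFun := a c
          invFun := a c⁻¹
          left_inv := fun i => by rw [← hamul, inv_mul_cancel, ha1]
          right_inv := fun i => by rw [← hamul, mul_inv_cancel, ha1] }
      map_one' := by
        ext i
        simp [ha1]
      map_mul' := by
        intro c c'
        ext i
        simp [hamul] }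
  have hphi : ∀ c i, phi c i = a c i := fun c i => rfl
  -- the kernel
  have hker : ∀ c : ↥C, phi c = 1 ↔ (c : G) ∈ Q := by
    intro c
    constructor
    · intro h
      have hfix : ∀ i, Rz z ((c : G) * u i * (c : G)⁻¹) (u i) := by
        intro i
        have h1 := ha c i
        have h2 : a c i = i := by
          rw [← hphi, h]; rfl
        rwa [h2] at h1
      -- the subgroup of `Q` of elements fixed modulo `z`
      apply mem_of_trivial_mod C Q z hD hQ hQC hCz hQn hself psi hpsis hpsik c c.2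
      let H : Subgroup G :=
        { carrier := {q | q ∈ Q ∧ Rz z ((c : G) * q * (c : G)⁻¹) q}
          one_mem' := ⟨Q.one_mem, Or.inl (by group)⟩
          mul_mem' := by
            rintro x y ⟨hx, hx'⟩ ⟨hy, hy'⟩
            refine ⟨Q.mul_mem hx hy, ?_⟩
            have h1 := Rz_mul hzz (hD.z_comm y hy) hx' hy'
            have h2 : (c : G) * (x * y) * (c : G)⁻¹ =
                ((c : G) * x * (c : G)⁻¹) * ((c : G) * y * (c : G)⁻¹) := by group
            rw [h2]; exact h1
          inv_mem' := by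
            rintro x ⟨hx, hx'⟩
            refine ⟨Q.inv_mem hx, ?_⟩
            have h1 := Rz_inv hzz (hD.z_comm x hx) hx'
            have h2 : (c : G) * x⁻¹ * (c : G)⁻¹ = ((c : G) * x * (c : G)⁻¹)⁻¹ := by group
            rw [h2]; exact h1 }
      have hle : Subgroup.closure (Set.range u) ≤ H := by
        rw [Subgroup.closure_le]
        rintro x ⟨i, rfl⟩
        exact ⟨(hu i).1, hfix i⟩
      intro q hq
      have : q ∈ H := hle (by rw [hgen]; exact hq)
      exact this.2
    · intro hc
      ext i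
      rw [hphi]
      have h1 := ha c i
      have h2 : Rz z ((c : G) * u i * (c : G)⁻¹) (u i) := by
        have h6 : (c : G) * u i * (c : G)⁻¹ = cm (c : G) (u i) * u i := by unfold cm; group
        rw [h6]
        rcases hD.comm_mem _ hc _ (hu i).1 with h7 | h7
        · left; rw [h7, one_mul]
        · right; rw [h7]; exact (hD.z_comm _ (hu i).1).symm
      have h3 := huniq _ _ (Rz_trans hzz (Rz_symm hzz h1) h2)
      rw [h3]; rfl
  -- the image
  have hran : phi.range = alternatingGroup (Fin 5) := by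
    have hkk : psi.ker ≤ phi.ker := by
      intro c hc
      rw [MonoidHom.mem_ker] at hc ⊢
      exact (hker c).mpr ((hpsik c).mp hc)
    let θ : alternatingGroup (Fin 5) →* Equiv.Perm (Fin 5) :=
      psi.liftOfSurjective hpsis ⟨phi, hkk⟩
    have hθ : ∀ c, θ (psi c) = phi c := fun c =>
      MonoidHom.liftOfRightInverse_comp_apply _ _ _ ⟨phi, hkk⟩ c
    have hθinj : Function.Injective θ := by
      rw [← MonoidHom.ker_eq_bot_iff, eq_bot_iff]
      intro x hx
      obtain ⟨c, rfl⟩ := hpsis x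
      rw [MonoidHom.mem_ker, hθ] at hx
      rw [Subgroup.mem_bot]
      exact (hpsik c).mpr ((hker c).mp hx)
    have h1 : phi.range = θ.range := by
      ext x
      constructor
      · rintro ⟨c, rfl⟩
        exact ⟨psi c, hθ c⟩
      · rintro ⟨y, rfl⟩
        obtain ⟨c, rfl⟩ := hpsis y
        exact ⟨c, (hθ c).symm⟩
    rw [h1]
    exact range_eq_alternating θ hθinj
  exact ⟨phi, u, hker, hran, hu, hcm, hexh, fun c i => ha c i, hprod, hgen, hinv, hrk⟩

end Cfsg.Agent.Lib.Helper6.J2A
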