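import Mathlib

set_option autoImplicit false
set_option maxHeartbeats 4000000
set_option maxRecDepth 100000
set_option linter.unusedVariables false
set_option linter.unusedSectionVars false
set_option linter.style.longLine false
set_option linter.unusedSimpArgs false
set_option linter.deprecated false

/-! # Livingstone–Wagner (b), part 1: the abstract dihedral swap lemma

If every point stabilizer contains an involution and no involution fixes two points, then
any two points are interchanged by some (involutory) element. -/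

namespace Cfsg.Agent.Lib.Helper6.KHom

open MulAction

theorem dihedral_swap {X Φ : Type*} [Group X] [Finite X] [MulAction X Φ]
    (ha : ∀ z : Φ, ∃ s : X, s ≠ 1 ∧ s * s = 1 ∧ s • z = z)
    (hb : ∀ z w : Φ, z ≠ w → ∀ g : X, g * g = 1 → g • z = z → g • w = w → g = 1)
    (x y : Φ) (hxy : x ≠ y) : ∃ u : X, u • x = y ∧ u • y = x := by
  obtain ⟨s, hs1, hs2, hsx⟩ := ha x
  obtain ⟨t, ht1, ht2, hty⟩ := ha y
  -- `s` fixes only `x`, `t` fixes only `y`
  have hsfix : ∀ w : Φ, s • w = w → w = x := by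
    intro w hw
    by_contra hne
    exact hs1 (hb x w (fun h => hne h.symm) s hs2 hsx hw)
  have htfix : ∀ w : Φ, t • w = w → w = y := by
    intro w hw
    by_contra hne
    exact ht1 (hb y w (fun h => hne h.symm) t ht2 hty hw)
  have hsinv : s⁻¹ = s := inv_eq_of_mul_eq_one_left hs2
  have htinv : t⁻¹ = t := inv_eq_of_mul_eq_one_left ht2
  obtain ⟨ρ, hρ⟩ : ∃ ρ : X, ρ = s * t := ⟨_, rfl⟩
  have hsρ : s * ρ * s = ρ⁻¹ := by
    rw [hρ, mul_inv_rev, hsinv, htinv]
    calc s * (s * t) * s = (s * s) * t * s := by group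
      _ = t * s := by rw [hs2, one_mul]
  -- conjugation of powers
  have hsρn : ∀ n : ℕ, s * ρ ^ n * s = (ρ ^ n)⁻¹ := by
    intro n
    induction n with
    | zero => simp [hs2]
    | succ n ih =>
      calc s * ρ ^ (n + 1) * s = (s * ρ ^ n * s) * (s * ρ * s) := by
            rw [pow_succ]
            calc s * (ρ ^ n * ρ) * s = s * ρ ^ n * ((1 : X) * ρ) * s := by group
              _ = s * ρ ^ n * ((s * s) * ρ) * s := by rw [hs2]
              _ = (s * ρ ^ n * s) * (s * ρ * s) := by group
        _ = (ρ ^ n)⁻¹ * ρ⁻¹ := by rw [ih, hsρ]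
        _ = (ρ ^ (n + 1))⁻¹ := by
            rw [pow_succ', mul_inv_rev]
  have htρ : t = ρ⁻¹ * s := by
    rw [hρ, mul_inv_rev, hsinv, htinv]
    calc t = t * (s * s) := by rw [hs2, mul_one]
      _ = t * s * s := by group
  obtain ⟨o, ho⟩ : ∃ o : ℕ, o = orderOf ρ := ⟨_, rfl⟩
  have hopos : 0 < o := by rw [ho]; exact orderOf_pos ρ
  rcases Nat.even_or_odd o with he | hodd
  · -- even order: central involution fixes `x` and `y`
    exfalso
    obtain ⟨m, hm⟩ := he
    have hm0 : 0 < m := by omega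
    obtain ⟨c, hc⟩ : ∃ c : X, c = ρ ^ m := ⟨_, rfl⟩
    have hcc : c * c = 1 := by
      rw [hc, ← pow_add, ← hm, ho, pow_orderOf_eq_one]
    have hc1 : c ≠ 1 := by
      intro h
      have : o ∣ m := by rw [ho]; exact orderOf_dvd_of_pow_eq_one (hc ▸ h)
      have := Nat.le_of_dvd hm0 this
      omega
    have hcinv : c⁻¹ = c := inv_eq_of_mul_eq_one_left hcc
    have hsc : s * c = c * s := by
      have h1 := hsρn m
      rw [← hc, hcinv] at h1
      calc s * c = s * c * (s * s) := by rw [hs2, mul_one]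
        _ = (s * c * s) * s := by group
        _ = c * s := by rw [h1]
    have htc : t * c = c * t := by
      have hρc : ρ * c = c * ρ := by rw [hc, ← pow_succ', ← pow_succ]
      have hρic : ρ⁻¹ * c = c * ρ⁻¹ := by
        calc ρ⁻¹ * c = ρ⁻¹ * (c * ρ) * ρ⁻¹ := by group
          _ = ρ⁻¹ * (ρ * c) * ρ⁻¹ := by rw [hρc]
          _ = c * ρ⁻¹ := by group
      rw [htρ]
      calc ρ⁻¹ * s * c = ρ⁻¹ * (s * c) := by group
        _ = ρ⁻¹ * (c * s) := by rw [hsc]
        _ = (ρ⁻¹ * c) * s := by group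
        _ = (c * ρ⁻¹) * s := by rw [hρic]
        _ = c * (ρ⁻¹ * s) := by group
    have hcx : c • x = x := by
      apply hsfix
      rw [← mul_smul, hsc, mul_smul, hsx]
    have hcy : c • y = y := by
      apply htfix
      rw [← mul_smul, htc, mul_smul, hty]
    exact hc1 (hb x y hxy c hcc hcx hcy)
  · -- odd order: conjugating involution
    obtain ⟨j, hj⟩ := hodd
    -- o = 2 j + 1
    obtain ⟨u, hu⟩ : ∃ u : X, u = ρ ^ j * s := ⟨_, rfl⟩
    have hρo : ρ ^ (2 * j + 1) = 1 := by rw [← hj, ho, pow_orderOf_eq_one]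
    have hsρj : s * ρ ^ j = (ρ ^ j)⁻¹ * s := by
      have h1 := hsρn j
      calc s * ρ ^ j = s * ρ ^ j * (s * s) := by rw [hs2, mul_one]
        _ = (s * ρ ^ j * s) * s := by group
        _ = (ρ ^ j)⁻¹ * s := by rw [h1]
    have huu : u * u = 1 := by
      rw [hu]
      calc ρ ^ j * s * (ρ ^ j * s) = ρ ^ j * (s * ρ ^ j) * s := by group
        _ = ρ ^ j * ((ρ ^ j)⁻¹ * s) * s := by rw [hsρj]
        _ = s * s := by group
        _ = 1 := hs2
    have huinv : u⁻¹ = u := inv_eq_of_mul_eq_one_left huu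
    -- u s u⁻¹ = t
    have hust : u * s * u = t := by
      rw [htρ, hu]
      calc ρ ^ j * s * s * (ρ ^ j * s) = ρ ^ j * (s * s) * (ρ ^ j * s) := by group
        _ = ρ ^ j * ρ ^ j * s := by rw [hs2]; group
        _ = ρ ^ (2 * j) * s := by rw [← pow_add, two_mul]
        _ = ρ⁻¹ * s := by
            have : ρ ^ (2 * j) = ρ⁻¹ := by
              rw [eq_inv_iff_mul_eq_one, ← pow_succ]; exact hρo
            rw [this]
    have hux : u • x = y := by
      apply htfix
      rw [← hust, mul_smul, mul_smul, ← mul_smul u u, huu, one_smul, hsx]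
    refine ⟨u, hux, ?_⟩
    rw [← hux, ← mul_smul, huu, one_smul]

end Cfsg.Agent.Lib.Helper6.KHom
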