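import Mathlib
import Cfsg.Agent.Lib.Helper8.Mil1

set_option autoImplicit false
set_option maxHeartbeats 4000000
set_option maxRecDepth 100000
set_option linter.unusedVariables false
set_option linter.unusedSectionVars false
set_option linter.style.longLine false
set_option linter.unusedSimpArgs false
set_option linter.deprecated false

/-! # Livingstone–Wagner (b), part 2: basic definitions

`HasSwaps G k`: every `k`-set admits all transpositions; `fixF P`: the fixed points of a
subgroup of `Perm α`; comparison of `pstab G T` with `fixingSubgroup G T`. -/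

namespace Cfsg.Agent.Lib.Helper6.KHom

open MulAction Cfsg.Agent.Lib.Helper8.Mil

variable {α : Type*} [Fintype α] [DecidableEq α] (G : Subgroup (Equiv.Perm α))

/-- every pair of points outside a `(k-2)`-set `Γ0` is interchanged by an element of `G`
fixing `Γ0` pointwise -/
def HasSwaps (k : ℕ) : Prop :=
  ∀ Γ0 : Finset α, Γ0.card + 2 = k → ∀ x y : α, x ∉ Γ0 → y ∉ Γ0 → x ≠ y →
    ∃ u : G, (∀ z ∈ Γ0, u • z = z) ∧ u • x = y ∧ u • y = x

/-- the fixed points of a subgroup of `Perm α` -/
noncomputable def fixF (P : Subgroup (Equiv.Perm α)) : Finset α := by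
  classical exact Finset.univ.filter (fun x => ∀ u ∈ P, u x = x)

theorem mem_fixF {P : Subgroup (Equiv.Perm α)} {x : α} : x ∈ fixF P ↔ ∀ u ∈ P, u x = x := by
  classical
  unfold fixF
  simp

/-- the normalizer preserves the fixed points -/
theorem normalizer_smul_mem_fixF {P : Subgroup (Equiv.Perm α)} {n : Equiv.Perm α}
    (hn : n ∈ Subgroup.normalizer (P : Set (Equiv.Perm α))) {x : α} (hx : x ∈ fixF P) :
    n x ∈ fixF P := by
  rw [mem_fixF] at hx ⊢
  intro u hu
  have h1 : n⁻¹ * u * n ∈ P := by
    have h2 := (Subgroup.mem_normalizer_iff'' (H := P)).mp hn u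
    exact h2.mp hu
  have h3 := hx _ h1
  simp only [Equiv.Perm.mul_apply] at h3
  have h4 := congrArg n h3
  simpa using h4

/-- `pstab G T` is the image of `fixingSubgroup G T` -/
theorem pstab_eq_map (T : Finset α) :
    pstab G T = (fixingSubgroup G (T : Set α)).map G.subtype := by
  ext g
  rw [mem_pstab, Subgroup.mem_map]
  constructor
  · rintro ⟨hg, hfix⟩
    refine ⟨⟨g, hg⟩, ?_, rfl⟩
    rw [mem_fixingSubgroup_iff]
    intro y hy
    exact hfix y (Finset.mem_coe.mp hy)
  · rintro ⟨u, hu, rfl⟩
    refine ⟨u.2, fun y hy => ?_⟩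
    exact (mem_fixingSubgroup_iff G).mp hu y (Finset.mem_coe.mpr hy)

theorem card_pstab (T : Finset α) :
    Nat.card (pstab G T) = Nat.card (fixingSubgroup G (T : Set α)) := by
  rw [pstab_eq_map]
  exact Subgroup.card_map_of_injective (Subgroup.subtype_injective _)

end Cfsg.Agent.Lib.Helper6.KHom
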