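import Mathlib
import Cfsg.Prelude
import Cfsg.Agent.Lib.Helper6.LbgD
import Cfsg.Agent.Lib.Helper5.PslGraph.GraphAut

set_option autoImplicit false
set_option linter.unusedSectionVars false
set_option linter.unusedVariables false
set_option linter.unusedSimpArgs false
open Cfsg

/-! Local balance for `PSL_n`: tools for the pure graph involutions: an orbit lemma, the action
on the projective space, the fixed points of `s ↦ (S s S⁻¹)^{-T}`. -/

namespace Cfsg.Agent.Lib.Helper6.Lbg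

open Matrix Cfsg.Agent.Lib.Helper9.APSL Cfsg.Agent.Lib.Helper9.ALB Cfsg.Agent.Lib.Helper5.PslGraph
open scoped LinearAlgebra.Projectivization

section orbit
variable {G X : Type*} [Group G] [MulAction G X]

/-- **the orbit lemma**: a subgroup `M` of odd order normalised by `R` fixes pointwise a set `Y`
with a "polar space like" geometry on which `R` acts richly. -/
theorem orbit_fix (M R : Subgroup G) (hodd : Odd (Nat.card M))
    (hRM : ∀ r ∈ R, ∀ m ∈ M, r * m * r⁻¹ ∈ M)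
    (Y : Set X) (hMY : ∀ m ∈ M, ∀ y ∈ Y, m • y ∈ Y)
    (far : X → X → Prop) (hsymm : ∀ x y, far x y → far y x)
    (GA : ∀ x ∈ Y, ∀ y ∈ Y, ∀ z ∈ Y, far x y → far x z → ∃ r ∈ R, r • x = x ∧ r • y = z)
    (GX : ∀ x ∈ Y, ∀ z ∈ Y, ¬ far x z → ∃ w ∈ Y, far x w ∧ far z w)
    (GB : ∀ x ∈ Y, ∀ y ∈ Y, x ≠ y → ¬ far x y →
      (∃ r ∈ R, r • x = x ∧ far y (r • y)) ∨
      ∃ L : Set X, Even L.ncard ∧ x ∈ L ∧ (∀ z ∈ Y, ¬ far x z → ¬ far y z → z ∈ L) ∧
        (∀ z ∈ L, z ≠ x → ∃ r ∈ R, r • x = x ∧ r • y = z))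
    (GP : Even Y.ncard) :
    ∀ m ∈ M, ∀ y ∈ Y, m • y = y := by
  intro m hm x hx
  by_contra hne
  obtain ⟨Δ, hΔ⟩ : ∃ Δ : Set X, Δ = {z | ∃ k ∈ M, k • x = z} := ⟨_, rfl⟩
  have hxΔ : x ∈ Δ := by rw [hΔ]; exact ⟨1, M.one_mem, one_smul _ _⟩
  have hmxΔ : m • x ∈ Δ := by rw [hΔ]; exact ⟨m, hm, rfl⟩
  have hΔY : ∀ z ∈ Δ, z ∈ Y := by
    intro z hz
    rw [hΔ] at hz
    obtain ⟨k, hk, rfl⟩ := hz
    exact hMY k hk x hx
  have hΔodd : Odd Δ.ncard := by
    have h1 : Δ = MulAction.orbit M x := by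
      rw [hΔ]
      ext z
      rw [MulAction.mem_orbit_iff]
      constructor
      · rintro ⟨k, hk, rfl⟩
        exact ⟨⟨k, hk⟩, rfl⟩
      · rintro ⟨k, rfl⟩
        exact ⟨k.1, k.2, rfl⟩
    rw [h1, ← MulAction.index_stabilizer]
    exact Odd.of_dvd_nat hodd (Subgroup.index_dvd_card _)
  have hstab : ∀ r ∈ R, ∀ u ∈ Δ, r • u = u → ∀ z ∈ Δ, r • z ∈ Δ := by
    intro r hr u hu hru z hz
    rw [hΔ] at hu hz ⊢
    obtain ⟨k, hk, rfl⟩ := hu
    obtain ⟨l, hl, rfl⟩ := hz
    refine ⟨r * (l * k⁻¹) * r⁻¹ * k, M.mul_mem (hRM r hr _ (M.mul_mem hl (M.inv_mem hk))) hk, ?_⟩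
    calc (r * (l * k⁻¹) * r⁻¹ * k) • x = (r * (l * k⁻¹) * r⁻¹) • (k • x) := by rw [mul_smul]
      _ = (r * (l * k⁻¹) * r⁻¹) • (r • (k • x)) := by rw [hru]
      _ = r • (l • x) := by
          simp only [← mul_smul]
          congr 1
          group
  by_cases hcase : ∃ u ∈ Δ, ∃ v ∈ Δ, far u v
  · obtain ⟨u, hu, v, hv, huv⟩ := hcase
    have hfarΔ : ∀ a ∈ Δ, ∀ b ∈ Δ, far a b → ∀ z ∈ Y, far a z → z ∈ Δ := by
      intro a ha b hb hab z hz haz
      obtain ⟨r, hr, hra, hrb⟩ := GA a (hΔY a ha) b (hΔY b hb) z hz hab haz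
      rw [← hrb]
      exact hstab r hr a ha hra b hb
    have hall : ∀ z ∈ Y, z ∈ Δ := by
      intro z hz
      by_cases h1 : far u z
      · exact hfarΔ u hu v hv huv z hz h1
      · obtain ⟨w, hw, huw, hzw⟩ := GX u (hΔY u hu) z hz h1
        have hwΔ : w ∈ Δ := hfarΔ u hu v hv huv w hw huw
        exact hfarΔ w hwΔ u hu (hsymm _ _ huw) z hz (hsymm _ _ hzw)
    have hEq : Δ = Y := Set.Subset.antisymm hΔY hall
    rw [hEq] at hΔodd
    exact (Nat.not_even_iff_odd.mpr hΔodd) GP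
  · push Not at hcase
    have hxy : x ≠ m • x := fun h => hne h.symm
    rcases GB x hx (m • x) (hΔY _ hmxΔ) hxy (hcase x hxΔ _ hmxΔ) with
      ⟨r, hr, hrx, hfar⟩ | ⟨L, hLe, hxL, hL1, hL2⟩
    · exact hcase (m • x) hmxΔ (r • (m • x)) (hstab r hr x hxΔ hrx _ hmxΔ) hfar
    · have hEq : Δ = L := by
        apply Set.Subset.antisymm
        · intro z hz
          exact hL1 z (hΔY z hz) (hcase x hxΔ z hz) (hcase _ hmxΔ z hz)
        · intro z hz
          by_cases hzx : z = x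
          · rw [hzx]; exact hxΔ
          · obtain ⟨r, hr, hrx, hry⟩ := hL2 z hz hzx
            rw [← hry]
            exact hstab r hr x hxΔ hrx _ hmxΔ
      rw [hEq] at hΔodd
      exact (Nat.not_even_iff_odd.mpr hΔodd) hLe

end orbit

variable {F : Type*} [Field F] {n : ℕ}

local notation "Mn" => Matrix (Fin n) (Fin n) F
local notation "SLn" => Matrix.SpecialLinearGroup (Fin n) F
local notation "PSLn" => Matrix.ProjectiveSpecialLinearGroup (Fin n) F
local notation "Vn" => (Fin n → F)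
local notation "GLn" => GL (Fin n) F

/-! ### the action on the projective space -/

theorem smul_mk_eq (s : SLn) (v w : Vn) (hv : v ≠ 0) (hw : w ≠ 0) (a : F)
    (h : (s : Mn) *ᵥ v = a • w) :
    mkP s • Projectivization.mk F v hv = Projectivization.mk F w hw := by
  have hsv : (s : Mn) *ᵥ v ≠ 0 := by
    intro h0
    apply hv
    have := congrArg (fun x => ((s⁻¹ : SLn) : Mn) *ᵥ x) h0
    simp only [mulVec_mulVec, mulVec_zero] at this
    rw [← Matrix.SpecialLinearGroup.coe_mul, inv_mul_cancel, Matrix.SpecialLinearGroup.coe_one,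
      one_mulVec] at this
    exact this
  have h1 : mkP s • Projectivization.mk F v hv = Projectivization.mk F ((s : Mn) *ᵥ v) hsv := rfl
  rw [h1, Projectivization.mk_eq_mk_iff']
  exact ⟨a, h.symm⟩

theorem eq_smul_of_smul_mk (s : SLn) (v w : Vn) (hv : v ≠ 0) (hw : w ≠ 0)
    (h : mkP s • Projectivization.mk F v hv = Projectivization.mk F w hw) :
    ∃ a : F, (s : Mn) *ᵥ v = a • w := by
  have hsv : (s : Mn) *ᵥ v ≠ 0 := by
    intro h0
    apply hv
    have := congrArg (fun x => ((s⁻¹ : SLn) : Mn) *ᵥ x) h0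
    simp only [mulVec_mulVec, mulVec_zero] at this
    rw [← Matrix.SpecialLinearGroup.coe_mul, inv_mul_cancel, Matrix.SpecialLinearGroup.coe_one,
      one_mulVec] at this
    exact this
  have h1 : mkP s • Projectivization.mk F v hv = Projectivization.mk F ((s : Mn) *ᵥ v) hsv := rfl
  rw [h1, Projectivization.mk_eq_mk_iff'] at h
  obtain ⟨a, ha⟩ := h
  exact ⟨a, ha.symm⟩

/-- two points are "far" for the bilinear function of `S` -/
def farP (S : Mn) (p p' : ℙ F Vn) : Prop := bf S p.rep p'.rep ≠ 0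

theorem farP_mk (S : Mn) (v w : Vn) (hv : v ≠ 0) (hw : w ≠ 0) :
    farP S (Projectivization.mk F v hv) (Projectivization.mk F w hw) ↔ bf S v w ≠ 0 := by
  obtain ⟨a, ha⟩ := Projectivization.exists_smul_eq_mk_rep F v hv
  obtain ⟨b, hb⟩ := Projectivization.exists_smul_eq_mk_rep F w hw
  unfold farP
  rw [← ha, ← hb, Units.smul_def, Units.smul_def, bf_smul_left, bf_smul_right]
  constructor
  · intro h h0
    apply h
    rw [h0, mul_zero, mul_zero]
  · intro h
    exact mul_ne_zero a.ne_zero (mul_ne_zero b.ne_zero h)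

/-- a point is singular for the bilinear function of `S` -/
def singP (S : Mn) (p : ℙ F Vn) : Prop := bf S p.rep p.rep = 0

theorem singP_mk (S : Mn) (v : Vn) (hv : v ≠ 0) :
    singP S (Projectivization.mk F v hv) ↔ bf S v v = 0 := by
  obtain ⟨a, ha⟩ := Projectivization.exists_smul_eq_mk_rep F v hv
  unfold singP
  rw [← ha, Units.smul_def, bf_smul_left, bf_smul_right]
  constructor
  · intro h
    rcases mul_eq_zero.mp h with h | h
    · exact absurd h a.ne_zero
    · rcases mul_eq_zero.mp h with h | h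
      · exact absurd h a.ne_zero
      · exact h
  · intro h
    rw [h, mul_zero, mul_zero]

/-! ### the automorphism `s ↦ (S s S⁻¹)^{-T}` of `SL` -/

/-- `s ↦ (S s S⁻¹)^{-T}` -/
def psiS (S : GLn) : SLn ≃* SLn := (conjSL S).trans invT

theorem liftAut_psiS (S : GLn) : liftAut (psiS S) = gB S := by
  unfold gB
  rw [gam_def, cG_apply, liftAut_mul]
  rfl

theorem psiS_coe (S : GLn) (s : SLn) :
    ((psiS S s : SLn) : Mn) =
      ((S⁻¹ : GLn) : Mn)ᵀ * ((s⁻¹ : SLn) : Mn)ᵀ * (S : Mn)ᵀ := by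
  show ((invT (conjSL S s) : SLn) : Mn) = _
  rw [invT_coe, ← map_inv, conjSL_coe, transpose_mul, transpose_mul, Matrix.mul_assoc]

theorem psiS_fix_iff (S : GLn) (s : SLn) :
    psiS S s = s ↔ (s : Mn)ᵀ * (S : Mn)ᵀ * (s : Mn) = (S : Mn)ᵀ := by
  have e1 : ((s⁻¹ : SLn) : Mn)ᵀ * (s : Mn)ᵀ = 1 := by
    rw [← transpose_mul, ← Matrix.SpecialLinearGroup.coe_mul, mul_inv_cancel,
      Matrix.SpecialLinearGroup.coe_one, transpose_one]
  have e2 : (s : Mn)ᵀ * ((s⁻¹ : SLn) : Mn)ᵀ = 1 := by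
    rw [← transpose_mul, ← Matrix.SpecialLinearGroup.coe_mul, inv_mul_cancel,
      Matrix.SpecialLinearGroup.coe_one, transpose_one]
  have e3 : ((S⁻¹ : GLn) : Mn)ᵀ * (S : Mn)ᵀ = 1 := by
    rw [← transpose_mul, ← Units.val_mul, mul_inv_cancel, Units.val_one, transpose_one]
  have e4 : (S : Mn)ᵀ * ((S⁻¹ : GLn) : Mn)ᵀ = 1 := by
    rw [← transpose_mul, ← Units.val_mul, inv_mul_cancel, Units.val_one, transpose_one]
  constructor
  · intro h
    have h1 := congrArg (fun t : SLn => (t : Mn)) h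
    simp only [psiS_coe] at h1
    calc (s : Mn)ᵀ * (S : Mn)ᵀ * (s : Mn)
        = (s : Mn)ᵀ * (S : Mn)ᵀ *
            (((S⁻¹ : GLn) : Mn)ᵀ * ((s⁻¹ : SLn) : Mn)ᵀ * (S : Mn)ᵀ) := by rw [h1]
      _ = (s : Mn)ᵀ * ((S : Mn)ᵀ * ((S⁻¹ : GLn) : Mn)ᵀ) * ((s⁻¹ : SLn) : Mn)ᵀ * (S : Mn)ᵀ := by
          simp only [Matrix.mul_assoc]
      _ = (S : Mn)ᵀ := by rw [e4, Matrix.mul_one, e2, Matrix.one_mul]
  · intro h
    apply Subtype.ext
    rw [psiS_coe]
    calc ((S⁻¹ : GLn) : Mn)ᵀ * ((s⁻¹ : SLn) : Mn)ᵀ * (S : Mn)ᵀ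
        = ((S⁻¹ : GLn) : Mn)ᵀ * ((s⁻¹ : SLn) : Mn)ᵀ *
            ((s : Mn)ᵀ * (S : Mn)ᵀ * (s : Mn)) := by rw [h]
      _ = ((S⁻¹ : GLn) : Mn)ᵀ * (((s⁻¹ : SLn) : Mn)ᵀ * (s : Mn)ᵀ) * (S : Mn)ᵀ * (s : Mn) := by
          simp only [Matrix.mul_assoc]
      _ = (s : Mn) := by rw [e1, Matrix.mul_one, e3, Matrix.one_mul]

/-- the fixed points are the isometries of the bilinear function of `S` -/
theorem psiS_fix_iff_bf (S : GLn) (s : SLn) :
    psiS S s = s ↔ ∀ u v : Vn, bf (S : Mn) ((s : Mn) *ᵥ u) ((s : Mn) *ᵥ v) = bf (S : Mn) u v := by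
  rw [psiS_fix_iff]
  constructor
  · intro h u v
    have h1 := bf_mulVec (S : Mn)ᵀ (s : Mn) v u
    rw [h, bf_transpose, bf_transpose] at h1
    exact h1
  · intro h
    apply bf_ext
    intro u v
    rw [← bf_mulVec, bf_transpose, bf_transpose]
    exact h v u

/-! ### the centraliser of the fixed points, generically -/

theorem cent_of_aux [Fintype F] (r : ℕ) [Fact r.Prime] [CharP F r] (hn : 2 ≤ n)
    (Ψ : SLn ≃* SLn) (g₀ : GLn) (hΨ : liftAut Ψ = cG g₀ * gam)
    (aux : ∀ (g : GLn) (τ : RingAut F),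
      (∀ s : SLn, Ψ s = s → (cG g * fld τ : MulAut PSLn) (mkP s) = mkP s) →
      (cG g * fld τ : MulAut PSLn) = 1)
    (ρ : MulAut PSLn) (hρ : ∀ s : SLn, Ψ s = s → ρ (mkP s) = mkP s) :
    ρ ∈ Subgroup.zpowers (liftAut Ψ) := by
  obtain ⟨g, τ, h1 | h1⟩ := aut_PSL_std r hn ρ
  · have h3 : ρ = 1 := by
      rw [h1]
      exact aux g τ (fun s hs => by have := hρ s hs; rw [h1] at this; exact this)
    rw [h3]
    exact Subgroup.one_mem _
  · have hβfix : ∀ s : SLn, Ψ s = s → (liftAut Ψ) (mkP s) = mkP s :=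
      fun s hs => by rw [liftAut_mkP, hs]
    have h3 : ρ * liftAut Ψ = cG (g * sG τ (tI g₀)) * fld τ := by
      rw [h1, hΨ]
      show cG g * fld τ * gam * (cG g₀ * gam) = cG (g * sG τ (tI g₀)) * fld τ
      calc cG g * fld τ * gam * (cG g₀ * gam) = cG g * fld τ * (gam * cG g₀) * gam := by group
        _ = cG g * fld τ * (cG (tI g₀) * gam) * gam := by rw [gam_mul_cG]
        _ = cG g * (fld τ * cG (tI g₀)) * (gam * gam) := by group
        _ = cG g * (cG (sG τ (tI g₀)) * fld τ) := by rw [gam_mul_gam, mul_one, fld_mul_cG]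
        _ = cG (g * sG τ (tI g₀)) * fld τ := by rw [map_mul, mul_assoc]
    have h4 : ρ * liftAut Ψ = 1 := by
      rw [h3]
      apply aux
      intro s hs
      rw [← h3, MulAut.mul_apply, hβfix s hs, hρ s hs]
    have h5 : ρ = (liftAut Ψ)⁻¹ := eq_inv_of_mul_eq_one_left h4
    rw [h5]
    exact Subgroup.inv_mem _ (Subgroup.mem_zpowers _)

/-- transfer of the triviality of the core along conjugation -/
theorem core_bot_conj (A : Subgroup (MulAut PSLn)) (hinn : ∀ k : PSLn, MulAut.conj k ∈ A)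
    (α φ : MulAut PSLn) (p : ℕ)
    (h : ∀ A' : Subgroup (MulAut PSLn), (∀ k : PSLn, MulAut.conj k ∈ A') →
      Cfsg.pPrimeCore p ↥(A' ⊓ Subgroup.centralizer {φ}) = ⊥) :
    Cfsg.pPrimeCore p ↥(A ⊓ Subgroup.centralizer {α * φ * α⁻¹}) = ⊥ := by
  by_contra hne
  have h1 := (pPrimeCore_ne_bot_congr (centConjEquiv A α φ) p).mpr hne
  apply h1
  apply h
  intro k
  rw [Subgroup.mem_comap]
  show (MulAut.conj α) (MulAut.conj k) ∈ A
  rw [MulAut.conj_apply, conj_conj]
  exact hinn _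

/-! ### the sign changes -/

instance signSMulComm : SMulCommClass (Fin n → ℤˣ) F (Fin n → F) where
  smul_comm d c v := by
    funext i
    simp only [Pi.smul_apply', Pi.smul_apply, Units.smul_def, zsmul_eq_mul, smul_eq_mul]
    ring

theorem sign_smul_apply (d : Fin n → ℤˣ) (v : Vn) (i : Fin n) :
    (d • v) i = ((d i : ℤ) : F) * v i := by
  simp [Units.smul_def]

theorem sign_smul_mk (d : Fin n → ℤˣ) (v : Vn) (hv : v ≠ 0) :
    d • Projectivization.mk F v hv =
      Projectivization.mk F (d • v) ((smul_ne_zero_iff_ne d).mpr hv) := rfl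

/-- a set of points invariant under the sign changes and containing no coordinate point has
even cardinality -/
theorem even_ncard_of_sign_invariant [Finite F] (h2 : (2 : F) ≠ 0) (Y : Set (ℙ F Vn))
    (hinv : ∀ (d : Fin n → ℤˣ) (p : ℙ F Vn), p ∈ Y → d • p ∈ Y)
    (hcoord : ∀ (i : Fin n) (h : (Pi.single i (1 : F) : Vn) ≠ 0),
      Projectivization.mk F (Pi.single i 1) h ∉ Y) :
    Even Y.ncard := by
  haveI : Fact (Nat.Prime 2) := ⟨Nat.prime_two⟩
  have hD : IsPGroup 2 (Fin n → ℤˣ) := fun g => ⟨1, by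
    rw [pow_one, sq]
    funext i
    exact Int.units_mul_self (g i)⟩
  obtain ⟨Ys, hYs⟩ : ∃ Ys : SubMulAction (Fin n → ℤˣ) (ℙ F Vn), (Ys : Set (ℙ F Vn)) = Y :=
    ⟨⟨Y, fun d p hp => hinv d p hp⟩, rfl⟩
  have h1 := hD.card_modEq_card_fixedPoints ↥Ys
  have h3 : MulAction.fixedPoints (Fin n → ℤˣ) ↥Ys = ∅ := by
    rw [Set.eq_empty_iff_forall_notMem]
    rintro ⟨p, hp⟩ hfix
    have hpY : p ∈ Y := by rw [← hYs]; exact hp
    obtain ⟨v, hv, rfl⟩ : ∃ (v : Vn) (hv : v ≠ 0), p = Projectivization.mk F v hv :=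
      ⟨p.rep, p.rep_nonzero, (p.mk_rep).symm⟩
    obtain ⟨i, hi⟩ : ∃ i, v i ≠ 0 := by
      by_contra hno
      push Not at hno
      exact hv (funext hno)
    obtain ⟨d, hd⟩ : ∃ d : Fin n → ℤˣ, d = Function.update (1 : Fin n → ℤˣ) i (-1) := ⟨_, rfl⟩
    have h4 : d • Projectivization.mk F v hv = Projectivization.mk F v hv :=
      congrArg Subtype.val (hfix d)
    rw [sign_smul_mk, Projectivization.mk_eq_mk_iff'] at h4
    obtain ⟨a, ha⟩ := h4
    have hai : a = -1 := by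
      have := congrFun ha i
      rw [sign_smul_apply, Pi.smul_apply, smul_eq_mul, hd, Function.update_self] at this
      have h5 : (a + 1) * v i = 0 := by
        rw [add_mul, this]
        push_cast
        ring
      rcases mul_eq_zero.mp h5 with h | h
      · exact eq_neg_of_add_eq_zero_left h
      · exact absurd h hi
    have hj : ∀ j, j ≠ i → v j = 0 := by
      intro j hji
      have := congrFun ha j
      rw [sign_smul_apply, Pi.smul_apply, smul_eq_mul, hd, Function.update_of_ne hji, hai] at this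
      have h5 : 2 * v j = 0 := by
        have h6 : ((((1 : Fin n → ℤˣ) j : ℤˣ) : ℤ) : F) = 1 := by simp
        rw [h6] at this
        linear_combination (-1 : F) * this
      exact (mul_eq_zero.mp h5).resolve_left h2
    have hsingle : (Pi.single i (1 : F) : Vn) ≠ 0 := by
      intro h0
      have := congrFun h0 i
      simp at this
    apply hcoord i hsingle
    have : Projectivization.mk F (Pi.single i 1) hsingle = Projectivization.mk F v hv := by
      rw [Projectivization.mk_eq_mk_iff']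
      refine ⟨(v i)⁻¹, ?_⟩
      funext j
      by_cases hji : j = i
      · subst hji
        simp [hi]
      · rw [Pi.smul_apply, hj j hji, smul_zero, Pi.single_apply, if_neg hji]
    rw [this]
    exact hpY
  rw [h3] at h1
  have h5 : Nat.card ↥Ys = Y.ncard := by
    rw [← hYs]
    exact Nat.card_coe_set_eq _
  rw [h5] at h1
  have h6 : Nat.card ↥(∅ : Set ↥Ys) = 0 := by simp
  rw [h6] at h1
  exact Nat.even_iff.mpr h1

/-! ### semilinear maps fixing every point -/

theorem semilinear_all (hn : 3 ≤ n) (h : GLn) (τ : RingAut F)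
    (hfix : ∀ v : Vn, v ≠ 0 → ∃ a : F, Tsl τ h v = a • v) :
    τ = 1 ∧ ∃ c : F, (h : Mn) = c • (1 : Mn) := by
  have key : ∀ (i j l : Fin n) (hij : i ≠ j) (hil : i ≠ l) (hjl : j ≠ l) (μ : F),
      ∃ a : F, (h : Mn) i i + τ μ * (h : Mn) i j = a ∧
        (h : Mn) j i + τ μ * (h : Mn) j j = a * μ ∧
        (h : Mn) l i + τ μ * (h : Mn) l j = 0 := by
    intro i j l hij hil hjl μ
    obtain ⟨a, ha⟩ := hfix _ (X3_ne_zero hij hil μ 0)
    refine ⟨a, ?_, ?_, ?_⟩
    · have := congrFun ha i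
      rw [Tsl_X3, Pi.smul_apply, X3_apply_i hij hil, smul_eq_mul, mul_one, map_zero, zero_mul,
        add_zero] at this
      exact this
    · have := congrFun ha j
      rw [Tsl_X3, Pi.smul_apply, X3_apply_j hij hjl, smul_eq_mul, map_zero, zero_mul,
        add_zero] at this
      exact this
    · have := congrFun ha l
      rw [Tsl_X3, Pi.smul_apply, X3_apply_l hil hjl, smul_eq_mul, map_zero, zero_mul,
        add_zero, mul_zero] at this
      exact this
  have hoff : ∀ (l i : Fin n), l ≠ i → (h : Mn) l i = 0 := by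
    intro l i hli
    obtain ⟨j, hjl, hji⟩ := exists_third hn l i
    obtain ⟨a, -, -, e1⟩ := key i j l hji.symm hli.symm hjl 0
    rw [map_zero, zero_mul, add_zero] at e1
    exact e1
  have hdiag : (h : Mn) = Matrix.diagonal (fun i => (h : Mn) i i) := by
    ext a b
    by_cases hab : a = b
    · subst hab; simp
    · rw [hoff a b hab, Matrix.diagonal_apply_ne _ hab]
  have hd0 : ∀ i, (h : Mn) i i ≠ 0 := by
    have hdet : (h : Mn).det ≠ 0 :=
      ((Matrix.isUnit_iff_isUnit_det _).mp (Units.isUnit h)).ne_zero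
    have hdet' : (Matrix.diagonal (fun i => (h : Mn) i i)).det ≠ 0 := by
      rw [← hdiag]; exact hdet
    rw [Matrix.det_diagonal] at hdet'
    exact fun i => Finset.prod_ne_zero_iff.mp hdet' i (Finset.mem_univ i)
  have hrel : ∀ (i j : Fin n), i ≠ j → ∀ μ : F, τ μ * (h : Mn) j j = (h : Mn) i i * μ := by
    intro i j hij μ
    obtain ⟨l, hli, hlj⟩ := exists_third hn i j
    obtain ⟨a, e0, e1, -⟩ := key i j l hij hli.symm hlj.symm μ
    rw [hoff i j hij, mul_zero, add_zero] at e0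
    rw [hoff j i hij.symm, zero_add] at e1
    rw [e1, e0]
  have hδeq : ∀ (i j : Fin n), i ≠ j → (h : Mn) j j = (h : Mn) i i := by
    intro i j hij
    have := hrel i j hij 1
    rw [map_one, one_mul, mul_one] at this
    exact this
  obtain ⟨i, hi⟩ : ∃ i : Fin n, i = ⟨0, by omega⟩ := ⟨_, rfl⟩
  obtain ⟨j, hj⟩ : ∃ j : Fin n, j = ⟨1, by omega⟩ := ⟨_, rfl⟩
  have hij : i ≠ j := by rw [hi, hj]; intro h; have := congrArg Fin.val h; simp at this
  have hall : ∀ ν : F, τ ν = ν := by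
    intro ν
    have := hrel i j hij ν
    rw [hδeq i j hij] at this
    exact mul_right_cancel₀ (hd0 i) (by rw [this, mul_comm])
  refine ⟨RingEquiv.ext hall, (h : Mn) i i, ?_⟩
  ext a b
  rw [Matrix.smul_apply, Matrix.one_apply, smul_eq_mul]
  by_cases hab : a = b
  · subst hab
    rw [if_pos rfl, mul_one]
    by_cases hai : i = a
    · rw [hai]
    · exact hδeq i a hai
  · rw [if_neg hab, mul_zero, hoff a b hab]

end Cfsg.Agent.Lib.Helper6.Lbg
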