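import Mathlib
import Cfsg.Prelude
import Cfsg.Agent.Lib.Helper6.LbgE
import Cfsg.Agent.Lib.Helper5.SpInSLMax

set_option autoImplicit false
set_option linter.unusedSectionVars false
set_option linter.unusedVariables false
set_option linter.unusedSimpArgs false
open Cfsg

/-! Local balance for `PSL_n`: the graph involutions of symplectic type. -/

namespace Cfsg.Agent.Lib.Helper6.Lbg

open Matrix Cfsg.Agent.Lib.Helper9.APSL Cfsg.Agent.Lib.Helper9.ALB Cfsg.Agent.Lib.Helper5.PslGraph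
open scoped LinearAlgebra.Projectivization

variable {F : Type*} [Field F] {n : ℕ}

local notation "Mn" => Matrix (Fin n) (Fin n) F
local notation "SLn" => Matrix.SpecialLinearGroup (Fin n) F
local notation "PSLn" => Matrix.ProjectiveSpecialLinearGroup (Fin n) F
local notation "Vn" => (Fin n → F)
local notation "GLn" => GL (Fin n) F

theorem exists_mk (p : ℙ F Vn) :
    ∃ (v : Vn) (hv : v ≠ 0), p = Projectivization.mk F v hv :=
  ⟨p.rep, p.rep_nonzero, (p.mk_rep).symm⟩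

theorem bf_sub_right' (S : Mn) (u v v' : Vn) : bf S u (v - v') = bf S u v - bf S u v' := by
  unfold bf
  rw [mulVec_sub, dotProduct_sub]

theorem bf_sub_left' (S : Mn) (u u' v : Vn) : bf S (u - u') v = bf S u v - bf S u' v := by
  unfold bf
  rw [sub_dotProduct]

theorem bf_zero_right' (S : Mn) (u : Vn) : bf S u 0 = 0 := by
  unfold bf
  rw [mulVec_zero, dotProduct_zero]

theorem bf_zero_left' (S : Mn) (u : Vn) : bf S 0 u = 0 := by
  unfold bf
  rw [zero_dotProduct]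

theorem bf_neg_mat (S : Mn) (u v : Vn) : bf (-S) u v = -bf S u v := by
  have : -S = (-1 : F) • S := by rw [neg_smul, one_smul]
  rw [this, bf_smul]
  ring

theorem bf_skew (S : Mn) (hS : Sᵀ = -S) (u v : Vn) : bf S u v = -bf S v u := by
  have h1 := bf_transpose S v u
  rw [hS, bf_neg_mat] at h1
  exact h1.symm

theorem bf_alt (h2 : (2 : F) ≠ 0) (S : Mn) (hS : Sᵀ = -S) (v : Vn) : bf S v v = 0 := by
  have h1 := bf_skew S hS v v
  have h3 : 2 * bf S v v = 0 := by linear_combination h1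
  exact (mul_eq_zero.mp h3).resolve_left h2

theorem bf_left_nondeg' (S : GLn) (x : Vn) (hx : ∀ y, bf (S : Mn) x y = 0) : x = 0 := by
  have h1 : x ᵥ* (S : Mn) = 0 := by
    funext j
    have := hx (Pi.single j 1)
    unfold bf at this
    rw [dotProduct_mulVec] at this
    simpa using this
  have h3 : x = (x ᵥ* (S : Mn)) ᵥ* ((S⁻¹ : GLn) : Mn) := by
    rw [vecMul_vecMul, ← Units.val_mul, mul_inv_cancel, Units.val_one, vecMul_one]
  rw [h3, h1, zero_vecMul]

theorem mulVec_ne_zero_GL (S : GLn) {v : Vn} (hv : v ≠ 0) : (S : Mn) *ᵥ v ≠ 0 := by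
  intro h0
  apply hv
  have := congrArg (fun x => ((S⁻¹ : GLn) : Mn) *ᵥ x) h0
  simp only [mulVec_mulVec, mulVec_zero] at this
  rw [← Units.val_mul, inv_mul_cancel, Units.val_one, one_mulVec] at this
  exact this

theorem isSymplectic_bf (h2 : (2 : F) ≠ 0) (S : GLn) (hS : (S : Mn)ᵀ = -(S : Mn)) :
    Cfsg.Geo.IsSymplecticForm (bf (S : Mn)) where
  bilinear := ⟨bf_add_left _, bf_smul_left _, fun v x y => bf_add_right _ v x y,
    fun c v x => bf_smul_right _ c v x⟩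
  skew := bf_skew _ hS
  alternating := bf_alt h2 _ hS
  nondegenerate := by
    intro v hv
    have h1 : ∃ x, bf (S : Mn) v x ≠ 0 := by
      by_contra hno
      push Not at hno
      exact hv (bf_left_nondeg' S v hno)
    obtain ⟨x, hx⟩ := h1
    refine ⟨⟨x, ?_⟩, ⟨x, hx⟩⟩
    rw [bf_skew _ hS]
    exact neg_ne_zero.mpr hx

theorem even_of_skew (h2 : (2 : F) ≠ 0) (S : GLn) (hS : (S : Mn)ᵀ = -(S : Mn)) : Even n := by
  by_contra hodd
  rw [Nat.not_even_iff_odd] at hodd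
  have h1 : (S : Mn).det = -(S : Mn).det := by
    conv_lhs => rw [← det_transpose, hS, det_neg, Fintype.card_fin, Odd.neg_one_pow hodd]
    ring
  have hdet : (S : Mn).det ≠ 0 :=
    ((Matrix.isUnit_iff_isUnit_det _).mp (Units.isUnit S)).ne_zero
  have : 2 * (S : Mn).det = 0 := by linear_combination h1
  exact hdet ((mul_eq_zero.mp this).resolve_left h2)

/-! ### symplectic transvections -/

/-- the symplectic transvection `x ↦ x + c B(x,w) w` -/
def rootS (h2 : (2 : F) ≠ 0) (S : GLn) (hS : (S : Mn)ᵀ = -(S : Mn)) (w : Vn) (c : F) : SLn :=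
  tvS w (c • ((S : Mn) *ᵥ w)) (by
    rw [smul_dotProduct, dotProduct_comm]
    show c • bf (S : Mn) w w = 0
    rw [bf_alt h2 _ hS, smul_zero])

theorem rootS_mulVec (h2 : (2 : F) ≠ 0) (S : GLn) (hS : (S : Mn)ᵀ = -(S : Mn)) (w : Vn) (c : F)
    (x : Vn) : (rootS h2 S hS w c : Mn) *ᵥ x = x + (c * bf (S : Mn) x w) • w := by
  unfold rootS
  rw [tvS_coe, tv_mulVec, smul_dotProduct, dotProduct_comm]
  rfl

theorem psiS_rootS (h2 : (2 : F) ≠ 0) (S : GLn) (hS : (S : Mn)ᵀ = -(S : Mn)) (w : Vn) (c : F) :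
    psiS S (rootS h2 S hS w c) = rootS h2 S hS w c := by
  rw [psiS_fix_iff_bf]
  intro u v
  rw [rootS_mulVec, rootS_mulVec]
  simp only [bf_add_left, bf_add_right, bf_smul_left, bf_smul_right]
  rw [bf_alt h2 _ hS w, bf_skew _ hS w v]
  ring

theorem sp_move1 (h2 : (2 : F) ≠ 0) (S : GLn) (hS : (S : Mn)ᵀ = -(S : Mn)) (x y z : Vn)
    (hxy : bf (S : Mn) x y = bf (S : Mn) x z) (hyz : bf (S : Mn) y z ≠ 0) :
    ∃ s : SLn, psiS S s = s ∧ (s : Mn) *ᵥ x = x ∧ (s : Mn) *ᵥ y = z := by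
  refine ⟨rootS h2 S hS (z - y) (bf (S : Mn) y z)⁻¹, psiS_rootS h2 S hS _ _, ?_, ?_⟩
  · rw [rootS_mulVec]
    have : bf (S : Mn) x (z - y) = 0 := by rw [bf_sub_right', hxy, sub_self]
    rw [this, mul_zero, zero_smul, add_zero]
  · rw [rootS_mulVec]
    have : bf (S : Mn) y (z - y) = bf (S : Mn) y z := by
      rw [bf_sub_right', bf_alt h2 _ hS, sub_zero]
    rw [this, inv_mul_cancel₀ hyz, one_smul]
    abel

theorem sp_move (h2 : (2 : F) ≠ 0) (S : GLn) (hS : (S : Mn)ᵀ = -(S : Mn)) (x y z : Vn)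
    (hxy : bf (S : Mn) x y ≠ 0) (hxz : bf (S : Mn) x z ≠ 0) :
    ∃ s : SLn, psiS S s = s ∧ (s : Mn) *ᵥ x = x ∧ ∃ b : F, (s : Mn) *ᵥ y = b • z := by
  obtain ⟨b, hb⟩ : ∃ b : F, b = bf (S : Mn) x y / bf (S : Mn) x z := ⟨_, rfl⟩
  have hxz' : bf (S : Mn) x (b • z) = bf (S : Mn) x y := by
    rw [bf_smul_right, hb, div_mul_cancel₀ _ hxz]
  by_cases h1 : bf (S : Mn) y (b • z) = 0
  · have e1 : bf (S : Mn) x y = bf (S : Mn) x (y + x) := by
      rw [bf_add_right, bf_alt h2 _ hS x, add_zero]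
    have e2 : bf (S : Mn) y (y + x) ≠ 0 := by
      rw [bf_add_right, bf_alt h2 _ hS y, zero_add, bf_skew _ hS]
      exact neg_ne_zero.mpr hxy
    obtain ⟨s₁, hs₁, hs₁x, hs₁y⟩ := sp_move1 h2 S hS x y (y + x) e1 e2
    have e3 : bf (S : Mn) x (y + x) = bf (S : Mn) x (b • z) := by rw [← e1, hxz']
    have e4 : bf (S : Mn) (y + x) (b • z) ≠ 0 := by
      rw [bf_add_left, h1, zero_add, hxz']
      exact hxy
    obtain ⟨s₂, hs₂, hs₂x, hs₂y⟩ := sp_move1 h2 S hS x (y + x) (b • z) e3 e4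
    refine ⟨s₂ * s₁, by rw [map_mul, hs₂, hs₁], ?_, b, ?_⟩
    · rw [Matrix.SpecialLinearGroup.coe_mul, ← mulVec_mulVec, hs₁x, hs₂x]
    · rw [Matrix.SpecialLinearGroup.coe_mul, ← mulVec_mulVec, hs₁y, hs₂y]
  · obtain ⟨s, hs, hsx, hsy⟩ := sp_move1 h2 S hS x y (b • z) hxz'.symm h1
    exact ⟨s, hs, hsx, b, hsy⟩

theorem sp_tilt (h2 : (2 : F) ≠ 0) (S : GLn) (hS : (S : Mn)ᵀ = -(S : Mn)) (x y : Vn)
    (hne : ¬ ∃ a : F, y = a • x) (hxy : bf (S : Mn) x y = 0) :
    ∃ s : SLn, psiS S s = s ∧ (s : Mn) *ᵥ x = x ∧ bf (S : Mn) y ((s : Mn) *ᵥ y) ≠ 0 := by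
  have hf := isSymplectic_bf h2 S hS
  obtain ⟨w, hwx, hwy⟩ : ∃ w, bf (S : Mn) w x = 0 ∧ bf (S : Mn) w y ≠ 0 := by
    by_contra hno
    push Not at hno
    exact hne (Cfsg.Agent.Lib.Helper5.SpInSLMax.exists_smul_of_ker hf x y hno)
  refine ⟨rootS h2 S hS w 1, psiS_rootS h2 S hS _ _, ?_, ?_⟩
  · rw [rootS_mulVec, one_mul, bf_skew _ hS, hwx, neg_zero, zero_smul, add_zero]
  · rw [rootS_mulVec, one_mul, bf_add_right, bf_alt h2 _ hS y, zero_add, bf_smul_right,
      bf_skew _ hS y w]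
    exact mul_ne_zero (neg_ne_zero.mpr hwy) (neg_ne_zero.mpr hwy)

/-! ### parity of the number of points -/

theorem even_card_proj [Fintype F] (hq : Odd (Fintype.card F)) (hne : Even n) :
    Even (Nat.card (ℙ F Vn)) := by
  obtain ⟨m, hm⟩ := hne
  have h1 := Projectivization.card F Vn
  have hV : Nat.card Vn = (Fintype.card F) ^ n := by
    rw [Nat.card_eq_fintype_card, Fintype.card_fun, Fintype.card_fin]
  rw [hV, Nat.card_eq_fintype_card (α := F)] at h1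
  obtain ⟨q, hqdef⟩ : ∃ q : ℕ, q = Fintype.card F := ⟨_, rfl⟩
  rw [← hqdef] at h1 hq
  obtain ⟨k, hk⟩ : (q ^ 2 - 1) ∣ (q ^ n - 1) := by
    rw [hm, ← two_mul, pow_mul]
    exact Nat.sub_one_dvd_pow_sub_one (q ^ 2) m
  have hq1 : 1 < q := by rw [hqdef]; exact Fintype.one_lt_card
  have hfac : q ^ 2 - 1 = (q - 1) * (q + 1) := by
    obtain ⟨t, ht⟩ : ∃ t, q = t + 1 := ⟨q - 1, by omega⟩
    rw [ht]
    simp only [Nat.add_sub_cancel]
    have : (t + 1) ^ 2 = t * (t + 1 + 1) + 1 := by ring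
    rw [this, Nat.add_sub_cancel]
  rw [hk, hfac, mul_assoc] at h1
  have h3 : (q + 1) * k = Nat.card (ℙ F Vn) := by
    apply Nat.eq_of_mul_eq_mul_left (show 0 < q - 1 by omega)
    rw [h1, mul_comm]
  rw [← h3]
  exact Even.mul_right (Odd.add_one hq) k

/-! ### the two hypotheses -/

theorem he1_sp [Fintype F] (h2 : (2 : F) ≠ 0) (hq : Odd (Fintype.card F)) (S : GLn)
    (hS : (S : Mn)ᵀ = -(S : Mn))
    (M : Subgroup PSLn) (hM : M ≤ (fixSL (psiS S)).map mkP)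
    (hMn : ∀ z ∈ fixP (liftAut (psiS S)), ∀ m ∈ M, z * m * z⁻¹ ∈ M)
    (hMc : (Nat.card M).Coprime 2) : M = ⊥ := by
  have hf := isSymplectic_bf h2 S hS
  have key : ∀ m ∈ M, ∀ y ∈ (Set.univ : Set (ℙ F Vn)), m • y = y := by
    apply orbit_fix M (fixP (liftAut (psiS S))) (Nat.coprime_two_right.mp hMc) hMn
      (Set.univ : Set (ℙ F Vn)) (fun _ _ _ _ => Set.mem_univ _) (farP (S : Mn))
    · intro p p'
      obtain ⟨v, hv, rfl⟩ := exists_mk p
      obtain ⟨w, hw, rfl⟩ := exists_mk p'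
      rw [farP_mk, farP_mk, bf_skew _ hS w v]
      intro h
      exact neg_ne_zero.mpr h
    · intro p _ p' _ p'' _ h1 h3
      obtain ⟨x, hx, rfl⟩ := exists_mk p
      obtain ⟨y, hy, rfl⟩ := exists_mk p'
      obtain ⟨z, hz, rfl⟩ := exists_mk p''
      rw [farP_mk] at h1 h3
      obtain ⟨s, hs, hsx, b, hsy⟩ := sp_move h2 S hS x y z h1 h3
      exact ⟨mkP s, mkP_mem_fixP hs, smul_mk_eq s x x hx hx 1 (by rw [hsx, one_smul]),
        smul_mk_eq s y z hy hz b hsy⟩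
    · intro p _ p'' _ _
      obtain ⟨x, hx, rfl⟩ := exists_mk p
      obtain ⟨z, hz, rfl⟩ := exists_mk p''
      obtain ⟨w, hwx, hwz⟩ := Cfsg.Agent.Lib.Helper5.SpInSLMax.exists_cross hf x z hx hz
      have hw : w ≠ 0 := by
        intro h0
        apply hwx
        rw [h0, bf_zero_left']
      refine ⟨Projectivization.mk F w hw, Set.mem_univ _, ?_, ?_⟩
      · rw [farP_mk, bf_skew _ hS]
        exact neg_ne_zero.mpr hwx
      · rw [farP_mk, bf_skew _ hS]
        exact neg_ne_zero.mpr hwz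
    · intro p _ p' _ hne hnf
      obtain ⟨x, hx, rfl⟩ := exists_mk p
      obtain ⟨y, hy, rfl⟩ := exists_mk p'
      rw [farP_mk, not_not] at hnf
      left
      have hne' : ¬ ∃ a : F, y = a • x := by
        rintro ⟨a, ha⟩
        apply hne
        rw [Projectivization.mk_eq_mk_iff']
        have ha0 : a ≠ 0 := by
          intro h0
          apply hy
          rw [ha, h0, zero_smul]
        exact ⟨a⁻¹, by rw [ha, smul_smul, inv_mul_cancel₀ ha0, one_smul]⟩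
      obtain ⟨s, hs, hsx, hfar⟩ := sp_tilt h2 S hS x y hne' hnf
      have hsy0 : (s : Mn) *ᵥ y ≠ 0 := by
        intro h0
        apply hfar
        rw [h0, bf_zero_right']
      refine ⟨mkP s, mkP_mem_fixP hs, smul_mk_eq s x x hx hx 1 (by rw [hsx, one_smul]), ?_⟩
      rw [smul_mk_eq s y _ hy hsy0 1 (by rw [one_smul]), farP_mk]
      exact hfar
    · rw [Set.ncard_univ]
      exact even_card_proj hq (even_of_skew h2 S hS)
  rw [eq_bot_iff]
  intro m hm
  rw [Subgroup.mem_bot]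
  apply FaithfulSMul.eq_of_smul_eq_smul (α := ℙ F Vn)
  intro y
  rw [one_smul]
  exact key m hm y (Set.mem_univ _)

theorem fix_points_sp (hn0 : 0 < n) (h2 : (2 : F) ≠ 0) (S : GLn)
    (hS : (S : Mn)ᵀ = -(S : Mn)) (h : GLn) (τ : RingAut F)
    (hρ : ∀ s : SLn, psiS S s = s → (cG h * fld τ : MulAut PSLn) (mkP s) = mkP s) :
    ∀ v : Vn, v ≠ 0 → ∃ a : F, Tsl τ h v = a • v := by
  intro v hv
  have hφ0 : (1 : F) • ((S : Mn) *ᵥ v) ≠ 0 := by
    rw [one_smul]
    exact mulVec_ne_zero_GL S hv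
  have h1 := hρ _ (psiS_rootS h2 S hS v 1)
  unfold rootS at h1
  rw [MulAut.mul_apply, fld_apply, liftAut_mkP, cG_apply, liftAut_mkP, fieldSL_tvS,
    conjSL_tvS] at h1
  have h3 := tv_eq_of_mkP_eq hn0 _ _ _ _ _ _ h1.symm
  obtain ⟨a, ha, h4, -⟩ := tv_eq_imp _ _ _ _ hv hφ0 h3
  exact ⟨a, h4⟩

/-- **the `2'`-core of the centraliser of a graph involution of symplectic type is trivial** -/
theorem psl_core_sp [Fintype F] (r : ℕ) [hr : Fact r.Prime] [CharP F r] (hr2 : r ≠ 2)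
    (hn : 3 ≤ n) (S : GLn) (hS : (S : Mn)ᵀ = -(S : Mn))
    (A : Subgroup (MulAut PSLn)) (hinn : ∀ k : PSLn, MulAut.conj k ∈ A) :
    Cfsg.pPrimeCore 2 ↥(A ⊓ Subgroup.centralizer {gB S}) = ⊥ := by
  have h2 : (2 : F) ≠ 0 := by
    intro h
    have h3 : ((2 : ℕ) : F) = 0 := by exact_mod_cast h
    rw [CharP.cast_eq_zero_iff F r 2] at h3
    exact hr2 ((Nat.prime_dvd_prime_iff_eq hr.out Nat.prime_two).mp h3)
  have hq : Odd (Fintype.card F) := by
    obtain ⟨k, -, hk⟩ := FiniteField.card F r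
    rw [hk]
    exact Odd.pow (hr.out.odd_of_ne_two hr2)
  rw [← liftAut_psiS]
  apply core_bot (by omega) (psiS S) 2 A hinn
  · rw [liftAut_psiS, orderOf_gB_eq_two_iff r hn, gB_sq_eq_one_iff (by omega)]
    refine ⟨-1, ?_⟩
    rw [hS, neg_smul, one_smul, neg_neg]
  · exact he1_sp h2 hq S hS
  · apply cent_of_aux r (by omega) (psiS S) (tI S)
    · rw [liftAut_psiS]
      unfold gB
      rw [gam_mul_cG]
    · intro g τ hfix
      obtain ⟨hτ, c, hc⟩ := semilinear_all hn g τ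
        (fix_points_sp (by omega) h2 S hS g τ hfix)
      rw [hτ, map_one, mul_one]
      exact cG_eq_one_of_smul (by omega) g c hc

end Cfsg.Agent.Lib.Helper6.Lbg
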