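import Mathlib
import Cfsg.Prelude
import Cfsg.Agent.Lib.Helper6.LbgF
import Cfsg.Agent.Lib.Helper5.OInSLMax

set_option autoImplicit false
set_option linter.unusedSectionVars false
set_option linter.unusedVariables false
set_option linter.unusedSimpArgs false
open Cfsg

/-! Local balance for `PSL_n`: the graph involutions of orthogonal type, geometry. -/

namespace Cfsg.Agent.Lib.Helper6.Lbg

open Matrix QuadraticMap Module Cfsg.Agent.Lib.Helper9.APSL Cfsg.Agent.Lib.Helper9.ALB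
  Cfsg.Agent.Lib.Helper5.PslGraph Cfsg.Agent.Lib.Helper5.QuadGeomOdd
  Cfsg.Agent.Lib.Helper5.OInSLMax Cfsg.Agent.Lib.Helper5.OrthBridge
open scoped LinearAlgebra.Projectivization

variable {F : Type*} [Field F] {n : ℕ}

local notation "Mn" => Matrix (Fin n) (Fin n) F
local notation "SLn" => Matrix.SpecialLinearGroup (Fin n) F
local notation "PSLn" => Matrix.ProjectiveSpecialLinearGroup (Fin n) F
local notation "Vn" => (Fin n → F)
local notation "GLn" => GL (Fin n) F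

/-- the quadratic function of a matrix -/
def qf (S : Mn) : Vn → F := fun v => bf S v v

theorem qf_apply (S : Mn) (v : Vn) : qf S v = bf S v v := rfl

theorem polar_qf (S : Mn) (hS : Sᵀ = S) (u v : Vn) : polar (qf S) u v = 2 * bf S u v := by
  unfold polar qf
  rw [bf_polarize S hS]
  ring

theorem isNondeg_qf (h2 : (2 : F) ≠ 0) (S : GLn) (hS : (S : Mn)ᵀ = (S : Mn)) :
    Cfsg.Geo.IsNondegenerateQuadraticForm (qf (S : Mn)) where
  smul c v := by
    rw [qf_apply, qf_apply, bf_smul_left, bf_smul_right]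
    ring
  polar_bilinear :=
    ⟨fun x y v => by
      rw [polar_qf _ hS, polar_qf _ hS, polar_qf _ hS, bf_add_left]; ring,
    fun c x v => by rw [polar_qf _ hS, polar_qf _ hS, bf_smul_left]; ring,
    fun v x y => by
      rw [polar_qf _ hS, polar_qf _ hS, polar_qf _ hS, bf_add_right]; ring,
    fun c v x => by rw [polar_qf _ hS, polar_qf _ hS, bf_smul_right]; ring⟩
  nondegenerate := by
    intro v hv
    have h1 : ∃ x, bf (S : Mn) v x ≠ 0 := by
      by_contra hno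
      push Not at hno
      exact hv (bf_left_nondeg' S v hno)
    obtain ⟨x, hx⟩ := h1
    refine ⟨⟨x, ?_⟩, ⟨x, ?_⟩⟩
    · rw [polar_qf _ hS, bf_symm _ hS]
      exact mul_ne_zero h2 hx
    · rw [polar_qf _ hS]
      exact mul_ne_zero h2 hx

/-! ### Siegel elements -/

/-- the Siegel element `x ↦ x + B(x,e) s - (B(x,s) + Q(s) B(x,e)) e` in `SL` -/
noncomputable def sgS [Fintype F] (h2 : (2 : F) ≠ 0) (S : GLn) (hS : (S : Mn)ᵀ = (S : Mn))
    (e s : Vn) (he : bf (S : Mn) e e = 0) (hes : bf (S : Mn) e s = 0) : SLn :=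
  ⟨sgMat (qf (S : Mn)) e s, det_sgMat (isNondeg_qf h2 S hS) e s he
    (by rw [polar_qf _ hS, hes, mul_zero])⟩

theorem sgS_mulVec [Fintype F] (h2 : (2 : F) ≠ 0) (S : GLn) (hS : (S : Mn)ᵀ = (S : Mn))
    (e s : Vn) (he : bf (S : Mn) e e = 0) (hes : bf (S : Mn) e s = 0) (x : Vn) :
    (sgS h2 S hS e s he hes : Mn) *ᵥ x =
      x + (2 * bf (S : Mn) x e) • s -
        (2 * bf (S : Mn) x s + bf (S : Mn) s s * (2 * bf (S : Mn) x e)) • e := by
  have := sgMat_mulVec (isNondeg_qf h2 S hS) e s he (by rw [polar_qf _ hS, hes, mul_zero]) x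
  rw [polar_qf _ hS, polar_qf _ hS] at this
  exact this

theorem psiS_sgS [Fintype F] (h2 : (2 : F) ≠ 0) (S : GLn) (hS : (S : Mn)ᵀ = (S : Mn))
    (e s : Vn) (he : bf (S : Mn) e e = 0) (hes : bf (S : Mn) e s = 0) :
    psiS S (sgS h2 S hS e s he hes) = sgS h2 S hS e s he hes := by
  rw [psiS_fix_iff_bf]
  intro u v
  have := sg_polar (isNondeg_qf h2 S hS) e s he (by rw [polar_qf _ hS, hes, mul_zero]) u v
  rw [polar_qf _ hS, polar_qf _ hS] at this
  exact mul_left_cancel₀ h2 this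

/-! ### existence of vectors -/

theorem o_exists_sing [Fintype F] (h2 : (2 : F) ≠ 0) (S : GLn) (hS : (S : Mn)ᵀ = (S : Mn))
    (hn : 3 ≤ n) : ∃ e : Vn, e ≠ 0 ∧ bf (S : Mn) e e = 0 := by
  obtain ⟨e, he0, he, -⟩ := exists_singular_perp (isNondeg_qf h2 S hS) 0 (fun i => i.elim0)
    (by omega)
  exact ⟨e, he0, he⟩

theorem o_exists_partner [Fintype F] (h2 : (2 : F) ≠ 0) (S : GLn)
    (hS : (S : Mn)ᵀ = (S : Mn)) (e : Vn) (he0 : e ≠ 0) (he : bf (S : Mn) e e = 0) :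
    ∃ f : Vn, bf (S : Mn) f f = 0 ∧ 2 * bf (S : Mn) e f = 1 := by
  have hQ := isNondeg_qf h2 S hS
  obtain ⟨x, hx⟩ := exists_pair hQ e he0
  have h1 := Q_make_singular hQ x e he hx
  obtain ⟨f₀, hf₀⟩ : ∃ f₀, f₀ = x + (-(qf (S : Mn) x) / polar (qf (S : Mn)) x e) • e :=
    ⟨_, rfl⟩
  rw [← hf₀] at h1
  have h3 : bf (S : Mn) e f₀ = bf (S : Mn) e x := by
    rw [hf₀, bf_add_right, bf_smul_right, he, mul_zero, add_zero]
  have hx' : bf (S : Mn) e x ≠ 0 := by
    rw [polar_qf _ hS, bf_symm _ hS] at hx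
    exact fun h => hx (by rw [h, mul_zero])
  refine ⟨(2 * bf (S : Mn) e x)⁻¹ • f₀, ?_, ?_⟩
  · rw [bf_smul_left, bf_smul_right]
    have : bf (S : Mn) f₀ f₀ = 0 := h1
    rw [this, mul_zero, mul_zero]
  · rw [bf_smul_right, h3]
    field_simp

theorem o_exists_aniso1 [Fintype F] (h2 : (2 : F) ≠ 0) (S : GLn) (hS : (S : Mn)ᵀ = (S : Mn))
    (hn : 3 ≤ n) (u : Vn) : ∃ z : Vn, bf (S : Mn) u z = 0 ∧ bf (S : Mn) z z ≠ 0 := by
  have hQ := isNondeg_qf h2 S hS
  obtain ⟨d, hd, hd1⟩ := exists_aniso_perp hQ 1 ![u] (by omega)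
  have h1 := hd1 0
  simp only [Matrix.cons_val_zero] at h1
  rw [polar_qf _ hS] at h1
  refine ⟨d, ?_, hd⟩
  rw [bf_symm _ hS]
  exact (mul_eq_zero.mp h1).resolve_left h2

theorem o_exists_aniso [Fintype F] (h2 : (2 : F) ≠ 0) (S : GLn) (hS : (S : Mn)ᵀ = (S : Mn))
    (hn : 3 ≤ n) (e f : Vn) (he : bf (S : Mn) e e = 0) (hef : 2 * bf (S : Mn) e f = 1) :
    ∃ w : Vn, bf (S : Mn) e w = 0 ∧ bf (S : Mn) f w = 0 ∧ bf (S : Mn) w w ≠ 0 := by
  obtain ⟨w₀, hw₀e, hw₀⟩ := o_exists_aniso1 h2 S hS hn e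
  refine ⟨w₀ - (2 * bf (S : Mn) f w₀) • e, ?_, ?_, ?_⟩
  · rw [bf_sub_right', bf_smul_right, he, hw₀e]
    ring
  · rw [bf_sub_right', bf_smul_right, bf_symm _ hS f e]
    linear_combination (-(bf (S : Mn) f w₀)) * hef
  · simp only [bf_sub_left', bf_sub_right', bf_smul_left, bf_smul_right]
    rw [he, bf_symm _ hS w₀ e, hw₀e]
    convert hw₀ using 1
    ring

/-! ### the moves -/

theorem o_move [Fintype F] (h2 : (2 : F) ≠ 0) (S : GLn) (hS : (S : Mn)ᵀ = (S : Mn))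
    (x y z : Vn) (hx : bf (S : Mn) x x = 0) (hy : bf (S : Mn) y y = 0)
    (hz : bf (S : Mn) z z = 0) (hxy : bf (S : Mn) x y ≠ 0) (hxz : bf (S : Mn) x z ≠ 0) :
    ∃ s : SLn, psiS S s = s ∧ (s : Mn) *ᵥ x = x ∧ ∃ b : F, (s : Mn) *ᵥ y = b • z := by
  obtain ⟨b, hb⟩ : ∃ b : F, b = bf (S : Mn) x y / bf (S : Mn) x z := ⟨_, rfl⟩
  obtain ⟨β, hβ⟩ : ∃ β : F, β = 2 * bf (S : Mn) y x := ⟨_, rfl⟩
  have hβ0 : β ≠ 0 := by
    rw [hβ, bf_symm _ hS]
    exact mul_ne_zero h2 hxy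
  obtain ⟨w, hw⟩ : ∃ w : Vn, w = β⁻¹ • (b • z - y) := ⟨_, rfl⟩
  have hxw : bf (S : Mn) x w = 0 := by
    rw [hw, bf_smul_right, bf_sub_right', bf_smul_right, hb, div_mul_cancel₀ _ hxz, sub_self,
      mul_zero]
  refine ⟨sgS h2 S hS x w hx hxw, psiS_sgS h2 S hS x w hx hxw, ?_, b, ?_⟩
  · rw [sgS_mulVec, hx, hxw]
    simp
  · rw [sgS_mulVec]
    have hcx : 2 * bf (S : Mn) y w + bf (S : Mn) w w * (2 * bf (S : Mn) y x) = 0 := by
      rw [← hβ, hw]
      simp only [bf_smul_left, bf_smul_right, bf_sub_left', bf_sub_right']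
      rw [bf_symm _ hS z y, hy, hz]
      field_simp
      ring
    rw [hcx, zero_smul, sub_zero, ← hβ, hw, smul_smul, mul_inv_cancel₀ hβ0, one_smul]
    abel

theorem o_cross [Fintype F] (h2 : (2 : F) ≠ 0) (S : GLn) (hS : (S : Mn)ᵀ = (S : Mn))
    (x z : Vn) (hx0 : x ≠ 0) (hz0 : z ≠ 0) (hx : bf (S : Mn) x x = 0)
    (hxz : bf (S : Mn) x z = 0) :
    ∃ w : Vn, w ≠ 0 ∧ bf (S : Mn) w w = 0 ∧ bf (S : Mn) x w ≠ 0 ∧ bf (S : Mn) z w ≠ 0 := by
  have hQ := isNondeg_qf h2 S hS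
  obtain ⟨w, hw, hwx, hwz⟩ := exists_singular_cross hQ x z hx0 hz0 hx
    (by rw [polar_qf _ hS, hxz, mul_zero])
  rw [polar_qf _ hS] at hwx hwz
  have hwx' : bf (S : Mn) w x ≠ 0 := fun h => hwx (by rw [h, mul_zero])
  have hwz' : bf (S : Mn) w z ≠ 0 := fun h => hwz (by rw [h, mul_zero])
  refine ⟨w, ?_, hw, by rw [bf_symm _ hS]; exact hwx', by rw [bf_symm _ hS]; exact hwz'⟩
  intro h0
  apply hwx'
  rw [h0, bf_zero_left']

theorem o_tilt [Fintype F] (h2 : (2 : F) ≠ 0) (S : GLn) (hS : (S : Mn)ᵀ = (S : Mn))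
    (hn : 5 ≤ n) (x y : Vn) (hx0 : x ≠ 0) (hne : ¬ ∃ a : F, y = a • x)
    (hy : bf (S : Mn) y y = 0) (hxy : bf (S : Mn) x y = 0) :
    ∃ s : SLn, psiS S s = s ∧ (s : Mn) *ᵥ x = x ∧ bf (S : Mn) y ((s : Mn) *ᵥ y) ≠ 0 := by
  have hQ := isNondeg_qf h2 S hS
  obtain ⟨p, hp, hxp, hpy⟩ := exists_singular_perp_not_perp hQ hn x y hx0 hne
  obtain ⟨z, hz, hz1⟩ := exists_aniso_perp hQ 2 ![p, x] (by omega)
  have hzp := hz1 0
  have hzx := hz1 1
  simp only [Matrix.cons_val_zero, Matrix.cons_val_one, Matrix.head_cons] at hzp hzx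
  rw [polar_qf _ hS] at hxp hpy hzp hzx
  have hxp' : bf (S : Mn) x p = 0 := (mul_eq_zero.mp hxp).resolve_left h2
  have hpy' : bf (S : Mn) p y ≠ 0 := fun h => hpy (by rw [h, mul_zero])
  have hzp' : bf (S : Mn) z p = 0 := (mul_eq_zero.mp hzp).resolve_left h2
  have hzx' : bf (S : Mn) z x = 0 := (mul_eq_zero.mp hzx).resolve_left h2
  have hpz : bf (S : Mn) p z = 0 := by rw [bf_symm _ hS]; exact hzp'
  have hz' : bf (S : Mn) z z ≠ 0 := hz
  have hp' : bf (S : Mn) p p = 0 := hp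
  refine ⟨sgS h2 S hS p z hp' hpz, psiS_sgS h2 S hS p z hp' hpz, ?_, ?_⟩
  · rw [sgS_mulVec, hxp', bf_symm _ hS x z, hzx']
    simp
  · rw [sgS_mulVec]
    simp only [bf_add_right, bf_sub_right', bf_smul_right]
    rw [hy, bf_symm _ hS y p]
    intro h0
    have h1 : 2 * bf (S : Mn) z z * (bf (S : Mn) p y * bf (S : Mn) p y) = 0 := by
      linear_combination (-1 : F) * h0
    exact (mul_ne_zero (mul_ne_zero h2 hz') (mul_ne_zero hpy' hpy')) h1

/-! ### totally singular lines in small dimension -/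

theorem o_dim [Fintype F] (h2 : (2 : F) ≠ 0) (S : GLn) (hS : (S : Mn)ᵀ = (S : Mn))
    (x y : Vn) (hx0 : x ≠ 0) (hne : ¬ ∃ a : F, y = a • x)
    (hx : bf (S : Mn) x x = 0) (hy : bf (S : Mn) y y = 0) (hxy : bf (S : Mn) x y = 0) :
    4 ≤ n ∧ (n = 4 → ∀ v : Vn, bf (S : Mn) x v = 0 → bf (S : Mn) y v = 0 →
      ∃ α β : F, v = α • x + β • y) := by
  have hQ := isNondeg_qf h2 S hS
  have hnd := toQF_nondegenerate (qf (S : Mn)) hQ
  obtain ⟨Bf, hBf⟩ : ∃ Bf : LinearMap.BilinForm F Vn,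
      Bf = QuadraticMap.polarBilin (toQF (qf (S : Mn)) hQ) := ⟨_, rfl⟩
  rw [← hBf] at hnd
  have hBapp : ∀ u v : Vn, Bf u v = 2 * bf (S : Mn) u v := by
    intro u v
    rw [hBf, QuadraticMap.polarBilin_apply_apply]
    exact polar_qf _ hS u v
  have hli : LinearIndependent F ![x, y] := by
    rw [LinearIndependent.pair_iff' hx0]
    intro a ha
    exact hne ⟨a, ha.symm⟩
  obtain ⟨W, hW⟩ : ∃ W : Submodule F Vn, W = Submodule.span F (Set.range ![x, y]) := ⟨_, rfl⟩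
  have hWdim : finrank F W = 2 := by
    rw [hW, finrank_span_eq_card hli, Fintype.card_fin]
  have hWmem : ∀ v : Vn, v ∈ W ↔ ∃ α β : F, v = α • x + β • y := by
    intro v
    rw [hW, Submodule.mem_span_range_iff_exists_fun]
    constructor
    · rintro ⟨c, hc⟩
      refine ⟨c 0, c 1, ?_⟩
      rw [← hc, Fin.sum_univ_two]
      rfl
    · rintro ⟨α, β, rfl⟩
      refine ⟨![α, β], ?_⟩
      rw [Fin.sum_univ_two]
      rfl
  have hle : W ≤ Bf.orthogonal W := by
    intro v hv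
    rw [LinearMap.BilinForm.mem_orthogonal_iff]
    intro t ht
    obtain ⟨α, β, rfl⟩ := (hWmem v).mp hv
    obtain ⟨α', β', rfl⟩ := (hWmem t).mp ht
    rw [hBapp]
    simp only [bf_add_left, bf_add_right, bf_smul_left, bf_smul_right]
    rw [bf_symm _ hS y x, hx, hy, hxy]
    ring
  have h5 := LinearMap.BilinForm.finrank_orthogonal hnd W
  rw [finrank_eq hQ] at h5
  have h1 := Submodule.finrank_mono hle
  refine ⟨by omega, ?_⟩
  intro hn4 v hxv hyv
  have hEq : W = Bf.orthogonal W := Submodule.eq_of_le_of_finrank_le hle (by omega)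
  rw [← hWmem, hEq, LinearMap.BilinForm.mem_orthogonal_iff]
  intro t ht
  obtain ⟨α', β', rfl⟩ := (hWmem t).mp ht
  rw [hBapp]
  simp only [bf_add_left, bf_smul_left]
  rw [hxv, hyv]
  ring

theorem o_line [Fintype F] (h2 : (2 : F) ≠ 0) (S : GLn) (hS : (S : Mn)ᵀ = (S : Mn))
    (hq : Odd (Fintype.card F)) (x y : Vn) (hx0 : x ≠ 0) (hy0 : y ≠ 0)
    (hne : ¬ ∃ a : F, y = a • x)
    (hx : bf (S : Mn) x x = 0) (hy : bf (S : Mn) y y = 0) (hxy : bf (S : Mn) x y = 0)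
    (hspan : ∀ v : Vn, bf (S : Mn) x v = 0 → bf (S : Mn) y v = 0 →
      ∃ α β : F, v = α • x + β • y) :
    ∃ L : Set (ℙ F Vn), Even L.ncard ∧ Projectivization.mk F x hx0 ∈ L ∧
      (∀ (v : Vn) (hv : v ≠ 0), bf (S : Mn) x v = 0 → bf (S : Mn) y v = 0 →
        Projectivization.mk F v hv ∈ L) ∧
      (∀ z ∈ L, z ≠ Projectivization.mk F x hx0 → ∃ s : SLn, psiS S s = s ∧
        (s : Mn) *ᵥ x = x ∧ mkP s • Projectivization.mk F y hy0 = z) := by
  have hQ := isNondeg_qf h2 S hS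
  have hnz : ∀ c : F, y + c • x ≠ 0 := by
    intro c h0
    apply hne
    exact ⟨-c, by rw [neg_smul]; exact eq_neg_of_add_eq_zero_left h0⟩
  have indep : ∀ α β : F, α • y + β • x = 0 → α = 0 ∧ β = 0 := by
    intro α β h
    have hα : α = 0 := by
      by_contra hα
      apply hne
      refine ⟨-(α⁻¹ * β), ?_⟩
      have h1 : α • y = -(β • x) := eq_neg_of_add_eq_zero_left h
      calc y = α⁻¹ • (α • y) := by rw [smul_smul, inv_mul_cancel₀ hα, one_smul]
        _ = -(α⁻¹ * β) • x := by rw [h1, smul_neg, smul_smul, neg_smul]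
    refine ⟨hα, ?_⟩
    rw [hα, zero_smul, zero_add] at h
    exact (smul_eq_zero.mp h).resolve_right hx0
  obtain ⟨g, hg⟩ : ∃ g : F → ℙ F Vn, g = fun c => Projectivization.mk F (y + c • x) (hnz c) :=
    ⟨_, rfl⟩
  have hginj : Function.Injective g := by
    intro c c' hcc
    rw [hg] at hcc
    simp only at hcc
    rw [Projectivization.mk_eq_mk_iff'] at hcc
    obtain ⟨a, ha⟩ := hcc
    have h1 : (a - 1) • y + (a * c' - c) • x = 0 := by
      have h3 : a • y + (a * c') • x = y + c • x := by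
        rw [← ha, smul_add, smul_smul]
      rw [sub_smul, sub_smul, one_smul]
      have h4 : a • y + (a * c') • x - (y + c • x) = 0 := sub_eq_zero.mpr h3
      rw [← h4]
      abel
    obtain ⟨e1, e2⟩ := indep _ _ h1
    have ha1 : a = 1 := sub_eq_zero.mp e1
    rw [ha1, one_mul] at e2
    exact (sub_eq_zero.mp e2).symm
  have hnot : Projectivization.mk F x hx0 ∉ Set.range g := by
    rintro ⟨c, hc⟩
    rw [hg] at hc
    simp only at hc
    rw [Projectivization.mk_eq_mk_iff'] at hc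
    obtain ⟨a, ha⟩ := hc
    have h1 : (1 : F) • y + (c - a) • x = 0 := by
      rw [one_smul, sub_smul, ha]
      abel
    exact one_ne_zero (indep _ _ h1).1
  refine ⟨insert (Projectivization.mk F x hx0) (Set.range g), ?_, Set.mem_insert _ _, ?_, ?_⟩
  · rw [Set.ncard_insert_of_notMem hnot (Set.finite_range g),
      Set.ncard_range_of_injective hginj, Nat.card_eq_fintype_card]
    exact Odd.add_one hq
  · intro v hv hxv hyv
    obtain ⟨α, β, hαβ⟩ := hspan v hxv hyv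
    by_cases hβ : β = 0
    · have : Projectivization.mk F v hv = Projectivization.mk F x hx0 := by
        rw [Projectivization.mk_eq_mk_iff']
        exact ⟨α, by rw [hαβ, hβ, zero_smul, add_zero]⟩
      rw [this]
      exact Set.mem_insert _ _
    · apply Set.mem_insert_of_mem
      refine ⟨α / β, ?_⟩
      rw [hg]
      simp only
      rw [Projectivization.mk_eq_mk_iff']
      refine ⟨β⁻¹, ?_⟩
      rw [hαβ, smul_add, smul_smul, smul_smul, inv_mul_cancel₀ hβ, one_smul, add_comm,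
        div_eq_inv_mul]
  · intro z hz hzx
    rcases hz with hz | ⟨c, rfl⟩
    · exact absurd hz hzx
    obtain ⟨w₀, hw₀x, hw₀y⟩ : ∃ w₀ : Vn, bf (S : Mn) w₀ x = 0 ∧ bf (S : Mn) w₀ y ≠ 0 := by
      by_contra hno
      push Not at hno
      apply hne
      apply exists_smul_of_ker hQ x y
      intro y' hy'
      rw [polar_qf _ hS] at hy' ⊢
      rw [hno y' ((mul_eq_zero.mp hy').resolve_left h2), mul_zero]
    obtain ⟨w, hw⟩ : ∃ w : Vn, w = (-c / (2 * bf (S : Mn) w₀ y)) • w₀ := ⟨_, rfl⟩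
    have hxw : bf (S : Mn) x w = 0 := by
      rw [hw, bf_smul_right, bf_symm _ hS x w₀, hw₀x, mul_zero]
    have hyw : 2 * bf (S : Mn) y w = -c := by
      rw [hw, bf_smul_right, bf_symm _ hS y w₀]
      field_simp
    refine ⟨sgS h2 S hS x w hx hxw, psiS_sgS h2 S hS x w hx hxw, ?_, ?_⟩
    · rw [sgS_mulVec, hx, hxw]
      simp
    · rw [hg]
      simp only
      apply smul_mk_eq _ _ _ hy0 (hnz c) 1
      rw [sgS_mulVec, bf_symm _ hS y x, hxy, hyw, one_smul]
      simp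

/-! ### parity of the number of singular points -/

theorem bf_diagonal (w : Fin n → F) (u v : Vn) :
    bf (Matrix.diagonal w) u v = ∑ i, w i * u i * v i := by
  unfold bf
  rw [dotProduct]
  apply Finset.sum_congr rfl
  intro i _
  rw [mulVec_diagonal]
  ring

theorem o_parity [Finite F] (h2 : (2 : F) ≠ 0) (S : GLn) (w : Fin n → F)
    (hdiag : (S : Mn) = Matrix.diagonal w) :
    Even {p : ℙ F Vn | singP (S : Mn) p}.ncard := by
  apply even_ncard_of_sign_invariant h2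
  · intro d p hp
    obtain ⟨v, hv, rfl⟩ := exists_mk p
    rw [Set.mem_ofPred_eq, singP_mk, hdiag, bf_diagonal] at hp
    rw [sign_smul_mk, Set.mem_ofPred_eq, singP_mk, hdiag, bf_diagonal, ← hp]
    apply Finset.sum_congr rfl
    intro i _
    rw [sign_smul_apply]
    have : ((d i : ℤ) : F) * ((d i : ℤ) : F) = 1 := by
      rcases Int.units_eq_one_or (d i) with h | h <;> simp [h]
    linear_combination (w i * v i * v i) * this
  · intro i hi hmem
    rw [Set.mem_ofPred_eq, singP_mk, bf_single] at hmem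
    have hdet : (S : Mn).det ≠ 0 :=
      ((Matrix.isUnit_iff_isUnit_det _).mp (Units.isUnit S)).ne_zero
    rw [hdiag, det_diagonal] at hdet
    have h1 := Finset.prod_ne_zero_iff.mp hdet i (Finset.mem_univ i)
    apply h1
    rw [hdiag, diagonal_apply_eq] at hmem
    exact hmem

end Cfsg.Agent.Lib.Helper6.Lbg
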