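import Mathlib
import Cfsg.Prelude
import Cfsg.Agent.Lib.Helper6.LbgG
import Cfsg.Agent.Lib.Helper5.PslGraph.GraphClass

set_option autoImplicit false
set_option linter.unusedSectionVars false
set_option linter.unusedVariables false
set_option linter.unusedSimpArgs false
open Cfsg

/-! Local balance for `PSL_n`: the graph involutions of orthogonal type. -/

namespace Cfsg.Agent.Lib.Helper6.Lbg

open Matrix QuadraticMap Module Cfsg.Agent.Lib.Helper9.APSL Cfsg.Agent.Lib.Helper9.ALB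
  Cfsg.Agent.Lib.Helper5.PslGraph Cfsg.Agent.Lib.Helper5.QuadGeomOdd
  Cfsg.Agent.Lib.Helper5.OInSLMax Cfsg.Agent.Lib.Helper5.OrthBridge
open scoped LinearAlgebra.Projectivization

variable {F : Type*} [Field F] {n : ℕ}

local notation "Mn" => Matrix (Fin n) (Fin n) F
local notation "SLn" => Matrix.SpecialLinearGroup (Fin n) F
local notation "PSLn" => Matrix.ProjectiveSpecialLinearGroup (Fin n) F
local notation "Vn" => (Fin n → F)
local notation "GLn" => GL (Fin n) F

theorem mulVec_ne_zero_SL (s : SLn) {v : Vn} (hv : v ≠ 0) : (s : Mn) *ᵥ v ≠ 0 := by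
  intro h0
  apply hv
  have := congrArg (fun x => ((s⁻¹ : SLn) : Mn) *ᵥ x) h0
  simp only [mulVec_mulVec, mulVec_zero] at this
  rw [← Matrix.SpecialLinearGroup.coe_mul, inv_mul_cancel, Matrix.SpecialLinearGroup.coe_one,
    one_mulVec] at this
  exact this

theorem Tsl_ne_zero (τ : RingAut F) (h : GLn) {v : Vn} (hv : v ≠ 0) : Tsl τ h v ≠ 0 :=
  mulVec_ne_zero_GL h (sv_ne_zero τ hv)

/-! ### semilinear maps fixing the singular points -/

/-- the pair lemma: on a hyperbolic pair the eigenvalues agree and the field automorphism is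
trivial -/
theorem o_pair [Fintype F] (h2 : (2 : F) ≠ 0) (S : GLn) (hS : (S : Mn)ᵀ = (S : Mn))
    (hn : 3 ≤ n) (h : GLn) (τ : RingAut F)
    (hfix : ∀ v : Vn, v ≠ 0 → bf (S : Mn) v v = 0 → ∃ a : F, Tsl τ h v = a • v)
    (e f : Vn) (he : bf (S : Mn) e e = 0) (hf : bf (S : Mn) f f = 0)
    (hef : 2 * bf (S : Mn) e f = 1) (a b : F) (ha : Tsl τ h e = a • e)
    (hb : Tsl τ h f = b • f) : τ = 1 ∧ b = a := by
  obtain ⟨w, hew, hfw, hd⟩ := o_exists_aniso h2 S hS hn e f he hef
  obtain ⟨d, hdd⟩ : ∃ d : F, d = bf (S : Mn) w w := ⟨_, rfl⟩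
  rw [← hdd] at hd
  have hwe : bf (S : Mn) w e = 0 := by rw [bf_symm _ hS]; exact hew
  have hwf : bf (S : Mn) w f = 0 := by rw [bf_symm _ hS]; exact hfw
  have hfe : bf (S : Mn) f e = bf (S : Mn) e f := bf_symm _ hS f e
  have hef0 : bf (S : Mn) e f ≠ 0 := by
    intro h0
    rw [h0, mul_zero] at hef
    exact zero_ne_one hef
  have he0 : e ≠ 0 := by
    intro h0
    apply hef0
    rw [h0, bf_zero_left']
  have ha0 : a ≠ 0 := by
    intro h0
    apply Tsl_ne_zero τ h he0
    rw [ha, h0, zero_smul]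
  obtain ⟨y, hy⟩ : ∃ y : Vn, y = Tsl τ h w := ⟨_, rfl⟩
  have hs_sing : ∀ c : F, bf (S : Mn) (e + (-(c * c * d)) • f + c • w)
      (e + (-(c * c * d)) • f + c • w) = 0 := by
    intro c
    simp only [bf_add_left, bf_add_right, bf_smul_left, bf_smul_right]
    rw [he, hf, hew, hwe, hfw, hwf, hfe, ← hdd]
    linear_combination (-(c * c * d)) * hef
  have hs_ne : ∀ c : F, e + (-(c * c * d)) • f + c • w ≠ 0 := by
    intro c h0
    have h1 : bf (S : Mn) (e + (-(c * c * d)) • f + c • w) f = 0 := by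
      rw [h0, bf_zero_left']
    simp only [bf_add_left, bf_smul_left] at h1
    rw [hf, hwf] at h1
    apply hef0
    linear_combination h1
  have hL : ∀ c : F, Tsl τ h (e + (-(c * c * d)) • f + c • w) =
      a • e + (τ (-(c * c * d)) * b) • f + τ c • y := by
    intro c
    rw [Tsl_add, Tsl_add, Tsl_smul, Tsl_smul, ha, hb, smul_smul, hy]
  have key : ∀ c : F, ∃ lam : F,
      a * bf (S : Mn) e f + τ c * bf (S : Mn) y f = lam * bf (S : Mn) e f ∧
      τ c * bf (S : Mn) y w = lam * (c * d) ∧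
      (τ (-(c * c * d)) * b) * bf (S : Mn) e f + τ c * bf (S : Mn) y e =
        lam * ((-(c * c * d)) * bf (S : Mn) e f) := by
    intro c
    obtain ⟨lam, hlam⟩ := hfix _ (hs_ne c) (hs_sing c)
    rw [hL c] at hlam
    refine ⟨lam, ?_, ?_, ?_⟩
    · have h1 := congrArg (fun v => bf (S : Mn) v f) hlam
      simp only [bf_add_left, bf_smul_left] at h1
      rw [hf, hwf] at h1
      linear_combination h1
    · have h1 := congrArg (fun v => bf (S : Mn) v w) hlam
      simp only [bf_add_left, bf_smul_left] at h1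
      rw [hew, hfw, ← hdd] at h1
      linear_combination h1
    · have h1 := congrArg (fun v => bf (S : Mn) v e) hlam
      simp only [bf_add_left, bf_smul_left] at h1
      rw [he, hwe, hfe] at h1
      linear_combination h1
  obtain ⟨l1, p1, p2, p3⟩ := key 1
  obtain ⟨l2, q1, q2, q3⟩ := key (-1)
  simp only [map_neg, map_one, map_mul, one_mul, mul_one, neg_mul, mul_neg, neg_neg]
    at p1 p2 p3 q1 q2 q3
  have e1 : l1 = l2 := by
    have : (l1 - l2) * d = 0 := by linear_combination (-1 : F) * p2 - q2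
    rcases mul_eq_zero.mp this with h | h
    · exact sub_eq_zero.mp h
    · exact absurd h hd
  have e2 : l1 = a := by
    have : 2 * ((a - l1) * bf (S : Mn) e f) = 0 := by
      rw [← e1] at q1
      linear_combination p1 + q1
    rcases mul_eq_zero.mp ((mul_eq_zero.mp this).resolve_left h2) with h | h
    · exact (sub_eq_zero.mp h).symm
    · exact absurd h hef0
  have hyf : bf (S : Mn) y f = 0 := by
    rw [e2] at p1
    linear_combination p1
  have hyw : bf (S : Mn) y w = a * d := by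
    rw [e2] at p2
    linear_combination p2
  have hall : ∀ c : F, τ c = c := by
    intro c
    obtain ⟨lam, r1, r2, -⟩ := key c
    rw [hyf, mul_zero, add_zero] at r1
    have hlam : lam = a := (mul_right_cancel₀ hef0 r1).symm
    rw [hyw, hlam] at r2
    have : (τ c - c) * (a * d) = 0 := by linear_combination r2
    rcases mul_eq_zero.mp this with h | h
    · exact sub_eq_zero.mp h
    · exact absurd h (mul_ne_zero ha0 hd)
  have hye : bf (S : Mn) y e = 0 := by
    rw [← e1] at q3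
    have : 2 * bf (S : Mn) y e = 0 := by linear_combination p3 - q3
    exact (mul_eq_zero.mp this).resolve_left h2
  refine ⟨RingEquiv.ext hall, ?_⟩
  rw [e2, hye, hall d] at p3
  have : (b - a) * (d * bf (S : Mn) e f) = 0 := by linear_combination (-1 : F) * p3
  rcases mul_eq_zero.mp this with h | h
  · exact sub_eq_zero.mp h
  · exact absurd h (mul_ne_zero hd hef0)

theorem semilinear_O [Fintype F] (h2 : (2 : F) ≠ 0) (S : GLn) (hS : (S : Mn)ᵀ = (S : Mn))
    (hn : 3 ≤ n) (h : GLn) (τ : RingAut F)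
    (hfix : ∀ v : Vn, v ≠ 0 → bf (S : Mn) v v = 0 → ∃ a : F, Tsl τ h v = a • v) :
    τ = 1 ∧ ∃ c : F, (h : Mn) = c • (1 : Mn) := by
  obtain ⟨e, he0, he⟩ := o_exists_sing h2 S hS hn
  obtain ⟨f, hf, hef⟩ := o_exists_partner h2 S hS e he0 he
  have hef0 : bf (S : Mn) e f ≠ 0 := by
    intro h0
    rw [h0, mul_zero] at hef
    exact zero_ne_one hef
  have hf0 : f ≠ 0 := by
    intro h0
    apply hef0
    rw [h0, bf_zero_right']
  obtain ⟨a, ha⟩ := hfix e he0 he
  obtain ⟨b, hb⟩ := hfix f hf0 hf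
  obtain ⟨hτ, hba⟩ := o_pair h2 S hS hn h τ hfix e f he hf hef a b ha hb
  subst hτ
  subst hba
  refine ⟨rfl, b, ?_⟩
  have hT : ∀ v : Vn, Tsl 1 h v = (h : Mn) *ᵥ v := fun v => rfl
  have hP : ∀ (u v : Vn), bf (S : Mn) u u = 0 → bf (S : Mn) v v = 0 → bf (S : Mn) u v ≠ 0 →
      ∀ a' b' : F, Tsl 1 h u = a' • u → Tsl 1 h v = b' • v → b' = a' := by
    intro u v hu hv huv a' b' hua hvb
    have hv' : Tsl 1 h ((2 * bf (S : Mn) u v)⁻¹ • v) = b' • ((2 * bf (S : Mn) u v)⁻¹ • v) := by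
      rw [Tsl_smul, hvb, smul_comm]
      rfl
    exact (o_pair h2 S hS hn h 1 hfix u ((2 * bf (S : Mn) u v)⁻¹ • v) hu
      (by rw [bf_smul_left, bf_smul_right, hv, mul_zero, mul_zero])
      (by rw [bf_smul_right]; field_simp) a' b' hua hv').2
  have hall : ∀ u : Vn, u ≠ 0 → bf (S : Mn) u u = 0 → Tsl 1 h u = b • u := by
    intro u hu0 hu
    obtain ⟨a', ha'⟩ := hfix u hu0 hu
    by_cases heu : bf (S : Mn) e u = 0
    · obtain ⟨w₁, hw₁0, hw₁, hew₁, huw₁⟩ := o_cross h2 S hS e u he0 hu0 he heu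
      obtain ⟨c₁, hc₁⟩ := hfix w₁ hw₁0 hw₁
      have h1 : c₁ = b := hP e w₁ he hw₁ hew₁ b c₁ ha hc₁
      have h3 : a' = c₁ := hP w₁ u hw₁ hu (by rw [bf_symm _ hS]; exact huw₁) c₁ a' hc₁ ha'
      rw [ha', h3, h1]
    · have h1 : a' = b := hP e u he hu heu b a' ha ha'
      rw [ha', h1]
  rw [Matrix.ext_iff_mulVec]
  intro x
  rw [smul_mulVec, one_mulVec]
  obtain ⟨α, hα⟩ : ∃ α : F, α = 2 * bf (S : Mn) x f := ⟨_, rfl⟩
  obtain ⟨β, hβ⟩ : ∃ β : F, β = 2 * bf (S : Mn) x e := ⟨_, rfl⟩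
  obtain ⟨x', hx'⟩ : ∃ x' : Vn, x' = x + (-α) • e + (-β) • f := ⟨_, rfl⟩
  have hfe : bf (S : Mn) f e = bf (S : Mn) e f := bf_symm _ hS f e
  have hx'e : bf (S : Mn) x' e = 0 := by
    rw [hx']
    simp only [bf_add_left, bf_smul_left]
    rw [he, hfe, hβ]
    linear_combination (-(bf (S : Mn) x e)) * hef
  have hx'f : bf (S : Mn) x' f = 0 := by
    rw [hx']
    simp only [bf_add_left, bf_smul_left]
    rw [hf, hα]
    linear_combination (-(bf (S : Mn) x f)) * hef
  have hex' : bf (S : Mn) e x' = 0 := by rw [bf_symm _ hS]; exact hx'e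
  have hfx' : bf (S : Mn) f x' = 0 := by rw [bf_symm _ hS]; exact hx'f
  have hLx' : (h : Mn) *ᵥ x' = b • x' := by
    by_cases hs : bf (S : Mn) x' x' = 0
    · by_cases hx0 : x' = 0
      · rw [hx0, mulVec_zero, smul_zero]
      · exact hall x' hx0 hs
    · obtain ⟨d, hd⟩ : ∃ d : F, d = bf (S : Mn) x' x' := ⟨_, rfl⟩
      have hsing : bf (S : Mn) (e + (-d) • f + x') (e + (-d) • f + x') = 0 := by
        simp only [bf_add_left, bf_add_right, bf_smul_left, bf_smul_right]
        rw [he, hf, hex', hx'e, hfx', hx'f, hfe, ← hd]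
        linear_combination (-d) * hef
      have hne : e + (-d) • f + x' ≠ 0 := by
        intro h0
        have h1 : bf (S : Mn) (e + (-d) • f + x') f = 0 := by rw [h0, bf_zero_left']
        simp only [bf_add_left, bf_smul_left] at h1
        rw [hf, hx'f] at h1
        apply hef0
        linear_combination h1
      have h1 := hall _ hne hsing
      rw [hT, mulVec_add, mulVec_add, mulVec_smul, ← hT e, ← hT f, ha, hb] at h1
      have h3 : (h : Mn) *ᵥ x' = b • (e + (-d) • f + x') - (b • e + (-d) • b • f) :=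
        eq_sub_of_add_eq' h1
      rw [h3]
      module
  have hx : x = x' + α • e + β • f := by
    rw [hx']
    module
  rw [hx, mulVec_add, mulVec_add, mulVec_smul, mulVec_smul, hLx', ← hT e, ← hT f, ha, hb]
  module

/-! ### the centraliser of the image of the special orthogonal group fixes singular points -/

theorem fix_sing_points_O [Fintype F] (h2 : (2 : F) ≠ 0) (S : GLn)
    (hS : (S : Mn)ᵀ = (S : Mn)) (hn : 3 ≤ n) (h : GLn) (τ : RingAut F)
    (hρ : ∀ s : SLn, psiS S s = s → (cG h * fld τ : MulAut PSLn) (mkP s) = mkP s) :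
    ∀ u : Vn, u ≠ 0 → bf (S : Mn) u u = 0 → ∃ a : F, Tsl τ h u = a • u := by
  intro u hu0 hu
  have hQ := isNondeg_qf h2 S hS
  obtain ⟨y, hy⟩ : ∃ y : Vn, y = Tsl τ h u := ⟨_, rfl⟩
  have hy0 : y ≠ 0 := by rw [hy]; exact Tsl_ne_zero τ h hu0
  have key : ∀ z : Vn, bf (S : Mn) u z = 0 → bf (S : Mn) z z ≠ 0 →
      (∃ a : F, y = a • u) ∨ (bf (S : Mn) y u = 0 ∧ bf (S : Mn) y z = 0) := by
    intro z huz hz
    have hzu : bf (S : Mn) z u = 0 := by rw [bf_symm _ hS]; exact huz
    have h1 := hρ _ (psiS_sgS h2 S hS u z hu huz)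
    rw [MulAut.mul_apply, fld_apply, liftAut_mkP, cG_apply, liftAut_mkP, mkP_eq_iff] at h1
    obtain ⟨r, -, hr⟩ := h1
    rw [conjSL_coe, fieldSL_coe] at hr
    have hEu : (sgS h2 S hS u z hu huz : Mn) *ᵥ u = u := by
      rw [sgS_mulVec, hu, huz]
      simp
    have hEy : (sgS h2 S hS u z hu huz : Mn) *ᵥ y = r • y := by
      have e1 : ((h : Mn) * (sgS h2 S hS u z hu huz : Mn).map τ * ((h⁻¹ : GLn) : Mn)) *ᵥ
          ((h : Mn) *ᵥ sv τ u) = (h : Mn) *ᵥ sv τ u := by
        rw [mulVec_mulVec, Matrix.mul_assoc, ← Units.val_mul, inv_mul_cancel, Units.val_one,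
          Matrix.mul_one, ← mulVec_mulVec, ← sv_mulVec, hEu]
      conv_lhs => rw [hr]
      rw [smul_mulVec, hy]
      unfold Tsl
      rw [e1]
    rw [sgS_mulVec] at hEy
    have claim1 : bf (S : Mn) y u = 0 := by
      by_contra hyu
      have h3 := congrArg (fun v => bf (S : Mn) v u) hEy
      simp only [bf_add_left, bf_sub_left', bf_smul_left] at h3
      rw [hzu, hu] at h3
      have hr1 : r = 1 := by
        have : (r - 1) * bf (S : Mn) y u = 0 := by linear_combination (-1 : F) * h3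
        rcases mul_eq_zero.mp this with h | h
        · exact sub_eq_zero.mp h
        · exact absurd h hyu
      have h4 := congrArg (fun v => bf (S : Mn) v z) hEy
      simp only [bf_add_left, bf_sub_left', bf_smul_left] at h4
      rw [huz, hr1] at h4
      have : 2 * (bf (S : Mn) y u * bf (S : Mn) z z) = 0 := by linear_combination h4
      rcases mul_eq_zero.mp ((mul_eq_zero.mp this).resolve_left h2) with h | h
      · exact hyu h
      · exact hz h
    by_cases hyz : bf (S : Mn) y z = 0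
    · exact Or.inr ⟨claim1, hyz⟩
    · left
      rw [claim1] at hEy
      have h3 : (1 - r) • y = (2 * bf (S : Mn) y z) • u := by
        rw [sub_smul, one_smul, ← hEy]
        module
      have hr1 : 1 - r ≠ 0 := by
        intro h0
        rw [h0, zero_smul] at h3
        rcases smul_eq_zero.mp h3.symm with h | h
        · exact hyz ((mul_eq_zero.mp h).resolve_left h2)
        · exact hu0 h
      refine ⟨(1 - r)⁻¹ * (2 * bf (S : Mn) y z), ?_⟩
      rw [← smul_smul, ← h3, smul_smul, inv_mul_cancel₀ hr1, one_smul]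
  by_cases hex : ∃ z : Vn, bf (S : Mn) u z = 0 ∧ bf (S : Mn) z z ≠ 0 ∧ ∃ a : F, y = a • u
  · obtain ⟨z, -, -, a, ha⟩ := hex
    exact ⟨a, by rw [← hy]; exact ha⟩
  · push Not at hex
    have hall : ∀ z : Vn, bf (S : Mn) u z = 0 → bf (S : Mn) z z ≠ 0 →
        bf (S : Mn) y u = 0 ∧ bf (S : Mn) y z = 0 := by
      intro z huz hz
      rcases key z huz hz with ⟨a, ha⟩ | h
      · exact absurd ha (hex z huz hz a)
      · exact h
    obtain ⟨z₀, huz₀, hz₀⟩ := o_exists_aniso1 h2 S hS hn u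
    have hyz₀ := (hall z₀ huz₀ hz₀).2
    have hperp : ∀ v : Vn, bf (S : Mn) u v = 0 → bf (S : Mn) y v = 0 := by
      intro v huv
      by_cases hv : bf (S : Mn) v v = 0
      · by_cases hp : bf (S : Mn) (v + z₀) (v + z₀) = 0
        · have hm : bf (S : Mn) (v - z₀) (v - z₀) ≠ 0 := by
            intro hm
            apply hz₀
            simp only [bf_add_left, bf_add_right, bf_sub_left', bf_sub_right'] at hp hm
            have : 2 * bf (S : Mn) z₀ z₀ = 0 := by linear_combination hp + hm - 2 * hv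
            exact (mul_eq_zero.mp this).resolve_left h2
          have h1 := (hall (v - z₀) (by rw [bf_sub_right', huv, huz₀, sub_zero]) hm).2
          rw [bf_sub_right', hyz₀, sub_zero] at h1
          exact h1
        · have h1 := (hall (v + z₀) (by rw [bf_add_right, huv, huz₀, add_zero]) hp).2
          rw [bf_add_right, hyz₀, add_zero] at h1
          exact h1
      · exact (hall v huv hv).2
    obtain ⟨a, ha⟩ := exists_smul_of_ker hQ u y (by
      intro y' hy'
      rw [polar_qf _ hS] at hy' ⊢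
      have h1 := hperp y' (by
        rw [bf_symm _ hS]
        exact (mul_eq_zero.mp hy').resolve_left h2)
      rw [bf_symm _ hS, h1, mul_zero])
    exact ⟨a, by rw [← hy]; exact ha⟩

/-! ### the two hypotheses and the core -/

theorem he1_O [Fintype F] (h2 : (2 : F) ≠ 0) (hq : Odd (Fintype.card F)) (hn : 3 ≤ n)
    (S : GLn) (hS : (S : Mn)ᵀ = (S : Mn)) (w : Fin n → F)
    (hdiag : (S : Mn) = Matrix.diagonal w)
    (M : Subgroup PSLn) (hM : M ≤ (fixSL (psiS S)).map mkP)
    (hMn : ∀ z ∈ fixP (liftAut (psiS S)), ∀ m ∈ M, z * m * z⁻¹ ∈ M)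
    (hMc : (Nat.card M).Coprime 2) : M = ⊥ := by
  have key : ∀ m ∈ M, ∀ y ∈ {p : ℙ F Vn | singP (S : Mn) p}, m • y = y := by
    apply orbit_fix M (fixP (liftAut (psiS S))) (Nat.coprime_two_right.mp hMc) hMn
      {p : ℙ F Vn | singP (S : Mn) p} ?_ (farP (S : Mn))
    · intro p p'
      obtain ⟨v, hv, rfl⟩ := exists_mk p
      obtain ⟨w', hw', rfl⟩ := exists_mk p'
      rw [farP_mk, farP_mk, bf_symm _ hS w' v]
      exact fun h => h
    · intro p hp p' hp' p'' hp'' h1 h3
      obtain ⟨x, hx, rfl⟩ := exists_mk p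
      obtain ⟨y, hy, rfl⟩ := exists_mk p'
      obtain ⟨z, hz, rfl⟩ := exists_mk p''
      rw [Set.mem_ofPred_eq, singP_mk] at hp hp' hp''
      rw [farP_mk] at h1 h3
      obtain ⟨s, hs, hsx, b, hsy⟩ := o_move h2 S hS x y z hp hp' hp'' h1 h3
      exact ⟨mkP s, mkP_mem_fixP hs, smul_mk_eq s x x hx hx 1 (by rw [hsx, one_smul]),
        smul_mk_eq s y z hy hz b hsy⟩
    · intro p hp p'' hp'' hnf
      obtain ⟨x, hx, rfl⟩ := exists_mk p
      obtain ⟨z, hz, rfl⟩ := exists_mk p''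
      rw [Set.mem_ofPred_eq, singP_mk] at hp hp''
      rw [farP_mk, not_not] at hnf
      obtain ⟨w', hw'0, hw', hxw', hzw'⟩ := o_cross h2 S hS x z hx hz hp hnf
      refine ⟨Projectivization.mk F w' hw'0, ?_, ?_, ?_⟩
      · rw [Set.mem_ofPred_eq, singP_mk]
        exact hw'
      · rw [farP_mk]
        exact hxw'
      · rw [farP_mk]
        exact hzw'
    · intro p hp p' hp' hne hnf
      obtain ⟨x, hx, rfl⟩ := exists_mk p
      obtain ⟨y, hy, rfl⟩ := exists_mk p'
      rw [Set.mem_ofPred_eq, singP_mk] at hp hp'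
      rw [farP_mk, not_not] at hnf
      have hne' : ¬ ∃ a : F, y = a • x := by
        rintro ⟨a, ha⟩
        apply hne
        rw [Projectivization.mk_eq_mk_iff']
        have ha0 : a ≠ 0 := by
          intro h0
          apply hy
          rw [ha, h0, zero_smul]
        exact ⟨a⁻¹, by rw [ha, smul_smul, inv_mul_cancel₀ ha0, one_smul]⟩
      obtain ⟨h4, hspan⟩ := o_dim h2 S hS x y hx hne' hp hp' hnf
      by_cases h5 : 5 ≤ n
      · left
        obtain ⟨s, hs, hsx, hfar⟩ := o_tilt h2 S hS h5 x y hx hne' hp' hnf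
        have hsy0 : (s : Mn) *ᵥ y ≠ 0 := mulVec_ne_zero_SL s hy
        refine ⟨mkP s, mkP_mem_fixP hs, smul_mk_eq s x x hx hx 1 (by rw [hsx, one_smul]), ?_⟩
        rw [smul_mk_eq s y _ hy hsy0 1 (by rw [one_smul]), farP_mk]
        exact hfar
      · right
        have hn4 : n = 4 := by omega
        obtain ⟨L, hLe, hxL, hL1, hL2⟩ :=
          o_line h2 S hS hq x y hx hy hne' hp hp' hnf (hspan hn4)
        refine ⟨L, hLe, hxL, ?_, ?_⟩
        · intro z hz hnf1 hnf2
          obtain ⟨v, hv, rfl⟩ := exists_mk z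
          rw [farP_mk, not_not] at hnf1 hnf2
          exact hL1 v hv hnf1 hnf2
        · intro z hz hzx
          obtain ⟨s, hs, hsx, hsy⟩ := hL2 z hz hzx
          exact ⟨mkP s, mkP_mem_fixP hs, smul_mk_eq s x x hx hx 1 (by rw [hsx, one_smul]), hsy⟩
    · exact o_parity h2 S w hdiag
    · intro m hm p hp
      obtain ⟨s, hs, rfl⟩ := hM hm
      obtain ⟨v, hv, rfl⟩ := exists_mk p
      have hs' : psiS S s = s := hs
      rw [Set.mem_ofPred_eq, singP_mk] at hp
      have hsv : (s : Mn) *ᵥ v ≠ 0 := mulVec_ne_zero_SL s hv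
      rw [smul_mk_eq s v _ hv hsv 1 (by rw [one_smul]), Set.mem_ofPred_eq, singP_mk,
        (psiS_fix_iff_bf S s).mp hs', hp]
  rw [eq_bot_iff]
  intro m hm
  rw [Subgroup.mem_bot]
  obtain ⟨s, hs, rfl⟩ := hM hm
  have hfix : ∀ v : Vn, v ≠ 0 → bf (S : Mn) v v = 0 →
      ∃ a : F, Tsl 1 (Matrix.SpecialLinearGroup.toGL s) v = a • v := by
    intro v hv hsing
    have h1 := key (mkP s) hm (Projectivization.mk F v hv) (by
      rw [Set.mem_ofPred_eq, singP_mk]; exact hsing)
    obtain ⟨a, ha⟩ := eq_smul_of_smul_mk s v v hv hv h1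
    exact ⟨a, ha⟩
  obtain ⟨-, c, hc⟩ := semilinear_O h2 S hS hn (Matrix.SpecialLinearGroup.toGL s) 1 hfix
  exact mkP_eq_one_of_smul s c hc

/-- the `2'`-core for a diagonal symmetric matrix -/
theorem psl_core_orth_diag [Fintype F] (r : ℕ) [hr : Fact r.Prime] [CharP F r] (hr2 : r ≠ 2)
    (hn : 3 ≤ n) (S : GLn) (w : Fin n → F) (hdiag : (S : Mn) = Matrix.diagonal w)
    (A : Subgroup (MulAut PSLn)) (hinn : ∀ k : PSLn, MulAut.conj k ∈ A) :
    Cfsg.pPrimeCore 2 ↥(A ⊓ Subgroup.centralizer {gB S}) = ⊥ := by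
  have hS : (S : Mn)ᵀ = (S : Mn) := by rw [hdiag, Matrix.diagonal_transpose]
  have h2 : (2 : F) ≠ 0 := by
    intro h
    have h3 : ((2 : ℕ) : F) = 0 := by exact_mod_cast h
    rw [CharP.cast_eq_zero_iff F r 2] at h3
    exact hr2 ((Nat.prime_dvd_prime_iff_eq hr.out Nat.prime_two).mp h3)
  have hq : Odd (Fintype.card F) := by
    obtain ⟨k, -, hk⟩ := FiniteField.card F r
    rw [hk]
    exact Odd.pow (hr.out.odd_of_ne_two hr2)
  rw [← liftAut_psiS]
  apply core_bot (by omega) (psiS S) 2 A hinn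
  · rw [liftAut_psiS, orderOf_gB_eq_two_iff r hn, gB_sq_eq_one_iff (by omega)]
    exact ⟨1, by rw [hS, one_smul]⟩
  · exact he1_O h2 hq hn S hS w hdiag
  · apply cent_of_aux r (by omega) (psiS S) (tI S)
    · rw [liftAut_psiS]
      unfold gB
      rw [gam_mul_cG]
    · intro g τ hfix
      obtain ⟨hτ, c, hc⟩ := semilinear_O h2 S hS hn g τ
        (fix_sing_points_O h2 S hS hn g τ hfix)
      rw [hτ, map_one, mul_one]
      exact cG_eq_one_of_smul (by omega) g c hc

/-! ### diagonalisation -/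

theorem diag_conj (h2 : (2 : F) ≠ 0) (hn : 2 ≤ n) (S : GLn) (hS : (S : Mn)ᵀ = (S : Mn)) :
    ∃ (D : GLn) (w : Fin n → F), (D : Mn) = Matrix.diagonal w ∧
      ∃ α : MulAut PSLn, gB S = α * gB D * α⁻¹ := by
  obtain ⟨Q, hQ, -⟩ := exists_quadForm_of_symm h2 S hS
  haveI : Invertible (2 : F) := invertibleOfNonzero h2
  obtain ⟨w', hw'⟩ := QuadraticForm.equivalent_weightedSumSquares Q
  obtain ⟨m, hm, w, ⟨e⟩⟩ : ∃ (m : ℕ) (_ : n = m) (w : Fin m → F),
      Nonempty (Q.IsometryEquiv (QuadraticMap.weightedSumSquares F w)) :=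
    ⟨_, (Module.finrank_fin_fun F).symm, w', hw'⟩
  subst hm
  obtain ⟨ℓ, hℓ⟩ : ∃ ℓ : Vn ≃ₗ[F] Vn, ∀ v, ℓ v = e.symm v := ⟨e.symm.toLinearEquiv, fun v => rfl⟩
  obtain ⟨P, hP⟩ : ∃ P : Mn, P = LinearMap.toMatrix' (ℓ : Vn →ₗ[F] Vn) := ⟨_, rfl⟩
  have hPv : ∀ v : Vn, P *ᵥ v = ℓ v := by
    intro v
    rw [hP, LinearMap.toMatrix'_mulVec]
    rfl
  have hquad : ∀ v : Vn, bf (S : Mn) (ℓ v) (ℓ v) = bf (Matrix.diagonal w) v v := by
    intro v
    rw [hℓ, ← hQ, e.symm.map_app, QuadraticMap.weightedSumSquares_apply, bf_diagonal]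
    apply Finset.sum_congr rfl
    intro i _
    rw [smul_eq_mul, mul_assoc]
  have hPSP : Pᵀ * (S : Mn) * P = Matrix.diagonal w := by
    apply bf_ext_diag h2
    · rw [transpose_mul, transpose_mul, transpose_transpose, hS, Matrix.mul_assoc]
    · exact Matrix.diagonal_transpose w
    · intro v
      rw [← bf_mulVec, hPv]
      exact hquad v
  have hdetP : P.det ≠ 0 := by
    rw [hP, LinearMap.det_toMatrix']
    exact (LinearEquiv.isUnit_det' ℓ).ne_zero
  have hdetS : (S : Mn).det ≠ 0 :=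
    ((Matrix.isUnit_iff_isUnit_det _).mp (Units.isUnit S)).ne_zero
  have hdetD : (Matrix.diagonal w).det ≠ 0 := by
    rw [← hPSP, det_mul, det_mul, det_transpose]
    exact mul_ne_zero (mul_ne_zero hdetP hdetS) hdetP
  obtain ⟨D, hD⟩ : ∃ D : GLn, (D : Mn) = Matrix.diagonal w :=
    ⟨Matrix.GeneralLinearGroup.mkOfDetNeZero _ hdetD, rfl⟩
  refine ⟨D, w, hD, ?_⟩
  have hconj := isConjUnder_gB_of_linearMap hn D S (ℓ : Vn →ₗ[F] Vn) 1 one_ne_zero (by
    intro u v
    have h1 : bf (S : Mn) (ℓ u) (ℓ v) = bf (Pᵀ * (S : Mn) * P) u v := by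
      rw [← bf_mulVec, hPv, hPv]
    rw [one_mul, hD, ← hPSP]
    exact h1)
  obtain ⟨α, -, hα⟩ := hconj
  exact ⟨α, hα⟩

/-- **the `2'`-core of the centraliser of a graph involution of orthogonal type is trivial** -/
theorem psl_core_orth [Fintype F] (r : ℕ) [hr : Fact r.Prime] [CharP F r] (hr2 : r ≠ 2)
    (hn : 3 ≤ n) (S : GLn) (hS : (S : Mn)ᵀ = (S : Mn))
    (A : Subgroup (MulAut PSLn)) (hinn : ∀ k : PSLn, MulAut.conj k ∈ A) :
    Cfsg.pPrimeCore 2 ↥(A ⊓ Subgroup.centralizer {gB S}) = ⊥ := by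
  have h2 : (2 : F) ≠ 0 := by
    intro h
    have h3 : ((2 : ℕ) : F) = 0 := by exact_mod_cast h
    rw [CharP.cast_eq_zero_iff F r 2] at h3
    exact hr2 ((Nat.prime_dvd_prime_iff_eq hr.out Nat.prime_two).mp h3)
  obtain ⟨D, w, hD, α, hα⟩ := diag_conj h2 (by omega) S hS
  rw [hα]
  apply core_bot_conj A hinn
  intro A' hinn'
  exact psl_core_orth_diag r hr2 hn D w hD A' hinn'

end Cfsg.Agent.Lib.Helper6.Lbg
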