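import Mathlib
import Cfsg.Prelude
import Cfsg.Agent.Lib.Helper6.LbgH

set_option autoImplicit false
set_option linter.unusedSectionVars false
set_option linter.unusedVariables false
set_option linter.unusedSimpArgs false
open Cfsg

/-! Local balance for `PSL_n`: assembling the cases. -/

namespace Cfsg.Agent.Lib.Helper6.Lbg

open Matrix Cfsg.Agent.Lib.Helper9.APSL Cfsg.Agent.Lib.Helper9.ALB Cfsg.Agent.Lib.Helper5.PslGraph

variable {F : Type*} [Field F] {n : ℕ}

local notation "Mn" => Matrix (Fin n) (Fin n) F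
local notation "SLn" => Matrix.SpecialLinearGroup (Fin n) F
local notation "PSLn" => Matrix.ProjectiveSpecialLinearGroup (Fin n) F
local notation "Vn" => (Fin n → F)
local notation "GLn" => GL (Fin n) F

theorem card_fixP_conj (α φ : MulAut PSLn) :
    Nat.card ↥(fixP (α * φ * α⁻¹)) = Nat.card ↥(fixP φ) := by
  symm
  apply Nat.card_congr
  apply Equiv.subtypeEquiv α.toEquiv
  intro a
  rw [mem_fixP, mem_fixP]
  show φ a = a ↔ (α * φ * α⁻¹) (α a) = α a
  have h1 : (α * φ * α⁻¹) (α a) = α (φ a) := by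
    rw [MulAut.mul_apply, MulAut.mul_apply, MulAut.inv_apply, MulEquiv.symm_apply_apply]
  rw [h1]
  exact (α.injective.eq_iff).symm

theorem comap_conj_inn (A : Subgroup (MulAut PSLn)) (hinn : ∀ k : PSLn, MulAut.conj k ∈ A)
    (α : MulAut PSLn) (k : PSLn) :
    MulAut.conj k ∈ A.comap ((MulAut.conj α : MulAut PSLn ≃* MulAut PSLn) :
      MulAut PSLn →* MulAut PSLn) := by
  rw [Subgroup.mem_comap]
  show (MulAut.conj α) (MulAut.conj k) ∈ A
  rw [MulAut.conj_apply, conj_conj]
  exact hinn _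

theorem sq_one_of_smul_transpose (hn : 0 < n) (S : GLn) (c : F)
    (hc : (S : Mn) = c • (S : Mn)ᵀ) : c * c = 1 := by
  have hT : (S : Mn)ᵀ = c • (S : Mn) := by
    conv_lhs => rw [hc]
    rw [transpose_smul, transpose_transpose]
  have h5 : (S : Mn) = (c * c) • (S : Mn) := by
    conv_lhs => rw [hc, hT, smul_smul]
  have h6 : (1 : Mn) = (c * c) • (1 : Mn) := by
    have := congrArg (fun M => M * ((S⁻¹ : GLn) : Mn)) h5
    simp only [Matrix.smul_mul] at this
    rw [← Units.val_mul, mul_inv_cancel, Units.val_one] at this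
    exact this
  have := congrFun (congrFun h6 ⟨0, hn⟩) ⟨0, hn⟩
  simp at this
  exact this.symm

/-- the field case -/
theorem main_field [Fintype F] (r : ℕ) [Fact r.Prime] [CharP F r] (hn : 2 ≤ n)
    (A : Subgroup (MulAut PSLn)) (hinn : ∀ k : PSLn, MulAut.conj k ∈ A)
    (p : ℕ) [hp : Fact p.Prime] (hpr : p ≠ r) (g : GLn) (σ : RingAut F)
    (hord : orderOf (cG g * fld σ : MulAut PSLn) = p)
    (hnot : ¬ Cfsg.IsInnerDiagonalAutPSL (cG g * fld σ : MulAut PSLn)) :
    Cfsg.pPrimeCore p ↥(A ⊓ Subgroup.centralizer {(cG g * fld σ : MulAut PSLn)}) ≠ ⊥ ↔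
      Nat.Coprime p (Nat.card ↥(fixP (cG g * fld σ : MulAut PSLn))) := by
  have hσ1 : σ ≠ 1 := by
    intro h
    apply hnot
    rw [h, map_one, mul_one, cG_apply]
    exact isInnerDiagonal_liftAut g
  have hpow : (cG g * fld σ : MulAut PSLn) ^ p = 1 := by
    rw [← hord]
    exact pow_orderOf_eq_one _
  have hσp : σ ^ p = 1 := by
    have h1 := congrArg (tauHom r hn) hpow
    rw [map_pow, map_mul, cG_apply, tauHom_conj, fld_apply, tauHom_field, one_mul, map_one] at h1
    exact h1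
  have hσord : orderOf σ = p := orderOf_eq_prime hσp hσ1
  obtain ⟨k, hk⟩ := conj_field_of_pow_eq_one hn σ p hp.out.pos hσord g hpow
  rw [hk, card_fixP_conj,
    ← psl_core_field r hn σ p hpr hσord _ (comap_conj_inn A hinn (cG k))]
  exact (pPrimeCore_ne_bot_congr (centConjEquiv A (cG k) (fld σ)) p).symm

/-- the graph case -/
theorem main_graph [Fintype F] (r : ℕ) [Fact r.Prime] [CharP F r] (hn : 3 ≤ n)
    (A : Subgroup (MulAut PSLn)) (hinn : ∀ k : PSLn, MulAut.conj k ∈ A) (hr2 : r ≠ 2)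
    (g : GLn) (σ : RingAut F) (hord : orderOf (cG g * fld σ * gam : MulAut PSLn) = 2) :
    Cfsg.pPrimeCore 2 ↥(A ⊓ Subgroup.centralizer {(cG g * fld σ * gam : MulAut PSLn)}) = ⊥ := by
  have hn2 : 2 ≤ n := by omega
  have hpow : (cG g * fld σ * gam : MulAut PSLn) ^ 2 = 1 := by
    rw [← hord]
    exact pow_orderOf_eq_one _
  have hσ2 : σ * σ = 1 := by
    have h1 := congrArg (tauHom r hn2) hpow
    rw [map_pow, map_mul, map_mul, cG_apply, tauHom_conj, fld_apply, tauHom_field, gam_def,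
      tauHom_invT, one_mul, mul_one, map_one, pow_two] at h1
    exact h1
  by_cases hσ1 : σ = 1
  · subst hσ1
    rw [map_one, mul_one] at hpow ⊢
    rw [cG_mul_gam] at hpow ⊢
    have hsq : gB (tI g) * gB (tI g) = 1 := by
      rw [← pow_two]
      exact hpow
    obtain ⟨c, hc⟩ := (gB_sq_eq_one_iff hn2 (tI g)).mp hsq
    have hT : ((tI g : GLn) : Mn)ᵀ = c • ((tI g : GLn) : Mn) := by
      conv_lhs => rw [hc]
      rw [transpose_smul, transpose_transpose]
    have hcc := sq_one_of_smul_transpose (by omega) (tI g) c hc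
    rcases mul_self_eq_one_iff.mp hcc with h1 | h1
    · rw [h1, one_smul] at hT
      exact psl_core_orth r hr2 hn (tI g) hT A hinn
    · rw [h1, neg_smul, one_smul] at hT
      exact psl_core_sp r hr2 hn (tI g) hT A hinn
  · have hpow' : (cG g * (fld σ * gam) : MulAut PSLn) ^ 2 = 1 := by
      rw [← mul_assoc]
      exact hpow
    obtain ⟨k, hk⟩ := conj_graphfield_of_sq_eq_one hn2 σ hσ1 hσ2 g hpow'
    rw [mul_assoc, hk]
    apply core_bot_conj A hinn
    intro A' hinn'
    exact psl_core_unitary r hr2 hn σ hσ1 hσ2 A' hinn'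

end Cfsg.Agent.Lib.Helper6.Lbg
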