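import Mathlib
import Cfsg.Agent.Lib.Helper2.LevDefs

set_option autoImplicit false
set_option linter.unusedVariables false
set_option linter.unusedSectionVars false
set_option linter.style.longLine false

namespace Cfsg.Agent.Lib.Helper2.Lev

open Module

universe u v

variable {K : Type v} [Field K] {V : Type u} [AddCommGroup V] [Module K V]

/-! ### P1 (LevCover): a vector space is not a union of at most `#K` proper subspaces -/

theorem exists_not_mem_of_card_le (S : Finset (Submodule K V)) (hS : ∀ s ∈ S, s ≠ ⊤)
    (hcard : (S.card : Cardinal) ≤ Cardinal.mk K) : ∃ v : V, ∀ s ∈ S, v ∉ s := by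
  classical
  induction S using Finset.induction_on with
  | empty => exact ⟨0, by simp⟩
  | insert s1 S' hs1 ih =>
    have hS' : ∀ s ∈ S', s ≠ ⊤ := fun s hs => hS s (Finset.mem_insert_of_mem hs)
    rw [Finset.card_insert_of_notMem hs1] at hcard
    have hlt : (S'.card : Cardinal) < Cardinal.mk K := by
      refine lt_of_lt_of_le ?_ hcard
      exact_mod_cast Nat.lt_succ_self _
    obtain ⟨y, hy⟩ := ih hS' hlt.le
    by_cases hy1 : y ∈ s1
    swap
    · refine ⟨y, fun s hs => ?_⟩
      rcases Finset.mem_insert.mp hs with rfl | h
      · exact hy1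
      · exact hy s h
    have hs1top := hS s1 (Finset.mem_insert_self _ _)
    obtain ⟨x, hx⟩ : ∃ x, x ∉ s1 := by
      by_contra h
      push_neg at h
      exact hs1top (eq_top_iff.mpr fun v _ => h v)
    by_contra hcon
    push_neg at hcon
    have hbad : ∀ t : K, ∃ s ∈ S', x + t • y ∈ s := by
      intro t
      obtain ⟨s, hs, hmem⟩ := hcon (x + t • y)
      rcases Finset.mem_insert.mp hs with rfl | h
      · exfalso
        apply hx
        have := s.sub_mem hmem (s.smul_mem t hy1)
        simpa using this
      · exact ⟨s, h, hmem⟩
    choose f hf1 hf2 using hbad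
    have hinj : Function.Injective (fun t => (⟨f t, hf1 t⟩ : S')) := by
      intro t t' h
      have hff : f t = f t' := congrArg Subtype.val h
      by_contra hne
      apply hy (f t) (hf1 t)
      have h1 := hf2 t
      have h2 := hf2 t'
      rw [← hff] at h2
      have h3 := (f t).sub_mem h1 h2
      have h4 : (x + t • y) - (x + t' • y) = (t - t') • y := by rw [sub_smul]; abel
      rw [h4] at h3
      have := (f t).smul_mem (t - t')⁻¹ h3
      rwa [smul_smul, inv_mul_cancel₀ (sub_ne_zero.mpr hne), one_smul] at this
    haveI : Finite K := Finite.of_injective _ hinj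
    have h5 : Nat.card K ≤ Nat.card S' := Nat.card_le_card_of_injective _ hinj
    have h6 : Nat.card S' = S'.card := by
      rw [Nat.card_eq_fintype_card, Fintype.card_coe]
    rw [h6] at h5
    rw [← Nat.cast_card, Nat.cast_lt] at hlt
    omega

end Cfsg.Agent.Lib.Helper2.Lev
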