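import Mathlib
import Cfsg.Agent.Lib.Helper2.LevDefs
import Cfsg.Agent.Lib.Helper5.RegularNilpotent

set_option autoImplicit false
set_option linter.unusedVariables false
set_option linter.unusedSectionVars false
set_option linter.style.longLine false

namespace Cfsg.Agent.Lib.Helper2.Lev

open Module

universe u v

variable {K : Type v} [Field K] {V : Type u} [AddCommGroup V] [Module K V]

/-- a nilpotent endomorphism of a finite-dimensional space vanishes at the power `finrank` -/
theorem pow_finrank_eq_zero_of_isNilpotent [FiniteDimensional K V] {N : Module.End K V}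
    (hN : IsNilpotent N) : N ^ Module.finrank K V = 0 := by
  have h1 := LinearMap.aeval_self_charpoly N
  rw [IsNilpotent.charpoly_eq_X_pow_finrank hN] at h1
  simpa using h1

/-! ### P13 (LevJordan): a regular unipotent matrix is conjugate to `J` -/

theorem regUnip_conj (n : ℕ) (J : Matrix (Fin n) (Fin n) K)
    (hJ : ∀ i j : Fin n, J i j = if i = j then 1 else if j.val = i.val + 1 then 1 else 0)
    (u : Module.End K (Fin n → K)) (hu : RegUnip u) :
    ∃ P : GL (Fin n) K, LinearMap.toMatrix' u = (P : Matrix (Fin n) (Fin n) K) * J * ((P⁻¹ : GL (Fin n) K) : Matrix (Fin n) (Fin n) K) := by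
  classical
  obtain ⟨hnil, hker⟩ := hu
  set N : Module.End K (Fin n → K) := u - 1 with hN
  have hfr : Module.finrank K (Fin n → K) = n := Module.finrank_fin_fun K
  have hNn : N ^ Module.finrank K (Fin n → K) = 0 := pow_finrank_eq_zero_of_isNilpotent hnil
  have hpos : 1 ≤ Module.finrank K (Fin n → K) := by
    by_contra hlt
    have h0 : Module.finrank K (Fin n → K) = 0 := by omega
    have h1 : Module.finrank K (LinearMap.ker N) ≤ Module.finrank K (Fin n → K) :=
      Submodule.finrank_le _
    omega
  obtain ⟨w, hw⟩ := Cfsg.Agent.Lib.Helper5.exists_cyclic N hker.le hNn hpos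
  -- the cyclic basis, reindexed to `Fin n`
  have hNn' : N ^ n = 0 := by rw [hfr] at hNn; exact hNn
  have hw' : (N ^ (n - 1)) w ≠ 0 := by rw [hfr] at hw; exact hw
  have hn1 : 1 ≤ n := by rw [hfr] at hpos; exact hpos
  have hli := Cfsg.Agent.Lib.Helper5.linearIndependent_pow N n hNn' w hw'
  -- vectors `f j = N^(n-1-j) w`
  have hli2 : LinearIndependent K (fun j : Fin n => (N ^ (n - 1 - (j : ℕ))) w) := by
    have := hli.comp (fun j : Fin n => (⟨n - 1 - (j : ℕ), by have := j.isLt; omega⟩ : Fin n))
      (by
        intro j j' h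
        have h1 : n - 1 - (j : ℕ) = n - 1 - (j' : ℕ) := congrArg Fin.val h
        apply Fin.ext
        have := j.isLt
        have := j'.isLt
        omega)
    exact this
  haveI : Nonempty (Fin n) := ⟨⟨0, by omega⟩⟩
  set c : Basis (Fin n) K (Fin n → K) :=
    basisOfLinearIndependentOfCardEqFinrank hli2 (by rw [Fintype.card_fin, hfr]) with hc
  have hcapp : ∀ j : Fin n, c j = (N ^ (n - 1 - (j : ℕ))) w := by
    intro j
    simp [hc]
  -- the action of `u` on the basis
  have huc : ∀ j : Fin n, u (c j) = c j +
      (if h : 1 ≤ (j : ℕ) then c ⟨(j : ℕ) - 1, by have := j.isLt; omega⟩ else 0) := by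
    intro j
    have hu1 : u = 1 + N := by rw [hN]; abel
    rw [hu1, LinearMap.add_apply, Module.End.one_apply]
    congr 1
    rw [hcapp]
    split_ifs with h
    · rw [hcapp, ← Module.End.mul_apply, ← pow_succ']
      congr 2
      have := j.isLt
      show n - 1 - (j : ℕ) + 1 = n - 1 - ((j : ℕ) - 1)
      omega
    · have hj0 : (j : ℕ) = 0 := by omega
      rw [← Module.End.mul_apply, ← pow_succ', hj0]
      have : n - 1 - 0 + 1 = n := by omega
      rw [this, hNn']
      rfl
  -- the matrix `P`
  set std := Pi.basisFun K (Fin n) with hstd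
  set Pm : Matrix (Fin n) (Fin n) K := std.toMatrix c with hPm
  have hPapp : ∀ i j : Fin n, Pm i j = c j i := by
    intro i j
    simp [hPm, hstd, Basis.toMatrix_apply]
  set P : GL (Fin n) K := ⟨Pm, c.toMatrix std, Basis.toMatrix_mul_toMatrix_flip _ _,
    Basis.toMatrix_mul_toMatrix_flip _ _⟩ with hP
  refine ⟨P, ?_⟩
  have hkey : LinearMap.toMatrix' u * Pm = Pm * J := by
    ext i j
    have h1 : (LinearMap.toMatrix' u * Pm) i j = u (c j) i := by
      have h2 : (LinearMap.toMatrix' u).mulVec (c j) = u (c j) := LinearMap.toMatrix'_mulVec u (c j)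
      rw [← h2]
      simp only [Matrix.mul_apply, Matrix.mulVec, dotProduct, hPapp]
    rw [h1, huc j, Matrix.mul_apply]
    have h3 : ∀ k : Fin n, Pm i k * J k j = (if k = j then c j i else 0) +
        (if (j : ℕ) = (k : ℕ) + 1 then c k i else 0) := by
      intro k
      rw [hJ, hPapp]
      by_cases hkj : k = j
      · subst hkj
        simp
      · rw [if_neg hkj, if_neg hkj, zero_add]
        split_ifs <;> simp
    simp_rw [h3]
    rw [Finset.sum_add_distrib, Finset.sum_ite_eq' Finset.univ j, if_pos (Finset.mem_univ _),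
      Pi.add_apply]
    congr 1
    split_ifs with h
    · rw [Finset.sum_eq_single (⟨(j : ℕ) - 1, by have := j.isLt; omega⟩ : Fin n)]
      · rw [if_pos]
        show (j : ℕ) = (j : ℕ) - 1 + 1
        omega
      · intro k _ hk
        rw [if_neg]
        intro h'
        apply hk
        apply Fin.ext
        show (k : ℕ) = (j : ℕ) - 1
        omega
      · intro h'; exact absurd (Finset.mem_univ _) h'
    · rw [Pi.zero_apply]
      symm
      apply Finset.sum_eq_zero
      intro k _
      rw [if_neg]
      omega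
  have hPinv : (P : Matrix (Fin n) (Fin n) K) * ((P⁻¹ : GL (Fin n) K) : Matrix (Fin n) (Fin n) K) = 1 := by
    rw [← Units.val_mul, mul_inv_cancel]
    rfl
  calc LinearMap.toMatrix' u = LinearMap.toMatrix' u * ((P : Matrix (Fin n) (Fin n) K) * ((P⁻¹ : GL (Fin n) K) : Matrix (Fin n) (Fin n) K)) := by
        rw [hPinv, mul_one]
    _ = (LinearMap.toMatrix' u * Pm) * ((P⁻¹ : GL (Fin n) K) : Matrix (Fin n) (Fin n) K) := by
        rw [← mul_assoc]
    _ = (P : Matrix (Fin n) (Fin n) K) * J * ((P⁻¹ : GL (Fin n) K) : Matrix (Fin n) (Fin n) K) := by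
        rw [hkey]

end Cfsg.Agent.Lib.Helper2.Lev
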