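import Mathlib

/-!
# Automorphisms of the complex numbers with prescribed action on roots of unity
-/

set_option autoImplicit false

namespace Cfsg.Agent.Lib.Helper6.CAut

open Polynomial

/-- an automorphism of a subfield (given as the image of a field `K`) extends to the complex
numbers -/
theorem exists_ringEquiv_extending {K : Type} [Field K] (φ : K →+* ℂ) (τ : K ≃+* K) :
    ∃ σ : ℂ ≃+* ℂ, ∀ x : K, σ (φ x) = φ (τ x) := by
  classical
  let _ : Algebra K ℂ := φ.toAlgebra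
  have hinj : Function.Injective (algebraMap K ℂ) := φ.injective
  have : FaithfulSMul K ℂ := (faithfulSMul_iff_algebraMap_injective K ℂ).mpr hinj
  obtain ⟨ι, v, hv⟩ := exists_isTranscendenceBasis' K ℂ
  let _ := IsAlgClosed.isAlgClosure_of_transcendence_basis v hv
  let a : MvPolynomial ι K ≃ₐ[K] Algebra.adjoin K (Set.range v) := hv.1.aevalEquiv
  let e : Algebra.adjoin K (Set.range v) ≃+* Algebra.adjoin K (Set.range v) :=
    a.symm.toRingEquiv.trans ((MvPolynomial.mapEquiv ι τ).trans a.toRingEquiv)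
  refine ⟨IsAlgClosure.equivOfEquiv ℂ ℂ e, ?_⟩
  intro x
  have h1 : φ x = algebraMap (Algebra.adjoin K (Set.range v)) ℂ
      (algebraMap K (Algebra.adjoin K (Set.range v)) x) := rfl
  have h2 : φ (τ x) = algebraMap (Algebra.adjoin K (Set.range v)) ℂ
      (algebraMap K (Algebra.adjoin K (Set.range v)) (τ x)) := rfl
  rw [h1, h2, IsAlgClosure.equivOfEquiv_algebraMap]
  congr 1
  show a ((MvPolynomial.mapEquiv ι τ) (a.symm (algebraMap K _ x))) = algebraMap K _ (τ x)
  rw [AlgEquiv.commutes, MvPolynomial.mapEquiv_apply, MvPolynomial.algebraMap_eq,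
    MvPolynomial.map_C, ← MvPolynomial.algebraMap_eq, AlgEquiv.commutes]
  rfl

set_option backward.isDefEq.respectTransparency false in
/-- for `m` prime to `n` there is an automorphism of `ℂ` raising the `n`-th roots of unity to
their `m`-th powers -/
theorem exists_ringEquiv_pow (n : ℕ) [NeZero n] (m : ℕ) (hm : m.Coprime n) :
    ∃ σ : ℂ ≃+* ℂ, ∀ μ : ℂ, μ ^ n = 1 → σ μ = μ ^ m := by
  have hirr : Irreducible (cyclotomic n ℚ) := cyclotomic.irreducible_rat (NeZero.pos n)
  have hζ : IsPrimitiveRoot (IsCyclotomicExtension.zeta n ℚ (CyclotomicField n ℚ)) n :=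
    IsCyclotomicExtension.zeta_spec n ℚ (CyclotomicField n ℚ)
  have hζm : IsPrimitiveRoot ((IsCyclotomicExtension.zeta n ℚ (CyclotomicField n ℚ)) ^ m) n :=
    hζ.pow_of_coprime m hm
  obtain ⟨τ, hτ⟩ : ∃ τ : CyclotomicField n ℚ ≃ₐ[ℚ] CyclotomicField n ℚ,
      τ (IsCyclotomicExtension.zeta n ℚ (CyclotomicField n ℚ))
        = (IsCyclotomicExtension.zeta n ℚ (CyclotomicField n ℚ)) ^ m :=
    ⟨IsCyclotomicExtension.fromZetaAut hζm hirr, IsCyclotomicExtension.fromZetaAut_spec hζm hirr⟩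
  let φ : CyclotomicField n ℚ →ₐ[ℚ] ℂ := IsAlgClosed.lift
  obtain ⟨σ, hσ⟩ := exists_ringEquiv_extending (φ : CyclotomicField n ℚ →+* ℂ)
    (τ : CyclotomicField n ℚ ≃+* CyclotomicField n ℚ)
  refine ⟨σ, ?_⟩
  have hprim : IsPrimitiveRoot (φ (IsCyclotomicExtension.zeta n ℚ (CyclotomicField n ℚ))) n :=
    hζ.map_of_injective φ.injective
  intro μ hμ
  obtain ⟨i, -, rfl⟩ := hprim.eq_pow_of_pow_eq_one hμ
  have h1 := hσ (IsCyclotomicExtension.zeta n ℚ (CyclotomicField n ℚ))
  have h2 : (τ : CyclotomicField n ℚ ≃+* CyclotomicField n ℚ)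
      (IsCyclotomicExtension.zeta n ℚ (CyclotomicField n ℚ))
      = (IsCyclotomicExtension.zeta n ℚ (CyclotomicField n ℚ)) ^ m := hτ
  rw [h2, map_pow] at h1
  rw [map_pow]
  have h3 : σ (φ (IsCyclotomicExtension.zeta n ℚ (CyclotomicField n ℚ)))
      = φ (IsCyclotomicExtension.zeta n ℚ (CyclotomicField n ℚ)) ^ m := h1
  rw [h3, ← pow_mul, ← pow_mul, mul_comm]

end Cfsg.Agent.Lib.Helper6.CAut
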