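import Mathlib
import Cfsg.Prelude.Def_Blocks
import Cfsg.Agent.Lib.Helper6.BlkDim
import Cfsg.Agent.Lib.Helper6.BlkContrib
import Cfsg.Agent.Lib.Helper6.BlkVanish
import Cfsg.Agent.Lib.Helper6.GaloisRat

set_option autoImplicit false
set_option linter.unusedSectionVars false
open Cfsg

namespace Cfsg.Agent.Lib.Helper6

open scoped ComplexConjugate

section pconj

variable {G : Type*} [Group G] [Fintype G] [DecidableEq G]
variable {p : ℕ} {M : Ideal Cfsg.AlgInt}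

/-- a ring automorphism of `ℂ` fixing `exp(2πi/n)` fixes every `n`-th root of unity -/
theorem ringEquiv_fix_root {n : ℕ} (hn : n ≠ 0) (σ : ℂ ≃+* ℂ)
    (hσ : σ (Complex.exp (2 * Real.pi * Complex.I / (n : ℕ))) = Complex.exp (2 * Real.pi * Complex.I / (n : ℕ)))
    {μ : ℂ} (hμ : μ ^ n = 1) : σ μ = μ := by
  have hprim := Complex.isPrimitiveRoot_exp n hn
  haveI : NeZero n := ⟨hn⟩
  obtain ⟨j, _, hj⟩ := hprim.eq_pow_of_pow_eq_one hμ
  rw [← hj, map_pow, hσ]

/-- such an automorphism fixes the values of characters at elements of order dividing `n` -/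
theorem ringEquiv_fix_character {n : ℕ} (hn : n ≠ 0) (σ : ℂ ≃+* ℂ)
    (hσ : σ (Complex.exp (2 * Real.pi * Complex.I / (n : ℕ))) = Complex.exp (2 * Real.pi * Complex.I / (n : ℕ)))
    {χ : G → ℂ} (hχ : Cfsg.IsCharacter G χ) (x : G) (hx : x ^ n = 1) : σ (χ x) = χ x := by
  obtain ⟨m, μ, hμ, hk⟩ := IsCharacter.exists_eigen_pow hχ x n (Nat.pos_of_ne_zero hn) hx
  have h1 := hk 1
  simp only [pow_one] at h1
  rw [h1, map_sum]
  apply Finset.sum_congr rfl
  intro i _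
  exact ringEquiv_fix_root hn σ hσ (hμ i)

theorem pRegular_pow_ordCompl (hp : p.Prime) (x : G) (hx : ¬ p ∣ orderOf x) :
    x ^ (Nat.card G / p ^ (Nat.card G).factorization p) = 1 := by
  apply orderOf_dvd_iff_pow_eq_one.mp
  have h1 : orderOf x ∣ Nat.card G := orderOf_dvd_natCard x
  have h2 : Nat.Coprime (orderOf x) (p ^ (Nat.card G).factorization p) :=
    Nat.Coprime.pow_right _ ((Nat.Prime.coprime_iff_not_dvd hp).mpr hx).symm
  have h3 : p ^ (Nat.card G).factorization p * (Nat.card G / p ^ (Nat.card G).factorization p)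
      = Nat.card G := Nat.ordProj_mul_ordCompl_eq_self _ _
  rw [← h3] at h1
  exact h2.dvd_of_dvd_mul_left h1

/-- Brauer: the number of `p`-conjugates of `χ` times `χ(1)` has `p`-part at most `p ^ a` -/
theorem pconj_count_bound [Fact p.Prime] (χ : Cfsg.IrrCharacter G) (r : ℕ)
    (hr : Nat.card {ψ : Cfsg.IrrCharacter G // ∃ σ : ℂ ≃+* ℂ,
      σ (Complex.exp (2 * Real.pi * Complex.I / ((Nat.card G / p ^ (Nat.card G).factorization p) : ℕ)))
        = Complex.exp (2 * Real.pi * Complex.I / ((Nat.card G / p ^ (Nat.card G).factorization p) : ℕ))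
      ∧ (ψ : G → ℂ) = fun g => σ ((χ : G → ℂ) g)} = r) :
    (r * Cfsg.charDegree (χ : G → ℂ)).factorization p ≤ (Nat.card G).factorization p ∧
    (p ^ (Nat.card G).factorization p ∣ r * Cfsg.charDegree (χ : G → ℂ) →
      p ^ (Nat.card G).factorization p ∣ Cfsg.charDegree (χ : G → ℂ)) := by
  classical
  have hp : p.Prime := Fact.out
  obtain ⟨M, hM⟩ := exists_isPModular p
  haveI : Fintype (Cfsg.IrrCharacter G) := Fintype.ofFinite _
  obtain ⟨a, ha⟩ : ∃ a, a = (Nat.card G).factorization p := ⟨_, rfl⟩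
  obtain ⟨n, hn⟩ : ∃ n, n = Nat.card G / p ^ (Nat.card G).factorization p := ⟨_, rfl⟩
  rw [← hn] at hr
  rw [← ha]
  have hn0 : n ≠ 0 := by
    rw [hn]
    exact (Nat.ordCompl_pos p Nat.card_pos.ne').ne'
  obtain ⟨Pr, hPr⟩ : ∃ Pr : Cfsg.IrrCharacter G → Prop, Pr = fun (ψ : Cfsg.IrrCharacter G) => ∃ σ : ℂ ≃+* ℂ,
      σ (Complex.exp (2 * Real.pi * Complex.I / (n : ℕ)))
        = Complex.exp (2 * Real.pi * Complex.I / (n : ℕ))
      ∧ (ψ : G → ℂ) = fun g => σ ((χ : G → ℂ) g) := ⟨_, rfl⟩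
  have hPri : ∀ ψ, Pr ψ ↔ ∃ σ : ℂ ≃+* ℂ,
      σ (Complex.exp (2 * Real.pi * Complex.I / (n : ℕ)))
        = Complex.exp (2 * Real.pi * Complex.I / (n : ℕ))
      ∧ (ψ : G → ℂ) = fun g => σ ((χ : G → ℂ) g) := by
    intro ψ; rw [hPr]
  have hr' : (Finset.univ.filter Pr).card = r := by
    rw [← hr, Nat.card_eq_fintype_card, Fintype.card_subtype]
    congr 1
    ext ψ
    simp only [Finset.mem_filter, Finset.mem_univ, true_and]
    exact hPri ψ
  have hχΩ : Pr χ := (hPri χ).mpr ⟨RingEquiv.refl ℂ, rfl, rfl⟩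
  have hr0 : r ≠ 0 := by
    rw [← hr']
    exact Finset.card_ne_zero.mpr ⟨χ, by simp [hχΩ]⟩
  -- the constant c
  obtain ⟨hcpos, -, -⟩ := cInt_self hM χ
  obtain ⟨c, hc⟩ : ∃ c : ℕ, (c : ℤ) = cInt p (χ : G → ℂ) (χ : G → ℂ) :=
    ⟨(cInt p (χ : G → ℂ) (χ : G → ℂ)).toNat, Int.toNat_of_nonneg hcpos.le⟩
  have hc0 : 0 < c := by
    have : (0 : ℤ) < (c : ℤ) := by rw [hc]; exact hcpos
    exact_mod_cast this
  have hcΩ : ∀ ψ : Cfsg.IrrCharacter G, Pr ψ → cInt p (χ : G → ℂ) (ψ : G → ℂ) = (c : ℤ) := by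
    intro ψ hψ
    obtain ⟨σ, hσ, hψσ⟩ := (hPri ψ).mp hψ
    have h1 := cInt_spec hM χ ψ
    have h2 := cInt_spec hM χ χ
    have h3 : Cfsg.classInner (tildeFun p (χ : G → ℂ)) (ψ : G → ℂ)
        = Cfsg.classInner (tildeFun p (χ : G → ℂ)) (χ : G → ℂ) := by
      unfold Cfsg.classInner
      congr 1
      apply Finset.sum_congr rfl
      intro x _
      rw [tildeFun_eq]
      beta_reduce
      split_ifs with hx
      · simp
      · congr 2
        rw [hψσ]
        beta_reduce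
        apply ringEquiv_fix_character hn0 σ hσ (IsIrrCharacter.isCharacter χ.2) x
        rw [hn]
        exact pRegular_pow_ordCompl hp x hx
    rw [h3, h2] at h1
    rw [hc]
    exact_mod_cast h1.symm
  -- r c ≤ p^a
  have hsum := sum_cInt_sq hM χ
  rw [← ha, ← hc] at hsum
  have hle : (r : ℤ) * (c : ℤ) ^ 2 ≤ (p : ℤ) ^ a * (c : ℤ) := by
    rw [← hsum, ← hr']
    calc ((Finset.univ.filter Pr).card : ℤ) * (c : ℤ) ^ 2
        = ∑ ψ ∈ Finset.univ.filter Pr, (c : ℤ) ^ 2 := by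
          rw [Finset.sum_const, nsmul_eq_mul]
      _ = ∑ ψ ∈ Finset.univ.filter Pr, cInt p (χ : G → ℂ) (ψ : G → ℂ) ^ 2 := by
          apply Finset.sum_congr rfl
          intro ψ hψ
          rw [Finset.mem_filter] at hψ
          rw [hcΩ ψ hψ.2]
      _ ≤ ∑ ψ : Cfsg.IrrCharacter G, cInt p (χ : G → ℂ) (ψ : G → ℂ) ^ 2 :=
          Finset.sum_le_univ_sum_of_nonneg (fun ψ => sq_nonneg _)
  have hrc : r * c ≤ p ^ a := by
    have h1 : (r : ℤ) * (c : ℤ) * (c : ℤ) ≤ (p : ℤ) ^ a * (c : ℤ) := by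
      rw [mul_assoc, ← sq]; exact hle
    have h2 := le_of_mul_le_mul_right h1 (by exact_mod_cast hc0 : (0 : ℤ) < (c : ℤ))
    exact_mod_cast h2
  -- p^h ∣ c
  obtain ⟨deg, hdeg⟩ : ∃ deg, deg = Cfsg.charDegree (χ : G → ℂ) := ⟨_, rfl⟩
  rw [← hdeg]
  have hdeg0 : deg ≠ 0 := by rw [hdeg]; exact charDegree_ne_zero χ
  obtain ⟨h, hh⟩ : ∃ h, h = deg.factorization p := ⟨_, rfl⟩
  obtain ⟨m, hm⟩ : ∃ m, m = deg / p ^ h := ⟨_, rfl⟩
  have hdegm : deg = p ^ h * m := by
    rw [hm, hh]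
    exact (Nat.ordProj_mul_ordCompl_eq_self deg p).symm
  have hχcf := IsIrrCharacter.isClassFunction χ.2
  have hχS : ∀ g, Cfsg.MemLocalRing M ((χ : G → ℂ) g) := fun g =>
    memLocalRing_of_isIntegral hM (IsCharacter.isIntegral_apply (IsIrrCharacter.isCharacter χ.2) g)
  have hu := classInner_tildeFun_div_memLocalRing hM hχcf hχS χ
  rw [cInt_spec hM χ χ, IsCharacter.apply_one_eq_charDegree (IsIrrCharacter.isCharacter χ.2),
    ← hdeg, ← hc] at hu
  have hp0 : (p : ℂ) ≠ 0 := by exact_mod_cast hp.ne_zero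
  have hm0 : (m : ℂ) ≠ 0 := by
    intro h0
    apply hdeg0
    have : m = 0 := by exact_mod_cast h0
    rw [hdegm, this, mul_zero]
  have hdvd : p ^ h ∣ c := by
    have h1 : Cfsg.MemLocalRing M ((((c : ℕ) : ℤ) : ℂ) / (p : ℂ) ^ h) := by
      have := MemLocalRing.mul hM (memLocalRing_natCast hM m) hu
      convert this using 1
      rw [hdegm]
      push_cast
      field_simp
    have := pow_dvd_of_memLocalRing_div hM _ _ h1
    exact_mod_cast this
  have hphc : p ^ h ≤ c := Nat.le_of_dvd hc0 hdvd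
  -- factorization of r * deg
  obtain ⟨s, hs⟩ : ∃ s, s = r.factorization p := ⟨_, rfl⟩
  have hfac : (r * deg).factorization p = s + h := by
    rw [Nat.factorization_mul hr0 hdeg0, Finsupp.add_apply, ← hs, ← hh]
  have hpsr : p ^ s ∣ r := by rw [hs]; exact Nat.ordProj_dvd r p
  have hpsr' : p ^ s ≤ r := Nat.le_of_dvd (Nat.pos_of_ne_zero hr0) hpsr
  have hmain : p ^ (s + h) ≤ p ^ a := by
    rw [pow_add]
    exact (Nat.mul_le_mul hpsr' hphc).trans hrc
  have hsha : s + h ≤ a := (Nat.pow_le_pow_iff_right hp.one_lt).mp hmain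
  refine ⟨by rw [hfac]; exact hsha, ?_⟩
  intro hdiv
  have h1 : a ≤ s + h := by
    rw [← hfac]
    exact (hp.pow_dvd_iff_le_factorization (Nat.mul_ne_zero hr0 hdeg0)).mp hdiv
  have hsh : s + h = a := le_antisymm hsha h1
  have hpa : p ^ a = p ^ s * p ^ h := by rw [← hsh, pow_add]
  have hphpos : 0 < p ^ h := pow_pos hp.pos h
  -- r = p^s
  have hrs : r = p ^ s := by
    apply le_antisymm _ hpsr'
    have : r * p ^ h ≤ p ^ s * p ^ h := by
      rw [← hpa]
      exact (Nat.mul_le_mul_left r hphc).trans hrc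
    exact Nat.le_of_mul_le_mul_right this hphpos
  -- c = p^h
  have hch : c = p ^ h := by
    apply le_antisymm _ hphc
    have : r * c ≤ r * p ^ h := by
      rw [hrs, ← hpa]
      rw [hrs] at hrc
      exact hrc
    exact Nat.le_of_mul_le_mul_left this (Nat.pos_of_ne_zero hr0)
  -- the coefficients vanish outside Ω
  have hzero : ∀ β : Cfsg.IrrCharacter G, ¬ Pr β → cInt p (χ : G → ℂ) (β : G → ℂ) = 0 := by
    intro β hβ
    have hsplit : ∑ ψ : Cfsg.IrrCharacter G, cInt p (χ : G → ℂ) (ψ : G → ℂ) ^ 2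
        = ∑ ψ ∈ Finset.univ.filter Pr, cInt p (χ : G → ℂ) (ψ : G → ℂ) ^ 2
          + ∑ ψ ∈ Finset.univ.filter (fun ψ => ¬ Pr ψ), cInt p (χ : G → ℂ) (ψ : G → ℂ) ^ 2 :=
      (Finset.sum_filter_add_sum_filter_not _ _ _).symm
    have h2 : ∑ ψ ∈ Finset.univ.filter Pr, cInt p (χ : G → ℂ) (ψ : G → ℂ) ^ 2
        = (r : ℤ) * (c : ℤ) ^ 2 := by
      rw [← hr', ← nsmul_eq_mul, ← Finset.sum_const]
      apply Finset.sum_congr rfl
      intro ψ hψ
      rw [Finset.mem_filter] at hψ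
      rw [hcΩ ψ hψ.2]
    have h3 : (p : ℤ) ^ a * (c : ℤ) = (r : ℤ) * (c : ℤ) ^ 2 := by
      have : p ^ a * c = r * c ^ 2 := by
        rw [hpa, hrs, hch]
        ring
      exact_mod_cast this
    rw [hsum, h2, h3] at hsplit
    have h4 : ∑ ψ ∈ Finset.univ.filter (fun ψ => ¬ Pr ψ), cInt p (χ : G → ℂ) (ψ : G → ℂ) ^ 2 = 0 := by
      linarith
    have h5 := (Finset.sum_eq_zero_iff_of_nonneg (fun ψ _ => sq_nonneg _)).mp h4 β
      (by simp [hβ])
    exact pow_eq_zero_iff (two_ne_zero) |>.mp h5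
  -- restrict to a Sylow subgroup
  obtain ⟨P⟩ : Nonempty (Sylow p G) := inferInstance
  have hP : Nat.card (P : Subgroup G) = p ^ a := by rw [ha]; exact Sylow.card_eq_multiplicity P
  haveI : Fintype (P : Subgroup G) := Fintype.ofFinite _
  have hPne : (Nat.card (P : Subgroup G) : ℂ) ≠ 0 := by
    rw [hP]; exact_mod_cast (pow_pos hp.pos a).ne'
  obtain ⟨t, ht⟩ : ∃ t, t = trivMult (P : Subgroup G) (χ : G → ℂ) := ⟨_, rfl⟩
  have hsumP : ∀ β : Cfsg.IrrCharacter G, ∑ x : (P : Subgroup G), (β : G → ℂ) x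
      = (Nat.card (P : Subgroup G) : ℂ) * (trivMult (P : Subgroup G) (β : G → ℂ) : ℂ) := by
    intro β
    rw [← trivMult_spec (P : Subgroup G) (IsIrrCharacter.isCharacter β.2), ← mul_assoc,
      mul_inv_cancel₀ hPne, one_mul, finsum_eq_sum_of_fintype]
  have htΩ : ∀ ψ : Cfsg.IrrCharacter G, Pr ψ →
      ∑ x : (P : Subgroup G), (ψ : G → ℂ) x = (Nat.card (P : Subgroup G) : ℂ) * (t : ℂ) := by
    intro ψ hψ
    obtain ⟨σ, hσ, hψσ⟩ := (hPri ψ).mp hψ
    rw [hψσ]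
    beta_reduce
    rw [← map_sum, hsumP χ, ← ht, map_mul, map_natCast, map_natCast]
  obtain ⟨cf, hcf, hcfi, -⟩ := tildeFun_int_coeff hM χ
  have hcfc : ∀ β, cf β = cInt p (χ : G → ℂ) (β : G → ℂ) := by
    intro β
    have := cInt_spec hM χ β
    rw [hcfi β] at this
    exact_mod_cast this
  have h1 := finsum_subgroup_eq_of_vanish hp (P : Subgroup G) hP (tildeFun p (χ : G → ℂ))
    (by
      intro x hx
      rw [tildeFun_eq]
      simp only [if_pos hx])
  have h2 : tildeFun p (χ : G → ℂ) 1 = ((p ^ a : ℕ) : ℂ) * (deg : ℂ) := by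
    rw [tildeFun_eq]
    beta_reduce
    rw [if_neg (by rw [orderOf_one]; exact hp.not_dvd_one), ← ha,
      IsCharacter.apply_one_eq_charDegree (IsIrrCharacter.isCharacter χ.2), ← hdeg]
  have h3 : ∑ᶠ x : (P : Subgroup G), tildeFun p (χ : G → ℂ) x
      = (c : ℂ) * ((r : ℂ) * ((Nat.card (P : Subgroup G) : ℂ) * (t : ℂ))) := by
    rw [finsum_eq_sum_of_fintype, hcf]
    simp_rw [Finset.sum_apply, Pi.smul_apply, smul_eq_mul]
    rw [Finset.sum_comm]
    simp_rw [← Finset.mul_sum]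
    rw [← Finset.sum_filter_add_sum_filter_not Finset.univ Pr]
    have e1 : ∑ β ∈ Finset.univ.filter (fun β => ¬ Pr β),
        (cf β : ℂ) * ∑ x : (P : Subgroup G), (β : G → ℂ) x = 0 := by
      apply Finset.sum_eq_zero
      intro β hβ
      rw [Finset.mem_filter] at hβ
      rw [hcfc β, hzero β hβ.2, Int.cast_zero, zero_mul]
    have e2 : ∑ β ∈ Finset.univ.filter Pr,
        (cf β : ℂ) * ∑ x : (P : Subgroup G), (β : G → ℂ) x
        = ∑ β ∈ Finset.univ.filter Pr, (c : ℂ) * ((Nat.card (P : Subgroup G) : ℂ) * (t : ℂ)) := by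
      apply Finset.sum_congr rfl
      intro β hβ
      rw [Finset.mem_filter] at hβ
      rw [hcfc β, hcΩ β hβ.2, htΩ β hβ.2]
      push_cast
      rfl
    rw [e1, e2, add_zero, Finset.sum_const, hr', nsmul_eq_mul]
    ring
  rw [h3, h2, hP] at h1
  have h4 : ((c * (r * (p ^ a * t)) : ℕ) : ℂ) = ((p ^ a * deg : ℕ) : ℂ) := by
    push_cast
    push_cast at h1
    exact h1
  have h5 : c * (r * (p ^ a * t)) = p ^ a * deg := by exact_mod_cast h4
  have h6 : deg = p ^ a * t := by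
    have : p ^ a * deg = p ^ a * (p ^ a * t) := by
      rw [← h5, hch, hrs]
      rw [hpa]
      ring
    exact Nat.eq_of_mul_eq_mul_left (pow_pos hp.pos a) this
  exact ⟨t, h6⟩

end pconj

end Cfsg.Agent.Lib.Helper6
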