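import Mathlib
import Cfsg.Agent.Lib.Helper6.PConj
import Cfsg.Agent.Lib.Helper6.CAut
import Cfsg.Agent.Lib.Helper6.GaloisPerm
import Cfsg.Agent.Lib.Helper6.BlkPReg
import Cfsg.Agent.Lib.Helper6.BlkLocal

/-!
# Field automorphisms and power maps on characters
-/

set_option autoImplicit false
set_option linter.unusedSectionVars false

namespace Cfsg.Agent.Lib.Helper6.PConj2

open Cfsg.Agent.Lib.Helper6
open scoped ComplexConjugate

/-- every automorphism of `ℂ` acts on the `n`-th roots of unity as a power map -/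
theorem exists_pow_of_ringEquiv (n : ℕ) (hn : n ≠ 0) (σ : ℂ ≃+* ℂ) :
    ∃ k : ℕ, k.Coprime n ∧ ∀ μ : ℂ, μ ^ n = 1 → σ μ = μ ^ k := by
  have hprim := Complex.isPrimitiveRoot_exp n hn
  have : NeZero n := ⟨hn⟩
  have hσprim : IsPrimitiveRoot (σ (Complex.exp (2 * Real.pi * Complex.I / n))) n :=
    hprim.map_of_injective σ.injective
  obtain ⟨k, -, hk⟩ := hprim.eq_pow_of_pow_eq_one hσprim.pow_eq_one
  refine ⟨k, ?_, ?_⟩
  · rw [← hk] at hσprim
    exact (hprim.pow_iff_coprime (Nat.pos_of_ne_zero hn) k).mp hσprim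
  · intro μ hμ
    obtain ⟨j, -, rfl⟩ := hprim.eq_pow_of_pow_eq_one hμ
    rw [map_pow, ← hk, ← pow_mul, ← pow_mul, Nat.mul_comm k j]

theorem prim_pow_eq_iff {ζ : ℂ} {g' : ℕ} (h : IsPrimitiveRoot ζ g') (hg : g' ≠ 0) (a b : ℕ) :
    ζ ^ a = ζ ^ b ↔ a ≡ b [MOD g'] := by
  have hne : ζ ≠ 0 := h.ne_zero hg
  have h1 : orderOf (Units.mk0 ζ hne) = g' := by
    rw [← orderOf_units, Units.val_mk0]
    exact h.eq_orderOf.symm
  rw [← h1, ← pow_eq_pow_iff_modEq]
  constructor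
  · intro H
    apply Units.ext
    simpa using H
  · intro H
    have := congrArg Units.val H
    simpa using this

/-- the values of characters under an automorphism acting as the `k`-th power -/
theorem ringEquiv_character_pow {H : Type*} [Group H] [Finite H] {n k : ℕ} (hn : n ≠ 0)
    (σ : ℂ ≃+* ℂ) (hσ : ∀ μ : ℂ, μ ^ n = 1 → σ μ = μ ^ k) {ψ : H → ℂ}
    (hψ : Cfsg.IsCharacter H ψ) (x : H) (hx : x ^ n = 1) : σ (ψ x) = ψ (x ^ k) := by
  classical
  have : Fintype H := Fintype.ofFinite H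
  obtain ⟨m, μ, hμ, hk⟩ := IsCharacter.exists_eigen_pow hψ x n (Nat.pos_of_ne_zero hn) hx
  have h1 := hk 1
  simp only [pow_one] at h1
  rw [h1, hk k, map_sum]
  apply Finset.sum_congr rfl
  intro i _
  exact hσ _ (hμ i)

/-- an automorphism fixing `exp(2πi/g')` acts as a power `k ≡ 1 (mod g')` -/
theorem modEq_one_of_fix {n g' k : ℕ} (hg' : g' ∣ n) (hg'0 : g' ≠ 0) (σ : ℂ ≃+* ℂ)
    (hσ : ∀ μ : ℂ, μ ^ n = 1 → σ μ = μ ^ k)
    (hfix : σ (Complex.exp (2 * Real.pi * Complex.I / (g' : ℕ)))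
      = Complex.exp (2 * Real.pi * Complex.I / (g' : ℕ))) : k ≡ 1 [MOD g'] := by
  have hprim := Complex.isPrimitiveRoot_exp g' hg'0
  have h1 : Complex.exp (2 * Real.pi * Complex.I / (g' : ℕ)) ^ n = 1 := by
    obtain ⟨c, rfl⟩ := hg'
    rw [pow_mul, hprim.pow_eq_one, one_pow]
  have h2 := hσ _ h1
  rw [hfix] at h2
  have h3 : Complex.exp (2 * Real.pi * Complex.I / (g' : ℕ)) ^ k
      = Complex.exp (2 * Real.pi * Complex.I / (g' : ℕ)) ^ 1 := by
    rw [pow_one]; exact h2.symm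
  exact (prim_pow_eq_iff hprim hg'0 k 1).mp h3

/-- conversely a power `k ≡ 1 (mod g')` fixes `exp(2πi/g')` -/
theorem fix_of_modEq_one {n g' k : ℕ} (hg' : g' ∣ n) (hg'0 : g' ≠ 0) (σ : ℂ ≃+* ℂ)
    (hσ : ∀ μ : ℂ, μ ^ n = 1 → σ μ = μ ^ k) (hk : k ≡ 1 [MOD g']) :
    σ (Complex.exp (2 * Real.pi * Complex.I / (g' : ℕ)))
      = Complex.exp (2 * Real.pi * Complex.I / (g' : ℕ)) := by
  have hprim := Complex.isPrimitiveRoot_exp g' hg'0
  have h1 : Complex.exp (2 * Real.pi * Complex.I / (g' : ℕ)) ^ n = 1 := by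
    obtain ⟨c, rfl⟩ := hg'
    rw [pow_mul, hprim.pow_eq_one, one_pow]
  rw [hσ _ h1]
  have h3 : Complex.exp (2 * Real.pi * Complex.I / (g' : ℕ)) ^ k
      = Complex.exp (2 * Real.pi * Complex.I / (g' : ℕ)) ^ 1 := by
    exact (prim_pow_eq_iff hprim hg'0 k 1).mpr hk
  rw [h3, pow_one]

section blocks

variable {H : Type*} [Group H] [Fintype H] [DecidableEq H] {p : ℕ} {M : Ideal Cfsg.AlgInt}

/-- irreducible characters agreeing on the `p`-regular elements lie in the same block -/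
theorem sameBlock_of_agree_pRegular (hM : Cfsg.IsPModular p M) (χ ψ : Cfsg.IrrCharacter H)
    (h : ∀ g : H, ¬ p ∣ orderOf g → (χ : H → ℂ) g = (ψ : H → ℂ) g) :
    Cfsg.SameBlock M (χ : H → ℂ) (ψ : H → ℂ) := by
  apply sameBlock_of_forall_pRegular hM
  intro g hg
  have h1 : ¬ p ∣ orderOf (1 : H) := by
    rw [orderOf_one]
    exact hM.1.one_lt.ne' ∘ Nat.dvd_one.mp
  unfold Cfsg.centralChar
  rw [h g hg, h 1 h1, sub_self]
  exact memLocalIdeal_zero hM

/-- a power map fixing the `p`-regular elements preserves the blocks -/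
theorem powIrr_mem_blockOf (hM : Cfsg.IsPModular p M) {k : ℕ} (hk : k.Coprime (Nat.card H))
    (hreg : ∀ x : H, ¬ p ∣ orderOf x → x ^ k = x) (χ : Cfsg.IrrCharacter H) :
    powIrr k hk χ ∈ Cfsg.blockOf M (χ : H → ℂ) := by
  apply sameBlock_of_agree_pRegular hM
  intro g hg
  rw [powIrr_apply, hreg g hg]

/-- inner products are invariant under power maps -/
theorem classInner_comp_pow {k : ℕ} (hk : k.Coprime (Nat.card H)) (f g : H → ℂ) :
    Cfsg.classInner (fun x => f (x ^ k)) (fun x => g (x ^ k)) = Cfsg.classInner f g := by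
  unfold Cfsg.classInner
  congr 1
  exact (powCoprime hk.symm).sum_comp (fun x => f x * conj (g x))

end blocks

end Cfsg.Agent.Lib.Helper6.PConj2
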