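import Mathlib
import Cfsg.Agent.Lib.Helper6.PB13
import Cfsg.Agent.Lib.Helper6.PConj2

/-!
# Power maps (Galois conjugation) on the characters of a block with defect group of prime order
-/

set_option autoImplicit false
set_option linter.unusedSectionVars false

namespace Cfsg.Agent.Lib.Helper6.PB

open Cfsg.Agent.Lib.Helper6 Cfsg.Agent.Lib.Helper6.PConj2
open scoped ComplexConjugate

variable {G : Type*} [Group G] [Fintype G] [DecidableEq G] {p : ℕ} [hp : Fact p.Prime]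
variable (P : Sylow p G)
variable [Fintype ↥(Subgroup.centralizer ((P : Subgroup G) : Set G))]
variable [Fintype ↥(Subgroup.normalizer ((P : Subgroup G) : Set G))]
variable {M : Ideal Cfsg.AlgInt}

local notation "𝐂" => Subgroup.centralizer ((P : Subgroup G) : Set G)
local notation "𝐍" => Subgroup.normalizer ((P : Subgroup G) : Set G)

theorem coprime_C {k : ℕ} (hk : k.Coprime (Nat.card G)) : k.Coprime (Nat.card 𝐂) :=
  Nat.Coprime.coprime_dvd_right (Subgroup.card_subgroup_dvd_card _) hk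

/-- the power map on the irreducible characters of the centralizer -/
noncomputable def pw (k : ℕ) (hk : k.Coprime (Nat.card G)) (ξ : Cfsg.IrrCharacter 𝐂) :
    Cfsg.IrrCharacter 𝐂 := powIrr k (coprime_C P hk) ξ

theorem pw_apply (k : ℕ) (hk : k.Coprime (Nat.card G)) (ξ : Cfsg.IrrCharacter 𝐂) (c : 𝐂) :
    (pw P k hk ξ : 𝐂 → ℂ) c = (ξ : 𝐂 → ℂ) (c ^ k) := rfl

theorem pw_injective (k : ℕ) (hk : k.Coprime (Nat.card G)) : Function.Injective (pw P k hk) :=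
  powIrr_injective k (coprime_C P hk)

/-- multiplicities are invariant under simultaneous power maps -/
theorem mlt_pow (k : ℕ) (hk : k.Coprime (Nat.card G)) (χ : Cfsg.IrrCharacter G)
    (ξ : Cfsg.IrrCharacter 𝐂) : mlt P (powIrr k hk χ) (pw P k hk ξ) = mlt P χ ξ := by
  have h1 := mlt_spec P (powIrr k hk χ) (pw P k hk ξ)
  have h2 := mlt_spec P χ ξ
  have h3 : Cfsg.classInner (fun c : 𝐂 => (powIrr k hk χ : G → ℂ) c) (pw P k hk ξ : 𝐂 → ℂ)
      = Cfsg.classInner (fun c : 𝐂 => (χ : G → ℂ) c) (ξ : 𝐂 → ℂ) :=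
    classInner_comp_pow (coprime_C P hk) (fun c : 𝐂 => (χ : G → ℂ) c) (ξ : 𝐂 → ℂ)
  rw [h1, h2] at h3
  exact_mod_cast h3

variable {P}

theorem pw_mem_blockOf (hM : Cfsg.IsPModular p M) {k : ℕ} (hk : k.Coprime (Nat.card G))
    (hreg : ∀ x : G, ¬ p ∣ orderOf x → x ^ k = x) (ξ : Cfsg.IrrCharacter 𝐂) :
    pw P k hk ξ ∈ Cfsg.blockOf M (ξ : 𝐂 → ℂ) := by
  apply powIrr_mem_blockOf hM (coprime_C P hk) _ ξ
  intro x hx
  apply Subtype.ext
  rw [Subgroup.coe_pow]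
  apply hreg
  rwa [Subgroup.orderOf_coe]

theorem powIrr_mem_block (hM : Cfsg.IsPModular p M) {B : Set (Cfsg.IrrCharacter G)}
    (hB : Cfsg.IsPBlock M B) {k : ℕ} (hk : k.Coprime (Nat.card G))
    (hreg : ∀ x : G, ¬ p ∣ orderOf x → x ^ k = x) {χ : Cfsg.IrrCharacter G} (hχ : χ ∈ B) :
    powIrr k hk χ ∈ B := by
  obtain ⟨χ₀, rfl⟩ := hB
  have := powIrr_mem_blockOf hM hk hreg χ
  rw [← blockOf_eq_of_mem hM hχ] at this
  exact this

variable (hP : Nat.card P = p) (hM : Cfsg.IsPModular p M)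
include hP hM

/-- the canonical character is fixed by the power maps -/
theorem pw_theta {b : Set (Cfsg.IrrCharacter 𝐂)} (hb : Cfsg.IsPBlock M b)
    {θ : Cfsg.IrrCharacter 𝐂} (hθ : θ ∈ b)
    (hθP : ∀ x : 𝐂, (x : G) ∈ (P : Subgroup G) → (θ : 𝐂 → ℂ) x = (θ : 𝐂 → ℂ) 1)
    {k : ℕ} (hk : k.Coprime (Nat.card G)) (hreg : ∀ x : G, ¬ p ∣ orderOf x → x ^ k = x) :
    pw P k hk θ = θ := by
  have h1 : pw P k hk θ ∈ b := by
    obtain ⟨ξ₀, rfl⟩ := hb
    have := pw_mem_blockOf (P := P) hM hk hreg θ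
    rw [← blockOf_eq_of_mem hM hθ] at this
    exact this
  apply theta_unique P hP hM hb h1 hθ ?_ hθP
  intro x hx
  rw [pw_apply, pw_apply, one_pow]
  exact hθP (x ^ k) (by rw [Subgroup.coe_pow]; exact pow_mem hx k)

namespace Loc

variable (L : Loc M P)

theorem pw_mem_star {k : ℕ} (hk : k.Coprime (Nat.card G))
    (hreg : ∀ x : G, ¬ p ∣ orderOf x → x ^ k = x) {ξ : Cfsg.IrrCharacter 𝐂} (hξ : ξ ∈ L.star) :
    pw P k hk ξ ∈ L.star := by
  refine ⟨?_, ?_⟩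
  · have h1 := pw_mem_blockOf (P := P) hM hk hreg ξ
    have h2 : ξ ∈ Cfsg.blockOf M (L.θ : 𝐂 → ℂ) := by rw [← L.b_eq hP hM]; exact hξ.1
    rw [L.b_eq hP hM, blockOf_eq_of_mem hM h2]
    exact h1
  · intro h
    have h2 := pw_theta hP hM L.hb L.hθ L.hθP hk hreg
    exact hξ.2 (pw_injective P k hk (h.trans h2.symm))

theorem aco_pow {k : ℕ} (hk : k.Coprime (Nat.card G))
    (hreg : ∀ x : G, ¬ p ∣ orderOf x → x ^ k = x) (ξ : Cfsg.IrrCharacter 𝐂)
    (χ : Cfsg.IrrCharacter G) :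
    aco P L.θ (pw P k hk ξ) (powIrr k hk χ) = aco P L.θ ξ χ := by
  unfold aco
  have h1 := mlt_pow P k hk χ L.θ
  rw [pw_theta hP hM L.hb L.hθ L.hθP hk hreg] at h1
  rw [h1, mlt_pow]

variable {B : Set (Cfsg.IrrCharacter G)} (hB : Cfsg.IsPBlock M B)
  (hBP : Cfsg.IsDefectGroup p M B (P : Subgroup G))
  (hind : Cfsg.IsInducedBlock M (Subgroup.centralizer ((P : Subgroup G) : Set G)) L.b B)
include hB hBP hind

/-- if the coefficients of `χ` are constant on the non-canonical characters, its multiplicities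
are invariant under the power maps -/
theorem mlt_pw_eq {χ : Cfsg.IrrCharacter G} (hχ : χ ∈ B) {c : ℤ}
    (hc : ∀ ξ ∈ L.star, aco P L.θ ξ χ = c) {k : ℕ} (hk : k.Coprime (Nat.card G))
    (hreg : ∀ x : G, ¬ p ∣ orderOf x → x ^ k = x) (ξ : Cfsg.IrrCharacter 𝐂) :
    mlt P χ (pw P k hk ξ) = mlt P χ ξ := by
  have hblock : Cfsg.IsPBlock M (Cfsg.blockOf M (ξ : 𝐂 → ℂ)) := ⟨ξ, rfl⟩
  obtain ⟨θ', hθ', hθ'P⟩ := exists_theta P hP hM hblock
  have hξb : ξ ∈ Cfsg.blockOf M (ξ : 𝐂 → ℂ) := sameBlock_refl hM _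
  have hpwb : pw P k hk ξ ∈ Cfsg.blockOf M (ξ : 𝐂 → ℂ) := pw_mem_blockOf hM hk hreg ξ
  have hpwθ' := pw_theta hP hM hblock hθ' hθ'P hk hreg
  by_cases hξθ : ξ = θ'
  · rw [hξθ, hpwθ']
  have hpwne : pw P k hk ξ ≠ θ' := fun h => hξθ (pw_injective P k hk (h.trans hpwθ'.symm))
  have hBχ : Cfsg.blockOf M (χ : G → ℂ) = B := by
    obtain ⟨χ₀, rfl⟩ := hB
    exact (blockOf_eq_of_mem hM hχ).symm
  by_cases hI : Cfsg.IsInducedBlock M 𝐂 (Cfsg.blockOf M (ξ : 𝐂 → ℂ)) B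
  · obtain ⟨n, hn⟩ := exists_act_image_eq P hP hM hBP hind hI
    have hcan : act P n L.θ = θ' := by
      apply theta_unique P hP hM hblock ?_ hθ' (act_const_P P n L.hθP) hθ'P
      rw [hn]
      exact ⟨L.θ, L.hθ, rfl⟩
    rw [hn] at hξb hpwb
    obtain ⟨ξ₀, hξ₀, hξ₀eq⟩ := hξb
    obtain ⟨ξ₁, hξ₁, hξ₁eq⟩ := hpwb
    have h0 : ξ₀ ≠ L.θ := by
      intro h
      apply hξθ
      rw [← hξ₀eq, h, hcan]
    have h1 : ξ₁ ≠ L.θ := by
      intro h
      apply hpwne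
      rw [← hξ₁eq, h, hcan]
    have e0 := hc ξ₀ ⟨hξ₀, h0⟩
    have e1 := hc ξ₁ ⟨hξ₁, h1⟩
    unfold aco at e0 e1
    have e2 : mlt P χ (pw P k hk ξ) = mlt P χ ξ₁ := by rw [← hξ₁eq, mlt_act]
    have e3 : mlt P χ ξ = mlt P χ ξ₀ := by rw [← hξ₀eq, mlt_act]
    rw [e2, e3]
    have : (mlt P χ ξ₁ : ℤ) = mlt P χ ξ₀ := by linarith
    exact_mod_cast this
  · have hnot : ¬ Cfsg.IsInducedBlock M 𝐂 (Cfsg.blockOf M (ξ : 𝐂 → ℂ))
        (Cfsg.blockOf M (χ : G → ℂ)) := by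
      rw [hBχ]; exact hI
    rw [mlt_eq_of_not_induced P hP hM ⟨_, θ', hblock, hθ', hθ'P⟩ χ hnot hpwb,
      mlt_eq_of_not_induced P hP hM ⟨_, θ', hblock, hθ', hθ'P⟩ χ hnot hξb]

/-- a character of the block with constant coefficients is fixed by the power maps -/
theorem powIrr_eq_of_const {χ : Cfsg.IrrCharacter G} (hχ : χ ∈ B) {c : ℤ}
    (hc : ∀ ξ ∈ L.star, aco P L.θ ξ χ = c) {k : ℕ} (hk : k.Coprime (Nat.card G))
    (hreg : ∀ x : G, ¬ p ∣ orderOf x → x ^ k = x) : powIrr k hk χ = χ := by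
  classical
  have : Fintype (Cfsg.IrrCharacter 𝐂) := Fintype.ofFinite _
  have hmlt := fun ξ => L.mlt_pw_eq hP hM hB hBP hind hχ hc hk hreg ξ
  have hres : ∀ c : 𝐂, (χ : G → ℂ) c
      = ∑ ξ : Cfsg.IrrCharacter 𝐂, (mlt P χ ξ : ℂ) * (ξ : 𝐂 → ℂ) c := by
    intro c
    have h := classFunction_eq_sum (fun n : 𝐂 => (χ : G → ℂ) n)
      (IsCharacter.isClassFunction (IsCharacter.restrict 𝐂 (IsIrrCharacter.isCharacter χ.2)))
    have h2 := congrFun h c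
    simp only [Finset.sum_apply, Pi.smul_apply, smul_eq_mul] at h2
    rw [h2]
    apply Finset.sum_congr rfl
    intro ξ _
    rw [mlt_spec]
  have hC : ∀ c : 𝐂, (χ : G → ℂ) ((c : G) ^ k) = (χ : G → ℂ) c := by
    intro c
    have h1 := hres (c ^ k)
    rw [Subgroup.coe_pow] at h1
    rw [h1, hres c]
    have hbij : Function.Bijective (pw P k hk) :=
      Finite.injective_iff_bijective.mp (pw_injective P k hk)
    rw [← hbij.sum_comp (fun ξ => (mlt P χ ξ : ℂ) * (ξ : 𝐂 → ℂ) c)]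
    apply Finset.sum_congr rfl
    intro ξ _
    rw [hmlt ξ, pw_apply]
  apply Subtype.ext
  funext g
  rw [powIrr_apply]
  by_cases hg : p ∣ orderOf g
  · obtain ⟨t, z, hz, -, y, hy, -, hconj⟩ := exists_conj_decomp P hP g hg
    have hcC : t⁻¹ * g * t ∈ 𝐂 := by
      rw [hconj]; exact mul_mem (P_le_C P hP hz) hy
    have h1 := hC ⟨t⁻¹ * g * t, hcC⟩
    have h2 : (t⁻¹ * g * t) ^ k = t⁻¹ * g ^ k * t := by
      have := conj_pow (a := t⁻¹) (b := g) (i := k)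
      rw [inv_inv] at this
      exact this
    have hcf := IsIrrCharacter.isClassFunction χ.2
    have h3 : (χ : G → ℂ) (t⁻¹ * g ^ k * t) = (χ : G → ℂ) (g ^ k) := by
      have := hcf (g ^ k) t⁻¹
      rwa [inv_inv] at this
    have h4 : (χ : G → ℂ) (t⁻¹ * g * t) = (χ : G → ℂ) g := by
      have := hcf g t⁻¹
      rwa [inv_inv] at this
    rw [← h3, ← h2, ← h4]
    exact h1
  · rw [hreg g hg]

end Loc

end Cfsg.Agent.Lib.Helper6.PB
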