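import Mathlib
import Cfsg.Agent.Lib.Helper6.PB14

/-!
# The exceptional characters form a full class of `p`-conjugate characters
-/

set_option autoImplicit false
set_option linter.unusedSectionVars false

namespace Cfsg.Agent.Lib.Helper6.PB

open Cfsg.Agent.Lib.Helper6 Cfsg.Agent.Lib.Helper6.PConj2
open scoped ComplexConjugate

variable {G : Type*} [Group G] [Fintype G] [DecidableEq G] {p : ℕ} [hp : Fact p.Prime]
variable {P : Sylow p G}
variable [Fintype ↥(Subgroup.centralizer ((P : Subgroup G) : Set G))]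
variable [Fintype ↥(Subgroup.normalizer ((P : Subgroup G) : Set G))]
variable {M : Ideal Cfsg.AlgInt}

local notation "𝐂" => Subgroup.centralizer ((P : Subgroup G) : Set G)
local notation "𝐍" => Subgroup.normalizer ((P : Subgroup G) : Set G)

/-- powers congruent to one modulo the `p'`-part of the order fix the `p`-regular elements -/
theorem reg_of_modEq {k : ℕ}
    (hk : k ≡ 1 [MOD Nat.card G / p ^ (Nat.card G).factorization p]) (x : G)
    (hx : ¬ p ∣ orderOf x) : x ^ k = x := by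
  have h1 := pRegular_pow_ordCompl hp.out x hx
  have h2 : orderOf x ∣ Nat.card G / p ^ (Nat.card G).factorization p :=
    orderOf_dvd_of_pow_eq_one h1
  have h3 : k ≡ 1 [MOD orderOf x] := hk.of_dvd h2
  have h4 : x ^ k = x ^ 1 := pow_eq_pow_iff_modEq.mpr h3
  rw [h4, pow_one]

namespace Loc

variable (L : Loc M P)
variable (hP : Nat.card P = p) (hM : Cfsg.IsPModular p M)
include hP hM

/-- a non-canonical character of the block is injective on `P` -/
theorem inj_on_P {ξ : Cfsg.IrrCharacter 𝐂} (hξ : ξ ∈ L.star) {u u' : 𝐂}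
    (hu : (u : G) ∈ (P : Subgroup G)) (hu' : (u' : G) ∈ (P : Subgroup G))
    (h : (ξ : 𝐂 → ℂ) u = (ξ : 𝐂 → ℂ) u') : u = u' := by
  have hinv : ((u'⁻¹ : 𝐂) : G) ∈ (P : Subgroup G) := by
    rw [Subgroup.coe_inv]; exact inv_mem hu'
  have h1 := apply_mul_of_mem_P P ξ hinv u
  have h2 := apply_mul_of_mem_P P ξ hinv u'
  rw [h, ← h2, inv_mul_cancel] at h1
  have hmem : ((u'⁻¹ * u : 𝐂) : G) ∈ (P : Subgroup G) := by
    rw [Subgroup.coe_mul]; exact mul_mem hinv hu
  have h3 := eq_one_of_apply_eq P hP hM L.hb L.hθ L.hθP hξ.1 hξ.2 hmem h1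
  exact (inv_mul_eq_one.mp h3).symm

/-- any two non-canonical characters of the block are conjugate under a power map fixing the
`p`-regular elements -/
theorem exists_pw_eq {ξ ξ' : Cfsg.IrrCharacter 𝐂} (hξ : ξ ∈ L.star) (hξ' : ξ' ∈ L.star) :
    ∃ (k : ℕ) (hk : k.Coprime (Nat.card G)),
      k ≡ 1 [MOD Nat.card G / p ^ (Nat.card G).factorization p] ∧ pw P k hk ξ = ξ' := by
  classical
  obtain ⟨g', hg'⟩ : ∃ g' : ℕ, g' = Nat.card G / p ^ (Nat.card G).factorization p := ⟨_, rfl⟩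
  rw [← hg']
  have hfac : (Nat.card G).factorization p = 1 := factorization_card P hP
  have hn : p * g' = Nat.card G := by
    have := Nat.ordProj_mul_ordCompl_eq_self (Nat.card G) p
    rw [hfac, pow_one] at this
    rw [hg', hfac, pow_one]
    exact this
  have hcop : Nat.Coprime p g' := by
    rw [hg']
    exact Nat.coprime_ordCompl hp.out Nat.card_pos.ne'
  obtain ⟨x₀, hx₀, hord⟩ := exists_gen P hP
  have hx₀P : x₀ ∈ (P : Subgroup G) := by rw [hx₀]; exact Subgroup.mem_zpowers x₀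
  have hX₀ord : orderOf (⟨x₀, P_le_C P hP hx₀P⟩ : 𝐂) = p := by
    rw [← Subgroup.orderOf_coe]; exact hord
  have hkk1 : ∀ a : Fin (p - 1),
      ((Nat.chineseRemainder hcop (a + 1) 1 : ℕ)) ≡ a + 1 [MOD p] :=
    fun a => (Nat.chineseRemainder hcop (a + 1) 1).2.1
  have hkk2 : ∀ a : Fin (p - 1),
      ((Nat.chineseRemainder hcop (a + 1) 1 : ℕ)) ≡ 1 [MOD g'] :=
    fun a => (Nat.chineseRemainder hcop (a + 1) 1).2.2
  have hkkc : ∀ a : Fin (p - 1),
      ((Nat.chineseRemainder hcop (a + 1) 1 : ℕ)).Coprime (Nat.card G) := by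
    intro a
    rw [← hn]
    apply Nat.Coprime.mul_right
    · apply Nat.Coprime.symm
      rw [Nat.Prime.coprime_iff_not_dvd hp.out]
      intro hdvd
      have h1 : (a : ℕ) + 1 ≡ 0 [MOD p] :=
        (hkk1 a).symm.trans ((Nat.modEq_zero_iff_dvd).mpr hdvd)
      have h2 : p ∣ (a : ℕ) + 1 := (Nat.modEq_zero_iff_dvd).mp h1
      have h3 := Nat.le_of_dvd (Nat.succ_pos _) h2
      have h4 := a.2
      omega
    · have := (hkk2 a).gcd_eq
      rw [Nat.gcd_one_left] at this
      exact this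
  have hregs : ∀ a : Fin (p - 1), ∀ x : G, ¬ p ∣ orderOf x →
      x ^ ((Nat.chineseRemainder hcop (a + 1) 1 : ℕ)) = x := by
    intro a
    apply reg_of_modEq
    rw [← hg']
    exact hkk2 a
  have hinj : Function.Injective (fun a : Fin (p - 1) =>
      (⟨pw P _ (hkkc a) ξ, L.pw_mem_star hP hM (hkkc a) (hregs a) hξ⟩ :
        {ξ // ξ ∈ L.star})) := by
    intro a a' h
    have h1 : pw P _ (hkkc a) ξ = pw P _ (hkkc a') ξ := congrArg Subtype.val h
    have h2 := congrArg (fun η : Cfsg.IrrCharacter 𝐂 =>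
      (η : 𝐂 → ℂ) ⟨x₀, P_le_C P hP hx₀P⟩) h1
    simp only [pw_apply] at h2
    have h3 := L.inj_on_P hP hM hξ
      (by rw [Subgroup.coe_pow]; exact pow_mem hx₀P _)
      (by rw [Subgroup.coe_pow]; exact pow_mem hx₀P _) h2
    have h4 := pow_eq_pow_iff_modEq.mp h3
    rw [hX₀ord] at h4
    have h5 : (a : ℕ) + 1 ≡ (a' : ℕ) + 1 [MOD p] := (hkk1 a).symm.trans (h4.trans (hkk1 a'))
    have h6 := h5.eq_of_lt_of_lt (by have := a.2; omega) (by have := a'.2; omega)
    apply Fin.ext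
    omega
  have hcard : Nat.card {ξ // ξ ∈ L.star} ≤ Nat.card (Fin (p - 1)) := by
    rw [Nat.card_eq_fintype_card (α := Fin (p - 1)), Fintype.card_fin]
    exact (L.card_star hP hM).le
  have hbij := hinj.bijective_of_nat_card_le hcard
  obtain ⟨a, ha⟩ := hbij.2 ⟨ξ', hξ'⟩
  exact ⟨_, hkkc a, hkk2 a, congrArg Subtype.val ha⟩

namespace Str

omit L
variable {L : Loc M P} {B : Set (Cfsg.IrrCharacter G)} (K : L.Str B)
variable (hB : Cfsg.IsPBlock M B)
  (hBP : Cfsg.IsDefectGroup p M B (P : Subgroup G))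
  (hind : Cfsg.IsInducedBlock M (Subgroup.centralizer ((P : Subgroup G) : Set G)) L.b B)
include hB hBP hind

/-- the non-exceptional characters are fixed by the power maps -/
theorem powIrr_S {χ : Cfsg.IrrCharacter G} (hχ : χ ∈ K.S) {k : ℕ} (hk : k.Coprime (Nat.card G))
    (hreg : ∀ x : G, ¬ p ∣ orderOf x → x ^ k = x) : powIrr k hk χ = χ :=
  L.powIrr_eq_of_const hP hM hB hBP hind hχ.1 (c := K.δ χ) (fun _ hξ => K.aco_S hχ hξ) hk hreg

/-- the exceptional characters are permuted by the power maps -/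
theorem powIrr_mem_Y (j : L.J) {k : ℕ} (hk : k.Coprime (Nat.card G))
    (hreg : ∀ x : G, ¬ p ∣ orderOf x → x ^ k = x) : powIrr k hk (K.Λ j) ∈ K.Y := by
  by_contra hY
  have hmemB : powIrr k hk (K.Λ j) ∈ B := powIrr_mem_block hM hB hk hreg (K.mem j)
  have hS : powIrr k hk (K.Λ j) ∈ K.S := ⟨hmemB, hY⟩
  have h1 := K.powIrr_S hP hM hB hBP hind hS hk hreg
  have h2 := powIrr_injective k hk h1
  apply hY
  rw [h2]
  exact ⟨j, rfl⟩

/-- any two exceptional characters are conjugate under a power map -/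
theorem exists_powIrr_eq (i j : L.J) :
    ∃ (k : ℕ) (hk : k.Coprime (Nat.card G)),
      k ≡ 1 [MOD Nat.card G / p ^ (Nat.card G).factorization p] ∧
      powIrr k hk (K.Λ j) = K.Λ i := by
  obtain ⟨k, hk, hk1, hpw⟩ := L.exists_pw_eq hP hM (L.rep_mem j) (L.rep_mem i)
  have hreg := reg_of_modEq (G := G) (p := p) hk1
  refine ⟨k, hk, hk1, ?_⟩
  obtain ⟨i', hi'⟩ := K.powIrr_mem_Y hP hM hB hBP hind j hk hreg
  have h1 := L.aco_pow hP hM hk hreg (L.rep j) (K.Λ j)
  rw [hpw, ← hi', K.diag j] at h1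
  have hii : i' = i := by
    by_contra hne
    rw [K.off i' i hne] at h1
    rcases K.sgn (K.Λ j) with h | h <;> rw [h] at h1 <;> omega
  rw [← hi', hii]

end Str

end Loc

end Cfsg.Agent.Lib.Helper6.PB
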