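import Mathlib
import Cfsg.Agent.Lib.Helper6.PB15

/-!
# Restriction to the centralizer of a Sylow subgroup of prime order: multiplicities and orbits
-/

set_option autoImplicit false
set_option linter.unusedSectionVars false

namespace Cfsg.Agent.Lib.Helper6.BR

open Cfsg.Agent.Lib.Helper6 Cfsg.Agent.Lib.Helper6.PB
open scoped ComplexConjugate

variable {G : Type*} [Group G] [Fintype G] [DecidableEq G] {p : ℕ} [hp : Fact p.Prime]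
variable {P : Sylow p G}
variable [Fintype ↥(Subgroup.centralizer ((P : Subgroup G) : Set G))]
variable [Fintype ↥(Subgroup.normalizer ((P : Subgroup G) : Set G))]
variable {M : Ideal Cfsg.AlgInt}

local notation "𝐂" => Subgroup.centralizer ((P : Subgroup G) : Set G)
local notation "𝐍" => Subgroup.normalizer ((P : Subgroup G) : Set G)

/-- the restriction to the centralizer, expanded -/
theorem restrict_eq_sum [Fintype (Cfsg.IrrCharacter 𝐂)] (χ : Cfsg.IrrCharacter G) (c : 𝐂) :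
    (χ : G → ℂ) c = ∑ ξ : Cfsg.IrrCharacter 𝐂, (mlt P χ ξ : ℂ) * (ξ : 𝐂 → ℂ) c := by
  have hcf : Cfsg.IsClassFunction 𝐂 (fun c : 𝐂 => (χ : G → ℂ) c) :=
    IsCharacter.isClassFunction (IsCharacter.restrict 𝐂 (IsIrrCharacter.isCharacter χ.2))
  have h := classFunction_eq_sum _ hcf
  have h2 : (χ : G → ℂ) c = (∑ ξ : Cfsg.IrrCharacter 𝐂,
      Cfsg.classInner (fun c : 𝐂 => (χ : G → ℂ) c) (ξ : 𝐂 → ℂ) • (ξ : 𝐂 → ℂ)) c :=
    congrFun h c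
  rw [h2, Finset.sum_apply]
  apply Finset.sum_congr rfl
  intro ξ _
  rw [Pi.smul_apply, smul_eq_mul, mlt_spec]

theorem degree_eq_sum_nat [Fintype (Cfsg.IrrCharacter 𝐂)] (χ : Cfsg.IrrCharacter G) :
    Cfsg.charDegree (χ : G → ℂ)
      = ∑ ξ : Cfsg.IrrCharacter 𝐂, Cfsg.charDegree (ξ : 𝐂 → ℂ) * mlt P χ ξ := by
  have h := degree_eq_sum (P := P) χ
  exact_mod_cast h

theorem sum_le_degree [Fintype (Cfsg.IrrCharacter 𝐂)] (χ : Cfsg.IrrCharacter G)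
    (𝒯 : Finset (Cfsg.IrrCharacter 𝐂)) (h : ∀ ξ ∈ 𝒯, 1 ≤ mlt P χ ξ) :
    ∑ ξ ∈ 𝒯, Cfsg.charDegree (ξ : 𝐂 → ℂ) ≤ Cfsg.charDegree (χ : G → ℂ) := by
  rw [degree_eq_sum_nat (P := P) χ]
  calc ∑ ξ ∈ 𝒯, Cfsg.charDegree (ξ : 𝐂 → ℂ)
      ≤ ∑ ξ ∈ 𝒯, Cfsg.charDegree (ξ : 𝐂 → ℂ) * mlt P χ ξ :=
        Finset.sum_le_sum (fun ξ hξ => Nat.le_mul_of_pos_right _ (h ξ hξ))
    _ ≤ ∑ ξ : Cfsg.IrrCharacter 𝐂, Cfsg.charDegree (ξ : 𝐂 → ℂ) * mlt P χ ξ :=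
        Finset.sum_le_sum_of_subset (Finset.subset_univ _)

theorem mlt_eq_of_sum_eq [Fintype (Cfsg.IrrCharacter 𝐂)] [DecidableEq (Cfsg.IrrCharacter 𝐂)]
    (χ : Cfsg.IrrCharacter G) (𝒯 : Finset (Cfsg.IrrCharacter 𝐂))
    (h : ∀ ξ ∈ 𝒯, 1 ≤ mlt P χ ξ)
    (heq : ∑ ξ ∈ 𝒯, Cfsg.charDegree (ξ : 𝐂 → ℂ) = Cfsg.charDegree (χ : G → ℂ))
    (ξ : Cfsg.IrrCharacter 𝐂) : mlt P χ ξ = if ξ ∈ 𝒯 then 1 else 0 := by
  have hd := degree_eq_sum_nat (P := P) χ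
  have hg : ∑ ξ ∈ 𝒯, Cfsg.charDegree (ξ : 𝐂 → ℂ)
      = ∑ ξ : Cfsg.IrrCharacter 𝐂, (if ξ ∈ 𝒯 then Cfsg.charDegree (ξ : 𝐂 → ℂ) else 0) := by
    rw [Finset.sum_ite_mem, Finset.univ_inter]
  have hle : ∀ ξ ∈ (Finset.univ : Finset (Cfsg.IrrCharacter 𝐂)),
      (if ξ ∈ 𝒯 then Cfsg.charDegree (ξ : 𝐂 → ℂ) else 0)
        ≤ Cfsg.charDegree (ξ : 𝐂 → ℂ) * mlt P χ ξ := by
    intro ξ _
    split_ifs with hξ
    · exact Nat.le_mul_of_pos_right _ (h ξ hξ)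
    · exact Nat.zero_le _
  have hsum : ∑ ξ : Cfsg.IrrCharacter 𝐂, (if ξ ∈ 𝒯 then Cfsg.charDegree (ξ : 𝐂 → ℂ) else 0)
      = ∑ ξ : Cfsg.IrrCharacter 𝐂, Cfsg.charDegree (ξ : 𝐂 → ℂ) * mlt P χ ξ := by
    rw [← hg, heq, hd]
  have hpt := (Finset.sum_eq_sum_iff_of_le hle).mp hsum ξ (Finset.mem_univ _)
  have hpos := IsIrrCharacter.charDegree_pos ξ.2
  split_ifs with hξ
  · rw [if_pos hξ] at hpt
    have : Cfsg.charDegree (ξ : 𝐂 → ℂ) * 1 = Cfsg.charDegree (ξ : 𝐂 → ℂ) * mlt P χ ξ := by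
      rw [mul_one]; exact hpt
    exact (Nat.eq_of_mul_eq_mul_left hpos this).symm
  · rw [if_neg hξ] at hpt
    rcases Nat.eq_zero_or_pos (mlt P χ ξ) with h0 | h0
    · exact h0
    · have := Nat.mul_pos hpos h0
      omega

/-- the orbit of a character of the centralizer under the normalizer -/
noncomputable def orb [DecidableEq (Cfsg.IrrCharacter 𝐂)] (ξ : Cfsg.IrrCharacter 𝐂) :
    Finset (Cfsg.IrrCharacter 𝐂) :=
  Finset.univ.image (fun n : 𝐍 => act P n ξ)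

theorem mem_orb [DecidableEq (Cfsg.IrrCharacter 𝐂)] (ξ ξ' : Cfsg.IrrCharacter 𝐂) :
    ξ' ∈ orb ξ ↔ ∃ n : 𝐍, act P n ξ = ξ' := by
  unfold orb
  simp

theorem self_mem_orb [DecidableEq (Cfsg.IrrCharacter 𝐂)] (ξ : Cfsg.IrrCharacter 𝐂) :
    ξ ∈ orb ξ := (mem_orb ξ ξ).mpr ⟨1, act_one P ξ⟩

theorem card_orb_mul [DecidableEq (Cfsg.IrrCharacter 𝐂)] (ξ : Cfsg.IrrCharacter 𝐂)
    (S : Subgroup 𝐍) (hS : ∀ n : 𝐍, n ∈ S ↔ act P n ξ = ξ) :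
    (orb ξ).card * Nat.card S = Nat.card 𝐍 := by
  classical
  unfold orb
  have h1 := Finset.card_eq_sum_card_image (fun n : 𝐍 => act P n ξ) Finset.univ
  have h2 : ∀ ξ' ∈ Finset.univ.image (fun n : 𝐍 => act P n ξ),
      (Finset.univ.filter (fun n : 𝐍 => act P n ξ = ξ')).card = Nat.card S := by
    intro ξ' hξ'
    obtain ⟨m, -, rfl⟩ := Finset.mem_image.mp hξ'
    rw [Nat.card_eq_fintype_card, Fintype.card_subtype]
    apply Finset.card_bij (fun n _ => m⁻¹ * n)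
    · intro n hn
      have hn' := (Finset.mem_filter.mp hn).2
      refine Finset.mem_filter.mpr ⟨Finset.mem_univ _, ?_⟩
      rw [hS, act_mul, hn', act_inv_act]
    · intro a _ b _ h
      exact mul_left_cancel h
    · intro k hk
      have hk' := (Finset.mem_filter.mp hk).2
      refine ⟨m * k, Finset.mem_filter.mpr ⟨Finset.mem_univ _, ?_⟩, by simp⟩
      rw [act_mul, (hS k).mp hk']
  rw [Finset.sum_congr rfl h2, Finset.sum_const, smul_eq_mul, Finset.card_univ,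
    ← Nat.card_eq_fintype_card] at h1
  exact h1.symm

theorem card_C_mul_relIndex : Nat.card 𝐂 * ((𝐂).relIndex 𝐍) = Nat.card 𝐍 := by
  have h3 := Subgroup.card_mul_index ((𝐂).subgroupOf 𝐍)
  have h4 : Nat.card ((𝐂).subgroupOf 𝐍) = Nat.card 𝐂 := card_CN P
  rw [h4] at h3
  exact h3

theorem charDegree_act (n : 𝐍) (ξ : Cfsg.IrrCharacter 𝐂) :
    Cfsg.charDegree ((act P n ξ : Cfsg.IrrCharacter 𝐂) : 𝐂 → ℂ) = Cfsg.charDegree (ξ : 𝐂 → ℂ) := by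
  unfold Cfsg.charDegree
  rw [act_apply_one]

theorem sum_orb_degree [DecidableEq (Cfsg.IrrCharacter 𝐂)] (ξ : Cfsg.IrrCharacter 𝐂) :
    ∑ ξ' ∈ orb ξ, Cfsg.charDegree (ξ' : 𝐂 → ℂ) = (orb ξ).card * Cfsg.charDegree (ξ : 𝐂 → ℂ) := by
  rw [Finset.sum_const_nat]
  intro ξ' hξ'
  obtain ⟨n, rfl⟩ := (mem_orb ξ ξ').mp hξ'
  exact charDegree_act n ξ

theorem mlt_orb [DecidableEq (Cfsg.IrrCharacter 𝐂)] (χ : Cfsg.IrrCharacter G)
    {ξ ξ' : Cfsg.IrrCharacter 𝐂} (h : ξ' ∈ orb ξ) : mlt P χ ξ' = mlt P χ ξ := by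
  obtain ⟨n, rfl⟩ := (mem_orb ξ ξ').mp h
  exact mlt_act P χ n ξ

section loc

variable (L : Loc M P) (hP : Nat.card P = p) (hM : Cfsg.IsPModular p M)
include hP hM

theorem card_orb_star [DecidableEq (Cfsg.IrrCharacter 𝐂)] {ξ : Cfsg.IrrCharacter 𝐂}
    (hξ : ξ ∈ L.star) : (orb ξ).card = (𝐂).relIndex 𝐍 := by
  have hS : ∀ n : 𝐍, n ∈ CN P ↔ act P n ξ = ξ := by
    intro n
    constructor
    · intro hn
      exact act_of_mem_C P n ((mem_CN P n).mp hn) ξ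
    · intro h
      exact (mem_CN P n).mpr (stab_le_C P hP hM L.hb L.hθ L.hθP hξ.1 hξ.2 n h)
  have h1 := card_orb_mul ξ (CN P) hS
  rw [card_CN, ← card_C_mul_relIndex (P := P), mul_comm] at h1
  have hpos : 0 < Nat.card 𝐂 := Nat.card_pos
  exact Nat.eq_of_mul_eq_mul_left hpos h1

theorem card_orb_theta [DecidableEq (Cfsg.IrrCharacter 𝐂)] :
    (orb L.θ).card * L.e = (𝐂).relIndex 𝐍 := by
  have h1 := card_orb_mul L.θ L.stabN (fun n => L.mem_stabN n)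
  rw [L.card_stabN, ← card_C_mul_relIndex (P := P)] at h1
  have hpos : 0 < Nat.card 𝐂 := Nat.card_pos
  have h2 : Nat.card 𝐂 * ((orb L.θ).card * L.e) = Nat.card 𝐂 * ((𝐂).relIndex 𝐍) := by
    rw [← h1]; ring
  exact Nat.eq_of_mul_eq_mul_left hpos h2

theorem orb_theta_const [DecidableEq (Cfsg.IrrCharacter 𝐂)] {ξ : Cfsg.IrrCharacter 𝐂}
    (hξ : ξ ∈ orb L.θ) : ∀ x : 𝐂, (x : G) ∈ (P : Subgroup G) → (ξ : 𝐂 → ℂ) x = (ξ : 𝐂 → ℂ) 1 := by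
  obtain ⟨n, rfl⟩ := (mem_orb L.θ ξ).mp hξ
  exact act_const_P P n L.hθP

end loc

/-- constancy on `P` from the constituents -/
theorem const_of_constituents (χ : Cfsg.IrrCharacter G)
    (h : ∀ ξ : Cfsg.IrrCharacter 𝐂, mlt P χ ξ ≠ 0 →
      ∀ x : 𝐂, (x : G) ∈ (P : Subgroup G) → (ξ : 𝐂 → ℂ) x = (ξ : 𝐂 → ℂ) 1)
    (x : 𝐂) (hx : (x : G) ∈ (P : Subgroup G)) : (χ : G → ℂ) x = (χ : G → ℂ) 1 := by
  classical
  have : Fintype (Cfsg.IrrCharacter 𝐂) := Fintype.ofFinite _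
  have h1 := restrict_eq_sum (P := P) χ x
  have h2 := restrict_eq_sum (P := P) χ (1 : 𝐂)
  rw [h1]
  have h3 : ((1 : 𝐂) : G) = 1 := rfl
  rw [← h3, h2]
  apply Finset.sum_congr rfl
  intro ξ _
  by_cases h0 : mlt P χ ξ = 0
  · rw [h0]; simp
  · rw [h ξ h0 x hx]

end Cfsg.Agent.Lib.Helper6.BR
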