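import Mathlib
import Cfsg.Agent.Lib.Helper6.BR1

/-!
# Small degrees in a block with defect group of prime order
-/

set_option autoImplicit false
set_option linter.unusedSectionVars false

namespace Cfsg.Agent.Lib.Helper6.BR

open Cfsg.Agent.Lib.Helper6 Cfsg.Agent.Lib.Helper6.PB
open scoped ComplexConjugate

variable {G : Type*} [Group G] [Fintype G] [DecidableEq G] {p : ℕ} [hp : Fact p.Prime]
variable {P : Sylow p G}
variable [Fintype ↥(Subgroup.centralizer ((P : Subgroup G) : Set G))]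
variable [Fintype ↥(Subgroup.normalizer ((P : Subgroup G) : Set G))]
variable {M : Ideal Cfsg.AlgInt}

local notation "𝐂" => Subgroup.centralizer ((P : Subgroup G) : Set G)
local notation "𝐍" => Subgroup.normalizer ((P : Subgroup G) : Set G)

/-- a natural number below `p` congruent to a smaller one is equal to it -/
theorem eq_of_le_of_modEq {d D : ℕ} (hle : D ≤ d) (hlt : d < p)
    (h : (d : ℤ) ≡ (D : ℤ) [ZMOD p]) : d = D := by
  have h1 : (p : ℤ) ∣ ((d - D : ℕ) : ℤ) := by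
    rw [Nat.cast_sub hle]
    exact (Int.modEq_iff_dvd.mp h.symm)
  have h2 : p ∣ d - D := Int.natCast_dvd_natCast.mp h1
  have h3 : d - D = 0 := Nat.eq_zero_of_dvd_of_lt h2 (by omega)
  omega

section str

variable {L : Loc M P} (hP : Nat.card P = p) (hM : Cfsg.IsPModular p M)
variable {B : Set (Cfsg.IrrCharacter G)} (hB : Cfsg.IsPBlock M B)
  (hBP : Cfsg.IsDefectGroup p M B (P : Subgroup G))
  (hind : Cfsg.IsInducedBlock M (Subgroup.centralizer ((P : Subgroup G) : Set G)) L.b B)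
variable (K : L.Str B)
include hP hM hB hBP hind

theorem degree_mem_b {ξ : Cfsg.IrrCharacter 𝐂} (hξ : ξ ∈ L.b) :
    Cfsg.charDegree (ξ : 𝐂 → ℂ) = Cfsg.charDegree (L.θ : 𝐂 → ℂ) := by
  unfold Cfsg.charDegree
  rw [apply_one_eq P hP hM L.hb L.hθ L.hθP hξ]

/-- an exceptional character of negative sign and degree below `p` restricts to the centralizer
as the sum over an orbit -/
theorem mlt_of_neg [DecidableEq (Cfsg.IrrCharacter 𝐂)] (j : L.J) (hδ : K.δ (K.Λ j) = -1)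
    (hd : Cfsg.charDegree (K.Λ j : G → ℂ) < p) :
    Cfsg.charDegree (K.Λ j : G → ℂ) = (𝐂).relIndex 𝐍 * Cfsg.charDegree (L.θ : 𝐂 → ℂ) ∧
      ∀ ξ : Cfsg.IrrCharacter 𝐂, mlt P (K.Λ j) ξ = if ξ ∈ orb (L.rep j) then 1 else 0 := by
  have : Fintype (Cfsg.IrrCharacter 𝐂) := Fintype.ofFinite _
  have hdiag := K.diag j
  unfold aco at hdiag
  rw [hδ] at hdiag
  have h𝒯 : ∀ ξ ∈ orb (L.rep j), 1 ≤ mlt P (K.Λ j) ξ := by
    intro ξ hξ
    rw [mlt_orb (K.Λ j) hξ]
    omega
  have hsum := sum_le_degree (K.Λ j) (orb (L.rep j)) h𝒯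
  have hD : ∑ ξ ∈ orb (L.rep j), Cfsg.charDegree (ξ : 𝐂 → ℂ)
      = (𝐂).relIndex 𝐍 * Cfsg.charDegree (L.θ : 𝐂 → ℂ) := by
    rw [sum_orb_degree, card_orb_star L hP hM (L.rep_mem j),
      degree_mem_b hP hM hB hBP hind (L.rep_mem j).1]
  rw [hD] at hsum
  have hcong := K.degree_Y hP hM hB hBP hind j
  rw [hδ] at hcong
  have hcong' : (Cfsg.charDegree (K.Λ j : G → ℂ) : ℤ)
      ≡ (((𝐂).relIndex 𝐍 * Cfsg.charDegree (L.θ : 𝐂 → ℂ) : ℕ) : ℤ) [ZMOD p] := by
    simpa using hcong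
  have heq := eq_of_le_of_modEq hsum hd hcong'
  refine ⟨heq, ?_⟩
  exact mlt_eq_of_sum_eq (K.Λ j) (orb (L.rep j)) h𝒯 (by rw [hD, heq])

/-- restriction as the sum over the orbit of the canonical character forces `P` into the kernel -/
theorem const_of_orb_theta [DecidableEq (Cfsg.IrrCharacter 𝐂)] (χ : Cfsg.IrrCharacter G)
    (h1 : 1 ≤ mlt P χ L.θ) (hd : Cfsg.charDegree (χ : G → ℂ) < p)
    (hcong : (Cfsg.charDegree (χ : G → ℂ) : ℤ)
      ≡ (((orb L.θ).card * Cfsg.charDegree (L.θ : 𝐂 → ℂ) : ℕ) : ℤ) [ZMOD p]) :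
    ∀ x : 𝐂, (x : G) ∈ (P : Subgroup G) → (χ : G → ℂ) x = (χ : G → ℂ) 1 := by
  have : Fintype (Cfsg.IrrCharacter 𝐂) := Fintype.ofFinite _
  have h𝒯 : ∀ ξ ∈ orb L.θ, 1 ≤ mlt P χ ξ := by
    intro ξ hξ
    rw [mlt_orb χ hξ]
    exact h1
  have hsum := sum_le_degree χ (orb L.θ) h𝒯
  rw [sum_orb_degree] at hsum
  have heq := eq_of_le_of_modEq hsum hd hcong
  have hm := mlt_eq_of_sum_eq χ (orb L.θ) h𝒯 (by rw [sum_orb_degree, heq])
  apply const_of_constituents χ
  intro ξ hξ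
  have h2 := hm ξ
  by_cases hmem : ξ ∈ orb L.θ
  · exact orb_theta_const L hP hM hmem
  · rw [if_neg hmem] at h2
    exact absurd h2 hξ

/-- an exceptional character of small degree which is not trivial on `P` has negative sign -/
theorem delta_eq_neg_one (j : L.J) (hd : 2 * Cfsg.charDegree (K.Λ j : G → ℂ) + 1 < p)
    (hnk : ¬ ∀ x : 𝐂, (x : G) ∈ (P : Subgroup G) →
      (K.Λ j : G → ℂ) x = (K.Λ j : G → ℂ) 1) : K.δ (K.Λ j) = -1 := by
  classical
  have : Fintype (Cfsg.IrrCharacter 𝐂) := Fintype.ofFinite _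
  rcases K.sgn (K.Λ j) with hδ | hδ
  swap
  · exact hδ
  exfalso
  have hdiag := K.diag j
  unfold aco at hdiag
  rw [hδ] at hdiag
  have hθ1 : 1 ≤ mlt P (K.Λ j) L.θ := by omega
  have hdeg1 : 1 ≤ Cfsg.charDegree (L.θ : 𝐂 → ℂ) := IsIrrCharacter.charDegree_pos L.θ.2
  by_cases he : L.e = p - 1
  · apply hnk
    apply const_of_orb_theta hP hM hB hBP hind (K.Λ j) hθ1 (by omega)
    have hcong := K.degree_Y hP hM hB hBP hind j
    rw [hδ] at hcong
    have hr := card_orb_theta L hP hM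
    rw [he] at hr
    have hp1 : 1 ≤ p := hp.out.one_lt.le
    have hcast : (((𝐂).relIndex 𝐍 : ℕ) : ℤ) = ((orb L.θ).card : ℤ) * ((p : ℤ) - 1) := by
      rw [← hr]
      push_cast [Nat.cast_sub hp1]
      ring
    rw [Int.modEq_iff_dvd] at hcong ⊢
    obtain ⟨k, hk⟩ := hcong
    refine ⟨k + (orb L.θ).card * Cfsg.charDegree (L.θ : 𝐂 → ℂ), ?_⟩
    push_cast at hk ⊢
    rw [hcast] at hk
    linear_combination hk
  · -- at least two classes
    have hJe := L.card_J_mul_e hP hM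
    have hJ2 : 2 ≤ Nat.card L.J := by
      have hp1 : 2 ≤ p := hp.out.two_le
      rcases Nat.lt_or_ge (Nat.card L.J) 2 with h | h
      · interval_cases hJ : Nat.card L.J
        · rw [zero_mul] at hJe; omega
        · rw [one_mul] at hJe; exact absurd hJe he
      · exact h
    have h2e : 2 * L.e ≤ p - 1 := by
      rw [← hJe]
      exact Nat.mul_le_mul_right _ hJ2
    obtain ⟨cls, hcls⟩ : ∃ cls : Finset (Cfsg.IrrCharacter 𝐂),
        cls = (Finset.univ.filter (· ∈ L.star)).filter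
          (fun ξ' : Cfsg.IrrCharacter 𝐂 => ∃ n : 𝐍, act P n (L.rep j) = ξ') := ⟨_, rfl⟩
    have hclscard : cls.card = L.e := by
      rw [hcls]
      exact L.card_class hP hM (L.rep_mem j)
    have hbcard : (Finset.univ.filter (· ∈ L.b)).card = p := by
      have := card_block P hP hM L.hb
      rwa [Nat.card_eq_fintype_card, Fintype.card_subtype] at this
    have hsub : cls ⊆ Finset.univ.filter (· ∈ L.b) := by
      intro ξ hξ
      rw [hcls] at hξ
      have := (Finset.mem_filter.mp (Finset.mem_filter.mp hξ).1).2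
      exact Finset.mem_filter.mpr ⟨Finset.mem_univ _, this.1⟩
    have h𝒯 : ∀ ξ ∈ (Finset.univ.filter (· ∈ L.b)) \ cls, 1 ≤ mlt P (K.Λ j) ξ := by
      intro ξ hξ
      obtain ⟨hξb, hξn⟩ := Finset.mem_sdiff.mp hξ
      have hξb' : ξ ∈ L.b := (Finset.mem_filter.mp hξb).2
      by_cases hθ : ξ = L.θ
      · rw [hθ]; exact hθ1
      · have hξs : ξ ∈ L.star := ⟨hξb', hθ⟩
        have hne : j ≠ Quotient.mk L.rel ⟨ξ, hξs⟩ := by
          intro hj
          apply hξn
          rw [hcls]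
          refine Finset.mem_filter.mpr ⟨Finset.mem_filter.mpr ⟨Finset.mem_univ _, hξs⟩, ?_⟩
          exact (L.rel_rep_mk hξs j).mpr hj
        have h1 := L.aco_eq_rep hξs (K.Λ j)
        rw [K.off j _ hne] at h1
        unfold aco at h1
        omega
    have hsum := sum_le_degree (K.Λ j) _ h𝒯
    have hconst : ∑ ξ ∈ (Finset.univ.filter (· ∈ L.b)) \ cls, Cfsg.charDegree (ξ : 𝐂 → ℂ)
        = (p - L.e) * Cfsg.charDegree (L.θ : 𝐂 → ℂ) := by
      rw [Finset.sum_const_nat (m := Cfsg.charDegree (L.θ : 𝐂 → ℂ)), Finset.card_sdiff_of_subset hsub,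
        hbcard, hclscard]
      intro ξ hξ
      exact degree_mem_b hP hM hB hBP hind (Finset.mem_filter.mp (Finset.mem_sdiff.mp hξ).1).2
    rw [hconst] at hsum
    have h3 : p - L.e ≤ (p - L.e) * Cfsg.charDegree (L.θ : 𝐂 → ℂ) :=
      Nat.le_mul_of_pos_right _ hdeg1
    omega

/-- a non-exceptional character of small degree has `P` in its kernel -/
theorem const_of_mem_S {χ : Cfsg.IrrCharacter G} (hχ : χ ∈ K.S)
    (hd : 2 * Cfsg.charDegree (χ : G → ℂ) + 1 < p) :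
    ∀ x : 𝐂, (x : G) ∈ (P : Subgroup G) → (χ : G → ℂ) x = (χ : G → ℂ) 1 := by
  classical
  have : Fintype (Cfsg.IrrCharacter 𝐂) := Fintype.ofFinite _
  obtain ⟨j₀⟩ := L.nonempty_J hP hM
  have hdeg1 : 1 ≤ Cfsg.charDegree (L.θ : 𝐂 → ℂ) := IsIrrCharacter.charDegree_pos L.θ.2
  rcases K.sgn χ with hδ | hδ
  · have h0 := K.aco_S hχ (L.rep_mem j₀)
    rw [hδ] at h0
    unfold aco at h0
    have hθ1 : 1 ≤ mlt P χ L.θ := by omega
    apply const_of_orb_theta hP hM hB hBP hind χ hθ1 (by omega)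
    have hcong := K.degree_S hP hM hB hBP hind hχ
    rw [hδ, one_mul] at hcong
    have hr := card_orb_theta L hP hM
    have hdiv : (𝐂).relIndex 𝐍 / L.e = (orb L.θ).card := by
      rw [← hr]
      exact Nat.mul_div_cancel _ L.e_pos
    rw [hdiv] at hcong
    exact hcong
  · exfalso
    have h𝒯 : ∀ ξ ∈ Finset.univ.filter (· ∈ L.star), 1 ≤ mlt P χ ξ := by
      intro ξ hξ
      have hξs : ξ ∈ L.star := (Finset.mem_filter.mp hξ).2
      have h0 := K.aco_S hχ hξs
      rw [hδ] at h0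
      unfold aco at h0
      omega
    have hsum := sum_le_degree χ _ h𝒯
    have hcard : (Finset.univ.filter (· ∈ L.star)).card = p - 1 := by
      have := L.card_star hP hM
      rwa [Nat.card_eq_fintype_card, Fintype.card_subtype] at this
    have hconst : ∑ ξ ∈ Finset.univ.filter (· ∈ L.star), Cfsg.charDegree (ξ : 𝐂 → ℂ)
        = (p - 1) * Cfsg.charDegree (L.θ : 𝐂 → ℂ) := by
      rw [Finset.sum_const_nat (m := Cfsg.charDegree (L.θ : 𝐂 → ℂ)), hcard]
      intro ξ hξ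
      exact degree_mem_b hP hM hB hBP hind ((Finset.mem_filter.mp hξ).2).1
    rw [hconst] at hsum
    have h3 : p - 1 ≤ (p - 1) * Cfsg.charDegree (L.θ : 𝐂 → ℂ) :=
      Nat.le_mul_of_pos_right _ hdeg1
    omega

end str

end Cfsg.Agent.Lib.Helper6.BR
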