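import Mathlib
import Cfsg.Agent.Lib.Helper6.BR2

/-!
# The action of `P` on the constituents of a restriction to the centralizer
-/

set_option autoImplicit false
set_option linter.unusedSectionVars false

namespace Cfsg.Agent.Lib.Helper6.BR

open Cfsg.Agent.Lib.Helper6 Cfsg.Agent.Lib.Helper6.PB
open scoped ComplexConjugate

variable {G : Type*} [Group G] [Fintype G] [DecidableEq G] {p : ℕ} [hp : Fact p.Prime]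
variable {P : Sylow p G}
variable [Fintype ↥(Subgroup.centralizer ((P : Subgroup G) : Set G))]
variable [Fintype ↥(Subgroup.normalizer ((P : Subgroup G) : Set G))]
variable {M : Ideal Cfsg.AlgInt}

local notation "𝐂" => Subgroup.centralizer ((P : Subgroup G) : Set G)
local notation "𝐍" => Subgroup.normalizer ((P : Subgroup G) : Set G)
local notation "𝐃" => Subgroup.subgroupOf (P : Subgroup G) (Subgroup.centralizer ((P : Subgroup G) : Set G))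

/-- two characters of the centralizer have the same action of `P` -/
def SameP (ξ ξ' : Cfsg.IrrCharacter 𝐂) : Prop :=
  ∀ x : 𝐂, (x : G) ∈ (P : Subgroup G) →
    (ξ : 𝐂 → ℂ) x * (ξ' : 𝐂 → ℂ) 1 = (ξ' : 𝐂 → ℂ) x * (ξ : 𝐂 → ℂ) 1

theorem sameP_refl (ξ : Cfsg.IrrCharacter 𝐂) : SameP ξ ξ := fun _ _ => rfl

theorem sameP_symm {ξ ξ' : Cfsg.IrrCharacter 𝐂} (h : SameP ξ ξ') : SameP ξ' ξ :=
  fun x hx => (h x hx).symm

theorem sameP_trans {ξ ξ' ξ'' : Cfsg.IrrCharacter 𝐂} (h : SameP ξ ξ') (h' : SameP ξ' ξ'') :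
    SameP ξ ξ'' := by
  intro x hx
  have h1 := h x hx
  have h2 := h' x hx
  have hne : (ξ' : 𝐂 → ℂ) 1 ≠ 0 := IsIrrCharacter.apply_one_ne_zero ξ'.2
  apply mul_right_cancel₀ hne
  linear_combination (ξ'' : 𝐂 → ℂ) 1 * h1 + (ξ : 𝐂 → ℂ) 1 * h2

theorem sameP_act (n : 𝐍) {ξ ξ' : Cfsg.IrrCharacter 𝐂} (h : SameP ξ ξ') :
    SameP (act P n ξ) (act P n ξ') := by
  intro x hx
  rw [act_apply_one, act_apply_one, act_apply, act_apply]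
  apply h
  rw [cj_symm_apply_coe]
  exact conj_mem_P' P n.2 hx

theorem act_mem_orb [DecidableEq (Cfsg.IrrCharacter 𝐂)] (n : 𝐍) {ξ₁ ξ : Cfsg.IrrCharacter 𝐂}
    (h : ξ ∈ orb ξ₁) : act P n ξ ∈ orb ξ₁ := by
  obtain ⟨k, rfl⟩ := (mem_orb ξ₁ ξ).mp h
  exact (mem_orb ξ₁ _).mpr ⟨n * k, act_mul P n k ξ₁⟩

theorem not_sameP_orb [DecidableEq (Cfsg.IrrCharacter 𝐂)] {ξ₁ ξ' : Cfsg.IrrCharacter 𝐂}
    (h : ∀ ξ ∈ orb ξ₁, ¬ SameP ξ ξ') {ξ ξ'' : Cfsg.IrrCharacter 𝐂} (hξ : ξ ∈ orb ξ₁)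
    (hξ'' : ξ'' ∈ orb ξ') : ¬ SameP ξ ξ'' := by
  obtain ⟨n, rfl⟩ := (mem_orb ξ' ξ'').mp hξ''
  intro hs
  have h1 := sameP_act n⁻¹ hs
  rw [act_inv_act] at h1
  exact h _ (act_mem_orb n⁻¹ hξ) h1

section sums

variable (hP : Nat.card P = p)
include hP

theorem mul_conj_self_of_mem_P (ξ : Cfsg.IrrCharacter 𝐂) {y : 𝐂}
    (hy : (y : G) ∈ (P : Subgroup G)) :
    (ξ : 𝐂 → ℂ) y * conj ((ξ : 𝐂 → ℂ) y) = (ξ : 𝐂 → ℂ) 1 * (ξ : 𝐂 → ℂ) 1 := by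
  have hne : (ξ : 𝐂 → ℂ) 1 ≠ 0 := IsIrrCharacter.apply_one_ne_zero ξ.2
  have h1 := apply_mul_of_mem_P P ξ hy y⁻¹
  rw [mul_inv_cancel, IsCharacter.apply_inv (IsIrrCharacter.isCharacter ξ.2)] at h1
  field_simp at h1
  linear_combination -h1

theorem sum_D_of_not_sameP [Fintype 𝐃] {ξ ξ' : Cfsg.IrrCharacter 𝐂} (h : ¬ SameP ξ ξ') :
    ∑ x : 𝐃, (ξ : 𝐂 → ℂ) (x : 𝐂) * conj ((ξ' : 𝐂 → ℂ) (x : 𝐂)) = 0 := by
  by_contra hS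
  apply h
  intro y hy
  have hne : (ξ : 𝐂 → ℂ) 1 ≠ 0 := IsIrrCharacter.apply_one_ne_zero ξ.2
  have hne' : (ξ' : 𝐂 → ℂ) 1 ≠ 0 := IsIrrCharacter.apply_one_ne_zero ξ'.2
  have hc1 : conj ((ξ' : 𝐂 → ℂ) 1) = (ξ' : 𝐂 → ℂ) 1 := IsIrrCharacter.conj_apply_one ξ'.2
  have h1 : ∑ x : 𝐃, (ξ : 𝐂 → ℂ) (y * (x : 𝐂)) * conj ((ξ' : 𝐂 → ℂ) (y * (x : 𝐂)))
      = ∑ x : 𝐃, (ξ : 𝐂 → ℂ) (x : 𝐂) * conj ((ξ' : 𝐂 → ℂ) (x : 𝐂)) :=
    Fintype.sum_equiv (Equiv.mulLeft (⟨y, (mem_PD_iff P y).mpr hy⟩ : 𝐃)) _ _ (fun x => rfl)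
  have h2 : ∑ x : 𝐃, (ξ : 𝐂 → ℂ) (y * (x : 𝐂)) * conj ((ξ' : 𝐂 → ℂ) (y * (x : 𝐂)))
      = ((ξ : 𝐂 → ℂ) y * conj ((ξ' : 𝐂 → ℂ) y) / ((ξ : 𝐂 → ℂ) 1 * (ξ' : 𝐂 → ℂ) 1))
        * ∑ x : 𝐃, (ξ : 𝐂 → ℂ) (x : 𝐂) * conj ((ξ' : 𝐂 → ℂ) (x : 𝐂)) := by
    rw [Finset.mul_sum]
    apply Finset.sum_congr rfl
    intro x _
    rw [apply_mul_of_mem_P P ξ hy, apply_mul_of_mem_P P ξ' hy, map_div₀, map_mul, hc1]
    field_simp
  rw [h2] at h1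
  have h3 : ((ξ : 𝐂 → ℂ) y * conj ((ξ' : 𝐂 → ℂ) y) / ((ξ : 𝐂 → ℂ) 1 * (ξ' : 𝐂 → ℂ) 1) - 1)
      * ∑ x : 𝐃, (ξ : 𝐂 → ℂ) (x : 𝐂) * conj ((ξ' : 𝐂 → ℂ) (x : 𝐂)) = 0 := by
    rw [sub_mul, h1, one_mul, sub_self]
  rcases mul_eq_zero.mp h3 with h4 | h4
  swap
  · exact absurd h4 hS
  have h5 : (ξ : 𝐂 → ℂ) y * conj ((ξ' : 𝐂 → ℂ) y) = (ξ : 𝐂 → ℂ) 1 * (ξ' : 𝐂 → ℂ) 1 := by
    have : (ξ : 𝐂 → ℂ) y * conj ((ξ' : 𝐂 → ℂ) y) / ((ξ : 𝐂 → ℂ) 1 * (ξ' : 𝐂 → ℂ) 1) = 1 := by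
      linear_combination h4
    rwa [div_eq_one_iff_eq (mul_ne_zero hne hne')] at this
  have h6 := mul_conj_self_of_mem_P hP ξ' hy
  apply mul_right_cancel₀ hne'
  linear_combination (ξ' : 𝐂 → ℂ) y * h5 - (ξ : 𝐂 → ℂ) y * h6

theorem sum_D_self [Fintype 𝐃] (ξ : Cfsg.IrrCharacter 𝐂) :
    ∑ x : 𝐃, (ξ : 𝐂 → ℂ) (x : 𝐂) * conj ((ξ : 𝐂 → ℂ) (x : 𝐂))
      = (p : ℂ) * ((ξ : 𝐂 → ℂ) 1 * (ξ : 𝐂 → ℂ) 1) := by
  have h1 : ∀ x ∈ (Finset.univ : Finset 𝐃), (ξ : 𝐂 → ℂ) (x : 𝐂) * conj ((ξ : 𝐂 → ℂ) (x : 𝐂))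
      = (ξ : 𝐂 → ℂ) 1 * (ξ : 𝐂 → ℂ) 1 :=
    fun x _ => mul_conj_self_of_mem_P hP ξ ((mem_PD_iff P x).mp x.2)
  rw [Finset.sum_congr rfl h1, Finset.sum_const, Finset.card_univ, ← Nat.card_eq_fintype_card,
    card_PD P hP, nsmul_eq_mul]

variable (hM : Cfsg.IsPModular p M)
include hM

/-- within a block of the centralizer, a character is determined by the action of `P` -/
theorem eq_of_sameP {b : Set (Cfsg.IrrCharacter 𝐂)} (hb : Cfsg.IsPBlock M b)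
    {ξ ξ' : Cfsg.IrrCharacter 𝐂} (hξ : ξ ∈ b) (hξ' : ξ' ∈ b) (h : SameP ξ ξ') : ξ = ξ' := by
  obtain ⟨θ, hθ, hθP⟩ := exists_theta P hP hM hb
  have h1 : (ξ : 𝐂 → ℂ) 1 = (ξ' : 𝐂 → ℂ) 1 := by
    rw [apply_one_eq P hP hM hb hθ hθP hξ, apply_one_eq P hP hM hb hθ hθP hξ']
  have hne : (ξ : 𝐂 → ℂ) 1 ≠ 0 := IsIrrCharacter.apply_one_ne_zero ξ.2
  apply Subtype.ext
  funext c
  by_cases hc : p ∣ orderOf c
  · have hc' : p ∣ orderOf (c : G) := by rwa [Subgroup.orderOf_coe]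
    obtain ⟨z, hz, -, y, hy, hyp, hzy⟩ := exists_decomp_C P hP c.2 hc'
    have hcz : c = (⟨z, P_le_C P hP hz⟩ : 𝐂) * (⟨y, hy⟩ : 𝐂) := Subtype.ext hzy
    have hyp' : ¬ p ∣ orderOf (⟨y, hy⟩ : 𝐂) := by
      rw [← Subgroup.orderOf_coe]; exact hyp
    have hzP : (((⟨z, P_le_C P hP hz⟩ : 𝐂)) : G) ∈ (P : Subgroup G) := hz
    rw [hcz, apply_mul_of_mem_P P ξ hzP, apply_mul_of_mem_P P ξ' hzP,
      eq_theta_of_pRegular P hP hM hb hθ hθP hξ _ hyp',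
      eq_theta_of_pRegular P hP hM hb hθ hθP hξ' _ hyp', ← h1]
    have h2 := h _ hzP
    rw [← h1] at h2
    have h3 := mul_right_cancel₀ hne h2
    rw [h3]
  · rw [eq_theta_of_pRegular P hP hM hb hθ hθP hξ c hc,
      eq_theta_of_pRegular P hP hM hb hθ hθP hξ' c hc]

/-- a character in the block whose action of `P` avoids a given orbit -/
theorem exists_not_sameP [DecidableEq (Cfsg.IrrCharacter 𝐂)] (L : Loc M P)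
    {ξ₁ : Cfsg.IrrCharacter 𝐂} (hξ₁ : ξ₁ ∈ L.star) (hm : (𝐂).relIndex 𝐍 < p - 1) :
    ∃ ξ' ∈ L.star, ∀ ξ ∈ orb ξ₁, ¬ SameP ξ ξ' := by
  classical
  have : Fintype (Cfsg.IrrCharacter 𝐂) := Fintype.ofFinite _
  obtain ⟨S₁, hS₁⟩ : ∃ S₁ : Finset (Cfsg.IrrCharacter 𝐂),
      S₁ = (Finset.univ.filter (· ∈ L.star)).filter (fun ξ' => ∃ ξ ∈ orb ξ₁, SameP ξ ξ') :=
    ⟨_, rfl⟩
  have hcard : (Finset.univ.filter (· ∈ L.star)).card = p - 1 := by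
    have := L.card_star hP hM
    rwa [Nat.card_eq_fintype_card, Fintype.card_subtype] at this
  have hle : S₁.card ≤ (orb ξ₁).card := by
    apply Finset.card_le_card_of_injOn
      (fun ξ' => if h : ∃ ξ ∈ orb ξ₁, SameP ξ ξ' then h.choose else ξ₁)
    · intro ξ' hξ'
      rw [hS₁] at hξ'
      have hex := (Finset.mem_filter.mp hξ').2
      simp only [dif_pos hex]
      exact hex.choose_spec.1
    · intro ξ' hξ' ξ'' hξ'' heq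
      rw [hS₁] at hξ' hξ''
      have hex' := (Finset.mem_filter.mp hξ').2
      have hex'' := (Finset.mem_filter.mp hξ'').2
      have hs' : ξ' ∈ L.star := (Finset.mem_filter.mp (Finset.mem_filter.mp hξ').1).2
      have hs'' : ξ'' ∈ L.star := (Finset.mem_filter.mp (Finset.mem_filter.mp hξ'').1).2
      simp only [dif_pos hex', dif_pos hex''] at heq
      have h1 := hex'.choose_spec.2
      have h2 := hex''.choose_spec.2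
      rw [heq] at h1
      exact eq_of_sameP hP hM L.hb hs'.1 hs''.1 (sameP_trans (sameP_symm h1) h2)
  rw [card_orb_star L hP hM hξ₁] at hle
  have hlt : S₁.card < (Finset.univ.filter (· ∈ L.star)).card := by omega
  obtain ⟨ξ', hξ', hnot⟩ := Finset.exists_mem_notMem_of_card_lt_card hlt
  have hs : ξ' ∈ L.star := (Finset.mem_filter.mp hξ').2
  refine ⟨ξ', hs, ?_⟩
  intro ξ hξ hsame
  apply hnot
  rw [hS₁]
  exact Finset.mem_filter.mpr ⟨hξ', ξ, hξ, hsame⟩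

end sums

end Cfsg.Agent.Lib.Helper6.BR
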