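import Mathlib
import Cfsg.Agent.Lib.Helper6.BR3

/-!
# A character of the principal block with the `p`-regular part of the centralizer in its kernel
-/

set_option autoImplicit false
set_option linter.unusedSectionVars false

namespace Cfsg.Agent.Lib.Helper6.BR

open Cfsg.Agent.Lib.Helper6 Cfsg.Agent.Lib.Helper6.PB
open scoped ComplexConjugate

variable {G : Type*} [Group G] [Fintype G] [DecidableEq G] {p : ℕ} [hp : Fact p.Prime]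
variable (P : Sylow p G)
variable [Fintype ↥(Subgroup.centralizer ((P : Subgroup G) : Set G))]
variable [Fintype ↥(Subgroup.normalizer ((P : Subgroup G) : Set G))]
variable {M : Ideal Cfsg.AlgInt}

local notation "𝐂" => Subgroup.centralizer ((P : Subgroup G) : Set G)
local notation "𝐍" => Subgroup.normalizer ((P : Subgroup G) : Set G)
local notation "𝐃" => Subgroup.subgroupOf (P : Subgroup G) (Subgroup.centralizer ((P : Subgroup G) : Set G))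

/-- the characters of the centralizer which are trivial on `P` -/
def TrivP (ξ : Cfsg.IrrCharacter 𝐂) : Prop :=
  ∀ x : 𝐂, (x : G) ∈ (P : Subgroup G) → (ξ : 𝐂 → ℂ) x = (ξ : 𝐂 → ℂ) 1

open Classical in
/-- the multiplicity of the trivial character of `P` in the restriction -/
noncomputable def aP [Fintype (Cfsg.IrrCharacter 𝐂)] (ψ : Cfsg.IrrCharacter G) : ℕ :=
  ∑ ξ ∈ Finset.univ.filter (fun ξ : Cfsg.IrrCharacter 𝐂 => TrivP P ξ),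
    mlt P ψ ξ * Cfsg.charDegree (ξ : 𝐂 → ℂ)

theorem mlt_eq_zero_of_aP [Fintype (Cfsg.IrrCharacter 𝐂)] {ψ : Cfsg.IrrCharacter G}
    (h : aP P ψ = 0) {ξ : Cfsg.IrrCharacter 𝐂} (hξ : TrivP P ξ) : mlt P ψ ξ = 0 := by
  classical
  unfold aP at h
  have h1 := (Finset.sum_eq_zero_iff.mp h) ξ (Finset.mem_filter.mpr ⟨Finset.mem_univ _, hξ⟩)
  rcases Nat.mul_eq_zero.mp h1 with h2 | h2
  · exact h2
  · exact absurd h2 (IsIrrCharacter.charDegree_pos ξ.2).ne'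

variable {P}

theorem sum_D_mul_conj [Fintype 𝐃] [Fintype (Cfsg.IrrCharacter 𝐂)] (χ₁ χ₂ : Cfsg.IrrCharacter G) :
    ∑ x : 𝐃, (χ₁ : G → ℂ) ((x : 𝐂) : G) * conj ((χ₂ : G → ℂ) ((x : 𝐂) : G))
      = ∑ ξ : Cfsg.IrrCharacter 𝐂, ∑ ξ' : Cfsg.IrrCharacter 𝐂,
          ((mlt P χ₁ ξ : ℂ) * (mlt P χ₂ ξ' : ℂ))
            * ∑ x : 𝐃, (ξ : 𝐂 → ℂ) (x : 𝐂) * conj ((ξ' : 𝐂 → ℂ) (x : 𝐂)) := by
  calc ∑ x : 𝐃, (χ₁ : G → ℂ) ((x : 𝐂) : G) * conj ((χ₂ : G → ℂ) ((x : 𝐂) : G))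
      = ∑ x : 𝐃, ∑ ξ : Cfsg.IrrCharacter 𝐂, ∑ ξ' : Cfsg.IrrCharacter 𝐂,
          ((mlt P χ₁ ξ : ℂ) * (mlt P χ₂ ξ' : ℂ))
            * ((ξ : 𝐂 → ℂ) (x : 𝐂) * conj ((ξ' : 𝐂 → ℂ) (x : 𝐂))) := by
        apply Finset.sum_congr rfl
        intro x _
        rw [restrict_eq_sum χ₁ (x : 𝐂), restrict_eq_sum χ₂ (x : 𝐂), map_sum, Finset.sum_mul_sum]
        apply Finset.sum_congr rfl
        intro ξ _
        apply Finset.sum_congr rfl
        intro ξ' _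
        rw [map_mul, Complex.conj_natCast]
        ring
    _ = ∑ ξ : Cfsg.IrrCharacter 𝐂, ∑ x : 𝐃, ∑ ξ' : Cfsg.IrrCharacter 𝐂,
          ((mlt P χ₁ ξ : ℂ) * (mlt P χ₂ ξ' : ℂ))
            * ((ξ : 𝐂 → ℂ) (x : 𝐂) * conj ((ξ' : 𝐂 → ℂ) (x : 𝐂))) := Finset.sum_comm
    _ = ∑ ξ : Cfsg.IrrCharacter 𝐂, ∑ ξ' : Cfsg.IrrCharacter 𝐂, ∑ x : 𝐃,
          ((mlt P χ₁ ξ : ℂ) * (mlt P χ₂ ξ' : ℂ))
            * ((ξ : 𝐂 → ℂ) (x : 𝐂) * conj ((ξ' : 𝐂 → ℂ) (x : 𝐂))) := by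
        apply Finset.sum_congr rfl
        intro ξ _
        exact Finset.sum_comm
    _ = _ := by
        apply Finset.sum_congr rfl
        intro ξ _
        apply Finset.sum_congr rfl
        intro ξ' _
        rw [Finset.mul_sum]

section main

variable (hP : Nat.card P = p) (hM : Cfsg.IsPModular p M)
include hP hM

theorem sum_D_mul_conj_eq_zero [Fintype 𝐃] (χ₁ χ₂ : Cfsg.IrrCharacter G)
    (h : ∀ ξ ξ' : Cfsg.IrrCharacter 𝐂, mlt P χ₁ ξ ≠ 0 → mlt P χ₂ ξ' ≠ 0 → ¬ SameP ξ ξ') :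
    ∑ x : 𝐃, (χ₁ : G → ℂ) ((x : 𝐂) : G) * conj ((χ₂ : G → ℂ) ((x : 𝐂) : G)) = 0 := by
  have : Fintype (Cfsg.IrrCharacter 𝐂) := Fintype.ofFinite _
  rw [sum_D_mul_conj]
  apply Finset.sum_eq_zero
  intro ξ _
  apply Finset.sum_eq_zero
  intro ξ' _
  by_cases h1 : mlt P χ₁ ξ = 0
  · rw [h1]; simp
  by_cases h2 : mlt P χ₂ ξ' = 0
  · rw [h2]; simp
  rw [sum_D_of_not_sameP hP (h ξ ξ' h1 h2), mul_zero]

open Classical in
theorem sum_D_irr [Fintype 𝐃] (ξ : Cfsg.IrrCharacter 𝐂) :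
    ∑ x : 𝐃, (ξ : 𝐂 → ℂ) (x : 𝐂)
      = if TrivP P ξ then (p : ℂ) * (Cfsg.charDegree (ξ : 𝐂 → ℂ) : ℂ) else 0 := by
  classical
  split_ifs with h
  · have h1 : ∀ x ∈ (Finset.univ : Finset 𝐃), (ξ : 𝐂 → ℂ) (x : 𝐂) = (ξ : 𝐂 → ℂ) 1 :=
      fun x _ => h (x : 𝐂) ((mem_PD_iff P x).mp x.2)
    rw [Finset.sum_congr rfl h1, Finset.sum_const, Finset.card_univ, ← Nat.card_eq_fintype_card,
      card_PD P hP, nsmul_eq_mul,
      IsCharacter.apply_one_eq_charDegree (IsIrrCharacter.isCharacter ξ.2)]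
  · have hb : Cfsg.IsPBlock M (Cfsg.blockOf M (ξ : 𝐂 → ℂ)) := ⟨ξ, rfl⟩
    obtain ⟨θ, hθ, hθP⟩ := exists_theta P hP hM hb
    have hξ : ξ ∈ Cfsg.blockOf M (ξ : 𝐂 → ℂ) := sameBlock_refl hM _
    have hne : ξ ≠ θ := by
      intro heq
      apply h
      rw [heq]
      exact hθP
    exact sum_P_eq_zero P hP hM hb hθ hθP hξ hne

theorem sum_D_eq [Fintype 𝐃] [Fintype (Cfsg.IrrCharacter 𝐂)] (ψ : Cfsg.IrrCharacter G) :
    ∑ x : 𝐃, (ψ : G → ℂ) ((x : 𝐂) : G) = ((p * aP P ψ : ℕ) : ℂ) := by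
  classical
  have h1 : ∑ x : 𝐃, (ψ : G → ℂ) ((x : 𝐂) : G)
      = ∑ ξ : Cfsg.IrrCharacter 𝐂, (mlt P ψ ξ : ℂ) * ∑ x : 𝐃, (ξ : 𝐂 → ℂ) (x : 𝐂) := by
    have : ∀ x ∈ (Finset.univ : Finset 𝐃), (ψ : G → ℂ) ((x : 𝐂) : G)
        = ∑ ξ : Cfsg.IrrCharacter 𝐂, (mlt P ψ ξ : ℂ) * (ξ : 𝐂 → ℂ) (x : 𝐂) :=
      fun x _ => restrict_eq_sum ψ (x : 𝐂)
    rw [Finset.sum_congr rfl this, Finset.sum_comm]
    apply Finset.sum_congr rfl
    intro ξ _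
    rw [Finset.mul_sum]
  rw [h1]
  unfold aP
  push_cast
  rw [Finset.mul_sum, Finset.sum_filter]
  apply Finset.sum_congr rfl
  intro ξ _
  rw [sum_D_irr hP hM ξ]
  split_ifs with h
  · ring
  · ring

/-- a character whose restriction to `P` has no trivial constituent is not trivial on `P` -/
theorem not_const_of_aP [Fintype (Cfsg.IrrCharacter 𝐂)] {ψ : Cfsg.IrrCharacter G}
    (h : aP P ψ = 0) :
    ¬ ∀ x : 𝐂, (x : G) ∈ (P : Subgroup G) → (ψ : G → ℂ) x = (ψ : G → ℂ) 1 := by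
  classical
  have : Fintype 𝐃 := Fintype.ofFinite _
  intro hc
  have h1 := sum_D_eq hP hM ψ
  rw [h, mul_zero, Nat.cast_zero] at h1
  have h2 : ∀ x ∈ (Finset.univ : Finset 𝐃), (ψ : G → ℂ) ((x : 𝐂) : G) = (ψ : G → ℂ) 1 :=
    fun x _ => hc (x : 𝐂) ((mem_PD_iff P x).mp x.2)
  rw [Finset.sum_congr rfl h2, Finset.sum_const, Finset.card_univ, ← Nat.card_eq_fintype_card,
    card_PD P hP, nsmul_eq_mul] at h1
  rcases mul_eq_zero.mp h1 with h3 | h3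
  · have : (p : ℂ) ≠ 0 := by exact_mod_cast hp.out.ne_zero
    exact this h3
  · exact IsIrrCharacter.apply_one_ne_zero ψ.2 h3

/-- a member of the principal block without trivial constituent on `P` restricts to the
centralizer inside the principal block -/
theorem mem_prin_of_mlt_ne_zero [Fintype (Cfsg.IrrCharacter 𝐂)] {ψ : Cfsg.IrrCharacter G}
    (hψ : ψ ∈ Cfsg.principalBlock M G) (h : aP P ψ = 0) {ξ : Cfsg.IrrCharacter 𝐂}
    (hξ : mlt P ψ ξ ≠ 0) : ξ ∈ (prin P hM).b := by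
  by_contra hnot
  have hb : Cfsg.IsPBlock M (Cfsg.blockOf M (ξ : 𝐂 → ℂ)) := ⟨ξ, rfl⟩
  obtain ⟨θ, hθ, hθP⟩ := exists_theta P hP hM hb
  have hξb : ξ ∈ Cfsg.blockOf M (ξ : 𝐂 → ℂ) := sameBlock_refl hM _
  have hBψ : Cfsg.principalBlock M G = Cfsg.blockOf M (ψ : G → ℂ) := blockOf_eq_of_mem hM hψ
  by_cases hind : Cfsg.IsInducedBlock M 𝐂 (Cfsg.blockOf M (ξ : 𝐂 → ℂ))
      (Cfsg.blockOf M (ψ : G → ℂ))
  · rw [← hBψ] at hind
    obtain ⟨n, hn⟩ := exists_act_image_eq P hP hM (prin_defect P hM) (prin_induced P hM) hind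
    have hst : act P n '' (prin P hM).b = (prin P hM).b :=
      ((prin P hM).image_act_eq_iff hP hM n).mpr (((prin P hM).mem_stabN n).mpr (prin_stab P hM n))
    rw [hst] at hn
    rw [hn] at hξb
    exact hnot hξb
  · have h1 := mlt_eq_of_not_induced P hP hM ⟨_, θ, hb, hθ, hθP⟩ ψ hind hξb
    rw [mlt_eq_zero_of_aP P h hθP] at h1
    exact hξ h1

theorem apply_eq_of_pRegular [Fintype (Cfsg.IrrCharacter 𝐂)] {ψ : Cfsg.IrrCharacter G}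
    (hψ : ψ ∈ Cfsg.principalBlock M G) (h : aP P ψ = 0) (c : 𝐂) (hc : ¬ p ∣ orderOf c) :
    (ψ : G → ℂ) c = (ψ : G → ℂ) 1 := by
  have h1 := restrict_eq_sum (P := P) ψ c
  have h2 := restrict_eq_sum (P := P) ψ (1 : 𝐂)
  have h3 : ((1 : 𝐂) : G) = 1 := rfl
  rw [h1, ← h3, h2]
  apply Finset.sum_congr rfl
  intro ξ _
  by_cases h0 : mlt P ψ ξ = 0
  · rw [h0]; simp
  · have hξ := mem_prin_of_mlt_ne_zero hP hM hψ h h0
    have e1 := eq_theta_of_pRegular P hP hM (prin P hM).hb (prin P hM).hθ (prin P hM).hθP hξ c hc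
    have e2 := apply_one_eq P hP hM (prin P hM).hb (prin P hM).hθ (prin P hM).hθP hξ
    rw [e1, e2, prin_theta_apply, prin_theta_apply]

end main

end Cfsg.Agent.Lib.Helper6.BR
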