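import Mathlib
import Cfsg.Agent.Lib.Helper6.BR4
import Cfsg.Agent.Lib.Helper6.Norm
import Cfsg.Agent.Lib.Helper6.Multiplicity

/-!
# Existence of a character of the principal block killing the `p`-regular part of the centralizer
-/

set_option autoImplicit false
set_option linter.unusedSectionVars false

namespace Cfsg.Agent.Lib.Helper6.BR

open Cfsg.Agent.Lib.Helper6 Cfsg.Agent.Lib.Helper6.PB
open scoped ComplexConjugate

variable {G : Type*} [Group G] [Fintype G] [DecidableEq G] {p : ℕ} [hp : Fact p.Prime]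
variable {P : Sylow p G}
variable [Fintype ↥(Subgroup.centralizer ((P : Subgroup G) : Set G))]
variable [Fintype ↥(Subgroup.normalizer ((P : Subgroup G) : Set G))]
variable {M : Ideal Cfsg.AlgInt}

local notation "𝐂" => Subgroup.centralizer ((P : Subgroup G) : Set G)
local notation "𝐍" => Subgroup.normalizer ((P : Subgroup G) : Set G)
local notation "𝐃" => Subgroup.subgroupOf (P : Subgroup G) (Subgroup.centralizer ((P : Subgroup G) : Set G))

section main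

variable (hP : Nat.card P = p) (hM : Cfsg.IsPModular p M)
include hP hM

theorem sum_C_mul_conj (ψ : Cfsg.IrrCharacter G) (ξ : Cfsg.IrrCharacter 𝐂) :
    ∑ c : 𝐂, (ψ : G → ℂ) c * conj ((ξ : 𝐂 → ℂ) c) = (Nat.card 𝐂 : ℂ) * (mlt P ψ ξ : ℂ) := by
  have h := mlt_spec P ψ ξ
  unfold Cfsg.classInner at h
  have hne : (Nat.card 𝐂 : ℂ) ≠ 0 := by
    have : Nat.card 𝐂 ≠ 0 := Nat.card_pos.ne'
    exact_mod_cast this
  rw [← h]
  field_simp

open Classical in
theorem sum_prin_conj [Fintype (Cfsg.IrrCharacter 𝐂)] (c : 𝐂) :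
    ∑ ξ ∈ Finset.univ.filter (· ∈ (prin P hM).b), conj ((ξ : 𝐂 → ℂ) c)
      = if p ∣ orderOf c then 0 else (p : ℂ) := by
  classical
  split_ifs with hc
  · rw [← map_sum, sum_block_of_pSingular P hP hM (prin P hM).hb (prin P hM).hθ (prin P hM).hθP c hc,
      map_zero]
  · have h1 : ∀ ξ ∈ Finset.univ.filter (· ∈ (prin P hM).b), conj ((ξ : 𝐂 → ℂ) c) = 1 := by
      intro ξ hξ
      have hξ' := (Finset.mem_filter.mp hξ).2
      rw [eq_theta_of_pRegular P hP hM (prin P hM).hb (prin P hM).hθ (prin P hM).hθP hξ' c hc,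
        prin_theta_apply, map_one]
    rw [Finset.sum_congr rfl h1, Finset.sum_const, nsmul_eq_mul, mul_one]
    have := card_block P hP hM (prin P hM).hb
    rw [Nat.card_eq_fintype_card, Fintype.card_subtype] at this
    rw [this]

/-- two characters agreeing on the `p`-regular elements whose restrictions to `P` are disjoint
produce a member of the principal block without trivial constituent on `P` -/
theorem exists_prin_aP_zero [Fintype (Cfsg.IrrCharacter 𝐂)] (Λ₁ Λ₂ : Cfsg.IrrCharacter G)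
    (hdis : ∀ ξ ξ' : Cfsg.IrrCharacter 𝐂, mlt P Λ₁ ξ ≠ 0 → mlt P Λ₂ ξ' ≠ 0 → ¬ SameP ξ ξ')
    (hagree : ∀ g : G, ¬ p ∣ orderOf g → (Λ₁ : G → ℂ) g = (Λ₂ : G → ℂ) g) :
    ∃ ψ : Cfsg.IrrCharacter G, ψ ∈ Cfsg.principalBlock M G ∧ aP P ψ = 0 := by
  classical
  have : Fintype (Cfsg.IrrCharacter G) := Fintype.ofFinite _
  have : Fintype 𝐃 := Fintype.ofFinite _
  have hX : Cfsg.IsCharacter G ((Λ₁ : G → ℂ) * (fun g => conj ((Λ₂ : G → ℂ) g))) :=
    IsCharacter.mul (IsIrrCharacter.isCharacter Λ₁.2)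
      (IsCharacter.conj (IsIrrCharacter.isCharacter Λ₂.2))
  obtain ⟨m, hXsum, -⟩ := IsCharacter.exists_mult hX
  have hXv := apply_eq_sum_mult hXsum
  have hXa : ∀ g : G, ((Λ₁ : G → ℂ) * (fun g => conj ((Λ₂ : G → ℂ) g))) g
      = (Λ₁ : G → ℂ) g * conj ((Λ₂ : G → ℂ) g) := fun g => rfl
  -- the sum over `P`
  have S0 := sum_D_mul_conj_eq_zero hP hM Λ₁ Λ₂ hdis
  have S1 : ∑ x : 𝐃, (Λ₁ : G → ℂ) ((x : 𝐂) : G) * conj ((Λ₂ : G → ℂ) ((x : 𝐂) : G))
      = ((∑ ψ : Cfsg.IrrCharacter G, m ψ * (p * aP P ψ) : ℕ) : ℂ) := by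
    have : ∀ x ∈ (Finset.univ : Finset 𝐃),
        (Λ₁ : G → ℂ) ((x : 𝐂) : G) * conj ((Λ₂ : G → ℂ) ((x : 𝐂) : G))
        = ∑ ψ : Cfsg.IrrCharacter G, (m ψ : ℂ) * (ψ : G → ℂ) ((x : 𝐂) : G) := by
      intro x _
      rw [← hXa, hXv]
    rw [Finset.sum_congr rfl this, Finset.sum_comm]
    push_cast
    apply Finset.sum_congr rfl
    intro ψ _
    rw [← Finset.mul_sum, sum_D_eq hP hM ψ]
    push_cast
    ring
  rw [S0] at S1
  have S1' : ∑ ψ : Cfsg.IrrCharacter G, m ψ * (p * aP P ψ) = 0 := by exact_mod_cast S1.symm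
  have haP : ∀ ψ : Cfsg.IrrCharacter G, m ψ ≠ 0 → aP P ψ = 0 := by
    intro ψ hψ
    have h1 := (Finset.sum_eq_zero_iff.mp S1') ψ (Finset.mem_univ _)
    rcases Nat.mul_eq_zero.mp h1 with h2 | h2
    · exact absurd h2 hψ
    · rcases Nat.mul_eq_zero.mp h2 with h3 | h3
      · exact absurd h3 hp.out.ne_zero
      · exact h3
  -- the sums over the centralizer
  have T : ∀ ξz : Cfsg.IrrCharacter 𝐂,
      ∑ c : 𝐂, ((Λ₁ : G → ℂ) c * conj ((Λ₂ : G → ℂ) c)) * conj ((ξz : 𝐂 → ℂ) c)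
        = ∑ ψ : Cfsg.IrrCharacter G, (m ψ : ℂ) * ((Nat.card 𝐂 : ℂ) * (mlt P ψ ξz : ℂ)) := by
    intro ξz
    have : ∀ c ∈ (Finset.univ : Finset 𝐂),
        ((Λ₁ : G → ℂ) c * conj ((Λ₂ : G → ℂ) c)) * conj ((ξz : 𝐂 → ℂ) c)
        = ∑ ψ : Cfsg.IrrCharacter G, (m ψ : ℂ) * ((ψ : G → ℂ) c * conj ((ξz : 𝐂 → ℂ) c)) := by
      intro c _
      rw [← hXa, hXv, Finset.sum_mul]
      apply Finset.sum_congr rfl
      intro ψ _
      ring
    rw [Finset.sum_congr rfl this, Finset.sum_comm]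
    apply Finset.sum_congr rfl
    intro ψ _
    rw [← Finset.mul_sum, sum_C_mul_conj hP hM ψ ξz]
  have Tsum : ∑ ξz ∈ Finset.univ.filter (· ∈ (prin P hM).b),
      ∑ c : 𝐂, ((Λ₁ : G → ℂ) c * conj ((Λ₂ : G → ℂ) c)) * conj ((ξz : 𝐂 → ℂ) c)
      = ((∑ c : 𝐂, (if p ∣ orderOf c then (0 : ℝ) else (p : ℝ) * Complex.normSq ((Λ₁ : G → ℂ) c))
          : ℝ) : ℂ) := by
    rw [Finset.sum_comm]
    push_cast
    apply Finset.sum_congr rfl
    intro c _
    rw [← Finset.mul_sum, sum_prin_conj hP hM c]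
    split_ifs with hc
    · simp
    · have hc' : ¬ p ∣ orderOf (c : G) := by rwa [Subgroup.orderOf_coe]
      rw [← hagree _ hc', Complex.mul_conj]
      push_cast
      ring
  have hpos : (0 : ℝ) < ∑ c : 𝐂, (if p ∣ orderOf c then (0 : ℝ)
      else (p : ℝ) * Complex.normSq ((Λ₁ : G → ℂ) c)) := by
    have hnn : ∀ c ∈ (Finset.univ : Finset 𝐂), (0 : ℝ) ≤ (if p ∣ orderOf c then (0 : ℝ)
        else (p : ℝ) * Complex.normSq ((Λ₁ : G → ℂ) c)) := by
      intro c _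
      split_ifs
      · exact le_refl _
      · exact mul_nonneg (Nat.cast_nonneg _) (Complex.normSq_nonneg _)
    have h1 := Finset.single_le_sum hnn (Finset.mem_univ (1 : 𝐂))
    have h2 : ¬ p ∣ orderOf (1 : 𝐂) := by
      rw [orderOf_one]; exact hp.out.not_dvd_one
    rw [if_neg h2] at h1
    have h3 : (0 : ℝ) < (p : ℝ) * Complex.normSq ((Λ₁ : G → ℂ) ((1 : 𝐂) : G)) := by
      apply mul_pos
      · exact_mod_cast hp.out.pos
      · rw [Complex.normSq_pos]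
        exact IsIrrCharacter.apply_one_ne_zero Λ₁.2
    linarith
  have hTne : ∑ ξz ∈ Finset.univ.filter (· ∈ (prin P hM).b),
      ∑ c : 𝐂, ((Λ₁ : G → ℂ) c * conj ((Λ₂ : G → ℂ) c)) * conj ((ξz : 𝐂 → ℂ) c) ≠ 0 := by
    rw [Tsum]
    exact_mod_cast hpos.ne'
  obtain ⟨ξz, hξz, hξzne⟩ := Finset.exists_ne_zero_of_sum_ne_zero hTne
  have hξzb : ξz ∈ (prin P hM).b := (Finset.mem_filter.mp hξz).2
  rw [T ξz] at hξzne
  obtain ⟨ψ, -, hψne⟩ := Finset.exists_ne_zero_of_sum_ne_zero hξzne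
  have hmψ : m ψ ≠ 0 := by
    intro h0
    apply hψne
    rw [h0]; simp
  have hmlt : mlt P ψ ξz ≠ 0 := by
    intro h0
    apply hψne
    rw [h0]; simp
  have ha := haP ψ hmψ
  refine ⟨ψ, ?_, ha⟩
  by_cases hind : Cfsg.IsInducedBlock M 𝐂 (prin P hM).b (Cfsg.blockOf M (ψ : G → ℂ))
  · have := IsInducedBlock.unique 𝐂 hM hind (prin_induced P hM)
    rw [← this]
    exact sameBlock_refl hM _
  · exfalso
    have h1 := mlt_eq_of_not_induced P hP hM (prin P hM) ψ hind hξzb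
    rw [mlt_eq_zero_of_aP P ha (prin P hM).hθP] at h1
    exact hmlt h1

end main

end Cfsg.Agent.Lib.Helper6.BR
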