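import Mathlib
import Cfsg.Agent.Lib.Helper6.BR5

/-!
# A small faithful character produces a kernel containing the `p`-regular part of the centralizer
-/

set_option autoImplicit false
set_option linter.unusedSectionVars false

namespace Cfsg.Agent.Lib.Helper6.BR

open Cfsg.Agent.Lib.Helper6 Cfsg.Agent.Lib.Helper6.PB
open scoped ComplexConjugate

variable {G : Type*} [Group G] [Fintype G] [DecidableEq G] {p : ℕ} [hp : Fact p.Prime]
variable {P : Sylow p G}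
variable [Fintype ↥(Subgroup.centralizer ((P : Subgroup G) : Set G))]
variable [Fintype ↥(Subgroup.normalizer ((P : Subgroup G) : Set G))]
variable {M : Ideal Cfsg.AlgInt}

local notation "𝐂" => Subgroup.centralizer ((P : Subgroup G) : Set G)
local notation "𝐍" => Subgroup.normalizer ((P : Subgroup G) : Set G)

/-- the local data attached to a small character which is not trivial on `P` -/
structure Small (M : Ideal Cfsg.AlgInt) (P : Sylow p G)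
    [Fintype ↥(Subgroup.centralizer ((P : Subgroup G) : Set G))]
    [Fintype ↥(Subgroup.normalizer ((P : Subgroup G) : Set G))]
    (Λ : Cfsg.IrrCharacter G) where
  B : Set (Cfsg.IrrCharacter G)
  hB : Cfsg.IsPBlock M B
  hBP : Cfsg.IsDefectGroup p M B (P : Subgroup G)
  L : Loc M P
  hind : Cfsg.IsInducedBlock M (Subgroup.centralizer ((P : Subgroup G) : Set G)) L.b B
  K : L.Str B
  j : L.J
  hΛ : K.Λ j = Λ
  hδ : K.δ (K.Λ j) = -1

section main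

variable (hP : Nat.card P = p) (hM : Cfsg.IsPModular p M)
include hP hM

theorem exists_small (Λ : Cfsg.IrrCharacter G)
    (hd : 2 * Cfsg.charDegree (Λ : G → ℂ) + 1 < p)
    (hnk : ¬ ∀ x : 𝐂, (x : G) ∈ (P : Subgroup G) → (Λ : G → ℂ) x = (Λ : G → ℂ) 1) :
    Nonempty (Small M P Λ) := by
  have hdpos := IsIrrCharacter.charDegree_pos Λ.2
  have hpd : ¬ p ∣ Cfsg.charDegree (Λ : G → ℂ) := Nat.not_dvd_of_pos_of_lt hdpos (by omega)
  have hB : Cfsg.IsPBlock M (Cfsg.blockOf M (Λ : G → ℂ)) := ⟨Λ, rfl⟩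
  have hBP := isDefectGroup_blockOf P hP hM Λ hpd
  obtain ⟨L, hind⟩ := exists_loc P hP hM hB hBP
  obtain ⟨K⟩ := L.exists_str hP hM hB hBP hind
  have hΛB : Λ ∈ Cfsg.blockOf M (Λ : G → ℂ) := sameBlock_refl hM _
  rw [K.union_eq] at hΛB
  rcases hΛB with hS | ⟨j, hj⟩
  · exact absurd (const_of_mem_S hP hM hB hBP hind K hS hd) hnk
  · have hδ : K.δ (K.Λ j) = -1 := by
      apply delta_eq_neg_one hP hM hB hBP hind K j
      · rw [hj]; exact hd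
      · rw [hj]; exact hnk
    exact ⟨⟨_, hB, hBP, L, hind, K, j, hj, hδ⟩⟩

theorem Small.degree_eq {Λ : Cfsg.IrrCharacter G} (D : Small M P Λ) (i : D.L.J) :
    Cfsg.charDegree (D.K.Λ i : G → ℂ) = Cfsg.charDegree (Λ : G → ℂ) := by
  have h := D.K.agree hP hM D.hind i D.j 1 (by rw [orderOf_one]; exact hp.out.not_dvd_one)
  unfold Cfsg.charDegree
  rw [h, D.hΛ]

theorem Small.mlt_eq [DecidableEq (Cfsg.IrrCharacter 𝐂)] {Λ : Cfsg.IrrCharacter G}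
    (D : Small M P Λ) (hd : Cfsg.charDegree (Λ : G → ℂ) < p) (i : D.L.J) :
    Cfsg.charDegree (Λ : G → ℂ) = (𝐂).relIndex 𝐍 * Cfsg.charDegree (D.L.θ : 𝐂 → ℂ) ∧
      ∀ ξ : Cfsg.IrrCharacter 𝐂, mlt P (D.K.Λ i) ξ = if ξ ∈ orb (D.L.rep i) then 1 else 0 := by
  have hδ : D.K.δ (D.K.Λ i) = -1 := by
    rw [D.K.sign_const hP hM D.hind i D.j]; exact D.hδ
  have h := mlt_of_neg hP hM D.hB D.hBP D.hind D.K i hδ (by rw [D.degree_eq hP hM i]; exact hd)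
  rw [D.degree_eq hP hM i] at h
  exact h

/-- a small irreducible character not trivial on `P` yields an irreducible character whose kernel
contains the `p`-regular elements of the centralizer but not `P` -/
theorem exists_kernel_char (Λ : Cfsg.IrrCharacter G)
    (hd : 2 * Cfsg.charDegree (Λ : G → ℂ) + 1 < p)
    (hnk : ¬ ∀ x : 𝐂, (x : G) ∈ (P : Subgroup G) → (Λ : G → ℂ) x = (Λ : G → ℂ) 1) :
    ∃ ψ : Cfsg.IrrCharacter G,
      (∀ c : 𝐂, ¬ p ∣ orderOf c → (ψ : G → ℂ) c = (ψ : G → ℂ) 1) ∧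
      ¬ ∀ x : 𝐂, (x : G) ∈ (P : Subgroup G) → (ψ : G → ℂ) x = (ψ : G → ℂ) 1 := by
  classical
  have : Fintype (Cfsg.IrrCharacter 𝐂) := Fintype.ofFinite _
  obtain ⟨D⟩ := exists_small hP hM Λ hd hnk
  have hdp : Cfsg.charDegree (Λ : G → ℂ) < p := by omega
  obtain ⟨hdeg, hmlt₁⟩ := D.mlt_eq hP hM hdp D.j
  have hθpos : 1 ≤ Cfsg.charDegree (D.L.θ : 𝐂 → ℂ) := IsIrrCharacter.charDegree_pos D.L.θ.2
  have hm : (𝐂).relIndex 𝐍 < p - 1 := by
    have : (𝐂).relIndex 𝐍 ≤ (𝐂).relIndex 𝐍 * Cfsg.charDegree (D.L.θ : 𝐂 → ℂ) :=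
      Nat.le_mul_of_pos_right _ hθpos
    omega
  obtain ⟨ξ', hξ's, hns⟩ := exists_not_sameP hP hM D.L (D.L.rep_mem D.j) hm
  obtain ⟨j₂, hj₂⟩ : ∃ j₂ : D.L.J, j₂ = Quotient.mk D.L.rel ⟨ξ', hξ's⟩ := ⟨_, rfl⟩
  obtain ⟨-, hmlt₂⟩ := D.mlt_eq hP hM hdp j₂
  obtain ⟨n, hn⟩ := (D.L.rel_rep_mk hξ's j₂).mpr hj₂
  have hdis : ∀ ξ ξ'' : Cfsg.IrrCharacter 𝐂, mlt P (D.K.Λ D.j) ξ ≠ 0 →
      mlt P (D.K.Λ j₂) ξ'' ≠ 0 → ¬ SameP ξ ξ'' := by
    intro ξ ξ'' h1 h2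
    have hξ : ξ ∈ orb (D.L.rep D.j) := by
      by_contra hnot
      rw [hmlt₁ ξ, if_neg hnot] at h1
      exact h1 rfl
    have hξ'' : ξ'' ∈ orb (D.L.rep j₂) := by
      by_contra hnot
      rw [hmlt₂ ξ'', if_neg hnot] at h2
      exact h2 rfl
    have hξ''2 : ξ'' ∈ orb ξ' := by
      obtain ⟨k, rfl⟩ := (mem_orb _ _).mp hξ''
      refine (mem_orb _ _).mpr ⟨k * n⁻¹, ?_⟩
      rw [act_mul, ← hn, act_inv_act]
    exact not_sameP_orb hns hξ hξ''2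
  obtain ⟨ψ, hψ, ha⟩ := exists_prin_aP_zero hP hM (D.K.Λ D.j) (D.K.Λ j₂) hdis
    (D.K.agree hP hM D.hind D.j j₂)
  exact ⟨ψ, apply_eq_of_pRegular hP hM hψ ha, not_const_of_aP hP hM ha⟩

end main

end Cfsg.Agent.Lib.Helper6.BR
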