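import Mathlib
import Cfsg.Agent.Lib.Helper6.BR6
import Cfsg.Agent.Lib.Helper6.MulCop1

/-!
# The case where the `p`-regular elements of the centralizer are central: basic facts
-/

set_option autoImplicit false
set_option linter.unusedSectionVars false

namespace Cfsg.Agent.Lib.Helper6.BR

open Cfsg.Agent.Lib.Helper6 Cfsg.Agent.Lib.Helper6.PB
open scoped ComplexConjugate

variable {G : Type*} [Group G] [Fintype G] [DecidableEq G] {p : ℕ} [hp : Fact p.Prime]
variable {P : Sylow p G}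
variable [Fintype ↥(Subgroup.centralizer ((P : Subgroup G) : Set G))]
variable [Fintype ↥(Subgroup.normalizer ((P : Subgroup G) : Set G))]
variable {M : Ideal Cfsg.AlgInt}

local notation "𝐂" => Subgroup.centralizer ((P : Subgroup G) : Set G)
local notation "𝐍" => Subgroup.normalizer ((P : Subgroup G) : Set G)
local notation "𝐃" => Subgroup.subgroupOf (P : Subgroup G) (Subgroup.centralizer ((P : Subgroup G) : Set G))

section main

variable (hP : Nat.card P = p) (hM : Cfsg.IsPModular p M)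
include hP hM

/-- a character killing the `p`-regular elements of the centralizer and without trivial constituent
on `P` lies in the principal block -/
theorem mem_prin_of_kernel [Fintype (Cfsg.IrrCharacter 𝐂)] (ψ : Cfsg.IrrCharacter G)
    (hker : ∀ c : 𝐂, ¬ p ∣ orderOf c → (ψ : G → ℂ) c = (ψ : G → ℂ) 1) (ha : aP P ψ = 0) :
    ψ ∈ Cfsg.principalBlock M G := by
  classical
  have hd := IsCharacter.apply_one_eq_charDegree (IsIrrCharacter.isCharacter ψ.2)
  have hdpos := IsIrrCharacter.charDegree_pos ψ.2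
  have T1 : ∑ ξz ∈ Finset.univ.filter (· ∈ (prin P hM).b),
      ∑ c : 𝐂, (ψ : G → ℂ) c * conj ((ξz : 𝐂 → ℂ) c)
      = ((∑ c : 𝐂, (if p ∣ orderOf c then 0 else p * Cfsg.charDegree (ψ : G → ℂ)) : ℕ) : ℂ) := by
    rw [Finset.sum_comm]
    push_cast
    apply Finset.sum_congr rfl
    intro c _
    rw [← Finset.mul_sum, sum_prin_conj hP hM c]
    split_ifs with hc
    · simp
    · rw [hker c hc, hd]; ring
  have hpos : 0 < ∑ c : 𝐂, (if p ∣ orderOf c then 0 else p * Cfsg.charDegree (ψ : G → ℂ)) := by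
    apply Finset.sum_pos'
    · intro c _; exact Nat.zero_le _
    · refine ⟨1, Finset.mem_univ _, ?_⟩
      rw [if_neg (by rw [orderOf_one]; exact hp.out.not_dvd_one)]
      exact Nat.mul_pos hp.out.pos hdpos
  have hTne : ∑ ξz ∈ Finset.univ.filter (· ∈ (prin P hM).b),
      ∑ c : 𝐂, (ψ : G → ℂ) c * conj ((ξz : 𝐂 → ℂ) c) ≠ 0 := by
    rw [T1]
    exact_mod_cast hpos.ne'
  obtain ⟨ξz, hξz, hξzne⟩ := Finset.exists_ne_zero_of_sum_ne_zero hTne
  have hξzb : ξz ∈ (prin P hM).b := (Finset.mem_filter.mp hξz).2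
  rw [sum_C_mul_conj hP hM ψ ξz] at hξzne
  have hmlt : mlt P ψ ξz ≠ 0 := by
    intro h0
    apply hξzne
    rw [h0]; simp
  by_cases hind : Cfsg.IsInducedBlock M 𝐂 (prin P hM).b (Cfsg.blockOf M (ψ : G → ℂ))
  · have := IsInducedBlock.unique 𝐂 hM hind (prin_induced P hM)
    rw [← this]
    exact sameBlock_refl hM _
  · exfalso
    have h1 := mlt_eq_of_not_induced P hP hM (prin P hM) ψ hind hξzb
    rw [mlt_eq_zero_of_aP P ha (prin P hM).hθP] at h1
    exact hmlt h1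

/-- in the stable case the orbits stay inside the block -/
theorem orb_subset_b [DecidableEq (Cfsg.IrrCharacter 𝐂)] (L : Loc M P)
    (hstab : ∀ n : 𝐍, act P n L.θ = L.θ) {ξ ξ' : Cfsg.IrrCharacter 𝐂} (hξ : ξ ∈ L.b)
    (h : ξ' ∈ orb ξ) : ξ' ∈ L.b := by
  obtain ⟨n, rfl⟩ := (mem_orb ξ ξ').mp h
  exact (L.act_mem_iff hP hM hξ n).mpr (hstab n)

/-- in the stable case distinct exceptional characters have disjoint restrictions to `P` -/
theorem Small.disjoint_of_ne [DecidableEq (Cfsg.IrrCharacter 𝐂)] {Λ : Cfsg.IrrCharacter G}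
    (D : Small M P Λ) (hd : Cfsg.charDegree (Λ : G → ℂ) < p)
    (hstab : ∀ n : 𝐍, act P n D.L.θ = D.L.θ) {i j : D.L.J} (hij : i ≠ j) :
    ∀ ξ ξ' : Cfsg.IrrCharacter 𝐂, mlt P (D.K.Λ i) ξ ≠ 0 → mlt P (D.K.Λ j) ξ' ≠ 0 →
      ¬ SameP ξ ξ' := by
  intro ξ ξ' h1 h2 hs
  obtain ⟨-, hmi⟩ := D.mlt_eq hP hM hd i
  obtain ⟨-, hmj⟩ := D.mlt_eq hP hM hd j
  have hξ : ξ ∈ orb (D.L.rep i) := by
    by_contra hnot
    rw [hmi ξ, if_neg hnot] at h1
    exact h1 rfl
  have hξ' : ξ' ∈ orb (D.L.rep j) := by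
    by_contra hnot
    rw [hmj ξ', if_neg hnot] at h2
    exact h2 rfl
  have hb := orb_subset_b hP hM D.L hstab (D.L.rep_mem i).1 hξ
  have hb' := orb_subset_b hP hM D.L hstab (D.L.rep_mem j).1 hξ'
  have heq := eq_of_sameP hP hM D.L.hb hb hb' hs
  obtain ⟨n, hn⟩ := (mem_orb _ _).mp hξ
  obtain ⟨k, hk⟩ := (mem_orb _ _).mp hξ'
  apply hij
  apply (D.L.rel_rep_iff i j).mp
  refine ⟨n⁻¹ * k, ?_⟩
  rw [act_mul, hk, ← heq, ← hn, act_inv_act]

/-- the sum of the squared absolute values over `P` of an exceptional character -/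
theorem Small.sum_D_normSq [DecidableEq (Cfsg.IrrCharacter 𝐂)] [Fintype 𝐃]
    [Fintype (Cfsg.IrrCharacter 𝐂)] {Λ : Cfsg.IrrCharacter G}
    (D : Small M P Λ) (hd : Cfsg.charDegree (Λ : G → ℂ) < p)
    (hstab : ∀ n : 𝐍, act P n D.L.θ = D.L.θ)
    (hone : ∀ ξ : Cfsg.IrrCharacter 𝐂, (ξ : 𝐂 → ℂ) 1 = 1) (i : D.L.J) :
    ∑ x : 𝐃, (D.K.Λ i : G → ℂ) ((x : 𝐂) : G) * conj ((D.K.Λ i : G → ℂ) ((x : 𝐂) : G))
      = (p : ℂ) * ((𝐂).relIndex 𝐍 : ℂ) := by
  obtain ⟨-, hm⟩ := D.mlt_eq hP hM hd i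
  rw [sum_D_mul_conj]
  have hin : ∀ ξ : Cfsg.IrrCharacter 𝐂, ∑ ξ' : Cfsg.IrrCharacter 𝐂,
      ((mlt P (D.K.Λ i) ξ : ℂ) * (mlt P (D.K.Λ i) ξ' : ℂ))
        * ∑ x : 𝐃, (ξ : 𝐂 → ℂ) (x : 𝐂) * conj ((ξ' : 𝐂 → ℂ) (x : 𝐂))
      = if ξ ∈ orb (D.L.rep i) then (p : ℂ) else 0 := by
    intro ξ
    by_cases hξ : ξ ∈ orb (D.L.rep i)
    · rw [if_pos hξ, Finset.sum_eq_single ξ]
      · rw [hm ξ, if_pos hξ, sum_D_self hP ξ, hone ξ]
        push_cast; ring
      · intro ξ' _ hne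
        by_cases hξ' : ξ' ∈ orb (D.L.rep i)
        · have hns : ¬ SameP ξ ξ' := fun hs =>
            hne (eq_of_sameP hP hM D.L.hb
              (orb_subset_b hP hM D.L hstab (D.L.rep_mem i).1 hξ)
              (orb_subset_b hP hM D.L hstab (D.L.rep_mem i).1 hξ') hs).symm
          rw [sum_D_of_not_sameP hP hns, mul_zero]
        · rw [hm ξ', if_neg hξ']; simp
      · intro h; exact absurd (Finset.mem_univ _) h
    · rw [if_neg hξ]
      apply Finset.sum_eq_zero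
      intro ξ' _
      rw [hm ξ, if_neg hξ]; simp
  rw [Finset.sum_congr rfl (fun ξ _ => hin ξ), Finset.sum_ite_mem, Finset.univ_inter,
    Finset.sum_const, card_orb_star D.L hP hM (D.L.rep_mem i), nsmul_eq_mul]
  ring

open Classical in
/-- the expansion of the generalized characters of a block -/
theorem bet_apply [Fintype (Cfsg.IrrCharacter G)] {L : Loc M P} {B : Set (Cfsg.IrrCharacter G)}
    (hind : Cfsg.IsInducedBlock M (Subgroup.centralizer ((P : Subgroup G) : Set G)) L.b B)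
    (K : L.Str B) (j : L.J) (g : G) :
    bet P L.θ (L.rep j) g
      = ∑ χ ∈ Finset.univ.filter (· ∈ K.S), (K.δ χ : ℂ) * (χ : G → ℂ) g
        + (K.δ (K.Λ j) : ℂ) * (K.Λ j : G → ℂ) g := by
  classical
  have : Fintype L.J := Fintype.ofFinite _
  rw [bet_eq_sum, Finset.sum_apply]
  simp only [Pi.smul_apply, smul_eq_mul]
  rw [← Finset.sum_filter_add_sum_filter_not Finset.univ (· ∈ K.S)]
  have h1 : ∑ χ ∈ Finset.univ.filter (· ∈ K.S),
      (aco P L.θ (L.rep j) χ : ℂ) * (χ : G → ℂ) g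
      = ∑ χ ∈ Finset.univ.filter (· ∈ K.S), (K.δ χ : ℂ) * (χ : G → ℂ) g := by
    apply Finset.sum_congr rfl
    intro χ hχ
    have hχ' : χ ∈ K.S := (Finset.mem_filter.mp hχ).2
    rw [K.rest χ hχ'.1 hχ'.2 j]
  have h2 : ∑ χ ∈ Finset.univ.filter (fun χ => ¬ χ ∈ K.S),
      (aco P L.θ (L.rep j) χ : ℂ) * (χ : G → ℂ) g
      = (K.δ (K.Λ j) : ℂ) * (K.Λ j : G → ℂ) g := by
    have hsub : Finset.univ.image K.Λ ⊆ Finset.univ.filter (fun χ => ¬ χ ∈ K.S) := by
      intro χ hχ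
      obtain ⟨i, -, rfl⟩ := Finset.mem_image.mp hχ
      exact Finset.mem_filter.mpr ⟨Finset.mem_univ _, fun h => h.2 ⟨i, rfl⟩⟩
    rw [← Finset.sum_subset hsub, Finset.sum_image (fun a _ b _ h => K.inj h),
      Finset.sum_eq_single j]
    · rw [K.diag j]
    · intro i _ hij
      rw [K.off i j hij, Int.cast_zero, zero_mul]
    · intro h; exact absurd (Finset.mem_univ _) h
    · intro χ hχ hnot
      have hχS : ¬ χ ∈ K.S := (Finset.mem_filter.mp hχ).2
      have hχB : χ ∉ B := by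
        intro hB
        apply hχS
        refine ⟨hB, ?_⟩
        rintro ⟨i, rfl⟩
        exact hnot (Finset.mem_image.mpr ⟨i, Finset.mem_univ _, rfl⟩)
      rw [L.aco_eq_zero_of_not_mem hP hM hind (L.rep_mem j).1 hχB, Int.cast_zero, zero_mul]
  rw [h1, h2]

section central

variable (hcen : ∀ c : ↥(Subgroup.centralizer ((P : Subgroup G) : Set G)), ¬ p ∣ orderOf c →
  (c : G) ∈ Subgroup.center G)
include hcen

theorem cen_comm (a b : 𝐂) : a * b = b * a := by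
  apply Subtype.ext
  rw [Subgroup.coe_mul, Subgroup.coe_mul]
  by_cases hs : p ∣ orderOf a
  · have hs' : p ∣ orderOf (a : G) := by rwa [Subgroup.orderOf_coe]
    obtain ⟨z, hz, -, y, hy, hyr, hzy⟩ := exists_decomp_C P hP a.2 hs'
    have hyc : y ∈ Subgroup.center G :=
      hcen ⟨y, hy⟩ (by rw [← Subgroup.orderOf_coe]; exact hyr)
    have hzb : z * (b : G) = (b : G) * z := (Subgroup.mem_centralizer_iff.mp b.2) z hz
    have h1 : (b : G) * y = y * (b : G) := Subgroup.mem_center_iff.mp hyc (b : G)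
    rw [hzy]
    calc z * y * (b : G) = z * (y * (b : G)) := mul_assoc _ _ _
      _ = z * ((b : G) * y) := by rw [h1]
      _ = (z * (b : G)) * y := (mul_assoc _ _ _).symm
      _ = ((b : G) * z) * y := by rw [hzb]
      _ = (b : G) * (z * y) := mul_assoc _ _ _
  · exact (Subgroup.mem_center_iff.mp (hcen a hs) (b : G)).symm

theorem cen_apply_one (ξ : Cfsg.IrrCharacter 𝐂) : (ξ : 𝐂 → ℂ) 1 = 1 :=
  MulCop.apply_one_eq_one_of_comm (isMulCommutative_iff.mpr (cen_comm hP hM hcen)) ξ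

theorem cen_charDegree (ξ : Cfsg.IrrCharacter 𝐂) : Cfsg.charDegree (ξ : 𝐂 → ℂ) = 1 := by
  have h1 := IsCharacter.apply_one_eq_charDegree (IsIrrCharacter.isCharacter ξ.2)
  rw [cen_apply_one hP hM hcen ξ] at h1
  exact_mod_cast h1.symm

theorem cen_stab (L : Loc M P) (n : 𝐍) : act P n L.θ = L.θ := by
  apply Subtype.ext
  funext c
  rw [act_apply]
  by_cases hs : p ∣ orderOf c
  · have hs' : p ∣ orderOf (c : G) := by rwa [Subgroup.orderOf_coe]
    obtain ⟨z, hz, -, y, hy, hyr, hzy⟩ := exists_decomp_C P hP c.2 hs'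
    have hyc : y ∈ Subgroup.center G :=
      hcen ⟨y, hy⟩ (by rw [← Subgroup.orderOf_coe]; exact hyr)
    obtain ⟨zc, hzc⟩ : ∃ zc : 𝐂, (zc : G) = z := ⟨⟨z, P_le_C P hP hz⟩, rfl⟩
    obtain ⟨yc, hyc'⟩ : ∃ yc : 𝐂, (yc : G) = y := ⟨⟨y, hy⟩, rfl⟩
    obtain ⟨zn, hzn⟩ : ∃ zn : 𝐂, (zn : G) = (n : G)⁻¹ * z * (n : G) :=
      ⟨⟨_, P_le_C P hP (conj_mem_P' P n.2 hz)⟩, rfl⟩
    have hzcP : (zc : G) ∈ (P : Subgroup G) := by rw [hzc]; exact hz
    have hznP : (zn : G) ∈ (P : Subgroup G) := by rw [hzn]; exact conj_mem_P' P n.2 hz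
    have hc : c = zc * yc := by
      apply Subtype.ext
      rw [Subgroup.coe_mul, hzc, hyc']
      exact hzy
    have h1 : (cj P n).symm c = zn * yc := by
      apply Subtype.ext
      rw [cj_symm_apply_coe, Subgroup.coe_mul, hzn, hyc', hzy]
      have h2 : (n : G) * y = y * (n : G) := Subgroup.mem_center_iff.mp hyc (n : G)
      calc (n : G)⁻¹ * (z * y) * (n : G) = (n : G)⁻¹ * z * (y * (n : G)) := by group
        _ = (n : G)⁻¹ * z * ((n : G) * y) := by rw [h2]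
        _ = (n : G)⁻¹ * z * (n : G) * y := by group
    rw [h1, theta_mul_left P hP hM L.hb L.hθ L.hθP hznP, hc,
      theta_mul_left P hP hM L.hb L.hθ L.hθP hzcP]
  · have hcc : (c : G) ∈ Subgroup.center G := hcen c hs
    have h1 : (cj P n).symm c = c := by
      apply Subtype.ext
      rw [cj_symm_apply_coe]
      have h2 : (n : G) * (c : G) = (c : G) * (n : G) := Subgroup.mem_center_iff.mp hcc (n : G)
      rw [mul_assoc, ← h2, ← mul_assoc, inv_mul_cancel, one_mul]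
    rw [h1]

theorem cen_T (L : Loc M P) : L.T = 𝐍 := by
  apply le_antisymm L.T_le_N
  intro g hg
  rw [Loc.mem_T_iff]
  exact ⟨hg, cen_stab hP hM hcen L ⟨g, hg⟩⟩

theorem cen_e (L : Loc M P) : L.e = (𝐂).relIndex 𝐍 := by
  unfold Loc.e
  rw [cen_T hP hM hcen L]

end central

end main

end Cfsg.Agent.Lib.Helper6.BR
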