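import Mathlib
import Cfsg.Agent.Lib.Helper6.BR7

/-!
# Products of exceptional characters and the principal block
-/

set_option autoImplicit false
set_option linter.unusedSectionVars false

namespace Cfsg.Agent.Lib.Helper6.BR

open Cfsg.Agent.Lib.Helper6 Cfsg.Agent.Lib.Helper6.PB
open scoped ComplexConjugate

variable {G : Type*} [Group G] [Fintype G] [DecidableEq G] {p : ℕ} [hp : Fact p.Prime]
variable {P : Sylow p G}
variable [Fintype ↥(Subgroup.centralizer ((P : Subgroup G) : Set G))]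
variable [Fintype ↥(Subgroup.normalizer ((P : Subgroup G) : Set G))]
variable {M : Ideal Cfsg.AlgInt}

local notation "𝐂" => Subgroup.centralizer ((P : Subgroup G) : Set G)
local notation "𝐍" => Subgroup.normalizer ((P : Subgroup G) : Set G)
local notation "𝐃" => Subgroup.subgroupOf (P : Subgroup G) (Subgroup.centralizer ((P : Subgroup G) : Set G))

theorem exists_two_ne {J : Type*} [Finite J] (h : 3 ≤ Nat.card J) (j₁ : J) :
    ∃ j₂ j₃ : J, j₂ ≠ j₁ ∧ j₃ ≠ j₁ ∧ j₂ ≠ j₃ := by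
  classical
  have : Fintype J := Fintype.ofFinite J
  rw [Nat.card_eq_fintype_card, ← Finset.card_univ] at h
  obtain ⟨j₂, -, h2⟩ := Finset.exists_mem_notMem_of_card_lt_card (s := {j₁})
    (t := (Finset.univ : Finset J)) (by rw [Finset.card_singleton]; omega)
  obtain ⟨j₃, -, h3⟩ := Finset.exists_mem_notMem_of_card_lt_card (s := {j₁, j₂})
    (t := (Finset.univ : Finset J)) (by
      have := Finset.card_insert_le j₁ {j₂}
      rw [Finset.card_singleton] at this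
      omega)
  simp only [Finset.mem_singleton] at h2
  simp only [Finset.mem_insert, Finset.mem_singleton, not_or] at h3
  exact ⟨j₂, j₃, h2, h3.1, fun h => h3.2 h.symm⟩

section main

variable (hP : Nat.card P = p) (hM : Cfsg.IsPModular p M)
include hP hM

theorem sum_D_prod [Fintype 𝐃] [Fintype (Cfsg.IrrCharacter 𝐂)] [Fintype (Cfsg.IrrCharacter G)]
    (Λ₁ Λ₂ : Cfsg.IrrCharacter G) (m : Cfsg.IrrCharacter G → ℕ)
    (hm : ((Λ₁ : G → ℂ) * fun g => conj ((Λ₂ : G → ℂ) g)) = ∑ θ, m θ • (θ : G → ℂ)) :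
    ∑ x : 𝐃, (Λ₁ : G → ℂ) ((x : 𝐂) : G) * conj ((Λ₂ : G → ℂ) ((x : 𝐂) : G))
      = ((∑ ψ : Cfsg.IrrCharacter G, m ψ * (p * aP P ψ) : ℕ) : ℂ) := by
  have hXv := apply_eq_sum_mult hm
  have : ∀ x ∈ (Finset.univ : Finset 𝐃),
      (Λ₁ : G → ℂ) ((x : 𝐂) : G) * conj ((Λ₂ : G → ℂ) ((x : 𝐂) : G))
      = ∑ ψ : Cfsg.IrrCharacter G, (m ψ : ℂ) * (ψ : G → ℂ) ((x : 𝐂) : G) := by
    intro x _
    exact hXv _
  rw [Finset.sum_congr rfl this, Finset.sum_comm]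
  push_cast
  apply Finset.sum_congr rfl
  intro ψ _
  rw [← Finset.mul_sum, sum_D_eq hP hM ψ]
  push_cast
  ring

theorem prin_S_apply (K₀ : (prin P hM).Str (Cfsg.principalBlock M G)) {χ : Cfsg.IrrCharacter G}
    (hχ : χ ∈ K₀.S) (c : 𝐂) (hc : p ∣ orderOf c) : (χ : G → ℂ) c = (K₀.δ χ : ℂ) := by
  rw [K₀.value_S hP hM isPBlock_principalBlock (prin_defect P hM) (prin_induced P hM)
    (prin_stab P hM) hχ c hc, prin_theta_apply, mul_one]

theorem dvd_orderOf_of_ne_one (x : 𝐃) (hx : x ≠ 1) : p ∣ orderOf (x : 𝐂) := by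
  have hz : ((x : 𝐂) : G) ∈ (P : Subgroup G) := (mem_PD_iff P (x : 𝐂)).mp x.2
  have hz1 : ((x : 𝐂) : G) ≠ 1 := by
    intro h
    apply hx
    apply Subtype.ext
    apply Subtype.ext
    exact h
  rw [← Subgroup.orderOf_coe, orderOf_eq_of_mem P hP hz hz1]

theorem prin_S_aP [Fintype (Cfsg.IrrCharacter 𝐂)] (K₀ : (prin P hM).Str (Cfsg.principalBlock M G))
    {χ : Cfsg.IrrCharacter G} (hχ : χ ∈ K₀.S) :
    (p : ℤ) * (aP P χ : ℤ) = (Cfsg.charDegree (χ : G → ℂ) : ℤ) + ((p : ℤ) - 1) * K₀.δ χ := by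
  classical
  have : Fintype 𝐃 := Fintype.ofFinite _
  have h1 := sum_D_eq hP hM χ
  have h2 : ∑ x : 𝐃, (χ : G → ℂ) ((x : 𝐂) : G)
      = ∑ x : 𝐃, ((K₀.δ χ : ℂ)
        + if x = 1 then ((Cfsg.charDegree (χ : G → ℂ) : ℂ) - (K₀.δ χ : ℂ)) else 0) := by
    apply Finset.sum_congr rfl
    intro x _
    by_cases hx : x = 1
    · rw [if_pos hx, hx]
      have h11 : (((1 : 𝐃) : 𝐂) : G) = 1 := rfl
      rw [h11, IsCharacter.apply_one_eq_charDegree (IsIrrCharacter.isCharacter χ.2)]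
      ring
    · rw [if_neg hx, add_zero]
      exact prin_S_apply hP hM K₀ hχ (x : 𝐂) (dvd_orderOf_of_ne_one hP hM x hx)
  rw [h2, Finset.sum_add_distrib, Finset.sum_const, Finset.sum_ite_eq', Finset.card_univ,
    ← Nat.card_eq_fintype_card, card_PD P hP, if_pos (Finset.mem_univ _), nsmul_eq_mul] at h1
  have h3 : (p : ℤ) * K₀.δ χ + ((Cfsg.charDegree (χ : G → ℂ) : ℤ) - K₀.δ χ)
      = ((p * aP P χ : ℕ) : ℤ) := by exact_mod_cast h1
  push_cast at h3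
  linarith

theorem aP_le_degree [Fintype (Cfsg.IrrCharacter 𝐂)] (ψ : Cfsg.IrrCharacter G) :
    aP P ψ ≤ Cfsg.charDegree (ψ : G → ℂ) := by
  classical
  rw [degree_eq_sum_nat (P := P) ψ]
  unfold aP
  calc ∑ ξ ∈ Finset.univ.filter (fun ξ : Cfsg.IrrCharacter 𝐂 => TrivP P ξ),
        mlt P ψ ξ * Cfsg.charDegree (ξ : 𝐂 → ℂ)
      ≤ ∑ ξ : Cfsg.IrrCharacter 𝐂, mlt P ψ ξ * Cfsg.charDegree (ξ : 𝐂 → ℂ) :=
        Finset.sum_le_sum_of_subset (Finset.filter_subset _ _)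
    _ = _ := Finset.sum_congr rfl (fun ξ _ => mul_comm _ _)

theorem Small.three_le_card {Λ : Cfsg.IrrCharacter G} (D : Small M P Λ)
    (hd : 2 * Cfsg.charDegree (Λ : G → ℂ) + 1 < p)
    (he : D.L.e = Cfsg.charDegree (Λ : G → ℂ)) : 3 ≤ Nat.card D.L.J := by
  have h := D.L.card_J_mul_e hP hM
  have hpos := IsIrrCharacter.charDegree_pos Λ.2
  rw [he] at h
  by_contra hlt
  rw [not_le] at hlt
  have : Nat.card D.L.J * Cfsg.charDegree (Λ : G → ℂ) ≤ 2 * Cfsg.charDegree (Λ : G → ℂ) :=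
    Nat.mul_le_mul_right _ (by omega)
  omega

/-- the key identity between the multiplicities of a non-exceptional character of the principal
block in the products of exceptional characters -/
theorem star_identity {Λ : Cfsg.IrrCharacter G} (D : Small M P Λ)
    (hd : Cfsg.charDegree (Λ : G → ℂ) < p)
    (K₀ : (prin P hM).Str (Cfsg.principalBlock M G)) {j : D.L.J} (hj : j ≠ D.j)
    {χ : Cfsg.IrrCharacter G} (hχ : χ ∈ K₀.S) :
    Cfsg.classInner ((Λ : G → ℂ) * fun g => conj ((Λ : G → ℂ) g)) (χ : G → ℂ)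
      - Cfsg.classInner ((Λ : G → ℂ) * fun g => conj ((D.K.Λ j : G → ℂ) g)) (χ : G → ℂ)
      = (K₀.δ χ : ℂ) := by
  classical
  have : Fintype (Cfsg.IrrCharacter G) := Fintype.ofFinite _
  obtain ⟨Φ, hΦ⟩ : ∃ Φ : G → ℂ, ∀ g, Φ g = (Λ : G → ℂ) g * conj ((χ : G → ℂ) g) :=
    ⟨_, fun _ => rfl⟩
  have hΦc : Cfsg.IsClassFunction G Φ := by
    intro g h
    rw [hΦ, hΦ, IsIrrCharacter.isClassFunction Λ.2 g h, IsIrrCharacter.isClassFunction χ.2 g h]
  have hA : ∀ k : Cfsg.IrrCharacter G,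
      Cfsg.classInner ((Λ : G → ℂ) * fun g => conj ((k : G → ℂ) g)) (χ : G → ℂ)
        = conj (Cfsg.classInner (k : G → ℂ) Φ) := by
    intro k
    unfold Cfsg.classInner
    rw [map_mul, map_inv₀, Complex.conj_natCast, map_sum]
    congr 1
    apply Finset.sum_congr rfl
    intro g _
    simp only [Pi.mul_apply, map_mul, Complex.conj_conj, hΦ g]
    ring
  have hb : ∀ g, bet P D.L.θ (D.L.rep D.j) g - bet P D.L.θ (D.L.rep j) g
      = -((Λ : G → ℂ) g - (D.K.Λ j : G → ℂ) g) := by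
    intro g
    rw [bet_apply hP hM D.hind D.K D.j g, bet_apply hP hM D.hind D.K j g,
      D.K.sign_const hP hM D.hind j D.j, D.hδ, D.hΛ]
    push_cast
    ring
  have hF : ∀ ξ : Cfsg.IrrCharacter 𝐂, Cfsg.classInner (bet P D.L.θ ξ) Φ
      = (Nat.card 𝐂 : ℂ)⁻¹ * ∑ c : 𝐂, ((D.L.θ : 𝐂 → ℂ) c - (ξ : 𝐂 → ℂ) c) * conj (Φ c) := by
    intro ξ
    unfold bet
    rw [IndFunMore.classInner_indFun 𝐂 _ _ hΦc]
    rfl
  have hterm : ∀ c : 𝐂,
      ((D.L.θ : 𝐂 → ℂ) c - (D.L.rep D.j : 𝐂 → ℂ) c) * conj (Φ c)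
        - ((D.L.θ : 𝐂 → ℂ) c - (D.L.rep j : 𝐂 → ℂ) c) * conj (Φ c)
      = (K₀.δ χ : ℂ) * ((D.L.rep j : 𝐂 → ℂ) c * conj ((Λ : G → ℂ) c)
          - (D.L.rep D.j : 𝐂 → ℂ) c * conj ((Λ : G → ℂ) c)) := by
    intro c
    rw [hΦ, map_mul, Complex.conj_conj]
    by_cases hc : p ∣ orderOf c
    · rw [prin_S_apply hP hM K₀ hχ c hc]; ring
    · rw [eq_theta_of_pRegular P hP hM D.L.hb D.L.hθ D.L.hθP (D.L.rep_mem j).1 c hc,
        eq_theta_of_pRegular P hP hM D.L.hb D.L.hθ D.L.hθP (D.L.rep_mem D.j).1 c hc]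
      ring
  have hdiff : Cfsg.classInner (bet P D.L.θ (D.L.rep D.j)) Φ
      - Cfsg.classInner (bet P D.L.θ (D.L.rep j)) Φ
      = (K₀.δ χ : ℂ) * ((mlt P Λ (D.L.rep j) : ℂ) - (mlt P Λ (D.L.rep D.j) : ℂ)) := by
    rw [hF, hF, ← mul_sub, ← Finset.sum_sub_distrib, Finset.sum_congr rfl (fun c _ => hterm c),
      ← Finset.mul_sum, Finset.sum_sub_distrib,
      ← mlt_spec' P Λ (D.L.rep j), ← mlt_spec' P Λ (D.L.rep D.j)]
    simp only [Cfsg.classInner]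
    ring
  have hlin : Cfsg.classInner (Λ : G → ℂ) Φ - Cfsg.classInner (D.K.Λ j : G → ℂ) Φ
      = -(Cfsg.classInner (bet P D.L.θ (D.L.rep D.j)) Φ
        - Cfsg.classInner (bet P D.L.θ (D.L.rep j)) Φ) := by
    unfold Cfsg.classInner
    rw [← mul_sub, ← mul_sub, ← Finset.sum_sub_distrib, ← Finset.sum_sub_distrib, ← mul_neg,
      ← Finset.sum_neg_distrib]
    congr 1
    apply Finset.sum_congr rfl
    intro g _
    have := hb g
    linear_combination (conj (Φ g)) * this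
  obtain ⟨-, hm⟩ := D.mlt_eq hP hM hd D.j
  rw [D.hΛ] at hm
  have hm1 : mlt P Λ (D.L.rep D.j) = 1 := by rw [hm, if_pos (self_mem_orb _)]
  have hmj : mlt P Λ (D.L.rep j) = 0 := by
    rw [hm, if_neg]
    intro h
    obtain ⟨n, hn⟩ := (mem_orb _ _).mp h
    exact hj ((D.L.rel_rep_iff j D.j).mp ⟨n, hn⟩)
  rw [hA Λ, hA (D.K.Λ j), ← map_sub, hlin, hdiff, hm1, hmj]
  simp

end main

end Cfsg.Agent.Lib.Helper6.BR
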