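import Mathlib
import Cfsg.Agent.Lib.Helper6.BR8
import Cfsg.Agent.Lib.Lead.Coh9

/-!
# The exceptional characters of the principal block cannot have positive sign
-/

set_option autoImplicit false
set_option linter.unusedSectionVars false

namespace Cfsg.Agent.Lib.Helper6.BR

open Cfsg.Agent.Lib.Helper6 Cfsg.Agent.Lib.Helper6.PB
open scoped ComplexConjugate

variable {G : Type*} [Group G] [Fintype G] [DecidableEq G] {p : ℕ} [hp : Fact p.Prime]
variable {P : Sylow p G}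
variable [Fintype ↥(Subgroup.centralizer ((P : Subgroup G) : Set G))]
variable [Fintype ↥(Subgroup.normalizer ((P : Subgroup G) : Set G))]
variable {M : Ideal Cfsg.AlgInt}

local notation "𝐂" => Subgroup.centralizer ((P : Subgroup G) : Set G)
local notation "𝐍" => Subgroup.normalizer ((P : Subgroup G) : Set G)
local notation "𝐃" => Subgroup.subgroupOf (P : Subgroup G) (Subgroup.centralizer ((P : Subgroup G) : Set G))

section main

variable (hP : Nat.card P = p) (hM : Cfsg.IsPModular p M)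
variable (hcen : ∀ c : ↥(Subgroup.centralizer ((P : Subgroup G) : Set G)), ¬ p ∣ orderOf c →
  (c : G) ∈ Subgroup.center G)
include hP hM hcen

/-- the squared absolute value of an irreducible character at a central element -/
theorem mul_conj_of_central (Λ : Cfsg.IrrCharacter G) (c : 𝐂) (hc : ¬ p ∣ orderOf c) :
    (Λ : G → ℂ) c * conj ((Λ : G → ℂ) c) = (Λ : G → ℂ) 1 * (Λ : G → ℂ) 1 := by
  have hz : ∀ h : G, (c : G) * h = h * (c : G) :=
    fun h => (Subgroup.mem_center_iff.mp (hcen c hc) h).symm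
  have h1 := IsIrrCharacter.apply_central_mul Λ.2 hz (c : G)⁻¹
  rw [mul_inv_cancel, IsCharacter.apply_inv (IsIrrCharacter.isCharacter Λ.2)] at h1
  have hne : (Λ : G → ℂ) 1 ≠ 0 := IsIrrCharacter.apply_one_ne_zero Λ.2
  field_simp at h1
  linear_combination -h1

theorem prod_apply_of_pos {Λ : Cfsg.IrrCharacter G} (D : Small M P Λ)
    (hd : 2 * Cfsg.charDegree (Λ : G → ℂ) + 1 < p)
    (K₀ : (prin P hM).Str (Cfsg.principalBlock M G))
    (hδ₀ : ∀ k, K₀.δ (K₀.Λ k) = 1) {j : D.L.J} (hj : j ≠ D.j) (x : 𝐃) (hx : x ≠ 1) :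
    (Λ : G → ℂ) ((x : 𝐂) : G) * conj ((D.K.Λ j : G → ℂ) ((x : 𝐂) : G)) * ((p : ℂ) - 1)
      = -((Cfsg.charDegree (Λ : G → ℂ) : ℂ) * (Cfsg.charDegree (Λ : G → ℂ) : ℂ)) := by
  classical
  have : Fintype (Cfsg.IrrCharacter G) := Fintype.ofFinite _
  have : Fintype (Cfsg.IrrCharacter 𝐂) := Fintype.ofFinite _
  have : Fintype 𝐃 := Fintype.ofFinite _
  have hdp : Cfsg.charDegree (Λ : G → ℂ) < p := by omega
  have hstab := cen_stab hP hM hcen D.L
  have hX : Cfsg.IsCharacter G ((Λ : G → ℂ) * fun g => conj ((D.K.Λ j : G → ℂ) g)) :=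
    IsCharacter.mul (IsIrrCharacter.isCharacter Λ.2)
      (IsCharacter.conj (IsIrrCharacter.isCharacter (D.K.Λ j).2))
  obtain ⟨m, hsum, hinner⟩ := IsCharacter.exists_mult hX
  have hXv := apply_eq_sum_mult hsum
  have hdis := D.disjoint_of_ne hP hM hdp hstab (Ne.symm hj)
  rw [D.hΛ] at hdis
  have S0 := sum_D_mul_conj_eq_zero hP hM Λ (D.K.Λ j) hdis
  rw [sum_D_prod hP hM Λ (D.K.Λ j) m hsum] at S0
  have S0' : ∑ ψ : Cfsg.IrrCharacter G, m ψ * (p * aP P ψ) = 0 := by exact_mod_cast S0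
  have haP : ∀ ψ : Cfsg.IrrCharacter G, m ψ ≠ 0 → aP P ψ = 0 := by
    intro ψ hψ
    have h1 := (Finset.sum_eq_zero_iff.mp S0') ψ (Finset.mem_univ _)
    rcases Nat.mul_eq_zero.mp h1 with h2 | h2
    · exact absurd h2 hψ
    · rcases Nat.mul_eq_zero.mp h2 with h3 | h3
      · exact absurd h3 hp.out.ne_zero
      · exact h3
  have hdegj := D.degree_eq hP hM j
  have hΛ1 := IsCharacter.apply_one_eq_charDegree (IsIrrCharacter.isCharacter Λ.2)
  have hΛj1 := IsCharacter.apply_one_eq_charDegree (IsIrrCharacter.isCharacter (D.K.Λ j).2)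
  have hX1 : ((Λ : G → ℂ) * fun g => conj ((D.K.Λ j : G → ℂ) g)) 1
      = (Cfsg.charDegree (Λ : G → ℂ) : ℂ) * (Cfsg.charDegree (Λ : G → ℂ) : ℂ) := by
    change (Λ : G → ℂ) 1 * conj ((D.K.Λ j : G → ℂ) 1) = _
    rw [hΛ1, hΛj1, hdegj, Complex.conj_natCast]
  have hker : ∀ c : 𝐂, ¬ p ∣ orderOf c →
      ((Λ : G → ℂ) * fun g => conj ((D.K.Λ j : G → ℂ) g)) (c : G)
        = ((Λ : G → ℂ) * fun g => conj ((D.K.Λ j : G → ℂ) g)) 1 := by
    intro c hc
    rw [hX1]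
    change (Λ : G → ℂ) c * conj ((D.K.Λ j : G → ℂ) c) = _
    have hc' : ¬ p ∣ orderOf (c : G) := by rwa [Subgroup.orderOf_coe]
    have hag := D.K.agree hP hM D.hind D.j j (c : G) hc'
    rw [D.hΛ] at hag
    rw [← hag, mul_conj_of_central hP hM hcen Λ c hc, hΛ1]
  have hψker : ∀ ψ : Cfsg.IrrCharacter G, m ψ ≠ 0 →
      ∀ c : 𝐂, ¬ p ∣ orderOf c → (ψ : G → ℂ) c = (ψ : G → ℂ) 1 := by
    intro ψ hψ c hc
    apply Cfsg.Agent.Lib.Lead.Coh.constituent_ker hX ψ.2 _ (hker c hc)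
    rw [hinner ψ]
    exact_mod_cast hψ
  have hcons : ∀ ψ : Cfsg.IrrCharacter G, m ψ ≠ 0 →
      (ψ : G → ℂ) ((x : 𝐂) : G) = -1 ∧ (ψ : G → ℂ) 1 = (p : ℂ) - 1 := by
    intro ψ hψ
    have ha := haP ψ hψ
    have hB := mem_prin_of_kernel hP hM ψ (hψker ψ hψ) ha
    have hθ0 : mlt P ψ (prin P hM).θ = 0 := mlt_eq_zero_of_aP P ha (prin P hM).hθP
    rw [K₀.union_eq] at hB
    rcases hB with hS | ⟨k, hk⟩
    · obtain ⟨k₀⟩ := (prin P hM).nonempty_J hP hM
      have h1 := K₀.rest ψ hS.1 hS.2 k₀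
      unfold aco at h1
      rw [hθ0] at h1
      have hnn : (0 : ℤ) ≤ (mlt P ψ ((prin P hM).rep k₀) : ℤ) := Int.natCast_nonneg _
      have hδ : K₀.δ ψ = -1 := by
        rcases K₀.sgn ψ with h | h
        · rw [h] at h1
          push_cast at h1
          omega
        · exact h
      have h2 := prin_S_aP hP hM K₀ hS
      rw [ha, hδ] at h2
      constructor
      · rw [prin_S_apply hP hM K₀ hS (x : 𝐂) (dvd_orderOf_of_ne_one hP hM x hx), hδ]
        push_cast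
        ring
      · rw [IsCharacter.apply_one_eq_charDegree (IsIrrCharacter.isCharacter ψ.2)]
        have h3 : (Cfsg.charDegree (ψ : G → ℂ) : ℤ) = (p : ℤ) - 1 := by
          push_cast at h2
          linarith
        have h4 : ((Cfsg.charDegree (ψ : G → ℂ) : ℤ) : ℂ) = (((p : ℤ) - 1 : ℤ) : ℂ) := by rw [h3]
        push_cast at h4
        exact h4
    · exfalso
      have h1 := K₀.diag k
      rw [hδ₀ k, hk] at h1
      unfold aco at h1
      rw [hθ0] at h1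
      have hnn : (0 : ℤ) ≤ (mlt P ψ ((prin P hM).rep k) : ℤ) := Int.natCast_nonneg _
      push_cast at h1
      omega
  have hx' : (Λ : G → ℂ) ((x : 𝐂) : G) * conj ((D.K.Λ j : G → ℂ) ((x : 𝐂) : G))
      = ∑ ψ : Cfsg.IrrCharacter G, (m ψ : ℂ) * (ψ : G → ℂ) ((x : 𝐂) : G) := hXv _
  have h1' := hXv 1
  rw [hX1] at h1'
  rw [hx', h1', Finset.sum_mul, ← Finset.sum_neg_distrib]
  apply Finset.sum_congr rfl
  intro ψ _
  by_cases hψ : m ψ = 0
  · rw [hψ]; simp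
  · obtain ⟨e1, e2⟩ := hcons ψ hψ
    rw [e1, e2]; ring

theorem no_pos_sign {Λ : Cfsg.IrrCharacter G} (D : Small M P Λ)
    (hd : 2 * Cfsg.charDegree (Λ : G → ℂ) + 1 < p)
    (K₀ : (prin P hM).Str (Cfsg.principalBlock M G))
    (hδ₀ : ∀ k, K₀.δ (K₀.Λ k) = 1) : False := by
  classical
  have : Fintype (Cfsg.IrrCharacter 𝐂) := Fintype.ofFinite _
  have : Fintype 𝐃 := Fintype.ofFinite _
  have hdp : Cfsg.charDegree (Λ : G → ℂ) < p := by omega
  have hstab := cen_stab hP hM hcen D.L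
  have hone := cen_apply_one hP hM hcen
  have hdpos := IsIrrCharacter.charDegree_pos Λ.2
  obtain ⟨hdeg, -⟩ := D.mlt_eq hP hM hdp D.j
  rw [cen_charDegree hP hM hcen, mul_one] at hdeg
  have he : D.L.e = Cfsg.charDegree (Λ : G → ℂ) := by rw [cen_e hP hM hcen, hdeg]
  obtain ⟨j₂, j₃, h2, h3, h23⟩ := exists_two_ne (D.three_le_card hP hM hd he) D.j
  have hp1 : (p : ℂ) - 1 ≠ 0 := by
    intro h
    have h' : (p : ℂ) = 1 := by linear_combination h
    have : p = 1 := by exact_mod_cast h'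
    exact hp.out.one_lt.ne' this
  have hdne : (Cfsg.charDegree (Λ : G → ℂ) : ℂ) * (Cfsg.charDegree (Λ : G → ℂ) : ℂ) ≠ 0 := by
    have : (Cfsg.charDegree (Λ : G → ℂ) : ℂ) ≠ 0 := Nat.cast_ne_zero.mpr hdpos.ne'
    exact mul_ne_zero this this
  have hval : ∀ x : 𝐃, (D.K.Λ j₂ : G → ℂ) ((x : 𝐂) : G) = (D.K.Λ j₃ : G → ℂ) ((x : 𝐂) : G) := by
    intro x
    by_cases hx : x = 1
    · rw [hx]
      change (D.K.Λ j₂ : G → ℂ) 1 = (D.K.Λ j₃ : G → ℂ) 1
      rw [IsCharacter.apply_one_eq_charDegree (IsIrrCharacter.isCharacter (D.K.Λ j₂).2),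
        IsCharacter.apply_one_eq_charDegree (IsIrrCharacter.isCharacter (D.K.Λ j₃).2),
        D.degree_eq hP hM j₂, D.degree_eq hP hM j₃]
    · have e2 := prod_apply_of_pos hP hM hcen D hd K₀ hδ₀ h2 x hx
      have e3 := prod_apply_of_pos hP hM hcen D hd K₀ hδ₀ h3 x hx
      have hΛx : (Λ : G → ℂ) ((x : 𝐂) : G) ≠ 0 := by
        intro h0
        rw [h0, zero_mul, zero_mul] at e2
        exact hdne (by linear_combination e2)
      have hc : conj ((D.K.Λ j₂ : G → ℂ) ((x : 𝐂) : G))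
          = conj ((D.K.Λ j₃ : G → ℂ) ((x : 𝐂) : G)) := by
        apply mul_left_cancel₀ hΛx
        apply mul_right_cancel₀ hp1
        rw [e2, e3]
      exact (starRingEnd ℂ).injective hc
  have S0 := sum_D_mul_conj_eq_zero hP hM (D.K.Λ j₂) (D.K.Λ j₃)
    (D.disjoint_of_ne hP hM hdp hstab h23)
  have S1 := D.sum_D_normSq hP hM hdp hstab hone j₂
  have hsame : ∑ x : 𝐃, (D.K.Λ j₂ : G → ℂ) ((x : 𝐂) : G)
        * conj ((D.K.Λ j₃ : G → ℂ) ((x : 𝐂) : G))
      = ∑ x : 𝐃, (D.K.Λ j₂ : G → ℂ) ((x : 𝐂) : G)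
        * conj ((D.K.Λ j₂ : G → ℂ) ((x : 𝐂) : G)) := by
    apply Finset.sum_congr rfl
    intro x _
    rw [hval x]
  rw [hsame, S1] at S0
  have hm0 : (𝐂).relIndex 𝐍 ≠ 0 := by omega
  have hne : (p : ℂ) * (((𝐂).relIndex 𝐍 : ℕ) : ℂ) ≠ 0 :=
    mul_ne_zero (Nat.cast_ne_zero.mpr hp.out.ne_zero) (Nat.cast_ne_zero.mpr hm0)
  exact hne S0

end main

end Cfsg.Agent.Lib.Helper6.BR
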