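import Mathlib
import Cfsg.Agent.Lib.Helper6.BR9

/-!
# A nontrivial linear character with `P` in its kernel
-/

set_option autoImplicit false
set_option linter.unusedSectionVars false

namespace Cfsg.Agent.Lib.Helper6.BR

open Cfsg.Agent.Lib.Helper6 Cfsg.Agent.Lib.Helper6.PB
open scoped ComplexConjugate

theorem count_aux {α : Type*} (𝒮 : Finset α) (δ b : α → ℤ) (m q : ℤ)
    (hδ : ∀ χ ∈ 𝒮, δ χ = 1 ∨ δ χ = -1) (hcard : (𝒮.card : ℤ) = m)
    (hpos : ∀ χ ∈ 𝒮, δ χ = 1 → 0 ≤ b χ) (hneg : ∀ χ ∈ 𝒮, δ χ = -1 → 1 ≤ b χ)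
    (hsum : 0 ≤ ∑ χ ∈ 𝒮, δ χ * b χ)
    (hbound : q * ∑ χ ∈ 𝒮.filter (fun χ => δ χ = 1), b χ ≤ m * m - m)
    (hq : 2 * m + 1 ≤ q) (hm : 2 ≤ m) :
    2 ≤ (𝒮.filter (fun χ => δ χ = 1 ∧ b χ = 0)).card := by
  classical
  have h1 : ∑ χ ∈ 𝒮, δ χ * b χ = ∑ χ ∈ 𝒮.filter (fun χ => δ χ = 1), b χ
      - ∑ χ ∈ 𝒮.filter (fun χ => ¬ δ χ = 1), b χ := by
    rw [← Finset.sum_filter_add_sum_filter_not 𝒮 (fun χ => δ χ = 1)]
    have e1 : ∑ χ ∈ 𝒮.filter (fun χ => δ χ = 1), δ χ * b χ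
        = ∑ χ ∈ 𝒮.filter (fun χ => δ χ = 1), b χ := by
      apply Finset.sum_congr rfl
      intro χ hχ
      rw [(Finset.mem_filter.mp hχ).2, one_mul]
    have e2 : ∑ χ ∈ 𝒮.filter (fun χ => ¬ δ χ = 1), δ χ * b χ
        = - ∑ χ ∈ 𝒮.filter (fun χ => ¬ δ χ = 1), b χ := by
      rw [← Finset.sum_neg_distrib]
      apply Finset.sum_congr rfl
      intro χ hχ
      obtain ⟨hχS, hne⟩ := Finset.mem_filter.mp hχ
      rcases hδ χ hχS with h | h
      · exact absurd h hne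
      · rw [h]; ring
    rw [e1, e2]; ring
  have h2 : ((𝒮.filter (fun χ => ¬ δ χ = 1)).card : ℤ)
      ≤ ∑ χ ∈ 𝒮.filter (fun χ => ¬ δ χ = 1), b χ := by
    have : ∑ χ ∈ 𝒮.filter (fun χ => ¬ δ χ = 1), (1 : ℤ)
        ≤ ∑ χ ∈ 𝒮.filter (fun χ => ¬ δ χ = 1), b χ := by
      apply Finset.sum_le_sum
      intro χ hχ
      obtain ⟨hχS, hne⟩ := Finset.mem_filter.mp hχ
      rcases hδ χ hχS with h | h
      · exact absurd h hne
      · exact hneg χ hχS h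
    simpa using this
  have h3 : (((𝒮.filter (fun χ => δ χ = 1)).filter (fun χ => ¬ b χ = 0)).card : ℤ)
      ≤ ∑ χ ∈ 𝒮.filter (fun χ => δ χ = 1), b χ := by
    rw [Finset.card_filter]
    push_cast
    apply Finset.sum_le_sum
    intro χ hχ
    obtain ⟨hχS, h1'⟩ := Finset.mem_filter.mp hχ
    have := hpos χ hχS h1'
    split_ifs with h0
    · exact this
    · omega
  have h4 : (𝒮.filter (fun χ => δ χ = 1)).card + (𝒮.filter (fun χ => ¬ δ χ = 1)).card = 𝒮.card :=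
    Finset.card_filter_add_card_filter_not _
  have h5 : ((𝒮.filter (fun χ => δ χ = 1)).filter (fun χ => b χ = 0)).card
      + ((𝒮.filter (fun χ => δ χ = 1)).filter (fun χ => ¬ b χ = 0)).card
      = (𝒮.filter (fun χ => δ χ = 1)).card :=
    Finset.card_filter_add_card_filter_not _
  have hZ : 𝒮.filter (fun χ => δ χ = 1 ∧ b χ = 0)
      = (𝒮.filter (fun χ => δ χ = 1)).filter (fun χ => b χ = 0) := by
    rw [Finset.filter_filter]
  rw [hZ]
  by_contra hlt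
  rw [not_le] at hlt
  have h4' : ((𝒮.filter (fun χ => δ χ = 1)).card : ℤ)
      + ((𝒮.filter (fun χ => ¬ δ χ = 1)).card : ℤ) = m := by
    rw [← hcard]; exact_mod_cast h4
  have h5' : (((𝒮.filter (fun χ => δ χ = 1)).filter (fun χ => b χ = 0)).card : ℤ)
      + (((𝒮.filter (fun χ => δ χ = 1)).filter (fun χ => ¬ b χ = 0)).card : ℤ)
      = ((𝒮.filter (fun χ => δ χ = 1)).card : ℤ) := by exact_mod_cast h5
  have hz : (((𝒮.filter (fun χ => δ χ = 1)).filter (fun χ => b χ = 0)).card : ℤ) ≤ 1 := by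
    exact_mod_cast Nat.lt_succ_iff.mp hlt
  have hn0 : (0 : ℤ) ≤ ((𝒮.filter (fun χ => ¬ δ χ = 1)).card : ℤ) := Int.natCast_nonneg _
  obtain ⟨s, hs⟩ : ∃ s : ℤ, s = ∑ χ ∈ 𝒮.filter (fun χ => δ χ = 1), b χ := ⟨_, rfl⟩
  obtain ⟨n, hn⟩ : ∃ n : ℤ, n = ∑ χ ∈ 𝒮.filter (fun χ => ¬ δ χ = 1), b χ := ⟨_, rfl⟩
  rw [← hs] at h1 h3 hbound
  rw [← hn] at h1 h2
  rw [h1] at hsum
  have hs0 : 0 ≤ s := by linarith
  have p1 : (2 * m + 1) * s ≤ q * s := mul_le_mul_of_nonneg_right hq hs0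
  have p2 : 0 ≤ (2 * s - m + 1) * (2 * m + 1) := mul_nonneg (by linarith) (by linarith)
  nlinarith [p1, p2]

variable {G : Type*} [Group G] [Fintype G] [DecidableEq G] {p : ℕ} [hp : Fact p.Prime]
variable {P : Sylow p G}
variable [Fintype ↥(Subgroup.centralizer ((P : Subgroup G) : Set G))]
variable [Fintype ↥(Subgroup.normalizer ((P : Subgroup G) : Set G))]
variable {M : Ideal Cfsg.AlgInt}

local notation "𝐂" => Subgroup.centralizer ((P : Subgroup G) : Set G)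
local notation "𝐍" => Subgroup.normalizer ((P : Subgroup G) : Set G)
local notation "𝐃" => Subgroup.subgroupOf (P : Subgroup G) (Subgroup.centralizer ((P : Subgroup G) : Set G))

section main

variable (hP : Nat.card P = p) (hM : Cfsg.IsPModular p M)
variable (hcen : ∀ c : ↥(Subgroup.centralizer ((P : Subgroup G) : Set G)), ¬ p ∣ orderOf c →
  (c : G) ∈ Subgroup.center G)
include hP hM hcen

theorem exists_linear_of_neg {Λ : Cfsg.IrrCharacter G} (D : Small M P Λ)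
    (hd : 2 * Cfsg.charDegree (Λ : G → ℂ) + 1 < p) (hd2 : 2 ≤ Cfsg.charDegree (Λ : G → ℂ))
    (K₀ : (prin P hM).Str (Cfsg.principalBlock M G))
    (hδ₀ : ∀ k, K₀.δ (K₀.Λ k) = -1) :
    ∃ χ : Cfsg.IrrCharacter G, Cfsg.charDegree (χ : G → ℂ) = 1 ∧
      (∀ x : 𝐃, (χ : G → ℂ) ((x : 𝐂) : G) = 1) ∧ ∃ g : G, (χ : G → ℂ) g ≠ 1 := by
  classical
  have : Fintype (Cfsg.IrrCharacter G) := Fintype.ofFinite _
  have : Fintype (Cfsg.IrrCharacter 𝐂) := Fintype.ofFinite _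
  have : Fintype 𝐃 := Fintype.ofFinite _
  have hdp : Cfsg.charDegree (Λ : G → ℂ) < p := by omega
  have hstab := cen_stab hP hM hcen D.L
  have hone := cen_apply_one hP hM hcen
  obtain ⟨hdeg, -⟩ := D.mlt_eq hP hM hdp D.j
  rw [cen_charDegree hP hM hcen, mul_one] at hdeg
  have he : D.L.e = Cfsg.charDegree (Λ : G → ℂ) := by rw [cen_e hP hM hcen, hdeg]
  obtain ⟨j, -, hj, -, -⟩ := exists_two_ne (D.three_le_card hP hM hd he) D.j
  obtain ⟨k₀⟩ := (prin P hM).nonempty_J hP hM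
  have hpp : (0 : ℤ) < p := by exact_mod_cast hp.out.pos
  -- the degree of the exceptional characters of the principal block
  have hD0 : ∃ b0 : ℤ, 0 ≤ b0 ∧ (Cfsg.charDegree (K₀.Λ k₀ : G → ℂ) : ℤ)
      = (Cfsg.charDegree (Λ : G → ℂ) : ℤ) + p * b0 := by
    have hcong := K₀.degree_Y hP hM isPBlock_principalBlock (prin_defect P hM)
      (prin_induced P hM) k₀
    rw [hδ₀ k₀, prin_charDegree P hM, mul_one, ← hdeg] at hcong
    have hge : Cfsg.charDegree (Λ : G → ℂ) ≤ Cfsg.charDegree (K₀.Λ k₀ : G → ℂ) := by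
      have h1 := K₀.diag k₀
      rw [hδ₀ k₀] at h1
      unfold aco at h1
      have hge1 : 1 ≤ mlt P (K₀.Λ k₀) ((prin P hM).rep k₀) := by
        have : (0 : ℤ) ≤ (mlt P (K₀.Λ k₀) (prin P hM).θ : ℤ) := Int.natCast_nonneg _
        omega
      have h2 := sum_le_degree (K₀.Λ k₀) (orb ((prin P hM).rep k₀))
        (fun ξ hξ => by rw [mlt_orb (K₀.Λ k₀) hξ]; exact hge1)
      rw [sum_orb_degree, card_orb_star (prin P hM) hP hM ((prin P hM).rep_mem k₀),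
        cen_charDegree hP hM hcen, mul_one, ← hdeg] at h2
      exact h2
    obtain ⟨c, hc⟩ := Int.modEq_iff_dvd.mp hcong
    have hge' : (Cfsg.charDegree (Λ : G → ℂ) : ℤ) ≤ (Cfsg.charDegree (K₀.Λ k₀ : G → ℂ) : ℤ) := by
      exact_mod_cast hge
    refine ⟨-c, ?_, ?_⟩
    · by_contra hneg
      have h1c : 1 ≤ c := by omega
      nlinarith [mul_le_mul_of_nonneg_left h1c hpp.le]
    · linarith
  obtain ⟨b0, hb0, hD0eq⟩ := hD0
  -- the numbers b
  obtain ⟨b, hbdef⟩ : ∃ b : Cfsg.IrrCharacter G → ℤ, ∀ χ, b χ = (aP P χ : ℤ) - K₀.δ χ :=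
    ⟨_, fun _ => rfl⟩
  have hsq : ∀ χ, K₀.δ χ * K₀.δ χ = 1 := by
    intro χ
    rcases K₀.sgn χ with h | h <;> rw [h] <;> norm_num
  have hdegb : ∀ χ ∈ K₀.S, (Cfsg.charDegree (χ : G → ℂ) : ℤ) = K₀.δ χ + p * b χ := by
    intro χ hχ
    have := prin_S_aP hP hM K₀ hχ
    rw [hbdef]
    linear_combination -this
  -- the relation at the identity
  have hrel := K₀.relation hP hM (prin_induced P hM) k₀ 1
    (by rw [orderOf_one]; exact hp.out.not_dvd_one)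
  have hrelZ : ∑ χ ∈ Finset.univ.filter (· ∈ K₀.S),
      K₀.δ χ * (Cfsg.charDegree (χ : G → ℂ) : ℤ) = (Cfsg.charDegree (K₀.Λ k₀ : G → ℂ) : ℤ) := by
    have h1 : ∑ χ ∈ Finset.univ.filter (· ∈ K₀.S), (K₀.δ χ : ℂ) * (χ : G → ℂ) 1
        = ((∑ χ ∈ Finset.univ.filter (· ∈ K₀.S),
            K₀.δ χ * (Cfsg.charDegree (χ : G → ℂ) : ℤ) : ℤ) : ℂ) := by
      push_cast
      apply Finset.sum_congr rfl
      intro χ _
      rw [IsCharacter.apply_one_eq_charDegree (IsIrrCharacter.isCharacter χ.2)]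
    rw [h1, hδ₀ k₀, IsCharacter.apply_one_eq_charDegree
      (IsIrrCharacter.isCharacter (K₀.Λ k₀).2)] at hrel
    have h2 : ((∑ χ ∈ Finset.univ.filter (· ∈ K₀.S),
        K₀.δ χ * (Cfsg.charDegree (χ : G → ℂ) : ℤ) : ℤ) : ℂ)
        = ((Cfsg.charDegree (K₀.Λ k₀ : G → ℂ) : ℤ) : ℂ) := by
      push_cast at hrel ⊢
      linear_combination hrel
    exact_mod_cast h2
  have hcardS : ((Finset.univ.filter (· ∈ K₀.S)).card : ℤ)
      = (Cfsg.charDegree (Λ : G → ℂ) : ℤ) := by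
    have := K₀.card_S hP hM (prin_induced P hM) isPBlock_principalBlock (prin_defect P hM)
    rw [prin_e, Nat.card_eq_fintype_card, Fintype.card_subtype, ← hdeg] at this
    exact_mod_cast this
  have hE4 : ∑ χ ∈ Finset.univ.filter (· ∈ K₀.S), K₀.δ χ * b χ = b0 := by
    have h1 : ∑ χ ∈ Finset.univ.filter (· ∈ K₀.S), K₀.δ χ * (Cfsg.charDegree (χ : G → ℂ) : ℤ)
        = ((Finset.univ.filter (· ∈ K₀.S)).card : ℤ)
          + p * ∑ χ ∈ Finset.univ.filter (· ∈ K₀.S), K₀.δ χ * b χ := by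
      rw [Finset.mul_sum, Finset.card_eq_sum_ones, Nat.cast_sum, ← Finset.sum_add_distrib]
      apply Finset.sum_congr rfl
      intro χ hχ
      rw [hdegb χ (Finset.mem_filter.mp hχ).2]
      have := hsq χ
      push_cast
      linear_combination this
    rw [hrelZ, hcardS, hD0eq] at h1
    have hp0 : (p : ℤ) ≠ 0 := hpp.ne'
    have h2 : (p : ℤ) * (∑ χ ∈ Finset.univ.filter (· ∈ K₀.S), K₀.δ χ * b χ - b0) = 0 := by
      linarith
    rcases mul_eq_zero.mp h2 with h | h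
    · exact absurd h hp0
    · linarith
  -- the products
  have hX1 : Cfsg.IsCharacter G ((Λ : G → ℂ) * fun g => conj ((Λ : G → ℂ) g)) :=
    IsCharacter.mul (IsIrrCharacter.isCharacter Λ.2)
      (IsCharacter.conj (IsIrrCharacter.isCharacter Λ.2))
  have hXj : Cfsg.IsCharacter G ((Λ : G → ℂ) * fun g => conj ((D.K.Λ j : G → ℂ) g)) :=
    IsCharacter.mul (IsIrrCharacter.isCharacter Λ.2)
      (IsCharacter.conj (IsIrrCharacter.isCharacter (D.K.Λ j).2))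
  obtain ⟨m1, hsum1, hinner1⟩ := IsCharacter.exists_mult hX1
  obtain ⟨mj, hsumj, hinnerj⟩ := IsCharacter.exists_mult hXj
  have hstar : ∀ χ ∈ K₀.S, (m1 χ : ℤ) = mj χ + K₀.δ χ := by
    intro χ hχ
    have := star_identity hP hM D hdp K₀ hj hχ
    rw [hinner1 χ, hinnerj χ] at this
    have h' : (((m1 χ : ℤ) - (mj χ : ℤ) : ℤ) : ℂ) = ((K₀.δ χ : ℤ) : ℂ) := by
      push_cast
      exact this
    have := Int.cast_injective h'
    linarith
  have hΛ1 := IsCharacter.apply_one_eq_charDegree (IsIrrCharacter.isCharacter Λ.2)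
  have hdegsum : Cfsg.charDegree (Λ : G → ℂ) * Cfsg.charDegree (Λ : G → ℂ)
      = ∑ ψ : Cfsg.IrrCharacter G, m1 ψ * Cfsg.charDegree (ψ : G → ℂ) := by
    have h1 := apply_eq_sum_mult hsum1 1
    have h2 : ((Λ : G → ℂ) * fun g => conj ((Λ : G → ℂ) g)) 1
        = ((Cfsg.charDegree (Λ : G → ℂ) * Cfsg.charDegree (Λ : G → ℂ) : ℕ) : ℂ) := by
      change (Λ : G → ℂ) 1 * conj ((Λ : G → ℂ) 1) = _
      rw [hΛ1, Complex.conj_natCast]
      push_cast
      ring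
    rw [h2] at h1
    have h3 : ∑ ψ : Cfsg.IrrCharacter G, (m1 ψ : ℂ) * (ψ : G → ℂ) 1
        = ((∑ ψ : Cfsg.IrrCharacter G, m1 ψ * Cfsg.charDegree (ψ : G → ℂ) : ℕ) : ℂ) := by
      push_cast
      apply Finset.sum_congr rfl
      intro ψ _
      rw [IsCharacter.apply_one_eq_charDegree (IsIrrCharacter.isCharacter ψ.2)]
    rw [h3] at h1
    exact_mod_cast h1
  have haPsum : Cfsg.charDegree (Λ : G → ℂ) = ∑ ψ : Cfsg.IrrCharacter G, m1 ψ * aP P ψ := by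
    have h1 := D.sum_D_normSq hP hM hdp hstab hone D.j
    rw [D.hΛ, sum_D_prod hP hM Λ Λ m1 hsum1, ← hdeg] at h1
    have h2 : ∑ ψ : Cfsg.IrrCharacter G, m1 ψ * (p * aP P ψ)
        = p * Cfsg.charDegree (Λ : G → ℂ) := by exact_mod_cast h1
    have h3 : ∑ ψ : Cfsg.IrrCharacter G, m1 ψ * (p * aP P ψ)
        = p * ∑ ψ : Cfsg.IrrCharacter G, m1 ψ * aP P ψ := by
      rw [Finset.mul_sum]
      apply Finset.sum_congr rfl
      intro ψ _
      ring
    rw [h3] at h2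
    exact (Nat.eq_of_mul_eq_mul_left hp.out.pos h2).symm
  have hnn : ∀ ψ : Cfsg.IrrCharacter G, 0 ≤ (m1 ψ : ℤ)
      * ((Cfsg.charDegree (ψ : G → ℂ) : ℤ) - (aP P ψ : ℤ)) := by
    intro ψ
    apply mul_nonneg (Int.natCast_nonneg _)
    have h1 := aP_le_degree hP hM ψ
    have h2 : (aP P ψ : ℤ) ≤ (Cfsg.charDegree (ψ : G → ℂ) : ℤ) := by exact_mod_cast h1
    linarith
  have htot : ∑ ψ : Cfsg.IrrCharacter G, (m1 ψ : ℤ)
      * ((Cfsg.charDegree (ψ : G → ℂ) : ℤ) - (aP P ψ : ℤ))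
      = (Cfsg.charDegree (Λ : G → ℂ) : ℤ) * (Cfsg.charDegree (Λ : G → ℂ) : ℤ)
        - (Cfsg.charDegree (Λ : G → ℂ) : ℤ) := by
    have e1 : ((Cfsg.charDegree (Λ : G → ℂ) * Cfsg.charDegree (Λ : G → ℂ) : ℕ) : ℤ)
        = ((∑ ψ : Cfsg.IrrCharacter G, m1 ψ * Cfsg.charDegree (ψ : G → ℂ) : ℕ) : ℤ) :=
      congrArg _ hdegsum
    have e2 : ((Cfsg.charDegree (Λ : G → ℂ) : ℕ) : ℤ)
        = ((∑ ψ : Cfsg.IrrCharacter G, m1 ψ * aP P ψ : ℕ) : ℤ) := congrArg _ haPsum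
    push_cast at e1 e2
    calc ∑ ψ : Cfsg.IrrCharacter G, (m1 ψ : ℤ)
          * ((Cfsg.charDegree (ψ : G → ℂ) : ℤ) - (aP P ψ : ℤ))
        = ∑ ψ : Cfsg.IrrCharacter G, (m1 ψ : ℤ) * (Cfsg.charDegree (ψ : G → ℂ) : ℤ)
          - ∑ ψ : Cfsg.IrrCharacter G, (m1 ψ : ℤ) * (aP P ψ : ℤ) := by
          rw [← Finset.sum_sub_distrib]
          apply Finset.sum_congr rfl
          intro ψ _
          ring
      _ = _ := by rw [← e1, ← e2]
  have hbound : ((p : ℤ) - 1) * ∑ χ ∈ (Finset.univ.filter (· ∈ K₀.S)).filter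
        (fun χ => K₀.δ χ = 1), b χ
      ≤ (Cfsg.charDegree (Λ : G → ℂ) : ℤ) * (Cfsg.charDegree (Λ : G → ℂ) : ℤ)
        - (Cfsg.charDegree (Λ : G → ℂ) : ℤ) := by
    calc ((p : ℤ) - 1) * ∑ χ ∈ (Finset.univ.filter (· ∈ K₀.S)).filter
            (fun χ => K₀.δ χ = 1), b χ
        = ∑ χ ∈ (Finset.univ.filter (· ∈ K₀.S)).filter (fun χ => K₀.δ χ = 1),
            ((p : ℤ) - 1) * b χ := Finset.mul_sum _ _ _
      _ ≤ ∑ χ ∈ (Finset.univ.filter (· ∈ K₀.S)).filter (fun χ => K₀.δ χ = 1),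
            (m1 χ : ℤ) * ((Cfsg.charDegree (χ : G → ℂ) : ℤ) - (aP P χ : ℤ)) := by
          apply Finset.sum_le_sum
          intro χ hχ
          obtain ⟨hχ1, hδ1⟩ := Finset.mem_filter.mp hχ
          have hχS : χ ∈ K₀.S := (Finset.mem_filter.mp hχ1).2
          have h1 := hdegb χ hχS
          have h2 := hstar χ hχS
          have h0 := hbdef χ
          rw [hδ1] at h1 h2 h0
          have h3 : (Cfsg.charDegree (χ : G → ℂ) : ℤ) - (aP P χ : ℤ) = ((p : ℤ) - 1) * b χ := by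
            rw [h1]
            have : (aP P χ : ℤ) = b χ + 1 := by linarith
            rw [this]
            ring
          have h4 : (1 : ℤ) ≤ (m1 χ : ℤ) := by
            have := Int.natCast_nonneg (mj χ)
            linarith
          have h5 : 0 ≤ (Cfsg.charDegree (χ : G → ℂ) : ℤ) - (aP P χ : ℤ) := by
            have h1 := aP_le_degree hP hM χ
            have h2 : (aP P χ : ℤ) ≤ (Cfsg.charDegree (χ : G → ℂ) : ℤ) := by exact_mod_cast h1
            linarith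
          rw [← h3]
          exact le_mul_of_one_le_left h5 h4
      _ ≤ ∑ ψ : Cfsg.IrrCharacter G, (m1 ψ : ℤ)
            * ((Cfsg.charDegree (ψ : G → ℂ) : ℤ) - (aP P ψ : ℤ)) :=
          Finset.sum_le_sum_of_subset_of_nonneg (Finset.subset_univ _) (fun ψ _ _ => hnn ψ)
      _ = _ := htot
  -- counting
  have hcount := count_aux (Finset.univ.filter (· ∈ K₀.S)) K₀.δ b
    (Cfsg.charDegree (Λ : G → ℂ) : ℤ) ((p : ℤ) - 1)
    (fun χ _ => K₀.sgn χ) hcardS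
    (by
      intro χ hχ hδ1
      have hχS : χ ∈ K₀.S := (Finset.mem_filter.mp hχ).2
      have h1 := hdegb χ hχS
      rw [hδ1] at h1
      have hpos : (1 : ℤ) ≤ (Cfsg.charDegree (χ : G → ℂ) : ℤ) := by
        exact_mod_cast IsIrrCharacter.charDegree_pos χ.2
      by_contra hneg
      have hb1 : b χ ≤ -1 := by omega
      nlinarith [mul_le_mul_of_nonneg_left hb1 hpp.le])
    (by
      intro χ hχ hδ1
      have h0 := hbdef χ
      rw [hδ1] at h0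
      have := Int.natCast_nonneg (aP P χ)
      linarith)
    (by rw [hE4]; exact hb0)
    hbound
    (by
      have : ((2 * Cfsg.charDegree (Λ : G → ℂ) + 1 : ℕ) : ℤ) < (p : ℤ) := by exact_mod_cast hd
      push_cast at this
      linarith)
    (by exact_mod_cast hd2)
  obtain ⟨χ₁, hχ₁, χ₂, hχ₂, hne⟩ := Finset.one_lt_card.mp (by omega :
    1 < ((Finset.univ.filter (· ∈ K₀.S)).filter (fun χ => K₀.δ χ = 1 ∧ b χ = 0)).card)
  have key : ∀ χ ∈ (Finset.univ.filter (· ∈ K₀.S)).filter (fun χ => K₀.δ χ = 1 ∧ b χ = 0),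
      Cfsg.charDegree (χ : G → ℂ) = 1 ∧ ∀ x : 𝐃, (χ : G → ℂ) ((x : 𝐂) : G) = 1 := by
    intro χ hχ
    obtain ⟨hχ1, hδ1, hb⟩ := Finset.mem_filter.mp hχ
    have hχS : χ ∈ K₀.S := (Finset.mem_filter.mp hχ1).2
    have h1 := hdegb χ hχS
    rw [hb, hδ1] at h1
    have hdeg1 : Cfsg.charDegree (χ : G → ℂ) = 1 := by
      have : (Cfsg.charDegree (χ : G → ℂ) : ℤ) = 1 := by linarith
      exact_mod_cast this
    refine ⟨hdeg1, ?_⟩
    intro x
    by_cases hx : x = 1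
    · rw [hx]
      change (χ : G → ℂ) 1 = 1
      rw [IsCharacter.apply_one_eq_charDegree (IsIrrCharacter.isCharacter χ.2), hdeg1]
      simp
    · rw [prin_S_apply hP hM K₀ hχS (x : 𝐂) (dvd_orderOf_of_ne_one hP hM x hx), hδ1]
      simp
  by_cases h1 : ∃ g, (χ₁ : G → ℂ) g ≠ 1
  · exact ⟨χ₁, (key χ₁ hχ₁).1, (key χ₁ hχ₁).2, h1⟩
  · refine ⟨χ₂, (key χ₂ hχ₂).1, (key χ₂ hχ₂).2, ?_⟩
    by_contra h2
    simp only [not_exists, not_not] at h1 h2
    apply hne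
    apply Subtype.ext
    funext g
    rw [h1 g, h2 g]

end main

end Cfsg.Agent.Lib.Helper6.BR
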