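import Mathlib
import Cfsg.Agent.Lib.Helper6.BR10

/-!
# The two local conclusions: the central case and the case of a self-centralizing normalizer
-/

set_option autoImplicit false
set_option linter.unusedSectionVars false

namespace Cfsg.Agent.Lib.Helper6.BR

open Cfsg.Agent.Lib.Helper6 Cfsg.Agent.Lib.Helper6.PB
open scoped ComplexConjugate

variable {G : Type*} [Group G] [Fintype G] [DecidableEq G] {p : ℕ} [hp : Fact p.Prime]
variable {P : Sylow p G}
variable [Fintype ↥(Subgroup.centralizer ((P : Subgroup G) : Set G))]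
variable [Fintype ↥(Subgroup.normalizer ((P : Subgroup G) : Set G))]
variable {M : Ideal Cfsg.AlgInt}

local notation "𝐂" => Subgroup.centralizer ((P : Subgroup G) : Set G)
local notation "𝐍" => Subgroup.normalizer ((P : Subgroup G) : Set G)
local notation "𝐃" => Subgroup.subgroupOf (P : Subgroup G) (Subgroup.centralizer ((P : Subgroup G) : Set G))

section main

variable (hP : Nat.card P = p) (hM : Cfsg.IsPModular p M)
include hP hM

/-- if the `p`-regular elements of the centralizer are central, a small nonlinear irreducible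
character which is nontrivial on `P` forces a nontrivial linear character trivial on `P` -/
theorem central_case
    (hcen : ∀ c : 𝐂, ¬ p ∣ orderOf c → (c : G) ∈ Subgroup.center G)
    (Λ : Cfsg.IrrCharacter G)
    (hd : 2 * Cfsg.charDegree (Λ : G → ℂ) + 1 < p) (hd2 : 2 ≤ Cfsg.charDegree (Λ : G → ℂ))
    (hnk : ¬ ∀ x : 𝐂, (x : G) ∈ (P : Subgroup G) → (Λ : G → ℂ) x = (Λ : G → ℂ) 1) :
    ∃ χ : Cfsg.IrrCharacter G, Cfsg.charDegree (χ : G → ℂ) = 1 ∧
      (∀ x ∈ (P : Subgroup G), (χ : G → ℂ) x = 1) ∧ ∃ g : G, (χ : G → ℂ) g ≠ 1 := by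
  obtain ⟨D⟩ := exists_small hP hM Λ hd hnk
  obtain ⟨K₀⟩ := (prin P hM).exists_str hP hM isPBlock_principalBlock (prin_defect P hM)
    (prin_induced P hM)
  obtain ⟨k₀⟩ := (prin P hM).nonempty_J hP hM
  rcases K₀.sgn (K₀.Λ k₀) with h | h
  · exfalso
    exact no_pos_sign hP hM hcen D hd K₀
      (fun k => by rw [K₀.sign_const hP hM (prin_induced P hM) k k₀]; exact h)
  · obtain ⟨χ, h1, h2, h3⟩ := exists_linear_of_neg hP hM hcen D hd hd2 K₀
      (fun k => by rw [K₀.sign_const hP hM (prin_induced P hM) k k₀]; exact h)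
    refine ⟨χ, h1, ?_, h3⟩
    intro x hx
    exact h2 ⟨⟨x, P_le_C P hP hx⟩, (mem_PD_iff P _).mpr hx⟩

/-- if the normalizer of `P` coincides with its centralizer, a small irreducible character which
is nontrivial on `P` has maximal absolute value on `P` -/
theorem norm_eq_of_N_le_C (hNC : 𝐍 ≤ 𝐂) (Λ : Cfsg.IrrCharacter G)
    (hd : 2 * Cfsg.charDegree (Λ : G → ℂ) + 1 < p)
    (hnk : ¬ ∀ x : 𝐂, (x : G) ∈ (P : Subgroup G) → (Λ : G → ℂ) x = (Λ : G → ℂ) 1) :
    ∀ x ∈ (P : Subgroup G), ‖(Λ : G → ℂ) x‖ = ‖(Λ : G → ℂ) 1‖ := by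
  classical
  have : Fintype (Cfsg.IrrCharacter 𝐂) := Fintype.ofFinite _
  obtain ⟨D⟩ := exists_small hP hM Λ hd hnk
  have hdp : Cfsg.charDegree (Λ : G → ℂ) < p := by omega
  obtain ⟨-, hm⟩ := D.mlt_eq hP hM hdp D.j
  rw [D.hΛ] at hm
  have hcard : (orb (D.L.rep D.j)).card = 1 := by
    rw [card_orb_star D.L hP hM (D.L.rep_mem D.j)]
    exact Subgroup.relIndex_eq_one.mpr hNC
  obtain ⟨a, ha⟩ := Finset.card_eq_one.mp hcard
  have hself := self_mem_orb (P := P) (D.L.rep D.j)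
  rw [ha, Finset.mem_singleton] at hself
  have hval : ∀ c : 𝐂, (Λ : G → ℂ) c = (D.L.rep D.j : 𝐂 → ℂ) c := by
    intro c
    rw [restrict_eq_sum Λ c, Finset.sum_eq_single (D.L.rep D.j)]
    · rw [hm, if_pos (self_mem_orb _)]
      simp
    · intro ξ _ hne
      rw [hm, if_neg]
      · simp
      · rw [ha, Finset.mem_singleton, ← hself]
        exact hne
    · intro h; exact absurd (Finset.mem_univ _) h
  intro x hx
  obtain ⟨xc, hxc⟩ : ∃ xc : 𝐂, (xc : G) = x := ⟨⟨x, P_le_C P hP hx⟩, rfl⟩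
  have hxcP : (xc : G) ∈ (P : Subgroup G) := by rw [hxc]; exact hx
  have h1 := mul_conj_self_of_mem_P hP (D.L.rep D.j) hxcP
  have h2 := hval xc
  have h3 := hval 1
  rw [hxc] at h2
  have h3' : (Λ : G → ℂ) 1 = (D.L.rep D.j : 𝐂 → ℂ) 1 := h3
  rw [← h2, ← h3'] at h1
  have h4 : conj ((Λ : G → ℂ) 1) = (Λ : G → ℂ) 1 := by
    rw [IsCharacter.apply_one_eq_charDegree (IsIrrCharacter.isCharacter Λ.2), Complex.conj_natCast]
  have h5 : (Λ : G → ℂ) x * conj ((Λ : G → ℂ) x) = (Λ : G → ℂ) 1 * conj ((Λ : G → ℂ) 1) := by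
    rw [h4]; exact h1
  rw [Complex.mul_conj, Complex.mul_conj] at h5
  have h6 : Complex.normSq ((Λ : G → ℂ) x) = Complex.normSq ((Λ : G → ℂ) 1) := by
    exact_mod_cast h5
  rw [← Complex.sq_norm, ← Complex.sq_norm] at h6
  exact (sq_eq_sq₀ (norm_nonneg _) (norm_nonneg _)).mp h6

end main

end Cfsg.Agent.Lib.Helper6.BR
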