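import Mathlib
import Cfsg.Agent.Lib.Helper6.BR11
import Cfsg.Agent.Lib.Helper6.BlkKer
import Cfsg.Agent.Lib.Helper6.BlkNormalP
import Cfsg.Agent.Lib.Helper6.Taketa
import Cfsg.Agent.Lib.Helper3.Prim2A

/-!
# A faithful character of small degree forces a normal Sylow subgroup of prime order
-/

set_option autoImplicit false
set_option linter.unusedSectionVars false

namespace Cfsg.Agent.Lib.Helper6.BR

open Cfsg.Agent.Lib.Helper6 Cfsg.Agent.Lib.Helper6.PB
open scoped ComplexConjugate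

universe u

/-- a normal subgroup of order `p` contains every element of order dividing `p` when `p ^ 2` does
not divide the group order -/
theorem mem_of_pow_eq_one {H : Type*} [Group H] [Finite H] {p : ℕ} [hp : Fact p.Prime]
    (hsq : ¬ p ^ 2 ∣ Nat.card H) (Q : Subgroup H) [Q.Normal] (hQ : Nat.card Q = p) {x : H}
    (hx : x ^ p = 1) : x ∈ Q := by
  have hcard := Subgroup.card_eq_card_quotient_mul_card_subgroup Q
  rw [hQ] at hcard
  have hnd : ¬ p ∣ Nat.card (H ⧸ Q) := by
    rintro ⟨k, hk⟩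
    apply hsq
    rw [hcard, hk]
    exact ⟨k, by ring⟩
  have h1 : orderOf (QuotientGroup.mk x : H ⧸ Q) ∣ p := by
    apply orderOf_dvd_of_pow_eq_one
    rw [← QuotientGroup.mk_pow, hx]
    rfl
  have h2 : orderOf (QuotientGroup.mk x : H ⧸ Q) ∣ Nat.card (H ⧸ Q) := orderOf_dvd_natCard _
  have h3 : orderOf (QuotientGroup.mk x : H ⧸ Q) = 1 := by
    rcases (Nat.dvd_prime hp.out).mp h1 with h | h
    · exact h
    · rw [h] at h2
      exact absurd h2 hnd
  rw [orderOf_eq_one_iff] at h3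
  exact (QuotientGroup.eq_one_iff x).mp h3

variable {G : Type u} [Group G] [Finite G] {p : ℕ} [hp : Fact p.Prime]

/-- an element of a normal subgroup meeting `P` trivially which normalizes `P` centralizes it -/
theorem mem_centralizer_of_disj (P : Sylow p G) (K : Subgroup G) (hK : K.Normal)
    (hdisj : ∀ x ∈ (P : Subgroup G), x ∈ K → x = 1) {k : G} (hk : k ∈ K)
    (hkN : k ∈ Subgroup.normalizer ((P : Subgroup G) : Set G)) :
    k ∈ Subgroup.centralizer ((P : Subgroup G) : Set G) := by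
  rw [Subgroup.mem_centralizer_iff]
  intro x hx
  have h2 : k * x * k⁻¹ ∈ (P : Subgroup G) := conj_mem_P P hkN hx
  have h3 : k * x * k⁻¹ * x⁻¹ ∈ (P : Subgroup G) := mul_mem h2 (inv_mem hx)
  have h4 : k * x * k⁻¹ * x⁻¹ ∈ K := by
    have h5 : x * k⁻¹ * x⁻¹ ∈ K := hK.conj_mem k⁻¹ (inv_mem hk) x
    have h6 : k * (x * k⁻¹ * x⁻¹) ∈ K := mul_mem hk h5
    have h7 : k * (x * k⁻¹ * x⁻¹) = k * x * k⁻¹ * x⁻¹ := by group
    rw [← h7]
    exact h6
  have h5 := hdisj _ h3 h4
  calc x * k = (k * x * k⁻¹ * x⁻¹)⁻¹ * (k * x) := by group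
    _ = k * x := by rw [h5, inv_one, one_mul]

/-- the induction hypothesis -/
def IH (p : ℕ) (G : Type u) [Group G] : Prop :=
  ∀ (H : Type u) [Group H] [Finite H], Nat.card H < Nat.card G → p ∣ Nat.card H →
    ¬ p ^ 2 ∣ Nat.card H → ∀ χ : H → ℂ, Cfsg.IsCharacter H χ → (∀ h, χ h = χ 1 → h = 1) →
    2 * Cfsg.charDegree χ + 1 < p → ∃ Q : Subgroup H, Q.Normal ∧ Nat.card Q = p

section ind

variable (hIH : IH p G) (hsq : ¬ p ^ 2 ∣ Nat.card G) (P : Sylow p G) (hP : Nat.card P = p)
variable {χ : G → ℂ} (hχ : Cfsg.IsCharacter G χ) (hf : ∀ g, χ g = χ 1 → g = 1)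
  (hd : 2 * Cfsg.charDegree χ + 1 < p)
include hIH hsq hP hχ hf hd

omit hIH hχ hf hd in
theorem pow_eq_one_of_mem {x : G} (hx : x ∈ (P : Subgroup G)) : x ^ p = 1 := by
  have h1 : (⟨x, hx⟩ : (P : Subgroup G)) ^ Nat.card (P : Subgroup G) = 1 := pow_card_eq_one'
  have h2 : Nat.card (P : Subgroup G) = p := hP
  rw [h2] at h1
  have := congrArg (Subtype.val) h1
  simpa using this

omit hIH hχ hf hd in
theorem not_sq_dvd_sub (H : Subgroup G) : ¬ p ^ 2 ∣ Nat.card H :=
  fun h => hsq (h.trans (Subgroup.card_subgroup_dvd_card H))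

omit hIH hχ hf hd hsq in
theorem card_subgroupOf_P {H : Subgroup G} (hPH : (P : Subgroup G) ≤ H) :
    Nat.card ((P : Subgroup G).subgroupOf H) = p := by
  rw [Nat.card_congr (Subgroup.subgroupOfEquivOfLe hPH).toEquiv]
  exact hP

theorem R1 (H : Subgroup G) (hPH : (P : Subgroup G) ≤ H) (hH : H ≠ ⊤) :
    H ≤ Subgroup.normalizer ((P : Subgroup G) : Set G) := by
  have hlt : Nat.card H < Nat.card G :=
    lt_of_le_of_ne (Subgroup.card_le_card_group H) (fun h => hH (Subgroup.eq_top_of_card_eq H h))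
  have hdvd : p ∣ Nat.card H := by
    have h1 : Nat.card (P : Subgroup G) ∣ Nat.card H := Subgroup.card_dvd_of_le hPH
    have h2 : Nat.card (P : Subgroup G) = p := hP
    rwa [h2] at h1
  have hsqH := not_sq_dvd_sub hsq P hP H
  obtain ⟨Q, hQn, hQ⟩ := hIH H hlt hdvd hsqH (fun h : H => χ h) (IsCharacter.restrict H hχ)
    (by
      intro h hh
      apply Subtype.ext
      exact hf _ hh)
    hd
  have hle : (P : Subgroup G).subgroupOf H ≤ Q := by
    intro x hx
    have hxP : (x : G) ∈ (P : Subgroup G) := Subgroup.mem_subgroupOf.mp hx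
    have hpow : x ^ p = 1 := by
      apply Subtype.ext
      rw [Subgroup.coe_pow, Subgroup.coe_one]
      exact pow_eq_one_of_mem hsq P hP hxP
    exact mem_of_pow_eq_one hsqH Q hQ hpow
  have heq : (P : Subgroup G).subgroupOf H = Q := by
    apply Subgroup.eq_of_le_of_card_ge hle
    rw [hQ, card_subgroupOf_P P hP hPH]
  have hn : ((P : Subgroup G).subgroupOf H).Normal := by rw [heq]; exact hQn
  exact (Subgroup.normal_subgroupOf_iff_le_normalizer hPH).mp hn

variable (hPnn : ¬ (P : Subgroup G).Normal)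
include hPnn

theorem R2 (K : Subgroup G) (hK : K.Normal) (hPK : (P : Subgroup G) ≤ K) : K = ⊤ := by
  by_contra hne
  have hKN := R1 hIH hsq P hP hχ hf hd K hPK hne
  have hQn : ((P : Subgroup G).subgroupOf K).Normal :=
    (Subgroup.normal_subgroupOf_iff_le_normalizer hPK).mpr hKN
  apply hPnn
  constructor
  intro x hx g
  have hxK : g * x * g⁻¹ ∈ K := hK.conj_mem x (hPK hx) g
  have hpow : (⟨g * x * g⁻¹, hxK⟩ : K) ^ p = 1 := by
    apply Subtype.ext
    rw [Subgroup.coe_pow, Subgroup.coe_one]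
    change (g * x * g⁻¹) ^ p = 1
    rw [conj_pow, pow_eq_one_of_mem hsq P hP hx, mul_one, mul_inv_cancel]
  have h1 := mem_of_pow_eq_one (not_sq_dvd_sub hsq P hP K) ((P : Subgroup G).subgroupOf K)
    (card_subgroupOf_P P hP hPK) hpow
  exact Subgroup.mem_subgroupOf.mp h1

theorem R3 (K : Subgroup G) (hK : K.Normal) (hdisj : ∀ x ∈ (P : Subgroup G), x ∈ K → x = 1)
    (hne : (P : Subgroup G) ⊔ K ≠ ⊤) : K ≤ Subgroup.center G := by
  have h1 := R1 hIH hsq P hP hχ hf hd ((P : Subgroup G) ⊔ K) le_sup_left hne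
  have hKC : K ≤ Subgroup.centralizer ((P : Subgroup G) : Set G) := by
    intro k hk
    exact mem_centralizer_of_disj P K hK hdisj hk (h1 (le_sup_right (a := (P : Subgroup G)) hk))
  have hPC : (P : Subgroup G) ≤ Subgroup.centralizer (K : Set G) :=
    Subgroup.le_centralizer_iff.mp hKC
  have := hK
  have hCn : (Subgroup.centralizer (K : Set G)).Normal := Subgroup.normal_centralizer
  have h2 := R2 hIH hsq P hP hχ hf hd hPnn _ hCn hPC
  rw [Subgroup.centralizer_eq_top_iff_subset] at h2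
  exact h2

omit hIH hχ hf hd hsq hPnn in
theorem disj_of_not_le (K : Subgroup G) (hnle : ¬ (P : Subgroup G) ≤ K) :
    ∀ x ∈ (P : Subgroup G), x ∈ K → x = 1 := by
  intro x hx hxK
  by_contra hx1
  apply hnle
  rw [← zpowers_eq_of_mem P hP hx hx1]
  exact (Subgroup.zpowers_le).mpr hxK

/-- a faithful irreducible character of small degree is impossible -/
theorem irr_faithful_false (ψ : Cfsg.IrrCharacter G)
    (hψf : ∀ g, (ψ : G → ℂ) g = (ψ : G → ℂ) 1 → g = 1)
    (hdψ : 2 * Cfsg.charDegree (ψ : G → ℂ) + 1 < p) : False := by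
  classical
  have : Fintype G := Fintype.ofFinite G
  have : Fintype ↥(Subgroup.centralizer ((P : Subgroup G) : Set G)) := Fintype.ofFinite _
  have : Fintype ↥(Subgroup.normalizer ((P : Subgroup G) : Set G)) := Fintype.ofFinite _
  obtain ⟨M, hM⟩ := exists_isPModular p
  have hpp := hp.out
  -- `P` is not in the kernel
  obtain ⟨x₀, hx₀, hx₀1⟩ : ∃ x ∈ (P : Subgroup G), x ≠ 1 := by
    obtain ⟨x, hxg, hxo⟩ := exists_gen P hP
    refine ⟨x, by rw [hxg]; exact Subgroup.mem_zpowers x, ?_⟩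
    intro h1
    rw [h1, orderOf_one] at hxo
    exact hpp.one_lt.ne hxo
  have hnk : ¬ ∀ x : ↥(Subgroup.centralizer ((P : Subgroup G) : Set G)),
      (x : G) ∈ (P : Subgroup G) → (ψ : G → ℂ) x = (ψ : G → ℂ) 1 := by
    intro h
    exact hx₀1 (hψf _ (h ⟨x₀, P_le_C P hP hx₀⟩ hx₀))
  obtain ⟨ψ', hψ'1, hψ'2⟩ := exists_kernel_char hP hM ψ hdψ hnk
  have hψ'c := IsIrrCharacter.isCharacter ψ'.2
  have hK'n : (charKer hψ'c).Normal := charKer_normal hψ'c
  have hnle : ¬ (P : Subgroup G) ≤ charKer hψ'c := by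
    intro hle
    apply hψ'2
    intro x hx
    exact (mem_charKer hψ'c _).mp (hle hx)
  have hdisj := disj_of_not_le P hP _ hnle
  by_cases htop : (P : Subgroup G) ⊔ charKer hψ'c = ⊤
  · -- the normalizer equals the centralizer
    have hNC : Subgroup.normalizer ((P : Subgroup G) : Set G)
        ≤ Subgroup.centralizer ((P : Subgroup G) : Set G) := by
      intro n hn
      have hn' : n ∈ (P : Subgroup G) ⊔ charKer hψ'c := by rw [htop]; exact Subgroup.mem_top n
      have := hK'n
      obtain ⟨y, hy, k, hk, rfl⟩ := Subgroup.mem_sup_of_normal_right.mp hn'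
      have hkN : k ∈ Subgroup.normalizer ((P : Subgroup G) : Set G) := by
        have h1 := mul_mem (inv_mem (P_le_N P hy)) hn
        rwa [inv_mul_cancel_left] at h1
      exact mul_mem (P_le_C P hP hy) (mem_centralizer_of_disj P _ hK'n hdisj hk hkN)
    have hnorm := norm_eq_of_N_le_C hP hM hNC ψ hdψ hnk
    apply hPnn
    constructor
    intro x hx g
    have hxc : x ∈ Subgroup.center G :=
      Cfsg.Agent.Lib.Helper3.Prim2.mem_center_of_norm_eq ψ.2 hψf (hnorm x hx)
    have h1 : g * x = x * g := Subgroup.mem_center_iff.mp hxc g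
    rw [h1, mul_assoc, mul_inv_cancel, mul_one]
    exact hx
  · have hcenK := R3 hIH hsq P hP hχ hf hd hPnn _ hK'n hdisj htop
    have hcen : ∀ c : ↥(Subgroup.centralizer ((P : Subgroup G) : Set G)), ¬ p ∣ orderOf c →
        (c : G) ∈ Subgroup.center G := by
      intro c hc
      exact hcenK ((mem_charKer hψ'c _).mpr (hψ'1 c hc))
    have hψc := IsIrrCharacter.isCharacter ψ.2
    by_cases hlin : 2 ≤ Cfsg.charDegree (ψ : G → ℂ)
    · obtain ⟨χ', h1, h2, g, hg⟩ := central_case hP hM hcen ψ hdψ hlin hnk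
      have hχ'c := IsIrrCharacter.isCharacter χ'.2
      have hχ'1 : (χ' : G → ℂ) 1 = 1 := by
        rw [IsCharacter.apply_one_eq_charDegree hχ'c, h1]
        simp
      have hPle : (P : Subgroup G) ≤ charKer hχ'c := by
        intro x hx
        rw [mem_charKer, hχ'1]
        exact h2 x hx
      have htop' := R2 hIH hsq P hP hχ hf hd hPnn _ (charKer_normal hχ'c) hPle
      have hgk : g ∈ charKer hχ'c := by rw [htop']; exact Subgroup.mem_top g
      rw [mem_charKer, hχ'1] at hgk
      exact hg hgk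
    · have hpos := IsIrrCharacter.charDegree_pos ψ.2
      have hdeg1 : Cfsg.charDegree (ψ : G → ℂ) = 1 := by omega
      have hψ1 : (ψ : G → ℂ) 1 = 1 := by
        rw [IsCharacter.apply_one_eq_charDegree hψc, hdeg1]
        simp
      apply hPnn
      constructor
      intro x hx g
      have h1 := IsCharacter.apply_commutator_of_apply_one_eq_one hψc hψ1 g x
      have h2 : g * x * g⁻¹ * x⁻¹ = 1 := hψf _ (by rw [h1, hψ1])
      have h3 : g * x * g⁻¹ = x := mul_inv_eq_one.mp h2
      rw [h3]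
      exact hx

end ind

end Cfsg.Agent.Lib.Helper6.BR
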