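import Mathlib
import Cfsg.Agent.Lib.Helper6.BR12
import Cfsg.Agent.Lib.Helper6.Clifford

/-!
# Brauer's bound for faithful characters when the Sylow subgroup has prime order
-/

set_option autoImplicit false
set_option linter.unusedSectionVars false

namespace Cfsg.Agent.Lib.Helper6.BR

open Cfsg.Agent.Lib.Helper6 Cfsg.Agent.Lib.Helper6.PB
open scoped ComplexConjugate

universe u

variable {G : Type u} [Group G] [Finite G] {p : ℕ} [hp : Fact p.Prime]

section ind

variable (hIH : IH p G) (hsq : ¬ p ^ 2 ∣ Nat.card G) (P : Sylow p G) (hP : Nat.card P = p)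
variable {χ : G → ℂ} (hχ : Cfsg.IsCharacter G χ) (hf : ∀ g, χ g = χ 1 → g = 1)
  (hd : 2 * Cfsg.charDegree χ + 1 < p)
variable (hPnn : ¬ (P : Subgroup G).Normal)
include hIH hsq hP hχ hf hd hPnn

/-- every irreducible constituent of the faithful character is trivial on the commutators -/
theorem constituent_comm (ψ : Cfsg.IrrCharacter G) (B : G → ℂ) (hB : Cfsg.IsCharacter G B)
    (hAB : χ = (ψ : G → ℂ) + B) (g h : G) :
    (ψ : G → ℂ) (g * h * g⁻¹ * h⁻¹) = (ψ : G → ℂ) 1 := by
  classical
  have : Fintype G := Fintype.ofFinite G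
  have hψc := IsIrrCharacter.isCharacter ψ.2
  have hdiv : p ∣ Nat.card G := by
    have h1 := Subgroup.card_subgroup_dvd_card (P : Subgroup G)
    have h2 : Nat.card (P : Subgroup G) = p := hP
    rwa [h2] at h1
  have hdeg : Cfsg.charDegree (ψ : G → ℂ) ≤ Cfsg.charDegree χ := by
    have h1 := IsCharacter.apply_one_eq_charDegree hχ
    have h2 := IsCharacter.apply_one_eq_charDegree hψc
    have h3 := IsCharacter.apply_one_eq_charDegree hB
    have h4 : χ 1 = (ψ : G → ℂ) 1 + B 1 := by rw [hAB]; rfl
    rw [h1, h2, h3] at h4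
    have h5 : Cfsg.charDegree χ = Cfsg.charDegree (ψ : G → ℂ) + Cfsg.charDegree B := by
      exact_mod_cast h4
    omega
  have hdψ : 2 * Cfsg.charDegree (ψ : G → ℂ) + 1 < p := by omega
  obtain ⟨K, hKn, hKmem⟩ : ∃ K : Subgroup G, K.Normal ∧
      ∀ x, x ∈ K ↔ (ψ : G → ℂ) x = (ψ : G → ℂ) 1 :=
    ⟨charKer hψc, charKer_normal hψc, fun x => mem_charKer hψc x⟩
  rw [← hKmem]
  by_cases hle : (P : Subgroup G) ≤ K
  · have htop := R2 hIH hsq P hP hχ hf hd hPnn K hKn hle
    rw [htop]
    exact Subgroup.mem_top _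
  · have hdisj := disj_of_not_le P hP K hle
    by_cases hbot : K = ⊥
    · exfalso
      apply irr_faithful_false hIH hsq P hP hχ hf hd hPnn ψ _ hdψ
      intro x hx
      have h1 : x ∈ K := (hKmem x).mpr hx
      rw [hbot] at h1
      exact Subgroup.mem_bot.mp h1
    · have := hKn
      have hcardK : 1 < Nat.card K := (Subgroup.one_lt_card_iff_ne_bot K).mpr hbot
      have hcard := Subgroup.card_eq_card_quotient_mul_card_subgroup K
      have hlt : Nat.card (G ⧸ K) < Nat.card G := by
        have hqpos : 0 < Nat.card (G ⧸ K) := Nat.card_pos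
        rw [hcard]
        nlinarith
      have hpK : ¬ p ∣ Nat.card K := by
        intro hdvd
        obtain ⟨y, hy⟩ := exists_prime_orderOf_dvd_card' (G := K) p hdvd
        have hyG : orderOf (y : G) = p := by rw [Subgroup.orderOf_coe]; exact hy
        obtain ⟨t, ht⟩ := exists_conj_mem_P P (u := (y : G)) ⟨1, by rw [hyG, pow_one]⟩
        have htK : t⁻¹ * (y : G) * t ∈ K := by
          have h1 := hKn.conj_mem (y : G) y.2 t⁻¹
          rwa [inv_inv] at h1
        have h1 := hdisj _ ht htK
        have hy1 : (y : G) = 1 := by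
          have h2 : (y : G) = t * (t⁻¹ * (y : G) * t) * t⁻¹ := by group
          rw [h2, h1]
          group
        rw [hy1, orderOf_one] at hyG
        exact hp.out.one_lt.ne hyG
      have hdvdq : p ∣ Nat.card (G ⧸ K) := by
        have h1 : p ∣ Nat.card (G ⧸ K) * Nat.card K := by rw [← hcard]; exact hdiv
        rcases (Nat.Prime.dvd_mul hp.out).mp h1 with h | h
        · exact h
        · exact absurd h hpK
      have hsqq : ¬ p ^ 2 ∣ Nat.card (G ⧸ K) :=
        fun h => hsq (h.trans (Dvd.intro _ hcard.symm))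
      obtain ⟨β, hβ⟩ := IsIrrCharacter.exists_deflation K ψ (fun n hn => (hKmem n).mp hn)
      have hβv : ∀ g : G, (ψ : G → ℂ) g = (β : G ⧸ K → ℂ) (QuotientGroup.mk g) :=
        fun g => congrFun hβ g
      have hβf : ∀ q : G ⧸ K, (β : G ⧸ K → ℂ) q = (β : G ⧸ K → ℂ) 1 → q = 1 := by
        intro q hq
        obtain ⟨g, rfl⟩ := QuotientGroup.mk_surjective q
        have h1 : (ψ : G → ℂ) g = (ψ : G → ℂ) 1 := by
          rw [hβv g, hβv 1]
          exact hq
        exact (QuotientGroup.eq_one_iff g).mpr ((hKmem g).mpr h1)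
      have hβdeg : Cfsg.charDegree (β : G ⧸ K → ℂ) = Cfsg.charDegree (ψ : G → ℂ) := by
        unfold Cfsg.charDegree
        rw [hβv 1]
        rfl
      obtain ⟨Qb, hQbn, hQb⟩ := hIH (G ⧸ K) hlt hdvdq hsqq (β : G ⧸ K → ℂ)
        (IsIrrCharacter.isCharacter β.2) hβf (by rw [hβdeg]; exact hdψ)
      have := hQbn
      have hPQ : (P : Subgroup G) ≤ Qb.comap (QuotientGroup.mk' K) := by
        intro x hx
        rw [Subgroup.mem_comap]
        apply mem_of_pow_eq_one hsqq Qb hQb
        rw [QuotientGroup.mk'_apply, ← QuotientGroup.mk_pow, pow_eq_one_of_mem hsq P hP hx]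
        rfl
      have htop := R2 hIH hsq P hP hχ hf hd hPnn _ (hQbn.comap _) hPQ
      have hQtop : Qb = ⊤ := by
        rw [eq_top_iff]
        intro q _
        obtain ⟨g, rfl⟩ := QuotientGroup.mk_surjective q
        have h1 : g ∈ Qb.comap (QuotientGroup.mk' K) := by rw [htop]; exact Subgroup.mem_top g
        exact Subgroup.mem_comap.mp h1
      have hcardq : Nat.card (G ⧸ K) = p := by
        rw [← hQb, hQtop, Subgroup.card_top]
      have hcyc : IsCyclic (G ⧸ K) := isCyclic_of_prime_card hcardq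
      have hcomm : ∀ a b : G ⧸ K, a * b = b * a :=
        isMulCommutative_iff.mp IsCyclic.isMulCommutative
      rw [← QuotientGroup.eq_one_iff, QuotientGroup.mk_mul, QuotientGroup.mk_mul,
        QuotientGroup.mk_mul, QuotientGroup.mk_inv, QuotientGroup.mk_inv,
        hcomm (g : G ⧸ K) (h : G ⧸ K)]
      group

end ind

/-- Brauer: a faithful character of degree less than `(p - 1) / 2` forces a normal subgroup of
order `p`, when `p` divides the group order exactly once -/
theorem brauer_aux (p : ℕ) [hp : Fact p.Prime] : ∀ (n : ℕ) (G : Type u) [Group G] [Finite G],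
    Nat.card G = n → p ∣ Nat.card G → ¬ p ^ 2 ∣ Nat.card G → ∀ χ : G → ℂ,
    Cfsg.IsCharacter G χ → (∀ g, χ g = χ 1 → g = 1) → 2 * Cfsg.charDegree χ + 1 < p →
    ∃ H : Subgroup G, H.Normal ∧ Nat.card H = p := by
  intro n
  induction n using Nat.strong_induction_on with
  | _ n ih =>
    intro G _ _ hn hdiv hsq χ hχ hf hd
    classical
    have : Fintype G := Fintype.ofFinite G
    by_contra hno
    have hIH : IH p G := by
      intro H _ _ hlt hdvd hsqH χ' hχ' hf' hd'
      exact ih (Nat.card H) (by rw [← hn]; exact hlt) H rfl hdvd hsqH χ' hχ' hf' hd'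
    have hpp : p.Prime := hp.out
    have hn0 : Nat.card G ≠ 0 := Nat.card_pos.ne'
    have hfac : (Nat.card G).factorization p = 1 := by
      have h1 : 1 ≤ (Nat.card G).factorization p :=
        (hpp.dvd_iff_one_le_factorization hn0).mp hdiv
      have h2 : ¬ 2 ≤ (Nat.card G).factorization p := by
        intro h
        exact hsq ((hpp.pow_dvd_iff_le_factorization hn0).mpr h)
      omega
    obtain ⟨P⟩ : Nonempty (Sylow p G) := inferInstance
    have hP : Nat.card P = p := by
      rw [Sylow.card_eq_multiplicity, hfac, pow_one]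
    have hPnn : ¬ (P : Subgroup G).Normal := fun h => hno ⟨P, h, hP⟩
    have hcomm : ∀ g h : G, g * h * g⁻¹ * h⁻¹ = 1 := by
      intro g h
      apply hf
      apply IsCharacter.apply_eq_apply_one_of_constituents hχ
      intro ψ hψ
      obtain ⟨B, hB, hAB⟩ := IsCharacter.exists_eq_add_of_constituent hχ ψ.2 hψ
      exact constituent_comm hIH hsq P hP hχ hf hd hPnn ψ B hB hAB g h
    apply hPnn
    constructor
    intro x hx g
    have h3 : g * x * g⁻¹ = x := mul_inv_eq_one.mp (hcomm g x)
    rw [h3]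
    exact hx

end Cfsg.Agent.Lib.Helper6.BR
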