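import Mathlib
import Cfsg.Agent.Lib.Helper6.ZassInd

set_option autoImplicit false

/-!
Transitive groups of degree `p + 1` and order `(p + 1) p d` with `d < p`: the basic structure.
A Sylow `p`-subgroup `P = ⟨x⟩` fixes exactly one point `a` and is regular on the others, it is
normal in the stabiliser of `a`, the group is doubly transitive, and only the identity fixes
three points.
-/

namespace Cfsg.Agent.Lib.Helper6.Zq

open Cfsg MulAction Cfsg.Agent.Lib.Helper6.Zs

/-- a non-identity element of the group generated by an element of prime order generates it -/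
theorem zpowers_eq_of_mem {G : Type*} [Group G] [Finite G] {p : ℕ} (hp : p.Prime) {x z : G}
    (hx : orderOf x = p) (hz : z ∈ Subgroup.zpowers x) (hz1 : z ≠ 1) :
    Subgroup.zpowers z = Subgroup.zpowers x := by
  have hle : Subgroup.zpowers z ≤ Subgroup.zpowers x := Subgroup.zpowers_le.2 hz
  apply Subgroup.eq_of_le_of_card_ge hle
  rw [Nat.card_zpowers, Nat.card_zpowers, hx]
  have hzp : z ^ p = 1 := by
    obtain ⟨k, rfl⟩ := Subgroup.mem_zpowers_iff.1 hz
    rw [← zpow_natCast, ← zpow_mul, mul_comm, zpow_mul, zpow_natCast, ← hx, pow_orderOf_eq_one,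
      one_zpow]
  have hdvd := orderOf_dvd_of_pow_eq_one hzp
  rcases (Nat.dvd_prime hp).1 hdvd with h1 | h1
  · exact absurd (orderOf_eq_one_iff.1 h1) hz1
  · rw [h1]

/-- the structure of a transitive group of degree `p + 1` and order `(p + 1) p d`, `d < p` -/
structure PD (G Ω : Type*) [Group G] [MulAction G Ω] [Fintype Ω] (p d : ℕ) (x : G) (a : Ω) :
    Prop where
  prime : p.Prime
  cardΩ : Fintype.card Ω = p + 1
  order : orderOf x = p
  kd : KD a (Subgroup.zpowers x)
  conj : ∀ s : G, s • a = a → ∀ u ∈ Subgroup.zpowers x, s * u * s⁻¹ ∈ Subgroup.zpowers x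
  semi : ∀ s : G, s • a = a → ∀ b : Ω, b ≠ a → s • b = b →
    ∀ u ∈ Subgroup.zpowers x, u ≠ 1 → s * u * s⁻¹ = u → s = 1
  three : ∀ g : G, ∀ u v w : Ω, u ≠ v → v ≠ w → u ≠ w → g • u = u → g • v = v → g • w = w → g = 1
  two : ∀ u v w z : Ω, u ≠ v → w ≠ z → ∃ g : G, g • u = w ∧ g • v = z
  faith : ∀ g : G, (∀ c : Ω, g • c = c) → g = 1
  card2 : ∀ b : Ω, b ≠ a → Nat.card ↥(stabilizer G a ⊓ stabilizer G b : Subgroup G) = d
  cardStab : Nat.card ↥(stabilizer G a) = p * d
  cardG : Nat.card G = (p + 1) * p * d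
  dlt : d < p
  dpos : 0 < d

section setup
variable {G Ω : Type*} [Group G] [Fintype G] [MulAction G Ω] [Fintype Ω]

theorem exists_PD {p d : ℕ} (hp : p.Prime) (hΩ : Fintype.card Ω = p + 1)
    (hfaith : ∀ g : G, (∀ c : Ω, g • c = c) → g = 1) [IsPretransitive G Ω]
    (hG : Nat.card G = (p + 1) * p * d) (hd : d < p) : ∃ (x : G) (a : Ω), PD G Ω p d x a := by
  classical
  haveI : Fact p.Prime := ⟨hp⟩
  have hp2 := hp.two_le
  have hdpos : 0 < d := by
    rcases Nat.eq_zero_or_pos d with h0 | h0
    · exfalso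
      rw [h0, mul_zero] at hG
      exact (Nat.card_pos (α := G)).ne' hG
    · exact h0
  obtain ⟨x, hx⟩ := exists_prime_orderOf_dvd_card' (G := G) p (by
    rw [hG]
    exact Dvd.dvd.mul_right (Dvd.dvd.mul_left (dvd_refl p) (p + 1)) d)
  set P : Subgroup G := Subgroup.zpowers x with hP
  have hPcard : Nat.card P = p := by rw [Nat.card_zpowers, hx]
  have hPp : IsPGroup p P := IsPGroup.of_card (n := 1) (by rw [hPcard, pow_one])
  have hmod := hPp.card_modEq_card_fixedPoints Ω
  have hx1 : x ≠ 1 := by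
    intro h
    rw [h, orderOf_one] at hx
    exact hp.one_lt.ne hx
  rw [Nat.card_eq_fintype_card, hΩ] at hmod
  have hfp : ∃ a : Ω, a ∈ fixedPoints P Ω := by
    by_contra hcon
    push Not at hcon
    have h0 : Nat.card (fixedPoints P Ω) = 0 := by
      haveI : IsEmpty (fixedPoints P Ω) := ⟨fun c => hcon c.1 c.2⟩
      exact Nat.card_of_isEmpty
    rw [h0] at hmod
    have h1 : p ∣ p + 1 := (Nat.modEq_zero_iff_dvd.1 hmod)
    have h2 : p ∣ 1 := (Nat.dvd_add_right (dvd_refl p)).1 h1
    exact hp.one_lt.ne' (Nat.dvd_one.1 h2)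
  obtain ⟨a, ha⟩ := hfp
  have hPfix : ∀ c : Ω, c ∈ fixedPoints P Ω ↔ ∀ u ∈ P, u • c = c := by
    intro c
    rw [mem_fixedPoints]
    constructor
    · intro h u hu
      exact h ⟨u, hu⟩
    · intro h m
      exact h m.1 m.2
  have hxP : x ∈ P := Subgroup.mem_zpowers x
  have hxa : x • a = a := (hPfix a).1 ha x hxP
  -- uniqueness of the fixed point
  have huniq : ∀ c : Ω, c ∈ fixedPoints P Ω → c = a := by
    intro c hc
    by_contra hca
    set k := Nat.card (fixedPoints P Ω) with hk
    have hk2 : 2 ≤ k := by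
      let f : Bool → fixedPoints P Ω := fun t => if t then ⟨a, ha⟩ else ⟨c, hc⟩
      have hf : Function.Injective f := by
        intro t t' htt
        cases t <;> cases t'
        · rfl
        · exfalso
          exact hca (congrArg Subtype.val htt)
        · exfalso
          exact hca (congrArg Subtype.val htt).symm
        · rfl
      have := Nat.card_le_card_of_injective f hf
      rw [Nat.card_eq_fintype_card, Fintype.card_bool] at this
      exact this
    have hkle : k ≤ p + 1 := by
      have := Nat.card_le_card_of_injective (fun y : fixedPoints P Ω => (y : Ω))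
        Subtype.val_injective
      rw [Nat.card_eq_fintype_card (α := Ω), hΩ] at this
      exact this
    have hkmod : k % p = 1 := by
      have h1 : (p + 1) % p = k % p := hmod
      rw [← h1, Nat.add_mod_left, Nat.mod_eq_of_lt hp.one_lt]
    have hkeq : k = p + 1 := by
      rcases lt_trichotomy k p with h1 | h1 | h1
      · rw [Nat.mod_eq_of_lt h1] at hkmod
        omega
      · rw [h1, Nat.mod_self] at hkmod
        omega
      · omega
    have hbij : Function.Bijective (fun y : fixedPoints P Ω => (y : Ω)) := by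
      apply Function.Injective.bijective_of_nat_card_le Subtype.val_injective
      rw [Nat.card_eq_fintype_card (α := Ω), hΩ, ← hkeq]
    apply hx1
    apply hfaith
    intro y
    obtain ⟨z, hz⟩ := hbij.2 y
    have hz' : (z : Ω) = y := hz
    rw [← hz']
    exact (hPfix _).1 z.2 x hxP
  have hKfix : ∀ u ∈ P, u ≠ 1 → ∀ c : Ω, u • c = c → c = a := by
    intro u hu hu1 c huc
    apply huniq
    rw [hPfix]
    intro v hv
    have h1 : Subgroup.zpowers u ≤ stabilizer G c :=
      Subgroup.zpowers_le.2 (mem_stabilizer_iff.2 huc)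
    rw [zpowers_eq_of_mem hp hx hu hu1] at h1
    exact mem_stabilizer_iff.1 (h1 hv)
  have hKle : P ≤ stabilizer G a := Subgroup.zpowers_le.2 (mem_stabilizer_iff.2 hxa)
  have hK : KD a P := ⟨hKle, by rw [hPcard, hΩ], hKfix⟩
  -- the order of the stabiliser
  have hstab : Nat.card ↥(stabilizer G a) = p * d := by
    have h1 := Subgroup.card_mul_index (stabilizer G a)
    rw [index_stabilizer_of_transitive, Nat.card_eq_fintype_card (α := Ω), hΩ, hG] at h1
    have h2 : Nat.card ↥(stabilizer G a) * (p + 1) = (p * d) * (p + 1) := by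
      rw [h1]
      ring
    exact Nat.eq_of_mul_eq_mul_right (Nat.succ_pos p) h2
  -- normality of `P` in the stabiliser
  have hconjx : ∀ s : G, s • a = a → s * x * s⁻¹ ∈ P := by
    intro s hs
    by_contra hcon
    have hs' : s ∈ stabilizer G a := mem_stabilizer_iff.2 hs
    let f : P × P → stabilizer G a := fun vw =>
      ⟨(vw.1 : G) * (s * (vw.2 : G) * s⁻¹),
        (stabilizer G a).mul_mem (hKle vw.1.2)
          ((stabilizer G a).mul_mem ((stabilizer G a).mul_mem hs' (hKle vw.2.2))
            ((stabilizer G a).inv_mem hs'))⟩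
    have hf : Function.Injective f := by
      rintro ⟨v, w⟩ ⟨v', w'⟩ hvw
      have h1 : (v : G) * (s * (w : G) * s⁻¹) = (v' : G) * (s * (w' : G) * s⁻¹) :=
        congrArg Subtype.val hvw
      have h2 : (v' : G)⁻¹ * (v : G) = s * ((w' : G) * (w : G)⁻¹) * s⁻¹ := by
        have : (v : G) = (v' : G) * (s * (w' : G) * s⁻¹) * (s * (w : G) * s⁻¹)⁻¹ := by
          rw [← h1]; group
        rw [this]; group
      have hyP : (w' : G) * (w : G)⁻¹ ∈ P := P.mul_mem w'.2 (P.inv_mem w.2)
      have hzP : (v' : G)⁻¹ * (v : G) ∈ P := P.mul_mem (P.inv_mem v'.2) v.2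
      have hy1 : (w' : G) * (w : G)⁻¹ = 1 := by
        by_contra hy1
        apply hcon
        have h3 : x ∈ Subgroup.zpowers ((w' : G) * (w : G)⁻¹) := by
          rw [zpowers_eq_of_mem hp hx hyP hy1]
          exact hxP
        obtain ⟨k, hk⟩ := Subgroup.mem_zpowers_iff.1 h3
        rw [← hk, ← conj_zpow, ← h2]
        exact P.zpow_mem hzP k
      have hz1 : (v' : G)⁻¹ * (v : G) = 1 := by
        rw [h2, hy1]; group
      have e1 : v = v' := Subtype.ext (inv_mul_eq_one.1 hz1).symm
      have e2 : w = w' := Subtype.ext (mul_inv_eq_one.1 hy1).symm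
      rw [e1, e2]
    have hle := Nat.card_le_card_of_injective f hf
    rw [Nat.card_prod, hPcard, hstab] at hle
    have := Nat.le_of_mul_le_mul_left hle hp.pos
    omega
  have hconj : ∀ s : G, s • a = a → ∀ u ∈ P, s * u * s⁻¹ ∈ P := by
    intro s hs u hu
    obtain ⟨k, rfl⟩ := Subgroup.mem_zpowers_iff.1 hu
    rw [← conj_zpow]
    exact P.zpow_mem (hconjx s hs) k
  -- semiregularity of the two point stabiliser on `P`
  have hsemi : ∀ s : G, s • a = a → ∀ b : Ω, b ≠ a → s • b = b →
      ∀ u ∈ P, u ≠ 1 → s * u * s⁻¹ = u → s = 1 := by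
    intro s hsa b hb hsb u hu hu1 hsu
    apply hfaith
    intro c
    by_cases hc : c = a
    · rw [hc, hsa]
    · obtain ⟨v, hv, hvc⟩ := hK.surj hb hc
      have hv' : v ∈ Subgroup.zpowers u := by
        rw [zpowers_eq_of_mem hp hx hu hu1]
        exact hv
      obtain ⟨k, hk⟩ := Subgroup.mem_zpowers_iff.1 hv'
      have hsv : s * v * s⁻¹ = v := by
        rw [← hk, ← conj_zpow, hsu]
      have hsv' : s * v = v * s := by
        have : s * v = (s * v * s⁻¹) * s := by group
        rw [this, hsv]
      rw [← hvc, ← mul_smul, hsv', mul_smul, hsb]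
  -- double transitivity
  have htwo : ∀ u v w z : Ω, u ≠ v → w ≠ z → ∃ g : G, g • u = w ∧ g • v = z := by
    intro u v w z huv hwz
    obtain ⟨k1, hk1⟩ := exists_smul_eq G u a
    obtain ⟨k2, hk2⟩ := exists_smul_eq G w a
    have h1 : k1 • v ≠ a := by
      intro e
      rw [← hk1] at e
      exact huv (smul_left_cancel k1 e).symm
    have h2 : k2 • z ≠ a := by
      intro e
      rw [← hk2] at e
      exact hwz (smul_left_cancel k2 e).symm
    obtain ⟨y, hyP, hy⟩ := hK.surj h1 h2
    refine ⟨k2⁻¹ * y * k1, ?_, ?_⟩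
    · rw [mul_smul, mul_smul, hk1, hK.fixa hyP, inv_smul_eq_iff, hk2]
    · rw [mul_smul, mul_smul, hy, inv_smul_smul]
  -- three points
  have hthree : ∀ g : G, ∀ u v w : Ω, u ≠ v → v ≠ w → u ≠ w → g • u = u → g • v = v →
      g • w = w → g = 1 := by
    intro g u v w huv hvw huw hgu hgv hgw
    obtain ⟨k, hk⟩ := exists_smul_eq G u a
    have hga : (k * g * k⁻¹) • a = a := by
      rw [mul_smul, mul_smul, ← hk, inv_smul_smul, hgu]
    have hv' : k • v ≠ a := by
      intro e
      rw [← hk] at e
      exact huv (smul_left_cancel k e).symm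
    have hw' : k • w ≠ a := by
      intro e
      rw [← hk] at e
      exact huw (smul_left_cancel k e).symm
    have hgv' : (k * g * k⁻¹) • (k • v) = k • v := by
      rw [mul_smul, mul_smul, inv_smul_smul, hgv]
    have hgw' : (k * g * k⁻¹) • (k • w) = k • w := by
      rw [mul_smul, mul_smul, inv_smul_smul, hgw]
    obtain ⟨y, hyP, hy⟩ := hK.surj hv' hw'
    have hy1 : y ≠ 1 := by
      intro e
      rw [e, one_smul] at hy
      exact hvw (smul_left_cancel k hy)
    have hcy : (k * g * k⁻¹) * y * (k * g * k⁻¹)⁻¹ = y := by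
      apply hK.inj hv' (hconj _ hga y hyP) hyP
      have h1 : (k * g * k⁻¹)⁻¹ • (k • v) = k • v := by rw [inv_smul_eq_iff, hgv']
      rw [mul_smul, mul_smul, h1, hy, hgw']
    have h1 := hsemi _ hga (k • v) hv' hgv' y hyP hy1 hcy
    have h3 : g = k⁻¹ * (k * g * k⁻¹) * k := by group
    rw [h3, h1]
    group
  -- two point stabilisers
  have hcard2 : ∀ b : Ω, b ≠ a →
      Nat.card ↥(stabilizer G a ⊓ stabilizer G b : Subgroup G) = d := by
    intro b hb
    set D : Subgroup G := stabilizer G a ⊓ stabilizer G b with hD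
    have hDa : ∀ s : D, (s : G) • a = a := fun s =>
      mem_stabilizer_iff.1 (Subgroup.mem_inf.1 s.2).1
    have hDb : ∀ s : D, (s : G) • b = b := fun s =>
      mem_stabilizer_iff.1 (Subgroup.mem_inf.1 s.2).2
    let f : P × D → stabilizer G a := fun vs =>
      ⟨(vs.1 : G) * (vs.2 : G),
        (stabilizer G a).mul_mem (hKle vs.1.2) (mem_stabilizer_iff.2 (hDa vs.2))⟩
    have hf : Function.Bijective f := by
      constructor
      · rintro ⟨v, s⟩ ⟨v', s'⟩ hvs
        have h1 : (v : G) * (s : G) = (v' : G) * (s' : G) := congrArg Subtype.val hvs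
        have h2 : (v : G) • b = (v' : G) • b := by
          have e1 : ((v : G) * (s : G)) • b = (v : G) • b := by rw [mul_smul, hDb]
          have e2 : ((v' : G) * (s' : G)) • b = (v' : G) • b := by rw [mul_smul, hDb]
          rw [← e1, ← e2, h1]
        have h3 : (v : G) = (v' : G) := hK.inj hb v.2 v'.2 h2
        have h4 : (s : G) = (s' : G) := by
          rw [h3] at h1
          exact mul_left_cancel h1
        rw [Subtype.ext h3, Subtype.ext h4]
      · rintro ⟨g, hg⟩
        have hga : g • a = a := mem_stabilizer_iff.1 hg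
        have hgb : g • b ≠ a := by
          intro e
          rw [← hga] at e
          exact hb (smul_left_cancel g e)
        obtain ⟨v, hv, hvb⟩ := hK.surj hb hgb
        have hsD : v⁻¹ * g ∈ D := by
          rw [hD, Subgroup.mem_inf, mem_stabilizer_iff, mem_stabilizer_iff]
          constructor
          · rw [mul_smul, hga, inv_smul_eq_iff, hK.fixa hv]
          · rw [mul_smul, inv_smul_eq_iff, hvb]
        refine ⟨(⟨v, hv⟩, ⟨v⁻¹ * g, hsD⟩), ?_⟩
        apply Subtype.ext
        show v * (v⁻¹ * g) = g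
        group
    have h1 := Nat.card_eq_of_bijective f hf
    rw [Nat.card_prod, hPcard, hstab] at h1
    exact Nat.eq_of_mul_eq_mul_left hp.pos h1
  exact ⟨x, a, ⟨hp, hΩ, hx, hK, hconj, hsemi, hthree, htwo, hfaith, hcard2, hstab, hG, hd,
    hdpos⟩⟩

end setup

section more
variable {G Ω : Type*} [Group G] [Fintype G] [MulAction G Ω] [Fintype Ω]
variable {p d : ℕ} {x : G} {a : Ω}

/-- for `d ≥ 2` we have the Zassenhaus data -/
theorem PD.toZD (h : PD G Ω p d x a) (hd2 : 2 ≤ d) : ZD G Ω := by
  classical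
  have hp2 := h.prime.two_le
  obtain ⟨b, hb⟩ : ∃ b : Ω, b ≠ a :=
    Fintype.exists_ne_of_one_lt_card (by rw [h.cardΩ]; omega) a
  refine ⟨h.faith, h.two, h.three, ?_⟩
  have hc := h.card2 b hb
  have hne : (stabilizer G a ⊓ stabilizer G b : Subgroup G) ≠ ⊥ := by
    intro e
    rw [e, Subgroup.card_bot] at hc
    omega
  obtain ⟨⟨g, hgm⟩, hg1⟩ := (Subgroup.ne_bot_iff_exists_ne_one).1 hne
  refine ⟨g, fun e => hg1 (Subtype.ext e), a, b, hb.symm, ?_, ?_⟩
  · exact mem_stabilizer_iff.1 (Subgroup.mem_inf.1 hgm).1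
  · exact mem_stabilizer_iff.1 (Subgroup.mem_inf.1 hgm).2

theorem PD.dvd (h : PD G Ω p d x a) : d ∣ p - 1 := by
  classical
  have hp2 := h.prime.two_le
  rcases Nat.lt_or_ge d 2 with h1 | h2
  · have := h.dpos
    have : d = 1 := by omega
    rw [this]
    exact one_dvd _
  · obtain ⟨b, hb⟩ : ∃ b : Ω, b ≠ a :=
      Fintype.exists_ne_of_one_lt_card (by rw [h.cardΩ]; omega) a
    have hz := h.toZD h2
    have := ZD.card_two_dvd hz hb.symm
    rw [h.card2 b hb, h.cardΩ] at this
    have e : p + 1 - 2 = p - 1 := by omega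
    rw [e] at this
    exact this

end more

end Cfsg.Agent.Lib.Helper6.Zq
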