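import Mathlib
import Cfsg.Agent.Lib.Helper6.ZqA
import Cfsg.Agent.Lib.Helper6.ZpA

set_option autoImplicit false

/-!
The case of a regular normal subgroup `N`: `N` is an elementary abelian `2`-group, it becomes the
additive group of a field on which `P` acts by multiplications and the two point stabiliser by
field automorphisms, so that the group is a group of semi-affine maps.
-/

namespace Cfsg.Agent.Lib.Helper6.Zq

open Cfsg MulAction Cfsg.Agent.Lib.Helper6.Zs Cfsg.Agent.Lib.Helper6.Zp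

universe u

section field
variable {A : Type u} [AddCommGroup A] [Finite A] {H : Type*} [Group H] [Finite H]

theorem irr_of_trans (ρ : H →* AddMonoid.End A)
    (htrans : ∀ v w : A, v ≠ 0 → w ≠ 0 → ∃ h : H, ρ h v = w)
    (W : AddSubgroup A) (hW : ∀ h : H, ∀ w ∈ W, ρ h w ∈ W) : W = ⊥ ∨ W = ⊤ := by
  by_cases hbot : W = ⊥
  · left; exact hbot
  right
  obtain ⟨w, hwW, hw0⟩ : ∃ w ∈ W, w ≠ 0 := by
    by_contra hcon
    push Not at hcon
    apply hbot
    rw [eq_bot_iff]
    intro x hx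
    rw [AddSubgroup.mem_bot]
    exact hcon x hx
  rw [eq_top_iff]
  intro v _
  by_cases hv : v = 0
  · rw [hv]; exact W.zero_mem
  · obtain ⟨h, hh⟩ := htrans w v hw0 hv
    rw [← hh]
    exact hW h w hwW

theorem exists_field_raw_of_irr (ρ : H →* AddMonoid.End A)
    (hcomm : ∀ h h' : H, h * h' = h' * h)
    (hsemi : ∀ h : H, ∀ v : A, v ≠ 0 → ρ h v = v → h = 1)
    (hirr : ∀ W : AddSubgroup A, (∀ h : H, ∀ w ∈ W, ρ h w ∈ W) → W = ⊥ ∨ W = ⊤)
    (e0 : A) (he0 : e0 ≠ 0) :
    ∃ (E : Type u) (_ : CommRing E) (_ : IsDomain E) (_ : Finite E) (ev : E → A) (χ : H → E),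
      Function.Bijective ev ∧ ev 1 = e0 ∧ (∀ x y, ev (x + y) = ev x + ev y) ∧
      (∀ h h', χ (h * h') = χ h * χ h') ∧ χ 1 = 1 ∧ Function.Injective χ ∧
      (∀ h x, ev (χ h * x) = ρ h (ev x)) := by
  classical
  haveI : Finite (AddMonoid.End A) :=
    Finite.of_injective (fun f : AddMonoid.End A => (f : A → A)) DFunLike.coe_injective
  set s : Set (AddMonoid.End A) := Set.range ρ with hs
  have hsc : ∀ x ∈ s, ∀ y ∈ s, x * y = y * x := by
    rintro _ ⟨h, rfl⟩ _ ⟨h', rfl⟩
    rw [← map_mul, ← map_mul, hcomm]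
  letI cr : CommRing ↥(Subring.closure s) :=
    { (inferInstance : Ring ↥(Subring.closure s)) with
      mul_comm := fun x y => (Subring.isMulCommutative_closure hsc).is_comm.comm x y }
  have hmem : ∀ h : H, ρ h ∈ Subring.closure s := fun h => Subring.subset_closure ⟨h, rfl⟩
  have hcommute : ∀ (x : ↥(Subring.closure s)) (h : H) (v : A),
      (x : AddMonoid.End A) (ρ h v) = ρ h ((x : AddMonoid.End A) v) := by
    intro x h v
    have h1 : x * ⟨ρ h, hmem h⟩ = ⟨ρ h, hmem h⟩ * x := mul_comm _ _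
    have h2 : (x : AddMonoid.End A) * ρ h = ρ h * (x : AddMonoid.End A) :=
      congrArg Subtype.val h1
    rw [← end_mul_apply, h2, end_mul_apply]
  have hinj0 : ∀ x : ↥(Subring.closure s), x ≠ 0 → ∀ v : A,
      (x : AddMonoid.End A) v = 0 → v = 0 := by
    intro x hx v hv
    let W0 : AddSubgroup A :=
      { carrier := {w : A | (x : AddMonoid.End A) w = 0}
        add_mem' := by
          intro a b ha hb
          show (x : AddMonoid.End A) (a + b) = 0
          rw [map_add, show (x : AddMonoid.End A) a = 0 from ha,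
            show (x : AddMonoid.End A) b = 0 from hb, add_zero]
        zero_mem' := map_zero _
        neg_mem' := by
          intro a ha
          show (x : AddMonoid.End A) (-a) = 0
          rw [map_neg, show (x : AddMonoid.End A) a = 0 from ha, neg_zero] }
    have hir := hirr W0 (by
      intro h w hw
      show (x : AddMonoid.End A) (ρ h w) = 0
      rw [hcommute, show (x : AddMonoid.End A) w = 0 from hw, map_zero])
    rcases hir with hb | ht
    · have : v ∈ W0 := hv
      rw [hb, AddSubgroup.mem_bot] at this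
      exact this
    · exfalso
      apply hx
      apply Subtype.ext
      apply AddMonoidHom.ext
      intro w
      have : w ∈ W0 := by rw [ht]; exact AddSubgroup.mem_top w
      exact this
  haveI : Nontrivial ↥(Subring.closure s) := by
    refine ⟨0, 1, ?_⟩
    intro h01
    apply he0
    have h1 : ((0 : ↥(Subring.closure s)) : AddMonoid.End A) e0
        = ((1 : ↥(Subring.closure s)) : AddMonoid.End A) e0 := by rw [h01]
    exact h1.symm
  haveI : NoZeroDivisors ↥(Subring.closure s) := by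
    refine ⟨?_⟩
    intro x y hxy
    by_cases hx : x = 0
    · left; exact hx
    right
    apply Subtype.ext
    apply AddMonoidHom.ext
    intro v
    have h1 : ((x * y : ↥(Subring.closure s)) : AddMonoid.End A) v = 0 := by rw [hxy]; rfl
    exact hinj0 x hx _ h1
  haveI : IsDomain ↥(Subring.closure s) := NoZeroDivisors.to_isDomain _
  refine ⟨↥(Subring.closure s), cr, inferInstance, inferInstance,
    fun x => (x : AddMonoid.End A) e0, fun h => ⟨ρ h, hmem h⟩, ⟨?_, ?_⟩, rfl, fun x y => rfl,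
    ?_, ?_, ?_, fun h x => rfl⟩
  · intro x y hxy
    by_contra hne
    have hsub : x - y ≠ 0 := sub_ne_zero.2 hne
    apply he0
    apply hinj0 (x - y) hsub
    have h1 : ((x - y : ↥(Subring.closure s)) : AddMonoid.End A) e0
        = (x : AddMonoid.End A) e0 - (y : AddMonoid.End A) e0 := rfl
    rw [h1]
    exact sub_eq_zero.2 hxy
  · let W : AddSubgroup A :=
      { carrier := Set.range (fun x : ↥(Subring.closure s) => (x : AddMonoid.End A) e0)
        add_mem' := by
          rintro _ _ ⟨x, rfl⟩ ⟨y, rfl⟩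
          exact ⟨x + y, rfl⟩
        zero_mem' := ⟨0, rfl⟩
        neg_mem' := by
          rintro _ ⟨x, rfl⟩
          exact ⟨-x, rfl⟩ }
    have hW : ∀ h : H, ∀ w ∈ W, ρ h w ∈ W := by
      rintro h _ ⟨x, rfl⟩
      exact ⟨⟨ρ h, hmem h⟩ * x, rfl⟩
    rcases hirr W hW with hb | ht
    · exfalso
      apply he0
      have : e0 ∈ W := ⟨1, rfl⟩
      rw [hb, AddSubgroup.mem_bot] at this
      exact this
    · intro v
      have : v ∈ W := by rw [ht]; exact AddSubgroup.mem_top v
      exact this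
  · intro h h'
    apply Subtype.ext
    exact map_mul ρ h h'
  · apply Subtype.ext
    exact map_one ρ
  · intro h h' hh
    have h1 : ρ h = ρ h' := congrArg Subtype.val hh
    have h2 : ρ (h'⁻¹ * h) e0 = e0 := by
      rw [map_mul, end_mul_apply, h1, rho_inv_apply]
    have h3 := hsemi _ e0 he0 h2
    rw [inv_mul_eq_one] at h3
    exact h3.symm

/-- the coordinatisation over a prescribed field of the right cardinality -/
theorem exists_field_target (ρ : H →* AddMonoid.End A)
    (hcomm : ∀ h h' : H, h * h' = h' * h)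
    (hsemi : ∀ h : H, ∀ v : A, v ≠ 0 → ρ h v = v → h = 1)
    (hirr : ∀ W : AddSubgroup A, (∀ h : H, ∀ w ∈ W, ρ h w ∈ W) → W = ⊥ ∨ W = ⊤)
    (e0 : A) (he0 : e0 ≠ 0)
    (K : Type*) [Field K] [Fintype K] (hK : Fintype.card K = Nat.card A) :
    ∃ (ev : K → A) (χ : H → K),
      Function.Bijective ev ∧ ev 1 = e0 ∧ (∀ x y, ev (x + y) = ev x + ev y) ∧
      (∀ h h', χ (h * h') = χ h * χ h') ∧ χ 1 = 1 ∧ Function.Injective χ ∧
      (∀ h x, ev (χ h * x) = ρ h (ev x)) := by
  obtain ⟨E', cr, dom, fin, ev, χ, hbij, h1, hadd, hχm, hχ1, hχi, hact⟩ :=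
    exists_field_raw_of_irr ρ hcomm hsemi hirr e0 he0
  obtain ⟨E, fld, ft, r, hr, hra, hrm, hr1⟩ := exists_small_field E'
  obtain ⟨rinv, hl, hri⟩ := Function.bijective_iff_has_inverse.1 hr
  have hcardE : Fintype.card E = Nat.card A := by
    rw [← Nat.card_eq_fintype_card]
    exact Nat.card_eq_of_bijective (fun x => ev (r x)) (hbij.comp hr)
  let ψ : E ≃+* K := FiniteField.ringEquivOfCardEq (by rw [hK, hcardE])
  have hrinv1 : rinv 1 = 1 := by
    have := hl 1
    rw [hr1] at this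
    exact this
  have hrinvm : ∀ x y, rinv (x * y) = rinv x * rinv y := by
    intro x y
    apply hr.1
    rw [hrm, hri, hri, hri]
  refine ⟨fun k => ev (r (ψ.symm k)), fun h => ψ (rinv (χ h)),
    hbij.comp (hr.comp ψ.symm.bijective), ?_, ?_, ?_, ?_, ?_, ?_⟩
  · show ev (r (ψ.symm 1)) = e0
    rw [map_one, hr1, h1]
  · intro x y
    show ev (r (ψ.symm (x + y))) = ev (r (ψ.symm x)) + ev (r (ψ.symm y))
    rw [map_add, hra, hadd]
  · intro h h'
    show ψ (rinv (χ (h * h'))) = ψ (rinv (χ h)) * ψ (rinv (χ h'))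
    rw [hχm, hrinvm, map_mul]
  · show ψ (rinv (χ 1)) = 1
    rw [hχ1, hrinv1, map_one]
  · intro h h' hh
    apply hχi
    have h2 : rinv (χ h) = rinv (χ h') := ψ.injective hh
    have := congrArg r h2
    rw [hri, hri] at this
    exact this
  · intro h x
    show ev (r (ψ.symm (ψ (rinv (χ h)) * x))) = ρ h (ev (r (ψ.symm x)))
    rw [map_mul, RingEquiv.symm_apply_apply, hrm, hri, hact]

end field

section aut
variable {E : Type*} [Field E] {G Ω : Type*} [Group G] [MulAction G Ω]

/-- an element normalising the translations and the multiplications and fixing `0` and `1`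
acts as a field automorphism -/
theorem exists_ringAut (Pt : E → Ω) (hinj : Function.Injective Pt)
    (hsurj : Function.Surjective Pt) (N P : Subgroup G)
    (hN : ∀ n ∈ N, ∃ β : E, ∀ y, n • Pt y = Pt (y + β))
    (hN' : ∀ β : E, ∃ n ∈ N, ∀ y, n • Pt y = Pt (y + β))
    (hP : ∀ u ∈ P, ∃ r : E, ∀ y, u • Pt y = Pt (r * y))
    (hP' : ∀ r : E, r ≠ 0 → ∃ u ∈ P, ∀ y, u • Pt y = Pt (r * y))
    (s : G) (hs0 : s • Pt 0 = Pt 0) (hs1 : s • Pt 1 = Pt 1)
    (hsN : ∀ n ∈ N, s * n * s⁻¹ ∈ N) (hsP : ∀ u ∈ P, s * u * s⁻¹ ∈ P) :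
    ∃ φ : E ≃+* E, ∀ y, s • Pt y = Pt (φ y) := by
  have hex : ∀ y : E, ∃ z : E, Pt z = s • Pt y := fun y => hsurj _
  choose f hf using hex
  have hf0 : f 0 = 0 := hinj (by rw [hf, hs0])
  have hf1 : f 1 = 1 := hinj (by rw [hf, hs1])
  have hconj : ∀ (n : G) (y : E), s • n • Pt y = (s * n * s⁻¹) • Pt (f y) := by
    intro n y
    rw [hf, ← mul_smul, ← mul_smul]
    congr 1
    group
  have hadd : ∀ y β : E, f (y + β) = f y + f β := by
    intro y β
    obtain ⟨n, hn, hnβ⟩ := hN' β
    obtain ⟨β', hβ'⟩ := hN _ (hsN n hn)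
    have key : ∀ z : E, f (z + β) = f z + β' := by
      intro z
      apply hinj
      rw [hf, ← hnβ, hconj, hβ']
    have h0 := key 0
    rw [zero_add, hf0, zero_add] at h0
    rw [key y, h0]
  have hmul : ∀ r y : E, f (r * y) = f r * f y := by
    intro r y
    by_cases hr : r = 0
    · rw [hr, zero_mul, hf0, zero_mul]
    · obtain ⟨u, hu, hur⟩ := hP' r hr
      obtain ⟨r', hr'⟩ := hP _ (hsP u hu)
      have key : ∀ z : E, f (r * z) = r' * f z := by
        intro z
        apply hinj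
        rw [hf, ← hur, hconj, hr']
      have h1 := key 1
      rw [mul_one, hf1, mul_one] at h1
      rw [key y, h1]
  have hbij : Function.Bijective f := by
    constructor
    · intro y y' hyy
      apply hinj
      apply smul_left_cancel s
      rw [← hf, ← hf, hyy]
    · intro z
      obtain ⟨y, hy⟩ := hsurj (s⁻¹ • Pt z)
      refine ⟨y, ?_⟩
      apply hinj
      rw [hf, hy, smul_inv_smul]
  let φ0 : E →+* E :=
    { toFun := f
      map_one' := hf1
      map_mul' := hmul
      map_zero' := hf0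
      map_add' := hadd }
  refine ⟨RingEquiv.ofBijective φ0 hbij, fun y => ?_⟩
  show s • Pt y = Pt (f y)
  rw [hf]

end aut

/-- the automorphism group of the field with `2 ^ q` elements has order `q` -/
theorem card_ringAut_galoisField (q : ℕ) (hq0 : q ≠ 0) :
    Nat.card (RingAut (GaloisField 2 q)) = q := by
  haveI := ZMod.subsingleton_ringHom (n := 2) (R := GaloisField 2 q)
  let eqv : RingAut (GaloisField 2 q) ≃ (GaloisField 2 q ≃ₐ[ZMod 2] GaloisField 2 q) :=
    { toFun := fun f => AlgEquiv.ofRingEquiv (f := f) (fun r => by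
        have := RingHom.congr_fun (Subsingleton.elim
          ((RingEquiv.toRingHom f).comp (algebraMap (ZMod 2) (GaloisField 2 q)))
          (algebraMap (ZMod 2) (GaloisField 2 q))) r
        exact this)
      invFun := fun g => g.toRingEquiv
      left_inv := fun f => by ext y; rfl
      right_inv := fun g => by ext y; rfl }
  rw [Nat.card_congr eqv, IsGalois.card_aut_eq_finrank, GaloisField.finrank 2 hq0]

section semi
variable {G : Type u} {Ω : Type*} [Group G] [Fintype G] [MulAction G Ω] [Fintype Ω]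
variable {p d : ℕ} {x : G} {a : Ω}

theorem PD.semiaffine_core (h : PD G Ω p d x a) (N : Subgroup G) (hNn : N.Normal)
    (hreg : Function.Bijective (fun n : N => (n : G) • a))
    (hNcomm : ∀ n ∈ N, ∀ m ∈ N, n * m = m * n)
    (K : Type*) [Field K] [Fintype K] (hKcard : Fintype.card K = p + 1) :
    d ∣ Nat.card (RingAut K) ∧
      ∃ e : Ω ≃ K, ∀ g : G, ∃ (r : Kˣ) (β : K) (φ : K ≃+* K),
        ∀ c : Ω, e (g • c) = (r : K) * φ (e c) + β := by
  classical
  have hp := h.prime
  have hp2 := hp.two_le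
  have hK := h.kd
  set P : Subgroup G := Subgroup.zpowers x with hP
  obtain ⟨b, hb⟩ : ∃ b : Ω, b ≠ a :=
    Fintype.exists_ne_of_one_lt_card (by rw [h.cardΩ]; omega) a
  have hNcard : Nat.card N = p + 1 := by
    rw [Nat.card_eq_of_bijective _ hreg, Nat.card_eq_fintype_card, h.cardΩ]
  have hNinj : ∀ n ∈ N, ∀ n' ∈ N, n • a = n' • a → n = n' := by
    intro n hn n' hn' e
    have := hreg.1 (a₁ := ⟨n, hn⟩) (a₂ := ⟨n', hn'⟩) e
    exact congrArg Subtype.val this
  have hNsurj : ∀ c : Ω, ∃ n ∈ N, n • a = c := by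
    intro c
    obtain ⟨n, hn⟩ := hreg.2 c
    exact ⟨n.1, n.2, hn⟩
  have hNne : ∀ n ∈ N, n ≠ 1 → n • a ≠ a := by
    intro n hn hn1 e
    apply hn1
    apply hNinj n hn 1 N.one_mem
    rw [e, one_smul]
  have hPtrans : ∀ n ∈ N, ∀ n' ∈ N, n ≠ 1 → n' ≠ 1 → ∃ u ∈ P, u * n * u⁻¹ = n' := by
    intro n hn n' hn' hn1 hn1'
    obtain ⟨u, hu, hun⟩ := hK.surj (hNne n hn hn1) (hNne n' hn' hn1')
    refine ⟨u, hu, ?_⟩
    apply hNinj _ (hNn.conj_mem n hn u) n' hn'
    rw [mul_smul, mul_smul, inv_smul_eq_iff.2 (hK.fixa hu).symm, hun]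
  letI cg : CommGroup N :=
    { (inferInstance : Group N) with
      mul_comm := fun n m => Subtype.ext (hNcomm n n.2 m m.2) }
  let cj : P → (N →* N) := fun u =>
    { toFun := fun n => ⟨(u : G) * n * (u : G)⁻¹, hNn.conj_mem n n.2 u⟩
      map_one' := by apply Subtype.ext; simp
      map_mul' := by intro n m; apply Subtype.ext; simp [mul_assoc] }
  let ρ : P →* AddMonoid.End (Additive N) :=
    { toFun := fun g => MonoidHom.toAdditive (cj g)
      map_one' := by
        apply AddMonoidHom.ext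
        intro v
        apply Additive.toMul.injective
        apply Subtype.ext
        show ((1 : P) : G) * ((Additive.toMul v : N) : G) * ((1 : P) : G)⁻¹
          = ((Additive.toMul v : N) : G)
        simp
      map_mul' := by
        intro g g'
        apply AddMonoidHom.ext
        intro v
        apply Additive.toMul.injective
        apply Subtype.ext
        show ((g * g' : P) : G) * ((Additive.toMul v : N) : G) * ((g * g' : P) : G)⁻¹
          = (g : G) * ((g' : G) * ((Additive.toMul v : N) : G) * (g' : G)⁻¹) * (g : G)⁻¹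
        simp [mul_assoc] }
  have hρ : ∀ (u : P) (v : Additive N),
      ((Additive.toMul (ρ u v) : N) : G)
        = (u : G) * ((Additive.toMul v : N) : G) * (u : G)⁻¹ := fun u v => rfl
  have hcomm : ∀ u u' : P, u * u' = u' * u := by
    intro u u'
    obtain ⟨k, hk⟩ := Subgroup.mem_zpowers_iff.1 u.2
    obtain ⟨l, hl⟩ := Subgroup.mem_zpowers_iff.1 u'.2
    apply Subtype.ext
    show (u : G) * (u' : G) = (u' : G) * (u : G)
    rw [← hk, ← hl, zpow_mul_comm]
  have hne1 : ∀ v : Additive N, v ≠ 0 → ((Additive.toMul v : N) : G) ≠ 1 := by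
    intro v hv e
    apply hv
    apply Additive.toMul.injective
    apply Subtype.ext
    exact e
  have hsemi : ∀ u : P, ∀ v : Additive N, v ≠ 0 → ρ u v = v → u = 1 := by
    intro u v hv huv
    by_contra hu1
    have hconj : (u : G) * ((Additive.toMul v : N) : G) * (u : G)⁻¹
        = ((Additive.toMul v : N) : G) := by
      rw [← hρ, huv]
    have hfix : (u : G) • (((Additive.toMul v : N) : G) • a)
        = ((Additive.toMul v : N) : G) • a := by
      rw [← mul_smul]
      have : (u : G) * ((Additive.toMul v : N) : G)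
          = ((u : G) * ((Additive.toMul v : N) : G) * (u : G)⁻¹) * (u : G) := by group
      rw [this, hconj, mul_smul, hK.fixa u.2]
    have := hK.fix (u : G) u.2 (fun e => hu1 (Subtype.ext e)) _ hfix
    exact hNne _ (Additive.toMul v : N).2 (hne1 v hv) this
  have htrans : ∀ v w : Additive N, v ≠ 0 → w ≠ 0 → ∃ u : P, ρ u v = w := by
    intro v w hv hw
    obtain ⟨u, hu, huv⟩ := hPtrans _ (Additive.toMul v : N).2 _ (Additive.toMul w : N).2
      (hne1 v hv) (hne1 w hw)
    refine ⟨⟨u, hu⟩, ?_⟩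
    apply Additive.toMul.injective
    apply Subtype.ext
    rw [hρ]
    exact huv
  have hirr := irr_of_trans ρ htrans
  obtain ⟨nb, hnbN, hnb⟩ := hNsurj b
  have hnb1 : nb ≠ 1 := by
    intro e
    rw [e, one_smul] at hnb
    exact hb hnb.symm
  have he0 : Additive.ofMul (⟨nb, hnbN⟩ : N) ≠ 0 := by
    intro e
    apply hnb1
    exact congrArg (fun v : Additive N => ((Additive.toMul v : N) : G)) e
  have hKcard' : Fintype.card K = Nat.card (Additive N) := by
    rw [hKcard, Nat.card_congr Additive.toMul, hNcard]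
  obtain ⟨ev, χ, hbij, hev1, hadd, hχm, hχ1, hχi, hact⟩ :=
    exists_field_target ρ hcomm hsemi hirr _ he0 K hKcard'
  have hev0 : ev 0 = 0 := by
    have := hadd 0 0
    rw [add_zero] at this
    simpa using this
  set Pt : K → Ω := fun y => ((Additive.toMul (ev y) : N) : G) • a with hPt
  have hPtbij : Function.Bijective Pt := by
    constructor
    · intro y y' hyy
      apply hbij.1
      apply Additive.toMul.injective
      apply Subtype.ext
      exact hNinj _ (Additive.toMul (ev y) : N).2 _ (Additive.toMul (ev y') : N).2 hyy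
    · intro c
      obtain ⟨n, hn, hnc⟩ := hNsurj c
      obtain ⟨y, hy⟩ := hbij.2 (Additive.ofMul (⟨n, hn⟩ : N))
      refine ⟨y, ?_⟩
      show ((Additive.toMul (ev y) : N) : G) • a = c
      rw [hy]
      exact hnc
  have hPt0 : Pt 0 = a := by
    show ((Additive.toMul (ev 0) : N) : G) • a = a
    rw [hev0]
    exact one_smul _ _
  have hPt1 : Pt 1 = b := by
    show ((Additive.toMul (ev 1) : N) : G) • a = b
    rw [hev1]
    exact hnb
  have hNβ : ∀ β y : K, ((Additive.toMul (ev β) : N) : G) • Pt y = Pt (y + β) := by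
    intro β y
    show ((Additive.toMul (ev β) : N) : G) • ((Additive.toMul (ev y) : N) : G) • a
      = ((Additive.toMul (ev (y + β)) : N) : G) • a
    rw [hadd, ← mul_smul,
      hNcomm _ (Additive.toMul (ev β) : N).2 _ (Additive.toMul (ev y) : N).2]
    rfl
  have hNact : ∀ n ∈ N, ∃ β : K, ∀ y, n • Pt y = Pt (y + β) := by
    intro n hn
    obtain ⟨β, hβ⟩ := hbij.2 (Additive.ofMul (⟨n, hn⟩ : N))
    refine ⟨β, fun y => ?_⟩
    have := hNβ β y
    rw [hβ] at this
    exact this
  have hNact' : ∀ β : K, ∃ n ∈ N, ∀ y, n • Pt y = Pt (y + β) := fun β =>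
    ⟨_, (Additive.toMul (ev β) : N).2, hNβ β⟩
  have hPact : ∀ (u : P) (y : K), (u : G) • Pt y = Pt (χ u * y) := by
    intro u y
    show (u : G) • ((Additive.toMul (ev y) : N) : G) • a
      = ((Additive.toMul (ev (χ u * y)) : N) : G) • a
    rw [hact, hρ, mul_smul, mul_smul, inv_smul_eq_iff.2 (hK.fixa u.2).symm]
  have hχne : ∀ u : P, χ u ≠ 0 := by
    intro u h0
    have := hχm u u⁻¹
    rw [mul_inv_cancel, hχ1, h0, zero_mul] at this
    exact one_ne_zero this
  have hχsurj : ∀ r : K, r ≠ 0 → ∃ u : P, χ u = r := by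
    intro r hr
    have hevr : ev r ≠ 0 := by
      intro e
      rw [← hev0] at e
      exact hr (hbij.1 e)
    obtain ⟨u, hu⟩ := htrans _ _ he0 hevr
    refine ⟨u, ?_⟩
    apply hbij.1
    have := hact u 1
    rw [mul_one, hev1, hu] at this
    exact this
  have hPact1 : ∀ u ∈ P, ∃ r : K, ∀ y, u • Pt y = Pt (r * y) := fun u hu =>
    ⟨χ ⟨u, hu⟩, hPact ⟨u, hu⟩⟩
  have hPact' : ∀ r : K, r ≠ 0 → ∃ u ∈ P, ∀ y, u • Pt y = Pt (r * y) := by
    intro r hr
    obtain ⟨u, hu⟩ := hχsurj r hr
    refine ⟨u.1, u.2, fun y => ?_⟩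
    rw [← hu]
    exact hPact u y
  -- the two point stabiliser
  set D : Subgroup G := stabilizer G a ⊓ stabilizer G b with hD
  have hDa : ∀ s : D, (s : G) • a = a := fun s =>
    mem_stabilizer_iff.1 (Subgroup.mem_inf.1 s.2).1
  have hDb : ∀ s : D, (s : G) • b = b := fun s =>
    mem_stabilizer_iff.1 (Subgroup.mem_inf.1 s.2).2
  have hφ : ∀ s : D, ∃ φ : K ≃+* K, ∀ y, (s : G) • Pt y = Pt (φ y) := by
    intro s
    apply exists_ringAut Pt hPtbij.1 hPtbij.2 N P hNact hNact' hPact1 hPact' (s : G)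
    · rw [hPt0, hDa]
    · rw [hPt1, hDb]
    · intro n hn
      exact hNn.conj_mem n hn _
    · intro u hu
      exact h.conj _ (hDa s) u hu
  choose Φ0 hΦ0 using hφ
  let Φ : D →* RingAut K := MonoidHom.mk' Φ0 (by
    intro s s'
    apply RingEquiv.ext
    intro y
    apply hPtbij.1
    rw [← hΦ0 (s * s') y]
    show ((s : G) * (s' : G)) • Pt y = Pt (Φ0 s (Φ0 s' y))
    rw [← hΦ0 s, ← hΦ0 s', mul_smul])
  have hΦinj : Function.Injective Φ := by
    intro s s' hss
    have h1 : ∀ y, (s : G) • Pt y = (s' : G) • Pt y := by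
      intro y
      rw [hΦ0 s, hΦ0 s']
      have : Φ0 s = Φ0 s' := hss
      rw [this]
    have h2 : (s' : G)⁻¹ * (s : G) = 1 := by
      apply h.faith
      intro c
      obtain ⟨y, hy⟩ := hPtbij.2 c
      rw [← hy, mul_smul, h1, inv_smul_smul]
    apply Subtype.ext
    exact (inv_mul_eq_one.1 h2).symm
  have hdvd := Subgroup.card_dvd_of_injective Φ hΦinj
  rw [h.card2 b hb] at hdvd
  refine ⟨hdvd, (Equiv.ofBijective Pt hPtbij).symm, ?_⟩
  intro g
  obtain ⟨n, hn, hna⟩ := hNsurj (g • a)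
  have hg1a : (n⁻¹ * g) • a = a := by
    rw [mul_smul, inv_smul_eq_iff, hna]
  have hg1b : (n⁻¹ * g) • b ≠ a := by
    intro e
    rw [← hg1a] at e
    exact hb (smul_left_cancel _ e)
  obtain ⟨u, hu, hub⟩ := hK.surj hb hg1b
  have hsa : (u⁻¹ * (n⁻¹ * g)) • a = a := by
    rw [mul_smul, hg1a, inv_smul_eq_iff, hK.fixa hu]
  have hsb : (u⁻¹ * (n⁻¹ * g)) • b = b := by
    rw [mul_smul, inv_smul_eq_iff, hub]
  have hsD : u⁻¹ * (n⁻¹ * g) ∈ D := by
    rw [hD, Subgroup.mem_inf, mem_stabilizer_iff, mem_stabilizer_iff]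
    exact ⟨hsa, hsb⟩
  obtain ⟨β, hβ⟩ := hNact n hn
  refine ⟨Units.mk0 (χ ⟨u, hu⟩) (hχne _), β, Φ0 ⟨_, hsD⟩, ?_⟩
  intro c
  have hgy : ∀ y, g • Pt y = Pt (χ ⟨u, hu⟩ * Φ0 ⟨_, hsD⟩ y + β) := by
    intro y
    have e1 : g = n * (u * (u⁻¹ * (n⁻¹ * g))) := by group
    have e2 := hΦ0 ⟨_, hsD⟩ y
    have e3 := hPact ⟨u, hu⟩ (Φ0 ⟨_, hsD⟩ y)
    calc g • Pt y = (n * (u * (u⁻¹ * (n⁻¹ * g)))) • Pt y :=
          congrArg (fun t => t • Pt y) e1
      _ = n • (u * (u⁻¹ * (n⁻¹ * g))) • Pt y := mul_smul n _ _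
      _ = n • u • (u⁻¹ * (n⁻¹ * g)) • Pt y := congrArg (fun t => n • t) (mul_smul u _ _)
      _ = n • u • Pt (Φ0 ⟨_, hsD⟩ y) := congrArg (fun t => n • u • t) e2
      _ = n • Pt (χ ⟨u, hu⟩ * Φ0 ⟨_, hsD⟩ y) := congrArg (fun t => n • t) e3
      _ = Pt (χ ⟨u, hu⟩ * Φ0 ⟨_, hsD⟩ y + β) := hβ _
  have hc : Pt ((Equiv.ofBijective Pt hPtbij).symm c) = c :=
    (Equiv.ofBijective Pt hPtbij).apply_symm_apply c
  have h1 : g • c = Pt (χ ⟨u, hu⟩ * Φ0 ⟨_, hsD⟩ ((Equiv.ofBijective Pt hPtbij).symm c) + β) := by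
    rw [← hgy, hc]
  rw [h1]
  exact (Equiv.ofBijective Pt hPtbij).symm_apply_apply _

end semi

end Cfsg.Agent.Lib.Helper6.Zq
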