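import Mathlib
import Cfsg.Agent.Lib.Helper6.ZqC
import Cfsg.Agent.Lib.Helper6.ZpG
import Cfsg.Agent.Lib.Helper1.FrobeniusTheorem
import Cfsg.Agent.Lib.Helper4.K4Field

set_option autoImplicit false

/-!
The three cases for a transitive group of degree `p + 1` and order `(p + 1) p d`, `d < p - 1`:
a regular normal subgroup gives the semi-affine case, `d = 1` always has one (Frobenius), and
otherwise the group is a Zassenhaus group and is `PSL(2, p)`.
-/

namespace Cfsg.Agent.Lib.Helper6.Zq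

open Cfsg MulAction Cfsg.Agent.Lib.Helper6.Zs Cfsg.Agent.Lib.Helper6.Zp
open scoped Pointwise

universe u

section cases
variable {G : Type u} {Ω : Type*} [Group G] [Fintype G] [MulAction G Ω] [Fintype Ω]
variable {p d : ℕ} {x : G} {a : Ω}

theorem PD.semiaffine (h : PD G Ω p d x a) (hpodd : p ≠ 2) (N : Subgroup G) (hNn : N.Normal)
    (hreg : Function.Bijective (fun n : N => (n : G) • a)) :
    ∃ q : ℕ, q.Prime ∧ p + 1 = 2 ^ q ∧ (d = 1 ∨ d = q) ∧
      ∃ e : Ω ≃ GaloisField 2 q, ∀ g : G, ∃ (r : (GaloisField 2 q)ˣ) (β : GaloisField 2 q)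
        (φ : GaloisField 2 q ≃+* GaloisField 2 q),
        ∀ c : Ω, e (g • c) = (r : GaloisField 2 q) * φ (e c) + β := by
  classical
  have hp := h.prime
  have hp2 := hp.two_le
  have hK := h.kd
  set P : Subgroup G := Subgroup.zpowers x with hP
  have hpodd' : Odd p := hp.odd_of_ne_two hpodd
  have hp3 : 3 ≤ p := by
    obtain ⟨k, hk⟩ := hpodd'
    omega
  have hNcard : Nat.card N = p + 1 := by
    rw [Nat.card_eq_of_bijective _ hreg, Nat.card_eq_fintype_card, h.cardΩ]
  have hNinj : ∀ n ∈ N, ∀ n' ∈ N, n • a = n' • a → n = n' := by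
    intro n hn n' hn' e
    have := hreg.1 (a₁ := ⟨n, hn⟩) (a₂ := ⟨n', hn'⟩) e
    exact congrArg Subtype.val this
  have hNne : ∀ n ∈ N, n ≠ 1 → n • a ≠ a := by
    intro n hn hn1 e
    apply hn1
    apply hNinj n hn 1 N.one_mem
    rw [e, one_smul]
  have hPtrans : ∀ n ∈ N, ∀ n' ∈ N, n ≠ 1 → n' ≠ 1 → ∃ u ∈ P, u * n * u⁻¹ = n' := by
    intro n hn n' hn' hn1 hn1'
    obtain ⟨u, hu, hun⟩ := hK.surj (hNne n hn hn1) (hNne n' hn' hn1')
    refine ⟨u, hu, ?_⟩
    apply hNinj _ (hNn.conj_mem n hn u) n' hn'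
    rw [mul_smul, mul_smul, inv_smul_eq_iff.2 (hK.fixa hu).symm, hun]
  have h2dvd : 2 ∣ Nat.card N := by
    rw [hNcard]
    obtain ⟨k, hk⟩ := hpodd'
    exact ⟨k + 1, by omega⟩
  obtain ⟨n0, hn0⟩ := exists_prime_orderOf_dvd_card' (G := N) 2 h2dvd
  have hn01 : (n0 : G) ≠ 1 := by
    intro e
    have : n0 = 1 := Subtype.ext e
    rw [this, orderOf_one] at hn0
    omega
  have hn0sq : (n0 : G) * (n0 : G) = 1 := by
    have := pow_orderOf_eq_one n0
    rw [hn0, pow_two] at this
    exact congrArg Subtype.val this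
  have hsq : ∀ n ∈ N, n * n = 1 := by
    intro n hn
    by_cases hn1 : n = 1
    · rw [hn1, one_mul]
    · obtain ⟨u, hu, hun⟩ := hPtrans n0 n0.2 n hn hn01 hn1
      rw [← hun]
      have : u * n0 * u⁻¹ * (u * n0 * u⁻¹) = u * ((n0 : G) * (n0 : G)) * u⁻¹ := by group
      rw [this, hn0sq]
      group
  have hNcomm : ∀ n ∈ N, ∀ m ∈ N, n * m = m * n := by
    intro n hn m hm
    have h1 := hsq n hn
    have h2 := hsq m hm
    have h3 := hsq (n * m) (N.mul_mem hn hm)
    calc n * m = n * ((n * m) * (n * m)) * m := by rw [h3, mul_one]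
      _ = (n * n) * (m * n) * (m * m) := by group
      _ = m * n := by rw [h1, h2, one_mul, mul_one]
  have hcard2 : ∃ q, q.Prime ∧ p + 1 = 2 ^ q := by
    have hpg : IsPGroup 2 N := by
      intro n
      refine ⟨1, ?_⟩
      apply Subtype.ext
      rw [pow_one, pow_two]
      exact hsq n n.2
    obtain ⟨m, hm⟩ := (IsPGroup.iff_card.1 hpg)
    rw [hNcard] at hm
    have hm1 : m ≠ 1 := by
      intro e
      rw [e] at hm
      omega
    have hpr : (2 ^ m - 1).Prime := by
      rw [← hm, Nat.add_sub_cancel]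
      exact hp
    exact ⟨m, (Nat.prime_of_pow_sub_one_prime hm1 hpr).2, hm⟩
  obtain ⟨q, hq, hpq⟩ := hcard2
  have hq0 : q ≠ 0 := hq.ne_zero
  haveI : Fintype (GaloisField 2 q) := Fintype.ofFinite _
  have hKcard : Fintype.card (GaloisField 2 q) = p + 1 := by
    rw [← Nat.card_eq_fintype_card, GaloisField.card 2 q hq0, hpq]
  obtain ⟨hdvd, e, he⟩ := h.semiaffine_core N hNn hreg hNcomm (GaloisField 2 q) hKcard
  rw [card_ringAut_galoisField q hq0] at hdvd
  refine ⟨q, hq, hpq, ?_, e, he⟩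
  exact (Nat.dvd_prime hq).1 hdvd

/-- for `d = 1` there is a regular normal subgroup (Frobenius) -/
theorem PD.exists_regular_of_one (h : PD G Ω p 1 x a) [IsPretransitive G Ω] :
    ∃ N : Subgroup G, N.Normal ∧ Function.Bijective (fun n : N => (n : G) • a) := by
  classical
  have hp := h.prime
  have hp2 := hp.two_le
  have hK := h.kd
  set H : Subgroup G := stabilizer G a with hH
  have hx1 : x ≠ 1 := by
    intro e
    have := h.order
    rw [e, orderOf_one] at this
    omega
  have hxa : x • a = a := hK.fixa (Subgroup.mem_zpowers x)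
  obtain ⟨b, hb⟩ : ∃ b : Ω, b ≠ a :=
    Fintype.exists_ne_of_one_lt_card (by rw [h.cardΩ]; omega) a
  have hfrob : Cfsg.IsFrobeniusComplement H := by
    refine ⟨?_, ?_, ?_⟩
    · intro e
      have : x ∈ H := mem_stabilizer_iff.2 hxa
      rw [e, Subgroup.mem_bot] at this
      exact hx1 this
    · intro e
      obtain ⟨g, hg⟩ := exists_smul_eq G a b
      have : g ∈ H := by
        rw [e]
        exact Subgroup.mem_top g
      exact hb (hg.symm.trans (mem_stabilizer_iff.1 this))
    · intro g hg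
      rw [eq_bot_iff]
      intro y hy
      rw [Subgroup.mem_bot]
      obtain ⟨hy1, hy2⟩ := Subgroup.mem_inf.1 hy
      rw [Cfsg.Agent.Lib.Helper1.mem_conj_smul_iff'] at hy2
      have hyg : y • (g • a) = g • a := by
        have := mem_stabilizer_iff.1 hy2
        rw [mul_smul, mul_smul, inv_smul_eq_iff] at this
        exact this
      have hga : g • a ≠ a := fun e => hg (mem_stabilizer_iff.2 e)
      have hc := h.card2 (g • a) hga
      have hmem : y ∈ (stabilizer G a ⊓ stabilizer G (g • a) : Subgroup G) :=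
        Subgroup.mem_inf.2 ⟨hy1, mem_stabilizer_iff.2 hyg⟩
      rw [Subgroup.card_eq_one.1 hc, Subgroup.mem_bot] at hmem
      exact hmem
  obtain ⟨N, hNset, hNn, hcompl⟩ := Cfsg.Agent.Lib.Helper1.frobenius_theorem H hfrob
  refine ⟨N, hNn, ?_⟩
  have hNmem : ∀ n : G, n ∈ N → (n = 1 ∨ ∀ g : G, n ∉ MulAut.conj g • H) := by
    intro n hn
    have : n ∈ (N : Set G) := hn
    rw [hNset] at this
    exact this
  have hinj : Function.Injective (fun n : N => (n : G) • a) := by
    intro n n' e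
    have e' : (n : G) • a = (n' : G) • a := e
    have h1 : ((n' : G)⁻¹ * (n : G)) • a = a := by rw [mul_smul, e', inv_smul_smul]
    have h2 : (n' : G)⁻¹ * (n : G) ∈ N := N.mul_mem (N.inv_mem n'.2) n.2
    rcases hNmem _ h2 with h3 | h3
    · exact Subtype.ext (inv_mul_eq_one.1 h3).symm
    · exfalso
      apply h3 1
      rw [Cfsg.Agent.Lib.Helper1.mem_conj_smul_iff']
      simp only [inv_one, one_mul, mul_one]
      exact mem_stabilizer_iff.2 h1
  have hcard : Nat.card N = p + 1 := by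
    have h1 := hcompl.card_mul_card
    rw [h.cardStab, h.cardG] at h1
    have h2 : Nat.card N * p = (p + 1) * p := by simpa using h1
    exact Nat.eq_of_mul_eq_mul_right hp.pos h2
  apply Function.Injective.bijective_of_nat_card_le hinj
  rw [hcard, Nat.card_eq_fintype_card, h.cardΩ]

/-- the Zassenhaus case -/
theorem PD.psl_case (h : PD G Ω p d x a) (hd2 : 2 ≤ d) (hdne : d ≠ p - 1)
    (hZ5 : ∀ N : Subgroup G, N.Normal → MulAction.IsPretransitive N Ω →
      ∃ c : Ω, MulAction.stabilizer N c ≠ ⊥) :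
    2 * d = p - 1 ∧
      Nonempty (G ≃* Matrix.ProjectiveSpecialLinearGroup (Fin 2) (ZMod p)) := by
  classical
  have hp := h.prime
  have hp2 := hp.two_le
  have hK := h.kd
  have hz := h.toZD hd2
  obtain ⟨b, hb⟩ : ∃ b : Ω, b ≠ a :=
    Fintype.exists_ne_of_one_lt_card (by rw [h.cardΩ]; omega) a
  have hab : a ≠ b := hb.symm
  have hKab : ∀ u ∈ Subgroup.zpowers x, ∀ v ∈ Subgroup.zpowers x, u * v = v * u := by
    intro u hu v hv
    obtain ⟨k, hk⟩ := Subgroup.mem_zpowers_iff.1 hu
    obtain ⟨l, hl⟩ := Subgroup.mem_zpowers_iff.1 hv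
    rw [← hk, ← hl, zpow_mul_comm]
  have hc2 := h.card2 b hb
  have hle : Fintype.card Ω - 2
      ≤ 2 * Nat.card ↥(stabilizer G a ⊓ stabilizer G b : Subgroup G) := by
    rcases Nat.even_or_odd (Nat.card ↥(stabilizer G a ⊓ stabilizer G b : Subgroup G))
      with heven | hodd
    · exact (hz.even_case hab hK heven).2
    · exact (odd_perfect hz hZ5 hab hK hKab hodd).1
  have hdvd := h.dvd
  have h2d : 2 * d = p - 1 := by
    rw [hc2, h.cardΩ] at hle
    obtain ⟨k, hk⟩ := hdvd
    rcases k with _ | _ | _ | k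
    · omega
    · omega
    · omega
    · exfalso
      have : d * (k + 1 + 1 + 1) = d * k + 3 * d := by ring
      omega
  refine ⟨h2d, ?_⟩
  have hcard2 : 2 * Nat.card ↥(stabilizer G a ⊓ stabilizer G b : Subgroup G) + 2
      = Fintype.card Ω := by
    rw [hc2, h.cardΩ]
    omega
  have hE : ∃ (E : Type) (_ : Field E) (_ : Fintype E),
      Fintype.card E + 1 = Fintype.card Ω ∧
      Nonempty (G ≃* Matrix.ProjectiveSpecialLinearGroup (Fin 2) E) := by
    rcases Nat.even_or_odd (Nat.card ↥(stabilizer G a ⊓ stabilizer G b : Subgroup G))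
      with heven | hodd
    · exact main_even hz hab hK heven hcard2
    · exact main_odd hz hZ5 hab hK hKab hodd hcard2
  obtain ⟨E, fld, ft, hcE, ⟨iso⟩⟩ := hE
  have hEp : Fintype.card E = p := by
    rw [h.cardΩ] at hcE
    omega
  let ψ : ZMod p ≃+* E := ZMod.ringEquivOfPrime E hp hEp
  exact ⟨iso.trans (Cfsg.Agent.Lib.Helper4.K4Field.pslEquivN 2 ψ.symm)⟩

end cases

end Cfsg.Agent.Lib.Helper6.Zq
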