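import Mathlib
import Cfsg.Agent.Lib.Helper6.ZqA

set_option autoImplicit false

/-!
The case `d = p - 1`: the group is sharply triply transitive, the stabiliser of a point is the
full affine group of the prime field, and the element interchanging `∞` and `0` and fixing `1`
acts as inversion.
-/

namespace Cfsg.Agent.Lib.Helper6.Zq

open Cfsg MulAction Cfsg.Agent.Lib.Helper6.Zs

section inv
variable {F : Type*} [Field F] {G Ω : Type*} [Group G] [MulAction G Ω]

/-- over the prime field the element `t` is the inversion -/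
theorem tau_nat (a : Ω) (Pm : F → Ω) (hinj : Function.Injective Pm) (hne : ∀ i, Pm i ≠ a)
    (hsurj : ∀ c, c ≠ a → ∃ i, Pm i = c)
    (hthree : ∀ g : G, ∀ u v w : Ω, u ≠ v → v ≠ w → u ≠ w → g • u = u → g • v = v →
      g • w = w → g = 1)
    (haff : ∀ r β : F, r ≠ 0 → ∃ g : G, g • a = a ∧ ∀ i, g • Pm i = Pm (r * i + β))
    (t : G) (hta : t • a = Pm 0) (ht0 : t • Pm 0 = a) (ht1 : t • Pm 1 = Pm 1) :
    ∀ n : ℕ, 1 ≤ n → (∀ m : ℕ, 1 ≤ m → m ≤ n → (m : F) ≠ 0) →
      t • Pm (n : F) = Pm ((n : F)⁻¹) := by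
  have h01 : Pm 0 ≠ Pm 1 := fun e => zero_ne_one (hinj e)
  have htt : t * t = 1 := by
    apply hthree (t * t) a (Pm 0) (Pm 1) (hne 0).symm h01 (hne 1).symm
    · rw [mul_smul, hta, ht0]
    · rw [mul_smul, ht0, hta]
    · rw [mul_smul, ht1, ht1]
  have htt' : ∀ c : Ω, t • (t • c) = c := fun c => by rw [← mul_smul, htt, one_smul]
  have htinv : t⁻¹ = t := inv_eq_of_mul_eq_one_left htt
  have hF2 : ∀ i : F, i ≠ 0 → ∃ j : F, j ≠ 0 ∧ t • Pm i = Pm j := by
    intro i hi
    have h1 : t • Pm i ≠ a := by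
      intro e
      rw [← ht0] at e
      exact hi (hinj (smul_left_cancel t e))
    obtain ⟨j, hj⟩ := hsurj _ h1
    refine ⟨j, ?_, hj.symm⟩
    intro e
    rw [e, ← hta] at hj
    exact hne i (smul_left_cancel t hj).symm
  have hF3 : ∀ r r' i i' : F, r ≠ 0 → r' ≠ 0 → t • Pm r = Pm r' → t • Pm i = Pm i' →
      t • Pm (r * i) = Pm (r' * i') := by
    intro r r' i i' hr hr' hrr hii
    obtain ⟨m, hma, hm⟩ := haff r 0 hr
    obtain ⟨m', hma', hm'⟩ := haff r' 0 hr'
    simp only [add_zero] at hm hm'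
    have hm0 : m • Pm 0 = Pm 0 := by rw [hm, mul_zero]
    have hm0' : m' • Pm 0 = Pm 0 := by rw [hm', mul_zero]
    have hm1 : m • Pm 1 = Pm r := by rw [hm, mul_one]
    have hm1' : m' • Pm 1 = Pm r' := by rw [hm', mul_one]
    have hg : m'⁻¹ * t * m * t = 1 := by
      apply hthree _ a (Pm 0) (Pm 1) (hne 0).symm h01 (hne 1).symm
      · rw [mul_smul, mul_smul, mul_smul, hta, hm0, ht0, inv_smul_eq_iff, hma']
      · rw [mul_smul, mul_smul, mul_smul, ht0, hma, hta, inv_smul_eq_iff, hm0']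
      · rw [mul_smul, mul_smul, mul_smul, ht1, hm1, hrr, inv_smul_eq_iff, hm1']
    have hg' : t * m = m' * t := by
      have h1 : t * m = m' * (m'⁻¹ * t * m * t) * t⁻¹ := by group
      rw [hg, mul_one, htinv] at h1
      exact h1
    rw [← hm i, ← mul_smul, hg', mul_smul, hii, hm']
  have hm1ne : (-1 : F) ≠ 0 := neg_ne_zero.2 one_ne_zero
  have hF4 : t • Pm (-1 : F) = Pm (-1) := by
    obtain ⟨j, hj0, hj⟩ := hF2 (-1) hm1ne
    have h1 := hF3 (-1) j (-1) j hm1ne hj0 hj hj
    rw [neg_mul_neg, one_mul, ht1] at h1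
    have h2 : j * j = 1 := (hinj h1).symm
    rcases mul_self_eq_one_iff.1 h2 with e | e
    · have e2 : (-1 : F) = 1 := by
        apply hinj
        apply smul_left_cancel t
        rw [hj, e, ht1]
      rw [hj, e, e2]
    · rw [hj, e]
  obtain ⟨τ1, hτa, hτ⟩ := haff 1 1 one_ne_zero
  obtain ⟨μ, hμa, hμ⟩ := haff (-1) 0 hm1ne
  simp only [one_mul, add_zero, neg_mul] at hτ hμ
  have hL_a : (t * τ1 * t) • a = Pm 1 := by
    rw [mul_smul, mul_smul, hta, hτ, zero_add, ht1]
  have hR_a : (τ1 * μ * t * τ1) • a = Pm 1 := by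
    rw [mul_smul, mul_smul, mul_smul, hτa, hta, hμ, neg_zero, hτ, zero_add]
  have hL_0 : (t * τ1 * t) • Pm 0 = Pm 0 := by
    rw [mul_smul, mul_smul, ht0, hτa, hta]
  have hR_0 : (τ1 * μ * t * τ1) • Pm 0 = Pm 0 := by
    rw [mul_smul, mul_smul, mul_smul, hτ, zero_add, ht1, hμ, hτ, neg_add_cancel]
  have hL_m : (t * τ1 * t) • Pm (-1) = a := by
    rw [mul_smul, mul_smul, hF4, hτ, neg_add_cancel, ht0]
  have hR_m : (τ1 * μ * t * τ1) • Pm (-1) = a := by
    rw [mul_smul, mul_smul, mul_smul, hτ, neg_add_cancel, ht0, hμa, hτa]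
  have hid : t * τ1 * t = τ1 * μ * t * τ1 := by
    have h : (τ1 * μ * t * τ1)⁻¹ * (t * τ1 * t) = 1 := by
      apply hthree _ a (Pm 0) (Pm (-1)) (hne 0).symm
        (fun e => hm1ne (hinj e).symm) (hne (-1)).symm
      · rw [mul_smul, hL_a, inv_smul_eq_iff, hR_a]
      · rw [mul_smul, hL_0, inv_smul_eq_iff, hR_0]
      · rw [mul_smul, hL_m, inv_smul_eq_iff, hR_m]
    exact (inv_mul_eq_one.1 h).symm
  have hstep : ∀ i : F, i ≠ 0 → i + 1 ≠ 0 → t • Pm i = Pm i⁻¹ →
      t • Pm (i + 1) = Pm (i + 1)⁻¹ := by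
    intro i hi hi1 hti
    obtain ⟨k, hk0, hk⟩ := hF2 (i + 1) hi1
    have hti' : t • Pm i⁻¹ = Pm i := by rw [← hti, htt']
    have h1 := hF3 (i + 1) k i⁻¹ i hi1 hk0 hk hti'
    have e1 : (i + 1) * i⁻¹ = i⁻¹ + 1 := by
      field_simp
      ring
    rw [e1] at h1
    have hL : (t * τ1 * t) • Pm i = Pm (k * i) := by
      rw [mul_smul, mul_smul, hti, hτ, h1]
    have hR : (τ1 * μ * t * τ1) • Pm i = Pm (-k + 1) := by
      rw [mul_smul, mul_smul, mul_smul, hτ, hk, hμ, hτ]
    rw [hid, hR] at hL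
    have h2 : -k + 1 = k * i := hinj hL
    have h3 : k * (i + 1) = 1 := by
      rw [mul_add, mul_one, ← h2]
      ring
    rw [hk, eq_inv_of_mul_eq_one_left h3]
  intro n
  induction n with
  | zero => intro h; omega
  | succ n ih =>
    intro _ hm
    rcases Nat.eq_zero_or_pos n with h0 | hpos
    · subst h0
      simp only [zero_add, Nat.cast_one, inv_one]
      exact ht1
    · have h1 := ih hpos (fun m hm1 hm2 => hm m hm1 (by omega))
      have hn0 : (n : F) ≠ 0 := hm n hpos (by omega)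
      have hn1 : (n : F) + 1 ≠ 0 := by
        have := hm (n + 1) (by omega) le_rfl
        rwa [Nat.cast_succ] at this
      rw [Nat.cast_succ]
      exact hstep _ hn0 hn1 h1

end inv

section trans3
variable {G Ω : Type*} [Group G] [Fintype G] [MulAction G Ω] [Fintype Ω]

/-- triple transitivity from the order of the two point stabiliser -/
theorem three_trans_of
    (htwo : ∀ u v w z : Ω, u ≠ v → w ≠ z → ∃ g : G, g • u = w ∧ g • v = z)
    (hthree : ∀ g : G, ∀ u v w : Ω, u ≠ v → v ≠ w → u ≠ w → g • u = u → g • v = v →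
      g • w = w → g = 1)
    {a b : Ω} (hab : a ≠ b)
    (hcard1 : Nat.card ↥(stabilizer G a ⊓ stabilizer G b : Subgroup G) + 2 = Fintype.card Ω) :
    MulAction.IsMultiplyPretransitive G Ω 3 := by
  classical
  set H : Subgroup G := stabilizer G a ⊓ stabilizer G b with hH
  have hHa : ∀ g : H, (g : G) • a = a := fun g =>
    mem_stabilizer_iff.1 (Subgroup.mem_inf.1 g.2).1
  have hHb : ∀ g : H, (g : G) • b = b := fun g =>
    mem_stabilizer_iff.1 (Subgroup.mem_inf.1 g.2).2
  set Pset : Finset Ω := (Finset.univ.erase a).erase b with hPset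
  have hPmem : ∀ α : Ω, α ∈ Pset ↔ α ≠ a ∧ α ≠ b := by
    intro α
    rw [hPset, Finset.mem_erase, Finset.mem_erase]
    simp [and_comm]
  have hPcard : Pset.card = Fintype.card Ω - 2 := by
    rw [hPset, Finset.card_erase_of_mem, Finset.card_erase_of_mem (Finset.mem_univ a),
      Finset.card_univ]
    · omega
    · rw [Finset.mem_erase]; exact ⟨hab.symm, Finset.mem_univ b⟩
  have htransH : ∀ c c' : Ω, c ≠ a → c ≠ b → c' ≠ a → c' ≠ b →
      ∃ g : G, g • a = a ∧ g • b = b ∧ g • c = c' := by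
    intro c c' hca hcb hca' hcb'
    haveI : Fintype H := Fintype.ofFinite H
    let f : H → ↥Pset := fun g => ⟨(g : G) • c, by
      rw [hPmem]
      constructor
      · intro e
        apply hca
        have : (g : G) • c = (g : G) • a := by rw [e, hHa g]
        exact smul_left_cancel _ this
      · intro e
        apply hcb
        have : (g : G) • c = (g : G) • b := by rw [e, hHb g]
        exact smul_left_cancel _ this⟩
    have hfinj : Function.Injective f := by
      intro g g' hgg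
      have h1 : (g : G) • c = (g' : G) • c := congrArg Subtype.val hgg
      have h2 : ((g' : G)⁻¹ * (g : G)) • c = c := by rw [mul_smul, h1, inv_smul_smul]
      have h3 : ((g' : G)⁻¹ * (g : G)) • a = a := by
        rw [mul_smul, hHa g, inv_smul_eq_iff, hHa g']
      have h4 : ((g' : G)⁻¹ * (g : G)) • b = b := by
        rw [mul_smul, hHb g, inv_smul_eq_iff, hHb g']
      have h5 := hthree _ a b c hab hcb.symm hca.symm h3 h4 h2
      apply Subtype.ext
      exact (inv_mul_eq_one.1 h5).symm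
    have hcard : Fintype.card H = Fintype.card ↥Pset := by
      rw [Fintype.card_coe, hPcard, ← Nat.card_eq_fintype_card]
      omega
    have hbij : Function.Bijective f :=
      (Fintype.bijective_iff_injective_and_card f).2 ⟨hfinj, hcard⟩
    obtain ⟨g, hg⟩ := hbij.2 ⟨c', (hPmem c').2 ⟨hca', hcb'⟩⟩
    exact ⟨(g : G), hHa g, hHb g, congrArg Subtype.val hg⟩
  refine ⟨fun x y => ?_⟩
  have hx01 : x 0 ≠ x 1 := x.injective.ne (by decide)
  have hx02 : x 0 ≠ x 2 := x.injective.ne (by decide)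
  have hx12 : x 1 ≠ x 2 := x.injective.ne (by decide)
  have hy01 : y 0 ≠ y 1 := y.injective.ne (by decide)
  have hy02 : y 0 ≠ y 2 := y.injective.ne (by decide)
  have hy12 : y 1 ≠ y 2 := y.injective.ne (by decide)
  obtain ⟨g1, h10, h11⟩ := htwo (x 0) (x 1) a b hx01 hab
  obtain ⟨g2, h20, h21⟩ := htwo (y 0) (y 1) a b hy01 hab
  have hca : g1 • x 2 ≠ a := by
    intro e
    rw [← h10] at e
    exact hx02 (smul_left_cancel g1 e).symm
  have hcb : g1 • x 2 ≠ b := by
    intro e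
    rw [← h11] at e
    exact hx12 (smul_left_cancel g1 e).symm
  have hca' : g2 • y 2 ≠ a := by
    intro e
    rw [← h20] at e
    exact hy02 (smul_left_cancel g2 e).symm
  have hcb' : g2 • y 2 ≠ b := by
    intro e
    rw [← h21] at e
    exact hy12 (smul_left_cancel g2 e).symm
  obtain ⟨g3, h3a, h3b, h3c⟩ := htransH _ _ hca hcb hca' hcb'
  refine ⟨g2⁻¹ * g3 * g1, ?_⟩
  apply DFunLike.ext
  intro i
  rw [Function.Embedding.smul_apply]
  fin_cases i
  · show (g2⁻¹ * g3 * g1) • x 0 = y 0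
    rw [mul_smul, mul_smul, h10, h3a, inv_smul_eq_iff, h20]
  · show (g2⁻¹ * g3 * g1) • x 1 = y 1
    rw [mul_smul, mul_smul, h11, h3b, inv_smul_eq_iff, h21]
  · show (g2⁻¹ * g3 * g1) • x 2 = y 2
    rw [mul_smul, mul_smul, h3c, inv_smul_smul]

end trans3

section coords
variable {G Ω : Type*} [Group G] [Fintype G] [MulAction G Ω] [Fintype Ω]
variable {p d : ℕ} {x : G} {a : Ω}

theorem PD.three_trans (h : PD G Ω p d x a) (hd : d = p - 1) :
    MulAction.IsMultiplyPretransitive G Ω 3 := by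
  classical
  have hp2 := h.prime.two_le
  obtain ⟨b, hb⟩ : ∃ b : Ω, b ≠ a :=
    Fintype.exists_ne_of_one_lt_card (by rw [h.cardΩ]; omega) a
  apply three_trans_of h.two h.three hb.symm
  rw [h.card2 b hb, h.cardΩ, hd]
  omega

/-- coordinates from the prime field -/
theorem PD.coords (h : PD G Ω p d x a) (hd : d = p - 1) :
    ∃ (Pm : ZMod p → Ω), Function.Injective Pm ∧ (∀ i, Pm i ≠ a) ∧
      (∀ c, c ≠ a → ∃ i, Pm i = c) ∧
      (∀ g : G, g • a = a → ∃ r β : ZMod p, r ≠ 0 ∧ ∀ i, g • Pm i = Pm (r * i + β)) ∧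
      (∀ r β : ZMod p, r ≠ 0 → ∃ g : G, g • a = a ∧ ∀ i, g • Pm i = Pm (r * i + β)) ∧
      (∃ t : G, t • a = Pm 0 ∧ t • Pm 0 = a ∧ ∀ i, i ≠ 0 → t • Pm i = Pm i⁻¹) := by
  classical
  have hp := h.prime
  have hp2 := hp.two_le
  haveI : Fact p.Prime := ⟨hp⟩
  haveI : NeZero p := ⟨hp.ne_zero⟩
  have hK := h.kd
  set P : Subgroup G := Subgroup.zpowers x with hP
  obtain ⟨b, hb⟩ : ∃ b : Ω, b ≠ a :=
    Fintype.exists_ne_of_one_lt_card (by rw [h.cardΩ]; omega) a
  have hxP : x ∈ P := Subgroup.mem_zpowers x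
  set κ : ZMod p → G := fun i => x ^ i.val with hκ
  have hκadd : ∀ i j, κ (i + j) = κ i * κ j := by
    intro i j
    show x ^ (i + j).val = x ^ i.val * x ^ j.val
    have := pow_mod_orderOf x (i.val + j.val)
    rw [h.order] at this
    rw [ZMod.val_add, this, pow_add]
  have hκ0 : κ 0 = 1 := by
    show x ^ (0 : ZMod p).val = 1
    rw [ZMod.val_zero, pow_zero]
  have hκmem : ∀ i, κ i ∈ P := fun i => P.pow_mem hxP _
  have hκsurj : ∀ u ∈ P, ∃ i, κ i = u := by
    intro u hu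
    have hu' : u ∈ Submonoid.powers x :=
      (IsOfFinOrder.mem_powers_iff_mem_zpowers (isOfFinOrder_of_finite x)).2 hu
    obtain ⟨n, hn⟩ := (Submonoid.mem_powers_iff u x).1 hu'
    refine ⟨(n : ZMod p), ?_⟩
    show x ^ ((n : ZMod p)).val = u
    have := pow_mod_orderOf x n
    rw [h.order] at this
    rw [ZMod.val_natCast, this, hn]
  have hκinj : ∀ i j, κ i = κ j → i = j := by
    intro i j hij
    have h1 : i.val % orderOf x = j.val % orderOf x := pow_inj_mod.1 hij
    rw [h.order, Nat.mod_eq_of_lt (ZMod.val_lt i), Nat.mod_eq_of_lt (ZMod.val_lt j)] at h1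
    exact ZMod.val_injective p h1
  have hκpow : ∀ r i : ZMod p, κ r ^ i.val = κ (r * i) := by
    intro r i
    show (x ^ r.val) ^ i.val = x ^ (r * i).val
    have := pow_mod_orderOf x (r.val * i.val)
    rw [h.order] at this
    rw [ZMod.val_mul, this, pow_mul]
  have hκa : ∀ i, κ i • a = a := fun i => hK.fixa (hκmem i)
  set Pm : ZMod p → Ω := fun i => κ i • b with hPm
  have hPm0 : Pm 0 = b := by
    show κ 0 • b = b
    rw [hκ0, one_smul]
  have hPminj : Function.Injective Pm := by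
    intro i j hij
    exact hκinj i j (hK.inj hb (hκmem i) (hκmem j) hij)
  have hPmne : ∀ i, Pm i ≠ a := fun i => hK.ne_a hb (hκmem i)
  have hPmsurj : ∀ c, c ≠ a → ∃ i, Pm i = c := by
    intro c hc
    obtain ⟨u, hu, huc⟩ := hK.surj hb hc
    obtain ⟨i, hi⟩ := hκsurj u hu
    exact ⟨i, by show κ i • b = c; rw [hi, huc]⟩
  have hκsmul : ∀ i j, κ i • Pm j = Pm (i + j) := by
    intro i j
    show κ i • κ j • b = κ (i + j) • b
    rw [hκadd, mul_smul]
  have hx1 : x ≠ 1 := by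
    intro e
    have := h.order
    rw [e, orderOf_one] at this
    omega
  -- the multiplier of an element of the stabiliser
  have hmult : ∀ s : G, s • a = a → ∃ r : ZMod p, r ≠ 0 ∧ ∀ i, s * κ i * s⁻¹ = κ (r * i) := by
    intro s hs
    obtain ⟨r, hr⟩ := hκsurj _ (h.conj s hs x hxP)
    refine ⟨r, ?_, ?_⟩
    · intro e
      rw [e, hκ0] at hr
      apply hx1
      have : x = s⁻¹ * (s * x * s⁻¹) * s := by group
      rw [this, ← hr]
      group
    · intro i
      show s * x ^ i.val * s⁻¹ = κ (r * i)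
      rw [← conj_pow, ← hr, hκpow]
  have hDact : ∀ s : G, s • a = a → s • b = b → ∀ r : ZMod p,
      (∀ i, s * κ i * s⁻¹ = κ (r * i)) → ∀ i, s • Pm i = Pm (r * i) := by
    intro s hsa hsb r hr i
    show s • κ i • b = κ (r * i) • b
    rw [← hr i]
    rw [mul_smul, mul_smul, inv_smul_eq_iff.2 hsb.symm]
  have hA : ∀ g : G, g • a = a → ∃ r β : ZMod p, r ≠ 0 ∧ ∀ i, g • Pm i = Pm (r * i + β) := by
    intro g hga
    have hgb : g • b ≠ a := by
      intro e
      rw [← hga] at e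
      exact hb (smul_left_cancel g e)
    obtain ⟨β, hβ⟩ := hPmsurj _ hgb
    have hsa : ((κ β)⁻¹ * g) • a = a := by
      rw [mul_smul, hga, inv_smul_eq_iff, hκa]
    have hsb : ((κ β)⁻¹ * g) • b = b := by
      rw [mul_smul, inv_smul_eq_iff]
      exact hβ.symm
    obtain ⟨r, hr0, hr⟩ := hmult _ hsa
    refine ⟨r, β, hr0, fun i => ?_⟩
    have h1 := hDact _ hsa hsb r hr i
    have h2 : g • Pm i = κ β • (((κ β)⁻¹ * g) • Pm i) := by
      rw [mul_smul ((κ β)⁻¹) g (Pm i), smul_inv_smul]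
    rw [h2, h1, hκsmul, add_comm]
  -- all multipliers occur
  have hA'0 : ∀ r : ZMod p, r ≠ 0 → ∃ s : G, s • a = a ∧ s • b = b ∧
      ∀ i, s * κ i * s⁻¹ = κ (r * i) := by
    set D : Subgroup G := stabilizer G a ⊓ stabilizer G b with hD
    have hDa : ∀ s : D, (s : G) • a = a := fun s =>
      mem_stabilizer_iff.1 (Subgroup.mem_inf.1 s.2).1
    have hDb : ∀ s : D, (s : G) • b = b := fun s =>
      mem_stabilizer_iff.1 (Subgroup.mem_inf.1 s.2).2
    have hex : ∀ s : D, ∃ r : {r : ZMod p // r ≠ 0}, ∀ i, (s : G) * κ i * (s : G)⁻¹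
        = κ ((r : ZMod p) * i) := by
      intro s
      obtain ⟨r, hr0, hr⟩ := hmult _ (hDa s)
      exact ⟨⟨r, hr0⟩, hr⟩
    choose mult hmul using hex
    have hinj : Function.Injective mult := by
      intro s s' hss
      have h1 : ((s' : G)⁻¹ * (s : G)) * κ 1 * ((s' : G)⁻¹ * (s : G))⁻¹ = κ 1 := by
        have e1 := hmul s 1
        have e2 := hmul s' 1
        rw [hss] at e1
        have : ((s' : G)⁻¹ * (s : G)) * κ 1 * ((s' : G)⁻¹ * (s : G))⁻¹
            = (s' : G)⁻¹ * ((s : G) * κ 1 * (s : G)⁻¹) * (s' : G) := by group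
        rw [this, e1, ← e2]
        group
      have hk1 : κ 1 ≠ 1 := by
        intro e
        rw [← hκ0] at e
        exact one_ne_zero (hκinj _ _ e)
      have h2 := h.semi ((s' : G)⁻¹ * (s : G))
        (by rw [mul_smul, hDa, inv_smul_eq_iff, hDa]) b hb
        (by rw [mul_smul, hDb, inv_smul_eq_iff, hDb]) (κ 1) (hκmem 1) hk1 h1
      apply Subtype.ext
      exact (inv_mul_eq_one.1 h2).symm
    have hbij : Function.Bijective mult := by
      apply Function.Injective.bijective_of_nat_card_le hinj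
      rw [h.card2 b hb, hd, Nat.card_eq_fintype_card, Fintype.card_subtype_compl,
        Fintype.card_subtype_eq, ZMod.card]
    intro r hr
    obtain ⟨s, hs⟩ := hbij.2 ⟨r, hr⟩
    refine ⟨(s : G), hDa s, hDb s, ?_⟩
    intro i
    have := hmul s i
    rw [hs] at this
    exact this
  have hA' : ∀ r β : ZMod p, r ≠ 0 → ∃ g : G, g • a = a ∧ ∀ i, g • Pm i = Pm (r * i + β) := by
    intro r β hr
    obtain ⟨s, hsa, hsb, hs⟩ := hA'0 r hr
    refine ⟨κ β * s, ?_, ?_⟩
    · rw [mul_smul, hsa, hκa]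
    · intro i
      rw [mul_smul, hDact s hsa hsb r hs i, hκsmul, add_comm]
  refine ⟨Pm, hPminj, hPmne, hPmsurj, hA, hA', ?_⟩
  -- the element `t`
  obtain ⟨t0, ht0a, ht0b⟩ := h.two a b b a hb.symm hb
  have h1 : t0 • Pm 1 ≠ a := by
    intro e
    rw [← ht0b, ← hPm0] at e
    exact one_ne_zero (hPminj (smul_left_cancel t0 e))
  obtain ⟨j, hj⟩ := hPmsurj _ h1
  have hj0 : j ≠ 0 := by
    intro e
    rw [e, hPm0, ← ht0a] at hj
    exact hPmne 1 (smul_left_cancel t0 hj).symm
  obtain ⟨s, hsa, hs⟩ := hA' j⁻¹ 0 (inv_ne_zero hj0)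
  simp only [add_zero] at hs
  have hta : (s * t0) • a = Pm 0 := by
    rw [mul_smul, ht0a, ← hPm0, hs, mul_zero]
  have htb : (s * t0) • Pm 0 = a := by
    rw [mul_smul, hPm0, ht0b, hsa]
  have ht1 : (s * t0) • Pm 1 = Pm 1 := by
    rw [mul_smul, ← hj, hs, inv_mul_cancel₀ hj0]
  refine ⟨s * t0, hta, htb, ?_⟩
  intro i hi
  have key := tau_nat a Pm hPminj hPmne hPmsurj h.three hA' (s * t0) hta htb ht1 i.val
    (by
      have : i.val ≠ 0 := fun e => hi ((ZMod.val_eq_zero i).1 e)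
      omega)
    (by
      intro m hm1 hm2 e
      have hlt := ZMod.val_lt i
      have := (ZMod.natCast_eq_zero_iff m p).1 e
      have := Nat.le_of_dvd (by omega) this
      omega)
  rw [ZMod.natCast_zmod_val] at key
  exact key

end coords

end Cfsg.Agent.Lib.Helper6.Zq
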