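import Mathlib
import Cfsg.Agent.Lib.Helper6.ZqB
import Cfsg.Agent.Lib.Lead.S3B

set_option autoImplicit false

/-!
From the coordinates over the prime field to `PGL(2, p)`.
-/

namespace Cfsg.Agent.Lib.Helper6.Zq

open Cfsg MulAction Cfsg.Agent.Lib.Lead.S3

section pgl
variable {α : Type*} [Fintype α] [DecidableEq α]

theorem pgl_of_coords {p : ℕ} [Fact p.Prime] (G : Subgroup (Equiv.Perm α)) (inf : α)
    (Pm : ZMod p → α) (hinj : Function.Injective Pm) (hne : ∀ i, Pm i ≠ inf)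
    (hsurj : ∀ c, c ≠ inf → ∃ i, Pm i = c)
    (hA : ∀ g : G, g • inf = inf → ∃ r β : ZMod p, r ≠ 0 ∧ ∀ i, g • Pm i = Pm (r * i + β))
    (hA' : ∀ r β : ZMod p, r ≠ 0 → ∃ g : G, g • inf = inf ∧ ∀ i, g • Pm i = Pm (r * i + β))
    (hT : ∃ t : G, t • inf = Pm 0 ∧ t • Pm 0 = inf ∧ ∀ i, i ≠ 0 → t • Pm i = Pm i⁻¹)
    (h3 : IsMultiplyPretransitive G α 3) :
    Nonempty (G ≃* Matrix.ProjGenLinGroup (Fin 2) (ZMod p)) := by
  let ε : ZMod p ≃ Pt inf := Equiv.ofBijective (fun i => (⟨Pm i, hne i⟩ : Pt inf))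
    ⟨fun i j hij => hinj (congrArg Subtype.val hij), fun c => by
      obtain ⟨i, hi⟩ := hsurj c.1 c.2
      exact ⟨i, Subtype.ext hi⟩⟩
  letI fld : Field (Pt inf) := ε.symm.field
  let R : Pt inf ≃+* ZMod p :=
    { ε.symm with
      map_mul' := fun y z => ε.symm.apply_symm_apply _
      map_add' := fun y z => ε.symm.apply_symm_apply _ }
  have hRapp : ∀ y : Pt inf, R y = ε.symm y := fun y => rfl
  have hval : ∀ z : Pt inf, (z : α) = Pm (R z) := by
    intro z
    have := congrArg Subtype.val (ε.apply_symm_apply z)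
    rw [hRapp]
    exact this.symm
  have hRε : ∀ i, R (ε i) = i := fun i => ε.symm_apply_apply i
  have hA1 : ∀ g ∈ G, g inf = inf → ∃ a b : Pt inf, a ≠ 0 ∧
      ∀ x : Pt inf, g (x : α) = ((x * a + b : Pt inf) : α) := by
    intro g hg hgi
    obtain ⟨r, β, hr, hrβ⟩ := hA ⟨g, hg⟩ hgi
    refine ⟨ε r, ε β, ?_, ?_⟩
    · intro e
      apply hr
      have := congrArg R e
      rwa [hRε, map_zero] at this
    · intro y
      rw [hval y, hval (y * ε r + ε β), map_add, map_mul, hRε, hRε, mul_comm (R y) r]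
      exact hrβ (R y)
  have hA1' : ∀ a b : Pt inf, a ≠ 0 → ∃ g ∈ G, g inf = inf ∧
      ∀ x : Pt inf, g (x : α) = ((x * a + b : Pt inf) : α) := by
    intro a b ha
    have hRa : R a ≠ 0 := by
      intro e
      apply ha
      apply R.injective
      rw [e, map_zero]
    obtain ⟨g, hgi, hg⟩ := hA' (R a) (R b) hRa
    refine ⟨(g : Equiv.Perm α), g.2, hgi, fun y => ?_⟩
    rw [hval y, hval (y * a + b), map_add, map_mul, mul_comm (R y) (R a)]
    exact hg (R y)
  have hT1 : ∃ t ∈ G, t inf = ((0 : Pt inf) : α) ∧ t ((0 : Pt inf) : α) = inf ∧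
      ∀ x : Pt inf, x ≠ 0 → t (x : α) = ((x⁻¹ : Pt inf) : α) := by
    obtain ⟨t, hti, ht0, ht⟩ := hT
    refine ⟨(t : Equiv.Perm α), t.2, ?_, ?_, ?_⟩
    · rw [hval 0, map_zero]
      exact hti
    · rw [hval 0, map_zero]
      exact ht0
    · intro y hy
      have hRy : R y ≠ 0 := by
        intro e
        apply hy
        apply R.injective
        rw [e, map_zero]
      rw [hval y, hval y⁻¹, map_inv₀]
      exact ht (R y) hRy
  obtain ⟨iso⟩ := pgl_iso G inf h3 hA1 hA1' hT1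
  exact ⟨iso.trans (pglCongr R)⟩

end pgl

end Cfsg.Agent.Lib.Helper6.Zq
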