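import Mathlib
import Cfsg.Agent.Lib.Helper6.PB13
import Cfsg.Agent.Lib.Helper6.ClassCount
import Cfsg.Agent.Lib.Helper6.BlkVanish
import Cfsg.Agent.S0193
import Cfsg.Agent.S0146

/-!
# Characters of the normalizer of a Sylow subgroup of prime order
-/

set_option autoImplicit false
set_option linter.unusedSectionVars false

namespace Cfsg.Agent.Lib.Helper6.McD

open Cfsg.Agent.Lib.Helper6 Cfsg.Agent.Lib.Helper6.PB
open scoped ComplexConjugate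

variable {G : Type*} [Group G] [Fintype G] [DecidableEq G] {p : ℕ} [hp : Fact p.Prime]
variable (P : Sylow p G)
variable [Fintype ↥(Subgroup.centralizer ((P : Subgroup G) : Set G))]
variable [Fintype ↥(Subgroup.normalizer ((P : Subgroup G) : Set G))]
variable {M : Ideal Cfsg.AlgInt}

local notation "𝐂" => Subgroup.centralizer ((P : Subgroup G) : Set G)
local notation "𝐍" => Subgroup.normalizer ((P : Subgroup G) : Set G)

/-- a character of the normalizer lies over a character of the centralizer -/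
def Ovr (ψ : Cfsg.IrrCharacter 𝐍) (ξ : Cfsg.IrrCharacter 𝐂) : Prop :=
  Cfsg.classInner (fun k : CN P => (ψ : 𝐍 → ℂ) k) (toN P (ξ : 𝐂 → ℂ)) ≠ 0

theorem toN_act (g : 𝐍) (ξ : Cfsg.IrrCharacter 𝐂) :
    conjFun (CN P) (CN_normal P) (toN P (ξ : 𝐂 → ℂ)) g
      = toN P ((act P g⁻¹ ξ : Cfsg.IrrCharacter 𝐂) : 𝐂 → ℂ) := by
  funext k
  rw [conjFun_apply]
  unfold toN
  rw [act_apply]
  apply congrArg
  apply Subtype.ext
  rw [cj_symm_apply_coe]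
  simp

theorem toN_injective {ξ ξ' : Cfsg.IrrCharacter 𝐂}
    (h : toN P (ξ : 𝐂 → ℂ) = toN P (ξ' : 𝐂 → ℂ)) : ξ = ξ' := by
  apply Subtype.ext
  funext c
  exact congrFun h ⟨⟨(c : G), C_le_N P c.2⟩, (mem_CN P _).mpr c.2⟩

theorem ovr_act {ψ : Cfsg.IrrCharacter 𝐍} {ξ : Cfsg.IrrCharacter 𝐂} (h : Ovr P ψ ξ) (n : 𝐍) :
    Ovr P ψ (act P n ξ) := by
  unfold Ovr at h ⊢
  have h1 := classInner_restrict_conjFun (CN P) (CN_normal P)
    (IsIrrCharacter.isClassFunction ψ.2) (toN P (ξ : 𝐂 → ℂ)) n⁻¹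
  rw [toN_act, inv_inv] at h1
  rw [h1]
  exact h

theorem ovr_conj {ψ : Cfsg.IrrCharacter 𝐍} {ξ ξ' : Cfsg.IrrCharacter 𝐂} (h : Ovr P ψ ξ)
    (h' : Ovr P ψ ξ') : ∃ n : 𝐍, ξ' = act P n ξ := by
  obtain ⟨g, hg⟩ := exists_conjFun_eq_of_constituents (CN P) (CN_normal P) ψ.2
    (toN_irr P ξ) (toN_irr P ξ') h h'
  rw [toN_act] at hg
  exact ⟨g⁻¹, toN_injective P hg⟩

theorem act_eq_of_stab (ξ : Cfsg.IrrCharacter 𝐂) (g : 𝐍)
    (h : ∀ k : CN P, toN P (ξ : 𝐂 → ℂ) ⟨g * k * g⁻¹, (CN_normal P).conj_mem k k.2 g⟩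
      = toN P (ξ : 𝐂 → ℂ) k) : act P g ξ = ξ := by
  have h1 : conjFun (CN P) (CN_normal P) (toN P (ξ : 𝐂 → ℂ)) g = toN P (ξ : 𝐂 → ℂ) := by
    funext k
    rw [conjFun_apply]
    exact h k
  rw [toN_act] at h1
  have h2 := toN_injective P h1
  have h3 := (act_eq_iff P g⁻¹ ξ ξ).mp h2
  rw [inv_inv] at h3
  exact h3.symm

theorem Loc_b_eq_of_mem (hP : Nat.card P = p) (hM : Cfsg.IsPModular p M) (L : Loc M P)
    {ξ : Cfsg.IrrCharacter 𝐂} (hξ : ξ ∈ L.b) : L.b = Cfsg.blockOf M (ξ : 𝐂 → ℂ) := by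
  rw [L.b_eq hP hM] at hξ ⊢
  exact blockOf_eq_of_mem hM hξ

/-- characters off the canonical character induce irreducibly to the normalizer -/
theorem ind_irr (hP : Nat.card P = p) (hM : Cfsg.IsPModular p M) (L : Loc M P)
    {ξ : Cfsg.IrrCharacter 𝐂} (hξ : ξ ∈ L.star) :
    Cfsg.IsIrrCharacter 𝐍 (Cfsg.indFun (CN P) (toN P (ξ : 𝐂 → ℂ))) := by
  apply isIrrCharacter_of_classInner_self_eq_one
    (IsCharacter.indFun (CN P) (IsIrrCharacter.isCharacter (toN_irr P ξ)))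
  have h1 := Cfsg.Agent.S0193.result (CN P) (toN P (ξ : 𝐂 → ℂ)) (toN_irr P ξ)
  have h2 : Nat.card {g : 𝐍 // ∀ h : CN P,
      toN P (ξ : 𝐂 → ℂ) ⟨g * h * g⁻¹, (CN_normal P).conj_mem h h.2 g⟩ = toN P (ξ : 𝐂 → ℂ) h}
      = Nat.card (CN P) := by
    apply Nat.card_congr
    refine Equiv.subtypeEquivRight (fun g => ?_)
    constructor
    · intro h
      rw [mem_CN]
      exact stab_le_C P hP hM L.hb L.hθ L.hθP hξ.1 hξ.2 g (act_eq_of_stab P ξ g h)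
    · intro hg k
      exact IsIrrCharacter.isClassFunction (toN_irr P ξ) k ⟨g, hg⟩
  rw [h2] at h1
  exact mul_left_cancel₀ (card_ne_zero_complex (CN P)) (h1.trans (mul_one _).symm)

theorem ovr_ind (hP : Nat.card P = p) (hM : Cfsg.IsPModular p M) (L : Loc M P)
    {ξ : Cfsg.IrrCharacter 𝐂} (hξ : ξ ∈ L.star) :
    Ovr P ⟨Cfsg.indFun (CN P) (toN P (ξ : 𝐂 → ℂ)), ind_irr P hP hM L hξ⟩ ξ := by
  unfold Ovr
  have hirr := ind_irr P hP hM L hξ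
  have h1 := Cfsg.Agent.S0146.result (CN P) (toN P (ξ : 𝐂 → ℂ))
    (Cfsg.indFun (CN P) (toN P (ξ : 𝐂 → ℂ))) (IsIrrCharacter.isClassFunction hirr)
  rw [classInner_isIrrCharacter hirr hirr, if_pos rfl] at h1
  rw [← classInner_conj_symm]
  show conj (Cfsg.classInner (toN P (ξ : 𝐂 → ℂ))
    (fun k : CN P => Cfsg.indFun (CN P) (toN P (ξ : 𝐂 → ℂ)) k)) ≠ 0
  rw [← h1]
  simp

theorem eq_ind_of_ovr (hP : Nat.card P = p) (hM : Cfsg.IsPModular p M) (L : Loc M P)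
    {ξ : Cfsg.IrrCharacter 𝐂} (hξ : ξ ∈ L.star) {ψ : Cfsg.IrrCharacter 𝐍} (h : Ovr P ψ ξ) :
    ψ = ⟨Cfsg.indFun (CN P) (toN P (ξ : 𝐂 → ℂ)), ind_irr P hP hM L hξ⟩ := by
  apply Subtype.ext
  have h1 := Cfsg.Agent.S0146.result (CN P) (toN P (ξ : 𝐂 → ℂ)) (ψ : 𝐍 → ℂ)
    (IsIrrCharacter.isClassFunction ψ.2)
  have h2 : Cfsg.classInner (toN P (ξ : 𝐂 → ℂ)) (fun k : CN P => (ψ : 𝐍 → ℂ) k) ≠ 0 := by
    rw [← classInner_conj_symm]
    exact (map_ne_zero _).mpr h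
  rw [← h1, classInner_isIrrCharacter (ind_irr P hP hM L hξ) ψ.2] at h2
  by_contra hne
  rw [if_neg (fun h => hne h.symm)] at h2
  exact h2 rfl

/-- the centralizer and its copy inside the normalizer -/
def eC : 𝐂 ≃* CN P where
  toFun c := ⟨⟨(c : G), C_le_N P c.2⟩, (mem_CN P _).mpr c.2⟩
  invFun k := ⟨((k : 𝐍) : G), (mem_CN P _).mp k.2⟩
  left_inv _ := rfl
  right_inv _ := rfl
  map_mul' _ _ := rfl

theorem exists_ovr (ψ : Cfsg.IrrCharacter 𝐍) : ∃ ξ : Cfsg.IrrCharacter 𝐂, Ovr P ψ ξ := by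
  obtain ⟨ξ₀, hξ₀⟩ := exists_constituent_restrict (CN P) ψ.2
  refine ⟨⟨fun c => (ξ₀ : CN P → ℂ) (eC P c), IsIrrCharacter.comp_mulEquiv (eC P) ξ₀.2⟩, ?_⟩
  exact hξ₀

end Cfsg.Agent.Lib.Helper6.McD
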