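import Mathlib
import Cfsg.Agent.Lib.Helper6.McD1

/-!
# The count of characters of degree prime to `p` for Sylow subgroups of order `p`
-/

set_option autoImplicit false
set_option linter.unusedSectionVars false
set_option linter.style.haveILetI false
set_option maxHeartbeats 1600000

namespace Cfsg.Agent.Lib.Helper6.McD

open Cfsg.Agent.Lib.Helper6 Cfsg.Agent.Lib.Helper6.PB
open scoped ComplexConjugate

variable {G : Type*} [Group G] [Fintype G] [DecidableEq G] {p : ℕ} [hp : Fact p.Prime]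
variable (P : Sylow p G)
variable [Fintype ↥(Subgroup.centralizer ((P : Subgroup G) : Set G))]
variable [Fintype ↥(Subgroup.normalizer ((P : Subgroup G) : Set G))]
variable {M : Ideal Cfsg.AlgInt}

local notation "𝐂" => Subgroup.centralizer ((P : Subgroup G) : Set G)
local notation "𝐍" => Subgroup.normalizer ((P : Subgroup G) : Set G)

theorem card_pprime_eq (hP : Nat.card P = p) (hM : Cfsg.IsPModular p M) :
    Nat.card {χ : Cfsg.IrrCharacter G // ¬ p ∣ Cfsg.charDegree (χ : G → ℂ)}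
      = Nat.card (Cfsg.IrrCharacter 𝐍) := by
  classical
  haveI : Fintype (Cfsg.IrrCharacter G) := Fintype.ofFinite _
  haveI : Fintype (Cfsg.IrrCharacter 𝐍) := Fintype.ofFinite _
  obtain ⟨D, hDP, hDN⟩ := exists_LD P hP
  haveI : Fintype D.H := Fintype.ofFinite _
  have hHN : D.H ≤ 𝐍 := by rw [← hDN]; exact D.hHN
  have hbij := PB.compl_bijective P hP D hDP hDN hHN
  obtain ⟨blk, hblk⟩ : ∃ blk : Cfsg.IrrCharacter G → Set (Cfsg.IrrCharacter G),
      blk = fun ψ : Cfsg.IrrCharacter G => Cfsg.blockOf M (ψ : G → ℂ) := ⟨_, rfl⟩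
  obtain ⟨Zs, hZs⟩ : ∃ Zs : Finset (Cfsg.IrrCharacter G),
      Zs = Finset.univ.filter (fun χ : Cfsg.IrrCharacter G =>
        p ∣ Cfsg.charDegree (χ : G → ℂ)) := ⟨_, rfl⟩
  obtain ⟨Ps, hPs⟩ : ∃ Ps : Finset (Cfsg.IrrCharacter G),
      Ps = Finset.univ.filter (fun χ : Cfsg.IrrCharacter G =>
        ¬ p ∣ Cfsg.charDegree (χ : G → ℂ)) := ⟨_, rfl⟩
  obtain ⟨𝔅, h𝔅⟩ : ∃ 𝔅 : Finset (Set (Cfsg.IrrCharacter G)), 𝔅 = Ps.image blk := ⟨_, rfl⟩
  -- local data
  obtain ⟨dat, hdatdef⟩ : ∃ dat : Set (Cfsg.IrrCharacter G) → Loc M P, dat = fun B =>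
      if h : Cfsg.IsPBlock M B ∧ Cfsg.IsDefectGroup p M B (P : Subgroup G) then
        (exists_loc P hP hM h.1 h.2).choose else prin P hM := ⟨_, rfl⟩
  have hdat : ∀ B, Cfsg.IsPBlock M B → Cfsg.IsDefectGroup p M B (P : Subgroup G) →
      Cfsg.IsInducedBlock M 𝐂 (dat B).b B := by
    intro B h1 h2
    have : dat B = (exists_loc P hP hM h1 h2).choose := by
      rw [hdatdef]
      exact dif_pos ⟨h1, h2⟩
    rw [this]
    exact (exists_loc P hP hM h1 h2).choose_spec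
  have hplus : ∀ B ∈ 𝔅, Cfsg.IsPBlock M B ∧ Cfsg.IsDefectGroup p M B (P : Subgroup G) := by
    intro B hB
    rw [h𝔅] at hB
    obtain ⟨χ, hχ, rfl⟩ := Finset.mem_image.mp hB
    rw [hPs] at hχ
    rw [hblk]
    exact ⟨⟨χ, rfl⟩, isDefectGroup_blockOf P hP hM χ (Finset.mem_filter.mp hχ).2⟩
  have hdat' : ∀ B ∈ 𝔅, Cfsg.IsInducedBlock M 𝐂 (dat B).b B :=
    fun B hB => hdat B (hplus B hB).1 (hplus B hB).2
  -- Step A
  have hA : Ps.card = ∑ B ∈ 𝔅, Nat.card B := by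
    rw [Finset.card_eq_sum_card_image blk Ps, h𝔅]
    apply Finset.sum_congr rfl
    intro B hB
    rw [← h𝔅] at hB
    obtain ⟨hB1, hB2⟩ := hplus B hB
    rw [Nat.card_eq_fintype_card, Fintype.card_subtype]
    congr 1
    ext χ
    simp only [Finset.mem_filter, Finset.mem_univ, true_and]
    constructor
    · rintro ⟨_, rfl⟩
      rw [hblk]
      exact sameBlock_refl hM _
    · intro hχ
      refine ⟨?_, ?_⟩
      · rw [hPs]
        exact Finset.mem_filter.mpr ⟨Finset.mem_univ _,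
          not_dvd_of_isDefectGroup P hP hM hB1 hB2 χ hχ⟩
      · obtain ⟨χ₀, rfl⟩ := hB1
        rw [hblk]
        exact (blockOf_eq_of_mem hM hχ).symm
  -- Step B
  have hall : Finset.univ.image blk = Zs.image blk ∪ Ps.image blk := by
    rw [← Finset.image_union, hZs, hPs, Finset.filter_union_filter_not_eq]
  have hsum := sum_blockRank (G := G) (p := p) hM
  rw [← hblk] at hsum
  have hms := MR.ms_count M hM D
  have hz : Nat.card {χ : Cfsg.IrrCharacter G //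
      ¬ p ∣ Nat.card G / Cfsg.charDegree (χ : G → ℂ)} = Zs.card := by
    rw [Nat.card_eq_fintype_card, Fintype.card_subtype, hZs]
    congr 1
    ext χ
    simp only [Finset.mem_filter, Finset.mem_univ, true_and]
    rw [dvd_div_iff P hP χ, not_not]
  have h0 : ∑ B ∈ Zs.image blk, Cfsg.blockRank p B ≤ Zs.card := by
    calc ∑ B ∈ Zs.image blk, Cfsg.blockRank p B ≤ ∑ B ∈ Zs.image blk, 1 := by
          apply Finset.sum_le_sum
          intro B hB
          obtain ⟨χ, hχ, rfl⟩ := Finset.mem_image.mp hB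
          rw [hZs] at hχ
          have hχ' := (Finset.mem_filter.mp hχ).2
          rw [hblk]
          show Cfsg.blockRank p (Cfsg.blockOf M (χ : G → ℂ)) ≤ 1
          rw [blockOf_eq_singleton_of_dvd P hP hM χ hχ']
          unfold Cfsg.blockRank
          rw [Set.image_singleton]
          exact (finrank_span_le_card _).trans (by simp)
      _ = (Zs.image blk).card := by simp
      _ ≤ Zs.card := Finset.card_image_le
  have hsplit : ∑ B ∈ Finset.univ.image blk, Cfsg.blockRank p B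
      ≤ ∑ B ∈ Zs.image blk, Cfsg.blockRank p B + ∑ B ∈ Ps.image blk, Cfsg.blockRank p B := by
    rw [hall]
    have := Finset.sum_union_inter (s₁ := Zs.image blk) (s₂ := Ps.image blk)
      (f := fun B => Cfsg.blockRank p B)
    omega
  have hrank : ∑ B ∈ 𝔅, Cfsg.blockRank p B = ∑ B ∈ 𝔅, (dat B).e :=
    Finset.sum_congr rfl (fun B hB =>
      rank_eq_e P hP hM (dat B) (hplus B hB).1 (hplus B hB).2 (hdat' B hB))
  have hE := sum_e_le P hP hM D hDP hDN 𝔅 dat hdat'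
  have hBsum : ∑ B ∈ 𝔅, (dat B).e = Nat.card (Cfsg.IrrCharacter D.H) := by
    rw [h𝔅] at hrank hE ⊢
    omega
  -- Step C
  obtain ⟨ov, hov⟩ : ∃ ov : Loc M P → Finset (Cfsg.IrrCharacter 𝐍),
      ov = fun L => Finset.univ.filter (fun ψ : Cfsg.IrrCharacter 𝐍 => Ovr P ψ L.θ) :=
    ⟨_, rfl⟩
  obtain ⟨Triv, hTriv⟩ : ∃ Triv : Finset (Cfsg.IrrCharacter 𝐍),
      Triv = Finset.univ.filter (fun ψ : Cfsg.IrrCharacter 𝐍 =>
        ∀ q : PN P, (ψ : 𝐍 → ℂ) q = (ψ : 𝐍 → ℂ) 1) := ⟨_, rfl⟩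
  have hmemov : ∀ L ψ, ψ ∈ ov L ↔ Ovr P ψ L.θ := by
    intro L ψ
    rw [hov]
    simp only [Finset.mem_filter, Finset.mem_univ, true_and]
  have hmemT : ∀ ψ, ψ ∈ Triv ↔ ∀ q : PN P, (ψ : 𝐍 → ℂ) q = (ψ : 𝐍 → ℂ) 1 := by
    intro ψ
    rw [hTriv]
    simp only [Finset.mem_filter, Finset.mem_univ, true_and]
  have h1 : ∀ L : Loc M P, L.e ≤ (ov L).card := by
    intro L
    have := L.e_le_card_over hP
    rw [Nat.card_eq_fintype_card, Fintype.card_subtype] at this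
    rw [hov]
    refine this.trans (Finset.card_le_card ?_)
    intro ψ hψ
    rw [Finset.mem_filter] at hψ ⊢
    exact ⟨hψ.1, hψ.2⟩
  have hdisj : (𝔅 : Set (Set (Cfsg.IrrCharacter G))).PairwiseDisjoint
      (fun B => ov (dat B)) := by
    intro B hB B' hB' hne
    rw [Function.onFun, Finset.disjoint_left]
    intro ψ hψ hψ'
    exact hne ((dat B).induced_eq_of_over hP hM (dat B') (hdat' B hB) (hdat' B' hB') ψ
      ((hmemov _ _).mp hψ) ((hmemov _ _).mp hψ'))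
  have h2 : ∑ B ∈ 𝔅, (ov (dat B)).card = (𝔅.biUnion (fun B => ov (dat B))).card :=
    (Finset.card_biUnion hdisj).symm
  have hovT : ∀ (L : Loc M P) ψ, Ovr P ψ L.θ → ψ ∈ Triv := by
    intro L ψ h
    rw [hmemT]
    intro q
    exact L.over_trivial hP ψ h q ((mem_PN P _).mp q.2)
  have hsub : 𝔅.biUnion (fun B => ov (dat B)) ⊆ Triv := by
    intro ψ hψ
    obtain ⟨B, hB, hψB⟩ := Finset.mem_biUnion.mp hψ
    exact hovT (dat B) ψ ((hmemov _ _).mp hψB)
  have hTle : Triv.card ≤ Nat.card (Cfsg.IrrCharacter D.H) := by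
    let F : {ψ // ψ ∈ Triv} → Cfsg.IrrCharacter D.H := fun ψ =>
      ⟨fun h => (ψ.1 : 𝐍 → ℂ) (Subgroup.inclusion hHN h),
        restrict_compl_irr (PN P) (Subgroup.inclusion hHN) hbij ψ.1.2 ((hmemT ψ.1).mp ψ.2)⟩
    have hF : Function.Injective F := by
      intro ψ ψ' h
      apply Subtype.ext; apply Subtype.ext
      apply restrict_compl_inj (PN P) (Subgroup.inclusion hHN) hbij.2
        (IsIrrCharacter.isCharacter ψ.1.2) (IsIrrCharacter.isCharacter ψ'.1.2)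
        ((hmemT ψ.1).mp ψ.2) ((hmemT ψ'.1).mp ψ'.2)
      intro x
      exact congrFun (congrArg Subtype.val h) x
    have h3 := Nat.card_le_card_of_injective F hF
    rw [Nat.card_eq_fintype_card, Fintype.card_coe] at h3
    exact h3
  have hle1 : ∑ B ∈ 𝔅, (dat B).e ≤ ∑ B ∈ 𝔅, (ov (dat B)).card :=
    Finset.sum_le_sum (fun B _ => h1 (dat B))
  have hle2 : (𝔅.biUnion (fun B => ov (dat B))).card ≤ Triv.card := Finset.card_le_card hsub
  have hU : 𝔅.biUnion (fun B => ov (dat B)) = Triv :=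
    Finset.eq_of_subset_of_card_le hsub (by omega)
  have hTcard : Triv.card = ∑ B ∈ 𝔅, (dat B).e := by omega
  -- Step D
  have hcover : ∀ ξ : Cfsg.IrrCharacter 𝐂, ∃ B ∈ 𝔅, ∃ n : 𝐍, act P n ξ ∈ (dat B).b := by
    intro ξ
    have hb : Cfsg.IsPBlock M (Cfsg.blockOf M (ξ : 𝐂 → ℂ)) := ⟨ξ, rfl⟩
    obtain ⟨θ, hθ, hθP⟩ := exists_theta P hP hM hb
    obtain ⟨ψ, hψ⟩ := exists_irr_over (CN P) ⟨toN P (θ : 𝐂 → ℂ), toN_irr P θ⟩
    have hψ' : Ovr P ψ θ := hψ
    have hψT : ψ ∈ Triv := hovT ⟨_, θ, hb, hθ, hθP⟩ ψ hψ'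
    rw [← hU] at hψT
    obtain ⟨B, hB, hψB⟩ := Finset.mem_biUnion.mp hψT
    obtain ⟨n, hn⟩ := ovr_conj P hψ' ((hmemov _ _).mp hψB)
    refine ⟨B, hB, n, ?_⟩
    rw [(dat B).b_eq hP hM, hn, ← act_image_blockOf, ← blockOf_eq_of_mem hM hθ]
    exact Set.mem_image_of_mem _ (sameBlock_refl hM _)
  -- Step E
  have hfinJ : ∀ L : Loc M P, Finite L.J := fun L => inferInstance
  obtain ⟨Φ, hΦ⟩ : ∃ Φ : (Σ B : {B // B ∈ 𝔅}, (dat B.1).J) → Cfsg.IrrCharacter 𝐍,
      Φ = fun s => ⟨Cfsg.indFun (CN P) (toN P (((dat s.1.1).rep s.2 : Cfsg.IrrCharacter 𝐂) : 𝐂 → ℂ)),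
        ind_irr P hP hM (dat s.1.1) ((dat s.1.1).rep_mem s.2)⟩ := ⟨_, rfl⟩
  have hΦov : ∀ s, Ovr P (Φ s) ((dat s.1.1).rep s.2) := by
    intro s
    rw [hΦ]
    exact ovr_ind P hP hM (dat s.1.1) ((dat s.1.1).rep_mem s.2)
  have hΦinj : Function.Injective Φ := by
    rintro ⟨⟨B, hB⟩, j⟩ ⟨⟨B', hB'⟩, j'⟩ heq
    have hs := hΦov ⟨⟨B, hB⟩, j⟩
    have hs' := hΦov ⟨⟨B', hB'⟩, j'⟩
    rw [← heq] at hs'
    simp only at hs hs'
    obtain ⟨n, hn⟩ := ovr_conj P hs hs'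
    have hbb : (dat B').b = act P n '' (dat B).b := by
      rw [Loc_b_eq_of_mem P hP hM (dat B') ((dat B').rep_mem j').1, hn, ← act_image_blockOf,
        ← Loc_b_eq_of_mem P hP hM (dat B) ((dat B).rep_mem j).1]
    have h2 := isInducedBlock_act_image P n (hdat' B hB)
    rw [← hbb] at h2
    have hBB : B = B' := IsInducedBlock.unique 𝐂 hM h2 (hdat' B' hB')
    subst hBB
    have hj : j' = j := ((dat B).rel_rep_iff j' j).mp ⟨n, hn.symm⟩
    subst hj
    rfl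
  have hΦrange : ∀ ψ : Cfsg.IrrCharacter 𝐍, ψ ∈ Set.range Φ ↔ ψ ∉ Triv := by
    intro ψ
    constructor
    · rintro ⟨⟨⟨B, hB⟩, j⟩, rfl⟩ hT
      have hs := hΦov ⟨⟨B, hB⟩, j⟩
      simp only at hs
      rw [← hU] at hT
      obtain ⟨B'', hB'', hψB⟩ := Finset.mem_biUnion.mp hT
      obtain ⟨n, hn⟩ := ovr_conj P ((hmemov _ _).mp hψB) hs
      have htriv := act_const_P P n (dat B'').hθP
      rw [← hn] at htriv
      have := theta_unique P hP hM (dat B).hb ((dat B).rep_mem j).1 (dat B).hθ htriv (dat B).hθP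
      exact ((dat B).rep_mem j).2 this
    · intro hT
      obtain ⟨ξ, hξ⟩ := exists_ovr P ψ
      obtain ⟨B, hB, n, hn⟩ := hcover ξ
      have hξ' : Ovr P ψ (act P n ξ) := ovr_act P hξ n
      have hne : act P n ξ ≠ (dat B).θ := by
        intro h
        rw [h] at hξ'
        exact hT (hovT (dat B) ψ hξ')
      have hstar : act P n ξ ∈ (dat B).star := ⟨hn, hne⟩
      obtain ⟨m, hm⟩ := ((dat B).rel_rep_mk hstar (Quotient.mk (dat B).rel ⟨act P n ξ, hstar⟩)).mpr rfl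
      have hrep : (dat B).rep (Quotient.mk (dat B).rel ⟨act P n ξ, hstar⟩) = act P m⁻¹ (act P n ξ) :=
        (act_eq_iff P m _ _).mp hm
      have hov3 : Ovr P ψ ((dat B).rep (Quotient.mk (dat B).rel ⟨act P n ξ, hstar⟩)) := by
        rw [hrep]
        exact ovr_act P hξ' m⁻¹
      refine ⟨⟨⟨B, hB⟩, Quotient.mk (dat B).rel ⟨act P n ξ, hstar⟩⟩, ?_⟩
      rw [hΦ]
      exact (eq_ind_of_ovr P hP hM (dat B) ((dat B).rep_mem _) hov3).symm
  have hNT : (Finset.univ.filter (fun ψ : Cfsg.IrrCharacter 𝐍 => ψ ∉ Triv)).card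
      = ∑ B ∈ 𝔅, Nat.card (dat B).J := by
    have e1 : Nat.card (Set.range Φ) = Nat.card (Σ B : {B // B ∈ 𝔅}, (dat B.1).J) :=
      Nat.card_range_of_injective hΦinj
    have e2 : Nat.card (Set.range Φ)
        = (Finset.univ.filter (fun ψ : Cfsg.IrrCharacter 𝐍 => ψ ∉ Triv)).card := by
      rw [Nat.card_eq_fintype_card, Fintype.card_subtype]
      congr 1
      ext ψ
      simp only [Finset.mem_filter, Finset.mem_univ, true_and]
      exact hΦrange ψ
    rw [← e2, e1, Nat.card_sigma]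
    exact Finset.sum_coe_sort 𝔅 (fun B => Nat.card (dat B).J)
  -- assembly
  have hBcard : ∀ B ∈ 𝔅, Nat.card B = (dat B).e + Nat.card (dat B).J := fun B hB =>
    card_eq P hP hM (dat B) (hplus B hB).1 (hplus B hB).2 (hdat' B hB)
  have hsplitN : Triv.card + (Finset.univ.filter (fun ψ : Cfsg.IrrCharacter 𝐍 => ψ ∉ Triv)).card
      = Fintype.card (Cfsg.IrrCharacter 𝐍) := by
    have := Finset.card_filter_add_card_filter_not (s := (Finset.univ : Finset (Cfsg.IrrCharacter 𝐍)))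
      (fun ψ => ψ ∈ Triv)
    rw [Finset.card_univ] at this
    rw [← this]
    congr 2
    ext ψ
    simp
  rw [Nat.card_eq_fintype_card, Fintype.card_subtype, ← hPs, hA,
    Finset.sum_congr rfl hBcard, Finset.sum_add_distrib, ← hTcard, ← hNT, hsplitN,
    Nat.card_eq_fintype_card]

end Cfsg.Agent.Lib.Helper6.McD
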