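import Mathlib
import Cfsg.Prelude
import Cfsg.Agent.Lib.Helper2.OMMDefs
import Cfsg.Agent.Lib.Helper3.OMMOrbGen
import Cfsg.Agent.Lib.Helper5.OMMOrbit
import Cfsg.Agent.Lib.Helper7.OMMNorm

set_option autoImplicit false
set_option linter.unusedSectionVars false
set_option linter.unusedVariables false
open Cfsg

/-!
Farm OMM (statement S2346), unit B4, generic part: the multiplicities `mP ρ z'` of the characters of
`U'` in the fixed points of `U` are invariant under the elements normalising both `U` and `U'`.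
-/

namespace Cfsg.Agent.Lib.Helper6.OMMB4

open Matrix QuadraticMap Cfsg.Agent.Lib.Helper5.CartanDieudonne Cfsg.Agent.Lib.Helper5.Refl
  Cfsg.Agent.Lib.Helper5.OrthCard Cfsg.Agent.Lib.Helper5.Siegel Cfsg.Agent.Lib.Helper5.QuadIsom
  Cfsg.Agent.Lib.Helper5.ReflGen Cfsg.Agent.Lib.Helper5.Eichler Cfsg.Agent.Lib.Helper5.SingGeom
  Cfsg.Agent.Lib.Helper5.OmegaGen Cfsg.Agent.Lib.Helper5.OmegaSimple Cfsg.Agent.Lib.Helper1.OMMG
  Cfsg.Agent.Lib.Helper1.OMMI Cfsg.Agent.Lib.Helper2.OMM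

variable {F : Type*} [Field F] [Fintype F] [DecidableEq F]
variable {κ : Type} [Fintype κ] [DecidableEq κ] {Qc : QuadraticForm F (κ → F)}
variable (ψ : AddChar F ℂ) (hψ : ∃ c, ψ c ≠ 1) (hnd : (polarBilin Qc).Nondegenerate)
  (H : Hyp (Q3 Qc))
variable {V : Type*} [AddCommGroup V] [Module ℂ V]

/-- a map preserving a nondegenerate polar form is injective -/
theorem injective_of_polar {ι : Type} [Fintype ι] [DecidableEq ι] (Q : QuadraticForm F (ι → F))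
    (hQ : (polarBilin Q).Nondegenerate) (L : (ι → F) → (ι → F))
    (hL : ∀ w a, polar Q (L w) (L a) = polar Q w a) : Function.Injective L := by
  intro w w' h
  have h1 : ∀ a, polar Q (w - w') a = 0 := by
    intro a
    rw [polar_sub_left, ← hL w a, ← hL w' a, h, sub_self]
  have h2 := hQ.1 (w - w') (fun a => by rw [polarBilin_apply_apply]; exact h1 a)
  exact sub_eq_zero.mp h2

/-- an element normalising `U` commutes with the projector onto the fixed points of `U` -/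
theorem eI0_comm (ρ : Representation ℂ (GG Qc) V) (g : GG Qc) (L : (K2 κ → F) → (K2 κ → F))
    (hL : ∀ x, g * uE H x * g⁻¹ = uE H (L x)) :
    ρ g * (DU ψ hψ hnd H).eI ρ 0 = (DU ψ hψ hnd H).eI ρ 0 * ρ g := by
  have hL' : ∀ a, g * (DU ψ hψ hnd H).u a * g⁻¹ = (DU ψ hψ hnd H).u (L a) := hL
  refine (DU ψ hψ hnd H).conj_eI ρ g L hL'
    ((DU ψ hψ hnd H).bijective_of_conj (uE_injective H) g L hL') 0 0 ?_
  intro a
  rw [DU_lam, DU_lam, polar_zero_left, polar_zero_left]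

/-- an element normalising `U'` permutes the projectors of `U'` -/
theorem eP_conj (ρ : Representation ℂ (GG Qc) V) (g : GG Qc) (L' : (K1 κ → F) → (K1 κ → F))
    (hL' : ∀ z, g * uP H z * g⁻¹ = uP H (L' z))
    (hiso : ∀ w a, polar (Q1 Qc) (L' w) (L' a) = polar (Q1 Qc) w a) (z' : K1 κ → F) :
    ρ g * (DP ψ hψ hnd H).eI ρ z' = (DP ψ hψ hnd H).eI ρ (L' z') * ρ g := by
  have h1 : ∀ a, g * (DP ψ hψ hnd H).u a * g⁻¹ = (DP ψ hψ hnd H).u (L' a) := hL'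
  have hinj := injective_of_polar (Q1 Qc) (nd1 Qc hnd) L' hiso
  refine (DP ψ hψ hnd H).conj_eI ρ g L' h1 (Finite.injective_iff_bijective.mp hinj) z' (L' z') ?_
  intro a
  rw [DP_lam, DP_lam, hiso]

/-- `mP` is invariant under the elements normalising `U` and `U'` -/
theorem mP_conj (ρ : Representation ℂ (GG Qc) V) (g : GG Qc) (L : (K2 κ → F) → (K2 κ → F))
    (hL : ∀ x, g * uE H x * g⁻¹ = uE H (L x)) (L' : (K1 κ → F) → (K1 κ → F))
    (hL' : ∀ z, g * uP H z * g⁻¹ = uP H (L' z))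
    (hiso : ∀ w a, polar (Q1 Qc) (L' w) (L' a) = polar (Q1 Qc) w a) (z' : K1 κ → F) :
    mP ψ hψ hnd H ρ (L' z') = mP ψ hψ hnd H ρ z' := by
  have h1 := eI0_comm ψ hψ hnd H ρ g L hL
  have h2 := eP_conj ψ hψ hnd H ρ g L' hL' hiso z'
  have h3 : (DP ψ hψ hnd H).eI ρ (L' z') = ρ g * (DP ψ hψ hnd H).eI ρ z' * ρ g⁻¹ := by
    rw [h2, mul_assoc, ← map_mul, mul_inv_cancel, map_one, mul_one]
  unfold mP
  rw [h3, ← mul_assoc, ← mul_assoc, ← h1, mul_assoc (ρ g), LinearMap.trace_mul_comm, ← mul_assoc,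
    ← mul_assoc, ← map_mul, inv_mul_cancel, map_one, one_mul]


/-! ### the three families of elements normalising `U` and `U'` -/

/-- invariance of `mP` under the Eichler maps `E_{p,y}` of `W'` (any singular `p`, `y ⊥ p`) -/
theorem mP_eichler (ρ : Representation ℂ (GG Qc) V) (p y : K1 κ → F) (hp : Q1 Qc p = 0)
    (hpy : polar ⇑(Q1 Qc) p y = 0) (z' : K1 κ → F) :
    mP ψ hψ hnd H ρ (eichlerMap (Q1 Qc) p y z') = mP ψ hψ hnd H ρ z' := by
  have hp2 : Q2 Qc (ext0 p) = 0 := Cfsg.Agent.Lib.Helper7.OMM.ext0_sing (Q1 Qc) hp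
  have hpy2 : polar ⇑(Q2 Qc) (ext0 p) (ext0 y) = 0 :=
    Cfsg.Agent.Lib.Helper7.OMM.ext0_perp (Q1 Qc) hpy
  have hp3 : Q3 Qc (em2 p) = 0 := Cfsg.Agent.Lib.Helper7.OMM.ext0_sing (Q2 Qc) hp2
  have hpy3 : polar ⇑(Q3 Qc) (em2 p) (em2 y) = 0 :=
    Cfsg.Agent.Lib.Helper7.OMM.ext0_perp (Q2 Qc) hpy2
  exact mP_conj ψ hψ hnd H ρ (eO H (em2 p) (em2 y) hp3 hpy3)
    (eichlerMap (Q2 Qc) (ext0 p) (ext0 y))
    (fun x => Cfsg.Agent.Lib.Helper7.OMM.conj_uE_eO H (ext0 p) (ext0 y) hp3 hpy3 x)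
    (eichlerMap (Q1 Qc) p y)
    (fun z => Cfsg.Agent.Lib.Helper7.OMM.conj_uP_eO H p y hp3 hpy3 z)
    (fun w a => Cfsg.Agent.Lib.Helper7.OMM.polar_eichlerMap (Q1 Qc) p y hp hpy w a) z'

/-- the torus of the pair `(e₃, f₃)` on `W'` -/
def torP (d : F) (z : K1 κ → F) : K1 κ → F :=
  z + ((d⁻¹ - 1) * z (Sum.inl 0)) • eH F κ + ((d - 1) * z (Sum.inl 1)) • fH F κ

theorem torP_inl0 (d : F) (z : K1 κ → F) : torP d z (Sum.inl 0) = d⁻¹ * z (Sum.inl 0) := by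
  simp [torP, eH, fH]
  ring

theorem torP_inl1 (d : F) (z : K1 κ → F) : torP d z (Sum.inl 1) = d * z (Sum.inl 1) := by
  simp [torP, eH, fH]
  ring

theorem torP_inr (d : F) (z : K1 κ → F) (k : κ) : torP d z (Sum.inr k) = z (Sum.inr k) := by
  simp [torP, eH, fH]

theorem polar_torP (d : F) (hd : d ≠ 0) (w a : K1 κ → F) :
    polar ⇑(Q1 Qc) (torP d w) (torP d a) = polar ⇑(Q1 Qc) w a := by
  rw [polar_hypExt, polar_hypExt, torP_inl0, torP_inl1, torP_inl0, torP_inl1]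
  have h1 : (fun k => torP d w (Sum.inr k)) = fun k => w (Sum.inr k) :=
    funext fun k => torP_inr d w k
  have h2 : (fun k => torP d a (Sum.inr k)) = fun k => a (Sum.inr k) :=
    funext fun k => torP_inr d a k
  rw [h1, h2]
  field_simp

theorem torP_plane (d : F) (x y : F) :
    torP d (x • eH F κ + y • fH F κ) = (d⁻¹ * x) • eH F κ + (d * y) • fH F κ := by
  funext i
  rcases i with i | k
  · fin_cases i
    · show torP d _ (Sum.inl 0) = _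
      rw [torP_inl0]
      simp [eH, fH]
    · show torP d _ (Sum.inl 1) = _
      rw [torP_inl1]
      simp [eH, fH]
  · rw [torP_inr]
    simp [eH, fH]

/-- invariance of `mP` under the torus of the pair `(e₃, f₃)` -/
theorem mP_torus (ρ : Representation ℂ (GG Qc) V) (d : F) (hd : d ≠ 0) (z' : K1 κ → F) :
    mP ψ hψ hnd H ρ (torP d z') = mP ψ hψ hnd H ρ z' := by
  have he : Q2 Qc (ext0 (eH F κ)) = 0 :=
    Cfsg.Agent.Lib.Helper7.OMM.ext0_sing (Q1 Qc) (hypExt_eH Qc)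
  have hf : Q2 Qc (ext0 (fH F κ)) = 0 :=
    Cfsg.Agent.Lib.Helper7.OMM.ext0_sing (Q1 Qc) (hypExt_fH Qc)
  have hef : polar ⇑(Q2 Qc) (ext0 (eH F κ)) (ext0 (fH F κ)) = 1 := by
    rw [Cfsg.Agent.Lib.Helper5.OMMLevi.polar_ext0_ext0,
      Cfsg.Agent.Lib.Helper5.OMMLevi.polar_eH_fH]
  obtain ⟨g, hgΩ, hge, hgf, hgx⟩ := Cfsg.Agent.Lib.Helper5.OMMOrbit.torus_elt (Q2 Qc) H
    (nd2 Qc hnd) (ext0 (eH F κ)) (ext0 (fH F κ)) he hf hef d hd
  have hact2 : ∀ z : K1 κ → F, act (Q3 Qc) g (em2 z) = em2 (torP d z) := by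
    intro z
    show act (hypExt (Q2 Qc)) g (ext0 (ext0 z)) = _
    rw [hgx (ext0 z), Cfsg.Agent.Lib.Helper5.OMMLevi.polar_ext0_ext0,
      Cfsg.Agent.Lib.Helper5.OMMLevi.polar_ext0_ext0, polar_fH, polar_eH]
    show ext0 (ext0 z + ((d⁻¹ - 1) * z (Sum.inl 0)) • ext0 (eH F κ) +
      ((d - 1) * z (Sum.inl 1)) • ext0 (fH F κ)) = ext0 (ext0 (torP d z))
    rw [← Cfsg.Agent.Lib.Helper5.OMMLevi.ext0_smul, ← Cfsg.Agent.Lib.Helper5.OMMLevi.ext0_smul,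
      ← Cfsg.Agent.Lib.Helper5.OMMLevi.ext0_add, ← Cfsg.Agent.Lib.Helper5.OMMLevi.ext0_add]
    rfl
  have hact1 : act (Q3 Qc) g (e2 F κ) = e2 F κ := by
    show act (hypExt (Q2 Qc)) g (ext0 (eH F (K1 κ))) = _
    rw [hgx (eH F (K1 κ))]
    have h1 : polar ⇑(Q2 Qc) (ext0 (fH F κ)) (eH F (K1 κ)) = 0 := by
      rw [polar_comm]; exact Cfsg.Agent.Lib.Helper5.OMMLevi.polar_eH_ext0 (Q1 Qc) _
    have h2 : polar ⇑(Q2 Qc) (ext0 (eH F κ)) (eH F (K1 κ)) = 0 := by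
      rw [polar_comm]; exact Cfsg.Agent.Lib.Helper5.OMMLevi.polar_eH_ext0 (Q1 Qc) _
    rw [h1, h2, mul_zero, mul_zero, zero_smul, zero_smul, add_zero, add_zero]
  exact mP_conj ψ hψ hnd H ρ ⟨g, hgΩ⟩
    (fun x => d⁻¹ • kp (act (Q3 Qc) g (ext0 x)))
    (fun x => conj_uE (Qκ := Q2 Qc) H ⟨g, hgΩ⟩ d⁻¹ hge x)
    (torP d)
    (fun z => Cfsg.Agent.Lib.Helper7.OMM.conj_eO (Q3 Qc) H ⟨g, hgΩ⟩ (e2 F κ) (em2 z) (Q3_e2 Qc)
      (polar_e2_em2 Qc z) (e2 F κ) (em2 (torP d z)) hact1 (hact2 z) (Q3_e2 Qc)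
      (polar_e2_em2 Qc (torP d z)))
    (fun w a => polar_torP d hd w a) z'

/-- **Unit B4.** `mP` is constant on the non-zero vectors of each level set of `W'` -/
theorem mP_level (ρ : Representation ℂ (GG Qc) V) (hb : ∃ b, Qc b ≠ 0) (z z' : K1 κ → F)
    (hz : z ≠ 0) (hz' : z' ≠ 0) (h : Q1 Qc z = Q1 Qc z') :
    mP ψ hψ hnd H ρ z = mP ψ hψ hnd H ρ z' := by
  have horb := Cfsg.Agent.Lib.Helper3.OMMOrbGen.orb_gen Qc hnd hb (mP ψ hψ hnd H ρ)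
    (fun b w => mP_eichler ψ hψ hnd H ρ (eH F κ) (ext0 b) (hypExt_eH Qc)
      (Cfsg.Agent.Lib.Helper5.OMMLevi.polar_eH_ext0 Qc b) w)
    (fun b w => mP_eichler ψ hψ hnd H ρ (fH F κ) (ext0 b) (hypExt_fH Qc)
      (Cfsg.Agent.Lib.Helper5.OMMLevi.polar_fH_ext0 Qc b) w)
    (fun δ hδ x y => by
      have h1 := mP_torus ψ hψ hnd H ρ δ⁻¹ (inv_ne_zero hδ) (x • eH F κ + y • fH F κ)
      rw [torP_plane, inv_inv] at h1
      exact h1)
  rw [horb z hz, horb z' hz', h]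

end Cfsg.Agent.Lib.Helper6.OMMB4
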