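import Mathlib
import Cfsg.Agent.Lib.Helper5.OrthCard

set_option autoImplicit false
set_option linter.unusedSectionVars false

/-!
Farm OMM (S2346), counting layer in coordinates: level sets of `hypExt Q`, the character sum of a
level set against the singular vector `eH`, and the number of vectors of a level set of
`hypExt (hypExt Q)` orthogonal to the two standard singular vectors.  No closed forms are needed:
`S_c - Fix_c = - q ^ (card κ + 1)` for every quadratic form `Q` on `κ → F` and every value `c`.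
-/

namespace Cfsg.Agent.Lib.Helper6.OMMCount

open Cfsg.Agent.Lib.Helper5.OrthCard QuadraticMap

variable {F : Type*} [Field F] [Fintype F] [DecidableEq F] {κ : Type} [Fintype κ] [DecidableEq κ]
  (Qκ : QuadraticForm F (κ → F))

/-- the coordinates of `Fin 2 ⊕ κ → F` -/
def coordEquiv (F : Type*) (κ : Type) : (Fin 2 ⊕ κ → F) ≃ F × F × (κ → F) where
  toFun v := (v (Sum.inl 0), v (Sum.inl 1), fun k => v (Sum.inr k))
  invFun p := Sum.elim ![p.1, p.2.1] p.2.2
  left_inv v := by
    funext i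
    rcases i with i | k
    · fin_cases i <;> simp
    · simp
  right_inv p := by
    rcases p with ⟨a, b, w⟩
    simp

theorem sum_coord {M : Type*} [AddCommMonoid M] (G : F → F → (κ → F) → M) :
    ∑ v : Fin 2 ⊕ κ → F, G (v (Sum.inl 0)) (v (Sum.inl 1)) (fun k => v (Sum.inr k)) =
      ∑ w : κ → F, ∑ b : F, ∑ a : F, G a b w := by
  rw [← Equiv.sum_comp (coordEquiv F κ).symm
    (fun v : Fin 2 ⊕ κ → F => G (v (Sum.inl 0)) (v (Sum.inl 1)) (fun k => v (Sum.inr k)))]
  rw [Fintype.sum_prod_type]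
  simp_rw [Fintype.sum_prod_type]
  have h : ∀ (a b : F) (w : κ → F),
      G ((coordEquiv F κ).symm (a, b, w) (Sum.inl 0)) ((coordEquiv F κ).symm (a, b, w) (Sum.inl 1))
        (fun k => (coordEquiv F κ).symm (a, b, w) (Sum.inr k)) = G a b w := by
    intro a b w
    simp [coordEquiv]
  simp_rw [h]
  calc ∑ a : F, ∑ b : F, ∑ w : κ → F, G a b w
      = ∑ b : F, ∑ a : F, ∑ w : κ → F, G a b w := Finset.sum_comm
    _ = ∑ b : F, ∑ w : κ → F, ∑ a : F, G a b w :=
        Finset.sum_congr rfl (fun b _ => Finset.sum_comm)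
    _ = ∑ w : κ → F, ∑ b : F, ∑ a : F, G a b w := Finset.sum_comm

theorem count_a (b t c : F) :
    ∑ a : F, (if a * b + t = c then (1 : ℂ) else 0) =
      if b = 0 then (if t = c then (Fintype.card F : ℂ) else 0) else 1 := by
  by_cases hb : b = 0
  · subst hb
    rw [if_pos rfl]
    simp only [mul_zero, zero_add]
    by_cases ht : t = c
    · simp [ht]
    · simp [ht]
  · rw [if_neg hb]
    have : ∀ a : F, (a * b + t = c) ↔ a = (c - t) / b := by
      intro a
      constructor
      · intro h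
        field_simp
        linear_combination h
      · intro h
        subst h
        field_simp
        ring
    simp only [this]
    rw [Finset.sum_ite_eq' Finset.univ ((c - t) / b) (fun _ => (1 : ℂ))]
    simp

/-- the general weighted sum over a level set of `hypExt Q`: weight `φ` on the `fH`-coordinate
`v (inl 1) = polar eH v`, weight `g` on the `κ`-part -/
theorem sum_weight_hypExt (φ : F → ℂ) (g : (κ → F) → ℂ) (c : F) :
    ∑ v : Fin 2 ⊕ κ → F,
        (if hypExt Qκ v = c then φ (v (Sum.inl 1)) * g (fun k => v (Sum.inr k)) else 0) =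
      ∑ w : κ → F, g w * ((Fintype.card F : ℂ) * φ 0 * (if Qκ w = c then 1 else 0) +
        ∑ b ∈ Finset.univ.erase (0 : F), φ b) := by
  have h1 : ∀ v : Fin 2 ⊕ κ → F,
      (if hypExt Qκ v = c then φ (v (Sum.inl 1)) * g (fun k => v (Sum.inr k)) else 0) =
      (fun (a b : F) (w : κ → F) => if a * b + Qκ w = c then φ b * g w else 0)
        (v (Sum.inl 0)) (v (Sum.inl 1)) (fun k => v (Sum.inr k)) := by
    intro v
    rw [hypExt_apply]
  rw [Finset.sum_congr rfl (fun v _ => h1 v),
    sum_coord (fun (a b : F) (w : κ → F) => if a * b + Qκ w = c then φ b * g w else 0)]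
  apply Finset.sum_congr rfl
  intro w _
  have h2 : ∀ b : F, ∑ a : F, (if a * b + Qκ w = c then φ b * g w else 0) =
      φ b * g w * (if b = 0 then (if Qκ w = c then (Fintype.card F : ℂ) else 0) else 1) := by
    intro b
    rw [← count_a b (Qκ w) c, Finset.mul_sum]
    apply Finset.sum_congr rfl
    intro a _
    split_ifs <;> simp
  simp_rw [h2]
  rw [← Finset.add_sum_erase Finset.univ _ (Finset.mem_univ (0 : F))]
  rw [if_pos rfl]
  have h3 : ∀ b ∈ Finset.univ.erase (0 : F),
      φ b * g w * (if b = 0 then (if Qκ w = c then (Fintype.card F : ℂ) else 0) else 1) =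
        g w * φ b := by
    intro b hb
    rw [if_neg (Finset.ne_of_mem_erase hb)]
    ring
  rw [Finset.sum_congr rfl h3, ← Finset.mul_sum]
  split_ifs <;> ring

/-- the number of vectors of the level set `Q = c`, as a complex number -/
noncomputable def NC (c : F) : ℂ := ∑ w : κ → F, if Qκ w = c then (1 : ℂ) else 0

theorem sum_erase_one : ∑ _b ∈ Finset.univ.erase (0 : F), (1 : ℂ) = (Fintype.card F : ℂ) - 1 := by
  rw [Finset.sum_const, Finset.card_erase_of_mem (Finset.mem_univ _), Finset.card_univ]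
  have : 1 ≤ Fintype.card F := Fintype.card_pos
  rw [nsmul_eq_mul, mul_one, Nat.cast_sub this, Nat.cast_one]

theorem sum_erase_psi (ψ : AddChar F ℂ) (hψ : ψ ≠ 1) :
    ∑ b ∈ Finset.univ.erase (0 : F), ψ b = -1 := by
  have h := AddChar.sum_eq_zero_of_ne_one hψ
  rw [← Finset.add_sum_erase Finset.univ _ (Finset.mem_univ (0 : F)), AddChar.map_zero_eq_one] at h
  linear_combination h

/-- the level sets of `hypExt Q` -/
theorem NC_hypExt (c : F) :
    NC (hypExt Qκ) c = (Fintype.card F : ℂ) * NC Qκ c +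
      ((Fintype.card F : ℂ) - 1) * (Fintype.card F : ℂ) ^ Fintype.card κ := by
  have h := sum_weight_hypExt Qκ (fun _ => 1) (fun _ => 1) c
  simp only [mul_one, one_mul] at h
  unfold NC
  rw [h, sum_erase_one, Finset.sum_add_distrib, ← Finset.mul_sum, Finset.sum_const,
    Finset.card_univ, Fintype.card_fun, nsmul_eq_mul, Nat.cast_pow]
  ring

/-- the character sum of a level set of `hypExt Q` against the singular vector `eH` -/
theorem sum_psi_hypExt (ψ : AddChar F ℂ) (hψ : ψ ≠ 1) (c : F) :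
    ∑ v : Fin 2 ⊕ κ → F, (if hypExt Qκ v = c then ψ (v (Sum.inl 1)) else 0) =
      (Fintype.card F : ℂ) * NC Qκ c - (Fintype.card F : ℂ) ^ Fintype.card κ := by
  have h := sum_weight_hypExt Qκ (fun b => ψ b) (fun _ => 1) c
  simp only [mul_one, one_mul] at h
  unfold NC
  rw [h, sum_erase_psi ψ hψ, AddChar.map_zero_eq_one, Finset.sum_add_distrib, ← Finset.mul_sum,
    Finset.sum_const, Finset.card_univ, Fintype.card_fun, nsmul_eq_mul, Nat.cast_pow]
  ring

/-- the vectors of a level set of `hypExt Q` orthogonal to `eH` -/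
theorem sum_perp_hypExt (g : (κ → F) → ℂ) (c : F) :
    ∑ v : Fin 2 ⊕ κ → F,
        (if hypExt Qκ v = c then (if v (Sum.inl 1) = 0 then 1 else 0) * g (fun k => v (Sum.inr k))
          else 0) =
      (Fintype.card F : ℂ) * ∑ w : κ → F, (if Qκ w = c then g w else 0) := by
  have h := sum_weight_hypExt Qκ (fun b => if b = 0 then 1 else 0) g c
  rw [h, Finset.mul_sum]
  apply Finset.sum_congr rfl
  intro w _
  have h0 : ∑ b ∈ Finset.univ.erase (0 : F), (if b = 0 then (1 : ℂ) else 0) = 0 := by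
    apply Finset.sum_eq_zero
    intro b hb
    rw [if_neg (Finset.ne_of_mem_erase hb)]
  rw [h0, if_pos rfl]
  split_ifs <;> ring

/-- the number of vectors of the level set `c` of `hypExt (hypExt Q)` orthogonal to the two
standard singular vectors -/
theorem sum_fix_hypExt2 (c : F) :
    ∑ v : Fin 2 ⊕ (Fin 2 ⊕ κ) → F,
        (if hypExt (hypExt Qκ) v = c ∧ v (Sum.inl 1) = 0 ∧ v (Sum.inr (Sum.inl 1)) = 0
          then (1 : ℂ) else 0) =
      (Fintype.card F : ℂ) ^ 2 * NC Qκ c := by
  have h := sum_perp_hypExt (hypExt Qκ)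
    (fun w' : Fin 2 ⊕ κ → F => if w' (Sum.inl 1) = 0 then (1 : ℂ) else 0) c
  have h' := sum_perp_hypExt Qκ (fun _ => (1 : ℂ)) c
  have e1 : ∀ v : Fin 2 ⊕ (Fin 2 ⊕ κ) → F,
      (if hypExt (hypExt Qκ) v = c ∧ v (Sum.inl 1) = 0 ∧ v (Sum.inr (Sum.inl 1)) = 0
          then (1 : ℂ) else 0) =
      (if hypExt (hypExt Qκ) v = c then (if v (Sum.inl 1) = 0 then 1 else 0) *
        (fun w' : Fin 2 ⊕ κ → F => if w' (Sum.inl 1) = 0 then (1 : ℂ) else 0)
          (fun k => v (Sum.inr k)) else 0) := by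
    intro v
    by_cases h1 : hypExt (hypExt Qκ) v = c <;> by_cases h2 : v (Sum.inl 1) = 0 <;>
      by_cases h3 : v (Sum.inr (Sum.inl 1)) = 0 <;> simp [h1, h2, h3]
  rw [Finset.sum_congr rfl (fun v _ => e1 v), h]
  have e2 : ∀ w' : Fin 2 ⊕ κ → F,
      (if hypExt Qκ w' = c then (if w' (Sum.inl 1) = 0 then (1 : ℂ) else 0) else 0) =
      (if hypExt Qκ w' = c then (if w' (Sum.inl 1) = 0 then 1 else 0) *
        (fun _ : κ → F => (1 : ℂ)) (fun k => w' (Sum.inr k)) else 0) := by
    intro w'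
    simp
  rw [Finset.sum_congr rfl (fun w' _ => e2 w'), h']
  unfold NC
  ring

/-- the key identity of step (5): `S_c - Fix_c = - q ^ (card κ + 1)` -/
theorem sum_psi_sub_fix (ψ : AddChar F ℂ) (hψ : ψ ≠ 1) (c : F) :
    ∑ v : Fin 2 ⊕ (Fin 2 ⊕ κ) → F,
        (if hypExt (hypExt Qκ) v = c then ψ (v (Sum.inl 1)) else 0) -
      ∑ v : Fin 2 ⊕ (Fin 2 ⊕ κ) → F,
        (if hypExt (hypExt Qκ) v = c ∧ v (Sum.inl 1) = 0 ∧ v (Sum.inr (Sum.inl 1)) = 0
          then (1 : ℂ) else 0) =
      - (Fintype.card F : ℂ) ^ (Fintype.card κ + 1) := by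
  rw [sum_psi_hypExt (hypExt Qκ) ψ hψ c, sum_fix_hypExt2, NC_hypExt]
  simp only [Fintype.card_sum, Fintype.card_fin]
  ring

end Cfsg.Agent.Lib.Helper6.OMMCount
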