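import Mathlib
import Cfsg.Prelude
import Cfsg.Agent.Lib.Helper2.OMMDefs
import Cfsg.Agent.Lib.Helper6.OMMCount

set_option autoImplicit false
set_option linter.unusedSectionVars false
set_option linter.unusedVariables false
open Cfsg

/-!
Farm OMM (statement S2346), unit CASEA, core: in a multiplicity-one configuration on a level set,
the characters of `U'` occurring in the fixed points of `U` cannot all be trivial.  The inputs from
the other units (TTRACE, TCONJ, L2) are explicit hypotheses here.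
-/

namespace Cfsg.Agent.Lib.Helper6.OMMCaseA

open Matrix QuadraticMap Cfsg.Agent.Lib.Helper5.CartanDieudonne Cfsg.Agent.Lib.Helper5.Refl
  Cfsg.Agent.Lib.Helper5.OrthCard Cfsg.Agent.Lib.Helper5.Siegel Cfsg.Agent.Lib.Helper5.QuadIsom
  Cfsg.Agent.Lib.Helper5.ReflGen Cfsg.Agent.Lib.Helper5.Eichler Cfsg.Agent.Lib.Helper5.SingGeom
  Cfsg.Agent.Lib.Helper5.OmegaGen Cfsg.Agent.Lib.Helper5.OmegaSimple Cfsg.Agent.Lib.Helper1.OMMG
  Cfsg.Agent.Lib.Helper1.OMMI Cfsg.Agent.Lib.Helper2.OMM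

variable {F : Type*} [Field F] [Fintype F] [DecidableEq F]
variable {κ : Type} [Fintype κ] [DecidableEq κ] {Qc : QuadraticForm F (κ → F)}
variable (ψ : AddChar F ℂ) (hψ : ∃ c, ψ c ≠ 1) (hnd : (polarBilin Qc).Nondegenerate)
  (H : Hyp (Q3 Qc))
variable {V : Type*} [AddCommGroup V] [Module ℂ V]

theorem sum_split0 {ι : Type} [Fintype ι] [DecidableEq ι] (f : (ι → F) → ℂ) :
    ∑ w : ι → F, f w = f 0 + ∑ w ∈ Finset.univ.erase (0 : ι → F), f w :=
  (Finset.add_sum_erase Finset.univ f (Finset.mem_univ 0)).symm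

/-- the two sums of `sum_psi_sub_fix`, with the zero vector removed, still differ -/
theorem sum_psi_ne_fix (hψ' : ∃ x, ψ x ≠ 1) (c : F) :
    ∑ w ∈ Finset.univ.erase (0 : K2 κ → F),
        (if Q2 Qc w = c then ψ (w (Sum.inl 1)) else 0) ≠
      ∑ w ∈ Finset.univ.erase (0 : K2 κ → F),
        (if Q2 Qc w = c ∧ w (Sum.inl 1) = 0 ∧ w (Sum.inr (Sum.inl 1)) = 0 then (1 : ℂ) else 0) := by
  intro heq
  have hψ1 : ψ ≠ 1 := by
    obtain ⟨x, hx⟩ := hψ'
    intro h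
    apply hx
    rw [h]
    rfl
  have h := Cfsg.Agent.Lib.Helper6.OMMCount.sum_psi_sub_fix Qc ψ hψ1 c
  rw [sum_split0 (fun v : K2 κ → F => if hypExt (hypExt Qc) v = c then ψ (v (Sum.inl 1)) else 0),
    sum_split0 (fun v : K2 κ → F =>
      if hypExt (hypExt Qc) v = c ∧ v (Sum.inl 1) = 0 ∧ v (Sum.inr (Sum.inl 1)) = 0
        then (1 : ℂ) else 0)] at h
  have h0 : (if hypExt (hypExt Qc) (0 : K2 κ → F) = c then ψ ((0 : K2 κ → F) (Sum.inl 1)) else 0) =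
      (if hypExt (hypExt Qc) (0 : K2 κ → F) = c ∧ (0 : K2 κ → F) (Sum.inl 1) = 0 ∧
        (0 : K2 κ → F) (Sum.inr (Sum.inl 1)) = 0 then (1 : ℂ) else 0) := by
    by_cases hc : hypExt (hypExt Qc) (0 : K2 κ → F) = c
    · rw [if_pos hc, if_pos ⟨hc, rfl, rfl⟩]
      show ψ 0 = 1
      exact AddChar.map_zero_eq_one ψ
    · rw [if_neg hc, if_neg (fun hh => hc hh.1)]
  have heq' : ∑ w ∈ Finset.univ.erase (0 : K2 κ → F),
        (if hypExt (hypExt Qc) w = c then ψ (w (Sum.inl 1)) else 0) =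
      ∑ w ∈ Finset.univ.erase (0 : K2 κ → F),
        (if hypExt (hypExt Qc) w = c ∧ w (Sum.inl 1) = 0 ∧ w (Sum.inr (Sum.inl 1)) = 0
          then (1 : ℂ) else 0) := heq
  rw [h0, heq', sub_self] at h
  have hq : (Fintype.card F : ℂ) ^ (Fintype.card κ + 1) ≠ 0 := by
    apply pow_ne_zero
    exact_mod_cast Fintype.card_ne_zero
  apply hq
  have := congrArg Neg.neg h
  rw [neg_neg, neg_zero] at this
  exact this.symm

/-- Case A, with the inputs of TTRACE (`hT`), TCONJ (`hconj`) and L2 (`htr`, `hsum`) as hypotheses -/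
theorem caseA_core (ρ : Representation ℂ (GG Qc) V) (c : F) (hL : LevelOne ψ hψ hnd H ρ c)
    (hT : ρ.character (tE H) = LinearMap.trace ℂ V (ρ (tE H) * (DU ψ hψ hnd H).eI ρ 0) +
      ∑ w : K2 κ → F, (if w ≠ 0 ∧ Q2 Qc w = c ∧ w (Sum.inl 1) = 0 ∧ w (Sum.inr (Sum.inl 1)) = 0
        then (1 : ℂ) else 0))
    (hconj : ∃ g : GG Qc, g * tE H * g⁻¹ = uE H (eH F (K1 κ)))
    (htr : LinearMap.trace ℂ V (ρ (uP H (eH F κ)) * (DU ψ hψ hnd H).eI ρ 0) =
      ∑ z' : K1 κ → F, ψ (polar (Q1 Qc) z' (eH F κ)) * mP ψ hψ hnd H ρ z')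
    (hsum : ∑ z' : K1 κ → F, mP ψ hψ hnd H ρ z' = mU ψ hψ hnd H ρ 0)
    (hA : ∀ z' : K1 κ → F, z' ≠ 0 → mP ψ hψ hnd H ρ z' = 0) : False := by
  -- the partial trace of `tE` on the fixed points of `U`
  have h1 : LinearMap.trace ℂ V (ρ (tE H) * (DU ψ hψ hnd H).eI ρ 0) = mU ψ hψ hnd H ρ 0 := by
    show LinearMap.trace ℂ V (ρ (uP H (eH F κ)) * (DU ψ hψ hnd H).eI ρ 0) = _
    rw [htr, ← hsum,
      Finset.sum_eq_single (0 : K1 κ → F) (fun z' _ hz' => by rw [hA z' hz', mul_zero])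
        (fun h => absurd (Finset.mem_univ _) h),
      Finset.sum_eq_single (0 : K1 κ → F) (fun z' _ hz' => hA z' hz')
        (fun h => absurd (Finset.mem_univ _) h),
      polar_zero_left, AddChar.map_zero_eq_one, one_mul]
  -- the character of `tE` through the conjugate `uE e₂`
  have h2 : ρ.character (tE H) = ρ.character (uE H (eH F (K1 κ))) := by
    obtain ⟨g, hg⟩ := hconj
    rw [← hg, Representation.char_conj]
  have h3 : ρ.character (uE H (eH F (K1 κ))) =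
      ∑ w : K2 κ → F, ψ (polar (Q2 Qc) w (eH F (K1 κ))) * mU ψ hψ hnd H ρ w :=
    character_uE ψ hψ (nd2 Qc hnd) H ρ (eH F (K1 κ))
  have h4 : ∑ w : K2 κ → F, ψ (polar (Q2 Qc) w (eH F (K1 κ))) * mU ψ hψ hnd H ρ w =
      mU ψ hψ hnd H ρ 0 + ∑ w ∈ Finset.univ.erase (0 : K2 κ → F),
        (if Q2 Qc w = c then ψ (w (Sum.inl 1)) else 0) := by
    rw [sum_split0, polar_zero_left, AddChar.map_zero_eq_one, one_mul]
    congr 1
    refine Finset.sum_congr rfl fun w hw => ?_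
    have hw0 : w ≠ 0 := Finset.ne_of_mem_erase hw
    have hp : polar (Q2 Qc) w (eH F (K1 κ)) = w (Sum.inl 1) := by
      rw [polar_comm]
      exact polar_eH (hypExt Qc) w
    by_cases hc : Q2 Qc w = c
    · rw [if_pos hc, hL.1 w hw0 hc, mul_one, hp]
    · rw [if_neg hc, hL.2 w hw0 hc, mul_zero]
  have h5 : ∑ w : K2 κ → F, (if w ≠ 0 ∧ Q2 Qc w = c ∧ w (Sum.inl 1) = 0 ∧
        w (Sum.inr (Sum.inl 1)) = 0 then (1 : ℂ) else 0) =
      ∑ w ∈ Finset.univ.erase (0 : K2 κ → F),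
        (if Q2 Qc w = c ∧ w (Sum.inl 1) = 0 ∧ w (Sum.inr (Sum.inl 1)) = 0 then (1 : ℂ) else 0) := by
    rw [sum_split0, if_neg (fun hh => hh.1 rfl), zero_add]
    refine Finset.sum_congr rfl fun w hw => ?_
    have hw0 : w ≠ 0 := Finset.ne_of_mem_erase hw
    by_cases hc : Q2 Qc w = c ∧ w (Sum.inl 1) = 0 ∧ w (Sum.inr (Sum.inl 1)) = 0
    · rw [if_pos hc, if_pos ⟨hw0, hc⟩]
    · rw [if_neg hc, if_neg (fun hh => hc hh.2)]
  rw [h2, h3, h4, h1, h5] at hT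
  exact sum_psi_ne_fix ψ hψ c (add_left_cancel hT)

end Cfsg.Agent.Lib.Helper6.OMMCaseA
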