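import Mathlib
import Cfsg.Prelude
import Cfsg.Agent.Lib.Helper6.OMMCaseA
import Cfsg.Agent.Lib.Helper1.OMMTTrace
import Cfsg.Agent.Lib.Helper7.OMML2
import Cfsg.Agent.Lib.Helper7.OMMTConj

set_option autoImplicit false
set_option linter.unusedSectionVars false
set_option linter.unusedVariables false
open Cfsg

/-!
Farm OMM (statement S2346), unit CASEA: `caseA_core` with TTRACE (helper1) and L2 (helper7)
and TCONJ (helper7) plugged in: the blueprint statement `caseA`.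
-/

namespace Cfsg.Agent.Lib.Helper6.OMMCaseA

open Matrix QuadraticMap Cfsg.Agent.Lib.Helper5.CartanDieudonne Cfsg.Agent.Lib.Helper5.Refl
  Cfsg.Agent.Lib.Helper5.OrthCard Cfsg.Agent.Lib.Helper5.Siegel Cfsg.Agent.Lib.Helper5.QuadIsom
  Cfsg.Agent.Lib.Helper5.ReflGen Cfsg.Agent.Lib.Helper5.Eichler Cfsg.Agent.Lib.Helper5.SingGeom
  Cfsg.Agent.Lib.Helper5.OmegaGen Cfsg.Agent.Lib.Helper5.OmegaSimple Cfsg.Agent.Lib.Helper1.OMMG
  Cfsg.Agent.Lib.Helper1.OMMI Cfsg.Agent.Lib.Helper2.OMM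

variable {F : Type*} [Field F] [Fintype F] [DecidableEq F]
variable {κ : Type} [Fintype κ] [DecidableEq κ] {Qc : QuadraticForm F (κ → F)}
variable (ψ : AddChar F ℂ) (hψ : ∃ c, ψ c ≠ 1) (hnd : (polarBilin Qc).Nondegenerate)
  (H : Hyp (Q3 Qc))
variable {V : Type*} [AddCommGroup V] [Module ℂ V]

/-- Case A, given the conjugacy of `tE` and `uE e₂` -/
theorem caseA_of_conj [FiniteDimensional ℂ V] (ρ : Representation ℂ (GG Qc) V) (c : F)
    (hL : LevelOne ψ hψ hnd H ρ c)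
    (hpair : ∀ b : κ → F, Qc b = c → ∃ z z' : κ → F,
      polar ⇑Qc z b = 0 ∧ polar ⇑Qc z' b = 0 ∧ polar ⇑Qc z z' = 1)
    (hconj : ∃ g : GG Qc, g * tE H * g⁻¹ = uE H (eH F (K1 κ)))
    (hA : ∀ z' : K1 κ → F, z' ≠ 0 → mP ψ hψ hnd H ρ z' = 0) : False :=
  caseA_core ψ hψ hnd H ρ c hL
    (Cfsg.Agent.Lib.Helper1.OMMT.character_tE ψ hψ hnd H ρ c hL hpair) hconj
    (Cfsg.Agent.Lib.Helper7.OMM.trace_uP_eI0 ψ hψ hnd H ρ (eH F κ))
    (Cfsg.Agent.Lib.Helper7.OMM.sum_mP ψ hψ hnd H ρ) hA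

/-- **Unit CASEA** (blueprint statement): in a multiplicity-one configuration on a level set, some
non-trivial character of `U'` occurs in the fixed points of `U` -/
theorem caseA [FiniteDimensional ℂ V] (ρ : Representation ℂ (GG Qc) V) (c : F)
    (hL : LevelOne ψ hψ hnd H ρ c)
    (hpair : ∀ b : κ → F, Qc b = c → ∃ z z' : κ → F,
      polar ⇑Qc z b = 0 ∧ polar ⇑Qc z' b = 0 ∧ polar ⇑Qc z z' = 1)
    (hA : ∀ z' : K1 κ → F, z' ≠ 0 → mP ψ hψ hnd H ρ z' = 0) : False :=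
  caseA_of_conj ψ hψ hnd H ρ c hL hpair (Cfsg.Agent.Lib.Helper7.OMM.tE_conj H) hA

/-- the positive form: some `z' ≠ 0` has `mP ρ z' ≠ 0` -/
theorem exists_mP_ne_zero [FiniteDimensional ℂ V] (ρ : Representation ℂ (GG Qc) V) (c : F)
    (hL : LevelOne ψ hψ hnd H ρ c)
    (hpair : ∀ b : κ → F, Qc b = c → ∃ z z' : κ → F,
      polar ⇑Qc z b = 0 ∧ polar ⇑Qc z' b = 0 ∧ polar ⇑Qc z z' = 1) :
    ∃ z' : K1 κ → F, z' ≠ 0 ∧ mP ψ hψ hnd H ρ z' ≠ 0 := by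
  by_contra hcon
  push Not at hcon
  exact caseA ψ hψ hnd H ρ c hL hpair hcon

end Cfsg.Agent.Lib.Helper6.OMMCaseA
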