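import Mathlib
import Cfsg.Agent.Lib.Helper5.OrthPlane
import Cfsg.Agent.Lib.Helper6.OMMCount

set_option autoImplicit false
set_option linter.unusedSectionVars false

/-!
Farm OMM (S2346): closed forms for the level sets of the minus-type form
`genForm (binForm a b) j` (dimension `2 j + 2`): `q^(2j+1) - q^(j+1) + q^j` singular vectors
(zero included) and `q^(2j+1) + q^j` vectors of each non-zero value.
-/

namespace Cfsg.Agent.Lib.Helper6.OMMCount

open Cfsg.Agent.Lib.Helper5.OrthCard Cfsg.Agent.Lib.Helper5.OrthPlane QuadraticMap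

section reindex

variable {F : Type*} [Field F] [Fintype F] [DecidableEq F] {ι ι' : Type} [Fintype ι] [DecidableEq ι]
  [Fintype ι'] [DecidableEq ι']

/-- `NC` as a cardinality -/
theorem NC_eq_card (Q : QuadraticForm F (ι → F)) (c : F) :
    NC Q c = (Nat.card {w : ι → F // Q w = c} : ℂ) := by
  unfold NC
  rw [Finset.sum_boole, Nat.card_eq_fintype_card, Fintype.card_subtype]

theorem NC_reindex (σ : ι ≃ ι') (Q : QuadraticForm F (ι → F)) (Q' : QuadraticForm F (ι' → F))
    (h : ∀ v : ι' → F, Q' v = Q (v ∘ σ)) (c : F) : NC Q' c = NC Q c := by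
  unfold NC
  rw [← Equiv.sum_comp (Equiv.arrowCongr σ (Equiv.refl F))
    (fun v : ι' → F => if Q' v = c then (1 : ℂ) else 0)]
  apply Finset.sum_congr rfl
  intro w _
  rw [h]
  have : (Equiv.arrowCongr σ (Equiv.refl F)) w ∘ σ = w := by
    funext i
    simp [Equiv.arrowCongr]
  rw [this]

end reindex

section gen

variable {F : Type*} [Field F] [Fintype F] [DecidableEq F] {κ₀ : Type} [Fintype κ₀]
  [DecidableEq κ₀] (Q₀ : QuadraticForm F (κ₀ → F))

theorem NC_genForm_zero (c : F) : NC (genForm Q₀ 0) c = NC Q₀ c :=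
  NC_reindex (baseEquiv κ₀) Q₀ (genForm Q₀ 0) (genForm_zero Q₀) c

theorem NC_genForm_succ (j : ℕ) (c : F) :
    NC (genForm Q₀ (j + 1)) c = (Fintype.card F : ℂ) * NC (genForm Q₀ j) c +
      ((Fintype.card F : ℂ) - 1) * (Fintype.card F : ℂ) ^ (2 * j + Fintype.card κ₀) := by
  rw [NC_reindex (stepEquiv j κ₀) (hypExt (genForm Q₀ j)) (genForm Q₀ (j + 1)) (genForm_succ Q₀ j),
    NC_hypExt]
  simp only [Fintype.card_sum, Fintype.card_fin]
  rw [two_mul]

end gen

section minus

variable {F : Type*} [Field F] [Fintype F] [DecidableEq F] (a b : F)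

theorem NC_binForm (han : ∀ v : Fin 2 → F, binForm a b v = 0 → v = 0) (c : F) :
    NC (binForm a b) c = if c = 0 then 1 else (Fintype.card F : ℂ) + 1 := by
  rw [NC_eq_card]
  split_ifs with hc
  · rw [hc, binForm_zeros a b han, Nat.cast_one]
  · rw [card_level_eq a b han c hc, card_level_one a b han]
    push_cast
    ring

/-- the level sets of the minus-type form of dimension `2 j + 2` -/
theorem NC_minus (han : ∀ v : Fin 2 → F, binForm a b v = 0 → v = 0) (j : ℕ) (c : F) :
    NC (genForm (binForm a b) j) c =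
      if c = 0 then (Fintype.card F : ℂ) ^ (2 * j + 1) - (Fintype.card F : ℂ) ^ (j + 1) +
        (Fintype.card F : ℂ) ^ j
      else (Fintype.card F : ℂ) ^ (2 * j + 1) + (Fintype.card F : ℂ) ^ j := by
  induction j with
  | zero =>
    rw [NC_genForm_zero, NC_binForm a b han]
    split_ifs <;> simp
  | succ j ih =>
    rw [NC_genForm_succ, ih, Fintype.card_fin]
    split_ifs <;> ring

/-- natural-number form: the number of singular vectors (zero included) -/
theorem card_zeros_minus (han : ∀ v : Fin 2 → F, binForm a b v = 0 → v = 0) (j : ℕ) :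
    Nat.card {w : (Fin j ⊕ Fin j) ⊕ Fin 2 → F // genForm (binForm a b) j w = 0} +
      Fintype.card F ^ (j + 1) = Fintype.card F ^ (2 * j + 1) + Fintype.card F ^ j := by
  have h := NC_minus a b han j 0
  rw [if_pos rfl, NC_eq_card] at h
  have h2 : ((Nat.card {w : (Fin j ⊕ Fin j) ⊕ Fin 2 → F // genForm (binForm a b) j w = 0} +
      Fintype.card F ^ (j + 1) : ℕ) : ℂ) =
      ((Fintype.card F ^ (2 * j + 1) + Fintype.card F ^ j : ℕ) : ℂ) := by
    push_cast
    rw [h]
    ring
  exact_mod_cast h2

/-- natural-number form: the number of vectors of a non-zero value -/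
theorem card_level_minus (han : ∀ v : Fin 2 → F, binForm a b v = 0 → v = 0) (j : ℕ) (c : F)
    (hc : c ≠ 0) :
    Nat.card {w : (Fin j ⊕ Fin j) ⊕ Fin 2 → F // genForm (binForm a b) j w = c} =
      Fintype.card F ^ (2 * j + 1) + Fintype.card F ^ j := by
  have h := NC_minus a b han j c
  rw [if_neg hc, NC_eq_card] at h
  exact_mod_cast h

end minus

end Cfsg.Agent.Lib.Helper6.OMMCount
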