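import Mathlib
import Cfsg.Agent.Lib.Helper5.OMPI3b
import Cfsg.Agent.Lib.Helper4.SLCard
import Cfsg.Agent.Lib.Helper6.OMMLevel
import Cfsg.Agent.Lib.Helper6.OMMArith

set_option autoImplicit false
set_option linter.unusedSectionVars false

/-!
Farm OMM (S2346), unit TCOUNT: the number of totally singular independent pairs of a
non-degenerate quadratic form, in terms of its number of singular vectors; the number of long
root elements of the minus-type form.
-/

namespace Cfsg.Agent.Lib.Helper6.OMMTCount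

open QuadraticMap Cfsg Cfsg.Agent.Lib.Helper5.OrthCard Cfsg.Agent.Lib.Helper5.OMP

variable {ι : Type} [Fintype ι] [DecidableEq ι] {F : Type*} [Field F] [Fintype F]
  (Q : QuadraticForm F (ι → F))

/-- singular vectors on the affine hyperplane `polar u · = c`, `c ≠ 0`, for singular `u ≠ 0` -/
theorem card_sing_fiber_c (hQ : (polarBilin Q).Nondegenerate) (u : ι → F) (hu0 : u ≠ 0)
    (hu : Q u = 0) (c : F) (hc : c ≠ 0) :
    Nat.card {v : ι → F // Q v = 0 ∧ polar Q u v = c} * Fintype.card F * Fintype.card F =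
      Fintype.card F ^ Fintype.card ι := by
  rw [← card_sing_fiber Q hQ u hu0 hu]
  congr 2
  apply Nat.card_congr
  exact
    { toFun := fun v => ⟨c⁻¹ • v.1, by
        rw [QuadraticMap.map_smul, v.2.1, smul_zero], by
        rw [polar_smul_right, v.2.2, smul_eq_mul, inv_mul_cancel₀ hc]⟩
      invFun := fun v => ⟨c • v.1, by
        rw [QuadraticMap.map_smul, v.2.1, smul_zero], by
        rw [polar_smul_right, v.2.2, smul_eq_mul, mul_one]⟩
      left_inv := fun v => by
        apply Subtype.ext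
        show c • c⁻¹ • v.1 = v.1
        rw [smul_smul, mul_inv_cancel₀ hc, one_smul]
      right_inv := fun v => by
        apply Subtype.ext
        show c⁻¹ • c • v.1 = v.1
        rw [smul_smul, inv_mul_cancel₀ hc, one_smul] }

/-- linear independence of a pair `(u, z)`, as in `IsTS` -/
def Indep (u z : ι → F) : Prop := ∀ s t : F, s • u + t • z = 0 → s = 0 ∧ t = 0

omit [Fintype ι] [DecidableEq ι] [Fintype F] in
theorem not_indep_iff (u z : ι → F) (hu0 : u ≠ 0) : ¬ Indep u z ↔ ∃ t : F, z = t • u := by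
  constructor
  · intro h
    unfold Indep at h
    push Not at h
    obtain ⟨s, t, hst, hne⟩ := h
    have ht : t ≠ 0 := by
      intro ht
      rw [ht, zero_smul, add_zero] at hst
      have hs : s = 0 := by
        by_contra hs
        exact hu0 ((smul_eq_zero.1 hst).resolve_left hs)
      exact hne hs ht
    refine ⟨-(s / t), ?_⟩
    have h1 : t • z = -(s • u) := eq_neg_of_add_eq_zero_right hst
    have h2 : z = t⁻¹ • (t • z) := by rw [smul_smul, inv_mul_cancel₀ ht, one_smul]
    rw [h2, h1, smul_neg, smul_smul, neg_smul]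
    congr 2
    field_simp
  · rintro ⟨t, rfl⟩ h
    have := h t (-1) (by rw [neg_smul, one_smul, add_neg_cancel])
    exact one_ne_zero (neg_eq_zero.1 this.2)

/-- the singular vectors orthogonal to `u` split into the multiples of `u` and the rest -/
theorem card_perp_split (u : ι → F) (hu0 : u ≠ 0) (hu : Q u = 0) :
    Nat.card {z : ι → F // Q z = 0 ∧ polar Q u z = 0 ∧ Indep u z} + Fintype.card F =
      Nat.card {z : ι → F // Q z = 0 ∧ polar Q u z = 0} := by
  classical
  rw [Nat.card_eq_fintype_card, Nat.card_eq_fintype_card, Fintype.card_subtype,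
    Fintype.card_subtype]
  rw [← Finset.card_filter_add_card_filter_not (p := fun z => Indep u z)
    (s := Finset.univ.filter (fun z : ι → F => Q z = 0 ∧ polar Q u z = 0))]
  have h1 : (Finset.univ.filter (fun z : ι → F => Q z = 0 ∧ polar Q u z = 0)).filter
      (fun z => Indep u z) =
      Finset.univ.filter (fun z : ι → F => Q z = 0 ∧ polar Q u z = 0 ∧ Indep u z) := by
    ext z
    simp only [Finset.mem_filter, Finset.mem_univ, true_and, and_assoc]
  have h2 : (Finset.univ.filter (fun z : ι → F => Q z = 0 ∧ polar Q u z = 0)).filter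
      (fun z => ¬ Indep u z) = Finset.univ.image (fun t : F => t • u) := by
    ext z
    simp only [Finset.mem_filter, Finset.mem_univ, true_and, Finset.mem_image]
    constructor
    · rintro ⟨-, h⟩
      obtain ⟨t, rfl⟩ := (not_indep_iff u z hu0).1 h
      exact ⟨t, rfl⟩
    · rintro ⟨t, rfl⟩
      refine ⟨⟨by rw [QuadraticMap.map_smul, hu, smul_zero], by
        rw [polar_smul_right, polar_self, hu]; simp⟩, (not_indep_iff u _ hu0).2 ⟨t, rfl⟩⟩
  rw [h1, h2, Finset.card_image_of_injective _ (fun t t' htt => by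
    have h3 : (t - t') • u = 0 := by rw [sub_smul]; exact sub_eq_zero.2 htt
    exact sub_eq_zero.1 ((smul_eq_zero.1 h3).resolve_right hu0)), Finset.card_univ]

/-- the singular vectors split according to the value of `polar u ·` -/
theorem card_zeros_split (hQ : (polarBilin Q).Nondegenerate) (u : ι → F) (hu0 : u ≠ 0)
    (hu : Q u = 0) :
    Nat.card {z : ι → F // Q z = 0} = Nat.card {z : ι → F // Q z = 0 ∧ polar Q u z = 0} +
      (Fintype.card F - 1) * Nat.card {z : ι → F // Q z = 0 ∧ polar Q u z = 1} := by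
  classical
  have e : {z : ι → F // Q z = 0} ≃ Σ c : F, {z : ι → F // Q z = 0 ∧ polar Q u z = c} :=
    { toFun := fun z => ⟨polar Q u z.1, ⟨z.1, z.2, rfl⟩⟩
      invFun := fun x => ⟨x.2.1, x.2.2.1⟩
      left_inv := fun z => rfl
      right_inv := fun x => by
        rcases x with ⟨c, z, hz, rfl⟩
        rfl }
  rw [Nat.card_congr e, Nat.card_sigma,
    ← Finset.add_sum_erase Finset.univ _ (Finset.mem_univ (0 : F))]
  congr 1
  have h : ∀ c ∈ Finset.univ.erase (0 : F),
      Nat.card {z : ι → F // Q z = 0 ∧ polar Q u z = c} =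
        Nat.card {z : ι → F // Q z = 0 ∧ polar Q u z = 1} := by
    intro c hc
    have hc0 : c ≠ 0 := Finset.ne_of_mem_erase hc
    have h1 := card_sing_fiber_c Q hQ u hu0 hu c hc0
    have h2 := card_sing_fiber Q hQ u hu0 hu
    have hq : 0 < Fintype.card F := Fintype.card_pos
    have h3 : Nat.card {z : ι → F // Q z = 0 ∧ polar Q u z = c} * (Fintype.card F * Fintype.card F)
        = Nat.card {z : ι → F // Q z = 0 ∧ polar Q u z = 1} *
          (Fintype.card F * Fintype.card F) := by
      rw [← mul_assoc, ← mul_assoc, h1, h2]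
    exact Nat.eq_of_mul_eq_mul_right (Nat.mul_pos hq hq) h3
  rw [Finset.sum_congr rfl h, Finset.sum_const, smul_eq_mul,
    Finset.card_erase_of_mem (Finset.mem_univ _), Finset.card_univ]

/-- the number of totally singular independent pairs -/
theorem card_TS (hQ : (polarBilin Q).Nondegenerate) (X c0 : ℕ)
    (hX : X * Fintype.card F * Fintype.card F = Fintype.card F ^ Fintype.card ι)
    (hc0 : c0 + Fintype.card F + (Fintype.card F - 1) * X = Nat.card {z : ι → F // Q z = 0}) :
    Nat.card {p : (ι → F) × (ι → F) // IsTS Q p.1 p.2} =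
      (Nat.card {z : ι → F // Q z = 0} - 1) * c0 := by
  classical
  have e : {p : (ι → F) × (ι → F) // IsTS Q p.1 p.2} ≃
      Σ u : {u : ι → F // Q u = 0 ∧ u ≠ 0},
        {z : ι → F // Q z = 0 ∧ polar Q u.1 z = 0 ∧ Indep u.1 z} :=
    { toFun := fun p => ⟨⟨p.1.1, p.2.1, by
          intro h0
          have := p.2.2.2.2 1 0 (by rw [h0]; simp)
          exact one_ne_zero this.1⟩, ⟨p.1.2, p.2.2.1, p.2.2.2.1, p.2.2.2.2⟩⟩
      invFun := fun x => ⟨(x.1.1, x.2.1), x.1.2.1, x.2.2.1, x.2.2.2.1, x.2.2.2.2⟩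
      left_inv := fun p => rfl
      right_inv := fun x => rfl }
  rw [Nat.card_congr e, Nat.card_sigma]
  have hfib : ∀ u : {u : ι → F // Q u = 0 ∧ u ≠ 0},
      Nat.card {z : ι → F // Q z = 0 ∧ polar Q u.1 z = 0 ∧ Indep u.1 z} = c0 := by
    intro u
    have h1 := card_perp_split Q u.1 u.2.2 u.2.1
    have h2 := card_zeros_split Q hQ u.1 u.2.2 u.2.1
    have h3 := card_sing_fiber Q hQ u.1 u.2.2 u.2.1
    have hq : 0 < Fintype.card F := Fintype.card_pos
    have h4 : Nat.card {z : ι → F // Q z = 0 ∧ polar Q u.1 z = 1} = X := by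
      have : Nat.card {z : ι → F // Q z = 0 ∧ polar Q u.1 z = 1} *
          (Fintype.card F * Fintype.card F) = X * (Fintype.card F * Fintype.card F) := by
        rw [← mul_assoc, ← mul_assoc, h3, hX]
      exact Nat.eq_of_mul_eq_mul_right (Nat.mul_pos hq hq) this
    rw [h4] at h2
    omega
  rw [Finset.sum_congr rfl (fun u _ => hfib u), Finset.sum_const, smul_eq_mul, Finset.card_univ]
  congr 1
  have e2 : {z : ι → F // Q z = 0} ≃ Option {u : ι → F // Q u = 0 ∧ u ≠ 0} :=
    { toFun := fun z => if h : z.1 = 0 then none else some ⟨z.1, z.2, h⟩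
      invFun := fun x => x.elim ⟨0, map_zero Q⟩ (fun u => ⟨u.1, u.2.1⟩)
      left_inv := fun z => by
        by_cases h : z.1 = 0
        · simp only [h, dite_true, Option.elim]
          exact Subtype.ext h.symm
        · simp [h]
      right_inv := fun x => by
        rcases x with _ | u
        · simp
        · simp [u.2.2] }
  rw [Nat.card_congr e2, Nat.card_eq_fintype_card, Fintype.card_option, Nat.add_sub_cancel]

section minus

open Cfsg.Agent.Lib.Helper5.OrthPlane Cfsg.Agent.Lib.Helper6.OMMCount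
  Cfsg.Agent.Lib.Helper6.OMMArith

variable {F : Type*} [Field F] [Fintype F] (a b : F)

theorem arith_c0 (q j N0 : ℕ) (hq : 1 ≤ q) (hN0 : N0 + q ^ (j + 1 + 1) = q ^ (2 * (j + 1) + 1) + q ^ (j + 1)) :
    q * Ns q j + q + (q - 1) * q ^ (2 * j + 2) = N0 ∧ N0 - 1 = Ns q (j + 1) := by
  have h1 := Ns_eq q j hq
  have h2 := Ns_eq q (j + 1) hq
  constructor
  · obtain ⟨r, rfl⟩ : ∃ r, q = r + 1 := ⟨q - 1, by omega⟩
    rw [Nat.add_sub_cancel]
    have e1 : (r + 1) ^ (2 * (j + 1) + 1) = (r + 1) * (r + 1) ^ (2 * j + 2) := by ring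
    have e2 : (r + 1) ^ (2 * j + 2) = (r + 1) * (r + 1) ^ (2 * j + 1) := by ring
    have e3 : (r + 1) ^ (j + 1 + 1) = (r + 1) * (r + 1) ^ (j + 1) := by ring
    have e4 : (r + 1) ^ (j + 1) = (r + 1) * (r + 1) ^ j := by ring
    have key : (r + 1) * Ns (r + 1) j + (r + 1) + r * (r + 1) ^ (2 * j + 2) + (r + 1) ^ (j + 1 + 1)
        = N0 + (r + 1) ^ (j + 1 + 1) := by
      rw [hN0, e1, e3]
      have : (r + 1) * (Ns (r + 1) j + 1 + (r + 1) ^ (j + 1)) =
          (r + 1) * ((r + 1) ^ (2 * j + 1) + (r + 1) ^ j) := by rw [h1]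
      rw [e2, e4]
      rw [e4] at this
      linear_combination this
    omega
  · omega

/-- the number of totally singular independent pairs of the minus-type form of dimension
`2 j + 4` -/
theorem card_TS_minus (han : ∀ v : Fin 2 → F, binForm a b v = 0 → v = 0) (j : ℕ) :
    Nat.card {p : ((Fin (j + 1) ⊕ Fin (j + 1)) ⊕ Fin 2 → F) × ((Fin (j + 1) ⊕ Fin (j + 1)) ⊕ Fin 2 → F) //
        IsTS (genForm (binForm a b) (j + 1)) p.1 p.2} =
      Ns (Fintype.card F) (j + 1) * (Fintype.card F * Ns (Fintype.card F) j) := by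
  classical
  have hq : 1 ≤ Fintype.card F := Fintype.card_pos
  have hz := card_zeros_minus a b han (j + 1)
  obtain ⟨h1, h2⟩ := arith_c0 (Fintype.card F) j _ hq hz
  rw [card_TS (genForm (binForm a b) (j + 1))
    (genForm_nondegenerate _ (binForm_nondegenerate a b han) (j + 1))
    (Fintype.card F ^ (2 * j + 2)) (Fintype.card F * Ns (Fintype.card F) j) ?_ h1, h2]
  simp only [Fintype.card_sum, Fintype.card_fin]
  ring

/-- the number of long root elements: `|T| (q² - 1) = N_s(V) N_s(W)` -/
theorem card_rootClass_minus (han : ∀ v : Fin 2 → F, binForm a b v = 0 → v = 0) (j : ℕ)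
    (a₀ b₀ : (Fin (j + 1) ⊕ Fin (j + 1)) ⊕ Fin 2 → F)
    (h₀ : IsTS (genForm (binForm a b) (j + 1)) a₀ b₀) :
    Nat.card {x : ↥(isometryGroup F ⇑(genForm (binForm a b) (j + 1))) // x ∈ rootClass a₀ b₀ h₀} *
      (Fintype.card F ^ 2 - 1) = Ns (Fintype.card F) (j + 1) * Ns (Fintype.card F) j := by
  have h := card_rootClass_mul
    (genForm_nondegenerate _ (binForm_nondegenerate a b han) (j + 1)) a₀ b₀ h₀
  rw [card_TS_minus a b han j, Cfsg.Agent.Lib.Helper4.card_SL2] at h
  have hq : 0 < Fintype.card F := Fintype.card_pos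
  apply Nat.eq_of_mul_eq_mul_left hq
  linear_combination h

/-- the same count in the presentation `V = hypExt W` -/
theorem card_TS_minusH (han : ∀ v : Fin 2 → F, binForm a b v = 0 → v = 0) (j : ℕ) :
    Nat.card {p : (Fin 2 ⊕ ((Fin j ⊕ Fin j) ⊕ Fin 2) → F) × (Fin 2 ⊕ ((Fin j ⊕ Fin j) ⊕ Fin 2) → F) //
        IsTS (hypExt (genForm (binForm a b) j)) p.1 p.2} =
      Ns (Fintype.card F) (j + 1) * (Fintype.card F * Ns (Fintype.card F) j) := by
  classical
  have hq : 1 ≤ Fintype.card F := Fintype.card_pos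
  have hz := card_zeros_minus a b han (j + 1)
  rw [← card_zeros_reindex (stepEquiv j (Fin 2)) ⇑(hypExt (genForm (binForm a b) j))
    ⇑(genForm (binForm a b) (j + 1)) (genForm_succ (binForm a b) j)] at hz
  obtain ⟨h1, h2⟩ := arith_c0 (Fintype.card F) j _ hq hz
  rw [card_TS (hypExt (genForm (binForm a b) j))
    (hypExt_nondegenerate _ (genForm_nondegenerate _ (binForm_nondegenerate a b han) j))
    (Fintype.card F ^ (2 * j + 2)) (Fintype.card F * Ns (Fintype.card F) j) ?_ h1, h2]
  simp only [Fintype.card_sum, Fintype.card_fin]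
  ring

theorem card_rootClass_minusH (han : ∀ v : Fin 2 → F, binForm a b v = 0 → v = 0) (j : ℕ)
    (a₀ b₀ : Fin 2 ⊕ ((Fin j ⊕ Fin j) ⊕ Fin 2) → F)
    (h₀ : IsTS (hypExt (genForm (binForm a b) j)) a₀ b₀) :
    Nat.card {x : ↥(isometryGroup F ⇑(hypExt (genForm (binForm a b) j))) //
        x ∈ rootClass a₀ b₀ h₀} *
      (Fintype.card F ^ 2 - 1) = Ns (Fintype.card F) (j + 1) * Ns (Fintype.card F) j := by
  have h := card_rootClass_mul
    (hypExt_nondegenerate _ (genForm_nondegenerate _ (binForm_nondegenerate a b han) j)) a₀ b₀ h₀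
  rw [card_TS_minusH a b han j, Cfsg.Agent.Lib.Helper4.card_SL2] at h
  have hq : 0 < Fintype.card F := Fintype.card_pos
  apply Nat.eq_of_mul_eq_mul_left hq
  linear_combination h

end minus

end Cfsg.Agent.Lib.Helper6.OMMTCount
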