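import Mathlib
import Cfsg.Agent.Lib.Helper6.OMMTCount
import Cfsg.Agent.Lib.Helper5.OMMTower

set_option autoImplicit false
set_option linter.unusedSectionVars false

/-!
Farm OMM (S2346), unit TCOUNT-TOWER: the number of long root elements of
`V = hypExt³ (genForm (binForm a b) i)` (the tower presentation of the minus-type form of
dimension `2 (i + 3) + 2`).
-/

namespace Cfsg.Agent.Lib.Helper6.OMMTCount

open QuadraticMap Cfsg Cfsg.Agent.Lib.Helper5.OrthCard Cfsg.Agent.Lib.Helper5.OMP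
  Cfsg.Agent.Lib.Helper5.OrthPlane Cfsg.Agent.Lib.Helper6.OMMCount
  Cfsg.Agent.Lib.Helper6.OMMArith Cfsg.Agent.Lib.Helper2.OMM Cfsg.Agent.Lib.Helper5.OMMTower

variable {F : Type*} [Field F] [Fintype F] [DecidableEq F] (a b : F)

theorem nd3_genForm (han : ∀ v : Fin 2 → F, binForm a b v = 0 → v = 0) (i : ℕ) :
    (polarBilin (Q3 (genForm (binForm a b) i))).Nondegenerate :=
  hypExt_nondegenerate _ (hypExt_nondegenerate _ (hypExt_nondegenerate _
    (genForm_nondegenerate _ (binForm_nondegenerate a b han) i)))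

/-- the number of singular vectors of the tower form -/
theorem card_zeros_tower (han : ∀ v : Fin 2 → F, binForm a b v = 0 → v = 0) (i : ℕ) :
    Nat.card {v : K3 ((Fin i ⊕ Fin i) ⊕ Fin 2) → F // Q3 (genForm (binForm a b) i) v = 0} +
      Fintype.card F ^ (i + 2 + 1 + 1) =
      Fintype.card F ^ (2 * (i + 2 + 1) + 1) + Fintype.card F ^ (i + 2 + 1) := by
  have hz := card_zeros_minus a b han (i + 2 + 1)
  rw [card_zeros_reindex (t3 i (Fin 2)) ⇑(genForm (binForm a b) (i + 3))
    ⇑(Q3 (genForm (binForm a b) i)) (form3 (binForm a b) i)] at hz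
  exact hz

theorem card_TS_tower (han : ∀ v : Fin 2 → F, binForm a b v = 0 → v = 0) (i : ℕ) :
    Nat.card {p : (K3 ((Fin i ⊕ Fin i) ⊕ Fin 2) → F) × (K3 ((Fin i ⊕ Fin i) ⊕ Fin 2) → F) //
        IsTS (Q3 (genForm (binForm a b) i)) p.1 p.2} =
      Ns (Fintype.card F) (i + 3) * (Fintype.card F * Ns (Fintype.card F) (i + 2)) := by
  classical
  have hq : 1 ≤ Fintype.card F := Fintype.card_pos
  have hz := card_zeros_tower a b han i
  obtain ⟨h1, h2⟩ := arith_c0 (Fintype.card F) (i + 2) _ hq hz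
  rw [card_TS (Q3 (genForm (binForm a b) i)) (nd3_genForm a b han i)
    (Fintype.card F ^ (2 * (i + 2) + 2)) (Fintype.card F * Ns (Fintype.card F) (i + 2)) ?_ h1, h2]
  simp only [Fintype.card_sum, Fintype.card_fin]
  ring

/-- **TCOUNT-TOWER**: `|T| (q² - 1) = N_s(V) N_s(W)` in the tower presentation, `j = i + 2` -/
theorem card_rootClass_tower (han : ∀ v : Fin 2 → F, binForm a b v = 0 → v = 0) (i : ℕ)
    (a₀ b₀ : K3 ((Fin i ⊕ Fin i) ⊕ Fin 2) → F)
    (h₀ : IsTS (Q3 (genForm (binForm a b) i)) a₀ b₀) :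
    Nat.card {x : ↥(isometryGroup F ⇑(Q3 (genForm (binForm a b) i))) // x ∈ rootClass a₀ b₀ h₀} *
      (Fintype.card F ^ 2 - 1) =
      Ns (Fintype.card F) (i + 2 + 1) * Ns (Fintype.card F) (i + 2) := by
  have h := card_rootClass_mul (nd3_genForm a b han i) a₀ b₀ h₀
  rw [card_TS_tower a b han i, Cfsg.Agent.Lib.Helper4.card_SL2] at h
  have hq : 0 < Fintype.card F := Fintype.card_pos
  apply Nat.eq_of_mul_eq_mul_left hq
  linear_combination h

end Cfsg.Agent.Lib.Helper6.OMMTCount
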