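import Mathlib
import Cfsg.Agent.Lib.Helper6.BLData3
import Cfsg.Agent.Lib.Helper6.BlkVanish

set_option autoImplicit false
open Cfsg

/-!
Degrees of the characters in the principal block when a Sylow subgroup has prime order and
`N/C` is small: consequences of the Brauer–Leonard coherence argument.
-/

namespace Cfsg.Agent.Lib.Helper6

open scoped ComplexConjugate

section small

variable {G : Type*} [Group G] [Finite G]

theorem bl_small (p : ℕ) [Fact p.Prime] (P : Sylow p G) (hP : Nat.card P = p)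
    (m : ℕ) (hm1 : 1 < m) (hm2 : m + 2 < (p - 1) / m)
    (hCN : (Subgroup.centralizer ((P : Subgroup G) : Set G)).relIndex
      (Subgroup.normalizer ((P : Subgroup G) : Set G)) = m) :
    ∃ (X Y : Finset (Cfsg.IrrCharacter G)) (w : Cfsg.IrrCharacter G → ℤ) (δ : ℤ),
      oneIrr G ∈ X ∧ w (oneIrr G) = 1 ∧
      (∀ χ ∈ X, w χ ≠ 0 ∧ (Cfsg.charDegree (χ : G → ℂ) : ℤ) ≡ w χ [ZMOD p]) ∧
      ∑ χ ∈ X, w χ ^ 2 = (m : ℤ) ∧ (δ = 1 ∨ δ = -1) ∧ Disjoint X Y ∧ Y.card = (p - 1) / m ∧
      ∀ η ∈ Y, δ * (Cfsg.charDegree (η : G → ℂ) : ℤ)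
        = ∑ χ ∈ X, w χ * (Cfsg.charDegree (χ : G → ℂ) : ℤ) := by
  classical
  have hp : p.Prime := Fact.out
  obtain ⟨M, hM⟩ := exists_isPModular p
  haveI : Fintype G := Fintype.ofFinite G
  haveI : Fintype ↥(P : Subgroup G) := Fintype.ofFinite _
  have hab : IsMulCommutative P := by
    haveI := isCyclic_of_prime_card hP
    exact ⟨⟨fun a b => IsCyclic.commGroup.mul_comm a b⟩⟩
  haveI : Finite (↥(P : Subgroup G) →* ℂˣ) :=
    Nat.finite_of_card_ne_zero (by rw [card_homs_of_comm hab]; exact Nat.card_pos.ne')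
  haveI : Fintype (↥(P : Subgroup G) →* ℂˣ) := Fintype.ofFinite _
  haveI : Fintype (Cfsg.IrrCharacter G) := Fintype.ofFinite _
  have hm0 : 0 < m := by omega
  have hpm : m * ((p - 1) / m) ≤ p - 1 := Nat.mul_div_le (p - 1) m
  have hm2' : m + 1 < Nat.card P := by
    rw [hP]
    have h1 : m * (m + 3) ≤ p - 1 := le_trans (Nat.mul_le_mul_left m (by omega)) hpm
    have h2 : 2 * (m + 3) ≤ m * (m + 3) := Nat.mul_le_mul_right _ hm1
    omega
  have hfrob : ∀ y : G, y ∈ (P : Subgroup G) → y ≠ 1 →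
      Subgroup.centralizer ({y} : Set G) ⊓ Subgroup.normalizer ((P : Subgroup G) : Set G)
        = Subgroup.centralizer ((P : Subgroup G) : Set G) := by
    intro y hy hy1
    apply le_antisymm
    · intro x hx
      have hxy : x ∈ Subgroup.centralizer ({y} : Set G) := (Subgroup.mem_inf.mp hx).1
      rw [Subgroup.mem_centralizer_iff]
      intro z hz
      have hgen : Subgroup.zpowers (⟨y, hy⟩ : (P : Subgroup G)) = ⊤ := by
        apply zpowers_eq_top_of_prime_card hP
        intro h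
        apply hy1
        exact congrArg Subtype.val h
      have hz' : (⟨z, hz⟩ : (P : Subgroup G)) ∈ Subgroup.zpowers (⟨y, hy⟩ : (P : Subgroup G)) := by
        rw [hgen]
        exact Subgroup.mem_top _
      obtain ⟨k, hk⟩ := Subgroup.mem_zpowers_iff.mp hz'
      have hk' : y ^ k = z := by
        have := congrArg Subtype.val hk
        simpa using this
      have hcomm : y * x = x * y :=
        (Subgroup.mem_centralizer_iff.mp hxy) y (Set.mem_singleton y)
      rw [← hk']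
      exact ((Commute.zpow_left (show Commute y x from hcomm) k)).eq
    · intro x hx
      refine Subgroup.mem_inf.mpr ⟨?_, Subgroup.centralizer_le_normalizer _ hx⟩
      rw [Subgroup.mem_centralizer_iff]
      intro z hz
      rw [Set.mem_singleton_iff] at hz
      rw [hz]
      exact (Subgroup.mem_centralizer_iff.mp hx) y hy
  obtain ⟨D⟩ := exists_blData hM P hab hfrob m hm1 hm2' hCN
  have hcardY := D.card_Y hab hfrob hCN
  rw [hP] at hcardY
  have hY : (p - 1) / m = D.Y.card := by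
    rw [← hcardY]
    exact Nat.mul_div_cancel _ hm0
  have hnorm := D.norm_eq
  have hone := D.one hM
  have h1X : oneIrr G ∈ D.X := by
    rw [D.mem_X]
    exact ⟨oneIrr_mem_principalBlock hM, fun ψ hψ => hone.2 ψ hψ⟩
  have hsumpos : (1 : ℤ) ≤ ∑ χ ∈ D.X, D.w χ ^ 2 := by
    have h1 : D.w (oneIrr G) ^ 2 ≤ ∑ χ ∈ D.X, D.w χ ^ 2 :=
      Finset.single_le_sum (f := fun χ => D.w χ ^ 2) (fun χ _ => sq_nonneg _) h1X
    rw [hone.1] at h1
    simpa using h1
  have hd0 : D.d = 0 := by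
    by_contra hd
    have h3 : 1 ≤ D.d ^ 2 := by
      have : 0 < D.d ^ 2 := by positivity
      omega
    have h4 : ((m : ℤ) + 2) ≤ (D.Y.card : ℤ) - 1 := by
      have : m + 2 < D.Y.card := by rw [← hY]; exact hm2
      omega
    nlinarith [sq_nonneg (D.d - D.δ)]
  have hδδ := D.δ_mul_δ
  have hsum : ∑ χ ∈ D.X, D.w χ ^ 2 = (m : ℤ) := by
    rw [hd0] at hnorm
    have : (0 - D.δ) ^ 2 = 1 := by nlinarith
    rw [this] at hnorm
    linarith
  have hdisj : Disjoint D.X D.Y := by
    unfold BLData.X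
    exact Finset.sdiff_disjoint
  refine ⟨D.X, D.Y, D.w, D.δ, h1X, hone.1, ?_, hsum, D.hδ, hdisj, hY.symm, ?_⟩
  · intro χ hχ
    obtain ⟨hχB, hχΘ⟩ := (D.mem_X χ).mp hχ
    refine ⟨D.w_ne_zero hM hab hfrob χ hχB hχΘ, ?_⟩
    have hval : ∀ y : ↥(P : Subgroup G), y ≠ 1 → (χ : G → ℂ) (y : G) = (D.w χ : ℂ) := by
      intro y hy
      rw [D.val hab χ hχB y hy]
      have : ∑ μ : ↥(P : Subgroup G) →* ℂˣ,
          (if μ ≠ 1 ∧ D.Θ μ = χ then ((μ y : ℂˣ) : ℂ) else 0) = 0 := by
        apply Finset.sum_eq_zero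
        intro μ _
        rw [if_neg]
        intro h
        exact hχΘ μ h.1 h.2
      rw [this, mul_zero, add_zero]
    have hχc := IsIrrCharacter.isCharacter χ.2
    obtain ⟨n, hn⟩ := IsCharacter.classInner_irr_nat
      (IsCharacter.restrict (P : Subgroup G) hχc) (isIrrCharacter_one (G := ↥(P : Subgroup G)))
    unfold Cfsg.classInner at hn
    have hsumP : ∑ y : ↥(P : Subgroup G), (χ : G → ℂ) (y : G)
        = (Cfsg.charDegree (χ : G → ℂ) : ℂ) + ((p : ℂ) - 1) * (D.w χ : ℂ) := by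
      rw [← Finset.add_sum_erase Finset.univ _ (Finset.mem_univ (1 : ↥(P : Subgroup G)))]
      have h5 : ∀ y ∈ Finset.univ.erase (1 : ↥(P : Subgroup G)),
          (χ : G → ℂ) (y : G) = (D.w χ : ℂ) := by
        intro y hy
        exact hval y (Finset.ne_of_mem_erase hy)
      rw [Finset.sum_congr rfl h5, Finset.sum_const, Finset.card_erase_of_mem (Finset.mem_univ _),
        Finset.card_univ, ← Nat.card_eq_fintype_card, hP, Subgroup.coe_one,
        IsCharacter.apply_one_eq_charDegree hχc, nsmul_eq_mul, Nat.cast_sub hp.one_le,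
        Nat.cast_one]
    have h6 : ∑ y : ↥(P : Subgroup G), (χ : G → ℂ) (y : G) * conj ((fun _ => (1 : ℂ)) y)
        = ∑ y : ↥(P : Subgroup G), (χ : G → ℂ) (y : G) := by
      apply Finset.sum_congr rfl
      intro y _
      simp
    rw [h6, hsumP, hP] at hn
    have hp0 : (p : ℂ) ≠ 0 := by exact_mod_cast hp.ne_zero
    have h7 : (Cfsg.charDegree (χ : G → ℂ) : ℂ) + ((p : ℂ) - 1) * (D.w χ : ℂ) = (p : ℂ) * n := by
      field_simp at hn
      linear_combination hn
    have h8 : (Cfsg.charDegree (χ : G → ℂ) : ℤ) + ((p : ℤ) - 1) * D.w χ = (p : ℤ) * n := by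
      exact_mod_cast h7
    rw [Int.modEq_iff_dvd]
    refine ⟨D.w χ - n, ?_⟩
    linear_combination -h8
  · intro η hη
    have hrel := D.pRegular_rel η hη 1 (by rw [orderOf_one]; exact hp.one_lt.ne' ∘ Nat.dvd_one.mp)
    rw [hd0] at hrel
    have h9 : ∀ χ : Cfsg.IrrCharacter G, (χ : G → ℂ) 1 = (Cfsg.charDegree (χ : G → ℂ) : ℂ) :=
      fun χ => IsCharacter.apply_one_eq_charDegree (IsIrrCharacter.isCharacter χ.2)
    simp only [h9] at hrel
    have h10 : ((D.δ * (Cfsg.charDegree (η : G → ℂ) : ℤ) : ℤ) : ℂ)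
        = ((∑ χ ∈ D.X, D.w χ * (Cfsg.charDegree (χ : G → ℂ) : ℤ) : ℤ) : ℂ) := by
      push_cast
      linear_combination -hrel
    exact_mod_cast h10

end small

end Cfsg.Agent.Lib.Helper6
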