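import Mathlib
import Cfsg.Agent.Lib.Helper6.BLSmall
import Cfsg.Agent.Lib.Helper6.Linear
import Cfsg.Agent.Lib.Helper6.Multiplicity
import Cfsg.Agent.Lib.Helper6.ProdChar
import Cfsg.Agent.Lib.Lead.SylowCount

set_option autoImplicit false
open Cfsg

/-!
Simple groups with a Sylow subgroup of prime order whose normalizer has order `2p` or `3p`:
degree equations from the Brauer–Leonard coherence argument.
-/

namespace Cfsg.Agent.Lib.Helper6

open scoped ComplexConjugate
open scoped commutatorElement

section simple

variable {G : Type*} [Group G] [Finite G]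

/-- Burnside's transfer theorem excludes `N ≤ C` in a simple group -/
theorem false_of_simple_of_normalizer_le_centralizer [IsSimpleGroup G] (p : ℕ) [Fact p.Prime]
    (P : Sylow p G) (hP : Nat.card P = p)
    (hle : Subgroup.normalizer ((P : Subgroup G) : Set G)
      ≤ Subgroup.centralizer ((P : Subgroup G) : Set G))
    (hG : Nat.card G ≠ p) : False := by
  have hp : p.Prime := Fact.out
  have hc := MonoidHom.ker_transferSylow_isComplement' P hle
  have hcard := hc.card_mul
  rw [hP] at hcard
  rcases (MonoidHom.normal_ker (MonoidHom.transferSylow P hle)).eq_bot_or_eq_top with h | h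
  · rw [h, Subgroup.card_bot, one_mul] at hcard
    exact hG hcard.symm
  · rw [h, Subgroup.card_top] at hcard
    have h0 : 0 < Nat.card G := Nat.card_pos
    have : Nat.card G * p = Nat.card G * 1 := by rw [hcard, mul_one]
    have := Nat.eq_of_mul_eq_mul_left h0 this
    exact hp.one_lt.ne' this

theorem relIndex_centralizer_normalizer_of_simple [IsSimpleGroup G] (p m : ℕ) [Fact p.Prime]
    (hm : m.Prime) (P : Sylow p G) (hP : Nat.card P = p)
    (hN : Nat.card (Subgroup.normalizer ((P : Subgroup G) : Set G)) = p * m)
    (hG : Nat.card G ≠ p) :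
    (Subgroup.centralizer ((P : Subgroup G) : Set G)).relIndex
      (Subgroup.normalizer ((P : Subgroup G) : Set G)) = m := by
  have hp : p.Prime := Fact.out
  have hPC : (P : Subgroup G) ≤ Subgroup.centralizer ((P : Subgroup G) : Set G) := by
    intro x hx
    rw [Subgroup.mem_centralizer_iff]
    intro y hy
    exact Cfsg.Agent.Lib.Lead.SylowCount.commute_of_card_prime (P : Subgroup G) hP hy hx
  have hCN : Subgroup.centralizer ((P : Subgroup G) : Set G)
      ≤ Subgroup.normalizer ((P : Subgroup G) : Set G) := Subgroup.centralizer_le_normalizer _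
  have h1 := Cfsg.Agent.Lib.Lead.SylowCount.card_mul_relIndex hCN
  rw [hN] at h1
  have h2 : p ∣ Nat.card (Subgroup.centralizer ((P : Subgroup G) : Set G)) := by
    have := Subgroup.card_dvd_of_le hPC
    rwa [hP] at this
  obtain ⟨c, hc⟩ := h2
  rw [hc, mul_assoc] at h1
  have h3 : c * (Subgroup.centralizer ((P : Subgroup G) : Set G)).relIndex
      (Subgroup.normalizer ((P : Subgroup G) : Set G)) = m :=
    Nat.eq_of_mul_eq_mul_left hp.pos h1
  have h4 : (Subgroup.centralizer ((P : Subgroup G) : Set G)).relIndex
      (Subgroup.normalizer ((P : Subgroup G) : Set G)) ∣ m := Dvd.intro_left _ h3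
  rcases (Nat.dvd_prime hm).mp h4 with h | h
  · exfalso
    have hle := Subgroup.relIndex_eq_one.mp h
    exact false_of_simple_of_normalizer_le_centralizer p P hP hle hG
  · exact h

/-- in a simple group of non-prime order the only linear character is the principal one -/
theorem charDegree_ne_one_of_simple [IsSimpleGroup G] (hG : ¬ (Nat.card G).Prime)
    (χ : Cfsg.IrrCharacter G) (hχ : χ ≠ oneIrr G) : Cfsg.charDegree (χ : G → ℂ) ≠ 1 := by
  intro h1
  have hcomm : commutator G = ⊤ := by
    rcases (inferInstance : (commutator G).Normal).eq_bot_or_eq_top with h | h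
    · exfalso
      apply hG
      haveI : IsMulCommutative G := by
        refine ⟨⟨fun a b => ?_⟩⟩
        have : ⁅a, b⁆ ∈ commutator G := Subgroup.commutator_mem_commutator
          (Subgroup.mem_top a) (Subgroup.mem_top b)
        rw [h, Subgroup.mem_bot] at this
        exact commutatorElement_eq_one_iff_mul_comm.mp this
      exact Group.is_simple_iff_prime_card.mp inferInstance
    · exact h
  have hcard := card_linear_characters (G := G)
  rw [hcomm, Subgroup.index_top] at hcard
  haveI : Subsingleton {χ : Cfsg.IrrCharacter G // (χ : G → ℂ) 1 = 1} :=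
    (Nat.card_eq_one_iff_unique.mp hcard).1
  have hχ1 : (χ : G → ℂ) 1 = 1 := by
    rw [IsCharacter.apply_one_eq_charDegree (IsIrrCharacter.isCharacter χ.2), h1, Nat.cast_one]
  have h2 : (⟨χ, hχ1⟩ : {χ : Cfsg.IrrCharacter G // (χ : G → ℂ) 1 = 1})
      = ⟨oneIrr G, rfl⟩ := Subsingleton.elim _ _
  exact hχ (congrArg Subtype.val h2)

theorem charDegree_oneIrr : Cfsg.charDegree ((oneIrr G : Cfsg.IrrCharacter G) : G → ℂ) = 1 := by
  unfold Cfsg.charDegree oneIrr
  simp

end simple

end Cfsg.Agent.Lib.Helper6
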