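import Mathlib
import Cfsg.Agent.Lib.Helper6.BLSimple

set_option autoImplicit false
open Cfsg

/-!
Degree equations for simple groups with `|N(P)| = 2p` or `3p`.
-/

namespace Cfsg.Agent.Lib.Helper6

open scoped ComplexConjugate

section weights

variable {ι : Type*} [DecidableEq ι]

theorem sq_eq_one_int {x : ℤ} (h : x ^ 2 = 1) : x = 1 ∨ x = -1 := by
  have h1 : (x - 1) * (x + 1) = 0 := by nlinarith
  rcases mul_eq_zero.mp h1 with h2 | h2
  · left; omega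
  · right; omega

theorem one_le_sq_of_ne_zero {x : ℤ} (h : x ≠ 0) : 1 ≤ x ^ 2 := by
  have : 0 < x ^ 2 := by positivity
  omega

theorem card_le_sum_sq (S : Finset ι) (w : ι → ℤ) (hne : ∀ i ∈ S, w i ≠ 0) :
    (S.card : ℤ) ≤ ∑ i ∈ S, w i ^ 2 := by
  calc (S.card : ℤ) = ∑ i ∈ S, (1 : ℤ) := by simp
    _ ≤ _ := Finset.sum_le_sum (fun i hi => one_le_sq_of_ne_zero (hne i hi))

theorem exists_of_sum_sq_eq_one (S : Finset ι) (w : ι → ℤ) (hne : ∀ i ∈ S, w i ≠ 0)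
    (hs : ∑ i ∈ S, w i ^ 2 = 1) : ∃ i, S = {i} ∧ (w i = 1 ∨ w i = -1) := by
  have h1 := card_le_sum_sq S w hne
  rw [hs] at h1
  have h2 : S.card ≠ 0 := by
    intro h0
    rw [Finset.card_eq_zero] at h0
    rw [h0, Finset.sum_empty] at hs
    exact zero_ne_one hs
  have h3 : S.card = 1 := by
    have : S.card ≤ 1 := by exact_mod_cast h1
    omega
  obtain ⟨i, rfl⟩ := Finset.card_eq_one.mp h3
  rw [Finset.sum_singleton] at hs
  exact ⟨i, rfl, sq_eq_one_int hs⟩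

theorem exists_of_sum_sq_eq_two (S : Finset ι) (w : ι → ℤ) (hne : ∀ i ∈ S, w i ≠ 0)
    (hs : ∑ i ∈ S, w i ^ 2 = 2) :
    ∃ i j, i ≠ j ∧ S = {i, j} ∧ (w i = 1 ∨ w i = -1) ∧ (w j = 1 ∨ w j = -1) := by
  have h1 := card_le_sum_sq S w hne
  rw [hs] at h1
  have h2 : S.card ≤ 2 := by exact_mod_cast h1
  have h3 : S.card ≠ 0 := by
    intro h0
    rw [Finset.card_eq_zero] at h0
    rw [h0, Finset.sum_empty] at hs
    norm_num at hs
  have h4 : S.card ≠ 1 := by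
    intro h0
    obtain ⟨i, rfl⟩ := Finset.card_eq_one.mp h0
    rw [Finset.sum_singleton] at hs
    have h5 : w i ≤ 1 := by nlinarith
    have h6 : -1 ≤ w i := by nlinarith
    interval_cases (w i) <;> norm_num at hs
  have h5 : S.card = 2 := by omega
  obtain ⟨i, j, hij, rfl⟩ := Finset.card_eq_two.mp h5
  rw [Finset.sum_pair hij] at hs
  have hi := one_le_sq_of_ne_zero (hne i (by simp))
  have hj := one_le_sq_of_ne_zero (hne j (by simp))
  refine ⟨i, j, hij, rfl, sq_eq_one_int (by omega), sq_eq_one_int (by omega)⟩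

end weights

section simple

variable {G : Type*} [Group G] [Finite G]

theorem sum_sq_charDegree_le (S : Finset (Cfsg.IrrCharacter G)) :
    ∑ χ ∈ S, (Cfsg.charDegree (χ : G → ℂ)) ^ 2 ≤ Nat.card G := by
  classical
  haveI : Fintype G := Fintype.ofFinite G
  haveI : Fintype (Cfsg.IrrCharacter G) := Fintype.ofFinite _
  rw [← sum_sq_charDegree (K := G)]
  exact Finset.sum_le_sum_of_subset (Finset.subset_univ S)

theorem simple_e2 [IsSimpleGroup G] (p : ℕ) [Fact p.Prime] (P : Sylow p G)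
    (hP : Nat.card P = p)
    (hN : Nat.card (Subgroup.normalizer ((P : Subgroup G) : Set G)) = p * 2)
    (hp5 : 2 + 2 < (p - 1) / 2) (hGnp : ¬ (Nat.card G).Prime) :
    ∃ (d e : ℕ) (a δ : ℤ), (a = 1 ∨ a = -1) ∧ (δ = 1 ∨ δ = -1) ∧ d ∣ Nat.card G ∧
      e ∣ Nat.card G ∧ d ≠ 1 ∧ (d : ℤ) ≡ a [ZMOD p] ∧ δ * (e : ℤ) = 1 + a * (d : ℤ) ∧
      1 + d ^ 2 + ((p - 1) / 2) * e ^ 2 ≤ Nat.card G := by
  classical
  haveI : Fintype G := Fintype.ofFinite G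
  have hp : p.Prime := Fact.out
  have hG : Nat.card G ≠ p := fun h => hGnp (h ▸ hp)
  have hCN := relIndex_centralizer_normalizer_of_simple p 2 Nat.prime_two P hP hN hG
  obtain ⟨X, Y, w, δ, h1X, hw1, hX, hsum, hδ, hdisj, hYcard, hY⟩ :=
    bl_small p P hP 2 (by norm_num) hp5 hCN
  have hS : ∑ χ ∈ X.erase (oneIrr G), w χ ^ 2 = 1 := by
    have := Finset.add_sum_erase X (fun χ => w χ ^ 2) h1X
    rw [hw1, hsum] at this
    push_cast at this
    linarith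
  obtain ⟨χ, hχS, hwχ⟩ := exists_of_sum_sq_eq_one (X.erase (oneIrr G)) w
    (fun i hi => (hX i (Finset.mem_of_mem_erase hi)).1) hS
  have hχmem : χ ∈ X.erase (oneIrr G) := by rw [hχS]; exact Finset.mem_singleton_self χ
  have hχX : χ ∈ X := Finset.mem_of_mem_erase hχmem
  have hχ1 : χ ≠ oneIrr G := Finset.ne_of_mem_erase hχmem
  have hXeq : X = {oneIrr G, χ} := by
    rw [← Finset.insert_erase h1X, hχS]
  have hYne : Y.Nonempty := by
    rw [← Finset.card_pos, hYcard]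
    omega
  obtain ⟨η, hη⟩ := hYne
  have hdeg : ∀ η' ∈ Y, Cfsg.charDegree (η' : G → ℂ) = Cfsg.charDegree (η : G → ℂ) := by
    intro η' hη'
    have h1 := hY η hη
    have h2 := hY η' hη'
    rw [← h1] at h2
    have h3 : (Cfsg.charDegree (η' : G → ℂ) : ℤ) = (Cfsg.charDegree (η : G → ℂ) : ℤ) := by
      rcases hδ with h | h <;> rw [h] at h2 <;> linarith
    exact_mod_cast h3
  refine ⟨Cfsg.charDegree (χ : G → ℂ), Cfsg.charDegree (η : G → ℂ), w χ, δ, hwχ, hδ,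
    IsIrrCharacter.charDegree_dvd_card χ.2, IsIrrCharacter.charDegree_dvd_card η.2,
    charDegree_ne_one_of_simple hGnp χ hχ1, (hX χ hχX).2, ?_, ?_⟩
  · rw [hY η hη, hXeq, Finset.sum_pair (Ne.symm hχ1), hw1, charDegree_oneIrr]
    push_cast
    ring
  · have h1 := sum_sq_charDegree_le (X ∪ Y)
    rw [Finset.sum_union hdisj, hXeq, Finset.sum_pair (Ne.symm hχ1), charDegree_oneIrr] at h1
    have h2 : ∑ η' ∈ Y, Cfsg.charDegree (η' : G → ℂ) ^ 2
        = ((p - 1) / 2) * Cfsg.charDegree (η : G → ℂ) ^ 2 := by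
      rw [Finset.sum_congr rfl (fun η' hη' => by rw [hdeg η' hη']), Finset.sum_const, hYcard,
        smul_eq_mul]
    rw [h2] at h1
    simpa using h1

theorem simple_e3 [IsSimpleGroup G] (p : ℕ) [Fact p.Prime] (P : Sylow p G)
    (hP : Nat.card P = p)
    (hN : Nat.card (Subgroup.normalizer ((P : Subgroup G) : Set G)) = p * 3)
    (hp5 : 3 + 2 < (p - 1) / 3) (hGnp : ¬ (Nat.card G).Prime) :
    ∃ (d₁ d₂ e : ℕ) (a₁ a₂ δ : ℤ), (a₁ = 1 ∨ a₁ = -1) ∧ (a₂ = 1 ∨ a₂ = -1) ∧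
      (δ = 1 ∨ δ = -1) ∧ d₁ ∣ Nat.card G ∧ d₂ ∣ Nat.card G ∧
      e ∣ Nat.card G ∧ d₁ ≠ 1 ∧ d₂ ≠ 1 ∧ (d₁ : ℤ) ≡ a₁ [ZMOD p] ∧ (d₂ : ℤ) ≡ a₂ [ZMOD p] ∧
      δ * (e : ℤ) = 1 + a₁ * (d₁ : ℤ) + a₂ * (d₂ : ℤ) ∧
      1 + d₁ ^ 2 + d₂ ^ 2 + ((p - 1) / 3) * e ^ 2 ≤ Nat.card G := by
  classical
  haveI : Fintype G := Fintype.ofFinite G
  have hp : p.Prime := Fact.out
  have hG : Nat.card G ≠ p := fun h => hGnp (h ▸ hp)
  have hCN := relIndex_centralizer_normalizer_of_simple p 3 Nat.prime_three P hP hN hG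
  obtain ⟨X, Y, w, δ, h1X, hw1, hX, hsum, hδ, hdisj, hYcard, hY⟩ :=
    bl_small p P hP 3 (by norm_num) hp5 hCN
  have hS : ∑ χ ∈ X.erase (oneIrr G), w χ ^ 2 = 2 := by
    have := Finset.add_sum_erase X (fun χ => w χ ^ 2) h1X
    rw [hw1, hsum] at this
    push_cast at this
    linarith
  obtain ⟨χ₁, χ₂, h12, hS2, hw₁, hw₂⟩ := exists_of_sum_sq_eq_two (X.erase (oneIrr G)) w
    (fun i hi => (hX i (Finset.mem_of_mem_erase hi)).1) hS
  have hχ₁mem : χ₁ ∈ X.erase (oneIrr G) := by rw [hS2]; simp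
  have hχ₂mem : χ₂ ∈ X.erase (oneIrr G) := by rw [hS2]; simp
  have hχ₁X : χ₁ ∈ X := Finset.mem_of_mem_erase hχ₁mem
  have hχ₂X : χ₂ ∈ X := Finset.mem_of_mem_erase hχ₂mem
  have hχ₁1 : χ₁ ≠ oneIrr G := Finset.ne_of_mem_erase hχ₁mem
  have hχ₂1 : χ₂ ≠ oneIrr G := Finset.ne_of_mem_erase hχ₂mem
  have hXeq : X = insert (oneIrr G) {χ₁, χ₂} := by
    rw [← Finset.insert_erase h1X, hS2]
  have hnot : oneIrr G ∉ ({χ₁, χ₂} : Finset (Cfsg.IrrCharacter G)) := by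
    simp only [Finset.mem_insert, Finset.mem_singleton, not_or]
    exact ⟨Ne.symm hχ₁1, Ne.symm hχ₂1⟩
  have hYne : Y.Nonempty := by
    rw [← Finset.card_pos, hYcard]
    omega
  obtain ⟨η, hη⟩ := hYne
  have hdeg : ∀ η' ∈ Y, Cfsg.charDegree (η' : G → ℂ) = Cfsg.charDegree (η : G → ℂ) := by
    intro η' hη'
    have h1 := hY η hη
    have h2 := hY η' hη'
    rw [← h1] at h2
    have h3 : (Cfsg.charDegree (η' : G → ℂ) : ℤ) = (Cfsg.charDegree (η : G → ℂ) : ℤ) := by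
      rcases hδ with h | h <;> rw [h] at h2 <;> linarith
    exact_mod_cast h3
  refine ⟨Cfsg.charDegree (χ₁ : G → ℂ), Cfsg.charDegree (χ₂ : G → ℂ),
    Cfsg.charDegree (η : G → ℂ), w χ₁, w χ₂, δ, hw₁, hw₂, hδ,
    IsIrrCharacter.charDegree_dvd_card χ₁.2, IsIrrCharacter.charDegree_dvd_card χ₂.2,
    IsIrrCharacter.charDegree_dvd_card η.2,
    charDegree_ne_one_of_simple hGnp χ₁ hχ₁1, charDegree_ne_one_of_simple hGnp χ₂ hχ₂1,
    (hX χ₁ hχ₁X).2, (hX χ₂ hχ₂X).2, ?_, ?_⟩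
  · rw [hY η hη, hXeq, Finset.sum_insert hnot, Finset.sum_pair h12, hw1, charDegree_oneIrr]
    push_cast
    ring
  · have h1 := sum_sq_charDegree_le (X ∪ Y)
    rw [Finset.sum_union hdisj, hXeq, Finset.sum_insert hnot, Finset.sum_pair h12,
      charDegree_oneIrr] at h1
    have h2 : ∑ η' ∈ Y, Cfsg.charDegree (η' : G → ℂ) ^ 2
        = ((p - 1) / 3) * Cfsg.charDegree (η : G → ℂ) ^ 2 := by
      rw [Finset.sum_congr rfl (fun η' hη' => by rw [hdeg η' hη']), Finset.sum_const, hYcard,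
        smul_eq_mul]
    rw [h2] at h1
    have h3 : 1 + Cfsg.charDegree (χ₁ : G → ℂ) ^ 2 + Cfsg.charDegree (χ₂ : G → ℂ) ^ 2
        + (p - 1) / 3 * Cfsg.charDegree (η : G → ℂ) ^ 2
        = 1 ^ 2 + (Cfsg.charDegree (χ₁ : G → ℂ) ^ 2 + Cfsg.charDegree (χ₂ : G → ℂ) ^ 2)
          + (p - 1) / 3 * Cfsg.charDegree (η : G → ℂ) ^ 2 := by ring
    rw [h3]
    exact h1

end simple

end Cfsg.Agent.Lib.Helper6
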