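import Mathlib
import Cfsg.Agent.Lib.Helper2.P3TDefs

/-! S2459 farm (helper2), pieces E2 (`conj_of_basis`), A4 (`sl_conj_LU`), A5a (`lu_factor`). -/

set_option autoImplicit false
set_option linter.unusedVariables false
set_option linter.unusedSectionVars false
set_option linter.style.longLine false
set_option linter.style.haveILetI false

namespace Cfsg.Agent.Lib.Helper2.P3T

open Matrix Module

universe u v

section generic
variable {K : Type v} [Field K] {V : Type u} [AddCommGroup V] [Module K V]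

/-- E2 -/
theorem conj_of_basis {n : ℕ} (G : Matrix (Fin n) (Fin n) K) (b : Module.Basis (Fin n) K (Fin n → K)) :
    ∃ P : GL (Fin n) K, (P : Matrix (Fin n) (Fin n) K) * G * ((P⁻¹ : GL (Fin n) K) : Matrix (Fin n) (Fin n) K) =
      LinearMap.toMatrix b b (Matrix.toLin' G) := by
  have h1 : b.toMatrix (Pi.basisFun K (Fin n)) * (Pi.basisFun K (Fin n)).toMatrix b = 1 :=
    Module.Basis.toMatrix_mul_toMatrix_flip b (Pi.basisFun K (Fin n))
  have h2 : (Pi.basisFun K (Fin n)).toMatrix b * b.toMatrix (Pi.basisFun K (Fin n)) = 1 :=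
    Module.Basis.toMatrix_mul_toMatrix_flip (Pi.basisFun K (Fin n)) b
  refine ⟨⟨b.toMatrix (Pi.basisFun K (Fin n)), (Pi.basisFun K (Fin n)).toMatrix b, h1, h2⟩, ?_⟩
  have h3 := basis_toMatrix_mul_linearMap_toMatrix_mul_basis_toMatrix
    (b := b) (b' := Pi.basisFun K (Fin n)) (c := b) (c' := Pi.basisFun K (Fin n)) (Matrix.toLin' G)
  rw [← h3]
  have h4 : LinearMap.toMatrix (Pi.basisFun K (Fin n)) (Pi.basisFun K (Fin n)) (Matrix.toLin' G) = G := by
    rw [LinearMap.toMatrix_eq_toMatrix', LinearMap.toMatrix'_toLin']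
  rw [h4]
  rfl

end generic

section partA
variable {K : Type v} [Field K]

/-- A5a -/
theorem lu_factor (M : Matrix (Fin 3) (Fin 3) K) (hdet : M.det = 1) (hM : LUform M) :
    ∃ a b c a' b' c' : K, M = !![1, 0, 0; a, 1, 0; b, c, 1] * !![1, a', b'; 0, 1, c'; 0, 0, 1] := by
  obtain ⟨h00, hmin⟩ := hM
  rw [Matrix.det_fin_three] at hdet
  refine ⟨M 1 0, M 2 0, M 2 1 - M 2 0 * M 0 1, M 0 1, M 0 2, M 1 2 - M 1 0 * M 0 2, ?_⟩
  rw [h00] at hmin hdet
  ext i j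
  fin_cases i <;> fin_cases j <;>
    simp [Matrix.mul_apply, Fin.sum_univ_three, h00]
  · linear_combination hmin
  · linear_combination hdet + (M 2 0 * M 0 2 - M 2 2) * hmin
  all_goals ring

/-- A4 -/
theorem sl_conj_LU (G : Matrix (Fin 3) (Fin 3) K) (P : GL (Fin 3) K)
    (h : LUform ((P : Matrix (Fin 3) (Fin 3) K) * G * ((P⁻¹ : GL (Fin 3) K) : Matrix (Fin 3) (Fin 3) K))) :
    ∃ P' : Matrix.SpecialLinearGroup (Fin 3) K,
      LUform ((P' : Matrix (Fin 3) (Fin 3) K) * G * ((P'⁻¹ : Matrix.SpecialLinearGroup (Fin 3) K) : Matrix (Fin 3) (Fin 3) K)) := by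
  have hdetP : (P : Matrix (Fin 3) (Fin 3) K).det ≠ 0 := by
    have := (Matrix.isUnits_det_units P)
    exact this.ne_zero
  set d : K := ((P : Matrix (Fin 3) (Fin 3) K).det)⁻¹ with hd
  have hd0 : d ≠ 0 := inv_ne_zero hdetP
  have hdet' : (Matrix.diagonal ![1, 1, d] * (P : Matrix (Fin 3) (Fin 3) K)).det = 1 := by
    rw [Matrix.det_mul, Matrix.det_diagonal, Fin.prod_univ_three]
    simp [hd, hdetP]
  set P' : Matrix.SpecialLinearGroup (Fin 3) K :=
    ⟨Matrix.diagonal ![1, 1, d] * (P : Matrix (Fin 3) (Fin 3) K), hdet'⟩ with hP'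
  have hP'c : (P' : Matrix (Fin 3) (Fin 3) K) = Matrix.diagonal ![1, 1, d] * (P : Matrix (Fin 3) (Fin 3) K) := rfl
  have hPP : ((P⁻¹ : GL (Fin 3) K) : Matrix (Fin 3) (Fin 3) K) * (P : Matrix (Fin 3) (Fin 3) K) = 1 := by
    rw [← Units.val_mul, inv_mul_cancel, Units.val_one]
  have hdd : Matrix.diagonal ![1, 1, d⁻¹] * Matrix.diagonal ![1, 1, d] = (1 : Matrix (Fin 3) (Fin 3) K) := by
    rw [Matrix.diagonal_mul_diagonal]
    ext i j
    fin_cases i <;> fin_cases j <;> simp [Matrix.diagonal, hd0]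
  have hinv : ((P'⁻¹ : Matrix.SpecialLinearGroup (Fin 3) K) : Matrix (Fin 3) (Fin 3) K) =
      ((P⁻¹ : GL (Fin 3) K) : Matrix (Fin 3) (Fin 3) K) * Matrix.diagonal ![1, 1, d⁻¹] := by
    have h1 : (P' : Matrix (Fin 3) (Fin 3) K) *
        ((P'⁻¹ : Matrix.SpecialLinearGroup (Fin 3) K) : Matrix (Fin 3) (Fin 3) K) = 1 := by
      rw [← Matrix.SpecialLinearGroup.coe_mul, mul_inv_cancel, Matrix.SpecialLinearGroup.coe_one]
    have h2 : (((P⁻¹ : GL (Fin 3) K) : Matrix (Fin 3) (Fin 3) K) * Matrix.diagonal ![1, 1, d⁻¹]) *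
        (P' : Matrix (Fin 3) (Fin 3) K) = 1 := by
      rw [hP'c, Matrix.mul_assoc, ← Matrix.mul_assoc (Matrix.diagonal ![1, 1, d⁻¹]), hdd, Matrix.one_mul, hPP]
    calc ((P'⁻¹ : Matrix.SpecialLinearGroup (Fin 3) K) : Matrix (Fin 3) (Fin 3) K)
        = 1 * ((P'⁻¹ : Matrix.SpecialLinearGroup (Fin 3) K) : Matrix (Fin 3) (Fin 3) K) := (Matrix.one_mul _).symm
      _ = ((((P⁻¹ : GL (Fin 3) K) : Matrix (Fin 3) (Fin 3) K) * Matrix.diagonal ![1, 1, d⁻¹]) *
            (P' : Matrix (Fin 3) (Fin 3) K)) *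
            ((P'⁻¹ : Matrix.SpecialLinearGroup (Fin 3) K) : Matrix (Fin 3) (Fin 3) K) := by rw [h2]
      _ = _ := by rw [Matrix.mul_assoc, h1, Matrix.mul_one]
  refine ⟨P', ?_⟩
  rw [hinv, hP'c]
  set M : Matrix (Fin 3) (Fin 3) K :=
    (P : Matrix (Fin 3) (Fin 3) K) * G * ((P⁻¹ : GL (Fin 3) K) : Matrix (Fin 3) (Fin 3) K) with hM
  have hre : Matrix.diagonal ![1, 1, d] * (P : Matrix (Fin 3) (Fin 3) K) * G *
      (((P⁻¹ : GL (Fin 3) K) : Matrix (Fin 3) (Fin 3) K) * Matrix.diagonal ![1, 1, d⁻¹]) =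
      Matrix.diagonal ![1, 1, d] * M * Matrix.diagonal ![1, 1, d⁻¹] := by
    rw [hM]
    simp only [Matrix.mul_assoc]
  rw [hre]
  have hent : ∀ i j : Fin 3, (Matrix.diagonal ![1, 1, d] * M * Matrix.diagonal ![1, 1, d⁻¹]) i j =
      ![1, 1, d] i * M i j * ![1, 1, d⁻¹] j := by
    intro i j
    rw [Matrix.mul_diagonal, Matrix.diagonal_mul]
  obtain ⟨h00, hmin⟩ := h
  refine ⟨?_, ?_⟩
  · rw [hent]; simpa using h00
  · rw [hent, hent, hent, hent]; simpa using hmin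

end partA

end Cfsg.Agent.Lib.Helper2.P3T
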