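import Mathlib
import Cfsg.Agent.Lib.Helper2.P3TDefs
import Cfsg.Agent.Lib.Helper2.P3TBasis

/-! S2459 farm (helper2), pieces B2 (`basis_of_cyclic`), B3 (`basis_of_rank_one`). -/

set_option autoImplicit false
set_option linter.unusedVariables false
set_option linter.unusedSectionVars false
set_option linter.style.longLine false
set_option linter.style.haveILetI false

namespace Cfsg.Agent.Lib.Helper2.P3T

open Matrix Module

universe u v

section partB
variable {K : Type v} [Field K] {V : Type u} [AddCommGroup V] [Module K V]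

/-- three vectors are independent if only the trivial combination vanishes. -/
theorem li_three (w0 w1 w2 : V)
    (h : ∀ c0 c1 c2 : K, c0 • w0 + c1 • w1 + c2 • w2 = 0 → c0 = 0 ∧ c1 = 0 ∧ c2 = 0) :
    LinearIndependent K ![w0, w1, w2] := by
  rw [Fintype.linearIndependent_iff]
  intro c hc
  rw [Fin.sum_univ_three] at hc
  obtain ⟨h0, h1, h2⟩ := h (c 0) (c 1) (c 2) (by simpa using hc)
  intro i
  fin_cases i
  · exact h0
  · exact h1
  · exact h2

/-- B2 -/
theorem basis_of_cyclic [FiniteDimensional K V] (h3 : Module.finrank K V = 3)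
    (g : Module.End K V) (hdet : LinearMap.det g = 1) (e : V) (hli : LinearIndependent K ![e, g e, g (g e)]) :
    ∃ (b : Module.Basis (Fin 3) K V) (c1 c2 : K), LinearMap.toMatrix b b g = Comp c1 c2 := by
  obtain ⟨b0, hb0, -⟩ := exists_basis_toMatrix h3 ![e, g e, g (g e)] hli (0 : Module.End K V) 0
    (by intro j; simp)
  set c : Fin 3 → K := fun i => b0.repr (g (g (g e))) i with hc
  have hsum : g (g (g e)) = c 0 • e + c 1 • g e + c 2 • g (g e) := by
    have := (b0.sum_repr (g (g (g e)))).symm
    rw [Fin.sum_univ_three, hb0 0, hb0 1, hb0 2] at this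
    simpa using this
  obtain ⟨b, hb, hM⟩ := exists_basis_toMatrix h3 ![e, g e, g (g e)] hli g
    !![0, 0, c 0; 1, 0, c 1; 0, 1, c 2]
    (by
      intro j
      rw [Fin.sum_univ_three]
      fin_cases j
      · simp
      · simp
      · simp [hsum])
  have hdet' : (!![0, 0, c 0; 1, 0, c 1; 0, 1, c 2] : Matrix (Fin 3) (Fin 3) K).det = 1 := by
    rw [← hM, LinearMap.det_toMatrix, hdet]
  rw [Matrix.det_fin_three] at hdet'
  have hc0 : c 0 = 1 := by simpa using hdet'
  refine ⟨b, c 1, c 2, ?_⟩
  rw [hM, hc0]
  rfl

/-- B3 -/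
theorem basis_of_rank_one [FiniteDimensional K V] (h3 : Module.finrank K V = 3)
    (g : Module.End K V) (a : K) (α : Module.Dual K V) (x : V)
    (hg : g = a • (1 : Module.End K V) + LinearMap.smulRight α x) (hns : ∀ c : K, g ≠ c • (1 : Module.End K V)) :
    ∃ b : Module.Basis (Fin 3) K V, LinearMap.toMatrix b b g = !![a, 1, 0; 0, a, 0; 0, 0, a] ∨
      ∃ κ : K, κ ≠ 0 ∧ LinearMap.toMatrix b b g = !![a + κ, 0, 0; 0, a, 0; 0, 0, a] := by
  have hgv : ∀ v : V, g v = a • v + α v • x := by
    intro v
    rw [hg]
    simp [LinearMap.smulRight_apply]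
  have hα : α ≠ 0 := by
    intro h0
    apply hns a
    apply LinearMap.ext
    intro v
    rw [hgv v, h0]
    simp
  have hx : x ≠ 0 := by
    intro h0
    apply hns a
    apply LinearMap.ext
    intro v
    rw [hgv v, h0]
    simp
  have hker : Module.finrank K (LinearMap.ker α) = 2 := by
    have := Module.Dual.finrank_ker_add_one_of_ne_zero hα
    omega
  by_cases hαx : α x = 0
  · -- transvection-like case
    obtain ⟨v2, hv2⟩ : ∃ v2 : V, α v2 = 1 := by
      obtain ⟨v, hv⟩ : ∃ v : V, α v ≠ 0 := by
        by_contra hcon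
        push Not at hcon
        exact hα (LinearMap.ext hcon)
      refine ⟨(α v)⁻¹ • v, ?_⟩
      rw [map_smul, smul_eq_mul, inv_mul_cancel₀ hv]
    -- v3 in ker α not in span {x}
    obtain ⟨v3, hv3k, hv3⟩ : ∃ v3 : V, α v3 = 0 ∧ v3 ∉ Submodule.span K {x} := by
      by_contra hcon
      push Not at hcon
      have hle : LinearMap.ker α ≤ Submodule.span K {x} := fun v hv => hcon v (LinearMap.mem_ker.mp hv)
      have h1 := Submodule.finrank_mono hle
      rw [hker, finrank_span_singleton hx] at h1
      omega
    have hli : LinearIndependent K ![x, v2, v3] := by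
      apply li_three
      intro c0 c1 c2 hc
      have h1 : c1 = 0 := by
        have := congrArg α hc
        simpa [hαx, hv2, hv3k] using this
      rw [h1, zero_smul, add_zero] at hc
      have h2 : c2 = 0 := by
        by_contra h2
        apply hv3
        rw [Submodule.mem_span_singleton]
        refine ⟨-(c2⁻¹ * c0), ?_⟩
        have : c2 • v3 = -(c0 • x) := eq_neg_of_add_eq_zero_right hc
        calc (-(c2⁻¹ * c0)) • x = c2⁻¹ • (-(c0 • x)) := by rw [neg_smul, mul_smul, smul_neg]
          _ = c2⁻¹ • (c2 • v3) := by rw [this]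
          _ = v3 := by rw [smul_smul, inv_mul_cancel₀ h2, one_smul]
      rw [h2, zero_smul, add_zero] at hc
      have h0 : c0 = 0 := by
        rcases smul_eq_zero.mp hc with h | h
        · exact h
        · exact absurd h hx
      exact ⟨h0, h1, h2⟩
    obtain ⟨b, hb, hM⟩ := exists_basis_toMatrix h3 ![x, v2, v3] hli g
      !![a, 1, 0; 0, a, 0; 0, 0, a]
      (by
        intro j
        rw [Fin.sum_univ_three]
        fin_cases j
        · simp [hgv, hαx]
        · simp [hgv, hv2, add_comm]
        · simp [hgv, hv3k])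
    exact ⟨b, Or.inl hM⟩
  · -- diagonalizable case
    let bk : Module.Basis (Fin 2) K (LinearMap.ker α) := Module.finBasisOfFinrankEq K _ hker
    have hbk : ∀ i, α (bk i : V) = 0 := fun i => LinearMap.mem_ker.mp (bk i).2
    have hli : LinearIndependent K ![x, (bk 0 : V), (bk 1 : V)] := by
      apply li_three
      intro c0 c1 c2 hc
      have h0 : c0 = 0 := by
        have := congrArg α hc
        simp only [map_add, map_smul, hbk, smul_eq_mul, mul_zero, add_zero, map_zero] at this
        rcases mul_eq_zero.mp this with h | h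
        · exact h
        · exact absurd h hαx
      rw [h0, zero_smul, zero_add] at hc
      have hli2 := bk.linearIndependent
      rw [Fintype.linearIndependent_iff] at hli2
      have := hli2 ![c1, c2] (by
        rw [Fin.sum_univ_two]
        apply Subtype.ext
        simpa using hc)
      exact ⟨h0, by simpa using this 0, by simpa using this 1⟩
    obtain ⟨b, hb, hM⟩ := exists_basis_toMatrix h3 ![x, (bk 0 : V), (bk 1 : V)] hli g
      !![a + α x, 0, 0; 0, a, 0; 0, 0, a]
      (by
        intro j
        rw [Fin.sum_univ_three]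
        fin_cases j
        · simp [hgv, add_smul]
        · simp [hgv, hbk]
        · simp [hgv, hbk])
    exact ⟨b, Or.inr ⟨α x, hαx, hM⟩⟩

end partB

end Cfsg.Agent.Lib.Helper2.P3T
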