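import Mathlib
import Cfsg.Agent.Lib.Helper5.TwAutDefs
import Cfsg.Agent.Lib.Helper5.ChevDiag
import Cfsg.Agent.Lib.Helper5.ChevBNPair
import Cfsg.Agent.Lib.Helper7.ChCentA

set_option autoImplicit false

/-!
TWISTED-OUT farm, unit T2: `⟨X_{p_i} : i ∈ J⟩ ∩ G1 = {x_J(t) | t ∈ K_J}`, and likewise for the
negative roots.
-/

namespace Cfsg.Agent.Lib.Helper6.TwAutT2

open Cfsg Cfsg.Lie Cfsg.Agent.Lib.Helper5.ChevStruct Cfsg.Agent.Lib.Helper5.ChevSym
open Cfsg.Agent.Lib.Helper5.TwAut Cfsg.Agent.Lib.Helper5.RankOneHom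

section words

variable {K : Type*} [Field K] (D : ChevalleyDatum) (hD : D ∈ Seven)

theorem h6_xGL_zero (r : ℕ) : xGL D hD r (0 : K) = 1 := by
  apply Units.ext
  rw [xGL_val, x_at_zero]
  rfl

theorem h6_word_cons (L : List ℕ) (k : ℕ) (ρ : ℕ → ℕ) (s : ℕ → K) :
    wordGL D hD ((k :: L).map fun i => (ρ i, s i))
      = xGL D hD (ρ k) (s k) * wordGL D hD (L.map fun i => (ρ i, s i)) := by
  simp [wordGL]

theorem h6_word_zero (L : List ℕ) (ρ : ℕ → ℕ) (s : ℕ → K) (hs : ∀ i ∈ L, s i = 0) :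
    wordGL D hD (L.map fun i => (ρ i, s i)) = 1 := by
  induction L with
  | nil => simp [wordGL]
  | cons k L ih =>
    rw [h6_word_cons, hs k (List.mem_cons_self ..), h6_xGL_zero, one_mul]
    exact ih fun i hi => hs i (List.mem_cons_of_mem _ hi)

theorem h6_word_congr (L : List ℕ) (ρ : ℕ → ℕ) (s s' : ℕ → K) (hs : ∀ i ∈ L, s i = s' i) :
    wordGL D hD (L.map fun i => (ρ i, s i)) = wordGL D hD (L.map fun i => (ρ i, s' i)) := by
  congr 1
  apply List.map_congr_left
  intro i hi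
  rw [hs i hi]

theorem h6_word_single (L : List ℕ) (ρ : ℕ → ℕ) (hnd : L.Nodup) (i : ℕ) (hi : i ∈ L) (t : K) :
    wordGL D hD (L.map fun j => (ρ j, if j = i then t else 0)) = xGL D hD (ρ i) t := by
  induction L with
  | nil => exact absurd hi (List.not_mem_nil)
  | cons k L ih =>
    rw [h6_word_cons]
    rw [List.nodup_cons] at hnd
    rcases List.mem_cons.1 hi with rfl | hi'
    · rw [if_pos rfl, h6_word_zero, mul_one]
      intro j hj
      rw [if_neg]
      rintro rfl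
      exact hnd.1 hj
    · have hki : k ≠ i := by
        rintro rfl
        exact hnd.1 hi'
      rw [if_neg hki, h6_xGL_zero, one_mul]
      exact ih hnd.2 hi'

theorem h6_word_mem (L : List ℕ) (ρ : ℕ → ℕ) (s : ℕ → K) (T : Set ℕ) (hT : ∀ i ∈ L, ρ i ∈ T) :
    wordGL D hD (L.map fun i => (ρ i, s i)) ∈ rootSetSub D K T := by
  apply wordGL_mem_rootSetSub
  intro q hq
  rw [List.mem_map] at hq
  obtain ⟨i, hi, rfl⟩ := hq
  exact hT i hi

/-- every element of the group generated by commuting root subgroups is a word -/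
theorem h6_exists_word (L : List ℕ) (ρ : ℕ → ℕ)
    (hpw : L.Pairwise fun i j => commOK D (ρ i) (ρ j) = true) (hnd : L.Nodup)
    (g : GL D.Idx K) (hg : g ∈ rootSetSub D K {r | ∃ i ∈ L, r = ρ i}) :
    ∃ s : ℕ → K, g = wordGL D hD (L.map fun i => (ρ i, s i)) := by
  unfold rootSetSub at hg
  induction hg using Subgroup.closure_induction with
  | mem y hy =>
    obtain ⟨r, t, ⟨i, hi, rfl⟩, hy⟩ := hy
    refine ⟨fun j => if j = i then t else 0, ?_⟩
    rw [h6_word_single D hD L ρ hnd i hi t]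
    apply Units.ext
    rw [hy, xGL_val]
  | one =>
    exact ⟨fun _ => 0, (h6_word_zero D hD L ρ _ fun _ _ => rfl).symm⟩
  | mul a b _ _ ha hb =>
    obtain ⟨s, rfl⟩ := ha
    obtain ⟨s', rfl⟩ := hb
    exact ⟨fun i => s i + s' i, (word_add D hD L ρ hpw s s').symm⟩
  | inv a _ ha =>
    obtain ⟨s, rfl⟩ := ha
    refine ⟨fun i => -s i + 0, ?_⟩
    apply inv_eq_of_mul_eq_one_left
    have h1 := word_add D hD L ρ hpw (fun i => -s i + 0) s
    rw [← h1]
    apply h6_word_zero
    intro i _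
    ring

/-- extraction of one factor from a commuting word -/
theorem h6_word_extract (L : List ℕ) (ρ : ℕ → ℕ)
    (hpw : L.Pairwise fun i j => commOK D (ρ i) (ρ j) = true) (hnd : L.Nodup) (s : ℕ → K)
    (i : ℕ) (hi : i ∈ L) :
    ∃ r ∈ rootSetSub D K {q | ∃ j ∈ L, j ≠ i ∧ q = ρ j},
      wordGL D hD (L.map fun j => (ρ j, s j)) = xGL D hD (ρ i) (s i) * r := by
  induction L with
  | nil => exact absurd hi (List.not_mem_nil)
  | cons k L ih =>
    rw [h6_word_cons]
    rw [List.nodup_cons] at hnd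
    rw [List.pairwise_cons] at hpw
    rcases List.mem_cons.1 hi with rfl | hi'
    · refine ⟨_, ?_, rfl⟩
      apply h6_word_mem
      intro j hj
      refine ⟨j, List.mem_cons_of_mem _ hj, ?_, rfl⟩
      rintro rfl
      exact hnd.1 hj
    · obtain ⟨r, hr, e⟩ := ih hpw.2 hnd.2 hi'
      have hki : k ≠ i := by
        rintro rfl
        exact hnd.1 hi'
      refine ⟨xGL D hD (ρ k) (s k) * r, ?_, ?_⟩
      · apply mul_mem
        · exact xGL_mem_rootSetSub D hD {q | ∃ j ∈ k :: L, j ≠ i ∧ q = ρ j} (ρ k)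
            ⟨k, List.mem_cons_self .., hki, rfl⟩ _
        · refine rootSetSub_mono D ?_ hr
          rintro q ⟨j, hj, hji, rfl⟩
          exact ⟨j, List.mem_cons_of_mem _ hj, hji, rfl⟩
      · rw [e]
        have hc := xGL_commute D hD (ρ k) (ρ i) (hpw.1 i hi') (s k) (s i)
        rw [← mul_assoc, hc.eq, mul_assoc]

/-- conjugation by `n_i` preserves `⟨X_s : s ∈ T⟩` when `w_i` fixes `T` pointwise -/
theorem h6_nGL_conj_rootSetSub (i : ℕ) (hi : i < D.rank) (T : Set ℕ)
    (hT : ∀ s ∈ T, s < D.nroots ∧ D.reflectRoot i s = s) (g : GL D.Idx K)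
    (hg : g ∈ rootSetSub D K T) :
    nGL D hD i * g * (nGL D hD i)⁻¹ ∈ rootSetSub D K T := by
  unfold rootSetSub at hg
  induction hg using Subgroup.closure_induction with
  | mem y hy =>
    obtain ⟨s, t, hs, hy⟩ := hy
    have h1 := nGL_conj D hD i hi s (hT s hs).1 t y hy
    rw [(hT s hs).2] at h1
    exact Subgroup.subset_closure ⟨s, _, hs, h1⟩
  | one =>
    simp only [mul_one, mul_inv_cancel]
    exact one_mem _
  | mul a b _ _ ha hb =>
    have e : nGL D hD i * (a * b) * (nGL D hD i)⁻¹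
        = (nGL D hD i * a * (nGL D hD i)⁻¹) * (nGL D hD i * b * (nGL D hD i)⁻¹) := by group
    rw [e]
    exact mul_mem ha hb
  | inv a _ ha =>
    have e : nGL D hD i * a⁻¹ * (nGL D hD i)⁻¹ = (nGL D hD i * a * (nGL D hD i)⁻¹)⁻¹ := by
      group
    rw [e]
    exact inv_mem ha

/-- `X_{±p_i} ∩ ⟨X_s : s ∈ T⟩ = 1` when `T` consists of roots of the same sign fixed by `w_i` -/
theorem h6_head_zero (i : ℕ) (hi : i < D.rank) (r : ℕ) (T : Set ℕ)
    (hT : ∀ s ∈ T, s < D.nroots ∧ D.reflectRoot i s = s)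
    (hsign : (r = D.simple i ∧ ∀ s ∈ T, D.IsPosRoot s) ∨
      (r = D.neg (D.simple i) ∧ ∀ s ∈ T, D.IsNegRoot s))
    (c : K) (h : xGL D hD r c ∈ rootSetSub D K T) : c = 0 := by
  have hsl := simple_lt D hD i hi
  have hneg := neg_lt D hD (D.simple i) hsl
  have h1 := h6_nGL_conj_rootSetSub D hD i hi T hT _ h
  have hr : r < D.nroots := by
    rcases hsign with ⟨rfl, -⟩ | ⟨rfl, -⟩
    · exact hsl
    · exact hneg.1
  have h2 := nGL_conj D hD i hi r hr c (xGL D hD r c) (xGL_val D hD r c)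
  have h3 : nGL D hD i * xGL D hD r c * (nGL D hD i)⁻¹
      = xGL D hD (D.reflectRoot i r) ((eta D i r : K) * c) := by
    apply Units.ext
    rw [h2, xGL_val]
  rw [h3] at h1
  have hrr : D.reflectRoot i r < D.nroots := by
    rcases hsign with ⟨rfl, -⟩ | ⟨rfl, -⟩
    · rw [reflectRoot_simple]; exact hneg.1
    · rw [reflectRoot_neg D hD i hi _ hsl, reflectRoot_simple, hneg.2.2]; exact hsl
  have hone : xGL D hD (D.reflectRoot i r) ((eta D i r : K) * c) = 1 := by
    have hbot := borel_inf_neg (F := K) D hD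
    rw [eq_bot_iff] at hbot
    rcases hsign with ⟨rfl, hpos⟩ | ⟨rfl, hnegT⟩
    · have hB : xGL D hD (D.reflectRoot i (D.simple i)) ((eta D i (D.simple i) : K) * c)
          ∈ D.borelSubgroup K :=
        pos_le_borel D (rootSetSub_le_pos D T hpos h1)
      have hV : xGL D hD (D.reflectRoot i (D.simple i)) ((eta D i (D.simple i) : K) * c)
          ∈ D.negUnipotent K := by
        rw [reflectRoot_simple]
        exact xGL_mem_neg D hD _ (isNegRoot_neg_simple D hD i hi) _
      exact Subgroup.mem_bot.1 (hbot ⟨hB, hV⟩)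
    · have hV : xGL D hD (D.reflectRoot i (D.neg (D.simple i)))
          ((eta D i (D.neg (D.simple i)) : K) * c) ∈ D.negUnipotent K := by
        have : rootSetSub D K T ≤ D.negUnipotent K := by
          unfold rootSetSub ChevalleyDatum.negUnipotent
          apply Subgroup.closure_mono
          rintro g ⟨s, t, hs, hg⟩
          exact ⟨s, t, hnegT s hs, hg⟩
        exact this h1
      have hB : xGL D hD (D.reflectRoot i (D.neg (D.simple i)))
          ((eta D i (D.neg (D.simple i)) : K) * c) ∈ D.borelSubgroup K := by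
        rw [reflectRoot_neg D hD i hi _ hsl, reflectRoot_simple, hneg.2.2]
        exact pos_le_borel D (xGL_mem_pos D hD _ (simple_pos D hD i hi) _)
      exact Subgroup.mem_bot.1 (hbot ⟨hB, hV⟩)
  rw [← h6_xGL_zero D hD (D.reflectRoot i r)] at hone
  have h4 := Cfsg.Agent.Lib.Helper7.ChCent.xGL_inj' D hD _ hrr _ _ hone
  rcases eta_sq D hD i hi r hr with h5 | h5
  · rw [h5] at h4
    simpa using h4
  · rw [h5] at h4
    simpa using h4

end words

section main

variable {K : Type*} [Field K] [Fintype K] (D : ChevalleyDatum) (hD : D ∈ Seven) (G : GraphData)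
  (hp : checkGraphPerm D G = true) (f : K →+* K) (rho : Equiv.Perm (Fin D.rank))
  (orbs : List (List ℕ)) (G1 : Subgroup (GL D.Idx K)) (m : ℕ)
  (hyp : TwAutHyp D hD G hp f rho orbs G1 m)

theorem h6_rhoN_eq (i : ℕ) (hi : i < D.rank) : rhoN D.rank rho i = (rho ⟨i, hi⟩).val := by
  unfold rhoN
  rw [dif_pos hi]

theorem h6_rhoN_lt (i : ℕ) (hi : i < D.rank) : rhoN D.rank rho i < D.rank := by
  rw [h6_rhoN_eq D rho i hi]
  exact (rho ⟨i, hi⟩).2

theorem h6_rhoN_inj (i j : ℕ) (hi : i < D.rank) (hj : j < D.rank)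
    (h : rhoN D.rank rho i = rhoN D.rank rho j) : i = j := by
  rw [h6_rhoN_eq D rho i hi, h6_rhoN_eq D rho j hj] at h
  have := rho.injective (Fin.ext h)
  exact congrArg Fin.val this

theorem h6_getD_idxOf (J : List ℕ) (i : ℕ) (hi : i ∈ J) :
    J.idxOf i < J.length ∧ J.getD (J.idxOf i) 0 = i := by
  have h1 : J.idxOf i < J.length := List.idxOf_lt_length_of_mem hi
  refine ⟨h1, ?_⟩
  rw [List.getD_eq_getElem _ _ h1]
  exact List.getElem_idxOf h1

theorem h6_getD_mem (J : List ℕ) (j : ℕ) (hj : j < J.length) : J.getD j 0 ∈ J := by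
  rw [List.getD_eq_getElem _ _ hj]
  exact List.getElem_mem hj

include hyp in
theorem h6_rhoN_mem (J : List ℕ) (hJ : J ∈ orbs) (i : ℕ) (hi : i ∈ J) :
    rhoN D.rank rho i ∈ J := by
  obtain ⟨h1, h2⟩ := h6_getD_idxOf J i hi
  have h3 := hyp.hcyc J hJ _ h1
  rw [h2] at h3
  rw [h3]
  apply h6_getD_mem
  exact Nat.mod_lt _ (lt_of_le_of_lt (Nat.zero_le _) h1)

/-- the two families of roots attached to the nodes -/
def h6rt (D : ChevalleyDatum) (b : Bool) (i : ℕ) : ℕ :=
  if b then D.simple i else D.neg (D.simple i)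

theorem h6rt_true (i : ℕ) : h6rt D true i = D.simple i := by simp [h6rt]

theorem h6rt_false (i : ℕ) : h6rt D false i = D.neg (D.simple i) := by simp [h6rt]

theorem h6_orth_all (J : List ℕ) (horth : checkOrth D J = true) (i j : ℕ) (hi : i ∈ J)
    (hj : j ∈ J) (hij : i ≠ j) (b : Bool) :
    commOK D (h6rt D b i) (h6rt D b j) = true := by
  unfold checkOrth at horth
  rw [List.all_eq_true] at horth
  have h1 := horth i hi
  rw [List.all_eq_true] at h1
  have h2 := h1 j hj
  have h3 : Nat.beq i j = false := by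
    rw [← Bool.not_eq_true, Nat.beq_eq]
    exact hij
  rw [h3, Bool.false_or] at h2
  simp only [Bool.and_eq_true] at h2
  cases b
  · rw [h6rt_false, h6rt_false]; exact h2.2
  · rw [h6rt_true, h6rt_true]; exact h2.1.1.1

include hyp in
theorem h6_pairwise (J : List ℕ) (hJ : J ∈ orbs) (b : Bool) :
    J.Pairwise (fun i j => commOK D (h6rt D b i) (h6rt D b j) = true) := by
  have hnd : J.Nodup := hyp.bn.hO.nodup J hJ
  refine List.Pairwise.imp_of_mem ?_ hnd
  intro i j hi hj hij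
  exact h6_orth_all D J (hyp.horth J hJ) i j hi hj hij b

include hyp in
theorem h6_pairwise' (J : List ℕ) (hJ : J ∈ orbs) (b : Bool) :
    J.Pairwise (fun i j => commOK D (h6rt D b (rhoN D.rank rho i))
      (h6rt D b (rhoN D.rank rho j)) = true) := by
  have hnd : J.Nodup := hyp.bn.hO.nodup J hJ
  refine List.Pairwise.imp_of_mem ?_ hnd
  intro i j hi hj hij
  apply h6_orth_all D J (hyp.horth J hJ) _ _ (h6_rhoN_mem D hD G hp f rho orbs G1 m hyp J hJ i hi)
    (h6_rhoN_mem D hD G hp f rho orbs G1 m hyp J hJ j hj)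
  intro h
  exact hij (h6_rhoN_inj D rho i j (hyp.bn.hO.wd J hJ i hi) (hyp.bn.hO.wd J hJ j hj) h)

include hD in
theorem h6rt_lt (b : Bool) (i : ℕ) (hi : i < D.rank) : h6rt D b i < D.nroots := by
  cases b
  · rw [h6rt_false]
    exact (Cfsg.Agent.Lib.Helper5.ChevStruct.neg_lt D hD _ (simple_lt D hD i hi)).1
  · rw [h6rt_true]
    exact simple_lt D hD i hi

include hyp in
/-- `σ` on a word along an orbit -/
theorem h6_sigma_word (J : List ℕ) (hJ : J ∈ orbs) (b : Bool) (a : ℕ → K) :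
    sigma D G hp f (wordGL D hD (J.map fun i => (h6rt D b i, a i)))
      = wordGL D hD (J.map fun i => (h6rt D b (rhoN D.rank rho i), f (a i))) := by
  rw [sigma_wordGL D hD G hp hyp.bn.hG f]
  · rw [List.map_map]
    congr 1
    apply List.map_congr_left
    intro i hi
    have hir : i < D.rank := hyp.bn.hO.wd J hJ i hi
    obtain ⟨h1, h2, h3, h4, -, -⟩ := hyp.bn.hrho ⟨i, hir⟩
    simp only [Function.comp]
    rw [h6_rhoN_eq D rho i hir]
    cases b
    · rw [h6rt_false, h6rt_false]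
      simp only at h2 h4
      rw [h2, h4]
      simp
    · rw [h6rt_true, h6rt_true]
      simp only at h1 h3
      rw [h1, h3]
      simp
  · intro p hp'
    rw [List.mem_map] at hp'
    obtain ⟨i, hi, rfl⟩ := hp'
    exact h6rt_lt D hD b i (hyp.bn.hO.wd J hJ i hi)

include hyp in
/-- a `σ`-fixed word along an orbit has `ρ`-compatible parameters -/
theorem h6_compat (J : List ℕ) (hJ : J ∈ orbs) (b : Bool) (a : ℕ → K)
    (hfix : wordGL D hD (J.map fun i => (h6rt D b i, a i)) ∈ G1) :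
    ∀ i ∈ J, a (rhoN D.rank rho i) = f (a i) := by
  intro i₀ hi₀
  have hnd : J.Nodup := hyp.bn.hO.nodup J hJ
  have hwd := hyp.bn.hO.wd J hJ
  have hmem := h6_rhoN_mem D hD G hp f rho orbs G1 m hyp J hJ
  have hsf : wordGL D hD (J.map fun i => (h6rt D b i, a i)) ∈ sigmaFix D G hp f := by
    have := hyp.bn.hG1
    rw [this] at hfix
    exact (Subgroup.mem_inf.1 hfix).2
  rw [mem_sigmaFix, h6_sigma_word D hD G hp f rho orbs G1 m hyp J hJ b a] at hsf
  set i₁ := rhoN D.rank rho i₀ with hi₁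
  have hi₁J : i₁ ∈ J := hmem i₀ hi₀
  obtain ⟨r₁, hr₁, e₁⟩ := h6_word_extract D hD J (fun i => h6rt D b (rhoN D.rank rho i))
    (h6_pairwise' D hD G hp f rho orbs G1 m hyp J hJ b) hnd (fun i => f (a i)) i₀ hi₀
  obtain ⟨r₂, hr₂, e₂⟩ := h6_word_extract D hD J (fun i => h6rt D b i)
    (h6_pairwise D hD G hp f rho orbs G1 m hyp J hJ b) hnd a i₁ hi₁J
  rw [e₁, e₂] at hsf
  have hr₁' : r₁ ∈ rootSetSub D K {q | ∃ j ∈ J, j ≠ i₁ ∧ q = h6rt D b j} := by
    refine rootSetSub_mono D ?_ hr₁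
    rintro q ⟨j, hj, hji, rfl⟩
    refine ⟨rhoN D.rank rho j, hmem j hj, ?_, rfl⟩
    intro h
    exact hji (h6_rhoN_inj D rho j i₀ (hwd j hj) (hwd i₀ hi₀) h)
  have hkey : xGL D hD (h6rt D b i₁) (f (a i₀) - a i₁)
      ∈ rootSetSub D K {q | ∃ j ∈ J, j ≠ i₁ ∧ q = h6rt D b j} := by
    have e : xGL D hD (h6rt D b i₁) (f (a i₀) - a i₁) = r₂ * r₁⁻¹ := by
      have h1 : f (a i₀) - a i₁ = -(a i₁) + f (a i₀) := by ring
      rw [h1, xGL_add]
      have h2 : xGL D hD (h6rt D b i₁) (-(a i₁)) = (xGL D hD (h6rt D b i₁) (a i₁))⁻¹ := by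
        apply eq_inv_of_mul_eq_one_left
        rw [← xGL_add, neg_add_cancel, h6_xGL_zero]
      rw [h2]
      have h3 : xGL D hD (h6rt D b i₁) (f (a i₀)) = xGL D hD (h6rt D b i₁) (a i₁) * r₂ * r₁⁻¹ := by
        rw [← hsf, mul_inv_cancel_right]
      rw [h3]
      group
    rw [e]
    exact mul_mem hr₂ (inv_mem hr₁')
  have hi₁r : i₁ < D.rank := hwd i₁ hi₁J
  have hzero := h6_head_zero D hD i₁ hi₁r (h6rt D b i₁)
    {q | ∃ j ∈ J, j ≠ i₁ ∧ q = h6rt D b j} ?_ ?_ _ hkey
  · exact (sub_eq_zero.1 hzero).symm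
  · rintro s ⟨j, hj, hji, rfl⟩
    refine ⟨h6rt_lt D hD b j (hwd j hj), ?_⟩
    have ho := hyp.bn.hO.orth J hJ i₁ hi₁J j hj (Ne.symm hji)
    cases b
    · rw [h6rt_false, reflectRoot_neg D hD i₁ hi₁r _ (simple_lt D hD j (hwd j hj)), ho]
    · rw [h6rt_true]
      exact ho
  · cases b
    · right
      refine ⟨h6rt_false D i₁, ?_⟩
      rintro s ⟨j, hj, -, rfl⟩
      rw [h6rt_false]
      exact isNegRoot_neg_simple D hD j (hwd j hj)
    · left
      refine ⟨h6rt_true D i₁, ?_⟩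
      rintro s ⟨j, hj, -, rfl⟩
      rw [h6rt_true]
      exact simple_pos D hD j (hwd j hj)

end main

section final

variable {K : Type*} [Field K] [Fintype K] (D : ChevalleyDatum) (hD : D ∈ Seven) (G : GraphData)
  (hp : checkGraphPerm D G = true) (f : K →+* K) (rho : Equiv.Perm (Fin D.rank))
  (orbs : List (List ℕ)) (G1 : Subgroup (GL D.Idx K)) (m : ℕ)
  (hyp : TwAutHyp D hD G hp f rho orbs G1 m)

theorem h6_pow_succ_apply (j : ℕ) (t : K) : (f ^ (j + 1)) t = f ((f ^ j) t) := by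
  rw [pow_succ']
  rfl

include hyp in
/-- `ρ`-compatible parameters along an orbit come from one parameter in `K_J` -/
theorem h6_exists_param (J : List ℕ) (hJ : J ∈ orbs) (a : ℕ → K)
    (hc : ∀ i ∈ J, a (rhoN D.rank rho i) = f (a i)) :
    ∃ t, InK f J t ∧ ∀ i ∈ J, a i = sT f J t i := by
  have hn : 0 < J.length := List.length_pos_iff.2 (hyp.hne J hJ)
  have key : ∀ j, j < J.length → a (J.getD j 0) = (f ^ j) (a (J.getD 0 0)) := by
    intro j
    induction j with
    | zero =>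
      intro _
      rw [pow_zero]
      rfl
    | succ j ih =>
      intro hj
      have hj' : j < J.length := Nat.lt_of_succ_lt hj
      have h1 := hyp.hcyc J hJ j hj'
      rw [Nat.mod_eq_of_lt hj] at h1
      have h2 := hc _ (h6_getD_mem J j hj')
      rw [h1, ih hj'] at h2
      rw [h2, h6_pow_succ_apply]
  refine ⟨a (J.getD 0 0), ?_, ?_⟩
  · unfold InK
    obtain ⟨k, hk⟩ : ∃ k, J.length = k + 1 := ⟨J.length - 1, by omega⟩
    have hk' : k < J.length := by omega
    have h1 := hyp.hcyc J hJ k hk'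
    have h3 : (k + 1) % J.length = 0 := by rw [← hk]; exact Nat.mod_self _
    rw [h3] at h1
    have h2 := hc _ (h6_getD_mem J k hk')
    rw [h1, key k hk'] at h2
    rw [hk, h6_pow_succ_apply, ← h2]
  · intro i hi
    obtain ⟨h1, h2⟩ := h6_getD_idxOf J i hi
    have := key _ h1
    rw [h2] at this
    rw [this]
    rfl

theorem h6_posJ_eq (J : List ℕ) : posJ D J = {r | ∃ i ∈ J, r = h6rt D true i} := by
  ext r
  unfold posJ
  simp only [Set.mem_setOf_eq, h6rt_true]

theorem h6_negJ_eq (J : List ℕ) : negJ D J = {r | ∃ i ∈ J, r = h6rt D false i} := by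
  ext r
  unfold negJ
  simp only [Set.mem_setOf_eq, h6rt_false]

include hyp in
/-- T2a -/
theorem exists_xT_of_mem (J : List ℕ) (hJ : J ∈ orbs) (g : GL D.Idx K)
    (hg : g ∈ rootSetSub D K (posJ D J)) (hg1 : g ∈ G1) :
    ∃ t, InK f J t ∧ g = xT D hD f J t := by
  rw [h6_posJ_eq] at hg
  obtain ⟨a, rfl⟩ := h6_exists_word D hD J (h6rt D true)
    (h6_pairwise D hD G hp f rho orbs G1 m hyp J hJ true) (hyp.bn.hO.nodup J hJ) g hg
  have hc := h6_compat D hD G hp f rho orbs G1 m hyp J hJ true a hg1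
  obtain ⟨t, ht, hat⟩ := h6_exists_param D hD G hp f rho orbs G1 m hyp J hJ a hc
  refine ⟨t, ht, ?_⟩
  unfold xT
  congr 1
  apply List.map_congr_left
  intro i hi
  rw [h6rt_true, hat i hi]

include hyp in
/-- T2b -/
theorem exists_yT_of_mem (J : List ℕ) (hJ : J ∈ orbs) (g : GL D.Idx K)
    (hg : g ∈ rootSetSub D K (negJ D J)) (hg1 : g ∈ G1) :
    ∃ t, InK f J t ∧ g = yT D hD f J t := by
  rw [h6_negJ_eq] at hg
  obtain ⟨a, rfl⟩ := h6_exists_word D hD J (h6rt D false)
    (h6_pairwise D hD G hp f rho orbs G1 m hyp J hJ false) (hyp.bn.hO.nodup J hJ) g hg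
  have hc := h6_compat D hD G hp f rho orbs G1 m hyp J hJ false a hg1
  obtain ⟨t, ht, hat⟩ := h6_exists_param D hD G hp f rho orbs G1 m hyp J hJ a hc
  refine ⟨t, ht, ?_⟩
  unfold yT
  congr 1
  apply List.map_congr_left
  intro i hi
  rw [h6rt_false, hat i hi]

end final

end Cfsg.Agent.Lib.Helper6.TwAutT2
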