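import Mathlib
import Cfsg.Agent.Lib.Helper5.TwAutDefs
import Cfsg.Agent.Lib.Helper5.TwAutDefs2
import Cfsg.Agent.Lib.Helper5.ChevTwistCell
import Cfsg.Agent.Lib.Helper5.ChevGroupCard
import Cfsg.Agent.Lib.Helper5.ChevWCount
import Cfsg.Agent.Lib.Helper7.ChA1
import Cfsg.Agent.Lib.Helper1.TwAutT1
import Cfsg.Agent.Lib.Helper2.TwAutT3
import Cfsg.Agent.Lib.Helper4.TwAutBabs
import Cfsg.Agent.Lib.Helper6.TwAutT2

set_option autoImplicit false

/-!
TWISTED-OUT farm, unit B2: `P_J ∩ V = X_{-J}` in the twisted group.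
-/

namespace Cfsg.Agent.Lib.Helper6.TwAutB2

open Cfsg Cfsg.Lie Cfsg.Agent.Lib.Helper5.ChevStruct Cfsg.Agent.Lib.Helper5.ChevSym
open Cfsg.Agent.Lib.Helper5.TwAut Cfsg.Agent.Lib.Helper5.RankOneHom

section weyl

variable (D : ChevalleyDatum) (hD : D ∈ Seven)

include hD in
/-- the reflections of an orthogonal set of nodes other than `i` fix `p_i` -/
theorem h6_wAct_fix (J : List ℕ) (i : ℕ)
    (horth : ∀ a ∈ J, D.reflectRoot a (D.simple i) = D.simple i) :
    wAct D J (D.simple i) = D.simple i := by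
  induction J with
  | nil => rfl
  | cons a J ih =>
    have e : wAct D (a :: J) (D.simple i) = D.reflectRoot a (wAct D J (D.simple i)) := rfl
    rw [e, ih (fun b hb => horth b (List.mem_cons_of_mem _ hb)),
      horth a (List.mem_cons_self ..)]

include hD in
/-- the positive roots made negative by the product of orthogonal fundamental reflections -/
theorem h6_neg_of_orth (J : List ℕ) (hwd : ∀ a ∈ J, a < D.rank) (hnd : J.Nodup)
    (horth : ∀ a ∈ J, ∀ b ∈ J, a ≠ b → D.reflectRoot a (D.simple b) = D.simple b)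
    (r : ℕ) (hr : D.IsPosRoot r) (hneg : ¬ D.IsPosRoot (wAct D J r)) :
    ∃ i ∈ J, r = D.simple i := by
  induction J with
  | nil => exact absurd hr hneg
  | cons a J ih =>
    rw [List.nodup_cons] at hnd
    have hwd' : ∀ b ∈ J, b < D.rank := fun b hb => hwd b (List.mem_cons_of_mem _ hb)
    have horth' : ∀ b ∈ J, ∀ c ∈ J, b ≠ c → D.reflectRoot b (D.simple c) = D.simple c :=
      fun b hb c hc => horth b (List.mem_cons_of_mem _ hb) c (List.mem_cons_of_mem _ hc)
    by_cases h1 : D.IsPosRoot (wAct D J r)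
    · have ha : a < D.rank := hwd a (List.mem_cons_self ..)
      have e : wAct D (a :: J) r = D.reflectRoot a (wAct D J r) := rfl
      rw [e] at hneg
      have h2 : wAct D J r = D.simple a := by
        by_contra hne
        exact hneg ((checkCoLin_spec D a (chkCoLin_all D hD a ha) _ h1.1).2 h1 hne)
      have h3 : wAct D J (D.simple a) = D.simple a := by
        apply h6_wAct_fix D hD
        intro b hb
        apply horth b (List.mem_cons_of_mem _ hb) a (List.mem_cons_self ..)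
        rintro rfl
        exact hnd.1 hb
      refine ⟨a, List.mem_cons_self .., ?_⟩
      exact wAct_injective D hD J hwd' r (D.simple a) hr.1 (simple_lt D hD a ha) (h2.trans h3.symm)
    · obtain ⟨i, hi, e⟩ := ih hwd' hnd.2 horth' h1
      exact ⟨i, List.mem_cons_of_mem _ hi, e⟩

end weyl

variable {K : Type*} [Field K] [Fintype K] (D : ChevalleyDatum) (hD : D ∈ Seven) (G : GraphData)
  (hp : checkGraphPerm D G = true) (f : K →+* K) (rho : Equiv.Perm (Fin D.rank))
  (orbs : List (List ℕ)) (G1 : Subgroup (GL D.Idx K)) (m : ℕ)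
  (hyp : TwAutHyp D hD G hp f rho orbs G1 m)

include hyp in
/-- `U_{w_J}^- ≤ ⟨X_{p_i} : i ∈ J⟩` -/
theorem h6_unegSub_le (J : List ℕ) (hJ : J ∈ orbs) :
    unegSub D K J ≤ rootSetSub D K (posJ D J) := by
  unfold unegSub
  apply rootSetSub_mono
  rintro r ⟨hr, hneg⟩
  obtain ⟨i, hi, e⟩ := h6_neg_of_orth D hD J (hyp.bn.hO.wd J hJ) (hyp.bn.hO.nodup J hJ)
    (hyp.bn.hO.orth J hJ) r hr hneg
  exact ⟨i, hi, e⟩

include hyp in
/-- `B n_J B ∩ G1 ⊆ B n_J X_J` -/
theorem h6_cell_node (J : List ℕ) (hJ : J ∈ orbs) (g b₁ b₂ : GL D.Idx K) (hg : g ∈ G1)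
    (hb₁ : b₁ ∈ D.borelSubgroup K) (hb₂ : b₂ ∈ D.borelSubgroup K)
    (e : g = b₁ * wGL D hD J * b₂) :
    ∃ b ∈ D.borelSubgroup K, ∃ t, InK f J t ∧ g = b * wGL D hD J * xT D hD f J t := by
  have hG1 := hyp.bn.hG1
  have hg' : g ∈ D.group K ⊓ sigmaFix D G hp f := by rw [← hG1]; exact hg
  have hn : ∀ J ∈ orbs, wGL D hD J ∈ sigmaFix D G hp f := by
    intro J' hJ'
    have := hyp.bn.hn J' hJ'
    rw [hG1] at this
    exact (Subgroup.mem_inf.1 this).2
  obtain ⟨Js, hJs, c, hc, v, hv, e'⟩ := cell_orbits D hD G hp hyp.bn.hG hyp.bn.hS f rho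
    hyp.bn.hrho orbs hyp.bn.hO hn g (Subgroup.mem_inf.1 hg').1 (Subgroup.mem_inf.1 hg').2
  have hJwd : Wd D J := hyp.bn.hO.wd J hJ
  have hst := stable_flatten D hD G orbs hyp.bn.hO Js hJs
  have hvU : v ∈ D.posUnipotent K :=
    Cfsg.Agent.Lib.Helper7.ChA.unegSub_le_pos D _ (Subgroup.mem_inf.1 hv).1
  have hN := wGL_mem (F := K) D hD J hJwd
  have hN' := wGL_mem (F := K) D hD Js.flatten hst.1
  have hh : (wGL D hD J)⁻¹ * wGL D hD Js.flatten ∈ D.diagonalSubgroup K :=
    bruhat_cell_unique D hD b₁ c (wGL D hD J) (wGL D hD Js.flatten) b₂ v hb₁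
      (Subgroup.mem_inf.1 hc).1 hN hN' hb₂ (pos_le_borel D hvU) (e.symm.trans e')
  have hh2 : wGL D hD Js.flatten * (wGL D hD J)⁻¹ ∈ D.diagonalSubgroup K := by
    have := (conj_monomial_diag_mem D hD _ hN _ hh).1
    have e2 : (wGL D hD Js.flatten * (wGL D hD J)⁻¹ : GL D.Idx K)
        = wGL D hD J * ((wGL D hD J)⁻¹ * wGL D hD Js.flatten) * (wGL D hD J)⁻¹ := by group
    rw [e2]
    exact this
  have hact := (hrel_iff_act_eq D hD _ _ hst.1 hJwd).1 hh2
  have hvJ : v ∈ unegSub D K J := by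
    rw [← unegSub_congr D Js.flatten J hact]
    exact (Subgroup.mem_inf.1 hv).1
  have hvG1 : v ∈ G1 := by
    rw [hG1]
    exact Subgroup.mem_inf.2 ⟨pos_le_group D hD hvU, (Subgroup.mem_inf.1 hv).2⟩
  obtain ⟨t, ht, evt⟩ := Cfsg.Agent.Lib.Helper6.TwAutT2.exists_xT_of_mem D hD G hp f rho orbs G1 m
    hyp J hJ v (h6_unegSub_le D hD G hp f rho orbs G1 m hyp J hJ hvJ) hvG1
  refine ⟨c * (wGL D hD Js.flatten * (wGL D hD J)⁻¹), ?_, t, ht, ?_⟩
  · exact mul_mem (Subgroup.mem_inf.1 hc).1 (diagonal_le_borel D hh2)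
  · rw [e', evt]
    group

include hyp in
/-- B2 : `P_J ∩ V = X_{-J}` -/
theorem parabolic_inf_neg_T (J : List ℕ) (hJ : J ∈ orbs) (g : ↥G1)
    (hg : g ∈ (bnT hyp).parabolic {nT hyp J hJ}) (hV : (g : GL D.Idx K) ∈ D.negUnipotent K) :
    (g : GL D.Idx K) ∈ rootSetSub D K (negJ D J) := by
  have hBV : ∀ y : GL D.Idx K, y ∈ D.borelSubgroup K → y ∈ D.negUnipotent K → y = 1 := by
    intro y h1 h2
    have : y ∈ D.borelSubgroup K ⊓ D.negUnipotent K := ⟨h1, h2⟩
    rw [borel_inf_neg D hD] at this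
    exact this
  have hR := Cfsg.Agent.Lib.Helper2.TwAut.relT D hD G hp f rho orbs G1 m hyp J hJ
  have hwd := hyp.bn.hO.wd J hJ
  have hYV : ∀ t, yT D hD f J t ∈ D.negUnipotent K := by
    intro t
    have h1 := Cfsg.Agent.Lib.Helper1.TwAut.yT_mem_rootSetSub D hD f J t
    have : rootSetSub D K (negJ D J) ≤ D.negUnipotent K := by
      unfold rootSetSub ChevalleyDatum.negUnipotent
      apply Subgroup.closure_mono
      rintro y ⟨s, u, ⟨i, hi, rfl⟩, hy⟩
      exact ⟨_, u, isNegRoot_neg_simple D hD i (hwd i hi), hy⟩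
    exact this h1
  have hXB : ∀ t, xT D hD f J t ∈ D.borelSubgroup K := by
    intro t
    have h1 := Cfsg.Agent.Lib.Helper1.TwAut.xT_mem_rootSetSub D hD f J t
    apply pos_le_borel D
    refine rootSetSub_le_pos D _ ?_ h1
    rintro s ⟨i, hi, rfl⟩
    exact simple_pos D hD i (hwd i hi)
  have hs : nT hyp J hJ ∈ (bnT hyp).S := ⟨J, hJ, rfl⟩
  rcases (Cfsg.Agent.Lib.Helper4.TwAut.h4_mem_parabolic_singleton (bnT hyp) hs g).1 hg with hgB | hgC
  · have hgB' : (g : GL D.Idx K) ∈ D.borelSubgroup K := by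
      have : g ∈ (D.borelSubgroup K ⊓ G1).subgroupOf G1 := hgB
      rw [Subgroup.mem_subgroupOf] at this
      exact (Subgroup.mem_inf.1 this).1
    rw [hBV _ hgB' hV]
    exact one_mem _
  · obtain ⟨b, hb, b', hb', egb⟩ := Cfsg.Agent.Lib.Helper4.BNPair.mem_C.1 hgC
    have hbB : (b : GL D.Idx K) ∈ D.borelSubgroup K := by
      have : b ∈ (D.borelSubgroup K ⊓ G1).subgroupOf G1 := hb
      rw [Subgroup.mem_subgroupOf] at this
      exact (Subgroup.mem_inf.1 this).1
    have hb'B : (b' : GL D.Idx K) ∈ D.borelSubgroup K := by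
      have : b' ∈ (D.borelSubgroup K ⊓ G1).subgroupOf G1 := hb'
      rw [Subgroup.mem_subgroupOf] at this
      exact (Subgroup.mem_inf.1 this).1
    have egb' : (g : GL D.Idx K) = (b : GL D.Idx K) * wGL D hD J * (b' : GL D.Idx K) := by
      have := congrArg Subtype.val egb
      simpa [nT] using this
    obtain ⟨c, hc, t, ht, egc⟩ := h6_cell_node D hD G hp f rho orbs G1 m hyp J hJ _ _ _ g.2
      hbB hb'B egb'
    by_cases ht0 : t = 0
    · exfalso
      -- `g = c n_J`: then `g y_J(1) g⁻¹ ∈ B ∩ V`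
      have hx0 : xT D hD f J 0 = 1 := hR.x_zero
      rw [ht0, hx0, mul_one] at egc
      have hny : wGL D hD J * yT D hD f J 1 * (wGL D hD J)⁻¹ = xT D hD f J (-1) := by
        have := hR.n_y 1
        rw [this]
        group
      have h1 : (g : GL D.Idx K) * yT D hD f J 1 * (g : GL D.Idx K)⁻¹ ∈ D.borelSubgroup K := by
        have e1 : (g : GL D.Idx K) * yT D hD f J 1 * (g : GL D.Idx K)⁻¹
            = c * (wGL D hD J * yT D hD f J 1 * (wGL D hD J)⁻¹) * c⁻¹ := by
          rw [egc]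
          group
        rw [e1, hny]
        exact mul_mem (mul_mem hc (hXB _)) (inv_mem hc)
      have h2 : (g : GL D.Idx K) * yT D hD f J 1 * (g : GL D.Idx K)⁻¹ ∈ D.negUnipotent K :=
        mul_mem (mul_mem hV (hYV 1)) (inv_mem hV)
      have h3 := hBV _ h1 h2
      have h4 : yT D hD f J 1 = 1 := by
        have : yT D hD f J 1
            = (g : GL D.Idx K)⁻¹ * ((g : GL D.Idx K) * yT D hD f J 1 * (g : GL D.Idx K)⁻¹)
              * (g : GL D.Idx K) := by group
        rw [this, h3]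
        group
      have hy0 : yT D hD f J 0 = 1 := by
        have h := Cfsg.Agent.Lib.Helper1.TwAut.yT_add D hD G hp f rho orbs G1 m hyp J hJ 0 0
        rw [add_zero] at h
        exact mul_eq_left.1 h.symm
      rw [← hy0] at h4
      exact one_ne_zero
        (Cfsg.Agent.Lib.Helper1.TwAut.yT_injective D hD G hp f rho orbs G1 m hyp J hJ _ _ h4)
    · -- `n_J x_J(t) = h_J(-t)⁻¹ x_J(-t) y_J(t⁻¹)`
      have hnt : -t ≠ 0 := neg_ne_zero.2 ht0
      have hxyx := hR.xyx (-t) hnt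
      have e1 : wGL D hD J * xT D hD f J t
          = (hT D hD f J (-t))⁻¹ * xT D hD f J (-t) * yT D hD f J t⁻¹ := by
        have e2 : wGL D hD J = (hT D hD f J (-t))⁻¹ *
            (xT D hD f J (-t) * yT D hD f J (-(-t)⁻¹) * xT D hD f J (-t)) := by
          rw [hxyx]
          group
        have e3 : xT D hD f J (-t) * xT D hD f J t = 1 := by
          have := hR.x_add (-t) t
          rw [this, neg_add_cancel]
          exact hR.x_zero
        have e4 : -(-t)⁻¹ = t⁻¹ := by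
          rw [inv_neg, neg_neg]
        rw [e4] at e2
        calc wGL D hD J * xT D hD f J t
            = (hT D hD f J (-t))⁻¹ * (xT D hD f J (-t) * yT D hD f J t⁻¹ * xT D hD f J (-t))
              * xT D hD f J t := by rw [← e2]
          _ = (hT D hD f J (-t))⁻¹ * xT D hD f J (-t) * yT D hD f J t⁻¹
              * (xT D hD f J (-t) * xT D hD f J t) := by group
          _ = _ := by rw [e3, mul_one]
      have hntK : InK f J (-t) :=
        ((Cfsg.Agent.Lib.Helper1.TwAut.inK_props D hD G hp f rho orbs G1 m hyp J hJ).2.2.2.1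
          t ht).1
      have hhB : hT D hD f J (-t) ∈ D.borelSubgroup K :=
        diagonal_le_borel D (Subgroup.mem_inf.1
          (Cfsg.Agent.Lib.Helper2.TwAut.hT_mem D hD G hp f rho orbs G1 m hyp J hJ (-t) hnt hntK)).1
      have e5 : (g : GL D.Idx K) * (yT D hD f J t⁻¹)⁻¹
          = c * (hT D hD f J (-t))⁻¹ * xT D hD f J (-t) := by
        rw [egc, mul_assoc c, e1]
        group
      have h1 : (g : GL D.Idx K) * (yT D hD f J t⁻¹)⁻¹ ∈ D.borelSubgroup K := by
        rw [e5]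
        exact mul_mem (mul_mem hc (inv_mem hhB)) (hXB _)
      have h2 : (g : GL D.Idx K) * (yT D hD f J t⁻¹)⁻¹ ∈ D.negUnipotent K :=
        mul_mem hV (inv_mem (hYV _))
      have h3 := hBV _ h1 h2
      have h4 : (g : GL D.Idx K) = yT D hD f J t⁻¹ := by
        have : (g : GL D.Idx K) = ((g : GL D.Idx K) * (yT D hD f J t⁻¹)⁻¹) * yT D hD f J t⁻¹ := by
          group
        rw [this, h3, one_mul]
      rw [h4]
      exact Cfsg.Agent.Lib.Helper1.TwAut.yT_mem_rootSetSub D hD f J _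

end Cfsg.Agent.Lib.Helper6.TwAutB2
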