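import Mathlib
import Cfsg.Agent.Lib.Helper5.TwAutDefs
import Cfsg.Agent.Lib.Helper5.TwAutDefs2
import Cfsg.Agent.Lib.Helper1.TwAutT1
import Cfsg.Agent.Lib.Helper6.TwAutT2

set_option autoImplicit false

/-!
TWISTED-OUT farm, unit B5: an automorphism mapping `X_{-J} ∩ G1` onto `X_{-J'} ∩ G1` preserves the
size of the node.
-/

namespace Cfsg.Agent.Lib.Helper6.TwAutB5

open Cfsg Cfsg.Lie Cfsg.Agent.Lib.Helper5.ChevStruct Cfsg.Agent.Lib.Helper5.ChevSym
open Cfsg.Agent.Lib.Helper5.TwAut Cfsg.Agent.Lib.Helper5.RankOneHom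

variable {K : Type*} [Field K] [Fintype K] (D : ChevalleyDatum) (hD : D ∈ Seven) (G : GraphData)
  (hp : checkGraphPerm D G = true) (f : K →+* K) (rho : Equiv.Perm (Fin D.rank))
  (orbs : List (List ℕ)) (G1 : Subgroup (GL D.Idx K)) (m : ℕ)
  (hyp : TwAutHyp D hD G hp f rho orbs G1 m)

include hyp in
/-- the parameter fields of `J`, `J'` have the same size if `θ` maps `X_{-J}` to `X_{-J'}` -/
theorem h6_card_inK_le (θ : ↥G1 ≃* ↥G1) (J J' : List ℕ) (hJ : J ∈ orbs) (hJ' : J' ∈ orbs)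
    (h : MapsT G1 θ (rootSetSub D K (negJ D J)) (rootSetSub D K (negJ D J'))) :
    Nat.card {t : K // InK f J t} ≤ Nat.card {t : K // InK f J' t} := by
  have hex : ∀ t : {t : K // InK f J t}, ∃ t' : {t : K // InK f J' t},
      (θ ⟨yT D hD f J t.1, Cfsg.Agent.Lib.Helper1.TwAut.yT_mem D hD G hp f rho orbs G1 m hyp
        J hJ t.1 t.2⟩ : GL D.Idx K) = yT D hD f J' t'.1 := by
    intro t
    have h1 := (h ⟨yT D hD f J t.1, Cfsg.Agent.Lib.Helper1.TwAut.yT_mem D hD G hp f rho orbs G1 m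
      hyp J hJ t.1 t.2⟩).2 (Cfsg.Agent.Lib.Helper1.TwAut.yT_mem_rootSetSub D hD f J t.1)
    obtain ⟨t', ht', e⟩ := Cfsg.Agent.Lib.Helper6.TwAutT2.exists_yT_of_mem D hD G hp f rho orbs G1
      m hyp J' hJ' _ h1 (θ _).2
    exact ⟨⟨t', ht'⟩, e⟩
  choose F hF using hex
  apply Nat.card_le_card_of_injective F
  intro t₁ t₂ e
  have h1 := hF t₁
  have h2 := hF t₂
  rw [e, ← h2] at h1
  have h3 := θ.injective (Subtype.ext h1)
  have h4 : yT D hD f J t₁.1 = yT D hD f J t₂.1 := congrArg Subtype.val h3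
  exact Subtype.ext
    (Cfsg.Agent.Lib.Helper1.TwAut.yT_injective D hD G hp f rho orbs G1 m hyp J hJ _ _ h4)

include hyp in
theorem h6_card_inK_eq (θ : ↥G1 ≃* ↥G1) (J J' : List ℕ) (hJ : J ∈ orbs) (hJ' : J' ∈ orbs)
    (h : MapsT G1 θ (rootSetSub D K (negJ D J)) (rootSetSub D K (negJ D J'))) :
    Nat.card {t : K // InK f J t} = Nat.card {t : K // InK f J' t} :=
  le_antisymm (h6_card_inK_le D hD G hp f rho orbs G1 m hyp θ J J' hJ hJ' h)
    (h6_card_inK_le D hD G hp f rho orbs G1 m hyp θ.symm J' J hJ' hJ h.symm)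

include hyp in
theorem h6_card_inK_full (J : List ℕ) (hJ : J ∈ orbs) (hm : J.length = m) :
    Nat.card {t : K // InK f J t} = Nat.card K := by
  have hall : ∀ a, InK f J a :=
    (Cfsg.Agent.Lib.Helper1.TwAut.inK_props D hD G hp f rho orbs G1 m hyp J hJ).2.2.2.2 hm
  exact Nat.card_congr (Equiv.subtypeUnivEquiv hall)

theorem h6_card_inK_one (hfne : ∃ t : K, f t ≠ t) (J : List ℕ) (h1 : J.length = 1) :
    Nat.card {t : K // InK f J t} < Nat.card K := by
  classical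
  obtain ⟨t, ht⟩ := hfne
  rw [Nat.card_eq_fintype_card, Nat.card_eq_fintype_card]
  apply Fintype.card_subtype_lt (x := t)
  unfold InK
  rw [h1, pow_one]
  exact ht

include hyp in
/-- B5 : the sizes of the nodes are preserved -/
theorem node_length_eq (hfne : ∃ t : K, f t ≠ t) (θ : ↥G1 ≃* ↥G1) (J J' : List ℕ)
    (hJ : J ∈ orbs) (hJ' : J' ∈ orbs)
    (h : MapsT G1 θ (rootSetSub D K (negJ D J)) (rootSetSub D K (negJ D J'))) :
    J'.length = J.length := by
  have he := h6_card_inK_eq D hD G hp f rho orbs G1 m hyp θ J J' hJ hJ' h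
  rcases hyp.hlen J hJ with h1 | h1 <;> rcases hyp.hlen J' hJ' with h2 | h2
  · rw [h1, h2]
  · exfalso
    have a1 := h6_card_inK_one f hfne J h1
    have a2 := h6_card_inK_full D hD G hp f rho orbs G1 m hyp J' hJ' h2
    omega
  · exfalso
    have a1 := h6_card_inK_one f hfne J' h2
    have a2 := h6_card_inK_full D hD G hp f rho orbs G1 m hyp J hJ h1
    omega
  · rw [h1, h2]

end Cfsg.Agent.Lib.Helper6.TwAutB5
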