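import Mathlib
import Cfsg.Agent.S0022

set_option autoImplicit false

/-!
# S2756 general lemmas on inverted elements (L0a), (L0d), (L0c)
-/

namespace Cfsg.Agent.Lib.Helper6.ZJI

variable {G : Type*} [Group G]

/-- the order of `g ^ m` when `orderOf g = a * m` -/
theorem orderOf_pow_of_eq_mul {g : G} {a m : ℕ} (h : orderOf g = a * m) (hm : m ≠ 0) :
    orderOf (g ^ m) = a := by
  rw [orderOf_pow' g hm, h, Nat.gcd_mul_left_left]
  exact Nat.mul_div_cancel a (Nat.pos_of_ne_zero hm)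

/-- an element inverted by `s` commutes with `s ^ 2` -/
theorem commute_sq_of_inverts {s x : G} (h : s * x * s⁻¹ = x⁻¹) : Commute (s ^ 2) x := by
  have h2 : s * x⁻¹ * s⁻¹ = x := by
    have : s * x⁻¹ * s⁻¹ = (s * x * s⁻¹)⁻¹ := by group
    rw [this, h, inv_inv]
  have h3 : s ^ 2 * x * (s ^ 2)⁻¹ = x := by
    have : s ^ 2 * x * (s ^ 2)⁻¹ = s * (s * x * s⁻¹) * s⁻¹ := by rw [pow_two]; group
    rw [this, h, h2]
  unfold Commute SemiconjBy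
  calc s ^ 2 * x = (s ^ 2 * x * (s ^ 2)⁻¹) * s ^ 2 := by group
    _ = x * s ^ 2 := by rw [h3]

/-- an odd power of an inverting element inverts -/
theorem odd_pow_inverts {s x : G} (h : s * x * s⁻¹ = x⁻¹) {m : ℕ} (hm : Odd m) :
    s ^ m * x * (s ^ m)⁻¹ = x⁻¹ := by
  obtain ⟨j, rfl⟩ := hm
  have hc : Commute ((s ^ 2) ^ j) x := (commute_sq_of_inverts h).pow_left j
  have e : s ^ (2 * j + 1) = (s ^ 2) ^ j * s := by rw [pow_succ, pow_mul]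
  rw [e]
  calc (s ^ 2) ^ j * s * x * ((s ^ 2) ^ j * s)⁻¹
      = (s ^ 2) ^ j * (s * x * s⁻¹) * ((s ^ 2) ^ j)⁻¹ := by group
    _ = (s ^ 2) ^ j * x⁻¹ * ((s ^ 2) ^ j)⁻¹ := by rw [h]
    _ = x⁻¹ := by
      have := hc.inv_right
      rw [this.eq]; group

/-- (L0a) the `2`-part of an inverting element inverts -/
theorem exists_two_elt_inverting [Finite G] {s x : G} (h : s * x * s⁻¹ = x⁻¹) :
    ∃ t ∈ Subgroup.zpowers s, (∃ k : ℕ, orderOf t = 2 ^ k) ∧ t * x * t⁻¹ = x⁻¹ := by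
  obtain ⟨k, m, hm, hkm⟩ := Nat.exists_eq_two_pow_mul_odd (orderOf_pos s).ne'
  have hm0 : m ≠ 0 := by rintro rfl; exact absurd hm (by decide)
  exact ⟨s ^ m, Subgroup.npow_mem_zpowers s m, ⟨k, orderOf_pow_of_eq_mul hkm hm0⟩,
    odd_pow_inverts h hm⟩

/-- decomposition `d = b * c` with `b` inverted and `c` fixed by `u`, when `u * u` centralizes
the odd order group `D` normalized by `u` -/
theorem exists_inv_mul_fix_of_sq (D : Subgroup G) {u : G}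
    (hu2 : ∀ d ∈ D, u * u * d * (u * u)⁻¹ = d)
    (hn : ∀ d ∈ D, u * d * u⁻¹ ∈ D) (hodd : ∀ d ∈ D, Odd (orderOf d)) {d : G} (hd : d ∈ D) :
    ∃ b ∈ D, ∃ c ∈ D, u * b * u⁻¹ = b⁻¹ ∧ u * c * u⁻¹ = c ∧ d = b * c := by
  obtain ⟨a, ha⟩ : ∃ a, a = d * (u * d * u⁻¹)⁻¹ := ⟨_, rfl⟩
  have haD : a ∈ D := ha ▸ D.mul_mem hd (D.inv_mem (hn d hd))
  have hau : u * a * u⁻¹ = a⁻¹ := by
    have e1 : u * a * u⁻¹ = u * d * u⁻¹ * (u * u * d * (u * u)⁻¹)⁻¹ := by rw [ha]; group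
    have e2 : a⁻¹ = u * d * u⁻¹ * d⁻¹ := by rw [ha]; group
    rw [e1, e2, hu2 d hd]
  obtain ⟨m, hm⟩ := hodd a haD
  obtain ⟨b, hb⟩ : ∃ b, b = a ^ (m + 1) := ⟨_, rfl⟩
  have hbD : b ∈ D := hb ▸ D.pow_mem haD _
  have hbb : b * b = a := by
    rw [hb, ← pow_add]
    have : m + 1 + (m + 1) = (2 * m + 1) + 1 := by ring
    rw [this, pow_succ, ← hm, pow_orderOf_eq_one, one_mul]
  have hbu : u * b * u⁻¹ = b⁻¹ := by
    rw [hb]
    have : u * a ^ (m + 1) * u⁻¹ = (u * a * u⁻¹) ^ (m + 1) := by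
      rw [conj_pow]
    rw [this, hau, inv_pow]
  refine ⟨b, hbD, b⁻¹ * d, D.mul_mem (D.inv_mem hbD) hd, hbu, ?_, by group⟩
  have e1 : u * (b⁻¹ * d) * u⁻¹ = (u * b * u⁻¹)⁻¹ * (u * d * u⁻¹) := by group
  rw [e1, hbu, inv_inv]
  have e2 : a * (u * d * u⁻¹) = d := by rw [ha]; group
  calc b * (u * d * u⁻¹) = b⁻¹ * (b * b * (u * d * u⁻¹)) := by group
    _ = b⁻¹ * d := by rw [hbb, e2]

/-- elements of a `q`-group with `q` odd have odd order -/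
theorem odd_orderOf_of_isPGroup [Finite G] {q : ℕ} [hq' : Fact q.Prime] (hq : q ≠ 2)
    {Q : Subgroup G} (hQ : IsPGroup q Q) {d : G} (hd : d ∈ Q) : Odd (orderOf d) := by
  obtain ⟨k, hk⟩ := hQ ⟨d, hd⟩
  have hdvd : orderOf d ∣ q ^ k := by
    apply orderOf_dvd_of_pow_eq_one
    have := congrArg Subtype.val hk
    simpa using this
  obtain ⟨j, -, hj⟩ := (Nat.dvd_prime_pow hq'.out).mp hdvd
  rw [hj]
  exact (hq'.out.odd_of_ne_two hq).pow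

/-- (L0d) a `2`-element normalizing but not centralizing a `q`-group (`q` odd): a power of it
inverts a nontrivial element -/
theorem exists_inverted_of_not_centralize [Finite G] {q : ℕ} [Fact q.Prime] (hq : q ≠ 2)
    (Q : Subgroup G) (hQ : IsPGroup q Q) {s : G} (hs : ∃ k : ℕ, orderOf s = 2 ^ k)
    (hn : ∀ d ∈ Q, s * d * s⁻¹ ∈ Q) (hnc : ∃ d ∈ Q, s * d * s⁻¹ ≠ d) :
    ∃ t ∈ Subgroup.zpowers s, ∃ y ∈ Q, y ≠ 1 ∧ t * y * t⁻¹ = y⁻¹ := by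
  classical
  obtain ⟨k, hk⟩ := hs
  have hex : ∃ j : ℕ, ∀ d ∈ Q, s ^ (2 ^ j) * d * (s ^ (2 ^ j))⁻¹ = d := by
    refine ⟨k, fun d _ => ?_⟩
    rw [← hk, pow_orderOf_eq_one]; group
  have hj0 : Nat.find hex ≠ 0 := by
    intro h0
    have := Nat.find_spec hex
    rw [h0] at this
    obtain ⟨d, hd, hne⟩ := hnc
    apply hne
    have h1 := this d hd
    simpa using h1
  obtain ⟨j, hj⟩ := Nat.exists_eq_succ_of_ne_zero hj0
  have hjspec := Nat.find_spec hex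
  rw [hj] at hjspec
  have hjmin : ¬ ∀ d ∈ Q, s ^ (2 ^ j) * d * (s ^ (2 ^ j))⁻¹ = d :=
    Nat.find_min hex (by rw [hj]; exact Nat.lt_succ_self j)
  obtain ⟨u, hu⟩ : ∃ u, u = s ^ (2 ^ j) := ⟨_, rfl⟩
  have huu : u * u = s ^ (2 ^ (j + 1)) := by
    rw [hu, ← pow_add, pow_succ, mul_two]
  have hu2 : ∀ d ∈ Q, u * u * d * (u * u)⁻¹ = d := by
    intro d hd; rw [huu]; exact hjspec d hd
  have hnu : ∀ d ∈ Q, u * d * u⁻¹ ∈ Q := by
    have : ∀ n : ℕ, ∀ d ∈ Q, s ^ n * d * (s ^ n)⁻¹ ∈ Q := by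
      intro n
      induction n with
      | zero => intro d hd; simpa using hd
      | succ n ih =>
        intro d hd
        have : s ^ (n + 1) * d * (s ^ (n + 1))⁻¹ = s ^ n * (s * d * s⁻¹) * (s ^ n)⁻¹ := by
          rw [pow_succ]; group
        rw [this]; exact ih _ (hn d hd)
    intro d hd; rw [hu]; exact this _ d hd
  have hodd : ∀ d ∈ Q, Odd (orderOf d) := fun d hd => odd_orderOf_of_isPGroup hq hQ hd
  by_contra hcon
  apply hjmin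
  intro d hd
  obtain ⟨b, hbQ, c, hcQ, hb, hc, hdbc⟩ := exists_inv_mul_fix_of_sq Q hu2 hnu hodd hd
  have hb1 : b = 1 := by
    by_contra hb1
    exact hcon ⟨u, hu ▸ Subgroup.npow_mem_zpowers s _, b, hbQ, hb1, hb⟩
  rw [← hu, hdbc, hb1, one_mul]
  exact hc

end Cfsg.Agent.Lib.Helper6.ZJI
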