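import Mathlib
import Cfsg.Agent.S0022
import Cfsg.Agent.Lib.Helper6.ZJIa

set_option autoImplicit false

/-!
# S2756 general lemmas, part 2: Sylow conjugacy inside a normalized subgroup and (L0c)
-/

namespace Cfsg.Agent.Lib.Helper6.ZJI

variable {G : Type*} [Group G]


/-- In a finite group, an element conjugating `H` into itself normalises `H`. -/
theorem mem_normalizer_of_conj_mem [Finite G] (H : Subgroup G) (x : G)
    (h : ∀ a ∈ H, x * a * x⁻¹ ∈ H) : x ∈ Subgroup.normalizer (H : Set G) := by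
  rw [Subgroup.mem_normalizer_iff]
  intro a
  refine ⟨h a, ?_⟩
  intro ha
  let f : H → H := fun b => ⟨x * b * x⁻¹, h b b.2⟩
  have hf : Function.Injective f := by
    intro b c hbc
    have := congrArg Subtype.val hbc
    simp only [f] at this
    apply Subtype.ext
    exact mul_left_cancel (mul_right_cancel this)
  obtain ⟨b, hb⟩ := Finite.surjective_of_injective hf ⟨x * a * x⁻¹, ha⟩
  have := congrArg Subtype.val hb
  simp only [f] at this
  have : (b : G) = a := mul_left_cancel (mul_right_cancel this)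
  rw [← this]
  exact b.2

/-- powers of a normalizing element normalize -/
theorem pow_conj_mem (Q : Subgroup G) {s : G} (hn : ∀ d ∈ Q, s * d * s⁻¹ ∈ Q) (n : ℕ) :
    ∀ d ∈ Q, s ^ n * d * (s ^ n)⁻¹ ∈ Q := by
  induction n with
  | zero => intro d hd; simpa using hd
  | succ n ih =>
    intro d hd
    have : s ^ (n + 1) * d * (s ^ (n + 1))⁻¹ = s ^ n * (s * d * s⁻¹) * (s ^ n)⁻¹ := by
      rw [pow_succ]; group
    rw [this]; exact ih _ (hn d hd)

/-- an element of `q`-power order with a nontrivial power -/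
theorem orderOf_mem_isPGroup [Finite G] {q : ℕ} [Fact q.Prime] {Q : Subgroup G} (hQ : IsPGroup q Q)
    {d : G} (hd : d ∈ Q) : ∃ k : ℕ, orderOf d = q ^ k := by
  obtain ⟨k, hk⟩ := (IsPGroup.iff_orderOf.mp hQ) ⟨d, hd⟩
  exact ⟨k, by rw [← hk, Subgroup.orderOf_mk]⟩



/-- Sylow conjugacy inside a (not necessarily normal) subgroup `M` normalized by `s`: a `q`-subgroup
`R ≤ M` lies in a `q`-subgroup `Q ≤ M` which is normalized by `m * s` for some `m ∈ M`. -/
theorem exists_normalizing_sylow_in [Finite G] (M : Subgroup G) {q : ℕ} [Fact q.Prime] (s : G)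
    (hs : ∀ m ∈ M, s * m * s⁻¹ ∈ M) (R : Subgroup G) (hR : IsPGroup q R) (hRM : R ≤ M) :
    ∃ Q : Subgroup G, IsPGroup q Q ∧ R ≤ Q ∧ Q ≤ M ∧
      ∃ m ∈ M, ∀ d ∈ Q, (m * s) * d * (m * s)⁻¹ ∈ Q := by
  have hR' : IsPGroup q (R.subgroupOf M) := hR.comap_subtype
  obtain ⟨P, hP⟩ := hR'.exists_le_sylow
  obtain ⟨Q, hQdef⟩ : ∃ Q : Subgroup G, Q = (P : Subgroup M).map M.subtype := ⟨_, rfl⟩
  have hQM : Q ≤ M := by
    rw [hQdef]; rintro _ ⟨y, -, rfl⟩; exact y.2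
  have hQmem : ∀ y : M, (y : G) ∈ Q ↔ y ∈ (P : Subgroup M) := by
    intro y
    rw [hQdef]
    constructor
    · rintro ⟨z, hz, hzy⟩
      have : z = y := Subtype.ext hzy
      rwa [← this]
    · intro hy; exact ⟨y, hy, rfl⟩
  have hQq : IsPGroup q Q := by
    rw [hQdef]; exact P.2.map _
  have hRQ : R ≤ Q := by
    intro r hr
    have : (⟨r, hRM hr⟩ : M) ∈ (P : Subgroup M) := hP (by rw [Subgroup.mem_subgroupOf]; exact hr)
    exact (hQmem ⟨r, hRM hr⟩).mpr this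
  -- the conjugate
  obtain ⟨Q2, hQ2def⟩ : ∃ Q2 : Subgroup G, Q2 = Q.map (MulAut.conj s).toMonoidHom := ⟨_, rfl⟩
  have hQ2M : Q2 ≤ M := by
    rw [hQ2def]; rintro _ ⟨y, hy, rfl⟩
    exact hs y (hQM hy)
  have hcardQ : Nat.card Q = Nat.card (P : Subgroup M) := by
    rw [hQdef]
    exact Nat.card_congr ((P : Subgroup M).equivMapOfInjective M.subtype
      M.subtype_injective).symm.toEquiv
  have hcardQ2 : Nat.card Q2 = Nat.card Q := by
    rw [hQ2def]
    exact Nat.card_congr (Q.equivMapOfInjective (MulAut.conj s).toMonoidHom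
      (MulAut.conj s).injective).symm.toEquiv
  have hcard2 : Nat.card (Q2.subgroupOf M) = q ^ (Nat.card M).factorization q := by
    rw [Nat.card_congr (Subgroup.subgroupOfEquivOfLe hQ2M).toEquiv, hcardQ2, hcardQ]
    exact P.card_eq_multiplicity
  obtain ⟨m, hm⟩ := MulAction.exists_smul_eq M (Sylow.ofCard (Q2.subgroupOf M) hcard2) P
  refine ⟨Q, hQq, hRQ, hQM, (m : G), m.2, ?_⟩
  intro d hd
  have hd2 : s * d * s⁻¹ ∈ Q2 := by
    rw [hQ2def]; exact ⟨d, hd, rfl⟩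
  have hd2M : s * d * s⁻¹ ∈ M := hQ2M hd2
  have h1 : (⟨s * d * s⁻¹, hd2M⟩ : M) ∈ ((Sylow.ofCard (Q2.subgroupOf M) hcard2 : Sylow q M) :
      Subgroup M) := by
    change (⟨s * d * s⁻¹, hd2M⟩ : M) ∈ Q2.subgroupOf M
    rw [Subgroup.mem_subgroupOf]; exact hd2
  have hm' : ((m • (Sylow.ofCard (Q2.subgroupOf M) hcard2 : Sylow q M) : Sylow q M) : Subgroup M)
      = (P : Subgroup M) := by rw [hm]
  rw [Sylow.coe_subgroup_smul] at hm'
  have h2 : MulAut.conj m • (⟨s * d * s⁻¹, hd2M⟩ : M) ∈ (P : Subgroup M) := by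
    rw [← hm']
    exact Subgroup.smul_mem_pointwise_smul _ (MulAut.conj m) _ h1
  rw [MulAut.smul_def, MulAut.conj_apply] at h2
  have h3 := (hQmem _).mpr h2
  have e : ((m * (⟨s * d * s⁻¹, hd2M⟩ : M) * m⁻¹ : M) : G) = (m : G) * s * d * ((m : G) * s)⁻¹ := by
    push_cast
    group
  rw [e] at h3
  exact h3



/-- (L0c) element form: `x ∉ L` a `q`-element inverted modulo the normal subgroup `L` by `s0`:
some `q`-element outside `L` is inverted by a `2`-element. -/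
theorem exists_inverted_not_mem_of_mod [Finite G] {q : ℕ} [hq' : Fact q.Prime] (hq : q ≠ 2)
    (L : Subgroup G) [L.Normal] {x s0 : G} (hxL : x ∉ L) (hxq : ∃ k : ℕ, orderOf x = q ^ k)
    (hinv : (QuotientGroup.mk' L) s0 * (QuotientGroup.mk' L) x * ((QuotientGroup.mk' L) s0)⁻¹ =
      ((QuotientGroup.mk' L) x)⁻¹) :
    ∃ y s : G, y ∉ L ∧ (∃ k : ℕ, orderOf y = q ^ k) ∧ (∃ k : ℕ, orderOf s = 2 ^ k) ∧
      s * y * s⁻¹ = y⁻¹ := by
  obtain ⟨π, hπ⟩ : ∃ π : G →* G ⧸ L, π = QuotientGroup.mk' L := ⟨_, rfl⟩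
  rw [← hπ] at hinv
  have hker : ∀ g : G, π g = 1 ↔ g ∈ L := by
    intro g; rw [hπ]; exact QuotientGroup.eq_one_iff g
  have hπx1 : π x ≠ 1 := fun h => hxL ((hker x).mp h)
  obtain ⟨M, hM⟩ : ∃ M : Subgroup G, M = L ⊔ Subgroup.zpowers x := ⟨_, rfl⟩
  have hLM : L ≤ M := hM ▸ le_sup_left
  have hxM : x ∈ M := hM ▸ (le_sup_right : Subgroup.zpowers x ≤ _) (Subgroup.mem_zpowers x)
  -- images of elements of M are powers of π x
  have hMpow : ∀ g ∈ M, ∃ j : ℤ, π g = (π x) ^ j := by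
    intro g hg
    have h1 : π g ∈ M.map π := Subgroup.mem_map_of_mem π hg
    rw [hM, Subgroup.map_sup, MonoidHom.map_zpowers] at h1
    have h2 : L.map π = ⊥ := by
      rw [hπ]; exact QuotientGroup.map_mk'_self L
    rw [h2, bot_sup_eq, Subgroup.mem_zpowers_iff] at h1
    obtain ⟨j, hj⟩ := h1
    exact ⟨j, hj.symm⟩
  -- anything inverting π x inverts the image of M
  have hinvM : ∀ t : G ⧸ L, t * π x * t⁻¹ = (π x)⁻¹ → ∀ g ∈ M, t * π g * t⁻¹ = (π g)⁻¹ := by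
    intro t ht g hg
    obtain ⟨j, hj⟩ := hMpow g hg
    rw [hj, ← conj_zpow, ht, inv_zpow]
  -- s0 normalizes M
  have hsM : ∀ g ∈ M, s0 * g * s0⁻¹ ∈ M := by
    have : M ≤ M.comap (MulAut.conj s0).toMonoidHom := by
      rw [hM]
      apply sup_le
      · intro l hl
        rw [Subgroup.mem_comap]
        apply (le_sup_left : L ≤ L ⊔ Subgroup.zpowers x)
        change s0 * l * s0⁻¹ ∈ L
        exact ‹L.Normal›.conj_mem l hl s0
      · rw [Subgroup.zpowers_le, Subgroup.mem_comap]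
        change s0 * x * s0⁻¹ ∈ L ⊔ Subgroup.zpowers x
        have h1 : π (x * (s0 * x * s0⁻¹)) = 1 := by
          rw [map_mul, map_mul, map_mul, map_inv, hinv]; group
        have h2 : x * (s0 * x * s0⁻¹) ∈ L := (hker _).mp h1
        have h3 : s0 * x * s0⁻¹ = x⁻¹ * (x * (s0 * x * s0⁻¹)) := by group
        rw [h3]
        exact Subgroup.mul_mem _
          ((le_sup_right : Subgroup.zpowers x ≤ _) (Subgroup.inv_mem _ (Subgroup.mem_zpowers x)))
          ((le_sup_left : L ≤ _) h2)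
    intro g hg
    exact this hg
  have hRq : IsPGroup q (Subgroup.zpowers x) := by
    obtain ⟨k, hk⟩ := hxq
    apply IsPGroup.of_card (n := k)
    rw [Nat.card_zpowers, hk]
  obtain ⟨Q, hQq, hRQ, hQM, m1, hm1, hnorm⟩ :=
    exists_normalizing_sylow_in M s0 hsM (Subgroup.zpowers x) hRq (hM ▸ le_sup_right)
  have hxQ : x ∈ Q := hRQ (Subgroup.mem_zpowers x)
  obtain ⟨s1, hs1⟩ : ∃ s1, s1 = m1 * s0 := ⟨_, rfl⟩
  rw [← hs1] at hnorm
  have hs1inv : π s1 * π x * (π s1)⁻¹ = (π x)⁻¹ := by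
    obtain ⟨j, hj⟩ := hMpow m1 hm1
    rw [hs1, map_mul, hj]
    calc (π x) ^ j * π s0 * π x * ((π x) ^ j * π s0)⁻¹
        = (π x) ^ j * (π s0 * π x * (π s0)⁻¹) * ((π x) ^ j)⁻¹ := by group
      _ = (π x)⁻¹ := by rw [hinv]; group
  -- 2-part of s1
  obtain ⟨b, m2, hm2, hbm⟩ := Nat.exists_eq_two_pow_mul_odd (orderOf_pos s1).ne'
  have hm20 : m2 ≠ 0 := by rintro rfl; exact absurd hm2 (by decide)
  obtain ⟨u, hu⟩ : ∃ u, u = s1 ^ m2 := ⟨_, rfl⟩
  have huord : orderOf u = 2 ^ b := hu ▸ orderOf_pow_of_eq_mul hbm hm20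
  have huinv : π u * π x * (π u)⁻¹ = (π x)⁻¹ := by
    rw [hu, map_pow]; exact odd_pow_inverts hs1inv hm2
  have huQ : ∀ d ∈ Q, u * d * u⁻¹ ∈ Q := hu ▸ pow_conj_mem Q hnorm m2
  -- the covering step (S0022)
  obtain ⟨A, hA⟩ : ∃ A : Subgroup G, A = Subgroup.zpowers (u * u) := ⟨_, rfl⟩
  have huuQ : ∀ d ∈ Q, (u * u) * d * (u * u)⁻¹ ∈ Q := by
    intro d hd
    have : (u * u) * d * (u * u)⁻¹ = u * (u * d * u⁻¹) * u⁻¹ := by group
    rw [this]; exact huQ _ (huQ d hd)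
  have hAcomm : ∀ a ∈ A, a * u = u * a := by
    intro a ha
    rw [hA, Subgroup.mem_zpowers_iff] at ha
    obtain ⟨z, rfl⟩ := ha
    have : Commute (u * u) u := (Commute.refl u).mul_left (Commute.refl u)
    exact (this.zpow_left z).eq
  have hAQ : A ≤ Subgroup.normalizer (Q : Set G) := by
    rw [hA, Subgroup.zpowers_le]
    exact mem_normalizer_of_conj_mem Q _ huuQ
  have hAL : ∀ a ∈ A, π a * π x = π x * π a := by
    intro a ha
    rw [hA, Subgroup.mem_zpowers_iff] at ha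
    obtain ⟨z, rfl⟩ := ha
    have h1 : Commute (π u ^ 2) (π x) := commute_sq_of_inverts huinv
    have h2 : π ((u * u) ^ z) = (π u ^ 2) ^ z := by
      rw [map_zpow, map_mul, pow_two]
    rw [h2]
    exact (h1.zpow_left z).eq
  have hcardA : Nat.card A ∣ 2 ^ b := by
    rw [hA, Nat.card_zpowers]
    apply orderOf_dvd_of_pow_eq_one
    rw [← huord]
    have : (u * u) ^ orderOf u = u ^ orderOf u * u ^ orderOf u := by
      rw [(Commute.refl u).mul_pow]
    rw [this, pow_orderOf_eq_one, one_mul]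
  obtain ⟨cq, hcq⟩ := IsPGroup.iff_card.mp hQq
  have hcop : (Nat.card A).Coprime (Nat.card Q) := by
    rw [hcq]
    apply Nat.Coprime.coprime_dvd_left hcardA
    apply Nat.Coprime.pow
    rw [Nat.coprime_primes Nat.prime_two hq'.out]
    exact fun h => hq h.symm
  have hsolv : Group.IsSolvable A ∨ Group.IsSolvable Q := by
    right
    have : Group.IsNilpotent Q := hQq.isNilpotent
    infer_instance
  obtain ⟨N, hN⟩ : ∃ N : Subgroup G, N = Q ⊓ L := ⟨_, rfl⟩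
  have hNQ : N ≤ Q := hN ▸ inf_le_left
  have hNnorm : ∀ g : G, (∀ d ∈ Q, g * d * g⁻¹ ∈ Q) → g ∈ Subgroup.normalizer (N : Set G) := by
    intro g hg
    apply mem_normalizer_of_conj_mem
    intro d hd
    rw [hN] at hd ⊢
    exact ⟨hg d hd.1, ‹L.Normal›.conj_mem d hd.2 g⟩
  have hQN : Q ≤ Subgroup.normalizer (N : Set G) := by
    intro g hg
    exact hNnorm g (fun d hd => Q.mul_mem (Q.mul_mem hg hd) (Q.inv_mem hg))
  have hAN : A ≤ Subgroup.normalizer (N : Set G) := by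
    rw [hA, Subgroup.zpowers_le]
    exact hNnorm _ huuQ
  have hfix : ∀ a ∈ A, a * x * a⁻¹ * x⁻¹ ∈ N := by
    intro a ha
    rw [hN]
    refine ⟨?_, ?_⟩
    · have h1 : a * x * a⁻¹ ∈ Q := by
        have := hAQ ha
        rw [Subgroup.mem_normalizer_iff] at this
        exact (this x).mp hxQ
      exact Q.mul_mem h1 (Q.inv_mem hxQ)
    · apply (hker _).mp
      rw [map_mul, map_mul, map_mul, map_inv, map_inv, hAL a ha]; group
  obtain ⟨c, hc, hxc⟩ := Cfsg.Agent.S0022.result A Q hAQ hcop hsolv N hNQ hQN hAN x hxQ hfix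
  -- decomposition on D = C_Q(A)
  obtain ⟨D, hD⟩ : ∃ D : Subgroup G, D = Q ⊓ Subgroup.centralizer (A : Set G) := ⟨_, rfl⟩
  have hDQ : D ≤ Q := hD ▸ inf_le_left
  have hu2 : ∀ d ∈ D, u * u * d * (u * u)⁻¹ = d := by
    intro d hd
    rw [hD] at hd
    have h1 := (Subgroup.mem_centralizer_iff.mp hd.2) (u * u) (hA ▸ Subgroup.mem_zpowers (u * u))
    rw [h1]; group
  have hnD : ∀ d ∈ D, u * d * u⁻¹ ∈ D := by
    intro d hd
    rw [hD] at hd ⊢
    refine ⟨huQ d hd.1, ?_⟩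
    apply Subgroup.mem_centralizer_iff.mpr
    intro a ha
    have h1 := (Subgroup.mem_centralizer_iff.mp hd.2) a ha
    have h2 := hAcomm a ha
    calc a * (u * d * u⁻¹) = (a * u) * d * u⁻¹ := by group
      _ = u * (a * d) * u⁻¹ := by rw [h2]; group
      _ = u * (d * a) * u⁻¹ := by rw [h1]
      _ = u * d * (a * u⁻¹) := by group
      _ = u * d * (u⁻¹ * a) := by
        have h3 : Commute a u := h2
        rw [h3.inv_right.eq]
      _ = u * d * u⁻¹ * a := by group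
  have hoddD : ∀ d ∈ D, Odd (orderOf d) := fun d hd => odd_orderOf_of_isPGroup hq hQq (hDQ hd)
  obtain ⟨y, hyD, c', hc'D, hyinv, hc'fix, hcyc⟩ :=
    exists_inv_mul_fix_of_sq D hu2 hnD hoddD (hD ▸ hc)
  have hπc : π c = π x := by
    have h1 : π (x⁻¹ * c) = 1 := (hker _).mpr (hN ▸ hxc : x⁻¹ * c ∈ Q ⊓ L).2
    rw [map_mul, map_inv, inv_mul_eq_one] at h1
    exact h1.symm
  have hπc' : π c' = 1 := by
    have h1 : π u * π c' * (π u)⁻¹ = (π c')⁻¹ := hinvM _ huinv c' (hQM (hDQ hc'D))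
    have h2 : π u * π c' * (π u)⁻¹ = π c' := by
      rw [← map_inv, ← map_mul, ← map_mul, hc'fix]
    rw [h2] at h1
    have h3 : (π c') ^ 2 = 1 := by
      rw [pow_two]
      nth_rewrite 1 [h1]
      exact inv_mul_cancel _
    have h4 : orderOf (π c') ∣ orderOf c' := orderOf_map_dvd π c'
    have h5 : Odd (orderOf (π c')) := (hoddD c' hc'D).of_dvd_nat h4
    have h6 : orderOf (π c') ∣ 2 := orderOf_dvd_of_pow_eq_one h3
    have h7 : orderOf (π c') = 1 := by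
      rcases (Nat.dvd_prime Nat.prime_two).mp h6 with h | h
      · exact h
      · rw [h] at h5; exact absurd h5 (by decide)
    exact orderOf_eq_one_iff.mp h7
  have hπy : π y = π x := by
    rw [← hπc, hcyc, map_mul, hπc', mul_one]
  refine ⟨y, u, ?_, orderOf_mem_isPGroup hQq (hDQ hyD), ⟨b, huord⟩, hyinv⟩
  intro hyL
  exact hπx1 (hπy ▸ (hker y).mpr hyL)

/-- (L0c) quotient form -/
theorem exists_inverted_not_mem_of_quotient [Finite G] {q : ℕ} [hq' : Fact q.Prime] (hq : q ≠ 2)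
    (L : Subgroup G) [L.Normal]
    (h : ∃ xb sb : G ⧸ L, xb ≠ 1 ∧ (∃ k : ℕ, orderOf xb = q ^ k) ∧ sb * xb * sb⁻¹ = xb⁻¹) :
    ∃ y s : G, y ∉ L ∧ (∃ k : ℕ, orderOf y = q ^ k) ∧ (∃ k : ℕ, orderOf s = 2 ^ k) ∧
      s * y * s⁻¹ = y⁻¹ := by
  obtain ⟨xb, sb, hxb1, ⟨k, hk⟩, hinv⟩ := h
  obtain ⟨x0, rfl⟩ := QuotientGroup.mk_surjective xb
  obtain ⟨s0, rfl⟩ := QuotientGroup.mk_surjective sb
  obtain ⟨a, m, hm, ham⟩ :=
    Nat.exists_eq_pow_mul_and_not_dvd (orderOf_pos x0).ne' q hq'.out.ne_one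
  have hm0 : m ≠ 0 := by rintro rfl; exact hm (dvd_zero _)
  have hxord : orderOf (x0 ^ m) = q ^ a := orderOf_pow_of_eq_mul ham hm0
  have hcop : (q ^ k).Coprime m := by
    apply Nat.Coprime.pow_left
    exact (Nat.Prime.coprime_iff_not_dvd hq'.out).mpr hm
  have hx1 : ((x0 ^ m : G) : G ⧸ L) ≠ 1 := by
    intro h1
    rw [QuotientGroup.mk_pow] at h1
    have h2 : orderOf (x0 : G ⧸ L) ∣ m := orderOf_dvd_of_pow_eq_one h1
    rw [hk] at h2
    have h3 : q ^ k = 1 := Nat.Coprime.eq_one_of_dvd hcop h2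
    rw [h3] at hk
    exact hxb1 (orderOf_eq_one_iff.mp hk)
  apply exists_inverted_not_mem_of_mod hq L (x := x0 ^ m) (s0 := s0)
  · intro hmem
    exact hx1 ((QuotientGroup.eq_one_iff _).mpr hmem)
  · exact ⟨a, hxord⟩
  · change (s0 : G ⧸ L) * ((x0 ^ m : G) : G ⧸ L) * (s0 : G ⧸ L)⁻¹ = ((x0 ^ m : G) : G ⧸ L)⁻¹
    rw [QuotientGroup.mk_pow, ← conj_pow, hinv, inv_pow]

end Cfsg.Agent.Lib.Helper6.ZJI
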