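import Mathlib

/-!
# S2276 (free pairs of p-elements in alternating groups): the basic definition

`Good p x y` : the product `x * y` does not have `p`-power order and `⟨x, y⟩` is not solvable.
-/

namespace Cfsg.Agent.Lib.Helper6.APF

/-- `Good p x y`: `x * y` does not have `p`-power order and `⟨x, y⟩` is not solvable. -/
def Good (p : ℕ) {G : Type*} [Group G] (x y : G) : Prop :=
  (¬ ∃ k : ℕ, orderOf (x * y) = p ^ k) ∧
    ¬ Group.IsSolvable ↥(Subgroup.closure ({x, y} : Set G))

end Cfsg.Agent.Lib.Helper6.APF
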