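import Mathlib
import Cfsg.Prelude.Def_Blocks
import Cfsg.Agent.Lib.Helper6.BlkQuot2

set_option autoImplicit false
set_option linter.unusedSectionVars false
open Cfsg

namespace Cfsg.Agent.Lib.Helper6

open scoped ComplexConjugate

section

variable {G : Type*} [Group G] [Fintype G] [DecidableEq G]
variable {p : ℕ} {M : Ideal Cfsg.AlgInt}
variable (N : Subgroup G) [hN : N.Normal]

theorem pushFun_classInd_natCast [DecidableEq (G ⧸ N)] (x : G) (q : G ⧸ N) :
    ∃ k : ℕ, pushFun N (classInd x) q = (k : ℂ) := by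
  classical
  rw [pushFun_apply]
  unfold classInd
  rw [Finset.sum_ite, Finset.sum_const_zero, add_zero, Finset.sum_const, nsmul_eq_mul, mul_one]
  exact ⟨_, rfl⟩

theorem centralChar_comp_mk [Fintype (G ⧸ N)] [DecidableEq (G ⧸ N)] {β : G ⧸ N → ℂ}
    (hβ : Cfsg.IsClassFunction (G ⧸ N) β) (g : G) :
    Cfsg.centralChar (fun g : G => β (QuotientGroup.mk g)) g
      = cOmega β (regMat (pushFun N (classInd g))) := by
  rw [← cOmega_classInd _ (comp_mk_isClassFunction N hβ), cOmega_comp_mk]

/-- characters in the same block of the quotient inflate to characters in the same block -/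
theorem sameBlock_inflation (hM : Cfsg.IsPModular p M) (χ ψ : Cfsg.IrrCharacter (G ⧸ N))
    (h : Cfsg.SameBlock M (χ : G ⧸ N → ℂ) (ψ : G ⧸ N → ℂ)) :
    Cfsg.SameBlock M (fun g : G => (χ : G ⧸ N → ℂ) (QuotientGroup.mk g))
      (fun g : G => (ψ : G ⧸ N → ℂ) (QuotientGroup.mk g)) := by
  classical
  have : Fintype (G ⧸ N) := Fintype.ofFinite _
  intro g
  rw [centralChar_comp_mk N (IsIrrCharacter.isClassFunction χ.2),
    centralChar_comp_mk N (IsIrrCharacter.isClassFunction ψ.2)]
  apply cOmega_sub_memLocalIdeal hM χ.2 ψ.2 h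
    (regMat_mem_centerAlg (pushFun_isClassFunction N (classInd_isClassFunction g)))
  apply regMat_mem_sMat
  intro q
  obtain ⟨k, hk⟩ := pushFun_classInd_natCast N g q
  rw [hk]
  exact memLocalRing_natCast hM k

end

section

variable {G : Type*} [Group G] [Fintype G] [DecidableEq G]
variable {p : ℕ} {M : Ideal Cfsg.AlgInt}
variable (P : Subgroup G) [hPn : P.Normal]

/-- a `p`-regular element of the quotient by a normal `p`-subgroup lifts to a `p`-regular
element -/
theorem exists_pRegular_lift (hp : p.Prime) (q : G ⧸ P) (hq : ¬ p ∣ orderOf q) :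
    ∃ v : G, (QuotientGroup.mk v : G ⧸ P) = q ∧ ¬ p ∣ orderOf v := by
  obtain ⟨g, rfl⟩ := QuotientGroup.mk_surjective q
  obtain ⟨v, _, u, hu, hgvu, hvp, k, huk⟩ := exists_pParts p hp g
  refine ⟨v, ?_, hvp⟩
  have h1 : (QuotientGroup.mk u : G ⧸ P) = 1 := by
    have hmem : (QuotientGroup.mk u : G ⧸ P) ∈ Subgroup.zpowers (QuotientGroup.mk g : G ⧸ P) := by
      obtain ⟨i, rfl⟩ := Subgroup.mem_zpowers_iff.mp hu
      rw [QuotientGroup.mk_zpow]
      exact Subgroup.zpow_mem_zpowers _ i
    have hd1 : orderOf (QuotientGroup.mk u : G ⧸ P) ∣ orderOf (QuotientGroup.mk g : G ⧸ P) :=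
      orderOf_dvd_of_mem_zpowers hmem
    have hd2 : orderOf (QuotientGroup.mk u : G ⧸ P) ∣ p ^ k := by
      rw [← huk]
      exact orderOf_map_dvd (QuotientGroup.mk' P) u
    have hcop : Nat.Coprime (p ^ k) (orderOf (QuotientGroup.mk g : G ⧸ P)) :=
      Nat.Coprime.pow_left k ((hp.coprime_iff_not_dvd).mpr hq)
    have : orderOf (QuotientGroup.mk u : G ⧸ P) = 1 :=
      Nat.eq_one_of_dvd_coprimes hcop hd2 hd1
    exact orderOf_eq_one_iff.mp this
  rw [hgvu, QuotientGroup.mk_mul, h1, mul_one]

/-- if `G / C(P)` is a `p`-group then `p`-regular elements centralize `P` -/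
theorem mem_centralizer_of_pRegular (hp : p.Prime)
    (hC : ∃ k : ℕ, (Subgroup.centralizer (P : Set G)).index = p ^ k) (v : G)
    (hv : ¬ p ∣ orderOf v) : v ∈ Subgroup.centralizer (P : Set G) := by
  obtain ⟨k, hk⟩ := hC
  have hCn : (Subgroup.centralizer (P : Set G)).Normal := Subgroup.normal_centralizer
  have h1 : v ^ (p ^ k) ∈ Subgroup.centralizer (P : Set G) := by
    rw [← hk]
    exact Subgroup.pow_index_mem _ v
  have h2 : v ∈ Subgroup.zpowers (v ^ (p ^ k)) := by
    rw [mem_zpowers_pow_iff]
    exact Nat.Coprime.pow_left k ((hp.coprime_iff_not_dvd).mpr hv)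
  exact (Subgroup.zpowers_le.mpr h1) h2

/-- for `p`-regular `v` centralizing the normal `p`-subgroup `P`, the class of `v` maps
bijectively to the class of its image -/
theorem pushFun_classInd_of_pRegular [Fintype (G ⧸ P)] [DecidableEq (G ⧸ P)] (hp : p.Prime)
    (hP : IsPGroup p P)
    (v : G) (hv : ¬ p ∣ orderOf v) (hvc : v ∈ Subgroup.centralizer (P : Set G)) :
    pushFun P (classInd v) = classInd (QuotientGroup.mk v : G ⧸ P) := by
  classical
  have : Fact p.Prime := ⟨hp⟩
  have hcf := pushFun_isClassFunction P (classInd_isClassFunction v)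
  -- value at the base point
  have hbase : pushFun P (classInd v) (QuotientGroup.mk v) = 1 := by
    rw [pushFun_apply]
    rw [Finset.sum_eq_single v]
    · unfold classInd
      rw [if_pos (IsConj.refl v)]
    · intro g hg hgv
      simp only [Finset.mem_filter, Finset.mem_univ, true_and] at hg
      unfold classInd
      rw [if_neg]
      intro hconj
      apply hgv
      -- g = v * u' with u' ∈ P
      have hu' : v⁻¹ * g ∈ P := QuotientGroup.eq.mp hg.symm
      set u' := v⁻¹ * g with hu'def
      have hg' : g = v * u' := by rw [hu'def]; group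
      have hcomm : Commute v u' := by
        have := Subgroup.mem_centralizer_iff.mp hvc u' hu'
        exact this.symm
      have hord : orderOf g = orderOf v := by
        obtain ⟨c, hc⟩ := isConj_iff.mp hconj
        rw [← hc]
        exact orderOf_injective (MulAut.conj c).toMonoidHom (MulAut.conj c).injective v
      have h1 : u' ^ orderOf v = 1 := by
        have h2 : g ^ orderOf v = 1 := by rw [← hord]; exact pow_orderOf_eq_one g
        rw [hg', hcomm.mul_pow, pow_orderOf_eq_one, one_mul] at h2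
        exact h2
      have h3 : orderOf u' ∣ orderOf v := orderOf_dvd_of_pow_eq_one h1
      obtain ⟨j, hj⟩ := (IsPGroup.iff_orderOf.mp hP) ⟨u', hu'⟩
      rw [Subgroup.orderOf_mk] at hj
      have hj0 : j = 0 := by
        by_contra hj0
        apply hv
        exact (dvd_pow_self p hj0).trans (hj ▸ h3)
      rw [hj0, pow_zero] at hj
      rw [hg', orderOf_eq_one_iff.mp hj, mul_one]
    · intro h0
      exact absurd (by simp) h0
  funext r
  by_cases hr : IsConj (QuotientGroup.mk v : G ⧸ P) r
  · obtain ⟨c, hc⟩ := isConj_iff.mp hr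
    rw [← hc, hcf, hbase]
    unfold classInd
    rw [if_pos]
    exact isConj_iff.mpr ⟨c, rfl⟩
  · have h0 : classInd (QuotientGroup.mk v : G ⧸ P) r = 0 := by
      unfold classInd
      rw [if_neg hr]
    rw [h0, pushFun_apply]
    apply Finset.sum_eq_zero
    intro g hg
    simp only [Finset.mem_filter, Finset.mem_univ, true_and] at hg
    unfold classInd
    rw [if_neg]
    intro hconj
    apply hr
    rw [← hg]
    obtain ⟨c, hc⟩ := isConj_iff.mp hconj
    rw [← hc]
    exact isConj_iff.mpr ⟨QuotientGroup.mk c, by simp⟩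

/-- if `G / C(P)` is a `p`-group, blocks of `G / P` are detected after inflation -/
theorem sameBlock_of_sameBlock_inflation (hM : Cfsg.IsPModular p M) (hP : IsPGroup p P)
    (hC : ∃ k : ℕ, (Subgroup.centralizer (P : Set G)).index = p ^ k)
    (χ ψ : Cfsg.IrrCharacter (G ⧸ P))
    (h : Cfsg.SameBlock M (fun g : G => (χ : G ⧸ P → ℂ) (QuotientGroup.mk g))
      (fun g : G => (ψ : G ⧸ P → ℂ) (QuotientGroup.mk g))) :
    Cfsg.SameBlock M (χ : G ⧸ P → ℂ) (ψ : G ⧸ P → ℂ) := by
  classical
  have : Fintype (G ⧸ P) := Fintype.ofFinite _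
  have hp : p.Prime := hM.1
  apply sameBlock_of_forall_pRegular hM
  intro q hq
  obtain ⟨v, rfl, hv⟩ := exists_pRegular_lift P hp q hq
  have hvc := mem_centralizer_of_pRegular P hp hC v hv
  have h1 := h v
  rw [centralChar_comp_mk P (IsIrrCharacter.isClassFunction χ.2),
    centralChar_comp_mk P (IsIrrCharacter.isClassFunction ψ.2),
    pushFun_classInd_of_pRegular P hp hP v hv hvc,
    cOmega_classInd _ (IsIrrCharacter.isClassFunction χ.2),
    cOmega_classInd _ (IsIrrCharacter.isClassFunction ψ.2)] at h1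
  exact h1

end

end Cfsg.Agent.Lib.Helper6
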