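import Mathlib
import Cfsg.Prelude.Def_Blocks
import Cfsg.Prelude.Def_BrauerPairs
import Cfsg.Agent.Lib.Helper6.BrPair3

set_option autoImplicit false
set_option linter.unusedSectionVars false
open Cfsg

namespace Cfsg.Agent.Lib.Helper6

open scoped ComplexConjugate

section idemcongr

variable {K : Type*} [Group K] [Fintype K] [DecidableEq K]
variable {p : ℕ} {M : Ideal Cfsg.AlgInt}

theorem centerAlg_mul_comm {t t' : Matrix K K ℂ} (htc : t ∈ centerAlg K)
    (htc' : t' ∈ centerAlg K) : t * t' = t' * t := by
  apply eq_of_cOmega_eq ((centerAlg K).mul_mem htc htc') ((centerAlg K).mul_mem htc' htc)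
  intro χ
  rw [cOmega_mul χ.2 htc htc'.1, cOmega_mul χ.2 htc' htc.1, mul_comm]

/-- two central idempotents modulo the ideal with congruent central character values: one
absorbs the other -/
theorem mMat_sub_mul_of_cOmega_congr (hM : Cfsg.IsPModular p M) {t t' : Matrix K K ℂ}
    (htc : t ∈ centerAlg K) (hts : t ∈ sMat hM K) (hidem : MMat M (t * t - t))
    (htc' : t' ∈ centerAlg K) (hts' : t' ∈ sMat hM K) (hidem' : MMat M (t' * t' - t'))
    (h : ∀ θ : Cfsg.IrrCharacter K,
      Cfsg.MemLocalIdeal M (cOmega (θ : K → ℂ) t - cOmega (θ : K → ℂ) t')) :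
    MMat M (t - t * t') := by
  classical
  have h1c : (1 : Matrix K K ℂ) ∈ centerAlg K := (centerAlg K).one_mem
  have h1s : (1 : Matrix K K ℂ) ∈ sMat hM K := (sMat hM K).one_mem
  set s : Matrix K K ℂ := 1 - t' with hs
  have hsc : s ∈ centerAlg K := (centerAlg K).sub_mem h1c htc'
  have hss : s ∈ sMat hM K := (sMat hM K).sub_mem h1s hts'
  have hsidem : MMat M (s * s - s) := by
    have e : s * s - s = t' * t' - t' := by
      rw [hs]
      noncomm_ring
    rw [e]
    exact hidem'
  have hcomm : s * t = t * s := centerAlg_mul_comm hsc htc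
  have hu : t - t * t' = t * s := by
    rw [hs, mul_sub, mul_one]
  rw [hu]
  apply mMat_of_cOmega_of_idem hM ((centerAlg K).mul_mem htc hsc) ((sMat hM K).mul_mem hts hss)
  · intro θ
    rw [cOmega_mul θ.2 htc hsc.1, hs, cOmega_sub,
      cOmega_one (IsIrrCharacter.apply_one_ne_zero θ.2)]
    have hr := cOmega_memLocalRing hM θ.2 htc hts
    have h2 : Cfsg.MemLocalIdeal M (cOmega (θ : K → ℂ) (t * t - t)) :=
      cOmega_memLocalIdeal_of_entries hM θ.2
        ((centerAlg K).sub_mem ((centerAlg K).mul_mem htc htc) htc) hidem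
    rw [cOmega_sub, cOmega_mul θ.2 htc htc.1] at h2
    have h3 := MemLocalIdeal.mul_left hM hr (h θ)
    have h4 := MemLocalIdeal.sub hM h3 h2
    convert h4 using 1
    ring
  · have e1 : t * s * (t * s) - t * s = (t * t - t) * (s * s) + t * (s * s - s) := by
      have h3 : t * s * (t * s) = t * t * (s * s) := by
        calc t * s * (t * s) = t * (s * t) * s := by simp only [mul_assoc]
          _ = t * (t * s) * s := by rw [hcomm]
          _ = t * t * (s * s) := by simp only [mul_assoc]
      rw [h3]
      noncomm_ring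
    rw [e1]
    exact MMat.add hM (MMat.mul_left hM hidem ((sMat hM K).mul_mem hss hss))
      (MMat.mul_right hM hts hsidem)

/-- two central idempotents modulo the ideal with congruent central character values are
congruent -/
theorem mMat_sub_of_cOmega_congr (hM : Cfsg.IsPModular p M) {t t' : Matrix K K ℂ}
    (htc : t ∈ centerAlg K) (hts : t ∈ sMat hM K) (hidem : MMat M (t * t - t))
    (htc' : t' ∈ centerAlg K) (hts' : t' ∈ sMat hM K) (hidem' : MMat M (t' * t' - t'))
    (h : ∀ θ : Cfsg.IrrCharacter K,
      Cfsg.MemLocalIdeal M (cOmega (θ : K → ℂ) t - cOmega (θ : K → ℂ) t')) :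
    MMat M (t - t') := by
  have h1 := mMat_sub_mul_of_cOmega_congr hM htc hts hidem htc' hts' hidem' h
  have h2 := mMat_sub_mul_of_cOmega_congr hM htc' hts' hidem' htc hts hidem (by
    intro θ
    have := MemLocalIdeal.neg (h θ)
    convert this using 1
    ring)
  have h3 := MMat.sub hM h1 h2
  convert h3 using 1
  rw [centerAlg_mul_comm htc htc']
  abel

/-- the set of blocks on which a central idempotent takes the value one -/
def OneOn (M : Ideal Cfsg.AlgInt) (t : Matrix K K ℂ) (e : Set (Cfsg.IrrCharacter K)) : Prop :=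
  ∀ ξ ∈ e, Cfsg.MemLocalIdeal M (cOmega (ξ : K → ℂ) t - 1)

theorem oneOn_blockOf_iff (hM : Cfsg.IsPModular p M) {t : Matrix K K ℂ}
    (htc : t ∈ centerAlg K) (hts : t ∈ sMat hM K) (θ : Cfsg.IrrCharacter K) :
    OneOn M t (Cfsg.blockOf M (θ : K → ℂ)) ↔ Cfsg.MemLocalIdeal M (cOmega (θ : K → ℂ) t - 1) := by
  constructor
  · intro h
    exact h θ (sameBlock_refl hM _)
  · intro h ξ hξ
    have h1 := cOmega_sub_memLocalIdeal hM ξ.2 θ.2 (SameBlock.symm' hξ) htc hts
    have := MemLocalIdeal.add hM h1 h
    convert this using 1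
    ring

/-- central idempotents modulo the ideal are congruent exactly when they take the value one on
the same blocks -/
theorem mMat_sub_iff_oneOn (hM : Cfsg.IsPModular p M) {t t' : Matrix K K ℂ}
    (htc : t ∈ centerAlg K) (hts : t ∈ sMat hM K) (hidem : MMat M (t * t - t))
    (htc' : t' ∈ centerAlg K) (hts' : t' ∈ sMat hM K) (hidem' : MMat M (t' * t' - t')) :
    MMat M (t - t') ↔
      ∀ e : Set (Cfsg.IrrCharacter K), Cfsg.IsPBlock M e → (OneOn M t e ↔ OneOn M t' e) := by
  constructor
  · intro h e _
    have key : ∀ ξ : Cfsg.IrrCharacter K,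
        Cfsg.MemLocalIdeal M (cOmega (ξ : K → ℂ) t - cOmega (ξ : K → ℂ) t') := by
      intro ξ
      have := cOmega_memLocalIdeal_of_entries hM ξ.2 ((centerAlg K).sub_mem htc htc') h
      rwa [cOmega_sub] at this
    constructor
    · intro h1 ξ hξ
      have := MemLocalIdeal.sub hM (h1 ξ hξ) (key ξ)
      convert this using 1
      ring
    · intro h1 ξ hξ
      have := MemLocalIdeal.add hM (h1 ξ hξ) (key ξ)
      convert this using 1
      ring
  · intro h
    apply mMat_sub_of_cOmega_congr hM htc hts hidem htc' hts' hidem'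
    intro θ
    have hb := h (Cfsg.blockOf M (θ : K → ℂ)) ⟨θ, rfl⟩
    rw [oneOn_blockOf_iff hM htc hts, oneOn_blockOf_iff hM htc' hts'] at hb
    rcases cOmega_dichotomy_of_idem hM htc hts hidem θ with h0 | h1
    · rcases cOmega_dichotomy_of_idem hM htc' hts' hidem' θ with h0' | h1'
      · exact MemLocalIdeal.sub hM h0 h0'
      · exfalso
        apply not_memLocalIdeal_one hM
        have := MemLocalIdeal.sub hM h0 (hb.mpr h1')
        convert this using 1
        ring
    · have h1' := hb.mp h1
      have := MemLocalIdeal.sub hM h1 h1'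
      convert this using 1
      ring

/-- a central idempotent modulo the ideal that is not zero modulo the ideal takes the value one
on some block -/
theorem exists_oneOn_of_not_mMat (hM : Cfsg.IsPModular p M) {t : Matrix K K ℂ}
    (htc : t ∈ centerAlg K) (hts : t ∈ sMat hM K) (hidem : MMat M (t * t - t))
    (hne : ¬ MMat M t) :
    ∃ e : Set (Cfsg.IrrCharacter K), Cfsg.IsPBlock M e ∧ OneOn M t e := by
  by_contra hcon
  push Not at hcon
  apply hne
  apply mMat_of_cOmega_of_idem hM htc hts _ hidem
  intro θ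
  rcases cOmega_dichotomy_of_idem hM htc hts hidem θ with h0 | h1
  · exact h0
  · exfalso
    exact hcon _ ⟨θ, rfl⟩ ((oneOn_blockOf_iff hM htc hts θ).mpr h1)

end idemcongr

end Cfsg.Agent.Lib.Helper6
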