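import Mathlib
import Cfsg.Prelude.Def_Blocks
import Cfsg.Prelude.Def_BrauerPairs
import Cfsg.Agent.Lib.Helper6.BrFM1

set_option autoImplicit false
set_option linter.unusedSectionVars false
open Cfsg

namespace Cfsg.Agent.Lib.Helper6

open scoped ComplexConjugate

section fm2

variable {G : Type*} [Group G] [Fintype G] [DecidableEq G]
variable {p : ℕ} {M : Ideal Cfsg.AlgInt}
variable (P : Subgroup G) [Fintype (Subgroup.centralizer (P : Set G))]

theorem blockMat_apply_one {K : Type*} [Group K] [Fintype K] [DecidableEq K]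
    (A : Set (Cfsg.IrrCharacter K)) (k : K) : blockMat A k 1 = Cfsg.blockCoeff A k := by
  unfold blockMat
  rw [regMat_apply, inv_one, mul_one]

/-- the truncated idempotent of a block of the whole group -/
theorem resMat_blockMat_idem (hM : Cfsg.IsPModular p M) (hP : IsPGroup p P)
    {B : Set (Cfsg.IrrCharacter G)} (hB : Cfsg.IsPBlock M B) :
    MMat M (resMat (Subgroup.centralizer (P : Set G)) (blockMat B)
      * resMat (Subgroup.centralizer (P : Set G)) (blockMat B)
      - resMat (Subgroup.centralizer (P : Set G)) (blockMat B)) := by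
  have hEc := blockMat_mem_centerAlg B
  have hEs : blockMat B ∈ sMat hM G := isPBlock_mem_sMat hM hB
  intro s u
  have h1 := brMat_mul_sub_apply P (Subgroup.centralizer (P : Set G)) hM hP le_rfl hEc hEs
    hEc hEs s u
  rw [blockMat_idem, brMat_centralizer_eq_resMat] at h1
  have h2 := MemLocalIdeal.neg h1
  convert h2 using 1
  simp [Matrix.sub_apply]

theorem oneOn_resMat_iff (B : Set (Cfsg.IrrCharacter G))
    (e : Set (Cfsg.IrrCharacter (Subgroup.centralizer (P : Set G)))) :
    OneOn M (resMat (Subgroup.centralizer (P : Set G)) (blockMat B)) e ↔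
      ∀ ξ ∈ e, Cfsg.MemLocalIdeal M
        (Cfsg.brauerOmega P (Cfsg.blockCoeff B) (ξ : Subgroup.centralizer (P : Set G) → ℂ) - 1) := by
  unfold OneOn
  constructor
  · intro h ξ hξ
    rw [brauerOmega_blockCoeff_eq]
    exact h ξ hξ
  · intro h ξ hξ
    rw [← brauerOmega_blockCoeff_eq]
    exact h ξ hξ

variable (H : Subgroup G) [Fintype H]

theorem blockMat_kInv_of_le (hPH : P ≤ H) (hPN : P ≤ Subgroup.normalizer (H : Set G))
    (c : Set (Cfsg.IrrCharacter H)) : KInv P H hPN (blockMat c) := by
  intro x hx k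
  rw [blockMat_apply_one, blockMat_apply_one]
  apply blockCoeff_eq_of_isConj
  rw [isConj_iff]
  refine ⟨⟨x, hPH hx⟩, ?_⟩
  apply Subtype.ext
  rw [nAut_apply_coe]
  rfl

/-- the truncated idempotent of a block of a subgroup containing `P C_G(P)` -/
theorem trMat_blockMat_idem (hM : Cfsg.IsPModular p M) (hP : IsPGroup p P) (hPH : P ≤ H)
    {c : Set (Cfsg.IrrCharacter H)} (hc : Cfsg.IsPBlock M c) :
    MMat M (trMat P H (blockMat c) * trMat P H (blockMat c) - trMat P H (blockMat c)) := by
  have hPN : P ≤ Subgroup.normalizer (H : Set G) := hPH.trans Subgroup.le_normalizer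
  have hEs : blockMat c ∈ sMat hM H := isPBlock_mem_sMat hM hc
  have hK := blockMat_kInv_of_le P H hPH hPN c
  have h1 := trMat_mul_sub_mMat P H hPN hM hP (blockMat_mem_centerAlg c).1 hEs hK hEs hK
  rw [blockMat_idem] at h1
  have h2 := MMat.neg h1
  convert h2 using 1
  abel

theorem oneOn_trMat_iff (hCH : Subgroup.centralizer (P : Set G) ≤ H)
    (c : Set (Cfsg.IrrCharacter H))
    (e : Set (Cfsg.IrrCharacter (Subgroup.centralizer (P : Set G)))) :
    OneOn M (trMat P H (blockMat c)) e ↔
      ∀ ξ ∈ e, Cfsg.MemLocalIdeal M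
        (Cfsg.brauerOmega P (Cfsg.subgroupBlockCoeff H c)
          (ξ : Subgroup.centralizer (P : Set G) → ℂ) - 1) := by
  unfold OneOn
  constructor
  · intro h ξ hξ
    rw [brauerOmega_eq_trOmega P H hCH]
    exact h ξ hξ
  · intro h ξ hξ
    have := h ξ hξ
    rw [brauerOmega_eq_trOmega P H hCH] at this
    exact this

/-- congruence of the Brauer-map images in terms of Brauer pairs -/
theorem brauer_congr_iff (hM : Cfsg.IsPModular p M) (hP : IsPGroup p P) (hPH : P ≤ H)
    (hCH : Subgroup.centralizer (P : Set G) ≤ H)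
    {B : Set (Cfsg.IrrCharacter G)} (hB : Cfsg.IsPBlock M B)
    {c : Set (Cfsg.IrrCharacter H)} (hc : Cfsg.IsPBlock M c) :
    (∀ x : G, x ∈ Subgroup.centralizer (P : Set G) →
      Cfsg.MemLocalIdeal M (Cfsg.blockCoeff B x - Cfsg.subgroupBlockCoeff H c x)) ↔
      ∀ e : Set (Cfsg.IrrCharacter (Subgroup.centralizer (P : Set G))), Cfsg.IsPBlock M e →
        ((∀ ξ ∈ e, Cfsg.MemLocalIdeal M
          (Cfsg.brauerOmega P (Cfsg.blockCoeff B)
            (ξ : Subgroup.centralizer (P : Set G) → ℂ) - 1)) ↔
         (∀ ξ ∈ e, Cfsg.MemLocalIdeal M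
          (Cfsg.brauerOmega P (Cfsg.subgroupBlockCoeff H c)
            (ξ : Subgroup.centralizer (P : Set G) → ℂ) - 1))) := by
  have hEc := blockMat_mem_centerAlg B
  have hEs : blockMat B ∈ sMat hM G := isPBlock_mem_sMat hM hB
  have hFc := blockMat_mem_centerAlg c
  have hFs : blockMat c ∈ sMat hM H := isPBlock_mem_sMat hM hc
  have htc : resMat (Subgroup.centralizer (P : Set G)) (blockMat B)
      ∈ centerAlg (Subgroup.centralizer (P : Set G)) := resMat_mem_centerAlg _ hEc
  have hts : resMat (Subgroup.centralizer (P : Set G)) (blockMat B)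
      ∈ sMat hM (Subgroup.centralizer (P : Set G)) := resMat_mem_sMat _ hM hEs
  have htc' := trMat_mem_centerAlg P H hCH hFc
  have hts' := trMat_mem_sMat P H hM hFs
  have hi := resMat_blockMat_idem P hM hP hB
  have hi' := trMat_blockMat_idem P H hM hP hPH hc
  have key := mMat_sub_iff_oneOn hM htc hts hi htc' hts' hi'
  have hentry : MMat M (resMat (Subgroup.centralizer (P : Set G)) (blockMat B)
      - trMat P H (blockMat c)) ↔
      ∀ x : G, x ∈ Subgroup.centralizer (P : Set G) →
        Cfsg.MemLocalIdeal M (Cfsg.blockCoeff B x - Cfsg.subgroupBlockCoeff H c x) := by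
    have hcol : ∀ x : Subgroup.centralizer (P : Set G),
        (resMat (Subgroup.centralizer (P : Set G)) (blockMat B) - trMat P H (blockMat c)) x 1
          = Cfsg.blockCoeff B (x : G) - Cfsg.subgroupBlockCoeff H c (x : G) := by
      intro x
      rw [Matrix.sub_apply, resMat_apply_one, trMat_apply_one P H hCH, blockMat_apply_one,
        blockMat_apply_one, subgroupBlockCoeff_of_mem H c (hCH x.2)]
    constructor
    · intro h x hx
      have := h ⟨x, hx⟩ 1
      rw [hcol] at this
      exact this
    · intro h s t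
      have hr : RInv (resMat (Subgroup.centralizer (P : Set G)) (blockMat B)
          - trMat P H (blockMat c)) :=
        ((centerAlg (Subgroup.centralizer (P : Set G))).sub_mem htc htc').1
      rw [hr.apply_eq, hcol]
      exact h _ (s * t⁻¹).2
  rw [← hentry, key]
  constructor
  · intro h e he
    rw [← oneOn_resMat_iff, ← oneOn_trMat_iff P H hCH]
    exact h e he
  · intro h e he
    rw [oneOn_resMat_iff, oneOn_trMat_iff P H hCH]
    exact h e he

/-- a block with defect group `P` has a Brauer pair on `P` -/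
theorem exists_isBrauerPairOf_of_isDefectGroup (hM : Cfsg.IsPModular p M) (hP : IsPGroup p P)
    {B : Set (Cfsg.IrrCharacter G)} (hB : Cfsg.IsPBlock M B)
    (hPD : Cfsg.IsDefectGroup p M B P) :
    ∃ e : Set (Cfsg.IrrCharacter (Subgroup.centralizer (P : Set G))),
      Cfsg.IsBrauerPairOf p M B P e := by
  have hEc := blockMat_mem_centerAlg B
  have hEs : blockMat B ∈ sMat hM G := isPBlock_mem_sMat hM hB
  have htc : resMat (Subgroup.centralizer (P : Set G)) (blockMat B)
      ∈ centerAlg (Subgroup.centralizer (P : Set G)) := resMat_mem_centerAlg _ hEc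
  have hts : resMat (Subgroup.centralizer (P : Set G)) (blockMat B)
      ∈ sMat hM (Subgroup.centralizer (P : Set G)) := resMat_mem_sMat _ hM hEs
  have hi := resMat_blockMat_idem P hM hP hB
  obtain ⟨y, hy, Q, hQ⟩ := hPD
  have hyP : y ∈ Subgroup.centralizer (P : Set G) := by
    rw [Subgroup.mem_centralizer_iff]
    intro d hd
    rw [hQ] at hd
    obtain ⟨d', _, rfl⟩ := hd
    have := d'.2
    rw [Subgroup.mem_centralizer_iff] at this
    exact (this y rfl).symm
  have hne : ¬ MMat M (resMat (Subgroup.centralizer (P : Set G)) (blockMat B)) := by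
    intro h
    have := h ⟨y, hyP⟩ 1
    rw [resMat_apply_one, blockMat_apply_one] at this
    exact hy.2.1 this
  obtain ⟨e, he, hone⟩ := exists_oneOn_of_not_mMat hM htc hts hi hne
  exact ⟨e, ⟨hP, he⟩, hB, (oneOn_resMat_iff P B e).mp hone⟩

end fm2

end Cfsg.Agent.Lib.Helper6
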