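import Mathlib
import Cfsg.Prelude.Def_Blocks
import Cfsg.Agent.Lib.Helper6.BlkQuot3
import Cfsg.Agent.Lib.Helper6.QuotChar
import Cfsg.Agent.Lib.Helper6.BrFM2
import Cfsg.Agent.Lib.Helper6.BlkDefect
import Cfsg.Agent.S0912

set_option autoImplicit false
set_option linter.unusedSectionVars false
open Cfsg

namespace Cfsg.Agent.Lib.Helper6

open scoped ComplexConjugate

section defl

variable {G : Type*} [Group G] [Fintype G] [DecidableEq G]
variable {p : ℕ} {M : Ideal Cfsg.AlgInt}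
variable (N : Subgroup G) [hN : N.Normal]

/-- inflation of an irreducible character of the quotient -/
noncomputable def inflIrr (χ : Cfsg.IrrCharacter (G ⧸ N)) : Cfsg.IrrCharacter G :=
  ⟨fun g : G => (χ : G ⧸ N → ℂ) (QuotientGroup.mk g), IsIrrCharacter.comp_mk N χ.2⟩

theorem inflIrr_apply (χ : Cfsg.IrrCharacter (G ⧸ N)) (g : G) :
    (inflIrr N χ : G → ℂ) g = (χ : G ⧸ N → ℂ) (QuotientGroup.mk g) := rfl

/-- the irreducible characters of the quotient whose inflation lies in `B` -/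
def deflSet (B : Set (Cfsg.IrrCharacter G)) : Set (Cfsg.IrrCharacter (G ⧸ N)) :=
  {χ | inflIrr N χ ∈ B}

theorem mem_deflSet (B : Set (Cfsg.IrrCharacter G)) (χ : Cfsg.IrrCharacter (G ⧸ N)) :
    χ ∈ deflSet N B ↔ inflIrr N χ ∈ B := Iff.rfl

/-- the image of the idempotent of `B` in the quotient is the idempotent of `deflSet N B` -/
theorem pushFun_blockCoeff [Fintype (G ⧸ N)] [DecidableEq (G ⧸ N)]
    (B : Set (Cfsg.IrrCharacter G)) (q : G ⧸ N) :
    pushFun N (Cfsg.blockCoeff B) q = Cfsg.blockCoeff (deflSet N B) q := by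
  classical
  have h1 : regMat (pushFun N (Cfsg.blockCoeff B)) = blockMat (deflSet N B) := by
    apply eq_of_cOmega_eq
      (regMat_mem_centerAlg (pushFun_isClassFunction N (blockCoeff_isClassFunction B)))
      (blockMat_mem_centerAlg _)
    intro χ
    rw [← cOmega_comp_mk, cOmega_blockMat]
    have h2 := cOmega_blockMat B (inflIrr N χ)
    unfold blockMat at h2
    have h3 : (fun g : G => (χ : G ⧸ N → ℂ) (QuotientGroup.mk g)) = (inflIrr N χ : G → ℂ) := rfl
    rw [h3]
    have h4 : (fun g => Cfsg.blockCoeff B g) = Cfsg.blockCoeff B := rfl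
    rw [h4] at h2
    rw [h2]
    rfl
  unfold blockMat at h1
  have h2 := regMat_injective h1
  exact congrFun h2 q

theorem deflSet_union (hM : Cfsg.IsPModular p M) {B : Set (Cfsg.IrrCharacter G)}
    (hB : ∀ ψ ∈ B, Cfsg.blockOf M (ψ : G → ℂ) ⊆ B) :
    ∀ χ ∈ deflSet N B, Cfsg.blockOf M (χ : G ⧸ N → ℂ) ⊆ deflSet N B := by
  intro χ hχ ψ hψ
  rw [mem_deflSet] at hχ ⊢
  apply hB _ hχ
  exact sameBlock_inflation N hM χ ψ hψ

end defl

section unionblocks

variable {K : Type*} [Group K] [Fintype K] [DecidableEq K]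
variable {p : ℕ} {M : Ideal Cfsg.AlgInt}

theorem blockMat_eq_sum_blocks_of_union (hM : Cfsg.IsPModular p M)
    [Fintype {f : Set (Cfsg.IrrCharacter K) // Cfsg.IsPBlock M f}]
    (A : Set (Cfsg.IrrCharacter K)) (hA : ∀ ψ ∈ A, Cfsg.blockOf M (ψ : K → ℂ) ⊆ A) :
    blockMat A = ∑ f : {f : Set (Cfsg.IrrCharacter K) // Cfsg.IsPBlock M f},
      (by classical exact if f.1 ⊆ A then blockMat f.1 else 0) := by
  classical
  apply eq_of_cOmega_eq (blockMat_mem_centerAlg A)
  · apply (centerAlg K).sum_mem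
    intro f _
    split_ifs
    · exact blockMat_mem_centerAlg f.1
    · exact (centerAlg K).zero_mem
  intro χ
  rw [cOmega_sum, cOmega_blockMat]
  have hχ : χ ∈ Cfsg.blockOf M (χ : K → ℂ) := sameBlock_refl hM _
  rw [Finset.sum_eq_single (⟨Cfsg.blockOf M (χ : K → ℂ), ⟨χ, rfl⟩⟩ :
    {f : Set (Cfsg.IrrCharacter K) // Cfsg.IsPBlock M f})]
  · by_cases hχA : χ ∈ A
    · rw [if_pos hχA, if_pos (hA χ hχA), cOmega_blockMat, if_pos hχ]
    · rw [if_neg hχA, if_neg (fun h => hχA (h hχ)), cOmega_zero]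
  · intro f _ hne
    split_ifs
    · rw [cOmega_blockMat, if_neg]
      intro hmem
      apply hne
      apply Subtype.ext
      exact isPBlock_eq_of_mem hM f.2 ⟨χ, rfl⟩ hmem hχ
    · exact cOmega_zero _
  · intro h
    exact absurd (Finset.mem_univ _) h

/-- a unit coefficient of a union of blocks is a unit coefficient of one of the blocks -/
theorem exists_block_of_blockCoeff_union (hM : Cfsg.IsPModular p M)
    (A : Set (Cfsg.IrrCharacter K)) (hA : ∀ ψ ∈ A, Cfsg.blockOf M (ψ : K → ℂ) ⊆ A) (k : K)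
    (hk : ¬ Cfsg.MemLocalIdeal M (Cfsg.blockCoeff A k)) :
    ∃ f : Set (Cfsg.IrrCharacter K), Cfsg.IsPBlock M f ∧ f ⊆ A ∧
      ¬ Cfsg.MemLocalIdeal M (Cfsg.blockCoeff f k) := by
  classical
  have : Fintype {f : Set (Cfsg.IrrCharacter K) // Cfsg.IsPBlock M f} := Fintype.ofFinite _
  by_contra hcon
  push Not at hcon
  apply hk
  have h1 := blockMat_eq_sum_blocks_of_union hM A hA
  have h2 := congrFun (congrFun h1 k) 1
  rw [blockMat_apply_one, Matrix.sum_apply] at h2
  rw [h2]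
  apply MemLocalIdeal.sum hM
  intro f _
  split_ifs with hf
  · rw [blockMat_apply_one]
    exact hcon f.1 f.2 hf
  · rw [Matrix.zero_apply]
    exact memLocalIdeal_zero hM

end unionblocks

end Cfsg.Agent.Lib.Helper6
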