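import Mathlib
import Cfsg.Prelude.Def_Blocks
import Cfsg.Agent.Lib.Helper6.BlkQuot4
import Cfsg.Agent.Lib.Helper6.SylowMap

set_option autoImplicit false
set_option linter.unusedSectionVars false
open Cfsg

namespace Cfsg.Agent.Lib.Helper6

open scoped ComplexConjugate

section grp

variable {G : Type*} [Group G]

theorem card_eq_card_map_mk_mul [Finite G] (N K : Subgroup G) [N.Normal] (hNK : N ≤ K) :
    Nat.card K = Nat.card (K.map (QuotientGroup.mk' N)) * Nat.card N := by
  have h1 : (K.map (QuotientGroup.mk' N)).index = K.index := by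
    rw [Subgroup.index_map, QuotientGroup.ker_mk', sup_eq_left.mpr hNK,
      MonoidHom.range_eq_top.mpr (QuotientGroup.mk'_surjective N), Subgroup.index_top, mul_one]
  have h2 := (K.map (QuotientGroup.mk' N)).card_mul_index
  have h3 := K.card_mul_index
  have h4 := N.card_mul_index
  rw [Subgroup.index_eq_card] at h4
  rw [h1] at h2
  have hpos : 0 < K.index := Nat.pos_of_ne_zero Subgroup.index_ne_zero_of_finite
  apply Nat.eq_of_mul_eq_mul_right hpos
  rw [h3, ← h4, ← h2]
  ring

/-- for a `p`-regular element centralizing the normal `p`-subgroup `N`, the centralizer maps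
onto the centralizer in the quotient -/
theorem map_centralizer_singleton_eq_of_pRegular {p : ℕ} [Fact p.Prime] (N : Subgroup G)
    [N.Normal] (hN : IsPGroup p N) (x : G) (hx : ¬ p ∣ orderOf x)
    (hxN : x ∈ Subgroup.centralizer (N : Set G)) :
    (Subgroup.centralizer ({x} : Set G)).map (QuotientGroup.mk' N)
      = Subgroup.centralizer ({(QuotientGroup.mk x : G ⧸ N)} : Set (G ⧸ N)) := by
  apply le_antisymm
  · rintro _ ⟨y, hy, rfl⟩
    rw [SetLike.mem_coe, Subgroup.mem_centralizer_singleton_iff] at hy
    rw [Subgroup.mem_centralizer_singleton_iff]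
    rw [QuotientGroup.mk'_apply, ← QuotientGroup.mk_mul, ← QuotientGroup.mk_mul, hy]
  · intro q hq
    obtain ⟨y, rfl⟩ := QuotientGroup.mk_surjective q
    rw [Subgroup.mem_centralizer_singleton_iff] at hq
    refine ⟨y, ?_, rfl⟩
    rw [SetLike.mem_coe, Subgroup.mem_centralizer_singleton_iff]
    -- `c = y x y⁻¹ = x n`
    have hn : x⁻¹ * (y * x * y⁻¹) ∈ N := by
      rw [← QuotientGroup.eq_one_iff]
      rw [QuotientGroup.mk_mul, QuotientGroup.mk_mul, QuotientGroup.mk_mul, QuotientGroup.mk_inv,
        QuotientGroup.mk_inv, hq]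
      group
    set n := x⁻¹ * (y * x * y⁻¹) with hn_def
    have hc : y * x * y⁻¹ = x * n := by rw [hn_def]; group
    have hcomm : Commute x n := by
      rw [Subgroup.mem_centralizer_iff] at hxN
      exact (hxN n hn).symm
    have hpow : (y * x * y⁻¹) ^ orderOf x = 1 := by
      have : (y * x * y⁻¹) ^ orderOf x = y * x ^ orderOf x * y⁻¹ := by
        rw [← MulAut.conj_apply, ← map_pow, MulAut.conj_apply]
      rw [this, pow_orderOf_eq_one]
      group
    rw [hc, hcomm.mul_pow, pow_orderOf_eq_one, one_mul] at hpow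
    have hdvd : orderOf n ∣ orderOf x := orderOf_dvd_of_pow_eq_one hpow
    obtain ⟨k, hk⟩ := hN ⟨n, hn⟩
    have hk' : n ^ p ^ k = 1 := by
      have := congrArg Subtype.val hk
      simpa using this
    have hdvd2 : orderOf n ∣ p ^ k := orderOf_dvd_of_pow_eq_one hk'
    obtain ⟨j, _, hj⟩ := (Nat.dvd_prime_pow (Fact.out : p.Prime)).mp hdvd2
    have hj0 : j = 0 := by
      by_contra hne
      apply hx
      have : p ∣ orderOf n := by
        rw [hj]
        exact dvd_pow_self p hne
      exact this.trans hdvd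
    rw [hj0, pow_zero, orderOf_eq_one_iff] at hj
    rw [hj, mul_one] at hc
    have : y * x = x * y := by
      calc y * x = y * x * y⁻¹ * y := by group
        _ = x * y := by rw [hc]
    exact this

theorem exists_sylow_map_eq_of_card [Finite G] {p : ℕ} [Fact p.Prime] (H D : Subgroup G)
    (hDH : D ≤ H) (hcard : Nat.card D = p ^ (Nat.card H).factorization p) :
    ∃ Q : Sylow p H, D = (Q : Subgroup H).map H.subtype := by
  have h1 : Nat.card (D.subgroupOf H) = p ^ (Nat.card H).factorization p := by
    rw [← hcard]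
    exact Nat.card_congr (Subgroup.subgroupOfEquivOfLe hDH).toEquiv
  refine ⟨Sylow.ofCard (D.subgroupOf H) h1, ?_⟩
  rw [Sylow.coe_ofCard, Subgroup.map_subgroupOf_eq_of_le hDH]

end grp

section main

variable {G : Type*} [Group G] [Fintype G] [DecidableEq G]
variable {p : ℕ} [Fact p.Prime] {M : Ideal Cfsg.AlgInt}
variable (N : Subgroup G) [hNn : N.Normal]

/-- a block of `G` contains a block of the quotient by a normal `p`-subgroup whose defect group
is the image of a given defect group -/
theorem exists_quotient_block_defect (hM : Cfsg.IsPModular p M) (hN : IsPGroup p N)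
    (B : Set (Cfsg.IrrCharacter G)) (hB : Cfsg.IsPBlock M B) (P : Subgroup G)
    (hP : Cfsg.IsDefectGroup p M B P) :
    ∃ Bbar : Set (Cfsg.IrrCharacter (G ⧸ N)), Cfsg.IsPBlock M Bbar ∧ Bbar ⊆ deflSet N B ∧
      Cfsg.IsDefectGroup p M Bbar (P.map (QuotientGroup.mk' N)) := by
  classical
  have : Fintype (G ⧸ N) := Fintype.ofFinite _
  have hNP : N ≤ P := by
    have h1 : N ≤ Cfsg.pCore p G := le_sSup ⟨hNn, hN⟩
    exact h1.trans (Cfsg.Agent.S0912.result p M hM B hB P hP)
  obtain ⟨x, hx, Q, hQ⟩ := hP
  obtain ⟨χ₀, hBχ⟩ := hB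
  have hxreg : ¬ p ∣ orderOf x := by
    apply pRegular_of_blockCoeff hM χ₀ x
    rw [← hBχ]
    exact hx.2.1
  have hPC : P ≤ Subgroup.centralizer ({x} : Set G) := by
    rw [hQ]
    exact Subgroup.map_subtype_le _
  have hxN : x ∈ Subgroup.centralizer (N : Set G) := by
    rw [Subgroup.mem_centralizer_iff]
    intro n hn
    have := hPC (hNP hn)
    rw [Subgroup.mem_centralizer_singleton_iff] at this
    exact this
  have hBun : ∀ ψ ∈ B, Cfsg.blockOf M (ψ : G → ℂ) ⊆ B := by
    intro ψ hψ
    rw [hBχ] at hψ ⊢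
    rw [blockOf_eq_of_mem hM hψ]
  have hAun := deflSet_union N hM hBun
  -- the coefficient at the image of `x`
  have hcoef : Cfsg.blockCoeff (deflSet N B) (QuotientGroup.mk x : G ⧸ N) = Cfsg.blockCoeff B x := by
    rw [← pushFun_blockCoeff, pushFun_apply]
    rw [Finset.sum_eq_single x]
    · intro g hg hgx
      simp only [Finset.mem_filter, Finset.mem_univ, true_and] at hg
      rw [hBχ]
      apply blockCoeff_eq_zero_of_pSingular hM χ₀
      by_contra hreg
      apply hgx
      -- `g = x n` with `n ∈ N` commuting with `x`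
      have hn : x⁻¹ * g ∈ N := by
        rw [← QuotientGroup.eq_one_iff, QuotientGroup.mk_mul, QuotientGroup.mk_inv, hg]
        group
      set n := x⁻¹ * g with hn_def
      have hgn : g = x * n := by rw [hn_def]; group
      have hcomm : Commute x n := by
        rw [Subgroup.mem_centralizer_iff] at hxN
        exact (hxN n hn).symm
      have hpow : n ^ (orderOf x * orderOf g) = 1 := by
        have h1 : g ^ (orderOf x * orderOf g) = 1 := by
          rw [mul_comm, pow_mul, pow_orderOf_eq_one, one_pow]
        rw [hgn, hcomm.mul_pow, pow_mul x, pow_orderOf_eq_one, one_pow, one_mul] at h1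
        rw [← hgn] at h1
        exact h1
      have hdvd : orderOf n ∣ orderOf x * orderOf g := orderOf_dvd_of_pow_eq_one hpow
      obtain ⟨k, hk⟩ := hN ⟨n, hn⟩
      have hk' : n ^ p ^ k = 1 := by
        have := congrArg Subtype.val hk
        simpa using this
      have hdvd2 : orderOf n ∣ p ^ k := orderOf_dvd_of_pow_eq_one hk'
      obtain ⟨j, _, hj⟩ := (Nat.dvd_prime_pow (Fact.out : p.Prime)).mp hdvd2
      have hj0 : j = 0 := by
        by_contra hne
        have h1 : p ∣ orderOf n := by
          rw [hj]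
          exact dvd_pow_self p hne
        have h2 := h1.trans hdvd
        rcases ((Fact.out : p.Prime).dvd_mul).mp h2 with h3 | h3
        · exact hxreg h3
        · exact hreg h3
      rw [hj0, pow_zero, orderOf_eq_one_iff] at hj
      rw [hgn, hj, mul_one]
    · intro h
      exfalso
      apply h
      simp
  have hne : ¬ Cfsg.MemLocalIdeal M (Cfsg.blockCoeff (deflSet N B) (QuotientGroup.mk x : G ⧸ N)) := by
    rw [hcoef]
    exact hx.2.1
  obtain ⟨f, hf, hfA, hfx⟩ := exists_block_of_blockCoeff_union hM (deflSet N B) hAun _ hne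
  refine ⟨f, hf, hfA, ?_⟩
  -- `mk x` is a defect class of `f`
  have hdc : Cfsg.IsDefectClass M f (QuotientGroup.mk x : G ⧸ N) := by
    obtain ⟨ψ₀, hfψ⟩ := hf
    refine ⟨?_, hfx, ?_⟩
    · rw [hfψ]
      exact blockCoeff_memLocalRing hM ψ₀ _
    · intro χ hχ
      have h1 : inflIrr N χ ∈ B := hfA hχ
      have h2 := hx.2.2 _ h1
      have h3 := centralChar_comp_mk N (IsIrrCharacter.isClassFunction χ.2) x
      rw [pushFun_classInd_of_pRegular N (Fact.out : p.Prime) hN x hxreg hxN,
        cOmega_classInd _ (IsIrrCharacter.isClassFunction χ.2)] at h3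
      rw [← h3]
      exact h2
  -- the Sylow subgroup
  have hmapC := map_centralizer_singleton_eq_of_pRegular N hN x hxreg hxN
  have hNC : N ≤ Subgroup.centralizer ({x} : Set G) := hNP.trans hPC
  have hle : P.map (QuotientGroup.mk' N)
      ≤ Subgroup.centralizer ({(QuotientGroup.mk x : G ⧸ N)} : Set (G ⧸ N)) := by
    rw [← hmapC]
    exact Subgroup.map_mono hPC
  have hcardP : Nat.card P = p ^ (Nat.card (Subgroup.centralizer ({x} : Set G))).factorization p := by
    rw [hQ]
    exact card_sylow_map Q
  have hc1 := card_eq_card_map_mk_mul N P hNP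
  have hc2 := card_eq_card_map_mk_mul N (Subgroup.centralizer ({x} : Set G)) hNC
  rw [hmapC] at hc2
  obtain ⟨n, hn⟩ := IsPGroup.iff_card.mp hN
  have hp := (Fact.out : p.Prime)
  have hfac : (Nat.card (Subgroup.centralizer ({x} : Set G))).factorization p
      = (Nat.card (Subgroup.centralizer ({(QuotientGroup.mk x : G ⧸ N)} : Set (G ⧸ N)))).factorization p
        + n := by
    rw [hc2, Nat.factorization_mul Nat.card_pos.ne' Nat.card_pos.ne', Finsupp.add_apply, hn,
      hp.factorization_pow]
    simp
  have hcard : Nat.card (P.map (QuotientGroup.mk' N))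
      = p ^ (Nat.card (Subgroup.centralizer
          ({(QuotientGroup.mk x : G ⧸ N)} : Set (G ⧸ N)))).factorization p := by
    rw [hcardP, hfac, hn, pow_add] at hc1
    exact (Nat.eq_of_mul_eq_mul_right (pow_pos hp.pos n) hc1).symm
  obtain ⟨Qbar, hQbar⟩ := exists_sylow_map_eq_of_card _ _ hle hcard
  exact ⟨_, hdc, Qbar, hQbar⟩

end main

end Cfsg.Agent.Lib.Helper6
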