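import Mathlib
import Cfsg.Prelude.Def_Blocks
import Cfsg.Prelude.Def_BrauerPairs
import Cfsg.Agent.Lib.Helper6.BrNorm
import Cfsg.Agent.Lib.Helper6.BlkStab
import Cfsg.Agent.Lib.Helper6.BlkCoverDefect
import Cfsg.Agent.S4657

set_option autoImplicit false
set_option linter.unusedSectionVars false
open Cfsg

namespace Cfsg.Agent.Lib.Helper6

open scoped ComplexConjugate

section conjsum

variable {G : Type*} [Group G] [Fintype G] [DecidableEq G]
variable {p : ℕ} [Fact p.Prime] {M : Ideal Cfsg.AlgInt}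
variable (N : Subgroup G) [Fintype N] (hN : N.Normal)

theorem idemFun_irrConj (θ : Cfsg.IrrCharacter N) (g : G) (n : N) :
    idemFun ((irrConj N hN g θ : Cfsg.IrrCharacter N) : N → ℂ) n
      = idemFun (θ : N → ℂ) ⟨g * n * g⁻¹, hN.conj_mem n n.2 g⟩ := by
  unfold idemFun
  rw [irrConj_coe, conjFun_apply_one, conjFun_apply]

/-- the sum of the conjugates of the idempotent of a block `e` of a normal subgroup is `|T|` times
the idempotent of the union of the conjugates of `e`, where `T` is the stabilizer of `e` -/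
theorem sum_conj_blockCoeff (hM : Cfsg.IsPModular p M) (e : Set (Cfsg.IrrCharacter N))
    (he : Cfsg.IsPBlock M e) (T : Subgroup G)
    (hT : ∀ g : G, g ∈ T ↔ ∀ θ ∈ e, irrConj N hN g θ ∈ e) (n : N) :
    ∑ x : G, Cfsg.blockCoeff e ⟨x⁻¹ * n * x, by
        have := hN.conj_mem n n.2 x⁻¹; rwa [inv_inv] at this⟩
      = (Nat.card T : ℂ) * Cfsg.blockCoeff (conjUnion N hN e) n := by
  classical
  have : Fintype (Cfsg.IrrCharacter N) := Fintype.ofFinite _
  have hstep : ∀ x : G, Cfsg.blockCoeff e ⟨x⁻¹ * n * x, by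
        have := hN.conj_mem n n.2 x⁻¹; rwa [inv_inv] at this⟩
      = ∑ θ' : Cfsg.IrrCharacter N, if irrConj N hN x θ' ∈ e then idemFun (θ' : N → ℂ) n else 0 := by
    intro x
    rw [blockCoeff_eq_sum, Finset.sum_filter]
    rw [← Equiv.sum_comp (irrConj N hN x)]
    apply Finset.sum_congr rfl
    intro θ' _
    split_ifs with h
    · have h1 := idemFun_irrConj N hN (irrConj N hN x θ') x⁻¹ n
      rw [← irrConj_mul, mul_inv_cancel, irrConj_one] at h1
      rw [h1]
      congr 2
      simp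
    · rfl
  rw [Finset.sum_congr rfl (fun x _ => hstep x), Finset.sum_comm, blockCoeff_eq_sum,
    Finset.mul_sum, Finset.sum_filter]
  apply Finset.sum_congr rfl
  intro θ' _
  split_ifs with hθ'
  · obtain ⟨x₀, hx₀⟩ := hθ'
    have hiff : ∀ x : G, irrConj N hN x θ' ∈ e ↔ x₀⁻¹ * x ∈ T := by
      intro x
      have hx : irrConj N hN x θ' = irrConj N hN (x₀⁻¹ * x) (irrConj N hN x₀ θ') := by
        rw [← irrConj_mul, mul_inv_cancel_left]
      rw [hx]
      constructor
      · intro h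
        exact mem_stab_of_conj_mem N hN T e hT hM he hx₀ h
      · intro h
        exact (hT _).mp h _ hx₀
    rw [← Finset.sum_filter, Finset.sum_const, nsmul_eq_mul]
    congr 2
    rw [Nat.card_eq_fintype_card, Fintype.card_subtype]
    apply Finset.card_bij (fun x _ => x₀⁻¹ * x)
    · intro x hx
      rw [Finset.mem_filter] at hx ⊢
      exact ⟨Finset.mem_univ _, (hiff x).mp hx.2⟩
    · intro a _ b _ hab
      exact mul_left_cancel hab
    · intro t ht
      rw [Finset.mem_filter] at ht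
      refine ⟨x₀ * t, ?_, by group⟩
      rw [Finset.mem_filter]
      refine ⟨Finset.mem_univ _, (hiff _).mpr ?_⟩
      rw [inv_mul_cancel_left]
      exact ht.2
  · apply Finset.sum_eq_zero
    intro x _
    rw [if_neg]
    intro h
    exact hθ' ⟨x, h⟩

end conjsum

section coverblock

variable {G : Type*} [Group G] [Fintype G] [DecidableEq G]
variable {p : ℕ} [Fact p.Prime] {M : Ideal Cfsg.AlgInt}
variable (N : Subgroup G) [Fintype N] [hN : N.Normal]

/-- if central characters vanish modulo the ideal off `N`, the characters over the conjugates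
of a block of `N` form a single block -/
theorem overSet_conjUnion_eq_blockOf (hM : Cfsg.IsPModular p M)
    (hoff : ∀ (χ : Cfsg.IrrCharacter G) (g : G), g ∉ N →
      Cfsg.MemLocalIdeal M (Cfsg.centralChar (χ : G → ℂ) g))
    (θ₀ : Cfsg.IrrCharacter N) (χ₀ : Cfsg.IrrCharacter G)
    (hχ₀ : Cfsg.classInner (fun n : N => (χ₀ : G → ℂ) n) (θ₀ : N → ℂ) ≠ 0) :
    overSet N (conjUnion N hN (Cfsg.blockOf M (θ₀ : N → ℂ))) = Cfsg.blockOf M (χ₀ : G → ℂ) := by
  classical
  have hNn : N.Normal := hN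
  ext χ
  constructor
  · rintro ⟨θ, ⟨g, hg⟩, hc⟩
    have hc' : Cfsg.classInner (fun n : N => (χ : G → ℂ) n)
        ((irrConj N hNn g θ : Cfsg.IrrCharacter N) : N → ℂ) ≠ 0 := by
      rw [irrConj_coe, classInner_restrict_conjFun N hNn (IsIrrCharacter.isClassFunction χ.2)]
      exact hc
    exact sameBlock_of_cover_of_vanish N hM hoff χ₀ χ θ₀ _ hg hχ₀ hc'
  · intro hχ
    obtain ⟨θ', hθ'⟩ := exists_constituent_restrict N χ.2
    refine ⟨θ', ?_, hθ'⟩
    exact constituents_mem_of_sameBlock N hNn hM (conjUnion_gStable N hNn _)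
      (fun n => blockCoeff_memLocalRing_of_union hM _ (conjUnion_union_of_blocks N hNn hM θ₀) n)
      χ₀ χ hχ θ₀ (subset_conjUnion N hNn _ (sameBlock_refl hM _)) hχ₀ θ' hθ'

end coverblock

section main

variable {G : Type*} [Group G] [Fintype G] [DecidableEq G]
variable {p : ℕ} [Fact p.Prime] {M : Ideal Cfsg.AlgInt}

/-- `StabilizesBlock` in terms of `irrConj`, for a normal subgroup -/
theorem stabilizesBlock_iff_irrConj (N : Subgroup G) [Fintype N] (hN : N.Normal)
    (e : Set (Cfsg.IrrCharacter N)) (x : G) :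
    Cfsg.StabilizesBlock N e x ↔ ∀ θ ∈ e, irrConj N hN x⁻¹ θ ∈ e := by
  constructor
  · rintro ⟨_, h2⟩ θ hθ
    obtain ⟨χ', hχ', hconj⟩ := h2 θ hθ
    have : irrConj N hN x⁻¹ θ = χ' := by
      apply Subtype.ext
      funext n
      rw [irrConj_coe, conjFun_apply]
      exact (hconj ⟨x⁻¹ * n * x⁻¹⁻¹, hN.conj_mem n n.2 x⁻¹⟩ n (by simp [mul_assoc])).symm
    rw [this]
    exact hχ'
  · intro h
    refine ⟨?_, ?_⟩
    · rw [Subgroup.normalizer_eq_top]
      exact Subgroup.mem_top x
    · intro θ hθ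
      refine ⟨_, h θ hθ, ?_⟩
      intro k k' hk
      rw [irrConj_coe, conjFun_apply]
      refine congrArg _ (Subtype.ext ?_)
      simp [hk, mul_assoc]

theorem blockCoeff_eq_sum_conj_of_normal (hM : Cfsg.IsPModular p M) (P : Subgroup G) [P.Normal]
    (hP : IsPGroup p P) (B : Set (Cfsg.IrrCharacter G))
    (e : Set (Cfsg.IrrCharacter (Subgroup.centralizer (P : Set G))))
    (hBe : Cfsg.IsBrauerPairOf p M B P e) (T : Subgroup G)
    (hT : ∀ x : G, x ∈ T ↔ Cfsg.StabilizesBlock (Subgroup.centralizer (P : Set G)) e x) (g : G) :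
    Cfsg.blockCoeff B g = (Nat.card T : ℂ)⁻¹ *
      ∑ x : G, Cfsg.subgroupBlockCoeff (Subgroup.centralizer (P : Set G)) e (x⁻¹ * g * x) := by
  classical
  have : Fintype (Subgroup.centralizer (P : Set G)) := Fintype.ofFinite _
  have hCn : (Subgroup.centralizer (P : Set G)).Normal := Subgroup.normal_centralizer
  have hT' : ∀ g : G, g ∈ T ↔ ∀ θ ∈ e, irrConj _ hCn g θ ∈ e := by
    intro g
    rw [← inv_mem_iff, hT, stabilizesBlock_iff_irrConj _ hCn, inv_inv]
  have hTne : (Nat.card T : ℂ) ≠ 0 := by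
    exact_mod_cast Nat.card_pos.ne'
  obtain ⟨θ₀, rfl⟩ := hBe.1.2
  obtain ⟨χ₀, hχ₀⟩ := exists_irr_over (Subgroup.centralizer (P : Set G)) θ₀
  have hover := overSet_conjUnion_eq_blockOf (Subgroup.centralizer (P : Set G)) hM
    (fun χ g hg => centralChar_memLocalIdeal_of_not_mem_centralizer hM P hP χ g hg) θ₀ χ₀ hχ₀
  have hst := conjUnion_gStable _ hCn (Cfsg.blockOf M (θ₀ : Subgroup.centralizer (P : Set G) → ℂ))
  -- the block over the conjugates has `(P, e)` as a Brauer pair
  have hpair : Cfsg.IsBrauerPairOf p M (Cfsg.blockOf M (χ₀ : G → ℂ)) P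
      (Cfsg.blockOf M (θ₀ : Subgroup.centralizer (P : Set G) → ℂ)) := by
    refine ⟨hBe.1, ⟨χ₀, rfl⟩, ?_⟩
    intro ξ hξ
    rw [brauerOmega_eq_cOmega, ← hover]
    have h1 : (fun c : Subgroup.centralizer (P : Set G) =>
        Cfsg.blockCoeff (overSet _ (conjUnion _ hCn
          (Cfsg.blockOf M (θ₀ : Subgroup.centralizer (P : Set G) → ℂ)))) (c : G))
        = fun c => Cfsg.blockCoeff (conjUnion _ hCn
          (Cfsg.blockOf M (θ₀ : Subgroup.centralizer (P : Set G) → ℂ))) c := by
      funext c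
      exact blockCoeff_overSet_coe _ hCn hst c
    rw [h1]
    change Cfsg.MemLocalIdeal M (cOmega _ (blockMat _) - 1)
    rw [cOmega_blockMat, if_pos (subset_conjUnion _ hCn _ hξ), sub_self]
    exact memLocalIdeal_zero hM
  have hB : B = Cfsg.blockOf M (χ₀ : G → ℂ) :=
    (Cfsg.Agent.S4657.result p M hM P _ hBe.1).unique hBe hpair
  rw [hB, ← hover, blockCoeff_overSet_eq _ hCn hst]
  by_cases hg : g ∈ Subgroup.centralizer (P : Set G)
  · rw [extendByZero_of_mem _ _ hg]
    have h2 := sum_conj_blockCoeff _ hCn hM _ hBe.1.2 T hT' ⟨g, hg⟩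
    have h3 : ∀ x : G, Cfsg.subgroupBlockCoeff (Subgroup.centralizer (P : Set G))
        (Cfsg.blockOf M (θ₀ : Subgroup.centralizer (P : Set G) → ℂ)) (x⁻¹ * g * x)
        = Cfsg.blockCoeff (Cfsg.blockOf M (θ₀ : Subgroup.centralizer (P : Set G) → ℂ))
          ⟨x⁻¹ * g * x, by
            have := hCn.conj_mem g hg x⁻¹; rwa [inv_inv] at this⟩ := by
      intro x
      rw [subgroupBlockCoeff_of_mem]
    rw [Finset.sum_congr rfl (fun x _ => h3 x)]
    rw [h2, ← mul_assoc, inv_mul_cancel₀ hTne, one_mul]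
  · rw [extendByZero_of_not_mem _ _ hg]
    rw [Finset.sum_eq_zero, mul_zero]
    intro x _
    rw [subgroupBlockCoeff_of_not_mem]
    intro hcon
    apply hg
    have := hCn.conj_mem _ hcon x
    simpa [mul_assoc] using this

end main

end Cfsg.Agent.Lib.Helper6
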