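import Mathlib
import Cfsg.Prelude.Def_Blocks
import Cfsg.Prelude.Def_BrauerPairs
import Cfsg.Agent.Lib.Helper6.DefectZeroCover
import Cfsg.Agent.Lib.Helper6.BlkQuot5
import Cfsg.Agent.Lib.Helper6.BlkNormalP
import Cfsg.Agent.Lib.Helper6.BrNorm
import Cfsg.Agent.Lib.Helper6.BrNormalP
import Cfsg.Agent.S0914
import Cfsg.Agent.S0908
import Cfsg.Agent.S0912

set_option autoImplicit false
set_option linter.unusedSectionVars false
open Cfsg

namespace Cfsg.Agent.Lib.Helper6

open scoped ComplexConjugate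

section surj

theorem isIrrCharacter_comp_surj {K L : Type*} [Group K] [Group L] [Finite K] [Finite L]
    (f : L →* K) (hf : Function.Surjective f) {χ : K → ℂ} (hχ : Cfsg.IsIrrCharacter K χ) :
    Cfsg.IsIrrCharacter L (fun l => χ (f l)) := by
  have : Fintype L := Fintype.ofFinite L
  let e : L ⧸ f.ker ≃* K := QuotientGroup.quotientKerEquivOfSurjective f hf
  have h1 : Cfsg.IsIrrCharacter (L ⧸ f.ker) (fun q => χ (e q)) := IsIrrCharacter.comp_mulEquiv e hχ
  exact IsIrrCharacter.comp_mk f.ker h1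

theorem classInner_comp_surj {K L : Type*} [Group K] [Group L] [Fintype K] [Fintype L]
    (f : L →* K) (hf : Function.Surjective f) (a b : K → ℂ) :
    Cfsg.classInner (fun l => a (f l)) (fun l => b (f l)) = Cfsg.classInner a b := by
  have : Fintype (L ⧸ f.ker) := Fintype.ofFinite _
  let e : L ⧸ f.ker ≃* K := QuotientGroup.quotientKerEquivOfSurjective f hf
  have h1 := classInner_comp_mk f.ker (fun q => a (e q)) (fun q => b (e q))
  have h2 := classInner_comp_mulEquiv e a b
  rw [← h2, ← h1]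
  rfl

end surj

section generic

variable {H : Type*} [Group H] [Fintype H] [DecidableEq H]

/-- a normal `p`-subgroup of a group with an irreducible character of defect zero modulo the
normal `p`-subgroup `Q` lies in `Q` -/
theorem le_of_normal_pSubgroup_of_defect_zero_mod {p : ℕ} (hp : p.Prime) (Q : Subgroup H)
    [hQn : Q.Normal] (χ : Cfsg.IrrCharacter H) (hker : ∀ q ∈ Q, (χ : H → ℂ) q = (χ : H → ℂ) 1)
    (hdeg : (Cfsg.charDegree (χ : H → ℂ)).factorization p + (Nat.card Q).factorization p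
      = (Nat.card H).factorization p)
    (R : Subgroup H) [hRn : R.Normal] (hR : IsPGroup p R) : R ≤ Q := by
  classical
  haveI : Fact p.Prime := ⟨hp⟩
  have : Fintype R := Fintype.ofFinite _
  have : Fintype (H ⧸ Q) := Fintype.ofFinite _
  obtain ⟨β, hβ⟩ := IsIrrCharacter.exists_deflation Q χ hker
  have hdegβ : Cfsg.charDegree (β : H ⧸ Q → ℂ) = Cfsg.charDegree (χ : H → ℂ) := by
    have h1 := IsCharacter.apply_one_eq_charDegree (IsIrrCharacter.isCharacter β.2)
    have h2 := IsCharacter.apply_one_eq_charDegree (IsIrrCharacter.isCharacter χ.2)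
    have h3 : (χ : H → ℂ) 1 = (β : H ⧸ Q → ℂ) 1 := by rw [hβ]; rfl
    rw [h1, h2] at h3
    exact_mod_cast h3.symm
  have hcard : (Nat.card (H ⧸ Q)).factorization p + (Nat.card Q).factorization p
      = (Nat.card H).factorization p := by
    rw [Subgroup.card_eq_card_quotient_mul_card_subgroup Q,
      Nat.factorization_mul Nat.card_pos.ne' Nat.card_pos.ne', Finsupp.add_apply]
  have hβ0 : p ^ (Nat.card (H ⧸ Q)).factorization p ∣ Cfsg.charDegree (β : H ⧸ Q → ℂ) := by
    apply (hp.pow_dvd_iff_le_factorization (charDegree_ne_zero β)).mpr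
    rw [hdegβ]
    omega
  -- vanishing outside `Q` on `p`-elements
  have hvan : ∀ r : H, (∃ k : ℕ, orderOf r = p ^ k) → r ∉ Q → (χ : H → ℂ) r = 0 := by
    intro r ⟨k, hk⟩ hrQ
    rw [hβ]
    apply IsIrrCharacter.eq_zero_of_defect_zero β.2 p _ hp (Nat.ordProj_dvd _ _)
      (Nat.pow_succ_factorization_not_dvd Nat.card_pos.ne' hp) hβ0
    have h1 : orderOf (QuotientGroup.mk r : H ⧸ Q) ∣ p ^ k := by
      rw [← hk]
      exact orderOf_map_dvd (QuotientGroup.mk' Q) r
    obtain ⟨j, _, hj⟩ := (Nat.dvd_prime_pow hp).mp h1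
    rw [hj]
    rcases Nat.eq_zero_or_pos j with h0 | h0
    · exfalso
      rw [h0, pow_zero, orderOf_eq_one_iff, QuotientGroup.eq_one_iff] at hj
      exact hrQ hj
    · exact dvd_pow_self p h0.ne'
  have hRord : ∀ r : R, ∃ k : ℕ, orderOf (r : H) = p ^ k := by
    intro r
    obtain ⟨k, hk⟩ := (IsPGroup.iff_orderOf.mp hR) r
    exact ⟨k, by rw [Subgroup.orderOf_coe]; exact hk⟩
  have hsum : ∑ r : R, (χ : H → ℂ) r ≠ 0 := by
    have h1 : ∀ r : R, (χ : H → ℂ) r = if (r : H) ∈ Q then (χ : H → ℂ) 1 else 0 := by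
      intro r
      split_ifs with h
      · exact hker _ h
      · exact hvan _ (hRord r) h
    rw [Finset.sum_congr rfl (fun r _ => h1 r), ← Finset.sum_filter, Finset.sum_const,
      nsmul_eq_mul]
    apply mul_ne_zero _ (IsIrrCharacter.apply_one_ne_zero χ.2)
    have : (Finset.univ.filter (fun r : R => (r : H) ∈ Q)).card ≠ 0 := by
      apply Finset.card_ne_zero.mpr
      exact ⟨1, by simp [Q.one_mem]⟩
    exact_mod_cast this
  have hconst := IsIrrCharacter.const_on_normal_of_sum_ne_zero R χ.2 hsum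
  intro r hr
  by_contra hrQ
  have h1 := hvan r (hRord ⟨r, hr⟩) hrQ
  have h2 := hconst ⟨r, hr⟩
  rw [h1] at h2
  exact IsIrrCharacter.apply_one_ne_zero χ.2 h2.symm

/-- for a character `χ` of defect zero modulo the normal `p`-subgroup `Q` and a normal subgroup
`C`, some constituent of the restriction of `χ` to `C` is trivial on `Q ∩ C` and has defect zero
modulo `Q ∩ C` -/
theorem exists_constituent_defect_zero_mod {p : ℕ} (hp : p.Prime) (Q C : Subgroup H)
    [hQn : Q.Normal] [hCn : C.Normal] [Fintype C] (χ : Cfsg.IrrCharacter H)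
    (hker : ∀ q ∈ Q, (χ : H → ℂ) q = (χ : H → ℂ) 1)
    (hdeg : (Cfsg.charDegree (χ : H → ℂ)).factorization p + (Nat.card Q).factorization p
      = (Nat.card H).factorization p) :
    ∃ θ : Cfsg.IrrCharacter C, Cfsg.classInner (fun c : C => (χ : H → ℂ) c) (θ : C → ℂ) ≠ 0 ∧
      (∀ z : C, (z : H) ∈ Q → (θ : C → ℂ) z = (θ : C → ℂ) 1) ∧
      (Nat.card C).factorization p
        ≤ (Cfsg.charDegree (θ : C → ℂ)).factorization p
          + (Nat.card (Q.subgroupOf C)).factorization p := by
  classical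
  haveI : Fact p.Prime := ⟨hp⟩
  have : Fintype (H ⧸ Q) := Fintype.ofFinite _
  obtain ⟨β, hβ⟩ := IsIrrCharacter.exists_deflation Q χ hker
  have hdegβ : Cfsg.charDegree (β : H ⧸ Q → ℂ) = Cfsg.charDegree (χ : H → ℂ) := by
    have h1 := IsCharacter.apply_one_eq_charDegree (IsIrrCharacter.isCharacter β.2)
    have h2 := IsCharacter.apply_one_eq_charDegree (IsIrrCharacter.isCharacter χ.2)
    have h3 : (χ : H → ℂ) 1 = (β : H ⧸ Q → ℂ) 1 := by rw [hβ]; rfl
    rw [h1, h2] at h3
    exact_mod_cast h3.symm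
  have hcard : (Nat.card (H ⧸ Q)).factorization p + (Nat.card Q).factorization p
      = (Nat.card H).factorization p := by
    rw [Subgroup.card_eq_card_quotient_mul_card_subgroup Q,
      Nat.factorization_mul Nat.card_pos.ne' Nat.card_pos.ne', Finsupp.add_apply]
  have hβ0 : p ^ (Nat.card (H ⧸ Q)).factorization p ∣ Cfsg.charDegree (β : H ⧸ Q → ℂ) := by
    apply (hp.pow_dvd_iff_le_factorization (charDegree_ne_zero β)).mpr
    rw [hdegβ]
    omega
  obtain ⟨Nb, hNb⟩ : ∃ Nb : Subgroup (H ⧸ Q), Nb = C.map (QuotientGroup.mk' Q) := ⟨_, rfl⟩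
  have hNbn : Nb.Normal := by
    rw [hNb]
    exact Subgroup.Normal.map hCn _ (QuotientGroup.mk'_surjective Q)
  have : Fintype Nb := Fintype.ofFinite _
  obtain ⟨θb, hθb⟩ := exists_constituent_restrict Nb β.2
  have hA := pow_dvd_degree_of_constituent_of_defect_zero Nb hNbn hp β hβ0 θb hθb
    _ (Nat.ordProj_dvd _ _)
  have hA' : (Nat.card Nb).factorization p ≤ (Cfsg.charDegree (θb : Nb → ℂ)).factorization p :=
    (hp.pow_dvd_iff_le_factorization (charDegree_ne_zero θb)).mp hA
  -- the projection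
  obtain ⟨π, hπ⟩ : ∃ π : C →* Nb, ∀ c : C, ((π c : Nb) : H ⧸ Q) = QuotientGroup.mk (c : H) := by
    subst hNb
    exact ⟨(QuotientGroup.mk' Q).subgroupMap C, fun c => rfl⟩
  have hπs : Function.Surjective π := by
    rintro ⟨q, hq⟩
    rw [hNb] at hq
    obtain ⟨c, hc, rfl⟩ := hq
    refine ⟨⟨c, hc⟩, ?_⟩
    apply Subtype.ext
    rw [hπ]
    rfl
  refine ⟨⟨fun c => (θb : Nb → ℂ) (π c), isIrrCharacter_comp_surj π hπs θb.2⟩, ?_, ?_, ?_⟩
  · have h1 : (fun c : C => (χ : H → ℂ) c) = fun c => (fun n : Nb => (β : H ⧸ Q → ℂ) n) (π c) := by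
      funext c
      rw [hβ]
      simp only
      rw [hπ]
    rw [h1]
    have h2 := classInner_comp_surj π hπs (fun n : Nb => (β : H ⧸ Q → ℂ) n) (θb : Nb → ℂ)
    intro h3
    apply hθb
    rw [← h2]
    exact h3
  · intro z hz
    change (θb : Nb → ℂ) (π z) = (θb : Nb → ℂ) (π 1)
    have : π z = 1 := by
      apply Subtype.ext
      rw [hπ]
      exact (QuotientGroup.eq_one_iff _).mpr hz
    rw [this, map_one]
  · have hdegθ : Cfsg.charDegree (fun c => (θb : Nb → ℂ) (π c)) = Cfsg.charDegree (θb : Nb → ℂ) := by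
      have h1 := IsCharacter.apply_one_eq_charDegree (IsIrrCharacter.isCharacter θb.2)
      have h2 := IsCharacter.apply_one_eq_charDegree
        (IsIrrCharacter.isCharacter (isIrrCharacter_comp_surj π hπs θb.2))
      simp only [map_one] at h2
      rw [h1] at h2
      exact_mod_cast h2.symm
    have hker' : π.ker = Q.subgroupOf C := by
      ext z
      rw [MonoidHom.mem_ker, Subgroup.mem_subgroupOf]
      constructor
      · intro h
        have h1 := congrArg (Subtype.val : Nb → H ⧸ Q) h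
        rw [hπ] at h1
        exact (QuotientGroup.eq_one_iff _).mp h1
      · intro h
        apply Subtype.ext
        rw [hπ]
        exact (QuotientGroup.eq_one_iff _).mpr h
    have hcardC : Nat.card C = Nat.card Nb * Nat.card (Q.subgroupOf C) := by
      rw [← hker', Subgroup.card_eq_card_quotient_mul_card_subgroup π.ker]
      congr 1
      exact Nat.card_congr (QuotientGroup.quotientKerEquivOfSurjective π hπs).toEquiv
    change _ ≤ (Cfsg.charDegree (fun c => (θb : Nb → ℂ) (π c))).factorization p + _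
    rw [hdegθ, hcardC, Nat.factorization_mul Nat.card_pos.ne' Nat.card_pos.ne', Finsupp.add_apply]
    omega

end generic

section central

variable {K : Type*} [Group K] [Fintype K] [DecidableEq K]
variable {p : ℕ} [Fact p.Prime] {M : Ideal Cfsg.AlgInt}

/-- a block containing a character that is trivial on the central `p`-subgroup `Z` and has defect
zero modulo `Z` has defect group `Z` -/
theorem isDefectGroup_of_central_defect_zero_mod (hM : Cfsg.IsPModular p M) (Z : Subgroup K)
    [hZn : Z.Normal] (hZ : IsPGroup p Z) (hZc : Z ≤ Subgroup.center K)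
    (b : Set (Cfsg.IrrCharacter K)) (hb : Cfsg.IsPBlock M b) (θ : Cfsg.IrrCharacter K)
    (hθ : θ ∈ b) (hker : ∀ z ∈ Z, (θ : K → ℂ) z = (θ : K → ℂ) 1)
    (hdeg : (Nat.card K).factorization p
      ≤ (Cfsg.charDegree (θ : K → ℂ)).factorization p + (Nat.card Z).factorization p) :
    Cfsg.IsDefectGroup p M b Z := by
  classical
  have hp : p.Prime := hM.1
  have : Fintype (K ⧸ Z) := Fintype.ofFinite _
  obtain ⟨D, hD⟩ := exists_isDefectGroup hM b hb
  have hZD : Z ≤ D := by
    have h1 : Z ≤ Cfsg.pCore p K := le_sSup ⟨hZn, hZ⟩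
    exact h1.trans (Cfsg.Agent.S0912.result p M hM b hb D hD)
  obtain ⟨bb, hbb, hsub, hDb⟩ := exists_quotient_block_defect Z hM hZ b hb D hD
  obtain ⟨θt, hθt⟩ := IsIrrCharacter.exists_deflation Z θ hker
  have hθinf : inflIrr Z θt = θ := by
    apply Subtype.ext
    rw [hθt]
    rfl
  obtain ⟨ζ₀, hbbζ⟩ := hbb
  have hζ₀ : ζ₀ ∈ bb := by rw [hbbζ]; exact sameBlock_refl hM _
  have hζ₀b : inflIrr Z ζ₀ ∈ b := hsub hζ₀
  obtain ⟨χ₀, hbχ⟩ := hb
  have hsame : Cfsg.SameBlock M (fun g : K => (ζ₀ : K ⧸ Z → ℂ) (QuotientGroup.mk g))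
      (fun g : K => (θt : K ⧸ Z → ℂ) (QuotientGroup.mk g)) := by
    have h1 : Cfsg.SameBlock M (χ₀ : K → ℂ) (inflIrr Z ζ₀ : K → ℂ) := by rw [hbχ] at hζ₀b; exact hζ₀b
    have h2 : Cfsg.SameBlock M (χ₀ : K → ℂ) (inflIrr Z θt : K → ℂ) := by
      rw [hθinf]; rw [hbχ] at hθ; exact hθ
    exact SameBlock.trans' hM (SameBlock.symm' h1) h2
  have hC : ∃ k : ℕ, (Subgroup.centralizer (Z : Set K)).index = p ^ k := by
    refine ⟨0, ?_⟩
    have : Subgroup.centralizer (Z : Set K) = ⊤ := by
      rw [eq_top_iff]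
      intro g _
      rw [Subgroup.mem_centralizer_iff]
      intro z hz
      exact (Subgroup.mem_center_iff.mp (hZc hz) g).symm
    rw [this, Subgroup.index_top, pow_zero]
  have hsame' := sameBlock_of_sameBlock_inflation Z hM hZ hC ζ₀ θt hsame
  -- the block of `θt` is a singleton
  have hcardq : (Nat.card (K ⧸ Z)).factorization p + (Nat.card Z).factorization p
      = (Nat.card K).factorization p := by
    rw [Subgroup.card_eq_card_quotient_mul_card_subgroup Z,
      Nat.factorization_mul Nat.card_pos.ne' Nat.card_pos.ne', Finsupp.add_apply]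
  have hdegθ : Cfsg.charDegree (θt : K ⧸ Z → ℂ) = Cfsg.charDegree (θ : K → ℂ) := by
    have h1 := IsCharacter.apply_one_eq_charDegree (IsIrrCharacter.isCharacter θt.2)
    have h2 := IsCharacter.apply_one_eq_charDegree (IsIrrCharacter.isCharacter θ.2)
    have h3 : (θ : K → ℂ) 1 = (θt : K ⧸ Z → ℂ) 1 := by rw [hθt]; rfl
    rw [h1, h2] at h3
    exact_mod_cast h3.symm
  have hdvd := IsIrrCharacter.charDegree_dvd_card θt.2
  have hle : (Cfsg.charDegree (θt : K ⧸ Z → ℂ)).factorization p
      ≤ (Nat.card (K ⧸ Z)).factorization p :=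
    (Nat.factorization_le_iff_dvd (charDegree_ne_zero θt) Nat.card_pos.ne').mpr hdvd p
  have heq : (Cfsg.charDegree (θt : K ⧸ Z → ℂ)).factorization p
      = (Nat.card (K ⧸ Z)).factorization p := by
    rw [hdegθ] at hle ⊢
    omega
  have hnd : ¬ p ∣ Nat.card (K ⧸ Z) / Cfsg.charDegree (θt : K ⧸ Z → ℂ) := by
    intro hcon
    have h1 : 1 ≤ (Nat.card (K ⧸ Z) / Cfsg.charDegree (θt : K ⧸ Z → ℂ)).factorization p := by
      apply (hp.dvd_iff_one_le_factorization _).mp hcon
      exact (Nat.div_pos (Nat.le_of_dvd Nat.card_pos hdvd)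
        (Nat.pos_of_ne_zero (charDegree_ne_zero θt))).ne'
    rw [Nat.factorization_div hdvd, Finsupp.tsub_apply] at h1
    omega
  have hsing := (Cfsg.Agent.S0914.result p M hM θt).mp hnd
  have hbbeq : bb = {θt} := by
    rw [hbbζ, blockOf_eq_of_sameBlock hM hsame', hsing]
  have hdef0 : Cfsg.blockDefect p bb = 0 := by
    rw [hbbeq]
    unfold Cfsg.blockDefect
    rw [Set.image_singleton, csInf_singleton, heq, Nat.sub_self]
  have hcardD := Cfsg.Agent.S0908.result p M hM bb ⟨ζ₀, hbbζ⟩ _ hDb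
  rw [hdef0, pow_zero] at hcardD
  have hDZ : D ≤ Z := by
    intro d hd
    have h1 : (QuotientGroup.mk' Z) d ∈ D.map (QuotientGroup.mk' Z) := Subgroup.mem_map_of_mem _ hd
    have h2 : D.map (QuotientGroup.mk' Z) = ⊥ := Subgroup.card_eq_one.mp hcardD
    rw [h2, Subgroup.mem_bot] at h1
    exact (QuotientGroup.eq_one_iff d).mp h1
  have : D = Z := le_antisymm hDZ hZD
  rw [← this, hbχ]
  rw [hbχ] at hD
  exact hD

end central

section weight

variable {G : Type*} [Group G] [Fintype G] [DecidableEq G]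
variable {p : ℕ} [Fact p.Prime] {M : Ideal Cfsg.AlgInt}

/-- a member of a block whose idempotent is the lifted idempotent of a set `A` of characters of a
subgroup lies over a member of `A` -/
theorem exists_constituent_of_blockCoeff_eq_extend (N : Subgroup G) [Fintype N]
    (F' : Set (Cfsg.IrrCharacter G)) (A : Set (Cfsg.IrrCharacter N))
    (h : ∀ t : G, Cfsg.blockCoeff F' t = Cfsg.extendByZero N (Cfsg.blockCoeff A) t)
    (χ : Cfsg.IrrCharacter G) (hχ : χ ∈ F') :
    ∃ θ ∈ A, Cfsg.classInner (fun n : N => (χ : G → ℂ) n) (θ : N → ℂ) ≠ 0 := by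
  classical
  by_contra hne
  push Not at hne
  have h1 : blockMat F' = liftIdem N A := by
    unfold blockMat liftIdem
    congr 1
    funext t
    exact h t
  have h2 := cOmega_blockMat F' χ
  rw [if_pos hχ, h1, cOmega_liftIdem_eq_zero N A (χ : G → ℂ) hne] at h2
  exact zero_ne_one h2

theorem gStable_of_stabilizesBlock (N : Subgroup G) [Fintype N] (hN : N.Normal)
    (A : Set (Cfsg.IrrCharacter N)) (hst : ∀ x : G, Cfsg.StabilizesBlock N A x) :
    GStable N hN A := by
  intro ψ hψ g
  have h1 := (stabilizesBlock_iff_irrConj N hN A g⁻¹).mp (hst g⁻¹) ψ hψ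
  rw [inv_inv] at h1
  exact h1

/-- if the Brauer pair `(Q, e)` carries a weight, then `Z(Q)` is a defect group of `e` and `Q` is
the largest normal `p`-subgroup of the stabilizer of `(Q, e)` -/
theorem weight_main (hM : Cfsg.IsPModular p M) (Q : Subgroup G) (hQ : IsPGroup p Q)
    (e : Set (Cfsg.IrrCharacter (Subgroup.centralizer (Q : Set G)))) (he : Cfsg.IsPBlock M e)
    (T : Subgroup G)
    (hT : ∀ y : G, y ∈ T ↔ y ∈ Subgroup.normalizer (Q : Set G) ∧
      Cfsg.StabilizesBlock (Subgroup.centralizer (Q : Set G)) e y)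
    (F' : Set (Cfsg.IrrCharacter T))
    (hF'e : ∀ t : T, Cfsg.blockCoeff F' t
      = Cfsg.subgroupBlockCoeff (Subgroup.centralizer (Q : Set G)) e (t : G))
    (χ : Cfsg.IrrCharacter T) (hχ : χ ∈ F')
    (hχQ : ∀ q : G, q ∈ Q → ∀ t : T, ∀ t' : T, (t' : G) = q * (t : G) →
      (χ : T → ℂ) t' = (χ : T → ℂ) t)
    (hdeg : (Cfsg.charDegree (χ : T → ℂ)).factorization p + (Nat.card Q).factorization p
      = (Nat.card T).factorization p) :
    Cfsg.IsDefectGroup p M e
        ((Q ⊓ Subgroup.centralizer (Q : Set G)).subgroupOf (Subgroup.centralizer (Q : Set G))) ∧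
      ∀ R : Subgroup G, R ≤ T → IsPGroup p R →
        (∀ t ∈ T, t ∈ Subgroup.normalizer (R : Set G)) → R ≤ Q := by
  classical
  have hp : p.Prime := hM.1
  have : Fintype T := Fintype.ofFinite _
  have : Fintype (Subgroup.centralizer (Q : Set G)) := Fintype.ofFinite _
  have hKT := centralizer_le_of_stab Q e T hT
  have hQT := le_of_stab Q e T hT
  have hTNQ : T ≤ Subgroup.normalizer (Q : Set G) := fun y hy => ((hT y).mp hy).1
  have hTN : T ≤ Subgroup.normalizer
      ((Subgroup.centralizer (Q : Set G) : Subgroup G) : Set G) :=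
    hTNQ.trans (normalizer_le_normalizer_centralizer Q)
  haveI hCn' : ((Subgroup.centralizer (Q : Set G)).subgroupOf T).Normal :=
    Subgroup.normal_subgroupOf_of_le_normalizer hTN
  haveI hQn' : (Q.subgroupOf T).Normal := Subgroup.normal_subgroupOf_of_le_normalizer hTNQ
  have : Fintype ((Subgroup.centralizer (Q : Set G)).subgroupOf T) := Fintype.ofFinite _
  have hker : ∀ q ∈ Q.subgroupOf T, (χ : T → ℂ) q = (χ : T → ℂ) 1 := by
    intro q hq
    rw [Subgroup.mem_subgroupOf] at hq
    exact hχQ (q : G) hq 1 q (by simp)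
  have hdeg' : (Cfsg.charDegree (χ : T → ℂ)).factorization p
      + (Nat.card (Q.subgroupOf T)).factorization p = (Nat.card T).factorization p := by
    rw [Nat.card_congr (Subgroup.subgroupOfEquivOfLe hQT).toEquiv]
    exact hdeg
  refine ⟨?_, ?_⟩
  · -- Step 1
    obtain ⟨θ₁', hθ₁A, hc₁⟩ := exists_constituent_of_blockCoeff_eq_extend
      ((Subgroup.centralizer (Q : Set G)).subgroupOf T) F' (irrSub _ T hKT '' e)
      (fun t => by
        rw [hF'e t, ← subgroupBlockCoeff_irrSub _ T hKT e t, subgroupBlockCoeff_eq_extendByZero])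
      χ hχ
    -- Step 2
    obtain ⟨θ'', hc'', hker'', hdeg''⟩ := exists_constituent_defect_zero_mod hp (Q.subgroupOf T)
      ((Subgroup.centralizer (Q : Set G)).subgroupOf T) χ hker hdeg'
    -- Step 3
    have hst : GStable _ hCn' (irrSub _ T hKT '' e) := by
      apply gStable_of_stabilizesBlock
      intro x
      exact stabilizesBlock_irrSub _ T hKT hTN e x ((hT x).mp x.2).2
    obtain ⟨g, hg⟩ := exists_conjFun_eq_of_constituents _ hCn' χ.2 θ₁'.2 θ''.2 hc₁ hc''
    have hθ''A : θ'' ∈ irrSub _ T hKT '' e := by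
      have : θ'' = irrConj _ hCn' g θ₁' := Subtype.ext hg
      rw [this]
      exact hst θ₁' hθ₁A g
    obtain ⟨θ, hθe, hθ⟩ := hθ''A
    -- Step 4
    have hkerθ : ∀ z ∈ (Q ⊓ Subgroup.centralizer (Q : Set G)).subgroupOf
        (Subgroup.centralizer (Q : Set G)), (θ : Subgroup.centralizer (Q : Set G) → ℂ) z
          = (θ : Subgroup.centralizer (Q : Set G) → ℂ) 1 := by
      intro z hz
      rw [Subgroup.mem_subgroupOf] at hz
      have h1 := hker'' ((Subgroup.subgroupOfEquivOfLe hKT).symm z) (by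
        rw [Subgroup.mem_subgroupOf]
        rw [Subgroup.subgroupOfEquivOfLe_symm_apply_coe_coe]
        exact hz.1)
      rw [← hθ, irrSub_apply, irrSub_apply, MulEquiv.apply_symm_apply, map_one] at h1
      exact h1
    have hcardZ : Nat.card ((Q.subgroupOf T).subgroupOf
        ((Subgroup.centralizer (Q : Set G)).subgroupOf T))
        = Nat.card ((Q ⊓ Subgroup.centralizer (Q : Set G)).subgroupOf
          (Subgroup.centralizer (Q : Set G))) := by
      apply Nat.card_congr
      apply Equiv.subtypeEquiv (Subgroup.subgroupOfEquivOfLe hKT).toEquiv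
      intro k
      rw [Subgroup.mem_subgroupOf, Subgroup.mem_subgroupOf, Subgroup.mem_subgroupOf]
      simp only [MulEquiv.toEquiv_eq_coe, MulEquiv.coe_toEquiv,
        Subgroup.subgroupOfEquivOfLe_apply_coe, Subgroup.mem_inf]
      constructor
      · intro h
        exact ⟨h, k.2⟩
      · intro h
        exact h.1
    have hdegθ : (Nat.card (Subgroup.centralizer (Q : Set G))).factorization p
        ≤ (Cfsg.charDegree (θ : Subgroup.centralizer (Q : Set G) → ℂ)).factorization p
          + (Nat.card ((Q ⊓ Subgroup.centralizer (Q : Set G)).subgroupOf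
            (Subgroup.centralizer (Q : Set G)))).factorization p := by
      rw [← hcardZ, ← charDegree_irrSub _ T hKT θ, hθ,
        ← Nat.card_congr (Subgroup.subgroupOfEquivOfLe hKT).toEquiv]
      exact hdeg''
    -- Step 5
    have hZc : (Q ⊓ Subgroup.centralizer (Q : Set G)).subgroupOf
        (Subgroup.centralizer (Q : Set G)) ≤ Subgroup.center _ := by
      intro z hz
      rw [Subgroup.mem_subgroupOf] at hz
      rw [Subgroup.mem_center_iff]
      intro c
      apply Subtype.ext
      rw [Subgroup.coe_mul, Subgroup.coe_mul]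
      exact (Subgroup.mem_centralizer_iff.mp c.2 (z : G) hz.1).symm
    haveI hZn : ((Q ⊓ Subgroup.centralizer (Q : Set G)).subgroupOf
        (Subgroup.centralizer (Q : Set G))).Normal := by
      constructor
      intro n hn g
      have := Subgroup.mem_center_iff.mp (hZc hn) g
      rw [this, mul_inv_cancel_right]
      exact hn
    have hZp : IsPGroup p ((Q ⊓ Subgroup.centralizer (Q : Set G)).subgroupOf
        (Subgroup.centralizer (Q : Set G))) := (hQ.to_le inf_le_left).comap_subtype
    exact isDefectGroup_of_central_defect_zero_mod hM _ hZp hZc e he θ hθe hkerθ hdegθ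
  · intro R hRT hR hRn
    haveI hRn' : (R.subgroupOf T).Normal :=
      Subgroup.normal_subgroupOf_of_le_normalizer (fun t ht => hRn t ht)
    have hR' : IsPGroup p (R.subgroupOf T) := by
      rw [← Subgroup.comap_subtype]
      exact hR.comap_subtype
    have h1 := le_of_normal_pSubgroup_of_defect_zero_mod hp (Q.subgroupOf T) χ hker hdeg'
      (R.subgroupOf T) hR'
    intro r hr
    have h2 : (⟨r, hRT hr⟩ : T) ∈ R.subgroupOf T := by
      rw [Subgroup.mem_subgroupOf]; exact hr
    have h3 := h1 h2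
    rw [Subgroup.mem_subgroupOf] at h3
    exact h3

end weight

end Cfsg.Agent.Lib.Helper6
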