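import Mathlib
import Cfsg.Agent.Lib.Helper6.Clifford
import Cfsg.Agent.S0173

set_option autoImplicit false

namespace Cfsg.Agent.Lib.Helper6

open scoped ComplexConjugate

section

variable {G : Type*} [Group G]

/-- If `g` centralizes no non-identity element of the finite normal subgroup `K`, every element
of `K` is of the form `k₀⁻¹ * (g * k₀ * g⁻¹)` with `k₀ ∈ K`. -/
theorem exists_commutator_eq (K : Subgroup G) [Finite K] (hK : K.Normal) (g : G)
    (hg : ∀ k ∈ K, g * k = k * g → k = 1) (c : G) (hc : c ∈ K) :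
    ∃ k₀ ∈ K, k₀⁻¹ * (g * k₀ * g⁻¹) = c := by
  have hmem : ∀ h : K, (h : G)⁻¹ * (g * h * g⁻¹) ∈ K := fun h =>
    K.mul_mem (K.inv_mem h.2) (hK.conj_mem h h.2 g)
  let ψ : K → K := fun h => ⟨(h : G)⁻¹ * (g * h * g⁻¹), hmem h⟩
  have hψinj : Function.Injective ψ := by
    intro h1 h2 h12
    have h4 : (h1 : G)⁻¹ * (g * h1 * g⁻¹) = (h2 : G)⁻¹ * (g * h2 * g⁻¹) :=
      congrArg Subtype.val h12
    have h5 : g * ((h2 : G) * (h1 : G)⁻¹) = ((h2 : G) * (h1 : G)⁻¹) * g := by
      have h6 : (h1 : G)⁻¹ * g * h1 = (h2 : G)⁻¹ * g * h2 := by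
        have := congrArg (fun t => t * g) h4
        simpa [mul_assoc] using this
      calc g * ((h2 : G) * (h1 : G)⁻¹) = h2 * ((h2 : G)⁻¹ * g * h2) * (h1 : G)⁻¹ := by group
        _ = h2 * ((h1 : G)⁻¹ * g * h1) * (h1 : G)⁻¹ := by rw [h6]
        _ = ((h2 : G) * (h1 : G)⁻¹) * g := by group
    have h7 := hg _ (K.mul_mem h2.2 (K.inv_mem h1.2)) h5
    apply Subtype.ext
    have : (h2 : G) = h1 := by
      calc (h2 : G) = ((h2 : G) * (h1 : G)⁻¹) * h1 := by group
        _ = h1 := by rw [h7, one_mul]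
    exact this.symm
  have hψsurj : Function.Surjective ψ := Finite.injective_iff_surjective.mp hψinj
  obtain ⟨k₀, hk₀⟩ := hψsurj ⟨c, hc⟩
  exact ⟨k₀, k₀.2, congrArg Subtype.val hk₀⟩

/-- In the situation of `exists_commutator_eq`, an element `c * g` with `c ∈ K` also centralizes
no non-identity element of `K`. -/
theorem eq_one_of_commute_mul (K : Subgroup G) [Finite K] (hK : K.Normal) (g : G)
    (hg : ∀ k ∈ K, g * k = k * g → k = 1) (c : G) (hc : c ∈ K) (k : G) (hk : k ∈ K)
    (hcomm : (c * g) * k = k * (c * g)) : k = 1 := by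
  obtain ⟨k₀, hk₀, hk₀c⟩ := exists_commutator_eq K hK g hg c hc
  have h1 : c * g = k₀⁻¹ * g * k₀ := by
    rw [← hk₀c]; group
  rw [h1] at hcomm
  have h2 : g * (k₀ * k * k₀⁻¹) = (k₀ * k * k₀⁻¹) * g := by
    calc g * (k₀ * k * k₀⁻¹) = k₀ * ((k₀⁻¹ * g * k₀) * k) * k₀⁻¹ := by group
      _ = k₀ * (k * (k₀⁻¹ * g * k₀)) * k₀⁻¹ := by rw [hcomm]
      _ = (k₀ * k * k₀⁻¹) * g := by group
  have h3 := hg _ (hK.conj_mem k hk k₀) h2
  calc k = k₀⁻¹ * (k₀ * k * k₀⁻¹) * k₀ := by group
    _ = 1 := by rw [h3]; group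

/-- A fixed-point-free automorphism-by-conjugation fixes only the principal character. -/
theorem conjFun_ne_of_fixedPointFree [Finite G] (K : Subgroup G) (hK : K.Normal) (g : G)
    (hg : ∀ k ∈ K, g * k = k * g → k = 1) {τ : K → ℂ} (hτ : Cfsg.IsIrrCharacter K τ)
    (hτ1 : τ ≠ fun _ => 1) : conjFun K hK τ g ≠ τ := by
  classical
  have := hK
  intro hfix
  let α : K ≃* K := MulAut.conjNormal g
  have hcount := Cfsg.Agent.S0173.result α
  have hclasses : Nat.card {C : ConjClasses K // ConjClasses.map α.toMonoidHom C = C} = 1 := by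
    rw [Nat.card_eq_one_iff_unique]
    constructor
    · constructor
      rintro ⟨C, hC⟩ ⟨D, hD⟩
      apply Subtype.ext
      have key : ∀ E : ConjClasses K, ConjClasses.map α.toMonoidHom E = E → E = ConjClasses.mk 1 := by
        intro E hE
        obtain ⟨k, rfl⟩ := ConjClasses.exists_rep E
        have h1 : ConjClasses.mk (α k) = ConjClasses.mk k := hE
        obtain ⟨c, hc⟩ := isConj_iff.mp (ConjClasses.mk_eq_mk_iff_isConj.mp h1)
        have h2 : (c : G) * (g * k * g⁻¹) * (c : G)⁻¹ = k := by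
          have := congrArg Subtype.val hc
          simpa [α, MulAut.conjNormal_apply] using this
        have h3 : ((c : G) * g) * k = k * ((c : G) * g) := by
          calc ((c : G) * g) * k = ((c : G) * (g * k * g⁻¹) * (c : G)⁻¹) * ((c : G) * g) := by group
            _ = k * ((c : G) * g) := by rw [h2]
        have h4 := eq_one_of_commute_mul K hK g hg c c.2 k k.2 h3
        have : k = 1 := Subtype.ext h4
        rw [this]
      show C = D
      rw [key C hC, key D hD]
    · refine ⟨⟨ConjClasses.mk 1, ?_⟩⟩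
      show ConjClasses.mk (α 1) = ConjClasses.mk 1
      rw [map_one]
  rw [hclasses] at hcount
  have hsub := (Nat.card_eq_one_iff_unique.mp hcount.symm).1
  have h1 : (⟨⟨τ, hτ⟩, by
      show τ ∘ α = τ
      rw [conjFun_eq_comp] at hfix
      exact hfix⟩ : {χ : Cfsg.IrrCharacter K // (χ : K → ℂ) ∘ α = (χ : K → ℂ)})
      = ⟨⟨fun _ => 1, isIrrCharacter_one⟩, rfl⟩ := Subsingleton.elim _ _
  apply hτ1
  have h2 := congrArg Subtype.val (congrArg Subtype.val h1)
  exact h2

end

end Cfsg.Agent.Lib.Helper6
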