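import Mathlib

set_option autoImplicit false

namespace Cfsg.Agent.Lib.Helper6

section invsylow

variable {G : Type*} [Group G] [Finite G]

/-- An involution normalizing a subgroup of odd order normalizes one of its Sylow subgroups. -/
theorem exists_invariant_sylow_of_odd (p : ℕ) [Fact p.Prime]
    (C : Subgroup G) (hC : Odd (Nat.card C)) (x : G) (hx : x * x = 1)
    (hxC : ∀ c ∈ C, x * c * x⁻¹ ∈ C) :
    ∃ R : Subgroup G, R ≤ C ∧ Nat.card R = p ^ (Nat.card C).factorization p ∧
      ∀ v ∈ R, x * v * x⁻¹ ∈ R := by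
  classical
  have hxinv : x⁻¹ = x := inv_eq_of_mul_eq_one_left hx
  have hcomp : ∀ c : G, x * (x * c * x⁻¹) * x⁻¹ = c := by
    intro c
    calc x * (x * c * x⁻¹) * x⁻¹ = (x * x) * c * (x * x)⁻¹ := by group
      _ = c := by rw [hx]; simp
  let φ : ↥C ≃* ↥C :=
    { toFun := fun c => ⟨x * c * x⁻¹, hxC c c.2⟩
      invFun := fun c => ⟨x * c * x⁻¹, hxC c c.2⟩
      left_inv := fun c => by
        apply Subtype.ext
        exact hcomp c
      right_inv := fun c => by
        apply Subtype.ext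
        exact hcomp c
      map_mul' := fun a b => by
        apply Subtype.ext
        simp }
  have hφ2 : φ * φ = 1 := by
    ext c
    exact hcomp c
  have : Fintype (Sylow p ↥C) := Fintype.ofFinite _
  have hodd : ¬ 2 ∣ Fintype.card (Sylow p ↥C) := by
    obtain ⟨P⟩ : Nonempty (Sylow p ↥C) := inferInstance
    have h1 := Sylow.card_dvd_index P
    have h2 : (P : Subgroup ↥C).index ∣ Nat.card ↥C := Subgroup.index_dvd_card _
    rw [← Nat.card_eq_fintype_card]
    intro h
    exact (Nat.not_even_iff_odd.mpr hC) (even_iff_two_dvd.mpr (h.trans (h1.trans h2)))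
  haveI : Fact (Nat.Prime 2) := ⟨Nat.prime_two⟩
  obtain ⟨P, hP⟩ := Equiv.Perm.exists_fixed_point_of_prime (p := 2) (n := 1) hodd
     (σ := MulAction.toPerm φ) (by
      ext P
      rw [pow_one, sq, Equiv.Perm.mul_apply, MulAction.toPerm_apply, MulAction.toPerm_apply,
        ← mul_smul, hφ2, one_smul, Equiv.Perm.one_apply])
  rw [MulAction.toPerm_apply] at hP
  refine ⟨(P : Subgroup ↥C).map C.subtype, Subgroup.map_subtype_le _, ?_, ?_⟩
  · rw [Subgroup.card_subtype, ← Sylow.card_eq_multiplicity]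
  · intro v hv
    obtain ⟨c, hc, rfl⟩ := hv
    refine ⟨φ c, ?_, rfl⟩
    have : φ c ∈ ((φ • P : Sylow p ↥C) : Subgroup ↥C) := by
      rw [Sylow.pointwise_smul_def]
      exact Subgroup.smul_mem_pointwise_smul c φ _ hc
    rw [hP] at this
    exact this

/-- An involution acting without fixed points on an invariant subgroup inverts it. -/
theorem inverts_of_invariant_of_fixedPointFree (R : Subgroup G) (x : G) (hx : x * x = 1)
    (hxR : ∀ v ∈ R, x * v * x⁻¹ ∈ R) (hfpf : ∀ v ∈ R, x * v * x⁻¹ = v → v = 1) :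
    ∀ v ∈ R, x * v * x⁻¹ = v⁻¹ := by
  have hcomp : ∀ c : G, x * (x * c * x⁻¹) * x⁻¹ = c := by
    intro c
    calc x * (x * c * x⁻¹) * x⁻¹ = (x * x) * c * (x * x)⁻¹ := by group
      _ = c := by rw [hx]; simp
  let φ : ↥R →* ↥R :=
    { toFun := fun c => ⟨x * c * x⁻¹, hxR c c.2⟩
      map_one' := by
        apply Subtype.ext
        simp
      map_mul' := fun a b => by
        apply Subtype.ext
        simp }
  have h1 : MonoidHom.FixedPointFree φ := by
    intro g hg
    apply Subtype.ext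
    exact hfpf g g.2 (congrArg Subtype.val hg)
  have h2 : Function.Involutive φ := by
    intro g
    apply Subtype.ext
    exact hcomp g
  intro v hv
  have := congrFun (h1.coe_eq_inv_of_involutive h2) ⟨v, hv⟩
  exact congrArg Subtype.val this

omit [Finite G] in
/-- A subgroup inverted elementwise by some element is commutative. -/
theorem commute_of_inverted (R : Subgroup G) (x : G) (hinv : ∀ v ∈ R, x * v * x⁻¹ = v⁻¹)
    {a b : G} (ha : a ∈ R) (hb : b ∈ R) : a * b = b * a := by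
  have h1 := hinv (a * b) (R.mul_mem ha hb)
  have h2 : x * (a * b) * x⁻¹ = (x * a * x⁻¹) * (x * b * x⁻¹) := by group
  rw [h2, hinv a ha, hinv b hb, mul_inv_rev] at h1
  have h3 := congrArg (fun t => t⁻¹) h1
  simpa using h3.symm

/-- Under the hypothesis that centralizers of nontrivial `p`-elements have odd order: if the
involution `x` inverts the nontrivial `p`-element `u`, then every `p`-subgroup of `C_G(u)` is at
most as large as some `p`-subgroup inverted by `x`. -/
theorem exists_inverted_card_ge (p : ℕ) [Fact p.Prime]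
    (hC : ∀ g : G, g ≠ 1 → (∃ k : ℕ, orderOf g = p ^ k) →
      Odd (Nat.card ↥(Subgroup.centralizer ({g} : Set G))))
    (x : G) (hx : x * x = 1) (hx1 : x ≠ 1)
    (u : G) (hu1 : u ≠ 1) (hup : ∃ k : ℕ, orderOf u = p ^ k) (hux : x * u * x⁻¹ = u⁻¹)
    (Q : Subgroup G) (hQ : IsPGroup p Q) (hQu : Q ≤ Subgroup.centralizer {u}) :
    ∃ R' : Subgroup G, IsPGroup p R' ∧ (∀ v ∈ R', x * v * x⁻¹ = v⁻¹) ∧
      Nat.card Q ≤ Nat.card R' := by
  have hp : p.Prime := Fact.out
  have hxinv : x⁻¹ = x := inv_eq_of_mul_eq_one_left hx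
  have hCodd := hC u hu1 hup
  have hxC : ∀ c ∈ Subgroup.centralizer ({u} : Set G),
      x * c * x⁻¹ ∈ Subgroup.centralizer ({u} : Set G) := by
    intro c hc
    rw [Subgroup.mem_centralizer_iff] at hc ⊢
    intro h hh
    rw [Set.mem_singleton_iff] at hh
    subst hh
    have hcu := hc h (Set.mem_singleton h)
    have hcu' : c * h⁻¹ = h⁻¹ * c := by
      have := congrArg (fun t => h⁻¹ * t * h⁻¹) hcu
      simpa [mul_assoc] using this
    have hu' : h = x * h⁻¹ * x⁻¹ := by
      have : x * (x * h * x⁻¹) * x⁻¹ = x * h⁻¹ * x⁻¹ := congrArg (fun t => x * t * x⁻¹) hux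
      rw [← this]
      calc h = (x * x) * h * (x * x)⁻¹ := by rw [hx]; simp
        _ = x * (x * h * x⁻¹) * x⁻¹ := by group
    calc h * (x * c * x⁻¹) = (x * h⁻¹ * x⁻¹) * (x * c * x⁻¹) := by rw [← hu']
      _ = x * (h⁻¹ * c) * x⁻¹ := by group
      _ = x * (c * h⁻¹) * x⁻¹ := by rw [hcu']
      _ = (x * c * x⁻¹) * (x * h⁻¹ * x⁻¹) := by group
      _ = (x * c * x⁻¹) * h := by rw [← hu']
  obtain ⟨R', hR'C, hR'card, hR'x⟩ :=
    exists_invariant_sylow_of_odd p (Subgroup.centralizer ({u} : Set G)) hCodd x hx hxC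
  have hR'p : IsPGroup p R' := IsPGroup.of_card hR'card
  have hx2 : orderOf x = 2 := by
    apply orderOf_eq_prime
    · rw [sq]; exact hx
    · exact hx1
  have hfpf : ∀ v ∈ R', x * v * x⁻¹ = v → v = 1 := by
    intro v hv hxv
    by_contra hv1
    obtain ⟨k, hk⟩ := (IsPGroup.iff_orderOf.mp hR'p) ⟨v, hv⟩
    rw [Subgroup.orderOf_mk] at hk
    have hodd := hC v hv1 ⟨k, hk⟩
    have hxmem : x ∈ Subgroup.centralizer ({v} : Set G) := by
      rw [Subgroup.mem_centralizer_iff]
      intro h hh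
      rw [Set.mem_singleton_iff] at hh
      subst hh
      calc h * x = (x * h * x⁻¹) * x := by rw [hxv]
        _ = x * h := by group
    have hdvd : orderOf (⟨x, hxmem⟩ : Subgroup.centralizer ({v} : Set G))
        ∣ Nat.card (Subgroup.centralizer ({v} : Set G)) := orderOf_dvd_natCard _
    rw [Subgroup.orderOf_mk, hx2] at hdvd
    exact (Nat.not_even_iff_odd.mpr hodd) (even_iff_two_dvd.mpr hdvd)
  refine ⟨R', hR'p, inverts_of_invariant_of_fixedPointFree R' x hx hR'x hfpf, ?_⟩
  obtain ⟨k, hk⟩ := IsPGroup.iff_card.mp hQ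
  rw [hk, hR'card]
  apply Nat.pow_le_pow_right hp.pos
  have hdvd : p ^ k ∣ Nat.card (Subgroup.centralizer ({u} : Set G)) := by
    rw [← hk]
    exact Subgroup.card_dvd_of_le hQu
  exact (hp.pow_dvd_iff_le_factorization Nat.card_pos.ne').mp hdvd

/-- Under the hypothesis that centralizers of nontrivial `p`-elements have odd order: an involution
inverting some nontrivial `p`-element inverts a whole Sylow `p`-subgroup. -/
theorem exists_sylow_inverted (p : ℕ) [Fact p.Prime]
    (hC : ∀ g : G, g ≠ 1 → (∃ k : ℕ, orderOf g = p ^ k) →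
      Odd (Nat.card ↥(Subgroup.centralizer ({g} : Set G))))
    (x w : G) (hx : x * x = 1) (hx1 : x ≠ 1)
    (hw1 : w ≠ 1) (hwp : ∃ k : ℕ, orderOf w = p ^ k) (hinv : x * w * x⁻¹ = w⁻¹) :
    ∃ P : Sylow p G, ∀ v ∈ (P : Subgroup G), x * v * x⁻¹ = v⁻¹ := by
  classical
  let 𝓡 : Set (Subgroup G) := {R | IsPGroup p R ∧ ∀ v ∈ R, x * v * x⁻¹ = v⁻¹}
  have h𝓡fin : 𝓡.Finite := Set.toFinite _
  have hw𝓡 : Subgroup.zpowers w ∈ 𝓡 := by
    refine ⟨?_, ?_⟩
    · obtain ⟨k, hk⟩ := hwp
      apply IsPGroup.of_card (n := k)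
      rw [Nat.card_zpowers, hk]
    · intro v hv
      obtain ⟨n, rfl⟩ := Subgroup.mem_zpowers_iff.mp hv
      have h1 : x * w ^ n * x⁻¹ = (x * w * x⁻¹) ^ n := by
        rw [conj_zpow]
      rw [h1, hinv, inv_zpow]
  obtain ⟨R, hR𝓡, hRmax⟩ := Set.exists_max_image 𝓡 (fun R => Nat.card R) h𝓡fin ⟨_, hw𝓡⟩
  obtain ⟨P, hRP⟩ := IsPGroup.exists_le_sylow hR𝓡.1
  refine ⟨P, ?_⟩
  suffices h : R = (P : Subgroup G) by
    intro v hv
    exact hR𝓡.2 v (h ▸ hv)
  -- `R` is nontrivial
  have hRcard : 1 < Nat.card R := by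
    have h1 := hRmax _ hw𝓡
    simp only [Nat.card_zpowers] at h1
    have h2 : 1 < orderOf w := by
      have h3 : orderOf w ≠ 1 := by
        rw [Ne, orderOf_eq_one_iff]
        exact hw1
      have h4 : 0 < orderOf w := orderOf_pos w
      omega
    omega
  obtain ⟨u', hu'⟩ := (Subgroup.ne_bot_iff_exists_ne_one).mp
    ((Subgroup.one_lt_card_iff_ne_bot R).mp hRcard)
  have hu1 : (u' : G) ≠ 1 := fun h => hu' (Subtype.ext h)
  have huR : (u' : G) ∈ R := u'.2
  have huP : (u' : G) ∈ (P : Subgroup G) := hRP huR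
  -- a nontrivial central element of `P`
  haveI : Nontrivial ↥(P : Subgroup G) := ⟨⟨⟨u', huP⟩, 1, fun h => hu1 (congrArg Subtype.val h)⟩⟩
  haveI := IsPGroup.center_nontrivial P.2
  obtain ⟨z', hz'⟩ := exists_ne (1 : Subgroup.center ↥(P : Subgroup G))
  have hz1 : ((z' : ↥(P : Subgroup G)) : G) ≠ 1 := by
    intro h
    apply hz'
    apply Subtype.ext
    apply Subtype.ext
    exact h
  have hzP : ((z' : ↥(P : Subgroup G)) : G) ∈ (P : Subgroup G) := (z' : ↥(P : Subgroup G)).2
  have hzc : ∀ v ∈ (P : Subgroup G), ((z' : ↥(P : Subgroup G)) : G) * v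
      = v * ((z' : ↥(P : Subgroup G)) : G) := by
    intro v hv
    have := (Subgroup.mem_center_iff.mp z'.2) ⟨v, hv⟩
    exact (congrArg Subtype.val this).symm
  set z : G := ((z' : ↥(P : Subgroup G)) : G) with hz
  have porder : ∀ v ∈ (P : Subgroup G), ∃ k : ℕ, orderOf v = p ^ k := by
    intro v hv
    obtain ⟨k, hk⟩ := (IsPGroup.iff_orderOf.mp P.2) ⟨v, hv⟩
    rw [Subgroup.orderOf_mk] at hk
    exact ⟨k, hk⟩
  by_cases hzR : z ∈ R
  · -- `P ≤ C_G(z)`
    have hPz : (P : Subgroup G) ≤ Subgroup.centralizer ({z} : Set G) := by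
      intro v hv
      rw [Subgroup.mem_centralizer_iff]
      intro h hh
      rw [Set.mem_singleton_iff] at hh
      subst hh
      exact hzc v hv
    obtain ⟨R', hR'p, hR'inv, hle⟩ := exists_inverted_card_ge p hC x hx hx1 z hz1
      (porder z hzP) (hR𝓡.2 z hzR) (P : Subgroup G) P.2 hPz
    have h2 := hRmax R' ⟨hR'p, hR'inv⟩
    exact Subgroup.eq_of_le_of_card_ge hRP (hle.trans h2)
  · exfalso
    have hQP : R ⊔ Subgroup.zpowers z ≤ (P : Subgroup G) :=
      sup_le hRP ((Subgroup.zpowers_le).mpr hzP)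
    have hQp : IsPGroup p ↥(R ⊔ Subgroup.zpowers z) := IsPGroup.to_le P.2 hQP
    have hQu : R ⊔ Subgroup.zpowers z ≤ Subgroup.centralizer ({(u' : G)} : Set G) := by
      apply sup_le
      · intro v hv
        rw [Subgroup.mem_centralizer_iff]
        intro h hh
        rw [Set.mem_singleton_iff] at hh
        subst hh
        exact commute_of_inverted R x hR𝓡.2 huR hv
      · rw [Subgroup.zpowers_le, Subgroup.mem_centralizer_iff]
        intro h hh
        rw [Set.mem_singleton_iff] at hh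
        subst hh
        exact (hzc _ huP).symm
    obtain ⟨R', hR'p, hR'inv, hle⟩ := exists_inverted_card_ge p hC x hx hx1 (u' : G) hu1
      (porder _ huP) (hR𝓡.2 _ huR) (R ⊔ Subgroup.zpowers z) hQp hQu
    have h2 := hRmax R' ⟨hR'p, hR'inv⟩
    have h3 : R = R ⊔ Subgroup.zpowers z :=
      Subgroup.eq_of_le_of_card_ge le_sup_left (hle.trans h2)
    apply hzR
    rw [h3]
    exact (le_sup_right : Subgroup.zpowers z ≤ R ⊔ Subgroup.zpowers z) (Subgroup.mem_zpowers z)

end invsylow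

end Cfsg.Agent.Lib.Helper6
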