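import Mathlib
import Cfsg.Agent.Lib.Helper5.TICE0

set_option autoImplicit false

/-!
# ZT-SUZUKI: the residual configuration, `cn`-free and of degree `q ^ k + 1`

`ResidK S T q k` is helper5's `Resid S T q` without the field `cn` and with
`card_pts : Nat.card Ω = q ^ k + 1`.
-/

namespace Cfsg.Agent.Lib.Helper6.ZK

open Cfsg.Agent.Lib.Helper5.TICE

/-- The residual configuration, general form. -/
structure ResidK {G : Type*} [Group G] {Ω : Type*} [MulAction G Ω]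
    (S T : Ω → Subgroup G) (q k : ℕ) : Prop where
  q_eq : ∃ n : ℕ, 2 ≤ n ∧ q = 2 ^ n
  card_pts : Nat.card Ω = q ^ k + 1
  two_trans : ∀ α β α' β' : Ω, α ≠ β → α' ≠ β' → ∃ g : G, g • α = α' ∧ g • β = β'
  three_pt : ∀ (g : G) (α β γ : Ω), α ≠ β → β ≠ γ → α ≠ γ →
    g • α = α → g • β = β → g • γ = γ → g = 1
  card_D : ∀ α β : Ω, α ≠ β → Nat.card {g : G // g • α = α ∧ g • β = β} = q - 1
  inverted : ∀ α β : Ω, α ≠ β → ∃ u : G, u * u = 1 ∧ u • α = β ∧ u • β = α ∧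
    ∀ d : G, d • α = α → d • β = β → u * d * u⁻¹ = d⁻¹
  S_fix : ∀ α : Ω, ∀ s ∈ S α, s • α = α
  S_conj : ∀ (g : G) (α : Ω), ∀ s ∈ S α, g * s * g⁻¹ ∈ S (g • α)
  S_trans : ∀ α β γ : Ω, β ≠ α → γ ≠ α → ∃ s ∈ S α, s • β = γ
  S_free : ∀ α β : Ω, β ≠ α → ∀ s ∈ S α, s • β = β → s = 1
  T_le : ∀ α : Ω, T α ≤ S α
  mem_T : ∀ α : Ω, ∀ s ∈ S α, s ∈ T α ↔ s * s = 1
  T_central : ∀ α : Ω, ∀ t ∈ T α, ∀ s ∈ S α, t * s = s * t
  sq_mem : ∀ α : Ω, ∀ s ∈ S α, s * s ∈ T α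
  comm_mem : ∀ α : Ω, ∀ s ∈ S α, ∀ s' ∈ S α, s * s' * s⁻¹ * s'⁻¹ ∈ T α
  card_T : ∀ α : Ω, Nat.card (T α) = q
  invol : ∀ a : G, IsInv a → ∃ α : Ω, a ∈ T α
  cent_invol : ∀ α : Ω, ∀ t ∈ T α, t ≠ 1 → ∀ g : G, g * t = t * g → g ∈ S α

/-- helper5's `Resid` is the case `k = 3`. -/
theorem ResidK.of_resid {G : Type*} [Group G] {Ω : Type*} [MulAction G Ω]
    {S T : Ω → Subgroup G} {q : ℕ} (h : Resid S T q) : ResidK S T q 3 :=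
  ⟨h.q_eq, h.card_pts, h.two_trans, h.three_pt, h.card_D, h.inverted, h.S_fix, h.S_conj,
    h.S_trans, h.S_free, h.T_le, h.mem_T, h.T_central, h.sq_mem, h.comm_mem, h.card_T, h.invol,
    h.cent_invol⟩

end Cfsg.Agent.Lib.Helper6.ZK
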