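import Mathlib
import Cfsg.Agent.Lib.Helper5.TICE3
import Cfsg.Agent.Lib.Helper6.ZK_TICE0

set_option autoImplicit false

/-!
# ZT-SUZUKI: port of helper5's `TICE1` (basic consequences of `Resid`) to `ResidK`
-/

namespace Cfsg.Agent.Lib.Helper6.ZK

open Cfsg.Agent.Lib.Helper5.TICE (IsInv Fpf invSet ZS ZSInv Lines line lineStab lineAct lineAct_coe mem_lineStab SRHyp G3Hyp Esub mem_line left_mem_line right_mem_line smul_mem_line line_eq_of_mem)

variable {G : Type*} [Group G] {Ω : Type*} [MulAction G Ω] {S T : Ω → Subgroup G} {q k : ℕ}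

namespace ResidK

theorem four_le (h : ResidK S T q k) : 4 ≤ q := by
  obtain ⟨n, hn, rfl⟩ := h.q_eq
  calc 4 = 2 ^ 2 := by norm_num
    _ ≤ 2 ^ n := Nat.pow_le_pow_right (by norm_num) hn

theorem T_fix (h : ResidK S T q k) {α : Ω} {t : G} (ht : t ∈ T α) : t • α = α :=
  h.S_fix α t (h.T_le α ht)

theorem S_fix_eq (h : ResidK S T q k) {α β : Ω} {s : G} (hs : s ∈ S α) (hs1 : s ≠ 1)
    (hβ : s • β = β) : β = α := by
  by_contra hne
  exact hs1 (h.S_free α β hne s hs hβ)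

theorem S_eq_of_smul_eq (h : ResidK S T q k) {α β : Ω} (hβ : β ≠ α) {s s' : G} (hs : s ∈ S α)
    (hs' : s' ∈ S α) (he : s • β = s' • β) : s = s' := by
  have h1 : (s'⁻¹ * s) • β = β := by rw [mul_smul, he, inv_smul_smul]
  have h2 := h.S_free α β hβ (s'⁻¹ * s) ((S α).mul_mem ((S α).inv_mem hs') hs) h1
  exact (inv_mul_eq_one.1 h2).symm

theorem mul_self_of_mem_T (h : ResidK S T q k) {α : Ω} {t : G} (ht : t ∈ T α) : t * t = 1 :=
  (h.mem_T α t (h.T_le α ht)).1 ht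

theorem isInv_of_mem_T (h : ResidK S T q k) {α : Ω} {t : G} (ht : t ∈ T α) (ht1 : t ≠ 1) : IsInv t :=
  ⟨h.mul_self_of_mem_T ht, ht1⟩

theorem T_conj (h : ResidK S T q k) (g : G) {α : Ω} {t : G} (ht : t ∈ T α) :
    g * t * g⁻¹ ∈ T (g • α) := by
  have hs := h.S_conj g α t (h.T_le α ht)
  rw [h.mem_T (g • α) _ hs]
  have : g * t * g⁻¹ * (g * t * g⁻¹) = g * (t * t) * g⁻¹ := by group
  rw [this, h.mul_self_of_mem_T ht, mul_one, mul_inv_cancel]

theorem mem_T_of_isInv_of_fix (h : ResidK S T q k) {a : G} (ha : IsInv a) {α : Ω}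
    (hα : a • α = α) : a ∈ T α := by
  obtain ⟨β, hβ⟩ := h.invol a ha
  have : α = β := h.S_fix_eq (h.T_le β hβ) ha.2 hα
  rw [this]; exact hβ

theorem isInv_fix_unique (h : ResidK S T q k) {a : G} (ha : IsInv a) : ∃! α : Ω, a • α = α := by
  obtain ⟨β, hβ⟩ := h.invol a ha
  refine ⟨β, h.T_fix hβ, ?_⟩
  intro γ hγ
  exact h.S_fix_eq (h.T_le β hβ) ha.2 hγ

theorem T_comm (h : ResidK S T q k) {α : Ω} {t t' : G} (ht : t ∈ T α) (ht' : t' ∈ T α) :
    t * t' = t' * t :=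
  h.T_central α t ht t' (h.T_le α ht')

/-- (ii): the product of two involutions with different fixed points has odd order -/
theorem mul_odd [Finite G] (h : ResidK S T q k) {α β : Ω} (hαβ : α ≠ β) {a b : G}
    (ha : a ∈ T α) (ha1 : a ≠ 1) (hb : b ∈ T β) (hb1 : b ≠ 1) :
    Odd (orderOf (a * b)) ∧ a * b ≠ 1 := by
  have haa := h.mul_self_of_mem_T ha
  have hbb := h.mul_self_of_mem_T hb
  have hai : a⁻¹ = a := inv_eq_of_mul_eq_one_left haa
  have hbi : b⁻¹ = b := inv_eq_of_mul_eq_one_left hbb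
  have hne : a * b ≠ 1 := by
    intro h1
    have hab : a = b := by rw [← hbi]; exact eq_inv_of_mul_eq_one_left h1
    have : β = α := h.S_fix_eq (h.T_le α ha) ha1 (by rw [hab]; exact h.T_fix hb)
    exact hαβ this.symm
  refine ⟨?_, hne⟩
  rw [← Nat.not_even_iff_odd]
  rintro ⟨k, hk⟩
  have hpos : 0 < orderOf (a * b) := orderOf_pos (a * b)
  have hk0 : 0 < k := by omega
  have hj1 : (a * b) ^ k ≠ 1 := pow_ne_one_of_lt_orderOf hk0.ne' (by omega)
  have hjj : (a * b) ^ k * (a * b) ^ k = 1 := by rw [← pow_add, ← hk, pow_orderOf_eq_one]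
  -- `a` and `b` invert `a * b`
  have hinva : a * (a * b) * a⁻¹ = (a * b)⁻¹ := by
    rw [mul_inv_rev, hai, hbi, ← mul_assoc, haa, one_mul]
  have hinvb : b * (a * b) * b⁻¹ = (a * b)⁻¹ := by
    rw [mul_inv_rev, hai, hbi, mul_assoc, mul_assoc, hbb, mul_one]
  have hji : ((a * b) ^ k)⁻¹ = (a * b) ^ k := inv_eq_of_mul_eq_one_left hjj
  have hca : a * (a * b) ^ k = (a * b) ^ k * a := by
    have : a * (a * b) ^ k * a⁻¹ = ((a * b) ^ k)⁻¹ := by
      rw [← conj_pow, hinva, inv_pow]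
    rw [hji] at this
    exact mul_inv_eq_iff_eq_mul.1 this
  have hcb : b * (a * b) ^ k = (a * b) ^ k * b := by
    have : b * (a * b) ^ k * b⁻¹ = ((a * b) ^ k)⁻¹ := by
      rw [← conj_pow, hinvb, inv_pow]
    rw [hji] at this
    exact mul_inv_eq_iff_eq_mul.1 this
  obtain ⟨γ, hγ⟩ := h.invol _ ⟨hjj, hj1⟩
  have h1 : a ∈ S γ := h.cent_invol γ _ hγ hj1 a hca
  have h2 : b ∈ S γ := h.cent_invol γ _ hγ hj1 b hcb
  have e1 : γ = α := h.S_fix_eq (h.T_le α ha) ha1 (h.S_fix γ a h1)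
  have e2 : γ = β := h.S_fix_eq (h.T_le β hb) hb1 (h.S_fix γ b h2)
  exact hαβ (e1.symm.trans e2)

end ResidK

end Cfsg.Agent.Lib.Helper6.ZK
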