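import Mathlib
import Cfsg.Agent.Lib.Helper5.TICE3
import Cfsg.Agent.Lib.Helper6.ZK_TICE1

set_option autoImplicit false

/-!
# S4064, Part E: geometry of lines (piece P4)
-/

namespace Cfsg.Agent.Lib.Helper6.ZK

open Cfsg.Agent.Lib.Helper5.TICE (IsInv Fpf invSet ZS ZSInv Lines line lineStab lineAct lineAct_coe mem_lineStab SRHyp G3Hyp Esub mem_line left_mem_line right_mem_line smul_mem_line line_eq_of_mem)

variable {G : Type*} [Group G] {Ω : Type*} [MulAction G Ω] {S T : Ω → Subgroup G} {q k : ℕ}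

theorem line_symm_le (h : ResidK S T q k) (hL : Lines S T) {α β : Ω} (hαβ : α ≠ β) :
    line T β α ⊆ line T α β := by
  rintro γ (rfl | ⟨t1, ht1, rfl⟩)
  · exact right_mem_line α γ
  · by_cases h1 : t1 = 1
    · rw [h1, one_smul]; exact left_mem_line α β
    · have hne : t1 • α ≠ α := by
        intro hfix
        exact hαβ (h.S_fix_eq (h.T_le β ht1) h1 hfix)
      obtain ⟨r, hr, hrε⟩ := h.S_trans α (t1 • α) β hne hαβ.symm
      have hrT : r ∈ T α := hL α β hαβ t1 ht1 h1 r hr hrε
      refine Or.inr ⟨r⁻¹, (T α).inv_mem hrT, ?_⟩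
      rw [← hrε, inv_smul_smul]

theorem line_symm (h : ResidK S T q k) (hL : Lines S T) {α β : Ω} (hαβ : α ≠ β) :
    line T α β = line T β α :=
  Set.Subset.antisymm (line_symm_le h hL hαβ.symm) (line_symm_le h hL hαβ)

theorem smul_mem_line_of_mem (h : ResidK S T q k) (g : G) {α β γ : Ω} (hγ : γ ∈ line T α β) :
    g • γ ∈ line T (g • α) (g • β) := by
  rcases hγ with rfl | ⟨t, ht, rfl⟩
  · exact left_mem_line _ _
  · refine Or.inr ⟨g * t * g⁻¹, h.T_conj g ht, ?_⟩
    rw [mul_smul, mul_smul, inv_smul_smul]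

theorem smul_mem_line_iff (h : ResidK S T q k) (g : G) {α β γ : Ω} :
    g • γ ∈ line T (g • α) (g • β) ↔ γ ∈ line T α β := by
  constructor
  · intro hγ
    have := smul_mem_line_of_mem h g⁻¹ hγ
    rwa [inv_smul_smul, inv_smul_smul, inv_smul_smul] at this
  · exact smul_mem_line_of_mem h g

theorem line_unique (h : ResidK S T q k) (hL : Lines S T) {α β γ δ : Ω} (hαβ : α ≠ β)
    (hγ : γ ∈ line T α β) (hδ : δ ∈ line T α β) (hγδ : γ ≠ δ) :
    line T γ δ = line T α β := by
  by_cases hγα : γ = α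
  · subst hγα
    exact line_eq_of_mem hδ (Ne.symm hγδ)
  · have h1 : line T α γ = line T α β := line_eq_of_mem hγ hγα
    have h2 : line T γ α = line T α β := by rw [← h1]; exact line_symm h hL hγα
    have hδ' : δ ∈ line T γ α := by rw [h2]; exact hδ
    rw [← h2]
    exact line_eq_of_mem hδ' (Ne.symm hγδ)

theorem mem_lineStab_of_mem (h : ResidK S T q k) (hL : Lines S T) {α β γ δ : Ω} (hαβ : α ≠ β)
    (hγ : γ ∈ line T α β) (hδ : δ ∈ line T α β) (hγδ : γ ≠ δ) {g : G}
    (h1 : g • γ ∈ line T α β) (h2 : g • δ ∈ line T α β) :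
    g ∈ lineStab (G := G) (line T α β) := by
  have e1 : line T γ δ = line T α β := line_unique h hL hαβ hγ hδ hγδ
  have hne : g • γ ≠ g • δ := fun he => hγδ (MulAction.injective g he)
  have e2 : line T (g • γ) (g • δ) = line T α β := line_unique h hL hαβ h1 h2 hne
  intro ε
  have h3 := smul_mem_line_iff h g (α := γ) (β := δ) (γ := ε)
  rw [e2, e1] at h3
  exact h3

theorem T_le_lineStab (h : ResidK S T q k) (hL : Lines S T) {α β γ : Ω} (hαβ : α ≠ β)
    (hγ : γ ∈ line T α β) : T γ ≤ lineStab (G := G) (line T α β) := by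
  intro t ht
  -- choose a second point of the line
  obtain ⟨δ, hδ, hγδ⟩ : ∃ δ, δ ∈ line T α β ∧ γ ≠ δ := by
    by_cases hγα : γ = α
    · exact ⟨β, right_mem_line α β, by rw [hγα]; exact hαβ⟩
    · exact ⟨α, left_mem_line α β, hγα⟩
  have e1 : line T γ δ = line T α β := line_unique h hL hαβ hγ hδ hγδ
  refine mem_lineStab_of_mem h hL hαβ hγ hδ hγδ ?_ ?_
  · rw [h.T_fix ht]; exact hγ
  · rw [← e1]; exact smul_mem_line ht

theorem smul_ne_left (h : ResidK S T q k) {α β : Ω} (hαβ : α ≠ β) {t : G} (ht : t ∈ T α) :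
    t • β ≠ α := by
  intro hv
  have h1 : β = t⁻¹ • α := by rw [← hv, inv_smul_smul]
  rw [h.T_fix ((T α).inv_mem ht)] at h1
  exact hαβ h1.symm

theorem card_line [Finite Ω] (h : ResidK S T q k) {α β : Ω} (hαβ : α ≠ β) :
    Nat.card (line T α β) = q + 1 := by
  classical
  have e : Option (T α) ≃ line T α β := by
    refine Equiv.ofBijective
      (fun o => match o with
        | none => ⟨α, left_mem_line α β⟩
        | some t => ⟨(t : G) • β, smul_mem_line t.2⟩) ⟨?_, ?_⟩
    · intro o o' hoo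
      have hval := congrArg Subtype.val hoo
      match o, o', hval with
      | none, none, _ => rfl
      | none, some t, hv =>
        exfalso
        have hv' : α = (t : G) • β := hv
        exact smul_ne_left h hαβ t.2 hv'.symm
      | some t, none, hv =>
        exfalso
        have hv' : (t : G) • β = α := hv
        exact smul_ne_left h hαβ t.2 hv'
      | some t, some t', hv =>
        have hv' : (t : G) • β = (t' : G) • β := hv
        have := h.S_eq_of_smul_eq hαβ.symm (h.T_le α t.2) (h.T_le α t'.2) hv'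
        exact congrArg some (Subtype.ext this)
    · rintro ⟨γ, rfl | ⟨t, ht, rfl⟩⟩
      · exact ⟨none, rfl⟩
      · exact ⟨some ⟨t, ht⟩, rfl⟩
  rw [← Nat.card_congr e]
  have : Finite (T α) := Nat.finite_of_card_ne_zero (by rw [h.card_T]; have := h.four_le; omega)
  rw [Finite.card_option, h.card_T]

/-- an involution stabilizing a line fixes a point of it -/
theorem fix_mem_line_of_isInv [Finite Ω] (h : ResidK S T q k) {α β : Ω} (hαβ : α ≠ β)
    {a : G} (ha : IsInv a) (hal : a ∈ lineStab (G := G) (line T α β)) {γ : Ω} (hγ : a • γ = γ) :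
    γ ∈ line T α β := by
  classical
  have : Fintype (line T α β) := Fintype.ofFinite _
  let a' : lineStab (G := G) (line T α β) := ⟨a, hal⟩
  have hcard : ¬ 2 ∣ Fintype.card (line T α β) := by
    rw [← Nat.card_eq_fintype_card, card_line h hαβ]
    obtain ⟨n, hn, rfl⟩ := h.q_eq
    have : 2 ∣ 2 ^ n := dvd_pow_self 2 (by omega)
    omega
  have hσ : (MulAction.toPerm a' : Equiv.Perm (line T α β)) ^ 2 ^ 1 = 1 := by
    rw [pow_one, pow_two]
    ext x
    show ((a' • (a' • x) : line T α β) : Ω) = x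
    rw [lineAct_coe, lineAct_coe, ← mul_smul]
    show (a * a) • (x : Ω) = x
    rw [ha.1, one_smul]
  have : Fact (Nat.Prime 2) := ⟨Nat.prime_two⟩
  obtain ⟨γ', hγ'⟩ := Equiv.Perm.exists_fixed_point_of_prime (p := 2) (n := 1) hcard hσ
  have h1 : a • (γ' : Ω) = (γ' : Ω) := by
    have := congrArg Subtype.val hγ'
    exact this
  obtain ⟨δ, -, hδ⟩ := h.isInv_fix_unique ha
  have e1 : (γ' : Ω) = δ := hδ _ h1
  have e2 : γ = δ := hδ _ hγ
  rw [e2, ← e1]
  exact γ'.2

end Cfsg.Agent.Lib.Helper6.ZK
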