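import Mathlib
import Cfsg.Agent.Lib.Helper6.ZK_TICE1
import Cfsg.Agent.Lib.Helper2.TICE_G1
import Cfsg.Agent.Lib.Helper2.TICE_G2

/-!
# S4064 Part E, piece P3: lines when `5 ∤ |G|`
-/

set_option autoImplicit false
set_option linter.style.haveILetI false

namespace Cfsg.Agent.Lib.Helper6.ZK2

open Cfsg.Agent.Lib.Helper5.TICE (IsInv Fpf invSet ZS ZSInv Lines line lineStab lineAct lineAct_coe mem_lineStab SRHyp G3Hyp Esub mem_line left_mem_line right_mem_line smul_mem_line line_eq_of_mem)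
open Cfsg.Agent.Lib.Helper6.ZK
open Cfsg.Agent.Lib.Helper2.TICE

variable {G : Type*} [Group G] {Ω : Type*} [MulAction G Ω] {S T : Ω → Subgroup G} {q k : ℕ}

theorem lines_of_not_five_dvd [Finite G] [Finite Ω] (h : ResidK S T q k) (h5 : ¬ 5 ∣ Nat.card G)
    (hSR : ∀ w g : G, w * w = 1 → g ≠ 1 → Odd (orderOf g) → w * g * w⁻¹ = g⁻¹ →
      ∀ c ∈ Subgroup.centralizer ({g} : Set G), ∀ c' ∈ Subgroup.centralizer ({g} : Set G),
        c * c' = c' * c) :
    Lines S T := by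
  intro α β hαβ t1 ht1 ht11 r hr hrε
  by_contra hrT
  have hz1 : r * r ≠ 1 := fun hh => hrT ((h.mem_T α r hr).2 hh)
  -- w
  have ht1t1 : t1 * t1 = 1 := h.mul_self_of_mem_T ht1
  have hwT : r * t1 * r⁻¹ ∈ T (r • β) := h.T_conj r ht1
  have hw1 : r * t1 * r⁻¹ ≠ 1 := (h.isInv_of_mem_T ht1 ht11).conj r |>.2
  have hww : (r * t1 * r⁻¹) * (r * t1 * r⁻¹) = 1 := h.mul_self_of_mem_T hwT
  have hwinv : (r * t1 * r⁻¹)⁻¹ = r * t1 * r⁻¹ := inv_eq_of_mul_eq_one_left hww
  have hrα : r • α = α := h.S_fix α r hr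
  have hrinvα : r⁻¹ • α = α := by rw [inv_smul_eq_iff, hrα]
  have hωα : r • β ≠ α := by
    intro hh
    apply hαβ
    have : β = r⁻¹ • α := by rw [← hh, inv_smul_smul]
    rw [this, hrinvα]
  have hwα : (r * t1 * r⁻¹) • α = β := by
    rw [mul_smul, mul_smul, hrinvα, hrε]
  have hwβ : (r * t1 * r⁻¹) • β = α := by
    rw [← hwα, ← mul_smul, hww, one_smul]
  -- t
  have htT : (r * t1 * r⁻¹) * t1 * (r * t1 * r⁻¹) ∈ T α := by
    have := h.T_conj (r * t1 * r⁻¹) ht1
    rw [hwβ, hwinv] at this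
    exact this
  have ht1' : (r * t1 * r⁻¹) * t1 * (r * t1 * r⁻¹) ≠ 1 := by
    have := ((h.isInv_of_mem_T ht1 ht11).conj (r * t1 * r⁻¹)).2
    rwa [hwinv] at this
  -- z
  have hzT : r * r ∈ T α := h.sq_mem α r hr
  have hzz : (r * r) * (r * r) = 1 := h.mul_self_of_mem_T hzT
  have htr : ((r * t1 * r⁻¹) * t1 * (r * t1 * r⁻¹)) * r = r * ((r * t1 * r⁻¹) * t1 * (r * t1 * r⁻¹)) :=
    h.T_central α _ htT r hr
  -- abbreviations
  set w : G := r * t1 * r⁻¹ with hwdef
  set t : G := w * t1 * w with htdef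
  set z : G := r * r with hzdef
  have ht1eq : t1 = r⁻¹ * w * r := by rw [hwdef]; group
  have key := key_identity w r t1 hww ht1eq hzz htr
  -- odd orders
  obtain ⟨ho1, hne1⟩ := h.mul_odd hωα hwT hw1 htT ht1'
  obtain ⟨ho2, hne2⟩ := h.mul_odd (Ne.symm hωα) hzT hz1 hwT hw1
  have htt : t * t = 1 := h.mul_self_of_mem_T htT
  have htinv : t⁻¹ = t := inv_eq_of_mul_eq_one_left htt
  have hzinv : z⁻¹ = z := inv_eq_of_mul_eq_one_left hzz
  -- g
  have hg1 : (w * t) ^ 3 ≠ 1 := by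
    rw [key]
    intro hh
    apply hne2
    apply eq_one_of_sq_of_odd _ ho2
    rw [← pow_two]; exact hh
  have hgodd : Odd (orderOf ((w * t) ^ 3)) := Odd.of_dvd_nat ho1 (orderOf_pow_dvd 3)
  have hwtinv : (w * t)⁻¹ = t * w := by rw [mul_inv_rev, htinv, hwinv]
  have hginv : w * (w * t) ^ 3 * w⁻¹ = ((w * t) ^ 3)⁻¹ := by
    rw [← conj_pow, ← inv_pow, hwtinv]
    congr 1
    rw [hwinv]
    calc w * (w * t) * w = (w * w) * t * w := by group
      _ = t * w := by rw [hww, one_mul]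
  have hab := hSR w ((w * t) ^ 3) hww hg1 hgodd hginv
  have hc1 : w * t ∈ Subgroup.centralizer ({(w * t) ^ 3} : Set G) := by
    rw [Subgroup.mem_centralizer_singleton_iff, ← pow_succ', ← pow_succ]
  have hc2 : z * w ∈ Subgroup.centralizer ({(w * t) ^ 3} : Set G) := by
    rw [key, Subgroup.mem_centralizer_singleton_iff, ← pow_succ', ← pow_succ]
  have hcomm := hab _ hc1 _ hc2
  -- w commutes with t z
  have htz : t * z = z * t := h.T_comm htT hzT
  have hwtz : w * (t * z) = (t * z) * w := by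
    have e1 : (w * t) * (z * w) = w * (t * z) * w := by group
    have e2 : (z * w) * (w * t) = z * (w * w) * t := by group
    rw [e1, e2, hww, mul_one, ← htz] at hcomm
    calc w * (t * z) = (w * (t * z) * w) * w⁻¹ := by group
      _ = (t * z) * w := by rw [hcomm, hwinv]
  have htz1 : t * z = 1 := by
    by_contra hne
    have hwS : w ∈ S α := h.cent_invol α (t * z) ((T α).mul_mem htT hzT) hne w hwtz
    have := h.S_fix α w hwS
    rw [hwα] at this
    exact hαβ this.symm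
  have hzt : z = t := by
    calc z = t⁻¹ * (t * z) := by group
      _ = t := by rw [htz1, mul_one, htinv]
  -- (w t)^5 = 1
  have h5' : (w * t) ^ 5 = 1 := by
    have e : (z * w) ^ 2 = ((w * t)⁻¹) ^ 2 := by rw [hzt, hwtinv]
    rw [e] at key
    calc (w * t) ^ 5 = (w * t) ^ 3 * (w * t) ^ 2 := by rw [← pow_add]
      _ = ((w * t)⁻¹) ^ 2 * (w * t) ^ 2 := by rw [key]
      _ = 1 := by rw [inv_pow, inv_mul_cancel]
  have ho5 : orderOf (w * t) = 5 := by
    haveI : Fact (Nat.Prime 5) := ⟨by norm_num⟩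
    exact orderOf_eq_prime h5' hne1
  apply h5
  rw [← ho5]
  exact orderOf_dvd_natCard _

end Cfsg.Agent.Lib.Helper6.ZK2
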