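import Mathlib
import Cfsg.Agent.Lib.Helper6.ZK_TICE3

/-!
# S4064, Part E, piece P5a: the stabilizer of a line is a Zassenhaus-type group on the line
-/

set_option autoImplicit false
set_option linter.unusedSimpArgs false
set_option linter.unusedVariables false
set_option linter.unusedSectionVars false
set_option linter.style.longLine false

namespace Cfsg.Agent.Lib.Helper6.ZK7

open Cfsg.Agent.Lib.Helper5.TICE (IsInv Fpf invSet ZS ZSInv Lines line lineStab lineAct lineAct_coe mem_lineStab SRHyp G3Hyp Esub mem_line left_mem_line right_mem_line smul_mem_line line_eq_of_mem)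
open Cfsg.Agent.Lib.Helper6.ZK

variable {G : Type*} [Group G] {Ω : Type*} [MulAction G Ω] {S T : Ω → Subgroup G} {q k : ℕ}

theorem exists_third {A : Type*} [Finite A] (h3 : 3 ≤ Nat.card A) (a b : A) :
    ∃ c : A, c ≠ a ∧ c ≠ b := by
  classical
  by_contra hall
  push Not at hall
  have : Fintype A := Fintype.ofFinite A
  have h2 : Nat.card A ≤ 2 := by
    rw [Nat.card_eq_fintype_card]
    calc Fintype.card A = (Finset.univ : Finset A).card := rfl
      _ ≤ ({a, b} : Finset A).card := Finset.card_le_card (fun y _ => by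
          by_cases hy : y = a
          · simp [hy]
          · simp [hall y hy])
      _ ≤ 2 := Finset.card_le_two
  omega

/-- the line stabilizer is transitive on the line -/
theorem lineStab_move1 [Finite Ω] (h : ResidK S T q k) (hL : Lines S T) {α β : Ω}
    (hαβ : α ≠ β) {γ γ' : Ω} (hγ : γ ∈ line T α β) (hγ' : γ' ∈ line T α β) :
    ∃ g ∈ lineStab (G := G) (line T α β), g • γ = γ' := by
  by_cases hgg : γ = γ'
  · exact ⟨1, Subgroup.one_mem _, by rw [one_smul, hgg]⟩
  have hcard : 3 ≤ Nat.card (line T α β) := by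
    rw [card_line h hαβ]
    have := h.four_le
    omega
  obtain ⟨ε, hε1, hε2⟩ := exists_third hcard ⟨γ, hγ⟩ ⟨γ', hγ'⟩
  have hεγ : (ε : Ω) ≠ γ := fun e => hε1 (Subtype.ext e)
  have hεγ' : (ε : Ω) ≠ γ' := fun e => hε2 (Subtype.ext e)
  have e1 : line T (ε : Ω) γ = line T α β := line_unique h hL hαβ ε.2 hγ hεγ
  have hmem : γ' ∈ line T (ε : Ω) γ := by rw [e1]; exact hγ'
  rcases hmem with he | ⟨t, ht, he⟩
  · exact absurd he.symm hεγ'
  · exact ⟨t, T_le_lineStab h hL hαβ ε.2 ht, he.symm⟩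

/-- the stabilizer of a point of the line in the line stabilizer is transitive on the rest -/
theorem lineStab_move2 (h : ResidK S T q k) (hL : Lines S T) {α β : Ω}
    (hαβ : α ≠ β) {γ δ δ' : Ω} (hγ : γ ∈ line T α β) (hδ : δ ∈ line T α β)
    (hδ' : δ' ∈ line T α β) (hδγ : δ ≠ γ) (hδ'γ : δ' ≠ γ) :
    ∃ g ∈ lineStab (G := G) (line T α β), g • γ = γ ∧ g • δ = δ' := by
  have e1 : line T γ δ = line T α β := line_unique h hL hαβ hγ hδ (Ne.symm hδγ)
  have hmem : δ' ∈ line T γ δ := by rw [e1]; exact hδ'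
  rcases hmem with he | ⟨t, ht, he⟩
  · exact absurd he hδ'γ
  · exact ⟨t, T_le_lineStab h hL hαβ hγ ht, h.T_fix ht, he.symm⟩

-- P5a
theorem lineStab_ZS [Finite G] [Finite Ω] (h : ResidK S T q k) (hL : Lines S T) {α β : Ω}
    (hαβ : α ≠ β) :
    ZS (lineStab (G := G) (line T α β)) (line T α β) q (q - 1) where
  card_pts := card_line h hαβ
  two_trans := by
    intro γ δ γ' δ' hγδ hγδ'
    obtain ⟨g1, hg1X, hg1⟩ := lineStab_move1 h hL hαβ γ.2 γ'.2
    have hδ''ℓ : g1 • (δ : Ω) ∈ line T α β := ((mem_lineStab.mp hg1X) (δ : Ω)).mpr δ.2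
    have hδ''ne : g1 • (δ : Ω) ≠ (γ' : Ω) := by
      intro e
      rw [← hg1] at e
      exact hγδ (Subtype.ext (MulAction.injective g1 e).symm)
    have hδ'ne : (δ' : Ω) ≠ (γ' : Ω) := fun e => hγδ' (Subtype.ext e.symm)
    obtain ⟨g2, hg2X, hg2a, hg2b⟩ := lineStab_move2 h hL hαβ γ'.2 hδ''ℓ δ'.2 hδ''ne hδ'ne
    refine ⟨⟨g2 * g1, Subgroup.mul_mem _ hg2X hg1X⟩, ?_, ?_⟩
    · apply Subtype.ext
      show (g2 * g1) • (γ : Ω) = (γ' : Ω)
      rw [mul_smul, hg1, hg2a]
    · apply Subtype.ext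
      show (g2 * g1) • (δ : Ω) = (δ' : Ω)
      rw [mul_smul, hg2b]
  three_pt := by
    intro g γ δ ε hγδ hδε hγε h1 h2 h3
    apply Subtype.ext
    show (g : G) = 1
    exact h.three_pt (g : G) (γ : Ω) (δ : Ω) (ε : Ω) (fun e => hγδ (Subtype.ext e))
      (fun e => hδε (Subtype.ext e)) (fun e => hγε (Subtype.ext e))
      (congrArg Subtype.val h1) (congrArg Subtype.val h2) (congrArg Subtype.val h3)
  card_D := by
    intro γ δ hγδ
    have hne : (γ : Ω) ≠ (δ : Ω) := fun e => hγδ (Subtype.ext e)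
    rw [← h.card_D (γ : Ω) (δ : Ω) hne]
    apply Nat.card_congr
    exact
      { toFun := fun g => ⟨(g.1 : G), congrArg Subtype.val g.2.1, congrArg Subtype.val g.2.2⟩
        invFun := fun g => ⟨⟨g.1, mem_lineStab_of_mem h hL hαβ γ.2 δ.2 hne
            (by rw [g.2.1]; exact γ.2) (by rw [g.2.2]; exact δ.2)⟩,
          Subtype.ext g.2.1, Subtype.ext g.2.2⟩
        left_inv := fun g => rfl
        right_inv := fun g => rfl }

end Cfsg.Agent.Lib.Helper6.ZK7
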