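import Mathlib
import Cfsg.Agent.Lib.Helper6.ZK_TICE1

/-!
# S4064 Part E, piece P6b: non-identity elements commuting with a fixed-point-free element of odd
order are fixed-point-free
-/

set_option autoImplicit false
set_option linter.style.haveILetI false

namespace Cfsg.Agent.Lib.Helper6.ZK2

open Cfsg.Agent.Lib.Helper5.TICE (IsInv Fpf invSet ZS ZSInv Lines line lineStab lineAct lineAct_coe mem_lineStab SRHyp G3Hyp Esub mem_line left_mem_line right_mem_line smul_mem_line line_eq_of_mem)
open Cfsg.Agent.Lib.Helper6.ZK MulAction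

variable {G : Type*} [Group G] {Ω : Type*} [MulAction G Ω] {S T : Ω → Subgroup G} {q k : ℕ}

theorem fpf_of_mem_centralizer [Finite G] [Finite Ω] (h : ResidK S T q k) {x : G} (hx : Fpf Ω x)
    (hodd : Odd (orderOf x)) {c : G} (hc : c ∈ Subgroup.centralizer ({x} : Set G)) (hc1 : c ≠ 1) :
    Fpf Ω c := by
  intro δ hδ
  have hcx : c * x = x * c := Subgroup.mem_centralizer_singleton_iff.1 hc
  have hfix : ∀ ε : Ω, c • ε = ε → c • (x • ε) = x • ε := by
    intro ε hε
    rw [← mul_smul, hcx, mul_smul, hε]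
  have h1 := hfix δ hδ
  have h2 := hfix (x • δ) h1
  have hx2 : x • (x • δ) = δ := by
    by_contra hne
    exact hc1 (h.three_pt c δ (x • δ) (x • (x • δ)) (Ne.symm (hx δ)) (Ne.symm (hx (x • δ)))
      (Ne.symm hne) hδ h1 h2)
  obtain ⟨k, hk⟩ := hodd
  have hmem : x * x ∈ stabilizer G δ := by
    rw [mem_stabilizer_iff, mul_smul]; exact hx2
  have hpow : (x * x) ^ (k + 1) ∈ stabilizer G δ := (stabilizer G δ).pow_mem hmem _
  have hxe : (x * x) ^ (k + 1) = x := by
    rw [← pow_two, ← pow_mul]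
    have : 2 * (k + 1) = orderOf x + 1 := by omega
    rw [this, pow_succ, pow_orderOf_eq_one, one_mul]
  rw [hxe] at hpow
  exact hx δ (mem_stabilizer_iff.1 hpow)

end Cfsg.Agent.Lib.Helper6.ZK2
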