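import Mathlib
import Cfsg.Agent.Lib.Helper6.ZK_TICE1

/-! S4064 Part E, piece P6dB: `|N_G(M)| = |M| * |E|` for `M = C_G(x)`, `E = N_G(M) ∩ C_G(a)`. -/

set_option autoImplicit false
set_option linter.style.haveILetI false

namespace Cfsg.Agent.Lib.Helper6.ZK9

open Cfsg.Agent.Lib.Helper5.TICE (IsInv Fpf invSet ZS ZSInv Lines line lineStab lineAct lineAct_coe mem_lineStab SRHyp G3Hyp Esub mem_line left_mem_line right_mem_line smul_mem_line line_eq_of_mem)
open Cfsg.Agent.Lib.Helper6.ZK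

variable {G : Type*} [Group G] {Ω : Type*} [MulAction G Ω] {S T : Ω → Subgroup G} {q k : ℕ}

/-- (P6a, local copy) a fixed-point-free element inverted by an involution has odd order -/
theorem odd_of_fpf_inverted_aux [Finite G] [Finite Ω] (h : ResidK S T q k) {x a : G} (hx : Fpf Ω x)
    (ha : a ∈ invSet x) : Odd (orderOf x) ∧ x ≠ 1 := by
  obtain ⟨hai, hax⟩ := ha
  have hinv : a⁻¹ = a := hai.inv_eq
  have hbb : a * x * (a * x) = 1 := by
    calc a * x * (a * x) = (a * x * a⁻¹) * x := by rw [hinv]; group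
      _ = 1 := by rw [hax]; group
  obtain ⟨α, hα⟩ := h.invol a hai
  have hb1 : a * x ≠ 1 := by
    intro h1
    have : x = a := by
      have : x = a⁻¹ := by rw [eq_comm, inv_eq_iff_mul_eq_one]; exact h1
      rw [this, hinv]
    exact hx α (by rw [this]; exact h.T_fix hα)
  obtain ⟨β, hβ⟩ := h.invol (a * x) ⟨hbb, hb1⟩
  have hxab : a * (a * x) = x := by rw [← mul_assoc, hai.1, one_mul]
  have hαβ : α ≠ β := by
    intro he
    apply hx α
    rw [← hxab, mul_smul]
    have : (a * x) • α = α := by rw [he]; exact h.T_fix hβ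
    rw [this]
    exact h.T_fix hα
  have := h.mul_odd hαβ hα hai.2 hβ hb1
  rw [hxab] at this
  exact this

-- P6dB
theorem card_normalizer [Finite G] [Finite Ω] (h : ResidK S T q k) (hSR : SRHyp G)
    {x a : G} (hx : Fpf Ω x) (ha : a ∈ invSet x) :
    Nat.card (Subgroup.normalizer ((Subgroup.centralizer ({x} : Set G) : Subgroup G) : Set G))
      = Nat.card (Subgroup.centralizer ({x} : Set G)) * Nat.card (Esub x a) := by
  obtain ⟨hodd, hx1⟩ := odd_of_fpf_inverted_aux h hx ha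
  obtain ⟨hai, hax⟩ := ha
  have hinv : a⁻¹ = a := hai.inv_eq
  obtain ⟨hi, hab, hoddM, hiv⟩ := hSR a x hai.1 hx1 hodd hax
  set M := Subgroup.centralizer ({x} : Set G) with hM
  set N := Subgroup.normalizer (M : Set G) with hN
  have hMN : M ≤ N := Subgroup.le_normalizer
  have hEN : Esub x a ≤ N := inf_le_left
  have hEa : ∀ e ∈ Esub x a, e * a = a * e := by
    intro e he
    exact Subgroup.mem_centralizer_singleton_iff.1 (Subgroup.mem_inf.1 he).2
  have hxM : x ∈ M := Subgroup.mem_centralizer_singleton_iff.2 rfl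
  -- `M ∩ C(a) = 1`
  have hMa : ∀ k ∈ M, k * a = a * k → k = 1 := by
    intro k hk hka
    have h1 : a * k * a⁻¹ = k := by rw [← hka]; group
    have h2 : k⁻¹ = k := by rw [← hi k hk, h1]
    have h3 : k ^ 2 = 1 := by
      rw [pow_two]
      calc k * k = k⁻¹ * k := by rw [h2]
        _ = 1 := inv_mul_cancel k
    have h4 : orderOf k ∣ 2 := orderOf_dvd_of_pow_eq_one h3
    have h5 : orderOf k ∣ Nat.card M := by
      have := orderOf_dvd_natCard (⟨k, hk⟩ : M)
      rwa [Subgroup.orderOf_mk] at this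
    have h6 : orderOf k = 1 := by
      rcases (Nat.dvd_prime Nat.prime_two).1 h4 with h | h
      · exact h
      · exfalso
        rw [h] at h5
        exact (Nat.not_even_iff_odd.2 hoddM) (even_iff_two_dvd.2 h5)
    exact orderOf_eq_one_iff.1 h6
  rw [← Nat.card_prod]
  symm
  apply Nat.card_congr
  refine Equiv.ofBijective
    (fun p : M × Esub x a => (⟨p.1.1 * p.2.1, N.mul_mem (hMN p.1.2) (hEN p.2.2)⟩ : N)) ⟨?_, ?_⟩
  · rintro ⟨⟨m, hm⟩, ⟨e, he⟩⟩ ⟨⟨m', hm'⟩, ⟨e', he'⟩⟩ hp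
    have hp' : m * e = m' * e' := congrArg Subtype.val hp
    have hk : m'⁻¹ * m = e' * e⁻¹ := by
      have : m'⁻¹ * (m * e) * e⁻¹ = m'⁻¹ * (m' * e') * e⁻¹ := by rw [hp']
      calc m'⁻¹ * m = m'⁻¹ * (m * e) * e⁻¹ := by group
        _ = m'⁻¹ * (m' * e') * e⁻¹ := this
        _ = e' * e⁻¹ := by group
    have hkM : m'⁻¹ * m ∈ M := M.mul_mem (M.inv_mem hm') hm
    have hkE : e' * e⁻¹ ∈ Esub x a := (Esub x a).mul_mem he' ((Esub x a).inv_mem he)
    have h1 : m'⁻¹ * m = 1 := hMa _ hkM (by rw [hk]; exact hEa _ hkE)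
    have hmm : m = m' := by
      have := inv_mul_eq_one.1 h1
      exact this.symm
    have hee : e = e' := by
      rw [hmm] at hp'
      exact mul_left_cancel hp'
    subst hmm; subst hee; rfl
  · rintro ⟨g, hg⟩
    -- `g⁻¹ x g ∈ M`
    have hginv : g⁻¹ ∈ N := N.inv_mem hg
    have h1 : g⁻¹ * x * g ∈ M := by
      have := ((Subgroup.mem_normalizer_iff.1 hginv) x).1 hxM
      rwa [inv_inv] at this
    have h2 : a * (g⁻¹ * x * g) * a⁻¹ = (g⁻¹ * x * g)⁻¹ := hi _ h1
    set m := g * a * g⁻¹ * a⁻¹ with hm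
    have hmM : m ∈ M := by
      rw [hM, Subgroup.mem_centralizer_singleton_iff]
      -- m x = x m
      have h3 : g * a * g⁻¹ * x * (g * a * g⁻¹)⁻¹ = x⁻¹ := by
        calc g * a * g⁻¹ * x * (g * a * g⁻¹)⁻¹ = g * (a * (g⁻¹ * x * g) * a⁻¹) * g⁻¹ := by group
          _ = g * (g⁻¹ * x * g)⁻¹ * g⁻¹ := by rw [h2]
          _ = x⁻¹ := by group
      have h4 : a⁻¹ * x * a = x⁻¹ := by
        have : a⁻¹ * x * a = a * x * a⁻¹ := by rw [hinv]
        rw [this, hax]
      have h5 : m * x * m⁻¹ = x := by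
        calc m * x * m⁻¹ = g * a * g⁻¹ * (a⁻¹ * x * a) * (g * a * g⁻¹)⁻¹ := by rw [hm]; group
          _ = g * a * g⁻¹ * x⁻¹ * (g * a * g⁻¹)⁻¹ := by rw [h4]
          _ = (g * a * g⁻¹ * x * (g * a * g⁻¹)⁻¹)⁻¹ := by group
          _ = x := by rw [h3, inv_inv]
      calc m * x = m * x * m⁻¹ * m := by group
        _ = x * m := by rw [h5]
    obtain ⟨j, hj⟩ := hoddM
    set k := m ^ (j + 1) with hk
    have hkM : k ∈ M := M.pow_mem hmM _
    have hmcard : m ^ (Nat.card M) = 1 := by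
      have := pow_card_eq_one' (G := M) (x := ⟨m, hmM⟩)
      exact congrArg Subtype.val this
    have hkk : k * k = m := by
      rw [hk, ← pow_add]
      have : j + 1 + (j + 1) = Nat.card M + 1 := by omega
      rw [this, pow_succ, hmcard, one_mul]
    have h6 : a * k⁻¹ * a⁻¹ = k := by
      have := hi k⁻¹ (M.inv_mem hkM)
      rwa [inv_inv] at this
    have h7 : k * a * k⁻¹ = g * a * g⁻¹ := by
      calc k * a * k⁻¹ = k * (a * k⁻¹ * a⁻¹) * a := by group
        _ = k * k * a := by rw [h6]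
        _ = m * a := by rw [hkk]
        _ = g * a * g⁻¹ := by rw [hm]; group
    have heN : k⁻¹ * g ∈ N := N.mul_mem (N.inv_mem (hMN hkM)) hg
    have hea : k⁻¹ * g ∈ Subgroup.centralizer ({a} : Set G) := by
      rw [Subgroup.mem_centralizer_singleton_iff]
      have : k⁻¹ * g * a * (k⁻¹ * g)⁻¹ = a := by
        calc k⁻¹ * g * a * (k⁻¹ * g)⁻¹ = k⁻¹ * (g * a * g⁻¹) * k := by group
          _ = k⁻¹ * (k * a * k⁻¹) * k := by rw [h7]
          _ = a := by group
      calc k⁻¹ * g * a = k⁻¹ * g * a * (k⁻¹ * g)⁻¹ * (k⁻¹ * g) := by group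
        _ = a * (k⁻¹ * g) := by rw [this]
    refine ⟨(⟨k, hkM⟩, ⟨k⁻¹ * g, Subgroup.mem_inf.2 ⟨heN, hea⟩⟩), ?_⟩
    apply Subtype.ext
    show k * (k⁻¹ * g) = g
    group

end Cfsg.Agent.Lib.Helper6.ZK9
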