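import Mathlib
import Cfsg.Agent.Lib.Helper6.ZK_TICE3

/-! S4064 Part E, piece P7a: fixed-point-free on a line and inverted in the line stabilizer
implies fixed-point-free. -/

set_option autoImplicit false
set_option linter.style.haveILetI false

namespace Cfsg.Agent.Lib.Helper6.ZK9

open Cfsg.Agent.Lib.Helper5.TICE (IsInv Fpf invSet ZS ZSInv Lines line lineStab lineAct lineAct_coe mem_lineStab SRHyp G3Hyp Esub mem_line left_mem_line right_mem_line smul_mem_line line_eq_of_mem)
open Cfsg.Agent.Lib.Helper6.ZK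

variable {G : Type*} [Group G] {Ω : Type*} [MulAction G Ω] {S T : Ω → Subgroup G} {q k : ℕ}

-- P7a
theorem fpf_of_fpf_on_line [Finite G] [Finite Ω] (h : ResidK S T q k) (hL : Lines S T) {α β : Ω}
    (hαβ : α ≠ β) {y a : G} (hy : y ∈ lineStab (G := G) (line T α β))
    (hyl : ∀ γ ∈ line T α β, y • γ ≠ γ) (ha : a ∈ invSet y)
    (hal : a ∈ lineStab (G := G) (line T α β)) : Fpf Ω y := by
  obtain ⟨hai, hay⟩ := ha
  have hinv : a⁻¹ = a := hai.inv_eq
  have hbb : a * y * (a * y) = 1 := by
    calc a * y * (a * y) = (a * y * a⁻¹) * y := by rw [hinv]; group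
      _ = 1 := by rw [hay]; group
  obtain ⟨γa, hγa, hγau⟩ := h.isInv_fix_unique hai
  have hγal : γa ∈ line T α β := fix_mem_line_of_isInv h hαβ hai hal hγa
  have hb1 : a * y ≠ 1 := by
    intro h1
    have : y = a := by
      have : y = a⁻¹ := by rw [eq_comm, inv_eq_iff_mul_eq_one]; exact h1
      rw [this, hinv]
    exact hyl γa hγal (by rw [this]; exact hγa)
  have hbi : IsInv (a * y) := ⟨hbb, hb1⟩
  have hbl : a * y ∈ lineStab (G := G) (line T α β) := Subgroup.mul_mem _ hal hy
  obtain ⟨γb, hγb, hγbu⟩ := h.isInv_fix_unique hbi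
  have hγbl : γb ∈ line T α β := fix_mem_line_of_isInv h hαβ hbi hbl hγb
  have hyab : a * (a * y) = y := by rw [← mul_assoc, hai.1, one_mul]
  have hγab : γa ≠ γb := by
    intro he
    apply hyl γa hγal
    rw [← hyab, mul_smul, he, hγb, ← he, hγa]
  intro δ hδ
  -- δ' := a • δ
  have hbδ : (a * y) • δ = a • δ := by rw [mul_smul, hδ]
  have hδ' : a • δ ≠ δ := by
    intro he
    have : δ = γa := hγau δ he
    exact hyl δ (by rw [this]; exact hγal) hδ
  have haδ' : a • (a • δ) = δ := by rw [← mul_smul, hai.1, one_smul]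
  have hbδ' : (a * y) • (a • δ) = δ := by
    rw [← hbδ, ← mul_smul, hbb, one_smul]
  have hne : δ ≠ a • δ := Ne.symm hδ'
  have hal' : a ∈ lineStab (G := G) (line T δ (a • δ)) :=
    mem_lineStab_of_mem h hL hne (left_mem_line _ _) (right_mem_line _ _) hne
      (right_mem_line _ _) (by rw [haδ']; exact left_mem_line _ _)
  have hbl' : a * y ∈ lineStab (G := G) (line T δ (a • δ)) :=
    mem_lineStab_of_mem h hL hne (left_mem_line _ _) (right_mem_line _ _) hne
      (by rw [hbδ]; exact right_mem_line _ _) (by rw [hbδ']; exact left_mem_line _ _)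
  have h1 : γa ∈ line T δ (a • δ) := fix_mem_line_of_isInv h hne hai hal' hγa
  have h2 : γb ∈ line T δ (a • δ) := fix_mem_line_of_isInv h hne hbi hbl' hγb
  have e1 : line T γa γb = line T δ (a • δ) := line_unique h hL hne h1 h2 hγab
  have e2 : line T γa γb = line T α β := line_unique h hL hαβ hγal hγbl hγab
  have hδl : δ ∈ line T α β := by
    rw [← e2, e1]; exact left_mem_line _ _
  exact hyl δ hδl hδ

end Cfsg.Agent.Lib.Helper6.ZK9
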