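import Mathlib
import Cfsg.Agent.Lib.Helper6.ZK_TICE3
import Cfsg.Agent.Lib.Helper6.ZK_P6a
import Cfsg.Agent.Lib.Helper6.ZK_P6b
import Cfsg.Agent.Lib.Helper6.ZK_P7a

/-! S4064 Part E, pieces P7b and P7c. -/

set_option autoImplicit false
set_option linter.style.haveILetI false
set_option linter.unusedVariables false

namespace Cfsg.Agent.Lib.Helper6.ZK9

open Cfsg.Agent.Lib.Helper5.TICE (IsInv Fpf invSet ZS ZSInv Lines line lineStab lineAct lineAct_coe mem_lineStab SRHyp G3Hyp Esub mem_line left_mem_line right_mem_line smul_mem_line line_eq_of_mem)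
open Cfsg.Agent.Lib.Helper6.ZK

variable {G : Type*} [Group G] {Ω : Type*} [MulAction G Ω] {S T : Ω → Subgroup G} {q k : ℕ}

/-- `K = C_G(y) ∩ X` acts semiregularly on the line, so `|K| ≤ q + 1`. -/
theorem card_cent_inf_lineStab_le [Finite G] [Finite Ω] (h : ResidK S T q k) {α β : Ω}
    (hαβ : α ≠ β) {y : G} (hyf : Fpf Ω y) (hodd : Odd (orderOf y)) :
    Nat.card ↥(Subgroup.centralizer ({y} : Set G) ⊓ lineStab (G := G) (line T α β)) ≤ q + 1 := by
  rw [← card_line h hαβ]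
  refine Nat.card_le_card_of_injective
    (fun c => (⟨(c : G) • α, ((Subgroup.mem_inf.1 c.2).2 α).2 (left_mem_line α β)⟩ : line T α β)) ?_
  intro c c' hcc
  have h1 : (c : G) • α = (c' : G) • α := congrArg Subtype.val hcc
  have h2 : ((c' : G)⁻¹ * (c : G)) • α = α := by rw [mul_smul, h1, inv_smul_smul]
  have h3 : (c' : G)⁻¹ * (c : G) ∈ Subgroup.centralizer ({y} : Set G) :=
    Subgroup.mul_mem _ (Subgroup.inv_mem _ (Subgroup.mem_inf.1 c'.2).1) (Subgroup.mem_inf.1 c.2).1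
  have h4 : (c' : G)⁻¹ * (c : G) = 1 := by
    by_contra hne
    exact Cfsg.Agent.Lib.Helper6.ZK2.fpf_of_mem_centralizer h hyf hodd h3 hne α h2
  apply Subtype.ext
  exact (inv_mul_eq_one.1 h4).symm

/-- the involutions of `X` inverting `y` inject into `K = C_G(y) ∩ X` -/
theorem card_invSet_le_card_inf [Finite G] {ℓ : Set Ω} (y : lineStab (G := G) ℓ)
    (a0 : lineStab (G := G) ℓ) (ha0 : a0 ∈ invSet y) :
    Nat.card {a : lineStab (G := G) ℓ // a ∈ invSet y} ≤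
      Nat.card ↥(Subgroup.centralizer ({(y : G)} : Set G) ⊓ lineStab (G := G) ℓ) := by
  have e0 : (a0 : G) * (y : G) * (a0 : G)⁻¹ = (y : G)⁻¹ := congrArg Subtype.val ha0.2
  have e0' : (a0 : G)⁻¹ * (y : G) * (a0 : G) = (y : G)⁻¹ := by
    have : (y : G) = (a0 : G)⁻¹ * (y : G)⁻¹ * (a0 : G) := by rw [← e0]; group
    calc (a0 : G)⁻¹ * (y : G) * (a0 : G) = ((a0 : G)⁻¹ * (y : G)⁻¹ * (a0 : G))⁻¹ := by group
      _ = (y : G)⁻¹ := by rw [← this]
  refine Nat.card_le_card_of_injective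
    (fun a => (⟨(a.1 : G) * (a0 : G)⁻¹, ?_⟩ :
      ↥(Subgroup.centralizer ({(y : G)} : Set G) ⊓ lineStab (G := G) ℓ))) ?_
  · refine Subgroup.mem_inf.2 ⟨?_, Subgroup.mul_mem _ a.1.2 (Subgroup.inv_mem _ a0.2)⟩
    rw [Subgroup.mem_centralizer_singleton_iff]
    have e1 : (a.1 : G) * (y : G) * (a.1 : G)⁻¹ = (y : G)⁻¹ := congrArg Subtype.val a.2.2
    have e2 : (a.1 : G) * (a0 : G)⁻¹ * (y : G) * ((a.1 : G) * (a0 : G)⁻¹)⁻¹ = (y : G) := by
      calc (a.1 : G) * (a0 : G)⁻¹ * (y : G) * ((a.1 : G) * (a0 : G)⁻¹)⁻¹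
          = (a.1 : G) * ((a0 : G)⁻¹ * (y : G) * (a0 : G)) * (a.1 : G)⁻¹ := by group
        _ = ((a.1 : G) * (y : G) * (a.1 : G)⁻¹)⁻¹ := by rw [e0']; group
        _ = (y : G) := by rw [e1, inv_inv]
    calc (a.1 : G) * (a0 : G)⁻¹ * (y : G)
        = (a.1 : G) * (a0 : G)⁻¹ * (y : G) * ((a.1 : G) * (a0 : G)⁻¹)⁻¹ * ((a.1 : G) * (a0 : G)⁻¹) := by
          group
      _ = (y : G) * ((a.1 : G) * (a0 : G)⁻¹) := by rw [e2]
  · intro a a' haa
    have h1 : (a.1 : G) * (a0 : G)⁻¹ = (a'.1 : G) * (a0 : G)⁻¹ := congrArg Subtype.val haa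
    apply Subtype.ext
    apply Subtype.ext
    exact mul_right_cancel h1

-- P7b
theorem lineStab_invSet_le [Finite G] [Finite Ω] (h : ResidK S T q k) (hL : Lines S T)
    (hSR : SRHyp G) {α β : Ω} (hαβ : α ≠ β)
    (y : lineStab (G := G) (line T α β)) (hy : Fpf (line T α β) y) :
    Nat.card {a : lineStab (G := G) (line T α β) // a ∈ invSet y} ≤ q + 1 := by
  by_cases hne : Nonempty {a : lineStab (G := G) (line T α β) // a ∈ invSet y}
  · obtain ⟨⟨a0, ha0⟩⟩ := hne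
    have hyl : ∀ γ ∈ line T α β, (y : G) • γ ≠ γ := by
      intro γ hγ hfix
      apply hy ⟨γ, hγ⟩
      apply Subtype.ext
      rw [lineAct_coe]
      exact hfix
    have ha0G : (a0 : G) ∈ invSet (y : G) := by
      refine ⟨⟨congrArg Subtype.val ha0.1.1, fun h0 => ha0.1.2 (Subtype.ext h0)⟩, ?_⟩
      exact congrArg Subtype.val ha0.2
    have hyf : Fpf Ω (y : G) := fpf_of_fpf_on_line h hL hαβ y.2 hyl ha0G a0.2
    have hodd := (Cfsg.Agent.Lib.Helper6.ZK2.odd_of_fpf_inverted h hyf ha0G).1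
    exact (card_invSet_le_card_inf y a0 ha0).trans (card_cent_inf_lineStab_le h hαβ hyf hodd)
  · rw [not_nonempty_iff] at hne
    rw [Nat.card_of_isEmpty]
    exact Nat.zero_le _

end Cfsg.Agent.Lib.Helper6.ZK9
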