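import Mathlib
import Cfsg.Agent.Lib.Helper6.ZK_P7b

/-! S4064 Part E, piece P7c. -/

set_option autoImplicit false
set_option linter.style.haveILetI false
set_option linter.unusedVariables false

namespace Cfsg.Agent.Lib.Helper6.ZK9

open Cfsg.Agent.Lib.Helper5.TICE (IsInv Fpf invSet ZS ZSInv Lines line lineStab lineAct lineAct_coe mem_lineStab SRHyp G3Hyp Esub mem_line left_mem_line right_mem_line smul_mem_line line_eq_of_mem)
open Cfsg.Agent.Lib.Helper6.ZK

variable {G : Type*} [Group G] {Ω : Type*} [MulAction G Ω] {S T : Ω → Subgroup G} {q k : ℕ}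

-- P7c
theorem dvd_card_centralizer [Finite G] [Finite Ω] (h : ResidK S T q k) (hL : Lines S T)
    (hSR : SRHyp G)
    (hC5 : ∀ α β : Ω, α ≠ β → ∀ y : lineStab (G := G) (line T α β), Fpf (line T α β) y →
      Nat.card {a : lineStab (G := G) (line T α β) // a ∈ invSet y} = q + 1)
    {x a : G} (hx : Fpf Ω x) (ha : a ∈ invSet x) :
    q + 1 ∣ Nat.card (Subgroup.centralizer ({x} : Set G)) := by
  have hodd := (Cfsg.Agent.Lib.Helper6.ZK2.odd_of_fpf_inverted h hx ha).1
  obtain ⟨hai, hax⟩ := ha
  have hinv : a⁻¹ = a := hai.inv_eq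
  have hbb : a * x * (a * x) = 1 := by
    calc a * x * (a * x) = (a * x * a⁻¹) * x := by rw [hinv]; group
      _ = 1 := by rw [hax]; group
  obtain ⟨α, hα⟩ := h.invol a hai
  have hb1 : a * x ≠ 1 := by
    intro h1
    have : x = a := by
      have : x = a⁻¹ := by rw [eq_comm, inv_eq_iff_mul_eq_one]; exact h1
      rw [this, hinv]
    exact hx α (by rw [this]; exact h.T_fix hα)
  obtain ⟨β, hβ⟩ := h.invol (a * x) ⟨hbb, hb1⟩
  have hxab : a * (a * x) = x := by rw [← mul_assoc, hai.1, one_mul]
  have hαβ : α ≠ β := by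
    intro he
    apply hx α
    rw [← hxab, mul_smul]
    have : (a * x) • α = α := by rw [he]; exact h.T_fix hβ
    rw [this]
    exact h.T_fix hα
  have haX : a ∈ lineStab (G := G) (line T α β) :=
    T_le_lineStab h hL hαβ (left_mem_line α β) hα
  have hbX : a * x ∈ lineStab (G := G) (line T α β) :=
    T_le_lineStab h hL hαβ (right_mem_line α β) hβ
  have hxX : x ∈ lineStab (G := G) (line T α β) := by
    rw [← hxab]; exact Subgroup.mul_mem _ haX hbX
  set x' : lineStab (G := G) (line T α β) := ⟨x, hxX⟩ with hx'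
  set a' : lineStab (G := G) (line T α β) := ⟨a, haX⟩ with ha'
  have hfx' : Fpf (line T α β) x' := by
    intro γ hγ
    apply hx (γ : Ω)
    have := congrArg Subtype.val hγ
    rwa [lineAct_coe] at this
  have ha'inv : a' ∈ invSet x' := by
    refine ⟨⟨Subtype.ext hai.1, fun h0 => hai.2 (congrArg Subtype.val h0)⟩, ?_⟩
    apply Subtype.ext
    exact hax
  have h1 := hC5 α β hαβ x' hfx'
  have h2 := card_invSet_le_card_inf x' a' ha'inv
  have h3 := card_cent_inf_lineStab_le (T := T) h hαβ hx hodd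
  have h4 : Nat.card ↥(Subgroup.centralizer ({x} : Set G) ⊓ lineStab (G := G) (line T α β))
      = q + 1 := by
    have e : ((x' : lineStab (G := G) (line T α β)) : G) = x := rfl
    rw [e] at h2
    omega
  rw [← h4]
  exact Subgroup.card_dvd_of_le inf_le_left

end Cfsg.Agent.Lib.Helper6.ZK9
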