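import Mathlib
import Cfsg.Agent.Lib.Helper6.ZK_TICE3
import Cfsg.Agent.Lib.Helper2.TICE_G2b
import Cfsg.Agent.Lib.Helper2.TICE_G3
import Cfsg.Agent.Lib.Helper6.ZK_P1b
import Cfsg.Agent.Lib.Helper6.ZK_P2
import Cfsg.Agent.Lib.Helper6.ZK_P3
import Cfsg.Agent.Lib.Helper6.ZK_P6a
import Cfsg.Agent.Lib.Helper6.ZK_P6b
import Cfsg.Agent.Lib.Helper6.ZK_P6c
import Cfsg.Agent.Lib.Helper6.ZK_P6dA
import Cfsg.Agent.Lib.Helper9.TICE_A1
import Cfsg.Agent.Lib.Helper9.TICE_A2
import Cfsg.Agent.Lib.Helper9.TICE_C1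
import Cfsg.Agent.Lib.Helper9.TICE_C5
import Cfsg.Agent.Lib.Helper9.TICE_C6
import Cfsg.Agent.Lib.Helper9.TICE_C7
import Cfsg.Agent.Lib.Helper6.ZK_P6dB
import Cfsg.Agent.Lib.Helper6.ZK_P6dC
import Cfsg.Agent.Lib.Helper6.ZK_P7b
import Cfsg.Agent.Lib.Helper6.ZK_P7c
import Cfsg.Agent.Lib.Helper6.ZK_P5a
import Cfsg.Agent.Lib.Helper6.ZK_P5b

set_option autoImplicit false

/-!
# ZT-SUZUKI: the residual configuration of degree `q ^ 3 + 1` does not exist (`cn`-free port of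
helper5's `Resid.false`)
-/

namespace Cfsg.Agent.Lib.Helper6.ZK

open Cfsg.Agent.Lib.Helper5.TICE (IsInv Fpf invSet ZS ZSInv Lines line lineStab lineAct lineAct_coe mem_lineStab SRHyp G3Hyp Esub mem_line left_mem_line right_mem_line smul_mem_line line_eq_of_mem)

variable {G : Type*} [Group G] {Ω : Type*} [MulAction G Ω] {S T : Ω → Subgroup G} {q k : ℕ}

/-- centralisers of involutions are 2-groups -/
theorem ResidK.cit [Finite G] [Finite Ω] (h : ResidK S T q k) :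
    ∀ a : G, a * a = 1 → a ≠ 1 → ∀ c : G, c * a = a * c → ∃ j, c ^ (2 ^ j) = 1 := by
  intro a haa ha1 c hca
  obtain ⟨γ, haT⟩ := h.invol a ⟨haa, ha1⟩
  have hcS : c ∈ S γ := h.cent_invol γ a haT ha1 c hca
  obtain ⟨n, -, hqn⟩ := h.q_eq
  have hcard : Nat.card (S γ) = 2 ^ (n * k) := by
    rw [Cfsg.Agent.Lib.Helper6.ZK2.card_S h γ, hqn, ← pow_mul]
  have hp : IsPGroup 2 (S γ) := IsPGroup.of_card hcard
  obtain ⟨j, hj⟩ := hp ⟨c, hcS⟩
  exact ⟨j, by simpa using congrArg Subtype.val hj⟩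

/-- `SRHyp` holds without any `CN` hypothesis -/
theorem ResidK.srHyp [Finite G] [Finite Ω] (h : ResidK S T q k) : SRHyp G :=
  fun w g hw hg1 hodd hinv =>
    Cfsg.Agent.Lib.Helper2.TICE.centralizer_of_inverted' h.cit w g hw hg1 hodd hinv

open Cfsg.Agent.Lib.Helper2.TICE Cfsg.Agent.Lib.Helper9.TICE Cfsg.Agent.Lib.Helper6.ZK2
  Cfsg.Agent.Lib.Helper6.ZK7 Cfsg.Agent.Lib.Helper6.ZK9 in
/-- **the kill for `k = 3`** -/
theorem ResidK.false_three [Finite G] [Finite Ω] (h : ResidK S T q 3) : False := by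
  classical
  have hq4 := h.four_le
  have hSR : SRHyp G := h.srHyp
  have hG3 : G3Hyp G := fun E a ha haa h1 h2 h3 h4 => card_le_eight E a ha haa h1 h2 h3 h4
  have hZS : ZS G Ω (q ^ 3) (q - 1) := ⟨h.card_pts, h.two_trans, h.three_pt, h.card_D⟩
  have hZI : ZSInv G Ω (q - 1) := toZSInv h
  have hS := card_S h
  have hD := D_trans h
  have hq3 : 1 ≤ q ^ 3 := Nat.one_le_pow _ _ (by omega)
  have hcardG : Nat.card G = (q ^ 3 + 1) * q ^ 3 * (q - 1) := ZS.card_group hZS hq3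
  obtain ⟨n, hn, hqn⟩ := h.q_eq
  -- lines
  have hL : Lines S T := by
    rcases Nat.even_or_odd n with he | ho
    · refine lines_of_three_dvd h ?_ hD
      rw [hqn]; exact three_dvd_of_even he
    · refine lines_of_not_five_dvd h ?_
        (fun w g hw hg1 hodd hinv => (hSR w g hw hg1 hodd hinv).2.1)
      rw [hcardG, hqn]; exact not_five_dvd ho
  -- the count in the line stabilizers
  have hC5 : ∀ α β : Ω, α ≠ β → ∀ y : lineStab (G := G) (line T α β), Fpf (line T α β) y →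
      Nat.card {a : lineStab (G := G) (line T α β) // a ∈ invSet y} = q + 1 := by
    intro α β hαβ
    exact ZS.card_invSet_eq (by omega) (lineStab_ZS h hL hαβ) (lineStab_ZSInv h hL hαβ)
      (fun y hy => lineStab_invSet_le h hL hSR hαβ y hy)
  -- the bound for `G`
  apply ZS.false_of_invSet_le hq4 hZS hZI
  intro x hx
  by_cases hne : Nonempty {a : G // a ∈ invSet x}
  · obtain ⟨⟨a, ha⟩⟩ := hne
    obtain ⟨hodd, hx1⟩ := odd_of_fpf_inverted h hx ha
    have hxM : x ∈ Subgroup.centralizer ({x} : Set G) :=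
      Subgroup.mem_centralizer_singleton_iff.2 rfl
    have hcard := card_invSet_eq h hSR hx ha hxM hx1
    have hdvd := dvd_card_centralizer h hL hSR hC5 hx ha
    have hoddM : Odd (Nat.card (Subgroup.centralizer ({x} : Set G))) :=
      (hSR a x ha.1.1 hx1 hodd ha.2).2.2.1
    obtain ⟨hE, hEdvd⟩ := card_Esub h hSR hG3 hS hx ha
    have hN := card_normalizer h hSR hx ha
    have hbound := ZS.bound_of_TI hq4 hZS hZI (Subgroup.centralizer ({x} : Set G)) _
      (Nat.card (Esub x a)) hN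
      (fun c hc hc1 => fpf_of_mem_centralizer h hx hodd hc hc1)
      (fun c hc hc1 => (card_invSet_eq h hSR hx ha hc hc1).ge)
      (fun g c hc hc1 hg => mem_normalizer_of_conj_mem h hSR hx ha g hc hc1 hg)
    have hM := card_eq_of_bounds hn hqn Nat.card_pos hdvd hoddM hE hEdvd hbound
    rw [hcard, hM]
  · rw [not_nonempty_iff] at hne
    rw [Nat.card_of_isEmpty]; omega

end Cfsg.Agent.Lib.Helper6.ZK
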