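import Mathlib
import Cfsg.Prelude.Def_Solvable
import Cfsg.Prelude.Def_OddOrderLocal
import Cfsg.Prelude.Def_Involutions
import Cfsg.Agent.Lib.Helper1.Fitting

/-!
# S4064 Part C, file 1: abstract components

`IsComp M`: `M` is a nontrivial nilpotent subgroup containing the centraliser of each of its
non-identity elements.  `HasComps G`: every non-identity element lies in such an `M`
(this is the output of Part B).  Elementary consequences.
-/

set_option autoImplicit false
set_option linter.style.haveILetI false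
set_option linter.unusedSectionVars false

open scoped Pointwise

namespace Cfsg.Agent.Lib.Helper6.TIC

variable {G : Type*} [Group G]

/-- an (abstract) component -/
def IsComp (M : Subgroup G) : Prop :=
  M ≠ ⊥ ∧ Group.IsNilpotent M ∧
    ∀ y ∈ M, y ≠ 1 → Subgroup.centralizer ({y} : Set G) ≤ M

/-- every non-identity element lies in a component (output of Part B) -/
def HasComps (G : Type*) [Group G] : Prop :=
  ∀ g : G, g ≠ 1 → ∃ M : Subgroup G, IsComp M ∧ g ∈ M

/-- the conjugate `g M g⁻¹` -/
def cj (g : G) (M : Subgroup G) : Subgroup G := M.map (MulAut.conj g).toMonoidHom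

theorem mem_cj {g x : G} {M : Subgroup G} : x ∈ cj g M ↔ g⁻¹ * x * g ∈ M := by
  unfold cj
  constructor
  · rintro ⟨y, hy, rfl⟩
    have : g⁻¹ * ((MulAut.conj g).toMonoidHom y) * g = y := by
      change g⁻¹ * (g * y * g⁻¹) * g = y
      group
    rw [this]; exact hy
  · intro h
    refine ⟨g⁻¹ * x * g, h, ?_⟩
    change g * (g⁻¹ * x * g) * g⁻¹ = x
    group

theorem conj_mem_cj {g y : G} {M : Subgroup G} (hy : y ∈ M) : g * y * g⁻¹ ∈ cj g M := by
  rw [mem_cj]
  have : g⁻¹ * (g * y * g⁻¹) * g = y := by group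
  rw [this]; exact hy

theorem cj_eq_smul (g : G) (M : Subgroup G) : cj g M = MulAut.conj g • M := by
  ext x
  rw [mem_cj, Subgroup.mem_pointwise_smul_iff_inv_smul_mem]
  rw [MulAut.smul_def, ← MulAut.conj_inv_apply]

/-- `cj g M ≃* M` -/
noncomputable def cjEquiv (g : G) (M : Subgroup G) : M ≃* cj g M :=
  M.equivMapOfInjective (MulAut.conj g).toMonoidHom (MulAut.conj g).injective

theorem card_cj [Finite G] (g : G) (M : Subgroup G) : Nat.card (cj g M) = Nat.card M :=
  (Nat.card_congr (cjEquiv g M).toEquiv).symm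

theorem cj_eq_self_iff {g : G} {M : Subgroup G} [Finite G] :
    cj g M = M ↔ g ∈ Subgroup.normalizer (M : Set G) := by
  constructor
  · intro h
    rw [Subgroup.mem_normalizer_iff]
    intro x
    constructor
    · intro hx
      rw [← h]
      exact conj_mem_cj hx
    · intro hx
      have : g * x * g⁻¹ ∈ cj g M := h.symm ▸ hx
      rw [mem_cj] at this
      have h2 : g⁻¹ * (g * x * g⁻¹) * g = x := by group
      rwa [h2] at this
  · intro h
    rw [Subgroup.mem_normalizer_iff] at h
    ext x
    rw [mem_cj]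
    rw [h (g⁻¹ * x * g)]
    have : g * (g⁻¹ * x * g) * g⁻¹ = x := by group
    rw [this]

namespace IsComp

variable {M M' : Subgroup G}

theorem ne_bot (h : IsComp M) : M ≠ ⊥ := h.1
theorem nil (h : IsComp M) : Group.IsNilpotent M := h.2.1
theorem cent (h : IsComp M) {y : G} (hy : y ∈ M) (hy1 : y ≠ 1) :
    Subgroup.centralizer ({y} : Set G) ≤ M := h.2.2 y hy hy1

/-- a nontrivial central element of `M` -/
theorem exists_central (h : IsComp M) :
    ∃ u ∈ M, u ≠ 1 ∧ ∀ m ∈ M, m * u = u * m := by
  haveI := h.nil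
  haveI : Nontrivial M := by
    rw [Subgroup.nontrivial_iff_ne_bot]; exact h.ne_bot
  have hc := Group.IsNilpotent.center_ne_bot (G := M)
  rw [Ne, Subgroup.eq_bot_iff_forall] at hc
  simp only [not_forall] at hc
  obtain ⟨u, hu, hu1⟩ := hc
  refine ⟨(u : G), u.2, fun e => hu1 (Subtype.ext e), fun m hm => ?_⟩
  have := (Subgroup.mem_center_iff.mp hu) ⟨m, hm⟩
  exact congrArg Subtype.val this

/-- `M = C_G(u)` for a nontrivial central element `u` of `M` -/
theorem eq_centralizer (h : IsComp M) {u : G} (hu : u ∈ M) (hu1 : u ≠ 1)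
    (hc : ∀ m ∈ M, m * u = u * m) : M = Subgroup.centralizer ({u} : Set G) := by
  apply le_antisymm
  · intro m hm
    rw [Subgroup.mem_centralizer_singleton_iff]
    exact hc m hm
  · exact h.cent hu hu1

theorem le_of_mem (h : IsComp M) (h' : IsComp M') {y : G} (hy : y ∈ M) (hy' : y ∈ M')
    (hy1 : y ≠ 1) : M ≤ M' := by
  obtain ⟨u, hu, hu1, hc⟩ := h.exists_central
  have huM' : u ∈ M' := by
    apply h'.cent hy' hy1
    rw [Subgroup.mem_centralizer_singleton_iff]
    exact (hc y hy).symm
  intro m hm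
  apply h'.cent huM' hu1
  rw [Subgroup.mem_centralizer_singleton_iff]
  exact hc m hm

/-- two components sharing a non-identity element are equal -/
theorem eq_of_mem (h : IsComp M) (h' : IsComp M') {y : G} (hy : y ∈ M) (hy' : y ∈ M')
    (hy1 : y ≠ 1) : M = M' :=
  le_antisymm (h.le_of_mem h' hy hy' hy1) (h'.le_of_mem h hy' hy hy1)

/-- conjugates of components are components -/
theorem conj (h : IsComp M) (g : G) : IsComp (cj g M) := by
  refine ⟨?_, ?_, ?_⟩
  · intro e
    apply h.ne_bot
    rw [Subgroup.eq_bot_iff_forall] at e ⊢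
    intro x hx
    have := e _ (conj_mem_cj (g := g) hx)
    calc x = g⁻¹ * (g * x * g⁻¹) * g := by group
      _ = 1 := by rw [this]; group
  · haveI := h.nil
    exact Group.nilpotent_of_mulEquiv (cjEquiv g M)
  · intro y hy hy1 c hc
    rw [mem_cj] at hy ⊢
    have hy1' : g⁻¹ * y * g ≠ 1 := by
      intro e
      apply hy1
      calc y = g * (g⁻¹ * y * g) * g⁻¹ := by group
        _ = 1 := by rw [e]; group
    apply h.cent hy hy1'
    rw [Subgroup.mem_centralizer_singleton_iff] at hc ⊢
    calc g⁻¹ * c * g * (g⁻¹ * y * g) = g⁻¹ * (c * y) * g := by group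
      _ = g⁻¹ * (y * c) * g := by rw [hc]
      _ = g⁻¹ * y * g * (g⁻¹ * c * g) := by group

/-- the TI property -/
theorem mem_normalizer [Finite G] (h : IsComp M) {y g : G} (hy : y ∈ M) (hy1 : y ≠ 1)
    (hgy : g * y * g⁻¹ ∈ M) : g ∈ Subgroup.normalizer (M : Set G) := by
  rw [← cj_eq_self_iff]
  have hne : g * y * g⁻¹ ≠ 1 := by
    intro e
    apply hy1
    calc y = g⁻¹ * (g * y * g⁻¹) * g := by group
      _ = 1 := by rw [e]; group
  exact (h.conj g).eq_of_mem h (conj_mem_cj hy) hgy hne

theorem isTISubset [Finite G] (h : IsComp M) : Cfsg.IsTISubset (M : Set G) := by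
  intro g hg x hx hgx
  by_contra hx1
  exact hg (h.mem_normalizer hx hx1 hgx)

/-- elements of `N(M) ∖ M` act fixed-point-freely on `M` -/
theorem fpf (h : IsComp M) {n m : G} (hn : n ∉ M) (hm : m ∈ M) (hnm : n * m = m * n) :
    m = 1 := by
  by_contra hm1
  apply hn
  apply h.cent hm hm1
  rw [Subgroup.mem_centralizer_singleton_iff]
  exact hnm

end IsComp

end Cfsg.Agent.Lib.Helper6.TIC
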