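import Mathlib
import Cfsg.Prelude.Def_LieRecognition
import Cfsg.Agent.Lib.Lead.Sz2D2
import Cfsg.Agent.Lib.Helper1.Hg8
import Cfsg.Agent.Lib.Helper1.BswE4

/-! S4064, piece E0 (Higman glue): a non-abelian 2-subgroup `S` with a cyclic `D ≤ N_G(S)` acting
regularly on the involutions of `S` is a Suzuki 2-group; consequences, and `|S| = |Z(S)|^3` when
`D` is fixed-point-free on `S` and normalises the centralisers `C_S(y)`. -/

set_option autoImplicit false
set_option maxHeartbeats 1000000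
set_option linter.unusedVariables false
set_option linter.unusedSectionVars false
set_option linter.style.longLine false

open Cfsg

namespace Cfsg.Agent.Lib.Helper6.TIC

variable {G : Type*} [Group G]

/-- the centre of `S`, as a subgroup of `G` -/
def centerOf (S : Subgroup G) : Subgroup G := (Subgroup.center ↥S).map S.subtype

theorem mem_centerOf {S : Subgroup G} {z : G} :
    z ∈ centerOf S ↔ z ∈ S ∧ ∀ s ∈ S, s * z = z * s := by
  unfold centerOf
  rw [Subgroup.mem_map]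
  constructor
  · rintro ⟨w, hw, rfl⟩
    refine ⟨w.2, fun s hs => ?_⟩
    have := Subgroup.mem_center_iff.mp hw ⟨s, hs⟩
    exact congrArg Subtype.val this
  · rintro ⟨hz, h⟩
    refine ⟨⟨z, hz⟩, ?_, rfl⟩
    rw [Subgroup.mem_center_iff]
    intro s
    exact Subtype.ext (h s.1 s.2)

theorem centerOf_le (S : Subgroup G) : centerOf S ≤ S := fun z hz => (mem_centerOf.mp hz).1

theorem card_centerOf (S : Subgroup G) : Nat.card (centerOf S) = Nat.card (Subgroup.center ↥S) := by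
  unfold centerOf
  exact Subgroup.card_map_of_injective (Subgroup.subtype_injective S)

/-- hypotheses of the Higman glue -/
structure RegHyp (S D : Subgroup G) : Prop where
  norm : ∀ d ∈ D, ∀ s ∈ S, d * s * d⁻¹ ∈ S
  cyc : IsCyclic D
  two : IsPGroup 2 S
  na : ∃ x ∈ S, ∃ y ∈ S, x * y ≠ y * x
  inv2 : ∃ x ∈ S, ∃ y ∈ S, x ≠ y ∧ x ≠ 1 ∧ x * x = 1 ∧ y ≠ 1 ∧ y * y = 1
  reg : ∀ x ∈ S, ∀ y ∈ S, x ≠ 1 → x * x = 1 → y ≠ 1 → y * y = 1 →
    ∃! d : D, (d : G) * x * (d : G)⁻¹ = y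

namespace RegHyp

variable {S D : Subgroup G}

/-- conjugation by an element of `D`, as an automorphism of `S` -/
def conjAut (h : RegHyp S D) (d : D) : MulAut ↥S where
  toFun s := ⟨(d : G) * s * (d : G)⁻¹, h.norm d d.2 s s.2⟩
  invFun s := ⟨(d : G)⁻¹ * s * (d : G), by
    have := h.norm (d : G)⁻¹ (D.inv_mem d.2) s s.2
    simpa using this⟩
  left_inv s := by apply Subtype.ext; simp [mul_assoc]
  right_inv s := by apply Subtype.ext; simp [mul_assoc]
  map_mul' s t := by apply Subtype.ext; simp [mul_assoc]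

/-- the conjugation homomorphism `D → Aut S` -/
def conjHom (h : RegHyp S D) : ↥D →* MulAut ↥S where
  toFun d := h.conjAut d
  map_one' := by
    apply MulEquiv.ext; intro s; apply Subtype.ext
    show ((1 : D) : G) * s * ((1 : D) : G)⁻¹ = s
    simp
  map_mul' d e := by
    apply MulEquiv.ext; intro s; apply Subtype.ext
    show ((d * e : D) : G) * s * ((d * e : D) : G)⁻¹ = (d : G) * ((e : G) * s * (e : G)⁻¹) * (d : G)⁻¹
    simp [mul_assoc]

theorem conjHom_apply (h : RegHyp S D) (d : D) (s : S) :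
    ((h.conjHom d) s : G) = (d : G) * s * (d : G)⁻¹ := rfl

/-- **E0a**: `S` is a Suzuki 2-group. -/
theorem isSuzuki [Finite G] (h : RegHyp S D) : Cfsg.IsSuzukiTwoGroup ↥S := by
  refine ⟨inferInstance, h.two, ?_, ?_, ?_⟩
  · obtain ⟨x, hx, y, hy, hxy⟩ := h.na
    exact ⟨⟨x, hx⟩, ⟨y, hy⟩, fun e => hxy (congrArg Subtype.val e)⟩
  · obtain ⟨x, hx, y, hy, hne, hx1, hx2, hy1, hy2⟩ := h.inv2
    refine ⟨⟨x, hx⟩, ⟨y, hy⟩, fun e => hne (congrArg Subtype.val e),
      fun e => hx1 (congrArg Subtype.val e), Subtype.ext hx2,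
      fun e => hy1 (congrArg Subtype.val e), Subtype.ext hy2⟩
  · refine ⟨h.conjHom.range, ?_, ?_⟩
    · haveI := h.cyc
      exact isCyclic_of_surjective h.conjHom.rangeRestrict h.conjHom.rangeRestrict_surjective
    · intro x y hx1 hx2 hy1 hy2
      have hx1' : (x : G) ≠ 1 := fun e => hx1 (Subtype.ext e)
      have hy1' : (y : G) ≠ 1 := fun e => hy1 (Subtype.ext e)
      have hx2' : (x : G) * x = 1 := congrArg Subtype.val hx2
      have hy2' : (y : G) * y = 1 := congrArg Subtype.val hy2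
      obtain ⟨d, hd, hduniq⟩ := h.reg x x.2 y y.2 hx1' hx2' hy1' hy2'
      refine ⟨⟨h.conjHom d, MonoidHom.mem_range.mpr ⟨d, rfl⟩⟩, ?_, ?_⟩
      · apply Subtype.ext
        exact hd
      · rintro ⟨k, hk⟩ hky
        obtain ⟨d', rfl⟩ := MonoidHom.mem_range.mp hk
        have : d' = d := hduniq d' (congrArg Subtype.val hky)
        subst this
        rfl

/-- involutions of `S` are exactly the non-identity elements of its centre -/
theorem inv_iff [Finite G] (h : RegHyp S D) {x : G} (hx : x ∈ S) :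
    (x ≠ 1 ∧ x * x = 1) ↔ (x ∈ centerOf S ∧ x ≠ 1) := by
  have h1 := (Cfsg.Agent.Lib.Lead.Sz2D.involutions_central h.isSuzuki).1 ⟨x, hx⟩
  constructor
  · rintro ⟨hx1, hx2⟩
    have := h1.mp ⟨fun e => hx1 (congrArg Subtype.val e), Subtype.ext hx2⟩
    refine ⟨?_, hx1⟩
    unfold centerOf
    exact Subgroup.mem_map.mpr ⟨⟨x, hx⟩, this.1, rfl⟩
  · rintro ⟨hxc, hx1⟩
    have hc : (⟨x, hx⟩ : S) ∈ Subgroup.center ↥S := by
      rw [Subgroup.mem_center_iff]
      intro s
      exact Subtype.ext ((mem_centerOf.mp hxc).2 s.1 s.2)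
    have := h1.mpr ⟨hc, fun e => hx1 (congrArg Subtype.val e)⟩
    exact ⟨hx1, congrArg Subtype.val this.2⟩

theorem center_sq [Finite G] (h : RegHyp S D) {z : G} (hz : z ∈ centerOf S) : z * z = 1 := by
  have hzS := centerOf_le S hz
  have hc : (⟨z, hzS⟩ : S) ∈ Subgroup.center ↥S := by
    rw [Subgroup.mem_center_iff]
    intro s
    exact Subtype.ext ((mem_centerOf.mp hz).2 s.1 s.2)
  exact congrArg Subtype.val ((Cfsg.Agent.Lib.Lead.Sz2D.involutions_central h.isSuzuki).2 _ hc)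

theorem sq_mem [Finite G] (h : RegHyp S D) {x : G} (hx : x ∈ S) : x * x ∈ centerOf S := by
  have := (Cfsg.Agent.Lib.Helper1.Hg.suzuki_central_quotient h.isSuzuki).1 ⟨x, hx⟩
  unfold centerOf
  exact Subgroup.mem_map.mpr ⟨_, this, rfl⟩

theorem comm_mem [Finite G] (h : RegHyp S D) {x y : G} (hx : x ∈ S) (hy : y ∈ S) :
    x⁻¹ * y⁻¹ * x * y ∈ centerOf S := by
  have := (Cfsg.Agent.Lib.Helper1.Hg.suzuki_central_quotient h.isSuzuki).2.1 ⟨x, hx⟩ ⟨y, hy⟩
  unfold centerOf
  exact Subgroup.mem_map.mpr ⟨_, this, rfl⟩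

theorem pow_four [Finite G] (h : RegHyp S D) {x : G} (hx : x ∈ S) : x ^ 4 = 1 := by
  have h4 := (Cfsg.Agent.Lib.Helper1.Hg.suzuki_central_quotient h.isSuzuki).2.2.2
  have := Monoid.pow_exponent_eq_one (⟨x, hx⟩ : S)
  rw [h4] at this
  exact congrArg Subtype.val this

theorem card_sq_or_cube [Finite G] (h : RegHyp S D) :
    Nat.card S = Nat.card (centerOf S) ^ 2 ∨ Nat.card S = Nat.card (centerOf S) ^ 3 := by
  rw [card_centerOf]
  exact (Cfsg.Agent.Lib.Helper1.Hg.suzuki_central_quotient h.isSuzuki).2.2.1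

/-- `|Z(S)| = |D| + 1` -/
theorem card_center [Finite G] (h : RegHyp S D) : Nat.card (centerOf S) = Nat.card D + 1 := by
  classical
  obtain ⟨x0, hx0S, -, -, -, hx01, hx02, -, -⟩ := h.inv2
  -- the set of involutions
  have hset : ((centerOf S : Subgroup G) : Set G) = insert (1 : G) {x | x ∈ centerOf S ∧ x ≠ 1} := by
    ext x
    simp only [SetLike.mem_coe, Set.mem_insert_iff, Set.mem_setOf_eq]
    constructor
    · intro hx
      by_cases hx1 : x = 1
      · exact Or.inl hx1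
      · exact Or.inr ⟨hx, hx1⟩
    · rintro (rfl | ⟨hx, -⟩)
      · exact (centerOf S).one_mem
      · exact hx
  have hfin : ({x | x ∈ centerOf S ∧ x ≠ 1} : Set G).Finite := Set.toFinite _
  have h1 : Nat.card (centerOf S) = ({x | x ∈ centerOf S ∧ x ≠ 1} : Set G).ncard + 1 := by
    rw [show Nat.card (centerOf S) = ((centerOf S : Subgroup G) : Set G).ncard from
      (Nat.card_coe_set_eq _), hset, Set.ncard_insert_of_notMem (by simp) hfin]
  rw [h1]
  congr 1
  -- bijection D → involutions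
  have hconj : ∀ d : D, (d : G) * x0 * (d : G)⁻¹ ∈ centerOf S ∧ (d : G) * x0 * (d : G)⁻¹ ≠ 1 := by
    intro d
    have hm := h.norm d d.2 x0 hx0S
    refine (h.inv_iff hm).mp ⟨?_, ?_⟩
    · intro e
      apply hx01
      calc x0 = (d : G)⁻¹ * ((d : G) * x0 * (d : G)⁻¹) * (d : G) := by group
        _ = 1 := by rw [e]; group
    · calc (d : G) * x0 * (d : G)⁻¹ * ((d : G) * x0 * (d : G)⁻¹)
          = (d : G) * (x0 * x0) * (d : G)⁻¹ := by group
        _ = 1 := by rw [hx02]; group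
  rw [← Nat.card_coe_set_eq]
  symm
  refine Nat.card_congr (Equiv.ofBijective
    (fun d : D => (⟨(d : G) * x0 * (d : G)⁻¹, hconj d⟩ : ({x | x ∈ centerOf S ∧ x ≠ 1} : Set G))) ⟨?_, ?_⟩)
  · intro d e hde
    have hde' : (d : G) * x0 * (d : G)⁻¹ = (e : G) * x0 * (e : G)⁻¹ := congrArg Subtype.val hde
    have hyS := h.norm e e.2 x0 hx0S
    have hy := (h.inv_iff hyS).mpr (hconj e)
    obtain ⟨d0, -, huniq⟩ := h.reg x0 hx0S _ hyS hx01 hx02 hy.1 hy.2
    rw [huniq d hde', huniq e rfl]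
  · rintro ⟨y, hy⟩
    have hyS := centerOf_le S hy.1
    have hy' := (h.inv_iff hyS).mpr hy
    obtain ⟨d0, hd0, -⟩ := h.reg x0 hx0S y hyS hx01 hx02 hy'.1 hy'.2
    exact ⟨d0, Subtype.ext hd0⟩

/-- **E0b**: if `D` acts fixed-point-freely on `S` and normalises all centralisers `C_S(y)`,
then `|S| = |Z(S)|^3`. -/
theorem card_eq_cube [Finite G] (h : RegHyp S D)
    (hfpf : ∀ d ∈ D, d ≠ 1 → ∀ s ∈ S, d * s * d⁻¹ = s → s = 1)
    (hcent : ∀ d ∈ D, ∀ y ∈ S, ∀ c ∈ S, c * y = y * c → (d * c * d⁻¹) * y = y * (d * c * d⁻¹)) :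
    Nat.card S = Nat.card (centerOf S) ^ 3 := by
  rcases h.card_sq_or_cube with hsq | hcube
  swap
  · exact hcube
  exfalso
  obtain ⟨x, hxS, y, hyS, hxy⟩ := h.na
  -- y is not central
  have hyc : y ∉ centerOf S := fun hy => hxy ((mem_centerOf.mp hy).2 x hxS)
  set e := Nat.card D with he
  have hq : Nat.card (centerOf S) = e + 1 := h.card_center
  -- the centraliser
  set C : Subgroup G := S ⊓ Subgroup.centralizer ({y} : Set G) with hC
  have hCS : C ≤ S := inf_le_left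
  have hmemC : ∀ c : G, c ∈ C ↔ c ∈ S ∧ c * y = y * c := by
    intro c
    rw [hC, Subgroup.mem_inf, Subgroup.mem_centralizer_iff]
    constructor
    · rintro ⟨h1, h2⟩
      exact ⟨h1, (h2 y rfl).symm⟩
    · rintro ⟨h1, h2⟩
      refine ⟨h1, fun z hz => ?_⟩
      rw [Set.mem_singleton_iff] at hz
      subst hz
      exact h2.symm
  have hTC : centerOf S ≤ C := by
    intro z hz
    rw [hmemC]
    exact ⟨centerOf_le S hz, ((mem_centerOf.mp hz).2 y hyS).symm⟩
  have hyC : y ∈ C := (hmemC y).mpr ⟨hyS, rfl⟩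
  -- D acts semiregularly on C
  have hdvd : e ∣ Nat.card C - 1 := by
    refine Cfsg.Agent.Lib.Helper1.BswE.card_dvd_of_semiregular C D ?_ ?_
    · intro m hm c hc
      rw [hmemC] at hc ⊢
      exact ⟨h.norm m hm c hc.1, hcent m hm y hyS c hc.1 hc.2⟩
    · intro m hm c hc hc1 hmc
      by_contra hm1
      apply hc1
      apply hfpf m hm hm1 c (hCS hc)
      rw [hmc]; group
  -- Lagrange
  have hd1 : Nat.card (centerOf S) ∣ Nat.card C := Subgroup.card_dvd_of_le hTC
  have hd2 : Nat.card C ∣ Nat.card S := Subgroup.card_dvd_of_le hCS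
  obtain ⟨k, hk⟩ := hd1
  rw [hq] at hk
  rw [hsq, hq, hk, pow_two] at hd2
  have hkq : k ∣ e + 1 := (Nat.mul_dvd_mul_iff_left (Nat.succ_pos e)).mp hd2
  have hkpos : 0 < k := Nat.pos_of_dvd_of_pos hkq (Nat.succ_pos e)
  -- k ≥ 2
  have hk2 : 2 ≤ k := by
    by_contra hlt
    have hk1 : k = 1 := by omega
    have : C = centerOf S := by
      symm
      apply Subgroup.eq_of_le_of_card_ge hTC
      rw [hk, hk1, hq]; simp
    exact hyc (this ▸ hyC)
  have hepos : 0 < e := Nat.card_pos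
  rw [hk] at hdvd
  have hexp : (e + 1) * k - 1 = e * k + (k - 1) := by
    have : (e + 1) * k = e * k + k := by ring
    omega
  rw [hexp] at hdvd
  have hdvd' : e ∣ k - 1 := (Nat.dvd_add_right (dvd_mul_right e k)).mp hdvd
  have hle : e ≤ k - 1 := Nat.le_of_dvd (by omega) hdvd'
  have hle2 : k ≤ e + 1 := Nat.le_of_dvd (Nat.succ_pos e) hkq
  have hkeq : k = e + 1 := by omega
  have hCeq : C = S := by
    apply Subgroup.eq_of_le_of_card_ge hCS
    rw [hsq, hq, hk, hkeq, pow_two]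
  apply hyc
  rw [mem_centerOf]
  refine ⟨hyS, fun s hs => ?_⟩
  have : s ∈ C := hCeq ▸ hs
  exact ((hmemC s).mp this).2

end RegHyp

end Cfsg.Agent.Lib.Helper6.TIC
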