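import Mathlib
import Cfsg.Agent.Lib.Helper6.ZassCoh
import Cfsg.Agent.Lib.Helper6.ZassInv

set_option autoImplicit false

/-!
Zassenhaus groups: consequences for simple (or perfect) groups with `e` odd and `2 e < h - 1`.
-/

namespace Cfsg.Agent.Lib.Helper6.Zs

open Cfsg MulAction
open scoped commutatorElement

section
variable {G Ω : Type*} [Group G] [Fintype G] [MulAction G Ω] [Fintype Ω]

theorem ZD.perfect_of_simple (h : ZD G Ω) [IsSimpleGroup G] : commutator G = ⊤ := by
  rcases (Subgroup.Normal.eq_bot_or_eq_top (inferInstance : (commutator G).Normal))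
    with hbot | htop
  · exfalso
    have hcomm : ∀ x y : G, x * y = y * x := by
      intro x y
      have hxy : ⁅x, y⁆ ∈ commutator G :=
        Subgroup.commutator_mem_commutator (Subgroup.mem_top x) (Subgroup.mem_top y)
      rw [hbot, Subgroup.mem_bot, commutatorElement_eq_one_iff_mul_comm] at hxy
      exact hxy
    obtain ⟨g, hg1, a, b, hab, hga, hgb⟩ := h.fix2
    apply hg1
    apply h.faith
    intro c
    obtain ⟨x, hx⟩ := h.trans a c
    rw [← hx, ← mul_smul, hcomm, mul_smul, hga]
  · exact htop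

/-- in a perfect Zassenhaus group with `e` odd and `2 e < h - 1`: the kernel is a `2`-group, the
degree is odd and there are involutions -/
theorem perfect_package (h : ZD G Ω) {a b : Ω} (hab : a ≠ b) {H : Subgroup G} (hK : KD a H)
    (hperf : commutator G = ⊤)
    (hodd : Odd (Nat.card ↥(stabilizer G a ⊓ stabilizer G b : Subgroup G)))
    (hlt : 2 * Nat.card ↥(stabilizer G a ⊓ stabilizer G b : Subgroup G) + 1 < Nat.card H) :
    IsPGroup 2 H ∧ Odd (Fintype.card Ω) ∧ ∃ x : G, orderOf x = 2 := by
  obtain ⟨hp2, -, -⟩ := kernel_two_group h hab hK hperf hodd hlt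
  have hn := h.card_gt
  have hcardH := hK.card
  obtain ⟨m, hm⟩ := hp2.exists_card_eq
  have hm0 : m ≠ 0 := by
    rintro rfl
    rw [pow_zero] at hm
    omega
  have hHeven : Even (Nat.card H) := by
    rw [hm]
    exact (Nat.even_pow.2 ⟨even_two, hm0⟩)
  have hnodd : Odd (Fintype.card Ω) := by
    rw [← hcardH]
    exact hHeven.add_one
  refine ⟨hp2, hnodd, ?_⟩
  haveI : Fact (Nat.Prime 2) := ⟨Nat.prime_two⟩
  apply exists_prime_orderOf_dvd_card 2
  rw [← Nat.card_eq_fintype_card, ← h.card_stab_mul a]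
  apply Dvd.dvd.mul_right
  exact (hHeven.two_dvd).trans (Subgroup.card_dvd_of_le hK.le)

end

end Cfsg.Agent.Lib.Helper6.Zs
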