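import Mathlib
import Cfsg.Prelude.Def_LieExceptional
import Cfsg.Agent.S0345
import Cfsg.Agent.S0738
import Cfsg.Agent.S0740
import Cfsg.Agent.S0882
import Cfsg.Agent.Lib.Lead.Sharp2
import Cfsg.Agent.Lib.Lead.Invol
import Cfsg.Agent.Lib.Helper6.TICE0

/-!
# ZT-SUZUKI step (4), file 1: a simple Zassenhaus group whose point stabiliser has a regular
normal nonabelian 2-subgroup `U`: basic data.
-/

set_option autoImplicit false
set_option linter.style.haveILetI false
set_option linter.unusedSectionVars false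
set_option linter.unusedVariables false

namespace Cfsg.Agent.Lib.Helper6.ZTS

open Cfsg.Agent.Lib.Lead

variable {G Ω : Type*} [Group G] [MulAction G Ω]

/-- hypotheses of S0347 / S1147 -/
structure UHyp (x : Ω) (U : Subgroup G) : Prop where
  hZ : Cfsg.IsZassenhausGroup G Ω
  simple : IsSimpleGroup G
  le : U ≤ MulAction.stabilizer G x
  norm : ∀ h ∈ MulAction.stabilizer G x, ∀ u ∈ U, h * u * h⁻¹ ∈ U
  two : IsPGroup 2 U
  na : ∃ u ∈ U, ∃ v ∈ U, u * v ≠ v * u
  reg : ∀ c d : Ω, c ≠ x → d ≠ x → ∃! u : U, (u : G) • c = d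

namespace UHyp

variable {x : Ω} {U : Subgroup G} (h : UHyp x U)
include h

theorem two_trans {p q p' q' : Ω} (hpq : p ≠ q) (hpq' : p' ≠ q') :
    ∃ k : G, k • p = p' ∧ k • q = q' :=
  Cfsg.Agent.Lib.Lead.Sharp2.exists_map2 h.hZ.2.1 hpq hpq'

theorem three_pt {g : G} {a b c : Ω} (hab : a ≠ b) (hbc : b ≠ c) (hac : a ≠ c)
    (ha : g • a = a) (hb : g • b = b) (hc : g • c = c) : g = 1 :=
  h.hZ.2.2.1 g a b c hab hbc hac ha hb hc

theorem exists_ne : ∃ y : Ω, y ≠ x := by
  obtain ⟨g, -, a, b, hab, -, -⟩ := h.hZ.2.2.2.1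
  by_cases ha : a = x
  · exact ⟨b, fun hb => hab (ha.trans hb.symm)⟩
  · exact ⟨a, ha⟩

theorem U_fix {u : G} (hu : u ∈ U) {c : Ω} : u • x = x := h.le hu

theorem U_fix_only {u : G} (hu : u ∈ U) (hu1 : u ≠ 1) {c : Ω} (hc : u • c = c) : c = x := by
  by_contra hcx
  obtain ⟨w, -, hw⟩ := h.reg c c hcx hcx
  have h1 := hw ⟨u, hu⟩ hc
  have h2 := hw 1 (by simp)
  apply hu1
  have := h1.trans h2.symm
  exact congrArg Subtype.val this

theorem smul_ne {u : G} (hu : u ∈ U) {c : Ω} (hc : c ≠ x) : u • c ≠ x := by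
  intro e
  apply hc
  have h1 : u⁻¹ • x = x := h.le (Subgroup.inv_mem _ hu)
  calc c = u⁻¹ • (u • c) := by rw [inv_smul_smul]
    _ = x := by rw [e, h1]

theorem pretransitive : MulAction.IsPretransitive G Ω := by
  obtain ⟨y, hy⟩ := h.exists_ne
  exact Cfsg.Agent.Lib.Lead.Sharp2.pretransitive h.hZ.2.1 ⟨y, x, hy⟩

/-- `U ≃ Ω ∖ {x}` -/
theorem card_pts [Finite Ω] : Nat.card Ω = Nat.card U + 1 := by
  classical
  obtain ⟨y, hy⟩ := h.exists_ne
  have hbij : Function.Bijective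
      (fun u : U => (⟨(u : G) • y, h.smul_ne u.2 hy⟩ : {c : Ω // c ≠ x})) := by
    constructor
    · intro u u' huu
      have e : (u : G) • y = (u' : G) • y := congrArg Subtype.val huu
      obtain ⟨w, -, hw⟩ := h.reg y ((u' : G) • y) hy (h.smul_ne u'.2 hy)
      exact (hw u e).trans (hw u' rfl).symm
    · rintro ⟨c, hc⟩
      obtain ⟨w, hw, -⟩ := h.reg y c hy hc
      exact ⟨w, Subtype.ext hw⟩
  have h1 : Nat.card U = Nat.card {c : Ω // c ≠ x} := Nat.card_congr (Equiv.ofBijective _ hbij)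
  haveI : Fintype Ω := Fintype.ofFinite Ω
  have h2 : Nat.card {c : Ω // c ≠ x} = Fintype.card Ω - 1 := by
    rw [Nat.card_eq_fintype_card, Fintype.card_subtype_compl]
    simp only [Fintype.card_subtype_eq]
  have h3 : 0 < Fintype.card Ω := Fintype.card_pos_iff.mpr ⟨x⟩
  rw [h1, h2, Nat.card_eq_fintype_card]
  omega

theorem U_ne_bot : U ≠ ⊥ := by
  intro e
  obtain ⟨u, hu, v, hv, huv⟩ := h.na
  rw [e, Subgroup.mem_bot] at hu hv
  apply huv
  rw [hu, hv]

/-- `|U| = 2^k`, `k ≥ 1` -/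
theorem card_U [Finite G] : ∃ k : ℕ, 1 ≤ k ∧ Nat.card U = 2 ^ k := by
  haveI : Fact (Nat.Prime 2) := ⟨Nat.prime_two⟩
  obtain ⟨k, hk⟩ := IsPGroup.iff_card.mp h.two
  refine ⟨k, ?_, hk⟩
  by_contra hk0
  have : k = 0 := by omega
  rw [this, pow_zero] at hk
  exact h.U_ne_bot (Subgroup.card_eq_one.mp hk)

theorem even_card_U [Finite G] : Even (Nat.card U) := by
  obtain ⟨k, hk1, hk⟩ := h.card_U
  rw [hk]
  exact (Nat.even_pow' (by omega)).mpr even_two

theorem odd_card_pts [Finite G] [Finite Ω] : Odd (Nat.card Ω) := by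
  rw [h.card_pts]
  exact h.even_card_U.add_one

/-- every involution has exactly one fixed point -/
theorem invol_fix_unique [Finite G] [Finite Ω] {t : G} (ht : orderOf t = 2) :
    ∃! c : Ω, t • c = c := by
  classical
  haveI : Fintype Ω := Fintype.ofFinite Ω
  haveI := h.hZ.1
  have ht1 : t ≠ 1 := invol_ne_one ht
  have hmove : ∃ a : Ω, t • a ≠ a := by
    by_contra hcon
    apply ht1
    apply eq_of_smul_eq_smul (α := Ω)
    intro a
    rw [one_smul]
    by_contra hta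
    exact hcon ⟨a, hta⟩
  obtain ⟨a, hta⟩ := hmove
  have htt : t • t • a = a := by
    rw [← mul_smul, invol_mul_self ht, one_smul]
  have hcard := ((Cfsg.Agent.S0740.result h.hZ (Ne.symm hta)).2.1 t ht rfl htt).1
    (by rw [← Nat.card_eq_fintype_card]; exact h.odd_card_pts)
  rw [Nat.card_eq_one_iff_unique] at hcard
  obtain ⟨hsub, ⟨c, hc⟩⟩ := hcard
  refine ⟨c, hc, fun c' hc' => ?_⟩
  have := @Subsingleton.elim _ hsub (⟨c', hc'⟩ : MulAction.fixedBy Ω t) ⟨c, hc⟩
  exact congrArg Subtype.val this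

theorem odd_card_D [Finite G] [Finite Ω] {y : Ω} (hy : y ≠ x) :
    Odd (Nat.card (MulAction.stabilizer G x ⊓ MulAction.stabilizer G y : Subgroup G)) := by
  rw [← Nat.not_even_iff_odd]
  intro hev
  rw [even_iff_two_dvd] at hev
  haveI : Fact (Nat.Prime 2) := ⟨Nat.prime_two⟩
  obtain ⟨t, ht⟩ := exists_prime_orderOf_dvd_card'
    (G := ↥(MulAction.stabilizer G x ⊓ MulAction.stabilizer G y : Subgroup G)) 2 hev
  have htG : orderOf (t : G) = 2 := by rw [Subgroup.orderOf_coe]; exact ht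
  obtain ⟨c, -, hc⟩ := h.invol_fix_unique htG
  have h1 : (t : G) • x = x := (Subgroup.mem_inf.mp t.2).1
  have h2 : (t : G) • y = y := (Subgroup.mem_inf.mp t.2).2
  exact hy ((hc y h2).trans (hc x h1).symm)

theorem inf_eq_bot {y : Ω} (hy : y ≠ x) {g : G} (hgU : g ∈ U) (hgy : g • y = y) : g = 1 := by
  by_contra hg1
  exact hy (h.U_fix_only hgU hg1 hgy)

/-- every element of `G_x` is `u * d` -/
theorem exists_mul_eq {y : Ω} (hy : y ≠ x) {g : G} (hg : g • x = x) :
    ∃ u ∈ U, ∃ d ∈ (MulAction.stabilizer G x ⊓ MulAction.stabilizer G y : Subgroup G),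
      u * d = g := by
  have hgy : g • y ≠ x := by
    intro e
    apply hy
    have : g⁻¹ • x = x := by
      rw [inv_smul_eq_iff, hg]
    calc y = g⁻¹ • (g • y) := by rw [inv_smul_smul]
      _ = x := by rw [e, this]
  obtain ⟨u, hu, -⟩ := h.reg y (g • y) hy hgy
  refine ⟨u, u.2, (u : G)⁻¹ * g, Subgroup.mem_inf.mpr ⟨?_, ?_⟩, by group⟩
  · rw [MulAction.mem_stabilizer_iff, mul_smul, hg]
    exact h.le (Subgroup.inv_mem _ u.2)
  · rw [MulAction.mem_stabilizer_iff, mul_smul, ← hu, inv_smul_smul]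

theorem card_stab [Finite G] {y : Ω} (hy : y ≠ x) :
    Nat.card (MulAction.stabilizer G x) = Nat.card U *
      Nat.card (MulAction.stabilizer G x ⊓ MulAction.stabilizer G y : Subgroup G) := by
  have hbij : Function.Bijective
      (fun p : U × (MulAction.stabilizer G x ⊓ MulAction.stabilizer G y : Subgroup G) =>
        (⟨(p.1 : G) * (p.2 : G), Subgroup.mul_mem _ (h.le p.1.2) (Subgroup.mem_inf.mp p.2.2).1⟩ :
          MulAction.stabilizer G x)) := by
    constructor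
    · rintro ⟨u, d⟩ ⟨u', d'⟩ hp
      have e : (u : G) * (d : G) = (u' : G) * (d' : G) := congrArg Subtype.val hp
      have e2 : (u' : G)⁻¹ * (u : G) = (d' : G) * (d : G)⁻¹ := by
        calc (u' : G)⁻¹ * (u : G) = (u' : G)⁻¹ * ((u : G) * (d : G)) * (d : G)⁻¹ := by group
          _ = (u' : G)⁻¹ * ((u' : G) * (d' : G)) * (d : G)⁻¹ := by rw [e]
          _ = (d' : G) * (d : G)⁻¹ := by group
      have hU : (u' : G)⁻¹ * (u : G) ∈ U := Subgroup.mul_mem _ (Subgroup.inv_mem _ u'.2) u.2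
      have hD : ((d' : G) * (d : G)⁻¹) • y = y := by
        have h1 : (d : G) • y = y := (Subgroup.mem_inf.mp d.2).2
        have h2 : (d' : G) • y = y := (Subgroup.mem_inf.mp d'.2).2
        have h3 : (d : G)⁻¹ • y = y := by rw [inv_smul_eq_iff, h1]
        rw [mul_smul, h3, h2]
      have h1 : (u' : G)⁻¹ * (u : G) = 1 := h.inf_eq_bot hy hU (by rw [e2]; exact hD)
      have hu : (u : G) = u' := by
        calc (u : G) = (u' : G) * ((u' : G)⁻¹ * (u : G)) := by group
          _ = u' := by rw [h1, mul_one]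
      have hd : (d : G) = d' := by
        have : (d' : G) * (d : G)⁻¹ = 1 := by rw [← e2, h1]
        calc (d : G) = ((d' : G) * (d : G)⁻¹)⁻¹ * (d' : G) := by group
          _ = d' := by rw [this, inv_one, one_mul]
      exact Prod.ext (Subtype.ext hu) (Subtype.ext hd)
    · rintro ⟨g, hg⟩
      obtain ⟨u, hu, d, hd, hud⟩ := h.exists_mul_eq hy hg
      exact ⟨(⟨u, hu⟩, ⟨d, hd⟩), Subtype.ext hud⟩
  rw [← Nat.card_congr (Equiv.ofBijective _ hbij), Nat.card_prod]

end UHyp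

end Cfsg.Agent.Lib.Helper6.ZTS
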