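import Mathlib
import Cfsg.Agent.Lib.Helper6.ZTS1

/-!
# ZT-SUZUKI step (4), file 2: involutions, `RegHyp U D`
-/

set_option autoImplicit false
set_option linter.style.haveILetI false
set_option linter.unusedSectionVars false
set_option linter.unusedVariables false

namespace Cfsg.Agent.Lib.Helper6.ZTS

open Cfsg.Agent.Lib.Lead Cfsg.Agent.Lib.Helper6.TIC

variable {G Ω : Type*} [Group G] [MulAction G Ω]

namespace UHyp

variable {x : Ω} {U : Subgroup G} (h : UHyp x U)
include h

theorem normal_subgroupOf : (U.subgroupOf (MulAction.stabilizer G x)).Normal := by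
  constructor
  intro n hn g
  rw [Subgroup.mem_subgroupOf] at hn ⊢
  exact h.norm g g.2 n hn

theorem not_comm : ¬ IsMulCommutative U := by
  intro hc
  obtain ⟨u, hu, v, hv, huv⟩ := h.na
  apply huv
  have := hc.is_comm.comm (⟨u, hu⟩ : U) ⟨v, hv⟩
  exact congrArg Subtype.val this

/-- `2e < |U| - 1` (Feit; here via S0738) -/
theorem two_e_lt [Finite G] [Finite Ω] {y : Ω} (hy : y ≠ x) :
    2 * Nat.card (MulAction.stabilizer G x ⊓ MulAction.stabilizer G y : Subgroup G) <
      Nat.card U - 1 := by
  classical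
  haveI : Fintype Ω := Fintype.ofFinite Ω
  by_contra hcon
  rw [not_lt] at hcon
  have hd : Fintype.card Ω - 2 ≤
      2 * Nat.card ↥(MulAction.stabilizer G x ⊓ MulAction.stabilizer G y) := by
    have := h.card_pts
    rw [Nat.card_eq_fintype_card] at this
    omega
  exact h.not_comm (Cfsg.Agent.S0738.result h.hZ (Ne.symm hy) hd U h.le h.normal_subgroupOf
    (fun y z hy hz => h.reg y z hy hz)).1

/-- the number of involutions of `G` -/
theorem card_invol [Finite G] [Finite Ω] {y : Ω} (hy : y ≠ x) :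
    Nat.card {t : G // orderOf t = 2} =
      Nat.card (MulAction.stabilizer G x ⊓ MulAction.stabilizer G y : Subgroup G) *
        (Nat.card U + 1) := by
  classical
  haveI : Fintype Ω := Fintype.ofFinite Ω
  haveI := h.simple
  have hh : Fintype.card Ω = Nat.card U + 1 := by
    rw [← Nat.card_eq_fintype_card]; exact h.card_pts
  have := (Cfsg.Agent.S0882.result h.hZ (Ne.symm hy) (Nat.card U) _ hh rfl (h.odd_card_D hy)
    (h.two_e_lt hy)).2
  rw [if_pos h.even_card_U] at this
  exact this

theorem isConj_invol [Finite G] [Finite Ω] {a b : G} (ha : orderOf a = 2)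
    (hb : orderOf b = 2) : IsConj a b := by
  classical
  haveI : Fintype Ω := Fintype.ofFinite Ω
  haveI := h.simple
  obtain ⟨y, hy⟩ := h.exists_ne
  have hh : Fintype.card Ω = Nat.card U + 1 := by
    rw [← Nat.card_eq_fintype_card]; exact h.card_pts
  exact (Cfsg.Agent.S0882.result h.hZ (Ne.symm hy) (Nat.card U) _ hh rfl (h.odd_card_D hy)
    (h.two_e_lt hy)).1 a b ha hb

/-- involutions of `G_x` lie in `U` -/
theorem invol_mem_U [Finite G] [Finite Ω] {t : G} (ht : orderOf t = 2) (htx : t • x = x) :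
    t ∈ U := by
  obtain ⟨y, hy⟩ := h.exists_ne
  obtain ⟨u, hu, d, hd, hud⟩ := h.exists_mul_eq hy htx
  have hdx : d ∈ MulAction.stabilizer G x := (Subgroup.mem_inf.mp hd).1
  -- d² ∈ U
  have htt : t * t = 1 := invol_mul_self ht
  have hdd : d * d ∈ U := by
    have h1 : u * (d * u * d⁻¹) * (d * d) = 1 := by
      calc u * (d * u * d⁻¹) * (d * d) = (u * d) * (u * d) := by group
        _ = 1 := by rw [hud, htt]
    have h2 : d * d = (u * (d * u * d⁻¹))⁻¹ := eq_inv_of_mul_eq_one_right h1
    rw [h2]
    exact Subgroup.inv_mem _ (Subgroup.mul_mem _ hu (h.norm d hdx u hu))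
  have hdd1 : d * d = 1 := by
    apply h.inf_eq_bot hy hdd
    have := (Subgroup.mem_inf.mp hd).2
    rw [MulAction.mem_stabilizer_iff] at this
    rw [mul_smul, this, this]
  -- d has odd order
  have hodd := h.odd_card_D hy
  have hd1 : d = 1 := by
    have h1 : orderOf d ∣ 2 := by
      rw [← pow_two] at hdd1
      exact orderOf_dvd_of_pow_eq_one hdd1
    have h2 : orderOf d ∣ Nat.card (MulAction.stabilizer G x ⊓ MulAction.stabilizer G y : Subgroup G) := by
      have := orderOf_dvd_natCard (⟨d, hd⟩ :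
        (MulAction.stabilizer G x ⊓ MulAction.stabilizer G y : Subgroup G))
      rwa [Subgroup.orderOf_mk] at this
    have h3 : orderOf d ∣ 1 := by
      have hc : Nat.Coprime 2 (Nat.card (MulAction.stabilizer G x ⊓ MulAction.stabilizer G y : Subgroup G)) :=
        Nat.coprime_two_left.mpr hodd
      have := Nat.dvd_gcd h1 h2
      rwa [hc] at this
    exact orderOf_eq_one_iff.mp (Nat.dvd_one.mp h3)
  rw [← hud, hd1, mul_one]
  exact hu

/-- elements of `D ∖ 1` centralise no non-identity element of `U` -/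
theorem D_fpf {y : Ω} (hy : y ≠ x) {d : G}
    (hd : d ∈ (MulAction.stabilizer G x ⊓ MulAction.stabilizer G y : Subgroup G)) (hd1 : d ≠ 1)
    {u : G} (hu : u ∈ U) (hdu : d * u * d⁻¹ = u) : u = 1 := by
  by_contra hu1
  apply hd1
  have hdx : d • x = x := (Subgroup.mem_inf.mp hd).1
  have hdy : d • y = y := (Subgroup.mem_inf.mp hd).2
  have huy : u • y ≠ y := fun e => hy (h.U_fix_only hu hu1 e)
  have hux : u • y ≠ x := h.smul_ne hu hy
  have hcomm : d * u = u * d := by
    calc d * u = d * u * d⁻¹ * d := by group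
      _ = u * d := by rw [hdu]
  have hfix : d • (u • y) = u • y := by
    rw [← mul_smul, hcomm, mul_smul, hdy]
  exact h.three_pt (Ne.symm hy) (Ne.symm huy) (Ne.symm hux) hdx hdy hfix

end UHyp

end Cfsg.Agent.Lib.Helper6.ZTS
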