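import Mathlib
import Cfsg.Agent.Lib.Helper6.ZTS2

/-!
# ZT-SUZUKI step (4), file 3: `RegHyp U D` and its consequences
-/

set_option autoImplicit false
set_option linter.style.haveILetI false
set_option linter.unusedSectionVars false
set_option linter.unusedVariables false

namespace Cfsg.Agent.Lib.Helper6.ZTS

open Cfsg.Agent.Lib.Lead Cfsg.Agent.Lib.Helper6.TIC

variable {G Ω : Type*} [Group G] [MulAction G Ω]

theorem orderOf_conj_two {g t : G} (ht : orderOf t = 2) : orderOf (g * t * g⁻¹) = 2 := by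
  have : g * t * g⁻¹ = MulAut.conj g t := by rw [MulAut.conj_apply]
  rw [this, MulEquiv.orderOf_eq]; exact ht

namespace UHyp

variable {x : Ω} {U : Subgroup G} (h : UHyp x U)
include h

/-- `U` has exactly `e = |D|` involutions -/
theorem card_invol_U [Finite G] [Finite Ω] {y : Ω} (hy : y ≠ x) :
    Nat.card {t : G // orderOf t = 2 ∧ t ∈ U} =
      Nat.card (MulAction.stabilizer G x ⊓ MulAction.stabilizer G y : Subgroup G) := by
  classical
  haveI : Fintype Ω := Fintype.ofFinite Ω
  let f : {t : G // orderOf t = 2} → Ω := fun t => (h.invol_fix_unique t.2).choose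
  have hf : ∀ t : {t : G // orderOf t = 2}, (t : G) • f t = f t :=
    fun t => (h.invol_fix_unique t.2).choose_spec.1
  have hf' : ∀ (t : {t : G // orderOf t = 2}) (c : Ω), (t : G) • c = c → c = f t :=
    fun t c hc => (h.invol_fix_unique t.2).choose_spec.2 c hc
  have hfib : ∀ c : Ω, Nat.card {t : {t : G // orderOf t = 2} // f t = c} =
      Nat.card {t : G // orderOf t = 2 ∧ t ∈ U} := by
    intro c
    haveI := h.pretransitive
    obtain ⟨g, hg⟩ := MulAction.exists_smul_eq G x c
    have hginv : g⁻¹ • c = x := by rw [inv_smul_eq_iff, hg]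
    refine Nat.card_congr
      { toFun := fun t => ⟨g⁻¹ * (t.1 : G) * g, ?_, ?_⟩
        invFun := fun s => ⟨⟨g * (s : G) * g⁻¹, orderOf_conj_two s.2.1⟩, ?_⟩
        left_inv := ?_
        right_inv := ?_ }
    · have := orderOf_conj_two (g := g⁻¹) t.1.2
      rwa [inv_inv] at this
    · apply h.invol_mem_U
      · have := orderOf_conj_two (g := g⁻¹) t.1.2
        rwa [inv_inv] at this
      · have htc : (t.1 : G) • c = c := by
          have := hf t.1
          rwa [t.2] at this
        rw [mul_smul, mul_smul, hg, htc, hginv]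
    · symm
      apply hf'
      change (g * (s : G) * g⁻¹) • c = c
      rw [mul_smul, mul_smul, hginv, h.le s.2.2, hg]
    · intro t
      apply Subtype.ext
      apply Subtype.ext
      change g * (g⁻¹ * (t.1 : G) * g) * g⁻¹ = t.1
      group
    · intro s
      apply Subtype.ext
      change g⁻¹ * (g * (s : G) * g⁻¹) * g = s
      group
  have h1 : Nat.card {t : G // orderOf t = 2} =
      Fintype.card Ω * Nat.card {t : G // orderOf t = 2 ∧ t ∈ U} := by
    rw [Nat.card_congr (Equiv.sigmaFiberEquiv f).symm, Nat.card_sigma]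
    simp only [hfib]
    rw [Finset.sum_const, Finset.card_univ, smul_eq_mul]
  have h2 := h.card_invol hy
  have h3 : Fintype.card Ω = Nat.card U + 1 := by
    rw [← Nat.card_eq_fintype_card]; exact h.card_pts
  rw [h1, h3, mul_comm] at h2
  exact Nat.eq_of_mul_eq_mul_right (Nat.succ_pos _) h2

/-- `D` is regular on the involutions of `U` -/
theorem regD [Finite G] [Finite Ω] {y : Ω} (hy : y ≠ x) {a b : G} (ha : a ∈ U) (hb : b ∈ U)
    (ha1 : a ≠ 1) (ha2 : a * a = 1) (hb1 : b ≠ 1) (hb2 : b * b = 1) :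
    ∃! d : (MulAction.stabilizer G x ⊓ MulAction.stabilizer G y : Subgroup G),
      (d : G) * a * (d : G)⁻¹ = b := by
  have hoa : orderOf a = 2 := invol_of_mul_self ha1 ha2
  let φ : (MulAction.stabilizer G x ⊓ MulAction.stabilizer G y : Subgroup G) →
      {t : G // orderOf t = 2 ∧ t ∈ U} :=
    fun d => ⟨(d : G) * a * (d : G)⁻¹, orderOf_conj_two hoa,
      h.norm d (Subgroup.mem_inf.mp d.2).1 a ha⟩
  have hinj : Function.Injective φ := by
    intro d d' hdd
    have e : (d : G) * a * (d : G)⁻¹ = (d' : G) * a * (d' : G)⁻¹ := congrArg Subtype.val hdd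
    have e2 : ((d' : G)⁻¹ * d) * a * ((d' : G)⁻¹ * d)⁻¹ = a := by
      calc ((d' : G)⁻¹ * d) * a * ((d' : G)⁻¹ * d)⁻¹
          = (d' : G)⁻¹ * ((d : G) * a * (d : G)⁻¹) * d' := by group
        _ = (d' : G)⁻¹ * ((d' : G) * a * (d' : G)⁻¹) * d' := by rw [e]
        _ = a := by group
    by_contra hne
    have hne' : (d' : G)⁻¹ * d ≠ 1 := by
      intro e3
      apply hne
      apply Subtype.ext
      calc (d : G) = d' * ((d' : G)⁻¹ * d) := by group
        _ = d' := by rw [e3, mul_one]
    exact ha1 (h.D_fpf hy (Subgroup.mul_mem _ (Subgroup.inv_mem _ d'.2) d.2) hne' ha e2)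
  have hbij : Function.Bijective φ :=
    hinj.bijective_of_nat_card_le (by rw [h.card_invol_U hy])
  obtain ⟨d, hd⟩ := hbij.2 ⟨b, invol_of_mul_self hb1 hb2, hb⟩
  refine ⟨d, congrArg Subtype.val hd, fun d' hd' => hinj (Subtype.ext ?_)⟩
  exact hd'.trans (congrArg Subtype.val hd).symm

theorem D_ne_bot {y : Ω} (hy : y ≠ x) :
    ∃ d ∈ (MulAction.stabilizer G x ⊓ MulAction.stabilizer G y : Subgroup G), d ≠ 1 := by
  obtain ⟨g, hg1, a, b, hab, hga, hgb⟩ := h.hZ.2.2.2.1
  obtain ⟨k, hka, hkb⟩ := h.two_trans hab (Ne.symm hy)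
  have hkx : k⁻¹ • x = a := by rw [inv_smul_eq_iff, hka]
  have hky : k⁻¹ • y = b := by rw [inv_smul_eq_iff, hkb]
  refine ⟨k * g * k⁻¹, Subgroup.mem_inf.mpr ⟨?_, ?_⟩, ?_⟩
  · rw [MulAction.mem_stabilizer_iff, mul_smul, mul_smul, hkx, hga, hka]
  · rw [MulAction.mem_stabilizer_iff, mul_smul, mul_smul, hky, hgb, hkb]
  · intro e
    apply hg1
    calc g = k⁻¹ * (k * g * k⁻¹) * k := by group
      _ = 1 := by rw [e]; group

theorem three_le_card_D [Finite G] [Finite Ω] {y : Ω} (hy : y ≠ x) :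
    3 ≤ Nat.card (MulAction.stabilizer G x ⊓ MulAction.stabilizer G y : Subgroup G) := by
  have hodd := h.odd_card_D hy
  obtain ⟨d, hd, hd1⟩ := h.D_ne_bot hy
  have hne : Nat.card (MulAction.stabilizer G x ⊓ MulAction.stabilizer G y : Subgroup G) ≠ 1 := by
    intro e
    have := Subgroup.card_eq_one.mp e
    rw [this, Subgroup.mem_bot] at hd
    exact hd1 hd
  have hpos : 0 < Nat.card (MulAction.stabilizer G x ⊓ MulAction.stabilizer G y : Subgroup G) :=
    Nat.card_pos
  obtain ⟨k, hk⟩ := hodd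
  omega

/-- **the hypotheses of E0 hold** -/
theorem regHyp [Finite G] [Finite Ω] {y : Ω} (hy : y ≠ x) :
    RegHyp U (MulAction.stabilizer G x ⊓ MulAction.stabilizer G y : Subgroup G) := by
  haveI := h.simple
  refine ⟨?_, (Cfsg.Agent.S0345.result h.hZ (Ne.symm hy)).1, h.two, h.na, ?_, ?_⟩
  · intro d hd s hs
    exact h.norm d (Subgroup.mem_inf.mp hd).1 s hs
  · have h3 := h.three_le_card_D hy
    have hnt : Nontrivial {t : G // orderOf t = 2 ∧ t ∈ U} := by
      rw [← Finite.one_lt_card_iff_nontrivial, h.card_invol_U hy]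
      omega
    obtain ⟨a, b, hab⟩ := hnt.exists_pair_ne
    exact ⟨a.1, a.2.2, b.1, b.2.2, fun e => hab (Subtype.ext e), invol_ne_one a.2.1,
      invol_mul_self a.2.1, invol_ne_one b.2.1, invol_mul_self b.2.1⟩
  · intro a ha b hb ha1 ha2 hb1 hb2
    exact h.regD hy ha hb ha1 ha2 hb1 hb2

/-- the centraliser of an involution of `U` lies in `U` -/
theorem cent_invol [Finite G] [Finite Ω] {t : G} (ht : t ∈ centerOf U) (ht1 : t ≠ 1) {g : G}
    (hg : g * t = t * g) : g ∈ U := by
  obtain ⟨y, hy⟩ := h.exists_ne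
  have hR := h.regHyp hy
  have htU : t ∈ U := centerOf_le U ht
  have hot : orderOf t = 2 := invol_of_mul_self ht1 (hR.center_sq ht)
  -- g fixes x
  have hgx : g • x = x := by
    obtain ⟨c, -, hc⟩ := h.invol_fix_unique hot
    have h1 : t • x = x := h.le htU
    have h2 : t • (g • x) = g • x := by
      rw [← mul_smul, ← hg, mul_smul, h1]
    exact (hc _ h2).trans (hc x h1).symm
  obtain ⟨u, hu, d, hd, hud⟩ := h.exists_mul_eq hy hgx
  have hd1 : d = 1 := by
    by_contra hd1
    apply ht1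
    apply h.D_fpf hy hd hd1 htU
    -- d t d⁻¹ = u⁻¹ (g t g⁻¹) u = u⁻¹ t u = t
    have hgt : g * t * g⁻¹ = t := by rw [hg]; group
    have hut : u * t = t * u := (mem_centerOf.mp ht).2 u hu
    calc d * t * d⁻¹ = u⁻¹ * ((u * d) * t * (u * d)⁻¹) * u := by group
      _ = u⁻¹ * t * u := by rw [hud, hgt]
      _ = u⁻¹ * (t * u) := by group
      _ = u⁻¹ * (u * t) := by rw [hut]
      _ = t := by group
  rw [← hud, hd1, mul_one]
  exact hu

/-- the order of `G` -/
theorem card_G [Finite G] [Finite Ω] {y : Ω} (hy : y ≠ x) :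
    Nat.card G = (Nat.card U + 1) * (Nat.card U *
      Nat.card (MulAction.stabilizer G x ⊓ MulAction.stabilizer G y : Subgroup G)) := by
  haveI := h.pretransitive
  have h1 : (MulAction.stabilizer G x).index = Nat.card Ω :=
    MulAction.index_stabilizer_of_transitive G x
  have h2 := Subgroup.card_mul_index (MulAction.stabilizer G x)
  rw [← h.card_stab hy, ← h.card_pts, ← h2, h1, mul_comm]

/-- an involution swapping `x` and `y` inverts `D` -/
theorem inverted [Finite G] [Finite Ω] {y : Ω} (hy : y ≠ x) :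
    ∃ v : G, orderOf v = 2 ∧ v • x = y ∧ v • y = x ∧
      ∀ d ∈ (MulAction.stabilizer G x ⊓ MulAction.stabilizer G y : Subgroup G),
        v * d * v⁻¹ = d⁻¹ := by
  haveI := h.simple
  exact (Cfsg.Agent.S0345.result h.hZ (Ne.symm hy)).2

end UHyp

end Cfsg.Agent.Lib.Helper6.ZTS
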