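import Mathlib
import Cfsg.Prelude.Def_Exceptional
import Cfsg.Agent.Lib.Helper6.ZTS3

/-!
# ZT-SUZUKI step (4), file 4: numerical consequences, adapters, and the Suzuki order
-/

set_option autoImplicit false
set_option linter.style.haveILetI false
set_option linter.unusedSectionVars false
set_option linter.unusedVariables false

namespace Cfsg.Agent.Lib.Helper6.ZTS

open Cfsg.Agent.Lib.Lead Cfsg.Agent.Lib.Helper6.TIC

variable {G Ω : Type*} [Group G] [MulAction G Ω]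

/-- the hypotheses of S0347 give `UHyp` -/
theorem UHyp.of_S0347 (hZ : Cfsg.IsZassenhausGroup G Ω) [hs : IsSimpleGroup G]
    (x : Ω) (U : Subgroup G) (hUle : U ≤ MulAction.stabilizer G x)
    (hUn : (U.subgroupOf (MulAction.stabilizer G x)).Normal)
    (hU2 : IsPGroup 2 U) (hUna : ∃ u v : U, u * v ≠ v * u)
    (hreg : ∀ y z : Ω, y ≠ x → z ≠ x → ∃! u : U, (u : G) • y = z) : UHyp x U := by
  refine ⟨hZ, hs, hUle, ?_, hU2, ?_, hreg⟩
  · intro g hg u hu
    have := hUn.conj_mem ⟨u, hUle hu⟩ (Subgroup.mem_subgroupOf.mpr hu) ⟨g, hg⟩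
    rw [Subgroup.mem_subgroupOf] at this
    simpa using this
  · obtain ⟨u, v, huv⟩ := hUna
    exact ⟨u, u.2, v, v.2, fun e => huv (Subtype.ext e)⟩

/-- the hypotheses of S1147 give `UHyp` -/
theorem UHyp.of_S1147 (hZ : Cfsg.IsZassenhausGroup G Ω) [hs : IsSimpleGroup G]
    (a : Ω) (U : Subgroup G) (hUle : U ≤ MulAction.stabilizer G a)
    (hUn : ∀ h ∈ MulAction.stabilizer G a, ∀ u ∈ U, h * u * h⁻¹ ∈ U)
    (hreg : ∀ c d : Ω, c ≠ a → d ≠ a → ∃! u : U, (u : G) • c = d)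
    (hU2 : IsPGroup 2 U) (hUna : ∃ u ∈ U, ∃ v ∈ U, u * v ≠ v * u) : UHyp a U :=
  ⟨hZ, hs, hUle, hUn, hU2, hUna, hreg⟩

namespace UHyp

variable {x : Ω} {U : Subgroup G} (h : UHyp x U)
include h

theorem card_T [Finite G] [Finite Ω] {y : Ω} (hy : y ≠ x) :
    Nat.card (centerOf U) =
      Nat.card (MulAction.stabilizer G x ⊓ MulAction.stabilizer G y : Subgroup G) + 1 :=
  (h.regHyp hy).card_center

/-- `q = e + 1 = 2^n`, `n ≥ 2` -/
theorem q_eq [Finite G] [Finite Ω] {y : Ω} (hy : y ≠ x) : ∃ n : ℕ, 2 ≤ n ∧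
    Nat.card (MulAction.stabilizer G x ⊓ MulAction.stabilizer G y : Subgroup G) + 1 = 2 ^ n := by
  have hT : IsPGroup 2 (centerOf U) := by
    intro t
    obtain ⟨k, hk⟩ := h.two ⟨(t : G), centerOf_le _ t.2⟩
    refine ⟨k, ?_⟩
    apply Subtype.ext
    have := congrArg Subtype.val hk
    simpa using this
  haveI : Fact (Nat.Prime 2) := ⟨Nat.prime_two⟩
  obtain ⟨n, hn⟩ := IsPGroup.iff_card.mp hT
  rw [h.card_T hy] at hn
  refine ⟨n, ?_, hn⟩
  have h3 := h.three_le_card_D hy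
  by_contra hlt
  have hn1 : n ≤ 1 := by omega
  have : 2 ^ n ≤ 2 ^ 1 := Nat.pow_le_pow_right (by norm_num) hn1
  omega

/-- `|U| = q^2` or `|U| = q^3` -/
theorem card_U_sq_or_cube [Finite G] [Finite Ω] {y : Ω} (hy : y ≠ x) :
    Nat.card U =
      (Nat.card (MulAction.stabilizer G x ⊓ MulAction.stabilizer G y : Subgroup G) + 1) ^ 2 ∨
    Nat.card U =
      (Nat.card (MulAction.stabilizer G x ⊓ MulAction.stabilizer G y : Subgroup G) + 1) ^ 3 := by
  have := (h.regHyp hy).card_sq_or_cube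
  rwa [h.card_T hy] at this

/-- the Suzuki order formula in the case `|U| = q^2`, `q = 2^n`, `n` odd -/
theorem isSuzuki_of_sq [Finite G] [Finite Ω] {y : Ω} (hy : y ≠ x) {n : ℕ}
    (hn : Nat.card (MulAction.stabilizer G x ⊓ MulAction.stabilizer G y : Subgroup G) + 1 = 2 ^ n)
    (hodd : Odd n)
    (hsq : Nat.card U =
      (Nat.card (MulAction.stabilizer G x ⊓ MulAction.stabilizer G y : Subgroup G) + 1) ^ 2) :
    Cfsg.IsSuzuki G := by
  refine ⟨h.simple, ?_⟩
  obtain ⟨m, hm⟩ := hodd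
  have h3 := h.three_le_card_D hy
  have hm1 : 1 ≤ m := by
    by_contra hm0
    have hm0' : m = 0 := by omega
    have h2n : 2 ^ n = 2 := by rw [hm, hm0']; norm_num
    rw [h2n] at hn
    omega
  refine ⟨m, hm1, ?_⟩
  rw [h.card_G hy, hsq, hn, ← hm]
  have he : Nat.card (MulAction.stabilizer G x ⊓ MulAction.stabilizer G y : Subgroup G) =
      2 ^ n - 1 := by omega
  rw [he]
  ring

end UHyp

end Cfsg.Agent.Lib.Helper6.ZTS
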