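import Mathlib
import Cfsg.Agent.Lib.Helper6.TICC1
import Cfsg.Agent.Lib.Helper6.ZTS4
import Cfsg.Agent.Lib.Helper6.ZK_TICE0

/-!
# ZT-SUZUKI step (4), file 5: the all-points adapter `UHyp x U → ResidK sU sT q k`
-/

set_option autoImplicit false
set_option linter.style.haveILetI false
set_option linter.unusedSectionVars false
set_option linter.unusedVariables false

namespace Cfsg.Agent.Lib.Helper6.ZTS

open Cfsg.Agent.Lib.Lead Cfsg.Agent.Lib.Helper6.TIC Cfsg.Agent.Lib.Helper6.ZK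
open Cfsg.Agent.Lib.Helper5.TICE (IsInv)

variable {G Ω : Type*} [Group G] [MulAction G Ω]

namespace UHyp

variable {x : Ω} {U : Subgroup G} (h : UHyp x U)
include h

/-- a group element moving the base point to `α` -/
noncomputable def rep (α : Ω) : G :=
  haveI := h.pretransitive
  (MulAction.exists_smul_eq G x α).choose

theorem rep_smul (α : Ω) : h.rep α • x = α :=
  haveI := h.pretransitive
  (MulAction.exists_smul_eq G x α).choose_spec

theorem rep_inv_smul (α : Ω) : (h.rep α)⁻¹ • α = x := by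
  rw [inv_smul_eq_iff, h.rep_smul]

/-- the conjugate of `U` attached to the point `α` -/
noncomputable def sU (α : Ω) : Subgroup G := cj (h.rep α) U

/-- the conjugate of `Z(U)` attached to the point `α` -/
noncomputable def sT (α : Ω) : Subgroup G := cj (h.rep α) (centerOf U)

/-- the number `q = e + 1`, written canonically -/
noncomputable def qq (h : UHyp x U) : ℕ := Nat.card {t : G // orderOf t = 2 ∧ t ∈ U} + 1

theorem conj_mem_iff {n u : G} (hn : n • x = x) : n * u * n⁻¹ ∈ U ↔ u ∈ U := by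
  constructor
  · intro hu
    have hn' : n⁻¹ ∈ MulAction.stabilizer G x := by
      rw [MulAction.mem_stabilizer_iff, inv_smul_eq_iff, hn]
    have := h.norm n⁻¹ hn' _ hu
    have e : n⁻¹ * (n * u * n⁻¹) * n⁻¹⁻¹ = u := by group
    rwa [e] at this
  · intro hu
    exact h.norm n hn u hu

theorem conj_mem_center_iff {n t : G} (hn : n • x = x) :
    n * t * n⁻¹ ∈ centerOf U ↔ t ∈ centerOf U := by
  have hn' : n⁻¹ • x = x := by rw [inv_smul_eq_iff, hn]
  have key : ∀ {m t : G}, m • x = x → t ∈ centerOf U → m * t * m⁻¹ ∈ centerOf U := by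
    intro m t hm ht
    have hm' : m⁻¹ • x = x := by rw [inv_smul_eq_iff, hm]
    rw [mem_centerOf] at ht ⊢
    refine ⟨h.norm m hm t ht.1, fun s hs => ?_⟩
    have hs' : m⁻¹ * s * m ∈ U := by
      have := h.norm m⁻¹ hm' s hs
      rwa [inv_inv] at this
    have hc := ht.2 _ hs'
    calc s * (m * t * m⁻¹) = m * ((m⁻¹ * s * m) * t) * m⁻¹ := by group
      _ = m * (t * (m⁻¹ * s * m)) * m⁻¹ := by rw [hc]
      _ = m * t * m⁻¹ * s := by group
  constructor
  · intro ht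
    have := key hn' ht
    have e : n⁻¹ * (n * t * n⁻¹) * n⁻¹⁻¹ = t := by group
    rwa [e] at this
  · exact key hn

theorem mem_sU_iff {α : Ω} {g s : G} (hg : g • x = α) : s ∈ h.sU α ↔ g⁻¹ * s * g ∈ U := by
  unfold sU
  rw [mem_cj]
  have hn : ((h.rep α)⁻¹ * g) • x = x := by
    rw [mul_smul, hg, h.rep_inv_smul]
  rw [← h.conj_mem_iff (u := g⁻¹ * s * g) hn]
  have e : (h.rep α)⁻¹ * g * (g⁻¹ * s * g) * ((h.rep α)⁻¹ * g)⁻¹ =
      (h.rep α)⁻¹ * s * h.rep α := by group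
  rw [e]

theorem mem_sT_iff {α : Ω} {g s : G} (hg : g • x = α) :
    s ∈ h.sT α ↔ g⁻¹ * s * g ∈ centerOf U := by
  unfold sT
  rw [mem_cj]
  have hn : ((h.rep α)⁻¹ * g) • x = x := by
    rw [mul_smul, hg, h.rep_inv_smul]
  rw [← h.conj_mem_center_iff (t := g⁻¹ * s * g) hn]
  have e : (h.rep α)⁻¹ * g * (g⁻¹ * s * g) * ((h.rep α)⁻¹ * g)⁻¹ =
      (h.rep α)⁻¹ * s * h.rep α := by group
  rw [e]

theorem sT_le (α : Ω) : h.sT α ≤ h.sU α := by
  intro s hs
  rw [h.mem_sU_iff (h.rep_smul α)]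
  rw [h.mem_sT_iff (h.rep_smul α)] at hs
  exact centerOf_le U hs

theorem sU_fix {α : Ω} {s : G} (hs : s ∈ h.sU α) : s • α = α := by
  rw [h.mem_sU_iff (h.rep_smul α)] at hs
  have h1 : ((h.rep α)⁻¹ * s * h.rep α) • x = x := h.le hs
  rw [mul_smul, mul_smul, h.rep_smul, inv_smul_eq_iff, h.rep_smul] at h1
  exact h1

theorem sU_conj (g : G) {α : Ω} {s : G} (hs : s ∈ h.sU α) : g * s * g⁻¹ ∈ h.sU (g • α) := by
  have hg : (g * h.rep α) • x = g • α := by rw [mul_smul, h.rep_smul]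
  rw [h.mem_sU_iff hg]
  rw [h.mem_sU_iff (h.rep_smul α)] at hs
  have e : (g * h.rep α)⁻¹ * (g * s * g⁻¹) * (g * h.rep α) = (h.rep α)⁻¹ * s * h.rep α := by
    group
  rw [e]; exact hs

theorem inv_rep_ne {α β : Ω} (hβ : β ≠ α) : (h.rep α)⁻¹ • β ≠ x := by
  intro e
  apply hβ
  rw [inv_smul_eq_iff, h.rep_smul] at e
  exact e

theorem sU_trans {α β γ : Ω} (hβ : β ≠ α) (hγ : γ ≠ α) : ∃ s ∈ h.sU α, s • β = γ := by
  obtain ⟨u, hu, -⟩ := h.reg _ _ (h.inv_rep_ne hβ) (h.inv_rep_ne hγ)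
  refine ⟨h.rep α * u * (h.rep α)⁻¹, ?_, ?_⟩
  · rw [h.mem_sU_iff (h.rep_smul α)]
    have e : (h.rep α)⁻¹ * (h.rep α * u * (h.rep α)⁻¹) * h.rep α = u := by group
    rw [e]; exact u.2
  · rw [mul_smul, mul_smul, hu, smul_inv_smul]

theorem sU_free {α β : Ω} (hβ : β ≠ α) {s : G} (hs : s ∈ h.sU α) (hsβ : s • β = β) : s = 1 := by
  rw [h.mem_sU_iff (h.rep_smul α)] at hs
  have hfix : ((h.rep α)⁻¹ * s * h.rep α) • ((h.rep α)⁻¹ • β) = (h.rep α)⁻¹ • β := by
    rw [mul_smul, mul_smul, smul_inv_smul, hsβ]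
  by_contra hs1
  have hne : (h.rep α)⁻¹ * s * h.rep α ≠ 1 := by
    intro e
    apply hs1
    calc s = h.rep α * ((h.rep α)⁻¹ * s * h.rep α) * (h.rep α)⁻¹ := by group
      _ = 1 := by rw [e]; group
  exact h.inv_rep_ne hβ (h.U_fix_only hs hne hfix)

end UHyp

end Cfsg.Agent.Lib.Helper6.ZTS
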