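import Mathlib
import Cfsg.Agent.Lib.Helper6.ZTS5

/-!
# ZT-SUZUKI step (4), file 6: `UHyp x U → ResidK sU sT q k`
-/

set_option autoImplicit false
set_option linter.style.haveILetI false
set_option linter.unusedSectionVars false
set_option linter.unusedVariables false

namespace Cfsg.Agent.Lib.Helper6.ZTS

open Cfsg.Agent.Lib.Lead Cfsg.Agent.Lib.Helper6.TIC Cfsg.Agent.Lib.Helper6.ZK
open Cfsg.Agent.Lib.Helper5.TICE (IsInv)

variable {G Ω : Type*} [Group G] [MulAction G Ω]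

namespace UHyp

variable {x : Ω} {U : Subgroup G} (h : UHyp x U)
include h

theorem qq_eq [Finite G] [Finite Ω] {y : Ω} (hy : y ≠ x) :
    h.qq = Nat.card (MulAction.stabilizer G x ⊓ MulAction.stabilizer G y : Subgroup G) + 1 := by
  unfold qq
  rw [h.card_invol_U hy]

/-- for `u ∈ U`: `u ∈ Z(U) ↔ u² = 1` -/
theorem mem_center_iff_sq [Finite G] [Finite Ω] {u : G} (hu : u ∈ U) :
    u ∈ centerOf U ↔ u * u = 1 := by
  obtain ⟨y, hy⟩ := h.exists_ne
  have hR := h.regHyp hy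
  constructor
  · intro hc
    exact hR.center_sq hc
  · intro huu
    by_cases hu1 : u = 1
    · rw [hu1]; exact Subgroup.one_mem _
    · exact ((hR.inv_iff hu).mp ⟨hu1, huu⟩).1

theorem mem_sT_iff_sq [Finite G] [Finite Ω] {α : Ω} {s : G} (hs : s ∈ h.sU α) :
    s ∈ h.sT α ↔ s * s = 1 := by
  rw [h.mem_sT_iff (h.rep_smul α)]
  rw [h.mem_sU_iff (h.rep_smul α)] at hs
  rw [h.mem_center_iff_sq hs]
  constructor
  · intro e
    have : s * s = h.rep α * ((h.rep α)⁻¹ * s * h.rep α * ((h.rep α)⁻¹ * s * h.rep α)) *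
        (h.rep α)⁻¹ := by group
    rw [this, e]; group
  · intro e
    have : (h.rep α)⁻¹ * s * h.rep α * ((h.rep α)⁻¹ * s * h.rep α) =
        (h.rep α)⁻¹ * (s * s) * h.rep α := by group
    rw [this, e]; group

theorem sT_central {α : Ω} {t s : G} (ht : t ∈ h.sT α) (hs : s ∈ h.sU α) : t * s = s * t := by
  rw [h.mem_sT_iff (h.rep_smul α)] at ht
  rw [h.mem_sU_iff (h.rep_smul α)] at hs
  have hc := (mem_centerOf.mp ht).2 _ hs
  calc t * s = h.rep α * (((h.rep α)⁻¹ * t * h.rep α) * ((h.rep α)⁻¹ * s * h.rep α)) *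
        (h.rep α)⁻¹ := by group
    _ = h.rep α * (((h.rep α)⁻¹ * s * h.rep α) * ((h.rep α)⁻¹ * t * h.rep α)) *
        (h.rep α)⁻¹ := by rw [hc]
    _ = s * t := by group

theorem sq_mem_sT [Finite G] [Finite Ω] {α : Ω} {s : G} (hs : s ∈ h.sU α) : s * s ∈ h.sT α := by
  obtain ⟨y, hy⟩ := h.exists_ne
  rw [h.mem_sT_iff (h.rep_smul α)]
  rw [h.mem_sU_iff (h.rep_smul α)] at hs
  have := (h.regHyp hy).sq_mem hs
  have e : (h.rep α)⁻¹ * (s * s) * h.rep α =
      (h.rep α)⁻¹ * s * h.rep α * ((h.rep α)⁻¹ * s * h.rep α) := by group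
  rw [e]; exact this

theorem comm_mem_sT [Finite G] [Finite Ω] {α : Ω} {s s' : G} (hs : s ∈ h.sU α)
    (hs' : s' ∈ h.sU α) : s * s' * s⁻¹ * s'⁻¹ ∈ h.sT α := by
  obtain ⟨y, hy⟩ := h.exists_ne
  rw [h.mem_sT_iff (h.rep_smul α)]
  rw [h.mem_sU_iff (h.rep_smul α)] at hs hs'
  have := (h.regHyp hy).comm_mem (Subgroup.inv_mem _ hs) (Subgroup.inv_mem _ hs')
  rw [inv_inv, inv_inv] at this
  have e : (h.rep α)⁻¹ * (s * s' * s⁻¹ * s'⁻¹) * h.rep α =
      (h.rep α)⁻¹ * s * h.rep α * ((h.rep α)⁻¹ * s' * h.rep α) *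
        ((h.rep α)⁻¹ * s * h.rep α)⁻¹ * ((h.rep α)⁻¹ * s' * h.rep α)⁻¹ := by group
  rw [e]; exact this

theorem card_sT [Finite G] [Finite Ω] (α : Ω) : Nat.card (h.sT α) = h.qq := by
  obtain ⟨y, hy⟩ := h.exists_ne
  unfold sT
  rw [card_cj, h.card_T hy, h.qq_eq hy]

theorem card_sU [Finite G] (α : Ω) : Nat.card (h.sU α) = Nat.card U := by
  unfold sU
  rw [card_cj]

theorem card_two_pt [Finite G] [Finite Ω] {α β : Ω} (hαβ : α ≠ β) :
    Nat.card {g : G // g • α = α ∧ g • β = β} = h.qq - 1 := by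
  obtain ⟨y, hy⟩ := h.exists_ne
  obtain ⟨g, hgx, hgy⟩ := h.two_trans (Ne.symm hy) hαβ
  have hgx' : g⁻¹ • α = x := by rw [inv_smul_eq_iff, hgx]
  have hgy' : g⁻¹ • β = y := by rw [inv_smul_eq_iff, hgy]
  rw [h.qq_eq hy, Nat.add_sub_cancel]
  refine Nat.card_congr
    { toFun := fun d => ⟨g⁻¹ * (d : G) * g, Subgroup.mem_inf.mpr ⟨?_, ?_⟩⟩
      invFun := fun d => ⟨g * (d : G) * g⁻¹, ?_, ?_⟩
      left_inv := ?_
      right_inv := ?_ }
  · rw [MulAction.mem_stabilizer_iff, mul_smul, mul_smul, hgx, d.2.1, hgx']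
  · rw [MulAction.mem_stabilizer_iff, mul_smul, mul_smul, hgy, d.2.2, hgy']
  · have := (Subgroup.mem_inf.mp d.2).1
    rw [MulAction.mem_stabilizer_iff] at this
    rw [mul_smul, mul_smul, hgx', this, hgx]
  · have := (Subgroup.mem_inf.mp d.2).2
    rw [MulAction.mem_stabilizer_iff] at this
    rw [mul_smul, mul_smul, hgy', this, hgy]
  · intro d
    apply Subtype.ext
    change g * (g⁻¹ * (d : G) * g) * g⁻¹ = d
    group
  · intro d
    apply Subtype.ext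
    change g⁻¹ * (g * (d : G) * g⁻¹) * g = d
    group

theorem inverted' [Finite G] [Finite Ω] {α β : Ω} (hαβ : α ≠ β) :
    ∃ u : G, u * u = 1 ∧ u • α = β ∧ u • β = α ∧
      ∀ d : G, d • α = α → d • β = β → u * d * u⁻¹ = d⁻¹ := by
  haveI := h.simple
  obtain ⟨v, hv, hva, hvb, hinv⟩ := (Cfsg.Agent.S0345.result h.hZ hαβ).2
  exact ⟨v, invol_mul_self hv, hva, hvb, fun d hda hdb =>
    hinv d (Subgroup.mem_inf.mpr ⟨hda, hdb⟩)⟩

theorem invol_mem_sT [Finite G] [Finite Ω] {a : G} (ha : IsInv a) : ∃ α : Ω, a ∈ h.sT α := by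
  obtain ⟨y, hy⟩ := h.exists_ne
  have hoa : orderOf a = 2 := invol_of_mul_self ha.2 ha.1
  obtain ⟨α, hα, -⟩ := h.invol_fix_unique hoa
  refine ⟨α, ?_⟩
  rw [h.mem_sT_iff (h.rep_smul α)]
  have ho : orderOf ((h.rep α)⁻¹ * a * h.rep α) = 2 := by
    have := orderOf_conj_two (g := (h.rep α)⁻¹) hoa
    rwa [inv_inv] at this
  have hfix : ((h.rep α)⁻¹ * a * h.rep α) • x = x := by
    rw [mul_smul, mul_smul, h.rep_smul, hα, h.rep_inv_smul]
  have hU := h.invol_mem_U ho hfix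
  exact (((h.regHyp hy).inv_iff hU).mp ⟨invol_ne_one ho, invol_mul_self ho⟩).1

theorem cent_invol_sU [Finite G] [Finite Ω] {α : Ω} {t : G} (ht : t ∈ h.sT α) (ht1 : t ≠ 1)
    {g : G} (hg : g * t = t * g) : g ∈ h.sU α := by
  rw [h.mem_sT_iff (h.rep_smul α)] at ht
  rw [h.mem_sU_iff (h.rep_smul α)]
  have hne : (h.rep α)⁻¹ * t * h.rep α ≠ 1 := by
    intro e
    apply ht1
    calc t = h.rep α * ((h.rep α)⁻¹ * t * h.rep α) * (h.rep α)⁻¹ := by group
      _ = 1 := by rw [e]; group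
  apply h.cent_invol ht hne
  calc (h.rep α)⁻¹ * g * h.rep α * ((h.rep α)⁻¹ * t * h.rep α)
      = (h.rep α)⁻¹ * (g * t) * h.rep α := by group
    _ = (h.rep α)⁻¹ * (t * g) * h.rep α := by rw [hg]
    _ = (h.rep α)⁻¹ * t * h.rep α * ((h.rep α)⁻¹ * g * h.rep α) := by group

theorem qq_pow [Finite G] [Finite Ω] : ∃ n : ℕ, 2 ≤ n ∧ h.qq = 2 ^ n := by
  obtain ⟨y, hy⟩ := h.exists_ne
  obtain ⟨n, hn, hq⟩ := h.q_eq hy
  exact ⟨n, hn, by rw [h.qq_eq hy, hq]⟩

theorem card_U_cases [Finite G] [Finite Ω] : Nat.card U = h.qq ^ 2 ∨ Nat.card U = h.qq ^ 3 := by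
  obtain ⟨y, hy⟩ := h.exists_ne
  rw [h.qq_eq hy]
  exact h.card_U_sq_or_cube hy

/-- **the all-points adapter** -/
theorem residK [Finite G] [Finite Ω] {k : ℕ} (hk : Nat.card U = h.qq ^ k) :
    ResidK h.sU h.sT h.qq k where
  q_eq := h.qq_pow
  card_pts := by rw [h.card_pts, hk]
  two_trans := fun α β α' β' hab hab' => h.two_trans hab hab'
  three_pt := fun g α β γ hab hbc hac h1 h2 h3 => h.three_pt hab hbc hac h1 h2 h3
  card_D := fun α β hab => h.card_two_pt hab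
  inverted := fun α β hab => h.inverted' hab
  S_fix := fun α s hs => h.sU_fix hs
  S_conj := fun g α s hs => h.sU_conj g hs
  S_trans := fun α β γ hb hc => h.sU_trans hb hc
  S_free := fun α β hb s hs hsb => h.sU_free hb hs hsb
  T_le := h.sT_le
  mem_T := fun α s hs => h.mem_sT_iff_sq hs
  T_central := fun α t ht s hs => h.sT_central ht hs
  sq_mem := fun α s hs => h.sq_mem_sT hs
  comm_mem := fun α s hs s' hs' => h.comm_mem_sT hs hs'
  card_T := h.card_sT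
  invol := fun a ha => h.invol_mem_sT ha
  cent_invol := fun α t ht ht1 g hg => h.cent_invol_sU ht ht1 hg

end UHyp

end Cfsg.Agent.Lib.Helper6.ZTS
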