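import Mathlib
import Cfsg.Agent.S1139
import Cfsg.Agent.Lib.Helper6.ZTS6

/-!
# ZT-SUZUKI: the endgames of S0347 and S1147, modulo the two Part E outputs
(`ResidK S T q 3 → False` and `ResidK S T q 2 → q = 2 ^ n → Odd n`)
-/

set_option autoImplicit false
set_option linter.style.haveILetI false
set_option linter.unusedSectionVars false
set_option linter.unusedVariables false

namespace Cfsg.Agent.Lib.Helper6.ZTS

open Cfsg.Agent.Lib.Lead Cfsg.Agent.Lib.Helper6.TIC Cfsg.Agent.Lib.Helper6.ZK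

variable {G Ω : Type*} [Group G] [MulAction G Ω]

namespace UHyp

variable {x : Ω} {U : Subgroup G} (h : UHyp x U)
include h

/-- `|U| = q^2` and `q = 2^n` with `n` odd, given the two Part E outputs -/
theorem exists_odd [Finite G] [Finite Ω]
    (hK3 : ∀ (S T : Ω → Subgroup G) (q : ℕ), ResidK S T q 3 → False)
    (hK2 : ∀ (S T : Ω → Subgroup G) (q n : ℕ), ResidK S T q 2 → q = 2 ^ n → Odd n) :
    ∃ n : ℕ, Odd n ∧ 1 < n ∧ h.qq = 2 ^ n ∧ Nat.card U = h.qq ^ 2 := by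
  rcases h.card_U_cases with h2 | h3
  · obtain ⟨n, hn, hq⟩ := h.qq_pow
    exact ⟨n, hK2 _ _ _ n (h.residK h2) hq, by omega, hq, h2⟩
  · exact (hK3 _ _ _ (h.residK h3)).elim

/-- **S0347**, modulo Part E -/
theorem isSuzuki [Finite G] [Finite Ω]
    (hK3 : ∀ (S T : Ω → Subgroup G) (q : ℕ), ResidK S T q 3 → False)
    (hK2 : ∀ (S T : Ω → Subgroup G) (q n : ℕ), ResidK S T q 2 → q = 2 ^ n → Odd n) :
    Cfsg.IsSuzuki G := by
  obtain ⟨n, hodd, -, hq, hsq⟩ := h.exists_odd hK3 hK2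
  obtain ⟨y, hy⟩ := h.exists_ne
  rw [h.qq_eq hy] at hq hsq
  exact h.isSuzuki_of_sq hy hq hodd hsq

/-- **S1147**, modulo Part E -/
theorem suzuki_structure [Finite G] [Finite Ω]
    (hK3 : ∀ (S T : Ω → Subgroup G) (q : ℕ), ResidK S T q 3 → False)
    (hK2 : ∀ (S T : Ω → Subgroup G) (q n : ℕ), ResidK S T q 2 → q = 2 ^ n → Odd n)
    {b : Ω} (hb : x ≠ b) :
    ∃ n : ℕ, Odd n ∧ 1 < n ∧ Nat.card Ω = 2 ^ (2 * n) + 1 ∧
      IsCyclic ↥(MulAction.stabilizer G x ⊓ MulAction.stabilizer G b) ∧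
      Nat.card ↥(MulAction.stabilizer G x ⊓ MulAction.stabilizer G b) = 2 ^ n - 1 ∧
      ∃ (F : Type) (_ : Field F) (_ : Fintype F) (φ : F ≃+* F), Fintype.card F = 2 ^ n ∧
        Nonempty (U ≃* Cfsg.suzukiTypeA F (φ : F →+* F)) := by
  obtain ⟨n, hodd, hn1, hq, hsq⟩ := h.exists_odd hK3 hK2
  have hy : b ≠ x := Ne.symm hb
  haveI := h.simple
  refine ⟨n, hodd, hn1, ?_, (Cfsg.Agent.S0345.result h.hZ hb).1, ?_, ?_⟩
  · rw [h.card_pts, hsq, hq, ← pow_mul, mul_comm]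
  · have := h.qq_eq hy
    rw [hq] at this
    omega
  · have hR := h.regHyp hy
    have hc : Nat.card (Subgroup.center U) = h.qq := by
      rw [← card_centerOf, h.card_T hy, h.qq_eq hy]
    have hcard : Nat.card U = Nat.card (Subgroup.center U) ^ 2 := by rw [hc, hsq]
    obtain ⟨F, iF, iFt, φ, hF, -, -, hiso⟩ := Cfsg.Agent.S1139.result hR.isSuzuki hcard
    exact ⟨F, iF, iFt, φ, by rw [hF, hc, hq], hiso⟩

end UHyp

end Cfsg.Agent.Lib.Helper6.ZTS
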