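import Mathlib
import Cfsg.Agent.Lib.Helper3.CPDefs
import Cfsg.Agent.Lib.Helper1.EPPO1
import Cfsg.Agent.S0215
import Cfsg.Agent.Lib.Helper4.CPN

set_option autoImplicit false
set_option maxHeartbeats 4000000
set_option linter.unusedVariables false
set_option linter.unusedSectionVars false
set_option linter.style.longLine false
set_option linter.style.haveILetI false
set_option linter.deprecated false
set_option linter.unusedSimpArgs false

/-!
# S3396 piece R, part B: reduction lemmas for `CC` groups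

`CC.subgroup`, `CC.quotient`, facts on simple `CC` groups of order 168 (`exists_frob21`,
`exists_four`), the coprime lifting lemma `exists_lift` and `caseB` (an abelian normal subgroup
with simple quotient of order 168 is impossible in a `CC` group).
-/

namespace Cfsg.Agent.Lib.Helper6.CP
open Cfsg.Agent.Lib.Helper3.CP
open Cfsg.Agent.Lib.Helper1.EPPO

universe u

section basics
variable {G : Type*} [Group G]

theorem CC.isEPPO (hC : CC G) : IsEPPO G := by
  intro g hg
  rcases hC g hg with ⟨k, hk⟩ | ⟨hp, _⟩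
  · rw [hk]
    have hk0 : k ≠ 0 := by
      rintro rfl
      rw [pow_zero, orderOf_eq_one_iff] at hk
      exact hg hk
    exact (Nat.prime_two.isPrimePow).pow hk0
  · exact hp.isPrimePow

theorem CC.subgroup (hC : CC G) (H : Subgroup G) : CC ↥H := by
  intro g hg
  have hg' : (g : G) ≠ 1 := fun h => hg (Subtype.ext h)
  have := hC g hg'
  rwa [Subgroup.orderOf_coe] at this

theorem CC.quotient (hC : CC G) (N : Subgroup G) [N.Normal] : CC (G ⧸ N) := by
  intro x hx
  obtain ⟨g, rfl⟩ := QuotientGroup.mk_surjective x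
  have hg : g ≠ 1 := by rintro rfl; exact hx rfl
  have hdvd : orderOf (QuotientGroup.mk' N g) ∣ orderOf g := orderOf_map_dvd (QuotientGroup.mk' N) g
  have hne1 : orderOf (QuotientGroup.mk' N g) ≠ 1 := by
    rw [Ne, orderOf_eq_one_iff]; exact hx
  rcases hC g hg with ⟨k, hk⟩ | ⟨hp, h5⟩
  · left
    rw [hk] at hdvd
    obtain ⟨j, -, hj⟩ := (Nat.dvd_prime_pow Nat.prime_two).mp hdvd
    exact ⟨j, hj⟩
  · right
    rcases (Nat.dvd_prime hp).mp hdvd with h | h
    · exact absurd h hne1
    · have h' : orderOf (g : G ⧸ N) = orderOf g := h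
      rw [h']; exact ⟨hp, h5⟩

/-- In a `CC` group, commuting elements of orders `2^i` (`i>0`) and an odd prime cannot exist, etc. -/
theorem CC.false_of_commute (hC : CC G) {x y : G} (hxy : x * y = y * x) {r s i j : ℕ}
    (hr : r.Prime) (hs : s.Prime) (hrs : r ≠ s) (hi : 0 < i) (hj : 0 < j)
    (hx : orderOf x = r ^ i) (hy : orderOf y = s ^ j) : False :=
  (CC.isEPPO hC).false_of_commute hxy hr hs hrs hi hj hx hy

/-- the order of a non-identity element of a CC group: `2^k` with `k>0`, or an odd prime. -/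
theorem CC.order_cases (hC : CC G) {g : G} (hg : g ≠ 1) :
    (∃ k : ℕ, 0 < k ∧ orderOf g = 2 ^ k) ∨ ((orderOf g).Prime ∧ orderOf g ≠ 2) := by
  rcases hC g hg with ⟨k, hk⟩ | ⟨hp, _⟩
  · left
    refine ⟨k, ?_, hk⟩
    rcases Nat.eq_zero_or_pos k with h0 | h0
    · exfalso; rw [h0, pow_zero, orderOf_eq_one_iff] at hk; exact hg hk
    · exact h0
  · by_cases h2 : orderOf g = 2
    · left; exact ⟨1, one_pos, by rw [h2, pow_one]⟩
    · right; exact ⟨hp, h2⟩

end basics

theorem f7 : (168:ℕ).factorization 7 = 1 := by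
  rw [show (168:ℕ) = 7 * 24 by norm_num, Nat.factorization_mul (by norm_num) (by norm_num)]
  simp [Nat.Prime.factorization_self (by norm_num : Nat.Prime 7),
    Nat.factorization_eq_zero_of_not_dvd (by norm_num : ¬ 7 ∣ 24)]

theorem f2 : (168:ℕ).factorization 2 = 3 := by
  rw [show (168:ℕ) = 2 ^ 3 * 21 by norm_num, Nat.factorization_mul (by norm_num) (by norm_num),
    Finsupp.add_apply, Nat.factorization_pow, Finsupp.smul_apply,
    Nat.Prime.factorization_self Nat.prime_two,
    Nat.factorization_eq_zero_of_not_dvd (by norm_num : ¬ 2 ∣ 21)]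
  rfl

section simple168
variable {H : Type*} [Group H] [Finite H]

/-- A subgroup of order 21 which is a Frobenius group `7:3`. -/
theorem exists_frob21 (hs : IsSimpleGroup H) (hC : CC H) (h168 : Nat.card H = 168) :
    ∃ X : Subgroup H, Nat.card X = 21 ∧ ∃ z ∈ X, ∃ y ∈ X, orderOf z = 7 ∧ orderOf y = 3 ∧
      y * z * y⁻¹ ∈ Subgroup.zpowers z ∧ y * z * y⁻¹ ≠ z := by
  classical
  haveI : Fact (Nat.Prime 7) := ⟨by norm_num⟩
  haveI : Fact (Nat.Prime 3) := ⟨by norm_num⟩
  let P : Sylow 7 H := default
  have hP7 : Nat.card (P : Subgroup H) = 7 := by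
    rw [Sylow.card_eq_multiplicity, h168, f7, pow_one]
  have hidx : (P : Subgroup H).index = 24 := by
    have := (P : Subgroup H).card_mul_index
    rw [hP7, h168] at this
    omega
  have hn1 : Nat.card (Sylow 7 H) ≡ 1 [MOD 7] := card_sylow_modEq_one 7 H
  have hn2 : Nat.card (Sylow 7 H) ∣ 24 := hidx ▸ Sylow.card_dvd_index P
  have hn3 : Nat.card (Sylow 7 H) = 1 ∨ Nat.card (Sylow 7 H) = 8 := by
    have hle : Nat.card (Sylow 7 H) ≤ 24 := Nat.le_of_dvd (by norm_num) hn2
    have hmod : Nat.card (Sylow 7 H) % 7 = 1 := hn1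
    generalize Nat.card (Sylow 7 H) = n at *
    interval_cases n <;> simp_all <;> omega
  rcases hn3 with hn | hn
  · exfalso
    haveI : Subsingleton (Sylow 7 H) := (Nat.card_eq_one_iff_unique.mp hn).1
    have hnorm : (P : Subgroup H).Normal := Sylow.normal_of_subsingleton P
    rcases hs.eq_bot_or_eq_top_of_normal _ hnorm with h | h
    · rw [h, Subgroup.card_bot] at hP7; omega
    · rw [h, Subgroup.card_top, h168] at hP7; omega
  · have hNidx : (Subgroup.normalizer ((P : Subgroup H) : Set H)).index = 8 := by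
      have h := Sylow.card_eq_index_normalizer P
      rw [hn] at h
      exact h.symm
    have hN21 : Nat.card (Subgroup.normalizer ((P : Subgroup H) : Set H)) = 21 := by
      have := (Subgroup.normalizer ((P : Subgroup H) : Set H)).card_mul_index
      rw [hNidx, h168] at this
      omega
    refine ⟨Subgroup.normalizer ((P : Subgroup H) : Set H), hN21, ?_⟩
    -- element of order 3 in the normalizer
    obtain ⟨y', hy'⟩ := exists_prime_orderOf_dvd_card'
      (G := ↥(Subgroup.normalizer ((P : Subgroup H) : Set H))) 3 (by rw [hN21]; norm_num)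
    -- generator of P
    have hPne : (P : Subgroup H) ≠ ⊥ := by
      intro h; rw [h, Subgroup.card_bot] at hP7; omega
    obtain ⟨⟨z, hzP⟩, hz1'⟩ := (Subgroup.ne_bot_iff_exists_ne_one).mp hPne
    have hz1 : z ≠ 1 := fun h => hz1' (Subtype.ext h)
    have hz7 : orderOf z = 7 := by
      have h1 : orderOf z ∣ 7 := by
        have := Subgroup.orderOf_dvd_natCard (P : Subgroup H) hzP
        rwa [hP7] at this
      rcases (Nat.dvd_prime (by norm_num : Nat.Prime 7)).mp h1 with h | h
      · exact absurd (orderOf_eq_one_iff.mp h) hz1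
      · exact h
    have hPz : Subgroup.zpowers z = (P : Subgroup H) := by
      apply Subgroup.eq_of_le_of_card_ge
      · rw [Subgroup.zpowers_le]; exact hzP
      · rw [hP7, Nat.card_zpowers, hz7]
    have hy3 : orderOf (y' : H) = 3 := by rw [Subgroup.orderOf_coe]; exact hy'
    have hyn : (y' : H) * z * (y' : H)⁻¹ ∈ (P : Subgroup H) :=
      (Subgroup.mem_normalizer_iff.mp y'.2 z).mp hzP
    refine ⟨z, Subgroup.le_normalizer hzP, (y' : H), y'.2, hz7, hy3, ?_, ?_⟩
    · rw [hPz]; exact hyn
    · intro hcomm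
      have hc : (y' : H) * z = z * (y' : H) := by
        calc (y' : H) * z = ((y' : H) * z * (y' : H)⁻¹) * (y' : H) := by group
          _ = z * (y' : H) := by rw [hcomm]
      exact CC.false_of_commute hC hc (by norm_num : Nat.Prime 3) (by norm_num : Nat.Prime 7)
        (by norm_num) one_pos one_pos (by rw [hy3, pow_one]) (by rw [hz7, pow_one])

theorem orderOf_conj_eq {K : Type*} [Group K] (g t : K) : orderOf (g * t * g⁻¹) = orderOf t := by
  rw [← MulAut.conj_apply]; exact MulEquiv.orderOf_eq _ _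

theorem orderOf_pow_two_pow {K : Type*} [Group K] {x : K} {j : ℕ} (hj : 0 < j)
    (hx : orderOf x = 2 ^ j) : orderOf (x ^ (2 ^ (j - 1))) = 2 := by
  rw [orderOf_pow' x (by positivity), hx]
  have h1 : Nat.gcd (2 ^ j) (2 ^ (j - 1)) = 2 ^ (j - 1) :=
    Nat.gcd_eq_right (pow_dvd_pow 2 (Nat.sub_le j 1))
  rw [h1, Nat.pow_div (Nat.sub_le j 1) (by norm_num)]
  have : j - (j - 1) = 1 := by omega
  rw [this, pow_one]

/-- Two distinct commuting involutions inside a Sylow 2-subgroup (of order 8). -/
theorem exists_four (hs : IsSimpleGroup H) (hC : CC H) (h168 : Nat.card H = 168) :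
    ∃ X : Subgroup H, Nat.card X = 8 ∧ ∃ a ∈ X, ∃ b ∈ X, orderOf a = 2 ∧ orderOf b = 2 ∧
      a * b = b * a ∧ a ≠ b := by
  classical
  haveI : Fact (Nat.Prime 2) := ⟨Nat.prime_two⟩
  let S : Sylow 2 H := default
  have hS8 : Nat.card (S : Subgroup H) = 8 := by
    rw [Sylow.card_eq_multiplicity, h168, f2]; norm_num
  refine ⟨S, hS8, ?_⟩
  haveI : Nontrivial ↥(S : Subgroup H) := by
    rw [← Finite.one_lt_card_iff_nontrivial, hS8]; norm_num
  haveI := IsPGroup.center_nontrivial S.isPGroup'
  obtain ⟨c, hc1⟩ := exists_ne (1 : ↥(Subgroup.center ↥(S : Subgroup H)))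
  have hcS : ((c : ↥(S : Subgroup H)) : H) ∈ (S : Subgroup H) := (c : ↥(S : Subgroup H)).2
  have hcne : ((c : ↥(S : Subgroup H)) : H) ≠ 1 := by
    intro h
    apply hc1
    apply Subtype.ext
    apply Subtype.ext
    exact h
  have hccomm : ∀ x ∈ (S : Subgroup H), x * ((c : ↥(S : Subgroup H)) : H) = ((c : ↥(S : Subgroup H)) : H) * x := by
    intro x hx
    have := Subgroup.mem_center_iff.mp c.2 ⟨x, hx⟩
    exact congrArg Subtype.val this
  obtain ⟨j, hj, hcj⟩ := orderOf_eq_of_isPGroup Nat.prime_two S.isPGroup' hcS hcne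
  set t : H := ((c : ↥(S : Subgroup H)) : H) ^ (2 ^ (j - 1)) with ht
  have ht2 : orderOf t = 2 := orderOf_pow_two_pow hj hcj
  have htS : t ∈ (S : Subgroup H) := Subgroup.pow_mem _ hcS _
  have htcomm : ∀ x ∈ (S : Subgroup H), x * t = t * x := by
    intro x hx
    have h1 : Commute x ((c : ↥(S : Subgroup H)) : H) := hccomm x hx
    exact (h1.pow_right _)
  by_cases hex : ∃ b ∈ (S : Subgroup H), orderOf b = 2 ∧ b ≠ t
  · obtain ⟨b, hbS, hb2, hbt⟩ := hex
    exact ⟨t, htS, b, hbS, ht2, hb2, (htcomm b hbS).symm, fun h => hbt h.symm⟩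
  · exfalso
    push_neg at hex
    have hiso : ∀ g : H, g * t * g⁻¹ ∈ S → g * t * g⁻¹ = t := by
      intro g hg
      exact hex _ hg (by rw [orderOf_conj_eq, ht2])
    obtain ⟨N, hNn, hNodd, hNc⟩ := Cfsg.Agent.S0215.result S t ht2 htS hiso
    have ht1 : t ≠ 1 := by
      intro h; rw [h, orderOf_one] at ht2; omega
    rcases hs.eq_bot_or_eq_top_of_normal N hNn with h | h
    · -- t central
      have htc : t ∈ Subgroup.center H := by
        rw [Subgroup.mem_center_iff]
        intro g
        have := hNc g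
        rw [h, Subgroup.mem_bot] at this
        have h2 : t * g = g * t := by
          calc t * g = (t * g * t⁻¹ * g⁻¹) * (g * t) := by group
            _ = g * t := by rw [this, one_mul]
        exact h2.symm
      rcases hs.eq_bot_or_eq_top_of_normal (Subgroup.center H) inferInstance with h' | h'
      · rw [h', Subgroup.mem_bot] at htc; exact ht1 htc
      · obtain ⟨X, -, z, -, y, -, -, -, -, hne⟩ := exists_frob21 hs hC h168
        apply hne
        have : z ∈ Subgroup.center H := by rw [h']; exact Subgroup.mem_top z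
        have h3 := Subgroup.mem_center_iff.mp this y
        calc y * z * y⁻¹ = z * y * y⁻¹ := by rw [h3]
          _ = z := by group
    · rw [h, Subgroup.card_top, h168] at hNodd
      exact absurd hNodd (by decide)

end simple168

section lift
variable {G : Type*} [Group G] [Finite G]

theorem exists_lift (A : Subgroup G) [A.Normal] (X : Subgroup (G ⧸ A))
    (hcop : (Nat.card X).Coprime (Nat.card A)) :
    ∃ K : Subgroup G, Nat.card K = Nat.card X ∧ K ⊓ A = ⊥ ∧
      K.map (QuotientGroup.mk' A) = X := by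
  classical
  set L : Subgroup G := X.comap (QuotientGroup.mk' A) with hL
  have hAL : A ≤ L := by
    intro a ha
    rw [hL, Subgroup.mem_comap]
    have : (QuotientGroup.mk' A) a = 1 := (QuotientGroup.eq_one_iff a).mpr ha
    rw [this]; exact X.one_mem
  have hLcard : Nat.card L = Nat.card A * Nat.card X :=
    QuotientGroup.card_preimage_mk A (X : Set (G ⧸ A))
  -- the normal subgroup A' of L
  set A' : Subgroup ↥L := A.subgroupOf L with hA'
  haveI : A'.Normal := by rw [hA']; infer_instance
  have hA'card : Nat.card A' = Nat.card A :=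
    Nat.card_congr (Subgroup.subgroupOfEquivOfLe hAL).toEquiv
  have hA'idx : A'.index = Nat.card X := by
    have h1 := A'.card_mul_index
    rw [hA'card, hLcard] at h1
    exact Nat.eq_of_mul_eq_mul_left Nat.card_pos h1
  have hcop' : (Nat.card A').Coprime A'.index := by
    rw [hA'card, hA'idx]; exact hcop.symm
  obtain ⟨K', hK'⟩ := Subgroup.exists_right_complement'_of_coprime hcop'
  have hK'card : Nat.card K' = Nat.card X := by
    rw [← hA'idx]; exact hK'.symm.index_eq_card.symm
  set K : Subgroup G := K'.map L.subtype with hK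
  have hKcard : Nat.card K = Nat.card X := by
    rw [hK, Subgroup.card_map_of_injective L.subtype_injective, hK'card]
  have hKA : K ⊓ A = ⊥ := Subgroup.inf_eq_bot_of_coprime (by rw [hKcard]; exact hcop)
  refine ⟨K, hKcard, hKA, ?_⟩
  -- the image of K is inside X and has the same cardinality
  have hle : K.map (QuotientGroup.mk' A) ≤ X := by
    rintro _ ⟨k, hk, rfl⟩
    rw [hK] at hk
    obtain ⟨k', -, rfl⟩ := hk
    exact k'.2
  apply Subgroup.eq_of_le_of_card_ge hle
  -- injectivity of mk' on K
  have hinj : Function.Injective ((QuotientGroup.mk' A).comp K.subtype) := by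
    rw [injective_iff_map_eq_one]
    intro k hk
    have hkA : (k : G) ∈ A := (QuotientGroup.eq_one_iff (k : G)).mp hk
    have : (k : G) ∈ K ⊓ A := ⟨k.2, hkA⟩
    rw [hKA, Subgroup.mem_bot] at this
    exact Subtype.ext this
  have hrange : ((QuotientGroup.mk' A).comp K.subtype).range = K.map (QuotientGroup.mk' A) := by
    rw [MonoidHom.range_comp, Subgroup.range_subtype]
  rw [← hrange, ← hKcard]
  exact le_of_eq (Nat.card_congr (MonoidHom.ofInjective hinj).toEquiv)

end lift

section caseB
variable {G : Type*} [Group G] [Finite G]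

theorem caseB (hC : CC G) (A : Subgroup G) [hAn : A.Normal]
    (hAab : ∀ a ∈ A, ∀ b ∈ A, a * b = b * a) (hA1 : A ≠ ⊥)
    (hs : IsSimpleGroup (G ⧸ A)) (h168 : Nat.card (G ⧸ A) = 168) : False := by
  classical
  have hCq : CC (G ⧸ A) := CC.quotient hC A
  have key : ∀ K : Subgroup G, K ⊓ A = ⊥ → ∀ w ∈ K, (QuotientGroup.mk' A) w = 1 → w = 1 := by
    intro K hK w hw h
    have hwA : w ∈ A := (QuotientGroup.eq_one_iff w).mp h
    have : w ∈ K ⊓ A := ⟨hw, hwA⟩
    rwa [hK, Subgroup.mem_bot] at this
  by_cases h2 : ∃ t ∈ A, orderOf t = 2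
  · -- B1 : A is a 2-group
    obtain ⟨t, htA, ht2⟩ := h2
    have hA2 : ∀ w ∈ A, w ≠ 1 → ∃ k, 0 < k ∧ orderOf w = 2 ^ k := by
      intro w hw hw1
      rcases CC.order_cases hC hw1 with h | ⟨hp, hne2⟩
      · exact h
      · exfalso
        exact CC.false_of_commute hC (hAab t htA w hw) Nat.prime_two hp (Ne.symm hne2) one_pos
          one_pos (by rw [ht2, pow_one]) (by rw [pow_one])
    have hApg : IsPGroup 2 A := by
      intro w
      by_cases hw1 : w = 1
      · exact ⟨0, by rw [hw1]; simp⟩
      · have hw1' : (w : G) ≠ 1 := fun h => hw1 (Subtype.ext h)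
        obtain ⟨k, -, hk⟩ := hA2 w w.2 hw1'
        refine ⟨k, ?_⟩
        apply Subtype.ext
        rw [Subgroup.coe_pow, ← hk]; exact pow_orderOf_eq_one _
    haveI : Fact (Nat.Prime 2) := ⟨Nat.prime_two⟩
    obtain ⟨n, hn⟩ := hApg.exists_card_eq
    obtain ⟨X, hX21, z', hz'X, y', hy'X, hz'7, hy'3, hnorm', hnc'⟩ := exists_frob21 hs hCq h168
    have hcop : (Nat.card X).Coprime (Nat.card A) := by
      rw [hX21, hn]; exact Nat.Coprime.pow_right n (by norm_num)
    obtain ⟨K, hKcard, hKA, hKmap⟩ := exists_lift A X hcop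
    have hz'K : z' ∈ K.map (QuotientGroup.mk' A) := by rw [hKmap]; exact hz'X
    have hy'K : y' ∈ K.map (QuotientGroup.mk' A) := by rw [hKmap]; exact hy'X
    obtain ⟨z, hzK, hzz'⟩ := hz'K
    obtain ⟨y, hyK, hyy'⟩ := hy'K
    have hz1 : z ≠ 1 := by
      rintro rfl
      rw [map_one] at hzz'
      rw [← hzz', orderOf_one] at hz'7; omega
    have hy1 : y ≠ 1 := by
      rintro rfl
      rw [map_one] at hyy'
      rw [← hyy', orderOf_one] at hy'3; omega
    haveI : Fact (Nat.Prime 7) := ⟨by norm_num⟩
    haveI : Fact (Nat.Prime 3) := ⟨by norm_num⟩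
    have hz7 : orderOf z = 7 := by
      apply orderOf_eq_prime _ hz1
      apply key K hKA _ (K.pow_mem hzK 7)
      rw [map_pow, hzz', ← hz'7]; exact pow_orderOf_eq_one _
    have hy3 : orderOf y = 3 := by
      apply orderOf_eq_prime _ hy1
      apply key K hKA _ (K.pow_mem hyK 3)
      rw [map_pow, hyy', ← hy'3]; exact pow_orderOf_eq_one _
    obtain ⟨i, hi⟩ := Subgroup.mem_zpowers_iff.mp hnorm'
    have hnorm : y * z * y⁻¹ ∈ Subgroup.zpowers z := by
      have : y * z * y⁻¹ * (z ^ i)⁻¹ = 1 := by
        apply key K hKA _ (K.mul_mem (K.mul_mem (K.mul_mem hyK hzK) (K.inv_mem hyK))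
          (K.inv_mem (K.zpow_mem hzK i)))
        rw [map_mul, map_mul, map_mul, map_inv, map_inv, map_zpow, hzz', hyy', hi]
        group
      rw [mul_inv_eq_one] at this
      rw [this]; exact Subgroup.zpow_mem_zpowers z i
    have hnc : y * z * y⁻¹ ≠ z := by
      intro h
      apply hnc'
      rw [← hzz', ← hyy', ← map_mul, ← map_inv, ← map_mul, h]
    obtain ⟨w, hwA, hw1, hyw⟩ := Cfsg.Agent.Lib.Helper4.CP.N1 A hAab hA1 z y 7 3
      (by norm_num) (by norm_num) hz7 hy3
      (fun w hw => hAn.conj_mem w hw z) (fun w hw => hAn.conj_mem w hw y) hnorm hnc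
      (by rw [hn]; exact Nat.Coprime.pow_left n (by norm_num))
      (by
        intro w hw hzw
        by_contra hw1
        obtain ⟨k, hk, hwk⟩ := hA2 w hw hw1
        have hc : z * w = w * z := by
          calc z * w = (z * w * z⁻¹) * z := by group
            _ = w * z := by rw [hzw]
        exact CC.false_of_commute hC hc (by norm_num : Nat.Prime 7) Nat.prime_two (by norm_num)
          one_pos hk (by rw [hz7, pow_one]) hwk)
    obtain ⟨k, hk, hwk⟩ := hA2 w hwA hw1
    have hc : y * w = w * y := by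
      calc y * w = (y * w * y⁻¹) * y := by group
        _ = w * y := by rw [hyw]
    exact CC.false_of_commute hC hc (by norm_num : Nat.Prime 3) Nat.prime_two (by norm_num)
      one_pos hk (by rw [hy3, pow_one]) hwk
  · -- B2 : A has odd order
    push_neg at h2
    haveI : Fact (Nat.Prime 2) := ⟨Nat.prime_two⟩
    have hAodd : ¬ 2 ∣ Nat.card A := by
      intro hdvd
      obtain ⟨t, ht⟩ := exists_prime_orderOf_dvd_card' (G := ↥A) 2 hdvd
      exact h2 t t.2 (by rw [Subgroup.orderOf_coe]; exact ht)
    obtain ⟨X, hX8, a', ha'X, b', hb'X, ha'2, hb'2, hab', hne'⟩ := exists_four hs hCq h168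
    have hcop : (Nat.card X).Coprime (Nat.card A) := by
      rw [hX8, show (8:ℕ) = 2 ^ 3 by norm_num]
      exact Nat.Coprime.pow_left 3 ((Nat.Prime.coprime_iff_not_dvd Nat.prime_two).mpr hAodd)
    obtain ⟨K, hKcard, hKA, hKmap⟩ := exists_lift A X hcop
    have ha'K : a' ∈ K.map (QuotientGroup.mk' A) := by rw [hKmap]; exact ha'X
    have hb'K : b' ∈ K.map (QuotientGroup.mk' A) := by rw [hKmap]; exact hb'X
    obtain ⟨a, haK, haa'⟩ := ha'K
    obtain ⟨b, hbK, hbb'⟩ := hb'K
    have ha1 : a ≠ 1 := by
      rintro rfl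
      rw [map_one] at haa'
      rw [← haa', orderOf_one] at ha'2; omega
    have hb1 : b ≠ 1 := by
      rintro rfl
      rw [map_one] at hbb'
      rw [← hbb', orderOf_one] at hb'2; omega
    have ha2 : orderOf a = 2 := by
      apply orderOf_eq_prime _ ha1
      apply key K hKA _ (K.pow_mem haK 2)
      rw [map_pow, haa', ← ha'2]; exact pow_orderOf_eq_one _
    have hb2 : orderOf b = 2 := by
      apply orderOf_eq_prime _ hb1
      apply key K hKA _ (K.pow_mem hbK 2)
      rw [map_pow, hbb', ← hb'2]; exact pow_orderOf_eq_one _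
    have hab : a * b = b * a := by
      have : a * b * (b * a)⁻¹ = 1 := by
        apply key K hKA _ (K.mul_mem (K.mul_mem haK hbK) (K.inv_mem (K.mul_mem hbK haK)))
        rw [map_mul, map_mul, map_inv, map_mul, haa', hbb', hab']
        group
      exact mul_inv_eq_one.mp this
    have hab_ne : a ≠ b := by
      intro h; apply hne'; rw [← haa', ← hbb', h]
    have hb' : b ∉ Subgroup.zpowers a := by
      intro hmem
      obtain ⟨i, hi⟩ := Subgroup.mem_zpowers_iff.mp hmem
      have hasq : a ^ (2 : ℤ) = 1 := by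
        rw [zpow_ofNat, ← ha2]; exact pow_orderOf_eq_one a
      rcases Int.even_or_odd' i with ⟨m, hm | hm⟩
      · rw [hm, zpow_mul, hasq, one_zpow] at hi
        exact hb1 hi.symm
      · rw [hm, zpow_add, zpow_mul, hasq, one_zpow, one_mul, zpow_one] at hi
        exact hab_ne hi
    obtain ⟨c, hc, hc1, w, hwA, hw1, hcw⟩ := Cfsg.Agent.Lib.Helper4.CP.N2 A hAab hA1 a b 2
      Nat.prime_two ha2 hb2 hab hb'
      (fun w hw => hAn.conj_mem w hw a) (fun w hw => hAn.conj_mem w hw b)
      ((Nat.Prime.coprime_iff_not_dvd Nat.prime_two).mpr hAodd).symm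
    have hcK : c ∈ K := by
      refine (Subgroup.closure_le K).mpr ?_ hc
      intro x hx
      rcases hx with h | h
      · rw [h]; exact haK
      · rw [Set.mem_singleton_iff.mp h]; exact hbK
    have hc8 : orderOf c ∣ 2 ^ 3 := by
      have := Subgroup.orderOf_dvd_natCard K hcK
      rw [hKcard, hX8] at this
      exact this
    obtain ⟨k, -, hck⟩ := (Nat.dvd_prime_pow Nat.prime_two).mp hc8
    have hk0 : 0 < k := by
      rcases Nat.eq_zero_or_pos k with h | h
      · exfalso; rw [h, pow_zero, orderOf_eq_one_iff] at hck; exact hc1 hck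
      · exact h
    have hcomm : c * w = w * c := by
      calc c * w = (c * w * c⁻¹) * c := by group
        _ = w * c := by rw [hcw]
    rcases CC.order_cases hC hw1 with ⟨m, hm, hwm⟩ | ⟨hp, hne2⟩
    · apply hAodd
      have := Subgroup.orderOf_dvd_natCard A hwA
      rw [hwm] at this
      exact dvd_trans (dvd_pow_self 2 hm.ne') this
    · exact CC.false_of_commute hC hcomm Nat.prime_two hp (Ne.symm hne2) hk0 one_pos hck
        (by rw [pow_one])

end caseB

end Cfsg.Agent.Lib.Helper6.CP
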