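import Mathlib
import Cfsg.Agent.Lib.Helper3.CPDefs
import Cfsg.Agent.Lib.Helper1.EPPO1
import Cfsg.Agent.Lib.Helper6.CPRB
import Cfsg.Agent.Lib.Helper4.CPRA

set_option autoImplicit false
set_option maxHeartbeats 4000000
set_option linter.unusedVariables false
set_option linter.unusedSectionVars false
set_option linter.style.longLine false
set_option linter.style.haveILetI false
set_option linter.deprecated false

/-!
# S3396 piece R: a minimal non-solvable `CC` group is simple

`simple_of_minimal` (statement verbatim from helper3's farm tip): `caseB` (this seat, `CPRB`) handles a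
solvable proper normal subgroup, `caseA` (helper4, `CPRA`) a non-solvable one.
-/

namespace Cfsg.Agent.Lib.Helper6.CP
open Cfsg.Agent.Lib.Helper3.CP

universe u

theorem simple_of_minimal {G : Type u} [Group G] [Finite G] (hC : CC G) (hns : ¬ IsSolvable G)
    (IH : ∀ (H : Type u) [Group H] [Finite H], Nat.card H < Nat.card G → CC H → ¬ IsSolvable H →
      IsSimpleGroup H ∧ Nat.card H = 168) : IsSimpleGroup G := by
  have hns : ¬ Group.IsSolvable G := hns
  have IH : ∀ (H : Type u) [Group H] [Finite H], Nat.card H < Nat.card G → CC H →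
      ¬ Group.IsSolvable H → IsSimpleGroup H ∧ Nat.card H = 168 :=
    fun H _ _ h1 h2 h3 => IH H h1 h2 h3
  haveI : Nontrivial G := by
    by_contra h
    rw [not_nontrivial_iff_subsingleton] at h
    exact hns inferInstance
  refine { exists_pair_ne := exists_pair_ne G, eq_bot_or_eq_top_of_normal := ?_ }
  intro N hNn
  haveI := hNn
  by_contra hne
  push_neg at hne
  obtain ⟨hb, ht⟩ := hne
  have hcardlt : ∀ K : Subgroup G, K ≠ ⊤ → Nat.card K < Nat.card G := by
    intro K hK
    have h1 : Nat.card K ≤ Nat.card G := Subgroup.card_le_card_group K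
    rcases Nat.lt_or_ge (Nat.card K) (Nat.card G) with h | h
    · exact h
    · exact absurd (Subgroup.eq_top_of_card_eq K (le_antisymm h1 h)) hK
  by_cases hNsol : Group.IsSolvable ↥N
  · -- Case B
    obtain ⟨A, hAn, hA1, hAR, hAab⟩ :=
      Cfsg.Agent.Lib.Helper1.EPPO.exists_normal_abelian_of_solvable_normal N hNsol hb
    haveI := hAn
    haveI hAsol : Group.IsSolvable ↥A :=
      Group.isSolvable_of_comm (fun a b => Subtype.ext (hAab a a.2 b b.2))
    have hQns : ¬ Group.IsSolvable (G ⧸ A) := by
      intro hq
      haveI := hq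
      exact hns (Group.isSolvable_of_ker_le_range (A.subtype) (QuotientGroup.mk' A) (by
        rw [QuotientGroup.ker_mk']; intro x hx; exact ⟨⟨x, hx⟩, rfl⟩))
    have hQlt : Nat.card (G ⧸ A) < Nat.card G := by
      have h1 := A.card_mul_index
      have h2 : Nat.card (G ⧸ A) = A.index := rfl
      have h3 : 1 < Nat.card A := by
        rw [Subgroup.one_lt_card_iff_ne_bot]; exact hA1
      rw [h2]
      have h4 : 0 < A.index := Nat.pos_of_ne_zero (Subgroup.index_ne_zero_of_finite)
      nlinarith
    obtain ⟨hQs, hQ168⟩ := IH (G ⧸ A) hQlt (CC.quotient hC A) hQns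
    exact caseB hC A hAab hA1 hQs hQ168
  · -- Case A
    obtain ⟨hNs, hN168⟩ := IH ↥N (hcardlt N ht) (CC.subgroup hC N) hNsol
    refine Cfsg.Agent.Lib.Helper4.CP.caseA hC N hNs hN168 ht ?_
    intro H hNH
    by_contra hcon
    push_neg at hcon
    obtain ⟨h1, h2⟩ := hcon
    have hHns : ¬ Group.IsSolvable ↥H := by
      intro hH
      haveI := hH
      apply hNsol
      exact Group.isSolvable_of_isSolvable_injective (Subgroup.inclusion_injective hNH)
    obtain ⟨hHs, hH168⟩ := IH ↥H (hcardlt H h2) (CC.subgroup hC H) hHns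
    -- N.subgroupOf H is normal in H, so ⊥ or ⊤
    have hnorm : (N.subgroupOf H).Normal := inferInstance
    rcases hHs.eq_bot_or_eq_top_of_normal _ hnorm with h | h
    · rw [Subgroup.subgroupOf_eq_bot] at h
      have : N ⊓ H = N := inf_eq_left.mpr hNH
      rw [disjoint_iff, this] at h
      exact hb h
    · rw [Subgroup.subgroupOf_eq_top] at h
      exact h1 (le_antisymm h hNH)

end Cfsg.Agent.Lib.Helper6.CP
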