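import Mathlib
import Cfsg.Agent.Lib.Helper6.IndFun

set_option autoImplicit false

namespace Cfsg.Agent.Lib.Helper6

open Module
open scoped ComplexConjugate

section

variable {G : Type*} [Group G]
variable {V : Type*} [AddCommGroup V] [Module ℂ V]

/-- The fixed space of a subgroup. -/
noncomputable def fixedSpace (ρ : Representation ℂ G V) (H : Subgroup G) : Submodule ℂ V :=
  Representation.invariants (ρ.comp H.subtype)

theorem mem_fixedSpace (ρ : Representation ℂ G V) (H : Subgroup G) (v : V) :
    v ∈ fixedSpace ρ H ↔ ∀ h ∈ H, ρ h v = v := by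
  unfold fixedSpace
  rw [Representation.mem_invariants]
  constructor
  · intro h x hx
    exact h ⟨x, hx⟩
  · intro h x
    exact h x x.2

/-- The multiplicity of the principal character in a restriction is the dimension of the
fixed space. -/
theorem classInner_restrict_one [FiniteDimensional ℂ V] (ρ : Representation ℂ G V)
    (H : Subgroup G) [Fintype H] :
    Cfsg.classInner (fun x : H => ρ.character x) (fun _ => (1 : ℂ))
      = (finrank ℂ (fixedSpace ρ H) : ℂ) := by
  have : Invertible (Nat.card H : ℂ) := invertibleOfNonzero (card_ne_zero_complex H)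
  unfold Cfsg.classInner fixedSpace
  rw [← Representation.card_inv_mul_sum_char_eq_finrank]
  congr 1
  apply Finset.sum_congr rfl
  intro h _
  simp only [map_one, mul_one]
  rfl

theorem fixedSpace_mono (ρ : Representation ℂ G V) {H K : Subgroup G} (h : H ≤ K) :
    fixedSpace ρ K ≤ fixedSpace ρ H := by
  intro v hv
  rw [mem_fixedSpace] at hv ⊢
  intro x hx
  exact hv x (h hx)

theorem fixedSpace_inf_le_sup (ρ : Representation ℂ G V) (H K : Subgroup G) :
    fixedSpace ρ H ⊓ fixedSpace ρ K ≤ fixedSpace ρ (H ⊔ K) := by
  intro v hv
  rw [Submodule.mem_inf, mem_fixedSpace, mem_fixedSpace] at hv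
  rw [mem_fixedSpace]
  -- the stabilizer of `v` is a subgroup
  let S : Subgroup G :=
    { carrier := {g | ρ g v = v}
      mul_mem' := fun {a b} ha hb => by
        show ρ (a * b) v = v
        rw [map_mul, Module.End.mul_apply]
        have hb' : ρ b v = v := hb
        have ha' : ρ a v = v := ha
        rw [hb', ha']
      one_mem' := by
        show ρ 1 v = v
        rw [map_one]; rfl
      inv_mem' := fun {a} ha => by
        show ρ a⁻¹ v = v
        have ha' : ρ a v = v := ha
        have : ρ a⁻¹ (ρ a v) = v := by
          rw [← Module.End.mul_apply, ← map_mul, inv_mul_cancel, map_one]; rfl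
        rw [ha'] at this
        exact this }
  have hS : H ⊔ K ≤ S := sup_le (fun x hx => hv.1 x hx) (fun x hx => hv.2 x hx)
  intro x hx
  exact hS hx

end

end Cfsg.Agent.Lib.Helper6
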