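import Mathlib
import Cfsg.Agent.Lib.Helper8.FP4a

/-! Ward's theorem, part A: pairs of commuting automorphisms of order dividing `p`. -/

set_option autoImplicit false

namespace Cfsg.Agent.Lib.Helper6.Wd

open Cfsg.Agent.Lib.Helper8.FP4

variable {G : Type*} [Group G]

/-- fixed-point subgroup of an automorphism -/
def fix (σ : MulAut G) : Subgroup G where
  carrier := {x | σ x = x}
  one_mem' := map_one σ
  mul_mem' := by
    intro x y hx hy
    simp only [Set.mem_ofPred_eq] at hx hy ⊢
    rw [map_mul, hx, hy]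
  inv_mem' := by
    intro x hx
    simp only [Set.mem_ofPred_eq] at hx ⊢
    rw [map_inv, hx]

theorem mem_fix {σ : MulAut G} {x : G} : x ∈ fix σ ↔ σ x = x := Iff.rfl

theorem pow_succ_apply' (σ : MulAut G) (k : ℕ) (g : G) : (σ ^ (k + 1)) g = (σ ^ k) (σ g) := by
  rw [pow_succ, MulAut.mul_apply]

theorem pow_fix {σ : MulAut G} {x : G} (h : σ x = x) (k : ℕ) : (σ ^ k) x = x := by
  induction k with
  | zero => simp
  | succ k ih => rw [pow_succ_apply, ih, h]

theorem pow_pow_apply (σ : MulAut G) (j m : ℕ) (x : G) (h : (σ ^ j) x = x) :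
    (σ ^ (j * m)) x = x := by
  rw [pow_mul]
  exact pow_fix h m

theorem fix_of_pow_fix {p : ℕ} [hp : Fact p.Prime] {σ : MulAut G} (hσ : σ ^ p = 1) {j : ℕ}
    (hj : ¬ p ∣ j) {x : G} (h : (σ ^ j) x = x) : σ x = x := by
  have hcop : Nat.Coprime j p := ((Nat.Prime.coprime_iff_not_dvd hp.out).mpr hj).symm
  obtain ⟨m, -, hm⟩ := Nat.exists_mul_mod_eq_one_of_coprime hcop hp.out.one_lt
  have h1 := pow_pow_apply σ j m x h
  rw [pow_eq_pow_mod (j * m) hσ, hm, pow_one] at h1
  exact h1

theorem comm_pow_apply {σ τ : MulAut G} (h : σ * τ = τ * σ) (k : ℕ) (x : G) :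
    (σ ^ k) (τ x) = τ ((σ ^ k) x) := by
  have hc : Commute (σ ^ k) τ := (show Commute σ τ from h).pow_left k
  have := congrArg (fun t : MulAut G => t x) hc.eq
  simpa [MulAut.mul_apply] using this

theorem Inv.mul {σ τ : MulAut G} {H : Subgroup G} (h1 : Inv σ H) (h2 : Inv τ H) :
    Inv (σ * τ) H := by
  intro x hx
  rw [MulAut.mul_apply]
  exact h1 _ (h2 x hx)

theorem Inv.fix_of_comm {σ τ : MulAut G} (h : σ * τ = τ * σ) : Inv τ (fix σ) := by
  intro x hx
  rw [mem_fix] at hx ⊢
  have := comm_pow_apply h 1 x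
  simp only [pow_one] at this
  rw [hx] at this
  exact this

theorem Inv.inf' {σ : MulAut G} {H K : Subgroup G} (hH : Inv σ H) (hK : Inv σ K) :
    Inv σ (H ⊓ K) := fun x hx => ⟨hH x hx.1, hK x hx.2⟩

theorem Inv.top (σ : MulAut G) : Inv σ (⊤ : Subgroup G) := fun _ _ => Subgroup.mem_top _

theorem Inv.bot (σ : MulAut G) : Inv σ (⊥ : Subgroup G) := by
  intro x hx
  rw [Subgroup.mem_bot] at hx ⊢
  rw [hx, map_one]

theorem Inv.apply_mem_iff [Finite G] {σ : MulAut G} {H : Subgroup G} (h : Inv σ H) (x : G) :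
    σ x ∈ H ↔ x ∈ H := by
  constructor
  · intro hx
    obtain ⟨y, hy, hyx⟩ := h.exists_preimage hx
    have : y = x := σ.injective hyx
    rwa [← this]
  · exact h x

/-- the fixed point lemma for cosets -/
theorem exists_fixed_in_coset [Finite G] {p : ℕ} [hp : Fact p.Prime] (σ : MulAut G)
    (hσ : σ ^ p = 1) (N : Subgroup G) (hN : Inv σ N) (hpN : ¬ p ∣ Nat.card N) (g : G)
    (hg : g⁻¹ * σ g ∈ N) : ∃ n ∈ N, σ (g * n) = g * n := by
  classical
  haveI : Fintype ↥N := Fintype.ofFinite ↥N
  have hmem : ∀ n : ↥N, g⁻¹ * σ (g * n) ∈ N := by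
    intro n
    have : g⁻¹ * σ (g * n) = (g⁻¹ * σ g) * σ n := by rw [map_mul]; group
    rw [this]; exact N.mul_mem hg (hN n n.2)
  let f : Function.End ↥N := fun n => ⟨g⁻¹ * σ (g * n), hmem n⟩
  have hf : ∀ k : ℕ, ∀ n : ↥N, (((f ^ k) n : ↥N) : G) = g⁻¹ * (σ ^ k) (g * n) := by
    intro k
    induction k with
    | zero => intro n; rw [pow_zero, pow_zero]; change (n : G) = g⁻¹ * (g * (n : G)); rw [inv_mul_cancel_left]
    | succ k ih =>
      intro n
      rw [pow_succ']
      change g⁻¹ * σ (g * (((f ^ k) n : ↥N) : G)) = _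
      rw [ih n, pow_succ_apply, mul_inv_cancel_left]
  have hfp : f ^ p ^ 1 = 1 := by
    funext n
    apply Subtype.ext
    rw [pow_one, hf, hσ]
    change g⁻¹ * (g * (n : G)) = ((1 : Function.End ↥N) n : ↥N)
    rw [inv_mul_cancel_left]
    rfl
  have hmod := Equiv.Perm.card_fixedPoints_modEq (f := f) (p := p) (n := 1) hfp
  have hne : Nonempty (Function.fixedPoints f) := by
    by_contra hcon
    rw [not_nonempty_iff] at hcon
    have h0 : Fintype.card (Function.fixedPoints f) = 0 := Fintype.card_eq_zero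
    rw [h0] at hmod
    apply hpN
    rw [Nat.card_eq_fintype_card]
    exact (Nat.modEq_zero_iff_dvd).mp hmod
  obtain ⟨⟨n, hn⟩⟩ := hne
  refine ⟨n, n.2, ?_⟩
  have h1 : ((f n : ↥N) : G) = n := congrArg Subtype.val hn
  change g⁻¹ * σ (g * (n : G)) = n at h1
  have h2 : σ (g * (n : G)) = g * (g⁻¹ * σ (g * (n : G))) := by rw [mul_inv_cancel_left]
  rw [h2, h1]

/-- the standing hypothesis: commuting automorphisms of order dividing `p`, coprime action,
no common non-identity fixed point -/
structure Hyp (p : ℕ) (a c : MulAut G) : Prop where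
  comm : a * c = c * a
  apow : a ^ p = 1
  cpow : c ^ p = 1
  cop : ¬ p ∣ Nat.card G
  fpf : ∀ g : G, a g = g → c g = g → g = 1

namespace Hyp

variable {p : ℕ} {a c : MulAut G}

theorem comm_apply (h : Hyp p a c) (x : G) : a (c x) = c (a x) := by
  have := comm_pow_apply h.comm 1 x
  simpa using this

theorem symm (h : Hyp p a c) : Hyp p c a :=
  ⟨h.comm.symm, h.cpow, h.apow, h.cop, fun g h1 h2 => h.fpf g h2 h1⟩

theorem bcomm (h : Hyp p a c) (i : ℕ) : (a ^ i * c) * a = a * (a ^ i * c) := by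
  have hc : Commute a c := h.comm
  have h1 : Commute (a ^ i * c) a := ((Commute.refl a).pow_left i).mul_left hc.symm
  exact h1.eq

theorem bpow (h : Hyp p a c) (i : ℕ) : (a ^ i * c) ^ p = 1 := by
  have hc : Commute (a ^ i) c := (show Commute a c from h.comm).pow_left i
  rw [hc.mul_pow, h.cpow, mul_one, ← pow_mul, mul_comm, pow_mul, h.apow, one_pow]

theorem b_apply (i : ℕ) (x : G) : (a ^ i * c) x = (a ^ i) (c x) := rfl

/-- the pair `(a ^ i * c, a)` -/
theorem pair_b (h : Hyp p a c) (i : ℕ) : Hyp p (a ^ i * c) a where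
  comm := h.bcomm i
  apow := h.bpow i
  cpow := h.apow
  cop := h.cop
  fpf := by
    intro g h1 h2
    apply h.fpf g h2
    rw [b_apply] at h1
    have h3 : (a ^ i) g = g := pow_fix h2 i
    have h4 : (a ^ i) (c g) = (a ^ i) g := by rw [h1, h3]
    exact (a ^ i).injective h4

/-- the pair `(a, a ^ i * c)` -/
theorem pair_b' (h : Hyp p a c) (i : ℕ) : Hyp p a (a ^ i * c) := (h.pair_b i).symm

theorem restrict [Finite G] (h : Hyp p a c) (H : Subgroup G) (ha : Inv a H) (hc : Inv c H) :
    Hyp p (restrictAut a H ha) (restrictAut c H hc) where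
  comm := by
    ext x
    change a (c (x : G)) = c (a (x : G))
    exact h.comm_apply x
  apow := restrictAut_pow_eq_one a H ha p h.apow
  cpow := restrictAut_pow_eq_one c H hc p h.cpow
  cop := fun hd => h.cop (hd.trans (Subgroup.card_subgroup_dvd_card H))
  fpf := by
    intro g h1 h2
    have e1 : a (g : G) = g := congrArg Subtype.val h1
    have e2 : c (g : G) = g := congrArg Subtype.val h2
    exact Subtype.ext (h.fpf _ e1 e2)

theorem not_dvd_card_sub [Finite G] (h : Hyp p a c) (H : Subgroup G) : ¬ p ∣ Nat.card H :=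
  fun hd => h.cop (hd.trans (Subgroup.card_subgroup_dvd_card H))

theorem quot [Finite G] [hp : Fact p.Prime] (h : Hyp p a c) (N : Subgroup G) [N.Normal]
    (ha : Inv a N) (hc : Inv c N) : Hyp p (quotAut a N ha) (quotAut c N hc) where
  comm := by
    ext x
    induction x using QuotientGroup.induction_on with
    | H g =>
      change (quotAut a N ha) ((quotAut c N hc) (g : G ⧸ N)) =
        (quotAut c N hc) ((quotAut a N ha) (g : G ⧸ N))
      rw [quotAut_mk, quotAut_mk, quotAut_mk, quotAut_mk, h.comm_apply]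
  apow := quotAut_pow_eq_one a N ha p h.apow
  cpow := quotAut_pow_eq_one c N hc p h.cpow
  cop := fun hd => h.cop (hd.trans (Subgroup.card_quotient_dvd_card N))
  fpf := by
    intro x h1 h2
    induction x using QuotientGroup.induction_on with
    | H g =>
      rw [quotAut_mk, QuotientGroup.eq] at h1 h2
      have e1 : g⁻¹ * a g ∈ N := by
        have := N.inv_mem h1
        simpa using this
      have e2 : g⁻¹ * c g ∈ N := by
        have := N.inv_mem h2
        simpa using this
      obtain ⟨n, hn, hfix⟩ := exists_fixed_in_coset a h.apow N ha (h.not_dvd_card_sub N) g e1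
      -- second stage
      set g0 := g * n with hg0
      have hN' : Inv c (N ⊓ fix a) := Inv.inf' hc (Inv.fix_of_comm h.comm)
      have e3 : g0⁻¹ * c g0 ∈ N ⊓ fix a := by
        constructor
        · have : g0⁻¹ * c g0 = n⁻¹ * (g⁻¹ * c g) * c n := by
            rw [hg0, map_mul]; group
          rw [this]
          exact N.mul_mem (N.mul_mem (N.inv_mem hn) e2) (hc n hn)
        · change a (g0⁻¹ * c g0) = g0⁻¹ * c g0
          rw [map_mul, map_inv, h.comm_apply, hfix]
      obtain ⟨n', hn', hfix'⟩ :=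
        exists_fixed_in_coset c h.cpow (N ⊓ fix a) hN' (h.not_dvd_card_sub _) g0 e3
      have hfa : a (g0 * n') = g0 * n' := by
        rw [map_mul, hfix, mem_fix.mp hn'.2]
      have h1' := h.fpf _ hfa hfix'
      rw [QuotientGroup.eq_one_iff]
      have : g = (n * n')⁻¹ := by
        rw [hg0] at h1'
        rw [eq_inv_iff_mul_eq_one, ← mul_assoc]
        exact h1'
      rw [this]
      exact N.inv_mem (N.mul_mem hn hn'.1)

end Hyp

end Cfsg.Agent.Lib.Helper6.Wd
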