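import Mathlib
import Cfsg.Agent.Lib.Helper6.WdA

/-! Ward's theorem, part B: a Frobenius-type lemma and generation by fixed points. -/

set_option autoImplicit false

namespace Cfsg.Agent.Lib.Helper6.Wd

open Cfsg.Agent.Lib.Helper8.FP4

universe u

section Frob

variable {U Y : Type*} [CommGroup U] [Group Y]

theorem compat_pow (ρ : Y →* MulAut U) (dU : MulAut U) (dY : MulAut Y)
    (hcompat : ∀ y u, dU (ρ y u) = ρ (dY y) (dU u)) (i : ℕ) (y : Y) (u : U) :
    (dU ^ i) (ρ y u) = ρ ((dY ^ i) y) ((dU ^ i) u) := by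
  induction i with
  | zero => simp
  | succ i ih => rw [pow_succ_apply, ih, hcompat, ← pow_succ_apply, ← pow_succ_apply]

/-- If `d` acts without fixed points on `U` and (with its powers) on `Y`, then `Y` acts trivially
on `U`. -/
theorem frob_trivial [Finite Y] [Finite U] {p : ℕ} (ρ : Y →* MulAut U) (dU : MulAut U)
    (dY : MulAut Y) (hcompat : ∀ y u, dU (ρ y u) = ρ (dY y) (dU u)) (hp : 0 < p)
    (hdU : dU ^ p = 1)
    (hfpf : ∀ y : Y, ∀ i : ℕ, 0 < i → i < p → (dY ^ i) y = y → y = 1)
    (hcop : (Nat.card Y).Coprime (Nat.card U))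
    (hfix : ∀ u : U, dU u = u → u = 1) : ∀ (y : Y) (u : U), ρ y u = u := by
  classical
  haveI : Fintype Y := Fintype.ofFinite Y
  -- the trace of `dU` vanishes
  have hT : ∀ u : U, ∏ i ∈ Finset.range p, (dU ^ i) u = 1 := by
    intro u
    apply hfix
    rw [map_prod]
    have h1 : ∏ i ∈ Finset.range p, dU ((dU ^ i) u) = ∏ i ∈ Finset.range p, (dU ^ (i + 1)) u := by
      apply Finset.prod_congr rfl
      intro i _
      rw [pow_succ_apply]
    rw [h1]
    have h2 := Finset.prod_range_succ' (fun i => (dU ^ i) u) p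
    have h3 := Finset.prod_range_succ (fun i => (dU ^ i) u) p
    rw [h3] at h2
    simp only [hdU, pow_zero] at h2
    exact (mul_right_cancel h2).symm
  -- the norm map
  let nm : U →* U := ∏ y : Y, (ρ y).toMonoidHom
  have hnm : ∀ u : U, nm u = ∏ y : Y, ρ y u := by
    intro u
    change (∏ y : Y, (ρ y).toMonoidHom) u = _
    rw [MonoidHom.finsetProd_apply]
    rfl
  have hnm_fix : ∀ (y₀ : Y) (u : U), ρ y₀ (nm u) = nm u := by
    intro y₀ u
    rw [hnm, map_prod]
    apply Fintype.prod_equiv (Equiv.mulLeft y₀)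
    intro y
    change ρ y₀ (ρ y u) = ρ (y₀ * y) u
    rw [map_mul, MulAut.mul_apply]
  have hnm_d : ∀ (i : ℕ) (u : U), nm ((dU ^ i) u) = (dU ^ i) (nm u) := by
    intro i u
    rw [hnm, hnm, map_prod]
    apply Fintype.prod_equiv ((dY ^ i).toEquiv.symm)
    intro y
    have := compat_pow ρ dU dY hcompat i ((dY ^ i).toEquiv.symm y) u
    rw [this]
    congr 2
    exact ((dY ^ i).toEquiv.apply_symm_apply y).symm
  -- Step A : the norm map is injective
  have hA : ∀ u : U, nm u = 1 → u = 1 := by
    intro u hu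
    have key : ∏ y : Y, ρ y (∏ i ∈ Finset.range p, (dU ^ i) (ρ y⁻¹ u)) = 1 := by
      apply Finset.prod_eq_one
      intro y _
      rw [hT, map_one]
    have e1 : ∀ y : Y, ρ y (∏ i ∈ Finset.range p, (dU ^ i) (ρ y⁻¹ u)) =
        ∏ i ∈ Finset.range p, ρ (y * ((dY ^ i) y)⁻¹) ((dU ^ i) u) := by
      intro y
      rw [map_prod]
      apply Finset.prod_congr rfl
      intro i _
      rw [compat_pow ρ dU dY hcompat, map_inv, map_mul, MulAut.mul_apply]
    rw [Finset.prod_congr rfl (fun y _ => e1 y), Finset.prod_comm] at key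
    obtain ⟨k, rfl⟩ : ∃ k, p = k + 1 := ⟨p - 1, by omega⟩
    rw [Finset.prod_range_succ'] at key
    have e2 : ∏ y : Y, ρ (y * ((dY ^ 0) y)⁻¹) ((dU ^ 0) u) = u ^ Fintype.card Y := by
      simp
    have e3 : ∏ i ∈ Finset.range k, ∏ y : Y, ρ (y * ((dY ^ (i + 1)) y)⁻¹) ((dU ^ (i + 1)) u) = 1 := by
      apply Finset.prod_eq_one
      intro i hi
      have hik : i + 1 < k + 1 := by
        have := Finset.mem_range.mp hi
        omega
      -- the map `y ↦ y * (d^(i+1) y)⁻¹` is bijective
      have hinj : Function.Injective (fun y : Y => y * ((dY ^ (i + 1)) y)⁻¹) := by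
        intro y y' hyy
        have hyy' : y * ((dY ^ (i + 1)) y)⁻¹ = y' * ((dY ^ (i + 1)) y')⁻¹ := hyy
        have h5 : (dY ^ (i + 1)) (y'⁻¹ * y) = y'⁻¹ * y := by
          rw [map_mul, map_inv]
          have h6 : (dY ^ (i + 1)) y = (y' * ((dY ^ (i + 1)) y')⁻¹)⁻¹ * y := by
            rw [← hyy']; group
          rw [h6]; group
        have h7 := hfpf _ (i + 1) (Nat.succ_pos i) hik h5
        have : y = y' := by
          have := inv_mul_eq_one.mp h7
          exact this.symm
        exact this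
      have hbij : Function.Bijective (fun y : Y => y * ((dY ^ (i + 1)) y)⁻¹) :=
        ⟨hinj, Finite.injective_iff_surjective.mp hinj⟩
      have e4 : ∏ y : Y, ρ (y * ((dY ^ (i + 1)) y)⁻¹) ((dU ^ (i + 1)) u) =
          ∏ w : Y, ρ w ((dU ^ (i + 1)) u) :=
        Fintype.prod_equiv (Equiv.ofBijective _ hbij) _ _ (fun y => rfl)
      rw [e4, ← hnm, hnm_d, hu, map_one]
    rw [e3, e2, one_mul] at key
    have h8 : orderOf u ∣ Fintype.card Y := orderOf_dvd_of_pow_eq_one key
    have h9 : orderOf u ∣ Nat.card U := orderOf_dvd_natCard u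
    rw [← Nat.card_eq_fintype_card] at h8
    have h10 : orderOf u ∣ 1 := by
      have := Nat.dvd_gcd h8 h9
      rwa [hcop] at this
    exact orderOf_eq_one_iff.mp (Nat.dvd_one.mp h10)
  have hinj : Function.Injective nm := (injective_iff_map_eq_one nm).mpr hA
  have hsurj : Function.Surjective nm := Finite.injective_iff_surjective.mp hinj
  intro y u
  obtain ⟨u', rfl⟩ := hsurj u
  exact hnm_fix y u'

end Frob

section Gen

theorem pow_val_succ {Y : Type*} [Group Y] {p : ℕ} [hp : Fact p.Prime] (σ : MulAut Y)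
    (hσ : σ ^ p = 1) (k : ZMod p) : σ ^ ((k + 1).val) = σ ^ (k.val + 1) := by
  haveI : Fact (1 < p) := ⟨hp.out.one_lt⟩
  rw [ZMod.val_add, ZMod.val_one, ← pow_eq_pow_mod _ hσ]

theorem pow_val_mul {Y : Type*} [Group Y] {p : ℕ} [hp : Fact p.Prime] (σ : MulAut Y)
    (hσ : σ ^ p = 1) (i k : ZMod p) : σ ^ ((i * k).val) = σ ^ (i.val * k.val) := by
  rw [ZMod.val_mul, ← pow_eq_pow_mod _ hσ]

/-- the trace of an automorphism of order dividing `p` -/
theorem trace_fixed {Y : Type*} [CommGroup Y] {p : ℕ} [hp : Fact p.Prime] (σ : MulAut Y)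
    (hσ : σ ^ p = 1) (y : Y) :
    σ (∏ k : ZMod p, (σ ^ k.val) y) = ∏ k : ZMod p, (σ ^ k.val) y := by
  haveI : NeZero p := ⟨hp.out.ne_zero⟩
  rw [map_prod]
  apply Fintype.prod_equiv (Equiv.addRight (1 : ZMod p))
  intro k
  change σ ((σ ^ k.val) y) = (σ ^ ((k + 1).val)) y
  rw [pow_val_succ σ hσ, pow_succ_apply]

theorem bpow' {Y : Type*} [Group Y] {p : ℕ} {a c : MulAut Y} (hac : a * c = c * a)
    (ha : a ^ p = 1) (hc : c ^ p = 1) (i : ℕ) : (a ^ i * c) ^ p = 1 := by
  have hcm : Commute (a ^ i) c := (show Commute a c from hac).pow_left i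
  rw [hcm.mul_pow, hc, mul_one, ← pow_mul, mul_comm, pow_mul, ha, one_pow]

theorem mul_pow_comm {Y : Type*} [Group Y] {a c : MulAut Y} (hac : a * c = c * a) (i k : ℕ) :
    (a ^ i * c) ^ k = a ^ (i * k) * c ^ k := by
  have hcm : Commute (a ^ i) c := (show Commute a c from hac).pow_left i
  rw [hcm.mul_pow, ← pow_mul]

theorem inv_of_char {Y : Type*} [Group Y] (H : Subgroup Y) [hH : H.Characteristic]
    (σ : MulAut Y) : Inv σ H := by
  intro x hx
  have h1 : H.comap σ.toMonoidHom = H := hH.fixed σ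
  rw [← h1] at hx
  exact hx

/-- generation by fixed points, commutative case -/
theorem gen_comm {Y : Type*} [CommGroup Y] [Finite Y] {p : ℕ} [hp : Fact p.Prime]
    (a c : MulAut Y) (hac : a * c = c * a) (ha : a ^ p = 1) (hc : c ^ p = 1)
    (hcop : ¬ p ∣ Nat.card Y) (T : Subgroup Y) (hTa : fix a ≤ T)
    (hTb : ∀ i : ℕ, fix (a ^ i * c) ≤ T) : T = ⊤ := by
  classical
  haveI : NeZero p := ⟨hp.out.ne_zero⟩
  rw [eq_top_iff]
  intro y _
  have hD : (∏ k : ZMod p, ∏ i : ZMod p, ((a ^ i.val * c) ^ k.val) y) ∈ T := by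
    rw [Finset.prod_comm]
    apply Subgroup.prod_mem
    intro i _
    apply hTb i.val
    rw [mem_fix]
    exact trace_fixed (a ^ i.val * c) (bpow' hac ha hc i.val) y
  have hk : ∀ k : ZMod p, k ≠ 0 → ∏ i : ZMod p, ((a ^ i.val * c) ^ k.val) y =
      ∏ j : ZMod p, (a ^ j.val) ((c ^ k.val) y) := by
    intro k hk
    apply Fintype.prod_equiv (Equiv.mulRight₀ k hk)
    intro i
    change ((a ^ i.val * c) ^ k.val) y = (a ^ ((i * k).val)) ((c ^ k.val) y)
    rw [mul_pow_comm hac, pow_val_mul a ha]
    rfl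
  have h0 : ∏ i : ZMod p, ((a ^ i.val * c) ^ (0 : ZMod p).val) y = y ^ p := by
    simp [ZMod.val_zero, Finset.card_univ, ZMod.card]
  have hsplit := (Finset.mul_prod_erase Finset.univ
    (fun k : ZMod p => ∏ i : ZMod p, ((a ^ i.val * c) ^ k.val) y) (Finset.mem_univ 0)).symm
  have hR : (∏ k ∈ Finset.univ.erase (0 : ZMod p),
      ∏ i : ZMod p, ((a ^ i.val * c) ^ k.val) y) ∈ T := by
    apply Subgroup.prod_mem
    intro k hk'
    rw [hk k (Finset.ne_of_mem_erase hk')]
    apply hTa
    rw [mem_fix]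
    exact trace_fixed a ha _
  have hyp : y ^ p ∈ T := by
    have h1 : y ^ p = (∏ k : ZMod p, ∏ i : ZMod p, ((a ^ i.val * c) ^ k.val) y) *
        (∏ k ∈ Finset.univ.erase (0 : ZMod p),
          ∏ i : ZMod p, ((a ^ i.val * c) ^ k.val) y)⁻¹ := by
      rw [hsplit, h0, mul_inv_cancel_right]
    rw [h1]
    exact T.mul_mem hD (T.inv_mem hR)
  have hcop' : (Nat.card Y).Coprime p :=
    ((Nat.Prime.coprime_iff_not_dvd hp.out).mpr hcop).symm
  have h2 : (powCoprime hcop').symm (y ^ p) = y := (powCoprime hcop').symm_apply_apply y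
  rw [← h2]
  change (y ^ p) ^ ((Nat.card Y).gcdB p) ∈ T
  exact T.zpow_mem hyp _

/-- generation by fixed points, commutative case, with commutativity as a hypothesis -/
theorem gen_comm' {Y : Type*} [Group Y] [Finite Y] (hcomm : ∀ x y : Y, x * y = y * x) {p : ℕ}
    [hp : Fact p.Prime] (a c : MulAut Y) (hac : a * c = c * a) (ha : a ^ p = 1) (hc : c ^ p = 1)
    (hcop : ¬ p ∣ Nat.card Y) (T : Subgroup Y) (hTa : fix a ≤ T)
    (hTb : ∀ i : ℕ, fix (a ^ i * c) ≤ T) : T = ⊤ := by
  letI : CommGroup Y := { (inferInstance : Group Y) with mul_comm := hcomm }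
  exact gen_comm a c hac ha hc hcop T hTa hTb

theorem card_quot_lt' {Y : Type*} [Group Y] [Finite Y] (N : Subgroup Y) (h : N ≠ ⊥) :
    Nat.card (Y ⧸ N) < Nat.card Y := by
  rw [Subgroup.card_eq_card_quotient_mul_card_subgroup N]
  have h1 : 1 < Nat.card N := (Subgroup.one_lt_card_iff_ne_bot (H := N)).mpr h
  have h2 : 0 < Nat.card (Y ⧸ N) := Nat.card_pos
  nlinarith

/-- generation by fixed points, nilpotent case -/
theorem gen_nil : ∀ (n : ℕ) (Y : Type u) [Group Y] [Finite Y], Nat.card Y = n →
    Group.IsNilpotent Y → ∀ {p : ℕ} [Fact p.Prime] (a c : MulAut Y), a * c = c * a →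
    a ^ p = 1 → c ^ p = 1 → ¬ p ∣ Nat.card Y → ∀ T : Subgroup Y, fix a ≤ T →
    (∀ i : ℕ, fix (a ^ i * c) ≤ T) → T = ⊤ := by
  intro n
  induction n using Nat.strong_induction_on with
  | _ n IH =>
    intro Y _ _ hn hnil p hp a c hac ha hc hcop T hTa hTb
    rcases subsingleton_or_nontrivial Y with hs | hnt
    · rw [eq_top_iff]
      intro y _
      rw [Subsingleton.elim y 1]
      exact T.one_mem
    · haveI := hnil
      have hZ : Subgroup.center Y ≠ ⊥ := Group.IsNilpotent.center_ne_bot Y
      have hZa : Inv a (Subgroup.center Y) := inv_of_char (Subgroup.center Y) a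
      have hZc : Inv c (Subgroup.center Y) := inv_of_char (Subgroup.center Y) c
      have hpZ : ¬ p ∣ Nat.card (Subgroup.center Y) :=
        fun hd => hcop (hd.trans (Subgroup.card_subgroup_dvd_card (Subgroup.center Y)))
      -- `(Subgroup.center Y) ≤ T`
      have hZT : (Subgroup.center Y) ≤ T := by
        have h1 := gen_comm' (Y := ↥(Subgroup.center Y))
          (fun x y => Subtype.ext (Subgroup.mem_center_iff.mp y.2 x))
          (restrictAut a (Subgroup.center Y) hZa) (restrictAut c (Subgroup.center Y) hZc)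
          (by
            ext x
            change a (c (x : Y)) = c (a (x : Y))
            have := comm_pow_apply hac 1 (x : Y)
            simpa using this)
          (restrictAut_pow_eq_one a (Subgroup.center Y) hZa p ha) (restrictAut_pow_eq_one c (Subgroup.center Y) hZc p hc) hpZ
          (T.subgroupOf (Subgroup.center Y))
          (by
            intro x hx
            rw [Subgroup.mem_subgroupOf]
            apply hTa
            rw [mem_fix] at hx ⊢
            exact congrArg Subtype.val hx)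
          (by
            intro i x hx
            rw [Subgroup.mem_subgroupOf]
            apply hTb i
            rw [mem_fix] at hx ⊢
            have h2 := congrArg Subtype.val hx
            rw [Hyp.b_apply, restrictAut_pow_apply_coe, restrictAut_apply_coe] at h2
            exact h2)
        exact Subgroup.subgroupOf_eq_top.mp h1
      -- the quotient
      have hlt : Nat.card (Y ⧸ (Subgroup.center Y)) < n := hn ▸ card_quot_lt' (Subgroup.center Y) hZ
      have hcopq : ¬ p ∣ Nat.card (Y ⧸ (Subgroup.center Y)) :=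
        fun hd => hcop (hd.trans (Subgroup.card_quotient_dvd_card (Subgroup.center Y)))
      have hlift : ∀ (σ : MulAut Y), σ ^ p = 1 → Inv σ (Subgroup.center Y) → fix σ ≤ T → ∀ g : Y,
          g⁻¹ * σ g ∈ (Subgroup.center Y) → g ∈ T := by
        intro σ hσ hσZ hσT g hg
        obtain ⟨z, hz, hfix⟩ := exists_fixed_in_coset σ hσ (Subgroup.center Y) hσZ hpZ g hg
        have h3 : g * z ∈ T := hσT (mem_fix.mpr hfix)
        have h4 : g = (g * z) * z⁻¹ := by group
        rw [h4]
        exact T.mul_mem h3 (T.inv_mem (hZT hz))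
      have hq := IH (Nat.card (Y ⧸ (Subgroup.center Y))) hlt (Y ⧸ (Subgroup.center Y)) rfl inferInstance
        (quotAut a (Subgroup.center Y) hZa) (quotAut c (Subgroup.center Y) hZc)
        (by
          ext x
          induction x using QuotientGroup.induction_on with
          | H g =>
            change (quotAut a (Subgroup.center Y) hZa) ((quotAut c (Subgroup.center Y) hZc) (g : Y ⧸ (Subgroup.center Y))) =
              (quotAut c (Subgroup.center Y) hZc) ((quotAut a (Subgroup.center Y) hZa) (g : Y ⧸ (Subgroup.center Y)))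
            rw [quotAut_mk, quotAut_mk, quotAut_mk, quotAut_mk]
            have := comm_pow_apply hac 1 g
            simp only [pow_one] at this
            rw [this])
        (quotAut_pow_eq_one a (Subgroup.center Y) hZa p ha) (quotAut_pow_eq_one c (Subgroup.center Y) hZc p hc) hcopq
        (T.map (QuotientGroup.mk' (Subgroup.center Y)))
        (by
          intro x hx
          induction x using QuotientGroup.induction_on with
          | H g =>
            rw [mem_fix, quotAut_mk, QuotientGroup.eq] at hx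
            have e1 : g⁻¹ * a g ∈ (Subgroup.center Y) := by
              have := (Subgroup.center Y).inv_mem hx
              simpa using this
            exact ⟨g, hlift a ha hZa hTa g e1, rfl⟩)
        (by
          intro i x hx
          induction x using QuotientGroup.induction_on with
          | H g =>
            rw [mem_fix, Hyp.b_apply, quotAut_mk, quotAut_pow_mk, QuotientGroup.eq] at hx
            have e1 : g⁻¹ * (a ^ i * c) g ∈ (Subgroup.center Y) := by
              have := (Subgroup.center Y).inv_mem hx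
              simpa [Hyp.b_apply] using this
            exact ⟨g, hlift (a ^ i * c) (bpow' hac ha hc i)
              (Inv.mul (Inv.pow hZa i) hZc) (hTb i) g e1, rfl⟩)
      rw [eq_top_iff]
      intro g _
      have h5 : (g : Y ⧸ (Subgroup.center Y)) ∈ T.map (QuotientGroup.mk' (Subgroup.center Y)) := by rw [hq]; trivial
      obtain ⟨t, ht, hteq⟩ := h5
      have h6 : t⁻¹ * g ∈ (Subgroup.center Y) := by
        have : ((t : Y) : Y ⧸ (Subgroup.center Y)) = (g : Y ⧸ (Subgroup.center Y)) := hteq
        exact QuotientGroup.eq.mp this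
      have h7 : g = t * (t⁻¹ * g) := by group
      rw [h7]
      exact T.mul_mem ht (hZT h6)

end Gen

section InGroup

variable {X : Type u} [Group X]

/-- conjugation action of a subgroup on a subgroup it normalizes -/
def cj (K H : Subgroup X) (h : ∀ k ∈ K, ∀ x ∈ H, k * x * k⁻¹ ∈ H) : ↥K →* MulAut ↥H where
  toFun k :=
    { toFun := fun x => ⟨k * x * k⁻¹, h k k.2 x x.2⟩
      invFun := fun x => ⟨k⁻¹ * x * k, by
        have := h (k : X)⁻¹ (K.inv_mem k.2) x x.2
        simpa using this⟩
      left_inv := fun x => Subtype.ext (by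
        change (k : X)⁻¹ * (k * x * (k : X)⁻¹) * k = x
        group)
      right_inv := fun x => Subtype.ext (by
        change (k : X) * ((k : X)⁻¹ * x * k) * (k : X)⁻¹ = x
        group)
      map_mul' := fun x y => Subtype.ext (by
        change (k : X) * (x * y) * (k : X)⁻¹ = (k * x * (k : X)⁻¹) * (k * y * (k : X)⁻¹)
        group) }
  map_one' := by
    ext x
    change ((1 : ↥K) : X) * x * ((1 : ↥K) : X)⁻¹ = x
    simp
  map_mul' := by
    intro k l
    ext x
    change ((k * l : ↥K) : X) * x * ((k * l : ↥K) : X)⁻¹ = k * (l * x * (l : X)⁻¹) * (k : X)⁻¹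
    simp only [Subgroup.coe_mul]
    group

theorem cj_apply (K H : Subgroup X) (h : ∀ k ∈ K, ∀ x ∈ H, k * x * k⁻¹ ∈ H) (k : ↥K) (x : ↥H) :
    ((cj K H h k x : ↥H) : X) = k * x * (k : X)⁻¹ := rfl

/-- generation by fixed points for an invariant nilpotent subgroup -/
theorem gen_sub [Finite X] {p : ℕ} [Fact p.Prime] (a c : MulAut X) (hac : a * c = c * a)
    (ha : a ^ p = 1) (hc : c ^ p = 1) (hcop : ¬ p ∣ Nat.card X) (Q : Subgroup X)
    (hQa : Inv a Q) (hQc : Inv c Q) (hnil : Group.IsNilpotent ↥Q) (T : Subgroup X)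
    (hTa : Q ⊓ fix a ≤ T) (hTb : ∀ i : ℕ, Q ⊓ fix (a ^ i * c) ≤ T) : Q ≤ T := by
  have h1 := gen_nil (Nat.card ↥Q) ↥Q rfl hnil (restrictAut a Q hQa) (restrictAut c Q hQc)
    (by
      ext x
      change a (c (x : X)) = c (a (x : X))
      have := comm_pow_apply hac 1 (x : X)
      simpa using this)
    (restrictAut_pow_eq_one a Q hQa p ha) (restrictAut_pow_eq_one c Q hQc p hc)
    (fun hd => hcop (hd.trans (Subgroup.card_subgroup_dvd_card Q)))
    (T.subgroupOf Q)
    (by
      intro x hx
      rw [Subgroup.mem_subgroupOf]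
      apply hTa
      refine ⟨x.2, ?_⟩
      rw [mem_fix] at hx
      change a (x : X) = x
      exact congrArg Subtype.val hx)
    (by
      intro i x hx
      rw [Subgroup.mem_subgroupOf]
      apply hTb i
      refine ⟨x.2, ?_⟩
      rw [mem_fix] at hx
      change (a ^ i * c) (x : X) = x
      have h2 := congrArg Subtype.val hx
      rw [Hyp.b_apply, restrictAut_pow_apply_coe, restrictAut_apply_coe] at h2
      exact h2)
  exact Subgroup.subgroupOf_eq_top.mp h1

/-- Frobenius-type lemma inside a group -/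
theorem frobU [Finite X] {p : ℕ} [hp : Fact p.Prime] (d : MulAut X) (hd : d ^ p = 1)
    (U Y : Subgroup X) (hUd : Inv d U) (hYd : Inv d Y)
    (hUc : ∀ u ∈ U, ∀ v ∈ U, u * v = v * u)
    (hnorm : ∀ y ∈ Y, ∀ u ∈ U, y * u * y⁻¹ ∈ U)
    (hfpf : ∀ y ∈ Y, ∀ i : ℕ, 0 < i → i < p → (d ^ i) y = y → y = 1)
    (hcop : (Nat.card Y).Coprime (Nat.card U))
    (hfix : ∀ u ∈ U, d u = u → u = 1) : ∀ y ∈ Y, ∀ u ∈ U, y * u = u * y := by
  letI : CommGroup ↥U :=
    { (inferInstance : Group ↥U) with
      mul_comm := fun x y => Subtype.ext (hUc x x.2 y y.2) }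
  have h1 := frob_trivial (cj Y U hnorm) (restrictAut d U hUd) (restrictAut d Y hYd)
    (by
      intro y u
      apply Subtype.ext
      change d ((y : X) * u * (y : X)⁻¹) = d y * d u * (d (y : X))⁻¹
      rw [map_mul, map_mul, map_inv])
    hp.out.pos (restrictAut_pow_eq_one d U hUd p hd)
    (by
      intro y i hi hip hy
      have h2 := congrArg Subtype.val hy
      rw [restrictAut_pow_apply_coe] at h2
      exact Subtype.ext (hfpf y y.2 i hi hip h2))
    hcop
    (by
      intro u hu
      have h2 := congrArg Subtype.val hu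
      exact Subtype.ext (hfix u u.2 h2))
  intro y hy u hu
  have h3 := congrArg Subtype.val (h1 ⟨y, hy⟩ ⟨u, hu⟩)
  change y * u * y⁻¹ = u at h3
  calc y * u = (y * u * y⁻¹) * y := by group
    _ = u * y := by rw [h3]

end InGroup

end Cfsg.Agent.Lib.Helper6.Wd
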