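import Mathlib
import Cfsg.Agent.Lib.Helper6.WdB
import Cfsg.Agent.Lib.Helper1.ThompsonFPF5
import Cfsg.Agent.Lib.Helper8.FP4b

/-! Ward's theorem, part C: invariant Sylow subgroups, nilpotency of fixed-point subgroups. -/

set_option autoImplicit false

namespace Cfsg.Agent.Lib.Helper6.Wd

open Cfsg.Agent.Lib.Helper8.FP4
open scoped Pointwise

universe u

variable {Y : Type*} [Group Y]

/-- the group generated by two commuting automorphisms of order dividing `p` is a `p`-group -/
theorem isPGroup_closure_pair {p : ℕ} (a c : MulAut Y) (hac : a * c = c * a) (ha : a ^ p = 1)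
    (hc : c ^ p = 1) : IsPGroup p ↥(Subgroup.closure ({a, c} : Set (MulAut Y))) := by
  have key : ∀ x ∈ Subgroup.closure ({a, c} : Set (MulAut Y)),
      x ^ p = 1 ∧ Commute x a ∧ Commute x c := by
    intro x hx
    induction hx using Subgroup.closure_induction with
    | mem x hx =>
      rcases hx with rfl | hx
      · exact ⟨ha, Commute.refl _, hac⟩
      · rw [Set.mem_singleton_iff] at hx
        subst hx
        exact ⟨hc, (show Commute a x from hac).symm, Commute.refl _⟩
    | one => exact ⟨one_pow _, Commute.one_left _, Commute.one_left _⟩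
    | mul x y hx hy ihx ihy =>
      have hxy : Commute x y := by
        have hle : Subgroup.closure ({a, c} : Set (MulAut Y)) ≤
            Subgroup.centralizer ({x} : Set (MulAut Y)) := by
          rw [Subgroup.closure_le]
          intro z hz
          rw [SetLike.mem_coe, Subgroup.mem_centralizer_iff]
          intro w hw
          rw [Set.mem_singleton_iff] at hw
          subst hw
          rcases hz with rfl | hz
          · exact ihx.2.1.eq
          · rw [Set.mem_singleton_iff] at hz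
            subst hz
            exact ihx.2.2.eq
        have := Subgroup.mem_centralizer_iff.mp (hle hy) x (Set.mem_singleton x)
        exact this
      refine ⟨?_, ihx.2.1.mul_left ihy.2.1, ihx.2.2.mul_left ihy.2.2⟩
      rw [hxy.mul_pow, ihx.1, ihy.1, one_mul]
    | inv x hx ihx =>
      exact ⟨by rw [inv_pow, ihx.1, inv_one], ihx.2.1.inv_left, ihx.2.2.inv_left⟩
  intro g
  refine ⟨1, ?_⟩
  apply Subtype.ext
  rw [pow_one]
  exact (key g.1 g.2).1

theorem exists_inv_sylow2 [Finite Y] {p : ℕ} [hp : Fact p.Prime] (a c : MulAut Y)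
    (hac : a * c = c * a) (ha : a ^ p = 1) (hc : c ^ p = 1) (hcop : ¬ p ∣ Nat.card Y) (q : ℕ)
    [Fact q.Prime] : ∃ S : Sylow q Y, Inv a (S : Subgroup Y) ∧ Inv c (S : Subgroup Y) := by
  have hP := isPGroup_closure_pair a c hac ha hc
  obtain ⟨S₀⟩ : Nonempty (Sylow q Y) := inferInstance
  have hcard : ¬ p ∣ Nat.card (Sylow q Y) := by
    intro hd
    exact hcop ((hd.trans (Sylow.card_dvd_index S₀)).trans (Subgroup.index_dvd_card _))
  obtain ⟨S, hS⟩ := IsPGroup.nonempty_fixed_point_of_prime_not_dvd_card hP (Sylow q Y) hcard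
  have hSa : a • S = S := hS ⟨a, Subgroup.subset_closure (Set.mem_insert _ _)⟩
  have hSc : c • S = S :=
    hS ⟨c, Subgroup.subset_closure (Set.mem_insert_of_mem _ (Set.mem_singleton _))⟩
  refine ⟨S, ?_, ?_⟩
  · intro x hx
    have : a x ∈ ((a • S : Sylow q Y) : Subgroup Y) := by
      rw [mem_aut_smul_sylow]
      simpa using hx
    rwa [hSa] at this
  · intro x hx
    have : c x ∈ ((c • S : Sylow q Y) : Subgroup Y) := by
      rw [mem_aut_smul_sylow]
      simpa using hx
    rwa [hSc] at this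

/-- invariant Sylow subgroup of an invariant subgroup -/
theorem exists_inv_sylow_sub {X : Type*} [Group X] [Finite X] {p : ℕ} [hp : Fact p.Prime]
    {a c : MulAut X} (h : Hyp p a c) (M : Subgroup X) (hMa : Inv a M) (hMc : Inv c M) (q : ℕ)
    [Fact q.Prime] : ∃ S : Sylow q ↥M, Inv a ((S : Subgroup ↥M).map M.subtype) ∧
      Inv c ((S : Subgroup ↥M).map M.subtype) := by
  have h' := h.restrict M hMa hMc
  obtain ⟨S, hSa, hSc⟩ := exists_inv_sylow2 (restrictAut a M hMa) (restrictAut c M hMc) h'.comm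
    h'.apow h'.cpow h'.cop q
  refine ⟨S, ?_, ?_⟩
  · rintro _ ⟨x, hx, rfl⟩
    exact ⟨restrictAut a M hMa x, hSa x hx, rfl⟩
  · rintro _ ⟨x, hx, rfl⟩
    exact ⟨restrictAut c M hMc x, hSc x hx, rfl⟩

/-- elements of coprime prime power orders commute in a finite nilpotent group -/
theorem commute_of_nilpotent {H : Type*} [Group H] [Finite H] (hH : Group.IsNilpotent H)
    {q r : ℕ} [hq : Fact q.Prime] [hr : Fact r.Prime] (hqr : q ≠ r) (x y : H)
    (hx : ∃ k : ℕ, x ^ q ^ k = 1) (hy : ∃ l : ℕ, y ^ r ^ l = 1) : x * y = y * x := by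
  haveI := hH
  have hzx : IsPGroup q ↥(Subgroup.zpowers x) := by
    obtain ⟨k, hk⟩ := hx
    obtain ⟨j, _, hj⟩ := (Nat.dvd_prime_pow hq.out).mp (orderOf_dvd_of_pow_eq_one hk)
    apply IsPGroup.of_card (n := j)
    rw [Nat.card_zpowers, hj]
  have hzy : IsPGroup r ↥(Subgroup.zpowers y) := by
    obtain ⟨k, hk⟩ := hy
    obtain ⟨j, _, hj⟩ := (Nat.dvd_prime_pow hr.out).mp (orderOf_dvd_of_pow_eq_one hk)
    apply IsPGroup.of_card (n := j)
    rw [Nat.card_zpowers, hj]
  obtain ⟨P, hP⟩ := hzx.exists_le_sylow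
  obtain ⟨R, hR⟩ := hzy.exists_le_sylow
  have hdis : Disjoint (P : Subgroup H) (R : Subgroup H) :=
    IsPGroup.disjoint_of_ne q r hqr _ _ P.isPGroup' R.isPGroup'
  exact (Subgroup.commute_of_normal_of_disjoint _ _ inferInstance inferInstance hdis x y
    (hP (Subgroup.mem_zpowers x)) (hR (Subgroup.mem_zpowers y))).eq

section InGroup

variable {X : Type u} [Group X] [Finite X]

/-- the fixed points of `σ` form a nilpotent group -/
theorem nil_fix {p : ℕ} [hp : Fact p.Prime] {σ τ : MulAut X} (h : Hyp p σ τ) :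
    Group.IsNilpotent ↥(fix σ) := by
  have hinv : Inv τ (fix σ) := Inv.fix_of_comm h.comm
  by_cases h1 : restrictAut τ (fix σ) hinv = 1
  · haveI : Subsingleton ↥(fix σ) := by
      constructor
      intro x y
      have hx : τ (x : X) = x := by
        have := congrArg (fun t : MulAut ↥(fix σ) => ((t x : ↥(fix σ)) : X)) h1
        exact this
      have hy : τ (y : X) = y := by
        have := congrArg (fun t : MulAut ↥(fix σ) => ((t y : ↥(fix σ)) : X)) h1
        exact this
      have hx1 : (x : X) = 1 := h.fpf _ x.2 hx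
      have hy1 : (y : X) = 1 := h.fpf _ y.2 hy
      exact Subtype.ext (hx1.trans hy1.symm)
    infer_instance
  · have hpow : (restrictAut τ (fix σ) hinv) ^ p = 1 := restrictAut_pow_eq_one τ _ hinv p h.cpow
    have hord : orderOf (restrictAut τ (fix σ) hinv) = p := by
      rcases (Nat.dvd_prime hp.out).mp (orderOf_dvd_of_pow_eq_one hpow) with h2 | h2
      · exact absurd (orderOf_eq_one_iff.mp h2) h1
      · exact h2
    apply Cfsg.Agent.Lib.Helper1.ThompsonFPF.thompson_fpf (restrictAut τ (fix σ) hinv) ?_ p hp.out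
      hord
    intro g hg
    have hg' : τ (g : X) = g := congrArg Subtype.val hg
    exact Subtype.ext (h.fpf _ g.2 hg')

/-- fixed elements of coprime prime-power orders commute -/
theorem fix_commute {p : ℕ} [hp : Fact p.Prime] {σ τ : MulAut X} (h : Hyp p σ τ) {q r : ℕ}
    [Fact q.Prime] [Fact r.Prime] (hqr : q ≠ r) (x y : X) (hx : σ x = x) (hy : σ y = y)
    (hxq : ∃ k : ℕ, x ^ q ^ k = 1) (hyr : ∃ l : ℕ, y ^ r ^ l = 1) : x * y = y * x := by
  have hn := nil_fix h
  have := commute_of_nilpotent hn hqr (⟨x, hx⟩ : ↥(fix σ)) ⟨y, hy⟩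
    (by obtain ⟨k, hk⟩ := hxq; exact ⟨k, Subtype.ext (by simpa using hk)⟩)
    (by obtain ⟨k, hk⟩ := hyr; exact ⟨k, Subtype.ext (by simpa using hk)⟩)
  exact congrArg Subtype.val this

omit [Finite X] in
theorem pow_of_mem_pgroup {q : ℕ} {Q : Subgroup X} (hQ : IsPGroup q Q) {x : X} (hx : x ∈ Q) :
    ∃ k : ℕ, x ^ q ^ k = 1 := by
  obtain ⟨k, hk⟩ := hQ ⟨x, hx⟩
  exact ⟨k, by simpa using congrArg Subtype.val hk⟩

end InGroup

end Cfsg.Agent.Lib.Helper6.Wd
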