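import Mathlib
import Cfsg.Agent.Lib.Helper6.WdC
import Cfsg.Agent.Lib.Helper8.FP4c

/-! Ward's theorem, part D: the minimal configuration, basic consequences. -/

set_option autoImplicit false

namespace Cfsg.Agent.Lib.Helper6.Wd

open Cfsg.Agent.Lib.Helper8.FP4

universe u

section Norm

variable {U K : Type*} [CommGroup U] [Group K] [Fintype K]

/-- the norm map of a finite group acting on a commutative group -/
def nmHom (ρ : K →* MulAut U) : U →* U := ∏ k : K, (ρ k).toMonoidHom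

theorem nmHom_apply (ρ : K →* MulAut U) (u : U) : nmHom ρ u = ∏ k : K, ρ k u := by
  unfold nmHom
  rw [MonoidHom.finsetProd_apply]
  rfl

theorem nmHom_fixed (ρ : K →* MulAut U) (k₀ : K) (u : U) : ρ k₀ (nmHom ρ u) = nmHom ρ u := by
  rw [nmHom_apply, map_prod]
  apply Fintype.prod_equiv (Equiv.mulLeft k₀)
  intro y
  change ρ k₀ (ρ y u) = ρ (k₀ * y) u
  rw [map_mul, MulAut.mul_apply]

theorem nmHom_of_fixed (ρ : K →* MulAut U) (u : U) (h : ∀ k, ρ k u = u) :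
    nmHom ρ u = u ^ Fintype.card K := by
  rw [nmHom_apply]
  simp [h]

theorem nmHom_comm (ρ : K →* MulAut U) (φ : MulAut U) (hφ : ∀ k u, φ (ρ k u) = ρ k (φ u))
    (u : U) : φ (nmHom ρ u) = nmHom ρ (φ u) := by
  rw [nmHom_apply, nmHom_apply, map_prod]
  exact Finset.prod_congr rfl (fun k _ => hφ k u)

theorem trace_range_fixed (σ : MulAut U) {p : ℕ} (hσ : σ ^ p = 1) (u : U) :
    σ (∏ i ∈ Finset.range p, (σ ^ i) u) = ∏ i ∈ Finset.range p, (σ ^ i) u := by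
  rw [map_prod]
  have h1 : ∏ i ∈ Finset.range p, σ ((σ ^ i) u) = ∏ i ∈ Finset.range p, (σ ^ (i + 1)) u := by
    apply Finset.prod_congr rfl
    intro i _
    rw [pow_succ_apply]
  rw [h1]
  have h2 := Finset.prod_range_succ' (fun i => (σ ^ i) u) p
  have h3 := Finset.prod_range_succ (fun i => (σ ^ i) u) p
  rw [h3] at h2
  simp only [hσ, pow_zero] at h2
  exact (mul_right_cancel h2).symm

end Norm

section Misc

variable {X : Type u} [Group X]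

theorem inv_of_inv_pow {p : ℕ} [hp : Fact p.Prime] {σ : MulAut X} (hσ : σ ^ p = 1) {j : ℕ}
    (hj : ¬ p ∣ j) {N : Subgroup X} (h : Inv (σ ^ j) N) : Inv σ N := by
  have hcop : Nat.Coprime j p := ((Nat.Prime.coprime_iff_not_dvd hp.out).mpr hj).symm
  obtain ⟨m, -, hm⟩ := Nat.exists_mul_mod_eq_one_of_coprime hcop hp.out.one_lt
  have h1 : Inv ((σ ^ j) ^ m) N := Inv.pow h m
  rw [← pow_mul, pow_eq_pow_mod (j * m) hσ, hm, pow_one] at h1
  exact h1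

theorem inv_map_le [Finite X] {σ : MulAut X} {N : Subgroup X}
    (h : N.map σ.toMonoidHom ≤ N) : Inv σ N := fun x hx => h ⟨x, hx, rfl⟩

/-- conjugation preserves the centralizer of a normalized subgroup -/
theorem conj_mem_centralizer {K : Subgroup X} {g v : X}
    (hg : ∀ k ∈ K, g⁻¹ * k * g ∈ K) (hv : v ∈ Subgroup.centralizer (K : Set X)) :
    g * v * g⁻¹ ∈ Subgroup.centralizer (K : Set X) := by
  rw [Subgroup.mem_centralizer_iff] at hv ⊢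
  intro k hk
  have h1 := hv (g⁻¹ * k * g) (hg k hk)
  calc k * (g * v * g⁻¹) = g * ((g⁻¹ * k * g) * v) * g⁻¹ := by group
    _ = g * (v * (g⁻¹ * k * g)) * g⁻¹ := by rw [h1]
    _ = g * v * g⁻¹ * k := by group

theorem exists_maxN [Finite X] (V Z₀ : Subgroup X) (h0 : V ≠ ⊥) :
    ∃ N : Subgroup X, N ≤ Z₀ ∧ V ⊓ Subgroup.centralizer (N : Set X) ≠ ⊥ ∧
      ∀ N' : Subgroup X, N' ≤ Z₀ → N < N' → V ⊓ Subgroup.centralizer (N' : Set X) = ⊥ := by
  let P : Subgroup X → Prop := fun N => N ≤ Z₀ ∧ V ⊓ Subgroup.centralizer (N : Set X) ≠ ⊥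
  have hbot : P ⊥ := by
    refine ⟨bot_le, ?_⟩
    rw [Subgroup.coe_bot, Subgroup.centralizer_eq_top_iff_subset.mpr (by simp), inf_top_eq]
    exact h0
  obtain ⟨N, -, hN⟩ := Finite.exists_le_maximal (p := P) hbot
  refine ⟨N, hN.prop.1, hN.prop.2, ?_⟩
  intro N' hN' hlt
  by_contra hcon
  exact hN.not_prop_of_gt hlt ⟨hN', hcon⟩

end Misc

variable {X : Type u} [Group X]

/-- the minimal configuration -/
structure Min (p : ℕ) (a c : MulAut X) (r q s : ℕ) (V Q S : Subgroup X) : Prop where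
  hyp : Hyp p a c
  Vn : V.Normal
  Vc : ∀ u ∈ V, ∀ v ∈ V, u * v = v * u
  Vr : IsPGroup r V
  Va : Inv a V
  Vc' : Inv c V
  Qq : IsPGroup q Q
  Qa : Inv a Q
  Qc : Inv c Q
  Ss : IsPGroup s S
  Sa : Inv a S
  Sc : Inv c S
  qr : q ≠ r
  qs : q ≠ s
  SQ : ∀ x ∈ S, ∀ g ∈ Q, x * g * x⁻¹ ∈ Q
  Sfix : S ≤ fix a
  Qgen : Q ≤ ⁅Q, S⁆
  faith : ∀ g ∈ Q, (∀ v ∈ V, g * v = v * g) → g = 1
  Qmin : ∀ Q₁ : Subgroup X, Q₁ ≤ Q → Inv a Q₁ → Inv c Q₁ →
    (∀ x ∈ S, ∀ g ∈ Q₁, x * g * x⁻¹ ∈ Q₁) → Q₁ ≠ Q → ∀ x ∈ S, ∀ g ∈ Q₁, x * g = g * x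
  Vmin : ∀ V₁ : Subgroup X, V₁ ≤ V → Inv a V₁ → Inv c V₁ →
    (∀ g ∈ Q, ∀ v ∈ V₁, g * v * g⁻¹ ∈ V₁) → (∀ x ∈ S, ∀ v ∈ V₁, x * v * x⁻¹ ∈ V₁) →
    V₁ = ⊥ ∨ V₁ = V
  Qne : Q ≠ ⊥

namespace Min

variable [Finite X] {p : ℕ} {a c : MulAut X} {r q s : ℕ} {V Q S : Subgroup X}
variable [hp : Fact p.Prime] [hr : Fact r.Prime] [hq : Fact q.Prime] [hs : Fact s.Prime]

/-- the automorphisms `b_i = a ^ i * c` -/
theorem bInvV (M : Min p a c r q s V Q S) (i : ℕ) : Inv (a ^ i * c) V :=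
  Inv.mul (Inv.pow M.Va i) M.Vc'

theorem bInvQ (M : Min p a c r q s V Q S) (i : ℕ) : Inv (a ^ i * c) Q :=
  Inv.mul (Inv.pow M.Qa i) M.Qc

theorem bInvS (M : Min p a c r q s V Q S) (i : ℕ) : Inv (a ^ i * c) S :=
  Inv.mul (Inv.pow M.Sa i) M.Sc

theorem b_fpf_S (M : Min p a c r q s V Q S) (i : ℕ) (x : X) (hx : x ∈ S)
    (h : (a ^ i * c) x = x) : x = 1 := by
  have h2 : a x = x := M.Sfix hx
  exact (M.hyp.pair_b i).fpf x h h2

theorem b_pow_fpf_S (M : Min p a c r q s V Q S) (i j : ℕ) (hj0 : 0 < j) (hjp : j < p) (x : X)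
    (hx : x ∈ S) (h : ((a ^ i * c) ^ j) x = x) : x = 1 := by
  have hnd : ¬ p ∣ j := Nat.not_dvd_of_pos_of_lt hj0 hjp
  exact M.b_fpf_S i x hx (fix_of_pow_fix (M.hyp.bpow i) hnd h)

theorem S_surj (M : Min p a c r q s V Q S) (i : ℕ) (x : X) (hx : x ∈ S) :
    ∃ z ∈ S, x = z⁻¹ * (a ^ i * c) z := by
  have hf : Fpf (restrictAut (a ^ i * c) S (M.bInvS i)) := by
    intro y hy
    have := congrArg Subtype.val hy
    exact Subtype.ext (M.b_fpf_S i y y.2 this)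
  obtain ⟨z, hz⟩ := hf.surj ⟨x, hx⟩
  refine ⟨z, z.2, ?_⟩
  have := congrArg Subtype.val hz
  exact this.symm

/-- nilpotency of the centralizer of `a` -/
theorem N1a (M : Min p a c r q s V Q S) (g : X) (hg : g ∈ Q) (hag : a g = g) (v : X)
    (hv : v ∈ V) (hav : a v = v) : g * v = v * g :=
  fix_commute M.hyp M.qr g v hag hav (pow_of_mem_pgroup M.Qq hg) (pow_of_mem_pgroup M.Vr hv)

/-- nilpotency of the centralizer of `a ^ i * c` -/
theorem N1b (M : Min p a c r q s V Q S) (i : ℕ) (g : X) (hg : g ∈ Q)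
    (hbg : (a ^ i * c) g = g) (v : X) (hv : v ∈ V) (hbv : (a ^ i * c) v = v) : g * v = v * g :=
  fix_commute (M.hyp.pair_b i) M.qr g v hbg hbv (pow_of_mem_pgroup M.Qq hg)
    (pow_of_mem_pgroup M.Vr hv)

theorem N2 (M : Min p a c r q s V Q S) (g : X) (hg : g ∈ Q) (hag : a g = g) (x : X)
    (hx : x ∈ S) : x * g = g * x :=
  (fix_commute M.hyp M.qs g x hag (M.Sfix hx) (pow_of_mem_pgroup M.Qq hg)
    (pow_of_mem_pgroup M.Ss hx)).symm

/-- the subgroup `Z = C_Q(S)` -/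
def Zs (Q S : Subgroup X) : Subgroup X := Q ⊓ Subgroup.centralizer (S : Set X)

theorem mem_Zs {Q S : Subgroup X} {g : X} :
    g ∈ Zs Q S ↔ g ∈ Q ∧ ∀ x ∈ S, x * g = g * x := by
  unfold Zs
  rw [Subgroup.mem_inf, Subgroup.mem_centralizer_iff]
  rfl

theorem fixQ_le_Zs (M : Min p a c r q s V Q S) : Q ⊓ fix a ≤ Zs Q S := by
  intro g hg
  rw [mem_Zs]
  exact ⟨hg.1, fun x hx => M.N2 g hg.1 (mem_fix.mp hg.2) x hx⟩

theorem Zs_inv_a (M : Min p a c r q s V Q S) : Inv a (Zs Q S) :=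
  Inv.inf' M.Qa (Inv.centralizer M.Sa)

theorem Zs_inv_c (M : Min p a c r q s V Q S) : Inv c (Zs Q S) :=
  Inv.inf' M.Qc (Inv.centralizer M.Sc)

theorem Zs_le (Q S : Subgroup X) : Zs Q S ≤ Q := inf_le_left

theorem S_conj_Zs (M : Min p a c r q s V Q S) (x : X) (hx : x ∈ S) (g : X) (hg : g ∈ Zs Q S) :
    x * g * x⁻¹ = g := by
  rw [mem_Zs] at hg
  rw [hg.2 x hx]
  group

theorem Q_nilpotent (M : Min p a c r q s V Q S) : Group.IsNilpotent ↥Q := M.Qq.isNilpotent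

theorem comm_le_Zs (M : Min p a c r q s V Q S) : ⁅Q, Q⁆ ≤ Zs Q S := by
  have hle : ⁅Q, Q⁆ ≤ Q := by
    rw [Subgroup.commutator_le]
    intro g₁ h₁ g₂ h₂
    rw [commutatorElement_def]
    exact Q.mul_mem (Q.mul_mem (Q.mul_mem h₁ h₂) (Q.inv_mem h₁)) (Q.inv_mem h₂)
  have hne : ⁅Q, Q⁆ ≠ Q := by
    intro heq
    haveI : Nontrivial ↥Q := (Subgroup.nontrivial_iff_ne_bot Q).mpr M.Qne
    haveI := M.Q_nilpotent
    have h1 : _root_.commutator ↥Q < ⊤ := IsSolvable.commutator_lt_top_of_nontrivial ↥Q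
    have h2 : (_root_.commutator ↥Q).map Q.subtype = ⁅Q, Q⁆ := by
      rw [commutator_def, Subgroup.map_commutator, ← MonoidHom.range_eq_map, Subgroup.range_subtype]
    have h3 : (_root_.commutator ↥Q).map Q.subtype = (⊤ : Subgroup ↥Q).map Q.subtype := by
      rw [h2, heq, ← MonoidHom.range_eq_map, Subgroup.range_subtype]
    have h4 := Subgroup.map_injective (Subgroup.subtype_injective Q) h3
    exact (ne_of_lt h1) h4
  have hconj : ∀ x ∈ S, ∀ g ∈ ⁅Q, Q⁆, x * g * x⁻¹ ∈ ⁅Q, Q⁆ := by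
    intro x hx g hg
    have h1 : (⁅Q, Q⁆).map (MulAut.conj x).toMonoidHom ≤ ⁅Q, Q⁆ := by
      rw [Subgroup.map_commutator]
      have h2 : Q.map (MulAut.conj x).toMonoidHom ≤ Q := by
        rintro _ ⟨y, hy, rfl⟩
        exact M.SQ x hx y hy
      exact Subgroup.commutator_mono h2 h2
    exact h1 ⟨g, hg, rfl⟩
  have h5 := M.Qmin ⁅Q, Q⁆ hle (Inv.commutator M.Qa M.Qa) (Inv.commutator M.Qc M.Qc) hconj hne
  intro g hg
  rw [mem_Zs]
  exact ⟨hle hg, fun x hx => h5 x hx g hg⟩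

/-- `Z` is central in `Q` -/
theorem Zs_central (M : Min p a c r q s V Q S) (z : X) (hz : z ∈ Zs Q S) (g : X) (hg : g ∈ Q) :
    z * g = g * z := by
  have hZS : Zs Q S ≤ Subgroup.centralizer (S : Set X) := inf_le_right
  have h1 : ⁅⁅S, Zs Q S⁆, Q⁆ = ⊥ := by
    have : ⁅S, Zs Q S⁆ = ⊥ := by
      rw [Subgroup.commutator_comm, Subgroup.commutator_eq_bot_iff_le_centralizer]
      exact hZS
    rw [this, Subgroup.commutator_bot_left]
  have h2 : ⁅⁅Zs Q S, Q⁆, S⁆ = ⊥ := by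
    rw [Subgroup.commutator_eq_bot_iff_le_centralizer]
    have : ⁅Zs Q S, Q⁆ ≤ ⁅Q, Q⁆ := Subgroup.commutator_mono (Zs_le Q S) le_rfl
    exact (this.trans M.comm_le_Zs).trans hZS
  have h3 : ⁅⁅Q, S⁆, Zs Q S⁆ = ⊥ := Subgroup.commutator_commutator_eq_bot_of_rotate h1 h2
  have h4 : ⁅Q, Zs Q S⁆ = ⊥ := by
    rw [eq_bot_iff, ← h3]
    exact Subgroup.commutator_mono M.Qgen le_rfl
  rw [Subgroup.commutator_eq_bot_iff_le_centralizer] at h4
  have := Subgroup.mem_centralizer_iff.mp (h4 hg) z hz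
  exact this

/-- generation of `Q` by fixed points -/
theorem Q_gen_fix (M : Min p a c r q s V Q S) (T : Subgroup X) (hTa : Q ⊓ fix a ≤ T)
    (hTb : ∀ i : ℕ, Q ⊓ fix (a ^ i * c) ≤ T) : Q ≤ T :=
  gen_sub a c M.hyp.comm M.hyp.apow M.hyp.cpow M.hyp.cop Q M.Qa M.Qc M.Q_nilpotent T hTa hTb

theorem coprime_QV (M : Min p a c r q s V Q S) (K : Subgroup X) (hK : K ≤ Q) :
    (Nat.card K).Coprime (Nat.card V) := by
  have hKq : IsPGroup q K := M.Qq.to_le hK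
  exact IsPGroup.coprime_card_of_ne q r M.qr K V hKq M.Vr

theorem coprime_SQ (M : Min p a c r q s V Q S) (K : Subgroup X) (hK : K ≤ Q) :
    (Nat.card S).Coprime (Nat.card K) := by
  have hKq : IsPGroup q K := M.Qq.to_le hK
  exact IsPGroup.coprime_card_of_ne s q M.qs.symm S K M.Ss hKq

theorem V_ne_bot (M : Min p a c r q s V Q S) : V ≠ ⊥ := by
  intro hV
  apply M.Qne
  rw [eq_bot_iff]
  intro g hg
  rw [Subgroup.mem_bot]
  apply M.faith g hg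
  intro v hv
  rw [hV, Subgroup.mem_bot] at hv
  rw [hv, mul_one, one_mul]

/-- fixed points on `V` of a nontrivial invariant subgroup of `Q` are trivial -/
theorem cV_trivial (M : Min p a c r q s V Q S) (K : Subgroup X) (hK : K ≤ Q) (hne : K ≠ ⊥)
    (hKa : Inv a K) (hKc : Inv c K) (hKQ : ∀ g ∈ Q, ∀ k ∈ K, g⁻¹ * k * g ∈ K)
    (hKS : ∀ x ∈ S, ∀ k ∈ K, x⁻¹ * k * x ∈ K) :
    V ⊓ Subgroup.centralizer (K : Set X) = ⊥ := by
  haveI := M.Vn
  have h1 := M.Vmin (V ⊓ Subgroup.centralizer (K : Set X)) inf_le_left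
    (Inv.inf' M.Va (Inv.centralizer hKa)) (Inv.inf' M.Vc' (Inv.centralizer hKc))
    (fun g hg v hv => ⟨M.Vn.conj_mem v hv.1 g, conj_mem_centralizer (hKQ g hg) hv.2⟩)
    (fun x hx v hv => ⟨M.Vn.conj_mem v hv.1 x, conj_mem_centralizer (hKS x hx) hv.2⟩)
  rcases h1 with h1 | h1
  · exact h1
  · exfalso
    apply hne
    rw [eq_bot_iff]
    intro k hk
    rw [Subgroup.mem_bot]
    apply M.faith k (hK hk)
    intro v hv
    have hv' : v ∈ V ⊓ Subgroup.centralizer (K : Set X) := by rw [h1]; exact hv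
    exact Subgroup.mem_centralizer_iff.mp hv'.2 k hk

end Min

end Cfsg.Agent.Lib.Helper6.Wd
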