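import Mathlib
import Cfsg.Agent.Lib.Helper9.JRDefs
import Cfsg.Agent.Lib.Helper5.PSL2KleinClasses

/-!
# Farm JR (S3206): unit U3 `P3` (an element normalizing the Sylow four-group of `PSL₂(q)`,
`q ≡ 3, 5 (mod 8)`, and fixing none of its involutions).
-/

set_option autoImplicit false

namespace Cfsg.Agent.Lib.Helper6.JRP3

open Cfsg.Agent.Lib.Helper9.JRDefs Cfsg.Agent.Lib.Helper5.PairOrbits
  Cfsg.Agent.Lib.Helper5.PSL2KleinClasses Cfsg.Agent.Lib.Helper5.SL2Quat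
  Cfsg.Agent.Lib.Helper5.SumTwoSq

/-- generators of a Klein four subgroup -/
theorem exists_pair {H : Type*} [Group H] (W : Subgroup H) [hK : IsKleinFour ↥W] :
    ∃ x y : H, x ∈ W ∧ y ∈ W ∧ (x, y) ∈ PairSet H ∧
      ∀ w ∈ W, w = 1 ∨ w = x ∨ w = y ∨ w = x * y := by
  classical
  have hfin : Finite ↥W := IsKleinFour.instFinite
  have hc : Nat.card ↥W = 4 := IsKleinFour.card_four
  have hnt : Nontrivial ↥W := by
    rw [← Finite.one_lt_card_iff_nontrivial]; omega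
  obtain ⟨x, hx⟩ := exists_ne (1 : ↥W)
  have hy : ∃ y : ↥W, y ≠ 1 ∧ y ≠ x := by
    by_contra hcon
    push Not at hcon
    have hsub : (Set.univ : Set ↥W) ⊆ {1, x} := by
      intro y _
      by_cases hy : y = 1
      · left; exact hy
      · right; exact hcon y hy
    have h1 : (Set.univ : Set ↥W).ncard ≤ ({1, x} : Set ↥W).ncard :=
      Set.ncard_le_ncard hsub (Set.toFinite _)
    have h2 : ({1, x} : Set ↥W).ncard ≤ ({x} : Set ↥W).ncard + 1 := Set.ncard_insert_le _ _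
    rw [Set.ncard_singleton] at h2
    rw [Set.ncard_univ, hc] at h1
    omega
  obtain ⟨y, hy1, hyx⟩ := hy
  have hxx : (x : H) * x = 1 := by
    have := congrArg Subtype.val (IsKleinFour.mul_self x)
    simpa using this
  have hyy : (y : H) * y = 1 := by
    have := congrArg Subtype.val (IsKleinFour.mul_self y)
    simpa using this
  have hcomm : (y : H) * x = x * y := by
    have h := (IsKleinFour.isMulCommutative (G := ↥W)).is_comm.comm y x
    have := congrArg Subtype.val h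
    simpa using this
  refine ⟨x, y, x.2, y.2, ⟨⟨fun h => hx (Subtype.ext h), hxx⟩,
    fun h => hy1 (Subtype.ext h), hyy, fun h => hyx (Subtype.ext h), hcomm⟩, ?_⟩
  intro w hw
  by_cases h1 : (⟨w, hw⟩ : ↥W) = 1
  · left; exact congrArg Subtype.val h1
  by_cases h2 : (⟨w, hw⟩ : ↥W) = x
  · right; left; exact congrArg Subtype.val h2
  by_cases h3 : (⟨w, hw⟩ : ↥W) = y
  · right; right; left; exact congrArg Subtype.val h3
  right; right; right
  have := IsKleinFour.eq_mul_of_ne_all hx hy1 (fun h => hyx h.symm) h1 h2 h3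
  have := congrArg Subtype.val this
  simpa using this

/-- generic: an element cycling `x → y → xy` normalizes `{1, x, y, xy}` and fixes only `1` -/
theorem cycle_fpf {H : Type*} [Group H] (W : Subgroup H) (x y ρ : H) (hxW : x ∈ W) (hyW : y ∈ W)
    (hP : (x, y) ∈ PairSet H) (hall : ∀ w ∈ W, w = 1 ∨ w = x ∨ w = y ∨ w = x * y)
    (h1 : ρ * x * ρ⁻¹ = y) (h2 : ρ * y * ρ⁻¹ = x * y) :
    (∀ w ∈ W, ρ * w * ρ⁻¹ ∈ W) ∧ ∀ w ∈ W, ρ * w * ρ⁻¹ = w → w = 1 := by
  obtain ⟨⟨hx1, hxx⟩, hy1, hyy, hyx, hcomm⟩ := hP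
  simp only at hx1 hxx hy1 hyy hyx hcomm
  have h3 : ρ * (x * y) * ρ⁻¹ = x := by
    calc ρ * (x * y) * ρ⁻¹ = (ρ * x * ρ⁻¹) * (ρ * y * ρ⁻¹) := by group
      _ = y * (x * y) := by rw [h1, h2]
      _ = (y * x) * y := by group
      _ = x * (y * y) := by rw [hcomm]; group
      _ = x := by rw [hyy, mul_one]
  constructor
  · intro w hw
    rcases hall w hw with hw1 | hw1 | hw1 | hw1
    · rw [hw1]; simpa using W.one_mem
    · rw [hw1, h1]; exact hyW
    · rw [hw1, h2]; exact W.mul_mem hxW hyW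
    · rw [hw1, h3]; exact hxW
  · intro w hw hfix
    rcases hall w hw with hw1 | hw1 | hw1 | hw1
    · exact hw1
    · exfalso; rw [hw1, h1] at hfix; exact hyx hfix
    · exfalso
      rw [hw1, h2] at hfix
      apply hx1
      have := congrArg (fun z => z * y⁻¹) hfix
      simpa using this
    · exfalso
      rw [hw1, h3] at hfix
      apply hy1
      have := congrArg (fun z => x⁻¹ * z) hfix
      simpa using this.symm

section psl
variable {F : Type*} [Field F] [Fintype F]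

/-- `P3` for `PSL₂(F)` itself -/
theorem P3_psl (hq : Fintype.card F % 8 = 3 ∨ Fintype.card F % 8 = 5) (W : Sylow 2 (PSL2 F)) :
    ∃ ρ : PSL2 F, (∀ w ∈ W, ρ * w * ρ⁻¹ ∈ W) ∧ ∀ w ∈ W, ρ * w * ρ⁻¹ = w → w = 1 := by
  have hodd : Fintype.card F % 2 = 1 := by omega
  have h2 : (2 : F) ≠ 0 := two_ne_zero_of_odd hodd
  have hK : IsKleinFour ↥(W : Subgroup (PSL2 F)) :=
    Cfsg.Agent.Lib.Helper5.PSL2Klein.isKleinFour_sylow hq W
  obtain ⟨x, y, hxW, hyW, hP, hall⟩ := exists_pair (W : Subgroup (PSL2 F))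
  obtain ⟨p, r, hpr, g, hg⟩ := exists_rel_Pw hodd (x, y) hP
  have e1 : g * x * g⁻¹ = QuotientGroup.mk (qi F) := congrArg Prod.fst hg
  have e2 : g * y * g⁻¹ = QuotientGroup.mk (qj p r hpr) := congrArg Prod.snd hg
  have c1 := conj_mk (hh h2 p r hpr) (qi F) (qj p r hpr) (hh_qi h2 p r hpr)
  have c2 := conj_mk (hh h2 p r hpr) (qj p r hpr) (qi F * qj p r hpr) (hh_qj h2 p r hpr)
  rw [QuotientGroup.mk_mul] at c2
  obtain ⟨h, hh'⟩ : ∃ h : PSL2 F, h = QuotientGroup.mk (hh h2 p r hpr) := ⟨_, rfl⟩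
  rw [← hh'] at c1 c2
  rw [← e1, ← e2] at c1 c2
  refine ⟨g⁻¹ * h * g, cycle_fpf (W : Subgroup (PSL2 F)) x y _ hxW hyW hP hall ?_ ?_⟩
  · calc g⁻¹ * h * g * x * (g⁻¹ * h * g)⁻¹ = g⁻¹ * (h * (g * x * g⁻¹) * h⁻¹) * g := by group
      _ = g⁻¹ * (g * y * g⁻¹) * g := by rw [c1]
      _ = y := by group
  · calc g⁻¹ * h * g * y * (g⁻¹ * h * g)⁻¹ = g⁻¹ * (h * (g * y * g⁻¹) * h⁻¹) * g := by group
      _ = g⁻¹ * (g * x * g⁻¹ * (g * y * g⁻¹)) * g := by rw [c2]
      _ = x * y := by group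

variable {N : Type*} [Group N]

/-- UNIT U3 (P3). -/
theorem P3 (hq : Fintype.card F % 8 = 3 ∨ Fintype.card F % 8 = 5) (hF3 : 3 < Fintype.card F)
    (e : N ≃* PSL2 F) (V : Sylow 2 N) :
    ∃ r : N, (∀ v ∈ V, r * v * r⁻¹ ∈ V) ∧ ∀ v ∈ V, r * v * r⁻¹ = v → v = 1 := by
  have : Fact (Nat.Prime 2) := ⟨Nat.prime_two⟩
  have hle : (V : Subgroup N) ≤ e.symm.toMonoidHom.range := by
    intro v _
    exact ⟨e v, by simp⟩
  have hinj : Function.Injective (e.symm.toMonoidHom : PSL2 F →* N) := e.symm.injective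
  obtain ⟨W, hW⟩ : ∃ W : Sylow 2 (PSL2 F), ∀ z, z ∈ W ↔ e.symm z ∈ V := by
    refine ⟨V.comapOfInjective e.symm.toMonoidHom hinj hle, fun z => ?_⟩
    have hcoe := Sylow.coe_comapOfInjective V e.symm.toMonoidHom hinj hle
    show z ∈ ((V.comapOfInjective e.symm.toMonoidHom hinj hle : Sylow 2 (PSL2 F)) :
      Subgroup (PSL2 F)) ↔ _
    rw [hcoe]
    rfl
  obtain ⟨ρ, hρ1, hρ2⟩ := P3_psl hq W
  refine ⟨e.symm ρ, ?_, ?_⟩
  · intro v hv
    have hev : e v ∈ W := by rw [hW]; simpa using hv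
    have := (hW _).mp (hρ1 (e v) hev)
    simpa using this
  · intro v hv hfix
    have hev : e v ∈ W := by rw [hW]; simpa using hv
    have h1 : ρ * e v * ρ⁻¹ = e v := by
      have := congrArg e hfix
      simpa using this
    have h2 := hρ2 (e v) hev h1
    exact (map_eq_one_iff e e.injective).mp h2

end psl

end Cfsg.Agent.Lib.Helper6.JRP3
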