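import Mathlib
import Cfsg.Agent.Lib.Helper6.ProdChar
import Cfsg.Agent.Lib.Helper6.Auto
import Cfsg.Agent.Lib.Helper6.IndFun

set_option autoImplicit false

/-!
Irreducible characters of a finite power `Q → D` of a finite group.
-/

namespace Cfsg.Agent.Lib.Helper6.Dade

open scoped ComplexConjugate

section pi

variable {Q : Type*} [Fintype Q] [DecidableEq Q] {D : Type*} [Group D] [Fintype D]

/-- the outer product of a family of functions -/
def piFun (θ : Q → D → ℂ) : (Q → D) → ℂ := fun f => ∏ q, θ q (f q)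

theorem piFun_apply (θ : Q → D → ℂ) (f : Q → D) : piFun θ f = ∏ q, θ q (f q) := rfl

theorem sum_pi_prod {α : Type*} [Fintype α] [DecidableEq α] {R : Type*} [CommSemiring R]
    (F : Q → α → R) : ∑ f : Q → α, ∏ q, F q (f q) = ∏ q, ∑ a : α, F q a := by
  rw [Finset.prod_univ_sum, Fintype.piFinset_univ]

theorem isCharacter_piFun {θ : Q → D → ℂ} (hθ : ∀ q, Cfsg.IsCharacter D (θ q)) :
    Cfsg.IsCharacter (Q → D) (piFun θ) := by
  have key : ∀ s : Finset Q, Cfsg.IsCharacter (Q → D) (fun f => ∏ q ∈ s, θ q (f q)) := by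
    intro s
    induction s using Finset.induction_on with
    | empty =>
      simp only [Finset.prod_empty]
      exact isCharacter_one
    | insert a s ha ih =>
      have h1 := IsCharacter.comp (Pi.evalMonoidHom (fun _ : Q => D) a) (hθ a)
      have h2 := IsCharacter.mul h1 ih
      have h3 : (fun f : Q → D => ∏ q ∈ insert a s, θ q (f q))
          = (fun f : Q → D => θ a ((Pi.evalMonoidHom (fun _ : Q => D) a) f))
            * (fun f : Q → D => ∏ q ∈ s, θ q (f q)) := by
        funext f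
        rw [Finset.prod_insert ha]
        rfl
      rw [h3]
      exact h2
  exact key Finset.univ

theorem classInner_piFun (θ θ' : Q → D → ℂ) :
    Cfsg.classInner (piFun θ) (piFun θ') = ∏ q, Cfsg.classInner (θ q) (θ' q) := by
  classical
  unfold Cfsg.classInner
  rw [Finset.prod_mul_distrib, Nat.card_pi, Nat.cast_prod, Finset.prod_inv_distrib]
  congr 1
  rw [← sum_pi_prod]
  apply Finset.sum_congr rfl
  intro f _
  rw [piFun_apply, piFun_apply, map_prod, Finset.prod_mul_distrib]

theorem isIrrCharacter_piFun {θ : Q → D → ℂ} (hθ : ∀ q, Cfsg.IsIrrCharacter D (θ q)) :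
    Cfsg.IsIrrCharacter (Q → D) (piFun θ) := by
  apply isIrrCharacter_of_classInner_self_eq_one
    (isCharacter_piFun (fun q => IsIrrCharacter.isCharacter (hθ q)))
  rw [classInner_piFun]
  apply Finset.prod_eq_one
  intro q _
  rw [classInner_isIrrCharacter (hθ q) (hθ q), if_pos rfl]

theorem piFun_injective_irr {θ θ' : Q → D → ℂ} (hθ : ∀ q, Cfsg.IsIrrCharacter D (θ q))
    (hθ' : ∀ q, Cfsg.IsIrrCharacter D (θ' q)) (h : piFun θ = piFun θ') : θ = θ' := by
  have h1 := classInner_isIrrCharacter (isIrrCharacter_piFun hθ) (isIrrCharacter_piFun hθ')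
  rw [if_pos h, classInner_piFun] at h1
  funext q
  by_contra hne
  have h2 : Cfsg.classInner (θ q) (θ' q) = 0 := by
    rw [classInner_isIrrCharacter (hθ q) (hθ' q), if_neg hne]
  have h3 : ∏ q, Cfsg.classInner (θ q) (θ' q) = 0 :=
    Finset.prod_eq_zero (Finset.mem_univ q) h2
  rw [h3] at h1
  exact zero_ne_one h1

theorem piFun_one (θ : Q → D → ℂ) : piFun θ 1 = ∏ q, θ q 1 := rfl

/-- every irreducible character of a power is an outer product -/
theorem exists_piFun_of_isIrrCharacter {χ : (Q → D) → ℂ}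
    (hχ : Cfsg.IsIrrCharacter (Q → D) χ) :
    ∃ θ : Q → D → ℂ, (∀ q, Cfsg.IsIrrCharacter D (θ q)) ∧ χ = piFun θ := by
  classical
  have : Fintype (Cfsg.IrrCharacter D) := Fintype.ofFinite _
  have : Fintype (Cfsg.IrrCharacter (Q → D)) := Fintype.ofFinite _
  let ι : (Q → Cfsg.IrrCharacter D) → Cfsg.IrrCharacter (Q → D) :=
    fun t => ⟨piFun (fun q => (t q : D → ℂ)), isIrrCharacter_piFun (fun q => (t q).2)⟩
  have hι : Function.Injective ι := by
    intro t t' htt
    have h1 : piFun (fun q => (t q : D → ℂ)) = piFun (fun q => (t' q : D → ℂ)) :=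
      congrArg Subtype.val htt
    have h2 := piFun_injective_irr (fun q => (t q).2) (fun q => (t' q).2) h1
    funext q
    exact Subtype.ext (congrFun h2 q)
  by_contra hcon
  have hnot : (⟨χ, hχ⟩ : Cfsg.IrrCharacter (Q → D)) ∉ Finset.univ.image ι := by
    intro hmem
    obtain ⟨t, _, ht⟩ := Finset.mem_image.mp hmem
    apply hcon
    exact ⟨fun q => (t q : D → ℂ), fun q => (t q).2, (congrArg Subtype.val ht).symm⟩
  have hdprod : ∀ t : Q → Cfsg.IrrCharacter D,
      Cfsg.charDegree ((ι t : Cfsg.IrrCharacter (Q → D)) : (Q → D) → ℂ)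
        = ∏ q, Cfsg.charDegree (t q : D → ℂ) := by
    intro t
    have h1 := IsCharacter.apply_one_eq_charDegree (IsIrrCharacter.isCharacter (ι t).2)
    have h4 : ((ι t : Cfsg.IrrCharacter (Q → D)) : (Q → D) → ℂ) 1
        = ∏ q, (t q : D → ℂ) 1 := rfl
    rw [h4] at h1
    have h5 : ∀ q, (t q : D → ℂ) 1 = (Cfsg.charDegree (t q : D → ℂ) : ℂ) := fun q =>
      IsCharacter.apply_one_eq_charDegree (IsIrrCharacter.isCharacter (t q).2)
    rw [Finset.prod_congr rfl (fun q _ => h5 q), ← Nat.cast_prod] at h1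
    exact_mod_cast h1.symm
  have htotal := sum_sq_charDegree (K := Q → D)
  have himage : ∑ θ' ∈ Finset.univ.image ι, (Cfsg.charDegree (θ' : (Q → D) → ℂ)) ^ 2
      = Nat.card (Q → D) := by
    rw [Finset.sum_image (fun p _ q _ h => hι h)]
    simp only [hdprod, ← Finset.prod_pow]
    rw [sum_pi_prod (fun _ (a : Cfsg.IrrCharacter D) => Cfsg.charDegree (a : D → ℂ) ^ 2),
      Nat.card_pi]
    apply Finset.prod_congr rfl
    intro q _
    exact sum_sq_charDegree (K := D)
  have hsplit := Finset.sum_add_sum_compl (Finset.univ.image ι)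
    (fun θ' : Cfsg.IrrCharacter (Q → D) => (Cfsg.charDegree (θ' : (Q → D) → ℂ)) ^ 2)
  rw [htotal, himage] at hsplit
  have hzero : ∑ θ' ∈ (Finset.univ.image ι)ᶜ, (Cfsg.charDegree (θ' : (Q → D) → ℂ)) ^ 2 = 0 := by
    omega
  have hmem : (⟨χ, hχ⟩ : Cfsg.IrrCharacter (Q → D)) ∈ (Finset.univ.image ι)ᶜ :=
    Finset.mem_compl.mpr hnot
  have h0 := (Finset.sum_eq_zero_iff.mp hzero) _ hmem
  have hpos := IsIrrCharacter.charDegree_pos hχ
  have : Cfsg.charDegree χ = 0 := by
    simpa using h0
  omega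

end pi

end Cfsg.Agent.Lib.Helper6.Dade
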