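import Mathlib
import Cfsg.Agent.Lib.Helper6.Dade1

set_option autoImplicit false

/-!
Monomial groups: transport along isomorphisms, and powers of monomial groups.
-/

namespace Cfsg.Agent.Lib.Helper6.Dade

open scoped ComplexConjugate

/-- an M-group: every irreducible character is induced from a linear character of a subgroup -/
def IsMGroup (M : Type*) [Group M] [Fintype M] : Prop :=
  ∀ χ : M → ℂ, Cfsg.IsIrrCharacter M χ →
    ∃ (H : Subgroup M) (lam : ↥H →* ℂˣ), χ = Cfsg.indFun H (fun h => ((lam h : ℂˣ) : ℂ))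

section transport

variable {M : Type*} [Group M] [Fintype M] {M' : Type*} [Group M'] [Fintype M']

theorem extendByZero_comap (e : M' ≃* M) (H : Subgroup M) (θ : H → ℂ) (g' : M') :
    Cfsg.extendByZero (H.comap e.toMonoidHom) (fun h' => θ ⟨e h'.1, h'.2⟩) g'
      = Cfsg.extendByZero H θ (e g') := by
  by_cases hg : e g' ∈ H
  · have hg' : g' ∈ H.comap e.toMonoidHom := hg
    rw [extendByZero_of_mem _ _ hg', extendByZero_of_mem _ _ hg]
  · have hg' : g' ∉ H.comap e.toMonoidHom := hg
    rw [extendByZero_of_not_mem _ _ hg', extendByZero_of_not_mem _ _ hg]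

theorem indFun_comp_mulEquiv (e : M' ≃* M) (H : Subgroup M) (θ : H → ℂ) :
    (fun m' => Cfsg.indFun H θ (e m'))
      = Cfsg.indFun (H.comap e.toMonoidHom) (fun h' => θ ⟨e h'.1, h'.2⟩) := by
  funext m'
  unfold Cfsg.indFun
  have hcard : Nat.card (H.comap e.toMonoidHom) = Nat.card H := by
    apply Nat.card_congr
    exact
      { toFun := fun h' => ⟨e h'.1, h'.2⟩
        invFun := fun h => ⟨e.symm h.1, by
          show e (e.symm h.1) ∈ H
          rw [MulEquiv.apply_symm_apply]
          exact h.2⟩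
        left_inv := fun h' => by
          apply Subtype.ext
          simp
        right_inv := fun h => by
          apply Subtype.ext
          simp }
  rw [hcard]
  congr 1
  symm
  apply Fintype.sum_equiv e.toEquiv
  intro x'
  rw [extendByZero_comap]
  simp

theorem IsMGroup.of_mulEquiv (e : M' ≃* M) (h : IsMGroup M) : IsMGroup M' := by
  intro χ' hχ'
  have hχ : Cfsg.IsIrrCharacter M (fun m => χ' (e.symm m)) :=
    IsIrrCharacter.comp_mulEquiv e.symm hχ'
  obtain ⟨H, lam, hH⟩ := h _ hχ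
  refine ⟨H.comap e.toMonoidHom, lam.comp (e.toMonoidHom.subgroupComap H), ?_⟩
  have h1 := indFun_comp_mulEquiv e H (fun h => ((lam h : ℂˣ) : ℂ))
  rw [← hH] at h1
  simp only [MulEquiv.symm_apply_apply] at h1
  have h2 : χ' = fun m' => χ' m' := rfl
  rw [h2, h1]
  rfl

end transport

section piInd

variable {Q : Type*} [Fintype Q] [DecidableEq Q] {D : Type*} [Group D] [Fintype D]

/-- the product subgroup -/
def piSub (H : Q → Subgroup D) : Subgroup (Q → D) where
  carrier := {f | ∀ q, f q ∈ H q}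
  one_mem' := fun q => (H q).one_mem
  mul_mem' := fun ha hb q => (H q).mul_mem (ha q) (hb q)
  inv_mem' := fun ha q => (H q).inv_mem (ha q)

theorem mem_piSub (H : Q → Subgroup D) (f : Q → D) : f ∈ piSub H ↔ ∀ q, f q ∈ H q := Iff.rfl

/-- the product subgroup as a product -/
def piSubEquiv (H : Q → Subgroup D) : piSub H ≃ ∀ q, H q where
  toFun f q := ⟨f.1 q, f.2 q⟩
  invFun g := ⟨fun q => g q, fun q => (g q).2⟩
  left_inv _ := rfl
  right_inv _ := rfl

theorem card_piSub (H : Q → Subgroup D) : Nat.card (piSub H) = ∏ q, Nat.card (H q) := by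
  rw [Nat.card_congr (piSubEquiv H), Nat.card_pi]

theorem extendByZero_piSub (H : Q → Subgroup D) (θ : ∀ q, H q → ℂ) (g : Q → D) :
    Cfsg.extendByZero (piSub H) (fun h => ∏ q, θ q ⟨h.1 q, h.2 q⟩) g
      = ∏ q, Cfsg.extendByZero (H q) (θ q) (g q) := by
  by_cases hg : g ∈ piSub H
  · rw [extendByZero_of_mem _ _ hg]
    apply Finset.prod_congr rfl
    intro q _
    rw [extendByZero_of_mem _ _ (hg q)]
  · rw [extendByZero_of_not_mem _ _ hg]
    have hex : ∃ q, g q ∉ H q := by
      by_contra hcon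
      push Not at hcon
      exact hg hcon
    obtain ⟨q, hq⟩ := hex
    symm
    apply Finset.prod_eq_zero (Finset.mem_univ q)
    rw [extendByZero_of_not_mem _ _ hq]

theorem piFun_indFun (H : Q → Subgroup D) (θ : ∀ q, H q → ℂ) :
    piFun (fun q => Cfsg.indFun (H q) (θ q))
      = Cfsg.indFun (piSub H) (fun h => ∏ q, θ q ⟨h.1 q, h.2 q⟩) := by
  classical
  funext f
  rw [piFun_apply]
  unfold Cfsg.indFun
  rw [Finset.prod_mul_distrib, card_piSub, Nat.cast_prod, Finset.prod_inv_distrib]
  congr 1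
  rw [← sum_pi_prod]
  apply Finset.sum_congr rfl
  intro x _
  rw [extendByZero_piSub]
  rfl

/-- the product of a family of linear characters -/
def piLam (H : Q → Subgroup D) (lam : ∀ q, H q →* ℂˣ) : piSub H →* ℂˣ where
  toFun h := ∏ q, lam q ⟨h.1 q, h.2 q⟩
  map_one' := by
    apply Finset.prod_eq_one
    intro q _
    exact map_one (lam q)
  map_mul' a b := by
    rw [← Finset.prod_mul_distrib]
    apply Finset.prod_congr rfl
    intro q _
    rw [← map_mul]
    rfl

theorem piLam_apply (H : Q → Subgroup D) (lam : ∀ q, H q →* ℂˣ) (h : piSub H) :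
    ((piLam H lam h : ℂˣ) : ℂ) = ∏ q, ((lam q ⟨h.1 q, h.2 q⟩ : ℂˣ) : ℂ) := by
  unfold piLam
  simp only [MonoidHom.coe_mk, OneHom.coe_mk]
  rw [Units.coe_prod]

theorem isMGroup_pi (hD : IsMGroup D) : IsMGroup (Q → D) := by
  intro χ hχ
  obtain ⟨θ, hθ, rfl⟩ := exists_piFun_of_isIrrCharacter hχ
  have hex : ∀ q, ∃ (H : Subgroup D) (lam : ↥H →* ℂˣ),
      θ q = Cfsg.indFun H (fun h => ((lam h : ℂˣ) : ℂ)) := fun q => hD _ (hθ q)
  choose H lam hH using hex
  refine ⟨piSub H, piLam H lam, ?_⟩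
  have h1 : θ = fun q => Cfsg.indFun (H q) (fun h => ((lam q h : ℂˣ) : ℂ)) := funext hH
  rw [h1, piFun_indFun]
  congr 1
  funext h
  rw [piLam_apply]

end piInd

end Cfsg.Agent.Lib.Helper6.Dade
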