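import Mathlib
import Cfsg.Agent.Lib.Helper6.Dade2
import Cfsg.Agent.Lib.Helper6.CliffordStab
import Cfsg.Agent.Lib.Helper6.Ito
import Cfsg.Agent.Lib.Helper6.Ramified
import Cfsg.Agent.Lib.Helper6.BlkNormalP
import Cfsg.Agent.Lib.Helper6.IndCharComb
import Cfsg.Agent.Lib.Helper6.Linear
import Cfsg.Agent.Lib.Helper3.GlueExt
import Cfsg.Agent.S0856
import Cfsg.Agent.S0146

set_option autoImplicit false

/-!
A criterion for a group with a monomial normal subgroup of prime index to be monomial.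
-/

namespace Cfsg.Agent.Lib.Helper6.Dade

open scoped ComplexConjugate

section primeIndex

variable {W : Type*} [Group W] [Fintype W]

/-- an irreducible character lying over the trivial character of a normal subgroup of prime
index is linear -/
theorem apply_one_eq_one_of_over_trivial (B : Subgroup W) [hB : B.Normal] [Fintype B] (p : ℕ)
    (hp : p.Prime) (hidx : B.index = p) {β : W → ℂ} (hβ : Cfsg.IsIrrCharacter W β)
    (hc : Cfsg.classInner (Cfsg.indFun B (fun _ : B => (1 : ℂ))) β ≠ 0) : β 1 = 1 := by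
  classical
  have hβcf := IsIrrCharacter.isClassFunction hβ
  rw [Cfsg.Agent.S0146.result B (fun _ : B => (1 : ℂ)) β hβcf] at hc
  have hc' : Cfsg.classInner (fun b : B => β b) (fun _ : B => (1 : ℂ)) ≠ 0 := by
    intro h0
    apply hc
    rw [← classInner_conj_symm, h0, map_zero]
  have h1 : Cfsg.IsIrrCharacter B (fun _ : B => (1 : ℂ)) := isIrrCharacter_one
  have hinv : ∀ g : W, conjFun B hB (fun _ : B => (1 : ℂ)) g = (fun _ : B => (1 : ℂ)) := by
    intro g
    rfl
  have hres := restrict_eq_smul_of_invariant B hB hβ h1 hinv hc'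
  have hconst : ∀ b ∈ B, β b = β 1 := by
    intro b hb
    have e1 := congrFun hres ⟨b, hb⟩
    have e2 := congrFun hres 1
    simp only [Pi.smul_apply, smul_eq_mul, mul_one] at e1 e2
    rw [e1]
    exact e2.symm
  obtain ⟨βbar, hβbar⟩ := IsIrrCharacter.exists_deflation B ⟨β, hβ⟩ hconst
  simp only at hβbar
  have hcard : Nat.card (W ⧸ B) = p := by rw [← Subgroup.index_eq_card, hidx]
  haveI : Fact p.Prime := ⟨hp⟩
  haveI : IsCyclic (W ⧸ B) := isCyclic_of_prime_card hcard
  have hcomm : ∀ a b : W ⧸ B, a * b = b * a := fun a b => IsCyclic.commGroup.mul_comm a b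
  obtain ⟨n, ρ, hirr, hρ⟩ := βbar.2
  haveI := hirr
  have hfr := finrank_eq_one_of_comm hcomm ρ
  have : (βbar : W ⧸ B → ℂ) 1 = 1 := by
    rw [← hρ, Representation.char_one, hfr, Nat.cast_one]
  rw [hβbar]
  simpa using this

/-- the criterion -/
theorem isMGroup_of_prime_index (B : Subgroup W) [hB : B.Normal] [Fintype B] (p : ℕ)
    (hp : p.Prime) (hidx : B.index = p) (hBM : IsMGroup B)
    (hext : ∀ θ : B → ℂ, Cfsg.IsIrrCharacter B θ → (∀ g : W, conjFun B hB θ g = θ) →
      ∃ (U : Subgroup W) (μ : ↥U →* ℂˣ),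
        ∀ b : B, Cfsg.indFun U (fun u => ((μ u : ℂˣ) : ℂ)) (b : W) = θ b) :
    IsMGroup W := by
  classical
  intro χ hχ
  have hχc := IsIrrCharacter.isCharacter hχ
  have hχB : Cfsg.IsCharacter B (fun b : B => χ b) := IsCharacter.restrict B hχc
  have hχ1 : (fun b : B => χ b) 1 ≠ 0 := by
    simp only [Subgroup.coe_one]
    exact IsIrrCharacter.apply_one_ne_zero hχ
  obtain ⟨θ, hθ⟩ := IsCharacter.exists_constituent hχB hχ1
  by_cases hinv : ∀ g : W, conjFun B hB (θ : B → ℂ) g = (θ : B → ℂ)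
  · -- the invariant case
    obtain ⟨U, μ, hUμ⟩ := hext _ θ.2 hinv
    obtain ⟨ψ, hψdef⟩ : ∃ ψ : W → ℂ, ψ = Cfsg.indFun U (fun u => ((μ u : ℂˣ) : ℂ)) := ⟨_, rfl⟩
    have hψc : Cfsg.IsCharacter W ψ := by
      rw [hψdef]
      exact IsCharacter.indFun U (IsIrrCharacter.isCharacter (isIrrCharacter_of_hom μ))
    have hψB : (fun b : B => ψ (B.subtype b)) = (θ : B → ℂ) := by
      funext b
      rw [hψdef]
      exact hUμ b
    have hψirr : Cfsg.IsIrrCharacter W ψ := by
      apply Cfsg.Agent.Lib.Helper3.GlueExt.isIrrCharacter_of_comp_irr B.subtype hψc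
      rw [hψB]
      exact θ.2
    have hone : Cfsg.IsIrrCharacter B (fun _ : B => (1 : ℂ)) := isIrrCharacter_one
    have hprodeq : ((fun _ : B => (1 : ℂ)) * (θ : B → ℂ)) = (θ : B → ℂ) := by
      funext b
      simp
    have hbij := Cfsg.Agent.S0856.result B (fun _ : B => (1 : ℂ)) (θ : B → ℂ) hone θ.2
      (fun _ _ => rfl) (fun g n => congrFun (hinv g) n) (by rw [hprodeq]; exact θ.2) ψ hψirr
      (fun n => congrFun hψB n)
    have hχmem : χ ∈ {ψ' : W → ℂ | Cfsg.IsIrrCharacter W ψ' ∧
        Cfsg.classInner (Cfsg.indFun B ((fun _ : B => (1 : ℂ)) * (θ : B → ℂ))) ψ' ≠ 0} := by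
      refine ⟨hχ, ?_⟩
      rw [hprodeq, Cfsg.Agent.S0146.result B (θ : B → ℂ) χ (IsIrrCharacter.isClassFunction hχ)]
      intro h0
      apply hθ
      rw [← classInner_conj_symm, h0, map_zero]
    obtain ⟨β, ⟨hβirr, hβc⟩, hβχ⟩ := hbij.surjOn hχmem
    have hβ1 := apply_one_eq_one_of_over_trivial B p hp hidx hβirr hβc
    have hβchar := IsIrrCharacter.isCharacter hβirr
    refine ⟨U, μ * (linearCharHom hβchar hβ1).comp U.subtype, ?_⟩
    simp only at hβχ
    rw [← hβχ, mul_comm, hψdef,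
      ← indFun_mul_restrict U _ (IsIrrCharacter.isClassFunction hβirr)]
    congr 1
  · -- the non-invariant case
    have hθcf := IsIrrCharacter.isClassFunction θ.2
    have hBT : B ≤ inertia B hB (θ : B → ℂ) := le_inertia B hB hθcf
    have hTne : inertia B hB (θ : B → ℂ) ≠ ⊤ := by
      intro htop
      apply hinv
      intro g
      have : g ∈ inertia B hB (θ : B → ℂ) := by rw [htop]; exact Subgroup.mem_top g
      exact (mem_inertia B hB _ g).mp this
    have hTB : inertia B hB (θ : B → ℂ) ≤ B := by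
      have h1 := Subgroup.relIndex_mul_index hBT
      rw [hidx] at h1
      have h2 : (inertia B hB (θ : B → ℂ)).index ≠ 1 := by
        intro h
        exact hTne (Subgroup.index_eq_one.mp h)
      have h3 : (inertia B hB (θ : B → ℂ)).index ∣ p := Dvd.intro_left _ h1
      have h4 : (inertia B hB (θ : B → ℂ)).index = p := by
        rcases (Nat.dvd_prime hp).mp h3 with h | h
        · exact absurd h h2
        · exact h
      rw [h4] at h1
      have h5 : B.relIndex (inertia B hB (θ : B → ℂ)) = 1 := by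
        have hp0 : 0 < p := hp.pos
        exact Nat.eq_of_mul_eq_mul_right hp0 (by rw [h1, one_mul])
      exact Subgroup.relIndex_eq_one.mp h5
    have hstab : ∀ g : W, conjFun B hB (θ : B → ℂ) g = (θ : B → ℂ) → g ∈ B := by
      intro g hg
      exact hTB ((mem_inertia B hB _ g).mpr hg)
    obtain ⟨ψ, _, hψχ⟩ := exists_indFun_eq_of_stab B hB B (le_refl B) θ hstab ⟨χ, hχ⟩ hθ
    simp only at hψχ
    obtain ⟨H, lam, hH⟩ := hBM _ ψ.2
    rw [hH, indFun_indFun_map] at hψχ
    refine ⟨H.map B.subtype, lam.comp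
      (Subgroup.equivMapOfInjective H B.subtype Subtype.coe_injective).symm.toMonoidHom, ?_⟩
    rw [← hψχ]
    rfl

end primeIndex

end Cfsg.Agent.Lib.Helper6.Dade
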