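import Mathlib
import Cfsg.Prelude.Def_Blocks
import Cfsg.Agent.Lib.Helper6.BlkContrib
import Cfsg.Agent.Lib.Helper6.BlkPrincipal
import Cfsg.Agent.Lib.Helper6.BrPrin
import Cfsg.Agent.Lib.Helper6.Decomp
import Cfsg.Agent.Lib.Helper6.Orthogonality
import Cfsg.Agent.Lib.Helper6.IrrBasis

/-! # Characters of `p'`-degree in the principal block over an extendible character -/

set_option autoImplicit false
set_option linter.unusedSectionVars false
open Cfsg

namespace Cfsg.Agent.Lib.Helper6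

open scoped ComplexConjugate

section

variable {G : Type*} [Group G] [Fintype G] [DecidableEq G]
variable {p : ℕ} {M : Ideal Cfsg.AlgInt}

/-- transitivity of constituents along `N ≤ H ≤ G` when the `H`-character restricts irreducibly -/
theorem constituent_of_restrict_irr (N H : Subgroup G) [Fintype N] [Fintype H] (hNH : N ≤ H)
    {χ : G → ℂ} (hχ : Cfsg.IsCharacter G χ) (η : Cfsg.IrrCharacter H) (θ : Cfsg.IrrCharacter N)
    (hη : ∀ n : N, (η : H → ℂ) (Subgroup.inclusion hNH n) = (θ : N → ℂ) n)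
    (h : Cfsg.classInner (fun h : H => χ h) (η : H → ℂ) ≠ 0) :
    Cfsg.classInner (fun n : N => χ n) (θ : N → ℂ) ≠ 0 := by
  classical
  haveI : Fintype (Cfsg.IrrCharacter H) := Fintype.ofFinite _
  obtain ⟨m, hm⟩ := IsCharacter.eq_sum_irr (IsCharacter.restrict H hχ)
  have hmη : Cfsg.classInner (fun h : H => χ h) (η : H → ℂ) = (m η : ℂ) := by
    rw [hm, classInner_sum_left]
    rw [Finset.sum_eq_single η]
    · rw [← Nat.cast_smul_eq_nsmul ℂ, classInner_smul_left, classInner_irrCharacter, if_pos rfl,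
        mul_one]
    · intro ψ _ hψ
      rw [← Nat.cast_smul_eq_nsmul ℂ, classInner_smul_left, classInner_irrCharacter, if_neg hψ,
        mul_zero]
    · intro h'
      exact absurd (Finset.mem_univ _) h'
  have hmpos : 0 < m η := by
    rcases Nat.eq_zero_or_pos (m η) with h0 | h0
    · rw [hmη, h0] at h
      simp at h
    · exact h0
  have hk : ∀ ψ : Cfsg.IrrCharacter H, ∃ k : ℕ,
      Cfsg.classInner (fun n : N => (ψ : H → ℂ) (Subgroup.inclusion hNH n)) (θ : N → ℂ) = k :=
    fun ψ => IsCharacter.classInner_irr_nat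
      (IsCharacter.comp (Subgroup.inclusion hNH) (IsIrrCharacter.isCharacter ψ.2)) θ.2
  choose k hk using hk
  have hkη : k η = 1 := by
    have h1 := hk η
    have h2 : (fun n : N => (η : H → ℂ) (Subgroup.inclusion hNH n)) = (θ : N → ℂ) := by
      funext n; exact hη n
    rw [h2, classInner_irrCharacter, if_pos rfl] at h1
    exact_mod_cast h1.symm
  have h3 : (fun n : N => χ n)
      = ∑ ψ : Cfsg.IrrCharacter H, m ψ • (fun n : N => (ψ : H → ℂ) (Subgroup.inclusion hNH n)) := by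
    funext n
    have h4 := congrFun hm (Subgroup.inclusion hNH n)
    simp only [Finset.sum_apply, Pi.smul_apply] at h4 ⊢
    rw [← h4]
    rfl
  rw [h3, classInner_sum_left]
  have h5 : ∀ ψ : Cfsg.IrrCharacter H,
      Cfsg.classInner (m ψ • (fun n : N => (ψ : H → ℂ) (Subgroup.inclusion hNH n))) (θ : N → ℂ)
        = ((m ψ * k ψ : ℕ) : ℂ) := by
    intro ψ
    rw [← Nat.cast_smul_eq_nsmul ℂ, classInner_smul_left, hk ψ]
    push_cast
    ring
  rw [Finset.sum_congr rfl (fun ψ _ => h5 ψ), ← Nat.cast_sum]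
  have h6 : 0 < ∑ ψ : Cfsg.IrrCharacter H, m ψ * k ψ := by
    apply Finset.sum_pos'
    · intro ψ _; exact Nat.zero_le _
    · exact ⟨η, Finset.mem_univ _, by rw [hkη, mul_one]; exact hmpos⟩
  exact_mod_cast h6.ne'

/-- the key step: a character of `p'`-degree in the principal block of `G` over a given character
of `H` restricting to a `p'`-degree character in the principal block of `N` -/
theorem exists_principal_pPrime_over (hM : Cfsg.IsPModular p M) [Fact p.Prime]
    (N H : Subgroup G) [Fintype N] [Fintype H] (hNH : N ≤ H)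
    (hreg : ∀ h : H, ¬ p ∣ orderOf h → (h : G) ∈ N)
    (hHp : (Nat.card H).factorization p = (Nat.card G).factorization p)
    (θ : Cfsg.IrrCharacter N) (hθ : θ ∈ Cfsg.principalBlock M N)
    (hdeg : ¬ p ∣ Cfsg.charDegree (θ : N → ℂ))
    (η : Cfsg.IrrCharacter H)
    (hη : ∀ n : N, (η : H → ℂ) (Subgroup.inclusion hNH n) = (θ : N → ℂ) n) :
    ∃ χ : Cfsg.IrrCharacter G, χ ∈ Cfsg.principalBlock M G ∧
      ¬ p ∣ Cfsg.charDegree (χ : G → ℂ) ∧
      Cfsg.classInner (fun h : H => (χ : G → ℂ) h) (η : H → ℂ) ≠ 0 := by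
  classical
  have hp : p.Prime := hM.1
  haveI : Fintype (Cfsg.IrrCharacter G) := Fintype.ofFinite _
  obtain ⟨aG, haG⟩ : ∃ aG, aG = (Nat.card G).factorization p := ⟨_, rfl⟩
  obtain ⟨aN, haN⟩ : ∃ aN, aN = (Nat.card N).factorization p := ⟨_, rfl⟩
  -- the coefficient for `N`
  obtain ⟨cN, hcN⟩ : ∃ cN : ℤ, cN = cInt p ((oneIrr N : Cfsg.IrrCharacter N) : N → ℂ) (θ : N → ℂ) :=
    ⟨_, rfl⟩
  have hcNp : ¬ (p : ℤ) ∣ cN := by
    have h0 : Cfsg.blockHeight p (Cfsg.blockOf M ((oneIrr N : Cfsg.IrrCharacter N) : N → ℂ))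
        ((oneIrr N : Cfsg.IrrCharacter N) : N → ℂ) = 0 := by
      unfold Cfsg.blockHeight
      have : Cfsg.charDegree ((oneIrr N : Cfsg.IrrCharacter N) : N → ℂ) = 1 := charDegree_one_fun
      rw [this]
      simp
    have h1 := not_pow_succ_dvd_cInt hM (oneIrr N) (oneIrr N) θ (sameBlock_refl hM _)
      (by rw [← principalBlock_eq]; exact hθ) h0
    have h2 : (Cfsg.charDegree (θ : N → ℂ)).factorization p = 0 :=
      Nat.factorization_eq_zero_of_not_dvd hdeg
    rw [h2, zero_add, pow_one, ← hcN] at h1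
    exact h1
  have hcNspec := cInt_spec hM (oneIrr N) θ
  rw [← hcN] at hcNspec
  -- the sum over the `p`-regular elements of `N`
  obtain ⟨T, hT⟩ : ∃ T : ℂ, T = ∑ n ∈ Finset.univ.filter (fun n : N => ¬ p ∣ orderOf n),
      conj ((θ : N → ℂ) n) := ⟨_, rfl⟩
  have hNT : (Nat.card N : ℂ) * (cN : ℂ) = ((p ^ aN : ℕ) : ℂ) * T := by
    rw [← hcNspec]
    unfold Cfsg.classInner
    rw [← mul_assoc, mul_inv_cancel₀ (card_ne_zero_complex N), one_mul, hT, Finset.mul_sum,
      Finset.sum_filter]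
    apply Finset.sum_congr rfl
    intro n _
    unfold tildeFun
    by_cases hn : p ∣ orderOf n
    · rw [if_pos hn, if_neg (not_not.mpr hn), zero_mul]
    · rw [if_neg hn, if_pos hn, ← haN]
      show ((p ^ aN : ℕ) : ℂ) * (1 : ℂ) * conj ((θ : N → ℂ) n) = _
      rw [mul_one]
  -- the coefficients for `G`
  obtain ⟨c, hc, hci, hc0⟩ := tildeFun_int_coeff hM (oneIrr G)
  have hm : ∀ β : Cfsg.IrrCharacter G, ∃ m : ℕ,
      Cfsg.classInner (fun h : H => (β : G → ℂ) h) (η : H → ℂ) = m := fun β =>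
    IsCharacter.classInner_irr_nat (IsCharacter.restrict H (IsIrrCharacter.isCharacter β.2)) η.2
  choose m hm using hm
  obtain ⟨S, hS⟩ : ∃ S : ℤ, S = ∑ β : Cfsg.IrrCharacter G, c β * (m β : ℤ) := ⟨_, rfl⟩
  have hHS : (Nat.card H : ℂ) * (S : ℂ) = ((p ^ aG : ℕ) : ℂ) * T := by
    have h1 : Cfsg.classInner (fun h : H => tildeFun p ((oneIrr G : Cfsg.IrrCharacter G) : G → ℂ) h)
        (η : H → ℂ) = (S : ℂ) := by
      have h2 : (fun h : H => tildeFun p ((oneIrr G : Cfsg.IrrCharacter G) : G → ℂ) h)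
          = ∑ β : Cfsg.IrrCharacter G, (c β : ℂ) • (fun h : H => (β : G → ℂ) h) := by
        funext h
        rw [hc]
        simp only [Finset.sum_apply, Pi.smul_apply]
      rw [h2, classInner_sum_left, hS]
      push_cast
      apply Finset.sum_congr rfl
      intro β _
      rw [classInner_smul_left, hm β]
    rw [← h1]
    unfold Cfsg.classInner
    rw [← mul_assoc, mul_inv_cancel₀ (card_ne_zero_complex H), one_mul, hT, Finset.mul_sum]
    -- reduce the sum over `H` to the `p`-regular elements of `N`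
    have h3 : ∑ h : H, tildeFun p ((oneIrr G : Cfsg.IrrCharacter G) : G → ℂ) h * conj ((η : H → ℂ) h)
        = ∑ h ∈ Finset.univ.filter (fun h : H => ¬ p ∣ orderOf h),
            ((p ^ aG : ℕ) : ℂ) * conj ((η : H → ℂ) h) := by
      rw [Finset.sum_filter]
      apply Finset.sum_congr rfl
      intro h _
      unfold tildeFun
      have hord : orderOf (h : G) = orderOf h := Subgroup.orderOf_coe h
      by_cases hn : p ∣ orderOf h
      · rw [if_pos (by rw [hord]; exact hn), if_neg (not_not.mpr hn), zero_mul]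
      · rw [if_neg (by rw [hord]; exact hn), if_pos hn, ← haG]
        show ((p ^ aG : ℕ) : ℂ) * (1 : ℂ) * conj ((η : H → ℂ) h) = _
        rw [mul_one]
    rw [h3]
    symm
    apply Finset.sum_nbij' (fun n : N => Subgroup.inclusion hNH n)
      (fun h : H => if hh : (h : G) ∈ N then (⟨(h : G), hh⟩ : N) else 1)
    · intro n hn
      rw [Finset.mem_filter] at hn ⊢
      refine ⟨Finset.mem_univ _, ?_⟩
      have h4 : orderOf (Subgroup.inclusion hNH n) = orderOf n := by
        rw [← Subgroup.orderOf_coe, ← Subgroup.orderOf_coe n]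
        rfl
      rw [h4]
      exact hn.2
    · intro h hh
      rw [Finset.mem_filter] at hh ⊢
      refine ⟨Finset.mem_univ _, ?_⟩
      have h5 := hreg h hh.2
      rw [dif_pos h5]
      have h4 : orderOf (⟨(h : G), h5⟩ : N) = orderOf h := by
        rw [← Subgroup.orderOf_coe, ← Subgroup.orderOf_coe h]
      rw [h4]
      exact hh.2
    · intro n _
      have h5 : ((Subgroup.inclusion hNH n : H) : G) ∈ N := n.2
      rw [dif_pos h5]
      rfl
    · intro h hh
      rw [Finset.mem_filter] at hh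
      have h5 := hreg h hh.2
      rw [dif_pos h5]
      rfl
    · intro n _
      rw [hη n]
  -- combine
  have hcomb : (Nat.card H : ℤ) * (p : ℤ) ^ aN * S = (p : ℤ) ^ aG * ((Nat.card N : ℤ) * cN) := by
    have h1 : ((Nat.card H : ℂ) * (S : ℂ)) * ((p ^ aN : ℕ) : ℂ)
        = ((p ^ aG : ℕ) : ℂ) * ((Nat.card N : ℂ) * (cN : ℂ)) := by
      rw [hHS, hNT]
      ring
    have h2 : (((Nat.card H : ℤ) * (p : ℤ) ^ aN * S : ℤ) : ℂ)
        = (((p : ℤ) ^ aG * ((Nat.card N : ℤ) * cN) : ℤ) : ℂ) := by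
      push_cast
      push_cast at h1
      linear_combination h1
    exact_mod_cast h2
  -- `p ∤ S`
  have hSp : ¬ (p : ℤ) ∣ S := by
    intro hdvd
    obtain ⟨S', hS'⟩ := hdvd
    -- `p ^ aG ∣ card H`
    have h1 : p ^ aG ∣ Nat.card H := by
      rw [haG, ← hHp]
      exact Nat.ordProj_dvd _ _
    obtain ⟨u, hu⟩ := h1
    have h2 : Nat.card N = p ^ aN * (Nat.card N / p ^ aN) := by
      rw [haN]
      exact (Nat.ordProj_mul_ordCompl_eq_self _ _).symm
    obtain ⟨v, hv⟩ : ∃ v, v = Nat.card N / p ^ aN := ⟨_, rfl⟩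
    have hvp : ¬ p ∣ v := by
      rw [hv, haN]
      exact Nat.not_dvd_ordCompl hp Nat.card_pos.ne'
    rw [← hv] at h2
    rw [hS', hu, h2] at hcomb
    push_cast at hcomb
    have hpZ : (p : ℤ) ≠ 0 := by exact_mod_cast hp.ne_zero
    have h3 : (p : ℤ) ^ aG * (p : ℤ) ^ aN * ((u : ℤ) * (p : ℤ) * S')
        = (p : ℤ) ^ aG * (p : ℤ) ^ aN * ((v : ℤ) * cN) := by
      linear_combination hcomb
    have h4 := mul_left_cancel₀ (mul_ne_zero (pow_ne_zero aG hpZ) (pow_ne_zero aN hpZ)) h3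
    have h5 : (p : ℤ) ∣ (v : ℤ) * cN := ⟨(u : ℤ) * S', by rw [← h4]; ring⟩
    have hprime : Prime (p : ℤ) := Nat.prime_iff_prime_int.mp hp
    rcases hprime.dvd_or_dvd h5 with h6 | h6
    · exact hvp (Int.natCast_dvd_natCast.mp h6)
    · exact hcNp h6
  -- choose `β`
  have hex : ∃ β : Cfsg.IrrCharacter G, ¬ (p : ℤ) ∣ c β * (m β : ℤ) := by
    by_contra hcon
    push Not at hcon
    apply hSp
    rw [hS]
    exact Finset.dvd_sum (fun β _ => hcon β)
  obtain ⟨β, hβ⟩ := hex
  have hcβ : ¬ (p : ℤ) ∣ c β := fun h => hβ (Dvd.dvd.mul_right h _)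
  have hmβ : m β ≠ 0 := by
    intro h
    apply hβ
    rw [h]
    simp
  have hcc : c β = cInt p ((oneIrr G : Cfsg.IrrCharacter G) : G → ℂ) (β : G → ℂ) := by
    have h1 := cInt_spec hM (oneIrr G) β
    rw [hci β] at h1
    exact_mod_cast h1
  refine ⟨β, ?_, ?_, ?_⟩
  · by_contra hβB
    apply hcβ
    rw [hc0 β (by rw [← principalBlock_eq]; exact hβB)]
    exact dvd_zero _
  · intro hdvd
    apply hcβ
    have h1 := pow_dvd_cInt hM (oneIrr G) β
    rw [← hcc] at h1
    have h2 : 1 ≤ (Cfsg.charDegree (β : G → ℂ)).factorization p :=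
      (Nat.Prime.dvd_iff_one_le_factorization hp (charDegree_ne_zero β)).mp hdvd
    exact dvd_trans (dvd_pow_self _ (by omega)) h1
  · rw [hm β]
    exact_mod_cast hmβ

end

end Cfsg.Agent.Lib.Helper6
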