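import Mathlib
import Cfsg.Agent.Lib.Helper6.Dade3
import Cfsg.Agent.Lib.Helper6.PrinOverExt
import Cfsg.Agent.Lib.Helper6.BlkCoverDefect
import Cfsg.Agent.Lib.Helper8.McK1
import Cfsg.Agent.Lib.Helper3.Dade5
import Cfsg.Agent.S0966
import Cfsg.Agent.S0856
import Cfsg.Agent.S0146

set_option autoImplicit false
set_option linter.unusedSectionVars false
open Cfsg

/-!
Character-theoretic lemmas for Fong's bound on heights in `p`-solvable groups: characters lying
over an invariant character of a normal subgroup of coprime order and index.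
-/

namespace Cfsg.Agent.Lib.Helper6

open scoped ComplexConjugate

section trans

variable {G : Type*} [Group G] [Fintype G] [DecidableEq G]

/-- transitivity of constituents along `L ≤ S ≤ G` -/
theorem constituent_trans (L S : Subgroup G) [Fintype L] [Fintype S] (hLS : L ≤ S)
    {χ : G → ℂ} (hχ : Cfsg.IsCharacter G χ) (η : Cfsg.IrrCharacter S) (θ : Cfsg.IrrCharacter L)
    (h1 : Cfsg.classInner (fun s : S => χ s) (η : S → ℂ) ≠ 0)
    (h2 : Cfsg.classInner (fun l : L => (η : S → ℂ) ⟨l, hLS l.2⟩) (θ : L → ℂ) ≠ 0) :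
    Cfsg.classInner (fun l : L => χ l) (θ : L → ℂ) ≠ 0 := by
  classical
  haveI : Fintype (Cfsg.IrrCharacter S) := Fintype.ofFinite _
  obtain ⟨m, hm⟩ := IsCharacter.eq_sum_irr (IsCharacter.restrict S hχ)
  have hmη : Cfsg.classInner (fun s : S => χ s) (η : S → ℂ) = (m η : ℂ) := by
    rw [hm, classInner_sum_left]
    rw [Finset.sum_eq_single η]
    · rw [← Nat.cast_smul_eq_nsmul ℂ, classInner_smul_left, classInner_irrCharacter, if_pos rfl,
        mul_one]
    · intro ψ _ hψ
      rw [← Nat.cast_smul_eq_nsmul ℂ, classInner_smul_left, classInner_irrCharacter, if_neg hψ,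
        mul_zero]
    · intro h'
      exact absurd (Finset.mem_univ _) h'
  have hmpos : 0 < m η := by
    rcases Nat.eq_zero_or_pos (m η) with h0 | h0
    · rw [hmη, h0] at h1
      simp at h1
    · exact h0
  have hk : ∀ ψ : Cfsg.IrrCharacter S, ∃ k : ℕ,
      Cfsg.classInner (fun l : L => (ψ : S → ℂ) (Subgroup.inclusion hLS l)) (θ : L → ℂ) = k :=
    fun ψ => IsCharacter.classInner_irr_nat
      (IsCharacter.comp (Subgroup.inclusion hLS) (IsIrrCharacter.isCharacter ψ.2)) θ.2
  choose k hk using hk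
  have hkη : 0 < k η := by
    rcases Nat.eq_zero_or_pos (k η) with h0 | h0
    · exfalso
      apply h2
      have := hk η
      rw [h0] at this
      rw [Nat.cast_zero] at this
      exact this
    · exact h0
  have h3 : (fun l : L => χ l)
      = ∑ ψ : Cfsg.IrrCharacter S, m ψ • (fun l : L => (ψ : S → ℂ) (Subgroup.inclusion hLS l)) := by
    funext l
    have h4 := congrFun hm (Subgroup.inclusion hLS l)
    simp only [Finset.sum_apply, Pi.smul_apply] at h4 ⊢
    rw [← h4]
    rfl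
  rw [h3, classInner_sum_left]
  have h5 : ∀ ψ : Cfsg.IrrCharacter S,
      Cfsg.classInner (m ψ • (fun l : L => (ψ : S → ℂ) (Subgroup.inclusion hLS l))) (θ : L → ℂ)
        = ((m ψ * k ψ : ℕ) : ℂ) := by
    intro ψ
    rw [← Nat.cast_smul_eq_nsmul ℂ, classInner_smul_left, hk ψ]
    push_cast
    ring
  rw [Finset.sum_congr rfl (fun ψ _ => h5 ψ), ← Nat.cast_sum]
  have h6 : 0 < ∑ ψ : Cfsg.IrrCharacter S, m ψ * k ψ := by
    apply Finset.sum_pos'
    · intro ψ _; exact Nat.zero_le _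
    · exact ⟨η, Finset.mem_univ _, Nat.mul_pos hmpos hkη⟩
  exact_mod_cast h6.ne'

/-- an invariant constituent is the only constituent -/
theorem eq_of_constituents_of_invariant (N : Subgroup G) [Fintype N] (hN : N.Normal)
    {χ : G → ℂ} (hχ : Cfsg.IsIrrCharacter G χ) (θ θ' : Cfsg.IrrCharacter N)
    (hinv : ∀ g : G, irrConj N hN g θ = θ)
    (h1 : Cfsg.classInner (fun n : N => χ n) (θ : N → ℂ) ≠ 0)
    (h2 : Cfsg.classInner (fun n : N => χ n) (θ' : N → ℂ) ≠ 0) : θ' = θ := by
  obtain ⟨g, hg⟩ := exists_conjFun_eq_of_constituents N hN hχ θ.2 θ'.2 h1 h2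
  have : θ' = irrConj N hN g θ := Subtype.ext hg
  rw [this, hinv]

end trans

section typeLevel

variable {H : Type*} [Group H] [Fintype H] [DecidableEq H]
variable {p : ℕ} {M : Ideal Cfsg.AlgInt}

/-- **Gallagher with an abelian quotient.** Over an invariant irreducible character `θ` of a normal
subgroup `K` of order prime to its index, with `H/K` abelian, every irreducible character has the
degree of `θ`. -/
theorem charDegree_eq_of_over_invariant_abelian (K : Subgroup H) [hK : K.Normal] [Fintype K]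
    (hcop : (Nat.card K).Coprime K.index) (hab : ∀ a b : H, a * b * a⁻¹ * b⁻¹ ∈ K)
    (θ : Cfsg.IrrCharacter K) (hinv : Cfsg.Agent.Lib.Helper8.McK.InvK K (θ : K → ℂ))
    (φ : Cfsg.IrrCharacter H)
    (hc : Cfsg.classInner (fun k : K => (φ : H → ℂ) k) (θ : K → ℂ) ≠ 0) :
    Cfsg.charDegree (φ : H → ℂ) = Cfsg.charDegree (θ : K → ℂ) := by
  obtain ⟨θh, hext⟩ := Cfsg.Agent.Lib.Helper8.McK.exists_extension K hcop θ hinv
  have hone : Cfsg.IsIrrCharacter K (fun _ : K => (1 : ℂ)) := isIrrCharacter_one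
  have hprodeq : ((fun _ : K => (1 : ℂ)) * (θ : K → ℂ)) = (θ : K → ℂ) := by
    funext b
    simp
  have hbij := Cfsg.Agent.S0856.result K (fun _ : K => (1 : ℂ)) (θ : K → ℂ) hone θ.2
    (fun _ _ => rfl) hinv (by rw [hprodeq]; exact θ.2) (θh : H → ℂ) θh.2 hext
  have hφmem : (φ : H → ℂ) ∈ {ψ' : H → ℂ | Cfsg.IsIrrCharacter H ψ' ∧
      Cfsg.classInner (Cfsg.indFun K ((fun _ : K => (1 : ℂ)) * (θ : K → ℂ))) ψ' ≠ 0} := by
    refine ⟨φ.2, ?_⟩
    rw [hprodeq, Cfsg.Agent.S0146.result K (θ : K → ℂ) (φ : H → ℂ)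
      (IsIrrCharacter.isClassFunction φ.2)]
    intro h0
    apply hc
    rw [← classInner_conj_symm, h0, map_zero]
  obtain ⟨β, ⟨hβirr, hβc⟩, hβφ⟩ := hbij.surjOn hφmem
  -- `β` is linear
  have hβ1 : β 1 = 1 := by
    have hβcf := IsIrrCharacter.isClassFunction hβirr
    rw [Cfsg.Agent.S0146.result K (fun _ : K => (1 : ℂ)) β hβcf] at hβc
    have hc' : Cfsg.classInner (fun b : K => β b) (fun _ : K => (1 : ℂ)) ≠ 0 := by
      intro h0
      apply hβc
      rw [← classInner_conj_symm, h0, map_zero]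
    have hinv1 : ∀ g : H, conjFun K hK (fun _ : K => (1 : ℂ)) g = (fun _ : K => (1 : ℂ)) := by
      intro g
      rfl
    have hres := restrict_eq_smul_of_invariant K hK hβirr hone hinv1 hc'
    have hconst : ∀ b ∈ K, β b = β 1 := by
      intro b hb
      have e1 := congrFun hres ⟨b, hb⟩
      have e2 := congrFun hres 1
      simp only [Pi.smul_apply, smul_eq_mul, mul_one] at e1 e2
      rw [e1]
      exact e2.symm
    obtain ⟨βbar, hβbar⟩ := IsIrrCharacter.exists_deflation K ⟨β, hβirr⟩ hconst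
    simp only at hβbar
    have hcomm : ∀ a b : H ⧸ K, a * b = b * a := by
      intro a b
      obtain ⟨a, rfl⟩ := QuotientGroup.mk_surjective a
      obtain ⟨b, rfl⟩ := QuotientGroup.mk_surjective b
      rw [← QuotientGroup.mk_mul, ← QuotientGroup.mk_mul, QuotientGroup.eq]
      have h1 := hab b⁻¹ a⁻¹
      have h2 : (a * b)⁻¹ * (b * a) = b⁻¹ * a⁻¹ * b⁻¹⁻¹ * a⁻¹⁻¹ := by group
      rw [h2]
      exact h1
    have h1 := Cfsg.Agent.Lib.Helper3.Dade.apply_one_eq_one_of_comm hcomm βbar.2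
    rw [hβbar]
    simpa using h1
  have hφ1 : (φ : H → ℂ) 1 = (θ : K → ℂ) 1 := by
    rw [← hβφ]
    simp only [Pi.mul_apply]
    rw [hβ1, one_mul]
    exact hext 1
  rw [IsCharacter.apply_one_eq_charDegree (IsIrrCharacter.isCharacter φ.2),
    IsCharacter.apply_one_eq_charDegree (IsIrrCharacter.isCharacter θ.2)] at hφ1
  exact_mod_cast hφ1

/-- over an invariant irreducible character of a normal `p'`-subgroup of `p`-power index every
covering block has full defect -/
theorem blockDefect_eq_of_over_invariant [Fact p.Prime] (hM : Cfsg.IsPModular p M)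
    (K : Subgroup H) [hK : K.Normal] [Fintype K]
    (hidx : ∃ k : ℕ, K.index = p ^ k) (hKp : ¬ p ∣ Nat.card K)
    (θ : Cfsg.IrrCharacter K) (hinv : Cfsg.Agent.Lib.Helper8.McK.InvK K (θ : K → ℂ))
    (c : Set (Cfsg.IrrCharacter H)) (hc : Cfsg.IsPBlock M c)
    (ψ : Cfsg.IrrCharacter H) (hψ : ψ ∈ c)
    (hψθ : Cfsg.classInner (fun k : K => (ψ : H → ℂ) k) (θ : K → ℂ) ≠ 0) :
    Cfsg.blockDefect p c = (Nat.card H).factorization p := by
  have hp : p.Prime := hM.1
  have hcop : (Nat.card K).Coprime K.index := by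
    obtain ⟨k, hk⟩ := hidx
    rw [hk]
    apply Nat.Coprime.pow_right
    exact ((Nat.Prime.coprime_iff_not_dvd hp).2 hKp).symm
  obtain ⟨θh, hext⟩ := Cfsg.Agent.Lib.Helper8.McK.exists_extension K hcop θ hinv
  have hθb : θ ∈ Cfsg.blockOf M (θ : K → ℂ) := sameBlock_refl hM _
  obtain ⟨B₀, _, huniq⟩ := Cfsg.Agent.S0966.result p M hM K hidx (Cfsg.blockOf M (θ : K → ℂ))
    ⟨θ, rfl⟩
  have hres : (fun k : K => (θh : H → ℂ) k) = (θ : K → ℂ) := funext hext
  have e1 : c = B₀ := huniq c ⟨hc, ψ, hψ, θ, hθb, hψθ⟩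
  have e2 : Cfsg.blockOf M (θh : H → ℂ) = B₀ := by
    apply huniq
    refine ⟨⟨θh, rfl⟩, θh, sameBlock_refl hM _, θ, hθb, ?_⟩
    rw [hres, classInner_irrCharacter, if_pos rfl]
    exact one_ne_zero
  have hθhc : θh ∈ c := by
    rw [e1, ← e2]
    exact sameBlock_refl hM _
  have hdeg : Cfsg.charDegree (θh : H → ℂ) = Cfsg.charDegree (θ : K → ℂ) := by
    have h1 := hext 1
    rw [Subgroup.coe_one, IsCharacter.apply_one_eq_charDegree (IsIrrCharacter.isCharacter θh.2),
      IsCharacter.apply_one_eq_charDegree (IsIrrCharacter.isCharacter θ.2)] at h1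
    exact_mod_cast h1
  have hfac : (Cfsg.charDegree (θh : H → ℂ)).factorization p = 0 := by
    rw [hdeg]
    apply Nat.factorization_eq_zero_of_not_dvd
    intro hdvd
    exact hKp (hdvd.trans (IsIrrCharacter.charDegree_dvd_card θ.2))
  have hInf : sInf ((fun χ : Cfsg.IrrCharacter H => (Cfsg.charDegree (χ : H → ℂ)).factorization p)
      '' c) = 0 := by
    apply Nat.le_zero.mp
    rw [← hfac]
    exact Nat.sInf_le ⟨θh, hθhc, rfl⟩
  unfold Cfsg.blockDefect
  rw [hInf, Nat.sub_zero]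

end typeLevel

end Cfsg.Agent.Lib.Helper6
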