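import Mathlib
import Cfsg.Agent.Lib.Helper3.MinDegDefs

set_option autoImplicit false

/-!
Unit U3 of the S2140 farm (coordinator helper3): `F_p`-duality for `F^k`.

* `exists_tau`: a nonzero additive map `F → ZMod p`;
* `card_perp`: `|K^⊥| = |F^k : K|` for the pairing `(r, x) ↦ τ (r ⬝ᵥ x)`.
-/

open Matrix

namespace Cfsg.Agent.Lib.Helper6.MinDeg

open Cfsg.Agent.Lib.Helper3.MinDeg

variable {F : Type*} [Field F]

theorem exists_tau [Finite F] (p : ℕ) [Fact p.Prime] [CharP F p] :
    ∃ τ : F →+ ZMod p, τ ≠ 0 := by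
  letI : Algebra (ZMod p) F := ZMod.algebra F p
  obtain ⟨f, hf⟩ := Module.Projective.exists_dual_ne_zero (ZMod p) (one_ne_zero : (1 : F) ≠ 0)
  refine ⟨f.toAddMonoidHom, fun h => hf ?_⟩
  have := DFunLike.congr_fun h (1 : F)
  simpa using this

/-- the pairing `(r, x) ↦ τ (r ⬝ᵥ x)` as a `ZMod p`-bilinear form -/
noncomputable def h6_pair (p : ℕ) [Fact p.Prime] [Algebra (ZMod p) F] (τ : F →+ ZMod p) (k : ℕ) :
    LinearMap.BilinForm (ZMod p) (Fin k → F) :=
  LinearMap.mk₂ (ZMod p) (fun r x => τ (r ⬝ᵥ x))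
    (fun r r' x => by simp only [add_dotProduct, map_add])
    (fun c r x => by rw [smul_dotProduct, ZMod.map_smul])
    (fun r x x' => by simp only [dotProduct_add, map_add])
    (fun c r x => by rw [dotProduct_smul, ZMod.map_smul])

theorem h6_pair_apply (p : ℕ) [Fact p.Prime] [Algebra (ZMod p) F] (τ : F →+ ZMod p) (k : ℕ)
    (r x : Fin k → F) : h6_pair p τ k r x = τ (r ⬝ᵥ x) := rfl

/-- if `τ (r ⬝ᵥ x) = 0` for all `r` then `x = 0` -/
theorem h6_sep {A : Type*} [AddCommGroup A] (τ : F →+ A) (hτ : τ ≠ 0) {k : ℕ} (x : Fin k → F)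
    (h : ∀ r : Fin k → F, τ (r ⬝ᵥ x) = 0) : x = 0 := by
  by_contra hx
  obtain ⟨j, hj⟩ : ∃ j, x j ≠ 0 := by
    by_contra hall
    push Not at hall
    exact hx (funext hall)
  apply hτ
  ext c
  have := h (Pi.single j (c / x j))
  rw [single_dotProduct, div_mul_cancel₀ c hj] at this
  simpa using this

theorem card_perp [Finite F] (p : ℕ) [Fact p.Prime] [CharP F p] (τ : F →+ ZMod p) (hτ : τ ≠ 0)
    {k : ℕ} (K : AddSubgroup (Fin k → F)) : Nat.card (perp τ K) = K.index := by
  letI : Algebra (ZMod p) F := ZMod.algebra F p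
  set B := h6_pair p τ k with hB
  have hnd : B.Nondegenerate := by
    refine ⟨fun x hx => ?_, fun x hx => ?_⟩
    · apply h6_sep τ hτ x
      intro r
      have := hx r
      rw [hB, h6_pair_apply, dotProduct_comm] at this
      exact this
    · apply h6_sep τ hτ x
      intro r
      exact hx r
  set K' : Submodule (ZMod p) (Fin k → F) := AddSubgroup.toZModSubmodule p K with hK'
  have hfr := LinearMap.BilinForm.finrank_orthogonal hnd K'
  have hle : Module.finrank (ZMod p) K' ≤ Module.finrank (ZMod p) (Fin k → F) :=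
    Submodule.finrank_le K'
  -- cardinalities
  have c1 : Nat.card (B.orthogonal K') = p ^ Module.finrank (ZMod p) (B.orthogonal K') := by
    rw [Module.natCard_eq_pow_finrank (K := ZMod p), Nat.card_zmod]
  have c2 : Nat.card K' = p ^ Module.finrank (ZMod p) K' := by
    rw [Module.natCard_eq_pow_finrank (K := ZMod p), Nat.card_zmod]
  have c3 : Nat.card (Fin k → F) = p ^ Module.finrank (ZMod p) (Fin k → F) := by
    rw [Module.natCard_eq_pow_finrank (K := ZMod p), Nat.card_zmod]
  have e1 : Nat.card (perp τ K) = Nat.card (B.orthogonal K') := by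
    apply Nat.card_congr
    refine Equiv.subtypeEquivRight ?_
    intro x
    rfl
  have e2 : Nat.card K = Nat.card K' := by
    apply Nat.card_congr
    refine Equiv.subtypeEquivRight ?_
    intro x
    rfl
  have hidx := K.index_mul_card
  rw [e2, c2, c3] at hidx
  rw [e1, c1, hfr]
  have hp : 0 < p ^ Module.finrank (ZMod p) K' := pow_pos (Fact.out : p.Prime).pos _
  apply Nat.eq_of_mul_eq_mul_right hp
  rw [hidx, ← pow_add, Nat.sub_add_cancel hle]

end Cfsg.Agent.Lib.Helper6.MinDeg
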