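import Mathlib
import Cfsg.Agent.Lib.Helper3.MinDegDefs
import Cfsg.Agent.Lib.Helper6.MinDegU3

set_option autoImplicit false

/-!
Unit U8 of the S2140 farm (coordinator helper3): if `K_g` has index `q` and every element of
`SL_k` fixing a nonzero `x ∈ K_g^⊥` stabilises the block of `gH`, then `K_g` is the
`F`-hyperplane `x^⊥`.
-/

open Matrix

namespace Cfsg.Agent.Lib.Helper6.MinDeg

open Cfsg.Agent.Lib.Helper3.MinDeg

variable {F : Type*} [Field F] {k : ℕ}

/-- `[[1,0],[0,A]] [[1, rA],[0,1]] = [[1,r],[0,1]] [[1,0],[0,A]]` -/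
theorem h6_levS_qel (A : Matrix.SpecialLinearGroup (Fin k) F) (r : Fin k → F) :
    levS A * qel (r ᵥ* (A : Matrix (Fin k) (Fin k) F)) = qel r * levS A := by
  apply sl_ext
  rw [Matrix.SpecialLinearGroup.coe_mul, Matrix.SpecialLinearGroup.coe_mul, levS_coe, qel_coe,
    qel_coe, fromBlocks_multiply, fromBlocks_multiply]
  congr 1 <;> simp [replicateRow_vecMul]

/-- an element `qel r₀ * levS B` stabilising the point `gH` pulls `K_g` back along `s ↦ s B` -/
theorem h6_Kof_pull (H : Subgroup (Matrix.SpecialLinearGroup (Idx k) F))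
    (g : Matrix.SpecialLinearGroup (Idx k) F) (B : Matrix.SpecialLinearGroup (Fin k) F)
    (r₀ : Fin k → F) (hn : g⁻¹ * (qel r₀ * levS B) * g ∈ H) (s : Fin k → F)
    (hs : s ᵥ* (B : Matrix (Fin k) (Fin k) F) ∈ Kof H g) : s ∈ Kof H g := by
  rw [mem_Kof] at hs ⊢
  have hcomm : qel r₀ * qel s = qel s * (qel r₀ : Matrix.SpecialLinearGroup (Idx k) F) := by
    rw [← qel_add, ← qel_add, add_comm]
  have e : qel s = (qel r₀ * levS B) * qel (s ᵥ* (B : Matrix (Fin k) (Fin k) F))
      * (qel r₀ * levS B)⁻¹ := by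
    rw [eq_mul_inv_iff_mul_eq, mul_assoc, h6_levS_qel, ← mul_assoc, ← mul_assoc, hcomm]
  have : g⁻¹ * qel s * g = (g⁻¹ * (qel r₀ * levS B) * g)
      * (g⁻¹ * qel (s ᵥ* (B : Matrix (Fin k) (Fin k) F)) * g)
      * (g⁻¹ * (qel r₀ * levS B) * g)⁻¹ := by
    rw [e]; group
  rw [this]
  exact H.mul_mem (H.mul_mem hn hs) (H.inv_mem hn)

/-- the shear `1 + x φᵀ` -/
theorem h6_tv_mulVec {x φ : Fin k → F} (h : φ ⬝ᵥ x = 0) (y : Fin k → F) :
    ((tv x φ : Matrix.SpecialLinearGroup (Fin k) F) : Matrix (Fin k) (Fin k) F) *ᵥ y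
      = y + (φ ⬝ᵥ y) • x := by
  rw [tv_coe h, add_mulVec, one_mulVec, vecMulVec_mulVec, op_smul_eq_smul]

/-- two vectors, the second not a multiple of the first: a functional killing the first with a
prescribed value on the second -/
theorem h6_exists_phi {x y : Fin k → F} (hx : x ≠ 0) (hy : ∀ c : F, y ≠ c • x) (c : F) :
    ∃ φ : Fin k → F, φ ⬝ᵥ x = 0 ∧ φ ⬝ᵥ y = c := by
  obtain ⟨i, hi⟩ : ∃ i, x i ≠ 0 := by
    by_contra hall
    push Not at hall
    exact hx (funext hall)
  obtain ⟨j, hj⟩ : ∃ j, x i * y j - x j * y i ≠ 0 := by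
    by_contra hall
    push Not at hall
    apply hy (y i / x i)
    funext j
    have := hall j
    rw [Pi.smul_apply, smul_eq_mul]
    field_simp
    linear_combination this
  set d := x i * y j - x j * y i with hd
  refine ⟨Pi.single j (c / d * x i) - Pi.single i (c / d * x j), ?_, ?_⟩
  · rw [sub_dotProduct, single_dotProduct, single_dotProduct]
    ring
  · rw [sub_dotProduct, single_dotProduct, single_dotProduct]
    field_simp
    rw [hd]

theorem Kof_eq_hyp [Fintype F] (p : ℕ) [Fact p.Prime] [CharP F p] (τ : F →+ ZMod p) (hτ : τ ≠ 0)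
    (hk : 2 ≤ k) (H : Subgroup (Matrix.SpecialLinearGroup (Idx k) F))
    (g : Matrix.SpecialLinearGroup (Idx k) F) (hidx : (Kof H g).index = Fintype.card F)
    (hinv : ∀ x : Fin k → F, x ≠ 0 → x ∈ perp τ (Kof H g) →
        ∀ A : Matrix.SpecialLinearGroup (Fin k) F, (A : Matrix (Fin k) (Fin k) F) *ᵥ x = x →
          ∃ r : Fin k → F, g⁻¹ * (qel r * levS A) * g ∈ H) :
    ∃ x : Fin k → F, x ≠ 0 ∧ Kof H g = hyp x := by
  set K := Kof H g with hK
  set P := perp τ K with hP
  have hq : 1 < Fintype.card F := Fintype.one_lt_card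
  have hcardP : Nat.card P = Fintype.card F := by
    rw [hP, card_perp p τ hτ K, hidx]
  -- a nonzero element of `P`
  obtain ⟨x, hxP, hx0⟩ : ∃ x ∈ P, x ≠ 0 := by
    have : Nontrivial P := by
      rw [← Finite.one_lt_card_iff_nontrivial, hcardP]
      exact hq
    obtain ⟨⟨x, hx⟩, hne⟩ := exists_ne (0 : P)
    refine ⟨x, hx, fun h0 => hne ?_⟩
    exact Subtype.ext h0
  -- `K` and `P` are stable under the stabiliser of `x` in `SL_k`
  have hKstab : ∀ A : Matrix.SpecialLinearGroup (Fin k) F,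
      (A : Matrix (Fin k) (Fin k) F) *ᵥ x = x → ∀ r ∈ K,
        r ᵥ* (A : Matrix (Fin k) (Fin k) F) ∈ K := by
    intro A hA r hr
    have hAinv : ((A⁻¹ : Matrix.SpecialLinearGroup (Fin k) F) : Matrix (Fin k) (Fin k) F) *ᵥ x
        = x := by
      conv_lhs => rw [← hA]
      rw [mulVec_mulVec, ← Matrix.SpecialLinearGroup.coe_mul, inv_mul_cancel,
        Matrix.SpecialLinearGroup.coe_one, one_mulVec]
    obtain ⟨r₀, hr₀⟩ := hinv x hx0 hxP A⁻¹ hAinv
    apply h6_Kof_pull H g A⁻¹ r₀ hr₀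
    rw [vecMul_vecMul, ← Matrix.SpecialLinearGroup.coe_mul, mul_inv_cancel,
      Matrix.SpecialLinearGroup.coe_one, vecMul_one]
    exact hr
  have hPstab : ∀ A : Matrix.SpecialLinearGroup (Fin k) F,
      (A : Matrix (Fin k) (Fin k) F) *ᵥ x = x → ∀ y ∈ P,
        (A : Matrix (Fin k) (Fin k) F) *ᵥ y ∈ P := by
    intro A hA y hy r hr
    rw [dotProduct_mulVec]
    exact hy _ (hKstab A hA r hr)
  -- the line `F x`
  set S : AddSubgroup (Fin k → F) := (Submodule.span F {x}).toAddSubgroup with hS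
  have hcardS : Nat.card S = Fintype.card F := by
    have h1 : Nat.card S = Nat.card (Submodule.span F {x}) := rfl
    rw [h1, Module.natCard_eq_pow_finrank (K := F), finrank_span_singleton hx0, pow_one,
      Nat.card_eq_fintype_card]
  have hmemS : ∀ y, y ∈ S ↔ ∃ c : F, c • x = y := fun y => Submodule.mem_span_singleton
  -- `P ≤ S`
  have hPS : P ≤ S := by
    intro y hy
    by_contra hyS
    have hyc : ∀ c : F, y ≠ c • x := fun c h => hyS ((hmemS y).2 ⟨c, h.symm⟩)
    have hSP : S ≤ P := by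
      intro z hz
      obtain ⟨c, rfl⟩ := (hmemS z).1 hz
      obtain ⟨φ, hφx, hφy⟩ := h6_exists_phi hx0 hyc c
      have hfix : ((tv x φ : Matrix.SpecialLinearGroup (Fin k) F) : Matrix (Fin k) (Fin k) F)
          *ᵥ x = x := by
        rw [h6_tv_mulVec hφx, hφx, zero_smul, add_zero]
      have h1 := hPstab (tv x φ) hfix y hy
      rw [h6_tv_mulVec hφx, hφy] at h1
      have := P.sub_mem h1 hy
      rwa [add_sub_cancel_left] at this
    have := AddSubgroup.eq_of_le_of_card_ge hSP (by rw [hcardP, hcardS])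
    exact hyS (this ▸ hy)
  have hPeq : P = S := AddSubgroup.eq_of_le_of_card_ge hPS (by rw [hcardP, hcardS])
  have hcx : ∀ c : F, c • x ∈ P := fun c => hPeq ▸ (hmemS _).2 ⟨c, rfl⟩
  refine ⟨x, hx0, ?_⟩
  -- `K ≤ hyp x`
  have hKle : K ≤ hyp x := by
    intro r hr
    rw [mem_hyp]
    by_contra hne
    apply hτ
    ext d
    have := hcx (d / (r ⬝ᵥ x)) r hr
    rw [dotProduct_smul, smul_eq_mul, div_mul_cancel₀ d hne] at this
    simpa using this
  -- indices
  have hSle : S ≤ perp τ (hyp x) := by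
    intro z hz r hr
    obtain ⟨c, rfl⟩ := (hmemS z).1 hz
    rw [mem_hyp] at hr
    rw [dotProduct_smul, hr, smul_zero, map_zero]
  have hidx2 : Fintype.card F ≤ (hyp x).index := by
    rw [← card_perp p τ hτ (hyp x), ← hcardS]
    exact Nat.card_mono (Set.toFinite _) hSle
  have hrel := AddSubgroup.relIndex_mul_index hKle
  rw [hidx] at hrel
  have hrel1 : K.relIndex (hyp x) = 1 := by
    have hpos : 0 < Fintype.card F := by omega
    have h0 : K.relIndex (hyp x) ≠ 0 := by
      intro h0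
      rw [h0, zero_mul] at hrel
      omega
    by_contra hne
    have h2 : 2 ≤ K.relIndex (hyp x) := by omega
    have : 2 * Fintype.card F ≤ K.relIndex (hyp x) * (hyp x).index :=
      Nat.mul_le_mul h2 hidx2
    omega
  exact le_antisymm hKle (AddSubgroup.relIndex_eq_one.1 hrel1)

end Cfsg.Agent.Lib.Helper6.MinDeg
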