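import Mathlib
import Cfsg.Agent.Lib.Helper3.MinDegDefs
import Cfsg.Agent.Lib.Helper6.MinDegU8

set_option autoImplicit false

/-!
Preparations for unit U7 (dual pair counting) of the S2140 farm: equivariance of `K_g`, the
`Q`-action on `G ⧸ H`, and the index of the stabilisers.
-/

open Matrix

namespace Cfsg.Agent.Lib.Helper6.MinDeg

open Cfsg.Agent.Lib.Helper3.MinDeg

variable {F : Type*} [Field F] {k : ℕ}

theorem h6_Kof_mul_right (H : Subgroup (Matrix.SpecialLinearGroup (Idx k) F))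
    (g h : Matrix.SpecialLinearGroup (Idx k) F) (hh : h ∈ H) : Kof H (g * h) = Kof H g := by
  ext r
  rw [mem_Kof, mem_Kof]
  have e : (g * h)⁻¹ * qel r * (g * h) = h⁻¹ * (g⁻¹ * qel r * g) * h := by group
  rw [e]
  constructor
  · intro h1
    have := H.mul_mem (H.mul_mem hh h1) (H.inv_mem hh)
    convert this using 1
    group
  · intro h1
    exact H.mul_mem (H.mul_mem (H.inv_mem hh) h1) hh

theorem h6_Kof_qel_mul (H : Subgroup (Matrix.SpecialLinearGroup (Idx k) F))
    (g : Matrix.SpecialLinearGroup (Idx k) F) (s : Fin k → F) : Kof H (qel s * g) = Kof H g := by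
  ext r
  rw [mem_Kof, mem_Kof]
  have hcomm : (qel s)⁻¹ * qel r * qel s = (qel r : Matrix.SpecialLinearGroup (Idx k) F) := by
    rw [← qel_neg, ← qel_add, ← qel_add]
    congr 1
    abel
  have e : (qel s * g)⁻¹ * qel r * (qel s * g) = g⁻¹ * ((qel s)⁻¹ * qel r * qel s) * g := by
    group
  rw [e, hcomm]

theorem h6_mem_Kof_levS_mul (H : Subgroup (Matrix.SpecialLinearGroup (Idx k) F))
    (g : Matrix.SpecialLinearGroup (Idx k) F) (A : Matrix.SpecialLinearGroup (Fin k) F)
    (r : Fin k → F) :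
    r ∈ Kof H (levS A * g) ↔ r ᵥ* (A : Matrix (Fin k) (Fin k) F) ∈ Kof H g := by
  rw [mem_Kof, mem_Kof]
  have e1 : (levS A)⁻¹ * qel r * levS A = qel (r ᵥ* (A : Matrix (Fin k) (Fin k) F)) := by
    rw [mul_assoc, ← h6_levS_qel, inv_mul_cancel_left]
  have e : (levS A * g)⁻¹ * qel r * (levS A * g) = g⁻¹ * ((levS A)⁻¹ * qel r * levS A) * g := by
    group
  rw [e, e1]

theorem h6_perp_levS {A' : Type*} [AddCommGroup A'] (τ : F →+ A')
    (H : Subgroup (Matrix.SpecialLinearGroup (Idx k) F))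
    (g : Matrix.SpecialLinearGroup (Idx k) F) (A : Matrix.SpecialLinearGroup (Fin k) F)
    (x : Fin k → F) (hx : x ∈ perp τ (Kof H g)) :
    (A : Matrix (Fin k) (Fin k) F) *ᵥ x ∈ perp τ (Kof H (levS A * g)) := by
  intro r hr
  rw [dotProduct_mulVec]
  exact hx _ ((h6_mem_Kof_levS_mul H g A r).1 hr)

/-- `K_g` depends only on the coset `gH` -/
theorem h6_Kof_out (H : Subgroup (Matrix.SpecialLinearGroup (Idx k) F))
    (g : Matrix.SpecialLinearGroup (Idx k) F) :
    Kof H ((g : Matrix.SpecialLinearGroup (Idx k) F ⧸ H)).out = Kof H g := by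
  obtain ⟨h, hh⟩ := QuotientGroup.mk_out_eq_mul H g
  rw [hh, h6_Kof_mul_right H g h h.2]

/-- the stabiliser in `Q` of a point of `G ⧸ H` has index `|W : K_g|` -/
theorem h6_stab_index (H : Subgroup (Matrix.SpecialLinearGroup (Idx k) F))
    (g : Matrix.SpecialLinearGroup (Idx k) F) :
    (MulAction.stabilizer (Q F k) ((g : Matrix.SpecialLinearGroup (Idx k) F ⧸ H))).index
      = (Kof H g).index := by
  set φ : Multiplicative (Fin k → F) →* Q F k := (qelHom (F := F) (k := k)).rangeRestrict with hφ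
  have hsurj : Function.Surjective φ := MonoidHom.rangeRestrict_surjective _
  rw [← Subgroup.index_comap_of_surjective _ hsurj, ← AddSubgroup.index_toSubgroup]
  congr 1
  ext r
  rw [Subgroup.mem_comap, MulAction.mem_stabilizer_iff]
  change (qel (Multiplicative.toAdd r) : Matrix.SpecialLinearGroup (Idx k) F)
    • ((g : Matrix.SpecialLinearGroup (Idx k) F ⧸ H)) = _ ↔ Multiplicative.toAdd r ∈ Kof H g
  rw [MulAction.Quotient.smul_mk, mem_Kof, QuotientGroup.eq]
  have e : (qel (Multiplicative.toAdd r) • g)⁻¹ * g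
      = (g⁻¹ * qel (Multiplicative.toAdd r) * g)⁻¹ := by
    rw [smul_eq_mul]; group
  rw [e, inv_mem_iff]

end Cfsg.Agent.Lib.Helper6.MinDeg
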