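import Mathlib
import Cfsg.Agent.Lib.Helper3.MinDegDefs
import Cfsg.Agent.Lib.Helper6.MinDegU7a

set_option autoImplicit false

/-!
Unit U7 (dual pair counting) of the S2140 farm, part 2: the `Q`-invariant sets
`S_x = {ω ∈ G ⧸ H | x ∈ K_ω^⊥}` and their cardinality.
-/

open Matrix

namespace Cfsg.Agent.Lib.Helper6.MinDeg

open Cfsg.Agent.Lib.Helper3.MinDeg

variable {F : Type*} [Field F] {k : ℕ}

/-- the relation `x ∈ K_ω^⊥` between points `ω` of `G ⧸ H` and vectors `x` -/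
def DRel {A' : Type*} [AddCommGroup A'] (τ : F →+ A')
    (H : Subgroup (Matrix.SpecialLinearGroup (Idx k) F))
    (ω : Matrix.SpecialLinearGroup (Idx k) F ⧸ H) (x : Fin k → F) : Prop :=
  x ∈ perp τ (Kof H ω.out)

section
variable {A' : Type*} [AddCommGroup A'] (τ : F →+ A')
  (H : Subgroup (Matrix.SpecialLinearGroup (Idx k) F))

theorem dRel_mk (g : Matrix.SpecialLinearGroup (Idx k) F) (x : Fin k → F) :
    DRel τ H (g : Matrix.SpecialLinearGroup (Idx k) F ⧸ H) x ↔ x ∈ perp τ (Kof H g) := by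
  unfold DRel
  rw [h6_Kof_out]

theorem dRel_levS (A : Matrix.SpecialLinearGroup (Fin k) F)
    (ω : Matrix.SpecialLinearGroup (Idx k) F ⧸ H) (x : Fin k → F) (h : DRel τ H ω x) :
    DRel τ H (levS A • ω) ((A : Matrix (Fin k) (Fin k) F) *ᵥ x) := by
  obtain ⟨g, rfl⟩ := QuotientGroup.mk_surjective ω
  rw [MulAction.Quotient.smul_mk, dRel_mk, smul_eq_mul]
  exact h6_perp_levS τ H g A x ((dRel_mk τ H g x).1 h)

theorem dRel_qel (q : Q F k) (ω : Matrix.SpecialLinearGroup (Idx k) F ⧸ H) (x : Fin k → F)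
    (h : DRel τ H ω x) : DRel τ H (q • ω) x := by
  obtain ⟨g, rfl⟩ := QuotientGroup.mk_surjective ω
  obtain ⟨s, hs⟩ := (mem_Q_iff (q : Matrix.SpecialLinearGroup (Idx k) F)).1 q.2
  change DRel τ H ((q : Matrix.SpecialLinearGroup (Idx k) F)
    • (g : Matrix.SpecialLinearGroup (Idx k) F ⧸ H)) x
  rw [MulAction.Quotient.smul_mk, dRel_mk, smul_eq_mul, ← hs, h6_Kof_qel_mul]
  exact (dRel_mk τ H g x).1 h

/-- `S_x` as a `Q`-invariant subset of `G ⧸ H` -/
def SxAct (x : Fin k → F) :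
    SubMulAction (Q F k) (Matrix.SpecialLinearGroup (Idx k) F ⧸ H) where
  carrier := {ω | DRel τ H ω x}
  smul_mem' := fun q ω h => dRel_qel τ H q ω x h

theorem mem_SxAct (x : Fin k → F) (ω : Matrix.SpecialLinearGroup (Idx k) F ⧸ H) :
    ω ∈ SxAct τ H x ↔ DRel τ H ω x := Iff.rfl

end

instance h6_finite_SL [Fintype F] : Finite (Matrix.SpecialLinearGroup (Idx k) F) :=
  Subtype.finite

/-- `|S_x| = (number of Q-orbits in S_x) * I` -/
theorem card_SxAct [Fintype F] {A' : Type*} [AddCommGroup A'] (τ : F →+ A')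
    (H : Subgroup (Matrix.SpecialLinearGroup (Idx k) F)) (I : ℕ)
    (hI : ∀ g, (Kof H g).index = I) (x : Fin k → F) :
    Nat.card (SxAct τ H x)
      = Nat.card (MulAction.orbitRel.Quotient (Q F k) (SxAct τ H x)) * I := by
  classical
  haveI : Fintype (MulAction.orbitRel.Quotient (Q F k) (SxAct τ H x)) := Fintype.ofFinite _
  rw [Nat.card_congr (MulAction.selfEquivSigmaOrbitsQuotientStabilizer (Q F k) (SxAct τ H x)),
    Nat.card_sigma]
  have : ∀ o : MulAction.orbitRel.Quotient (Q F k) (SxAct τ H x),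
      Nat.card (Q F k ⧸ MulAction.stabilizer (Q F k) o.out) = I := by
    intro o
    rw [← Subgroup.index_eq_card, SubMulAction.stabilizer_of_subMul]
    obtain ⟨g, hg⟩ := QuotientGroup.mk_surjective (o.out : Matrix.SpecialLinearGroup (Idx k) F ⧸ H)
    rw [← hg, h6_stab_index, hI]
  rw [Finset.sum_congr rfl (fun o _ => this o), Finset.sum_const, Finset.card_univ, smul_eq_mul,
    Nat.card_eq_fintype_card]

end Cfsg.Agent.Lib.Helper6.MinDeg
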