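import Mathlib
import Cfsg.Agent.Lib.Helper3.MinDegDefs
import Cfsg.Agent.Lib.Helper6.MinDegU7b

set_option autoImplicit false

/-!
Unit U7 (dual pair counting) of the S2140 farm (coordinator helper3), with the transitivity of
`SL_k` on nonzero vectors (unit E2 `exists_mulVec_eq`) as an explicit hypothesis `htrans`.
-/

open Matrix

namespace Cfsg.Agent.Lib.Helper6.MinDeg

open Cfsg.Agent.Lib.Helper3.MinDeg

variable {F : Type*} [Field F] {k : ℕ}

/-- `|S_x| ≤ |S_{Ax}|` -/
theorem card_SxAct_le [Fintype F] {A' : Type*} [AddCommGroup A'] (τ : F →+ A')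
    (H : Subgroup (Matrix.SpecialLinearGroup (Idx k) F))
    (A : Matrix.SpecialLinearGroup (Fin k) F) (x y : Fin k → F)
    (hA : (A : Matrix (Fin k) (Fin k) F) *ᵥ x = y) :
    Nat.card (SxAct τ H x) ≤ Nat.card (SxAct τ H y) := by
  refine Nat.card_le_card_of_injective
    (fun ω : SxAct τ H x => (⟨levS A • (ω : Matrix.SpecialLinearGroup (Idx k) F ⧸ H), by
      rw [mem_SxAct, ← hA]
      exact dRel_levS τ H A _ x ω.2⟩ : SxAct τ H y)) ?_
  intro ω ω' h
  have h1 := congrArg (fun z : SxAct τ H y => (z : Matrix.SpecialLinearGroup (Idx k) F ⧸ H)) h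
  exact Subtype.ext (MulAction.injective (levS A) h1)

theorem card_SxAct_eq [Fintype F] {A' : Type*} [AddCommGroup A'] (τ : F →+ A')
    (H : Subgroup (Matrix.SpecialLinearGroup (Idx k) F))
    (htrans : ∀ x y : Fin k → F, x ≠ 0 → y ≠ 0 →
      ∃ A : Matrix.SpecialLinearGroup (Fin k) F, (A : Matrix (Fin k) (Fin k) F) *ᵥ x = y)
    (x y : Fin k → F) (hx : x ≠ 0) (hy : y ≠ 0) :
    Nat.card (SxAct τ H x) = Nat.card (SxAct τ H y) := by
  obtain ⟨A, hA⟩ := htrans x y hx hy
  obtain ⟨B, hB⟩ := htrans y x hy hx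
  exact le_antisymm (card_SxAct_le τ H A x y hA) (card_SxAct_le τ H B y x hB)

/-- double counting of the pairs `(ω, x)`, `x ≠ 0`, `x ∈ K_ω^⊥` -/
theorem dual_pairs [Fintype F] (p : ℕ) [Fact p.Prime] [CharP F p] (τ : F →+ ZMod p) (hτ : τ ≠ 0)
    (hk : 2 ≤ k)
    (htrans : ∀ x y : Fin k → F, x ≠ 0 → y ≠ 0 →
      ∃ A : Matrix.SpecialLinearGroup (Fin k) F, (A : Matrix (Fin k) (Fin k) F) *ᵥ x = y)
    (H : Subgroup (Matrix.SpecialLinearGroup (Idx k) F)) (I : ℕ)
    (hI : ∀ g, (Kof H g).index = I) (x₀ : Fin k → F) (hx₀ : x₀ ≠ 0) :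
    H.index * (I - 1) = (Fintype.card F ^ k - 1) * Nat.card (SxAct τ H x₀) := by
  classical
  haveI : Fintype (Matrix.SpecialLinearGroup (Idx k) F ⧸ H) := Fintype.ofFinite _
  have key := Finset.sum_card_bipartiteAbove_eq_sum_card_bipartiteBelow
    (s := (Finset.univ : Finset (Matrix.SpecialLinearGroup (Idx k) F ⧸ H)))
    (t := (Finset.univ : Finset (Fin k → F)))
    (fun ω x => x ≠ 0 ∧ DRel τ H ω x)
  -- the left-hand side
  have hL : ∀ ω : Matrix.SpecialLinearGroup (Idx k) F ⧸ H,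
      ((Finset.univ : Finset (Fin k → F)).bipartiteAbove
        (fun ω x => x ≠ 0 ∧ DRel τ H ω x) ω).card = I - 1 := by
    intro ω
    unfold Finset.bipartiteAbove
    have e : (Finset.univ.filter fun x : Fin k → F => x ≠ 0 ∧ DRel τ H ω x)
        = (Finset.univ.filter fun x : Fin k → F => x ∈ perp τ (Kof H ω.out)).erase 0 := by
      ext x
      rw [Finset.mem_erase, Finset.mem_filter, Finset.mem_filter]
      simp only [Finset.mem_univ, true_and, DRel]
    rw [e, Finset.card_erase_of_mem (by simp)]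
    congr 1
    rw [← Fintype.card_subtype, ← Nat.card_eq_fintype_card]
    exact (card_perp p τ hτ (Kof H ω.out)).trans (hI _)
  -- the right-hand side
  have hR : ∀ x : Fin k → F,
      ((Finset.univ : Finset (Matrix.SpecialLinearGroup (Idx k) F ⧸ H)).bipartiteBelow
        (fun ω x => x ≠ 0 ∧ DRel τ H ω x) x).card
        = if x = 0 then 0 else Nat.card (SxAct τ H x₀) := by
    intro x
    unfold Finset.bipartiteBelow
    split_ifs with h0
    · rw [Finset.card_eq_zero, Finset.filter_eq_empty_iff]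
      intro ω _ h
      exact h.1 h0
    · rw [← card_SxAct_eq τ H htrans x x₀ h0 hx₀]
      have e : (Finset.univ.filter fun ω : Matrix.SpecialLinearGroup (Idx k) F ⧸ H =>
          x ≠ 0 ∧ DRel τ H ω x)
          = (Finset.univ.filter fun ω : Matrix.SpecialLinearGroup (Idx k) F ⧸ H =>
          ω ∈ SxAct τ H x) := by
        ext ω
        simp only [Finset.mem_filter, Finset.mem_univ, true_and, mem_SxAct]
        exact ⟨fun h => h.2, fun h => ⟨h0, h⟩⟩
      rw [e, ← Fintype.card_subtype, ← Nat.card_eq_fintype_card]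
  rw [Finset.sum_congr rfl (fun ω _ => hL ω), Finset.sum_congr rfl (fun x _ => hR x),
    Finset.sum_const, Finset.card_univ, smul_eq_mul, Finset.sum_ite, Finset.sum_const_zero,
    zero_add, Finset.sum_const, smul_eq_mul] at key
  rw [Subgroup.index_eq_card, Nat.card_eq_fintype_card, key]
  congr 1
  rw [Finset.filter_not, Finset.filter_eq', if_pos (Finset.mem_univ _),
    Finset.card_sdiff_of_subset (Finset.subset_univ _), Finset.card_univ, Finset.card_singleton,
    Fintype.card_fun, Fintype.card_fin]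

/-- **U7** (dual pair counting), with the transitivity of `SL_k` on nonzero vectors as a
hypothesis -/
theorem dual_count_of [Fintype F] (p : ℕ) [Fact p.Prime] [CharP F p] (τ : F →+ ZMod p)
    (hτ : τ ≠ 0) (hk : 2 ≤ k)
    (htrans : ∀ x y : Fin k → F, x ≠ 0 → y ≠ 0 →
      ∃ A : Matrix.SpecialLinearGroup (Fin k) F, (A : Matrix (Fin k) (Fin k) F) *ᵥ x = y)
    (H : Subgroup (Matrix.SpecialLinearGroup (Idx k) F)) (I : ℕ)
    (hI : ∀ g, (Kof H g).index = I) (hI1 : 1 < I) :
    ∃ n : ℕ, 1 ≤ n ∧ H.index * (I - 1) = n * I * (Fintype.card F ^ k - 1) ∧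
      (n = 1 → ∀ (g : Matrix.SpecialLinearGroup (Idx k) F) (x : Fin k → F), x ≠ 0 →
        x ∈ perp τ (Kof H g) →
        ∀ A : Matrix.SpecialLinearGroup (Fin k) F, (A : Matrix (Fin k) (Fin k) F) *ᵥ x = x →
          ∃ r : Fin k → F, g⁻¹ * (qel r * levS A) * g ∈ H) := by
  -- a nonzero vector
  set x₀ : Fin k → F := Pi.single ⟨0, by omega⟩ 1 with hx₀def
  have hx₀ : x₀ ≠ 0 := by
    intro h
    have := congrFun h ⟨0, by omega⟩
    rw [hx₀def, Pi.single_eq_same, Pi.zero_apply] at this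
    exact one_ne_zero this
  set n := Nat.card (MulAction.orbitRel.Quotient (Q F k) (SxAct τ H x₀)) with hn
  have hcount := dual_pairs p τ hτ hk htrans H I hI x₀ hx₀
  rw [card_SxAct τ H I hI x₀, ← hn] at hcount
  have hIpos : 0 < I := by omega
  have heq : H.index * (I - 1) = n * I * (Fintype.card F ^ k - 1) := by
    rw [hcount]; ring
  have hn1 : 1 ≤ n := by
    by_contra h0
    have hn0 : n = 0 := by omega
    rw [hn0, zero_mul, zero_mul] at heq
    have h1 : H.index ≠ 0 := Subgroup.index_ne_zero_of_finite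
    have h2 : I - 1 ≠ 0 := by omega
    exact (mul_ne_zero h1 h2) heq
  refine ⟨n, hn1, heq, ?_⟩
  intro hn_one g x hx hxP A hA
  -- the number of orbits in `S_x` is also `1`
  have hnx : Nat.card (MulAction.orbitRel.Quotient (Q F k) (SxAct τ H x)) = 1 := by
    have h1 := card_SxAct τ H I hI x
    rw [card_SxAct_eq τ H htrans x x₀ hx hx₀, card_SxAct τ H I hI x₀, ← hn, hn_one, one_mul]
      at h1
    have h2 : 1 * I = Nat.card (MulAction.orbitRel.Quotient (Q F k) (SxAct τ H x)) * I := by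
      rw [one_mul]; exact h1
    exact (Nat.eq_of_mul_eq_mul_right hIpos h2).symm
  obtain ⟨hsub, -⟩ := Nat.card_eq_one_iff_unique.1 hnx
  -- the two points `gH` and `levS A • gH` of `S_x`
  have hω : ((g : Matrix.SpecialLinearGroup (Idx k) F ⧸ H)) ∈ SxAct τ H x :=
    (dRel_mk τ H g x).2 hxP
  have hω' : levS A • ((g : Matrix.SpecialLinearGroup (Idx k) F ⧸ H)) ∈ SxAct τ H x := by
    have := dRel_levS τ H A _ x hω
    rwa [hA] at this
  have hquot : (Quotient.mk'' (⟨_, hω'⟩ : SxAct τ H x)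
      : MulAction.orbitRel.Quotient (Q F k) (SxAct τ H x)) = Quotient.mk'' ⟨_, hω⟩ :=
    Subsingleton.elim _ _
  have hrel := Quotient.exact' hquot
  rw [MulAction.orbitRel_apply] at hrel
  obtain ⟨q, hq⟩ := hrel
  have hq' := congrArg (fun z : SxAct τ H x => (z : Matrix.SpecialLinearGroup (Idx k) F ⧸ H)) hq
  simp only [SubMulAction.val_smul] at hq'
  obtain ⟨s, hs⟩ := (mem_Q_iff (q : Matrix.SpecialLinearGroup (Idx k) F)).1 q.2
  change (q : Matrix.SpecialLinearGroup (Idx k) F)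
    • ((g : Matrix.SpecialLinearGroup (Idx k) F ⧸ H)) = levS A • _ at hq'
  rw [MulAction.Quotient.smul_mk, MulAction.Quotient.smul_mk, QuotientGroup.eq, ← hs] at hq'
  refine ⟨-s, ?_⟩
  have e : g⁻¹ * (qel (-s) * levS A) * g = (qel s • g)⁻¹ * levS A • g := by
    rw [qel_neg, smul_eq_mul, smul_eq_mul]; group
  rw [e]
  exact hq'

end Cfsg.Agent.Lib.Helper6.MinDeg
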