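import Mathlib
import Cfsg.Agent.Lib.Helper5.OS.Defs
import Cfsg.Agent.Lib.Helper5.OS.Basic
import Cfsg.Agent.Lib.Helper6.OSP5

set_option autoImplicit false
set_option linter.unusedSectionVars false
set_option linter.unusedVariables false
set_option linter.unusedSimpArgs false
set_option linter.style.haveILetI false
set_option maxHeartbeats 1000000

/-! # S3421 piece P7c, sub-piece Q2: in the special case `|T ∩ A0| = 2` with `u` centralizing the
odd part of `A0`, the involution centralizer `C(t)` is abelian. -/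

open Cfsg.Agent.Lib.Helper5.OS

namespace Cfsg.Agent.Lib.Helper6.OS

variable {G : Type*} [Group G] [Finite G] {p q n m : ℕ}

/-- the order of the Sylow 2-subgroup `T` is `2 ^ (v₂(n) + 1)` -/
theorem card_sylow_two (h : Hyp G p q n m) (T : Sylow 2 G) :
    Nat.card (T : Subgroup G) = 2 ^ (n.factorization 2 + 1) := by
  have hn2 := h.n_ge
  have hn0 : n ≠ 0 := by omega
  have hq0 : q ≠ 0 := by have := h.q5; omega
  have hm0 : m ≠ 0 := by have := h.m_ge; omega
  have hq2 : q.factorization 2 = 0 :=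
    Nat.factorization_eq_zero_of_not_dvd (Nat.two_dvd_ne_zero.2 (Nat.odd_iff.1 h.q_odd))
  have hm2 : m.factorization 2 = 0 :=
    Nat.factorization_eq_zero_of_not_dvd (Nat.two_dvd_ne_zero.2 (Nat.odd_iff.1 h.m_odd))
  rw [Sylow.card_eq_multiplicity, h.card]
  congr 1
  rw [Nat.factorization_mul (by positivity) hm0, Nat.factorization_mul hq0 (by positivity),
    Nat.factorization_mul (by norm_num) hn0]
  simp only [Finsupp.add_apply]
  rw [hq2, hm2, Nat.prime_two.factorization_self]
  ring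

/-- `n = 2 n'` with `n'` odd when `|T ∩ A0| = 2` -/
theorem n_eq_two_mul_odd' (h : Hyp G p q n m)
    {t a0 : G} {T : Sylow 2 G} (hC : CData G n t a0 T)
    (hT2 : Nat.card ↥((T : Subgroup G) ⊓ Subgroup.zpowers a0) = 2) :
    ∃ n' : ℕ, n = 2 * n' ∧ Odd n' := by
  have hn2 := h.n_ge
  have hn0 : n ≠ 0 := by omega
  have hT4 : Nat.card (T : Subgroup G) = 4 := by rw [← hC.TA, hT2]
  have hv : n.factorization 2 = 1 := by
    have h1 := card_sylow_two h T
    rw [hT4] at h1
    have h2 : (2 : ℕ) ^ 2 = 2 ^ (n.factorization 2 + 1) := by rw [← h1]; norm_num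
    have := Nat.pow_right_injective (le_refl 2) h2
    omega
  have h3 := Nat.ordProj_mul_ordCompl_eq_self n 2
  have h4 := Nat.not_dvd_ordCompl Nat.prime_two hn0
  rw [hv, pow_one] at h3 h4
  refine ⟨n / 2, h3.symm, ?_⟩
  rw [Nat.odd_iff]
  exact Nat.two_dvd_ne_zero.1 h4

/-- an element of `C(t)` outside `⟨a0⟩` lies in the coset `⟨a0⟩ u` -/
theorem mul_inv_mem_zpowers (h : Hyp G p q n m)
    {t a0 : G} {T : Sylow 2 G} (hC : CData G n t a0 T) {u : G}
    (huC : u ∈ Subgroup.centralizer ({t} : Set G)) (huA : u ∉ Subgroup.zpowers a0) {x : G}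
    (hxC : x ∈ Subgroup.centralizer ({t} : Set G)) (hxA : x ∉ Subgroup.zpowers a0) :
    x * u⁻¹ ∈ Subgroup.zpowers a0 := by
  have hidx : ((Subgroup.zpowers a0).subgroupOf (Subgroup.centralizer ({t} : Set G))).index = 2 :=
    hC.relIndex_zpowers h
  have huinvC : u⁻¹ ∈ Subgroup.centralizer ({t} : Set G) := Subgroup.inv_mem _ huC
  have hmul := Subgroup.mul_mem_iff_of_index_two hidx
    (a := (⟨x, hxC⟩ : ↥(Subgroup.centralizer ({t} : Set G))))
    (b := (⟨u⁻¹, huinvC⟩ : ↥(Subgroup.centralizer ({t} : Set G))))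
  have : (⟨x, hxC⟩ : ↥(Subgroup.centralizer ({t} : Set G))) * ⟨u⁻¹, huinvC⟩ ∈
      (Subgroup.zpowers a0).subgroupOf (Subgroup.centralizer ({t} : Set G)) := by
    rw [hmul, Subgroup.mem_subgroupOf, Subgroup.mem_subgroupOf]
    constructor
    · intro hh; exact absurd hh hxA
    · intro hh
      exfalso
      apply huA
      have : u⁻¹ ∈ Subgroup.zpowers a0 := hh
      exact (Subgroup.inv_mem_iff _).1 this
  rw [Subgroup.mem_subgroupOf] at this
  exact this

theorem centralizer_comm (h : Hyp G p q n m)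
    {t a0 : G} {T : Sylow 2 G} (hC : CData G n t a0 T) {u : G} (huT : u ∈ (T : Subgroup G))
    (huA : u ∉ Subgroup.zpowers a0) (hu : orderOf u = 2)
    (hT2 : Nat.card ↥((T : Subgroup G) ⊓ Subgroup.zpowers a0) = 2)
    (hall : ∀ y ∈ Subgroup.zpowers a0, Odd (orderOf y) → u * y * u⁻¹ = y) :
    ∀ x ∈ Subgroup.centralizer ({t} : Set G), ∀ y ∈ Subgroup.centralizer ({t} : Set G), x * y = y * x := by
  have huC : u ∈ Subgroup.centralizer ({t} : Set G) := hC.TC huT
  have hut : u * t = t * u := Subgroup.mem_centralizer_singleton_iff.1 huC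
  obtain ⟨n', hn, hn'⟩ := n_eq_two_mul_odd' h hC hT2
  have hn'pos : 0 < n' := hn'.pos
  have ha0 : orderOf a0 = n := hC.ha0
  -- `a0 ^ 2` has odd order
  have ho2 : orderOf (a0 ^ 2) = n' := by
    rw [orderOf_pow' a0 (by norm_num), ha0, hn, Nat.gcd_eq_right (dvd_mul_right 2 n')]
    exact Nat.mul_div_cancel_left n' (by norm_num)
  have hu2 : u * a0 ^ 2 = a0 ^ 2 * u := by
    have := hall (a0 ^ 2) (Subgroup.pow_mem _ (Subgroup.mem_zpowers a0) 2) (by rw [ho2]; exact hn')
    exact mul_inv_eq_iff_eq_mul.1 this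
  -- `a0 ^ n'` is the involution `t`
  have hon' : orderOf (a0 ^ n') = 2 := by
    rw [orderOf_pow' a0 hn'pos.ne', ha0, hn, Nat.gcd_eq_right (dvd_mul_left n' 2)]
    exact Nat.mul_div_cancel 2 hn'pos
  have htn' : a0 ^ n' = t :=
    eq_of_orderOf_two_of_mem_zpowers (Subgroup.pow_mem _ (Subgroup.mem_zpowers a0) n') hC.tA
      hon' hC.ht
  -- `u` commutes with `a0`
  obtain ⟨e, he⟩ : ∃ e, n' + 1 = 2 * e := by
    obtain ⟨k, hk⟩ := hn'
    exact ⟨k + 1, by omega⟩
  have hcu2 : Commute u (a0 ^ 2) := hu2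
  have hcut : Commute u (a0 ^ n') := by rw [htn']; exact hut
  have ha0eq : a0 = (a0 ^ 2) ^ e * (a0 ^ n')⁻¹ := by
    rw [← pow_mul, ← he, pow_succ]
    group
  have hcua : Commute u a0 := by
    rw [ha0eq]
    exact (hcu2.pow_right e).mul_right hcut.inv_right
  have hua : ∀ a ∈ Subgroup.zpowers a0, u * a = a * u := by
    intro a ha
    obtain ⟨i, rfl⟩ := Subgroup.mem_zpowers_iff.1 ha
    exact (hcua.zpow_right i)
  have key : ∀ x ∈ Subgroup.centralizer ({t} : Set G),
      (x * u = u * x) ∧ ∀ b ∈ Subgroup.zpowers a0, x * b = b * x := by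
    intro x hx
    by_cases hxA : x ∈ Subgroup.zpowers a0
    · exact ⟨(hua x hxA).symm, fun b hb => commute_of_mem_zpowers hxA hb⟩
    · have ha := mul_inv_mem_zpowers h hC huC huA hx hxA
      have hxeq : x = (x * u⁻¹) * u := by rw [inv_mul_cancel_right]
      have hau : u * (x * u⁻¹) = (x * u⁻¹) * u := hua _ ha
      constructor
      · calc x * u = (x * u⁻¹) * u * u := by group
          _ = u * (x * u⁻¹) * u := by rw [hau]
          _ = u * x := by group
      · intro b hb
        have hab : (x * u⁻¹) * b = b * (x * u⁻¹) := commute_of_mem_zpowers ha hb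
        have hub : u * b = b * u := hua b hb
        calc x * b = (x * u⁻¹) * (u * b) := by group
          _ = (x * u⁻¹) * (b * u) := by rw [hub]
          _ = ((x * u⁻¹) * b) * u := by group
          _ = (b * (x * u⁻¹)) * u := by rw [hab]
          _ = b * x := by group
  intro x hx y hy
  by_cases hyA : y ∈ Subgroup.zpowers a0
  · exact (key x hx).2 y hyA
  · have hb := mul_inv_mem_zpowers h hC huC huA hy hyA
    have hyeq : y = (y * u⁻¹) * u := by rw [inv_mul_cancel_right]
    have h1 := (key x hx).2 _ hb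
    have h2 := (key x hx).1
    calc x * y = (x * (y * u⁻¹)) * u := by group
      _ = ((y * u⁻¹) * x) * u := by rw [h1]
      _ = (y * u⁻¹) * (x * u) := by group
      _ = (y * u⁻¹) * (u * x) := by rw [h2]
      _ = y * x := by group

end Cfsg.Agent.Lib.Helper6.OS
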