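import Mathlib
import Cfsg.Prelude
import Cfsg.Agent.Lib.Helper5.ThreeTransSU

set_option autoImplicit false
set_option linter.unusedSectionVars false
set_option linter.unusedVariables false
set_option linter.unusedSimpArgs false
open Cfsg

/-! Involutions of `SU_3(q)`, `q` odd: they are the maps `x ↦ -x + 2 h(x,v)/h(v,v) v` attached to the
non-isotropic vectors `v`. -/

namespace Cfsg.Agent.Lib.Helper6.SU3Refl

open Matrix Cfsg.Agent.Lib.Helper5.Herm Cfsg.Agent.Lib.Helper5.HermTv Cfsg.Agent.Lib.Helper5.HermSU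
  Cfsg.Agent.Lib.Helper5.HermGen Cfsg.Agent.Lib.Helper5.HermCount Cfsg.Agent.Lib.Helper5.HermCard
  Cfsg.Agent.Lib.Helper5.HermBridge

variable {F : Type*} [Field F] [Fintype F] {q : ℕ} (hF : Fintype.card F = q ^ 2)

/-- the action of `SU_3` on vectors -/
noncomputable abbrev sact (s : ↥(Cfsg.SU 3 F q)) (x : Fin 3 → F) : Fin 3 → F := gact 3 (toGU 3 s) x

omit [Fintype F] in
theorem sact_mul (s t : ↥(Cfsg.SU 3 F q)) (x : Fin 3 → F) : sact (s * t) x = sact s (sact t x) := by
  unfold sact
  rw [map_mul, gact_mul]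

omit [Fintype F] in
theorem sact_one (x : Fin 3 → F) : sact (1 : ↥(Cfsg.SU 3 F q)) x = x := by
  unfold sact
  rw [map_one, gact_one]

omit [Fintype F] in
theorem sact_add (s : ↥(Cfsg.SU 3 F q)) (x y : Fin 3 → F) :
    sact s (x + y) = sact s x + sact s y := gact_add 3 _ x y

omit [Fintype F] in
theorem sact_smul (s : ↥(Cfsg.SU 3 F q)) (a : F) (x : Fin 3 → F) :
    sact s (a • x) = a • sact s x := gact_smul 3 _ a x

omit [Fintype F] in
theorem sact_neg (s : ↥(Cfsg.SU 3 F q)) (x : Fin 3 → F) : sact s (-x) = -sact s x := by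
  rw [← neg_one_smul F x, sact_smul, neg_one_smul]

omit [Fintype F] in
theorem sact_inv_sact (s : ↥(Cfsg.SU 3 F q)) (x : Fin 3 → F) : sact s⁻¹ (sact s x) = x := by
  rw [← sact_mul, inv_mul_cancel, sact_one]

omit [Fintype F] in
theorem sact_sact_inv (s : ↥(Cfsg.SU 3 F q)) (x : Fin 3 → F) : sact s (sact s⁻¹ x) = x := by
  rw [← sact_mul, mul_inv_cancel, sact_one]

omit [Fintype F] in
theorem herm_sact (s : ↥(Cfsg.SU 3 F q)) (x y : Fin 3 → F) :
    hermForm 3 F q (sact s x) (sact s y) = hermForm 3 F q x y := herm_gact 3 _ x y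

omit [Fintype F] in
theorem herm_sact_inv_left (s : ↥(Cfsg.SU 3 F q)) (x y : Fin 3 → F) :
    hermForm 3 F q (sact s⁻¹ x) y = hermForm 3 F q x (sact s y) := by
  rw [← herm_sact s, sact_sact_inv]

omit [Fintype F] in
theorem ext_sact {s t : ↥(Cfsg.SU 3 F q)} (H : ∀ x, sact s x = sact t x) : s = t :=
  toGU_injective 3 (ext_gact 3 H)

/-! ### basic facts on the form -/

include hF in
theorem two_ne (hq : Odd q) : (2 : F) ≠ 0 := by
  obtain ⟨p, j, hp, hchar, hqp⟩ := exists_char_pow hF
  intro h2
  have h2' : ((2 : ℕ) : F) = 0 := by exact_mod_cast h2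
  rw [CharP.cast_eq_zero_iff F p] at h2'
  have hp2 : p = 2 := (Nat.prime_dvd_prime_iff_eq hp Nat.prime_two).mp h2'
  subst hp2
  rcases Nat.eq_zero_or_pos j with rfl | hj
  · have := two_le_q hF
    simp at hqp
    omega
  · rw [hqp] at hq
    exact (Nat.not_even_iff_odd.mpr hq) (Nat.even_pow.mpr ⟨even_two, hj.ne'⟩)

omit [Fintype F] in
theorem hadd_l (u u' v : Fin 3 → F) :
    hermForm 3 F q (u + u') v = hermForm 3 F q u v + hermForm 3 F q u' v :=
  hermForm_add_left 3 q u u' v

omit [Fintype F] in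
theorem hsmul_l (a : F) (u v : Fin 3 → F) :
    hermForm 3 F q (a • u) v = a * hermForm 3 F q u v := hermForm_smul_left 3 q a u v

omit [Fintype F] in
theorem hsmul_r (a : F) (u v : Fin 3 → F) :
    hermForm 3 F q u (a • v) = a ^ q * hermForm 3 F q u v := hermForm_smul_right 3 q a u v

omit [Fintype F] in
theorem hzero_l (v : Fin 3 → F) : hermForm 3 F q 0 v = 0 := hermForm_zero_left 3 q v

include hF in
theorem hadd_r (u v v' : Fin 3 → F) :
    hermForm 3 F q u (v + v') = hermForm 3 F q u v + hermForm 3 F q u v' :=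
  hermForm_add_right hF 3 u v v'

include hF in
theorem hzero_r (u : Fin 3 → F) : hermForm 3 F q u 0 = 0 := hermForm_zero_right hF 3 u

include hF in
theorem hconj (u v : Fin 3 → F) : hermForm 3 F q u v ^ q = hermForm 3 F q v u :=
  hermForm_conj hF 3 u v

omit [Fintype F] in
theorem herm_neg_left (u v : Fin 3 → F) : hermForm 3 F q (-u) v = -hermForm 3 F q u v := by
  rw [← neg_one_smul F u, hsmul_l, neg_one_mul]

include hF in
theorem herm_neg_right (u v : Fin 3 → F) : hermForm 3 F q u (-v) = -hermForm 3 F q u v := by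
  rw [← neg_one_smul F v, hsmul_r, pow_q_neg_one hF, neg_one_mul]

include hF in
theorem herm_self_pow (v : Fin 3 → F) : hermForm 3 F q v v ^ q = hermForm 3 F q v v :=
  hconj hF v v

include hF in
theorem two_pow_q : (2 : F) ^ q = 2 := by
  have : (2 : F) = 1 + 1 := by norm_num
  rw [this, pow_q_add hF, one_pow]

include hF in
theorem herm_symm_zero {u v : Fin 3 → F} (h : hermForm 3 F q u v = 0) : hermForm 3 F q v u = 0 := by
  rw [← hconj hF, h, zero_pow (q_ne_zero hF)]

omit [Fintype F] in
theorem ne_zero_of_herm_ne {v : Fin 3 → F} (hv : hermForm 3 F q v v ≠ 0) : v ≠ 0 := by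
  rintro rfl
  exact hv (hzero_l _)

include hF in
/-- the parameter of the reflection satisfies the isometry condition -/
theorem qcond_refl (v : Fin 3 → F) (hv : hermForm 3 F q v v ≠ 0) :
    QCond 3 q v (-2 / hermForm 3 F q v v) := by
  unfold QCond
  rw [div_pow, pow_q_neg hF, two_pow_q hF, herm_self_pow hF]
  field_simp
  ring

/-- the matrix of `x ↦ -x + 2 h(x,v)/h(v,v) v` -/
noncomputable def reflMat (q : ℕ) (v : Fin 3 → F) : Matrix (Fin 3) (Fin 3) F :=
  -(unitaryTransvection 3 q v (-2 / hermForm 3 F q v v))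

omit [Fintype F] in
theorem reflMat_mulVec (v x : Fin 3 → F) :
    reflMat q v *ᵥ x = -x + (2 * hermForm 3 F q x v / hermForm 3 F q v v) • v := by
  unfold reflMat
  rw [neg_mulVec, unitaryTransvection_mulVec, neg_add, ← neg_smul]
  congr 2
  ring

omit [Fintype F] in
theorem det_reflMat (v : Fin 3 → F) (hv : hermForm 3 F q v v ≠ 0) : (reflMat q v).det = 1 := by
  unfold reflMat
  rw [det_neg, det_tv, Fintype.card_fin]
  field_simp
  ring

include hF in
theorem reflMat_preserves (v : Fin 3 → F) (hv : hermForm 3 F q v v ≠ 0) (x y : Fin 3 → F) :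
    hermForm 3 F q (reflMat q v *ᵥ x) (reflMat q v *ᵥ y) = hermForm 3 F q x y := by
  unfold reflMat
  rw [neg_mulVec, neg_mulVec, herm_neg_left, herm_neg_right hF, neg_neg,
    hermForm_unitaryTransvection hF]
  have h := qcond_refl hF v hv
  unfold QCond at h
  linear_combination (hermForm 3 F q x v * hermForm 3 F q v y) * h

/-- the involution attached to a non-isotropic vector -/
noncomputable def refl (v : Fin 3 → F) (hv : hermForm 3 F q v v ≠ 0) : ↥(Cfsg.SU 3 F q) :=
  ⟨⟨reflMat q v, det_reflMat v hv⟩, fun x y => reflMat_preserves hF v hv x y⟩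

theorem sact_refl (v : Fin 3 → F) (hv : hermForm 3 F q v v ≠ 0) (x : Fin 3 → F) :
    sact (refl hF v hv) x = -x + (2 * hermForm 3 F q x v / hermForm 3 F q v v) • v :=
  reflMat_mulVec v x

theorem sact_refl_self (v : Fin 3 → F) (hv : hermForm 3 F q v v ≠ 0) :
    sact (refl hF v hv) v = v := by
  rw [sact_refl, mul_div_assoc, div_self hv, mul_one, two_smul]
  abel

theorem sact_refl_perp (v : Fin 3 → F) (hv : hermForm 3 F q v v ≠ 0) (x : Fin 3 → F)
    (hx : hermForm 3 F q x v = 0) : sact (refl hF v hv) x = -x := by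
  rw [sact_refl, hx, mul_zero, zero_div, zero_smul, add_zero]

theorem refl_mul_self (v : Fin 3 → F) (hv : hermForm 3 F q v v ≠ 0) :
    refl hF v hv * refl hF v hv = 1 := by
  apply ext_sact
  intro x
  rw [sact_mul, sact_one, sact_refl hF v hv x, sact_refl, hadd_l, hsmul_l, herm_neg_left]
  ext i
  simp only [Pi.add_apply, Pi.neg_apply, Pi.smul_apply, smul_eq_mul]
  field_simp
  ring

include hF in
/-- a nonzero vector orthogonal to a given one -/
theorem exists_perp_ne_zero (v : Fin 3 → F) : ∃ x : Fin 3 → F, x ≠ 0 ∧ hermForm 3 F q x v = 0 := by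
  have hq0 := q_ne_zero hF
  by_cases h0 : v 0 = 0
  · refine ⟨![1, 0, 0], ?_, ?_⟩
    · intro h
      have := congrFun h 0
      simp at this
    · unfold hermForm
      rw [Fin.sum_univ_three]
      simp [h0, hq0]
  · refine ⟨![v 1 ^ q, -(v 0 ^ q), 0], ?_, ?_⟩
    · intro h
      have := congrFun h 1
      simp at this
      exact h0 this.1
    · unfold hermForm
      rw [Fin.sum_univ_three]
      simp
      ring

include hF in
theorem refl_ne_one (hq : Odd q) (v : Fin 3 → F) (hv : hermForm 3 F q v v ≠ 0) :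
    refl hF v hv ≠ 1 := by
  intro h
  obtain ⟨x, hx0, hx⟩ := exists_perp_ne_zero hF v
  have h1 := sact_refl_perp hF v hv x hx
  rw [h, sact_one] at h1
  apply hx0
  have h2 : (2 : F) • x = 0 := by
    rw [two_smul]
    nth_rewrite 1 [h1]
    exact neg_add_cancel x
  rcases smul_eq_zero.mp h2 with h3 | h3
  · exact absurd h3 (two_ne hF hq)
  · exact h3

theorem refl_smul (a : F) (ha : a ≠ 0) (v : Fin 3 → F) (hv : hermForm 3 F q v v ≠ 0)
    (hav : hermForm 3 F q (a • v) (a • v) ≠ 0) : refl hF (a • v) hav = refl hF v hv := by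
  apply ext_sact
  intro x
  rw [sact_refl, sact_refl, hsmul_l, hsmul_r, hsmul_r, smul_smul]
  congr 2
  have haq : a ^ q ≠ 0 := pow_ne_zero _ ha
  field_simp

include hF in
theorem herm_smul_self_ne (a : F) (ha : a ≠ 0) (v : Fin 3 → F) (hv : hermForm 3 F q v v ≠ 0) :
    hermForm 3 F q (a • v) (a • v) ≠ 0 := by
  rw [hsmul_l, hsmul_r]
  exact mul_ne_zero ha (mul_ne_zero (pow_ne_zero _ ha) hv)

theorem refl_eq_iff (hq : Odd q) (v w : Fin 3 → F) (hv : hermForm 3 F q v v ≠ 0)
    (hw : hermForm 3 F q w w ≠ 0) :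
    refl hF v hv = refl hF w hw ↔ ∃ a : F, a ≠ 0 ∧ w = a • v := by
  constructor
  · intro h
    have h1 := sact_refl_self hF w hw
    rw [← h, sact_refl] at h1
    have h2 : (2 : F) • w = (2 * hermForm 3 F q w v / hermForm 3 F q v v) • v := by
      rw [two_smul]
      nth_rewrite 1 [← h1]
      abel
    have h3 : w = (hermForm 3 F q w v / hermForm 3 F q v v) • v := by
      have h2n := two_ne hF hq
      have := congrArg (fun y => (2 : F)⁻¹ • y) h2
      simp only [smul_smul] at this
      rw [inv_mul_cancel₀ h2n, one_smul] at this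
      refine this.trans ?_
      congr 1
      field_simp
    refine ⟨_, ?_, h3⟩
    intro h0
    rw [h0, zero_smul] at h3
    exact ne_zero_of_herm_ne hw h3
  · rintro ⟨a, ha, rfl⟩
    exact (refl_smul hF a ha v hv hw).symm

theorem conj_refl (g : ↥(Cfsg.SU 3 F q)) (v : Fin 3 → F) (hv : hermForm 3 F q v v ≠ 0)
    (hgv : hermForm 3 F q (sact g v) (sact g v) ≠ 0) :
    g * refl hF v hv * g⁻¹ = refl hF (sact g v) hgv := by
  apply ext_sact
  intro x
  rw [sact_mul, sact_mul, sact_refl, sact_refl, sact_add, sact_neg, sact_sact_inv, sact_smul,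
    herm_sact_inv_left, herm_sact]

omit [Fintype F] in
theorem herm_sact_self_ne (g : ↥(Cfsg.SU 3 F q)) (v : Fin 3 → F)
    (hv : hermForm 3 F q v v ≠ 0) : hermForm 3 F q (sact g v) (sact g v) ≠ 0 := by
  rw [herm_sact]; exact hv

theorem refl_inv (v : Fin 3 → F) (hv : hermForm 3 F q v v ≠ 0) :
    (refl hF v hv)⁻¹ = refl hF v hv :=
  inv_eq_of_mul_eq_one_left (refl_mul_self hF v hv)

theorem commute_refl_iff (hq : Odd q) (v w : Fin 3 → F) (hv : hermForm 3 F q v v ≠ 0)
    (hw : hermForm 3 F q w w ≠ 0) :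
    Commute (refl hF v hv) (refl hF w hw) ↔
      (∃ a : F, a ≠ 0 ∧ w = a • v) ∨ hermForm 3 F q w v = 0 := by
  have hconj := conj_refl hF (refl hF v hv) w hw (herm_sact_self_ne _ w hw)
  rw [refl_inv] at hconj
  have hcomm : Commute (refl hF v hv) (refl hF w hw) ↔
      refl hF (sact (refl hF v hv) w) (herm_sact_self_ne _ w hw) = refl hF w hw := by
    rw [← hconj]
    constructor
    · intro h
      rw [h.eq, mul_assoc, refl_mul_self, mul_one]
    · intro h
      have h2 : refl hF v hv * refl hF w hw * (refl hF v hv * refl hF v hv) =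
          refl hF w hw * refl hF v hv := by
        rw [← mul_assoc, h]
      rw [refl_mul_self, mul_one] at h2
      exact h2
  rw [hcomm, refl_eq_iff hF hq, sact_refl]
  constructor
  · rintro ⟨a, ha, hwa⟩
    by_cases hwv : hermForm 3 F q w v = 0
    · right; exact hwv
    · left
      set b := 2 * hermForm 3 F q w v / hermForm 3 F q v v with hb
      have hb0 : b ≠ 0 := by
        rw [hb]
        exact div_ne_zero (mul_ne_zero (two_ne hF hq) hwv) hv
      have h1 : (1 + a) • w = (a * b) • v := by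
        rw [add_smul, one_smul]
        nth_rewrite 1 [hwa]
        rw [smul_add, smul_neg, smul_smul]
        abel
      have h2 : 1 + a ≠ 0 := by
        intro h0
        rw [h0, zero_smul] at h1
        rcases smul_eq_zero.mp h1.symm with h3 | h3
        · exact mul_ne_zero ha hb0 h3
        · exact ne_zero_of_herm_ne hv h3
      refine ⟨(1 + a)⁻¹ * (a * b), mul_ne_zero (inv_ne_zero h2) (mul_ne_zero ha hb0), ?_⟩
      rw [← smul_smul, ← h1, smul_smul, inv_mul_cancel₀ h2, one_smul]
  · rintro (⟨a, ha, rfl⟩ | hwv)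
    · have h1 : hermForm 3 F q (a • v) v = a * hermForm 3 F q v v := hsmul_l a v v
      rw [h1]
      refine ⟨1, one_ne_zero, ?_⟩
      rw [one_smul]
      have : 2 * (a * hermForm 3 F q v v) / hermForm 3 F q v v = 2 * a := by field_simp
      rw [this, mul_smul, two_smul]
      abel
    · refine ⟨-1, neg_ne_zero.mpr one_ne_zero, ?_⟩
      rw [hwv, mul_zero, zero_div, zero_smul, add_zero, neg_one_smul, neg_neg]

include hF in
/-- an isometry of order two whose fixed space is a line is the reflection along that line -/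
theorem eq_refl_of_fixed_line (hq : Odd q) (T : (Fin 3 → F) → (Fin 3 → F))
    (hadd : ∀ x y, T (x + y) = T x + T y) (hsmul : ∀ (a : F) x, T (a • x) = a • T x)
    (hinv : ∀ x, T (T x) = x)
    (hpres : ∀ x y, hermForm 3 F q (T x) (T y) = hermForm 3 F q x y)
    (v : Fin 3 → F) (hv0 : v ≠ 0) (hTv : T v = v) (hspan : ∀ x, T x = x → ∃ c : F, x = c • v) :
    hermForm 3 F q v v ≠ 0 ∧
      ∀ x, T x = -x + (2 * hermForm 3 F q x v / hermForm 3 F q v v) • v := by
  have h2n := two_ne hF hq
  have hneg : ∀ x, T (-x) = -T x := by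
    intro x
    rw [← neg_one_smul F x, hsmul, neg_one_smul]
  -- the decomposition
  have hplus : ∀ x, T ((2 : F)⁻¹ • (x + T x)) = (2 : F)⁻¹ • (x + T x) := by
    intro x
    rw [hsmul, hadd, hinv, add_comm]
  have hminus : ∀ x, T ((2 : F)⁻¹ • (x - T x)) = -((2 : F)⁻¹ • (x - T x)) := by
    intro x
    rw [hsmul, sub_eq_add_neg, hadd, hneg, hinv, ← smul_neg]
    congr 1
    abel
  have hdec : ∀ x, x = (2 : F)⁻¹ • (x + T x) + (2 : F)⁻¹ • (x - T x) := by
    intro x
    rw [← smul_add]
    have : x + T x + (x - T x) = (2 : F) • x := by rw [two_smul]; abel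
    rw [this, smul_smul, inv_mul_cancel₀ h2n, one_smul]
  -- orthogonality of the two eigenspaces
  have horth : ∀ a b, T a = a → T b = -b → hermForm 3 F q b a = 0 := by
    intro a b ha hb
    have h1 := hpres b a
    rw [ha, hb, herm_neg_left] at h1
    have h3 : (2 : F) * hermForm 3 F q b a = 0 := by linear_combination -h1
    rcases mul_eq_zero.mp h3 with h4 | h4
    · exact absurd h4 h2n
    · exact h4
  -- coefficient
  have hcoef : ∀ x, ∃ c : F, (2 : F)⁻¹ • (x + T x) = c • v ∧
      hermForm 3 F q x v = c * hermForm 3 F q v v := by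
    intro x
    obtain ⟨c, hc⟩ := hspan _ (hplus x)
    refine ⟨c, hc, ?_⟩
    have h1 : hermForm 3 F q x v = hermForm 3 F q ((2 : F)⁻¹ • (x + T x)) v +
        hermForm 3 F q ((2 : F)⁻¹ • (x - T x)) v := by
      rw [← hadd_l, ← hdec x]
    rw [h1, horth v _ hTv (hminus x), add_zero, hc, hsmul_l]
  have hN : hermForm 3 F q v v ≠ 0 := by
    intro h0
    apply hv0
    apply Cfsg.Agent.Lib.Helper5.ThreeTransSU.eq_zero_of_herm hF 3 v
    intro x
    obtain ⟨c, _, hc⟩ := hcoef x
    rw [hc, h0, mul_zero]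
  refine ⟨hN, ?_⟩
  intro x
  obtain ⟨c, hc1, hc2⟩ := hcoef x
  have hc : c = hermForm 3 F q x v / hermForm 3 F q v v := by
    rw [hc2]; field_simp
  have h1 : T x = (2 : F) • ((2 : F)⁻¹ • (x + T x)) - x := by
    rw [smul_smul, mul_inv_cancel₀ h2n, one_smul]; abel
  rw [h1, hc1, smul_smul, hc]
  rw [sub_eq_add_neg, add_comm]
  congr 2
  ring

omit [Fintype F] in
theorem sact_zero (t : ↥(Cfsg.SU 3 F q)) : sact t 0 = 0 := by
  have := sact_smul t (0 : F) 0
  rw [zero_smul, zero_smul] at this
  exact this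

/-- the `+1` eigenspace -/
def eigP (t : ↥(Cfsg.SU 3 F q)) : Submodule F (Fin 3 → F) where
  carrier := {x | sact t x = x}
  add_mem' := by
    intro a b ha hb
    change sact t (a + b) = a + b
    rw [sact_add, ha, hb]
  zero_mem' := sact_zero t
  smul_mem' := by
    intro c x hx
    change sact t (c • x) = c • x
    rw [sact_smul, hx]

/-- the `-1` eigenspace -/
def eigM (t : ↥(Cfsg.SU 3 F q)) : Submodule F (Fin 3 → F) where
  carrier := {x | sact t x = -x}
  add_mem' := by
    intro a b ha hb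
    change sact t (a + b) = -(a + b)
    rw [sact_add, ha, hb, neg_add]
  zero_mem' := by
    change sact t 0 = -0
    rw [sact_zero, neg_zero]
  smul_mem' := by
    intro c x hx
    change sact t (c • x) = -(c • x)
    rw [sact_smul, hx, smul_neg]

omit [Fintype F] in
theorem mem_eigP (t : ↥(Cfsg.SU 3 F q)) (x : Fin 3 → F) : x ∈ eigP t ↔ sact t x = x := Iff.rfl

omit [Fintype F] in
theorem mem_eigM (t : ↥(Cfsg.SU 3 F q)) (x : Fin 3 → F) : x ∈ eigM t ↔ sact t x = -x := Iff.rfl

include hF in
theorem isCompl_eig (hq : Odd q) (t : ↥(Cfsg.SU 3 F q)) (ht2 : t * t = 1) :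
    IsCompl (eigP t) (eigM t) := by
  have h2n := two_ne hF hq
  have hinv : ∀ x, sact t (sact t x) = x := by
    intro x
    rw [← sact_mul, ht2, sact_one]
  constructor
  · rw [Submodule.disjoint_def]
    intro x hx1 hx2
    rw [mem_eigP] at hx1
    rw [mem_eigM] at hx2
    have h1 : (2 : F) • x = 0 := by
      rw [two_smul]
      nth_rewrite 1 [← hx1]
      rw [hx2]
      exact neg_add_cancel x
    rcases smul_eq_zero.mp h1 with h3 | h3
    · exact absurd h3 h2n
    · exact h3
  · rw [codisjoint_iff, eq_top_iff]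
    intro x _
    have hdec : x = (2 : F)⁻¹ • (x + sact t x) + (2 : F)⁻¹ • (x - sact t x) := by
      rw [← smul_add]
      have : x + sact t x + (x - sact t x) = (2 : F) • x := by rw [two_smul]; abel
      rw [this, smul_smul, inv_mul_cancel₀ h2n, one_smul]
    rw [hdec]
    apply Submodule.add_mem_sup
    · rw [mem_eigP, sact_smul, sact_add, hinv, add_comm]
    · rw [mem_eigM, sact_smul, sub_eq_add_neg, sact_add, sact_neg, hinv, ← smul_neg]
      congr 1
      abel

omit [Fintype F] in
theorem sact_eq_mulVec (t : ↥(Cfsg.SU 3 F q)) (x : Fin 3 → F) :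
    sact t x = ((t : Matrix.SpecialLinearGroup (Fin 3) F) : Matrix (Fin 3) (Fin 3) F) *ᵥ x := rfl

include hF in
/-- every involution of `SU_3(q)`, `q` odd, is a reflection `refl v` -/
theorem exists_refl_of_involution (hq : Odd q) (t : ↥(Cfsg.SU 3 F q)) (ht : t ≠ 1)
    (ht2 : t * t = 1) :
    ∃ (v : Fin 3 → F) (hv : hermForm 3 F q v v ≠ 0), t = refl hF v hv := by
  have h2n := two_ne hF hq
  have hinv : ∀ x, sact t (sact t x) = x := by
    intro x
    rw [← sact_mul, ht2, sact_one]
  have hc := isCompl_eig hF hq t ht2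
  have h3 : Module.finrank F (eigP t) + Module.finrank F (eigM t) = 3 := by
    rw [Submodule.finrank_add_eq_of_isCompl hc, Module.finrank_fin_fun]
  have hdet : ((t : Matrix.SpecialLinearGroup (Fin 3) F) : Matrix (Fin 3) (Fin 3) F).det = 1 :=
    t.1.2
  have hone : (1 : F) ≠ -1 := by
    intro h
    apply h2n
    have : (2 : F) = 1 + 1 := by norm_num
    rw [this]
    nth_rewrite 1 [h]
    exact neg_add_cancel 1
  have hcases : Module.finrank F (eigP t) = 0 ∨ Module.finrank F (eigP t) = 1 ∨
      Module.finrank F (eigM t) = 0 ∨ Module.finrank F (eigM t) = 1 := by omega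
  rcases hcases with h0 | h1 | h0 | h1
  · -- `t = -1`, impossible
    exfalso
    have hbot : eigP t = ⊥ := Submodule.finrank_eq_zero.mp h0
    have htop : eigM t = ⊤ := by
      have := hc.sup_eq_top
      rwa [hbot, bot_sup_eq] at this
    have hall : ∀ x, sact t x = -x := by
      intro x
      have : x ∈ eigM t := by rw [htop]; trivial
      exact this
    have hM : ((t : Matrix.SpecialLinearGroup (Fin 3) F) : Matrix (Fin 3) (Fin 3) F) = -1 := by
      rw [Matrix.ext_iff_mulVec]
      intro x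
      rw [← sact_eq_mulVec, hall x, neg_mulVec, one_mulVec]
    rw [hM, det_neg, det_one, Fintype.card_fin] at hdet
    exact hone (by linear_combination (-1 : F) * hdet)
  · -- the main case
    obtain ⟨v, hv0, hv⟩ := finrank_eq_one_iff'.mp h1
    have hv0' : (v : Fin 3 → F) ≠ 0 := fun h => hv0 (Subtype.ext h)
    obtain ⟨hN, hT⟩ := eq_refl_of_fixed_line hF hq (sact t) (sact_add t) (sact_smul t) hinv
      (herm_sact t) (v : Fin 3 → F) hv0' v.2 (by
        intro x hx
        obtain ⟨c, hc⟩ := hv ⟨x, hx⟩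
        exact ⟨c, (congrArg Subtype.val hc).symm⟩)
    refine ⟨v, hN, ?_⟩
    apply ext_sact
    intro x
    rw [hT x, sact_refl]
  · -- `t = 1`
    exfalso
    apply ht
    have hbot : eigM t = ⊥ := Submodule.finrank_eq_zero.mp h0
    have htop : eigP t = ⊤ := by
      have := hc.sup_eq_top
      rwa [hbot, sup_bot_eq] at this
    apply ext_sact
    intro x
    rw [sact_one]
    have : x ∈ eigP t := by rw [htop]; trivial
    exact this
  · -- `-t` is a reflection, so `det t = -1`
    exfalso
    obtain ⟨w, hw0, hw⟩ := finrank_eq_one_iff'.mp h1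
    have hw0' : (w : Fin 3 → F) ≠ 0 := fun h => hw0 (Subtype.ext h)
    have hwm : sact t (w : Fin 3 → F) = -(w : Fin 3 → F) := w.2
    obtain ⟨hN, hT⟩ := eq_refl_of_fixed_line hF hq (fun x => -sact t x)
      (by intro x y; rw [sact_add, neg_add])
      (by intro a x; rw [sact_smul, smul_neg])
      (by intro x; rw [sact_neg, neg_neg, hinv])
      (by intro x y; rw [herm_neg_left, herm_neg_right hF, neg_neg, herm_sact])
      (w : Fin 3 → F) hw0' (by rw [hwm, neg_neg]) (by
        intro x hx
        have hx' : x ∈ eigM t := by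
          rw [mem_eigM]
          calc sact t x = -(-sact t x) := (neg_neg _).symm
            _ = -x := by rw [hx]
        obtain ⟨c, hc⟩ := hw ⟨x, hx'⟩
        exact ⟨c, (congrArg Subtype.val hc).symm⟩)
    have hM : ((t : Matrix.SpecialLinearGroup (Fin 3) F) : Matrix (Fin 3) (Fin 3) F) =
        -reflMat q (w : Fin 3 → F) := by
      rw [Matrix.ext_iff_mulVec]
      intro x
      rw [← sact_eq_mulVec, neg_mulVec, reflMat_mulVec, ← hT x, neg_neg]
    rw [hM, det_neg, det_reflMat _ hN, Fintype.card_fin] at hdet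
    exact hone (by linear_combination (-1 : F) * hdet)

end Cfsg.Agent.Lib.Helper6.SU3Refl
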