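import Mathlib
import Cfsg.Prelude
import Cfsg.Agent.Lib.Helper6.SU3Refl
import Cfsg.Agent.Lib.Helper4.ConjClass

set_option autoImplicit false
set_option linter.unusedSectionVars false
set_option linter.unusedVariables false
set_option linter.unusedSimpArgs false
open Cfsg

/-! Conjugacy and number of the involutions of `SU_3(q)`, `q` odd. -/

namespace Cfsg.Agent.Lib.Helper6.SU3Refl

open Matrix Cfsg.Agent.Lib.Helper5.Herm Cfsg.Agent.Lib.Helper5.HermTv Cfsg.Agent.Lib.Helper5.HermSU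
  Cfsg.Agent.Lib.Helper5.HermGen Cfsg.Agent.Lib.Helper5.HermCount Cfsg.Agent.Lib.Helper5.HermCard
  Cfsg.Agent.Lib.Helper5.HermBridge

variable {F : Type*} [Field F] [Fintype F] {q : ℕ} (hF : Fintype.card F = q ^ 2)

include hF in
/-- `GU_3` is transitive on vectors of a given nonzero norm -/
theorem exists_GU_map_aniso (v w : Fin 3 → F) (hv : hermForm 3 F q v v ≠ 0)
    (hvw : hermForm 3 F q v v = hermForm 3 F q w w) :
    ∃ A : ↥(Cfsg.GU 3 F q), gact 3 A v = w := by
  have hv0 : v ≠ 0 := ne_zero_of_herm_ne hv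
  have hw0 : w ≠ 0 := ne_zero_of_herm_ne (hvw ▸ hv)
  obtain ⟨g, hg, hgx⟩ := Cfsg.Agent.Lib.Helper5.HermWitt.witt_family (B := hermSesq hF 3)
    (sigma_ne_id hF) (sigma_sigma hF) (hermSesq_nondegenerate hF 3) (hermSesq_isSymm hF 3) 1
    (fun _ => v) (fun _ => w) (linearIndependent_unique_iff.mpr hv0)
    (linearIndependent_unique_iff.mpr hw0) (fun i j => by
      rw [hermSesq_apply, hermSesq_apply, hvw])
  obtain ⟨A, hA⟩ := exists_GU_of_isometry 3 g (fun u w => by
    have := hg w u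
    rw [hermSesq_apply, hermSesq_apply] at this
    exact this)
  refine ⟨A, ?_⟩
  show ((A : Matrix.GeneralLinearGroup (Fin 3) F) : Matrix (Fin 3) (Fin 3) F) *ᵥ v = w
  rw [hA, hgx 0]

include hF in
/-- the dilation parameter along a non-isotropic vector -/
theorem qcond_dil (w : Fin 3 → F) (hw : hermForm 3 F q w w ≠ 0) (z : ↥(normHom F q).ker) :
    QCond 3 q w ((((z : Fˣ) : F) - 1) / hermForm 3 F q w w) := by
  unfold QCond
  rw [div_pow, herm_self_pow hF, pow_q_sub hF, one_pow]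
  have := normKer_coe (q := q) z
  rw [pow_succ] at this
  field_simp
  linear_combination this

include hF in
/-- `SU_3` is transitive on the non-isotropic lines -/
theorem exists_SU_map_aniso (v w : Fin 3 → F) (hv : hermForm 3 F q v v ≠ 0)
    (hw : hermForm 3 F q w w ≠ 0) :
    ∃ (g : ↥(Cfsg.SU 3 F q)) (a : F), a ≠ 0 ∧ sact g v = a • w := by
  -- rescale `w`
  have hc0 : hermForm 3 F q v v / hermForm 3 F q w w ≠ 0 := div_ne_zero hv hw
  have hc : (hermForm 3 F q v v / hermForm 3 F q w w) ^ q =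
      hermForm 3 F q v v / hermForm 3 F q w w := by
    rw [div_pow, herm_self_pow hF, herm_self_pow hF]
  obtain ⟨l, hl⟩ := exists_norm_eq hF _ hc0 hc
  have hl0 : l ≠ 0 := by
    rintro rfl
    rw [zero_pow (by omega)] at hl
    exact hc0 hl.symm
  have hlw : hermForm 3 F q (l • w) (l • w) = hermForm 3 F q v v := by
    rw [hsmul_l, hsmul_r, ← mul_assoc, ← pow_succ', hl]
    field_simp
  have hlw0 : hermForm 3 F q (l • w) (l • w) ≠ 0 := by rw [hlw]; exact hv
  obtain ⟨A, hA⟩ := exists_GU_map_aniso hF v (l • w) hv hlw.symm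
  set z := (detN hF A)⁻¹ with hz
  set B : ↥(Cfsg.GU 3 F q) := qtv hF 3 (l • w) _ (qcond_dil hF (l • w) hlw0 z) with hB
  have hBw : gact 3 B (l • w) = ((z : Fˣ) : F) • (l • w) := by
    rw [hB, gact_qtv]
    have : (((z : Fˣ) : F) - 1) / hermForm 3 F q (l • w) (l • w) *
        hermForm 3 F q (l • w) (l • w) = ((z : Fˣ) : F) - 1 := by
      field_simp
    rw [this, sub_smul, one_smul]
    abel
  have hdet : (((B * A : ↥(Cfsg.GU 3 F q)) : Matrix.GeneralLinearGroup (Fin 3) F) :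
      Matrix (Fin 3) (Fin 3) F).det = 1 := by
    rw [← detN_coe hF, map_mul, hB, Subgroup.coe_mul, Units.val_mul, detN_qtv]
    have : (((z : Fˣ) : F) - 1) / hermForm 3 F q (l • w) (l • w) *
        hermForm 3 F q (l • w) (l • w) = ((z : Fˣ) : F) - 1 := by
      field_simp
    rw [this, add_sub_cancel, hz]
    rw [← Units.val_mul, ← Subgroup.coe_mul, inv_mul_cancel]
    rfl
  obtain ⟨S, hS⟩ := exists_toGU_eq 3 (B * A) hdet
  refine ⟨S, ((z : Fˣ) : F) * l, mul_ne_zero (Units.ne_zero _) hl0, ?_⟩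
  show gact 3 (toGU 3 S) v = _
  rw [hS, gact_mul, hA, hBw, smul_smul]

include hF in
/-- all involutions of `SU_3(q)`, `q` odd, are conjugate -/
theorem involutions_conj (hq : Odd q) (t x : ↥(Cfsg.SU 3 F q)) (ht : t ≠ 1) (ht2 : t * t = 1)
    (hx : x ≠ 1) (hx2 : x * x = 1) : ∃ g : ↥(Cfsg.SU 3 F q), g * t * g⁻¹ = x := by
  obtain ⟨v, hv, rfl⟩ := exists_refl_of_involution hF hq t ht ht2
  obtain ⟨w, hw, rfl⟩ := exists_refl_of_involution hF hq x hx hx2
  obtain ⟨g, a, ha, hg⟩ := exists_SU_map_aniso hF v w hv hw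
  refine ⟨g, ?_⟩
  rw [conj_refl hF g v hv (herm_sact_self_ne g v hv)]
  have haw : hermForm 3 F q (a • w) (a • w) ≠ 0 := herm_smul_self_ne hF a ha w hw
  rw [← refl_smul hF a ha w hw haw]
  congr 1

/-- the set of involutions attached to a set `W` of non-isotropic vectors -/
def reflSet (W : Set (Fin 3 → F)) : Set ↥(Cfsg.SU 3 F q) :=
  {x | ∃ w ∈ W, ∃ hw : hermForm 3 F q w w ≠ 0, x = refl hF w hw}

include hF in
theorem card_units_F : Nat.card Fˣ = q ^ 2 - 1 := by
  rw [Nat.card_units, Nat.card_eq_fintype_card, hF]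

/-- counting the involutions attached to a set of non-isotropic vectors stable under scaling -/
theorem card_reflSet_mul (hq : Odd q) (W : Set (Fin 3 → F))
    (hW : ∀ w ∈ W, hermForm 3 F q w w ≠ 0)
    (hWs : ∀ w ∈ W, ∀ a : F, a ≠ 0 → a • w ∈ W) :
    Nat.card (reflSet hF W) * (q ^ 2 - 1) = Nat.card W := by
  classical
  have hrep : ∀ x : reflSet hF W, ∃ w : Fin 3 → F, w ∈ W ∧
      ∃ hw : hermForm 3 F q w w ≠ 0, (x : ↥(Cfsg.SU 3 F q)) = refl hF w hw := fun x => x.2
  choose rep hrepW hrepN hrepE using hrep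
  let φ : reflSet hF W × Fˣ → W := fun p => ⟨(p.2 : F) • rep p.1, hWs _ (hrepW p.1) _ (Units.ne_zero _)⟩
  have hφi : Function.Injective φ := by
    rintro ⟨x, a⟩ ⟨y, b⟩ h
    have h1 : (a : F) • rep x = (b : F) • rep y := congrArg Subtype.val h
    have hxy : x = y := by
      apply Subtype.ext
      rw [hrepE x, hrepE y]
      rw [← refl_smul hF (a : F) (Units.ne_zero _) (rep x) (hrepN x)
        (herm_smul_self_ne hF _ (Units.ne_zero _) _ (hrepN x)),
        ← refl_smul hF (b : F) (Units.ne_zero _) (rep y) (hrepN y)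
        (herm_smul_self_ne hF _ (Units.ne_zero _) _ (hrepN y))]
      congr 1
    subst hxy
    have h2 : ((a : F) - (b : F)) • rep x = 0 := by rw [sub_smul, h1, sub_self]
    rcases smul_eq_zero.mp h2 with h3 | h3
    · have : a = b := Units.ext (sub_eq_zero.mp h3)
      rw [this]
    · exact absurd h3 (ne_zero_of_herm_ne (hrepN x))
  have hφs : Function.Surjective φ := by
    rintro ⟨w, hw⟩
    have hx : refl hF w (hW w hw) ∈ reflSet hF W := ⟨w, hw, hW w hw, rfl⟩
    have h1 : refl hF (rep ⟨_, hx⟩) (hrepN ⟨_, hx⟩) = refl hF w (hW w hw) := (hrepE ⟨_, hx⟩).symm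
    obtain ⟨a, ha, hwa⟩ := (refl_eq_iff hF hq _ _ _ _).mp h1
    refine ⟨(⟨_, hx⟩, Units.mk0 a ha), ?_⟩
    apply Subtype.ext
    exact hwa.symm
  rw [← Nat.card_congr (Equiv.ofBijective φ ⟨hφi, hφs⟩), Nat.card_prod, card_units_F hF]

/-- the involutions are exactly the reflections -/
theorem involutions_eq_reflSet (hq : Odd q) :
    {x : ↥(Cfsg.SU 3 F q) | x ≠ 1 ∧ x * x = 1} =
      reflSet hF {w : Fin 3 → F | hermForm 3 F q w w ≠ 0} := by
  ext x
  constructor
  · rintro ⟨hx, hx2⟩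
    obtain ⟨v, hv, rfl⟩ := exists_refl_of_involution hF hq x hx hx2
    exact ⟨v, hv, hv, rfl⟩
  · rintro ⟨w, _, hw, rfl⟩
    exact ⟨refl_ne_one hF hq w hw, refl_mul_self hF w hw⟩

include hF in
theorem card_aniso : Nat.card {w : Fin 3 → F // hermForm 3 F q w w ≠ 0} + A F q 3 0 = q ^ 6 := by
  classical
  unfold A
  have h1 := Nat.card_congr (Equiv.sumCompl (fun w : Fin 3 → F => hermForm 3 F q w w = 0))
  rw [Nat.card_sum] at h1
  have h2 : Nat.card (Fin 3 → F) = q ^ 6 := by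
    rw [Nat.card_eq_fintype_card, Fintype.card_fun, hF, Fintype.card_fin, ← pow_mul]
  rw [h2] at h1
  rw [← h1, add_comm]

include hF in
/-- the number of involutions of `SU_3(q)` -/
theorem card_involutions (hq : Odd q) :
    Nat.card {x : ↥(Cfsg.SU 3 F q) // x ≠ 1 ∧ x * x = 1} = q ^ 2 * (q ^ 2 - q + 1) := by
  have h2 := two_le_q hF
  have h1 := card_reflSet_mul hF hq {w : Fin 3 → F | hermForm 3 F q w w ≠ 0}
    (fun w hw => hw) (fun w hw a ha => herm_smul_self_ne hF a ha w hw)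
  rw [← involutions_eq_reflSet hF hq] at h1
  have h3 := card_aniso hF
  have hA : A F q 3 0 = (q ^ 3 + 1) * (q ^ 2 - 1) + 1 := by
    rw [A_zero hF]
    rw [if_neg (by decide)]
  rw [hA] at h3
  have h4 : Nat.card {w : Fin 3 → F // hermForm 3 F q w w ≠ 0} =
      Nat.card ({w : Fin 3 → F | hermForm 3 F q w w ≠ 0} : Set (Fin 3 → F)) := rfl
  rw [← h4] at h1
  have hq2 : 1 ≤ q ^ 2 := Nat.one_le_pow _ _ (by omega)
  have hqq : q ≤ q ^ 2 := by nlinarith
  have hpos : 0 < q ^ 2 - 1 := by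
    have : 4 ≤ q ^ 2 := by nlinarith
    omega
  apply Nat.eq_of_mul_eq_mul_right hpos
  have h5 : Nat.card {x : ↥(Cfsg.SU 3 F q) // x ≠ 1 ∧ x * x = 1} =
      Nat.card ({x : ↥(Cfsg.SU 3 F q) | x ≠ 1 ∧ x * x = 1} : Set ↥(Cfsg.SU 3 F q)) := rfl
  rw [h5, h1]
  zify [hq2, hqq] at h3 ⊢
  linear_combination h3

include hF in
/-- the order of `SU_3(q)` -/
theorem card_SU3 : Nat.card ↥(Cfsg.SU 3 F q) = q ^ 3 * (q ^ 2 - 1) * (q ^ 3 + 1) := by
  have h1 := card_SU hF 3 (by norm_num)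
  rw [card_GU hF 3] at h1
  have h2 : ∏ i ∈ Finset.range 3, (if Even i then q ^ (i + 1) + 1 else q ^ (i + 1) - 1) =
      (q + 1) * (q ^ 2 - 1) * (q ^ 3 + 1) := by
    rw [Finset.prod_range_succ, Finset.prod_range_succ, Finset.prod_range_succ,
      Finset.prod_range_zero]
    rw [if_pos (by decide), if_neg (by decide), if_pos (by decide)]
    ring
  rw [h2] at h1
  have hpos : 0 < q + 1 := by omega
  apply Nat.eq_of_mul_eq_mul_left hpos
  rw [h1]
  norm_num
  ring

include hF in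
theorem conjClass_eq_involutions (hq : Odd q) (t : ↥(Cfsg.SU 3 F q)) (ht : t ≠ 1)
    (ht2 : t * t = 1) :
    (ConjClasses.mk t).carrier = {x : ↥(Cfsg.SU 3 F q) | x ≠ 1 ∧ x * x = 1} := by
  ext x
  rw [ConjClasses.mem_carrier_iff_mk_eq, ConjClasses.mk_eq_mk_iff_isConj, isConj_iff]
  constructor
  · rintro ⟨c, hc⟩
    have hx : t = c * x * c⁻¹ := hc.symm
    constructor
    · rintro rfl
      apply ht
      rw [hx]; group
    · have : c * (x * x) * c⁻¹ = 1 := by
        have h3 : c * (x * x) * c⁻¹ = (c * x * c⁻¹) * (c * x * c⁻¹) := by group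
        rw [h3, ← hx, ht2]
      have h4 : x * x = c⁻¹ * (c * (x * x) * c⁻¹) * c := by group
      rw [h4, this]; group
  · rintro ⟨hx, hx2⟩
    obtain ⟨g, hg⟩ := involutions_conj hF hq x t hx hx2 ht ht2
    exact ⟨g, hg⟩

include hF in
/-- the centralizer of an involution of `SU_3(q)` has the order of `GU_2(q)` -/
theorem card_centralizer_involution (hq : Odd q) (t : ↥(Cfsg.SU 3 F q)) (ht : t ≠ 1)
    (ht2 : t * t = 1) :
    Nat.card ↥(Subgroup.centralizer ({t} : Set ↥(Cfsg.SU 3 F q))) =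
      q * (q + 1) * (q ^ 2 - 1) := by
  have h2 := two_le_q hF
  have h1 := Cfsg.Agent.Lib.Helper4.card_carrier_mul_card_centralizer t
  rw [conjClass_eq_involutions hF hq t ht ht2, card_SU3 hF] at h1
  have h3 := card_involutions hF hq
  have h5 : Nat.card {x : ↥(Cfsg.SU 3 F q) // x ≠ 1 ∧ x * x = 1} =
      Nat.card ({x : ↥(Cfsg.SU 3 F q) | x ≠ 1 ∧ x * x = 1} : Set ↥(Cfsg.SU 3 F q)) := rfl
  rw [← h5, h3] at h1
  have hqq : q ≤ q ^ 2 := by nlinarith
  have hpos : 0 < q ^ 2 * (q ^ 2 - q + 1) := by positivity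
  apply Nat.eq_of_mul_eq_mul_left hpos
  rw [h1]
  have hq2 : 1 ≤ q ^ 2 := Nat.one_le_pow _ _ (by omega)
  zify [hq2, hqq]
  ring

end Cfsg.Agent.Lib.Helper6.SU3Refl
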