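import Mathlib
import Cfsg.Prelude.Def_Blocks
import Cfsg.Agent.Lib.Helper6.BlkCenter
import Cfsg.Agent.Lib.Helper6.BlkIndDefect
import Cfsg.Agent.Lib.Helper6.BlkDefect
import Cfsg.Agent.Lib.Helper6.BlkPrincipal
import Cfsg.Agent.Lib.Helper6.BrFM2
import Cfsg.Agent.Lib.Helper6.Norm

set_option autoImplicit false
set_option linter.unusedSectionVars false
open Cfsg

namespace Cfsg.Agent.Lib.Helper6

open scoped ComplexConjugate

section invol

variable {p : ℕ} {M : Ideal Cfsg.AlgInt}

/-- the local ideal as an additive subgroup of `ℂ` -/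
def localIdealAddSubgroup (hM : Cfsg.IsPModular p M) : AddSubgroup ℂ where
  carrier := {z | Cfsg.MemLocalIdeal M z}
  add_mem' := fun ha hb => MemLocalIdeal.add hM ha hb
  zero_mem' := memLocalIdeal_zero hM
  neg_mem' := fun ha => MemLocalIdeal.neg ha

/-- a sum over a set with a fixed point free involution pairing the terms modulo the local ideal -/
theorem memLocalIdeal_sum_involution (hM : Cfsg.IsPModular p M) {α : Type*} [DecidableEq α]
    (s : Finset α) (f : α → ℂ) (σ : α → α) (hσs : ∀ a ∈ s, σ a ∈ s) (hσσ : ∀ a ∈ s, σ (σ a) = a)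
    (hne : ∀ a ∈ s, σ a ≠ a) (h : ∀ a ∈ s, Cfsg.MemLocalIdeal M (f a + f (σ a))) :
    Cfsg.MemLocalIdeal M (∑ a ∈ s, f a) := by
  have key : ∑ a ∈ s, (QuotientAddGroup.mk (f a) : ℂ ⧸ localIdealAddSubgroup hM) = 0 := by
    refine Finset.sum_involution (fun a _ => σ a) ?_ ?_ ?_ ?_
    · intro a ha
      rw [← QuotientAddGroup.mk_add, QuotientAddGroup.eq_zero_iff]
      exact h a ha
    · intro a ha _
      exact hne a ha
    · intro a ha
      exact hσs a ha
    · intro a ha
      exact hσσ a ha
  have h2 : (QuotientAddGroup.mk (∑ a ∈ s, f a) : ℂ ⧸ localIdealAddSubgroup hM) = 0 := by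
    rw [← key]
    exact map_sum (QuotientAddGroup.mk' (localIdealAddSubgroup hM)) f s
  exact (QuotientAddGroup.eq_zero_iff _).mp h2

end invol

section real

variable {G : Type*} [Group G] [Fintype G] [DecidableEq G]

theorem centralizer_singleton_inv (g : G) :
    Subgroup.centralizer ({g⁻¹} : Set G) = Subgroup.centralizer ({g} : Set G) := by
  ext x
  rw [Subgroup.mem_centralizer_iff, Subgroup.mem_centralizer_iff]
  constructor
  · intro h y hy
    rw [Set.mem_singleton_iff] at hy
    rw [hy]
    have h1 := h g⁻¹ (Set.mem_singleton _)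
    calc g * x = g * (x * g⁻¹) * g := by group
      _ = g * (g⁻¹ * x) * g := by rw [h1]
      _ = x * g := by group
  · intro h y hy
    rw [Set.mem_singleton_iff] at hy
    rw [hy]
    have h1 := h g (Set.mem_singleton _)
    calc g⁻¹ * x = g⁻¹ * (x * g) * g⁻¹ := by group
      _ = g⁻¹ * (g * x) * g⁻¹ := by rw [h1]
      _ = x * g⁻¹ := by group

/-- a nonidentity real element of odd order has a class of even size -/
theorem even_index_centralizer_of_real (g : G) (hg1 : g ≠ 1) (hodd : ¬ 2 ∣ orderOf g)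
    (hreal : IsConj g g⁻¹) : 2 ∣ (Subgroup.centralizer ({g} : Set G)).index := by
  classical
  rw [← card_conj_eq_index]
  have key : ∑ _x ∈ Finset.univ.filter (fun x : G => IsConj g x), (1 : ZMod 2) = 0 := by
    refine Finset.sum_involution (fun a _ => a⁻¹) ?_ ?_ ?_ ?_
    · intro a _
      decide
    · intro a ha _ hfix
      have ha' : IsConj g a := (Finset.mem_filter.mp ha).2
      have h2 : a ^ 2 = 1 := by
        rw [pow_two]
        calc a * a = a⁻¹ * a := by rw [hfix]
          _ = 1 := inv_mul_cancel a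
      have hoa : orderOf a = orderOf g := by
        obtain ⟨c, hc⟩ := isConj_iff.mp ha'
        rw [← hc]
        have : c * g * c⁻¹ = MulAut.conj c g := by simp [MulAut.conj_apply]
        rw [this, MulEquiv.orderOf_eq]
      have hd : orderOf a ∣ 2 := orderOf_dvd_of_pow_eq_one h2
      rw [hoa] at hd
      rcases (Nat.dvd_prime Nat.prime_two).mp hd with h1 | h1
      · apply hg1
        exact orderOf_eq_one_iff.mp h1
      · apply hodd
        rw [h1]
    · intro a ha
      have ha' : IsConj g a := (Finset.mem_filter.mp ha).2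
      rw [Finset.mem_filter]
      refine ⟨Finset.mem_univ _, ?_⟩
      have h1 : IsConj g⁻¹ a⁻¹ := by
        obtain ⟨c, hc⟩ := isConj_iff.mp ha'
        rw [isConj_iff]
        refine ⟨c, ?_⟩
        rw [← hc]
        group
      exact hreal.trans h1
    · intro a _
      exact inv_inv a
  rw [Finset.sum_const, nsmul_one] at key
  exact (ZMod.natCast_eq_zero_iff _ _).mp key

end real

section main

variable {G : Type*} [Group G] [Fintype G] [DecidableEq G]
variable {M : Ideal Cfsg.AlgInt}

/-- the principal block is closed under complex conjugation -/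
theorem conj_mem_principalBlock (ψ : Cfsg.IrrCharacter G) (hψ : ψ ∈ Cfsg.principalBlock M G) :
    (⟨fun g => conj ((ψ : G → ℂ) g), IsIrrCharacter.conj ψ.2⟩ : Cfsg.IrrCharacter G)
      ∈ Cfsg.principalBlock M G := by
  intro g
  have h := hψ g⁻¹
  have e1 : Cfsg.centralChar (fun _ : G => (1 : ℂ)) g⁻¹
      = Cfsg.centralChar (fun _ : G => (1 : ℂ)) g := by
    unfold Cfsg.centralChar
    rw [centralizer_singleton_inv]
  have e2 : Cfsg.centralChar (ψ : G → ℂ) g⁻¹
      = Cfsg.centralChar (fun g => conj ((ψ : G → ℂ) g)) g := by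
    unfold Cfsg.centralChar
    rw [centralizer_singleton_inv, IsCharacter.apply_inv (IsIrrCharacter.isCharacter ψ.2)]
    beta_reduce
    rw [IsIrrCharacter.conj_apply_one ψ.2]
  rw [e1, e2] at h
  exact h

/-- complex conjugation on irreducible characters -/
noncomputable def cjIrr (ψ : Cfsg.IrrCharacter G) : Cfsg.IrrCharacter G :=
  ⟨fun g => conj ((ψ : G → ℂ) g), IsIrrCharacter.conj ψ.2⟩

theorem cjIrr_cjIrr (ψ : Cfsg.IrrCharacter G) : cjIrr (cjIrr ψ) = ψ := by
  apply Subtype.ext
  funext g
  exact Complex.conj_conj _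

/-- the idempotent coefficients of the principal block are invariant under inversion -/
theorem blockCoeff_principalBlock_inv (g : G) :
    Cfsg.blockCoeff (Cfsg.principalBlock M G) g⁻¹ = Cfsg.blockCoeff (Cfsg.principalBlock M G) g := by
  unfold Cfsg.blockCoeff
  congr 1
  have hbij : Set.BijOn (cjIrr (G := G)) (Cfsg.principalBlock M G) (Cfsg.principalBlock M G) := by
    refine ⟨fun ψ hψ => conj_mem_principalBlock ψ hψ, ?_, ?_⟩
    · intro a _ b _ hab
      rw [← cjIrr_cjIrr a, hab, cjIrr_cjIrr]
    · intro ψ hψ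
      exact ⟨cjIrr ψ, conj_mem_principalBlock ψ hψ, cjIrr_cjIrr ψ⟩
  apply finsum_mem_eq_of_bijOn (cjIrr (G := G)) hbij
  intro ψ _
  have h1 : ((cjIrr ψ : Cfsg.IrrCharacter G) : G → ℂ) 1 = (ψ : G → ℂ) 1 :=
    IsIrrCharacter.conj_apply_one ψ.2
  have h2 : ((cjIrr ψ : Cfsg.IrrCharacter G) : G → ℂ) g = conj ((ψ : G → ℂ) g) := rfl
  rw [h1, h2, IsCharacter.apply_inv (IsIrrCharacter.isCharacter ψ.2)]

theorem centralChar_inv (χ : Cfsg.IrrCharacter G) (g : G) :
    Cfsg.centralChar (χ : G → ℂ) g⁻¹ = Cfsg.centralChar ((cjIrr χ : Cfsg.IrrCharacter G) : G → ℂ) g := by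
  unfold Cfsg.centralChar
  rw [centralizer_singleton_inv, IsCharacter.apply_inv (IsIrrCharacter.isCharacter χ.2)]
  have h1 : ((cjIrr χ : Cfsg.IrrCharacter G) : G → ℂ) 1 = (χ : G → ℂ) 1 :=
    IsIrrCharacter.conj_apply_one χ.2
  rw [h1]
  rfl


theorem isConj_out_mk (g : G) : IsConj (Quotient.out (ConjClasses.mk g)) g := by
  rw [← ConjClasses.mk_eq_mk_iff_isConj]
  exact Quotient.out_eq (ConjClasses.mk g)

theorem isConj_inv_inv {g h : G} (hc : IsConj g h) : IsConj g⁻¹ h⁻¹ := by
  obtain ⟨c, hc⟩ := isConj_iff.mp hc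
  rw [isConj_iff]
  refine ⟨c, ?_⟩
  rw [← hc]
  group

/-- inversion on conjugacy classes -/
noncomputable def invClass (c : ConjClasses G) : ConjClasses G :=
  ConjClasses.mk (Quotient.out c)⁻¹

theorem isConj_out_invClass (c : ConjClasses G) :
    IsConj (Quotient.out (invClass c)) (Quotient.out c)⁻¹ :=
  isConj_out_mk _

theorem invClass_invClass (c : ConjClasses G) : invClass (invClass c) = c := by
  have h1 := isConj_inv_inv (isConj_out_invClass c)
  rw [inv_inv] at h1
  unfold invClass at h1 ⊢
  rw [ConjClasses.mk_eq_mk_iff_isConj.mpr h1]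
  exact Quotient.out_eq c

theorem invClass_eq_self_iff (c : ConjClasses G) :
    invClass c = c ↔ IsConj (Quotient.out c) (Quotient.out c)⁻¹ := by
  unfold invClass
  constructor
  · intro h
    rw [← ConjClasses.mk_eq_mk_iff_isConj, h]
    exact Quotient.out_eq c
  · intro h
    rw [← ConjClasses.mk_eq_mk_iff_isConj] at h
    rw [← h]
    exact Quotient.out_eq c

theorem out_mk_one : Quotient.out (ConjClasses.mk (1 : G)) = 1 := by
  have h := isConj_out_mk (1 : G)
  obtain ⟨c, hc⟩ := isConj_iff.mp h.symm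
  rw [← hc]
  group

theorem out_eq_one_iff (c : ConjClasses G) : Quotient.out c = 1 ↔ c = ConjClasses.mk 1 := by
  constructor
  · intro h
    rw [← h]
    exact (Quotient.out_eq c).symm
  · intro h
    rw [h]
    exact out_mk_one

/-- the key congruence for a real block: the indicator of the principal block at an odd degree
member of a self-conjugate block is congruent to the coefficient of `1` in the principal block
idempotent -/
theorem real_block_cong (hM : Cfsg.IsPModular 2 M) (χ : Cfsg.IrrCharacter G)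
    (hodd : ¬ 2 ∣ Cfsg.charDegree (χ : G → ℂ))
    (hreal : Cfsg.SameBlock M (χ : G → ℂ) ((cjIrr χ : Cfsg.IrrCharacter G) : G → ℂ))
    [DecidablePred (· ∈ Cfsg.principalBlock M G)] :
    Cfsg.MemLocalIdeal M ((if χ ∈ Cfsg.principalBlock M G then (1 : ℂ) else 0)
      - Cfsg.blockCoeff (Cfsg.principalBlock M G) 1) := by
  classical
  have : Fintype (ConjClasses G) := Fintype.ofFinite _
  have hχ1 : (χ : G → ℂ) 1 = (Cfsg.charDegree (χ : G → ℂ) : ℂ) :=
    IsCharacter.apply_one_eq_charDegree (IsIrrCharacter.isCharacter χ.2)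
  have hχ1ne : (χ : G → ℂ) 1 ≠ 0 := IsIrrCharacter.apply_one_ne_zero χ.2
  have hinv : Cfsg.MemLocalRing M ((χ : G → ℂ) 1)⁻¹ := by
    rw [hχ1]
    exact memLocalRing_inv_natCast hM hodd
  have haR : ∀ g, Cfsg.MemLocalRing M (Cfsg.blockCoeff (Cfsg.principalBlock M G) g) := fun g =>
    blockCoeff_memLocalRing hM (oneIrr G) g
  have hωR : ∀ g, Cfsg.MemLocalRing M (Cfsg.centralChar (χ : G → ℂ) g) := fun g =>
    memLocalRing_of_isIntegral hM (IsIrrCharacter.isIntegral_centralChar' χ.2 g)
  have h2 : Cfsg.MemLocalIdeal M (2 : ℂ) := by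
    have := memLocalIdeal_prime hM
    exact_mod_cast this
  rw [← cOmega_blockMat (Cfsg.principalBlock M G) χ, cOmega_eq_sum_classes (IsIrrCharacter.isClassFunction χ.2)
    (blockMat_mem_centerAlg _)]
  simp only [blockMat_apply_one]
  set Φ : G → ℂ := fun g => Cfsg.blockCoeff (Cfsg.principalBlock M G) g * Cfsg.centralChar (χ : G → ℂ) g with hΦ
  have hΦinv : ∀ c : ConjClasses G, Φ (Quotient.out (invClass c))
      = Cfsg.blockCoeff (Cfsg.principalBlock M G) (Quotient.out c)
        * Cfsg.centralChar ((cjIrr χ : Cfsg.IrrCharacter G) : G → ℂ) (Quotient.out c) := by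
    intro c
    have hc := isConj_out_invClass c
    simp only [hΦ]
    rw [blockCoeff_eq_of_isConj (Cfsg.principalBlock M G) hc.symm,
      centralChar_eq_of_isConj (IsIrrCharacter.isClassFunction χ.2) hc.symm,
      blockCoeff_principalBlock_inv, centralChar_inv]
  obtain ⟨R, hR⟩ : ∃ R : Finset (ConjClasses G), ∀ c, c ∈ R ↔ invClass c = c :=
    ⟨Finset.univ.filter (fun c => invClass c = c), by intro c; simp⟩
  rw [← Finset.sum_add_sum_compl R]
  have hc1 : ConjClasses.mk (1 : G) ∈ R := by
    rw [hR, invClass_eq_self_iff, out_mk_one, inv_one]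
  rw [← Finset.add_sum_erase _ _ hc1, out_mk_one]
  have hΦ1 : Cfsg.blockCoeff (Cfsg.principalBlock M G) 1 * Cfsg.centralChar (χ : G → ℂ) 1
      = Cfsg.blockCoeff (Cfsg.principalBlock M G) 1 := by
    have : Cfsg.centralChar (χ : G → ℂ) 1 = 1 := by
      unfold Cfsg.centralChar
      have : Subgroup.centralizer ({(1 : G)} : Set G) = ⊤ := by
        ext x
        simp [Subgroup.mem_centralizer_iff]
      rw [this, Subgroup.index_top, Nat.cast_one, one_mul, div_self hχ1ne]
    rw [this, mul_one]
  rw [hΦ1]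
  have e : Cfsg.blockCoeff (Cfsg.principalBlock M G) 1 + ∑ x ∈ R.erase (ConjClasses.mk 1),
        Cfsg.blockCoeff (Cfsg.principalBlock M G) (Quotient.out x)
          * Cfsg.centralChar (χ : G → ℂ) (Quotient.out x)
      + ∑ x ∈ Rᶜ, Cfsg.blockCoeff (Cfsg.principalBlock M G) (Quotient.out x)
          * Cfsg.centralChar (χ : G → ℂ) (Quotient.out x)
      - Cfsg.blockCoeff (Cfsg.principalBlock M G) 1
      = ∑ x ∈ R.erase (ConjClasses.mk 1), Φ (Quotient.out x)
      + ∑ x ∈ Rᶜ, Φ (Quotient.out x) := by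
    simp only [hΦ]
    ring
  rw [e]
  apply MemLocalIdeal.add hM
  · -- real classes
    apply MemLocalIdeal.sum hM
    intro c hc
    rw [Finset.mem_erase, hR] at hc
    obtain ⟨hc1', hcreal⟩ := hc
    rw [invClass_eq_self_iff] at hcreal
    have hg1 : Quotient.out c ≠ 1 := fun h => hc1' ((out_eq_one_iff c).mp h)
    by_cases hsing : 2 ∣ orderOf (Quotient.out c)
    · simp only [hΦ]
      have : Cfsg.blockCoeff (Cfsg.principalBlock M G) (Quotient.out c) = 0 :=
        blockCoeff_eq_zero_of_pSingular hM (oneIrr G) _ hsing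
      rw [this, zero_mul]
      exact memLocalIdeal_zero hM
    · have hidx := even_index_centralizer_of_real _ hg1 hsing hcreal
      obtain ⟨k, hk⟩ := hidx
      simp only [hΦ]
      apply MemLocalIdeal.mul_left hM (haR _)
      unfold Cfsg.centralChar
      rw [hk]
      have e2 : ((2 * k : ℕ) : ℂ) * (χ : G → ℂ) (Quotient.out c) / (χ : G → ℂ) 1
          = 2 * ((k : ℂ) * (χ : G → ℂ) (Quotient.out c) * ((χ : G → ℂ) 1)⁻¹) := by
        push_cast
        rw [div_eq_mul_inv]
        ring
      rw [e2]
      apply MemLocalIdeal.mul_right hM h2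
      apply MemLocalRing.mul hM _ hinv
      apply MemLocalRing.mul hM (memLocalRing_natCast hM k)
      exact memLocalRing_of_isIntegral hM
        (IsCharacter.isIntegral_apply (IsIrrCharacter.isCharacter χ.2) _)
  · -- non-real classes pair up
    have hRc : ∀ c : ConjClasses G, c ∈ Rᶜ ↔ invClass c ≠ c := by
      intro c
      rw [Finset.mem_compl, hR]
    apply memLocalIdeal_sum_involution hM (Rᶜ) (fun c : ConjClasses G => Φ (Quotient.out c)) invClass
    · intro c hc
      rw [hRc] at hc ⊢
      rw [invClass_invClass]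
      intro h
      exact hc h.symm
    · intro c _
      exact invClass_invClass c
    · intro c hc
      exact (hRc c).mp hc
    · intro c _
      beta_reduce
      rw [hΦinv c]
      simp only [hΦ]
      have e3 : Cfsg.blockCoeff (Cfsg.principalBlock M G) (Quotient.out c)
            * Cfsg.centralChar (χ : G → ℂ) (Quotient.out c)
          + Cfsg.blockCoeff (Cfsg.principalBlock M G) (Quotient.out c)
            * Cfsg.centralChar ((cjIrr χ : Cfsg.IrrCharacter G) : G → ℂ) (Quotient.out c)
          = Cfsg.blockCoeff (Cfsg.principalBlock M G) (Quotient.out c)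
            * (2 * Cfsg.centralChar (χ : G → ℂ) (Quotient.out c)
            - (Cfsg.centralChar (χ : G → ℂ) (Quotient.out c)
              - Cfsg.centralChar ((cjIrr χ : Cfsg.IrrCharacter G) : G → ℂ) (Quotient.out c))) := by
        ring
      rw [e3]
      apply MemLocalIdeal.mul_left hM (haR _)
      apply MemLocalIdeal.sub hM
      · exact MemLocalIdeal.mul_right hM h2 (hωR _)
      · exact hreal _

end main

end Cfsg.Agent.Lib.Helper6
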