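import Mathlib
import Cfsg.Agent.Lib.Helper6.ClassMult
import Cfsg.Agent.Lib.Helper6.ClassSum
import Cfsg.Agent.Lib.Helper6.BlkDim
import Cfsg.Agent.Lib.Helper6.BlkReal
import Cfsg.Agent.Lib.Helper6.BlkDefect
import Cfsg.Agent.Lib.Helper6.Multiplicity

set_option autoImplicit false
set_option linter.unusedSectionVars false
open Cfsg

namespace Cfsg.Agent.Lib.Helper6

open scoped ComplexConjugate

section pairs

variable {G : Type*} [Group G] [Fintype G] [DecidableEq G]

/-- **A congruence for class products** (the easy half of Robinson's count of blocks of defect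
zero). If no irreducible character of `G` has `p`-defect zero and `s` has centralizer of order
prime to `p`, then for a Sylow `p`-subgroup `S` the number of triples `(g, h, w)` with `w ∈ S` and
`g s g⁻¹ · h s⁻¹ h⁻¹ = w` is divisible by `p |S|`. -/
theorem sylow_pairs_dvd (p : ℕ) [Fact p.Prime]
    (hno : ∀ χ : Cfsg.IrrCharacter G,
      (Cfsg.charDegree (χ : G → ℂ)).factorization p ≠ (Nat.card G).factorization p)
    (s : G) (S : Sylow p G) [DecidablePred (fun w : G => w ∈ (S : Subgroup G))] :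
    p * Nat.card S ∣ ∑ w ∈ Finset.univ.filter (fun w : G => w ∈ (S : Subgroup G)),
      (Finset.univ.filter
        (fun pr : G × G => pr.1 * s * pr.1⁻¹ * (pr.2 * s⁻¹ * pr.2⁻¹) = w)).card := by
  classical
  have : Fintype (S : Subgroup G) := Fintype.ofFinite _
  have hconv : ∀ f : G → ℂ, ∑ w ∈ Finset.univ.filter (fun w : G => w ∈ (S : Subgroup G)), f w
      = ∑ w : (S : Subgroup G), f (w : G) := by
    intro f
    rw [← Finset.sum_subtype_eq_sum_filter]
    apply Finset.sum_congr _ (fun _ _ => rfl)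
    ext w
    simp
  have hp : p.Prime := Fact.out
  have : Fintype (Cfsg.IrrCharacter G) := Fintype.ofFinite _
  have hG0 : Nat.card G ≠ 0 := Nat.card_pos.ne'
  have hS0 : Nat.card S ≠ 0 := Nat.card_pos.ne'
  apply nat_dvd_of_isIntegral_div (Nat.mul_ne_zero hp.ne_zero hS0)
  -- the quotient `|G| / (p χ(1))`
  have hquot : ∀ χ : Cfsg.IrrCharacter G, ∃ n : ℕ,
      Nat.card G = Cfsg.charDegree (χ : G → ℂ) * (p * n) := by
    intro χ
    obtain ⟨k, hk⟩ := IsIrrCharacter.charDegree_dvd_card χ.2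
    have hd0 : Cfsg.charDegree (χ : G → ℂ) ≠ 0 := (IsIrrCharacter.charDegree_pos χ.2).ne'
    have hk0 : k ≠ 0 := by
      rintro rfl
      rw [mul_zero] at hk
      exact hG0 hk
    have hpk : p ∣ k := by
      by_contra hpk
      apply hno χ
      rw [hk, Nat.factorization_mul hd0 hk0, Finsupp.add_apply,
        Nat.factorization_eq_zero_of_not_dvd hpk, add_zero]
    obtain ⟨n, hn⟩ := hpk
    exact ⟨n, by rw [hk, hn]⟩
  choose n hn using hquot
  have key : ((∑ w ∈ Finset.univ.filter (fun w : G => w ∈ (S : Subgroup G)), (Finset.univ.filter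
      (fun pr : G × G => pr.1 * s * pr.1⁻¹ * (pr.2 * s⁻¹ * pr.2⁻¹) = w)).card : ℕ) : ℂ)
      / ((p * Nat.card S : ℕ) : ℂ)
      = ∑ χ : Cfsg.IrrCharacter G, (χ : G → ℂ) s * (χ : G → ℂ) s⁻¹
          * ((n χ : ℂ) * (trivMult (S : Subgroup G) (χ : G → ℂ) : ℂ)) := by
    have hpS : ((p * Nat.card S : ℕ) : ℂ) ≠ 0 := by
      exact_mod_cast Nat.mul_ne_zero hp.ne_zero hS0
    rw [div_eq_iff hpS]
    push_cast
    simp_rw [card_conj_mul_conj_eq s s⁻¹]
    rw [hconv]
    rw [← Finset.mul_sum, Finset.sum_comm, Finset.sum_mul, Finset.mul_sum]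
    apply Finset.sum_congr rfl
    intro χ _
    have hχ1 : (χ : G → ℂ) 1 = (Cfsg.charDegree (χ : G → ℂ) : ℂ) :=
      IsCharacter.apply_one_eq_charDegree (IsIrrCharacter.isCharacter χ.2)
    have hd0 : (Cfsg.charDegree (χ : G → ℂ) : ℂ) ≠ 0 := by
      exact_mod_cast (IsIrrCharacter.charDegree_pos χ.2).ne'
    have htm := trivMult_spec (S : Subgroup G) (IsIrrCharacter.isCharacter χ.2)
    rw [finsum_eq_sum_of_fintype] at htm
    have hsum : ∑ w : (S : Subgroup G), conj ((χ : G → ℂ) (w : G))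
        = (Nat.card S : ℂ) * (trivMult (S : Subgroup G) (χ : G → ℂ) : ℂ) := by
      rw [← map_sum]
      have h1 : ∑ w : (S : Subgroup G), (χ : G → ℂ) (w : G)
          = (Nat.card S : ℂ) * (trivMult (S : Subgroup G) (χ : G → ℂ) : ℂ) := by
        rw [← htm, ← mul_assoc, mul_inv_cancel₀ (by exact_mod_cast hS0), one_mul]
      rw [h1, map_mul, Complex.conj_natCast, Complex.conj_natCast]
    have hGc : (Nat.card G : ℂ) = (Cfsg.charDegree (χ : G → ℂ) : ℂ) * ((p : ℂ) * (n χ : ℂ)) := by
      exact_mod_cast hn χ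
    have e1 : ∑ w : (S : Subgroup G), (χ : G → ℂ) s * (χ : G → ℂ) s⁻¹
          * conj ((χ : G → ℂ) (w : G)) / (χ : G → ℂ) 1
        = (χ : G → ℂ) s * (χ : G → ℂ) s⁻¹ / (χ : G → ℂ) 1
          * ∑ w : (S : Subgroup G), conj ((χ : G → ℂ) (w : G)) := by
      rw [Finset.mul_sum]
      apply Finset.sum_congr rfl
      intro w _
      ring
    rw [e1, hsum, hχ1, hGc]
    field_simp
  rw [key]
  apply IsIntegral.sum
  intro χ _
  apply IsIntegral.mul
  · exact IsIntegral.mul (IsCharacter.isIntegral_apply (IsIrrCharacter.isCharacter χ.2) s)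
      (IsCharacter.isIntegral_apply (IsIrrCharacter.isCharacter χ.2) s⁻¹)
  · exact IsIntegral.mul (isIntegral_natCast _) (isIntegral_natCast _)

/-- The number of pairs `(g, h)` with `g s g⁻¹ · h s⁻¹ h⁻¹ = 1`. -/
theorem card_conj_mul_conj_inv_eq_one (s : G) :
    (Finset.univ.filter
      (fun pr : G × G => pr.1 * s * pr.1⁻¹ * (pr.2 * s⁻¹ * pr.2⁻¹) = 1)).card
      = Nat.card G * Nat.card (Subgroup.centralizer ({s} : Set G)) := by
  rw [Finset.card_filter, Fintype.sum_prod_type_right]
  have h1 : ∀ h : G, ∑ g : G, (if g * s * g⁻¹ * (h * s⁻¹ * h⁻¹) = 1 then 1 else 0)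
      = Nat.card (Subgroup.centralizer ({s} : Set G)) := by
    intro h
    rw [← Finset.card_filter]
    rw [← card_filter_conj_eq_card_centralizer (h := s) (g := h * s * h⁻¹)
      (isConj_iff.mpr ⟨h, rfl⟩)]
    congr 1
    ext g
    simp only [Finset.mem_filter, Finset.mem_univ, true_and]
    constructor
    · intro hg
      have : g * s * g⁻¹ = (h * s⁻¹ * h⁻¹)⁻¹ := eq_inv_of_mul_eq_one_left hg
      rw [this]
      group
    · intro hg
      rw [hg]
      group
  simp only [h1]
  rw [Finset.sum_const, Finset.card_univ, smul_eq_mul, ← Nat.card_eq_fintype_card]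

/-- If no irreducible character has `p`-defect zero and `p ∤ |C_G(s)|`, then some product of a
conjugate of `s` with a conjugate of `s⁻¹` is a nontrivial element of the given Sylow
`p`-subgroup. -/
theorem exists_conj_mul_conj_mem_sylow (p : ℕ) [Fact p.Prime]
    (hno : ∀ χ : Cfsg.IrrCharacter G,
      (Cfsg.charDegree (χ : G → ℂ)).factorization p ≠ (Nat.card G).factorization p)
    (s : G) (hs : ¬ p ∣ Nat.card (Subgroup.centralizer ({s} : Set G))) (S : Sylow p G) :
    ∃ g h : G, g * s * g⁻¹ * (h * s⁻¹ * h⁻¹) ∈ (S : Subgroup G) ∧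
      g * s * g⁻¹ * (h * s⁻¹ * h⁻¹) ≠ 1 := by
  classical
  have hp : p.Prime := Fact.out
  by_contra hcon
  push Not at hcon
  have hdvd := sylow_pairs_dvd p hno s S
  have hsum : ∑ w ∈ Finset.univ.filter (fun w : G => w ∈ (S : Subgroup G)),
      (Finset.univ.filter
        (fun pr : G × G => pr.1 * s * pr.1⁻¹ * (pr.2 * s⁻¹ * pr.2⁻¹) = w)).card
      = Nat.card G * Nat.card (Subgroup.centralizer ({s} : Set G)) := by
    rw [← card_conj_mul_conj_inv_eq_one s]
    apply Finset.sum_eq_single_of_mem (1 : G)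
    · simp only [Finset.mem_filter, Finset.mem_univ, true_and]
      exact (S : Subgroup G).one_mem
    · intro w hw hw1
      simp only [Finset.mem_filter, Finset.mem_univ, true_and] at hw
      rw [Finset.card_eq_zero, Finset.filter_eq_empty_iff]
      intro pr _ hpr
      apply hw1
      rw [← hpr]
      apply hcon
      rw [hpr]
      exact hw
  rw [hsum, Sylow.card_eq_multiplicity, ← pow_succ'] at hdvd
  have hcop : Nat.Coprime (p ^ ((Nat.card G).factorization p + 1))
      (Nat.card (Subgroup.centralizer ({s} : Set G))) :=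
    Nat.Coprime.pow_left _ ((Nat.Prime.coprime_iff_not_dvd hp).mpr hs)
  have h2 := hcop.dvd_of_dvd_mul_right hdvd
  exact Nat.pow_succ_factorization_not_dvd Nat.card_pos.ne' hp h2

end pairs

end Cfsg.Agent.Lib.Helper6
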