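import Mathlib
import Cfsg.Agent.Lib.Helper6.DefectZeroPairs
import Cfsg.Agent.Lib.Helper6.InvSylow

set_option autoImplicit false
open Cfsg

namespace Cfsg.Agent.Lib.Helper6

section invsylow2

variable {G : Type*} [Group G] [Finite G]

/-- If centralizers of nontrivial `p`-elements have odd order, then `p` does not divide the order
of the centralizer of an involution. -/
theorem not_dvd_card_centralizer_involution (p : ℕ) [Fact p.Prime]
    (hC : ∀ g : G, g ≠ 1 → (∃ k : ℕ, orderOf g = p ^ k) →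
      Odd (Nat.card ↥(Subgroup.centralizer ({g} : Set G))))
    (s : G) (hs : orderOf s = 2) :
    ¬ p ∣ Nat.card (Subgroup.centralizer ({s} : Set G)) := by
  have hp : p.Prime := Fact.out
  intro hdvd
  obtain ⟨u, hu⟩ := exists_prime_orderOf_dvd_card' p hdvd
  have hu0 : orderOf (u : G) = p := by rw [Subgroup.orderOf_coe]; exact hu
  have hu1 : (u : G) ≠ 1 := by
    intro h
    rw [h, orderOf_one] at hu0
    exact hp.one_lt.ne hu0
  have hodd := hC (u : G) hu1 ⟨1, by rw [hu0, pow_one]⟩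
  have hsmem : s ∈ Subgroup.centralizer ({(u : G)} : Set G) := by
    rw [Subgroup.mem_centralizer_iff]
    intro h hh
    rw [Set.mem_singleton_iff] at hh
    subst hh
    exact (Subgroup.mem_centralizer_iff.mp u.2 s (Set.mem_singleton s)).symm
  have h2 : orderOf (⟨s, hsmem⟩ : Subgroup.centralizer ({(u : G)} : Set G))
      ∣ Nat.card (Subgroup.centralizer ({(u : G)} : Set G)) := orderOf_dvd_natCard _
  rw [Subgroup.orderOf_mk, hs] at h2
  exact (Nat.not_even_iff_odd.mpr hodd) (even_iff_two_dvd.mpr h2)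

/-- **Key step for the Brauer–Fowler type theorems.** If centralizers of nontrivial `p`-elements
have odd order and `G` has no irreducible character of `p`-defect zero, then every involution has
a conjugate inverting the given Sylow `p`-subgroup elementwise. -/
theorem exists_conj_inverting_sylow (p : ℕ) [Fact p.Prime]
    (hC : ∀ g : G, g ≠ 1 → (∃ k : ℕ, orderOf g = p ^ k) →
      Odd (Nat.card ↥(Subgroup.centralizer ({g} : Set G))))
    (hno : ∀ χ : Cfsg.IrrCharacter G,
      (Cfsg.charDegree (χ : G → ℂ)).factorization p ≠ (Nat.card G).factorization p)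
    (s : G) (hs : orderOf s = 2) (S : Sylow p G) :
    ∃ g : G, ∀ v ∈ (S : Subgroup G), (g * s * g⁻¹) * v * (g * s * g⁻¹)⁻¹ = v⁻¹ := by
  classical
  have : Fintype G := Fintype.ofFinite G
  have hss : s * s = 1 := by
    rw [← sq, ← hs, pow_orderOf_eq_one]
  have hs1 : s ≠ 1 := by
    intro h
    rw [h, orderOf_one] at hs
    omega
  have hsinv : s⁻¹ = s := inv_eq_of_mul_eq_one_left hss
  obtain ⟨g, h, hmem, hne⟩ := exists_conj_mul_conj_mem_sylow p hno s
    (not_dvd_card_centralizer_involution p hC s hs) S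
  rw [hsinv] at hmem hne
  obtain ⟨x, hxdef⟩ : ∃ x, x = g * s * g⁻¹ := ⟨_, rfl⟩
  obtain ⟨y, hydef⟩ : ∃ y, y = h * s * h⁻¹ := ⟨_, rfl⟩
  rw [← hxdef, ← hydef] at hmem hne
  have hxx : x * x = 1 := by
    calc x * x = g * (s * s) * g⁻¹ := by rw [hxdef]; group
      _ = 1 := by rw [hss]; group
  have hyy : y * y = 1 := by
    calc y * y = h * (s * s) * h⁻¹ := by rw [hydef]; group
      _ = 1 := by rw [hss]; group
  have hx1 : x ≠ 1 := by
    intro hx
    apply hs1
    calc s = g⁻¹ * x * g := by rw [hxdef]; group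
      _ = 1 := by rw [hx]; group
  have hxinv : x⁻¹ = x := inv_eq_of_mul_eq_one_left hxx
  have hyinv : y⁻¹ = y := inv_eq_of_mul_eq_one_left hyy
  have hinv : x * (x * y) * x⁻¹ = (x * y)⁻¹ := by
    rw [mul_inv_rev, hxinv, hyinv, ← mul_assoc, hxx, one_mul]
  have hwp : ∃ k : ℕ, orderOf (x * y) = p ^ k := by
    obtain ⟨k, hk⟩ := (IsPGroup.iff_orderOf.mp S.2) ⟨x * y, hmem⟩
    rw [Subgroup.orderOf_mk] at hk
    exact ⟨k, hk⟩
  obtain ⟨P', hP'⟩ := exists_sylow_inverted p hC x (x * y) hxx hx1 hne hwp hinv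
  obtain ⟨k, hk⟩ := MulAction.exists_smul_eq G P' S
  refine ⟨k * g, ?_⟩
  intro v hv
  have hv' : k⁻¹ * v * k ∈ (P' : Subgroup G) := by
    rw [← hk, Sylow.smul_def, Sylow.pointwise_smul_def, Subgroup.mem_pointwise_smul_iff_inv_smul_mem] at hv
    simpa [MulAut.smul_def] using hv
  have h1 := hP' _ hv'
  calc k * g * s * (k * g)⁻¹ * v * (k * g * s * (k * g)⁻¹)⁻¹
      = k * (x * (k⁻¹ * v * k) * x⁻¹) * k⁻¹ := by rw [hxdef]; group
    _ = k * (k⁻¹ * v * k)⁻¹ * k⁻¹ := by rw [h1]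
    _ = v⁻¹ := by group

omit [Finite G] in
/-- Two involutions whose product has odd order are conjugate. -/
theorem isConj_of_odd_orderOf_mul {a b : G} (ha : a * a = 1) (hb : b * b = 1)
    (hodd : Odd (orderOf (a * b))) : IsConj a b := by
  obtain ⟨m, hm⟩ := hodd
  have hainv : a⁻¹ = a := inv_eq_of_mul_eq_one_left ha
  have hbinv : b⁻¹ = b := inv_eq_of_mul_eq_one_left hb
  obtain ⟨d, hd⟩ : ∃ d, d = a * b := ⟨_, rfl⟩
  rw [← hd] at hm
  have hda : a * d * a⁻¹ = d⁻¹ := by
    rw [hd, mul_inv_rev, hainv, hbinv, ← mul_assoc, ha, one_mul]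
  have hdk : ∀ k : ℕ, a * d ^ k * a⁻¹ = (d ^ k)⁻¹ := by
    intro k
    rw [← conj_pow, hda, inv_pow]
  have hd1 : d ^ (2 * m) * d = 1 := by
    rw [← pow_succ, ← hm, pow_orderOf_eq_one]
  have hd2 : d ^ (2 * m) = d⁻¹ := eq_inv_of_mul_eq_one_left hd1
  rw [isConj_iff]
  refine ⟨d ^ m, ?_⟩
  have h1 : a * (d ^ m)⁻¹ * a⁻¹ = d ^ m := by
    have := congrArg (fun t => t⁻¹) (hdk m)
    simp only [mul_inv_rev, inv_inv] at this
    rw [mul_assoc]
    exact this
  calc d ^ m * a * (d ^ m)⁻¹ = d ^ m * (a * (d ^ m)⁻¹ * a⁻¹) * a := by group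
    _ = d ^ (2 * m) * a := by rw [h1, two_mul, pow_add]
    _ = b := by rw [hd2, hd, mul_inv_rev, inv_mul_cancel_right, hbinv]

end invsylow2

end Cfsg.Agent.Lib.Helper6
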