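/-
Farm RU (S3174), unit H: coordinates `χ_g(x) = [g x g⁻¹ ∉ M]`.
`all_coords` and `relIndex_le_eight`, verbatim from `Lib/Helper3/RuSylStubs.lean`.
-/
import Mathlib
import Cfsg.Agent.Lib.Helper3.RuSylDefs

set_option autoImplicit false

namespace Cfsg.Agent.Lib.Helper6.RuSylH

open Cfsg.Agent.Lib.Helper3.RuSyl

variable {T : Type*} [Group T]

open Classical in
/-- indicator of `x ∉ M`, with values in `ZMod 2` -/
noncomputable def phi (M : Subgroup T) (x : T) : ZMod 2 := if x ∈ M then 0 else 1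

theorem phi_eq_zero {M : Subgroup T} {x : T} : phi M x = 0 ↔ x ∈ M := by
  unfold phi
  split_ifs with h
  · simp [h]
  · simp only [h, iff_false]; decide

theorem phi_eq_one {M : Subgroup T} {x : T} : phi M x = 1 ↔ x ∉ M := by
  unfold phi
  split_ifs with h
  · simp only [h, not_true_eq_false, iff_false]; decide
  · simp [h]

theorem phi_cases (M : Subgroup T) (x : T) : phi M x = 0 ∨ phi M x = 1 := by
  unfold phi
  split_ifs <;> simp

theorem phi_mul {W M : Subgroup T} (hM2 : M.relIndex W = 2) {x y : T} (hx : x ∈ W) (hy : y ∈ W) :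
    phi M (x * y) = phi M x + phi M y := by
  have hidx : (M.subgroupOf W).index = 2 := hM2
  have h := Subgroup.mul_mem_iff_of_index_two hidx (a := (⟨x, hx⟩ : W)) (b := ⟨y, hy⟩)
  simp only [Subgroup.mem_subgroupOf, Subgroup.coe_mul] at h
  by_cases h1 : x ∈ M <;> by_cases h2 : y ∈ M
  · rw [phi_eq_zero.mpr (h.mpr (iff_of_true h1 h2)), phi_eq_zero.mpr h1, phi_eq_zero.mpr h2]
    simp
  · have h3 : x * y ∉ M := fun h' => h2 ((h.mp h').mp h1)
    rw [phi_eq_one.mpr h3, phi_eq_zero.mpr h1, phi_eq_one.mpr h2]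
    simp
  · have h3 : x * y ∉ M := fun h' => h1 ((h.mp h').mpr h2)
    rw [phi_eq_one.mpr h3, phi_eq_one.mpr h1, phi_eq_zero.mpr h2]
    simp
  · rw [phi_eq_zero.mpr (h.mpr (iff_of_false h1 h2)), phi_eq_one.mpr h1, phi_eq_one.mpr h2]
    decide

theorem phi_one (M : Subgroup T) : phi M 1 = 0 := phi_eq_zero.mpr M.one_mem

theorem phi_inv {W M : Subgroup T} (hM2 : M.relIndex W = 2) {x : T} (hx : x ∈ W) :
    phi M x⁻¹ = phi M x := by
  have h := phi_mul hM2 hx (W.inv_mem hx)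
  rw [mul_inv_cancel, phi_one] at h
  rcases phi_cases M x with h1 | h1 <;> rcases phi_cases M x⁻¹ with h2 | h2
  · rw [h1, h2]
  · rw [h1, h2] at h; exact absurd h (by decide)
  · rw [h1, h2] at h; exact absurd h (by decide)
  · rw [h1, h2]

/-- conjugation inside `W` does not change the coordinate -/
theorem phi_conj {W M : Subgroup T} (hM2 : M.relIndex W = 2) {v x : T} (hv : v ∈ W) (hx : x ∈ W) :
    phi M (v * x * v⁻¹) = phi M x := by
  rw [phi_mul hM2 (W.mul_mem hv hx) (W.inv_mem hv), phi_mul hM2 hv hx, phi_inv hM2 hv]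
  rcases phi_cases M v with h1 | h1 <;> rcases phi_cases M x with h2 | h2 <;> rw [h1, h2] <;> decide

/-- the coordinate of a conjugate of `w0` -/
theorem phi_w0 {W M : Subgroup T} (hM2 : M.relIndex W = 2) {w0 : T} (hw0 : w0 ∈ W)
    (hw0M : w0 ∉ M) (hw0c : ∀ g : T, g ∉ W → g * w0 * g⁻¹ ∈ M) (h : T) :
    (h ∈ W → phi M (h * w0 * h⁻¹) = 1) ∧ (h ∉ W → phi M (h * w0 * h⁻¹) = 0) := by
  constructor
  · intro hh
    rw [phi_conj hM2 hh hw0]
    exact phi_eq_one.mpr hw0M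
  · intro hh
    exact phi_eq_zero.mpr (hw0c h hh)

theorem nrm_mem {W : Subgroup T} [W.Normal] (τ : T) {y : T} (hy : y ∈ W) : nrm τ y ∈ W :=
  W.mul_mem hy (Subgroup.Normal.conj_mem inferInstance y hy τ)

theorem conj_nrm (g τ y : T) :
    g * nrm τ y * g⁻¹ = (g * y * g⁻¹) * ((g * τ) * y * (g * τ)⁻¹) := by
  unfold nrm; group

theorem phi_nrm {W M : Subgroup T} [W.Normal] (hM2 : M.relIndex W = 2) (g τ : T) {y : T}
    (hy : y ∈ W) :
    phi M (g * nrm τ y * g⁻¹) = phi M (g * y * g⁻¹) + phi M ((g * τ) * y * (g * τ)⁻¹) := by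
  rw [conj_nrm]
  exact phi_mul hM2 (Subgroup.Normal.conj_mem inferInstance y hy g)
    (Subgroup.Normal.conj_mem inferInstance y hy (g * τ))

theorem words_bijective [Finite T] (W : Subgroup T) [W.Normal] (h8 : W.index = 8) (s' t s : T)
    (hdist : Function.Injective (fun i : Fin 8 => ((words s' t s i : T) : T ⧸ W))) :
    Function.Bijective (fun i : Fin 8 => ((words s' t s i : T) : T ⧸ W)) := by
  apply hdist.bijective_of_nat_card_le
  have h : Nat.card (T ⧸ W) = 8 := h8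
  rw [h, Nat.card_eq_fintype_card, Fintype.card_fin]

/-- exactly one of the eight `g * words i` lies in `W` -/
theorem exists_unique_word [Finite T] (W : Subgroup T) [W.Normal] (h8 : W.index = 8) (s' t s : T)
    (hdist : Function.Injective (fun i : Fin 8 => ((words s' t s i : T) : T ⧸ W))) (g : T) :
    ∃ i₀ : Fin 8, g * words s' t s i₀ ∈ W ∧ ∀ i : Fin 8, i ≠ i₀ → g * words s' t s i ∉ W := by
  obtain ⟨i₀, hi₀⟩ := (words_bijective W h8 s' t s hdist).2 ((g⁻¹ : T) : T ⧸ W)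
  have h1 : (g⁻¹)⁻¹ * words s' t s i₀ ∈ W := QuotientGroup.eq.mp hi₀.symm
  rw [inv_inv] at h1
  refine ⟨i₀, h1, fun i hi hmem => hi ?_⟩
  apply hdist
  show ((words s' t s i : T) : T ⧸ W) = ((words s' t s i₀ : T) : T ⧸ W)
  rw [QuotientGroup.eq]
  have h2 : (words s' t s i)⁻¹ * words s' t s i₀ = (g * words s' t s i)⁻¹ * (g * words s' t s i₀) := by
    group
  rw [h2]
  exact W.mul_mem (W.inv_mem hmem) h1

theorem all_coords [Finite T] (W M : Subgroup T) [W.Normal] (hMW : M ≤ W) (hM2 : M.relIndex W = 2)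
    (h8 : W.index = 8) (w0 s' t s : T) (hw0 : w0 ∈ W) (hw0M : w0 ∉ M)
    (hw0c : ∀ g : T, g ∉ W → g * w0 * g⁻¹ ∈ M)
    (hdist : Function.Injective (fun i : Fin 8 => ((words s' t s i : T) : T ⧸ W))) :
    ∀ g : T, g * nrm s (nrm t (nrm s' w0)) * g⁻¹ ∉ M := by
  intro g
  rw [← phi_eq_one]
  have h1 := nrm_mem (W := W) s' hw0
  have h2 := nrm_mem (W := W) t h1
  -- expand into the eight coordinates
  have hexp : phi M (g * nrm s (nrm t (nrm s' w0)) * g⁻¹) =
      ∑ i : Fin 8, phi M ((g * words s' t s i) * w0 * (g * words s' t s i)⁻¹) := by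
    rw [phi_nrm hM2 g s h2, phi_nrm hM2 g t h1, phi_nrm hM2 (g * s) t h1,
      phi_nrm hM2 g s' hw0, phi_nrm hM2 (g * t) s' hw0, phi_nrm hM2 (g * s) s' hw0,
      phi_nrm hM2 (g * s * t) s' hw0, Fin.sum_univ_eight]
    simp only [words, Matrix.cons_val_zero, Matrix.cons_val_one, Matrix.cons_val]
    simp only [mul_one, mul_assoc]
    ring
  rw [hexp]
  obtain ⟨i₀, hi₀, hne⟩ := exists_unique_word W h8 s' t s hdist g
  rw [Finset.sum_eq_single i₀]
  · exact (phi_w0 hM2 hw0 hw0M hw0c _).1 hi₀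
  · intro i _ hi
    exact (phi_w0 hM2 hw0 hw0M hw0c _).2 (hne i hi)
  · intro h; exact absurd (Finset.mem_univ _) h

/-- in a group of exponent dividing 2 generated by three elements there are at most 8 elements -/
theorem card_le_eight_of_sq {Q : Type*} [Group Q] [Finite Q] (hsq : ∀ q : Q, q ^ 2 = 1)
    (β1 β2 β3 : Q) (hgen : Subgroup.closure ({β1, β2, β3} : Set Q) = ⊤) : Nat.card Q ≤ 8 := by
  classical
  have hinv : ∀ a : Q, a⁻¹ = a := fun a => inv_eq_of_mul_eq_one_left (by rw [← pow_two]; exact hsq a)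
  letI : CommGroup Q :=
    { (inferInstance : Group Q) with
      mul_comm := fun a b => by
        calc a * b = (a * b)⁻¹ := (hinv _).symm
          _ = b⁻¹ * a⁻¹ := mul_inv_rev a b
          _ = b * a := by rw [hinv a, hinv b] }
  have h1 : Nat.card Q ∣ 2 ^ Group.rank Q := card_dvd_exponent_pow_rank' Q hsq
  have hS : Subgroup.closure (({β1, β2, β3} : Finset Q) : Set Q) = ⊤ := by
    rw [← hgen]; congr 1; ext x; simp
  have h2 : Group.rank Q ≤ 3 := (Group.rank_le hS).trans Finset.card_le_three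
  exact Nat.le_of_dvd (by norm_num) (h1.trans (pow_dvd_pow 2 h2))

theorem relIndex_le_eight [Finite T] (W M Z : Subgroup T) [W.Normal] (hZW : Z ≤ W) (hMW : M ≤ W)
    (hM2 : M.relIndex W = 2) (h8 : W.index = 8)
    (hcore : ∀ x ∈ W, (∀ g : T, g * x * g⁻¹ ∈ M) → x ∈ Z)
    (hcomm : ∀ x ∈ W, ∀ y ∈ W, x * y * x⁻¹ * y⁻¹ ∈ Z) (hsq : ∀ x ∈ W, x ^ 2 ∈ Z)
    (w0 s' t s : T) (hw0 : w0 ∈ W) (hw0M : w0 ∉ M) (hw0c : ∀ g : T, g ∉ W → g * w0 * g⁻¹ ∈ M)
    (hdist : Function.Injective (fun i : Fin 8 => ((words s' t s i : T) : T ⧸ W)))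
    (X : Subgroup T) (hZX : Z ≤ X) (hXW : X ≤ W) (hN : ∀ y ∈ W, nrm s y ∈ X)
    (hn : nrm t (nrm s' w0) ∈ X) : X.relIndex W ≤ 8 := by
  classical
  have hconjW : ∀ (g : T) {x : T}, x ∈ W → g * x * g⁻¹ ∈ W :=
    fun g x hx => Subgroup.Normal.conj_mem inferInstance x hx g
  -- `X ∩ W` is normal in `W`
  haveI hXn : (X.subgroupOf W).Normal := by
    constructor
    intro x hx w
    rw [Subgroup.mem_subgroupOf] at hx ⊢
    have h : ((w * x * w⁻¹ : W) : T) = ((w : T) * x * (w : T)⁻¹ * (x : T)⁻¹) * x := by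
      simp only [Subgroup.coe_mul, Subgroup.coe_inv]; group
    rw [h]
    exact X.mul_mem (hZX (hcomm _ w.2 _ x.2)) hx
  have hQsq : ∀ q : ↥W ⧸ X.subgroupOf W, q ^ 2 = 1 := by
    intro q
    induction q using QuotientGroup.induction_on with
    | H w =>
      rw [← QuotientGroup.mk_pow, QuotientGroup.eq_one_iff, Subgroup.mem_subgroupOf]
      simp only [Subgroup.coe_pow]
      exact hZX (hsq _ w.2)
  -- the eight conjugates of `w0`
  have hbW : ∀ i : Fin 8, words s' t s i * w0 * (words s' t s i)⁻¹ ∈ W := fun i => hconjW _ hw0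
  -- the three generators
  set β1 : ↥W ⧸ X.subgroupOf W := QuotientGroup.mk ⟨_, hbW 1⟩ with hβ1
  set β2 : ↥W ⧸ X.subgroupOf W := QuotientGroup.mk ⟨_, hbW 2⟩ with hβ2
  set β3 : ↥W ⧸ X.subgroupOf W := QuotientGroup.mk ⟨_, hbW 3⟩ with hβ3
  -- it is enough that the three generators generate
  have hidx : X.relIndex W = Nat.card (↥W ⧸ X.subgroupOf W) := rfl
  rw [hidx]
  apply card_le_eight_of_sq hQsq β1 β2 β3
  rw [eq_top_iff]
  -- the preimage of the closure, as a predicate on `T`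
  set Y' : Subgroup (↥W ⧸ X.subgroupOf W) := Subgroup.closure ({β1, β2, β3} : Set _) with hY'
  have hβ1Y : β1 ∈ Y' := Subgroup.subset_closure (by simp)
  have hβ2Y : β2 ∈ Y' := Subgroup.subset_closure (by simp)
  have hβ3Y : β3 ∈ Y' := Subgroup.subset_closure (by simp)
  let A3 : Subgroup T := (Y'.comap (QuotientGroup.mk' (X.subgroupOf W))).map W.subtype
  have memA3 : ∀ (x : T) (hx : x ∈ W),
      x ∈ A3 ↔ (QuotientGroup.mk (⟨x, hx⟩ : ↥W) : ↥W ⧸ X.subgroupOf W) ∈ Y' := by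
    intro x hx
    constructor
    · rintro ⟨y, hy, rfl⟩
      exact hy
    · intro h
      exact ⟨⟨x, hx⟩, h, rfl⟩
  have hA3W : A3 ≤ W := by
    rintro x ⟨y, -, rfl⟩
    exact y.2
  have hXA3 : X ≤ A3 := by
    intro x hx
    rw [memA3 x (hXW hx)]
    have h1 : (QuotientGroup.mk (⟨x, hXW hx⟩ : ↥W) : ↥W ⧸ X.subgroupOf W) = 1 := by
      rw [QuotientGroup.eq_one_iff, Subgroup.mem_subgroupOf]; exact hx
    rw [h1]; exact Y'.one_mem
  -- `s`-conjugation preserves `A3`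
  have hsA3 : ∀ y ∈ A3, s * y * s⁻¹ ∈ A3 := by
    intro y hy
    have h : s * y * s⁻¹ = y⁻¹ * nrm s y := by unfold nrm; group
    rw [h]
    exact A3.mul_mem (A3.inv_mem hy) (hXA3 (hN y (hA3W hy)))
  have hb1 : words s' t s 1 * w0 * (words s' t s 1)⁻¹ ∈ A3 := (memA3 _ (hbW 1)).mpr hβ1Y
  have hb2 : words s' t s 2 * w0 * (words s' t s 2)⁻¹ ∈ A3 := (memA3 _ (hbW 2)).mpr hβ2Y
  have hb3 : words s' t s 3 * w0 * (words s' t s 3)⁻¹ ∈ A3 := (memA3 _ (hbW 3)).mpr hβ3Y
  have hw1 : words s' t s 1 = s' := rfl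
  have hw2 : words s' t s 2 = t := rfl
  have hw3 : words s' t s 3 = t * s' := rfl
  rw [hw1] at hb1
  rw [hw2] at hb2
  rw [hw3] at hb3
  have hb0 : w0 ∈ A3 := by
    have h : w0 = nrm t (nrm s' w0) * ((t * w0 * t⁻¹) * ((t * s') * w0 * (t * s')⁻¹))⁻¹ *
        (s' * w0 * s'⁻¹)⁻¹ := by
      unfold nrm; group
    rw [h]
    exact A3.mul_mem (A3.mul_mem (hXA3 hn) (A3.inv_mem (A3.mul_mem hb2 hb3))) (A3.inv_mem hb1)
  have hb : ∀ i : Fin 8, words s' t s i * w0 * (words s' t s i)⁻¹ ∈ A3 := by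
    intro i
    fin_cases i
    · show (1 : T) * w0 * (1 : T)⁻¹ ∈ A3
      simpa using hb0
    · exact hb1
    · exact hb2
    · exact hb3
    · show s * w0 * s⁻¹ ∈ A3
      exact hsA3 _ hb0
    · show (s * s') * w0 * (s * s')⁻¹ ∈ A3
      have h : (s * s') * w0 * (s * s')⁻¹ = s * (s' * w0 * s'⁻¹) * s⁻¹ := by group
      rw [h]; exact hsA3 _ hb1
    · show (s * t) * w0 * (s * t)⁻¹ ∈ A3
      have h : (s * t) * w0 * (s * t)⁻¹ = s * (t * w0 * t⁻¹) * s⁻¹ := by group
      rw [h]; exact hsA3 _ hb2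
    · show (s * t * s') * w0 * (s * t * s')⁻¹ ∈ A3
      have h : (s * t * s') * w0 * (s * t * s')⁻¹ = s * ((t * s') * w0 * (t * s')⁻¹) * s⁻¹ := by
        group
      rw [h]; exact hsA3 _ hb3
  -- coordinates
  have hbij := words_bijective W h8 s' t s hdist
  have hχmul : ∀ (j : Fin 8) {x y : T}, x ∈ W → y ∈ W →
      phi M ((words s' t s j)⁻¹ * (x * y) * ((words s' t s j)⁻¹)⁻¹) =
        phi M ((words s' t s j)⁻¹ * x * ((words s' t s j)⁻¹)⁻¹) +
          phi M ((words s' t s j)⁻¹ * y * ((words s' t s j)⁻¹)⁻¹) := by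
    intro j x y hx hy
    have h : (words s' t s j)⁻¹ * (x * y) * ((words s' t s j)⁻¹)⁻¹ =
        ((words s' t s j)⁻¹ * x * ((words s' t s j)⁻¹)⁻¹) *
          ((words s' t s j)⁻¹ * y * ((words s' t s j)⁻¹)⁻¹) := by group
    rw [h]
    exact phi_mul hM2 (hconjW _ hx) (hconjW _ hy)
  have hχb : ∀ i j : Fin 8,
      phi M ((words s' t s j)⁻¹ * (words s' t s i * w0 * (words s' t s i)⁻¹) *
        ((words s' t s j)⁻¹)⁻¹) = if i = j then 1 else 0 := by
    intro i j
    have h : (words s' t s j)⁻¹ * (words s' t s i * w0 * (words s' t s i)⁻¹) *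
        ((words s' t s j)⁻¹)⁻¹ =
        ((words s' t s j)⁻¹ * words s' t s i) * w0 * ((words s' t s j)⁻¹ * words s' t s i)⁻¹ := by
      group
    rw [h]
    by_cases hij : i = j
    · subst hij
      rw [if_pos rfl]
      apply (phi_w0 hM2 hw0 hw0M hw0c _).1
      rw [inv_mul_cancel]; exact W.one_mem
    · rw [if_neg hij]
      apply (phi_w0 hM2 hw0 hw0M hw0c _).2
      intro hmem
      apply hij
      apply hdist
      show ((words s' t s i : T) : T ⧸ W) = ((words s' t s j : T) : T ⧸ W)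
      exact (QuotientGroup.eq.mpr hmem).symm
  have hzero : ∀ x ∈ W, (∀ j : Fin 8,
      phi M ((words s' t s j)⁻¹ * x * ((words s' t s j)⁻¹)⁻¹) = 0) → x ∈ Z := by
    intro x hx hall
    apply hcore x hx
    intro g
    obtain ⟨j, hj⟩ := hbij.2 ((g⁻¹ : T) : T ⧸ W)
    have hv : (words s' t s j)⁻¹ * g⁻¹ ∈ W := QuotientGroup.eq.mp hj
    have h : g * x * g⁻¹ = ((words s' t s j)⁻¹ * g⁻¹)⁻¹ *
        ((words s' t s j)⁻¹ * x * ((words s' t s j)⁻¹)⁻¹) *
          (((words s' t s j)⁻¹ * g⁻¹)⁻¹)⁻¹ := by group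
    rw [h, ← phi_eq_zero, phi_conj hM2 (W.inv_mem hv) (hconjW _ hx)]
    exact hall j
  -- kill the coordinates one at a time
  have hclaim : ∀ n : ℕ, n ≤ 8 → ∀ w ∈ W, (∀ j : Fin 8, n ≤ j.val →
      phi M ((words s' t s j)⁻¹ * w * ((words s' t s j)⁻¹)⁻¹) = 0) → w ∈ A3 := by
    intro n
    induction n with
    | zero =>
      intro _ w hw hall
      exact hXA3 (hZX (hzero w hw (fun j => hall j (Nat.zero_le _))))
    | succ n ih =>
      intro hn8 w hw hall
      have hn8' : n < 8 := hn8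
      rcases phi_cases M ((words s' t s ⟨n, hn8'⟩)⁻¹ * w * ((words s' t s ⟨n, hn8'⟩)⁻¹)⁻¹) with h0 | h1
      · apply ih (Nat.le_of_lt hn8') w hw
        intro j hj
        rcases Nat.eq_or_lt_of_le hj with hjn | hjn
        · have : j = ⟨n, hn8'⟩ := Fin.ext hjn.symm
          rw [this]; exact h0
        · exact hall j hjn
      · have hw' : w * (words s' t s ⟨n, hn8'⟩ * w0 * (words s' t s ⟨n, hn8'⟩)⁻¹) ∈ W :=
          W.mul_mem hw (hbW _)
        have hmem := ih (Nat.le_of_lt hn8') _ hw' (by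
          intro j hj
          rw [hχmul j hw (hbW _), hχb]
          rcases Nat.eq_or_lt_of_le hj with hjn | hjn
          · have hjeq : j = ⟨n, hn8'⟩ := Fin.ext hjn.symm
            rw [hjeq, h1, if_pos rfl]; decide
          · have hne : (⟨n, hn8'⟩ : Fin 8) ≠ j := by
              intro h; rw [← h] at hjn; exact absurd hjn (lt_irrefl _)
            rw [hall j hjn, if_neg hne]; decide)
        have h : w = (w * (words s' t s ⟨n, hn8'⟩ * w0 * (words s' t s ⟨n, hn8'⟩)⁻¹)) *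
            (words s' t s ⟨n, hn8'⟩ * w0 * (words s' t s ⟨n, hn8'⟩)⁻¹)⁻¹ := by group
        rw [h]
        exact A3.mul_mem hmem (A3.inv_mem (hb _))
  intro q _
  induction q using QuotientGroup.induction_on with
  | H w =>
    have hwA : (w : T) ∈ A3 := hclaim 8 le_rfl _ w.2 (fun j hj => absurd j.2 (not_lt.mpr hj))
    exact (memA3 _ w.2).mp hwA

end Cfsg.Agent.Lib.Helper6.RuSylH
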