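import Mathlib
import Cfsg.Agent.Lib.Helper3.SpMinDefs
import Cfsg.Agent.Lib.Helper4.SpMinT
import Cfsg.Agent.Lib.Helper4.SpMinB0
set_option autoImplicit false
set_option maxHeartbeats 4000000
set_option linter.unusedVariables false
set_option linter.unusedSectionVars false
set_option linter.style.longLine false
open Matrix Cfsg

/-! # S2142 farm, unit B3: the elements `qel u c` of the unipotent radical of the stabilizer of `e0` -/

namespace Cfsg.Agent.Lib.Helper6.SpMin

open Cfsg.Agent.Lib.Helper5 Cfsg.Agent.Lib.Helper5.SympTv Cfsg.Agent.Lib.Helper3.SpMin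
  Cfsg.Agent.Lib.Helper4.SpMin

variable {F : Type*} [Field F] [Fintype F]

theorem h6_ext {m : ℕ} (g h : symplecticGroup (Fin m) F)
    (e : ∀ x : Fin m ⊕ Fin m → F, g.1 *ᵥ x = h.1 *ᵥ x) : g = h := by
  apply Subtype.ext
  rw [ext_iff_mulVec]
  exact e

theorem h6_mul_mulVec {m : ℕ} (g h : symplecticGroup (Fin m) F) (x : Fin m ⊕ Fin m → F) :
    (g * h).1 *ᵥ x = g.1 *ᵥ (h.1 *ᵥ x) := by
  show (g.1 * h.1) *ᵥ x = _
  rw [mulVec_mulVec]

theorem h6_e0_emb (l : ℕ) (u : Fin l ⊕ Fin l → F) :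
    sympForm (1 + l) F (SympCard.e0 F l) (emb l u) = 0 := by
  rw [sympForm_swap, sympForm_emb_e0, neg_zero]

theorem h6_sympForm_zero_right {m : ℕ} (x : Fin m ⊕ Fin m → F) : sympForm m F x 0 = 0 := by
  have h := sympForm_smul_right (m := m) (0 : F) x 0
  rw [zero_smul, zero_mul] at h
  exact h

/-- the action of `qel u c` on vectors -/
theorem h6_qel_mulVec (hF : Fintype.card F = 2) (l : ℕ) (u : Fin l ⊕ Fin l → F) (c : F)
    (x : Fin (1 + l) ⊕ Fin (1 + l) → F) :
    (qel l u c).1 *ᵥ x = x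
      + (sympForm (1 + l) F x (emb l u) + c * sympForm (1 + l) F x (SympCard.e0 F l))
          • SympCard.e0 F l
      + sympForm (1 + l) F x (SympCard.e0 F l) • emb l u := by
  classical
  unfold qel
  rw [h6_mul_mulVec]
  rcases eq_zero_or_one hF c with hc | hc
  · subst hc
    rw [if_pos rfl]
    show (z (1 + l) (SympCard.e0 F l) (emb l u)).1 *ᵥ ((1 : Matrix _ _ F) *ᵥ x) = _
    rw [one_mulVec, z_mulVec hF _ _ _ _ (sympForm_emb_e0 l u), zero_mul, add_zero]
  · subst hc
    rw [if_neg one_ne_zero, t_mulVec, z_mulVec hF _ _ _ _ (sympForm_emb_e0 l u)]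
    simp only [sympForm_add_left, sympForm_smul_left, sympForm_self, h6_e0_emb, mul_zero,
      add_zero, one_mul, add_smul]
    abel

/-- B3a -/
theorem qel_mul (hF : Fintype.card F = 2) (l : ℕ) (u u' : Fin l ⊕ Fin l → F) (c c' : F) :
    qel l u c * qel l u' c' = qel l (u + u') (c + c' + sympForm l F u u') := by
  apply h6_ext
  intro x
  rw [h6_mul_mulVec, h6_qel_mulVec hF, h6_qel_mulVec hF, h6_qel_mulVec hF]
  simp only [sympForm_add_left, sympForm_add_right, sympForm_smul_left, sympForm_self,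
    h6_e0_emb, sympForm_emb_e0, sympForm_emb_emb, emb_add, mul_zero, add_zero, zero_add]
  have h2 : sympForm l F u' u = sympForm l F u u' := by
    rw [sympForm_swap, neg_eq' hF]
  rw [h2]
  module

/-- B3b -/
theorem qel_injective (hF : Fintype.card F = 2) (l : ℕ) (u u' : Fin l ⊕ Fin l → F) (c c' : F)
    (h : qel l u c = qel l u' c') : u = u' ∧ c = c' := by
  have e := congrArg (fun g : symplecticGroup (Fin (1 + l)) F => g.1 *ᵥ SympCard.f0 F l) h
  rw [h6_qel_mulVec hF, h6_qel_mulVec hF] at e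
  have hf : ∀ v : Fin l ⊕ Fin l → F, sympForm (1 + l) F (SympCard.f0 F l) (emb l v) = 0 := by
    intro v
    rw [sympForm_swap, sympForm_emb_f0, neg_zero]
  rw [hf, hf, SympCard.sympForm_f0_e0, zero_add, zero_add, mul_one, mul_one, one_smul, one_smul,
    add_assoc, add_assoc] at e
  have e2 := add_left_cancel e
  rw [add_comm (c • _), add_comm (c' • _)] at e2
  exact emb_add_smul_inj l u u' c c' e2

/-- B3c -/
theorem qel_mem_Ge (hF : Fintype.card F = 2) (l : ℕ) (u : Fin l ⊕ Fin l → F) (c : F) :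
    qel l u c ∈ Ge F l := by
  rw [mem_Ge, h6_qel_mulVec hF, h6_e0_emb, sympForm_self, mul_zero, add_zero, zero_smul, zero_smul,
    add_zero, add_zero]

/-- B3d -/
theorem qel_mulVec_emb (hF : Fintype.card F = 2) (l : ℕ) (u u' : Fin l ⊕ Fin l → F) (c : F) :
    ∃ a : F, (qel l u c).1 *ᵥ emb l u' = emb l u' + a • SympCard.e0 F l := by
  refine ⟨sympForm l F u' u, ?_⟩
  rw [h6_qel_mulVec hF, sympForm_emb_e0, sympForm_emb_emb, mul_zero, add_zero, zero_smul, add_zero]

/-- B3e -/
theorem qel_conj (hF : Fintype.card F = 2) (l : ℕ) (g : symplecticGroup (Fin (1 + l)) F)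
    (hg : g ∈ Ge F l) (u u'' : Fin l ⊕ Fin l → F) (a : F)
    (h : g.1 *ᵥ emb l u = emb l u'' + a • SympCard.e0 F l) (c : F) :
    g * qel l u c * g⁻¹ = qel l u'' c := by
  rw [mem_Ge] at hg
  apply h6_ext
  intro x
  rw [h6_mul_mulVec, h6_mul_mulVec, h6_qel_mulVec hF, h6_qel_mulVec hF]
  set y := (g⁻¹).1 *ᵥ x with hy
  have hx : g.1 *ᵥ y = x := mulVec_inv_mulVec g x
  have h1 : sympForm (1 + l) F y (SympCard.e0 F l) = sympForm (1 + l) F x (SympCard.e0 F l) := by
    rw [← sympForm_mulVec (1 + l) g.2 y (SympCard.e0 F l), hx, hg]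
  have h2 : sympForm (1 + l) F y (emb l u)
      = sympForm (1 + l) F x (emb l u'') + a * sympForm (1 + l) F x (SympCard.e0 F l) := by
    rw [← sympForm_mulVec (1 + l) g.2 y (emb l u), hx, h, sympForm_add_right, sympForm_smul_right]
  rw [h1, h2, mulVec_add, mulVec_add, mulVec_smul, mulVec_smul, hx, hg, h]
  have h3 : ∀ w : Fin (1 + l) ⊕ Fin (1 + l) → F, w + w = 0 := by
    intro w
    rw [← two_smul F w, two_eq_zero hF, zero_smul]
  have key : x + (sympForm (1 + l) F x (emb l u'') + a * sympForm (1 + l) F x (SympCard.e0 F l)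
        + c * sympForm (1 + l) F x (SympCard.e0 F l)) • SympCard.e0 F l
      + sympForm (1 + l) F x (SympCard.e0 F l) • (emb l u'' + a • SympCard.e0 F l)
      = x + (sympForm (1 + l) F x (emb l u'') + c * sympForm (1 + l) F x (SympCard.e0 F l))
          • SympCard.e0 F l
        + sympForm (1 + l) F x (SympCard.e0 F l) • emb l u''
        + ((sympForm (1 + l) F x (SympCard.e0 F l) * a) • SympCard.e0 F l
          + (sympForm (1 + l) F x (SympCard.e0 F l) * a) • SympCard.e0 F l) := by module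
  rw [key, h3, add_zero]

/-- B3f (needs `hF`: in odd characteristic `t_{e0}^2 ≠ 1`) -/
theorem qel_zero_zero (hF : Fintype.card F = 2) (l : ℕ) :
    qel l (0 : Fin l ⊕ Fin l → F) 0 = 1 := by
  apply h6_ext
  intro x
  rw [h6_qel_mulVec hF, emb_zero, h6_sympForm_zero_right, zero_mul, add_zero, zero_smul, smul_zero,
    add_zero, add_zero]
  show x = (1 : Matrix _ _ F) *ᵥ x
  rw [one_mulVec]

/-- B3g -/
theorem qel_zero_one (hF : Fintype.card F = 2) (l : ℕ) :
    qel l (0 : Fin l ⊕ Fin l → F) 1 = t (1 + l) (SympCard.e0 F l) := by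
  apply h6_ext
  intro x
  rw [h6_qel_mulVec hF, t_mulVec, emb_zero, h6_sympForm_zero_right, zero_add, one_mul, smul_zero,
    add_zero]

/-- B3h -/
theorem qel_one_eq (hF : Fintype.card F = 2) (l : ℕ) (u : Fin l ⊕ Fin l → F) :
    qel l u 1 = t (1 + l) (emb l u) * t (1 + l) (emb l u + SympCard.e0 F l) := by
  apply h6_ext
  intro x
  rw [h6_qel_mulVec hF, h6_mul_mulVec, t_mulVec, t_mulVec]
  simp only [sympForm_add_left, sympForm_add_right, sympForm_smul_left, sympForm_self,
    h6_e0_emb, mul_zero, add_zero, one_mul]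
  have h3 : ∀ w : Fin (1 + l) ⊕ Fin (1 + l) → F, w + w = 0 := by
    intro w
    rw [← two_smul F w, two_eq_zero hF, zero_smul]
  have key : x + (sympForm (1 + l) F x (emb l u) + sympForm (1 + l) F x (SympCard.e0 F l))
        • (emb l u + SympCard.e0 F l) + sympForm (1 + l) F x (emb l u) • emb l u
      = x + (sympForm (1 + l) F x (emb l u) + sympForm (1 + l) F x (SympCard.e0 F l))
          • SympCard.e0 F l + sympForm (1 + l) F x (SympCard.e0 F l) • emb l u
        + (sympForm (1 + l) F x (emb l u) • emb l u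
          + sympForm (1 + l) F x (emb l u) • emb l u) := by module
  rw [key, h3, add_zero]

end Cfsg.Agent.Lib.Helper6.SpMin
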