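import Mathlib
import Cfsg.Agent.Lib.Helper3.TDMDefs
import Cfsg.Agent.Lib.Helper3.TDMQL
import Cfsg.Agent.Lib.Helper1.TDMMULT
import Cfsg.Agent.Lib.Helper4.TDMORTH

/-! Farm TDM (S2342), unit C1: the multiplicities `cM` of the linear characters of `Q` are natural
numbers, and Fourier inversion on `Q/Z`. -/

set_option autoImplicit false
set_option linter.unusedSectionVars false
set_option linter.unusedVariables false

namespace Cfsg.Agent.Lib.Helper6.TDM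

open Cfsg.Agent.Lib.Helper3.TDM

section main

variable {K : Type*} [Field K] [Fintype K] [DecidableEq K] {Fr : Frob3 K} [Fintype ↥(Fx Fr.φ)]
  {G : Type*} [Group G] (D : Data Fr G) (hD : Rel D) (hG : Fr.Good)
  (ψ : AddChar ↥(Fx Fr.φ) ℂ) (hψ : ψ ≠ 1)

/-- the linear character `m = (a,b,c,d)` of `Q/Z` at the point `x = (s,u,v,w)` -/
noncomputable def EE (Fr : Frob3 K) (ψ : AddChar ↥(Fx Fr.φ) ℂ)
    (m x : ↥(Fx Fr.φ) × K × K × ↥(Fx Fr.φ)) : ℂ :=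
  ψ (m.1 * x.1) * ψ (Fr.tr3 (m.2.1 * x.2.1)) * ψ (Fr.tr3 (m.2.2.1 * x.2.2.1)) *
    ψ (m.2.2.2 * x.2.2.2)

theorem EE_add (m x y : ↥(Fx Fr.φ) × K × K × ↥(Fx Fr.φ)) :
    EE Fr ψ m (x + y) = EE Fr ψ m x * EE Fr ψ m y := by
  unfold EE
  simp only [Prod.fst_add, Prod.snd_add, mul_add, Cfsg.Agent.Lib.Helper4.TDM.tr3_add,
    AddChar.map_add_eq_mul]
  ring

theorem EE_zero (m : ↥(Fx Fr.φ) × K × K × ↥(Fx Fr.φ)) : EE Fr ψ m 0 = 1 := by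
  unfold EE
  simp only [Prod.fst_zero, Prod.snd_zero, mul_zero, Cfsg.Agent.Lib.Helper4.TDM.tr3_zero,
    AddChar.map_zero_eq_one, mul_one]

include hG hψ in
theorem EE_orth (y : ↥(Fx Fr.φ) × K × K × ↥(Fx Fr.φ)) :
    ∑ m : ↥(Fx Fr.φ) × K × K × ↥(Fx Fr.φ), EE Fr ψ m y =
      if y = 0 then ((Fintype.card ↥(Fx Fr.φ) : ℂ) * Fintype.card K * Fintype.card K *
        Fintype.card ↥(Fx Fr.φ)) else 0 := by
  obtain ⟨y1, y2, y3, y4⟩ := y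
  have h1 : ∑ a : ↥(Fx Fr.φ), ψ (a * y1) =
      if y1 = 0 then (Fintype.card ↥(Fx Fr.φ) : ℂ) else 0 :=
    (Finset.sum_congr rfl (fun a _ => by rw [mul_comm])).trans
      (Cfsg.Agent.Lib.Helper4.TDM.sum_psi Fr ψ hψ y1)
  have h4 : ∑ a : ↥(Fx Fr.φ), ψ (a * y4) =
      if y4 = 0 then (Fintype.card ↥(Fx Fr.φ) : ℂ) else 0 :=
    (Finset.sum_congr rfl (fun a _ => by rw [mul_comm])).trans
      (Cfsg.Agent.Lib.Helper4.TDM.sum_psi Fr ψ hψ y4)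
  have h2 := Cfsg.Agent.Lib.Helper4.TDM.sum_psi_tr3 Fr hG ψ hψ y2
  have h3 := Cfsg.Agent.Lib.Helper4.TDM.sum_psi_tr3 Fr hG ψ hψ y3
  have hfac : ∑ m : ↥(Fx Fr.φ) × K × K × ↥(Fx Fr.φ), EE Fr ψ m (y1, y2, y3, y4) =
      (∑ a : ↥(Fx Fr.φ), ψ (a * y1)) * (∑ n : K, ψ (Fr.tr3 (n * y2))) *
        (∑ n : K, ψ (Fr.tr3 (n * y3))) * (∑ a : ↥(Fx Fr.φ), ψ (a * y4)) := by
    simp only [Fintype.sum_prod_type, EE]
    simp only [← Finset.mul_sum, ← Finset.sum_mul]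
  rw [hfac, h1, h2, h3, h4]
  by_cases e1 : y1 = 0
  · by_cases e2 : y2 = 0
    · by_cases e3 : y3 = 0
      · by_cases e4 : y4 = 0
        · simp [e1, e2, e3, e4]
        · simp [e1, e2, e3, e4]
      · simp [e1, e2, e3]
    · simp [e1, e2]
  · simp [e1]

theorem cM_eq_EE (χ : G → ℂ) (m : ↥(Fx Fr.φ) × K × K × ↥(Fx Fr.φ)) :
    cM D ψ χ m.1 m.2.1 m.2.2.1 m.2.2.2 =
      ((Fintype.card ↥(Fx Fr.φ) : ℂ) * (Fintype.card ↥(Fx Fr.φ) * Fintype.card K *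
        Fintype.card K * Fintype.card ↥(Fx Fr.φ)))⁻¹ *
      ∑ r : ↥(Fx Fr.φ), ∑ x : ↥(Fx Fr.φ) × K × K × ↥(Fx Fr.φ),
        EE Fr ψ m (-x) * χ (Phi D r x.1 x.2.1 x.2.2.1 x.2.2.2) := by
  unfold cM EE
  simp only [Fintype.sum_prod_type, Prod.fst_neg, Prod.snd_neg, mul_neg,
    Cfsg.Agent.Lib.Helper4.TDM.tr3_neg]

/-! ## unit C1 -/

include hD in
theorem cM_nat {V : Type*} [AddCommGroup V] [Module ℂ V] [FiniteDimensional ℂ V]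
    (ρ : Representation ℂ G V) (a : ↥(Fx Fr.φ)) (b c : K) (d : ↥(Fx Fr.φ)) :
    ∃ n : ℕ, cM D ψ ρ.character a b c d = n := by
  obtain ⟨n, hn⟩ := Cfsg.Agent.Lib.Helper1.TDM.mult_nat ρ
    (R := ↥(Fx Fr.φ)) (M := ↥(Fx Fr.φ) × K × K × ↥(Fx Fr.φ))
    (fun r x => Phi D r x.1 x.2.1 x.2.2.1 x.2.2.2)
    (fun x x' => -(x'.1 * x.2.2.2) - Fr.tr3 (x'.2.1 * Fr.φ x.2.2.1))
    (by
      intro r x r' x'
      show Phi D r x.1 x.2.1 x.2.2.1 x.2.2.2 * Phi D r' x'.1 x'.2.1 x'.2.2.1 x'.2.2.2 = _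
      rw [hD.qlaw]
      simp only [Prod.fst_add, Prod.snd_add]
      congr 1
      ring)
    (fun _ => 1) (fun x => EE Fr ψ (a, b, c, d) x)
    (fun _ _ => (one_mul 1).symm) (fun x x' => EE_add ψ _ x x') rfl (EE_zero ψ _)
    (fun _ _ => rfl)
  refine ⟨n, ?_⟩
  rw [← hn]
  have h := cM_eq_EE D ψ ρ.character (a, b, c, d)
  simp only at h
  rw [h]
  simp only [one_mul, Fintype.card_prod, Nat.cast_mul]
  congr 1
  ring

include hG hψ in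
theorem cM_inversion (χ : G → ℂ) (s : ↥(Fx Fr.φ)) (u v : K) (w : ↥(Fx Fr.φ)) :
    (Fintype.card ↥(Fx Fr.φ) : ℂ)⁻¹ * ∑ r : ↥(Fx Fr.φ), χ (Phi D r s u v w) =
      ∑ a : ↥(Fx Fr.φ), ∑ b : K, ∑ c : K, ∑ d : ↥(Fx Fr.φ),
        cM D ψ χ a b c d * (ψ (a * s) * ψ (Fr.tr3 (b * u)) * ψ (Fr.tr3 (c * v)) * ψ (d * w)) := by
  classical
  have hq0 : (Fintype.card ↥(Fx Fr.φ) : ℂ) ≠ 0 := by
    exact_mod_cast Fintype.card_ne_zero
  have hK0 : (Fintype.card K : ℂ) ≠ 0 := by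
    exact_mod_cast Fintype.card_ne_zero
  have hR : ∑ a : ↥(Fx Fr.φ), ∑ b : K, ∑ c : K, ∑ d : ↥(Fx Fr.φ),
        cM D ψ χ a b c d * (ψ (a * s) * ψ (Fr.tr3 (b * u)) * ψ (Fr.tr3 (c * v)) * ψ (d * w)) =
      ∑ m : ↥(Fx Fr.φ) × K × K × ↥(Fx Fr.φ),
        cM D ψ χ m.1 m.2.1 m.2.2.1 m.2.2.2 * EE Fr ψ m (s, u, v, w) := by
    simp only [Fintype.sum_prod_type, EE]
  rw [hR]
  simp only [cM_eq_EE]
  set C : ℂ := ((Fintype.card ↥(Fx Fr.φ) : ℂ) * (Fintype.card ↥(Fx Fr.φ) * Fintype.card K *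
        Fintype.card K * Fintype.card ↥(Fx Fr.φ)))⁻¹ with hC
  have step1 : ∑ m : ↥(Fx Fr.φ) × K × K × ↥(Fx Fr.φ),
        C * (∑ r : ↥(Fx Fr.φ), ∑ x : ↥(Fx Fr.φ) × K × K × ↥(Fx Fr.φ),
          EE Fr ψ m (-x) * χ (Phi D r x.1 x.2.1 x.2.2.1 x.2.2.2)) * EE Fr ψ m (s, u, v, w) =
      C * ∑ r : ↥(Fx Fr.φ), ∑ x : ↥(Fx Fr.φ) × K × K × ↥(Fx Fr.φ),
        χ (Phi D r x.1 x.2.1 x.2.2.1 x.2.2.2) *
          ∑ m : ↥(Fx Fr.φ) × K × K × ↥(Fx Fr.φ), EE Fr ψ m ((s, u, v, w) + -x) := by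
    simp only [mul_assoc, Finset.sum_mul, Finset.mul_sum]
    rw [Finset.sum_comm]
    refine Finset.sum_congr rfl (fun r _ => ?_)
    rw [Finset.sum_comm]
    refine Finset.sum_congr rfl (fun x _ => ?_)
    refine Finset.sum_congr rfl (fun m _ => ?_)
    rw [EE_add]
    ring
  rw [step1]
  have step2 : ∀ r : ↥(Fx Fr.φ), ∑ x : ↥(Fx Fr.φ) × K × K × ↥(Fx Fr.φ),
        χ (Phi D r x.1 x.2.1 x.2.2.1 x.2.2.2) *
          ∑ m : ↥(Fx Fr.φ) × K × K × ↥(Fx Fr.φ), EE Fr ψ m ((s, u, v, w) + -x) =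
      χ (Phi D r s u v w) * ((Fintype.card ↥(Fx Fr.φ) : ℂ) * Fintype.card K * Fintype.card K *
        Fintype.card ↥(Fx Fr.φ)) := by
    intro r
    have : ∀ x : ↥(Fx Fr.φ) × K × K × ↥(Fx Fr.φ),
        χ (Phi D r x.1 x.2.1 x.2.2.1 x.2.2.2) *
          ∑ m : ↥(Fx Fr.φ) × K × K × ↥(Fx Fr.φ), EE Fr ψ m ((s, u, v, w) + -x) =
        if x = (s, u, v, w) then χ (Phi D r x.1 x.2.1 x.2.2.1 x.2.2.2) *
          ((Fintype.card ↥(Fx Fr.φ) : ℂ) * Fintype.card K * Fintype.card K *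
            Fintype.card ↥(Fx Fr.φ)) else 0 := by
      intro x
      rw [EE_orth hG ψ hψ]
      by_cases hx : x = (s, u, v, w)
      · rw [if_pos hx, if_pos (by rw [hx]; exact add_neg_cancel _)]
      · rw [if_neg hx, if_neg, mul_zero]
        intro h0
        apply hx
        rw [← sub_eq_add_neg, sub_eq_zero] at h0
        exact h0.symm
    simp only [this]
    rw [Finset.sum_ite_eq' Finset.univ (s, u, v, w)]
    simp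
  simp only [step2]
  rw [← Finset.sum_mul, hC]
  field_simp

end main

end Cfsg.Agent.Lib.Helper6.TDM
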