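import Mathlib
import Cfsg.Agent.Lib.Helper3.TDMDefs
import Cfsg.Agent.Lib.Helper3.TDMQL
import Cfsg.Agent.Lib.Helper4.TDMORTH
import Cfsg.Agent.Lib.Helper6.TDMC1

/-! Farm TDM (S2342), unit P1: the fixed-space dimensions `fZ`, `a00`, `b00` in terms of the
multiplicities `cM` of the linear characters of `Q`. -/

set_option autoImplicit false
set_option linter.unusedSectionVars false
set_option linter.unusedVariables false

namespace Cfsg.Agent.Lib.Helper6.TDM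

open Cfsg.Agent.Lib.Helper3.TDM

/-- moving one summation through four others -/
theorem sum_comm5 {A B C E W : Type*} [Fintype A] [Fintype B] [Fintype C] [Fintype E] [Fintype W]
    (f : W → A → B → C → E → ℂ) :
    ∑ w : W, ∑ a : A, ∑ b : B, ∑ c : C, ∑ d : E, f w a b c d =
      ∑ a : A, ∑ b : B, ∑ c : C, ∑ d : E, ∑ w : W, f w a b c d := by
  rw [Finset.sum_comm]
  refine Finset.sum_congr rfl (fun a _ => ?_)
  rw [Finset.sum_comm]
  refine Finset.sum_congr rfl (fun b _ => ?_)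
  rw [Finset.sum_comm]
  refine Finset.sum_congr rfl (fun c _ => ?_)
  rw [Finset.sum_comm]

section main

variable {K : Type*} [Field K] [Fintype K] [DecidableEq K] {Fr : Frob3 K} [Fintype ↥(Fx Fr.φ)]
  {G : Type*} [Group G] (D : Data Fr G) (hD : Rel D) (hG : Fr.Good)
  (ψ : AddChar ↥(Fx Fr.φ) ℂ) (hψ : ψ ≠ 1)

include hD hG hψ in
theorem fZ_eq_sum_cM (χ : G → ℂ) :
    fZ D χ = ∑ a : ↥(Fx Fr.φ), ∑ b : K, ∑ c : K, ∑ d : ↥(Fx Fr.φ), cM D ψ χ a b c d := by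
  have h := cM_inversion D hG ψ hψ χ 0 0 0 0
  simp only [mul_zero, Cfsg.Agent.Lib.Helper4.TDM.tr3_zero, AddChar.map_zero_eq_one, mul_one] at h
  rw [← h]
  unfold fZ
  congr 1
  refine Finset.sum_congr rfl (fun r _ => ?_)
  rw [Phi_z D hD]

include hD hG hψ in
theorem a00_eq_sum_cM (χ : G → ℂ) :
    a00 D χ = ∑ a : ↥(Fx Fr.φ), ∑ b : K, ∑ c : K, ∑ d : ↥(Fx Fr.φ),
      if d = 0 then cM D ψ χ a b c d else 0 := by
  have hq0 : (Fintype.card ↥(Fx Fr.φ) : ℂ) ≠ 0 := by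
    exact_mod_cast Fintype.card_ne_zero
  have h1 : a00 D χ = (Fintype.card ↥(Fx Fr.φ) : ℂ)⁻¹ * ∑ w : ↥(Fx Fr.φ),
      ((Fintype.card ↥(Fx Fr.φ) : ℂ)⁻¹ * ∑ r : ↥(Fx Fr.φ), χ (Phi D r 0 0 0 w)) := by
    unfold a00
    rw [Finset.sum_comm, ← Finset.mul_sum, ← mul_assoc, mul_inv]
  rw [h1]
  simp only [cM_inversion D hG ψ hψ χ, mul_zero, Cfsg.Agent.Lib.Helper4.TDM.tr3_zero,
    AddChar.map_zero_eq_one, mul_one, one_mul]
  rw [sum_comm5, Finset.mul_sum]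
  refine Finset.sum_congr rfl (fun a _ => ?_)
  rw [Finset.mul_sum]
  refine Finset.sum_congr rfl (fun b _ => ?_)
  rw [Finset.mul_sum]
  refine Finset.sum_congr rfl (fun c _ => ?_)
  rw [Finset.mul_sum]
  refine Finset.sum_congr rfl (fun d _ => ?_)
  rw [← Finset.mul_sum, Cfsg.Agent.Lib.Helper4.TDM.sum_psi Fr ψ hψ d]
  by_cases hd : d = 0
  · rw [if_pos hd, if_pos hd]
    field_simp
  · rw [if_neg hd, if_neg hd, mul_zero, mul_zero]

include hD hG hψ in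
theorem b00_eq_sum_cM (χ : G → ℂ) (hχ : ∀ x y, χ (x * y * x⁻¹) = χ y) (t : K) :
    b00 D χ = ∑ a : ↥(Fx Fr.φ), ∑ b : K, ∑ c : K, ∑ d : ↥(Fx Fr.φ),
      if a - Fr.tr3 (b * t) - Fr.tr3 (c * (t * Fr.φ t)) - d * Fr.nm3 t = 0
        then cM D ψ χ a b c d else 0 := by
  have hq0 : (Fintype.card ↥(Fx Fr.φ) : ℂ) ≠ 0 := by
    exact_mod_cast Fintype.card_ne_zero
  -- conjugate by `xb t` and reindex `r`
  have hconj : ∀ s : ↥(Fx Fr.φ), ∑ r : ↥(Fx Fr.φ), χ (Phi D r s 0 0 0) =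
      ∑ r : ↥(Fx Fr.φ), χ (Phi D r s (-((s : K) * t)) (-((s : K) * (t * Fr.φ t)))
        (-(s * Fr.nm3 t))) := by
    intro s
    have e1 : ∀ r : ↥(Fx Fr.φ), χ (Phi D r s 0 0 0) =
        χ (Phi D (r - s * s * Fr.nm3 t) s (-((s : K) * t)) (-((s : K) * (t * Fr.φ t)))
          (-(s * Fr.nm3 t))) := by
      intro r
      rw [← xb_conj D hD t r s, hχ]
    simp only [e1]
    exact Equiv.sum_comp (Equiv.subRight (s * s * Fr.nm3 t))
      (fun r => χ (Phi D r s (-((s : K) * t)) (-((s : K) * (t * Fr.φ t))) (-(s * Fr.nm3 t))))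
  have h1 : b00 D χ = (Fintype.card ↥(Fx Fr.φ) : ℂ)⁻¹ * ∑ s : ↥(Fx Fr.φ),
      ((Fintype.card ↥(Fx Fr.φ) : ℂ)⁻¹ * ∑ r : ↥(Fx Fr.φ),
        χ (Phi D r s (-((s : K) * t)) (-((s : K) * (t * Fr.φ t))) (-(s * Fr.nm3 t)))) := by
    unfold b00
    rw [Finset.sum_comm, ← Finset.mul_sum, ← mul_assoc, mul_inv]
    congr 1
    exact Finset.sum_congr rfl (fun s _ => hconj s)
  rw [h1]
  simp only [cM_inversion D hG ψ hψ χ]
  -- the character value
  have hval : ∀ (s a : ↥(Fx Fr.φ)) (b c : K) (d : ↥(Fx Fr.φ)),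
      ψ (a * s) * ψ (Fr.tr3 (b * -((s : K) * t))) * ψ (Fr.tr3 (c * -((s : K) * (t * Fr.φ t)))) *
        ψ (d * -(s * Fr.nm3 t)) =
      ψ ((a - Fr.tr3 (b * t) - Fr.tr3 (c * (t * Fr.φ t)) - d * Fr.nm3 t) * s) := by
    intro s a b c d
    have e2 : b * -((s : K) * t) = (s : K) * (-(b * t)) := by ring
    have e3 : c * -((s : K) * (t * Fr.φ t)) = (s : K) * (-(c * (t * Fr.φ t))) := by ring
    rw [e2, e3, Cfsg.Agent.Lib.Helper4.TDM.tr3_smul, Cfsg.Agent.Lib.Helper4.TDM.tr3_smul,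
      Cfsg.Agent.Lib.Helper4.TDM.tr3_neg, Cfsg.Agent.Lib.Helper4.TDM.tr3_neg,
      ← AddChar.map_add_eq_mul, ← AddChar.map_add_eq_mul, ← AddChar.map_add_eq_mul]
    congr 1
    ring
  simp only [hval]
  rw [sum_comm5, Finset.mul_sum]
  refine Finset.sum_congr rfl (fun a _ => ?_)
  rw [Finset.mul_sum]
  refine Finset.sum_congr rfl (fun b _ => ?_)
  rw [Finset.mul_sum]
  refine Finset.sum_congr rfl (fun c _ => ?_)
  rw [Finset.mul_sum]
  refine Finset.sum_congr rfl (fun d _ => ?_)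
  rw [← Finset.mul_sum, Cfsg.Agent.Lib.Helper4.TDM.sum_psi Fr ψ hψ]
  by_cases hL : a - Fr.tr3 (b * t) - Fr.tr3 (c * (t * Fr.φ t)) - d * Fr.nm3 t = 0
  · rw [if_pos hL, if_pos hL]
    field_simp
  · rw [if_neg hL, if_neg hL, mul_zero, mul_zero]

include hD in
theorem a00_eq_b00 (χ : G → ℂ) (hχ : ∀ x y, χ (x * y * x⁻¹) = χ y) : a00 D χ = b00 D χ := by
  unfold a00 b00
  congr 1
  refine Finset.sum_congr rfl (fun r _ => ?_)
  have e1 : ∀ s : ↥(Fx Fr.φ), χ (Phi D r s 0 0 0) = χ (Phi D r 0 0 0 (-s)) := by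
    intro s
    rw [← nB_conj D hD r s, hχ]
  simp only [e1]
  exact (Equiv.sum_comp (Equiv.neg ↥(Fx Fr.φ)) (fun w => χ (Phi D r 0 0 0 w))).symm

end main

end Cfsg.Agent.Lib.Helper6.TDM
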