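import Mathlib

/-! Unit NT of the farm TDM (S2342): the survivor degree `(q-1)(q^4+q^3+1)` does not divide
`|³D₄(q)| = q^12 (q^2-1)(q^6-1)(q^8+q^4+1)`. -/

set_option autoImplicit false

namespace Cfsg.Agent.Lib.Helper6.TDM

/-- integer version: `q^4+q^3+1 ∣ q^12 (q^2-1)(q^6-1)(q^8+q^4+1)` forces `q^4+q^3+1 ∣ 81`. -/
theorem int_dvd_eightyone (q : ℤ)
    (h : (q ^ 4 + q ^ 3 + 1) ∣ q ^ 12 * (q ^ 2 - 1) * (q ^ 6 - 1) * (q ^ 8 + q ^ 4 + 1)) :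
    (q ^ 4 + q ^ 3 + 1) ∣ 81 := by
  obtain ⟨N, hN⟩ : ∃ N : ℤ, N = q ^ 4 + q ^ 3 + 1 := ⟨_, rfl⟩
  rw [← hN] at h ⊢
  have c_q : IsCoprime N q := ⟨1, -(q ^ 3 + q ^ 2), by rw [hN]; ring⟩
  have c_2 : IsCoprime N (q + 1) := ⟨1, -(q ^ 3), by rw [hN]; ring⟩
  have c_6 : IsCoprime N (q ^ 2 - q + 1) :=
    ⟨q - 1, 1 - (q - 1) * (q + 1) ^ 2, by rw [hN]; ring⟩
  have c_12 : IsCoprime N (q ^ 4 - q ^ 2 + 1) := by
    have h1 : IsCoprime N (-(q ^ 2 * (q + 1))) := ((c_q.pow_right).mul_right c_2).neg_right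
    have h2 := h1.add_mul_left_right 1
    have e : -(q ^ 2 * (q + 1)) + N * 1 = q ^ 4 - q ^ 2 + 1 := by rw [hN]; ring
    rw [e] at h2
    exact h2
  have c_q12 : IsCoprime N (q ^ 12) := c_q.pow_right
  -- factorization
  have e : q ^ 12 * (q ^ 2 - 1) * (q ^ 6 - 1) * (q ^ 8 + q ^ 4 + 1) =
      q ^ 12 * ((q + 1) * ((q + 1) * ((q ^ 2 - q + 1) * ((q ^ 2 - q + 1) * ((q ^ 4 - q ^ 2 + 1) *
        ((q - 1) ^ 2 * (q ^ 2 + q + 1) ^ 2)))))) := by ring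
  rw [e] at h
  have h1 := c_q12.dvd_of_dvd_mul_left h
  have h2 := c_2.dvd_of_dvd_mul_left h1
  have h3 := c_2.dvd_of_dvd_mul_left h2
  have h4 := c_6.dvd_of_dvd_mul_left h3
  have h5 := c_6.dvd_of_dvd_mul_left h4
  have h6 := c_12.dvd_of_dvd_mul_left h5
  -- now `N ∣ (q-1)^2 (q^2+q+1)^2`
  obtain ⟨A, hA⟩ : ∃ A : ℤ, A = q ^ 3 + 2 * q ^ 2 + 2 * q + 2 := ⟨_, rfl⟩
  obtain ⟨C, hC⟩ : ∃ C : ℤ, C = 1 + (q - 1) * (q ^ 2 - 1) := ⟨_, rfl⟩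
  have e1 : (q - 1) * A = N - 3 := by rw [hN, hA]; ring
  have e2 : (q ^ 2 + q + 1) * C = 3 + (q - 1) * N := by rw [hN, hC]; ring
  have h7 : N ∣ (A ^ 2 * C ^ 2) * ((q - 1) ^ 2 * (q ^ 2 + q + 1) ^ 2) := Dvd.dvd.mul_left h6 _
  have e3 : (A ^ 2 * C ^ 2) * ((q - 1) ^ 2 * (q ^ 2 + q + 1) ^ 2) =
      ((q - 1) * A) ^ 2 * ((q ^ 2 + q + 1) * C) ^ 2 := by ring
  rw [e3, e1, e2] at h7
  have e4 : (N - 3) ^ 2 * (3 + (q - 1) * N) ^ 2 =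
      81 + N * ((N - 6) * (3 + (q - 1) * N) ^ 2 + 9 * ((q - 1) * (6 + (q - 1) * N))) := by ring
  rw [e4] at h7
  exact (Int.dvd_add_left (Dvd.intro _ rfl)).mp h7

/-- Unit NT: the survivor cofactor does not divide `|³D₄(q)|` (order in the form of `S1067`). -/
theorem survivor_not_dvd (q : ℕ) (hq : 2 ≤ q) :
    ¬ (q ^ 4 + q ^ 3 + 1) ∣ q ^ 12 * (q ^ 2 - 1) * (q ^ 6 - 1) * (q ^ 8 + q ^ 4 + 1) := by
  intro h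
  have h2 : 1 ≤ q ^ 2 := Nat.one_le_pow _ _ (by omega)
  have h6 : 1 ≤ q ^ 6 := Nat.one_le_pow _ _ (by omega)
  have hz : ((q ^ 4 + q ^ 3 + 1 : ℕ) : ℤ) ∣
      ((q ^ 12 * (q ^ 2 - 1) * (q ^ 6 - 1) * (q ^ 8 + q ^ 4 + 1) : ℕ) : ℤ) :=
    Int.natCast_dvd_natCast.mpr h
  push_cast [Nat.cast_sub h2, Nat.cast_sub h6] at hz
  have h81 := int_dvd_eightyone (q : ℤ) hz
  have h81' : (q ^ 4 + q ^ 3 + 1 : ℕ) ∣ 81 := by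
    apply Int.natCast_dvd_natCast.mp
    push_cast
    exact h81
  have hle : q ^ 4 + q ^ 3 + 1 ≤ 81 := Nat.le_of_dvd (by norm_num) h81'
  have hq2 : q = 2 := by
    by_contra hne
    have h3 : 3 ≤ q := by omega
    have : 3 ^ 4 ≤ q ^ 4 := Nat.pow_le_pow_left h3 4
    have : 3 ^ 3 ≤ q ^ 3 := Nat.pow_le_pow_left h3 3
    omega
  subst hq2
  norm_num at h81'

/-- the survivor degree -/
theorem survivor_eq (q : ℕ) (hq : 1 ≤ q) :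
    (q - 1) * (q ^ 4 + q ^ 3 + 1) = q * (q ^ 4 - q ^ 2 + 1) - 1 := by
  obtain ⟨r, rfl⟩ : ∃ r, q = r + 1 := ⟨q - 1, by omega⟩
  have h1 : (r + 1) ^ 2 ≤ (r + 1) ^ 4 := Nat.pow_le_pow_right (by omega) (by norm_num)
  zify [h1]
  have h2 : 1 ≤ (r + 1) * ((r + 1) ^ 4 - (r + 1) ^ 2 + 1) := Nat.mul_pos (by omega) (by omega)
  zify [h2, h1]
  simp only [Nat.add_sub_cancel]
  ring

theorem survivor_mul_not_dvd (q : ℕ) (hq : 2 ≤ q) :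
    ¬ ((q - 1) * (q ^ 4 + q ^ 3 + 1)) ∣
      q ^ 12 * (q ^ 2 - 1) * (q ^ 6 - 1) * (q ^ 8 + q ^ 4 + 1) :=
  fun h => survivor_not_dvd q hq ((Dvd.intro_left _ rfl).trans h)

/-- packaged form: a divisor `k` of `|³D₄(q)|` with `k ≥ target - 1` has `k ≥ target`. -/
theorem target_le_of_dvd (q k : ℕ) (hq : 2 ≤ q)
    (hdvd : k ∣ q ^ 12 * (q ^ 2 - 1) * (q ^ 6 - 1) * (q ^ 8 + q ^ 4 + 1))
    (hk : q * (q ^ 4 - q ^ 2 + 1) - 1 ≤ k) : q * (q ^ 4 - q ^ 2 + 1) ≤ k := by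
  by_contra hlt
  have hk' : k = q * (q ^ 4 - q ^ 2 + 1) - 1 := by omega
  rw [hk', ← survivor_eq q (by omega)] at hdvd
  exact survivor_mul_not_dvd q hq hdvd

end Cfsg.Agent.Lib.Helper6.TDM
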