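import Mathlib
import Cfsg.Agent.Lib.Helper8.L34Defs
import Cfsg.Agent.Lib.Helper6.UniGL4
import Cfsg.Agent.Lib.Helper2.L34UG

/-!
# Farm TGS (S3161): the Sylow `p`-subgroups of `PSL₃(F)` (`F` finite of characteristic `p`) are
isomorphic to the Heisenberg group `U F` of upper unitriangular `3 × 3` matrices.
-/

set_option autoImplicit false

namespace Cfsg.Agent.Lib.Helper6.TGSHeis

open Cfsg.Agent.Lib.Helper8.L34

section
variable {F : Type*} [Field F]

/-- the coordinate bijection `F × F × F ≃ U F` -/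
noncomputable def coordEquiv : (F × F × F) ≃ ↥(U F) :=
  Equiv.ofBijective (fun t => ⟨hS t.1 t.2.1 t.2.2, ⟨t.1, t.2.1, t.2.2, rfl⟩⟩) (by
    constructor
    · rintro ⟨a, b, c⟩ ⟨a', b', c'⟩ h
      have h' := congrArg Subtype.val h
      obtain ⟨h1, h2, h3⟩ := hS_inj h'
      simp only at h1 h2 h3
      rw [h1, h2, h3]
    · rintro ⟨g, a, b, c, rfl⟩
      exact ⟨(a, b, c), rfl⟩)

theorem card_U [Fintype F] : Nat.card ↥(U F) = Fintype.card F ^ 3 := by
  rw [← Nat.card_congr (coordEquiv (F := F)), Nat.card_prod, Nat.card_prod, Nat.card_eq_fintype_card]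
  ring

theorem U_inf_center :
    U F ⊓ Subgroup.center (Matrix.SpecialLinearGroup (Fin 3) F) = ⊥ := by
  rw [eq_bot_iff]
  intro g hg
  rw [Subgroup.mem_bot]
  obtain ⟨⟨a, b, c, rfl⟩, hZ⟩ := Subgroup.mem_inf.mp hg
  rw [Matrix.SpecialLinearGroup.mem_center_iff] at hZ
  obtain ⟨r, _, hr⟩ := hZ
  rw [hS_coe] at hr
  have h00 := congrFun (congrFun hr 0) 0
  have h01 := congrFun (congrFun hr 0) 1
  have h12 := congrFun (congrFun hr 1) 2
  have h02 := congrFun (congrFun hr 0) 2
  simp [Matrix.scalar_apply] at h00 h01 h12 h02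
  rw [← hS_zero, ← h01, ← h12, ← h02]

end

section sylow
variable {F : Type*} [Field F] [Fintype F]

open Cfsg.Agent.Lib.Helper6.UnipotentDegree in
theorem tri_three : tri 3 = 3 := by
  decide

/-- every Sylow `p`-subgroup of `PSL₃(F)`, `char F = p`, is isomorphic to the Heisenberg group `U F`. -/
theorem sylow_PSL3_equiv (p : ℕ) [Fact p.Prime] [CharP F p]
    (S : Sylow p (Matrix.ProjectiveSpecialLinearGroup (Fin 3) F)) :
    Nonempty (↥(S : Subgroup (Matrix.ProjectiveSpecialLinearGroup (Fin 3) F)) ≃* ↥(U F)) := by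
  classical
  have hfin : Finite (Matrix.ProjectiveSpecialLinearGroup (Fin 3) F) := by
    have : Finite (Matrix.SpecialLinearGroup (Fin 3) F) := inferInstance
    exact Quotient.finite _
  obtain ⟨f, _, hqf⟩ := FiniteField.card F p
  set V : Subgroup (Matrix.ProjectiveSpecialLinearGroup (Fin 3) F) :=
    (U F).map (QuotientGroup.mk' (Subgroup.center (Matrix.SpecialLinearGroup (Fin 3) F))) with hV
  have hVcard : Nat.card ↥V = Fintype.card F ^ 3 := by
    rw [hV, Cfsg.Agent.Lib.Helper2.L34UG.UG_card_map (U F) U_inf_center, card_U]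
  have hVp : IsPGroup p ↥V := by
    apply IsPGroup.of_card (n := f * 3)
    rw [hVcard, hqf, pow_mul]
  obtain ⟨P, hP⟩ := hVp.exists_le_sylow
  have hPcard : Nat.card ↥(P : Subgroup (Matrix.ProjectiveSpecialLinearGroup (Fin 3) F)) =
      Fintype.card F ^ 3 := by
    have := Cfsg.Agent.Lib.Helper6.UniGL.card_sylow_PSL (F := F) p 3 (by norm_num) P
    rw [tri_three] at this
    exact this
  have hVP : V = (P : Subgroup (Matrix.ProjectiveSpecialLinearGroup (Fin 3) F)) := by
    apply Subgroup.eq_of_le_of_card_ge hP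
    rw [hVcard, hPcard]
  have e₁ : ↥(S : Subgroup (Matrix.ProjectiveSpecialLinearGroup (Fin 3) F)) ≃*
      ↥(P : Subgroup (Matrix.ProjectiveSpecialLinearGroup (Fin 3) F)) := Sylow.equiv S P
  have e₂ : ↥(P : Subgroup (Matrix.ProjectiveSpecialLinearGroup (Fin 3) F)) ≃* ↥V :=
    MulEquiv.subgroupCongr hVP.symm
  exact ⟨(e₁.trans e₂).trans (Cfsg.Agent.Lib.Helper2.L34UG.equivMap (U F) U_inf_center).symm⟩

end sylow

end Cfsg.Agent.Lib.Helper6.TGSHeis
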