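import Mathlib
import Cfsg.Agent.Lib.Helper6.TGSHeis
import Cfsg.Agent.Lib.Helper5.SU3Sylow
import Cfsg.Agent.Lib.Helper4.GL52b

/-!
# Farm TGS (S3161): the two conclusion branches, from an isomorphism with a concrete model.

* `psl_branch` : `Q ≃* U F` (upper unitriangular `3 × 3` matrices over `F`, `|F| = 2 ^ n`) gives the
  `PSL₃` disjunct of S3161, verbatim;
* `psu_branch` : `Q ≃* M F (2 ^ n)` (helper5's model, `|F| = 4 ^ n`) gives the `PSU₃` disjunct, verbatim.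
-/

set_option autoImplicit false

namespace Cfsg.Agent.Lib.Helper6.TGSBranch

open Cfsg.Agent.Lib.Helper8.L34

theorem psl_branch {Q : Type*} [Group Q] (n : ℕ) (hn : n ≠ 0) (F : Type) [Field F] [Fintype F]
    (hF : Fintype.card F = 2 ^ n) (e : Q ≃* ↥(U F)) :
    ∃ (F : Type) (_ : Field F) (_ : Fintype F), Fintype.card F = 2 ^ n ∧
      ∃ S : Sylow 2 (Matrix.ProjectiveSpecialLinearGroup (Fin 3) F),
        Nonempty (Q ≃* ↥(S : Subgroup (Matrix.ProjectiveSpecialLinearGroup (Fin 3) F))) := by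
  have : CharP F 2 := Cfsg.Agent.Lib.Helper4.GL52.charP_two_of_card hn hF
  have : Fact (Nat.Prime 2) := ⟨Nat.prime_two⟩
  refine ⟨F, inferInstance, inferInstance, hF, ?_⟩
  obtain ⟨S⟩ := (inferInstance : Nonempty (Sylow 2 (Matrix.ProjectiveSpecialLinearGroup (Fin 3) F)))
  obtain ⟨e'⟩ := Cfsg.Agent.Lib.Helper6.TGSHeis.sylow_PSL3_equiv (F := F) 2 S
  exact ⟨S, ⟨e.trans e'.symm⟩⟩

theorem psu_branch {Q : Type*} [Group Q] (n : ℕ) (hn : 1 ≤ n) (F : Type) [Field F] [Fintype F]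
    [hFact : Fact (Fintype.card F = (2 ^ n) ^ 2)]
    (e : Q ≃* Cfsg.Agent.Lib.Helper5.SuzukiModel.M F (2 ^ n)) :
    ∃ (F : Type) (_ : Field F) (_ : Fintype F), Fintype.card F = 4 ^ n ∧
      ∃ S : Sylow 2 (Cfsg.PSU 3 F (2 ^ n)),
        Nonempty (Q ≃* ↥(S : Subgroup (Cfsg.PSU 3 F (2 ^ n)))) := by
  have hF2 : Fintype.card F = 2 ^ (n * 2) := by rw [hFact.out, ← pow_mul]
  have hF : Fintype.card F = 4 ^ n := by
    rw [hF2, mul_comm, pow_mul]; norm_num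
  have : CharP F 2 := Cfsg.Agent.Lib.Helper4.GL52.charP_two_of_card (n := n * 2) (by omega) hF2
  refine ⟨F, inferInstance, inferInstance, hF, ?_⟩
  obtain ⟨S⟩ := (inferInstance : Nonempty (Sylow 2 (Cfsg.PSU 3 F (2 ^ n))))
  obtain ⟨e'⟩ := Cfsg.Agent.Lib.Helper5.SU3Sylow.exists_equiv (F := F) (q := 2 ^ n) hn rfl S
  exact ⟨S, ⟨e.trans e'.symm⟩⟩

end Cfsg.Agent.Lib.Helper6.TGSBranch
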