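import Mathlib

/-!
# Farm TGS (S3161): the extension lemma (S9).

Two central extensions `A → Qᵢ → B` (with `B` of exponent 2) having the same squaring map
`σ : B → A` are isomorphic, compatibly with the maps to `B` and from `A`.
-/

set_option autoImplicit false

namespace Cfsg.Agent.Lib.Helper6.TGSExt

theorem inv_eq_self_of_sq {G : Type*} [Group G] {g : G} (h : g ^ 2 = 1) : g⁻¹ = g :=
  inv_eq_of_mul_eq_one_left (by rw [← sq]; exact h)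

theorem comm_of_sq {G : Type*} [Group G] (h2 : ∀ g : G, g ^ 2 = 1) (a b : G) : a * b = b * a := by
  calc a * b = (a * b)⁻¹ := (inv_eq_self_of_sq (h2 (a * b))).symm
    _ = b⁻¹ * a⁻¹ := mul_inv_rev a b
    _ = b * a := by rw [inv_eq_self_of_sq (h2 a), inv_eq_self_of_sq (h2 b)]

/-- complements exist in commutative groups of exponent 2 -/
theorem exists_compl_comm {G : Type*} [CommGroup G] (h2 : ∀ g : G, g ^ 2 = 1) (K : Subgroup G) :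
    ∃ L : Subgroup G, K ⊓ L = ⊥ ∧ ∀ g : G, ∃ k ∈ K, ∃ l ∈ L, g = k * l := by
  letI : Module (ZMod 2) (Additive G) := AddCommGroup.zmodModule (n := 2) (by
    intro x
    have := h2 x.toMul
    rw [two_nsmul]
    rw [sq] at this
    exact congrArg Additive.ofMul this)
  let φ : Subgroup G ≃o Submodule (ZMod 2) (Additive G) :=
    Subgroup.toAddSubgroup.trans (AddSubgroup.toZModSubmodule 2)
  obtain ⟨Ls, hLs⟩ := Submodule.exists_isCompl (φ K)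
  have h1 : K ⊓ φ.symm Ls = ⊥ := by
    apply φ.injective
    rw [map_inf, OrderIso.apply_symm_apply, map_bot]
    exact hLs.inf_eq_bot
  have h3 : K ⊔ φ.symm Ls = ⊤ := by
    apply φ.injective
    rw [map_sup, OrderIso.apply_symm_apply, map_top]
    exact hLs.sup_eq_top
  refine ⟨φ.symm Ls, h1, ?_⟩
  intro g
  have hg : g ∈ K ⊔ φ.symm Ls := by rw [h3]; exact Subgroup.mem_top g
  obtain ⟨k, hk, l, hl, hkl⟩ := Subgroup.mem_sup.mp hg
  exact ⟨k, hk, l, hl, hkl.symm⟩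

/-- complements exist in groups of exponent 2 -/
theorem exists_compl_of_sq {G : Type*} [Group G] (h2 : ∀ g : G, g ^ 2 = 1) (K : Subgroup G) :
    ∃ L : Subgroup G, K ⊓ L = ⊥ ∧ ∀ g : G, ∃ k ∈ K, ∃ l ∈ L, g = k * l := by
  letI : CommGroup G := { (inferInstance : Group G) with mul_comm := comm_of_sq h2 }
  exact exists_compl_comm h2 K

section ext
variable {Q1 Q2 A B : Type*} [Group Q1] [Group Q2] [CommGroup A] [CommGroup B] (σ : B → A)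
  (β1 : Q1 →* B) (β2 : Q2 →* B) (ι1 : A →* Q1) (ι2 : A →* Q2)

/-- the graph subgroup `Δ` -/
theorem exists_graph (hι1 : Function.Injective ι1)
    (hk1 : ι1.range = β1.ker) (hk2 : ι2.range = β2.ker)
    (hc1 : ∀ a g, ι1 a * g = g * ι1 a) (hc2 : ∀ a g, ι2 a * g = g * ι2 a)
    (hs1 : ∀ g, g ^ 2 = ι1 (σ (β1 g))) (hs2 : ∀ g, g ^ 2 = ι2 (σ (β2 g))) :
    ∃ Δ : Subgroup (Q1 × Q2), (∀ x ∈ Δ, β1 x.1 = β2 x.2) ∧ (∀ a, (ι1 a, ι2 a) ∈ Δ) ∧
      (∀ x ∈ Δ, x.1 = 1 → ∃ a, x = (ι1 a, ι2 a)) ∧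
      (∀ g1 g2, β1 g1 = β2 g2 → ∃ a, (g1, ι2 a * g2) ∈ Δ) := by
  classical
  have hβι1 : ∀ a, β1 (ι1 a) = 1 := fun a => by
    have : ι1 a ∈ β1.ker := by rw [← hk1]; exact ⟨a, rfl⟩
    exact this
  have hβι2 : ∀ a, β2 (ι2 a) = 1 := fun a => by
    have : ι2 a ∈ β2.ker := by rw [← hk2]; exact ⟨a, rfl⟩
    exact this
  let D : Subgroup (Q1 × Q2) :=
    (β1.comp (MonoidHom.fst Q1 Q2)).eqLocus (β2.comp (MonoidHom.snd Q1 Q2))
  have hD : ∀ x : Q1 × Q2, x ∈ D ↔ β1 x.1 = β2 x.2 := fun x => Iff.rfl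
  let ν : A →* ↥D := (MonoidHom.prod ι1 ι2).codRestrict D (fun a => by
    rw [hD]
    show β1 (ι1 a) = β2 (ι2 a)
    rw [hβι1, hβι2])
  have hν : ∀ a, ((ν a : ↥D) : Q1 × Q2) = (ι1 a, ι2 a) := fun a => rfl
  have hνc : ∀ a (d : ↥D), ν a * d = d * ν a := by
    intro a d
    apply Subtype.ext
    show ((ν a : ↥D) : Q1 × Q2) * (d : Q1 × Q2) = (d : Q1 × Q2) * ((ν a : ↥D) : Q1 × Q2)
    rw [hν]
    ext
    · exact hc1 a _
    · exact hc2 a _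
  haveI hN : (ν.range).Normal := by
    constructor
    rintro n ⟨a, rfl⟩ g
    refine ⟨a, ?_⟩
    rw [← hνc a g, mul_inv_cancel_right]
  let π := QuotientGroup.mk' ν.range
  have hsq : ∀ d : ↥D, d ^ 2 = ν (σ (β1 (d : Q1 × Q2).1)) := by
    intro d
    apply Subtype.ext
    show ((d : Q1 × Q2)) ^ 2 = ((ν _ : ↥D) : Q1 × Q2)
    rw [hν]
    have hd := (hD _).mp d.2
    ext
    · show ((d : Q1 × Q2).1) ^ 2 = _
      exact hs1 _
    · show ((d : Q1 × Q2).2) ^ 2 = _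
      rw [hd]
      exact hs2 _
  have h2 : ∀ x : ↥D ⧸ ν.range, x ^ 2 = 1 := by
    intro x
    obtain ⟨d, rfl⟩ := QuotientGroup.mk'_surjective ν.range x
    rw [← map_pow, hsq]
    exact (QuotientGroup.eq_one_iff _).mpr ⟨_, rfl⟩
  let K' : Subgroup ↥D := ((MonoidHom.fst Q1 Q2).comp D.subtype).ker
  have hK' : ∀ d : ↥D, d ∈ K' ↔ (d : Q1 × Q2).1 = 1 := fun d => MonoidHom.mem_ker
  obtain ⟨L, hKL, hcov⟩ := exists_compl_of_sq h2 (K'.map π)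
  refine ⟨(L.comap π).map D.subtype, ?_, ?_, ?_, ?_⟩
  · rintro x ⟨d, _, rfl⟩
    exact (hD _).mp d.2
  · intro a
    refine ⟨ν a, ?_, rfl⟩
    show π (ν a) ∈ L
    have : π (ν a) = 1 := (QuotientGroup.eq_one_iff _).mpr ⟨a, rfl⟩
    rw [this]
    exact L.one_mem
  · rintro x ⟨d, hd, rfl⟩ hx1
    have hdK : d ∈ K' := (hK' d).mpr hx1
    have h1 : π d ∈ K'.map π ⊓ L := ⟨Subgroup.mem_map_of_mem _ hdK, hd⟩
    rw [hKL, Subgroup.mem_bot] at h1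
    obtain ⟨a, ha⟩ := (QuotientGroup.eq_one_iff _).mp h1
    refine ⟨a, ?_⟩
    show (d : Q1 × Q2) = _
    rw [← ha]
    rfl
  · intro g1 g2 h12
    let d : ↥D := ⟨(g1, g2), (hD _).mpr h12⟩
    obtain ⟨y, ⟨k, hk, rfl⟩, z, hz, hyz⟩ := hcov (π d)
    have hk1 : (k : Q1 × Q2).1 = 1 := (hK' k).mp hk
    have hk2 : (k : Q1 × Q2).2 ∈ ι2.range := by
      rw [hk2, MonoidHom.mem_ker, ← (hD _).mp k.2, hk1, map_one]
    obtain ⟨a', ha'⟩ := hk2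
    have hz' : z = π (k⁻¹ * d) := by
      rw [map_mul, hyz, map_inv, inv_mul_cancel_left]
    refine ⟨a'⁻¹, k⁻¹ * d, ?_, ?_⟩
    · show π (k⁻¹ * d) ∈ L
      rw [← hz']
      exact hz
    · show ((k : Q1 × Q2))⁻¹ * (g1, g2) = _
      ext
      · show ((k : Q1 × Q2).1)⁻¹ * g1 = g1
        rw [hk1, inv_one, one_mul]
      · show ((k : Q1 × Q2).2)⁻¹ * g2 = ι2 a'⁻¹ * g2
        rw [← ha', map_inv]

/-- **Extension lemma.** -/
theorem ext_iso (hβ1 : Function.Surjective β1) (hβ2 : Function.Surjective β2)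
    (hι1 : Function.Injective ι1) (hι2 : Function.Injective ι2)
    (hk1 : ι1.range = β1.ker) (hk2 : ι2.range = β2.ker)
    (hc1 : ∀ a g, ι1 a * g = g * ι1 a) (hc2 : ∀ a g, ι2 a * g = g * ι2 a)
    (hs1 : ∀ g, g ^ 2 = ι1 (σ (β1 g))) (hs2 : ∀ g, g ^ 2 = ι2 (σ (β2 g))) :
    ∃ e : Q1 ≃* Q2, (∀ g, β2 (e g) = β1 g) ∧ (∀ a, e (ι1 a) = ι2 a) := by
  obtain ⟨Δ, hΔ1, hΔ2, hΔ3, hΔ4⟩ := exists_graph σ β1 β2 ι1 ι2 hι1 hk1 hk2 hc1 hc2 hs1 hs2
  let p1 : ↥Δ →* Q1 := (MonoidHom.fst Q1 Q2).comp Δ.subtype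
  let p2 : ↥Δ →* Q2 := (MonoidHom.snd Q1 Q2).comp Δ.subtype
  have hp1 : ∀ x : ↥Δ, p1 x = (x : Q1 × Q2).1 := fun x => rfl
  have hp2 : ∀ x : ↥Δ, p2 x = (x : Q1 × Q2).2 := fun x => rfl
  have inj1 : Function.Injective p1 := by
    rw [injective_iff_map_eq_one]
    intro x hx
    rw [hp1] at hx
    obtain ⟨a, ha⟩ := hΔ3 _ x.2 hx
    have h1 : ι1 a = 1 := by
      have := congrArg Prod.fst ha
      rw [hx] at this
      exact this.symm
    have ha1 : a = 1 := hι1 (h1.trans (map_one ι1).symm)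
    apply Subtype.ext
    rw [ha, ha1, map_one, map_one]
    rfl
  have surj1 : Function.Surjective p1 := by
    intro g1
    obtain ⟨g2, hg2⟩ := hβ2 (β1 g1)
    obtain ⟨a, ha⟩ := hΔ4 g1 g2 hg2.symm
    exact ⟨⟨_, ha⟩, rfl⟩
  have inj2 : Function.Injective p2 := by
    rw [injective_iff_map_eq_one]
    intro x hx
    rw [hp2] at hx
    have hx1 : (x : Q1 × Q2).1 ∈ ι1.range := by
      rw [hk1, MonoidHom.mem_ker, hΔ1 _ x.2, hx, map_one]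
    obtain ⟨a, ha⟩ := hx1
    have hy : (x : Q1 × Q2)⁻¹ * (ι1 a, ι2 a) ∈ Δ := Δ.mul_mem (Δ.inv_mem x.2) (hΔ2 a)
    have hy1 : ((x : Q1 × Q2)⁻¹ * (ι1 a, ι2 a)).1 = 1 := by
      show ((x : Q1 × Q2).1)⁻¹ * ι1 a = 1
      rw [ha, inv_mul_cancel]
    have hy2 : ((x : Q1 × Q2)⁻¹ * (ι1 a, ι2 a)).2 = ι2 a := by
      show ((x : Q1 × Q2).2)⁻¹ * ι2 a = ι2 a
      rw [hx, inv_one, one_mul]
    obtain ⟨a', ha'⟩ := hΔ3 _ hy hy1
    have h1 : ι1 a' = 1 := by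
      have := congrArg Prod.fst ha'
      rw [hy1] at this
      exact this.symm
    have ha'1 : a' = 1 := hι1 (h1.trans (map_one ι1).symm)
    have h2 : ι2 a = 1 := by
      have := congrArg Prod.snd ha'
      rw [hy2] at this
      rw [this]
      show ι2 a' = 1
      rw [ha'1, map_one]
    have ha1 : a = 1 := hι2 (h2.trans (map_one ι2).symm)
    apply Subtype.ext
    ext
    · show (x : Q1 × Q2).1 = 1
      rw [← ha, ha1, map_one]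
    · exact hx
  have surj2 : Function.Surjective p2 := by
    intro g2
    obtain ⟨g1, hg1⟩ := hβ1 (β2 g2)
    obtain ⟨a, ha⟩ := hΔ4 g1 g2 hg1
    have hy : (ι1 a⁻¹, ι2 a⁻¹) * (g1, ι2 a * g2) ∈ Δ := Δ.mul_mem (hΔ2 _) ha
    refine ⟨⟨_, hy⟩, ?_⟩
    show ι2 a⁻¹ * (ι2 a * g2) = g2
    rw [map_inv, inv_mul_cancel_left]
  let e1 : ↥Δ ≃* Q1 := MulEquiv.ofBijective p1 ⟨inj1, surj1⟩
  let e2 : ↥Δ ≃* Q2 := MulEquiv.ofBijective p2 ⟨inj2, surj2⟩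
  refine ⟨e1.symm.trans e2, ?_, ?_⟩
  · intro g
    have h1 : p1 (e1.symm g) = g := e1.apply_symm_apply g
    show β2 (p2 (e1.symm g)) = β1 g
    rw [hp2, ← hΔ1 _ (e1.symm g).2, ← hp1, h1]
  · intro a
    have h1 : e1.symm (ι1 a) = ⟨(ι1 a, ι2 a), hΔ2 a⟩ := by
      rw [MulEquiv.symm_apply_eq]
      rfl
    show p2 (e1.symm (ι1 a)) = ι2 a
    rw [h1]
    rfl

end ext

end Cfsg.Agent.Lib.Helper6.TGSExt
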