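import Mathlib
import Cfsg.Agent.Lib.Helper3.TGSDefs
import Cfsg.Agent.Lib.Helper8.L34Defs
import Cfsg.Agent.Lib.Helper6.TGSExt

/-!
# Farm TGS (S3161): unit U9 — the `PSL₃` branch: `Ext3 (sig τ)` with `τ = η² + η` gives the
Heisenberg group `U F`.
-/

set_option autoImplicit false
set_option linter.unusedSectionVars false
set_option linter.unusedVariables false

namespace Cfsg.Agent.Lib.Helper6.TGSU9

open Cfsg.Agent.Lib.Helper3.TGSDefs
open Cfsg.Agent.Lib.Helper8.L34

section model
variable {F : Type} [Field F]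

/-- the coordinate homomorphism of the Heisenberg group -/
noncomputable def betaU : ↥(U F) →* Multiplicative (F × F) where
  toFun g := Multiplicative.ofAdd
    (((g : Matrix.SpecialLinearGroup (Fin 3) F) : Matrix (Fin 3) (Fin 3) F) 0 1,
     ((g : Matrix.SpecialLinearGroup (Fin 3) F) : Matrix (Fin 3) (Fin 3) F) 1 2)
  map_one' := by
    show Multiplicative.ofAdd (_, _) = 1
    simp
  map_mul' := by
    rintro ⟨g, a, b, c, rfl⟩ ⟨h, a', b', c', rfl⟩
    show Multiplicative.ofAdd (((hS a b c * hS a' b' c' : Matrix.SpecialLinearGroup (Fin 3) F) :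
        Matrix (Fin 3) (Fin 3) F) 0 1, ((hS a b c * hS a' b' c' :
        Matrix.SpecialLinearGroup (Fin 3) F) : Matrix (Fin 3) (Fin 3) F) 1 2) =
      Multiplicative.ofAdd (((hS a b c : Matrix.SpecialLinearGroup (Fin 3) F) :
        Matrix (Fin 3) (Fin 3) F) 0 1, ((hS a b c : Matrix.SpecialLinearGroup (Fin 3) F) :
        Matrix (Fin 3) (Fin 3) F) 1 2) *
      Multiplicative.ofAdd (((hS a' b' c' : Matrix.SpecialLinearGroup (Fin 3) F) :
        Matrix (Fin 3) (Fin 3) F) 0 1, ((hS a' b' c' : Matrix.SpecialLinearGroup (Fin 3) F) :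
        Matrix (Fin 3) (Fin 3) F) 1 2)
    rw [hS_mul, hS_coe, hS_coe, hS_coe, ← ofAdd_add]
    simp

theorem betaU_apply (g : ↥(U F)) (a b c : F)
    (hg : (g : Matrix.SpecialLinearGroup (Fin 3) F) = hS a b c) :
    betaU g = Multiplicative.ofAdd (a, b) := by
  show Multiplicative.ofAdd (((g : Matrix.SpecialLinearGroup (Fin 3) F) :
        Matrix (Fin 3) (Fin 3) F) 0 1, ((g : Matrix.SpecialLinearGroup (Fin 3) F) :
        Matrix (Fin 3) (Fin 3) F) 1 2) = _
  rw [hg, hS_coe]
  simp

/-- the central embedding -/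
noncomputable def iotaU : Multiplicative F →* ↥(U F) where
  toFun c := ⟨hS 0 0 (Multiplicative.toAdd c), ⟨0, 0, _, rfl⟩⟩
  map_one' := by
    apply Subtype.ext
    show hS (0 : F) 0 0 = 1
    exact hS_zero
  map_mul' := by
    intro c c'
    apply Subtype.ext
    show hS (0 : F) 0 (Multiplicative.toAdd (c * c')) =
      hS 0 0 (Multiplicative.toAdd c) * hS 0 0 (Multiplicative.toAdd c')
    rw [hS_mul, toAdd_mul]
    congr 1 <;> ring

end model

variable {F : Type} [Field F] [Fintype F] [CharP F 2]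

/-- U9: the `PSL₃` branch (via the extension lemma). -/
theorem U9_psl {G : Type*} [Group G] [Finite G] {ι : F → G} {β₁ β₂ : G → F} {τ : F}
    (hE : Ext3 (sig τ) ι β₁ β₂) (η : F) (hτ : τ = η ^ 2 + η) :
    Nonempty (G ≃* ↥(Cfsg.Agent.Lib.Helper8.L34.U F)) := by
  have h2 : ∀ x : F, x + x = 0 := fun x => CharTwo.add_self_eq_zero x
  -- data on `G`
  let ι1 : Multiplicative F →* G :=
    { toFun := fun a => ι (Multiplicative.toAdd a)
      map_one' := by
        show ι 0 = 1
        have := hE.iota_add 0 0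
        rw [add_zero] at this
        exact (mul_eq_left.mp this.symm)
      map_mul' := fun a b => hE.iota_add _ _ }
  let β1 : G →* Multiplicative (F × F) :=
    { toFun := fun g => Multiplicative.ofAdd (β₁ g + η * β₂ g, β₁ g + (η + 1) * β₂ g)
      map_one' := by
        have h1 : β₁ (1 : G) = 0 := by
          have := hE.b1_mul 1 1
          rw [mul_one] at this
          exact left_eq_add.mp this
        have h2' : β₂ (1 : G) = 0 := by
          have := hE.b2_mul 1 1
          rw [mul_one] at this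
          exact left_eq_add.mp this
        rw [h1, h2']
        simp
      map_mul' := by
        intro g h
        rw [← ofAdd_add, hE.b1_mul, hE.b2_mul]
        congr 1
        ext <;> simp <;> ring }
  let σ : Multiplicative (F × F) → Multiplicative F :=
    fun x => Multiplicative.ofAdd ((Multiplicative.toAdd x).1 * (Multiplicative.toAdd x).2)
  have hι1 : ∀ a, ι1 a = ι (Multiplicative.toAdd a) := fun a => rfl
  have hβ1 : ∀ g, β1 g = Multiplicative.ofAdd (β₁ g + η * β₂ g, β₁ g + (η + 1) * β₂ g) :=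
    fun g => rfl
  have key : ∀ a b : F, (a + η * b) * (a + (η + 1) * b) = sig τ a b := by
    intro a b
    unfold sig
    rw [hτ]
    have : (a + η * b) * (a + (η + 1) * b) =
        a ^ 2 + a * b + (η ^ 2 + η) * b ^ 2 + (η * a * b + η * a * b) := by ring
    rw [this, h2, add_zero]
  have a1 : Function.Surjective β1 := by
    intro x
    obtain ⟨g, hg1, hg2⟩ := hE.surj ((Multiplicative.toAdd x).1 +
      η * ((Multiplicative.toAdd x).1 + (Multiplicative.toAdd x).2))
      ((Multiplicative.toAdd x).1 + (Multiplicative.toAdd x).2)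
    refine ⟨g, ?_⟩
    rw [hβ1, hg1, hg2]
    apply Multiplicative.toAdd.injective
    ext
    · show (Multiplicative.toAdd x).1 + η * ((Multiplicative.toAdd x).1 + (Multiplicative.toAdd x).2) +
        η * ((Multiplicative.toAdd x).1 + (Multiplicative.toAdd x).2) = (Multiplicative.toAdd x).1
      rw [add_assoc, h2, add_zero]
    · show (Multiplicative.toAdd x).1 + η * ((Multiplicative.toAdd x).1 + (Multiplicative.toAdd x).2) +
        (η + 1) * ((Multiplicative.toAdd x).1 + (Multiplicative.toAdd x).2) = (Multiplicative.toAdd x).2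
      have : (Multiplicative.toAdd x).1 + η * ((Multiplicative.toAdd x).1 + (Multiplicative.toAdd x).2) +
        (η + 1) * ((Multiplicative.toAdd x).1 + (Multiplicative.toAdd x).2) =
        (Multiplicative.toAdd x).2 + ((Multiplicative.toAdd x).1 + (Multiplicative.toAdd x).1) +
        (η * ((Multiplicative.toAdd x).1 + (Multiplicative.toAdd x).2) +
          η * ((Multiplicative.toAdd x).1 + (Multiplicative.toAdd x).2)) := by ring
      rw [this, h2, h2, add_zero, add_zero]
  have a2 : Function.Surjective (betaU (F := F)) := by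
    intro x
    refine ⟨⟨hS (Multiplicative.toAdd x).1 (Multiplicative.toAdd x).2 0, ⟨_, _, _, rfl⟩⟩, ?_⟩
    rw [betaU_apply _ _ _ _ rfl]
    rfl
  have a3 : Function.Injective ι1 := by
    intro a b hab
    exact Multiplicative.toAdd.injective (hE.iota_inj hab)
  have a4 : Function.Injective (iotaU (F := F)) := by
    intro a b hab
    have h1 := congrArg Subtype.val hab
    have h3 : hS (0 : F) 0 (Multiplicative.toAdd a) = hS 0 0 (Multiplicative.toAdd b) := h1
    exact Multiplicative.toAdd.injective (hS_inj h3).2.2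
  have a5 : ι1.range = β1.ker := by
    ext g
    rw [MonoidHom.mem_range, MonoidHom.mem_ker, hβ1]
    constructor
    · rintro ⟨a, rfl⟩
      have := (hE.ker (ι1 a)).mpr ⟨_, rfl⟩
      rw [this.1, this.2]
      simp
    · intro hg
      have hg' : (β₁ g + η * β₂ g, β₁ g + (η + 1) * β₂ g) = ((0 : F), (0 : F)) :=
        Multiplicative.ofAdd.injective hg
      have e1 : β₁ g + η * β₂ g = 0 := congrArg Prod.fst hg'
      have e2 : β₁ g + (η + 1) * β₂ g = 0 := congrArg Prod.snd hg'
      have hb2 : β₂ g = 0 := by linear_combination e2 - e1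
      have hb1 : β₁ g = 0 := by rw [hb2, mul_zero, add_zero] at e1; exact e1
      obtain ⟨a, ha⟩ := (hE.ker g).mp ⟨hb1, hb2⟩
      exact ⟨Multiplicative.ofAdd a, ha⟩
  have a6 : (iotaU (F := F)).range = (betaU (F := F)).ker := by
    ext g
    rw [MonoidHom.mem_range, MonoidHom.mem_ker]
    constructor
    · rintro ⟨c, rfl⟩
      rw [betaU_apply (iotaU c) 0 0 (Multiplicative.toAdd c) rfl]
      rfl
    · obtain ⟨g, a, b, c, rfl⟩ := g
      intro hg
      rw [betaU_apply _ a b c rfl] at hg
      have hg' : (a, b) = ((0 : F), (0 : F)) := Multiplicative.ofAdd.injective hg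
      have ha : a = 0 := congrArg Prod.fst hg'
      have hb : b = 0 := congrArg Prod.snd hg'
      subst ha hb
      exact ⟨Multiplicative.ofAdd c, rfl⟩
  have a7 : ∀ a g, ι1 a * g = g * ι1 a := by
    intro a g
    exact hE.central _ g
  have a8 : ∀ a g, (iotaU (F := F)) a * g = g * iotaU a := by
    rintro c ⟨g, a, b, c', rfl⟩
    apply Subtype.ext
    show hS 0 0 (Multiplicative.toAdd c) * hS a b c' = hS a b c' * hS 0 0 (Multiplicative.toAdd c)
    rw [hS_mul, hS_mul]
    congr 1 <;> ring
  have a9 : ∀ g, g ^ 2 = ι1 (σ (β1 g)) := by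
    intro g
    rw [hE.sq g, hι1, hβ1]
    show ι (sig τ (β₁ g) (β₂ g)) = ι ((β₁ g + η * β₂ g) * (β₁ g + (η + 1) * β₂ g))
    rw [key]
  have a10 : ∀ g, g ^ 2 = (iotaU (F := F)) (σ (betaU g)) := by
    rintro ⟨g, a, b, c, rfl⟩
    apply Subtype.ext
    rw [betaU_apply _ a b c rfl]
    show (hS a b c) ^ 2 = hS 0 0 (a * b)
    rw [sq, hS_mul, h2, h2, h2, zero_add]
  obtain ⟨e, -, -⟩ := Cfsg.Agent.Lib.Helper6.TGSExt.ext_iso σ β1 (betaU (F := F)) ι1
    (iotaU (F := F)) a1 a2 a3 a4 a5 a6 a7 a8 a9 a10
  exact ⟨e⟩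

end Cfsg.Agent.Lib.Helper6.TGSU9
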