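import Mathlib
import Cfsg.Agent.Lib.Helper6.APFDefs

/-!
# S2276, piece LF: splitting a chunk off a cycle given as a list
`(pre b bs post) = (pre b post) ∘ (b bs)`.
-/

set_option autoImplicit false

open Equiv Equiv.Perm

namespace Cfsg.Agent.Lib.Helper6.APF

/-- a swap of two points outside a list commutes with `formPerm` of the list -/
theorem swap_mul_formPerm_comm {Ω : Type*} [DecidableEq Ω] (b y : Ω) (l : List Ω) (hb : b ∉ l)
    (hy : y ∉ l) : swap b y * l.formPerm = l.formPerm * swap b y := by
  have hdisj : Equiv.Perm.Disjoint (swap b y) l.formPerm := by
    intro x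
    by_cases hx : x ∈ l
    · refine Or.inl (Equiv.swap_apply_of_ne_of_ne ?_ ?_)
      · rintro rfl; exact hb hx
      · rintro rfl; exact hy hx
    · exact Or.inr (List.formPerm_apply_of_notMem hx)
  exact hdisj.commute.eq

/-- changing the head of a list conjugates `formPerm` by a swap -/
theorem formPerm_cons_eq_conj {Ω : Type*} [DecidableEq Ω] (b y : Ω) (post : List Ω)
    (hb : b ∉ post) (hy : y ∉ post) (hby : b ≠ y) :
    swap b y * (y :: post).formPerm = (b :: post).formPerm * swap b y := by
  cases post with
  | nil => simp
  | cons q post' =>
    have hbq : b ≠ q := fun h => hb (by simp [h])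
    have hyq : y ≠ q := fun h => hy (by simp [h])
    rw [List.formPerm_cons_cons, List.formPerm_cons_cons]
    have hcomm := swap_mul_formPerm_comm b y (q :: post') hb hy
    have hconj : swap b y * swap y q * (swap b y)⁻¹ = swap b q := by
      rw [← Equiv.swap_apply_apply, Equiv.swap_apply_right,
        Equiv.swap_apply_of_ne_of_ne hbq.symm hyq.symm]
    have hconj' : swap b y * swap y q = swap b q * swap b y := by
      rw [← hconj]; group
    calc swap b y * (swap y q * (q :: post').formPerm)
        = (swap b y * swap y q) * (q :: post').formPerm := by rw [mul_assoc]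
      _ = swap b q * (swap b y * (q :: post').formPerm) := by rw [hconj', mul_assoc]
      _ = swap b q * (q :: post').formPerm * swap b y := by rw [hcomm, mul_assoc]

/-- the case `pre = []` -/
theorem formPerm_cons_append {Ω : Type*} [DecidableEq Ω] (bs : List Ω) :
    ∀ (b : Ω) (post : List Ω), ((b :: bs) ++ post).Nodup →
      ((b :: bs) ++ post).formPerm = (b :: post).formPerm * (b :: bs).formPerm := by
  induction bs with
  | nil => intro b post _; simp
  | cons y bs' ih =>
    intro b post h
    have h' : ((y :: bs') ++ post).Nodup := by
      simp only [List.cons_append, List.nodup_cons] at h ⊢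
      exact h.2
    have hb : b ∉ post := by
      simp only [List.cons_append, List.nodup_cons, List.mem_cons, List.mem_append, not_or] at h
      exact h.1.2.2
    have hy : y ∉ post := by
      simp only [List.cons_append, List.nodup_cons, List.mem_cons, List.mem_append, not_or] at h
      exact h.2.1.2
    have hby : b ≠ y := by
      simp only [List.cons_append, List.nodup_cons, List.mem_cons, List.mem_append, not_or] at h
      exact h.1.1
    have e1 : ((b :: y :: bs') ++ post) = b :: y :: (bs' ++ post) := by simp
    rw [e1, List.formPerm_cons_cons, List.formPerm_cons_cons]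
    have := ih y post h'
    simp only [List.cons_append] at this
    rw [this, ← mul_assoc, formPerm_cons_eq_conj b y post hb hy hby, mul_assoc]

theorem formPerm_append_cons_append {Ω : Type*} [DecidableEq Ω] (pre : List Ω) (b : Ω)
    (bs post : List Ω) (h : (pre ++ (b :: bs) ++ post).Nodup) :
    (pre ++ (b :: bs) ++ post).formPerm = (pre ++ (b :: post)).formPerm * (b :: bs).formPerm := by
  induction pre with
  | nil =>
    simp only [List.nil_append] at h ⊢
    exact formPerm_cons_append bs b post h
  | cons a pre' ih =>
    have h' : (pre' ++ (b :: bs) ++ post).Nodup := by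
      simp only [List.cons_append, List.nodup_cons] at h
      exact h.2
    have ih' := ih h'
    cases pre' with
    | nil =>
      simp only [List.nil_append, List.cons_append] at ih' ⊢
      rw [List.formPerm_cons_cons, List.formPerm_cons_cons, ih', mul_assoc]
    | cons a' pre'' =>
      simp only [List.cons_append] at ih' ⊢
      rw [List.formPerm_cons_cons, List.formPerm_cons_cons a a', ih', mul_assoc]

end Cfsg.Agent.Lib.Helper6.APF
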