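import Mathlib
import Cfsg.Agent.Lib.Helper6.APFDefs
import Cfsg.Agent.Lib.Helper6.APFLF

/-!
# S2276, piece CH: peeling consecutive chunks off a cycle given as a list
-/

set_option autoImplicit false

open Equiv Equiv.Perm

namespace Cfsg.Agent.Lib.Helper6.APF

/-- the cycle type of `formPerm` of a duplicate-free list of length at least two. -/
theorem cycleType_formPerm' {Ω : Type*} [DecidableEq Ω] [Fintype Ω] (l : List Ω) (hl : l.Nodup)
    (hn : 2 ≤ l.length) : l.formPerm.cycleType = {l.length} := by
  rw [(List.isCycle_formPerm hl hn).cycleType, List.support_formPerm_of_nodup l hl,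
    List.toFinset_card_of_nodup hl]
  intro x hx
  rw [hx] at hn
  simp at hn

theorem exists_factor_of_chunks {Ω : Type*} [DecidableEq Ω] [Fintype Ω]
    (β : List ℕ) (hβ : ∀ b ∈ β, 2 ≤ b) (pre L : List Ω) (hnd : (pre ++ L).Nodup)
    (hsum : β.sum ≤ L.length) :
    ∃ (v₀ : Perm Ω) (K : List Ω),
      (pre ++ L).formPerm = (pre ++ K).formPerm * v₀ ∧
      v₀.cycleType = (β : Multiset ℕ) ∧
      K.Sublist L ∧
      K.length + (β.map (fun b => b - 1)).sum = L.length ∧
      (∀ x, x ∉ L → v₀ x = x) := by
  induction β generalizing pre L with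
  | nil =>
    refine ⟨1, L, by simp, by simp, List.Sublist.refl L, by simp, fun x _ => rfl⟩
  | cons b β' ih =>
    have hb2 : 2 ≤ b := hβ b (by simp)
    have hβ' : ∀ b ∈ β', 2 ≤ b := fun x hx => hβ x (by simp [hx])
    rw [List.sum_cons] at hsum
    have hbL : b ≤ L.length := by omega
    have htake_len : (L.take b).length = b := List.length_take_of_le hbL
    obtain ⟨c₁, cs, hchunk⟩ : ∃ c₁ cs, L.take b = c₁ :: cs := by
      cases h : L.take b with
      | nil => rw [h] at htake_len; simp at htake_len; omega
      | cons c₁ cs => exact ⟨c₁, cs, rfl⟩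
    have hL : L = (c₁ :: cs) ++ L.drop b := by rw [← hchunk, List.take_append_drop]
    have hdrop_len : (L.drop b).length = L.length - b := List.length_drop
    have hcs_len : (c₁ :: cs).length = b := by rw [← hchunk, htake_len]
    obtain ⟨R, hR⟩ : ∃ R, R = L.drop b := ⟨_, rfl⟩
    rw [← hR] at hL hdrop_len
    have hnd' : (pre ++ (c₁ :: cs) ++ R).Nodup := by
      rw [List.append_assoc, ← hL]; exact hnd
    have hsub : (pre ++ [c₁] ++ R).Sublist (pre ++ (c₁ :: cs) ++ R) := by
      rw [List.append_assoc, List.append_assoc]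
      refine List.Sublist.append (List.Sublist.refl pre) ?_
      simp only [List.singleton_append, List.cons_append]
      exact List.Sublist.cons₂ c₁ (List.sublist_append_right cs R)
    have hnd'' : (pre ++ [c₁] ++ R).Nodup := hnd'.sublist hsub
    obtain ⟨v₀', K', h1, h2, h3, h4, h5⟩ := ih hβ' (pre ++ [c₁]) R hnd'' (by omega)
    have hLF := formPerm_append_cons_append pre c₁ cs R hnd'
    have hndcs : (c₁ :: cs).Nodup := by
      have := hnd'.sublist (List.sublist_append_left (pre ++ (c₁ :: cs)) R)
      exact this.sublist (List.sublist_append_right pre (c₁ :: cs))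
    have hdisjRcs : ∀ x, x ∈ R → x ∉ (c₁ :: cs) := by
      intro x hxR hxcs
      rw [List.append_assoc] at hnd'
      have h' := (List.nodup_append.1 hnd').2.1
      have := (List.nodup_append.1 h').2.2
      exact this x hxcs x hxR rfl
    refine ⟨v₀' * (c₁ :: cs).formPerm, c₁ :: K', ?_, ?_, ?_, ?_, ?_⟩
    · have e1 : pre ++ L = pre ++ (c₁ :: cs) ++ R := by rw [List.append_assoc, ← hL]
      have e2 : pre ++ (c₁ :: R) = pre ++ [c₁] ++ R := by simp
      have e3 : pre ++ (c₁ :: K') = pre ++ [c₁] ++ K' := by simp
      rw [e1, hLF, e2, h1, e3, mul_assoc]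
    · have hdisj : Equiv.Perm.Disjoint v₀' (c₁ :: cs).formPerm := by
        intro x
        by_cases hx : x ∈ R
        · exact Or.inr (List.formPerm_apply_of_notMem (hdisjRcs x hx))
        · exact Or.inl (h5 x hx)
      rw [hdisj.cycleType_mul, h2, cycleType_formPerm' _ hndcs (by omega), hcs_len,
        ← Multiset.cons_coe, add_comm, Multiset.singleton_add]
    · rw [hL]
      simp only [List.cons_append]
      exact List.Sublist.cons₂ c₁ (h3.trans (List.sublist_append_right cs R))
    · simp only [List.length_cons, List.map_cons, List.sum_cons]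
      have : L.length = b + R.length := by omega
      omega
    · intro x hx
      have hxR : x ∉ R := fun h => hx (by rw [hL]; exact List.mem_append_right _ h)
      have hxcs : x ∉ (c₁ :: cs) := fun h => hx (by rw [hL]; exact List.mem_append_left _ h)
      rw [Equiv.Perm.mul_apply, List.formPerm_apply_of_notMem hxcs, h5 x hxR]

end Cfsg.Agent.Lib.Helper6.APF
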