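import Mathlib

/-!
# S2276: the points `ell c x₀ i = (c ^ i) x₀` of a cycle `c`
-/

set_option autoImplicit false

open Equiv Equiv.Perm

namespace Cfsg.Agent.Lib.Helper6.APF

variable {Ω : Type*} [DecidableEq Ω] [Fintype Ω]

/-- the `i`-th point of the cycle `c` starting from `x₀`. -/
def ell (c : Perm Ω) (x₀ : Ω) (i : ℕ) : Ω := (c ^ i) x₀

theorem ell_zero (c : Perm Ω) (x₀ : Ω) : ell c x₀ 0 = x₀ := by simp [ell]

theorem ell_def (c : Perm Ω) (x₀ : Ω) (i : ℕ) : ell c x₀ i = (c ^ i) x₀ := rfl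

theorem apply_ell (c : Perm Ω) (x₀ : Ω) (i : ℕ) : c (ell c x₀ i) = ell c x₀ (i + 1) := by
  simp only [ell, pow_succ', Equiv.Perm.mul_apply]

theorem pow_apply_ell (c : Perm Ω) (x₀ : Ω) (k i : ℕ) :
    (c ^ k) (ell c x₀ i) = ell c x₀ (i + k) := by
  simp only [ell, ← Equiv.Perm.mul_apply, ← pow_add, add_comm]

theorem ell_eq_imp (c : Perm Ω) (hc : c.IsCycle) (x₀ : Ω) (hx₀ : x₀ ∈ c.support) {i j : ℕ}
    (hij : i ≤ j) (h : ell c x₀ i = ell c x₀ j) : c.support.card ∣ j - i := by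
  have h1 : (c ^ (j - i)) x₀ = x₀ := by
    have : ell c x₀ j = (c ^ i) ((c ^ (j - i)) x₀) := by
      rw [ell, ← Equiv.Perm.mul_apply, ← pow_add, Nat.add_sub_cancel' hij]
    rw [this, ell] at h
    exact ((c ^ i).injective h).symm
  have h2 : c ^ (j - i) = 1 :=
    (hc.pow_eq_one_iff' (Equiv.Perm.mem_support.1 hx₀)).2 h1
  rw [← hc.orderOf]
  exact orderOf_dvd_of_pow_eq_one h2

theorem ell_ne (c : Perm Ω) (hc : c.IsCycle) (x₀ : Ω) (hx₀ : x₀ ∈ c.support) {i j : ℕ}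
    (hij : i < j) (hlt : j - i < c.support.card) : ell c x₀ i ≠ ell c x₀ j := by
  intro h
  have := ell_eq_imp c hc x₀ hx₀ hij.le h
  have := Nat.le_of_dvd (by omega) this
  omega

theorem ell_ne' (c : Perm Ω) (hc : c.IsCycle) (x₀ : Ω) (hx₀ : x₀ ∈ c.support) {i j : ℕ}
    (hij : j < i) (hlt : i - j < c.support.card) : ell c x₀ i ≠ ell c x₀ j :=
  (ell_ne c hc x₀ hx₀ hij hlt).symm

theorem ell_mem_support (c : Perm Ω) (hc : c.IsCycle) (x₀ : Ω) (hx₀ : x₀ ∈ c.support) (i : ℕ) :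
    ell c x₀ i ∈ c.support := by
  rw [ell, Equiv.Perm.pow_apply_mem_support]
  exact hx₀

theorem conj_swap_ell (c : Perm Ω) (x₀ : Ω) (i j : ℕ) :
    c * swap (ell c x₀ i) (ell c x₀ j) * c⁻¹ = swap (ell c x₀ (i + 1)) (ell c x₀ (j + 1)) := by
  rw [← Equiv.swap_apply_apply, apply_ell, apply_ell]

theorem pow_conj_swap_ell (c : Perm Ω) (x₀ : Ω) (k i j : ℕ) :
    c ^ k * swap (ell c x₀ i) (ell c x₀ j) * (c ^ k)⁻¹ =
      swap (ell c x₀ (i + k)) (ell c x₀ (j + k)) := by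
  rw [← Equiv.swap_apply_apply, pow_apply_ell, pow_apply_ell]

/-- a point outside the support of the cycle is different from every `ell`. -/
theorem ne_ell_of_notMem (c : Perm Ω) (hc : c.IsCycle) (x₀ : Ω) (hx₀ : x₀ ∈ c.support) {x : Ω}
    (hx : x ∉ c.support) (i : ℕ) : x ≠ ell c x₀ i := by
  rintro rfl
  exact hx (ell_mem_support c hc x₀ hx₀ i)

theorem swap_ell_apply_of_notMem (c : Perm Ω) (hc : c.IsCycle) (x₀ : Ω) (hx₀ : x₀ ∈ c.support)
    {x : Ω} (hx : x ∉ c.support) (i j : ℕ) : swap (ell c x₀ i) (ell c x₀ j) x = x :=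
  Equiv.swap_apply_of_ne_of_ne (ne_ell_of_notMem c hc x₀ hx₀ hx i)
    (ne_ell_of_notMem c hc x₀ hx₀ hx j)

end Cfsg.Agent.Lib.Helper6.APF
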