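import Mathlib
import Cfsg.Agent.Lib.Helper8.C5Defs
import Cfsg.Agent.Lib.Helper8.C5A5

set_option autoImplicit false
set_option linter.unusedVariables false
set_option linter.unusedSectionVars false
set_option linter.style.longLine false
set_option linter.deprecated false

/-!
# S3433 piece C: counting the elements of order `p = 3, 5` in a `C5`-group (inner form,
with the TI property of the Sylow `p`-subgroups as a hypothesis)
-/

open Cfsg.Agent.Lib.Helper8.C5

namespace Cfsg.Agent.Lib.Helper6.C5

universe u
variable {G : Type u} [Group G] [Finite G]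

/-- a nonidentity element of a Sylow `p`-subgroup (`p = 3, 5`) of a `C5`-group has order `p`. -/
theorem orderOf_eq_of_mem_sylow (h5 : C5 G) (p : ℕ) [Fact p.Prime]
    (hp : p = 3 ∨ p = 5) (R : Sylow p G) {g : G} (hg : g ∈ (R : Subgroup G)) (hg1 : g ≠ 1) :
    orderOf g = p := by
  obtain ⟨k, hk⟩ := (IsPGroup.iff_orderOf.mp R.isPGroup') (⟨g, hg⟩ : ↥(R : Subgroup G))
  rw [Subgroup.orderOf_mk] at hk
  have h1 : orderOf g ≠ 1 := fun h => hg1 (orderOf_eq_one_iff.mp h)
  have h5' := (h5 g).2
  rcases hp with rfl | rfl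
  · match k, hk with
    | 0, hk => exact absurd (by simpa using hk) h1
    | 1, hk => simpa using hk
    | (k+2), hk =>
      exfalso
      have : 9 ≤ 3 ^ (k+2) := by
        calc 9 = 3 ^ 2 := by norm_num
          _ ≤ 3 ^ (k+2) := Nat.pow_le_pow_right (by norm_num) (by omega)
      omega
  · match k, hk with
    | 0, hk => exact absurd (by simpa using hk) h1
    | 1, hk => simpa using hk
    | (k+2), hk =>
      exfalso
      have : 25 ≤ 5 ^ (k+2) := by
        calc 25 = 5 ^ 2 := by norm_num
          _ ≤ 5 ^ (k+2) := Nat.pow_le_pow_right (by norm_num) (by omega)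
      omega

/-- an element of order `p` lies in some Sylow `p`-subgroup. -/
theorem exists_sylow_mem (p : ℕ) [Fact p.Prime] {g : G} (hg : orderOf g = p) :
    ∃ R : Sylow p G, g ∈ (R : Subgroup G) := by
  have hpg : IsPGroup p ↥(Subgroup.zpowers g) := by
    apply IsPGroup.of_card (n := 1)
    rw [Nat.card_zpowers, hg, pow_one]
  obtain ⟨R, hR⟩ := hpg.exists_le_sylow
  exact ⟨R, hR (Subgroup.mem_zpowers g)⟩

/-- counting elements of order `p` from the TI property. -/
theorem card_orderOf_eq_of_ti (h5 : C5 G) (p : ℕ) [Fact p.Prime]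
    (hp : p = 3 ∨ p = 5)
    (hTI : ∀ P Q : Sylow p G, P ≠ Q → (P : Subgroup G) ⊓ (Q : Subgroup G) = ⊥)
    (P : Sylow p G) :
    Nat.card {g : G // orderOf g = p} =
      Nat.card (Sylow p G) * (Nat.card ↥(P : Subgroup G) - 1) := by
  classical
  have : Fintype G := Fintype.ofFinite G
  have : Fintype (Sylow p G) := Fintype.ofFinite _
  have hpp : p.Prime := Fact.out
  have hX : Nat.card {g : G // orderOf g = p} =
      (Finset.univ.filter (fun g : G => orderOf g = p)).card := by
    rw [Nat.card_eq_fintype_card, Fintype.card_subtype]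
  have hU : (Finset.univ.filter (fun g : G => orderOf g = p)) =
      (Finset.univ : Finset (Sylow p G)).biUnion
        (fun R => (Finset.univ.filter (fun g : G => g ∈ (R : Subgroup G))).erase 1) := by
    ext g
    simp only [Finset.mem_filter, Finset.mem_univ, true_and, Finset.mem_biUnion,
      Finset.mem_erase]
    constructor
    · intro hg
      obtain ⟨R, hR⟩ := exists_sylow_mem p hg
      refine ⟨R, ?_, hR⟩
      intro h1
      rw [h1, orderOf_one] at hg
      exact hpp.one_lt.ne hg
    · rintro ⟨R, hg1, hgR⟩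
      exact orderOf_eq_of_mem_sylow h5 p hp R hgR hg1
  have hcardR : ∀ R : Sylow p G,
      ((Finset.univ.filter (fun g : G => g ∈ (R : Subgroup G))).erase 1).card =
        Nat.card ↥(P : Subgroup G) - 1 := by
    intro R
    rw [Finset.card_erase_of_mem (by simp [(R : Subgroup G).one_mem])]
    congr 1
    rw [← Fintype.card_subtype, ← Nat.card_eq_fintype_card]
    show Nat.card ↥(R : Subgroup G) = Nat.card ↥(P : Subgroup G)
    rw [Sylow.card_eq_multiplicity, Sylow.card_eq_multiplicity]
  rw [hX, hU, Finset.card_biUnion]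
  · rw [Finset.sum_congr rfl (fun R _ => hcardR R), Finset.sum_const, Finset.card_univ,
      smul_eq_mul]
    simp only [Nat.card_eq_fintype_card]
  · intro R _ R' _ hne
    change Disjoint _ _
    rw [Finset.disjoint_left]
    intro g hg hg'
    simp only [Finset.mem_erase, Finset.mem_filter, Finset.mem_univ, true_and] at hg hg'
    have : g ∈ (R : Subgroup G) ⊓ (R' : Subgroup G) := ⟨hg.2, hg'.2⟩
    rw [hTI R R' hne, Subgroup.mem_bot] at this
    exact hg.1 this

/-- inner form of piece C (TI as a hypothesis). -/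
theorem count_p_of_ti (h5 : C5 G) (p : ℕ) [Fact p.Prime]
    (hp : p = 3 ∨ p = 5)
    (hTI : ∀ P Q : Sylow p G, P ≠ Q → (P : Subgroup G) ⊓ (Q : Subgroup G) = ⊥)
    (P : Sylow p G) (hP : (P : Subgroup G) ≠ ⊥) :
    ∃ k : ℕ,
      Nat.card ↥(Subgroup.normalizer ((P : Subgroup G) : Set G)) = Nat.card ↥(P : Subgroup G) * k ∧
      Nat.card {g : G // orderOf g = p} * (Nat.card ↥(P : Subgroup G) * k) =
        Nat.card G * (Nat.card ↥(P : Subgroup G) - 1) ∧
      ((∃ x t : G, orderOf x = p ∧ t * x * t⁻¹ = x⁻¹) → Even k) := by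
  classical
  have hpp : p.Prime := Fact.out
  have hPN : (P : Subgroup G) ≤ Subgroup.normalizer ((P : Subgroup G) : Set G) :=
    Subgroup.le_normalizer
  have hdvd : Nat.card ↥(P : Subgroup G) ∣
      Nat.card ↥(Subgroup.normalizer ((P : Subgroup G) : Set G)) :=
    Subgroup.card_dvd_of_le hPN
  obtain ⟨k, hk⟩ := hdvd
  refine ⟨k, hk, ?_, ?_⟩
  · have e2 : Nat.card (Sylow p G) =
        (Subgroup.normalizer ((P : Subgroup G) : Set G)).index :=
      Sylow.card_eq_index_normalizer P
    rw [← hk, card_orderOf_eq_of_ti h5 p hp hTI P, e2]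
    have := Subgroup.card_mul_index (Subgroup.normalizer ((P : Subgroup G) : Set G))
    calc (Subgroup.normalizer ((P : Subgroup G) : Set G)).index * (Nat.card ↥(P : Subgroup G) - 1) *
          Nat.card ↥(Subgroup.normalizer ((P : Subgroup G) : Set G))
        = (Nat.card ↥(Subgroup.normalizer ((P : Subgroup G) : Set G)) *
            (Subgroup.normalizer ((P : Subgroup G) : Set G)).index) *
            (Nat.card ↥(P : Subgroup G) - 1) := by ring
      _ = Nat.card G * (Nat.card ↥(P : Subgroup G) - 1) := by rw [this]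
  · rintro ⟨x, t, hx, htx⟩
    by_contra hodd
    rw [Nat.not_even_iff_odd] at hodd
    -- x lies in a Sylow subgroup R = g • P
    obtain ⟨R, hxR⟩ := exists_sylow_mem p hx
    -- t normalizes R
    have hx1 : x ≠ 1 := by
      intro h; rw [h, orderOf_one] at hx; exact hpp.one_lt.ne hx
    have htR : t • R = R := by
      by_contra hne
      have hbot := hTI (t • R) R hne
      have hmem : x⁻¹ ∈ ((t • R : Sylow p G) : Subgroup G) ⊓ (R : Subgroup G) := by
        refine ⟨?_, (R : Subgroup G).inv_mem hxR⟩
        show x⁻¹ ∈ ((t • R : Sylow p G) : Subgroup G)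
        rw [Sylow.coe_subgroup_smul, Subgroup.mem_smul_pointwise_iff_exists]
        refine ⟨x, hxR, ?_⟩
        show MulAut.conj t x = x⁻¹
        rw [MulAut.conj_apply, htx]
      rw [hbot, Subgroup.mem_bot, inv_eq_one] at hmem
      exact hx1 hmem
    have htN : t ∈ Subgroup.normalizer ((R : Subgroup G) : Set G) :=
      Sylow.smul_eq_iff_mem_normalizer.mp htR
    -- |N(R)| = |N(P)| is odd
    have hcardN : Nat.card ↥(Subgroup.normalizer ((R : Subgroup G) : Set G)) =
        Nat.card ↥(Subgroup.normalizer ((P : Subgroup G) : Set G)) := by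
      have h1 := Subgroup.card_mul_index (Subgroup.normalizer ((R : Subgroup G) : Set G))
      have h2 := Subgroup.card_mul_index (Subgroup.normalizer ((P : Subgroup G) : Set G))
      have e1 : Nat.card (Sylow p G) =
          (Subgroup.normalizer ((R : Subgroup G) : Set G)).index :=
        Sylow.card_eq_index_normalizer R
      have e2 : Nat.card (Sylow p G) =
          (Subgroup.normalizer ((P : Subgroup G) : Set G)).index :=
        Sylow.card_eq_index_normalizer P
      rw [← e1] at h1
      rw [← e2] at h2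
      have hpos : 0 < Nat.card (Sylow p G) := Nat.card_pos
      exact Nat.eq_of_mul_eq_mul_right hpos (h1.trans h2.symm)
    have hPodd : Odd (Nat.card ↥(P : Subgroup G)) := by
      rw [Sylow.card_eq_multiplicity]
      apply Odd.pow
      rcases hp with rfl | rfl <;> decide
    have hNodd : Odd (Nat.card ↥(Subgroup.normalizer ((R : Subgroup G) : Set G))) := by
      rw [hcardN, hk]; exact hPodd.mul hodd
    -- t has odd order
    have htodd : Odd (orderOf t) := by
      have hd : orderOf t ∣ Nat.card ↥(Subgroup.normalizer ((R : Subgroup G) : Set G)) := by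
        have := orderOf_dvd_natCard (⟨t, htN⟩ : ↥(Subgroup.normalizer ((R : Subgroup G) : Set G)))
        rwa [Subgroup.orderOf_mk] at this
      exact hNodd.of_dvd_nat hd
    -- t^2 commutes with x
    have ht2 : t ^ 2 * x = x * t ^ 2 := by
      have h1 : t * x = x⁻¹ * t := by rw [← htx]; group
      have h2 : t * x⁻¹ = x * t := by
        have h3 : t * x⁻¹ * t⁻¹ = x := by
          calc t * x⁻¹ * t⁻¹ = (t * x * t⁻¹)⁻¹ := by group
            _ = x := by rw [htx, inv_inv]
        calc t * x⁻¹ = (t * x⁻¹ * t⁻¹) * t := by group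
          _ = x * t := by rw [h3]
      calc t ^ 2 * x = t * (t * x) := by rw [pow_two, mul_assoc]
        _ = t * (x⁻¹ * t) := by rw [h1]
        _ = (t * x⁻¹) * t := by rw [mul_assoc]
        _ = x * t * t := by rw [h2]
        _ = x * t ^ 2 := by rw [pow_two, mul_assoc]
    -- t is a power of t^2
    obtain ⟨m, hm⟩ := htodd
    have ht : t = (t ^ 2) ^ (m + 1) := by
      rw [← pow_mul, show 2 * (m + 1) = orderOf t + 1 by omega, pow_succ, pow_orderOf_eq_one,
        one_mul]
    have htx' : t * x = x * t := by
      have : Commute (t ^ 2) x := ht2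
      have h3 : Commute ((t ^ 2) ^ (m + 1)) x := this.pow_left _
      rw [← ht] at h3
      exact h3
    have hxx : x = x⁻¹ := by
      rw [← htx, htx']; group
    have hx2 : x ^ 2 = 1 := by
      rw [pow_two]
      nth_rewrite 2 [hxx]
      exact mul_inv_cancel x
    have hd := orderOf_dvd_of_pow_eq_one hx2
    rw [hx] at hd
    have := Nat.le_of_dvd (by norm_num) hd
    rcases hp with rfl | rfl <;> omega

end Cfsg.Agent.Lib.Helper6.C5
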