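import Mathlib
import Cfsg.Agent.Lib.Helper8.C5Defs
import Cfsg.Agent.Lib.Helper8.C5A5
import Cfsg.Agent.Lib.Helper9.C5A
import Cfsg.Agent.Lib.Helper6.C5C

set_option autoImplicit false
set_option linter.unusedVariables false
set_option linter.unusedSectionVars false
set_option linter.style.longLine false
set_option linter.deprecated false

/-!
# S3433 piece C (verbatim wrapper): counting the elements of order `p = 3, 5` in a `C5`-group
-/

open Cfsg.Agent.Lib.Helper8.C5

namespace Cfsg.Agent.Lib.Helper6.C5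

universe u
variable {G : Type u} [Group G] [Finite G]

/-- PIECE C (verbatim). -/
theorem count_p [IsSimpleGroup G] (h5 : C5 G) (hns : ¬ IsSolvable G) (p : ℕ) [Fact p.Prime]
    (hp : p = 3 ∨ p = 5) (P : Sylow p G) (hP : (P : Subgroup G) ≠ ⊥) :
    ∃ k : ℕ,
      Nat.card ↥(Subgroup.normalizer ((P : Subgroup G) : Set G)) = Nat.card ↥(P : Subgroup G) * k ∧
      Nat.card {g : G // orderOf g = p} * (Nat.card ↥(P : Subgroup G) * k) =
        Nat.card G * (Nat.card ↥(P : Subgroup G) - 1) ∧
      ((∃ x t : G, orderOf x = p ∧ t * x * t⁻¹ = x⁻¹) → Even k) :=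
  count_p_of_ti h5 p hp (fun P Q hne => Cfsg.Agent.Lib.Helper9.C5.sylow_ti h5 p hp P Q hne) P hP

end Cfsg.Agent.Lib.Helper6.C5
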