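import Mathlib
import Cfsg.Agent.S0199

set_option autoImplicit false
set_option linter.unusedVariables false
set_option linter.unusedSectionVars false
set_option linter.style.longLine false
set_option linter.deprecated false

/-!
# S3433 pieces B1, B2: in a finite group in which the centralizer of every involution is a
`2`-group and `O_2(G) = 1`, all involutions are conjugate and their centralizers are the Sylow
`2`-subgroups (helper2's one-class lemma, via Baer–Suzuki).
-/

namespace Cfsg.Agent.Lib.Helper6.C5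

universe u
variable {G : Type u} [Group G] [Finite G]

theorem mul_self_of_orderOf_two {c : G} (hc : orderOf c = 2) : c * c = 1 := by
  rw [← pow_two, ← hc, pow_orderOf_eq_one]

theorem inv_eq_self_of_orderOf_two {c : G} (hc : orderOf c = 2) : c⁻¹ = c :=
  inv_eq_of_mul_eq_one_right (mul_self_of_orderOf_two hc)

theorem orderOf_conj_eq (g z : G) : orderOf (g * z * g⁻¹) = orderOf z := by
  have : g * z * g⁻¹ = MulAut.conj g z := by rw [MulAut.conj_apply]
  rw [this, MulEquiv.orderOf_eq]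

/-- two involutions are conjugate or lie in the centralizer of a common involution. -/
theorem invol_dichotomy (c u : G) (hc : orderOf c = 2) (hu : orderOf u = 2) :
    IsConj c u ∨ ∃ j : G, orderOf j = 2 ∧ c * j = j * c ∧ u * j = j * u := by
  have hc2 : c * c = 1 := mul_self_of_orderOf_two hc
  have hu2 : u * u = 1 := mul_self_of_orderOf_two hu
  have hcinv : c⁻¹ = c := inv_eq_self_of_orderOf_two hc
  have huinv : u⁻¹ = u := inv_eq_self_of_orderOf_two hu
  have hinv : c * (c * u) * c⁻¹ = (c * u)⁻¹ := by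
    rw [mul_inv_rev, hcinv, huinv, ← mul_assoc, hc2, one_mul]
  have hpow : ∀ i : ℕ, c * (c * u) ^ i * c⁻¹ = ((c * u) ^ i)⁻¹ := by
    intro i
    rw [← conj_pow, hinv, inv_pow]
  have hpos : 0 < orderOf (c * u) := orderOf_pos (c * u)
  rcases Nat.even_or_odd (orderOf (c * u)) with he | ho
  · right
    obtain ⟨n, hn⟩ := he
    have hn0 : n ≠ 0 := by omega
    have hj2 : ((c * u) ^ n) ^ 2 = 1 := by
      rw [← pow_mul, show n * 2 = orderOf (c * u) by omega, pow_orderOf_eq_one]
    have hj1 : (c * u) ^ n ≠ 1 := pow_ne_one_of_lt_orderOf hn0 (by omega)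
    have hjo : orderOf ((c * u) ^ n) = 2 := orderOf_eq_prime hj2 hj1
    have hjinv : ((c * u) ^ n)⁻¹ = (c * u) ^ n := inv_eq_self_of_orderOf_two hjo
    have hcj : c * (c * u) ^ n = (c * u) ^ n * c := by
      have := hpow n
      rw [hjinv] at this
      calc c * (c * u) ^ n = (c * (c * u) ^ n * c⁻¹) * c := by group
        _ = (c * u) ^ n * c := by rw [this]
    refine ⟨(c * u) ^ n, hjo, hcj, ?_⟩
    -- u = c * (c * u)
    have hu' : u = c * (c * u) := by rw [← mul_assoc, hc2, one_mul]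
    have hd : (c * u) * (c * u) ^ n = (c * u) ^ n * (c * u) := by
      rw [← pow_succ', ← pow_succ]
    calc u * (c * u) ^ n = c * ((c * u) * (c * u) ^ n) := by
          nth_rewrite 1 [hu']; rw [mul_assoc]
      _ = c * ((c * u) ^ n * (c * u)) := by rw [hd]
      _ = (c * (c * u) ^ n) * (c * u) := by rw [mul_assoc]
      _ = (c * u) ^ n * c * (c * u) := by rw [hcj]
      _ = (c * u) ^ n * u := by rw [mul_assoc, ← hu']
  · left
    obtain ⟨j, hj⟩ := ho
    rw [isConj_iff]
    refine ⟨((c * u) ^ (j + 1))⁻¹, ?_⟩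
    rw [inv_inv]
    have h1 : c * (c * u) ^ (j + 1) = ((c * u) ^ (j + 1))⁻¹ * c := by
      have := hpow (j + 1)
      calc c * (c * u) ^ (j + 1) = (c * (c * u) ^ (j + 1) * c⁻¹) * c := by group
        _ = ((c * u) ^ (j + 1))⁻¹ * c := by rw [this]
    have h2 : (c * u) ^ (j + 1) * (c * u) ^ (j + 1) = c * u := by
      rw [← pow_add, show j + 1 + (j + 1) = orderOf (c * u) + 1 by omega, pow_succ,
        pow_orderOf_eq_one, one_mul]
    calc ((c * u) ^ (j + 1))⁻¹ * c * (c * u) ^ (j + 1)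
        = ((c * u) ^ (j + 1))⁻¹ * (c * (c * u) ^ (j + 1)) := by rw [mul_assoc]
      _ = ((c * u) ^ (j + 1))⁻¹ * (((c * u) ^ (j + 1))⁻¹ * c) := by rw [h1]
      _ = ((c * u) ^ (j + 1) * (c * u) ^ (j + 1))⁻¹ * c := by group
      _ = (c * u)⁻¹ * c := by rw [h2]
      _ = u := by rw [mul_inv_rev, hcinv, huinv, mul_assoc, hc2, mul_one]

/-- a central involution of a nontrivial Sylow `2`-subgroup. -/
theorem exists_central_invol (S : Sylow 2 G) (h2 : 2 ∣ Nat.card G) :
    ∃ z : G, z ∈ (S : Subgroup G) ∧ orderOf z = 2 ∧ ∀ s ∈ (S : Subgroup G), s * z = z * s := by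
  have hSne : (S : Subgroup G) ≠ ⊥ := S.ne_bot_of_dvd_card h2
  have hnt : Nontrivial ↥(S : Subgroup G) := (Subgroup.nontrivial_iff_ne_bot _).mpr hSne
  have hcen : Nontrivial (Subgroup.center ↥(S : Subgroup G)) := S.isPGroup'.center_nontrivial
  have hpc : IsPGroup 2 (Subgroup.center ↥(S : Subgroup G)) := S.isPGroup'.to_subgroup _
  obtain ⟨k, hk⟩ := IsPGroup.iff_card.mp hpc
  have hk0 : k ≠ 0 := by
    intro h0
    rw [h0, pow_zero] at hk
    have := Finite.one_lt_card (α := Subgroup.center ↥(S : Subgroup G))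
    omega
  have hdvd : 2 ∣ Nat.card (Subgroup.center ↥(S : Subgroup G)) := by
    rw [hk]; exact dvd_pow_self 2 hk0
  obtain ⟨x, hx⟩ := exists_prime_orderOf_dvd_card' 2 hdvd
  refine ⟨((x : ↥(S : Subgroup G)) : G), (x : ↥(S : Subgroup G)).2, ?_, ?_⟩
  · rw [Subgroup.orderOf_coe, Subgroup.orderOf_coe]; exact hx
  · intro s hs
    have hxc := x.2
    rw [Subgroup.mem_center_iff] at hxc
    have := hxc ⟨s, hs⟩
    exact congrArg Subtype.val this

theorem centralizer_eq_of_central
    (hCIT : ∀ t : G, orderOf t = 2 → IsPGroup 2 ↥(Subgroup.centralizer ({t} : Set G)))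
    (S : Sylow 2 G) (z : G) (hz : orderOf z = 2)
    (hzc : ∀ s ∈ (S : Subgroup G), s * z = z * s) :
    Subgroup.centralizer ({z} : Set G) = (S : Subgroup G) := by
  have hle : (S : Subgroup G) ≤ Subgroup.centralizer ({z} : Set G) := by
    intro s hs
    rw [Subgroup.mem_centralizer_singleton_iff]
    exact hzc s hs
  exact S.is_maximal' (hCIT z hz) hle

/-- every involution is conjugate to a central involution of a Sylow `2`-subgroup. -/
theorem isConj_of_invol
    (hCIT : ∀ t : G, orderOf t = 2 → IsPGroup 2 ↥(Subgroup.centralizer ({t} : Set G)))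
    (hO2 : ∀ N : Subgroup G, N.Normal → IsPGroup 2 ↥N → N = ⊥)
    (S : Sylow 2 G) (z : G) (hzS : z ∈ (S : Subgroup G)) (hz : orderOf z = 2)
    (hzc : ∀ s ∈ (S : Subgroup G), s * z = z * s) (u : G) (hu : orderOf u = 2) :
    IsConj z u := by
  by_contra hnc
  have h2G : 2 ∣ Nat.card G := by rw [← hu]; exact orderOf_dvd_natCard u
  obtain ⟨P, hP⟩ := (hCIT u hu).exists_le_sylow
  obtain ⟨g, hg⟩ := MulAction.exists_smul_eq G S P
  have hzPo : orderOf (g * z * g⁻¹) = 2 := by rw [orderOf_conj_eq, hz]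
  have hzPc : ∀ x ∈ (P : Subgroup G), x * (g * z * g⁻¹) = (g * z * g⁻¹) * x := by
    intro x hx
    rw [← hg, Sylow.coe_subgroup_smul, Subgroup.mem_smul_pointwise_iff_exists] at hx
    obtain ⟨s, hs, rfl⟩ := hx
    show MulAut.conj g s * (g * z * g⁻¹) = (g * z * g⁻¹) * MulAut.conj g s
    rw [MulAut.conj_apply]
    have := hzc s hs
    calc g * s * g⁻¹ * (g * z * g⁻¹) = g * (s * z) * g⁻¹ := by group
      _ = g * (z * s) * g⁻¹ := by rw [this]
      _ = g * z * g⁻¹ * (g * s * g⁻¹) := by group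
  have key : ∀ h : G, ∃ R : Sylow 2 G, g * z * g⁻¹ ∈ (R : Subgroup G) ∧
      h * (g * z * g⁻¹) * h⁻¹ ∈ (R : Subgroup G) := by
    intro h
    have hco : orderOf (h * (g * z * g⁻¹) * h⁻¹) = 2 := by rw [orderOf_conj_eq, hzPo]
    have hcu : ¬ IsConj (h * (g * z * g⁻¹) * h⁻¹) u := by
      intro hh
      apply hnc
      have h1 : IsConj z (g * z * g⁻¹) := isConj_iff.mpr ⟨g, rfl⟩
      have h2 : IsConj (g * z * g⁻¹) (h * (g * z * g⁻¹) * h⁻¹) := isConj_iff.mpr ⟨h, rfl⟩
      exact (h1.trans h2).trans hh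
    rcases invol_dichotomy (h * (g * z * g⁻¹) * h⁻¹) u hco hu with h1 | ⟨j, hj, hjc, hju⟩
    · exact absurd h1 hcu
    · obtain ⟨R, hR⟩ := (hCIT j hj).exists_le_sylow
      have hcR : h * (g * z * g⁻¹) * h⁻¹ ∈ (R : Subgroup G) :=
        hR (Subgroup.mem_centralizer_singleton_iff.mpr hjc)
      have huR : u ∈ (R : Subgroup G) := hR (Subgroup.mem_centralizer_singleton_iff.mpr hju)
      obtain ⟨x, hxR, hxo, hxc⟩ := exists_central_invol R h2G
      have hCx : Subgroup.centralizer ({x} : Set G) = (R : Subgroup G) :=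
        centralizer_eq_of_central hCIT R x hxo hxc
      have hxP : x ∈ (P : Subgroup G) := by
        apply hP
        rw [Subgroup.mem_centralizer_singleton_iff]
        exact (hxc u huR).symm
      have hzPx : g * z * g⁻¹ ∈ Subgroup.centralizer ({x} : Set G) := by
        rw [Subgroup.mem_centralizer_singleton_iff]
        exact (hzPc x hxP).symm
      rw [hCx] at hzPx
      exact ⟨R, hzPx, hcR⟩
  have hX2 : IsPGroup 2 ↥(Subgroup.zpowers (g * z * g⁻¹)) := by
    apply IsPGroup.of_card (n := 1)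
    rw [Nat.card_zpowers, hzPo, pow_one]
  obtain ⟨N, hNn, hN2, hXN⟩ := Cfsg.Agent.S0199.result (p := 2)
    (Subgroup.zpowers (g * z * g⁻¹)) hX2 (fun h => by
      obtain ⟨R, h1, h2⟩ := key h
      apply R.isPGroup'.to_le
      apply sup_le
      · exact (Subgroup.zpowers_le).mpr h1
      · rw [Subgroup.map_le_iff_le_comap, Subgroup.zpowers_le]
        show MulAut.conj h (g * z * g⁻¹) ∈ (R : Subgroup G)
        rw [MulAut.conj_apply]; exact h2)
  have hbot := hO2 N hNn hN2
  have hmem : g * z * g⁻¹ ∈ N := hXN (Subgroup.mem_zpowers _)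
  rw [hbot, Subgroup.mem_bot] at hmem
  rw [hmem, orderOf_one] at hzPo
  omega

/-- PIECE B1 (verbatim). -/
theorem one_class
    (hCIT : ∀ t : G, orderOf t = 2 → IsPGroup 2 ↥(Subgroup.centralizer ({t} : Set G)))
    (hO2 : ∀ N : Subgroup G, N.Normal → IsPGroup 2 ↥N → N = ⊥)
    (s t : G) (hs : orderOf s = 2) (ht : orderOf t = 2) : IsConj s t := by
  have h2G : 2 ∣ Nat.card G := by rw [← hs]; exact orderOf_dvd_natCard s
  obtain ⟨S⟩ := (inferInstance : Nonempty (Sylow 2 G))
  obtain ⟨z, hzS, hz, hzc⟩ := exists_central_invol S h2G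
  exact (isConj_of_invol hCIT hO2 S z hzS hz hzc s hs).symm.trans
    (isConj_of_invol hCIT hO2 S z hzS hz hzc t ht)

theorem card_centralizer_conj (g z : G) :
    Nat.card ↥(Subgroup.centralizer ({g * z * g⁻¹} : Set G)) =
      Nat.card ↥(Subgroup.centralizer ({z} : Set G)) := by
  apply Nat.card_congr
  refine
    { toFun := fun x => ⟨g⁻¹ * x.1 * g, ?_⟩
      invFun := fun x => ⟨g * x.1 * g⁻¹, ?_⟩
      left_inv := ?_
      right_inv := ?_ }
  · have h := x.2
    rw [Subgroup.mem_centralizer_singleton_iff] at h ⊢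
    calc g⁻¹ * x.1 * g * z = g⁻¹ * (x.1 * (g * z * g⁻¹)) * g := by group
      _ = g⁻¹ * ((g * z * g⁻¹) * x.1) * g := by rw [h]
      _ = z * (g⁻¹ * x.1 * g) := by group
  · have h := x.2
    rw [Subgroup.mem_centralizer_singleton_iff] at h ⊢
    calc g * x.1 * g⁻¹ * (g * z * g⁻¹) = g * (x.1 * z) * g⁻¹ := by group
      _ = g * (z * x.1) * g⁻¹ := by rw [h]
      _ = g * z * g⁻¹ * (g * x.1 * g⁻¹) := by group
  · intro x; apply Subtype.ext; show g * (g⁻¹ * x.1 * g) * g⁻¹ = x.1; group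
  · intro x; apply Subtype.ext; show g⁻¹ * (g * x.1 * g⁻¹) * g = x.1; group

/-- PIECE B2 (verbatim). -/
theorem card_centralizer_invol
    (hCIT : ∀ t : G, orderOf t = 2 → IsPGroup 2 ↥(Subgroup.centralizer ({t} : Set G)))
    (hO2 : ∀ N : Subgroup G, N.Normal → IsPGroup 2 ↥N → N = ⊥)
    (S : Sylow 2 G) (t : G) (ht : orderOf t = 2) :
    Nat.card ↥(Subgroup.centralizer ({t} : Set G)) = Nat.card ↥(S : Subgroup G) := by
  have h2G : 2 ∣ Nat.card G := by rw [← ht]; exact orderOf_dvd_natCard t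
  obtain ⟨z, hzS, hz, hzc⟩ := exists_central_invol S h2G
  obtain ⟨g, hg⟩ := isConj_iff.mp (isConj_of_invol hCIT hO2 S z hzS hz hzc t ht)
  rw [← hg, card_centralizer_conj, centralizer_eq_of_central hCIT S z hz hzc]

end Cfsg.Agent.Lib.Helper6.C5
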