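import Mathlib
import Cfsg.Agent.Lib.Helper7.TIV5
import Cfsg.Agent.Lib.Helper6.C5B

set_option autoImplicit false
set_option linter.unusedVariables false
set_option linter.unusedSectionVars false
set_option linter.style.longLine false
set_option linter.deprecated false

/-!
# S3433 piece D: counting the elements of order `2` and `4` (inner form, with the one-class
lemma and the centralizer order as hypotheses)
-/

namespace Cfsg.Agent.Lib.Helper6.C5

universe u
variable {G : Type u} [Group G] [Finite G]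

/-- the number of square roots is a class function of the target. -/
theorem card_sqrt_conj (z g : G) :
    Nat.card {u : G // u ^ 2 = g * z * g⁻¹} = Nat.card {u : G // u ^ 2 = z} := by
  apply Nat.card_congr
  refine
    { toFun := fun u => ⟨g⁻¹ * u.1 * g, ?_⟩
      invFun := fun u => ⟨g * u.1 * g⁻¹, ?_⟩
      left_inv := ?_
      right_inv := ?_ }
  · have h := u.2
    calc (g⁻¹ * u.1 * g) ^ 2 = g⁻¹ * u.1 ^ 2 * g := by rw [pow_two, pow_two]; group
      _ = z := by rw [h]; group
  · have h := u.2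
    calc (g * u.1 * g⁻¹) ^ 2 = g * u.1 ^ 2 * g⁻¹ := by rw [pow_two, pow_two]; group
      _ = g * z * g⁻¹ := by rw [h]
  · intro u; apply Subtype.ext; show g * (g⁻¹ * u.1 * g) * g⁻¹ = u.1; group
  · intro u; apply Subtype.ext; show g⁻¹ * (g * u.1 * g⁻¹) * g = u.1; group

/-- an element whose square has order `2` has order `4`. -/
theorem orderOf_eq_four_of_sq {u t : G} (ht : orderOf t = 2) (hu : u ^ 2 = t) :
    orderOf u = 4 := by
  have h4 : u ^ 4 = 1 := by
    calc u ^ 4 = (u ^ 2) ^ 2 := by rw [← pow_mul]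
      _ = 1 := by rw [hu, ← ht, pow_orderOf_eq_one]
  have h2 : u ^ 2 ≠ 1 := by
    rw [hu]; intro h; rw [h, orderOf_one] at ht; omega
  have hd : orderOf u ∣ 4 := orderOf_dvd_of_pow_eq_one h4
  have hn2 : ¬ orderOf u ∣ 2 := fun h => h2 (orderOf_dvd_iff_pow_eq_one.mp h)
  have hle : orderOf u ≤ 4 := Nat.le_of_dvd (by norm_num) hd
  have hpos : 0 < orderOf u := Nat.pos_of_dvd_of_pos hd (by norm_num)
  interval_cases h : orderOf u
  · exact absurd (one_dvd 2) hn2
  · exact absurd (dvd_refl 2) hn2
  · norm_num at hd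
  · rfl

/-- the square of an element of order `4` has order `2`. -/
theorem orderOf_sq_of_four {u : G} (hu : orderOf u = 4) : orderOf (u ^ 2) = 2 := by
  rw [orderOf_pow' u (by norm_num : (2:ℕ) ≠ 0), hu]
  norm_num

/-- inner form of piece D. -/
theorem count_two_of
    (hB1 : ∀ s t : G, orderOf s = 2 → orderOf t = 2 → IsConj s t)
    (S : Sylow 2 G)
    (hB2 : ∀ t : G, orderOf t = 2 →
      Nat.card ↥(Subgroup.centralizer ({t} : Set G)) = Nat.card ↥(S : Subgroup G))
    (z : G) (hz : orderOf z = 2) :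
    Nat.card {g : G // orderOf g = 2} * Nat.card ↥(S : Subgroup G) = Nat.card G ∧
    Nat.card {g : G // orderOf g = 4} * Nat.card ↥(S : Subgroup G) =
      Nat.card G * Nat.card {u : G // u ^ 2 = z} := by
  classical
  have : Fintype G := Fintype.ofFinite G
  -- the involutions are the conjugates of z
  have hset : Nat.card {g : G // orderOf g = 2} = Nat.card {t : G // ∃ g : G, t = g * z * g⁻¹} := by
    apply Nat.card_congr
    apply Equiv.subtypeEquivRight
    intro t
    constructor
    · intro ht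
      obtain ⟨c, hc⟩ := isConj_iff.mp (hB1 z t hz ht)
      exact ⟨c, hc.symm⟩
    · rintro ⟨g, rfl⟩
      have : g * z * g⁻¹ = MulAut.conj g z := by rw [MulAut.conj_apply]
      rw [this, MulEquiv.orderOf_eq, hz]
  have h2 : Nat.card {g : G // orderOf g = 2} * Nat.card ↥(S : Subgroup G) = Nat.card G := by
    rw [hset, ← hB2 z hz]
    exact Cfsg.Agent.Lib.Helper7.TIV.card_conj_class z
  refine ⟨h2, ?_⟩
  -- elements of order 4 fibre over the involutions
  have hsig : Nat.card {g : G // orderOf g = 4} =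
      Nat.card (Σ t : {t : G // orderOf t = 2}, {u : G // u ^ 2 = t.1}) := by
    apply Nat.card_congr
    refine
      { toFun := fun g => ⟨⟨g.1 ^ 2, orderOf_sq_of_four g.2⟩, ⟨g.1, rfl⟩⟩
        invFun := fun x => ⟨x.2.1, orderOf_eq_four_of_sq x.1.2 x.2.2⟩
        left_inv := ?_
        right_inv := ?_ }
    · intro g; rfl
    · intro x
      obtain ⟨⟨t, ht⟩, ⟨u, hu⟩⟩ := x
      cases hu
      rfl
  have hfib : ∀ t : {t : G // orderOf t = 2},
      Nat.card {u : G // u ^ 2 = t.1} = Nat.card {u : G // u ^ 2 = z} := by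
    intro t
    obtain ⟨c, hc⟩ := isConj_iff.mp (hB1 z t.1 hz t.2)
    rw [← hc]
    exact card_sqrt_conj z c
  have : Fintype {t : G // orderOf t = 2} := Fintype.ofFinite _
  rw [hsig, Nat.card_sigma, Finset.sum_congr rfl (fun t _ => hfib t), Finset.sum_const,
    Finset.card_univ, smul_eq_mul, ← Nat.card_eq_fintype_card, ← h2]
  ring

/-- PIECE D (verbatim). -/
theorem count_two
    (hCIT : ∀ t : G, orderOf t = 2 → IsPGroup 2 ↥(Subgroup.centralizer ({t} : Set G)))
    (hO2 : ∀ N : Subgroup G, N.Normal → IsPGroup 2 ↥N → N = ⊥)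
    (S : Sylow 2 G) (z : G) (hz : orderOf z = 2) (hzS : z ∈ (S : Subgroup G))
    (hzc : ∀ s ∈ (S : Subgroup G), s * z = z * s) :
    Nat.card {g : G // orderOf g = 2} * Nat.card ↥(S : Subgroup G) = Nat.card G ∧
    Nat.card {g : G // orderOf g = 4} * Nat.card ↥(S : Subgroup G) =
      Nat.card G * Nat.card {u : G // u ^ 2 = z} :=
  count_two_of (fun s t hs ht => one_class hCIT hO2 s t hs ht) S
    (fun t ht => card_centralizer_invol hCIT hO2 S t ht) z hz

end Cfsg.Agent.Lib.Helper6.C5
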