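import Mathlib

set_option autoImplicit false
set_option linter.unusedVariables false
set_option linter.style.longLine false

/-! # S0747: the conclusion "`G` induces at least the alternating group on `Δ`" -/

namespace Cfsg.Agent.Lib.Helper6.KHom

variable {α : Type*} [Fintype α] [DecidableEq α] (G : Subgroup (Equiv.Perm α))

/-- every even permutation of `Δ` is induced by an element of `G` -/
def InducesAlt (Δ : Finset α) : Prop :=
  ∀ σ : Equiv.Perm ↥Δ, σ ∈ alternatingGroup ↥Δ → ∃ g ∈ G, ∀ x : ↥Δ, g (x : α) = σ x

end Cfsg.Agent.Lib.Helper6.KHom
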