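import Mathlib
import Cfsg.Agent.Lib.Helper6.BR11

/-!
# Boundary versions (degree at most `(p - 1) / 2`) of the local analysis of small characters
-/

set_option autoImplicit false
set_option linter.unusedSectionVars false

namespace Cfsg.Agent.Lib.Helper6.BH

open Cfsg.Agent.Lib.Helper6 Cfsg.Agent.Lib.Helper6.PB Cfsg.Agent.Lib.Helper6.BR
open scoped ComplexConjugate

variable {G : Type*} [Group G] [Fintype G] [DecidableEq G] {p : ℕ} [hp : Fact p.Prime]
variable {P : Sylow p G}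
variable [Fintype ↥(Subgroup.centralizer ((P : Subgroup G) : Set G))]
variable [Fintype ↥(Subgroup.normalizer ((P : Subgroup G) : Set G))]
variable {M : Ideal Cfsg.AlgInt}

local notation "𝐂" => Subgroup.centralizer ((P : Subgroup G) : Set G)
local notation "𝐍" => Subgroup.normalizer ((P : Subgroup G) : Set G)

section str

variable {L : Loc M P} (hP : Nat.card P = p) (hM : Cfsg.IsPModular p M)
variable {B : Set (Cfsg.IrrCharacter G)} (hB : Cfsg.IsPBlock M B)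
  (hBP : Cfsg.IsDefectGroup p M B (P : Subgroup G))
  (hind : Cfsg.IsInducedBlock M (Subgroup.centralizer ((P : Subgroup G) : Set G)) L.b B)
variable (K : L.Str B)
include hP hM hB hBP hind

/-- an exceptional character of small degree which is not trivial on `P` has negative sign -/
theorem delta_eq_neg_one' (j : L.J) (hd : 2 * Cfsg.charDegree (K.Λ j : G → ℂ) + 1 ≤ p)
    (hnk : ¬ ∀ x : 𝐂, (x : G) ∈ (P : Subgroup G) →
      (K.Λ j : G → ℂ) x = (K.Λ j : G → ℂ) 1) : K.δ (K.Λ j) = -1 := by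
  classical
  have : Fintype (Cfsg.IrrCharacter 𝐂) := Fintype.ofFinite _
  rcases K.sgn (K.Λ j) with hδ | hδ
  swap
  · exact hδ
  exfalso
  have hdiag := K.diag j
  unfold aco at hdiag
  rw [hδ] at hdiag
  have hθ1 : 1 ≤ mlt P (K.Λ j) L.θ := by omega
  have hdeg1 : 1 ≤ Cfsg.charDegree (L.θ : 𝐂 → ℂ) := IsIrrCharacter.charDegree_pos L.θ.2
  by_cases he : L.e = p - 1
  · apply hnk
    apply const_of_orb_theta hP hM hB hBP hind (K.Λ j) hθ1 (by omega)
    have hcong := K.degree_Y hP hM hB hBP hind j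
    rw [hδ] at hcong
    have hr := card_orb_theta L hP hM
    rw [he] at hr
    have hp1 : 1 ≤ p := hp.out.one_lt.le
    have hcast : (((𝐂).relIndex 𝐍 : ℕ) : ℤ) = ((orb L.θ).card : ℤ) * ((p : ℤ) - 1) := by
      rw [← hr]
      push_cast [Nat.cast_sub hp1]
      ring
    rw [Int.modEq_iff_dvd] at hcong ⊢
    obtain ⟨k, hk⟩ := hcong
    refine ⟨k + (orb L.θ).card * Cfsg.charDegree (L.θ : 𝐂 → ℂ), ?_⟩
    push_cast at hk ⊢
    rw [hcast] at hk
    linear_combination hk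
  · -- at least two classes
    have hJe := L.card_J_mul_e hP hM
    have hJ2 : 2 ≤ Nat.card L.J := by
      have hp1 : 2 ≤ p := hp.out.two_le
      rcases Nat.lt_or_ge (Nat.card L.J) 2 with h | h
      · interval_cases hJ : Nat.card L.J
        · rw [zero_mul] at hJe; omega
        · rw [one_mul] at hJe; exact absurd hJe he
      · exact h
    have h2e : 2 * L.e ≤ p - 1 := by
      rw [← hJe]
      exact Nat.mul_le_mul_right _ hJ2
    obtain ⟨cls, hcls⟩ : ∃ cls : Finset (Cfsg.IrrCharacter 𝐂),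
        cls = (Finset.univ.filter (· ∈ L.star)).filter
          (fun ξ' : Cfsg.IrrCharacter 𝐂 => ∃ n : 𝐍, act P n (L.rep j) = ξ') := ⟨_, rfl⟩
    have hclscard : cls.card = L.e := by
      rw [hcls]
      exact L.card_class hP hM (L.rep_mem j)
    have hbcard : (Finset.univ.filter (· ∈ L.b)).card = p := by
      have := card_block P hP hM L.hb
      rwa [Nat.card_eq_fintype_card, Fintype.card_subtype] at this
    have hsub : cls ⊆ Finset.univ.filter (· ∈ L.b) := by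
      intro ξ hξ
      rw [hcls] at hξ
      have := (Finset.mem_filter.mp (Finset.mem_filter.mp hξ).1).2
      exact Finset.mem_filter.mpr ⟨Finset.mem_univ _, this.1⟩
    have h𝒯 : ∀ ξ ∈ (Finset.univ.filter (· ∈ L.b)) \ cls, 1 ≤ mlt P (K.Λ j) ξ := by
      intro ξ hξ
      obtain ⟨hξb, hξn⟩ := Finset.mem_sdiff.mp hξ
      have hξb' : ξ ∈ L.b := (Finset.mem_filter.mp hξb).2
      by_cases hθ : ξ = L.θ
      · rw [hθ]; exact hθ1
      · have hξs : ξ ∈ L.star := ⟨hξb', hθ⟩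
        have hne : j ≠ Quotient.mk L.rel ⟨ξ, hξs⟩ := by
          intro hj
          apply hξn
          rw [hcls]
          refine Finset.mem_filter.mpr ⟨Finset.mem_filter.mpr ⟨Finset.mem_univ _, hξs⟩, ?_⟩
          exact (L.rel_rep_mk hξs j).mpr hj
        have h1 := L.aco_eq_rep hξs (K.Λ j)
        rw [K.off j _ hne] at h1
        unfold aco at h1
        omega
    have hsum := sum_le_degree (K.Λ j) _ h𝒯
    have hconst : ∑ ξ ∈ (Finset.univ.filter (· ∈ L.b)) \ cls, Cfsg.charDegree (ξ : 𝐂 → ℂ)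
        = (p - L.e) * Cfsg.charDegree (L.θ : 𝐂 → ℂ) := by
      rw [Finset.sum_const_nat (m := Cfsg.charDegree (L.θ : 𝐂 → ℂ)), Finset.card_sdiff_of_subset hsub,
        hbcard, hclscard]
      intro ξ hξ
      exact degree_mem_b hP hM hB hBP hind (Finset.mem_filter.mp (Finset.mem_sdiff.mp hξ).1).2
    rw [hconst] at hsum
    have h3 : p - L.e ≤ (p - L.e) * Cfsg.charDegree (L.θ : 𝐂 → ℂ) :=
      Nat.le_mul_of_pos_right _ hdeg1
    omega

/-- a non-exceptional character of small degree has `P` in its kernel -/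
theorem const_of_mem_S' {χ : Cfsg.IrrCharacter G} (hχ : χ ∈ K.S)
    (hd : 2 * Cfsg.charDegree (χ : G → ℂ) + 1 ≤ p) :
    ∀ x : 𝐂, (x : G) ∈ (P : Subgroup G) → (χ : G → ℂ) x = (χ : G → ℂ) 1 := by
  classical
  have hp2 := hp.out.two_le
  have : Fintype (Cfsg.IrrCharacter 𝐂) := Fintype.ofFinite _
  obtain ⟨j₀⟩ := L.nonempty_J hP hM
  have hdeg1 : 1 ≤ Cfsg.charDegree (L.θ : 𝐂 → ℂ) := IsIrrCharacter.charDegree_pos L.θ.2
  rcases K.sgn χ with hδ | hδ
  · have h0 := K.aco_S hχ (L.rep_mem j₀)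
    rw [hδ] at h0
    unfold aco at h0
    have hθ1 : 1 ≤ mlt P χ L.θ := by omega
    apply const_of_orb_theta hP hM hB hBP hind χ hθ1 (by omega)
    have hcong := K.degree_S hP hM hB hBP hind hχ
    rw [hδ, one_mul] at hcong
    have hr := card_orb_theta L hP hM
    have hdiv : (𝐂).relIndex 𝐍 / L.e = (orb L.θ).card := by
      rw [← hr]
      exact Nat.mul_div_cancel _ L.e_pos
    rw [hdiv] at hcong
    exact hcong
  · exfalso
    have h𝒯 : ∀ ξ ∈ Finset.univ.filter (· ∈ L.star), 1 ≤ mlt P χ ξ := by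
      intro ξ hξ
      have hξs : ξ ∈ L.star := (Finset.mem_filter.mp hξ).2
      have h0 := K.aco_S hχ hξs
      rw [hδ] at h0
      unfold aco at h0
      omega
    have hsum := sum_le_degree χ _ h𝒯
    have hcard : (Finset.univ.filter (· ∈ L.star)).card = p - 1 := by
      have := L.card_star hP hM
      rwa [Nat.card_eq_fintype_card, Fintype.card_subtype] at this
    have hconst : ∑ ξ ∈ Finset.univ.filter (· ∈ L.star), Cfsg.charDegree (ξ : 𝐂 → ℂ)
        = (p - 1) * Cfsg.charDegree (L.θ : 𝐂 → ℂ) := by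
      rw [Finset.sum_const_nat (m := Cfsg.charDegree (L.θ : 𝐂 → ℂ)), hcard]
      intro ξ hξ
      exact degree_mem_b hP hM hB hBP hind ((Finset.mem_filter.mp hξ).2).1
    rw [hconst] at hsum
    have h3 : p - 1 ≤ (p - 1) * Cfsg.charDegree (L.θ : 𝐂 → ℂ) :=
      Nat.le_mul_of_pos_right _ hdeg1
    omega

end str

section main

variable (hP : Nat.card P = p) (hM : Cfsg.IsPModular p M)
include hP hM

theorem exists_small' (Λ : Cfsg.IrrCharacter G)
    (hd : 2 * Cfsg.charDegree (Λ : G → ℂ) + 1 ≤ p)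
    (hnk : ¬ ∀ x : 𝐂, (x : G) ∈ (P : Subgroup G) → (Λ : G → ℂ) x = (Λ : G → ℂ) 1) :
    Nonempty (Small M P Λ) := by
  have hdpos := IsIrrCharacter.charDegree_pos Λ.2
  have hpd : ¬ p ∣ Cfsg.charDegree (Λ : G → ℂ) := Nat.not_dvd_of_pos_of_lt hdpos (by omega)
  have hB : Cfsg.IsPBlock M (Cfsg.blockOf M (Λ : G → ℂ)) := ⟨Λ, rfl⟩
  have hBP := isDefectGroup_blockOf P hP hM Λ hpd
  obtain ⟨L, hind⟩ := exists_loc P hP hM hB hBP
  obtain ⟨K⟩ := L.exists_str hP hM hB hBP hind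
  have hΛB : Λ ∈ Cfsg.blockOf M (Λ : G → ℂ) := sameBlock_refl hM _
  rw [K.union_eq] at hΛB
  rcases hΛB with hS | ⟨j, hj⟩
  · exact absurd (const_of_mem_S' hP hM hB hBP hind K hS hd) hnk
  · have hδ : K.δ (K.Λ j) = -1 := by
      apply delta_eq_neg_one' hP hM hB hBP hind K j
      · rw [hj]; exact hd
      · rw [hj]; exact hnk
    exact ⟨⟨_, hB, hBP, L, hind, K, j, hj, hδ⟩⟩

/-- a small irreducible character not trivial on `P` yields an irreducible character whose kernel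
contains the `p`-regular elements of the centralizer but not `P` -/
theorem exists_kernel_char' (Λ : Cfsg.IrrCharacter G)
    (hd : 2 * Cfsg.charDegree (Λ : G → ℂ) + 1 ≤ p)
    (hnk : ¬ ∀ x : 𝐂, (x : G) ∈ (P : Subgroup G) → (Λ : G → ℂ) x = (Λ : G → ℂ) 1) :
    ∃ ψ : Cfsg.IrrCharacter G,
      (∀ c : 𝐂, ¬ p ∣ orderOf c → (ψ : G → ℂ) c = (ψ : G → ℂ) 1) ∧
      ¬ ∀ x : 𝐂, (x : G) ∈ (P : Subgroup G) → (ψ : G → ℂ) x = (ψ : G → ℂ) 1 := by
  classical
  have hp2 := hp.out.two_le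
  have : Fintype (Cfsg.IrrCharacter 𝐂) := Fintype.ofFinite _
  obtain ⟨D⟩ := exists_small' hP hM Λ hd hnk
  have hdp : Cfsg.charDegree (Λ : G → ℂ) < p := by omega
  obtain ⟨hdeg, hmlt₁⟩ := D.mlt_eq hP hM hdp D.j
  have hθpos : 1 ≤ Cfsg.charDegree (D.L.θ : 𝐂 → ℂ) := IsIrrCharacter.charDegree_pos D.L.θ.2
  have hm : (𝐂).relIndex 𝐍 < p - 1 := by
    have : (𝐂).relIndex 𝐍 ≤ (𝐂).relIndex 𝐍 * Cfsg.charDegree (D.L.θ : 𝐂 → ℂ) :=
      Nat.le_mul_of_pos_right _ hθpos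
    omega
  obtain ⟨ξ', hξ's, hns⟩ := exists_not_sameP hP hM D.L (D.L.rep_mem D.j) hm
  obtain ⟨j₂, hj₂⟩ : ∃ j₂ : D.L.J, j₂ = Quotient.mk D.L.rel ⟨ξ', hξ's⟩ := ⟨_, rfl⟩
  obtain ⟨-, hmlt₂⟩ := D.mlt_eq hP hM hdp j₂
  obtain ⟨n, hn⟩ := (D.L.rel_rep_mk hξ's j₂).mpr hj₂
  have hdis : ∀ ξ ξ'' : Cfsg.IrrCharacter 𝐂, mlt P (D.K.Λ D.j) ξ ≠ 0 →
      mlt P (D.K.Λ j₂) ξ'' ≠ 0 → ¬ SameP ξ ξ'' := by
    intro ξ ξ'' h1 h2
    have hξ : ξ ∈ orb (D.L.rep D.j) := by
      by_contra hnot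
      rw [hmlt₁ ξ, if_neg hnot] at h1
      exact h1 rfl
    have hξ'' : ξ'' ∈ orb (D.L.rep j₂) := by
      by_contra hnot
      rw [hmlt₂ ξ'', if_neg hnot] at h2
      exact h2 rfl
    have hξ''2 : ξ'' ∈ orb ξ' := by
      obtain ⟨k, rfl⟩ := (mem_orb _ _).mp hξ''
      refine (mem_orb _ _).mpr ⟨k * n⁻¹, ?_⟩
      rw [act_mul, ← hn, act_inv_act]
    exact not_sameP_orb hns hξ hξ''2
  obtain ⟨ψ, hψ, ha⟩ := exists_prin_aP_zero hP hM (D.K.Λ D.j) (D.K.Λ j₂) hdis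
    (D.K.agree hP hM D.hind D.j j₂)
  exact ⟨ψ, apply_eq_of_pRegular hP hM hψ ha, not_const_of_aP hP hM ha⟩

/-- if the normalizer of `P` coincides with its centralizer, a small irreducible character which
is nontrivial on `P` has maximal absolute value on `P` -/
theorem norm_eq_of_N_le_C' (hNC : 𝐍 ≤ 𝐂) (Λ : Cfsg.IrrCharacter G)
    (hd : 2 * Cfsg.charDegree (Λ : G → ℂ) + 1 ≤ p)
    (hnk : ¬ ∀ x : 𝐂, (x : G) ∈ (P : Subgroup G) → (Λ : G → ℂ) x = (Λ : G → ℂ) 1) :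
    ∀ x ∈ (P : Subgroup G), ‖(Λ : G → ℂ) x‖ = ‖(Λ : G → ℂ) 1‖ := by
  classical
  have : Fintype (Cfsg.IrrCharacter 𝐂) := Fintype.ofFinite _
  obtain ⟨D⟩ := exists_small' hP hM Λ hd hnk
  have hdp : Cfsg.charDegree (Λ : G → ℂ) < p := by omega
  obtain ⟨-, hm⟩ := D.mlt_eq hP hM hdp D.j
  rw [D.hΛ] at hm
  have hcard : (orb (D.L.rep D.j)).card = 1 := by
    rw [card_orb_star D.L hP hM (D.L.rep_mem D.j)]
    exact Subgroup.relIndex_eq_one.mpr hNC
  obtain ⟨a, ha⟩ := Finset.card_eq_one.mp hcard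
  have hself := self_mem_orb (P := P) (D.L.rep D.j)
  rw [ha, Finset.mem_singleton] at hself
  have hval : ∀ c : 𝐂, (Λ : G → ℂ) c = (D.L.rep D.j : 𝐂 → ℂ) c := by
    intro c
    rw [restrict_eq_sum Λ c, Finset.sum_eq_single (D.L.rep D.j)]
    · rw [hm, if_pos (self_mem_orb _)]
      simp
    · intro ξ _ hne
      rw [hm, if_neg]
      · simp
      · rw [ha, Finset.mem_singleton, ← hself]
        exact hne
    · intro h; exact absurd (Finset.mem_univ _) h
  intro x hx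
  obtain ⟨xc, hxc⟩ : ∃ xc : 𝐂, (xc : G) = x := ⟨⟨x, P_le_C P hP hx⟩, rfl⟩
  have hxcP : (xc : G) ∈ (P : Subgroup G) := by rw [hxc]; exact hx
  have h1 := mul_conj_self_of_mem_P hP (D.L.rep D.j) hxcP
  have h2 := hval xc
  have h3 := hval 1
  rw [hxc] at h2
  have h3' : (Λ : G → ℂ) 1 = (D.L.rep D.j : 𝐂 → ℂ) 1 := h3
  rw [← h2, ← h3'] at h1
  have h4 : conj ((Λ : G → ℂ) 1) = (Λ : G → ℂ) 1 := by
    rw [IsCharacter.apply_one_eq_charDegree (IsIrrCharacter.isCharacter Λ.2), Complex.conj_natCast]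
  have h5 : (Λ : G → ℂ) x * conj ((Λ : G → ℂ) x) = (Λ : G → ℂ) 1 * conj ((Λ : G → ℂ) 1) := by
    rw [h4]; exact h1
  rw [Complex.mul_conj, Complex.mul_conj] at h5
  have h6 : Complex.normSq ((Λ : G → ℂ) x) = Complex.normSq ((Λ : G → ℂ) 1) := by
    exact_mod_cast h5
  rw [← Complex.sq_norm, ← Complex.sq_norm] at h6
  exact (sq_eq_sq₀ (norm_nonneg _) (norm_nonneg _)).mp h6

end main

end Cfsg.Agent.Lib.Helper6.BH
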