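import Mathlib
import Cfsg.Agent.Lib.Helper6.BH1
import Cfsg.Agent.Lib.Helper6.BR13
import Cfsg.Agent.Lib.Helper6.CharMisc
import Cfsg.Agent.Lib.Helper6.Auto

/-!
# A faithful character of degree `(p - 1) / 2` is irreducible; a character-theoretic Schur lemma
-/

set_option autoImplicit false
set_option linter.unusedSectionVars false
set_option linter.style.haveILetI false

namespace Cfsg.Agent.Lib.Helper6.BH

open Cfsg.Agent.Lib.Helper6 Cfsg.Agent.Lib.Helper6.PB Cfsg.Agent.Lib.Helper6.BR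
open scoped ComplexConjugate

universe u

variable {G : Type u} [Group G] [Finite G] {p : ℕ} [hp : Fact p.Prime]

theorem exists_sylow_card (hdiv : p ∣ Nat.card G) (hsq : ¬ p ^ 2 ∣ Nat.card G) :
    ∃ P : Sylow p G, Nat.card P = p := by
  have hpp := hp.out
  have hn0 : Nat.card G ≠ 0 := Nat.card_pos.ne'
  have hfac : (Nat.card G).factorization p = 1 := by
    have h1 : 1 ≤ (Nat.card G).factorization p :=
      (hpp.dvd_iff_one_le_factorization hn0).mp hdiv
    have h2 : ¬ 2 ≤ (Nat.card G).factorization p := by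
      intro h
      exact hsq ((hpp.pow_dvd_iff_le_factorization hn0).mpr h)
    omega
  obtain ⟨P⟩ : Nonempty (Sylow p G) := inferInstance
  exact ⟨P, by rw [Sylow.card_eq_multiplicity, hfac, pow_one]⟩

theorem exists_pow_of_pow_eq_one {a : G} (ha : a ^ p = 1) : ∃ k : ℕ, orderOf a = p ^ k := by
  have hdvd := orderOf_dvd_of_pow_eq_one ha
  rcases (Nat.dvd_prime hp.out).mp hdvd with h | h
  · exact ⟨0, by rw [h, pow_zero]⟩
  · exact ⟨1, by rw [h, pow_one]⟩

/-- two elements of order dividing `p` commute modulo the kernel of a small irreducible character -/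
theorem comm_mem_charKer (hdiv : p ∣ Nat.card G) (hsq : ¬ p ^ 2 ∣ Nat.card G) (P : Sylow p G)
    (hP : Nat.card P = p) (ψ : Cfsg.IrrCharacter G)
    (hdψ : 2 * Cfsg.charDegree (ψ : G → ℂ) + 1 < p) {a b : G} (ha : a ^ p = 1) (hb : b ^ p = 1) :
    (ψ : G → ℂ) (a * b * a⁻¹ * b⁻¹) = (ψ : G → ℂ) 1 := by
  classical
  have : Fintype G := Fintype.ofFinite G
  have hψc := IsIrrCharacter.isCharacter ψ.2
  obtain ⟨K, hKn, hKmem⟩ : ∃ K : Subgroup G, K.Normal ∧
      ∀ x, x ∈ K ↔ (ψ : G → ℂ) x = (ψ : G → ℂ) 1 :=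
    ⟨charKer hψc, charKer_normal hψc, fun x => mem_charKer hψc x⟩
  rw [← hKmem]
  have hmemK : ∀ w : G, w ^ p = 1 → (P : Subgroup G) ≤ K → w ∈ K := by
    intro w hw hle
    obtain ⟨t, ht⟩ := exists_conj_mem_P P (u := w) (exists_pow_of_pow_eq_one hw)
    have h1 := hKn.conj_mem _ (hle ht) t
    have h2 : t * (t⁻¹ * w * t) * t⁻¹ = w := by group
    rwa [h2] at h1
  by_cases hle : (P : Subgroup G) ≤ K
  · have haK := hmemK a ha hle
    have hbK := hmemK b hb hle
    exact mul_mem (mul_mem (mul_mem haK hbK) (inv_mem haK)) (inv_mem hbK)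
  · have hdisj := disj_of_not_le P hP K hle
    have := hKn
    have hcard := Subgroup.card_eq_card_quotient_mul_card_subgroup K
    have hpK : ¬ p ∣ Nat.card K := by
      intro hdvd
      obtain ⟨y, hy⟩ := exists_prime_orderOf_dvd_card' (G := K) p hdvd
      have hyG : orderOf (y : G) = p := by rw [Subgroup.orderOf_coe]; exact hy
      obtain ⟨t, ht⟩ := exists_conj_mem_P P (u := (y : G)) ⟨1, by rw [hyG, pow_one]⟩
      have htK : t⁻¹ * (y : G) * t ∈ K := by
        have h1 := hKn.conj_mem (y : G) y.2 t⁻¹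
        rwa [inv_inv] at h1
      have h1 := hdisj _ ht htK
      have hy1 : (y : G) = 1 := by
        have h2 : (y : G) = t * (t⁻¹ * (y : G) * t) * t⁻¹ := by group
        rw [h2, h1]
        group
      rw [hy1, orderOf_one] at hyG
      exact hp.out.one_lt.ne hyG
    have hdvdq : p ∣ Nat.card (G ⧸ K) := by
      have h1 : p ∣ Nat.card (G ⧸ K) * Nat.card K := by rw [← hcard]; exact hdiv
      rcases (Nat.Prime.dvd_mul hp.out).mp h1 with h | h
      · exact h
      · exact absurd h hpK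
    have hsqq : ¬ p ^ 2 ∣ Nat.card (G ⧸ K) :=
      fun h => hsq (h.trans (Dvd.intro _ hcard.symm))
    obtain ⟨β, hβ⟩ := IsIrrCharacter.exists_deflation K ψ (fun n hn => (hKmem n).mp hn)
    have hβv : ∀ g : G, (ψ : G → ℂ) g = (β : G ⧸ K → ℂ) (QuotientGroup.mk g) :=
      fun g => congrFun hβ g
    have hβf : ∀ q : G ⧸ K, (β : G ⧸ K → ℂ) q = (β : G ⧸ K → ℂ) 1 → q = 1 := by
      intro q hq
      obtain ⟨g, rfl⟩ := QuotientGroup.mk_surjective q
      have h1 : (ψ : G → ℂ) g = (ψ : G → ℂ) 1 := by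
        rw [hβv g, hβv 1]
        exact hq
      exact (QuotientGroup.eq_one_iff g).mpr ((hKmem g).mpr h1)
    have hβdeg : Cfsg.charDegree (β : G ⧸ K → ℂ) = Cfsg.charDegree (ψ : G → ℂ) := by
      unfold Cfsg.charDegree
      rw [hβv 1]
      rfl
    obtain ⟨Qb, hQbn, hQb⟩ := brauer_aux p (Nat.card (G ⧸ K)) (G ⧸ K) rfl hdvdq hsqq
      (β : G ⧸ K → ℂ) (IsIrrCharacter.isCharacter β.2) hβf (by rw [hβdeg]; exact hdψ)
    have := hQbn
    have hmemQ : ∀ w : G, w ^ p = 1 → (QuotientGroup.mk w : G ⧸ K) ∈ Qb := by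
      intro w hw
      apply mem_of_pow_eq_one hsqq Qb hQb
      rw [← QuotientGroup.mk_pow, hw]
      rfl
    haveI : IsCyclic Qb := isCyclic_of_prime_card hQb
    have hcomm : ∀ u v : Qb, u * v = v * u :=
      isMulCommutative_iff.mp IsCyclic.isMulCommutative
    have h1 := congrArg Subtype.val (hcomm ⟨_, hmemQ a ha⟩ ⟨_, hmemQ b hb⟩)
    have h2 : (QuotientGroup.mk a : G ⧸ K) * QuotientGroup.mk b
        = QuotientGroup.mk b * QuotientGroup.mk a := h1
    rw [← QuotientGroup.eq_one_iff, QuotientGroup.mk_mul, QuotientGroup.mk_mul,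
      QuotientGroup.mk_mul, QuotientGroup.mk_inv, QuotientGroup.mk_inv, h2]
    group

/-- a faithful character of degree `(p - 1) / 2` of a group without normal subgroup of order `p`
(and order divisible by `p` exactly once) is irreducible -/
theorem isIrr_of_half (hdiv : p ∣ Nat.card G) (hsq : ¬ p ^ 2 ∣ Nat.card G)
    (hnn : ∀ H : Subgroup G, H.Normal → Nat.card H ≠ p) {χ : G → ℂ}
    (hχ : Cfsg.IsCharacter G χ) (hf : ∀ g, χ g = χ 1 → g = 1)
    (hd : 2 * Cfsg.charDegree χ + 1 = p) : Cfsg.IsIrrCharacter G χ := by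
  classical
  have : Fintype G := Fintype.ofFinite G
  by_contra hirr
  obtain ⟨P, hP⟩ := exists_sylow_card hdiv hsq
  have hsmall : ∀ ψ : Cfsg.IrrCharacter G, Cfsg.classInner χ (ψ : G → ℂ) ≠ 0 →
      2 * Cfsg.charDegree (ψ : G → ℂ) + 1 < p := by
    intro ψ hψ
    obtain ⟨B, hB, hAB⟩ := IsCharacter.exists_eq_add_of_constituent hχ ψ.2 hψ
    have hψc := IsIrrCharacter.isCharacter ψ.2
    have h1 := IsCharacter.apply_one_eq_charDegree hχ
    have h2 := IsCharacter.apply_one_eq_charDegree hψc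
    have h3 := IsCharacter.apply_one_eq_charDegree hB
    have h4 : χ 1 = (ψ : G → ℂ) 1 + B 1 := by rw [hAB]; rfl
    rw [h1, h2, h3] at h4
    have h5 : Cfsg.charDegree χ = Cfsg.charDegree (ψ : G → ℂ) + Cfsg.charDegree B := by
      exact_mod_cast h4
    have hBpos : 1 ≤ Cfsg.charDegree B := by
      by_contra h0
      have h0' : Cfsg.charDegree B = 0 := by omega
      have hB1 : B 1 = 0 := by rw [h3, h0']; simp
      have hB0 := IsCharacter.eq_zero_of_apply_one_eq_zero hB hB1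
      apply hirr
      rw [hAB, hB0, add_zero]
      exact ψ.2
    omega
  have hcomm : ∀ a b : G, a ^ p = 1 → b ^ p = 1 → a * b * a⁻¹ * b⁻¹ = 1 := by
    intro a b ha hb
    apply hf
    apply IsCharacter.apply_eq_apply_one_of_constituents hχ
    intro ψ hψ
    exact comm_mem_charKer hdiv hsq P hP ψ (hsmall ψ hψ) ha hb
  refine absurd hP (hnn (P : Subgroup G) ?_)
  constructor
  intro x hx g
  have hxp : x ^ p = 1 := pow_eq_one_of_mem hsq P hP hx
  have hgp : (g * x * g⁻¹) ^ p = 1 := by rw [conj_pow, hxp, mul_one, mul_inv_cancel]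
  have hC : g * x * g⁻¹ ∈ Subgroup.centralizer ((P : Subgroup G) : Set G) := by
    rw [Subgroup.mem_centralizer_iff]
    intro y hy
    have hyp := pow_eq_one_of_mem hsq P hP hy
    have h := hcomm y (g * x * g⁻¹) hyp hgp
    have h2 : y * (g * x * g⁻¹) * y⁻¹ = g * x * g⁻¹ := mul_inv_eq_one.mp h
    calc y * (g * x * g⁻¹) = (y * (g * x * g⁻¹) * y⁻¹) * y := by group
      _ = (g * x * g⁻¹) * y := by rw [h2]
  exact mem_P_of_pElement P (C_le_N P hC) (exists_pow_of_pow_eq_one hgp)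

/-- a character of a group whose restriction to a subgroup is irreducible is irreducible -/
theorem isIrr_of_restrict_irr {A : Type u} [Group A] [Finite A] (H : Subgroup A) {φ : A → ℂ}
    (hφ : Cfsg.IsCharacter A φ) (hH : Cfsg.IsIrrCharacter H (fun h : H => φ h)) :
    Cfsg.IsIrrCharacter A φ := by
  classical
  have : Fintype A := Fintype.ofFinite A
  have : Fintype H := Fintype.ofFinite H
  have : Fintype (Cfsg.IrrCharacter A) := Fintype.ofFinite _
  have : Fintype (Cfsg.IrrCharacter H) := Fintype.ofFinite _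
  by_contra hirr
  obtain ⟨ϑ, hϑ⟩ : ∃ ϑ : Cfsg.IrrCharacter H, (ϑ : H → ℂ) = fun h : H => φ h := ⟨⟨_, hH⟩, rfl⟩
  have hϑc := IsIrrCharacter.isCharacter ϑ.2
  have hdegϑ : Cfsg.charDegree (ϑ : H → ℂ) = Cfsg.charDegree φ := by
    unfold Cfsg.charDegree
    rw [hϑ]
    rfl
  have hϑpos := IsIrrCharacter.charDegree_pos ϑ.2
  -- a constituent
  obtain ⟨m, hm, hmi⟩ := IsCharacter.exists_mult hφ
  obtain ⟨ψ₁, hψ₁⟩ : ∃ ψ₁ : Cfsg.IrrCharacter A, m ψ₁ ≠ 0 := by
    by_contra hall
    push Not at hall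
    have h0 : φ = 0 := by
      rw [hm]
      apply Finset.sum_eq_zero
      intro θ _
      rw [hall θ, zero_smul]
    have h1 := IsCharacter.apply_one_eq_charDegree hφ
    have h1' : φ 1 = 0 := by rw [h0]; rfl
    rw [h1'] at h1
    have h3 : Cfsg.charDegree φ = 0 := by exact_mod_cast h1.symm
    omega
  have hψ₁c : Cfsg.classInner φ (ψ₁ : A → ℂ) ≠ 0 := by
    rw [hmi ψ₁]
    exact_mod_cast hψ₁
  obtain ⟨B, hB, hAB⟩ := IsCharacter.exists_eq_add_of_constituent hφ ψ₁.2 hψ₁c
  have hψc := IsIrrCharacter.isCharacter ψ₁.2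
  have h1 := IsCharacter.apply_one_eq_charDegree hφ
  have h2 := IsCharacter.apply_one_eq_charDegree hψc
  have h3 := IsCharacter.apply_one_eq_charDegree hB
  have h4 : φ 1 = (ψ₁ : A → ℂ) 1 + B 1 := by rw [hAB]; rfl
  rw [h1, h2, h3] at h4
  have h5 : Cfsg.charDegree φ = Cfsg.charDegree (ψ₁ : A → ℂ) + Cfsg.charDegree B := by
    exact_mod_cast h4
  have hψpos := IsIrrCharacter.charDegree_pos ψ₁.2
  have hBpos : 1 ≤ Cfsg.charDegree B := by
    by_contra h0
    have h0' : Cfsg.charDegree B = 0 := by omega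
    have hB1 : B 1 = 0 := by rw [h3, h0']; simp
    have hB0 := IsCharacter.eq_zero_of_apply_one_eq_zero hB hB1
    apply hirr
    rw [hAB, hB0, add_zero]
    exact ψ₁.2
  -- restrictions
  have hr1 : Cfsg.IsCharacter H (fun h : H => (ψ₁ : A → ℂ) h) := IsCharacter.restrict H hψc
  have hr2 : Cfsg.IsCharacter H (fun h : H => B h) := IsCharacter.restrict H hB
  have hsum : (ϑ : H → ℂ) = (fun h : H => (ψ₁ : A → ℂ) h) + (fun h : H => B h) := by
    rw [hϑ]
    funext h
    rw [hAB]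
    rfl
  obtain ⟨m1, -, hm1⟩ := IsCharacter.exists_mult hr1
  obtain ⟨m2, -, hm2⟩ := IsCharacter.exists_mult hr2
  have hone : Cfsg.classInner (ϑ : H → ℂ) (ϑ : H → ℂ) = 1 := by
    rw [classInner_isIrrCharacter ϑ.2 ϑ.2, if_pos rfl]
  have hsplit : (m1 ϑ : ℂ) + (m2 ϑ : ℂ) = 1 := by
    rw [← hm1 ϑ, ← hm2 ϑ, ← classInner_add_left, ← hsum]
    exact hone
  have hsplit' : m1 ϑ + m2 ϑ = 1 := by exact_mod_cast hsplit
  -- degree bound from a constituent
  have hbound : ∀ S : H → ℂ, Cfsg.IsCharacter H S → Cfsg.classInner S (ϑ : H → ℂ) ≠ 0 →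
      Cfsg.charDegree (ϑ : H → ℂ) ≤ Cfsg.charDegree S := by
    intro S hS hne
    obtain ⟨B', hB', hSB⟩ := IsCharacter.exists_eq_add_of_constituent hS ϑ.2 hne
    have e1 := IsCharacter.apply_one_eq_charDegree hS
    have e2 := IsCharacter.apply_one_eq_charDegree hϑc
    have e3 := IsCharacter.apply_one_eq_charDegree hB'
    have e4 : S 1 = (ϑ : H → ℂ) 1 + B' 1 := by rw [hSB]; rfl
    rw [e1, e2, e3] at e4
    have e5 : Cfsg.charDegree S = Cfsg.charDegree (ϑ : H → ℂ) + Cfsg.charDegree B' := by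
      exact_mod_cast e4
    omega
  have hd1 : Cfsg.charDegree (fun h : H => (ψ₁ : A → ℂ) h) = Cfsg.charDegree (ψ₁ : A → ℂ) := rfl
  have hd2 : Cfsg.charDegree (fun h : H => B h) = Cfsg.charDegree B := rfl
  rcases Nat.eq_zero_or_pos (m1 ϑ) with hz | hpos
  · have hpos2 : m2 ϑ ≠ 0 := by omega
    have := hbound _ hr2 (by rw [hm2 ϑ]; exact_mod_cast hpos2)
    rw [hd2] at this
    omega
  · have := hbound _ hr1 (by rw [hm1 ϑ]; exact_mod_cast hpos.ne')
    rw [hd1] at this
    omega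

/-- Schur's lemma for characters: an element centralizing a subgroup on which an irreducible
character stays irreducible has maximal absolute value -/
theorem norm_eq_of_restrict_irr (Λ : Cfsg.IrrCharacter G) (H : Subgroup G)
    (hH : Cfsg.IsIrrCharacter H (fun h : H => (Λ : G → ℂ) h)) {c : G}
    (hc : ∀ h ∈ H, c * h = h * c) : ‖(Λ : G → ℂ) c‖ = ‖(Λ : G → ℂ) 1‖ := by
  classical
  have : Fintype G := Fintype.ofFinite G
  obtain ⟨A, hA⟩ : ∃ A : Subgroup G, A = H ⊔ Subgroup.zpowers c := ⟨_, rfl⟩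
  have hHA : H ≤ A := by rw [hA]; exact le_sup_left
  have hcA : c ∈ A := by
    rw [hA]
    exact (le_sup_right : Subgroup.zpowers c ≤ H ⊔ Subgroup.zpowers c) (Subgroup.mem_zpowers c)
  have hcen : ∀ a ∈ A, c * a = a * c := by
    have hle : A ≤ Subgroup.centralizer ({c} : Set G) := by
      rw [hA]
      apply sup_le
      · intro h hh
        rw [Subgroup.mem_centralizer_iff]
        intro y hy
        rw [Set.mem_singleton_iff] at hy
        rw [hy]
        exact hc h hh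
      · rw [Subgroup.zpowers_le]
        rw [Subgroup.mem_centralizer_iff]
        intro y hy
        rw [Set.mem_singleton_iff] at hy
        rw [hy]
    intro a ha
    have := Subgroup.mem_centralizer_iff.mp (hle ha) c (Set.mem_singleton c)
    exact this
  have hΛc := IsIrrCharacter.isCharacter Λ.2
  have hφ : Cfsg.IsCharacter A (fun a : A => (Λ : G → ℂ) a) := IsCharacter.restrict A hΛc
  -- the restriction to `H` viewed inside `A`
  have hHirr : Cfsg.IsIrrCharacter (H.subgroupOf A)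
      (fun h : H.subgroupOf A => (fun a : A => (Λ : G → ℂ) a) h) := by
    obtain ⟨e, he⟩ : ∃ e : (H.subgroupOf A) ≃* H, ∀ h, ((e h : H) : G) = ((h : A) : G) :=
      ⟨Subgroup.subgroupOfEquivOfLe hHA, fun h => rfl⟩
    have h1 := IsIrrCharacter.comp_mulEquiv e hH
    have hfun : (fun h : H.subgroupOf A => (fun a : A => (Λ : G → ℂ) a) h)
        = fun h => (Λ : G → ℂ) ((e h : H) : G) := by
      funext h
      rw [he h]
    rw [hfun]
    exact h1
  have hirr := isIrr_of_restrict_irr (H.subgroupOf A) hφ hHirr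
  have hz : ∀ h : A, (⟨c, hcA⟩ : A) * h = h * ⟨c, hcA⟩ := by
    intro h
    apply Subtype.ext
    exact hcen h h.2
  have h1 := IsIrrCharacter.apply_central_mul hirr hz (⟨c, hcA⟩ : A)⁻¹
  rw [mul_inv_cancel] at h1
  have h1' : (Λ : G → ℂ) 1 = (Λ : G → ℂ) c * (Λ : G → ℂ) c⁻¹ / (Λ : G → ℂ) 1 := h1
  rw [IsCharacter.apply_inv hΛc] at h1'
  have hne : (Λ : G → ℂ) 1 ≠ 0 := IsIrrCharacter.apply_one_ne_zero Λ.2
  have h4 : conj ((Λ : G → ℂ) 1) = (Λ : G → ℂ) 1 := by
    rw [IsCharacter.apply_one_eq_charDegree hΛc, Complex.conj_natCast]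
  have h5 : (Λ : G → ℂ) c * conj ((Λ : G → ℂ) c) = (Λ : G → ℂ) 1 * conj ((Λ : G → ℂ) 1) := by
    rw [h4]
    field_simp at h1'
    linear_combination -h1'
  rw [Complex.mul_conj, Complex.mul_conj] at h5
  have h6 : Complex.normSq ((Λ : G → ℂ) c) = Complex.normSq ((Λ : G → ℂ) 1) := by
    exact_mod_cast h5
  rw [← Complex.sq_norm, ← Complex.sq_norm] at h6
  exact (sq_eq_sq₀ (norm_nonneg _) (norm_nonneg _)).mp h6

end Cfsg.Agent.Lib.Helper6.BH
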