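import Mathlib
import Cfsg.Agent.Lib.Helper6.BH2

/-!
# Normal subgroups of order prime to `p` centralize the Sylow subgroup; the `p`-regular elements
of its centralizer are central
-/

set_option autoImplicit false
set_option linter.unusedSectionVars false
set_option linter.style.haveILetI false

namespace Cfsg.Agent.Lib.Helper6.BH

open Cfsg.Agent.Lib.Helper6 Cfsg.Agent.Lib.Helper6.PB Cfsg.Agent.Lib.Helper6.BR
open scoped ComplexConjugate

universe u

section local1

variable {G : Type*} [Group G] [Fintype G] [DecidableEq G] {p : ℕ} [hp : Fact p.Prime]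
variable {P : Sylow p G}
variable [Fintype ↥(Subgroup.centralizer ((P : Subgroup G) : Set G))]
variable [Fintype ↥(Subgroup.normalizer ((P : Subgroup G) : Set G))]
variable {M : Ideal Cfsg.AlgInt}

local notation "𝐂" => Subgroup.centralizer ((P : Subgroup G) : Set G)
local notation "𝐍" => Subgroup.normalizer ((P : Subgroup G) : Set G)

theorem not_const_of_faithful (hP : Nat.card P = p) (Λ : Cfsg.IrrCharacter G)
    (hf : ∀ g, (Λ : G → ℂ) g = (Λ : G → ℂ) 1 → g = 1) :
    ¬ ∀ x : 𝐂, (x : G) ∈ (P : Subgroup G) → (Λ : G → ℂ) x = (Λ : G → ℂ) 1 := by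
  obtain ⟨x₀, hx₀, hx₀1⟩ : ∃ x ∈ (P : Subgroup G), x ≠ 1 := by
    obtain ⟨x, hxg, hxo⟩ := exists_gen P hP
    refine ⟨x, by rw [hxg]; exact Subgroup.mem_zpowers x, ?_⟩
    intro h1
    rw [h1, orderOf_one] at hxo
    exact hp.out.one_lt.ne hxo
  intro h
  exact hx₀1 (hf _ (h ⟨x₀, P_le_C P hP hx₀⟩ hx₀))

/-- if the normalizer of `P` equals its centralizer, a faithful irreducible character of degree at
most `(p - 1) / 2` forces `P` to be central -/
theorem le_center_of_N_le_C (hP : Nat.card P = p) (hM : Cfsg.IsPModular p M) (hNC : 𝐍 ≤ 𝐂)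
    (Λ : Cfsg.IrrCharacter G) (hd : 2 * Cfsg.charDegree (Λ : G → ℂ) + 1 ≤ p)
    (hf : ∀ g, (Λ : G → ℂ) g = (Λ : G → ℂ) 1 → g = 1) :
    (P : Subgroup G) ≤ Subgroup.center G := by
  have hnk := not_const_of_faithful hP Λ hf
  have hnorm := norm_eq_of_N_le_C' hP hM hNC Λ hd hnk
  intro x hx
  exact Cfsg.Agent.Lib.Helper3.Prim2.mem_center_of_norm_eq Λ.2 hf (hnorm x hx)

end local1

variable {G : Type u} [Group G] [Finite G] {p : ℕ} [hp : Fact p.Prime]

/-- a normal subgroup meeting `P` trivially centralizes `P` -/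
theorem le_centralizer_of_disj (hsq : ¬ p ^ 2 ∣ Nat.card G) (P : Sylow p G)
    (hP : Nat.card P = p) {χ : G → ℂ} (hχ : Cfsg.IsCharacter G χ)
    (hf : ∀ g, χ g = χ 1 → g = 1) (hd : 2 * Cfsg.charDegree χ + 1 = p)
    (K : Subgroup G) (hK : K.Normal) (hdisj : ∀ x ∈ (P : Subgroup G), x ∈ K → x = 1) :
    K ≤ Subgroup.centralizer ((P : Subgroup G) : Set G) := by
  classical
  obtain ⟨H, hH⟩ : ∃ H : Subgroup G, H = (P : Subgroup G) ⊔ K := ⟨_, rfl⟩
  have hPH : (P : Subgroup G) ≤ H := by rw [hH]; exact le_sup_left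
  have hKH : K ≤ H := by rw [hH]; exact le_sup_right
  by_cases hn : ((P : Subgroup G).subgroupOf H).Normal
  · have hHN := (Subgroup.normal_subgroupOf_iff_le_normalizer hPH).mp hn
    intro k hk
    exact mem_centralizer_of_disj P K hK hdisj hk (hHN (hKH hk))
  · exfalso
    have hdivH : p ∣ Nat.card H := by
      have h1 : Nat.card (P : Subgroup G) ∣ Nat.card H := Subgroup.card_dvd_of_le hPH
      have h2 : Nat.card (P : Subgroup G) = p := hP
      rwa [h2] at h1
    have hsqH := not_sq_dvd_sub hsq P hP H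
    have hnnH : ∀ Q : Subgroup H, Q.Normal → Nat.card Q ≠ p := by
      intro Q hQn hQ
      apply hn
      have := hQn
      have hle : (P : Subgroup G).subgroupOf H ≤ Q := by
        intro x hx
        have hxP : (x : G) ∈ (P : Subgroup G) := Subgroup.mem_subgroupOf.mp hx
        have hpow : x ^ p = 1 := by
          apply Subtype.ext
          rw [Subgroup.coe_pow, Subgroup.coe_one]
          exact pow_eq_one_of_mem hsq P hP hxP
        exact mem_of_pow_eq_one hsqH Q hQ hpow
      have heq : (P : Subgroup G).subgroupOf H = Q := by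
        apply Subgroup.eq_of_le_of_card_ge hle
        rw [hQ, card_subgroupOf_P P hP hPH]
      rw [heq]
      exact hQn
    have hχH : Cfsg.IsCharacter H (fun h : H => χ h) := IsCharacter.restrict H hχ
    have hfH : ∀ h : H, (fun h : H => χ h) h = (fun h : H => χ h) 1 → h = 1 := by
      intro h hh
      apply Subtype.ext
      exact hf _ hh
    have hdH : 2 * Cfsg.charDegree (fun h : H => χ h) + 1 = p := hd
    have hirr := isIrr_of_half hdivH hsqH hnnH hχH hfH hdH
    obtain ⟨PH, hPHc⟩ : ∃ PH : Sylow p H,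
        (PH : Subgroup H) = (P : Subgroup G).subgroupOf H := ⟨P.subtype hPH, Sylow.coe_subtype _ _⟩
    have hPHcard : Nat.card PH = p := by
      have h1 : Nat.card (PH : Subgroup H) = p := by
        rw [hPHc]
        exact card_subgroupOf_P P hP hPH
      exact h1
    have : Fintype H := Fintype.ofFinite H
    have : Fintype ↥(Subgroup.centralizer ((PH : Subgroup H) : Set H)) := Fintype.ofFinite _
    have : Fintype ↥(Subgroup.normalizer ((PH : Subgroup H) : Set H)) := Fintype.ofFinite _
    obtain ⟨M, hM⟩ := exists_isPModular p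
    have hNC : Subgroup.normalizer ((PH : Subgroup H) : Set H)
        ≤ Subgroup.centralizer ((PH : Subgroup H) : Set H) := by
      intro h hh
      have h1 : h ∈ (Subgroup.normalizer ((P : Subgroup G) : Set G)).subgroupOf H := by
        rw [Subgroup.subgroupOf_normalizer_eq hPH, ← hPHc]
        exact hh
      have h1' : (h : G) ∈ Subgroup.normalizer ((P : Subgroup G) : Set G) :=
        Subgroup.mem_subgroupOf.mp h1
      have hmem : (h : G) ∈ (P : Subgroup G) ⊔ K := by rw [← hH]; exact h.2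
      have := hK
      obtain ⟨y, hy, k, hk, hyk⟩ := Subgroup.mem_sup_of_normal_right.mp hmem
      have hkN : k ∈ Subgroup.normalizer ((P : Subgroup G) : Set G) := by
        have h2 := mul_mem (inv_mem (P_le_N P hy)) h1'
        rwa [← hyk, inv_mul_cancel_left] at h2
      have hkC := mem_centralizer_of_disj P K hK hdisj hk hkN
      have hhC : (h : G) ∈ Subgroup.centralizer ((P : Subgroup G) : Set G) := by
        rw [← hyk]
        exact mul_mem (P_le_C P hP hy) hkC
      rw [Subgroup.mem_centralizer_iff]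
      intro z hz
      have hz' : z ∈ (PH : Subgroup H) := hz
      rw [hPHc] at hz'
      have hzP : (z : G) ∈ (P : Subgroup G) := Subgroup.mem_subgroupOf.mp hz'
      apply Subtype.ext
      rw [Subgroup.coe_mul, Subgroup.coe_mul]
      exact (Subgroup.mem_centralizer_iff.mp hhC) z hzP
    have hcenH := le_center_of_N_le_C hPHcard hM hNC ⟨_, hirr⟩ (le_of_eq hdH) hfH
    apply hn
    rw [← hPHc]
    constructor
    intro x hx g
    have h1 : g * x = x * g := Subgroup.mem_center_iff.mp (hcenH hx) g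
    rw [h1, mul_assoc, mul_inv_cancel, mul_one]
    exact hx

/-- the `p`-regular elements of the centralizer of `P` are central -/
theorem regular_central (hdiv : p ∣ Nat.card G) (hsq : ¬ p ^ 2 ∣ Nat.card G)
    (hnn : ∀ H : Subgroup G, H.Normal → Nat.card H ≠ p) {χ : G → ℂ}
    (hχ : Cfsg.IsCharacter G χ) (hf : ∀ g, χ g = χ 1 → g = 1)
    (hd : 2 * Cfsg.charDegree χ + 1 = p) (P : Sylow p G) (hP : Nat.card P = p) :
    ∀ c ∈ Subgroup.centralizer ((P : Subgroup G) : Set G), ¬ p ∣ orderOf c →
      c ∈ Subgroup.center G := by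
  classical
  have : Fintype G := Fintype.ofFinite G
  have : Fintype ↥(Subgroup.centralizer ((P : Subgroup G) : Set G)) := Fintype.ofFinite _
  have : Fintype ↥(Subgroup.normalizer ((P : Subgroup G) : Set G)) := Fintype.ofFinite _
  obtain ⟨M, hM⟩ := exists_isPModular p
  have hirr := isIrr_of_half hdiv hsq hnn hχ hf hd
  obtain ⟨Λ, hΛ⟩ : ∃ Λ : Cfsg.IrrCharacter G, (Λ : G → ℂ) = χ := ⟨⟨χ, hirr⟩, rfl⟩
  have hfΛ : ∀ g, (Λ : G → ℂ) g = (Λ : G → ℂ) 1 → g = 1 := by rw [hΛ]; exact hf
  have hdΛ : 2 * Cfsg.charDegree (Λ : G → ℂ) + 1 ≤ p := by rw [hΛ]; exact le_of_eq hd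
  have hnk := not_const_of_faithful hP Λ hfΛ
  obtain ⟨ψ', hψ'1, hψ'2⟩ := exists_kernel_char' hP hM Λ hdΛ hnk
  have hψ'c := IsIrrCharacter.isCharacter ψ'.2
  have hK'n : (charKer hψ'c).Normal := charKer_normal hψ'c
  have hnle : ¬ (P : Subgroup G) ≤ charKer hψ'c := by
    intro hle
    apply hψ'2
    intro x hx
    exact (mem_charKer hψ'c _).mp (hle hx)
  have hdisj := disj_of_not_le P hP _ hnle
  have hKC := le_centralizer_of_disj hsq P hP hχ hf hd _ hK'n hdisj
  obtain ⟨H, hH⟩ : ∃ H : Subgroup G, H = Subgroup.centralizer ((charKer hψ'c : Subgroup G) : Set G) :=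
    ⟨_, rfl⟩
  have := hK'n
  have hHn : H.Normal := by rw [hH]; exact Subgroup.normal_centralizer
  have hPH : (P : Subgroup G) ≤ H := by rw [hH]; exact Subgroup.le_centralizer_iff.mp hKC
  have hdivH : p ∣ Nat.card H := by
    have h1 : Nat.card (P : Subgroup G) ∣ Nat.card H := Subgroup.card_dvd_of_le hPH
    have h2 : Nat.card (P : Subgroup G) = p := hP
    rwa [h2] at h1
  have hsqH := not_sq_dvd_sub hsq P hP H
  have hnnH : ∀ Q : Subgroup H, Q.Normal → Nat.card Q ≠ p := by
    intro Q hQn hQ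
    have := hQn
    have hle : (P : Subgroup G).subgroupOf H ≤ Q := by
      intro x hx
      have hxP : (x : G) ∈ (P : Subgroup G) := Subgroup.mem_subgroupOf.mp hx
      have hpow : x ^ p = 1 := by
        apply Subtype.ext
        rw [Subgroup.coe_pow, Subgroup.coe_one]
        exact pow_eq_one_of_mem hsq P hP hxP
      exact mem_of_pow_eq_one hsqH Q hQ hpow
    have heq : (P : Subgroup G).subgroupOf H = Q := by
      apply Subgroup.eq_of_le_of_card_ge hle
      rw [hQ, card_subgroupOf_P P hP hPH]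
    refine absurd hP (hnn (P : Subgroup G) ?_)
    constructor
    intro x hx g
    have hxH : g * x * g⁻¹ ∈ H := hHn.conj_mem x (hPH hx) g
    have hpow : (⟨g * x * g⁻¹, hxH⟩ : H) ^ p = 1 := by
      apply Subtype.ext
      rw [Subgroup.coe_pow, Subgroup.coe_one]
      change (g * x * g⁻¹) ^ p = 1
      rw [conj_pow, pow_eq_one_of_mem hsq P hP hx, mul_one, mul_inv_cancel]
    have h1 := mem_of_pow_eq_one hsqH Q hQ hpow
    rw [← heq] at h1
    exact Subgroup.mem_subgroupOf.mp h1
  have hχH : Cfsg.IsCharacter H (fun h : H => χ h) := IsCharacter.restrict H hχ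
  have hfH : ∀ h : H, (fun h : H => χ h) h = (fun h : H => χ h) 1 → h = 1 := by
    intro h hh
    apply Subtype.ext
    exact hf _ hh
  have hdH : 2 * Cfsg.charDegree (fun h : H => χ h) + 1 = p := hd
  have hirrH := isIrr_of_half hdivH hsqH hnnH hχH hfH hdH
  have hirrH' : Cfsg.IsIrrCharacter H (fun h : H => (Λ : G → ℂ) h) := by rw [hΛ]; exact hirrH
  intro c hc hreg
  have hcK : c ∈ charKer hψ'c := by
    rw [mem_charKer]
    exact hψ'1 ⟨c, hc⟩ (by rw [Subgroup.orderOf_mk]; exact hreg)
  have hcomm : ∀ h ∈ H, c * h = h * c := by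
    intro h hh
    rw [hH] at hh
    exact (Subgroup.mem_centralizer_iff.mp hh) c hcK
  have hnorm := norm_eq_of_restrict_irr Λ H hirrH' hcomm
  exact Cfsg.Agent.Lib.Helper3.Prim2.mem_center_of_norm_eq Λ.2 hfΛ hnorm

end Cfsg.Agent.Lib.Helper6.BH
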