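import Mathlib
import Cfsg.Agent.Lib.Helper6.BH3

/-!
# Blocks with two exceptional characters: sums, splitting, restriction to normal subgroups
-/

set_option autoImplicit false
set_option linter.unusedSectionVars false
set_option linter.style.haveILetI false

namespace Cfsg.Agent.Lib.Helper6.BH

open Cfsg.Agent.Lib.Helper6 Cfsg.Agent.Lib.Helper6.PB Cfsg.Agent.Lib.Helper6.BR
open scoped ComplexConjugate

universe u

/-- in a type with two elements, every element is one of two given distinct ones -/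
theorem eq_or_eq_of_card_two {J : Type*} [Finite J] (h : Nat.card J = 2) {a b : J} (hab : a ≠ b)
    (i : J) : i = a ∨ i = b := by
  classical
  have : Fintype J := Fintype.ofFinite J
  by_contra hcon
  push Not at hcon
  obtain ⟨hia, hib⟩ := hcon
  rw [Nat.card_eq_fintype_card] at h
  have h3 : ({a, b, i} : Finset J).card = 3 := by
    rw [Finset.card_insert_of_notMem, Finset.card_insert_of_notMem, Finset.card_singleton]
    · rw [Finset.mem_singleton]
      exact fun e => hib e.symm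
    · rw [Finset.mem_insert, Finset.mem_singleton]
      rintro (e | e)
      · exact hab e
      · exact hia e.symm
  have hle := Finset.card_le_univ ({a, b, i} : Finset J)
  omega

theorem sum_two {J : Type*} [Fintype J] (h : Nat.card J = 2) {a b : J} (hab : a ≠ b)
    (f : J → ℂ) : ∑ i, f i = f a + f b := by
  classical
  have hU : (Finset.univ : Finset J) = {a, b} := by
    ext i
    simp only [Finset.mem_univ, Finset.mem_insert, Finset.mem_singleton, true_iff]
    exact eq_or_eq_of_card_two h hab i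
  rw [hU, Finset.sum_pair hab]

/-- a character of degree one has values of absolute value one -/
theorem linear_mul_conj {A : Type*} [Group A] [Finite A] {ξ : A → ℂ} (hξ : Cfsg.IsCharacter A ξ)
    (h1 : ξ 1 = 1) (a : A) : ξ a * conj (ξ a) = 1 := by
  rw [← IsCharacter.apply_inv hξ, ← IsCharacter.mul_of_apply_one_eq_one hξ h1, mul_inv_cancel, h1]

/-- a linear character times an irreducible character is irreducible -/
theorem isIrr_linear_mul' {T : Type*} [Group T] [Fintype T] {lam ψ : T → ℂ}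
    (hlam : Cfsg.IsCharacter T lam) (h1 : lam 1 = 1)
    (hψ : Cfsg.IsIrrCharacter T ψ) : Cfsg.IsIrrCharacter T (fun t => lam t * ψ t) := by
  have hchar : Cfsg.IsCharacter T (lam * ψ) := IsCharacter.mul hlam (IsIrrCharacter.isCharacter hψ)
  apply isIrrCharacter_of_classInner_self_eq_one hchar
  have hnorm : ∀ t, lam t * conj (lam t) = 1 := linear_mul_conj hlam h1
  have h2 := classInner_isIrrCharacter hψ hψ
  rw [if_pos rfl] at h2
  rw [← h2]
  unfold Cfsg.classInner
  congr 1
  apply Finset.sum_congr rfl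
  intro t _
  simp only [Pi.mul_apply, map_mul]
  calc lam t * ψ t * (conj (lam t) * conj (ψ t))
      = (lam t * conj (lam t)) * (ψ t * conj (ψ t)) := by ring
    _ = ψ t * conj (ψ t) := by rw [hnorm, one_mul]

section restrict

variable {G : Type u} [Group G] [Finite G] {p : ℕ} [hp : Fact p.Prime]

/-- the restriction of the faithful character to a normal subgroup containing `P` is irreducible -/
theorem irr_restrict_normal (hsq : ¬ p ^ 2 ∣ Nat.card G)
    (hnn : ∀ H : Subgroup G, H.Normal → Nat.card H ≠ p) {χ : G → ℂ}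
    (hχ : Cfsg.IsCharacter G χ) (hf : ∀ g, χ g = χ 1 → g = 1)
    (hd : 2 * Cfsg.charDegree χ + 1 = p) (P : Sylow p G) (hP : Nat.card P = p)
    (H : Subgroup G) (hHn : H.Normal) (hPH : (P : Subgroup G) ≤ H) :
    Cfsg.IsIrrCharacter H (fun h : H => χ h) := by
  have hdivH : p ∣ Nat.card H := by
    have h1 : Nat.card (P : Subgroup G) ∣ Nat.card H := Subgroup.card_dvd_of_le hPH
    have h2 : Nat.card (P : Subgroup G) = p := hP
    rwa [h2] at h1
  have hsqH := not_sq_dvd_sub hsq P hP H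
  have hnnH : ∀ Q : Subgroup H, Q.Normal → Nat.card Q ≠ p := by
    intro Q hQn hQ
    have := hQn
    have hle : (P : Subgroup G).subgroupOf H ≤ Q := by
      intro x hx
      have hxP : (x : G) ∈ (P : Subgroup G) := Subgroup.mem_subgroupOf.mp hx
      have hpow : x ^ p = 1 := by
        apply Subtype.ext
        rw [Subgroup.coe_pow, Subgroup.coe_one]
        exact pow_eq_one_of_mem hsq P hP hxP
      exact mem_of_pow_eq_one hsqH Q hQ hpow
    have heq : (P : Subgroup G).subgroupOf H = Q := by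
      apply Subgroup.eq_of_le_of_card_ge hle
      rw [hQ, card_subgroupOf_P P hP hPH]
    refine absurd hP (hnn (P : Subgroup G) ?_)
    constructor
    intro x hx g
    have hxH : g * x * g⁻¹ ∈ H := hHn.conj_mem x (hPH hx) g
    have hpow : (⟨g * x * g⁻¹, hxH⟩ : H) ^ p = 1 := by
      apply Subtype.ext
      rw [Subgroup.coe_pow, Subgroup.coe_one]
      change (g * x * g⁻¹) ^ p = 1
      rw [conj_pow, pow_eq_one_of_mem hsq P hP hx, mul_one, mul_inv_cancel]
    have h1 := mem_of_pow_eq_one hsqH Q hQ hpow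
    rw [← heq] at h1
    exact Subgroup.mem_subgroupOf.mp h1
  have hχH : Cfsg.IsCharacter H (fun h : H => χ h) := IsCharacter.restrict H hχ
  have hfH : ∀ h : H, (fun h : H => χ h) h = (fun h : H => χ h) 1 → h = 1 := by
    intro h hh
    apply Subtype.ext
    exact hf _ hh
  have hdH : 2 * Cfsg.charDegree (fun h : H => χ h) + 1 = p := hd
  exact isIrr_of_half hdivH hsqH hnnH hχH hfH hdH

end restrict

section linear

variable {G : Type u} [Group G] [Fintype G] {p : ℕ} [hp : Fact p.Prime]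

/-- a linear character `μ` trivial on `P` which is a constituent of `Λ Λ̄` is trivial -/
theorem linear_const (hsq : ¬ p ^ 2 ∣ Nat.card G)
    (hnn : ∀ H : Subgroup G, H.Normal → Nat.card H ≠ p) (Λ : Cfsg.IrrCharacter G)
    (hf : ∀ g, (Λ : G → ℂ) g = (Λ : G → ℂ) 1 → g = 1)
    (hd : 2 * Cfsg.charDegree (Λ : G → ℂ) + 1 = p) (P : Sylow p G) (hP : Nat.card P = p)
    (μ : Cfsg.IrrCharacter G) (hμ1 : (μ : G → ℂ) 1 = 1)
    (hμP : ∀ x ∈ (P : Subgroup G), (μ : G → ℂ) x = 1)
    (hne : Cfsg.classInner ((Λ : G → ℂ) * fun g => conj ((Λ : G → ℂ) g)) (μ : G → ℂ) ≠ 0) :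
    ∀ g, (μ : G → ℂ) g = 1 := by
  classical
  have hμc := IsIrrCharacter.isCharacter μ.2
  have hΛc := IsIrrCharacter.isCharacter Λ.2
  have hirr : Cfsg.IsIrrCharacter G (fun g => (μ : G → ℂ) g * (Λ : G → ℂ) g) :=
    isIrr_linear_mul' hμc hμ1 Λ.2
  have hinner : Cfsg.classInner (Λ : G → ℂ) (fun g => (μ : G → ℂ) g * (Λ : G → ℂ) g)
      = Cfsg.classInner ((Λ : G → ℂ) * fun g => conj ((Λ : G → ℂ) g)) (μ : G → ℂ) := by
    unfold Cfsg.classInner
    congr 1
    apply Finset.sum_congr rfl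
    intro g _
    simp only [Pi.mul_apply, map_mul]
    ring
  have heq : (Λ : G → ℂ) = fun g => (μ : G → ℂ) g * (Λ : G → ℂ) g := by
    by_contra hne'
    have h1 := classInner_isIrrCharacter Λ.2 hirr
    rw [if_neg hne', hinner] at h1
    exact hne h1
  have hvan : ∀ g, (μ : G → ℂ) g ≠ 1 → (Λ : G → ℂ) g = 0 := by
    intro g hg
    have h1 := congrFun heq g
    have h2 : (1 - (μ : G → ℂ) g) * (Λ : G → ℂ) g = 0 := by linear_combination h1
    rcases mul_eq_zero.mp h2 with h | h
    · exact absurd (by linear_combination -h) hg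
    · exact h
  obtain ⟨H, hH⟩ : ∃ H : Subgroup G, H = charKer hμc := ⟨_, rfl⟩
  have hHn : H.Normal := by rw [hH]; exact charKer_normal hμc
  have hmemH : ∀ g, g ∈ H ↔ (μ : G → ℂ) g = 1 := by
    intro g
    rw [hH, mem_charKer, hμ1]
  have hPH : (P : Subgroup G) ≤ H := fun x hx => (hmemH x).mpr (hμP x hx)
  have hirrH := irr_restrict_normal hsq hnn hΛc hf hd P hP H hHn hPH
  have : Fintype H := Fintype.ofFinite H
  have n1 := classInner_isIrrCharacter Λ.2 Λ.2
  rw [if_pos rfl] at n1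
  have n2 := classInner_isIrrCharacter hirrH hirrH
  rw [if_pos rfl] at n2
  unfold Cfsg.classInner at n1 n2
  have hsum : ∑ g : G, (Λ : G → ℂ) g * conj ((Λ : G → ℂ) g)
      = ∑ h : H, (Λ : G → ℂ) h * conj ((Λ : G → ℂ) h) := by
    rw [← Finset.sum_subtype (Finset.univ.filter (· ∈ H)) (by simp)
      (fun g => (Λ : G → ℂ) g * conj ((Λ : G → ℂ) g)), Finset.sum_filter]
    apply Finset.sum_congr rfl
    intro g _
    split_ifs with h
    · rfl
    · rw [hvan g (fun e => h ((hmemH g).mpr e)), zero_mul]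
  rw [hsum] at n1
  have hG0 : (Nat.card G : ℂ) ≠ 0 := Nat.cast_ne_zero.mpr Nat.card_pos.ne'
  have hH0 : (Nat.card H : ℂ) ≠ 0 := Nat.cast_ne_zero.mpr Nat.card_pos.ne'
  have e1 : ∑ h : H, (Λ : G → ℂ) h * conj ((Λ : G → ℂ) h) = (Nat.card G : ℂ) := by
    field_simp at n1
    exact n1
  have e2 : ∑ h : H, (Λ : G → ℂ) h * conj ((Λ : G → ℂ) h) = (Nat.card H : ℂ) := by
    field_simp at n2
    exact n2
  have hcard : Nat.card H = Nat.card G := by
    have : (Nat.card H : ℂ) = (Nat.card G : ℂ) := by rw [← e1, ← e2]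
    exact_mod_cast this
  have htop : H = ⊤ := Subgroup.eq_top_of_card_eq H hcard
  intro g
  exact (hmemH g).mp (by rw [htop]; exact Subgroup.mem_top g)

end linear

variable {G : Type*} [Group G] [Fintype G] [DecidableEq G] {p : ℕ} [hp : Fact p.Prime]
variable {P : Sylow p G}
variable [Fintype ↥(Subgroup.centralizer ((P : Subgroup G) : Set G))]
variable [Fintype ↥(Subgroup.normalizer ((P : Subgroup G) : Set G))]
variable {M : Ideal Cfsg.AlgInt}

local notation "𝐂" => Subgroup.centralizer ((P : Subgroup G) : Set G)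
local notation "𝐍" => Subgroup.normalizer ((P : Subgroup G) : Set G)
local notation "𝐃" => Subgroup.subgroupOf (P : Subgroup G) (Subgroup.centralizer ((P : Subgroup G) : Set G))

/-- a sum over a block, split into the non-exceptional and the exceptional characters -/
theorem sum_block_split [Fintype (Cfsg.IrrCharacter G)] {L : Loc M P}
    {B : Set (Cfsg.IrrCharacter G)} (K : L.Str B) [Fintype L.J] [DecidablePred (· ∈ B)]
    [DecidablePred (· ∈ K.S)] (f : Cfsg.IrrCharacter G → ℂ) :
    ∑ χ ∈ Finset.univ.filter (· ∈ B), f χ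
      = ∑ χ ∈ Finset.univ.filter (· ∈ K.S), f χ + ∑ j : L.J, f (K.Λ j) := by
  classical
  have hU : Finset.univ.filter (· ∈ B)
      = Finset.univ.filter (· ∈ K.S) ∪ Finset.univ.image K.Λ := by
    ext χ
    simp only [Finset.mem_filter, Finset.mem_univ, true_and, Finset.mem_union, Finset.mem_image]
    constructor
    · intro h
      by_cases hY : χ ∈ Set.range K.Λ
      · right
        obtain ⟨j, hj⟩ := hY
        exact ⟨j, hj⟩
      · left
        exact ⟨h, hY⟩
    · rintro (h | ⟨j, hj⟩)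
      · exact h.1
      · rw [← hj]
        exact K.mem j
  have hD : Disjoint (Finset.univ.filter (· ∈ K.S)) (Finset.univ.image K.Λ) := by
    rw [Finset.disjoint_left]
    intro χ h1 h2
    simp only [Finset.mem_filter, Finset.mem_univ, true_and] at h1
    simp only [Finset.mem_image, Finset.mem_univ, true_and] at h2
    exact h1.2 h2
  rw [hU, Finset.sum_union hD, Finset.sum_image (fun i _ j _ h => K.inj h)]

section main

variable (hP : Nat.card P = p) (hM : Cfsg.IsPModular p M)
include hP hM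

/-- the sum of the two exceptional characters at a `p`-singular element of the centralizer -/
theorem exc_add (L : Loc M P) (hstab : ∀ n : 𝐍, act P n L.θ = L.θ)
    {B : Set (Cfsg.IrrCharacter G)} (hB : Cfsg.IsPBlock M B)
    (hBP : Cfsg.IsDefectGroup p M B (P : Subgroup G))
    (hind : Cfsg.IsInducedBlock M 𝐂 L.b B) (K : L.Str B) (hJ : Nat.card L.J = 2)
    {i i' : L.J} (hii : i ≠ i') (c : 𝐂) (hc : p ∣ orderOf c) :
    (K.Λ i : G → ℂ) c + (K.Λ i' : G → ℂ) c = (K.δ (K.Λ i) : ℂ) * (L.θ : 𝐂 → ℂ) c := by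
  classical
  have : Fintype (Cfsg.IrrCharacter 𝐂) := Fintype.ofFinite _
  have h1 := L.value_of_stable hP hM hstab hB hBP hind (K.Λ i) (K.mem i) c hc
  have h2 := L.value_of_stable hP hM hstab hB hBP hind (K.Λ i') (K.mem i') c hc
  have hco : ∀ ξ ∈ Finset.univ.filter (· ∈ L.star),
      (aco P L.θ ξ (K.Λ i) : ℂ) * (ξ : 𝐂 → ℂ) c + (aco P L.θ ξ (K.Λ i') : ℂ) * (ξ : 𝐂 → ℂ) c
        = (K.δ (K.Λ i) : ℂ) * (ξ : 𝐂 → ℂ) c := by
    intro ξ hξ
    have hξs : ξ ∈ L.star := (Finset.mem_filter.mp hξ).2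
    rw [L.aco_eq_rep hξs (K.Λ i), L.aco_eq_rep hξs (K.Λ i')]
    rcases eq_or_eq_of_card_two hJ hii (Quotient.mk L.rel ⟨ξ, hξs⟩) with h | h
    · rw [h, K.diag i, K.off i' i (Ne.symm hii)]
      push_cast
      ring
    · rw [h, K.diag i', K.off i i' hii, K.sign_const hP hM hind i' i]
      push_cast
      ring
  have hstar : ∑ ξ ∈ Finset.univ.filter (· ∈ L.star), (ξ : 𝐂 → ℂ) c = - (L.θ : 𝐂 → ℂ) c := by
    have hb := sum_block_of_pSingular P hP hM L.hb L.hθ L.hθP c hc
    have hE : Finset.univ.filter (· ∈ L.star) = (Finset.univ.filter (· ∈ L.b)).erase L.θ := by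
      ext ξ
      simp only [Finset.mem_filter, Finset.mem_univ, true_and, Finset.mem_erase]
      exact ⟨fun h => ⟨h.2, h.1⟩, fun h => ⟨h.2, h.1⟩⟩
    rw [hE]
    have h3 := Finset.add_sum_erase (Finset.univ.filter (· ∈ L.b)) (fun ξ => (ξ : 𝐂 → ℂ) c)
      (Finset.mem_filter.mpr ⟨Finset.mem_univ _, L.hθ⟩)
    rw [hb] at h3
    linear_combination h3
  rw [h1, h2, ← neg_add, ← Finset.sum_add_distrib, Finset.sum_congr rfl hco, ← Finset.mul_sum,
    hstar]
  ring

/-- a non-exceptional character of the principal block at a `p`-singular element -/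
theorem prin_S_sing (K₀ : (prin P hM).Str (Cfsg.principalBlock M G)) {χ : Cfsg.IrrCharacter G}
    (hχ : χ ∈ K₀.S) (g : G) (hg : p ∣ orderOf g) : (χ : G → ℂ) g = (K₀.δ χ : ℂ) := by
  obtain ⟨t, z, hz, hz1, y, hy, hyr, hzy⟩ := exists_conj_decomp P hP g hg
  obtain ⟨c, hc⟩ : ∃ c : 𝐂, (c : G) = z * y := ⟨⟨z * y, mul_mem (P_le_C P hP hz) hy⟩, rfl⟩
  have hcs : p ∣ orderOf c := by
    rw [← Subgroup.orderOf_coe, hc, ← hzy]
    have h1 := orderOf_conj_eq g t⁻¹
    rw [inv_inv] at h1
    rw [h1]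
    exact hg
  have h2 := prin_S_apply hP hM K₀ hχ c hcs
  rw [hc, ← hzy] at h2
  have h3 := IsIrrCharacter.isClassFunction χ.2 g t⁻¹
  rw [inv_inv] at h3
  rw [← h3]
  exact h2

section central

variable (hcen : ∀ c : ↥(Subgroup.centralizer ((P : Subgroup G) : Set G)), ¬ p ∣ orderOf c →
  (c : G) ∈ Subgroup.center G)
include hcen

theorem relIndex_eq_degree {Λ : Cfsg.IrrCharacter G} (D : Small M P Λ)
    (hdp : Cfsg.charDegree (Λ : G → ℂ) < p) :
    (𝐂).relIndex 𝐍 = Cfsg.charDegree (Λ : G → ℂ) := by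
  classical
  obtain ⟨hdeg, -⟩ := D.mlt_eq hP hM hdp D.j
  rw [cen_charDegree hP hM hcen, mul_one] at hdeg
  exact hdeg.symm

theorem card_J_eq_two (L : Loc M P) {m : ℕ} (hm : (𝐂).relIndex 𝐍 = m) (hpm : 2 * m + 1 = p) :
    Nat.card L.J = 2 := by
  have h1 := L.card_J_mul_e hP hM
  rw [cen_e hP hM hcen, hm] at h1
  have hm0 : 0 < m := by
    by_contra h
    have h0 : m = 0 := by omega
    rw [h0] at hpm
    have := hp.out.one_lt
    omega
  have h2 : Nat.card L.J * m = 2 * m := by omega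
  exact Nat.eq_of_mul_eq_mul_right hm0 h2

/-- the sum of two exceptional characters at an arbitrary `p`-singular element has absolute
value one -/
theorem exc_add_sing (L : Loc M P) {B : Set (Cfsg.IrrCharacter G)} (hB : Cfsg.IsPBlock M B)
    (hBP : Cfsg.IsDefectGroup p M B (P : Subgroup G))
    (hind : Cfsg.IsInducedBlock M 𝐂 L.b B) (K : L.Str B) (hJ : Nat.card L.J = 2)
    {i i' : L.J} (hii : i ≠ i') (g : G) (hg : p ∣ orderOf g) :
    ((K.Λ i : G → ℂ) g + (K.Λ i' : G → ℂ) g) * conj ((K.Λ i : G → ℂ) g + (K.Λ i' : G → ℂ) g)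
      = 1 := by
  obtain ⟨t, z, hz, hz1, y, hy, hyr, hzy⟩ := exists_conj_decomp P hP g hg
  obtain ⟨c, hc⟩ : ∃ c : 𝐂, (c : G) = z * y := ⟨⟨z * y, mul_mem (P_le_C P hP hz) hy⟩, rfl⟩
  have hcs : p ∣ orderOf c := by
    rw [← Subgroup.orderOf_coe, hc, ← hzy]
    have h1 := orderOf_conj_eq g t⁻¹
    rw [inv_inv] at h1
    rw [h1]
    exact hg
  have h2 := exc_add hP hM L (cen_stab hP hM hcen L) hB hBP hind K hJ hii c hcs
  rw [hc, ← hzy] at h2
  have h3 := IsIrrCharacter.isClassFunction (K.Λ i).2 g t⁻¹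
  have h4 := IsIrrCharacter.isClassFunction (K.Λ i').2 g t⁻¹
  rw [inv_inv] at h3 h4
  rw [h3, h4] at h2
  rw [h2, map_mul, map_intCast]
  have h5 := linear_mul_conj (IsIrrCharacter.isCharacter L.θ.2) (cen_apply_one hP hM hcen L.θ) c
  have h6 : (K.δ (K.Λ i) : ℂ) * (K.δ (K.Λ i) : ℂ) = 1 := by
    rcases K.sgn (K.Λ i) with h | h <;> rw [h] <;> norm_num
  linear_combination (K.δ (K.Λ i) : ℂ) * (K.δ (K.Λ i) : ℂ) * h5 + h6

end central

end main

end Cfsg.Agent.Lib.Helper6.BH
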