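import Mathlib
import Cfsg.Agent.Lib.Helper6.BH4

/-!
# The degrees in the principal block and the decomposition of `Λ Λ̄` or `Λ Λ̄'`
-/

set_option autoImplicit false
set_option linter.unusedSectionVars false
set_option linter.style.haveILetI false

namespace Cfsg.Agent.Lib.Helper6.BH

open Cfsg.Agent.Lib.Helper6 Cfsg.Agent.Lib.Helper6.PB Cfsg.Agent.Lib.Helper6.BR
open scoped ComplexConjugate

theorem gap_lemma {α : Type*} [DecidableEq α] (s : Finset α) (f : α → ℤ) (n g : ℤ)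
    (h : ∀ x ∈ s, n ≤ f x) (hgap : ∀ x ∈ s, f x ≠ n → n + g ≤ f x)
    (hs : ∑ x ∈ s, f x < s.card * n + g) : ∀ x ∈ s, f x = n := by
  intro x hx
  by_contra hne
  have h1 := hgap x hx hne
  have h2 := Finset.add_sum_erase s f hx
  have h3 : ((s.erase x).card : ℤ) * n ≤ ∑ y ∈ s.erase x, f y := by
    have := Finset.card_nsmul_le_sum (s.erase x) f n (fun y hy => h y (Finset.mem_of_mem_erase hy))
    rwa [nsmul_eq_mul] at this
  have h4 : ((s.erase x).card : ℤ) + 1 = s.card := by exact_mod_cast Finset.card_erase_add_one hx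
  have h5 : (s.card : ℤ) * n = ((s.erase x).card : ℤ) * n + n := by rw [← h4]; ring
  linarith

theorem prod_eq_min {a d n : ℤ} (ha : 1 ≤ a) (hd : n ≤ d) (hn : 0 < n) (h : a * d = n) :
    a = 1 ∧ d = n := by
  have ha1 : a = 1 := by
    by_contra hne
    have h2 : 2 ≤ a := by omega
    have : 2 * d ≤ a * d := mul_le_mul_of_nonneg_right h2 (by linarith)
    linarith
  subst ha1
  exact ⟨rfl, by linarith⟩

theorem prod_gap {a d n g : ℤ} (ha : 1 ≤ a) (hd : n ≤ d) (hn : 0 < n) (hg : g ≤ n)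
    (hdgap : d ≠ n → n + g ≤ d) (h : a * d ≠ n) : n + g ≤ a * d := by
  by_cases ha1 : a = 1
  · subst ha1
    rw [one_mul] at h ⊢
    exact hdgap h
  · have h2 : 2 ≤ a := by omega
    have : 2 * d ≤ a * d := mul_le_mul_of_nonneg_right h2 (by linarith)
    linarith

theorem half_count {α : Type*} [DecidableEq α] (𝒮 : Finset α) (δ d a a' : α → ℤ) (m : ℤ) (t : α)
    (hm : 2 ≤ m)
    (hδ : ∀ χ ∈ 𝒮, δ χ = 1 ∨ δ χ = -1)
    (hcard : (𝒮.card : ℤ) = m)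
    (ht : t ∈ 𝒮) (htδ : δ t = 1) (hdt : d t = 1) (hat : a t = 1)
    (ha : ∀ χ ∈ 𝒮, a χ = a' χ + δ χ) (ha0 : ∀ χ ∈ 𝒮, 0 ≤ a χ) (ha'0 : ∀ χ ∈ 𝒮, 0 ≤ a' χ)
    (hdp : ∀ χ ∈ 𝒮, δ χ = 1 → χ ≠ t → 2 * m + 2 ≤ d χ)
    (hdp' : ∀ χ ∈ 𝒮, δ χ = 1 → χ ≠ t → d χ ≠ 2 * m + 2 → 4 * m + 3 ≤ d χ)
    (hdm : ∀ χ ∈ 𝒮, δ χ = -1 → 2 * m ≤ d χ)
    (hdm' : ∀ χ ∈ 𝒮, δ χ = -1 → d χ ≠ 2 * m → 4 * m + 1 ≤ d χ)
    (hsum : ∑ χ ∈ 𝒮, a χ * d χ ≤ m * m) (hsum' : ∑ χ ∈ 𝒮, a' χ * d χ ≤ m * m) :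
    (2 * ((𝒮.filter (fun χ => δ χ = 1)).card : ℤ) = m + 1 ∧
      2 * ((𝒮.filter (fun χ => ¬ δ χ = 1)).card : ℤ) = m - 1 ∧
      (∀ χ ∈ 𝒮, δ χ = 1 → a χ = 1) ∧
      ∑ χ ∈ 𝒮.filter (fun χ => δ χ = 1), a χ * d χ = m * m ∧
      (∀ χ ∈ 𝒮, δ χ = 1 → χ ≠ t → d χ = 2 * m + 2) ∧ (∀ χ ∈ 𝒮, δ χ = -1 → d χ = 2 * m)) ∨
    (2 * ((𝒮.filter (fun χ => δ χ = 1)).card : ℤ) = m ∧
      2 * ((𝒮.filter (fun χ => ¬ δ χ = 1)).card : ℤ) = m ∧
      (∀ χ ∈ 𝒮, δ χ = -1 → a' χ = 1) ∧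
      ∑ χ ∈ 𝒮.filter (fun χ => ¬ δ χ = 1), a' χ * d χ = m * m ∧
      (∀ χ ∈ 𝒮, δ χ = 1 → χ ≠ t → d χ = 2 * m + 2) ∧ (∀ χ ∈ 𝒮, δ χ = -1 → d χ = 2 * m)) := by
  obtain ⟨Sp, hSp⟩ : ∃ Sp : Finset α, Sp = 𝒮.filter (fun χ => δ χ = 1) := ⟨_, rfl⟩
  obtain ⟨Sm, hSm⟩ : ∃ Sm : Finset α, Sm = 𝒮.filter (fun χ => ¬ δ χ = 1) := ⟨_, rfl⟩
  obtain ⟨Sq, hSq⟩ : ∃ Sq : Finset α, Sq = Sp.erase t := ⟨_, rfl⟩
  rw [← hSp, ← hSm]
  have hmemp : ∀ χ, χ ∈ Sp ↔ χ ∈ 𝒮 ∧ δ χ = 1 := by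
    intro χ; rw [hSp, Finset.mem_filter]
  have hmemm : ∀ χ, χ ∈ Sm ↔ χ ∈ 𝒮 ∧ δ χ = -1 := by
    intro χ
    rw [hSm, Finset.mem_filter]
    constructor
    · rintro ⟨h1, h2⟩
      rcases hδ χ h1 with h | h
      · exact absurd h h2
      · exact ⟨h1, h⟩
    · rintro ⟨h1, h2⟩
      refine ⟨h1, ?_⟩
      rw [h2]; norm_num
  have hmemq : ∀ χ, χ ∈ Sq ↔ χ ∈ 𝒮 ∧ δ χ = 1 ∧ χ ≠ t := by
    intro χ
    rw [hSq, Finset.mem_erase, hmemp]
    tauto
  have htSp : t ∈ Sp := (hmemp t).mpr ⟨ht, htδ⟩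
  have hcardAB : (Sp.card : ℤ) + (Sm.card : ℤ) = m := by
    rw [← hcard, hSp, hSm]
    exact_mod_cast Finset.card_filter_add_card_filter_not (s := 𝒮) (fun χ => δ χ = 1)
  have hcardq : (Sq.card : ℤ) + 1 = Sp.card := by
    rw [hSq]
    exact_mod_cast Finset.card_erase_add_one htSp
  have hm0 : (0 : ℤ) < m := by linarith
  -- facts on the members
  have hq1 : ∀ χ ∈ Sq, 1 ≤ a χ ∧ 2 * m + 2 ≤ d χ := by
    intro χ hχ
    obtain ⟨h1, h2, h3⟩ := (hmemq χ).mp hχ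
    have := ha χ h1
    have := ha'0 χ h1
    exact ⟨by linarith, hdp χ h1 h2 h3⟩
  have hm1 : ∀ χ ∈ Sm, 1 ≤ a' χ ∧ 2 * m ≤ d χ := by
    intro χ hχ
    obtain ⟨h1, h2⟩ := (hmemm χ).mp hχ
    have := ha χ h1
    have := ha0 χ h1
    exact ⟨by linarith, hdm χ h1 h2⟩
  have hqlow : ∀ χ ∈ Sq, 2 * m + 2 ≤ a χ * d χ := by
    intro χ hχ
    obtain ⟨h1, h2⟩ := hq1 χ hχ
    have : 1 * d χ ≤ a χ * d χ := mul_le_mul_of_nonneg_right h1 (by linarith)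
    linarith
  have hmlow : ∀ χ ∈ Sm, 2 * m ≤ a' χ * d χ := by
    intro χ hχ
    obtain ⟨h1, h2⟩ := hm1 χ hχ
    have : 1 * d χ ≤ a' χ * d χ := mul_le_mul_of_nonneg_right h1 (by linarith)
    linarith
  -- the sums
  have hsplit : ∑ χ ∈ 𝒮, a χ * d χ = ∑ χ ∈ Sp, a χ * d χ + ∑ χ ∈ Sm, a χ * d χ := by
    rw [hSp, hSm]
    exact (Finset.sum_filter_add_sum_filter_not 𝒮 (fun χ => δ χ = 1) _).symm
  have hsplit' : ∑ χ ∈ 𝒮, a' χ * d χ = ∑ χ ∈ Sp, a' χ * d χ + ∑ χ ∈ Sm, a' χ * d χ := by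
    rw [hSp, hSm]
    exact (Finset.sum_filter_add_sum_filter_not 𝒮 (fun χ => δ χ = 1) _).symm
  have hnn1 : 0 ≤ ∑ χ ∈ Sm, a χ * d χ := by
    apply Finset.sum_nonneg
    intro χ hχ
    obtain ⟨h1, h2⟩ := (hmemm χ).mp hχ
    exact mul_nonneg (ha0 χ h1) (by have := hdm χ h1 h2; linarith)
  have hnn2 : 0 ≤ ∑ χ ∈ Sp, a' χ * d χ := by
    apply Finset.sum_nonneg
    intro χ hχ
    obtain ⟨h1, h2⟩ := (hmemp χ).mp hχ
    apply mul_nonneg (ha'0 χ h1)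
    by_cases hχt : χ = t
    · rw [hχt, hdt]; norm_num
    · have := hdp χ h1 h2 hχt; linarith
  have hSpsum : ∑ χ ∈ Sp, a χ * d χ = 1 + ∑ χ ∈ Sq, a χ * d χ := by
    rw [hSq, ← Finset.add_sum_erase Sp _ htSp, hat, hdt]
    ring
  have hqle : ∑ χ ∈ Sq, a χ * d χ ≤ m * m - 1 := by linarith
  have hmle : ∑ χ ∈ Sm, a' χ * d χ ≤ m * m := by linarith
  have hqge : (Sq.card : ℤ) * (2 * m + 2) ≤ ∑ χ ∈ Sq, a χ * d χ := by
    have := Finset.card_nsmul_le_sum Sq (fun χ => a χ * d χ) (2 * m + 2) hqlow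
    rwa [nsmul_eq_mul] at this
  have hmge : (Sm.card : ℤ) * (2 * m) ≤ ∑ χ ∈ Sm, a' χ * d χ := by
    have := Finset.card_nsmul_le_sum Sm (fun χ => a' χ * d χ) (2 * m) hmlow
    rwa [nsmul_eq_mul] at this
  obtain ⟨A, hA⟩ : ∃ A : ℤ, A = (Sq.card : ℤ) := ⟨_, rfl⟩
  obtain ⟨Bn, hBn⟩ : ∃ Bn : ℤ, Bn = (Sm.card : ℤ) := ⟨_, rfl⟩
  rw [← hA] at hcardq hqge
  rw [← hBn] at hcardAB hmge
  have hA0 : 0 ≤ A := by rw [hA]; exact Int.natCast_nonneg _
  have hB0 : 0 ≤ Bn := by rw [hBn]; exact Int.natCast_nonneg _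
  have hAle : 2 * A ≤ m - 1 := by
    by_contra hlt
    have h1 : m ≤ 2 * A := by omega
    have h2 : m * (m + 1) ≤ 2 * A * (m + 1) := mul_le_mul_of_nonneg_right h1 (by linarith)
    nlinarith
  have hBle : 2 * Bn ≤ m := by
    by_contra hlt
    have h1 : m + 1 ≤ 2 * Bn := by omega
    have h2 : (m + 1) * m ≤ 2 * Bn * m := mul_le_mul_of_nonneg_right h1 hm0.le
    nlinarith
  have hcases : (2 * A = m - 1 ∧ 2 * Bn = m - 1) ∨ (2 * A = m - 2 ∧ 2 * Bn = m) := by omega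
  have hdegq : (∀ χ ∈ Sq, a χ * d χ = 2 * m + 2) →
      ∀ χ ∈ 𝒮, δ χ = 1 → χ ≠ t → (a χ = 1 ∧ d χ = 2 * m + 2) := by
    intro hall χ h1 h2 h3
    have hχq : χ ∈ Sq := (hmemq χ).mpr ⟨h1, h2, h3⟩
    obtain ⟨e1, e2⟩ := hq1 χ hχq
    exact prod_eq_min e1 e2 (by linarith) (hall χ hχq)
  have hdegm : (∀ χ ∈ Sm, a' χ * d χ = 2 * m) →
      ∀ χ ∈ 𝒮, δ χ = -1 → (a' χ = 1 ∧ d χ = 2 * m) := by
    intro hall χ h1 h2
    have hχm : χ ∈ Sm := (hmemm χ).mpr ⟨h1, h2⟩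
    obtain ⟨e1, e2⟩ := hm1 χ hχm
    exact prod_eq_min e1 e2 (by linarith) (hall χ hχm)
  rcases hcases with ⟨hA2, hB2⟩ | ⟨hA2, hB2⟩
  · left
    have hAeq : A * (2 * m + 2) = m * m - 1 := by
      have : 2 * A * (m + 1) = (m - 1) * (m + 1) := by rw [hA2]
      linarith
    have hallq : ∀ χ ∈ Sq, a χ * d χ = 2 * m + 2 := by
      apply gap_lemma Sq (fun χ => a χ * d χ) (2 * m + 2) 1 hqlow
      · intro χ hχ hne
        have := hqlow χ hχ
        omega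
      · rw [← hA]; linarith
    have hallm : ∀ χ ∈ Sm, a' χ * d χ = 2 * m := by
      apply gap_lemma Sm (fun χ => a' χ * d χ) (2 * m) (2 * m) hmlow
      · intro χ hχ hne
        obtain ⟨h1, h2⟩ := (hmemm χ).mp hχ
        obtain ⟨e1, e2⟩ := hm1 χ hχ
        apply prod_gap e1 e2 (by linarith) le_rfl _ hne
        intro hd
        have := hdm' χ h1 h2 hd
        linarith
      · rw [← hBn]
        have : 2 * Bn * m = (m - 1) * m := by rw [hB2]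
        nlinarith
    refine ⟨by linarith, by linarith, ?_, ?_, ?_, ?_⟩
    · intro χ h1 h2
      by_cases hχt : χ = t
      · rw [hχt]; exact hat
      · exact (hdegq hallq χ h1 h2 hχt).1
    · rw [hSpsum]
      have : ∑ χ ∈ Sq, a χ * d χ = m * m - 1 := le_antisymm hqle (by linarith)
      linarith
    · intro χ h1 h2 h3
      exact (hdegq hallq χ h1 h2 h3).2
    · intro χ h1 h2
      exact (hdegm hallm χ h1 h2).2
  · right
    have hBeq : Bn * (2 * m) = m * m := by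
      have : 2 * Bn * m = m * m := by rw [hB2]
      linarith
    have hallm : ∀ χ ∈ Sm, a' χ * d χ = 2 * m := by
      apply gap_lemma Sm (fun χ => a' χ * d χ) (2 * m) 1 hmlow
      · intro χ hχ hne
        have := hmlow χ hχ
        omega
      · rw [← hBn]; linarith
    have hallq : ∀ χ ∈ Sq, a χ * d χ = 2 * m + 2 := by
      apply gap_lemma Sq (fun χ => a χ * d χ) (2 * m + 2) (2 * m + 1) hqlow
      · intro χ hχ hne
        obtain ⟨h1, h2, h3⟩ := (hmemq χ).mp hχ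
        obtain ⟨e1, e2⟩ := hq1 χ hχ
        apply prod_gap e1 e2 (by linarith) (by linarith) _ hne
        intro hd
        have := hdp' χ h1 h2 h3 hd
        linarith
      · rw [← hA]
        have : 2 * A * (m + 1) = (m - 2) * (m + 1) := by rw [hA2]
        nlinarith
    refine ⟨by linarith, by linarith, ?_, ?_, ?_, ?_⟩
    · intro χ h1 h2
      exact (hdegm hallm χ h1 h2).1
    · exact le_antisymm hmle (by linarith)
    · intro χ h1 h2 h3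
      exact (hdegq hallq χ h1 h2 h3).2
    · intro χ h1 h2
      exact (hdegm hallm χ h1 h2).2

variable {G : Type*} [Group G] [Fintype G] [DecidableEq G] {p : ℕ} [hp : Fact p.Prime]
variable {P : Sylow p G}
variable [Fintype ↥(Subgroup.centralizer ((P : Subgroup G) : Set G))]
variable [Fintype ↥(Subgroup.normalizer ((P : Subgroup G) : Set G))]
variable {M : Ideal Cfsg.AlgInt}

local notation "𝐂" => Subgroup.centralizer ((P : Subgroup G) : Set G)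
local notation "𝐍" => Subgroup.normalizer ((P : Subgroup G) : Set G)
local notation "𝐃" => Subgroup.subgroupOf (P : Subgroup G) (Subgroup.centralizer ((P : Subgroup G) : Set G))

/-- if the degree sum of a sub-family of constituents already exhausts the degree, the character
is the sum of that family -/
theorem eq_sum_of_degree_sum [Fintype (Cfsg.IrrCharacter G)] {X : G → ℂ}
    (m1 : Cfsg.IrrCharacter G → ℕ) (hsum : X = ∑ θ, m1 θ • (θ : G → ℂ))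
    (𝒯 : Finset (Cfsg.IrrCharacter G)) (h1 : ∀ χ ∈ 𝒯, m1 χ = 1) (n : ℕ)
    (htot : ∑ ψ : Cfsg.IrrCharacter G, m1 ψ * Cfsg.charDegree (ψ : G → ℂ) = n)
    (hsub : ∑ χ ∈ 𝒯, m1 χ * Cfsg.charDegree (χ : G → ℂ) = n) (g : G) :
    X g = ∑ χ ∈ 𝒯, (χ : G → ℂ) g := by
  classical
  have hzero : ∀ ψ : Cfsg.IrrCharacter G, ψ ∉ 𝒯 → m1 ψ = 0 := by
    intro ψ hψ
    have h2 := Finset.sum_add_sum_compl 𝒯 (fun ψ => m1 ψ * Cfsg.charDegree (ψ : G → ℂ))
    rw [htot, hsub] at h2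
    have h3 : ∑ ψ ∈ 𝒯ᶜ, m1 ψ * Cfsg.charDegree (ψ : G → ℂ) = 0 := by omega
    have h4 := (Finset.sum_eq_zero_iff.mp h3) ψ (Finset.mem_compl.mpr hψ)
    rcases Nat.mul_eq_zero.mp h4 with h | h
    · exact h
    · exact absurd h (IsIrrCharacter.charDegree_pos ψ.2).ne'
  rw [apply_eq_sum_mult hsum g, ← Finset.sum_subset (Finset.subset_univ 𝒯)]
  · apply Finset.sum_congr rfl
    intro χ hχ
    rw [h1 χ hχ]
    simp
  · intro ψ _ hψ
    rw [hzero ψ hψ]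
    simp

section main

variable (hP : Nat.card P = p) (hM : Cfsg.IsPModular p M)
variable (hcen : ∀ c : ↥(Subgroup.centralizer ((P : Subgroup G) : Set G)), ¬ p ∣ orderOf c →
  (c : G) ∈ Subgroup.center G)
include hP hM hcen

/-- the structure of the non-exceptional characters of the principal block and the
decomposition of one of the two products -/
theorem halves {Λ : Cfsg.IrrCharacter G} (D : Small M P Λ)
    (hdeg : 2 * Cfsg.charDegree (Λ : G → ℂ) + 1 = p) (hd2 : 2 ≤ Cfsg.charDegree (Λ : G → ℂ))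
    (K₀ : (prin P hM).Str (Cfsg.principalBlock M G)) {j₁ : D.L.J} (hj₁ : j₁ ≠ D.j)
    (hlin : ∀ μ ∈ K₀.S, K₀.δ μ = 1 → Cfsg.charDegree (μ : G → ℂ) = 1 →
      Cfsg.classInner ((Λ : G → ℂ) * fun g => conj ((Λ : G → ℂ) g)) (μ : G → ℂ) ≠ 0 →
      μ = oneIrr G) :
    ∃ Sp Sm : Finset (Cfsg.IrrCharacter G),
      (∀ χ, χ ∈ Sp ↔ χ ∈ K₀.S ∧ K₀.δ χ = 1) ∧ (∀ χ, χ ∈ Sm ↔ χ ∈ K₀.S ∧ K₀.δ χ = -1) ∧
      oneIrr G ∈ Sp ∧
      (∀ χ ∈ Sp, χ ≠ oneIrr G → Cfsg.charDegree (χ : G → ℂ) = p + 1) ∧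
      (∀ χ ∈ Sm, Cfsg.charDegree (χ : G → ℂ) + 1 = p) ∧
      ((2 * Sp.card = Cfsg.charDegree (Λ : G → ℂ) + 1 ∧
          2 * Sm.card + 1 = Cfsg.charDegree (Λ : G → ℂ) ∧
          ∀ g, (Λ : G → ℂ) g * conj ((Λ : G → ℂ) g) = ∑ χ ∈ Sp, (χ : G → ℂ) g) ∨
        (2 * Sp.card = Cfsg.charDegree (Λ : G → ℂ) ∧ 2 * Sm.card = Cfsg.charDegree (Λ : G → ℂ) ∧
          ∀ g, (Λ : G → ℂ) g * conj ((D.K.Λ j₁ : G → ℂ) g) = ∑ χ ∈ Sm, (χ : G → ℂ) g)) := by
  classical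
  have : Fintype (Cfsg.IrrCharacter G) := Fintype.ofFinite _
  have : Fintype (Cfsg.IrrCharacter 𝐂) := Fintype.ofFinite _
  have : Fintype 𝐃 := Fintype.ofFinite _
  obtain ⟨m, hm⟩ : ∃ m : ℕ, m = Cfsg.charDegree (Λ : G → ℂ) := ⟨_, rfl⟩
  rw [← hm] at hdeg hd2 ⊢
  have hdp : Cfsg.charDegree (Λ : G → ℂ) < p := by omega
  have hrel : (𝐂).relIndex 𝐍 = m := by rw [hm]; exact relIndex_eq_degree hP hM hcen D hdp
  have hpp : (0 : ℤ) < p := by exact_mod_cast hp.out.pos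
  have hpm : (p : ℤ) = 2 * m + 1 := by exact_mod_cast hdeg.symm
  obtain ⟨t, ht⟩ : ∃ t : Cfsg.IrrCharacter G, t = oneIrr G := ⟨_, rfl⟩
  have ht1 : ∀ g, (t : G → ℂ) g = 1 := by intro g; rw [ht]; rfl
  have htdeg : Cfsg.charDegree (t : G → ℂ) = 1 := by rw [ht]; exact charDegree_one_fun
  -- the degrees of the non-exceptional characters
  obtain ⟨b, hbdef⟩ : ∃ b : Cfsg.IrrCharacter G → ℤ, ∀ χ, b χ = (aP P χ : ℤ) - K₀.δ χ :=
    ⟨_, fun _ => rfl⟩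
  have hdegb : ∀ χ ∈ K₀.S, (Cfsg.charDegree (χ : G → ℂ) : ℤ) = K₀.δ χ + p * b χ := by
    intro χ hχ
    have := prin_S_aP hP hM K₀ hχ
    rw [hbdef]
    linear_combination -this
  have hdpos : ∀ χ : Cfsg.IrrCharacter G, (1 : ℤ) ≤ (Cfsg.charDegree (χ : G → ℂ) : ℤ) := by
    intro χ
    exact_mod_cast IsIrrCharacter.charDegree_pos χ.2
  have hbpos : ∀ χ ∈ K₀.S, K₀.δ χ = 1 → 0 ≤ b χ := by
    intro χ hχ hδ1
    have h1 := hdegb χ hχ
    rw [hδ1] at h1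
    have := hdpos χ
    by_contra hneg
    have hb1 : b χ ≤ -1 := by omega
    nlinarith [mul_le_mul_of_nonneg_left hb1 hpp.le]
  have hbneg : ∀ χ ∈ K₀.S, K₀.δ χ = -1 → 1 ≤ b χ := by
    intro χ hχ hδ1
    have h0 := hbdef χ
    rw [hδ1] at h0
    have := Int.natCast_nonneg (aP P χ)
    linarith
  -- the products
  have hΛne : Λ ≠ D.K.Λ j₁ := by
    intro h
    apply hj₁
    apply D.K.inj
    rw [D.hΛ]
    exact h.symm
  have hX1 : Cfsg.IsCharacter G ((Λ : G → ℂ) * fun g => conj ((Λ : G → ℂ) g)) :=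
    IsCharacter.mul (IsIrrCharacter.isCharacter Λ.2)
      (IsCharacter.conj (IsIrrCharacter.isCharacter Λ.2))
  have hXj : Cfsg.IsCharacter G ((Λ : G → ℂ) * fun g => conj ((D.K.Λ j₁ : G → ℂ) g)) :=
    IsCharacter.mul (IsIrrCharacter.isCharacter Λ.2)
      (IsCharacter.conj (IsIrrCharacter.isCharacter (D.K.Λ j₁).2))
  obtain ⟨m1, hsum1, hinner1⟩ := IsCharacter.exists_mult hX1
  obtain ⟨mj, hsumj, hinnerj⟩ := IsCharacter.exists_mult hXj
  have hstar : ∀ χ ∈ K₀.S, (m1 χ : ℤ) = mj χ + K₀.δ χ := by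
    intro χ hχ
    have := star_identity hP hM D hdp K₀ hj₁ hχ
    rw [hinner1 χ, hinnerj χ] at this
    have h' : (((m1 χ : ℤ) - (mj χ : ℤ) : ℤ) : ℂ) = ((K₀.δ χ : ℤ) : ℂ) := by
      push_cast
      exact this
    have := Int.cast_injective h'
    linarith
  have hΛ1 := IsCharacter.apply_one_eq_charDegree (IsIrrCharacter.isCharacter Λ.2)
  have hΛj1 := IsCharacter.apply_one_eq_charDegree (IsIrrCharacter.isCharacter (D.K.Λ j₁).2)
  rw [D.degree_eq hP hM j₁] at hΛj1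
  rw [← hm] at hΛ1 hΛj1
  have hdegsum : ∀ (Λ₂ : Cfsg.IrrCharacter G) (mm : Cfsg.IrrCharacter G → ℕ),
      (Λ₂ : G → ℂ) 1 = (m : ℂ) →
      ((Λ : G → ℂ) * fun g => conj ((Λ₂ : G → ℂ) g)) = ∑ θ, mm θ • (θ : G → ℂ) →
      ∑ ψ : Cfsg.IrrCharacter G, mm ψ * Cfsg.charDegree (ψ : G → ℂ) = m * m := by
    intro Λ₂ mm h21 hs
    have h1 := apply_eq_sum_mult hs 1
    have h2 : ((Λ : G → ℂ) * fun g => conj ((Λ₂ : G → ℂ) g)) 1 = ((m * m : ℕ) : ℂ) := by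
      change (Λ : G → ℂ) 1 * conj ((Λ₂ : G → ℂ) 1) = _
      rw [hΛ1, h21, Complex.conj_natCast]
      push_cast
      ring
    rw [h2] at h1
    have h3 : ∑ ψ : Cfsg.IrrCharacter G, (mm ψ : ℂ) * (ψ : G → ℂ) 1
        = ((∑ ψ : Cfsg.IrrCharacter G, mm ψ * Cfsg.charDegree (ψ : G → ℂ) : ℕ) : ℂ) := by
      push_cast
      apply Finset.sum_congr rfl
      intro ψ _
      rw [IsCharacter.apply_one_eq_charDegree (IsIrrCharacter.isCharacter ψ.2)]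
    rw [h3] at h1
    exact_mod_cast h1.symm
  have hdegsum1 := hdegsum Λ m1 hΛ1 hsum1
  have hdegsumj := hdegsum (D.K.Λ j₁) mj hΛj1 hsumj
  -- the trivial character
  have hm1t : m1 t = 1 := by
    have h1 := hinner1 t
    have h2 : Cfsg.classInner ((Λ : G → ℂ) * fun g => conj ((Λ : G → ℂ) g)) (t : G → ℂ)
        = Cfsg.classInner (Λ : G → ℂ) (Λ : G → ℂ) := by
      unfold Cfsg.classInner
      congr 1
      apply Finset.sum_congr rfl
      intro g _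
      rw [Pi.mul_apply, ht1 g, map_one, mul_one]
    rw [h2, classInner_irrCharacter, if_pos rfl] at h1
    exact_mod_cast h1.symm
  have hmjt : mj t = 0 := by
    have h1 := hinnerj t
    have h2 : Cfsg.classInner ((Λ : G → ℂ) * fun g => conj ((D.K.Λ j₁ : G → ℂ) g)) (t : G → ℂ)
        = Cfsg.classInner (Λ : G → ℂ) (D.K.Λ j₁ : G → ℂ) := by
      unfold Cfsg.classInner
      congr 1
      apply Finset.sum_congr rfl
      intro g _
      rw [Pi.mul_apply, ht1 g, map_one, mul_one]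
    rw [h2, classInner_irrCharacter, if_neg hΛne] at h1
    exact_mod_cast h1.symm
  have htB : t ∈ Cfsg.principalBlock M G := by rw [ht]; exact sameBlock_refl hM _
  have htS : t ∈ K₀.S := by
    refine ⟨htB, ?_⟩
    rintro ⟨k, hk⟩
    have hcong := K₀.degree_Y hP hM isPBlock_principalBlock (prin_defect P hM)
      (prin_induced P hM) k
    rw [hk, htdeg, prin_charDegree P hM, mul_one, hrel] at hcong
    have hdvd := Int.modEq_iff_dvd.mp hcong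
    rcases K₀.sgn t with h | h
    · rw [h] at hdvd
      have h2 : (p : ℤ) ∣ (m : ℤ) + 1 := by
        have h3 := (dvd_neg (a := (p : ℤ))).mpr hdvd
        have e : -(-(1 : ℤ) * ((m : ℕ) : ℤ) - ((1 : ℕ) : ℤ)) = (m : ℤ) + 1 := by push_cast; ring
        rwa [e] at h3
      have := Int.le_of_dvd (by positivity) h2
      omega
    · rw [h] at hdvd
      have h2 : (p : ℤ) ∣ (m : ℤ) - 1 := by
        have e : (-(-1 : ℤ) * ((m : ℕ) : ℤ) - ((1 : ℕ) : ℤ)) = (m : ℤ) - 1 := by push_cast; ring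
        rwa [e] at hdvd
      have h3 : (0 : ℤ) < (m : ℤ) - 1 := by
        have : (2 : ℤ) ≤ (m : ℤ) := by exact_mod_cast hd2
        linarith
      have := Int.le_of_dvd h3 h2
      omega
  have htδ : K₀.δ t = 1 := by
    have := hstar t htS
    rw [hm1t, hmjt] at this
    push_cast at this
    linarith
  -- the set of non-exceptional characters
  obtain ⟨𝒮, h𝒮⟩ : ∃ 𝒮 : Finset (Cfsg.IrrCharacter G), 𝒮 = Finset.univ.filter (· ∈ K₀.S) :=
    ⟨_, rfl⟩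
  have hmem𝒮 : ∀ χ, χ ∈ 𝒮 ↔ χ ∈ K₀.S := by
    intro χ; rw [h𝒮, Finset.mem_filter]; simp
  have hcardS : (𝒮.card : ℤ) = (m : ℤ) := by
    have := K₀.card_S hP hM (prin_induced P hM) isPBlock_principalBlock (prin_defect P hM)
    rw [prin_e, Nat.card_eq_fintype_card, Fintype.card_subtype, hrel] at this
    rw [h𝒮]
    exact_mod_cast this
  have hcount := half_count 𝒮 K₀.δ (fun χ => (Cfsg.charDegree (χ : G → ℂ) : ℤ))
    (fun χ => (m1 χ : ℤ)) (fun χ => (mj χ : ℤ)) (m : ℤ) t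
    (by exact_mod_cast hd2) (fun χ _ => K₀.sgn χ) hcardS ((hmem𝒮 t).mpr htS) htδ
    (by rw [htdeg]; norm_num) (by rw [hm1t]; norm_num)
    (fun χ hχ => hstar χ ((hmem𝒮 χ).mp hχ)) (fun χ _ => Int.natCast_nonneg _)
    (fun χ _ => Int.natCast_nonneg _)
    (by
      intro χ hχ hδ1 hχt
      have hχS := (hmem𝒮 χ).mp hχ
      have h1 := hdegb χ hχS
      rw [hδ1] at h1
      have hb0 := hbpos χ hχS hδ1
      have hb1 : 1 ≤ b χ := by
        by_contra hlt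
        have hb : b χ = 0 := by omega
        rw [hb] at h1
        apply hχt
        rw [ht]
        apply hlin χ hχS hδ1
        · have : (Cfsg.charDegree (χ : G → ℂ) : ℤ) = 1 := by linarith
          exact_mod_cast this
        · rw [hinner1 χ]
          have h2 := hstar χ hχS
          rw [hδ1] at h2
          have h3 : (0 : ℤ) ≤ (mj χ : ℤ) := Int.natCast_nonneg _
          have h4 : m1 χ ≠ 0 := by omega
          exact_mod_cast h4
      nlinarith [mul_le_mul_of_nonneg_left hb1 hpp.le])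
    (by
      intro χ hχ hδ1 hχt hne
      have hχS := (hmem𝒮 χ).mp hχ
      have h1 := hdegb χ hχS
      rw [hδ1] at h1
      have hb0 := hbpos χ hχS hδ1
      have hb2 : 2 ≤ b χ := by
        by_contra hlt
        have hb : b χ = 0 ∨ b χ = 1 := by omega
        rcases hb with hb | hb
        · rw [hb] at h1
          apply hχt
          rw [ht]
          apply hlin χ hχS hδ1
          · have : (Cfsg.charDegree (χ : G → ℂ) : ℤ) = 1 := by linarith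
            exact_mod_cast this
          · rw [hinner1 χ]
            have h2 := hstar χ hχS
            rw [hδ1] at h2
            have h3 : (0 : ℤ) ≤ (mj χ : ℤ) := Int.natCast_nonneg _
            have h4 : m1 χ ≠ 0 := by omega
            exact_mod_cast h4
        · rw [hb] at h1
          apply hne
          linarith
      nlinarith [mul_le_mul_of_nonneg_left hb2 hpp.le])
    (by
      intro χ hχ hδ1
      have hχS := (hmem𝒮 χ).mp hχ
      have h1 := hdegb χ hχS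
      rw [hδ1] at h1
      have hb1 := hbneg χ hχS hδ1
      nlinarith [mul_le_mul_of_nonneg_left hb1 hpp.le])
    (by
      intro χ hχ hδ1 hne
      have hχS := (hmem𝒮 χ).mp hχ
      have h1 := hdegb χ hχS
      rw [hδ1] at h1
      have hb1 := hbneg χ hχS hδ1
      have hb2 : 2 ≤ b χ := by
        by_contra hlt
        have hb : b χ = 1 := by omega
        rw [hb] at h1
        apply hne
        linarith
      nlinarith [mul_le_mul_of_nonneg_left hb2 hpp.le])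
    (by
      have h1 : ∑ χ ∈ 𝒮, (m1 χ : ℤ) * (Cfsg.charDegree (χ : G → ℂ) : ℤ)
          ≤ ∑ χ : Cfsg.IrrCharacter G, (m1 χ : ℤ) * (Cfsg.charDegree (χ : G → ℂ) : ℤ) :=
        Finset.sum_le_sum_of_subset_of_nonneg (Finset.subset_univ _)
          (fun ψ _ _ => mul_nonneg (Int.natCast_nonneg _) (Int.natCast_nonneg _))
      have h2 : ∑ χ : Cfsg.IrrCharacter G, (m1 χ : ℤ) * (Cfsg.charDegree (χ : G → ℂ) : ℤ)
          = (m : ℤ) * (m : ℤ) := by exact_mod_cast hdegsum1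
      linarith)
    (by
      have h1 : ∑ χ ∈ 𝒮, (mj χ : ℤ) * (Cfsg.charDegree (χ : G → ℂ) : ℤ)
          ≤ ∑ χ : Cfsg.IrrCharacter G, (mj χ : ℤ) * (Cfsg.charDegree (χ : G → ℂ) : ℤ) :=
        Finset.sum_le_sum_of_subset_of_nonneg (Finset.subset_univ _)
          (fun ψ _ _ => mul_nonneg (Int.natCast_nonneg _) (Int.natCast_nonneg _))
      have h2 : ∑ χ : Cfsg.IrrCharacter G, (mj χ : ℤ) * (Cfsg.charDegree (χ : G → ℂ) : ℤ)
          = (m : ℤ) * (m : ℤ) := by exact_mod_cast hdegsumj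
      linarith)
  obtain ⟨Sp, hSp⟩ : ∃ Sp : Finset (Cfsg.IrrCharacter G),
      Sp = 𝒮.filter (fun χ => K₀.δ χ = 1) := ⟨_, rfl⟩
  obtain ⟨Sm, hSm⟩ : ∃ Sm : Finset (Cfsg.IrrCharacter G),
      Sm = 𝒮.filter (fun χ => ¬ K₀.δ χ = 1) := ⟨_, rfl⟩
  rw [← hSp, ← hSm] at hcount
  have hmemp : ∀ χ, χ ∈ Sp ↔ χ ∈ K₀.S ∧ K₀.δ χ = 1 := by
    intro χ; rw [hSp, Finset.mem_filter, hmem𝒮]
  have hmemm : ∀ χ, χ ∈ Sm ↔ χ ∈ K₀.S ∧ K₀.δ χ = -1 := by
    intro χ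
    rw [hSm, Finset.mem_filter, hmem𝒮]
    constructor
    · rintro ⟨h1, h2⟩
      rcases K₀.sgn χ with h | h
      · exact absurd h h2
      · exact ⟨h1, h⟩
    · rintro ⟨h1, h2⟩
      refine ⟨h1, ?_⟩
      rw [h2]; norm_num
  have hdegP : (∀ χ ∈ 𝒮, K₀.δ χ = 1 → χ ≠ t →
        (Cfsg.charDegree (χ : G → ℂ) : ℤ) = 2 * (m : ℤ) + 2) →
      ∀ χ ∈ Sp, χ ≠ oneIrr G → Cfsg.charDegree (χ : G → ℂ) = p + 1 := by
    intro h χ hχ hne
    obtain ⟨h1, h2⟩ := (hmemp χ).mp hχ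
    have h3 := h χ ((hmem𝒮 χ).mpr h1) h2 (by rw [ht]; exact hne)
    have h4 : (Cfsg.charDegree (χ : G → ℂ) : ℤ) = ((p + 1 : ℕ) : ℤ) := by
      push_cast; linarith
    exact_mod_cast h4
  have hdegM : (∀ χ ∈ 𝒮, K₀.δ χ = -1 → (Cfsg.charDegree (χ : G → ℂ) : ℤ) = 2 * (m : ℤ)) →
      ∀ χ ∈ Sm, Cfsg.charDegree (χ : G → ℂ) + 1 = p := by
    intro h χ hχ
    obtain ⟨h1, h2⟩ := (hmemm χ).mp hχ
    have h3 := h χ ((hmem𝒮 χ).mpr h1) h2
    have h4 : ((Cfsg.charDegree (χ : G → ℂ) + 1 : ℕ) : ℤ) = (p : ℤ) := by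
      push_cast; linarith
    exact_mod_cast h4
  refine ⟨Sp, Sm, hmemp, hmemm, (hmemp _).mpr ⟨by rw [← ht]; exact htS, by rw [← ht]; exact htδ⟩,
    ?_⟩
  rcases hcount with ⟨c1, c2, c3, c4, c5, c6⟩ | ⟨c1, c2, c3, c4, c5, c6⟩
  · refine ⟨hdegP c5, hdegM c6, Or.inl ⟨?_, ?_, ?_⟩⟩
    · have : ((2 * Sp.card : ℕ) : ℤ) = ((m + 1 : ℕ) : ℤ) := by push_cast; linarith
      exact_mod_cast this
    · have : ((2 * Sm.card + 1 : ℕ) : ℤ) = ((m : ℕ) : ℤ) := by push_cast; linarith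
      exact_mod_cast this
    · intro g
      have h1 : ∀ χ ∈ Sp, m1 χ = 1 := by
        intro χ hχ
        obtain ⟨e1, e2⟩ := (hmemp χ).mp hχ
        have := c3 χ ((hmem𝒮 χ).mpr e1) e2
        exact_mod_cast this
      have h2 : ∑ χ ∈ Sp, m1 χ * Cfsg.charDegree (χ : G → ℂ) = m * m := by
        have : ((∑ χ ∈ Sp, m1 χ * Cfsg.charDegree (χ : G → ℂ) : ℕ) : ℤ) = ((m * m : ℕ) : ℤ) := by
          push_cast; exact c4
        exact_mod_cast this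
      exact eq_sum_of_degree_sum m1 hsum1 Sp h1 (m * m) hdegsum1 h2 g
  · refine ⟨hdegP c5, hdegM c6, Or.inr ⟨?_, ?_, ?_⟩⟩
    · have : ((2 * Sp.card : ℕ) : ℤ) = ((m : ℕ) : ℤ) := by push_cast; linarith
      exact_mod_cast this
    · have : ((2 * Sm.card : ℕ) : ℤ) = ((m : ℕ) : ℤ) := by push_cast; linarith
      exact_mod_cast this
    · intro g
      have h1 : ∀ χ ∈ Sm, mj χ = 1 := by
        intro χ hχ
        obtain ⟨e1, e2⟩ := (hmemm χ).mp hχ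
        have := c3 χ ((hmem𝒮 χ).mpr e1) e2
        exact_mod_cast this
      have h2 : ∑ χ ∈ Sm, mj χ * Cfsg.charDegree (χ : G → ℂ) = m * m := by
        have : ((∑ χ ∈ Sm, mj χ * Cfsg.charDegree (χ : G → ℂ) : ℕ) : ℤ) = ((m * m : ℕ) : ℤ) := by
          push_cast; exact c4
        exact_mod_cast this
      exact eq_sum_of_degree_sum mj hsumj Sm h1 (m * m) hdegsumj h2 g

end main

end Cfsg.Agent.Lib.Helper6.BH
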