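import Mathlib
import Cfsg.Agent.Lib.Helper6.BH5

/-!
# Central characters, blocks of full defect, and class multiplication constants twisted by the
center
-/

set_option autoImplicit false
set_option linter.unusedSectionVars false
set_option linter.style.haveILetI false

namespace Cfsg.Agent.Lib.Helper6.BH

open Cfsg.Agent.Lib.Helper6 Cfsg.Agent.Lib.Helper6.PB Cfsg.Agent.Lib.Helper6.BR
open scoped ComplexConjugate

section generic

variable {G : Type*} [Group G] [Fintype G] [DecidableEq G]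

/-- the central character of an irreducible character, as a character of the center -/
noncomputable def cch (χ : Cfsg.IrrCharacter G) : Cfsg.IrrCharacter (Subgroup.center G) :=
  (exists_central_linear (Subgroup.center G) le_rfl χ).choose

theorem cch_one (χ : Cfsg.IrrCharacter G) : (cch χ : Subgroup.center G → ℂ) 1 = 1 :=
  (exists_central_linear (Subgroup.center G) le_rfl χ).choose_spec.1

theorem cch_mul (χ : Cfsg.IrrCharacter G) (u : Subgroup.center G) (k : G) :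
    (χ : G → ℂ) ((u : G) * k) = (cch χ : Subgroup.center G → ℂ) u * (χ : G → ℂ) k :=
  (exists_central_linear (Subgroup.center G) le_rfl χ).choose_spec.2 u k

theorem cch_mul_conj (χ : Cfsg.IrrCharacter G) (u : Subgroup.center G) :
    (cch χ : Subgroup.center G → ℂ) u * conj ((cch χ : Subgroup.center G → ℂ) u) = 1 :=
  linear_mul_conj (IsIrrCharacter.isCharacter (cch χ).2) (cch_one χ) u

theorem cch_norm (χ : Cfsg.IrrCharacter G) (u : Subgroup.center G) :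
    ‖(cch χ : Subgroup.center G → ℂ) u‖ = 1 := by
  have h := cch_mul_conj χ u
  rw [Complex.mul_conj] at h
  have h2 : Complex.normSq ((cch χ : Subgroup.center G → ℂ) u) = 1 := by exact_mod_cast h
  rw [← Complex.sq_norm] at h2
  have h3 : ‖(cch χ : Subgroup.center G → ℂ) u‖ ^ 2 = 1 ^ 2 := by rw [h2]; norm_num
  exact (sq_eq_sq₀ (norm_nonneg _) (by norm_num)).mp h3

theorem cch_oneIrr (u : Subgroup.center G) :
    (cch (oneIrr G) : Subgroup.center G → ℂ) u = 1 := by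
  have h := cch_mul (oneIrr G) u 1
  have h1 : ∀ g : G, ((oneIrr G : Cfsg.IrrCharacter G) : G → ℂ) g = 1 := fun _ => rfl
  rw [h1, h1, mul_one] at h
  exact h.symm

/-- the sum of the class multiplication constants over a coset of the center, twisted by a
central character -/
theorem twist_eq [Fintype (Cfsg.IrrCharacter G)] [Fintype (Subgroup.center G)] (a b z : G)
    (ψ : Cfsg.IrrCharacter G) (𝔉 : Finset (Cfsg.IrrCharacter G))
    (h𝔉 : ∀ χ, χ ∈ 𝔉 ↔ cch χ = cch ψ) :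
    ∑ u : Subgroup.center G, (cch ψ : Subgroup.center G → ℂ) u *
        ((Finset.univ.filter (fun q : G × G =>
          q.1 * a * q.1⁻¹ * (q.2 * b * q.2⁻¹) = (u : G) * z)).card : ℂ)
      = (Nat.card G : ℂ) * (Nat.card (Subgroup.center G) : ℂ) *
        ∑ χ ∈ 𝔉, (χ : G → ℂ) a * (χ : G → ℂ) b * conj ((χ : G → ℂ) z) / (χ : G → ℂ) 1 := by
  classical
  have hN : ∀ u : Subgroup.center G,
      ((Finset.univ.filter (fun q : G × G =>
          q.1 * a * q.1⁻¹ * (q.2 * b * q.2⁻¹) = (u : G) * z)).card : ℂ)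
      = (Nat.card G : ℂ) * ∑ χ : Cfsg.IrrCharacter G,
          ((χ : G → ℂ) a * (χ : G → ℂ) b * conj ((χ : G → ℂ) z) / (χ : G → ℂ) 1)
            * conj ((cch χ : Subgroup.center G → ℂ) u) := by
    intro u
    rw [card_conj_mul_conj_eq a b ((u : G) * z)]
    congr 1
    apply Finset.sum_congr rfl
    intro χ _
    rw [cch_mul χ u z, map_mul]
    ring
  have horth : ∀ χ : Cfsg.IrrCharacter G,
      ∑ u : Subgroup.center G, (cch ψ : Subgroup.center G → ℂ) u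
          * conj ((cch χ : Subgroup.center G → ℂ) u)
        = (Nat.card (Subgroup.center G) : ℂ) * (if cch ψ = cch χ then 1 else 0) := by
    intro χ
    have h1 := classInner_irrCharacter (cch ψ) (cch χ)
    unfold Cfsg.classInner at h1
    have h0 : (Nat.card (Subgroup.center G) : ℂ) ≠ 0 := Nat.cast_ne_zero.mpr Nat.card_pos.ne'
    rw [← h1]
    field_simp
  calc ∑ u : Subgroup.center G, (cch ψ : Subgroup.center G → ℂ) u *
        ((Finset.univ.filter (fun q : G × G =>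
          q.1 * a * q.1⁻¹ * (q.2 * b * q.2⁻¹) = (u : G) * z)).card : ℂ)
      = ∑ u : Subgroup.center G, ∑ χ : Cfsg.IrrCharacter G, (Nat.card G : ℂ) *
          (((χ : G → ℂ) a * (χ : G → ℂ) b * conj ((χ : G → ℂ) z) / (χ : G → ℂ) 1)
            * ((cch ψ : Subgroup.center G → ℂ) u
              * conj ((cch χ : Subgroup.center G → ℂ) u))) := by
        apply Finset.sum_congr rfl
        intro u _
        rw [hN u, Finset.mul_sum, Finset.mul_sum]
        apply Finset.sum_congr rfl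
        intro χ _
        ring
    _ = ∑ χ : Cfsg.IrrCharacter G, (Nat.card G : ℂ) *
          (((χ : G → ℂ) a * (χ : G → ℂ) b * conj ((χ : G → ℂ) z) / (χ : G → ℂ) 1)
            * ((Nat.card (Subgroup.center G) : ℂ) * (if cch ψ = cch χ then 1 else 0))) := by
        rw [Finset.sum_comm]
        apply Finset.sum_congr rfl
        intro χ _
        rw [← horth χ, Finset.mul_sum, Finset.mul_sum]
    _ = (Nat.card G : ℂ) * (Nat.card (Subgroup.center G) : ℂ) *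
        ∑ χ ∈ 𝔉, (χ : G → ℂ) a * (χ : G → ℂ) b * conj ((χ : G → ℂ) z) / (χ : G → ℂ) 1 := by
        rw [Finset.mul_sum, ← Finset.sum_subset (Finset.subset_univ 𝔉)]
        · apply Finset.sum_congr rfl
          intro χ hχ
          rw [if_pos ((h𝔉 χ).mp hχ).symm]
          ring
        · intro χ _ hχ
          rw [if_neg (fun e => hχ ((h𝔉 χ).mpr e.symm))]
          ring

/-- the twisted sum is dominated by the untwisted one -/
theorem twist_bound [Fintype (Cfsg.IrrCharacter G)] (a b z : G)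
    (ψ : Cfsg.IrrCharacter G) (𝔉 𝔉₀ : Finset (Cfsg.IrrCharacter G))
    (h𝔉 : ∀ χ, χ ∈ 𝔉 ↔ cch χ = cch ψ) (h𝔉₀ : ∀ χ, χ ∈ 𝔉₀ ↔ cch χ = cch (oneIrr G)) :
    ∃ r : ℝ, ∑ χ ∈ 𝔉₀, (χ : G → ℂ) a * (χ : G → ℂ) b * conj ((χ : G → ℂ) z) / (χ : G → ℂ) 1
        = (r : ℂ) ∧
      ‖∑ χ ∈ 𝔉, (χ : G → ℂ) a * (χ : G → ℂ) b * conj ((χ : G → ℂ) z) / (χ : G → ℂ) 1‖ ≤ r := by
  classical
  have : Fintype (Subgroup.center G) := Fintype.ofFinite _
  obtain ⟨N, hN⟩ : ∃ N : Subgroup.center G → ℕ, ∀ u, N u = (Finset.univ.filter (fun q : G × G =>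
      q.1 * a * q.1⁻¹ * (q.2 * b * q.2⁻¹) = (u : G) * z)).card := ⟨_, fun _ => rfl⟩
  have e1 := twist_eq a b z ψ 𝔉 h𝔉
  have e0 := twist_eq a b z (oneIrr G) 𝔉₀ h𝔉₀
  simp only [← hN] at e1 e0
  obtain ⟨c, hc⟩ : ∃ c : ℝ, c = (Nat.card G : ℝ) * (Nat.card (Subgroup.center G) : ℝ) := ⟨_, rfl⟩
  have hcpos : 0 < c := by
    rw [hc]
    exact mul_pos (Nat.cast_pos.mpr Nat.card_pos) (Nat.cast_pos.mpr Nat.card_pos)
  have hcC : (Nat.card G : ℂ) * (Nat.card (Subgroup.center G) : ℂ) = (c : ℂ) := by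
    rw [hc]; push_cast; ring
  rw [hcC] at e1 e0
  have hc0 : (c : ℂ) ≠ 0 := by exact_mod_cast hcpos.ne'
  refine ⟨(∑ u : Subgroup.center G, (N u : ℝ)) / c, ?_, ?_⟩
  · have h1 : ∑ u : Subgroup.center G, (cch (oneIrr G) : Subgroup.center G → ℂ) u * (N u : ℂ)
        = ((∑ u : Subgroup.center G, (N u : ℝ) : ℝ) : ℂ) := by
      push_cast
      apply Finset.sum_congr rfl
      intro u _
      rw [cch_oneIrr, one_mul]
    rw [h1] at e0
    rw [Complex.ofReal_div, eq_div_iff hc0, mul_comm]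
    exact e0.symm
  · have h2 : ‖∑ χ ∈ 𝔉, (χ : G → ℂ) a * (χ : G → ℂ) b * conj ((χ : G → ℂ) z) / (χ : G → ℂ) 1‖ * c
        = ‖∑ u : Subgroup.center G, (cch ψ : Subgroup.center G → ℂ) u * (N u : ℂ)‖ := by
      rw [e1, norm_mul, Complex.norm_real, Real.norm_of_nonneg hcpos.le, mul_comm]
    rw [le_div_iff₀ hcpos, h2]
    calc ‖∑ u : Subgroup.center G, (cch ψ : Subgroup.center G → ℂ) u * (N u : ℂ)‖
        ≤ ∑ u : Subgroup.center G, ‖(cch ψ : Subgroup.center G → ℂ) u * (N u : ℂ)‖ :=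
          norm_sum_le _ _
      _ = ∑ u : Subgroup.center G, (N u : ℝ) := by
          apply Finset.sum_congr rfl
          intro u _
          rw [norm_mul, cch_norm, one_mul, Complex.norm_natCast]

end generic

variable {G : Type*} [Group G] [Fintype G] [DecidableEq G] {p : ℕ} [hp : Fact p.Prime]
variable {P : Sylow p G}
variable [Fintype ↥(Subgroup.centralizer ((P : Subgroup G) : Set G))]
variable [Fintype ↥(Subgroup.normalizer ((P : Subgroup G) : Set G))]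
variable {M : Ideal Cfsg.AlgInt}

local notation "𝐂" => Subgroup.centralizer ((P : Subgroup G) : Set G)
local notation "𝐍" => Subgroup.normalizer ((P : Subgroup G) : Set G)
local notation "𝐃" => Subgroup.subgroupOf (P : Subgroup G) (Subgroup.centralizer ((P : Subgroup G) : Set G))

section main

variable (hP : Nat.card P = p) (hM : Cfsg.IsPModular p M)
variable (hcen : ∀ c : ↥(Subgroup.centralizer ((P : Subgroup G) : Set G)), ¬ p ∣ orderOf c →
  (c : G) ∈ Subgroup.center G)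
variable (hZreg : ∀ y ∈ Subgroup.center G, ¬ p ∣ orderOf y)
include hP hM hcen hZreg

/-- the central character of a member of a block of full defect is the restriction of the
canonical character -/
theorem cch_eq_theta (L : Loc M P) {B : Set (Cfsg.IrrCharacter G)} (hB : Cfsg.IsPBlock M B)
    (hBP : Cfsg.IsDefectGroup p M B (P : Subgroup G))
    (hind : Cfsg.IsInducedBlock M 𝐂 L.b B) (χ : Cfsg.IrrCharacter G) (hχ : χ ∈ B)
    (u : Subgroup.center G) (hu : (u : G) ∈ 𝐂) :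
    (cch χ : Subgroup.center G → ℂ) u = (L.θ : 𝐂 → ℂ) ⟨u, hu⟩ := by
  classical
  have hχp := not_dvd_of_isDefectGroup P hP hM hB hBP χ hχ
  obtain ⟨ξ, hξb, hne⟩ := exists_mlt_ne P hP hM L hind hBP χ hχ hχp
  obtain ⟨ξ₁, hξ₁b, hξ₁0⟩ : ∃ ξ₁ ∈ L.b, mlt P χ ξ₁ ≠ 0 := by
    by_cases h0 : mlt P χ ξ = 0
    · refine ⟨L.θ, L.hθ, ?_⟩
      intro h
      apply hne
      rw [h0, h]
    · exact ⟨ξ, hξb, h0⟩
  obtain ⟨c₀, hc₀⟩ : ∃ c₀ : 𝐂, c₀ = ⟨(u : G), hu⟩ := ⟨_, rfl⟩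
  have hc₀G : (c₀ : G) = (u : G) := by rw [hc₀]
  have hξ1 : (ξ₁ : 𝐂 → ℂ) 1 = 1 := cen_apply_one hP hM hcen ξ₁
  have hξc := IsIrrCharacter.isCharacter ξ₁.2
  have hS := sum_C_mul_conj hP hM χ ξ₁
  have hre : ∑ c : 𝐂, (χ : G → ℂ) c * conj ((ξ₁ : 𝐂 → ℂ) c)
      = ∑ c : 𝐂, (χ : G → ℂ) ((c₀ * c : 𝐂) : G) * conj ((ξ₁ : 𝐂 → ℂ) (c₀ * c)) :=
    (Equiv.sum_comp (Equiv.mulLeft c₀)
      (fun c : 𝐂 => (χ : G → ℂ) c * conj ((ξ₁ : 𝐂 → ℂ) c))).symm
  have hterm : ∀ c : 𝐂, (χ : G → ℂ) ((c₀ * c : 𝐂) : G) * conj ((ξ₁ : 𝐂 → ℂ) (c₀ * c))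
      = ((cch χ : Subgroup.center G → ℂ) u * conj ((ξ₁ : 𝐂 → ℂ) c₀))
        * ((χ : G → ℂ) c * conj ((ξ₁ : 𝐂 → ℂ) c)) := by
    intro c
    rw [Subgroup.coe_mul, hc₀G, cch_mul χ u (c : G),
      IsCharacter.mul_of_apply_one_eq_one hξc hξ1, map_mul]
    ring
  rw [Finset.sum_congr rfl (fun c _ => hterm c), ← Finset.mul_sum, hS] at hre
  have hC0 : (Nat.card 𝐂 : ℂ) ≠ 0 := Nat.cast_ne_zero.mpr Nat.card_pos.ne'
  have hm0 : (mlt P χ ξ₁ : ℂ) ≠ 0 := Nat.cast_ne_zero.mpr hξ₁0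
  have hprod : (cch χ : Subgroup.center G → ℂ) u * conj ((ξ₁ : 𝐂 → ℂ) c₀) = 1 := by
    have h1 : ((cch χ : Subgroup.center G → ℂ) u * conj ((ξ₁ : 𝐂 → ℂ) c₀) - 1)
        * ((Nat.card 𝐂 : ℂ) * (mlt P χ ξ₁ : ℂ)) = 0 := by linear_combination -hre
    rcases mul_eq_zero.mp h1 with h | h
    · linear_combination h
    · exact absurd h (mul_ne_zero hC0 hm0)
  have hnorm := linear_mul_conj hξc hξ1 c₀
  have hval : (cch χ : Subgroup.center G → ℂ) u = (ξ₁ : 𝐂 → ℂ) c₀ := by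
    linear_combination (ξ₁ : 𝐂 → ℂ) c₀ * hprod - (cch χ : Subgroup.center G → ℂ) u * hnorm
  have hreg : ¬ p ∣ orderOf c₀ := by
    rw [← Subgroup.orderOf_coe, hc₀G]
    exact hZreg _ u.2
  rw [hval, eq_theta_of_pRegular P hP hM L.hb L.hθ L.hθP hξ₁b c₀ hreg, hc₀]

/-- members of the same block of full defect have the same central character -/
theorem cch_eq_of_mem (L : Loc M P) {B : Set (Cfsg.IrrCharacter G)} (hB : Cfsg.IsPBlock M B)
    (hBP : Cfsg.IsDefectGroup p M B (P : Subgroup G))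
    (hind : Cfsg.IsInducedBlock M 𝐂 L.b B) {χ ψ : Cfsg.IrrCharacter G} (hχ : χ ∈ B)
    (hψ : ψ ∈ B) : cch χ = cch ψ := by
  apply Subtype.ext
  funext u
  have hu : (u : G) ∈ 𝐂 := Subgroup.center_le_centralizer _ u.2
  rw [cch_eq_theta hP hM hcen hZreg L hB hBP hind χ hχ u hu,
    cch_eq_theta hP hM hcen hZreg L hB hBP hind ψ hψ u hu]

/-- a character of degree prime to `p` with the central character of a block of full defect
lies in that block -/
theorem mem_block_of_cch (L : Loc M P) {B : Set (Cfsg.IrrCharacter G)} (hB : Cfsg.IsPBlock M B)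
    (hBP : Cfsg.IsDefectGroup p M B (P : Subgroup G))
    (hind : Cfsg.IsInducedBlock M 𝐂 L.b B) {ψ : Cfsg.IrrCharacter G} (hψ : ψ ∈ B)
    (χ : Cfsg.IrrCharacter G) (hχp : ¬ p ∣ Cfsg.charDegree (χ : G → ℂ)) (h : cch χ = cch ψ) :
    χ ∈ B := by
  have hB' : Cfsg.IsPBlock M (Cfsg.blockOf M (χ : G → ℂ)) := ⟨χ, rfl⟩
  have hB'P := isDefectGroup_blockOf P hP hM χ hχp
  obtain ⟨L', hind'⟩ := exists_loc P hP hM hB' hB'P
  have hχB' : χ ∈ Cfsg.blockOf M (χ : G → ℂ) := sameBlock_refl hM _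
  have hcentral : ∀ (y : 𝐂) (hy : (y : G) ∈ Subgroup.center G),
      (L'.θ : 𝐂 → ℂ) y = (L.θ : 𝐂 → ℂ) y := by
    intro y hy
    have e1 := cch_eq_theta hP hM hcen hZreg L' hB' hB'P hind' χ hχB' ⟨(y : G), hy⟩ y.2
    have e2 := cch_eq_theta hP hM hcen hZreg L hB hBP hind ψ hψ ⟨(y : G), hy⟩ y.2
    rw [h] at e1
    exact e1.symm.trans e2
  have hθ : L'.θ = L.θ := by
    apply Subtype.ext
    funext c
    by_cases hs : p ∣ orderOf c
    · have hs' : p ∣ orderOf (c : G) := by rwa [Subgroup.orderOf_coe]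
      obtain ⟨z, hz, -, y, hy, hyr, hzy⟩ := exists_decomp_C P hP c.2 hs'
      obtain ⟨zc, hzc⟩ : ∃ zc : 𝐂, (zc : G) = z := ⟨⟨z, P_le_C P hP hz⟩, rfl⟩
      obtain ⟨yc, hyc'⟩ : ∃ yc : 𝐂, (yc : G) = y := ⟨⟨y, hy⟩, rfl⟩
      have hycen : (yc : G) ∈ Subgroup.center G := by
        apply hcen yc
        rw [← Subgroup.orderOf_coe, hyc']
        exact hyr
      have hzcP : (zc : G) ∈ (P : Subgroup G) := by rw [hzc]; exact hz
      have hc : c = zc * yc := by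
        apply Subtype.ext
        rw [Subgroup.coe_mul, hzc, hyc']
        exact hzy
      rw [hc, theta_mul_left P hP hM L'.hb L'.hθ L'.hθP hzcP,
        theta_mul_left P hP hM L.hb L.hθ L.hθP hzcP]
      exact hcentral yc hycen
    · exact hcentral c (hcen c hs)
  have hb : L'.b = L.b := by rw [L'.b_eq hP hM, L.b_eq hP hM, hθ]
  rw [hb] at hind'
  have := IsInducedBlock.unique 𝐂 hM hind' hind
  rw [← this]
  exact hχB'

/-- the block sums of the class multiplication constants: the block of `ψ` against the principal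
block -/
theorem block_twist_bound (L : Loc M P) {B : Set (Cfsg.IrrCharacter G)} (hB : Cfsg.IsPBlock M B)
    (hBP : Cfsg.IsDefectGroup p M B (P : Subgroup G))
    (hind : Cfsg.IsInducedBlock M 𝐂 L.b B) {ψ : Cfsg.IrrCharacter G} (hψ : ψ ∈ B)
    (𝔅 𝔅₀ : Finset (Cfsg.IrrCharacter G)) (h𝔅 : ∀ χ, χ ∈ 𝔅 ↔ χ ∈ B)
    (h𝔅₀ : ∀ χ, χ ∈ 𝔅₀ ↔ χ ∈ Cfsg.principalBlock M G) (a b z : G) (ha : p ∣ orderOf a) :
    ∃ r : ℝ, ∑ χ ∈ 𝔅₀, (χ : G → ℂ) a * (χ : G → ℂ) b * conj ((χ : G → ℂ) z) / (χ : G → ℂ) 1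
        = (r : ℂ) ∧
      ‖∑ χ ∈ 𝔅, (χ : G → ℂ) a * (χ : G → ℂ) b * conj ((χ : G → ℂ) z) / (χ : G → ℂ) 1‖ ≤ r := by
  classical
  have : Fintype (Cfsg.IrrCharacter G) := Fintype.ofFinite _
  obtain ⟨𝔉, h𝔉⟩ : ∃ 𝔉 : Finset (Cfsg.IrrCharacter G), ∀ χ, χ ∈ 𝔉 ↔ cch χ = cch ψ :=
    ⟨Finset.univ.filter (fun χ => cch χ = cch ψ), fun χ => by simp⟩
  obtain ⟨𝔉₀, h𝔉₀⟩ : ∃ 𝔉₀ : Finset (Cfsg.IrrCharacter G), ∀ χ, χ ∈ 𝔉₀ ↔ cch χ = cch (oneIrr G) :=
    ⟨Finset.univ.filter (fun χ => cch χ = cch (oneIrr G)), fun χ => by simp⟩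
  obtain ⟨r, hr0, hr⟩ := twist_bound a b z ψ 𝔉 𝔉₀ h𝔉 h𝔉₀
  have hvan : ∀ χ : Cfsg.IrrCharacter G, p ∣ Cfsg.charDegree (χ : G → ℂ) →
      (χ : G → ℂ) a * (χ : G → ℂ) b * conj ((χ : G → ℂ) z) / (χ : G → ℂ) 1 = 0 := by
    intro χ hχ
    have h0 := IsIrrCharacter.eq_zero_of_defect_zero χ.2 p 1 hp.out
      (by rw [pow_one]; exact dvd_card P hP) (not_sq_dvd_card P hP) (by rw [pow_one]; exact hχ)
      a ha
    rw [h0]
    simp
  have hone : oneIrr G ∈ Cfsg.principalBlock M G := sameBlock_refl hM _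
  have e1 : ∑ χ ∈ 𝔉, (χ : G → ℂ) a * (χ : G → ℂ) b * conj ((χ : G → ℂ) z) / (χ : G → ℂ) 1
      = ∑ χ ∈ 𝔅, (χ : G → ℂ) a * (χ : G → ℂ) b * conj ((χ : G → ℂ) z) / (χ : G → ℂ) 1 := by
    symm
    apply Finset.sum_subset
    · intro χ hχ
      exact (h𝔉 χ).mpr (cch_eq_of_mem hP hM hcen hZreg L hB hBP hind ((h𝔅 χ).mp hχ) hψ)
    · intro χ hχ hχn
      apply hvan
      by_contra hnd
      exact hχn ((h𝔅 χ).mpr
        (mem_block_of_cch hP hM hcen hZreg L hB hBP hind hψ χ hnd ((h𝔉 χ).mp hχ)))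
  have e0 : ∑ χ ∈ 𝔉₀, (χ : G → ℂ) a * (χ : G → ℂ) b * conj ((χ : G → ℂ) z) / (χ : G → ℂ) 1
      = ∑ χ ∈ 𝔅₀, (χ : G → ℂ) a * (χ : G → ℂ) b * conj ((χ : G → ℂ) z) / (χ : G → ℂ) 1 := by
    symm
    apply Finset.sum_subset
    · intro χ hχ
      exact (h𝔉₀ χ).mpr (cch_eq_of_mem hP hM hcen hZreg (prin P hM) isPBlock_principalBlock
        (prin_defect P hM) (prin_induced P hM) ((h𝔅₀ χ).mp hχ) hone)
    · intro χ hχ hχn
      apply hvan
      by_contra hnd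
      exact hχn ((h𝔅₀ χ).mpr
        (mem_block_of_cch hP hM hcen hZreg (prin P hM) isPBlock_principalBlock
          (prin_defect P hM) (prin_induced P hM) hone χ hnd ((h𝔉₀ χ).mp hχ)))
  rw [e1] at hr
  rw [e0] at hr0
  exact ⟨r, hr0, hr⟩

end main

end Cfsg.Agent.Lib.Helper6.BH
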