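import Mathlib
import Cfsg.Agent.Lib.Helper6.BH6

/-!
# The values of the exceptional characters at the `p`-singular elements and the Galois action
-/

set_option autoImplicit false
set_option linter.unusedSectionVars false
set_option linter.style.haveILetI false

namespace Cfsg.Agent.Lib.Helper6.BH

open Cfsg.Agent.Lib.Helper6 Cfsg.Agent.Lib.Helper6.PB Cfsg.Agent.Lib.Helper6.BR
open scoped ComplexConjugate

variable {G : Type*} [Group G] [Fintype G] [DecidableEq G] {p : ℕ} [hp : Fact p.Prime]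
variable {P : Sylow p G}
variable [Fintype ↥(Subgroup.centralizer ((P : Subgroup G) : Set G))]
variable [Fintype ↥(Subgroup.normalizer ((P : Subgroup G) : Set G))]
variable {M : Ideal Cfsg.AlgInt}

local notation "𝐂" => Subgroup.centralizer ((P : Subgroup G) : Set G)
local notation "𝐍" => Subgroup.normalizer ((P : Subgroup G) : Set G)
local notation "𝐃" => Subgroup.subgroupOf (P : Subgroup G) (Subgroup.centralizer ((P : Subgroup G) : Set G))

theorem norm_le_degree (Λ : Cfsg.IrrCharacter G) (g : G) :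
    ‖(Λ : G → ℂ) g‖ ≤ (Cfsg.charDegree (Λ : G → ℂ) : ℝ) := by
  obtain ⟨n, ρ, _, h⟩ := Λ.2
  rw [← h, charDegree_character ρ]
  exact norm_character_le ρ g

theorem dvd_orderOf_pow {g : G} {k : ℕ} (hk : k.Coprime (Nat.card G)) (hg : p ∣ orderOf g) :
    p ∣ orderOf (g ^ k) := by
  have hc : (orderOf g).Coprime k :=
    (Nat.Coprime.coprime_dvd_right (orderOf_dvd_natCard g) hk).symm
  rw [hc.orderOf_pow]
  exact hg

section main

variable (hP : Nat.card P = p) (hM : Cfsg.IsPModular p M)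
include hP hM

/-- the two exceptional characters of a block with two of them are either fixed or swapped by a
Galois automorphism fixing the `p`-regular classes -/
theorem galois_fix_or_swap {L : Loc M P} {B : Set (Cfsg.IrrCharacter G)} (K : L.Str B)
    (hB : Cfsg.IsPBlock M B) (hBP : Cfsg.IsDefectGroup p M B (P : Subgroup G))
    (hind : Cfsg.IsInducedBlock M 𝐂 L.b B) (hJ : Nat.card L.J = 2) {i i' : L.J} (hii : i ≠ i')
    {k : ℕ} (hk : k.Coprime (Nat.card G)) (hreg : ∀ x : G, ¬ p ∣ orderOf x → x ^ k = x) :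
    (powIrr k hk (K.Λ i) = K.Λ i' ∧ powIrr k hk (K.Λ i') = K.Λ i) ∨
      (powIrr k hk (K.Λ i) = K.Λ i ∧ powIrr k hk (K.Λ i') = K.Λ i') := by
  obtain ⟨a, ha⟩ := K.powIrr_mem_Y hP hM hB hBP hind i hk hreg
  obtain ⟨b, hb⟩ := K.powIrr_mem_Y hP hM hB hBP hind i' hk hreg
  have hne : powIrr k hk (K.Λ i) ≠ powIrr k hk (K.Λ i') := by
    intro h
    exact hii (K.inj (powIrr_injective k hk h))
  rcases eq_or_eq_of_card_two hJ hii a with e | e <;>
    rcases eq_or_eq_of_card_two hJ hii b with e' | e'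
  · exfalso
    apply hne
    rw [← ha, ← hb, e, e']
  · right
    rw [← ha, ← hb, e, e']
    exact ⟨rfl, rfl⟩
  · left
    rw [← ha, ← hb, e, e']
    exact ⟨rfl, rfl⟩
  · exfalso
    apply hne
    rw [← ha, ← hb, e, e']

/-- the sum of non-exceptional characters of the principal block of a common sign at a
`p`-singular element -/
theorem sum_S_sing (K₀ : (prin P hM).Str (Cfsg.principalBlock M G))
    (𝒯 : Finset (Cfsg.IrrCharacter G)) (ε : ℤ) (h𝒯 : ∀ χ ∈ 𝒯, χ ∈ K₀.S ∧ K₀.δ χ = ε) (g : G)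
    (hg : p ∣ orderOf g) : ∑ χ ∈ 𝒯, (χ : G → ℂ) g = (ε : ℂ) * (𝒯.card : ℂ) := by
  have h1 : ∀ χ ∈ 𝒯, (χ : G → ℂ) g = (ε : ℂ) := by
    intro χ hχ
    rw [prin_S_sing hP hM K₀ (h𝒯 χ hχ).1 g hg, (h𝒯 χ hχ).2]
  rw [Finset.sum_congr rfl h1, Finset.sum_const, nsmul_eq_mul, mul_comm]

section central

variable (hcen : ∀ c : ↥(Subgroup.centralizer ((P : Subgroup G) : Set G)), ¬ p ∣ orderOf c →
  (c : G) ∈ Subgroup.center G)
variable (hnn : ∀ H : Subgroup G, H.Normal → Nat.card H ≠ p)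
variable {Λ : Cfsg.IrrCharacter G} (hf : ∀ g, (Λ : G → ℂ) g = (Λ : G → ℂ) 1 → g = 1)
variable (hdeg : 2 * Cfsg.charDegree (Λ : G → ℂ) + 1 = p) (hd2 : 2 ≤ Cfsg.charDegree (Λ : G → ℂ))
include hcen hnn hf hdeg hd2

omit hd2 in
theorem hlin_of (K₀ : (prin P hM).Str (Cfsg.principalBlock M G)) : ∀ μ ∈ K₀.S, K₀.δ μ = 1 → Cfsg.charDegree (μ : G → ℂ) = 1 →
    Cfsg.classInner ((Λ : G → ℂ) * fun g => conj ((Λ : G → ℂ) g)) (μ : G → ℂ) ≠ 0 →
    μ = oneIrr G := by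
  intro μ hμ hδ hd1 hne
  have hμ1 : (μ : G → ℂ) 1 = 1 := by
    rw [IsCharacter.apply_one_eq_charDegree (IsIrrCharacter.isCharacter μ.2), hd1]
    simp
  have hμP : ∀ x ∈ (P : Subgroup G), (μ : G → ℂ) x = 1 := by
    intro x hx
    by_cases hx1 : x = 1
    · rw [hx1]; exact hμ1
    · have h1 := prin_S_sing hP hM K₀ hμ x (by rw [orderOf_eq_of_mem P hP hx hx1])
      rw [h1, hδ]
      simp
  have hall := linear_const (not_sq_dvd_card P hP) hnn Λ hf hdeg P hP μ hμ1 hμP hne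
  apply Subtype.ext
  funext g
  rw [hall g]
  rfl

omit hnn hf hd2 in
theorem card_J_small (D : Small M P Λ) : Nat.card D.L.J = 2 := by
  have hdp : Cfsg.charDegree (Λ : G → ℂ) < p := by omega
  exact card_J_eq_two hP hM hcen D.L (relIndex_eq_degree hP hM hcen D hdp) hdeg

omit hnn hf hd2 in
theorem card_J_prin (D : Small M P Λ) : Nat.card (prin P hM).J = 2 := by
  have hdp : Cfsg.charDegree (Λ : G → ℂ) < p := by omega
  exact card_J_eq_two hP hM hcen (prin P hM) (relIndex_eq_degree hP hM hcen D hdp) hdeg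

/-- the decomposition used for the fourth moment -/
theorem fourth_data (D : Small M P Λ) (K₀ : (prin P hM).Str (Cfsg.principalBlock M G))
    {j₁ : D.L.J} (hj₁ : j₁ ≠ D.j) : ∃ (𝒯 : Finset (Cfsg.IrrCharacter G)) (Λ₂ : Cfsg.IrrCharacter G) (ε : ℤ),
    (ε = 1 ∨ ε = -1) ∧ (∀ χ ∈ 𝒯, χ ∈ K₀.S ∧ K₀.δ χ = ε) ∧
    (∀ g, ¬ p ∣ orderOf g → (Λ₂ : G → ℂ) g = (Λ : G → ℂ) g) ∧
    (∀ g, (Λ : G → ℂ) g * conj ((Λ₂ : G → ℂ) g) = ∑ χ ∈ 𝒯, (χ : G → ℂ) g) ∧
    (2 * 𝒯.card = Cfsg.charDegree (Λ : G → ℂ) + 1 ∨ 2 * 𝒯.card = Cfsg.charDegree (Λ : G → ℂ)) := by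
  obtain ⟨Sp, Sm, hmemp, hmemm, -, -, -, hcase⟩ := halves hP hM hcen D hdeg hd2 K₀ hj₁
    (hlin_of hP hM hcen hnn hf hdeg K₀)
  rcases hcase with ⟨c1, -, hW⟩ | ⟨-, c2, hW⟩
  · exact ⟨Sp, Λ, 1, Or.inl rfl, fun χ hχ => (hmemp χ).mp hχ, fun _ _ => rfl, hW, Or.inl c1⟩
  · refine ⟨Sm, D.K.Λ j₁, -1, Or.inr rfl, fun χ hχ => (hmemm χ).mp hχ, ?_, hW, Or.inr c2⟩
    intro g hg
    have := D.K.agree hP hM D.hind j₁ D.j g hg
    rw [D.hΛ] at this
    exact this

/-- the sum of the squared absolute values of the two exceptional characters at a `p`-singular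
element -/
theorem sv_sum (D : Small M P Λ) (K₀ : (prin P hM).Str (Cfsg.principalBlock M G))
    {j₁ : D.L.J} (hj₁ : j₁ ≠ D.j) (g : G) (hg : p ∣ orderOf g) :
    (Λ : G → ℂ) g * conj ((Λ : G → ℂ) g)
        + (D.K.Λ j₁ : G → ℂ) g * conj ((D.K.Λ j₁ : G → ℂ) g)
      = (Cfsg.charDegree (Λ : G → ℂ) : ℂ) + 1 := by
  obtain ⟨Sp, Sm, hmemp, hmemm, -, -, -, hcase⟩ := halves hP hM hcen D hdeg hd2 K₀ hj₁
    (hlin_of hP hM hcen hnn hf hdeg K₀)
  have hJ := card_J_small hP hM hcen hdeg D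
  have hadd := exc_add_sing hP hM hcen D.L D.hB D.hBP D.hind D.K hJ (Ne.symm hj₁) g hg
  rw [D.hΛ] at hadd
  rcases hcase with ⟨c1, -, hW⟩ | ⟨-, c2, hW⟩
  · obtain ⟨k, hk, hk1, hpow⟩ := D.K.exists_powIrr_eq hP hM D.hB D.hBP D.hind j₁ D.j
    rw [D.hΛ] at hpow
    have hΛ' : (D.K.Λ j₁ : G → ℂ) g = (Λ : G → ℂ) (g ^ k) := by rw [← hpow]; rfl
    have hgk := dvd_orderOf_pow (p := p) hk hg
    have e1 := sum_S_sing hP hM K₀ Sp 1 (fun χ hχ => (hmemp χ).mp hχ) g hg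
    have e2 := sum_S_sing hP hM K₀ Sp 1 (fun χ hχ => (hmemp χ).mp hχ) (g ^ k) hgk
    rw [hΛ', hW g, hW (g ^ k), e1, e2]
    have : ((2 * Sp.card : ℕ) : ℂ) = ((Cfsg.charDegree (Λ : G → ℂ) + 1 : ℕ) : ℂ) := by rw [c1]
    push_cast at this ⊢
    linear_combination this
  · have e1 := sum_S_sing hP hM K₀ Sm (-1) (fun χ hχ => (hmemm χ).mp hχ) g hg
    have h1 := hW g
    rw [e1] at h1
    have h2 : (D.K.Λ j₁ : G → ℂ) g * conj ((Λ : G → ℂ) g) = ((-1 : ℤ) : ℂ) * (Sm.card : ℂ) := by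
      have := congrArg conj h1
      rw [map_mul, Complex.conj_conj, map_mul, Complex.conj_natCast, map_intCast] at this
      rw [mul_comm]
      exact this
    have : ((2 * Sm.card : ℕ) : ℂ) = ((Cfsg.charDegree (Λ : G → ℂ) : ℕ) : ℂ) := by rw [c2]
    push_cast at this h1 h2
    rw [map_add] at hadd
    linear_combination hadd - h1 - h2 + this

/-- the squared absolute value of the difference of the two exceptional characters at a
`p`-singular element -/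
theorem sv_diff (D : Small M P Λ) (K₀ : (prin P hM).Str (Cfsg.principalBlock M G))
    {j₁ : D.L.J} (hj₁ : j₁ ≠ D.j) (g : G) (hg : p ∣ orderOf g) :
    ((Λ : G → ℂ) g - (D.K.Λ j₁ : G → ℂ) g) * conj ((Λ : G → ℂ) g - (D.K.Λ j₁ : G → ℂ) g)
      = (p : ℂ) := by
  have hJ := card_J_small hP hM hcen hdeg D
  have hadd := exc_add_sing hP hM hcen D.L D.hB D.hBP D.hind D.K hJ (Ne.symm hj₁) g hg
  rw [D.hΛ] at hadd
  have hs := sv_sum hP hM hcen hnn hf hdeg hd2 D K₀ hj₁ g hg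
  have hpc : (p : ℂ) = 2 * (Cfsg.charDegree (Λ : G → ℂ) : ℂ) + 1 := by
    rw [← hdeg]; push_cast; ring
  rw [map_add] at hadd
  rw [map_sub, hpc]
  linear_combination 2 * hs - hadd

end central

end main

end Cfsg.Agent.Lib.Helper6.BH
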