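import Mathlib
import Cfsg.Agent.Lib.Helper6.BH7

/-!
# The bound for the faithful character at the `p`-regular elements
-/

set_option autoImplicit false
set_option linter.unusedSectionVars false
set_option linter.style.haveILetI false

namespace Cfsg.Agent.Lib.Helper6.BH

open Cfsg.Agent.Lib.Helper6 Cfsg.Agent.Lib.Helper6.PB Cfsg.Agent.Lib.Helper6.BR
open scoped ComplexConjugate

variable {G : Type*} [Group G] [Fintype G] [DecidableEq G] {p : ℕ} [hp : Fact p.Prime]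
variable {P : Sylow p G}
variable [Fintype ↥(Subgroup.centralizer ((P : Subgroup G) : Set G))]
variable [Fintype ↥(Subgroup.normalizer ((P : Subgroup G) : Set G))]
variable {M : Ideal Cfsg.AlgInt}

local notation "𝐂" => Subgroup.centralizer ((P : Subgroup G) : Set G)
local notation "𝐍" => Subgroup.normalizer ((P : Subgroup G) : Set G)
local notation "𝐃" => Subgroup.subgroupOf (P : Subgroup G) (Subgroup.centralizer ((P : Subgroup G) : Set G))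

section main

variable (hP : Nat.card P = p) (hM : Cfsg.IsPModular p M)
variable (hcen : ∀ c : ↥(Subgroup.centralizer ((P : Subgroup G) : Set G)), ¬ p ∣ orderOf c →
  (c : G) ∈ Subgroup.center G)
include hP hM hcen

/-- a non-exceptional character of the block of `Λ` at a nontrivial element of `P` -/
theorem S_apply_P {Λ : Cfsg.IrrCharacter G} (D : Small M P Λ) {χ : Cfsg.IrrCharacter G}
    (hχ : χ ∈ D.K.S) {y : G} (hy : y ∈ (P : Subgroup G)) (hy1 : y ≠ 1) :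
    (χ : G → ℂ) y = (D.K.δ χ : ℂ) := by
  obtain ⟨c, hc⟩ : ∃ c : 𝐂, (c : G) = y := ⟨⟨y, P_le_C P hP hy⟩, rfl⟩
  have hcP : (c : G) ∈ (P : Subgroup G) := by rw [hc]; exact hy
  have hcs : p ∣ orderOf c := by
    rw [← Subgroup.orderOf_coe, hc, orderOf_eq_of_mem P hP hy hy1]
  have h1 := D.K.value_S hP hM D.hB D.hBP D.hind (cen_stab hP hM hcen D.L) hχ c hcs
  rw [D.L.hθP c hcP, cen_apply_one hP hM hcen, mul_one, hc] at h1
  exact h1

theorem card_S_prin {Λ : Cfsg.IrrCharacter G} (D : Small M P Λ)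
    (hdeg : 2 * Cfsg.charDegree (Λ : G → ℂ) + 1 = p)
    (K₀ : (prin P hM).Str (Cfsg.principalBlock M G)) (𝒮 : Finset (Cfsg.IrrCharacter G))
    (h𝒮 : ∀ χ, χ ∈ 𝒮 ↔ χ ∈ K₀.S) : 𝒮.card = Cfsg.charDegree (Λ : G → ℂ) := by
  classical
  have : Fintype (Cfsg.IrrCharacter G) := Fintype.ofFinite _
  have hdp : Cfsg.charDegree (Λ : G → ℂ) < p := by omega
  have hrel := relIndex_eq_degree hP hM hcen D hdp
  have h1 := K₀.card_S hP hM (prin_induced P hM) isPBlock_principalBlock (prin_defect P hM)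
  rw [prin_e, Nat.card_eq_fintype_card, Fintype.card_subtype, hrel] at h1
  rw [← h1]
  congr 1
  ext χ
  simp [h𝒮]

variable (hnn : ∀ H : Subgroup G, H.Normal → Nat.card H ≠ p)
variable {Λ : Cfsg.IrrCharacter G} (hf : ∀ g, (Λ : G → ℂ) g = (Λ : G → ℂ) 1 → g = 1)
variable (hdeg : 2 * Cfsg.charDegree (Λ : G → ℂ) + 1 = p) (hd2 : 2 ≤ Cfsg.charDegree (Λ : G → ℂ))
include hnn hf hdeg hd2

/-- a Galois automorphism swapping the exceptional characters of both blocks -/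
theorem galois_data (D : Small M P Λ) (K₀ : (prin P hM).Str (Cfsg.principalBlock M G))
    {j₁ : D.L.J} (hj₁ : j₁ ≠ D.j) {x : G} (hx : x ∈ (P : Subgroup G)) (hx1 : x ≠ 1) :
    ∃ (k : ℕ) (hk : k.Coprime (Nat.card G)),
      powIrr k hk Λ = D.K.Λ j₁ ∧ powIrr k hk (D.K.Λ j₁) = Λ ∧
      ∀ i i' : (prin P hM).J, i ≠ i' → powIrr k hk (K₀.Λ i) = K₀.Λ i' := by
  classical
  have : Fintype (Cfsg.IrrCharacter G) := Fintype.ofFinite _
  have : Fintype (prin P hM).J := Fintype.ofFinite _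
  obtain ⟨k, hk, hk1, hpow⟩ := D.K.exists_powIrr_eq hP hM D.hB D.hBP D.hind j₁ D.j
  have hreg := reg_of_modEq (G := G) (p := p) hk1
  have hJ := card_J_small hP hM hcen hdeg D
  have hJ₀ := card_J_prin hP hM hcen hdeg D
  have hsw : powIrr k hk (D.K.Λ j₁) = D.K.Λ D.j := by
    rcases galois_fix_or_swap hP hM D.K D.hB D.hBP D.hind hJ (Ne.symm hj₁) hk hreg with
      ⟨-, h2⟩ | ⟨h1, -⟩
    · exact h2
    · exfalso
      rw [hpow] at h1
      exact hj₁ (D.K.inj h1)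
  rw [D.hΛ] at hpow hsw
  refine ⟨k, hk, hpow, hsw, ?_⟩
  intro i i' hii
  rcases galois_fix_or_swap hP hM K₀ isPBlock_principalBlock (prin_defect P hM)
    (prin_induced P hM) hJ₀ hii hk hreg with ⟨h1, -⟩ | ⟨h1, h2⟩
  · exact h1
  · exfalso
    obtain ⟨w, hw⟩ : ∃ w : G, w = x ^ k := ⟨_, rfl⟩
    have hwP : w ∈ (P : Subgroup G) := by rw [hw]; exact pow_mem hx k
    have hxo : orderOf x = p := orderOf_eq_of_mem P hP hx hx1
    have hxs : p ∣ orderOf x := by rw [hxo]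
    have hws : p ∣ orderOf w := by rw [hw]; exact dvd_orderOf_pow hk hxs
    have hw1 : w ≠ 1 := by
      intro h
      rw [h, orderOf_one] at hws
      exact hp.out.not_dvd_one hws
    have hwo : orderOf w = p := orderOf_eq_of_mem P hP hwP hw1
    have hΛw : (Λ : G → ℂ) w = (D.K.Λ j₁ : G → ℂ) x := by rw [hw, ← hpow]; rfl
    have hnc : ¬ IsConj x w := by
      intro hc
      obtain ⟨c, hc⟩ := isConj_iff.mp hc
      have h3 := IsIrrCharacter.isClassFunction Λ.2 x c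
      rw [hc, hΛw] at h3
      have h4 := sv_diff hP hM hcen hnn hf hdeg hd2 D K₀ hj₁ x hxs
      rw [h3, sub_self, zero_mul] at h4
      have : (p : ℂ) ≠ 0 := Nat.cast_ne_zero.mpr hp.out.ne_zero
      exact this h4.symm
    have hppx : Cfsg.IsPPart p x x :=
      ⟨1, mul_one x, Commute.one_right x, ⟨1, by rw [pow_one]; exact hxo⟩,
        by rw [orderOf_one]; exact hp.out.not_dvd_one⟩
    have hppw : Cfsg.IsPPart p w w :=
      ⟨1, mul_one w, Commute.one_right w, ⟨1, by rw [pow_one]; exact hwo⟩,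
        by rw [orderOf_one]; exact hp.out.not_dvd_one⟩
    have horth : ∑ χ ∈ Finset.univ.filter (· ∈ Cfsg.principalBlock M G),
        (χ : G → ℂ) x * (χ : G → ℂ) w⁻¹ = 0 := by
      have h3 := block_orthogonality hM x w x w hppx hppw hnc (oneIrr G)
      rw [finsum_mem_eq_sum_filter_lib] at h3
      exact h3
    rw [sum_block_split K₀, sum_two hJ₀ hii] at horth
    have hwis : p ∣ orderOf w⁻¹ := by rw [orderOf_inv]; exact hws
    have hSpart : ∑ χ ∈ Finset.univ.filter (· ∈ K₀.S), (χ : G → ℂ) x * (χ : G → ℂ) w⁻¹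
        = (Cfsg.charDegree (Λ : G → ℂ) : ℂ) := by
      have h3 : ∀ χ ∈ Finset.univ.filter (· ∈ K₀.S),
          (χ : G → ℂ) x * (χ : G → ℂ) w⁻¹ = 1 := by
        intro χ hχ
        have hχS : χ ∈ K₀.S := (Finset.mem_filter.mp hχ).2
        rw [prin_S_sing hP hM K₀ hχS x hxs, prin_S_sing hP hM K₀ hχS w⁻¹ hwis]
        rcases K₀.sgn χ with h | h <;> rw [h] <;> norm_num
      rw [Finset.sum_congr rfl h3, Finset.sum_const, nsmul_eq_mul, mul_one,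
        card_S_prin hP hM hcen D hdeg K₀ _ (fun χ => by simp)]
    have hexc : ∀ i₀ : (prin P hM).J, powIrr k hk (K₀.Λ i₀) = K₀.Λ i₀ →
        (K₀.Λ i₀ : G → ℂ) x * (K₀.Λ i₀ : G → ℂ) w⁻¹
          = ((Complex.normSq ((K₀.Λ i₀ : G → ℂ) x) : ℝ) : ℂ) := by
      intro i₀ hfix
      have h3 : (K₀.Λ i₀ : G → ℂ) w = (K₀.Λ i₀ : G → ℂ) x := by
        conv_rhs => rw [← hfix]
        rw [hw]
        rfl
      rw [IsCharacter.apply_inv (IsIrrCharacter.isCharacter (K₀.Λ i₀).2), h3, Complex.mul_conj]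
    rw [hSpart, hexc i h1, hexc i' h2] at horth
    have hreal : (Cfsg.charDegree (Λ : G → ℂ) : ℝ) + Complex.normSq ((K₀.Λ i : G → ℂ) x)
        + Complex.normSq ((K₀.Λ i' : G → ℂ) x) = 0 := by
      have : (((Cfsg.charDegree (Λ : G → ℂ) : ℝ) + Complex.normSq ((K₀.Λ i : G → ℂ) x)
        + Complex.normSq ((K₀.Λ i' : G → ℂ) x) : ℝ) : ℂ) = 0 := by
        push_cast
        linear_combination horth
      exact_mod_cast this
    have hpos : (0 : ℝ) < (Cfsg.charDegree (Λ : G → ℂ) : ℝ) := by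
      have : 0 < Cfsg.charDegree (Λ : G → ℂ) := by omega
      exact_mod_cast this
    have := Complex.normSq_nonneg ((K₀.Λ i : G → ℂ) x)
    have := Complex.normSq_nonneg ((K₀.Λ i' : G → ℂ) x)
    linarith

/-- the difference of the two block sums for the block of `Λ` -/
theorem FB_diff (D : Small M P Λ) (K₀ : (prin P hM).Str (Cfsg.principalBlock M G))
    {j₁ : D.L.J} (hj₁ : j₁ ≠ D.j) {x : G} (hx : x ∈ (P : Subgroup G)) (hx1 : x ≠ 1)
    {k : ℕ} (hk : k.Coprime (Nat.card G)) (h1 : powIrr k hk Λ = D.K.Λ j₁)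
    (h2 : powIrr k hk (D.K.Λ j₁) = Λ) (z : G) (hz : ¬ p ∣ orderOf z)
    (𝔅 : Finset (Cfsg.IrrCharacter G)) (h𝔅 : ∀ χ, χ ∈ 𝔅 ↔ χ ∈ D.B) :
    ∑ χ ∈ 𝔅, (χ : G → ℂ) x * (χ : G → ℂ) x⁻¹ * conj ((χ : G → ℂ) z) / (χ : G → ℂ) 1
      - ∑ χ ∈ 𝔅, (χ : G → ℂ) x * (χ : G → ℂ) (x ^ k)⁻¹ * conj ((χ : G → ℂ) z) / (χ : G → ℂ) 1
      = (p : ℂ) * conj ((Λ : G → ℂ) z) / (Cfsg.charDegree (Λ : G → ℂ) : ℂ) := by
  classical
  have : Fintype (Cfsg.IrrCharacter G) := Fintype.ofFinite _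
  have : Fintype D.L.J := Fintype.ofFinite _
  have hJ := card_J_small hP hM hcen hdeg D
  obtain ⟨w, hw⟩ : ∃ w : G, w = x ^ k := ⟨_, rfl⟩
  rw [← hw]
  have hwP : w ∈ (P : Subgroup G) := by rw [hw]; exact pow_mem hx k
  have hxo : orderOf x = p := orderOf_eq_of_mem P hP hx hx1
  have hxs : p ∣ orderOf x := by rw [hxo]
  have hws : p ∣ orderOf w := by rw [hw]; exact dvd_orderOf_pow hk hxs
  have hw1 : w ≠ 1 := by
    intro h
    rw [h, orderOf_one] at hws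
    exact hp.out.not_dvd_one hws
  have h𝔅eq : 𝔅 = Finset.univ.filter (· ∈ D.B) := by
    ext χ
    simp [h𝔅]
  rw [h𝔅eq, sum_block_split D.K, sum_block_split D.K, sum_two hJ (Ne.symm hj₁),
    sum_two hJ (Ne.symm hj₁)]
  have hSeq : ∑ χ ∈ Finset.univ.filter (· ∈ D.K.S),
        (χ : G → ℂ) x * (χ : G → ℂ) x⁻¹ * conj ((χ : G → ℂ) z) / (χ : G → ℂ) 1
      = ∑ χ ∈ Finset.univ.filter (· ∈ D.K.S),
        (χ : G → ℂ) x * (χ : G → ℂ) w⁻¹ * conj ((χ : G → ℂ) z) / (χ : G → ℂ) 1 := by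
    apply Finset.sum_congr rfl
    intro χ hχ
    have hχS : χ ∈ D.K.S := (Finset.mem_filter.mp hχ).2
    rw [S_apply_P hP hM hcen D hχS (inv_mem hx) (inv_ne_one.mpr hx1),
      S_apply_P hP hM hcen D hχS (inv_mem hwP) (inv_ne_one.mpr hw1)]
  rw [hSeq, D.hΛ]
  have hΛw : (Λ : G → ℂ) w = (D.K.Λ j₁ : G → ℂ) x := by rw [hw, ← h1]; rfl
  have hΛ'w : (D.K.Λ j₁ : G → ℂ) w = (Λ : G → ℂ) x := by
    conv_rhs => rw [← h2]
    rw [hw]
    rfl
  have hag := D.K.agree hP hM D.hind j₁ D.j z hz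
  rw [D.hΛ] at hag
  have hΛ1 := IsCharacter.apply_one_eq_charDegree (IsIrrCharacter.isCharacter Λ.2)
  have hΛ'1 := IsCharacter.apply_one_eq_charDegree (IsIrrCharacter.isCharacter (D.K.Λ j₁).2)
  rw [D.degree_eq hP hM j₁] at hΛ'1
  have hsd := sv_diff hP hM hcen hnn hf hdeg hd2 D K₀ hj₁ x hxs
  rw [IsCharacter.apply_inv (IsIrrCharacter.isCharacter Λ.2),
    IsCharacter.apply_inv (IsIrrCharacter.isCharacter Λ.2),
    IsCharacter.apply_inv (IsIrrCharacter.isCharacter (D.K.Λ j₁).2),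
    IsCharacter.apply_inv (IsIrrCharacter.isCharacter (D.K.Λ j₁).2),
    hΛw, hΛ'w, hag, hΛ1, hΛ'1]
  rw [map_sub] at hsd
  have hm0 : (Cfsg.charDegree (Λ : G → ℂ) : ℂ) ≠ 0 := by
    have : Cfsg.charDegree (Λ : G → ℂ) ≠ 0 := by omega
    exact_mod_cast this
  field_simp
  linear_combination (conj ((Λ : G → ℂ) z)) * hsd

/-- the value of the weighted sum over the non-exceptional characters of the principal block -/
theorem Q_formula (D : Small M P Λ) (K₀ : (prin P hM).Str (Cfsg.principalBlock M G))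
    {j₁ : D.L.J} (hj₁ : j₁ ≠ D.j) (k₀ : (prin P hM).J) (z : G) (hz : ¬ p ∣ orderOf z)
    (𝒮 : Finset (Cfsg.IrrCharacter G)) (h𝒮 : ∀ χ, χ ∈ 𝒮 ↔ χ ∈ K₀.S) :
    2 * ∑ χ ∈ 𝒮, conj ((χ : G → ℂ) z) / (χ : G → ℂ) 1
        + conj ((K₀.Λ k₀ : G → ℂ) z) / (K₀.Λ k₀ : G → ℂ) 1
      = 2 + ((Λ : G → ℂ) z * conj ((Λ : G → ℂ) z) - 1) / ((Cfsg.charDegree (Λ : G → ℂ) : ℂ) + 1)
        + (Λ : G → ℂ) z * conj ((Λ : G → ℂ) z) / (Cfsg.charDegree (Λ : G → ℂ) : ℂ) := by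
  classical
  have : Fintype (Cfsg.IrrCharacter G) := Fintype.ofFinite _
  obtain ⟨Sp, Sm, hmemp, hmemm, hone, hdegP, hdegM, hcase⟩ := halves hP hM hcen D hdeg hd2 K₀ hj₁
    (hlin_of hP hM hcen hnn hf hdeg K₀)
  obtain ⟨mm, hmm⟩ : ∃ mm : ℂ, mm = (Cfsg.charDegree (Λ : G → ℂ) : ℂ) := ⟨_, rfl⟩
  obtain ⟨t, ht⟩ : ∃ t : ℂ, t = (Λ : G → ℂ) z * conj ((Λ : G → ℂ) z) := ⟨_, rfl⟩
  rw [← hmm, ← ht]
  have hpc : (p : ℂ) = 2 * mm + 1 := by rw [hmm, ← hdeg]; push_cast; ring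
  have hm2 : (2 : ℝ) ≤ (Cfsg.charDegree (Λ : G → ℂ) : ℝ) := by exact_mod_cast hd2
  have hmm0 : mm ≠ 0 := by
    rw [hmm]
    have : Cfsg.charDegree (Λ : G → ℂ) ≠ 0 := by omega
    exact_mod_cast this
  have hmm1 : mm + 1 ≠ 0 := by
    rw [hmm]
    have : ((Cfsg.charDegree (Λ : G → ℂ) + 1 : ℕ) : ℂ) ≠ 0 := Nat.cast_ne_zero.mpr (by omega)
    push_cast at this
    exact this
  have htc : conj t = t := by rw [ht, map_mul, Complex.conj_conj, mul_comm]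
  have h𝒮eq : Finset.univ.filter (· ∈ K₀.S) = 𝒮 := by
    ext χ
    simp [h𝒮]
  have hUnion : 𝒮 = Sp ∪ Sm := by
    ext χ
    rw [Finset.mem_union, h𝒮, hmemp, hmemm]
    constructor
    · intro h
      rcases K₀.sgn χ with e | e
      · exact Or.inl ⟨h, e⟩
      · exact Or.inr ⟨h, e⟩
    · rintro (h | h)
      · exact h.1
      · exact h.1
  have hDisj : Disjoint Sp Sm := by
    rw [Finset.disjoint_left]
    intro χ h1 h2
    have e1 := ((hmemp χ).mp h1).2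
    have e2 := ((hmemm χ).mp h2).2
    omega
  have hsplit : ∀ f : Cfsg.IrrCharacter G → ℂ,
      ∑ χ ∈ 𝒮, f χ = ∑ χ ∈ Sp, f χ + ∑ χ ∈ Sm, f χ := by
    intro f
    rw [hUnion, Finset.sum_union hDisj]
  obtain ⟨δθ, hδθ⟩ : ∃ δθ : ℂ, δθ = (K₀.δ (K₀.Λ k₀) : ℂ) := ⟨_, rfl⟩
  have hδsq : δθ * δθ = 1 := by
    rw [hδθ]
    rcases K₀.sgn (K₀.Λ k₀) with h | h <;> rw [h] <;> norm_num
  have hδ0 : δθ ≠ 0 := by
    intro h
    rw [h, zero_mul] at hδsq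
    exact zero_ne_one hδsq
  have hrel' : ∀ g : G, ¬ p ∣ orderOf g →
      ∑ χ ∈ Sp, (χ : G → ℂ) g - ∑ χ ∈ Sm, (χ : G → ℂ) g + δθ * (K₀.Λ k₀ : G → ℂ) g = 0 := by
    intro g hg
    have h3 := K₀.relation hP hM (prin_induced P hM) k₀ g hg
    rw [h𝒮eq, hsplit] at h3
    have e1 : ∑ χ ∈ Sp, (K₀.δ χ : ℂ) * (χ : G → ℂ) g = ∑ χ ∈ Sp, (χ : G → ℂ) g := by
      apply Finset.sum_congr rfl
      intro χ hχ
      rw [((hmemp χ).mp hχ).2]
      simp
    have e2 : ∑ χ ∈ Sm, (K₀.δ χ : ℂ) * (χ : G → ℂ) g = - ∑ χ ∈ Sm, (χ : G → ℂ) g := by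
      rw [← Finset.sum_neg_distrib]
      apply Finset.sum_congr rfl
      intro χ hχ
      rw [((hmemm χ).mp hχ).2]
      push_cast
      ring
    rw [e1, e2, ← hδθ] at h3
    linear_combination h3
  -- the sums of the degrees
  obtain ⟨Ae, hAe⟩ : ∃ Ae : ℂ, Ae = ((Sp.erase (oneIrr G)).card : ℂ) := ⟨_, rfl⟩
  obtain ⟨Bc, hBc⟩ : ∃ Bc : ℂ, Bc = (Sm.card : ℂ) := ⟨_, rfl⟩
  have hcardA : (Sp.card : ℂ) = Ae + 1 := by
    rw [hAe]
    have := Finset.card_erase_add_one hone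
    exact_mod_cast this.symm
  have hone1 : ∀ g : G, ((oneIrr G : Cfsg.IrrCharacter G) : G → ℂ) g = 1 := fun _ => rfl
  have hdegPc : ∀ χ ∈ Sp.erase (oneIrr G), (χ : G → ℂ) 1 = 2 * mm + 2 := by
    intro χ hχ
    obtain ⟨hne, hχp⟩ := Finset.mem_erase.mp hχ
    rw [IsCharacter.apply_one_eq_charDegree (IsIrrCharacter.isCharacter χ.2), hdegP χ hχp hne]
    push_cast
    rw [hpc]
    ring
  have hdegMc : ∀ χ ∈ Sm, (χ : G → ℂ) 1 = 2 * mm := by
    intro χ hχ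
    rw [IsCharacter.apply_one_eq_charDegree (IsIrrCharacter.isCharacter χ.2)]
    have h3 : ((Cfsg.charDegree (χ : G → ℂ) + 1 : ℕ) : ℂ) = (p : ℂ) := by rw [hdegM χ hχ]
    push_cast at h3
    rw [hpc] at h3
    linear_combination h3
  have hS1p : ∑ χ ∈ Sp, (χ : G → ℂ) 1 = 1 + Ae * (2 * mm + 2) := by
    rw [← Finset.add_sum_erase Sp _ hone, hone1, Finset.sum_congr rfl hdegPc, Finset.sum_const,
      nsmul_eq_mul, hAe]
  have hS1m : ∑ χ ∈ Sm, (χ : G → ℂ) 1 = Bc * (2 * mm) := by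
    rw [Finset.sum_congr rfl hdegMc, Finset.sum_const, nsmul_eq_mul, hBc]
  have hrel1 := hrel' 1 (by rw [orderOf_one]; exact hp.out.not_dvd_one)
  rw [hS1p, hS1m] at hrel1
  -- the sums at z
  obtain ⟨σe, hσe⟩ : ∃ σe : ℂ, σe = ∑ χ ∈ Sp.erase (oneIrr G), conj ((χ : G → ℂ) z) := ⟨_, rfl⟩
  obtain ⟨σm, hσm⟩ : ∃ σm : ℂ, σm = ∑ χ ∈ Sm, conj ((χ : G → ℂ) z) := ⟨_, rfl⟩
  have hσp : ∑ χ ∈ Sp, conj ((χ : G → ℂ) z) = 1 + σe := by
    rw [← Finset.add_sum_erase Sp _ hone, hone1, map_one, hσe]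
  have hrelz := congrArg conj (hrel' z hz)
  rw [map_add, map_sub, map_sum, map_sum, map_mul, map_zero, hσp, ← hσm] at hrelz
  have hδc : conj δθ = δθ := by rw [hδθ, map_intCast]
  rw [hδc] at hrelz
  have hwp : ∑ χ ∈ Sp, conj ((χ : G → ℂ) z) / (χ : G → ℂ) 1 = 1 + σe / (2 * mm + 2) := by
    rw [← Finset.add_sum_erase Sp _ hone, hone1, hone1, map_one, div_one, hσe, Finset.sum_div]
    congr 1
    apply Finset.sum_congr rfl
    intro χ hχ
    rw [hdegPc χ hχ]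
  have hwm : ∑ χ ∈ Sm, conj ((χ : G → ℂ) z) / (χ : G → ℂ) 1 = σm / (2 * mm) := by
    rw [hσm, Finset.sum_div]
    apply Finset.sum_congr rfl
    intro χ hχ
    rw [hdegMc χ hχ]
  rw [hsplit, hwp, hwm]
  obtain ⟨cv, hcv⟩ : ∃ cv : ℂ, cv = conj ((K₀.Λ k₀ : G → ℂ) z) := ⟨_, rfl⟩
  obtain ⟨θ1, hθ1⟩ : ∃ θ1 : ℂ, θ1 = (K₀.Λ k₀ : G → ℂ) 1 := ⟨_, rfl⟩
  rw [← hcv] at hrelz ⊢
  rw [← hθ1] at hrel1 ⊢
  have hθ10 : θ1 ≠ 0 := by rw [hθ1]; exact IsIrrCharacter.apply_one_ne_zero (K₀.Λ k₀).2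
  have hdiv : cv / θ1 = (δθ * cv) / (δθ * θ1) := (mul_div_mul_left cv θ1 hδ0).symm
  have h2m : (2 : ℂ) * mm + 2 ≠ 0 := by
    have : (2 : ℂ) * mm + 2 = 2 * (mm + 1) := by ring
    rw [this]
    exact mul_ne_zero two_ne_zero hmm1
  have h2m' : (2 : ℂ) * mm ≠ 0 := mul_ne_zero two_ne_zero hmm0
  rcases hcase with ⟨c1, c2, hW⟩ | ⟨c1, c2, hW⟩
  · have hc1 : 2 * (Ae + 1) = mm + 1 := by
      rw [← hcardA, hmm]
      exact_mod_cast c1
    have hc2 : 2 * Bc + 1 = mm := by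
      rw [hBc, hmm]
      exact_mod_cast c2
    have hWz : 1 + σe = t := by
      have h3 := congrArg conj (hW z)
      rw [← ht, htc, map_sum, hσp] at h3
      exact h3.symm
    have hθv : δθ * θ1 = -mm := by
      linear_combination hrel1 - (mm + 1) * hc1 + mm * hc2
    have hcvv : δθ * cv = σm - t := by
      linear_combination hrelz - hWz
    rw [hdiv, hθv, hcvv]
    have hσe' : σe = t - 1 := by linear_combination hWz
    rw [hσe']
    field_simp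
    ring
  · have hc1 : 2 * (Ae + 1) = mm := by
      rw [← hcardA, hmm]
      exact_mod_cast c1
    have hc2 : 2 * Bc = mm := by
      rw [hBc, hmm]
      exact_mod_cast c2
    have hag := D.K.agree hP hM D.hind j₁ D.j z hz
    rw [D.hΛ] at hag
    have hWz : σm = t := by
      have h3 := congrArg conj (hW z)
      rw [hag, ← ht, htc, map_sum, ← hσm] at h3
      exact h3.symm
    have hθv : δθ * θ1 = mm + 1 := by
      linear_combination hrel1 - (mm + 1) * hc1 + mm * hc2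
    have hcvv : δθ * cv = t - 1 - σe := by
      linear_combination hrelz + hWz
    rw [hdiv, hθv, hcvv, hWz]
    field_simp
    ring

/-- the sum of the two block sums for the principal block -/
theorem FB0_sum (D : Small M P Λ) (K₀ : (prin P hM).Str (Cfsg.principalBlock M G))
    {j₁ : D.L.J} (hj₁ : j₁ ≠ D.j) {x : G} (hx : x ∈ (P : Subgroup G)) (hx1 : x ≠ 1)
    {k : ℕ} (hk : k.Coprime (Nat.card G))
    (hswap : ∀ i i' : (prin P hM).J, i ≠ i' → powIrr k hk (K₀.Λ i) = K₀.Λ i')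
    (z : G) (hz : ¬ p ∣ orderOf z)
    (𝔅₀ : Finset (Cfsg.IrrCharacter G)) (h𝔅₀ : ∀ χ, χ ∈ 𝔅₀ ↔ χ ∈ Cfsg.principalBlock M G) :
    ∑ χ ∈ 𝔅₀, (χ : G → ℂ) x * (χ : G → ℂ) x⁻¹ * conj ((χ : G → ℂ) z) / (χ : G → ℂ) 1
      + ∑ χ ∈ 𝔅₀, (χ : G → ℂ) x * (χ : G → ℂ) (x ^ k)⁻¹ * conj ((χ : G → ℂ) z) / (χ : G → ℂ) 1
      = 2 + ((Λ : G → ℂ) z * conj ((Λ : G → ℂ) z) - 1) / ((Cfsg.charDegree (Λ : G → ℂ) : ℂ) + 1)
        + (Λ : G → ℂ) z * conj ((Λ : G → ℂ) z) / (Cfsg.charDegree (Λ : G → ℂ) : ℂ) := by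
  classical
  have : Fintype (Cfsg.IrrCharacter G) := Fintype.ofFinite _
  have : Fintype (prin P hM).J := Fintype.ofFinite _
  have hJ₀ := card_J_prin hP hM hcen hdeg D
  obtain ⟨k₀, k₁, hne, -⟩ : ∃ k₀ k₁ : (prin P hM).J, k₀ ≠ k₁ ∧
      (Finset.univ : Finset (prin P hM).J) = {k₀, k₁} := by
    apply Finset.card_eq_two.mp
    rw [Finset.card_univ, ← Nat.card_eq_fintype_card]
    exact hJ₀
  obtain ⟨w, hw⟩ : ∃ w : G, w = x ^ k := ⟨_, rfl⟩
  rw [← hw]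
  have hwP : w ∈ (P : Subgroup G) := by rw [hw]; exact pow_mem hx k
  have hxo : orderOf x = p := orderOf_eq_of_mem P hP hx hx1
  have hxs : p ∣ orderOf x := by rw [hxo]
  have hws : p ∣ orderOf w := by rw [hw]; exact dvd_orderOf_pow hk hxs
  have hxis : p ∣ orderOf x⁻¹ := by rw [orderOf_inv]; exact hxs
  have hwis : p ∣ orderOf w⁻¹ := by rw [orderOf_inv]; exact hws
  have h𝔅eq : 𝔅₀ = Finset.univ.filter (· ∈ Cfsg.principalBlock M G) := by
    ext χ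
    simp [h𝔅₀]
  rw [h𝔅eq, sum_block_split K₀, sum_block_split K₀, sum_two hJ₀ hne, sum_two hJ₀ hne]
  have hS : ∀ y : G, p ∣ orderOf y → ∑ χ ∈ Finset.univ.filter (· ∈ K₀.S),
        (χ : G → ℂ) x * (χ : G → ℂ) y * conj ((χ : G → ℂ) z) / (χ : G → ℂ) 1
      = ∑ χ ∈ Finset.univ.filter (· ∈ K₀.S), conj ((χ : G → ℂ) z) / (χ : G → ℂ) 1 := by
    intro y hy
    apply Finset.sum_congr rfl
    intro χ hχ
    have hχS : χ ∈ K₀.S := (Finset.mem_filter.mp hχ).2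
    rw [prin_S_sing hP hM K₀ hχS x hxs, prin_S_sing hP hM K₀ hχS y hy]
    have : (K₀.δ χ : ℂ) * (K₀.δ χ : ℂ) = 1 := by
      rcases K₀.sgn χ with h | h <;> rw [h] <;> norm_num
    rw [this, one_mul]
  rw [hS x⁻¹ hxis, hS w⁻¹ hwis]
  have hΛw : (K₀.Λ k₀ : G → ℂ) w = (K₀.Λ k₁ : G → ℂ) x := by
    rw [hw, ← hswap k₀ k₁ hne]
    rfl
  have hΛ'w : (K₀.Λ k₁ : G → ℂ) w = (K₀.Λ k₀ : G → ℂ) x := by
    rw [hw, ← hswap k₁ k₀ (Ne.symm hne)]
    rfl
  have hag := K₀.agree hP hM (prin_induced P hM) k₁ k₀ z hz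
  have hag1 := K₀.agree hP hM (prin_induced P hM) k₁ k₀ 1
    (by rw [orderOf_one]; exact hp.out.not_dvd_one)
  have hadd := exc_add_sing hP hM hcen (prin P hM) isPBlock_principalBlock (prin_defect P hM)
    (prin_induced P hM) K₀ hJ₀ hne x hxs
  rw [map_add] at hadd
  have hQ := Q_formula hP hM hcen hnn hf hdeg hd2 D K₀ hj₁ k₀ z hz
    (Finset.univ.filter (· ∈ K₀.S)) (fun χ => by simp)
  rw [IsCharacter.apply_inv (IsIrrCharacter.isCharacter (K₀.Λ k₀).2),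
    IsCharacter.apply_inv (IsIrrCharacter.isCharacter (K₀.Λ k₀).2),
    IsCharacter.apply_inv (IsIrrCharacter.isCharacter (K₀.Λ k₁).2),
    IsCharacter.apply_inv (IsIrrCharacter.isCharacter (K₀.Λ k₁).2),
    hΛw, hΛ'w, hag, hag1]
  rw [← hQ]
  have hθ10 : (K₀.Λ k₀ : G → ℂ) 1 ≠ 0 := IsIrrCharacter.apply_one_ne_zero (K₀.Λ k₀).2
  field_simp
  linear_combination (conj ((K₀.Λ k₀ : G → ℂ) z)) * hadd

end main

end Cfsg.Agent.Lib.Helper6.BH
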