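import Mathlib
import Cfsg.Agent.Lib.Helper6.BH8

/-!
# The bound at the `p`-regular elements and the bound for the group order
-/

set_option autoImplicit false
set_option linter.unusedSectionVars false
set_option linter.style.haveILetI false

namespace Cfsg.Agent.Lib.Helper6.BH

open Cfsg.Agent.Lib.Helper6 Cfsg.Agent.Lib.Helper6.PB Cfsg.Agent.Lib.Helper6.BR
open scoped ComplexConjugate

variable {G : Type*} [Group G] [Fintype G] [DecidableEq G] {p : ℕ} [hp : Fact p.Prime]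
variable {P : Sylow p G}
variable [Fintype ↥(Subgroup.centralizer ((P : Subgroup G) : Set G))]
variable [Fintype ↥(Subgroup.normalizer ((P : Subgroup G) : Set G))]
variable {M : Ideal Cfsg.AlgInt}

local notation "𝐂" => Subgroup.centralizer ((P : Subgroup G) : Set G)
local notation "𝐍" => Subgroup.normalizer ((P : Subgroup G) : Set G)
local notation "𝐃" => Subgroup.subgroupOf (P : Subgroup G) (Subgroup.centralizer ((P : Subgroup G) : Set G))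

theorem sum_mul_conj_irr (χ ψ : Cfsg.IrrCharacter G) :
    ∑ g : G, (χ : G → ℂ) g * conj ((ψ : G → ℂ) g) = if χ = ψ then (Nat.card G : ℂ) else 0 := by
  have h1 := classInner_irrCharacter χ ψ
  unfold Cfsg.classInner at h1
  have h0 : (Nat.card G : ℂ) ≠ 0 := Nat.cast_ne_zero.mpr Nat.card_pos.ne'
  have h2 : ∑ g : G, (χ : G → ℂ) g * conj ((ψ : G → ℂ) g)
      = (Nat.card G : ℂ) * (if χ = ψ then 1 else 0) := by
    rw [← h1]
    field_simp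
  rw [h2]
  split_ifs <;> simp

/-- the squared norm of a sum of distinct irreducible characters -/
theorem sum_sq_of_sum_irr (𝒯 : Finset (Cfsg.IrrCharacter G)) :
    ∑ g : G, (∑ χ ∈ 𝒯, (χ : G → ℂ) g) * conj (∑ χ ∈ 𝒯, (χ : G → ℂ) g)
      = (𝒯.card : ℂ) * (Nat.card G : ℂ) := by
  classical
  have h1 : ∀ g : G, (∑ χ ∈ 𝒯, (χ : G → ℂ) g) * conj (∑ χ ∈ 𝒯, (χ : G → ℂ) g)
      = ∑ χ ∈ 𝒯, ∑ χ' ∈ 𝒯, (χ : G → ℂ) g * conj ((χ' : G → ℂ) g) := by
    intro g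
    rw [map_sum, Finset.sum_mul_sum]
  rw [Finset.sum_congr rfl (fun g _ => h1 g), Finset.sum_comm]
  have h2 : ∀ χ ∈ 𝒯, ∑ g : G, ∑ χ' ∈ 𝒯, (χ : G → ℂ) g * conj ((χ' : G → ℂ) g)
      = (Nat.card G : ℂ) := by
    intro χ hχ
    rw [Finset.sum_comm]
    rw [Finset.sum_congr rfl (fun χ' _ => sum_mul_conj_irr χ χ'), Finset.sum_ite_eq, if_pos hχ]
  rw [Finset.sum_congr rfl h2, Finset.sum_const, nsmul_eq_mul]

section main

variable (hP : Nat.card P = p) (hM : Cfsg.IsPModular p M)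
variable (hcen : ∀ c : ↥(Subgroup.centralizer ((P : Subgroup G) : Set G)), ¬ p ∣ orderOf c →
  (c : G) ∈ Subgroup.center G)
variable (hZreg : ∀ y ∈ Subgroup.center G, ¬ p ∣ orderOf y)
variable (hnn : ∀ H : Subgroup G, H.Normal → Nat.card H ≠ p)
variable {Λ : Cfsg.IrrCharacter G} (hf : ∀ g, (Λ : G → ℂ) g = (Λ : G → ℂ) 1 → g = 1)
variable (hdeg : 2 * Cfsg.charDegree (Λ : G → ℂ) + 1 = p) (hd2 : 2 ≤ Cfsg.charDegree (Λ : G → ℂ))
include hP hM hcen hZreg hnn hf hdeg hd2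

/-- a `p`-regular element is central or the faithful character has absolute value at most one
there -/
theorem reg_bound (D : Small M P Λ) (K₀ : (prin P hM).Str (Cfsg.principalBlock M G))
    {j₁ : D.L.J} (hj₁ : j₁ ≠ D.j) (z : G) (hz : ¬ p ∣ orderOf z) :
    ‖(Λ : G → ℂ) z‖ ≤ 1 ∨ z ∈ Subgroup.center G := by
  classical
  have : Fintype (Cfsg.IrrCharacter G) := Fintype.ofFinite _
  obtain ⟨x, hPx, hxo⟩ := exists_gen P hP
  have hx : x ∈ (P : Subgroup G) := by rw [hPx]; exact Subgroup.mem_zpowers x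
  have hx1 : x ≠ 1 := by
    intro h
    rw [h, orderOf_one] at hxo
    exact hp.out.one_lt.ne hxo
  have hxs : p ∣ orderOf x := by rw [hxo]
  obtain ⟨k, hk, h1, h2, hswap⟩ := galois_data hP hM hcen hnn hf hdeg hd2 D K₀ hj₁ hx hx1
  have hΛB : Λ ∈ D.B := by
    have h3 := D.K.mem D.j
    rw [D.hΛ] at h3
    exact h3
  obtain ⟨𝔅, h𝔅⟩ : ∃ 𝔅 : Finset (Cfsg.IrrCharacter G), ∀ χ, χ ∈ 𝔅 ↔ χ ∈ D.B :=
    ⟨Finset.univ.filter (· ∈ D.B), fun χ => by simp⟩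
  obtain ⟨𝔅₀, h𝔅₀⟩ : ∃ 𝔅₀ : Finset (Cfsg.IrrCharacter G),
      ∀ χ, χ ∈ 𝔅₀ ↔ χ ∈ Cfsg.principalBlock M G :=
    ⟨Finset.univ.filter (· ∈ Cfsg.principalBlock M G), fun χ => by simp⟩
  obtain ⟨r₁, e10, e11⟩ := block_twist_bound hP hM hcen hZreg D.L D.hB D.hBP D.hind hΛB 𝔅 𝔅₀
    h𝔅 h𝔅₀ x x⁻¹ z hxs
  obtain ⟨r₂, e20, e21⟩ := block_twist_bound hP hM hcen hZreg D.L D.hB D.hBP D.hind hΛB 𝔅 𝔅₀
    h𝔅 h𝔅₀ x (x ^ k)⁻¹ z hxs
  have hd := FB_diff hP hM hcen hnn hf hdeg hd2 D K₀ hj₁ hx hx1 hk h1 h2 z hz 𝔅 h𝔅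
  have hs := FB0_sum hP hM hcen hnn hf hdeg hd2 D K₀ hj₁ hx hx1 hk hswap z hz 𝔅₀ h𝔅₀
  rw [e10, e20] at hs
  obtain ⟨s, hsdef⟩ : ∃ s : ℝ, s = ‖(Λ : G → ℂ) z‖ := ⟨_, rfl⟩
  obtain ⟨m, hm⟩ : ∃ m : ℝ, m = (Cfsg.charDegree (Λ : G → ℂ) : ℝ) := ⟨_, rfl⟩
  have hm2 : (2 : ℝ) ≤ m := by rw [hm]; exact_mod_cast hd2
  have hpm : (p : ℝ) = 2 * m + 1 := by rw [hm, ← hdeg]; push_cast; ring
  have hs0 : 0 ≤ s := by rw [hsdef]; exact norm_nonneg _
  have hsm : s ≤ m := by rw [hsdef, hm]; exact norm_le_degree Λ z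
  have ht : (Λ : G → ℂ) z * conj ((Λ : G → ℂ) z) = ((s ^ 2 : ℝ) : ℂ) := by
    rw [Complex.mul_conj, Complex.normSq_eq_norm_sq, hsdef]
  have hreal : r₁ + r₂ = 2 + (s ^ 2 - 1) / (m + 1) + s ^ 2 / m := by
    have : ((r₁ + r₂ : ℝ) : ℂ) = ((2 + (s ^ 2 - 1) / (m + 1) + s ^ 2 / m : ℝ) : ℂ) := by
      rw [ht] at hs
      rw [hm]
      push_cast
      push_cast at hs
      exact hs
    exact_mod_cast this
  have hnorm : ‖(p : ℂ) * conj ((Λ : G → ℂ) z) / (Cfsg.charDegree (Λ : G → ℂ) : ℂ)‖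
      = (p : ℝ) * s / m := by
    rw [norm_div, norm_mul, Complex.norm_natCast, Complex.norm_natCast, Complex.norm_conj, hsdef,
      hm]
  have hineq : (p : ℝ) * s / m ≤ r₁ + r₂ := by
    rw [← hnorm, ← hd]
    calc _ ≤ ‖∑ χ ∈ 𝔅, (χ : G → ℂ) x * (χ : G → ℂ) x⁻¹ * conj ((χ : G → ℂ) z) / (χ : G → ℂ) 1‖
          + ‖∑ χ ∈ 𝔅, (χ : G → ℂ) x * (χ : G → ℂ) (x ^ k)⁻¹ * conj ((χ : G → ℂ) z)
              / (χ : G → ℂ) 1‖ := norm_sub_le _ _
      _ ≤ r₁ + r₂ := add_le_add e11 e21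
  rw [hreal, hpm] at hineq
  have hm0 : 0 < m := by linarith
  have hm1 : 0 < m + 1 := by linarith
  have hmul := mul_le_mul_of_nonneg_right hineq (mul_pos hm0 hm1).le
  have e1 : (2 * m + 1) * s / m * (m * (m + 1)) = (2 * m + 1) * s * (m + 1) := by
    field_simp
  have e2 : (2 + (s ^ 2 - 1) / (m + 1) + s ^ 2 / m) * (m * (m + 1))
      = 2 * m * (m + 1) + (s ^ 2 - 1) * m + s ^ 2 * (m + 1) := by
    field_simp
  rw [e1, e2] at hmul
  have hkey : (m + 1) * s ≤ s ^ 2 + m := by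
    have h3 : (2 * m + 1) * ((m + 1) * s) ≤ (2 * m + 1) * (s ^ 2 + m) := by nlinarith
    exact le_of_mul_le_mul_left h3 (by linarith)
  by_cases hs1 : s ≤ 1
  · left
    rw [← hsdef]
    exact hs1
  · right
    rw [not_le] at hs1
    have hge : m ≤ s := by
      by_contra hlt
      rw [not_le] at hlt
      nlinarith [mul_pos (sub_pos.mpr hs1) (sub_pos.mpr hlt)]
    have heq : s = m := le_antisymm hsm hge
    apply Cfsg.Agent.Lib.Helper3.Prim2.mem_center_of_norm_eq Λ.2 hf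
    rw [← hsdef, heq, hm, IsCharacter.apply_one_eq_charDegree (IsIrrCharacter.isCharacter Λ.2),
      Complex.norm_natCast]

/-- the bound for the order of the group -/
theorem order_bound (D : Small M P Λ) (K₀ : (prin P hM).Str (Cfsg.principalBlock M G))
    {j₁ : D.L.J} (hj₁ : j₁ ≠ D.j) :
    Nat.card G ≤ Nat.card (Subgroup.center G) * p * Cfsg.charDegree (Λ : G → ℂ) * (p + 1) := by
  classical
  obtain ⟨𝒯, Λ₂, ε, hε, h𝒯, hΛ₂, hW, hcard⟩ :=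
    fourth_data hP hM hcen hnn hf hdeg hd2 D K₀ hj₁
  obtain ⟨Λ', hΛ'⟩ : ∃ Λ' : Cfsg.IrrCharacter G, Λ' = D.K.Λ j₁ := ⟨_, rfl⟩
  have hΛne : Λ ≠ Λ' := by
    intro h
    apply hj₁
    apply D.K.inj
    rw [D.hΛ, ← hΛ']
    exact h.symm
  have hagree : ∀ g, ¬ p ∣ orderOf g → (Λ' : G → ℂ) g = (Λ : G → ℂ) g := by
    intro g hg
    have := D.K.agree hP hM D.hind j₁ D.j g hg
    rw [D.hΛ, ← hΛ'] at this
    exact this
  obtain ⟨sing, hsing⟩ : ∃ sing : Finset G, sing = Finset.univ.filter (fun g : G => p ∣ orderOf g) :=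
    ⟨_, rfl⟩
  obtain ⟨reg, hreg⟩ : ∃ reg : Finset G,
      reg = Finset.univ.filter (fun g : G => ¬ p ∣ orderOf g) := ⟨_, rfl⟩
  have hmems : ∀ g, g ∈ sing ↔ p ∣ orderOf g := by intro g; rw [hsing]; simp
  have hmemr : ∀ g, g ∈ reg ↔ ¬ p ∣ orderOf g := by intro g; rw [hreg]; simp
  have hsplit : ∀ f : G → ℂ, ∑ g : G, f g = ∑ g ∈ sing, f g + ∑ g ∈ reg, f g := by
    intro f
    rw [hsing, hreg]
    exact (Finset.sum_filter_add_sum_filter_not Finset.univ _ f).symm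
  obtain ⟨n, hn⟩ : ∃ n : G → ℝ, ∀ g, n g = Complex.normSq ((Λ : G → ℂ) g) := ⟨_, fun _ => rfl⟩
  have hnc : ∀ g, (Λ : G → ℂ) g * conj ((Λ : G → ℂ) g) = ((n g : ℝ) : ℂ) := by
    intro g
    rw [hn, Complex.mul_conj]
  obtain ⟨gg, hgg⟩ : ∃ gg : ℝ, gg = (Nat.card G : ℝ) := ⟨_, rfl⟩
  obtain ⟨N, hN⟩ : ∃ N : ℝ, N = (sing.card : ℝ) := ⟨_, rfl⟩
  obtain ⟨m, hm⟩ : ∃ m : ℝ, m = (Cfsg.charDegree (Λ : G → ℂ) : ℝ) := ⟨_, rfl⟩
  obtain ⟨h, hh⟩ : ∃ h : ℝ, h = (𝒯.card : ℝ) := ⟨_, rfl⟩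
  obtain ⟨ζ, hζ⟩ : ∃ ζ : ℝ, ζ = (Nat.card (Subgroup.center G) : ℝ) := ⟨_, rfl⟩
  have hm2 : (2 : ℝ) ≤ m := by rw [hm]; exact_mod_cast hd2
  have hpm : (p : ℝ) = 2 * m + 1 := by rw [hm, ← hdeg]; push_cast; ring
  -- the number of singular elements
  have hM0 : (p : ℝ) * N = 2 * gg := by
    have h1 : ∑ g : G, ((Λ : G → ℂ) g - (Λ' : G → ℂ) g)
        * conj ((Λ : G → ℂ) g - (Λ' : G → ℂ) g) = 2 * (Nat.card G : ℂ) := by
      have e : ∀ g : G, ((Λ : G → ℂ) g - (Λ' : G → ℂ) g)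
          * conj ((Λ : G → ℂ) g - (Λ' : G → ℂ) g)
          = (Λ : G → ℂ) g * conj ((Λ : G → ℂ) g) + (Λ' : G → ℂ) g * conj ((Λ' : G → ℂ) g)
            - (Λ : G → ℂ) g * conj ((Λ' : G → ℂ) g)
            - (Λ' : G → ℂ) g * conj ((Λ : G → ℂ) g) := by
        intro g
        rw [map_sub]
        ring
      rw [Finset.sum_congr rfl (fun g _ => e g), Finset.sum_sub_distrib, Finset.sum_sub_distrib,
        Finset.sum_add_distrib, sum_mul_conj_irr, sum_mul_conj_irr, sum_mul_conj_irr,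
        sum_mul_conj_irr, if_pos rfl, if_pos rfl, if_neg hΛne, if_neg (Ne.symm hΛne)]
      ring
    rw [hsplit] at h1
    have e1 : ∑ g ∈ sing, ((Λ : G → ℂ) g - (Λ' : G → ℂ) g)
        * conj ((Λ : G → ℂ) g - (Λ' : G → ℂ) g) = (sing.card : ℂ) * (p : ℂ) := by
      have : ∀ g ∈ sing, ((Λ : G → ℂ) g - (Λ' : G → ℂ) g)
          * conj ((Λ : G → ℂ) g - (Λ' : G → ℂ) g) = (p : ℂ) := by
        intro g hg
        rw [hΛ']
        exact sv_diff hP hM hcen hnn hf hdeg hd2 D K₀ hj₁ g ((hmems g).mp hg)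
      rw [Finset.sum_congr rfl this, Finset.sum_const, nsmul_eq_mul]
    have e2 : ∑ g ∈ reg, ((Λ : G → ℂ) g - (Λ' : G → ℂ) g)
        * conj ((Λ : G → ℂ) g - (Λ' : G → ℂ) g) = 0 := by
      apply Finset.sum_eq_zero
      intro g hg
      rw [hagree g ((hmemr g).mp hg), sub_self, zero_mul]
    rw [e1, e2, add_zero] at h1
    have : (((p : ℝ) * N : ℝ) : ℂ) = ((2 * gg : ℝ) : ℂ) := by
      rw [hN, hgg]
      push_cast
      linear_combination h1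
    exact_mod_cast this
  -- the second moment
  have hM2 : 2 * ∑ g ∈ reg, n g + (m + 1) * N = 2 * gg := by
    have h1 : ∑ g : G, ((Λ : G → ℂ) g * conj ((Λ : G → ℂ) g)
        + (Λ' : G → ℂ) g * conj ((Λ' : G → ℂ) g)) = 2 * (Nat.card G : ℂ) := by
      rw [Finset.sum_add_distrib, sum_mul_conj_irr, sum_mul_conj_irr, if_pos rfl, if_pos rfl]
      ring
    rw [hsplit] at h1
    have e1 : ∑ g ∈ sing, ((Λ : G → ℂ) g * conj ((Λ : G → ℂ) g)
        + (Λ' : G → ℂ) g * conj ((Λ' : G → ℂ) g))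
        = (sing.card : ℂ) * ((Cfsg.charDegree (Λ : G → ℂ) : ℂ) + 1) := by
      have : ∀ g ∈ sing, ((Λ : G → ℂ) g * conj ((Λ : G → ℂ) g)
          + (Λ' : G → ℂ) g * conj ((Λ' : G → ℂ) g))
          = (Cfsg.charDegree (Λ : G → ℂ) : ℂ) + 1 := by
        intro g hg
        rw [hΛ']
        exact sv_sum hP hM hcen hnn hf hdeg hd2 D K₀ hj₁ g ((hmems g).mp hg)
      rw [Finset.sum_congr rfl this, Finset.sum_const, nsmul_eq_mul]
    have e2 : ∑ g ∈ reg, ((Λ : G → ℂ) g * conj ((Λ : G → ℂ) g)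
        + (Λ' : G → ℂ) g * conj ((Λ' : G → ℂ) g))
        = 2 * ((∑ g ∈ reg, n g : ℝ) : ℂ) := by
      push_cast
      rw [Finset.mul_sum]
      apply Finset.sum_congr rfl
      intro g hg
      rw [hagree g ((hmemr g).mp hg), hnc g]
      ring
    rw [e1, e2] at h1
    have : ((2 * ∑ g ∈ reg, n g + (m + 1) * N : ℝ) : ℂ) = ((2 * gg : ℝ) : ℂ) := by
      rw [hN, hgg, hm]
      push_cast
      push_cast at h1
      linear_combination h1
    exact_mod_cast this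
  -- the fourth moment
  have hM4 : ∑ g ∈ reg, (n g) ^ 2 + h ^ 2 * N = h * gg := by
    have h1 := sum_sq_of_sum_irr (G := G) 𝒯
    rw [hsplit] at h1
    have e1 : ∑ g ∈ sing, (∑ χ ∈ 𝒯, (χ : G → ℂ) g) * conj (∑ χ ∈ 𝒯, (χ : G → ℂ) g)
        = (sing.card : ℂ) * ((𝒯.card : ℂ) * (𝒯.card : ℂ)) := by
      have : ∀ g ∈ sing, (∑ χ ∈ 𝒯, (χ : G → ℂ) g) * conj (∑ χ ∈ 𝒯, (χ : G → ℂ) g)
          = (𝒯.card : ℂ) * (𝒯.card : ℂ) := by
        intro g hg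
        rw [sum_S_sing hP hM K₀ 𝒯 ε h𝒯 g ((hmems g).mp hg), map_mul, map_intCast,
          Complex.conj_natCast]
        have : (ε : ℂ) * (ε : ℂ) = 1 := by
          rcases hε with e | e <;> rw [e] <;> norm_num
        linear_combination (𝒯.card : ℂ) * (𝒯.card : ℂ) * this
      rw [Finset.sum_congr rfl this, Finset.sum_const, nsmul_eq_mul]
    have e2 : ∑ g ∈ reg, (∑ χ ∈ 𝒯, (χ : G → ℂ) g) * conj (∑ χ ∈ 𝒯, (χ : G → ℂ) g)
        = ((∑ g ∈ reg, (n g) ^ 2 : ℝ) : ℂ) := by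
      push_cast
      apply Finset.sum_congr rfl
      intro g hg
      rw [← hW g, hΛ₂ g ((hmemr g).mp hg), hnc g, Complex.conj_ofReal]
      ring
    rw [e1, e2] at h1
    have : ((∑ g ∈ reg, (n g) ^ 2 + h ^ 2 * N : ℝ) : ℂ) = ((h * gg : ℝ) : ℂ) := by
      rw [hN, hgg, hh]
      push_cast
      push_cast at h1
      linear_combination h1
    exact_mod_cast this
  -- the central and the non-central regular elements
  obtain ⟨Zc, hZc⟩ : ∃ Zc : Finset G, Zc = Finset.univ.filter (fun g : G => g ∈ Subgroup.center G) :=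
    ⟨_, rfl⟩
  have hmemZ : ∀ g, g ∈ Zc ↔ g ∈ Subgroup.center G := by intro g; rw [hZc]; simp
  have hZsub : Zc ⊆ reg := by
    intro g hg
    exact (hmemr g).mpr (hZreg g ((hmemZ g).mp hg))
  have hZcard : (Zc.card : ℝ) = ζ := by
    rw [hζ, hZc, Nat.card_eq_fintype_card, Fintype.card_subtype]
  have hnZ : ∀ g ∈ Zc, n g = m ^ 2 := by
    intro g hg
    have hgc := (hmemZ g).mp hg
    have h1 := cch_mul Λ ⟨g, hgc⟩ 1
    rw [mul_one] at h1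
    have h2 := cch_mul_conj Λ ⟨g, hgc⟩
    have h3 : (Λ : G → ℂ) g * conj ((Λ : G → ℂ) g) = ((m ^ 2 : ℝ) : ℂ) := by
      change (Λ : G → ℂ) ((⟨g, hgc⟩ : Subgroup.center G) : G) * _ = _
      rw [h1, map_mul, IsCharacter.apply_one_eq_charDegree (IsIrrCharacter.isCharacter Λ.2),
        Complex.conj_natCast, hm]
      push_cast
      linear_combination ((Cfsg.charDegree (Λ : G → ℂ) : ℂ)) ^ 2 * h2
    rw [hnc g] at h3
    exact_mod_cast h3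
  have hnR : ∀ g ∈ reg \ Zc, (n g) ^ 2 ≤ n g := by
    intro g hg
    obtain ⟨hgr, hgZ⟩ := Finset.mem_sdiff.mp hg
    have h1 := reg_bound hP hM hcen hZreg hnn hf hdeg hd2 D K₀ hj₁ g ((hmemr g).mp hgr)
    rcases h1 with h1 | h1
    · have h2 : n g = ‖(Λ : G → ℂ) g‖ ^ 2 := by rw [hn, Complex.normSq_eq_norm_sq]
      have h3 : 0 ≤ n g := by rw [h2]; positivity
      have h4 : n g ≤ 1 := by
        rw [h2]
        have := norm_nonneg ((Λ : G → ℂ) g)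
        nlinarith
      nlinarith
    · exact absurd ((hmemZ g).mpr h1) hgZ
  have hs2 : ∑ g ∈ reg, n g = ζ * m ^ 2 + ∑ g ∈ reg \ Zc, n g := by
    rw [← Finset.sum_sdiff hZsub, Finset.sum_congr rfl hnZ, Finset.sum_const, nsmul_eq_mul,
      hZcard]
    ring
  have hs4 : ∑ g ∈ reg, (n g) ^ 2 ≤ ζ * m ^ 4 + ∑ g ∈ reg \ Zc, n g := by
    rw [← Finset.sum_sdiff hZsub]
    have e1 : ∑ g ∈ Zc, (n g) ^ 2 = ζ * m ^ 4 := by
      have : ∀ g ∈ Zc, (n g) ^ 2 = m ^ 4 := by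
        intro g hg
        rw [hnZ g hg]
        ring
      rw [Finset.sum_congr rfl this, Finset.sum_const, nsmul_eq_mul, hZcard]
    rw [e1]
    have := Finset.sum_le_sum hnR
    linarith
  -- the conclusion
  obtain ⟨R2, hR2⟩ : ∃ R2 : ℝ, R2 = ∑ g ∈ reg, n g := ⟨_, rfl⟩
  obtain ⟨R4, hR4⟩ : ∃ R4 : ℝ, R4 = ∑ g ∈ reg, (n g) ^ 2 := ⟨_, rfl⟩
  rw [← hR2] at hM2 hs2
  rw [← hR4] at hM4 hs4
  have hineq : R4 ≤ ζ * m ^ 4 + R2 - ζ * m ^ 2 := by linarith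
  have hhm : 2 * h * ((2 * m + 1) - 2 * h) = m * (m + 1) := by
    rcases hcard with e | e
    · have e' : 2 * h = m + 1 := by
        rw [hh, hm]
        exact_mod_cast e
      rw [e']
      ring
    · have e' : 2 * h = m := by
        rw [hh, hm]
        exact_mod_cast e
      rw [e']
      ring
  have hgpos : 0 < gg := by rw [hgg]; exact Nat.cast_pos.mpr Nat.card_pos
  have hζpos : 0 < ζ := by rw [hζ]; exact Nat.cast_pos.mpr Nat.card_pos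
  -- multiply by 2 p
  have hA : 2 * (p : ℝ) * R4 = gg * (m * (m + 1)) := by
    have : 2 * (p : ℝ) * R4 = 2 * (p : ℝ) * (h * gg) - 2 * h ^ 2 * ((p : ℝ) * N) := by
      rw [← hM4]; ring
    rw [this, hM0, hpm, ← hhm]
    ring
  have hB : 2 * (p : ℝ) * R2 = 2 * gg * m := by
    have : 2 * (p : ℝ) * R2 = (p : ℝ) * (2 * R2 + (m + 1) * N) - (m + 1) * ((p : ℝ) * N) := by ring
    rw [this, hM2, hM0, hpm]
    ring
  have hp0 : (0 : ℝ) < 2 * (p : ℝ) := by rw [hpm]; linarith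
  have hfin : gg * (m * (m - 1)) ≤ (2 * (p : ℝ) * ζ * m * (m + 1)) * (m * (m - 1)) := by
    have h1 := mul_le_mul_of_nonneg_left hineq hp0.le
    have h2 : 2 * (p : ℝ) * (ζ * m ^ 4 + R2 - ζ * m ^ 2)
        = 2 * (p : ℝ) * ζ * (m ^ 4 - m ^ 2) + 2 * (p : ℝ) * R2 := by ring
    rw [h2, hA, hB] at h1
    nlinarith
  have hmm : 0 < m * (m - 1) := mul_pos (by linarith) (by linarith)
  have hle : gg ≤ 2 * (p : ℝ) * ζ * m * (m + 1) := le_of_mul_le_mul_right hfin hmm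
  have hcast : ((Nat.card G : ℕ) : ℝ) ≤ ((Nat.card (Subgroup.center G) * p
      * Cfsg.charDegree (Λ : G → ℂ) * (p + 1) : ℕ) : ℝ) := by
    push_cast
    rw [← hgg, ← hζ, ← hm]
    have : ((p : ℝ) + 1) = 2 * (m + 1) := by rw [hpm]; ring
    rw [this]
    linarith
  exact_mod_cast hcast

end main

end Cfsg.Agent.Lib.Helper6.BH
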