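import Mathlib
import Cfsg.Agent.Lib.Helper6.BH9
import Cfsg.Agent.Lib.Helper6.ZqD
import Cfsg.Agent.Lib.Helper6.BlkVanish

/-!
# Brauer's theorem on groups with a faithful character of degree `(p - 1) / 2`: the end of the proof

From the order bound `|G| ≤ |Z(G)| p m (p + 1)` we get that `G / Z(G)` acts faithfully and
transitively on the `p + 1` Sylow `p`-subgroups with order `(p + 1) p m`, and the theorem on
transitive groups of degree `p + 1` finishes.
-/

set_option autoImplicit false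
set_option linter.unusedSectionVars false
set_option linter.style.haveILetI false

namespace Cfsg.Agent.Lib.Helper6.BH

open Cfsg.Agent.Lib.Helper6 Cfsg.Agent.Lib.Helper6.PB Cfsg.Agent.Lib.Helper6.BR

universe u

section final

variable {G : Type u} [Group G] [Finite G] {p : ℕ} [hp : Fact p.Prime] (P : Sylow p G)

local notation "𝐂" => Subgroup.centralizer ((P : Subgroup G) : Set G)
local notation "𝐍" => Subgroup.normalizer ((P : Subgroup G) : Set G)

/-- a central element has order prime to `p` -/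
theorem center_regular (hnn : ∀ H : Subgroup G, H.Normal → Nat.card H ≠ p) :
    ∀ y ∈ Subgroup.center G, ¬ p ∣ orderOf y := by
  intro y hy hdvd
  have ho : orderOf y ≠ 0 := (orderOf_pos y).ne'
  have hz : orderOf (y ^ (orderOf y / p)) = p := orderOf_pow_orderOf_div ho hdvd
  have hzc : y ^ (orderOf y / p) ∈ Subgroup.center G := Subgroup.pow_mem _ hy _
  have hle : Subgroup.zpowers (y ^ (orderOf y / p)) ≤ Subgroup.center G :=
    Subgroup.zpowers_le.mpr hzc
  have hnorm : (Subgroup.zpowers (y ^ (orderOf y / p))).Normal := by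
    refine ⟨fun n hn g => ?_⟩
    have hnc := hle hn
    rw [Subgroup.mem_center_iff] at hnc
    have h1 : g * n * g⁻¹ = n := by rw [hnc g, mul_inv_cancel_right]
    rw [h1]
    exact hn
  exact hnn _ hnorm (by rw [Nat.card_zpowers, hz])

theorem not_dvd_card_center (hZreg : ∀ y ∈ Subgroup.center G, ¬ p ∣ orderOf y) :
    ¬ p ∣ Nat.card (Subgroup.center G) := by
  intro h
  obtain ⟨x, hx⟩ := exists_prime_orderOf_dvd_card' (G := Subgroup.center G) p h
  apply hZreg (x : G) x.2
  rw [Subgroup.orderOf_coe, hx]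

/-- the counting argument: there are `p + 1` Sylow subgroups and the order is as expected -/
theorem sylow_counting (hP : Nat.card P = p) {m : ℕ} (hm : 0 < m)
    (hnn : ∀ H : Subgroup G, H.Normal → Nat.card H ≠ p)
    (hZreg : ∀ y ∈ Subgroup.center G, ¬ p ∣ orderOf y)
    (hrel : (𝐂).relIndex 𝐍 = m)
    (hbound : Nat.card G ≤ Nat.card (Subgroup.center G) * p * m * (p + 1)) :
    Nat.card (Sylow p G) = p + 1 ∧
      Nat.card G = (p + 1) * p * m * Nat.card (Subgroup.center G) := by
  classical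
  have hpp := hp.out
  have hp2 := hpp.two_le
  obtain ⟨ζ, hζ⟩ : ∃ ζ, ζ = Nat.card (Subgroup.center G) := ⟨_, rfl⟩
  rw [← hζ] at hbound ⊢
  have hζpos : 0 < ζ := by rw [hζ]; exact Nat.card_pos
  have hcop : Nat.Coprime p ζ := by
    rw [hζ]
    exact (Nat.Prime.coprime_iff_not_dvd hpp).2 (not_dvd_card_center hZreg)
  have h1 : p ∣ Nat.card 𝐂 := by
    have := Subgroup.card_dvd_of_le (P_le_C P hP)
    rwa [hP] at this
  have h2 : ζ ∣ Nat.card 𝐂 := by
    rw [hζ]
    exact Subgroup.card_dvd_of_le (Subgroup.center_le_centralizer _)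
  obtain ⟨t, ht⟩ := Nat.Coprime.mul_dvd_of_dvd_of_dvd hcop h1 h2
  have h3 : Nat.card 𝐂 * m = Nat.card 𝐍 := by
    rw [← hrel]
    haveI : Fintype G := Fintype.ofFinite G
    haveI : Fintype ↥𝐂 := Fintype.ofFinite _
    haveI : Fintype ↥𝐍 := Fintype.ofFinite _
    exact card_C_mul_relIndex
  have h4 : Nat.card (Sylow p G) * Nat.card 𝐍 = Nat.card G := by
    rw [Sylow.card_eq_index_normalizer P]
    exact Subgroup.index_mul_card _
  have h5 := card_sylow_modEq_one p G
  have hn1 : Nat.card (Sylow p G) ≠ 1 := by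
    intro h
    rw [Sylow.card_eq_index_normalizer P, Subgroup.index_eq_one] at h
    have h' : Subgroup.normalizer ((P : Subgroup G) : Set G) = ⊤ := h
    rw [Subgroup.normalizer_eq_top_iff] at h'
    exact hnn _ h' hP
  have hmod : Nat.card (Sylow p G) % p = 1 := by
    have h6 := h5
    unfold Nat.ModEq at h6
    rwa [Nat.mod_eq_of_lt (by omega : 1 < p)] at h6
  have hdiv := Nat.div_add_mod (Nat.card (Sylow p G)) p
  rw [hmod] at hdiv
  obtain ⟨n, hn⟩ : ∃ n, n = Nat.card (Sylow p G) := ⟨_, rfl⟩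
  rw [← hn] at hdiv hn1 h4 ⊢
  obtain ⟨k, hk⟩ : ∃ k, k = n / p := ⟨_, rfl⟩
  rw [← hk] at hdiv
  have hkey : n * t * (p * ζ * m) ≤ (p + 1) * (p * ζ * m) := by
    calc n * t * (p * ζ * m) = n * (p * ζ * t * m) := by ring
      _ = Nat.card G := by rw [← ht, h3, h4]
      _ ≤ ζ * p * m * (p + 1) := hbound
      _ = (p + 1) * (p * ζ * m) := by ring
  have hpos : 0 < p * ζ * m := Nat.mul_pos (Nat.mul_pos hpp.pos hζpos) hm
  have hnt : n * t ≤ p + 1 := Nat.le_of_mul_le_mul_right hkey hpos
  have hk1 : 1 ≤ k := by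
    rcases Nat.eq_zero_or_pos k with h0 | h0
    · exfalso
      rw [h0, mul_zero] at hdiv
      exact hn1 (by omega)
    · exact h0
  have htpos : 0 < t := by
    rcases Nat.eq_zero_or_pos t with h0 | h0
    · exfalso
      rw [h0, mul_zero] at ht
      exact (Nat.card_pos (α := ↥𝐂)).ne' ht
    · exact h0
  have hpk : p ≤ p * k := Nat.le_mul_of_pos_right p hk1
  have hge : p + 1 ≤ n := by omega
  have hnt2 : n ≤ n * t := Nat.le_mul_of_pos_right n htpos
  have hneq : n = p + 1 := by omega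
  have ht1 : t = 1 := by
    by_contra hne
    have h7 : 2 ≤ t := by omega
    have h8 : n * 2 ≤ n * t := Nat.mul_le_mul_left n h7
    omega
  refine ⟨hneq, ?_⟩
  rw [← h4, ← h3, ht, ht1, hneq]
  ring

/-- a normal subgroup not containing `P` is central -/
theorem normal_le_center (hP : Nat.card P = p)
    (hcen : ∀ c ∈ 𝐂, ¬ p ∣ orderOf c → c ∈ Subgroup.center G)
    (hdisj : ∀ K : Subgroup G, K.Normal → (∀ x ∈ (P : Subgroup G), x ∈ K → x = 1) → K ≤ 𝐂)
    (T : Subgroup G) (hT : T.Normal) (hnle : ¬ (P : Subgroup G) ≤ T) :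
    T ≤ Subgroup.center G := by
  have hd := disj_of_not_le P hP T hnle
  have hTC := hdisj T hT hd
  intro t ht
  apply hcen t (hTC ht)
  intro hdvd
  have ho : orderOf t ≠ 0 := (orderOf_pos t).ne'
  have hz : orderOf (t ^ (orderOf t / p)) = p := orderOf_pow_orderOf_div ho hdvd
  have hzT : t ^ (orderOf t / p) ∈ T := T.pow_mem ht _
  have hzN : t ^ (orderOf t / p) ∈ 𝐍 := C_le_N P (hTC hzT)
  have hzP := mem_P_of_pElement P hzN ⟨1, by rw [hz, pow_one]⟩
  have h1 := hd _ hzP hzT
  rw [h1, orderOf_one] at hz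
  exact hp.out.one_lt.ne hz

/-- the kernel of the action on the Sylow subgroups is the centre -/
theorem ker_toPermHom (hP : Nat.card P = p)
    (hcen : ∀ c ∈ 𝐂, ¬ p ∣ orderOf c → c ∈ Subgroup.center G)
    (hdisj : ∀ K : Subgroup G, K.Normal → (∀ x ∈ (P : Subgroup G), x ∈ K → x = 1) → K ≤ 𝐂)
    (hn : Nat.card (Sylow p G) ≠ 1) :
    (MulAction.toPermHom G (Sylow p G)).ker = Subgroup.center G := by
  apply le_antisymm
  · apply normal_le_center P hP hcen hdisj _ inferInstance
    intro hle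
    apply hn
    have hall : ∀ Q : Sylow p G, Q = P := by
      intro Q
      have h1 : (P : Subgroup G) ≤ Subgroup.normalizer ((Q : Subgroup G) : Set G) := by
        intro x hx
        have hx' := hle hx
        rw [MonoidHom.mem_ker] at hx'
        have h2 : x • Q = Q := by
          have h3 := congrArg (fun f : Equiv.Perm (Sylow p G) => f Q) hx'
          exact h3
        exact Sylow.smul_eq_iff_mem_normalizer.mp h2
      have h2 : (P : Subgroup G) ⊓ Subgroup.normalizer ((Q : Subgroup G) : Set G)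
          = (P : Subgroup G) ⊓ (Q : Subgroup G) := IsPGroup.inf_normalizer_sylow P.isPGroup' Q
      rw [inf_of_le_left h1] at h2
      have h3 : (P : Subgroup G) ≤ Q := left_eq_inf.mp h2
      have h4 := P.is_maximal' Q.isPGroup' h3
      exact Sylow.ext h4
    exact Nat.card_eq_one_iff_unique.mpr ⟨⟨fun a b => (hall a).trans (hall b).symm⟩, ⟨P⟩⟩
  · intro z hz
    rw [MonoidHom.mem_ker]
    apply Equiv.ext
    intro Q
    show z • Q = Q
    exact Sylow.smul_eq_iff_mem_normalizer.mpr (Subgroup.center_le_normalizer _ hz)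

/-- the final step -/
theorem final_iso (hP : Nat.card P = p) {m : ℕ} (hm2 : 2 ≤ m) (hmp : 2 * m + 1 = p)
    (hnn : ∀ H : Subgroup G, H.Normal → Nat.card H ≠ p)
    (hcen : ∀ c ∈ 𝐂, ¬ p ∣ orderOf c → c ∈ Subgroup.center G)
    (hdisj : ∀ K : Subgroup G, K.Normal → (∀ x ∈ (P : Subgroup G), x ∈ K → x = 1) → K ≤ 𝐂)
    (hrel : (𝐂).relIndex 𝐍 = m)
    (hbound : Nat.card G ≤ Nat.card (Subgroup.center G) * p * m * (p + 1)) :
    Nonempty ((G ⧸ Subgroup.center G) ≃*
      Matrix.ProjectiveSpecialLinearGroup (Fin 2) (ZMod p)) := by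
  classical
  have hpp := hp.out
  have hp2 := hpp.two_le
  have hZreg := center_regular (p := p) hnn
  obtain ⟨hnp, hG⟩ := sylow_counting P hP (by omega) hnn hZreg hrel hbound
  have hn1 : Nat.card (Sylow p G) ≠ 1 := by rw [hnp]; omega
  have hker := ker_toPermHom P hP hcen hdisj hn1
  obtain ⟨φ, hφ⟩ : ∃ φ : G →* Equiv.Perm (Sylow p G), φ = MulAction.toPermHom G (Sylow p G) :=
    ⟨_, rfl⟩
  have hφdef : ∀ (g : G) (Q : Sylow p G), φ g Q = g • Q := by
    intro g Q
    rw [hφ]
    rfl
  have hker' : φ.ker = Subgroup.center G := by rw [hφ]; exact hker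
  haveI : Fintype (Sylow p G) := Fintype.ofFinite _
  haveI : Fintype φ.range := Fintype.ofFinite _
  have hΩ : Fintype.card (Sylow p G) = p + 1 := by rw [← Nat.card_eq_fintype_card, hnp]
  have hfaith : ∀ g : φ.range, (∀ c : Sylow p G, g • c = c) → g = 1 := by
    intro g hg
    apply Subtype.ext
    apply Equiv.ext
    intro c
    exact hg c
  haveI : MulAction.IsPretransitive φ.range (Sylow p G) := by
    refine ⟨fun a b => ?_⟩
    obtain ⟨g, hg⟩ := MulAction.exists_smul_eq G a b
    refine ⟨⟨φ g, ⟨g, rfl⟩⟩, ?_⟩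
    show (φ g) a = b
    rw [hφdef]
    exact hg
  have hζpos : 0 < Nat.card (Subgroup.center G) := Nat.card_pos
  have hcardR : Nat.card φ.range = (p + 1) * p * m := by
    have h1 := Subgroup.index_ker φ
    have h2 := Subgroup.index_mul_card φ.ker
    rw [h1, hker', hG] at h2
    exact Nat.eq_of_mul_eq_mul_right hζpos h2
  obtain ⟨x, a, h⟩ := Zq.exists_PD hpp hΩ hfaith hcardR (by omega : m < p)
  have hZ5 : ∀ N : Subgroup φ.range, N.Normal → MulAction.IsPretransitive N (Sylow p G) →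
      ∃ c : Sylow p G, MulAction.stabilizer N c ≠ ⊥ := by
    intro N hN hNt
    by_cases hle : (P : Subgroup G) ≤ N.comap φ.rangeRestrict
    · obtain ⟨y, hy, hoy⟩ := exists_gen P hP
      have hyP : y ∈ (P : Subgroup G) := by rw [hy]; exact Subgroup.mem_zpowers y
      have hyN : φ.rangeRestrict y ∈ N := hle hyP
      refine ⟨P, ?_⟩
      intro hbot
      have hmem : (⟨φ.rangeRestrict y, hyN⟩ : N) ∈ MulAction.stabilizer N P := by
        rw [MulAction.mem_stabilizer_iff]
        show (φ y) P = P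
        rw [hφdef]
        exact Sylow.smul_eq_iff_mem_normalizer.mpr (P_le_N P hyP)
      rw [hbot, Subgroup.mem_bot] at hmem
      have h1 : φ.rangeRestrict y = 1 := congrArg Subtype.val hmem
      have h2 : φ y = 1 := congrArg Subtype.val h1
      have h3 : y ∈ Subgroup.center G := by rw [← hker']; exact MonoidHom.mem_ker.mpr h2
      exact hZreg y h3 (by rw [hoy])
    · have hTc : N.comap φ.rangeRestrict ≤ Subgroup.center G :=
        normal_le_center P hP hcen hdisj _ (hN.comap _) hle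
      have hNbot : ∀ n : N, n = 1 := by
        intro n
        obtain ⟨g, hg⟩ := φ.rangeRestrict_surjective (n : φ.range)
        have hgT : g ∈ N.comap φ.rangeRestrict := by
          rw [Subgroup.mem_comap, hg]
          exact n.2
        have hgk : g ∈ φ.ker := by rw [hker']; exact hTc hgT
        apply Subtype.ext
        rw [← hg]
        apply Subtype.ext
        exact MonoidHom.mem_ker.mp hgk
      exfalso
      obtain ⟨b, hb⟩ : ∃ b : Sylow p G, b ≠ P :=
        Fintype.exists_ne_of_one_lt_card (by rw [hΩ]; omega) P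
      obtain ⟨n, hn⟩ := MulAction.exists_smul_eq N P b
      rw [hNbot n, one_smul] at hn
      exact hb hn.symm
  obtain ⟨_, ⟨e⟩⟩ := h.psl_case hm2 (by omega) hZ5
  exact ⟨(QuotientGroup.quotientMulEquivOfEq hker'.symm).trans
    ((QuotientGroup.quotientKerEquivRange φ).trans e)⟩

end final

section main

variable {G : Type u} [Group G] [Finite G] {p : ℕ} [hp : Fact p.Prime]

/-- Brauer's theorem, main case `2 ≤ χ(1)` -/
theorem brauer_half_main (hdiv : p ∣ Nat.card G) (hsq : ¬ p ^ 2 ∣ Nat.card G)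
    (hnn : ∀ H : Subgroup G, H.Normal → Nat.card H ≠ p) {χ : G → ℂ}
    (hχ : Cfsg.IsCharacter G χ) (hf : ∀ g, χ g = χ 1 → g = 1)
    (hdeg : 2 * Cfsg.charDegree χ + 1 = p) (hm2 : 2 ≤ Cfsg.charDegree χ) :
    Nonempty ((G ⧸ Subgroup.center G) ≃*
      Matrix.ProjectiveSpecialLinearGroup (Fin 2) (ZMod p)) := by
  classical
  obtain ⟨P, hP⟩ := exists_sylow_card hdiv hsq
  have hirr := isIrr_of_half hdiv hsq hnn hχ hf hdeg
  obtain ⟨Λ, hΛ⟩ : ∃ Λ : Cfsg.IrrCharacter G, (Λ : G → ℂ) = χ := ⟨⟨χ, hirr⟩, rfl⟩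
  haveI : Fintype G := Fintype.ofFinite G
  haveI : Fintype ↥(Subgroup.centralizer ((P : Subgroup G) : Set G)) := Fintype.ofFinite _
  haveI : Fintype ↥(Subgroup.normalizer ((P : Subgroup G) : Set G)) := Fintype.ofFinite _
  obtain ⟨M, hM⟩ := exists_isPModular p
  have hcen0 := regular_central hdiv hsq hnn hχ hf hdeg P hP
  have hcen : ∀ c : ↥(Subgroup.centralizer ((P : Subgroup G) : Set G)), ¬ p ∣ orderOf c →
      (c : G) ∈ Subgroup.center G := by
    intro c hc
    apply hcen0 c c.2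
    rwa [Subgroup.orderOf_coe]
  have hZreg := center_regular (p := p) hnn
  have hfΛ : ∀ g, (Λ : G → ℂ) g = (Λ : G → ℂ) 1 → g = 1 := by rw [hΛ]; exact hf
  have hdegΛ : 2 * Cfsg.charDegree (Λ : G → ℂ) + 1 = p := by rw [hΛ]; exact hdeg
  have hd2Λ : 2 ≤ Cfsg.charDegree (Λ : G → ℂ) := by rw [hΛ]; exact hm2
  obtain ⟨D⟩ := exists_small' hP hM Λ (le_of_eq hdegΛ) (not_const_of_faithful hP Λ hfΛ)
  obtain ⟨K₀⟩ := (prin P hM).exists_str hP hM isPBlock_principalBlock (prin_defect P hM)
    (prin_induced P hM)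
  have hJ := card_J_small hP hM hcen hdegΛ D
  obtain ⟨j₁, hj₁, -⟩ := (Nat.card_eq_two_iff' D.j).mp hJ
  have hbound := order_bound hP hM hcen hZreg hnn hfΛ hdegΛ hd2Λ D K₀ hj₁
  have hrel := relIndex_eq_degree hP hM hcen D (by omega)
  exact final_iso P hP hd2Λ hdegΛ hnn hcen0
    (fun K hK hd => le_centralizer_of_disj hsq P hP hχ hf hdeg K hK hd) hrel hbound

end main

end Cfsg.Agent.Lib.Helper6.BH
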