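import Mathlib
import Cfsg.Agent.Lib.Helper6.BH10

/-!
# Brauer's theorem on characters of degree `p - 2`: the local analysis
-/

set_option autoImplicit false
set_option linter.unusedSectionVars false
set_option linter.unusedVariables false
set_option linter.style.longLine false
set_option maxHeartbeats 1600000

namespace Cfsg.Agent.Lib.Helper6.BG

open Cfsg.Agent.Lib.Helper6 Cfsg.Agent.Lib.Helper6.PB Cfsg.Agent.Lib.Helper6.BR
  Cfsg.Agent.Lib.Helper6.BH
open scoped ComplexConjugate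

theorem arith_local {p f e m : ℕ} (hp5 : 5 < p) (hf : 1 ≤ f) (he : 1 ≤ e) (hem : e ∣ m)
    (hm1 : 1 ≤ m) (hmp : m ∣ p - 1) (hle : f * (p - e) ≤ p - 2)
    (hmod : ((m * f : ℕ) : ℤ) ≡ 2 [ZMOD p]) :
    (f = 1 ∧ e = 2 ∧ m = 2) ∨ (f = p - 2 ∧ e = p - 1 ∧ m = p - 1) := by
  have hmle : m ≤ p - 1 := Nat.le_of_dvd (by omega) hmp
  have hele : e ≤ m := Nat.le_of_dvd hm1 hem
  have hdvd : (p : ℤ) ∣ 2 - ((m * f : ℕ) : ℤ) := Int.modEq_iff_dvd.mp hmod
  rcases Nat.eq_or_lt_of_le hf with h1 | h1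
  · left
    rw [← h1, mul_one] at hdvd
    obtain ⟨c, hc⟩ := hdvd
    have hm2 : m = 2 := by
      have h2 : (m : ℤ) ≤ (p : ℤ) - 1 := by omega
      have h3 : (1 : ℤ) ≤ m := by exact_mod_cast hm1
      have hp0 : (5 : ℤ) < p := by exact_mod_cast hp5
      have hc0 : c = 0 := by
        by_contra hne
        rcases lt_or_gt_of_ne hne with h | h
        · have : c ≤ -1 := by omega
          nlinarith
        · have : 1 ≤ c := by omega
          nlinarith
      rw [hc0, mul_zero] at hc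
      omega
    refine ⟨h1.symm, ?_, hm2⟩
    rw [← h1, one_mul] at hle
    rw [hm2] at hem hele
    omega
  · right
    have h2 : 2 * (p - e) ≤ p - 2 := le_trans (Nat.mul_le_mul_right _ h1) hle
    have h2e : p + 2 ≤ 2 * e := by omega
    obtain ⟨k, hk⟩ := hem
    have hk1 : k = 1 := by
      rcases Nat.lt_or_ge k 2 with h | h
      · rcases Nat.eq_zero_or_pos k with h0 | h0
        · rw [h0, mul_zero] at hk; omega
        · omega
      · exfalso
        have : 2 * e ≤ m := by rw [hk]; nlinarith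
        omega
    rw [hk1, mul_one] at hk
    obtain ⟨k', hk'⟩ := hmp
    have hk'1 : k' = 1 := by
      rcases Nat.lt_or_ge k' 2 with h | h
      · rcases Nat.eq_zero_or_pos k' with h0 | h0
        · rw [h0, mul_zero] at hk'; omega
        · omega
      · exfalso
        have : 2 * m ≤ p - 1 := by rw [hk']; nlinarith
        omega
    rw [hk'1, mul_one] at hk'
    have hme : m = p - 1 := hk'.symm
    have hee : e = p - 1 := by omega
    refine ⟨?_, hee, hme⟩
    have hpe : p - e = 1 := by omega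
    rw [hpe, mul_one] at hle
    obtain ⟨c, hc⟩ := hdvd
    push_cast at hc
    have hmz : (m : ℤ) = (p : ℤ) - 1 := by omega
    have h3 : (f : ℤ) + 2 = p * (c + f) := by linear_combination hc + (f : ℤ) * hmz
    have hfz : (f : ℤ) + 2 ≤ p := by omega
    have hf2 : (4 : ℤ) ≤ (f : ℤ) + 2 := by omega
    have hp0 : (5 : ℤ) < p := by exact_mod_cast hp5
    have hcf : c + f = 1 := by
      by_contra hne
      rcases lt_or_gt_of_ne hne with h | h
      · have : c + f ≤ 0 := by omega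
        nlinarith
      · have : 2 ≤ c + f := by omega
        nlinarith
    rw [hcf, mul_one] at h3
    omega

section

variable {G : Type*} [Group G] [Fintype G] [DecidableEq G] {p : ℕ} [hp : Fact p.Prime]
variable {P : Sylow p G}
variable [Fintype ↥(Subgroup.centralizer ((P : Subgroup G) : Set G))]
variable [Fintype ↥(Subgroup.normalizer ((P : Subgroup G) : Set G))]
variable {M : Ideal Cfsg.AlgInt}

local notation "𝐂" => Subgroup.centralizer ((P : Subgroup G) : Set G)
local notation "𝐍" => Subgroup.normalizer ((P : Subgroup G) : Set G)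

/-- the index of the centralizer in the normalizer divides `p - 1` -/
theorem relIndex_dvd (hP : Nat.card P = p) (hM : Cfsg.IsPModular p M) :
    (𝐂).relIndex 𝐍 ∣ p - 1 := by
  have h := (prin P hM).card_J_mul_e hP hM
  rw [prin_e P hM] at h
  exact ⟨Nat.card (prin P hM).J, by rw [← h]; ring⟩

theorem sum_aco_Y {L : Loc M P} {B : Set (Cfsg.IrrCharacter G)} (K : L.Str B) [Fintype L.J]
    (j : L.J) : ∑ i : L.J, aco P L.θ (L.rep i) (K.Λ j) = K.δ (K.Λ j) := by
  classical
  rw [Finset.sum_eq_single j]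
  · exact K.diag j
  · intro i _ hij
    exact K.off j i (Ne.symm hij)
  · intro h
    exact absurd (Finset.mem_univ j) h

theorem sum_aco_S {L : Loc M P} {B : Set (Cfsg.IrrCharacter G)} (K : L.Str B) [Fintype L.J]
    {χ : Cfsg.IrrCharacter G} (hχ : χ ∈ K.S) :
    ∑ i : L.J, aco P L.θ (L.rep i) χ = (Fintype.card L.J : ℤ) * K.δ χ := by
  rw [Finset.sum_congr rfl (fun j _ => K.rest χ hχ.1 hχ.2 j), Finset.sum_const,
    Finset.card_univ, nsmul_eq_mul]

/-- the degree dominates the part of the restriction inside the block of the centralizer -/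
theorem block_part_le (hP : Nat.card P = p) (hM : Cfsg.IsPModular p M) {L : Loc M P}
    {B : Set (Cfsg.IrrCharacter G)} (hB : Cfsg.IsPBlock M B)
    (hBP : Cfsg.IsDefectGroup p M B (P : Subgroup G))
    (hind : Cfsg.IsInducedBlock M 𝐂 L.b B)
    [Fintype (Cfsg.IrrCharacter 𝐂)] [DecidablePred (· ∈ L.b)] (χ : Cfsg.IrrCharacter G) :
    (Cfsg.charDegree (L.θ : 𝐂 → ℂ) : ℤ) * ∑ ξ ∈ Finset.univ.filter (· ∈ L.b), (mlt P χ ξ : ℤ)
      ≤ (Cfsg.charDegree (χ : G → ℂ) : ℤ) := by
  rw [degree_eq_sum (P := P) χ, Finset.mul_sum]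
  calc ∑ ξ ∈ Finset.univ.filter (· ∈ L.b), (Cfsg.charDegree (L.θ : 𝐂 → ℂ) : ℤ) * (mlt P χ ξ : ℤ)
      = ∑ ξ ∈ Finset.univ.filter (· ∈ L.b),
          (Cfsg.charDegree (ξ : 𝐂 → ℂ) : ℤ) * (mlt P χ ξ : ℤ) := by
        apply Finset.sum_congr rfl
        intro ξ hξ
        rw [degree_mem_b hP hM hB hBP hind (Finset.mem_filter.mp hξ).2]
    _ ≤ ∑ ξ : Cfsg.IrrCharacter 𝐂, (Cfsg.charDegree (ξ : 𝐂 → ℂ) : ℤ) * (mlt P χ ξ : ℤ) := by
        apply Finset.sum_le_sum_of_subset_of_nonneg (Finset.filter_subset _ _)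
        intro ξ _ _
        positivity

/-- the local structure forced by a faithful irreducible character of degree `p - 2` -/
theorem local_main (hP : Nat.card P = p) (hM : Cfsg.IsPModular p M) (hp5 : 5 < p)
    (hnn : ¬ (P : Subgroup G).Normal)
    (ζ : Cfsg.IrrCharacter G) (hf : ∀ g, (ζ : G → ℂ) g = (ζ : G → ℂ) 1 → g = 1)
    (hdeg : Cfsg.charDegree (ζ : G → ℂ) = p - 2)
    {L : Loc M P} {B : Set (Cfsg.IrrCharacter G)} (hB : Cfsg.IsPBlock M B)
    (hBP : Cfsg.IsDefectGroup p M B (P : Subgroup G))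
    (hind : Cfsg.IsInducedBlock M 𝐂 L.b B) (K : L.Str B) (hζ : ζ ∈ B) :
    ∃ j : L.J, K.Λ j = ζ ∧ K.δ (K.Λ j) = 1 ∧ L.e = 2 ∧ (𝐂).relIndex 𝐍 = 2 ∧
      Cfsg.charDegree (L.θ : 𝐂 → ℂ) = 1 ∧ mlt P ζ L.θ = 1 := by
  classical
  have : Fintype (Cfsg.IrrCharacter 𝐂) := Fintype.ofFinite _
  have : Fintype L.J := Fintype.ofFinite _
  have hnk := not_const_of_faithful hP ζ hf
  have hp1 : 1 < p := hp.out.one_lt
  have hdp : Cfsg.charDegree (ζ : G → ℂ) < p := by rw [hdeg]; omega
  have hfpos : 0 < Cfsg.charDegree (L.θ : 𝐂 → ℂ) := IsIrrCharacter.charDegree_pos L.θ.2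
  have hepos := L.e_pos
  have hem := L.e_dvd_relIndex hP hM
  have hmp := relIndex_dvd (P := P) hP hM
  have hm1 : 1 ≤ (𝐂).relIndex 𝐍 := by
    rcases Nat.eq_zero_or_pos ((𝐂).relIndex 𝐍) with h | h
    · rw [h] at hmp
      have := Nat.eq_zero_of_zero_dvd hmp
      omega
    · exact h
  have hJe := L.card_J_mul_e hP hM
  rw [Nat.card_eq_fintype_card] at hJe
  have hJez : (Fintype.card L.J : ℤ) * (L.e : ℤ) = (p : ℤ) - 1 := by
    have : ((Fintype.card L.J * L.e : ℕ) : ℤ) = ((p - 1 : ℕ) : ℤ) := by rw [hJe]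
    push_cast [Nat.cast_sub hp1.le] at this
    exact this
  have hele : L.e ≤ p - 1 := by
    have := Nat.le_of_dvd hm1 hem
    have := Nat.le_of_dvd (by omega) hmp
    omega
  have hdegz : (Cfsg.charDegree (ζ : G → ℂ) : ℤ) = (p : ℤ) - 2 := by
    rw [hdeg]; push_cast [Nat.cast_sub (by omega : 2 ≤ p)]; ring
  have hblock := block_part_le hP hM hB hBP hind ζ
  have hsmb := L.sum_mlt_block hP hM ζ
  have horb := card_orb_theta L hP hM
  have hdiv : (𝐂).relIndex 𝐍 / L.e = (orb L.θ).card :=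
    Nat.div_eq_of_eq_mul_left hepos horb.symm
  have hfz : (1 : ℤ) ≤ (Cfsg.charDegree (L.θ : 𝐂 → ℂ) : ℤ) := by exact_mod_cast hfpos
  have hez : (L.e : ℤ) ≤ (p : ℤ) - 1 := by omega
  have hez1 : (1 : ℤ) ≤ (L.e : ℤ) := by exact_mod_cast hepos
  have hpz : (5 : ℤ) < (p : ℤ) := by exact_mod_cast hp5
  rw [K.union_eq] at hζ
  rcases hζ with hS | ⟨j, hj⟩
  · exfalso
    obtain ⟨j₀⟩ := L.nonempty_J hP hM
    rcases K.sgn ζ with hδ | hδ
    · -- sign `+`: the restriction is the orbit of `θ`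
      apply hnk
      have h1 : 1 ≤ mlt P ζ L.θ := by
        have := K.aco_S hS (L.rep_mem j₀)
        rw [hδ] at this
        unfold aco at this
        omega
      apply const_of_orb_theta hP hM hB hBP hind ζ h1 hdp
      have := K.degree_S hP hM hB hBP hind hS
      rw [hδ, one_mul, hdiv] at this
      exact this
    · -- sign `-`: the degree is too large
      rw [sum_aco_S K hS, hδ] at hsmb
      rw [hsmb, hdegz] at hblock
      have hm0 : (0 : ℤ) ≤ (mlt P ζ L.θ : ℤ) := by positivity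
      have hJ1 : (L.e : ℤ) * ((Fintype.card L.J : ℤ) * -1) = -((p : ℤ) - 1) := by
        rw [← hJez]; ring
      rw [hJ1] at hblock
      have h2 : (p : ℤ) - 1 ≤ (p : ℤ) * (mlt P ζ L.θ : ℤ) - -((p : ℤ) - 1) := by nlinarith
      have h3 := mul_le_mul_of_nonneg_right hfz (by linarith :
        (0 : ℤ) ≤ (p : ℤ) * (mlt P ζ L.θ : ℤ) - -((p : ℤ) - 1))
      linarith
  · rcases K.sgn (K.Λ j) with hδ | hδ
    · -- sign `+`
      have hdiag := K.diag j
      rw [hδ] at hdiag
      unfold aco at hdiag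
      rw [hj] at hdiag
      have hc1 : 1 ≤ mlt P ζ L.θ := by omega
      have hsum := sum_aco_Y K j
      rw [hδ, hj] at hsum
      rw [hsum, mul_one] at hsmb
      rw [hsmb, hdegz] at hblock
      have hcz : (1 : ℤ) ≤ (mlt P ζ L.θ : ℤ) := by exact_mod_cast hc1
      have hc : mlt P ζ L.θ = 1 := by
        by_contra hne
        have h2 : (2 : ℤ) ≤ (mlt P ζ L.θ : ℤ) := by
          have : 2 ≤ mlt P ζ L.θ := by omega
          exact_mod_cast this
        have h3 : (p : ℤ) + 1 ≤ (p : ℤ) * (mlt P ζ L.θ : ℤ) - (L.e : ℤ) := by nlinarith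
        have h4 := mul_le_mul_of_nonneg_right hfz (by linarith :
          (0 : ℤ) ≤ (p : ℤ) * (mlt P ζ L.θ : ℤ) - (L.e : ℤ))
        linarith
      rw [hc] at hblock
      simp only [Nat.cast_one, mul_one] at hblock
      have hle : Cfsg.charDegree (L.θ : 𝐂 → ℂ) * (p - L.e) ≤ p - 2 := by
        have h3 : ((Cfsg.charDegree (L.θ : 𝐂 → ℂ) * (p - L.e) : ℕ) : ℤ) ≤ ((p - 2 : ℕ) : ℤ) := by
          push_cast [Nat.cast_sub (by omega : L.e ≤ p), Nat.cast_sub (by omega : 2 ≤ p)]
          linarith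
        exact_mod_cast h3
      have hY := K.degree_Y hP hM hB hBP hind j
      rw [hδ, hj, hdegz] at hY
      have hmod : (((𝐂).relIndex 𝐍 * Cfsg.charDegree (L.θ : 𝐂 → ℂ) : ℕ) : ℤ) ≡ 2 [ZMOD p] := by
        have h4 := hY.neg
        have h5 : -((p : ℤ) - 2) ≡ 2 [ZMOD p] := by
          apply Int.modEq_iff_dvd.mpr
          exact ⟨1, by ring⟩
        have h6 : - (-(1 : ℤ) * (((𝐂).relIndex 𝐍 * Cfsg.charDegree (L.θ : 𝐂 → ℂ) : ℕ) : ℤ))
            = (((𝐂).relIndex 𝐍 * Cfsg.charDegree (L.θ : 𝐂 → ℂ) : ℕ) : ℤ) := by ring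
        rw [h6] at h4
        exact h4.symm.trans h5
      rcases arith_local hp5 hfpos hepos hem hm1 hmp hle hmod with ⟨h1, h2, h3⟩ | ⟨h1, h2, h3⟩
      · exact ⟨j, hj, hδ, h2, h3, h1, hc⟩
      · exfalso
        apply hnk
        apply const_of_orb_theta hP hM hB hBP hind ζ hc1 hdp
        rw [← hdiv, h3, h2, Nat.div_self (by omega), one_mul, h1, hdeg]
    · -- sign `-`
      exfalso
      have hd' : Cfsg.charDegree (K.Λ j : G → ℂ) < p := by rw [hj]; exact hdp
      obtain ⟨h1, h2⟩ := mlt_of_neg hP hM hB hBP hind K j hδ hd'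
      rw [hj, hdeg] at h1
      -- `m ∣ p - 1` and `m ∣ p - 2`
      have hm_one : (𝐂).relIndex 𝐍 = 1 := by
        have hd2 : (𝐂).relIndex 𝐍 ∣ p - 2 := ⟨_, h1⟩
        have hd1 : (𝐂).relIndex 𝐍 ∣ (p - 1) - (p - 2) := Nat.dvd_sub hmp hd2
        have : (p - 1) - (p - 2) = 1 := by omega
        rw [this] at hd1
        exact Nat.dvd_one.mp hd1
      have horb1 : orb (L.rep j) = {L.rep j} := by
        have hcard := card_orb_star L hP hM (L.rep_mem j)
        rw [hm_one] at hcard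
        obtain ⟨a, ha⟩ := Finset.card_eq_one.mp hcard
        have := self_mem_orb (P := P) (L.rep j)
        rw [ha, Finset.mem_singleton] at this
        rw [ha, this]
      have hval : ∀ c : 𝐂, (ζ : G → ℂ) c = (L.rep j : 𝐂 → ℂ) c := by
        intro c
        rw [restrict_eq_sum (P := P) ζ c, Finset.sum_eq_single (L.rep j)]
        · rw [← hj, h2, horb1, if_pos (Finset.mem_singleton_self _)]; simp
        · intro ξ _ hne
          rw [← hj, h2, horb1, if_neg (by rwa [Finset.mem_singleton])]; simp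
        · intro h; exact absurd (Finset.mem_univ _) h
      apply hnn
      have hcen : (P : Subgroup G) ≤ Subgroup.center G := by
        intro x hx
        apply Cfsg.Agent.Lib.Helper3.Prim2.mem_center_of_norm_eq ζ.2 hf
        have hxC : x ∈ 𝐂 := P_le_C P hP hx
        have e1 := hval ⟨x, hxC⟩
        have e2 := hval 1
        have e3 := mul_conj_self_of_mem_P hP (L.rep j) (y := ⟨x, hxC⟩) hx
        have e2' : (ζ : G → ℂ) 1 = (L.rep j : 𝐂 → ℂ) 1 := e2
        have e1' : (ζ : G → ℂ) x = (L.rep j : 𝐂 → ℂ) ⟨x, hxC⟩ := e1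
        rw [e1', e2']
        have h5 : ‖(L.rep j : 𝐂 → ℂ) ⟨x, hxC⟩‖ ^ 2 = ‖(L.rep j : 𝐂 → ℂ) 1‖ ^ 2 := by
          have h6 := congrArg (fun z : ℂ => ‖z‖) e3
          simp only [norm_mul, RCLike.norm_conj] at h6
          rw [pow_two, pow_two]
          exact h6
        exact (sq_eq_sq₀ (norm_nonneg _) (norm_nonneg _)).mp h5
      refine ⟨fun n hn g => ?_⟩
      have := (Subgroup.mem_center_iff.mp (hcen hn)) g
      rw [this, mul_inv_cancel_right]
      exact hn

end

end Cfsg.Agent.Lib.Helper6.BG
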