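import Mathlib
import Cfsg.Agent.Lib.Helper6.BG1

/-!
# Brauer's theorem on characters of degree `p - 2`: the uniform structure of the blocks of
full defect when the `p`-regular part of the centralizer is central and `|N : C| = 2`
-/

set_option autoImplicit false
set_option linter.unusedSectionVars false
set_option linter.unusedVariables false
set_option linter.style.longLine false
set_option maxHeartbeats 1600000

namespace Cfsg.Agent.Lib.Helper6.BG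

open Cfsg.Agent.Lib.Helper6 Cfsg.Agent.Lib.Helper6.PB Cfsg.Agent.Lib.Helper6.BR
  Cfsg.Agent.Lib.Helper6.BH
open scoped ComplexConjugate

variable {G : Type*} [Group G] [Fintype G] [DecidableEq G] {p : ℕ} [hp : Fact p.Prime]
variable {P : Sylow p G}
variable [Fintype ↥(Subgroup.centralizer ((P : Subgroup G) : Set G))]
variable [Fintype ↥(Subgroup.normalizer ((P : Subgroup G) : Set G))]
variable {M : Ideal Cfsg.AlgInt}

local notation "𝐂" => Subgroup.centralizer ((P : Subgroup G) : Set G)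
local notation "𝐍" => Subgroup.normalizer ((P : Subgroup G) : Set G)

theorem normal_card_ne (hP : Nat.card P = p) (hnn : ¬ (P : Subgroup G).Normal) :
    ∀ H : Subgroup G, H.Normal → Nat.card H ≠ p := by
  intro H hH hcard
  apply hnn
  have hpg : IsPGroup p H := IsPGroup.of_card (n := 1) (by rw [hcard, pow_one])
  have hHP : H ≤ (P : Subgroup G) := hpg.le_sylow_of_normal P
  have : H = (P : Subgroup G) := Subgroup.eq_of_le_of_card_ge hHP (by rw [hP, hcard])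
  rw [← this]; exact hH

/-- if the part of the restriction inside the block of the centralizer exhausts the degree,
then there are no constituents outside that block -/
theorem mlt_zero_of_not_mem (hP : Nat.card P = p) (hM : Cfsg.IsPModular p M) {L : Loc M P}
    {B : Set (Cfsg.IrrCharacter G)} (hB : Cfsg.IsPBlock M B)
    (hBP : Cfsg.IsDefectGroup p M B (P : Subgroup G))
    (hind : Cfsg.IsInducedBlock M 𝐂 L.b B)
    [Fintype (Cfsg.IrrCharacter 𝐂)] [DecidablePred (· ∈ L.b)] (χ : Cfsg.IrrCharacter G)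
    (heq : (Cfsg.charDegree (χ : G → ℂ) : ℤ) = (Cfsg.charDegree (L.θ : 𝐂 → ℂ) : ℤ) *
      ∑ ξ ∈ Finset.univ.filter (· ∈ L.b), (mlt P χ ξ : ℤ))
    (ξ : Cfsg.IrrCharacter 𝐂) (hξ : ξ ∉ L.b) : mlt P χ ξ = 0 := by
  have h1 := degree_eq_sum (P := P) χ
  have h2 : ∑ ξ ∈ Finset.univ.filter (· ∈ L.b),
      (Cfsg.charDegree (ξ : 𝐂 → ℂ) : ℤ) * (mlt P χ ξ : ℤ)
      = (Cfsg.charDegree (L.θ : 𝐂 → ℂ) : ℤ) *
        ∑ ξ ∈ Finset.univ.filter (· ∈ L.b), (mlt P χ ξ : ℤ) := by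
    rw [Finset.mul_sum]
    apply Finset.sum_congr rfl
    intro ξ hξ
    rw [degree_mem_b hP hM hB hBP hind (Finset.mem_filter.mp hξ).2]
  have h3 := Finset.sum_filter_add_sum_filter_not Finset.univ (· ∈ L.b)
    (fun ξ : Cfsg.IrrCharacter 𝐂 => (Cfsg.charDegree (ξ : 𝐂 → ℂ) : ℤ) * (mlt P χ ξ : ℤ))
  have h4 : ∑ ξ ∈ Finset.univ.filter (fun ξ => ¬ ξ ∈ L.b),
      (Cfsg.charDegree (ξ : 𝐂 → ℂ) : ℤ) * (mlt P χ ξ : ℤ) = 0 := by linarith
  have h5 := (Finset.sum_eq_zero_iff_of_nonneg (fun ξ _ => by positivity)).mp h4 ξ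
    (Finset.mem_filter.mpr ⟨Finset.mem_univ _, hξ⟩)
  have hpos : 0 < Cfsg.charDegree (ξ : 𝐂 → ℂ) := IsIrrCharacter.charDegree_pos ξ.2
  have h6 : (mlt P χ ξ : ℤ) = 0 := by
    rcases mul_eq_zero.mp h5 with h | h
    · exfalso
      have : (0 : ℤ) < (Cfsg.charDegree (ξ : 𝐂 → ℂ) : ℤ) := by exact_mod_cast hpos
      omega
    · exact h
  exact_mod_cast h6

/-- the `p`-regular elements of the centralizer are central -/
theorem regular_central (hP : Nat.card P = p) (hM : Cfsg.IsPModular p M) (hp5 : 5 < p)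
    (hnn : ¬ (P : Subgroup G).Normal)
    (ζ : Cfsg.IrrCharacter G) (hf : ∀ g, (ζ : G → ℂ) g = (ζ : G → ℂ) 1 → g = 1)
    (hdeg : Cfsg.charDegree (ζ : G → ℂ) = p - 2) :
    ∀ c : 𝐂, ¬ p ∣ orderOf c → (c : G) ∈ Subgroup.center G := by
  classical
  have : Fintype (Cfsg.IrrCharacter 𝐂) := Fintype.ofFinite _
  intro c hc
  have hpd : ¬ p ∣ Cfsg.charDegree (ζ : G → ℂ) := by
    rw [hdeg]
    apply Nat.not_dvd_of_pos_of_lt <;> omega
  have hB : Cfsg.IsPBlock M (Cfsg.blockOf M (ζ : G → ℂ)) := ⟨ζ, rfl⟩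
  have hBP := isDefectGroup_blockOf P hP hM ζ hpd
  obtain ⟨L, hind⟩ := exists_loc P hP hM hB hBP
  obtain ⟨K⟩ := L.exists_str hP hM hB hBP hind
  have : Fintype L.J := Fintype.ofFinite _
  have hζB : ζ ∈ Cfsg.blockOf M (ζ : G → ℂ) := sameBlock_refl hM _
  obtain ⟨j, hj, hδ, he, hrel, hθ1, hmlt⟩ :=
    local_main hP hM hp5 hnn ζ hf hdeg hB hBP hind K hζB
  have hsmb := L.sum_mlt_block hP hM ζ
  have hsum := sum_aco_Y K j
  rw [hδ, hj] at hsum
  rw [hsum, mul_one, hmlt, he] at hsmb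
  have hdegz : (Cfsg.charDegree (ζ : G → ℂ) : ℤ) = (p : ℤ) - 2 := by
    rw [hdeg]; push_cast [Nat.cast_sub (by omega : 2 ≤ p)]; ring
  have hout := mlt_zero_of_not_mem hP hM hB hBP hind ζ (by
    rw [hsmb, hθ1, hdegz]; push_cast; ring)
  have hval : (ζ : G → ℂ) c = ((p : ℂ) - 2) * (L.θ : 𝐂 → ℂ) c := by
    rw [restrict_eq_sum (P := P) ζ c]
    have h3 := Finset.sum_filter_add_sum_filter_not Finset.univ (· ∈ L.b)
      (fun ξ : Cfsg.IrrCharacter 𝐂 => (mlt P ζ ξ : ℂ) * (ξ : 𝐂 → ℂ) c)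
    rw [← h3]
    have h4 : ∑ ξ ∈ Finset.univ.filter (fun ξ => ¬ ξ ∈ L.b),
        (mlt P ζ ξ : ℂ) * (ξ : 𝐂 → ℂ) c = 0 := by
      apply Finset.sum_eq_zero
      intro ξ hξ
      rw [hout ξ (Finset.mem_filter.mp hξ).2]
      simp
    rw [h4, add_zero]
    have h5 : ∑ ξ ∈ Finset.univ.filter (· ∈ L.b), (mlt P ζ ξ : ℂ) * (ξ : 𝐂 → ℂ) c
        = ∑ ξ ∈ Finset.univ.filter (· ∈ L.b), (mlt P ζ ξ : ℂ) * (L.θ : 𝐂 → ℂ) c := by
      apply Finset.sum_congr rfl
      intro ξ hξ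
      rw [eq_theta_of_pRegular P hP hM L.hb L.hθ L.hθP (Finset.mem_filter.mp hξ).2 c hc]
    rw [h5, ← Finset.sum_mul]
    congr 1
    have h6 : ((∑ ξ ∈ Finset.univ.filter (· ∈ L.b), (mlt P ζ ξ : ℤ) : ℤ) : ℂ)
        = (((p : ℤ) * ((1 : ℕ) : ℤ) - ((2 : ℕ) : ℤ) : ℤ) : ℂ) := by rw [hsmb]
    push_cast at h6
    rw [h6]; ring
  apply Cfsg.Agent.Lib.Helper3.Prim2.mem_center_of_norm_eq ζ.2 hf
  have hθone : (L.θ : 𝐂 → ℂ) 1 = 1 := by
    have h1 := IsCharacter.apply_one_eq_charDegree (IsIrrCharacter.isCharacter L.θ.2)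
    rw [h1, hθ1]; simp
  have hnorm := linear_mul_conj (IsIrrCharacter.isCharacter L.θ.2) hθone c
  have hn1 : ‖(L.θ : 𝐂 → ℂ) c‖ = 1 := by
    have h6 := congrArg (fun z : ℂ => ‖z‖) hnorm
    simp only [norm_mul, RCLike.norm_conj, norm_one] at h6
    have h7 : ‖(L.θ : 𝐂 → ℂ) c‖ ^ 2 = 1 ^ 2 := by rw [pow_two, h6]; norm_num
    exact (sq_eq_sq₀ (norm_nonneg _) (by norm_num)).mp h7
  have h1 := IsCharacter.apply_one_eq_charDegree (IsIrrCharacter.isCharacter ζ.2)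
  rw [hval, norm_mul, hn1, mul_one, h1, hdeg]
  push_cast [Nat.cast_sub (by omega : 2 ≤ p)]
  rfl

end Cfsg.Agent.Lib.Helper6.BG
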