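import Mathlib
import Cfsg.Agent.Lib.Helper6.BG2

/-!
# Brauer's theorem on characters of degree `p - 2`: uniform facts on the blocks of full defect
-/

set_option autoImplicit false
set_option linter.unusedSectionVars false
set_option linter.unusedVariables false
set_option linter.style.longLine false
set_option maxHeartbeats 1600000

namespace Cfsg.Agent.Lib.Helper6.BG

open Cfsg.Agent.Lib.Helper6 Cfsg.Agent.Lib.Helper6.PB Cfsg.Agent.Lib.Helper6.BR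
  Cfsg.Agent.Lib.Helper6.BH
open scoped ComplexConjugate

variable {G : Type*} [Group G] [Fintype G] [DecidableEq G] {p : ℕ} [hp : Fact p.Prime]
variable {P : Sylow p G}
variable [Fintype ↥(Subgroup.centralizer ((P : Subgroup G) : Set G))]
variable [Fintype ↥(Subgroup.normalizer ((P : Subgroup G) : Set G))]
variable {M : Ideal Cfsg.AlgInt}

local notation "𝐂" => Subgroup.centralizer ((P : Subgroup G) : Set G)
local notation "𝐍" => Subgroup.normalizer ((P : Subgroup G) : Set G)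

/-- the standing hypotheses -/
structure Ctx (M : Ideal Cfsg.AlgInt) (P : Sylow p G) : Prop where
  hP : Nat.card P = p
  hM : Cfsg.IsPModular p M
  hp5 : 5 < p
  hcen : ∀ c : ↥(Subgroup.centralizer ((P : Subgroup G) : Set G)), ¬ p ∣ orderOf c →
    (c : G) ∈ Subgroup.center G
  hZreg : ∀ y ∈ Subgroup.center G, ¬ p ∣ orderOf y
  hrel : (Subgroup.centralizer ((P : Subgroup G) : Set G)).relIndex
    (Subgroup.normalizer ((P : Subgroup G) : Set G)) = 2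

/-- a block of full defect together with its local data -/
structure Blk (M : Ideal Cfsg.AlgInt) (P : Sylow p G)
    [Fintype ↥(Subgroup.centralizer ((P : Subgroup G) : Set G))]
    [Fintype ↥(Subgroup.normalizer ((P : Subgroup G) : Set G))] where
  B : Set (Cfsg.IrrCharacter G)
  hB : Cfsg.IsPBlock M B
  hBP : Cfsg.IsDefectGroup p M B (P : Subgroup G)
  L : Loc M P
  hind : Cfsg.IsInducedBlock M (Subgroup.centralizer ((P : Subgroup G) : Set G)) L.b B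
  K : L.Str B

theorem not_dvd_orderOf_one' : ¬ p ∣ orderOf (1 : G) := by
  rw [orderOf_one]
  intro h
  have := Nat.le_of_dvd one_pos h
  have := hp.out.one_lt
  omega

namespace Blk

variable (X : Ctx M P) (D : Blk M P)
include X

theorem e_eq : D.L.e = 2 := by rw [cen_e X.hP X.hM X.hcen, X.hrel]

theorem theta_deg : Cfsg.charDegree (D.L.θ : 𝐂 → ℂ) = 1 := cen_charDegree X.hP X.hM X.hcen _

theorem theta_one : (D.L.θ : 𝐂 → ℂ) 1 = 1 := cen_apply_one X.hP X.hM X.hcen _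

theorem theta_P (x : 𝐂) (hx : (x : G) ∈ (P : Subgroup G)) : (D.L.θ : 𝐂 → ℂ) x = 1 := by
  rw [D.L.hθP x hx, theta_one X D]

theorem stab (n : 𝐍) : act P n D.L.θ = D.L.θ := cen_stab X.hP X.hM X.hcen D.L n

theorem card_J [Fintype D.L.J] : (Fintype.card D.L.J : ℤ) * 2 = (p : ℤ) - 1 := by
  have h := D.L.card_J_mul_e X.hP X.hM
  rw [e_eq X D, Nat.card_eq_fintype_card] at h
  have hp1 := hp.out.one_lt
  have : ((Fintype.card D.L.J * 2 : ℕ) : ℤ) = ((p - 1 : ℕ) : ℤ) := by rw [h]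
  push_cast [Nat.cast_sub hp1.le] at this
  exact this

theorem deg_apply (χ : Cfsg.IrrCharacter G) :
    (χ : G → ℂ) 1 = (Cfsg.charDegree (χ : G → ℂ) : ℂ) :=
  IsCharacter.apply_one_eq_charDegree (IsIrrCharacter.isCharacter χ.2)

theorem mlt_bound [Fintype D.L.J] (χ : Cfsg.IrrCharacter G) :
    (p : ℤ) * mlt P χ D.L.θ - 2 * ∑ j : D.L.J, aco P D.L.θ (D.L.rep j) χ
      ≤ (Cfsg.charDegree (χ : G → ℂ) : ℤ) := by
  classical
  have : Fintype (Cfsg.IrrCharacter 𝐂) := Fintype.ofFinite _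
  have h1 := block_part_le X.hP X.hM D.hB D.hBP D.hind χ
  have h2 := D.L.sum_mlt_block X.hP X.hM χ
  rw [h2, theta_deg X D, e_eq X D] at h1
  push_cast at h1
  linarith

theorem mlt_bound_S [Fintype D.L.J] {χ : Cfsg.IrrCharacter G} (hχ : χ ∈ D.K.S) :
    (p : ℤ) * mlt P χ D.L.θ - ((p : ℤ) - 1) * D.K.δ χ ≤ (Cfsg.charDegree (χ : G → ℂ) : ℤ) := by
  have h1 := mlt_bound X D χ
  rw [sum_aco_S D.K hχ] at h1
  have h2 := card_J X D
  have h3 : 2 * ((Fintype.card D.L.J : ℤ) * D.K.δ χ) = ((p : ℤ) - 1) * D.K.δ χ := by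
    rw [← h2]; ring
  rw [h3] at h1
  exact h1

theorem mlt_bound_Y [Fintype D.L.J] (j : D.L.J) :
    (p : ℤ) * mlt P (D.K.Λ j) D.L.θ - 2 * D.K.δ (D.K.Λ j)
      ≤ (Cfsg.charDegree (D.K.Λ j : G → ℂ) : ℤ) := by
  have h1 := mlt_bound X D (D.K.Λ j)
  rw [sum_aco_Y D.K j] at h1
  exact h1

theorem deg_S {χ : Cfsg.IrrCharacter G} (hχ : χ ∈ D.K.S) :
    (Cfsg.charDegree (χ : G → ℂ) : ℤ) ≡ D.K.δ χ [ZMOD p] := by
  have h := D.K.degree_S X.hP X.hM D.hB D.hBP D.hind hχ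
  rw [X.hrel, e_eq X D, theta_deg X D] at h
  simpa using h

theorem deg_Y (j : D.L.J) :
    (Cfsg.charDegree (D.K.Λ j : G → ℂ) : ℤ) ≡ -2 * D.K.δ (D.K.Λ j) [ZMOD p] := by
  have h := D.K.degree_Y X.hP X.hM D.hB D.hBP D.hind j
  rw [X.hrel, theta_deg X D] at h
  have h2 : -D.K.δ (D.K.Λ j) * ((2 * 1 : ℕ) : ℤ) = -2 * D.K.δ (D.K.Λ j) := by
    push_cast; ring
  rw [h2] at h
  exact h

theorem val_S {χ : Cfsg.IrrCharacter G} (hχ : χ ∈ D.K.S) (c : 𝐂) (hc : p ∣ orderOf c) :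
    (χ : G → ℂ) c = (D.K.δ χ : ℂ) * (D.L.θ : 𝐂 → ℂ) c :=
  D.K.value_S X.hP X.hM D.hB D.hBP D.hind (stab X D) hχ c hc

theorem cch_eq {χ : Cfsg.IrrCharacter G} (hχ : χ ∈ D.B) (u : Subgroup.center G) :
    (cch χ : Subgroup.center G → ℂ) u
      = (D.L.θ : 𝐂 → ℂ) ⟨u, Subgroup.center_le_centralizer _ u.2⟩ :=
  cch_eq_theta X.hP X.hM X.hcen X.hZreg D.L D.hB D.hBP D.hind χ hχ u _

theorem cch_eq_cch {χ ψ : Cfsg.IrrCharacter G} (hχ : χ ∈ D.B) (hψ : ψ ∈ D.B) :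
    cch χ = cch ψ :=
  cch_eq_of_mem X.hP X.hM X.hcen X.hZreg D.L D.hB D.hBP D.hind hχ hψ

theorem mem_of_cch {ψ : Cfsg.IrrCharacter G} (hψ : ψ ∈ D.B) (χ : Cfsg.IrrCharacter G)
    (hχp : ¬ p ∣ Cfsg.charDegree (χ : G → ℂ)) (h : cch χ = cch ψ) : χ ∈ D.B :=
  mem_block_of_cch X.hP X.hM X.hcen X.hZreg D.L D.hB D.hBP D.hind hψ χ hχp h

theorem not_dvd_deg {χ : Cfsg.IrrCharacter G} (hχ : χ ∈ D.B) :
    ¬ p ∣ Cfsg.charDegree (χ : G → ℂ) :=
  not_dvd_of_isDefectGroup P X.hP X.hM D.hB D.hBP χ hχ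

/-- the sum of the exceptional characters at a `p`-singular element where all the
non-exceptional characters are known -/
theorem sum_Y_of_S [Fintype D.L.J] (j₀ : D.L.J) (g : G) (hg : p ∣ orderOf g) (τ : ℂ)
    (hS : ∀ χ ∈ D.K.S, (χ : G → ℂ) g = (D.K.δ χ : ℂ) * τ) :
    ∑ j : D.L.J, (D.K.Λ j : G → ℂ) g = (D.K.δ (D.K.Λ j₀) : ℂ) * τ := by
  classical
  have : Fintype (Cfsg.IrrCharacter G) := Fintype.ofFinite _
  obtain ⟨χ₀, hχ₀⟩ := D.hB
  have hw := weak_block_orthogonality_finset X.hM χ₀ 1 g not_dvd_orderOf_one' hg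
  rw [← hχ₀] at hw
  rw [sum_block_split D.K (fun χ => (χ : G → ℂ) 1 * conj ((χ : G → ℂ) g))] at hw
  have hrel := D.K.relation X.hP X.hM D.hind j₀ 1 not_dvd_orderOf_one'
  have hX : ∑ χ ∈ Finset.univ.filter (· ∈ D.K.S), (χ : G → ℂ) 1 * conj ((χ : G → ℂ) g)
      = conj τ * ∑ χ ∈ Finset.univ.filter (· ∈ D.K.S), (D.K.δ χ : ℂ) * (χ : G → ℂ) 1 := by
    rw [Finset.mul_sum]
    apply Finset.sum_congr rfl
    intro χ hχ
    rw [hS χ (Finset.mem_filter.mp hχ).2, map_mul, map_intCast]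
    ring
  have hY : ∑ j : D.L.J, (D.K.Λ j : G → ℂ) 1 * conj ((D.K.Λ j : G → ℂ) g)
      = (D.K.Λ j₀ : G → ℂ) 1 * conj (∑ j : D.L.J, (D.K.Λ j : G → ℂ) g) := by
    rw [map_sum, Finset.mul_sum]
    apply Finset.sum_congr rfl
    intro j _
    rw [D.K.agree X.hP X.hM D.hind j j₀ 1 not_dvd_orderOf_one']
  rw [hX, hY] at hw
  have hd0 : (D.K.Λ j₀ : G → ℂ) 1 ≠ 0 := IsIrrCharacter.apply_one_ne_zero (D.K.Λ j₀).2
  have h3 : conj (∑ j : D.L.J, (D.K.Λ j : G → ℂ) g) = (D.K.δ (D.K.Λ j₀) : ℂ) * conj τ := by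
    have h4 : (D.K.Λ j₀ : G → ℂ) 1 * (conj (∑ j : D.L.J, (D.K.Λ j : G → ℂ) g)
        - (D.K.δ (D.K.Λ j₀) : ℂ) * conj τ) = 0 := by
      linear_combination hw - conj τ * hrel
    rcases mul_eq_zero.mp h4 with h | h
    · exact absurd h hd0
    · linear_combination h
  have h5 := congrArg conj h3
  rw [Complex.conj_conj, map_mul, Complex.conj_conj, map_intCast] at h5
  exact h5

end Blk

end Cfsg.Agent.Lib.Helper6.BG
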