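import Mathlib
import Cfsg.Agent.Lib.Helper6.BG3
import Cfsg.Agent.Lib.Helper6.BlkShift
import Cfsg.Agent.Lib.Helper6.BlkNormalP
import Cfsg.Agent.Lib.Helper6.Decomp
import Cfsg.Agent.Lib.Helper6.CharOps

/-!
# Brauer's theorem on characters of degree `p - 2`: two generic lemmas on characters
(a subgroup of index two; a normal subgroup on which a character has a trivial constituent
of multiplicity one)
-/

set_option autoImplicit false
set_option linter.unusedSectionVars false
set_option linter.unusedVariables false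
set_option linter.style.longLine false
set_option maxHeartbeats 1600000

namespace Cfsg.Agent.Lib.Helper6.BG

open Cfsg.Agent.Lib.Helper6
open scoped ComplexConjugate

theorem sum_index_two {Γ : Type*} [Group Γ] [Fintype Γ] (A : Subgroup Γ) [Fintype A]
    (hA : A.index = 2) {s : Γ} (hs : s ∉ A) (F : Γ → ℂ) :
    ∑ w : Γ, F w = ∑ a : A, F a + ∑ a : A, F (s * a) := by
  classical
  rw [← Finset.sum_filter_add_sum_filter_not Finset.univ (· ∈ A) F]
  congr 1
  · exact Finset.sum_subtype (Finset.univ.filter (· ∈ A)) (by simp) F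
  · symm
    rw [← Finset.sum_image (s := Finset.univ) (g := fun a : A => s * (a : Γ)) (f := F)]
    · apply Finset.sum_congr _ (fun _ _ => rfl)
      ext w
      simp only [Finset.mem_image, Finset.mem_univ, true_and, Finset.mem_filter]
      constructor
      · rintro ⟨a, rfl⟩
        intro h
        have := (Subgroup.mul_mem_iff_of_index_two hA (a := s) (b := (a : Γ))).mp h
        exact hs (this.mpr a.2)
      · intro hw
        have : s⁻¹ * w ∈ A := by
          rw [Subgroup.mul_mem_iff_of_index_two hA]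
          constructor
          · intro h; exact absurd (inv_mem_iff.mp h) hs
          · intro h; exact absurd h hw
        exact ⟨⟨s⁻¹ * w, this⟩, by simp⟩
    · intro a _ b _ h
      exact Subtype.ext (mul_left_cancel h)

/-- a character whose restriction to a normal subgroup `Q` contains the trivial character
exactly once determines a linear character of the group -/
theorem exists_linear_of_sum {Γ : Type*} [Group Γ] [Fintype Γ] (Q : Subgroup Γ) [hQ : Q.Normal]
    [Fintype Q] {φ : Γ → ℂ} (hφ : Cfsg.IsCharacter Γ φ)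
    (hsum : ∑ a : Q, φ a = (Fintype.card Q : ℂ)) :
    ∃ β : Γ → ℂ, Cfsg.IsCharacter Γ β ∧ β 1 = 1 ∧
      ∀ w, ∑ a : Q, φ ((a : Γ) * w) = (Fintype.card Q : ℂ) * β w := by
  classical
  have : Fintype (Cfsg.IrrCharacter Γ) := Fintype.ofFinite _
  obtain ⟨m, hm⟩ := IsCharacter.eq_sum_irr hφ
  obtain ⟨c, hc⟩ : ∃ c : Cfsg.IrrCharacter Γ → ℕ,
      ∀ ψ, c ψ = if ∑ a : Q, (ψ : Γ → ℂ) a = 0 then 0 else 1 := ⟨_, fun _ => rfl⟩
  obtain ⟨β, hβ⟩ : ∃ β : Γ → ℂ, β = ∑ ψ : Cfsg.IrrCharacter Γ, (m ψ * c ψ) • (ψ : Γ → ℂ) :=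
    ⟨_, rfl⟩
  have hβc : Cfsg.IsCharacter Γ β := by
    rw [hβ]
    exact IsCharacter.sum _ _ (fun ψ _ => IsCharacter.nsmul (IsIrrCharacter.isCharacter ψ.2) _)
  have hcard0 : (Fintype.card Q : ℂ) ≠ 0 := Nat.cast_ne_zero.mpr Fintype.card_ne_zero
  have key : ∀ w, ∑ a : Q, φ ((a : Γ) * w) = (Fintype.card Q : ℂ) * β w := by
    intro w
    rw [hm, hβ]
    simp only [Finset.sum_apply, Pi.smul_apply]
    simp only [nsmul_eq_mul]
    rw [Finset.sum_comm, Finset.mul_sum]
    apply Finset.sum_congr rfl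
    intro ψ _
    rw [← Finset.mul_sum, IsIrrCharacter.sum_normal_mul Q ψ.2 w, hc ψ]
    by_cases h0 : ∑ a : Q, (ψ : Γ → ℂ) a = 0
    · rw [if_pos h0, h0]; simp
    · rw [if_neg h0]
      have hconst := IsIrrCharacter.const_on_normal_of_sum_ne_zero Q ψ.2 h0
      have h1 : ∑ a : Q, (ψ : Γ → ℂ) a = (Fintype.card Q : ℂ) * (ψ : Γ → ℂ) 1 := by
        rw [Finset.sum_congr rfl (fun a _ => hconst a), Finset.sum_const, Finset.card_univ,
          nsmul_eq_mul]
      rw [h1]
      have h2 : (ψ : Γ → ℂ) 1 ≠ 0 := IsIrrCharacter.apply_one_ne_zero ψ.2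
      push_cast
      field_simp
  refine ⟨β, hβc, ?_, key⟩
  have h1 := key 1
  simp only [mul_one] at h1
  rw [hsum] at h1
  have h2 : (Fintype.card Q : ℂ) * (β 1 - 1) = 0 := by linear_combination -h1
  rcases mul_eq_zero.mp h2 with h | h
  · exact absurd h hcard0
  · linear_combination h

end Cfsg.Agent.Lib.Helper6.BG
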