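import Mathlib
import Cfsg.Agent.Lib.Helper6.BG4
import Cfsg.Agent.Lib.Helper6.Linear
import Cfsg.Agent.Lib.Helper6.IndFunMore

/-!
# Brauer's theorem on characters of degree `p - 2`: restriction to the normalizer
-/

set_option autoImplicit false
set_option linter.unusedSectionVars false
set_option linter.unusedVariables false
set_option linter.style.longLine false
set_option maxHeartbeats 1600000

namespace Cfsg.Agent.Lib.Helper6.BG

open Cfsg.Agent.Lib.Helper6 Cfsg.Agent.Lib.Helper6.PB Cfsg.Agent.Lib.Helper6.BR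
  Cfsg.Agent.Lib.Helper6.BH
open scoped ComplexConjugate

variable {G : Type*} [Group G] [Fintype G] [DecidableEq G] {p : ℕ} [hp : Fact p.Prime]
variable {P : Sylow p G}
variable [Fintype ↥(Subgroup.centralizer ((P : Subgroup G) : Set G))]
variable [Fintype ↥(Subgroup.normalizer ((P : Subgroup G) : Set G))]
variable {M : Ideal Cfsg.AlgInt}

local notation "𝐂" => Subgroup.centralizer ((P : Subgroup G) : Set G)
local notation "𝐍" => Subgroup.normalizer ((P : Subgroup G) : Set G)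

/-- an element of the normalizer outside the centralizer is conjugate under `P` to all the
elements of its coset of `P` -/
theorem conjP (hP : Nat.card P = p) {s : G} (hsN : s ∈ 𝐍) (hsC : s ∉ 𝐂) {a : G}
    (ha : a ∈ (P : Subgroup G)) : ∃ y ∈ (P : Subgroup G), y * s * y⁻¹ = s * a := by
  classical
  obtain ⟨f, hf⟩ : ∃ f : ↥(P : Subgroup G) → ↥(P : Subgroup G),
      ∀ y, ((f y : ↥(P : Subgroup G)) : G) = s⁻¹ * (y : G) * s * (y : G)⁻¹ :=
    ⟨fun y => ⟨s⁻¹ * (y : G) * s * (y : G)⁻¹,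
      mul_mem (conj_mem_P' P hsN y.2) (inv_mem y.2)⟩, fun _ => rfl⟩
  have hinj : Function.Injective f := by
    intro y y' h
    have h1 : s⁻¹ * (y : G) * s * (y : G)⁻¹ = s⁻¹ * (y' : G) * s * (y' : G)⁻¹ := by
      rw [← hf, ← hf, h]
    by_contra hne
    have hz : (y' : G)⁻¹ * (y : G) ∈ (P : Subgroup G) := mul_mem (inv_mem y'.2) y.2
    have hz1 : (y' : G)⁻¹ * (y : G) ≠ 1 := by
      intro h2
      apply hne
      apply Subtype.ext
      have h3 := congrArg (fun t => (y' : G) * t) h2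
      simpa using h3
    have h3 : (y : G) * s * (y : G)⁻¹ = (y' : G) * s * (y' : G)⁻¹ := by
      have h4 := congrArg (fun t => s * t) h1
      simpa [mul_assoc] using h4
    have hcomm : (y' : G)⁻¹ * (y : G) * s = s * ((y' : G)⁻¹ * (y : G)) := by
      calc (y' : G)⁻¹ * (y : G) * s
          = (y' : G)⁻¹ * ((y : G) * s * (y : G)⁻¹) * (y : G) := by group
        _ = (y' : G)⁻¹ * ((y' : G) * s * (y' : G)⁻¹) * (y : G) := by rw [h3]
        _ = s * ((y' : G)⁻¹ * (y : G)) := by group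
    apply hsC
    rw [← centralizer_singleton_eq P hP hz hz1, Subgroup.mem_centralizer_singleton_iff]
    exact hcomm.symm
  have hsurj := Finite.injective_iff_surjective.mp hinj
  obtain ⟨y, hy⟩ := hsurj ⟨a, ha⟩
  refine ⟨y, y.2, ?_⟩
  have h1 : s⁻¹ * (y : G) * s * (y : G)⁻¹ = a := by rw [← hf, hy]
  rw [← h1]; group

theorem decomp_C (X : Ctx M P) (c : 𝐂) :
    ∃ z ∈ (P : Subgroup G), ∃ y ∈ Subgroup.center G, (c : G) = z * y := by
  by_cases hs : p ∣ orderOf c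
  · have hs' : p ∣ orderOf (c : G) := by rwa [Subgroup.orderOf_coe]
    obtain ⟨z, hz, -, y, hy, hyr, hzy⟩ := exists_decomp_C P X.hP c.2 hs'
    exact ⟨z, hz, y, X.hcen ⟨y, hy⟩ (by rw [← Subgroup.orderOf_coe]; exact hyr), hzy⟩
  · exact ⟨1, one_mem _, c, X.hcen c hs, (one_mul _).symm⟩

open Classical in
/-- the sign function on the normalizer -/
noncomputable def sg (P : Sylow p G) (ε : ℂ) :
    ↥(Subgroup.normalizer ((P : Subgroup G) : Set G)) → ℂ :=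
  fun w => if (w : G) ∈ Subgroup.centralizer ((P : Subgroup G) : Set G) then 1 else ε

theorem sg_one (w : 𝐍) : sg P 1 w = 1 := by
  unfold sg
  split_ifs <;> rfl

theorem sg_of_mem (ε : ℂ) {w : 𝐍} (hw : (w : G) ∈ 𝐂) : sg P ε w = 1 := by
  unfold sg
  rw [if_pos hw]

theorem sg_of_not_mem (ε : ℂ) {w : 𝐍} (hw : (w : G) ∉ 𝐂) : sg P ε w = ε := by
  unfold sg
  rw [if_neg hw]

open Classical in
/-- the sign homomorphism -/
noncomputable def sgHom (P : Sylow p G)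
    [Fintype ↥(Subgroup.centralizer ((P : Subgroup G) : Set G))]
    [Fintype ↥(Subgroup.normalizer ((P : Subgroup G) : Set G))]
    (h2 : (CN P).index = 2) :
    ↥(Subgroup.normalizer ((P : Subgroup G) : Set G)) →* ℂˣ where
  toFun w := if w ∈ CN P then 1 else -1
  map_one' := by rw [if_pos (one_mem _)]
  map_mul' a b := by
    have h := Subgroup.mul_mem_iff_of_index_two h2 (a := a) (b := b)
    by_cases ha : a ∈ CN P <;> by_cases hb : b ∈ CN P
    · rw [if_pos ha, if_pos hb, if_pos (h.mpr ⟨fun _ => hb, fun _ => ha⟩)]; simp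
    · rw [if_pos ha, if_neg hb, if_neg (fun hab => hb ((h.mp hab).mp ha))]; simp
    · rw [if_neg ha, if_pos hb, if_neg (fun hab => ha ((h.mp hab).mpr hb))]; simp
    · rw [if_neg ha, if_neg hb,
        if_pos (h.mpr ⟨fun h' => absurd h' ha, fun h' => absurd h' hb⟩)]; simp

theorem sg_isCharacter (X : Ctx M P) : Cfsg.IsCharacter 𝐍 (sg P (-1)) := by
  classical
  have h2 : (CN P).index = 2 := X.hrel
  have h := IsIrrCharacter.isCharacter (isIrrCharacter_of_hom (sgHom P h2))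
  convert h using 1
  funext w
  unfold sg sgHom
  simp only [MonoidHom.coe_mk, OneHom.coe_mk]
  by_cases hw : (w : G) ∈ 𝐂
  · rw [if_pos hw, if_pos ((mem_CN P w).mpr hw)]; simp
  · rw [if_neg hw, if_neg (fun h' => hw ((mem_CN P w).mp h'))]; simp

theorem conj_sg (ε : ℂ) (hε : conj ε = ε) (w : 𝐍) : conj (sg P ε w) = sg P ε w := by
  unfold sg
  split_ifs
  · simp
  · exact hε

/-- the sum over the normalizer of `χ` against a linear character of the normalizer extending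
the canonical character of the block of `χ` -/
theorem sum_N_split (X : Ctx M P) (D : Blk M P) {β : 𝐍 → ℂ} (hβ : Cfsg.IsCharacter 𝐍 β)
    (hβ1 : β 1 = 1) (hβC : ∀ c : 𝐂, β ⟨(c : G), C_le_N P c.2⟩ = (D.L.θ : 𝐂 → ℂ) c)
    {χ : Cfsg.IrrCharacter G} (hχ : χ ∈ D.B) {s : G} (hsN : s ∈ 𝐍) (hsC : s ∉ 𝐂) (ε : ℂ)
    (hε : conj ε = ε) :
    ∑ w : 𝐍, (χ : G → ℂ) w * conj (sg P ε w * β w)
      = (Nat.card 𝐂 : ℂ) *
        ((mlt P χ D.L.θ : ℂ) + ε * ((χ : G → ℂ) s * conj (β ⟨s, hsN⟩))) := by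
  classical
  have hidx : (CN P).index = 2 := X.hrel
  have hsCN : (⟨s, hsN⟩ : 𝐍) ∉ CN P := by rw [mem_CN]; exact hsC
  rw [sum_index_two (CN P) hidx hsCN, mul_add]
  have hθc := IsIrrCharacter.isCharacter D.L.θ.2
  have hθ1 := Blk.theta_one X D
  congr 1
  · rw [← sum_C_mul_conj X.hP X.hM χ D.L.θ]
    obtain ⟨e, he⟩ : ∃ e : ↥(CN P) ≃ ↥𝐂, ∀ a : ↥(CN P), ((e a : 𝐂) : G) = ((a : 𝐍) : G) :=
      ⟨(Subgroup.subgroupOfEquivOfLe (C_le_N P)).toEquiv, fun a => rfl⟩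
    refine Fintype.sum_equiv e _ _ ?_
    intro a
    have haC : ((a : 𝐍) : G) ∈ 𝐂 := (mem_CN P _).mp a.2
    have h1 : (a : 𝐍) = ⟨((⟨((a : 𝐍) : G), haC⟩ : 𝐂) : G), C_le_N P haC⟩ := Subtype.ext rfl
    have h2 : e a = ⟨((a : 𝐍) : G), haC⟩ := Subtype.ext (he a)
    rw [h2, sg_of_mem ε haC, one_mul]
    conv_lhs => rw [h1, hβC]
  · have hterm : ∀ a : CN P,
        (χ : G → ℂ) (((⟨s, hsN⟩ * (a : 𝐍) : 𝐍)) : G)
          * conj (sg P ε (⟨s, hsN⟩ * (a : 𝐍)) * β (⟨s, hsN⟩ * (a : 𝐍)))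
        = ε * ((χ : G → ℂ) s * conj (β ⟨s, hsN⟩)) := by
      intro a
      have haC : ((a : 𝐍) : G) ∈ 𝐂 := (mem_CN P _).mp a.2
      obtain ⟨z, hz, y, hy, hzy⟩ := decomp_C X ⟨((a : 𝐍) : G), haC⟩
      have hzy' : ((a : 𝐍) : G) = z * y := hzy
      have hnot : (((⟨s, hsN⟩ * (a : 𝐍) : 𝐍)) : G) ∉ 𝐂 := by
        intro h
        apply hsC
        have h3 : s * ((a : 𝐍) : G) ∈ 𝐂 := h
        have := mul_mem h3 (inv_mem haC)
        simpa using this
      rw [sg_of_not_mem ε hnot, IsCharacter.mul_of_apply_one_eq_one hβ hβ1]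
      have h1 : (a : 𝐍) = ⟨((⟨((a : 𝐍) : G), haC⟩ : 𝐂) : G), C_le_N P haC⟩ := Subtype.ext rfl
      have hβa : β (a : 𝐍) = (D.L.θ : 𝐂 → ℂ) ⟨((a : 𝐍) : G), haC⟩ := by
        conv_lhs => rw [h1, hβC]
      have hyC : y ∈ 𝐂 := Subgroup.center_le_centralizer _ hy
      have hzC : z ∈ 𝐂 := P_le_C P X.hP hz
      have hθa : (D.L.θ : 𝐂 → ℂ) ⟨((a : 𝐍) : G), haC⟩ = (D.L.θ : 𝐂 → ℂ) ⟨y, hyC⟩ := by
        have h4 : (⟨((a : 𝐍) : G), haC⟩ : 𝐂) = ⟨z, hzC⟩ * ⟨y, hyC⟩ := Subtype.ext hzy'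
        rw [h4, theta_mul_left P X.hP X.hM D.L.hb D.L.hθ D.L.hθP (y := ⟨z, hzC⟩) hz]
      have hχv : (χ : G → ℂ) (((⟨s, hsN⟩ * (a : 𝐍) : 𝐍)) : G)
          = (D.L.θ : 𝐂 → ℂ) ⟨y, hyC⟩ * (χ : G → ℂ) s := by
        have h5 : (((⟨s, hsN⟩ * (a : 𝐍) : 𝐍)) : G) = y * (s * z) := by
          have h6 : (((⟨s, hsN⟩ * (a : 𝐍) : 𝐍)) : G) = s * ((a : 𝐍) : G) := rfl
          rw [h6, hzy', ← mul_assoc]
          exact (Subgroup.mem_center_iff.mp hy (s * z))
        rw [h5, cch_mul χ ⟨y, hy⟩ (s * z), Blk.cch_eq X D hχ ⟨y, hy⟩]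
        obtain ⟨t, ht, hts⟩ := conjP X.hP hsN hsC hz
        rw [← hts, IsIrrCharacter.isClassFunction χ.2 s t]
      rw [hχv, hβa, hθa, map_mul, map_mul, hε]
      have hnorm := linear_mul_conj hθc hθ1 ⟨y, hyC⟩
      linear_combination (ε * (χ : G → ℂ) s * conj (β ⟨s, hsN⟩)) * hnorm
    rw [Finset.sum_congr rfl (fun a _ => hterm a), Finset.sum_const, Finset.card_univ,
      nsmul_eq_mul, ← Nat.card_eq_fintype_card, card_CN]

end Cfsg.Agent.Lib.Helper6.BG
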