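import Mathlib
import Cfsg.Agent.Lib.Helper6.BG5

/-!
# Brauer's theorem on characters of degree `p - 2`: the values on the elements of the
normalizer outside the centralizer
-/

set_option autoImplicit false
set_option linter.unusedSectionVars false
set_option linter.unusedVariables false
set_option linter.style.longLine false
set_option maxHeartbeats 1600000

namespace Cfsg.Agent.Lib.Helper6.BG

open Cfsg.Agent.Lib.Helper6 Cfsg.Agent.Lib.Helper6.PB Cfsg.Agent.Lib.Helper6.BR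
  Cfsg.Agent.Lib.Helper6.BH
open scoped ComplexConjugate

variable {G : Type*} [Group G] [Fintype G] [DecidableEq G] {p : ℕ} [hp : Fact p.Prime]
variable {P : Sylow p G}
variable [Fintype ↥(Subgroup.centralizer ((P : Subgroup G) : Set G))]
variable [Fintype ↥(Subgroup.normalizer ((P : Subgroup G) : Set G))]
variable {M : Ideal Cfsg.AlgInt}

local notation "𝐂" => Subgroup.centralizer ((P : Subgroup G) : Set G)
local notation "𝐍" => Subgroup.normalizer ((P : Subgroup G) : Set G)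
local notation "𝐃" => Subgroup.subgroupOf (P : Subgroup G) (Subgroup.centralizer ((P : Subgroup G) : Set G))

theorem card_N (X : Ctx M P) : (Nat.card 𝐍 : ℂ) = 2 * (Nat.card 𝐂 : ℂ) := by
  have h := card_C_mul_relIndex (P := P)
  rw [X.hrel] at h
  rw [← h]
  push_cast
  ring

/-- the two multiplicities in the restriction to the normalizer -/
theorem inner_values (X : Ctx M P) (D : Blk M P) {β : 𝐍 → ℂ} (hβ : Cfsg.IsCharacter 𝐍 β)
    (hβ1 : β 1 = 1) (hβC : ∀ c : 𝐂, β ⟨(c : G), C_le_N P c.2⟩ = (D.L.θ : 𝐂 → ℂ) c)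
    {χ : Cfsg.IrrCharacter G} (hχ : χ ∈ D.B) {s : G} (hsN : s ∈ 𝐍) (hsC : s ∉ 𝐂) :
    ∃ n₁ n₂ : ℕ, Cfsg.classInner (fun w : 𝐍 => (χ : G → ℂ) w) β = n₁ ∧
      Cfsg.classInner (fun w : 𝐍 => (χ : G → ℂ) w) (sg P (-1) * β) = n₂ ∧
      n₁ + n₂ = mlt P χ D.L.θ ∧
      (χ : G → ℂ) s * conj (β ⟨s, hsN⟩) = (n₁ : ℂ) - (n₂ : ℂ) := by
  have hχN : Cfsg.IsCharacter 𝐍 (fun w : 𝐍 => (χ : G → ℂ) w) :=
    IsCharacter.restrict 𝐍 (IsIrrCharacter.isCharacter χ.2)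
  obtain ⟨n₁, h₁⟩ := IsCharacter.classInner_nat hχN hβ
  obtain ⟨n₂, h₂⟩ := IsCharacter.classInner_nat hχN (IsCharacter.mul (sg_isCharacter X) hβ)
  refine ⟨n₁, n₂, h₁, h₂, ?_⟩
  have s₁ := sum_N_split X D hβ hβ1 hβC hχ hsN hsC 1 (by simp)
  have s₂ := sum_N_split X D hβ hβ1 hβC hχ hsN hsC (-1) (by simp)
  simp only [sg_one, one_mul] at s₁
  unfold Cfsg.classInner at h₁ h₂
  simp only [Pi.mul_apply] at h₂
  rw [s₁, card_N X] at h₁
  rw [s₂, card_N X] at h₂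
  have hC0 : (Nat.card 𝐂 : ℂ) ≠ 0 := Nat.cast_ne_zero.mpr Nat.card_pos.ne'
  have e₁ : (mlt P χ D.L.θ : ℂ) + (χ : G → ℂ) s * conj (β ⟨s, hsN⟩) = 2 * (n₁ : ℂ) := by
    rw [← h₁]; field_simp
  have e₂ : (mlt P χ D.L.θ : ℂ) - (χ : G → ℂ) s * conj (β ⟨s, hsN⟩) = 2 * (n₂ : ℂ) := by
    rw [← h₂]; field_simp; ring
  constructor
  · have h3 : ((n₁ + n₂ : ℕ) : ℂ) = ((mlt P χ D.L.θ : ℕ) : ℂ) := by
      push_cast
      linear_combination (-1 / 2 : ℂ) * e₁ + (-1 / 2 : ℂ) * e₂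
    exact_mod_cast h3
  · linear_combination (1 / 2 : ℂ) * e₁ - (1 / 2 : ℂ) * e₂

/-- the canonical character of the principal block is trivial -/
theorem theta_eq_one (X : Ctx M P) (D : Blk M P) (h1 : oneIrr G ∈ D.B) (c : 𝐂) :
    (D.L.θ : 𝐂 → ℂ) c = 1 := by
  obtain ⟨z, hz, y, hy, hzy⟩ := decomp_C X c
  have hyC : y ∈ 𝐂 := Subgroup.center_le_centralizer _ hy
  have hzC : z ∈ 𝐂 := P_le_C P X.hP hz
  have h4 : c = ⟨z, hzC⟩ * ⟨y, hyC⟩ := Subtype.ext hzy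
  rw [h4, theta_mul_left P X.hP X.hM D.L.hb D.L.hθ D.L.hθP (y := ⟨z, hzC⟩) hz]
  have h5 := Blk.cch_eq X D h1 ⟨y, hy⟩
  rw [cch_oneIrr] at h5
  exact h5.symm

/-- the values of the members of the principal block on the elements of `N` outside `C` -/
theorem lemmaL_prin (X : Ctx M P) (D : Blk M P) (h1 : oneIrr G ∈ D.B)
    {χ : Cfsg.IrrCharacter G} (hχ : χ ∈ D.B) {s : G} (hsN : s ∈ 𝐍) (hsC : s ∉ 𝐂) :
    ∃ n₁ n₂ : ℕ,
      Cfsg.classInner (fun w : 𝐍 => (χ : G → ℂ) w) (sg P (-1)) = n₂ ∧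
      n₁ + n₂ = mlt P χ D.L.θ ∧ (χ : G → ℂ) s = (n₁ : ℂ) - (n₂ : ℂ) := by
  have hβ : Cfsg.IsCharacter 𝐍 (fun _ : 𝐍 => (1 : ℂ)) := isCharacter_one
  obtain ⟨n₁, n₂, -, h₂, h₃, h₄⟩ := inner_values X D hβ rfl
    (fun c => (theta_eq_one X D h1 c).symm) hχ hsN hsC
  refine ⟨n₁, n₂, ?_, h₃, ?_⟩
  · rw [← h₂]
    congr 1
    funext w
    simp
  · rw [← h₄]; simp

end Cfsg.Agent.Lib.Helper6.BG
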