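import Mathlib
import Cfsg.Agent.Lib.Helper6.BG6

/-!
# Brauer's theorem on characters of degree `p - 2`: the linear character of the normalizer
attached to the character of degree `p - 2`
-/

set_option autoImplicit false
set_option linter.unusedSectionVars false
set_option linter.unusedVariables false
set_option linter.style.longLine false
set_option maxHeartbeats 1600000

namespace Cfsg.Agent.Lib.Helper6.BG

open Cfsg.Agent.Lib.Helper6 Cfsg.Agent.Lib.Helper6.PB Cfsg.Agent.Lib.Helper6.BR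
  Cfsg.Agent.Lib.Helper6.BH
open scoped ComplexConjugate

variable {G : Type*} [Group G] [Fintype G] [DecidableEq G] {p : ℕ} [hp : Fact p.Prime]
variable {P : Sylow p G}
variable [Fintype ↥(Subgroup.centralizer ((P : Subgroup G) : Set G))]
variable [Fintype ↥(Subgroup.normalizer ((P : Subgroup G) : Set G))]
variable {M : Ideal Cfsg.AlgInt}

local notation "𝐂" => Subgroup.centralizer ((P : Subgroup G) : Set G)
local notation "𝐍" => Subgroup.normalizer ((P : Subgroup G) : Set G)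
local notation "𝐃" => Subgroup.subgroupOf (P : Subgroup G) (Subgroup.centralizer ((P : Subgroup G) : Set G))

theorem sum_PN_eq (X : Ctx M P) [Fintype (Cfsg.IrrCharacter 𝐂)] (ψ : Cfsg.IrrCharacter G) :
    ∑ a : PN P, (ψ : G → ℂ) ((a : 𝐍) : G) = ((p * aP P ψ : ℕ) : ℂ) := by
  classical
  have : Fintype 𝐃 := Fintype.ofFinite _
  rw [← sum_D_eq X.hP X.hM ψ]
  obtain ⟨e, he⟩ : ∃ e : ↥(PN P) ≃ ↥𝐃, ∀ a, (((e a : 𝐃) : 𝐂) : G) = ((a : 𝐍) : G) :=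
    ⟨(Subgroup.subgroupOfEquivOfLe (P_le_N P)).toEquiv.trans
      (Subgroup.subgroupOfEquivOfLe (P_le_C P X.hP)).toEquiv.symm, fun a => rfl⟩
  exact Fintype.sum_equiv e _ _ (fun a => by rw [he])

theorem aP_eq_one (X : Ctx M P) (D : Blk M P) [Fintype (Cfsg.IrrCharacter 𝐂)]
    {ζ : Cfsg.IrrCharacter G} (hm1 : mlt P ζ D.L.θ = 1)
    (hout : ∀ ξ, ξ ∉ D.L.b → mlt P ζ ξ = 0) : aP P ζ = 1 := by
  classical
  unfold aP
  rw [Finset.sum_eq_single_of_mem D.L.θ (Finset.mem_filter.mpr ⟨Finset.mem_univ _, D.L.hθP⟩)]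
  · rw [hm1, Blk.theta_deg X D]
  · intro ξ hξ hne
    have htriv : TrivP P ξ := (Finset.mem_filter.mp hξ).2
    have hnb : ξ ∉ D.L.b := fun hb =>
      hne (theta_unique P X.hP X.hM D.L.hb hb D.L.hθ htriv D.L.hθP)
    rw [hout ξ hnb, zero_mul]

/-- the linear character of the normalizer attached to a character `ζ` of the block containing
the canonical character exactly once -/
theorem exists_beta (X : Ctx M P) (D : Blk M P) {ζ : Cfsg.IrrCharacter G} (hζ : ζ ∈ D.B)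
    (hm1 : mlt P ζ D.L.θ = 1) (hout : ∀ ξ, ξ ∉ D.L.b → mlt P ζ ξ = 0) :
    ∃ β : 𝐍 → ℂ, Cfsg.IsCharacter 𝐍 β ∧ β 1 = 1 ∧
      (∀ c : 𝐂, β ⟨(c : G), C_le_N P c.2⟩ = (D.L.θ : 𝐂 → ℂ) c) ∧
      ∀ (s : G) (hsN : s ∈ 𝐍), s ∉ 𝐂 → β ⟨s, hsN⟩ = (ζ : G → ℂ) s := by
  classical
  have : Fintype (Cfsg.IrrCharacter 𝐂) := Fintype.ofFinite _
  have hφ : Cfsg.IsCharacter 𝐍 (fun w : 𝐍 => (ζ : G → ℂ) w) :=
    IsCharacter.restrict 𝐍 (IsIrrCharacter.isCharacter ζ.2)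
  have hcardPN : Fintype.card (PN P) = p := by
    rw [← Nat.card_eq_fintype_card]
    exact (Nat.card_congr (Subgroup.subgroupOfEquivOfLe (P_le_N P)).toEquiv).trans X.hP
  have hsumP : ∑ a : PN P, (ζ : G → ℂ) ((a : 𝐍) : G) = (p : ℂ) := by
    have h := sum_PN_eq X ζ
    rw [aP_eq_one X D hm1 hout] at h
    simpa using h
  have hsum : ∑ a : PN P, (fun w : 𝐍 => (ζ : G → ℂ) w) (a : 𝐍) = (Fintype.card (PN P) : ℂ) := by
    rw [hcardPN]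
    exact hsumP
  obtain ⟨β, hβ, hβ1, key⟩ := exists_linear_of_sum (PN P) hφ hsum
  rw [hcardPN] at key
  have hp0 : (p : ℂ) ≠ 0 := Nat.cast_ne_zero.mpr hp.out.ne_zero
  refine ⟨β, hβ, hβ1, ?_, ?_⟩
  · intro c
    obtain ⟨z, hz, y, hy, hzy⟩ := decomp_C X c
    have hyC : y ∈ 𝐂 := Subgroup.center_le_centralizer _ hy
    have hzC : z ∈ 𝐂 := P_le_C P X.hP hz
    have hk := key ⟨(c : G), C_le_N P c.2⟩
    obtain ⟨zz, hzz⟩ : ∃ zz : PN P, ((zz : 𝐍) : G) = z :=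
      ⟨⟨⟨z, P_le_N P hz⟩, (mem_PN P _).mpr hz⟩, rfl⟩
    have hterm : ∀ a : PN P,
        (ζ : G → ℂ) (((a : 𝐍) * ⟨(c : G), C_le_N P c.2⟩ : 𝐍) : G)
        = (D.L.θ : 𝐂 → ℂ) ⟨y, hyC⟩ * (ζ : G → ℂ) ((((a * zz : PN P)) : 𝐍) : G) := by
      intro a
      have h5 : (((a : 𝐍) * ⟨(c : G), C_le_N P c.2⟩ : 𝐍) : G) = y * (((a : 𝐍) : G) * z) := by
        have h6 : (((a : 𝐍) * ⟨(c : G), C_le_N P c.2⟩ : 𝐍) : G) = ((a : 𝐍) : G) * (c : G) := rfl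
        rw [h6, hzy, ← mul_assoc]
        exact Subgroup.mem_center_iff.mp hy _
      have h7 : ((((a * zz : PN P)) : 𝐍) : G) = ((a : 𝐍) : G) * z := by
        rw [← hzz]; rfl
      rw [h5, h7, cch_mul ζ ⟨y, hy⟩, Blk.cch_eq X D hζ ⟨y, hy⟩]
    have hθc : (D.L.θ : 𝐂 → ℂ) c = (D.L.θ : 𝐂 → ℂ) ⟨y, hyC⟩ := by
      have h4 : c = ⟨z, hzC⟩ * ⟨y, hyC⟩ := Subtype.ext hzy
      rw [h4, theta_mul_left P X.hP X.hM D.L.hb D.L.hθ D.L.hθP (y := ⟨z, hzC⟩) hz]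
    have hshift : ∑ a : PN P, (ζ : G → ℂ) ((((a * zz : PN P)) : 𝐍) : G) = (p : ℂ) := by
      rw [← hsumP]
      exact Equiv.sum_comp (Equiv.mulRight zz) (fun a : PN P => (ζ : G → ℂ) ((a : 𝐍) : G))
    rw [Finset.sum_congr rfl (fun a _ => hterm a), ← Finset.mul_sum, hshift] at hk
    rw [hθc]
    have h8 : (p : ℂ) * (β ⟨(c : G), C_le_N P c.2⟩ - (D.L.θ : 𝐂 → ℂ) ⟨y, hyC⟩) = 0 := by
      linear_combination -hk
    rcases mul_eq_zero.mp h8 with h | h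
    · exact absurd h hp0
    · linear_combination h
  · intro s hsN hsC
    have hk := key ⟨s, hsN⟩
    have hterm : ∀ a : PN P, (ζ : G → ℂ) (((a : 𝐍) * ⟨s, hsN⟩ : 𝐍) : G) = (ζ : G → ℂ) s := by
      intro a
      have haP : ((a : 𝐍) : G) ∈ (P : Subgroup G) := (mem_PN P _).mp a.2
      have ha' : s⁻¹ * ((a : 𝐍) : G) * s ∈ (P : Subgroup G) := conj_mem_P' P hsN haP
      obtain ⟨t, ht, hts⟩ := conjP X.hP hsN hsC ha'
      have h6 : (((a : 𝐍) * ⟨s, hsN⟩ : 𝐍) : G) = t * s * t⁻¹ := by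
        rw [hts]
        have h7 : (((a : 𝐍) * ⟨s, hsN⟩ : 𝐍) : G) = ((a : 𝐍) : G) * s := rfl
        rw [h7]; group
      rw [h6, IsIrrCharacter.isClassFunction ζ.2 s t]
    rw [Finset.sum_congr rfl (fun a _ => hterm a), Finset.sum_const, Finset.card_univ, hcardPN,
      nsmul_eq_mul] at hk
    exact (mul_left_cancel₀ hp0 hk).symm

/-- the values of the members of the block on the elements of `N` outside `C` -/
theorem lemmaL (X : Ctx M P) (D : Blk M P) {β : 𝐍 → ℂ} (hβ : Cfsg.IsCharacter 𝐍 β)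
    (hβ1 : β 1 = 1) (hβC : ∀ c : 𝐂, β ⟨(c : G), C_le_N P c.2⟩ = (D.L.θ : 𝐂 → ℂ) c)
    {χ : Cfsg.IrrCharacter G} (hχ : χ ∈ D.B) {s : G} (hsN : s ∈ 𝐍) (hsC : s ∉ 𝐂) :
    ∃ b : ℤ, (χ : G → ℂ) s = (b : ℂ) * β ⟨s, hsN⟩ ∧ |b| ≤ (mlt P χ D.L.θ : ℤ) := by
  obtain ⟨n₁, n₂, -, -, h₃, h₄⟩ := inner_values X D hβ hβ1 hβC hχ hsN hsC
  refine ⟨(n₁ : ℤ) - n₂, ?_, ?_⟩
  · have hn := linear_mul_conj hβ hβ1 ⟨s, hsN⟩
    push_cast
    rw [← h₄]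
    linear_combination (-(χ : G → ℂ) s) * hn
  · rw [← h₃]
    push_cast
    rw [abs_le]
    constructor <;> omega

theorem sq_mem_C (X : Ctx M P) {s : G} (hsN : s ∈ 𝐍) : s * s ∈ 𝐂 := by
  have hidx : (CN P).index = 2 := X.hrel
  have h := (Subgroup.mul_mem_iff_of_index_two hidx (a := (⟨s, hsN⟩ : 𝐍))
    (b := (⟨s, hsN⟩ : 𝐍))).mpr Iff.rfl
  exact (mem_CN P _).mp h

theorem beta_sq (X : Ctx M P) (D : Blk M P) {β : 𝐍 → ℂ} (hβ : Cfsg.IsCharacter 𝐍 β)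
    (hβ1 : β 1 = 1) (hβC : ∀ c : 𝐂, β ⟨(c : G), C_le_N P c.2⟩ = (D.L.θ : 𝐂 → ℂ) c)
    {s : G} (hsN : s ∈ 𝐍) :
    β ⟨s, hsN⟩ ^ 2 = (D.L.θ : 𝐂 → ℂ) ⟨s * s, sq_mem_C X hsN⟩ := by
  rw [pow_two, ← IsCharacter.mul_of_apply_one_eq_one hβ hβ1, ← hβC]
  rfl

end Cfsg.Agent.Lib.Helper6.BG
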