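import Mathlib
import Cfsg.Agent.Lib.Helper6.BG7

/-!
# Brauer's theorem on characters of degree `p - 2`: the shape of the two blocks
-/

set_option autoImplicit false
set_option linter.unusedSectionVars false
set_option linter.unusedVariables false
set_option linter.style.longLine false
set_option maxHeartbeats 1600000

namespace Cfsg.Agent.Lib.Helper6.BG

open Cfsg.Agent.Lib.Helper6 Cfsg.Agent.Lib.Helper6.PB Cfsg.Agent.Lib.Helper6.BR
  Cfsg.Agent.Lib.Helper6.BH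
open scoped ComplexConjugate

variable {G : Type*} [Group G] [Fintype G] [DecidableEq G] {p : ℕ} [hp : Fact p.Prime]
variable {P : Sylow p G}
variable [Fintype ↥(Subgroup.centralizer ((P : Subgroup G) : Set G))]
variable [Fintype ↥(Subgroup.normalizer ((P : Subgroup G) : Set G))]
variable {M : Ideal Cfsg.AlgInt}

local notation "𝐂" => Subgroup.centralizer ((P : Subgroup G) : Set G)
local notation "𝐍" => Subgroup.normalizer ((P : Subgroup G) : Set G)

/-- the non-exceptional characters of the block are `χ₁` and `χ₂` -/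
structure Pair (D : Blk M P) (χ₁ χ₂ : Cfsg.IrrCharacter G) : Prop where
  h₁ : χ₁ ∈ D.K.S
  h₂ : χ₂ ∈ D.K.S
  hne : χ₁ ≠ χ₂
  hall : ∀ χ ∈ D.K.S, χ = χ₁ ∨ χ = χ₂

theorem Pair.symm {D : Blk M P} {χ₁ χ₂ : Cfsg.IrrCharacter G} (h : Pair D χ₁ χ₂) :
    Pair D χ₂ χ₁ :=
  ⟨h.h₂, h.h₁, h.hne.symm, fun χ hχ => (h.hall χ hχ).symm⟩

theorem Pair.sum_S {D : Blk M P} {χ₁ χ₂ : Cfsg.IrrCharacter G} (h : Pair D χ₁ χ₂)
    [Fintype (Cfsg.IrrCharacter G)] [DecidablePred (· ∈ D.K.S)]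
    (f : Cfsg.IrrCharacter G → ℂ) :
    ∑ χ ∈ Finset.univ.filter (· ∈ D.K.S), f χ = f χ₁ + f χ₂ := by
  classical
  have h0 : Finset.univ.filter (· ∈ D.K.S) = {χ₁, χ₂} := by
    ext χ
    simp only [Finset.mem_filter, Finset.mem_univ, true_and, Finset.mem_insert,
      Finset.mem_singleton]
    constructor
    · exact h.hall χ
    · rintro (rfl | rfl)
      · exact h.h₁
      · exact h.h₂
  rw [h0, Finset.sum_pair h.hne]

namespace Blk

variable (X : Ctx M P) (D : Blk M P)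
include X

theorem exists_pair : ∃ χ₁ χ₂ : Cfsg.IrrCharacter G, Pair D χ₁ χ₂ := by
  have h := D.K.card_S X.hP X.hM D.hind D.hB D.hBP
  rw [Blk.e_eq X D] at h
  obtain ⟨x, y, hxy, huniv⟩ := Nat.card_eq_two_iff.mp h
  refine ⟨x.1, y.1, x.2, y.2, fun h => hxy (Subtype.ext h), ?_⟩
  intro χ hχ
  have hm : (⟨χ, hχ⟩ : ↥D.K.S) ∈ ({x, y} : Set ↥D.K.S) := by rw [huniv]; trivial
  rcases hm with h | h
  · left; exact congrArg Subtype.val h
  · right; exact congrArg Subtype.val h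

theorem exists_other {ψ : Cfsg.IrrCharacter G} (hψ : ψ ∈ D.K.S) :
    ∃ χ : Cfsg.IrrCharacter G, Pair D ψ χ := by
  obtain ⟨χ₁, χ₂, h⟩ := exists_pair X D
  rcases h.hall ψ hψ with rfl | rfl
  · exact ⟨χ₂, h⟩
  · exact ⟨χ₁, h.symm⟩

/-- the relation on the `p`-regular elements -/
theorem rel_apply {χ₁ χ₂ : Cfsg.IrrCharacter G} (h : Pair D χ₁ χ₂) (j : D.L.J) (g : G)
    (hg : ¬ p ∣ orderOf g) :
    (D.K.δ χ₁ : ℂ) * (χ₁ : G → ℂ) g + (D.K.δ χ₂ : ℂ) * (χ₂ : G → ℂ) g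
      + (D.K.δ (D.K.Λ j) : ℂ) * (D.K.Λ j : G → ℂ) g = 0 := by
  classical
  have : Fintype (Cfsg.IrrCharacter G) := Fintype.ofFinite _
  have hrel := D.K.relation X.hP X.hM D.hind j g hg
  rw [h.sum_S] at hrel
  exact hrel

/-- the relation between the degrees -/
theorem rel_deg {χ₁ χ₂ : Cfsg.IrrCharacter G} (h : Pair D χ₁ χ₂) (j : D.L.J) :
    D.K.δ χ₁ * (Cfsg.charDegree (χ₁ : G → ℂ) : ℤ) + D.K.δ χ₂ * (Cfsg.charDegree (χ₂ : G → ℂ) : ℤ)
      + D.K.δ (D.K.Λ j) * (Cfsg.charDegree (D.K.Λ j : G → ℂ) : ℤ) = 0 := by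
  have hrel := rel_apply X D h j 1 not_dvd_orderOf_one'
  rw [deg_apply X, deg_apply X, deg_apply X] at hrel
  exact_mod_cast hrel

theorem deg_pos' (χ : Cfsg.IrrCharacter G) : (0 : ℤ) < (Cfsg.charDegree (χ : G → ℂ) : ℤ) := by
  exact_mod_cast IsIrrCharacter.charDegree_pos χ.2

/-- the shape of the block of a character of degree `p - 2` which is exceptional with sign `+` -/
theorem zeta_struct (j : D.L.J) (hδ : D.K.δ (D.K.Λ j) = 1)
    (hdeg : Cfsg.charDegree (D.K.Λ j : G → ℂ) = p - 2) :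
    ∃ χ₁ χ₂ : Cfsg.IrrCharacter G, Pair D χ₁ χ₂ ∧ D.K.δ χ₁ = 1 ∧ D.K.δ χ₂ = -1 ∧
      (Cfsg.charDegree (χ₂ : G → ℂ) : ℤ) = (Cfsg.charDegree (χ₁ : G → ℂ) : ℤ) + ((p : ℤ) - 2) := by
  obtain ⟨ψ₁, ψ₂, h⟩ := exists_pair X D
  have hrel := rel_deg X D h j
  have hp5 := X.hp5
  have hdegz : (Cfsg.charDegree (D.K.Λ j : G → ℂ) : ℤ) = (p : ℤ) - 2 := by
    rw [hdeg]; push_cast [Nat.cast_sub (by omega : 2 ≤ p)]; ring
  rw [hδ, hdegz] at hrel
  have hd₁ := deg_pos' X ψ₁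
  have hd₂ := deg_pos' X ψ₂
  have hpz : (5 : ℤ) < (p : ℤ) := by exact_mod_cast hp5
  have hge : ∀ ψ ∈ D.K.S, D.K.δ ψ = -1 → (p : ℤ) - 1 ≤ (Cfsg.charDegree (ψ : G → ℂ) : ℤ) := by
    intro ψ hψ hm
    have h1 := deg_S X D hψ
    rw [hm] at h1
    have h2 := (Int.modEq_iff_dvd.mp h1)
    obtain ⟨c, hc⟩ := h2
    have hd := deg_pos' X ψ
    have hc1 : c ≤ -1 := by
      by_contra hcc
      have : 0 ≤ c := by omega
      nlinarith
    nlinarith
  rcases D.K.sgn ψ₁ with s₁ | s₁ <;> rcases D.K.sgn ψ₂ with s₂ | s₂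
  · exfalso
    rw [s₁, s₂] at hrel
    linarith
  · refine ⟨ψ₁, ψ₂, h, s₁, s₂, ?_⟩
    rw [s₁, s₂] at hrel
    linarith
  · refine ⟨ψ₂, ψ₁, h.symm, s₂, s₁, ?_⟩
    rw [s₁, s₂] at hrel
    linarith
  · exfalso
    rw [s₁, s₂] at hrel
    have := hge ψ₁ h.h₁ s₁
    have := hge ψ₂ h.h₂ s₂
    linarith

/-- the shape of the principal block -/
theorem prin_struct (h1 : oneIrr G ∈ D.B) (j₀ : D.L.J) :
    D.K.δ (oneIrr G) = 1 ∧ ∃ S : Cfsg.IrrCharacter G, Pair D (oneIrr G) S ∧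
      D.K.δ (D.K.Λ j₀) = -D.K.δ S ∧
      (Cfsg.charDegree (D.K.Λ j₀ : G → ℂ) : ℤ)
        = (Cfsg.charDegree (S : G → ℂ) : ℤ) + D.K.δ S := by
  have hp5 := X.hp5
  have hpz : (5 : ℤ) < (p : ℤ) := by exact_mod_cast hp5
  have hd1 : Cfsg.charDegree ((oneIrr G : Cfsg.IrrCharacter G) : G → ℂ) = 1 := charDegree_one_fun
  have hS : oneIrr G ∈ D.K.S := by
    refine ⟨h1, ?_⟩
    rintro ⟨j, hj⟩
    have h2 := deg_Y X D j
    rw [hj, hd1] at h2
    obtain ⟨c, hc⟩ := Int.modEq_iff_dvd.mp h2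
    rcases D.K.sgn (oneIrr G) with s | s
    · rw [s] at hc
      have hc' : (p : ℤ) * c = -3 := by push_cast at hc; linarith
      have : c ≤ -1 := by
        by_contra hcc
        have : 0 ≤ c := by omega
        nlinarith
      nlinarith
    · rw [s] at hc
      have hc' : (p : ℤ) * c = 1 := by push_cast at hc; linarith
      have : 1 ≤ c := by
        by_contra hcc
        have : c ≤ 0 := by omega
        nlinarith
      nlinarith
  have hδ1 : D.K.δ (oneIrr G) = 1 := by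
    rcases D.K.sgn (oneIrr G) with s | s
    · exact s
    · exfalso
      have h2 := deg_S X D hS
      rw [s, hd1] at h2
      obtain ⟨c, hc⟩ := Int.modEq_iff_dvd.mp h2
      have hc' : (p : ℤ) * c = -2 := by push_cast at hc; linarith
      have : c ≤ -1 := by
        by_contra hcc
        have : 0 ≤ c := by omega
        nlinarith
      nlinarith
  refine ⟨hδ1, ?_⟩
  obtain ⟨S, h⟩ := exists_other X D hS
  have hrel := rel_deg X D h j₀
  rw [hδ1, hd1] at hrel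
  have hdS := deg_pos' X S
  have hdY := deg_pos' X (D.K.Λ j₀)
  refine ⟨S, h, ?_⟩
  rcases D.K.sgn S with s | s <;> rcases D.K.sgn (D.K.Λ j₀) with t | t
  · exfalso
    rw [s, t] at hrel
    push_cast at hrel
    linarith
  · rw [s, t] at hrel ⊢
    push_cast at hrel
    constructor
    · ring
    · linarith
  · rw [s, t] at hrel ⊢
    push_cast at hrel
    constructor
    · ring
    · linarith
  · exfalso
    rw [s, t] at hrel
    push_cast at hrel
    linarith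

end Blk

end Cfsg.Agent.Lib.Helper6.BG
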