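import Mathlib
import Cfsg.Agent.Lib.Helper6.BG8

/-!
# Brauer's theorem on characters of degree `p - 2`: the sign character of the normalizer,
induced to the group
-/

set_option autoImplicit false
set_option linter.unusedSectionVars false
set_option linter.unusedVariables false
set_option linter.style.longLine false
set_option maxHeartbeats 1600000

namespace Cfsg.Agent.Lib.Helper6.BG

open Cfsg.Agent.Lib.Helper6 Cfsg.Agent.Lib.Helper6.PB Cfsg.Agent.Lib.Helper6.BR
  Cfsg.Agent.Lib.Helper6.BH Cfsg.Agent.Lib.Helper6.IndFunMore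
open scoped ComplexConjugate

variable {G : Type*} [Group G] [Fintype G] [DecidableEq G] {p : ℕ} [hp : Fact p.Prime]
variable {P : Sylow p G}
variable [Fintype ↥(Subgroup.centralizer ((P : Subgroup G) : Set G))]
variable [Fintype ↥(Subgroup.normalizer ((P : Subgroup G) : Set G))]
variable {M : Ideal Cfsg.AlgInt}

local notation "𝐂" => Subgroup.centralizer ((P : Subgroup G) : Set G)
local notation "𝐍" => Subgroup.normalizer ((P : Subgroup G) : Set G)

theorem vanish_of_dvd (X : Ctx M P) (χ : Cfsg.IrrCharacter G)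
    (h : p ∣ Cfsg.charDegree (χ : G → ℂ)) (g : G) (hg : p ∣ orderOf g) : (χ : G → ℂ) g = 0 :=
  IsIrrCharacter.eq_zero_of_defect_zero χ.2 p 1 hp.out
    (by rw [pow_one]; exact dvd_card P X.hP) (not_sq_dvd_card P X.hP)
    (by rw [pow_one]; exact h) g hg

theorem exists_nm (X : Ctx M P) : ∃ nm : Cfsg.IrrCharacter G → ℕ, ∀ χ : Cfsg.IrrCharacter G,
    Cfsg.classInner (fun w : 𝐍 => (χ : G → ℂ) w) (sg P (-1)) = nm χ :=
  ⟨fun χ => (IsCharacter.classInner_nat
      (IsCharacter.restrict 𝐍 (IsIrrCharacter.isCharacter χ.2)) (sg_isCharacter X)).choose,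
    fun χ => (IsCharacter.classInner_nat
      (IsCharacter.restrict 𝐍 (IsIrrCharacter.isCharacter χ.2)) (sg_isCharacter X)).choose_spec⟩

theorem ind_sg_apply (X : Ctx M P) {x : G} (hx : x ∈ (P : Subgroup G)) (hx1 : x ≠ 1) :
    Cfsg.indFun 𝐍 (sg P (-1)) x = 1 := by
  unfold Cfsg.indFun
  have h1 : ∀ y : G, Cfsg.extendByZero 𝐍 (sg P (-1)) (y⁻¹ * x * y)
      = Cfsg.extendByZero 𝐍 (fun _ => (1 : ℂ)) y := by
    intro y
    by_cases hy : y ∈ 𝐍
    · have hm : y⁻¹ * x * y ∈ (P : Subgroup G) := conj_mem_P' P hy hx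
      rw [extendByZero_of_mem 𝐍 _ (P_le_N P hm), extendByZero_of_mem 𝐍 _ hy,
        sg_of_mem _ (P_le_C P X.hP hm)]
    · rw [extendByZero_of_not_mem 𝐍 _ hy]
      apply extendByZero_of_not_mem
      intro hmem
      exact hy (mem_N_of_conj_mem P X.hP hx hx1 hmem)
  rw [Finset.sum_congr rfl (fun y _ => h1 y), sum_extendByZero_const, mul_one]
  exact inv_mul_cancel₀ (card_ne_zero_complex _)

theorem classInner_ind_sg (X : Ctx M P) {nm : Cfsg.IrrCharacter G → ℕ}
    (hnm : ∀ χ : Cfsg.IrrCharacter G,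
      Cfsg.classInner (fun w : 𝐍 => (χ : G → ℂ) w) (sg P (-1)) = nm χ)
    (χ : Cfsg.IrrCharacter G) :
    Cfsg.classInner (Cfsg.indFun 𝐍 (sg P (-1))) (χ : G → ℂ) = nm χ := by
  rw [classInner_indFun 𝐍 (sg P (-1)) (χ : G → ℂ) (IsIrrCharacter.isClassFunction χ.2)]
  have h := congrArg conj (hnm χ)
  unfold Cfsg.classInner at h
  rw [map_mul, map_inv₀, map_natCast, map_natCast, map_sum] at h
  rw [← h]
  congr 1
  apply Finset.sum_congr rfl
  intro w _
  rw [map_mul, Complex.conj_conj, mul_comm]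

theorem cch_of_nm_ne_zero (X : Ctx M P) {nm : Cfsg.IrrCharacter G → ℕ}
    (hnm : ∀ χ : Cfsg.IrrCharacter G,
      Cfsg.classInner (fun w : 𝐍 => (χ : G → ℂ) w) (sg P (-1)) = nm χ)
    (χ : Cfsg.IrrCharacter G) (h0 : nm χ ≠ 0) : cch χ = cch (oneIrr G) := by
  apply Subtype.ext
  funext u
  rw [cch_oneIrr]
  have hT := hnm χ
  unfold Cfsg.classInner at hT
  have hT0 : ∑ w : 𝐍, (χ : G → ℂ) w * conj (sg P (-1) w) ≠ 0 := by
    intro h
    rw [h, mul_zero] at hT
    exact h0 (by exact_mod_cast hT.symm)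
  have huC : (u : G) ∈ 𝐂 := Subgroup.center_le_centralizer _ u.2
  obtain ⟨uu, huu⟩ : ∃ uu : 𝐍, (uu : G) = (u : G) := ⟨⟨(u : G), C_le_N P huC⟩, rfl⟩
  have hre : ∑ w : 𝐍, (χ : G → ℂ) w * conj (sg P (-1) w)
      = ∑ w : 𝐍, (χ : G → ℂ) ((uu * w : 𝐍) : G) * conj (sg P (-1) (uu * w)) :=
    (Equiv.sum_comp (Equiv.mulLeft uu)
      (fun w : 𝐍 => (χ : G → ℂ) w * conj (sg P (-1) w))).symm
  have hterm : ∀ w : 𝐍, (χ : G → ℂ) ((uu * w : 𝐍) : G) * conj (sg P (-1) (uu * w))
      = (cch χ : Subgroup.center G → ℂ) u * ((χ : G → ℂ) w * conj (sg P (-1) w)) := by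
    intro w
    have h1 : ((uu * w : 𝐍) : G) = (u : G) * (w : G) := by rw [Subgroup.coe_mul, huu]
    rw [h1, cch_mul χ u (w : G)]
    have h2 : sg P (-1) (uu * w) = sg P (-1) w := by
      by_cases hw : (w : G) ∈ 𝐂
      · rw [sg_of_mem _ hw, sg_of_mem]
        rw [h1]
        exact mul_mem huC hw
      · rw [sg_of_not_mem _ hw, sg_of_not_mem]
        rw [h1]
        intro h3
        apply hw
        have := mul_mem (inv_mem huC) h3
        simpa using this
    rw [h2]
    ring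
  rw [Finset.sum_congr rfl (fun w _ => hterm w), ← Finset.mul_sum] at hre
  have h4 : ((cch χ : Subgroup.center G → ℂ) u - 1)
      * ∑ w : 𝐍, (χ : G → ℂ) w * conj (sg P (-1) w) = 0 := by linear_combination -hre
  rcases mul_eq_zero.mp h4 with h | h
  · linear_combination h
  · exact absurd h hT0

/-- the multiplicity of the canonical character in an exceptional character does not depend on
the exceptional character -/
theorem mlt_Y_const (X : Ctx M P) (D : Blk M P) (i j : D.L.J) :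
    mlt P (D.K.Λ i) D.L.θ = mlt P (D.K.Λ j) D.L.θ := by
  obtain ⟨k, hk, hk1, hpw⟩ := D.K.exists_powIrr_eq X.hP X.hM D.hB D.hBP D.hind i j
  have hreg := reg_of_modEq (G := G) (p := p) hk1
  have h1 := mlt_pow P k hk (D.K.Λ j) D.L.θ
  rw [pw_theta X.hP X.hM D.L.hb D.L.hθ D.L.hθP hk hreg, hpw] at h1
  exact h1

end Cfsg.Agent.Lib.Helper6.BG
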