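import Mathlib
import Cfsg.Agent.Lib.Helper6.BG9

/-!
# Brauer's theorem on characters of degree `p - 2`: the value of the second non-exceptional
character of the principal block on the elements of `N` outside `C`
-/

set_option autoImplicit false
set_option linter.unusedSectionVars false
set_option linter.unusedVariables false
set_option linter.style.longLine false
set_option maxHeartbeats 1600000

namespace Cfsg.Agent.Lib.Helper6.BG

open Cfsg.Agent.Lib.Helper6 Cfsg.Agent.Lib.Helper6.PB Cfsg.Agent.Lib.Helper6.BR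
  Cfsg.Agent.Lib.Helper6.BH Cfsg.Agent.Lib.Helper6.IndFunMore
open scoped ComplexConjugate

variable {G : Type*} [Group G] [Fintype G] [DecidableEq G] {p : ℕ} [hp : Fact p.Prime]
variable {P : Sylow p G}
variable [Fintype ↥(Subgroup.centralizer ((P : Subgroup G) : Set G))]
variable [Fintype ↥(Subgroup.normalizer ((P : Subgroup G) : Set G))]
variable {M : Ideal Cfsg.AlgInt}

local notation "𝐂" => Subgroup.centralizer ((P : Subgroup G) : Set G)
local notation "𝐍" => Subgroup.normalizer ((P : Subgroup G) : Set G)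

/-- a `p`-regular element of the normalizer outside the centralizer -/
structure SEl (P : Sylow p G) (s : G) : Prop where
  hN : s ∈ Subgroup.normalizer ((P : Subgroup G) : Set G)
  hC : s ∉ Subgroup.centralizer ((P : Subgroup G) : Set G)
  hreg : ¬ p ∣ orderOf s

theorem exists_SEl (X : Ctx M P) : ∃ s : G, SEl P s := by
  have hidx : (CN P).index = 2 := X.hrel
  obtain ⟨w, hw⟩ : ∃ w : 𝐍, w ∉ CN P := by
    by_contra hall
    have htop : CN P = ⊤ := by
      rw [eq_top_iff]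
      intro w _
      by_contra hw
      exact hall ⟨w, hw⟩
    rw [htop, Subgroup.index_top] at hidx
    omega
  have hwC : (w : G) ∉ 𝐂 := fun h => hw ((mem_CN P w).mpr h)
  have hp5 := X.hp5
  obtain ⟨k, hk⟩ : ∃ k, p = 2 * k + 1 := by
    rcases hp.out.eq_two_or_odd' with h | h
    · omega
    · obtain ⟨k, hk⟩ := h
      exact ⟨k, hk⟩
  refine ⟨(w : G) ^ p, pow_mem w.2 p, ?_, ?_⟩
  · intro h
    apply hwC
    have h1 : ((w : G) * (w : G)) ^ k ∈ 𝐂 := pow_mem (sq_mem_C X w.2) k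
    have h2' : ∀ n : ℕ, n = 2 * k + 1 → (w : G) ^ n = ((w : G) * (w : G)) ^ k * (w : G) := by
      intro n hn
      rw [hn, pow_succ, ← pow_two, ← pow_mul]
    have h2 := h2' p hk
    have h3 := mul_mem (inv_mem h1) h
    rw [h2] at h3
    simpa using h3
  · intro hdvd
    have hn0 : p ≠ 0 := hp.out.ne_zero
    rw [orderOf_pow' (w : G) hn0] at hdvd
    by_cases hpn : p ∣ orderOf (w : G)
    · have hg : Nat.gcd (orderOf (w : G)) p = p := Nat.gcd_eq_right hpn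
      rw [hg] at hdvd
      obtain ⟨c, hc⟩ := hpn
      rw [hc, Nat.mul_div_cancel_left _ hp.out.pos] at hdvd
      obtain ⟨d, hd⟩ := hdvd
      apply not_sq_dvd_card P X.hP
      have h4 : p ^ 2 ∣ orderOf (w : G) := ⟨d, by rw [hc, hd]; ring⟩
      exact h4.trans (orderOf_dvd_natCard _)
    · have hg : Nat.gcd (orderOf (w : G)) p = 1 := by
        rw [Nat.gcd_comm]
        exact (Nat.Prime.coprime_iff_not_dvd hp.out).mpr hpn
      rw [hg, Nat.div_one] at hdvd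
      exact hpn hdvd

theorem exists_mem_P_ne_one (X : Ctx M P) : ∃ x ∈ (P : Subgroup G), x ≠ 1 ∧ p ∣ orderOf x := by
  obtain ⟨x, hx, hox⟩ := exists_gen P X.hP
  have hxP : x ∈ (P : Subgroup G) := by rw [hx]; exact Subgroup.mem_zpowers x
  refine ⟨x, hxP, ?_, by rw [hox]⟩
  intro h
  rw [h, orderOf_one] at hox
  have := hp.out.one_lt
  omega

theorem mlt_one_prin (X : Ctx M P) (D : Blk M P) (h1 : oneIrr G ∈ D.B) :
    mlt P (oneIrr G) D.L.θ = 1 := by
  have h := sum_C_mul_conj X.hP X.hM (oneIrr G) D.L.θ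
  have h2 : ∀ c : 𝐂, ((oneIrr G : Cfsg.IrrCharacter G) : G → ℂ) c * conj ((D.L.θ : 𝐂 → ℂ) c)
      = 1 := by
    intro c
    rw [theta_eq_one X D h1 c]
    simp [oneIrr]
  rw [Finset.sum_congr rfl (fun c _ => h2 c), Finset.sum_const, Finset.card_univ, nsmul_eq_mul,
    mul_one, ← Nat.card_eq_fintype_card] at h
  have hC0 : (Nat.card 𝐂 : ℂ) ≠ 0 := Nat.cast_ne_zero.mpr Nat.card_pos.ne'
  have h3 : (Nat.card 𝐂 : ℂ) * ((mlt P (oneIrr G) D.L.θ : ℂ) - 1) = 0 := by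
    linear_combination -h
  rcases mul_eq_zero.mp h3 with h4 | h4
  · exact absurd h4 hC0
  · have h5 : ((mlt P (oneIrr G) D.L.θ : ℕ) : ℂ) = ((1 : ℕ) : ℂ) := by
      push_cast; linear_combination h4
    exact_mod_cast h5

/-- the relation coming from the induced sign character -/
theorem ind_relation (X : Ctx M P) (D : Blk M P) (h1 : oneIrr G ∈ D.B) (j₀ : D.L.J)
    {S : Cfsg.IrrCharacter G} (hpair : Pair D (oneIrr G) S) {s : G} (hs : SEl P s)
    {nm : Cfsg.IrrCharacter G → ℕ}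
    (hnm : ∀ χ : Cfsg.IrrCharacter G,
      Cfsg.classInner (fun w : 𝐍 => (χ : G → ℂ) w) (sg P (-1)) = nm χ) :
    (nm S : ℤ) * D.K.δ S + (nm (D.K.Λ j₀) : ℤ) * D.K.δ (D.K.Λ j₀) = 1 := by
  classical
  have : Fintype (Cfsg.IrrCharacter G) := Fintype.ofFinite _
  have : Fintype D.L.J := Fintype.ofFinite _
  obtain ⟨x, hxP, hx1, hxs⟩ := exists_mem_P_ne_one X
  have hπ := ind_sg_apply X hxP hx1
  have hexp := congrFun (classFunction_eq_sum (Cfsg.indFun 𝐍 (sg P (-1)))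
    (indFun_isClassFunction 𝐍 _)) x
  rw [hπ, Finset.sum_apply] at hexp
  simp only [Pi.smul_apply, smul_eq_mul, classInner_ind_sg X hnm] at hexp
  -- reduce to the block
  have hred : ∑ χ : Cfsg.IrrCharacter G, (nm χ : ℂ) * (χ : G → ℂ) x
      = ∑ χ ∈ Finset.univ.filter (· ∈ D.B), (nm χ : ℂ) * (χ : G → ℂ) x := by
    symm
    apply Finset.sum_subset (Finset.filter_subset _ _)
    intro χ _ hχ
    by_cases h0 : nm χ = 0
    · rw [h0]; simp
    · have hc := cch_of_nm_ne_zero X hnm χ h0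
      by_cases hd : p ∣ Cfsg.charDegree (χ : G → ℂ)
      · rw [vanish_of_dvd X χ hd x hxs, mul_zero]
      · exfalso
        apply hχ
        exact Finset.mem_filter.mpr ⟨Finset.mem_univ _, Blk.mem_of_cch X D h1 χ hd hc⟩
  rw [hred, sum_block_split D.K (fun χ => (nm χ : ℂ) * (χ : G → ℂ) x), hpair.sum_S] at hexp
  -- the element `x` as an element of the centralizer
  obtain ⟨xc, hxc⟩ : ∃ xc : 𝐂, (xc : G) = x := ⟨⟨x, P_le_C P X.hP hxP⟩, rfl⟩
  have hxcs : p ∣ orderOf xc := by rw [← Subgroup.orderOf_coe, hxc]; exact hxs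
  have hθx : (D.L.θ : 𝐂 → ℂ) xc = 1 := theta_eq_one X D h1 xc
  have hvalS : ∀ χ ∈ D.K.S, (χ : G → ℂ) x = (D.K.δ χ : ℂ) * 1 := by
    intro χ hχ
    have := Blk.val_S X D hχ xc hxcs
    rw [hxc, hθx] at this
    exact this
  have hsumY := Blk.sum_Y_of_S X D j₀ x hxs 1 hvalS
  -- the multiplicities
  have hnm1 : nm (oneIrr G) = 0 := by
    obtain ⟨n₁, n₂, e1, e2, e3⟩ := lemmaL_prin X D h1 h1 hs.hN hs.hC
    rw [hnm] at e1
    have e1' : nm (oneIrr G) = n₂ := by exact_mod_cast e1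
    rw [mlt_one_prin X D h1] at e2
    have e3' : ((oneIrr G : Cfsg.IrrCharacter G) : G → ℂ) s = 1 := rfl
    rw [e3'] at e3
    have e4 : ((n₂ + 1 : ℕ) : ℂ) = ((n₁ : ℕ) : ℂ) := by push_cast; linear_combination e3
    have e5 : n₂ + 1 = n₁ := by exact_mod_cast e4
    omega
  have hconst : ∀ j : D.L.J, nm (D.K.Λ j) = nm (D.K.Λ j₀) := by
    intro j
    obtain ⟨n₁, n₂, e1, e2, e3⟩ := lemmaL_prin X D h1 (D.K.mem j) hs.hN hs.hC
    obtain ⟨n₁', n₂', e1', e2', e3'⟩ := lemmaL_prin X D h1 (D.K.mem j₀) hs.hN hs.hC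
    rw [hnm] at e1 e1'
    have f1 : nm (D.K.Λ j) = n₂ := by exact_mod_cast e1
    have f1' : nm (D.K.Λ j₀) = n₂' := by exact_mod_cast e1'
    rw [mlt_Y_const X D j j₀] at e2
    rw [D.K.agree X.hP X.hM D.hind j j₀ s hs.hreg, e3'] at e3
    have e4 : ((n₁ + n₂' : ℕ) : ℂ) = ((n₁' + n₂ : ℕ) : ℂ) := by
      push_cast; linear_combination -e3
    have e5 : n₁ + n₂' = n₁' + n₂ := by exact_mod_cast e4
    omega
  have hY : ∑ j : D.L.J, (nm (D.K.Λ j) : ℂ) * (D.K.Λ j : G → ℂ) x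
      = (nm (D.K.Λ j₀) : ℂ) * ((D.K.δ (D.K.Λ j₀) : ℂ) * 1) := by
    rw [← hsumY, Finset.mul_sum]
    apply Finset.sum_congr rfl
    intro j _
    rw [hconst j]
  rw [hY, hnm1, hvalS S hpair.h₂] at hexp
  have hfin : (((nm S : ℤ) * D.K.δ S + (nm (D.K.Λ j₀) : ℤ) * D.K.δ (D.K.Λ j₀) : ℤ) : ℂ)
      = ((1 : ℤ) : ℂ) := by
    push_cast
    linear_combination -hexp
  exact_mod_cast hfin

/-- the value of `S` at `s` -/
theorem S_bound (X : Ctx M P) (D : Blk M P) (h1 : oneIrr G ∈ D.B) (j₀ : D.L.J)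
    {S : Cfsg.IrrCharacter G} (hpair : Pair D (oneIrr G) S)
    (hδY : D.K.δ (D.K.Λ j₀) = -D.K.δ S) {s : G} (hs : SEl P s) :
    ∃ m : ℤ, (S : G → ℂ) s = (m : ℂ) ∧ |m| ≤ (mlt P S D.L.θ : ℤ) ∧
      (D.K.δ S = 1 → m + 2 ≤ (mlt P S D.L.θ : ℤ)) := by
  obtain ⟨nm, hnm⟩ := exists_nm X
  obtain ⟨n₁, n₂, e1, e2, e3⟩ := lemmaL_prin X D h1 hpair.h₂.1 hs.hN hs.hC
  rw [hnm] at e1
  have f1 : nm S = n₂ := by exact_mod_cast e1
  refine ⟨(n₁ : ℤ) - n₂, ?_, ?_, ?_⟩
  · rw [e3]; push_cast; ring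
  · rw [← e2]; push_cast; rw [abs_le]; constructor <;> omega
  · intro hδ
    have hrel := ind_relation X D h1 j₀ hpair hs hnm
    rw [hδY, hδ, f1] at hrel
    rw [← e2]
    push_cast
    have : (0 : ℤ) ≤ (nm (D.K.Λ j₀) : ℤ) := Int.natCast_nonneg _
    linarith

end Cfsg.Agent.Lib.Helper6.BG
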