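import Mathlib
import Cfsg.Agent.Lib.Helper6.BG10

/-!
# Brauer's theorem on characters of degree `p - 2`: products of two conjugates of an element of
`N` outside `C`
-/

set_option autoImplicit false
set_option linter.unusedSectionVars false
set_option linter.unusedVariables false
set_option linter.style.longLine false
set_option maxHeartbeats 1600000

namespace Cfsg.Agent.Lib.Helper6.BG

open Cfsg.Agent.Lib.Helper6 Cfsg.Agent.Lib.Helper6.PB Cfsg.Agent.Lib.Helper6.BR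
  Cfsg.Agent.Lib.Helper6.BH
open scoped ComplexConjugate

variable {G : Type*} [Group G] [Fintype G] [DecidableEq G] {p : ℕ} [hp : Fact p.Prime]
variable {P : Sylow p G}
variable [Fintype ↥(Subgroup.centralizer ((P : Subgroup G) : Set G))]
variable [Fintype ↥(Subgroup.normalizer ((P : Subgroup G) : Set G))]
variable {M : Ideal Cfsg.AlgInt}

local notation "𝐂" => Subgroup.centralizer ((P : Subgroup G) : Set G)
local notation "𝐍" => Subgroup.normalizer ((P : Subgroup G) : Set G)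

theorem sq_central (X : Ctx M P) {s : G} (hs : SEl P s) : s * s ∈ Subgroup.center G := by
  have h1 : s * s ∈ 𝐂 := sq_mem_C X hs.hN
  apply X.hcen ⟨s * s, h1⟩
  rw [← Subgroup.orderOf_coe]
  intro hd
  apply hs.hreg
  have h2 : orderOf (s * s) ∣ orderOf s := by
    apply orderOf_dvd_of_pow_eq_one
    rw [← pow_two, ← pow_mul, mul_comm, pow_mul, pow_orderOf_eq_one, one_pow]
  exact hd.trans h2

theorem central_pow_eq_one (X : Ctx M P) {v : G} (hv : v ∈ Subgroup.center G)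
    (h : v ^ p = 1) : v = 1 := by
  have h1 : orderOf v ∣ p := orderOf_dvd_of_pow_eq_one h
  rcases (Nat.dvd_prime hp.out).mp h1 with h2 | h2
  · exact orderOf_eq_one_iff.mp h2
  · exfalso
    exact X.hZreg v hv (by rw [h2])

/-- if a product of two conjugates of `s` is a central element times a non-trivial element of
`P`, then the central element is the square of `s` -/
theorem twist_unique (X : Ctx M P) {s : G} (hs : SEl P s)
    (hnf : ∀ y ∈ Subgroup.center G, ∀ g : G, g * s * g⁻¹ = s * y → y = 1)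
    {x : G} (hxP : x ∈ (P : Subgroup G)) (hx1 : x ≠ 1) (g₁ g₂ : G) {u : G}
    (hu : u ∈ Subgroup.center G)
    (h : g₁ * s * g₁⁻¹ * (g₂ * s * g₂⁻¹) = u * x) : u = s * s := by
  have hw₀ := sq_central X hs
  have hw₀c : ∀ g : G, g * (s * s) = (s * s) * g := Subgroup.mem_center_iff.mp hw₀
  have huc : ∀ g : G, g * u = u * g := Subgroup.mem_center_iff.mp hu
  have hcm : u⁻¹ ∈ Subgroup.center G := inv_mem hu
  have hcc : ∀ g : G, g * u⁻¹ = u⁻¹ * g := Subgroup.mem_center_iff.mp hcm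
  obtain ⟨a, ha⟩ : ∃ a : G, a = g₁ * s * g₁⁻¹ := ⟨_, rfl⟩
  obtain ⟨b, hb⟩ : ∃ b : G, b = g₂ * s * g₂⁻¹ := ⟨_, rfl⟩
  rw [← ha, ← hb] at h
  have haa : a * a = s * s := by
    rw [ha]
    calc g₁ * s * g₁⁻¹ * (g₁ * s * g₁⁻¹) = g₁ * (s * s) * g₁⁻¹ := by group
      _ = s * s * g₁ * g₁⁻¹ := by rw [hw₀c g₁]
      _ = s * s := by group
  have hbb : b * b = s * s := by
    rw [hb]
    calc g₂ * s * g₂⁻¹ * (g₂ * s * g₂⁻¹) = g₂ * (s * s) * g₂⁻¹ := by group
      _ = s * s * g₂ * g₂⁻¹ := by rw [hw₀c g₂]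
      _ = s * s := by group
  have hx : x = u⁻¹ * (a * b) := by rw [h]; group
  -- `a x a⁻¹ x` is central
  have h1 : a * x = u⁻¹ * (s * s * b) := by
    calc a * x = a * (u⁻¹ * (a * b)) := by rw [← hx]
      _ = (a * u⁻¹) * (a * b) := by group
      _ = (u⁻¹ * a) * (a * b) := by rw [hcc a]
      _ = u⁻¹ * (a * a * b) := by group
      _ = u⁻¹ * (s * s * b) := by rw [haa]
  have h2 : a⁻¹ * x = u⁻¹ * b := by
    calc a⁻¹ * x = a⁻¹ * (u⁻¹ * (a * b)) := by rw [← hx]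
      _ = (a⁻¹ * u⁻¹) * (a * b) := by group
      _ = (u⁻¹ * a⁻¹) * (a * b) := by rw [hcc a⁻¹]
      _ = u⁻¹ * b := by group
  obtain ⟨v, hv⟩ : ∃ v : G, v = u⁻¹ * (s * s) * (u⁻¹ * (s * s)) := ⟨_, rfl⟩
  have hvc : v ∈ Subgroup.center G := by
    rw [hv]
    exact mul_mem (mul_mem hcm hw₀) (mul_mem hcm hw₀)
  have hvcc : ∀ g : G, g * v = v * g := Subgroup.mem_center_iff.mp hvc
  have h3 : a * x * a⁻¹ * x = v := by
    calc a * x * a⁻¹ * x = (a * x) * (a⁻¹ * x) := by group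
      _ = u⁻¹ * (s * s * b) * (u⁻¹ * b) := by rw [h1, h2]
      _ = u⁻¹ * (s * s) * (b * u⁻¹) * b := by group
      _ = u⁻¹ * (s * s) * (u⁻¹ * b) * b := by rw [hcc b]
      _ = u⁻¹ * (s * s) * u⁻¹ * (b * b) := by group
      _ = u⁻¹ * (s * s) * u⁻¹ * (s * s) := by rw [hbb]
      _ = v := by rw [hv]; group
  have h4 : a * x * a⁻¹ = v * x⁻¹ := by rw [← h3]; group
  have hox : orderOf x = p := orderOf_eq_of_mem P X.hP hxP hx1
  have hxp : x ^ p = 1 := by rw [← hox]; exact pow_orderOf_eq_one x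
  have hv1 : v = 1 := by
    apply central_pow_eq_one X hvc
    have h5 : (a * x * a⁻¹) ^ p = 1 := by rw [conj_pow, hxp]; group
    rw [h4] at h5
    have hcomm : Commute v x⁻¹ := (hvcc x⁻¹).symm
    rw [hcomm.mul_pow, inv_pow, hxp, inv_one, mul_one] at h5
    exact h5
  rw [hv1, one_mul] at h4
  -- `a` normalizes `P` and does not centralize it
  have haN : a ∈ 𝐍 := by
    have h6 : a⁻¹ ∈ 𝐍 := by
      apply mem_N_of_conj_mem P X.hP hxP hx1
      rw [inv_inv, h4]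
      exact P_le_N P (inv_mem hxP)
    have := inv_mem h6
    rwa [inv_inv] at this
  have haC : a ∉ 𝐂 := by
    intro haC
    have h7 : x * a = a * x := (Subgroup.mem_centralizer_iff.mp haC) x hxP
    have h8 : a * x * a⁻¹ = x := by rw [← h7]; group
    rw [h4] at h8
    have h9 : x ^ 2 = 1 := by
      rw [pow_two]
      calc x * x = x⁻¹ * x := by rw [h8]
        _ = 1 := by group
    have h10 : orderOf x ∣ 2 := orderOf_dvd_of_pow_eq_one h9
    rw [hox] at h10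
    have := Nat.le_of_dvd (by norm_num) h10
    have := X.hp5
    omega
  -- `a = s z y`
  have hidx : (CN P).index = 2 := X.hrel
  have hsinv : (⟨s⁻¹, inv_mem hs.hN⟩ : 𝐍) ∉ CN P := by
    rw [mem_CN]
    intro h'
    apply hs.hC
    have := inv_mem h'
    simpa using this
  have haCN : (⟨a, haN⟩ : 𝐍) ∉ CN P := by rw [mem_CN]; exact haC
  have hsa : s⁻¹ * a ∈ 𝐂 := by
    have h11 := (Subgroup.mul_mem_iff_of_index_two hidx (a := (⟨s⁻¹, inv_mem hs.hN⟩ : 𝐍))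
      (b := (⟨a, haN⟩ : 𝐍))).mpr ⟨fun h' => absurd h' hsinv, fun h' => absurd h' haCN⟩
    exact (mem_CN P _).mp h11
  obtain ⟨z, hz, y, hy, hzy⟩ := decomp_C X ⟨s⁻¹ * a, hsa⟩
  have hzy' : s⁻¹ * a = z * y := hzy
  have hyc : ∀ g : G, g * y = y * g := Subgroup.mem_center_iff.mp hy
  have haszy : a = s * z * y := by
    calc a = s * (s⁻¹ * a) := by group
      _ = s * (z * y) := by rw [hzy']
      _ = s * z * y := by group
  obtain ⟨t, ht, hts⟩ := conjP X.hP hs.hN hs.hC hz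
  have hy1 : y = 1 := by
    apply hnf y hy (t⁻¹ * g₁)
    calc (t⁻¹ * g₁) * s * (t⁻¹ * g₁)⁻¹ = t⁻¹ * (g₁ * s * g₁⁻¹) * t := by group
      _ = t⁻¹ * (s * z * y) * t := by rw [← ha, haszy]
      _ = t⁻¹ * (t * s * t⁻¹ * y) * t := by rw [hts]
      _ = s * (t⁻¹ * y) * t := by group
      _ = s * (y * t⁻¹) * t := by rw [hyc t⁻¹]
      _ = s * y := by group
  rw [hy1, mul_one] at haszy
  -- `b`
  obtain ⟨y', hy'⟩ : ∃ y' : G, y' = (s * s)⁻¹ * u := ⟨_, rfl⟩
  have hy'c : y' ∈ Subgroup.center G := by rw [hy']; exact mul_mem (inv_mem hw₀) hu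
  have hy'cc : ∀ g : G, g * y' = y' * g := Subgroup.mem_center_iff.mp hy'c
  have hwi : ∀ g : G, g * (s * s)⁻¹ = (s * s)⁻¹ * g :=
    Subgroup.mem_center_iff.mp (inv_mem hw₀)
  obtain ⟨z₂, hz₂⟩ : ∃ z₂ : G, z₂ = s⁻¹ * z⁻¹ * s * x := ⟨_, rfl⟩
  have hz₂P : z₂ ∈ (P : Subgroup G) := by
    rw [hz₂]
    exact mul_mem (conj_mem_P' P hs.hN (inv_mem hz)) hxP
  have hb1 : b = u * (z⁻¹ * s⁻¹ * x) := by
    calc b = a⁻¹ * (a * b) := by group
      _ = (s * z)⁻¹ * (u * x) := by rw [h, haszy]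
      _ = z⁻¹ * (s⁻¹ * u) * x := by group
      _ = z⁻¹ * (u * s⁻¹) * x := by rw [huc s⁻¹]
      _ = (z⁻¹ * u) * s⁻¹ * x := by group
      _ = (u * z⁻¹) * s⁻¹ * x := by rw [huc z⁻¹]
      _ = u * (z⁻¹ * s⁻¹ * x) := by group
  have hb2 : y' * (s * z₂) = u * (z⁻¹ * s⁻¹ * x) := by
    rw [hy', hz₂]
    calc (s * s)⁻¹ * u * (s * (s⁻¹ * z⁻¹ * s * x))
        = (s * s)⁻¹ * (u * z⁻¹) * (s * x) := by group
      _ = (u * z⁻¹) * (s * s)⁻¹ * (s * x) := by rw [hwi (u * z⁻¹)]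
      _ = u * (z⁻¹ * s⁻¹ * x) := by group
  have hb3 : b = y' * (s * z₂) := by rw [hb1, hb2]
  obtain ⟨t', ht', hts'⟩ := conjP X.hP hs.hN hs.hC hz₂P
  have hy'1 : y' = 1 := by
    apply hnf y' hy'c (t'⁻¹ * g₂)
    calc (t'⁻¹ * g₂) * s * (t'⁻¹ * g₂)⁻¹ = t'⁻¹ * (g₂ * s * g₂⁻¹) * t' := by group
      _ = t'⁻¹ * (y' * (s * z₂)) * t' := by rw [← hb, hb3]
      _ = t'⁻¹ * (y' * (t' * s * t'⁻¹)) * t' := by rw [hts']
      _ = (t'⁻¹ * y') * t' * s := by group
      _ = (y' * t'⁻¹) * t' * s := by rw [hy'cc t'⁻¹]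
      _ = y' * s := by group
      _ = s * y' := (hy'cc s).symm
  rw [hy'] at hy'1
  calc u = (s * s) * ((s * s)⁻¹ * u) := by group
    _ = s * s := by rw [hy'1, mul_one]

end Cfsg.Agent.Lib.Helper6.BG
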