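import Mathlib
import Cfsg.Agent.Lib.Helper6.BG11

/-!
# Brauer's theorem on characters of degree `p - 2`: the twisted class multiplication constants
-/

set_option autoImplicit false
set_option linter.unusedSectionVars false
set_option linter.unusedVariables false
set_option linter.style.longLine false
set_option maxHeartbeats 1600000

namespace Cfsg.Agent.Lib.Helper6.BG

open Cfsg.Agent.Lib.Helper6 Cfsg.Agent.Lib.Helper6.PB Cfsg.Agent.Lib.Helper6.BR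
  Cfsg.Agent.Lib.Helper6.BH
open scoped ComplexConjugate

variable {G : Type*} [Group G] [Fintype G] [DecidableEq G] {p : ℕ} [hp : Fact p.Prime]
variable {P : Sylow p G}
variable [Fintype ↥(Subgroup.centralizer ((P : Subgroup G) : Set G))]
variable [Fintype ↥(Subgroup.normalizer ((P : Subgroup G) : Set G))]
variable {M : Ideal Cfsg.AlgInt}

local notation "𝐂" => Subgroup.centralizer ((P : Subgroup G) : Set G)
local notation "𝐍" => Subgroup.normalizer ((P : Subgroup G) : Set G)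

theorem nofusion (ζ : Cfsg.IrrCharacter G)
    (hf : ∀ g, (ζ : G → ℂ) g = (ζ : G → ℂ) 1 → g = 1) {s : G} (hs0 : (ζ : G → ℂ) s ≠ 0) :
    ∀ y ∈ Subgroup.center G, ∀ g : G, g * s * g⁻¹ = s * y → y = 1 := by
  intro y hy g hg
  have h1 : (ζ : G → ℂ) (s * y) = (ζ : G → ℂ) s := by
    rw [← hg]; exact IsIrrCharacter.isClassFunction ζ.2 s g
  have h2 : s * y = y * s := Subgroup.mem_center_iff.mp hy s
  rw [h2, cch_mul ζ ⟨y, hy⟩ s] at h1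
  have h3 : (cch ζ : Subgroup.center G → ℂ) ⟨y, hy⟩ = 1 := by
    have h4 : ((cch ζ : Subgroup.center G → ℂ) ⟨y, hy⟩ - 1) * (ζ : G → ℂ) s = 0 := by
      linear_combination h1
    rcases mul_eq_zero.mp h4 with h | h
    · linear_combination h
    · exact absurd h hs0
  apply hf
  have h4 := cch_mul ζ ⟨y, hy⟩ 1
  rw [mul_one, h3, one_mul] at h4
  exact h4

/-- the twisted class multiplication constant has a single contribution -/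
theorem twist_identity (X : Ctx M P) {s : G} (hs : SEl P s)
    (hnf : ∀ y ∈ Subgroup.center G, ∀ g : G, g * s * g⁻¹ = s * y → y = 1)
    {x : G} (hxP : x ∈ (P : Subgroup G)) (hx1 : x ≠ 1) (ψ : Cfsg.IrrCharacter G)
    [Fintype (Cfsg.IrrCharacter G)] [Fintype (Subgroup.center G)]
    (𝔉 : Finset (Cfsg.IrrCharacter G)) (h𝔉 : ∀ χ, χ ∈ 𝔉 ↔ cch χ = cch ψ) :
    (cch ψ : Subgroup.center G → ℂ) ⟨s * s, sq_central X hs⟩ *
        ((Finset.univ.filter (fun q : G × G =>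
          q.1 * s * q.1⁻¹ * (q.2 * s * q.2⁻¹) = (s * s) * x)).card : ℂ)
      = (Nat.card G : ℂ) * (Nat.card (Subgroup.center G) : ℂ) *
        ∑ χ ∈ 𝔉, (χ : G → ℂ) s * (χ : G → ℂ) s * conj ((χ : G → ℂ) x) / (χ : G → ℂ) 1 := by
  rw [← twist_eq s s x ψ 𝔉 h𝔉]
  rw [Finset.sum_eq_single (⟨s * s, sq_central X hs⟩ : Subgroup.center G)]
  · intro u _ hne
    have hempty : Finset.univ.filter (fun q : G × G =>
        q.1 * s * q.1⁻¹ * (q.2 * s * q.2⁻¹) = (u : G) * x) = ∅ := by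
      apply Finset.filter_eq_empty_iff.mpr
      intro q _ hq
      apply hne
      apply Subtype.ext
      exact twist_unique X hs hnf hxP hx1 q.1 q.2 u.2 hq
    rw [hempty]
    simp
  · intro h
    exact absurd (Finset.mem_univ _) h

/-- comparison of the block sums of the twisted constants -/
theorem twist_blocks (X : Ctx M P) (D D₀ : Blk M P) (h1 : oneIrr G ∈ D₀.B)
    {ζ : Cfsg.IrrCharacter G} (hζ : ζ ∈ D.B)
    (hf : ∀ g, (ζ : G → ℂ) g = (ζ : G → ℂ) 1 → g = 1) {s : G} (hs : SEl P s)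
    (hs0 : (ζ : G → ℂ) s ≠ 0) {x : G} (hxP : x ∈ (P : Subgroup G)) (hx1 : x ≠ 1)
    (hxs : p ∣ orderOf x)
    (𝔅 𝔅₀ : Finset (Cfsg.IrrCharacter G)) (h𝔅 : ∀ χ, χ ∈ 𝔅 ↔ χ ∈ D.B)
    (h𝔅₀ : ∀ χ, χ ∈ 𝔅₀ ↔ χ ∈ D₀.B) :
    ∑ χ ∈ 𝔅, (χ : G → ℂ) s * (χ : G → ℂ) s * conj ((χ : G → ℂ) x) / (χ : G → ℂ) 1
      = (cch ζ : Subgroup.center G → ℂ) ⟨s * s, sq_central X hs⟩ *
        ∑ χ ∈ 𝔅₀, (χ : G → ℂ) s * (χ : G → ℂ) s * conj ((χ : G → ℂ) x) / (χ : G → ℂ) 1 := by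
  classical
  have : Fintype (Cfsg.IrrCharacter G) := Fintype.ofFinite _
  have : Fintype (Subgroup.center G) := Fintype.ofFinite _
  obtain ⟨𝔉, h𝔉⟩ : ∃ 𝔉 : Finset (Cfsg.IrrCharacter G), ∀ χ, χ ∈ 𝔉 ↔ cch χ = cch ζ :=
    ⟨Finset.univ.filter (fun χ => cch χ = cch ζ), fun χ => by simp⟩
  obtain ⟨𝔉₀, h𝔉₀⟩ : ∃ 𝔉₀ : Finset (Cfsg.IrrCharacter G), ∀ χ, χ ∈ 𝔉₀ ↔ cch χ = cch (oneIrr G) :=
    ⟨Finset.univ.filter (fun χ => cch χ = cch (oneIrr G)), fun χ => by simp⟩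
  have hnf := nofusion ζ hf hs0
  have t1 := twist_identity X hs hnf hxP hx1 ζ 𝔉 h𝔉
  have t0 := twist_identity X hs hnf hxP hx1 (oneIrr G) 𝔉₀ h𝔉₀
  rw [cch_oneIrr, one_mul] at t0
  have hvan : ∀ χ : Cfsg.IrrCharacter G, p ∣ Cfsg.charDegree (χ : G → ℂ) →
      (χ : G → ℂ) s * (χ : G → ℂ) s * conj ((χ : G → ℂ) x) / (χ : G → ℂ) 1 = 0 := by
    intro χ hχ
    rw [vanish_of_dvd X χ hχ x hxs]
    simp
  have e1 : ∑ χ ∈ 𝔉, (χ : G → ℂ) s * (χ : G → ℂ) s * conj ((χ : G → ℂ) x) / (χ : G → ℂ) 1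
      = ∑ χ ∈ 𝔅, (χ : G → ℂ) s * (χ : G → ℂ) s * conj ((χ : G → ℂ) x) / (χ : G → ℂ) 1 := by
    symm
    apply Finset.sum_subset
    · intro χ hχ
      exact (h𝔉 χ).mpr (Blk.cch_eq_cch X D ((h𝔅 χ).mp hχ) hζ)
    · intro χ hχ hχn
      apply hvan
      by_contra hnd
      exact hχn ((h𝔅 χ).mpr (Blk.mem_of_cch X D hζ χ hnd ((h𝔉 χ).mp hχ)))
  have e0 : ∑ χ ∈ 𝔉₀, (χ : G → ℂ) s * (χ : G → ℂ) s * conj ((χ : G → ℂ) x) / (χ : G → ℂ) 1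
      = ∑ χ ∈ 𝔅₀, (χ : G → ℂ) s * (χ : G → ℂ) s * conj ((χ : G → ℂ) x) / (χ : G → ℂ) 1 := by
    symm
    apply Finset.sum_subset
    · intro χ hχ
      exact (h𝔉₀ χ).mpr (Blk.cch_eq_cch X D₀ ((h𝔅₀ χ).mp hχ) h1)
    · intro χ hχ hχn
      apply hvan
      by_contra hnd
      exact hχn ((h𝔅₀ χ).mpr (Blk.mem_of_cch X D₀ h1 χ hnd ((h𝔉₀ χ).mp hχ)))
  rw [e1] at t1
  rw [e0] at t0
  have hG0 : (Nat.card G : ℂ) * (Nat.card (Subgroup.center G) : ℂ) ≠ 0 :=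
    mul_ne_zero (Nat.cast_ne_zero.mpr Nat.card_pos.ne') (Nat.cast_ne_zero.mpr Nat.card_pos.ne')
  rw [t0] at t1
  have h5 : (Nat.card G : ℂ) * (Nat.card (Subgroup.center G) : ℂ) *
      (∑ χ ∈ 𝔅, (χ : G → ℂ) s * (χ : G → ℂ) s * conj ((χ : G → ℂ) x) / (χ : G → ℂ) 1
        - (cch ζ : Subgroup.center G → ℂ) ⟨s * s, sq_central X hs⟩ *
          ∑ χ ∈ 𝔅₀, (χ : G → ℂ) s * (χ : G → ℂ) s * conj ((χ : G → ℂ) x) / (χ : G → ℂ) 1) = 0 := by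
    linear_combination -t1
  rcases mul_eq_zero.mp h5 with h | h
  · exact absurd h hG0
  · linear_combination h

/-- the block sum of the twisted constants in terms of the shape of the block -/
theorem T_formula (X : Ctx M P) (D : Blk M P) {χ₁ χ₂ : Cfsg.IrrCharacter G}
    (hpair : Pair D χ₁ χ₂) (j₀ : D.L.J) {s : G} (hsreg : ¬ p ∣ orderOf s) {x : G}
    (hxP : x ∈ (P : Subgroup G)) (hx1 : x ≠ 1) (hxs : p ∣ orderOf x)
    (𝔅 : Finset (Cfsg.IrrCharacter G)) (h𝔅 : ∀ χ, χ ∈ 𝔅 ↔ χ ∈ D.B) :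
    ∑ χ ∈ 𝔅, (χ : G → ℂ) s * (χ : G → ℂ) s * conj ((χ : G → ℂ) x) / (χ : G → ℂ) 1
      = (D.K.δ χ₁ : ℂ) * (χ₁ : G → ℂ) s ^ 2 / (χ₁ : G → ℂ) 1
        + (D.K.δ χ₂ : ℂ) * (χ₂ : G → ℂ) s ^ 2 / (χ₂ : G → ℂ) 1
        + (D.K.δ (D.K.Λ j₀) : ℂ) * (D.K.Λ j₀ : G → ℂ) s ^ 2 / (D.K.Λ j₀ : G → ℂ) 1 := by
  classical
  have : Fintype (Cfsg.IrrCharacter G) := Fintype.ofFinite _
  have : Fintype D.L.J := Fintype.ofFinite _
  have h𝔅' : 𝔅 = Finset.univ.filter (· ∈ D.B) := by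
    ext χ
    simp [h𝔅]
  rw [h𝔅', sum_block_split D.K
    (fun χ => (χ : G → ℂ) s * (χ : G → ℂ) s * conj ((χ : G → ℂ) x) / (χ : G → ℂ) 1),
    hpair.sum_S]
  obtain ⟨xc, hxc⟩ : ∃ xc : 𝐂, (xc : G) = x := ⟨⟨x, P_le_C P X.hP hxP⟩, rfl⟩
  have hxcs : p ∣ orderOf xc := by rw [← Subgroup.orderOf_coe, hxc]; exact hxs
  have hθx : (D.L.θ : 𝐂 → ℂ) xc = 1 := Blk.theta_P X D xc (by rw [hxc]; exact hxP)
  have hvalS : ∀ χ ∈ D.K.S, (χ : G → ℂ) x = (D.K.δ χ : ℂ) * 1 := by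
    intro χ hχ
    have := Blk.val_S X D hχ xc hxcs
    rw [hxc, hθx] at this
    exact this
  have hsumY := Blk.sum_Y_of_S X D j₀ x hxs 1 hvalS
  have hY : ∑ j : D.L.J, (D.K.Λ j : G → ℂ) s * (D.K.Λ j : G → ℂ) s
        * conj ((D.K.Λ j : G → ℂ) x) / (D.K.Λ j : G → ℂ) 1
      = (D.K.δ (D.K.Λ j₀) : ℂ) * (D.K.Λ j₀ : G → ℂ) s ^ 2 / (D.K.Λ j₀ : G → ℂ) 1 := by
    have h2 : ∀ j : D.L.J, (D.K.Λ j : G → ℂ) s * (D.K.Λ j : G → ℂ) s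
        * conj ((D.K.Λ j : G → ℂ) x) / (D.K.Λ j : G → ℂ) 1
        = ((D.K.Λ j₀ : G → ℂ) s ^ 2 / (D.K.Λ j₀ : G → ℂ) 1) * conj ((D.K.Λ j : G → ℂ) x) := by
      intro j
      rw [D.K.agree X.hP X.hM D.hind j j₀ s hsreg,
        D.K.agree X.hP X.hM D.hind j j₀ 1 not_dvd_orderOf_one']
      ring
    rw [Finset.sum_congr rfl (fun j _ => h2 j), ← Finset.mul_sum, ← map_sum, hsumY, mul_one,
      map_intCast]
    ring
  rw [hY, hvalS χ₁ hpair.h₁, hvalS χ₂ hpair.h₂]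
  simp only [mul_one, map_intCast]
  ring

end Cfsg.Agent.Lib.Helper6.BG
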