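import Mathlib

/-!
# Brauer's theorem on characters of degree `p - 2`: the arithmetic forcing a linear character
-/

set_option autoImplicit false
set_option linter.unusedVariables false
set_option linter.style.longLine false

namespace Cfsg.Agent.Lib.Helper6.BG

/-- the size of `S₁ - m` -/
theorem arith_A2 {p S₁ y δ m n : ℤ} (hp : 7 ≤ p) (hδ : δ = 1 ∨ δ = -1)
    (hS : S₁ ≡ δ [ZMOD p]) (hS1 : 1 ≤ S₁) (hy : y = S₁ + δ)
    (hm : |m| ≤ n) (hm' : δ = 1 → m + 2 ≤ n) (hn : p * n - (p - 1) * δ ≤ S₁) :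
    1 ≤ S₁ - m ∧ (p - 1) * S₁ ≤ (S₁ - m) * p ∧ (p - 1) * y ≤ (S₁ - m) * p ∧ 0 ≤ y := by
  obtain ⟨u, hu⟩ := Int.modEq_iff_dvd.mp hS
  have hm1 := (abs_le.mp hm).1
  have hm2 := (abs_le.mp hm).2
  rcases hδ with h | h
  · rw [h] at hu hn hy
    have hm3 := hm' h
    obtain ⟨v, hv⟩ : ∃ v : ℤ, v = -u := ⟨_, rfl⟩
    have hS' : S₁ = 1 + p * v := by rw [hv]; linarith
    have hv0 : 0 ≤ v := by
      by_contra hcc
      have : v ≤ -1 := by omega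
      nlinarith
    have hn1 : n ≤ v + 1 := by
      by_contra hcc
      have : v + 2 ≤ n := by omega
      nlinarith
    have hmv : m ≤ v - 1 := by linarith
    have hpv : 0 ≤ (p - 1) * v := mul_nonneg (by linarith) hv0
    refine ⟨by nlinarith, ?_, ?_, by linarith⟩
    · rw [hS']; nlinarith
    · rw [hy, hS']; nlinarith
  · rw [h] at hu hn hy
    obtain ⟨v, hv⟩ : ∃ v : ℤ, v = -u := ⟨_, rfl⟩
    have hS' : S₁ = -1 + p * v := by rw [hv]; linarith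
    have hv0 : 1 ≤ v := by
      by_contra hcc
      have : v ≤ 0 := by omega
      nlinarith
    have hn1 : n ≤ v - 1 := by
      by_contra hcc
      have : v ≤ n := by omega
      nlinarith
    have hpv : 0 ≤ (p - 1) * (v - 1) := mul_nonneg (by linarith) (by linarith)
    refine ⟨by nlinarith, ?_, ?_, by nlinarith⟩
    · rw [hS']; nlinarith
    · rw [hy, hS']; nlinarith

theorem arith_A1 {a p : ℤ} (ha : 1 ≤ a) (hp : 7 ≤ p) :
    (2 * a + 1) ^ 2 * p ^ 2 < (p - 2) * (1 + a * p) * ((a + 1) * p - 1) := by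
  have e1 : 9 * ((p - 2) * (1 + a * p) * ((a + 1) * p - 1))
      = 9 * ((2 * a + 1) ^ 2 * p ^ 2)
        + (2 * a + 1) ^ 2 * ((p - 7) * (2 * p ^ 2 + 2 * p + 11) + 79)
        + (p - 2) * ((a - 1) * (a + 2) * (p - 2) ^ 2) := by ring
  have h1 : 0 ≤ (p - 2) * ((a - 1) * (a + 2) * (p - 2) ^ 2) :=
    mul_nonneg (by linarith) (mul_nonneg (mul_nonneg (by linarith) (by linarith)) (sq_nonneg _))
  have h2 : 0 < (2 * a + 1) ^ 2 * ((p - 7) * (2 * p ^ 2 + 2 * p + 11) + 79) := by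
    apply mul_pos (pow_pos (by linarith) 2)
    have : 0 ≤ (p - 7) * (2 * p ^ 2 + 2 * p + 11) :=
      mul_nonneg (by linarith) (by nlinarith [sq_nonneg p])
    linarith
  linarith

theorem arith_main {p A B b n₂ S₁ y δ m nS : ℤ} (hp : 7 ≤ p)
    (hA : A ≡ 1 [ZMOD p]) (hA1 : 1 ≤ A) (hB : B = A + (p - 2))
    (hb : |b| ≤ n₂) (hn₂ : p * n₂ + (p - 1) ≤ B)
    (hδ : δ = 1 ∨ δ = -1) (hS : S₁ ≡ δ [ZMOD p]) (hS1 : 1 ≤ S₁) (hy : y = S₁ + δ)
    (hm : |m| ≤ nS) (hm' : δ = 1 → m + 2 ≤ nS) (hnS : p * nS - (p - 1) * δ ≤ S₁)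
    (hid : ((b - 1) ^ 2 * (p - 2) * B - b ^ 2 * (p - 2) * A + A * B) * (S₁ * y)
         = (S₁ * y + δ * m ^ 2 * y - δ * (m + δ) ^ 2 * S₁) * ((p - 2) * A * B)) :
    A = 1 := by
  obtain ⟨u, hu⟩ := Int.modEq_iff_dvd.mp hA
  obtain ⟨a, ha⟩ : ∃ a : ℤ, a = -u := ⟨_, rfl⟩
  have hA' : A = 1 + a * p := by rw [ha]; linarith
  have ha0 : 0 ≤ a := by
    by_contra hcc
    have : a ≤ -1 := by omega
    nlinarith
  by_contra hne
  have ha1 : 1 ≤ a := by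
    by_contra hcc
    have : a = 0 := by omega
    apply hne
    rw [hA', this]; ring
  have hB' : B = (a + 1) * p - 1 := by rw [hB, hA']; ring
  have hn₂a : n₂ ≤ a := by
    by_contra hcc
    have : a + 1 ≤ n₂ := by omega
    rw [hB'] at hn₂
    nlinarith
  have hb1 := (abs_le.mp hb).1
  have hb2 := (abs_le.mp hb).2
  have e1 : (b - 1) ^ 2 * (p - 2) * B - b ^ 2 * (p - 2) * A + A * B = (B - (p - 2) * b) ^ 2 := by
    rw [hB]; ring
  have e2 : S₁ * y + δ * m ^ 2 * y - δ * (m + δ) ^ 2 * S₁ = (S₁ - m) ^ 2 := by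
    rcases hδ with h | h <;> rw [hy, h] <;> ring
  rw [e1, e2] at hid
  obtain ⟨hD1, hD2, hD3, hy0⟩ := arith_A2 hp hδ hS hS1 hy hm hm' hnS
  have hDp : 0 ≤ (S₁ - m) * p := mul_nonneg (by linarith) (by linarith)
  have hW : (p - 1) ^ 2 * (S₁ * y) ≤ ((S₁ - m) * p) ^ 2 := by
    have h1 : ((p - 1) * S₁) * ((p - 1) * y) ≤ ((S₁ - m) * p) * ((S₁ - m) * p) :=
      mul_le_mul hD2 hD3 (mul_nonneg (by linarith) hy0) hDp
    calc (p - 1) ^ 2 * (S₁ * y) = ((p - 1) * S₁) * ((p - 1) * y) := by ring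
      _ ≤ ((S₁ - m) * p) * ((S₁ - m) * p) := h1
      _ = ((S₁ - m) * p) ^ 2 := by ring
  have hR : (2 * a + 1) * (p - 1) = B + (p - 2) * a := by rw [hB']; ring
  have hX : (B - (p - 2) * b) ^ 2 ≤ ((2 * a + 1) * (p - 1)) ^ 2 := by
    have hBpos : 0 ≤ B := by rw [hB]; linarith
    have hq1 : 0 ≤ (p - 2) * (a - b) := mul_nonneg (by linarith) (by linarith)
    have hq2 : 0 ≤ (p - 2) * (a + b) := mul_nonneg (by linarith) (by linarith)
    apply sq_le_sq'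
    · rw [hR]
      linarith
    · rw [hR]
      linarith
  have hkey := arith_A1 ha1 hp
  rw [← hA', ← hB'] at hkey
  -- combine
  have s1 : (B - (p - 2) * b) ^ 2 * ((p - 1) ^ 2 * (S₁ * y))
      ≤ (B - (p - 2) * b) ^ 2 * ((S₁ - m) * p) ^ 2 :=
    mul_le_mul_of_nonneg_left hW (sq_nonneg _)
  have s2 : (B - (p - 2) * b) ^ 2 * ((S₁ - m) * p) ^ 2
      ≤ ((2 * a + 1) * (p - 1)) ^ 2 * ((S₁ - m) * p) ^ 2 :=
    mul_le_mul_of_nonneg_right hX (sq_nonneg _)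
  have s3 : (B - (p - 2) * b) ^ 2 * ((p - 1) ^ 2 * (S₁ * y))
      = (S₁ - m) ^ 2 * ((p - 1) ^ 2 * ((p - 2) * A * B)) := by
    calc (B - (p - 2) * b) ^ 2 * ((p - 1) ^ 2 * (S₁ * y))
        = (p - 1) ^ 2 * ((B - (p - 2) * b) ^ 2 * (S₁ * y)) := by ring
      _ = (p - 1) ^ 2 * ((S₁ - m) ^ 2 * ((p - 2) * A * B)) := by rw [hid]
      _ = _ := by ring
  have s4 : ((2 * a + 1) * (p - 1)) ^ 2 * ((S₁ - m) * p) ^ 2
      = (S₁ - m) ^ 2 * ((p - 1) ^ 2 * ((2 * a + 1) ^ 2 * p ^ 2)) := by ring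
  have s5 : (S₁ - m) ^ 2 * ((p - 1) ^ 2 * ((p - 2) * A * B))
      ≤ (S₁ - m) ^ 2 * ((p - 1) ^ 2 * ((2 * a + 1) ^ 2 * p ^ 2)) := by
    rw [← s3, ← s4]; exact s1.trans s2
  have hpos : 0 < (S₁ - m) ^ 2 * (p - 1) ^ 2 :=
    mul_pos (pow_pos (by linarith) 2) (pow_pos (by linarith) 2)
  have s6 := mul_lt_mul_of_pos_left hkey hpos
  linarith

end Cfsg.Agent.Lib.Helper6.BG
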