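import Mathlib
import Cfsg.Agent.Lib.Helper6.BG12
import Cfsg.Agent.Lib.Helper6.BG13

/-!
# Brauer's theorem on characters of degree `p - 2`: the block of the character of degree `p - 2`
contains a linear character
-/

set_option autoImplicit false
set_option linter.unusedSectionVars false
set_option linter.unusedVariables false
set_option linter.style.longLine false
set_option maxHeartbeats 3200000

namespace Cfsg.Agent.Lib.Helper6.BG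

open Cfsg.Agent.Lib.Helper6 Cfsg.Agent.Lib.Helper6.PB Cfsg.Agent.Lib.Helper6.BR
  Cfsg.Agent.Lib.Helper6.BH
open scoped ComplexConjugate

variable {G : Type*} [Group G] [Fintype G] [DecidableEq G] {p : ℕ} [hp : Fact p.Prime]
variable {P : Sylow p G}
variable [Fintype ↥(Subgroup.centralizer ((P : Subgroup G) : Set G))]
variable [Fintype ↥(Subgroup.normalizer ((P : Subgroup G) : Set G))]
variable {M : Ideal Cfsg.AlgInt}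

local notation "𝐂" => Subgroup.centralizer ((P : Subgroup G) : Set G)
local notation "𝐍" => Subgroup.normalizer ((P : Subgroup G) : Set G)

theorem exists_linear_in_block (X : Ctx M P) (D D₀ : Blk M P) (h1 : oneIrr G ∈ D₀.B)
    (j : D.L.J) (hδ : D.K.δ (D.K.Λ j) = 1)
    (hdeg : Cfsg.charDegree (D.K.Λ j : G → ℂ) = p - 2)
    (hf : ∀ g, (D.K.Λ j : G → ℂ) g = (D.K.Λ j : G → ℂ) 1 → g = 1)
    (hm1 : mlt P (D.K.Λ j) D.L.θ = 1) (hout : ∀ ξ, ξ ∉ D.L.b → mlt P (D.K.Λ j) ξ = 0) :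
    ∃ χ₁ : Cfsg.IrrCharacter G, χ₁ ∈ D.B ∧ Cfsg.charDegree (χ₁ : G → ℂ) = 1 := by
  classical
  have : Fintype (Cfsg.IrrCharacter G) := Fintype.ofFinite _
  have : Fintype D.L.J := Fintype.ofFinite _
  have : Fintype D₀.L.J := Fintype.ofFinite _
  have hp5 := X.hp5
  obtain ⟨j₀⟩ := D₀.L.nonempty_J X.hP X.hM
  obtain ⟨s, hs⟩ := exists_SEl X
  obtain ⟨x, hxP, hx1, hxs⟩ := exists_mem_P_ne_one X
  have hζB : D.K.Λ j ∈ D.B := D.K.mem j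
  obtain ⟨β, hβ, hβ1, hβC, hβs⟩ := exists_beta X D hζB hm1 hout
  have hη : β ⟨s, hs.hN⟩ = (D.K.Λ j : G → ℂ) s := hβs s hs.hN hs.hC
  have hηn := linear_mul_conj hβ hβ1 ⟨s, hs.hN⟩
  rw [hη] at hηn
  have hη0 : (D.K.Λ j : G → ℂ) s ≠ 0 := by
    intro h
    rw [h] at hηn
    simp at hηn
  obtain ⟨χ₁, χ₂, hpair, hδ₁, hδ₂, hd₂⟩ := Blk.zeta_struct X D j hδ hdeg
  obtain ⟨b, hb, hbn⟩ := lemmaL X D hβ hβ1 hβC hpair.h₂.1 hs.hN hs.hC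
  rw [hη] at hb
  have hrel := Blk.rel_apply X D hpair j s hs.hreg
  rw [hδ₁, hδ₂, hδ, hb] at hrel
  have hχ₁s : (χ₁ : G → ℂ) s = ((b : ℂ) - 1) * (D.K.Λ j : G → ℂ) s := by
    push_cast at hrel
    linear_combination hrel
  have hbound₂ := Blk.mlt_bound_S X D hpair.h₂
  rw [hδ₂] at hbound₂
  have hdeg₁ := Blk.deg_S X D hpair.h₁
  rw [hδ₁] at hdeg₁
  -- the principal block
  obtain ⟨hδ1, S, hpair₀, hδY, hy⟩ := Blk.prin_struct X D₀ h1 j₀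
  obtain ⟨m, hm, hmn, hm'⟩ := S_bound X D₀ h1 j₀ hpair₀ hδY hs
  have hboundS := Blk.mlt_bound_S X D₀ hpair₀.h₂
  have hdegS := Blk.deg_S X D₀ hpair₀.h₂
  have hrel₀ := Blk.rel_apply X D₀ hpair₀ j₀ s hs.hreg
  have h1s : ((oneIrr G : Cfsg.IrrCharacter G) : G → ℂ) s = 1 := rfl
  have h11 : ((oneIrr G : Cfsg.IrrCharacter G) : G → ℂ) 1 = 1 := rfl
  rw [hδ1, hδY, hm, h1s] at hrel₀
  have hΛ₀s : (D₀.K.Λ j₀ : G → ℂ) s = (D₀.K.δ S : ℂ) + (m : ℂ) := by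
    rcases D₀.K.sgn S with h | h
    · rw [h] at hrel₀ ⊢
      push_cast at hrel₀ ⊢
      linear_combination (-1 : ℂ) * hrel₀
    · rw [h] at hrel₀ ⊢
      push_cast at hrel₀ ⊢
      linear_combination hrel₀
  -- the twisted identity
  obtain ⟨𝔅, h𝔅⟩ : ∃ 𝔅 : Finset (Cfsg.IrrCharacter G), ∀ χ, χ ∈ 𝔅 ↔ χ ∈ D.B :=
    ⟨Finset.univ.filter (· ∈ D.B), fun χ => by simp⟩
  obtain ⟨𝔅₀, h𝔅₀⟩ : ∃ 𝔅₀ : Finset (Cfsg.IrrCharacter G), ∀ χ, χ ∈ 𝔅₀ ↔ χ ∈ D₀.B :=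
    ⟨Finset.univ.filter (· ∈ D₀.B), fun χ => by simp⟩
  have htw := twist_blocks X D D₀ h1 hζB hf hs hη0 hxP hx1 hxs 𝔅 𝔅₀ h𝔅 h𝔅₀
  rw [T_formula X D hpair j hs.hreg hxP hx1 hxs 𝔅 h𝔅,
    T_formula X D₀ hpair₀ j₀ hs.hreg hxP hx1 hxs 𝔅₀ h𝔅₀] at htw
  have hcch : (cch (D.K.Λ j) : Subgroup.center G → ℂ) ⟨s * s, sq_central X hs⟩
      = (D.K.Λ j : G → ℂ) s ^ 2 := by
    have e1 := Blk.cch_eq X D hζB ⟨s * s, sq_central X hs⟩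
    have e2 := beta_sq X D hβ hβ1 hβC hs.hN
    rw [hη] at e2
    exact e1.trans e2.symm
  rw [hcch, hδ₁, hδ₂, hδ, hχ₁s, hb, hδ1, hδY, hm, hΛ₀s, h1s, h11, Blk.deg_apply X χ₁,
    Blk.deg_apply X χ₂, Blk.deg_apply X (D.K.Λ j), Blk.deg_apply X S,
    Blk.deg_apply X (D₀.K.Λ j₀), hdeg] at htw
  -- names for the integers
  obtain ⟨A, hA⟩ : ∃ A : ℤ, A = (Cfsg.charDegree (χ₁ : G → ℂ) : ℤ) := ⟨_, rfl⟩
  obtain ⟨B, hB⟩ : ∃ B : ℤ, B = (Cfsg.charDegree (χ₂ : G → ℂ) : ℤ) := ⟨_, rfl⟩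
  obtain ⟨S₁, hS₁⟩ : ∃ S₁ : ℤ, S₁ = (Cfsg.charDegree (S : G → ℂ) : ℤ) := ⟨_, rfl⟩
  obtain ⟨y, hy'⟩ : ∃ y : ℤ, y = (Cfsg.charDegree (D₀.K.Λ j₀ : G → ℂ) : ℤ) := ⟨_, rfl⟩
  obtain ⟨δ, hδdef⟩ : ∃ δ : ℤ, δ = D₀.K.δ S := ⟨_, rfl⟩
  have hAc : ((Cfsg.charDegree (χ₁ : G → ℂ) : ℕ) : ℂ) = (A : ℂ) := by rw [hA]; push_cast; rfl
  have hBc : ((Cfsg.charDegree (χ₂ : G → ℂ) : ℕ) : ℂ) = (B : ℂ) := by rw [hB]; push_cast; rfl
  have hSc : ((Cfsg.charDegree (S : G → ℂ) : ℕ) : ℂ) = (S₁ : ℂ) := by rw [hS₁]; push_cast; rfl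
  have hyc : ((Cfsg.charDegree (D₀.K.Λ j₀ : G → ℂ) : ℕ) : ℂ) = (y : ℂ) := by
    rw [hy']; push_cast; rfl
  have hqc : ((p - 2 : ℕ) : ℂ) = (p : ℂ) - 2 := by
    push_cast [Nat.cast_sub (by omega : 2 ≤ p)]; ring
  rw [hAc, hBc, hSc, hyc, hqc, ← hδdef] at htw
  rw [← hA] at hdeg₁
  rw [← hA, ← hB] at hd₂
  rw [← hB] at hbound₂
  rw [← hS₁, ← hδdef] at hboundS hdegS
  rw [← hy', ← hS₁, ← hδdef] at hy
  rw [← hδdef] at hm'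
  have hA1 : 1 ≤ A := by rw [hA]; exact_mod_cast IsIrrCharacter.charDegree_pos χ₁.2
  have hS1 : 1 ≤ S₁ := by rw [hS₁]; exact_mod_cast IsIrrCharacter.charDegree_pos S.2
  have hB1 : 1 ≤ B := by rw [hB]; exact_mod_cast IsIrrCharacter.charDegree_pos χ₂.2
  have hy1 : 1 ≤ y := by rw [hy']; exact_mod_cast IsIrrCharacter.charDegree_pos (D₀.K.Λ j₀).2
  have hδsgn : δ = 1 ∨ δ = -1 := by rw [hδdef]; exact D₀.K.sgn S
  have hpz : (7 : ℤ) ≤ (p : ℤ) := by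
    have h7 : 7 ≤ p := by
      rcases Nat.lt_or_ge p 7 with h | h
      · exfalso
        have h6 : p = 6 := by omega
        have := hp.out
        rw [h6] at this
        norm_num at this
      · exact h
    exact_mod_cast h7
  have hA0 : (A : ℂ) ≠ 0 := by
    have : A ≠ 0 := by omega
    exact_mod_cast this
  have hB0 : (B : ℂ) ≠ 0 := by
    have : B ≠ 0 := by omega
    exact_mod_cast this
  have hS0 : (S₁ : ℂ) ≠ 0 := by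
    have : S₁ ≠ 0 := by omega
    exact_mod_cast this
  have hy0 : (y : ℂ) ≠ 0 := by
    have : y ≠ 0 := by omega
    exact_mod_cast this
  have hq0 : (p : ℂ) - 2 ≠ 0 := by
    have : ((p : ℤ) - 2 : ℤ) ≠ 0 := by omega
    have h2 : (((p : ℤ) - 2 : ℤ) : ℂ) ≠ 0 := by exact_mod_cast this
    push_cast at h2
    exact h2
  -- cancel `η ^ 2`
  have E : ((b : ℂ) - 1) ^ 2 / (A : ℂ) - (b : ℂ) ^ 2 / (B : ℂ) + 1 / ((p : ℂ) - 2)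
      = 1 + (δ : ℂ) * (m : ℂ) ^ 2 / (S₁ : ℂ) - (δ : ℂ) * ((δ : ℂ) + (m : ℂ)) ^ 2 / (y : ℂ) := by
    apply mul_left_cancel₀ (pow_ne_zero 2 hη0)
    push_cast at htw
    linear_combination htw
  have hL : ((b : ℂ) - 1) ^ 2 / (A : ℂ) - (b : ℂ) ^ 2 / (B : ℂ) + 1 / ((p : ℂ) - 2)
      = (((b : ℂ) - 1) ^ 2 * ((p : ℂ) - 2) * (B : ℂ) - (b : ℂ) ^ 2 * ((p : ℂ) - 2) * (A : ℂ)
          + (A : ℂ) * (B : ℂ)) / (((p : ℂ) - 2) * (A : ℂ) * (B : ℂ)) := by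
    field_simp
  have hR : 1 + (δ : ℂ) * (m : ℂ) ^ 2 / (S₁ : ℂ) - (δ : ℂ) * ((δ : ℂ) + (m : ℂ)) ^ 2 / (y : ℂ)
      = ((S₁ : ℂ) * (y : ℂ) + (δ : ℂ) * (m : ℂ) ^ 2 * (y : ℂ)
          - (δ : ℂ) * ((m : ℂ) + (δ : ℂ)) ^ 2 * (S₁ : ℂ)) / ((S₁ : ℂ) * (y : ℂ)) := by
    field_simp
    ring
  rw [hL, hR, div_eq_div_iff (mul_ne_zero (mul_ne_zero hq0 hA0) hB0) (mul_ne_zero hS0 hy0)] at E
  have hid : ((b - 1) ^ 2 * ((p : ℤ) - 2) * B - b ^ 2 * ((p : ℤ) - 2) * A + A * B) * (S₁ * y)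
      = (S₁ * y + δ * m ^ 2 * y - δ * (m + δ) ^ 2 * S₁) * (((p : ℤ) - 2) * A * B) := by
    have hidc : ((((b - 1) ^ 2 * ((p : ℤ) - 2) * B - b ^ 2 * ((p : ℤ) - 2) * A + A * B)
        * (S₁ * y) : ℤ) : ℂ)
        = (((S₁ * y + δ * m ^ 2 * y - δ * (m + δ) ^ 2 * S₁) * (((p : ℤ) - 2) * A * B) : ℤ) : ℂ) := by
      push_cast
      exact E
    exact_mod_cast hidc
  have hfin := arith_main hpz hdeg₁ hA1 hd₂ hbn (by linarith) hδsgn hdegS hS1 hy hmn hm' hboundS hid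
  refine ⟨χ₁, hpair.h₁.1, ?_⟩
  rw [hA] at hfin
  exact_mod_cast hfin

end Cfsg.Agent.Lib.Helper6.BG
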