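import Mathlib
import Cfsg.Agent.Lib.Helper6.BG14
import Cfsg.Agent.Lib.Helper6.Norm

/-!
# Brauer's theorem on characters of degree `p - 2`: the shape of the principal block
-/

set_option autoImplicit false
set_option linter.unusedSectionVars false
set_option linter.unusedVariables false
set_option linter.style.longLine false
set_option maxHeartbeats 1600000

namespace Cfsg.Agent.Lib.Helper6.BG

open Cfsg.Agent.Lib.Helper6 Cfsg.Agent.Lib.Helper6.PB Cfsg.Agent.Lib.Helper6.BR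
  Cfsg.Agent.Lib.Helper6.BH
open scoped ComplexConjugate

variable {G : Type*} [Group G] [Fintype G] [DecidableEq G] {p : ℕ} [hp : Fact p.Prime]
variable {P : Sylow p G}
variable [Fintype ↥(Subgroup.centralizer ((P : Subgroup G) : Set G))]
variable [Fintype ↥(Subgroup.normalizer ((P : Subgroup G) : Set G))]
variable {M : Ideal Cfsg.AlgInt}

local notation "𝐂" => Subgroup.centralizer ((P : Subgroup G) : Set G)
local notation "𝐍" => Subgroup.normalizer ((P : Subgroup G) : Set G)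

/-- the final shape of the principal block -/
structure PrinData (D₀ : Blk M P) (S : Cfsg.IrrCharacter G) : Prop where
  h1 : oneIrr G ∈ D₀.B
  hpair : Pair D₀ (oneIrr G) S
  hδ1 : D₀.K.δ (oneIrr G) = 1
  hδS : D₀.K.δ S = -1
  hδY : ∀ j, D₀.K.δ (D₀.K.Λ j) = 1
  hdegS : Cfsg.charDegree (S : G → ℂ) = p - 1
  hdegY : ∀ j, Cfsg.charDegree (D₀.K.Λ j : G → ℂ) = p - 2

theorem charDegree_congr {χ ψ : G → ℂ} (h : χ 1 = ψ 1) :
    Cfsg.charDegree χ = Cfsg.charDegree ψ := by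
  unfold Cfsg.charDegree
  rw [h]

theorem exists_prinData (X : Ctx M P) (D D₀ : Blk M P) (h1 : oneIrr G ∈ D₀.B)
    (j : D.L.J) (hdeg : Cfsg.charDegree (D.K.Λ j : G → ℂ) = p - 2)
    {χ₁ : Cfsg.IrrCharacter G} (hχ₁ : χ₁ ∈ D.B)
    (hχ₁d : Cfsg.charDegree (χ₁ : G → ℂ) = 1) :
    ∃ S : Cfsg.IrrCharacter G, PrinData D₀ S ∧ ∃ j₁ : D₀.L.J,
      ∀ g, (D₀.K.Λ j₁ : G → ℂ) g = conj ((χ₁ : G → ℂ) g) * (D.K.Λ j : G → ℂ) g := by
  have hp5 := X.hp5
  have hpz : (5 : ℤ) < (p : ℤ) := by exact_mod_cast hp5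
  have hζB : D.K.Λ j ∈ D.B := D.K.mem j
  have hξ1 : (χ₁ : G → ℂ) 1 = 1 := by rw [Blk.deg_apply X χ₁, hχ₁d]; simp
  have hconj : Cfsg.IsCharacter G (fun g => conj ((χ₁ : G → ℂ) g)) :=
    IsCharacter.conj (IsIrrCharacter.isCharacter χ₁.2)
  have hconj1 : (fun g => conj ((χ₁ : G → ℂ) g)) 1 = 1 := by
    show conj ((χ₁ : G → ℂ) 1) = 1
    rw [hξ1, map_one]
  obtain ⟨ζ', hζ'⟩ : ∃ ζ' : Cfsg.IrrCharacter G,
      ∀ g, (ζ' : G → ℂ) g = conj ((χ₁ : G → ℂ) g) * (D.K.Λ j : G → ℂ) g :=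
    ⟨⟨fun g => conj ((χ₁ : G → ℂ) g) * (D.K.Λ j : G → ℂ) g,
      isIrr_linear_mul' hconj hconj1 (D.K.Λ j).2⟩, fun g => rfl⟩
  have hζ'1 : (ζ' : G → ℂ) 1 = (D.K.Λ j : G → ℂ) 1 := by rw [hζ', hξ1, map_one, one_mul]
  have hζ'd : Cfsg.charDegree (ζ' : G → ℂ) = p - 2 := by
    rw [charDegree_congr hζ'1, hdeg]
  have hζ10 : (D.K.Λ j : G → ℂ) 1 ≠ 0 := IsIrrCharacter.apply_one_ne_zero (D.K.Λ j).2
  have hcch : cch ζ' = cch (oneIrr G) := by
    apply Subtype.ext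
    funext u
    rw [cch_oneIrr]
    have e := cch_mul ζ' u 1
    rw [mul_one, hζ', hζ'1] at e
    have e1 := cch_mul χ₁ u 1
    rw [mul_one, hξ1, mul_one] at e1
    have e2 := cch_mul (D.K.Λ j) u 1
    rw [mul_one] at e2
    rw [e1, e2, Blk.cch_eq_cch X D hχ₁ hζB] at e
    have e3 := cch_mul_conj (D.K.Λ j) u
    have e4 : ((cch ζ' : Subgroup.center G → ℂ) u - 1) * (D.K.Λ j : G → ℂ) 1 = 0 := by
      linear_combination (-1 : ℂ) * e + (D.K.Λ j : G → ℂ) 1 * e3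
    rcases mul_eq_zero.mp e4 with h | h
    · linear_combination h
    · exact absurd h hζ10
  have hζ'B : ζ' ∈ D₀.B := by
    apply Blk.mem_of_cch X D₀ h1 ζ' _ hcch
    rw [hζ'd]
    apply Nat.not_dvd_of_pos_of_lt <;> omega
  obtain ⟨j₀⟩ := D₀.L.nonempty_J X.hP X.hM
  obtain ⟨hδ1, S, hpair, hδY0, hy⟩ := Blk.prin_struct X D₀ h1 j₀
  have hζ'dz : (Cfsg.charDegree (ζ' : G → ℂ) : ℤ) = (p : ℤ) - 2 := by
    rw [hζ'd]; push_cast [Nat.cast_sub (by omega : 2 ≤ p)]; ring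
  have hmem : ζ' ∈ D₀.K.S ∪ D₀.K.Y := by rw [← D₀.K.union_eq]; exact hζ'B
  have hY : ∃ j₁ : D₀.L.J, D₀.K.Λ j₁ = ζ' := by
    rcases hmem with hS | hY
    · exfalso
      rcases hpair.hall ζ' hS with h | h
      · have : Cfsg.charDegree (ζ' : G → ℂ) = 1 := by rw [h]; exact charDegree_one_fun
        omega
      · have h2 := Blk.deg_S X D₀ hS
        rw [hζ'dz] at h2
        obtain ⟨c, hc⟩ := Int.modEq_iff_dvd.mp h2
        rcases D₀.K.sgn ζ' with s | s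
        · rw [s] at hc
          have hc' : (p : ℤ) * (c + 1) = 3 := by linarith
          have : 1 ≤ c + 1 := by
            by_contra hcc
            have : c + 1 ≤ 0 := by omega
            nlinarith
          nlinarith
        · rw [s] at hc
          have hc' : (p : ℤ) * (c + 1) = 1 := by linarith
          have : 1 ≤ c + 1 := by
            by_contra hcc
            have : c + 1 ≤ 0 := by omega
            nlinarith
          nlinarith
    · exact hY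
  obtain ⟨j₁, hj₁⟩ := hY
  have hdegY : ∀ j', Cfsg.charDegree (D₀.K.Λ j' : G → ℂ) = p - 2 := by
    intro j'
    rw [charDegree_congr (D₀.K.agree X.hP X.hM D₀.hind j' j₁ 1 not_dvd_orderOf_one'), hj₁, hζ'd]
  have hδYj₁ : D₀.K.δ (D₀.K.Λ j₁) = 1 := by
    rcases D₀.K.sgn (D₀.K.Λ j₁) with s | s
    · exact s
    · exfalso
      have h2 := Blk.deg_Y X D₀ j₁
      rw [s, hj₁, hζ'dz] at h2
      obtain ⟨c, hc⟩ := Int.modEq_iff_dvd.mp h2
      have hc' : (p : ℤ) * (c + 1) = 4 := by linarith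
      have : 1 ≤ c + 1 := by
        by_contra hcc
        have : c + 1 ≤ 0 := by omega
        nlinarith
      nlinarith
  have hδY : ∀ j', D₀.K.δ (D₀.K.Λ j') = 1 := by
    intro j'
    rw [D₀.K.sign_const X.hP X.hM D₀.hind j' j₁, hδYj₁]
  have hδS : D₀.K.δ S = -1 := by
    rw [hδY j₀] at hδY0
    linarith
  refine ⟨S, ⟨h1, hpair, hδ1, hδS, hδY, ?_, hdegY⟩, j₁, ?_⟩
  · rw [hδS, hdegY j₀] at hy
    have h3 : ((Cfsg.charDegree (S : G → ℂ) : ℕ) : ℤ) = ((p - 1 : ℕ) : ℤ) := by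
      push_cast [Nat.cast_sub (by omega : 1 ≤ p)]
      push_cast [Nat.cast_sub (by omega : 2 ≤ p)] at hy
      linarith
    exact_mod_cast h3
  · intro g
    rw [hj₁, hζ']

end Cfsg.Agent.Lib.Helper6.BG
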