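import Mathlib
import Cfsg.Agent.Lib.Helper6.BG15

/-!
# Brauer's theorem on characters of degree `p - 2`: linear characters and the derived subgroup
-/

set_option autoImplicit false
set_option linter.unusedSectionVars false
set_option linter.unusedVariables false
set_option linter.style.longLine false
set_option maxHeartbeats 1600000

namespace Cfsg.Agent.Lib.Helper6.BG

open Cfsg.Agent.Lib.Helper6 Cfsg.Agent.Lib.Helper6.PB Cfsg.Agent.Lib.Helper6.BR
  Cfsg.Agent.Lib.Helper6.BH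
open scoped ComplexConjugate

variable {G : Type*} [Group G] [Fintype G] [DecidableEq G] {p : ℕ} [hp : Fact p.Prime]
variable {P : Sylow p G}
variable [Fintype ↥(Subgroup.centralizer ((P : Subgroup G) : Set G))]
variable [Fintype ↥(Subgroup.normalizer ((P : Subgroup G) : Set G))]
variable {M : Ideal Cfsg.AlgInt}

local notation "𝐂" => Subgroup.centralizer ((P : Subgroup G) : Set G)
local notation "𝐍" => Subgroup.normalizer ((P : Subgroup G) : Set G)

/-- a linear character which is trivial on the centre is trivial -/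
theorem hlin_of (X : Ctx M P) (D₀ : Blk M P) {S : Cfsg.IrrCharacter G} (pd : PrinData D₀ S)
    (lam : G →* ℂˣ) (hz : ∀ z ∈ Subgroup.center G, lam z = 1) : ∀ g, lam g = 1 := by
  have hp5 := X.hp5
  obtain ⟨χ, hχ⟩ : ∃ χ : Cfsg.IrrCharacter G, ∀ g, (χ : G → ℂ) g = (lam g : ℂ) :=
    ⟨⟨fun g => (lam g : ℂ), isIrrCharacter_of_hom lam⟩, fun g => rfl⟩
  have hχ1 : (χ : G → ℂ) 1 = 1 := by rw [hχ, map_one]; rfl
  have hχd : Cfsg.charDegree (χ : G → ℂ) = 1 := by
    have h : (χ : G → ℂ) 1 = (fun _ : G => (1 : ℂ)) 1 := hχ1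
    rw [charDegree_congr (χ := (χ : G → ℂ)) (ψ := fun _ : G => (1 : ℂ)) h, charDegree_one_fun]
  have hcch : cch χ = cch (oneIrr G) := by
    apply Subtype.ext
    funext u
    rw [cch_oneIrr]
    have e := cch_mul χ u 1
    rw [mul_one, hχ1, mul_one, hχ, hz u u.2] at e
    rw [← e]; rfl
  have hχB : χ ∈ D₀.B := by
    apply Blk.mem_of_cch X D₀ pd.h1 χ _ hcch
    rw [hχd]
    intro h
    have := Nat.le_of_dvd one_pos h
    omega
  have hmem : χ ∈ D₀.K.S ∪ D₀.K.Y := by rw [← D₀.K.union_eq]; exact hχB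
  have hone : χ = oneIrr G := by
    rcases hmem with hS | ⟨j, hj⟩
    · rcases pd.hpair.hall χ hS with h | h
      · exact h
      · exfalso
        rw [h, pd.hdegS] at hχd
        omega
    · exfalso
      rw [← hj, pd.hdegY j] at hχd
      omega
  intro g
  apply Units.ext
  have h2 := hχ g
  rw [hone] at h2
  exact h2.symm

/-- the derived subgroup meets the centre trivially -/
theorem hdisj_of (X : Ctx M P) (D : Blk M P) {ζ : Cfsg.IrrCharacter G} (hζ : ζ ∈ D.B)
    (hf : ∀ g, (ζ : G → ℂ) g = (ζ : G → ℂ) 1 → g = 1)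
    {χ₁ : Cfsg.IrrCharacter G} (hχ₁ : χ₁ ∈ D.B)
    (hχ₁d : Cfsg.charDegree (χ₁ : G → ℂ) = 1) :
    commutator G ⊓ Subgroup.center G = ⊥ := by
  rw [eq_bot_iff]
  rintro g ⟨hgc, hgz⟩
  rw [Subgroup.mem_bot]
  have hξ1 : (χ₁ : G → ℂ) 1 = 1 := by rw [Blk.deg_apply X χ₁, hχ₁d]; simp
  have hker : g ∈ (linearCharHom (IsIrrCharacter.isCharacter χ₁.2) hξ1).ker :=
    Abelianization.commutator_subset_ker _ hgc
  have hg1 : (χ₁ : G → ℂ) g = 1 := by
    rw [← linearCharHom_apply (IsIrrCharacter.isCharacter χ₁.2) hξ1 g, MonoidHom.mem_ker.mp hker]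
    rfl
  apply hf
  have e1 := cch_mul χ₁ ⟨g, hgz⟩ 1
  rw [mul_one, hξ1, mul_one] at e1
  have e1' : (χ₁ : G → ℂ) g = (cch χ₁ : Subgroup.center G → ℂ) ⟨g, hgz⟩ := e1
  rw [hg1, Blk.cch_eq_cch X D hχ₁ hζ] at e1'
  have e2 := cch_mul ζ ⟨g, hgz⟩ 1
  rw [mul_one, ← e1', one_mul] at e2
  exact e2

end Cfsg.Agent.Lib.Helper6.BG
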