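import Mathlib
import Cfsg.Agent.Lib.Helper6.BG16
import Cfsg.Agent.Lib.Helper6.GaloisRat

/-!
# Brauer's theorem on characters of degree `p - 2`: the values of the characters of the
principal block
-/

set_option autoImplicit false
set_option linter.unusedSectionVars false
set_option linter.unusedVariables false
set_option linter.style.longLine false
set_option maxHeartbeats 1600000

namespace Cfsg.Agent.Lib.Helper6.BG

open Cfsg.Agent.Lib.Helper6 Cfsg.Agent.Lib.Helper6.PB Cfsg.Agent.Lib.Helper6.BR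
  Cfsg.Agent.Lib.Helper6.BH
open scoped ComplexConjugate

variable {G : Type*} [Group G] [Fintype G] [DecidableEq G] {p : ℕ} [hp : Fact p.Prime]
variable {P : Sylow p G}
variable [Fintype ↥(Subgroup.centralizer ((P : Subgroup G) : Set G))]
variable [Fintype ↥(Subgroup.normalizer ((P : Subgroup G) : Set G))]
variable {M : Ideal Cfsg.AlgInt}

local notation "𝐂" => Subgroup.centralizer ((P : Subgroup G) : Set G)
local notation "𝐍" => Subgroup.normalizer ((P : Subgroup G) : Set G)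

/-- a character invariant under all the power maps prime to the group order is integer valued -/
theorem int_of_pow_invariant {χ : G → ℂ} (hχ : Cfsg.IsCharacter G χ)
    (hpow : ∀ k : ℕ, k.Coprime (Nat.card G) → ∀ g, χ (g ^ k) = χ g) (g : G) :
    ∃ z : ℤ, χ g = z := by
  have hn : 0 < Nat.card G := Nat.card_pos
  have : NeZero (Nat.card G) := ⟨hn.ne'⟩
  have hgn : g ^ Nat.card G = 1 := pow_card_eq_one'
  obtain ⟨m, μ, hμ, hμk⟩ := IsCharacter.exists_eigen_pow hχ g (Nat.card G) hn hgn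
  have hinv : ∀ k : (ZMod (Nat.card G))ˣ,
      ∑ i, μ i ^ (k : ZMod (Nat.card G)).val = ∑ i, μ i := by
    intro k
    have hcop : ((k : ZMod (Nat.card G)).val).Coprime (Nat.card G) := ZMod.val_coe_unit_coprime k
    have h1 := hpow _ hcop g
    rw [hμk] at h1
    have h2 := hμk 1
    rw [pow_one] at h2
    rw [h1, h2]
    simp
  obtain ⟨z, hz⟩ := exists_int_of_pow_invariant (Nat.card G) μ hμ hinv
  refine ⟨z, ?_⟩
  have h2 := hμk 1
  rw [pow_one] at h2
  rw [h2, ← hz]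
  simp

/-- the values of the non-exceptional characters at a `p`-singular element -/
theorem Blk.exists_tau (X : Ctx M P) (D : Blk M P) (g : G) (hg : p ∣ orderOf g) :
    ∃ τ : ℂ, (∀ χ ∈ D.K.S, (χ : G → ℂ) g = (D.K.δ χ : ℂ) * τ) ∧ (oneIrr G ∈ D.B → τ = 1) := by
  obtain ⟨t, z, hz, hz1, y, hy, hyr, hzy⟩ := exists_conj_decomp P X.hP g hg
  obtain ⟨c, hc⟩ : ∃ c : 𝐂, (c : G) = z * y := ⟨⟨z * y, mul_mem (P_le_C P X.hP hz) hy⟩, rfl⟩
  have hcs : p ∣ orderOf c := by
    rw [← Subgroup.orderOf_coe, hc, ← hzy]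
    have h1 := orderOf_conj_eq g t⁻¹
    rw [inv_inv] at h1
    rw [h1]
    exact hg
  refine ⟨(D.L.θ : 𝐂 → ℂ) c, ?_, fun h1 => theta_eq_one X D h1 c⟩
  intro χ hχ
  have h2 := Blk.val_S X D hχ c hcs
  rw [hc, ← hzy] at h2
  have h3 := IsIrrCharacter.isClassFunction χ.2 g t⁻¹
  rw [inv_inv] at h3
  rw [← h3]
  exact h2

section prin

variable (X : Ctx M P) (D₀ : Blk M P) {S : Cfsg.IrrCharacter G} (pd : PrinData D₀ S)
include X pd

theorem S_sing (g : G) (hg : p ∣ orderOf g) : (S : G → ℂ) g = -1 := by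
  obtain ⟨τ, h1, h2⟩ := Blk.exists_tau X D₀ g hg
  rw [h1 S pd.hpair.h₂, h2 pd.h1, pd.hδS]
  push_cast
  ring

theorem sum_Y_sing [Fintype D₀.L.J] (g : G) (hg : p ∣ orderOf g) :
    ∑ j : D₀.L.J, (D₀.K.Λ j : G → ℂ) g = 1 := by
  obtain ⟨τ, h1, h2⟩ := Blk.exists_tau X D₀ g hg
  obtain ⟨j₀⟩ := D₀.L.nonempty_J X.hP X.hM
  rw [Blk.sum_Y_of_S X D₀ j₀ g hg τ h1, h2 pd.h1, pd.hδY j₀]
  push_cast
  ring

theorem Y_reg (j : D₀.L.J) (g : G) (hg : ¬ p ∣ orderOf g) :
    (D₀.K.Λ j : G → ℂ) g = (S : G → ℂ) g - 1 := by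
  have h := Blk.rel_apply X D₀ pd.hpair j g hg
  rw [pd.hδ1, pd.hδS, pd.hδY j] at h
  have h1 : ((oneIrr G : Cfsg.IrrCharacter G) : G → ℂ) g = 1 := rfl
  rw [h1] at h
  push_cast at h
  linear_combination h

theorem cch_S : cch S = cch (oneIrr G) :=
  Blk.cch_eq_cch X D₀ pd.hpair.h₂.1 pd.h1

theorem S_central (u : Subgroup.center G) : (S : G → ℂ) (u : G) = (S : G → ℂ) 1 := by
  have e := cch_mul S u 1
  rw [mul_one, cch_S X D₀ pd, cch_oneIrr, one_mul] at e
  exact e

theorem S_pow {k : ℕ} (hk : k.Coprime (Nat.card G)) : powIrr k hk S = S := by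
  have hp5 := X.hp5
  have hψ1 : (powIrr k hk S : G → ℂ) 1 = (S : G → ℂ) 1 := by
    rw [powIrr_apply, one_pow]
  have hψd : Cfsg.charDegree (powIrr k hk S : G → ℂ) = p - 1 := by
    rw [charDegree_congr hψ1, pd.hdegS]
  have hS10 : (S : G → ℂ) 1 ≠ 0 := IsIrrCharacter.apply_one_ne_zero S.2
  have hcch : cch (powIrr k hk S) = cch (oneIrr G) := by
    apply Subtype.ext
    funext u
    rw [cch_oneIrr]
    have e := cch_mul (powIrr k hk S) u 1
    rw [mul_one, hψ1, powIrr_apply] at e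
    have e2 := S_central X D₀ pd (u ^ k)
    rw [Subgroup.coe_pow] at e2
    rw [e2] at e
    have e3 : ((cch (powIrr k hk S) : Subgroup.center G → ℂ) u - 1) * (S : G → ℂ) 1 = 0 := by
      linear_combination -e
    rcases mul_eq_zero.mp e3 with h | h
    · linear_combination h
    · exact absurd h hS10
  have hB : powIrr k hk S ∈ D₀.B := by
    apply Blk.mem_of_cch X D₀ pd.h1 _ _ hcch
    rw [hψd]
    apply Nat.not_dvd_of_pos_of_lt <;> omega
  have hmem : powIrr k hk S ∈ D₀.K.S ∪ D₀.K.Y := by rw [← D₀.K.union_eq]; exact hB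
  rcases hmem with hS | ⟨j, hj⟩
  · rcases pd.hpair.hall _ hS with h | h
    · exfalso
      rw [h] at hψd
      have : Cfsg.charDegree ((oneIrr G : Cfsg.IrrCharacter G) : G → ℂ) = 1 := charDegree_one_fun
      omega
    · exact h
  · exfalso
    rw [← hj, pd.hdegY j] at hψd
    omega

theorem S_int (g : G) : ∃ z : ℤ, (S : G → ℂ) g = z := by
  apply int_of_pow_invariant (IsIrrCharacter.isCharacter S.2)
  intro k hk g
  have h := congrArg (fun χ : Cfsg.IrrCharacter G => (χ : G → ℂ) g) (S_pow X D₀ pd hk)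
  simpa [powIrr_apply] using h

end prin

end Cfsg.Agent.Lib.Helper6.BG
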