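import Mathlib
import Cfsg.Agent.Lib.Helper8.PRDefs

/-! S4033 farm (helper8), pieces B1 `F1`, B2a `exists_prim`, B2b `exists_rho_cent`. -/

set_option autoImplicit false

namespace Cfsg.Agent.Lib.Helper8.PR

variable {G : Type*} [Group G]

/-- an element lies in a subgroup as soon as all its powers of prime power order do. -/
theorem h6_mem_of_primary_pow_mem [Finite G] (K : Subgroup G) (b : G)
    (h : ∀ k : ℕ, (∃ q j : ℕ, q.Prime ∧ orderOf (b ^ k) = q ^ j) → b ^ k ∈ K) : b ∈ K := by
  have key : ∀ n k : ℕ, orderOf (b ^ k) = n → b ^ k ∈ K := by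
    intro n
    induction n using Nat.strong_induction_on with
    | _ n ih =>
      intro k hk
      have hnpos : 0 < n := hk ▸ orderOf_pos (b ^ k)
      rcases Nat.lt_or_ge 1 n with h1 | h1
      · -- n > 1
        obtain ⟨q, hq, hqn⟩ : ∃ q : ℕ, q.Prime ∧ q ∣ n :=
          ⟨n.minFac, Nat.minFac_prime (by omega), Nat.minFac_dvd n⟩
        obtain ⟨j, d, hqd, hn⟩ := Nat.exists_eq_pow_mul_and_not_dvd (by omega : n ≠ 0) q hq.ne_one
        by_cases hd : d = 1
        · apply h k
          refine ⟨q, j, hq, ?_⟩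
          rw [hk, hn, hd, mul_one]
        · -- coprime factorization
          have hj : j ≠ 0 := by
            rintro rfl
            rw [pow_zero, one_mul] at hn
            exact hqd (hn ▸ hqn)
          have hdpos : 0 < d := by
            rcases Nat.eq_zero_or_pos d with h0 | h0
            · rw [h0, mul_zero] at hn; omega
            · exact h0
          have ha1 : 1 < q ^ j := Nat.one_lt_pow hj hq.one_lt
          have hd1 : 1 < d := by omega
          have hcop : Nat.Coprime (q ^ j) d :=
            Nat.Coprime.pow_left j ((Nat.Prime.coprime_iff_not_dvd hq).mpr hqd)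
          obtain ⟨a, ha⟩ : ∃ a, a = q ^ j := ⟨_, rfl⟩
          rw [← ha] at hn ha1 hcop
          have hapos : 0 < a := by omega
          obtain ⟨c, hc⟩ : ∃ c, c = b ^ k := ⟨_, rfl⟩
          -- orders of c^a and c^d
          have ho1 : orderOf (c ^ a) = d := by
            rw [hc, orderOf_pow_of_dvd (by omega) (by rw [hk, hn]; exact dvd_mul_right _ _), hk, hn,
              Nat.mul_div_cancel_left _ hapos]
          have ho2 : orderOf (c ^ d) = a := by
            rw [hc, orderOf_pow_of_dvd (by omega) (by rw [hk, hn]; exact dvd_mul_left _ _), hk, hn,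
              Nat.mul_div_cancel _ hdpos]
          have hlt1 : d < n := by
            rw [hn]; nlinarith
          have hlt2 : a < n := by
            rw [hn]; nlinarith
          have m1 : c ^ a ∈ K := by
            rw [hc, ← pow_mul] at ho1 ⊢
            exact ih d hlt1 (k * a) ho1
          have m2 : c ^ d ∈ K := by
            rw [hc, ← pow_mul] at ho2 ⊢
            exact ih a hlt2 (k * d) ho2
          have hbez : (1 : ℤ) = (a : ℤ) * Nat.gcdA a d + (d : ℤ) * Nat.gcdB a d := by
            have := Nat.gcd_eq_gcd_ab a d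
            rw [hcop.gcd_eq_one] at this
            exact_mod_cast this
          have : c = (c ^ a) ^ (Nat.gcdA a d) * (c ^ d) ^ (Nat.gcdB a d) := by
            rw [← zpow_natCast c a, ← zpow_natCast c d, ← zpow_mul, ← zpow_mul, ← zpow_add, ← hbez,
              zpow_one]
          rw [← hc, this]
          exact K.mul_mem (K.zpow_mem m1 _) (K.zpow_mem m2 _)
      · have : n = 1 := by omega
        rw [this, orderOf_eq_one_iff] at hk
        rw [hk]
        exact K.one_mem
  have := key (orderOf (b ^ 1)) 1 rfl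
  rwa [pow_one] at this

/-- commuting elements of coprime orders: the first is a power of the product. -/
theorem h6_pow_mul_eq [Finite G] {x y : G} (hc : x * y = y * x)
    (hco : (orderOf x).Coprime (orderOf y)) : ∃ n : ℕ, (x * y) ^ n = x := by
  rcases Nat.lt_or_ge 1 (orderOf x) with h1 | h1
  · obtain ⟨t, -, ht⟩ := Nat.exists_mul_mod_eq_one_of_coprime hco.symm h1
    refine ⟨orderOf y * t, ?_⟩
    have hcm : Commute x y := hc
    rw [hcm.mul_pow, pow_mul y, pow_orderOf_eq_one, one_pow, mul_one, ← pow_mod_orderOf, ht, pow_one]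
  · have h0 : orderOf x = 1 := by
      have := orderOf_pos x
      omega
    rw [orderOf_eq_one_iff] at h0
    exact ⟨0, by rw [h0, pow_zero]⟩

theorem h6_centralizer_le_of_pow {x : G} (n : ℕ) :
    Subgroup.centralizer ({x} : Set G) ≤ Subgroup.centralizer ({x ^ n} : Set G) := by
  intro c hc
  rw [Subgroup.mem_centralizer_singleton_iff] at hc ⊢
  exact ((Commute.pow_left (show Commute x c from hc.symm) n).eq).symm

theorem h6_not_center_of_pow {x : G} (n : ℕ) (h : x ^ n ∉ Subgroup.center G) :
    x ∉ Subgroup.center G := fun hx => h (Subgroup.pow_mem _ hx n)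

/-- equal index and inclusion give equality of centralizers. -/
theorem h6_centralizer_eq_of_idx [Finite G] {x y : G}
    (hle : Subgroup.centralizer ({x} : Set G) ≤ Subgroup.centralizer ({y} : Set G))
    (hidx : idx x = idx y) :
    Subgroup.centralizer ({x} : Set G) = Subgroup.centralizer ({y} : Set G) := by
  apply le_antisymm hle
  have h1 := Subgroup.relIndex_mul_index hle
  unfold idx at hidx
  rw [hidx] at h1
  have hpos : 0 < (Subgroup.centralizer ({y} : Set G)).index :=
    Nat.pos_of_ne_zero Subgroup.index_ne_zero_of_finite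
  have h2 : (Subgroup.centralizer ({x} : Set G)).relIndex (Subgroup.centralizer ({y} : Set G)) = 1 := by
    nlinarith
  exact Subgroup.relIndex_eq_one.mp h2

/-- B1 -/
theorem F1 [Finite G] {p m : ℕ} (H : Hyp G p m) {x y : G} (hx : PReg p x) (hy : PReg p y)
    (hc : x * y = y * x) (hco : (orderOf x).Coprime (orderOf y)) (hxz : x ∉ Subgroup.center G) :
    Subgroup.centralizer ({x} : Set G) ≤ Subgroup.centralizer ({y} : Set G) := by
  obtain ⟨n, hn⟩ := h6_pow_mul_eq hc hco
  obtain ⟨n', hn'⟩ := h6_pow_mul_eq hc.symm hco.symm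
  rw [← hc] at hn'
  have hxy : PReg p (x * y) := hx.mul hy hc
  have hxyz : x * y ∉ Subgroup.center G := by
    apply h6_not_center_of_pow n
    rw [hn]; exact hxz
  have h1 : idx (x * y) = m := (H.cls _ hxy).resolve_left hxyz
  have h2 : idx x = m := (H.cls _ hx).resolve_left hxz
  have hle : Subgroup.centralizer ({x * y} : Set G) ≤ Subgroup.centralizer ({x} : Set G) := by
    have := h6_centralizer_le_of_pow (x := x * y) n
    rwa [hn] at this
  have heq := h6_centralizer_eq_of_idx hle (h1.trans h2.symm)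
  rw [← heq]
  have := h6_centralizer_le_of_pow (x := x * y) n'
  rwa [hn'] at this

/-- B2a -/
theorem exists_prim [Finite G] {p m : ℕ} (H : Hyp G p m) {g : G} (hg : PReg p g)
    (hgz : g ∉ Subgroup.center G) :
    ∃ (q : ℕ) (x : G), q.Prime ∧ q ≠ p ∧ IsPow q x ∧ x ∉ Subgroup.center G ∧
      Subgroup.centralizer ({x} : Set G) = Subgroup.centralizer ({g} : Set G) := by
  have hex : ∃ k : ℕ, (∃ q j : ℕ, q.Prime ∧ orderOf (g ^ k) = q ^ j) ∧ g ^ k ∉ Subgroup.center G := by
    by_contra hcon
    push Not at hcon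
    exact hgz (h6_mem_of_primary_pow_mem _ g hcon)
  obtain ⟨k, ⟨q, j, hq, hqj⟩, hkz⟩ := hex
  have hj : j ≠ 0 := by
    rintro rfl
    rw [pow_zero, orderOf_eq_one_iff] at hqj
    rw [hqj] at hkz
    exact hkz (Subgroup.one_mem _)
  have hqp : q ≠ p := by
    rintro rfl
    have h1 : q ∣ orderOf g := by
      have : q ∣ orderOf (g ^ k) := by rw [hqj]; exact dvd_pow_self q hj
      exact this.trans (orderOf_pow_dvd k)
    have h2 : (orderOf g).Coprime q := hg
    have := Nat.eq_one_of_dvd_coprimes h2 h1 dvd_rfl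
    exact hq.ne_one this
  have hkp : PReg p (g ^ k) := hg.pow k
  have h1 : idx (g ^ k) = m := (H.cls _ hkp).resolve_left hkz
  have h2 : idx g = m := (H.cls _ hg).resolve_left hgz
  refine ⟨q, g ^ k, hq, hqp, ⟨j, hqj⟩, hkz, ?_⟩
  exact (h6_centralizer_eq_of_idx (h6_centralizer_le_of_pow k) (h2.trans h1.symm)).symm

/-- B2b -/
theorem exists_rho_cent [Finite G] {p m : ℕ} (H : Hyp G p m) {g : G} (hg : PReg p g)
    (hgz : g ∉ Subgroup.center G) {r : ℕ} (hr : InRho G p r) :
    ∃ b ∈ Subgroup.centralizer ({g} : Set G), b ∉ Subgroup.center G ∧ IsPow r b := by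
  obtain ⟨hrp, hrne, w, hwz, kw, hkw⟩ := hr
  haveI : Fact r.Prime := ⟨hrp⟩
  by_contra hcon
  push Not at hcon
  -- w is p-regular
  have hwp : PReg p w := by
    unfold PReg
    rw [hkw]
    exact Nat.Coprime.pow_left kw ((Nat.coprime_primes hrp H.hp).mpr hrne)
  have h1 : idx w = m := (H.cls _ hwp).resolve_left hwz
  have h2 : idx g = m := (H.cls _ hg).resolve_left hgz
  have hmpos : 0 < m := by have := H.hm; omega
  set Cg := Subgroup.centralizer ({g} : Set G) with hCg
  set Cw := Subgroup.centralizer ({w} : Set G) with hCw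
  set Z := Subgroup.center G with hZ
  have hcard : Nat.card Cw = Nat.card Cg := by
    have e1 := Subgroup.card_mul_index Cw
    have e2 := Subgroup.card_mul_index Cg
    unfold idx at h1 h2
    rw [h1] at e1
    rw [h2] at e2
    exact Nat.eq_of_mul_eq_mul_right hmpos (e1.trans e2.symm)
  -- a Sylow r-subgroup of C(g) is central
  obtain ⟨R⟩ : Nonempty (Sylow r Cg) := inferInstance
  have hRZ : (R : Subgroup Cg).map Cg.subtype ≤ Z := by
    rintro _ ⟨b, hb, rfl⟩
    have hbp : IsPGroup r (R : Subgroup Cg) := R.isPGroup'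
    obtain ⟨k, hk⟩ := (IsPGroup.iff_orderOf.mp hbp) ⟨b, hb⟩
    have hk' : orderOf ((b : Cg) : G) = r ^ k := by
      rw [Subgroup.orderOf_coe, ← hk, ← Subgroup.orderOf_coe ⟨b, hb⟩]
    by_contra hbz
    exact hcon (b : G) b.2 hbz ⟨k, hk'⟩
  have hRcard : Nat.card ((R : Subgroup Cg).map Cg.subtype) = r ^ (Nat.card Cg).factorization r := by
    rw [Subgroup.card_map_of_injective Cg.subtype_injective]
    exact R.card_eq_multiplicity
  have hdvd1 : r ^ (Nat.card Cg).factorization r ∣ Nat.card Z := by
    rw [← hRcard]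
    exact Subgroup.card_dvd_of_le hRZ
  -- Z ⊔ ⟨w⟩ inside C(w)
  have hZCw : Z ≤ Cw := Subgroup.center_le_centralizer _
  have hwCw : Subgroup.zpowers w ≤ Cw := by
    rw [Subgroup.zpowers_le]
    exact Subgroup.mem_centralizer_singleton_iff.mpr rfl
  set A := Subgroup.zpowers w ⊔ Z with hA
  have hACw : A ≤ Cw := sup_le hwCw hZCw
  have hZA : Z ≤ A := le_sup_right
  have hrel : r ∣ Z.relIndex A := by
    rw [hA, Subgroup.relIndex_sup_right]
    have hd : Z.relIndex (Subgroup.zpowers w) ∣ r ^ kw := by
      have := Subgroup.relIndex_dvd_card Z (Subgroup.zpowers w)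
      rwa [Nat.card_zpowers, hkw] at this
    obtain ⟨j, -, hj⟩ := (Nat.dvd_prime_pow hrp).mp hd
    have hj0 : j ≠ 0 := by
      rintro rfl
      rw [pow_zero, Subgroup.relIndex_eq_one] at hj
      exact hwz (hj (Subgroup.mem_zpowers w))
    rw [hj]
    exact dvd_pow_self r hj0
  have hcardCw : Nat.card Cw = Nat.card Z * (Z.relIndex A * A.relIndex Cw) := by
    calc Nat.card Cw = (⊥ : Subgroup G).relIndex Cw := (Subgroup.relIndex_bot_left Cw).symm
      _ = (⊥ : Subgroup G).relIndex Z * Z.relIndex Cw :=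
          (Subgroup.relIndex_mul_relIndex ⊥ Z Cw bot_le hZCw).symm
      _ = Nat.card Z * (Z.relIndex A * A.relIndex Cw) := by
          rw [Subgroup.relIndex_bot_left, Subgroup.relIndex_mul_relIndex Z A Cw hZA hACw]
  have hfin : r ^ ((Nat.card Cg).factorization r + 1) ∣ Nat.card Cg := by
    obtain ⟨e, he⟩ : ∃ e, e = (Nat.card Cg).factorization r := ⟨_, rfl⟩
    rw [← he] at hdvd1 ⊢
    rw [← hcard, hcardCw, pow_succ]
    exact Nat.mul_dvd_mul hdvd1 (Dvd.dvd.mul_right hrel _)
  exact Nat.pow_succ_factorization_not_dvd (Nat.card_pos.ne') hrp hfin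

end Cfsg.Agent.Lib.Helper8.PR
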