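import Mathlib
import Cfsg.Agent.Lib.Helper8.PRDefs
import Cfsg.Agent.Lib.Helper6.PRB1

/-! S4033 farm (helper8), piece B2c `mem_BB_iff`. -/

set_option autoImplicit false

namespace Cfsg.Agent.Lib.Helper8.PR

variable {G : Type*} [Group G]

theorem h6_preg_of_isPow {p r : ℕ} (hp : p.Prime) (hr : r.Prime) (hrp : r ≠ p) {x : G} (hx : IsPow r x) :
    PReg p x := by
  obtain ⟨k, hk⟩ := hx
  unfold PReg
  rw [hk]
  exact Nat.Coprime.pow_left k ((Nat.coprime_primes hr hp).mpr hrp)

/-- B2c -/
theorem mem_BB_iff [Finite G] {p m : ℕ} (H : Hyp G p m) (h2 : TwoRho G p) {g : G} (hg : PReg p g)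
    (hgz : g ∉ Subgroup.center G) (b : G) :
    b ∈ BB p g ↔ b ∈ Subgroup.centralizer ({g} : Set G) ∧ PReg p b := by
  constructor
  · intro hb
    exact ⟨hb.1, hb.2.2⟩
  rintro ⟨hbC, hbp⟩
  refine ⟨hbC, ?_, hbp⟩
  -- a noncentral q-element x with C(x) = C(g)
  obtain ⟨q, x, hq, hqp, hxq, hxz, hCx⟩ := exists_prim H hg hgz
  have hxp : PReg p x := h6_preg_of_isPow H.hp hq hqp hxq
  -- a prime r ∈ ρ different from q
  obtain ⟨r, hrq, hr⟩ : ∃ r, r ≠ q ∧ InRho G p r := by
    obtain ⟨q1, q2, h12, hq1, hq2⟩ := h2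
    by_cases h : q1 = q
    · exact ⟨q2, fun h' => h12 (h.trans h'.symm), hq2⟩
    · exact ⟨q1, h, hq1⟩
  obtain ⟨y, hyC, hyz, hyr⟩ := exists_rho_cent H hg hgz hr
  have hyp : PReg p y := h6_preg_of_isPow H.hp hr.1 hr.2.1 hyr
  have hxy : x * y = y * x := by
    rw [← hCx] at hyC
    exact (Subgroup.mem_centralizer_singleton_iff.mp hyC).symm
  have hcoxy : (orderOf x).Coprime (orderOf y) := by
    obtain ⟨a, ha⟩ := hxq
    obtain ⟨c, hc⟩ := hyr
    rw [ha, hc]
    exact Nat.Coprime.pow _ _ ((Nat.coprime_primes hq hr.1).mpr (Ne.symm hrq))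
  have hCxy : Subgroup.centralizer ({x} : Set G) ≤ Subgroup.centralizer ({y} : Set G) :=
    F1 H hxp hyp hxy hcoxy hxz
  have hCyx : Subgroup.centralizer ({y} : Set G) ≤ Subgroup.centralizer ({x} : Set G) :=
    F1 H hyp hxp hxy.symm hcoxy.symm hyz
  have hCy : Subgroup.centralizer ({y} : Set G) = Subgroup.centralizer ({g} : Set G) :=
    (le_antisymm hCyx hCxy).trans hCx
  -- prime power order elements of C(g) are central in C(g)
  have hprim : ∀ z : G, z ∈ Subgroup.centralizer ({g} : Set G) → PReg p z →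
      ∀ t j : ℕ, t.Prime → orderOf z = t ^ j →
      Subgroup.centralizer ({g} : Set G) ≤ Subgroup.centralizer ({z} : Set G) := by
    intro z hzC hzp t j ht htj
    by_cases htq : t = q
    · -- use y
      have hyz' : y * z = z * y := by
        rw [← hCy] at hzC
        exact (Subgroup.mem_centralizer_singleton_iff.mp hzC).symm
      have hco : (orderOf y).Coprime (orderOf z) := by
        obtain ⟨c, hc⟩ := hyr
        rw [hc, htj, htq]
        exact Nat.Coprime.pow _ _ ((Nat.coprime_primes hr.1 hq).mpr hrq)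
      rw [← hCy]
      exact F1 H hyp hzp hyz' hco hyz
    · have hxz' : x * z = z * x := by
        rw [← hCx] at hzC
        exact (Subgroup.mem_centralizer_singleton_iff.mp hzC).symm
      have hco : (orderOf x).Coprime (orderOf z) := by
        obtain ⟨a, ha⟩ := hxq
        rw [ha, htj]
        exact Nat.Coprime.pow _ _ ((Nat.coprime_primes hq ht).mpr (Ne.symm htq))
      rw [← hCx]
      exact F1 H hxp hzp hxz' hco hxz
  -- assemble with the primary decomposition
  have hmem : b ∈ Subgroup.centralizer ((Subgroup.centralizer ({g} : Set G) : Subgroup G) : Set G) := by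
    apply h6_mem_of_primary_pow_mem
    rintro k ⟨t, j, ht, htj⟩
    have h1 : b ^ k ∈ Subgroup.centralizer ({g} : Set G) := Subgroup.pow_mem _ hbC k
    have h3 := hprim (b ^ k) h1 (hbp.pow k) t j ht htj
    rw [Subgroup.mem_centralizer_iff]
    intro c hc
    exact Subgroup.mem_centralizer_singleton_iff.mp (h3 hc)
  intro c hc
  exact (Subgroup.mem_centralizer_iff.mp hmem) c hc

end Cfsg.Agent.Lib.Helper8.PR
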