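import Mathlib
import Cfsg.Prelude.Def_Characters
import Cfsg.Prelude.Def_CharExt

/-! Definitions for the real-vector criterion (S4959): the configuration with a possibly
nonabelian stabilizer, generalized-character data on groups and on modules, the semidirect
product of a module with the acting group, and the Heisenberg group of a symplectic module. -/

set_option autoImplicit false

namespace Cfsg.Agent.Lib.Helper6.Rv

open scoped ComplexConjugate

universe u v

section Group

variable {X : Type u} [Group X]

/-- the hypotheses on the configuration (stabilizer not assumed abelian) -/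
structure NConfig (p : ℕ) (V G H : Subgroup X) (u : X) : Prop where
  normal : V.Normal
  hVab : ∀ a ∈ V, ∀ b ∈ V, a * b = b * a
  hVexp : ∀ a ∈ V, a ^ p = 1
  hGp : ¬ p ∣ Nat.card G
  hGV : Subgroup.IsComplement' V G
  hu : u ∈ V
  hHG : H ≤ G
  hHu : ∀ h ∈ H, h * u = u * h
  hHmax : ∀ g ∈ G, g * u = u * g → g ∈ H

/-- generalized-character data on the stabilizer, phrased inside the group -/
structure NGD (p : ℕ) (V H : Subgroup X) {S : Type} [Fintype S] (θ : S → (H → ℂ))
    (ω : S → ℂ) : Prop where
  hω : ∀ s, ω s ^ p = 1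
  hθ : ∀ s, Cfsg.IsGeneralizedCharacter H (θ s)
  h1 : ∑ s, θ s 1 = 1
  hp : ∀ h : H, h ≠ 1 → ∃ ε : ℂ, IsIntegral ℤ ε ∧ ∑ s, θ s h = (p : ℂ) * ε
  hn : ∀ k : ℕ, ¬ p ∣ k → ∀ h : H,
      ‖∑ s, ω s ^ k * θ s h‖ ^ 2 *
        (Nat.card {w : V // (w : X) * (h : X) = (h : X) * w} : ℝ) ≤ (Nat.card V : ℝ)

end Group

section Module

variable (p : ℕ) {H : Type u} [Group H] {M : Type v} [AddCommGroup M] [Module (ZMod p) M]

/-- generalized-character data for the action of `H` on the module `M`: a finite family of
pairs (generalized character of `H`, `p`-th root of unity) whose twisted sums have absolute value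
squared `|M : C_M(h)|`, whose untwisted sum is `1` on the kernel of the action and divisible by
`p` off the kernel. -/
def MData (ρ : Representation (ZMod p) H M) : Prop :=
  ∃ (S : Type) (_ : Fintype S) (θ : S → (H → ℂ)) (ω : S → ℂ),
    (∀ s, ω s ^ p = 1) ∧ (∀ s, Cfsg.IsGeneralizedCharacter H (θ s)) ∧
    (∀ h : H, (∀ x, ρ h x = x) → ∑ s, θ s h = 1) ∧
    (∀ h : H, ¬ (∀ x, ρ h x = x) → ∃ ε : ℂ, IsIntegral ℤ ε ∧ ∑ s, θ s h = (p : ℂ) * ε) ∧
    (∀ k : ℕ, ¬ p ∣ k → ∀ h : H,
      ‖∑ s, ω s ^ k * θ s h‖ ^ 2 * (Nat.card {x : M // ρ h x = x} : ℝ) = (Nat.card M : ℝ))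

variable {p}

/-- the action of `H` on the multiplicative version of the module -/
def actM (ρ : Representation (ZMod p) H M) : H →* MulAut (Multiplicative M) where
  toFun h :=
    { toFun := fun m => Multiplicative.ofAdd (ρ h (Multiplicative.toAdd m))
      invFun := fun m => Multiplicative.ofAdd (ρ h⁻¹ (Multiplicative.toAdd m))
      left_inv := fun m => by
        show Multiplicative.ofAdd (ρ h⁻¹ (ρ h (Multiplicative.toAdd m))) = m
        rw [← Module.End.mul_apply, ← map_mul, inv_mul_cancel, map_one]
        rfl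
      right_inv := fun m => by
        show Multiplicative.ofAdd (ρ h (ρ h⁻¹ (Multiplicative.toAdd m))) = m
        rw [← Module.End.mul_apply, ← map_mul, mul_inv_cancel, map_one]
        rfl
      map_mul' := fun a b => by
        show Multiplicative.ofAdd (ρ h (Multiplicative.toAdd a + Multiplicative.toAdd b)) = _
        rw [map_add]
        rfl }
  map_one' := by
    ext m
    show Multiplicative.ofAdd (ρ 1 (Multiplicative.toAdd m)) = m
    rw [map_one]
    rfl
  map_mul' a b := by
    ext m
    show Multiplicative.ofAdd (ρ (a * b) (Multiplicative.toAdd m)) =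
      Multiplicative.ofAdd (ρ a (ρ b (Multiplicative.toAdd m)))
    rw [map_mul]
    rfl

theorem actM_apply (ρ : Representation (ZMod p) H M) (h : H) (m : Multiplicative M) :
    actM ρ h m = Multiplicative.ofAdd (ρ h (Multiplicative.toAdd m)) := rfl

/-- the semidirect product `M ⋊ H` -/
abbrev MH (ρ : Representation (ZMod p) H M) : Type (max u v) :=
  Multiplicative M ⋊[actM ρ] H

variable (p H M)

/-- a symplectic module for `H`: an invariant nondegenerate alternating form -/
structure SympData where
  ρ : Representation (ZMod p) H M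
  A : LinearMap.BilinForm (ZMod p) M
  alt : ∀ x, A x x = 0
  nd : ∀ x, (∀ y, A x y = 0) → x = 0
  inv : ∀ h x y, A (ρ h x) (ρ h y) = A x y

variable {p H M}

theorem SympData.skew (D : SympData p H M) (x y : M) : D.A x y = - D.A y x := by
  have h := D.alt (x + y)
  simp only [map_add, LinearMap.add_apply, D.alt, zero_add, add_zero] at h
  exact eq_neg_of_add_eq_zero_right h

/-- the Heisenberg group of a symplectic module: `M × ZMod p` with the product
`(x,s)(y,t) = (x+y, s+t+A(x,y)/2)` -/
@[ext] structure Heis (D : SympData p H M) : Type v where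
  x : M
  s : ZMod p

namespace Heis

variable (D : SympData p H M)

instance : Mul (Heis D) := ⟨fun a b => ⟨a.x + b.x, a.s + b.s + 2⁻¹ * D.A a.x b.x⟩⟩
instance : One (Heis D) := ⟨⟨0, 0⟩⟩
instance : Inv (Heis D) := ⟨fun a => ⟨-a.x, -a.s⟩⟩

@[simp] theorem mul_x (a b : Heis D) : (a * b).x = a.x + b.x := rfl
@[simp] theorem mul_s (a b : Heis D) : (a * b).s = a.s + b.s + 2⁻¹ * D.A a.x b.x := rfl
@[simp] theorem one_x : (1 : Heis D).x = 0 := rfl
@[simp] theorem one_s : (1 : Heis D).s = 0 := rfl
@[simp] theorem inv_x (a : Heis D) : (a⁻¹).x = -a.x := rfl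
@[simp] theorem inv_s (a : Heis D) : (a⁻¹).s = -a.s := rfl

instance : Group (Heis D) where
  mul_assoc a b c := by
    ext
    · simp [add_assoc]
    · simp only [mul_s, mul_x, map_add, LinearMap.add_apply]
      ring
  one_mul a := by
    ext
    · simp
    · simp
  mul_one a := by
    ext
    · simp
    · simp
  inv_mul_cancel a := by
    ext
    · simp
    · simp [D.alt]

/-- the underlying set -/
def equivProd : Heis D ≃ M × ZMod p where
  toFun a := (a.x, a.s)
  invFun y := ⟨y.1, y.2⟩
  left_inv _ := rfl
  right_inv _ := rfl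

instance [Finite M] [NeZero p] : Finite (Heis D) := Finite.of_equiv _ (equivProd D).symm

/-- the action of `H` on the Heisenberg group -/
def act : H →* MulAut (Heis D) where
  toFun h :=
    { toFun := fun a => ⟨D.ρ h a.x, a.s⟩
      invFun := fun a => ⟨D.ρ h⁻¹ a.x, a.s⟩
      left_inv := fun a => by
        ext
        · show D.ρ h⁻¹ (D.ρ h a.x) = a.x
          rw [← Module.End.mul_apply, ← map_mul, inv_mul_cancel, map_one]
          rfl
        · rfl
      right_inv := fun a => by
        ext
        · show D.ρ h (D.ρ h⁻¹ a.x) = a.x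
          rw [← Module.End.mul_apply, ← map_mul, mul_inv_cancel, map_one]
          rfl
        · rfl
      map_mul' := fun a b => by
        ext
        · show D.ρ h (a.x + b.x) = D.ρ h a.x + D.ρ h b.x
          rw [map_add]
        · show a.s + b.s + 2⁻¹ * D.A a.x b.x = a.s + b.s + 2⁻¹ * D.A (D.ρ h a.x) (D.ρ h b.x)
          rw [D.inv] }
  map_one' := by
    ext a
    · show D.ρ 1 a.x = a.x
      rw [map_one]
      rfl
    · rfl
  map_mul' g h := by
    ext a
    · show D.ρ (g * h) a.x = D.ρ g (D.ρ h a.x)
      rw [map_mul]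
      rfl
    · rfl

@[simp] theorem act_x (h : H) (a : Heis D) : (act D h a).x = D.ρ h a.x := rfl
@[simp] theorem act_s (h : H) (a : Heis D) : (act D h a).s = a.s := rfl

end Heis

/-- the semidirect product of the Heisenberg group with `H` -/
abbrev Gam (D : SympData p H M) : Type (max u v) := Heis D ⋊[Heis.act D] H

variable (p H M)

/-- a quadratic module for `H`: an invariant quadratic function with nondegenerate polar form -/
structure QuadData where
  ρ : Representation (ZMod p) H M
  q : M → ZMod p
  B : M → M → ZMod p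
  hq : ∀ x y, q (x + y) = q x + q y + B x y
  hBadd : ∀ x y z, B (x + y) z = B x z + B y z
  hBnd : ∀ x, (∀ y, B x y = 0) → x = 0
  hinv : ∀ h x, q (ρ h x) = q x

variable {p H M}

/-- number of elements of the image of `g - 1` on which `q` takes the value `j` -/
noncomputable def tauCount (q : M → ZMod p) (g : M →ₗ[ZMod p] M) (j : ZMod p) : ℕ :=
  Nat.card {z : M // z ∈ LinearMap.range (g - LinearMap.id) ∧ q z = j}

/-- number of fixed points of `g` on which `q` takes the value `i` -/
noncomputable def piCount (q : M → ZMod p) (g : M →ₗ[ZMod p] M) (i : ZMod p) : ℕ :=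
  Nat.card {c : M // g c = c ∧ q c = i}

/-- number of elements on which `q` takes the value `m` -/
noncomputable def levelCount (q : M → ZMod p) (m : ZMod p) : ℕ :=
  Nat.card {y : M // q y = m}

/-- the standard primitive `p`-th root of unity -/
noncomputable def zetaP (p : ℕ) : ℂ := Complex.exp (2 * Real.pi * Complex.I / p)

/-- the faithful irreducible character of the Heisenberg group -/
structure HeisIrr (D : SympData p H M) (Φ : Heis D → ℂ) (c : ℂ) (n : ℕ) : Prop where
  irr : Cfsg.IsIrrCharacter (Heis D) Φ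
  hc1 : c ≠ 1
  hcp : c ^ p = 1
  off : ∀ a : Heis D, a.x ≠ 0 → Φ a = 0
  cen : ∀ s : ZMod p, Φ ⟨0, s⟩ = (n : ℂ) * c ^ s.val
  deg : n ^ 2 = Nat.card M

/-- the canonical extension of an invariant irreducible character of the Heisenberg group -/
structure CanonExt (D : SympData p H M) (Φ : Heis D → ℂ) (Ψ : Gam D → ℂ) : Prop where
  irr : Cfsg.IsIrrCharacter (Gam D) Ψ
  ext : ∀ a : Heis D, Ψ (SemidirectProduct.inl a) = Φ a
  det : Nat.Coprime (Cfsg.detOrder Ψ) (Nat.card H)
  uniq : ∀ Ψ' : Gam D → ℂ, Cfsg.IsIrrCharacter (Gam D) Ψ' →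
    (∀ a : Heis D, Ψ' (SemidirectProduct.inl a) = Φ a) →
    Nat.Coprime (Cfsg.detOrder Ψ') (Nat.card H) → Ψ' = Ψ

end Module

end Cfsg.Agent.Lib.Helper6.Rv
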