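import Mathlib
import Cfsg.Prelude.Def_Blocks
import Cfsg.Prelude.Def_CharExt
import Cfsg.Agent.Lib.Helper3.DetChar
import Cfsg.Agent.Lib.Helper6.GaloisConj
import Cfsg.Agent.Lib.Helper6.Mult
import Cfsg.Agent.Lib.Helper6.CharMisc
import Cfsg.Agent.Lib.Helper6.BlkCover3
import Cfsg.Agent.Lib.Helper6.BlkPrincipal
import Cfsg.Agent.Lib.Helper6.Orthogonality
import Cfsg.Agent.S0887

set_option autoImplicit false
set_option linter.unusedSectionVars false
set_option linter.style.haveILetI false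
open Cfsg

universe u

namespace Cfsg.Agent.Lib.Helper6.GalFix

open Cfsg.Agent.Lib.Helper6 Cfsg.Agent.Lib.Helper3.DetChar
open scoped ComplexConjugate

section det

variable {G : Type u} [Group G] [Finite G]

open scoped IsMulCommutative in
/-- the determinantal character commutes with the power map Galois action -/
theorem detChar_comp_pow {χ : G → ℂ} (hχ : Cfsg.IsIrrCharacter G χ) {k : ℕ}
    (hk : Nat.Coprime k (Nat.card G)) :
    Cfsg.detChar (fun g => χ (g ^ k)) = fun g => Cfsg.detChar χ (g ^ k) := by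
  classical
  haveI : Fintype G := Fintype.ofFinite G
  funext g
  have hχk : Cfsg.IsCharacter G (fun g => χ (g ^ k)) :=
    IsIrrCharacter.isCharacter (IsIrrCharacter.comp_pow hχ hk)
  have hχc : Cfsg.IsCharacter G χ := IsIrrCharacter.isCharacter hχ
  let C : Subgroup G := Subgroup.zpowers g
  let g' : C := ⟨g, Subgroup.mem_zpowers g⟩
  have h1 := congrFun (detChar_comp C.subtype hχk) g'
  have h2 := congrFun (detChar_comp (powMonoidHom k : C →* C)
    (IsCharacter.restrict C hχc)) g'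
  have h3 := congrFun (detChar_comp C.subtype hχc) (g' ^ k)
  simp only [Subgroup.coe_subtype, powMonoidHom_apply] at h1 h2 h3
  have h4 : (fun c : C => χ ((c : G) ^ k)) = fun c : C => χ ((c ^ k : C) : G) := by
    funext c
    rw [Subgroup.coe_pow]
  show Cfsg.detChar (fun g => χ (g ^ k)) (g' : G) = Cfsg.detChar χ ((g' : G) ^ k)
  rw [← h1, h4, h2, h3, Subgroup.coe_pow]

theorem orderOf_detChar_dvd {χ : G → ℂ} (hχ : Cfsg.IsCharacter G χ) :
    orderOf (Cfsg.detChar χ) ∣ Nat.card G := by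
  obtain ⟨f, hf⟩ := exists_hom_eq_detChar hχ
  apply orderOf_dvd_of_pow_eq_one
  funext g
  rw [hf, Pi.pow_apply, Pi.one_apply, ← Units.val_pow_eq_pow_val, ← map_pow, pow_card_eq_one',
    map_one, Units.val_one]

theorem detOrder_comp_pow {χ : G → ℂ} (hχ : Cfsg.IsIrrCharacter G χ) {k : ℕ}
    (hk : Nat.Coprime k (Nat.card G)) :
    Cfsg.detOrder (fun g => χ (g ^ k)) = Cfsg.detOrder χ := by
  have hχc : Cfsg.IsCharacter G χ := IsIrrCharacter.isCharacter hχ
  unfold Cfsg.detOrder
  rw [detChar_comp_pow hχ hk]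
  obtain ⟨f, hf⟩ := exists_hom_eq_detChar hχc
  have h1 : (fun g => Cfsg.detChar χ (g ^ k)) = (Cfsg.detChar χ) ^ k := by
    funext g
    rw [hf, Pi.pow_apply]
    show ((f (g ^ k) : ℂˣ) : ℂ) = ((f g : ℂˣ) : ℂ) ^ k
    rw [map_pow, Units.val_pow_eq_pow_val]
  rw [h1]
  apply Nat.Coprime.orderOf_pow
  exact Nat.Coprime.coprime_dvd_left (orderOf_detChar_dvd hχc) hk.symm

end det

section count

theorem card_hom_pow_eq_one_comm {Q : Type*} [CommGroup Q] [Finite Q] [IsCyclic Q] (p : ℕ)
    (hdvd : p ∣ Nat.card Q) :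
    Nat.card {f : Q →* ℂˣ // ∀ x, (f x) ^ p = 1} = p := by
  have hne : NeZero ((Monoid.exponent Q : ℕ) : ℂ) := by
    constructor
    exact_mod_cast Monoid.exponent_ne_zero_of_finite
  have : HasEnoughRootsOfUnity ℂ (Monoid.exponent Q) := inferInstance
  obtain ⟨e⟩ := CommGroup.monoidHom_mulEquiv_of_hasEnoughRootsOfUnity Q ℂ
  have hfin : Finite (Q →* ℂˣ) := Finite.of_equiv Q e.symm.toEquiv
  have hcyc : IsCyclic (Q →* ℂˣ) := isCyclic_of_surjective e.symm e.symm.surjective
  have h1 := IsCyclic.card_powMonoidHom_ker (Q →* ℂˣ) p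
  have h2 : Nat.card (Q →* ℂˣ) = Nat.card Q := Nat.card_congr e.toEquiv
  rw [h2, Nat.gcd_eq_right hdvd] at h1
  refine (Nat.card_congr ?_).trans h1
  refine Equiv.subtypeEquivRight (fun f => ?_)
  rw [MonoidHom.mem_ker, powMonoidHom_apply]
  constructor
  · intro h
    ext x
    rw [MonoidHom.pow_apply, h x]
    rfl
  · intro h x
    have := DFunLike.congr_fun h x
    rw [MonoidHom.pow_apply] at this
    exact this

theorem card_hom_pow_eq_one {Q : Type*} [inst : Group Q] [Finite Q] (hcyc : IsCyclic Q) (p : ℕ)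
    (hdvd : p ∣ Nat.card Q) :
    Nat.card {f : Q →* ℂˣ // ∀ x, (f x) ^ p = 1} = p := by
  letI : CommGroup Q := { inst with mul_comm := isMulCommutative_iff.mp inferInstance }
  exact card_hom_pow_eq_one_comm p hdvd

end count

section restrict

variable {G : Type*} [Group G] [Fintype G] [DecidableEq G]
variable {p : ℕ} {M : Ideal Cfsg.AlgInt}
variable (N : Subgroup G) [Fintype N] [hN : N.Normal]

/-- characters of degree prime to `p` restrict irreducibly to normal subgroups of `p`-power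
index -/
theorem restrict_irr (hp : p.Prime) (a : ℕ) (hidx : N.index = p ^ a) {χ : G → ℂ}
    (hχ : Cfsg.IsIrrCharacter G χ) (hdeg : ¬ p ∣ Cfsg.charDegree χ) :
    Cfsg.IsIrrCharacter N (fun n : N => χ n) := by
  obtain ⟨θ, hθ⟩ := exists_constituent_restrict N hχ
  have hc : χ 1 = (Cfsg.charDegree χ : ℂ) :=
    IsCharacter.apply_one_eq_charDegree (IsIrrCharacter.isCharacter hχ)
  have hd : (θ : N → ℂ) 1 = (Cfsg.charDegree (θ : N → ℂ) : ℂ) :=
    IsCharacter.apply_one_eq_charDegree (IsIrrCharacter.isCharacter θ.2)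
  obtain ⟨h1, h2⟩ := Cfsg.Agent.S0887.result N χ hχ (θ : N → ℂ) θ.2 hθ _ _ hc hd
  rw [hidx] at h2
  obtain ⟨j, -, hj⟩ := (Nat.dvd_prime_pow hp).mp h2
  have hj0 : j = 0 := by
    by_contra hne
    apply hdeg
    have h3 : p ∣ Cfsg.charDegree χ / Cfsg.charDegree (θ : N → ℂ) := by
      rw [hj]
      exact dvd_pow_self p hne
    exact h3.trans (Nat.div_dvd_of_dvd h1)
  rw [hj0, pow_zero] at hj
  have h4 : Cfsg.charDegree χ = Cfsg.charDegree (θ : N → ℂ) := by
    have := Nat.div_mul_cancel h1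
    rw [hj, one_mul] at this
    exact this.symm
  have h5 : (fun n : N => χ n) = (θ : N → ℂ) := by
    apply IsCharacter.eq_of_constituent_of_apply_one_eq
      (IsCharacter.restrict N (IsIrrCharacter.isCharacter hχ)) θ.2 hθ
    show χ ((1 : N) : G) = (θ : N → ℂ) 1
    rw [Subgroup.coe_one, hc, hd, h4]
  rw [h5]
  exact θ.2

/-- over a normal subgroup of `p`-power index, a character lying over a member of the principal
block lies in the principal block -/
theorem mem_principalBlock_of_over (hM : Cfsg.IsPModular p M) (a : ℕ) (hidx : N.index = p ^ a)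
    (χ : Cfsg.IrrCharacter G) (θ : Cfsg.IrrCharacter N) (hθ : θ ∈ Cfsg.principalBlock M N)
    (hcon : Cfsg.classInner (fun n : N => (χ : G → ℂ) n) (θ : N → ℂ) ≠ 0) :
    χ ∈ Cfsg.principalBlock M G := by
  have h1 : Cfsg.classInner (fun n : N => ((oneIrr G : Cfsg.IrrCharacter G) : G → ℂ) n)
      ((oneIrr N : Cfsg.IrrCharacter N) : N → ℂ) ≠ 0 := by
    have : (fun n : N => ((oneIrr G : Cfsg.IrrCharacter G) : G → ℂ) n)
        = ((oneIrr N : Cfsg.IrrCharacter N) : N → ℂ) := rfl
    rw [this, classInner_irrCharacter, if_pos rfl]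
    exact one_ne_zero
  exact sameBlock_of_cover_of_index N hM ⟨a, hidx⟩ (oneIrr G) χ (oneIrr N) θ hθ h1 hcon

end restrict

end Cfsg.Agent.Lib.Helper6.GalFix
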