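import Mathlib
import Cfsg.Prelude.Def_CaseTheorems
import Cfsg.Agent.Lib.Helper1.OddStable4
import Cfsg.Agent.Lib.Helper1.FittingCentralizer

set_option autoImplicit false

/-!
# A simple normal subgroup of odd index from fusion data (Alperin–Brauer–Gorenstein)
-/

namespace Cfsg.Agent.Lib.Helper6.ABG

open Cfsg

/-- A finite group of even order with cyclic Sylow `2`-subgroup has a subgroup of index `2`. -/
theorem exists_index_two_of_cyclic_sylow {Y : Type*} [Group Y] [Finite Y] (Q : Sylow 2 Y)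
    (hQ : IsCyclic (Q : Subgroup Y)) (heven : 2 ∣ Nat.card Y) : ∃ H : Subgroup Y, H.index = 2 := by
  haveI : Fact (Nat.Prime 2) := ⟨Nat.prime_two⟩
  have hp : (Nat.card Y).minFac = 2 := (Nat.minFac_eq_two_iff _).2 heven
  have hc := IsCyclic.isComplement' hp hQ
  set K := (MonoidHom.transferSylow Q (hQ.normalizer_le_centralizer hp)).ker with hK
  haveI : K.Normal := MonoidHom.normal_ker _
  have hcard := hc.card_mul_card
  have hQc := Q.card_eq_multiplicity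
  have hpos : 0 < (Nat.card Y).factorization 2 :=
    Nat.Prime.factorization_pos_of_dvd Nat.prime_two Nat.card_pos.ne' heven
  obtain ⟨k, hk⟩ : ∃ k, (Nat.card Y).factorization 2 = k + 1 := ⟨_, (Nat.succ_pred_eq_of_pos hpos).symm⟩
  rw [hk] at hQc
  have hidx : Nat.card (Y ⧸ K) = 2 ^ (k + 1) := by
    have h1 := K.card_mul_index
    rw [Subgroup.index_eq_card] at h1
    have hKpos : 0 < Nat.card K := Nat.card_pos
    have : Nat.card K * Nat.card (Y ⧸ K) = Nat.card K * 2 ^ (k + 1) := by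
      rw [h1, ← hcard, hQc]
    exact Nat.eq_of_mul_eq_mul_left hKpos this
  obtain ⟨H', hH'⟩ := Sylow.exists_subgroup_card_pow_prime (G := Y ⧸ K) 2 (n := k)
    (by rw [hidx]; exact pow_dvd_pow 2 (Nat.le_succ k))
  have hH'i : H'.index = 2 := by
    have h1 := H'.card_mul_index
    rw [hH', hidx, pow_succ] at h1
    exact Nat.eq_of_mul_eq_mul_left (pow_pos two_pos k) h1
  refine ⟨H'.comap (QuotientGroup.mk' K), ?_⟩
  rw [Subgroup.index_comap_of_surjective _ (QuotientGroup.mk'_surjective K), hH'i]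

/-- A normal subgroup of even order meets every Sylow `2`-subgroup nontrivially. -/
theorem exists_mem_sylow_of_normal_even {L : Type*} [Group L] [Finite L] (R : Sylow 2 L)
    (M : Subgroup L) [hM : M.Normal] (h : 2 ∣ Nat.card M) :
    ∃ w ∈ M, w ∈ (R : Subgroup L) ∧ w ≠ 1 := by
  haveI : Fact (Nat.Prime 2) := ⟨Nat.prime_two⟩
  obtain ⟨u, hu⟩ := exists_prime_orderOf_dvd_card' (G := ↥M) 2 h
  have hu' : orderOf (u : L) = 2 := by rw [Subgroup.orderOf_coe]; exact hu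
  have hpg : IsPGroup 2 (Subgroup.zpowers (u : L)) := by
    apply IsPGroup.of_card (n := 1)
    rw [Nat.card_zpowers, hu', pow_one]
  obtain ⟨Q', hQ'⟩ := hpg.exists_le_sylow
  obtain ⟨l, hl⟩ := MulAction.exists_smul_eq L Q' R
  refine ⟨l * (u : L) * l⁻¹, hM.conj_mem _ u.2 l, ?_, ?_⟩
  · rw [← hl, Sylow.coe_subgroup_smul, Subgroup.mem_pointwise_smul_iff_inv_smul_mem]
    have : (u : L) ∈ (Q' : Subgroup L) := hQ' (Subgroup.mem_zpowers _)
    have h3 : l⁻¹ * (l * (u : L) * l⁻¹) * l = (u : L) := by group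
    have h4 : (MulAut.conj l)⁻¹ • (l * (u : L) * l⁻¹) = (u : L) := by
      rw [← map_inv, MulAut.smul_def, MulAut.conj_apply, inv_inv]; exact h3
    rw [h4]; exact this
  · intro h1
    have : (u : L) = 1 := by
      have := congrArg (fun z => l⁻¹ * z * l) h1
      simpa [mul_assoc] using this
    rw [this, orderOf_one] at hu'
    omega

variable {X : Type*} [Group X] [Finite X]

/-- The hypotheses on a Sylow `2`-subgroup `P`: every normal subgroup `R` of `P` containing all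
involutions of `P` has "cyclic centre" (two nontrivial normal subgroups of `R` meet), cyclic
quotient `P/R`, and is not commutative. -/
def GoodSylow (P : Subgroup X) : Prop :=
  ∀ R : Subgroup X, R ≤ P → (∀ p ∈ P, ∀ r ∈ R, p * r * p⁻¹ ∈ R) →
    (∀ t ∈ P, orderOf t = 2 → t ∈ R) →
    (∀ A B : Subgroup X, A ≤ R → B ≤ R → A ≠ ⊥ → B ≠ ⊥ →
        (∀ r ∈ R, ∀ a ∈ A, r * a * r⁻¹ ∈ A) → (∀ r ∈ R, ∀ b ∈ B, r * b * r⁻¹ ∈ B) →
        A ⊓ B ≠ ⊥)
    ∧ (∃ s ∈ P, P ≤ R ⊔ Subgroup.zpowers s)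
    ∧ (∃ a ∈ R, ∃ b ∈ R, a * b ≠ b * a)


/-- minimality helper: a normal nontrivial subgroup of `X` inside a minimal one equals it. -/
theorem eq_of_minimal {Z : Type*} [Group Z] [Finite Z] {L N : Subgroup Z}
    (hLmin : ∀ N : Subgroup Z, N.Normal ∧ N ≠ ⊥ → ¬ Nat.card N < Nat.card L)
    (hN : N.Normal) (hNne : N ≠ ⊥) (hle : N ≤ L) : N = L :=
  Subgroup.eq_of_le_of_card_ge hle (not_lt.1 (hLmin N ⟨hN, hNne⟩))

theorem exists_simple_normal
    (hO : Cfsg.oddCore X = ⊥)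
    (h2 : ∀ H : Subgroup X, H.index ≠ 2)
    (hconj : ∀ s t : X, orderOf s = 2 → orderOf t = 2 → IsConj s t)
    (hP : ∀ P : Sylow 2 X, GoodSylow (P : Subgroup X)) :
    ∃ L : Subgroup X, L.Normal ∧ Odd L.index ∧ IsSimpleGroup L ∧ ¬ IsMulCommutative L := by
  classical
  haveI : Fact (Nat.Prime 2) := ⟨Nat.prime_two⟩
  obtain ⟨P0⟩ : Nonempty (Sylow 2 X) := inferInstance
  obtain ⟨-, -, a0, -, b0, -, hab0⟩ := hP P0 (P0 : Subgroup X) le_rfl
    (fun p hp r hr => (P0 : Subgroup X).mul_mem ((P0 : Subgroup X).mul_mem hp hr)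
      ((P0 : Subgroup X).inv_mem hp))
    (fun t ht _ => ht)
  haveI hnt : Nontrivial X := ⟨⟨a0, b0, fun h => hab0 (by rw [h])⟩⟩
  -- a minimal normal subgroup
  obtain ⟨L, ⟨hLn, hLne⟩, hLmin'⟩ := WellFounded.has_min
    (measure (fun N : Subgroup X => Nat.card N)).wf
    {N : Subgroup X | N.Normal ∧ N ≠ ⊥} ⟨⊤, Subgroup.normal_top, top_ne_bot⟩
  have hLmin : ∀ N : Subgroup X, N.Normal ∧ N ≠ ⊥ → ¬ Nat.card N < Nat.card L :=
    fun N hN => hLmin' N hN
  haveI := hLn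
  -- `L` has even order
  have hLeven : 2 ∣ Nat.card L := by
    by_contra h
    have hc : (Nat.card L).Coprime 2 :=
      Nat.Coprime.symm ((Nat.Prime.coprime_iff_not_dvd Nat.prime_two).2 h)
    have hle : L ≤ Cfsg.oddCore X := Cfsg.Agent.Lib.Helper1.le_pPrimeCore hLn hc
    rw [hO] at hle
    exact hLne (le_bot_iff.1 hle)
  -- `L` contains every involution
  obtain ⟨t0', ht0'⟩ := exists_prime_orderOf_dvd_card' (G := ↥L) 2 hLeven
  have ht0 : orderOf (t0' : X) = 2 := by rw [Subgroup.orderOf_coe]; exact ht0'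
  have hinvL : ∀ t : X, orderOf t = 2 → t ∈ L := by
    intro t ht
    obtain ⟨g, hg⟩ := isConj_iff.1 (hconj _ t ht0 ht)
    rw [← hg]
    exact hLn.conj_mem _ t0'.2 g
  -- premises of `GoodSylow` for `R = P ⊓ L`
  have hprem : ∀ P : Sylow 2 X,
      (∀ A B : Subgroup X, A ≤ (P : Subgroup X) ⊓ L → B ≤ (P : Subgroup X) ⊓ L → A ≠ ⊥ → B ≠ ⊥ →
        (∀ r ∈ (P : Subgroup X) ⊓ L, ∀ a ∈ A, r * a * r⁻¹ ∈ A) →
        (∀ r ∈ (P : Subgroup X) ⊓ L, ∀ b ∈ B, r * b * r⁻¹ ∈ B) → A ⊓ B ≠ ⊥)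
      ∧ (∃ s ∈ (P : Subgroup X), (P : Subgroup X) ≤ ((P : Subgroup X) ⊓ L) ⊔ Subgroup.zpowers s)
      ∧ (∃ a ∈ (P : Subgroup X) ⊓ L, ∃ b ∈ (P : Subgroup X) ⊓ L, a * b ≠ b * a) := by
    intro P
    refine hP P ((P : Subgroup X) ⊓ L) inf_le_left ?_ ?_
    · intro p hp r hr
      exact ⟨(P : Subgroup X).mul_mem ((P : Subgroup X).mul_mem hp hr.1)
        ((P : Subgroup X).inv_mem hp), hLn.conj_mem _ hr.2 p⟩
    · intro t ht ht2
      exact ⟨ht, hinvL t ht2⟩
  -- not commutative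
  have hLnc : ¬ IsMulCommutative L := by
    obtain ⟨-, -, a, ha, b, hb, hab⟩ := hprem P0
    intro hc
    apply hab
    have := hc.is_comm.comm (⟨a, ha.2⟩ : ↥L) ⟨b, hb.2⟩
    exact congrArg Subtype.val this
  -- odd index
  have hLodd : Odd L.index := by
    by_contra hodd
    have h2dvd : 2 ∣ Nat.card (X ⧸ L) := by
      rw [← Subgroup.index_eq_card]
      exact even_iff_two_dvd.1 (Nat.not_odd_iff_even.1 hodd)
    obtain ⟨-, ⟨s, -, hs⟩, -⟩ := hprem P0
    let Q : Sylow 2 (X ⧸ L) := Sylow.mapSurjective (QuotientGroup.mk'_surjective L) P0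
    have hQle : (Q : Subgroup (X ⧸ L)) ≤ Subgroup.zpowers (QuotientGroup.mk' L s) := by
      rw [Sylow.coe_mapSurjective]
      refine le_trans (Subgroup.map_mono hs) ?_
      rw [Subgroup.map_sup, MonoidHom.map_zpowers]
      have hbot : ((P0 : Subgroup X) ⊓ L).map (QuotientGroup.mk' L) = ⊥ := by
        rw [eq_bot_iff]
        rintro _ ⟨r, hr, rfl⟩
        rw [Subgroup.mem_bot]
        exact (QuotientGroup.eq_one_iff r).2 hr.2
      rw [hbot, bot_sup_eq]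
    have hQc : IsCyclic (Q : Subgroup (X ⧸ L)) := Subgroup.isCyclic_of_le hQle
    obtain ⟨H, hH⟩ := exists_index_two_of_cyclic_sylow Q hQc h2dvd
    apply h2 (H.comap (QuotientGroup.mk' L))
    rw [Subgroup.index_comap_of_surjective _ (QuotientGroup.mk'_surjective L), hH]
  refine ⟨L, hLn, hLodd, ?_, hLnc⟩
  -- simplicity
  have hOL : Cfsg.oddCore ↥L = ⊥ := Cfsg.Agent.Lib.Helper1.OddStable.pPrimeCore_eq_bot_of_normal L hO
  haveI hntL : Nontrivial ↥L := (Subgroup.nontrivial_iff_ne_bot L).2 hLne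
  refine { toNontrivial := hntL, eq_bot_or_eq_top_of_normal := fun M hM => ?_ }
  by_contra hcon
  rw [not_or] at hcon
  obtain ⟨hMb, hMt⟩ := hcon
  -- a minimal normal subgroup `M₀` of `L`
  obtain ⟨M₀, ⟨hM₀n, hM₀ne⟩, hM₀min'⟩ := WellFounded.has_min
    (measure (fun N : Subgroup ↥L => Nat.card N)).wf
    {N : Subgroup ↥L | N.Normal ∧ N ≠ ⊥} ⟨M, hM, hMb⟩
  have hM₀min : ∀ N : Subgroup ↥L, N.Normal ∧ N ≠ ⊥ → ¬ Nat.card N < Nat.card M₀ :=
    fun N hN => hM₀min' N hN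
  haveI := hM₀n
  have hM₀t : M₀ ≠ ⊤ := by
    intro h
    apply hMt
    apply Subgroup.eq_top_of_le_card
    have := not_lt.1 (hM₀min M ⟨hM, hMb⟩)
    rw [h] at this
    simpa using this
  -- even order
  have hM₀even : 2 ∣ Nat.card M₀ := by
    by_contra h
    have hc : (Nat.card M₀).Coprime 2 :=
      Nat.Coprime.symm ((Nat.Prime.coprime_iff_not_dvd Nat.prime_two).2 h)
    have hle : M₀ ≤ Cfsg.oddCore ↥L := Cfsg.Agent.Lib.Helper1.le_pPrimeCore hM₀n hc
    rw [hOL] at hle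
    exact hM₀ne (le_bot_iff.1 hle)
  set M' : Subgroup X := M₀.map L.subtype with hM'
  have hM'le : M' ≤ L := Subgroup.map_subtype_le _
  have hM'card : Nat.card M' = Nat.card M₀ :=
    Subgroup.card_map_of_injective L.subtype_injective
  have hM'ne : M' ≠ ⊥ := by
    intro h
    apply hM₀ne
    rw [hM', Subgroup.map_eq_bot_iff_of_injective _ L.subtype_injective] at h
    exact h
  -- `L` normalizes `M'`
  have hLM' : ∀ r ∈ L, ∀ m ∈ M', r * m * r⁻¹ ∈ M' := by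
    rintro r hr _ ⟨m, hm, rfl⟩
    exact ⟨(⟨r, hr⟩ : ↥L) * m * (⟨r, hr⟩ : ↥L)⁻¹, hM₀n.conj_mem m hm ⟨r, hr⟩, rfl⟩
  -- a conjugate different from `M'`
  have hexg : ∃ g : X, M'.map (MulAut.conj g).toMonoidHom ≠ M' := by
    by_contra hall
    rw [not_exists] at hall
    have hMn : M'.Normal := by
      refine ⟨fun n hn g => ?_⟩
      have := not_not.1 (hall g)
      rw [← this]
      exact ⟨n, hn, rfl⟩
    have heq := eq_of_minimal hLmin hMn hM'ne hM'le
    apply hM₀t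
    apply Subgroup.eq_top_of_le_card
    rw [← hM'card, heq]
  obtain ⟨g, hg⟩ := hexg
  set M'' : Subgroup X := M'.map (MulAut.conj g).toMonoidHom with hM''
  have hM''le : M'' ≤ L := by
    rintro _ ⟨m, hm, rfl⟩
    exact hLn.conj_mem m (hM'le hm) g
  have hM''card : Nat.card M'' = Nat.card M₀ := by
    rw [← hM'card]
    exact Subgroup.card_map_of_injective (MulAut.conj g).injective
  have hLM'' : ∀ r ∈ L, ∀ m ∈ M'', r * m * r⁻¹ ∈ M'' := by
    rintro r hr _ ⟨m, hm, rfl⟩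
    refine ⟨(g⁻¹ * r * g) * m * (g⁻¹ * r * g)⁻¹, hLM' _ ?_ m hm, ?_⟩
    · have := hLn.conj_mem r hr g⁻¹
      simpa using this
    · simp only [MulEquiv.coe_toMonoidHom, MulAut.conj_apply]
      group
  set M₁ : Subgroup ↥L := M''.subgroupOf L with hM₁
  have hM₁n : M₁.Normal := by
    refine ⟨fun n hn l => ?_⟩
    rw [hM₁, Subgroup.mem_subgroupOf] at hn ⊢
    exact hLM'' l l.2 n hn
  have hM₁card : Nat.card M₁ = Nat.card M₀ := by
    rw [← hM''card]
    exact Nat.card_congr (Subgroup.subgroupOfEquivOfLe hM''le).toEquiv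
  have hM₁map : M₁.map L.subtype = M'' := by
    rw [hM₁, Subgroup.subgroupOf_map_subtype, inf_eq_left.2 hM''le]
  have hM₁ne : M₁ ≠ ⊥ := by
    intro h
    have h1 : Nat.card M₁ = 1 := by rw [h]; exact Subgroup.card_bot
    rw [hM₁card] at h1
    exact hM₀ne ((Subgroup.card_eq_one).1 h1)
  haveI := hM₁n
  have hinf : M₀ ⊓ M₁ = ⊥ := by
    by_contra hne
    have hn : (M₀ ⊓ M₁).Normal := inferInstance
    have h1 := eq_of_minimal hM₀min hn hne inf_le_left
    have h2 : M₀ ≤ M₁ := inf_eq_left.1 h1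
    have h3 : M₀ = M₁ := Subgroup.eq_of_le_of_card_ge h2 (le_of_eq hM₁card)
    apply hg
    rw [← hM₁map, ← h3]
  have hinf' : M' ⊓ M'' = ⊥ := by
    rw [eq_bot_iff]
    rintro x ⟨h1, h2⟩
    obtain ⟨m, hm, rfl⟩ := h1
    have : m ∈ M₀ ⊓ M₁ := Subgroup.mem_inf.2 ⟨hm, Subgroup.mem_subgroupOf.2 h2⟩
    rw [hinf, Subgroup.mem_bot] at this
    rw [this]
    exact Subgroup.one_mem _
  -- Sylow subgroups
  obtain ⟨R_L⟩ : Nonempty (Sylow 2 ↥L) := inferInstance
  obtain ⟨P, hPc⟩ := Sylow.exists_comap_subtype_eq R_L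
  obtain ⟨hA, -, -⟩ := hprem P
  have hM₁even : 2 ∣ Nat.card M₁ := by rw [hM₁card]; exact hM₀even
  obtain ⟨w₀, hw₀M, hw₀R, hw₀ne⟩ := exists_mem_sylow_of_normal_even R_L M₀ hM₀even
  obtain ⟨w₁, hw₁M, hw₁R, hw₁ne⟩ := exists_mem_sylow_of_normal_even R_L M₁ hM₁even
  have hmemP : ∀ w : ↥L, w ∈ (R_L : Subgroup ↥L) → (w : X) ∈ (P : Subgroup X) := by
    intro w hw
    rw [← hPc] at hw
    exact hw
  have key := hA ((P : Subgroup X) ⊓ M') ((P : Subgroup X) ⊓ M'')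
    (fun x hx => ⟨hx.1, hM'le hx.2⟩) (fun x hx => ⟨hx.1, hM''le hx.2⟩)
    (by
      intro h
      have : (w₀ : X) ∈ (P : Subgroup X) ⊓ M' := ⟨hmemP w₀ hw₀R, ⟨w₀, hw₀M, rfl⟩⟩
      rw [h, Subgroup.mem_bot] at this
      exact hw₀ne (Subtype.ext this))
    (by
      intro h
      have hw : (w₁ : X) ∈ M'' := by
        rw [hM₁, Subgroup.mem_subgroupOf] at hw₁M
        exact hw₁M
      have : (w₁ : X) ∈ (P : Subgroup X) ⊓ M'' := ⟨hmemP w₁ hw₁R, hw⟩
      rw [h, Subgroup.mem_bot] at this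
      exact hw₁ne (Subtype.ext this))
    (fun r hr a ha => ⟨(P : Subgroup X).mul_mem ((P : Subgroup X).mul_mem hr.1 ha.1)
      ((P : Subgroup X).inv_mem hr.1), hLM' r hr.2 a ha.2⟩)
    (fun r hr a ha => ⟨(P : Subgroup X).mul_mem ((P : Subgroup X).mul_mem hr.1 ha.1)
      ((P : Subgroup X).inv_mem hr.1), hLM'' r hr.2 a ha.2⟩)
  apply key
  rw [eq_bot_iff]
  intro x hx
  have : x ∈ M' ⊓ M'' := ⟨hx.1.2, hx.2.2⟩
  rw [hinf'] at this
  exact this

end Cfsg.Agent.Lib.Helper6.ABG
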