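import Mathlib
import Cfsg.Agent.Lib.Helper9.D3670Defs
import Cfsg.Agent.Lib.Helper8.D3670A1

/-!
# S3670 unit A2: `B ∩ w B w⁻¹ = ⟨t⟩` and `G = B ∪ B w B`
-/

set_option autoImplicit false

namespace Cfsg.Agent.Lib.Helper9.D3670

universe u

variable {G : Type u} [Group G]

/-- `t ^ 8 = 1`. -/
theorem h6_t_pow_eight (D : BData G) : D.t ^ 8 = 1 := by
  rw [← D.ordt]; exact pow_orderOf_eq_one D.t

/-- conjugating a power of `t` by `w`. -/
theorem h6_conj_t_pow (D : BData G) (i : ℕ) : D.w⁻¹ * D.t ^ i * D.w = (D.t ^ D.k) ^ i := by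
  rw [← D.wt]
  have := conj_pow (a := D.w⁻¹) (b := D.t) (i := i)
  rw [inv_inv] at this
  exact this.symm

/-- the inverse of a power of `t` is a natural power of `t`. -/
theorem h6_inv_pow (D : BData G) (m : ℕ) : (D.t ^ m)⁻¹ = D.t ^ (7 * m) := by
  rw [inv_eq_iff_mul_eq_one, ← pow_add]
  have : m + 7 * m = 8 * m := by ring
  rw [this, pow_mul, h6_t_pow_eight, one_pow]

/-- A2a: `B ∩ w B w⁻¹ = ⟨t⟩`. -/
theorem inter_conj (D : BData G) {b : G} (hb : b ∈ D.B) (hb' : D.w⁻¹ * b * D.w ∈ D.B) :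
    b ∈ Subgroup.zpowers D.t := by
  obtain ⟨u, hu, i, _, rfl⟩ := (mem_B_iff D b).1 hb
  obtain ⟨u', hu', j, _, h⟩ := (mem_B_iff D _).1 hb'
  have hconj : D.w⁻¹ * (u * D.t ^ i) * D.w = (D.w⁻¹ * u * D.w) * (D.t ^ D.k) ^ i := by
    rw [← h6_conj_t_pow D i]; group
  rw [hconj] at h
  have h2 : D.w⁻¹ * u * D.w = u' * D.t ^ (j + 7 * (D.k * i)) := by
    rw [pow_add, ← h6_inv_pow, pow_mul, ← mul_assoc, ← h]
    group
  have hu1 : u = 1 := by
    by_contra hne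
    exact D.wU u hu hne u' hu' _ h2
  rw [hu1, one_mul]
  exact Subgroup.pow_mem _ (Subgroup.mem_zpowers D.t) i

/-- `w ∉ B`. -/
theorem h6_w_not_mem [Finite G] (D : BData G) : D.w ∉ D.B := by
  intro hw
  -- some `u ≠ 1` in `U`
  have hU : ∃ u ∈ D.U, u ≠ 1 := by
    by_contra hcon
    push Not at hcon
    have hbot : D.U = ⊥ := by
      rw [Subgroup.eq_bot_iff_forall]; exact hcon
    have := D.cardU
    rw [hbot, Subgroup.card_bot] at this
    norm_num at this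
  obtain ⟨u, hu, hne⟩ := hU
  have hmem : D.w⁻¹ * u * D.w ∈ D.B :=
    D.B.mul_mem (D.B.mul_mem (D.B.inv_mem hw) (D.U_le_B hu)) hw
  obtain ⟨u', hu', j, _, h⟩ := (mem_B_iff D _).1 hmem
  exact D.wU u hu hne u' hu' j h

/-- A2b: two double cosets. -/
theorem double_coset [Finite G] (D : BData G) (hG : Nat.card G = 6048) (g : G) :
    g ∈ D.B ∨ ∃ a ∈ D.B, ∃ b ∈ D.B, g = a * D.w * b := by
  classical
  let f : D.U × D.B → G := fun p => (p.1 : G) * D.w * (p.2 : G)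
  have hinj : Function.Injective f := by
    rintro ⟨⟨u, hu⟩, ⟨b, hb⟩⟩ ⟨⟨u', hu'⟩, ⟨b', hb'⟩⟩ h
    simp only [f] at h
    -- w⁻¹ (u'⁻¹ u) w = b' b⁻¹ ∈ B
    have h1 : D.w⁻¹ * (u'⁻¹ * u) * D.w = b' * b⁻¹ := by
      have : u * D.w * b = u' * D.w * b' := h
      calc D.w⁻¹ * (u'⁻¹ * u) * D.w = D.w⁻¹ * u'⁻¹ * (u * D.w * b) * b⁻¹ := by group
        _ = D.w⁻¹ * u'⁻¹ * (u' * D.w * b') * b⁻¹ := by rw [this]
        _ = b' * b⁻¹ := by group
    have hmem : D.w⁻¹ * (u'⁻¹ * u) * D.w ∈ D.B := by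
      rw [h1]; exact D.B.mul_mem hb' (D.B.inv_mem hb)
    have huu : u'⁻¹ * u ∈ D.U := D.U.mul_mem (D.U.inv_mem hu') hu
    have h1' : u'⁻¹ * u = 1 := by
      by_contra hne
      obtain ⟨u'', hu'', j, _, hh⟩ := (mem_B_iff D _).1 hmem
      exact D.wU _ huu hne u'' hu'' j hh
    have huu' : u = u' := by
      have := inv_mul_eq_one.1 h1'
      exact this.symm
    subst huu'
    have hbb : b = b' := by
      have : u * D.w * b = u * D.w * b' := h
      exact mul_left_cancel this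
    subst hbb
    rfl
  have hdisj : Disjoint (D.B : Set G) (Set.range f) := by
    rw [Set.disjoint_left]
    rintro x hx ⟨⟨⟨u, hu⟩, ⟨b, hb⟩⟩, rfl⟩
    simp only [f] at hx
    apply h6_w_not_mem D
    have : D.w = u⁻¹ * (u * D.w * b) * b⁻¹ := by group
    rw [this]
    exact D.B.mul_mem (D.B.mul_mem (D.B.inv_mem (D.U_le_B hu)) hx) (D.B.inv_mem hb)
  have hcardB : (D.B : Set G).ncard = 216 := by
    rw [← card_B D]; rfl
  have hcardR : (Set.range f).ncard = 27 * 216 := by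
    rw [← Nat.card_coe_set_eq, Nat.card_range_of_injective hinj, Nat.card_prod, D.cardU,
      card_B D]
  have hunion : ((D.B : Set G) ∪ Set.range f).ncard = 6048 := by
    rw [Set.ncard_union_eq hdisj (Set.toFinite _) (Set.toFinite _), hcardB, hcardR]
  have huniv : (D.B : Set G) ∪ Set.range f = Set.univ := by
    apply Set.eq_of_subset_of_ncard_le (Set.subset_univ _)
    rw [Set.ncard_univ, hG, hunion]
  have hg : g ∈ (D.B : Set G) ∪ Set.range f := by rw [huniv]; trivial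
  rcases hg with hg | ⟨⟨⟨u, hu⟩, ⟨b, hb⟩⟩, rfl⟩
  · exact Or.inl hg
  · exact Or.inr ⟨u, D.U_le_B hu, b, hb, rfl⟩

end Cfsg.Agent.Lib.Helper9.D3670
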