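import Mathlib
import Cfsg.Agent.Lib.Helper6.StSLD2b
import Cfsg.Agent.Lib.Helper2.StSLW
import Cfsg.Agent.Lib.Helper1.StSLH1

set_option autoImplicit false

/-!
Farm STSL (S2401), unit D2, part c: the torus `T` normalises `C`, `R`, `L`, `Sg`; the big cell
`Z₀ = C T Sg` and its closure properties.
-/

namespace Cfsg.Agent.Lib.Helper6.StSL

open Matrix Cfsg.Agent.Lib.Helper2.StSL Cfsg.Agent.Lib.Helper1.StSL

variable {I : Type*} [DecidableEq I] [Fintype I] {K : Type*} [Field K] {Γ : Type*} [Group Γ]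
  (S : StA I K Γ) (J : Finset I) (a : I)

omit [Fintype I] in
theorem chi_ne_zero (i j : I) {t : K} (ht : t ≠ 0) (k : I) : chi i j t k ≠ 0 := by
  unfold chi
  split_ifs
  · exact ht
  · exact inv_ne_zero ht
  · exact one_ne_zero

/-- conjugating a root element by `h⁻¹` -/
theorem h_inv_conj (h3 : 3 ≤ Fintype.card I) {i j : I} (hij : i ≠ j) {t : K} (ht : t ≠ 0)
    {k l : I} (hkl : k ≠ l) (u : K) :
    (S.h i j t)⁻¹ * S.x k l u * S.h i j t =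
      S.x k l ((chi i j t k * (chi i j t l)⁻¹)⁻¹ * u) := by
  have hc : chi i j t k * (chi i j t l)⁻¹ ≠ 0 :=
    mul_ne_zero (chi_ne_zero i j ht k) (inv_ne_zero (chi_ne_zero i j ht l))
  have := h_conj S h3 hij ht hkl ((chi i j t k * (chi i j t l)⁻¹)⁻¹ * u)
  rw [← mul_assoc, mul_inv_cancel₀ hc, one_mul] at this
  rw [← this]
  group

/-- the torus normalises every subgroup generated by a set of root elements which is closed under
changing the parameter -/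
theorem T_norm_of_gens (h3 : 3 ≤ Fintype.card I) (P : I → I → Prop)
    (hP : ∀ k l, P k l → k ≠ l) :
    ∀ t ∈ Tsub S J a, ∀ g ∈ Subgroup.closure {g : Γ | ∃ (k l : I) (u : K), P k l ∧ g = S.x k l u},
      t * g * t⁻¹ ∈ Subgroup.closure {g : Γ | ∃ (k l : I) (u : K), P k l ∧ g = S.x k l u} ∧
      t⁻¹ * g * t ∈ Subgroup.closure {g : Γ | ∃ (k l : I) (u : K), P k l ∧ g = S.x k l u} := by
  apply closure_normalizes
  rintro x ⟨m, t, hm, ht, rfl⟩ g ⟨k, l, u, hkl, rfl⟩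
  have ham : a ≠ m := (Finset.ne_of_mem_erase hm).symm
  constructor
  · rw [h_conj S h3 ham ht (hP k l hkl)]
    exact Subgroup.subset_closure ⟨k, l, _, hkl, rfl⟩
  · rw [h_inv_conj S h3 ham ht (hP k l hkl)]
    exact Subgroup.subset_closure ⟨k, l, _, hkl, rfl⟩

theorem Csub_eq : Csub S J a = Subgroup.closure {g : Γ | ∃ (k l : I) (u : K),
    (k ∈ J.erase a ∧ l = a) ∧ g = S.x k l u} := by
  unfold Csub genC
  congr 1
  ext g
  constructor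
  · rintro ⟨m, u, hm, rfl⟩
    exact ⟨m, a, u, ⟨hm, rfl⟩, rfl⟩
  · rintro ⟨k, l, u, ⟨hk, rfl⟩, rfl⟩
    exact ⟨k, u, hk, rfl⟩

theorem Ssub_eq : Ssub S J a = Subgroup.closure {g : Γ | ∃ (k l : I) (u : K),
    (k ∈ J ∧ l ∈ J.erase a ∧ k ≠ l) ∧ g = S.x k l u} := by
  unfold Ssub genS
  congr 1
  ext g
  constructor
  · rintro ⟨i, j, u, hi, hj, hij, rfl⟩
    exact ⟨i, j, u, ⟨hi, hj, hij⟩, rfl⟩
  · rintro ⟨k, l, u, ⟨hk, hl, hkl⟩, rfl⟩
    exact ⟨k, l, u, hk, hl, hkl, rfl⟩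

/-- `T` normalises `C` -/
theorem T_norm_C (h3 : 3 ≤ Fintype.card I) : ∀ t ∈ Tsub S J a, ∀ c ∈ Csub S J a,
    t * c * t⁻¹ ∈ Csub S J a ∧ t⁻¹ * c * t ∈ Csub S J a := by
  rw [Csub_eq]
  exact T_norm_of_gens S J a h3 _ (fun k l h => by
    rcases h with ⟨hk, rfl⟩
    exact Finset.ne_of_mem_erase hk)

/-- `T` normalises `Sg` -/
theorem T_norm_S (h3 : 3 ≤ Fintype.card I) : ∀ t ∈ Tsub S J a, ∀ s ∈ Ssub S J a,
    t * s * t⁻¹ ∈ Ssub S J a ∧ t⁻¹ * s * t ∈ Ssub S J a := by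
  rw [Ssub_eq]
  exact T_norm_of_gens S J a h3 _ (fun k l h => h.2.2)

theorem InZ0_one : InZ0 S J a 1 := ⟨1, one_mem _, 1, one_mem _, 1, one_mem _, by simp⟩

theorem InZ0_mul_S {g s : Γ} (hg : InZ0 S J a g) (hs : s ∈ Ssub S J a) : InZ0 S J a (g * s) := by
  obtain ⟨c, hc, t, ht, s', hs', rfl⟩ := hg
  exact ⟨c, hc, t, ht, s' * s, mul_mem hs' hs, by group⟩

theorem InZ0_mul_T (h3 : 3 ≤ Fintype.card I) {g t : Γ} (hg : InZ0 S J a g)
    (ht : t ∈ Tsub S J a) : InZ0 S J a (g * t) := by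
  obtain ⟨c, hc, t', ht', s, hs, rfl⟩ := hg
  refine ⟨c, hc, t' * t, mul_mem ht' ht, t⁻¹ * s * t, (T_norm_S S J a h3 t ht s hs).2, by group⟩

theorem C_mul_InZ0 {c g : Γ} (hc : c ∈ Csub S J a) (hg : InZ0 S J a g) : InZ0 S J a (c * g) := by
  obtain ⟨c', hc', t, ht, s, hs, rfl⟩ := hg
  exact ⟨c * c', mul_mem hc hc', t, ht, s, hs, by group⟩

theorem T_mul_InZ0 (h3 : 3 ≤ Fintype.card I) {t g : Γ} (ht : t ∈ Tsub S J a)
    (hg : InZ0 S J a g) : InZ0 S J a (t * g) := by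
  obtain ⟨c, hc, t', ht', s, hs, rfl⟩ := hg
  refine ⟨t * c * t⁻¹, (T_norm_C S J a h3 t ht c hc).1, t * t', mul_mem ht ht', s, hs, by group⟩

/-- `T` normalises `L` -/
theorem T_norm_L (h3 : 3 ≤ Fintype.card I) : ∀ t ∈ Tsub S J a, ∀ l ∈ S.sub (J.erase a),
    t * l * t⁻¹ ∈ S.sub (J.erase a) ∧ t⁻¹ * l * t ∈ S.sub (J.erase a) := by
  have e : S.sub (J.erase a) = Subgroup.closure {g : Γ | ∃ (k l : I) (u : K),
      (k ∈ J.erase a ∧ l ∈ J.erase a ∧ k ≠ l) ∧ g = S.x k l u} := by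
    unfold StA.sub
    congr 1
    ext g
    constructor
    · rintro ⟨i, j, u, hi, hj, hij, rfl⟩
      exact ⟨i, j, u, ⟨hi, hj, hij⟩, rfl⟩
    · rintro ⟨k, l, u, ⟨hk, hl, hkl⟩, rfl⟩
      exact ⟨k, l, u, hk, hl, hkl, rfl⟩
  rw [e]
  exact T_norm_of_gens S J a h3 _ (fun k l h => h.2.2)

theorem L_mul_InZ0 (h3 : 3 ≤ Fintype.card I) {l g : Γ} (hl : l ∈ S.sub (J.erase a))
    (hg : InZ0 S J a g) : InZ0 S J a (l * g) := by
  obtain ⟨c, hc, t, ht, s, hs, rfl⟩ := hg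
  refine ⟨l * c * l⁻¹, (L_norm_C S J a l hl c hc).1, t, ht, (t⁻¹ * l * t) * s,
    mul_mem (L_le_S S J a (T_norm_L S J a h3 t ht l hl).2) hs, by group⟩

end Cfsg.Agent.Lib.Helper6.StSL
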