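import Mathlib
import Cfsg.Agent.Lib.Helper6.StSLD2c

set_option autoImplicit false

/-!
Farm STSL (S2401), unit D2, part d: the interplay of the row group and the column group:
`x_aj(t) C ⊆ Z₀ ∪ w_aj(1) Z₀`.
-/

namespace Cfsg.Agent.Lib.Helper6.StSL

open Matrix Cfsg.Agent.Lib.Helper2.StSL Cfsg.Agent.Lib.Helper1.StSL

variable {I : Type*} [DecidableEq I] [Fintype I] {K : Type*} [Field K] {Γ : Type*} [Group Γ]
  (S : StA I K Γ) (J : Finset I) (a : I)

/-- generators of `Ĉ_j`: the column group without the entry `j` -/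
def genChat (j : I) : Set Γ := {g | ∃ (m : I) (u : K), m ∈ J.erase a ∧ m ≠ j ∧ g = S.x m a u}

/-- generators of `Λ_j`: the `x m j s`, `m ≠ a, j` -/
def genLam (j : I) : Set Γ := {g | ∃ (m : I) (s : K), m ∈ J.erase a ∧ m ≠ j ∧ g = S.x m j s}

theorem genC_inv : ∀ x ∈ genC S J a, x⁻¹ ∈ genC S J a := by
  rintro x ⟨m, u, hm, rfl⟩
  exact ⟨m, -u, hm, S.x_inv (Finset.ne_of_mem_erase hm) u⟩

theorem genChat_inv (j : I) : ∀ x ∈ genChat S J a j, x⁻¹ ∈ genChat S J a j := by
  rintro x ⟨m, u, hm, hmj, rfl⟩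
  exact ⟨m, -u, hm, hmj, S.x_inv (Finset.ne_of_mem_erase hm) u⟩

theorem Chat_le_C (j : I) : Subgroup.closure (genChat S J a j) ≤ Csub S J a := by
  apply Subgroup.closure_mono
  rintro g ⟨m, u, hm, _, rfl⟩
  exact ⟨m, u, hm, rfl⟩

theorem Lam_le_L {j : I} (hj : j ∈ J.erase a) :
    Subgroup.closure (genLam S J a j) ≤ S.sub (J.erase a) := by
  apply Subgroup.closure_mono
  rintro g ⟨m, s, hm, hmj, rfl⟩
  exact ⟨m, j, s, hm, hj, hmj, rfl⟩

/-- `Λ_j` commutes with `Ĉ_j` -/
theorem Lam_comm_Chat (j : I) : ∀ x ∈ Subgroup.closure (genLam S J a j),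
    ∀ g ∈ Subgroup.closure (genChat S J a j), x * g = g * x := by
  apply closure_commute
  rintro x ⟨m, s, hm, hmj, rfl⟩ g ⟨m', u, hm', hm'j, rfl⟩
  exact S.comm_ne m j m' a hmj (Finset.ne_of_mem_erase hm') (Finset.ne_of_mem_erase hm)
    (Ne.symm hm'j) s u

/-- every element of `C` is `x_ja(u) ĉ` -/
theorem C_split {j : I} (hj : j ∈ J.erase a) : ∀ c ∈ Csub S J a,
    ∃ (u : K), ∃ c' ∈ Subgroup.closure (genChat S J a j), c = S.x j a u * c' := by
  have hja := Finset.ne_of_mem_erase hj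
  apply closure_induction_left' _ (genC_inv S J a)
  · exact ⟨0, 1, one_mem _, by rw [S.x_zero hja, one_mul]⟩
  · rintro x ⟨m, u', hm, rfl⟩ y ⟨u, c', hc', rfl⟩
    by_cases hmj : m = j
    · subst hmj
      exact ⟨u' + u, c', hc', by rw [← mul_assoc, S.x_add m a hja]⟩
    · refine ⟨u, S.x m a u' * c', mul_mem (Subgroup.subset_closure ⟨m, u', hm, hmj, rfl⟩) hc', ?_⟩
      have := S.comm_ne m a j a (Finset.ne_of_mem_erase hm) hja (Finset.ne_of_mem_erase hm)
        (Ne.symm hja) u' u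
      rw [← mul_assoc, this]
      group

/-- `x_aj(t) ĉ = ĉ λ x_aj(t)` with `λ ∈ Λ_j` -/
theorem x_mul_Chat {j : I} (hj : j ∈ J.erase a) (t : K) :
    ∀ c ∈ Subgroup.closure (genChat S J a j),
      ∃ l ∈ Subgroup.closure (genLam S J a j), S.x a j t * c = c * l * S.x a j t := by
  have hja := Finset.ne_of_mem_erase hj
  intro c hc
  have key : c ∈ Subgroup.closure (genChat S J a j) ∧
      ∃ l ∈ Subgroup.closure (genLam S J a j), S.x a j t * c = c * l * S.x a j t := by
    refine closure_induction_left' _ (genChat_inv S J a j)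
      (fun c => c ∈ Subgroup.closure (genChat S J a j) ∧
        ∃ l ∈ Subgroup.closure (genLam S J a j), S.x a j t * c = c * l * S.x a j t) ?_ ?_ c hc
    · exact ⟨one_mem _, 1, one_mem _, by group⟩
    · rintro x ⟨m, u, hm, hmj, rfl⟩ y ⟨hymem, l, hl, hy⟩
      have hma := Finset.ne_of_mem_erase hm
      have hx : S.x m j (-(u * t)) ∈ Subgroup.closure (genLam S J a j) :=
        Subgroup.subset_closure ⟨m, _, hm, hmj, rfl⟩
      refine ⟨mul_mem (Subgroup.subset_closure ⟨m, u, hm, hmj, rfl⟩) hymem,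
        S.x m j (-(u * t)) * l, mul_mem hx hl, ?_⟩
      -- `x_aj(t) x_ma(u) = x_mj(-(ut)) x_ma(u) x_aj(t)`
      have e1 := S.x_mul_x' hma (Ne.symm hja) hmj u t
      -- `x_mj` commutes with `x_ma(u)` and with `y`
      have e2 := S.comm_ne m j m a hmj hma hma (Ne.symm hmj) (-(u * t)) u
      have e3 := Lam_comm_Chat S J a j _ hx y hymem
      calc S.x a j t * (S.x m a u * y) = (S.x a j t * S.x m a u) * y := by group
        _ = S.x m j (-(u * t)) * S.x m a u * (S.x a j t * y) := by rw [e1]; group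
        _ = S.x m j (-(u * t)) * S.x m a u * (y * l * S.x a j t) := by rw [hy]
        _ = S.x m a u * (S.x m j (-(u * t)) * y) * l * S.x a j t := by rw [e2]; group
        _ = S.x m a u * (y * S.x m j (-(u * t))) * l * S.x a j t := by rw [e3]
        _ = S.x m a u * y * (S.x m j (-(u * t)) * l) * S.x a j t := by group
  exact key.2

end Cfsg.Agent.Lib.Helper6.StSL
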