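import Mathlib
import Cfsg.Agent.Lib.Helper6.StSLD2d
import Cfsg.Agent.Lib.Helper4.StSLH2

set_option autoImplicit false

/-!
Farm STSL (S2401), unit D2, part e: `S.sub J = Z₀ ∪ ⋃_k w_ak(1) Z₀`.
-/

namespace Cfsg.Agent.Lib.Helper6.StSL

open Matrix Cfsg.Agent.Lib.Helper2.StSL Cfsg.Agent.Lib.Helper1.StSL

variable {I : Type*} [DecidableEq I] [Fintype I] {K : Type*} [Field K] {Γ : Type*} [Group Γ]
  (S : StA I K Γ) (J : Finset I) (a : I)

/-- `w(1) w(1) = h(-1)⁻¹` -/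
theorem w_one_mul_w_one {i j : I} (hij : i ≠ j) : S.w i j 1 * S.w i j 1 = (S.h i j (-1))⁻¹ := by
  have h1 : S.w i j (-1) = (S.w i j 1)⁻¹ := (w_inv S hij 1).symm
  unfold StA.h
  rw [h1, _root_.mul_inv_rev, inv_inv]

/-- `w_aj(t) = w_aj(1) τ` with `τ ∈ T` -/
theorem w_eq_w_one_mul_T {j : I} (hj : j ∈ J.erase a) {t : K} (ht : t ≠ 0) :
    ∃ τ ∈ Tsub S J a, S.w a j t = S.w a j 1 * τ := by
  have haj : a ≠ j := (Finset.ne_of_mem_erase hj).symm
  refine ⟨(S.w a j 1)⁻¹ * S.w a j t, ?_, by group⟩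
  have e : (S.w a j 1)⁻¹ * S.w a j t = (S.h a j (-t) * (S.h a j (-1))⁻¹)⁻¹ := by
    rw [← w_one_mul_w_one S haj]
    have h1 : S.w a j t = (S.w a j (-t))⁻¹ := by rw [w_inv S haj, neg_neg]
    have h2 := w_eq_h_mul S haj (-t)
    rw [h1, h2]
    group
  rw [e]
  exact inv_mem (mul_mem (h_mem_Tsub S J a hj (neg_ne_zero.2 ht))
    (inv_mem (h_mem_Tsub S J a hj (by simp))))

theorem InZk_mul_S {k : I} {g s : Γ} (hg : InZk S J a k g) (hs : s ∈ Ssub S J a) :
    InZk S J a k (g * s) := by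
  obtain ⟨z, hz, rfl⟩ := hg
  exact ⟨z * s, InZ0_mul_S S J a hz hs, by group⟩

theorem InZk_mul_T (h3 : 3 ≤ Fintype.card I) {k : I} {g t : Γ} (hg : InZk S J a k g)
    (ht : t ∈ Tsub S J a) : InZk S J a k (g * t) := by
  obtain ⟨z, hz, rfl⟩ := hg
  exact ⟨z * t, InZ0_mul_T S J a h3 hz ht, by group⟩

/-- the interplay of the row group and the column group -/
theorem x_mul_C [Finite K] (h3 : 3 ≤ Fintype.card I) (ha : a ∈ J) {j : I} (hj : j ∈ J.erase a)
    (t : K) : ∀ c ∈ Csub S J a, InZ0 S J a (S.x a j t * c) ∨ InZk S J a j (S.x a j t * c) := by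
  have haj : a ≠ j := (Finset.ne_of_mem_erase hj).symm
  intro c hc
  obtain ⟨u, c', hc', rfl⟩ := C_split S J a hj c hc
  have hc'C : c' ∈ Csub S J a := Chat_le_C S J a j hc'
  by_cases hd : 1 + t * u = 0
  · -- the degenerate case
    right
    have ht : t ≠ 0 := by
      rintro rfl
      simp at hd
    have hu : u = -t⁻¹ := by
      have : t * u = -1 := by linear_combination hd
      field_simp
      linear_combination this
    subst hu
    obtain ⟨τ, hτ, hw⟩ := w_eq_w_one_mul_T S J a hj ht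
    obtain ⟨l, hl, hcomm⟩ := x_mul_Chat S J a hj (-t) c' hc'
    have e1 : S.x a j t * S.x j a (-t⁻¹) = S.w a j t * S.x a j (-t) := by
      unfold StA.w
      rw [S.x_neg haj t]
      group
    refine ⟨(τ * c' * τ⁻¹) * τ * (l * S.x a j (-t)), ⟨τ * c' * τ⁻¹,
      (T_norm_C S J a h3 τ hτ c' hc'C).1, τ, hτ, l * S.x a j (-t),
      mul_mem (L_le_S S J a (Lam_le_L S J a hj hl)) (x_mem_Ssub S J a ha hj haj _), rfl⟩, ?_⟩
    calc S.x a j t * (S.x j a (-t⁻¹) * c') = (S.x a j t * S.x j a (-t⁻¹)) * c' := by group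
      _ = S.w a j t * (S.x a j (-t) * c') := by rw [e1]; group
      _ = S.w a j 1 * τ * (c' * l * S.x a j (-t)) := by rw [hcomm, hw]
      _ = S.w a j 1 * (τ * c' * τ⁻¹ * τ * (l * S.x a j (-t))) := by group
  · -- the generic case
    left
    have e1 := Cfsg.Agent.Lib.Helper4.StSL.x_mul_opp S h3 haj t u hd
    obtain ⟨l, hl, hcomm⟩ := x_mul_Chat S J a hj (t / (1 + t * u)) c' hc'
    have hh : S.h a j (1 + t * u) ∈ Tsub S J a := h_mem_Tsub S J a hj hd
    refine ⟨S.x j a (u / (1 + t * u)) * (S.h a j (1 + t * u) * c' * (S.h a j (1 + t * u))⁻¹),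
      mul_mem (x_mem_Csub S J a hj _) (T_norm_C S J a h3 _ hh c' hc'C).1,
      S.h a j (1 + t * u), hh, l * S.x a j (t / (1 + t * u)),
      mul_mem (L_le_S S J a (Lam_le_L S J a hj hl)) (x_mem_Ssub S J a ha hj haj _), ?_⟩
    calc S.x a j t * (S.x j a u * c') = (S.x a j t * S.x j a u) * c' := by group
      _ = S.x j a (u / (1 + t * u)) * S.h a j (1 + t * u) *
          (S.x a j (t / (1 + t * u)) * c') := by rw [e1]; group
      _ = S.x j a (u / (1 + t * u)) * S.h a j (1 + t * u) *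
          (c' * l * S.x a j (t / (1 + t * u))) := by rw [hcomm]
      _ = _ := by group

/-- (F1) a root element times the big cell -/
theorem x_mul_InZ0 [Finite K] (h3 : 3 ≤ Fintype.card I) (ha : a ∈ J) {i j : I} (hi : i ∈ J)
    (hj : j ∈ J) (hij : i ≠ j) (t : K) {z : Γ} (hz : InZ0 S J a z) :
    InZ S J a (S.x i j t * z) := by
  by_cases hia : i = a
  · subst hia
    have hj' : j ∈ J.erase i := Finset.mem_erase.2 ⟨Ne.symm hij, hj⟩
    obtain ⟨c, hc, t', ht', s, hs, rfl⟩ := hz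
    have e : S.x i j t * (c * t' * s) = (S.x i j t * c) * t' * s := by group
    rw [e]
    rcases x_mul_C S J i h3 ha hj' t c hc with h | h
    · exact Or.inl (InZ0_mul_S S J i (InZ0_mul_T S J i h3 h ht') hs)
    · exact Or.inr ⟨j, hj', InZk_mul_S S J i (InZk_mul_T S J i h3 h ht') hs⟩
  · by_cases hja : j = a
    · subst hja
      exact Or.inl (C_mul_InZ0 S J j (x_mem_Csub S J j (Finset.mem_erase.2 ⟨hia, hi⟩) t) hz)
    · exact Or.inl (L_mul_InZ0 S J a h3 (S.x_mem_sub (Finset.mem_erase.2 ⟨hia, hi⟩)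
        (Finset.mem_erase.2 ⟨hja, hj⟩) hij t) hz)

end Cfsg.Agent.Lib.Helper6.StSL
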