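import Mathlib
import Cfsg.Agent.Lib.Helper6.StSLD2e

set_option autoImplicit false

/-!
Farm STSL (S2401), unit D2, part f: the union of the cells is closed under left multiplication by
the generators, hence equals `S.sub J`.
-/

namespace Cfsg.Agent.Lib.Helper6.StSL

open Matrix Cfsg.Agent.Lib.Helper2.StSL Cfsg.Agent.Lib.Helper1.StSL

variable {I : Type*} [DecidableEq I] [Fintype I] {K : Type*} [Field K] {Γ : Type*} [Group Γ]
  (S : StA I K Γ) (J : Finset I) (a : I)

omit [Fintype I] in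
theorem wc_neg_one_left (i j : I) : wc i j (-1 : K) i = 1 := by
  unfold wc
  simp

omit [Fintype I] in
theorem wc_of_ne' (i j : I) (t : K) {k : I} (hki : k ≠ i) (hkj : k ≠ j) : wc i j t k = 1 := by
  unfold wc
  simp [hki, hkj]

/-- `w_ak(1) w_am(1) = w_am(1) w_mk(1)` -/
theorem w_mul_w (h3 : 3 ≤ Fintype.card I) {k m : I} (hak : a ≠ k) (ham : a ≠ m) (hkm : k ≠ m) :
    S.w a k 1 * S.w a m 1 = S.w a m 1 * S.w m k 1 := by
  have h1 := w_conj_w S h3 ham (t := (-1 : K)) (by simp) hak (u := (1 : K)) one_ne_zero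
  rw [wc_neg_one_left, wc_of_ne' a m (-1 : K) (Ne.symm hak) hkm, Equiv.swap_apply_left,
    Equiv.swap_apply_of_ne_of_ne (Ne.symm hak) hkm, inv_one, one_mul, one_mul] at h1
  have h2 : S.w a m (-1) = (S.w a m 1)⁻¹ := (w_inv S ham 1).symm
  rw [h2, inv_inv] at h1
  rw [← h1]
  group

/-- the union of the cells is stable under `w_ak(1)` -/
theorem w_mul_InZ [Finite K] (h3 : 3 ≤ Fintype.card I) {k : I} (hk : k ∈ J.erase a) {g : Γ}
    (hg : InZ S J a g) : InZ S J a (S.w a k 1 * g) := by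
  have hak : a ≠ k := (Finset.ne_of_mem_erase hk).symm
  rcases hg with hg | ⟨m, hm, z, hz, rfl⟩
  · exact Or.inr ⟨k, hk, g, hg, rfl⟩
  · have ham : a ≠ m := (Finset.ne_of_mem_erase hm).symm
    by_cases hkm : k = m
    · subst hkm
      left
      have e : S.w a k 1 * (S.w a k 1 * z) = (S.h a k (-1))⁻¹ * z := by
        rw [← w_one_mul_w_one S hak]
        group
      rw [e]
      exact T_mul_InZ0 S J a h3 (inv_mem (h_mem_Tsub S J a hk (by simp))) hz
    · right
      refine ⟨m, hm, S.w m k 1 * z, L_mul_InZ0 S J a h3 (S.w_mem_sub hm hk (Ne.symm hkm) 1) hz, ?_⟩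
      rw [← mul_assoc, w_mul_w S a h3 hak ham hkm]
      group

omit [Fintype I] in
theorem swap_mem {k : I} (ha : a ∈ J) (hk : k ∈ J) {i : I} (hi : i ∈ J) :
    Equiv.swap a k i ∈ J := by
  by_cases h1 : i = a
  · subst h1
    rw [Equiv.swap_apply_left]
    exact hk
  · by_cases h2 : i = k
    · subst h2
      rw [Equiv.swap_apply_right]
      exact ha
    · rw [Equiv.swap_apply_of_ne_of_ne h1 h2]
      exact hi

/-- the union of the cells is stable under the root elements -/
theorem x_mul_InZ [Finite K] (h3 : 3 ≤ Fintype.card I) (ha : a ∈ J) {i j : I} (hi : i ∈ J)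
    (hj : j ∈ J) (hij : i ≠ j) (t : K) {g : Γ} (hg : InZ S J a g) :
    InZ S J a (S.x i j t * g) := by
  rcases hg with hg | ⟨k, hk, z, hz, rfl⟩
  · exact x_mul_InZ0 S J a h3 ha hi hj hij t hg
  · have hak : a ≠ k := (Finset.ne_of_mem_erase hk).symm
    have hkJ : k ∈ J := Finset.mem_of_mem_erase hk
    have h1 := w_conj S h3 hak (t := (-1 : K)) (by simp) hij t
    have h2 : S.w a k (-1) = (S.w a k 1)⁻¹ := (w_inv S hak 1).symm
    rw [h2, inv_inv] at h1
    have e : S.x i j t * (S.w a k 1 * z) = S.w a k 1 *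
        (S.x (Equiv.swap a k i) (Equiv.swap a k j)
          (wc a k (-1 : K) i * (wc a k (-1 : K) j)⁻¹ * t) * z) := by
      rw [← h1]
      group
    rw [e]
    apply w_mul_InZ S J a h3 hk
    exact x_mul_InZ0 S J a h3 ha (swap_mem J a ha hkJ hi) (swap_mem J a ha hkJ hj)
      (fun h => hij ((Equiv.swap a k).injective h)) _ hz

/-- every element of `S.sub J` lies in one of the cells -/
theorem sub_le_InZ [Finite K] (h3 : 3 ≤ Fintype.card I) (ha : a ∈ J) :
    ∀ g ∈ S.sub J, InZ S J a g := by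
  apply closure_induction_left'
  · rintro x ⟨i, j, t, hi, hj, hij, rfl⟩
    exact ⟨i, j, -t, hi, hj, hij, S.x_inv hij t⟩
  · exact Or.inl (InZ0_one S J a)
  · rintro x ⟨i, j, t, hi, hj, hij, rfl⟩ y hy
    exact x_mul_InZ S J a h3 ha hi hj hij t hy

end Cfsg.Agent.Lib.Helper6.StSL
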