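import Mathlib
import Cfsg.Agent.Lib.Helper6.StSLD2f
import Cfsg.Agent.Lib.Helper1.StSLK1a
import Cfsg.Agent.Lib.Helper2.StSLK2

set_option autoImplicit false

/-!
Farm STSL (S2401), unit D2: the induction step `inj_step`. The kernel of `π` on the big cell
(ingredients: helper1's `StSLK1a`, helper2's `StSLK2`), and the assembly.
-/

namespace Cfsg.Agent.Lib.Helper6.StSL

open Matrix Cfsg.Agent.Lib.Helper2.StSL Cfsg.Agent.Lib.Helper1.StSL Cfsg.Agent.Lib.Helper4.StSL

variable {I : Type*} [DecidableEq I] [Fintype I] {K : Type*} [Field K] {Γ : Type*} [Group Γ]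
  (S : StA I K Γ) (J : Finset I) (a : I)

theorem genS_inv : ∀ x ∈ genS S J a, x⁻¹ ∈ genS S J a := by
  rintro x ⟨i, j, u, hi, hj, hij, rfl⟩
  exact ⟨i, j, -u, hi, hj, hij, S.x_inv hij u⟩

/-- `Sg = R L` -/
theorem S_eq_R_mul_L (ha : a ∈ J) : ∀ s ∈ Ssub S J a,
    ∃ r ∈ Rsub S J a, ∃ l ∈ S.sub (J.erase a), s = r * l := by
  apply closure_induction_left' _ (genS_inv S J a)
  · exact ⟨1, one_mem _, 1, one_mem _, by simp⟩
  · rintro x ⟨i, j, u, hi, hj, hij, rfl⟩ y ⟨r, hr, l, hl, rfl⟩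
    by_cases hia : i = a
    · subst hia
      exact ⟨S.x i j u * r, mul_mem (x_mem_Rsub S J i hj u) hr, l, hl, by group⟩
    · have hx : S.x i j u ∈ S.sub (J.erase a) :=
        S.x_mem_sub (Finset.mem_erase.2 ⟨hia, hi⟩) hj hij u
      exact ⟨S.x i j u * r * (S.x i j u)⁻¹, (L_norm_R S J a _ hx r hr).1, S.x i j u * l,
        mul_mem hx hl, by group⟩

/-- the row `a` of the matrices of `L` is `e_a` -/
theorem L_row (l : Γ) (hl : l ∈ S.sub (J.erase a)) :
    (Pi.single a 1) ᵥ* ((S.π l : Matrix.SpecialLinearGroup I K) : Matrix I I K) =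
      Pi.single a 1 := by
  unfold StA.sub at hl
  induction hl using Subgroup.closure_induction with
  | mem g hg =>
    obtain ⟨i, j, u, hi, hj, hij, rfl⟩ := hg
    have hia : i ≠ a := Finset.ne_of_mem_erase hi
    rw [S.π_x i j hij u, Matrix.transvection, Matrix.vecMul_add, Matrix.vecMul_one]
    have : (Pi.single a (1 : K)) ᵥ* Matrix.single i j u = 0 := by
      funext k
      rw [Matrix.vecMul, dotProduct]
      apply Finset.sum_eq_zero
      intro m _
      by_cases hm : m = a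
      · subst hm
        simp [Matrix.single_apply, hia]
      · simp [Pi.single_apply, hm]
    rw [this, add_zero]
  | one => exact vecMul_π_one S _
  | mul x y _ _ hx hy => rw [vecMul_π_mul, hx, hy]
  | inv x _ hx =>
    have h1 := vecMul_π_mul S x x⁻¹ (Pi.single a 1)
    rw [mul_inv_cancel, vecMul_π_one, hx] at h1
    exact h1.symm

/-- `π` is injective on `Sg` -/
theorem S_inj (ha : a ∈ J) (IH : ∀ g ∈ S.sub (J.erase a), S.π g = 1 → g = 1) (s : Γ)
    (hs : s ∈ Ssub S J a) (h1 : S.π s = 1) : s = 1 := by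
  obtain ⟨r, hr, l, hl, rfl⟩ := S_eq_R_mul_L S J a ha s hs
  have h2 := vecMul_π_mul S r l (Pi.single a 1)
  rw [h1, Matrix.SpecialLinearGroup.coe_one, Matrix.vecMul_one] at h2
  -- apply `π l⁻¹` on the right
  have h3 := congrArg (fun v => v ᵥ* ((S.π l⁻¹ : Matrix.SpecialLinearGroup I K) : Matrix I I K)) h2
  rw [L_row S J a l⁻¹ (inv_mem hl), ← vecMul_π_mul, mul_inv_cancel, vecMul_π_one] at h3
  have hr1 : r = 1 := R_inj S J a r hr h3.symm
  subst hr1
  rw [one_mul] at h1 ⊢
  exact IH l hl h1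

/-- the kernel of `π` on the big cell -/
theorem kernel_Z0 [Finite K] (h3 : 3 ≤ Fintype.card I) (ha : a ∈ J) (hJ : 3 ≤ J.card)
    (IH : ∀ g ∈ S.sub (J.erase a), S.π g = 1 → g = 1) (g : Γ) (hg : InZ0 S J a g)
    (h1 : S.π g = 1) : g = 1 := by
  obtain ⟨c, hc, t, ht, s, hs, rfl⟩ := hg
  obtain ⟨d, hd, e⟩ := T_diag S J a t ht
  have key := π_mul_mulVec S (c * t) s (Pi.single a 1)
  rw [h1, Matrix.SpecialLinearGroup.coe_one, Matrix.one_mulVec, S_fix S J a s hs,
    π_mul_mulVec, e] at key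
  have hdiag : Matrix.diagonal d *ᵥ (Pi.single a (1 : K)) = d a • Pi.single a 1 := by
    funext k
    simp [Matrix.mulVec_diagonal, Pi.single_apply]
    by_cases hk : k = a
    · subst hk; simp
    · simp [hk]
  rw [hdiag, Matrix.mulVec_smul] at key
  -- the `a`-th coordinate
  have hda : d a = 1 := by
    have := congrFun key a
    rw [Pi.smul_apply, C_col_a S J a c hc, Pi.single_eq_same, smul_eq_mul, mul_one] at this
    exact this.symm
  rw [hda, one_smul] at key
  have hc1 : c = 1 := C_inj S J a c hc key.symm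
  subst hc1
  -- the torus part
  have ht1 : ((S.π t : Matrix.SpecialLinearGroup I K) : Matrix I I K) *ᵥ (Pi.single a 1) =
      Pi.single a 1 := by
    rw [e, hdiag, hda, one_smul]
  have htL : t ∈ S.sub (J.erase a) :=
    T_mem_L_of S (fun hij _ _ ht hu => h_mul S h3 hij ht hu)
      (fun hij hkl _ _ ht hu => h_comm S h3 hij hkl ht hu)
      (fun hij hjk hik _ ht => h_trans S h3 hij hjk hik ht) J a ha hJ t ht ht1
  exact S_inj S J a ha IH _ (mul_mem (mul_mem (one_mem _) (L_le_S S J a htL)) hs) h1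

/-- unit D2: the induction step -/
theorem inj_step [Finite K] (h3 : 3 ≤ Fintype.card I) (J : Finset I) (a : I) (ha : a ∈ J)
    (hJ : 3 ≤ J.card) (IH : ∀ g ∈ S.sub (J.erase a), S.π g = 1 → g = 1) :
    ∀ g ∈ S.sub J, S.π g = 1 → g = 1 := by
  intro g hg h1
  rcases sub_le_InZ S J a h3 ha g hg with h0 | ⟨k, hk, hk'⟩
  · exact kernel_Z0 S J a h3 ha hJ IH g h0 h1
  · exact absurd h1 (kernel_Zk S J a h3 hk g hk')

end Cfsg.Agent.Lib.Helper6.StSL
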