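import Mathlib
import Cfsg.Agent.Lib.Helper5.E6MDefs
import Cfsg.Agent.S2401

/-! E6M farm (S2340), unit PHI: the homomorphism `SL₆(F) → G` from the Steinberg presentation
(S2401) and the Steinberg relations of `Rel`. -/

set_option autoImplicit false

namespace Cfsg.Agent.Lib.Helper6.E6MPHI

open Cfsg.Agent.Lib.Helper5.E6M Matrix

variable {F : Type*} [Field F] {G : Type*} [Group G] (D : Data F G) (hD : Rel D)

include hD in
theorem exists_phi [Finite F] : ∃ φ : SL6 F →* G, ∀ (p : IJ) (t : F), φ (tv p t) = D.xij p t := by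
  obtain ⟨e, he⟩ := Cfsg.Agent.S2401.result (K := F) 6 (by norm_num)
  -- the map on generators
  let f : IJ × F → G := fun x => D.xij x.1 x.2
  have hrel : ∀ r ∈ (({g : FreeGroup (IJ × F) | ∃ (a : IJ) (t u : F),
            g = FreeGroup.of (a, t) * FreeGroup.of (a, u) * (FreeGroup.of (a, t + u))⁻¹} ∪
          {g | ∃ (a b : IJ) (t u : F), a.1.1 ≠ b.1.2 ∧ a.1.2 ≠ b.1.1 ∧
            g = FreeGroup.of (a, t) * FreeGroup.of (b, u) * (FreeGroup.of (a, t))⁻¹ *
              (FreeGroup.of (b, u))⁻¹} ∪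
          {g | ∃ (a b : IJ) (h : a.1.1 ≠ b.1.2) (t u : F), a.1.2 = b.1.1 ∧
            g = FreeGroup.of (a, t) * FreeGroup.of (b, u) * (FreeGroup.of (a, t))⁻¹ *
              (FreeGroup.of (b, u))⁻¹ *
              (FreeGroup.of (⟨(a.1.1, b.1.2), h⟩, t * u))⁻¹}) : Set (FreeGroup (IJ × F))),
      FreeGroup.lift f r = 1 := by
    intro r hr
    rcases hr with (hr | hr) | hr
    · obtain ⟨a, t, u, rfl⟩ := hr
      simp only [map_mul, map_inv, FreeGroup.lift_apply_of, f]
      rw [hD.st_add, mul_inv_cancel]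
    · obtain ⟨a, b, t, u, h1, h2, rfl⟩ := hr
      simp only [map_mul, map_inv, FreeGroup.lift_apply_of, f]
      exact hD.st_comm a b t u h1 h2
    · obtain ⟨a, b, h, t, u, h1, rfl⟩ := hr
      simp only [map_mul, map_inv, FreeGroup.lift_apply_of, f]
      rw [hD.st_r3 a b h t u h1, mul_inv_cancel]
  let ψ := PresentedGroup.toGroup hrel
  refine ⟨ψ.comp e.symm.toMonoidHom, ?_⟩
  intro p t
  have h1 : e (PresentedGroup.of (p, t)) = tv p t := by
    apply Subtype.ext
    exact he p t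
  have h2 : e.symm (tv p t) = PresentedGroup.of (p, t) := by
    rw [← h1, MulEquiv.symm_apply_apply]
  show ψ (e.symm (tv p t)) = D.xij p t
  rw [h2]
  exact PresentedGroup.toGroup.of hrel

end Cfsg.Agent.Lib.Helper6.E6MPHI
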