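import Mathlib
import Cfsg.Agent.Lib.Helper6.KHom2
import Cfsg.Agent.Lib.Lead.OrbitCount

set_option autoImplicit false
set_option maxHeartbeats 4000000
set_option maxRecDepth 100000
set_option linter.unusedVariables false
set_option linter.unusedSectionVars false
set_option linter.style.longLine false
set_option linter.unusedSimpArgs false
set_option linter.deprecated false

/-! # Livingstone–Wagner (b), part 4: a Sylow 2-subgroup fixes a point in every odd orbit -/

namespace Cfsg.Agent.Lib.Helper6.KHom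

open MulAction Cfsg.Agent.Lib.Helper8.Mil Cfsg.Agent.Lib.Lead.OrbitCount

variable {α : Type*} [Fintype α] [DecidableEq α] (G : Subgroup (Equiv.Perm α))

/-- Piece G1 -/
theorem exists_fixed_in_orbit (a : ℕ) (Γ : Finset α) (P : Subgroup (Equiv.Perm α))
    (hPle : P ≤ pstab G Γ) (hP2 : IsPGroup 2 P)
    (hΓ2 : ¬ 2 ^ (a + 1) ∣ Nat.card (fixingSubgroup G (Γ : Set α)))
    (b : α) (hb : b ∉ Γ)
    (hκb : 2 ^ a ∣ Nat.card (fixingSubgroup G ((insert b Γ : Finset α) : Set α))) :
    ∃ l : G, l ∈ fixingSubgroup G (Γ : Set α) ∧ l • b ∈ fixF P := by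
  classical
  haveI : Fact (Nat.Prime 2) := ⟨Nat.prime_two⟩
  -- the orbit has odd size
  have horb := card_orbit_fixingSubgroup (G := G) (Γ : Set α) b
  rw [← Finset.coe_insert] at horb
  have hodd : ¬ 2 ∣ (orbit (fixingSubgroup G (Γ : Set α)) b).ncard := by
    intro h2
    apply hΓ2
    rw [← horb, pow_succ, mul_comm]
    exact mul_dvd_mul h2 hκb
  -- the pulled back 2-group
  let M : Subgroup G := fixingSubgroup G (Γ : Set α)
  let Q : Subgroup M := (P.comap G.subtype).comap M.subtype
  have hQ2 : IsPGroup 2 Q := by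
    have h1 : IsPGroup 2 (P.comap G.subtype) :=
      hP2.comap_of_injective G.subtype (Subgroup.subtype_injective _)
    exact h1.comap_of_injective M.subtype (Subgroup.subtype_injective _)
  have hcard : ¬ 2 ∣ Nat.card (orbit M b) := by
    rw [Nat.card_coe_set_eq]; exact hodd
  haveI : Finite (orbit M b) := Set.toFinite _ |>.to_subtype
  obtain ⟨z, hz⟩ := hQ2.nonempty_fixed_point_of_prime_not_dvd_card (orbit M b) hcard
  obtain ⟨l, hl⟩ := z.2
  refine ⟨l.1, l.2, ?_⟩
  rw [mem_fixF]
  intro u hu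
  have huG : u ∈ G := (hPle hu).1
  have huM : (⟨u, huG⟩ : G) ∈ M := by
    rw [mem_fixingSubgroup_iff]
    intro y hy
    exact (hPle hu).2 y (Finset.mem_coe.mp hy)
  have hq : (⟨⟨u, huG⟩, huM⟩ : M) ∈ Q := by
    show u ∈ P
    exact hu
  have h1 := hz ⟨⟨⟨u, huG⟩, huM⟩, hq⟩
  have h2 := congrArg Subtype.val h1
  have h3 : l.1 • b = (z : α) := hl
  rw [h3]
  exact h2

end Cfsg.Agent.Lib.Helper6.KHom
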