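import Mathlib
import Cfsg.Agent.Lib.Helper6.KHom1
import Cfsg.Agent.Lib.Helper6.KHom2
import Cfsg.Agent.Lib.Helper1.Wl18
import Cfsg.Agent.Lib.Helper8.Mil1
import Cfsg.Agent.Lib.Helper6.KHom4
import Cfsg.Agent.Lib.Helper9.KHomG

set_option autoImplicit false
set_option maxHeartbeats 4000000
set_option maxRecDepth 100000
set_option linter.unusedVariables false
set_option linter.unusedSectionVars false
set_option linter.style.longLine false
set_option linter.unusedSimpArgs false
set_option linter.deprecated false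
set_option linter.style.haveILetI false

/-! # Livingstone–Wagner (b), part 6: the group induced by `N_G(P)` on the fixed points of a
Sylow 2-subgroup `P` of a `(k-1)`-point stabilizer -/

namespace Cfsg.Agent.Lib.Helper6.KHom

open MulAction SubMulAction Cfsg.Agent.Lib.Helper8.Mil

variable {α : Type*} [Fintype α] [DecidableEq α] (G : Subgroup (Equiv.Perm α))

/-- restriction to an invariant finset -/
def restrictHom (A : Subgroup (Equiv.Perm α)) (F : Finset α)
    (hAF : ∀ n ∈ A, ∀ x ∈ F, n x ∈ F) : A →* Equiv.Perm {x // x ∈ F} where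
  toFun n :=
    { toFun := fun x => ⟨n.1 x.1, hAF n.1 n.2 x.1 x.2⟩
      invFun := fun x => ⟨n.1⁻¹ x.1, hAF n.1⁻¹ (inv_mem n.2) x.1 x.2⟩
      left_inv := fun x => by apply Subtype.ext; simp
      right_inv := fun x => by apply Subtype.ext; simp }
  map_one' := by ext x; rfl
  map_mul' := fun m n => by ext x; rfl

theorem restrictHom_apply (A : Subgroup (Equiv.Perm α)) (F : Finset α)
    (hAF : ∀ n ∈ A, ∀ x ∈ F, n x ∈ F) (n : A) (x : {x // x ∈ F}) :
    ((restrictHom A F hAF n x : {x // x ∈ F}) : α) = n.1 x.1 := rfl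

/-- a finite group all of whose elements have odd order has odd order -/
theorem odd_card_of_odd_orderOf {X : Type*} [Group X] [Finite X]
    (h : ∀ g : X, Odd (orderOf g)) : Odd (Nat.card X) := by
  by_contra hne
  rw [Nat.not_odd_iff_even, even_iff_two_dvd] at hne
  haveI : Fact (Nat.Prime 2) := ⟨Nat.prime_two⟩
  obtain ⟨x, hx⟩ := exists_prime_orderOf_dvd_card' 2 hne
  have := h x
  rw [hx] at this
  exact absurd this (by decide)


open Cfsg.Agent.Lib.Helper1.Wl in
/-- Piece G: the group `Y` induced by `N_G(P)` on the fixed points of a Sylow 2-subgroup `P`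
of the pointwise stabilizer of a `(k-1)`-set -/
theorem exists_Y {k : ℕ} (hk : 5 ≤ k) (hkn : k ≤ Fintype.card α)
    (ht : IsMultiplyPretransitive G α (k - 1))
    (hh : IsPretransitive G (Set.powersetCard α k)) (a : ℕ)
    (hκ : ∀ Δ : Finset α, Δ.card = k → 2 ^ a ∣ Nat.card (fixingSubgroup G (Δ : Set α)) ∧
      ¬ 2 ^ (a + 1) ∣ Nat.card (fixingSubgroup G (Δ : Set α)))
    (hl : ∀ Γ : Finset α, Γ.card = k - 1 →
      ¬ 2 ^ (a + 1) ∣ Nat.card (fixingSubgroup G (Γ : Set α)))
    (Γ : Finset α) (hΓ : Γ.card = k - 1) :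
    ∃ (F : Finset α) (Y : Subgroup (Equiv.Perm {x // x ∈ F})),
      Γ ⊆ F ∧
      (∀ b : α, b ∉ Γ → ∃ l : G, l ∈ fixingSubgroup G (Γ : Set α) ∧ l • b ∈ F) ∧
      IsMultiplyPretransitive Y {x // x ∈ F} (k - 1) ∧
      IsPretransitive Y (Set.powersetCard {x // x ∈ F} k) ∧
      (∀ Γ' : Finset {x // x ∈ F}, Γ'.card = k - 1 →
        Odd (Nat.card (fixingSubgroup Y (Γ' : Set {x // x ∈ F})))) ∧
      (∀ y ∈ Y, ∃ g : G, ∀ x : {x // x ∈ F}, g • (x : α) = ((y x : {x // x ∈ F}) : α)) ∧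
      (F = Finset.univ ∨ ∃ t : G, t ∈ fixingSubgroup G (Γ : Set α) ∧ t ≠ 1 ∧ t * t = 1) := by
  classical
  haveI : Fact (Nat.Prime 2) := ⟨Nat.prime_two⟩
  -- a point outside Γ and 2^a ∣ λ
  have hΓlt : Γ.card < Fintype.card α := by omega
  obtain ⟨b0, hb0⟩ : ∃ b0 : α, b0 ∉ Γ := by
    by_contra hne
    simp only [not_exists, not_not] at hne
    have : Γ = Finset.univ := Finset.eq_univ_iff_forall.mpr hne
    rw [this, Finset.card_univ] at hΓlt
    exact lt_irrefl _ hΓlt
  have hins : ∀ b : α, b ∉ Γ → (insert b Γ).card = k := by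
    intro b hb
    rw [Finset.card_insert_of_notMem hb, hΓ]; omega
  have hle : ∀ b : α, fixingSubgroup G ((insert b Γ : Finset α) : Set α) ≤
      fixingSubgroup G (Γ : Set α) := by
    intro b
    apply fixingSubgroup_antitone
    intro x hx
    exact Finset.mem_coe.mpr (Finset.mem_insert_of_mem (Finset.mem_coe.mp hx))
  have hadvd : 2 ^ a ∣ Nat.card (fixingSubgroup G (Γ : Set α)) :=
    dvd_trans (hκ _ (hins b0 hb0)).1 (Subgroup.card_dvd_of_le (hle b0))
  have hfac : (Nat.card (pstab G Γ)).factorization 2 = a := by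
    rw [card_pstab]
    have hpos : Nat.card (fixingSubgroup G (Γ : Set α)) ≠ 0 := Nat.card_pos.ne'
    have h1 := (Nat.Prime.pow_dvd_iff_le_factorization Nat.prime_two hpos).mp hadvd
    have h2 : ¬ a + 1 ≤ (Nat.card (fixingSubgroup G (Γ : Set α))).factorization 2 := by
      intro h
      exact hl Γ hΓ ((Nat.Prime.pow_dvd_iff_le_factorization Nat.prime_two hpos).mpr h)
    omega
  -- the Sylow subgroup
  obtain ⟨P'⟩ : Nonempty (Sylow 2 (pstab G Γ)) := inferInstance
  obtain ⟨P, hPdef⟩ : ∃ P : Subgroup (Equiv.Perm α),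
      P = (P' : Subgroup (pstab G Γ)).map (pstab G Γ).subtype := ⟨_, rfl⟩
  have hPle : P ≤ pstab G Γ := by
    rw [hPdef]; rintro _ ⟨u, _, rfl⟩; exact u.2
  have hPG : P ≤ G := fun u hu => (hPle hu).1
  have hPc : Nat.card P = 2 ^ a := by
    rw [hPdef, Subgroup.card_map_of_injective (Subgroup.subtype_injective _),
      P'.card_eq_multiplicity, hfac]
  have hP2 : IsPGroup 2 P := IsPGroup.of_card hPc
  refine ⟨fixF P, ?_⟩
  have hΓF : Γ ⊆ fixF P := by
    intro x hx
    rw [mem_fixF]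
    intro u hu
    exact (hPle hu).2 x hx
  -- the group A and the restriction
  obtain ⟨A, hAdef⟩ : ∃ A : Subgroup (Equiv.Perm α),
      A = G ⊓ Subgroup.normalizer (P : Set (Equiv.Perm α)) := ⟨_, rfl⟩
  have hAG : ∀ n ∈ A, n ∈ G := fun n hn => by rw [hAdef] at hn; exact hn.1
  have hAN : ∀ n ∈ A, n ∈ Subgroup.normalizer (P : Set (Equiv.Perm α)) :=
    fun n hn => by rw [hAdef] at hn; exact hn.2
  have hAmem : ∀ n, n ∈ G → n ∈ Subgroup.normalizer (P : Set (Equiv.Perm α)) → n ∈ A :=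
    fun n h1 h2 => by rw [hAdef]; exact ⟨h1, h2⟩
  have hAF : ∀ n ∈ A, ∀ x ∈ fixF P, n x ∈ fixF P :=
    fun n hn x hx => normalizer_smul_mem_fixF (hAN n hn) hx
  refine ⟨(restrictHom A (fixF P) hAF).range, hΓF, ?_, ?_, ?_, ?_, ?_, ?_⟩
  · -- fixed points in orbits
    intro b hb
    exact exists_fixed_in_orbit G a Γ P hPle hP2 (hl Γ hΓ) b hb (hκ _ (hins b hb)).1
  · -- (k-1)-transitivity (Witt)
    refine ⟨fun x y => ?_⟩
    let x' : Fin (k - 1) ↪ α := x.trans (Function.Embedding.subtype _)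
    let y' : Fin (k - 1) ↪ α := y.trans (Function.Embedding.subtype _)
    have hx' : ∀ u ∈ P, ∀ i, u (x' i) = x' i := fun u hu i => mem_fixF.mp (x i).2 u hu
    have hy' : ∀ u ∈ P, ∀ i, u (y' i) = y' i := fun u hu i => mem_fixF.mp (y i).2 u hu
    obtain ⟨n, hnG, hnN, hn⟩ := witt G ht Γ hΓ P' P hPdef x' y' hx' hy'
    refine ⟨⟨restrictHom A (fixF P) hAF ⟨n, hAmem n hnG hnN⟩, MonoidHom.mem_range.mpr ⟨_, rfl⟩⟩, ?_⟩
    apply Function.Embedding.ext
    intro i
    apply Subtype.ext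
    exact hn i
  · -- k-homogeneity (Witt for sets)
    refine ⟨fun s1 s2 => ?_⟩
    let Δ1 : Finset α := (s1 : Finset {x // x ∈ fixF P}).map (Function.Embedding.subtype _)
    let Δ2 : Finset α := (s2 : Finset {x // x ∈ fixF P}).map (Function.Embedding.subtype _)
    have h1 : Δ1.card = k := by rw [Finset.card_map]; exact s1.2
    have h2 : Δ2.card = k := by rw [Finset.card_map]; exact s2.2
    have hF1 : Δ1 ⊆ fixF P := by
      intro z hz
      obtain ⟨w, _, rfl⟩ := Finset.mem_map.mp hz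
      exact w.2
    have hF2 : Δ2 ⊆ fixF P := by
      intro z hz
      obtain ⟨w, _, rfl⟩ := Finset.mem_map.mp hz
      exact w.2
    obtain ⟨n, hnG, hnN, hn⟩ := Cfsg.Agent.Lib.Helper9.KHom.witt_set G a hh (fun Δ hΔ => (hκ Δ hΔ).2) P hPG hPc Δ1 Δ2 h1 h2
      hF1 hF2
    refine ⟨⟨restrictHom A (fixF P) hAF ⟨n, hAmem n hnG hnN⟩, MonoidHom.mem_range.mpr ⟨_, rfl⟩⟩, ?_⟩
    apply Subtype.ext
    refine (Set.powersetCard.coe_smul (g := (⟨restrictHom A (fixF P) hAF ⟨n, hAmem n hnG hnN⟩,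
      MonoidHom.mem_range.mpr ⟨_, rfl⟩⟩ : (restrictHom A (fixF P) hAF).range)) (s := s1)).trans ?_
    ext z
    rw [Finset.mem_smul_finset]
    constructor
    · rintro ⟨w, hw, rfl⟩
      have h3 : n (w : α) ∈ Δ2 := by
        rw [← hn]
        exact Finset.mem_image.mpr ⟨w, Finset.mem_map.mpr ⟨w, hw, rfl⟩, rfl⟩
      obtain ⟨v, hv, hv'⟩ := Finset.mem_map.mp h3
      have : v = (⟨restrictHom A (fixF P) hAF ⟨n, hAmem n hnG hnN⟩,
          MonoidHom.mem_range.mpr ⟨_, rfl⟩⟩ : (restrictHom A (fixF P) hAF).range) • w := by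
        apply Subtype.ext
        exact hv'
      rw [← this]; exact hv
    · intro hz
      have h3 : (z : α) ∈ Δ1.image n := by
        rw [hn]; exact Finset.mem_map.mpr ⟨z, hz, rfl⟩
      obtain ⟨w0, hw0, hw0'⟩ := Finset.mem_image.mp h3
      obtain ⟨w, hw, rfl⟩ := Finset.mem_map.mp hw0
      refine ⟨w, hw, ?_⟩
      apply Subtype.ext
      exact hw0'
  · -- odd stabilizers
    intro Γ' hΓ'
    apply odd_card_of_odd_orderOf
    rintro ⟨⟨y, n, rfl⟩, hy⟩
    have hfix : ∀ w ∈ Γ', restrictHom A (fixF P) hAF n w = w := by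
      intro w hw
      have := (mem_fixingSubgroup_iff _).mp hy w (Finset.mem_coe.mpr hw)
      exact this
    let Γ'' : Finset α := Γ'.map (Function.Embedding.subtype _)
    have hΓ''c : Γ''.card = k - 1 := by rw [Finset.card_map]; exact hΓ'
    have hΓ''F : Γ'' ⊆ fixF P := by
      intro z hz
      obtain ⟨w, _, rfl⟩ := Finset.mem_map.mp hz
      exact w.2
    have hnfix : ∀ x ∈ Γ'', n.1 x = x := by
      intro x hx
      obtain ⟨w, hw, rfl⟩ := Finset.mem_map.mp hx
      exact congrArg Subtype.val (hfix w hw)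
    obtain ⟨j, hj, hjP⟩ := Cfsg.Agent.Lib.Helper9.KHom.odd_of_fix G a P hPG hPc Γ'' hΓ''F (hl Γ'' hΓ''c) n.1 (hAG _ n.2)
      (hAN _ n.2) hnfix
    have hpow : (restrictHom A (fixF P) hAF n) ^ j = 1 := by
      rw [← map_pow]
      ext x
      rw [restrictHom_apply]
      have : ((n ^ j : A) : Equiv.Perm α) = n.1 ^ j := rfl
      rw [this]
      exact mem_fixF.mp x.2 _ hjP
    have hpow' : (⟨⟨restrictHom A (fixF P) hAF n, MonoidHom.mem_range.mpr ⟨n, rfl⟩⟩, hy⟩ :
        fixingSubgroup (restrictHom A (fixF P) hAF).range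
          (Γ' : Set {x // x ∈ fixF P})) ^ j = 1 := by
      apply Subtype.ext
      apply Subtype.ext
      exact hpow
    exact Odd.of_dvd_nat hj (orderOf_dvd_of_pow_eq_one hpow')
  · -- link to G
    rintro y ⟨n, rfl⟩
    exact ⟨⟨n.1, hAG _ n.2⟩, fun x => rfl⟩
  · -- involution
    by_cases hP1 : P = ⊥
    · left
      apply Finset.eq_univ_iff_forall.mpr
      intro x
      rw [mem_fixF, hP1]
      intro u hu
      rw [Subgroup.mem_bot.mp hu]; rfl
    · right
      have hcard2 : 2 ∣ Nat.card P := by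
        rw [hPc]
        have ha0 : a ≠ 0 := by
          intro h0
          rw [h0, pow_zero] at hPc
          exact hP1 (Subgroup.card_eq_one.mp hPc)
        exact dvd_pow_self 2 ha0
      obtain ⟨t, hto⟩ := exists_prime_orderOf_dvd_card' 2 hcard2
      have htG : t.1 ∈ G := hPG t.2
      refine ⟨⟨t.1, htG⟩, ?_, ?_, ?_⟩
      · rw [mem_fixingSubgroup_iff]
        intro y hy
        exact (hPle t.2).2 y (Finset.mem_coe.mp hy)
      · intro h1
        have h1' : (t : Equiv.Perm α) = 1 := congrArg Subtype.val h1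
        have : t = 1 := Subtype.ext h1'
        rw [this, orderOf_one] at hto
        omega
      · have h2 : t ^ 2 = 1 := by rw [← hto]; exact pow_orderOf_eq_one t
        apply Subtype.ext
        have := congrArg Subtype.val h2
        rw [pow_two] at this
        exact this

end Cfsg.Agent.Lib.Helper6.KHom
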