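import Mathlib

set_option autoImplicit false
set_option linter.unusedSectionVars false
set_option linter.unusedVariables false
set_option linter.unusedSimpArgs false

/-! Centralisers of maps of the form `x ↦ x + ∑ f(x, w (τ i)) w i` (normal forms of involutions
in characteristic two) inside a group of isometries of `f`: the centraliser is an extension of the
pointwise stabiliser of the frame `w` by the matrix group `{A | A P Aᵀ = P}`. -/

namespace Cfsg.Agent.Lib.Helper6.CentFrame

open Matrix

variable {F : Type*} [Field F] {V : Type*} [AddCommGroup V] [Module F V]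
variable {ι : Type*} [Fintype ι] [DecidableEq ι]

/-- the permutation matrix of `τ` -/
def P (F : Type*) [Field F] (τ : ι → ι) : Matrix ι ι F :=
  Matrix.of fun i k => if k = τ i then 1 else 0

theorem P_apply (τ : ι → ι) (i k : ι) : P F τ i k = if k = τ i then 1 else 0 := rfl

/-- the frame `w · A` -/
def mulFrame (w : ι → V) (A : Matrix ι ι F) : ι → V := fun i => ∑ j, A j i • w j

theorem mulFrame_apply (w : ι → V) (A : Matrix ι ι F) (i : ι) :
    mulFrame w A i = ∑ j, A j i • w j := rfl

theorem mulFrame_one (w : ι → V) : mulFrame w (1 : Matrix ι ι F) = w := by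
  funext i
  rw [mulFrame_apply]
  simp [Matrix.one_apply, ite_smul, Finset.sum_ite_eq']

theorem conj_entry (τ : ι → ι) (hτ : ∀ i, τ (τ i) = i) (A : Matrix ι ι F) (j k : ι) :
    (A * P F τ * Aᵀ) j k = ∑ i, A j i * A k (τ i) := by
  rw [Matrix.mul_apply]
  have h1 : ∀ i', (A * P F τ) j i' = A j (τ i') := by
    intro i'
    rw [Matrix.mul_apply]
    have : ∀ l, A j l * P F τ l i' = if l = τ i' then A j l else 0 := by
      intro l
      rw [P_apply]
      by_cases h : i' = τ l
      · have h' : l = τ i' := by rw [h, hτ]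
        rw [if_pos h, if_pos h', mul_one]
      · have h' : ¬ l = τ i' := by
          intro hl
          apply h
          rw [hl, hτ]
        rw [if_neg h, if_neg h', mul_zero]
    simp only [this]
    rw [Finset.sum_ite_eq']
    simp
  simp only [h1, Matrix.transpose_apply]
  have h2 := Equiv.sum_comp (⟨τ, τ, hτ, hτ⟩ : ι ≃ ι) (fun i => A j (τ i) * A k i)
  simp only [Equiv.coe_fn_mk, hτ] at h2
  rw [← h2]

theorem expansion (f : LinearMap.BilinForm F V) (τ : ι → ι) (hτ : ∀ i, τ (τ i) = i) (w : ι → V)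
    (A : Matrix ι ι F) (x : V) :
    ∑ i, f x (mulFrame w A (τ i)) • mulFrame w A i =
      ∑ j, (∑ k, (A * P F τ * Aᵀ) j k * f x (w k)) • w j := by
  simp only [conj_entry τ hτ, mulFrame_apply, map_sum, map_smul, smul_eq_mul, Finset.smul_sum,
    Finset.sum_smul, smul_smul, Finset.sum_mul]
  rw [Finset.sum_comm]
  apply Finset.sum_congr rfl
  intro j _
  rw [Finset.sum_comm]
  apply Finset.sum_congr rfl
  intro i _
  apply Finset.sum_congr rfl
  intro k _
  congr 1
  ring


theorem P_mul_P (τ : ι → ι) (hτ : ∀ i, τ (τ i) = i) : P F τ * P F τ = 1 := by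
  ext i k
  rw [Matrix.mul_apply, Matrix.one_apply]
  simp only [P_apply, mul_ite, mul_one, mul_zero]
  rw [Finset.sum_eq_single (τ i)]
  · rw [if_pos rfl, hτ]
    by_cases h : i = k
    · rw [if_pos h, if_pos h.symm]
    · rw [if_neg h, if_neg (fun h' => h h'.symm)]
  · intro l _ hl
    rw [if_neg hl]
    simp
  · intro h
    exact absurd (Finset.mem_univ _) h

theorem isUnit_of_conj (τ : ι → ι) (hτ : ∀ i, τ (τ i) = i) (A : Matrix ι ι F)
    (hA : A * P F τ * Aᵀ = P F τ) : ∃ B : Matrix ι ι F, B * A = 1 := by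
  have h1 : A * (P F τ * Aᵀ * P F τ) = 1 := by
    rw [← Matrix.mul_assoc, ← Matrix.mul_assoc, hA, P_mul_P τ hτ]
  exact ⟨_, mul_eq_one_comm.mp h1⟩

theorem mulFrame_li (τ : ι → ι) (hτ : ∀ i, τ (τ i) = i) (w : ι → V) (hli : LinearIndependent F w)
    (A : Matrix ι ι F) (hA : A * P F τ * Aᵀ = P F τ) : LinearIndependent F (mulFrame w A) := by
  obtain ⟨B, hB⟩ := isUnit_of_conj τ hτ A hA
  rw [Fintype.linearIndependent_iff]
  intro c hc
  have h1 : ∑ j, (A *ᵥ c) j • w j = 0 := by
    rw [← hc]
    simp only [mulFrame_apply, Finset.smul_sum, smul_smul, Matrix.mulVec, dotProduct,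
      Finset.sum_smul]
    rw [Finset.sum_comm]
    apply Finset.sum_congr rfl
    intro i _
    apply Finset.sum_congr rfl
    intro j _
    rw [mul_comm]
  have h2 := Fintype.linearIndependent_iff.mp hli _ h1
  have h3 : A *ᵥ c = 0 := funext h2
  have h4 : B *ᵥ (A *ᵥ c) = c := by
    rw [Matrix.mulVec_mulVec, hB, Matrix.one_mulVec]
  rw [h3, Matrix.mulVec_zero] at h4
  intro i
  rw [← h4]
  rfl

theorem mulFrame_iso (f : LinearMap.BilinForm F V) (w : ι → V) (h0 : ∀ i j, f (w i) (w j) = 0)
    (A : Matrix ι ι F) (i j : ι) : f (mulFrame w A i) (mulFrame w A j) = 0 := by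
  simp only [mulFrame_apply, map_sum, map_smul, LinearMap.sum_apply, LinearMap.smul_apply, h0,
    smul_zero, Finset.sum_const_zero]

/-- dual vectors of a linearly independent family with respect to a nondegenerate form -/
theorem exists_dual [FiniteDimensional F V] (f : LinearMap.BilinForm F V) (hf : f.Nondegenerate)
    (w : ι → V) (hli : LinearIndependent F w) :
    ∃ v : ι → V, ∀ i k, f (v i) (w k) = if i = k then 1 else 0 := by
  classical
  obtain ⟨g, hg⟩ := LinearMap.exists_leftInverse_of_injective (Finsupp.linearCombination F w)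
    (linearIndependent_iff_ker.mp hli)
  have hφ : ∀ i k, (Finsupp.lapply i ∘ₗ g) (w k) = if i = k then 1 else 0 := by
    intro i k
    have h1 : g (w k) = Finsupp.single k 1 := by
      have := congrArg (fun L : (ι →₀ F) →ₗ[F] (ι →₀ F) => L (Finsupp.single k 1)) hg
      simp only [LinearMap.comp_apply, Finsupp.linearCombination_single, one_smul,
        LinearMap.id_apply] at this
      exact this
    rw [LinearMap.comp_apply, h1, Finsupp.lapply_apply, Finsupp.single_apply]
    by_cases h : i = k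
    · subst h; simp
    · have : ¬ k = i := fun h' => h h'.symm
      rw [if_neg this, if_neg h]
  have hv : ∀ i, ∃ v : V, ∀ y, f v y = (Finsupp.lapply i ∘ₗ g) y := by
    intro i
    refine ⟨(LinearMap.BilinForm.toDual f hf).symm (Finsupp.lapply i ∘ₗ g), fun y => ?_⟩
    exact LinearMap.BilinForm.apply_toDual_symm_apply (B := f) (hB := hf) _ y
  choose v hv using hv
  refine ⟨v, fun i k => ?_⟩
  rw [hv, hφ]

section main

variable (f : LinearMap.BilinForm F V) {G : Type*} [Group G] (ρ : G → V →ₗ[F] V)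
  (hone : ∀ x, ρ 1 x = x) (hmul : ∀ g h x, ρ (g * h) x = ρ g (ρ h x))
  (hiso : ∀ g u v, f (ρ g u) (ρ g v) = f u v)
  (τ : ι → ι) (hτ : ∀ i, τ (τ i) = i)
  (t : V →ₗ[F] V) (w : ι → V) (hli : LinearIndependent F w)
  (hN : ∀ x, t x - x = ∑ i, f x (w (τ i)) • w i)
  (v : ι → V) (hv : ∀ i k, f (v i) (w k) = if i = k then 1 else 0)

include hone hmul in
theorem rho_inv_apply (g : G) (x : V) : ρ g⁻¹ (ρ g x) = x := by
  rw [← hmul, inv_mul_cancel, hone]

include hone hmul in
theorem rho_apply_inv (g : G) (x : V) : ρ g (ρ g⁻¹ x) = x := by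
  rw [← hmul, mul_inv_cancel, hone]

include hN in
theorem t_apply (x : V) : t x = x + ∑ i, f x (w (τ i)) • w i := by
  rw [← hN]; abel

include hiso hτ hN in
/-- an isometry mapping the frame `w` to `w · A` with `A P Aᵀ = P` commutes with `t` -/
theorem commute_of_frame (g : G) (A : Matrix ι ι F) (hA : A * P F τ * Aᵀ = P F τ)
    (hg : ∀ i, ρ g (w i) = mulFrame w A i) (x : V) : ρ g (t x) = t (ρ g x) := by
  rw [t_apply f τ t w hN, t_apply f τ t w hN, map_add, map_sum]
  congr 1
  have h1 : ∀ i, ρ g (f x (w (τ i)) • w i) =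
      f (ρ g x) (mulFrame w A (τ i)) • mulFrame w A i := by
    intro i
    rw [map_smul, hg, ← hg (τ i), hiso]
  simp only [h1]
  rw [expansion f τ hτ w A (ρ g x), hA]
  apply Finset.sum_congr rfl
  intro j _
  congr 1
  simp only [P_apply, ite_mul, one_mul, zero_mul, Finset.sum_ite_eq', Finset.mem_univ, if_true]

/-- the matrix of an element of the centraliser on the frame -/
def matOf (g : G) : Matrix ι ι F := Matrix.of fun j i => f (ρ g (v (τ i))) (w (τ j))

include hτ hN hv in
theorem w_eq (i : ι) : w i = t (v (τ i)) - v (τ i) := by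
  rw [hN]
  simp only [hv]
  have : ∀ k, (if τ i = τ k then (1 : F) else 0) • w k = if k = i then w k else 0 := by
    intro k
    by_cases h : k = i
    · subst h; simp
    · have : ¬ τ i = τ k := by
        intro h'
        apply h
        have := congrArg τ h'
        rw [hτ, hτ] at this
        exact this.symm
      rw [if_neg this, if_neg h, zero_smul]
  simp only [this]
  rw [Finset.sum_ite_eq']
  simp

include hτ hN hv in
theorem frame_of_commute (g : G) (hg : ∀ x, ρ g (t x) = t (ρ g x)) (i : ι) :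
    ρ g (w i) = mulFrame w (matOf f ρ τ w v g) i := by
  rw [w_eq f τ hτ t w hN v hv i, map_sub, hg, hN, mulFrame_apply]
  rfl

include hone hmul hiso hτ hN hv hli in
theorem matOf_spec (g : G) (hg : ∀ x, ρ g (t x) = t (ρ g x)) :
    matOf f ρ τ w v g * P F τ * (matOf f ρ τ w v g)ᵀ = P F τ := by
  set A := matOf f ρ τ w v g with hAdef
  have hfr := frame_of_commute f ρ τ hτ t w hN v hv g hg
  have key : ∀ y : V, ∑ j, (∑ k, (A * P F τ * Aᵀ) j k * f y (w k)) • w j =
      ∑ j, f y (w (τ j)) • w j := by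
    intro y
    rw [← expansion f τ hτ w A y]
    have hy : y = ρ g (ρ g⁻¹ y) := (rho_apply_inv ρ hone hmul g y).symm
    have h1 : ∀ i, f y (mulFrame w A (τ i)) • mulFrame w A i =
        ρ g (f (ρ g⁻¹ y) (w (τ i)) • w i) := by
      intro i
      rw [map_smul, hfr, ← hfr (τ i)]
      congr 1
      conv_lhs => rw [hy]
      rw [hiso]
    simp only [h1]
    rw [← map_sum, ← hN, map_sub, hg, rho_apply_inv ρ hone hmul, hN]
  ext j l
  have h2 := key (v l)
  have h3 := Fintype.linearIndependent_iff.mp hli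
    (fun j => (∑ k, (A * P F τ * Aᵀ) j k * f (v l) (w k)) - f (v l) (w (τ j))) (by
      simp only [sub_smul, Finset.sum_sub_distrib]
      rw [h2, sub_self]) j
  rw [sub_eq_zero] at h3
  simp only [hv, mul_ite, mul_one, mul_zero, Finset.sum_ite_eq, Finset.mem_univ, if_true] at h3
  rw [h3, P_apply]


include hli in
theorem mulFrame_injective (A B : Matrix ι ι F) (h : mulFrame w A = mulFrame w B) : A = B := by
  ext j i
  have h1 := congrFun h i
  rw [mulFrame_apply, mulFrame_apply] at h1
  have h2 := Fintype.linearIndependent_iff.mp hli (fun j => A j i - B j i) (by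
    simp only [sub_smul, Finset.sum_sub_distrib]
    rw [h1, sub_self]) j
  exact sub_eq_zero.mp h2

include hone hmul hiso hτ hN hv hli in
/-- **The centraliser as an extension.** -/
theorem card_centralizer
    (hwitt : ∀ A : Matrix ι ι F, A * P F τ * Aᵀ = P F τ →
      ∃ g : G, ∀ i, ρ g (w i) = mulFrame w A i) :
    Nat.card {g : G // ∀ x, ρ g (t x) = t (ρ g x)} =
      Nat.card {g : G // ∀ i, ρ g (w i) = w i} *
        Nat.card {A : Matrix ι ι F // A * P F τ * Aᵀ = P F τ} := by
  classical
  rw [← Nat.card_prod]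
  apply Nat.card_congr
  choose gsel hgsel using hwitt
  have hcomm : ∀ (g : G) (A : Matrix ι ι F) (hA : A * P F τ * Aᵀ = P F τ)
      (hg : ∀ i, ρ g (w i) = mulFrame w A i) (x : V), ρ g (t x) = t (ρ g x) :=
    fun g A hA hg x => commute_of_frame f ρ hiso τ hτ t w hN g A hA hg x
  have hP1 : (1 : Matrix ι ι F) * P F τ * (1 : Matrix ι ι F)ᵀ = P F τ := by
    rw [Matrix.transpose_one, Matrix.one_mul, Matrix.mul_one]
  refine
    { toFun := fun g =>
        (⟨(gsel _ (matOf_spec f ρ hone hmul hiso τ hτ t w hli hN v hv g.1 g.2))⁻¹ * g.1, ?_⟩,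
          ⟨matOf f ρ τ w v g.1, matOf_spec f ρ hone hmul hiso τ hτ t w hli hN v hv g.1 g.2⟩)
      invFun := fun p => ⟨gsel p.2.1 p.2.2 * p.1.1, ?_⟩
      left_inv := ?_
      right_inv := ?_ }
  · intro i
    rw [hmul, frame_of_commute f ρ τ hτ t w hN v hv g.1 g.2 i, ← hgsel _
      (matOf_spec f ρ hone hmul hiso τ hτ t w hli hN v hv g.1 g.2) i,
      rho_inv_apply ρ hone hmul]
  · intro x
    rw [hmul, hmul]
    have h1 := hcomm p.1.1 1 hP1 (fun i => by rw [mulFrame_one]; exact p.1.2 i) x
    rw [h1]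
    exact hcomm (gsel p.2.1 p.2.2) p.2.1 p.2.2 (hgsel p.2.1 p.2.2) _
  · intro g
    apply Subtype.ext
    show gsel _ _ * ((gsel _ _)⁻¹ * g.1) = g.1
    rw [mul_inv_cancel_left]
  · rintro ⟨⟨k, hk⟩, ⟨A, hA⟩⟩
    have hcm : ∀ x, ρ (gsel A hA * k) (t x) = t (ρ (gsel A hA * k) x) := by
      intro x
      rw [hmul, hmul]
      have h1 := hcomm k 1 hP1 (fun i => by rw [mulFrame_one]; exact hk i) x
      rw [h1]
      exact hcomm (gsel A hA) A hA (hgsel A hA) _
    have hmat : matOf f ρ τ w v (gsel A hA * k) = A := by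
      apply mulFrame_injective w hli
      funext i
      rw [← frame_of_commute f ρ τ hτ t w hN v hv _ hcm i, hmul, hk, hgsel A hA i]
    apply Prod.ext
    · apply Subtype.ext
      show (gsel (matOf f ρ τ w v (gsel A hA * k)) _)⁻¹ * (gsel A hA * k) = k
      have : ∀ (B : Matrix ι ι F) (hB : B * P F τ * Bᵀ = P F τ), B = A →
          (gsel B hB)⁻¹ * (gsel A hA * k) = k := by
        intro B hB hBA
        subst hBA
        rw [inv_mul_cancel_left]
      exact this _ _ hmat
    · apply Subtype.ext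
      exact hmat

end main

end Cfsg.Agent.Lib.Helper6.CentFrame
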