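import Mathlib
import Cfsg.Agent.Lib.Helper6.CentFrame

set_option autoImplicit false
set_option linter.unusedSectionVars false
set_option linter.unusedVariables false
set_option linter.unusedSimpArgs false

/-! Counting solutions of independent linear conditions given by a nondegenerate form. -/

namespace Cfsg.Agent.Lib.Helper6.AffCount

open Module Cfsg.Agent.Lib.Helper6.CentFrame

variable {F : Type*} [Field F] [Fintype F] {V : Type*} [AddCommGroup V] [Module F V]
  [FiniteDimensional F V]

/-- the number of vectors with prescribed values of `f (w j) ·` for an independent family `w` -/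
theorem card_affine (f : LinearMap.BilinForm F V) (hf : f.Nondegenerate) {k : ℕ} (w : Fin k → V)
    (hli : LinearIndependent F w) (c : Fin k → F) :
    Nat.card {v : V // ∀ j, f (w j) v = c j} * Fintype.card F ^ k =
      Fintype.card F ^ finrank F V := by
  classical
  obtain ⟨v', hv'⟩ := exists_dual f.flip hf.flip w hli
  have hv'' : ∀ i j, f (w j) (v' i) = if i = j then 1 else 0 := fun i j => hv' i j
  set L : V →ₗ[F] (Fin k → F) := LinearMap.pi (fun j => f (w j)) with hL
  have hLa : ∀ v j, L v j = f (w j) v := fun v j => rfl
  have hpre : ∀ c : Fin k → F, L (∑ i, c i • v' i) = c := by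
    intro c
    funext j
    rw [hLa, map_sum]
    simp only [map_smul, hv'', smul_eq_mul, mul_ite, mul_one, mul_zero]
    rw [Finset.sum_ite_eq']
    simp
  have hsurj : LinearMap.range L = ⊤ := by
    rw [eq_top_iff]
    intro c _
    exact ⟨_, hpre c⟩
  have hker : finrank F (LinearMap.ker L) + k = finrank F V := by
    have := LinearMap.finrank_range_add_finrank_ker L
    rw [hsurj, finrank_top, Module.finrank_fintype_fun_eq_card, Fintype.card_fin] at this
    omega
  have e : {v : V // ∀ j, f (w j) v = c j} ≃ LinearMap.ker L :=
    { toFun := fun v => ⟨v.1 - ∑ i, c i • v' i, by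
        rw [LinearMap.mem_ker, map_sub, hpre]
        funext j
        rw [Pi.sub_apply, hLa, v.2 j, sub_self]
        rfl⟩
      invFun := fun x => ⟨x.1 + ∑ i, c i • v' i, fun j => by
        have h1 : L (x.1 + ∑ i, c i • v' i) = c := by
          rw [map_add, LinearMap.mem_ker.mp x.2, hpre, zero_add]
        rw [← hLa, h1]⟩
      left_inv := fun v => by
        apply Subtype.ext
        show v.1 - _ + _ = v.1
        abel
      right_inv := fun x => by
        apply Subtype.ext
        show x.1 + _ - _ = x.1
        abel }
  rw [Nat.card_congr e, Module.natCard_eq_pow_finrank (K := F) (V := LinearMap.ker L),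
    Nat.card_eq_fintype_card, ← pow_add, hker]

end Cfsg.Agent.Lib.Helper6.AffCount
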