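import Mathlib

set_option autoImplicit false
set_option linter.unusedSectionVars false
set_option linter.unusedVariables false

/-! Counting conjugacy classes through a complete invariant. -/

namespace Cfsg.Agent.Lib.Helper6.ClassCount

/-- if `inv` is a complete conjugacy invariant on the elements satisfying `P`, with values
exactly the finset `S`, then the number of classes of such elements is `S.card` -/
theorem card_classes_eq {G : Type*} [Group G] (P : G → Prop) {J : Type*} [DecidableEq J]
    (inv : G → J) (S : Finset J)
    (hmem : ∀ g, P g → inv g ∈ S)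
    (hconj : ∀ g h, P g → P h → (IsConj g h ↔ inv g = inv h))
    (hsurj : ∀ i ∈ S, ∃ g, P g ∧ inv g = i) :
    Nat.card {C : ConjClasses G // ∃ g : G, ConjClasses.mk g = C ∧ P g} = S.card := by
  classical
  have hE : {C : ConjClasses G // ∃ g : G, ConjClasses.mk g = C ∧ P g} ≃ ↥S := by
    refine Equiv.ofBijective (fun C => ⟨inv (Classical.choose C.2),
      hmem _ (Classical.choose_spec C.2).2⟩) ⟨?_, ?_⟩
    · intro C C' h
      have h1 := Classical.choose_spec C.2
      have h2 := Classical.choose_spec C'.2
      have h3 : inv (Classical.choose C.2) = inv (Classical.choose C'.2) :=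
        congrArg Subtype.val h
      have h4 := (hconj _ _ h1.2 h2.2).mpr h3
      apply Subtype.ext
      rw [← h1.1, ← h2.1]
      exact ConjClasses.mk_eq_mk_iff_isConj.mpr h4
    · rintro ⟨i, hi⟩
      obtain ⟨g, hg, hgi⟩ := hsurj i hi
      refine ⟨⟨ConjClasses.mk g, g, rfl, hg⟩, ?_⟩
      apply Subtype.ext
      show inv (Classical.choose _) = i
      set C : {C : ConjClasses G // ∃ g : G, ConjClasses.mk g = C ∧ P g} :=
        ⟨ConjClasses.mk g, g, rfl, hg⟩ with hC
      have h1 := Classical.choose_spec C.2
      have h4 : IsConj (Classical.choose C.2) g := ConjClasses.mk_eq_mk_iff_isConj.mp h1.1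
      rw [(hconj _ _ h1.2 hg).mp h4, hgi]
  rw [Nat.card_congr hE, Nat.card_eq_fintype_card, Fintype.card_coe]

/-- the number of even numbers in `[1, m]` -/
theorem card_even_Icc (m : ℕ) : ((Finset.Icc 1 m).filter Even).card = m / 2 := by
  have h := Nat.Ioc_filter_dvd_card_eq_div m 2
  rw [← h]
  congr 1
  ext x
  simp only [Finset.mem_filter, Finset.mem_Icc, Finset.mem_Ioc, even_iff_two_dvd]
  omega

end Cfsg.Agent.Lib.Helper6.ClassCount
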