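import Mathlib
import Cfsg.Agent.Lib.Helper6.InvAbs

set_option autoImplicit false
set_option linter.unusedSectionVars false
set_option linter.unusedVariables false
set_option linter.unusedSimpArgs false

/-! Involutions preserving a nondegenerate alternating form in characteristic two: invariants of
normal forms and construction from isotropic families. -/

namespace Cfsg.Agent.Lib.Helper6.InvAbs

open Module

variable {F : Type*} [Field F] {V : Type*} [AddCommGroup V] [Module F V]
variable {f : LinearMap.BilinForm F V}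

/-- the map `x ↦ x + ∑ f(x, w (τ i)) w i` -/
noncomputable def famMap (f : LinearMap.BilinForm F V) {ι : Type*} [Fintype ι] (τ : ι → ι)
    (w : ι → V) : V →ₗ[F] V :=
  LinearMap.id + ∑ i, (f.flip (w (τ i))).smulRight (w i)

theorem famMap_apply {ι : Type*} [Fintype ι] (τ : ι → ι) (w : ι → V) (x : V) :
    famMap f τ w x = x + ∑ i, f x (w (τ i)) • w i := by
  unfold famMap
  simp only [LinearMap.add_apply, LinearMap.id_apply, LinearMap.sum_apply,
    LinearMap.smulRight_apply, LinearMap.BilinForm.flip_apply]

theorem famMap_sub {ι : Type*} [Fintype ι] (τ : ι → ι) (w : ι → V) (x : V) :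
    famMap f τ w x - x = ∑ i, f x (w (τ i)) • w i := by
  rw [famMap_apply]; abel

/-- the map built from a totally isotropic family is an involutory isometry -/
theorem inv_famMap [CharP F 2] (hAlt : ∀ x, f x x = 0) (hf : f.Nondegenerate)
    {ι : Type*} [Fintype ι] (τ : ι → ι) (hτ : ∀ i, τ (τ i) = i) (w : ι → V)
    (h0 : ∀ i j, f (w i) (w j) = 0) : Inv f (famMap f τ w) := by
  have h2 : (2 : F) = 0 := CharTwo.two_eq_zero
  have hsymm : ∀ x y, f x y = f y x := by
    intro x y
    have h1 := hAlt (x + y)
    simp only [map_add, LinearMap.add_apply, hAlt, zero_add, add_zero] at h1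
    have h3 : f x y = - f y x := eq_neg_of_add_eq_zero_right h1
    rw [h3, CharTwo.neg_eq]
  have hw : ∀ (x : V) (j : ι), f (famMap f τ w x) (w j) = f x (w j) := by
    intro x j
    rw [famMap_apply, map_add, LinearMap.add_apply, map_sum, LinearMap.sum_apply]
    have : ∑ i, f (f x (w (τ i)) • w i) (w j) = 0 := by
      apply Finset.sum_eq_zero
      intro i _
      rw [map_smul, LinearMap.smul_apply, h0, smul_zero]
    rw [this, add_zero]
  refine ⟨hAlt, hf, ?_, ?_⟩
  · intro x
    rw [famMap_apply (x := famMap f τ w x)]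
    simp only [hw]
    rw [famMap_apply, add_assoc]
    have : ∑ i, f x (w (τ i)) • w i + ∑ i, f x (w (τ i)) • w i = 0 := vec_add_self F _
    rw [this, add_zero]
  · intro x y
    rw [famMap_apply (x := y), map_add, map_sum, hsymm (famMap f τ w x) y]
    simp only [map_smul, smul_eq_mul]
    have e1 : ∀ i, f (famMap f τ w x) (w i) = f x (w i) := fun i => hw x i
    simp only [e1]
    rw [famMap_apply, map_add, map_sum, hsymm y x]
    simp only [map_smul, smul_eq_mul]
    have e2 : ∑ i, f x (w (τ i)) * f y (w i) = ∑ i, f y (w (τ i)) * f x (w i) := by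
      have h3 : ∑ i, f x (w (τ (τ i))) * f y (w (τ i)) = ∑ i, f x (w (τ i)) * f y (w i) :=
        Equiv.sum_comp (⟨τ, τ, hτ, hτ⟩ : ι ≃ ι) (fun i => f x (w (τ i)) * f y (w i))
      rw [← h3]
      apply Finset.sum_congr rfl
      intro i _
      rw [hτ]
      ring
    rw [e2]
    have e3 : ∑ i, f y (w (τ i)) * f x (w i) + ∑ i, f y (w (τ i)) * f x (w i) = 0 :=
      CharTwo.add_self_eq_zero _
    rw [add_assoc, e3, add_zero]

section invariants
variable [FiniteDimensional F V] {t : V →ₗ[F] V} {ι : Type*} [Fintype ι]

/-- a linearly independent totally isotropic family has at most half the dimension -/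
theorem card_le_of_isotropic (hf : f.Nondegenerate) (w : ι → V) (hli : LinearIndependent F w)
    (h0 : ∀ i j, f (w i) (w j) = 0) : 2 * Fintype.card ι ≤ finrank F V := by
  set W := Submodule.span F (Set.range w) with hW
  have h1 : finrank F W = Fintype.card ι := finrank_span_eq_card hli
  have h2 := LinearMap.BilinForm.finrank_orthogonal hf W
  have h3 : W ≤ f.orthogonal W := by
    rw [hW, Submodule.span_le]
    rintro _ ⟨i, rfl⟩
    rw [SetLike.mem_coe, LinearMap.BilinForm.mem_orthogonal_iff]
    intro n hn
    have : Submodule.span F (Set.range w) ≤ LinearMap.ker (f.flip (w i)) := by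
      rw [Submodule.span_le]
      rintro _ ⟨j, rfl⟩
      rw [SetLike.mem_coe, LinearMap.mem_ker, LinearMap.BilinForm.flip_apply]
      exact h0 j i
    have h4 := this hn
    rw [LinearMap.mem_ker, LinearMap.BilinForm.flip_apply] at h4
    exact h4
  have h5 := Submodule.finrank_mono h3
  have h6 : finrank F W ≤ finrank F V := Submodule.finrank_le W
  omega

/-- the rank of `t - 1` is the size of the family -/
theorem finrank_range_of_form (hf : f.Nondegenerate) (τ : ι → ι) (hτ : ∀ i, τ (τ i) = i)
    (w : ι → V) (hli : LinearIndependent F w)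
    (hN : ∀ x, t x - x = ∑ i, f x (w (τ i)) • w i) :
    finrank F (LinearMap.range (Nl t)) = Fintype.card ι := by
  set W := Submodule.span F (Set.range w) with hW
  have h1 : finrank F W = Fintype.card ι := finrank_span_eq_card hli
  have h2 := LinearMap.BilinForm.finrank_orthogonal hf W
  have h3 : LinearMap.ker (Nl t) = f.flip.orthogonal W := by
    ext x
    rw [LinearMap.mem_ker, Nl_apply, hN, LinearMap.BilinForm.mem_orthogonal_iff]
    constructor
    · intro hx
      have hc := Fintype.linearIndependent_iff.mp hli _ hx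
      intro n hn
      have : Submodule.span F (Set.range w) ≤ LinearMap.ker (f x) := by
        rw [Submodule.span_le]
        rintro _ ⟨j, rfl⟩
        rw [SetLike.mem_coe, LinearMap.mem_ker]
        have := hc (τ j)
        rw [hτ] at this
        exact this
      have h4 := this hn
      rw [LinearMap.mem_ker] at h4
      show f.flip n x = 0
      rw [LinearMap.BilinForm.flip_apply]
      exact h4
    · intro hx
      apply Finset.sum_eq_zero
      intro i _
      have : f.flip (w (τ i)) x = 0 := hx _ (Submodule.subset_span ⟨τ i, rfl⟩)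
      rw [LinearMap.BilinForm.flip_apply] at this
      rw [this, zero_smul]
  have hf' : f.flip.Nondegenerate := ⟨fun x hx => hf.2 x hx, fun x hx => hf.1 x hx⟩
  have h4 := LinearMap.BilinForm.finrank_orthogonal hf' W
  have h5 := LinearMap.finrank_range_add_finrank_ker (Nl t)
  rw [h3, h4] at h5
  have h6 : finrank F W ≤ finrank F V := Submodule.finrank_le W
  omega

end invariants

/-- `τ = id`: non-alternating type -/
theorem nonalt_of_form_id [CharP F 2] (hAlt : ∀ x, f x x = 0) (hf : f.Nondegenerate)
    {t : V →ₗ[F] V} {ι : Type*} [Fintype ι] [Nonempty ι]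
    (w : ι → V) (hli : LinearIndependent F w)
    (hN : ∀ x, t x - x = ∑ i, f x (w i) • w i) : ∃ v, f v (t v) ≠ 0 := by
  have hne : ∑ i, w i ≠ 0 := by
    intro h
    have h1 : ∑ i, (1 : F) • w i = 0 := by simpa using h
    have := Fintype.linearIndependent_iff.mp hli _ h1 (Classical.arbitrary ι)
    exact one_ne_zero this
  obtain ⟨v, hv⟩ : ∃ v, f v (∑ i, w i) ≠ 0 := by
    by_contra hcon
    push Not at hcon
    exact hne (hf.2 _ hcon)
  refine ⟨v, ?_⟩
  have e1 : t v = v + ∑ i, f v (w i) • w i := by rw [← hN]; abel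
  rw [e1, map_add, hAlt, zero_add, map_sum]
  simp only [map_smul, smul_eq_mul]
  have e2 : ∑ i, f v (w i) * f v (w i) = (∑ i, f v (w i)) ^ 2 := by
    rw [sum_pow_char 2]
    apply Finset.sum_congr rfl
    intro i _
    ring
  rw [e2, ← map_sum]
  exact pow_ne_zero 2 hv

/-- `τ = swap`: alternating type -/
theorem alt_of_form_swap [CharP F 2] (hAlt : ∀ x, f x x = 0)
    {t : V →ₗ[F] V} {κ : Type*} [Fintype κ]
    (w : κ ⊕ κ → V)
    (hN : ∀ x, t x - x = ∑ i, f x (w (Sum.swap i)) • w i) (v : V) : f v (t v) = 0 := by
  have e1 : t v = v + ∑ i, f v (w (Sum.swap i)) • w i := by rw [← hN]; abel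
  rw [e1, map_add, hAlt, zero_add, map_sum, Fintype.sum_sum_type]
  simp only [map_smul, smul_eq_mul, Sum.swap_inl, Sum.swap_inr]
  have : ∑ x, f v (w (Sum.inl x)) * f v (w (Sum.inr x)) =
      ∑ x, f v (w (Sum.inr x)) * f v (w (Sum.inl x)) :=
    Finset.sum_congr rfl (fun i _ => mul_comm _ _)
  rw [this]
  exact CharTwo.add_self_eq_zero _

end Cfsg.Agent.Lib.Helper6.InvAbs
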