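import Mathlib
import Cfsg.Prelude
import Cfsg.Agent.Lib.Helper6.OrthInv2

set_option autoImplicit false
set_option linter.unusedSectionVars false
set_option linter.unusedVariables false
set_option linter.unusedSimpArgs false
open Cfsg

/-! Involutions of orthogonal groups in characteristic two: membership in `Ω`. -/

namespace Cfsg.Agent.Lib.Helper6.OrthInv2

open Matrix QuadraticMap Module Cfsg.Agent.Lib.Helper5 Cfsg.Agent.Lib.Helper5.CartanDieudonne
  Cfsg.Agent.Lib.Helper5.Refl Cfsg.Agent.Lib.Helper5.OrthCard Cfsg.Agent.Lib.Helper5.SpinorNorm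

variable {ι : Type} [Fintype ι] [DecidableEq ι] {F : Type*} [Field F]
  (Q : QuadraticForm F (ι → F))

/-- action of a product of isometries `1 + M j` with `M i ∘ M j = 0` -/
theorem act_prod_ofFn : ∀ (n : ℕ) (p : Fin n → ↥(isometryGroup F ⇑Q))
    (M : Fin n → ((ι → F) →ₗ[F] (ι → F)))
    (hp : ∀ j x, act Q (p j) x = x + M j x) (hM : ∀ i j x, M i (M j x) = 0) (x : ι → F),
    act Q (List.ofFn p).prod x = x + ∑ j, M j x := by
  intro n
  induction n with
  | zero =>
    intro p M hp hM x
    rw [List.ofFn_zero, List.prod_nil, act_one', Finset.univ_eq_empty, Finset.sum_empty, add_zero]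
  | succ n ih =>
    intro p M hp hM x
    rw [List.ofFn_succ, List.prod_cons, act_mul,
      ih (fun i => p i.succ) (fun i => M i.succ) (fun j x => hp _ x) (fun i j x => hM _ _ x) x,
      hp, map_add, map_sum, Fin.sum_univ_succ]
    have h0 : ∑ i : Fin n, M 0 (M i.succ x) = 0 :=
      Finset.sum_eq_zero (fun i _ => hM _ _ x)
    rw [h0, add_zero]
    abel

theorem sub_eq_add_char2 [CharP F 2] (x y : ι → F) : x - y = x + y := by
  have : y + y = 0 := InvAbs.vec_add_self F y
  calc x - y = x - y + (y + y) := by rw [this, add_zero]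
    _ = x + y := by abel

theorem rank_eq (t : ↥(isometryGroup F ⇑Q)) :
    (((t : Matrix.GeneralLinearGroup ι F) : Matrix ι ι F) - 1).rank =
      finrank F (LinearMap.range (InvAbs.Nl (tL Q t))) := by
  unfold Matrix.rank InvAbs.Nl tL
  have h : (((t : Matrix.GeneralLinearGroup ι F) : Matrix ι ι F) - 1).mulVecLin =
      Matrix.mulVecLin ((t : Matrix.GeneralLinearGroup ι F) : Matrix ι ι F) - LinearMap.id := by
    apply LinearMap.ext
    intro x
    simp only [Matrix.mulVecLin_apply, LinearMap.sub_apply, LinearMap.id_apply, Matrix.sub_mulVec,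
      Matrix.one_mulVec]
  rw [h]

/-- type B: `t` is a product of `r` reflections -/
theorem isRep_of_normalB [Fintype F] [CharP F 2] (t : ↥(isometryGroup F ⇑Q)) {n : ℕ}
    (w : Fin n → (ι → F)) (h0 : ∀ i j, polar ⇑Q (w i) (w j) = 0)
    (hN : ∀ x, act Q t x - x = ∑ i, polar ⇑Q x (w i) • w i) (hq : ∀ i, Q (w i) = 1) :
    IsRep Q t (List.ofFn w) := by
  have hvs : ∀ v ∈ List.ofFn w, Q v ≠ 0 := by
    intro v hv
    rw [List.mem_ofFn] at hv
    obtain ⟨i, rfl⟩ := hv
    rw [hq]
    exact one_ne_zero
  have hprod : t = (List.ofFn (fun j => reflE Q (w j))).prod := by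
    apply ext_act'
    intro x
    rw [act_prod_ofFn Q n (fun j => reflE Q (w j))
      (fun j => (polarBilin Q (w j)).smulRight (w j))
      (fun j x => by
        have hne : Q (w j) ≠ 0 := by rw [hq]; exact one_ne_zero
        rw [reflE_of_ne Q (w j) hne, act_reflection, hq, inv_one, one_mul,
          LinearMap.smulRight_apply, polarBilin_apply_apply, sub_eq_add_char2])
      (fun i j x => by
        simp only [LinearMap.smulRight_apply, polarBilin_apply_apply, polar_smul_right, h0,
          smul_zero, zero_smul])]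
    have h1 : act Q t x = x + ∑ i, polar ⇑Q x (w i) • w i := by
      rw [← hN]; abel
    rw [h1]
    congr 1
    apply Finset.sum_congr rfl
    intro i _
    rw [LinearMap.smulRight_apply, polarBilin_apply_apply, polar_comm]
  refine ⟨hvs, ?_⟩
  rw [← coe_prod_reflE Q _ hvs, List.map_ofFn]
  conv_lhs => rw [hprod]
  rfl

/-- type A: `t` is a product of long root elements, hence lies in `Ω` -/
theorem mem_Omega_of_normalA [Fintype F] [CharP F 2] (hQ : (polarBilin Q).Nondegenerate)
    (h7 : 7 ≤ Fintype.card ι) (t : ↥(isometryGroup F ⇑Q)) {k : ℕ}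
    (w : Fin k ⊕ Fin k → (ι → F)) (h0 : ∀ i j, polar ⇑Q (w i) (w j) = 0)
    (hN : ∀ x, act Q t x - x = ∑ i, polar ⇑Q x (w (Sum.swap i)) • w i)
    (hq : ∀ i, Q (w i) = 0) : t ∈ Omega F ⇑Q := by
  have H := OrthBridge.hyp_of_nondeg hQ h7
  set p : Fin k → ↥(isometryGroup F ⇑Q) := fun j =>
    Siegel.siegel Q (w (Sum.inl j)) (w (Sum.inr j)) (hq _) (hq _) (h0 _ _) 1 with hp
  have hprod : t = (List.ofFn p).prod := by
    apply ext_act'
    intro x
    rw [act_prod_ofFn Q k p
      (fun j => (polarBilin Q (w (Sum.inl j))).smulRight (w (Sum.inr j)) -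
        (polarBilin Q (w (Sum.inr j))).smulRight (w (Sum.inl j)))
      (fun j x => by
        rw [hp]
        simp only []
        rw [Siegel.act_siegel, one_mul, one_mul, LinearMap.sub_apply, LinearMap.smulRight_apply,
          LinearMap.smulRight_apply, polarBilin_apply_apply, polarBilin_apply_apply,
          add_sub_assoc])
      (fun i j x => by
        simp only [LinearMap.sub_apply, LinearMap.smulRight_apply, polarBilin_apply_apply,
          polar_sub_right, polar_smul_right, h0, smul_zero, zero_smul, sub_zero])]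
    have h1 : act Q t x = x + ∑ i, polar ⇑Q x (w (Sum.swap i)) • w i := by
      rw [← hN]; abel
    rw [h1, Fintype.sum_sum_type]
    congr 1
    simp only [Sum.swap_inl, Sum.swap_inr, LinearMap.sub_apply, LinearMap.smulRight_apply,
      polarBilin_apply_apply]
    rw [Finset.sum_sub_distrib, sub_eq_add_char2, add_comm]
    congr 1
    · apply Finset.sum_congr rfl
      intro i _
      rw [polar_comm]
    · apply Finset.sum_congr rfl
      intro i _
      rw [polar_comm]
  rw [hprod]
  apply Subgroup.list_prod_mem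
  intro g hg
  rw [List.mem_ofFn] at hg
  obtain ⟨j, rfl⟩ := hg
  exact H.siegel_mem _ _ _ _ _ _

/-- **An involution of the orthogonal group in characteristic two lies in `Ω` iff `t - 1` has
even rank.** -/
theorem mem_Omega_iff_even [Fintype F] [CharP F 2] (hQ : (polarBilin Q).Nondegenerate)
    (h7 : 7 ≤ Fintype.card ι) (t : ↥(isometryGroup F ⇑Q)) (ht : t * t = 1) :
    t ∈ Omega F ⇑Q ↔ Even (finrank F (LinearMap.range (InvAbs.Nl (tL Q t)))) := by
  by_cases hA : ∀ v, polar ⇑Q v (act Q t v) = 0
  · obtain ⟨k, w, hk, hli, h0, hN, hq⟩ := normalA Q hQ t ht hA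
    constructor
    · intro _
      exact ⟨k, hk.symm⟩
    · intro _
      exact mem_Omega_of_normalA Q hQ h7 t w h0 hN hq
  · push Not at hA
    obtain ⟨w, hli, h0, hN, hq⟩ := normalB Q hQ t ht hA
    have hrep := isRep_of_normalB Q t w h0 hN hq
    have h2 : (2 : F) = 0 := CharTwo.two_eq_zero
    rw [OmegaCrit.mem_Omega_iff Q hQ (fun h => by omega) (by omega) t _ hrep, List.length_ofFn]
    exact ⟨fun h => h.1, fun h => ⟨h, OmegaCrit.isSquare_of_two_eq_zero h2 _⟩⟩

/-- the statement form -/
theorem mem_Omega_iff_even_rank [Fintype F] [CharP F 2] (Q₀ : (ι → F) → F) (hQQ : ⇑Q = Q₀)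
    (hQ : (polarBilin Q).Nondegenerate) (h7 : 7 ≤ Fintype.card ι)
    (t : ↥(isometryGroup F Q₀)) (ht : orderOf t = 2) :
    t ∈ Cfsg.Omega F Q₀ ↔
      Even (((t : Matrix.GeneralLinearGroup ι F) : Matrix ι ι F) - 1).rank := by
  subst hQQ
  have ht' : t * t = 1 := by
    have := pow_orderOf_eq_one t
    rw [ht, pow_two] at this
    exact this
  rw [rank_eq]
  exact mem_Omega_iff_even Q hQ h7 t ht'

end Cfsg.Agent.Lib.Helper6.OrthInv2
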