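import Mathlib
import Cfsg.Prelude
import Cfsg.Agent.Lib.Helper6.OrthInv2b
import Cfsg.Agent.Lib.Helper5.SpinorHyp2
import Cfsg.Agent.Lib.Helper5.PlusGeom

set_option autoImplicit false
set_option linter.unusedSectionVars false
set_option linter.unusedVariables false
set_option linter.unusedSimpArgs false
open Cfsg

/-! Involutions of orthogonal groups in characteristic two: splitting of classes in `Ω`. -/

namespace Cfsg.Agent.Lib.Helper6.OrthInv2

open Matrix QuadraticMap Module Cfsg.Agent.Lib.Helper5 Cfsg.Agent.Lib.Helper5.CartanDieudonne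
  Cfsg.Agent.Lib.Helper5.Refl Cfsg.Agent.Lib.Helper5.OrthCard Cfsg.Agent.Lib.Helper5.SpinorNorm
  Cfsg.Agent.Lib.Helper5.MaxTS Cfsg.Agent.Lib.Helper5.OrthParity

variable {ι : Type} [Fintype ι] [DecidableEq ι] {F : Type*} [Field F]
  (Q : QuadraticForm F (ι → F))

/-- if a reflection centralises `t`, then conjugacy in `O` implies conjugacy under `Ω` -/
theorem conj_Omega_of_fixed [Fintype F] [CharP F 2] (hQ : (polarBilin Q).Nondegenerate)
    (h7 : 7 ≤ Fintype.card ι) (t s h : ↥(isometryGroup F ⇑Q)) (hts : h * t * h⁻¹ = s)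
    (u : ι → F) (hu : Q u ≠ 0) (htu : act Q t u = u) :
    ∃ g ∈ Omega F ⇑Q, g * t * g⁻¹ = s := by
  have h2 : (2 : F) = 0 := CharTwo.two_eq_zero
  have hex : Fintype.card ι = 4 → ∃ a : F, a ≠ 0 ∧ a ≠ 1 := fun h => by omega
  have hgen := Cfsg.Agent.Lib.Helper5.ReflGenMat.reflSubgroup_eq_top Q hQ hex
  have hconj : ∀ (v : ι → F) (hv : Q v ≠ 0), ∃ c : ↥(isometryGroup F ⇑Q),
      c * reflection Q v hv * c⁻¹ = reflection Q u hu := fun v hv =>
    exists_conj_reflection Q hQ v u hv hu (OmegaCrit.isSquare_of_two_eq_zero h2 _)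
  rcases OrthIndexTwo.mem_or_mul_mem Q hgen u hu hconj h with h1 | h1
  · exact ⟨h, h1, hts⟩
  · refine ⟨h * reflection Q u hu, h1, ?_⟩
    have h3 : t * reflection Q u hu * t⁻¹ = reflection Q u hu := by
      rw [conj_reflection]
      exact OmegaGen.reflection_congr Q htu _ _
    have h4 : reflection Q u hu * t * (reflection Q u hu)⁻¹ = t := by
      have h5 : t * reflection Q u hu = reflection Q u hu * t := by
        calc t * reflection Q u hu = (t * reflection Q u hu * t⁻¹) * t := by group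
          _ = reflection Q u hu * t := by rw [h3]
      calc reflection Q u hu * t * (reflection Q u hu)⁻¹
          = (reflection Q u hu * t) * (reflection Q u hu)⁻¹ := rfl
        _ = (t * reflection Q u hu) * (reflection Q u hu)⁻¹ := by rw [h5]
        _ = t := by group
    calc h * reflection Q u hu * t * (h * reflection Q u hu)⁻¹
        = h * (reflection Q u hu * t * (reflection Q u hu)⁻¹) * h⁻¹ := by group
      _ = s := by rw [h4, hts]

/-- type B: a centralising nonsingular vector -/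
theorem exists_fixed_of_typeB [CharP F 2] (t : ↥(isometryGroup F ⇑Q)) (ht : t * t = 1)
    (hna : ∃ v, polar ⇑Q v (act Q t v) ≠ 0) : ∃ u, Q u ≠ 0 ∧ act Q t u = u := by
  obtain ⟨v, hv⟩ := hna
  refine ⟨act Q t v - v, ?_, ?_⟩
  · rw [quad_N]; exact hv
  · rw [Siegel.act_sub, ← act_mul, ht, act_one', sub_eq_add_char2, sub_eq_add_char2, add_comm]

/-- type A: either a nonsingular fixed vector, or `t - 1` has rank half the dimension -/
theorem typeA_dichotomy [CharP F 2] (hQ : (polarBilin Q).Nondegenerate) (m : ℕ)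
    (hV : finrank F (ι → F) = 2 * m) (t : ↥(isometryGroup F ⇑Q)) (ht : t * t = 1) :
    (∃ u, Q u ≠ 0 ∧ act Q t u = u) ∨ finrank F (LinearMap.range (InvAbs.Nl (tL Q t))) = m := by
  by_cases hex : ∃ u, Q u ≠ 0 ∧ act Q t u = u
  · exact Or.inl hex
  right
  push Not at hex
  have hK : ∀ u ∈ LinearMap.ker (InvAbs.Nl (tL Q t)), Q u = 0 := by
    intro u hu
    rw [LinearMap.mem_ker, InvAbs.Nl_apply, tL_apply, sub_eq_zero] at hu
    by_contra hne
    exact hex u hne hu
  have h1 := finrank_le_of_ts Q hQ m hV _ hK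
  have h2 := LinearMap.finrank_range_add_finrank_ker (InvAbs.Nl (tL Q t))
  have h3 : LinearMap.range (InvAbs.Nl (tL Q t)) ≤ LinearMap.ker (InvAbs.Nl (tL Q t)) := by
    rintro _ ⟨x, rfl⟩
    rw [LinearMap.mem_ker]
    exact InvAbs.N_N (inv_tL Q hQ t ht) x
  have h4 := Submodule.finrank_mono h3
  omega

section witt_index
variable {κ₀ : Type} [Fintype κ₀] [DecidableEq κ₀] (Q₀ : QuadraticForm F (κ₀ → F))

/-- the Witt index of `k` hyperbolic planes plus an anisotropic form is `k` -/
theorem finrank_ts_le_genForm (k : ℕ) (han : ∀ z, Q₀ z = 0 → z = 0)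
    (hQ : (polarBilin (genForm Q₀ k)).Nondegenerate)
    (U : Submodule F ((Fin k ⊕ Fin k) ⊕ κ₀ → F))
    (hU : ∀ u ∈ U, genForm Q₀ k u = 0) : finrank F U ≤ k := by
  classical
  by_contra hlt
  push Not at hlt
  have hlt' : k + 1 ≤ finrank F U := hlt
  let b := Module.finBasis F U
  set u : Fin (k + 1) → ((Fin k ⊕ Fin k) ⊕ κ₀ → F) :=
    fun i => ((b (Fin.castLE hlt' i) : U) : (Fin k ⊕ Fin k) ⊕ κ₀ → F) with hu
  have hu_mem : ∀ i, u i ∈ U := fun i => (b _).2
  have hli : LinearIndependent F u := by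
    have h1 : LinearIndependent F (fun i : Fin (k + 1) => b (Fin.castLE hlt' i)) :=
      b.linearIndependent.comp _ (Fin.castLE_injective hlt')
    exact h1.map' U.subtype (Submodule.ker_subtype U)
  set x : Fin k → ((Fin k ⊕ Fin k) ⊕ κ₀ → F) := fun i => u (Fin.castSucc i) with hx
  set y : Fin k → ((Fin k ⊕ Fin k) ⊕ κ₀ → F) :=
    fun i => Pi.single (Sum.inl (Sum.inl i)) 1 with hy
  have hxli : LinearIndependent F x := hli.comp _ (Fin.castSucc_injective k)
  have hyli : LinearIndependent F y := by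
    have h1 := (Pi.basisFun F ((Fin k ⊕ Fin k) ⊕ κ₀)).linearIndependent
    have h2 := h1.comp (fun i : Fin k => (Sum.inl (Sum.inl i) : (Fin k ⊕ Fin k) ⊕ κ₀))
      (fun a b h => Sum.inl_injective (Sum.inl_injective h))
    convert h2 using 1
    funext i
    simp [hy, Pi.basisFun_apply]
  obtain ⟨g, hg, hgx⟩ := QuadIsom.witt_family (genForm Q₀ k) hQ k x y hxli hyli
    (fun i => by
      rw [hU _ (hu_mem _)]
      exact (SpinorHyp2.genForm_single_ll Q₀ k i).symm)
    (fun i j => by
      rw [PlusGeom.polar_eq_zero_of_ts (genForm Q₀ k) U hU (hu_mem _) (hu_mem _)]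
      show 0 = polar (genForm Q₀ k) (Pi.single (Sum.inl (Sum.inl i)) 1)
        (Pi.single (Sum.inl (Sum.inl j)) 1)
      rw [SpinorHyp2.polar_genForm_single_ll]
      simp)
  have hgp := QuadIsom.polar_of_isom (genForm Q₀ k) (g : _ →ₗ[F] _) hg
  set v := g (u (Fin.last k)) with hv
  have hv0 : genForm Q₀ k v = 0 := by rw [hv, hg]; exact hU _ (hu_mem _)
  have hvy : ∀ i, v (Sum.inl (Sum.inr i)) = 0 := by
    intro i
    rw [← SpinorHyp2.polar_genForm_single_ll Q₀ k i v]
    have h1 : (Pi.single (Sum.inl (Sum.inl i)) 1 : (Fin k ⊕ Fin k) ⊕ κ₀ → F) = g (x i) :=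
      (hgx i).symm
    rw [h1, hv]
    have h2 := hgp (x i) (u (Fin.last k))
    rw [LinearEquiv.coe_coe] at h2
    rw [h2]
    exact PlusGeom.polar_eq_zero_of_ts (genForm Q₀ k) U hU (hu_mem _) (hu_mem _)
  have hvz : (fun z => v (Sum.inr z)) = 0 := by
    apply han
    have h1 := hv0
    rw [genForm_apply] at h1
    have h2 : ∑ i : Fin k, v (Sum.inl (Sum.inl i)) * v (Sum.inl (Sum.inr i)) = 0 :=
      Finset.sum_eq_zero (fun i _ => by rw [hvy, mul_zero])
    rw [h2, zero_add] at h1
    exact h1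
  have hvsum : v = ∑ i, v (Sum.inl (Sum.inl i)) • y i := by
    funext j
    rw [Finset.sum_apply]
    rcases j with (j | j) | j
    · simp only [hy, Pi.smul_apply, smul_eq_mul]
      rw [Finset.sum_eq_single j]
      · simp
      · intro i _ hij
        rw [Pi.single_apply, if_neg (by
          intro h; exact hij (Sum.inl_injective (Sum.inl_injective h)).symm), mul_zero]
      · intro h; exact absurd (Finset.mem_univ j) h
    · rw [hvy]
      symm
      apply Finset.sum_eq_zero
      intro i _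
      simp [hy]
    · have := congrFun hvz j
      simp only [Pi.zero_apply] at this
      rw [this]
      symm
      apply Finset.sum_eq_zero
      intro i _
      simp [hy]
  have hlast : u (Fin.last k) = ∑ i, v (Sum.inl (Sum.inl i)) • x i := by
    apply g.injective
    rw [map_sum]
    simp only [map_smul, hgx]
    exact hvsum
  have hrel : ∑ j, (Fin.snoc (fun i : Fin k => v (Sum.inl (Sum.inl i))) (-1) : Fin (k + 1) → F) j •
      u j = 0 := by
    rw [Fin.sum_univ_castSucc]
    simp only [Fin.snoc_castSucc, Fin.snoc_last]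
    rw [hlast]
    simp only [hx]
    rw [neg_smul, one_smul, add_neg_cancel]
  have h3 := Fintype.linearIndependent_iff.mp hli _ hrel (Fin.last k)
  rw [Fin.snoc_last] at h3
  exact one_ne_zero (neg_eq_zero.mp h3)

end witt_index

end Cfsg.Agent.Lib.Helper6.OrthInv2
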