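import Mathlib
import Cfsg.Prelude
import Cfsg.Agent.Lib.Helper6.OrthInv2c
import Cfsg.Agent.Lib.Helper6.OrthInv2Std

set_option autoImplicit false
set_option linter.unusedSectionVars false
set_option linter.unusedVariables false
set_option linter.unusedSimpArgs false
open Cfsg

/-! Involutions of orthogonal groups in characteristic two: splitting of classes in `Ω`
(statement forms). -/

namespace Cfsg.Agent.Lib.Helper6.OrthInv2

open Matrix QuadraticMap Module Cfsg.Agent.Lib.Helper5 Cfsg.Agent.Lib.Helper5.CartanDieudonne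
  Cfsg.Agent.Lib.Helper5.Refl Cfsg.Agent.Lib.Helper5.OrthCard Cfsg.Agent.Lib.Helper5.SpinorNorm
  Cfsg.Agent.Lib.Helper5.MaxTS Cfsg.Agent.Lib.Helper5.OrthParity

variable {ι : Type} [Fintype ι] [DecidableEq ι] {F : Type*} [Field F]
  (Q : QuadraticForm F (ι → F))

theorem quad_add_act [CharP F 2] (t : ↥(isometryGroup F ⇑Q)) (v : ι → F) :
    Q (v + act Q t v) = polar ⇑Q v (act Q t v) := by
  rw [← quad_N, sub_eq_add_char2, add_comm]

theorem range_toLin (t : ↥(isometryGroup F ⇑Q)) :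
    LinearMap.range (Matrix.toLin' (((t : Matrix.GeneralLinearGroup ι F) : Matrix ι ι F) - 1)) =
      LinearMap.range (InvAbs.Nl (tL Q t)) := by
  congr 1
  apply LinearMap.ext
  intro x
  rw [Matrix.toLin'_apply, InvAbs.Nl_apply, tL_apply, Matrix.sub_mulVec, Matrix.one_mulVec]

/-- no splitting when a nonsingular fixed vector always exists -/
theorem no_split_of_witt_lt [Fintype F] [CharP F 2] (hQ : (polarBilin Q).Nondegenerate)
    (h7 : 7 ≤ Fintype.card ι) (m : ℕ) (hV : finrank F (ι → F) = 2 * m)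
    (hwitt : ∀ U : Submodule F (ι → F), (∀ u ∈ U, Q u = 0) → finrank F U < m)
    (t s h : ↥(isometryGroup F ⇑Q)) (ht : t * t = 1) (hts : h * t * h⁻¹ = s) :
    ∃ g ∈ Omega F ⇑Q, g * t * g⁻¹ = s := by
  by_cases hA : ∀ v, polar ⇑Q v (act Q t v) = 0
  · rcases typeA_dichotomy Q hQ m hV t ht with ⟨u, hu, htu⟩ | hr
    · exact conj_Omega_of_fixed Q hQ h7 t s h hts u hu htu
    · exfalso
      have h1 := hwitt (LinearMap.range (InvAbs.Nl (tL Q t))) (by
        rintro _ ⟨v, rfl⟩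
        rw [InvAbs.Nl_apply, tL_apply, quad_N]
        exact hA v)
      omega
  · push Not at hA
    obtain ⟨u, hu, htu⟩ := exists_fixed_of_typeB Q t ht hA
    exact conj_Omega_of_fixed Q hQ h7 t s h hts u hu htu

/-- statement form -/
theorem no_split_statement [Fintype F] [CharP F 2] (Q₀ : (ι → F) → F) (hQQ : ⇑Q = Q₀)
    (hQ : (polarBilin Q).Nondegenerate)
    (h7 : 7 ≤ Fintype.card ι) (m : ℕ) (hV : finrank F (ι → F) = 2 * m)
    (hwitt : ∀ U : Submodule F (ι → F), (∀ u ∈ U, Q u = 0) → finrank F U < m)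
    (t s : ↥(isometryGroup F Q₀)) (ht : orderOf t = 2) (hconj : IsConj t s) :
    ∃ g ∈ Cfsg.Omega F Q₀, g * t * g⁻¹ = s := by
  subst hQQ
  have ht' : t * t = 1 := by
    have := pow_orderOf_eq_one t
    rw [ht, pow_two] at this
    exact this
  obtain ⟨h, hts⟩ := isConj_iff.mp hconj
  exact no_split_of_witt_lt Q hQ h7 m hV hwitt t s h ht' hts

theorem range_conj (t s g : ↥(isometryGroup F ⇑Q)) (hts : g * t * g⁻¹ = s) :
    LinearMap.range (InvAbs.Nl (tL Q s)) = img Q g (LinearMap.range (InvAbs.Nl (tL Q t))) := by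
  ext y
  rw [mem_img]
  constructor
  · rintro ⟨x, rfl⟩
    refine ⟨InvAbs.Nl (tL Q t) (act Q g⁻¹ x), LinearMap.mem_range_self _ _, ?_⟩
    rw [InvAbs.Nl_apply, InvAbs.Nl_apply, tL_apply, tL_apply, Siegel.act_sub, act_act_inv', ← hts,
      act_mul, act_mul]
  · rintro ⟨u, ⟨x, rfl⟩, rfl⟩
    refine ⟨act Q g x, ?_⟩
    rw [InvAbs.Nl_apply, InvAbs.Nl_apply, tL_apply, tL_apply, Siegel.act_sub, ← hts, act_mul,
      act_mul, act_inv_act']

/-- first half: no splitting outside the exceptional case -/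
theorem split_part1 [Fintype F] [CharP F 2] (hQ : (polarBilin Q).Nondegenerate)
    (h7 : 7 ≤ Fintype.card ι) (m : ℕ) (hV : finrank F (ι → F) = 2 * m)
    (t s h : ↥(isometryGroup F ⇑Q)) (ht : t * t = 1) (hts : h * t * h⁻¹ = s)
    (hnot : ¬ (finrank F (LinearMap.range (InvAbs.Nl (tL Q t))) = m ∧
      ∀ v, polar ⇑Q v (act Q t v) = 0)) :
    ∃ g ∈ Omega F ⇑Q, g * t * g⁻¹ = s := by
  by_cases hA : ∀ v, polar ⇑Q v (act Q t v) = 0
  · rcases typeA_dichotomy Q hQ m hV t ht with ⟨u, hu, htu⟩ | hr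
    · exact conj_Omega_of_fixed Q hQ h7 t s h hts u hu htu
    · exact absurd ⟨hr, hA⟩ hnot
  · push Not at hA
    obtain ⟨u, hu, htu⟩ := exists_fixed_of_typeB Q t ht hA
    exact conj_Omega_of_fixed Q hQ h7 t s h hts u hu htu

/-- second half: the exceptional case -/
theorem split_part2 [Fintype F] [CharP F 2] (hQ : (polarBilin Q).Nondegenerate)
    (h7 : 7 ≤ Fintype.card ι) (m : ℕ) (hV : finrank F (ι → F) = 2 * m)
    (t s h : ↥(isometryGroup F ⇑Q)) (ht : t * t = 1) (hts : h * t * h⁻¹ = s)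
    (htO : t ∈ Omega F ⇑Q)
    (hr : finrank F (LinearMap.range (InvAbs.Nl (tL Q t))) = m)
    (hA : ∀ v, polar ⇑Q v (act Q t v) = 0) :
    (∃ g ∈ Omega F ⇑Q, g * t * g⁻¹ = s) ↔
      Even (finrank F ↥(LinearMap.range (InvAbs.Nl (tL Q t)) ⊓
        LinearMap.range (InvAbs.Nl (tL Q s)))) := by
  have h2 : (2 : F) = 0 := CharTwo.two_eq_zero
  have hex : Fintype.card ι = 4 → ∃ a : F, a ≠ 0 ∧ a ≠ 1 := fun h => by omega
  set W := LinearMap.range (InvAbs.Nl (tL Q t)) with hW
  have hMax : IsMaxTS Q m W := by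
    refine ⟨hr, ?_⟩
    rintro _ ⟨v, rfl⟩
    rw [InvAbs.Nl_apply, tL_apply, quad_N]
    exact hA v
  have hm : Even m := by
    rw [← hr]
    exact (mem_Omega_iff_even Q hQ h7 t ht).mp htO
  have hd : ∀ X : Submodule F (ι → F), finrank F ↥(W ⊓ X) ≤ m := by
    intro X
    rw [← hr]
    exact Submodule.finrank_mono inf_le_left
  constructor
  · rintro ⟨g, hg, hgts⟩
    rw [range_conj Q t s g hgts]
    have h1 := even_of_mem_Omega Q hQ m hV W hMax g hg
    rw [Nat.even_sub (hd _)] at h1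
    exact h1.mp hm
  · intro hev
    rw [range_conj Q t s h hts] at hev
    obtain ⟨vs, hrep⟩ := Dickson.exists_rep' Q hQ hex h
    have h1 := ClassParity.even_dist_iff Q hQ m hV W hMax h vs hrep
    have h3 : Even (m - finrank F ↥(W ⊓ img Q h W)) := by
      rw [Nat.even_sub (hd _)]
      exact ⟨fun _ => hev, fun _ => hm⟩
    have h4 := h1.mp h3
    refine ⟨h, ?_, hts⟩
    rw [OmegaCrit.mem_Omega_iff Q hQ hex (by omega) h vs hrep]
    exact ⟨h4, OmegaCrit.isSquare_of_two_eq_zero h2 _⟩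

/-- statement form of the splitting theorem -/
theorem split_statement [Fintype F] [CharP F 2] (Q₀ : (ι → F) → F) (hQQ : ⇑Q = Q₀)
    (hQ : (polarBilin Q).Nondegenerate)
    (h7 : 7 ≤ Fintype.card ι) (m : ℕ) (hV : finrank F (ι → F) = 2 * m)
    (t s : ↥(isometryGroup F Q₀)) (ht : orderOf t = 2)
    (htO : t ∈ Cfsg.Omega F Q₀) (hconj : IsConj t s) :
    (¬ ((((t : Matrix.GeneralLinearGroup ι F) : Matrix ι ι F) - 1).rank = m ∧
        ∀ v : ι → F, Q₀ (v + Matrix.mulVec ((t : Matrix.GeneralLinearGroup ι F) : Matrix ι ι F) v) = 0) →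
      ∃ g ∈ Cfsg.Omega F Q₀, g * t * g⁻¹ = s) ∧
    (((((t : Matrix.GeneralLinearGroup ι F) : Matrix ι ι F) - 1).rank = m ∧
        ∀ v : ι → F, Q₀ (v + Matrix.mulVec ((t : Matrix.GeneralLinearGroup ι F) : Matrix ι ι F) v) = 0) →
      ((∃ g ∈ Cfsg.Omega F Q₀, g * t * g⁻¹ = s) ↔
        Even (finrank F ↥(LinearMap.range (Matrix.toLin'
          (((t : Matrix.GeneralLinearGroup ι F) : Matrix ι ι F) - 1)) ⊓
          LinearMap.range (Matrix.toLin'
          (((s : Matrix.GeneralLinearGroup ι F) : Matrix ι ι F) - 1)))))) := by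
  subst hQQ
  have ht' : t * t = 1 := by
    have := pow_orderOf_eq_one t
    rw [ht, pow_two] at this
    exact this
  obtain ⟨h, hts⟩ := isConj_iff.mp hconj
  constructor
  · intro hnot
    apply split_part1 Q hQ h7 m hV t s h ht' hts
    rintro ⟨hr, hA⟩
    apply hnot
    refine ⟨by rw [rank_eq]; exact hr, fun v => ?_⟩
    have := quad_add_act Q t v
    rw [hA v] at this
    exact this
  · rintro ⟨hr, hA⟩
    rw [range_toLin, range_toLin]
    apply split_part2 Q hQ h7 m hV t s h ht' hts htO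
    · rw [← rank_eq]; exact hr
    · intro v
      rw [← quad_add_act]
      exact hA v

end Cfsg.Agent.Lib.Helper6.OrthInv2
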