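import Mathlib
import Cfsg.Prelude
import Cfsg.Agent.Lib.Helper6.OrthInv2d
import Cfsg.Agent.Lib.Helper6.InvAbs2
import Cfsg.Agent.Lib.Helper6.ClassCountB

set_option autoImplicit false
set_option linter.unusedSectionVars false
set_option linter.unusedVariables false
set_option linter.unusedSimpArgs false
open Cfsg

/-! The number of classes of involutions of an orthogonal group in characteristic two. -/

namespace Cfsg.Agent.Lib.Helper6.OrthInv2

open Matrix QuadraticMap Module Cfsg.Agent.Lib.Helper5 Cfsg.Agent.Lib.Helper5.CartanDieudonne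
  Cfsg.Agent.Lib.Helper5.Refl Cfsg.Agent.Lib.Helper5.OrthCard Cfsg.Agent.Lib.Helper5.SpinorNorm
  Cfsg.Agent.Lib.Helper5.MaxTS Cfsg.Agent.Lib.Helper5.OrthParity

variable {ι : Type} [Fintype ι] [DecidableEq ι] {F : Type*} [Field F]
  (Q : QuadraticForm F (ι → F))

/-- alternating type -/
def TypeA (t : ↥(isometryGroup F ⇑Q)) : Prop := ∀ v, polar ⇑Q v (act Q t v) = 0

theorem typeA_conj (t s c : ↥(isometryGroup F ⇑Q)) (hc : c * t * c⁻¹ = s) (h : TypeA Q t) :
    TypeA Q s := by
  intro v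
  have h1 := h (act Q c⁻¹ v)
  rw [← polar_act Q c, act_act_inv', ← act_mul, ← act_mul] at h1
  rw [← hc]
  exact h1

theorem conj_iff_inv [Fintype F] [CharP F 2] (hQ : (polarBilin Q).Nondegenerate)
    (t s : ↥(isometryGroup F ⇑Q)) (ht : t * t = 1) (hs : s * s = 1) :
    IsConj t s ↔ finrank F (LinearMap.range (InvAbs.Nl (tL Q t))) =
        finrank F (LinearMap.range (InvAbs.Nl (tL Q s))) ∧ (TypeA Q t ↔ TypeA Q s) := by
  constructor
  · intro h
    obtain ⟨c, hc⟩ := isConj_iff.mp h
    refine ⟨?_, typeA_conj Q t s c hc, ?_⟩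
    · rw [range_conj Q t s c hc, finrank_img]
    · apply typeA_conj Q s t c⁻¹
      rw [← hc]
      group
  · rintro ⟨hr, htype⟩
    obtain ⟨g, hg⟩ := conj_of_same_type Q hQ t s ht hs hr htype
    exact isConj_iff.mpr ⟨g, hg⟩

omit [Fintype ι] [DecidableEq ι] in
/-- the value of `Q` on a combination of pairwise orthogonal vectors -/
theorem quad_sum_orth {κ : Type*} (s : Finset κ) (w : κ → (ι → F)) (a : κ → F)
    (h0 : ∀ i j, polar ⇑Q (w i) (w j) = 0) :
    Q (∑ i ∈ s, a i • w i) = ∑ i ∈ s, a i * a i * Q (w i) := by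
  classical
  induction s using Finset.induction_on with
  | empty => simp
  | insert j s hj ih =>
    rw [Finset.sum_insert hj, Finset.sum_insert hj]
    have h1 : Q (a j • w j + ∑ i ∈ s, a i • w i) =
        Q (a j • w j) + Q (∑ i ∈ s, a i • w i) + polar ⇑Q (a j • w j) (∑ i ∈ s, a i • w i) := by
      unfold polar; ring
    have h2 : polar ⇑Q (a j • w j) (∑ i ∈ s, a i • w i) = 0 := by
      have := map_sum (polarBilin Q (a j • w j)) (fun i => a i • w i) s
      rw [polarBilin_apply_apply] at this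
      rw [this]
      apply Finset.sum_eq_zero
      intro i _
      rw [polarBilin_apply_apply, polar_smul_left, polar_smul_right, h0, smul_zero, smul_zero]
    rw [h1, h2, add_zero, ih, QuadraticMap.map_smul, smul_eq_mul]

theorem polar_sum_right' {κ : Type*} (s : Finset κ) (w : κ → (ι → F)) (a : κ → F) (x : ι → F) :
    polar ⇑Q x (∑ i ∈ s, a i • w i) = ∑ i ∈ s, a i * polar ⇑Q x (w i) := by
  have := map_sum (polarBilin Q x) (fun i => a i • w i) s
  rw [polarBilin_apply_apply] at this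
  rw [this]
  apply Finset.sum_congr rfl
  intro i _
  rw [polarBilin_apply_apply, polar_smul_right, smul_eq_mul]

/-- an isometry from a linear involution preserving `Q` -/
theorem exists_of_map [CharP F 2] (T : (ι → F) →ₗ[F] (ι → F)) (hsq : ∀ x, T (T x) = x)
    (hT : ∀ x, Q (T x) = Q x) :
    ∃ A : ↥(isometryGroup F ⇑Q), A * A = 1 ∧ ∀ x, act Q A x = T x := by
  set g : (ι → F) ≃ₗ[F] (ι → F) := LinearEquiv.ofInvolutive T hsq with hg
  obtain ⟨A, hA⟩ := exists_isom_of_linearEquiv Q g hT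
  have hAT : ∀ x, act Q A x = T x := fun x => hA x
  refine ⟨A, ?_, hAT⟩
  apply ext_act'
  intro x
  rw [act_mul, hAT, hAT, hsq, act_one']

/-- type B: construction from a family of pairwise orthogonal vectors of norm one -/
theorem exists_of_family_B [CharP F 2] (hQ : (polarBilin Q).Nondegenerate)
    {κ : Type*} [Fintype κ] (w : κ → (ι → F))
    (h0 : ∀ i j, polar ⇑Q (w i) (w j) = 0) (hq : ∀ i, Q (w i) = 1) :
    ∃ A : ↥(isometryGroup F ⇑Q), A * A = 1 ∧
      ∀ x, act Q A x - x = ∑ i, polar ⇑Q x (w i) • w i := by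
  have hI := InvAbs.inv_famMap (f := polarBilin Q)
    (fun x => by rw [polarBilin_apply_apply]; exact polar_self_zero Q x) hQ
    (id : κ → κ) (fun i => rfl) w (fun i j => by rw [polarBilin_apply_apply]; exact h0 i j)
  obtain ⟨A, hA, hAT⟩ := exists_of_map Q (InvAbs.famMap (polarBilin Q) id w) hI.sq (by
    intro x
    rw [InvAbs.famMap_apply]
    simp only [id, polarBilin_apply_apply]
    have h1 : Q (x + ∑ i, polar ⇑Q x (w i) • w i) =
        Q x + Q (∑ i, polar ⇑Q x (w i) • w i) +
          polar ⇑Q x (∑ i, polar ⇑Q x (w i) • w i) := by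
      unfold polar; ring
    rw [h1, quad_sum_orth Q _ w _ h0, polar_sum_right']
    simp only [hq, mul_one]
    have : ∑ i, polar ⇑Q x (w i) * polar ⇑Q x (w i) +
        ∑ i, polar ⇑Q x (w i) * polar ⇑Q x (w i) = 0 := CharTwo.add_self_eq_zero _
    rw [add_assoc, this, add_zero])
  refine ⟨A, hA, fun x => ?_⟩
  rw [hAT, InvAbs.famMap_sub]
  rfl

/-- type A: construction from a family of pairwise orthogonal singular vectors -/
theorem exists_of_family_A [CharP F 2] (hQ : (polarBilin Q).Nondegenerate)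
    {κ : Type*} [Fintype κ] (w : κ ⊕ κ → (ι → F))
    (h0 : ∀ i j, polar ⇑Q (w i) (w j) = 0) (hq : ∀ i, Q (w i) = 0) :
    ∃ A : ↥(isometryGroup F ⇑Q), A * A = 1 ∧
      ∀ x, act Q A x - x = ∑ i, polar ⇑Q x (w (Sum.swap i)) • w i := by
  have hI := InvAbs.inv_famMap (f := polarBilin Q)
    (fun x => by rw [polarBilin_apply_apply]; exact polar_self_zero Q x) hQ
    (Sum.swap : κ ⊕ κ → κ ⊕ κ) Sum.swap_swap w
    (fun i j => by rw [polarBilin_apply_apply]; exact h0 i j)
  obtain ⟨A, hA, hAT⟩ := exists_of_map Q (InvAbs.famMap (polarBilin Q) Sum.swap w) hI.sq (by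
    intro x
    rw [InvAbs.famMap_apply]
    simp only [polarBilin_apply_apply]
    have h1 : Q (x + ∑ i, polar ⇑Q x (w (Sum.swap i)) • w i) =
        Q x + Q (∑ i, polar ⇑Q x (w (Sum.swap i)) • w i) +
          polar ⇑Q x (∑ i, polar ⇑Q x (w (Sum.swap i)) • w i) := by
      unfold polar; ring
    rw [h1, quad_sum_orth Q _ w _ h0, polar_sum_right']
    simp only [hq, mul_zero, Finset.sum_const_zero, add_zero]
    rw [Fintype.sum_sum_type]
    simp only [Sum.swap_inl, Sum.swap_inr]
    have : ∑ i, polar ⇑Q x (w (Sum.inl i)) * polar ⇑Q x (w (Sum.inr i)) =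
        ∑ i, polar ⇑Q x (w (Sum.inr i)) * polar ⇑Q x (w (Sum.inl i)) :=
      Finset.sum_congr rfl (fun i _ => mul_comm _ _)
    rw [this]
    have h3 : ∑ i, polar ⇑Q x (w (Sum.inr i)) * polar ⇑Q x (w (Sum.inl i)) +
        ∑ i, polar ⇑Q x (w (Sum.inr i)) * polar ⇑Q x (w (Sum.inl i)) = 0 :=
      CharTwo.add_self_eq_zero _
    rw [h3, add_zero])
  refine ⟨A, hA, fun x => ?_⟩
  rw [hAT, InvAbs.famMap_sub]
  rfl

/-- the finset of invariants -/
def invSet (mB ν : ℕ) : Finset (ℕ × Bool) :=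
  (Finset.Icc 1 mB).image (fun s => (s, false)) ∪
    ((Finset.Icc 1 ν).filter Even).image (fun s => (s, true))

theorem card_invSet (mB ν : ℕ) : (invSet mB ν).card = mB + ν / 2 := by
  unfold invSet
  rw [Finset.card_union_of_disjoint, Finset.card_image_of_injective, Finset.card_image_of_injective,
    Nat.card_Icc, ClassCount.card_even_Icc]
  · omega
  · intro a b h; exact (Prod.mk.inj h).1
  · intro a b h; exact (Prod.mk.inj h).1
  · rw [Finset.disjoint_left]
    intro p h1 h2
    rw [Finset.mem_image] at h1 h2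
    obtain ⟨a, -, rfl⟩ := h1
    obtain ⟨b, -, hb⟩ := h2
    have := (Prod.mk.inj hb).2
    exact absurd this (by decide)

theorem mem_invSet (mB ν : ℕ) (p : ℕ × Bool) :
    p ∈ invSet mB ν ↔ 1 ≤ p.1 ∧ ((p.2 = false ∧ p.1 ≤ mB) ∨ (p.2 = true ∧ p.1 ≤ ν ∧ Even p.1)) := by
  unfold invSet
  rw [Finset.mem_union, Finset.mem_image, Finset.mem_image]
  constructor
  · rintro (⟨s, hs, rfl⟩ | ⟨s, hs, rfl⟩)
    · rw [Finset.mem_Icc] at hs
      exact ⟨hs.1, Or.inl ⟨rfl, hs.2⟩⟩
    · rw [Finset.mem_filter, Finset.mem_Icc] at hs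
      exact ⟨hs.1.1, Or.inr ⟨rfl, hs.1.2, hs.2⟩⟩
  · rintro ⟨h1, h2⟩
    obtain ⟨s, b⟩ := p
    rcases h2 with ⟨hb, h3⟩ | ⟨hb, h3, h4⟩
    · simp only at hb h3 h1
      subst hb
      exact Or.inl ⟨s, Finset.mem_Icc.mpr ⟨h1, h3⟩, rfl⟩
    · simp only at hb h3 h4 h1
      subst hb
      exact Or.inr ⟨s, Finset.mem_filter.mpr ⟨Finset.mem_Icc.mpr ⟨h1, h3⟩, h4⟩, rfl⟩

theorem orderOf_two_of [Fintype F] [CharP F 2] (A : ↥(isometryGroup F ⇑Q))
    (hA : A * A = 1) (hr : 1 ≤ finrank F (LinearMap.range (InvAbs.Nl (tL Q A)))) :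
    orderOf A = 2 := by
  have : Fact (Nat.Prime 2) := ⟨Nat.prime_two⟩
  apply orderOf_eq_prime
  · rw [pow_two]; exact hA
  · intro h1
    have h0 : finrank F (LinearMap.range (InvAbs.Nl (tL Q A))) = 0 := by
      rw [Submodule.finrank_eq_zero, eq_bot_iff]
      rintro _ ⟨x, rfl⟩
      rw [Submodule.mem_bot, InvAbs.Nl_apply, tL_apply, h1, act_one', sub_self]
    omega

open Classical in
/-- **The number of classes of involutions of an orthogonal group in characteristic two**, in
terms of the maximal sizes `mB`, `ν` of families of pairwise orthogonal vectors of norm one,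
resp. singular vectors. -/
theorem card_inv_classes [Fintype F] [CharP F 2] (hQ : (polarBilin Q).Nondegenerate)
    (mB ν : ℕ)
    (hB_le : ∀ (n : ℕ) (w : Fin n → (ι → F)), LinearIndependent F w →
      (∀ i j, polar ⇑Q (w i) (w j) = 0) → (∀ i, Q (w i) = 1) → n ≤ mB)
    (hB_ex : ∃ w : Fin mB → (ι → F), LinearIndependent F w ∧
      (∀ i j, polar ⇑Q (w i) (w j) = 0) ∧ (∀ i, Q (w i) = 1))
    (hA_le : ∀ (n : ℕ) (w : Fin n → (ι → F)), LinearIndependent F w →
      (∀ i j, polar ⇑Q (w i) (w j) = 0) → (∀ i, Q (w i) = 0) → n ≤ ν)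
    (hA_ex : ∃ w : Fin ν → (ι → F), LinearIndependent F w ∧
      (∀ i j, polar ⇑Q (w i) (w j) = 0) ∧ (∀ i, Q (w i) = 0)) :
    Nat.card {C : ConjClasses ↥(isometryGroup F ⇑Q) //
      ∃ g : ↥(isometryGroup F ⇑Q), ConjClasses.mk g = C ∧ orderOf g = 2} = mB + ν / 2 := by
  have hsq : ∀ g : ↥(isometryGroup F ⇑Q), orderOf g = 2 → g * g = 1 ∧ g ≠ 1 := by
    intro g hg
    refine ⟨?_, ?_⟩
    · have := pow_orderOf_eq_one g
      rw [hg, pow_two] at this
      exact this
    · intro h1
      rw [h1, orderOf_one] at hg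
      omega
  have hAlt : ∀ x, polarBilin Q x x = 0 := fun x => by
    rw [polarBilin_apply_apply]; exact polar_self_zero Q x
  rw [← card_invSet mB ν]
  apply ClassCount.card_classes_eq (fun g : ↥(isometryGroup F ⇑Q) => orderOf g = 2)
    (fun g => (finrank F (LinearMap.range (InvAbs.Nl (tL Q g))), decide (TypeA Q g)))
  · intro g hg
    obtain ⟨h1, h2⟩ := hsq g hg
    have hpos : 1 ≤ finrank F (LinearMap.range (InvAbs.Nl (tL Q g))) := by
      by_contra h
      have h0 : finrank F (LinearMap.range (InvAbs.Nl (tL Q g))) = 0 := by omega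
      rw [Submodule.finrank_eq_zero] at h0
      apply h2
      apply ext_act'
      intro x
      have : InvAbs.Nl (tL Q g) x ∈ LinearMap.range (InvAbs.Nl (tL Q g)) :=
        LinearMap.mem_range_self _ x
      rw [h0, Submodule.mem_bot, InvAbs.Nl_apply, tL_apply, sub_eq_zero] at this
      rw [this, act_one']
    rw [mem_invSet]
    refine ⟨hpos, ?_⟩
    by_cases hA : TypeA Q g
    · right
      obtain ⟨k, w, hk, hli, h0, hN, hq⟩ := normalA Q hQ g h1 hA
      refine ⟨by simp [hA], ?_, ⟨k, hk.symm⟩⟩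
      have := hA_le (k + k) (w ∘ finSumFinEquiv.symm)
        (hli.comp _ finSumFinEquiv.symm.injective) (fun i j => h0 _ _) (fun i => hq _)
      simp only
      omega
    · left
      refine ⟨by simp [hA], ?_⟩
      unfold TypeA at hA
      push Not at hA
      obtain ⟨w, hli, h0, hN, hq⟩ := normalB Q hQ g h1 hA
      exact hB_le _ w hli h0 hq
  · intro g h hg hh
    rw [conj_iff_inv Q hQ g h (hsq g hg).1 (hsq h hh).1, Prod.mk.injEq]
    constructor
    · rintro ⟨h1, h2⟩
      exact ⟨h1, by simp only [decide_eq_decide]; exact h2⟩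
    · rintro ⟨h1, h2⟩
      exact ⟨h1, by simpa only [decide_eq_decide] using h2⟩
  · rintro ⟨s, b⟩ hp
    rw [mem_invSet] at hp
    obtain ⟨h1, h2⟩ := hp
    rcases h2 with ⟨hb, h3⟩ | ⟨hb, h3, h4⟩
    · simp only at hb h3 h1
      subst hb
      obtain ⟨wB, hli, h0, hq⟩ := hB_ex
      set w : Fin s → (ι → F) := wB ∘ Fin.castLE h3 with hw
      have hliw : LinearIndependent F w := hli.comp _ (Fin.castLE_injective h3)
      obtain ⟨A, hA, hN⟩ := exists_of_family_B Q hQ w (fun i j => h0 _ _) (fun i => hq _)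
      have hr : finrank F (LinearMap.range (InvAbs.Nl (tL Q A))) = s := by
        have := InvAbs.finrank_range_of_form (f := polarBilin Q) (t := tL Q A) hQ
          (id : Fin s → Fin s) (fun i => rfl) w hliw (fun x => hN x)
        rw [Fintype.card_fin] at this
        exact this
      have : Nonempty (Fin s) := ⟨⟨0, by omega⟩⟩
      obtain ⟨v, hv⟩ := InvAbs.nonalt_of_form_id (f := polarBilin Q) (t := tL Q A) hAlt hQ w hliw
        (fun x => hN x)
      have hnA : ¬ TypeA Q A := fun h => hv (h v)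
      exact ⟨A, orderOf_two_of Q A hA (by omega), by rw [hr]; simp [hnA]⟩
    · simp only at hb h3 h4 h1
      subst hb
      obtain ⟨k, hk⟩ := h4
      obtain ⟨wA, hli, h0, hq⟩ := hA_ex
      have hkν : k + k ≤ ν := by omega
      set w : Fin k ⊕ Fin k → (ι → F) := fun i => wA (Fin.castLE hkν (finSumFinEquiv i)) with hw
      have hliw : LinearIndependent F w :=
        hli.comp (fun i : Fin k ⊕ Fin k => Fin.castLE hkν (finSumFinEquiv i))
          (fun a b h => finSumFinEquiv.injective (Fin.castLE_injective hkν h))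
      obtain ⟨A, hA, hN⟩ := exists_of_family_A Q hQ w (fun i j => h0 _ _) (fun i => hq _)
      have hr : finrank F (LinearMap.range (InvAbs.Nl (tL Q A))) = k + k := by
        have := InvAbs.finrank_range_of_form (f := polarBilin Q) (t := tL Q A) hQ
          (Sum.swap : Fin k ⊕ Fin k → Fin k ⊕ Fin k) Sum.swap_swap w hliw (fun x => hN x)
        rw [Fintype.card_sum, Fintype.card_fin] at this
        exact this
      have hTA : TypeA Q A := fun v =>
        InvAbs.alt_of_form_swap (f := polarBilin Q) (t := tL Q A) hAlt w (fun x => hN x) v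
      exact ⟨A, orderOf_two_of Q A hA (by omega), by rw [hr, hk]; simp [hTA]⟩

end Cfsg.Agent.Lib.Helper6.OrthInv2
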