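import Mathlib
import Cfsg.Prelude
import Cfsg.Agent.Lib.Helper6.AffCount
import Cfsg.Agent.Lib.Helper6.OrthInvCount

set_option autoImplicit false
set_option linter.unusedSectionVars false
set_option linter.unusedVariables false
set_option linter.unusedSimpArgs false
open Cfsg

/-! Counting frames of pairwise orthogonal vectors with constant value of `Q` in an orthogonal
space over a finite field of characteristic two. -/

namespace Cfsg.Agent.Lib.Helper6.OrthFrames

open Matrix QuadraticMap Module Cfsg.Agent.Lib.Helper5 Cfsg.Agent.Lib.Helper6.AffCount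
  Cfsg.Agent.Lib.Helper6.OrthInv2

variable {ι : Type} [Fintype ι] [DecidableEq ι] {F : Type*} [Field F]
  (Q : QuadraticForm F (ι → F))

/-- a frame of independent, pairwise orthogonal vectors on which `Q` takes the value `c` -/
def IsFr (c : F) {k : ℕ} (w : Fin k → (ι → F)) : Prop :=
  LinearIndependent F w ∧ (∀ i j, polar ⇑Q (w i) (w j) = 0) ∧ ∀ i, Q (w i) = c

theorem isFr_cons [CharP F 2] (c : F) {k : ℕ} (u : ι → F) (w : Fin k → (ι → F)) :
    IsFr Q c (Fin.cons u w : Fin (k + 1) → (ι → F)) ↔
      IsFr Q c w ∧ (Q u = c ∧ (∀ j, polar ⇑Q (w j) u = 0) ∧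
        u ∉ Submodule.span F (Set.range w)) := by
  unfold IsFr
  rw [linearIndependent_finCons]
  constructor
  · rintro ⟨⟨h1, h2⟩, h3, h4⟩
    refine ⟨⟨h1, fun i j => ?_, fun i => ?_⟩, ?_, fun j => ?_, h2⟩
    · simpa using h3 i.succ j.succ
    · simpa using h4 i.succ
    · simpa using h4 0
    · simpa using h3 j.succ 0
  · rintro ⟨⟨h1, h3, h4⟩, hu, hw, h2⟩
    refine ⟨⟨h1, h2⟩, fun i j => ?_, fun i => ?_⟩
    · refine Fin.cases ?_ (fun a => ?_) i <;> refine Fin.cases ?_ (fun b => ?_) j
      · simp only [Fin.cons_zero]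
        exact polar_self_zero Q u
      · simp only [Fin.cons_zero, Fin.cons_succ]
        rw [polar_comm]; exact hw b
      · simp only [Fin.cons_zero, Fin.cons_succ]
        exact hw a
      · simp only [Fin.cons_succ]
        exact h3 a b
    · refine Fin.cases ?_ (fun a => ?_) i
      · simpa using hu
      · simpa using h4 a

/-- peeling off the first vector of a frame -/
def frEquiv [CharP F 2] (c : F) (k : ℕ) :
    {w : Fin (k + 1) → (ι → F) // IsFr Q c w} ≃
      Σ w : {w : Fin k → (ι → F) // IsFr Q c w},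
        {u : ι → F // Q u = c ∧ (∀ j, polar ⇑Q (w.1 j) u = 0) ∧
          u ∉ Submodule.span F (Set.range w.1)} where
  toFun w := ⟨⟨Fin.tail w.1, by
      have := w.2
      rw [← Fin.cons_self_tail w.1, isFr_cons] at this
      exact this.1⟩, ⟨w.1 0, by
      have := w.2
      rw [← Fin.cons_self_tail w.1, isFr_cons] at this
      exact this.2⟩⟩
  invFun p := ⟨Fin.cons p.2.1 p.1.1, (isFr_cons Q c _ _).mpr ⟨p.1.2, p.2.2⟩⟩
  left_inv w := by
    apply Subtype.ext
    exact Fin.cons_self_tail w.1
  right_inv p := by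
    obtain ⟨⟨w, hw⟩, ⟨u, hu⟩⟩ := p
    rfl


section split
variable [Fintype F]

omit [Fintype ι] [DecidableEq ι] in
theorem comb_injective {k : ℕ} (w : Fin k → (ι → F)) (hli : LinearIndependent F w)
    (a b : Fin k → F) (h : ∑ j, a j • w j = ∑ j, b j • w j) : a = b := by
  funext j
  have h2 := Fintype.linearIndependent_iff.mp hli (fun j => a j - b j) (by
    simp only [sub_smul, Finset.sum_sub_distrib]
    rw [h, sub_self]) j
  exact sub_eq_zero.mp h2

/-- splitting a count into the part inside and the part outside the span of a frame -/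
theorem card_split {k : ℕ} (w : Fin k → (ι → F)) (hli : LinearIndependent F w)
    (P : (ι → F) → Prop) :
    Nat.card {u : ι → F // P u ∧ u ∉ Submodule.span F (Set.range w)} +
      Nat.card {a : Fin k → F // P (∑ j, a j • w j)} = Nat.card {u : ι → F // P u} := by
  classical
  have e1 : {x : {u : ι → F // P u} // x.1 ∈ Submodule.span F (Set.range w)} ≃
      {a : Fin k → F // P (∑ j, a j • w j)} := by
    symm
    refine Equiv.ofBijective (fun a => ⟨⟨∑ j, a.1 j • w j, a.2⟩, ?_⟩) ⟨?_, ?_⟩
    · rw [Submodule.mem_span_range_iff_exists_fun]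
      exact ⟨a.1, rfl⟩
    · intro a b hab
      apply Subtype.ext
      apply comb_injective w hli
      exact congrArg (fun x => x.1.1) hab
    · rintro ⟨⟨u, hu⟩, hmem⟩
      rw [Submodule.mem_span_range_iff_exists_fun] at hmem
      obtain ⟨a, ha⟩ := hmem
      refine ⟨⟨a, by rw [ha]; exact hu⟩, ?_⟩
      apply Subtype.ext
      apply Subtype.ext
      exact ha
  have e2 : {x : {u : ι → F // P u} // ¬ x.1 ∈ Submodule.span F (Set.range w)} ≃
      {u : ι → F // P u ∧ u ∉ Submodule.span F (Set.range w)} :=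
    { toFun := fun x => ⟨x.1.1, x.1.2, x.2⟩
      invFun := fun u => ⟨⟨u.1, u.2.1⟩, u.2.2⟩
      left_inv := fun x => rfl
      right_inv := fun u => rfl }
  rw [← Nat.card_congr e1, ← Nat.card_congr e2, add_comm, ← Nat.card_sum]
  exact Nat.card_congr (Equiv.sumCompl _)

end split

end Cfsg.Agent.Lib.Helper6.OrthFrames
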