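import Mathlib
import Cfsg.Prelude
import Cfsg.Agent.Lib.Helper6.OrthFrames

set_option autoImplicit false
set_option linter.unusedSectionVars false
set_option linter.unusedVariables false
set_option linter.unusedSimpArgs false
open Cfsg

/-! Counting singular vectors orthogonal to a singular frame, characteristic two. -/

namespace Cfsg.Agent.Lib.Helper6.OrthFrames

open Matrix QuadraticMap Module Cfsg.Agent.Lib.Helper5 Cfsg.Agent.Lib.Helper6.AffCount
  Cfsg.Agent.Lib.Helper6.OrthInv2

theorem pow_quot {q X a n : ℕ} (hq : 1 < q) (h : X * q ^ a = q ^ n) :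
    a ≤ n ∧ X = q ^ (n - a) := by
  have hle : a ≤ n := by
    have h1 : q ^ a ∣ q ^ n := ⟨X, by rw [← h]; ring⟩
    exact (Nat.pow_dvd_pow_iff_le_right hq).mp h1
  refine ⟨hle, ?_⟩
  have hpos : 0 < q ^ a := pow_pos (by omega) _
  apply Nat.eq_of_mul_eq_mul_right hpos
  rw [h, ← pow_add, Nat.sub_add_cancel hle]

theorem card_eq_sum_fiber {α β : Type*} [Finite α] [Fintype β] (g : α → β) :
    Nat.card α = ∑ b, Nat.card {a : α // g a = b} := by
  rw [← Nat.card_sigma]
  exact Nat.card_congr (Equiv.sigmaFiberEquiv g).symm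

variable {ι : Type} [Fintype ι] [DecidableEq ι] {F : Type*} [Field F]
  (Q : QuadraticForm F (ι → F))

omit [Fintype ι] [DecidableEq ι] in
theorem quad_add_smul (v u : ι → F) (a : F) :
    Q (v + a • u) = Q v + a * a * Q u + a * polar ⇑Q v u := by
  rw [QuadraticMap.map_add Q v (a • u), QuadraticMap.map_smul, polar_smul_right, smul_eq_mul,
    smul_eq_mul]

section count
variable [Fintype F]

/-- the number of solutions of independent polar conditions -/
theorem card_polar_affine (hQ : (polarBilin Q).Nondegenerate) {k : ℕ} (w : Fin k → (ι → F))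
    (hli : LinearIndependent F w) (c : Fin k → F) :
    Nat.card {v : ι → F // ∀ j, polar ⇑Q (w j) v = c j} * Fintype.card F ^ k =
      Fintype.card F ^ Fintype.card ι := by
  have h := card_affine (polarBilin Q) hQ w hli c
  rw [Module.finrank_fintype_fun_eq_card] at h
  exact h

variable [CharP F 2]

/-- the level sets `polar u · = c`, `c ≠ 0`, of the singular vectors orthogonal to a frame -/
theorem card_sing_level {k : ℕ} (w : Fin k → (ι → F)) (u : ι → F) (hu : Q u = 0)
    (hwu : ∀ j, polar ⇑Q (w j) u = 0) (c : F) (hc : c ≠ 0) :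
    Nat.card {v : ι → F // Q v = 0 ∧ (∀ j, polar ⇑Q (w j) v = 0) ∧ polar ⇑Q u v = c} *
        Fintype.card F =
      Nat.card {v : ι → F // (∀ j, polar ⇑Q (w j) v = 0) ∧ polar ⇑Q u v = c} := by
  rw [← Nat.card_eq_fintype_card (α := F), ← Nat.card_prod]
  apply Nat.card_congr
  have huu : polar ⇑Q u u = 0 := polar_self_zero Q u
  have hperp : ∀ (v : ι → F) (a : F), (∀ j, polar ⇑Q (w j) v = 0) →
      ∀ j, polar ⇑Q (w j) (v + a • u) = 0 := by
    intro v a hv j
    rw [polar_add_right, polar_smul_right, hv, hwu, smul_zero, add_zero]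
  have hpu : ∀ (v : ι → F) (a : F), polar ⇑Q u (v + a • u) = polar ⇑Q u v := by
    intro v a
    rw [polar_add_right, polar_smul_right, huu, smul_zero, add_zero]
  have hQa : ∀ (v : ι → F) (a : F), polar ⇑Q u v = c → Q (v + a • u) = Q v + a * c := by
    intro v a hv
    rw [quad_add_smul, hu, mul_zero, add_zero, polar_comm, hv]
  have hdd : ∀ (v : ι → F) (a : F), v + a • u + a • u = v := by
    intro v a
    rw [add_assoc, InvAbs.vec_add_self F, add_zero]
  exact
    { toFun := fun p => ⟨p.1.1 + p.2 • u, hperp _ _ p.1.2.2.1, by rw [hpu]; exact p.1.2.2.2⟩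
      invFun := fun v => (⟨v.1 + (Q v.1 / c) • u, by
          rw [hQa _ _ v.2.2, div_mul_cancel₀ _ hc]
          exact CharTwo.add_self_eq_zero _, hperp _ _ v.2.1, by rw [hpu]; exact v.2.2⟩,
        Q v.1 / c)
      left_inv := fun p => by
        obtain ⟨⟨v, hv0, hv1, hv2⟩, a⟩ := p
        have h1 : Q (v + a • u) / c = a := by
          rw [hQa _ _ hv2, hv0, zero_add, mul_div_assoc, div_self hc, mul_one]
        apply Prod.ext
        · apply Subtype.ext
          show v + a • u + (Q (v + a • u) / c) • u = v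
          rw [h1, hdd]
        · exact h1
      right_inv := fun v => by
        apply Subtype.ext
        show v.1 + (Q v.1 / c) • u + (Q v.1 / c) • u = v.1
        rw [hdd] }

/-- flattening a level set -/
theorem card_level_flat {k : ℕ} (w : Fin k → (ι → F)) (u : ι → F) (c : F) :
    Nat.card {a : {v : ι → F // Q v = 0 ∧ ∀ j, polar ⇑Q (w j) v = 0} // polar ⇑Q u a.1 = c} =
      Nat.card {v : ι → F // Q v = 0 ∧ (∀ j, polar ⇑Q (w j) v = 0) ∧ polar ⇑Q u v = c} := by
  apply Nat.card_congr
  exact
    { toFun := fun a => ⟨a.1.1, a.1.2.1, a.1.2.2, a.2⟩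
      invFun := fun v => ⟨⟨v.1, v.2.1, v.2.2.1⟩, v.2.2.2⟩
      left_inv := fun a => rfl
      right_inv := fun v => rfl }

/-- the number `S(w)` of singular vectors orthogonal to a singular frame -/
theorem card_sing_perp (hQ : (polarBilin Q).Nondegenerate) :
    ∀ (k : ℕ) (w : Fin k → (ι → F)), IsFr Q 0 w →
      Fintype.card F * Nat.card {v : ι → F // Q v = 0 ∧ ∀ j, polar ⇑Q (w j) v = 0} +
          Fintype.card F ^ Fintype.card ι =
        Fintype.card F ^ (Fintype.card ι - k) +
          Fintype.card F * Nat.card {v : ι → F // Q v = 0} := by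
  classical
  intro k
  induction k with
  | zero =>
    intro w _
    have h1 : Nat.card {v : ι → F // Q v = 0 ∧ ∀ j : Fin 0, polar ⇑Q (w j) v = 0} =
        Nat.card {v : ι → F // Q v = 0} := by
      apply Nat.card_congr
      apply Equiv.subtypeEquivRight
      intro v
      constructor
      · intro h; exact h.1
      · intro h; exact ⟨h, fun j => j.elim0⟩
    rw [h1, Nat.sub_zero, add_comm]
  | succ k ih =>
    intro w hw
    have hw' := hw
    rw [← Fin.cons_self_tail w, isFr_cons] at hw'
    obtain ⟨hT, hu, hwu, hnot⟩ := hw'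
    have IH := ih (Fin.tail w) hT
    have hsum := card_eq_sum_fiber
      (α := {v : ι → F // Q v = 0 ∧ ∀ j, polar ⇑Q (Fin.tail w j) v = 0})
      (fun v => polar ⇑Q (w 0) v.1)
    have hlev0 : Nat.card {a : {v : ι → F // Q v = 0 ∧ ∀ j, polar ⇑Q (Fin.tail w j) v = 0} //
        polar ⇑Q (w 0) a.1 = 0} =
        Nat.card {v : ι → F // Q v = 0 ∧ ∀ j, polar ⇑Q (w j) v = 0} := by
      rw [card_level_flat]
      apply Nat.card_congr
      apply Equiv.subtypeEquivRight
      intro v
      rw [Fin.forall_fin_succ (P := fun j => polar ⇑Q (w j) v = 0)]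
      constructor
      · rintro ⟨h1, h2, h3⟩
        exact ⟨h1, h3, h2⟩
      · rintro ⟨h1, h3, h2⟩
        exact ⟨h1, h2, h3⟩
    have hq1 : 1 < Fintype.card F := Fintype.one_lt_card
    have hlevc : ∀ c : F, c ≠ 0 →
        Nat.card {a : {v : ι → F // Q v = 0 ∧ ∀ j, polar ⇑Q (Fin.tail w j) v = 0} //
          polar ⇑Q (w 0) a.1 = c} * Fintype.card F ^ (k + 2) =
        Fintype.card F ^ Fintype.card ι := by
      intro c hc
      rw [card_level_flat, pow_succ, ← mul_assoc, mul_right_comm,
        card_sing_level Q (Fin.tail w) (w 0) hu hwu c hc]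
      have h2 := card_polar_affine Q hQ w hw.1 (Fin.cons c 0)
      rw [← h2]
      congr 1
      apply Nat.card_congr
      apply Equiv.subtypeEquivRight
      intro v
      rw [Fin.forall_fin_succ (P := fun j => polar ⇑Q (w j) v = (Fin.cons c 0 : Fin (k + 1) → F) j)]
      simp only [Fin.cons_zero, Fin.cons_succ, Pi.zero_apply]
      constructor
      · rintro ⟨h2, h3⟩
        exact ⟨h3, h2⟩
      · rintro ⟨h3, h2⟩
        exact ⟨h2, h3⟩
    obtain ⟨c₀, hc₀⟩ : ∃ c : F, c ≠ 0 := ⟨1, one_ne_zero⟩
    obtain ⟨hle, -⟩ := pow_quot hq1 (hlevc c₀ hc₀)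
    have hlevc' : ∀ c ∈ (Finset.univ : Finset F).erase 0,
        Nat.card {a : {v : ι → F // Q v = 0 ∧ ∀ j, polar ⇑Q (Fin.tail w j) v = 0} //
          polar ⇑Q (w 0) a.1 = c} = Fintype.card F ^ (Fintype.card ι - (k + 2)) := by
      intro c hc
      exact (pow_quot hq1 (hlevc c (Finset.ne_of_mem_erase hc))).2
    rw [← Finset.add_sum_erase _ _ (Finset.mem_univ (0 : F)), hlev0,
      Finset.sum_congr rfl hlevc', Finset.sum_const, Finset.card_erase_of_mem (Finset.mem_univ _),
      Finset.card_univ, smul_eq_mul] at hsum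
    rw [hsum] at IH
    obtain ⟨d, hd⟩ : ∃ d, Fintype.card ι = d + (k + 2) := ⟨_, (Nat.sub_add_cancel hle).symm⟩
    have e1 : Fintype.card ι - (k + 2) = d := by omega
    have e2 : Fintype.card ι - k = d + 2 := by omega
    have e3 : Fintype.card ι - (k + 1) = d + 1 := by omega
    rw [e1, e2] at IH
    rw [e3]
    generalize Fintype.card F ^ Fintype.card ι = N at *
    generalize Nat.card {v : ι → F // Q v = 0} = Z at *
    generalize Nat.card {v : ι → F // Q v = 0 ∧ ∀ j, polar ⇑Q (w j) v = 0} = S' at *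
    obtain ⟨r, hr⟩ : ∃ r, Fintype.card F = r + 1 := ⟨Fintype.card F - 1, by omega⟩
    rw [hr] at IH ⊢
    simp only [Nat.add_sub_cancel] at IH
    rw [pow_succ, pow_succ] at IH
    rw [pow_succ]
    linear_combination IH

end count

end Cfsg.Agent.Lib.Helper6.OrthFrames
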