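import Mathlib
import Cfsg.Prelude
import Cfsg.Agent.Lib.Helper6.OrthFrames2

set_option autoImplicit false
set_option linter.unusedSectionVars false
set_option linter.unusedVariables false
set_option linter.unusedSimpArgs false
open Cfsg

/-! Counting singular frames and unit frames, characteristic two. -/

namespace Cfsg.Agent.Lib.Helper6.OrthFrames

open Matrix QuadraticMap Module Cfsg.Agent.Lib.Helper5 Cfsg.Agent.Lib.Helper6.AffCount
  Cfsg.Agent.Lib.Helper6.OrthInv2

variable {ι : Type} [Fintype ι] [DecidableEq ι] {F : Type*} [Field F] [Fintype F]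
  (Q : QuadraticForm F (ι → F))

/-- counting frames from a constant fibre size -/
theorem card_frames [CharP F 2] (c : F) (φ : ℕ → ℕ)
    (hφ : ∀ (k : ℕ) (w : Fin k → (ι → F)), IsFr Q c w →
      Nat.card {u : ι → F // Q u = c ∧ (∀ j, polar ⇑Q (w j) u = 0) ∧
        u ∉ Submodule.span F (Set.range w)} = φ k) :
    ∀ k, Nat.card {w : Fin k → (ι → F) // IsFr Q c w} = ∏ i ∈ Finset.range k, φ i := by
  classical
  intro k
  induction k with
  | zero =>
    rw [Finset.range_zero, Finset.prod_empty, Nat.card_eq_one_iff_unique]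
    refine ⟨⟨fun a b => Subtype.ext (Subsingleton.elim _ _)⟩, ⟨⟨fun j => j.elim0, ?_, ?_, ?_⟩⟩⟩
    · exact linearIndependent_empty_type
    · intro i; exact i.elim0
    · intro i; exact i.elim0
  | succ k ih =>
    have : Fintype {w : Fin k → (ι → F) // IsFr Q c w} := Fintype.ofFinite _
    rw [Nat.card_congr (frEquiv Q c k), Nat.card_sigma, Finset.prod_range_succ, ← ih]
    rw [Finset.sum_congr rfl (fun w _ => hφ k w.1 w.2), Finset.sum_const, Finset.card_univ,
      smul_eq_mul, Nat.card_eq_fintype_card]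

/-- all vectors of the span of a singular frame are singular and orthogonal to the frame -/
theorem card_sing_fiber [CharP F 2] {k : ℕ} (w : Fin k → (ι → F)) (hw : IsFr Q 0 w) :
    Nat.card {u : ι → F // Q u = 0 ∧ (∀ j, polar ⇑Q (w j) u = 0) ∧
        u ∉ Submodule.span F (Set.range w)} + Fintype.card F ^ k =
      Nat.card {v : ι → F // Q v = 0 ∧ ∀ j, polar ⇑Q (w j) v = 0} := by
  have h := card_split w hw.1 (fun u => Q u = 0 ∧ ∀ j, polar ⇑Q (w j) u = 0)
  rw [← h]
  congr 1
  · apply Nat.card_congr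
    apply Equiv.subtypeEquivRight
    intro u
    exact and_assoc.symm
  · have hall : ∀ a : Fin k → F, (fun u => Q u = 0 ∧ ∀ j, polar ⇑Q (w j) u = 0)
        (∑ j, a j • w j) := by
      intro a
      refine ⟨?_, fun j => ?_⟩
      · rw [quad_sum_orth Q Finset.univ w a hw.2.1]
        apply Finset.sum_eq_zero
        intro i _
        rw [hw.2.2, mul_zero]
      · rw [polar_sum_right']
        apply Finset.sum_eq_zero
        intro i _
        rw [hw.2.1, mul_zero]
    rw [Nat.card_congr (Equiv.subtypeUnivEquiv hall), Nat.card_eq_fintype_card, Fintype.card_fun,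
      Fintype.card_fin]

omit [Fintype F] in
theorem mul_self_inj_char2 [CharP F 2] {a b : F} (h : a * a = b * b) : a = b := by
  have h1 : (a + b) * (a + b) = 0 := by
    rw [CharTwo.add_mul_self, h]
    exact CharTwo.add_self_eq_zero _
  have h2 : a + b = 0 := by
    rcases mul_eq_zero.mp h1 with h | h <;> exact h
  exact CharTwo.add_eq_zero.mp h2

/-- vectors of norm one orthogonal to a nonempty unit frame -/
theorem card_unit_perp [CharP F 2] {k : ℕ} (w : Fin (k + 1) → (ι → F)) (hw : IsFr Q 1 w) :
    Nat.card {v : ι → F // Q v = 1 ∧ ∀ j, polar ⇑Q (w j) v = 0} * Fintype.card F =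
      Nat.card {v : ι → F // ∀ j, polar ⇑Q (w j) v = 0} := by
  rw [← Nat.card_eq_fintype_card (α := F), ← Nat.card_prod]
  apply Nat.card_congr
  have h2 : (2 : F) = 0 := CharTwo.two_eq_zero
  have hperp : ∀ (v : ι → F) (a : F), (∀ j, polar ⇑Q (w j) v = 0) →
      ∀ j, polar ⇑Q (w j) (v + a • w 0) = 0 := by
    intro v a hv j
    rw [polar_add_right, polar_smul_right, hv, hw.2.1, smul_zero, add_zero]
  have hQa : ∀ (v : ι → F) (a : F), (∀ j, polar ⇑Q (w j) v = 0) →
      Q (v + a • w 0) = Q v + a * a := by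
    intro v a hv
    rw [quad_add_smul, hw.2.2, mul_one, polar_comm, hv, mul_zero, add_zero]
  have hdd : ∀ (v : ι → F) (a : F), v + a • w 0 + a • w 0 = v := by
    intro v a
    rw [add_assoc, InvAbs.vec_add_self F, add_zero]
  refine Equiv.ofBijective (fun p => ⟨p.1.1 + p.2 • w 0, hperp _ _ p.1.2.2⟩) ⟨?_, ?_⟩
  · rintro ⟨⟨v, hv1, hv2⟩, a⟩ ⟨⟨v', hv1', hv2'⟩, a'⟩ h
    have h3 : v + a • w 0 = v' + a' • w 0 := congrArg Subtype.val h
    have h4 := congrArg Q h3
    rw [hQa v a hv2, hQa v' a' hv2', hv1, hv1'] at h4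
    have h5 : a = a' := mul_self_inj_char2 (add_left_cancel h4)
    subst h5
    have h6 : v = v' := add_right_cancel h3
    subst h6
    rfl
  · rintro ⟨v', hv'⟩
    obtain ⟨a, ha⟩ := OmegaCrit.isSquare_of_two_eq_zero h2 (Q v' + 1)
    refine ⟨(⟨v' + a • w 0, ?_, hperp _ _ hv'⟩, a), ?_⟩
    · rw [hQa v' a hv', ← ha, ← add_assoc, CharTwo.add_self_eq_zero, zero_add]
    · apply Subtype.ext
      exact hdd v' a

/-- the vectors of norm one in the span of a nonempty unit frame -/
theorem card_unit_span [CharP F 2] {k : ℕ} (w : Fin (k + 1) → (ι → F)) (hw : IsFr Q 1 w) :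
    Nat.card {a : Fin (k + 1) → F // Q (∑ j, a j • w j) = 1 ∧
      ∀ i, polar ⇑Q (w i) (∑ j, a j • w j) = 0} = Fintype.card F ^ k := by
  have hiff : ∀ a : Fin (k + 1) → F, (Q (∑ j, a j • w j) = 1 ∧
      ∀ i, polar ⇑Q (w i) (∑ j, a j • w j) = 0) ↔ ∑ j, a j = 1 := by
    intro a
    have h1 : Q (∑ j, a j • w j) = (∑ j, a j) * (∑ j, a j) := by
      rw [quad_sum_orth Q Finset.univ w a hw.2.1, CharTwo.sum_mul_self]
      apply Finset.sum_congr rfl
      intro i _
      rw [hw.2.2, mul_one]
    have h2 : ∀ i, polar ⇑Q (w i) (∑ j, a j • w j) = 0 := by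
      intro i
      rw [polar_sum_right']
      apply Finset.sum_eq_zero
      intro j _
      rw [hw.2.1, mul_zero]
    rw [h1]
    constructor
    · intro h
      exact mul_self_inj_char2 (by rw [h.1, mul_one])
    · intro h
      exact ⟨by rw [h, mul_one], h2⟩
  rw [Nat.card_congr (Equiv.subtypeEquivRight hiff)]
  have e : {a : Fin (k + 1) → F // ∑ j, a j = 1} ≃ (Fin k → F) :=
    { toFun := fun a => Fin.tail a.1
      invFun := fun b => ⟨Fin.cons (1 - ∑ j, b j) b, by
        rw [Fin.sum_univ_succ]
        simp only [Fin.cons_zero, Fin.cons_succ]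
        ring⟩
      left_inv := fun a => by
        obtain ⟨a, ha⟩ := a
        apply Subtype.ext
        show Fin.cons (1 - ∑ j, Fin.tail a j) (Fin.tail a) = a
        have h1 : 1 - ∑ j, Fin.tail a j = a 0 := by
          rw [Fin.sum_univ_succ] at ha
          rw [← ha]
          simp only [Fin.tail]
          ring
        rw [h1, Fin.cons_self_tail]
      right_inv := fun b => by
        show Fin.tail (Fin.cons (α := fun _ => F) (1 - ∑ j, b j) b) = b
        rw [Fin.tail_cons] }
  rw [Nat.card_congr e, Nat.card_eq_fintype_card, Fintype.card_fun, Fintype.card_fin]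

/-- the fibre of unit frames over a nonempty unit frame -/
theorem card_unit_fiber [CharP F 2] (hQ : (polarBilin Q).Nondegenerate) {k : ℕ}
    (w : Fin (k + 1) → (ι → F)) (hw : IsFr Q 1 w) :
    k + 2 ≤ Fintype.card ι ∧
    Nat.card {u : ι → F // Q u = 1 ∧ (∀ j, polar ⇑Q (w j) u = 0) ∧
        u ∉ Submodule.span F (Set.range w)} + Fintype.card F ^ k =
      Fintype.card F ^ (Fintype.card ι - (k + 2)) := by
  have h := card_split w hw.1 (fun u => Q u = 1 ∧ ∀ j, polar ⇑Q (w j) u = 0)
  have h1 := card_unit_perp Q w hw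
  have h2 := card_polar_affine Q hQ w hw.1 0
  have h3 := card_unit_span Q w hw
  simp only [Pi.zero_apply] at h2
  rw [← h1, mul_assoc, ← pow_succ'] at h2
  obtain ⟨hle, h4⟩ := pow_quot Fintype.one_lt_card h2
  refine ⟨by omega, ?_⟩
  have e5 : k + 1 + 1 = k + 2 := rfl
  rw [e5] at h4
  rw [← h4, ← h, h3]
  congr 1
  apply Nat.card_congr
  apply Equiv.subtypeEquivRight
  intro u
  exact and_assoc.symm

/-- all nonzero values of `Q` are taken equally often -/
theorem card_units_total [CharP F 2] :
    (Fintype.card F - 1) * Nat.card {v : ι → F // Q v = 1} + Nat.card {v : ι → F // Q v = 0} =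
      Fintype.card F ^ Fintype.card ι := by
  classical
  have h2 : (2 : F) = 0 := CharTwo.two_eq_zero
  have hsum := card_eq_sum_fiber (α := ι → F) (fun v => Q v)
  rw [Nat.card_eq_fintype_card, Fintype.card_fun] at hsum
  have hc : ∀ c ∈ (Finset.univ : Finset F).erase 0,
      Nat.card {v : ι → F // Q v = c} = Nat.card {v : ι → F // Q v = 1} := by
    intro c hc
    have hc0 : c ≠ 0 := Finset.ne_of_mem_erase hc
    obtain ⟨r, hr⟩ := OmegaCrit.isSquare_of_two_eq_zero h2 c
    have hr0 : r ≠ 0 := by
      rintro rfl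
      rw [mul_zero] at hr
      exact hc0 hr
    apply Nat.card_congr
    exact
      { toFun := fun v => ⟨r⁻¹ • v.1, by
          rw [QuadraticMap.map_smul, v.2, hr, smul_eq_mul]
          field_simp⟩
        invFun := fun v => ⟨r • v.1, by
          rw [QuadraticMap.map_smul, v.2, hr, smul_eq_mul, mul_one]⟩
        left_inv := fun v => by
          apply Subtype.ext
          show r • r⁻¹ • v.1 = v.1
          rw [smul_smul, mul_inv_cancel₀ hr0, one_smul]
        right_inv := fun v => by
          apply Subtype.ext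
          show r⁻¹ • r • v.1 = v.1
          rw [smul_smul, inv_mul_cancel₀ hr0, one_smul] }
  rw [← Finset.add_sum_erase _ _ (Finset.mem_univ (0 : F)), Finset.sum_congr rfl hc,
    Finset.sum_const, Finset.card_erase_of_mem (Finset.mem_univ _), Finset.card_univ,
    smul_eq_mul] at hsum
  rw [hsum, add_comm]

/-- the fibre of unit frames over the empty frame -/
theorem card_unit_fiber_zero [CharP F 2] (w : Fin 0 → (ι → F)) :
    Nat.card {u : ι → F // Q u = 1 ∧ (∀ j, polar ⇑Q (w j) u = 0) ∧
        u ∉ Submodule.span F (Set.range w)} = Nat.card {v : ι → F // Q v = 1} := by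
  apply Nat.card_congr
  apply Equiv.subtypeEquivRight
  intro u
  constructor
  · intro h; exact h.1
  · intro h
    refine ⟨h, fun j => j.elim0, ?_⟩
    have h1 : Set.range w = ∅ := Set.range_eq_empty w
    rw [h1, Submodule.span_empty, Submodule.mem_bot]
    rintro rfl
    rw [map_zero] at h
    exact zero_ne_one h

end Cfsg.Agent.Lib.Helper6.OrthFrames
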