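import Mathlib
import Cfsg.Prelude
import Cfsg.Agent.Lib.Helper6.OrthInvCount

set_option autoImplicit false
set_option linter.unusedSectionVars false
set_option linter.unusedVariables false
set_option linter.unusedSimpArgs false
open Cfsg

/-! The number of classes of involutions of `O^±_{2m}(F)`, `F` finite of characteristic two. -/

namespace Cfsg.Agent.Lib.Helper6.OrthInv2

open Matrix QuadraticMap Module Cfsg.Agent.Lib.Helper5 Cfsg.Agent.Lib.Helper5.CartanDieudonne
  Cfsg.Agent.Lib.Helper5.Refl Cfsg.Agent.Lib.Helper5.OrthCard Cfsg.Agent.Lib.Helper5.SpinorNorm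
  Cfsg.Agent.Lib.Helper5.MaxTS Cfsg.Agent.Lib.Helper5.OrthParity

section hyp
variable {ι : Type} [Fintype ι] [DecidableEq ι] {F : Type*} [Field F]
  (Q : QuadraticForm F (ι → F)) {k : ℕ} (e f : Fin k → (ι → F))
  (he : ∀ i, Q (e i) = 0) (hf : ∀ i, Q (f i) = 0)
  (hef : ∀ i j, polar ⇑Q (e i) (f j) = if i = j then 1 else 0)
  (hee : ∀ i j, polar ⇑Q (e i) (e j) = 0) (hff : ∀ i j, polar ⇑Q (f i) (f j) = 0)

include hef hee in
theorem famA_of_hyp : LinearIndependent F e := by
  rw [Fintype.linearIndependent_iff]
  intro c hc j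
  have h1 := congrArg (fun x => polar ⇑Q x (f j)) hc
  simp only [polar_zero_left] at h1
  have h2 : polar ⇑Q (∑ i, c i • e i) (f j) = ∑ i, c i * polar ⇑Q (e i) (f j) := by
    rw [polar_comm, polar_sum_right']
    apply Finset.sum_congr rfl
    intro i _
    rw [polar_comm]
  rw [h2] at h1
  simp only [hef] at h1
  rw [Finset.sum_eq_single j (fun i _ hij => by rw [if_neg hij, mul_zero])
    (fun h => absurd (Finset.mem_univ j) h), if_pos rfl, mul_one] at h1
  exact h1

include he hf hef hee hff in
theorem famB_of_hyp [CharP F 2] :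
    LinearIndependent F (fun i => e i + f i) ∧
      (∀ i j, polar ⇑Q (e i + f i) (e j + f j) = 0) ∧ (∀ i, Q (e i + f i) = 1) := by
  have hfe : ∀ i j, polar ⇑Q (f i) (e j) = if i = j then 1 else 0 := by
    intro i j
    rw [polar_comm, hef]
    simp only [eq_comm]
  refine ⟨?_, ?_, ?_⟩
  · rw [Fintype.linearIndependent_iff]
    intro c hc j
    have h1 := congrArg (fun x => polar ⇑Q x (e j)) hc
    simp only [polar_zero_left] at h1
    have h2 : polar ⇑Q (∑ i, c i • (e i + f i)) (e j) =
        ∑ i, c i * polar ⇑Q (e i + f i) (e j) := by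
      rw [polar_comm, polar_sum_right']
      apply Finset.sum_congr rfl
      intro i _
      rw [polar_comm]
    rw [h2] at h1
    simp only [polar_add_left, hee, hfe, zero_add] at h1
    rw [Finset.sum_eq_single j (fun i _ hij => by rw [if_neg hij, mul_zero])
      (fun h => absurd (Finset.mem_univ j) h), if_pos rfl, mul_one] at h1
    exact h1
  · intro i j
    simp only [polar_add_left, polar_add_right, hee, hff, hef, hfe, zero_add, add_zero]
    by_cases hij : i = j
    · subst hij
      simp only [if_true]
      exact CharTwo.add_self_eq_zero _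
    · simp only [if_neg hij, add_zero]
  · intro i
    have : Q (e i + f i) = Q (e i) + Q (f i) + polar ⇑Q (e i) (f i) := by
      unfold polar; ring
    rw [this, he, hf, hef, if_pos rfl]
    ring

include he hf hef hee hff in
theorem famB_cons_of_hyp [CharP F 2] (z : ι → F) (hz : Q z = 1)
    (hze : ∀ i, polar ⇑Q z (e i) = 0) (hzf : ∀ i, polar ⇑Q z (f i) = 0) :
    LinearIndependent F (Fin.cons z (fun i => e i + f i) : Fin (k + 1) → (ι → F)) ∧
      (∀ i j, polar ⇑Q ((Fin.cons z (fun i => e i + f i) : Fin (k + 1) → (ι → F)) i)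
        ((Fin.cons z (fun i => e i + f i) : Fin (k + 1) → (ι → F)) j) = 0) ∧
      (∀ i, Q ((Fin.cons z (fun i => e i + f i) : Fin (k + 1) → (ι → F)) i) = 1) := by
  obtain ⟨h1, h2, h3⟩ := famB_of_hyp Q e f he hf hef hee hff
  have hfe : ∀ i j, polar ⇑Q (f i) (e j) = if i = j then 1 else 0 := by
    intro i j
    rw [polar_comm, hef]
    simp only [eq_comm]
  refine ⟨?_, ?_, ?_⟩
  · rw [linearIndependent_finCons]
    refine ⟨h1, ?_⟩
    intro hmem
    obtain ⟨c, hc⟩ := (Submodule.mem_span_range_iff_exists_fun F).mp hmem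
    have hc0 : ∀ j, c j = 0 := by
      intro j
      have h4 := congrArg (fun x => polar ⇑Q x (e j)) hc
      simp only [hze] at h4
      have h5 : polar ⇑Q (∑ i, c i • (e i + f i)) (e j) =
          ∑ i, c i * polar ⇑Q (e i + f i) (e j) := by
        rw [polar_comm, polar_sum_right']
        apply Finset.sum_congr rfl
        intro i _
        rw [polar_comm]
      rw [h5] at h4
      simp only [polar_add_left, hee, hfe, zero_add] at h4
      rw [Finset.sum_eq_single j (fun i _ hij => by rw [if_neg hij, mul_zero])
        (fun h => absurd (Finset.mem_univ j) h), if_pos rfl, mul_one] at h4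
      exact h4
    have hz0 : z = 0 := by
      rw [← hc]
      apply Finset.sum_eq_zero
      intro i _
      rw [hc0, zero_smul]
    rw [hz0, map_zero] at hz
    exact zero_ne_one hz
  · intro i j
    refine Fin.cases ?_ (fun i => ?_) i <;> refine Fin.cases ?_ (fun j => ?_) j
    · simp only [Fin.cons_zero]
      exact polar_self_zero Q z
    · simp only [Fin.cons_zero, Fin.cons_succ]
      rw [polar_add_right, hze, hzf, add_zero]
    · simp only [Fin.cons_zero, Fin.cons_succ]
      rw [polar_comm, polar_add_right, hze, hzf, add_zero]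
    · simp only [Fin.cons_succ]
      exact h2 i j
  · intro i
    refine Fin.cases ?_ (fun i => ?_) i
    · simp only [Fin.cons_zero]
      exact hz
    · simp only [Fin.cons_succ]
      exact h3 i

end hyp

end Cfsg.Agent.Lib.Helper6.OrthInv2
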