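import Mathlib
import Cfsg.Prelude
import Cfsg.Agent.Lib.Helper6.OrthInvCount2

set_option autoImplicit false
set_option linter.unusedSectionVars false
set_option linter.unusedVariables false
set_option linter.unusedSimpArgs false
open Cfsg

/-! The number of classes of involutions of `O^±_{2m}(F)`: the standard forms. -/

namespace Cfsg.Agent.Lib.Helper6.OrthInv2

open Matrix QuadraticMap Module Cfsg.Agent.Lib.Helper5 Cfsg.Agent.Lib.Helper5.CartanDieudonne
  Cfsg.Agent.Lib.Helper5.Refl Cfsg.Agent.Lib.Helper5.OrthCard Cfsg.Agent.Lib.Helper5.SpinorNorm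
  Cfsg.Agent.Lib.Helper5.MaxTS Cfsg.Agent.Lib.Helper5.OrthParity
  Cfsg.Agent.Lib.Helper5.OrthPlane

variable {F : Type*} [Field F]

/-- statement form of the class count -/
theorem card_inv_classes' {ι : Type} [Fintype ι] [DecidableEq ι] [Fintype F] [CharP F 2]
    (Q : QuadraticForm F (ι → F)) (Q₀ : (ι → F) → F) (hQQ : ⇑Q = Q₀)
    (hQ : (polarBilin Q).Nondegenerate) (mB ν : ℕ)
    (hB_le : ∀ (n : ℕ) (w : Fin n → (ι → F)), LinearIndependent F w →
      (∀ i j, polar ⇑Q (w i) (w j) = 0) → (∀ i, Q (w i) = 1) → n ≤ mB)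
    (hB_ex : ∃ w : Fin mB → (ι → F), LinearIndependent F w ∧
      (∀ i j, polar ⇑Q (w i) (w j) = 0) ∧ (∀ i, Q (w i) = 1))
    (hA_le : ∀ (n : ℕ) (w : Fin n → (ι → F)), LinearIndependent F w →
      (∀ i j, polar ⇑Q (w i) (w j) = 0) → (∀ i, Q (w i) = 0) → n ≤ ν)
    (hA_ex : ∃ w : Fin ν → (ι → F), LinearIndependent F w ∧
      (∀ i j, polar ⇑Q (w i) (w j) = 0) ∧ (∀ i, Q (w i) = 0)) :
    Nat.card {C : ConjClasses ↥(isometryGroup F Q₀) //
      ∃ g : ↥(isometryGroup F Q₀), ConjClasses.mk g = C ∧ orderOf g = 2} = mB + ν / 2 := by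
  subst hQQ
  exact card_inv_classes Q hQ mB ν hB_le hB_ex hA_le hA_ex

/-- an isotropic family has at most half the dimension -/
theorem le_half_of_isotropic {ι : Type} [Fintype ι] [DecidableEq ι]
    (Q : QuadraticForm F (ι → F)) (hQ : (polarBilin Q).Nondegenerate) (m : ℕ)
    (hV : finrank F (ι → F) = 2 * m) (n : ℕ) (w : Fin n → (ι → F))
    (hli : LinearIndependent F w) (h0 : ∀ i j, polar ⇑Q (w i) (w j) = 0) : n ≤ m := by
  have h1 := InvAbs.card_le_of_isotropic (f := polarBilin Q) hQ w hli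
    (fun i j => by rw [polarBilin_apply_apply]; exact h0 i j)
  rw [Fintype.card_fin, hV] at h1
  omega

theorem card_inv_classes_plus [Fintype F] [CharP F 2] (m : ℕ) :
    Nat.card {C : ConjClasses ↥(isometryGroup F (Cfsg.quadFormPlus m F)) //
      ∃ g : ↥(isometryGroup F (Cfsg.quadFormPlus m F)), ConjClasses.mk g = C ∧ orderOf g = 2} =
      m + m / 2 := by
  have hQ := PlusGeom.plus_nondegenerate (F := F) m
  have hV : finrank F (Fin m ⊕ Fin m → F) = 2 * m := MaxTS.finrank_plus m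
  set e : Fin m → (Fin m ⊕ Fin m → F) := fun i => Pi.single (Sum.inl i) 1 with he_def
  set f : Fin m → (Fin m ⊕ Fin m → F) := fun i => Pi.single (Sum.inr i) 1 with hf_def
  have he : ∀ i, plusForm m F (e i) = 0 := fun i => PlusGeom.plus_single_inl m i 1
  have hf : ∀ i, plusForm m F (f i) = 0 := fun i => PlusGeom.plus_single_inr m i 1
  have hef : ∀ i j, polar ⇑(plusForm m F) (e i) (f j) = if i = j then 1 else 0 := by
    intro i j
    rw [PlusGeom.polar_single_inr]
    simp only [he_def, Pi.single_apply, Sum.inl.injEq, eq_comm]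
  have hee : ∀ i j, polar ⇑(plusForm m F) (e i) (e j) = 0 := by
    intro i j
    rw [PlusGeom.polar_single_inl]
    simp [he_def]
  have hff : ∀ i j, polar ⇑(plusForm m F) (f i) (f j) = 0 := by
    intro i j
    rw [PlusGeom.polar_single_inr]
    simp [hf_def]
  obtain ⟨b1, b2, b3⟩ := famB_of_hyp (plusForm m F) e f he hf hef hee hff
  exact card_inv_classes' (plusForm m F) (Cfsg.quadFormPlus m F) (coe_plusForm m) hQ m m
    (fun n w hli h0 _ => le_half_of_isotropic _ hQ m hV n w hli h0)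
    ⟨_, b1, b2, b3⟩
    (fun n w hli h0 _ => le_half_of_isotropic _ hQ m hV n w hli h0)
    ⟨e, famA_of_hyp (plusForm m F) e f hef hee, hee, he⟩

theorem card_inv_classes_minus [Fintype F] [CharP F 2] (k : ℕ) (a b : F)
    (hab : ∀ z₁ z₂ : F, z₁ ^ 2 + a * z₁ * z₂ + b * z₂ ^ 2 = 0 → z₁ = 0 ∧ z₂ = 0) :
    Nat.card {C : ConjClasses ↥(isometryGroup F (Cfsg.quadFormMinus k F a b)) //
      ∃ g : ↥(isometryGroup F (Cfsg.quadFormMinus k F a b)),
        ConjClasses.mk g = C ∧ orderOf g = 2} = (k + 1) + k / 2 := by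
  have hQ' := OrthInv2Std.minus_nondeg (F := F) k a b hab
  have e0 := OrthInv2Std.minusForm_eq_genForm (F := F) k a b
  have hcoe : ⇑(genForm (binForm a b) k) = Cfsg.quadFormMinus k F a b := by
    rw [← e0]; exact coe_minusForm k a b
  have hQ : (polarBilin (genForm (binForm a b) k)).Nondegenerate := e0 ▸ hQ'
  have hV : finrank F ((Fin k ⊕ Fin k) ⊕ Fin 2 → F) = 2 * (k + 1) := by
    rw [Module.finrank_fintype_fun_eq_card]
    simp only [Fintype.card_sum, Fintype.card_fin]
    omega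
  set Q := genForm (binForm a b) k with hQdef
  set e : Fin k → ((Fin k ⊕ Fin k) ⊕ Fin 2 → F) :=
    fun i => Pi.single (Sum.inl (Sum.inl i)) 1 with he_def
  set f : Fin k → ((Fin k ⊕ Fin k) ⊕ Fin 2 → F) :=
    fun i => Pi.single (Sum.inl (Sum.inr i)) 1 with hf_def
  set z : (Fin k ⊕ Fin k) ⊕ Fin 2 → F := Pi.single (Sum.inr 0) 1 with hz_def
  have he : ∀ i, Q (e i) = 0 := fun i => SpinorHyp2.genForm_single_ll _ k i
  have hf : ∀ i, Q (f i) = 0 := fun i => SpinorHyp2.genForm_single_lr _ k i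
  have hef : ∀ i j, polar ⇑Q (e i) (f j) = if i = j then 1 else 0 := by
    intro i j
    rw [SpinorHyp2.polar_genForm_single_ll]
    simp only [hf_def, Pi.single_apply, Sum.inl.injEq, Sum.inr.injEq]
  have hee : ∀ i j, polar ⇑Q (e i) (e j) = 0 := by
    intro i j
    rw [SpinorHyp2.polar_genForm_single_ll]
    simp [he_def]
  have hff : ∀ i j, polar ⇑Q (f i) (f j) = 0 := by
    intro i j
    rw [SpinorHyp2.polar_genForm_single_lr]
    simp [hf_def]
  have hz : Q z = 1 := by
    rw [hQdef, genForm_apply, binForm_apply]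
    simp [hz_def]
  have hze : ∀ i, polar ⇑Q z (e i) = 0 := by
    intro i
    rw [polar_comm, SpinorHyp2.polar_genForm_single_ll]
    simp [hz_def]
  have hzf : ∀ i, polar ⇑Q z (f i) = 0 := by
    intro i
    rw [polar_comm, SpinorHyp2.polar_genForm_single_lr]
    simp [hz_def]
  obtain ⟨b1, b2, b3⟩ := famB_cons_of_hyp Q e f he hf hef hee hff z hz hze hzf
  refine card_inv_classes' Q (Cfsg.quadFormMinus k F a b) hcoe hQ (k + 1) k
    (fun n w hli h0 _ => le_half_of_isotropic _ hQ (k + 1) hV n w hli h0)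
    ⟨_, b1, b2, b3⟩ ?_ ⟨e, famA_of_hyp Q e f hef hee, hee, he⟩
  intro n w hli h0 hq
  have hU : ∀ u ∈ Submodule.span F (Set.range w), Q u = 0 := by
    intro u hu
    obtain ⟨c, rfl⟩ := (Submodule.mem_span_range_iff_exists_fun F).mp hu
    rw [quad_sum_orth Q _ w c h0]
    apply Finset.sum_eq_zero
    intro i _
    rw [hq, mul_zero]
  have h1 := finrank_ts_le_genForm (binForm a b) k (anisotropic_of a b hab) hQ _ hU
  rw [finrank_span_eq_card hli, Fintype.card_fin] at h1
  exact h1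

end Cfsg.Agent.Lib.Helper6.OrthInv2
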