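import Mathlib
import Cfsg.Prelude
import Cfsg.Agent.Lib.Helper6.OrthFrames3
import Cfsg.Agent.Lib.Helper6.OrthInvCount3
import Cfsg.Agent.S0287

set_option autoImplicit false
set_option linter.unusedSectionVars false
set_option linter.unusedVariables false
set_option linter.unusedSimpArgs false
open Cfsg

/-! Numbers of singular frames and of unit frames in the hyperbolic space of dimension `2m` over
a finite field of characteristic two. -/

namespace Cfsg.Agent.Lib.Helper6.OrthFrames

open Matrix QuadraticMap Module Cfsg.Agent.Lib.Helper5 Cfsg.Agent.Lib.Helper5.OrthCard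
  Cfsg.Agent.Lib.Helper6.OrthInv2

variable {F : Type*} [Field F] [Fintype F]

/-- the number of singular vectors of the hyperbolic form -/
theorem zeros_plus (m : ℕ) :
    Fintype.card F * Nat.card {v : Fin m ⊕ Fin m → F // plusForm m F v = 0} +
        Fintype.card F ^ m = Fintype.card F ^ (2 * m) + Fintype.card F ^ (m + 1) := by
  have hz : Nat.card {v : Fin 0 → F // (0 : QuadraticForm F (Fin 0 → F)) v = 0} = 1 := by
    rw [Nat.card_eq_one_iff_unique]
    refine ⟨⟨?_⟩, ⟨⟨0, rfl⟩⟩⟩
    intro a b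
    apply Subtype.ext
    exact Subsingleton.elim _ _
  have h1 := zeros_genForm_closed (0 : QuadraticForm F (Fin 0 → F)) hz m
  rw [Fintype.card_fin, add_zero, add_zero] at h1
  rw [← h1]
  congr 2
  have h2 := card_zeros_reindex (Equiv.sumEmpty (Fin m ⊕ Fin m) (Fin 0))
    ⇑(genForm (0 : QuadraticForm F (Fin 0 → F)) m) (Cfsg.quadFormPlus m F)
    (Cfsg.Agent.S0287.plus_eq m)
  rw [h2]
  apply Nat.card_congr
  apply Equiv.subtypeEquivRight
  intro v
  rw [plusForm_apply]

variable [CharP F 2]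

/-- the fibre of singular frames in the hyperbolic space -/
theorem sing_fiber_plus (m : ℕ) (hm : 1 ≤ m) {k : ℕ} (w : Fin k → (Fin m ⊕ Fin m → F))
    (hw : IsFr (plusForm m F) 0 w) :
    Nat.card {u : Fin m ⊕ Fin m → F // plusForm m F u = 0 ∧
        (∀ j, polar ⇑(plusForm m F) (w j) u = 0) ∧ u ∉ Submodule.span F (Set.range w)} =
      (Fintype.card F ^ (m - k) - 1) * (Fintype.card F ^ (m - 1) + Fintype.card F ^ k) := by
  have hQ := PlusGeom.plus_nondegenerate (F := F) m
  have hV : finrank F (Fin m ⊕ Fin m → F) = 2 * m := MaxTS.finrank_plus m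
  have hk : k ≤ m := le_half_of_isotropic _ hQ m hV k w hw.1 hw.2.1
  have h1 := card_sing_fiber (plusForm m F) w hw
  have h2 := card_sing_perp (plusForm m F) hQ k w hw
  have h3 := zeros_plus (F := F) m
  have hn : Fintype.card (Fin m ⊕ Fin m) = 2 * m := by
    rw [Fintype.card_sum, Fintype.card_fin, two_mul]
  rw [hn, ← h1] at h2
  have hq : 0 < Fintype.card F := Fintype.card_pos
  generalize Nat.card {u : Fin m ⊕ Fin m → F // plusForm m F u = 0 ∧
    (∀ j, polar ⇑(plusForm m F) (w j) u = 0) ∧ u ∉ Submodule.span F (Set.range w)} = X at *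
  generalize Nat.card {v : Fin m ⊕ Fin m → F // plusForm m F v = 0} = Z at *
  generalize Fintype.card F = q at *
  obtain ⟨e, rfl⟩ : ∃ e, m = k + e := ⟨m - k, by omega⟩
  have e1 : k + e - k = e := by omega
  have e2 : 2 * (k + e) - k = k + 2 * e := by omega
  rw [e1]
  rw [e2] at h2
  rcases Nat.eq_zero_or_pos e with he | he
  · subst he
    simp only [add_zero, mul_zero, pow_zero, Nat.sub_self, zero_mul] at h2 h3 ⊢
    have h4 : q * X = 0 := by
      have e3 : q ^ (k + 1) = q * q ^ k := pow_succ' q k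
      rw [e3] at h3
      nlinarith
    rcases Nat.mul_eq_zero.mp h4 with h | h
    · omega
    · exact h
  · obtain ⟨e', rfl⟩ : ∃ e', e = e' + 1 := ⟨e - 1, by omega⟩
    have e3 : k + (e' + 1) - 1 = k + e' := by omega
    rw [e3]
    apply Nat.eq_of_mul_eq_mul_left hq
    have p1 : q ^ (k + 2 * (e' + 1)) = q ^ k * q ^ e' * q ^ e' * q * q := by
      rw [← pow_add, ← pow_add, ← pow_succ, ← pow_succ]; congr 1; ring
    have p2 : q ^ (2 * (k + (e' + 1))) = q ^ k * q ^ k * q ^ e' * q ^ e' * q * q := by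
      rw [← pow_add, ← pow_add, ← pow_add, ← pow_succ, ← pow_succ]; congr 1; ring
    have p3 : q ^ (k + (e' + 1)) = q ^ k * q ^ e' * q := by
      rw [← pow_add, ← pow_succ]; congr 1
    have p4 : q ^ (k + (e' + 1) + 1) = q ^ k * q ^ e' * q * q := by
      rw [← pow_add, ← pow_succ, ← pow_succ]; congr 1
    have p5 : q ^ (e' + 1) = q ^ e' * q := pow_succ q e'
    have p6 : q ^ (k + e') = q ^ k * q ^ e' := pow_add q k e'
    rw [p1, p2] at h2
    rw [p2, p3, p4] at h3
    rw [p5, p6]
    have hb : 0 < q ^ e' * q := Nat.mul_pos (pow_pos hq _) hq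
    generalize q ^ k = a at *
    generalize q ^ e' = b at *
    obtain ⟨c, hc⟩ : ∃ c, b * q = c + 1 := ⟨b * q - 1, by omega⟩
    rw [hc, Nat.add_sub_cancel]
    have h5 : a * b * q = a * (c + 1) := by rw [← hc]; ring
    have h6 : a * b * b * q * q = a * (c + 1) * (c + 1) := by rw [← hc]; ring
    have h7 : a * a * b * b * q * q = a * a * (c + 1) * (c + 1) := by rw [← hc]; ring
    have h8 : a * b * q * q = a * (c + 1) * q := by rw [← hc]; ring
    rw [h6, h7] at h2
    rw [h7, h8, h5] at h3
    have h9 : q * (c * (a * b + a)) = c * (a * (c + 1) + a * q) := by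
      rw [← h5]; ring
    rw [h9]
    linear_combination h2 + h3

/-- the fibre sizes of unit frames -/
def unitFib (q m : ℕ) : ℕ → ℕ
  | 0 => q ^ (2 * m - 1) - q ^ (m - 1)
  | (i + 1) => q ^ (2 * m - i - 2) - q ^ i

theorem unit_fiber_plus (m : ℕ) (hm : 1 ≤ m) {k : ℕ} (w : Fin k → (Fin m ⊕ Fin m → F))
    (hw : IsFr (plusForm m F) 1 w) :
    Nat.card {u : Fin m ⊕ Fin m → F // plusForm m F u = 1 ∧
        (∀ j, polar ⇑(plusForm m F) (w j) u = 0) ∧ u ∉ Submodule.span F (Set.range w)} =
      unitFib (Fintype.card F) m k := by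
  have hQ := PlusGeom.plus_nondegenerate (F := F) m
  have hn : Fintype.card (Fin m ⊕ Fin m) = 2 * m := by
    rw [Fintype.card_sum, Fintype.card_fin, two_mul]
  cases k with
  | zero =>
    rw [card_unit_fiber_zero]
    have hT := card_units_total (plusForm m F)
    have h3 := zeros_plus (F := F) m
    rw [hn] at hT
    have hq : 1 < Fintype.card F := Fintype.one_lt_card
    show _ = Fintype.card F ^ (2 * m - 1) - Fintype.card F ^ (m - 1)
    generalize Nat.card {v : Fin m ⊕ Fin m → F // plusForm m F v = 1} = N1 at *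
    generalize Nat.card {v : Fin m ⊕ Fin m → F // plusForm m F v = 0} = Z at *
    generalize Fintype.card F = q at *
    obtain ⟨m', rfl⟩ : ∃ m', m = m' + 1 := ⟨m - 1, by omega⟩
    obtain ⟨r, rfl⟩ : ∃ r, q = r + 1 := ⟨q - 1, by omega⟩
    have e1 : 2 * (m' + 1) - 1 = 2 * m' + 1 := by omega
    have e2 : m' + 1 - 1 = m' := by omega
    rw [e1, e2]
    simp only [Nat.add_sub_cancel] at hT
    have p1 : (r + 1) ^ (2 * (m' + 1)) = (r + 1) ^ m' * (r + 1) ^ m' * (r + 1) * (r + 1) := by
      rw [← pow_add, ← pow_succ, ← pow_succ]; congr 1; ring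
    have p2 : (r + 1) ^ (m' + 1) = (r + 1) ^ m' * (r + 1) := pow_succ _ _
    have p3 : (r + 1) ^ (m' + 1 + 1) = (r + 1) ^ m' * (r + 1) * (r + 1) := by
      rw [pow_succ, pow_succ]
    have p4 : (r + 1) ^ (2 * m' + 1) = (r + 1) ^ m' * (r + 1) ^ m' * (r + 1) := by
      rw [← pow_add, ← pow_succ]; congr 1; ring
    rw [p1] at hT
    rw [p1, p2, p3] at h3
    rw [p4]
    generalize (r + 1) ^ m' = a at *
    have hZ : Z + a = a * a * (r + 1) + a * (r + 1) := by
      apply Nat.eq_of_mul_eq_mul_left (by omega : 0 < r + 1)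
      linear_combination h3
    have hr : 0 < r := by omega
    have h5 : N1 + a = a * a * (r + 1) := by
      apply Nat.eq_of_mul_eq_mul_left hr
      have h6 : r * (N1 + a) + (Z + a) = r * (a * a * (r + 1)) + (Z + a) := by
        conv_rhs => rw [hZ]
        linear_combination hT
      exact Nat.add_right_cancel h6
    omega
  | succ i =>
    obtain ⟨hle, h1⟩ := card_unit_fiber (plusForm m F) hQ w hw
    rw [hn] at hle h1
    show _ = Fintype.card F ^ (2 * m - i - 2) - Fintype.card F ^ i
    have e1 : 2 * m - i - 2 = 2 * m - (i + 2) := by omega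
    rw [e1, ← h1, Nat.add_sub_cancel]

/-- the number of singular frames -/
theorem card_sing_frames_plus (m : ℕ) (hm : 1 ≤ m) (k : ℕ) :
    Nat.card {w : Fin k → (Fin m ⊕ Fin m → F) // IsFr (plusForm m F) 0 w} =
      ∏ i ∈ Finset.range k,
        (Fintype.card F ^ (m - i) - 1) * (Fintype.card F ^ (m - 1) + Fintype.card F ^ i) :=
  card_frames (plusForm m F) 0 _ (fun k w hw => sing_fiber_plus m hm w hw) k

/-- the number of unit frames -/
theorem card_unit_frames_plus (m : ℕ) (hm : 1 ≤ m) (k : ℕ) :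
    Nat.card {w : Fin k → (Fin m ⊕ Fin m → F) // IsFr (plusForm m F) 1 w} =
      ∏ i ∈ Finset.range k, unitFib (Fintype.card F) m i :=
  card_frames (plusForm m F) 1 _ (fun k w hw => unit_fiber_plus m hm w hw) k

end Cfsg.Agent.Lib.Helper6.OrthFrames
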