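import Mathlib
import Cfsg.Agent.Lib.Helper6.RvDefs
import Cfsg.Agent.Lib.Helper6.ClassFun
import Cfsg.Agent.Lib.Helper6.GenChar
import Cfsg.Agent.Lib.Helper6.GenCharOps
import Cfsg.Agent.Lib.Helper6.BlkDefect
import Cfsg.Agent.Lib.Helper6.CharOps

/-! General character theory for the real-vector criterion: class functions with integral
multiplicities, and the coprime-multiple (Bezout) criterion. -/

set_option autoImplicit false

namespace Cfsg.Agent.Lib.Helper6.Rv

open scoped ComplexConjugate
open Cfsg.Agent.Lib.Helper6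

universe u

/-- a class function with integral multiplicities is a generalized character -/
theorem isGeneralizedCharacter_of_int_inner {G : Type u} [Group G] [Fintype G] {f : G → ℂ}
    (hf : Cfsg.IsClassFunction G f)
    (hint : ∀ φ : Cfsg.IrrCharacter G, ∃ z : ℤ, Cfsg.classInner f (φ : G → ℂ) = z) :
    Cfsg.IsGeneralizedCharacter G f := by
  classical
  haveI : Fintype (Cfsg.IrrCharacter G) := Fintype.ofFinite _
  choose z hz using hint
  rw [classFunction_eq_sum f hf]
  apply IsGeneralizedCharacter.sum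
  intro φ _
  rw [hz φ]
  exact IsGeneralizedCharacter.intCast_smul
    (IsCharacter.isGeneralizedCharacter (IsIrrCharacter.isCharacter φ.2)) _

/-- Bezout: an integer valued class function a multiple of which, by a number prime to the group
order, is a generalized character, is a generalized character. -/
theorem isGeneralizedCharacter_of_coprime_smul {G : Type u} [Group G] [Finite G] {f : G → ℂ}
    (hf : Cfsg.IsClassFunction G f) (hfint : ∀ g, ∃ z : ℤ, f g = z) (n : ℕ)
    (hn : Nat.Coprime n (Nat.card G))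
    (hnf : Cfsg.IsGeneralizedCharacter G ((n : ℂ) • f)) : Cfsg.IsGeneralizedCharacter G f := by
  classical
  haveI : Fintype G := Fintype.ofFinite G
  haveI : Fintype (Cfsg.IrrCharacter G) := Fintype.ofFinite _
  by_cases hn0' : n = 0
  · rw [hn0', Nat.coprime_zero_left] at hn
    haveI : Subsingleton G := (Nat.card_eq_one_iff_unique.mp hn).1
    obtain ⟨z, hz⟩ := hfint 1
    have hfz : f = (z : ℂ) • (fun _ : G => (1 : ℂ)) := by
      funext g
      rw [Subsingleton.elim g 1, hz]
      simp
    rw [hfz]
    exact IsGeneralizedCharacter.intCast_smul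
      (IsCharacter.isGeneralizedCharacter isCharacter_one) _
  apply isGeneralizedCharacter_of_int_inner hf
  intro φ
  obtain ⟨c, -, hc⟩ := IsGeneralizedCharacter.exists_int_coeff hnf
  have h1 : (n : ℂ) * Cfsg.classInner f (φ : G → ℂ) = (c φ : ℂ) := by
    rw [← classInner_smul_left, hc φ]
  -- `|G| ⟨f, φ⟩` is an algebraic integer
  have h2 : IsIntegral ℤ ((Nat.card G : ℂ) * Cfsg.classInner f (φ : G → ℂ)) := by
    unfold Cfsg.classInner
    have hG : (Nat.card G : ℂ) ≠ 0 := by
      have : 0 < Nat.card G := Nat.card_pos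
      exact_mod_cast this.ne'
    rw [← mul_assoc, mul_inv_cancel₀ hG, one_mul]
    apply IsIntegral.sum
    intro g _
    apply IsIntegral.mul
    · obtain ⟨z, hz⟩ := hfint g
      rw [hz]
      exact isIntegral_algebraMap (R := ℤ) (A := ℂ) (x := z)
    · have h3 := IsCharacter.isIntegral_apply (IsIrrCharacter.isCharacter φ.2) g
      exact h3.map (starRingEnd ℂ).toIntAlgHom
  -- Bezout
  have hcop : IsCoprime (n : ℤ) (Nat.card G : ℤ) := Nat.isCoprime_iff_coprime.mpr hn
  obtain ⟨a, b, hab⟩ := hcop
  have h3 : Cfsg.classInner f (φ : G → ℂ) =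
      (a : ℂ) * ((n : ℂ) * Cfsg.classInner f (φ : G → ℂ)) +
        (b : ℂ) * ((Nat.card G : ℂ) * Cfsg.classInner f (φ : G → ℂ)) := by
    have : ((a * n + b * Nat.card G : ℤ) : ℂ) = 1 := by rw [hab]; simp
    push_cast at this
    linear_combination (- Cfsg.classInner f (φ : G → ℂ)) * this
  have h4 : IsIntegral ℤ (Cfsg.classInner f (φ : G → ℂ)) := by
    rw [h3]
    apply IsIntegral.add
    · apply IsIntegral.mul (isIntegral_algebraMap (R := ℤ) (A := ℂ) (x := a))
      rw [h1]
      exact isIntegral_algebraMap (R := ℤ) (A := ℂ) (x := c φ)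
    · exact IsIntegral.mul (isIntegral_algebraMap (R := ℤ) (A := ℂ) (x := b)) h2
  -- rational
  have hn0 : (n : ℂ) ≠ 0 := by exact_mod_cast hn0'
  have h5 : Cfsg.classInner f (φ : G → ℂ) = ((c φ : ℚ) / (n : ℚ) : ℚ) := by
    push_cast
    rw [eq_div_iff hn0, mul_comm, h1]
  rw [h5] at h4
  have h6 : IsIntegral ℤ ((c φ : ℚ) / (n : ℚ)) := by
    have := h4
    exact (isIntegral_algebraMap_iff (algebraMap ℚ ℂ).injective).mp this
  obtain ⟨z, hz⟩ := IsIntegrallyClosed.isIntegral_iff.mp h6
  refine ⟨z, ?_⟩
  rw [h5, ← hz]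
  simp
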