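import Mathlib

/-! A lower bound for sums of `p`-th roots of unity with natural coefficients. -/

set_option autoImplicit false

namespace Cfsg.Agent.Lib.Helper6.Kgv

open scoped ComplexConjugate

theorem int_ineq (p : ℕ) (hp : 0 < p) (c : Fin p → ℤ) (hs : ¬ (p : ℤ) ∣ ∑ i, c i) :
    (p : ℤ) - 1 ≤ p * ∑ i, c i ^ 2 - (∑ i, c i) ^ 2 := by
  set s := ∑ i, c i with hsdef
  set q := s / (p : ℤ) with hq
  set r := s % (p : ℤ) with hr
  have hp' : (0 : ℤ) < p := by exact_mod_cast hp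
  have hr0 : 0 ≤ r := Int.emod_nonneg _ hp'.ne'
  have hr1 : r < p := Int.emod_lt_of_pos _ hp'
  have hrne : r ≠ 0 := fun h0 => hs (Int.dvd_of_emod_eq_zero h0)
  have hsr : s = p * q + r := by
    have := Int.emod_add_mul_ediv s (p : ℤ)
    linarith
  have hsum1 : ∑ i, (c i - q) = r := by
    rw [Finset.sum_sub_distrib, Finset.sum_const, Finset.card_univ, Fintype.card_fin,
      nsmul_eq_mul]
    linarith
  have hsum2 : ∑ i, (c i - q) ^ 2 = ∑ i, c i ^ 2 - 2 * q * s + p * q ^ 2 := by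
    have : ∀ i, (c i - q) ^ 2 = c i ^ 2 - 2 * q * c i + q ^ 2 := fun i => by ring
    rw [Finset.sum_congr rfl (fun i _ => this i), Finset.sum_add_distrib,
      Finset.sum_sub_distrib, ← Finset.mul_sum, Finset.sum_const, Finset.card_univ,
      Fintype.card_fin, nsmul_eq_mul]
  have hge : r ≤ ∑ i, (c i - q) ^ 2 := by
    rw [← hsum1]
    apply Finset.sum_le_sum
    intro i _
    exact Int.le_self_sq _
  have h1 : 1 ≤ r := by omega
  have h2 : r ≤ p - 1 := by omega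
  have h3 : 0 ≤ (r - 1) * (p - 1 - r) := mul_nonneg (by linarith) (by linarith)
  have h4 : (p : ℤ) * r ≤ p * ∑ i, (c i - q) ^ 2 := mul_le_mul_of_nonneg_left hge hp'.le
  have key : p * ∑ i, c i ^ 2 - s ^ 2 = p * ∑ i, (c i - q) ^ 2 - r ^ 2 := by
    rw [hsum2, hsr]
    ring
  rw [key]
  nlinarith

theorem geom_sum_root (p : ℕ) (z : ℂ) (hz : z ^ p = 1) (hz1 : z ≠ 1) :
    ∑ k ∈ Finset.range p, z ^ k = 0 := by
  have h := geom_sum_mul z p
  rw [hz, sub_self] at h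
  rcases mul_eq_zero.mp h with h | h
  · exact h
  · exact absurd (sub_eq_zero.mp h) hz1

theorem ru_bound (p : ℕ) [Fact p.Prime] {T : Type*} [Fintype T] (n : T → ℕ) (ω : T → ℂ)
    (hω : ∀ t, ω t ^ p = 1) (hN : ¬ p ∣ ∑ t, n t) :
    ((p : ℝ) - 1) ≤ ∑ k ∈ Finset.Ico 1 p, ‖∑ t, (n t : ℂ) * ω t ^ k‖ ^ 2 := by
  classical
  have hp : p.Prime := Fact.out
  haveI : NeZero p := ⟨hp.ne_zero⟩
  set ζ : ℂ := Complex.exp (2 * Real.pi * Complex.I / p) with hζdef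
  have hζ : IsPrimitiveRoot ζ p := Complex.isPrimitiveRoot_exp p hp.ne_zero
  have hex : ∀ t, ∃ i < p, ζ ^ i = ω t := fun t => hζ.eq_pow_of_pow_eq_one (hω t)
  choose j hj hjω using hex
  let J : T → Fin p := fun t => ⟨j t, hj t⟩
  let c : Fin p → ℕ := fun i => ∑ t ∈ Finset.univ.filter (fun t => J t = i), n t
  have hcsum : ∑ i, c i = ∑ t, n t := Finset.sum_fiberwise Finset.univ J n
  have hfk : ∀ k : ℕ, ∑ t, (n t : ℂ) * ω t ^ k = ∑ i : Fin p, (c i : ℂ) * (ζ ^ (i : ℕ)) ^ k := by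
    intro k
    rw [← Finset.sum_fiberwise Finset.univ J (fun t => (n t : ℂ) * ω t ^ k)]
    apply Finset.sum_congr rfl
    intro i _
    show _ = ((∑ t ∈ Finset.univ.filter (fun t => J t = i), n t : ℕ) : ℂ) * (ζ ^ (i : ℕ)) ^ k
    rw [Nat.cast_sum, Finset.sum_mul]
    apply Finset.sum_congr rfl
    intro t ht
    rw [Finset.mem_filter] at ht
    have : ζ ^ (i : ℕ) = ω t := by
      rw [← ht.2]
      exact hjω t
    rw [this]
  have hnorm1 : ‖ζ‖ = 1 := Complex.norm_eq_one_of_pow_eq_one hζ.pow_eq_one hp.ne_zero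
  have hconj : conj ζ = ζ⁻¹ := (Complex.inv_eq_conj hnorm1).symm
  -- Parseval
  have hpars : ∑ k ∈ Finset.range p,
      ((∑ i : Fin p, (c i : ℂ) * (ζ ^ (i : ℕ)) ^ k) *
        conj (∑ i : Fin p, (c i : ℂ) * (ζ ^ (i : ℕ)) ^ k)) =
      (p : ℂ) * ∑ i : Fin p, (c i : ℂ) ^ 2 := by
    have e1 : ∀ k : ℕ, (∑ i : Fin p, (c i : ℂ) * (ζ ^ (i : ℕ)) ^ k) *
        conj (∑ i : Fin p, (c i : ℂ) * (ζ ^ (i : ℕ)) ^ k) =
        ∑ i : Fin p, ∑ l : Fin p, (c i : ℂ) * (c l : ℂ) * (ζ ^ (i : ℕ) * (ζ ^ (l : ℕ))⁻¹) ^ k := by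
      intro k
      rw [map_sum, Finset.sum_mul_sum]
      apply Finset.sum_congr rfl
      intro i _
      apply Finset.sum_congr rfl
      intro l _
      rw [map_mul, map_pow, map_pow, Complex.conj_natCast, hconj, mul_pow, inv_pow, inv_pow]
      ring
    rw [Finset.sum_congr rfl (fun k _ => e1 k), Finset.sum_comm]
    rw [Finset.mul_sum]
    apply Finset.sum_congr rfl
    intro i _
    rw [Finset.sum_comm]
    rw [Finset.sum_eq_single i]
    · have : ζ ^ (i : ℕ) * (ζ ^ (i : ℕ))⁻¹ = 1 :=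
        mul_inv_cancel₀ (pow_ne_zero _ (hζ.ne_zero hp.ne_zero))
      simp only [this, one_pow, mul_one, Finset.sum_const, Finset.card_range, nsmul_eq_mul]
      ring
    · intro l _ hli
      rw [← Finset.mul_sum]
      have hz1 : ζ ^ (i : ℕ) * (ζ ^ (l : ℕ))⁻¹ ≠ 1 := by
        intro h1
        apply hli
        have h2 : ζ ^ (i : ℕ) = ζ ^ (l : ℕ) := by
          have hne : ζ ^ (l : ℕ) ≠ 0 := pow_ne_zero _ (hζ.ne_zero hp.ne_zero)
          field_simp at h1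
          exact h1
        exact (Fin.ext (hζ.pow_inj i.2 l.2 h2)).symm
      have hzp : (ζ ^ (i : ℕ) * (ζ ^ (l : ℕ))⁻¹) ^ p = 1 := by
        rw [mul_pow, inv_pow, ← pow_mul, ← pow_mul, mul_comm (i : ℕ), mul_comm (l : ℕ),
          pow_mul, pow_mul, hζ.pow_eq_one, one_pow, one_pow, inv_one, mul_one]
      rw [geom_sum_root p _ hzp hz1, mul_zero]
    · intro h; exact absurd (Finset.mem_univ i) h
  -- convert to reals
  have hreal : ∀ z : ℂ, z * conj z = ((‖z‖ ^ 2 : ℝ) : ℂ) := by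
    intro z
    rw [Complex.mul_conj, Complex.normSq_eq_norm_sq]
  have hpars' : ∑ k ∈ Finset.range p, ‖∑ t, (n t : ℂ) * ω t ^ k‖ ^ 2 =
      (p : ℝ) * ∑ i : Fin p, (c i : ℝ) ^ 2 := by
    have h1 : ((∑ k ∈ Finset.range p, ‖∑ t, (n t : ℂ) * ω t ^ k‖ ^ 2 : ℝ) : ℂ) =
        (((p : ℝ) * ∑ i : Fin p, (c i : ℝ) ^ 2 : ℝ) : ℂ) := by
      push_cast
      rw [← hpars]
      apply Finset.sum_congr rfl
      intro k _
      rw [← hfk k]
      have := hreal (∑ t, (n t : ℂ) * ω t ^ k)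
      rw [this]
      push_cast
      rfl
    exact Complex.ofReal_injective h1
  have hzero : ‖∑ t, (n t : ℂ) * ω t ^ 0‖ ^ 2 = ((∑ t, n t : ℕ) : ℝ) ^ 2 := by
    simp only [pow_zero, mul_one]
    rw [← Nat.cast_sum, Complex.norm_natCast]
  have hsplit : ∑ k ∈ Finset.range p, ‖∑ t, (n t : ℂ) * ω t ^ k‖ ^ 2 =
      ‖∑ t, (n t : ℂ) * ω t ^ 0‖ ^ 2 + ∑ k ∈ Finset.Ico 1 p, ‖∑ t, (n t : ℂ) * ω t ^ k‖ ^ 2 := by
    rw [Finset.range_eq_Ico, Finset.sum_eq_sum_Ico_succ_bot hp.pos]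
  have hint := int_ineq p hp.pos (fun i => (c i : ℤ)) (by
    intro h
    apply hN
    rw [← hcsum]
    have : ((p : ℤ)) ∣ ((∑ i, c i : ℕ) : ℤ) := by
      rw [Nat.cast_sum]; exact h
    exact Int.natCast_dvd_natCast.mp this)
  have hint' : ((p : ℝ) - 1) ≤ (p : ℝ) * ∑ i : Fin p, (c i : ℝ) ^ 2 - ((∑ t, n t : ℕ) : ℝ) ^ 2 := by
    have h1 : (((p : ℤ) - 1 : ℤ) : ℝ) ≤
        ((p * ∑ i, ((c i : ℤ)) ^ 2 - (∑ i, (c i : ℤ)) ^ 2 : ℤ) : ℝ) := by
      exact_mod_cast hint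
    rw [← hcsum]
    push_cast at h1 ⊢
    exact h1
  rw [hsplit, hzero] at hpars'
  linarith

end Cfsg.Agent.Lib.Helper6.Kgv
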