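import Mathlib

/-! Conjugacy and centralizers of the elements `u * h` in a split extension `V ⋊ G` with `V`
an abelian normal `p`-subgroup, `G` a `p'`-complement, `u ∈ V` and `h` in the (abelian)
stabilizer of `u` in `G`. -/

set_option autoImplicit false

namespace Cfsg.Agent.Lib.Helper6.Kgv

section Conj

variable {X : Type*} [Group X] [Finite X] {p : ℕ} [Fact p.Prime]

/-- the hypotheses on the configuration -/
structure Config (p : ℕ) (V G H : Subgroup X) (u : X) : Prop where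
  normal : V.Normal
  hVab : ∀ a ∈ V, ∀ b ∈ V, a * b = b * a
  hVexp : ∀ a ∈ V, a ^ p = 1
  hGp : ¬ p ∣ Nat.card G
  hGV : Subgroup.IsComplement' V G
  hu : u ∈ V
  hHG : H ≤ G
  hHu : ∀ h ∈ H, h * u = u * h
  hHmax : ∀ g ∈ G, g * u = u * g → g ∈ H
  hHab : ∀ a ∈ H, ∀ b ∈ H, a * b = b * a

variable {V G H : Subgroup X} {u : X}

theorem Config.pow_G (c : Config p V G H u) {g : X} (hg : g ∈ G) : g ^ Nat.card G = 1 := by
  have := pow_card_eq_one' (G := G) (x := ⟨g, hg⟩)
  have h2 : (((⟨g, hg⟩ : G) ^ Nat.card G : G) : X) = ((1 : G) : X) := by rw [this]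
  rwa [Subgroup.coe_pow, Subgroup.coe_one] at h2

theorem Config.exists_m (c : Config p V G H u) :
    ∃ m : ℕ, Nat.card G ∣ m ∧ m % p = 1 := by
  have hp : p.Prime := Fact.out
  refine ⟨Nat.card G ^ (p - 1), dvd_pow_self _ (by have := hp.two_le; omega), ?_⟩
  have hcop : Nat.Coprime (Nat.card G) p :=
    ((Nat.Prime.coprime_iff_not_dvd hp).mpr c.hGp).symm
  have h := Nat.ModEq.pow_totient hcop
  rw [Nat.totient_prime hp] at h
  have h1 : 1 % p = 1 := Nat.mod_eq_of_lt hp.one_lt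
  have h2 : Nat.card G ^ (p - 1) % p = 1 % p := h
  rw [h2, h1]

theorem Config.core (c : Config p V G H u) {x h h' : X} (hh : h ∈ H) (hh' : h' ∈ H)
    (hx : x * (u * h) * x⁻¹ = u * h') :
    ∃ w ∈ V, ∃ g ∈ H, x = w * g ∧ w * h = h * w ∧ h' = h := by
  haveI := c.normal
  obtain ⟨m, hm1, hm2⟩ := c.exists_m
  have hum : u ^ m = u := by
    have h1 : m = p * (m / p) + 1 := by
      have := Nat.div_add_mod m p
      rw [hm2] at this
      exact this.symm
    rw [h1, pow_succ, pow_mul, c.hVexp u c.hu, one_pow, one_mul]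
  have hpowH : ∀ a ∈ H, a ^ m = 1 := by
    intro a ha
    obtain ⟨k, rfl⟩ := hm1
    rw [pow_mul, c.pow_G (c.hHG ha), one_pow]
  have e1 : (u * h) ^ m = u := by
    have hc : Commute u h := (c.hHu h hh).symm
    rw [hc.mul_pow, hum, hpowH h hh, mul_one]
  have e2 : (u * h') ^ m = u := by
    have hc : Commute u h' := (c.hHu h' hh').symm
    rw [hc.mul_pow, hum, hpowH h' hh', mul_one]
  have hxu : x * u * x⁻¹ = u := by
    have : (x * (u * h) * x⁻¹) ^ m = (u * h') ^ m := by rw [hx]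
    rw [conj_pow, e1, e2] at this
    exact this
  have hxh : x * h * x⁻¹ = h' := by
    have h1 : x * (u * h) * x⁻¹ = (x * u * x⁻¹) * (x * h * x⁻¹) := by group
    rw [h1, hxu] at hx
    exact mul_left_cancel hx
  obtain ⟨⟨⟨w, hw⟩, ⟨g, hg⟩⟩, hwg, -⟩ := c.hGV.existsUnique x
  simp only at hwg
  have hgu : g * u = u * g := by
    have h1 : w * g * u * (w * g)⁻¹ = u := by rw [hwg]; exact hxu
    have h2 : g * u * g⁻¹ = w⁻¹ * u * w := by
      have : g * u * g⁻¹ = w⁻¹ * (w * g * u * (w * g)⁻¹) * w := by group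
      rw [this, h1]
    have h3 : w⁻¹ * u * w = u := by
      have := c.hVab u c.hu w hw
      calc w⁻¹ * u * w = w⁻¹ * (u * w) := by group
        _ = w⁻¹ * (w * u) := by rw [this]
        _ = u := by group
    rw [h3] at h2
    calc g * u = g * u * g⁻¹ * g := by group
      _ = u * g := by rw [h2]
  have hgH : g ∈ H := c.hHmax g hg hgu
  have hwh : w * h * w⁻¹ = h' := by
    have h1 : x * h * x⁻¹ = w * (g * h * g⁻¹) * w⁻¹ := by rw [← hwg]; group
    have h2 : g * h * g⁻¹ = h := by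
      rw [c.hHab g hgH h hh]; group
    rw [h1, h2] at hxh
    exact hxh
  have hmem : h⁻¹ * h' ∈ V ⊓ G := by
    constructor
    · have h1 : h⁻¹ * h' = (h⁻¹ * w * h⁻¹⁻¹) * w⁻¹ := by rw [← hwh]; group
      rw [h1]
      exact V.mul_mem (c.normal.conj_mem w hw h⁻¹) (V.inv_mem hw)
    · exact G.mul_mem (G.inv_mem (c.hHG hh)) (c.hHG hh')
  have hdisj := c.hGV.disjoint
  have h1 : h⁻¹ * h' = 1 := by
    have := (Subgroup.disjoint_def.mp hdisj) hmem.1 hmem.2
    exact this
  have heq : h' = h := by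
    have := congrArg (fun y => h * y) h1
    simp only [mul_inv_cancel_left, mul_one] at this
    exact this
  refine ⟨w, hw, g, hgH, hwg.symm, ?_, heq⟩
  rw [heq] at hwh
  calc w * h = w * h * w⁻¹ * w := by group
    _ = h * w := by rw [hwh]

theorem Config.eq_of_isConj (c : Config p V G H u) {h h' : X} (hh : h ∈ H) (hh' : h' ∈ H)
    (hc : IsConj (u * h) (u * h')) : h = h' := by
  obtain ⟨x, hx⟩ := isConj_iff.mp hc
  obtain ⟨w, -, g, -, -, -, heq⟩ := c.core hh hh' hx
  exact heq.symm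

theorem Config.card_centralizer (c : Config p V G H u) {h : X} (hh : h ∈ H) :
    Nat.card (Subgroup.centralizer ({u * h} : Set X)) =
      Nat.card {w : V // (w : X) * h = h * w} * Nat.card H := by
  rw [← Nat.card_prod]
  symm
  apply Nat.card_congr
  refine Equiv.ofBijective
    (fun y => ⟨(y.1.1 : X) * (y.2 : X), ?_⟩) ⟨?_, ?_⟩
  · rw [Subgroup.mem_centralizer_singleton_iff]
    have c1 : Commute (y.1.1 : X) u := c.hVab _ y.1.1.2 _ c.hu
    have c2 : Commute (y.1.1 : X) h := y.1.2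
    have c3 : Commute (y.2 : X) u := c.hHu _ y.2.2
    have c4 : Commute (y.2 : X) h := c.hHab _ y.2.2 _ hh
    exact (c1.mul_right c2).mul_left (c3.mul_right c4)
  · rintro ⟨⟨⟨w, hw⟩, hwh⟩, ⟨g, hg⟩⟩ ⟨⟨⟨w', hw'⟩, hwh'⟩, ⟨g', hg'⟩⟩ hy
    have hy' : w * g = w' * g' := congrArg Subtype.val hy
    have hmem : w'⁻¹ * w ∈ V ⊓ G := by
      constructor
      · exact V.mul_mem (V.inv_mem hw') hw
      · have : w'⁻¹ * w = g' * g⁻¹ := by
          calc w'⁻¹ * w = w'⁻¹ * (w * g) * g⁻¹ := by group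
            _ = w'⁻¹ * (w' * g') * g⁻¹ := by rw [hy']
            _ = g' * g⁻¹ := by group
        rw [this]
        exact G.mul_mem (c.hHG hg') (G.inv_mem (c.hHG hg))
    have h1 : w'⁻¹ * w = 1 := (Subgroup.disjoint_def.mp c.hGV.disjoint) hmem.1 hmem.2
    have ew : w = w' := by
      have := congrArg (fun y => w' * y) h1
      simp only [mul_inv_cancel_left, mul_one] at this
      exact this
    subst ew
    have eg : g = g' := mul_left_cancel hy'
    subst eg
    rfl
  · rintro ⟨y, hy⟩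
    rw [Subgroup.mem_centralizer_singleton_iff] at hy
    have hy' : y * (u * h) * y⁻¹ = u * h := by
      rw [hy]; group
    obtain ⟨w, hw, g, hg, hyw, hwh, -⟩ := c.core hh hh hy'
    refine ⟨(⟨⟨w, hw⟩, hwh⟩, ⟨g, hg⟩), ?_⟩
    apply Subtype.ext
    exact hyw.symm

end Conj

end Cfsg.Agent.Lib.Helper6.Kgv
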