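import Mathlib
import Cfsg.Agent.Lib.Helper6.KgvF
import Cfsg.Agent.Lib.Helper6.SecondOrth
import Cfsg.Agent.Lib.Helper6.MulCop1
import Cfsg.Agent.Lib.Helper6.Multiplicity

/-! Character sums over the elements `u * h`: the orthogonality identity, and the
decomposition of an irreducible character on an abelian subgroup. -/

set_option autoImplicit false

namespace Cfsg.Agent.Lib.Helper6.Kgv

open scoped ComplexConjugate
open Cfsg.Agent.Lib.Helper6

universe u

section Orth

variable {X : Type u} [Group X] [Finite X] {p : ℕ} [Fact p.Prime]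
  {V G H : Subgroup X} {u : X}

theorem norm_sq_eq_mul_conj (z : ℂ) : ((‖z‖ ^ 2 : ℝ) : ℂ) = z * conj z := by
  rw [Complex.mul_conj, Complex.normSq_eq_norm_sq]

/-- The orthogonality identity. -/
theorem Config.sum_sq (c : Config p V G H u) [Fintype (Cfsg.IrrCharacter X)] [Fintype H]
    (δ : H → ℂ) :
    ∑ χ : Cfsg.IrrCharacter X, ‖∑ h : H, (χ : X → ℂ) (u * h) * conj (δ h)‖ ^ 2 =
      (Nat.card H : ℝ) *
        ∑ h : H, (Nat.card {w : V // (w : X) * (h : X) = (h : X) * w} : ℝ) * ‖δ h‖ ^ 2 := by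
  classical
  haveI : Fintype X := Fintype.ofFinite X
  apply Complex.ofReal_injective
  push_cast
  have e1 : ∀ χ : Cfsg.IrrCharacter X,
      ((‖∑ h : H, (χ : X → ℂ) (u * h) * conj (δ h)‖ : ℂ)) ^ 2 =
      ∑ h : H, ∑ h' : H, (conj (δ h) * δ h') *
        ((χ : X → ℂ) (u * h) * conj ((χ : X → ℂ) (u * h'))) := by
    intro χ
    have := norm_sq_eq_mul_conj (∑ h : H, (χ : X → ℂ) (u * h) * conj (δ h))
    push_cast at this
    rw [this, map_sum, Finset.sum_mul_sum]
    apply Finset.sum_congr rfl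
    intro h _
    apply Finset.sum_congr rfl
    intro h' _
    rw [map_mul, Complex.conj_conj]
    ring
  rw [Finset.sum_congr rfl (fun χ _ => e1 χ)]
  rw [Finset.sum_comm]
  rw [Finset.mul_sum]
  apply Finset.sum_congr rfl
  intro h _
  rw [Finset.sum_comm]
  rw [Finset.sum_eq_single h]
  · rw [← Finset.mul_sum, (sum_irr_mul_conj (u * (h : X)) (u * (h : X))).1 (IsConj.refl _),
      c.card_centralizer h.2]
    have := norm_sq_eq_mul_conj (δ h)
    push_cast at this ⊢
    rw [this]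
    ring
  · intro h' _ hne
    rw [← Finset.mul_sum]
    have hnc : ¬ IsConj (u * (h : X)) (u * (h' : X)) := by
      intro hc
      apply hne
      exact (Subtype.ext (c.eq_of_isConj h.2 h'.2 hc)).symm
    rw [(sum_irr_mul_conj (u * (h : X)) (u * (h' : X))).2 hnc, mul_zero]
  · intro hh; exact absurd (Finset.mem_univ h) hh

end Orth

section Lin

variable {X : Type u} [Group X] [Finite X]

/-- A character restricted to an abelian subgroup is a natural combination of
homomorphisms into `ℂˣ`. -/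
theorem exists_linear_decomp {χ : X → ℂ} (hχ : Cfsg.IsCharacter X χ) (K : Subgroup X)
    (hK : ∀ a ∈ K, ∀ b ∈ K, a * b = b * a) :
    ∃ (ι : Type u) (_ : Fintype ι) (m : ι → ℕ) (Λ : ι → (K →* ℂˣ)),
      ∀ y : K, χ y = ∑ i, (m i : ℂ) * ((Λ i y : ℂˣ) : ℂ) := by
  classical
  haveI : Fintype K := Fintype.ofFinite _
  haveI : Fintype (Cfsg.IrrCharacter K) := Fintype.ofFinite _
  have hc : IsMulCommutative K := by
    refine ⟨⟨?_⟩⟩
    intro a b
    exact Subtype.ext (hK a a.2 b b.2)
  obtain ⟨m, hm, -⟩ := IsCharacter.exists_mult (IsCharacter.restrict K hχ)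
  refine ⟨Cfsg.IrrCharacter K, inferInstance, m,
    fun θ => linearCharHom (IsIrrCharacter.isCharacter θ.2)
      (MulCop.apply_one_eq_one_of_comm hc θ), ?_⟩
  intro y
  have := apply_eq_sum_mult hm y
  rw [this]
  rfl

/-- Orthogonality of homomorphisms into `ℂˣ`. -/
theorem hom_orth {H : Type*} [Group H] [Fintype H] (lam κ : H →* ℂˣ) :
    ∑ h : H, ((lam h : ℂˣ) : ℂ) * conj ((κ h : ℂˣ) : ℂ) =
      if lam = κ then (Fintype.card H : ℂ) else 0 := by
  classical
  have hconj : ∀ h : H, conj ((κ h : ℂˣ) : ℂ) = (((κ h)⁻¹ : ℂˣ) : ℂ) := by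
    intro h
    have h1 : ((κ h : ℂˣ) : ℂ) ^ Fintype.card H = 1 := by
      rw [← Units.val_pow_eq_pow_val, ← map_pow, pow_card_eq_one, map_one, Units.val_one]
    have h2 : ‖((κ h : ℂˣ) : ℂ)‖ = 1 :=
      Complex.norm_eq_one_of_pow_eq_one h1 Fintype.card_ne_zero
    rw [Units.val_inv_eq_inv_val, Complex.inv_eq_conj h2]
  have e1 : ∀ h : H, ((lam h : ℂˣ) : ℂ) * conj ((κ h : ℂˣ) : ℂ) =
      ((Units.coeHom ℂ).comp (lam * κ⁻¹)) h := by
    intro h
    rw [hconj]
    simp
  rw [Finset.sum_congr rfl (fun h _ => e1 h)]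
  by_cases hlk : lam = κ
  · rw [if_pos hlk, hlk]
    have h1 : κ * κ⁻¹ = 1 := mul_inv_cancel κ
    rw [h1]
    simp
  · rw [if_neg hlk]
    apply sum_hom_units_eq_zero
    intro h1
    apply hlk
    ext h
    have := DFunLike.congr_fun h1 h
    simp only [MonoidHom.coe_comp, Function.comp_apply, MonoidHom.mul_apply,
      MonoidHom.inv_apply, MonoidHom.one_apply] at this
    have h2 : lam h * (κ h)⁻¹ = 1 := by
      apply Units.ext
      simpa using this
    rw [mul_inv_eq_one.mp h2]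

end Lin

end Cfsg.Agent.Lib.Helper6.Kgv
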