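import Mathlib
import Cfsg.Agent.Lib.Helper6.RvDefs
import Cfsg.Agent.Lib.Helper6.SecondOrth
import Cfsg.Agent.Lib.Helper6.KgvG
import Cfsg.Agent.Lib.Helper4.ConjClass

/-! Conjugacy and centralizers of the elements `u * h` in a split extension `V ⋊ G` with `V`
an abelian normal `p`-subgroup, `G` a `p'`-complement, `u ∈ V` and `h` in the (possibly
nonabelian) stabilizer of `u` in `G`; the orthogonality identity for class functions of the
stabilizer. -/

set_option autoImplicit false

namespace Cfsg.Agent.Lib.Helper6.Rv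

open scoped ComplexConjugate
open Cfsg.Agent.Lib.Helper6

universe u

section Conj

variable {X : Type u} [Group X] [Finite X] {p : ℕ} [Fact p.Prime]
  {V G H : Subgroup X} {u : X}

theorem NConfig.pow_G (c : NConfig p V G H u) {g : X} (hg : g ∈ G) : g ^ Nat.card G = 1 := by
  have := pow_card_eq_one' (G := G) (x := ⟨g, hg⟩)
  have h2 : (((⟨g, hg⟩ : G) ^ Nat.card G : G) : X) = ((1 : G) : X) := by rw [this]
  rwa [Subgroup.coe_pow, Subgroup.coe_one] at h2

theorem NConfig.exists_m (c : NConfig p V G H u) :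
    ∃ m : ℕ, Nat.card G ∣ m ∧ m % p = 1 := by
  have hp : p.Prime := Fact.out
  refine ⟨Nat.card G ^ (p - 1), dvd_pow_self _ (by have := hp.two_le; omega), ?_⟩
  have hcop : Nat.Coprime (Nat.card G) p :=
    ((Nat.Prime.coprime_iff_not_dvd hp).mpr c.hGp).symm
  have h := Nat.ModEq.pow_totient hcop
  rw [Nat.totient_prime hp] at h
  have h1 : 1 % p = 1 := Nat.mod_eq_of_lt hp.one_lt
  have h2 : Nat.card G ^ (p - 1) % p = 1 % p := h
  rw [h2, h1]

theorem NConfig.core (c : NConfig p V G H u) {x h h' : X} (hh : h ∈ H) (hh' : h' ∈ H)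
    (hx : x * (u * h) * x⁻¹ = u * h') :
    ∃ w ∈ V, ∃ g ∈ H, x = w * g ∧ w * h' = h' * w ∧ h' = g * h * g⁻¹ := by
  haveI := c.normal
  obtain ⟨m, hm1, hm2⟩ := c.exists_m
  have hum : u ^ m = u := by
    have h1 : m = p * (m / p) + 1 := by
      have := Nat.div_add_mod m p
      rw [hm2] at this
      exact this.symm
    rw [h1, pow_succ, pow_mul, c.hVexp u c.hu, one_pow, one_mul]
  have hpowH : ∀ a ∈ H, a ^ m = 1 := by
    intro a ha
    obtain ⟨k, rfl⟩ := hm1
    rw [pow_mul, c.pow_G (c.hHG ha), one_pow]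
  have e1 : (u * h) ^ m = u := by
    have hc : Commute u h := (c.hHu h hh).symm
    rw [hc.mul_pow, hum, hpowH h hh, mul_one]
  have e2 : (u * h') ^ m = u := by
    have hc : Commute u h' := (c.hHu h' hh').symm
    rw [hc.mul_pow, hum, hpowH h' hh', mul_one]
  have hxu : x * u * x⁻¹ = u := by
    have : (x * (u * h) * x⁻¹) ^ m = (u * h') ^ m := by rw [hx]
    rw [conj_pow, e1, e2] at this
    exact this
  have hxh : x * h * x⁻¹ = h' := by
    have h1 : x * (u * h) * x⁻¹ = (x * u * x⁻¹) * (x * h * x⁻¹) := by group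
    rw [h1, hxu] at hx
    exact mul_left_cancel hx
  obtain ⟨⟨⟨w, hw⟩, ⟨g, hg⟩⟩, hwg, -⟩ := c.hGV.existsUnique x
  simp only at hwg
  have hgu : g * u = u * g := by
    have h1 : w * g * u * (w * g)⁻¹ = u := by rw [hwg]; exact hxu
    have h2 : g * u * g⁻¹ = w⁻¹ * u * w := by
      have : g * u * g⁻¹ = w⁻¹ * (w * g * u * (w * g)⁻¹) * w := by group
      rw [this, h1]
    have h3 : w⁻¹ * u * w = u := by
      have := c.hVab u c.hu w hw
      calc w⁻¹ * u * w = w⁻¹ * (u * w) := by group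
        _ = w⁻¹ * (w * u) := by rw [this]
        _ = u := by group
    rw [h3] at h2
    calc g * u = g * u * g⁻¹ * g := by group
      _ = u * g := by rw [h2]
  have hgH : g ∈ H := c.hHmax g hg hgu
  have hwh : w * (g * h * g⁻¹) * w⁻¹ = h' := by
    have h1 : x * h * x⁻¹ = w * (g * h * g⁻¹) * w⁻¹ := by rw [← hwg]; group
    rw [h1] at hxh
    exact hxh
  have hh1 : g * h * g⁻¹ ∈ H := H.mul_mem (H.mul_mem hgH hh) (H.inv_mem hgH)
  have hmem : (g * h * g⁻¹)⁻¹ * h' ∈ V ⊓ G := by
    constructor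
    · have h1 : (g * h * g⁻¹)⁻¹ * h' =
          ((g * h * g⁻¹)⁻¹ * w * (g * h * g⁻¹)⁻¹⁻¹) * w⁻¹ := by rw [← hwh]; group
      rw [h1]
      exact V.mul_mem (c.normal.conj_mem w hw _) (V.inv_mem hw)
    · exact G.mul_mem (G.inv_mem (c.hHG hh1)) (c.hHG hh')
  have hdisj := c.hGV.disjoint
  have h1 : (g * h * g⁻¹)⁻¹ * h' = 1 := (Subgroup.disjoint_def.mp hdisj) hmem.1 hmem.2
  have heq : h' = g * h * g⁻¹ := by
    have := congrArg (fun y => (g * h * g⁻¹) * y) h1
    simp only [mul_inv_cancel_left, mul_one] at this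
    exact this
  refine ⟨w, hw, g, hgH, hwg.symm, ?_, heq⟩
  rw [← heq] at hwh
  calc w * h' = w * h' * w⁻¹ * w := by group
    _ = h' * w := by rw [hwh]

theorem NConfig.isConj_iff (c : NConfig p V G H u) (h h' : H) :
    IsConj (u * (h : X)) (u * (h' : X)) ↔ IsConj h h' := by
  constructor
  · intro hc
    obtain ⟨x, hx⟩ := _root_.isConj_iff.mp hc
    obtain ⟨w, -, g, hg, -, -, heq⟩ := c.core h.2 h'.2 hx
    rw [_root_.isConj_iff]
    refine ⟨⟨g, hg⟩, ?_⟩
    apply Subtype.ext
    simp only [Subgroup.coe_mul, Subgroup.coe_inv]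
    exact heq.symm
  · intro hc
    obtain ⟨g, hg⟩ := _root_.isConj_iff.mp hc
    rw [_root_.isConj_iff]
    refine ⟨(g : X), ?_⟩
    have h1 : (g : X) * (h : X) * (g : X)⁻¹ = (h' : X) := by
      have := congrArg Subtype.val hg
      simpa using this
    have h2 : (g : X) * u = u * (g : X) := c.hHu g g.2
    calc (g : X) * (u * (h : X)) * (g : X)⁻¹ = ((g : X) * u) * (h : X) * (g : X)⁻¹ := by group
      _ = (u * (g : X)) * (h : X) * (g : X)⁻¹ := by rw [h2]
      _ = u * ((g : X) * (h : X) * (g : X)⁻¹) := by group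
      _ = u * (h' : X) := by rw [h1]

theorem NConfig.card_centralizer (c : NConfig p V G H u) (h : H) :
    Nat.card (Subgroup.centralizer ({u * (h : X)} : Set X)) =
      Nat.card {w : V // (w : X) * (h : X) = (h : X) * w} *
        Nat.card (Subgroup.centralizer ({h} : Set H)) := by
  rw [← Nat.card_prod]
  symm
  apply Nat.card_congr
  refine Equiv.ofBijective
    (fun y => ⟨(y.1.1 : X) * ((y.2 : H) : X), ?_⟩) ⟨?_, ?_⟩
  · rw [Subgroup.mem_centralizer_singleton_iff]
    have c1 : Commute (y.1.1 : X) u := c.hVab _ y.1.1.2 _ c.hu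
    have c2 : Commute (y.1.1 : X) (h : X) := y.1.2
    have c3 : Commute ((y.2 : H) : X) u := c.hHu _ (y.2 : H).2
    have c4 : Commute ((y.2 : H) : X) (h : X) := by
      have := Subgroup.mem_centralizer_singleton_iff.mp y.2.2
      have h2 := congrArg Subtype.val this
      simp only [Subgroup.coe_mul] at h2
      exact h2
    exact (c1.mul_right c2).mul_left (c3.mul_right c4)
  · rintro ⟨⟨⟨w, hw⟩, hwh⟩, ⟨⟨g, hg⟩, hgc⟩⟩ ⟨⟨⟨w', hw'⟩, hwh'⟩, ⟨⟨g', hg'⟩, hgc'⟩⟩ hy
    have hy' : w * g = w' * g' := congrArg Subtype.val hy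
    have hmem : w'⁻¹ * w ∈ V ⊓ G := by
      constructor
      · exact V.mul_mem (V.inv_mem hw') hw
      · have : w'⁻¹ * w = g' * g⁻¹ := by
          calc w'⁻¹ * w = w'⁻¹ * (w * g) * g⁻¹ := by group
            _ = w'⁻¹ * (w' * g') * g⁻¹ := by rw [hy']
            _ = g' * g⁻¹ := by group
        rw [this]
        exact G.mul_mem (c.hHG hg') (G.inv_mem (c.hHG hg))
    have h1 : w'⁻¹ * w = 1 := (Subgroup.disjoint_def.mp c.hGV.disjoint) hmem.1 hmem.2
    have ew : w = w' := by
      have := congrArg (fun y => w' * y) h1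
      simp only [mul_inv_cancel_left, mul_one] at this
      exact this
    subst ew
    have eg : g = g' := mul_left_cancel hy'
    subst eg
    rfl
  · rintro ⟨y, hy⟩
    rw [Subgroup.mem_centralizer_singleton_iff] at hy
    have hy' : y * (u * (h : X)) * y⁻¹ = u * (h : X) := by
      rw [hy]; group
    obtain ⟨w, hw, g, hg, hyw, hwh, hgh⟩ := c.core h.2 h.2 hy'
    have hgc : (⟨g, hg⟩ : H) ∈ Subgroup.centralizer ({h} : Set H) := by
      rw [Subgroup.mem_centralizer_singleton_iff]
      apply Subtype.ext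
      simp only [Subgroup.coe_mul]
      calc g * (h : X) = g * (h : X) * g⁻¹ * g := by group
        _ = (h : X) * g := by rw [← hgh]
    refine ⟨(⟨⟨w, hw⟩, hwh⟩, ⟨⟨g, hg⟩, hgc⟩), ?_⟩
    apply Subtype.ext
    exact hyw.symm

end Conj

section Orth

variable {X : Type u} [Group X] [Finite X] {p : ℕ} [Fact p.Prime]
  {V G H : Subgroup X} {u : X}

/-- The orthogonality identity for class functions of the stabilizer. -/
theorem NConfig.sum_sq (c : NConfig p V G H u) [Fintype (Cfsg.IrrCharacter X)] [Fintype H]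
    (δ : H → ℂ) (hδ : Cfsg.IsClassFunction H δ) :
    ∑ χ : Cfsg.IrrCharacter X, ‖∑ h : H, (χ : X → ℂ) (u * h) * conj (δ h)‖ ^ 2 =
      (Nat.card H : ℝ) *
        ∑ h : H, (Nat.card {w : V // (w : X) * (h : X) = (h : X) * w} : ℝ) * ‖δ h‖ ^ 2 := by
  classical
  haveI : Fintype X := Fintype.ofFinite X
  apply Complex.ofReal_injective
  push_cast
  have e1 : ∀ χ : Cfsg.IrrCharacter X,
      ((‖∑ h : H, (χ : X → ℂ) (u * h) * conj (δ h)‖ : ℂ)) ^ 2 =
      ∑ h : H, ∑ h' : H, (conj (δ h) * δ h') *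
        ((χ : X → ℂ) (u * h) * conj ((χ : X → ℂ) (u * h'))) := by
    intro χ
    have := Kgv.norm_sq_eq_mul_conj (∑ h : H, (χ : X → ℂ) (u * h) * conj (δ h))
    push_cast at this
    rw [this, map_sum, Finset.sum_mul_sum]
    apply Finset.sum_congr rfl
    intro h _
    apply Finset.sum_congr rfl
    intro h' _
    rw [map_mul, Complex.conj_conj]
    ring
  rw [Finset.sum_congr rfl (fun χ _ => e1 χ)]
  rw [Finset.sum_comm]
  rw [Finset.mul_sum]
  apply Finset.sum_congr rfl
  intro h _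
  rw [Finset.sum_comm]
  -- the inner sum over `h'`
  have e2 : ∀ h' : H, ∑ χ : Cfsg.IrrCharacter X, (conj (δ h) * δ h') *
        ((χ : X → ℂ) (u * h) * conj ((χ : X → ℂ) (u * h'))) =
      if IsConj h' h then (conj (δ h) * δ h) *
        (Nat.card (Subgroup.centralizer ({u * (h : X)} : Set X)) : ℂ) else 0 := by
    intro h'
    rw [← Finset.mul_sum]
    split_ifs with hc
    · rw [(sum_irr_mul_conj (u * (h : X)) (u * (h' : X))).1 ((c.isConj_iff h h').mpr hc.symm)]
      obtain ⟨g, hg⟩ := _root_.isConj_iff.mp hc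
      have : δ h = δ h' := by rw [← hg]; exact (hδ h' g)
      rw [this]
    · have hnc : ¬ IsConj (u * (h : X)) (u * (h' : X)) := fun hc' =>
        hc ((c.isConj_iff h h').mp hc').symm
      rw [(sum_irr_mul_conj (u * (h : X)) (u * (h' : X))).2 hnc, mul_zero]
  rw [Finset.sum_congr rfl (fun h' _ => e2 h'), Finset.sum_ite, Finset.sum_const_zero, add_zero,
    Finset.sum_const, nsmul_eq_mul, c.card_centralizer h]
  have hcount : ((Finset.univ.filter (fun h' : H => IsConj h' h)).card : ℂ) *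
      (Nat.card (Subgroup.centralizer ({h} : Set H)) : ℂ) = (Nat.card H : ℂ) := by
    have h1 := Cfsg.Agent.Lib.Helper4.card_carrier_mul_card_centralizer h
    have h2 : Nat.card (ConjClasses.mk h).carrier =
        (Finset.univ.filter (fun h' : H => IsConj h' h)).card := by
      rw [Nat.card_eq_fintype_card, ← Fintype.card_subtype]
      apply Fintype.card_congr
      apply Equiv.subtypeEquivRight
      intro a
      rw [ConjClasses.mem_carrier_iff_mk_eq, ConjClasses.mk_eq_mk_iff_isConj]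
    rw [h2] at h1
    exact_mod_cast h1
  have := Kgv.norm_sq_eq_mul_conj (δ h)
  push_cast at this ⊢
  rw [this]
  linear_combination ((Nat.card {w : V // (w : X) * (h : X) = (h : X) * w} : ℂ) *
    (conj (δ h) * δ h)) * hcount

end Orth

end Cfsg.Agent.Lib.Helper6.Rv
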