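import Mathlib
import Cfsg.Agent.Lib.Helper6.RvKnorrA
import Cfsg.Agent.Lib.Helper6.KgvE
import Cfsg.Agent.Lib.Helper6.CenterIndex
import Cfsg.Agent.Lib.Helper6.GenChar
import Cfsg.Agent.Lib.Helper6.GenCharOps
import Cfsg.Agent.Lib.Helper6.Multiplicity
import Cfsg.Agent.Lib.Helper6.BlkDefect

/-! Auxiliary results for the class number bound with a nonabelian stabilizer: sums of roots of
unity with integer coefficients, central elements and irreducible characters, integrality of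
inner products. -/

set_option autoImplicit false

namespace Cfsg.Agent.Lib.Helper6.Rv

open scoped ComplexConjugate
open Cfsg.Agent.Lib.Helper6

universe u

theorem ru_bound_int (p : ℕ) [Fact p.Prime] {T : Type*} [Fintype T] (n : T → ℤ) (ω : T → ℂ)
    (hω : ∀ t, ω t ^ p = 1) (hN : ¬ (p : ℤ) ∣ ∑ t, n t) :
    ((p : ℝ) - 1) ≤ ∑ k ∈ Finset.Ico 1 p, ‖∑ t, (n t : ℂ) * ω t ^ k‖ ^ 2 := by
  classical
  have hp : p.Prime := Fact.out
  haveI : NeZero p := ⟨hp.ne_zero⟩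
  set ζ : ℂ := Complex.exp (2 * Real.pi * Complex.I / p) with hζdef
  have hζ : IsPrimitiveRoot ζ p := Complex.isPrimitiveRoot_exp p hp.ne_zero
  have hex : ∀ t, ∃ i < p, ζ ^ i = ω t := fun t => hζ.eq_pow_of_pow_eq_one (hω t)
  choose j hj hjω using hex
  let J : T → Fin p := fun t => ⟨j t, hj t⟩
  let c : Fin p → ℤ := fun i => ∑ t ∈ Finset.univ.filter (fun t => J t = i), n t
  have hcsum : ∑ i, c i = ∑ t, n t := Finset.sum_fiberwise Finset.univ J n
  have hfk : ∀ k : ℕ, ∑ t, (n t : ℂ) * ω t ^ k = ∑ i : Fin p, (c i : ℂ) * (ζ ^ (i : ℕ)) ^ k := by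
    intro k
    rw [← Finset.sum_fiberwise Finset.univ J (fun t => (n t : ℂ) * ω t ^ k)]
    apply Finset.sum_congr rfl
    intro i _
    show _ = ((∑ t ∈ Finset.univ.filter (fun t => J t = i), n t : ℤ) : ℂ) * (ζ ^ (i : ℕ)) ^ k
    rw [Int.cast_sum, Finset.sum_mul]
    apply Finset.sum_congr rfl
    intro t ht
    rw [Finset.mem_filter] at ht
    have : ζ ^ (i : ℕ) = ω t := by
      rw [← ht.2]
      exact hjω t
    rw [this]
  have hnorm1 : ‖ζ‖ = 1 := Complex.norm_eq_one_of_pow_eq_one hζ.pow_eq_one hp.ne_zero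
  have hconj : conj ζ = ζ⁻¹ := (Complex.inv_eq_conj hnorm1).symm
  -- Parseval
  have hpars : ∑ k ∈ Finset.range p,
      ((∑ i : Fin p, (c i : ℂ) * (ζ ^ (i : ℕ)) ^ k) *
        conj (∑ i : Fin p, (c i : ℂ) * (ζ ^ (i : ℕ)) ^ k)) =
      (p : ℂ) * ∑ i : Fin p, (c i : ℂ) ^ 2 := by
    have e1 : ∀ k : ℕ, (∑ i : Fin p, (c i : ℂ) * (ζ ^ (i : ℕ)) ^ k) *
        conj (∑ i : Fin p, (c i : ℂ) * (ζ ^ (i : ℕ)) ^ k) =
        ∑ i : Fin p, ∑ l : Fin p, (c i : ℂ) * (c l : ℂ) * (ζ ^ (i : ℕ) * (ζ ^ (l : ℕ))⁻¹) ^ k := by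
      intro k
      rw [map_sum, Finset.sum_mul_sum]
      apply Finset.sum_congr rfl
      intro i _
      apply Finset.sum_congr rfl
      intro l _
      rw [map_mul, map_pow, map_pow, map_intCast, hconj, mul_pow, inv_pow, inv_pow]
      ring
    rw [Finset.sum_congr rfl (fun k _ => e1 k), Finset.sum_comm]
    rw [Finset.mul_sum]
    apply Finset.sum_congr rfl
    intro i _
    rw [Finset.sum_comm]
    rw [Finset.sum_eq_single i]
    · have : ζ ^ (i : ℕ) * (ζ ^ (i : ℕ))⁻¹ = 1 :=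
        mul_inv_cancel₀ (pow_ne_zero _ (hζ.ne_zero hp.ne_zero))
      simp only [this, one_pow, mul_one, Finset.sum_const, Finset.card_range, nsmul_eq_mul]
      ring
    · intro l _ hli
      rw [← Finset.mul_sum]
      have hz1 : ζ ^ (i : ℕ) * (ζ ^ (l : ℕ))⁻¹ ≠ 1 := by
        intro h1
        apply hli
        have h2 : ζ ^ (i : ℕ) = ζ ^ (l : ℕ) := by
          have hne : ζ ^ (l : ℕ) ≠ 0 := pow_ne_zero _ (hζ.ne_zero hp.ne_zero)
          field_simp at h1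
          exact h1
        exact (Fin.ext (hζ.pow_inj i.2 l.2 h2)).symm
      have hzp : (ζ ^ (i : ℕ) * (ζ ^ (l : ℕ))⁻¹) ^ p = 1 := by
        rw [mul_pow, inv_pow, ← pow_mul, ← pow_mul, mul_comm (i : ℕ), mul_comm (l : ℕ),
          pow_mul, pow_mul, hζ.pow_eq_one, one_pow, one_pow, inv_one, mul_one]
      rw [Kgv.geom_sum_root p _ hzp hz1, mul_zero]
    · intro h; exact absurd (Finset.mem_univ i) h
  -- convert to reals
  have hreal : ∀ z : ℂ, z * conj z = ((‖z‖ ^ 2 : ℝ) : ℂ) := by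
    intro z
    rw [Complex.mul_conj, Complex.normSq_eq_norm_sq]
  have hpars' : ∑ k ∈ Finset.range p, ‖∑ t, (n t : ℂ) * ω t ^ k‖ ^ 2 =
      (p : ℝ) * ∑ i : Fin p, (c i : ℝ) ^ 2 := by
    have h1 : ((∑ k ∈ Finset.range p, ‖∑ t, (n t : ℂ) * ω t ^ k‖ ^ 2 : ℝ) : ℂ) =
        (((p : ℝ) * ∑ i : Fin p, (c i : ℝ) ^ 2 : ℝ) : ℂ) := by
      push_cast
      rw [← hpars]
      apply Finset.sum_congr rfl
      intro k _
      rw [← hfk k]
      have := hreal (∑ t, (n t : ℂ) * ω t ^ k)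
      rw [this]
      push_cast
      rfl
    exact Complex.ofReal_injective h1
  have hzero : ‖∑ t, (n t : ℂ) * ω t ^ 0‖ ^ 2 = ((∑ t, n t : ℤ) : ℝ) ^ 2 := by
    simp only [pow_zero, mul_one]
    rw [← Int.cast_sum, Complex.norm_intCast, sq_abs]
  have hsplit : ∑ k ∈ Finset.range p, ‖∑ t, (n t : ℂ) * ω t ^ k‖ ^ 2 =
      ‖∑ t, (n t : ℂ) * ω t ^ 0‖ ^ 2 + ∑ k ∈ Finset.Ico 1 p, ‖∑ t, (n t : ℂ) * ω t ^ k‖ ^ 2 := by
    rw [Finset.range_eq_Ico, Finset.sum_eq_sum_Ico_succ_bot hp.pos]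
  have hint := Kgv.int_ineq p hp.pos c (by rw [hcsum]; exact hN)
  have hint' : ((p : ℝ) - 1) ≤ (p : ℝ) * ∑ i : Fin p, (c i : ℝ) ^ 2 - ((∑ t, n t : ℤ) : ℝ) ^ 2 := by
    have h1 : (((p : ℤ) - 1 : ℤ) : ℝ) ≤
        ((p * ∑ i, (c i) ^ 2 - (∑ i, c i) ^ 2 : ℤ) : ℝ) := by
      exact_mod_cast hint
    rw [← hcsum]
    push_cast at h1 ⊢
    exact h1
  rw [hsplit, hzero] at hpars'
  linarith

section Central

variable {K : Type u} [Group K] [Finite K]

/-- a central element of order dividing `p` acts on an irreducible character through a `p`-th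
root of unity -/
theorem apply_central_pow_mul {ψ : K → ℂ} (hψ : Cfsg.IsIrrCharacter K ψ) {z : K}
    (hz : z ∈ Subgroup.center K) {p : ℕ} (hzp : z ^ p = 1) :
    ∃ c : ℂ, c ^ p = 1 ∧ ∀ (k : ℕ) (y : K), ψ (z ^ k * y) = c ^ k * ψ y := by
  classical
  haveI : Fintype K := Fintype.ofFinite K
  have h1ne := IsIrrCharacter.apply_one_ne_zero hψ
  obtain ⟨n, ρ, hirr, rfl⟩ := hψ
  haveI := hirr
  obtain ⟨c, hc, -⟩ := exists_scalar_of_mem_center ρ hz
  have hpow : ∀ (k : ℕ) (y : K), ρ.character (z ^ k * y) = c ^ k * ρ.character y := by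
    intro k y
    unfold Representation.character
    rw [map_mul, map_pow, hc, smul_pow]
    have : (LinearMap.id : (Fin n → ℂ) →ₗ[ℂ] (Fin n → ℂ)) ^ k = 1 := by
      show (1 : Module.End ℂ (Fin n → ℂ)) ^ k = 1
      exact one_pow k
    rw [this, smul_mul_assoc, one_mul, map_smul, smul_eq_mul]
  refine ⟨c, ?_, hpow⟩
  have h1 := hpow p 1
  rw [hzp, one_mul] at h1
  have h2 : ρ.character 1 * (c ^ p - 1) = 0 := by
    rw [mul_sub, mul_one, mul_comm, ← h1, sub_self]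
  rcases mul_eq_zero.mp h2 with h | h
  · exact absurd h h1ne
  · exact sub_eq_zero.mp h

end Central

section Integrality

variable {K : Type u} [Group K] [Fintype K]

/-- the inner product of two generalized characters is an integer -/
theorem classInner_int_of_isGeneralizedCharacter {a b : K → ℂ}
    (ha : Cfsg.IsGeneralizedCharacter K a) (hb : Cfsg.IsGeneralizedCharacter K b) :
    ∃ z : ℤ, Cfsg.classInner a b = z := by
  classical
  haveI : Fintype (Cfsg.IrrCharacter K) := Fintype.ofFinite _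
  obtain ⟨ca, hca, -⟩ := IsGeneralizedCharacter.exists_int_coeff ha
  obtain ⟨cb, hcb, -⟩ := IsGeneralizedCharacter.exists_int_coeff hb
  refine ⟨∑ β, ca β * cb β, ?_⟩
  rw [hca, hcb]
  exact classInner_sum_int ca cb

/-- an integer which is `p` times an algebraic integer is divisible by `p` -/
theorem int_dvd_of_eq_mul_isIntegral {p : ℕ} (hp : p ≠ 0) (a : ℤ) (E : ℂ) (hE : IsIntegral ℤ E)
    (h : (a : ℂ) = (p : ℂ) * E) : (p : ℤ) ∣ a := by
  have hp0 : (p : ℂ) ≠ 0 := by exact_mod_cast hp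
  have h5 : E = ((a : ℚ) / (p : ℚ) : ℚ) := by
    push_cast
    rw [eq_div_iff hp0, mul_comm, h]
  rw [h5] at hE
  have h6 : IsIntegral ℤ ((a : ℚ) / (p : ℚ)) :=
    (isIntegral_algebraMap_iff (algebraMap ℚ ℂ).injective).mp hE
  obtain ⟨z, hz⟩ := IsIntegrallyClosed.isIntegral_iff.mp h6
  refine ⟨z, ?_⟩
  have hpq : (p : ℚ) ≠ 0 := by exact_mod_cast hp
  have h7 : (a : ℚ) = (p : ℚ) * (z : ℚ) := by
    have : (algebraMap ℤ ℚ) z = (z : ℚ) := rfl
    rw [this] at hz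
    rw [hz]
    field_simp
  exact_mod_cast h7

end Integrality

end Cfsg.Agent.Lib.Helper6.Rv
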