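import Mathlib
import Cfsg.Agent.Lib.Helper6.RvDefs
import Cfsg.Agent.Lib.Helper6.RvGen
import Cfsg.Agent.Lib.Helper6.RvKnorrB
import Cfsg.Agent.Lib.Helper6.PRegPart
import Cfsg.Agent.Lib.Helper6.Mult

/-! `h ↦ |M : C_M(h)|` is a generalized character of a `p'`-group acting on a finite
`ZMod p`-module: it is the restriction to cosets of the `p`-regular truncation of `|M|` times
the trivial character of `M ⋊ H`. -/

set_option autoImplicit false

namespace Cfsg.Agent.Lib.Helper6.Rv

open scoped ComplexConjugate
open Cfsg.Agent.Lib.Helper6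

universe u v

section

variable {p : ℕ} [Fact p.Prime] {H : Type u} [Group H] {M : Type v} [AddCommGroup M]
  [Module (ZMod p) M]

/-- powers in the semidirect product -/
theorem mh_pow (ρ : Representation (ZMod p) H M) (k : MH ρ) (n : ℕ) :
    (k ^ n).right = k.right ^ n ∧
    Multiplicative.toAdd (k ^ n).left =
      ∑ i ∈ Finset.range n, (ρ k.right ^ i) (Multiplicative.toAdd k.left) := by
  induction n with
  | zero => simp
  | succ n ih =>
    obtain ⟨ih1, ih2⟩ := ih
    constructor
    · rw [pow_succ, SemidirectProduct.mul_right, ih1, pow_succ]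
    · rw [pow_succ, SemidirectProduct.mul_left, toAdd_mul, ih2, Finset.sum_range_succ, ih1,
        actM_apply, toAdd_ofAdd, map_pow]

theorem sub_pow_apply_mem_range (g : Module.End (ZMod p) M) (i : ℕ) (x : M) :
    x - (g ^ i) x ∈ LinearMap.range (g - LinearMap.id) := by
  induction i with
  | zero => simp
  | succ i ih =>
    have h1 : x - (g ^ (i + 1)) x =
        (x - (g ^ i) x) + (g - (LinearMap.id : M →ₗ[ZMod p] M)) (- (g ^ i) x) := by
      rw [pow_succ', LinearMap.sub_apply, LinearMap.id_apply, Module.End.mul_apply, map_neg]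
      abel
    rw [h1]
    exact Submodule.add_mem _ ih (LinearMap.mem_range_self _ _)

variable [Finite H] [Finite M]

/-- the `p`-regular elements of a coset of `M` in `M ⋊ H` -/
theorem mh_preg_iff (hcop : ¬ p ∣ Nat.card H) (ρ : Representation (ZMod p) H M) (k : MH ρ) :
    ¬ p ∣ orderOf k ↔
      Multiplicative.toAdd k.left ∈ LinearMap.range (ρ k.right - LinearMap.id) := by
  have hp : p.Prime := Fact.out
  set h := k.right with hh
  set x := Multiplicative.toAdd k.left with hx
  set r := orderOf h with hr
  have hrp : ¬ p ∣ r := fun hd => hcop (dvd_trans hd (orderOf_dvd_natCard h))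
  have hr0 : 0 < r := orderOf_pos h
  constructor
  · intro hk
    -- `k ^ r` has order dividing `p` and prime to `p`
    obtain ⟨e1, e2⟩ := mh_pow ρ k r
    have hkr : (k ^ r) ^ p = 1 := by
      obtain ⟨f1, f2⟩ := mh_pow ρ (k ^ r) p
      apply SemidirectProduct.ext
      · apply Multiplicative.toAdd.injective
        rw [f2, SemidirectProduct.one_left, e1, ← hh, hr, pow_orderOf_eq_one, map_one]
        simp only [one_pow, Module.End.one_apply, Finset.sum_const, Finset.card_range]
        have : (p : ZMod p) = 0 := ZMod.natCast_self p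
        rw [← Nat.cast_smul_eq_nsmul (ZMod p), this, zero_smul]
        rfl
      · rw [f1, e1, SemidirectProduct.one_right, ← hh, hr, pow_orderOf_eq_one, one_pow]
    have h1 : orderOf (k ^ r) ∣ p := orderOf_dvd_of_pow_eq_one hkr
    have h2 : orderOf (k ^ r) ∣ orderOf k := orderOf_pow_dvd r
    have h3 : orderOf (k ^ r) = 1 := by
      rcases (Nat.dvd_prime hp).mp h1 with h | h
      · exact h
      · exfalso
        exact hk ((dvd_of_eq h.symm).trans h2)
    have h4 : k ^ r = 1 := orderOf_eq_one_iff.mp h3
    have h5 : ∑ i ∈ Finset.range r, (ρ h ^ i) x = 0 := by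
      rw [← e2, h4]
      rfl
    -- hence `r • x` lies in the range
    have h6 : (r : ZMod p) • x ∈ LinearMap.range (ρ h - LinearMap.id) := by
      have : (r : ZMod p) • x = ∑ i ∈ Finset.range r, (x - (ρ h ^ i) x) := by
        rw [Finset.sum_sub_distrib, h5, sub_zero, Finset.sum_const, Finset.card_range,
          Nat.cast_smul_eq_nsmul]
      rw [this]
      exact Submodule.sum_mem _ (fun i _ => sub_pow_apply_mem_range (ρ h) i x)
    have hr' : (r : ZMod p) ≠ 0 := by
      rw [Ne, ZMod.natCast_eq_zero_iff]
      exact hrp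
    have h7 := Submodule.smul_mem _ ((r : ZMod p)⁻¹) h6
    rwa [smul_smul, inv_mul_cancel₀ hr', one_smul] at h7
  · rintro ⟨y, hy⟩
    -- `k` is conjugate to `inr h`
    have hconj : k = SemidirectProduct.inl (Multiplicative.ofAdd (-y)) *
        SemidirectProduct.inr h * (SemidirectProduct.inl (Multiplicative.ofAdd (-y)))⁻¹ := by
      apply SemidirectProduct.ext
      · apply Multiplicative.toAdd.injective
        simp only [SemidirectProduct.mul_left, SemidirectProduct.mul_right,
          SemidirectProduct.left_inl, SemidirectProduct.right_inl, SemidirectProduct.left_inr,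
          SemidirectProduct.right_inr, SemidirectProduct.inv_left,
          inv_one, map_one, MulAut.one_apply, one_mul, mul_one, toAdd_mul, toAdd_ofAdd,
          actM_apply, toAdd_inv]
        rw [← hx, ← hy, LinearMap.sub_apply, LinearMap.id_apply, neg_neg]
        abel
      · simp [hh]
    intro hd
    have h1 : orderOf k = orderOf (SemidirectProduct.inr h : MH ρ) := by
      have hs : SemiconjBy (SemidirectProduct.inl (Multiplicative.ofAdd (-y)) : MH ρ)
          (SemidirectProduct.inr h) k := by
        unfold SemiconjBy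
        rw [hconj]
        group
      exact (hs.orderOf_eq).symm
    have h2 : orderOf (SemidirectProduct.inr h : MH ρ) = orderOf h :=
      orderOf_injective SemidirectProduct.inr SemidirectProduct.inr_injective h
    rw [h1, h2] at hd
    exact hrp hd

/-- cardinality of the range of `g - 1` -/
theorem card_range_mul_card_fix (g : M →ₗ[ZMod p] M) :
    Nat.card (LinearMap.range (g - LinearMap.id)) * Nat.card {x : M // g x = x} = Nat.card M := by
  have h1 := Submodule.card_eq_card_quotient_mul_card (LinearMap.ker (g - LinearMap.id))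
  have h2 : Nat.card (M ⧸ LinearMap.ker (g - LinearMap.id)) =
      Nat.card (LinearMap.range (g - LinearMap.id)) :=
    Nat.card_congr (LinearMap.quotKerEquivRange (g - LinearMap.id)).toEquiv
  have h3 : Nat.card (LinearMap.ker (g - LinearMap.id)) = Nat.card {x : M // g x = x} := by
    apply Nat.card_congr
    apply Equiv.subtypeEquivRight
    intro x
    rw [LinearMap.mem_ker, LinearMap.sub_apply, LinearMap.id_apply, sub_eq_zero]
  rw [h1, h2, h3, mul_comm]

theorem card_mod_eq_pow : ∃ e : ℕ, Nat.card M = p ^ e := by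
  haveI : Module.Finite (ZMod p) M := Module.Finite.of_finite
  refine ⟨Module.finrank (ZMod p) M, ?_⟩
  rw [Module.natCard_eq_pow_finrank (K := ZMod p) (V := M), Nat.card_zmod]

/-- `h ↦ |M : C_M(h)|` is a generalized character -/
theorem isGeneralizedCharacter_index_fix (hcop : ¬ p ∣ Nat.card H)
    (ρ : Representation (ZMod p) H M) :
    Cfsg.IsGeneralizedCharacter H
      (fun h => (Nat.card M : ℂ) / (Nat.card {x : M // ρ h x = x} : ℂ)) := by
  classical
  have hp : p.Prime := Fact.out
  haveI : Fintype H := Fintype.ofFinite H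
  haveI : Fintype (Multiplicative M) := Fintype.ofFinite _
  haveI : Finite (MH ρ) := Finite.of_equiv _ (SemidirectProduct.equivProd (φ := actM ρ)).symm
  haveI : Fintype (MH ρ) := Fintype.ofFinite _
  -- the function as a count of `p`-regular elements
  have hD : ∀ h : H, (Nat.card M : ℂ) / (Nat.card {x : M // ρ h x = x} : ℂ) =
      ∑ m : Multiplicative M, if p ∣ orderOf (⟨m, h⟩ : MH ρ) then (0 : ℂ) else 1 := by
    intro h
    have h1 := card_range_mul_card_fix (ρ h)
    have hfix : (Nat.card {x : M // ρ h x = x} : ℂ) ≠ 0 := by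
      have : 0 < Nat.card {x : M // ρ h x = x} := by
        haveI : Nonempty {x : M // ρ h x = x} := ⟨⟨0, map_zero _⟩⟩
        exact Nat.card_pos
      exact_mod_cast this.ne'
    rw [div_eq_iff hfix, ← h1]
    push_cast
    congr 1
    have h2 : ∀ m : Multiplicative M, (if p ∣ orderOf (⟨m, h⟩ : MH ρ) then (0 : ℂ) else 1) =
        if Multiplicative.toAdd m ∈ LinearMap.range (ρ h - LinearMap.id) then 1 else 0 := by
      intro m
      have := mh_preg_iff hcop ρ (⟨m, h⟩ : MH ρ)
      by_cases hd : p ∣ orderOf (⟨m, h⟩ : MH ρ)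
      · rw [if_pos hd, if_neg]
        intro hm
        exact (this.mpr hm) hd
      · rw [if_neg hd, if_pos (this.mp hd)]
    rw [Finset.sum_congr rfl (fun m _ => h2 m), Finset.sum_boole, ← Fintype.card_subtype,
      ← Nat.card_eq_fintype_card]
    congr 1
  -- the truncated trivial character of `M ⋊ H`
  haveI : (Representation.trivial ℂ (MH ρ) ℂ).IsIrreducible :=
    isIrreducible_of_finrank_eq_one _ (Module.finrank_self ℂ)
  have hΨ := pRegPart_isGeneralizedCharacter (Representation.trivial ℂ (MH ρ) ℂ) p 0 hp
    (Nat.zero_le _) (by simp)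
  obtain ⟨e, he⟩ := card_mod_eq_pow (p := p) (M := M)
  have hcardK : Nat.card (MH ρ) = Nat.card M * Nat.card H := by
    rw [Nat.card_congr (SemidirectProduct.equivProd (φ := actM ρ)), Nat.card_prod]
    rfl
  have hfac : p ^ ((Nat.card (MH ρ)).factorization p - 0) = Nat.card M := by
    rw [hcardK, Nat.sub_zero, Nat.factorization_mul (Nat.card_pos.ne') (Nat.card_pos.ne'),
      Finsupp.add_apply, Nat.factorization_eq_zero_of_not_dvd hcop, add_zero, he,
      Nat.Prime.factorization_pow hp, Finsupp.single_eq_same]
  rw [hfac] at hΨ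
  -- class function
  have hcf : Cfsg.IsClassFunction H
      (fun h => (Nat.card M : ℂ) / (Nat.card {x : M // ρ h x = x} : ℂ)) := by
    intro h g
    show (Nat.card M : ℂ) / (Nat.card {x : M // ρ (g * h * g⁻¹) x = x} : ℂ) = _
    congr 2
    apply Nat.card_congr
    have hcancel : ∀ y : M, ρ g⁻¹ (ρ g y) = y := by
      intro y
      rw [← Module.End.mul_apply, ← map_mul, inv_mul_cancel, map_one, Module.End.one_apply]
    have hcancel' : ∀ y : M, ρ g (ρ g⁻¹ y) = y := by
      intro y
      rw [← Module.End.mul_apply, ← map_mul, mul_inv_cancel, map_one, Module.End.one_apply]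
    have hconj : ∀ y : M, ρ (g * h * g⁻¹) y = ρ g (ρ h (ρ g⁻¹ y)) := by
      intro y
      rw [map_mul, map_mul, Module.End.mul_apply, Module.End.mul_apply]
    refine
      { toFun := fun x => ⟨ρ g⁻¹ (x : M), ?_⟩
        invFun := fun x => ⟨ρ g (x : M), ?_⟩
        left_inv := fun x => Subtype.ext (hcancel' _)
        right_inv := fun x => Subtype.ext (hcancel _) }
    · have hx : ρ (g * h * g⁻¹) (x : M) = (x : M) := x.2
      rw [hconj] at hx
      have := congrArg (ρ g⁻¹) hx
      rw [hcancel] at this
      exact this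
    · have hx : ρ h (x : M) = (x : M) := x.2
      rw [hconj, hcancel, hx]
  apply isGeneralizedCharacter_of_int_inner hcf
  intro φ
  have hφ : Cfsg.IsGeneralizedCharacter (MH ρ)
      (fun k : MH ρ => (φ : H → ℂ) (SemidirectProduct.rightHom k)) :=
    IsGeneralizedCharacter.comp SemidirectProduct.rightHom
      (IsCharacter.isGeneralizedCharacter (IsIrrCharacter.isCharacter φ.2))
  obtain ⟨z, hz⟩ := classInner_int_of_isGeneralizedCharacter hΨ hφ
  refine ⟨z, ?_⟩
  rw [← hz]
  unfold Cfsg.classInner
  rw [hcardK]
  have hMc : (Nat.card M : ℂ) ≠ 0 := by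
    have : 0 < Nat.card M := Nat.card_pos
    exact_mod_cast this.ne'
  have hHc : (Nat.card H : ℂ) ≠ 0 := by
    have : 0 < Nat.card H := Nat.card_pos
    exact_mod_cast this.ne'
  have hsum : ∑ k : MH ρ, (if p ∣ orderOf k then (0 : ℂ)
        else ((Nat.card M : ℕ) : ℂ) * (Representation.trivial ℂ (MH ρ) ℂ).character k) *
        conj ((φ : H → ℂ) (SemidirectProduct.rightHom k)) =
      (Nat.card M : ℂ) * ∑ h : H, ((Nat.card M : ℂ) / (Nat.card {x : M // ρ h x = x} : ℂ)) *
        conj ((φ : H → ℂ) h) := by
    rw [← Equiv.sum_comp (SemidirectProduct.equivProd (φ := actM ρ)).symm,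
      Fintype.sum_prod_type, Finset.sum_comm, Finset.mul_sum]
    apply Finset.sum_congr rfl
    intro h _
    rw [hD h, Finset.sum_mul, Finset.mul_sum]
    apply Finset.sum_congr rfl
    intro m _
    have hk : (SemidirectProduct.equivProd (φ := actM ρ)).symm (m, h) = (⟨m, h⟩ : MH ρ) := rfl
    rw [hk, trivial_character]
    have hr : SemidirectProduct.rightHom (⟨m, h⟩ : MH ρ) = h := rfl
    rw [hr]
    split_ifs
    · simp
    · ring
  rw [hsum]
  push_cast
  field_simp

end

end Cfsg.Agent.Lib.Helper6.Rv
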