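import Mathlib
import Cfsg.Agent.Lib.Helper6.SW1

set_option autoImplicit false
set_option linter.unusedSectionVars false
set_option linter.unusedVariables false
set_option linter.unusedSimpArgs false

/-! The embedding `SL₂(F) ≀ Sₙ → Sp₂ₙ(F)`. -/

namespace Cfsg.Agent.Lib.Helper6.SW

open Matrix

section

variable {F : Type*} [Field F] (n : ℕ)

/-- the block-diagonal matrix of a family of 2×2 matrices -/
def bmat (d : Fin n → Matrix (Fin 2) (Fin 2) F) : Matrix (Fin n ⊕ Fin n) (Fin n ⊕ Fin n) F :=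
  fromBlocks (diagonal fun i => d i 0 0) (diagonal fun i => d i 0 1)
    (diagonal fun i => d i 1 0) (diagonal fun i => d i 1 1)

theorem bmat_mul (d d' : Fin n → Matrix (Fin 2) (Fin 2) F) :
    bmat n (fun i => d i * d' i) = bmat n d * bmat n d' := by
  unfold bmat
  rw [fromBlocks_multiply]
  simp only [diagonal_mul_diagonal, diagonal_add, Matrix.mul_apply, Fin.sum_univ_two]

theorem bmat_one : bmat n (fun _ => (1 : Matrix (Fin 2) (Fin 2) F)) = 1 := by
  unfold bmat
  simp [← fromBlocks_one]

theorem bmat_mem (d : Fin n → Matrix (Fin 2) (Fin 2) F) (hd : ∀ i, (d i).det = 1) :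
    bmat n d ∈ symplecticGroup (Fin n) F := by
  unfold bmat
  rw [SymplecticGroup.fromBlocks_mem_iff]
  simp only [diagonal_transpose, diagonal_mul_diagonal]
  refine ⟨?_, ?_, ?_⟩
  · congr 1; funext i; ring
  · congr 1; funext i; ring
  · rw [diagonal_sub, ← diagonal_one]
    congr 1
    funext i
    have := hd i
    rw [det_fin_two] at this
    linear_combination this

/-- the block-diagonal embedding -/
def sf₁ (F : Type*) [Field F] (n : ℕ) :
    (Fin n → SpecialLinearGroup (Fin 2) F) →* symplecticGroup (Fin n) F where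
  toFun d := ⟨bmat n (fun i => (d i : Matrix (Fin 2) (Fin 2) F)), bmat_mem n _ (fun i => (d i).2)⟩
  map_one' := by
    apply Subtype.ext
    show bmat n (fun i => ((1 : Fin n → SpecialLinearGroup (Fin 2) F) i : Matrix (Fin 2) (Fin 2) F)) = 1
    simp only [Pi.one_apply, SpecialLinearGroup.coe_one]
    exact bmat_one n
  map_mul' d d' := by
    apply Subtype.ext
    show bmat n (fun i => ((d * d') i : Matrix (Fin 2) (Fin 2) F)) = bmat n _ * bmat n _
    simp only [Pi.mul_apply, SpecialLinearGroup.coe_mul]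
    exact bmat_mul n _ _

theorem sf₁_val (d : Fin n → SpecialLinearGroup (Fin 2) F) :
    (sf₁ F n d : Matrix (Fin n ⊕ Fin n) (Fin n ⊕ Fin n) F) =
      bmat n (fun i => (d i : Matrix (Fin 2) (Fin 2) F)) := rfl

/-- the doubled permutation matrix -/
def pmat (σ : Equiv.Perm (Fin n)) : Matrix (Fin n ⊕ Fin n) (Fin n ⊕ Fin n) F :=
  fromBlocks (permMatrixHom (R := F) σ) 0 0 (permMatrixHom (R := F) σ)

theorem pmat_mul (σ τ : Equiv.Perm (Fin n)) : pmat (F := F) n (σ * τ) = pmat n σ * pmat n τ := by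
  unfold pmat
  rw [fromBlocks_multiply, map_mul]
  simp

theorem pmat_one : pmat (F := F) n 1 = 1 := by
  unfold pmat
  rw [map_one, fromBlocks_one]

theorem permMatrixHom_transpose_mul (σ : Equiv.Perm (Fin n)) :
    (permMatrixHom (R := F) σ)ᵀ * permMatrixHom (R := F) σ = 1 := by
  rw [permMatrixHom_apply, transpose_permMatrix, inv_inv, ← permMatrix_mul, inv_mul_cancel,
    permMatrix_one]

theorem pmat_mem (σ : Equiv.Perm (Fin n)) : pmat (F := F) n σ ∈ symplecticGroup (Fin n) F := by
  unfold pmat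
  rw [SymplecticGroup.fromBlocks_mem_iff]
  refine ⟨by simp, by simp, ?_⟩
  rw [permMatrixHom_transpose_mul]
  simp

/-- the permutation embedding -/
def sf₂ (F : Type*) [Field F] (n : ℕ) : Equiv.Perm (Fin n) →* symplecticGroup (Fin n) F where
  toFun σ := ⟨pmat n σ, pmat_mem n σ⟩
  map_one' := by
    apply Subtype.ext
    exact pmat_one n
  map_mul' σ τ := by
    apply Subtype.ext
    exact pmat_mul n σ τ

theorem permMatrixHom_entry (σ : Equiv.Perm (Fin n)) (i j : Fin n) :
    permMatrixHom (R := F) σ i j = if σ.symm i = j then 1 else 0 := by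
  show ((σ⁻¹ : Equiv.Perm (Fin n)).toPEquiv.toMatrix : Matrix (Fin n) (Fin n) F) i j = _
  rw [PEquiv.toMatrix_apply]
  simp only [Equiv.toPEquiv_apply, Option.mem_def, Option.some.injEq]
  rfl

theorem perm_diag (σ : Equiv.Perm (Fin n)) (a : Fin n → F) :
    permMatrixHom (R := F) σ * diagonal a = diagonal (a ∘ σ.symm) * permMatrixHom (R := F) σ := by
  ext i j
  rw [mul_diagonal, diagonal_mul, permMatrixHom_entry]
  by_cases h : σ.symm i = j
  · rw [if_pos h, Function.comp_apply, h]
    ring
  · rw [if_neg h]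
    ring

theorem pmat_bmat (σ : Equiv.Perm (Fin n)) (d : Fin n → Matrix (Fin 2) (Fin 2) F) :
    pmat n σ * bmat n d = bmat n (d ∘ σ.symm) * pmat n σ := by
  unfold pmat bmat
  rw [fromBlocks_multiply, fromBlocks_multiply]
  simp only [Matrix.zero_mul, Matrix.mul_zero, add_zero, zero_add, perm_diag]
  rfl

theorem sp_compat (σ : Equiv.Perm (Fin n)) (d : Fin n → SpecialLinearGroup (Fin 2) F) :
    sf₂ F n σ * sf₁ F n d * (sf₂ F n σ)⁻¹ = sf₁ F n (d ∘ σ.symm) := by
  rw [mul_inv_eq_iff_eq_mul]
  apply Subtype.ext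
  show pmat n σ * bmat n (fun i => (d i : Matrix (Fin 2) (Fin 2) F)) =
    bmat n (fun i => ((d ∘ σ.symm) i : Matrix (Fin 2) (Fin 2) F)) * pmat n σ
  rw [pmat_bmat]
  rfl

theorem sp_inj (d : Fin n → SpecialLinearGroup (Fin 2) F) (σ : Equiv.Perm (Fin n))
    (h : sf₁ F n d * sf₂ F n σ = 1) : d = 1 ∧ σ = 1 := by
  have h1 : bmat n (fun i => (d i : Matrix (Fin 2) (Fin 2) F)) * pmat n σ = 1 :=
    congrArg Subtype.val h
  unfold bmat pmat at h1
  rw [fromBlocks_multiply, ← fromBlocks_one, fromBlocks_inj] at h1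
  simp only [Matrix.mul_zero, add_zero, zero_add] at h1
  obtain ⟨hA, hB, hC, hD⟩ := h1
  have hσ : σ = 1 := by
    have : σ.symm = 1 := by
      ext i
      have h3 := congrFun (congrFun hA i) i
      rw [diagonal_mul, permMatrixHom_entry, one_apply_eq] at h3
      by_contra hne
      rw [if_neg (fun hh => hne (by rw [hh]; rfl)), mul_zero] at h3
      exact zero_ne_one h3
    have h4 : σ⁻¹ = 1 := this
    exact inv_eq_one.mp h4
  subst hσ
  rw [map_one, Matrix.mul_one] at hA hB hC hD
  refine ⟨?_, rfl⟩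
  funext i
  apply Subtype.ext
  have e00 : (d i : Matrix (Fin 2) (Fin 2) F) 0 0 = 1 := by
    have := congrFun (congrFun hA i) i
    rwa [diagonal_apply_eq, one_apply_eq] at this
  have e01 : (d i : Matrix (Fin 2) (Fin 2) F) 0 1 = 0 := by
    have := congrFun (congrFun hB i) i
    rwa [diagonal_apply_eq] at this
  have e10 : (d i : Matrix (Fin 2) (Fin 2) F) 1 0 = 0 := by
    have := congrFun (congrFun hC i) i
    rwa [diagonal_apply_eq] at this
  have e11 : (d i : Matrix (Fin 2) (Fin 2) F) 1 1 = 1 := by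
    have := congrFun (congrFun hD i) i
    rwa [diagonal_apply_eq, one_apply_eq] at this
  ext a b
  fin_cases a <;> fin_cases b
  · simpa using e00
  · simpa using e01
  · simpa using e10
  · simpa using e11

/-- the wreath product data for the symplectic group -/
def spData (F : Type*) [Field F] (n : ℕ) :
    WrData (symplecticGroup (Fin n) F) (SpecialLinearGroup (Fin 2) F) (Fin n) where
  f₁ := sf₁ F n
  f₂ := sf₂ F n
  compat := sp_compat n
  inj := sp_inj n

end

end Cfsg.Agent.Lib.Helper6.SW
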