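import Mathlib
import Cfsg.Prelude.Def_ChevStructure
import Cfsg.Agent.Lib.Helper5.ChevGroupCard
import Cfsg.Agent.Lib.Helper5.ChevChk.W0All

set_option autoImplicit false

/-!
Weyl group combinatorics for the Steinberg character: minimal coset representatives of the
parabolic subgroups `W_J`, the factorisation of the Poincaré sums, the longest element and
Solomon's alternating sum identity.
-/

namespace Cfsg.Agent.Lib.Helper6.Steinberg

open Cfsg Cfsg.Lie Cfsg.Agent.Lib.Helper5.ChevSym Cfsg.Agent.Lib.Helper5.ChevStruct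

/-- the image of the `j`-th fundamental root under a permutation of the roots is positive -/
def PosAt (D : ChevalleyDatum) (σ : Equiv.Perm (Fin D.nroots)) (j : ℕ) : Prop :=
  ∃ h : D.simple j < D.nroots, D.IsPosRoot (σ ⟨D.simple j, h⟩).val

theorem posAt_wPerm (D : ChevalleyDatum) (hD : D ∈ Seven) (w : List ℕ) (hw : Wd D w) (j : ℕ)
    (hj : j < D.rank) : PosAt D (wPerm D hD w) j ↔ D.IsPosRoot (wAct D w (D.simple j)) := by
  constructor
  · rintro ⟨h, hp⟩
    rwa [wPerm_apply D hD w hw] at hp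
  · intro hp
    refine ⟨simple_lt D hD j hj, ?_⟩
    rw [wPerm_apply D hD w hw]
    exact hp

/-- `σ` is the element of minimal length in its coset `σ W_J` -/
def IsMin (D : ChevalleyDatum) (J : Set ℕ) (σ : Equiv.Perm (Fin D.nroots)) : Prop :=
  ∀ j, j < D.rank → j ∈ J → PosAt D σ j

theorem isMin_wPerm (D : ChevalleyDatum) (hD : D ∈ Seven) (J : Set ℕ) (w : List ℕ) (hw : Wd D w) :
    IsMin D J (wPerm D hD w) ↔ ∀ j < D.rank, j ∈ J → D.IsPosRoot (wAct D w (D.simple j)) := by
  constructor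
  · intro h j hj hjJ
    exact (posAt_wPerm D hD w hw j hj).1 (h j hj hjJ)
  · intro h j hj hjJ
    exact (posAt_wPerm D hD w hw j hj).2 (h j hj hjJ)

theorem sum_pow_transversal' {G : Type*} [Group G] [Fintype G] [DecidableEq G]
    (H K : Subgroup G) [DecidablePred (· ∈ H)] [DecidablePred (· ∈ K)] (hHK : H ≤ K)
    (f : G → ℕ) (q : ℕ) (T : Finset G) (hT : ∀ t ∈ T, t ∈ K)
    (hcov : ∀ k ∈ K, ∃ t ∈ T, t⁻¹ * k ∈ H)
    (hinj : ∀ t ∈ T, ∀ t' ∈ T, t⁻¹ * t' ∈ H → t = t')
    (hadd : ∀ t ∈ T, ∀ h ∈ H, f (t * h) = f t + f h) :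
    ∑ k ∈ Finset.univ.filter (· ∈ K), q ^ f k
      = (∑ t ∈ T, q ^ f t) * ∑ h ∈ Finset.univ.filter (· ∈ H), q ^ f h := by
  rw [Finset.sum_mul_sum, ← Finset.sum_product']
  symm
  apply Finset.sum_bij (fun p _ => p.1 * p.2)
  · intro p hp
    rw [Finset.mem_product, Finset.mem_filter] at hp
    rw [Finset.mem_filter]
    exact ⟨Finset.mem_univ _, K.mul_mem (hT p.1 hp.1) (hHK hp.2.2)⟩
  · intro p hp p' hp' e
    rw [Finset.mem_product, Finset.mem_filter] at hp hp'
    have e1 : p.1⁻¹ * p'.1 = p.2 * p'.2⁻¹ := by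
      have : p'.1 = p.1 * p.2 * p'.2⁻¹ := by
        rw [e]; group
      rw [this]; group
    have ht := hinj p.1 hp.1 p'.1 hp'.1
      (by rw [e1]; exact H.mul_mem hp.2.2 (H.inv_mem hp'.2.2))
    apply Prod.ext ht
    rw [ht] at e
    exact mul_left_cancel e
  · intro k hk
    rw [Finset.mem_filter] at hk
    obtain ⟨t, htT, ht⟩ := hcov k hk.2
    refine ⟨(t, t⁻¹ * k), ?_, by simp⟩
    rw [Finset.mem_product, Finset.mem_filter]
    exact ⟨htT, Finset.mem_univ _, ht⟩
  · intro p hp
    rw [Finset.mem_product, Finset.mem_filter] at hp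
    rw [hadd p.1 hp.1 p.2 hp.2.2, pow_add]

open Classical in
/-- the elements of `W` as a finite set -/
noncomputable def wFin (D : ChevalleyDatum) (hD : D ∈ Seven) :
    Finset (Equiv.Perm (Fin D.nroots)) :=
  Finset.univ.filter fun σ => σ ∈ parab D hD (fullSet D)

theorem mem_wFin (D : ChevalleyDatum) (hD : D ∈ Seven) (σ : Equiv.Perm (Fin D.nroots)) :
    σ ∈ wFin D hD ↔ σ ∈ parab D hD (fullSet D) := by
  classical
  unfold wFin
  rw [Finset.mem_filter]
  simp

open Classical in
/-- the set of minimal coset representatives of `W / W_J` -/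
noncomputable def minReps (D : ChevalleyDatum) (hD : D ∈ Seven) (J : Set ℕ) :
    Finset (Equiv.Perm (Fin D.nroots)) :=
  (wFin D hD).filter fun σ => IsMin D J σ

theorem mem_minReps (D : ChevalleyDatum) (hD : D ∈ Seven) (J : Set ℕ)
    (σ : Equiv.Perm (Fin D.nroots)) :
    σ ∈ minReps D hD J ↔ σ ∈ parab D hD (fullSet D) ∧ IsMin D J σ := by
  classical
  unfold minReps
  rw [Finset.mem_filter, mem_wFin]

theorem mul_sPerm_eq (D : ChevalleyDatum) (hD : D ∈ Seven) (w : List ℕ) (j : ℕ) :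
    wPerm D hD (w ++ [j]) = wPerm D hD w * sPerm D hD j := by
  rw [wPerm_append, wPerm_single]

/-- if `σ` is not minimal in `σ W_J` a fundamental reflection of `W_J` shortens it -/
theorem step_down (D : ChevalleyDatum) (hD : D ∈ Seven) (J : Set ℕ)
    (k : Equiv.Perm (Fin D.nroots)) (hk : k ∈ parab D hD (fullSet D)) (hmin : ¬ IsMin D J k) :
    ∃ j, j < D.rank ∧ j ∈ J ∧ k * sPerm D hD j ∈ parab D hD (fullSet D) ∧
      Nf D (k * sPerm D hD j) + 1 = Nf D k := by
  unfold IsMin at hmin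
  push Not at hmin
  obtain ⟨j, hj, hjJ, hneg⟩ := hmin
  obtain ⟨w, hw, rfl⟩ := exists_word_of_mem_parab D hD _ k hk
  refine ⟨j, hj, hjJ, ?_, ?_⟩
  · exact mul_mem (wPerm_mem_parab D hD _ w hw)
      (sPerm_mem_parab D hD _ j hj (List.mem_range.2 hj))
  · rw [posAt_wPerm D hD w hw.wd j hj] at hneg
    rw [← mul_sPerm_eq, Nf_wPerm D hD _ (hw.wd.append (Wd.single hj)), Nf_wPerm D hD _ hw.wd]
    exact card_negSet_append D hD w hw.wd j hj hneg

theorem exists_minRep (D : ChevalleyDatum) (hD : D ∈ Seven) (J : Set ℕ) (n : ℕ) :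
    ∀ k ∈ parab D hD (fullSet D), Nf D k ≤ n →
      ∃ t ∈ minReps D hD J, t⁻¹ * k ∈ parab D hD J := by
  induction n with
  | zero =>
    intro k hk hn
    by_cases hmin : IsMin D J k
    · refine ⟨k, (mem_minReps D hD J k).2 ⟨hk, hmin⟩, ?_⟩
      rw [inv_mul_cancel]
      exact one_mem _
    · obtain ⟨j, -, -, -, h⟩ := step_down D hD J k hk hmin
      omega
  | succ n ih =>
    intro k hk hn
    by_cases hmin : IsMin D J k
    · refine ⟨k, (mem_minReps D hD J k).2 ⟨hk, hmin⟩, ?_⟩
      rw [inv_mul_cancel]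
      exact one_mem _
    · obtain ⟨j, hj, hjJ, hmem, h⟩ := step_down D hD J k hk hmin
      obtain ⟨t, ht, htk⟩ := ih (k * sPerm D hD j) hmem (by omega)
      refine ⟨t, ht, ?_⟩
      have e : t⁻¹ * k = t⁻¹ * (k * sPerm D hD j) * sPerm D hD j := by
        rw [mul_assoc, mul_assoc, sPerm_mul_self D hD j hj, mul_one]
      rw [e]
      exact mul_mem htk (sPerm_mem_parab D hD J j hj hjJ)

/-- two minimal coset representatives in the same coset of `W_J` are equal -/
theorem minReps_unique (D : ChevalleyDatum) (hD : D ∈ Seven) (J : Set ℕ)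
    (t t' : Equiv.Perm (Fin D.nroots)) (ht : t ∈ minReps D hD J) (ht' : t' ∈ minReps D hD J)
    (h : t⁻¹ * t' ∈ parab D hD J) : t = t' := by
  obtain ⟨h1, h2⟩ := (mem_minReps D hD J t).1 ht
  obtain ⟨h1', h2'⟩ := (mem_minReps D hD J t').1 ht'
  obtain ⟨u, hu, rfl⟩ := exists_word_of_mem_parab D hD _ t h1
  obtain ⟨u', hu', rfl⟩ := exists_word_of_mem_parab D hD _ t' h1'
  exact para_min_unique D hD J u u' hu.wd hu'.wd ((isMin_wPerm D hD J u hu.wd).1 h2)
    ((isMin_wPerm D hD J u' hu'.wd).1 h2') h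

/-- factorisation of the Poincaré sum of `W` along the minimal coset representatives -/
theorem poinc_factor (D : ChevalleyDatum) (hD : D ∈ Seven) (J : Set ℕ) (hJ : J ⊆ fullSet D)
    (q : ℕ) :
    poinc D hD (fullSet D) q = (∑ σ ∈ minReps D hD J, q ^ Nf D σ) * poinc D hD J q := by
  classical
  unfold poinc
  apply sum_pow_transversal' (parab D hD J) (parab D hD (fullSet D)) (parab_mono D hD hJ)
    (Nf D) q (minReps D hD J)
  · intro t ht
    exact ((mem_minReps D hD J t).1 ht).1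
  · intro k hk
    exact exists_minRep D hD J (Nf D k) k hk le_rfl
  · intro t ht t' ht' h
    obtain ⟨h1, h2⟩ := (mem_minReps D hD J t).1 ht
    obtain ⟨h1', h2'⟩ := (mem_minReps D hD J t').1 ht'
    obtain ⟨u, hu, rfl⟩ := exists_word_of_mem_parab D hD _ t h1
    obtain ⟨u', hu', rfl⟩ := exists_word_of_mem_parab D hD _ t' h1'
    exact para_min_unique D hD J u u' hu.wd hu'.wd ((isMin_wPerm D hD J u hu.wd).1 h2)
      ((isMin_wPerm D hD J u' hu'.wd).1 h2') h
  · intro t ht h hh
    obtain ⟨h1, h2⟩ := (mem_minReps D hD J t).1 ht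
    obtain ⟨u, hu, rfl⟩ := exists_word_of_mem_parab D hD _ t h1
    obtain ⟨x, hx, rfl⟩ := exists_word_of_mem_parab D hD J h hh
    rw [← wPerm_append, Nf_wPerm D hD _ (hu.wd.append hx.wd), Nf_wPerm D hD _ hu.wd,
      Nf_wPerm D hD _ hx.wd]
    exact card_negSet_append_para D hD J u hu.wd ((isMin_wPerm D hD J u hu.wd).1 h2) x hx

theorem poinc_pos (D : ChevalleyDatum) (hD : D ∈ Seven) (J : Set ℕ) (q : ℕ) (hq : 0 < q) :
    0 < poinc D hD J q := by
  classical
  unfold poinc
  apply Finset.sum_pos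
  · intro σ _
    exact pow_pos hq _
  · exact ⟨1, by rw [Finset.mem_filter]; exact ⟨Finset.mem_univ _, one_mem _⟩⟩

/-! ### The longest element -/

theorem not_pos_of_neg (D : ChevalleyDatum) (hD : D ∈ Seven) (r : ℕ) (hr : D.IsNegRoot r) :
    ¬ D.IsPosRoot r := by
  intro hp
  have h1 := (isNegRoot_iff_co D hD r).1 hr
  have h2 := (isPosRoot_iff_co D hD r).1 hp
  obtain ⟨k, hk, hne⟩ := exists_co_ne_zero D hD r hr.1
  exact hne (le_antisymm (h1.2 k hk) (h2.2 k hk))

/-- a word for the longest element -/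
theorem exists_w0_word (D : ChevalleyDatum) (hD : D ∈ Seven) :
    ∃ w : List ℕ, Wd D w ∧ (∀ r, D.IsPosRoot r → D.IsNegRoot (wAct D w r)) ∧
      (∀ r, D.IsNegRoot r → D.IsPosRoot (wAct D w.reverse r)) := by
  obtain ⟨w, h⟩ := exists_w0 D hD
  unfold checkW0 at h
  rw [Bool.and_eq_true, List.all_eq_true, List.all_eq_true] at h
  obtain ⟨hw, hroots⟩ := h
  refine ⟨w, fun i hi => ?_, fun r hr => ?_, fun r hr => ?_⟩
  · have := hw i hi
    rwa [Nat.blt_eq] at this
  · have := hroots r (List.mem_range.2 hr.1)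
    rw [Bool.and_eq_true, Bool.or_eq_true, Bool.or_eq_true, wActC_eq, wActC_eq] at this
    rcases this.1 with h1 | h1
    · simp [hr] at h1
    · exact of_decide_eq_true h1
  · have := hroots r (List.mem_range.2 hr.1)
    rw [Bool.and_eq_true, Bool.or_eq_true, Bool.or_eq_true, wActC_eq, wActC_eq] at this
    rcases this.2 with h1 | h1
    · simp [hr] at h1
    · exact of_decide_eq_true h1

/-- a word mapping the fundamental roots to negative roots maps all positive roots to negative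
roots -/
theorem wAct_neg_of_simple (D : ChevalleyDatum) (hD : D ∈ Seven) (v : List ℕ) (hv : Wd D v)
    (h : ∀ j < D.rank, ¬ D.IsPosRoot (wAct D v (D.simple j))) (r : ℕ) (hr : D.IsPosRoot r) :
    D.IsNegRoot (wAct D v r) := by
  rw [isNegRoot_iff_co D hD]
  refine ⟨wAct_lt D hD v hv r hr.1, fun k hk => ?_⟩
  rw [co_wAct_eq_sum D hD v hv r hr.1 k hk]
  apply Finset.sum_nonpos
  intro j hj
  have hj' := Finset.mem_range.1 hj
  apply mul_nonpos_of_nonneg_of_nonpos
  · exact ((isPosRoot_iff_co D hD r).1 hr).2 j hj'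
  · have hn := isNegRoot_of_not_pos D hD _ (wAct_lt D hD v hv _ (simple_lt D hD j hj')) (h j hj')
    exact ((isNegRoot_iff_co D hD _).1 hn).2 k hk

/-- the longest element of `W`: existence, length, uniqueness -/
theorem exists_w0Perm (D : ChevalleyDatum) (hD : D ∈ Seven) :
    ∃ σ0 ∈ parab D hD (fullSet D), Nf D σ0 = D.nroots / 2 ∧
      (∀ j < D.rank, ¬ PosAt D σ0 j) ∧
      ∀ σ ∈ parab D hD (fullSet D), (∀ j < D.rank, ¬ PosAt D σ j) → σ = σ0 := by
  obtain ⟨w, hw, hpos, hneg⟩ := exists_w0_word D hD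
  refine ⟨wPerm D hD w, wPerm_mem_parab D hD _ w (wdIn_full hw), ?_, ?_, ?_⟩
  · rw [Nf_wPerm D hD w hw]
    have h1 := card_negSet_add_card_posSet D hD w
    have h2 : posSet D w = ∅ := by
      rw [Finset.eq_empty_iff_forall_notMem]
      intro r hr
      rw [mem_posSet] at hr
      exact not_pos_of_neg D hD _ (hpos r hr.1) hr.2
    rw [h2, Finset.card_empty, add_zero] at h1
    exact h1
  · intro j hj
    rw [posAt_wPerm D hD w hw j hj]
    exact not_pos_of_neg D hD _ (hpos _ (simple_pos D hD j hj))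
  · intro σ hσ hall
    obtain ⟨v, hv, rfl⟩ := exists_word_of_mem_parab D hD _ σ hσ
    have hall' : ∀ j < D.rank, ¬ D.IsPosRoot (wAct D v (D.simple j)) := by
      intro j hj
      rw [← posAt_wPerm D hD v hv.wd j hj]
      exact hall j hj
    have hcard : (negSet D (w.reverse ++ v)).card = 0 := by
      rw [Finset.card_eq_zero, Finset.eq_empty_iff_forall_notMem]
      intro r hr
      rw [mem_negSet, wAct_append] at hr
      exact hr.2 (hneg _ (wAct_neg_of_simple D hD v hv.wd hall' r hr.1))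
    have h1 := wPerm_eq_one_of_card D hD _ (hw.reverse.append hv.wd) hcard
    rw [wPerm_append, wPerm_reverse D hD w hw] at h1
    exact (inv_mul_eq_one.1 h1).symm

/-- the longest element of `W` -/
noncomputable def w0Perm (D : ChevalleyDatum) (hD : D ∈ Seven) : Equiv.Perm (Fin D.nroots) :=
  Classical.choose (exists_w0Perm D hD)

theorem w0Perm_mem (D : ChevalleyDatum) (hD : D ∈ Seven) :
    w0Perm D hD ∈ parab D hD (fullSet D) :=
  (Classical.choose_spec (exists_w0Perm D hD)).1

theorem Nf_w0Perm (D : ChevalleyDatum) (hD : D ∈ Seven) : Nf D (w0Perm D hD) = D.nroots / 2 :=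
  (Classical.choose_spec (exists_w0Perm D hD)).2.1

theorem w0Perm_not_posAt (D : ChevalleyDatum) (hD : D ∈ Seven) (j : ℕ) (hj : j < D.rank) :
    ¬ PosAt D (w0Perm D hD) j :=
  (Classical.choose_spec (exists_w0Perm D hD)).2.2.1 j hj

theorem eq_w0Perm (D : ChevalleyDatum) (hD : D ∈ Seven) (σ : Equiv.Perm (Fin D.nroots))
    (hσ : σ ∈ parab D hD (fullSet D)) (h : ∀ j < D.rank, ¬ PosAt D σ j) : σ = w0Perm D hD :=
  (Classical.choose_spec (exists_w0Perm D hD)).2.2.2 σ hσ h

/-! ### Solomon's identity -/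

open Classical in
/-- the ascent set of `σ` -/
noncomputable def asc (D : ChevalleyDatum) (σ : Equiv.Perm (Fin D.nroots)) : Finset ℕ :=
  (Finset.range D.rank).filter fun j => PosAt D σ j

theorem asc_eq_empty_iff (D : ChevalleyDatum) (hD : D ∈ Seven) (σ : Equiv.Perm (Fin D.nroots))
    (hσ : σ ∈ parab D hD (fullSet D)) : asc D σ = ∅ ↔ σ = w0Perm D hD := by
  classical
  unfold asc
  rw [Finset.filter_eq_empty_iff]
  constructor
  · intro h
    exact eq_w0Perm D hD σ hσ fun j hj => h (Finset.mem_range.2 hj)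
  · rintro rfl j hj
    exact w0Perm_not_posAt D hD j (Finset.mem_range.1 hj)

theorem isMin_iff_subset_asc (D : ChevalleyDatum) (σ : Equiv.Perm (Fin D.nroots))
    (J : Finset ℕ) (hJ : J ⊆ Finset.range D.rank) :
    IsMin D (↑J : Set ℕ) σ ↔ J ⊆ asc D σ := by
  classical
  unfold IsMin asc
  constructor
  · intro h j hj
    rw [Finset.mem_filter]
    exact ⟨hJ hj, h j (Finset.mem_range.1 (hJ hj)) (Finset.mem_coe.2 hj)⟩
  · intro h j _ hjJ
    have := h (Finset.mem_coe.1 hjJ)
    rw [Finset.mem_filter] at this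
    exact this.2

/-- Solomon's identity: the alternating sum over `J` of the sums over the minimal coset
representatives of `W / W_J` picks out the longest element -/
theorem solomon (D : ChevalleyDatum) (hD : D ∈ Seven) {R : Type*} [CommRing R]
    (f : Equiv.Perm (Fin D.nroots) → R) :
    ∑ J ∈ (Finset.range D.rank).powerset,
      (-1 : R) ^ J.card * ∑ σ ∈ minReps D hD (↑J : Set ℕ), f σ = f (w0Perm D hD) := by
  classical
  have h1 : ∀ J ∈ (Finset.range D.rank).powerset,
      (-1 : R) ^ J.card * ∑ σ ∈ minReps D hD (↑J : Set ℕ), f σ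
        = ∑ σ ∈ wFin D hD, if J ⊆ asc D σ then (-1 : R) ^ J.card * f σ else 0 := by
    intro J hJ
    rw [Finset.mem_powerset] at hJ
    unfold minReps
    rw [Finset.mul_sum, Finset.sum_filter]
    apply Finset.sum_congr rfl
    intro σ _
    by_cases h : IsMin D (↑J : Set ℕ) σ
    · rw [if_pos h, if_pos ((isMin_iff_subset_asc D σ J hJ).1 h)]
    · rw [if_neg h, if_neg (fun h' => h ((isMin_iff_subset_asc D σ J hJ).2 h'))]
  rw [Finset.sum_congr rfl h1, Finset.sum_comm]
  have h2 : ∀ σ ∈ wFin D hD,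
      ∑ J ∈ (Finset.range D.rank).powerset, (if J ⊆ asc D σ then (-1 : R) ^ J.card * f σ else 0)
        = if σ = w0Perm D hD then f σ else 0 := by
    intro σ hσ
    rw [mem_wFin] at hσ
    rw [← Finset.sum_filter]
    have e : (Finset.range D.rank).powerset.filter (fun J => J ⊆ asc D σ) = (asc D σ).powerset := by
      ext J
      rw [Finset.mem_filter, Finset.mem_powerset, Finset.mem_powerset]
      constructor
      · exact fun h => h.2
      · intro h
        exact ⟨h.trans (Finset.filter_subset _ _), h⟩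
    rw [e, ← Finset.sum_mul]
    have e2 : ∑ J ∈ (asc D σ).powerset, (-1 : R) ^ J.card
        = ((∑ J ∈ (asc D σ).powerset, (-1 : ℤ) ^ J.card : ℤ) : R) := by
      push_cast
      rfl
    rw [e2, Finset.sum_powerset_neg_one_pow_card]
    by_cases h : σ = w0Perm D hD
    · rw [if_pos h, if_pos ((asc_eq_empty_iff D hD σ hσ).2 h)]
      simp
    · rw [if_neg h, if_neg (fun h' => h ((asc_eq_empty_iff D hD σ hσ).1 h'))]
      simp
  rw [Finset.sum_congr rfl h2, Finset.sum_ite_eq' (wFin D hD) (w0Perm D hD) f,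
    if_pos ((mem_wFin D hD _).2 (w0Perm_mem D hD))]

end Cfsg.Agent.Lib.Helper6.Steinberg
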