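import Mathlib
import Cfsg.Prelude.Def_ParabolicCharacters
import Cfsg.Agent.Lib.Helper5.ChevGroupCard
import Cfsg.Agent.Lib.Helper5.ChevPara
import Cfsg.Agent.Lib.Helper6.StWeyl

set_option autoImplicit false

/-!
The standard parabolic subgroups of a Chevalley group as unions of Bruhat cells, their orders and
their indices.
-/

namespace Cfsg.Agent.Lib.Helper6.Steinberg

open Cfsg Cfsg.Lie Cfsg.Agent.Lib.Helper5.ChevSym Cfsg.Agent.Lib.Helper5.ChevStruct

variable {F : Type*} [Field F]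

theorem borel_le_parabolic (D : ChevalleyDatum) (J : Set ℕ) :
    D.borelSubgroup F ≤ D.parabolicSubgroup F J := by
  unfold ChevalleyDatum.parabolicSubgroup
  exact le_sup_left

theorem wGL_mem_parabolic (D : ChevalleyDatum) (hD : D ∈ Seven) (J : Set ℕ) (x : List ℕ)
    (hx : WdIn D J x) : (wGL D hD x : GL D.Idx F) ∈ D.parabolicSubgroup F J := by
  induction x with
  | nil =>
    rw [wGL_nil]
    exact one_mem _
  | cons j x ih =>
    rw [wGL_cons]
    exact mul_mem (nGL_mem_parabolic D hD J j hx.head.2 hx.head.1) (ih hx.tail)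

/-- the set `B W_J B` -/
def cellSet (D : ChevalleyDatum) (hD : D ∈ Seven) (F : Type*) [Field F] (J : Set ℕ) :
    Set (GL D.Idx F) :=
  {g | ∃ x, WdIn D J x ∧ ∃ b1 ∈ D.borelSubgroup F, ∃ b2 ∈ D.borelSubgroup F,
    g = b1 * wGL D hD x * b2}

theorem one_mem_cellSet (D : ChevalleyDatum) (hD : D ∈ Seven) (J : Set ℕ) :
    (1 : GL D.Idx F) ∈ cellSet D hD F J := by
  refine ⟨[], WdIn.nil D J, 1, one_mem _, 1, one_mem _, ?_⟩
  rw [wGL_nil]
  group

theorem borel_mul_mem_cellSet (D : ChevalleyDatum) (hD : D ∈ Seven) (J : Set ℕ)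
    (b : GL D.Idx F) (hb : b ∈ D.borelSubgroup F) (g : GL D.Idx F) (hg : g ∈ cellSet D hD F J) :
    b * g ∈ cellSet D hD F J := by
  obtain ⟨x, hx, b1, hb1, b2, hb2, rfl⟩ := hg
  refine ⟨x, hx, b * b1, mul_mem hb hb1, b2, hb2, ?_⟩
  group

theorem nGL_mul_mem_cellSet (D : ChevalleyDatum) (hD : D ∈ Seven) (J : Set ℕ)
    (j : ℕ) (hj : j < D.rank) (hjJ : j ∈ J) (g : GL D.Idx F) (hg : g ∈ cellSet D hD F J) :
    nGL D hD j * g ∈ cellSet D hD F J := by
  obtain ⟨x, hx, b1, hb1, b2, hb2, rfl⟩ := hg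
  have key := nGL_borel_monomial D hD j hj (wGL D hD x) (wGL_mem D hD x hx.wd) b1 hb1
  rcases key with key | key
  · rw [DoubleCoset.mem_doubleCoset] at key
    obtain ⟨c1, hc1, c2, hc2, e⟩ := key
    refine ⟨j :: x, WdIn.cons hj hjJ hx, c1, hc1, c2 * b2, mul_mem hc2 hb2, ?_⟩
    rw [wGL_cons]
    calc nGL D hD j * (b1 * wGL D hD x * b2) = (nGL D hD j * b1 * wGL D hD x) * b2 := by group
      _ = c1 * (nGL D hD j * wGL D hD x) * c2 * b2 := by rw [e]
      _ = _ := by group
  · rw [DoubleCoset.mem_doubleCoset] at key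
    obtain ⟨c1, hc1, c2, hc2, e⟩ := key
    refine ⟨x, hx, c1, hc1, c2 * b2, mul_mem hc2 hb2, ?_⟩
    calc nGL D hD j * (b1 * wGL D hD x * b2) = (nGL D hD j * b1 * wGL D hD x) * b2 := by group
      _ = c1 * wGL D hD x * c2 * b2 := by rw [e]
      _ = _ := by group

/-- `P_J ⊆ B W_J B` -/
theorem parabolic_subset_cellSet (D : ChevalleyDatum) (hD : D ∈ Seven) (J : Set ℕ)
    (g : GL D.Idx F) (hg : g ∈ D.parabolicSubgroup F J) : g ∈ cellSet D hD F J := by
  unfold ChevalleyDatum.parabolicSubgroup at hg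
  rw [← Subgroup.closure_eq (D.borelSubgroup F), ← Subgroup.closure_union] at hg
  induction hg using Subgroup.closure_induction_left with
  | one => exact one_mem_cellSet D hD J
  | mul_left s hs y _ ih =>
    rcases hs with hs | ⟨j, hjJ, hj, hs⟩
    · exact borel_mul_mem_cellSet D hD J s hs y ih
    · have : s = nGL D hD j := Units.ext (by rw [hs, nGL_val])
      rw [this]
      exact nGL_mul_mem_cellSet D hD J j hj hjJ y ih
  | inv_mul_cancel s hs y _ ih =>
    rcases hs with hs | ⟨j, hjJ, hj, hs⟩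
    · exact borel_mul_mem_cellSet D hD J s⁻¹ (inv_mem hs) y ih
    · have : s = nGL D hD j := Units.ext (by rw [hs, nGL_val])
      rw [this]
      have hsq := diagonal_le_borel D (nGL_sq_mem (F := F) D hD j hj).1
      have e : (nGL D hD j : GL D.Idx F)⁻¹ * y
          = nGL D hD j * ((nGL D hD j * nGL D hD j)⁻¹ * y) := by group
      rw [e]
      exact nGL_mul_mem_cellSet D hD J j hj hjJ _
        (borel_mul_mem_cellSet D hD J _ (inv_mem hsq) y ih)

/-- the Bruhat normal form of an element of `P_J` uses a word in `J` -/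
theorem exists_cell_of_mem_parabolic (D : ChevalleyDatum) (hD : D ∈ Seven) (J : Set ℕ)
    (g : GL D.Idx F) (hg : g ∈ D.parabolicSubgroup F J) :
    ∃ x, WdIn D J x ∧ ∃ b ∈ D.borelSubgroup F, ∃ v ∈ unegSub D F x, g = b * wGL D hD x * v := by
  obtain ⟨x, hx, b1, hb1, b2, hb2, rfl⟩ := parabolic_subset_cellSet D hD J g hg
  have hb2'' : b2 ∈ ((D.diagonalSubgroup F ⊔ D.posUnipotent F :
      Subgroup (GL D.Idx F)) : Set (GL D.Idx F)) := by
    rw [sup_comm]
    exact hb2
  rw [Subgroup.coe_mul_of_left_le_normalizer_right _ _ (diagonal_le_normalizer_pos D hD)] at hb2''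
  obtain ⟨h, hh, u, hu, e2⟩ := Set.mem_mul.1 hb2''
  obtain ⟨b, hb, v, hv, e4⟩ := sharpAt_all (F := F) D hD _ x hx.wd rfl u hu
  have hxN := wGL_mem (F := F) D hD x hx.wd
  refine ⟨x, hx, b1 * (wGL D hD x * h * (wGL D hD x)⁻¹) * b, ?_, v, hv, ?_⟩
  · apply mul_mem (mul_mem hb1 _) hb
    exact diagonal_le_borel D (conj_monomial_diag_mem D hD _ hxN _ hh).1
  · rw [← e2]
    calc b1 * wGL D hD x * (h * u)
        = b1 * (wGL D hD x * h * (wGL D hD x)⁻¹) * (wGL D hD x * u) := by group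
      _ = _ := by rw [e4]; group

/-- the cell of `σ` lies in `P_J` exactly when `σ ∈ W_J` -/
theorem cellMap_mem_parabolic_iff (D : ChevalleyDatum) (hD : D ∈ Seven) (J : Set ℕ)
    (p : Σ σ : ↥(parab D hD (fullSet D)),
      ↥(D.borelSubgroup F) × ↥(unegSub D F (wordOf D hD σ))) :
    ((cellMap D hD F p : ↥(D.group F)) : GL D.Idx F) ∈ D.parabolicSubgroup F J
      ↔ p.1.1 ∈ parab D hD J := by
  obtain ⟨σ, b, v⟩ := p
  have hw := (wordOf_spec D hD σ).1.wd
  have hN := wGL_mem (F := F) D hD _ hw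
  constructor
  · intro hmem
    obtain ⟨x, hx, b', hb', v', hv', e⟩ := exists_cell_of_mem_parabolic D hD J _ hmem
    have hN' := wGL_mem (F := F) D hD x hx.wd
    have e' : (b : GL D.Idx F) * wGL D hD (wordOf D hD σ) * (v : GL D.Idx F)
        = b' * wGL D hD x * v' := e
    have huniq := bruhat_unique D hD _ _ _ _ _ _ b.2 hb' hN hN'
      (unegSub_le_unegOf D hD _ hw v.2) (unegSub_le_unegOf D hD _ hx.wd hv') e'
    have hH : (wGL D hD (wordOf D hD σ) * (wGL D hD x)⁻¹ : GL D.Idx F)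
        ∈ D.diagonalSubgroup F := by
      have h1 := (conj_monomial_diag_mem D hD _ hN _ huniq.1).1
      have e1 : (wGL D hD (wordOf D hD σ) * (wGL D hD x)⁻¹ : GL D.Idx F)
          = (wGL D hD (wordOf D hD σ) * ((wGL D hD (wordOf D hD σ))⁻¹ * wGL D hD x)
            * (wGL D hD (wordOf D hD σ))⁻¹)⁻¹ := by group
      rw [e1]
      exact inv_mem h1
    have hact := (hrel_iff_act_eq D hD _ _ hw hx.wd).1 hH
    have hσ : σ.1 = wPerm D hD x := by
      rw [← (wordOf_spec D hD σ).2]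
      exact (wPerm_eq_iff D hD _ _ hw hx.wd).2 hact
    show σ.1 ∈ parab D hD J
    rw [hσ]
    exact wPerm_mem_parab D hD J x hx
  · intro hσ
    have hσ' : σ.1 ∈ parab D hD J := hσ
    obtain ⟨x, hx, ex⟩ := exists_word_of_mem_parab D hD J σ.1 hσ'
    have hact : ∀ r < D.nroots, wAct D (wordOf D hD σ) r = wAct D x r :=
      (wPerm_eq_iff D hD _ _ hw hx.wd).1 ((wordOf_spec D hD σ).2.trans ex.symm)
    have hH := hrel_of_act_eq (F := F) D hD _ _ hw hx.wd hact
    have hwP : (wGL D hD (wordOf D hD σ) : GL D.Idx F) ∈ D.parabolicSubgroup F J := by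
      have e : (wGL D hD (wordOf D hD σ) : GL D.Idx F)
          = (wGL D hD (wordOf D hD σ) * (wGL D hD x)⁻¹) * wGL D hD x := by group
      rw [e]
      exact mul_mem (borel_le_parabolic D J (diagonal_le_borel D hH))
        (wGL_mem_parabolic D hD J x hx)
    show (b : GL D.Idx F) * wGL D hD (wordOf D hD σ) * (v : GL D.Idx F)
      ∈ D.parabolicSubgroup F J
    apply mul_mem (mul_mem (borel_le_parabolic D J b.2) hwP)
    exact borel_le_parabolic D J (pos_le_borel D
      (unegOf_le_pos D _ (unegSub_le_unegOf D hD _ hw v.2)))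

/-- `|P_J| = |U| |H| ∑_{w ∈ W_J} q^{N(w)}` -/
theorem card_parabolicIn [Fintype F] (D : ChevalleyDatum) (hD : D ∈ Seven) (J : Set ℕ)
    (hJ : J ⊆ fullSet D) :
    Nat.card ((D.parabolicSubgroup F J).subgroupOf (D.group F))
      = Fintype.card F ^ (D.nroots / 2) * Nat.card (D.diagonalSubgroup F) *
        poinc D hD J (Fintype.card F) := by
  classical
  set Φ := Equiv.ofBijective _ (cellMap_bijective (F := F) D hD) with hΦ
  have hiff : ∀ p, (p.1.1 ∈ parab D hD J) ↔
      Φ p ∈ (D.parabolicSubgroup F J).subgroupOf (D.group F) := by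
    intro p
    rw [Subgroup.mem_subgroupOf]
    exact (cellMap_mem_parabolic_iff D hD J p).symm
  have e1 := Φ.subtypeEquiv hiff
  have e2 := Equiv.subtypeSigmaEquiv
    (fun σ : ↥(parab D hD (fullSet D)) =>
      ↥(D.borelSubgroup F) × ↥(unegSub D F (wordOf D hD σ)))
    (fun σ : ↥(parab D hD (fullSet D)) => σ.1 ∈ parab D hD J)
  rw [← Nat.card_congr e1, Nat.card_congr e2, Nat.card_sigma]
  have hterm : ∀ σ : ↥(parab D hD (fullSet D)),
      Nat.card (↥(D.borelSubgroup F) × ↥(unegSub D F (wordOf D hD σ)))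
        = Fintype.card F ^ (D.nroots / 2) * Nat.card (D.diagonalSubgroup F) *
          Fintype.card F ^ Nf D σ.1 := by
    intro σ
    have hw := (wordOf_spec D hD σ).1.wd
    rw [Nat.card_prod, card_borel D hD, card_posUnipotent D hD, card_unegSub D hD _ hw,
      ← Nf_wPerm D hD _ hw, (wordOf_spec D hD σ).2]
  rw [Finset.sum_congr rfl (fun a _ => hterm a.1), ← Finset.mul_sum]
  congr 1
  let e3 : {σ : ↥(parab D hD (fullSet D)) // σ.1 ∈ parab D hD J} ≃ ↥(parab D hD J) :=
    { toFun := fun a => ⟨a.1.1, a.2⟩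
      invFun := fun s => ⟨⟨s.1, parab_mono D hD hJ s.2⟩, s.2⟩
      left_inv := fun _ => rfl
      right_inv := fun _ => rfl }
  have hsum : ∑ i : {σ : ↥(parab D hD (fullSet D)) // σ.1 ∈ parab D hD J},
        Fintype.card F ^ Nf D i.1.1
      = ∑ s : ↥(parab D hD J), Fintype.card F ^ Nf D s.1 :=
    Fintype.sum_equiv e3 _ _ (fun _ => rfl)
  rw [hsum]
  unfold poinc
  symm
  apply Finset.sum_subtype
  intro σ
  rw [Finset.mem_filter]
  simp

/-- `[G : P_J] = ∑_{w ∈ W^J} q^{N(w)}` -/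
theorem index_parabolicIn [Fintype F] (D : ChevalleyDatum) (hD : D ∈ Seven) (J : Finset ℕ)
    (hJ : J ⊆ Finset.range D.rank) :
    (D.parabolicIn F J).index
      = ∑ σ ∈ minReps D hD (↑J : Set ℕ), Fintype.card F ^ Nf D σ := by
  have hJ' : (↑J : Set ℕ) ⊆ fullSet D := by
    intro i hi
    exact List.mem_range.2 (Finset.mem_range.1 (hJ (Finset.mem_coe.1 hi)))
  have h1 := Subgroup.index_mul_card (D.parabolicIn F J)
  unfold ChevalleyDatum.parabolicIn at h1 ⊢
  rw [card_parabolicIn D hD _ hJ', card_group D hD,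
    poinc_factor D hD _ hJ' (Fintype.card F)] at h1
  have hq : 0 < Fintype.card F := Fintype.card_pos
  have hH : 0 < Nat.card (D.diagonalSubgroup F) := Nat.card_pos
  have hpos : 0 < Fintype.card F ^ (D.nroots / 2) * Nat.card (D.diagonalSubgroup F) *
      poinc D hD (↑J : Set ℕ) (Fintype.card F) :=
    Nat.mul_pos (Nat.mul_pos (pow_pos hq _) hH) (poinc_pos D hD _ _ hq)
  apply Nat.eq_of_mul_eq_mul_right hpos
  rw [h1]
  ring

theorem fixedPointCharacter_one {G : Type*} [Group G] (H : Subgroup G) :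
    fixedPointCharacter H 1 = (Nat.card (G ⧸ H) : ℂ) := by
  unfold fixedPointCharacter
  congr 1
  exact Nat.card_congr (Equiv.subtypeUnivEquiv (fun x => one_smul G x))

/-- the degree of the Steinberg character -/
theorem steinberg_one [Fintype F] (D : ChevalleyDatum) (hD : D ∈ Seven) :
    D.steinbergCharacter F 1 = (Fintype.card F : ℂ) ^ (D.nroots / 2) := by
  unfold ChevalleyDatum.steinbergCharacter
  have h1 : ∀ J ∈ (Finset.range D.rank).powerset,
      (-1 : ℂ) ^ J.card * fixedPointCharacter (D.parabolicIn F J) 1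
        = (-1 : ℂ) ^ J.card *
          ∑ σ ∈ minReps D hD (↑J : Set ℕ), (Fintype.card F : ℂ) ^ Nf D σ := by
    intro J hJ
    rw [Finset.mem_powerset] at hJ
    rw [fixedPointCharacter_one, ← Subgroup.index_eq_card, index_parabolicIn D hD J hJ]
    push_cast
    rfl
  rw [Finset.sum_congr rfl h1, solomon D hD (fun σ => (Fintype.card F : ℂ) ^ Nf D σ), Nf_w0Perm]

end Cfsg.Agent.Lib.Helper6.Steinberg
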