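import Mathlib
import Cfsg.Prelude.Def_LinearParabolics
import Cfsg.Agent.Lib.Helper5.StVDefs

/-! S2425 farm, piece P9: basics on the lattice of invariant subspaces of a (semisimple) endomorphism. -/

set_option autoImplicit false
set_option linter.unusedSectionVars false

open scoped Polynomial MatrixGroups

namespace Cfsg.Agent.Lib.Helper5.StV

section

variable {F : Type*} [Field F] {V : Type*} [AddCommGroup V] [Module F V] [FiniteDimensional F V]

theorem rk_strictMono (x : Module.End F V) : StrictMono (rk x) := by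
  intro U W hUW
  have h : U.1 < W.1 := hUW
  exact Submodule.finrank_lt_finrank_of_lt h

theorem rk_top (x : Module.End F V) : rk x ⊤ = Module.finrank F V := by
  show Module.finrank F (⊤ : Submodule F V) = _
  exact finrank_top F V

theorem rk_bot (x : Module.End F V) : rk x ⊥ = 0 := by
  show Module.finrank F (⊥ : Submodule F V) = _
  exact finrank_bot F V

theorem exists_atom_isCompl [Finite F] [Nontrivial V] (x : Module.End F V) (hx : x.IsSemisimple) :
    ∃ A V' : Inv x, IsAtom A ∧ IsCompl A V' := by
  haveI : Finite (Inv x) := finite_inv x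
  haveI : IsAtomic (Inv x) := Finite.to_isAtomic
  have hne : (⊤ : Inv x) ≠ ⊥ := by
    intro h
    have h1 : ((⊤ : Inv x) : Submodule F V) = ((⊥ : Inv x) : Submodule F V) := congrArg Subtype.val h
    have h2 : (⊤ : Submodule F V) = ⊥ := h1
    exact top_ne_bot h2
  rcases eq_bot_or_exists_atom_le (⊤ : Inv x) with h | ⟨A, hA, -⟩
  · exact absurd h hne
  · obtain ⟨V', hV'⟩ := Module.End.isSemisimple_iff'.mp hx A
    exact ⟨A, V', hA, hV'⟩

theorem isCoatom_of_isCompl (x : Module.End F V) (A V' : Inv x) (hA : IsAtom A) (h : IsCompl A V') :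
    IsCoatom V' := by
  have hc : IsCompl A.1 V'.1 := (Module.End.invtSubmodule.isCompl_iff x).mp h
  refine ⟨?_, ?_⟩
  · intro htop
    apply hA.1
    have h1 : A ⊓ V' = ⊥ := h.inf_eq_bot
    rw [htop, inf_top_eq] at h1
    exact h1
  · intro W hW
    have hle : V'.1 ≤ W.1 := hW.le
    have hWA : W ⊓ A ≤ A := inf_le_right
    rcases hA.le_iff.mp hWA with h0 | h1
    · exfalso
      have h2 : W.1 ⊓ A.1 = ⊥ := by
        have := congrArg Subtype.val h0
        exact this
      have h3 : (V'.1 ⊔ A.1) ⊓ W.1 = V'.1 ⊔ A.1 ⊓ W.1 := sup_inf_assoc_of_le A.1 hle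
      rw [sup_comm, hc.sup_eq_top, top_inf_eq, inf_comm, h2, sup_bot_eq] at h3
      have h4 : W = V' := Subtype.ext h3
      exact hW.ne h4.symm
    · have hAW : A ≤ W := by
        rw [← h1]; exact inf_le_left
      have : A ⊔ V' ≤ W := sup_le hAW hW.le
      rw [h.sup_eq_top] at this
      exact top_le_iff.mp this

theorem isSemisimple_restr (x : Module.End F V) (hx : x.IsSemisimple) (W : Inv x) :
    (restr x W).IsSemisimple :=
  Module.End.IsSemisimple.restrict W.2 hx

theorem charpoly_eq_mul (x : Module.End F V) (A V' : Inv x) (h : IsCompl A V') :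
    x.charpoly = (restr x A).charpoly * (restr x V').charpoly := by
  have hc : IsCompl A.1 V'.1 := (Module.End.invtSubmodule.isCompl_iff x).mp h
  let e := Submodule.prodEquivOfIsCompl A.1 V'.1 hc
  have hψ : (restr x A).prodMap (restr x V') = e.symm.conj x := by
    apply LinearMap.ext
    rintro ⟨a, b⟩
    rw [LinearEquiv.conj_apply]
    simp only [LinearMap.prodMap_apply, LinearMap.coe_comp, LinearEquiv.coe_coe, Function.comp_apply,
      LinearEquiv.symm_symm]
    rw [LinearEquiv.eq_symm_apply]
    simp only [e, Submodule.coe_prodEquivOfIsCompl', map_add]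
    rfl
  rw [← e.symm.charpoly_conj x, ← hψ, LinearMap.charpoly_prodMap]

end

end Cfsg.Agent.Lib.Helper5.StV
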