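import Mathlib
import Cfsg.Prelude.Def_LinearParabolics
import Cfsg.Agent.Lib.Helper5.StVDefs

/-! S2425 farm, piece P10: the characteristic polynomial of the restriction of `x` to a minimal invariant subspace is
irreducible and equals the minimal polynomial. -/

set_option autoImplicit false
set_option linter.unusedSectionVars false

open scoped Polynomial MatrixGroups

namespace Cfsg.Agent.Lib.Helper5.StV

section

variable {F : Type*} [Field F]

theorem h6_ker_aeval_mem_invt {M : Type*} [AddCommGroup M] [Module F M] (y : Module.End F M) (a : F[X]) :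
    LinearMap.ker (Polynomial.aeval y a) ∈ Module.End.invtSubmodule y := by
  rw [Module.End.mem_invtSubmodule]
  intro v hv
  rw [Submodule.mem_comap, LinearMap.mem_ker]
  have hcomm : Polynomial.aeval y a * y = y * Polynomial.aeval y a := by
    have := (Commute.all a Polynomial.X).map (Polynomial.aeval y)
    rw [Polynomial.aeval_X] at this
    exact this.eq
  have : (Polynomial.aeval y a * y) v = 0 := by
    rw [hcomm, Module.End.mul_apply, LinearMap.mem_ker.mp hv, map_zero]
  exact this

theorem h6_simple_minpoly_irreducible {M : Type*} [AddCommGroup M] [Module F M] [FiniteDimensional F M]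
    [Nontrivial M] (y : Module.End F M) (hs : ∀ W ∈ Module.End.invtSubmodule y, W = ⊥ ∨ W = ⊤) :
    Irreducible (minpoly F y) := by
  have hint : IsIntegral F y := Algebra.IsIntegral.isIntegral y
  have hker : ∀ a : F[X], LinearMap.ker (Polynomial.aeval y a) = ⊥ ∨ Polynomial.aeval y a = 0 := by
    intro a
    rcases hs _ (h6_ker_aeval_mem_invt y a) with h | h
    · exact Or.inl h
    · exact Or.inr (LinearMap.ker_eq_top.mp h)
  have hne : minpoly F y ≠ 0 := minpoly.ne_zero hint
  have key : ∀ a b : F[X], minpoly F y = a * b → Polynomial.aeval y a = 0 → IsUnit b := by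
    intro a b hab h0
    obtain ⟨c, hc⟩ := minpoly.dvd F y h0
    have h2 : minpoly F y * 1 = minpoly F y * (c * b) := by
      rw [mul_one, ← mul_assoc, ← hc]; exact hab
    have h1 := mul_left_cancel₀ hne h2
    exact IsUnit.of_mul_eq_one c (by rw [mul_comm]; exact h1.symm)
  rw [irreducible_iff]
  refine ⟨minpoly.not_isUnit F y, ?_⟩
  intro a b hab
  have hprod : Polynomial.aeval y a * Polynomial.aeval y b = 0 := by
    rw [← map_mul, ← hab, minpoly.aeval]
  rcases hker a with h | h
  · left
    have hb0 : Polynomial.aeval y b = 0 := by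
      apply LinearMap.ext
      intro v
      have h3 : Polynomial.aeval y a (Polynomial.aeval y b v) = 0 := by
        rw [← Module.End.mul_apply, hprod]; rfl
      have h4 := LinearMap.mem_ker.mpr h3
      rw [h] at h4
      exact (Submodule.mem_bot F).mp h4
    exact key b a (hab.trans (mul_comm a b)) hb0
  · right
    exact key a b hab h

theorem h6_simple_charpoly_eq_minpoly {M : Type*} [AddCommGroup M] [Module F M] [FiniteDimensional F M]
    [Nontrivial M] (y : Module.End F M) (hs : ∀ W ∈ Module.End.invtSubmodule y, W = ⊥ ∨ W = ⊤) :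
    y.charpoly = minpoly F y := by
  obtain ⟨v, hv⟩ := exists_ne (0 : M)
  obtain ⟨m, hmdef⟩ : ∃ m, m = minpoly F y := ⟨_, rfl⟩
  rw [← hmdef]
  have hm : m.Monic := by rw [hmdef]; exact minpoly.monic (Algebra.IsIntegral.isIntegral y)
  have hm0 : Polynomial.aeval y m = 0 := by rw [hmdef]; exact minpoly.aeval F y
  let φ : F[X] →ₗ[F] M := (LinearMap.applyₗ v : Module.End F M →ₗ[F] M) ∘ₗ
    (Polynomial.aeval y : F[X] →ₐ[F] Module.End F M).toLinearMap
  have hφ : ∀ p, φ p = Polynomial.aeval y p v := fun p => rfl
  have hinv : LinearMap.range φ ∈ Module.End.invtSubmodule y := by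
    rw [Module.End.mem_invtSubmodule]
    rintro _ ⟨p, rfl⟩
    rw [Submodule.mem_comap]
    refine ⟨Polynomial.X * p, ?_⟩
    rw [hφ, hφ, map_mul, Polynomial.aeval_X, Module.End.mul_apply]
  have htop : LinearMap.range φ = ⊤ := by
    rcases hs _ hinv with h | h
    · exfalso
      have h1 : v ∈ LinearMap.range φ := ⟨1, by rw [hφ, map_one]; rfl⟩
      rw [h] at h1
      exact hv ((Submodule.mem_bot F).mp h1)
    · exact h
  let ψ : Polynomial.degreeLT F m.natDegree →ₗ[F] M := φ ∘ₗ (Polynomial.degreeLT F m.natDegree).subtype
  have hψ : Function.Surjective ψ := by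
    intro w
    have h1 : w ∈ LinearMap.range φ := by rw [htop]; trivial
    obtain ⟨p, rfl⟩ := h1
    refine ⟨⟨p %ₘ m, ?_⟩, ?_⟩
    · rw [Polynomial.mem_degreeLT]
      calc (p %ₘ m).degree < m.degree := Polynomial.degree_modByMonic_lt p hm
        _ = m.natDegree := Polynomial.degree_eq_natDegree hm.ne_zero
    · show φ (p %ₘ m) = φ p
      rw [hφ, hφ]
      conv_rhs => rw [← Polynomial.modByMonic_add_div p m]
      rw [map_add, map_mul, hm0, zero_mul, add_zero]
  have hle : Module.finrank F M ≤ m.natDegree := by
    have h1 := LinearMap.finrank_le_finrank_of_surjective hψ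
    have h2 : Module.finrank F (Polynomial.degreeLT F m.natDegree) = m.natDegree :=
      (Polynomial.degreeLTEquiv F m.natDegree).finrank_eq.trans (Module.finrank_fin_fun F)
    rw [h2] at h1
    exact h1
  have hdvd : m ∣ y.charpoly := by rw [hmdef]; exact LinearMap.minpoly_dvd_charpoly y
  refine Polynomial.eq_of_monic_of_dvd_of_natDegree_le hm (LinearMap.charpoly_monic y) hdvd ?_
  rw [LinearMap.charpoly_natDegree]
  exact hle

variable {V : Type*} [AddCommGroup V] [Module F V] [FiniteDimensional F V]

theorem h6_atom_simple (x : Module.End F V) (A : Inv x) (hA : IsAtom A) :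
    Nontrivial A.1 ∧ ∀ W ∈ Module.End.invtSubmodule (restr x A), W = ⊥ ∨ W = ⊤ := by
  constructor
  · rw [Submodule.nontrivial_iff_ne_bot]
    intro h
    apply hA.1
    exact Subtype.ext h
  · intro W hW
    have h1 : Submodule.map A.1.subtype W ∈ Module.End.invtSubmodule x :=
      Module.End.invtSubmodule.map_subtype_mem_of_mem_invtSubmodule x A.2 hW
    have h2 : (⟨Submodule.map A.1.subtype W, h1⟩ : Inv x) ≤ A := by
      show Submodule.map A.1.subtype W ≤ A.1
      exact Submodule.map_subtype_le A.1 W
    rcases hA.le_iff.mp h2 with h | h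
    · left
      have h3 : Submodule.map A.1.subtype W = ⊥ := congrArg Subtype.val h
      apply Submodule.map_injective_of_injective (Submodule.subtype_injective A.1)
      rw [h3, Submodule.map_bot]
    · right
      have h3 : Submodule.map A.1.subtype W = A.1 := congrArg Subtype.val h
      apply Submodule.map_injective_of_injective (Submodule.subtype_injective A.1)
      rw [h3, Submodule.map_subtype_top]

theorem charpoly_restr_atom (x : Module.End F V) (A : Inv x) (hA : IsAtom A) :
    Irreducible (restr x A).charpoly ∧ (restr x A).charpoly = minpoly F (restr x A) := by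
  obtain ⟨hnt, hs⟩ := h6_atom_simple x A hA
  have h1 := h6_simple_charpoly_eq_minpoly (restr x A) hs
  refine ⟨?_, h1⟩
  rw [h1]
  exact h6_simple_minpoly_irreducible (restr x A) hs

end

end Cfsg.Agent.Lib.Helper5.StV
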