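import Mathlib
import Cfsg.Prelude.Def_LinearParabolics
import Cfsg.Agent.Lib.Helper5.StVDefs
import Cfsg.Agent.Lib.Helper6.StVSemiA
import Cfsg.Agent.Lib.Helper6.StVSemiB

/-! S2425 farm, piece P11: the number of vectors killed by `f(x)`, for `x` semisimple and `f` monic irreducible. -/

set_option autoImplicit false
set_option linter.unusedSectionVars false

open scoped Polynomial MatrixGroups

universe u

namespace Cfsg.Agent.Lib.Helper5.StV

section

variable {F : Type*} [Field F]

theorem h6_aeval_intertwine {M N : Type*} [AddCommGroup M] [Module F M] [AddCommGroup N] [Module F N]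
    (g : M →ₗ[F] N) (y : Module.End F M) (x : Module.End F N) (h : ∀ v, g (y v) = x (g v)) (p : F[X]) (v : M) :
    g (Polynomial.aeval y p v) = Polynomial.aeval x p (g v) := by
  have hpow : ∀ (n : ℕ) (v : M), g ((y ^ n) v) = (x ^ n) (g v) := by
    intro n
    induction n with
    | zero => intro v; simp
    | succ k ih =>
      intro v
      rw [pow_succ, pow_succ, Module.End.mul_apply, Module.End.mul_apply, ih, h]
  induction p using Polynomial.induction_on' with
  | add p q hp hq =>
    rw [map_add, map_add, LinearMap.add_apply, LinearMap.add_apply, map_add, hp, hq]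
  | monomial n a =>
    rw [Polynomial.aeval_monomial, Polynomial.aeval_monomial, Module.End.mul_apply, Module.End.mul_apply,
      Module.algebraMap_end_apply, Module.algebraMap_end_apply, map_smul, hpow]

variable {V : Type*} [AddCommGroup V] [Module F V]

theorem h6_aeval_restr (x : Module.End F V) (W : Inv x) (p : F[X]) (w : W.1) :
    ((Polynomial.aeval (restr x W) p w : W.1) : V) = Polynomial.aeval x p (w : V) :=
  h6_aeval_intertwine W.1.subtype (restr x W) x (fun v => rfl) p w

theorem h6_aeval_mem (x : Module.End F V) (W : Inv x) (p : F[X]) (w : V) (hw : w ∈ W.1) :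
    Polynomial.aeval x p w ∈ W.1 := by
  have := h6_aeval_restr x W p ⟨w, hw⟩
  rw [← this]
  exact Subtype.property _

theorem h6_card_ker_split (x : Module.End F V) (A V' : Inv x) (h : IsCompl A V') (p : F[X]) :
    Nat.card (LinearMap.ker (Polynomial.aeval x p)) =
      Nat.card (LinearMap.ker (Polynomial.aeval (restr x A) p)) *
        Nat.card (LinearMap.ker (Polynomial.aeval (restr x V') p)) := by
  have hc : IsCompl A.1 V'.1 := (Module.End.invtSubmodule.isCompl_iff x).mp h
  have hd := Submodule.disjoint_def.mp hc.disjoint
  rw [← Nat.card_prod]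
  have hmem : ∀ ab : LinearMap.ker (Polynomial.aeval (restr x A) p) × LinearMap.ker (Polynomial.aeval (restr x V') p),
      ((ab.1 : A.1) : V) + ((ab.2 : V'.1) : V) ∈ LinearMap.ker (Polynomial.aeval x p) := by
    rintro ⟨⟨a, ha⟩, ⟨b, hb⟩⟩
    rw [LinearMap.mem_ker] at ha hb ⊢
    show Polynomial.aeval x p ((a : V) + (b : V)) = 0
    rw [map_add, ← h6_aeval_restr x A p a, ← h6_aeval_restr x V' p b, ha, hb]
    simp
  let Φ : LinearMap.ker (Polynomial.aeval (restr x A) p) × LinearMap.ker (Polynomial.aeval (restr x V') p) →
      LinearMap.ker (Polynomial.aeval x p) := fun ab => ⟨_, hmem ab⟩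
  have hΦ : Function.Bijective Φ := by
    constructor
    · rintro ⟨⟨a, ha⟩, ⟨b, hb⟩⟩ ⟨⟨a', ha'⟩, ⟨b', hb'⟩⟩ hab
      have h1 : (a : V) + (b : V) = (a' : V) + (b' : V) := congrArg Subtype.val hab
      have h2 : (a : V) - (a' : V) = (b' : V) - (b : V) := by
        rw [sub_eq_sub_iff_add_eq_add, h1, add_comm]
      have h3 : (a : V) - (a' : V) = 0 := by
        apply hd
        · exact A.1.sub_mem a.2 a'.2
        · rw [h2]; exact V'.1.sub_mem b'.2 b.2
      have h4 : (b' : V) - (b : V) = 0 := by rw [← h2, h3]
      have h5 : a = a' := Subtype.ext (sub_eq_zero.mp h3)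
      have h6 : b = b' := Subtype.ext (sub_eq_zero.mp h4).symm
      subst h5 h6
      rfl
    · rintro ⟨v, hv⟩
      rw [LinearMap.mem_ker] at hv
      have hv' : v ∈ A.1 ⊔ V'.1 := by rw [hc.sup_eq_top]; trivial
      obtain ⟨a, ha, b, hb, rfl⟩ := Submodule.mem_sup.mp hv'
      rw [map_add] at hv
      have h1 : Polynomial.aeval x p a = 0 := by
        apply hd
        · exact h6_aeval_mem x A p a ha
        · have : Polynomial.aeval x p a = -(Polynomial.aeval x p b) := eq_neg_of_add_eq_zero_left hv
          rw [this]
          exact V'.1.neg_mem (h6_aeval_mem x V' p b hb)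
      have h2 : Polynomial.aeval x p b = 0 := by rw [h1, zero_add] at hv; exact hv
      refine ⟨⟨⟨⟨a, ha⟩, ?_⟩, ⟨⟨b, hb⟩, ?_⟩⟩, rfl⟩
      · rw [LinearMap.mem_ker]
        apply Subtype.ext
        rw [h6_aeval_restr]
        exact h1
      · rw [LinearMap.mem_ker]
        apply Subtype.ext
        rw [h6_aeval_restr]
        exact h2
  exact (Nat.card_congr (Equiv.ofBijective Φ hΦ)).symm

end

section

variable {F : Type*} [Field F]

/-- The kernel of `f(y)` for `y` simple: everything if `f` is the characteristic polynomial, zero otherwise. -/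
theorem h6_card_ker_atom [Fintype F] {V : Type*} [AddCommGroup V] [Module F V] [FiniteDimensional F V]
    (x : Module.End F V) (A : Inv x) (hA : IsAtom A) (f : F[X]) (hf : Irreducible f) (hm : f.Monic) :
    (f = (restr x A).charpoly →
        Nat.card (LinearMap.ker (Polynomial.aeval (restr x A) f)) = Fintype.card F ^ f.natDegree) ∧
      (f ≠ (restr x A).charpoly → Nat.card (LinearMap.ker (Polynomial.aeval (restr x A) f)) = 1) := by
  obtain ⟨hnt, hs⟩ := h6_atom_simple x A hA
  obtain ⟨hirr, hmin⟩ := charpoly_restr_atom x A hA
  refine ⟨fun hfc => ?_, fun hfc => ?_⟩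
  · have h0 : Polynomial.aeval (restr x A) f = 0 := by
      rw [hfc]; exact LinearMap.aeval_self_charpoly _
    rw [h0, LinearMap.ker_zero, Nat.card_congr (Submodule.topEquiv (R := F) (M := A.1)).toEquiv,
      Module.natCard_eq_pow_finrank (K := F) (V := A.1), Nat.card_eq_fintype_card, hfc,
      LinearMap.charpoly_natDegree]
  · rcases hs _ (h6_ker_aeval_mem_invt (restr x A) f) with h | h
    · rw [h]
      exact Nat.card_unique
    · exfalso
      have h0 : Polynomial.aeval (restr x A) f = 0 := LinearMap.ker_eq_top.mp h
      have hdvd : (restr x A).charpoly ∣ f := by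
        rw [hmin]; exact minpoly.dvd F _ h0
      have hass : Associated (restr x A).charpoly f := hirr.associated_of_dvd hf hdvd
      exact hfc (Polynomial.eq_of_monic_of_associated (LinearMap.charpoly_monic _) hm hass).symm

theorem h6_card_ker_aeval_aux [Fintype F] [DecidableEq F] (f : F[X]) (hf : Irreducible f) (hm : f.Monic) :
    ∀ n : ℕ, ∀ (V : Type u) [AddCommGroup V] [Module F V] [FiniteDimensional F V] (x : Module.End F V),
      x.IsSemisimple → Module.finrank F V = n →
      Nat.card (LinearMap.ker (Polynomial.aeval x f)) =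
        (Fintype.card F ^ f.natDegree) ^ (UniqueFactorizationMonoid.normalizedFactors x.charpoly).count f := by
  intro n
  induction n using Nat.strong_induction_on with
  | _ n ih =>
    intro V _ _ _ x hx hn
    rcases subsingleton_or_nontrivial V with hV | hV
    · have h1 : x.charpoly = 1 := by
        apply Polynomial.eq_one_of_monic_natDegree_zero (LinearMap.charpoly_monic x)
        rw [LinearMap.charpoly_natDegree]
        exact Module.finrank_zero_of_subsingleton
      rw [h1, UniqueFactorizationMonoid.normalizedFactors_one, Multiset.count_zero, pow_zero]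
      exact Nat.card_of_subsingleton (0 : LinearMap.ker (Polynomial.aeval x f))
    · obtain ⟨A, V', hA, h⟩ := exists_atom_isCompl x hx
      have hc : IsCompl A.1 V'.1 := (Module.End.invtSubmodule.isCompl_iff x).mp h
      obtain ⟨hnt, hs⟩ := h6_atom_simple x A hA
      obtain ⟨hirr, hmin⟩ := charpoly_restr_atom x A hA
      have hfin : Module.finrank F V'.1 < n := by
        have h1 := Submodule.finrank_add_eq_of_isCompl hc
        have h2 : 0 < Module.finrank F A.1 := Module.finrank_pos
        omega
      have hIH := ih _ hfin V'.1 (restr x V') (isSemisimple_restr x hx V') rfl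
      rw [h6_card_ker_split x A V' h f, hIH, charpoly_eq_mul x A V' h,
        UniqueFactorizationMonoid.normalizedFactors_mul (LinearMap.charpoly_monic _).ne_zero
          (LinearMap.charpoly_monic _).ne_zero,
        UniqueFactorizationMonoid.normalizedFactors_irreducible hirr,
        (LinearMap.charpoly_monic (restr x A)).normalize_eq_self, Multiset.count_add,
        Multiset.count_singleton]
      by_cases hfc : f = (restr x A).charpoly
      · rw [if_pos hfc, (h6_card_ker_atom x A hA f hf hm).1 hfc, pow_add, pow_one]
      · rw [if_neg hfc, (h6_card_ker_atom x A hA f hf hm).2 hfc, zero_add, one_mul]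

end

section

variable {F : Type*} [Field F] {V : Type*} [AddCommGroup V] [Module F V] [FiniteDimensional F V]

theorem card_ker_aeval [Fintype F] [DecidableEq F] (x : Module.End F V) (hx : x.IsSemisimple) (f : F[X]) (hf : Irreducible f)
    (hm : f.Monic) :
    Nat.card (LinearMap.ker (Polynomial.aeval x f)) =
      (Fintype.card F ^ f.natDegree) ^ (UniqueFactorizationMonoid.normalizedFactors x.charpoly).count f :=
  h6_card_ker_aeval_aux f hf hm _ V x hx rfl

end

end Cfsg.Agent.Lib.Helper5.StV
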