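import Mathlib
import Cfsg.Prelude.Def_LinearParabolics
import Cfsg.Agent.Lib.Helper5.StVDefs
import Cfsg.Agent.Lib.Helper6.StVSemiA
import Cfsg.Agent.Lib.Helper6.StVSemiB
import Cfsg.Agent.Lib.Helper6.StVSemiC
import Cfsg.Agent.Lib.Helper5.StVCyc

/-! S2425 farm, piece P12b: the number of invariant complements of a coatom `V'` of the lattice of invariant subspaces of
a semisimple endomorphism. -/

set_option autoImplicit false
set_option linter.unusedSectionVars false

open scoped Polynomial MatrixGroups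

namespace Cfsg.Agent.Lib.Helper5.StV

section

variable {F : Type*} [Field F] {V : Type*} [AddCommGroup V] [Module F V] [FiniteDimensional F V]

/-- For `u0 ≠ 0` in the atom `A` and `w ∈ V'` killed by `f(x)`, `f` the characteristic polynomial of `x` on `A`, the
cyclic subspace generated by `u0 + w` is an invariant complement of `V'`. -/
theorem h6_cyc_isCompl (x : Module.End F V) (A V' : Inv x) (hA : IsAtom A) (h : IsCompl A V')
    (u0 : V) (hu0A : u0 ∈ A.1) (hu0 : u0 ≠ 0) (w : V) (hw : w ∈ V'.1)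
    (hfw : Polynomial.aeval x (restr x A).charpoly w = 0) :
    IsCompl (⟨cyc x (u0 + w), cyc_mem_invt x (u0 + w)⟩ : Inv x) V' := by
  have hc : IsCompl A.1 V'.1 := (Module.End.invtSubmodule.isCompl_iff x).mp h
  have hd := Submodule.disjoint_def.mp hc.disjoint
  obtain ⟨hirr, hmin⟩ := charpoly_restr_atom x A hA
  have hu0V' : u0 ∉ V'.1 := fun hm => hu0 (hd u0 hu0A hm)
  have hfu0 : Polynomial.aeval x (restr x A).charpoly u0 = 0 := by
    have h1 := h6_aeval_restr x A (restr x A).charpoly ⟨u0, hu0A⟩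
    rw [LinearMap.aeval_self_charpoly] at h1
    exact h1.symm
  have ht0 : u0 + w ≠ 0 := by
    intro h0
    apply hu0V'
    rw [eq_neg_of_add_eq_zero_left h0]
    exact V'.1.neg_mem hw
  have hft : Polynomial.aeval x (restr x A).charpoly (u0 + w) = 0 := by
    rw [map_add, hfu0, hfw, add_zero]
  have hatom := cyc_isAtom x _ hirr (u0 + w) ht0 hft
  have htV' : u0 + w ∉ V'.1 := by
    intro hm
    apply hu0V'
    have : u0 = (u0 + w) - w := by abel
    rw [this]
    exact V'.1.sub_mem hm hw
  obtain ⟨U, hUdef⟩ : ∃ U : Inv x, U = ⟨cyc x (u0 + w), cyc_mem_invt x (u0 + w)⟩ := ⟨_, rfl⟩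
  rw [← hUdef] at hatom ⊢
  have htU : u0 + w ∈ U.1 := by rw [hUdef]; exact mem_cyc_self x (u0 + w)
  constructor
  · rw [disjoint_iff]
    rcases hatom.le_iff.mp (inf_le_left : U ⊓ V' ≤ U) with h1 | h1
    · exact h1
    · exfalso
      have h2 : U ≤ V' := inf_eq_left.mp h1
      exact htV' (h2 htU)
  · rw [codisjoint_iff]
    have hu0mem : u0 ∈ (U ⊔ V').1 := by
      show u0 ∈ U.1 ⊔ V'.1
      have : u0 = (u0 + w) - w := by abel
      rw [this]
      exact Submodule.sub_mem _ (Submodule.mem_sup_left htU) (Submodule.mem_sup_right hw)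
    have h1 : cyc x u0 ≤ (U ⊔ V').1 := cyc_le x u0 (U ⊔ V') hu0mem
    have h2 : (⟨cyc x u0, cyc_mem_invt x u0⟩ : Inv x) = A := by
      have h3 : (⟨cyc x u0, cyc_mem_invt x u0⟩ : Inv x) ≤ A := cyc_le x u0 A hu0A
      rcases hA.le_iff.mp h3 with h4 | h4
      · exfalso
        have h5 : cyc x u0 = ⊥ := congrArg Subtype.val h4
        have h6 := mem_cyc_self x u0
        rw [h5] at h6
        exact hu0 ((Submodule.mem_bot F).mp h6)
      · exact h4
    have h3 : A ≤ U ⊔ V' := by
      rw [← h2]; exact h1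
    have h4 : A ⊔ V' ≤ U ⊔ V' := sup_le h3 le_sup_right
    rw [h.sup_eq_top] at h4
    exact top_le_iff.mp h4

theorem card_isCompl [Fintype F] [DecidableEq F] (x : Module.End F V) (hx : x.IsSemisimple) (A V' : Inv x) (hA : IsAtom A)
    (h : IsCompl A V') :
    Nat.card {U : Inv x // IsCompl U V'} =
      (Fintype.card F ^ (restr x A).charpoly.natDegree) ^
        (UniqueFactorizationMonoid.normalizedFactors (restr x V').charpoly).count (restr x A).charpoly := by
  have hc : IsCompl A.1 V'.1 := (Module.End.invtSubmodule.isCompl_iff x).mp h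
  have hd := Submodule.disjoint_def.mp hc.disjoint
  obtain ⟨hirr, hmin⟩ := charpoly_restr_atom x A hA
  obtain ⟨hnt, hs⟩ := h6_atom_simple x A hA
  rw [← card_ker_aeval (restr x V') (isSemisimple_restr x hx V') (restr x A).charpoly hirr
    (LinearMap.charpoly_monic _)]
  obtain ⟨⟨u0, hu0A⟩, hu0'⟩ := exists_ne (0 : A.1)
  have hu0 : u0 ≠ 0 := fun h0 => hu0' (Subtype.ext h0)
  have hu0V' : u0 ∉ V'.1 := fun hm => hu0 (hd u0 hu0A hm)
  have hkw : ∀ w : LinearMap.ker (Polynomial.aeval (restr x V') (restr x A).charpoly),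
      Polynomial.aeval x (restr x A).charpoly ((w : V'.1) : V) = 0 := by
    rintro ⟨w, hw⟩
    rw [LinearMap.mem_ker] at hw
    show Polynomial.aeval x (restr x A).charpoly (w : V) = 0
    rw [← h6_aeval_restr x V' _ w, hw]
    rfl
  let Ψ : LinearMap.ker (Polynomial.aeval (restr x V') (restr x A).charpoly) → {U : Inv x // IsCompl U V'} :=
    fun w => ⟨⟨cyc x (u0 + ((w : V'.1) : V)), cyc_mem_invt x _⟩,
      h6_cyc_isCompl x A V' hA h u0 hu0A hu0 _ (w : V'.1).2 (hkw w)⟩
  have hΨ : Function.Bijective Ψ := by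
    constructor
    · intro w1 w2 h12
      have h1 : cyc x (u0 + ((w1 : V'.1) : V)) = cyc x (u0 + ((w2 : V'.1) : V)) :=
        congrArg (fun U : {U : Inv x // IsCompl U V'} => (U.1.1 : Submodule F V)) h12
      have hcompl := (Ψ w2).2
      have hc2 : IsCompl (cyc x (u0 + ((w2 : V'.1) : V))) V'.1 :=
        (Module.End.invtSubmodule.isCompl_iff x).mp hcompl
      have hd2 := Submodule.disjoint_def.mp hc2.disjoint
      have hm1 : u0 + ((w1 : V'.1) : V) ∈ cyc x (u0 + ((w2 : V'.1) : V)) := by
        rw [← h1]; exact mem_cyc_self x _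
      have hm2 : u0 + ((w2 : V'.1) : V) ∈ cyc x (u0 + ((w2 : V'.1) : V)) := mem_cyc_self x _
      have h2 : ((w1 : V'.1) : V) - ((w2 : V'.1) : V) = 0 := by
        apply hd2
        · have : ((w1 : V'.1) : V) - ((w2 : V'.1) : V) =
              (u0 + ((w1 : V'.1) : V)) - (u0 + ((w2 : V'.1) : V)) := by abel
          rw [this]
          exact Submodule.sub_mem _ hm1 hm2
        · exact V'.1.sub_mem (w1 : V'.1).2 (w2 : V'.1).2
      exact Subtype.ext (Subtype.ext (sub_eq_zero.mp h2))
    · rintro ⟨U, hU⟩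
      have hcU : IsCompl U.1 V'.1 := (Module.End.invtSubmodule.isCompl_iff x).mp hU
      have hdU := Submodule.disjoint_def.mp hcU.disjoint
      have hu0mem : u0 ∈ U.1 ⊔ V'.1 := by rw [hcU.sup_eq_top]; trivial
      obtain ⟨a, ha, b, hb, hab⟩ := Submodule.mem_sup.mp hu0mem
      have hfu0 : Polynomial.aeval x (restr x A).charpoly u0 = 0 := by
        have h1 := h6_aeval_restr x A (restr x A).charpoly ⟨u0, hu0A⟩
        rw [LinearMap.aeval_self_charpoly] at h1
        exact h1.symm
      have hsum : Polynomial.aeval x (restr x A).charpoly a + Polynomial.aeval x (restr x A).charpoly b = 0 := by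
        rw [← map_add, hab, hfu0]
      have hfa : Polynomial.aeval x (restr x A).charpoly a = 0 := by
        apply hdU
        · exact h6_aeval_mem x U _ a ha
        · rw [eq_neg_of_add_eq_zero_left hsum]
          exact V'.1.neg_mem (h6_aeval_mem x V' _ b hb)
      have hfb : Polynomial.aeval x (restr x A).charpoly b = 0 := by
        rw [hfa, zero_add] at hsum; exact hsum
      have hwker : (⟨-b, V'.1.neg_mem hb⟩ : V'.1) ∈
          LinearMap.ker (Polynomial.aeval (restr x V') (restr x A).charpoly) := by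
        rw [LinearMap.mem_ker]
        apply Subtype.ext
        rw [h6_aeval_restr]
        show Polynomial.aeval x (restr x A).charpoly (-b) = 0
        rw [map_neg, hfb, neg_zero]
      refine ⟨⟨⟨-b, V'.1.neg_mem hb⟩, hwker⟩, ?_⟩
      apply Subtype.ext
      apply Subtype.ext
      show cyc x (u0 + -b) = U.1
      have hta : u0 + -b = a := by rw [← hab]; abel
      rw [hta]
      have hle : cyc x a ≤ U.1 := cyc_le x a U ha
      have hcompl := (Ψ ⟨⟨-b, V'.1.neg_mem hb⟩, hwker⟩).2
      have hc2 : IsCompl (cyc x (u0 + -b)) V'.1 := (Module.End.invtSubmodule.isCompl_iff x).mp hcompl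
      rw [hta] at hc2
      have h3 : (cyc x a ⊔ V'.1) ⊓ U.1 = cyc x a ⊔ V'.1 ⊓ U.1 := sup_inf_assoc_of_le V'.1 hle
      rw [hc2.sup_eq_top, top_inf_eq, inf_comm, hcU.inf_eq_bot, sup_bot_eq] at h3
      exact h3.symm
  exact (Nat.card_congr (Equiv.ofBijective Ψ hΨ)).symm

end

end Cfsg.Agent.Lib.Helper5.StV
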