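import Mathlib

set_option autoImplicit false
set_option linter.unusedVariables false
set_option linter.unusedSectionVars false
set_option linter.style.longLine false

namespace Cfsg.Agent.Lib.Helper6.GLFlag

universe u

variable {F : Type*} [Field F]

/-- extend a linear equivalence between subspaces to one of the ambient spaces. -/
theorem exists_extend_equiv {V W : Type u} [AddCommGroup V] [Module F V] [FiniteDimensional F V]
    [AddCommGroup W] [Module F W] [FiniteDimensional F W]
    (hVW : Module.finrank F V = Module.finrank F W) (A : Submodule F V) (B : Submodule F W)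
    (e₀ : A ≃ₗ[F] B) : ∃ e : V ≃ₗ[F] W, ∀ a : A, e (a : V) = (e₀ a : W) := by
  obtain ⟨A', hA'⟩ := Submodule.exists_isCompl A
  obtain ⟨B', hB'⟩ := Submodule.exists_isCompl B
  have h1 := Submodule.finrank_add_eq_of_isCompl hA'
  have h2 := Submodule.finrank_add_eq_of_isCompl hB'
  have h3 : Module.finrank F A = Module.finrank F B := LinearEquiv.finrank_eq e₀
  have h4 : Module.finrank F A' = Module.finrank F B' := by omega
  let e₁ : A' ≃ₗ[F] B' := LinearEquiv.ofFinrankEq _ _ h4
  refine ⟨(Submodule.prodEquivOfIsCompl A A' hA').symm ≪≫ₗ (e₀.prodCongr e₁) ≪≫ₗ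
    Submodule.prodEquivOfIsCompl B B' hB', ?_⟩
  intro a
  simp [Submodule.prodEquivOfIsCompl_symm_apply_left]

/-- two chains of subspaces with the same dimensions are related by a linear equivalence. -/
theorem chain_equiv : ∀ (N : ℕ) {V W : Type u} [AddCommGroup V] [Module F V] [FiniteDimensional F V]
    [AddCommGroup W] [Module F W] [FiniteDimensional F W]
    (Φ : ℕ → Submodule F V) (Ψ : ℕ → Submodule F W), Monotone Φ → Monotone Ψ →
    (∀ a, a ≤ N → Module.finrank F (Φ a) = Module.finrank F (Ψ a)) → Φ N = ⊤ → Ψ N = ⊤ →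
    ∃ e : V ≃ₗ[F] W, ∀ a, a ≤ N → (Φ a).map (e : V →ₗ[F] W) = Ψ a := by
  intro N
  induction N with
  | zero =>
    intro V W _ _ _ _ _ _ Φ Ψ hΦ hΨ hfin hΦN hΨN
    have h0 := hfin 0 le_rfl
    rw [hΦN, hΨN, finrank_top, finrank_top] at h0
    refine ⟨LinearEquiv.ofFinrankEq _ _ h0, ?_⟩
    intro a ha
    have : a = 0 := by omega
    subst this
    rw [hΦN, hΨN, Submodule.map_top, LinearEquiv.range]
  | succ N ih =>
    intro V W _ _ _ _ _ _ Φ Ψ hΦ hΨ hfin hΦN hΨN
    have hVW : Module.finrank F V = Module.finrank F W := by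
      have h0 := hfin (N + 1) le_rfl
      rw [hΦN, hΨN, finrank_top, finrank_top] at h0
      exact h0
    set A := Φ N with hA
    set B := Ψ N with hB
    have hΦle : ∀ a, a ≤ N → Φ a ≤ A := fun a ha => hΦ ha
    have hΨle : ∀ a, a ≤ N → Ψ a ≤ B := fun a ha => hΨ ha
    obtain ⟨e₀, he₀⟩ := ih (V := A) (W := B) (fun a => (Φ a).comap A.subtype)
      (fun a => (Ψ a).comap B.subtype)
      (fun a b hab => Submodule.comap_mono (hΦ hab)) (fun a b hab => Submodule.comap_mono (hΨ hab))
      (by
        intro a ha
        rw [LinearEquiv.finrank_eq (Submodule.comapSubtypeEquivOfLe (hΦle a ha)),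
          LinearEquiv.finrank_eq (Submodule.comapSubtypeEquivOfLe (hΨle a ha))]
        exact hfin a (by omega))
      (by simp [hA]) (by simp [hB])
    obtain ⟨e, he⟩ := exists_extend_equiv hVW A B e₀
    refine ⟨e, ?_⟩
    intro a ha
    rcases Nat.lt_or_ge N a with h | h
    · have : a = N + 1 := by omega
      subst this
      rw [hΦN, hΨN, Submodule.map_top, LinearEquiv.range]
    · have h1 : Φ a = ((Φ a).comap A.subtype).map A.subtype := by
        rw [Submodule.map_comap_subtype, inf_eq_right.mpr (hΦle a h)]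
      have h2 : Ψ a = ((Ψ a).comap B.subtype).map B.subtype := by
        rw [Submodule.map_comap_subtype, inf_eq_right.mpr (hΨle a h)]
      rw [h1, h2, ← he₀ a h, ← Submodule.map_comp, ← Submodule.map_comp]
      congr 1
      apply LinearMap.ext
      intro x
      simp [he x]

end Cfsg.Agent.Lib.Helper6.GLFlag
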