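import Mathlib
import Cfsg.Prelude.Def_LinearParabolics
import Cfsg.Agent.Lib.Helper6.ParabolicIndex
import Cfsg.Agent.Lib.Helper6.Flg6

set_option autoImplicit false
set_option linter.unusedVariables false
set_option linter.unusedSectionVars false
set_option linter.style.longLine false

namespace Cfsg.Agent.Lib.Helper6.GLFlag

open Cfsg
open scoped MatrixGroups

/-- the permutation character on `G ⧸ H` counts fixed points on any transitive `G`-set with point stabilizer `H`. -/
theorem fixedPointCharacter_eq_card_fixedBy {G : Type*} [Group G] {X : Type*} [MulAction G X]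
    [MulAction.IsPretransitive G X] (x₀ : X) (H : Subgroup G) (hH : MulAction.stabilizer G x₀ = H) (g : G) :
    fixedPointCharacter H g = (Nat.card (MulAction.fixedBy X g) : ℂ) := by
  subst hH
  unfold fixedPointCharacter
  congr 1
  -- equivariant bijection G ⧸ stabilizer ≃ X
  let φ : G ⧸ MulAction.stabilizer G x₀ ≃ X :=
    (MulAction.orbitEquivQuotientStabilizer G x₀).symm.trans
      ((Equiv.setCongr (MulAction.orbit_eq_univ G x₀)).trans (Equiv.Set.univ X))
  have hφ : ∀ (k : G) (q : G ⧸ MulAction.stabilizer G x₀), φ (k • q) = k • φ q := by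
    intro k q
    induction q using QuotientGroup.induction_on with
    | H a =>
      show ((MulAction.orbitEquivQuotientStabilizer G x₀).symm (k • (a : G ⧸ MulAction.stabilizer G x₀)) : X) =
        k • ((MulAction.orbitEquivQuotientStabilizer G x₀).symm (a : G ⧸ MulAction.stabilizer G x₀) : X)
      rw [MulAction.orbitEquivQuotientStabilizer_symm_apply]
      have : k • (a : G ⧸ MulAction.stabilizer G x₀) = ((k * a : G) : G ⧸ MulAction.stabilizer G x₀) := rfl
      rw [this, MulAction.orbitEquivQuotientStabilizer_symm_apply, mul_smul]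
  apply Nat.card_congr
  refine Equiv.subtypeEquiv φ ?_
  intro q
  simp only [MulAction.mem_fixedBy]
  rw [← hφ]
  exact φ.injective.eq_iff.symm

variable {F : Type*} [Field F] {n : ℕ}

/-- partial sums of a composition. -/
def dimAt (μ : Fin n → ℕ) (a : ℕ) : ℕ := ∑ b ∈ Finset.univ.filter (fun b : Fin n => b.val < a), μ b

/-- the standard flag of a composition: coordinates with block label `≥ a` vanish. -/
def stdFlag (F : Type*) [Field F] (μ : Fin n → ℕ) (a : ℕ) : Submodule F (Fin n → F) where
  carrier := {v | ∀ i, a ≤ compLabel μ i → v i = 0}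
  add_mem' := by
    intro v w hv hw i hi
    simp [hv i hi, hw i hi]
  zero_mem' := by intro i _; rfl
  smul_mem' := by
    intro c v hv i hi
    simp [hv i hi]

theorem mem_stdFlag (μ : Fin n → ℕ) (a : ℕ) (v : Fin n → F) :
    v ∈ stdFlag F μ a ↔ ∀ i, a ≤ compLabel μ i → v i = 0 := Iff.rfl

theorem stdFlag_mono (μ : Fin n → ℕ) : Monotone (stdFlag F μ) := by
  intro a b hab v hv i hi
  exact hv i (le_trans hab hi)

theorem single_mem_stdFlag (μ : Fin n → ℕ) (a : ℕ) (j : Fin n) (hj : compLabel μ j < a) :
    (Pi.single j (1 : F) : Fin n → F) ∈ stdFlag F μ a := by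
  intro i hi
  have : i ≠ j := by
    rintro rfl
    omega
  simp [Pi.single_apply, this]

/-- the parabolic subgroup is the stabilizer of the standard flag. -/
theorem mem_parabolicGL_iff (μ : Fin n → ℕ) (g : GL (Fin n) F) :
    g ∈ parabolicGL n F μ ↔
      ∀ a, (stdFlag F μ a).map (Matrix.toLin' (g : Matrix (Fin n) (Fin n) F)) ≤ stdFlag F μ a := by
  constructor
  · intro hg a w hw
    obtain ⟨v, hv, rfl⟩ := Submodule.mem_map.mp hw
    intro i hi
    rw [Matrix.toLin'_apply, Matrix.mulVec, dotProduct]
    apply Finset.sum_eq_zero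
    intro j _
    by_cases hj : a ≤ compLabel μ j
    · rw [hv j hj, mul_zero]
    · push Not at hj
      have : (g : Matrix (Fin n) (Fin n) F) i j = 0 := hg (lt_of_lt_of_le hj hi)
      rw [this, zero_mul]
  · intro h i j hij
    have h1 := h (compLabel μ i) (Submodule.mem_map_of_mem (single_mem_stdFlag μ _ j hij))
    have h2 := h1 i le_rfl
    rw [Matrix.toLin'_apply, Matrix.mulVec_single_one] at h2
    exact h2

end Cfsg.Agent.Lib.Helper6.GLFlag
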