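import Mathlib
import Cfsg.Prelude.Def_LinearParabolics
import Cfsg.Agent.Lib.Helper6.ParabolicIndex
import Cfsg.Agent.Lib.Helper6.Flg6
import Cfsg.Agent.Lib.Helper6.GLFlag1
import Cfsg.Agent.Lib.Helper6.GLFlag2

set_option autoImplicit false
set_option linter.unusedVariables false
set_option linter.unusedSectionVars false
set_option linter.style.longLine false

namespace Cfsg.Agent.Lib.Helper6.GLFlag

open Cfsg Cfsg.Agent.Lib.Helper6.Flg Cfsg.Agent.Lib.Helper6.ParabolicIndex
open scoped MatrixGroups

variable {F : Type*} [Field F] {n : ℕ}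

/-- the standard flag is a coordinate subspace. -/
noncomputable def stdFlagEquiv (μ : Fin n → ℕ) (a : ℕ) :
    stdFlag F μ a ≃ₗ[F] ({i : Fin n // compLabel μ i < a} → F) where
  toFun v := fun i => (v : Fin n → F) i.1
  map_add' := by intro v w; rfl
  map_smul' := by intro c v; rfl
  invFun w := ⟨fun i => if h : compLabel μ i < a then w ⟨i, h⟩ else 0, by
    intro i hi
    have : ¬ compLabel μ i < a := by omega
    simp [this]⟩
  left_inv := by
    intro v
    apply Subtype.ext
    funext i
    by_cases h : compLabel μ i < a
    · simp [h]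
    · simp only [h, dite_false]
      exact (v.2 i (by omega)).symm
  right_inv := by
    intro w
    funext i
    simp [i.2]

theorem finrank_stdFlag (μ : Fin n → ℕ) (hμ : ∑ i, μ i = n) (a : ℕ) :
    Module.finrank F (stdFlag F μ a) = dimAt μ a := by
  classical
  rw [LinearEquiv.finrank_eq (stdFlagEquiv μ a), Module.finrank_fintype_fun_eq_card,
    Fintype.card_subtype]
  unfold dimAt
  -- count positions by label
  rw [Finset.card_eq_sum_card_fiberwise (f := fun i : Fin n => (⟨compLabel μ i, compLabel_lt μ hμ i⟩ : Fin n))
    (t := Finset.univ.filter (fun b : Fin n => b.val < a))]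
  · apply Finset.sum_congr rfl
    intro b hb
    rw [← fiberCard_compLabel μ hμ b]
    unfold fiberCard
    congr 1
    ext i
    simp only [Finset.mem_filter, Finset.mem_univ, true_and] at hb ⊢
    constructor
    · rintro ⟨_, h⟩
      exact congrArg Fin.val h
    · intro h
      refine ⟨by omega, Fin.ext h⟩
  · intro i hi
    simp only [Finset.mem_filter, Finset.mem_univ, true_and, Finset.coe_filter, Set.mem_setOf_eq] at hi ⊢
    exact hi

end Cfsg.Agent.Lib.Helper6.GLFlag
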