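import Mathlib
import Cfsg.Prelude.Def_LinearParabolics
import Cfsg.Agent.Lib.Helper6.ParabolicIndex
import Cfsg.Agent.Lib.Helper6.Flg6
import Cfsg.Agent.Lib.Helper6.GLFlag1
import Cfsg.Agent.Lib.Helper6.GLFlag2
import Cfsg.Agent.Lib.Helper6.GLFlag3

set_option autoImplicit false
set_option linter.unusedVariables false
set_option linter.unusedSectionVars false
set_option linter.style.longLine false

namespace Cfsg.Agent.Lib.Helper6.GLFlag

open Cfsg Cfsg.Agent.Lib.Helper6.Flg Cfsg.Agent.Lib.Helper6.ParabolicIndex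
open scoped MatrixGroups

variable {F : Type*} [Field F] {n : ℕ}

/-- an invertible matrix as a linear equivalence of the column space. -/
noncomputable def glEquiv (g : GL (Fin n) F) : (Fin n → F) ≃ₗ[F] (Fin n → F) :=
  LinearEquiv.ofLinear (Matrix.toLin' (g : Matrix (Fin n) (Fin n) F))
    (Matrix.toLin' ((g⁻¹ : GL (Fin n) F) : Matrix (Fin n) (Fin n) F))
    (by rw [← Matrix.toLin'_mul, ← Units.val_mul, mul_inv_cancel, Units.val_one, Matrix.toLin'_one])
    (by rw [← Matrix.toLin'_mul, ← Units.val_mul, inv_mul_cancel, Units.val_one, Matrix.toLin'_one])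

theorem coe_glEquiv (g : GL (Fin n) F) :
    ((glEquiv g : (Fin n → F) ≃ₗ[F] (Fin n → F)) : (Fin n → F) →ₗ[F] (Fin n → F)) =
      Matrix.toLin' (g : Matrix (Fin n) (Fin n) F) := rfl

/-- flags of type `μ`: chains of subspaces with the dimensions of the partial sums of `μ`. -/
def Flag (F : Type*) [Field F] {n : ℕ} (μ : Fin n → ℕ) : Type _ :=
  {Φ : ℕ → Submodule F (Fin n → F) // Monotone Φ ∧ ∀ a, Module.finrank F (Φ a) = dimAt μ a}

noncomputable instance flagMulAction (μ : Fin n → ℕ) : MulAction (GL (Fin n) F) (Flag F μ) where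
  smul g Φ := ⟨fun a => (Φ.1 a).map (Matrix.toLin' (g : Matrix (Fin n) (Fin n) F)),
    fun a b hab => Submodule.map_mono (Φ.2.1 hab),
    fun a => by
      rw [← coe_glEquiv, LinearEquiv.finrank_map_eq]
      exact Φ.2.2 a⟩
  one_smul := by
    intro Φ
    apply Subtype.ext
    funext a
    show (Φ.1 a).map (Matrix.toLin' ((1 : GL (Fin n) F) : Matrix (Fin n) (Fin n) F)) = Φ.1 a
    rw [Units.val_one, Matrix.toLin'_one]
    exact Submodule.map_id _
  mul_smul := by
    intro g h Φ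
    apply Subtype.ext
    funext a
    show (Φ.1 a).map (Matrix.toLin' ((g * h : GL (Fin n) F) : Matrix (Fin n) (Fin n) F)) =
      ((Φ.1 a).map (Matrix.toLin' (h : Matrix (Fin n) (Fin n) F))).map (Matrix.toLin' (g : Matrix (Fin n) (Fin n) F))
    rw [Units.val_mul, Matrix.toLin'_mul, Submodule.map_comp]

theorem smul_flag_apply (μ : Fin n → ℕ) (g : GL (Fin n) F) (Φ : Flag F μ) (a : ℕ) :
    (g • Φ).1 a = (Φ.1 a).map (Matrix.toLin' (g : Matrix (Fin n) (Fin n) F)) := rfl

/-- the standard flag as a point of the flag variety. -/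
def stdFlagPt (F : Type*) [Field F] {n : ℕ} (μ : Fin n → ℕ) (hμ : ∑ i, μ i = n) : Flag F μ :=
  ⟨stdFlag F μ, stdFlag_mono μ, finrank_stdFlag μ hμ⟩

theorem dimAt_of_le (μ : Fin n → ℕ) (hμ : ∑ i, μ i = n) (a : ℕ) (ha : n ≤ a) : dimAt μ a = n := by
  unfold dimAt
  rw [Finset.filter_true_of_mem (fun b _ => lt_of_lt_of_le b.2 ha)]
  exact hμ

theorem flag_eq_top (μ : Fin n → ℕ) (hμ : ∑ i, μ i = n) (Φ : Flag F μ) (a : ℕ) (ha : n ≤ a) :
    Φ.1 a = ⊤ := by
  apply Submodule.eq_top_of_finrank_eq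
  rw [Φ.2.2 a, dimAt_of_le μ hμ a ha]
  simp

theorem stabilizer_stdFlagPt (μ : Fin n → ℕ) (hμ : ∑ i, μ i = n) :
    MulAction.stabilizer (GL (Fin n) F) (stdFlagPt F μ hμ) = parabolicGL n F μ := by
  ext g
  rw [MulAction.mem_stabilizer_iff, mem_parabolicGL_iff]
  constructor
  · intro h a
    have := congrArg (fun Φ : Flag F μ => Φ.1 a) h
    simp only [smul_flag_apply] at this
    exact this.le
  · intro h
    apply Subtype.ext
    funext a
    rw [smul_flag_apply]
    apply Submodule.eq_of_le_of_finrank_eq (h a)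
    rw [← coe_glEquiv, LinearEquiv.finrank_map_eq]

theorem exists_smul_stdFlagPt (μ : Fin n → ℕ) (hμ : ∑ i, μ i = n) (Φ : Flag F μ) :
    ∃ g : GL (Fin n) F, g • stdFlagPt F μ hμ = Φ := by
  obtain ⟨e, he⟩ := chain_equiv (F := F) n (stdFlag F μ) Φ.1 (stdFlag_mono μ) Φ.2.1
    (fun a _ => by rw [finrank_stdFlag μ hμ a, Φ.2.2 a])
    (flag_eq_top μ hμ (stdFlagPt F μ hμ) n le_rfl) (flag_eq_top μ hμ Φ n le_rfl)
  have h1 : LinearMap.toMatrix' (e : (Fin n → F) →ₗ[F] (Fin n → F)) *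
      LinearMap.toMatrix' (e.symm : (Fin n → F) →ₗ[F] (Fin n → F)) = 1 := by
    rw [← LinearMap.toMatrix'_comp]
    simp
  have h2 : LinearMap.toMatrix' (e.symm : (Fin n → F) →ₗ[F] (Fin n → F)) *
      LinearMap.toMatrix' (e : (Fin n → F) →ₗ[F] (Fin n → F)) = 1 := by
    rw [← LinearMap.toMatrix'_comp]
    simp
  refine ⟨⟨LinearMap.toMatrix' (e : (Fin n → F) →ₗ[F] (Fin n → F)),
    LinearMap.toMatrix' (e.symm : (Fin n → F) →ₗ[F] (Fin n → F)), h1, h2⟩, ?_⟩
  apply Subtype.ext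
  funext a
  rw [smul_flag_apply]
  show (stdFlag F μ a).map (Matrix.toLin' (LinearMap.toMatrix' (e : (Fin n → F) →ₗ[F] (Fin n → F)))) = Φ.1 a
  rw [Matrix.toLin'_toMatrix']
  rcases le_or_gt a n with ha | ha
  · exact he a ha
  · rw [flag_eq_top μ hμ Φ a ha.le]
    have : stdFlag F μ a = ⊤ := flag_eq_top μ hμ (stdFlagPt F μ hμ) a ha.le
    rw [this, Submodule.map_top, LinearEquiv.range]

instance flag_pretransitive (μ : Fin n → ℕ) [hμ : Fact (∑ i, μ i = n)] :
    MulAction.IsPretransitive (GL (Fin n) F) (Flag F μ) := by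
  constructor
  intro Φ Ψ
  obtain ⟨g, hg⟩ := exists_smul_stdFlagPt μ hμ.out Φ
  obtain ⟨h, hh⟩ := exists_smul_stdFlagPt μ hμ.out Ψ
  refine ⟨h * g⁻¹, ?_⟩
  rw [← hg, ← hh, mul_smul, inv_smul_smul]

/-- **Flags and cosets.** The permutation character on the cosets of a standard parabolic subgroup counts the
fixed flags. -/
theorem fixedPointCharacter_parabolicGL (μ : Fin n → ℕ) (hμ : ∑ i, μ i = n) (x : GL (Fin n) F) :
    fixedPointCharacter (parabolicGL n F μ) x = (Nat.card (MulAction.fixedBy (Flag F μ) x) : ℂ) := by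
  have : Fact (∑ i, μ i = n) := ⟨hμ⟩
  exact fixedPointCharacter_eq_card_fixedBy (stdFlagPt F μ hμ) _ (stabilizer_stdFlagPt μ hμ) x

/-- a flag is fixed by `x` iff all its members are `x`-invariant subspaces. -/
theorem mem_fixedBy_flag_iff (μ : Fin n → ℕ) (x : GL (Fin n) F) (Φ : Flag F μ) :
    Φ ∈ MulAction.fixedBy (Flag F μ) x ↔
      ∀ a, Φ.1 a ∈ Module.End.invtSubmodule (Matrix.toLin' (x : Matrix (Fin n) (Fin n) F)) := by
  rw [MulAction.mem_fixedBy]
  constructor
  · intro h a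
    rw [Module.End.mem_invtSubmodule, ← Submodule.map_le_iff_le_comap]
    have := congrArg (fun Φ : Flag F μ => Φ.1 a) h
    simp only [smul_flag_apply] at this
    exact this.le
  · intro h
    apply Subtype.ext
    funext a
    rw [smul_flag_apply]
    have h1 := h a
    rw [Module.End.mem_invtSubmodule, ← Submodule.map_le_iff_le_comap] at h1
    apply Submodule.eq_of_le_of_finrank_eq h1
    rw [← coe_glEquiv, LinearEquiv.finrank_map_eq]

/-- the value of the permutation character as a count of invariant flags. -/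
theorem fixedPointCharacter_parabolicGL_eq (μ : Fin n → ℕ) (hμ : ∑ i, μ i = n) (x : GL (Fin n) F) :
    fixedPointCharacter (parabolicGL n F μ) x =
      (Nat.card {Φ : ℕ → Submodule F (Fin n → F) // Monotone Φ ∧
        (∀ a, Module.finrank F (Φ a) = dimAt μ a) ∧
        ∀ a, Φ a ∈ Module.End.invtSubmodule (Matrix.toLin' (x : Matrix (Fin n) (Fin n) F))} : ℂ) := by
  rw [fixedPointCharacter_parabolicGL μ hμ x]
  congr 1
  apply Nat.card_congr
  refine
    { toFun := fun Φ => ⟨Φ.1.1, Φ.1.2.1, Φ.1.2.2, (mem_fixedBy_flag_iff μ x Φ.1).mp Φ.2⟩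
      invFun := fun Φ => ⟨⟨Φ.1, Φ.2.1, Φ.2.2.1⟩, (mem_fixedBy_flag_iff μ x _).mpr Φ.2.2.2⟩
      left_inv := fun Φ => rfl
      right_inv := fun Φ => rfl }

end Cfsg.Agent.Lib.Helper6.GLFlag
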