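import Mathlib

/-! # Local data for a Sylow 3-subgroup `3²` whose normalizer is `3² : D₈` -/

set_option autoImplicit false

namespace Cfsg.Agent.Lib.Helper6.Td

/-- `N(P) = P ⋊ ⟨t₁, t₂, w⟩` with `P = ⟨a⟩ × ⟨b⟩` elementary abelian of order `9` and
`⟨t₁, t₂, w⟩` dihedral of order `8` acting monomially: `t₁` centralizes `a` and inverts `b`,
`t₂` inverts `a` and centralizes `b`, `w` interchanges `a` and `b` (and `t₁` and `t₂`). -/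
structure Loc {G : Type*} [Group G] (P : Sylow 3 G) (a b t₁ t₂ w : G) : Prop where
  haP : a ∈ (P : Subgroup G)
  hbP : b ∈ (P : Subgroup G)
  ha1 : a ≠ 1
  hb1 : b ≠ 1
  hba : b ≠ a
  hba' : b ≠ a⁻¹
  ht₁N : t₁ ∈ Subgroup.normalizer ((P : Subgroup G) : Set G)
  ht₂N : t₂ ∈ Subgroup.normalizer ((P : Subgroup G) : Set G)
  hwN : w ∈ Subgroup.normalizer ((P : Subgroup G) : Set G)
  ht₁ : t₁ * t₁ = 1
  ht₂ : t₂ * t₂ = 1
  hw : w * w = 1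
  h₁₂ : t₁ * t₂ = t₂ * t₁
  h₁a : t₁ * a = a * t₁
  h₁b : t₁ * b * t₁⁻¹ = b⁻¹
  h₂a : t₂ * a * t₂⁻¹ = a⁻¹
  h₂b : t₂ * b = b * t₂
  hwa : w * a * w⁻¹ = b
  hwb : w * b * w⁻¹ = a
  hw₁ : w * t₁ * w⁻¹ = t₂
  hN : ∀ n ∈ Subgroup.normalizer ((P : Subgroup G) : Set G), ∃ s ∈ (P : Subgroup G),
    n = s ∨ n = s * t₁ ∨ n = s * t₂ ∨ n = s * (t₁ * t₂) ∨
    n = s * w ∨ n = s * (w * t₁) ∨ n = s * (w * t₂) ∨ n = s * (w * (t₁ * t₂))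
  hcardN : Nat.card (Subgroup.normalizer ((P : Subgroup G) : Set G)) = 72

end Cfsg.Agent.Lib.Helper6.Td
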