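import Mathlib
import Cfsg.Agent.Lib.Helper6.TvC
import Cfsg.Agent.Lib.Helper6.TdA

/-! # Consequences of the local data `Td.Loc` : conjugation table, symmetry, fusion, centralizers -/

set_option autoImplicit false
set_option linter.unusedSectionVars false
open Cfsg

namespace Cfsg.Agent.Lib.Helper6.Td

open Cfsg.Agent.Lib.Helper6.Tv (eq_one_of_sq_of_cube inv_ne_self_of_cube mem_normalizer_of_conj)

section loc

variable {G : Type*} [Group G] [Finite G] {P : Sylow 3 G} {a b t₁ t₂ w : G}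

theorem conj_mul' (x y g : G) : (x * y) * g * (x * y)⁻¹ = x * (y * g * y⁻¹) * x⁻¹ := by group

theorem conj_inv' (g x : G) : g * x⁻¹ * g⁻¹ = (g * x * g⁻¹)⁻¹ := by group

theorem conj_of_comm {g x : G} (h : g * x = x * g) : g * x * g⁻¹ = x := by
  rw [h]; group

variable (hcomm : ∀ x ∈ (P : Subgroup G), ∀ y ∈ (P : Subgroup G), x * y = y * x)
  (hexp : ∀ x ∈ (P : Subgroup G), x ^ 3 = 1)
  (hloc : ∀ s ∈ (P : Subgroup G), s ≠ 1 →
    Subgroup.centralizer ({s} : Set G) ≤ Subgroup.normalizer ((P : Subgroup G) : Set G))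
  (L : Loc P a b t₁ t₂ w)

include L

theorem Loc.t₁_inv : t₁⁻¹ = t₁ := inv_eq_of_mul_eq_one_left L.ht₁

theorem Loc.t₂_inv : t₂⁻¹ = t₂ := inv_eq_of_mul_eq_one_left L.ht₂

theorem Loc.w_inv : w⁻¹ = w := inv_eq_of_mul_eq_one_left L.hw

theorem Loc.c₁a : t₁ * a * t₁⁻¹ = a := conj_of_comm L.h₁a

theorem Loc.c₂b : t₂ * b * t₂⁻¹ = b := conj_of_comm L.h₂b

theorem Loc.hw₂ : w * t₂ * w⁻¹ = t₁ := by
  rw [← L.hw₁, L.w_inv]
  calc w * (w * t₁ * w) * w = (w * w) * t₁ * (w * w) := by group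
    _ = t₁ := by rw [L.hw, one_mul, mul_one]

/-- `z = t₁ t₂` inverts `a` -/
theorem Loc.cza : (t₁ * t₂) * a * (t₁ * t₂)⁻¹ = a⁻¹ := by
  rw [conj_mul', L.h₂a, conj_inv', L.c₁a]

/-- `z = t₁ t₂` inverts `b` -/
theorem Loc.czb : (t₁ * t₂) * b * (t₁ * t₂)⁻¹ = b⁻¹ := by
  rw [conj_mul', L.c₂b, L.h₁b]

theorem Loc.wz_comm : w * (t₁ * t₂) = (t₁ * t₂) * w := by
  have h1 : w * t₁ = t₂ * w := by
    calc w * t₁ = (w * t₁ * w⁻¹) * w := by group
      _ = t₂ * w := by rw [L.hw₁]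
  have h2 : w * t₂ = t₁ * w := by
    calc w * t₂ = (w * t₂ * w⁻¹) * w := by group
      _ = t₁ * w := by rw [L.hw₂]
  calc w * (t₁ * t₂) = (w * t₁) * t₂ := by group
    _ = t₂ * (w * t₂) := by rw [h1]; group
    _ = t₂ * t₁ * w := by rw [h2]; group
    _ = t₁ * t₂ * w := by rw [L.h₁₂]

include hexp

theorem Loc.a3 : a ^ 3 = 1 := hexp a L.haP

theorem Loc.b3 : b ^ 3 = 1 := hexp b L.hbP

theorem Loc.a_inv_ne : a⁻¹ ≠ a := inv_ne_self_of_cube (L.a3 hexp) L.ha1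

theorem Loc.b_inv_ne : b⁻¹ ≠ b := inv_ne_self_of_cube (L.b3 hexp) L.hb1

theorem Loc.t₁_ne_one : t₁ ≠ 1 := by
  intro h
  have := L.h₁b
  rw [h] at this
  simp only [one_mul, inv_one, mul_one] at this
  exact L.b_inv_ne hexp this.symm

theorem Loc.t₁_not_mem : t₁ ∉ (P : Subgroup G) := fun h =>
  L.t₁_ne_one hexp (eq_one_of_sq_of_cube L.ht₁ (hexp _ h))

theorem Loc.orderOf_a : orderOf a = 3 := orderOf_eq_prime (L.a3 hexp) L.ha1

theorem Loc.orderOf_t₁ : orderOf t₁ = 2 :=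
  orderOf_eq_prime (by rw [pow_two]; exact L.ht₁) (L.t₁_ne_one hexp)

theorem Loc.orderOf_at₁ : orderOf (a * t₁) = 6 := by
  have hc : Commute a t₁ := L.h₁a.symm
  have := hc.orderOf_mul_eq_mul_orderOf_of_coprime
    (by rw [L.orderOf_a hexp, L.orderOf_t₁ hexp]; norm_num)
  rw [this, L.orderOf_a hexp, L.orderOf_t₁ hexp]

theorem Loc.at₁_pow (k : ℕ) : (a * t₁) ^ k = a ^ k * t₁ ^ k := by
  have hc : Commute a t₁ := L.h₁a.symm
  exact hc.mul_pow k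

theorem Loc.at₁_pow_four : (a * t₁) ^ 4 = a := by
  rw [L.at₁_pow hexp]
  have h1 : a ^ 4 = a := by rw [pow_succ, L.a3 hexp, one_mul]
  have h2 : t₁ ^ 4 = 1 := by
    have : t₁ ^ 4 = (t₁ * t₁) * (t₁ * t₁) := by
      rw [pow_succ, pow_succ, pow_two]; group
    rw [this, L.ht₁, one_mul]
  rw [h1, h2, mul_one]

theorem Loc.at₁_pow_three : (a * t₁) ^ 3 = t₁ := by
  rw [L.at₁_pow hexp, L.a3 hexp, one_mul]
  have : t₁ ^ 3 = (t₁ * t₁) * t₁ := by rw [pow_succ, pow_two]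
  rw [this, L.ht₁, one_mul]

include hcomm

theorem Loc.ab_comm : a * b = b * a := hcomm a L.haP b L.hbP

theorem Loc.abP : a * b ∈ (P : Subgroup G) := Subgroup.mul_mem _ L.haP L.hbP

theorem Loc.ab'P : a * b⁻¹ ∈ (P : Subgroup G) :=
  Subgroup.mul_mem _ L.haP (Subgroup.inv_mem _ L.hbP)

theorem Loc.ab_ne_one : a * b ≠ 1 := by
  intro h
  apply L.hba'
  exact (eq_inv_of_mul_eq_one_right h)

theorem Loc.ab'_ne_one : a * b⁻¹ ≠ 1 := by
  intro h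
  apply L.hba
  have := eq_inv_of_mul_eq_one_right h
  rw [inv_inj] at this
  exact this

/-- the symmetry of the local data interchanging the two classes of elements of order 3 -/
theorem Loc.symm' : Loc P (a * b) (a * b⁻¹) w (w * (t₁ * t₂)) t₁ where
  haP := L.abP hcomm hexp
  hbP := L.ab'P hcomm hexp
  ha1 := L.ab_ne_one hcomm hexp
  hb1 := L.ab'_ne_one hcomm hexp
  hba := by
    intro h
    exact L.b_inv_ne hexp (mul_left_cancel h)
  hba' := by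
    intro h
    have h1 : a * b⁻¹ = a⁻¹ * b⁻¹ := by
      rw [h, mul_inv_rev, hcomm _ (Subgroup.inv_mem _ L.hbP) _ (Subgroup.inv_mem _ L.haP)]
    exact L.a_inv_ne hexp (mul_right_cancel h1).symm
  ht₁N := L.hwN
  ht₂N := Subgroup.mul_mem _ L.hwN (Subgroup.mul_mem _ L.ht₁N L.ht₂N)
  hwN := L.ht₁N
  ht₁ := L.hw
  ht₂ := by
    calc w * (t₁ * t₂) * (w * (t₁ * t₂)) = w * ((t₁ * t₂) * w) * (t₁ * t₂) := by group
      _ = w * (w * (t₁ * t₂)) * (t₁ * t₂) := by rw [L.wz_comm]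
      _ = (w * w) * (t₁ * (t₂ * t₁) * t₂) := by group
      _ = (w * w) * (t₁ * (t₁ * t₂) * t₂) := by rw [L.h₁₂]
      _ = (w * w) * ((t₁ * t₁) * (t₂ * t₂)) := by group
      _ = 1 := by rw [L.hw, L.ht₁, L.ht₂]; group
  hw := L.ht₁
  h₁₂ := by
    calc w * (w * (t₁ * t₂)) = w * ((t₁ * t₂) * w) := by rw [L.wz_comm]
      _ = w * (t₁ * t₂) * w := by group
  h₁a := by
    have : w * (a * b) * w⁻¹ = a * b := by
      calc w * (a * b) * w⁻¹ = (w * a * w⁻¹) * (w * b * w⁻¹) := by group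
        _ = b * a := by rw [L.hwa, L.hwb]
        _ = a * b := (L.ab_comm hcomm hexp).symm
    calc w * (a * b) = (w * (a * b) * w⁻¹) * w := by group
      _ = a * b * w := by rw [this]
  h₁b := by
    calc w * (a * b⁻¹) * w⁻¹ = (w * a * w⁻¹) * (w * b * w⁻¹)⁻¹ := by group
      _ = b * a⁻¹ := by rw [L.hwa, L.hwb]
      _ = (a * b⁻¹)⁻¹ := by group
  h₂a := by
    rw [conj_mul']
    have : (t₁ * t₂) * (a * b) * (t₁ * t₂)⁻¹ = a⁻¹ * b⁻¹ := by
      calc (t₁ * t₂) * (a * b) * (t₁ * t₂)⁻¹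
          = ((t₁ * t₂) * a * (t₁ * t₂)⁻¹) * ((t₁ * t₂) * b * (t₁ * t₂)⁻¹) := by group
        _ = a⁻¹ * b⁻¹ := by rw [L.cza, L.czb]
    rw [this]
    calc w * (a⁻¹ * b⁻¹) * w⁻¹ = (w * a * w⁻¹)⁻¹ * (w * b * w⁻¹)⁻¹ := by group
      _ = b⁻¹ * a⁻¹ := by rw [L.hwa, L.hwb]
      _ = (a * b)⁻¹ := by group
  h₂b := by
    have h1 : (t₁ * t₂) * (a * b⁻¹) * (t₁ * t₂)⁻¹ = a⁻¹ * b := by
      calc (t₁ * t₂) * (a * b⁻¹) * (t₁ * t₂)⁻¹
          = ((t₁ * t₂) * a * (t₁ * t₂)⁻¹) * ((t₁ * t₂) * b * (t₁ * t₂)⁻¹)⁻¹ := by group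
        _ = a⁻¹ * b := by rw [L.cza, L.czb, inv_inv]
    have h2 : (w * (t₁ * t₂)) * (a * b⁻¹) * (w * (t₁ * t₂))⁻¹ = a * b⁻¹ := by
      rw [conj_mul', h1]
      calc w * (a⁻¹ * b) * w⁻¹ = (w * a * w⁻¹)⁻¹ * (w * b * w⁻¹) := by group
        _ = b⁻¹ * a := by rw [L.hwa, L.hwb]
        _ = a * b⁻¹ := hcomm _ (Subgroup.inv_mem _ L.hbP) _ L.haP
    calc w * (t₁ * t₂) * (a * b⁻¹)
        = ((w * (t₁ * t₂)) * (a * b⁻¹) * (w * (t₁ * t₂))⁻¹) * (w * (t₁ * t₂)) := by group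
      _ = a * b⁻¹ * (w * (t₁ * t₂)) := by rw [h2]
  hwa := by
    calc t₁ * (a * b) * t₁⁻¹ = (t₁ * a * t₁⁻¹) * (t₁ * b * t₁⁻¹) := by group
      _ = a * b⁻¹ := by rw [L.c₁a, L.h₁b]
  hwb := by
    calc t₁ * (a * b⁻¹) * t₁⁻¹ = (t₁ * a * t₁⁻¹) * (t₁ * b * t₁⁻¹)⁻¹ := by group
      _ = a * b := by rw [L.c₁a, L.h₁b, inv_inv]
  hw₁ := by
    have h2 : w * t₂ = t₁ * w := by
      calc w * t₂ = (w * t₂ * w⁻¹) * w := by group
        _ = t₁ * w := by rw [L.hw₂]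
    calc t₁ * w * t₁⁻¹ = (t₁ * w) * t₁⁻¹ := by group
      _ = (w * t₂) * t₁⁻¹ := by rw [h2]
      _ = w * (t₂ * t₁) := by rw [L.t₁_inv]; group
      _ = w * (t₁ * t₂) := by rw [L.h₁₂]
  hN := by
    intro n hn
    have h1 : w * t₁ = t₂ * w := by
      calc w * t₁ = (w * t₁ * w⁻¹) * w := by group
        _ = t₂ * w := by rw [L.hw₁]
    have h2 : w * t₂ = t₁ * w := by
      calc w * t₂ = (w * t₂ * w⁻¹) * w := by group
        _ = t₁ * w := by rw [L.hw₂]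
    obtain ⟨s, hs, h⟩ := L.hN n hn
    refine ⟨s, hs, ?_⟩
    rcases h with h | h | h | h | h | h | h | h
    · exact Or.inl h
    · -- s t₁ = s * (w')
      right; right; right; right; left
      exact h
    · -- s t₂ = s * (t₁ * (w * (t₁ t₂)))  [w' * (t₁' * t₂')] with t₁' t₂' = w * (w z) = z
      right; right; right; right; right; right; right
      rw [h]
      congr 1
      calc t₂ = t₁ * ((w * w) * (t₁ * t₂)) := by
            rw [L.hw, one_mul, ← mul_assoc, L.ht₁, one_mul]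
        _ = t₁ * (w * (w * (t₁ * t₂))) := by group
    · -- s z = s * (t₁' * t₂') = s * (w * (w * z))
      right; right; right; left
      rw [h]
      congr 1
      calc t₁ * t₂ = (w * w) * (t₁ * t₂) := by rw [L.hw, one_mul]
        _ = w * (w * (t₁ * t₂)) := by group
    · -- s w = s * t₁'
      right; left; exact h
    · -- s (w t₁) = s * (t₁ * (w z)) : t₁ w z = w t₂ z = w t₂ t₁ t₂ = w t₁
      right; right; right; right; right; right; left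
      rw [h]
      congr 1
      calc w * t₁ = w * (t₂ * (t₂ * t₁)) := by rw [← mul_assoc t₂, L.ht₂, one_mul]
        _ = (w * t₂) * (t₁ * t₂) := by rw [L.h₁₂]; group
        _ = t₁ * w * (t₁ * t₂) := by rw [h2]
        _ = t₁ * (w * (t₁ * t₂)) := by group
    · -- s (w t₂) = s * (t₁ * w)
      right; right; right; right; right; left
      rw [h, h2]
    · -- s (w z) = s * t₂'
      right; right; left; exact h
  hcardN := L.hcardN

/-- the conjugation table of the normalizer on `a` and `b` -/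
theorem Loc.conj_pair {n : G} (hn : n ∈ Subgroup.normalizer ((P : Subgroup G) : Set G)) :
    ∃ s ∈ (P : Subgroup G),
      (n = s ∧ n * a * n⁻¹ = a ∧ n * b * n⁻¹ = b) ∨
      (n = s * t₁ ∧ n * a * n⁻¹ = a ∧ n * b * n⁻¹ = b⁻¹) ∨
      (n = s * t₂ ∧ n * a * n⁻¹ = a⁻¹ ∧ n * b * n⁻¹ = b) ∨
      (n = s * (t₁ * t₂) ∧ n * a * n⁻¹ = a⁻¹ ∧ n * b * n⁻¹ = b⁻¹) ∨
      (n = s * w ∧ n * a * n⁻¹ = b ∧ n * b * n⁻¹ = a) ∨
      (n = s * (w * t₁) ∧ n * a * n⁻¹ = b ∧ n * b * n⁻¹ = a⁻¹) ∨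
      (n = s * (w * t₂) ∧ n * a * n⁻¹ = b⁻¹ ∧ n * b * n⁻¹ = a) ∨
      (n = s * (w * (t₁ * t₂)) ∧ n * a * n⁻¹ = b⁻¹ ∧ n * b * n⁻¹ = a⁻¹) := by
  obtain ⟨s, hs, h⟩ := L.hN n hn
  have hsa : ∀ y ∈ (P : Subgroup G), s * y * s⁻¹ = y := by
    intro y hy
    rw [hcomm s hs y hy]; group
  have ha' := Subgroup.inv_mem _ L.haP
  have hb' := Subgroup.inv_mem _ L.hbP
  refine ⟨s, hs, ?_⟩
  rcases h with h | h | h | h | h | h | h | h
  · left
    refine ⟨h, ?_, ?_⟩ <;> rw [h]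
    · exact hsa a L.haP
    · exact hsa b L.hbP
  · right; left
    refine ⟨h, ?_, ?_⟩ <;> rw [h, conj_mul']
    · rw [L.c₁a]; exact hsa a L.haP
    · rw [L.h₁b]; exact hsa _ hb'
  · right; right; left
    refine ⟨h, ?_, ?_⟩ <;> rw [h, conj_mul']
    · rw [L.h₂a]; exact hsa _ ha'
    · rw [L.c₂b]; exact hsa _ L.hbP
  · right; right; right; left
    refine ⟨h, ?_, ?_⟩ <;> rw [h, conj_mul']
    · rw [L.cza]; exact hsa _ ha'
    · rw [L.czb]; exact hsa _ hb'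
  · right; right; right; right; left
    refine ⟨h, ?_, ?_⟩ <;> rw [h, conj_mul']
    · rw [L.hwa]; exact hsa _ L.hbP
    · rw [L.hwb]; exact hsa _ L.haP
  · right; right; right; right; right; left
    refine ⟨h, ?_, ?_⟩ <;> rw [h, conj_mul', conj_mul']
    · rw [L.c₁a, L.hwa]; exact hsa _ L.hbP
    · rw [L.h₁b, conj_inv', L.hwb]; exact hsa _ ha'
  · right; right; right; right; right; right; left
    refine ⟨h, ?_, ?_⟩ <;> rw [h, conj_mul', conj_mul']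
    · rw [L.h₂a, conj_inv', L.hwa]; exact hsa _ hb'
    · rw [L.c₂b, L.hwb]; exact hsa _ L.haP
  · right; right; right; right; right; right; right
    refine ⟨h, ?_, ?_⟩ <;> rw [h, conj_mul', conj_mul']
    · rw [L.cza, conj_inv', L.hwa]; exact hsa _ hb'
    · rw [L.czb, conj_inv', L.hwb]; exact hsa _ ha'

end loc

end Cfsg.Agent.Lib.Helper6.Td
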