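import Mathlib
import Cfsg.Agent.Lib.Helper6.TdB

/-! # Coordinates on `P = ⟨a⟩ × ⟨b⟩`, fusion and centralizers for the local data `Td.Loc` -/

set_option autoImplicit false
set_option linter.unusedSectionVars false
open Cfsg

namespace Cfsg.Agent.Lib.Helper6.Td

open Cfsg.Agent.Lib.Helper6.Tv (eq_one_of_sq_of_cube inv_ne_self_of_cube mem_normalizer_of_conj)

section loc

variable {G : Type*} [Group G] [Finite G] {P : Sylow 3 G} {a b t₁ t₂ w : G}

/-- the element `a ^ i * b ^ j` -/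
def E (a b : G) (i j : ℕ) : G := a ^ i * b ^ j

variable (hcomm : ∀ x ∈ (P : Subgroup G), ∀ y ∈ (P : Subgroup G), x * y = y * x)
  (hexp : ∀ x ∈ (P : Subgroup G), x ^ 3 = 1)
  (hloc : ∀ s ∈ (P : Subgroup G), s ≠ 1 →
    Subgroup.centralizer ({s} : Set G) ≤ Subgroup.normalizer ((P : Subgroup G) : Set G))
  (L : Loc P a b t₁ t₂ w)

include L

theorem Loc.E_mem (i j : ℕ) : E a b i j ∈ (P : Subgroup G) :=
  Subgroup.mul_mem _ (Subgroup.pow_mem _ L.haP i) (Subgroup.pow_mem _ L.hbP j)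

include hcomm hexp

theorem Loc.E_mul (i j k l : ℕ) : E a b i j * E a b k l = E a b (i + k) (j + l) := by
  unfold E
  have hc : Commute a b := L.ab_comm hcomm hexp
  have h1 : b ^ j * a ^ k = a ^ k * b ^ j := ((hc.pow_pow k j).eq).symm
  calc a ^ i * b ^ j * (a ^ k * b ^ l) = a ^ i * (b ^ j * a ^ k) * b ^ l := by group
    _ = a ^ i * (a ^ k * b ^ j) * b ^ l := by rw [h1]
    _ = a ^ (i + k) * b ^ (j + l) := by rw [pow_add, pow_add]; group

theorem Loc.E_mod (i j : ℕ) : E a b i j = E a b (i % 3) (j % 3) := by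
  unfold E
  have ha : a ^ i = a ^ (i % 3) := by
    conv_lhs => rw [← Nat.div_add_mod i 3, pow_add, pow_mul, L.a3 hexp, one_pow, one_mul]
  have hb : b ^ j = b ^ (j % 3) := by
    conv_lhs => rw [← Nat.div_add_mod j 3, pow_add, pow_mul, L.b3 hexp, one_pow, one_mul]
  rw [ha, hb]

theorem Loc.a_sq : a ^ 2 = a⁻¹ := by
  have h := L.a3 hexp
  rw [pow_succ] at h
  exact eq_inv_of_mul_eq_one_left h

theorem Loc.b_sq : b ^ 2 = b⁻¹ := by
  have h := L.b3 hexp
  rw [pow_succ] at h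
  exact eq_inv_of_mul_eq_one_left h

/-- independence of `a` and `b` -/
theorem Loc.E_eq_one_of_lt {i j : ℕ} (hi : i < 3) (hj : j < 3) (h : E a b i j = 1) :
    i = 0 ∧ j = 0 := by
  unfold E at h
  have ha2 := L.a_sq hcomm hexp
  have hb2 := L.b_sq hcomm hexp
  interval_cases i <;> interval_cases j <;> try simp only [pow_zero, pow_one, one_mul, mul_one] at h
  · exact ⟨rfl, rfl⟩
  · exact absurd h L.hb1
  · rw [hb2, inv_eq_one] at h; exact absurd h L.hb1
  · exact absurd h L.ha1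
  · exact absurd h (L.ab_ne_one hcomm hexp)
  · rw [hb2] at h; exact absurd h (L.ab'_ne_one hcomm hexp)
  · rw [ha2, inv_eq_one] at h; exact absurd h L.ha1
  · rw [ha2] at h
    exfalso; apply L.hba
    exact (inv_mul_eq_one.mp h).symm
  · rw [ha2, hb2] at h
    exfalso; apply L.hba'
    have : a⁻¹ = b := by
      have := inv_mul_eq_one.mp (by rw [inv_inv]; exact h : (a⁻¹)⁻¹⁻¹ * b⁻¹ = 1)
      rw [inv_inv] at this
      exact inv_injective (by rw [inv_inv]; exact this.symm ▸ rfl)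
    exact this.symm

theorem Loc.E_eq_one_iff (i j : ℕ) : E a b i j = 1 ↔ i % 3 = 0 ∧ j % 3 = 0 := by
  rw [L.E_mod hcomm hexp]
  constructor
  · intro h
    exact L.E_eq_one_of_lt hcomm hexp (Nat.mod_lt _ (by norm_num)) (Nat.mod_lt _ (by norm_num)) h
  · rintro ⟨h1, h2⟩
    rw [h1, h2]; simp [E]

theorem Loc.E_eq_iff (i j k l : ℕ) :
    E a b i j = E a b k l ↔ i % 3 = k % 3 ∧ j % 3 = l % 3 := by
  have h1 : E a b k l * E a b (2 * k) (2 * l) = 1 := by
    rw [L.E_mul hcomm hexp, L.E_eq_one_iff hcomm hexp]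
    constructor <;> omega
  constructor
  · intro h
    rw [← h, L.E_mul hcomm hexp, L.E_eq_one_iff hcomm hexp] at h1
    omega
  · rintro ⟨h1, h2⟩
    rw [L.E_mod hcomm hexp i j, L.E_mod hcomm hexp k l, h1, h2]

theorem Loc.E10 : E a b 1 0 = a := by simp [E]

theorem Loc.E01 : E a b 0 1 = b := by simp [E]

theorem Loc.E11 : E a b 1 1 = a * b := by simp [E]

theorem Loc.E20 : E a b 2 0 = a⁻¹ := by simp [E, L.a_sq hcomm hexp]

theorem Loc.E02 : E a b 0 2 = b⁻¹ := by simp [E, L.b_sq hcomm hexp]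

theorem Loc.E12 : E a b 1 2 = a * b⁻¹ := by simp [E, L.b_sq hcomm hexp]

theorem Loc.E21 : E a b 2 1 = a⁻¹ * b := by simp [E, L.a_sq hcomm hexp]

theorem Loc.E22 : E a b 2 2 = (a * b)⁻¹ := by
  rw [mul_inv_rev, hcomm _ (Subgroup.inv_mem _ L.hbP) _ (Subgroup.inv_mem _ L.haP)]
  simp [E, L.a_sq hcomm hexp, L.b_sq hcomm hexp]

variable (hcardP : Nat.card (P : Subgroup G) = 9)

include hcardP

/-- every element of `P` is some `a ^ i * b ^ j` -/
theorem Loc.exists_E {s : G} (hs : s ∈ (P : Subgroup G)) :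
    ∃ i j : ℕ, i < 3 ∧ j < 3 ∧ s = E a b i j := by
  classical
  haveI : Fintype G := Fintype.ofFinite G
  let f : Fin 3 × Fin 3 → (P : Subgroup G) := fun x => ⟨E a b x.1.val x.2.val, L.E_mem _ _⟩
  have hf : Function.Injective f := by
    intro x y hxy
    have h := congrArg Subtype.val hxy
    simp only [f] at h
    rw [L.E_eq_iff hcomm hexp] at h
    have h1 := x.1.isLt
    have h2 := x.2.isLt
    have h3 := y.1.isLt
    have h4 := y.2.isLt
    apply Prod.ext <;> apply Fin.ext <;> omega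
  have hbij : Function.Bijective f := by
    rw [Fintype.bijective_iff_injective_and_card]
    refine ⟨hf, ?_⟩
    rw [Fintype.card_prod, Fintype.card_fin, ← Nat.card_eq_fintype_card, hcardP]
  obtain ⟨x, hx⟩ := hbij.2 ⟨s, hs⟩
  refine ⟨x.1.val, x.2.val, x.1.isLt, x.2.isLt, ?_⟩
  have := congrArg Subtype.val hx
  exact this.symm

end loc

end Cfsg.Agent.Lib.Helper6.Td
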