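import Mathlib
import Cfsg.Agent.Lib.Helper6.TdC
import Cfsg.Agent.Lib.Helper6.TvE

/-! # Fusion, centralizers and local class products for the local data `Td.Loc` -/

set_option autoImplicit false
set_option linter.unusedSectionVars false
open Cfsg

namespace Cfsg.Agent.Lib.Helper6.Td

open Cfsg.Agent.Lib.Helper6.Tv (eq_one_of_sq_of_cube inv_ne_self_of_cube mem_normalizer_of_conj
  mem_of_mul cube_of_isConj)

section loc

variable {G : Type*} [Group G] [Finite G] {P : Sylow 3 G} {a b t₁ t₂ w : G}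

variable (hcomm : ∀ x ∈ (P : Subgroup G), ∀ y ∈ (P : Subgroup G), x * y = y * x)
  (hexp : ∀ x ∈ (P : Subgroup G), x ^ 3 = 1)
  (hloc : ∀ s ∈ (P : Subgroup G), s ≠ 1 →
    Subgroup.centralizer ({s} : Set G) ≤ Subgroup.normalizer ((P : Subgroup G) : Set G))
  (L : Loc P a b t₁ t₂ w)

include L hcomm hexp

theorem Loc.isConj_a_inv : IsConj a a⁻¹ := isConj_iff.mpr ⟨t₂, L.h₂a⟩

theorem Loc.isConj_a_b : IsConj a b := isConj_iff.mpr ⟨w, L.hwa⟩

theorem Loc.isConj_ab_inv : IsConj (a * b) (a * b)⁻¹ := (L.symm' hcomm hexp).isConj_a_inv hcomm hexp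

theorem Loc.isConj_ab_ab' : IsConj (a * b) (a * b⁻¹) := (L.symm' hcomm hexp).isConj_a_b hcomm hexp

theorem Loc.isConj_at₁_inv : IsConj (a * t₁) (a * t₁)⁻¹ := by
  rw [isConj_iff]
  refine ⟨t₂, ?_⟩
  calc t₂ * (a * t₁) * t₂⁻¹ = (t₂ * a * t₂⁻¹) * (t₂ * t₁) * t₂⁻¹ := by group
    _ = a⁻¹ * (t₁ * t₂) * t₂⁻¹ := by rw [L.h₂a, L.h₁₂]
    _ = a⁻¹ * t₁ := by group
    _ = a⁻¹ * t₁⁻¹ := by rw [L.t₁_inv]
    _ = (t₁ * a)⁻¹ := by group
    _ = (a * t₁)⁻¹ := by rw [L.h₁a]

include hloc

/-- fusion of `a` in `P` -/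
theorem Loc.eq_of_isConj_a {x : G} (hx : x ∈ (P : Subgroup G)) (h : IsConj a x) :
    x = a ∨ x = a⁻¹ ∨ x = b ∨ x = b⁻¹ := by
  obtain ⟨g, hg⟩ := isConj_iff.mp h
  have hgN := mem_normalizer_of_conj P hloc hcomm hexp L.haP L.ha1 (by rw [hg]; exact hx)
  rw [← hg]
  obtain ⟨s, _, h⟩ := L.conj_pair hcomm hexp hgN
  rcases h with h | h | h | h | h | h | h | h
  · exact Or.inl h.2.1
  · exact Or.inl h.2.1
  · exact Or.inr (Or.inl h.2.1)
  · exact Or.inr (Or.inl h.2.1)
  · exact Or.inr (Or.inr (Or.inl h.2.1))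
  · exact Or.inr (Or.inr (Or.inl h.2.1))
  · exact Or.inr (Or.inr (Or.inr h.2.1))
  · exact Or.inr (Or.inr (Or.inr h.2.1))

/-- fusion of `a` in `P`, in coordinates -/
theorem Loc.E_of_isConj_a {i j : ℕ} (h : IsConj a (E a b i j)) :
    (i % 3 = 1 ∧ j % 3 = 0) ∨ (i % 3 = 2 ∧ j % 3 = 0) ∨ (i % 3 = 0 ∧ j % 3 = 1) ∨
      (i % 3 = 0 ∧ j % 3 = 2) := by
  rcases L.eq_of_isConj_a hcomm hexp hloc (L.E_mem i j) h with h | h | h | h
  · have h' := h.trans (L.E10 hcomm hexp).symm
    rw [L.E_eq_iff hcomm hexp] at h'; left; omega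
  · have h' := h.trans (L.E20 hcomm hexp).symm
    rw [L.E_eq_iff hcomm hexp] at h'; right; left; omega
  · have h' := h.trans (L.E01 hcomm hexp).symm
    rw [L.E_eq_iff hcomm hexp] at h'; right; right; left; omega
  · have h' := h.trans (L.E02 hcomm hexp).symm
    rw [L.E_eq_iff hcomm hexp] at h'; right; right; right; omega

/-- fusion of `a b` in `P`, in coordinates -/
theorem Loc.E_of_isConj_ab {i j : ℕ} (h : IsConj (a * b) (E a b i j)) :
    (i % 3 = 1 ∧ j % 3 = 1) ∨ (i % 3 = 2 ∧ j % 3 = 2) ∨ (i % 3 = 1 ∧ j % 3 = 2) ∨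
      (i % 3 = 2 ∧ j % 3 = 1) := by
  have L' := L.symm' hcomm hexp
  rcases L'.eq_of_isConj_a hcomm hexp hloc (L.E_mem i j) h with h | h | h | h
  · have h' := h.trans (L.E11 hcomm hexp).symm
    rw [L.E_eq_iff hcomm hexp] at h'; left; omega
  · have h' := h.trans (L.E22 hcomm hexp).symm
    rw [L.E_eq_iff hcomm hexp] at h'; right; left; omega
  · have h' := h.trans (L.E12 hcomm hexp).symm
    rw [L.E_eq_iff hcomm hexp] at h'; right; right; left; omega
  · have e : (a * b⁻¹)⁻¹ = E a b 2 1 := by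
      rw [L.E21 hcomm hexp, mul_inv_rev, inv_inv]
      exact hcomm _ L.hbP _ (Subgroup.inv_mem _ L.haP)
    have h' := h.trans e
    rw [L.E_eq_iff hcomm hexp] at h'; right; right; right; omega

theorem Loc.not_isConj_a_ab : ¬ IsConj a (a * b) := by
  intro h
  have e := L.E11 hcomm hexp
  rw [← e] at h
  have := L.E_of_isConj_a hcomm hexp hloc h
  omega

/-- the centralizer of `a` -/
theorem Loc.mem_centralizer_a {n : G} (hn : n * a = a * n) :
    ∃ s ∈ (P : Subgroup G), n = s ∨ n = s * t₁ := by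
  have hnN : n ∈ Subgroup.normalizer ((P : Subgroup G) : Set G) := by
    apply hloc a L.haP L.ha1
    rw [Subgroup.mem_centralizer_singleton_iff]
    exact hn
  have hc : n * a * n⁻¹ = a := conj_of_comm hn
  obtain ⟨s, hs, h⟩ := L.conj_pair hcomm hexp hnN
  refine ⟨s, hs, ?_⟩
  rcases h with h | h | h | h | h | h | h | h
  · exact Or.inl h.1
  · exact Or.inr h.1
  · exfalso; rw [hc] at h; exact L.a_inv_ne hexp h.2.1.symm
  · exfalso; rw [hc] at h; exact L.a_inv_ne hexp h.2.1.symm
  · exfalso; rw [hc] at h; exact L.hba h.2.1.symm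
  · exfalso; rw [hc] at h; exact L.hba h.2.1.symm
  · exfalso; rw [hc] at h; apply L.hba'; rw [h.2.1, inv_inv]
  · exfalso; rw [hc] at h; apply L.hba'; rw [h.2.1, inv_inv]

variable (hcardP : Nat.card (P : Subgroup G) = 9)

include hcardP

theorem Loc.card_centralizer_a :
    Nat.card (Subgroup.centralizer ({a} : Set G)) = 18 := by
  classical
  have h1 : (P : Subgroup G) ≤ Subgroup.centralizer ({a} : Set G) := by
    intro n hn
    rw [Subgroup.mem_centralizer_singleton_iff]
    exact hcomm n hn _ L.haP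
  have d1 := Subgroup.card_dvd_of_le h1
  rw [hcardP] at d1
  have hne9 : Nat.card (Subgroup.centralizer ({a} : Set G)) ≠ 9 := by
    intro h
    have := Subgroup.eq_of_le_of_card_ge h1 (by rw [h, hcardP])
    apply L.t₁_not_mem hexp
    rw [this, Subgroup.mem_centralizer_singleton_iff]
    exact L.h₁a
  have hle : Nat.card (Subgroup.centralizer ({a} : Set G)) ≤ 18 := by
    have hsub : ((Subgroup.centralizer ({a} : Set G) : Subgroup G) : Set G)
        ⊆ ((P : Subgroup G) : Set G) ∪ (fun s => s * t₁) '' ((P : Subgroup G) : Set G) := by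
      intro n hn
      have hn' : n * a = a * n := by
        have := Subgroup.mem_centralizer_singleton_iff.mp hn
        exact this
      obtain ⟨s, hs, h | h⟩ := L.mem_centralizer_a hcomm hexp hloc hn'
      · left; rw [h]; exact hs
      · right; exact ⟨s, hs, h.symm⟩
    have h2 := Set.ncard_le_ncard hsub (Set.toFinite _)
    have h3 := Set.ncard_union_le ((P : Subgroup G) : Set G)
      ((fun s => s * t₁) '' ((P : Subgroup G) : Set G))
    have h4 := Set.ncard_image_le (f := fun s => s * t₁) (Set.toFinite ((P : Subgroup G) : Set G))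
    have h5 : ((P : Subgroup G) : Set G).ncard = 9 := by
      rw [← hcardP]; exact (Nat.card_coe_set_eq _).symm
    have h6 : ((Subgroup.centralizer ({a} : Set G) : Subgroup G) : Set G).ncard
        = Nat.card (Subgroup.centralizer ({a} : Set G)) := (Nat.card_coe_set_eq _).symm
    omega
  obtain ⟨k, hk⟩ := d1
  have hpos : 0 < Nat.card (Subgroup.centralizer ({a} : Set G)) := Nat.card_pos
  omega

theorem Loc.card_centralizer_at₁ :
    Nat.card (Subgroup.centralizer ({a * t₁} : Set G)) = 6 := by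
  have h1 : Subgroup.zpowers (a * t₁) ≤ Subgroup.centralizer ({a * t₁} : Set G) := by
    rw [Subgroup.zpowers_le, Subgroup.mem_centralizer_singleton_iff]
  have h2 : Subgroup.centralizer ({a * t₁} : Set G) ≤ Subgroup.centralizer ({a} : Set G) := by
    intro n hn
    rw [Subgroup.mem_centralizer_singleton_iff] at hn ⊢
    rw [← L.at₁_pow_four hexp]
    have hc : Commute n (a * t₁) := hn
    exact hc.pow_right 4
  have d1 := Subgroup.card_dvd_of_le h1
  have d2 := Subgroup.card_dvd_of_le h2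
  rw [Nat.card_zpowers, L.orderOf_at₁ hexp] at d1
  rw [L.card_centralizer_a hcomm hexp hloc hcardP] at d2
  have hne18 : Nat.card (Subgroup.centralizer ({a * t₁} : Set G)) ≠ 18 := by
    intro h
    have := Subgroup.eq_of_le_of_card_ge h2
      (by rw [h, L.card_centralizer_a hcomm hexp hloc hcardP])
    have h3 : b ∈ Subgroup.centralizer ({a * t₁} : Set G) := by
      rw [this, Subgroup.mem_centralizer_singleton_iff]
      exact (L.ab_comm hcomm hexp).symm
    rw [Subgroup.mem_centralizer_singleton_iff] at h3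
    apply L.b_inv_ne hexp
    have e1 : t₁ * b = b⁻¹ * t₁ := by
      calc t₁ * b = (t₁ * b * t₁⁻¹) * t₁ := by group
        _ = b⁻¹ * t₁ := by rw [L.h₁b]
    have e2 : a * b * t₁ = a * b⁻¹ * t₁ := by
      calc a * b * t₁ = b * a * t₁ := by rw [L.ab_comm hcomm hexp]
        _ = b * (a * t₁) := by group
        _ = a * t₁ * b := h3
        _ = a * (t₁ * b) := by group
        _ = a * (b⁻¹ * t₁) := by rw [e1]
        _ = a * b⁻¹ * t₁ := by group
    exact (mul_left_cancel (mul_right_cancel e2)).symm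
  obtain ⟨k, hk⟩ := d1
  have hle : Nat.card (Subgroup.centralizer ({a * t₁} : Set G)) ≤ 18 :=
    Nat.le_of_dvd (by norm_num) d2
  have hpos : 0 < Nat.card (Subgroup.centralizer ({a * t₁} : Set G)) := Nat.card_pos
  have hk3 : k ≤ 3 := by omega
  interval_cases k
  · omega
  · omega
  · exfalso
    rw [hk] at d2
    norm_num at d2
  · omega

end loc

end Cfsg.Agent.Lib.Helper6.Td
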