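import Mathlib
import Cfsg.Agent.Lib.Helper6.TdD

/-! # Local class products and local square roots for the local data `Td.Loc` -/

set_option autoImplicit false
set_option linter.unusedSectionVars false
open Cfsg

namespace Cfsg.Agent.Lib.Helper6.Td

open Cfsg.Agent.Lib.Helper6.Tv (eq_one_of_sq_of_cube inv_ne_self_of_cube mem_normalizer_of_conj
  mem_of_mul cube_of_isConj)

theorem card_subtype_pair {α : Type*} (x y : α) (hxy : x ≠ y) (Q : α → Prop)
    (hQ : ∀ p, Q p ↔ p = x ∨ p = y) : Nat.card {p // Q p} = 2 := by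
  have h1 : {p | Q p} = ({x, y} : Set α) := by
    ext p
    simp only [Set.mem_setOf_eq, Set.mem_insert_iff, Set.mem_singleton_iff]
    exact hQ p
  have h2 : Nat.card {p // Q p} = Set.ncard {p | Q p} := Nat.card_coe_set_eq _
  rw [h2, h1, Set.ncard_pair hxy]

theorem card_subtype_four {α : Type*} (x y z u : α) (hxy : x ≠ y) (hxz : x ≠ z) (hxu : x ≠ u)
    (hyz : y ≠ z) (hyu : y ≠ u) (hzu : z ≠ u) (Q : α → Prop)
    (hQ : ∀ p, Q p ↔ p = x ∨ p = y ∨ p = z ∨ p = u) : Nat.card {p // Q p} = 4 := by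
  classical
  have h1 : {p | Q p} = ((({x, y, z, u} : Finset α) : Set α)) := by
    ext p
    simp only [Set.mem_setOf_eq, Finset.coe_insert, Finset.coe_singleton, Set.mem_insert_iff,
      Set.mem_singleton_iff]
    exact hQ p
  have h2 : Nat.card {p // Q p} = Set.ncard {p | Q p} := Nat.card_coe_set_eq _
  rw [h2, h1, Set.ncard_coe_finset]
  rw [Finset.card_insert_of_notMem, Finset.card_insert_of_notMem, Finset.card_insert_of_notMem,
    Finset.card_singleton]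
  · simp only [Finset.mem_singleton]; exact hzu
  · simp only [Finset.mem_insert, Finset.mem_singleton]; push Not; exact ⟨hyz, hyu⟩
  · simp only [Finset.mem_insert, Finset.mem_singleton]; push Not; exact ⟨hxy, hxz, hxu⟩

section loc

variable {G : Type*} [Group G] [Finite G] {P : Sylow 3 G} {a b t₁ t₂ w : G}

variable (hcomm : ∀ x ∈ (P : Subgroup G), ∀ y ∈ (P : Subgroup G), x * y = y * x)
  (hexp : ∀ x ∈ (P : Subgroup G), x ^ 3 = 1)
  (hloc : ∀ s ∈ (P : Subgroup G), s ≠ 1 →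
    Subgroup.centralizer ({s} : Set G) ≤ Subgroup.normalizer ((P : Subgroup G) : Set G))
  (L : Loc P a b t₁ t₂ w)
  (hcardP : Nat.card (P : Subgroup G) = 9)

include L hcomm hexp

theorem Loc.E_eq_of {x : G} {k l : ℕ} (e : E a b k l = x) (i j : ℕ) :
    E a b i j = x ↔ i % 3 = k % 3 ∧ j % 3 = l % 3 := by
  constructor
  · intro h
    exact (L.E_eq_iff hcomm hexp i j k l).mp (h.trans e.symm)
  · intro h
    exact ((L.E_eq_iff hcomm hexp i j k l).mpr h).trans e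

include hloc hcardP

/-- both factors of a product `u v = a b` with `u` conjugate to `a` lie in `P` -/
theorem Loc.mem_of_mul_eq_ab {u v : G} (hu : IsConj a u) (hv3 : v ^ 3 = 1) (h : u * v = a * b) :
    u ∈ (P : Subgroup G) ∧ v ∈ (P : Subgroup G) := by
  have hu3 := cube_of_isConj (L.a3 hexp) hu
  have hnc : ¬ IsConj u (u * v)⁻¹ := by
    rw [h]
    intro hc
    exact L.not_isConj_a_ab hcomm hexp hloc
      ((hu.trans hc).trans (L.isConj_ab_inv hcomm hexp).symm)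
  exact mem_of_mul P hloc hcomm hexp u v hu3 hv3
    (by rw [h]; exact L.abP hcomm hexp) (by rw [h]; exact L.ab_ne_one hcomm hexp) hnc

theorem Loc.mul_aa_c_iff (u v : G) :
    (IsConj a u ∧ IsConj a v ∧ u * v = a * b) ↔ (u = a ∧ v = b) ∨ (u = b ∧ v = a) := by
  constructor
  · rintro ⟨hu, hv, h⟩
    obtain ⟨huP, hvP⟩ := L.mem_of_mul_eq_ab hcomm hexp hloc hcardP hu
      (cube_of_isConj (L.a3 hexp) hv) h
    obtain ⟨i, j, _, _, rfl⟩ := L.exists_E hcomm hexp hcardP huP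
    obtain ⟨k, l, _, _, rfl⟩ := L.exists_E hcomm hexp hcardP hvP
    have h1 := L.E_of_isConj_a hcomm hexp hloc hu
    have h2 := L.E_of_isConj_a hcomm hexp hloc hv
    rw [L.E_mul hcomm hexp, L.E_eq_of hcomm hexp (L.E11 hcomm hexp)] at h
    have hcase : (i % 3 = 1 ∧ j % 3 = 0 ∧ k % 3 = 0 ∧ l % 3 = 1) ∨
        (i % 3 = 0 ∧ j % 3 = 1 ∧ k % 3 = 1 ∧ l % 3 = 0) := by omega
    rcases hcase with ⟨e1, e2, e3, e4⟩ | ⟨e1, e2, e3, e4⟩
    · left
      refine ⟨?_, ?_⟩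
      · rw [L.E_eq_of hcomm hexp (L.E10 hcomm hexp)]; omega
      · rw [L.E_eq_of hcomm hexp (L.E01 hcomm hexp)]; omega
    · right
      refine ⟨?_, ?_⟩
      · rw [L.E_eq_of hcomm hexp (L.E01 hcomm hexp)]; omega
      · rw [L.E_eq_of hcomm hexp (L.E10 hcomm hexp)]; omega
  · rintro (⟨rfl, rfl⟩ | ⟨rfl, rfl⟩)
    · exact ⟨IsConj.refl _, L.isConj_a_b hcomm hexp, rfl⟩
    · exact ⟨L.isConj_a_b hcomm hexp, IsConj.refl _, (L.ab_comm hcomm hexp).symm⟩

theorem Loc.card_mul_aa_c :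
    Nat.card {p : G × G // IsConj a p.1 ∧ IsConj a p.2 ∧ p.1 * p.2 = a * b} = 2 := by
  apply card_subtype_pair (a, b) (b, a)
  · intro h
    exact L.hba (congrArg Prod.fst h).symm
  · rintro ⟨u, v⟩
    rw [L.mul_aa_c_iff hcomm hexp hloc hcardP u v]
    simp only [Prod.mk.injEq]

theorem Loc.isConj_ab_a'b : IsConj (a * b) (a⁻¹ * b) := by
  rw [isConj_iff]
  refine ⟨t₂, ?_⟩
  calc t₂ * (a * b) * t₂⁻¹ = (t₂ * a * t₂⁻¹) * (t₂ * b * t₂⁻¹) := by group
    _ = a⁻¹ * b := by rw [L.h₂a, L.c₂b]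

theorem Loc.isConj_a_b_inv : IsConj a b⁻¹ := by
  have h1 : IsConj b b⁻¹ := isConj_iff.mpr ⟨t₁, L.h₁b⟩
  exact (L.isConj_a_b hcomm hexp).trans h1

theorem Loc.mul_ac_c_iff (u v : G) :
    (IsConj a u ∧ IsConj (a * b) v ∧ u * v = a * b) ↔
      (u = a⁻¹ ∧ v = a⁻¹ * b) ∨ (u = b⁻¹ ∧ v = a * b⁻¹) := by
  constructor
  · rintro ⟨hu, hv, h⟩
    obtain ⟨huP, hvP⟩ := L.mem_of_mul_eq_ab hcomm hexp hloc hcardP hu
      (cube_of_isConj (hexp _ (L.abP hcomm hexp)) hv) h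
    obtain ⟨i, j, _, _, rfl⟩ := L.exists_E hcomm hexp hcardP huP
    obtain ⟨k, l, _, _, rfl⟩ := L.exists_E hcomm hexp hcardP hvP
    have h1 := L.E_of_isConj_a hcomm hexp hloc hu
    have h2 := L.E_of_isConj_ab hcomm hexp hloc hv
    rw [L.E_mul hcomm hexp, L.E_eq_of hcomm hexp (L.E11 hcomm hexp)] at h
    have hcase : (i % 3 = 2 ∧ j % 3 = 0 ∧ k % 3 = 2 ∧ l % 3 = 1) ∨
        (i % 3 = 0 ∧ j % 3 = 2 ∧ k % 3 = 1 ∧ l % 3 = 2) := by omega
    rcases hcase with ⟨e1, e2, e3, e4⟩ | ⟨e1, e2, e3, e4⟩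
    · left
      refine ⟨?_, ?_⟩
      · rw [L.E_eq_of hcomm hexp (L.E20 hcomm hexp)]; omega
      · rw [L.E_eq_of hcomm hexp (L.E21 hcomm hexp)]; omega
    · right
      refine ⟨?_, ?_⟩
      · rw [L.E_eq_of hcomm hexp (L.E02 hcomm hexp)]; omega
      · rw [L.E_eq_of hcomm hexp (L.E12 hcomm hexp)]; omega
  · rintro (⟨rfl, rfl⟩ | ⟨rfl, rfl⟩)
    · refine ⟨L.isConj_a_inv hcomm hexp, L.isConj_ab_a'b hcomm hexp hloc hcardP, ?_⟩
      have : E a b 2 0 * E a b 2 1 = E a b 1 1 := by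
        rw [L.E_mul hcomm hexp, L.E_eq_iff hcomm hexp]; omega
      rwa [L.E20 hcomm hexp, L.E21 hcomm hexp, L.E11 hcomm hexp] at this
    · refine ⟨L.isConj_a_b_inv hcomm hexp hloc hcardP, L.isConj_ab_ab' hcomm hexp, ?_⟩
      have : E a b 0 2 * E a b 1 2 = E a b 1 1 := by
        rw [L.E_mul hcomm hexp, L.E_eq_iff hcomm hexp]; omega
      rwa [L.E02 hcomm hexp, L.E12 hcomm hexp, L.E11 hcomm hexp] at this

theorem Loc.card_mul_ac_c :
    Nat.card {p : G × G // IsConj a p.1 ∧ IsConj (a * b) p.2 ∧ p.1 * p.2 = a * b} = 2 := by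
  apply card_subtype_pair (a⁻¹, a⁻¹ * b) (b⁻¹, a * b⁻¹)
  · intro h
    have h1 := congrArg Prod.fst h
    simp only at h1
    rw [inv_inj] at h1
    exact L.hba h1.symm
  · rintro ⟨u, v⟩
    rw [L.mul_ac_c_iff hcomm hexp hloc hcardP u v]
    simp only [Prod.mk.injEq]

end loc

end Cfsg.Agent.Lib.Helper6.Td
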