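import Mathlib
import Cfsg.Agent.Lib.Helper6.TdE

/-! # Local square roots for the local data `Td.Loc` -/

set_option autoImplicit false
set_option linter.unusedSectionVars false
open Cfsg

namespace Cfsg.Agent.Lib.Helper6.Td

open Cfsg.Agent.Lib.Helper6.Tv (eq_one_of_sq_of_cube inv_ne_self_of_cube)

section loc

variable {G : Type*} [Group G] [Finite G] {P : Sylow 3 G} {a b t₁ t₂ w : G}

variable (hcomm : ∀ x ∈ (P : Subgroup G), ∀ y ∈ (P : Subgroup G), x * y = y * x)
  (hexp : ∀ x ∈ (P : Subgroup G), x ^ 3 = 1)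
  (hloc : ∀ s ∈ (P : Subgroup G), s ≠ 1 →
    Subgroup.centralizer ({s} : Set G) ≤ Subgroup.normalizer ((P : Subgroup G) : Set G))
  (L : Loc P a b t₁ t₂ w)
  (hcardP : Nat.card (P : Subgroup G) = 9)

include L hcomm hexp

/-- conjugation by `t₁` in coordinates -/
theorem Loc.conj_t₁_E (i j : ℕ) : t₁ * E a b i j * t₁⁻¹ = E a b i (2 * j) := by
  unfold E
  have h1 : t₁ * a ^ i * t₁⁻¹ = a ^ i := by rw [← conj_pow, L.c₁a]
  have h2 : t₁ * b ^ j * t₁⁻¹ = b ^ (2 * j) := by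
    rw [← conj_pow, L.h₁b, pow_mul, L.b_sq hcomm hexp]
  calc t₁ * (a ^ i * b ^ j) * t₁⁻¹ = (t₁ * a ^ i * t₁⁻¹) * (t₁ * b ^ j * t₁⁻¹) := by group
    _ = a ^ i * b ^ (2 * j) := by rw [h1, h2]

/-- the square of `s t₁` in coordinates -/
theorem Loc.sq_E_t₁ (i j : ℕ) : (E a b i j * t₁) * (E a b i j * t₁) = E a b (2 * i) 0 := by
  have h1 : (E a b i j * t₁) * (E a b i j * t₁)
      = E a b i j * (t₁ * E a b i j * t₁⁻¹) * (t₁ * t₁) := by group
  rw [h1, L.conj_t₁_E hcomm hexp, L.ht₁, mul_one, L.E_mul hcomm hexp, L.E_eq_iff hcomm hexp]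
  constructor <;> omega

include hloc hcardP

theorem Loc.sq_eq_a_iff (h : G) :
    h * h = a ↔ h = a⁻¹ ∨ h = a⁻¹ * t₁ ∨ h = a⁻¹ * b * t₁ ∨ h = (a * b)⁻¹ * t₁ := by
  constructor
  · intro hh
    have hc : h * a = a * h := by rw [← hh]; group
    obtain ⟨s, hs, hs' | hs'⟩ := L.mem_centralizer_a hcomm hexp hloc hc
    · left
      obtain ⟨i, j, _, _, rfl⟩ := L.exists_E hcomm hexp hcardP hs
      rw [hs', L.E_mul hcomm hexp, L.E_eq_of hcomm hexp (L.E10 hcomm hexp)] at hh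
      rw [hs', L.E_eq_of hcomm hexp (L.E20 hcomm hexp)]
      omega
    · right
      obtain ⟨i, j, _, hj, rfl⟩ := L.exists_E hcomm hexp hcardP hs
      rw [hs', L.sq_E_t₁ hcomm hexp, L.E_eq_of hcomm hexp (L.E10 hcomm hexp)] at hh
      rw [hs']
      interval_cases j
      · left
        congr 1
        rw [L.E_eq_of hcomm hexp (L.E20 hcomm hexp)]; omega
      · right; left
        congr 1
        rw [L.E_eq_of hcomm hexp (L.E21 hcomm hexp)]; omega
      · right; right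
        congr 1
        rw [L.E_eq_of hcomm hexp (L.E22 hcomm hexp)]; omega
  · have key : ∀ i j : ℕ, i % 3 = 2 → (E a b i j * t₁) * (E a b i j * t₁) = a := by
      intro i j hi
      rw [L.sq_E_t₁ hcomm hexp, L.E_eq_of hcomm hexp (L.E10 hcomm hexp)]
      omega
    rintro (rfl | rfl | rfl | rfl)
    · have : E a b 2 0 * E a b 2 0 = E a b 1 0 := by
        rw [L.E_mul hcomm hexp, L.E_eq_iff hcomm hexp]; omega
      rwa [L.E20 hcomm hexp, L.E10 hcomm hexp] at this
    · have := key 2 0 rfl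
      rwa [L.E20 hcomm hexp] at this
    · have := key 2 1 rfl
      rwa [L.E21 hcomm hexp] at this
    · have := key 2 2 rfl
      rwa [L.E22 hcomm hexp] at this

theorem Loc.card_sq_eq_a : Nat.card {h : G // h * h = a} = 4 := by
  have hnot : ∀ s ∈ (P : Subgroup G), s * t₁ ∉ (P : Subgroup G) := by
    intro s hs h
    apply L.t₁_not_mem hexp
    have : t₁ = s⁻¹ * (s * t₁) := by group
    rw [this]
    exact Subgroup.mul_mem _ (Subgroup.inv_mem _ hs) h
  have ha' : a⁻¹ ∈ (P : Subgroup G) := Subgroup.inv_mem _ L.haP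
  have hne : ∀ s ∈ (P : Subgroup G), a⁻¹ ≠ s * t₁ := by
    intro s hs h
    exact hnot s hs (h ▸ ha')
  apply card_subtype_four a⁻¹ (a⁻¹ * t₁) (a⁻¹ * b * t₁) ((a * b)⁻¹ * t₁)
  · exact hne _ ha'
  · exact hne _ (Subgroup.mul_mem _ ha' L.hbP)
  · exact hne _ (Subgroup.inv_mem _ (L.abP hcomm hexp))
  · intro h
    have h1 : a⁻¹ = a⁻¹ * b := mul_right_cancel h
    apply L.hb1
    have : a⁻¹ * 1 = a⁻¹ * b := by rw [mul_one]; exact h1
    exact (mul_left_cancel this).symm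
  · intro h
    have h1 : a⁻¹ = (a * b)⁻¹ := mul_right_cancel h
    rw [inv_inj] at h1
    apply L.hb1
    have : a * 1 = a * b := by rw [mul_one]; exact h1
    exact (mul_left_cancel this).symm
  · intro h
    have h1 : a⁻¹ * b = (a * b)⁻¹ := mul_right_cancel h
    rw [mul_inv_rev, hcomm _ (Subgroup.inv_mem _ L.hbP) _ ha'] at h1
    exact L.b_inv_ne hexp (mul_left_cancel h1).symm
  · exact L.sq_eq_a_iff hcomm hexp hloc hcardP

theorem Loc.card_sq_eq_at₁ : Nat.card {h : G // h * h = a * t₁} = 0 := by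
  rw [Nat.card_eq_zero]
  left
  constructor
  rintro ⟨h, hh⟩
  have hc : h ∈ Subgroup.centralizer ({a * t₁} : Set G) := by
    rw [Subgroup.mem_centralizer_singleton_iff, ← hh]; group
  have h6 : h ^ 6 = 1 := by
    have := pow_card_eq_one' (G := Subgroup.centralizer ({a * t₁} : Set G)) (x := ⟨h, hc⟩)
    rw [L.card_centralizer_at₁ hcomm hexp hloc hcardP] at this
    exact congrArg Subtype.val this
  have h7 : h ^ 6 = (h * h) ^ 3 := by rw [← pow_two, ← pow_mul]
  rw [h7, hh, L.at₁_pow_three hexp] at h6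
  exact L.t₁_ne_one hexp h6

end loc

end Cfsg.Agent.Lib.Helper6.Td
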