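import Mathlib
import Cfsg.Prelude.Def_Blocks
import Cfsg.Agent.Lib.Helper6.TvF
import Cfsg.Agent.Lib.Helper6.TdF

/-! # Integrality of character values on the special classes for the local data `Td.Loc` -/

set_option autoImplicit false
set_option linter.unusedSectionVars false
open Cfsg

namespace Cfsg.Agent.Lib.Helper6.Td

open scoped ComplexConjugate
open Cfsg.Agent.Lib.Helper6
open Cfsg.Agent.Lib.Helper6.Tv (sum_range_three sum_range_six exists_omega conj_eq_of_isConj_inv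
  apply_inv_of_isConj_inv cyclic_mult)

section int

variable {G : Type*} [Group G] [Fintype G] {P : Sylow 3 G} {a b t₁ t₂ w : G}

variable (hcomm : ∀ x ∈ (P : Subgroup G), ∀ y ∈ (P : Subgroup G), x * y = y * x)
  (hexp : ∀ x ∈ (P : Subgroup G), x ^ 3 = 1)
  (L : Loc P a b t₁ t₂ w)

include hcomm hexp L

/-- the sum over the cyclic group of order `3` generated by `a` -/
theorem Loc.sum_cyc_three {χ : G → ℂ} (hχ : Cfsg.IsCharacter G χ) (z : ℂ) :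
    ∑ k ∈ Finset.range 3, χ (a ^ k) * conj (z ^ k)
      = χ 1 + χ a * conj z + χ a * conj z ^ 2 := by
  rw [sum_range_three, pow_zero, pow_zero, pow_one, pow_one, map_one, mul_one, map_pow]
  rw [L.a_sq hcomm hexp, apply_inv_of_isConj_inv hχ (L.isConj_a_inv hcomm hexp)]

/-- the sum over the cyclic group of order `6` generated by `a t₁` -/
theorem Loc.sum_cyc_six {χ : G → ℂ} (hχ : Cfsg.IsCharacter G χ) (z : ℂ) :
    ∑ k ∈ Finset.range 6, χ ((a * t₁) ^ k) * conj (z ^ k)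
      = χ 1 + χ (a * t₁) * conj z + χ a * conj z ^ 2 + χ t₁ * conj z ^ 3
        + χ a * conj z ^ 4 + χ (a * t₁) * conj z ^ 5 := by
  have h6 : (a * t₁) ^ 6 = 1 := by
    rw [← L.orderOf_at₁ hexp]; exact pow_orderOf_eq_one _
  have h4 := L.at₁_pow_four hexp
  have h3 := L.at₁_pow_three hexp
  have h2 : (a * t₁) ^ 2 = a⁻¹ := by
    have : (a * t₁) ^ 2 * (a * t₁) ^ 4 = 1 := by rw [← pow_add]; exact h6
    rw [h4] at this
    exact eq_inv_of_mul_eq_one_left this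
  have h5 : (a * t₁) ^ 5 = (a * t₁)⁻¹ := by
    have : (a * t₁) ^ 5 * (a * t₁) = 1 := by rw [← pow_succ]; exact h6
    exact eq_inv_of_mul_eq_one_left this
  rw [sum_range_six, pow_zero, pow_zero, pow_one, pow_one, map_one, mul_one, h2, h3, h4, h5,
    apply_inv_of_isConj_inv hχ (L.isConj_a_inv hcomm hexp),
    apply_inv_of_isConj_inv hχ (L.isConj_at₁_inv hcomm hexp)]
  simp only [map_pow]

/-- integrality on the classes of `a` and `a t₁` -/
theorem Loc.exists_half {χ : G → ℂ} (hχ : Cfsg.IsCharacter G χ) :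
    ∃ N₁ N₂ m : ℤ, χ a = (N₁ : ℂ) + N₂ ∧ χ (a * t₁) = (N₁ : ℂ) - N₂ ∧
      χ 1 - χ a = 3 * (m : ℂ) := by
  obtain ⟨ω, hω⟩ := exists_omega
  obtain ⟨z, hzdef⟩ : ∃ z : ℂ, z = conj ω := ⟨_, rfl⟩
  have hz : 1 + z + z ^ 2 = 0 := by
    have := congrArg (starRingEnd ℂ) hω
    simp only [map_add, map_one, map_pow, map_zero] at this
    rw [hzdef]; exact this
  have hω3 : ω ^ 3 = 1 := by linear_combination (ω - 1) * hω
  have hz3 : z ^ 3 = 1 := by linear_combination (z - 1) * hz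
  have hz4 : z ^ 4 = z := by linear_combination z * hz3
  have hz5 : z ^ 5 = z ^ 2 := by linear_combination z ^ 2 * hz3
  obtain ⟨ma, hma⟩ := cyclic_mult hχ a 3 (L.orderOf_a hexp) (by norm_num) ω hω3
  rw [L.sum_cyc_three hcomm hexp hχ, ← hzdef] at hma
  obtain ⟨n₁, hn₁⟩ := cyclic_mult hχ (a * t₁) 6 (L.orderOf_at₁ hexp) (by norm_num) 1 (one_pow 6)
  rw [L.sum_cyc_six hcomm hexp hχ, map_one] at hn₁
  obtain ⟨n₂, hn₂⟩ := cyclic_mult hχ (a * t₁) 6 (L.orderOf_at₁ hexp) (by norm_num) ω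
    (by rw [show 6 = 3 * 2 by norm_num, pow_mul, hω3, one_pow])
  rw [L.sum_cyc_six hcomm hexp hχ, ← hzdef, hz3, hz4, hz5] at hn₂
  obtain ⟨n₃, hn₃⟩ := cyclic_mult hχ (a * t₁) 6 (L.orderOf_at₁ hexp) (by norm_num) (-1)
    (by norm_num)
  rw [L.sum_cyc_six hcomm hexp hχ] at hn₃
  simp only [map_neg, map_one] at hn₃
  obtain ⟨n₄, hn₄⟩ := cyclic_mult hχ (a * t₁) 6 (L.orderOf_at₁ hexp) (by norm_num) (-ω)
    (by rw [show 6 = 3 * 2 by norm_num, pow_mul, neg_pow, hω3]; norm_num)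
  rw [L.sum_cyc_six hcomm hexp hχ] at hn₄
  simp only [map_neg] at hn₄
  rw [← hzdef] at hn₄
  have hn₄' : χ 1 - χ (a * t₁) * z + χ a * z ^ 2 - χ t₁ + χ a * z - χ (a * t₁) * z ^ 2
      = 6 * (n₄ : ℂ) := by
    have e3 : (-z) ^ 3 = -1 := by rw [neg_pow, hz3]; norm_num
    have e4 : (-z) ^ 4 = z := by rw [neg_pow, hz4]; norm_num
    have e5 : (-z) ^ 5 = -z ^ 2 := by rw [neg_pow, hz5]; norm_num
    have e2 : (-z) ^ 2 = z ^ 2 := by rw [neg_pow]; norm_num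
    rw [e2, e3, e4, e5] at hn₄
    push_cast at hn₄
    linear_combination hn₄
  refine ⟨(n₁ : ℤ) - n₂, (n₃ : ℤ) - n₄, (ma : ℤ), ?_, ?_, ?_⟩
  · push_cast at hma hn₁ hn₂ hn₃ ⊢
    linear_combination (1 / 6 : ℂ) * hn₁ - (1 / 6 : ℂ) * hn₂ + (1 / 6 : ℂ) * hn₃
      - (1 / 6 : ℂ) * hn₄' + (1 / 3 : ℂ) * χ a * hz
  · push_cast at hma hn₁ hn₂ hn₃ ⊢
    linear_combination (1 / 6 : ℂ) * hn₁ - (1 / 6 : ℂ) * hn₂ - (1 / 6 : ℂ) * hn₃
      + (1 / 6 : ℂ) * hn₄' + (1 / 3 : ℂ) * χ (a * t₁) * hz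
  · push_cast at hma ⊢
    linear_combination hma - χ a * hz

/-- integrality: the values on the four special classes come from four integers -/
theorem Loc.exists_int {χ : G → ℂ} (hχ : Cfsg.IsCharacter G χ) :
    ∃ A₁ A₂ B₁ B₂ : ℤ, χ a = 2 * ((B₁ : ℂ) + B₂) - ((A₁ : ℂ) + A₂) ∧
      χ (a * b) = 2 * ((A₁ : ℂ) + A₂) - ((B₁ : ℂ) + B₂) ∧
      χ (a * t₁) = (A₁ : ℂ) - A₂ ∧ χ (a * b * w) = (B₁ : ℂ) - B₂ := by
  obtain ⟨N₁, N₂, ma, h1, h2, h3⟩ := L.exists_half hcomm hexp hχ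
  obtain ⟨N₁', N₂', mc, h1', h2', h3'⟩ := (L.symm' hcomm hexp).exists_half hcomm hexp hχ
  refine ⟨N₁ - (mc - ma), N₂ - (mc - ma), N₁' + (mc - ma), N₂' + (mc - ma), ?_, ?_, ?_, ?_⟩
  · push_cast
    linear_combination (-1 : ℂ) * h1 + 2 * h1' + 2 * h3' - 2 * h3
  · push_cast
    linear_combination 2 * h1 - h1' - 2 * h3' + 2 * h3
  · push_cast
    linear_combination h2
  · push_cast
    linear_combination h2'

end int

end Cfsg.Agent.Lib.Helper6.Td
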