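import Mathlib
import Cfsg.Agent.Lib.Helper6.Schur
import Cfsg.Agent.Lib.Helper6.Orthogonality
import Cfsg.Agent.Lib.Helper6.Multiplicity

set_option autoImplicit false

namespace Cfsg.Agent.Lib.Helper6

open Matrix
open scoped ComplexConjugate

section

variable {G : Type*} [Group G] {n : ℕ}

/-- the matrix of `ρ g` in the standard basis -/
noncomputable def repMat (ρ : Representation ℂ G (Fin n → ℂ)) (g : G) :
    Matrix (Fin n) (Fin n) ℂ :=
  LinearMap.toMatrix' (ρ g)

theorem repMat_mul (ρ : Representation ℂ G (Fin n → ℂ)) (g h : G) :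
    repMat ρ (g * h) = repMat ρ g * repMat ρ h := by
  unfold repMat
  rw [map_mul, LinearMap.toMatrix'_mul]

theorem repMat_one (ρ : Representation ℂ G (Fin n → ℂ)) : repMat ρ 1 = 1 := by
  unfold repMat
  rw [map_one, LinearMap.toMatrix'_one]

theorem repMat_inv_mul (ρ : Representation ℂ G (Fin n → ℂ)) (g : G) :
    repMat ρ g⁻¹ * repMat ρ g = 1 := by
  rw [← repMat_mul, inv_mul_cancel, repMat_one]

theorem repMat_mul_inv (ρ : Representation ℂ G (Fin n → ℂ)) (g : G) :
    repMat ρ g * repMat ρ g⁻¹ = 1 := by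
  rw [← repMat_mul, mul_inv_cancel, repMat_one]

theorem toLin'_repMat (ρ : Representation ℂ G (Fin n → ℂ)) (g : G) :
    Matrix.toLin' (repMat ρ g) = ρ g := by
  unfold repMat
  rw [Matrix.toLin'_toMatrix']

theorem character_eq_trace_repMat (ρ : Representation ℂ G (Fin n → ℂ)) (g : G) :
    ρ.character g = (repMat ρ g).trace := by
  unfold repMat
  rw [Representation.character, LinearMap.trace_eq_matrix_trace ℂ (Pi.basisFun ℂ (Fin n)),
    LinearMap.toMatrix_eq_toMatrix']

/-- `Y` is (the matrix of) a `ρ`-invariant bilinear form -/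
def IsInvForm (ρ : Representation ℂ G (Fin n → ℂ)) (Y : Matrix (Fin n) (Fin n) ℂ) : Prop :=
  ∀ g : G, repMat ρ g * Y * (repMat ρ g)ᵀ = Y

theorem IsInvForm.transpose {ρ : Representation ℂ G (Fin n → ℂ)} {Y : Matrix (Fin n) (Fin n) ℂ}
    (hY : IsInvForm ρ Y) : IsInvForm ρ Yᵀ := by
  intro g
  have h := congrArg Matrix.transpose (hY g)
  rw [Matrix.transpose_mul, Matrix.transpose_mul, Matrix.transpose_transpose, ← mul_assoc] at h
  exact h

theorem IsInvForm.smul {ρ : Representation ℂ G (Fin n → ℂ)} {Y : Matrix (Fin n) (Fin n) ℂ}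
    (hY : IsInvForm ρ Y) (c : ℂ) : IsInvForm ρ (c • Y) := by
  intro g
  rw [Matrix.mul_smul, Matrix.smul_mul, hY g]

theorem IsInvForm.mul_eq {ρ : Representation ℂ G (Fin n → ℂ)} {Y : Matrix (Fin n) (Fin n) ℂ}
    (hY : IsInvForm ρ Y) (g : G) : repMat ρ g * Y = Y * (repMat ρ g⁻¹)ᵀ := by
  have h1 : (repMat ρ g)ᵀ * (repMat ρ g⁻¹)ᵀ = 1 := by
    rw [← Matrix.transpose_mul, repMat_inv_mul, Matrix.transpose_one]
  calc repMat ρ g * Y = repMat ρ g * Y * ((repMat ρ g)ᵀ * (repMat ρ g⁻¹)ᵀ) := by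
        rw [h1, mul_one]
    _ = (repMat ρ g * Y * (repMat ρ g)ᵀ) * (repMat ρ g⁻¹)ᵀ := by
        simp only [mul_assoc]
    _ = Y * (repMat ρ g⁻¹)ᵀ := by rw [hY g]

theorem sum_isInvForm [Fintype G] (ρ : Representation ℂ G (Fin n → ℂ))
    (Y : Matrix (Fin n) (Fin n) ℂ) :
    IsInvForm ρ (∑ g : G, repMat ρ g * Y * (repMat ρ g)ᵀ) := by
  intro h
  rw [Finset.mul_sum, Finset.sum_mul]
  rw [← Equiv.sum_comp (Equiv.mulLeft h) (fun g => repMat ρ g * Y * (repMat ρ g)ᵀ)]
  apply Finset.sum_congr rfl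
  intro g _
  rw [Equiv.coe_mulLeft, repMat_mul, Matrix.transpose_mul]
  simp only [mul_assoc]

/-- a nonzero invariant form of an irreducible representation is nondegenerate -/
theorem IsInvForm.isUnit {ρ : Representation ℂ G (Fin n → ℂ)} [hρ : ρ.IsIrreducible]
    {X : Matrix (Fin n) (Fin n) ℂ} (hX : IsInvForm ρ X) (h0 : X ≠ 0) : IsUnit X := by
  let W : Subrepresentation ρ :=
    { toSubmodule := LinearMap.range (Matrix.toLin' X)
      apply_mem_toSubmodule := by
        rintro g v ⟨u, rfl⟩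
        refine ⟨Matrix.toLin' (repMat ρ g⁻¹)ᵀ u, ?_⟩
        rw [← toLin'_repMat ρ g]
        simp only [Matrix.toLin'_apply, Matrix.mulVec_mulVec]
        rw [hX.mul_eq g] }
  have hW : W = ⊥ ∨ W = ⊤ := eq_bot_or_eq_top W
  rcases hW with hW | hW
  · exfalso
    apply h0
    have h1 : LinearMap.range (Matrix.toLin' X) = ⊥ := by
      have := congrArg Subrepresentation.toSubmodule hW
      exact this
    rw [LinearMap.range_eq_bot] at h1
    have := congrArg LinearMap.toMatrix' h1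
    rw [LinearMap.toMatrix'_toLin', map_zero] at this
    exact this
  · rw [← Matrix.mulVec_surjective_iff_isUnit]
    have h1 : LinearMap.range (Matrix.toLin' X) = ⊤ := by
      have := congrArg Subrepresentation.toSubmodule hW
      exact this
    rw [LinearMap.range_eq_top] at h1
    intro v
    obtain ⟨u, hu⟩ := h1 v
    exact ⟨u, by rw [← hu, Matrix.toLin'_apply]⟩

/-- the invariant forms of an irreducible representation are proportional -/
theorem IsInvForm.eq_smul {ρ : Representation ℂ G (Fin n → ℂ)} [hρ : ρ.IsIrreducible]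
    {X Y : Matrix (Fin n) (Fin n) ℂ} (hX : IsInvForm ρ X) (hXu : IsUnit X)
    (hY : IsInvForm ρ Y) : ∃ c : ℂ, Y = c • X := by
  have hdet : IsUnit X.det := (Matrix.isUnit_iff_isUnit_det X).1 hXu
  have hXX : X * X⁻¹ = 1 := Matrix.mul_nonsing_inv X hdet
  have hXX' : X⁻¹ * X = 1 := Matrix.nonsing_inv_mul X hdet
  have hcomm : ∀ g : G, (Y * X⁻¹) * repMat ρ g = repMat ρ g * (Y * X⁻¹) := by
    intro g
    have h1 : (repMat ρ g⁻¹)ᵀ * X⁻¹ = X⁻¹ * repMat ρ g := by
      calc (repMat ρ g⁻¹)ᵀ * X⁻¹ = X⁻¹ * (X * (repMat ρ g⁻¹)ᵀ) * X⁻¹ := by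
            rw [← mul_assoc, hXX', one_mul]
        _ = X⁻¹ * (repMat ρ g * X) * X⁻¹ := by rw [hX.mul_eq g]
        _ = X⁻¹ * repMat ρ g * (X * X⁻¹) := by simp only [mul_assoc]
        _ = X⁻¹ * repMat ρ g := by rw [hXX, mul_one]
    calc (Y * X⁻¹) * repMat ρ g = Y * (X⁻¹ * repMat ρ g) := by rw [mul_assoc]
      _ = Y * ((repMat ρ g⁻¹)ᵀ * X⁻¹) := by rw [h1]
      _ = (Y * (repMat ρ g⁻¹)ᵀ) * X⁻¹ := by rw [mul_assoc]
      _ = (repMat ρ g * Y) * X⁻¹ := by rw [hY.mul_eq g]
      _ = repMat ρ g * (Y * X⁻¹) := by rw [mul_assoc]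
  obtain ⟨c, hc⟩ := exists_smul_id_of_comm ρ (Matrix.toLin' (Y * X⁻¹)) (by
    intro g
    rw [← toLin'_repMat ρ g, ← Matrix.toLin'_mul, ← Matrix.toLin'_mul, hcomm g])
  refine ⟨c, ?_⟩
  have h2 : Y * X⁻¹ = c • (1 : Matrix (Fin n) (Fin n) ℂ) := by
    have := congrArg LinearMap.toMatrix' hc
    rw [LinearMap.toMatrix'_toLin', map_smul, LinearMap.toMatrix'_id] at this
    exact this
  calc Y = Y * (X⁻¹ * X) := by rw [hXX', mul_one]
    _ = (Y * X⁻¹) * X := by rw [mul_assoc]
    _ = c • X := by rw [h2, Matrix.smul_mul, one_mul]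

/-- the sign of an irreducible representation with a nonzero invariant form -/
theorem IsInvForm.exists_sign {ρ : Representation ℂ G (Fin n → ℂ)} [hρ : ρ.IsIrreducible]
    {X : Matrix (Fin n) (Fin n) ℂ} (hX : IsInvForm ρ X) (h0 : X ≠ 0) :
    ∃ ε : ℂ, (ε = 1 ∨ ε = -1) ∧ (∀ Y, IsInvForm ρ Y → Yᵀ = ε • Y) ∧ (ε = -1 → Even n) := by
  have hXu := hX.isUnit h0
  obtain ⟨ε, hε⟩ := hX.eq_smul hXu hX.transpose
  have hsq : ε * ε = 1 := by
    have h1 : X = (ε * ε) • X := by
      calc X = Xᵀᵀ := (Matrix.transpose_transpose X).symm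
        _ = (ε • X)ᵀ := by rw [hε]
        _ = ε • Xᵀ := Matrix.transpose_smul ε X
        _ = (ε * ε) • X := by rw [hε, smul_smul]
    by_contra hne
    apply h0
    have h2 : (ε * ε - 1) • X = 0 := by
      rw [sub_smul, one_smul, ← h1, sub_self]
    rcases smul_eq_zero.mp h2 with h3 | h3
    · exact absurd (sub_eq_zero.mp h3) hne
    · exact h3
  have hε1 : ε = 1 ∨ ε = -1 := by
    have : (ε - 1) * (ε + 1) = 0 := by ring_nf; rw [← sub_eq_zero] at hsq; ring_nf at hsq; linear_combination hsq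
    rcases mul_eq_zero.mp this with h | h
    · left; exact sub_eq_zero.mp h
    · right; exact eq_neg_of_add_eq_zero_left h
  refine ⟨ε, hε1, ?_, ?_⟩
  · intro Y hY
    obtain ⟨c, rfl⟩ := hX.eq_smul hXu hY
    rw [Matrix.transpose_smul, hε, smul_comm]
  · intro hneg
    have hdet : IsUnit X.det := (Matrix.isUnit_iff_isUnit_det X).1 hXu
    have h1 : X.det = (-1) ^ n * X.det := by
      calc X.det = Xᵀ.det := (Matrix.det_transpose X).symm
        _ = (-X).det := by rw [hε, hneg, neg_one_smul]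
        _ = (-1) ^ n * X.det := by rw [Matrix.det_neg, Fintype.card_fin]
    have h2 : ((-1 : ℂ)) ^ n = 1 := by
      have h3 : ((-1 : ℂ) ^ n - 1) * X.det = 0 := by
        rw [sub_mul, one_mul, ← h1, sub_self]
      rcases mul_eq_zero.mp h3 with h4 | h4
      · exact sub_eq_zero.mp h4
      · exact absurd h4 hdet.ne_zero
    exact (neg_one_pow_eq_one_iff_even (by norm_num)).1 h2

theorem sum_comm3 {α β γ : Type*} [Fintype α] [Fintype β] [Fintype γ] (f : α → β → γ → ℂ) :
    ∑ i, ∑ j, ∑ g, f g i j = ∑ g, ∑ i, ∑ j, f g i j := by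
  have h1 : ∀ i : β, ∑ j : γ, ∑ g : α, f g i j = ∑ g : α, ∑ j : γ, f g i j :=
    fun i => Finset.sum_comm
  simp_rw [h1]
  rw [Finset.sum_comm]

theorem mul_single_mul_transpose_apply (A : Matrix (Fin n) (Fin n) ℂ) (i j k l : Fin n) :
    (A * Matrix.single i j (1 : ℂ) * Aᵀ) k l = A k i * A l j := by
  simp only [Matrix.mul_apply, Matrix.single_apply, Matrix.transpose_apply]
  rw [Finset.sum_eq_single j]
  · rw [Finset.sum_eq_single i]
    · simp
    · intro b _ hb
      simp [hb.symm]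
    · intro h; exact absurd (Finset.mem_univ _) h
  · intro b _ hb
    have : ∀ x : Fin n, ¬ (i = x ∧ j = b) := fun x h => hb h.2.symm
    simp [this]
  · intro h; exact absurd (Finset.mem_univ _) h

/-- **Frobenius–Schur**: for a real-valued irreducible character, `Σ_g χ(g²) = ±|G|`, and
the sign `-` forces even degree. -/
theorem sum_character_sq_of_real [Fintype G] (ρ : Representation ℂ G (Fin n → ℂ))
    [hρ : ρ.IsIrreducible] (hreal : ∀ g : G, conj (ρ.character g) = ρ.character g) :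
    ∃ ε : ℂ, (ε = 1 ∨ ε = -1) ∧ ∑ g : G, ρ.character (g * g) = ε * (Nat.card G : ℂ) ∧
      (ε = -1 → Even n) := by
  classical
  have hG0 : (Nat.card G : ℂ) ≠ 0 := card_ne_zero_complex G
  set T : Fin n → Fin n → Matrix (Fin n) (Fin n) ℂ :=
    fun i j => ∑ g : G, repMat ρ g * Matrix.single i j (1 : ℂ) * (repMat ρ g)ᵀ with hT
  have hTinv : ∀ i j, IsInvForm ρ (T i j) := fun i j => sum_isInvForm ρ _
  have hTent : ∀ i j k l, T i j k l = ∑ g : G, repMat ρ g k i * repMat ρ g l j := by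
    intro i j k l
    rw [hT]
    simp only [Matrix.sum_apply, mul_single_mul_transpose_apply]
  have hS1 : ∑ i, ∑ j, T i j i j = (Nat.card G : ℂ) := by
    simp_rw [hTent]
    have h1 := classInner_irr_self ρ
    unfold Cfsg.classInner at h1
    have h2 : ∑ g : G, ρ.character g * conj (ρ.character g) = (Nat.card G : ℂ) := by
      have := congrArg (fun z => (Nat.card G : ℂ) * z) h1
      simp only [← mul_assoc, mul_inv_cancel₀ hG0, one_mul, mul_one] at this
      exact this
    rw [← h2]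
    simp_rw [hreal, character_eq_trace_repMat, Matrix.trace, Matrix.diag_apply]
    simp_rw [Finset.sum_mul_sum]
    exact sum_comm3 _
  have hS2 : ∑ i, ∑ j, T i j j i = ∑ g : G, ρ.character (g * g) := by
    simp_rw [hTent, character_eq_trace_repMat, repMat_mul, Matrix.trace, Matrix.diag_apply,
      Matrix.mul_apply]
    rw [sum_comm3 (fun g i j => repMat ρ g j i * repMat ρ g i j)]
    apply Finset.sum_congr rfl
    intro g _
    rw [Finset.sum_comm]
  -- some `T i j` is nonzero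
  obtain ⟨i, j, hij⟩ : ∃ i j, T i j ≠ 0 := by
    by_contra hcon
    push Not at hcon
    apply hG0
    rw [← hS1]
    simp [hcon]
  obtain ⟨ε, hε1, hεY, hεn⟩ := (hTinv i j).exists_sign hij
  refine ⟨ε, hε1, ?_, hεn⟩
  rw [← hS2, ← hS1, Finset.mul_sum]
  apply Finset.sum_congr rfl
  intro a _
  rw [Finset.mul_sum]
  apply Finset.sum_congr rfl
  intro b _
  have := congrFun (congrFun (hεY _ (hTinv a b)) a) b
  rw [Matrix.transpose_apply, Matrix.smul_apply, smul_eq_mul] at this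
  exact this

/-- an irreducible representation with a nonzero invariant form has a real character -/
theorem IsInvForm.character_real [Finite G] {ρ : Representation ℂ G (Fin n → ℂ)}
    [hρ : ρ.IsIrreducible] {X : Matrix (Fin n) (Fin n) ℂ} (hX : IsInvForm ρ X) (h0 : X ≠ 0)
    (g : G) : conj (ρ.character g) = ρ.character g := by
  have hXu := hX.isUnit h0
  have hdet : IsUnit X.det := (Matrix.isUnit_iff_isUnit_det X).1 hXu
  have hXX' : X⁻¹ * X = 1 := Matrix.nonsing_inv_mul X hdet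
  have hXX : X * X⁻¹ = 1 := Matrix.mul_nonsing_inv X hdet
  rw [← character_inv, character_eq_trace_repMat, character_eq_trace_repMat]
  have h1 : repMat ρ g = X * (repMat ρ g⁻¹)ᵀ * X⁻¹ := by
    rw [← hX.mul_eq g, mul_assoc, hXX, mul_one]
  conv_rhs => rw [h1]
  rw [Matrix.trace_mul_cycle, hXX', one_mul, Matrix.trace_transpose]

/-- **Frobenius–Schur**, trichotomy: `Σ_g χ(g²) ∈ {|G|, -|G|, 0}` -/
theorem sum_character_sq_cases [Fintype G] (ρ : Representation ℂ G (Fin n → ℂ))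
    [hρ : ρ.IsIrreducible] :
    ∑ g : G, ρ.character (g * g) = (Nat.card G : ℂ) ∨
      ∑ g : G, ρ.character (g * g) = -(Nat.card G : ℂ) ∨
      ∑ g : G, ρ.character (g * g) = 0 := by
  classical
  set T : Fin n → Fin n → Matrix (Fin n) (Fin n) ℂ :=
    fun i j => ∑ g : G, repMat ρ g * Matrix.single i j (1 : ℂ) * (repMat ρ g)ᵀ with hT
  have hTinv : ∀ i j, IsInvForm ρ (T i j) := fun i j => sum_isInvForm ρ _
  have hTent : ∀ i j k l, T i j k l = ∑ g : G, repMat ρ g k i * repMat ρ g l j := by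
    intro i j k l
    rw [hT]
    simp only [Matrix.sum_apply, mul_single_mul_transpose_apply]
  have hS2 : ∑ i, ∑ j, T i j j i = ∑ g : G, ρ.character (g * g) := by
    simp_rw [hTent, character_eq_trace_repMat, repMat_mul, Matrix.trace, Matrix.diag_apply,
      Matrix.mul_apply]
    rw [sum_comm3 (fun g i j => repMat ρ g j i * repMat ρ g i j)]
    apply Finset.sum_congr rfl
    intro g _
    rw [Finset.sum_comm]
  by_cases hex : ∃ i j, T i j ≠ 0
  · obtain ⟨i, j, hij⟩ := hex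
    obtain ⟨ε, h1, h2, _⟩ := sum_character_sq_of_real ρ ((hTinv i j).character_real hij)
    rcases h1 with h1 | h1
    · left; rw [h2, h1, one_mul]
    · right; left; rw [h2, h1, neg_one_mul]
  · push Not at hex
    right; right
    rw [← hS2]
    simp [hex]

/-- **Frobenius–Schur**, trichotomy, character form -/
theorem IsIrrCharacter.sum_sq_cases [Fintype G] {χ : G → ℂ} (hχ : Cfsg.IsIrrCharacter G χ) :
    ∑ g : G, χ (g * g) = (Nat.card G : ℂ) ∨ ∑ g : G, χ (g * g) = -(Nat.card G : ℂ) ∨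
      ∑ g : G, χ (g * g) = 0 := by
  obtain ⟨n, ρ, hρ, rfl⟩ := hχ
  exact sum_character_sq_cases ρ

/-- **Frobenius–Schur**, character form -/
theorem IsIrrCharacter.sum_sq_of_real [Fintype G] {χ : G → ℂ} (hχ : Cfsg.IsIrrCharacter G χ)
    (hreal : ∀ g : G, conj (χ g) = χ g) :
    ∃ ε : ℂ, (ε = 1 ∨ ε = -1) ∧ ∑ g : G, χ (g * g) = ε * (Nat.card G : ℂ) ∧
      (ε = -1 → Even (Cfsg.charDegree χ)) := by
  obtain ⟨n, ρ, hρ, rfl⟩ := hχ
  obtain ⟨ε, h1, h2, h3⟩ := sum_character_sq_of_real ρ hreal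
  refine ⟨ε, h1, h2, ?_⟩
  intro hε
  rw [charDegree_character, Module.finrank_fin_fun]
  exact h3 hε

/-- a real-valued irreducible character of odd degree has Frobenius–Schur indicator `1` -/
theorem IsIrrCharacter.sum_sq_of_real_of_odd [Fintype G] {χ : G → ℂ}
    (hχ : Cfsg.IsIrrCharacter G χ) (hreal : ∀ g : G, conj (χ g) = χ g)
    (hodd : Odd (Cfsg.charDegree χ)) : ∑ g : G, χ (g * g) = (Nat.card G : ℂ) := by
  obtain ⟨ε, h1, h2, h3⟩ := IsIrrCharacter.sum_sq_of_real hχ hreal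
  rcases h1 with h1 | h1
  · rw [h2, h1, one_mul]
  · exact absurd (h3 h1) (Nat.not_even_iff_odd.mpr hodd)

end

end Cfsg.Agent.Lib.Helper6
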