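import Mathlib
import Cfsg.Agent.Lib.Helper6.FrobSchur
import Cfsg.Agent.Lib.Helper7.AltEven

/-! # Parity of multiplicities of real linear characters in a quaternionic irreducible character -/

set_option autoImplicit false
set_option linter.unusedSectionVars false
open Cfsg

namespace Cfsg.Agent.Lib.Helper6.Td

open Matrix
open scoped ComplexConjugate
open Cfsg.Agent.Lib.Helper6

section

variable {G : Type*} [Group G] {n : ℕ}

/-- `Σ_g χ(g²) = ε |G|` when all invariant forms satisfy `Yᵀ = ε Y` -/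
theorem sum_character_sq_eq_of_sign [Fintype G] (ρ : Representation ℂ G (Fin n → ℂ))
    [hρ : ρ.IsIrreducible] (hreal : ∀ g : G, conj (ρ.character g) = ρ.character g) (ε : ℂ)
    (hεY : ∀ Y, IsInvForm ρ Y → Yᵀ = ε • Y) :
    ∑ g : G, ρ.character (g * g) = ε * (Nat.card G : ℂ) := by
  classical
  have hG0 : (Nat.card G : ℂ) ≠ 0 := card_ne_zero_complex G
  set T : Fin n → Fin n → Matrix (Fin n) (Fin n) ℂ :=
    fun i j => ∑ g : G, repMat ρ g * Matrix.single i j (1 : ℂ) * (repMat ρ g)ᵀ with hT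
  have hTinv : ∀ i j, IsInvForm ρ (T i j) := fun i j => sum_isInvForm ρ _
  have hTent : ∀ i j k l, T i j k l = ∑ g : G, repMat ρ g k i * repMat ρ g l j := by
    intro i j k l
    rw [hT]
    simp only [Matrix.sum_apply, mul_single_mul_transpose_apply]
  have hS1 : ∑ i, ∑ j, T i j i j = (Nat.card G : ℂ) := by
    simp_rw [hTent]
    have h1 := classInner_irr_self ρ
    unfold Cfsg.classInner at h1
    have h2 : ∑ g : G, ρ.character g * conj (ρ.character g) = (Nat.card G : ℂ) := by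
      have := congrArg (fun z => (Nat.card G : ℂ) * z) h1
      simp only [← mul_assoc, mul_inv_cancel₀ hG0, one_mul, mul_one] at this
      exact this
    rw [← h2]
    simp_rw [hreal, character_eq_trace_repMat, Matrix.trace, Matrix.diag_apply]
    simp_rw [Finset.sum_mul_sum]
    exact sum_comm3 _
  have hS2 : ∑ i, ∑ j, T i j j i = ∑ g : G, ρ.character (g * g) := by
    simp_rw [hTent, character_eq_trace_repMat, repMat_mul, Matrix.trace, Matrix.diag_apply,
      Matrix.mul_apply]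
    rw [sum_comm3 (fun g i j => repMat ρ g j i * repMat ρ g i j)]
    apply Finset.sum_congr rfl
    intro g _
    rw [Finset.sum_comm]
  rw [← hS2, ← hS1, Finset.mul_sum]
  apply Finset.sum_congr rfl
  intro a _
  rw [Finset.mul_sum]
  apply Finset.sum_congr rfl
  intro b _
  have := congrFun (congrFun (hεY _ (hTinv a b)) a) b
  rw [Matrix.transpose_apply, Matrix.smul_apply, smul_eq_mul] at this
  exact this

/-- an irreducible representation with `Σ_g χ(g²) = -|G|` has an invertible alternating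
invariant form -/
theorem exists_altForm [Fintype G] (ρ : Representation ℂ G (Fin n → ℂ)) [hρ : ρ.IsIrreducible]
    (hq : ∑ g : G, ρ.character (g * g) = -(Nat.card G : ℂ)) :
    ∃ X : Matrix (Fin n) (Fin n) ℂ, IsInvForm ρ X ∧ IsUnit X ∧ Xᵀ = -X := by
  classical
  have hG0 : (Nat.card G : ℂ) ≠ 0 := card_ne_zero_complex G
  set T : Fin n → Fin n → Matrix (Fin n) (Fin n) ℂ :=
    fun i j => ∑ g : G, repMat ρ g * Matrix.single i j (1 : ℂ) * (repMat ρ g)ᵀ with hT
  have hTinv : ∀ i j, IsInvForm ρ (T i j) := fun i j => sum_isInvForm ρ _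
  have hTent : ∀ i j k l, T i j k l = ∑ g : G, repMat ρ g k i * repMat ρ g l j := by
    intro i j k l
    rw [hT]
    simp only [Matrix.sum_apply, mul_single_mul_transpose_apply]
  have hS2 : ∑ i, ∑ j, T i j j i = ∑ g : G, ρ.character (g * g) := by
    simp_rw [hTent, character_eq_trace_repMat, repMat_mul, Matrix.trace, Matrix.diag_apply,
      Matrix.mul_apply]
    rw [sum_comm3 (fun g i j => repMat ρ g j i * repMat ρ g i j)]
    apply Finset.sum_congr rfl
    intro g _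
    rw [Finset.sum_comm]
  obtain ⟨i, j, hij⟩ : ∃ i j, T i j ≠ 0 := by
    by_contra hcon
    push Not at hcon
    have : ∑ g : G, ρ.character (g * g) = 0 := by
      rw [← hS2]; simp [hcon]
    rw [this] at hq
    apply hG0
    have := neg_eq_zero.mp hq.symm
    exact this
  have hreal := (hTinv i j).character_real hij
  obtain ⟨ε, hε1, hεY, _⟩ := (hTinv i j).exists_sign hij
  have hsum := sum_character_sq_eq_of_sign ρ hreal ε hεY
  rw [hq] at hsum
  have hε : ε = -1 := by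
    have h1 : (ε + 1) * (Nat.card G : ℂ) = 0 := by linear_combination -hsum
    rcases mul_eq_zero.mp h1 with h | h
    · exact eq_neg_of_add_eq_zero_left h
    · exact absurd h hG0
  refine ⟨T i j, hTinv i j, (hTinv i j).isUnit hij, ?_⟩
  rw [hεY _ (hTinv i j), hε, neg_one_smul]

/-- the scaled form of `alt_even` -/
theorem trace_even_of_sq {X e : Matrix (Fin n) (Fin n) ℂ} (hX : Xᵀ = -X) (hXu : IsUnit X)
    (c : ℕ) (hc : c ≠ 0) (he : e * e = (c : ℂ) • e) (heX : e * X = X * eᵀ) :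
    ∃ k : ℕ, e.trace = 2 * (c : ℂ) * (k : ℂ) := by
  have hc0 : (c : ℂ) ≠ 0 := by exact_mod_cast hc
  obtain ⟨k, hk⟩ := Cfsg.Agent.Lib.Helper7.AltEven.alt_even X ((c : ℂ)⁻¹ • e) hX hXu
    (by
      rw [Matrix.smul_mul, Matrix.mul_smul, he, smul_smul, smul_smul]
      congr 1
      field_simp)
    (by
      rw [Matrix.smul_mul, Matrix.transpose_smul, Matrix.mul_smul, heX])
  refine ⟨k, ?_⟩
  rw [Matrix.trace_smul, smul_eq_mul] at hk
  have : e.trace = (c : ℂ) * ((c : ℂ)⁻¹ * e.trace) := by field_simp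
  rw [this, hk]; ring

/-- products of three commuting quasi-idempotents -/
theorem three_factor {X e₁ e₂ e₃ : Matrix (Fin n) (Fin n) ℂ} (c₁ c₂ c₃ : ℕ)
    (h₁ : e₁ * e₁ = (c₁ : ℂ) • e₁) (h₂ : e₂ * e₂ = (c₂ : ℂ) • e₂) (h₃ : e₃ * e₃ = (c₃ : ℂ) • e₃)
    (h₁₂ : e₁ * e₂ = e₂ * e₁) (h₁₃ : e₁ * e₃ = e₃ * e₁) (h₂₃ : e₂ * e₃ = e₃ * e₂)
    (x₁ : e₁ * X = X * e₁ᵀ) (x₂ : e₂ * X = X * e₂ᵀ) (x₃ : e₃ * X = X * e₃ᵀ) :
    (e₁ * e₂ * e₃) * (e₁ * e₂ * e₃) = ((c₁ * c₂ * c₃ : ℕ) : ℂ) • (e₁ * e₂ * e₃) ∧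
      (e₁ * e₂ * e₃) * X = X * (e₁ * e₂ * e₃)ᵀ := by
  constructor
  · calc (e₁ * e₂ * e₃) * (e₁ * e₂ * e₃) = e₁ * e₂ * (e₃ * e₁) * e₂ * e₃ := by
          simp only [mul_assoc]
      _ = e₁ * (e₂ * e₁) * (e₃ * e₂) * e₃ := by rw [← h₁₃]; simp only [mul_assoc]
      _ = (e₁ * e₁) * (e₂ * e₂) * (e₃ * e₃) := by rw [← h₁₂, ← h₂₃]; simp only [mul_assoc]
      _ = ((c₁ * c₂ * c₃ : ℕ) : ℂ) • (e₁ * e₂ * e₃) := by
          rw [h₁, h₂, h₃]
          simp only [Matrix.smul_mul, Matrix.mul_smul, smul_smul]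
          congr 1
          push_cast; ring
  · have hrev : e₃ * e₂ * e₁ = e₁ * e₂ * e₃ := by
      calc e₃ * e₂ * e₁ = e₂ * e₃ * e₁ := by rw [h₂₃]
        _ = e₂ * (e₃ * e₁) := by rw [mul_assoc]
        _ = e₂ * (e₁ * e₃) := by rw [h₁₃]
        _ = (e₂ * e₁) * e₃ := by rw [mul_assoc]
        _ = e₁ * e₂ * e₃ := by rw [h₁₂]
    calc (e₁ * e₂ * e₃) * X = e₁ * e₂ * (e₃ * X) := by simp only [mul_assoc]
      _ = e₁ * (e₂ * X) * e₃ᵀ := by rw [x₃]; simp only [mul_assoc]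
      _ = (e₁ * X) * e₂ᵀ * e₃ᵀ := by rw [x₂]; simp only [mul_assoc]
      _ = X * (e₁ᵀ * e₂ᵀ * e₃ᵀ) := by rw [x₁]; simp only [mul_assoc]
      _ = X * (e₃ * e₂ * e₁)ᵀ := by
          rw [Matrix.transpose_mul, Matrix.transpose_mul]; simp only [mul_assoc]
      _ = X * (e₁ * e₂ * e₃)ᵀ := by rw [hrev]

end

end Cfsg.Agent.Lib.Helper6.Td
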