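import Mathlib

/-! # The six admissible sign patterns of the principal 3-block for `N(P) = 3² : D₈` -/

set_option autoImplicit false

namespace Cfsg.Agent.Lib.Helper6.Td

/-- the six admissible sign patterns of the signed degrees `e, y, y', z` of the principal block
(the four other signed degrees being `-(1 + y' + z)`, `-(e + y + z)`, `-(1 + y + z)`,
`-(e + y' + z)`) -/
def SignPat (e y y' z : ℤ) : Prop :=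
  (0 < e ∧ 0 < y ∧ 0 < y' ∧ 0 < z ∧ 0 < 1 + y' + z ∧ 0 < e + y + z ∧ 0 < 1 + y + z ∧
    0 < e + y' + z) ∨
  (0 < e ∧ 0 < y ∧ 0 < y' ∧ z < 0 ∧ 1 + y' + z < 0 ∧ e + y + z < 0 ∧ 1 + y + z < 0 ∧
    e + y' + z < 0) ∨
  (e < 0 ∧ 0 < y ∧ 0 < y' ∧ 0 < z ∧ 0 < 1 + y' + z ∧ e + y + z < 0 ∧ 0 < 1 + y + z ∧
    e + y' + z < 0) ∨
  (0 < e ∧ y < 0 ∧ 0 < y' ∧ 0 < z ∧ 0 < 1 + y' + z ∧ e + y + z < 0 ∧ 1 + y + z < 0 ∧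
    0 < e + y' + z) ∨
  (0 < e ∧ 0 < y ∧ y' < 0 ∧ 0 < z ∧ 1 + y' + z < 0 ∧ 0 < e + y + z ∧ 0 < 1 + y + z ∧
    e + y' + z < 0) ∨
  (0 < e ∧ y < 0 ∧ y' < 0 ∧ 0 < z ∧ 1 + y' + z < 0 ∧ e + y + z < 0 ∧ 1 + y + z < 0 ∧
    e + y' + z < 0)

end Cfsg.Agent.Lib.Helper6.Td
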