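import Mathlib
import Cfsg.Agent.Lib.Helper3.IC2

set_option autoImplicit false

/-!
# Involutory automorphisms inverting few elements of odd order (part A: basics)

`invSet α` is the set of elements of odd order inverted by `α`, `mInv α` its cardinality, `fixSub α`
the subgroup of fixed points, and `Adm α` says `α² = 1` and `[G, α] = G`.  Main facts: an
admissible group is generated by `invSet α`, an element commuting with `invSet α` is central, and a
fixed-point subgroup meeting the centre trivially has order at most `(mInv α)!`.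
-/

namespace Cfsg.Agent.Lib.Helper6.Inv

universe u

variable {G : Type u} [Group G]

/-- the elements of odd order inverted by `α` -/
def invSet (α : MulAut G) : Set G := {g | Odd (orderOf g) ∧ α g = g⁻¹}

/-- the number of elements of odd order inverted by `α` -/
noncomputable def mInv (α : MulAut G) : ℕ := Nat.card (invSet α)

/-- the subgroup of fixed points of `α` -/
def fixSub (α : MulAut G) : Subgroup G where
  carrier := {g | α g = g}
  mul_mem' := by
    intro a b ha hb
    show α (a * b) = a * b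
    rw [map_mul, show α a = a from ha, show α b = b from hb]
  one_mem' := map_one α
  inv_mem' := by
    intro a ha
    show α a⁻¹ = a⁻¹
    rw [map_inv, show α a = a from ha]

theorem mem_fixSub {α : MulAut G} {g : G} : g ∈ fixSub α ↔ α g = g := Iff.rfl

/-- admissible: `α² = 1` and `[G, α] = G` -/
structure Adm (α : MulAut G) : Prop where
  sq : ∀ g, α (α g) = g
  gen : Subgroup.closure (Set.range (fun c : G => c * (α c)⁻¹)) = ⊤

theorem sq_of_orderOf_two {α : MulAut G} (h : orderOf α = 2) (g : G) : α (α g) = g := by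
  have h1 : α ^ 2 = 1 := by rw [← h]; exact pow_orderOf_eq_one α
  have h2 : (α ^ 2) g = g := by rw [h1]; rfl
  rwa [pow_two, MulAut.mul_apply] at h2

theorem mem_invSet {α : MulAut G} {g : G} : g ∈ invSet α ↔ Odd (orderOf g) ∧ α g = g⁻¹ := Iff.rfl

theorem one_mem_invSet (α : MulAut G) : (1 : G) ∈ invSet α := by
  refine ⟨?_, ?_⟩
  · rw [orderOf_one]; exact odd_one
  · rw [map_one, inv_one]

theorem pow_mem_invSet {α : MulAut G} {x : G} (hx : x ∈ invSet α) (k : ℕ) : x ^ k ∈ invSet α := by
  refine ⟨Odd.of_dvd_nat hx.1 (orderOf_pow_dvd k), ?_⟩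
  rw [map_pow, hx.2, inv_pow]

theorem zpow_mem_invSet {α : MulAut G} {x : G} (hx : x ∈ invSet α) (k : ℤ) : x ^ k ∈ invSet α := by
  refine ⟨?_, ?_⟩
  · apply Odd.of_dvd_nat hx.1
    apply orderOf_dvd_of_pow_eq_one
    rw [← zpow_natCast, ← zpow_mul, mul_comm, zpow_mul, zpow_natCast, pow_orderOf_eq_one, one_zpow]
  · rw [map_zpow, hx.2, inv_zpow]

theorem inv_mem_invSet {α : MulAut G} {x : G} (hx : x ∈ invSet α) : x⁻¹ ∈ invSet α := by
  have := zpow_mem_invSet hx (-1)
  rwa [zpow_neg_one] at this

theorem cm_inverted {α : MulAut G} (h : ∀ g, α (α g) = g) (c : G) :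
    α (c * (α c)⁻¹) = (c * (α c)⁻¹)⁻¹ := by
  rw [map_mul, map_inv, h, mul_inv_rev, inv_inv]

theorem pow_inverted {α : MulAut G} {y : G} (hy : α y = y⁻¹) (k : ℕ) : α (y ^ k) = (y ^ k)⁻¹ := by
  rw [map_pow, hy, inv_pow]

/-- the odd part of an inverted element lies in `invSet` -/
theorem pow_two_pow_mem_invSet [Finite G] {α : MulAut G} {y : G} (hy : α y = y⁻¹) :
    y ^ (2 ^ Nat.card G) ∈ invSet α := by
  refine ⟨?_, pow_inverted hy _⟩
  obtain ⟨a, b, hb, hab⟩ := Nat.exists_eq_two_pow_mul_odd (orderOf_pos y).ne'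
  have ha : a ≤ Nat.card G := by
    have h1 : 2 ^ a ≤ orderOf y := by
      rw [hab]; exact Nat.le_mul_of_pos_right _ hb.pos
    have h2 : orderOf y ≤ Nat.card G := orderOf_le_card
    have h3 : Nat.card G < 2 ^ Nat.card G := Nat.lt_two_pow_self
    have h4 : 2 ^ a < 2 ^ Nat.card G := lt_of_le_of_lt (le_trans h1 h2) h3
    exact le_of_lt ((Nat.pow_lt_pow_iff_right (by norm_num)).mp h4)
  apply Odd.of_dvd_nat hb
  apply orderOf_dvd_of_pow_eq_one
  have h5 : 2 ^ Nat.card G * b = orderOf y * 2 ^ (Nat.card G - a) := by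
    rw [hab]
    conv_lhs => rw [← Nat.add_sub_cancel' ha, pow_add]
    ring
  rw [← pow_mul, h5, pow_mul, pow_orderOf_eq_one, one_pow]

theorem iterate_inverted {α : MulAut G} {y : G} (hy : α y = y⁻¹) (j : ℕ) :
    (fun c : G => c * (α c)⁻¹)^[j] y = y ^ (2 ^ j) := by
  induction j with
  | zero => simp
  | succ j ih =>
    rw [Function.iterate_succ_apply', ih]
    show y ^ 2 ^ j * (α (y ^ 2 ^ j))⁻¹ = y ^ 2 ^ (j + 1)
    rw [pow_inverted hy, inv_inv, ← pow_add, pow_succ, mul_two]

/-- an admissible group is generated by the odd-order elements inverted by `α` -/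
theorem closure_invSet [Finite G] {α : MulAut G} (hA : Adm α) :
    Subgroup.closure (invSet α) = ⊤ := by
  have h := Cfsg.Agent.Lib.Helper3.IC.iterated_commutators_generate α hA.gen (Nat.card G + 1)
  rw [eq_top_iff, ← h]
  apply Subgroup.closure_mono
  rintro _ ⟨c, rfl⟩
  rw [Function.iterate_succ_apply, iterate_inverted (cm_inverted hA.sq c)]
  exact pow_two_pow_mem_invSet (cm_inverted hA.sq c)

/-- an element commuting with all of `invSet α` is central -/
theorem mem_center_of_commute [Finite G] {α : MulAut G} (hA : Adm α) {g : G}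
    (h : ∀ x ∈ invSet α, x * g = g * x) : g ∈ Subgroup.center G := by
  have h1 : Subgroup.closure (invSet α) ≤ Subgroup.centralizer ({g} : Set G) := by
    rw [Subgroup.closure_le]
    intro x hx
    rw [SetLike.mem_coe, Subgroup.mem_centralizer_iff]
    intro y hy
    rw [Set.mem_singleton_iff] at hy
    rw [hy]
    exact (h x hx).symm
  rw [closure_invSet hA] at h1
  rw [Subgroup.mem_center_iff]
  intro y
  have h2 : y ∈ Subgroup.centralizer ({g} : Set G) := h1 (Subgroup.mem_top y)
  rw [Subgroup.mem_centralizer_iff] at h2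
  exact (h2 g rfl).symm

theorem mInv_pos [Finite G] (α : MulAut G) : 0 < mInv α := by
  have : Nonempty (invSet α) := ⟨⟨1, one_mem_invSet α⟩⟩
  exact Nat.card_pos

/-- a nontrivial admissible group has a nontrivial inverted element of odd order -/
theorem exists_ne_one [Finite G] [Nontrivial G] {α : MulAut G} (hA : Adm α) :
    ∃ x ∈ invSet α, x ≠ 1 := by
  by_contra hcon
  push Not at hcon
  have h1 : Subgroup.closure (invSet α) ≤ ⊥ := by
    rw [Subgroup.closure_le]
    intro x hx
    rw [SetLike.mem_coe, Subgroup.mem_bot]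
    exact hcon x hx
  rw [closure_invSet hA] at h1
  obtain ⟨g, hg⟩ := exists_ne (1 : G)
  exact hg (Subgroup.mem_bot.mp (h1 (Subgroup.mem_top g)))

theorem two_le_mInv [Finite G] [Nontrivial G] {α : MulAut G} (hA : Adm α) : 2 ≤ mInv α := by
  obtain ⟨x, hx, hx1⟩ := exists_ne_one hA
  haveI : Finite (invSet α) := Subtype.finite
  have : 1 < Nat.card (invSet α) := by
    rw [Finite.one_lt_card_iff_nontrivial]
    exact ⟨⟨⟨x, hx⟩, ⟨1, one_mem_invSet α⟩, fun h => hx1 (congrArg Subtype.val h)⟩⟩
  exact this

/-- the order of an inverted element of odd order is at most `mInv α` -/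
theorem orderOf_le_mInv [Finite G] {α : MulAut G} {x : G} (hx : x ∈ invSet α) :
    orderOf x ≤ mInv α := by
  rw [← Nat.card_zpowers]
  apply Nat.card_mono (Set.toFinite _)
  rintro y ⟨k, rfl⟩
  exact zpow_mem_invSet hx k

/-- conjugation by a fixed point preserves `invSet` -/
theorem conj_mem_invSet {α : MulAut G} {c x : G} (hc : α c = c) (hx : x ∈ invSet α) :
    c * x * c⁻¹ ∈ invSet α := by
  refine ⟨?_, ?_⟩
  · have h1 : orderOf (c * x * c⁻¹) = orderOf x := MulEquiv.orderOf_eq (MulAut.conj c) x
    rw [h1]; exact hx.1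
  · rw [map_mul, map_mul, map_inv, hc, hx.2, mul_inv_rev, mul_inv_rev, inv_inv, mul_assoc]

/-- if the fixed-point subgroup meets the centre trivially, its order is at most `(mInv α)!` -/
theorem card_fixSub_le [Finite G] {α : MulAut G} (hA : Adm α)
    (hZ : ∀ g : G, α g = g → g ∈ Subgroup.center G → g = 1) :
    Nat.card (fixSub α) ≤ (mInv α).factorial := by
  classical
  haveI : Finite (invSet α) := Subtype.finite
  let F : fixSub α → Equiv.Perm (invSet α) := fun c =>
    { toFun := fun x => ⟨(c : G) * x * (c : G)⁻¹, conj_mem_invSet c.2 x.2⟩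
      invFun := fun x => ⟨(c : G)⁻¹ * x * ((c : G)⁻¹)⁻¹,
        conj_mem_invSet ((fixSub α).inv_mem c.2) x.2⟩
      left_inv := by
        intro x
        apply Subtype.ext
        show (c : G)⁻¹ * ((c : G) * x * (c : G)⁻¹) * ((c : G)⁻¹)⁻¹ = x
        group
      right_inv := by
        intro x
        apply Subtype.ext
        show (c : G) * ((c : G)⁻¹ * x * ((c : G)⁻¹)⁻¹) * (c : G)⁻¹ = x
        group }
  have hF : Function.Injective F := by
    intro c d hcd
    have h1 : ∀ x ∈ invSet α, x * ((d : G)⁻¹ * c) = ((d : G)⁻¹ * c) * x := by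
      intro x hx
      have h2 := congrArg (fun e : Equiv.Perm (invSet α) => ((e ⟨x, hx⟩ : invSet α) : G)) hcd
      have h3 : (c : G) * x * (c : G)⁻¹ = (d : G) * x * (d : G)⁻¹ := h2
      have h6 : (d : G)⁻¹ * c * x = x * ((d : G)⁻¹ * c) := by
        calc (d : G)⁻¹ * c * x = (d : G)⁻¹ * ((c : G) * x * (c : G)⁻¹) * c := by group
          _ = (d : G)⁻¹ * ((d : G) * x * (d : G)⁻¹) * c := by rw [h3]
          _ = x * ((d : G)⁻¹ * c) := by group
      exact h6.symm
    have h8 := mem_center_of_commute hA h1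
    have h9 : α ((d : G)⁻¹ * c) = (d : G)⁻¹ * c := by
      rw [map_mul, map_inv, show α (d : G) = d from d.2, show α (c : G) = c from c.2]
    have h10 := hZ _ h9 h8
    apply Subtype.ext
    have : (c : G) = d := by
      have := congrArg (fun z => (d : G) * z) h10
      simpa using this
    exact this
  calc Nat.card (fixSub α) ≤ Nat.card (Equiv.Perm (invSet α)) := Nat.card_le_card_of_injective F hF
    _ = (mInv α).factorial := by
        rw [Nat.card_perm]; rfl

end Cfsg.Agent.Lib.Helper6.Inv
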