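import Mathlib
import Cfsg.Agent.Lib.Helper6.InvA

set_option autoImplicit false

/-!
# Involutory automorphisms inverting few elements of odd order (part B: quotients, Schur bound)

Equivariant surjections: admissibility passes to the image, inverted elements of odd order lift,
`mInv` does not increase and drops when a nontrivial inverted element is killed.  The induced
automorphism on a quotient.  The abelianization of an admissible group has order at most `mInv`,
hence `|G| ≤ mInv · schurB |G : Z(G)|`.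
-/

namespace Cfsg.Agent.Lib.Helper6.Inv

open scoped commutatorElement

universe u v

variable {G : Type u} [Group G] {K : Type v} [Group K]

theorem Adm.map {α : MulAut G} {β : MulAut K} (π : G →* K) (hπ : Function.Surjective π)
    (hc : ∀ g, π (α g) = β (π g)) (hA : Adm α) : Adm β := by
  refine ⟨?_, ?_⟩
  · intro k
    obtain ⟨g, rfl⟩ := hπ k
    rw [← hc, ← hc, hA.sq]
  · have h1 : Set.range (fun c : K => c * (β c)⁻¹)
        = π '' Set.range (fun c : G => c * (α c)⁻¹) := by
      ext k
      constructor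
      · rintro ⟨c, rfl⟩
        obtain ⟨g, rfl⟩ := hπ c
        exact ⟨g * (α g)⁻¹, ⟨g, rfl⟩, by rw [map_mul, map_inv, hc]⟩
      · rintro ⟨_, ⟨g, rfl⟩, rfl⟩
        exact ⟨π g, by rw [map_mul, map_inv, hc]⟩
    rw [h1, ← MonoidHom.map_closure, hA.gen]
    exact Subgroup.map_top_of_surjective π hπ

theorem map_mem_invSet {α : MulAut G} {β : MulAut K} (π : G →* K)
    (hc : ∀ g, π (α g) = β (π g)) {x : G} (hx : x ∈ invSet α) : π x ∈ invSet β :=
  ⟨Odd.of_dvd_nat hx.1 (orderOf_map_dvd π x), by rw [← hc, hx.2, map_inv]⟩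

/-- inverted elements of odd order lift along equivariant surjections -/
theorem exists_lift [Finite G] {α : MulAut G} {β : MulAut K} (π : G →* K)
    (hπ : Function.Surjective π) (hc : ∀ g, π (α g) = β (π g)) (hsq : ∀ g, α (α g) = g)
    {k : K} (hk : k ∈ invSet β) : ∃ g ∈ invSet α, π g = k := by
  by_cases h1 : orderOf k = 1
  · refine ⟨1, one_mem_invSet α, ?_⟩
    rw [map_one]; exact (orderOf_eq_one_iff.mp h1).symm
  have hpos : 0 < orderOf k := hk.1.pos
  have hlt : 1 < orderOf k := by omega
  obtain ⟨j, hj⟩ := hk.1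
  obtain ⟨y, hy⟩ : ∃ y : K, y = k ^ (j + 1) := ⟨_, rfl⟩
  have hyy : y * y = k := by
    rw [hy, ← pow_add, show j + 1 + (j + 1) = orderOf k + 1 by omega, pow_succ,
      pow_orderOf_eq_one, one_mul]
  have hyinv : β y = y⁻¹ := by rw [hy]; exact (pow_mem_invSet hk (j + 1)).2
  obtain ⟨g0, hg0⟩ := hπ y
  obtain ⟨w, hw⟩ : ∃ w : G, w = g0 * (α g0)⁻¹ := ⟨_, rfl⟩
  have hwinv : α w = w⁻¹ := by rw [hw]; exact cm_inverted hsq g0
  have hπw : π w = k := by
    rw [hw, map_mul, map_inv, hc, hg0, hyinv, inv_inv, hyy]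
  have hcop : Nat.Coprime (2 ^ Nat.card G) (orderOf k) := by
    apply Nat.Coprime.pow_left
    rw [Nat.coprime_two_left]
    exact hk.1
  obtain ⟨t, -, ht⟩ := Nat.exists_mul_mod_eq_one_of_coprime hcop hlt
  refine ⟨(w ^ (2 ^ Nat.card G)) ^ t, pow_mem_invSet (pow_two_pow_mem_invSet hwinv) t, ?_⟩
  rw [map_pow, map_pow, hπw, ← pow_mul, ← pow_mod_orderOf, ht, pow_one]

theorem mInv_le [Finite G] {α : MulAut G} {β : MulAut K} (π : G →* K)
    (hπ : Function.Surjective π) (hc : ∀ g, π (α g) = β (π g)) (hsq : ∀ g, α (α g) = g) :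
    mInv β ≤ mInv α := by
  haveI : Finite (invSet α) := Subtype.finite
  let f : invSet α → invSet β := fun x => ⟨π x, map_mem_invSet π hc x.2⟩
  have hf : Function.Surjective f := by
    rintro ⟨k, hk⟩
    obtain ⟨g, hg, hgk⟩ := exists_lift π hπ hc hsq hk
    exact ⟨⟨g, hg⟩, Subtype.ext hgk⟩
  exact Nat.card_le_card_of_surjective f hf

theorem mInv_lt [Finite G] {α : MulAut G} {β : MulAut K} (π : G →* K)
    (hπ : Function.Surjective π) (hc : ∀ g, π (α g) = β (π g)) (hsq : ∀ g, α (α g) = g)
    {x : G} (hx : x ∈ invSet α) (hx1 : x ≠ 1) (hπx : π x = 1) : mInv β < mInv α := by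
  haveI : Finite (invSet α) := Subtype.finite
  let f : invSet α → invSet β := fun x => ⟨π x, map_mem_invSet π hc x.2⟩
  have hf : Function.Surjective f := by
    rintro ⟨k, hk⟩
    obtain ⟨g, hg, hgk⟩ := exists_lift π hπ hc hsq hk
    exact ⟨⟨g, hg⟩, Subtype.ext hgk⟩
  by_contra hcon
  push Not at hcon
  have heq : Nat.card (invSet α) = Nat.card (invSet β) :=
    le_antisymm hcon (mInv_le π hπ hc hsq)
  have hbij : Function.Bijective f := (Nat.bijective_iff_surjective_and_card f).mpr ⟨hf, heq⟩
  have h2 : f ⟨x, hx⟩ = f ⟨1, one_mem_invSet α⟩ := by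
    apply Subtype.ext
    show π x = π 1
    rw [hπx, map_one]
  exact hx1 (congrArg Subtype.val (hbij.1 h2))

/-! ### quotients -/

theorem map_eq_of_invariant {α : MulAut G} (hsq : ∀ g, α (α g) = g) (N : Subgroup G)
    (hN : ∀ n ∈ N, α n ∈ N) : N.map (α : G ≃* G).toMonoidHom = N := by
  apply le_antisymm
  · rintro _ ⟨n, hn, rfl⟩; exact hN n hn
  · intro n hn; exact ⟨α n, hN n hn, hsq n⟩

/-- the automorphism induced on the quotient by an invariant normal subgroup -/
noncomputable def quotAut (α : MulAut G) (hsq : ∀ g, α (α g) = g) (N : Subgroup G) [N.Normal]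
    (hN : ∀ n ∈ N, α n ∈ N) : MulAut (G ⧸ N) :=
  QuotientGroup.congr N N α (map_eq_of_invariant hsq N hN)

theorem quotAut_mk (α : MulAut G) (hsq : ∀ g, α (α g) = g) (N : Subgroup G) [N.Normal]
    (hN : ∀ n ∈ N, α n ∈ N) (g : G) :
    quotAut α hsq N hN (QuotientGroup.mk g) = QuotientGroup.mk (α g) := rfl

theorem adm_quot {α : MulAut G} (hA : Adm α) (N : Subgroup G) [N.Normal]
    (hN : ∀ n ∈ N, α n ∈ N) : Adm (quotAut α hA.sq N hN) :=
  hA.map (QuotientGroup.mk' N) (QuotientGroup.mk'_surjective N) (fun _ => rfl)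

theorem mInv_quot_le [Finite G] {α : MulAut G} (hsq : ∀ g, α (α g) = g) (N : Subgroup G)
    [N.Normal] (hN : ∀ n ∈ N, α n ∈ N) : mInv (quotAut α hsq N hN) ≤ mInv α :=
  mInv_le (QuotientGroup.mk' N) (QuotientGroup.mk'_surjective N) (fun _ => rfl) hsq

theorem mInv_quot_lt [Finite G] {α : MulAut G} (hsq : ∀ g, α (α g) = g) (N : Subgroup G)
    [N.Normal] (hN : ∀ n ∈ N, α n ∈ N) {x : G} (hx : x ∈ invSet α) (hx1 : x ≠ 1)
    (hxN : x ∈ N) : mInv (quotAut α hsq N hN) < mInv α :=
  mInv_lt (QuotientGroup.mk' N) (QuotientGroup.mk'_surjective N) (fun _ => rfl) hsq hx hx1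
    ((QuotientGroup.eq_one_iff x).mpr hxN)

/-! ### the abelianization and the Schur bound -/

theorem card_abelianization_le [Finite G] {α : MulAut G} (hA : Adm α) :
    Nat.card (Abelianization G) ≤ mInv α := by
  obtain ⟨β, hβ⟩ : ∃ β : MulAut (Abelianization G), β = MulEquiv.abelianizationCongr α :=
    ⟨_, rfl⟩
  have hc : ∀ g : G, (Abelianization.of (α g) : Abelianization G) = β (Abelianization.of g) := by
    intro g; rw [hβ, abelianizationCongr_of]
  have hsurj : Function.Surjective (Abelianization.of : G →* Abelianization G) :=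
    QuotientGroup.mk_surjective
  have hB : Adm β := hA.map Abelianization.of hsurj hc
  -- `β` inverts everything
  let ψ : Abelianization G →* Abelianization G :=
    { toFun := fun k => k * (β k)⁻¹
      map_one' := by rw [map_one, inv_one, mul_one]
      map_mul' := by
        intro a b
        rw [map_mul, mul_inv, mul_mul_mul_comm] }
  have hψ : Function.Surjective ψ := by
    rw [← MonoidHom.range_eq_top]
    have h1 := hB.gen
    have h2 : Set.range (fun c : Abelianization G => c * (β c)⁻¹) = (ψ.range : Set _) := by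
      ext k; rfl
    rw [h2, Subgroup.closure_eq] at h1
    exact h1
  have hψi : Function.Injective ψ := Finite.injective_iff_surjective.mpr hψ
  have hinv : ∀ k : Abelianization G, β k = k⁻¹ := by
    intro k
    have h3 : ψ (k * β k) = ψ 1 := by
      show k * β k * (β (k * β k))⁻¹ = 1 * (β 1)⁻¹
      rw [map_mul, hB.sq, map_one, inv_one, mul_one, mul_comm (β k) k, mul_inv_cancel]
    have h4 := hψi h3
    exact eq_inv_of_mul_eq_one_right h4
  -- everything has odd order
  let S : Subgroup (Abelianization G) :=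
    { carrier := {k | Odd (orderOf k)}
      mul_mem' := by
        intro a b ha hb
        have h5 : orderOf (a * b) ∣ orderOf a * orderOf b :=
          dvd_trans (Commute.all a b).orderOf_mul_dvd_lcm (Nat.lcm_dvd_mul _ _)
        exact Odd.of_dvd_nat (Odd.mul ha hb) h5
      one_mem' := by
        show Odd (orderOf (1 : Abelianization G))
        rw [orderOf_one]; exact odd_one
      inv_mem' := by
        intro a ha
        show Odd (orderOf a⁻¹)
        rw [orderOf_inv]; exact ha }
  have hodd : ∀ k : Abelianization G, Odd (orderOf k) := by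
    intro k
    have h6 : Subgroup.closure (invSet β) ≤ S := by
      rw [Subgroup.closure_le]
      intro x hx
      exact hx.1
    rw [closure_invSet hB] at h6
    exact h6 (Subgroup.mem_top k)
  have hall : ∀ k : Abelianization G, k ∈ invSet β := fun k => ⟨hodd k, hinv k⟩
  have h7 : mInv β = Nat.card (Abelianization G) :=
    Nat.card_congr (Equiv.subtypeUnivEquiv hall)
  rw [← h7]
  exact mInv_le Abelianization.of hsurj hc hA.sq

theorem commutatorElement_mul_central_left {a b z : G} (hz : ∀ g : G, g * z = z * g) :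
    ⁅a * z, b⁆ = ⁅a, b⁆ := by
  rw [commutatorElement_def, commutatorElement_def]
  calc a * z * b * (a * z)⁻¹ * b⁻¹ = a * (z * b) * z⁻¹ * a⁻¹ * b⁻¹ := by group
    _ = a * (b * z) * z⁻¹ * a⁻¹ * b⁻¹ := by rw [hz b]
    _ = a * b * a⁻¹ * b⁻¹ := by group

theorem commutatorElement_mul_central_right {a b z : G} (hz : ∀ g : G, g * z = z * g) :
    ⁅a, b * z⁆ = ⁅a, b⁆ := by
  rw [commutatorElement_def, commutatorElement_def]
  calc a * (b * z) * a⁻¹ * (b * z)⁻¹ = a * b * (z * a⁻¹) * z⁻¹ * b⁻¹ := by group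
    _ = a * b * (a⁻¹ * z) * z⁻¹ * b⁻¹ := by rw [hz a⁻¹]
    _ = a * b * a⁻¹ * b⁻¹ := by group

theorem card_commutatorSet_le [Finite G] :
    Nat.card (commutatorSet G) ≤ (Subgroup.center G).index ^ 2 := by
  let f : (G ⧸ Subgroup.center G) × (G ⧸ Subgroup.center G) → G :=
    fun p => ⁅p.1.out, p.2.out⁆
  have hsub : commutatorSet G ⊆ Set.range f := by
    rintro _ ⟨a, b, rfl⟩
    refine ⟨(QuotientGroup.mk a, QuotientGroup.mk b), ?_⟩
    obtain ⟨z, hz⟩ := QuotientGroup.mk_out_eq_mul (Subgroup.center G) a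
    obtain ⟨z', hz'⟩ := QuotientGroup.mk_out_eq_mul (Subgroup.center G) b
    show ⁅(QuotientGroup.mk a : G ⧸ Subgroup.center G).out,
      (QuotientGroup.mk b : G ⧸ Subgroup.center G).out⁆ = ⁅a, b⁆
    rw [hz, hz', commutatorElement_mul_central_left (fun g => Subgroup.mem_center_iff.mp z.2 g),
      commutatorElement_mul_central_right (fun g => Subgroup.mem_center_iff.mp z'.2 g)]
  calc Nat.card (commutatorSet G) ≤ Nat.card (Set.range f) :=
        Nat.card_mono (Set.toFinite _) hsub
    _ ≤ Nat.card ((G ⧸ Subgroup.center G) × (G ⧸ Subgroup.center G)) := Finite.card_range_le f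
    _ = (Subgroup.center G).index ^ 2 := by
        rw [Nat.card_prod, pow_two]; rfl

/-- the Schur bound -/
def schurB (k : ℕ) : ℕ := k ^ (k * k ^ 2 + 1)

theorem schurB_mono {a b : ℕ} (ha : 1 ≤ a) (hab : a ≤ b) : schurB a ≤ schurB b := by
  unfold schurB
  calc a ^ (a * a ^ 2 + 1) ≤ b ^ (a * a ^ 2 + 1) := Nat.pow_le_pow_left hab _
    _ ≤ b ^ (b * b ^ 2 + 1) := by
        apply Nat.pow_le_pow_right (le_trans ha hab)
        have : a * a ^ 2 ≤ b * b ^ 2 := Nat.mul_le_mul hab (Nat.pow_le_pow_left hab 2)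
        omega

theorem one_le_schurB {k : ℕ} (hk : 1 ≤ k) : 1 ≤ schurB k := Nat.one_le_pow _ _ hk

theorem card_commutator_le [Finite G] :
    Nat.card (commutator G) ≤ schurB (Subgroup.center G).index := by
  have hk : 1 ≤ (Subgroup.center G).index :=
    Nat.one_le_iff_ne_zero.mpr Subgroup.FiniteIndex.index_ne_zero
  have h1 := Subgroup.card_commutator_dvd_index_center_pow G
  have h2 : Nat.card (commutator G) ≤
      (Subgroup.center G).index ^ ((Subgroup.center G).index * Nat.card (commutatorSet G) + 1) :=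
    Nat.le_of_dvd (Nat.pow_pos hk) h1
  refine le_trans h2 ?_
  unfold schurB
  apply Nat.pow_le_pow_right hk
  have := Nat.mul_le_mul_left (Subgroup.center G).index (card_commutatorSet_le (G := G))
  omega

/-- the order of an admissible group is bounded by `mInv` and the index of the centre -/
theorem card_le_mul_schurB [Finite G] {α : MulAut G} (hA : Adm α) :
    Nat.card G ≤ mInv α * schurB (Subgroup.center G).index := by
  rw [← Subgroup.card_mul_index (commutator G), mul_comm]
  exact Nat.mul_le_mul (card_abelianization_le hA) card_commutator_le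

end Cfsg.Agent.Lib.Helper6.Inv
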