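import Mathlib
import Cfsg.Agent.Lib.Helper6.InvB
import Cfsg.Agent.Lib.Helper7.PRedIn

set_option autoImplicit false

/-!
# Involutory automorphisms inverting few elements of odd order (part F: cores and bounds)

`O_p` of quotients by central subgroups and by `O_p`, oddness of the centre when `O_2 = 1`,
and the bounding functions used in the induction.
-/

namespace Cfsg.Agent.Lib.Helper6.Inv

open Group

universe u

variable {G : Type u} [Group G]

theorem pCore_quotient_central_eq_bot [Finite G] (p : ℕ) [hp : Fact p.Prime] (Z : Subgroup G)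
    [hZn : Z.Normal] (hZc : Z ≤ Subgroup.center G) (hO : Cfsg.pCore p G = ⊥) :
    Cfsg.pCore p (G ⧸ Z) = ⊥ := by
  rw [Cfsg.Agent.Lib.Helper7.pCore_quotient_eq_bot_iff]
  intro D hDn hpow
  obtain ⟨φ, hφ⟩ : ∃ φ : D →* G ⧸ Z, φ = (QuotientGroup.mk' Z).comp D.subtype := ⟨_, rfl⟩
  have hφa : ∀ d : D, φ d = QuotientGroup.mk (d : G) := by
    intro d; rw [hφ]; rfl
  have hker : φ.rangeRestrict.ker ≤ Subgroup.center D := by
    intro d hd
    rw [MonoidHom.mem_ker] at hd
    have hd' : φ d = 1 := by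
      have h2 := congrArg Subtype.val hd
      simpa using h2
    rw [hφa, QuotientGroup.eq_one_iff] at hd'
    rw [Subgroup.mem_center_iff]
    intro g
    apply Subtype.ext
    have h3 := Subgroup.mem_center_iff.mp (hZc hd') (g : G)
    simpa using h3
  have hrange : IsPGroup p φ.range := by
    rintro ⟨_, d, rfl⟩
    obtain ⟨k, hk⟩ := hpow d d.2
    refine ⟨k, Subtype.ext ?_⟩
    show (φ d) ^ (p ^ k) = 1
    rw [hφa, ← QuotientGroup.mk_pow, QuotientGroup.eq_one_iff]
    exact hk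
  have : IsNilpotent φ.range := hrange.isNilpotent
  have : IsNilpotent D := Subgroup.isNilpotent_of_ker_le_center φ.rangeRestrict hker
  obtain ⟨S⟩ : Nonempty (Sylow p D) := inferInstance
  have hSn : (S : Subgroup D).Normal := inferInstance
  have hSc : (S : Subgroup D).Characteristic := Sylow.characteristic_of_normal S hSn
  have := hDn
  have hmapn : ((S : Subgroup D).map D.subtype).Normal :=
    ConjAct.normal_of_characteristic_of_normal
  have hmapp : IsPGroup p ((S : Subgroup D).map D.subtype) := S.isPGroup'.map _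
  have hle := Cfsg.Agent.Lib.Helper7.le_pCore hmapn hmapp
  rw [hO, le_bot_iff] at hle
  have hSbot : (S : Subgroup D) = ⊥ :=
    (Subgroup.map_eq_bot_iff_of_injective _ D.subtype_injective).mp hle
  have hnd : ¬ p ∣ Nat.card D := fun h => S.ne_bot_of_dvd_card h hSbot
  intro d hd
  obtain ⟨k, hk⟩ := hpow d hd
  have hcop : (p ^ k).Coprime (orderOf d) := by
    apply Nat.Coprime.pow_left
    rw [Nat.Prime.coprime_iff_not_dvd hp.out]
    intro h
    apply hnd
    have h2 : orderOf (⟨d, hd⟩ : D) ∣ Nat.card D := orderOf_dvd_natCard _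
    rw [Subgroup.orderOf_mk] at h2
    exact h.trans h2
  obtain ⟨j, hj⟩ := exists_pow_eq_self_of_coprime hcop
  rw [← hj]
  exact Z.pow_mem hk j

theorem pCore_quot_self_eq_bot (p : ℕ) : Cfsg.pCore p (G ⧸ Cfsg.pCore p G) = ⊥ := by
  rw [Cfsg.Agent.Lib.Helper7.pCore_quotient_eq_bot_iff]
  intro D hDn hpow
  apply Cfsg.Agent.Lib.Helper7.le_pCore hDn
  intro d
  obtain ⟨k, hk⟩ := hpow d d.2
  obtain ⟨l, hl⟩ := Cfsg.Agent.Lib.Helper7.pCore_isPGroup p G ⟨_, hk⟩
  refine ⟨k + l, Subtype.ext ?_⟩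
  have h2 := congrArg Subtype.val hl
  rw [Subgroup.coe_pow, Subgroup.coe_one] at h2
  rw [Subgroup.coe_pow, Subgroup.coe_one, pow_add, pow_mul]
  exact h2

theorem eq_one_of_mul_self_of_odd {g : G} (h2 : g * g = 1) (ho : Odd (orderOf g)) : g = 1 := by
  have h3 : orderOf g ∣ 2 := orderOf_dvd_of_pow_eq_one (by rw [pow_two]; exact h2)
  rcases (Nat.dvd_prime Nat.prime_two).mp h3 with h | h
  · exact orderOf_eq_one_iff.mp h
  · exfalso
    rw [h] at ho
    exact (by decide : ¬ Odd 2) ho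

theorem odd_orderOf_of_mem_center [Finite G] (hO : Cfsg.pCore 2 G = ⊥) {z : G}
    (hz : z ∈ Subgroup.center G) : Odd (orderOf z) := by
  by_contra hodd
  rw [Nat.not_odd_iff_even] at hodd
  obtain ⟨k, hk⟩ := hodd
  have hpos : 0 < orderOf z := orderOf_pos z
  have hk0 : 0 < k := by omega
  obtain ⟨t, ht⟩ : ∃ t, t = z ^ k := ⟨_, rfl⟩
  have ht2 : t ^ 2 = 1 := by
    rw [ht, ← pow_mul, mul_two, ← hk, pow_orderOf_eq_one]
  have ht1 : t ≠ 1 := by
    intro h
    rw [ht] at h
    have h3 := Nat.le_of_dvd hk0 (orderOf_dvd_of_pow_eq_one h)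
    omega
  have htc : t ∈ Subgroup.center G := by rw [ht]; exact Subgroup.pow_mem _ hz k
  have hn : (Subgroup.zpowers t).Normal := by
    refine ⟨fun a ha g => ?_⟩
    have hac : a ∈ Subgroup.center G := (Subgroup.zpowers_le.mpr htc) ha
    have h3 : g * a * g⁻¹ = a := by
      rw [Subgroup.mem_center_iff] at hac
      rw [hac g, mul_inv_cancel_right]
    rw [h3]; exact ha
  have hp2 : IsPGroup 2 (Subgroup.zpowers t) := by
    have h3 : orderOf t = 2 := orderOf_eq_prime ht2 ht1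
    apply IsPGroup.of_card (n := 1)
    rw [Nat.card_zpowers, h3, pow_one]
  have hle := Cfsg.Agent.Lib.Helper7.le_pCore hn hp2
  rw [hO] at hle
  exact ht1 ((Subgroup.mem_bot).mp (hle (Subgroup.mem_zpowers t)))

theorem char_invariant (H : Subgroup G) [hH : H.Characteristic] (α : MulAut G) :
    ∀ n ∈ H, α n ∈ H := by
  intro n hn
  have h := Subgroup.characteristic_iff_le_comap.mp hH α
  exact h hn

/-! ### bounding functions -/

theorem le_schurB {k : ℕ} (hk : 1 ≤ k) : k ≤ schurB k := by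
  unfold schurB
  calc k = k ^ 1 := (pow_one k).symm
    _ ≤ k ^ (k * k ^ 2 + 1) := Nat.pow_le_pow_right hk (by omega)

def cZero (m : ℕ) : ℕ := 3 * m.factorial ^ 2

def coreB (m F : ℕ) : ℕ := m ^ cZero m * schurB (cZero m ^ cZero m) * F

def oddB (m F : ℕ) : ℕ := m * schurB (coreB m F + m * schurB F)

def genB (m F : ℕ) : ℕ := m * schurB ((m ^ 2) ^ m * oddB m F)

theorem one_le_cZero (m : ℕ) : 1 ≤ cZero m := by
  unfold cZero
  have h := Nat.factorial_pos m
  have h2 : 1 ≤ m.factorial ^ 2 := Nat.one_le_pow _ _ h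
  omega

theorem one_le_coreB {m F : ℕ} (hm : 1 ≤ m) (hF : 1 ≤ F) : 1 ≤ coreB m F := by
  unfold coreB
  have h1 : 1 ≤ m ^ cZero m := Nat.one_le_pow _ _ hm
  have h2 : 1 ≤ schurB (cZero m ^ cZero m) :=
    one_le_schurB (Nat.one_le_pow _ _ (one_le_cZero m))
  exact Nat.mul_pos (Nat.mul_pos h1 h2) hF

theorem one_le_oddB {m F : ℕ} (hm : 1 ≤ m) (hF : 1 ≤ F) : 1 ≤ oddB m F := by
  unfold oddB
  have h1 : 1 ≤ coreB m F + m * schurB F := by
    have := one_le_coreB hm hF
    omega
  exact Nat.mul_pos hm (one_le_schurB h1)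

theorem one_le_genB {m F : ℕ} (hm : 1 ≤ m) (hF : 1 ≤ F) : 1 ≤ genB m F := by
  unfold genB
  have h1 : 1 ≤ (m ^ 2) ^ m * oddB m F :=
    Nat.mul_pos (Nat.one_le_pow _ _ (Nat.one_le_pow _ _ hm)) (one_le_oddB hm hF)
  exact Nat.mul_pos hm (one_le_schurB h1)

end Cfsg.Agent.Lib.Helper6.Inv
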