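import Mathlib
import Cfsg.Prelude.Def_Local
import Cfsg.Prelude.Def_CaseTheorems
import Cfsg.Agent.Lib.Helper1.PCore
import Cfsg.Agent.Lib.Helper3.A8Emb
import Cfsg.Agent.Lib.Helper6.InvF

set_option autoImplicit false
set_option linter.unusedVariables false
set_option linter.unusedSectionVars false
set_option linter.style.longLine false
set_option linter.deprecated false

/-!
# S3104, unit U6: the quotient data

For a finite non-solvable `2`-constrained group `X` with trivial odd core whose `O_2` has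
sectional `2`-rank at most `4`, the quotient `Y = X / O_2(X)` is not solvable, has no
non-trivial normal `2`-subgroup, and acts faithfully on a finite group of exponent `2` and
order at most `16`.
-/

namespace Cfsg.Agent.Lib.Helper6.A8Quot

open Cfsg

universe u

/-- the quotient by a solvable normal subgroup of a non-solvable group is not solvable -/
theorem not_solvable_quot {X : Type u} [Group X] (Q : Subgroup X) [Q.Normal]
    (hQ : Group.IsSolvable ↥Q) (hns : ¬ Group.IsSolvable X) : ¬ Group.IsSolvable (X ⧸ Q) := by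
  intro h
  apply hns
  haveI := hQ
  haveI := h
  refine solvable_of_ker_le_range Q.subtype (QuotientGroup.mk' Q) ?_
  rw [QuotientGroup.ker_mk', Subgroup.range_subtype]

/-- `X / O_2(X)` has no non-trivial normal `2`-subgroup -/
theorem no_normal_two_quot {X : Type u} [Group X] (N : Subgroup (X ⧸ Cfsg.pCore 2 X))
    (hN : N.Normal) (h2 : IsPGroup 2 ↥N) : N = ⊥ := by
  have h1 : N ≤ Cfsg.pCore 2 (X ⧸ Cfsg.pCore 2 X) := Cfsg.Agent.Lib.Helper1.le_pCore hN h2
  rw [Cfsg.Agent.Lib.Helper6.Inv.pCore_quot_self_eq_bot 2] at h1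
  exact le_bot_iff.mp h1

theorem quot_data {X : Type u} [Group X] [Finite X] (hns : ¬ Group.IsSolvable X)
    (hc : Cfsg.IsPConstrained 2 X) (hO : Cfsg.oddCore X = ⊥)
    (h4 : Cfsg.SectionalPRankLE 2 4 ↥(Cfsg.pCore 2 X)) :
    ¬ Group.IsSolvable (X ⧸ Cfsg.pCore 2 X) ∧
    (∀ N : Subgroup (X ⧸ Cfsg.pCore 2 X), N.Normal → IsPGroup 2 ↥N → N = ⊥) ∧
    ∃ (E : Type u) (_ : Group E) (_ : Finite E), (∀ e : E, e * e = 1) ∧ Nat.card E ≤ 16 ∧
      ∃ ρ : X ⧸ Cfsg.pCore 2 X →* MulAut E, Function.Injective ρ := by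
  haveI : Fact (Nat.Prime 2) := ⟨Nat.prime_two⟩
  have hQ : IsPGroup 2 ↥(Cfsg.pCore 2 X) := Cfsg.Agent.Lib.Helper1.pCore_isPGroup 2
  refine ⟨?_, no_normal_two_quot, ?_⟩
  · haveI : Group.IsNilpotent ↥(Cfsg.pCore 2 X) := hQ.isNilpotent
    exact not_solvable_quot _ inferInstance hns
  · have hcent := Cfsg.Agent.Lib.Helper3.A8Emb.centralizer_pCore_le hc hO
    have hmax : ∀ N : Subgroup X, N.Normal → IsPGroup 2 N → N ≤ Cfsg.pCore 2 X :=
      fun N hN hN2 => Cfsg.Agent.Lib.Helper1.le_pCore hN hN2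
    obtain ⟨φ, hφ⟩ := Cfsg.Agent.Lib.Helper9.A8Emb.exists_conjQuot (Cfsg.pCore 2 X)
      (Cfsg.Agent.Lib.Helper3.A8Emb.sqSub (Cfsg.pCore 2 X))
      (Cfsg.Agent.Lib.Helper3.A8Emb.sqSub_le (Cfsg.pCore 2 X))
    have hker := Cfsg.Agent.Lib.Helper3.A8Emb.ker_le (Cfsg.pCore 2 X) hQ hcent hmax φ hφ
    have h2 := Cfsg.Agent.Lib.Helper3.A8Emb.sq_eq_one_quot (Cfsg.pCore 2 X)
    have hcard := Cfsg.Agent.Lib.Helper9.A8Emb.card_quot_le h4
      ((Cfsg.Agent.Lib.Helper3.A8Emb.sqSub (Cfsg.pCore 2 X)).subgroupOf (Cfsg.pCore 2 X)) h2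
    have hQker : Cfsg.pCore 2 X ≤ φ.ker := by
      intro g hg
      rw [MonoidHom.mem_ker]
      ext x
      induction x using QuotientGroup.induction_on with
      | H a =>
        rw [hφ g a, MulAut.one_apply]
        have : ((⟨g * (a : X) * g⁻¹, Subgroup.Normal.conj_mem inferInstance (a : X) a.2 g⟩ :
              ↥(Cfsg.pCore 2 X)) : ↥(Cfsg.pCore 2 X) ⧸
                (Cfsg.Agent.Lib.Helper3.A8Emb.sqSub (Cfsg.pCore 2 X)).subgroupOf (Cfsg.pCore 2 X))
            = ((⟨g, hg⟩ : ↥(Cfsg.pCore 2 X)) : ↥(Cfsg.pCore 2 X) ⧸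
                (Cfsg.Agent.Lib.Helper3.A8Emb.sqSub (Cfsg.pCore 2 X)).subgroupOf (Cfsg.pCore 2 X)) *
              (a : ↥(Cfsg.pCore 2 X) ⧸
                (Cfsg.Agent.Lib.Helper3.A8Emb.sqSub (Cfsg.pCore 2 X)).subgroupOf (Cfsg.pCore 2 X)) *
              ((⟨g, hg⟩ : ↥(Cfsg.pCore 2 X)) : ↥(Cfsg.pCore 2 X) ⧸
                (Cfsg.Agent.Lib.Helper3.A8Emb.sqSub (Cfsg.pCore 2 X)).subgroupOf (Cfsg.pCore 2 X))⁻¹ := by
          rw [← QuotientGroup.mk_inv, ← QuotientGroup.mk_mul, ← QuotientGroup.mk_mul]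
          rfl
        rw [this, Cfsg.Agent.Lib.Helper3.A8Emb.comm_of_sq h2 _
          (a : ↥(Cfsg.pCore 2 X) ⧸
            (Cfsg.Agent.Lib.Helper3.A8Emb.sqSub (Cfsg.pCore 2 X)).subgroupOf (Cfsg.pCore 2 X)),
          mul_inv_cancel_right]
    refine ⟨↥(Cfsg.pCore 2 X) ⧸
        (Cfsg.Agent.Lib.Helper3.A8Emb.sqSub (Cfsg.pCore 2 X)).subgroupOf (Cfsg.pCore 2 X),
      inferInstance, inferInstance, ?_, hcard, QuotientGroup.lift (Cfsg.pCore 2 X) φ hQker, ?_⟩
    · intro e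
      have := h2 e
      rwa [pow_two] at this
    · rw [injective_iff_map_eq_one]
      intro x hx
      induction x using QuotientGroup.induction_on with
      | H g =>
        have : φ g = 1 := hx
        rw [QuotientGroup.eq_one_iff]
        exact hker (MonoidHom.mem_ker.mpr this)

end Cfsg.Agent.Lib.Helper6.A8Quot
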