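import Mathlib

set_option autoImplicit false
set_option linter.unusedVariables false
set_option linter.style.longLine false

/-!
# S3104, part (2), unit E1: `Sym(6)` inside `Sym(6)`, `Sym(7)` and `Alt(8)`; `Alt(5)` inside

* `exists_S6_hom`: a group isomorphic to `Sym(6)`, `Sym(7)` or `Alt(8)` receives an injective
  homomorphism from `Equiv.Perm (Fin 6)`.
* `exists_A5_sub`: a group receiving an injective homomorphism from `Equiv.Perm (Fin 6)` has a
  subgroup isomorphic to `Alt(5)`.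
-/

namespace Cfsg.Agent.Lib.Helper6.A8S6

open Equiv

/-- the sign, realised inside `Perm (Fin 2)` -/
def sgnTwo : ℤˣ →* Perm (Fin 2) :=
  MonoidHom.mk' (fun u => if u = 1 then 1 else Equiv.swap 0 1) (by decide)

theorem sign_sgnTwo (u : ℤˣ) : Perm.sign (sgnTwo u) = u := by
  revert u; decide

/-- `s ↦ (s, sgn s)` into `Perm (Fin 6 ⊕ Fin 2)` -/
def toSum : Perm (Fin 6) →* Perm (Fin 6 ⊕ Fin 2) :=
  (Perm.sumCongrHom (Fin 6) (Fin 2)).comp
    ((MonoidHom.id (Perm (Fin 6))).prod (sgnTwo.comp Perm.sign))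

theorem toSum_injective : Function.Injective toSum := by
  intro a b hab
  have h := Perm.sumCongrHom_injective hab
  exact congrArg Prod.fst h

theorem sign_toSum (s : Perm (Fin 6)) : Perm.sign (toSum s) = 1 := by
  change Perm.sign (Equiv.sumCongr s (sgnTwo (Perm.sign s))) = 1
  rw [Perm.sign_sumCongr, sign_sgnTwo, Int.units_mul_self]

/-- `Sym(6)` inside `Alt(Fin 6 ⊕ Fin 2)` -/
def toAltSum : Perm (Fin 6) →* ↥(alternatingGroup (Fin 6 ⊕ Fin 2)) :=
  toSum.codRestrict (alternatingGroup (Fin 6 ⊕ Fin 2))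
    (fun s => Perm.mem_alternatingGroup.mpr (sign_toSum s))

theorem toAltSum_injective : Function.Injective toAltSum := by
  intro a b hab
  apply toSum_injective
  exact congrArg Subtype.val hab

/-- `Sym(6)` inside `Alt(8)` -/
theorem exists_hom_alt_eight :
    ∃ j : Perm (Fin 6) →* ↥(alternatingGroup (Fin 8)), Function.Injective j := by
  let e : Fin 6 ⊕ Fin 2 ≃ Fin 8 := finSumFinEquiv
  refine ⟨(Equiv.altCongrHom e).toMonoidHom.comp toAltSum, ?_⟩
  exact (Equiv.altCongrHom e).injective.comp toAltSum_injective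

theorem exists_S6_hom {Y : Type*} [Group Y]
    (h : Nonempty (Y ≃* Equiv.Perm (Fin 6)) ∨ Nonempty (Y ≃* Equiv.Perm (Fin 7)) ∨
      Nonempty (Y ≃* ↥(alternatingGroup (Fin 8)))) :
    ∃ j : Equiv.Perm (Fin 6) →* Y, Function.Injective j := by
  rcases h with ⟨⟨e⟩⟩ | ⟨⟨e⟩⟩ | ⟨⟨e⟩⟩
  · exact ⟨e.symm.toMonoidHom, e.symm.injective⟩
  · refine ⟨e.symm.toMonoidHom.comp
      (Perm.viaEmbeddingHom (Fin.castSuccEmb : Fin 6 ↪ Fin 7)), ?_⟩
    exact e.symm.injective.comp (Perm.viaEmbeddingHom_injective _)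
  · obtain ⟨j, hj⟩ := exists_hom_alt_eight
    exact ⟨e.symm.toMonoidHom.comp j, e.symm.injective.comp hj⟩

theorem exists_A5_sub {Y : Type*} [Group Y] (j : Equiv.Perm (Fin 6) →* Y)
    (hj : Function.Injective j) :
    ∃ A : Subgroup Y, Nonempty (↥A ≃* ↥(alternatingGroup (Fin 5))) := by
  let k : ↥(alternatingGroup (Fin 5)) →* Y :=
    j.comp ((Perm.viaEmbeddingHom (Fin.castSuccEmb : Fin 5 ↪ Fin 6)).comp
      (alternatingGroup (Fin 5)).subtype)
  have hk : Function.Injective k :=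
    hj.comp ((Perm.viaEmbeddingHom_injective _).comp Subtype.val_injective)
  exact ⟨k.range, ⟨(MonoidHom.ofInjective hk).symm⟩⟩

end Cfsg.Agent.Lib.Helper6.A8S6
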