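import Mathlib
import Cfsg.Agent.Lib.Helper6.A8S6

set_option autoImplicit false

/-!
# S3104, part (2): `Alt(5)` inside `Sym(6)`, `Sym(7)` and `Alt(8)`
-/

namespace Cfsg.Agent.Lib.Helper6.A8S6

theorem a5_6 : ∃ A : Subgroup (Equiv.Perm (Fin 6)), Nonempty (↥A ≃* ↥(alternatingGroup (Fin 5))) :=
  exists_A5_sub (MonoidHom.id _) Function.injective_id

theorem a5_7 : ∃ A : Subgroup (Equiv.Perm (Fin 7)), Nonempty (↥A ≃* ↥(alternatingGroup (Fin 5))) := by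
  obtain ⟨j, hj⟩ := exists_S6_hom (Y := Equiv.Perm (Fin 7)) (Or.inr (Or.inl ⟨MulEquiv.refl _⟩))
  exact exists_A5_sub j hj

theorem a5_8 : ∃ A : Subgroup ↥(alternatingGroup (Fin 8)),
    Nonempty (↥A ≃* ↥(alternatingGroup (Fin 5))) := by
  obtain ⟨j, hj⟩ := exists_hom_alt_eight
  exact exists_A5_sub j hj

end Cfsg.Agent.Lib.Helper6.A8S6
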