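import Mathlib

set_option autoImplicit false
set_option linter.unusedVariables false
set_option linter.unusedSectionVars false
set_option linter.style.longLine false
set_option linter.style.haveILetI false
set_option maxHeartbeats 1000000

/-!
# S3104, part (1), unit V1: no group of order `1344` with `O_2 = 1` acts faithfully on an
elementary abelian `2`-group of order at most `16`
-/

namespace Cfsg.Agent.Lib.Helper6.A8V1

/-- `MulAut A` embeds in the permutations of the non-identity elements of `A`. -/
theorem card_mulAut_dvd (A : Type*) [Group A] [Finite A] :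
    Nat.card (MulAut A) ∣ (Nat.card A - 1).factorial := by
  classical
  let f : MulAut A →* Equiv.Perm {a : A // a ≠ 1} :=
    { toFun := fun φ => (MulAut.toPerm A φ).subtypePerm (fun x => by
        show (φ x ≠ 1) ↔ x ≠ 1
        simp)
      map_one' := by ext x; rfl
      map_mul' := fun a b => by ext x; rfl }
  have hf : Function.Injective f := by
    intro a b hab
    ext x
    by_cases hx : x = 1
    · subst hx; simp
    · have := congrArg (fun σ => ((σ ⟨x, hx⟩ : {a : A // a ≠ 1}) : A)) hab
      exact this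
  have h1 := Subgroup.card_dvd_of_injective f hf
  rw [Nat.card_perm] at h1
  have h2 : Nat.card {a : A // a ≠ 1} = Nat.card A - 1 := by
    haveI := Fintype.ofFinite A
    rw [Nat.card_eq_fintype_card, Nat.card_eq_fintype_card]
    simp [Fintype.card_subtype_compl]
  rwa [h2] at h1

/-- the action induced on the quotient by an invariant normal subgroup -/
theorem exists_quotAction {Y E : Type*} [Group Y] [Group E] (ρ : Y →* MulAut E) (U : Subgroup E)
    [U.Normal] (hU : ∀ y : Y, ∀ u ∈ U, ρ y u ∈ U) :
    ∃ ψ : Y →* MulAut (E ⧸ U), ∀ (y : Y) (e : E), ψ y (e : E ⧸ U) = ((ρ y e : E) : E ⧸ U) := by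
  classical
  have hmap : ∀ y : Y, U.map ((ρ y : MulAut E) : E →* E) = U := by
    intro y
    ext x
    constructor
    · rintro ⟨z, hz, rfl⟩
      exact hU y z hz
    · intro hx
      refine ⟨ρ y⁻¹ x, hU y⁻¹ x hx, ?_⟩
      show ρ y (ρ y⁻¹ x) = x
      rw [← MulAut.mul_apply, ← map_mul, mul_inv_cancel, map_one, MulAut.one_apply]
  let f : Y → MulAut (E ⧸ U) := fun y => QuotientGroup.congr U U (ρ y : MulAut E) (hmap y)
  have hf : ∀ (y : Y) (e : E), f y (e : E ⧸ U) = ((ρ y e : E) : E ⧸ U) := by
    intro y e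
    show QuotientGroup.congr U U (ρ y : MulAut E) (hmap y) (QuotientGroup.mk e) = _
    rw [QuotientGroup.congr_mk]
  refine ⟨MonoidHom.mk' f ?_, ?_⟩
  · intro g h
    apply MulEquiv.ext
    intro x
    induction x using QuotientGroup.induction_on with
    | H a =>
      rw [MulAut.mul_apply, hf, hf, hf, map_mul, MulAut.mul_apply]
  · intro y e
    rw [MonoidHom.mk'_apply]
    exact hf y e

theorem no_1344 {Y : Type*} [Group Y] [Finite Y] (hcard : Nat.card Y = 1344)
    (hO2 : ∀ N : Subgroup Y, N.Normal → IsPGroup 2 ↥N → N = ⊥)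
    {E : Type*} [Group E] [Finite E] (hE2 : ∀ e : E, e * e = 1) (hE16 : Nat.card E ≤ 16)
    (ρ : Y →* MulAut E) (hρ : Function.Injective ρ) : False := by
  classical
  haveI : Fact (Nat.Prime 2) := ⟨Nat.prime_two⟩
  have inv_self : ∀ x : E, x⁻¹ = x := fun x => inv_eq_of_mul_eq_one_left (hE2 x)
  have hcomm : ∀ a b : E, a * b = b * a := by
    intro a b
    calc a * b = (a * b)⁻¹ := (inv_self _).symm
      _ = b⁻¹ * a⁻¹ := mul_inv_rev a b
      _ = b * a := by rw [inv_self, inv_self]
  letI : MulAction Y E := MulAction.compHom E ρ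
  have hsmul : ∀ (y : Y) (e : E), y • e = ρ y e := fun _ _ => rfl
  -- a nontrivial element of `E`
  have hY1 : 1 < Nat.card Y := by rw [hcard]; norm_num
  haveI : Nontrivial Y := Finite.one_lt_card_iff_nontrivial.mp hY1
  obtain ⟨y0, hy0⟩ := exists_ne (1 : Y)
  have hρy0 : ρ y0 ≠ 1 := fun h => hy0 (hρ (h.trans (map_one ρ).symm))
  obtain ⟨e0, he0⟩ : ∃ e, ρ y0 e ≠ e := by
    by_contra hcon
    push Not at hcon
    exact hρy0 (MulEquiv.ext hcon)
  have he01 : e0 ≠ 1 := by
    rintro rfl
    exact he0 (map_one _)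
  have h2E : 2 ∣ Nat.card E := by
    have h2 : orderOf e0 = 2 := orderOf_eq_prime (by rw [pow_two]; exact hE2 e0) he01
    rw [← h2]
    exact orderOf_dvd_natCard e0
  -- a Sylow 2-subgroup and its index
  obtain ⟨T⟩ : Nonempty (Sylow 2 Y) := inferInstance
  have h21 : (T : Subgroup Y).index ∣ 21 := by
    have h1 : (T : Subgroup Y).index ∣ 64 * 21 := by
      have := Subgroup.index_dvd_card (T : Subgroup Y)
      rw [hcard] at this
      exact this
    have hcop2 : Nat.Coprime (T : Subgroup Y).index 2 :=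
      Nat.coprime_comm.mp ((Nat.Prime.coprime_iff_not_dvd Nat.prime_two).mpr T.not_dvd_index)
    have hcop : Nat.Coprime (T : Subgroup Y).index 64 := by
      have := Nat.Coprime.pow_right 6 hcop2
      norm_num at this
      exact this
    exact hcop.dvd_of_dvd_mul_left h1
  -- a non-identity fixed point of `T`
  have h1fix : (1 : E) ∈ MulAction.fixedPoints ↥(T : Subgroup Y) E := by
    intro t
    show ρ (t : Y) 1 = 1
    exact map_one _
  obtain ⟨w, hwfix, hw1⟩ :=
    T.isPGroup'.exists_fixed_point_of_prime_dvd_card_of_fixed_point E h2E h1fix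
  have hTstab : (T : Subgroup Y) ≤ MulAction.stabilizer Y w := by
    intro t ht
    rw [MulAction.mem_stabilizer_iff]
    exact hwfix ⟨t, ht⟩
  have hΩ21 : (MulAction.orbit Y w).ncard ∣ 21 := by
    rw [← MulAction.index_stabilizer]
    exact (Subgroup.index_dvd_of_le hTstab).trans h21
  -- the orbit and the subgroup it generates
  have hΩinv : ∀ (y : Y), ∀ x ∈ MulAction.orbit Y w, ρ y x ∈ MulAction.orbit Y w := by
    rintro y x ⟨g, rfl⟩
    exact ⟨y * g, mul_smul y g w⟩
  have hΩ1 : (1 : E) ∉ MulAction.orbit Y w := by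
    rintro ⟨g, hg⟩
    apply hw1
    have h1 : ρ g w = 1 := hg
    have h2 : ρ g w = ρ g 1 := by rw [h1, map_one]
    exact ((ρ g).injective h2).symm
  set U : Subgroup E := Subgroup.closure (MulAction.orbit Y w) with hUdef
  have hUinv : ∀ y : Y, ∀ u ∈ U, ρ y u ∈ U := by
    intro y u hu
    induction hu using Subgroup.closure_induction with
    | mem x hx => exact Subgroup.subset_closure (hΩinv y x hx)
    | one => rw [map_one]; exact one_mem _
    | mul a b _ _ ha hb => rw [map_mul]; exact mul_mem ha hb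
    | inv a _ ha => rw [map_inv]; exact inv_mem ha
  haveI hUn : U.Normal := ⟨fun n hn g => by rw [hcomm g n, mul_inv_cancel_right]; exact hn⟩
  obtain ⟨ψ, hψ⟩ := exists_quotAction ρ U hUinv
  -- the combined homomorphism
  let Φ : Y →* Equiv.Perm ↥(MulAction.orbit Y w) × MulAut (E ⧸ U) :=
    (MulAction.toPermHom Y ↥(MulAction.orbit Y w)).prod ψ
  have hker2 : ∀ k ∈ Φ.ker, k * k = 1 := by
    intro k hk
    rw [MonoidHom.mem_ker] at hk
    have hk1 : MulAction.toPermHom Y ↥(MulAction.orbit Y w) k = 1 := congrArg Prod.fst hk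
    have hk2 : ψ k = 1 := congrArg Prod.snd hk
    have hfixΩ : ∀ x ∈ MulAction.orbit Y w, ρ k x = x := by
      intro x hx
      have h := congrArg (fun σ => ((σ ⟨x, hx⟩ : ↥(MulAction.orbit Y w)) : E)) hk1
      exact h
    have hfixU : ∀ u ∈ U, ρ k u = u := by
      intro u hu
      induction hu using Subgroup.closure_induction with
      | mem x hx => exact hfixΩ x hx
      | one => exact map_one _
      | mul a b _ _ ha hb => rw [map_mul, ha, hb]
      | inv a _ ha => rw [map_inv, ha]
    have hmod : ∀ e : E, (ρ k e)⁻¹ * e ∈ U := by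
      intro e
      have h := hψ k e
      rw [hk2, MulAut.one_apply] at h
      exact QuotientGroup.eq.mp h.symm
    apply hρ
    rw [map_one]
    apply MulEquiv.ext
    intro e
    rw [map_mul, MulAut.mul_apply, MulAut.one_apply]
    have hu := hmod e
    have h1 : ρ k e = e * ((ρ k e)⁻¹ * e) := by
      rw [hcomm e, mul_assoc, hE2 e, mul_one, inv_self]
    have h2 : ρ k (ρ k e) = ρ k e * ((ρ k e)⁻¹ * e) := by
      conv_lhs => rw [h1]
      rw [map_mul, hfixU _ hu]
    rw [h2, mul_inv_cancel_left]
  have hkerbot : Φ.ker = ⊥ := by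
    apply hO2 _ (MonoidHom.normal_ker Φ)
    intro k
    refine ⟨1, ?_⟩
    apply Subtype.ext
    rw [pow_one, Subgroup.coe_pow, pow_two, Subgroup.coe_one]
    exact hker2 k k.2
  have hΦ : Function.Injective Φ := (MonoidHom.ker_eq_bot_iff Φ).mp hkerbot
  -- counting
  have hdvd := Subgroup.card_dvd_of_injective Φ hΦ
  rw [Nat.card_prod, Nat.card_perm, hcard] at hdvd
  have hdvd2 : 1344 ∣ (Nat.card ↥(MulAction.orbit Y w)).factorial *
      (Nat.card (E ⧸ U) - 1).factorial :=
    hdvd.trans (Nat.mul_dvd_mul_left _ (card_mulAut_dvd (E ⧸ U)))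
  have hn21 : Nat.card ↥(MulAction.orbit Y w) ∣ 21 := by
    rw [Nat.card_coe_set_eq]; exact hΩ21
  have hnU : Nat.card ↥(MulAction.orbit Y w) + 1 ≤ Nat.card U := by
    have h1 : (insert (1 : E) (MulAction.orbit Y w)).ncard = (MulAction.orbit Y w).ncard + 1 :=
      Set.ncard_insert_of_notMem hΩ1 (Set.toFinite _)
    have h2 : insert (1 : E) (MulAction.orbit Y w) ⊆ (U : Set E) := by
      intro x hx
      rcases hx with rfl | hx
      · exact one_mem U
      · exact Subgroup.subset_closure hx
    have h3 := Set.ncard_le_ncard h2 (Set.toFinite _)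
    rw [h1] at h3
    rw [Nat.card_coe_set_eq]
    have h4 : Nat.card U = (U : Set E).ncard := by
      rw [← Nat.card_coe_set_eq]; rfl
    rw [h4]
    exact h3
  have hUm : Nat.card E = Nat.card (E ⧸ U) * Nat.card U :=
    Subgroup.card_eq_card_quotient_mul_card_subgroup U
  have hmpos : 0 < Nat.card (E ⧸ U) := Nat.card_pos
  generalize Nat.card ↥(MulAction.orbit Y w) = n at *
  generalize Nat.card (E ⧸ U) = m at *
  generalize Nat.card U = c at *
  have hnm : (n + 1) * m ≤ 16 := by
    calc (n + 1) * m ≤ c * m := Nat.mul_le_mul_right m hnU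
      _ = m * c := Nat.mul_comm c m
      _ = Nat.card E := hUm.symm
      _ ≤ 16 := hE16
  have hn15 : n ≤ 15 := by nlinarith
  have hn : n = 1 ∨ n = 3 ∨ n = 7 := by
    interval_cases n <;> first | omega | (exfalso; revert hn21; decide)
  rcases hn with rfl | rfl | rfl
  · have hm : m ≤ 8 := by omega
    interval_cases m <;> (revert hdvd2; decide)
  · have hm : m ≤ 4 := by omega
    interval_cases m <;> (revert hdvd2; decide)
  · have hm : m ≤ 2 := by omega
    interval_cases m <;> (revert hdvd2; decide)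

end Cfsg.Agent.Lib.Helper6.A8V1
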