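import Mathlib
import Cfsg.Agent.S0144
import Cfsg.Agent.Lib.Helper3.A8V4

set_option autoImplicit false
set_option linter.unusedVariables false
set_option linter.unusedSectionVars false
set_option linter.style.longLine false
set_option linter.style.haveILetI false
set_option maxHeartbeats 1000000

/-!
# S3104, part (1), unit V5: a transitive non-solvable subgroup of `Alt(8)` has order divisible by `7`
-/

namespace Cfsg.Agent.Lib.Helper6.A8V5

open MulAction SubMulAction Equiv

/-- a group whose order divides `2 ^ 6 * 3 ^ 2` is solvable -/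
theorem solvable_of_dvd_576 {Y : Type*} [Group Y] [Finite Y] (h : Nat.card Y ∣ 576) :
    Group.IsSolvable Y := by
  have h576 : (576 : ℕ) = 2 ^ 6 * 3 ^ 2 := by norm_num
  rw [h576] at h
  obtain ⟨y, z, hy, hz, hyz⟩ := (Nat.dvd_mul).mp h
  obtain ⟨a, -, rfl⟩ := (Nat.dvd_prime_pow Nat.prime_two).mp hy
  obtain ⟨b, -, rfl⟩ := (Nat.dvd_prime_pow Nat.prime_three).mp hz
  exact Cfsg.Agent.S0144.result 2 3 a b Nat.prime_two Nat.prime_three hyz.symm

/-- a transitive subgroup of `Perm (Fin 8)` containing an element of order `5` has order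
divisible by `8 * 7 * 6 * 5` -/
theorem dvd_card_of_five (Y : Subgroup (Equiv.Perm (Fin 8)))
    [MulAction.IsPretransitive ↥Y (Fin 8)] (g : Equiv.Perm (Fin 8)) (hg : g ∈ Y)
    (h5 : orderOf g = 5) : 1680 ∣ Nat.card ↥Y := by
  classical
  have hprim : IsPreprimitive ↥Y (Fin 8) :=
    Cfsg.Agent.Lib.Helper3.A8V4.preprimitive_of_five Y g hg h5
  have hcyc : g.IsCycle := by
    apply Equiv.Perm.isCycle_of_prime_order'
    · rw [h5]; norm_num
    · rw [h5]; simp
  have hsupp : g.support.card = 5 := by rw [← hcyc.orderOf]; exact h5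
  have h4 : IsMultiplyPreprimitive ↥Y (Fin 8) (2 + 2) := by
    apply hprim.isMultiplyPreprimitive (s := ((g.support : Set (Fin 8))ᶜ))
    · apply Nat.add_left_cancel (n := (g.support : Set (Fin 8)).ncard)
      rw [Set.ncard_add_ncard_compl, Set.ncard_coe_finset, hsupp]
      simp
    · simp
    have := Equiv.Perm.isPretransitive_of_isCycle_mem hcyc hg
    apply IsPreprimitive.of_prime_card
    convert Nat.prime_five
    rw [Nat.card_eq_fintype_card, Fintype.card_subtype, ← hsupp]
    apply congr_arg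
    ext x
    simp [SubMulAction.mem_ofFixingSubgroup_iff]
  have h4t : IsMultiplyPretransitive ↥Y (Fin 8) 4 :=
    IsMultiplyPreprimitive.isMultiplyPretransitive ↥Y (Fin 8) 4
  have hs : ((({0, 1, 2, 3} : Finset (Fin 8)) : Set (Fin 8))).ncard = 4 := by
    rw [Set.ncard_coe_finset]
    rfl
  have hidx := h4t.index_of_fixingSubgroup_mul hs
  have h1680 : (fixingSubgroup ↥Y ((({0, 1, 2, 3} : Finset (Fin 8)) : Set (Fin 8)))).index
      = 1680 := by
    have h8 : Nat.card (Fin 8) = 8 := by simp
    rw [h8] at hidx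
    have h24 : (8 - 4).factorial = 24 := by decide
    have h40320 : (8 : ℕ).factorial = 40320 := by decide
    rw [h24, h40320] at hidx
    omega
  rw [← h1680]
  exact Subgroup.index_dvd_card _

theorem seven_dvd_card (Y : Subgroup (Equiv.Perm (Fin 8))) (hY : Y ≤ alternatingGroup (Fin 8))
    [MulAction.IsPretransitive ↥Y (Fin 8)] (hns : ¬ Group.IsSolvable ↥Y) : 7 ∣ Nat.card ↥Y := by
  classical
  by_contra h7
  have hcardA : Nat.card ↥(alternatingGroup (Fin 8)) = 20160 := by
    rw [nat_card_alternatingGroup]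
    simp
    decide
  have hdvd : Nat.card ↥Y ∣ 20160 := by
    rw [← hcardA]
    exact Subgroup.card_dvd_of_le hY
  by_cases h5 : 5 ∣ Nat.card ↥Y
  · haveI : Fact (Nat.Prime 5) := ⟨by norm_num⟩
    obtain ⟨g, hg⟩ := exists_prime_orderOf_dvd_card' 5 h5
    have hg' : orderOf (g : Equiv.Perm (Fin 8)) = 5 := by
      rw [Subgroup.orderOf_coe]; exact hg
    have h1680 := dvd_card_of_five Y (g : Equiv.Perm (Fin 8)) g.2 hg'
    exact h7 (Dvd.dvd.trans (by norm_num) h1680)
  · apply hns
    apply solvable_of_dvd_576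
    have hc7 : Nat.Coprime (Nat.card ↥Y) 7 :=
      Nat.coprime_comm.mp ((Nat.Prime.coprime_iff_not_dvd (by norm_num)).mpr h7)
    have hc5 : Nat.Coprime (Nat.card ↥Y) 5 :=
      Nat.coprime_comm.mp ((Nat.Prime.coprime_iff_not_dvd (by norm_num)).mpr h5)
    have h1 : Nat.card ↥Y ∣ 576 * 5 * 7 := by
      have : (576 * 5 * 7 : ℕ) = 20160 := by norm_num
      rw [this]; exact hdvd
    exact hc5.dvd_of_dvd_mul_right (hc7.dvd_of_dvd_mul_right h1)

end Cfsg.Agent.Lib.Helper6.A8V5
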