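import Mathlib
import Cfsg.Agent.S1190
import Cfsg.Agent.S1193
import Cfsg.Agent.S1197
import Cfsg.Agent.S1200
import Cfsg.Agent.S1201
import Cfsg.Agent.Lib.Helper2.QDFour
import Cfsg.Agent.Lib.Helper2.DihedralFour
import Cfsg.Agent.Lib.Helper1.Nilpotent

set_option autoImplicit false

/-!
# Quasi-dihedral and wreathed 2-groups: normal subgroups containing all involutions
-/

namespace Cfsg.Agent.Lib.Helper6.ABG2

open Cfsg

variable {T : Type*} [Group T] [Finite T]

/-- In a finite `2`-group, if `Z(R)` is cyclic then any two nontrivial normal subgroups of `R`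
intersect nontrivially. -/
theorem inf_ne_bot_of_cyclic_center (hT : IsPGroup 2 T) (R : Subgroup T)
    (hZ : IsCyclic (Subgroup.center ↥R))
    (A B : Subgroup T) (hA : A ≤ R) (hB : B ≤ R) (hAne : A ≠ ⊥) (hBne : B ≠ ⊥)
    (hAn : ∀ r ∈ R, ∀ a ∈ A, r * a * r⁻¹ ∈ A) (hBn : ∀ r ∈ R, ∀ b ∈ B, r * b * r⁻¹ ∈ B) :
    A ⊓ B ≠ ⊥ := by
  classical
  haveI : Fact (Nat.Prime 2) := ⟨Nat.prime_two⟩
  have hR : IsPGroup 2 ↥R := hT.to_subgroup R
  haveI : Group.IsNilpotent ↥R := hR.isNilpotent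
  -- a central involution inside a normal subgroup
  have key : ∀ A : Subgroup T, A ≤ R → A ≠ ⊥ → (∀ r ∈ R, ∀ a ∈ A, r * a * r⁻¹ ∈ A) →
      ∃ c : ↥R, c ∈ Subgroup.center ↥R ∧ (c : T) ∈ A ∧ c ≠ 1 ∧ c ^ 2 = 1 := by
    intro A hA hAne hAn
    haveI hn : (A.subgroupOf R).Normal := by
      refine ⟨fun n hn r => ?_⟩
      rw [Subgroup.mem_subgroupOf] at hn ⊢
      exact hAn r r.2 n hn
    have hne : A.subgroupOf R ≠ ⊥ := by
      obtain ⟨a, ha1⟩ := (Subgroup.ne_bot_iff_exists_ne_one).1 hAne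
      intro h
      have hmem : (⟨a, hA a.2⟩ : ↥R) ∈ A.subgroupOf R := by
        rw [Subgroup.mem_subgroupOf]; exact a.2
      rw [h, Subgroup.mem_bot] at hmem
      apply ha1
      have := congrArg Subtype.val hmem
      exact Subtype.ext this
    have h1 := Cfsg.Agent.Lib.Helper1.normal_inf_center_ne_bot (A.subgroupOf R) hne
    obtain ⟨c, hc1⟩ := (Subgroup.ne_bot_iff_exists_ne_one).1 h1
    have hc1' : (c : ↥R) ≠ 1 := fun h => hc1 (Subtype.ext h)
    obtain ⟨k, hk⟩ := (IsPGroup.iff_orderOf.1 hR) (c : ↥R)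
    have hk0 : k ≠ 0 := by
      intro h0
      rw [h0, pow_zero, orderOf_eq_one_iff] at hk
      exact hc1' hk
    obtain ⟨j, rfl⟩ := Nat.exists_eq_succ_of_ne_zero hk0
    have ho : orderOf ((c : ↥R) ^ (2 ^ j)) = 2 := by
      rw [orderOf_pow_of_dvd (pow_ne_zero j two_ne_zero) (by rw [hk]; exact pow_dvd_pow 2 (Nat.le_succ j)),
        hk, pow_succ, Nat.mul_div_cancel_left _ (pow_pos two_pos j)]
    have hc2 : (c : ↥R) ∈ A.subgroupOf R ⊓ Subgroup.center ↥R := c.2
    have hm1 : (c : ↥R) ^ (2 ^ j) ∈ A.subgroupOf R :=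
      (A.subgroupOf R).pow_mem (Subgroup.mem_inf.1 hc2).1 _
    have hm2 : (c : ↥R) ^ (2 ^ j) ∈ Subgroup.center ↥R :=
      (Subgroup.center ↥R).pow_mem (Subgroup.mem_inf.1 hc2).2 _
    refine ⟨(c : ↥R) ^ (2 ^ j), hm2, Subgroup.mem_subgroupOf.1 hm1, ?_, ?_⟩
    · intro h
      rw [h, orderOf_one] at ho
      omega
    · have := pow_orderOf_eq_one ((c : ↥R) ^ (2 ^ j))
      rwa [ho] at this
  obtain ⟨a, haZ, haA, ha1, ha2⟩ := key A hA hAne hAn
  obtain ⟨b, hbZ, hbB, hb1, hb2⟩ := key B hB hBne hBn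
  -- in the cyclic centre there is at most one involution
  have hab : a = b := by
    by_contra hne
    letI : Fintype (Subgroup.center ↥R) := Fintype.ofFinite _
    have hle := IsCyclic.card_pow_eq_one_le (α := Subgroup.center ↥R) (n := 2) two_pos
    let a' : Subgroup.center ↥R := ⟨a, haZ⟩
    let b' : Subgroup.center ↥R := ⟨b, hbZ⟩
    have hsub : ({1, a', b'} : Finset (Subgroup.center ↥R)) ⊆
        Finset.univ.filter (fun z : Subgroup.center ↥R => z ^ 2 = 1) := by
      intro z hz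
      simp only [Finset.mem_insert, Finset.mem_singleton] at hz
      simp only [Finset.mem_filter, Finset.mem_univ, true_and]
      rcases hz with rfl | rfl | rfl
      · exact one_pow 2
      · exact Subtype.ext ha2
      · exact Subtype.ext hb2
    have hcard : ({1, a', b'} : Finset (Subgroup.center ↥R)).card = 3 := by
      rw [Finset.card_eq_three]
      refine ⟨1, a', b', ?_, ?_, ?_, rfl⟩
      · intro h; exact ha1 (congrArg Subtype.val h).symm
      · intro h; exact hb1 (congrArg Subtype.val h).symm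
      · intro h; exact hne (congrArg Subtype.val h)
    have := Finset.card_le_card hsub
    omega
  intro hbot
  have hmem : (a : T) ∈ A ⊓ B := ⟨haA, by rw [hab]; exact hbB⟩
  rw [hbot, Subgroup.mem_bot] at hmem
  exact ha1 (Subtype.ext hmem)


/-- elements of a Klein four-subgroup are trivial or involutions -/
theorem kleinFour_le_of_invol (U R : Subgroup T) [hU : IsKleinFour U]
    (hR : ∀ t : T, orderOf t = 2 → t ∈ R) : U ≤ R := by
  intro u hu
  by_cases h1 : u = 1
  · rw [h1]; exact R.one_mem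
  · apply hR
    have hexp : Monoid.exponent ↥U = 2 := IsKleinFour.exponent_two
    have h2 : (⟨u, hu⟩ : ↥U) ^ 2 = 1 := by
      rw [← hexp]; exact Monoid.pow_exponent_eq_one _
    have h2' : u ^ 2 = 1 := by
      have := congrArg Subtype.val h2
      simpa using this
    exact orderOf_eq_prime h2' h1

theorem card_le_two_isCyclic {Z : Type*} [Group Z] [Finite Z] (h : Nat.card Z ≤ 2) : IsCyclic Z := by
  have hpos : 0 < Nat.card Z := Nat.card_pos
  have h12 : Nat.card Z = 1 ∨ Nat.card Z = 2 := by omega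
  rcases h12 with h1 | h2
  · haveI : Subsingleton Z := (Nat.card_eq_one_iff_unique.1 h1).1
    exact isCyclic_of_subsingleton
  · haveI : Fact (Nat.Prime 2) := ⟨Nat.prime_two⟩
    exact isCyclic_of_prime_card h2

/-- The quasi-dihedral case. -/
theorem qd_good (hS : Cfsg.IsQuasiDihedral T) (R : Subgroup T)
    (hR : ∀ t : T, orderOf t = 2 → t ∈ R) :
    IsCyclic (Subgroup.center ↥R) ∧ (∃ s : T, R ⊔ Subgroup.zpowers s = ⊤) ∧
      (∃ a ∈ R, ∃ b ∈ R, a * b ≠ b * a) := by
  classical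
  obtain ⟨n, x, y, hq⟩ := Cfsg.Agent.Lib.Lead.QDCore.exists_QD hS
  obtain ⟨-, h1190⟩ := Cfsg.Agent.S1190.result hS
  -- a first Klein four-subgroup
  set T₁ : Subgroup T := Cfsg.Agent.Lib.Helper2.QDFour.fourT hq 0 ⟨0, by ring⟩ with hT₁
  haveI hK₁ : IsKleinFour ↥T₁ := Cfsg.Agent.Lib.Helper2.QDFour.isKleinFour_fourT hq 0 ⟨0, by ring⟩
  obtain ⟨hC₁, hN₁⟩ := h1190 T₁ hK₁
  have hcardT₁ : Nat.card T₁ = 4 := IsKleinFour.card_four
  -- its normalizer has order 8
  have hcardN : Nat.card (Subgroup.normalizer ((T₁ : Subgroup T) : Set T)) = 8 := by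
    have h1 := (T₁.subgroupOf (Subgroup.normalizer ((T₁ : Subgroup T) : Set T))).card_mul_index
    have h2 : Nat.card (T₁.subgroupOf (Subgroup.normalizer ((T₁ : Subgroup T) : Set T))) = 4 := by
      rw [← hcardT₁]
      exact Nat.card_congr (Subgroup.subgroupOfEquivOfLe Subgroup.le_normalizer).toEquiv
    rw [h2] at h1
    have h3 : (T₁.subgroupOf (Subgroup.normalizer ((T₁ : Subgroup T) : Set T))).index = 2 := hN₁
    rw [h3] at h1
    omega
  have hcardT : 16 ≤ Nat.card T := by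
    rw [hq.card]
    have h3 := hq.hn
    calc 16 = 2 ^ 4 := by norm_num
      _ ≤ 2 ^ (n + 1) := Nat.pow_le_pow_right two_pos (by omega)
  have hNtop : Subgroup.normalizer ((T₁ : Subgroup T) : Set T) ≠ ⊤ := by
    intro h
    rw [h, Subgroup.card_top] at hcardN
    omega
  obtain ⟨s, hs⟩ : ∃ s : T, s ∉ Subgroup.normalizer ((T₁ : Subgroup T) : Set T) := by
    by_contra hall
    rw [not_exists] at hall
    exact hNtop (eq_top_iff.2 (fun s _ => not_not.1 (hall s)))
  set T₂ : Subgroup T := T₁.map (MulAut.conj s).toMonoidHom with hT₂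
  haveI hK₂ : IsKleinFour ↥T₂ :=
    Cfsg.Agent.Lib.Helper2.DihedralFour.isKleinFour_map _ (MulAut.conj s).injective T₁
  have hcardT₂ : Nat.card T₂ = 4 := IsKleinFour.card_four
  obtain ⟨hC₂, -⟩ := h1190 T₂ hK₂
  have hne : T₂ ≠ T₁ := by
    intro h
    apply hs
    rw [Subgroup.mem_normalizer_iff]
    intro h'
    constructor
    · intro hh
      have : s * h' * s⁻¹ ∈ T₂ := ⟨h', hh, rfl⟩
      rw [h] at this
      exact this
    · intro hh
      have hh2 : s * h' * s⁻¹ ∈ T₂ := by rw [h]; exact hh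
      obtain ⟨h'', hh'', he⟩ := hh2
      have he' : s * h'' * s⁻¹ = s * h' * s⁻¹ := he
      have : h'' = h' := by
        have := congrArg (fun z => s⁻¹ * z * s) he'
        simpa [mul_assoc] using this
      rw [← this]; exact hh''
  have hT₁R : T₁ ≤ R := kleinFour_le_of_invol T₁ R hR
  have hT₂R : T₂ ≤ R := kleinFour_le_of_invol T₂ R hR
  have hnotle : ¬ T₂ ≤ T₁ := by
    intro hle
    apply hne
    exact Subgroup.eq_of_le_of_card_ge hle (by rw [hcardT₁, hcardT₂])
  refine ⟨?_, ?_, ?_⟩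
  · -- the centre of `R` lies in `T₁ ⊓ T₂`
    apply card_le_two_isCyclic
    have hmap : (Subgroup.center ↥R).map R.subtype ≤ T₁ ⊓ T₂ := by
      rintro _ ⟨z, hz', rfl⟩
      have hz := Subgroup.mem_center_iff.1 hz'
      refine Subgroup.mem_inf.2 ⟨?_, ?_⟩
      · rw [← hC₁]
        refine Subgroup.mem_centralizer_iff.2 ?_
        intro u hu
        have := hz ⟨u, hT₁R hu⟩
        exact congrArg Subtype.val this
      · rw [← hC₂]
        refine Subgroup.mem_centralizer_iff.2 ?_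
        intro u hu
        have := hz ⟨u, hT₂R hu⟩
        exact congrArg Subtype.val this
    have hcard1 : Nat.card (Subgroup.center ↥R) ≤ Nat.card ↥(T₁ ⊓ T₂) := by
      rw [← Subgroup.card_map_of_injective R.subtype_injective]
      exact Subgroup.card_le_of_le hmap
    have hdvd : Nat.card ↥(T₁ ⊓ T₂) ∣ 4 := by
      rw [← hcardT₂]; exact Subgroup.card_dvd_of_le inf_le_right
    have hne4 : Nat.card ↥(T₁ ⊓ T₂) ≠ 4 := by
      intro h4
      apply hnotle
      have : T₁ ⊓ T₂ = T₂ := Subgroup.eq_of_le_of_card_ge inf_le_right (by rw [h4, hcardT₂])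
      exact inf_eq_right.1 this
    have hle4 : Nat.card ↥(T₁ ⊓ T₂) ≤ 4 := Nat.le_of_dvd (by norm_num) hdvd
    have : Nat.card ↥(T₁ ⊓ T₂) ≤ 2 := by
      interval_cases h : Nat.card ↥(T₁ ⊓ T₂)
      · omega
      · omega
      · omega
      · norm_num at hdvd
      · exact absurd rfl hne4
    omega
  · -- `R` has index at most 2
    obtain ⟨-, -, -, -, ⟨e⟩⟩ := Cfsg.Agent.S1193.result hS n hq.card
    have hΩcard : Nat.card ↥(Subgroup.closure {x : T | orderOf x = 2}) = 2 ^ n := by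
      rw [Nat.card_congr e.toEquiv, DihedralGroup.nat_card]
      have h3 := hq.hn
      obtain ⟨m, rfl⟩ : ∃ m, n = m + 1 := ⟨n - 1, by omega⟩
      rw [Nat.add_sub_cancel, pow_succ]; ring
    have hΩR : Subgroup.closure {x : T | orderOf x = 2} ≤ R := by
      rw [Subgroup.closure_le]
      intro t ht
      exact hR t ht
    by_cases htop : R = ⊤
    · exact ⟨1, by rw [htop]; exact top_sup_eq _⟩
    · obtain ⟨s', hs'⟩ : ∃ s' : T, s' ∉ R := by
        by_contra hall
        rw [not_exists] at hall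
        exact htop (eq_top_iff.2 (fun s _ => not_not.1 (hall s)))
      refine ⟨s', ?_⟩
      apply Subgroup.eq_top_of_le_card
      rw [hq.card]
      -- `2^n ∣ |R|`, `|R| ∣ |R ⊔ ⟨s'⟩|`, proper
      have h1 : 2 ^ n ∣ Nat.card ↥(R ⊔ Subgroup.zpowers s') := by
        rw [← hΩcard]
        exact Subgroup.card_dvd_of_le (le_trans hΩR le_sup_left)
      have h2 : Nat.card ↥(R ⊔ Subgroup.zpowers s') ∣ 2 ^ (n + 1) := by
        rw [← hq.card]; exact Subgroup.card_subgroup_dvd_card _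
      have h3 : Nat.card ↥(R ⊔ Subgroup.zpowers s') ≠ 2 ^ n := by
        intro h
        apply hs'
        have hRcard : 2 ^ n ≤ Nat.card R := by
          rw [← hΩcard]; exact Subgroup.card_le_of_le hΩR
        have : R = R ⊔ Subgroup.zpowers s' :=
          Subgroup.eq_of_le_of_card_ge le_sup_left (by rw [h]; exact hRcard)
        rw [this]
        exact le_sup_right (a := R) (Subgroup.mem_zpowers s')
      obtain ⟨j, hj, hj'⟩ := (Nat.dvd_prime_pow Nat.prime_two).1 h2
      rw [hj'] at h1 h3 ⊢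
      have hnj : n ≤ j := (Nat.pow_dvd_pow_iff_le_right (by norm_num)).1 h1
      have : j ≠ n := fun h => h3 (by rw [h])
      have : j = n + 1 := by omega
      rw [this]
  · by_contra hall
    apply hnotle
    intro u hu
    rw [← hC₁, Subgroup.mem_centralizer_iff]
    intro v hv
    by_contra hne'
    exact hall ⟨v, hT₁R hv, u, hT₂R hu, hne'⟩


/-- The wreathed case. -/
theorem wr_good (hS : Cfsg.IsWreathed T) (R : Subgroup T)
    (hR : ∀ t : T, orderOf t = 2 → t ∈ R) :
    IsCyclic (Subgroup.center ↥R) ∧ (∃ s : T, R ⊔ Subgroup.zpowers s = ⊤) ∧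
      (∃ a ∈ R, ∃ b ∈ R, a * b ≠ b * a) := by
  classical
  obtain ⟨n, x, y, z, hw⟩ := Cfsg.Agent.Lib.Lead.WRCore.exists_WR hS
  -- two non-commuting involutions
  have hz2 : z * z = 1 := by
    have := pow_orderOf_eq_one z
    rw [hw.oz, pow_two] at this
    exact this
  have hzinv : z⁻¹ = z := inv_eq_of_mul_eq_one_left hz2
  have hy : y = z * x * z := by
    have := hw.rel
    rw [hzinv] at this
    exact this.symm
  have hyinv : y⁻¹ = z * x⁻¹ * z := by
    rw [hy]
    simp only [mul_inv_rev, hzinv, mul_assoc]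
  have hoz' : orderOf (x * z * x⁻¹) = 2 := by
    have := MulEquiv.orderOf_eq (MulAut.conj x) z
    rw [MulAut.conj_apply] at this
    rw [this, hw.oz]
  have hnc : z * (x * z * x⁻¹) ≠ (x * z * x⁻¹) * z := by
    intro h
    have h1 : y * x⁻¹ = x * y⁻¹ := by
      rw [hyinv, hy]
      calc z * x * z * x⁻¹ = z * (x * z * x⁻¹) := by group
        _ = (x * z * x⁻¹) * z := h
        _ = x * (z * x⁻¹ * z) := by group
    have h2 : y * y = x * x := by
      calc y * y = (y * x⁻¹) * (x * y) := by group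
        _ = (x * y⁻¹) * (x * y) := by rw [h1]
        _ = (x * y⁻¹) * (y * x) := by rw [hw.comm]
        _ = x * x := by group
    have h3 : x * x ∈ Subgroup.zpowers x ⊓ Subgroup.zpowers y := by
      refine Subgroup.mem_inf.2 ⟨?_, ?_⟩
      · exact (Subgroup.zpowers x).mul_mem (Subgroup.mem_zpowers x) (Subgroup.mem_zpowers x)
      · rw [← h2]
        exact (Subgroup.zpowers y).mul_mem (Subgroup.mem_zpowers y) (Subgroup.mem_zpowers y)
    rw [hw.disj, Subgroup.mem_bot] at h3
    have h4 : orderOf x ∣ 2 := by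
      apply orderOf_dvd_of_pow_eq_one
      rw [pow_two]; exact h3
    rw [hw.ox] at h4
    have h5 : 2 ^ n ≤ 2 := Nat.le_of_dvd two_pos h4
    have h6 : 2 ^ 2 ≤ 2 ^ n := Nat.pow_le_pow_right two_pos hw.hn
    omega
  have hzR : z ∈ R := hR z hw.oz
  have hz'R : x * z * x⁻¹ ∈ R := hR _ hoz'
  have hncR : ¬ IsMulCommutative ↥R := by
    intro hc
    apply hnc
    have := hc.is_comm.comm (⟨z, hzR⟩ : ↥R) ⟨x * z * x⁻¹, hz'R⟩
    exact congrArg Subtype.val this
  refine ⟨?_, ?_, ⟨z, hzR, x * z * x⁻¹, hz'R, hnc⟩⟩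
  · have h1201 := Cfsg.Agent.S1201.result hS R hncR
    obtain ⟨hZc, -⟩ := Cfsg.Agent.S1197.result hS n hw.card
    haveI := hZc
    let f : Subgroup.center ↥R →* Subgroup.center T :=
      (R.subtype.comp (Subgroup.center ↥R).subtype).codRestrict (Subgroup.center T)
        (fun c => h1201 ⟨c, c.2, rfl⟩)
    have hf : Function.Injective f := by
      intro c d hcd
      have h1 : ((c : ↥R) : T) = ((d : ↥R) : T) := by
        have := congrArg Subtype.val hcd
        simpa [f] using this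
      exact Subtype.ext (Subtype.ext h1)
    exact isCyclic_of_injective f hf
  · obtain ⟨-, s, hs⟩ := Cfsg.Agent.S1200.result hS n hw.card
    refine ⟨s, ?_⟩
    have hΩR : Subgroup.closure {x : T | orderOf x = 2} ≤ R := by
      rw [Subgroup.closure_le]
      intro t ht
      exact hR t ht
    rw [eq_top_iff, ← hs]
    exact sup_le_sup_right hΩR _

/-- Both cases together. -/
theorem two_group_good (hS : Cfsg.IsQuasiDihedral T ∨ Cfsg.IsWreathed T) (R : Subgroup T)
    (hR : ∀ t : T, orderOf t = 2 → t ∈ R) :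
    (∀ A B : Subgroup T, A ≤ R → B ≤ R → A ≠ ⊥ → B ≠ ⊥ →
        (∀ r ∈ R, ∀ a ∈ A, r * a * r⁻¹ ∈ A) → (∀ r ∈ R, ∀ b ∈ B, r * b * r⁻¹ ∈ B) →
        A ⊓ B ≠ ⊥) ∧
      (∃ s : T, R ⊔ Subgroup.zpowers s = ⊤) ∧ (∃ a ∈ R, ∃ b ∈ R, a * b ≠ b * a) := by
  have hT : IsPGroup 2 T := by
    rcases hS with ⟨n, -, hc, -⟩ | ⟨n, -, hc, -⟩
    · exact IsPGroup.of_card hc
    · exact IsPGroup.of_card hc
  have h : IsCyclic (Subgroup.center ↥R) ∧ (∃ s : T, R ⊔ Subgroup.zpowers s = ⊤) ∧
      (∃ a ∈ R, ∃ b ∈ R, a * b ≠ b * a) := by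
    rcases hS with hS | hS
    · exact qd_good hS R hR
    · exact wr_good hS R hR
  obtain ⟨hZ, hs, hab⟩ := h
  exact ⟨fun A B hA hB hAne hBne hAn hBn =>
    inf_ne_bot_of_cyclic_center hT R hZ A B hA hB hAne hBne hAn hBn, hs, hab⟩

end Cfsg.Agent.Lib.Helper6.ABG2
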