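import Mathlib
import Cfsg.Agent.Lib.Helper6.ABGSimple
import Cfsg.Agent.Lib.Helper6.ABGTwoGroup
import Cfsg.Agent.Lib.Helper1.PLengthOne
import Cfsg.Agent.Lib.Helper2.WRJ

set_option autoImplicit false

/-!
# Glue for the Alperin–Brauer–Gorenstein simple-normal-subgroup statement
-/

namespace Cfsg.Agent.Lib.Helper6.ABG

open Cfsg

variable {X : Type*} [Group X] [Finite X]

/-- A subgroup of quasi-dihedral or wreathed type is a `GoodSylow`. -/
theorem goodSylow_of_type (P : Subgroup X)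
    (h : Cfsg.IsQuasiDihedral ↥P ∨ Cfsg.IsWreathed ↥P) : GoodSylow P := by
  intro R hRP hRn hRinv
  have hR' : ∀ t : ↥P, orderOf t = 2 → t ∈ R.subgroupOf P := by
    intro t ht
    rw [Subgroup.mem_subgroupOf]
    apply hRinv _ t.2
    rw [Subgroup.orderOf_coe]; exact ht
  obtain ⟨hA, ⟨s, hs⟩, ⟨a, ha, b, hb, hab⟩⟩ :=
    Cfsg.Agent.Lib.Helper6.ABG2.two_group_good h (R.subgroupOf P) hR'
  refine ⟨?_, ⟨(s : X), s.2, ?_⟩, ⟨(a : X), Subgroup.mem_subgroupOf.1 ha, (b : X),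
    Subgroup.mem_subgroupOf.1 hb, fun h' => hab (Subtype.ext h')⟩⟩
  · intro A B hAR hBR hAne hBne hAn hBn
    have hsub : ∀ C : Subgroup X, C ≤ R → C ≠ ⊥ → C.subgroupOf P ≠ ⊥ := by
      intro C hCR hCne hbot
      apply hCne
      rw [eq_bot_iff]
      intro c hc
      have hm : (⟨c, hRP (hCR hc)⟩ : ↥P) ∈ C.subgroupOf P := Subgroup.mem_subgroupOf.2 hc
      rw [hbot, Subgroup.mem_bot] at hm
      rw [Subgroup.mem_bot]
      exact congrArg Subtype.val hm
    have key := hA (A.subgroupOf P) (B.subgroupOf P)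
      (fun c hc => Subgroup.mem_subgroupOf.2 (hAR (Subgroup.mem_subgroupOf.1 hc)))
      (fun c hc => Subgroup.mem_subgroupOf.2 (hBR (Subgroup.mem_subgroupOf.1 hc)))
      (hsub A hAR hAne) (hsub B hBR hBne)
      (fun r hr c hc => Subgroup.mem_subgroupOf.2
        (hAn r (Subgroup.mem_subgroupOf.1 hr) c (Subgroup.mem_subgroupOf.1 hc)))
      (fun r hr c hc => Subgroup.mem_subgroupOf.2
        (hBn r (Subgroup.mem_subgroupOf.1 hr) c (Subgroup.mem_subgroupOf.1 hc)))
    intro hbot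
    apply key
    rw [eq_bot_iff]
    intro c hc
    have hc' : (c : X) ∈ A ⊓ B :=
      ⟨Subgroup.mem_subgroupOf.1 (Subgroup.mem_inf.1 hc).1,
        Subgroup.mem_subgroupOf.1 (Subgroup.mem_inf.1 hc).2⟩
    rw [hbot, Subgroup.mem_bot] at hc'
    rw [Subgroup.mem_bot]
    exact Subtype.ext hc'
  · intro p hp
    have hmem : (⟨p, hp⟩ : ↥P) ∈ R.subgroupOf P ⊔ Subgroup.zpowers s := by
      rw [hs]; exact Subgroup.mem_top _
    have hmap : (R.subgroupOf P ⊔ Subgroup.zpowers s).map P.subtype ≤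
        R ⊔ Subgroup.zpowers (s : X) := by
      rw [Subgroup.map_sup, MonoidHom.map_zpowers]
      apply sup_le_sup_right
      rintro _ ⟨c, hc, rfl⟩
      exact Subgroup.mem_subgroupOf.1 hc
    exact hmap ⟨⟨p, hp⟩, hmem, rfl⟩

/-- Involutions of `G / O(G)` lift to involutions of `G`. -/
theorem exists_lift_invol {G : Type*} [Group G] [Finite G] (t : G ⧸ Cfsg.oddCore G)
    (ht : orderOf t = 2) : ∃ g : G, orderOf g = 2 ∧ QuotientGroup.mk' (Cfsg.oddCore G) g = t := by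
  obtain ⟨g, rfl⟩ := QuotientGroup.mk'_surjective (Cfsg.oddCore G) t
  set m := Nat.card (Cfsg.oddCore G) with hm
  have hcop : m.Coprime 2 := Cfsg.Agent.Lib.Helper1.pPrimeCore_card_coprime 2
  have hodd : Odd m := Nat.Coprime.odd_of_right hcop
  obtain ⟨k, hk⟩ := hodd
  have ht2 : (QuotientGroup.mk' (Cfsg.oddCore G) g) ^ 2 = 1 := by
    have := pow_orderOf_eq_one (QuotientGroup.mk' (Cfsg.oddCore G) g)
    rwa [ht] at this
  have ht1 : QuotientGroup.mk' (Cfsg.oddCore G) g ≠ 1 := by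
    intro h
    rw [h, orderOf_one] at ht
    omega
  have hg2 : g ^ 2 ∈ Cfsg.oddCore G := by
    rw [← QuotientGroup.eq_one_iff, ← ht2]
    rfl
  have himg : QuotientGroup.mk' (Cfsg.oddCore G) (g ^ m) = QuotientGroup.mk' (Cfsg.oddCore G) g := by
    rw [map_pow, hk, pow_succ, pow_mul, ht2, one_pow, one_mul]
  refine ⟨g ^ m, ?_, himg⟩
  apply orderOf_eq_prime
  · rw [← pow_mul, mul_comm, pow_mul]
    have := pow_card_eq_one' (G := ↥(Cfsg.oddCore G)) (x := ⟨g ^ 2, hg2⟩)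
    have h2 := congrArg Subtype.val this
    rw [Subgroup.coe_pow, Subgroup.coe_one] at h2
    exact h2
  · intro h
    apply ht1
    rw [← himg, h, map_one]

end Cfsg.Agent.Lib.Helper6.ABG
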