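import Mathlib
import Cfsg.Agent.Lib.Helper7.ALT8Defs

/-!
Farm ALT8 (S2928): units U4a (threeCycle7, key42), the symmetries of `V4in`, `swap_disjoint_iff`.
-/

set_option autoImplicit false

namespace Cfsg.Agent.Lib.Helper6.ALT8

open Equiv Equiv.Perm Cfsg.Agent.Lib.Helper7.ALT8

variable {D : Type*} [Fintype D] [DecidableEq D]

/-- U4a. -/
theorem threeCycle7 {u v b c w e f : D} (hnd : [u, v, b, c, w, e, f].Nodup) :
    (swap u v * swap b c * (swap u w * swap e f)) ^ 2 = swap u w * swap u v := by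
  simp only [List.nodup_cons, List.mem_cons, List.not_mem_nil, or_false, not_or,
    List.nodup_nil, and_true] at hnd
  obtain ⟨⟨huv, hub, huc, huw, hue, huf⟩, ⟨hvb, hvc, hvw, hve, hvf⟩, ⟨hbc, hbw, hbe, hbf⟩,
    ⟨hcw, hce, hcf⟩, ⟨hwe, hwf⟩, hef⟩ := hnd
  ext x
  simp only [pow_two, Perm.mul_apply]
  by_cases hxu : x = u
  · subst hxu
    simp [swap_apply_of_ne_of_ne, *, Ne.symm]
  by_cases hxv : x = v
  · subst hxv
    simp [swap_apply_of_ne_of_ne, *, Ne.symm]
  by_cases hxb : x = b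
  · subst hxb
    simp [swap_apply_of_ne_of_ne, *, Ne.symm]
  by_cases hxc : x = c
  · subst hxc
    simp [swap_apply_of_ne_of_ne, *, Ne.symm]
  by_cases hxw : x = w
  · subst hxw
    simp [swap_apply_of_ne_of_ne, *, Ne.symm]
  by_cases hxe : x = e
  · subst hxe
    simp [swap_apply_of_ne_of_ne, *, Ne.symm]
  by_cases hxf : x = f
  · subst hxf
    simp [swap_apply_of_ne_of_ne, *, Ne.symm]
  simp [swap_apply_of_ne_of_ne, *]

/-- (4.2) -/
theorem key42 {X : Subgroup (Perm D)} (no3 : No3 X) {u v b c w e f : D}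
    (hnd : [u, v, b, c, w, e, f].Nodup) (h1 : swap u v * swap b c ∈ X)
    (h2 : swap u w * swap e f ∈ X) : False := by
  have h3 : (swap u v * swap b c * (swap u w * swap e f)) ^ 2 ∈ X :=
    X.pow_mem (X.mul_mem h1 h2) 2
  rw [threeCycle7 hnd] at h3
  simp only [List.nodup_cons, List.mem_cons, List.not_mem_nil, or_false, not_or,
    List.nodup_nil, and_true] at hnd
  obtain ⟨⟨huv, hub, huc, huw, hue, huf⟩, ⟨hvb, hvc, hvw, hve, hvf⟩, -⟩ := hnd
  refine no3 _ h3 ?_
  exact Equiv.Perm.isThreeCycle_swap_mul_swap_same huw huv (Ne.symm hvw)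

/-- the product of two of the involutions of the four-group is the third -/
theorem four_mul {a0 a1 a2 a3 : D} (h01 : a0 ≠ a1) (h02 : a0 ≠ a2) (h03 : a0 ≠ a3)
    (h12 : a1 ≠ a2) (h13 : a1 ≠ a3) (h23 : a2 ≠ a3) :
    swap a0 a1 * swap a2 a3 * (swap a0 a2 * swap a1 a3) = swap a0 a3 * swap a1 a2 := by
  ext x
  simp only [Perm.mul_apply]
  by_cases hx0 : x = a0
  · subst hx0
    simp [swap_apply_of_ne_of_ne, *, Ne.symm]
  by_cases hx1 : x = a1
  · subst hx1
    simp [swap_apply_of_ne_of_ne, *, Ne.symm]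
  by_cases hx2 : x = a2
  · subst hx2
    simp [swap_apply_of_ne_of_ne, *, Ne.symm]
  by_cases hx3 : x = a3
  · subst hx3
    simp [swap_apply_of_ne_of_ne, *, Ne.symm]
  simp [swap_apply_of_ne_of_ne, *]

/-- the third involution of the four-group, and the symmetries of the hypotheses -/
theorem V4in.hw {X : Subgroup (Perm D)} {a0 a1 a2 a3 : D} (hV : V4in X a0 a1 a2 a3) :
    swap a0 a3 * swap a1 a2 ∈ X := by
  rw [← four_mul hV.h01 hV.h02 hV.h03 hV.h12 hV.h13 hV.h23]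
  exact X.mul_mem hV.hx hV.hz

theorem V4in.rot {X : Subgroup (Perm D)} {a0 a1 a2 a3 : D} (hV : V4in X a0 a1 a2 a3) :
    V4in X a0 a2 a3 a1 where
  h01 := hV.h02
  h02 := hV.h03
  h03 := hV.h01
  h12 := hV.h23
  h13 := Ne.symm hV.h12
  h23 := Ne.symm hV.h13
  hx := by rw [swap_comm a3 a1]; exact hV.hz
  hz := by rw [swap_comm a2 a1]; exact V4in.hw hV

theorem V4in.flip {X : Subgroup (Perm D)} {a0 a1 a2 a3 : D} (hV : V4in X a0 a1 a2 a3) :
    V4in X a0 a1 a3 a2 where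
  h01 := hV.h01
  h02 := hV.h03
  h03 := hV.h02
  h12 := hV.h13
  h13 := hV.h12
  h23 := Ne.symm hV.h23
  hx := by rw [swap_comm a3 a2]; exact hV.hx
  hz := V4in.hw hV

/-- U4b. -/
theorem swap_disjoint_iff {a b c d : D} (hab : a ≠ b) (hcd : c ≠ d) :
    (swap a b).Disjoint (swap c d) ↔ a ≠ c ∧ a ≠ d ∧ b ≠ c ∧ b ≠ d := by
  rw [disjoint_iff_disjoint_support, support_swap hab, support_swap hcd]
  simp only [Finset.disjoint_insert_left, Finset.disjoint_singleton_left, Finset.mem_insert,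
    Finset.mem_singleton, not_or]
  tauto

end Cfsg.Agent.Lib.Helper6.ALT8
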