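import Mathlib
import Cfsg.Agent.Lib.Helper7.ALT8Defs
import Cfsg.Agent.Lib.Helper6.ALT8U4a

/-!
Farm ALT8 (S2928): units U4b (rel_symm, rel_conj, rel_trans) and U4c (cls_card_eq).
-/

set_option autoImplicit false

namespace Cfsg.Agent.Lib.Helper6.ALT8

open Equiv Equiv.Perm Cfsg.Agent.Lib.Helper7.ALT8

variable {D : Type*} [Fintype D] [DecidableEq D]

theorem rel_symm {X : Subgroup (Perm D)} {σ τ : Perm D} (h : rel X σ τ) : rel X τ σ := by
  rcases h with h | ⟨hd, hm⟩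
  · exact Or.inl h.symm
  · refine Or.inr ⟨hd.symm, ?_⟩
    rw [← hd.commute.eq]
    exact hm

theorem rel_conj {X : Subgroup (Perm D)} {g : Perm D} (hg : g ∈ X) {σ τ : Perm D}
    (h : rel X σ τ) : rel X (g * σ * g⁻¹) (g * τ * g⁻¹) := by
  rcases h with h | ⟨hd, hm⟩
  · exact Or.inl (by rw [h])
  · refine Or.inr ⟨(disjoint_conj g).mpr hd, ?_⟩
    have h1 : g * σ * g⁻¹ * (g * τ * g⁻¹) = g * (σ * τ) * g⁻¹ := by group
    rw [h1]
    exact X.mul_mem (X.mul_mem hg hm) (X.inv_mem hg)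

/-- two distinct transpositions are disjoint or their product is a 3-cycle -/
theorem swap_eq_or_disjoint_or_threeCycle {σ ρ : Perm D} (hσ : σ.IsSwap) (hρ : ρ.IsSwap) :
    σ = ρ ∨ σ.Disjoint ρ ∨ (σ * ρ).IsThreeCycle := by
  obtain ⟨a, b, hab, rfl⟩ := hσ
  obtain ⟨c, d, hcd, rfl⟩ := hρ
  by_cases hdis : (swap a b).Disjoint (swap c d)
  · exact Or.inr (Or.inl hdis)
  · rw [swap_disjoint_iff hab hcd] at hdis
    by_cases heq : swap a b = swap c d
    · exact Or.inl heq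
    · refine Or.inr (Or.inr ?_)
      have hcases : a = c ∨ a = d ∨ b = c ∨ b = d := by
        by_contra hno
        push Not at hno
        exact hdis ⟨hno.1, hno.2.1, hno.2.2.1, hno.2.2.2⟩
      rcases hcases with rfl | rfl | rfl | rfl
      · -- a = c
        have hbd : b ≠ d := fun h => heq (by rw [h])
        exact isThreeCycle_swap_mul_swap_same hab hcd hbd
      · -- a = d
        have hbc : b ≠ c := fun h => heq (by rw [h, swap_comm])
        rw [swap_comm c a]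
        exact isThreeCycle_swap_mul_swap_same hab (Ne.symm hcd) hbc
      · -- b = c
        have had : a ≠ d := fun h => heq (by rw [h, swap_comm])
        rw [swap_comm a b]
        exact isThreeCycle_swap_mul_swap_same (Ne.symm hab) hcd had
      · -- b = d
        have hac : a ≠ c := fun h => heq (by rw [h])
        rw [swap_comm a b, swap_comm c b]
        exact isThreeCycle_swap_mul_swap_same (Ne.symm hab) (Ne.symm hcd) hac

/-- (4.1): `σ τ`, `τ ρ ∈ X` give `σ ρ ∈ X`; two distinct transpositions are disjoint or their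
product is a 3-cycle. -/
theorem rel_trans {X : Subgroup (Perm D)} (no3 : No3 X) {σ τ ρ : Perm D} (hσ : σ.IsSwap)
    (hτ : τ.IsSwap) (hρ : ρ.IsSwap) (h1 : rel X σ τ) (h2 : rel X τ ρ) : rel X σ ρ := by
  rcases h1 with h1 | ⟨hd1, hm1⟩
  · rw [h1]; exact h2
  rcases h2 with h2 | ⟨hd2, hm2⟩
  · rw [← h2]; exact Or.inr ⟨hd1, hm1⟩
  have hττ : τ * τ = 1 := by
    obtain ⟨a, b, -, rfl⟩ := hτ
    exact swap_mul_self a b
  have hm : σ * ρ ∈ X := by
    have h3 : σ * ρ = (σ * τ) * (τ * ρ) := by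
      calc σ * ρ = σ * (τ * τ) * ρ := by rw [hττ, mul_one]
        _ = (σ * τ) * (τ * ρ) := by group
    rw [h3]
    exact X.mul_mem hm1 hm2
  rcases swap_eq_or_disjoint_or_threeCycle hσ hρ with h | h | h
  · exact Or.inl h
  · exact Or.inr ⟨h, hm⟩
  · exact absurd h (no3 _ hm)

/-- U4c: all classes have the same size (conjugation by `g ∈ X` with `g σ g⁻¹ = τ`). -/
theorem cls_card_eq {X : Subgroup (Perm D)} (h2 : TwoTrans X) {σ τ : Perm D} (hσ : σ.IsSwap)
    (hτ : τ.IsSwap) : (cls X σ).card = (cls X τ).card := by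
  classical
  obtain ⟨a, b, hab, rfl⟩ := hσ
  obtain ⟨c, d, hcd, rfl⟩ := hτ
  obtain ⟨g, hg, hga, hgb⟩ := h2 a b c d hab hcd
  have hconj : g * swap a b * g⁻¹ = swap c d := by
    rw [← swap_apply_apply, hga, hgb]
  have hconj' : g⁻¹ * swap c d * g⁻¹⁻¹ = swap a b := by
    rw [← hconj]; group
  have hswapconj : ∀ (k : Perm D) (ρ : Perm D), ρ.IsSwap → (k * ρ * k⁻¹).IsSwap := by
    intro k ρ hρ
    obtain ⟨x, y, hxy, rfl⟩ := hρ
    exact ⟨k x, k y, fun h => hxy (k.injective h), (swap_apply_apply k x y).symm⟩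
  have hmem : ∀ {s ρ : Perm D}, ρ ∈ cls X s ↔ ρ.IsSwap ∧ rel X s ρ := by
    intro s ρ
    unfold cls
    rw [Finset.mem_filter]
    simp
  refine Finset.card_bij' (fun ρ _ => g * ρ * g⁻¹) (fun ρ _ => g⁻¹ * ρ * g⁻¹⁻¹) ?_ ?_ ?_ ?_
  · intro ρ hρ
    rw [hmem] at hρ ⊢
    refine ⟨hswapconj g ρ hρ.1, ?_⟩
    rw [← hconj]
    exact rel_conj hg hρ.2
  · intro ρ hρ
    rw [hmem] at hρ ⊢
    refine ⟨hswapconj g⁻¹ ρ hρ.1, ?_⟩
    rw [← hconj']
    exact rel_conj (X.inv_mem hg) hρ.2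
  · intro ρ _
    group
  · intro ρ _
    group

end Cfsg.Agent.Lib.Helper6.ALT8
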