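import Mathlib
import Cfsg.Agent.Lib.Helper7.ALT8Defs
import Cfsg.Agent.Lib.Helper6.ALT8U4a
import Cfsg.Agent.Lib.Helper6.ALT8U4b

/-!
Farm ALT8 (S2928): units U4d (rel_a0_out), U4e1 (sq_mem), U4e2 (cls_a0a1).
-/

set_option autoImplicit false

namespace Cfsg.Agent.Lib.Helper6.ALT8

open Equiv Equiv.Perm Cfsg.Agent.Lib.Helper7.ALT8

variable {D : Type*} [Fintype D] [DecidableEq D]

/-- (4.4), second half: a pair inside `Γ₀ \ {a0}` is not related to `{a0,b}`. -/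
theorem aux_both {X : Subgroup (Perm D)} (no3 : No3 X) {a0 a1 a2 a3 b : D}
    (hV : V4in X a0 a1 a2 a3) (hb0 : b ≠ a0) (hb1 : b ≠ a1) (hb2 : b ≠ a2) (hb3 : b ≠ a3)
    (hm : swap a0 b * swap a1 a2 ∈ X) : False := by
  have hx : swap a0 a3 * swap a1 a2 ∈ X := V4in.hw hV
  have hdis : (swap a1 a2).Disjoint (swap a0 b) := by
    rw [swap_disjoint_iff hV.h12 (Ne.symm hb0)]
    exact ⟨Ne.symm hV.h01, Ne.symm hb1, Ne.symm hV.h02, Ne.symm hb2⟩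
  have hprod : swap a0 a3 * swap a1 a2 * (swap a0 b * swap a1 a2) = swap a0 a3 * swap a0 b := by
    calc swap a0 a3 * swap a1 a2 * (swap a0 b * swap a1 a2)
        = swap a0 a3 * (swap a1 a2 * swap a0 b) * swap a1 a2 := by group
      _ = swap a0 a3 * (swap a0 b * swap a1 a2) * swap a1 a2 := by rw [hdis.commute.eq]
      _ = swap a0 a3 * swap a0 b * (swap a1 a2 * swap a1 a2) := by group
      _ = swap a0 a3 * swap a0 b := by rw [swap_mul_self, mul_one]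
  have h3 : swap a0 a3 * swap a0 b ∈ X := by
    rw [← hprod]
    exact X.mul_mem hx hm
  exact no3 _ h3 (isThreeCycle_swap_mul_swap_same hV.h03 (Ne.symm hb0) (Ne.symm hb3))

/-- U4d (4.4). -/
theorem rel_a0_out {X : Subgroup (Perm D)} {a0 a1 a2 a3 : D} (h : S4 X a0 a1 a2 a3) {b : D}
    (hb0 : b ≠ a0) (hb1 : b ≠ a1) (hb2 : b ≠ a2) (hb3 : b ≠ a3) {τ : Perm D} (hτ : τ.IsSwap)
    (hne : τ ≠ swap a0 b) (hr : rel X (swap a0 b) τ) :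
    ∃ g d, (g = a1 ∨ g = a2 ∨ g = a3) ∧ d ≠ a0 ∧ d ≠ a1 ∧ d ≠ a2 ∧ d ≠ a3 ∧ d ≠ b ∧
      τ = swap g d := by
  obtain ⟨p, q, hpq, rfl⟩ := hτ
  rcases hr with hr | ⟨hd, hm⟩
  · exact absurd hr.symm hne
  have hV := h.hV
  have no3 := h.no3
  rw [swap_disjoint_iff (Ne.symm hb0) hpq] at hd
  obtain ⟨h0p, h0q, hbp, hbq⟩ := hd
  have hVr : V4in X a0 a2 a3 a1 := V4in.rot hV
  have hVrr : V4in X a0 a3 a1 a2 := V4in.rot hVr
  by_cases hpG : p = a1 ∨ p = a2 ∨ p = a3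
  · by_cases hqG : q = a1 ∨ q = a2 ∨ q = a3
    · exfalso
      rcases hpG with rfl | rfl | rfl <;> rcases hqG with rfl | rfl | rfl
      · exact hpq rfl
      · exact aux_both no3 hV hb0 hb1 hb2 hb3 hm
      · rw [swap_comm p q] at hm
        exact aux_both no3 hVrr hb0 hb3 hb1 hb2 hm
      · rw [swap_comm p q] at hm
        exact aux_both no3 hV hb0 hb1 hb2 hb3 hm
      · exact hpq rfl
      · exact aux_both no3 hVr hb0 hb2 hb3 hb1 hm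
      · exact aux_both no3 hVrr hb0 hb3 hb1 hb2 hm
      · rw [swap_comm p q] at hm
        exact aux_both no3 hVr hb0 hb2 hb3 hb1 hm
      · exact hpq rfl
    · push Not at hqG
      exact ⟨p, q, hpG, Ne.symm h0q, hqG.1, hqG.2.1, hqG.2.2, Ne.symm hbq, rfl⟩
  · push Not at hpG
    by_cases hqG : q = a1 ∨ q = a2 ∨ q = a3
    · exact ⟨q, p, hqG, Ne.symm h0p, hpG.1, hpG.2.1, hpG.2.2, Ne.symm hbp, swap_comm p q⟩
    · push Not at hqG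
      exfalso
      have hnd : [a0, b, p, q, a1, a2, a3].Nodup := by
        simp only [List.nodup_cons, List.mem_cons, List.not_mem_nil, or_false, not_or,
          List.nodup_nil, and_true]
        exact ⟨⟨Ne.symm hb0, h0p, h0q, hV.h01, hV.h02, hV.h03⟩,
          ⟨hbp, hbq, hb1, hb2, hb3⟩, ⟨hpq, hpG.1, hpG.2.1, hpG.2.2⟩,
          ⟨hqG.1, hqG.2.1, hqG.2.2⟩, ⟨hV.h12, hV.h13⟩, hV.h23, not_false⟩
      exact key42 no3 hnd hm hV.hx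

/-- the permutation identity behind U4e1 -/
theorem sq_identity {a0 a1 a2 a3 b d : D} (h01 : a0 ≠ a1) (h02 : a0 ≠ a2) (h03 : a0 ≠ a3)
    (h12 : a1 ≠ a2) (h13 : a1 ≠ a3) (h23 : a2 ≠ a3)
    (hb0 : b ≠ a0) (hb1 : b ≠ a1) (hb2 : b ≠ a2) (hb3 : b ≠ a3)
    (hd0 : d ≠ a0) (hd1 : d ≠ a1) (hd2 : d ≠ a2) (hd3 : d ≠ a3) (hbd : b ≠ d) :
    (swap a0 a1 * swap a2 a3 * (swap a0 b * swap a1 d)) ^ 2 = swap a0 a1 * swap b d := by
  ext x
  simp only [pow_two, Perm.mul_apply]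
  by_cases hx0 : x = a0
  · subst hx0
    simp [swap_apply_of_ne_of_ne, *, Ne.symm]
  by_cases hx1 : x = a1
  · subst hx1
    simp [swap_apply_of_ne_of_ne, *, Ne.symm]
  by_cases hx2 : x = a2
  · subst hx2
    simp [swap_apply_of_ne_of_ne, *, Ne.symm]
  by_cases hx3 : x = a3
  · subst hx3
    simp [swap_apply_of_ne_of_ne, *, Ne.symm]
  by_cases hxb : x = b
  · subst hxb
    simp [swap_apply_of_ne_of_ne, *, Ne.symm]
  by_cases hxd : x = d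
  · subst hxd
    simp [swap_apply_of_ne_of_ne, *, Ne.symm]
  simp [swap_apply_of_ne_of_ne, *]

/-- U4e1: `((a0 a1)(a2 a3) · (a0 b)(a1 d))² = (a0 a1)(b d)`. -/
theorem sq_mem {X : Subgroup (Perm D)} {a0 a1 a2 a3 : D} (hV : V4in X a0 a1 a2 a3) {b d : D}
    (hb0 : b ≠ a0) (hb1 : b ≠ a1) (hb2 : b ≠ a2) (hb3 : b ≠ a3)
    (hd0 : d ≠ a0) (hd1 : d ≠ a1) (hd2 : d ≠ a2) (hd3 : d ≠ a3) (hbd : b ≠ d)
    (hr : swap a0 b * swap a1 d ∈ X) : swap a0 a1 * swap b d ∈ X := by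
  rw [← sq_identity hV.h01 hV.h02 hV.h03 hV.h12 hV.h13 hV.h23 hb0 hb1 hb2 hb3 hd0 hd1 hd2 hd3 hbd]
  exact X.pow_mem (X.mul_mem hV.hx hr) 2

/-- U4e2: the class of `(a0 a1)`. -/
theorem cls_a0a1 {X : Subgroup (Perm D)} {a0 a1 a2 a3 : D} (h : S4 X a0 a1 a2 a3) {τ : Perm D}
    (hτ : τ ∈ cls X (swap a0 a1)) :
    τ = swap a0 a1 ∨ τ = swap a2 a3 ∨
      ∃ e f, e ≠ f ∧ e ≠ a0 ∧ e ≠ a1 ∧ e ≠ a2 ∧ e ≠ a3 ∧ f ≠ a0 ∧ f ≠ a1 ∧ f ≠ a2 ∧ f ≠ a3 ∧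
        τ = swap e f := by
  classical
  have hV := h.hV
  have hτ' : τ.IsSwap ∧ rel X (swap a0 a1) τ := by
    unfold cls at hτ
    rw [Finset.mem_filter] at hτ
    simpa using hτ
  obtain ⟨hsw, hrel⟩ := hτ'
  have h01sw : (swap a0 a1).IsSwap := ⟨a0, a1, hV.h01, rfl⟩
  have h23sw : (swap a2 a3).IsSwap := ⟨a2, a3, hV.h23, rfl⟩
  have hdis : (swap a2 a3).Disjoint (swap a0 a1) := by
    rw [swap_disjoint_iff hV.h23 hV.h01]
    exact ⟨Ne.symm hV.h02, Ne.symm hV.h12, Ne.symm hV.h03, Ne.symm hV.h13⟩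
  have hrel23 : rel X (swap a2 a3) (swap a0 a1) := by
    refine Or.inr ⟨hdis, ?_⟩
    rw [hdis.commute.eq]
    exact hV.hx
  have hrel' : rel X (swap a2 a3) τ := rel_trans h.no3 h23sw h01sw hsw hrel23 hrel
  rcases hrel with hrel | ⟨hd1, -⟩
  · exact Or.inl hrel.symm
  rcases hrel' with hrel' | ⟨hd2, -⟩
  · exact Or.inr (Or.inl hrel'.symm)
  obtain ⟨p, q, hpq, rfl⟩ := hsw
  rw [swap_disjoint_iff hV.h01 hpq] at hd1
  rw [swap_disjoint_iff hV.h23 hpq] at hd2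
  obtain ⟨h0p, h0q, h1p, h1q⟩ := hd1
  obtain ⟨h2p, h2q, h3p, h3q⟩ := hd2
  exact Or.inr (Or.inr ⟨p, q, hpq, Ne.symm h0p, Ne.symm h1p, Ne.symm h2p, Ne.symm h3p,
    Ne.symm h0q, Ne.symm h1q, Ne.symm h2q, Ne.symm h3q, rfl⟩)

end Cfsg.Agent.Lib.Helper6.ALT8
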