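import Mathlib
import Cfsg.Agent.Lib.Helper6.APFDefs
import Cfsg.Agent.Lib.Helper6.APFEll
import Cfsg.Agent.Lib.Helper9.APFNS
import Cfsg.Agent.Lib.Helper9.APFAR
import Cfsg.Agent.Lib.Helper3.APFT

/-!
# S2276, piece A2: an `m`-cycle `c` and `m`-cycles `v`, `t v t⁻¹` (`t` odd) both good for `c`.
-/

set_option autoImplicit false

open Equiv Equiv.Perm

namespace Cfsg.Agent.Lib.Helper6.APF
open Cfsg.Agent.Lib.Helper9.APF Cfsg.Agent.Lib.Helper3.APF

variable {Ω : Type*} [DecidableEq Ω] [Fintype Ω]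

/-- disjoint swaps commute -/
theorem swap_comm_of_ne {a b x y : Ω} (h1 : a ≠ x) (h2 : a ≠ y) (h3 : b ≠ x) (h4 : b ≠ y) :
    swap a b * swap x y = swap x y * swap a b := by
  have : swap x y * swap a b * (swap x y)⁻¹ = swap a b := by
    rw [← Equiv.swap_apply_apply, Equiv.swap_apply_of_ne_of_ne h1 h2,
      Equiv.swap_apply_of_ne_of_ne h3 h4]
  calc swap a b * swap x y = (swap x y * swap a b * (swap x y)⁻¹) * swap x y := by rw [this]
    _ = swap x y * swap a b := by group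

/-- first half of `coreA2`: the element `v` with `c * v = τ`. -/
theorem coreA2_first (p : ℕ) (hp : p.Prime) (hp2 : p ≠ 2)
    (c : Perm Ω) (hc : c.IsCycle) (hodd : Odd c.support.card) (hm5 : 5 ≤ c.support.card)
    (x₀ : Ω) (hx₀ : x₀ ∈ c.support) :
    let v := swap (ell c x₀ 1) (ell c x₀ 3) * c⁻¹ * swap (ell c x₀ 1) (ell c x₀ 3)
    v.cycleType = {c.support.card} ∧ (∀ x, x ∉ c.support → v x = x) ∧
      c * v = swap (ell c x₀ 1) (ell c x₀ 3) * swap (ell c x₀ 2) (ell c x₀ 4) ∧ Good p c v := by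
  intro v
  have hne : ∀ {i j : ℕ}, i < j → j - i < 5 → ell c x₀ i ≠ ell c x₀ j := fun hij h =>
    ell_ne c hc x₀ hx₀ hij (by omega)
  have h12 : c (ell c x₀ 1) = ell c x₀ 2 := apply_ell c x₀ 1
  have h34 : c (ell c x₀ 3) = ell c x₀ 4 := apply_ell c x₀ 3
  obtain ⟨hcv, hord, hτ⟩ := core_mech p hp hp2 c 1 c (one_mul c).symm 1 odd_one (pow_one 1)
    (ell c x₀ 1) (ell c x₀ 3) (hne (by omega) (by omega))
    (by rw [h12]; exact (hne (by omega) (by omega)).symm)
    (by rw [h12]; exact hne (by omega) (by omega))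
    (by rw [h34]; exact (hne (by omega) (by omega)).symm)
    (by rw [h34]; exact (hne (by omega) (by omega)).symm)
    rfl rfl rfl rfl
  rw [h12, h34, one_mul] at hcv
  rw [h12, h34] at hτ
  refine ⟨?_, ?_, hcv, hord, ?_⟩
  · have : v = swap (ell c x₀ 1) (ell c x₀ 3) * c⁻¹ * (swap (ell c x₀ 1) (ell c x₀ 3))⁻¹ := by
      simp [v]
    rw [this, Equiv.Perm.cycleType_conj, Equiv.Perm.cycleType_inv, hc.cycleType]
  · intro x hx
    have h1 := swap_ell_apply_of_notMem c hc x₀ hx₀ hx 1 3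
    have h2 : c⁻¹ x = x := by
      rw [Equiv.Perm.inv_eq_iff_eq]; exact (Equiv.Perm.notMem_support.1 hx).symm
    simp only [v, Equiv.Perm.mul_apply, h1, h2]
  · -- nonsolvable
    set H := Subgroup.closure ({c, v} : Set (Perm Ω)) with hH
    have hcH : c ∈ H := Subgroup.subset_closure (by simp)
    have hτH : swap (ell c x₀ 1) (ell c x₀ 3) * swap (ell c x₀ 2) (ell c x₀ 4) ∈ H := hτ
    have hconj : c * (swap (ell c x₀ 1) (ell c x₀ 3) * swap (ell c x₀ 2) (ell c x₀ 4)) * c⁻¹ =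
        swap (ell c x₀ 2) (ell c x₀ 4) * swap (ell c x₀ 3) (ell c x₀ 5) := by
      have e : ∀ A B : Perm Ω, c * (A * B) * c⁻¹ = (c * A * c⁻¹) * (c * B * c⁻¹) := by
        intro A B; group
      rw [e, conj_swap_ell, conj_swap_ell]
    have hx : swap (ell c x₀ 1) (ell c x₀ 3) * swap (ell c x₀ 3) (ell c x₀ 5) ∈ H := by
      have := H.mul_mem hτH (H.mul_mem (H.mul_mem hcH hτH) (H.inv_mem hcH))
      rw [hconj] at this
      have e : swap (ell c x₀ 1) (ell c x₀ 3) * swap (ell c x₀ 2) (ell c x₀ 4) *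
          (swap (ell c x₀ 2) (ell c x₀ 4) * swap (ell c x₀ 3) (ell c x₀ 5)) =
          swap (ell c x₀ 1) (ell c x₀ 3) * swap (ell c x₀ 3) (ell c x₀ 5) := by
        rw [mul_assoc, Equiv.swap_mul_self_mul]
      rwa [e] at this
    exact not_solvable_of_cycle_three c hc hm5 hodd x₀ hx₀ H hcH hx


/-- `c * (t * v * t⁻¹) = (c * t * c⁻¹) * (c * v) * t⁻¹`. -/
theorem mul_conj_eq (c t v : Perm Ω) : c * (t * v * t⁻¹) = (c * t * c⁻¹) * (c * v) * t⁻¹ := by
  group

theorem pow_four_of {G : Type*} [Group G] (y τ : G) (hc : Commute y τ) (hτ : τ ^ 2 = 1)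
    (hy : y ^ 3 = 1) : (y * τ) ^ 4 = y := by
  rw [hc.mul_pow, show (4 : ℕ) = 2 * 2 from rfl, pow_mul τ, hτ, one_pow, mul_one,
    show (2 * 2 : ℕ) = 3 + 1 from rfl, pow_succ, hy, one_mul]

theorem pow_odd_of {G : Type*} [Group G] (y τ : G) (hc : Commute y τ) (hτ : τ ^ 2 = 1)
    (n : ℕ) (hn : Odd n) : (y * τ) ^ n = y ^ n * τ := by
  obtain ⟨q, rfl⟩ := hn
  rw [hc.mul_pow]
  congr 1
  rw [pow_succ, pow_mul, hτ, one_pow, one_mul]

/-- a product of two disjoint swaps commutes with a swap disjoint from both -/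
theorem swap_mul_swap_comm_of_ne {a b x y r s : Ω} (h1 : a ≠ r) (h2 : a ≠ s) (h3 : b ≠ r)
    (h4 : b ≠ s) (h5 : x ≠ r) (h6 : x ≠ s) (h7 : y ≠ r) (h8 : y ≠ s) :
    (swap a b * swap x y) * swap r s = swap r s * (swap a b * swap x y) := by
  rw [mul_assoc, swap_comm_of_ne h5 h6 h7 h8, ← mul_assoc, swap_comm_of_ne h1 h2 h3 h4, mul_assoc]

theorem coreA2 (p : ℕ) (hp : p.Prime) (hp2 : p ≠ 2)
    (c : Perm Ω) (hc : c.IsCycle) (hodd : Odd c.support.card) (hm5 : 5 ≤ c.support.card)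
    (h3 : p = 3 → 7 ≤ c.support.card) :
    ∃ v t : Perm Ω, v.cycleType = {c.support.card} ∧ (∀ x, x ∉ c.support → v x = x) ∧
      (∀ x, x ∉ c.support → t x = x) ∧ Equiv.Perm.sign t = -1 ∧
      Good p c v ∧ Good p c (t * v * t⁻¹) := by
  obtain ⟨x₀, hx₀'⟩ := hc.nonempty_support
  have hx₀ : x₀ ∈ c.support := hx₀'
  obtain ⟨hvct, hvfix, hcv, hgood⟩ := coreA2_first p hp hp2 c hc hodd hm5 x₀ hx₀
  obtain ⟨v, hv⟩ : ∃ v : Perm Ω,
      v = swap (ell c x₀ 1) (ell c x₀ 3) * c⁻¹ * swap (ell c x₀ 1) (ell c x₀ 3) := ⟨_, rfl⟩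
  simp only [← hv] at hvct hvfix hcv hgood
  have hne : ∀ {i j : ℕ}, i < j → j - i < 5 → ell c x₀ i ≠ ell c x₀ j := fun hij h =>
    ell_ne c hc x₀ hx₀ hij (by omega)
  by_cases hp3 : p = 3
  · -- t = swap ℓ₅ ℓ₆
    have hm7 : 7 ≤ c.support.card := h3 hp3
    have hne7 : ∀ {i j : ℕ}, i < j → j - i < 7 → ell c x₀ i ≠ ell c x₀ j := fun hij h =>
      ell_ne c hc x₀ hx₀ hij (by omega)
    obtain ⟨τ, hτ⟩ : ∃ τ : Perm Ω,
      τ = swap (ell c x₀ 1) (ell c x₀ 3) * swap (ell c x₀ 2) (ell c x₀ 4) := ⟨_, rfl⟩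
    obtain ⟨y, hy⟩ : ∃ y : Perm Ω,
      y = swap (ell c x₀ 6) (ell c x₀ 7) * swap (ell c x₀ 5) (ell c x₀ 6) := ⟨_, rfl⟩
    obtain ⟨t, ht⟩ : ∃ t : Perm Ω, t = swap (ell c x₀ 5) (ell c x₀ 6) := ⟨_, rfl⟩
    rw [← hτ] at hcv
    have htinv : t⁻¹ = t := by rw [ht]; exact Equiv.swap_inv _ _
    -- τ commutes with the swaps making up y
    have hτ56 : τ * swap (ell c x₀ 5) (ell c x₀ 6) = swap (ell c x₀ 5) (ell c x₀ 6) * τ := by
      rw [hτ]
      exact swap_mul_swap_comm_of_ne (hne7 (by omega) (by omega)) (hne7 (by omega) (by omega))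
        (hne7 (by omega) (by omega)) (hne7 (by omega) (by omega)) (hne7 (by omega) (by omega))
        (hne7 (by omega) (by omega)) (hne7 (by omega) (by omega)) (hne7 (by omega) (by omega))
    have hτ67 : τ * swap (ell c x₀ 6) (ell c x₀ 7) = swap (ell c x₀ 6) (ell c x₀ 7) * τ := by
      rw [hτ]
      exact swap_mul_swap_comm_of_ne (hne7 (by omega) (by omega)) (hne7 (by omega) (by omega))
        (hne7 (by omega) (by omega)) (hne7 (by omega) (by omega)) (hne7 (by omega) (by omega))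
        (hne7 (by omega) (by omega)) (hne7 (by omega) (by omega)) (hne7 (by omega) (by omega))
    have hcomm : Commute y τ := by
      show y * τ = τ * y
      rw [hy, ← mul_assoc, hτ67, mul_assoc, mul_assoc, hτ56]
    have hcv2 : c * (t * v * t⁻¹) = y * τ := by
      rw [mul_conj_eq, hcv, htinv, ht, conj_swap_ell, hy, mul_assoc, hτ56, ← mul_assoc]
    have hτ2 : τ ^ 2 = 1 := by
      rw [pow_two, hτ]
      have := swap_comm_of_ne (a := ell c x₀ 1) (b := ell c x₀ 3) (x := ell c x₀ 2)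
        (y := ell c x₀ 4) (hne (by omega) (by omega)) (hne (by omega) (by omega))
        (hne (by omega) (by omega)).symm (hne (by omega) (by omega))
      calc swap (ell c x₀ 1) (ell c x₀ 3) * swap (ell c x₀ 2) (ell c x₀ 4) *
            (swap (ell c x₀ 1) (ell c x₀ 3) * swap (ell c x₀ 2) (ell c x₀ 4))
          = swap (ell c x₀ 1) (ell c x₀ 3) * (swap (ell c x₀ 2) (ell c x₀ 4) *
            swap (ell c x₀ 1) (ell c x₀ 3)) * swap (ell c x₀ 2) (ell c x₀ 4) := by group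
        _ = swap (ell c x₀ 1) (ell c x₀ 3) * (swap (ell c x₀ 1) (ell c x₀ 3) *
            swap (ell c x₀ 2) (ell c x₀ 4)) * swap (ell c x₀ 2) (ell c x₀ 4) := by rw [this]
        _ = 1 := by
            rw [Equiv.swap_mul_self_mul, Equiv.swap_mul_self]
    have hy3c : y.IsThreeCycle := by
      rw [hy, Equiv.swap_comm (ell c x₀ 5) (ell c x₀ 6)]
      exact Equiv.Perm.isThreeCycle_swap_mul_swap_same (hne7 (by omega) (by omega))
        (hne7 (by omega) (by omega)).symm (hne7 (by omega) (by omega)).symm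
    have hy3 : y ^ 3 = 1 := by rw [← hy3c.orderOf]; exact pow_orderOf_eq_one y
    have hyfix3 : y (ell c x₀ 3) = ell c x₀ 3 := by
      rw [hy, Equiv.Perm.mul_apply,
        Equiv.swap_apply_of_ne_of_ne (hne7 (by omega) (by omega)) (hne7 (by omega) (by omega)),
        Equiv.swap_apply_of_ne_of_ne (hne7 (by omega) (by omega)) (hne7 (by omega) (by omega))]
    have hτ1 : τ (ell c x₀ 1) = ell c x₀ 3 := by
      rw [hτ, Equiv.Perm.mul_apply,
        Equiv.swap_apply_of_ne_of_ne (hne (by omega) (by omega)) (hne (by omega) (by omega)),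
        Equiv.swap_apply_left]
    refine ⟨v, t, hvct, hvfix, ?_, ?_, hgood, ?_, ?_⟩
    · intro x hx; rw [ht]; exact swap_ell_apply_of_notMem c hc x₀ hx₀ hx 5 6
    · rw [ht]; exact Equiv.Perm.sign_swap (hne7 (by omega) (by omega))
    · -- order
      rw [hcv2]
      rintro ⟨e, he⟩
      have h1 : (y * τ) ^ (3 ^ e) = 1 := by rw [← hp3, ← he]; exact pow_orderOf_eq_one _
      rw [pow_odd_of y τ hcomm hτ2 _ (Odd.pow (by decide))] at h1
      have h2 : (y ^ (3 ^ e) * τ) (ell c x₀ 1) = ell c x₀ 1 := by rw [h1]; rfl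
      rw [Equiv.Perm.mul_apply, hτ1,
        Equiv.Perm.pow_apply_eq_self_of_apply_eq_self hyfix3] at h2
      exact hne (by omega) (by omega) h2.symm
    · -- nonsolvable
      obtain ⟨H, hH⟩ : ∃ H : Subgroup (Perm Ω),
        H = Subgroup.closure ({c, t * v * t⁻¹} : Set (Perm Ω)) := ⟨_, rfl⟩
      rw [← hH]
      have hcH : c ∈ H := by rw [hH]; exact Subgroup.subset_closure (by simp)
      have hvH : t * v * t⁻¹ ∈ H := by rw [hH]; exact Subgroup.subset_closure (by simp)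
      have hyτH : y * τ ∈ H := hcv2 ▸ H.mul_mem hcH hvH
      have hyH : y ∈ H := by
        rw [← pow_four_of y τ hcomm hτ2 hy3]; exact H.pow_mem hyτH 4
      have hy2H : c ^ 2 * y * (c ^ 2)⁻¹ ∈ H :=
        H.mul_mem (H.mul_mem (H.pow_mem hcH 2) hyH) (H.inv_mem (H.pow_mem hcH 2))
      have e2 : c ^ 2 * y * (c ^ 2)⁻¹ =
          swap (ell c x₀ 9) (ell c x₀ 8) * swap (ell c x₀ 8) (ell c x₀ 7) := by
        have e : ∀ A B : Perm Ω, c ^ 2 * (A * B) * (c ^ 2)⁻¹ =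
            (c ^ 2 * A * (c ^ 2)⁻¹) * (c ^ 2 * B * (c ^ 2)⁻¹) := by
          intro A B; group
        rw [hy, e, pow_conj_swap_ell, pow_conj_swap_ell,
          Equiv.swap_comm (ell c x₀ (6 + 2)) (ell c x₀ (7 + 2)),
          Equiv.swap_comm (ell c x₀ (5 + 2)) (ell c x₀ (6 + 2))]
      rw [e2] at hy2H
      have hyH' : swap (ell c x₀ 7) (ell c x₀ 6) * swap (ell c x₀ 6) (ell c x₀ 5) ∈ H := by
        rw [Equiv.swap_comm (ell c x₀ 7) (ell c x₀ 6), Equiv.swap_comm (ell c x₀ 6) (ell c x₀ 5),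
          ← hy]
        exact hyH
      refine Cfsg.Agent.Lib.Helper9.APF.not_solvable_of_three_cycles (ell c x₀ 9) (ell c x₀ 8)
        (ell c x₀ 7) (ell c x₀ 6) (ell c x₀ 5) ?_ H hy2H hyH'
      simp only [List.nodup_cons, List.mem_cons, List.not_mem_nil, or_false, not_or,
        List.nodup_nil, and_true, not_false_eq_true]
      refine ⟨⟨?_, ?_, ?_, ?_⟩, ⟨?_, ?_, ?_⟩, ⟨?_, ?_⟩, ?_⟩ <;>
        exact (hne (by omega) (by omega)).symm
  · -- t = swap ℓ₂ ℓ₄
    obtain ⟨t, ht⟩ : ∃ t : Perm Ω, t = swap (ell c x₀ 2) (ell c x₀ 4) := ⟨_, rfl⟩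
    have htinv : t⁻¹ = t := by rw [ht]; exact Equiv.swap_inv _ _
    have hcv2 : c * (t * v * t⁻¹) =
        swap (ell c x₀ 3) (ell c x₀ 5) * swap (ell c x₀ 1) (ell c x₀ 3) := by
      rw [mul_conj_eq, hcv, htinv, ht, conj_swap_ell, ← mul_assoc, mul_assoc, mul_assoc,
        Equiv.swap_mul_self, mul_one]
    have h3c : (swap (ell c x₀ 3) (ell c x₀ 5) * swap (ell c x₀ 1) (ell c x₀ 3)).IsThreeCycle := by
      rw [Equiv.swap_comm (ell c x₀ 1) (ell c x₀ 3)]
      exact Equiv.Perm.isThreeCycle_swap_mul_swap_same (hne (by omega) (by omega))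
        (hne (by omega) (by omega)).symm (hne (by omega) (by omega)).symm
    refine ⟨v, t, hvct, hvfix, ?_, ?_, hgood, ?_, ?_⟩
    · intro x hx; rw [ht]; exact swap_ell_apply_of_notMem c hc x₀ hx₀ hx 2 4
    · rw [ht]; exact Equiv.Perm.sign_swap (hne (by omega) (by omega))
    · rw [hcv2, h3c.orderOf]
      rintro ⟨e, he⟩
      have hpd : p ∣ 3 := by
        rcases Nat.eq_zero_or_pos e with h0 | h0
        · subst h0; simp at he
        · rw [he]; exact dvd_pow_self p (by omega)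
      exact hp3 ((Nat.prime_dvd_prime_iff_eq hp Nat.prime_three).1 hpd)
    · obtain ⟨H, hH⟩ : ∃ H : Subgroup (Perm Ω),
        H = Subgroup.closure ({c, t * v * t⁻¹} : Set (Perm Ω)) := ⟨_, rfl⟩
      rw [← hH]
      have hcH : c ∈ H := by rw [hH]; exact Subgroup.subset_closure (by simp)
      have hvH : t * v * t⁻¹ ∈ H := by rw [hH]; exact Subgroup.subset_closure (by simp)
      have hxinv : swap (ell c x₀ 3) (ell c x₀ 5) * swap (ell c x₀ 1) (ell c x₀ 3) ∈ H :=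
        hcv2 ▸ H.mul_mem hcH hvH
      have hx : swap (ell c x₀ 1) (ell c x₀ 3) * swap (ell c x₀ 3) (ell c x₀ 5) ∈ H := by
        have := H.inv_mem hxinv
        rwa [mul_inv_rev, Equiv.swap_inv, Equiv.swap_inv] at this
      exact not_solvable_of_cycle_three c hc hm5 hodd x₀ hx₀ H hcH hx

end Cfsg.Agent.Lib.Helper6.APF
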