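import Mathlib
import Cfsg.Agent.Lib.Helper6.APFDefs
import Cfsg.Agent.Lib.Helper6.APFA2
import Cfsg.Agent.Lib.Helper4.APFPK
import Cfsg.Agent.Lib.Helper4.APFEX
import Cfsg.Agent.Lib.Helper8.APFPAR
import Cfsg.Agent.Lib.Helper9.APFLIFT
import Cfsg.Agent.Lib.Helper8.APFB1
import Cfsg.Agent.Lib.Helper8.APFB2
import Cfsg.Agent.Lib.Helper4.APFA

/-!
# S2276: the main case (the longest cycle has length at least 5)
-/

set_option autoImplicit false

open Equiv Equiv.Perm

namespace Cfsg.Agent.Lib.Helper6.APF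
open Cfsg.Agent.Lib.Helper4.APF Cfsg.Agent.Lib.Helper8.APF Cfsg.Agent.Lib.Helper9.APF

/-- elements of a cycle type of a `p`-element are `p`-powers with positive exponent -/
theorem pow_of_mem_cycleType {Ω : Type*} [DecidableEq Ω] [Fintype Ω] {p : ℕ} (hp : p.Prime)
    {u : Perm Ω} (hu' : ∃ k : ℕ, orderOf u = p ^ k) {b : ℕ} (hb : b ∈ u.cycleType) :
    ∃ i : ℕ, 1 ≤ i ∧ b = p ^ i := by
  obtain ⟨k, hk⟩ := hu'
  have hdvd : b ∣ p ^ k := hk ▸ Equiv.Perm.dvd_of_mem_cycleType hb
  obtain ⟨i, _, rfl⟩ := (Nat.dvd_prime_pow hp).1 hdvd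
  have h2 := Equiv.Perm.two_le_of_mem_cycleType hb
  refine ⟨i, ?_, rfl⟩
  rcases Nat.eq_zero_or_pos i with h0 | h0
  · subst h0; simp at h2
  · exact h0

/-- the common final step: from `g₁ w g₁⁻¹ = v * wr` and goodness of `(c, v)`. -/
theorem good_of_parts {Ω : Type*} [DecidableEq Ω] [Fintype Ω] {p : ℕ} (hp : p.Prime)
    (u w c v wr g₁ : Perm Ω)
    (hcu : ∀ x ∈ c.support, c x = u x)
    (hvfix : ∀ x, x ∉ c.support → v x = x)
    (hwrfix : ∀ x, x ∈ c.support → wr x = x)
    (hconj : g₁ * w * g₁⁻¹ = v * wr) (hgood : Good p c v) :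
    Good p u (g₁ * w * g₁⁻¹) := by
  have hu_eq : u = c * (c⁻¹ * u) := by group
  have hur : ∀ x, x ∈ c.support → (c⁻¹ * u) x = x := by
    intro x hx
    rw [Equiv.Perm.mul_apply, ← hcu x hx]
    simp
  have hcfix : ∀ x, x ∉ c.support → c x = x := fun x hx => Equiv.Perm.notMem_support.1 hx
  have := good_lift p hp c.support c v (c⁻¹ * u) wr hcfix hvfix hur hwrfix hgood
  rw [← hu_eq, ← hconj] at this
  exact this

/-- parity correction by a commuting odd element -/
theorem exists_even_of_commute {Ω : Type*} [DecidableEq Ω] [Fintype Ω] {p : ℕ}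
    (u w g₁ z : Perm Ω) (hz : z * w = w * z) (hzs : Equiv.Perm.sign z = -1)
    (hgood : Good p u (g₁ * w * g₁⁻¹)) :
    ∃ g : Perm Ω, Equiv.Perm.sign g = 1 ∧ Good p u (g * w * g⁻¹) := by
  rcases Int.units_eq_one_or (Equiv.Perm.sign g₁) with hs | hs
  · exact ⟨g₁, hs, hgood⟩
  · refine ⟨g₁ * z, by rw [map_mul, hs, hzs]; rfl, ?_⟩
    have h1 : z * w * z⁻¹ = w := by rw [hz]; group
    have : g₁ * z * w * (g₁ * z)⁻¹ = g₁ * (z * w * z⁻¹) * g₁⁻¹ := by group
    rw [this, h1]
    exact hgood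

theorem main_five {Ω : Type*} [DecidableEq Ω] [Fintype Ω] (p : ℕ) (hp : p.Prime) (hp3 : 3 ≤ p)
    (u w : Perm Ω) (hw : w ≠ 1)
    (hu' : ∃ k : ℕ, orderOf u = p ^ k) (hw' : ∃ k : ℕ, orderOf w = p ^ k)
    (m : ℕ) (hm : m ∈ u.cycleType) (hm5 : 5 ≤ m) (hmax : ∀ b ∈ w.cycleType, b ≤ m) :
    ∃ g : Perm Ω, Equiv.Perm.sign g = 1 ∧ Good p u (g * w * g⁻¹) := by
  have hp2 : p ≠ 2 := by omega
  have hpodd : Odd p := hp.odd_of_ne_two hp2
  obtain ⟨a, ha1, hma⟩ := pow_of_mem_cycleType hp hu' hm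
  -- the cycle
  rw [Equiv.Perm.cycleType_def, Multiset.mem_map] at hm
  obtain ⟨c, hcmem, hcm⟩ := hm
  have hcmem' : c ∈ u.cycleFactorsFinset := hcmem
  rw [Equiv.Perm.mem_cycleFactorsFinset_iff] at hcmem'
  obtain ⟨hc, hcu⟩ := hcmem'
  have hcm' : c.support.card = m := hcm
  have hodd : Odd c.support.card := by rw [hcm', hma]; exact hpodd.pow
  have hmcard : m ≤ Fintype.card Ω := by rw [← hcm']; exact Finset.card_le_univ _
  have hn : p ^ a ≤ Fintype.card Ω := hma ▸ hmcard
  obtain ⟨β, μ, hβle, hμβ, hμmax, hβsum, hβcard⟩ :=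
    exists_pack p hp w hw hw' a (fun b hb => hma ▸ hmax b hb) hn
  have hμw : μ ∈ w.cycleType := Multiset.mem_of_le hβle hμβ
  have hμm : μ ≤ m := hmax μ hμw
  rcases eq_or_lt_of_le hμm with hμeq | hμlt
  · -- w has an m-cycle: two classes
    have h3 : p = 3 → 7 ≤ c.support.card := by
      intro h; subst h
      rw [hcm', hma]
      rcases Nat.lt_or_ge 1 a with h | h
      · have : 3 ^ 2 ≤ 3 ^ a := Nat.pow_le_pow_right (by norm_num) h
        omega
      · have : a = 1 := le_antisymm h ha1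
        subst this; omega
    obtain ⟨v, t, hvct, hvfix, htfix, htsign, hgood1, hgood2⟩ :=
      coreA2 p hp hp2 c hc hodd (hcm'.symm ▸ hm5) h3
    have hle : v.cycleType ≤ w.cycleType := by
      rw [hvct, hcm', Multiset.singleton_le]; exact hμeq ▸ hμw
    have hcard : c.support.card - v.cycleType.sum ≤ Fintype.card Ω - w.cycleType.sum := by
      rw [hvct]; simp
    obtain ⟨g₁, wr, hwrfix, hconj⟩ := exists_conj_eq_mul w v c.support hvfix hle hcard
    rcases Int.units_eq_one_or (Equiv.Perm.sign g₁) with hs | hs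
    · exact ⟨g₁, hs, good_of_parts hp u w c v wr g₁ hcu hvfix hwrfix hconj hgood1⟩
    · refine ⟨t * g₁, by rw [map_mul, hs, htsign]; rfl, ?_⟩
      have hdisj : Equiv.Perm.Disjoint t wr := by
        intro x
        by_cases hx : x ∈ c.support
        · exact Or.inr (hwrfix x hx)
        · exact Or.inl (htfix x hx)
      have hcomm : t * wr = wr * t := hdisj.commute.eq
      have h3' : t * wr * t⁻¹ = wr := by rw [hcomm]; group
      have hconj2 : (t * g₁) * w * (t * g₁)⁻¹ = (t * v * t⁻¹) * wr := by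
        have e1 : (t * g₁) * w * (t * g₁)⁻¹ = t * (g₁ * w * g₁⁻¹) * t⁻¹ := by group
        rw [e1, hconj]
        calc t * (v * wr) * t⁻¹ = (t * v * t⁻¹) * (t * wr * t⁻¹) := by group
          _ = (t * v * t⁻¹) * wr := by rw [h3']
      have htvfix : ∀ x, x ∉ c.support → (t * v * t⁻¹) x = x := by
        intro x hx
        have h1 : t⁻¹ x = x := by
          rw [Equiv.Perm.inv_eq_iff_eq]; exact (htfix x hx).symm
        rw [Equiv.Perm.mul_apply, Equiv.Perm.mul_apply, h1, hvfix x hx, htfix x hx]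
      exact good_of_parts hp u w c (t * v * t⁻¹) wr (t * g₁) hcu htvfix hwrfix hconj2 hgood2
  · -- all cycles of w are shorter than m: an odd centralizing element exists
    obtain ⟨z, hzcomm, hzsign⟩ := exists_odd_commute_of_lt p hp w hw' a ha1
      (fun b hb => hma ▸ lt_of_le_of_lt (hμmax b hb) hμlt) hn
    -- a good v of cycle type β
    have hβmem : ∀ b ∈ β, ∃ i : ℕ, 1 ≤ i ∧ b = p ^ i := fun b hb =>
      pow_of_mem_cycleType hp hw' (Multiset.mem_of_le hβle hb)
    have hβsum' : β.sum ≤ c.support.card := by rw [hcm', hma]; exact hβsum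
    have hv : ∃ v : Perm Ω, v.cycleType = β ∧ (∀ x, x ∉ c.support → v x = x) ∧ Good p c v := by
      by_cases hμ5 : 5 ≤ μ
      · refine coreA p hp hp2 c hc hodd β ?_ μ hμβ hμ5 hβsum'
        intro b hb
        obtain ⟨i, hi1, rfl⟩ := hβmem b hb
        refine ⟨hpodd.pow, ?_⟩
        calc 2 ≤ p := hp.two_le
          _ = p ^ 1 := (pow_one p).symm
          _ ≤ p ^ i := Nat.pow_le_pow_right hp.pos hi1
      · -- μ = 3 = p
        obtain ⟨i, hi1, hμi⟩ := hβmem μ hμβ
        have hpμ : p ≤ μ := by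
          rw [hμi]; calc p = p ^ 1 := (pow_one p).symm
            _ ≤ p ^ i := Nat.pow_le_pow_right hp.pos hi1
        have hp34 : p = 3 := by
          have hp4 : p ≤ 4 := by omega
          interval_cases p
          · rfl
          · exact absurd hp (by decide)
        subst hp34
        have hμ3 : μ = 3 := by
          rcases Nat.lt_or_ge 1 i with h | h
          · have : 3 ^ 2 ≤ 3 ^ i := Nat.pow_le_pow_right (by norm_num) h
            omega
          · have : i = 1 := le_antisymm h hi1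
            rw [hμi, this]; norm_num
        have hall : ∀ b ∈ β, b = 3 := by
          intro b hb
          obtain ⟨j, hj1, hbj⟩ := hβmem b hb
          have h1 : b ≤ 3 := hμ3 ▸ hμmax b (Multiset.mem_of_le hβle hb)
          have h2 : 3 ^ 1 ≤ 3 ^ j := Nat.pow_le_pow_right (by norm_num) hj1
          omega
        have hβrep : β = Multiset.replicate (Multiset.card β) 3 :=
          Multiset.eq_replicate_card.2 hall
        have hsum3 : β.sum = 3 * Multiset.card β := by
          conv_lhs => rw [hβrep]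
          rw [Multiset.sum_replicate, smul_eq_mul, mul_comm]
        have hj1 : 1 ≤ Multiset.card β := Multiset.card_pos_iff_exists_mem.2 ⟨μ, hμβ⟩
        have hm9 : 9 ≤ c.support.card ∧ 3 ∣ c.support.card := by
          rw [hcm', hma]
          have ha2 : 2 ≤ a := by
            by_contra h
            have : a = 1 := by omega
            subst this
            omega
          refine ⟨?_, dvd_pow_self 3 (by omega)⟩
          calc 9 = 3 ^ 2 := by norm_num
            _ ≤ 3 ^ a := Nat.pow_le_pow_right (by norm_num) ha2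
        rcases Nat.lt_or_ge 1 (Multiset.card β) with hj | hj
        · obtain ⟨v, hvct, hvfix, hgood⟩ := coreB2 c hc hm9.1 hm9.2 (Multiset.card β) hj
            (by rw [← hsum3]; exact hβsum')
          exact ⟨v, by rw [hvct, ← hβrep], hvfix, hgood⟩
        · have hj' : Multiset.card β = 1 := le_antisymm hj hj1
          obtain ⟨v, hvct, hvfix, hgood⟩ := coreB1 c hc (by omega) hm9.2
          refine ⟨v, ?_, hvfix, hgood⟩
          rw [hvct, hβrep, hj']; rfl
    obtain ⟨v, hvct, hvfix, hgood⟩ := hv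
    have hle : v.cycleType ≤ w.cycleType := hvct ▸ hβle
    have hcard : c.support.card - v.cycleType.sum ≤ Fintype.card Ω - w.cycleType.sum := by
      rw [hvct, hcm', hma]; exact hβcard
    obtain ⟨g₁, wr, hwrfix, hconj⟩ := exists_conj_eq_mul w v c.support hvfix hle hcard
    exact exists_even_of_commute u w g₁ z hzcomm hzsign
      (good_of_parts hp u w c v wr g₁ hcu hvfix hwrfix hconj hgood)

end Cfsg.Agent.Lib.Helper6.APF
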