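import Mathlib
import Cfsg.Agent.Lib.Helper6.APFDefs
import Cfsg.Agent.Lib.Helper6.APFFive
import Cfsg.Agent.Lib.Helper5.APFG0
import Cfsg.Agent.Lib.Helper7.APFM3

/-!
# S2276: the statement for permutation groups
-/

set_option autoImplicit false

open Equiv Equiv.Perm

namespace Cfsg.Agent.Lib.Helper6.APF
open Cfsg.Agent.Lib.Helper7.APF

theorem main_perm {Ω : Type*} [DecidableEq Ω] [Fintype Ω] (hn : 5 ≤ Fintype.card Ω)
    (p : ℕ) (hp : p.Prime) (hp3 : 3 ≤ p) (u w : Perm Ω) (hu : u ≠ 1) (hw : w ≠ 1)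
    (hu' : ∃ k : ℕ, orderOf u = p ^ k) (hw' : ∃ k : ℕ, orderOf w = p ^ k) :
    ∃ g : Perm Ω, Equiv.Perm.sign g = 1 ∧ Good p u (g * w * g⁻¹) := by
  -- the one-sided statement
  have key : ∀ (u w : Perm Ω), u ≠ 1 → w ≠ 1 → (∃ k : ℕ, orderOf u = p ^ k) →
      (∃ k : ℕ, orderOf w = p ^ k) → ∀ m : ℕ, m ∈ u.cycleType →
      (∀ b ∈ u.cycleType, b ≤ m) → (∀ b ∈ w.cycleType, b ≤ m) →
      ∃ g : Perm Ω, Equiv.Perm.sign g = 1 ∧ Good p u (g * w * g⁻¹) := by
    intro u w hu hw hu' hw' m hm hmu hmw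
    obtain ⟨i, hi1, hmi⟩ := pow_of_mem_cycleType hp hu' hm
    by_cases hm5 : 5 ≤ m
    · exact main_five p hp hp3 u w hw hu' hw' m hm hm5 hmw
    · -- m = 3 = p
      have hm3 : m = 3 ∧ p = 3 := by
        have hpm : p ≤ m := by
          rw [hmi]; calc p = p ^ 1 := (pow_one p).symm
            _ ≤ p ^ i := Nat.pow_le_pow_right hp.pos hi1
        have hm4 : m ≤ 4 := by omega
        have hp4 : p ≤ 4 := le_trans hpm hm4
        have hp34 : p = 3 := by
          interval_cases p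
          · rfl
          · exact absurd hp (by decide)
        subst hp34
        refine ⟨?_, rfl⟩
        rcases Nat.lt_or_ge 1 i with h | h
        · have : 3 ^ 2 ≤ 3 ^ i := Nat.pow_le_pow_right (by norm_num) h
          omega
        · have : i = 1 := le_antisymm h hi1
          rw [hmi, this]; norm_num
      obtain ⟨rfl, rfl⟩ := hm3
      have h3 : ∀ (x : Perm Ω), (∃ k : ℕ, orderOf x = 3 ^ k) → (∀ b ∈ x.cycleType, b ≤ 3) →
          ∀ b ∈ x.cycleType, b = 3 := by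
        intro x hx' hx3 b hb
        obtain ⟨j, hj1, hbj⟩ := pow_of_mem_cycleType hp hx' hb
        have := hx3 b hb
        have : 3 ^ 1 ≤ 3 ^ j := Nat.pow_le_pow_right (by norm_num) hj1
        omega
      exact main_three hn u w hu hw (h3 u hu' hmu) (h3 w hw' hmw)
  -- maxima
  have hune : u.cycleType ≠ 0 := by
    intro h; exact hu (Equiv.Perm.cycleType_eq_zero.1 h)
  have hwne : w.cycleType ≠ 0 := by
    intro h; exact hw (Equiv.Perm.cycleType_eq_zero.1 h)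
  obtain ⟨mu, hmu_mem, hmu_max⟩ : ∃ m ∈ u.cycleType, ∀ b ∈ u.cycleType, b ≤ m := by
    obtain ⟨a, ha⟩ := Multiset.exists_mem_of_ne_zero hune
    obtain ⟨m, hm, hmax⟩ := Finset.exists_max_image u.cycleType.toFinset id ⟨a, by simpa using ha⟩
    exact ⟨m, by simpa using hm, fun b hb => hmax b (by simpa using hb)⟩
  obtain ⟨mw, hmw_mem, hmw_max⟩ : ∃ m ∈ w.cycleType, ∀ b ∈ w.cycleType, b ≤ m := by
    obtain ⟨a, ha⟩ := Multiset.exists_mem_of_ne_zero hwne
    obtain ⟨m, hm, hmax⟩ := Finset.exists_max_image w.cycleType.toFinset id ⟨a, by simpa using ha⟩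
    exact ⟨m, by simpa using hm, fun b hb => hmax b (by simpa using hb)⟩
  rcases le_total mw mu with hle | hle
  · exact key u w hu hw hu' hw' mu hmu_mem hmu_max (fun b hb => le_trans (hmw_max b hb) hle)
  · obtain ⟨g, hg, hgood⟩ := key w u hw hu hw' hu' mw hmw_mem hmw_max
      (fun b hb => le_trans (hmu_max b hb) hle)
    refine ⟨g⁻¹, by simp [hg], ?_⟩
    have h1 := Cfsg.Agent.Lib.Helper5.APF.Good.symm (Cfsg.Agent.Lib.Helper5.APF.Good.conj hgood g⁻¹)
    have e1 : g⁻¹ * (g * u * g⁻¹) * g⁻¹⁻¹ = u := by group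
    have e2 : g⁻¹ * w * g⁻¹⁻¹ = g⁻¹ * w * g⁻¹⁻¹ := rfl
    rw [e1] at h1
    exact h1

end Cfsg.Agent.Lib.Helper6.APF
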