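import Mathlib
import Cfsg.Agent.Lib.Helper6.PermChar

set_option autoImplicit false

/-!
# Orbit counting on tuples for highly transitive actions

Canonical labelling of tuples, the pattern count (Bell numbers) and moments of the
permutation character.
-/

namespace Cfsg.Agent.Lib.Helper6.AltVan

open scoped ComplexConjugate

section general

variable {G : Type*} [Group G]

/-- Orbits are counted by the range of a complete invariant. -/
theorem card_orbits_eq_card_range {Ω ι : Type*} [MulAction G Ω] (inv : Ω → ι)
    (h1 : ∀ (g : G) (ω : Ω), inv (g • ω) = inv ω)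
    (h2 : ∀ ω ω' : Ω, inv ω = inv ω' → ∃ g : G, g • ω = ω') :
    Nat.card (Quotient (MulAction.orbitRel G Ω)) = Nat.card (Set.range inv) := by
  let f : Quotient (MulAction.orbitRel G Ω) → Set.range inv :=
    Quotient.lift (fun ω => (⟨inv ω, ω, rfl⟩ : Set.range inv)) (by
      rintro a b h
      obtain ⟨g, hg⟩ := h
      apply Subtype.ext
      show inv a = inv b
      rw [← hg]
      exact h1 g b)
  have hf : Function.Bijective f := by
    constructor
    · intro q q' hqq'
      induction q using Quotient.inductionOn with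
      | _ a =>
      induction q' using Quotient.inductionOn with
      | _ b =>
      have : inv a = inv b := congrArg Subtype.val hqq'
      obtain ⟨g, hg⟩ := h2 b a this.symm
      exact Quotient.sound ⟨g, hg⟩
    · rintro ⟨_, ω, rfl⟩
      exact ⟨Quotient.mk _ ω, rfl⟩
  exact Nat.card_congr (Equiv.ofBijective f hf)

/-- Orbit count when the invariant takes values exactly in a finset. -/
theorem card_orbits_eq_card_finset {Ω ι : Type*} [MulAction G Ω] (inv : Ω → ι) (S : Finset ι)
    (h1 : ∀ (g : G) (ω : Ω), inv (g • ω) = inv ω)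
    (h2 : ∀ ω ω' : Ω, inv ω = inv ω' → ∃ g : G, g • ω = ω')
    (h3 : ∀ ω, inv ω ∈ S) (h4 : ∀ c ∈ S, ∃ ω, inv ω = c) :
    Nat.card (Quotient (MulAction.orbitRel G Ω)) = S.card := by
  rw [card_orbits_eq_card_range inv h1 h2]
  have : Set.range inv = (S : Set ι) := by
    ext c
    constructor
    · rintro ⟨ω, rfl⟩
      exact h3 ω
    · intro hc
      exact h4 c hc
  rw [this, Nat.card_coe_set_eq, Set.ncard_coe_finset]

/-- The permutation character of a power of a `G`-set. -/
theorem permChar_pi (k : ℕ) (X : Type*) [MulAction G X] (g : G) :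
    permChar G (Fin k → X) g = (permChar G X g) ^ k := by
  unfold permChar
  rw [← Nat.cast_pow]
  congr 1
  have h : Nat.card (Fin k → MulAction.fixedBy X g) = Nat.card (MulAction.fixedBy X g) ^ k := by
    rw [Nat.card_fun]
    simp
  rw [← h]
  apply Nat.card_congr
  exact
    { toFun := fun u i => ⟨u.1 i, by
        have := u.2
        rw [MulAction.mem_fixedBy] at this ⊢
        exact congrFun this i⟩
      invFun := fun v => ⟨fun i => (v i).1, by
        rw [MulAction.mem_fixedBy]
        funext i
        exact (v i).2⟩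
      left_inv := fun u => rfl
      right_inv := fun v => rfl }

end general

section patterns

variable {X : Type*} [DecidableEq X]

/-- Canonical labelling of a tuple: the least index carrying the same value. -/
def lab {k : ℕ} (u : Fin k → X) (i : Fin k) : Fin k :=
  (Finset.univ.filter (fun j => u j = u i)).min' ⟨i, by simp⟩

theorem lab_spec {k : ℕ} (u : Fin k → X) (i : Fin k) : u (lab u i) = u i := by
  have h := Finset.min'_mem (Finset.univ.filter (fun j => u j = u i)) ⟨i, by simp⟩
  exact (Finset.mem_filter.mp h).2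

theorem lab_le {k : ℕ} (u : Fin k → X) (i j : Fin k) (h : u j = u i) : lab u i ≤ j :=
  Finset.min'_le _ _ (by simp [h])

theorem lab_eq_iff {k : ℕ} (u : Fin k → X) (i m : Fin k) :
    lab u i = m ↔ u m = u i ∧ ∀ j, u j = u i → m ≤ j := by
  constructor
  · rintro rfl
    exact ⟨lab_spec u i, fun j hj => lab_le u i j hj⟩
  · rintro ⟨h1, h2⟩
    exact le_antisymm (lab_le u i m h1) (h2 _ (lab_spec u i))

theorem lab_congr {k : ℕ} {Y : Type*} [DecidableEq Y] (u : Fin k → X) (v : Fin k → Y)
    (h : ∀ i j, u i = u j ↔ v i = v j) : lab u = lab v := by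
  funext i
  rw [lab_eq_iff]
  refine ⟨(h _ _).2 (lab_spec v i), fun j hj => lab_le v i j ((h j i).1 hj)⟩

theorem lab_eq_of_eq {k : ℕ} (u : Fin k → X) {i j : Fin k} (h : u i = u j) :
    lab u i = lab u j := by
  rw [lab_eq_iff]
  exact ⟨(lab_spec u j).trans h.symm, fun m hm => lab_le u j m (hm.trans h)⟩

theorem eq_iff_of_lab_eq {k : ℕ} {Y : Type*} [DecidableEq Y] (u : Fin k → X) (v : Fin k → Y)
    (h : lab u = lab v) (i j : Fin k) : u i = u j ↔ v i = v j := by
  constructor
  · intro hij
    have h1 := lab_eq_of_eq u hij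
    rw [h] at h1
    calc v i = v (lab v i) := (lab_spec v i).symm
      _ = v (lab v j) := by rw [h1]
      _ = v j := lab_spec v j
  · intro hij
    have h1 := lab_eq_of_eq v hij
    rw [← h] at h1
    calc u i = u (lab u i) := (lab_spec u i).symm
      _ = u (lab u j) := by rw [h1]
      _ = u j := lab_spec u j

theorem isPat_lab {k : ℕ} (u : Fin k → X) (i : Fin k) :
    lab u i ≤ i ∧ lab u (lab u i) = lab u i :=
  ⟨lab_le u i i rfl, lab_eq_of_eq u (lab_spec u i)⟩

theorem lab_comp {k : ℕ} (x : Fin k → X) (hx : Function.Injective x) (c : Fin k → Fin k)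
    (hc : ∀ i, c i ≤ i ∧ c (c i) = c i) : lab (x ∘ c) = c := by
  funext i
  rw [lab_eq_iff]
  refine ⟨by simp only [Function.comp_apply, (hc i).2], fun j hj => ?_⟩
  have h1 : c j = c i := hx hj
  calc c i = c j := h1.symm
    _ ≤ j := (hc j).1

theorem lab_smul {G : Type*} [Group G] [MulAction G X] {k : ℕ} (g : G) (u : Fin k → X) :
    lab (g • u) = lab u := by
  apply lab_congr
  intro i j
  simp only [Pi.smul_apply]
  exact smul_left_cancel_iff g

end patterns

section multtrans

/-- `G` moves any tuple of length at most `m` to any other tuple with the same equality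
pattern. -/
def MultTrans (G X : Type*) [Group G] [MulAction G X] (m : ℕ) : Prop :=
  ∀ k ≤ m, ∀ u v : Fin k → X, (∀ i j, u i = u j ↔ v i = v j) → ∃ g : G, g • u = v

variable {G X : Type*} [Group G] [MulAction G X]

theorem card_orbits_tuples [DecidableEq X] {m : ℕ} (hT : MultTrans G X m) (k : ℕ) (hk : k ≤ m)
    (x : Fin k → X) (hx : Function.Injective x) :
    Nat.card (Quotient (MulAction.orbitRel G (Fin k → X)))
      = (Finset.univ.filter (fun c : Fin k → Fin k => ∀ i, c i ≤ i ∧ c (c i) = c i)).card := by
  apply card_orbits_eq_card_finset (fun u : Fin k → X => lab u)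
  · intro g u
    exact lab_smul g u
  · intro u v huv
    exact hT k hk u v (eq_iff_of_lab_eq u v huv)
  · intro u
    simp only [Finset.mem_filter, Finset.mem_univ, true_and]
    exact isPat_lab u
  · intro c hc
    simp only [Finset.mem_filter, Finset.mem_univ, true_and] at hc
    exact ⟨x ∘ c, lab_comp x hx c hc⟩

theorem pat_card_one :
    (Finset.univ.filter (fun c : Fin 1 → Fin 1 => ∀ i, c i ≤ i ∧ c (c i) = c i)).card = 1 := by
  decide

theorem pat_card_two :
    (Finset.univ.filter (fun c : Fin 2 → Fin 2 => ∀ i, c i ≤ i ∧ c (c i) = c i)).card = 2 := by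
  decide

set_option maxRecDepth 100000 in
theorem pat_card_three :
    (Finset.univ.filter (fun c : Fin 3 → Fin 3 => ∀ i, c i ≤ i ∧ c (c i) = c i)).card = 5 := by
  decide

set_option maxRecDepth 100000 in
theorem pat_card_four :
    (Finset.univ.filter (fun c : Fin 4 → Fin 4 => ∀ i, c i ≤ i ∧ c (c i) = c i)).card = 15 := by
  decide

theorem exists_injective_of_le [Fintype X] {k : ℕ} (hk : k ≤ Fintype.card X) :
    ∃ x : Fin k → X, Function.Injective x := by
  obtain ⟨e⟩ := Function.Embedding.nonempty_of_card_le (α := Fin k) (β := X) (by simpa using hk)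
  exact ⟨e, e.injective⟩

variable [Fintype G] [Fintype X] [DecidableEq X]

/-- Moments of the permutation character of a 4-fold transitive action. -/
theorem sum_permChar_pow {m : ℕ} (hT : MultTrans G X m) (k : ℕ) (hk : k ≤ m)
    (hX : k ≤ Fintype.card X) :
    ∑ g : G, (permChar G X g) ^ k
      = ((Finset.univ.filter (fun c : Fin k → Fin k => ∀ i, c i ≤ i ∧ c (c i) = c i)).card : ℂ)
        * (Nat.card G : ℂ) := by
  obtain ⟨x, hx⟩ := exists_injective_of_le (X := X) hX
  rw [← card_orbits_tuples hT k hk x hx, ← sum_permChar]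
  exact Finset.sum_congr rfl (fun g _ => (permChar_pi k X g).symm)

end multtrans

end Cfsg.Agent.Lib.Helper6.AltVan
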