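import Mathlib
import Cfsg.Agent.Lib.Helper6.AltVan1

set_option autoImplicit false

/-!
# The `G`-set of two-element subsets and its orbit counts
-/

namespace Cfsg.Agent.Lib.Helper6.AltVan

open scoped Pointwise

/-- The two-element subsets of `X`. -/
structure X2 (X : Type*) where
  /-- the underlying finset -/
  val : Finset X
  /-- it has two elements -/
  card_eq : val.card = 2

namespace X2

variable {X : Type*}

theorem ext {s t : X2 X} (h : s.1 = t.1) : s = t := by
  cases s; cases t; simp only at h; subst h; rfl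

/-- `X2 X` as a subtype of the finsets. -/
def equivSubtype : X2 X ≃ {s : Finset X // s.card = 2} where
  toFun s := ⟨s.1, s.2⟩
  invFun s := ⟨s.1, s.2⟩
  left_inv _ := rfl
  right_inv _ := rfl

instance [Fintype X] [DecidableEq X] : Fintype (X2 X) :=
  Fintype.ofEquiv _ equivSubtype.symm

instance [Finite X] : Finite (X2 X) :=
  Finite.of_equiv _ equivSubtype.symm

variable [DecidableEq X]

/-- The pair `{a, b}`. -/
def mk2 (a b : X) (h : a ≠ b) : X2 X := ⟨{a, b}, Finset.card_pair h⟩

@[simp] theorem mk2_val (a b : X) (h : a ≠ b) : (mk2 a b h).1 = {a, b} := rfl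

theorem exists_eq_mk2 (s : X2 X) : ∃ a b, ∃ h : a ≠ b, s = mk2 a b h := by
  obtain ⟨a, b, hab, hs⟩ := Finset.card_eq_two.mp s.2
  exact ⟨a, b, hab, ext hs⟩

theorem exists_eq_mk2_of_mem (s : X2 X) {x : X} (hx : x ∈ s.1) :
    ∃ b, ∃ h : x ≠ b, s = mk2 x b h := by
  obtain ⟨a, b, hab, hs⟩ := Finset.card_eq_two.mp s.2
  rw [hs, Finset.mem_insert, Finset.mem_singleton] at hx
  rcases hx with rfl | rfl
  · exact ⟨b, hab, ext hs⟩
  · exact ⟨a, hab.symm, ext (by rw [hs]; exact Finset.pair_comm a x)⟩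

theorem eq_mk2_of_mem_of_mem (s : X2 X) {x y : X} (hxy : x ≠ y) (hx : x ∈ s.1) (hy : y ∈ s.1) :
    s = mk2 x y hxy := by
  apply ext
  symm
  apply Finset.eq_of_subset_of_card_le
  · intro a ha
    simp only [mk2_val, Finset.mem_insert, Finset.mem_singleton] at ha
    rcases ha with rfl | rfl
    · exact hx
    · exact hy
  · rw [s.2, mk2_val, Finset.card_pair hxy]

variable {G : Type*} [Group G] [MulAction G X]

instance : MulAction G (X2 X) where
  smul g s := ⟨g • s.1, by rw [Finset.card_smul_finset]; exact s.2⟩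
  one_smul s := ext (one_smul G s.1)
  mul_smul g h s := ext (mul_smul g h s.1)

@[simp] theorem smul_val (g : G) (s : X2 X) : (g • s).1 = g • s.1 := rfl

theorem smul_mk2 (g : G) (a b : X) (h : a ≠ b) :
    g • mk2 a b h = mk2 (g • a) (g • b) (fun h' => h (smul_left_cancel g h')) := by
  apply ext
  simp only [smul_val, mk2_val, Finset.smul_finset_insert, Finset.smul_finset_singleton]

end X2

section trans

variable {G X : Type*} [Group G] [MulAction G X]

theorem MultTrans.two {m : ℕ} (hT : MultTrans G X m) (hm : 2 ≤ m) {a b a' b' : X}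
    (hab : a ≠ b) (hab' : a' ≠ b') : ∃ g : G, g • a = a' ∧ g • b = b' := by
  obtain ⟨g, hg⟩ := hT 2 hm ![a, b] ![a', b'] (by
    intro i j
    fin_cases i <;> fin_cases j <;> simp [hab, hab', hab.symm, hab'.symm])
  exact ⟨g, congrFun hg 0, congrFun hg 1⟩

theorem MultTrans.three {m : ℕ} (hT : MultTrans G X m) (hm : 3 ≤ m) {a b c a' b' c' : X}
    (hab : a ≠ b) (hac : a ≠ c) (hbc : b ≠ c) (hab' : a' ≠ b') (hac' : a' ≠ c') (hbc' : b' ≠ c') :
    ∃ g : G, g • a = a' ∧ g • b = b' ∧ g • c = c' := by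
  obtain ⟨g, hg⟩ := hT 3 hm ![a, b, c] ![a', b', c'] (by
    intro i j
    fin_cases i <;> fin_cases j <;>
      simp [hab, hab', hab.symm, hab'.symm, hac, hac', hac.symm, hac'.symm, hbc, hbc', hbc.symm,
        hbc'.symm])
  exact ⟨g, congrFun hg 0, congrFun hg 1, congrFun hg 2⟩

theorem MultTrans.four {m : ℕ} (hT : MultTrans G X m) (hm : 4 ≤ m) {a b c d a' b' c' d' : X}
    (hab : a ≠ b) (hac : a ≠ c) (had : a ≠ d) (hbc : b ≠ c) (hbd : b ≠ d) (hcd : c ≠ d)
    (hab' : a' ≠ b') (hac' : a' ≠ c') (had' : a' ≠ d') (hbc' : b' ≠ c') (hbd' : b' ≠ d')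
    (hcd' : c' ≠ d') :
    ∃ g : G, g • a = a' ∧ g • b = b' ∧ g • c = c' ∧ g • d = d' := by
  obtain ⟨g, hg⟩ := hT 4 hm ![a, b, c, d] ![a', b', c', d'] (by
    intro i j
    fin_cases i <;> fin_cases j <;>
      simp [hab, hab', hab.symm, hab'.symm, hac, hac', hac.symm, hac'.symm, hbc, hbc', hbc.symm,
        hbc'.symm, had, had', had.symm, had'.symm, hbd, hbd', hbd.symm, hbd'.symm, hcd, hcd',
        hcd.symm, hcd'.symm])
  exact ⟨g, congrFun hg 0, congrFun hg 1, congrFun hg 2, congrFun hg 3⟩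

end trans

section orbits

variable {G X : Type*} [Group G] [MulAction G X] [DecidableEq X]

omit [DecidableEq X] in
/-- four distinct points -/
theorem exists_four [Fintype X] (hX : 4 ≤ Fintype.card X) :
    ∃ x0 x1 x2 x3 : X, x0 ≠ x1 ∧ x0 ≠ x2 ∧ x0 ≠ x3 ∧ x1 ≠ x2 ∧ x1 ≠ x3 ∧ x2 ≠ x3 := by
  obtain ⟨x, hx⟩ := exists_injective_of_le (X := X) (k := 4) hX
  refine ⟨x 0, x 1, x 2, x 3, ?_, ?_, ?_, ?_, ?_, ?_⟩ <;>
  · intro h
    have := hx h
    revert this
    decide

/-- `G` is transitive on pairs. -/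
theorem card_orbits_X2 [Fintype X] {m : ℕ} (hT : MultTrans G X m) (hm : 4 ≤ m)
    (hX : 4 ≤ Fintype.card X) :
    Nat.card (Quotient (MulAction.orbitRel G (X2 X))) = 1 := by
  obtain ⟨x0, x1, x2, x3, h01, h02, h03, h12, h13, h23⟩ := exists_four hX
  have := card_orbits_eq_card_finset (G := G) (fun _ : X2 X => ()) {()} (fun _ _ => rfl)
    (by
      intro s s' _
      obtain ⟨a, b, hab, rfl⟩ := X2.exists_eq_mk2 s
      obtain ⟨a', b', hab', rfl⟩ := X2.exists_eq_mk2 s'
      obtain ⟨g, hga, hgb⟩ := hT.two (by omega) hab hab'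
      refine ⟨g, ?_⟩
      rw [X2.smul_mk2]
      apply X2.ext
      simp only [X2.mk2_val, hga, hgb])
    (fun _ => Finset.mem_singleton_self _)
    (fun c _ => ⟨X2.mk2 x0 x1 h01, rfl⟩)
  simpa using this

/-- Two orbits on point–pair flags. -/
theorem card_orbits_X_X2 [Fintype X] {m : ℕ} (hT : MultTrans G X m) (hm : 4 ≤ m)
    (hX : 4 ≤ Fintype.card X) :
    Nat.card (Quotient (MulAction.orbitRel G (X × X2 X))) = 2 := by
  obtain ⟨x0, x1, x2, x3, h01, h02, h03, h12, h13, h23⟩ := exists_four hX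
  have := card_orbits_eq_card_finset (G := G) (fun p : X × X2 X => decide (p.1 ∈ p.2.1))
    Finset.univ
    (by
      rintro g ⟨x, s⟩
      simp only [Prod.smul_fst, Prod.smul_snd, X2.smul_val, Finset.smul_mem_smul_finset_iff])
    (by
      rintro ⟨x, s⟩ ⟨x', s'⟩ h
      simp only [decide_eq_decide] at h
      by_cases hx : x ∈ s.1
      · have hx' : x' ∈ s'.1 := h.1 hx
        obtain ⟨b, hb, rfl⟩ := X2.exists_eq_mk2_of_mem s hx
        obtain ⟨b', hb', rfl⟩ := X2.exists_eq_mk2_of_mem s' hx'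
        obtain ⟨g, hga, hgb⟩ := hT.two (by omega) hb hb'
        refine ⟨g, ?_⟩
        rw [Prod.smul_mk, X2.smul_mk2]
        refine Prod.ext hga (X2.ext ?_)
        simp only [X2.mk2_val, hga, hgb]
      · have hx' : x' ∉ s'.1 := fun h' => hx (h.2 h')
        obtain ⟨a, b, hab, rfl⟩ := X2.exists_eq_mk2 s
        obtain ⟨a', b', hab', rfl⟩ := X2.exists_eq_mk2 s'
        simp only [X2.mk2_val, Finset.mem_insert, Finset.mem_singleton, not_or] at hx hx'
        obtain ⟨g, hgx, hga, hgb⟩ := hT.three (by omega) hx.1 hx.2 hab hx'.1 hx'.2 hab'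
        refine ⟨g, ?_⟩
        rw [Prod.smul_mk, X2.smul_mk2]
        refine Prod.ext hgx (X2.ext ?_)
        simp only [X2.mk2_val, hga, hgb])
    (fun _ => Finset.mem_univ _)
    (by
      intro c _
      cases c
      · refine ⟨(x2, X2.mk2 x0 x1 h01), ?_⟩
        simp [h02.symm, h12.symm]
      · refine ⟨(x0, X2.mk2 x0 x1 h01), ?_⟩
        simp)
  simpa using this

/-- Six orbits on (point, point, pair). -/
theorem card_orbits_XX_X2 [Fintype X] {m : ℕ} (hT : MultTrans G X m) (hm : 4 ≤ m)
    (hX : 4 ≤ Fintype.card X) :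
    Nat.card (Quotient (MulAction.orbitRel G ((X × X) × X2 X))) = 6 := by
  obtain ⟨x0, x1, x2, x3, h01, h02, h03, h12, h13, h23⟩ := exists_four hX
  have := card_orbits_eq_card_finset (G := G)
    (fun p : (X × X) × X2 X => (decide (p.1.1 = p.1.2), decide (p.1.1 ∈ p.2.1),
      decide (p.1.2 ∈ p.2.1)))
    (Finset.univ.filter (fun b : Bool × Bool × Bool => b.1 = true → b.2.1 = b.2.2))
    (by
      rintro g ⟨⟨x, y⟩, s⟩
      simp only [Prod.smul_fst, Prod.smul_snd, X2.smul_val, Finset.smul_mem_smul_finset_iff,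
        smul_left_cancel_iff])
    (by
      rintro ⟨⟨x, y⟩, s⟩ ⟨⟨x', y'⟩, s'⟩ h
      simp only [Prod.mk.injEq, decide_eq_decide] at h
      obtain ⟨h1, h2, h3⟩ := h
      by_cases hxy : x = y
      · have hxy' : x' = y' := h1.1 hxy
        subst hxy
        subst hxy'
        by_cases hx : x ∈ s.1
        · have hx' : x' ∈ s'.1 := h2.1 hx
          obtain ⟨b, hb, rfl⟩ := X2.exists_eq_mk2_of_mem s hx
          obtain ⟨b', hb', rfl⟩ := X2.exists_eq_mk2_of_mem s' hx'
          obtain ⟨g, hga, hgb⟩ := hT.two (by omega) hb hb'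
          refine ⟨g, ?_⟩
          rw [Prod.smul_mk, Prod.smul_mk, X2.smul_mk2]
          refine Prod.ext (Prod.ext hga hga) (X2.ext ?_)
          simp only [X2.mk2_val, hga, hgb]
        · have hx' : x' ∉ s'.1 := fun h' => hx (h2.2 h')
          obtain ⟨a, b, hab, rfl⟩ := X2.exists_eq_mk2 s
          obtain ⟨a', b', hab', rfl⟩ := X2.exists_eq_mk2 s'
          simp only [X2.mk2_val, Finset.mem_insert, Finset.mem_singleton, not_or] at hx hx'
          obtain ⟨g, hgx, hga, hgb⟩ := hT.three (by omega) hx.1 hx.2 hab hx'.1 hx'.2 hab'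
          refine ⟨g, ?_⟩
          rw [Prod.smul_mk, Prod.smul_mk, X2.smul_mk2]
          refine Prod.ext (Prod.ext hgx hgx) (X2.ext ?_)
          simp only [X2.mk2_val, hga, hgb]
      · have hxy' : x' ≠ y' := fun h' => hxy (h1.2 h')
        by_cases hx : x ∈ s.1
        · have hx' : x' ∈ s'.1 := h2.1 hx
          by_cases hy : y ∈ s.1
          · have hy' : y' ∈ s'.1 := h3.1 hy
            have hs := X2.eq_mk2_of_mem_of_mem s hxy hx hy
            have hs' := X2.eq_mk2_of_mem_of_mem s' hxy' hx' hy'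
            obtain ⟨g, hga, hgb⟩ := hT.two (by omega) hxy hxy'
            refine ⟨g, ?_⟩
            rw [hs, hs', Prod.smul_mk, Prod.smul_mk, X2.smul_mk2]
            refine Prod.ext (Prod.ext hga hgb) (X2.ext ?_)
            simp only [X2.mk2_val, hga, hgb]
          · have hy' : y' ∉ s'.1 := fun h' => hy (h3.2 h')
            obtain ⟨b, hb, rfl⟩ := X2.exists_eq_mk2_of_mem s hx
            obtain ⟨b', hb', rfl⟩ := X2.exists_eq_mk2_of_mem s' hx'
            simp only [X2.mk2_val, Finset.mem_insert, Finset.mem_singleton, not_or] at hy hy'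
            obtain ⟨g, hgx, hgy, hgb⟩ := hT.three (by omega) hxy hb hy.2 hxy' hb' hy'.2
            refine ⟨g, ?_⟩
            rw [Prod.smul_mk, Prod.smul_mk, X2.smul_mk2]
            refine Prod.ext (Prod.ext hgx hgy) (X2.ext ?_)
            simp only [X2.mk2_val, hgx, hgb]
        · have hx' : x' ∉ s'.1 := fun h' => hx (h2.2 h')
          by_cases hy : y ∈ s.1
          · have hy' : y' ∈ s'.1 := h3.1 hy
            obtain ⟨b, hb, rfl⟩ := X2.exists_eq_mk2_of_mem s hy
            obtain ⟨b', hb', rfl⟩ := X2.exists_eq_mk2_of_mem s' hy'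
            simp only [X2.mk2_val, Finset.mem_insert, Finset.mem_singleton, not_or] at hx hx'
            obtain ⟨g, hgx, hgy, hgb⟩ := hT.three (by omega) hxy hx.2 hb hxy' hx'.2 hb'
            refine ⟨g, ?_⟩
            rw [Prod.smul_mk, Prod.smul_mk, X2.smul_mk2]
            refine Prod.ext (Prod.ext hgx hgy) (X2.ext ?_)
            simp only [X2.mk2_val, hgy, hgb]
          · have hy' : y' ∉ s'.1 := fun h' => hy (h3.2 h')
            obtain ⟨a, b, hab, rfl⟩ := X2.exists_eq_mk2 s
            obtain ⟨a', b', hab', rfl⟩ := X2.exists_eq_mk2 s'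
            simp only [X2.mk2_val, Finset.mem_insert, Finset.mem_singleton, not_or]
              at hx hx' hy hy'
            obtain ⟨g, hgx, hgy, hga, hgb⟩ := hT.four (by omega) hxy hx.1 hx.2 hy.1 hy.2 hab
              hxy' hx'.1 hx'.2 hy'.1 hy'.2 hab'
            refine ⟨g, ?_⟩
            rw [Prod.smul_mk, Prod.smul_mk, X2.smul_mk2]
            refine Prod.ext (Prod.ext hgx hgy) (X2.ext ?_)
            simp only [X2.mk2_val, hga, hgb])
    (by
      rintro ⟨⟨x, y⟩, s⟩
      simp only [Finset.mem_filter, Finset.mem_univ, true_and, decide_eq_true_eq]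
      rintro rfl
      rfl)
    (by
      rintro ⟨b1, b2, b3⟩ hb
      simp only [Finset.mem_filter, Finset.mem_univ, true_and] at hb
      cases b1
      · cases b2
        · cases b3
          · refine ⟨((x2, x3), X2.mk2 x0 x1 h01), ?_⟩
            simp [h02.symm, h12.symm, h03.symm, h13.symm, h23]
          · refine ⟨((x2, x0), X2.mk2 x0 x1 h01), ?_⟩
            simp [h02.symm, h12.symm]
        · cases b3
          · refine ⟨((x0, x2), X2.mk2 x0 x1 h01), ?_⟩
            simp [h02.symm, h12.symm, h02]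
          · refine ⟨((x0, x1), X2.mk2 x0 x1 h01), ?_⟩
            simp [h01]
      · have := hb rfl
        subst this
        cases b2
        · refine ⟨((x2, x2), X2.mk2 x0 x1 h01), ?_⟩
          simp [h02.symm, h12.symm]
        · refine ⟨((x0, x0), X2.mk2 x0 x1 h01), ?_⟩
          simp)
  rw [this]
  decide

/-- Three orbits on pairs of pairs. -/
theorem card_orbits_X2_X2 [Fintype X] {m : ℕ} (hT : MultTrans G X m) (hm : 4 ≤ m)
    (hX : 4 ≤ Fintype.card X) :
    Nat.card (Quotient (MulAction.orbitRel G (X2 X × X2 X))) = 3 := by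
  obtain ⟨x0, x1, x2, x3, h01, h02, h03, h12, h13, h23⟩ := exists_four hX
  have := card_orbits_eq_card_finset (G := G)
    (fun p : X2 X × X2 X => (decide (p.1.1 = p.2.1), decide (∃ a ∈ p.1.1, a ∈ p.2.1)))
    (Finset.univ.filter (fun b : Bool × Bool => b.1 = true → b.2 = true))
    (by
      rintro g ⟨s, t⟩
      simp only [Prod.smul_fst, Prod.smul_snd, X2.smul_val, Prod.mk.injEq, decide_eq_decide]
      constructor
      · exact smul_left_cancel_iff g
      · constructor
        · rintro ⟨a, ha, hb⟩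
          exact ⟨g⁻¹ • a, Finset.inv_smul_mem_iff.mpr ha, Finset.inv_smul_mem_iff.mpr hb⟩
        · rintro ⟨a, ha, hb⟩
          exact ⟨g • a, Finset.smul_mem_smul_finset_iff g |>.mpr ha,
            Finset.smul_mem_smul_finset_iff g |>.mpr hb⟩)
    (by
      rintro ⟨s, t⟩ ⟨s', t'⟩ h
      simp only [Prod.mk.injEq, decide_eq_decide] at h
      obtain ⟨h1, h2⟩ := h
      by_cases hst : s.1 = t.1
      · have hst' : s'.1 = t'.1 := h1.1 hst
        have e1 : t = s := X2.ext hst.symm
        have e2 : t' = s' := X2.ext hst'.symm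
        subst e1
        subst e2
        obtain ⟨a, b, hab, rfl⟩ := X2.exists_eq_mk2 t
        obtain ⟨a', b', hab', rfl⟩ := X2.exists_eq_mk2 t'
        obtain ⟨g, hga, hgb⟩ := hT.two (by omega) hab hab'
        refine ⟨g, ?_⟩
        rw [Prod.smul_mk, X2.smul_mk2]
        refine Prod.ext (X2.ext ?_) (X2.ext ?_) <;> simp only [X2.mk2_val, hga, hgb]
      · have hst' : s'.1 ≠ t'.1 := fun h' => hst (h1.2 h')
        by_cases hm : ∃ a ∈ s.1, a ∈ t.1
        · obtain ⟨a', ha's, ha't⟩ := h2.1 hm
          obtain ⟨a, has, hat⟩ := hm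
          obtain ⟨b, hb, rfl⟩ := X2.exists_eq_mk2_of_mem s has
          obtain ⟨d, hd, rfl⟩ := X2.exists_eq_mk2_of_mem t hat
          obtain ⟨b', hb', rfl⟩ := X2.exists_eq_mk2_of_mem s' ha's
          obtain ⟨d', hd', rfl⟩ := X2.exists_eq_mk2_of_mem t' ha't
          have hbd : b ≠ d := by
            rintro rfl
            exact hst rfl
          have hbd' : b' ≠ d' := by
            rintro rfl
            exact hst' rfl
          obtain ⟨g, hga, hgb, hgd⟩ := hT.three (by omega) hb hd hbd hb' hd' hbd'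
          refine ⟨g, ?_⟩
          rw [Prod.smul_mk, X2.smul_mk2, X2.smul_mk2]
          refine Prod.ext (X2.ext ?_) (X2.ext ?_) <;> simp only [X2.mk2_val, hga, hgb, hgd]
        · have hm' : ¬ ∃ a ∈ s'.1, a ∈ t'.1 := fun h' => hm (h2.2 h')
          obtain ⟨a, b, hab, rfl⟩ := X2.exists_eq_mk2 s
          obtain ⟨c, d, hcd, rfl⟩ := X2.exists_eq_mk2 t
          obtain ⟨a', b', hab', rfl⟩ := X2.exists_eq_mk2 s'
          obtain ⟨c', d', hcd', rfl⟩ := X2.exists_eq_mk2 t'
          simp only [X2.mk2_val, Finset.mem_insert, Finset.mem_singleton, not_exists, not_and,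
            not_or] at hm hm'
          have ha := hm a (Or.inl rfl)
          have hb := hm b (Or.inr rfl)
          have ha' := hm' a' (Or.inl rfl)
          have hb' := hm' b' (Or.inr rfl)
          obtain ⟨g, hga, hgb, hgc, hgd⟩ := hT.four (by omega) hab ha.1 ha.2 hb.1 hb.2 hcd
            hab' ha'.1 ha'.2 hb'.1 hb'.2 hcd'
          refine ⟨g, ?_⟩
          rw [Prod.smul_mk, X2.smul_mk2, X2.smul_mk2]
          refine Prod.ext (X2.ext ?_) (X2.ext ?_) <;>
            simp only [X2.mk2_val, hga, hgb, hgc, hgd])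
    (by
      rintro ⟨s, t⟩
      simp only [Finset.mem_filter, Finset.mem_univ, true_and, decide_eq_true_eq]
      intro hst
      obtain ⟨a, b, hab, rfl⟩ := X2.exists_eq_mk2 s
      exact ⟨a, by simp, by rw [← hst]; simp⟩)
    (by
      rintro ⟨b1, b2⟩ hb
      simp only [Finset.mem_filter, Finset.mem_univ, true_and] at hb
      cases b1
      · cases b2
        · refine ⟨(X2.mk2 x0 x1 h01, X2.mk2 x2 x3 h23), ?_⟩
          have hne : ({x0, x1} : Finset X) ≠ {x2, x3} := by
            intro h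
            have : x0 ∈ ({x2, x3} : Finset X) := by rw [← h]; simp
            simp only [Finset.mem_insert, Finset.mem_singleton] at this
            rcases this with h | h
            · exact h02 h
            · exact h03 h
          simp [hne, h02, h03, h12, h13]
        · refine ⟨(X2.mk2 x0 x1 h01, X2.mk2 x0 x2 h02), ?_⟩
          have hne : ({x0, x1} : Finset X) ≠ {x0, x2} := by
            intro h
            have : x1 ∈ ({x0, x2} : Finset X) := by rw [← h]; simp
            simp only [Finset.mem_insert, Finset.mem_singleton] at this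
            rcases this with h | h
            · exact h01 h.symm
            · exact h12 h
          simp [hne]
      · have := hb rfl
        subst this
        refine ⟨(X2.mk2 x0 x1 h01, X2.mk2 x0 x1 h01), ?_⟩
        simp)
  rw [this]
  decide

end orbits

end Cfsg.Agent.Lib.Helper6.AltVan
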