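import Mathlib
import Cfsg.Agent.Lib.Helper6.AltVan2
import Cfsg.Agent.Lib.Helper6.GaloisConj
import Cfsg.Agent.Lib.Helper6.GenCharOps

set_option autoImplicit false

/-!
# Three irreducible characters of a 4-fold transitive group
-/

namespace Cfsg.Agent.Lib.Helper6.AltVan

open scoped ComplexConjugate

section algebra

theorem sum_sq_aux {ι : Type*} (s : Finset ι) (p q : ι → ℂ) (N : ℂ)
    (m0 : ∑ _i ∈ s, (1 : ℂ) = N) (m1 : ∑ i ∈ s, p i = N) (m2 : ∑ i ∈ s, p i ^ 2 = 2 * N)
    (m3 : ∑ i ∈ s, p i ^ 3 = 5 * N) (m4 : ∑ i ∈ s, p i ^ 4 = 15 * N)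
    (n1 : ∑ i ∈ s, q i = N) (n2 : ∑ i ∈ s, p i * q i = 2 * N)
    (n3 : ∑ i ∈ s, p i ^ 2 * q i = 6 * N) (n4 : ∑ i ∈ s, q i ^ 2 = 3 * N) :
    ∑ i ∈ s, (p i - 1) ^ 2 = N ∧ ∑ i ∈ s, (q i - p i) ^ 2 = N ∧
      ∑ i ∈ s, (p i ^ 2 - 2 * p i + 1 - q i) ^ 2 = N := by
  refine ⟨?_, ?_, ?_⟩
  · calc ∑ i ∈ s, (p i - 1) ^ 2
        = ∑ i ∈ s, p i ^ 2 - 2 * ∑ i ∈ s, p i + ∑ _i ∈ s, (1 : ℂ) := by
          rw [Finset.mul_sum, ← Finset.sum_sub_distrib, ← Finset.sum_add_distrib]
          exact Finset.sum_congr rfl (fun i _ => by ring)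
      _ = N := by rw [m2, m1, m0]; ring
  · calc ∑ i ∈ s, (q i - p i) ^ 2
        = ∑ i ∈ s, q i ^ 2 - 2 * ∑ i ∈ s, p i * q i + ∑ i ∈ s, p i ^ 2 := by
          rw [Finset.mul_sum, ← Finset.sum_sub_distrib, ← Finset.sum_add_distrib]
          exact Finset.sum_congr rfl (fun i _ => by ring)
      _ = N := by rw [n4, n2, m2]; ring
  · calc ∑ i ∈ s, (p i ^ 2 - 2 * p i + 1 - q i) ^ 2
        = ∑ i ∈ s, p i ^ 4 - 4 * ∑ i ∈ s, p i ^ 3 + 6 * ∑ i ∈ s, p i ^ 2 - 4 * ∑ i ∈ s, p i
            + ∑ _i ∈ s, (1 : ℂ) + ∑ i ∈ s, q i ^ 2 - 2 * ∑ i ∈ s, p i ^ 2 * q i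
            + 4 * ∑ i ∈ s, p i * q i - 2 * ∑ i ∈ s, q i := by
          simp only [Finset.mul_sum, ← Finset.sum_sub_distrib, ← Finset.sum_add_distrib]
          exact Finset.sum_congr rfl (fun i _ => by ring)
      _ = N := by rw [m4, m3, m2, m1, m0, n4, n3, n2, n1]; ring

end algebra

section chars

variable (G X : Type*) [Group G] [MulAction G X] [DecidableEq X]

/-- the character `π - 1` -/
noncomputable def chi1 : G → ℂ := fun g => permChar G X g - 1

/-- the character `π₂ - π` -/
noncomputable def chi2 : G → ℂ := fun g => permChar G (X2 X) g - permChar G X g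

/-- the character `π² - 2π + 1 - π₂` -/
noncomputable def chi3 : G → ℂ :=
  fun g => permChar G X g ^ 2 - 2 * permChar G X g + 1 - permChar G (X2 X) g

variable {G X}

theorem permChar_apply_one (Y : Type*) [MulAction G Y] : permChar G Y 1 = (Nat.card Y : ℂ) := by
  unfold permChar
  congr 1
  have : MulAction.fixedBy Y (1 : G) = Set.univ := by
    ext x
    simp
  rw [this, Nat.card_coe_set_eq, Set.ncard_univ]

omit [DecidableEq X] in
theorem card_X2 [Fintype X] :
    Nat.card (X2 X) = (Fintype.card X).choose 2 := by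
  rw [Nat.card_congr X2.equivSubtype, Nat.card_eq_fintype_card, Fintype.card_finset_len]

variable [Fintype G] [Fintype X]

theorem moments (hT : MultTrans G X 4) (hX : 4 ≤ Fintype.card X) :
    (∑ _g : G, (1 : ℂ) = (Nat.card G : ℂ)) ∧
    (∑ g : G, permChar G X g = (Nat.card G : ℂ)) ∧
    (∑ g : G, permChar G X g ^ 2 = 2 * (Nat.card G : ℂ)) ∧
    (∑ g : G, permChar G X g ^ 3 = 5 * (Nat.card G : ℂ)) ∧
    (∑ g : G, permChar G X g ^ 4 = 15 * (Nat.card G : ℂ)) ∧
    (∑ g : G, permChar G (X2 X) g = (Nat.card G : ℂ)) ∧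
    (∑ g : G, permChar G X g * permChar G (X2 X) g = 2 * (Nat.card G : ℂ)) ∧
    (∑ g : G, permChar G X g ^ 2 * permChar G (X2 X) g = 6 * (Nat.card G : ℂ)) ∧
    (∑ g : G, permChar G (X2 X) g ^ 2 = 3 * (Nat.card G : ℂ)) := by
  refine ⟨?_, ?_, ?_, ?_, ?_, ?_, ?_, ?_, ?_⟩
  · simp [Nat.card_eq_fintype_card]
  · have := sum_permChar_pow hT 1 (by omega) (by omega)
    rw [pat_card_one] at this
    simpa using this
  · have := sum_permChar_pow hT 2 (by omega) (by omega)
    rw [pat_card_two] at this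
    simpa using this
  · have := sum_permChar_pow hT 3 (by omega) (by omega)
    rw [pat_card_three] at this
    simpa using this
  · have := sum_permChar_pow hT 4 (by omega) (by omega)
    rw [pat_card_four] at this
    simpa using this
  · rw [sum_permChar, card_orbits_X2 hT le_rfl hX]
    simp
  · have h : ∀ g : G, permChar G X g * permChar G (X2 X) g = permChar G (X × X2 X) g :=
      fun g => (permChar_prod X (X2 X) g).symm
    rw [Finset.sum_congr rfl (fun g _ => h g), sum_permChar, card_orbits_X_X2 hT le_rfl hX]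
    simp
  · have h : ∀ g : G, permChar G X g ^ 2 * permChar G (X2 X) g
        = permChar G ((X × X) × X2 X) g := by
      intro g
      rw [permChar_prod, permChar_prod, sq]
    rw [Finset.sum_congr rfl (fun g _ => h g), sum_permChar, card_orbits_XX_X2 hT le_rfl hX]
    simp
  · have h : ∀ g : G, permChar G (X2 X) g ^ 2 = permChar G (X2 X × X2 X) g := by
      intro g
      rw [permChar_prod, sq]
    rw [Finset.sum_congr rfl (fun g _ => h g), sum_permChar, card_orbits_X2_X2 hT le_rfl hX]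
    simp

theorem norms (hT : MultTrans G X 4) (hX : 4 ≤ Fintype.card X) :
    Cfsg.classInner (chi1 G X) (chi1 G X) = 1 ∧ Cfsg.classInner (chi2 G X) (chi2 G X) = 1 ∧
      Cfsg.classInner (chi3 G X) (chi3 G X) = 1 := by
  obtain ⟨m0, m1, m2, m3, m4, n1, n2, n3, n4⟩ := moments hT hX
  obtain ⟨s1, s2, s3⟩ := sum_sq_aux Finset.univ (permChar G X) (permChar G (X2 X)) _
    m0 m1 m2 m3 m4 n1 n2 n3 n4
  have hN := card_ne_zero_complex G
  refine ⟨?_, ?_, ?_⟩
  · unfold Cfsg.classInner
    have e : ∀ g : G, chi1 G X g * conj (chi1 G X g) = (permChar G X g - 1) ^ 2 := by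
      intro g
      unfold chi1
      rw [map_sub, map_one, permChar_conj]
      ring
    rw [Finset.sum_congr rfl (fun g _ => e g), s1]
    exact inv_mul_cancel₀ hN
  · unfold Cfsg.classInner
    have e : ∀ g : G, chi2 G X g * conj (chi2 G X g)
        = (permChar G (X2 X) g - permChar G X g) ^ 2 := by
      intro g
      unfold chi2
      rw [map_sub, permChar_conj, permChar_conj]
      ring
    rw [Finset.sum_congr rfl (fun g _ => e g), s2]
    exact inv_mul_cancel₀ hN
  · unfold Cfsg.classInner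
    have e : ∀ g : G, chi3 G X g * conj (chi3 G X g)
        = (permChar G X g ^ 2 - 2 * permChar G X g + 1 - permChar G (X2 X) g) ^ 2 := by
      intro g
      unfold chi3
      simp only [map_sub, map_add, map_mul, map_pow, map_one, permChar_conj, map_ofNat]
      ring
    rw [Finset.sum_congr rfl (fun g _ => e g), s3]
    exact inv_mul_cancel₀ hN

omit [Fintype G] [Fintype X] in
theorem isGeneralizedCharacter_chi [Finite X] :
    Cfsg.IsGeneralizedCharacter G (chi1 G X) ∧ Cfsg.IsGeneralizedCharacter G (chi2 G X) ∧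
      Cfsg.IsGeneralizedCharacter G (chi3 G X) := by
  have hp := IsCharacter.isGeneralizedCharacter (isCharacter_permChar (G := G) X)
  have hq := IsCharacter.isGeneralizedCharacter (isCharacter_permChar (G := G) (X2 X))
  have h1 := IsCharacter.isGeneralizedCharacter (isCharacter_one (G := G))
  refine ⟨?_, ?_, ?_⟩
  · have : chi1 G X = permChar G X - fun _ => (1 : ℂ) := rfl
    rw [this]
    exact IsGeneralizedCharacter.sub hp h1
  · have : chi2 G X = permChar G (X2 X) - permChar G X := rfl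
    rw [this]
    exact IsGeneralizedCharacter.sub hq hp
  · have : chi3 G X = permChar G X * permChar G X - (permChar G X + permChar G X)
        + (fun _ => (1 : ℂ)) - permChar G (X2 X) := by
      funext g
      simp only [chi3, Pi.sub_apply, Pi.add_apply, Pi.mul_apply]
      ring
    rw [this]
    exact IsGeneralizedCharacter.sub (IsGeneralizedCharacter.add (IsGeneralizedCharacter.sub
      (IsGeneralizedCharacter.mul hp hp) (IsGeneralizedCharacter.add hp hp)) h1) hq

theorem isIrrCharacter_chi (hT : MultTrans G X 4) (hX : 4 ≤ Fintype.card X) :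
    Cfsg.IsIrrCharacter G (chi1 G X) ∧ Cfsg.IsIrrCharacter G (chi2 G X) ∧
      Cfsg.IsIrrCharacter G (chi3 G X) := by
  obtain ⟨g1, g2, g3⟩ := isGeneralizedCharacter_chi (G := G) (X := X)
  obtain ⟨n1, n2, n3⟩ := norms hT hX
  have hp1 : permChar G X 1 = ((Fintype.card X : ℝ) : ℂ) := by
    rw [permChar_apply_one, Nat.card_eq_fintype_card]
    simp
  have hq1 : permChar G (X2 X) 1
      = (((Fintype.card X : ℝ) * ((Fintype.card X : ℝ) - 1) / 2 : ℝ) : ℂ) := by
    rw [permChar_apply_one, card_X2, Nat.cast_choose_two]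
    push_cast
    ring
  have hn : (4 : ℝ) ≤ (Fintype.card X : ℝ) := by exact_mod_cast hX
  refine ⟨?_, ?_, ?_⟩
  · apply IsGeneralizedCharacter.isIrrCharacter_of_norm_one g1 n1
    have : chi1 G X 1 = (((Fintype.card X : ℝ) - 1 : ℝ) : ℂ) := by
      unfold chi1
      rw [hp1]
      push_cast
      ring
    rw [this, Complex.ofReal_re]
    linarith
  · apply IsGeneralizedCharacter.isIrrCharacter_of_norm_one g2 n2
    have : chi2 G X 1 = (((Fintype.card X : ℝ) * ((Fintype.card X : ℝ) - 1) / 2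
        - (Fintype.card X : ℝ) : ℝ) : ℂ) := by
      unfold chi2
      rw [hp1, hq1]
      push_cast
      ring
    rw [this, Complex.ofReal_re]
    nlinarith
  · apply IsGeneralizedCharacter.isIrrCharacter_of_norm_one g3 n3
    have : chi3 G X 1 = (((Fintype.card X : ℝ) ^ 2 - 2 * (Fintype.card X : ℝ) + 1
        - (Fintype.card X : ℝ) * ((Fintype.card X : ℝ) - 1) / 2 : ℝ) : ℂ) := by
      unfold chi3
      rw [hp1, hq1]
      push_cast
      ring
    rw [this, Complex.ofReal_re]
    nlinarith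

end chars

end Cfsg.Agent.Lib.Helper6.AltVan
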