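import Mathlib
import Cfsg.Agent.Lib.Helper6.AltVan3

set_option autoImplicit false

/-!
# Symmetric and alternating groups are highly transitive on equality patterns
-/

namespace Cfsg.Agent.Lib.Helper6.AltVan

section

variable {X : Type*} [Fintype X] [DecidableEq X]

theorem exists_perm_of_same_kernel {k : ℕ} (u v : Fin k → X)
    (h : ∀ i j, u i = u j ↔ v i = v j) : ∃ g : Equiv.Perm X, ∀ i, g (u i) = v i := by
  classical
  let f : {x // x ∈ Set.range u} → {x // x ∈ Set.range v} :=
    fun x => ⟨v (Classical.choose x.2), Classical.choose x.2, rfl⟩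
  have hf : ∀ i, f ⟨u i, i, rfl⟩ = ⟨v i, i, rfl⟩ := by
    intro i
    apply Subtype.ext
    show v (Classical.choose (⟨i, rfl⟩ : u i ∈ Set.range u)) = v i
    have := Classical.choose_spec (⟨i, rfl⟩ : u i ∈ Set.range u)
    exact (h _ _).1 this
  have hbij : Function.Bijective f := by
    constructor
    · rintro ⟨_, i, rfl⟩ ⟨_, j, rfl⟩ hij
      rw [hf, hf] at hij
      apply Subtype.ext
      exact (h i j).2 (congrArg Subtype.val hij)
    · rintro ⟨_, j, rfl⟩
      exact ⟨⟨u j, j, rfl⟩, hf j⟩
  let e : {x // x ∈ Set.range u} ≃ {x // x ∈ Set.range v} := Equiv.ofBijective f hbij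
  refine ⟨e.extendSubtype, fun i => ?_⟩
  rw [Equiv.extendSubtype_apply_of_mem e (u i) ⟨i, rfl⟩]
  exact congrArg Subtype.val (hf i)

theorem multTrans_perm (m : ℕ) : MultTrans (Equiv.Perm X) X m := by
  intro k _ u v h
  obtain ⟨g, hg⟩ := exists_perm_of_same_kernel u v h
  exact ⟨g, funext hg⟩

theorem multTrans_alternatingGroup (m : ℕ) (hm : m + 2 ≤ Fintype.card X) :
    MultTrans (alternatingGroup X) X m := by
  intro k hk u v h
  obtain ⟨g, hg⟩ := exists_perm_of_same_kernel u v h
  rcases Int.units_eq_one_or (Equiv.Perm.sign g) with hs | hs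
  · refine ⟨⟨g, Equiv.Perm.mem_alternatingGroup.mpr hs⟩, ?_⟩
    funext i
    exact hg i
  · -- two points outside the range of `v`
    have hcard : 2 ≤ ((Finset.univ.image v)ᶜ : Finset X).card := by
      rw [Finset.card_compl]
      have : (Finset.univ.image v).card ≤ k := by
        calc (Finset.univ.image v).card ≤ (Finset.univ : Finset (Fin k)).card :=
              Finset.card_image_le
          _ = k := by simp
      omega
    obtain ⟨p, hp, q, hq, hpq⟩ := Finset.one_lt_card.mp
      (by omega : 1 < ((Finset.univ.image v)ᶜ : Finset X).card)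
    simp only [Finset.mem_compl, Finset.mem_image, Finset.mem_univ, true_and, not_exists] at hp hq
    refine ⟨⟨Equiv.swap p q * g, ?_⟩, ?_⟩
    · rw [Equiv.Perm.mem_alternatingGroup, map_mul, Equiv.Perm.sign_swap hpq, hs]
      rfl
    · funext i
      show (Equiv.swap p q * g) (u i) = v i
      rw [Equiv.Perm.mul_apply, hg i]
      exact Equiv.swap_apply_of_ne_of_ne (fun h' => hp i h') (fun h' => hq i h')

end

end Cfsg.Agent.Lib.Helper6.AltVan
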