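import Mathlib
import Cfsg.Agent.Lib.Helper6.AltVan4

set_option autoImplicit false
set_option linter.unusedSectionVars false

/-!
# Fixed points of explicit cycle types and vanishing of the three characters
-/

namespace Cfsg.Agent.Lib.Helper6.AltVan

open scoped Pointwise

section fixed

variable {X : Type*} [Fintype X] [DecidableEq X]

/-- fixed points from the cycle type -/
theorem card_fixedBy_perm (g : Equiv.Perm X) :
    Nat.card (MulAction.fixedBy X g) = Fintype.card X - g.cycleType.sum := by
  have h : MulAction.fixedBy X g = Function.fixedPoints g := by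
    ext x
    rfl
  rw [h, Nat.card_eq_fintype_card]
  convert Equiv.Perm.card_fixedPoints g

theorem apply_eq_self_of_sq (g : Equiv.Perm X) (h3 : ∀ ℓ ∈ g.cycleType, 3 ≤ ℓ) (a : X)
    (ha : g (g a) = a) : g a = a := by
  by_contra hne
  have hc := Equiv.Perm.isCycle_cycleOf g hne
  have hmem : (g.cycleOf a).support.card ∈ g.cycleType := by
    rw [Equiv.Perm.cycleType_def, Multiset.mem_map]
    refine ⟨g.cycleOf a, ?_, rfl⟩
    rw [← Finset.mem_def, Equiv.Perm.cycleOf_mem_cycleFactorsFinset_iff, Equiv.Perm.mem_support]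
    exact hne
  have h2 : (g.cycleOf a) ^ 2 = 1 := by
    rw [hc.pow_eq_one_iff' (x := a) (by rw [Equiv.Perm.cycleOf_apply_self]; exact hne),
      Equiv.Perm.cycleOf_pow_apply_self]
    simp [sq, ha]
  have hd : orderOf (g.cycleOf a) ∣ 2 := orderOf_dvd_of_pow_eq_one h2
  rw [hc.orderOf] at hd
  have h4 := Nat.le_of_dvd (by norm_num) hd
  have h5 := h3 _ hmem
  omega

theorem card_fixedBy_X2 (g : Equiv.Perm X) (h : ∀ a, g (g a) = a → g a = a) :
    Nat.card (MulAction.fixedBy (X2 X) g) = (Nat.card (MulAction.fixedBy X g)).choose 2 := by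
  classical
  set F : Finset X := Finset.univ.filter (fun a => g a = a) with hF
  have hF' : ∀ a, a ∈ F ↔ g a = a := by
    intro a
    simp [hF]
  have h1 : Nat.card (MulAction.fixedBy X g) = F.card := by
    have : MulAction.fixedBy X g = (F : Set X) := by
      ext x
      rw [MulAction.mem_fixedBy, Finset.mem_coe, hF']
      rfl
    rw [this, Nat.card_coe_set_eq, Set.ncard_coe_finset]
  rw [h1, ← Finset.card_powersetCard]
  have hsub : ∀ s : X2 X, g • s = s → s.1 ⊆ F := by
    intro s hs a ha
    rw [hF']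
    obtain ⟨b, hab, rfl⟩ := X2.exists_eq_mk2_of_mem s ha
    rw [X2.smul_mk2] at hs
    have hs' : ({g • a, g • b} : Finset X) = {a, b} := congrArg X2.val hs
    have h1 : g a ∈ ({a, b} : Finset X) := by
      rw [← hs']
      simp
    have h2 : g b ∈ ({a, b} : Finset X) := by
      rw [← hs']
      simp
    simp only [Finset.mem_insert, Finset.mem_singleton] at h1 h2
    rcases h1 with h1 | h1
    · exact h1
    · rcases h2 with h2 | h2
      · apply h
        rw [h1, h2]
      · exfalso
        apply hab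
        apply g.injective
        rw [h1, h2]
  have hfix : ∀ t : Finset X, t ⊆ F → g • t = t := by
    intro t ht
    ext x
    rw [Finset.mem_smul_finset]
    constructor
    · rintro ⟨y, hy, rfl⟩
      have : g • y = y := (hF' y).1 (ht hy)
      rw [this]
      exact hy
    · intro hx
      exact ⟨x, hx, (hF' x).1 (ht hx)⟩
  rw [← Nat.card_eq_finsetCard]
  apply Nat.card_congr
  exact
    { toFun := fun s => ⟨s.1.1, Finset.mem_powersetCard.2
        ⟨hsub s.1 (MulAction.mem_fixedBy.mp s.2), s.1.2⟩⟩
      invFun := fun t => ⟨⟨t.1, (Finset.mem_powersetCard.1 t.2).2⟩, by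
        rw [MulAction.mem_fixedBy]
        apply X2.ext
        exact hfix t.1 (Finset.mem_powersetCard.1 t.2).1⟩
      left_inv := fun s => Subtype.ext (X2.ext rfl)
      right_inv := fun t => Subtype.ext rfl }

theorem orderOf_dvd_of_cycleType (g : Equiv.Perm X) (N : ℕ) (h : ∀ a ∈ g.cycleType, a ∣ N) :
    orderOf g ∣ N := by
  rw [← Equiv.Perm.lcm_cycleType]
  exact Multiset.lcm_dvd.mpr h

omit [Fintype X] [DecidableEq X] in
/-- restriction of the permutation characters to a subgroup -/
theorem permChar_subgroup (H : Subgroup (Equiv.Perm X)) (x : H) :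
    permChar H X x = permChar (Equiv.Perm X) X (x : Equiv.Perm X) := rfl

omit [Fintype X] in
theorem permChar_X2_subgroup (H : Subgroup (Equiv.Perm X)) (x : H) :
    permChar H (X2 X) x = permChar (Equiv.Perm X) (X2 X) (x : Equiv.Perm X) := rfl

theorem chi1_subgroup (H : Subgroup (Equiv.Perm X)) (x : H) :
    chi1 (Equiv.Perm X) X (x : Equiv.Perm X) = chi1 H X x := by
  unfold chi1
  rw [permChar_subgroup]

theorem chi2_subgroup (H : Subgroup (Equiv.Perm X)) (x : H) :
    chi2 (Equiv.Perm X) X (x : Equiv.Perm X) = chi2 H X x := by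
  unfold chi2
  rw [permChar_subgroup, permChar_X2_subgroup]

theorem chi3_subgroup (H : Subgroup (Equiv.Perm X)) (x : H) :
    chi3 (Equiv.Perm X) X (x : Equiv.Perm X) = chi3 H X x := by
  unfold chi3
  rw [permChar_subgroup, permChar_X2_subgroup]

theorem chi1_eq_zero (g : Equiv.Perm X) (h : g.cycleType.sum + 1 = Fintype.card X) :
    chi1 (Equiv.Perm X) X g = 0 := by
  unfold chi1 permChar
  rw [card_fixedBy_perm, show Fintype.card X - g.cycleType.sum = 1 by omega]
  simp

theorem chi2_eq_zero (g : Equiv.Perm X) (h : g.cycleType.sum = Fintype.card X)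
    (h3 : ∀ ℓ ∈ g.cycleType, 3 ≤ ℓ) : chi2 (Equiv.Perm X) X g = 0 := by
  unfold chi2 permChar
  rw [card_fixedBy_X2 g (apply_eq_self_of_sq g h3), card_fixedBy_perm,
    show Fintype.card X - g.cycleType.sum = 0 by omega]
  simp

theorem chi3_eq_zero (g : Equiv.Perm X) (h : g.cycleType.sum + 2 = Fintype.card X)
    (h3 : ∀ ℓ ∈ g.cycleType, 3 ≤ ℓ) : chi3 (Equiv.Perm X) X g = 0 := by
  unfold chi3 permChar
  rw [card_fixedBy_X2 g (apply_eq_self_of_sq g h3), card_fixedBy_perm,
    show Fintype.card X - g.cycleType.sum = 2 by omega]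
  norm_num

end fixed

section elements

variable {X : Type*} [Fintype X] [DecidableEq X]

theorem exists_alt_of_cycleType (m : Multiset ℕ) (hsum : m.sum ≤ Fintype.card X)
    (h2 : ∀ a ∈ m, 2 ≤ a) (he : Even (m.sum + Multiset.card m)) :
    ∃ g : Equiv.Perm X, g ∈ alternatingGroup X ∧ g.cycleType = m := by
  obtain ⟨g, hg⟩ := (Equiv.Perm.exists_with_cycleType_iff X).mpr ⟨hsum, h2⟩
  refine ⟨g, ?_, hg⟩
  rw [Equiv.Perm.mem_alternatingGroup, Equiv.Perm.sign_of_cycleType, hg]
  exact he.neg_one_pow

/-- an even `2`-element moving exactly `2k` points (`k ≥ 3`) -/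
theorem exists_two_elt_a (k : ℕ) (hk : 3 ≤ k) (hX : 2 * k ≤ Fintype.card X) :
    ∃ g : Equiv.Perm X, g ∈ alternatingGroup X ∧ g.cycleType.sum = 2 * k ∧
      ∀ ℓ ∈ g.cycleType, ℓ ∣ 8 := by
  rcases Nat.even_or_odd k with he | ho
  · obtain ⟨g, hg, hc⟩ := exists_alt_of_cycleType (X := X) (Multiset.replicate k 2)
      (by simp; omega) (by
        intro a ha
        rw [Multiset.eq_of_mem_replicate ha])
      (by
        simp only [Multiset.sum_replicate, Multiset.card_replicate, smul_eq_mul]
        obtain ⟨j, rfl⟩ := he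
        exact ⟨3 * j, by ring⟩)
    refine ⟨g, hg, ?_, ?_⟩
    · rw [hc]
      simp [mul_comm]
    · intro ℓ hℓ
      rw [hc] at hℓ
      rw [Multiset.eq_of_mem_replicate hℓ]
      norm_num
  · obtain ⟨g, hg, hc⟩ := exists_alt_of_cycleType (X := X) (4 ::ₘ Multiset.replicate (k - 2) 2)
      (by simp; omega) (by
        intro a ha
        rw [Multiset.mem_cons] at ha
        rcases ha with rfl | ha
        · norm_num
        · rw [Multiset.eq_of_mem_replicate ha])
      (by
        simp only [Multiset.sum_cons, Multiset.sum_replicate, Multiset.card_cons,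
          Multiset.card_replicate, smul_eq_mul]
        obtain ⟨j, rfl⟩ := ho
        exact ⟨3 * j + 1, by omega⟩)
    refine ⟨g, hg, ?_, ?_⟩
    · rw [hc]
      simp only [Multiset.sum_cons, Multiset.sum_replicate, smul_eq_mul]
      omega
    · intro ℓ hℓ
      rw [hc, Multiset.mem_cons] at hℓ
      rcases hℓ with rfl | hℓ
      · norm_num
      · rw [Multiset.eq_of_mem_replicate hℓ]
        norm_num

/-- an even `2`-element moving exactly `4k` points (`k ≥ 2`) with all cycles of length at
least four -/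
theorem exists_two_elt_b (k : ℕ) (hk : 2 ≤ k) (hX : 4 * k ≤ Fintype.card X) :
    ∃ g : Equiv.Perm X, g ∈ alternatingGroup X ∧ g.cycleType.sum = 4 * k ∧
      (∀ ℓ ∈ g.cycleType, 3 ≤ ℓ) ∧ ∀ ℓ ∈ g.cycleType, ℓ ∣ 8 := by
  rcases Nat.even_or_odd k with he | ho
  · obtain ⟨g, hg, hc⟩ := exists_alt_of_cycleType (X := X) (Multiset.replicate k 4)
      (by simp; omega) (by
        intro a ha
        rw [Multiset.eq_of_mem_replicate ha]
        norm_num)
      (by
        simp only [Multiset.sum_replicate, Multiset.card_replicate, smul_eq_mul]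
        obtain ⟨j, rfl⟩ := he
        exact ⟨5 * j, by ring⟩)
    refine ⟨g, hg, ?_, ?_, ?_⟩
    · rw [hc]
      simp [mul_comm]
    · intro ℓ hℓ
      rw [hc] at hℓ
      rw [Multiset.eq_of_mem_replicate hℓ]
      norm_num
    · intro ℓ hℓ
      rw [hc] at hℓ
      rw [Multiset.eq_of_mem_replicate hℓ]
      norm_num
  · have hk3 : 3 ≤ k := by
      obtain ⟨j, rfl⟩ := ho
      omega
    obtain ⟨g, hg, hc⟩ := exists_alt_of_cycleType (X := X) (8 ::ₘ Multiset.replicate (k - 2) 4)
      (by simp; omega) (by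
        intro a ha
        rw [Multiset.mem_cons] at ha
        rcases ha with rfl | ha
        · norm_num
        · rw [Multiset.eq_of_mem_replicate ha]
          norm_num)
      (by
        simp only [Multiset.sum_cons, Multiset.sum_replicate, Multiset.card_cons,
          Multiset.card_replicate, smul_eq_mul]
        obtain ⟨j, rfl⟩ := ho
        exact ⟨5 * j + 2, by omega⟩)
    refine ⟨g, hg, ?_, ?_, ?_⟩
    · rw [hc]
      simp only [Multiset.sum_cons, Multiset.sum_replicate, smul_eq_mul]
      omega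
    · intro ℓ hℓ
      rw [hc, Multiset.mem_cons] at hℓ
      rcases hℓ with rfl | hℓ
      · norm_num
      · rw [Multiset.eq_of_mem_replicate hℓ]
        norm_num
    · intro ℓ hℓ
      rw [hc, Multiset.mem_cons] at hℓ
      rcases hℓ with rfl | hℓ
      · norm_num
      · rw [Multiset.eq_of_mem_replicate hℓ]
        norm_num

/-- an even element of order three moving exactly `3k` points -/
theorem exists_three_elt (k : ℕ) (hk : 1 ≤ k) (hX : 3 * k ≤ Fintype.card X) :
    ∃ g : Equiv.Perm X, g ∈ alternatingGroup X ∧ g.cycleType.sum = 3 * k ∧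
      (∀ ℓ ∈ g.cycleType, 3 ≤ ℓ) ∧ orderOf g = 3 := by
  obtain ⟨g, hg, hc⟩ := exists_alt_of_cycleType (X := X) (Multiset.replicate k 3)
    (by simp; omega) (by
      intro a ha
      rw [Multiset.eq_of_mem_replicate ha]
      norm_num)
    (by
      simp only [Multiset.sum_replicate, Multiset.card_replicate, smul_eq_mul]
      exact ⟨2 * k, by ring⟩)
  refine ⟨g, hg, ?_, ?_, ?_⟩
  · rw [hc]
    simp [mul_comm]
  · intro ℓ hℓ
    rw [hc] at hℓ
    rw [Multiset.eq_of_mem_replicate hℓ]
  · have hd : orderOf g ∣ 3 := by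
      apply orderOf_dvd_of_cycleType
      intro ℓ hℓ
      rw [hc] at hℓ
      rw [Multiset.eq_of_mem_replicate hℓ]
    rcases (Nat.dvd_prime Nat.prime_three).mp hd with h1 | h3
    · exfalso
      rw [orderOf_eq_one_iff] at h1
      rw [h1, Equiv.Perm.cycleType_one] at hc
      have : Multiset.card (Multiset.replicate k 3) = 0 := by rw [← hc]; rfl
      rw [Multiset.card_replicate] at this
      omega
    · exact h3

theorem exists_pow_two_of_dvd_eight {N : ℕ} (h : N ∣ 8) : ∃ j : ℕ, N = 2 ^ j := by
  obtain ⟨j, _, hj⟩ := (Nat.dvd_prime_pow (m := 3) Nat.prime_two).mp (by simpa using h)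
  exact ⟨j, hj⟩

end elements

end Cfsg.Agent.Lib.Helper6.AltVan
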