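import Cfsg.Agent.Lib.Helper1.AutOrbDefs
import Cfsg.Agent.Lib.Helper6.ClassCount
import Cfsg.Agent.Lib.Helper6.Linear
import Cfsg.Agent.Lib.Helper6.Multiplicity
import Cfsg.Agent.Lib.Helper4.DegCount

/-!
# S4067 farm, piece B: many classes force `|G'| = p` central
-/

set_option autoImplicit false

namespace Cfsg.Agent.Lib.Helper6.AutOrb

open Cfsg.Agent.Lib.Helper1.AutOrb Cfsg.Agent.Lib.Helper6 Cfsg.Agent.Lib.Helper4

open scoped commutatorElement

variable {G : Type*} [Group G] [Finite G]

/-- the degree of an irreducible character divides the group order. -/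
theorem degN_dvd_card (ψ : Cfsg.IrrCharacter G) : degN ψ ∣ Nat.card G := by
  have : Fintype G := Fintype.ofFinite G
  have h1 := IsIrrCharacter.charDegree_dvd_card ψ.2
  have h2 := IsCharacter.apply_one_eq_charDegree (IsIrrCharacter.isCharacter ψ.2)
  have h3 : degN ψ = Cfsg.charDegree (ψ : G → ℂ) := by
    have := degN_spec ψ
    rw [h2] at this
    exact_mod_cast this.symm
  rw [h3]; exact h1

/-- pure arithmetic core of piece B. -/
theorem arith_B (n p k l a c : ℕ) (hp : 2 ≤ p) (hk : k = l + a) (hsum : l + a * p ^ 2 ≤ n)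
    (h : n < p * k) (hn : n = l * c) : c ≤ p := by
  by_contra hcon
  have hc : p + 1 ≤ c := by omega
  have h1 : l * (p + 1) ≤ n := by rw [hn]; exact Nat.mul_le_mul_left l hc
  subst hk
  zify at *
  nlinarith [mul_nonneg (show (0:ℤ) ≤ (p:ℤ) - 2 by linarith) (show (0:ℤ) ≤ (a:ℤ) by positivity),
    mul_nonneg (show (0:ℤ) ≤ (p:ℤ) - 2 by linarith) (show (0:ℤ) ≤ (l:ℤ) by positivity)]

/-- a common divisor of `n` and of a number below `minFac n` is `1`. -/
theorem eq_one_of_dvd_of_lt_minFac {n d m : ℕ} (hdn : d ∣ n) (hdm : d ∣ m) (hm0 : 0 < m)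
    (hm : m < n.minFac) : d = 1 := by
  by_contra hd1
  have h1 : d.minFac.Prime := Nat.minFac_prime hd1
  have h2 : d.minFac ∣ n := (Nat.minFac_dvd d).trans hdn
  have h3 : n.minFac ≤ d.minFac := Nat.minFac_le_of_dvd h1.two_le h2
  have h4 : d.minFac ≤ d := Nat.minFac_le (Nat.pos_of_dvd_of_pos hdm hm0)
  have h5 : d ≤ m := Nat.le_of_dvd hm0 hdm
  omega

/-- B -/
theorem cl2_of_many_classes (hna : ¬ IsMulCommutative G)
    (h : Nat.card G < (Nat.card G).minFac * Nat.card (ConjClasses G)) :
    Cl2 G (Nat.card G).minFac := by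
  classical
  have : Fintype G := Fintype.ofFinite G
  have : Fintype (Cfsg.IrrCharacter G) := Fintype.ofFinite _
  -- the commutator subgroup is nontrivial
  have hcne : commutator G ≠ ⊥ := by
    intro hbot
    apply hna
    rw [isMulCommutative_iff]
    intro a b
    have h1 : ⁅a, b⁆ ∈ commutator G :=
      Subgroup.commutator_mem_commutator (Subgroup.mem_top a) (Subgroup.mem_top b)
    rw [hbot, Subgroup.mem_bot, commutatorElement_def] at h1
    calc a * b = a * b * a⁻¹ * b⁻¹ * (b * a) := by group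
      _ = b * a := by rw [h1, one_mul]
  have hn1 : Nat.card G ≠ 1 := by
    intro h1
    haveI : Subsingleton G := (Nat.card_eq_one_iff_unique.1 h1).1
    exact hcne (Subsingleton.elim _ _)
  obtain ⟨p, hpe⟩ : ∃ p, p = (Nat.card G).minFac := ⟨_, rfl⟩
  have hp : p.Prime := hpe ▸ Nat.minFac_prime hn1
  rw [← hpe] at h ⊢
  -- counting characters
  have hk : Nat.card (Cfsg.IrrCharacter G) = Nat.card (ConjClasses G) := card_irrCharacter
  have hl : Nat.card {ψ : Cfsg.IrrCharacter G // degN ψ = 1} = (commutator G).index := by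
    rw [card_degN, ← card_linear_characters]
    simp
  have hsum : ∑ ψ : Cfsg.IrrCharacter G, degN ψ ^ 2 = Nat.card G := sum_degN_sq
  have hdeg : ∀ ψ : Cfsg.IrrCharacter G, degN ψ ≠ 1 → p ≤ degN ψ := by
    intro ψ hψ
    have hd := degN_dvd_card ψ
    have h0 : degN ψ ≠ 0 := by
      rintro h0; rw [h0] at hd
      exact Nat.card_pos.ne' (Nat.eq_zero_of_zero_dvd hd)
    rw [hpe]
    exact Nat.minFac_le_of_dvd (by omega) hd
  have hbound : Nat.card {ψ : Cfsg.IrrCharacter G // degN ψ = 1} +
      (Nat.card (Cfsg.IrrCharacter G) - Nat.card {ψ : Cfsg.IrrCharacter G // degN ψ = 1}) * p ^ 2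
        ≤ Nat.card G := by
    rw [← hsum, Nat.card_eq_fintype_card, Nat.card_eq_fintype_card, Fintype.card_subtype,
      ← Finset.card_univ (α := Cfsg.IrrCharacter G)]
    have hsplit : ∑ ψ : Cfsg.IrrCharacter G, degN ψ ^ 2 =
        ∑ ψ ∈ Finset.univ.filter (fun ψ : Cfsg.IrrCharacter G => degN ψ = 1), degN ψ ^ 2 +
        ∑ ψ ∈ Finset.univ.filter (fun ψ : Cfsg.IrrCharacter G => ¬ degN ψ = 1), degN ψ ^ 2 :=
      (Finset.sum_filter_add_sum_filter_not _ _ _).symm
    rw [hsplit]
    have h1 : (Finset.univ.filter (fun ψ : Cfsg.IrrCharacter G => degN ψ = 1)).card ≤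
        ∑ ψ ∈ Finset.univ.filter (fun ψ : Cfsg.IrrCharacter G => degN ψ = 1), degN ψ ^ 2 := by
      rw [Finset.card_eq_sum_ones]
      apply Finset.sum_le_sum
      intro ψ hψ
      rw [(Finset.mem_filter.1 hψ).2, one_pow]
    have h2 : ((Finset.univ : Finset (Cfsg.IrrCharacter G)).card - (Finset.univ.filter
        (fun ψ : Cfsg.IrrCharacter G => degN ψ = 1)).card) * p ^ 2 ≤
        ∑ ψ ∈ Finset.univ.filter (fun ψ : Cfsg.IrrCharacter G => ¬ degN ψ = 1), degN ψ ^ 2 := by
      have hc : (Finset.univ.filter (fun ψ : Cfsg.IrrCharacter G => ¬ degN ψ = 1)).card =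
          (Finset.univ : Finset (Cfsg.IrrCharacter G)).card - (Finset.univ.filter
            (fun ψ : Cfsg.IrrCharacter G => degN ψ = 1)).card := by
        have := Finset.card_filter_add_card_filter_not (s := (Finset.univ : Finset (Cfsg.IrrCharacter G)))
          (fun ψ : Cfsg.IrrCharacter G => degN ψ = 1)
        omega
      rw [← hc, Finset.card_eq_sum_ones, Finset.sum_mul]
      apply Finset.sum_le_sum
      intro ψ hψ
      rw [one_mul]
      exact Nat.pow_le_pow_left (hdeg ψ (Finset.mem_filter.1 hψ).2) 2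
    exact Nat.add_le_add h1 h2
  have hle : Nat.card {ψ : Cfsg.IrrCharacter G // degN ψ = 1} ≤ Nat.card (Cfsg.IrrCharacter G) :=
    Nat.card_le_card_of_injective _ Subtype.val_injective
  have hnc : Nat.card G = (commutator G).index * Nat.card (commutator G) :=
    ((commutator G).index_mul_card).symm
  have hcp : Nat.card (commutator G) ≤ p := by
    apply arith_B (Nat.card G) p (Nat.card (ConjClasses G)) (commutator G).index
      (Nat.card (Cfsg.IrrCharacter G) - Nat.card {ψ : Cfsg.IrrCharacter G // degN ψ = 1})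
      (Nat.card (commutator G)) hp.two_le ?_ ?_ h hnc
    · rw [← hk, ← hl]; omega
    · rw [← hl]; exact hbound
  have hc1 : Nat.card (commutator G) ≠ 1 := by
    intro h1
    exact hcne ((commutator G).card_eq_one.1 h1)
  have hcd : Nat.card (commutator G) ∣ Nat.card G := (commutator G).card_subgroup_dvd_card
  have hpc : p ≤ Nat.card (commutator G) := by
    rw [hpe]
    have h0 : 0 < Nat.card (commutator G) := Nat.card_pos
    exact Nat.minFac_le_of_dvd (by omega) hcd
  have hcard : Nat.card (commutator G) = p := le_antisymm hcp hpc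
  refine ⟨hp, hpe, hcard, ?_⟩
  -- centrality
  haveI : Fact p.Prime := ⟨hp⟩
  haveI : IsCyclic (commutator G) := isCyclic_of_prime_card hcard
  have haut : Nat.card (MulAut (commutator G)) = p - 1 := by
    rw [IsCyclic.card_mulAut, hcard, Nat.totient_prime hp]
  have hr1 : Nat.card (MulAut.conjNormal (H := commutator G)).range ∣ Nat.card G :=
    Subgroup.card_range_dvd _
  have hr2 : Nat.card (MulAut.conjNormal (H := commutator G)).range ∣ p - 1 := by
    rw [← haut]; exact Subgroup.card_subgroup_dvd_card _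
  have hr : Nat.card (MulAut.conjNormal (H := commutator G)).range = 1 :=
    eq_one_of_dvd_of_lt_minFac hr1 hr2 (by have := hp.two_le; omega)
      (by rw [← hpe]; have := hp.two_le; omega)
  have hbot : (MulAut.conjNormal (H := commutator G)).range = ⊥ := Subgroup.card_eq_one.1 hr
  intro c hc
  rw [Subgroup.mem_center_iff]
  intro g
  have h1 : MulAut.conjNormal (H := commutator G) g ∈
      (MulAut.conjNormal (H := commutator G)).range := ⟨g, rfl⟩
  rw [hbot, Subgroup.mem_bot] at h1
  have h2 : ((MulAut.conjNormal g : MulAut (commutator G)) ⟨c, hc⟩ : G) = g * c * g⁻¹ :=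
    MulAut.conjNormal_apply g ⟨c, hc⟩
  rw [h1, MulAut.one_apply] at h2
  have h3 : c = g * c * g⁻¹ := h2
  calc g * c = g * c * g⁻¹ * g := by group
    _ = c * g := by rw [← h3]

end Cfsg.Agent.Lib.Helper6.AutOrb
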