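import Cfsg.Agent.Lib.Helper1.AutOrbC

/-!
# S4067 farm, piece D1: the automorphism from a central element of order `p` outside `G'`
-/

set_option autoImplicit false

namespace Cfsg.Agent.Lib.Helper6.AutOrb

open Cfsg.Agent.Lib.Helper1.AutOrb

open scoped commutatorElement

variable {G : Type*} [Group G] [Finite G] {p : ℕ}

/-- the endomorphism `g ↦ g * θ (κ g)` for a central-valued `θ`. -/
def sigmaHom (κ : G →* commutator G) (θ : commutator G →* G)
    (hθ : ∀ c, θ c ∈ Subgroup.center G) : G →* G where
  toFun g := g * θ (κ g)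
  map_one' := by simp
  map_mul' g h := by
    rw [map_mul, map_mul]
    have h1 : θ (κ g) * h = h * θ (κ g) := ((Subgroup.mem_center_iff.mp (hθ (κ g))) h).symm
    calc g * h * (θ (κ g) * θ (κ h)) = g * (h * θ (κ g)) * θ (κ h) := by group
      _ = g * (θ (κ g) * h) * θ (κ h) := by rw [h1]
      _ = g * θ (κ g) * (h * θ (κ h)) := by group

theorem sigmaHom_apply (κ : G →* commutator G) (θ : commutator G →* G)
    (hθ : ∀ c, θ c ∈ Subgroup.center G) (g : G) : sigmaHom κ θ hθ g = g * θ (κ g) := rfl

/-- D1 -/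
theorem good_of_central (H : Cl2 G p) (w : G) (hw : w ∈ Subgroup.center G) (hwp : w ^ p = 1)
    (hwc : w ∉ commutator G) : Good G p := by
  haveI : Fact p.Prime := ⟨H.hp⟩
  obtain ⟨x0, hx0⟩ := exists_not_mem_center H
  -- the subgroup `W = ⟨w⟩ × G'`
  have hcommW : ∀ (a : Subgroup.zpowers w) (c : commutator G),
      Commute ((Subgroup.zpowers w).subtype a) ((commutator G).subtype c) := by
    intro a c
    obtain ⟨k, hk⟩ := Subgroup.mem_zpowers_iff.1 a.2
    have hac : (a : G) ∈ Subgroup.center G := by
      rw [← hk]; exact Subgroup.zpow_mem _ hw k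
    exact ((Subgroup.mem_center_iff.mp hac) c).symm
  let f : Subgroup.zpowers w × commutator G →* G :=
    MonoidHom.noncommCoprod (Subgroup.zpowers w).subtype (commutator G).subtype hcommW
  have hf : ∀ a c, f (a, c) = (a : G) * (c : G) := fun a c => rfl
  have hw1 : w ≠ 1 := fun h => hwc (h ▸ Subgroup.one_mem _)
  have how : orderOf w = p := orderOf_eq_prime hwp hw1
  have hcz : Nat.card (Subgroup.zpowers w) = p := by rw [Nat.card_zpowers, how]
  have hinf : Subgroup.zpowers w ⊓ commutator G = ⊥ := by
    have hdvd : Nat.card ↥(Subgroup.zpowers w ⊓ commutator G) ∣ p := by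
      have := Subgroup.card_dvd_of_le (inf_le_left : Subgroup.zpowers w ⊓ commutator G ≤ _)
      rwa [hcz] at this
    rcases (Nat.dvd_prime H.hp).mp hdvd with h1 | h1
    · exact Subgroup.card_eq_one.mp h1
    · exfalso
      have h2 : Subgroup.zpowers w ⊓ commutator G = Subgroup.zpowers w := by
        apply Subgroup.eq_of_le_of_card_ge inf_le_left
        rw [h1, hcz]
      have h3 : Subgroup.zpowers w ≤ commutator G := by rw [← h2]; exact inf_le_right
      exact hwc (h3 (Subgroup.mem_zpowers w))
  have hfinj : Function.Injective f := by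
    rw [injective_iff_map_eq_one]
    rintro ⟨a, c⟩ hac
    rw [hf] at hac
    have h1 : (a : G) = (c : G)⁻¹ := eq_inv_of_mul_eq_one_left hac
    have h2 : (a : G) ∈ Subgroup.zpowers w ⊓ commutator G :=
      ⟨a.2, by rw [h1]; exact Subgroup.inv_mem _ c.2⟩
    rw [hinf, Subgroup.mem_bot] at h2
    have h3 : (c : G) = 1 := by rw [h2, one_mul] at hac; exact hac
    exact Prod.ext (Subtype.ext h2) (Subtype.ext h3)
  have hWcard : Nat.card f.range = p ^ 2 := by
    rw [Nat.card_congr (MonoidHom.ofInjective hfinj).toEquiv.symm, Nat.card_prod, hcz, H.card,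
      pow_two]
  refine ⟨Subgroup.centralizer ({x0} : Set G), f.range, Subgroup.center_le_centralizer _,
    index_centralizer H x0 hx0, ?_, hWcard, ?_⟩
  · intro c hc
    exact ⟨(1, ⟨c, hc⟩), by rw [hf]; simp⟩
  · intro x hxM u hu
    obtain ⟨⟨a, c⟩, rfl⟩ := hu
    rw [hf]
    -- `x` is not central
    have hxZ : x ∉ Subgroup.center G := fun h => hxM (Subgroup.center_le_centralizer _ h)
    -- generator `c0 = κ x`
    have hc0 : kap H x0 x ≠ 1 := by
      intro h1
      have : x ∈ (kap H x0).ker := h1
      rw [kap_ker] at this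
      exact hxM this
    have hgen : ∀ y : commutator G, y ∈ Subgroup.zpowers (kap H x0 x) :=
      fun y => mem_zpowers_of_prime_card H.card hc0
    have hoc0 : orderOf (kap H x0 x) = p := by
      have h1 : (kap H x0 x) ^ p = 1 := by
        have := pow_card_eq_one' (G := commutator G) (x := kap H x0 x)
        rwa [H.card] at this
      exact orderOf_eq_prime h1 hc0
    have hap : (a : G) ^ p = 1 := by
      obtain ⟨k, hk⟩ := Subgroup.mem_zpowers_iff.1 a.2
      rw [← hk, ← zpow_natCast, ← zpow_mul, mul_comm, zpow_mul, zpow_natCast, hwp, one_zpow]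
    have hoa : orderOf (a : G) ∣ orderOf (kap H x0 x) := by
      rw [hoc0]; exact orderOf_dvd_of_pow_eq_one hap
    let θ : commutator G →* G := monoidHomOfForallMemZpowers hgen hoa
    have hθgen : θ (kap H x0 x) = (a : G) := monoidHomOfForallMemZpowers_apply_gen hgen hoa
    have haZ : (a : G) ∈ Subgroup.center G := by
      obtain ⟨k, hk⟩ := Subgroup.mem_zpowers_iff.1 a.2
      rw [← hk]; exact Subgroup.zpow_mem _ hw k
    have hθZ : ∀ y, θ y ∈ Subgroup.center G := by
      intro y
      obtain ⟨k, hk⟩ := Subgroup.mem_zpowers_iff.1 (hgen y)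
      rw [← hk, map_zpow, hθgen]
      exact Subgroup.zpow_mem _ haZ k
    -- the automorphism
    have hσinj : Function.Injective (sigmaHom (kap H x0) θ hθZ) := by
      rw [injective_iff_map_eq_one]
      intro g hg
      rw [sigmaHom_apply] at hg
      have h1 : g = (θ (kap H x0 g))⁻¹ := eq_inv_of_mul_eq_one_left hg
      have h2 : g ∈ Subgroup.center G := by
        rw [h1]; exact Subgroup.inv_mem _ (hθZ _)
      have h3 : g ∈ (kap H x0).ker := by
        rw [kap_ker]; exact Subgroup.center_le_centralizer _ h2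
      have h4 : kap H x0 g = 1 := h3
      rw [h4, map_one, mul_one] at hg
      exact hg
    have hσbij : Function.Bijective (sigmaHom (kap H x0) θ hθZ) :=
      ⟨hσinj, Finite.surjective_of_injective hσinj⟩
    obtain ⟨g, hg⟩ := conj_eq_mul H x hxZ (c : G) c.2
    refine ⟨MulAut.conj g * MulEquiv.ofBijective (sigmaHom (kap H x0) θ hθZ) hσbij, ?_⟩
    rw [MulAut.mul_apply, MulEquiv.ofBijective_apply, sigmaHom_apply, hθgen, MulAut.conj_apply]
    have h1 : (a : G) * g⁻¹ = g⁻¹ * (a : G) := ((Subgroup.mem_center_iff.mp haZ) g⁻¹).symm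
    have h2 : (c : G) * (a : G) = (a : G) * (c : G) := (Subgroup.mem_center_iff.mp haZ) c
    calc g * (x * (a : G)) * g⁻¹ = g * x * ((a : G) * g⁻¹) := by group
      _ = g * x * (g⁻¹ * (a : G)) := by rw [h1]
      _ = g * x * g⁻¹ * (a : G) := by group
      _ = x * (c : G) * (a : G) := by rw [hg]
      _ = x * ((c : G) * (a : G)) := by group
      _ = x * ((a : G) * (c : G)) := by rw [h2]

end Cfsg.Agent.Lib.Helper6.AutOrb
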