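import Mathlib

/-!
# Arithmetic for Brauer's `F(p,u,h)` dichotomy (S4700, lemma C)
-/

set_option autoImplicit false
set_option linter.unusedVariables false
set_option linter.style.longLine false

namespace Cfsg.Agent.Lib.Helper6.BF

/-- a positive natural congruent to `1` modulo `p` is `1 + u p` -/
theorem exists_of_modEq_one {p f : ℕ} (hf : 0 < f) (hmod : (f : ℤ) ≡ 1 [ZMOD p]) :
    ∃ u : ℕ, f = 1 + u * p := by
  have h1 : (p : ℤ) ∣ (f : ℤ) - 1 := (Int.modEq_iff_dvd.mp hmod.symm)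
  have h2 : ((f - 1 : ℕ) : ℤ) = (f : ℤ) - 1 := by
    rw [Nat.cast_sub hf]; simp
  rw [← h2] at h1
  obtain ⟨u, hu⟩ := Int.natCast_dvd_natCast.mp h1
  refine ⟨u, ?_⟩
  have : f - 1 = p * u := hu
  have h3 : f = (f - 1) + 1 := by omega
  rw [h3, this]; ring

/-- a positive natural congruent to `-1` modulo `p` is at least `p - 1` -/
theorem le_of_modEq_neg_one {p f : ℕ} (hp : 2 ≤ p) (hf : 0 < f) (hmod : (f : ℤ) ≡ -1 [ZMOD p]) :
    p - 1 ≤ f := by
  have h1 : (p : ℤ) ∣ (f : ℤ) + 1 := by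
    have := Int.modEq_iff_dvd.mp hmod.symm
    simpa using this
  have h2 : (((f + 1 : ℕ)) : ℤ) = (f : ℤ) + 1 := by push_cast; ring
  rw [← h2] at h1
  have h3 : p ∣ f + 1 := Int.natCast_dvd_natCast.mp h1
  have := Nat.le_of_dvd (by omega) h3
  omega

theorem plus_arith {p n f : ℕ} (hp : 2 ≤ p)
    (hF : ¬ ∃ h u : ℕ, 0 < h ∧ 0 < u ∧ n * (u + 1) = h * u * p + u ^ 2 + u + h)
    (hf : f ∣ (p - 1) * (1 + n * p)) (hmod : (f : ℤ) ≡ 1 [ZMOD p]) :
    f = 1 ∨ f = 1 + n * p := by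
  have hpos : 0 < (p - 1) * (1 + n * p) := Nat.mul_pos (by omega) (by omega)
  have hfpos : 0 < f := Nat.pos_of_dvd_of_pos hf hpos
  obtain ⟨u, hu⟩ := exists_of_modEq_one hfpos hmod
  obtain ⟨f', hf'⟩ := hf
  have hf'pos : 0 < f' := by
    rcases Nat.eq_zero_or_pos f' with h | h
    · rw [h, mul_zero] at hf'; omega
    · exact h
  -- the cofactor is `-1` modulo `p`
  have hcast : ((p - 1 : ℕ) : ℤ) = (p : ℤ) - 1 := by
    rw [Nat.cast_sub (by omega)]; simp
  have hmod' : (f' : ℤ) ≡ -1 [ZMOD p] := by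
    have e1 : ((f : ℤ) * (f' : ℤ)) = ((p : ℤ) - 1) * (1 + n * p) := by
      have := congrArg (fun x : ℕ => (x : ℤ)) hf'
      simp only [Nat.cast_mul, Nat.cast_add, Nat.cast_one, hcast] at this
      exact this.symm
    have e2 : ((f : ℤ) * (f' : ℤ)) ≡ 1 * (f' : ℤ) [ZMOD p] := hmod.mul_right _
    have e3 : ((p : ℤ) - 1) * (1 + n * p) ≡ -1 [ZMOD p] := by
      apply Int.modEq_iff_dvd.mpr
      refine ⟨-(1 + (n : ℤ) * p - n), ?_⟩
      ring
    rw [one_mul] at e2
    exact (e2.symm.trans (by rw [e1])).trans e3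
  have hle' : p - 1 ≤ f' := le_of_modEq_neg_one hp hf'pos hmod'
  have hfle : f ≤ 1 + n * p := by
    have h1 : f * (p - 1) ≤ f * f' := Nat.mul_le_mul_left f hle'
    rw [← hf'] at h1
    have h2 : f * (p - 1) ≤ (1 + n * p) * (p - 1) := by rw [mul_comm (1 + n * p)]; exact h1
    exact Nat.le_of_mul_le_mul_right h2 (by omega)
  have hun : u ≤ n := by
    rw [hu] at hfle
    have : u * p ≤ n * p := by omega
    exact Nat.le_of_mul_le_mul_right this (by omega)
  rcases Nat.eq_zero_or_pos u with h0 | h0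
  · left; rw [hu, h0]; simp
  rcases Nat.lt_or_ge u n with hlt | hge
  · exfalso
    apply hF
    -- `f ∣ (u+1)(n-u)`
    have hdvd : ((1 + u * p : ℕ) : ℤ) ∣ ((u : ℤ) + 1) * ((n : ℤ) - u) := by
      have e1 : ((u : ℤ) + 1) * ((n : ℤ) - u)
          = (u : ℤ) ^ 2 * (((p : ℤ) - 1) * (1 + n * p))
            - ((1 + u * p : ℕ) : ℤ) * ((n : ℤ) * u * p + u - n - u * n) := by
        push_cast; ring
      rw [e1]
      apply dvd_sub
      · apply Dvd.dvd.mul_left
        refine ⟨(f' : ℤ), ?_⟩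
        have := congrArg (fun x : ℕ => (x : ℤ)) hf'
        simp only [Nat.cast_mul, Nat.cast_add, Nat.cast_one, hcast] at this
        rw [hu] at this
        push_cast at this ⊢
        linarith
      · exact dvd_mul_right _ _
    obtain ⟨h, hh⟩ := hdvd
    have hposL : 0 < ((u : ℤ) + 1) * ((n : ℤ) - u) := by
      apply mul_pos
      · positivity
      · have : (u : ℤ) < n := by exact_mod_cast hlt
        linarith
    have hhpos : 0 < h := by
      rw [hh] at hposL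
      have : (0 : ℤ) < ((1 + u * p : ℕ) : ℤ) := by positivity
      rcases lt_trichotomy h 0 with h1 | h1 | h1
      · exfalso
        have : ((1 + u * p : ℕ) : ℤ) * h < 0 := mul_neg_of_pos_of_neg this h1
        linarith
      · exfalso; rw [h1, mul_zero] at hposL; exact lt_irrefl _ hposL
      · exact h1
    refine ⟨h.toNat, u, ?_, h0, ?_⟩
    · omega
    · have hcastn : ((h.toNat : ℕ) : ℤ) = h := Int.toNat_of_nonneg hhpos.le
      have : ((n * (u + 1) : ℕ) : ℤ) = ((h.toNat * u * p + u ^ 2 + u + h.toNat : ℕ) : ℤ) := by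
        push_cast
        rw [hcastn]
        push_cast at hh
        linarith
      exact_mod_cast this
  · right
    have : u = n := le_antisymm hun hge
    rw [hu, this]

theorem minus_arith {p n f : ℕ} (hp : 2 ≤ p)
    (hF : ¬ ∃ h u : ℕ, 0 < h ∧ 0 < u ∧ n * (u + 1) = h * u * p + u ^ 2 + u + h)
    (hf : f ∣ (p - 1) * (1 + n * p)) (hmod : (f : ℤ) ≡ -1 [ZMOD p]) :
    f = p - 1 ∨ f = (p - 1) * (1 + n * p) := by
  have hpos : 0 < (p - 1) * (1 + n * p) := Nat.mul_pos (by omega) (by omega)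
  have hfpos : 0 < f := Nat.pos_of_dvd_of_pos hf hpos
  obtain ⟨f', hf'⟩ := hf
  have hcast : ((p - 1 : ℕ) : ℤ) = (p : ℤ) - 1 := by
    rw [Nat.cast_sub (by omega)]; simp
  have hmod' : (f' : ℤ) ≡ 1 [ZMOD p] := by
    have e1 : ((f : ℤ) * (f' : ℤ)) = ((p : ℤ) - 1) * (1 + n * p) := by
      have := congrArg (fun x : ℕ => (x : ℤ)) hf'
      simp only [Nat.cast_mul, Nat.cast_add, Nat.cast_one, hcast] at this
      exact this.symm
    have e2 : ((f : ℤ) * (f' : ℤ)) ≡ -1 * (f' : ℤ) [ZMOD p] := hmod.mul_right _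
    have e3 : ((p : ℤ) - 1) * (1 + n * p) ≡ -1 [ZMOD p] := by
      apply Int.modEq_iff_dvd.mpr
      refine ⟨-(1 + (n : ℤ) * p - n), ?_⟩
      ring
    have e4 : -1 * (f' : ℤ) ≡ -1 [ZMOD p] := (e2.symm.trans (by rw [e1])).trans e3
    have e5 := e4.neg
    simpa using e5
  have hdvd' : f' ∣ (p - 1) * (1 + n * p) := ⟨f, by rw [hf']; ring⟩
  rcases plus_arith hp hF hdvd' hmod' with h1 | h1
  · right; rw [hf', h1, mul_one]
  · left
    rw [h1] at hf'
    have : (p - 1) * (1 + n * p) = f * (1 + n * p) := hf'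
    exact (Nat.eq_of_mul_eq_mul_right (by omega) this).symm

end Cfsg.Agent.Lib.Helper6.BF
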