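import Mathlib

/-!
# The degree equation of the principal block: a combinatorial core (S4700, lemma C)
-/

set_option autoImplicit false
set_option linter.unusedVariables false
set_option linter.style.longLine false

namespace Cfsg.Agent.Lib.Helper6.BF

open Finset

theorem core {ι : Type*} [DecidableEq ι] (X : Finset ι) (w sg : ι → ℤ) (o : ι)
    (p e t D y : ℕ) (ε : ℤ)
    (hp : 3 ≤ p) (hD : 2 ≤ D) (he1 : 1 ≤ e) (het : e * t = p - 1) (hcard : X.card = e)
    (hsg : ∀ χ ∈ X, sg χ = 1 ∨ sg χ = -1)
    (hso : o ∈ X → sg o = 1)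
    (hneg : ∀ χ ∈ X, sg χ = -1 → w χ = -(((p : ℤ) - 1) * D))
    (hpos : ∀ χ ∈ X, sg χ = 1 → (χ = o ∧ w χ = 1) ∨ (χ ≠ o ∧ w χ = D))
    (hsum : ∑ χ ∈ X, w χ = ε * y) (hy : 1 ≤ y) (ho : o ∈ X ∨ y = 1)
    (hε : ε = 1 ∨ ε = -1)
    (hty1 : ε = -1 → t * y = 1 ∨ t * y = D)
    (hty2 : ε = 1 → t * y = p - 1 ∨ t * y = (p - 1) * D) : e = 1 := by
  have ht : 1 ≤ t := by
    rcases Nat.eq_zero_or_pos t with h | h
    · rw [h, mul_zero] at het; omega
    · exact h
  have hele : e ≤ p - 1 := by
    rw [← het]; exact Nat.le_mul_of_pos_right e ht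
  have hDz : (2 : ℤ) ≤ (D : ℤ) := by exact_mod_cast hD
  have hpz : (3 : ℤ) ≤ (p : ℤ) := by exact_mod_cast hp
  have hez : (e : ℤ) ≤ (p : ℤ) - 1 := by
    have : ((e : ℕ) : ℤ) ≤ ((p - 1 : ℕ) : ℤ) := by exact_mod_cast hele
    rw [Nat.cast_sub (by omega)] at this; simpa using this
  have he1z : (1 : ℤ) ≤ (e : ℤ) := by exact_mod_cast he1
  have hyz : (1 : ℤ) ≤ (y : ℤ) := by exact_mod_cast hy
  have htz : (1 : ℤ) ≤ (t : ℤ) := by exact_mod_cast ht
  have hwle : ∀ χ ∈ X, w χ ≤ D := by
    intro χ hχ
    rcases hsg χ hχ with h | h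
    · rcases hpos χ hχ h with ⟨_, h2⟩ | ⟨_, h2⟩
      · rw [h2]; linarith
      · rw [h2]
    · rw [hneg χ hχ h]
      have : (0 : ℤ) ≤ ((p : ℤ) - 1) * D := by nlinarith
      linarith
  by_cases hex : ∃ χ₀ ∈ X, sg χ₀ = -1
  · exfalso
    obtain ⟨χ₀, hχ₀, hs₀⟩ := hex
    have hsplit := Finset.add_sum_erase X w hχ₀
    have hcard' : ((X.erase χ₀).card : ℤ) = (e : ℤ) - 1 := by
      rw [Finset.card_erase_of_mem hχ₀, hcard, Nat.cast_sub he1]; simp
    have hb1 : ∑ χ ∈ X.erase χ₀, w χ ≤ ((e : ℤ) - 1) * D := by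
      have := Finset.sum_le_card_nsmul (X.erase χ₀) w (D : ℤ)
        (fun χ hχ => hwle χ (Finset.mem_of_mem_erase hχ))
      rw [nsmul_eq_mul, hcard'] at this
      exact this
    have hw₀ := hneg χ₀ hχ₀ hs₀
    rcases hε with h1 | h1
    · -- ε = 1
      rw [h1, one_mul] at hsum
      nlinarith
    · rw [h1] at hsum
      have hyge : ((p : ℤ) - e) * D ≤ y := by nlinarith
      have hyD : (D : ℤ) ≤ y := by nlinarith
      rcases hty1 h1 with h2 | h2
      · have : y = 1 := by
          have := Nat.eq_one_of_mul_eq_one_left h2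
          exact this
        rw [this] at hyD
        have : (D : ℤ) ≤ 1 := by exact_mod_cast hyD
        linarith
      · have h2z : (t : ℤ) * y = D := by exact_mod_cast h2
        have hyeq : (y : ℤ) = D := by nlinarith
        have hpe : (e : ℤ) = (p : ℤ) - 1 := by nlinarith
        rcases ho with ho | ho
        · have hoo : o ≠ χ₀ := by
            intro h; rw [h] at hso; rw [hso hχ₀] at hs₀; omega
          have ho' : o ∈ X.erase χ₀ := Finset.mem_erase.mpr ⟨hoo, ho⟩
          have hsplit2 := Finset.add_sum_erase (X.erase χ₀) w ho'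
          have hwo : w o = 1 := by
            rcases hpos o ho (hso ho) with ⟨_, h3⟩ | ⟨h3, _⟩
            · exact h3
            · exact absurd rfl h3
          have hcard2 : (((X.erase χ₀).erase o).card : ℤ) = (e : ℤ) - 2 := by
            rw [Finset.card_erase_of_mem ho', Finset.card_erase_of_mem hχ₀, hcard]
            have : 2 ≤ e := by
              have : (2 : ℤ) ≤ (e : ℤ) := by linarith
              exact_mod_cast this
            omega
          have hb2 : ∑ χ ∈ (X.erase χ₀).erase o, w χ ≤ ((e : ℤ) - 2) * D := by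
            have := Finset.sum_le_card_nsmul ((X.erase χ₀).erase o) w (D : ℤ)
              (fun χ hχ => hwle χ (Finset.mem_of_mem_erase (Finset.mem_of_mem_erase hχ)))
            rw [nsmul_eq_mul, hcard2] at this
            exact this
          nlinarith
        · rw [ho] at hyD
          have : (D : ℤ) ≤ 1 := by exact_mod_cast hyD
          linarith
  · have hall : ∀ χ ∈ X, sg χ = 1 := by
      intro χ hχ
      rcases hsg χ hχ with h | h
      · exact h
      · exact absurd ⟨χ, hχ, h⟩ hex
    have hw1 : ∀ χ ∈ X, 1 ≤ w χ := by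
      intro χ hχ
      rcases hpos χ hχ (hall χ hχ) with ⟨_, h2⟩ | ⟨_, h2⟩
      · rw [h2]
      · rw [h2]; linarith
    have hsumge : (e : ℤ) ≤ ∑ χ ∈ X, w χ := by
      have := Finset.card_nsmul_le_sum X w 1 hw1
      rw [nsmul_eq_mul, mul_one, hcard] at this
      exact this
    have hε1 : ε = 1 := by
      rcases hε with h | h
      · exact h
      · rw [h] at hsum; linarith
    rw [hε1, one_mul] at hsum
    have hetz : (e : ℤ) * t = (p : ℤ) - 1 := by
      have : ((e * t : ℕ) : ℤ) = ((p - 1 : ℕ) : ℤ) := by exact_mod_cast het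
      rw [Nat.cast_sub (by omega)] at this; push_cast at this; linarith
    rcases hty2 hε1 with h2 | h2
    · -- t y = p - 1, so y = e
      have hye : y = e := by
        have : t * y = t * e := by rw [h2, ← het]; ring
        exact Nat.eq_of_mul_eq_mul_left ht this
      have hzero : ∑ χ ∈ X, (w χ - 1) = 0 := by
        rw [Finset.sum_sub_distrib, hsum, hye]
        simp [hcard]
      have hall1 : ∀ χ ∈ X, w χ - 1 = 0 :=
        (Finset.sum_eq_zero_iff_of_nonneg (fun χ hχ => by linarith [hw1 χ hχ])).mp hzero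
      have hsub : X ⊆ {o} := by
        intro χ hχ
        rw [Finset.mem_singleton]
        rcases hpos χ hχ (hall χ hχ) with ⟨h3, _⟩ | ⟨_, h3⟩
        · exact h3
        · have := hall1 χ hχ
          rw [h3] at this; linarith
      have := Finset.card_le_card hsub
      rw [hcard, Finset.card_singleton] at this
      omega
    · exfalso
      have hye : y = e * D := by
        have : t * y = t * (e * D) := by rw [h2, ← het]; ring
        exact Nat.eq_of_mul_eq_mul_left ht this
      rcases ho with ho | ho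
      · have hsplit := Finset.add_sum_erase X w ho
        have hwo : w o = 1 := by
          rcases hpos o ho (hso ho) with ⟨_, h3⟩ | ⟨h3, _⟩
          · exact h3
          · exact absurd rfl h3
        have hcard' : ((X.erase o).card : ℤ) = (e : ℤ) - 1 := by
          rw [Finset.card_erase_of_mem ho, hcard, Nat.cast_sub he1]; simp
        have hb1 : ∑ χ ∈ X.erase o, w χ ≤ ((e : ℤ) - 1) * D := by
          have := Finset.sum_le_card_nsmul (X.erase o) w (D : ℤ)
            (fun χ hχ => hwle χ (Finset.mem_of_mem_erase hχ))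
          rw [nsmul_eq_mul, hcard'] at this
          exact this
        have hyz' : (y : ℤ) = (e : ℤ) * D := by exact_mod_cast hye
        nlinarith
      · rw [ho] at hye
        have : e * D ≥ 2 := by nlinarith
        omega

end Cfsg.Agent.Lib.Helper6.BF
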