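import Mathlib
import Cfsg.Agent.S4441
import Cfsg.Agent.Lib.Helper6.BR4
import Cfsg.Agent.Lib.Helper6.BlkIdem
import Cfsg.Agent.Lib.Helper6.DegreeDvd
import Cfsg.Agent.Lib.Helper6.BlkKer
import Cfsg.Agent.Lib.Helper6.BlkVanish
import Cfsg.Agent.Lib.Helper6.BrPrin
import Cfsg.Agent.Lib.Helper7.Bt3
import Cfsg.Agent.Lib.Helper6.BF1
import Cfsg.Agent.Lib.Helper6.BF2

/-!
# Brauer's `F(p,u,h)` dichotomy: the centralizer of a Sylow subgroup of prime order (S4700, lemma C)
-/

set_option autoImplicit false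
set_option linter.unusedSectionVars false
set_option linter.unusedVariables false
set_option linter.style.longLine false
set_option maxHeartbeats 1600000

namespace Cfsg.Agent.Lib.Helper6.BF

open Cfsg Cfsg.Agent.Lib.Helper6 Cfsg.Agent.Lib.Helper7.Bt
open scoped ComplexConjugate

/-- Burnside: in a perfect group without normal `p'`-subgroups the normalizer of a Sylow subgroup
of prime order is not contained in its centralizer -/
theorem not_N_le_C {G : Type*} [Group G] [Finite G] (hperf : commutator G = ⊤) {p : ℕ}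
    [hp : Fact p.Prime] (P : Sylow p G) (hPc : Nat.card P = p)
    (hcore : ∀ K : Subgroup G, K.Normal → (Nat.card K).Coprime p → K = ⊥)
    (h : Subgroup.normalizer ((P : Subgroup G) : Set G)
      ≤ Subgroup.centralizer ((P : Subgroup G) : Set G)) : False := by
  have h' : Subgroup.normalizer (P : Set G) ≤ Subgroup.centralizer (P : Set G) := h
  have hnd := MonoidHom.not_dvd_card_ker_transferSylow P h'
  have hK : (MonoidHom.transferSylow P h').ker = ⊥ :=
    hcore _ inferInstance ((Nat.Prime.coprime_iff_not_dvd hp.out).mpr hnd).symm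
  have hinj : Function.Injective (MonoidHom.transferSylow P h') :=
    (MonoidHom.ker_eq_bot_iff _).mp hK
  have hPcomm : ∀ a b : P, a * b = b * a :=
    fun a b => Subtype.ext (h' (Subgroup.le_normalizer b.2) a a.2)
  have hcomm : ∀ a b : G, a * b = b * a := by
    intro a b
    apply hinj
    rw [map_mul, map_mul]
    exact hPcomm _ _
  have hbot : commutator G = ⊥ := by
    rw [commutator_def, Subgroup.commutator_eq_bot_iff_le_centralizer]
    intro a _
    rw [Subgroup.mem_centralizer_iff]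
    intro b _
    exact hcomm b a
  rw [hperf] at hbot
  have hPbot : (P : Subgroup G) = ⊥ := by
    apply le_antisymm _ bot_le
    rw [← hbot]; exact le_top
  have hc : Nat.card (P : Subgroup G) = 1 := by rw [hPbot]; exact Subgroup.card_bot
  have hPc' : Nat.card (P : Subgroup G) = p := hPc
  rw [hPc'] at hc
  exact hp.out.one_lt.ne' hc

section

variable {G : Type*} [Group G] [Fintype G]

/-- Brauer's theorem for a Sylow subgroup of prime order (S4441), `Finset` form, with the values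
on the `p`-singular elements of the centralizer -/
structure QData (p : ℕ) (P : Sylow p G) (e : ℕ) (M : Ideal AlgInt) (X Y : Finset (IrrCharacter G))
    (εX : IrrCharacter G → ℤ) (ε : ℤ) : Prop where
  mem_iff : ∀ χ : IrrCharacter G, χ ∈ principalBlock M G ↔ χ ∈ X ∨ χ ∈ Y
  disj : ∀ χ : IrrCharacter G, χ ∈ X → χ ∈ Y → False
  cardX : X.card = e
  cardY : Y.card = (p - 1) / e
  signX : ∀ χ ∈ X, εX χ = 1 ∨ εX χ = -1
  degX : ∀ χ ∈ X, (deg χ : ℤ) ≡ εX χ [ZMOD p]
  valX : ∀ χ ∈ X, ∀ x : G, x ∈ (P : Subgroup G) → x ≠ 1 → ∀ y : G,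
    y ∈ Subgroup.centralizer ((P : Subgroup G) : Set G) → ¬ p ∣ orderOf y →
      (χ : G → ℂ) (x * y) = (εX χ : ℂ)
  sign : ε = 1 ∨ ε = -1
  degY : ∀ θ ∈ Y, (deg θ : ℤ) ≡ ε * (e : ℤ) [ZMOD p]
  agree : ∀ θ ∈ Y, ∀ θ' ∈ Y, ∀ g : G, ¬ p ∣ orderOf g → (θ : G → ℂ) g = (θ' : G → ℂ) g
  rel : ∀ θ ∈ Y, ∀ g : G, ¬ p ∣ orderOf g →
    (ε : ℂ) * (θ : G → ℂ) g = ∑ χ ∈ X, (εX χ : ℂ) * (χ : G → ℂ) g

theorem exists_qdata (p : ℕ) [hp : Fact p.Prime] (hodd : p ≠ 2) (M : Ideal AlgInt)
    (hM : IsPModular p M) (P : Sylow p G) (hP : Nat.card P = p) :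
    ∃ (X Y : Finset (IrrCharacter G)) (εX : IrrCharacter G → ℤ) (ε : ℤ),
      QData p P ((Subgroup.centralizer ((P : Subgroup G) : Set G)).relIndex
        (Subgroup.normalizer ((P : Subgroup G) : Set G))) M X Y εX ε := by
  classical
  obtain ⟨X, Y, hXY, hdisj, hcX, hcY, εX, ε, hX, hε, hY, hagree, hrel⟩ :=
    Cfsg.Agent.S4441.result p M hM hodd P hP _ rfl
  have hXf : X.Finite := Set.toFinite X
  have hYf : Y.Finite := Set.toFinite Y
  refine ⟨hXf.toFinset, hYf.toFinset, εX, ε, ?_⟩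
  constructor
  · intro χ
    rw [hXY, Set.mem_union, Set.Finite.mem_toFinset, Set.Finite.mem_toFinset]
  · intro χ h1 h2
    rw [Set.Finite.mem_toFinset] at h1 h2
    exact (Set.disjoint_left.1 hdisj) h1 h2
  · rw [← Set.ncard_eq_toFinset_card X hXf, ← Nat.card_coe_set_eq]; exact hcX
  · rw [← Set.ncard_eq_toFinset_card Y hYf, ← Nat.card_coe_set_eq]; exact hcY
  · intro χ hχ
    rw [Set.Finite.mem_toFinset] at hχ
    exact (hX χ hχ).1
  · intro χ hχ
    rw [Set.Finite.mem_toFinset] at hχ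
    exact (hX χ hχ).2.1
  · intro χ hχ x hx hx1 y hy hyp
    rw [Set.Finite.mem_toFinset] at hχ
    exact (hX χ hχ).2.2 x hx hx1 y hy hyp
  · exact hε
  · intro θ hθ
    rw [Set.Finite.mem_toFinset] at hθ
    exact hY θ hθ
  · intro θ hθ θ' hθ' g hg
    rw [Set.Finite.mem_toFinset] at hθ hθ'
    exact hagree θ hθ θ' hθ' g hg
  · intro θ hθ g hg
    rw [Set.Finite.mem_toFinset] at hθ
    rw [hrel θ hθ g hg]
    exact finsum_mem_eq_finite_toFinset_sum _ hXf

variable {p : ℕ} [hp : Fact p.Prime] {P : Sylow p G} {e : ℕ} {M : Ideal AlgInt}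
  {X Y : Finset (IrrCharacter G)} {εX : IrrCharacter G → ℤ} {ε : ℤ}

theorem QData.valP (D : QData p P e M X Y εX ε) {χ : IrrCharacter G} (hχ : χ ∈ X) {x : G}
    (hx : x ∈ (P : Subgroup G)) (hx1 : x ≠ 1) : (χ : G → ℂ) x = (εX χ : ℂ) := by
  have := D.valX χ hχ x hx hx1 1 (one_mem _) (by rw [orderOf_one]; exact hp.out.not_dvd_one)
  rwa [mul_one] at this

theorem not_dvd_orderOf_one : ¬ p ∣ orderOf (1 : G) := by
  rw [orderOf_one]; exact hp.out.not_dvd_one

theorem QData.deg_eq (D : QData p P e M X Y εX ε) {θ θ' : IrrCharacter G} (hθ : θ ∈ Y)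
    (hθ' : θ' ∈ Y) : deg θ = deg θ' := by
  have h := D.agree θ hθ θ' hθ' 1 not_dvd_orderOf_one
  rw [apply_one, apply_one] at h
  exact_mod_cast h

theorem QData.rel_deg (D : QData p P e M X Y εX ε) {θ : IrrCharacter G} (hθ : θ ∈ Y) :
    ∑ χ ∈ X, εX χ * (deg χ : ℤ) = ε * (deg θ : ℤ) := by
  have h := D.rel θ hθ 1 not_dvd_orderOf_one
  rw [apply_one] at h
  have h2 : ((∑ χ ∈ X, εX χ * (deg χ : ℤ) : ℤ) : ℂ) = ((ε * (deg θ : ℤ) : ℤ) : ℂ) := by
    push_cast
    rw [h]
    apply Finset.sum_congr rfl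
    intro χ _
    rw [apply_one]
  exact_mod_cast h2

theorem QData.eps_conj (D : QData p P e M X Y εX ε) : conj (ε : ℂ) = (ε : ℂ) := by
  rw [map_intCast]

/-- the sum of the exceptional characters at a non-trivial element of `P` -/
theorem QData.sum_Y_apply [DecidableEq G] (D : QData p P e M X Y εX ε) (hM : IsPModular p M)
    (hP : Nat.card P = p)
    {z : G} (hz : z ∈ (P : Subgroup G)) (hz1 : z ≠ 1) {θ₀ : IrrCharacter G} (hθ₀ : θ₀ ∈ Y) :
    ∑ θ ∈ Y, (θ : G → ℂ) z = -(ε : ℂ) := by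
  classical
  have : Fintype (IrrCharacter G) := Fintype.ofFinite _
  have hzp : p ∣ orderOf z := by
    rw [PB.orderOf_eq_of_mem P hP hz hz1]
  have hw := weak_block_orthogonality_finset hM (oneIrr G) 1 z not_dvd_orderOf_one hzp
  rw [← principalBlock_eq] at hw
  have hfilt : Finset.univ.filter (· ∈ principalBlock M G) = X ∪ Y := by
    ext χ
    rw [Finset.mem_filter, Finset.mem_union, D.mem_iff]
    simp
  have hdis : Disjoint X Y := by
    rw [Finset.disjoint_left]
    intro χ h1 h2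
    exact D.disj χ h1 h2
  rw [hfilt, Finset.sum_union hdis] at hw
  have hX : ∑ χ ∈ X, (χ : G → ℂ) 1 * conj ((χ : G → ℂ) z) = (ε : ℂ) * (deg θ₀ : ℂ) := by
    have h1 := D.rel_deg hθ₀
    have h2 : ((∑ χ ∈ X, εX χ * (deg χ : ℤ) : ℤ) : ℂ) = ((ε * (deg θ₀ : ℤ) : ℤ) : ℂ) := by
      rw [h1]
    push_cast at h2
    rw [← h2]
    apply Finset.sum_congr rfl
    intro χ hχ
    rw [D.valP hχ hz hz1, apply_one, map_intCast]
    ring
  have hY : ∑ θ ∈ Y, (θ : G → ℂ) 1 * conj ((θ : G → ℂ) z)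
      = (deg θ₀ : ℂ) * conj (∑ θ ∈ Y, (θ : G → ℂ) z) := by
    rw [map_sum, Finset.mul_sum]
    apply Finset.sum_congr rfl
    intro θ hθ
    rw [apply_one, D.deg_eq hθ hθ₀]
  rw [hX, hY] at hw
  have hdeg : (deg θ₀ : ℂ) ≠ 0 := by
    have := deg_pos θ₀
    exact_mod_cast this.ne'
  have h3 : conj (∑ θ ∈ Y, (θ : G → ℂ) z) = -(ε : ℂ) := by
    have : (deg θ₀ : ℂ) * ((ε : ℂ) + conj (∑ θ ∈ Y, (θ : G → ℂ) z)) = 0 := by
      rw [mul_add]; rw [← hw]; ring
    rcases mul_eq_zero.mp this with h | h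
    · exact absurd h hdeg
    · linear_combination h
  have h4 := congrArg conj h3
  rw [Complex.conj_conj, map_neg, map_intCast] at h4
  exact h4

/-- the degree of a non-exceptional character divides the index of the centralizer -/
theorem QData.deg_dvd_X [DecidableEq G] (D : QData p P e M X Y εX ε) {χ : IrrCharacter G}
    (hχ : χ ∈ X) {z : G} (hz : z ∈ (P : Subgroup G)) (hz1 : z ≠ 1) :
    deg χ ∣ (Subgroup.centralizer ({z} : Set G)).index := by
  have hint := IsIrrCharacter.isIntegral_centralChar' χ.2 z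
  unfold Cfsg.centralChar at hint
  rw [D.valP hχ hz hz1, apply_one] at hint
  apply nat_dvd_of_isIntegral_div (deg_pos χ).ne'
  rcases D.signX χ hχ with h | h
  · rw [h] at hint
    simpa using hint
  · rw [h] at hint
    have h2 := IsIntegral.neg hint
    have e1 : -(((Subgroup.centralizer ({z} : Set G)).index : ℂ) * ((-1 : ℤ) : ℂ) / (deg χ : ℂ))
        = ((Subgroup.centralizer ({z} : Set G)).index : ℂ) / (deg χ : ℂ) := by
      push_cast; ring
    rw [e1] at h2
    exact h2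

/-- the degree of the exceptional characters divides the index of the centralizer -/
theorem QData.deg_dvd_Y [DecidableEq G] (D : QData p P e M X Y εX ε) (hM : IsPModular p M)
    (hP : Nat.card P = p) {θ₀ : IrrCharacter G}
    (hθ₀ : θ₀ ∈ Y) {z : G} (hz : z ∈ (P : Subgroup G)) (hz1 : z ≠ 1) :
    deg θ₀ ∣ (Subgroup.centralizer ({z} : Set G)).index := by
  have hint : IsIntegral ℤ (∑ θ ∈ Y, Cfsg.centralChar (θ : G → ℂ) z) :=
    IsIntegral.sum _ (fun θ _ => IsIrrCharacter.isIntegral_centralChar' θ.2 z)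
  have e1 : ∑ θ ∈ Y, Cfsg.centralChar (θ : G → ℂ) z
      = ((Subgroup.centralizer ({z} : Set G)).index : ℂ) * (-(ε : ℂ)) / (deg θ₀ : ℂ) := by
    rw [← D.sum_Y_apply hM hP hz hz1 hθ₀, Finset.mul_sum, Finset.sum_div]
    apply Finset.sum_congr rfl
    intro θ hθ
    unfold Cfsg.centralChar
    rw [apply_one, D.deg_eq hθ hθ₀]
  rw [e1] at hint
  apply nat_dvd_of_isIntegral_div (deg_pos θ₀).ne'
  rcases D.sign with h | h
  · rw [h] at hint
    have h2 := IsIntegral.neg hint
    have e2 : -(((Subgroup.centralizer ({z} : Set G)).index : ℂ) * (-((1 : ℤ) : ℂ)) / (deg θ₀ : ℂ))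
        = ((Subgroup.centralizer ({z} : Set G)).index : ℂ) / (deg θ₀ : ℂ) := by
      push_cast; ring
    rw [e2] at h2
    exact h2
  · rw [h] at hint
    have e2 : (((Subgroup.centralizer ({z} : Set G)).index : ℂ) * (-((-1 : ℤ) : ℂ)) / (deg θ₀ : ℂ))
        = ((Subgroup.centralizer ({z} : Set G)).index : ℂ) / (deg θ₀ : ℂ) := by
      push_cast; ring
    rw [e2] at hint
    exact hint

end

end Cfsg.Agent.Lib.Helper6.BF
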