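import Mathlib
import Cfsg.Agent.Lib.Helper6.BF3
import Cfsg.Agent.Lib.Helper6.PB13

/-!
# Brauer's `F(p,u,h)` dichotomy, lemma C: `C_G(P) = P` unless `n` has the form `F(p,u,h)`
-/

set_option autoImplicit false
set_option linter.unusedSectionVars false
set_option linter.unusedVariables false
set_option linter.style.longLine false
set_option maxHeartbeats 3200000

namespace Cfsg.Agent.Lib.Helper6.BF

open Cfsg Cfsg.Agent.Lib.Helper6 Cfsg.Agent.Lib.Helper7.Bt
open scoped ComplexConjugate

theorem centralizer_eq_of_not_F {G : Type*} [Group G] [Finite G] (hperf : commutator G = ⊤)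
    (p : ℕ) [hp : Fact p.Prime] (P : Sylow p G) (hP : Nat.card P = p) (n : ℕ)
    (hn : Nat.card (Sylow p G) = 1 + n * p)
    (hcore : ∀ K : Subgroup G, K.Normal → (Nat.card K).Coprime p → K = ⊥)
    (hF : ¬ ∃ h u : ℕ, 0 < h ∧ 0 < u ∧ n * (u + 1) = h * u * p + u ^ 2 + u + h) :
    Subgroup.centralizer ((P : Subgroup G) : Set G) = (P : Subgroup G) := by
  classical
  have : Fintype G := Fintype.ofFinite G
  have : Fintype ↥(Subgroup.centralizer ((P : Subgroup G) : Set G)) := Fintype.ofFinite _
  have : Fintype ↥(Subgroup.normalizer ((P : Subgroup G) : Set G)) := Fintype.ofFinite _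
  have hfalse : Subgroup.normalizer ((P : Subgroup G) : Set G)
      ≤ Subgroup.centralizer ((P : Subgroup G) : Set G) → False := not_N_le_C hperf P hP hcore
  -- `p ≠ 2`
  have hp2 : p ≠ 2 := by
    intro h2
    apply hfalse
    intro g hg
    rw [Subgroup.mem_centralizer_iff]
    intro x hx
    by_cases hx1 : x = 1
    · rw [hx1]; simp
    have hgx : g * x * g⁻¹ ∈ (P : Subgroup G) := PB.conj_mem_P P hg hx
    have hgx1 : g * x * g⁻¹ ≠ 1 := by
      intro h; apply hx1
      have : x = g⁻¹ * (g * x * g⁻¹) * g := by group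
      rw [this, h]; group
    have hcard2 : Nat.card (P : Subgroup G) = 2 := by rw [← h2]; exact hP
    obtain ⟨y, hy1, hyu⟩ := (Nat.card_eq_two_iff' (1 : (P : Subgroup G))).mp hcard2
    have e1 : (⟨x, hx⟩ : (P : Subgroup G)) = y :=
      hyu _ (by intro h; apply hx1; exact congrArg Subtype.val h)
    have e2 : (⟨g * x * g⁻¹, hgx⟩ : (P : Subgroup G)) = y :=
      hyu _ (by intro h; apply hgx1; exact congrArg Subtype.val h)
    have e3 : g * x * g⁻¹ = x := congrArg Subtype.val (e2.trans e1.symm)
    calc x * g = (g * x * g⁻¹) * g := by rw [e3]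
      _ = g * x := by group
  have hp3 : 3 ≤ p := by have := hp.out.two_le; omega
  obtain ⟨M, hM⟩ := exists_isPModular p
  obtain ⟨X, Y, εX, ε, D⟩ := exists_qdata p hp2 M hM P hP
  have hJe := (PB.prin P hM).card_J_mul_e hP hM
  rw [PB.prin_e P hM] at hJe
  set e := (Subgroup.centralizer ((P : Subgroup G) : Set G)).relIndex
    (Subgroup.normalizer ((P : Subgroup G) : Set G)) with he
  set t := (p - 1) / e with ht
  have hedvd : e ∣ p - 1 := ⟨Nat.card (PB.prin P hM).J, by rw [← hJe]; ring⟩
  have het : e * t = p - 1 := Nat.mul_div_cancel' hedvd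
  have he1 : 1 ≤ e := by
    rcases Nat.eq_zero_or_pos e with h | h
    · rw [h, zero_mul] at het; omega
    · exact h
  have ht1 : 1 ≤ t := by
    rcases Nat.eq_zero_or_pos t with h | h
    · rw [h, mul_zero] at het; omega
    · exact h
  have hYc : Y.card = t := D.cardY
  obtain ⟨θ₀, hθ₀⟩ : ∃ θ₀, θ₀ ∈ Y := by
    apply Finset.card_pos.mp; rw [hYc]; exact ht1
  set y := deg θ₀ with hy
  set Dn := 1 + n * p with hDn
  obtain ⟨z, hPz, hzo⟩ := PB.exists_gen P hP
  have hz : z ∈ (P : Subgroup G) := by rw [hPz]; exact Subgroup.mem_zpowers z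
  have hz1 : z ≠ 1 := by
    intro h; rw [h, orderOf_one] at hzo; exact hp.out.one_lt.ne hzo
  have hN : (Subgroup.normalizer ((P : Subgroup G) : Set G)).index = Dn := by
    have := Sylow.card_eq_index_normalizer P
    rw [hn] at this
    exact this.symm
  have hidx : (Subgroup.centralizer ({z} : Set G)).index = e * Dn := by
    rw [PB.centralizer_singleton_eq P hP hz hz1, ← Subgroup.relIndex_mul_index (PB.C_le_N P), hN]
  have hdvdX : ∀ χ ∈ X, deg χ ∣ (p - 1) * Dn := by
    intro χ hχ
    have h1 := D.deg_dvd_X hχ hz hz1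
    rw [hidx] at h1
    exact h1.trans (Nat.mul_dvd_mul_right hedvd Dn)
  have hdvdY : y ∣ e * Dn := by
    have h1 := D.deg_dvd_Y hM hP hθ₀ hz hz1
    rwa [hidx] at h1
  have hplus : ∀ χ ∈ X, εX χ = 1 → deg χ = 1 ∨ deg χ = Dn := by
    intro χ hχ h
    have := D.degX χ hχ
    rw [h] at this
    exact plus_arith hp.out.two_le hF (hdvdX χ hχ) this
  have hminus : ∀ χ ∈ X, εX χ = -1 → deg χ = p - 1 ∨ deg χ = (p - 1) * Dn := by
    intro χ hχ h
    have := D.degX χ hχ
    rw [h] at this
    exact minus_arith hp.out.two_le hF (hdvdX χ hχ) this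
  have hone : oneIrr G ∈ X ∨ oneIrr G ∈ Y := (D.mem_iff _).mp (oneIrr_mem_principalBlock hM)
  have hso : oneIrr G ∈ X → εX (oneIrr G) = 1 := by
    intro h
    rcases D.signX _ h with h1 | h1
    · exact h1
    · exfalso
      have := D.degX _ h
      rw [h1, deg_oneIrr] at this
      have h2 := Int.modEq_iff_dvd.mp this
      have h3 : (-1 : ℤ) - ((1 : ℕ) : ℤ) = -2 := by norm_num
      rw [h3] at h2
      have h4 : (p : ℤ) ∣ 2 := (dvd_neg.mp h2)
      have h5 : p ∣ 2 := by exact_mod_cast h4
      have := Nat.le_of_dvd (by norm_num) h5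
      omega
  have hpcast : ((p - 1 : ℕ) : ℤ) = (p : ℤ) - 1 := by
    rw [Nat.cast_sub hp.out.one_lt.le]; simp
  have hetz : (e : ℤ) * t = (p : ℤ) - 1 := by
    have : ((e * t : ℕ) : ℤ) = ((p - 1 : ℕ) : ℤ) := by rw [het]
    rw [hpcast] at this; push_cast at this; exact this
  have hkey : ∃ χ ∈ X, εX χ = -1 ∧ deg χ = p - 1 := by
    by_contra H
    have hminus' : ∀ χ ∈ X, εX χ = -1 → deg χ = (p - 1) * Dn := by
      intro χ hχ h
      rcases hminus χ hχ h with h1 | h1
      · exact absurd ⟨χ, hχ, h, h1⟩ H
      · exact h1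
    have he_one : e = 1 := by
      by_cases hD1 : Dn = 1
      · have hall : ∀ χ ∈ X, χ = oneIrr G := by
          intro χ hχ
          rcases D.signX χ hχ with h | h
          · apply eq_oneIrr_of_deg_one hperf
            rcases hplus χ hχ h with h1 | h1
            · exact h1
            · rw [h1, hD1]
          · exfalso
            have h1 := hminus' χ hχ h
            rw [hD1, mul_one] at h1
            exact H ⟨χ, hχ, h, h1⟩
        have hsub : X ⊆ {oneIrr G} := fun χ hχ => Finset.mem_singleton.mpr (hall χ hχ)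
        have := Finset.card_le_card hsub
        rw [D.cardX, Finset.card_singleton] at this
        omega
      · have hD2 : 2 ≤ Dn := by omega
        apply core X (fun χ => εX χ * (deg χ : ℤ)) εX (oneIrr G) p e t Dn y ε hp3 hD2 he1 het
          D.cardX D.signX hso
        · intro χ hχ h
          rw [h, hminus' χ hχ h]
          push_cast
          rw [hpcast]
          ring
        · intro χ hχ h
          rcases hplus χ hχ h with h1 | h1
          · left
            refine ⟨eq_oneIrr_of_deg_one hperf χ h1, ?_⟩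
            rw [h, h1]; simp
          · right
            refine ⟨?_, ?_⟩
            · intro hc
              rw [hc, deg_oneIrr] at h1
              omega
            · rw [h, h1]; simp
        · exact D.rel_deg hθ₀
        · exact deg_pos θ₀
        · rcases hone with h | h
          · left; exact h
          · right
            rw [hy, D.deg_eq hθ₀ h, deg_oneIrr]
        · exact D.sign
        · intro hε
          apply plus_arith hp.out.two_le hF
          · rw [← het, mul_comm e t, mul_assoc]
            exact Nat.mul_dvd_mul_left t hdvdY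
          · have h1 := D.degY θ₀ hθ₀
            rw [hε] at h1
            have h2 : ((t * y : ℕ) : ℤ) ≡ (t : ℤ) * (-1 * (e : ℤ)) [ZMOD p] := by
              push_cast
              exact h1.mul_left _
            have h3 : (t : ℤ) * (-1 * (e : ℤ)) = -((p : ℤ) - 1) := by linarith
            rw [h3] at h2
            refine h2.trans ?_
            apply Int.modEq_iff_dvd.mpr
            exact ⟨1, by ring⟩
        · intro hε
          apply minus_arith hp.out.two_le hF
          · rw [← het, mul_comm e t, mul_assoc]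
            exact Nat.mul_dvd_mul_left t hdvdY
          · have h1 := D.degY θ₀ hθ₀
            rw [hε] at h1
            have h2 : ((t * y : ℕ) : ℤ) ≡ (t : ℤ) * (1 * (e : ℤ)) [ZMOD p] := by
              push_cast
              exact h1.mul_left _
            have h3 : (t : ℤ) * (1 * (e : ℤ)) = ((p : ℤ) - 1) := by linarith
            rw [h3] at h2
            refine h2.trans ?_
            apply Int.modEq_iff_dvd.mpr
            exact ⟨-1, by ring⟩
    apply hfalse
    exact Subgroup.relIndex_eq_one.mp he_one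
  obtain ⟨χ, hχ, hs, hd⟩ := hkey
  have : Fintype ↥((P : Subgroup G).subgroupOf (Subgroup.centralizer ((P : Subgroup G) : Set G))) :=
    Fintype.ofFinite _
  have : Fintype (IrrCharacter ↥(Subgroup.centralizer ((P : Subgroup G) : Set G))) :=
    Fintype.ofFinite _
  have hsumD := BR.sum_D_eq hP hM χ
  have haP : BR.aP P χ = 0 := by
    have hL : ∑ x : ↥((P : Subgroup G).subgroupOf (Subgroup.centralizer ((P : Subgroup G) : Set G))),
        (χ : G → ℂ) ((x : ↥(Subgroup.centralizer ((P : Subgroup G) : Set G))) : G) = 0 := by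
      rw [← Finset.add_sum_erase Finset.univ _ (Finset.mem_univ
        (1 : ↥((P : Subgroup G).subgroupOf (Subgroup.centralizer ((P : Subgroup G) : Set G)))))]
      have h1 : ∀ x ∈ (Finset.univ.erase
          (1 : ↥((P : Subgroup G).subgroupOf (Subgroup.centralizer ((P : Subgroup G) : Set G))))),
          (χ : G → ℂ) ((x : ↥(Subgroup.centralizer ((P : Subgroup G) : Set G))) : G) = -1 := by
        intro x hx
        have hx1 : x ≠ 1 := Finset.ne_of_mem_erase hx
        have hxP : ((x : ↥(Subgroup.centralizer ((P : Subgroup G) : Set G))) : G) ∈ (P : Subgroup G) :=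
          (PB.mem_PD_iff P (x : ↥(Subgroup.centralizer ((P : Subgroup G) : Set G)))).mp x.2
        have hne : ((x : ↥(Subgroup.centralizer ((P : Subgroup G) : Set G))) : G) ≠ 1 := by
          intro h; apply hx1
          apply Subtype.ext; apply Subtype.ext; exact h
        rw [D.valP hχ hxP hne, hs]; simp
      rw [Finset.sum_congr rfl h1, Finset.sum_const, Finset.card_erase_of_mem (Finset.mem_univ _),
        Finset.card_univ, ← Nat.card_eq_fintype_card, PB.card_PD P hP]
      have h1' : (((1 : ↥((P : Subgroup G).subgroupOf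
          (Subgroup.centralizer ((P : Subgroup G) : Set G)))) :
          ↥(Subgroup.centralizer ((P : Subgroup G) : Set G))) : G) = 1 := rfl
      rw [h1', apply_one, hd, nsmul_eq_mul]
      ring
    rw [hL] at hsumD
    have h0 : (p * BR.aP P χ : ℕ) = 0 := by exact_mod_cast hsumD.symm
    rcases Nat.mul_eq_zero.mp h0 with h | h
    · exact absurd h hp.out.ne_zero
    · exact h
  have hχB : χ ∈ principalBlock M G := (D.mem_iff χ).mpr (Or.inl hχ)
  have hker := BR.apply_eq_of_pRegular hP hM hχB haP
  have hKn : (charKer (IsIrrCharacter.isCharacter χ.2)).Normal := charKer_normal _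
  have hKcop : (Nat.card (charKer (IsIrrCharacter.isCharacter χ.2))).Coprime p := by
    apply Nat.Coprime.symm
    rw [Nat.Prime.coprime_iff_not_dvd hp.out]
    intro hdvd
    obtain ⟨k, hk⟩ := exists_prime_orderOf_dvd_card' p hdvd
    have hko : orderOf (k : G) = p := by rw [Subgroup.orderOf_coe]; exact hk
    obtain ⟨g, hg⟩ := PB.exists_conj_mem_P P (u := (k : G)) ⟨1, by rw [hko, pow_one]⟩
    have hg1 : g⁻¹ * (k : G) * g ≠ 1 := by
      intro h
      have hk1 : (k : G) = 1 := by
        have h2 : (k : G) = g * (g⁻¹ * k * g) * g⁻¹ := by group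
        rw [h2, h]; group
      rw [hk1, orderOf_one] at hko
      exact hp.out.one_lt.ne hko
    have hgK : g⁻¹ * (k : G) * g ∈ charKer (IsIrrCharacter.isCharacter χ.2) := by
      have := hKn.conj_mem k k.2 g⁻¹
      rwa [inv_inv] at this
    have h1 := D.valP hχ hg hg1
    have h2 : (χ : G → ℂ) (g⁻¹ * k * g) = (χ : G → ℂ) 1 := (mem_charKer _ _).mp hgK
    rw [h1, hs, apply_one, hd] at h2
    have h3 : ((-1 : ℤ) : ℂ) = ((p - 1 : ℕ) : ℂ) := h2
    rw [Nat.cast_sub hp.out.one_lt.le] at h3
    push_cast at h3
    have h4 : (p : ℂ) = 0 := by linear_combination -h3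
    exact hp.out.ne_zero (by exact_mod_cast h4)
  have hKbot : charKer (IsIrrCharacter.isCharacter χ.2) = ⊥ := hcore _ hKn hKcop
  have hreg : ∀ c : G, c ∈ Subgroup.centralizer ((P : Subgroup G) : Set G) →
      ¬ p ∣ orderOf c → c = 1 := by
    intro c hc hcp
    have h1 := hker ⟨c, hc⟩ (by rw [Subgroup.orderOf_mk]; exact hcp)
    have h2 : c ∈ charKer (IsIrrCharacter.isCharacter χ.2) := (mem_charKer _ _).mpr h1
    rw [hKbot] at h2
    exact Subgroup.mem_bot.mp h2
  apply le_antisymm
  · intro c hc
    by_cases hcp : p ∣ orderOf c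
    · obtain ⟨z', hz', _, y', hy', hy'p, hcz⟩ := PB.exists_decomp_C P hP hc hcp
      rw [hcz, hreg y' hy' hy'p, mul_one]
      exact hz'
    · rw [hreg c hc hcp]
      exact one_mem _
  · exact PB.P_le_C P hP

end Cfsg.Agent.Lib.Helper6.BF
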