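import Mathlib

/-!
# Brauer's theorem on characters of degree `p - 2`: the counting argument with three moments
-/

set_option autoImplicit false
set_option linter.unusedVariables false
set_option linter.style.longLine false

namespace Cfsg.Agent.Lib.Helper6.BG

theorem moment_count {α : Type*} [Fintype α] [DecidableEq α] (f : α → ℤ) (Sg Z' : Finset α)
    (Pp N c : ℤ) (hP : 7 ≤ Pp) (hN : 0 < N)
    (hsing : ∀ g ∈ Sg, f g = -1)
    (hreg0 : ∀ g, g ∉ Sg → 0 ≤ f g) (hreg1 : ∀ g, g ∉ Sg → f g ≤ Pp - 1)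
    (h1 : ∑ g, f g = 0) (h2 : ∑ g, f g ^ 2 = N) (h3 : ∑ g, f g ^ 3 = c * N)
    (hNs : 2 * Pp * (Sg.card : ℤ) = (Pp - 1) * N)
    (hZ : ∀ g, g ∈ Z' ↔ f g = Pp - 1) :
    N = (Z'.card : ℤ) * (Pp * (Pp - 1) * (Pp - 2)) := by
  classical
  obtain ⟨R, hR⟩ : ∃ R : Finset α, R = Finset.univ \ Sg := ⟨_, rfl⟩
  have hsplit : ∀ F : α → ℤ, ∑ g, F g = ∑ g ∈ Sg, F g + ∑ g ∈ R, F g := by
    intro F
    rw [hR, add_comm, Finset.sum_sdiff (Finset.subset_univ Sg)]
  have hRmem : ∀ g ∈ R, g ∉ Sg := fun g hg => by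
    rw [hR] at hg
    exact (Finset.mem_sdiff.mp hg).2
  have s1 : ∑ g ∈ Sg, f g = -(Sg.card : ℤ) := by
    rw [Finset.sum_congr rfl hsing, Finset.sum_const, nsmul_eq_mul]; ring
  have s2 : ∑ g ∈ Sg, f g ^ 2 = (Sg.card : ℤ) := by
    rw [Finset.sum_congr rfl (fun g hg => by rw [hsing g hg]), Finset.sum_const, nsmul_eq_mul]
    ring
  have s3 : ∑ g ∈ Sg, f g ^ 3 = -(Sg.card : ℤ) := by
    rw [Finset.sum_congr rfl (fun g hg => by rw [hsing g hg]), Finset.sum_const, nsmul_eq_mul]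
    ring
  have A1 : ∑ g ∈ R, f g = Sg.card := by
    have := hsplit f
    rw [h1, s1] at this
    linarith
  have A2 : ∑ g ∈ R, f g ^ 2 = N - Sg.card := by
    have := hsplit (fun g => f g ^ 2)
    rw [h2, s2] at this
    linarith
  have A3 : ∑ g ∈ R, f g ^ 3 = c * N + Sg.card := by
    have := hsplit (fun g => f g ^ 3)
    rw [h3, s3] at this
    linarith
  have hT : ∑ g ∈ R, f g * (f g - 1) * (Pp - 1 - f g) = (1 - c) * N := by
    have e : ∀ g ∈ R, f g * (f g - 1) * (Pp - 1 - f g)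
        = -(f g ^ 3) + Pp * f g ^ 2 - (Pp - 1) * f g := by
      intro g _; ring
    rw [Finset.sum_congr rfl e, Finset.sum_sub_distrib, Finset.sum_add_distrib,
      Finset.sum_neg_distrib, ← Finset.mul_sum, ← Finset.mul_sum, A1, A2, A3]
    linarith [hNs]
  have hterm : ∀ g ∈ R, 0 ≤ f g * (f g - 1) * (Pp - 1 - f g) := by
    intro g hg
    have h0 := hreg0 g (hRmem g hg)
    have h1' := hreg1 g (hRmem g hg)
    rcases eq_or_lt_of_le h0 with h | h
    · rw [← h]; simp
    · exact mul_nonneg (mul_nonneg h0 (by omega)) (by omega)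
  have hTnn : 0 ≤ (1 - c) * N := by rw [← hT]; exact Finset.sum_nonneg hterm
  have hc1 : c ≤ 1 := by
    by_contra h
    have : 2 ≤ c := by omega
    nlinarith
  have hcube : ∑ g ∈ R, f g ^ 2 ≤ ∑ g ∈ R, f g ^ 3 := by
    apply Finset.sum_le_sum
    intro g hg
    have h0 := hreg0 g (hRmem g hg)
    rcases eq_or_lt_of_le h0 with h | h
    · rw [← h]; simp
    · have : 1 ≤ f g := by omega
      nlinarith [sq_nonneg (f g)]
  rw [A2, A3] at hcube
  have hPN : Pp * (N - 2 * (Sg.card : ℤ)) = N := by linarith [hNs]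
  have hpos : 0 < N - 2 * (Sg.card : ℤ) := by
    by_contra h
    have : N - 2 * (Sg.card : ℤ) ≤ 0 := by omega
    nlinarith
  have hc0 : 1 ≤ c := by
    by_contra h
    have : c ≤ 0 := by omega
    nlinarith
  have hc : c = 1 := by omega
  rw [hc] at hT
  simp only [sub_self, zero_mul] at hT
  have hzero := (Finset.sum_eq_zero_iff_of_nonneg hterm).mp hT
  have hvals : ∀ g ∈ R, f g ^ 2 - f g = if f g = Pp - 1 then (Pp - 1) * (Pp - 2) else 0 := by
    intro g hg
    have hz := hzero g hg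
    rcases mul_eq_zero.mp hz with h | h
    · rcases mul_eq_zero.mp h with h | h
      · rw [h, if_neg (by omega)]; ring
      · have h' : f g = 1 := by omega
        rw [h', if_neg (by omega)]; ring
    · have h' : f g = Pp - 1 := by omega
      rw [if_pos h', h']; ring
  have hfilt : R.filter (fun g => f g = Pp - 1) = Z' := by
    ext g
    rw [Finset.mem_filter, hZ]
    constructor
    · exact fun h => h.2
    · intro h
      refine ⟨?_, h⟩
      rw [hR]
      apply Finset.mem_sdiff.mpr ⟨Finset.mem_univ _, ?_⟩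
      intro hs
      have := hsing g hs
      omega
  have hsum : ∑ g ∈ R, (f g ^ 2 - f g) = (Z'.card : ℤ) * ((Pp - 1) * (Pp - 2)) := by
    rw [Finset.sum_congr rfl hvals, ← Finset.sum_filter, Finset.sum_const, nsmul_eq_mul, hfilt]
  rw [Finset.sum_sub_distrib, A1, A2] at hsum
  have : N - 2 * (Sg.card : ℤ) = (Z'.card : ℤ) * ((Pp - 1) * (Pp - 2)) := by linarith
  rw [this] at hPN
  rw [← hPN]; ring

end Cfsg.Agent.Lib.Helper6.BG
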