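import Mathlib
import Cfsg.Agent.Lib.Helper6.BG17
import Cfsg.Agent.Lib.Helper6.BlkColumn

/-!
# Brauer's theorem on characters of degree `p - 2`: the non-negativity of the character of
degree `p - 1` of the principal block on the `p`-regular elements
-/

set_option autoImplicit false
set_option linter.unusedSectionVars false
set_option linter.unusedVariables false
set_option linter.style.longLine false
set_option maxHeartbeats 1600000

namespace Cfsg.Agent.Lib.Helper6.BG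

open Cfsg.Agent.Lib.Helper6 Cfsg.Agent.Lib.Helper6.PB Cfsg.Agent.Lib.Helper6.BR
  Cfsg.Agent.Lib.Helper6.BH
open scoped ComplexConjugate

variable {G : Type*} [Group G] [Fintype G] [DecidableEq G] {p : ℕ} [hp : Fact p.Prime]
variable {P : Sylow p G}
variable [Fintype ↥(Subgroup.centralizer ((P : Subgroup G) : Set G))]
variable [Fintype ↥(Subgroup.normalizer ((P : Subgroup G) : Set G))]
variable {M : Ideal Cfsg.AlgInt}

local notation "𝐂" => Subgroup.centralizer ((P : Subgroup G) : Set G)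
local notation "𝐍" => Subgroup.normalizer ((P : Subgroup G) : Set G)

theorem Blk.eq_principal (X : Ctx M P) (D₀ : Blk M P) (h1 : oneIrr G ∈ D₀.B) :
    D₀.B = Cfsg.principalBlock M G := by
  obtain ⟨χ₀, h⟩ := D₀.hB
  rw [h] at h1 ⊢
  rw [blockOf_eq_of_mem X.hM h1, principalBlock_eq]

theorem sum_deg_sq_aux (X : Ctx M P) (H : Subgroup G) (hH : H = 𝐂) :
    ∑ᶠ ψ ∈ Cfsg.principalBlock M ↥H, ((Cfsg.charDegree (ψ : ↥H → ℂ) : ℕ) : ℂ) ^ 2
      = (p : ℂ) := by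
  subst hH
  classical
  have : Fintype (Cfsg.IrrCharacter ↥𝐂) := Fintype.ofFinite _
  rw [finsum_mem_eq_sum_filter_lib]
  have h2 : ∀ ψ : Cfsg.IrrCharacter ↥𝐂,
      ((Cfsg.charDegree (ψ : ↥𝐂 → ℂ) : ℕ) : ℂ) ^ 2 = 1 := by
    intro ψ
    rw [cen_charDegree X.hP X.hM X.hcen ψ]
    simp
  rw [Finset.sum_congr rfl (fun ψ _ => h2 ψ), Finset.sum_const, nsmul_eq_mul, mul_one]
  have h3 := card_block P X.hP X.hM (isPBlock_principalBlock (M := M) (G := ↥𝐂))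
  rw [Nat.card_eq_fintype_card, Fintype.card_subtype] at h3
  exact_mod_cast h3

/-- the column of a non-trivial element of `P` in the principal block has square norm `p` -/
theorem sum_sq_prin (X : Ctx M P) (D₀ : Blk M P) (h1 : oneIrr G ∈ D₀.B) {x : G}
    (hxP : x ∈ (P : Subgroup G)) (hx1 : x ≠ 1)
    (𝔅₀ : Finset (Cfsg.IrrCharacter G)) (h𝔅₀ : ∀ χ, χ ∈ 𝔅₀ ↔ χ ∈ D₀.B) :
    ∑ χ ∈ 𝔅₀, (χ : G → ℂ) x * conj ((χ : G → ℂ) x) = (p : ℂ) := by
  classical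
  have : Fintype (Cfsg.IrrCharacter G) := Fintype.ofFinite _
  have hx : ∃ k : ℕ, orderOf x = p ^ k :=
    ⟨1, by rw [pow_one]; exact orderOf_eq_of_mem P X.hP hxP hx1⟩
  have h := principal_sum_sq_pElement p M X.hM x hx
  rw [sum_deg_sq_aux X _ (centralizer_singleton_eq P X.hP hxP hx1),
    finsum_mem_eq_sum_filter_lib] at h
  rw [← h]
  apply Finset.sum_congr _ (fun _ _ => rfl)
  ext χ
  rw [h𝔅₀, Blk.eq_principal X D₀ h1]
  simp

section prin

variable (X : Ctx M P) (D₀ : Blk M P) {S : Cfsg.IrrCharacter G} (pd : PrinData D₀ S)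
include X pd

theorem sum_Y_sq [Fintype D₀.L.J] {x : G}
    (hxP : x ∈ (P : Subgroup G)) (hx1 : x ≠ 1) (hxs : p ∣ orderOf x) :
    ∑ j : D₀.L.J, (D₀.K.Λ j : G → ℂ) x * conj ((D₀.K.Λ j : G → ℂ) x) = (p : ℂ) - 2 := by
  classical
  have : Fintype (Cfsg.IrrCharacter G) := Fintype.ofFinite _
  have h := sum_sq_prin X D₀ pd.h1 hxP hx1 (Finset.univ.filter (· ∈ D₀.B)) (fun χ => by simp)
  rw [sum_block_split D₀.K (fun χ => (χ : G → ℂ) x * conj ((χ : G → ℂ) x)),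
    pd.hpair.sum_S] at h
  have hS := S_sing X D₀ pd x hxs
  have h1' : ((oneIrr G : Cfsg.IrrCharacter G) : G → ℂ) x = 1 := rfl
  beta_reduce at h
  rw [h1', hS, map_one, map_neg, map_one] at h
  linear_combination h

/-- the character of degree `p - 1` of the principal block is non-negative on the `p`-regular
elements -/
theorem S_nonneg (g : G) (hg : ¬ p ∣ orderOf g) (z : ℤ) (hz : (S : G → ℂ) g = z) : 0 ≤ z := by
  classical
  have : Fintype (Cfsg.IrrCharacter G) := Fintype.ofFinite _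
  have : Fintype (Subgroup.center G) := Fintype.ofFinite _
  have : Fintype D₀.L.J := Fintype.ofFinite _
  have hp5 := X.hp5
  obtain ⟨x, hxP, hx1, hxs⟩ := exists_mem_P_ne_one X
  obtain ⟨𝔉₀, h𝔉₀⟩ : ∃ 𝔉₀ : Finset (Cfsg.IrrCharacter G), ∀ χ, χ ∈ 𝔉₀ ↔ cch χ = cch (oneIrr G) :=
    ⟨Finset.univ.filter (fun χ => cch χ = cch (oneIrr G)), fun χ => by simp⟩
  have h𝔅₀ : ∀ χ : Cfsg.IrrCharacter G, χ ∈ Finset.univ.filter (· ∈ D₀.B) ↔ χ ∈ D₀.B :=
    fun χ => by simp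
  have t0 := twist_eq x x⁻¹ g (oneIrr G) 𝔉₀ h𝔉₀
  have hvan : ∀ χ : Cfsg.IrrCharacter G, p ∣ Cfsg.charDegree (χ : G → ℂ) →
      (χ : G → ℂ) x * (χ : G → ℂ) x⁻¹ * conj ((χ : G → ℂ) g) / (χ : G → ℂ) 1 = 0 := by
    intro χ hχ
    rw [vanish_of_dvd X χ hχ x hxs]
    simp
  have e0 : ∑ χ ∈ 𝔉₀, (χ : G → ℂ) x * (χ : G → ℂ) x⁻¹ * conj ((χ : G → ℂ) g) / (χ : G → ℂ) 1
      = ∑ χ ∈ Finset.univ.filter (· ∈ D₀.B),
          (χ : G → ℂ) x * (χ : G → ℂ) x⁻¹ * conj ((χ : G → ℂ) g) / (χ : G → ℂ) 1 := by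
    symm
    apply Finset.sum_subset
    · intro χ hχ
      exact (h𝔉₀ χ).mpr (Blk.cch_eq_cch X D₀ ((h𝔅₀ χ).mp hχ) pd.h1)
    · intro χ hχ hχn
      apply hvan
      by_contra hnd
      exact hχn ((h𝔅₀ χ).mpr (Blk.mem_of_cch X D₀ pd.h1 χ hnd ((h𝔉₀ χ).mp hχ)))
  have hpC : ((p : ℂ) - 1) ≠ 0 := by
    have : ((p : ℂ) - 1) = ((p - 1 : ℕ) : ℂ) := by
      rw [Nat.cast_sub (by omega)]; simp
    rw [this]
    exact Nat.cast_ne_zero.mpr (by omega)
  have hpC2 : ((p : ℂ) - 2) ≠ 0 := by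
    have : ((p : ℂ) - 2) = ((p - 2 : ℕ) : ℂ) := by
      rw [Nat.cast_sub (by omega)]; simp
    rw [this]
    exact Nat.cast_ne_zero.mpr (by omega)
  have hS1 : (S : G → ℂ) 1 = (p : ℂ) - 1 := by
    rw [IsCharacter.apply_one_eq_charDegree (IsIrrCharacter.isCharacter S.2), pd.hdegS,
      Nat.cast_sub (by omega)]
    simp
  have hY1 : ∀ j : D₀.L.J, (D₀.K.Λ j : G → ℂ) 1 = (p : ℂ) - 2 := by
    intro j
    rw [IsCharacter.apply_one_eq_charDegree (IsIrrCharacter.isCharacter (D₀.K.Λ j).2),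
      pd.hdegY j, Nat.cast_sub (by omega)]
    simp
  have h1v : ∀ a : G, ((oneIrr G : Cfsg.IrrCharacter G) : G → ℂ) a = 1 := fun _ => rfl
  have hsum : ∑ χ ∈ Finset.univ.filter (· ∈ D₀.B),
      (χ : G → ℂ) x * (χ : G → ℂ) x⁻¹ * conj ((χ : G → ℂ) g) / (χ : G → ℂ) 1
      = (z : ℂ) * p / ((p : ℂ) - 1) := by
    rw [sum_block_split D₀.K (fun χ =>
      (χ : G → ℂ) x * (χ : G → ℂ) x⁻¹ * conj ((χ : G → ℂ) g) / (χ : G → ℂ) 1), pd.hpair.sum_S]
    beta_reduce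
    have hY : ∀ j : D₀.L.J, (D₀.K.Λ j : G → ℂ) x * (D₀.K.Λ j : G → ℂ) x⁻¹
        * conj ((D₀.K.Λ j : G → ℂ) g) / (D₀.K.Λ j : G → ℂ) 1
        = ((D₀.K.Λ j : G → ℂ) x * conj ((D₀.K.Λ j : G → ℂ) x)) * (((z : ℂ) - 1) / ((p : ℂ) - 2)) := by
      intro j
      rw [IsCharacter.apply_inv (IsIrrCharacter.isCharacter (D₀.K.Λ j).2) x, hY1 j,
        Y_reg X D₀ pd j g hg, hz, map_sub, map_intCast, map_one]
      ring
    rw [Finset.sum_congr rfl (fun j _ => hY j), ← Finset.sum_mul, sum_Y_sq X D₀ pd hxP hx1 hxs,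
      h1v, h1v, h1v, h1v, IsCharacter.apply_inv (IsIrrCharacter.isCharacter S.2) x,
      S_sing X D₀ pd x hxs, hS1, hz, map_one, map_neg, map_one, map_intCast]
    field_simp
    ring
  rw [e0, hsum] at t0
  simp only [cch_oneIrr, one_mul] at t0
  rw [← Nat.cast_sum] at t0
  obtain ⟨N, hN⟩ : ∃ N : ℕ, N = ∑ u : Subgroup.center G, (Finset.univ.filter (fun q : G × G =>
          q.1 * x * q.1⁻¹ * (q.2 * x⁻¹ * q.2⁻¹) = (u : G) * g)).card := ⟨_, rfl⟩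
  rw [← hN] at t0
  have hC : (((N : ℤ) * ((p : ℤ) - 1) : ℤ) : ℂ)
      = (((Nat.card G : ℤ) * (Nat.card (Subgroup.center G) : ℤ) * (p : ℤ) * z : ℤ) : ℂ) := by
    push_cast
    rw [t0]
    field_simp
  have hZ : (N : ℤ) * ((p : ℤ) - 1)
      = (Nat.card G : ℤ) * (Nat.card (Subgroup.center G) : ℤ) * (p : ℤ) * z :=
    Int.cast_injective hC
  rcases lt_or_ge z 0 with hneg | hpos
  · exfalso
    have hG : (0 : ℤ) < (Nat.card G : ℤ) := by exact_mod_cast Nat.card_pos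
    have hZc : (0 : ℤ) < (Nat.card (Subgroup.center G) : ℤ) := by exact_mod_cast Nat.card_pos
    have hpp : (0 : ℤ) < (p : ℤ) := by exact_mod_cast hp.out.pos
    have h1 : (0 : ℤ) < (Nat.card G : ℤ) * (Nat.card (Subgroup.center G) : ℤ) * (p : ℤ) :=
      mul_pos (mul_pos hG hZc) hpp
    have h2 := mul_neg_of_pos_of_neg h1 hneg
    have h3 : (0 : ℤ) ≤ (N : ℤ) * ((p : ℤ) - 1) :=
      mul_nonneg (Int.natCast_nonneg N) (by linarith)
    linarith
  · exact hpos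

end prin

end Cfsg.Agent.Lib.Helper6.BG
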