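import Mathlib
import Cfsg.Agent.Lib.Helper6.BG19
import Cfsg.Agent.Lib.Helper6.BG18
import Cfsg.Agent.Lib.Helper6.BH9
import Cfsg.Agent.Lib.Helper3.Prim2A

/-!
# Brauer's theorem on characters of degree `p - 2`: the order of the group
-/

set_option autoImplicit false
set_option linter.unusedSectionVars false
set_option linter.unusedVariables false
set_option linter.style.longLine false
set_option maxHeartbeats 1600000

namespace Cfsg.Agent.Lib.Helper6.BG

open Cfsg.Agent.Lib.Helper6 Cfsg.Agent.Lib.Helper6.PB Cfsg.Agent.Lib.Helper6.BR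
  Cfsg.Agent.Lib.Helper6.BH
open scoped ComplexConjugate

variable {G : Type*} [Group G] [Fintype G] [DecidableEq G] {p : ℕ} [hp : Fact p.Prime]
variable {P : Sylow p G}
variable [Fintype ↥(Subgroup.centralizer ((P : Subgroup G) : Set G))]
variable [Fintype ↥(Subgroup.normalizer ((P : Subgroup G) : Set G))]
variable {M : Ideal Cfsg.AlgInt}

local notation "𝐂" => Subgroup.centralizer ((P : Subgroup G) : Set G)
local notation "𝐍" => Subgroup.normalizer ((P : Subgroup G) : Set G)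

section prin

variable (X : Ctx M P) (D₀ : Blk M P) {S : Cfsg.IrrCharacter G} (pd : PrinData D₀ S)
include X pd

theorem S_le (g : G) (z : ℤ) (hz : (S : G → ℂ) g = z) : z ≤ (p : ℤ) - 1 := by
  have hp5 := X.hp5
  have h := norm_le_degree S g
  rw [hz, pd.hdegS, Complex.norm_intCast] at h
  have h2 : (z : ℝ) ≤ ((p - 1 : ℕ) : ℝ) := le_trans (le_abs_self _) h
  rw [Nat.cast_sub (by omega)] at h2
  have h3 : (z : ℝ) ≤ (((p : ℤ) - 1 : ℤ) : ℝ) := by
    push_cast
    simpa using h2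
  exact_mod_cast h3

theorem sum_S : ∑ g : G, (S : G → ℂ) g = 0 := by
  have h := sum_mul_conj_irr S (oneIrr G)
  rw [if_neg (fun h => pd.hpair.hne h.symm)] at h
  have h1v : ∀ a : G, ((oneIrr G : Cfsg.IrrCharacter G) : G → ℂ) a = 1 := fun _ => rfl
  simp only [h1v, map_one, mul_one] at h
  exact h

theorem sum_Y (j : D₀.L.J) : ∑ g : G, (D₀.K.Λ j : G → ℂ) g = 0 := by
  have hp5 := X.hp5
  have h := sum_mul_conj_irr (D₀.K.Λ j) (oneIrr G)
  have hne : D₀.K.Λ j ≠ oneIrr G := by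
    intro h
    have h' := pd.hdegY j
    rw [h] at h'
    have : Cfsg.charDegree ((oneIrr G : Cfsg.IrrCharacter G) : G → ℂ) = 1 := charDegree_one_fun
    omega
  rw [if_neg hne] at h
  have h1v : ∀ a : G, ((oneIrr G : Cfsg.IrrCharacter G) : G → ℂ) a = 1 := fun _ => rfl
  simp only [h1v, map_one, mul_one] at h
  exact h

/-- the number of the `p`-singular elements -/
theorem card_sing :
    2 * (p : ℤ) * ((Finset.univ.filter (fun g : G => p ∣ orderOf g)).card : ℤ)
      = ((p : ℤ) - 1) * (Nat.card G : ℤ) := by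
  classical
  have : Fintype D₀.L.J := Fintype.ofFinite _
  have hJ := Blk.card_J X D₀
  have hJ' : (Fintype.card D₀.L.J : ℂ) * 2 = (p : ℂ) - 1 := by
    have := congrArg (Int.cast : ℤ → ℂ) hJ
    push_cast at this
    exact this
  have hΦ : ∀ g : G, (Fintype.card D₀.L.J : ℂ) * (1 - (S : G → ℂ) g)
        + ∑ j : D₀.L.J, (D₀.K.Λ j : G → ℂ) g
      = if p ∣ orderOf g then (p : ℂ) else 0 := by
    intro g
    by_cases hg : p ∣ orderOf g
    · rw [if_pos hg, S_sing X D₀ pd g hg, sum_Y_sing X D₀ pd g hg]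
      linear_combination hJ'
    · rw [if_neg hg, Finset.sum_congr rfl (fun j _ => Y_reg X D₀ pd j g hg), Finset.sum_const,
        Finset.card_univ, nsmul_eq_mul]
      ring
  have hsumΦ : ∑ g : G, ((Fintype.card D₀.L.J : ℂ) * (1 - (S : G → ℂ) g)
        + ∑ j : D₀.L.J, (D₀.K.Λ j : G → ℂ) g)
      = (Fintype.card D₀.L.J : ℂ) * (Nat.card G : ℂ) := by
    rw [Finset.sum_add_distrib, Finset.sum_comm,
      Finset.sum_congr rfl (fun j _ => sum_Y X D₀ pd j), Finset.sum_const_zero, add_zero,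
      ← Finset.mul_sum, Finset.sum_sub_distrib, sum_S X D₀ pd, Finset.sum_const, Finset.card_univ,
      nsmul_eq_mul, mul_one, sub_zero, Nat.card_eq_fintype_card]
  rw [Finset.sum_congr rfl (fun g _ => hΦ g), Finset.sum_ite, Finset.sum_const_zero, add_zero,
    Finset.sum_const, nsmul_eq_mul] at hsumΦ
  have : (((2 * (p : ℤ) * ((Finset.univ.filter (fun g : G => p ∣ orderOf g)).card : ℤ)) : ℤ) : ℂ)
      = ((((p : ℤ) - 1) * (Nat.card G : ℤ) : ℤ) : ℂ) := by
    push_cast
    linear_combination 2 * hsumΦ + (Nat.card G : ℂ) * hJ'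
  exact_mod_cast this

/-- the order of the group -/
theorem card_formula {ζ χ₁ : Cfsg.IrrCharacter G}
    (hf : ∀ g, (ζ : G → ℂ) g = (ζ : G → ℂ) 1 → g = 1)
    (hχ₁d : Cfsg.charDegree (χ₁ : G → ℂ) = 1) (j₁ : D₀.L.J)
    (hj₁ : ∀ g, (D₀.K.Λ j₁ : G → ℂ) g = conj ((χ₁ : G → ℂ) g) * (ζ : G → ℂ) g) :
    Nat.card G = Nat.card (Subgroup.center G) * (p * (p - 1) * (p - 2)) := by
  classical
  have : Fintype (Cfsg.IrrCharacter G) := Fintype.ofFinite _
  have : Fintype D₀.L.J := Fintype.ofFinite _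
  have hp5 := X.hp5
  have hSc : Cfsg.IsCharacter G (S : G → ℂ) := IsIrrCharacter.isCharacter S.2
  obtain ⟨f, hf'⟩ : ∃ f : G → ℤ, ∀ g, (S : G → ℂ) g = f g :=
    ⟨fun g => (S_int X D₀ pd g).choose, fun g => (S_int X D₀ pd g).choose_spec⟩
  have hS1 : (S : G → ℂ) 1 = (p : ℂ) - 1 := by
    rw [IsCharacter.apply_one_eq_charDegree hSc, pd.hdegS, Nat.cast_sub (by omega)]
    simp
  have hsing : ∀ g ∈ Finset.univ.filter (fun g : G => p ∣ orderOf g), f g = -1 := by
    intro g hg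
    have hg' : p ∣ orderOf g := (Finset.mem_filter.mp hg).2
    have h := S_sing X D₀ pd g hg'
    rw [hf' g] at h
    exact_mod_cast h
  have hreg0 : ∀ g, g ∉ Finset.univ.filter (fun g : G => p ∣ orderOf g) → 0 ≤ f g := by
    intro g hg
    have hg' : ¬ p ∣ orderOf g := fun h => hg (Finset.mem_filter.mpr ⟨Finset.mem_univ _, h⟩)
    exact S_nonneg X D₀ pd g hg' (f g) (hf' g)
  have hreg1 : ∀ g, g ∉ Finset.univ.filter (fun g : G => p ∣ orderOf g) → f g ≤ (p : ℤ) - 1 :=
    fun g _ => S_le X D₀ pd g (f g) (hf' g)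
  have hG0 : (Nat.card G : ℂ) ≠ 0 := Nat.cast_ne_zero.mpr Nat.card_pos.ne'
  have h1 : ∑ g, f g = 0 := by
    have h := sum_S X D₀ pd
    rw [Finset.sum_congr rfl (fun g _ => hf' g)] at h
    exact_mod_cast h
  have h2 : ∑ g, f g ^ 2 = (Nat.card G : ℤ) := by
    have h := sum_mul_conj_irr S S
    rw [if_pos rfl] at h
    have e : ∀ g : G, (S : G → ℂ) g * conj ((S : G → ℂ) g) = (((f g) ^ 2 : ℤ) : ℂ) := by
      intro g
      rw [hf' g, map_intCast]
      push_cast
      ring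
    rw [Finset.sum_congr rfl (fun g _ => e g)] at h
    exact_mod_cast h
  obtain ⟨c, hc⟩ := IsCharacter.classInner_nat (IsCharacter.mul hSc hSc) hSc
  have h3 : ∑ g, f g ^ 3 = (c : ℤ) * (Nat.card G : ℤ) := by
    unfold Cfsg.classInner at hc
    have e : ∀ g : G, ((S : G → ℂ) * (S : G → ℂ)) g * conj ((S : G → ℂ) g)
        = (((f g) ^ 3 : ℤ) : ℂ) := by
      intro g
      rw [Pi.mul_apply, hf' g, map_intCast]
      push_cast
      ring
    rw [Finset.sum_congr rfl (fun g _ => e g)] at hc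
    have hc' : ∑ g : G, (((f g) ^ 3 : ℤ) : ℂ) = (c : ℂ) * (Nat.card G : ℂ) := by
      rw [← hc]
      field_simp
    exact_mod_cast hc'
  have hNs := card_sing X D₀ pd
  have hχ₁c : Cfsg.IsCharacter G (χ₁ : G → ℂ) := IsIrrCharacter.isCharacter χ₁.2
  have hχ₁1 : (χ₁ : G → ℂ) 1 = 1 := by
    rw [IsCharacter.apply_one_eq_charDegree hχ₁c, hχ₁d]
    simp
  have hnorm1 : ∀ a : G, ‖(χ₁ : G → ℂ) a‖ = 1 := by
    intro a
    have h := linear_mul_conj hχ₁c hχ₁1 a
    rw [Complex.mul_conj'] at h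
    have h' : ‖(χ₁ : G → ℂ) a‖ ^ 2 = 1 := by exact_mod_cast h
    exact (pow_eq_one_iff_of_nonneg (norm_nonneg _) two_ne_zero).mp h'
  have hZ : ∀ g, g ∈ Finset.univ.filter (fun g : G => g ∈ Subgroup.center G)
      ↔ f g = (p : ℤ) - 1 := by
    intro g
    rw [Finset.mem_filter]
    constructor
    · rintro ⟨-, hg⟩
      have h := S_central X D₀ pd ⟨g, hg⟩
      rw [hS1] at h
      change (S : G → ℂ) g = (p : ℂ) - 1 at h
      rw [hf' g] at h
      have : ((f g : ℤ) : ℂ) = (((p : ℤ) - 1 : ℤ) : ℂ) := by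
        push_cast
        exact h
      exact Int.cast_injective this
    · intro hg
      refine ⟨Finset.mem_univ _, ?_⟩
      have hreg : ¬ p ∣ orderOf g := by
        intro hs
        have := hsing g (Finset.mem_filter.mpr ⟨Finset.mem_univ _, hs⟩)
        omega
      apply Cfsg.Agent.Lib.Helper3.Prim2.mem_center_of_norm_eq ζ.2 hf
      have e1 := hj₁ g
      have e2 := hj₁ 1
      rw [Y_reg X D₀ pd j₁ g hreg, hf' g, hg] at e1
      rw [Y_reg X D₀ pd j₁ 1 not_dvd_orderOf_one', hS1, hχ₁1, map_one, one_mul] at e2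
      have e3 : ‖(ζ : G → ℂ) g‖ = ‖conj ((χ₁ : G → ℂ) g) * (ζ : G → ℂ) g‖ := by
        rw [norm_mul, Complex.norm_conj, hnorm1 g, one_mul]
      rw [e3, ← e1, ← e2]
      congr 1
      push_cast
      ring
  have hN : (0 : ℤ) < (Nat.card G : ℤ) := by exact_mod_cast Nat.card_pos
  have h6 : p ≠ 6 := by
    intro h
    have := hp.out
    rw [h] at this
    exact absurd this (by norm_num)
  have h7 : (7 : ℤ) ≤ (p : ℤ) := by
    have : 7 ≤ p := by omega
    exact_mod_cast this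
  have hfin := moment_count f (Finset.univ.filter (fun g : G => p ∣ orderOf g))
    (Finset.univ.filter (fun g : G => g ∈ Subgroup.center G)) (p : ℤ) (Nat.card G : ℤ) (c : ℤ)
    h7 hN hsing hreg0 hreg1 h1 h2 h3 hNs hZ
  have hZcard : (Finset.univ.filter (fun g : G => g ∈ Subgroup.center G)).card
      = Nat.card (Subgroup.center G) := by
    rw [Nat.card_eq_fintype_card]
    exact (Fintype.card_of_subtype _ (fun x => by simp)).symm
  rw [hZcard] at hfin
  have : ((Nat.card G : ℕ) : ℤ)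
      = ((Nat.card (Subgroup.center G) * (p * (p - 1) * (p - 2)) : ℕ) : ℤ) := by
    rw [hfin]
    push_cast [Nat.cast_sub (by omega : 1 ≤ p), Nat.cast_sub (by omega : 2 ≤ p)]
    ring
  exact_mod_cast this

end prin

end Cfsg.Agent.Lib.Helper6.BG
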