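import Mathlib
import Cfsg.Agent.Lib.Helper6.BG20

/-!
# Brauer's theorem on characters of degree `p - 2`: the hypotheses of the final recognition
-/

set_option autoImplicit false
set_option linter.unusedSectionVars false
set_option linter.unusedVariables false
set_option linter.style.longLine false
set_option maxHeartbeats 1600000

namespace Cfsg.Agent.Lib.Helper6.BG

open Cfsg.Agent.Lib.Helper6 Cfsg.Agent.Lib.Helper6.PB Cfsg.Agent.Lib.Helper6.BR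
  Cfsg.Agent.Lib.Helper6.BH
open scoped ComplexConjugate

variable {G : Type*} [Group G] [Fintype G] [DecidableEq G] {p : ℕ} [hp : Fact p.Prime]
variable {P : Sylow p G}
variable [Fintype ↥(Subgroup.centralizer ((P : Subgroup G) : Set G))]
variable [Fintype ↥(Subgroup.normalizer ((P : Subgroup G) : Set G))]
variable {M : Ideal Cfsg.AlgInt}

local notation "𝐂" => Subgroup.centralizer ((P : Subgroup G) : Set G)
local notation "𝐍" => Subgroup.normalizer ((P : Subgroup G) : Set G)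

theorem main_aux (X : Ctx M P) (D : Blk M P) (j : D.L.J) (hδ : D.K.δ (D.K.Λ j) = 1)
    (hdeg : Cfsg.charDegree (D.K.Λ j : G → ℂ) = p - 2)
    (hf : ∀ g, (D.K.Λ j : G → ℂ) g = (D.K.Λ j : G → ℂ) 1 → g = 1)
    (hm1 : mlt P (D.K.Λ j) D.L.θ = 1) (hout : ∀ ξ, ξ ∉ D.L.b → mlt P (D.K.Λ j) ξ = 0) :
    Nat.card G = Nat.card (Subgroup.center G) * (p * (p - 1) * (p - 2)) ∧
    (∀ lam : G →* ℂˣ, (∀ z ∈ Subgroup.center G, lam z = 1) → ∀ g, lam g = 1) ∧
    commutator G ⊓ Subgroup.center G = ⊥ := by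
  obtain ⟨K₀⟩ := (prin P X.hM).exists_str X.hP X.hM isPBlock_principalBlock
    (prin_defect P X.hM) (prin_induced P X.hM)
  obtain ⟨D₀, hD₀⟩ : ∃ D₀ : Blk M P, D₀.B = Cfsg.principalBlock M G :=
    ⟨⟨Cfsg.principalBlock M G, isPBlock_principalBlock, prin_defect P X.hM, prin P X.hM,
      prin_induced P X.hM, K₀⟩, rfl⟩
  have h1 : oneIrr G ∈ D₀.B := by
    rw [hD₀]
    exact oneIrr_mem_principalBlock X.hM
  obtain ⟨χ₁, hχ₁, hχ₁d⟩ := exists_linear_in_block X D D₀ h1 j hδ hdeg hf hm1 hout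
  obtain ⟨S, pd, j₁, hj₁⟩ := exists_prinData X D D₀ h1 j hdeg hχ₁ hχ₁d
  refine ⟨card_formula X D₀ pd hf hχ₁d j₁ hj₁, fun lam hz => hlin_of X D₀ pd lam hz,
    hdisj_of X D (D.K.mem j) hf hχ₁ hχ₁d⟩

/-- the hypotheses of the final recognition, from a faithful irreducible character of degree
`p - 2` -/
theorem main (hP : Nat.card P = p) (hM : Cfsg.IsPModular p M) (hp5 : 5 < p)
    (hnn : ¬ (P : Subgroup G).Normal)
    (ζ : Cfsg.IrrCharacter G) (hf : ∀ g, (ζ : G → ℂ) g = (ζ : G → ℂ) 1 → g = 1)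
    (hdeg : Cfsg.charDegree (ζ : G → ℂ) = p - 2) :
    (∀ c ∈ 𝐂, ¬ p ∣ orderOf c → c ∈ Subgroup.center G) ∧ (𝐂).relIndex 𝐍 = 2 ∧
    Nat.card G = Nat.card (Subgroup.center G) * (p * (p - 1) * (p - 2)) ∧
    (∀ lam : G →* ℂˣ, (∀ z ∈ Subgroup.center G, lam z = 1) → ∀ g, lam g = 1) ∧
    commutator G ⊓ Subgroup.center G = ⊥ := by
  classical
  have : Fintype (Cfsg.IrrCharacter 𝐂) := Fintype.ofFinite _
  have hcen := regular_central hP hM hp5 hnn ζ hf hdeg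
  have hZreg := center_regular (normal_card_ne hP hnn)
  have hpd : ¬ p ∣ Cfsg.charDegree (ζ : G → ℂ) := by
    rw [hdeg]
    apply Nat.not_dvd_of_pos_of_lt <;> omega
  have hB : Cfsg.IsPBlock M (Cfsg.blockOf M (ζ : G → ℂ)) := ⟨ζ, rfl⟩
  have hBP := isDefectGroup_blockOf P hP hM ζ hpd
  obtain ⟨L, hind⟩ := exists_loc P hP hM hB hBP
  obtain ⟨K⟩ := L.exists_str hP hM hB hBP hind
  have : Fintype L.J := Fintype.ofFinite _
  have hζB : ζ ∈ Cfsg.blockOf M (ζ : G → ℂ) := sameBlock_refl hM _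
  obtain ⟨j, hj, hδ, he, hrel, hθ1, hmlt⟩ :=
    local_main hP hM hp5 hnn ζ hf hdeg hB hBP hind K hζB
  have hsmb := L.sum_mlt_block hP hM ζ
  have hsum := sum_aco_Y K j
  rw [hδ, hj] at hsum
  rw [hsum, mul_one, hmlt, he] at hsmb
  have hdegz : (Cfsg.charDegree (ζ : G → ℂ) : ℤ) = (p : ℤ) - 2 := by
    rw [hdeg]; push_cast [Nat.cast_sub (by omega : 2 ≤ p)]; ring
  have hout := mlt_zero_of_not_mem hP hM hB hBP hind ζ (by
    rw [hsmb, hθ1, hdegz]; push_cast; ring)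
  have X : Ctx M P := ⟨hP, hM, hp5, hcen, hZreg, hrel⟩
  have hf' : ∀ g, (K.Λ j : G → ℂ) g = (K.Λ j : G → ℂ) 1 → g = 1 := by rw [hj]; exact hf
  have hdeg' : Cfsg.charDegree (K.Λ j : G → ℂ) = p - 2 := by rw [hj]; exact hdeg
  have hmlt' : mlt P (K.Λ j) L.θ = 1 := by rw [hj]; exact hmlt
  have hout' : ∀ ξ, ξ ∉ L.b → mlt P (K.Λ j) ξ = 0 := by rw [hj]; exact hout
  obtain ⟨r1, r2, r3⟩ := main_aux X ⟨_, hB, hBP, L, hind, K⟩ j hδ hdeg' hf' hmlt' hout'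
  refine ⟨?_, hrel, r1, r2, r3⟩
  intro c hc hr
  exact hcen ⟨c, hc⟩ (by rw [← Subgroup.orderOf_coe]; exact hr)

end Cfsg.Agent.Lib.Helper6.BG
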