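import Mathlib

/-! # The arithmetic of Brauer's argument with four characters -/

set_option autoImplicit false

namespace Cfsg.Agent.Lib.Helper6

theorem bl_quad_identity (D₂ D₃ D₄ u₂ u₃ u₄ : ℚ)
    (hL : D₂ * u₂ + D₃ * u₃ + D₄ * u₄ = 0)
    (hQ : D₂ * u₂ ^ 2 + D₃ * u₃ ^ 2 + D₄ * u₄ ^ 2 = 0)
    (hS : 1 + D₂ + D₃ + D₄ = 0) :
    (D₂ * (D₂ + D₄) * u₂ + D₂ * D₃ * u₃) ^ 2 = D₂ * D₃ * D₄ * u₃ ^ 2 := by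
  have hstar : D₄ * D₂ * u₂ ^ 2 + D₄ * D₃ * u₃ ^ 2 + (D₂ * u₂ + D₃ * u₃) ^ 2 = 0 := by
    linear_combination D₄ * hQ - (D₄ * u₄ - D₂ * u₂ - D₃ * u₃) * hL
  linear_combination (D₂ * (D₂ + D₄)) * hstar - D₂ * D₃ * D₄ * u₃ ^ 2 * hS

theorem bl_three_algebra (a₂ a₃ ε : ℤ) (ha₂ : a₂ = 1 ∨ a₂ = -1) (ha₃ : a₃ = 1 ∨ a₃ = -1)
    (hε : ε = 1 ∨ ε = -1) (f₂ f₃ f : ℕ) (hf₂ : 0 < f₂) (hf₃ : 0 < f₃) (hf : 0 < f)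
    (x₂ x₃ e : ℤ) (hx₃ : x₃ ≠ f₃)
    (E1 : 1 + a₂ * f₂ + a₃ * f₃ + ε * f = 0) (E2 : 1 + a₂ * x₂ + a₃ * x₃ + ε * e = 0)
    (E3 : (1 : ℚ) + a₂ * x₂ ^ 2 / f₂ + a₃ * x₃ ^ 2 / f₃ + ε * e ^ 2 / f = 0) :
    a₂ * a₃ * ε = 1 ∧ IsSquare (f * (f₂ * f₃)) := by
  have hf₂' : (f₂ : ℚ) ≠ 0 := by exact_mod_cast hf₂.ne'
  have hf₃' : (f₃ : ℚ) ≠ 0 := by exact_mod_cast hf₃.ne'
  have hf' : (f : ℚ) ≠ 0 := by exact_mod_cast hf.ne'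
  have E1' : (1 : ℚ) + a₂ * f₂ + a₃ * f₃ + ε * f = 0 := by exact_mod_cast E1
  have E2' : (1 : ℚ) + a₂ * x₂ + a₃ * x₃ + ε * e = 0 := by exact_mod_cast E2
  have hterm : ∀ (a x f : ℚ), f ≠ 0 → a * f * (x / f - 1) ^ 2 = a * x ^ 2 / f - 2 * a * x + a * f := by
    intro a x f hf
    field_simp
    ring
  have hterm1 : ∀ (a x f : ℚ), f ≠ 0 → a * f * (x / f - 1) = a * x - a * f := by
    intro a x f hf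
    field_simp
  have hL : (a₂ * f₂ : ℚ) * ((x₂ : ℚ) / f₂ - 1) + (a₃ * f₃ : ℚ) * ((x₃ : ℚ) / f₃ - 1)
      + (ε * f : ℚ) * ((e : ℚ) / f - 1) = 0 := by
    rw [hterm1 _ _ _ hf₂', hterm1 _ _ _ hf₃', hterm1 _ _ _ hf']
    linear_combination E2' - E1'
  have hQ : (a₂ * f₂ : ℚ) * ((x₂ : ℚ) / f₂ - 1) ^ 2 + (a₃ * f₃ : ℚ) * ((x₃ : ℚ) / f₃ - 1) ^ 2
      + (ε * f : ℚ) * ((e : ℚ) / f - 1) ^ 2 = 0 := by
    rw [hterm _ _ _ hf₂', hterm _ _ _ hf₃', hterm _ _ _ hf']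
    linear_combination E3 - 2 * E2' + E1'
  have hkey := bl_quad_identity _ _ _ _ _ _ hL hQ E1'
  have hu₃ : ((x₃ : ℚ) / f₃ - 1) ≠ 0 := by
    intro h
    apply hx₃
    have h2 : (x₃ : ℚ) = f₃ := by
      field_simp at h
      linarith
    exact_mod_cast h2
  have hsq : IsSquare ((a₂ * a₃ * ε * ((f₂ * f₃ * f : ℕ) : ℤ) : ℤ) : ℚ) := by
    refine ⟨((a₂ * f₂ : ℚ) * ((a₂ * f₂ : ℚ) + (ε * f : ℚ)) * ((x₂ : ℚ) / f₂ - 1)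
      + (a₂ * f₂ : ℚ) * (a₃ * f₃ : ℚ) * ((x₃ : ℚ) / f₃ - 1)) / ((x₃ : ℚ) / f₃ - 1), ?_⟩
    rw [div_mul_div_comm, ← sq, ← sq, hkey, mul_div_assoc, div_self (pow_ne_zero 2 hu₃), mul_one]
    push_cast
    ring
  rw [Rat.isSquare_intCast_iff] at hsq
  have hpos : (0 : ℤ) < ((f₂ * f₃ * f : ℕ) : ℤ) := by
    have : 0 < f₂ * f₃ * f := Nat.mul_pos (Nat.mul_pos hf₂ hf₃) hf
    exact_mod_cast this
  have hs : a₂ * a₃ * ε = 1 ∨ a₂ * a₃ * ε = -1 := by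
    rcases ha₂ with h | h <;> rcases ha₃ with h' | h' <;> rcases hε with h'' | h'' <;>
      rw [h, h', h''] <;> norm_num
  have hs1 : a₂ * a₃ * ε = 1 := by
    rcases hs with h | h
    · exact h
    · exfalso
      rw [h] at hsq
      obtain ⟨r, hr⟩ := hsq
      nlinarith [mul_self_nonneg r]
  refine ⟨hs1, ?_⟩
  rw [hs1, one_mul, Int.isSquare_natCast_iff] at hsq
  have : f * (f₂ * f₃) = f₂ * f₃ * f := by ring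
  rw [this]
  exact hsq

end Cfsg.Agent.Lib.Helper6
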