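import Mathlib
import Cfsg.Prelude.Def_Blocks
import Cfsg.Agent.Lib.Helper6.BLInv
import Cfsg.Agent.Lib.Helper6.BLAlg

/-! # Involutions in the case `|N : C| = 3`: odd `p` -/

set_option autoImplicit false
set_option linter.unusedSectionVars false
open Cfsg

namespace Cfsg.Agent.Lib.Helper6

open scoped ComplexConjugate

section invodd

variable {G : Type*} [Group G] [Fintype G] [DecidableEq G]
variable {p : ℕ} {M : Ideal Cfsg.AlgInt}
variable {P : Sylow p G} [Fintype ↥(P : Subgroup G)] [Fintype (↥(P : Subgroup G) →* ℂˣ)]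
    [Fintype (Cfsg.IrrCharacter G)] [DecidableEq (Cfsg.IrrCharacter G)] {m : ℕ}

/-- the values of the nonexceptional characters on `P \ 1` -/
theorem BLData.val_X (D : BLData M P m) (hab : IsMulCommutative P)
    (χ : Cfsg.IrrCharacter G) (hχ : χ ∈ D.X) (y : ↥(P : Subgroup G)) (hy : y ≠ 1) :
    (χ : G → ℂ) (y : G) = (D.w χ : ℂ) := by
  classical
  obtain ⟨h1, h2⟩ := (D.mem_X χ).mp hχ
  rw [D.val hab χ h1 y hy, Finset.sum_eq_zero]
  · simp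
  · intro μ _
    rw [if_neg]
    rintro ⟨h6, h7⟩
    exact h2 μ h6 h7

open Classical in
theorem prinFinset_eq_filter_blockOf :
    prinFinset M G = Finset.univ.filter
      (· ∈ Cfsg.blockOf M ((oneIrr G : Cfsg.IrrCharacter G) : G → ℂ)) := by
  classical
  ext χ
  rw [mem_prinFinset, Finset.mem_filter]
  simp only [Finset.mem_univ, true_and]
  rfl

set_option maxHeartbeats 1000000 in
/-- the consequences of an involution lying in no proper normal subgroup, for odd `p` -/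
theorem BLData.involution_odd [Fact p.Prime] (D : BLData M P 3) (hd : D.d = 0)
    (hM : Cfsg.IsPModular p M) (hab : IsMulCommutative P)
    (hfrob : ∀ y : G, y ∈ (P : Subgroup G) → y ≠ 1 →
      Subgroup.centralizer ({y} : Set G) ⊓ Subgroup.normalizer ((P : Subgroup G) : Set G)
        = Subgroup.centralizer ((P : Subgroup G) : Set G))
    (hCN : (Subgroup.centralizer ((P : Subgroup G) : Set G)).relIndex
      (Subgroup.normalizer ((P : Subgroup G) : Set G)) = 3)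
    (hP1 : Nat.card P ≠ 1) (hp2 : p ≠ 2) (t : G) (ht : orderOf t = 2)
    (htn : ∀ K : Subgroup G, K.Normal → t ∈ K → K = ⊤) :
    ∃ χ₂ χ₃ : Cfsg.IrrCharacter G, χ₂ ≠ χ₃ ∧ D.X.erase (oneIrr G) = {χ₂, χ₃} ∧
      D.w χ₂ * D.w χ₃ * (-D.δ) = 1 ∧
      ∀ η ∈ D.Y, IsSquare (Cfsg.charDegree (η : G → ℂ)
        * (Cfsg.charDegree (χ₂ : G → ℂ) * Cfsg.charDegree (χ₃ : G → ℂ))) := by
  classical
  have hp : p.Prime := Fact.out
  obtain ⟨hX3, hXsign⟩ := D.three_X hd hM hab hfrob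
  have h1X := D.one_mem_X hM
  have hw1 := (D.one hM).1
  have hX'card : (D.X.erase (oneIrr G)).card = 2 := by
    rw [Finset.card_erase_of_mem h1X, hX3]
  obtain ⟨χ₂, χ₃, hne, hX'⟩ := Finset.card_eq_two.mp hX'card
  have hχ₂X' : χ₂ ∈ D.X.erase (oneIrr G) := by rw [hX']; simp
  have hχ₃X' : χ₃ ∈ D.X.erase (oneIrr G) := by rw [hX']; simp
  have hχ₂X := Finset.mem_of_mem_erase hχ₂X'
  have hχ₃X := Finset.mem_of_mem_erase hχ₃X'
  have hχ₂1 : χ₂ ≠ oneIrr G := Finset.ne_of_mem_erase hχ₂X'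
  have hχ₃1 : χ₃ ≠ oneIrr G := Finset.ne_of_mem_erase hχ₃X'
  refine ⟨χ₂, χ₃, hne, hX', ?_⟩
  have hsumX : ∀ g : Cfsg.IrrCharacter G → ℂ,
      ∑ χ ∈ D.X, g χ = g (oneIrr G) + g χ₂ + g χ₃ := by
    intro g
    rw [← Finset.add_sum_erase D.X g h1X, hX', Finset.sum_pair hne]
    ring
  obtain ⟨ψ₀, _, hψ₀, _, _⟩ := D.hclasses
  obtain ⟨η₀, hη₀def⟩ : ∃ η₀, η₀ = D.Θ ψ₀ := ⟨_, rfl⟩
  have hη₀ : η₀ ∈ D.Y := (D.mem_Y _).mpr ⟨ψ₀, hψ₀, hη₀def.symm⟩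
  have hη₀1 : η₀ ≠ oneIrr G := by
    rw [hη₀def]
    exact (D.one hM).2 ψ₀ hψ₀
  obtain ⟨x₂, hx₂⟩ := IsCharacter.exists_int_apply_of_orderOf_two
    (IsIrrCharacter.isCharacter χ₂.2) t ht
  obtain ⟨x₃, hx₃⟩ := IsCharacter.exists_int_apply_of_orderOf_two
    (IsIrrCharacter.isCharacter χ₃.2) t ht
  obtain ⟨e, he⟩ := IsCharacter.exists_int_apply_of_orderOf_two
    (IsIrrCharacter.isCharacter η₀.2) t ht
  have hf₂ := IsCharacter.apply_one_eq_charDegree (IsIrrCharacter.isCharacter χ₂.2)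
  have hf₃ := IsCharacter.apply_one_eq_charDegree (IsIrrCharacter.isCharacter χ₃.2)
  have hf := IsCharacter.apply_one_eq_charDegree (IsIrrCharacter.isCharacter η₀.2)
  have hf₂pos := IsIrrCharacter.charDegree_pos χ₂.2
  have hf₃pos := IsIrrCharacter.charDegree_pos χ₃.2
  have hfpos := IsIrrCharacter.charDegree_pos η₀.2
  have h1reg : ¬ p ∣ orderOf (1 : G) := by rw [orderOf_one]; exact hp.not_dvd_one
  have htreg : ¬ p ∣ orderOf t := by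
    rw [ht]
    intro h
    exact hp2 ((Nat.prime_dvd_prime_iff_eq hp Nat.prime_two).mp h)
  have hone : ∀ g : G, ((oneIrr G : Cfsg.IrrCharacter G) : G → ℂ) g = 1 := fun _ => rfl
  -- the first relation
  have E1 : 1 + D.w χ₂ * (Cfsg.charDegree (χ₂ : G → ℂ) : ℤ)
      + D.w χ₃ * (Cfsg.charDegree (χ₃ : G → ℂ) : ℤ)
      + (-D.δ) * (Cfsg.charDegree (η₀ : G → ℂ) : ℤ) = 0 := by
    have h := D.pRegular_rel η₀ hη₀ 1 h1reg
    rw [hd, hsumX, hw1, hone, hf₂, hf₃, hf] at h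
    have : ((1 + D.w χ₂ * (Cfsg.charDegree (χ₂ : G → ℂ) : ℤ)
      + D.w χ₃ * (Cfsg.charDegree (χ₃ : G → ℂ) : ℤ)
      + (-D.δ) * (Cfsg.charDegree (η₀ : G → ℂ) : ℤ) : ℤ) : ℂ) = 0 := by
      push_cast
      push_cast at h
      linear_combination h
    exact_mod_cast this
  -- the second relation
  have E2 : 1 + D.w χ₂ * x₂ + D.w χ₃ * x₃ + (-D.δ) * e = 0 := by
    have h := D.pRegular_rel η₀ hη₀ t htreg
    rw [hd, hsumX, hw1, hone, hx₂, hx₃, he] at h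
    have : ((1 + D.w χ₂ * x₂ + D.w χ₃ * x₃ + (-D.δ) * e : ℤ) : ℂ) = 0 := by
      push_cast
      push_cast at h
      linear_combination h
    exact_mod_cast this
  -- the third relation
  obtain ⟨y, hy1⟩ : ∃ y : ↥(P : Subgroup G), y ≠ 1 := by
    by_contra hall
    push Not at hall
    apply hP1
    rw [Nat.card_eq_one_iff_unique]
    exact ⟨⟨fun a b => by rw [hall a, hall b]⟩, ⟨1⟩⟩
  have hyG : (y : G) ≠ 1 := by
    intro h
    apply hy1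
    exact Subtype.ext h
  have hx : ∃ k : ℕ, orderOf (y : G) = p ^ k := by
    obtain ⟨k, hk⟩ := (IsPGroup.iff_orderOf.mp P.2) y
    exact ⟨k, by rw [← hk, Subgroup.orderOf_coe]⟩
  have hz : Cfsg.IsPPart p (y : G) (y : G) :=
    ⟨1, mul_one _, Commute.one_right _, hx, h1reg⟩
  have hno : ∀ c : G, Cfsg.IsPPart p c (y : G) → ∀ g h : G,
      g * t * g⁻¹ * (h * t * h⁻¹) ≠ c :=
    fun c hc g h => no_product_of_involutions_odd P hab hfrob hCN hp2 t ht (y : G) y.2 hyG c hc g h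
  have E3c := block_sum_classMult_eq_zero hM t t (y : G) hz hno (oneIrr G)
  rw [← prinFinset_eq_filter_blockOf, ← Finset.sum_sdiff D.Y_subset] at E3c
  have hXpart : ∑ χ ∈ prinFinset M G \ D.Y,
      ((χ : G → ℂ) t * (χ : G → ℂ) t / (χ : G → ℂ) 1) * conj ((χ : G → ℂ) (y : G))
      = 1 + (x₂ : ℂ) * x₂ / (Cfsg.charDegree (χ₂ : G → ℂ) : ℂ) * (D.w χ₂ : ℂ)
        + (x₃ : ℂ) * x₃ / (Cfsg.charDegree (χ₃ : G → ℂ) : ℂ) * (D.w χ₃ : ℂ) := by
    change ∑ χ ∈ D.X, _ = _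
    rw [hsumX, hone, hone, hone, hx₂, hx₃, hf₂, hf₃, D.val_X hab χ₂ hχ₂X y hy1,
      D.val_X hab χ₃ hχ₃X y hy1]
    simp
  have hYpart : ∑ η ∈ D.Y,
      ((η : G → ℂ) t * (η : G → ℂ) t / (η : G → ℂ) 1) * conj ((η : G → ℂ) (y : G))
      = (e : ℂ) * e / (Cfsg.charDegree (η₀ : G → ℂ) : ℂ) * (-(D.δ : ℂ)) := by
    have h1 : ∀ η ∈ D.Y,
        ((η : G → ℂ) t * (η : G → ℂ) t / (η : G → ℂ) 1) * conj ((η : G → ℂ) (y : G))
        = (e : ℂ) * e / (Cfsg.charDegree (η₀ : G → ℂ) : ℂ) * conj ((η : G → ℂ) (y : G)) := by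
      intro η hη
      rw [D.pRegular_eq η η₀ hη hη₀ t htreg, D.pRegular_eq η η₀ hη hη₀ 1 h1reg, he, hf]
    rw [Finset.sum_congr rfl h1, ← Finset.mul_sum, ← map_sum, D.sum_Y_apply hd hab y hy1]
    simp
  rw [hXpart, hYpart] at E3c
  have E3 : (1 : ℚ) + (D.w χ₂ : ℚ) * (x₂ : ℚ) ^ 2 / (Cfsg.charDegree (χ₂ : G → ℂ) : ℚ)
      + (D.w χ₃ : ℚ) * (x₃ : ℚ) ^ 2 / (Cfsg.charDegree (χ₃ : G → ℂ) : ℚ)
      + ((-D.δ : ℤ) : ℚ) * (e : ℚ) ^ 2 / (Cfsg.charDegree (η₀ : G → ℂ) : ℚ) = 0 := by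
    have : (((1 : ℚ) + (D.w χ₂ : ℚ) * (x₂ : ℚ) ^ 2 / (Cfsg.charDegree (χ₂ : G → ℂ) : ℚ)
      + (D.w χ₃ : ℚ) * (x₃ : ℚ) ^ 2 / (Cfsg.charDegree (χ₃ : G → ℂ) : ℚ)
      + ((-D.δ : ℤ) : ℚ) * (e : ℚ) ^ 2 / (Cfsg.charDegree (η₀ : G → ℂ) : ℚ) : ℚ) : ℂ) = 0 := by
      push_cast
      linear_combination E3c
    exact_mod_cast this
  -- nonvanishing
  have hx₃ne : x₃ ≠ (Cfsg.charDegree (χ₃ : G → ℂ) : ℤ) := by
    intro h
    have h1 := apply_ne_apply_one_of_normal_closure χ₃ hχ₃1 t htn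
    apply h1
    rw [hx₃, hf₃, h]
    push_cast
    rfl
  have hε : -D.δ = 1 ∨ -D.δ = -1 := by
    rcases D.hδ with h | h
    · right; rw [h]
    · left; rw [h]; norm_num
  obtain ⟨hA, hB⟩ := bl_three_algebra (D.w χ₂) (D.w χ₃) (-D.δ) (hXsign χ₂ hχ₂X)
    (hXsign χ₃ hχ₃X) hε _ _ _ hf₂pos hf₃pos hfpos x₂ x₃ e hx₃ne E1 E2 E3
  refine ⟨hA, ?_⟩
  intro η hη
  have h1 : Cfsg.charDegree (η : G → ℂ) = Cfsg.charDegree (η₀ : G → ℂ) := by
    have h2 := D.pRegular_eq η η₀ hη hη₀ 1 h1reg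
    rw [IsCharacter.apply_one_eq_charDegree (IsIrrCharacter.isCharacter η.2), hf] at h2
    exact_mod_cast h2
  rw [h1]
  exact hB

end invodd

end Cfsg.Agent.Lib.Helper6
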