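import Mathlib
import Cfsg.Prelude.Def_Blocks
import Cfsg.Agent.Lib.Helper6.BLInv

/-! # Products of two conjugate involutions when `p = 2` and `|N : C| = 3` -/

set_option autoImplicit false
set_option linter.unusedSectionVars false
open Cfsg

namespace Cfsg.Agent.Lib.Helper6

section twogrp

variable {G : Type*} [Group G] [Fintype G] [DecidableEq G] {p : ℕ} [Fact p.Prime]

/-- the Sylow subgroup `P` inside the centralizer of one of its nonidentity elements -/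
theorem exists_sylow_centralizer (P : Sylow p G) (hab : IsMulCommutative P)
    (hfrob : ∀ y : G, y ∈ (P : Subgroup G) → y ≠ 1 →
      Subgroup.centralizer ({y} : Set G) ⊓ Subgroup.normalizer ((P : Subgroup G) : Set G)
        = Subgroup.centralizer ((P : Subgroup G) : Set G))
    (y : G) (hy : y ∈ (P : Subgroup G)) (hy1 : y ≠ 1) :
    ∃ Q : Sylow p (Subgroup.centralizer ({y} : Set G)),
      (∀ h : Subgroup.centralizer ({y} : Set G), h ∈ (Q : Subgroup (Subgroup.centralizer ({y} : Set G))) ↔ (h : G) ∈ (P : Subgroup G)) ∧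
      Subgroup.normalizer ((Q : Subgroup (Subgroup.centralizer ({y} : Set G))) :
          Set ↥(Subgroup.centralizer ({y} : Set G)))
        ≤ Subgroup.centralizer ((Q : Subgroup (Subgroup.centralizer ({y} : Set G))) :
          Set ↥(Subgroup.centralizer ({y} : Set G))) := by
  classical
  obtain ⟨H, hH⟩ : ∃ H : Subgroup G, H = Subgroup.centralizer ({y} : Set G) := ⟨_, rfl⟩
  rw [← hH]
  have hmemH : ∀ g : G, g ∈ H ↔ y * g = g * y := by
    intro g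
    rw [hH, Subgroup.mem_centralizer_iff]
    simp
  have hPH : (P : Subgroup G) ≤ H := by
    intro w hw
    rw [hmemH]
    exact mul_comm_of_mem_sylow P hab y w hy hw
  obtain ⟨Q, hQ⟩ : ∃ Q : Sylow p H, (Q : Subgroup H) = (P : Subgroup G).subgroupOf H :=
    ⟨P.subtype hPH, Sylow.coe_subtype _ hPH⟩
  have hmemQ : ∀ h : H, h ∈ (Q : Subgroup H) ↔ (h : G) ∈ (P : Subgroup G) := by
    intro h
    rw [hQ, Subgroup.mem_subgroupOf]
  refine ⟨Q, hmemQ, ?_⟩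
  intro h hh
  rw [Subgroup.mem_normalizer_iff] at hh
  have hN : (h : G) ∈ Subgroup.normalizer ((P : Subgroup G) : Set G) := by
    rw [Subgroup.mem_normalizer_iff]
    intro g
    constructor
    · intro hg
      have := (hh ⟨g, hPH hg⟩).mp ((hmemQ _).mpr hg)
      exact (hmemQ _).mp this
    · intro hg
      have hgH : g ∈ H := by
        have h1 : (h : G)⁻¹ * ((h : G) * g * (h : G)⁻¹) * (h : G) ∈ H :=
          H.mul_mem (H.mul_mem (H.inv_mem h.2) (hPH hg)) h.2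
        have h2 : (h : G)⁻¹ * ((h : G) * g * (h : G)⁻¹) * (h : G) = g := by group
        rwa [h2] at h1
      have := (hh ⟨g, hgH⟩).mpr ((hmemQ _).mpr hg)
      exact (hmemQ _).mp this
  have hC : (h : G) ∈ Subgroup.centralizer ((P : Subgroup G) : Set G) := by
    rw [← hfrob y hy hy1, Subgroup.mem_inf]
    refine ⟨?_, hN⟩
    rw [← hH]; exact h.2
  rw [Subgroup.mem_centralizer_iff]
  intro q hq
  apply Subtype.ext
  rw [Subgroup.coe_mul, Subgroup.coe_mul]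
  rw [Subgroup.mem_centralizer_iff] at hC
  exact hC (q : G) ((hmemQ q).mp hq)

/-- the product of two conjugates in `P` of an involution of `P` is trivial or again a
conjugate -/
theorem conj_mul_conj_of_involution (P : Sylow p G) (hab : IsMulCommutative P)
    (hfrob : ∀ y : G, y ∈ (P : Subgroup G) → y ≠ 1 →
      Subgroup.centralizer ({y} : Set G) ⊓ Subgroup.normalizer ((P : Subgroup G) : Set G)
        = Subgroup.centralizer ((P : Subgroup G) : Set G))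
    (hCN : (Subgroup.centralizer ((P : Subgroup G) : Set G)).relIndex
      (Subgroup.normalizer ((P : Subgroup G) : Set G)) = 3)
    (y₀ : G) (hy₀ : y₀ ∈ (P : Subgroup G)) (hy₀1 : y₀ ≠ 1) (hy₀2 : y₀ * y₀ = 1)
    (y₁ y₂ : G) (h1 : y₁ ∈ (P : Subgroup G)) (h2 : y₂ ∈ (P : Subgroup G))
    (hc1 : IsConj y₀ y₁) (hc2 : IsConj y₀ y₂) : y₁ * y₂ = 1 ∨ IsConj y₀ (y₁ * y₂) := by
  obtain ⟨a, ha, hay⟩ := bl_exists_normalizer_conj P hab y₀ y₁ hy₀ h1 hc1
  obtain ⟨b, hb, hby⟩ := bl_exists_normalizer_conj P hab y₀ y₂ hy₀ h2 hc2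
  obtain ⟨c, hcdef⟩ : ∃ c : G, c = a⁻¹ * b := ⟨_, rfl⟩
  have hcN : c ∈ Subgroup.normalizer ((P : Subgroup G) : Set G) := by
    rw [hcdef]
    exact Subgroup.mul_mem _ (Subgroup.inv_mem _ ha) hb
  have hconjP : ∀ n : G, n ∈ Subgroup.normalizer ((P : Subgroup G) : Set G) →
      ∀ w : G, w ∈ (P : Subgroup G) → n * w * n⁻¹ ∈ (P : Subgroup G) :=
    fun n hn w hw => (Subgroup.mem_normalizer_iff.mp hn w).mp hw
  have hprod : y₁ * y₂ = a * (y₀ * (c * y₀ * c⁻¹)) * a⁻¹ := by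
    rw [← hay, ← hby, hcdef]
    group
  by_cases hcC : c ∈ Subgroup.centralizer ((P : Subgroup G) : Set G)
  · left
    have := (mem_centralizer_of_conj_eq P hab hfrob y₀ hy₀ hy₀1 c hcN).mpr hcC
    rw [hprod, this, hy₀2]
    group
  · right
    have hy₀inv : y₀⁻¹ = y₀ := inv_eq_of_mul_eq_one_left hy₀2
    obtain ⟨z₁, hz₁⟩ : ∃ z₁ : G, z₁ = c * y₀ * c⁻¹ := ⟨_, rfl⟩
    obtain ⟨z₂, hz₂⟩ : ∃ z₂ : G, z₂ = c * z₁ * c⁻¹ := ⟨_, rfl⟩
    have hz₁P : z₁ ∈ (P : Subgroup G) := by rw [hz₁]; exact hconjP c hcN y₀ hy₀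
    have hz₂P : z₂ ∈ (P : Subgroup G) := by rw [hz₂]; exact hconjP c hcN z₁ hz₁P
    have hc3 := pow_three_mem_centralizer P hCN c hcN
    have hz₃ : c * z₂ * c⁻¹ = y₀ := by
      have h3 := (mem_centralizer_of_conj_eq P hab hfrob y₀ hy₀ hy₀1 (c ^ 3)
        (Subgroup.pow_mem _ hcN 3)).mpr hc3
      rw [hz₂, hz₁]
      calc c * (c * (c * y₀ * c⁻¹) * c⁻¹) * c⁻¹ = c ^ 3 * y₀ * (c ^ 3)⁻¹ := by
            rw [pow_succ, pow_succ, pow_one]; group
        _ = y₀ := h3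
    obtain ⟨pr, hpr⟩ : ∃ pr : G, pr = y₀ * z₁ * z₂ := ⟨_, rfl⟩
    have hprP : pr ∈ (P : Subgroup G) := by
      rw [hpr]
      exact Subgroup.mul_mem _ (Subgroup.mul_mem _ hy₀ hz₁P) hz₂P
    have hprfix : c * pr * c⁻¹ = pr := by
      have e1 : c * pr * c⁻¹ = (c * y₀ * c⁻¹) * (c * z₁ * c⁻¹) * (c * z₂ * c⁻¹) := by
        rw [hpr]; group
      rw [e1, ← hz₁, ← hz₂, hz₃, hpr]
      rw [mul_comm_of_mem_sylow P hab (z₁ * z₂) y₀ (Subgroup.mul_mem _ hz₁P hz₂P) hy₀, mul_assoc]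
    have hpr1 : pr = 1 := by
      by_contra hne
      exact hcC ((mem_centralizer_of_conj_eq P hab hfrob pr hprP hne c hcN).mp hprfix)
    have h4 : y₀ * z₁ = z₂⁻¹ := by
      rw [hpr] at hpr1
      exact eq_inv_of_mul_eq_one_left hpr1
    have h5 : z₂⁻¹ = (c * c) * y₀ * (c * c)⁻¹ := by
      rw [hz₂, hz₁]
      simp only [mul_inv_rev, inv_inv, mul_assoc, hy₀inv]
    rw [hprod, ← hz₁, h4, h5]
    exact isConj_iff.mpr ⟨a * (c * c), by group⟩

/-- for `p = 2`, no element whose `2`-part is an element of `P` not conjugate to the involution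
`y₀` is a product of two conjugates of `y₀` -/
theorem no_product_of_involutions_two (P : Sylow p G) (hab : IsMulCommutative P)
    (hfrob : ∀ y : G, y ∈ (P : Subgroup G) → y ≠ 1 →
      Subgroup.centralizer ({y} : Set G) ⊓ Subgroup.normalizer ((P : Subgroup G) : Set G)
        = Subgroup.centralizer ((P : Subgroup G) : Set G))
    (hCN : (Subgroup.centralizer ((P : Subgroup G) : Set G)).relIndex
      (Subgroup.normalizer ((P : Subgroup G) : Set G)) = 3)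
    (hp2 : p = 2)
    (y₀ : G) (hy₀ : y₀ ∈ (P : Subgroup G)) (hy₀1 : y₀ ≠ 1) (hy₀2 : y₀ * y₀ = 1)
    (y : G) (hy : y ∈ (P : Subgroup G)) (hy1 : y ≠ 1) (hnc : ¬ IsConj y₀ y)
    (c : G) (hcy : Cfsg.IsPPart p c y) (g h : G) : g * y₀ * g⁻¹ * (h * y₀ * h⁻¹) ≠ c := by
  classical
  subst hp2
  intro hc
  obtain ⟨t₁, ht₁⟩ : ∃ t₁ : G, t₁ = g * y₀ * g⁻¹ := ⟨_, rfl⟩
  obtain ⟨t₂, ht₂⟩ : ∃ t₂ : G, t₂ = h * y₀ * h⁻¹ := ⟨_, rfl⟩
  rw [← ht₁, ← ht₂] at hc
  have ht1 : t₁ * t₁ = 1 := by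
    rw [ht₁]
    calc (g * y₀ * g⁻¹) * (g * y₀ * g⁻¹) = g * (y₀ * y₀) * g⁻¹ := by group
      _ = 1 := by rw [hy₀2]; group
  have ht2 : t₂ * t₂ = 1 := by
    rw [ht₂]
    calc (h * y₀ * h⁻¹) * (h * y₀ * h⁻¹) = h * (y₀ * y₀) * h⁻¹ := by group
      _ = 1 := by rw [hy₀2]; group
  have ht1ne : t₁ ≠ 1 := by
    rw [ht₁]
    intro h'
    apply hy₀1
    have : y₀ = g⁻¹ * (g * y₀ * g⁻¹) * g := by group
    rw [this, h']; group
  have ht2ne : t₂ ≠ 1 := by
    rw [ht₂]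
    intro h'
    apply hy₀1
    have : y₀ = h⁻¹ * (h * y₀ * h⁻¹) * h := by group
    rw [this, h']; group
  have hc1 : IsConj y₀ t₁ := by rw [ht₁]; exact isConj_iff.mpr ⟨g, rfl⟩
  have hc2 : IsConj y₀ t₂ := by rw [ht₂]; exact isConj_iff.mpr ⟨h, rfl⟩
  obtain ⟨h3, h4⟩ := conj_pPart_of_product_involutions (p := 2) t₁ t₂ c y ht1 ht2 hc hcy
  have hyinv : y⁻¹ = y :=
    eq_inv_of_isConj_inv P hab hfrob hCN y hy hy1 (isConj_iff.mpr ⟨t₁, h3⟩)
  rw [hyinv] at h3 h4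
  obtain ⟨Q, hmemQ, hNC⟩ := exists_sylow_centralizer P hab hfrob y hy hy1
  have hmemH : ∀ x : G, x ∈ Subgroup.centralizer ({y} : Set G) ↔ y * x = x * y := by
    intro x
    rw [Subgroup.mem_centralizer_iff]
    simp
  have hPH : ∀ w : G, w ∈ (P : Subgroup G) → w ∈ Subgroup.centralizer ({y} : Set G) :=
    fun w hw => (hmemH w).mpr (mul_comm_of_mem_sylow P hab y w hy hw)
  have ht1H : t₁ ∈ Subgroup.centralizer ({y} : Set G) := by
    rw [hmemH]
    calc y * t₁ = (t₁ * y * t₁⁻¹) * t₁ := by rw [h3]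
      _ = t₁ * y := by group
  have ht2H : t₂ ∈ Subgroup.centralizer ({y} : Set G) := by
    rw [hmemH]
    calc y * t₂ = (t₂ * y * t₂⁻¹) * t₂ := by rw [h4]
      _ = t₂ * y := by group
  obtain ⟨τ, hτ⟩ : ∃ τ : ↥(Subgroup.centralizer ({y} : Set G)) →*
      ↥(Q : Subgroup (Subgroup.centralizer ({y} : Set G))),
      τ = MonoidHom.transferSylow Q hNC := ⟨_, rfl⟩
  have hcommQ : ∀ q₁ q₂ : ↥(Q : Subgroup (Subgroup.centralizer ({y} : Set G))),
      q₁ * q₂ = q₂ * q₁ := by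
    intro q₁ q₂
    apply Subtype.ext
    apply Subtype.ext
    simp only [Subgroup.coe_mul]
    exact mul_comm_of_mem_sylow P hab _ _ ((hmemQ _).mp q₁.2) ((hmemQ _).mp q₂.2)
  have hτconj : ∀ a b : ↥(Subgroup.centralizer ({y} : Set G)), τ (a * b * a⁻¹) = τ b := by
    intro a b
    rw [map_mul, map_mul, map_inv, hcommQ (τ a) (τ b), mul_inv_cancel_right]
  have hτreg : ∀ v : ↥(Subgroup.centralizer ({y} : Set G)), ¬ 2 ∣ orderOf v → τ v = 1 := by
    intro v hv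
    obtain ⟨k, hk⟩ := (IsPGroup.iff_orderOf.mp Q.2) (τ v)
    have hdvd : orderOf (τ v) ∣ orderOf v := orderOf_map_dvd τ v
    rw [hk] at hdvd
    have hk0 : k = 0 := by
      by_contra hk0
      exact hv (dvd_trans (dvd_pow_self 2 hk0) hdvd)
    rw [hk0, pow_zero] at hk
    exact orderOf_eq_one_iff.mp hk
  have hτinj : ∀ q : ↥(Subgroup.centralizer ({y} : Set G)),
      q ∈ (Q : Subgroup (Subgroup.centralizer ({y} : Set G))) → τ q = 1 → q = 1 := by
    intro q hq hτq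
    have hdisj := MonoidHom.ker_transferSylow_disjoint Q hNC
      (Q : Subgroup (Subgroup.centralizer ({y} : Set G))) Q.2
    rw [Subgroup.disjoint_def] at hdisj
    apply hdisj _ hq
    rw [MonoidHom.mem_ker, ← hτ]
    exact hτq
  have key : ∀ s : ↥(Subgroup.centralizer ({y} : Set G)), (s : G) * (s : G) = 1 → (s : G) ≠ 1 →
      IsConj y₀ (s : G) → ∃ y₁ : G, ∃ hy₁ : y₁ ∈ (P : Subgroup G), IsConj y₀ y₁ ∧
        τ s = τ ⟨y₁, hPH y₁ hy₁⟩ := by
    intro s hs2 hs1 hsc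
    haveI : Fintype ↥(Subgroup.centralizer ({y} : Set G)) := Fintype.ofFinite _
    have hord : ∃ k : ℕ, orderOf s = 2 ^ k := by
      refine ⟨1, ?_⟩
      rw [pow_one]
      apply orderOf_eq_prime
      · apply Subtype.ext
        rw [sq, Subgroup.coe_mul]
        exact hs2
      · intro h'
        apply hs1
        rw [h']
        rfl
    obtain ⟨h', hh'⟩ := exists_conj_mem_sylow_of_pElement Q s hord
    have hcoe : ((h' * s * h'⁻¹ : ↥(Subgroup.centralizer ({y} : Set G))) : G)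
        = (h' : G) * (s : G) * (h' : G)⁻¹ := by simp
    refine ⟨((h' * s * h'⁻¹ : ↥(Subgroup.centralizer ({y} : Set G))) : G), (hmemQ _).mp hh',
      ?_, ?_⟩
    · rw [hcoe]
      exact hsc.trans (isConj_iff.mpr ⟨(h' : G), rfl⟩)
    · have : (⟨((h' * s * h'⁻¹ : ↥(Subgroup.centralizer ({y} : Set G))) : G),
          hPH _ ((hmemQ _).mp hh')⟩ : ↥(Subgroup.centralizer ({y} : Set G))) = h' * s * h'⁻¹ :=
        Subtype.ext rfl
      rw [this, hτconj]
  obtain ⟨y₁, hy₁P, hy₁c, hτ1⟩ := key ⟨t₁, ht1H⟩ ht1 ht1ne hc1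
  obtain ⟨y₂, hy₂P, hy₂c, hτ2⟩ := key ⟨t₂, ht2H⟩ ht2 ht2ne hc2
  obtain ⟨v, hv, hcomm, _, hvreg⟩ := hcy
  have hvH : v ∈ Subgroup.centralizer ({y} : Set G) := (hmemH v).mpr hcomm.eq
  have hτv : τ ⟨v, hvH⟩ = 1 := hτreg _ (by rw [Subgroup.orderOf_mk]; exact hvreg)
  have e1 : (⟨t₁, ht1H⟩ : ↥(Subgroup.centralizer ({y} : Set G))) * ⟨t₂, ht2H⟩
      = ⟨y, hPH y hy⟩ * ⟨v, hvH⟩ := by
    apply Subtype.ext
    simp only [Subgroup.coe_mul]
    rw [hc, hv]
  have e2 := congrArg τ e1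
  rw [map_mul, map_mul, hτ1, hτ2, hτv, mul_one] at e2
  have e3 : τ ((⟨y₁, hPH y₁ hy₁P⟩ : ↥(Subgroup.centralizer ({y} : Set G)))
      * ⟨y₂, hPH y₂ hy₂P⟩ * (⟨y, hPH y hy⟩)⁻¹) = 1 := by
    rw [map_mul, map_mul, map_inv, e2, mul_inv_cancel]
  have e4 := hτinj _ ((hmemQ _).mpr (by
    simp only [Subgroup.coe_mul, Subgroup.coe_inv]
    exact Subgroup.mul_mem _ (Subgroup.mul_mem _ hy₁P hy₂P) (Subgroup.inv_mem _ hy))) e3
  have e5 : y₁ * y₂ = y := by
    have := congrArg Subtype.val e4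
    simp only [Subgroup.coe_mul, Subgroup.coe_inv, Subgroup.coe_one] at this
    exact mul_inv_eq_one.mp this
  rcases conj_mul_conj_of_involution P hab hfrob hCN y₀ hy₀ hy₀1 hy₀2 y₁ y₂ hy₁P hy₂P hy₁c hy₂c
    with h5 | h5
  · exact hy1 (by rw [← e5, h5])
  · exact hnc (by rw [← e5]; exact h5)

end twogrp

end Cfsg.Agent.Lib.Helper6
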