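import Mathlib
import Cfsg.Prelude.Def_Blocks
import Cfsg.Agent.Lib.Helper6.BLTwo

/-! # The signs in the case `|N : C| = 3` -/

set_option autoImplicit false
set_option linter.unusedSectionVars false
open Cfsg

namespace Cfsg.Agent.Lib.Helper6

open scoped ComplexConjugate

section signs

variable {G : Type*} [Group G] [Fintype G] [DecidableEq G]
variable {p : ℕ} {M : Ideal Cfsg.AlgInt}
variable {P : Sylow p G} [Fintype ↥(P : Subgroup G)] [Fintype (↥(P : Subgroup G) →* ℂˣ)]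
    [Fintype (Cfsg.IrrCharacter G)] [DecidableEq (Cfsg.IrrCharacter G)]

/-- the three signs cannot all be positive, by the degree equation -/
theorem BLData.not_all_plus [Fact p.Prime] (D : BLData M P 3) (hd : D.d = 0)
    (hM : Cfsg.IsPModular p M) (χ₂ χ₃ : Cfsg.IrrCharacter G) (hne : χ₂ ≠ χ₃)
    (hX' : D.X.erase (oneIrr G) = {χ₂, χ₃}) :
    ¬ (D.w χ₂ = 1 ∧ D.w χ₃ = 1 ∧ D.δ = -1) := by
  classical
  rintro ⟨h2, h3, h4⟩
  have hp : p.Prime := Fact.out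
  have h1X := D.one_mem_X hM
  have hw1 := (D.one hM).1
  have hsumX : ∀ g : Cfsg.IrrCharacter G → ℂ,
      ∑ χ ∈ D.X, g χ = g (oneIrr G) + g χ₂ + g χ₃ := by
    intro g
    rw [← Finset.add_sum_erase D.X g h1X, hX', Finset.sum_pair hne]
    ring
  obtain ⟨ψ₀, _, hψ₀, _, _⟩ := D.hclasses
  obtain ⟨η₀, hη₀def⟩ : ∃ η₀, η₀ = D.Θ ψ₀ := ⟨_, rfl⟩
  have hη₀ : η₀ ∈ D.Y := (D.mem_Y _).mpr ⟨ψ₀, hψ₀, hη₀def.symm⟩
  have hf₂ := IsCharacter.apply_one_eq_charDegree (IsIrrCharacter.isCharacter χ₂.2)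
  have hf₃ := IsCharacter.apply_one_eq_charDegree (IsIrrCharacter.isCharacter χ₃.2)
  have hf := IsCharacter.apply_one_eq_charDegree (IsIrrCharacter.isCharacter η₀.2)
  have h1reg : ¬ p ∣ orderOf (1 : G) := by rw [orderOf_one]; exact hp.not_dvd_one
  have hone : ∀ g : G, ((oneIrr G : Cfsg.IrrCharacter G) : G → ℂ) g = 1 := fun _ => rfl
  have h := D.pRegular_rel η₀ hη₀ 1 h1reg
  rw [hd, hsumX, hw1, hone, hf₂, hf₃, hf, h2, h3, h4] at h
  have : ((1 + Cfsg.charDegree (χ₂ : G → ℂ) + Cfsg.charDegree (χ₃ : G → ℂ)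
      + Cfsg.charDegree (η₀ : G → ℂ) : ℕ) : ℂ) = 0 := by
    push_cast
    push_cast at h
    linear_combination h
  have h5 : 1 + Cfsg.charDegree (χ₂ : G → ℂ) + Cfsg.charDegree (χ₃ : G → ℂ)
      + Cfsg.charDegree (η₀ : G → ℂ) = 0 := by exact_mod_cast this
  omega

end signs

end Cfsg.Agent.Lib.Helper6
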