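import Cfsg.Agent.Lib.Helper3.J2STYPE
import Cfsg.Agent.Lib.Helper9.MTh

/-!
# Baby-Monster type farm (S5412), Lemma A: the frame `K = C_G(t)`, `N = ⟨t⟩`, `z' = z N`, `Q' = C_Q(t) N / N`

Instantiates the generic section of `Cfsg.Agent.Lib.Helper3.J2STYPE` (`fD`, `QQ`) with
`C := ↥(centralizer {t})`, `N := (zpowers t).subgroupOf _`, `t := ⟨z, _⟩`.

* `NK t`, `zK z t hzt`, `Q2K Q t`, `Dbar`, `Qbar` : the objects;
* `hconj_of` : `g z g⁻¹ = c z` with `c ∈ ⟨t⟩` forces `c = 1` (as `t z ~ t` is not conjugate to `z`);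
* `order_zbar`, `Qbar_normal`, `fusion_bar` (from helper9's `MT.bm_fusion`-shaped hypothesis);
* `liftD`, `liftD_surjective`, `liftD_mem_Qbar_iff`, `liftD_eq_iff` : elementwise description of `C_{K/N}(z N)`;
* `bm_of_pieces` : the final assembly of `IsOfBabyMonsterType (K ⧸ N)` from the remaining pieces.
-/

set_option autoImplicit false

namespace Cfsg.Agent.Lib.Helper6.BMT

open Cfsg Cfsg.Agent.Lib.Helper4.ES2 Cfsg.Agent.Lib.Helper9.MTc Cfsg.Agent.Lib.Helper3.J2STYPE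

variable {G : Type*} [Group G]

/-- `N = ⟨t⟩` inside `K = C_G(t)` (reducible: it is the subgroup appearing in the statement S5412) -/
abbrev NK (t : G) : Subgroup ↥(Subgroup.centralizer ({t} : Set G)) :=
  (Subgroup.zpowers t).subgroupOf (Subgroup.centralizer ({t} : Set G))

/-- `z` as an element of `K = C_G(t)` -/
def zK (z t : G) (hzt : z * t = t * z) : ↥(Subgroup.centralizer ({t} : Set G)) :=
  ⟨z, Subgroup.mem_centralizer_singleton_iff.mpr hzt⟩

@[simp] theorem zK_val (z t : G) (hzt : z * t = t * z) : ((zK z t hzt : ↥(Subgroup.centralizer ({t} : Set G))) : G) = z := rfl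

/-- `C_Q(t)` as a subgroup of `K = C_G(t)` -/
def Q2K {z : G} (Q : Subgroup (Subgroup.centralizer ({z} : Set G))) (t : G) :
    Subgroup ↥(Subgroup.centralizer ({t} : Set G)) :=
  (QG Q).subgroupOf (Subgroup.centralizer ({t} : Set G))

theorem mem_Q2K_iff {z : G} {Q : Subgroup (Subgroup.centralizer ({z} : Set G))} {t : G}
    (k : ↥(Subgroup.centralizer ({t} : Set G))) : k ∈ Q2K Q t ↔ (k : G) ∈ QG Q := Iff.rfl

theorem t_sq_of {t : G} (ht2 : orderOf t = 2) : t * t = 1 := by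
  rw [← pow_two, ← ht2, pow_orderOf_eq_one]

theorem mem_zpowers_two {t : G} (ht2 : t * t = 1) (x : G) :
    x ∈ Subgroup.zpowers t ↔ x = 1 ∨ x = t := by
  constructor
  · rintro ⟨k, rfl⟩
    have hinv : t⁻¹ = t := inv_eq_of_mul_eq_one_right ht2
    rcases Int.even_or_odd' k with ⟨m, hm | hm⟩
    · left
      show t ^ k = 1
      rw [hm, zpow_mul, zpow_two, ht2, one_zpow]
    · right
      show t ^ k = t
      rw [hm, zpow_add, zpow_mul, zpow_two, ht2, one_zpow, one_mul, zpow_one]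
  · rintro (rfl | rfl)
    · exact Subgroup.one_mem _
    · exact Subgroup.mem_zpowers _

theorem mem_NK_iff {t : G} (ht2 : t * t = 1) (k : ↥(Subgroup.centralizer ({t} : Set G))) :
    k ∈ NK t ↔ (k : G) = 1 ∨ (k : G) = t := by
  rw [Subgroup.mem_subgroupOf]
  exact mem_zpowers_two ht2 _

theorem NK_le_center (t : G) : NK t ≤ Subgroup.center ↥(Subgroup.centralizer ({t} : Set G)) := by
  intro k hk
  rw [Subgroup.mem_subgroupOf] at hk
  obtain ⟨m, hm⟩ := hk
  rw [Subgroup.mem_center_iff]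
  intro g
  apply Subtype.ext
  have hg : (g : G) * t = t * g := Subgroup.mem_centralizer_singleton_iff.mp g.2
  have hc : Commute (g : G) t := hg
  have := hc.zpow_right m
  simp only at hm
  rw [Subgroup.coe_mul, Subgroup.coe_mul, ← hm]
  exact this

section frame

variable {z : G} {Q : Subgroup (Subgroup.centralizer ({z} : Set G))} [Q.Normal]
  {e : (Subgroup.centralizer ({z} : Set G)) ⧸ Q ≃* Spor.Co1}
  {ψ : leechLattice → Q ⧸ Subgroup.center Q}

theorem Q2K_le (t : G) (hzt : z * t = t * z) :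
    Q2K Q t ≤ Subgroup.centralizer ({zK z t hzt} : Set ↥(Subgroup.centralizer ({t} : Set G))) := by
  intro k hk
  have h1 : (k : G) ∈ Subgroup.centralizer ({z} : Set G) := QG_le ((mem_Q2K_iff k).mp hk)
  rw [Subgroup.mem_centralizer_singleton_iff]
  apply Subtype.ext
  exact Subgroup.mem_centralizer_singleton_iff.mp h1

theorem Q2K_conj (t : G) (hzt : z * t = t * z) :
    ∀ g ∈ Subgroup.centralizer ({zK z t hzt} : Set ↥(Subgroup.centralizer ({t} : Set G))),
      ∀ q ∈ Q2K Q t, g * q * g⁻¹ ∈ Q2K Q t := by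
  intro g hg q hq
  have h1 : g * zK z t hzt = zK z t hzt * g := Subgroup.mem_centralizer_singleton_iff.mp hg
  have h2 : (g : G) * z = z * g := congrArg Subtype.val h1
  have h3 : (g : G) ∈ Subgroup.centralizer ({z} : Set G) :=
    Subgroup.mem_centralizer_singleton_iff.mpr h2
  rw [mem_Q2K_iff] at hq ⊢
  have := QG_conj_mem h3 hq
  simpa using this

variable [Finite G]

/-- `t z` is `Q`-conjugate to `t`, hence not conjugate to `z` -/
theorem not_conj_tz (h : MT z Q e ψ) (t : G) (htC : t ∈ Subgroup.centralizer ({z} : Set G))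
    (htQ : (⟨t, htC⟩ : Subgroup.centralizer ({z} : Set G)) ∈ Q) (ht2 : orderOf t = 2)
    (ht : ¬ IsConj z t) (g : G) : g * z * g⁻¹ ≠ t * z := by
  intro hg
  have ht1 : (⟨t, htC⟩ : Subgroup.centralizer ({z} : Set G)) ≠ 1 := by
    intro h1
    have h2 : t = 1 := congrArg Subtype.val h1
    rw [h2, orderOf_one] at ht2
    norm_num at ht2
  have htz : (⟨t, htC⟩ : Subgroup.centralizer ({z} : Set G)) ≠ zC z := by
    intro h1
    have h2 : t = z := congrArg Subtype.val h1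
    apply ht
    rw [h2]
  obtain ⟨y, _, hy⟩ := h.swap htQ ht1 htz
  have hy' : (y : G) * t * (y : G)⁻¹ = t * z := congrArg Subtype.val hy
  apply ht
  rw [isConj_iff]
  refine ⟨(y : G)⁻¹ * g, ?_⟩
  have : (y : G)⁻¹ * g * z * ((y : G)⁻¹ * g)⁻¹ = (y : G)⁻¹ * (g * z * g⁻¹) * y := by group
  rw [this, hg, ← hy']
  group

/-- the hypothesis `hconj` of the generic section of `J2STYPE` -/
theorem hconj_of (h : MT z Q e ψ) (t : G) (htC : t ∈ Subgroup.centralizer ({z} : Set G))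
    (htQ : (⟨t, htC⟩ : Subgroup.centralizer ({z} : Set G)) ∈ Q) (ht2 : orderOf t = 2)
    (ht : ¬ IsConj z t) (hzt : z * t = t * z) :
    ∀ (g c : ↥(Subgroup.centralizer ({t} : Set G))), c ∈ NK t →
      g * zK z t hzt * g⁻¹ = c * zK z t hzt → c = 1 := by
  intro g c hc hg
  rcases (mem_NK_iff (t_sq_of ht2) c).mp hc with h1 | h1
  · exact Subtype.ext h1
  · exfalso
    have h2 : (g : G) * z * (g : G)⁻¹ = t * z := by
      have := congrArg Subtype.val hg
      simpa [h1] using this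
    exact not_conj_tz h t htC htQ ht2 ht g h2

theorem zK_not_mem (hz : orderOf z = 2) (t : G) (ht2 : orderOf t = 2) (ht : ¬ IsConj z t)
    (hzt : z * t = t * z) : zK z t hzt ∉ NK t := by
  intro h1
  rcases (mem_NK_iff (t_sq_of ht2) _).mp h1 with h2 | h2
  · exact z_ne_one_of hz h2
  · apply ht
    have : z = t := h2
    rw [this]

theorem order_zbar (hz : orderOf z = 2) {t : G} (ht2 : orderOf t = 2) (ht : ¬ IsConj z t)
    (hzt : z * t = t * z) [(NK t).Normal] :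
    orderOf (QuotientGroup.mk (zK z t hzt) : ↥(Subgroup.centralizer ({t} : Set G)) ⧸ NK t) = 2 :=
  order_z (NK t) (zK z t hzt) (Subtype.ext (z_sq_of hz)) (zK_not_mem hz t ht2 ht hzt)

end frame

section bar

variable {z : G} (Q : Subgroup (Subgroup.centralizer ({z} : Set G))) [Q.Normal] (t : G)
  (hzt : z * t = t * z) [(NK t).Normal]

/-- `z' = z N` in `K ⧸ N` -/
abbrev zbar : ↥(Subgroup.centralizer ({t} : Set G)) ⧸ NK t := QuotientGroup.mk (zK z t hzt)

/-- `Q' = C_Q(t) N / N`, a subgroup of `C_{K/N}(z')` -/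
abbrev Qbar : Subgroup ↥(Subgroup.centralizer ({zbar t hzt} :
    Set (↥(Subgroup.centralizer ({t} : Set G)) ⧸ NK t))) :=
  QQ (NK t) (zK z t hzt) (Q2K Q t)

/-- an element of `C_G(t) ∩ C_G(z)` as an element of `C_K(z)` -/
def liftK (k : G) (hkt : k * t = t * k) (hkz : k * z = z * k) :
    ↥(Subgroup.centralizer ({zK z t hzt} : Set ↥(Subgroup.centralizer ({t} : Set G)))) :=
  ⟨⟨k, Subgroup.mem_centralizer_singleton_iff.mpr hkt⟩,
    Subgroup.mem_centralizer_singleton_iff.mpr (Subtype.ext hkz)⟩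

/-- the image in `C_{K/N}(z')` of an element of `C_G(t) ∩ C_G(z)` -/
def liftD (k : G) (hkt : k * t = t * k) (hkz : k * z = z * k) :
    ↥(Subgroup.centralizer ({zbar t hzt} : Set (↥(Subgroup.centralizer ({t} : Set G)) ⧸ NK t))) :=
  fD (NK t) (zK z t hzt) (liftK t hzt k hkt hkz)

theorem liftK_surjective
    (y : ↥(Subgroup.centralizer ({zK z t hzt} : Set ↥(Subgroup.centralizer ({t} : Set G))))) :
    ∃ (k : G) (hkt : k * t = t * k) (hkz : k * z = z * k), liftK t hzt k hkt hkz = y := by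
  have h1 : (y : ↥(Subgroup.centralizer ({t} : Set G))) * zK z t hzt = zK z t hzt * y :=
    Subgroup.mem_centralizer_singleton_iff.mp y.2
  exact ⟨((y : ↥(Subgroup.centralizer ({t} : Set G))) : G),
    Subgroup.mem_centralizer_singleton_iff.mp (y : ↥(Subgroup.centralizer ({t} : Set G))).2,
    congrArg Subtype.val h1, rfl⟩

theorem liftD_surjective
    (hconj : ∀ (g c : ↥(Subgroup.centralizer ({t} : Set G))), c ∈ NK t →
      g * zK z t hzt * g⁻¹ = c * zK z t hzt → c = 1)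
    (y : ↥(Subgroup.centralizer ({zbar t hzt} :
      Set (↥(Subgroup.centralizer ({t} : Set G)) ⧸ NK t)))) :
    ∃ (k : G) (hkt : k * t = t * k) (hkz : k * z = z * k), liftD t hzt k hkt hkz = y := by
  obtain ⟨x, hx⟩ := fD_surjective (NK t) (zK z t hzt) hconj y
  obtain ⟨k, hkt, hkz, hk⟩ := liftK_surjective t hzt x
  exact ⟨k, hkt, hkz, by rw [liftD, hk, hx]⟩

theorem liftD_mul (k k' : G) (hkt : k * t = t * k) (hkz : k * z = z * k) (hkt' : k' * t = t * k')
    (hkz' : k' * z = z * k') (hmt : k * k' * t = t * (k * k')) (hmz : k * k' * z = z * (k * k')) :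
    liftD t hzt (k * k') hmt hmz = liftD t hzt k hkt hkz * liftD t hzt k' hkt' hkz' := by
  unfold liftD
  rw [← map_mul]
  rfl

theorem liftD_conj (k q : G) (hkt : k * t = t * k) (hkz : k * z = z * k) (hqt : q * t = t * q)
    (hqz : q * z = z * q) (hmt : k * q * k⁻¹ * t = t * (k * q * k⁻¹))
    (hmz : k * q * k⁻¹ * z = z * (k * q * k⁻¹)) :
    liftD t hzt (k * q * k⁻¹) hmt hmz =
      liftD t hzt k hkt hkz * liftD t hzt q hqt hqz * (liftD t hzt k hkt hkz)⁻¹ := by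
  unfold liftD
  rw [← map_inv, ← map_mul, ← map_mul]
  rfl

theorem liftD_eq_iff (ht2 : t * t = 1) (k k' : G) (hkt : k * t = t * k) (hkz : k * z = z * k)
    (hkt' : k' * t = t * k') (hkz' : k' * z = z * k') :
    liftD t hzt k hkt hkz = liftD t hzt k' hkt' hkz' ↔ k = k' ∨ k = t * k' := by
  unfold liftD
  rw [fD_eq_iff, mem_NK_iff ht2]
  show k * k'⁻¹ = 1 ∨ k * k'⁻¹ = t ↔ _
  constructor
  · rintro (h1 | h1)
    · left; exact mul_inv_eq_one.mp h1
    · right; exact mul_inv_eq_iff_eq_mul.mp h1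
  · rintro (h1 | h1)
    · left; exact mul_inv_eq_one.mpr h1
    · right; exact mul_inv_eq_iff_eq_mul.mpr h1

theorem liftD_eq_one_iff (ht2 : t * t = 1) (k : G) (hkt : k * t = t * k) (hkz : k * z = z * k) :
    liftD t hzt k hkt hkz = 1 ↔ k = 1 ∨ k = t := by
  unfold liftD
  rw [fD_eq_one_iff, mem_NK_iff ht2]
  rfl

theorem liftD_mem_Qbar_iff (ht2 : t * t = 1) (htQ : t ∈ QG Q) (k : G) (hkt : k * t = t * k)
    (hkz : k * z = z * k) : liftD t hzt k hkt hkz ∈ Qbar Q t hzt ↔ k ∈ QG Q := by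
  unfold liftD
  rw [mem_QQ_iff (NK t) (zK z t hzt) (Q2K Q t) (NK_le_center t) (Q2K_le t hzt)]
  have hle : NK t ≤ Q2K Q t := by
    intro c hc
    rcases (mem_NK_iff ht2 c).mp hc with h1 | h1
    · rw [mem_Q2K_iff, h1]; exact Subgroup.one_mem _
    · rw [mem_Q2K_iff, h1]; exact htQ
  rw [sup_eq_left.mpr hle]
  rfl

theorem mem_Qbar (ht2 : t * t = 1) (htQ : t ∈ QG Q)
    (hconj : ∀ (g c : ↥(Subgroup.centralizer ({t} : Set G))), c ∈ NK t →
      g * zK z t hzt * g⁻¹ = c * zK z t hzt → c = 1)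
    (y : ↥(Subgroup.centralizer ({zbar t hzt} :
      Set (↥(Subgroup.centralizer ({t} : Set G)) ⧸ NK t)))) (hy : y ∈ Qbar Q t hzt) :
    ∃ (q : G) (hqt : q * t = t * q) (hqz : q * z = z * q), q ∈ QG Q ∧ liftD t hzt q hqt hqz = y := by
  obtain ⟨q, hqt, hqz, hq⟩ := liftD_surjective t hzt hconj y
  refine ⟨q, hqt, hqz, ?_, hq⟩
  rw [← hq] at hy
  exact (liftD_mem_Qbar_iff Q t hzt ht2 htQ q hqt hqz).mp hy

/-- the fusion clause in `K ⧸ N` from helper9's `MT.bm_fusion` -/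
theorem fusion_bar (ht2 : t * t = 1)
    (hk : ∃ k : G, k * t = t * k ∧
      (∃ hc : k * z * k⁻¹ ∈ Subgroup.centralizer ({z} : Set G),
        (⟨k * z * k⁻¹, hc⟩ : Subgroup.centralizer ({z} : Set G)) ∈ Q) ∧
      (k * z * k⁻¹) * t = t * (k * z * k⁻¹) ∧ k * z * k⁻¹ ≠ z ∧ k * z * k⁻¹ ≠ z * t) :
    ∃ g : ↥(Subgroup.centralizer ({t} : Set G)) ⧸ NK t,
      (∃ hq : g * zbar t hzt * g⁻¹ ∈ Subgroup.centralizer ({zbar t hzt} :
          Set (↥(Subgroup.centralizer ({t} : Set G)) ⧸ NK t)),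
        (⟨g * zbar t hzt * g⁻¹, hq⟩ : Subgroup.centralizer ({zbar t hzt} :
          Set (↥(Subgroup.centralizer ({t} : Set G)) ⧸ NK t))) ∈ Qbar Q t hzt) ∧
      g * zbar t hzt * g⁻¹ ≠ zbar t hzt := by
  obtain ⟨k, hkt, ⟨hc, hcQ⟩, _, hne1, hne2⟩ := hk
  refine fusion (NK t) (zK z t hzt) (Q2K Q t) (Q2K_le t hzt)
    ⟨k, Subgroup.mem_centralizer_singleton_iff.mpr hkt⟩ ?_ ?_
  · rw [mem_Q2K_iff]
    exact mem_QG.mpr ⟨hc, hcQ⟩
  · intro c hc h1
    have h2 : k * z * k⁻¹ = (c : G) * z := congrArg Subtype.val h1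
    rcases (mem_NK_iff ht2 c).mp hc with h3 | h3
    · rw [h3, one_mul] at h2
      exact hne1 h2
    · rw [h3, ← hzt] at h2
      exact hne2 h2

/-- **final assembly** of the Baby-Monster type of `K ⧸ N` from the pieces -/
theorem bm_of_pieces (hord : orderOf (zbar t hzt) = 2) [hn : (Qbar Q t hzt).Normal]
    (hF : generalizedFittingSubgroup ↥(Subgroup.centralizer ({zbar t hzt} :
      Set (↥(Subgroup.centralizer ({t} : Set G)) ⧸ NK t))) = Qbar Q t hzt)
    (hES : IsExtraspecial 2 ↥(Qbar Q t hzt)) (hcard : Nat.card ↥(Qbar Q t hzt) = 2 ^ 23)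
    (hfus : ∃ g : ↥(Subgroup.centralizer ({t} : Set G)) ⧸ NK t,
      (∃ hq : g * zbar t hzt * g⁻¹ ∈ Subgroup.centralizer ({zbar t hzt} :
          Set (↥(Subgroup.centralizer ({t} : Set G)) ⧸ NK t)),
        (⟨g * zbar t hzt * g⁻¹, hq⟩ : Subgroup.centralizer ({zbar t hzt} :
          Set (↥(Subgroup.centralizer ({t} : Set G)) ⧸ NK t))) ∈ Qbar Q t hzt) ∧
      g * zbar t hzt * g⁻¹ ≠ zbar t hzt)
    (e' : ↥(Subgroup.centralizer ({zbar t hzt} :
      Set (↥(Subgroup.centralizer ({t} : Set G)) ⧸ NK t))) ⧸ Qbar Q t hzt ≃* Spor.Co2)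
    (ψ' : leechPerpU → ↥(Qbar Q t hzt) ⧸ Subgroup.center ↥(Qbar Q t hzt))
    (hψ' : IsLeechPerpModTwoIso (Qbar Q t hzt) e' ψ') :
    IsOfBabyMonsterType (↥(Subgroup.centralizer ({t} : Set G)) ⧸
      (Subgroup.zpowers t).subgroupOf (Subgroup.centralizer ({t} : Set G))) :=
  ⟨zbar t hzt, Qbar Q t hzt, hn, ⟨hord, hF, hES, by rw [hcard], hfus⟩, e', ψ', hψ'⟩

end bar

section frame2

variable {z : G} {Q : Subgroup (Subgroup.centralizer ({z} : Set G))} [Q.Normal]
  {e : (Subgroup.centralizer ({z} : Set G)) ⧸ Q ≃* Spor.Co1}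
  {ψ : leechLattice → Q ⧸ Subgroup.center Q} [Finite G]

theorem Qbar_normal (h : MT z Q e ψ) (t : G) (htC : t ∈ Subgroup.centralizer ({z} : Set G))
    (htQ : (⟨t, htC⟩ : Subgroup.centralizer ({z} : Set G)) ∈ Q) (ht2 : orderOf t = 2)
    (ht : ¬ IsConj z t) (hzt : z * t = t * z) [(NK t).Normal] : (Qbar Q t hzt).Normal :=
  QQ_normal (NK t) (zK z t hzt) (Q2K Q t) (hconj_of h t htC htQ ht2 ht hzt) (Q2K_conj t hzt)

end frame2

end Cfsg.Agent.Lib.Helper6.BMT
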