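import Cfsg.Agent.Lib.Helper9.MTh

/-!
# Baby-Monster type farm (S5412), unit BM-CF: the commutator form of `Q` is the inner product mod 2

For `MT z Q e ψ` (helper9's Monster-type structure), `ψ v = x Z(Q)`, `ψ w = y Z(Q)`:
`x * y = y * x ↔ 16 ∣ dotInt v w` (polarisation of `MT.sq_iff`).
-/

set_option autoImplicit false

namespace Cfsg.Agent.Lib.Helper6.BMT

open Cfsg Cfsg.Agent.Lib.Helper4.ES2 Cfsg.Agent.Lib.Helper9.MTa Cfsg.Agent.Lib.Helper9.MTb
  Cfsg.Agent.Lib.Helper9.MTc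

theorem sqNorm_add (a b : GolayPt → ℤ) :
    sqNorm (a + b) = sqNorm a + sqNorm b + 2 * dotInt a b := by
  unfold sqNorm dotInt
  rw [Finset.mul_sum, ← Finset.sum_add_distrib, ← Finset.sum_add_distrib]
  apply Finset.sum_congr rfl
  intro i _
  simp only [Pi.add_apply]
  ring

/-- inner products of lattice vectors are divisible by 8 -/
theorem eight_dvd_dotInt (v w : leechLattice) :
    (8 : ℤ) ∣ dotInt (v : GolayPt → ℤ) (w : GolayPt → ℤ) := by
  have h1 := Cfsg.Agent.S0392.result (v : GolayPt → ℤ) v.2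
  have h2 := Cfsg.Agent.S0392.result (w : GolayPt → ℤ) w.2
  have h3 := Cfsg.Agent.S0392.result ((v + w : leechLattice) : GolayPt → ℤ) (v + w).2
  rw [AddSubgroup.coe_add, sqNorm_add] at h3
  omega

variable {G : Type*} [Group G] [Finite G] {z : G}
  {Q : Subgroup (Subgroup.centralizer ({z} : Set G))} [Q.Normal]
  {e : (Subgroup.centralizer ({z} : Set G)) ⧸ Q ≃* Spor.Co1}
  {ψ : leechLattice → Q ⧸ Subgroup.center Q}

/-- the commutator indicator is the inner product divided by 8, modulo 2 -/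
theorem iv_cm_eq (h : MT z Q e ψ) (v w : leechLattice) (x y : Q)
    (hx : ψ v = QuotientGroup.mk x) (hy : ψ w = QuotientGroup.mk y) :
    iv (cm x y) = ((dotInt (v : GolayPt → ℤ) (w : GolayPt → ℤ) / 8 : ℤ) : ZMod 2) := by
  have hD := h.dataQ
  have hxy : ψ (v + w) = QuotientGroup.mk (x * y) := by
    rw [h.hψ.1, hx, hy]; rfl
  have h1 := Qf_sqNorm h.hQ h.two_lt hD h.hψ v
  have h2 := Qf_sqNorm h.hQ h.two_lt hD h.hψ w
  have h3 := Qf_sqNorm h.hQ h.two_lt hD h.hψ (v + w)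
  rw [Qf_eq hD v x hx] at h1
  rw [Qf_eq hD w y hy] at h2
  rw [Qf_eq hD (v + w) (x * y) hxy, sqv_mul hD x y, h1, h2] at h3
  have d1 := Cfsg.Agent.S0392.result (v : GolayPt → ℤ) v.2
  have d2 := Cfsg.Agent.S0392.result (w : GolayPt → ℤ) w.2
  have d3 := eight_dvd_dotInt v w
  obtain ⟨a, ha⟩ := d1
  obtain ⟨b, hb⟩ := d2
  obtain ⟨d, hd⟩ := d3
  have h4 : sqNorm ((v + w : leechLattice) : GolayPt → ℤ) = 16 * (a + b + d) := by
    rw [AddSubgroup.coe_add, sqNorm_add, ha, hb, hd]; ring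
  rw [h4, ha, hb] at h3
  rw [hd]
  simp only [Int.mul_ediv_cancel_left _ (by norm_num : (16 : ℤ) ≠ 0),
    Int.mul_ediv_cancel_left _ (by norm_num : (8 : ℤ) ≠ 0)] at h3 ⊢
  push_cast at h3
  have h5 : iv (cm x y) = ((a : ZMod 2) + b + d) - a - b := by
    rw [← h3]; ring
  rw [h5]; ring

/-- **BM-CF**: `x` and `y` commute iff the inner product of lattice vectors over them is `0 mod 16` -/
theorem comm_iff_dvd (h : MT z Q e ψ) (v w : leechLattice) (x y : Q)
    (hx : ψ v = QuotientGroup.mk x) (hy : ψ w = QuotientGroup.mk y) :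
    x * y = y * x ↔ (16 : ℤ) ∣ dotInt (v : GolayPt → ℤ) (w : GolayPt → ℤ) := by
  rw [← cm_eq_one_iff, ← iv_eq_zero_iff, iv_cm_eq h v w x y hx hy]
  obtain ⟨d, hd⟩ := eight_dvd_dotInt v w
  rw [hd, Int.mul_ediv_cancel_left _ (by norm_num : (8 : ℤ) ≠ 0),
    ZMod.intCast_zmod_eq_zero_iff_dvd]
  constructor
  · rintro ⟨k, rfl⟩
    exact ⟨k, by ring⟩
  · rintro ⟨k, hk⟩
    exact ⟨k, by omega⟩

/-- the same for the underlying elements of `C` -/
theorem comm_iff_dvd' (h : MT z Q e ψ) (v w : leechLattice) (x y : Q)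
    (hx : ψ v = QuotientGroup.mk x) (hy : ψ w = QuotientGroup.mk y) :
    (x : Subgroup.centralizer ({z} : Set G)) * y = y * x ↔
      (16 : ℤ) ∣ dotInt (v : GolayPt → ℤ) (w : GolayPt → ℤ) := by
  rw [← comm_iff_dvd h v w x y hx hy]
  constructor
  · intro h1
    exact Subtype.ext h1
  · intro h1
    exact congrArg Subtype.val h1

end Cfsg.Agent.Lib.Helper6.BMT
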