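import Cfsg.Agent.Lib.Helper6.BMTa
import Cfsg.Agent.Lib.Helper9.MTp

/-!
# Baby-Monster type farm (S5412), fallback track on the frame of `BMTa`: the isomorphism `e' : C'/Q' ≃* Co2`

From helper9's `theta : C_C(t) →* Co2` (`Lib/Helper9/MTp`): `Ebar : C' →* Co2` with
`Ebar (liftD k) = theta ⟨⟨k, _⟩, _⟩`, onto, kernel `Qbar`; `ebar : C' ⧸ Qbar ≃* Co2`.
-/

set_option autoImplicit false

namespace Cfsg.Agent.Lib.Helper6.BMT

open Cfsg Cfsg.Agent.Lib.Helper4.ES2 Cfsg.Agent.Lib.Helper9.MTc Cfsg.Agent.Lib.Helper3.J2STYPE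

variable {G : Type*} [Group G] [Finite G] {z : G}
  {Q : Subgroup (Subgroup.centralizer ({z} : Set G))} [Q.Normal]
  {e : (Subgroup.centralizer ({z} : Set G)) ⧸ Q ≃* Spor.Co1}
  {ψ : leechLattice → Q ⧸ Subgroup.center Q}

section

variable (t : G) (htC : t ∈ Subgroup.centralizer ({z} : Set G))
  (htQ : (⟨t, htC⟩ : Subgroup.centralizer ({z} : Set G)) ∈ Q) (hzt : z * t = t * z)

/-- `t` as an element of `Q` -/
abbrev tQ : Q := ⟨⟨t, htC⟩, htQ⟩

/-- an element of `C_G(t) ∩ C_G(z)` as an element of `C_C(t)` -/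
def toCx (k : G) (hkt : k * t = t * k) (hkz : k * z = z * k) :
    ↥(Subgroup.centralizer ({((tQ t htC htQ : Q) : Subgroup.centralizer ({z} : Set G))} :
      Set (Subgroup.centralizer ({z} : Set G)))) :=
  ⟨⟨k, Subgroup.mem_centralizer_singleton_iff.mpr hkz⟩,
    Subgroup.mem_centralizer_singleton_iff.mpr (Subtype.ext hkt)⟩

/-- the homomorphism `C_K(z) → C_C(t)` (the identity on underlying elements) -/
def swapHom : ↥(Subgroup.centralizer ({zK z t hzt} : Set ↥(Subgroup.centralizer ({t} : Set G)))) →*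
    ↥(Subgroup.centralizer ({((tQ t htC htQ : Q) : Subgroup.centralizer ({z} : Set G))} :
      Set (Subgroup.centralizer ({z} : Set G)))) where
  toFun y := toCx t htC htQ ((y : ↥(Subgroup.centralizer ({t} : Set G))) : G)
    (Subgroup.mem_centralizer_singleton_iff.mp (y : ↥(Subgroup.centralizer ({t} : Set G))).2)
    (congrArg Subtype.val (Subgroup.mem_centralizer_singleton_iff.mp y.2))
  map_one' := rfl
  map_mul' _ _ := rfl

theorem swapHom_liftK (k : G) (hkt : k * t = t * k) (hkz : k * z = z * k) :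
    swapHom t htC htQ hzt (liftK t hzt k hkt hkz) = toCx t htC htQ k hkt hkz := rfl

end

variable (h : MT z Q e ψ) (t : G) (htC : t ∈ Subgroup.centralizer ({z} : Set G))
  (htQ : (⟨t, htC⟩ : Subgroup.centralizer ({z} : Set G)) ∈ Q) (hzt : z * t = t * z)
  (hx : ψ Spor.leechU = QuotientGroup.mk (tQ t htC htQ : Q)) [(NK t).Normal]

/-- `theta` transported to `C_K(z)` -/
noncomputable def tauK :
    ↥(Subgroup.centralizer ({zK z t hzt} : Set ↥(Subgroup.centralizer ({t} : Set G)))) →* ↥Spor.Co2 :=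
  (theta h (tQ t htC htQ) hx).comp (swapHom t htC htQ hzt)

theorem tauK_liftK (k : G) (hkt : k * t = t * k) (hkz : k * z = z * k) :
    tauK h t htC htQ hzt hx (liftK t hzt k hkt hkz) =
      theta h (tQ t htC htQ) hx (toCx t htC htQ k hkt hkz) := rfl

theorem tauK_eq_one_iff (k : G) (hkt : k * t = t * k) (hkz : k * z = z * k) :
    tauK h t htC htQ hzt hx (liftK t hzt k hkt hkz) = 1 ↔ k ∈ QG Q := by
  rw [tauK_liftK, ← MonoidHom.mem_ker, theta_ker, Subgroup.mem_subgroupOf, mem_QG]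
  constructor
  · intro h1
    exact ⟨_, h1⟩
  · rintro ⟨_, h1⟩
    exact h1

theorem ker_fD_le (ht2 : t * t = 1) :
    (fD (NK t) (zK z t hzt)).ker ≤ (tauK h t htC htQ hzt hx).ker := by
  intro y hy
  obtain ⟨k, hkt, hkz, rfl⟩ := liftK_surjective t hzt y
  rw [MonoidHom.mem_ker] at hy ⊢
  rw [tauK_eq_one_iff]
  have h1 := (liftD_eq_one_iff t hzt ht2 k hkt hkz).mp hy
  rcases h1 with h1 | h1
  · rw [h1]; exact Subgroup.one_mem _
  · rw [h1]; exact mem_QG.mpr ⟨htC, htQ⟩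

variable (ht2 : orderOf t = 2) (ht : ¬ IsConj z t)

/-- the homomorphism `C' = C_{K/N}(z') → Co2` -/
noncomputable def Ebar :
    ↥(Subgroup.centralizer ({zbar t hzt} : Set (↥(Subgroup.centralizer ({t} : Set G)) ⧸ NK t))) →*
      ↥Spor.Co2 :=
  (fD (NK t) (zK z t hzt)).liftOfSurjective
    (fD_surjective (NK t) (zK z t hzt) (hconj_of h t htC htQ ht2 ht hzt))
    ⟨tauK h t htC htQ hzt hx, ker_fD_le h t htC htQ hzt hx (t_sq_of ht2)⟩

theorem Ebar_liftD (k : G) (hkt : k * t = t * k) (hkz : k * z = z * k) :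
    Ebar h t htC htQ hzt hx ht2 ht (liftD t hzt k hkt hkz) =
      theta h (tQ t htC htQ) hx (toCx t htC htQ k hkt hkz) := by
  unfold Ebar liftD
  rw [MonoidHom.liftOfRightInverse_comp_apply]
  rfl

theorem Ebar_surjective : Function.Surjective (Ebar h t htC htQ hzt hx ht2 ht) := by
  intro g
  obtain ⟨c, hc⟩ := theta_surjective h (tQ t htC htQ) hx g
  have hkz : ((c : Subgroup.centralizer ({z} : Set G)) : G) * z = z * c :=
    Subgroup.mem_centralizer_singleton_iff.mp (c : Subgroup.centralizer ({z} : Set G)).2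
  have hkt : ((c : Subgroup.centralizer ({z} : Set G)) : G) * t = t * c :=
    congrArg Subtype.val (Subgroup.mem_centralizer_singleton_iff.mp c.2)
  refine ⟨liftD t hzt ((c : Subgroup.centralizer ({z} : Set G)) : G) hkt hkz, ?_⟩
  rw [Ebar_liftD, ← hc]
  rfl

theorem Ebar_ker : (Ebar h t htC htQ hzt hx ht2 ht).ker = Qbar Q t hzt := by
  ext y
  obtain ⟨k, hkt, hkz, rfl⟩ := liftD_surjective t hzt (hconj_of h t htC htQ ht2 ht hzt) y
  rw [MonoidHom.mem_ker, Ebar_liftD, ← tauK_liftK h t htC htQ hzt hx, tauK_eq_one_iff,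
    liftD_mem_Qbar_iff Q t hzt (t_sq_of ht2) (mem_QG.mpr ⟨htC, htQ⟩)]

/-- `e' : C' ⧸ Q' ≃* Co2` -/
noncomputable def ebar [(Qbar Q t hzt).Normal] :
    ↥(Subgroup.centralizer ({zbar t hzt} : Set (↥(Subgroup.centralizer ({t} : Set G)) ⧸ NK t))) ⧸
      Qbar Q t hzt ≃* ↥Spor.Co2 :=
  (QuotientGroup.quotientMulEquivOfEq (Ebar_ker h t htC htQ hzt hx ht2 ht).symm).trans
    (QuotientGroup.quotientKerEquivOfSurjective (Ebar h t htC htQ hzt hx ht2 ht)
      (Ebar_surjective h t htC htQ hzt hx ht2 ht))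

theorem ebar_mk [(Qbar Q t hzt).Normal]
    (y : ↥(Subgroup.centralizer ({zbar t hzt} :
      Set (↥(Subgroup.centralizer ({t} : Set G)) ⧸ NK t)))) :
    ebar h t htC htQ hzt hx ht2 ht (QuotientGroup.mk y) = Ebar h t htC htQ hzt hx ht2 ht y := rfl

end Cfsg.Agent.Lib.Helper6.BMT
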