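import Cfsg.Agent.Lib.Helper6.BMTp
import Cfsg.Agent.Lib.Helper3.BMTOrd3MT
import Cfsg.Agent.Lib.Helper2.UF

/-!
# Baby-Monster type farm (S5412), fallback track on the frame of `BMTa`: `F*(C') = Qbar`
(helper2's `UF` with helper3's witness `exists_moved2`), and the assembly `bm_type_of_MT`.
-/

set_option autoImplicit false

namespace Cfsg.Agent.Lib.Helper6.BMT

open Cfsg Cfsg.Agent.Lib.Helper4.ES2 Cfsg.Agent.Lib.Helper9.MTc Cfsg.Agent.Lib.Helper3.J2STYPE

variable {G : Type*} [Group G] [Finite G] {z : G}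
  {Q : Subgroup (Subgroup.centralizer ({z} : Set G))} [Q.Normal]
  {e : (Subgroup.centralizer ({z} : Set G)) ⧸ Q ≃* Spor.Co1}
  {ψ : leechLattice → Q ⧸ Subgroup.center Q}

variable (h : MT z Q e ψ) (t : G) (htC : t ∈ Subgroup.centralizer ({z} : Set G))
  (htQ : (⟨t, htC⟩ : Subgroup.centralizer ({z} : Set G)) ∈ Q) (hzt : z * t = t * z)
  (ht2 : orderOf t = 2) (ht : ¬ IsConj z t) [(NK t).Normal]
  (hx : ψ Spor.leechU = QuotientGroup.mk (tQ t htC htQ : Q))

omit [Finite G] in
theorem conj_comm {a b c : G} (hac : a * c = c * a) (hbc : b * c = c * b) :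
    a * b * a⁻¹ * c = c * (a * b * a⁻¹) := by
  have h1 : Commute a c := hac
  have h2 : Commute b c := hbc
  exact (h1.mul_left h2).mul_left h1.inv_left

theorem co2_simple : IsSimpleGroup ↥Spor.Co2 := by
  haveI := (Cfsg.Agent.S0402.result Spor.leechU leechU_norm').1
  exact isoCo2.isSimpleGroup

theorem co2_card : Nat.card ↥Spor.Co2 = 42305421312000 := by
  rw [Nat.card_congr isoCo2.toEquiv]
  exact (Cfsg.Agent.S0402.result Spor.leechU leechU_norm').2

include h htC htQ ht2 ht hx in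
theorem quot_simple [(Qbar Q t hzt).Normal] :
    IsSimpleGroup (↥(Subgroup.centralizer ({zbar t hzt} :
      Set (↥(Subgroup.centralizer ({t} : Set G)) ⧸ NK t))) ⧸ Qbar Q t hzt) := by
  haveI := co2_simple
  exact (ebar h t htC htQ hzt hx ht2 ht).isSimpleGroup

include h htC htQ ht2 ht hx in
theorem quot_not_two [(Qbar Q t hzt).Normal] :
    ¬ IsPGroup 2 (↥(Subgroup.centralizer ({zbar t hzt} :
      Set (↥(Subgroup.centralizer ({t} : Set G)) ⧸ NK t))) ⧸ Qbar Q t hzt) := by
  intro h1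
  obtain ⟨m, hm⟩ := IsPGroup.iff_card.mp h1
  rw [Nat.card_congr (ebar h t htC htQ hzt hx ht2 ht).toEquiv, co2_card] at hm
  have h3 : 3 ∣ 2 ^ m := by
    rw [← hm]
    norm_num
  have := Nat.Prime.dvd_of_dvd_pow Nat.prime_three h3
  omega

include h htC htQ ht2 ht hx in
theorem gfs_Qbar [(Qbar Q t hzt).Normal] :
    generalizedFittingSubgroup ↥(Subgroup.centralizer ({zbar t hzt} :
      Set (↥(Subgroup.centralizer ({t} : Set G)) ⧸ NK t))) = Qbar Q t hzt := by
  have htt := t_sq_of ht2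
  have htG : t ∈ QG Q := mem_QG.mpr ⟨htC, htQ⟩
  obtain ⟨y, hyt, q, hqQ, hqt, n1, n2, n3, n4⟩ :=
    Cfsg.Agent.Lib.Helper3.BMTOrd3MT.exists_moved2 h Spor.leechU (tQ t htC htQ) hx leechU_norm'
  have hyt' : (y : G) * t = t * (y : G) := congrArg Subtype.val hyt
  have hyz : (y : G) * z = z * (y : G) := Subgroup.mem_centralizer_singleton_iff.mp y.2
  have hqt' : (q : G) * t = t * (q : G) := congrArg Subtype.val hqt
  have hqz : (q : G) * z = z * (q : G) := Subgroup.mem_centralizer_singleton_iff.mp q.2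
  have hqG : (q : G) ∈ QG Q := mem_QG.mpr ⟨q.2, hqQ⟩
  have hD := h.dataG
  -- the four inequalities in `G`
  have m1 : (y : G) * q * (y : G)⁻¹ ≠ q := fun hh => n1 (Subtype.ext hh)
  have m2 : (y : G) * q * (y : G)⁻¹ ≠ (q : G) * z := fun hh => n2 (Subtype.ext hh)
  have m3 : (y : G) * q * (y : G)⁻¹ ≠ (q : G) * t := fun hh => n3 (Subtype.ext hh)
  have m4 : (y : G) * q * (y : G)⁻¹ ≠ (q : G) * (z * t) := fun hh => n4 (Subtype.ext hh)
  have hcz : (y : G) * q * (y : G)⁻¹ * z = z * ((y : G) * q * (y : G)⁻¹) :=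
    conj_comm hyz hqz
  have hct : (y : G) * q * (y : G)⁻¹ * t = t * ((y : G) * q * (y : G)⁻¹) :=
    conj_comm hyt' hqt'
  apply Cfsg.Agent.Lib.Helper2.UFUnit.UF (Qbar Q t hzt)
    (IsPGroup.of_card (card_Qbar h t htC htQ hzt ht2 ht))
    (quot_simple h t htC htQ hzt ht2 ht hx) (quot_not_two h t htC htQ hzt ht2 ht hx)
    (liftD t hzt (y : G) hyt' hyz) (liftD t hzt (q : G) hqt' hqz)
    ((liftD_mem_Qbar_iff Q t hzt htt htG _ _ _).mpr hqG)
  intro q' hq' heq
  obtain ⟨r, hrt, hrz, hrQ, rfl⟩ :=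
    mem_Qbar Q t hzt htt htG (hconj_of h t htC htQ ht2 ht hzt) q' hq'
  have hrcz : r * q * r⁻¹ * z = z * (r * q * r⁻¹) := by
    rcases hD.comm_mem r hrQ q hqG with h1 | h1
    · have : r * q * r⁻¹ = q := by
        have h2 : r * q * r⁻¹ = cm r q * q := by unfold cm; group
        rw [h2, h1, one_mul]
      rw [this]; exact hqz
    · have : r * q * r⁻¹ = z * q := by
        have h2 : r * q * r⁻¹ = cm r q * q := by unfold cm; group
        rw [h2, h1]
      rw [this, mul_assoc, hqz]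
  have hrct : r * q * r⁻¹ * t = t * (r * q * r⁻¹) := conj_comm hrt hqt'
  rw [← liftD_conj t hzt (y : G) (q : G) hyt' hyz hqt' hqz hct hcz,
    ← liftD_conj t hzt r (q : G) hrt hrz hqt' hqz hrct hrcz, liftD_eq_iff t hzt htt] at heq
  rcases hD.comm_mem r hrQ q hqG with h1 | h1
  · have h3 : r * q * r⁻¹ = q := by
      have h2 : r * q * r⁻¹ = cm r q * q := by unfold cm; group
      rw [h2, h1, one_mul]
    rw [h3] at heq
    rcases heq with h4 | h4
    · exact m1 h4
    · apply m3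
      rw [h4, hqt']
  · have h3 : r * q * r⁻¹ = z * q := by
      have h2 : r * q * r⁻¹ = cm r q * q := by unfold cm; group
      rw [h2, h1]
    rw [h3] at heq
    rcases heq with h4 | h4
    · apply m2
      rw [h4, hqz]
    · apply m4
      rw [h4]
      calc t * (z * (q : G)) = (t * z) * q := by group
        _ = (z * t) * q := by rw [hzt]
        _ = z * (t * q) := by group
        _ = z * (q * t) := by rw [hqt']
        _ = (z * q) * t := by group
        _ = (q * z) * t := by rw [hqz]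
        _ = q * (z * t) := by group

end Cfsg.Agent.Lib.Helper6.BMT
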