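import Cfsg.Agent.Lib.Helper6.BMTe
import Cfsg.Agent.Lib.Helper6.BMTcf
import Cfsg.Agent.Lib.Helper7.BMTes

/-!
# Baby-Monster type farm (S5412), fallback track on the frame of `BMTa`: `Qbar` extraspecial of order `2^23`,
the map `psib : leechPerpU → Qbar ⧸ Z(Qbar)` and the four clauses of `IsLeechPerpModTwoIso`.
-/

set_option autoImplicit false

namespace Cfsg.Agent.Lib.Helper6.BMT

open Cfsg Cfsg.Agent.Lib.Helper4.ES2 Cfsg.Agent.Lib.Helper9.MTc Cfsg.Agent.Lib.Helper3.J2STYPE

variable {G : Type*} [Group G] [Finite G] {z : G}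
  {Q : Subgroup (Subgroup.centralizer ({z} : Set G))} [Q.Normal]
  {e : (Subgroup.centralizer ({z} : Set G)) ⧸ Q ≃* Spor.Co1}
  {ψ : leechLattice → Q ⧸ Subgroup.center Q}

variable (h : MT z Q e ψ) (t : G) (htC : t ∈ Subgroup.centralizer ({z} : Set G))
  (htQ : (⟨t, htC⟩ : Subgroup.centralizer ({z} : Set G)) ∈ Q) (hzt : z * t = t * z)
  (ht2 : orderOf t = 2) (ht : ¬ IsConj z t) [(NK t).Normal]

include ht2 in
theorem t_ne_one_of : t ≠ 1 := by
  intro h1
  rw [h1, orderOf_one] at ht2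
  norm_num at ht2

include ht in
theorem t_ne_z_of : t ≠ z := by
  intro h1
  apply ht
  rw [h1]

include h in
theorem card_QG_ge : 32 ≤ Nat.card ↥(QG Q) := by
  rw [card_QG, h.hcard]; norm_num

include h htC htQ ht2 ht in
theorem Qbar_extraspecial : IsExtraspecial 2 ↥(Qbar Q t hzt) :=
  Cfsg.Agent.Lib.Helper7.BMTes.section_extraspecial h.dataG (mem_QG.mpr ⟨htC, htQ⟩) (t_sq_of ht2)
    (t_ne_one_of t ht2) (t_ne_z_of t ht) (card_QG_ge h) (NK t) (mem_NK_iff (t_sq_of ht2))
    (zK z t hzt) rfl (Q2K Q t) mem_Q2K_iff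

include h htC htQ ht2 ht in
theorem card_Qbar : Nat.card ↥(Qbar Q t hzt) = 2 ^ 23 := by
  have h1 := Cfsg.Agent.Lib.Helper7.BMTes.card_section h.dataG (mem_QG.mpr ⟨htC, htQ⟩)
    (t_ne_one_of t ht2) (t_ne_z_of t ht) (NK t) (mem_NK_iff (t_sq_of ht2))
    (zK z t hzt) rfl (Q2K Q t) mem_Q2K_iff
  rw [card_QG, h.hcard] at h1
  have h2 : Nat.card ↥(Qbar Q t hzt) * 4 = 2 ^ 25 := h1
  norm_num at h2 ⊢
  omega

/-! ### elements of `Qbar` -/

omit [Finite G] in
/-- the element of `Qbar` given by an element of `C_Q(t)` -/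
def qb (htt : t * t = 1) (htG : t ∈ QG Q) (q : Q)
    (hqt : ((q : Subgroup.centralizer ({z} : Set G)) : G) * t =
      t * ((q : Subgroup.centralizer ({z} : Set G)) : G)) : ↥(Qbar Q t hzt) :=
  ⟨liftD t hzt ((q : Subgroup.centralizer ({z} : Set G)) : G) hqt
      (Subgroup.mem_centralizer_singleton_iff.mp (q : Subgroup.centralizer ({z} : Set G)).2),
    (liftD_mem_Qbar_iff Q t hzt htt htG _ _ _).mpr
      (mem_QG.mpr ⟨(q : Subgroup.centralizer ({z} : Set G)).2, q.2⟩)⟩

omit [Finite G] in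
theorem qb_val (htt : t * t = 1) (htG : t ∈ QG Q) (q : Q)
    (hqt : ((q : Subgroup.centralizer ({z} : Set G)) : G) * t =
      t * ((q : Subgroup.centralizer ({z} : Set G)) : G)) :
    ((qb t hzt htt htG q hqt : ↥(Qbar Q t hzt)) : ↥(Subgroup.centralizer ({zbar t hzt} :
      Set (↥(Subgroup.centralizer ({t} : Set G)) ⧸ NK t)))) =
      liftD t hzt ((q : Subgroup.centralizer ({z} : Set G)) : G) hqt
        (Subgroup.mem_centralizer_singleton_iff.mp (q : Subgroup.centralizer ({z} : Set G)).2) := rfl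

omit [Finite G] in
theorem qb_congr (htt : t * t = 1) (htG : t ∈ QG Q) {q q' : Q} (hqq : q = q')
    (hqt : ((q : Subgroup.centralizer ({z} : Set G)) : G) * t =
      t * ((q : Subgroup.centralizer ({z} : Set G)) : G))
    (hqt' : ((q' : Subgroup.centralizer ({z} : Set G)) : G) * t =
      t * ((q' : Subgroup.centralizer ({z} : Set G)) : G)) :
    qb t hzt htt htG q hqt = qb t hzt htt htG q' hqt' := by
  subst hqq
  rfl

omit [Finite G] in
theorem qb_mul (htt : t * t = 1) (htG : t ∈ QG Q) (q q' : Q)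
    (hqt : ((q : Subgroup.centralizer ({z} : Set G)) : G) * t =
      t * ((q : Subgroup.centralizer ({z} : Set G)) : G))
    (hqt' : ((q' : Subgroup.centralizer ({z} : Set G)) : G) * t =
      t * ((q' : Subgroup.centralizer ({z} : Set G)) : G))
    (hm : (((q * q' : Q) : Subgroup.centralizer ({z} : Set G)) : G) * t =
      t * (((q * q' : Q) : Subgroup.centralizer ({z} : Set G)) : G)) :
    qb t hzt htt htG (q * q') hm = qb t hzt htt htG q hqt * qb t hzt htt htG q' hqt' := by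
  apply Subtype.ext
  rw [Subgroup.coe_mul, qb_val, qb_val, qb_val]
  exact liftD_mul t hzt _ _ _ _ _ _ _ _

omit [Finite G] in
theorem qb_eq_one_iff (htt : t * t = 1) (htG : t ∈ QG Q) (q : Q)
    (hqt : ((q : Subgroup.centralizer ({z} : Set G)) : G) * t =
      t * ((q : Subgroup.centralizer ({z} : Set G)) : G)) :
    qb t hzt htt htG q hqt = 1 ↔ ((q : Subgroup.centralizer ({z} : Set G)) : G) = 1 ∨
      ((q : Subgroup.centralizer ({z} : Set G)) : G) = t := by
  rw [← liftD_eq_one_iff t hzt htt _ hqt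
    (Subgroup.mem_centralizer_singleton_iff.mp (q : Subgroup.centralizer ({z} : Set G)).2),
    ← qb_val t hzt htt htG q hqt]
  constructor
  · intro h1; rw [h1]; rfl
  · intro h1; exact Subtype.ext h1

omit [Finite G] in
theorem qb_eq_iff (htt : t * t = 1) (htG : t ∈ QG Q) (q q' : Q)
    (hqt : ((q : Subgroup.centralizer ({z} : Set G)) : G) * t =
      t * ((q : Subgroup.centralizer ({z} : Set G)) : G))
    (hqt' : ((q' : Subgroup.centralizer ({z} : Set G)) : G) * t =
      t * ((q' : Subgroup.centralizer ({z} : Set G)) : G)) :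
    qb t hzt htt htG q hqt = qb t hzt htt htG q' hqt' ↔
      ((q : Subgroup.centralizer ({z} : Set G)) : G) = q' ∨
      ((q : Subgroup.centralizer ({z} : Set G)) : G) = t * q' := by
  rw [← liftD_eq_iff t hzt htt _ _ hqt
    (Subgroup.mem_centralizer_singleton_iff.mp (q : Subgroup.centralizer ({z} : Set G)).2) hqt'
    (Subgroup.mem_centralizer_singleton_iff.mp (q' : Subgroup.centralizer ({z} : Set G)).2),
    ← qb_val t hzt htt htG q hqt, ← qb_val t hzt htt htG q' hqt']
  constructor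
  · intro h1; rw [h1]
  · intro h1; exact Subtype.ext h1

/-- `z` as an element of `Q` -/
abbrev zQ : Q := ⟨zC z, h.zC_mem⟩

/-- the central involution of `Qbar` -/
def zb (htt : t * t = 1) (htG : t ∈ QG Q) : ↥(Qbar Q t hzt) :=
  qb t hzt htt htG (zQ h) hzt

include ht in
theorem mem_center_Qbar_iff (htt : t * t = 1) (htG : t ∈ QG Q) (y : ↥(Qbar Q t hzt)) :
    y ∈ Subgroup.center ↥(Qbar Q t hzt) ↔ y = 1 ∨ y = zb h t hzt htt htG := by
  obtain ⟨h1, h2, h3, h4, h5, h6, h7, h8, h9, _⟩ :=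
    Cfsg.Agent.Lib.Helper7.BMTes.section_hyps h.dataG htG htt (t_ne_z_of t ht) (card_QG_ge h)
      (NK t) (mem_NK_iff htt) (zK z t hzt) rfl (Q2K Q t) mem_Q2K_iff
  have h10 := Cfsg.Agent.Lib.Helper7.BMTes.center_QQ (NK t) (zK z t hzt)
    (Cfsg.Agent.Lib.Helper7.BMTes.tK t) (Q2K Q t) h1 h2 h3 h4 h5 h6 h7 h8 h9 y
  have h11 : fQ (NK t) (zK z t hzt) (Q2K Q t)
      (Cfsg.Agent.Lib.Helper7.BMTes.mkQ (zK z t hzt) (Q2K Q t) h2 (zK z t hzt) h3) =
      zb h t hzt htt htG := by
    apply Subtype.ext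
    rfl
  rw [h11] at h10
  exact h10

theorem zb_conj (htt : t * t = 1) (htG : t ∈ QG Q)
    (y : ↥(Subgroup.centralizer ({zbar t hzt} :
      Set (↥(Subgroup.centralizer ({t} : Set G)) ⧸ NK t)))) :
    y * ((zb h t hzt htt htG : ↥(Qbar Q t hzt)) : ↥(Subgroup.centralizer ({zbar t hzt} :
      Set (↥(Subgroup.centralizer ({t} : Set G)) ⧸ NK t)))) * y⁻¹ = zb h t hzt htt htG := by
  have h1 : y * (⟨zbar t hzt, Subgroup.mem_centralizer_singleton_iff.mpr rfl⟩ :
      ↥(Subgroup.centralizer ({zbar t hzt} :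
        Set (↥(Subgroup.centralizer ({t} : Set G)) ⧸ NK t)))) =
      ⟨zbar t hzt, Subgroup.mem_centralizer_singleton_iff.mpr rfl⟩ * y :=
    Subtype.ext (Subgroup.mem_centralizer_singleton_iff.mp y.2)
  have h2 : ((zb h t hzt htt htG : ↥(Qbar Q t hzt)) : ↥(Subgroup.centralizer ({zbar t hzt} :
      Set (↥(Subgroup.centralizer ({t} : Set G)) ⧸ NK t)))) =
      ⟨zbar t hzt, Subgroup.mem_centralizer_singleton_iff.mpr rfl⟩ := by
    apply Subtype.ext
    rfl
  rw [h2, h1, mul_assoc, mul_inv_cancel, mul_one]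

/-! ### the map `psib` -/

variable (hx : ψ Spor.leechU = QuotientGroup.mk (tQ t htC htQ : Q))

include h hx in
/-- lifts of images of vectors of `leechPerpU` commute with `t` -/
theorem perp_comm (x : leechLattice) (hxU : x ∈ leechPerpU) (q : Q)
    (hq : ψ x = QuotientGroup.mk q) :
    ((q : Subgroup.centralizer ({z} : Set G)) : G) * t =
      t * ((q : Subgroup.centralizer ({z} : Set G)) : G) := by
  have h1 := (comm_iff_dvd' h x Spor.leechU q (tQ t htC htQ) hq hx).mpr hxU
  exact congrArg Subtype.val h1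

include h hx in
theorem perp_of_comm (x : leechLattice) (q : Q) (hq : ψ x = QuotientGroup.mk q)
    (hqt : ((q : Subgroup.centralizer ({z} : Set G)) : G) * t =
      t * ((q : Subgroup.centralizer ({z} : Set G)) : G)) : x ∈ leechPerpU := by
  have h1 : (q : Subgroup.centralizer ({z} : Set G)) * (tQ t htC htQ : Q) =
      (tQ t htC htQ : Q) * q := Subtype.ext hqt
  exact (comm_iff_dvd' h x Spor.leechU q (tQ t htC htQ) hq hx).mp h1

/-- the map `ψ'` -/
noncomputable def psib (htt : t * t = 1) (htG : t ∈ QG Q) (x : leechPerpU) :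
    ↥(Qbar Q t hzt) ⧸ Subgroup.center ↥(Qbar Q t hzt) :=
  QuotientGroup.mk (qb t hzt htt htG (Quotient.out (ψ (x : leechLattice)))
    (perp_comm h t htC htQ hx x x.2 _ (QuotientGroup.out_eq' _).symm))

include h ht in
/-- congruent elements of `C_Q(t)` have the same image in `Qbar ⧸ Z(Qbar)` -/
theorem mk_qb_congr (htt : t * t = 1) (htG : t ∈ QG Q) (q q' : Q)
    (hqt : ((q : Subgroup.centralizer ({z} : Set G)) : G) * t =
      t * ((q : Subgroup.centralizer ({z} : Set G)) : G))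
    (hqt' : ((q' : Subgroup.centralizer ({z} : Set G)) : G) * t =
      t * ((q' : Subgroup.centralizer ({z} : Set G)) : G))
    (hqq : (QuotientGroup.mk q : Q ⧸ Subgroup.center Q) = QuotientGroup.mk q') :
    (QuotientGroup.mk (qb t hzt htt htG q hqt) :
      ↥(Qbar Q t hzt) ⧸ Subgroup.center ↥(Qbar Q t hzt)) =
      QuotientGroup.mk (qb t hzt htt htG q' hqt') := by
  have h1 : q⁻¹ * q' ∈ Subgroup.center Q := QuotientGroup.eq.mp hqq
  rcases (Cfsg.Agent.Lib.Helper9.MTa.mem_center_iff h.dataQ _).mp h1 with h2 | h2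
  · have h3 : q = q' := by
      have := inv_mul_eq_one.mp h2
      exact this
    rw [qb_congr t hzt htt htG h3 hqt hqt']
  · have h3 : q' = q * zQ h := by
      have h5 : zQ h = q⁻¹ * q' := h2.symm
      rw [h5]; group
    have hm : (((q * zQ h : Q) : Subgroup.centralizer ({z} : Set G)) : G) * t =
        t * (((q * zQ h : Q) : Subgroup.centralizer ({z} : Set G)) : G) := by
      rw [← h3]; exact hqt'
    rw [qb_congr t hzt htt htG h3 hqt' hm, qb_mul t hzt htt htG q (zQ h) hqt hzt hm]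
    rw [QuotientGroup.mk_mul]
    have h4 : (QuotientGroup.mk (qb t hzt htt htG (zQ h) hzt) :
        ↥(Qbar Q t hzt) ⧸ Subgroup.center ↥(Qbar Q t hzt)) = 1 := by
      rw [QuotientGroup.eq_one_iff, mem_center_Qbar_iff h t hzt ht htt htG]
      right
      rfl
    rw [h4, mul_one]

include ht in
theorem psib_eq (htt : t * t = 1) (htG : t ∈ QG Q) (x : leechPerpU) (q : Q)
    (hq : ψ (x : leechLattice) = QuotientGroup.mk q) :
    psib h t htC htQ hzt hx htt htG x =
      QuotientGroup.mk (qb t hzt htt htG q (perp_comm h t htC htQ hx x x.2 q hq)) := by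
  unfold psib
  apply mk_qb_congr h t hzt ht htt htG
  rw [← hq]
  exact QuotientGroup.out_eq' _

/-! ### the clauses of `IsLeechPerpModTwoIso` -/

include ht in
theorem psib_add (htt : t * t = 1) (htG : t ∈ QG Q) (x y : leechPerpU) :
    psib h t htC htQ hzt hx htt htG (x + y) =
      psib h t htC htQ hzt hx htt htG x * psib h t htC htQ hzt hx htt htG y := by
  obtain ⟨qx, hqx⟩ := QuotientGroup.mk_surjective (ψ (x : leechLattice))
  obtain ⟨qy, hqy⟩ := QuotientGroup.mk_surjective (ψ (y : leechLattice))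
  have hxy : ψ ((x + y : leechPerpU) : leechLattice) = QuotientGroup.mk (qx * qy) := by
    rw [AddSubgroup.coe_add, h.hψ.1, ← hqx, ← hqy]; rfl
  rw [psib_eq h t htC htQ hzt ht hx htt htG (x + y) (qx * qy) hxy,
    psib_eq h t htC htQ hzt ht hx htt htG x qx hqx.symm,
    psib_eq h t htC htQ hzt ht hx htt htG y qy hqy.symm, ← QuotientGroup.mk_mul]
  exact congrArg _ (qb_mul t hzt htt htG qx qy _ _ _)

include ht ht2 in
theorem psib_surjective (htt : t * t = 1) (htG : t ∈ QG Q) :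
    Function.Surjective (psib h t htC htQ hzt hx htt htG) := by
  intro Y
  obtain ⟨y, rfl⟩ := QuotientGroup.mk_surjective Y
  obtain ⟨q, hqt, hqz, hqQ, hq⟩ :=
    mem_Qbar Q t hzt htt htG (hconj_of h t htC htQ ht2 ht hzt) y.1 y.2
  obtain ⟨hqC, hqQ'⟩ := mem_QG.mp hqQ
  obtain ⟨v, hv⟩ := h.hψ.2.1 (QuotientGroup.mk (⟨⟨q, hqC⟩, hqQ'⟩ : Q))
  have hvU : v ∈ leechPerpU := perp_of_comm h t htC htQ hx v ⟨⟨q, hqC⟩, hqQ'⟩ hv hqt
  refine ⟨⟨v, hvU⟩, ?_⟩
  rw [psib_eq h t htC htQ hzt ht hx htt htG ⟨v, hvU⟩ ⟨⟨q, hqC⟩, hqQ'⟩ hv]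
  congr 1
  apply Subtype.ext
  exact hq

include h hx in
theorem of_psi_eq_U (x : leechLattice) (hxU : ψ x = QuotientGroup.mk (tQ t htC htQ : Q)) :
    ∃ w : leechLattice, x = Spor.leechU + (w + w) := by
  have h1 : ψ (x + -Spor.leechU) = 1 := by
    rw [h.hψ.1, Cfsg.Agent.Lib.Helper9.MTb.psi_neg h.hψ, hx, hxU, mul_inv_cancel]
  obtain ⟨w, hw⟩ := (h.hψ.2.2.1 _).mp h1
  refine ⟨w, ?_⟩
  rw [← hw]
  abel

include ht in
theorem psib_eq_one_iff (htt : t * t = 1) (htG : t ∈ QG Q) (x : leechPerpU) :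
    psib h t htC htQ hzt hx htt htG x = 1 ↔
      (∃ w : leechLattice, (x : leechLattice) = w + w) ∨
        ∃ w : leechLattice, (x : leechLattice) = Spor.leechU + (w + w) := by
  constructor
  · obtain ⟨q, hq⟩ := QuotientGroup.mk_surjective (ψ (x : leechLattice))
    rw [psib_eq h t htC htQ hzt ht hx htt htG x q hq.symm, QuotientGroup.eq_one_iff,
      mem_center_Qbar_iff h t hzt ht htt htG]
    rintro (h1 | h1)
    · rcases (qb_eq_one_iff t hzt htt htG q _).mp h1 with h2 | h2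
      · left
        apply (h.hψ.2.2.1 _).mp
        rw [← hq]
        have : q = 1 := Subtype.ext (Subtype.ext h2)
        rw [this]; rfl
      · right
        apply of_psi_eq_U h t htC htQ hx
        rw [← hq]
        have : q = tQ t htC htQ := Subtype.ext (Subtype.ext h2)
        rw [this]
    · rcases (qb_eq_iff t hzt htt htG q (zQ h) _ hzt).mp h1 with h2 | h2
      · left
        apply (h.hψ.2.2.1 _).mp
        rw [← hq, h.mk_eq_one_iff]
        right
        exact Subtype.ext h2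
      · right
        apply of_psi_eq_U h t htC htQ hx
        rw [← hq]
        have : q = tQ t htC htQ * zQ h := Subtype.ext (Subtype.ext h2)
        rw [this, QuotientGroup.mk_mul]
        have h3 : (QuotientGroup.mk (zQ h) : Q ⧸ Subgroup.center Q) = 1 := by
          rw [h.mk_eq_one_iff]; right; rfl
        rw [h3, mul_one]
  · rintro (⟨w, hw⟩ | ⟨w, hw⟩)
    · have hq1 : ψ (x : leechLattice) = QuotientGroup.mk (1 : Q) := by
        rw [hw, Cfsg.Agent.Lib.Helper9.MTb.psi_double h.hψ w]; rfl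
      rw [psib_eq h t htC htQ hzt ht hx htt htG x 1 hq1, QuotientGroup.eq_one_iff]
      have h1 : qb t hzt htt htG (1 : Q) (perp_comm h t htC htQ hx x x.2 1 hq1) = 1 := by
        rw [qb_eq_one_iff]; left; rfl
      rw [h1]
      exact Subgroup.one_mem _
    · have hq1 : ψ (x : leechLattice) = QuotientGroup.mk (tQ t htC htQ : Q) := by
        rw [hw, h.hψ.1, Cfsg.Agent.Lib.Helper9.MTb.psi_double h.hψ w, mul_one, hx]
      rw [psib_eq h t htC htQ hzt ht hx htt htG x (tQ t htC htQ) hq1, QuotientGroup.eq_one_iff]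
      have h1 : qb t hzt htt htG (tQ t htC htQ : Q)
          (perp_comm h t htC htQ hx x x.2 (tQ t htC htQ) hq1) = 1 := by
        rw [qb_eq_one_iff]; right; rfl
      rw [h1]
      exact Subgroup.one_mem _

include ht in
theorem psib_equivariant (htt : t * t = 1) (htG : t ∈ QG Q) [hQn : (Qbar Q t hzt).Normal]
    (hh : ↥(Subgroup.centralizer ({zbar t hzt} :
      Set (↥(Subgroup.centralizer ({t} : Set G)) ⧸ NK t)))) (g : ↥Spor.Co2)
    (hg : ebar h t htC htQ hzt hx ht2 ht (QuotientGroup.mk hh) = g)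
    (x y : leechPerpU) (hxy : g • (x : leechLattice) = (y : leechLattice))
    (q : ↥(Qbar Q t hzt)) (hq : psib h t htC htQ hzt hx htt htG x = QuotientGroup.mk q) :
    psib h t htC htQ hzt hx htt htG y =
      QuotientGroup.mk ⟨hh * q * hh⁻¹, hQn.conj_mem (q : _) q.2 hh⟩ := by
  obtain ⟨k, hkt, hkz, rfl⟩ := liftD_surjective t hzt (hconj_of h t htC htQ ht2 ht hzt) hh
  rw [ebar_mk, Ebar_liftD] at hg
  obtain ⟨qx, hqx⟩ := QuotientGroup.mk_surjective (ψ (x : leechLattice))
  have hy := theta_equivariant h (tQ t htC htQ) hx (toCx t htC htQ k hkt hkz) x y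
    (by rw [hg]; exact hxy) qx hqx.symm
  rw [psib_eq h t htC htQ hzt ht hx htt htG y _ hy]
  rw [psib_eq h t htC htQ hzt ht hx htt htG x qx hqx.symm] at hq
  have hqtx := perp_comm h t htC htQ hx x x.2 qx hqx.symm
  have h1 : (qb t hzt htt htG qx hqtx)⁻¹ * q ∈ Subgroup.center ↥(Qbar Q t hzt) :=
    QuotientGroup.eq.mp hq
  have key : ∀ hqty, ((qb t hzt htt htG (⟨(toCx t htC htQ k hkt hkz).1 * qx *
      (toCx t htC htQ k hkt hkz).1⁻¹, (inferInstance : Q.Normal).conj_mem
      (qx : Subgroup.centralizer ({z} : Set G)) qx.2 (toCx t htC htQ k hkt hkz).1⟩ : Q) hqty :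
      ↥(Qbar Q t hzt)) : ↥(Subgroup.centralizer ({zbar t hzt} :
        Set (↥(Subgroup.centralizer ({t} : Set G)) ⧸ NK t)))) =
      liftD t hzt k hkt hkz * (qb t hzt htt htG qx hqtx : ↥(Qbar Q t hzt)) *
        (liftD t hzt k hkt hkz)⁻¹ := by
    intro hqty
    exact liftD_conj t hzt k _ hkt hkz hqtx
      (Subgroup.mem_centralizer_singleton_iff.mp (qx : Subgroup.centralizer ({z} : Set G)).2) _ _
  apply QuotientGroup.eq.mpr
  rcases (mem_center_Qbar_iff h t hzt ht htt htG _).mp h1 with h2 | h2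
  · have h3 : q = qb t hzt htt htG qx hqtx := (inv_mul_eq_one.mp h2).symm
    have h4 : (qb t hzt htt htG _ (perp_comm h t htC htQ hx y y.2 _ hy))⁻¹ *
        (⟨liftD t hzt k hkt hkz * q * (liftD t hzt k hkt hkz)⁻¹,
          hQn.conj_mem (q : _) q.2 (liftD t hzt k hkt hkz)⟩ : ↥(Qbar Q t hzt)) = 1 := by
      rw [inv_mul_eq_one]
      apply Subtype.ext
      rw [key, h3]
    rw [h4]
    exact Subgroup.one_mem _
  · have h3 : q = qb t hzt htt htG qx hqtx * zb h t hzt htt htG := by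
      rw [← h2]; group
    subst h3
    have hz := zb_conj h t hzt htt htG (liftD t hzt k hkt hkz)
    have h4 : (qb t hzt htt htG _ (perp_comm h t htC htQ hx y y.2 _ hy))⁻¹ *
        (⟨liftD t hzt k hkt hkz * (qb t hzt htt htG qx hqtx * zb h t hzt htt htG :
            ↥(Qbar Q t hzt)) * (liftD t hzt k hkt hkz)⁻¹,
          hQn.conj_mem _ (qb t hzt htt htG qx hqtx * zb h t hzt htt htG).2
            (liftD t hzt k hkt hkz)⟩ : ↥(Qbar Q t hzt)) =
        zb h t hzt htt htG := by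
      rw [inv_mul_eq_iff_eq_mul]
      apply Subtype.ext
      show liftD t hzt k hkt hkz * (((qb t hzt htt htG qx hqtx : ↥(Qbar Q t hzt)) :
          ↥(Subgroup.centralizer ({zbar t hzt} :
            Set (↥(Subgroup.centralizer ({t} : Set G)) ⧸ NK t)))) *
          ((zb h t hzt htt htG : ↥(Qbar Q t hzt)) : ↥(Subgroup.centralizer ({zbar t hzt} :
            Set (↥(Subgroup.centralizer ({t} : Set G)) ⧸ NK t))))) *
          (liftD t hzt k hkt hkz)⁻¹ = _ * _
      rw [key]
      calc liftD t hzt k hkt hkz * (((qb t hzt htt htG qx hqtx : ↥(Qbar Q t hzt)) :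
          ↥(Subgroup.centralizer ({zbar t hzt} :
            Set (↥(Subgroup.centralizer ({t} : Set G)) ⧸ NK t)))) *
          ((zb h t hzt htt htG : ↥(Qbar Q t hzt)) : ↥(Subgroup.centralizer ({zbar t hzt} :
            Set (↥(Subgroup.centralizer ({t} : Set G)) ⧸ NK t))))) *
          (liftD t hzt k hkt hkz)⁻¹
          = (liftD t hzt k hkt hkz * (qb t hzt htt htG qx hqtx : ↥(Qbar Q t hzt)) *
              (liftD t hzt k hkt hkz)⁻¹) *
            (liftD t hzt k hkt hkz * (zb h t hzt htt htG : ↥(Qbar Q t hzt)) *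
              (liftD t hzt k hkt hkz)⁻¹) := by group
        _ = _ := by rw [hz]
    rw [h4]
    exact ((mem_center_Qbar_iff h t hzt ht htt htG _).mpr (Or.inr rfl))

end Cfsg.Agent.Lib.Helper6.BMT
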