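import Cfsg.Agent.Lib.Helper6.BMTf
import Cfsg.Agent.Lib.Helper8.BMTtw
import Cfsg.Agent.Lib.Helper9.MTo

/-!
# Baby-Monster type farm (S5412), fallback track: the assembly on the frame of `BMTa`
-/

set_option autoImplicit false

namespace Cfsg.Agent.Lib.Helper6.BMT

open Cfsg Cfsg.Agent.Lib.Helper9.MTc

/-- `C_G(t)/⟨t⟩` is of Baby Monster type (fallback proof of S5412 on the frame of `BMTa`) -/
theorem bm_type_of_monster_type {G : Type*} [Group G] [Finite G] (z : G)
    (Q : Subgroup (Subgroup.centralizer ({z} : Set G))) [Q.Normal] (hM : Cfsg.IsOfMonsterType z Q)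
    (t : G) (htQ : ∃ htc : t ∈ Subgroup.centralizer ({z} : Set G),
      (⟨t, htc⟩ : Subgroup.centralizer ({z} : Set G)) ∈ Q) (ht2 : orderOf t = 2)
    (ht : ¬ IsConj z t)
    [hn : ((Subgroup.zpowers t).subgroupOf (Subgroup.centralizer ({t} : Set G))).Normal] :
    Cfsg.IsOfBabyMonsterType (↥(Subgroup.centralizer ({t} : Set G)) ⧸
      (Subgroup.zpowers t).subgroupOf (Subgroup.centralizer ({t} : Set G))) := by
  obtain ⟨e0, ψ0, h0, hfus⟩ := MT.of_type hM
  obtain ⟨htc, htQ'⟩ := htQ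
  obtain ⟨e, ψ, h, hψU⟩ :=
    Cfsg.Agent.Lib.Helper8.BMTtw.exists_twist_of_involution h0 hfus t htc htQ' ht2 ht
  have hzt : z * t = t * z := (Subgroup.mem_centralizer_singleton_iff.mp htc).symm
  have htt : t * t = 1 := t_sq_of ht2
  have htG : t ∈ QG Q := mem_QG.mpr ⟨htc, htQ'⟩
  have hQn : (Qbar Q t hzt).Normal := Qbar_normal h t htc htQ' ht2 ht hzt
  exact bm_of_pieces Q t hzt (order_zbar h.hz ht2 ht hzt)
    (gfs_Qbar h t htc htQ' hzt ht2 ht hψU)
    (Qbar_extraspecial h t htc htQ' hzt ht2 ht) (card_Qbar h t htc htQ' hzt ht2 ht)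
    (fusion_bar Q t hzt htt (h.bm_fusion hfus t htc htQ' ht2 ht))
    (ebar h t htc htQ' hzt hψU ht2 ht) (psib h t htc htQ' hzt hψU htt htG)
    ⟨psib_add h t htc htQ' hzt ht hψU htt htG,
      psib_surjective h t htc htQ' hzt ht2 ht hψU htt htG,
      psib_eq_one_iff h t htc htQ' hzt ht hψU htt htG,
      fun hh g hg x y hxy q hq =>
        psib_equivariant h t htc htQ' hzt ht2 ht hψU htt htG hh g hg x y hxy q hq⟩

end Cfsg.Agent.Lib.Helper6.BMT
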