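import Mathlib

set_option autoImplicit false
set_option linter.unusedSectionVars false
set_option linter.unusedVariables false
set_option linter.unusedSimpArgs false

/-! 2-adic valuations of the orders of `Sp_{2n}(q)` and `SL_2(q)`, `q` odd. -/

namespace Cfsg.Agent.Lib.Helper6.SW

open Nat

theorem v2_pow_sub_one (q k : ℕ) (hq : Odd q) (hq1 : 1 < q) (hk : 0 < k) :
    padicValNat 2 (q ^ (2 * k) - 1) = padicValNat 2 (q ^ 2 - 1) + padicValNat 2 k := by
  have hx : ¬2 ∣ q := by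
    rw [← even_iff_two_dvd, Nat.not_even_iff_odd]; exact hq
  have hxy : 2 ∣ q - 1 := by
    obtain ⟨m, hm⟩ := hq
    exact ⟨m, by omega⟩
  have h1 := padicValNat.pow_two_sub_pow (x := q) (y := 1) hq1 hxy hx (n := 2 * k)
    (by omega) ⟨k, by ring⟩
  have h2 := padicValNat.pow_two_sub_pow (x := q) (y := 1) hq1 hxy hx (n := 2)
    (by omega) ⟨1, by ring⟩
  rw [one_pow] at h1 h2
  have h3 : padicValNat 2 (2 * k) = 1 + padicValNat 2 k := by
    rw [padicValNat.mul (by norm_num) (by omega), padicValNat_self]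
  have h4 : padicValNat 2 2 = 1 := padicValNat_self
  rw [h3] at h1
  rw [h4] at h2
  omega

theorem v2_odd (q : ℕ) (hq : Odd q) : padicValNat 2 q = 0 := by
  apply padicValNat.eq_zero_of_not_dvd
  rw [← even_iff_two_dvd, Nat.not_even_iff_odd]; exact hq

theorem pow_sub_one_ne_zero (q k : ℕ) (hq1 : 1 < q) (hk : 0 < k) : q ^ k - 1 ≠ 0 := by
  have : 1 < q ^ k := Nat.one_lt_pow (by omega) hq1
  omega

theorem v2_prod (q n : ℕ) (hq : Odd q) (hq1 : 1 < q) :
    padicValNat 2 (∏ i ∈ Finset.range n, (q ^ (2 * (i + 1)) - 1)) =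
      n * padicValNat 2 (q ^ 2 - 1) + padicValNat 2 n ! := by
  induction n with
  | zero => simp
  | succ n ih =>
    have hne : ∏ i ∈ Finset.range n, (q ^ (2 * (i + 1)) - 1) ≠ 0 := by
      rw [Finset.prod_ne_zero_iff]
      intro i _
      exact pow_sub_one_ne_zero q _ hq1 (by omega)
    rw [Finset.prod_range_succ, padicValNat.mul hne (pow_sub_one_ne_zero q _ hq1 (by omega)), ih,
      v2_pow_sub_one q (n + 1) hq hq1 (by omega), Nat.factorial_succ,
      padicValNat.mul (by omega) (Nat.factorial_ne_zero n)]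
    ring

theorem v2_sp (q n : ℕ) (hq : Odd q) (hq1 : 1 < q) :
    padicValNat 2 (q ^ (n ^ 2) * ∏ i ∈ Finset.range n, (q ^ (2 * (i + 1)) - 1)) =
      n * padicValNat 2 (q ^ 2 - 1) + padicValNat 2 n ! := by
  have hne : ∏ i ∈ Finset.range n, (q ^ (2 * (i + 1)) - 1) ≠ 0 := by
    rw [Finset.prod_ne_zero_iff]
    intro i _
    exact pow_sub_one_ne_zero q _ hq1 (by omega)
  rw [padicValNat.mul (pow_ne_zero _ (by omega)) hne, padicValNat.pow, v2_odd q hq,
    mul_zero, zero_add, v2_prod q n hq hq1]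

theorem v2_sl2 (q : ℕ) (hq : Odd q) (hq1 : 1 < q) :
    padicValNat 2 (q * (q ^ 2 - 1)) = padicValNat 2 (q ^ 2 - 1) := by
  rw [padicValNat.mul (by omega) (pow_sub_one_ne_zero q 2 hq1 (by omega)), v2_odd q hq, zero_add]

end Cfsg.Agent.Lib.Helper6.SW
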