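import Mathlib
import Cfsg.Agent.Lib.Helper6.SW2
import Cfsg.Agent.Lib.Helper6.GLS1
import Cfsg.Agent.Lib.Helper4.SLCard

set_option autoImplicit false
set_option linter.unusedSectionVars false
set_option linter.unusedVariables false
set_option linter.unusedSimpArgs false

/-! The Sylow 2-subgroups of `GL₂(F)`, `|F| ≡ 3 (mod 4)`: they lie in the normaliser of the
non-split torus and have elementary abelian abelianisation. -/

namespace Cfsg.Agent.Lib.Helper6.GLS

open Matrix Cfsg.Agent.Lib.Helper6.SW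
open scoped commutatorElement

section arith

theorem v2_of_mod_four (x : ℕ) (h : x % 4 = 2) : padicValNat 2 x = 1 := by
  obtain ⟨y, hy⟩ : ∃ y, x = 2 * (2 * y + 1) := ⟨x / 4, by omega⟩
  rw [hy, padicValNat.mul (by norm_num) (by omega), padicValNat_self]
  have : padicValNat 2 (2 * y + 1) = 0 := by
    apply padicValNat.eq_zero_of_not_dvd
    omega
  rw [this]

theorem mod_four_of_dvd (q : ℕ) (hq : 4 ∣ q + 1) : q % 4 = 3 := by
  obtain ⟨a, ha⟩ := hq
  omega

end arith

section card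

variable {F : Type*} [Field F] [Fintype F]

local notation "GL2" => GL (Fin 2) F

theorem not_isSquare_neg_one (hq : 4 ∣ Fintype.card F + 1) : ¬IsSquare (-1 : F) := by
  rw [FiniteField.isSquare_neg_one_iff]
  have := mod_four_of_dvd _ hq
  omega

theorem sq_add_sq_eq_zero_iff (hns : ¬IsSquare (-1 : F)) (x y : F) :
    x ^ 2 + y ^ 2 = 0 ↔ x = 0 ∧ y = 0 := by
  constructor
  · intro h
    by_cases hy : y = 0
    · rw [hy] at h
      simp at h
      exact ⟨h, hy⟩
    · exfalso
      apply hns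
      refine ⟨x / y, ?_⟩
      field_simp
      linear_combination -h
  · rintro ⟨rfl, rfl⟩
    simp

/-- the non-split torus as a set of pairs -/
noncomputable def torGEquiv (F : Type*) [Field F] :
    ↥(torG F) ≃ {p : F × F // p.1 ^ 2 + p.2 ^ 2 ≠ 0} where
  toFun M := ⟨((M : GL (Fin 2) F).1 0 0, (M : GL (Fin 2) F).1 1 0), by
    have hd : (M : GL (Fin 2) F).1.det ≠ 0 := Matrix.GeneralLinearGroup.det_ne_zero _
    rw [det_fin_two] at hd
    obtain ⟨h1, h2⟩ := M.2
    rw [← h1, h2] at hd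
    intro h
    apply hd
    show (M : GL (Fin 2) F).1 0 0 * (M : GL (Fin 2) F).1 0 0 -
      -(M : GL (Fin 2) F).1 1 0 * (M : GL (Fin 2) F).1 1 0 = 0
    linear_combination h⟩
  invFun p := ⟨Matrix.GeneralLinearGroup.mkOfDetNeZero !![p.1.1, -p.1.2; p.1.2, p.1.1] (by
    rw [det_fin_two]
    intro h
    apply p.2
    simp at h
    linear_combination h), by
    constructor <;> simp [Matrix.GeneralLinearGroup.mkOfDetNeZero]⟩
  left_inv M := by
    apply Subtype.ext
    obtain ⟨h1, h2⟩ := M.2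
    apply gl2_ext
    · simp [Matrix.GeneralLinearGroup.mkOfDetNeZero]
    · simp [Matrix.GeneralLinearGroup.mkOfDetNeZero, h2]
    · simp [Matrix.GeneralLinearGroup.mkOfDetNeZero]
    · simp [Matrix.GeneralLinearGroup.mkOfDetNeZero, h1]
  right_inv p := by
    apply Subtype.ext
    simp [Matrix.GeneralLinearGroup.mkOfDetNeZero]

theorem card_torG (hns : ¬IsSquare (-1 : F)) : Nat.card (torG F) = Fintype.card F ^ 2 - 1 := by
  classical
  rw [Nat.card_congr (torGEquiv F)]
  have e : {p : F × F // p.1 ^ 2 + p.2 ^ 2 ≠ 0} ≃ {p : F × F // ¬(p = 0)} :=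
    Equiv.subtypeEquivRight (fun p => by
      rw [Ne, sq_add_sq_eq_zero_iff hns, Prod.ext_iff]
      rfl)
  rw [Nat.card_congr e, Nat.card_eq_fintype_card, Fintype.card_subtype_compl,
    Fintype.card_subtype_eq, Fintype.card_prod, pow_two]

theorem index_torG (h2 : (2 : F) ≠ 0) : ((torG F).subgroupOf (torGN F)).index = 2 := by
  rw [Subgroup.index_eq_two_iff]
  refine ⟨⟨refl0 F, Or.inr isRefG_refl0⟩, ?_⟩
  rintro ⟨b, hb⟩
  rw [Subgroup.mem_subgroupOf, Subgroup.mem_subgroupOf]
  show Xor (IsRotG (b * refl0 F)) (IsRotG b)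
  rcases hb with hb | hb
  · right
    refine ⟨hb, fun h => ?_⟩
    exact not_rotG_and_refG h2 _ ⟨h, hb.mul_ref isRefG_refl0⟩
  · left
    refine ⟨hb.mul isRefG_refl0, fun h => ?_⟩
    exact not_rotG_and_refG h2 _ ⟨h, hb⟩

theorem card_torGN (hns : ¬IsSquare (-1 : F)) (h2 : (2 : F) ≠ 0) :
    Nat.card (torGN F) = 2 * (Fintype.card F ^ 2 - 1) := by
  have h1 := Subgroup.card_mul_index ((torG F).subgroupOf (torGN F))
  rw [index_torG h2, Nat.card_congr (Subgroup.subgroupOfEquivOfLe torG_le).toEquiv,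
    card_torG hns] at h1
  rw [← h1, mul_comm]

theorem v2_card_sub_one (hq : 4 ∣ Fintype.card F + 1) : padicValNat 2 (Fintype.card F - 1) = 1 := by
  apply v2_of_mod_four
  have := mod_four_of_dvd _ hq
  omega

theorem odd_of_dvd (hq : 4 ∣ Fintype.card F + 1) : Odd (Fintype.card F) := by
  rw [Nat.odd_iff]
  have := mod_four_of_dvd _ hq
  omega

theorem fact_GL2 (hq : 4 ∣ Fintype.card F + 1) :
    (Nat.card GL2).factorization 2 = padicValNat 2 (Fintype.card F ^ 2 - 1) + 1 := by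
  have hq1 : 1 < Fintype.card F := Fintype.one_lt_card
  have hodd := odd_of_dvd hq
  rw [Nat.factorization_def _ Nat.prime_two, Cfsg.Agent.Lib.Helper4.card_GL2]
  have h2 : Fintype.card F ^ 2 - Fintype.card F = Fintype.card F * (Fintype.card F - 1) := by
    rw [Nat.mul_sub, mul_one, pow_two]
  rw [h2, padicValNat.mul (pow_sub_one_ne_zero _ 2 hq1 (by omega)) (by
      apply Nat.mul_ne_zero <;> omega),
    padicValNat.mul (by omega) (by omega), v2_odd _ hodd, v2_card_sub_one hq]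

theorem fact_torGN (hq : 4 ∣ Fintype.card F + 1) (h2 : (2 : F) ≠ 0) :
    (Nat.card (torGN F)).factorization 2 = (Nat.card GL2).factorization 2 := by
  have hq1 : 1 < Fintype.card F := Fintype.one_lt_card
  rw [fact_GL2 hq, Nat.factorization_def _ Nat.prime_two,
    card_torGN (not_isSquare_neg_one hq) h2,
    padicValNat.mul (by norm_num) (pow_sub_one_ne_zero _ 2 hq1 (by omega)), padicValNat_self,
    add_comm]

end card

section sylow

variable {F : Type*} [Field F] [Fintype F]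

local notation "GL2" => GL (Fin 2) F

/-- determinants of elements of a `2`-subgroup are `±1` -/
theorem det_pm (hq : 4 ∣ Fintype.card F + 1) (Q : Subgroup GL2) (hQ2 : IsPGroup 2 Q) (x : GL2)
    (hx : x ∈ Q) :
    Matrix.GeneralLinearGroup.det x = 1 ∨ Matrix.GeneralLinearGroup.det x = -1 := by
  classical
  obtain ⟨k, hk⟩ := hQ2 ⟨x, hx⟩
  have hk' : x ^ 2 ^ k = 1 := congrArg Subtype.val hk
  set u := Matrix.GeneralLinearGroup.det x with hu
  have h1 : u ^ 2 ^ k = 1 := by
    rw [hu, ← map_pow, hk', map_one]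
  have h2 : u ^ (Fintype.card F - 1) = 1 := by
    rw [← Fintype.card_units]
    exact pow_card_eq_one
  have hd1 : orderOf u ∣ 2 ^ k := orderOf_dvd_of_pow_eq_one h1
  have hd2 : orderOf u ∣ Fintype.card F - 1 := orderOf_dvd_of_pow_eq_one h2
  obtain ⟨j, hj, hoj⟩ := (Nat.dvd_prime_pow Nat.prime_two).mp hd1
  have hj1 : j ≤ 1 := by
    by_contra hcon
    push Not at hcon
    have h4 : 4 ∣ orderOf u := by
      rw [hoj]
      exact pow_dvd_pow 2 hcon
    have h5 := h4.trans hd2
    have hq1 : 1 < Fintype.card F := Fintype.one_lt_card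
    obtain ⟨a, ha⟩ := h5
    obtain ⟨b, hb⟩ := hq
    omega
  have h3 : u ^ 2 = 1 := by
    apply orderOf_dvd_iff_pow_eq_one.mp
    rw [hoj]
    exact pow_dvd_pow 2 hj1
  have h4 : (u : F) * (u : F) = 1 := by
    have := congrArg Units.val h3
    rwa [pow_two, Units.val_mul, Units.val_one] at this
  rcases mul_self_eq_one_iff.mp h4 with h | h
  · left
    exact Units.ext h
  · right
    apply Units.ext
    rw [h, Units.val_neg, Units.val_one]

/-- a `2`-subgroup of the torus normaliser containing the quarter turn and a reflection-type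
element has `EA` -/
theorem EA_of_le_torGN (hq : 4 ∣ Fintype.card F + 1) (Q : Subgroup GL2) (hQ2 : IsPGroup 2 Q)
    (hQ : Q ≤ torGN F) (hr : rquartG F ∈ Q) (g : GL2) (hgQ : g ∈ Q) (hg : IsRefG g) : EA ↥Q := by
  apply EA_of_sq_mem
  have hcomm : ∀ x ∈ Q, IsRotG x →
      sc (Matrix.GeneralLinearGroup.det x) * (x ^ 2)⁻¹ ∈ ⁅Q, Q⁆ := by
    intro x hx hrot
    have h1 : ⁅g, x⁆ ∈ ⁅Q, Q⁆ := Subgroup.commutator_mem_commutator hgQ hx
    have h2 : ⁅g, x⁆ = sc (Matrix.GeneralLinearGroup.det x) * (x ^ 2)⁻¹ := by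
      rw [commutatorElement_def, hg.conj_rot hrot, pow_two, _root_.mul_inv_rev, mul_assoc]
    rwa [h2] at h1
  have hrot1 : ∀ x ∈ Q, IsRotG x → Matrix.GeneralLinearGroup.det x = 1 → x ^ 2 ∈ ⁅Q, Q⁆ := by
    intro x hx hrot hd
    have := hcomm x hx hrot
    rw [hd, sc_one, one_mul] at this
    exact (Subgroup.inv_mem_iff _).mp this
  have hneg : sc (-1 : Fˣ) ∈ ⁅Q, Q⁆ := by
    have := hrot1 _ hr isRotG_rquartG det_rquartG
    rwa [pow_two, rquartG_sq] at this
  intro x hx
  rcases det_pm hq Q hQ2 x hx with hd | hd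
  · rcases hQ hx with hrot | href
    · exact hrot1 x hx hrot hd
    · rw [pow_two, href.sq_eq, hd]
      exact hneg
  · rcases hQ hx with hrot | href
    · have := hcomm x hx hrot
      rw [hd] at this
      have h3 : x ^ 2 = (sc (-1 : Fˣ) * (x ^ 2)⁻¹)⁻¹ * sc (-1 : Fˣ) := by group
      rw [h3]
      exact Subgroup.mul_mem _ (Subgroup.inv_mem _ this) hneg
    · rw [pow_two, href.sq_eq, hd, neg_neg, sc_one]
      exact Subgroup.one_mem _

/-- a Sylow 2-subgroup of `GL₂(F)` inside the torus normaliser -/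
theorem exists_good_sylow_gl2 (hq : 4 ∣ Fintype.card F + 1) (h2 : (2 : F) ≠ 0) :
    ∃ P : Sylow 2 GL2, (P : Subgroup GL2) ≤ torGN F ∧ rquartG F ∈ (P : Subgroup GL2) ∧
      ∃ g ∈ (P : Subgroup GL2), IsRefG g := by
  have hns := not_isSquare_neg_one hq
  have hq1 : 1 < Fintype.card F := Fintype.one_lt_card
  let rN : ↥(torGN F) := ⟨rquartG F, Or.inl isRotG_rquartG⟩
  have hrN : IsPGroup 2 (Subgroup.zpowers rN) := by
    rintro ⟨_, k, rfl⟩
    refine ⟨2, ?_⟩
    apply Subtype.ext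
    apply Subtype.ext
    show ((rquartG F) ^ k) ^ (2 ^ 2) = 1
    rw [← zpow_natCast, ← _root_.zpow_mul, mul_comm, _root_.zpow_mul, zpow_natCast]
    have : (2 : ℕ) ^ 2 = 4 := by norm_num
    rw [this, rquartG_pow_four, _root_.one_zpow]
  obtain ⟨Q₀, hQ₀⟩ := IsPGroup.exists_le_sylow hrN
  let Q : Subgroup GL2 := (Q₀ : Subgroup ↥(torGN F)).map (torGN F).subtype
  have hQle : Q ≤ torGN F := by
    rintro _ ⟨x, _, rfl⟩
    exact x.2
  have hrQ : rquartG F ∈ Q := ⟨rN, hQ₀ (Subgroup.mem_zpowers rN), rfl⟩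
  have hcardQ : Nat.card Q = 2 ^ (Nat.card GL2).factorization 2 := by
    rw [Subgroup.card_map_of_injective (torGN F).subtype_injective, Q₀.card_eq_multiplicity,
      fact_torGN hq h2]
  have hex : ∃ g ∈ Q, IsRefG g := by
    by_contra hno
    push Not at hno
    have hle : (Q₀ : Subgroup ↥(torGN F)) ≤ (torG F).subgroupOf (torGN F) := by
      intro x hx
      rw [Subgroup.mem_subgroupOf]
      have hxQ : (x : GL2) ∈ Q := ⟨x, hx, rfl⟩
      rcases x.2 with h | h
      · exact h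
      · exact absurd h (hno _ hxQ)
    have hdvd := Subgroup.card_dvd_of_le hle
    rw [Q₀.card_eq_multiplicity, Nat.card_congr (Subgroup.subgroupOfEquivOfLe torG_le).toEquiv,
      card_torGN hns h2, card_torG hns] at hdvd
    set c := Fintype.card F ^ 2 - 1 with hc
    have hcpos : c ≠ 0 := pow_sub_one_ne_zero _ 2 hq1 (by omega)
    have h3 : (2 * c).factorization 2 = c.factorization 2 + 1 := by
      rw [Nat.factorization_mul (by norm_num) hcpos]
      simp [Nat.Prime.factorization_self Nat.prime_two]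
      ring
    rw [h3] at hdvd
    exact Nat.pow_succ_factorization_not_dvd hcpos Nat.prime_two hdvd
  obtain ⟨P₀, hP₀⟩ := exists_sylow_eq 2 Q hcardQ
  refine ⟨P₀, ?_, ?_, ?_⟩
  · rw [hP₀]; exact hQle
  · rw [hP₀]; exact hrQ
  · rw [hP₀]; exact hex

/-- the Sylow 2-subgroups of `GL₂(F)`, `|F| ≡ 3 (mod 4)` -/
theorem EA_sylow_gl2 (hq : 4 ∣ Fintype.card F + 1) (h2 : (2 : F) ≠ 0) (P : Sylow 2 GL2) :
    EA ↥(P : Subgroup GL2) := by
  obtain ⟨P₀, hle, hr, g, hg, hgref⟩ := exists_good_sylow_gl2 hq h2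
  apply EA_sylow_of_one 2 P₀ _ P
  exact EA_of_le_torGN hq _ P₀.isPGroup' hle hr g hg hgref

end sylow

end Cfsg.Agent.Lib.Helper6.GLS
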