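import Mathlib
import Cfsg.Agent.Lib.Helper6.SW2
import Cfsg.Agent.Lib.Helper6.GLS2
import Cfsg.Agent.Lib.Helper4.SLCard

set_option autoImplicit false
set_option linter.unusedSectionVars false
set_option linter.unusedVariables false
set_option linter.unusedSimpArgs false

/-! The 2-parts of the orders of `GL_n(q)` and `SL_n(q)` for `q ≡ 3 (mod 4)`. -/

namespace Cfsg.Agent.Lib.Helper6.BW

open Matrix Cfsg.Agent.Lib.Helper6.SW Cfsg.Agent.Lib.Helper6.GLS
open Nat

section arith

variable (q : ℕ)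

theorem v2_finset_prod {α : Type*} (s : Finset α) (f : α → ℕ) (hf : ∀ i ∈ s, f i ≠ 0) :
    padicValNat 2 (∏ i ∈ s, f i) = ∑ i ∈ s, padicValNat 2 (f i) := by
  classical
  induction s using Finset.induction_on with
  | empty => simp
  | insert a s ha ih =>
    rw [Finset.prod_insert ha, Finset.sum_insert ha,
      padicValNat.mul (hf a (Finset.mem_insert_self a s))
        (Finset.prod_ne_zero_iff.mpr fun i hi => hf i (Finset.mem_insert_of_mem hi)),
      ih fun i hi => hf i (Finset.mem_insert_of_mem hi)]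

theorem pow_sub_pow_eq (n i : ℕ) (hi : i < n) : q ^ n - q ^ i = q ^ i * (q ^ (n - i) - 1) := by
  rw [Nat.mul_sub, mul_one, ← pow_add]
  congr 2
  omega

/-- the 2-adic valuation of `|GL_n(q)|` -/
theorem v2_gl_prod (hq : Odd q) (hq1 : 1 < q) (n : ℕ) :
    padicValNat 2 (∏ i ∈ Finset.range n, (q ^ n - q ^ i)) =
      ∑ j ∈ Finset.range n, padicValNat 2 (q ^ (j + 1) - 1) := by
  rw [v2_finset_prod]
  · rw [← Finset.sum_range_reflect (fun j => padicValNat 2 (q ^ (j + 1) - 1)) n]
    apply Finset.sum_congr rfl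
    intro i hi
    rw [Finset.mem_range] at hi
    rw [pow_sub_pow_eq q n i hi, padicValNat.mul (pow_ne_zero _ (by omega))
      (pow_sub_one_ne_zero q _ hq1 (by omega)), padicValNat.pow, v2_odd q hq,
      mul_zero, zero_add]
    congr 3
    omega
  · intro i hi
    rw [Finset.mem_range] at hi
    rw [pow_sub_pow_eq q n i hi]
    exact Nat.mul_ne_zero (pow_ne_zero _ (by omega)) (pow_sub_one_ne_zero q _ hq1 (by omega))

theorem pow_odd_mod_four (h : q % 4 = 3) (k : ℕ) : q ^ (2 * k + 1) % 4 = 3 := by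
  induction k with
  | zero => simpa using h
  | succ k ih =>
    have : q ^ (2 * (k + 1) + 1) = q ^ (2 * k + 1) * (q * q) := by ring
    rw [this, Nat.mul_mod, ih, Nat.mul_mod q q, h]

theorem v2_pow_odd_sub_one (h : q % 4 = 3) (k : ℕ) : padicValNat 2 (q ^ (2 * k + 1) - 1) = 1 := by
  apply v2_of_mod_four
  have := pow_odd_mod_four q h k
  omega

theorem sum_v2_even (hq : Odd q) (hq1 : 1 < q) (h : q % 4 = 3) (m : ℕ) :
    ∑ j ∈ Finset.range (2 * m), padicValNat 2 (q ^ (j + 1) - 1) =
      m * (padicValNat 2 (q ^ 2 - 1) + 1) + padicValNat 2 m ! := by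
  induction m with
  | zero => simp
  | succ m ih =>
    have e : 2 * (m + 1) = 2 * m + 1 + 1 := by ring
    rw [e, Finset.sum_range_succ, Finset.sum_range_succ, ih, v2_pow_odd_sub_one q h m,
      show 2 * m + 1 + 1 = 2 * (m + 1) by ring, v2_pow_sub_one q (m + 1) hq hq1 (by omega),
      Nat.factorial_succ, padicValNat.mul (by omega) (Nat.factorial_ne_zero m)]
    ring

theorem sum_v2_odd (hq : Odd q) (hq1 : 1 < q) (h : q % 4 = 3) (m : ℕ) :
    ∑ j ∈ Finset.range (2 * m + 1), padicValNat 2 (q ^ (j + 1) - 1) =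
      m * (padicValNat 2 (q ^ 2 - 1) + 1) + padicValNat 2 m ! + 1 := by
  rw [Finset.sum_range_succ, sum_v2_even q hq hq1 h m, v2_pow_odd_sub_one q h m]

end arith

section card

variable {F : Type*} [Field F] [Fintype F]

theorem fact_GL (hq : 4 ∣ Fintype.card F + 1) (n : ℕ) :
    (Nat.card (GL (Fin n) F)).factorization 2 =
      ∑ j ∈ Finset.range n, padicValNat 2 (Fintype.card F ^ (j + 1) - 1) := by
  have hq1 : 1 < Fintype.card F := Fintype.one_lt_card
  rw [Nat.factorization_def _ Nat.prime_two, Matrix.card_GL_field,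
    Fin.prod_univ_eq_prod_range (fun i => Fintype.card F ^ n - Fintype.card F ^ i) n,
    v2_gl_prod _ (odd_of_dvd hq) hq1 n]

theorem fact_GL_even (hq : 4 ∣ Fintype.card F + 1) (m : ℕ) :
    (Nat.card (GL (Fin (2 * m)) F)).factorization 2 =
      m * (Nat.card (GL (Fin 2) F)).factorization 2 + (m !).factorization 2 := by
  have hq1 : 1 < Fintype.card F := Fintype.one_lt_card
  rw [fact_GL hq, sum_v2_even _ (odd_of_dvd hq) hq1 (mod_four_of_dvd _ hq), fact_GL2 hq,
    Nat.factorization_def _ Nat.prime_two]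

theorem fact_SL (hq : 4 ∣ Fintype.card F + 1) (n : ℕ) (hn : 0 < n) :
    (Nat.card (SpecialLinearGroup (Fin n) F)).factorization 2 + 1 =
      (Nat.card (GL (Fin n) F)).factorization 2 := by
  have hq1 : 1 < Fintype.card F := Fintype.one_lt_card
  have h := Cfsg.Agent.Lib.Helper4.card_SL_mul (F := F) n hn
  rw [← h, Nat.factorization_mul Nat.card_pos.ne' (by omega), Finsupp.add_apply,
    Nat.factorization_def (Fintype.card F - 1) Nat.prime_two, v2_card_sub_one hq]

theorem fact_SL_odd (hq : 4 ∣ Fintype.card F + 1) (m : ℕ) :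
    (Nat.card (SpecialLinearGroup (Fin (2 * m + 1)) F)).factorization 2 =
      m * (Nat.card (GL (Fin 2) F)).factorization 2 + (m !).factorization 2 := by
  have hq1 : 1 < Fintype.card F := Fintype.one_lt_card
  have h := fact_SL hq (2 * m + 1) (by omega)
  rw [fact_GL hq, sum_v2_odd _ (odd_of_dvd hq) hq1 (mod_four_of_dvd _ hq)] at h
  rw [fact_GL2 hq, Nat.factorization_def (m !) Nat.prime_two]
  omega

theorem fact_SL_even (hq : 4 ∣ Fintype.card F + 1) (m : ℕ) (hm : 0 < m) :
    (Nat.card (SpecialLinearGroup (Fin (2 * m)) F)).factorization 2 + 1 =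
      m * (Nat.card (GL (Fin 2) F)).factorization 2 + (m !).factorization 2 := by
  rw [fact_SL hq (2 * m) (by omega), fact_GL_even hq m]

end card

end Cfsg.Agent.Lib.Helper6.BW
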