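import Mathlib
import Cfsg.Agent.Lib.Helper6.SW1

set_option autoImplicit false
set_option linter.unusedSectionVars false
set_option linter.unusedVariables false
set_option linter.unusedSimpArgs false

/-! Sylow 2-subgroups of symmetric groups have elementary abelian abelianisation. -/

namespace Cfsg.Agent.Lib.Helper6.SW

section data

variable {κ B R : Type*}

/-- permuting inside the blocks -/
def pg₁ (κ B R : Type*) : (κ → Equiv.Perm B) →* Equiv.Perm ((κ × B) ⊕ R) where
  toFun d :=
    { toFun := Sum.map (fun p => (p.1, d p.1 p.2)) id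
      invFun := Sum.map (fun p => (p.1, (d p.1).symm p.2)) id
      left_inv := by rintro (⟨k, b⟩ | r) <;> simp
      right_inv := by rintro (⟨k, b⟩ | r) <;> simp }
  map_one' := by
    ext (⟨k, b⟩ | r) <;> rfl
  map_mul' d d' := by
    ext (⟨k, b⟩ | r) <;> rfl

/-- permuting the blocks -/
def pg₂ (κ B R : Type*) : Equiv.Perm κ →* Equiv.Perm ((κ × B) ⊕ R) where
  toFun σ :=
    { toFun := Sum.map (fun p => (σ p.1, p.2)) id
      invFun := Sum.map (fun p => (σ.symm p.1, p.2)) id
      left_inv := by rintro (⟨k, b⟩ | r) <;> simp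
      right_inv := by rintro (⟨k, b⟩ | r) <;> simp }
  map_one' := by
    ext (⟨k, b⟩ | r) <;> rfl
  map_mul' σ τ := by
    ext (⟨k, b⟩ | r) <;> rfl

theorem pg₁_inl (d : κ → Equiv.Perm B) (k : κ) (b : B) :
    pg₁ κ B R d (Sum.inl (k, b)) = Sum.inl (k, d k b) := rfl

theorem pg₁_inr (d : κ → Equiv.Perm B) (r : R) : pg₁ κ B R d (Sum.inr r) = Sum.inr r := rfl

theorem pg₂_inl (σ : Equiv.Perm κ) (k : κ) (b : B) :
    pg₂ κ B R σ (Sum.inl (k, b)) = Sum.inl (σ k, b) := rfl

theorem pg₂_inr (σ : Equiv.Perm κ) (r : R) : pg₂ κ B R σ (Sum.inr r) = Sum.inr r := rfl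

theorem pg_compat (σ : Equiv.Perm κ) (d : κ → Equiv.Perm B) :
    pg₂ κ B R σ * pg₁ κ B R d * (pg₂ κ B R σ)⁻¹ = pg₁ κ B R (d ∘ σ.symm) := by
  rw [mul_inv_eq_iff_eq_mul]
  ext (⟨k, b⟩ | r)
  · rw [Equiv.Perm.mul_apply, Equiv.Perm.mul_apply, pg₁_inl, pg₂_inl, pg₂_inl, pg₁_inl,
      Function.comp_apply, Equiv.symm_apply_apply]
  · rfl

theorem pg_inj [Nonempty B] (d : κ → Equiv.Perm B) (σ : Equiv.Perm κ)
    (h : pg₁ κ B R d * pg₂ κ B R σ = 1) : d = 1 ∧ σ = 1 := by
  have key : ∀ k b, (Sum.inl (σ k, d (σ k) b) : (κ × B) ⊕ R) = Sum.inl (k, b) := by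
    intro k b
    have := congrArg (fun τ : Equiv.Perm ((κ × B) ⊕ R) => τ (Sum.inl (k, b))) h
    simpa [Equiv.Perm.mul_apply, pg₁_inl, pg₂_inl] using this
  have hσ : σ = 1 := by
    ext k
    obtain ⟨b⟩ := ‹Nonempty B›
    have := Sum.inl_injective (key k b)
    exact congrArg Prod.fst this
  subst hσ
  refine ⟨?_, rfl⟩
  funext k
  ext b
  have := Sum.inl_injective (key k b)
  exact congrArg Prod.snd this

/-- the wreath product data for symmetric groups -/
def permData (κ B R : Type*) [Nonempty B] :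
    WrData (Equiv.Perm ((κ × B) ⊕ R)) (Equiv.Perm B) κ where
  f₁ := pg₁ κ B R
  f₂ := pg₂ κ B R
  compat := pg_compat
  inj := pg_inj

end data

section induction

theorem EA_of_subsingleton (P : Type*) [Group P] [Subsingleton P] : EA P := by
  intro x
  rw [Subsingleton.elim (x ^ 2) 1]
  exact Subgroup.one_mem _

theorem EA_of_card_two (P : Type*) [Group P] [Finite P] (h : Nat.card P = 2) : EA P := by
  intro x
  have : x ^ 2 = 1 := by
    rw [← h]
    exact pow_card_eq_one'
  rw [this]
  exact Subgroup.one_mem _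

theorem fact_factorial (m r : ℕ) (hr : r < 2) :
    ((2 * m + r).factorial).factorization 2 = m + (m.factorial).factorization 2 := by
  rw [Nat.factorization_def _ Nat.prime_two, Nat.factorization_def _ Nat.prime_two,
    padicValNat_factorial_mul_add m hr, padicValNat_factorial_mul, add_comm]

/-- Sylow 2-subgroups of symmetric groups -/
theorem EA_sylow_perm : ∀ (N : ℕ) (α : Type) [Fintype α] [DecidableEq α], Fintype.card α = N →
    ∀ P : Sylow 2 (Equiv.Perm α), EA ↥(P : Subgroup (Equiv.Perm α)) := by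
  intro N
  induction N using Nat.strong_induction_on with
  | _ N ih =>
    intro α _ _ hα P
    rcases Nat.eq_zero_or_pos N with h0 | hpos
    · subst h0
      have : IsEmpty α := Fintype.card_eq_zero_iff.mp hα
      have : Subsingleton (Equiv.Perm α) := ⟨fun a b => Equiv.ext fun x => isEmptyElim x⟩
      exact EA_of_subsingleton _
    · -- the decomposition of `α`
      obtain ⟨m, r, hr, hN⟩ : ∃ m r, r < 2 ∧ N = 2 * m + r :=
        ⟨N / 2, N % 2, Nat.mod_lt _ (by norm_num), (Nat.div_add_mod N 2).symm⟩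
      have hm : m < N := by omega
      let Y : Type := (Fin m × Fin 2) ⊕ Fin r
      have hY : Fintype.card Y = Fintype.card α := by
        rw [hα, hN]
        simp only [Y, Fintype.card_sum, Fintype.card_prod, Fintype.card_fin]
        ring
      let e : Y ≃ α := Fintype.equivOfCardEq hY
      let ε : Equiv.Perm Y ≃* Equiv.Perm α := e.permCongrHom
      obtain ⟨T⟩ : Nonempty (Sylow 2 (Equiv.Perm (Fin m))) := inferInstance
      have hT : EA ↥(T : Subgroup (Equiv.Perm (Fin m))) := ih m hm (Fin m) (Fintype.card_fin m) T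
      let W := permData (Fin m) (Fin 2) (Fin r)
      have h2 : Nat.card (⊤ : Subgroup (Equiv.Perm (Fin 2))) = 2 := by
        rw [Subgroup.card_top, Nat.card_eq_fintype_card, Fintype.card_perm, Fintype.card_fin]
        rfl
      have hQ : EA ↥(⊤ : Subgroup (Equiv.Perm (Fin 2))) := EA_of_card_two _ h2
      have hEA := W.EA_sub ⊤ (T : Subgroup (Equiv.Perm (Fin m))) hQ hT
      have hcard := W.card_sub ⊤ (T : Subgroup (Equiv.Perm (Fin m)))
      rw [h2, T.card_eq_multiplicity, Nat.card_eq_fintype_card (α := Fin m), Fintype.card_fin,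
        Nat.card_eq_fintype_card (α := Equiv.Perm (Fin m)), Fintype.card_perm, Fintype.card_fin,
        ← pow_add, ← fact_factorial m r hr, ← hN] at hcard
      generalize W.sub ⊤ (T : Subgroup (Equiv.Perm (Fin m))) = S₀ at hEA hcard
      -- transport to `Perm α`
      have hcard' : Nat.card (S₀.map ε.toMonoidHom) =
          2 ^ (Nat.card (Equiv.Perm α)).factorization 2 := by
        rw [Subgroup.card_map_of_injective ε.injective, hcard, Nat.card_eq_fintype_card,
          Fintype.card_perm, hα]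
      obtain ⟨P₀, hP₀⟩ := exists_sylow_eq 2 (S₀.map ε.toMonoidHom) hcard'
      apply EA_sylow_of_one 2 P₀ _ P
      rw [hP₀]
      exact EA.of_mulEquiv (S₀.equivMapOfInjective ε.toMonoidHom ε.injective) hEA

end induction

end Cfsg.Agent.Lib.Helper6.SW
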