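import Mathlib
import Cfsg.Agent.Lib.Helper6.SW6
import Cfsg.Agent.Lib.Helper6.BW1
import Cfsg.Agent.Lib.Helper6.BW2
import Cfsg.Agent.Lib.Helper6.BW3

set_option autoImplicit false
set_option linter.unusedSectionVars false
set_option linter.unusedVariables false
set_option linter.unusedSimpArgs false

/-! Sylow 2-subgroups of `SL_{2m+1}(F)`, `|F| ≡ 3 (mod 4)`, have elementary abelian
abelianisation. -/

namespace Cfsg.Agent.Lib.Helper6.BW

open Matrix Cfsg.Agent.Lib.Helper6.SW Cfsg.Agent.Lib.Helper6.GLS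
open Nat

variable {F : Type*} [Field F] [Fintype F]

/-- the wreath product data `GL₂(F) ≀ Sₘ → SL_{2m+1}(F)` -/
noncomputable def slOddData (F : Type*) [Field F] (m : ℕ) :
    WrData (SpecialLinearGroup (Fin (2 * m + 1)) F) (GL (Fin 2) F) (Fin m) :=
  compData (blockData (Fin 2) (Fin m) F)
    ((slReindex F (Fintype.equivOfCardEq (α := (Fin 2 × Fin m) ⊕ Unit) (β := Fin (2 * m + 1))
      (by simp [Fintype.card_sum, Fintype.card_prod]))).toMonoidHom.comp
        (slEmb (Fin 2 × Fin m) F))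
    ((slReindex F _).injective.comp (slEmb_injective (Fin 2 × Fin m) F))

theorem EA_sylow_sl_odd (hq : 4 ∣ Fintype.card F + 1) (h2 : (2 : F) ≠ 0) (m : ℕ)
    (P : Sylow 2 (SpecialLinearGroup (Fin (2 * m + 1)) F)) :
    EA ↥(P : Subgroup (SpecialLinearGroup (Fin (2 * m + 1)) F)) := by
  obtain ⟨Q⟩ : Nonempty (Sylow 2 (GL (Fin 2) F)) := inferInstance
  obtain ⟨T⟩ : Nonempty (Sylow 2 (Equiv.Perm (Fin m))) := inferInstance
  have hQ := EA_sylow_gl2 hq h2 Q
  have hT := EA_sylow_perm m (Fin m) (Fintype.card_fin m) T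
  have hEA := (slOddData F m).EA_sub (Q : Subgroup (GL (Fin 2) F))
    (T : Subgroup (Equiv.Perm (Fin m))) hQ hT
  have hcard := (slOddData F m).card_sub (Q : Subgroup (GL (Fin 2) F))
    (T : Subgroup (Equiv.Perm (Fin m)))
  rw [Q.card_eq_multiplicity, T.card_eq_multiplicity, Nat.card_eq_fintype_card (α := Fin m),
    Fintype.card_fin, Nat.card_eq_fintype_card (α := Equiv.Perm (Fin m)), Fintype.card_perm,
    Fintype.card_fin, ← pow_mul, ← pow_add] at hcard
  generalize (slOddData F m).sub (Q : Subgroup (GL (Fin 2) F))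
    (T : Subgroup (Equiv.Perm (Fin m))) = S₀ at hEA hcard
  have hexp : (Nat.card (GL (Fin 2) F)).factorization 2 * m + (m !).factorization 2 =
      (Nat.card (SpecialLinearGroup (Fin (2 * m + 1)) F)).factorization 2 := by
    rw [fact_SL_odd hq m, mul_comm]
  rw [hexp] at hcard
  obtain ⟨P₀, hP₀⟩ := exists_sylow_eq 2 S₀ hcard
  apply EA_sylow_of_one 2 P₀ _ P
  rw [hP₀]
  exact hEA

end Cfsg.Agent.Lib.Helper6.BW
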