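import Mathlib
import Cfsg.Agent.Lib.Helper6.SW2
import Cfsg.Agent.Lib.Helper6.SW6
import Cfsg.Agent.Lib.Helper6.BW3

set_option autoImplicit false
set_option linter.unusedSectionVars false
set_option linter.unusedVariables false
set_option linter.unusedSimpArgs false

/-! The 2-parts of the orders of `GL_n(q)` for `q ≡ 1 (mod 4)` and `n` a power of two. -/

namespace Cfsg.Agent.Lib.Helper6.BW

open Matrix Cfsg.Agent.Lib.Helper6.SW
open Nat

section arith

variable (q : ℕ)

/-- lifting the exponent for `q ≡ 1 (mod 4)` -/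
theorem v2_pow_sub_one_of_four_dvd (h4 : 4 ∣ q - 1) (hq1 : 1 < q) (n : ℕ) (hn : n ≠ 0) :
    padicValNat 2 (q ^ n - 1) = padicValNat 2 (q - 1) + padicValNat 2 n := by
  have hpow : 1 < q ^ n := Nat.one_lt_pow hn hq1
  rw [← Nat.cast_inj (R := ℕ∞), Nat.cast_add]
  iterate 3 rw [padicValNat_eq_emultiplicity]
  · iterate 3 rw [← Int.natCast_emultiplicity]
    have h1 : ((q ^ n - 1 : ℕ) : ℤ) = (q : ℤ) ^ n - 1 ^ n := by
      rw [Nat.cast_sub (by omega)]
      push_cast
      simp
    have h2 : ((q - 1 : ℕ) : ℤ) = (q : ℤ) - 1 := by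
      rw [Nat.cast_sub (by omega)]
      simp
    have h3 : (4 : ℤ) ∣ (q : ℤ) - 1 := by
      rw [← h2]
      exact_mod_cast h4
    have h5 : ¬(2 : ℤ) ∣ (q : ℤ) := by
      intro h
      have : (2 : ℕ) ∣ q := by exact_mod_cast h
      obtain ⟨a, ha⟩ := h4
      omega
    rw [h1, h2]
    exact Int.two_pow_sub_pow' n h3 h5
  · exact hn
  · omega
  · omega

theorem v2_factorial_two_pow (k : ℕ) : ((2 ^ k)!).factorization 2 = 2 ^ k - 1 := by
  induction k with
  | zero => simp
  | succ k ih =>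
    have h := fact_factorial (2 ^ k) 0 (by norm_num)
    rw [add_zero] at h
    rw [pow_succ, mul_comm, h, ih]
    have : 0 < 2 ^ k := by positivity
    omega

theorem sum_v2_of_four_dvd (h4 : 4 ∣ q - 1) (hq1 : 1 < q) (n : ℕ) :
    ∑ j ∈ Finset.range n, padicValNat 2 (q ^ (j + 1) - 1) =
      n * padicValNat 2 (q - 1) + padicValNat 2 n ! := by
  induction n with
  | zero => simp
  | succ n ih =>
    rw [Finset.sum_range_succ, ih, v2_pow_sub_one_of_four_dvd q h4 hq1 (n + 1) (by omega),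
      Nat.factorial_succ, padicValNat.mul (by omega) (Nat.factorial_ne_zero n)]
    ring

end arith

section card

variable {F : Type*} [Field F] [Fintype F]

theorem odd_of_four_dvd_sub (hq : 4 ∣ Fintype.card F - 1) : Odd (Fintype.card F) := by
  have hq1 : 1 < Fintype.card F := Fintype.one_lt_card
  rw [Nat.odd_iff]
  obtain ⟨a, ha⟩ := hq
  omega

theorem fact_GL_one (hq : 4 ∣ Fintype.card F - 1) (n : ℕ) :
    (Nat.card (GL (Fin n) F)).factorization 2 =
      n * padicValNat 2 (Fintype.card F - 1) + padicValNat 2 n ! := by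
  have hq1 : 1 < Fintype.card F := Fintype.one_lt_card
  rw [Nat.factorization_def _ Nat.prime_two, Matrix.card_GL_field,
    Fin.prod_univ_eq_prod_range (fun i => Fintype.card F ^ n - Fintype.card F ^ i) n,
    v2_gl_prod _ (odd_of_four_dvd_sub hq) hq1 n, sum_v2_of_four_dvd _ hq hq1 n]

/-- the recursion for the 2-part of `|GL_{2^k}(q)|` -/
theorem fact_GL_two_pow_succ (hq : 4 ∣ Fintype.card F - 1) (k : ℕ) :
    (Nat.card (GL (Fin (2 ^ (k + 1))) F)).factorization 2 =
      2 * (Nat.card (GL (Fin (2 ^ k)) F)).factorization 2 + 1 := by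
  have e1 : padicValNat 2 (2 ^ (k + 1))! = 2 ^ (k + 1) - 1 := by
    rw [← Nat.factorization_def _ Nat.prime_two]
    exact v2_factorial_two_pow (k + 1)
  have e2 : padicValNat 2 (2 ^ k)! = 2 ^ k - 1 := by
    rw [← Nat.factorization_def _ Nat.prime_two]
    exact v2_factorial_two_pow k
  rw [fact_GL_one hq, fact_GL_one hq, e1, e2]
  have hpos : 0 < 2 ^ k := by positivity
  have h1 : 2 ^ (k + 1) = 2 * 2 ^ k := by ring
  rw [h1]
  have h2 : 2 * 2 ^ k - 1 = 2 * (2 ^ k - 1) + 1 := by omega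
  rw [h2]
  ring

end card

end Cfsg.Agent.Lib.Helper6.BW
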