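import Mathlib
import Cfsg.Prelude
import Cfsg.Agent.Lib.Helper1.ThompsonRelative
import Cfsg.Agent.Lib.Helper1.ThreeSubgroups
import Cfsg.Agent.Lib.Helper7.Subnormal
import Cfsg.Agent.Lib.Helper6.SylowMap

/-! Baumann subgroup: transport along automorphisms, `B(T₁) = B(T)` when `B(T) ≤ T₁`,
and the key normalizing lemma for `B(T)`-blocks. -/

set_option autoImplicit false
set_option linter.unusedSectionVars false
set_option linter.unusedVariables false
set_option linter.style.longLine false
open Cfsg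
open scoped commutatorElement

universe u

namespace Cfsg.Agent.Lib.Helper6.Bk

open Cfsg.Agent.Lib.Helper1 Cfsg.Agent.Lib.Helper7

variable {G : Type u} [Group G] {p : ℕ}

theorem map_symm_map (φ : G ≃* G) (A : Subgroup G) :
    (A.map φ.toMonoidHom).map φ.symm.toMonoidHom = A := by
  ext x
  constructor
  · rintro ⟨_, ⟨a, ha, rfl⟩, rfl⟩
    simpa using ha
  · intro hx
    exact ⟨φ x, ⟨x, hx, rfl⟩, by simp⟩

theorem map_map_symm (φ : G ≃* G) (A : Subgroup G) :
    (A.map φ.symm.toMonoidHom).map φ.toMonoidHom = A := by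
  ext x
  constructor
  · rintro ⟨_, ⟨a, ha, rfl⟩, rfl⟩
    simpa using ha
  · intro hx
    exact ⟨φ.symm x, ⟨x, hx, rfl⟩, by simp⟩

theorem maxElAbIn_map (φ : G ≃* G) {S A : Subgroup G} (hA : A ∈ maxElAbIn p S) :
    A.map φ.toMonoidHom ∈ maxElAbIn p (S.map φ.toMonoidHom) := by
  refine ⟨Subgroup.map_mono hA.1, isElementaryAbelian_map hA.2.1 _, ?_⟩
  intro B hB hBe
  have h1 : B.map φ.symm.toMonoidHom ≤ S := by
    have := Subgroup.map_mono (f := φ.symm.toMonoidHom) hB
    rwa [map_symm_map] at this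
  have h2 := hA.2.2 _ h1 (isElementaryAbelian_map hBe _)
  rw [Subgroup.card_map_of_injective φ.symm.injective] at h2
  rwa [Subgroup.card_map_of_injective φ.injective]

theorem thompsonOf_map_le (φ : G ≃* G) (S : Subgroup G) :
    (thompsonSubgroupOf p S).map φ.toMonoidHom ≤ thompsonSubgroupOf p (S.map φ.toMonoidHom) := by
  rw [Subgroup.map_le_iff_le_comap]
  nth_rewrite 1 [thompsonSubgroupOf_eq_sSup]
  apply sSup_le
  intro A hA
  rw [← Subgroup.map_le_iff_le_comap]
  exact le_thompsonSubgroupOf_of_mem (maxElAbIn_map φ hA)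

theorem thompsonOf_map (φ : G ≃* G) (S : Subgroup G) :
    thompsonSubgroupOf p (S.map φ.toMonoidHom) = (thompsonSubgroupOf p S).map φ.toMonoidHom := by
  apply le_antisymm _ (thompsonOf_map_le φ S)
  have h := thompsonOf_map_le (p := p) φ.symm (S.map φ.toMonoidHom)
  rw [map_symm_map] at h
  have h2 := Subgroup.map_mono (f := φ.toMonoidHom) h
  rwa [map_map_symm] at h2

theorem centralizer_map (φ : G ≃* G) (X : Subgroup G) :
    Subgroup.centralizer ((X.map φ.toMonoidHom : Subgroup G) : Set G) =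
      (Subgroup.centralizer (X : Set G)).map φ.toMonoidHom := by
  ext y
  constructor
  · intro hy
    refine ⟨φ.symm y, ?_, by simp⟩
    show φ.symm y ∈ Subgroup.centralizer (X : Set G)
    rw [Subgroup.mem_centralizer_iff]
    intro x hx
    have h1 := (Subgroup.mem_centralizer_iff.mp hy) (φ x) ⟨x, hx, rfl⟩
    apply φ.injective
    simpa using h1
  · rintro ⟨c, hc, rfl⟩
    rw [Subgroup.mem_centralizer_iff]
    rintro _ ⟨x, hx, rfl⟩
    have h1 := (Subgroup.mem_centralizer_iff.mp hc) x hx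
    show φ x * φ c = φ c * φ x
    rw [← map_mul, ← map_mul, h1]

theorem omegaOne_map (φ : G ≃* G) (X : Subgroup G) :
    omegaOne p (X.map φ.toMonoidHom) = (omegaOne p X).map φ.toMonoidHom := by
  unfold omegaOne
  rw [MonoidHom.map_closure]
  congr 1
  ext y
  constructor
  · rintro ⟨⟨x, hx, rfl⟩, hy⟩
    refine ⟨x, ⟨hx, ?_⟩, rfl⟩
    apply φ.injective
    rw [map_pow, map_one]
    exact hy
  · rintro ⟨x, ⟨hx, hxp⟩, rfl⟩
    refine ⟨⟨x, hx, rfl⟩, ?_⟩
    show (φ x) ^ p = 1
    rw [← map_pow, hxp, map_one]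

theorem centerThompsonOf_map (φ : G ≃* G) (S : Subgroup G) :
    centerThompsonOf p (S.map φ.toMonoidHom) = (centerThompsonOf p S).map φ.toMonoidHom := by
  unfold centerThompsonOf
  rw [thompsonOf_map, centralizer_map, Subgroup.map_inf _ _ _ φ.injective]

theorem baumannOf_map (φ : G ≃* G) (S : Subgroup G) :
    baumannSubgroupOf p (S.map φ.toMonoidHom) = (baumannSubgroupOf p S).map φ.toMonoidHom := by
  unfold baumannSubgroupOf
  rw [centerThompsonOf_map, omegaOne_map, centralizer_map, Subgroup.map_inf _ _ _ φ.injective]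

theorem omegaOne_le (X : Subgroup G) : omegaOne p X ≤ X := by
  unfold omegaOne
  rw [Subgroup.closure_le]
  intro x hx
  exact hx.1

theorem baumannOf_le (S : Subgroup G) : baumannSubgroupOf p S ≤ S := inf_le_left

/-- `J(S) ≤ B(S)`. -/
theorem thompsonOf_le_baumannOf (S : Subgroup G) :
    thompsonSubgroupOf p S ≤ baumannSubgroupOf p S := by
  refine le_inf (thompsonSubgroupOf_le_self p S) ?_
  rw [Subgroup.le_centralizer_iff]
  refine (omegaOne_le _).trans ?_
  exact inf_le_right

/-- `S` normalizes `B(S)`. -/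
theorem le_normalizer_baumannOf (S : Subgroup G) :
    S ≤ Subgroup.normalizer (baumannSubgroupOf p S : Set G) := by
  intro t ht
  apply mem_normalizer_of_map_conj_eq
  rw [← baumannOf_map, map_conj_eq_of_mem_normalizer (Subgroup.le_normalizer ht)]

/-- `S` normalizes `J(S)`. -/
theorem le_normalizer_thompsonOf (S : Subgroup G) :
    S ≤ Subgroup.normalizer (thompsonSubgroupOf p S : Set G) := by
  intro t ht
  apply mem_normalizer_of_map_conj_eq
  rw [← thompsonOf_map, map_conj_eq_of_mem_normalizer (Subgroup.le_normalizer ht)]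

theorem sylow_smul_eq_map (g : G) (Q : Sylow p G) :
    ((g • Q : Sylow p G) : Subgroup G) = (Q : Subgroup G).map (MulAut.conj g).toMonoidHom := by
  rw [Sylow.coe_subgroup_smul]
  rfl

/-- Two Sylow subgroups: if `J(T) ≤ T₁` then `J(T₁) = J(T)`. -/
theorem thompsonOf_eq_of_le [Finite G] [Fact p.Prime] (T T₁ : Sylow p G)
    (h : thompsonSubgroupOf p (T : Subgroup G) ≤ T₁) :
    thompsonSubgroupOf p (T₁ : Subgroup G) = thompsonSubgroupOf p (T : Subgroup G) := by
  obtain ⟨g, hg⟩ := MulAction.exists_smul_eq G T T₁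
  have hT₁ : (T₁ : Subgroup G) = (T : Subgroup G).map (MulAut.conj g).toMonoidHom := by
    rw [← hg]; exact sylow_smul_eq_map g T
  have hle : thompsonSubgroupOf p (T : Subgroup G) ≤ thompsonSubgroupOf p (T₁ : Subgroup G) := by
    nth_rewrite 1 [thompsonSubgroupOf_eq_sSup]
    apply sSup_le
    intro A hA
    apply le_thompsonSubgroupOf_of_mem
    refine ⟨(le_thompsonSubgroupOf_of_mem hA).trans h, hA.2.1, ?_⟩
    intro B hB hBe
    have h1 : B.map (MulAut.conj g).symm.toMonoidHom ≤ T := by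
      have := Subgroup.map_mono (f := (MulAut.conj g).symm.toMonoidHom) hB
      rwa [hT₁, map_symm_map] at this
    have h2 := hA.2.2 _ h1 (isElementaryAbelian_map hBe _)
    rwa [Subgroup.card_map_of_injective (MulAut.conj g).symm.injective] at h2
  have hcard : Nat.card (thompsonSubgroupOf p (T₁ : Subgroup G)) =
      Nat.card (thompsonSubgroupOf p (T : Subgroup G)) := by
    rw [hT₁, thompsonOf_map, Subgroup.card_map_of_injective (MulAut.conj g).injective]
  exact (Subgroup.eq_of_le_of_card_ge hle hcard.le).symm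

/-- Two Sylow subgroups: if `B(T) ≤ T₁` then `B(T₁) = B(T)`. -/
theorem baumannOf_eq_of_le [Finite G] [Fact p.Prime] (T T₁ : Sylow p G)
    (h : baumannSubgroupOf p (T : Subgroup G) ≤ T₁) :
    baumannSubgroupOf p (T₁ : Subgroup G) = baumannSubgroupOf p (T : Subgroup G) := by
  obtain ⟨g, hg⟩ := MulAction.exists_smul_eq G T T₁
  have hT₁ : (T₁ : Subgroup G) = (T : Subgroup G).map (MulAut.conj g).toMonoidHom := by
    rw [← hg]; exact sylow_smul_eq_map g T
  have hJ : thompsonSubgroupOf p (T₁ : Subgroup G) = thompsonSubgroupOf p (T : Subgroup G) :=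
    thompsonOf_eq_of_le T T₁ ((thompsonOf_le_baumannOf _).trans h)
  have hZ : centerThompsonOf p (T₁ : Subgroup G) = centerThompsonOf p (T : Subgroup G) := by
    unfold centerThompsonOf
    rw [hJ]
  have hle : baumannSubgroupOf p (T : Subgroup G) ≤ baumannSubgroupOf p (T₁ : Subgroup G) := by
    refine le_inf h ?_
    rw [hZ]
    exact inf_le_right
  have hcard : Nat.card (baumannSubgroupOf p (T₁ : Subgroup G)) =
      Nat.card (baumannSubgroupOf p (T : Subgroup G)) := by
    rw [hT₁, baumannOf_map, Subgroup.card_map_of_injective (MulAut.conj g).injective]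
  exact (Subgroup.eq_of_le_of_card_ge hle hcard.le).symm

theorem pResidualOf_eq_pResidualIn (E : Subgroup G) : pResidualOf p E = pResidualIn p E := rfl

/-- If `[E,B] = E` then `B` normalizes `E`. -/
theorem le_normalizer_of_commutator_eq {E B : Subgroup G} (hEB : ⁅E, B⁆ = E) :
    B ≤ Subgroup.normalizer (E : Set G) := by
  have := le_normalizer_commutator_right E B
  rwa [hEB] at this

/-- If `E = O^p(E)` and the `p`-group `B` normalizes `E`, then `O^p(B ⊔ E) = E`. -/
theorem pResidualOf_sup_eq [Fact p.Prime] {E B : Subgroup G} (hEp : pResidualOf p E = E)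
    (hB : IsPGroup p B) (hBE : B ≤ Subgroup.normalizer (E : Set G)) :
    pResidualOf p (B ⊔ E) = E := by
  apply le_antisymm
  · exact pResidualIn_sup_le hB hBE
  · conv_lhs => rw [← hEp]
    exact pResidualIn_mono p le_sup_right

/-- The key lemma: `E = O^p(E) = [E,B]`, `B` a `p`-group, `R` normalizes `B` and `E` normalizes
`R`: then `R` normalizes `E`. -/
theorem lemmaK [Finite G] [Fact p.Prime] {E B R : Subgroup G}
    (hEp : pResidualOf p E = E) (hEB : ⁅E, B⁆ = E) (hB : IsPGroup p B)
    (hRB : R ≤ Subgroup.normalizer (B : Set G)) (hER : E ≤ Subgroup.normalizer (R : Set G)) :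
    R ≤ Subgroup.normalizer (E : Set G) := by
  have hBE : B ≤ Subgroup.normalizer (E : Set G) := le_normalizer_of_commutator_eq hEB
  set N : Subgroup G := Subgroup.closure {x : G | ∃ e ∈ E, ∃ b ∈ B, x = e * b * e⁻¹} with hN
  have hN1 : N ≤ B ⊔ E := by
    rw [hN, Subgroup.closure_le]
    rintro _ ⟨e, he, b, hb, rfl⟩
    have he' : e ∈ B ⊔ E := (le_sup_right : E ≤ B ⊔ E) he
    have hb' : b ∈ B ⊔ E := (le_sup_left : B ≤ B ⊔ E) hb
    exact Subgroup.mul_mem _ (Subgroup.mul_mem _ he' hb') (Subgroup.inv_mem _ he')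
  have hBN : B ≤ N := by
    intro b hb
    apply Subgroup.subset_closure
    exact ⟨1, E.one_mem, b, hb, by simp⟩
  have hEN : E ≤ N := by
    conv_lhs => rw [← hEB]
    rw [Subgroup.commutator_le]
    intro e he b hb
    rw [commutatorElement_def]
    apply Subgroup.mul_mem _ _ (Subgroup.inv_mem _ (hBN hb))
    apply Subgroup.subset_closure
    exact ⟨e, he, b, hb, rfl⟩
  have hNeq : N = B ⊔ E := le_antisymm hN1 (sup_le hBN hEN)
  have hRN : R ≤ Subgroup.normalizer ((B ⊔ E : Subgroup G) : Set G) := by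
    intro r hr
    apply mem_normalizer_of_map_conj_le
    rw [← hNeq]
    nth_rewrite 1 [hN]
    rw [MonoidHom.map_closure, Subgroup.closure_le]
    rintro _ ⟨_, ⟨e, he, b, hb, rfl⟩, rfl⟩
    show r * (e * b * e⁻¹) * r⁻¹ ∈ N
    have hr' : e⁻¹ * r * e ∈ R := by
      have := (Subgroup.mem_normalizer_iff.mp (hER (E.inv_mem he)) r).mp hr
      simpa using this
    have hb' : (e⁻¹ * r * e) * b * (e⁻¹ * r * e)⁻¹ ∈ B :=
      (Subgroup.mem_normalizer_iff.mp (hRB hr') b).mp hb
    have e1 : r * (e * b * e⁻¹) * r⁻¹ = e * ((e⁻¹ * r * e) * b * (e⁻¹ * r * e)⁻¹) * e⁻¹ := by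
      group
    rw [e1]
    apply Subgroup.subset_closure
    exact ⟨e, he, _, hb', rfl⟩
  have h2 := hRN.trans (normalizer_le_normalizer_pResidualIn p (B ⊔ E))
  rw [← pResidualOf_eq_pResidualIn, pResidualOf_sup_eq hEp hB hBE] at h2
  exact h2

/-- Abstract form of the block normalizing lemma: `T` Sylow, `B = B(T)`, `E = O^p(E) = [E,B]`,
`R` a `p`-subgroup normalized by `B` and `E`: then `R` normalizes `E`. -/
theorem le_normalizer_of_block [Finite G] [Fact p.Prime] (T : Sylow p G) {E R : Subgroup G}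
    (hEp : pResidualOf p E = E) (hEB : ⁅E, baumannSubgroupOf p (T : Subgroup G)⁆ = E)
    (hR : IsPGroup p R)
    (hBR : baumannSubgroupOf p (T : Subgroup G) ≤ Subgroup.normalizer (R : Set G))
    (hER : E ≤ Subgroup.normalizer (R : Set G)) :
    R ≤ Subgroup.normalizer (E : Set G) := by
  have hBp : IsPGroup p (baumannSubgroupOf p (T : Subgroup G)) :=
    T.isPGroup'.to_le (baumannOf_le _)
  have hQB : IsPGroup p ((baumannSubgroupOf p (T : Subgroup G)) ⊔ R : Subgroup G) :=
    IsPGroup.to_sup_of_normal_right' hBp hR hBR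
  obtain ⟨T₁, hT₁⟩ := hQB.exists_le_sylow
  have hB1 : baumannSubgroupOf p (T₁ : Subgroup G) = baumannSubgroupOf p (T : Subgroup G) :=
    baumannOf_eq_of_le T T₁ (le_sup_left.trans hT₁)
  have hRnB : R ≤ Subgroup.normalizer (baumannSubgroupOf p (T : Subgroup G) : Set G) := by
    rw [← hB1]
    exact (le_sup_right.trans hT₁).trans (le_normalizer_baumannOf _)
  exact lemmaK hEp hEB hBp hRnB hER

end Cfsg.Agent.Lib.Helper6.Bk
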