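import Mathlib
import Cfsg.Agent.Lib.Helper6.SW2

set_option autoImplicit false
set_option linter.unusedSectionVars false
set_option linter.unusedVariables false
set_option linter.unusedSimpArgs false

/-! The number of points of the circle `x² + y² = 1` over a finite field of odd order. -/

namespace Cfsg.Agent.Lib.Helper6.SW

section circle

variable {F : Type*} [Field F] [Fintype F] [DecidableEq F]

theorem sum_quadChar_one_sub_sq (hF : ringChar F ≠ 2) :
    ∑ x : F, quadraticChar F (1 - x ^ 2) = -quadraticChar F (-1) := by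
  have h2 : (2 : F) ≠ 0 := Ring.two_ne_zero hF
  have hJ := jacobiSum_nontrivial_inv (quadraticChar_ne_one hF)
  rw [MulChar.IsQuadratic.inv (quadraticChar_isQuadratic F), jacobiSum] at hJ
  rw [← hJ]
  let e : F ≃ F := (Equiv.addLeft (1 : F)).trans (Equiv.mulRight₀ (2 : F)⁻¹ (inv_ne_zero h2))
  symm
  rw [← e.sum_comp (fun u => quadraticChar F u * quadraticChar F (1 - u))]
  apply Finset.sum_congr rfl
  intro x _
  have he : e x = (1 + x) * 2⁻¹ := rfl
  rw [he, ← map_mul]
  have h3 : (1 + x) * 2⁻¹ * (1 - (1 + x) * 2⁻¹) = (1 - x ^ 2) * ((2 : F)⁻¹) ^ 2 := by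
    field_simp
    ring
  rw [h3, map_mul, quadraticChar_sq_one' (inv_ne_zero h2), mul_one]

theorem card_circle (hF : ringChar F ≠ 2) :
    (Nat.card {p : F × F // p.1 ^ 2 + p.2 ^ 2 = 1} : ℤ) =
      Fintype.card F - quadraticChar F (-1) := by
  rw [Nat.card_eq_fintype_card, Fintype.card_subtype, Finset.card_filter, Fintype.sum_prod_type]
  have h1 : ∀ x : F, (∑ y : F, if x ^ 2 + y ^ 2 = 1 then 1 else 0 : ℕ) =
      ({y : F | y ^ 2 = 1 - x ^ 2}.toFinset).card := by
    intro x
    rw [← Finset.card_filter]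
    congr 1
    ext y
    simp only [Finset.mem_filter, Finset.mem_univ, true_and, Set.mem_toFinset, Set.mem_ofPred_eq]
    constructor
    · intro h; rw [← h]; ring
    · intro h; rw [h]; ring
  rw [Finset.sum_congr rfl (fun x _ => h1 x)]
  push_cast
  rw [Finset.sum_congr rfl (fun x _ => quadraticChar_card_sqrts hF (1 - x ^ 2)),
    Finset.sum_add_distrib, sum_quadChar_one_sub_sq hF]
  simp
  ring

end circle

section arith

theorem v2_two_mul (k : ℕ) (hk : k ≠ 0) : padicValNat 2 (2 * k) = 1 + padicValNat 2 k := by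
  rw [padicValNat.mul (by norm_num) hk, padicValNat_self]

theorem v2_eq_one_of_mod (k : ℕ) (hk : k % 4 = 2) : padicValNat 2 k = 1 := by
  obtain ⟨j, hj⟩ : ∃ j, k = 2 * j := ⟨k / 2, by omega⟩
  have hjo : Odd j := by
    rw [Nat.odd_iff]; omega
  rw [hj, v2_two_mul j (by rintro rfl; simp at hjo), v2_odd j hjo]

theorem sq_sub_one_eq (q : ℕ) : q ^ 2 - 1 = (q + 1) * (q - 1) := by
  have := Nat.sq_sub_sq q 1
  simpa using this

/-- the 2-part of twice the number of points on the circle, `q ≡ 1 (mod 4)` -/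
theorem v2_case_one (q : ℕ) (hq : q % 4 = 1) (hq1 : 1 < q) :
    padicValNat 2 (2 * (q - 1)) = padicValNat 2 (q * (q ^ 2 - 1)) := by
  have hodd : Odd q := by rw [Nat.odd_iff]; omega
  have h1 : padicValNat 2 ((q + 1) * (q - 1)) = padicValNat 2 (q + 1) + padicValNat 2 (q - 1) :=
    padicValNat.mul (by omega) (by omega)
  rw [v2_sl2 q hodd hq1, sq_sub_one_eq, h1,
    v2_eq_one_of_mod (q + 1) (by omega), v2_two_mul (q - 1) (by omega)]

/-- the 2-part of twice the number of points on the circle, `q ≡ 3 (mod 4)` -/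
theorem v2_case_three (q : ℕ) (hq : q % 4 = 3) (hq1 : 1 < q) :
    padicValNat 2 (2 * (q + 1)) = padicValNat 2 (q * (q ^ 2 - 1)) := by
  have hodd : Odd q := by rw [Nat.odd_iff]; omega
  have h1 : padicValNat 2 ((q + 1) * (q - 1)) = padicValNat 2 (q + 1) + padicValNat 2 (q - 1) :=
    padicValNat.mul (by omega) (by omega)
  rw [v2_sl2 q hodd hq1, sq_sub_one_eq, h1,
    v2_eq_one_of_mod (q - 1) (by omega), v2_two_mul (q + 1) (by omega), add_comm]

end arith

section combined

variable {F : Type*} [Field F] [Fintype F]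

theorem ringChar_ne_two_of_odd (hodd : Odd (Fintype.card F)) : ringChar F ≠ 2 := by
  intro h
  have h4 : ringChar F ∣ Fintype.card F := by
    rw [← ringChar.spec F (Fintype.card F)]
    exact FiniteField.cast_card_eq_zero F
  rw [h] at h4
  have := Nat.odd_iff.mp hodd
  omega

/-- twice the circle has the same 2-part as `q (q² - 1)` -/
theorem v2_circle (hodd : Odd (Fintype.card F)) :
    padicValNat 2 (2 * Nat.card {p : F × F // p.1 ^ 2 + p.2 ^ 2 = 1}) =
      padicValNat 2 (Fintype.card F * (Fintype.card F ^ 2 - 1)) := by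
  classical
  have hF := ringChar_ne_two_of_odd hodd
  have hq1 : 1 < Fintype.card F := Fintype.one_lt_card
  have hc := card_circle hF
  have hmod : Fintype.card F % 4 = 1 ∨ Fintype.card F % 4 = 3 := by
    have := Nat.odd_iff.mp hodd
    omega
  rcases hmod with h | h
  · have hsq : IsSquare (-1 : F) := FiniteField.isSquare_neg_one_iff.mpr (by omega)
    rw [(quadraticChar_one_iff_isSquare (neg_ne_zero.mpr one_ne_zero)).mpr hsq] at hc
    have : Nat.card {p : F × F // p.1 ^ 2 + p.2 ^ 2 = 1} = Fintype.card F - 1 := by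
      omega
    rw [this]
    exact v2_case_one _ h hq1
  · have hsq : ¬IsSquare (-1 : F) := by
      rw [FiniteField.isSquare_neg_one_iff]
      omega
    rw [quadraticChar_neg_one_iff_not_isSquare.mpr hsq] at hc
    have : Nat.card {p : F × F // p.1 ^ 2 + p.2 ^ 2 = 1} = Fintype.card F + 1 := by
      omega
    rw [this]
    exact v2_case_three _ h hq1

end combined

end Cfsg.Agent.Lib.Helper6.SW
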