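import Mathlib
import Cfsg.Agent.Lib.Helper6.SW1
import Cfsg.Agent.Lib.Helper6.SW7
import Cfsg.Agent.Lib.Helper6.OR4
import Cfsg.Agent.Lib.Helper4.SLCard

set_option autoImplicit false
set_option linter.unusedSectionVars false
set_option linter.unusedVariables false
set_option linter.unusedSimpArgs false

/-! The normaliser of the rotation torus in `SL₂(F)` and the Sylow 2-subgroups of `SL₂(F)`, `F`
finite of odd order: their abelianisation is elementary abelian. -/

namespace Cfsg.Agent.Lib.Helper6.SW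

open Matrix
open scoped commutatorElement

section entries

variable {F : Type*} [Field F]

local notation "SL2" => Matrix.SpecialLinearGroup (Fin 2) F
local notation "Mt" => Matrix (Fin 2) (Fin 2) F

theorem sl2_mul_00 (M M' : SL2) : ((M * M' : SL2) : Mt) 0 0 =
    (M : Mt) 0 0 * (M' : Mt) 0 0 + (M : Mt) 0 1 * (M' : Mt) 1 0 := by
  rw [Matrix.SpecialLinearGroup.coe_mul, Matrix.mul_apply, Fin.sum_univ_two]

theorem sl2_mul_01 (M M' : SL2) : ((M * M' : SL2) : Mt) 0 1 =
    (M : Mt) 0 0 * (M' : Mt) 0 1 + (M : Mt) 0 1 * (M' : Mt) 1 1 := by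
  rw [Matrix.SpecialLinearGroup.coe_mul, Matrix.mul_apply, Fin.sum_univ_two]

theorem sl2_mul_10 (M M' : SL2) : ((M * M' : SL2) : Mt) 1 0 =
    (M : Mt) 1 0 * (M' : Mt) 0 0 + (M : Mt) 1 1 * (M' : Mt) 1 0 := by
  rw [Matrix.SpecialLinearGroup.coe_mul, Matrix.mul_apply, Fin.sum_univ_two]

theorem sl2_mul_11 (M M' : SL2) : ((M * M' : SL2) : Mt) 1 1 =
    (M : Mt) 1 0 * (M' : Mt) 0 1 + (M : Mt) 1 1 * (M' : Mt) 1 1 := by
  rw [Matrix.SpecialLinearGroup.coe_mul, Matrix.mul_apply, Fin.sum_univ_two]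

theorem sl2_inv_00 (M : SL2) : ((M⁻¹ : SL2) : Mt) 0 0 = (M : Mt) 1 1 := by
  rw [Matrix.SpecialLinearGroup.coe_inv, adjugate_fin_two]; simp

theorem sl2_inv_01 (M : SL2) : ((M⁻¹ : SL2) : Mt) 0 1 = -(M : Mt) 0 1 := by
  rw [Matrix.SpecialLinearGroup.coe_inv, adjugate_fin_two]; simp

theorem sl2_inv_10 (M : SL2) : ((M⁻¹ : SL2) : Mt) 1 0 = -(M : Mt) 1 0 := by
  rw [Matrix.SpecialLinearGroup.coe_inv, adjugate_fin_two]; simp

theorem sl2_inv_11 (M : SL2) : ((M⁻¹ : SL2) : Mt) 1 1 = (M : Mt) 0 0 := by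
  rw [Matrix.SpecialLinearGroup.coe_inv, adjugate_fin_two]; simp

theorem sl2_det (M : SL2) : (M : Mt) 0 0 * (M : Mt) 1 1 - (M : Mt) 0 1 * (M : Mt) 1 0 = 1 := by
  have := M.2
  rw [det_fin_two] at this
  exact this

theorem sl2_ext (M M' : SL2) (h00 : (M : Mt) 0 0 = (M' : Mt) 0 0)
    (h01 : (M : Mt) 0 1 = (M' : Mt) 0 1) (h10 : (M : Mt) 1 0 = (M' : Mt) 1 0)
    (h11 : (M : Mt) 1 1 = (M' : Mt) 1 1) : M = M' := by
  apply Subtype.ext
  ext i j
  fin_cases i <;> fin_cases j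
  · exact h00
  · exact h01
  · exact h10
  · exact h11

/-- rotation-type matrices `(x, -y; y, x)` -/
def IsRot (M : SL2) : Prop := (M : Mt) 0 0 = (M : Mt) 1 1 ∧ (M : Mt) 0 1 = -(M : Mt) 1 0

/-- reflection-type matrices `(u, v; v, -u)` -/
def IsRef (M : SL2) : Prop := (M : Mt) 0 0 = -(M : Mt) 1 1 ∧ (M : Mt) 0 1 = (M : Mt) 1 0

theorem isRot_one : IsRot (1 : SL2) := by
  constructor <;> simp

theorem IsRot.mul {M M' : SL2} (h : IsRot M) (h' : IsRot M') : IsRot (M * M') := by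
  obtain ⟨h1, h2⟩ := h
  obtain ⟨h1', h2'⟩ := h'
  constructor
  · rw [sl2_mul_00, sl2_mul_11]; simp only [h1, h1', h2, h2']; ring
  · rw [sl2_mul_01, sl2_mul_10]; simp only [h1, h1', h2, h2']; ring

theorem IsRot.inv {M : SL2} (h : IsRot M) : IsRot M⁻¹ := by
  obtain ⟨h1, h2⟩ := h
  constructor
  · rw [sl2_inv_00, sl2_inv_11, h1]
  · rw [sl2_inv_01, sl2_inv_10, h2]

theorem IsRef.mul {M M' : SL2} (h : IsRef M) (h' : IsRef M') : IsRot (M * M') := by
  obtain ⟨h1, h2⟩ := h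
  obtain ⟨h1', h2'⟩ := h'
  constructor
  · rw [sl2_mul_00, sl2_mul_11]; simp only [h1, h1', h2, h2']; ring
  · rw [sl2_mul_01, sl2_mul_10]; simp only [h1, h1', h2, h2']; ring

theorem IsRot.mul_ref {M M' : SL2} (h : IsRot M) (h' : IsRef M') : IsRef (M * M') := by
  obtain ⟨h1, h2⟩ := h
  obtain ⟨h1', h2'⟩ := h'
  constructor
  · rw [sl2_mul_00, sl2_mul_11]; simp only [h1, h1', h2, h2']; ring
  · rw [sl2_mul_01, sl2_mul_10]; simp only [h1, h1', h2, h2']; ring

theorem IsRef.mul_rot {M M' : SL2} (h : IsRef M) (h' : IsRot M') : IsRef (M * M') := by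
  obtain ⟨h1, h2⟩ := h
  obtain ⟨h1', h2'⟩ := h'
  constructor
  · rw [sl2_mul_00, sl2_mul_11]; simp only [h1, h1', h2, h2']; ring
  · rw [sl2_mul_01, sl2_mul_10]; simp only [h1, h1', h2, h2']; ring

theorem IsRef.inv {M : SL2} (h : IsRef M) : IsRef M⁻¹ := by
  obtain ⟨h1, h2⟩ := h
  constructor
  · rw [sl2_inv_00, sl2_inv_11, h1]; ring
  · rw [sl2_inv_01, sl2_inv_10, h2]

theorem not_rot_and_ref (h2 : (2 : F) ≠ 0) (M : SL2) : ¬(IsRot M ∧ IsRef M) := by
  rintro ⟨⟨a1, a2⟩, ⟨b1, b2⟩⟩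
  have hd := sl2_det M
  have e1 : (M : Mt) 1 1 = 0 := by
    have : (2 : F) * (M : Mt) 1 1 = 0 := by linear_combination b1 - a1
    exact (mul_eq_zero.mp this).resolve_left h2
  have e2 : (M : Mt) 1 0 = 0 := by
    have : (2 : F) * (M : Mt) 1 0 = 0 := by linear_combination a2 - b2
    exact (mul_eq_zero.mp this).resolve_left h2
  rw [e1, e2] at hd
  simp at hd

/-- a reflection-type element inverts the rotation-type elements -/
theorem IsRef.conj_rot {g x : SL2} (hg : IsRef g) (hx : IsRot x) : g * x * g⁻¹ = x⁻¹ := by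
  rw [mul_inv_eq_iff_eq_mul]
  obtain ⟨h1, h2⟩ := hg
  obtain ⟨h1', h2'⟩ := hx
  apply sl2_ext
  · rw [sl2_mul_00, sl2_mul_00, sl2_inv_00, sl2_inv_01]; simp only [h1, h1', h2, h2']; ring
  · rw [sl2_mul_01, sl2_mul_01, sl2_inv_00, sl2_inv_01]; simp only [h1, h1', h2, h2']; ring
  · rw [sl2_mul_10, sl2_mul_10, sl2_inv_10, sl2_inv_11]; simp only [h1, h1', h2, h2']; ring
  · rw [sl2_mul_11, sl2_mul_11, sl2_inv_10, sl2_inv_11]; simp only [h1, h1', h2, h2']; ring

/-- the rotation by a quarter turn -/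
def rquart (F : Type*) [Field F] : Matrix.SpecialLinearGroup (Fin 2) F :=
  ⟨!![0, -1; 1, 0], by rw [det_fin_two]; simp⟩

theorem isRot_rquart : IsRot (rquart F) := by
  constructor <;> simp [rquart]

/-- a reflection-type element squares to the square of the quarter turn (namely `-1`) -/
theorem IsRef.sq_eq {g : SL2} (hg : IsRef g) : g * g = rquart F * rquart F := by
  have hd := sl2_det g
  obtain ⟨h1, h2⟩ := hg
  rw [h1, h2] at hd
  apply sl2_ext
  · rw [sl2_mul_00, sl2_mul_00]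
    simp only [h1, h2]
    simp [rquart]
    linear_combination -hd
  · rw [sl2_mul_01, sl2_mul_01]
    simp only [h1, h2]
    simp [rquart]
    ring
  · rw [sl2_mul_10, sl2_mul_10]
    simp only [h1, h2]
    simp [rquart]
    ring
  · rw [sl2_mul_11, sl2_mul_11]
    simp only [h1, h2]
    simp [rquart]
    linear_combination -hd

theorem rquart_pow_four : (rquart F) ^ 4 = 1 := by
  have h1 : (rquart F) ^ 4 = (rquart F * rquart F) * (rquart F * rquart F) := by
    rw [show (4 : ℕ) = 2 + 2 from rfl, pow_add, pow_two]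
  rw [h1]
  apply sl2_ext
  · rw [sl2_mul_00, sl2_mul_00, sl2_mul_01, sl2_mul_10]; simp [rquart]
  · rw [sl2_mul_01, sl2_mul_00, sl2_mul_01, sl2_mul_11]; simp [rquart]
  · rw [sl2_mul_10, sl2_mul_00, sl2_mul_10, sl2_mul_11]; simp [rquart]
  · rw [sl2_mul_11, sl2_mul_10, sl2_mul_01, sl2_mul_11]; simp [rquart]

/-- the rotation torus -/
def torus (F : Type*) [Field F] : Subgroup (Matrix.SpecialLinearGroup (Fin 2) F) where
  carrier := {M | IsRot M}
  mul_mem' h h' := h.mul h'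
  one_mem' := isRot_one
  inv_mem' h := h.inv

/-- the normaliser of the rotation torus -/
def torusN (F : Type*) [Field F] : Subgroup (Matrix.SpecialLinearGroup (Fin 2) F) where
  carrier := {M | IsRot M ∨ IsRef M}
  mul_mem' := by
    rintro M M' (h | h) (h' | h')
    · exact Or.inl (h.mul h')
    · exact Or.inr (h.mul_ref h')
    · exact Or.inr (h.mul_rot h')
    · exact Or.inl (h.mul h')
  one_mem' := Or.inl isRot_one
  inv_mem' := by
    rintro M (h | h)
    · exact Or.inl h.inv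
    · exact Or.inr h.inv

theorem mem_torus (M : SL2) : M ∈ torus F ↔ IsRot M := Iff.rfl

theorem mem_torusN (M : SL2) : M ∈ torusN F ↔ IsRot M ∨ IsRef M := Iff.rfl

theorem torus_le : torus F ≤ torusN F := fun M h => Or.inl h

/-- the torus is the circle -/
def torusEquiv (F : Type*) [Field F] :
    ↥(torus F) ≃ {p : F × F // p.1 ^ 2 + p.2 ^ 2 = 1} where
  toFun M := ⟨(((M : Matrix.SpecialLinearGroup (Fin 2) F) : Matrix (Fin 2) (Fin 2) F) 0 0,
      ((M : Matrix.SpecialLinearGroup (Fin 2) F) : Matrix (Fin 2) (Fin 2) F) 1 0), by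
    have hd := sl2_det (M : Matrix.SpecialLinearGroup (Fin 2) F)
    obtain ⟨h1, h2⟩ := M.2
    rw [← h1, h2] at hd
    show ((M : Matrix.SpecialLinearGroup (Fin 2) F) : Matrix (Fin 2) (Fin 2) F) 0 0 ^ 2 +
      ((M : Matrix.SpecialLinearGroup (Fin 2) F) : Matrix (Fin 2) (Fin 2) F) 1 0 ^ 2 = 1
    linear_combination hd⟩
  invFun p := ⟨⟨!![p.1.1, -p.1.2; p.1.2, p.1.1], by
    rw [det_fin_two]
    have := p.2
    simp
    linear_combination this⟩, by
    constructor <;> simp⟩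
  left_inv M := by
    apply Subtype.ext
    obtain ⟨h1, h2⟩ := M.2
    apply sl2_ext
    · simp
    · simp [h2]
    · simp
    · simp [h1]
  right_inv p := by
    apply Subtype.ext
    simp

end entries

section sylow

variable {F : Type*} [Field F] [Fintype F]

local notation "SL2" => Matrix.SpecialLinearGroup (Fin 2) F
local notation "Mt" => Matrix (Fin 2) (Fin 2) F

theorem exists_isRef (hodd : Odd (Fintype.card F)) : ∃ g : SL2, IsRef g := by
  obtain ⟨u, v, huv⟩ := Cfsg.Agent.Lib.Helper6.OR.exists_sq_add_sq_eq_neg_one (F := F)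
    (Nat.odd_iff.mp hodd)
  refine ⟨⟨!![u, v; v, -u], ?_⟩, ?_⟩
  · rw [det_fin_two]
    simp
    linear_combination -huv
  · constructor <;> simp

theorem index_torus (hodd : Odd (Fintype.card F)) (h2 : (2 : F) ≠ 0) :
    ((torus F).subgroupOf (torusN F)).index = 2 := by
  obtain ⟨g, hg⟩ := exists_isRef hodd
  rw [Subgroup.index_eq_two_iff]
  refine ⟨⟨g, Or.inr hg⟩, ?_⟩
  rintro ⟨b, hb⟩
  rw [Subgroup.mem_subgroupOf, Subgroup.mem_subgroupOf]
  show Xor (IsRot (b * g)) (IsRot b)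
  rcases hb with hb | hb
  · right
    refine ⟨hb, fun h => ?_⟩
    exact not_rot_and_ref h2 _ ⟨h, hb.mul_ref hg⟩
  · left
    refine ⟨hb.mul hg, fun h => ?_⟩
    exact not_rot_and_ref h2 _ ⟨h, hb⟩

theorem card_torusN (hodd : Odd (Fintype.card F)) (h2 : (2 : F) ≠ 0) :
    Nat.card (torusN F) = 2 * Nat.card {p : F × F // p.1 ^ 2 + p.2 ^ 2 = 1} := by
  have h1 := Subgroup.card_mul_index ((torus F).subgroupOf (torusN F))
  rw [index_torus hodd h2, Nat.card_congr (Subgroup.subgroupOfEquivOfLe torus_le).toEquiv,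
    Nat.card_congr (torusEquiv F)] at h1
  rw [← h1, mul_comm]

theorem fact_torusN (hodd : Odd (Fintype.card F)) (h2 : (2 : F) ≠ 0) :
    (Nat.card (torusN F)).factorization 2 = (Nat.card SL2).factorization 2 := by
  rw [Nat.factorization_def _ Nat.prime_two, Nat.factorization_def _ Nat.prime_two,
    card_torusN hodd h2, Cfsg.Agent.Lib.Helper4.card_SL2, v2_circle hodd]

/-- a 2-subgroup of the torus normaliser containing the quarter turn and a reflection-type
element has `EA` -/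
theorem EA_of_le_torusN (Q : Subgroup SL2) (hQ : Q ≤ torusN F) (hr : rquart F ∈ Q)
    (g : SL2) (hgQ : g ∈ Q) (hg : IsRef g) : EA ↥Q := by
  have hrot : ∀ x : ↥Q, IsRot (x : SL2) → x ^ 2 ∈ commutator ↥Q := by
    intro x hx
    have h1 : ⁅(⟨g, hgQ⟩ : ↥Q), x⁆ ∈ commutator ↥Q := by
      rw [commutator_def]
      exact Subgroup.commutator_mem_commutator (Subgroup.mem_top _) (Subgroup.mem_top _)
    have h3 : ⁅(⟨g, hgQ⟩ : ↥Q), x⁆ = (x ^ 2)⁻¹ := by
      apply Subtype.ext
      rw [commutatorElement_def]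
      show g * (x : SL2) * g⁻¹ * (x : SL2)⁻¹ = ((x : SL2) ^ 2)⁻¹
      rw [hg.conj_rot hx, pow_two, _root_.mul_inv_rev]
    rw [h3] at h1
    exact (Subgroup.inv_mem_iff _).mp h1
  intro x
  rcases hQ x.2 with hx | hx
  · exact hrot x hx
  · have h1 : x ^ 2 = (⟨rquart F, hr⟩ : ↥Q) ^ 2 := by
      apply Subtype.ext
      show (x : SL2) ^ 2 = (rquart F) ^ 2
      rw [pow_two, pow_two, hx.sq_eq]
    rw [h1]
    exact hrot _ isRot_rquart

/-- the Sylow 2-subgroups of `SL₂(F)` -/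
theorem EA_sylow_sl2 (hodd : Odd (Fintype.card F)) (h2 : (2 : F) ≠ 0) (P : Sylow 2 SL2) :
    EA ↥(P : Subgroup SL2) := by
  -- a Sylow subgroup of the torus normaliser containing the quarter turn
  let rN : ↥(torusN F) := ⟨rquart F, Or.inl isRot_rquart⟩
  have hrN : IsPGroup 2 (Subgroup.zpowers rN) := by
    rintro ⟨_, k, rfl⟩
    refine ⟨2, ?_⟩
    apply Subtype.ext
    apply Subtype.ext
    show ((rquart F) ^ k) ^ (2 ^ 2) = 1
    rw [← zpow_natCast, ← _root_.zpow_mul, mul_comm, _root_.zpow_mul, zpow_natCast]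
    have : (2 : ℕ) ^ 2 = 4 := by norm_num
    rw [this, rquart_pow_four, _root_.one_zpow]
  obtain ⟨Q₀, hQ₀⟩ := IsPGroup.exists_le_sylow hrN
  let Q : Subgroup SL2 := (Q₀ : Subgroup ↥(torusN F)).map (torusN F).subtype
  have hQle : Q ≤ torusN F := by
    rintro _ ⟨x, _, rfl⟩
    exact x.2
  have hrQ : rquart F ∈ Q := ⟨rN, hQ₀ (Subgroup.mem_zpowers rN), rfl⟩
  have hcardQ : Nat.card Q = 2 ^ (Nat.card SL2).factorization 2 := by
    rw [Subgroup.card_map_of_injective (torusN F).subtype_injective, Q₀.card_eq_multiplicity,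
      fact_torusN hodd h2]
  -- a reflection-type element
  have hex : ∃ g ∈ Q, IsRef g := by
    by_contra hno
    push Not at hno
    have hle : (Q₀ : Subgroup ↥(torusN F)) ≤ (torus F).subgroupOf (torusN F) := by
      intro x hx
      rw [Subgroup.mem_subgroupOf]
      have hxQ : (x : SL2) ∈ Q := ⟨x, hx, rfl⟩
      rcases x.2 with h | h
      · exact h
      · exact absurd h (hno _ hxQ)
    have hdvd := Subgroup.card_dvd_of_le hle
    rw [Q₀.card_eq_multiplicity, Nat.card_congr (Subgroup.subgroupOfEquivOfLe torus_le).toEquiv,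
      card_torusN hodd h2, Nat.card_congr (torusEquiv F)] at hdvd
    set c := Nat.card {p : F × F // p.1 ^ 2 + p.2 ^ 2 = 1} with hc
    have hcpos : c ≠ 0 := by
      rw [hc, ← Nat.card_congr (torusEquiv F)]
      exact Nat.card_pos.ne'
    have h3 : (2 * c).factorization 2 = c.factorization 2 + 1 := by
      rw [Nat.factorization_mul (by norm_num) hcpos]
      simp [Nat.Prime.factorization_self Nat.prime_two]
      ring
    rw [h3] at hdvd
    exact Nat.pow_succ_factorization_not_dvd hcpos Nat.prime_two hdvd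
  obtain ⟨g, hgQ, hg⟩ := hex
  have hEA : EA ↥Q := EA_of_le_torusN Q hQle hrQ g hgQ hg
  obtain ⟨P₀, hP₀⟩ := exists_sylow_eq 2 Q hcardQ
  apply EA_sylow_of_one 2 P₀ _ P
  rw [hP₀]
  exact hEA

end sylow

end Cfsg.Agent.Lib.Helper6.SW
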