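import Mathlib
import Cfsg.Agent.Lib.Helper6.SW8

/-! Irreducibility of the natural modules of `SL₂(F)'` (additive subgroups of `F²`) and of the
even-weight module of the alternating group of odd degree. -/

set_option autoImplicit false
set_option linter.unusedSectionVars false
set_option linter.unusedVariables false
set_option linter.style.longLine false
set_option linter.unusedSimpArgs false

namespace Cfsg.Agent.Lib.Helper6.Bk

open Matrix
open scoped commutatorElement
open Cfsg.Agent.Lib.Helper6.SW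

section linear

variable {F : Type*} [Field F]

local notation "SL2" => Matrix.SpecialLinearGroup (Fin 2) F
local notation "Mt" => Matrix (Fin 2) (Fin 2) F

def tU (a : F) : SL2 := ⟨!![1, a; 0, 1], by simp [Matrix.det_fin_two_of]⟩
def tL (a : F) : SL2 := ⟨!![1, 0; a, 1], by simp [Matrix.det_fin_two_of]⟩
def tD (d : F) (hd : d ≠ 0) : SL2 := ⟨!![d, 0; 0, d⁻¹], by simp [Matrix.det_fin_two_of, hd]⟩

@[simp] lemma tU_00 (a : F) : (tU a : Mt) 0 0 = 1 := rfl
@[simp] lemma tU_01 (a : F) : (tU a : Mt) 0 1 = a := rfl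
@[simp] lemma tU_10 (a : F) : (tU a : Mt) 1 0 = 0 := rfl
@[simp] lemma tU_11 (a : F) : (tU a : Mt) 1 1 = 1 := rfl
@[simp] lemma tL_00 (a : F) : (tL a : Mt) 0 0 = 1 := rfl
@[simp] lemma tL_01 (a : F) : (tL a : Mt) 0 1 = 0 := rfl
@[simp] lemma tL_10 (a : F) : (tL a : Mt) 1 0 = a := rfl
@[simp] lemma tL_11 (a : F) : (tL a : Mt) 1 1 = 1 := rfl
@[simp] lemma tD_00 (d : F) (hd : d ≠ 0) : (tD d hd : Mt) 0 0 = d := rfl
@[simp] lemma tD_01 (d : F) (hd : d ≠ 0) : (tD d hd : Mt) 0 1 = 0 := rfl
@[simp] lemma tD_10 (d : F) (hd : d ≠ 0) : (tD d hd : Mt) 1 0 = 0 := rfl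
@[simp] lemma tD_11 (d : F) (hd : d ≠ 0) : (tD d hd : Mt) 1 1 = d⁻¹ := rfl

lemma mulVec_two (M : Mt) (v : Fin 2 → F) :
    M.mulVec v = ![M 0 0 * v 0 + M 0 1 * v 1, M 1 0 * v 0 + M 1 1 * v 1] := by
  ext i
  fin_cases i <;> simp [Matrix.mulVec, dotProduct, Fin.sum_univ_two]

lemma comm_tD_tU (d : F) (hd : d ≠ 0) (b : F) : ⁅tD d hd, tU b⁆ = tU ((d * d - 1) * b) := by
  apply sl2_ext
  · simp only [commutatorElement_def, sl2_mul_00, sl2_mul_01, sl2_mul_10, sl2_mul_11, sl2_inv_00,
      sl2_inv_01, sl2_inv_10, sl2_inv_11, tU_00, tU_01, tU_10, tU_11, tD_00, tD_01, tD_10, tD_11]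
    try field_simp
    try ring
  · simp only [commutatorElement_def, sl2_mul_00, sl2_mul_01, sl2_mul_10, sl2_mul_11, sl2_inv_00,
      sl2_inv_01, sl2_inv_10, sl2_inv_11, tU_00, tU_01, tU_10, tU_11, tD_00, tD_01, tD_10, tD_11]
    try field_simp
    try ring
  · simp only [commutatorElement_def, sl2_mul_00, sl2_mul_01, sl2_mul_10, sl2_mul_11, sl2_inv_00,
      sl2_inv_01, sl2_inv_10, sl2_inv_11, tU_00, tU_01, tU_10, tU_11, tD_00, tD_01, tD_10, tD_11]
    try ring
  · simp only [commutatorElement_def, sl2_mul_00, sl2_mul_01, sl2_mul_10, sl2_mul_11, sl2_inv_00,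
      sl2_inv_01, sl2_inv_10, sl2_inv_11, tU_00, tU_01, tU_10, tU_11, tD_00, tD_01, tD_10, tD_11]
    try field_simp
    try ring

lemma comm_tD_tL (d : F) (hd : d ≠ 0) (b : F) :
    ⁅tD d hd, tL b⁆ = tL ((d⁻¹ * d⁻¹ - 1) * b) := by
  apply sl2_ext
  · simp only [commutatorElement_def, sl2_mul_00, sl2_mul_01, sl2_mul_10, sl2_mul_11, sl2_inv_00,
      sl2_inv_01, sl2_inv_10, sl2_inv_11, tL_00, tL_01, tL_10, tL_11, tD_00, tD_01, tD_10, tD_11]
    try field_simp
    try ring
  · simp only [commutatorElement_def, sl2_mul_00, sl2_mul_01, sl2_mul_10, sl2_mul_11, sl2_inv_00,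
      sl2_inv_01, sl2_inv_10, sl2_inv_11, tL_00, tL_01, tL_10, tL_11, tD_00, tD_01, tD_10, tD_11]
    try ring
  · simp only [commutatorElement_def, sl2_mul_00, sl2_mul_01, sl2_mul_10, sl2_mul_11, sl2_inv_00,
      sl2_inv_01, sl2_inv_10, sl2_inv_11, tL_00, tL_01, tL_10, tL_11, tD_00, tD_01, tD_10, tD_11]
    try field_simp
    try ring
  · simp only [commutatorElement_def, sl2_mul_00, sl2_mul_01, sl2_mul_10, sl2_mul_11, sl2_inv_00,
      sl2_inv_01, sl2_inv_10, sl2_inv_11, tL_00, tL_01, tL_10, tL_11, tD_00, tD_01, tD_10, tD_11]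
    try field_simp
    try ring

lemma comm_mem (g h : SL2) : ⁅g, h⁆ ∈ commutator SL2 :=
  Subgroup.commutator_mem_commutator (Subgroup.mem_top g) (Subgroup.mem_top h)

lemma comm_tU_tL_mulVec (v : Fin 2 → F) :
    ((⁅tU (1 : F), tL 1⁆ : SL2) : Mt).mulVec v = ![(1 + 1 + 1) * v 0 - v 1, v 0] := by
  rw [mulVec_two]
  simp only [commutatorElement_def, sl2_mul_00, sl2_mul_01, sl2_mul_10, sl2_mul_11, sl2_inv_00,
    sl2_inv_01, sl2_inv_10, sl2_inv_11, tU_00, tU_01, tU_10, tU_11, tL_00, tL_01, tL_10, tL_11]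
  ext i
  fin_cases i
  · simp; try ring
  · simp; try ring

lemma vec_eq (v : Fin 2 → F) : v = ![v 0, v 1] := by
  ext i; fin_cases i <;> rfl

/-- Every nonzero additive subgroup of `F²` invariant under `SL₂(F)'` is everything. -/
theorem irr_sl2 (A : AddSubgroup (Fin 2 → F))
    (hA : ∀ g ∈ commutator SL2, ∀ v ∈ A, (g : Mt).mulVec v ∈ A) : A = ⊥ ∨ A = ⊤ := by
  by_cases hbot : A = ⊥
  · left; exact hbot
  right
  obtain ⟨v, hvA, hv0⟩ : ∃ v ∈ A, v ≠ 0 := by
    by_contra hcon
    push Not at hcon
    apply hbot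
    rw [eq_bot_iff]
    intro x hx
    rw [AddSubgroup.mem_bot]
    exact hcon x hx
  have hsplit : ∀ x : Fin 2 → F, x = ![x 0, 0] + ![0, x 1] := by
    intro x; ext i; fin_cases i <;> simp
  have hfin : (∀ c : F, ![c, 0] ∈ A) → (∀ c : F, ![0, c] ∈ A) → A = ⊤ := by
    intro h1 h2
    rw [eq_top_iff]
    intro x _
    rw [hsplit x]
    exact A.add_mem (h1 _) (h2 _)
  have hv01 : v 0 ≠ 0 ∨ v 1 ≠ 0 := by
    by_contra hcon
    push Not at hcon
    apply hv0
    rw [vec_eq v, hcon.1, hcon.2]
    ext i; fin_cases i <;> rfl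
  by_cases hd : ∃ d : F, d ≠ 0 ∧ d * d ≠ 1
  · obtain ⟨d, hd0, hd1⟩ := hd
    have hdd : d * d - 1 ≠ 0 := sub_ne_zero.mpr hd1
    have hdd' : d⁻¹ * d⁻¹ - 1 ≠ 0 := by
      intro h
      apply hd1
      have h1 : d⁻¹ * d⁻¹ = 1 := sub_eq_zero.mp h
      have h2 : (d * d) * (d⁻¹ * d⁻¹) = 1 := by field_simp
      rw [h1, mul_one] at h2
      exact h2
    have hU : ∀ a : F, tU a ∈ commutator SL2 := by
      intro a
      have h := comm_mem (tD d hd0) (tU (a / (d * d - 1)))
      rw [comm_tD_tU, mul_div_cancel₀ a hdd] at h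
      exact h
    have hL : ∀ a : F, tL a ∈ commutator SL2 := by
      intro a
      have h := comm_mem (tD d hd0) (tL (a / (d⁻¹ * d⁻¹ - 1)))
      rw [comm_tD_tL, mul_div_cancel₀ a hdd'] at h
      exact h
    have hUa : ∀ a : F, ∀ w ∈ A, ![a * w 1, 0] ∈ A := by
      intro a w hw
      have h1 := hA _ (hU a) w hw
      have h2 := A.sub_mem h1 hw
      have e : (tU a : Mt).mulVec w - w = ![a * w 1, 0] := by
        rw [mulVec_two]
        ext i; fin_cases i <;> simp
      rwa [e] at h2
    have hLa : ∀ a : F, ∀ w ∈ A, ![0, a * w 0] ∈ A := by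
      intro a w hw
      have h1 := hA _ (hL a) w hw
      have h2 := A.sub_mem h1 hw
      have e : (tL a : Mt).mulVec w - w = ![0, a * w 0] := by
        rw [mulVec_two]
        ext i; fin_cases i <;> simp
      rwa [e] at h2
    rcases hv01 with h0 | h1
    · have h2 : ∀ c : F, ![0, c] ∈ A := by
        intro c
        have := hLa (c / v 0) v hvA
        rwa [div_mul_cancel₀ c h0] at this
      have h1 : ∀ c : F, ![c, 0] ∈ A := by
        intro c
        have := hUa c ![0, 1] (h2 1)
        simpa using this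
      exact hfin h1 h2
    · have h1' : ∀ c : F, ![c, 0] ∈ A := by
        intro c
        have := hUa (c / v 1) v hvA
        rwa [div_mul_cancel₀ c h1] at this
      have h2 : ∀ c : F, ![0, c] ∈ A := by
        intro c
        have := hLa c ![1, 0] (h1' 1)
        simpa using this
      exact hfin h1' h2
  · push Not at hd
    have hel : ∀ x : F, x = 0 ∨ x = 1 ∨ x = -1 := by
      intro x
      by_cases hx : x = 0
      · left; exact hx
      · right; exact mul_self_eq_one_iff.mp (hd x hx)
    have hsm : ∀ s : F, ∀ w ∈ A, s • w ∈ A := by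
      intro s w hw
      rcases hel s with h | h | h
      · rw [h, zero_smul]; exact A.zero_mem
      · rw [h, one_smul]; exact hw
      · rw [h, neg_smul, one_smul]; exact A.neg_mem hw
    have hc : ∀ w ∈ A, ![(1 + 1 + 1) * w 0 - w 1, w 0] ∈ A := by
      intro w hw
      have h1 := hA _ (comm_mem (tU 1) (tL 1)) w hw
      rwa [comm_tU_tL_mulVec] at h1
    have hbasis : (![1, 0] : Fin 2 → F) ∈ A → (![0, 1] : Fin 2 → F) ∈ A → A = ⊤ := by
      intro h1 h2
      apply hfin
      · intro c
        have := hsm c _ h1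
        simpa using this
      · intro c
        have := hsm c _ h2
        simpa using this
    by_cases h2 : (1 + 1 : F) = 0
    · -- characteristic two
      have hneg : (-1 : F) = 1 := by
        have : (1 : F) + 1 = 0 := h2
        exact (eq_neg_of_add_eq_zero_left this).symm
      have hel2 : ∀ x : F, x = 0 ∨ x = 1 := by
        intro x
        rcases hel x with h | h | h
        · left; exact h
        · right; exact h
        · right; rw [h, hneg]
      have hc' : ∀ w ∈ A, ![w 0 + w 1, w 0] ∈ A := by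
        intro w hw
        have := hc w hw
        have e : (1 + 1 + 1 : F) * w 0 - w 1 = w 0 + w 1 := by
          rw [h2, zero_add, one_mul, sub_eq_add_neg]
          congr 1
          rw [← neg_one_mul, hneg, one_mul]
        rwa [e] at this
      have hcv := hc' v hvA
      have hccv := hc' _ hcv
      simp only [Matrix.cons_val_zero, Matrix.cons_val_one] at hccv
      rcases hel2 (v 0) with a0 | a0 <;> rcases hel2 (v 1) with a1 | a1
      · exfalso
        rcases hv01 with h | h
        · exact h a0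
        · exact h a1
      · -- v = (0,1): cv = (1,0)
        rw [a0, a1] at hcv
        have e1 : (![0, 1] : Fin 2 → F) ∈ A := by
          have := hvA
          rwa [vec_eq v, a0, a1] at this
        have e2 : (![1, 0] : Fin 2 → F) ∈ A := by simpa using hcv
        exact hbasis e2 e1
      · -- v = (1,0): ccv = (0 , 1)
        rw [a0, a1] at hccv
        have e1 : (![1, 0] : Fin 2 → F) ∈ A := by
          have := hvA
          rwa [vec_eq v, a0, a1] at this
        have e2 : (![0, 1] : Fin 2 → F) ∈ A := by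
          have e : (![1 + 0 + 1, 1 + 0] : Fin 2 → F) = ![0, 1] := by
            rw [add_zero, h2]
          rwa [e] at hccv
        exact hbasis e1 e2
      · -- v = (1,1): cv = (0,1), ccv = (1, 0)
        rw [a0, a1] at hcv hccv
        have e2 : (![0, 1] : Fin 2 → F) ∈ A := by
          have e : (![1 + 1, 1] : Fin 2 → F) = ![0, 1] := by rw [h2]
          rwa [e] at hcv
        have e1 : (![1, 0] : Fin 2 → F) ∈ A := by
          have e : (![1 + 1 + 1, 1 + 1] : Fin 2 → F) = ![1, 0] := by rw [h2, zero_add]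
          rwa [e] at hccv
        exact hbasis e1 e2
    · -- characteristic three
      have h3 : (1 + 1 + 1 : F) = 0 := by
        rcases hel (1 + 1) with h | h | h
        · exact absurd h h2
        · exfalso
          have : (1 : F) = 0 := by
            have h' : (1 : F) + 1 = 1 + 0 := by rw [add_zero]; exact h
            exact add_left_cancel h'
          exact one_ne_zero this
        · rw [h]; ring
      have hc' : ∀ w ∈ A, ![- w 1, w 0] ∈ A := by
        intro w hw
        have := hc w hw
        rwa [h3, zero_mul, zero_sub] at this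
      have hcv := hc' v hvA
      have hs : ![v 0 * v 0 + v 1 * v 1, 0] ∈ A := by
        have h1 := hsm (v 0) v hvA
        have h2' := hsm (v 1) _ hcv
        have h3' := A.sub_mem h1 h2'
        have e : v 0 • v - v 1 • ![-v 1, v 0] = ![v 0 * v 0 + v 1 * v 1, 0] := by
          ext i
          fin_cases i
          · simp
          · simp; ring
        rwa [e] at h3'
      have hsne : v 0 * v 0 + v 1 * v 1 ≠ 0 := by
        rcases hel (v 0) with a0 | a0 | a0 <;> rcases hel (v 1) with a1 | a1 | a1
        · exfalso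
          rcases hv01 with h | h
          · exact h a0
          · exact h a1
        all_goals (rw [a0, a1]; first | (simpa using h2) | simp)
      have e1 : (![1, 0] : Fin 2 → F) ∈ A := by
        have := hsm (v 0 * v 0 + v 1 * v 1)⁻¹ _ hs
        have e : (v 0 * v 0 + v 1 * v 1)⁻¹ • ![v 0 * v 0 + v 1 * v 1, 0] = (![1, 0] : Fin 2 → F) := by
          ext i
          fin_cases i
          · simp [inv_mul_cancel₀ hsne]
          · simp
        rwa [e] at this
      have e2 : (![0, 1] : Fin 2 → F) ∈ A := by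
        have := hc' _ e1
        simpa using this
      exact hbasis e1 e2

end linear

section symmetric

variable {n : ℕ}

/-- permutation action on functions -/
def pact (σ : Equiv.Perm (Fin n)) (v : Fin n → ZMod 2) : Fin n → ZMod 2 := fun i => v (σ⁻¹ i)

lemma pact_add (σ : Equiv.Perm (Fin n)) (v w : Fin n → ZMod 2) :
    pact σ (v + w) = pact σ v + pact σ w := rfl

lemma pact_single (σ : Equiv.Perm (Fin n)) (a : Fin n) :
    pact σ (Pi.single a 1) = Pi.single (σ a) 1 := by
  ext l
  simp only [pact, Pi.single_apply]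
  have : (σ⁻¹ l = a) ↔ (l = σ a) := by
    constructor
    · intro h; rw [← h]; simp
    · intro h; rw [h]; simp
  simp only [this]

lemma add_self_fn (x : Fin n → ZMod 2) : x + x = 0 := by
  ext l
  exact CharTwo.add_self_eq_zero (x l)

lemma zmod2_cases (x : ZMod 2) : x = 0 ∨ x = 1 := by
  fin_cases x
  · left; rfl
  · right; rfl

lemma cyc_mem (i j k : Fin n) (hij : i ≠ j) (hjk : j ≠ k) :
    (Equiv.swap i j * Equiv.swap j k)⁻¹ ∈ alternatingGroup (Fin n) := by
  rw [Equiv.Perm.mem_alternatingGroup, Equiv.Perm.sign_inv, Equiv.Perm.sign_mul,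
    Equiv.Perm.sign_swap hij, Equiv.Perm.sign_swap hjk]
  rfl

lemma cyc_mem' (i j k : Fin n) (hij : i ≠ j) (hjk : j ≠ k) :
    (Equiv.swap i j * Equiv.swap j k) ∈ alternatingGroup (Fin n) := by
  rw [Equiv.Perm.mem_alternatingGroup, Equiv.Perm.sign_mul,
    Equiv.Perm.sign_swap hij, Equiv.Perm.sign_swap hjk]
  rfl

/-- Every nonzero additive subgroup of the even-weight module invariant under the alternating
group (odd degree at least 3) is the whole even-weight module. -/
theorem irr_alt (hn : 3 ≤ n) (hodd : Odd n) (A : AddSubgroup (Fin n → ZMod 2))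
    (heven : ∀ v ∈ A, ∑ i, v i = 0)
    (hA : ∀ σ ∈ alternatingGroup (Fin n), ∀ v ∈ A, pact σ v ∈ A) :
    A = ⊥ ∨ ∀ v : Fin n → ZMod 2, ∑ i, v i = 0 → v ∈ A := by
  by_cases hbot : A = ⊥
  · left; exact hbot
  right
  obtain ⟨v, hvA, hv0⟩ : ∃ v ∈ A, v ≠ 0 := by
    by_contra hcon
    push Not at hcon
    apply hbot
    rw [eq_bot_iff]
    intro x hx
    rw [AddSubgroup.mem_bot]
    exact hcon x hx
  obtain ⟨i, hi⟩ : ∃ i, v i = 1 := by
    by_contra hcon
    push Not at hcon
    apply hv0
    ext l
    rcases zmod2_cases (v l) with h | h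
    · exact h
    · exact absurd h (hcon l)
  obtain ⟨j, hj⟩ : ∃ j, v j = 0 := by
    by_contra hcon
    push Not at hcon
    have hall : ∀ l, v l = 1 := fun l => (zmod2_cases (v l)).resolve_left (hcon l)
    have hs := heven v hvA
    simp only [hall, Finset.sum_const, Finset.card_univ, Fintype.card_fin, nsmul_eq_mul, mul_one] at hs
    obtain ⟨m, hm⟩ := hodd
    rw [hm] at hs
    have : ((2 * m + 1 : ℕ) : ZMod 2) = 1 := by
      push_cast
      have h2 : (2 : ZMod 2) = 0 := by decide
      rw [h2, zero_mul, zero_add]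
    rw [this] at hs
    exact one_ne_zero hs
  have hij : i ≠ j := by
    intro h; rw [h, hj] at hi; exact zero_ne_one hi
  obtain ⟨k, hki, hkj⟩ : ∃ k : Fin n, k ≠ i ∧ k ≠ j := by
    by_contra hcon
    push Not at hcon
    have hsub : (Finset.univ : Finset (Fin n)) ⊆ {i, j} := by
      intro l _
      simp only [Finset.mem_insert, Finset.mem_singleton]
      by_cases hl : l = i
      · left; exact hl
      · right; exact hcon l hl
    have h1 := Finset.card_le_card hsub
    have h2 : ({i, j} : Finset (Fin n)).card ≤ 2 := Finset.card_le_two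
    rw [Finset.card_univ, Fintype.card_fin] at h1
    omega
  -- first: some e_a + e_b ∈ A with a ≠ b
  obtain ⟨a, b, hab, habA⟩ : ∃ a b : Fin n, a ≠ b ∧
      (Pi.single a 1 + Pi.single b 1 : Fin n → ZMod 2) ∈ A := by
    have hσ := cyc_mem i j k hij hkj.symm
    have hw := A.add_mem hvA (hA _ hσ v hvA)
    have hτi : (Equiv.swap i j * Equiv.swap j k) i = j := by
      simp [Equiv.swap_apply_of_ne_of_ne hij hki.symm]
    have hτj : (Equiv.swap i j * Equiv.swap j k) j = k := by
      simp [Equiv.swap_apply_of_ne_of_ne hki hkj]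
    have hτk : (Equiv.swap i j * Equiv.swap j k) k = i := by
      simp
    have hτl : ∀ l, l ≠ i → l ≠ j → l ≠ k → (Equiv.swap i j * Equiv.swap j k) l = l := by
      intro l h1 h2 h3
      simp [Equiv.swap_apply_of_ne_of_ne h2 h3, Equiv.swap_apply_of_ne_of_ne h1 h2]
    have hpt : ∀ l, (v + pact (Equiv.swap i j * Equiv.swap j k)⁻¹ v) l =
        v l + v ((Equiv.swap i j * Equiv.swap j k) l) := by
      intro l
      simp [pact]
    rcases zmod2_cases (v k) with hk | hk
    · refine ⟨i, k, hki.symm, ?_⟩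
      have e : (Pi.single i 1 + Pi.single k 1 : Fin n → ZMod 2) =
          v + pact (Equiv.swap i j * Equiv.swap j k)⁻¹ v := by
        ext l
        rw [hpt l]
        by_cases h1 : l = i
        · rw [h1, hτi, hi, hj]; simp [hki.symm]
        · by_cases h2 : l = j
          · rw [h2, hτj, hj, hk]; simp [hij.symm, hkj.symm]
          · by_cases h3 : l = k
            · rw [h3, hτk, hk, hi]; simp [hki]
            · rw [hτl l h1 h2 h3]
              simp [h1, h3, CharTwo.add_self_eq_zero]
      rw [e]; exact hw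
    · refine ⟨i, j, hij, ?_⟩
      have e : (Pi.single i 1 + Pi.single j 1 : Fin n → ZMod 2) =
          v + pact (Equiv.swap i j * Equiv.swap j k)⁻¹ v := by
        ext l
        rw [hpt l]
        by_cases h1 : l = i
        · rw [h1, hτi, hi, hj]; simp [hij]
        · by_cases h2 : l = j
          · rw [h2, hτj, hj, hk]; simp [hij.symm]
          · by_cases h3 : l = k
            · rw [h3, hτk, hk, hi]; simp [hki, hkj, CharTwo.add_self_eq_zero]
            · rw [hτl l h1 h2 h3]
              simp [h1, h2, CharTwo.add_self_eq_zero]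
      rw [e]; exact hw
  -- second: e_a + e_d ∈ A for all d
  have hall : ∀ d : Fin n, (Pi.single a 1 + Pi.single d 1 : Fin n → ZMod 2) ∈ A := by
    intro d
    by_cases hda : d = a
    · rw [hda]
      have : (Pi.single a 1 + Pi.single a 1 : Fin n → ZMod 2) = 0 := add_self_fn _
      rw [this]; exact A.zero_mem
    by_cases hdb : d = b
    · rw [hdb]; exact habA
    have hσ := cyc_mem' a b d hab (Ne.symm hdb)
    have h1 := hA _ hσ _ habA
    rw [pact_add, pact_single, pact_single] at h1
    have hτa : (Equiv.swap a b * Equiv.swap b d) a = b := by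
      simp [Equiv.swap_apply_of_ne_of_ne hab (Ne.symm hda)]
    have hτb : (Equiv.swap a b * Equiv.swap b d) b = d := by
      simp [Equiv.swap_apply_of_ne_of_ne hda hdb]
    rw [hτa, hτb] at h1
    have h2 := A.add_mem habA h1
    have e : (Pi.single a 1 + Pi.single b 1 + (Pi.single b 1 + Pi.single d 1) : Fin n → ZMod 2) =
        Pi.single a 1 + Pi.single d 1 := by
      have : (Pi.single b 1 + Pi.single b 1 : Fin n → ZMod 2) = 0 := add_self_fn _
      calc (Pi.single a 1 + Pi.single b 1 + (Pi.single b 1 + Pi.single d 1) : Fin n → ZMod 2)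
          = Pi.single a 1 + (Pi.single b 1 + Pi.single b 1) + Pi.single d 1 := by abel
        _ = Pi.single a 1 + Pi.single d 1 := by rw [this, add_zero]
    rwa [e] at h2
  -- third: every even-weight vector is a sum
  intro w hw
  have e : w = ∑ c, (w c) • (Pi.single a 1 + Pi.single c 1 : Fin n → ZMod 2) := by
    ext l
    have h1 : (∑ c, (w c) • (Pi.single a 1 + Pi.single c 1 : Fin n → ZMod 2)) l =
        ∑ c, (w c * (Pi.single a 1 : Fin n → ZMod 2) l +
          w c * (Pi.single c 1 : Fin n → ZMod 2) l) := by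
      rw [Finset.sum_apply]
      apply Finset.sum_congr rfl
      intro c _
      simp only [Pi.smul_apply, Pi.add_apply, smul_eq_mul, mul_add]
    rw [h1, Finset.sum_add_distrib, ← Finset.sum_mul, hw, zero_mul, zero_add]
    simp only [Pi.single_apply, mul_ite, mul_one, mul_zero]
    rw [Finset.sum_ite_eq]
    simp
  rw [e]
  apply A.sum_mem
  intro c _
  rcases zmod2_cases (w c) with h | h
  · rw [h, zero_smul]; exact A.zero_mem
  · rw [h, one_smul]; exact hall c

end symmetric

end Cfsg.Agent.Lib.Helper6.Bk
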