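import Mathlib
import Cfsg.Prelude
import Cfsg.Agent.Lib.Helper6.BkA
import Cfsg.Agent.Lib.Helper6.BkM

/-! Extraction of the module-theoretic content of a `B(T)`-block: irreducibility of `W/Z` and
nontriviality of the action. -/

set_option autoImplicit false
set_option linter.unusedSectionVars false
set_option linter.unusedVariables false
set_option linter.style.longLine false
open Cfsg
open scoped commutatorElement

universe u

namespace Cfsg.Agent.Lib.Helper6.Bk

variable {G : Type u} [Group G] {p : ℕ}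

/-- `W = Ω₁(Z(O_p(E)))`. -/
def bW (p : ℕ) (E : Subgroup G) : Subgroup G := omegaOneCenter p (pCoreOf p E)

/-- `Z = C_W(E)`. -/
def bZ (p : ℕ) (E : Subgroup G) : Subgroup G := bW p E ⊓ Subgroup.centralizer (E : Set G)

/-- The module-theoretic content of a block. -/
structure BlockData (p : ℕ) (E : Subgroup G) : Prop where
  hEW : E ≤ Subgroup.normalizer (bW p E : Set G)
  irr : ∀ Y : Subgroup G, bZ p E ≤ Y → Y ≤ bW p E → E ≤ Subgroup.normalizer (Y : Set G) →
    Y = bZ p E ∨ Y = bW p E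
  ne : ⁅bW p E, E⁆ ≠ ⊥

theorem irr_of_hom {E W Z : Subgroup G} {M : Type*} [AddCommGroup M]
    (ψ : ↥W →* Multiplicative M)
    (hker : ∀ u : ↥W, ψ u = 1 ↔ (u : G) ∈ Z) (hZW : Z ≤ W)
    (hirr : ∀ A : AddSubgroup M,
      (∀ (e : ↥E) (u w : ↥W), (w : G) = (e : G) * (u : G) * (e : G)⁻¹ →
        Multiplicative.toAdd (ψ u) ∈ A → Multiplicative.toAdd (ψ w) ∈ A) →
      (∀ u : ↥W, Multiplicative.toAdd (ψ u) ∈ A → ψ u = 1) ∨
        (∀ w : ↥W, Multiplicative.toAdd (ψ w) ∈ A))
    (Y : Subgroup G) (hZY : Z ≤ Y) (hYW : Y ≤ W)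
    (hEY : E ≤ Subgroup.normalizer (Y : Set G)) : Y = Z ∨ Y = W := by
  let A : AddSubgroup M :=
    { carrier := {m | ∃ y : ↥W, (y : G) ∈ Y ∧ Multiplicative.toAdd (ψ y) = m}
      zero_mem' := ⟨1, Y.one_mem, by simp⟩
      add_mem' := by
        rintro a b ⟨y₁, hy₁, rfl⟩ ⟨y₂, hy₂, rfl⟩
        refine ⟨y₁ * y₂, Y.mul_mem hy₁ hy₂, ?_⟩
        rw [map_mul, toAdd_mul]
      neg_mem' := by
        rintro a ⟨y, hy, rfl⟩
        refine ⟨y⁻¹, Y.inv_mem hy, ?_⟩
        rw [map_inv, toAdd_inv] }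
  have hAmem : ∀ m : M, m ∈ A ↔ ∃ y : ↥W, (y : G) ∈ Y ∧ Multiplicative.toAdd (ψ y) = m :=
    fun m => Iff.rfl
  have key : ∀ u : ↥W, Multiplicative.toAdd (ψ u) ∈ A → (u : G) ∈ Y := by
    intro u hu
    obtain ⟨y, hy, hyu⟩ := (hAmem _).mp hu
    have h1 : ψ y = ψ u := Multiplicative.toAdd.injective hyu
    have h2 : ψ (u * y⁻¹) = 1 := by rw [map_mul, map_inv, h1, mul_inv_cancel]
    have h3 : ((u * y⁻¹ : ↥W) : G) ∈ Z := (hker _).mp h2
    have h4 : (u : G) * (y : G)⁻¹ ∈ Y := hZY (by simpa using h3)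
    have := Y.mul_mem h4 hy
    simpa using this
  have hinv : ∀ (e : ↥E) (u w : ↥W), (w : G) = (e : G) * (u : G) * (e : G)⁻¹ →
      Multiplicative.toAdd (ψ u) ∈ A → Multiplicative.toAdd (ψ w) ∈ A := by
    intro e u w hw hu
    have h1 := key u hu
    have h2 : (w : G) ∈ Y := by
      rw [hw]
      exact (Subgroup.mem_normalizer_iff.mp (hEY e.2) _).mp h1
    exact (hAmem _).mpr ⟨w, h2, rfl⟩
  rcases hirr A hinv with h | h
  · left
    apply le_antisymm _ hZY
    intro y hy
    have h1 : Multiplicative.toAdd (ψ ⟨y, hYW hy⟩) ∈ A := (hAmem _).mpr ⟨⟨y, hYW hy⟩, hy, rfl⟩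
    exact (hker ⟨y, hYW hy⟩).mp (h _ h1)
  · right
    apply le_antisymm hYW
    intro w hw
    exact key ⟨w, hw⟩ (h ⟨w, hw⟩)

theorem ne_of_hom {E W : Subgroup G} {M : Type*} [AddCommGroup M]
    (ψ : ↥W →* Multiplicative M)
    (hker : ∀ u : ↥W, ψ u = 1 ↔ (u : G) ∈ W ⊓ Subgroup.centralizer (E : Set G))
    (hne : ∃ u : ↥W, ψ u ≠ 1) : ⁅W, E⁆ ≠ ⊥ := by
  intro h
  obtain ⟨u, hu⟩ := hne
  apply hu
  rw [hker]
  exact ⟨u.2, (Subgroup.commutator_eq_bot_iff_le_centralizer.mp h) u.2⟩

/-- even-weight vectors -/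
def evenSub (n : ℕ) : AddSubgroup (Fin n → ZMod 2) where
  carrier := {v | ∑ i, v i = 0}
  zero_mem' := by simp
  add_mem' := by
    intro a b ha hb
    simp only [Set.mem_setOf_eq, Pi.add_apply, Finset.sum_add_distrib] at ha hb ⊢
    rw [ha, hb, add_zero]
  neg_mem' := by
    intro a ha
    simp only [Set.mem_setOf_eq, Pi.neg_apply, Finset.sum_neg_distrib] at ha ⊢
    rw [ha, neg_zero]

theorem mem_evenSub {n : ℕ} (v : Fin n → ZMod 2) : v ∈ evenSub n ↔ ∑ i, v i = 0 := Iff.rfl

theorem isPGroup_pResidual_eq_bot {H : Type*} [Group H] (hH : IsPGroup p H) :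
    pResidual p H = ⊥ := by
  rw [pResidual, Subgroup.closure_eq_bot_iff]
  intro g hg
  rw [Set.mem_singleton_iff]
  obtain ⟨k, hk⟩ := hH g
  have h1 : orderOf g ∣ p ^ k := orderOf_dvd_of_pow_eq_one hk
  have h2 : (orderOf g).Coprime (p ^ k) := Nat.Coprime.pow_right k hg
  have h3 : orderOf g = 1 := Nat.Coprime.eq_one_of_dvd h2 h1
  exact orderOf_eq_one_iff.mp h3

theorem blockData_of_isBaumannBlock [Finite G] [Fact p.Prime] {T E : Subgroup G}
    (h : IsBaumannBlock p T E) : BlockData p E := by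
  obtain ⟨hEp, hEB, hQE, hEZ, hcase⟩ := h
  rcases hcase with ⟨F, instF, instFt, n, hcard, hiso, hact, hrest⟩ | ⟨hp2, m, hiso, hact, hQW⟩
  · -- linear case
    letI : Field F := instF
    obtain ⟨hEW, hZW, ρ, ψ, hρ, hψ, hker, hequiv⟩ := hact
    have hirr : ∀ A : AddSubgroup (Fin 2 → F),
        (∀ (e : ↥E) (u w : ↥(omegaOneCenter p (pCoreOf p E))),
          (w : G) = (e : G) * (u : G) * (e : G)⁻¹ →
          Multiplicative.toAdd (ψ u) ∈ A → Multiplicative.toAdd (ψ w) ∈ A) →
        (∀ u : ↥(omegaOneCenter p (pCoreOf p E)), Multiplicative.toAdd (ψ u) ∈ A → ψ u = 1) ∨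
          (∀ w : ↥(omegaOneCenter p (pCoreOf p E)), Multiplicative.toAdd (ψ w) ∈ A) := by
      intro A hinv
      have hAinv : ∀ g ∈ commutator (Matrix.SpecialLinearGroup (Fin 2) F), ∀ v ∈ A,
          (g : Matrix (Fin 2) (Fin 2) F).mulVec v ∈ A := by
        intro g hg v hv
        rw [← hρ] at hg
        obtain ⟨e, rfl⟩ := hg
        obtain ⟨u, hu⟩ := hψ (Multiplicative.ofAdd v)
        obtain ⟨w, hw1, hw2⟩ := hequiv e u
        have hv' : Multiplicative.toAdd (ψ u) ∈ A := by rw [hu]; exact hv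
        have h1 := hinv e u w hw1 hv'
        rw [hw2, hu] at h1
        exact h1
      rcases irr_sl2 A hAinv with h | h
      · left
        intro u hu
        rw [h, AddSubgroup.mem_bot] at hu
        exact toAdd_eq_zero.mp hu
      · right
        intro w
        rw [h]
        exact AddSubgroup.mem_top _
    refine ⟨hEW, ?_, ?_⟩
    · intro Y hZY hYW hEY
      exact irr_of_hom ψ hker hZW hirr Y hZY hYW hEY
    · apply ne_of_hom ψ hker
      obtain ⟨u, hu⟩ := hψ (Multiplicative.ofAdd ![1, 0])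
      refine ⟨u, ?_⟩
      rw [hu]
      intro h1
      have h2 : (![1, 0] : Fin 2 → F) = 0 := toAdd_eq_zero.mpr h1
      have h3 := congrFun h2 0
      simp at h3
  · -- symmetric case
    obtain ⟨hEW, hZW, ρ, ψ, hρ, heven, hsurj, hker, hequiv⟩ := hact
    by_cases hm : m = 0
    · exfalso
      have hss : Subsingleton (Fin (2 * m + 1)) := Fin.subsingleton_iff_le_one.mpr (by omega)
      obtain ⟨iso⟩ := hiso
      have hsub : Subsingleton (↥E ⧸ pCore p ↥E) := by
        constructor
        intro x y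
        apply iso.injective
        apply Subtype.ext
        exact Subsingleton.elim _ _
      have htop : pCore p ↥E = ⊤ := QuotientGroup.subgroup_eq_top_of_subsingleton _ hsub
      have hpg : IsPGroup p ↥E := by
        intro g
        have hg : g ∈ pCore p ↥E := by rw [htop]; exact Subgroup.mem_top g
        obtain ⟨k, hk⟩ := (Cfsg.Agent.Lib.Helper7.pCore_isPGroup p ↥E) ⟨g, hg⟩
        refine ⟨k, ?_⟩
        have := congrArg Subtype.val hk
        simpa using this
      have hres : pResidualOf p E = ⊥ := by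
        unfold pResidualOf
        rw [isPGroup_pResidual_eq_bot hpg, Subgroup.map_bot]
      rw [hres] at hEp
      apply hEZ
      rw [← hEp]
      exact Subgroup.commutator_bot_left _
    · have h3 : 3 ≤ 2 * m + 1 := by omega
      have hodd : Odd (2 * m + 1) := ⟨m, rfl⟩
      have hirr : ∀ A : AddSubgroup (Fin (2 * m + 1) → ZMod 2),
          (∀ (e : ↥E) (u w : ↥(omegaOneCenter p (pCoreOf p E))),
            (w : G) = (e : G) * (u : G) * (e : G)⁻¹ →
            Multiplicative.toAdd (ψ u) ∈ A → Multiplicative.toAdd (ψ w) ∈ A) →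
          (∀ u : ↥(omegaOneCenter p (pCoreOf p E)), Multiplicative.toAdd (ψ u) ∈ A → ψ u = 1) ∨
            (∀ w : ↥(omegaOneCenter p (pCoreOf p E)), Multiplicative.toAdd (ψ w) ∈ A) := by
        intro A hinv
        have hA' : ∀ σ ∈ alternatingGroup (Fin (2 * m + 1)),
            ∀ v ∈ A ⊓ evenSub (2 * m + 1), pact σ v ∈ A ⊓ evenSub (2 * m + 1) := by
          intro σ hσ v hv
          rw [← hρ] at hσ
          obtain ⟨e, rfl⟩ := hσ
          obtain ⟨u, hu⟩ := hsurj v ((mem_evenSub v).mp hv.2)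
          obtain ⟨w, hw1, hw2⟩ := hequiv e u
          have hv' : Multiplicative.toAdd (ψ u) ∈ A := by rw [hu]; exact hv.1
          have h1 := hinv e u w hw1 hv'
          have e1 : Multiplicative.toAdd (ψ w) = pact (ρ e) v := by
            funext i
            rw [hw2 i, hu]
            rfl
          rw [e1] at h1
          refine ⟨h1, ?_⟩
          rw [← e1]
          exact (mem_evenSub _).mpr (heven w)
        rcases irr_alt h3 hodd (A ⊓ evenSub (2 * m + 1)) (fun v hv => (mem_evenSub v).mp hv.2)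
          hA' with h | h
        · left
          intro u hu
          have h1 : Multiplicative.toAdd (ψ u) ∈ A ⊓ evenSub (2 * m + 1) :=
            ⟨hu, (mem_evenSub _).mpr (heven u)⟩
          rw [h, AddSubgroup.mem_bot] at h1
          exact toAdd_eq_zero.mp h1
        · right
          intro w
          exact (h _ (heven w)).1
      refine ⟨hEW, ?_, ?_⟩
      · intro Y hZY hYW hEY
        exact irr_of_hom ψ hker hZW hirr Y hZY hYW hEY
      · apply ne_of_hom ψ hker
        have h01 : (⟨0, by omega⟩ : Fin (2 * m + 1)) ≠ ⟨1, by omega⟩ := by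
          intro h; have := congrArg Fin.val h; simp at this
        obtain ⟨u, hu⟩ := hsurj
          (Pi.single (⟨0, by omega⟩ : Fin (2 * m + 1)) 1 + Pi.single ⟨1, by omega⟩ 1) (by
            simp only [Pi.add_apply, Finset.sum_add_distrib, Finset.sum_pi_single',
              Finset.mem_univ, if_true]
            decide)
        refine ⟨u, ?_⟩
        intro h1
        have h2 : Multiplicative.toAdd (ψ u) = 0 := toAdd_eq_zero.mpr h1
        rw [hu] at h2
        have h3' := congrFun h2 ⟨0, by omega⟩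
        simp at h3'

end Cfsg.Agent.Lib.Helper6.Bk
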