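import Mathlib
import Cfsg.Prelude
import Cfsg.Agent.Lib.Helper6.BkB
import Cfsg.Agent.Lib.Helper7.KSeq2
import Cfsg.Agent.Lib.Helper7.PGroupComm
import Cfsg.Agent.Lib.Helper7.CharP
import Cfsg.Agent.Lib.Helper1.Coprime
import Cfsg.Agent.Lib.Helper1.OmegaCenter

/-! `B(T)`-blocks in a group of characteristic `p`: `E = O^p(E O_p(G))`, `W_E ≤ Ω₁Z(O_p(G))`,
`[W_E, J(T)] ≠ 1`. -/

set_option autoImplicit false
set_option linter.unusedSectionVars false
set_option linter.unusedVariables false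
set_option linter.style.longLine false
open Cfsg
open scoped commutatorElement

universe u

namespace Cfsg.Agent.Lib.Helper6.Bk

open Cfsg.Agent.Lib.Helper1 Cfsg.Agent.Lib.Helper7

variable {G : Type u} [Group G] {p : ℕ}

theorem omegaOneCenter_map (φ : G ≃* G) (X : Subgroup G) :
    omegaOneCenter p (X.map φ.toMonoidHom) = (omegaOneCenter p X).map φ.toMonoidHom := by
  unfold omegaOneCenter
  rw [centralizer_map, ← Subgroup.map_inf _ _ _ φ.injective, omegaOne_map]

theorem normalizer_le_normalizer_omegaOneCenter (X : Subgroup G) :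
    Subgroup.normalizer (X : Set G) ≤ Subgroup.normalizer (omegaOneCenter p X : Set G) := by
  intro g hg
  apply Cfsg.Agent.Lib.Helper6.mem_normalizer_of_map_conj_eq
  rw [← omegaOneCenter_map, Cfsg.Agent.Lib.Helper6.map_conj_eq_of_mem_normalizer hg]

theorem le_normalizer_of_comm {W M X : Subgroup G} (hW : ∀ x ∈ W, ∀ y ∈ W, x * y = y * x)
    (hMW : M ≤ W) (hXW : X ≤ W) : X ≤ Subgroup.normalizer (M : Set G) := by
  intro x hx
  rw [Subgroup.mem_normalizer_iff]
  intro h
  constructor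
  · intro hh
    have e : x * h * x⁻¹ = h := by
      rw [hW x (hXW hx) h (hMW hh)]; group
    rw [e]; exact hh
  · intro hh
    have h1 := hW x (hXW hx) _ (hMW hh)
    have e : x * h * x⁻¹ = h := by
      have h2 : x * h = (x * h * x⁻¹) * x := by group
      rw [← h1] at h2
      have h3 : h = x * h * x⁻¹ := mul_left_cancel h2
      exact h3.symm
    rw [← e]; exact hh

theorem sup_commutator_ne [Finite G] [Fact p.Prime] {W Z U : Subgroup G}
    (hWab : ∀ x ∈ W, ∀ y ∈ W, x * y = y * x) (hP : IsPGroup p (W ⊔ U : Subgroup G))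
    (hZW : Z ≤ W) (hUW : U ≤ Subgroup.normalizer (W : Set G))
    (hUZ : U ≤ Subgroup.normalizer (Z : Set G)) (hne : Z ≠ W) : ⁅W, U⁆ ⊔ Z ≠ W := by
  intro h
  have hnil : Group.IsNilpotent ↥(W ⊔ U : Subgroup G) := hP.isNilpotent
  obtain ⟨n, hn⟩ := (Subgroup.isNilpotent_iff_lowerCentralSeries (S := W ⊔ U)).mp hnil
  have hWU : ⁅W, U⁆ ≤ W := Subgroup.le_normalizer_iff_commutator_le_left.mp hUW
  have hZU : ⁅Z, U⁆ ≤ Z := Subgroup.le_normalizer_iff_commutator_le_left.mp hUZ
  have key : ∀ k, W ≤ (W ⊓ (W ⊔ U).lowerCentralSeries k) ⊔ Z := by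
    intro k
    induction k with
    | zero =>
      rw [Subgroup.lowerCentralSeries_zero]
      exact (le_inf le_rfl le_sup_left).trans le_sup_left
    | succ k ih =>
      have hMW : (W ⊓ (W ⊔ U).lowerCentralSeries (k + 1)) ⊔ Z ≤ W := sup_le inf_le_left hZW
      have h1 : ⁅W ⊓ (W ⊔ U).lowerCentralSeries k, U⁆ ≤
          (W ⊓ (W ⊔ U).lowerCentralSeries (k + 1)) ⊔ Z := by
        refine le_trans (le_inf ?_ ?_) le_sup_left
        · exact (Subgroup.commutator_mono inf_le_left le_rfl).trans hWU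
        · rw [Subgroup.lowerCentralSeries_succ]
          exact Subgroup.commutator_mono inf_le_right le_sup_right
      have h2 : ⁅Z, U⁆ ≤ (W ⊓ (W ⊔ U).lowerCentralSeries (k + 1)) ⊔ Z := hZU.trans le_sup_right
      have h3 : W ⊓ (W ⊔ U).lowerCentralSeries k ≤
          Subgroup.normalizer (((W ⊓ (W ⊔ U).lowerCentralSeries (k + 1)) ⊔ Z : Subgroup G) : Set G) :=
        le_normalizer_of_comm hWab hMW inf_le_left
      have h4 : Z ≤
          Subgroup.normalizer (((W ⊓ (W ⊔ U).lowerCentralSeries (k + 1)) ⊔ Z : Subgroup G) : Set G) :=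
        le_normalizer_of_comm hWab hMW hZW
      have h5 := commutator_sup_le_of_le_normalizer h1 h2 h3 h4
      calc W = ⁅W, U⁆ ⊔ Z := h.symm
        _ ≤ ⁅(W ⊓ (W ⊔ U).lowerCentralSeries k) ⊔ Z, U⁆ ⊔ Z :=
          sup_le_sup_right (Subgroup.commutator_mono ih le_rfl) Z
        _ ≤ (W ⊓ (W ⊔ U).lowerCentralSeries (k + 1)) ⊔ Z := sup_le h5 le_sup_right
  have := key n
  rw [hn, inf_bot_eq, bot_sup_eq] at this
  exact hne (le_antisymm hZW this)

theorem normalizer_pCore_eq_top (p : ℕ) (G : Type u) [Group G] :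
    Subgroup.normalizer ((pCore p G : Subgroup G) : Set G) = ⊤ :=
  Subgroup.normalizer_eq_top_iff.mpr (pCore_normal p G)

/-- `W_E ≤ Ω₁Z(O_p(G))`. -/
theorem comm_le_omegaOneCenter [Finite G] [Fact p.Prime]
    (hG : Subgroup.centralizer (pCore p G : Set G) ≤ pCore p G) {E : Subgroup G}
    (hUE : pCore p G ≤ Subgroup.normalizer (E : Set G)) (hD : BlockData p E) :
    ⁅bW p E, E⁆ ≤ omegaOneCenter p (pCore p G) := by
  have hUn : (pCore p G).Normal := pCore_normal p G
  have hUp : IsPGroup p (pCore p G) := Cfsg.Agent.Lib.Helper7.pCore_isPGroup p G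
  have hNU : ∀ X : Subgroup G, X ≤ Subgroup.normalizer ((pCore p G : Subgroup G) : Set G) := by
    intro X; rw [normalizer_pCore_eq_top]; exact le_top
  have hQp : IsPGroup p (pCoreOf p E) := pCoreIn_isPGroup p E
  have hNEQ : Subgroup.normalizer (E : Set G) ≤ Subgroup.normalizer (pCoreOf p E : Set G) :=
    normalizer_le_normalizer_pCoreIn p E
  have hNQW : Subgroup.normalizer (pCoreOf p E : Set G) ≤ Subgroup.normalizer (bW p E : Set G) :=
    normalizer_le_normalizer_omegaOneCenter _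
  have hUW : pCore p G ≤ Subgroup.normalizer (bW p E : Set G) := hUE.trans (hNEQ.trans hNQW)
  have hEW := hD.hEW
  have hNEC : Subgroup.normalizer (E : Set G) ≤
      Subgroup.normalizer ((Subgroup.centralizer (E : Set G) : Subgroup G) : Set G) :=
    normalizer_le_normalizer_centralizer E
  have hUZ : pCore p G ≤ Subgroup.normalizer (bZ p E : Set G) :=
    le_normalizer_inf hUW (hUE.trans hNEC)
  have hEZ' : E ≤ Subgroup.normalizer (bZ p E : Set G) :=
    le_normalizer_inf hEW (Subgroup.le_normalizer.trans hNEC)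
  have hWel : IsElementaryAbelian p (bW p E) := isElementaryAbelian_omegaOne_center p (pCoreOf p E)
  have hWab : ∀ x ∈ bW p E, ∀ y ∈ bW p E, x * y = y * x := (isElementaryAbelian_iff.mp hWel).1
  have hWpow : ∀ a ∈ bW p E, a ^ p = 1 := hWel.2
  have hWQ : bW p E ≤ pCoreOf p E ⊓ Subgroup.centralizer (pCoreOf p E : Set G) := omegaOne_le _
  have hWleQ : bW p E ≤ pCoreOf p E := hWQ.trans inf_le_left
  have hWC : bW p E ≤ Subgroup.centralizer (pCoreOf p E : Set G) := hWQ.trans inf_le_right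
  have hQW : pCoreOf p E ≤ Subgroup.centralizer (bW p E : Set G) := Subgroup.le_centralizer_iff.mp hWC
  -- (a)
  have hUEQ : ⁅pCore p G, E⁆ ≤ pCoreOf p E := by
    have h1 : ⁅pCore p G, E⁆ ≤ pCore p G := Subgroup.commutator_le_left _ _
    have h2 : ⁅pCore p G, E⁆ ≤ E := by
      rw [Subgroup.commutator_comm]
      exact Subgroup.le_normalizer_iff_commutator_le_left.mp hUE
    have h3 : pCore p G ⊓ E ≤ pCoreOf p E :=
      le_pCoreIn inf_le_right (hUp.to_le inf_le_left)
        (le_normalizer_inf (hNU E) Subgroup.le_normalizer)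
    exact (le_inf h1 h2).trans h3
  -- (d)
  have hWU : ⁅bW p E, pCore p G⁆ ≤ bW p E := Subgroup.le_normalizer_iff_commutator_le_left.mp hUW
  have hZW : bZ p E ≤ bW p E := inf_le_left
  have hYW : ⁅bW p E, pCore p G⁆ ⊔ bZ p E ≤ bW p E := sup_le hWU hZW
  have hEY : E ≤ Subgroup.normalizer ((⁅bW p E, pCore p G⁆ ⊔ bZ p E : Subgroup G) : Set G) :=
    le_normalizer_sup (le_normalizer_commutator hEW (hNU E)) hEZ'
  have hZne : bZ p E ≠ bW p E := by
    intro h
    apply hD.ne
    rw [Subgroup.commutator_eq_bot_iff_le_centralizer]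
    intro w hw
    rw [← h] at hw
    exact hw.2
  have hP : IsPGroup p (bW p E ⊔ pCore p G : Subgroup G) :=
    IsPGroup.to_sup_of_normal_right (hQp.to_le hWleQ) hUp
  have hYne := sup_commutator_ne hWab hP hZW hUW hUZ hZne
  have hYZ : ⁅bW p E, pCore p G⁆ ⊔ bZ p E = bZ p E :=
    (hD.irr _ le_sup_right hYW hEY).resolve_right hYne
  have hWUZ : ⁅bW p E, pCore p G⁆ ≤ bZ p E := le_sup_left.trans hYZ.le
  -- (f)
  have h1 : ⁅⁅pCore p G, bW p E⁆, E⁆ = ⊥ := by
    rw [Subgroup.commutator_comm (pCore p G) (bW p E),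
      Subgroup.commutator_eq_bot_iff_le_centralizer]
    exact hWUZ.trans inf_le_right
  -- (g)
  have h2 : ⁅⁅E, pCore p G⁆, bW p E⁆ = ⊥ := by
    rw [Subgroup.commutator_comm E (pCore p G), Subgroup.commutator_eq_bot_iff_le_centralizer]
    exact hUEQ.trans hQW
  -- (h)
  have h3 : ⁅⁅bW p E, E⁆, pCore p G⁆ = ⊥ := Subgroup.commutator_commutator_eq_bot_of_rotate h2 h1
  have hVC : ⁅bW p E, E⁆ ≤ Subgroup.centralizer ((pCore p G : Subgroup G) : Set G) :=
    Subgroup.commutator_eq_bot_iff_le_centralizer.mp h3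
  have hVU : ⁅bW p E, E⁆ ≤ pCore p G := hVC.trans hG
  have hVW : ⁅bW p E, E⁆ ≤ bW p E := Subgroup.le_normalizer_iff_commutator_le_left.mp hEW
  intro v hv
  exact Subgroup.subset_closure ⟨⟨hVU hv, hVC hv⟩, hWpow v (hVW hv)⟩

/-- `[W_E, J(T)] ≠ 1`. -/
theorem comm_thompson_ne [Finite G] [Fact p.Prime] (T : Sylow p G) {E : Subgroup G}
    (hEp : pResidualOf p E = E) (hEB : ⁅E, baumannSubgroupOf p (T : Subgroup G)⁆ = E)
    (hD : BlockData p E) (hVU : ⁅bW p E, E⁆ ≤ pCore p G) :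
    ⁅⁅bW p E, E⁆, thompsonSubgroupOf p (T : Subgroup G)⁆ ≠ ⊥ := by
  intro hJ
  have hEW := hD.hEW
  have hQp : IsPGroup p (pCoreOf p E) := pCoreIn_isPGroup p E
  have hWel : IsElementaryAbelian p (bW p E) := isElementaryAbelian_omegaOne_center p (pCoreOf p E)
  have hWab : ∀ x ∈ bW p E, ∀ y ∈ bW p E, x * y = y * x := (isElementaryAbelian_iff.mp hWel).1
  have hWpow : ∀ a ∈ bW p E, a ^ p = 1 := hWel.2
  have hWQ : bW p E ≤ pCoreOf p E ⊓ Subgroup.centralizer (pCoreOf p E : Set G) := omegaOne_le _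
  have hWp : IsPGroup p (bW p E) := hQp.to_le (hWQ.trans inf_le_left)
  have hVW : ⁅bW p E, E⁆ ≤ bW p E := Subgroup.le_normalizer_iff_commutator_le_left.mp hEW
  have hVT : ⁅bW p E, E⁆ ≤ (T : Subgroup G) := hVU.trans (pCore_le_sylow T)
  have hVJ : ⁅bW p E, E⁆ ≤ Subgroup.centralizer (thompsonSubgroupOf p (T : Subgroup G) : Set G) :=
    Subgroup.commutator_eq_bot_iff_le_centralizer.mp hJ
  have hVpow : ∀ a ∈ ⁅bW p E, E⁆, a ^ p = 1 := fun a ha => hWpow a (hVW ha)
  -- (3b)
  have h3b : ∀ A ∈ maxElAbIn p (T : Subgroup G), ⁅bW p E, E⁆ ≤ A := by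
    intro A hA
    have hAJ : A ≤ thompsonSubgroupOf p (T : Subgroup G) := le_thompsonSubgroupOf_of_mem hA
    have hAel := isElementaryAbelian_iff.mp hA.2.1
    have hcomm : ∀ x ∈ ⁅bW p E, E⁆, ∀ a ∈ A, x * a = a * x := by
      intro x hx a ha
      exact ((Subgroup.mem_centralizer_iff.mp (hVJ hx)) a (hAJ ha)).symm
    have hVAel : IsElementaryAbelian p (⁅bW p E, E⁆ ⊔ A) := by
      rw [Subgroup.sup_eq_closure]
      apply isElementaryAbelian_closure
      · rintro x (hx | hx) y (hy | hy)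
        · exact hWab x (hVW hx) y (hVW hy)
        · exact hcomm x hx y hy
        · exact (hcomm y hy x hx).symm
        · exact hAel.1 x hx y hy
      · rintro x (hx | hx)
        · exact hVpow x hx
        · exact hAel.2 x hx
    have hcard := hA.2.2 _ (sup_le hVT hA.1) hVAel
    have heq : A = ⁅bW p E, E⁆ ⊔ A := Subgroup.eq_of_le_of_card_ge le_sup_right hcard
    rw [heq]
    exact le_sup_left
  -- (3c)
  obtain ⟨A₀, hA₀⟩ := exists_mem_maxElementaryAbelianSubgroups (G := ↥(T : Subgroup G)) p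
  have hA := map_subtype_mem_maxElAbIn hA₀
  have hVleJ : ⁅bW p E, E⁆ ≤ thompsonSubgroupOf p (T : Subgroup G) :=
    (h3b _ hA).trans (le_thompsonSubgroupOf_of_mem hA)
  have hVΩ : ⁅bW p E, E⁆ ≤ omegaOne p (centerThompsonOf p (T : Subgroup G)) := by
    intro v hv
    exact Subgroup.subset_closure ⟨⟨hVleJ hv, hVJ hv⟩, hVpow v hv⟩
  -- (3d)
  have hBV : baumannSubgroupOf p (T : Subgroup G) ≤
      Subgroup.centralizer ((⁅bW p E, E⁆ : Subgroup G) : Set G) :=
    inf_le_right.trans (Subgroup.centralizer_le hVΩ)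
  -- (3e)
  have hEnV : E ≤ Subgroup.normalizer ((⁅bW p E, E⁆ : Subgroup G) : Set G) :=
    le_normalizer_commutator hEW Subgroup.le_normalizer
  have hEnC : E ≤ Subgroup.normalizer
      ((Subgroup.centralizer ((⁅bW p E, E⁆ : Subgroup G) : Set G) : Subgroup G) : Set G) :=
    hEnV.trans (normalizer_le_normalizer_centralizer _)
  have hCE : ⁅Subgroup.centralizer ((⁅bW p E, E⁆ : Subgroup G) : Set G), E⁆ ≤
      Subgroup.centralizer ((⁅bW p E, E⁆ : Subgroup G) : Set G) :=
    Subgroup.le_normalizer_iff_commutator_le_left.mp hEnC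
  have hEV : E ≤ Subgroup.centralizer ((⁅bW p E, E⁆ : Subgroup G) : Set G) := by
    conv_lhs => rw [← hEB]
    rw [Subgroup.commutator_comm]
    exact (Subgroup.commutator_mono hBV le_rfl).trans hCE
  have hVE : ⁅⁅bW p E, E⁆, E⁆ = ⊥ := by
    rw [Subgroup.commutator_eq_bot_iff_le_centralizer]
    exact Subgroup.le_centralizer_iff.mp hEV
  -- (3f)
  have hEW' : E ≤ Subgroup.centralizer (bW p E : Set G) := by
    conv_lhs => rw [← hEp]
    rw [pResidualOf_eq_pResidualIn, pResidualIn_eq_closure, Subgroup.closure_le]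
    rintro g ⟨hgE, hg⟩
    apply mem_centralizer_of_quadratic_coprime (bW p E) hWp g hg (hEW hgE)
    rw [eq_bot_iff, ← hVE]
    have hz : Subgroup.zpowers g ≤ E := Subgroup.zpowers_le.mpr hgE
    exact Subgroup.commutator_mono (Subgroup.commutator_mono le_rfl hz) hz
  apply hD.ne
  rw [Subgroup.commutator_eq_bot_iff_le_centralizer]
  exact Subgroup.le_centralizer_iff.mp hEW'

/-- The three statements. -/
theorem block_pResidual_omega_thompson [Finite G] [Fact p.Prime]
    (hG : Subgroup.centralizer (pCore p G : Set G) ≤ pCore p G) (T : Sylow p G) (E : Subgroup G)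
    (hE : IsBaumannBlock p (T : Subgroup G) E) :
    pResidualOf p (E ⊔ pCore p G) = E ∧
    ⁅omegaOneCenter p (pCoreOf p E), E⁆ ≤ omegaOneCenter p (pCore p G) ∧
    ⁅⁅omegaOneCenter p (pCoreOf p E), E⁆, thompsonSubgroupOf p (T : Subgroup G)⁆ ≠ ⊥ := by
  have hD := blockData_of_isBaumannBlock hE
  obtain ⟨hEp, hEB, -, -, -⟩ := hE
  have hUp : IsPGroup p (pCore p G) := Cfsg.Agent.Lib.Helper7.pCore_isPGroup p G
  have hNU : ∀ X : Subgroup G, X ≤ Subgroup.normalizer ((pCore p G : Subgroup G) : Set G) := by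
    intro X; rw [normalizer_pCore_eq_top]; exact le_top
  have hUE : pCore p G ≤ Subgroup.normalizer (E : Set G) :=
    le_normalizer_of_block T hEp hEB hUp (hNU _) (hNU _)
  have h2 := comm_le_omegaOneCenter hG hUE hD
  refine ⟨?_, h2, ?_⟩
  · rw [sup_comm]
    exact pResidualOf_sup_eq hEp hUp hUE
  · have hΩU : omegaOneCenter p (pCore p G) ≤ pCore p G :=
      (omegaOne_le _).trans inf_le_left
    exact comm_thompson_ne T hEp hEB hD (h2.trans hΩU)

end Cfsg.Agent.Lib.Helper6.Bk
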