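import Mathlib
import Cfsg.Agent.Lib.Helper6.GenOrth
import Cfsg.Agent.Lib.Helper6.ClassMult
import Cfsg.Agent.Lib.Helper6.ClassSum
import Cfsg.Agent.Lib.Helper6.PPartEl
import Cfsg.Agent.Lib.Helper6.BlkUniqueBlock

set_option autoImplicit false
set_option linter.unusedSectionVars false
open Cfsg

namespace Cfsg.Agent.Lib.Helper6

open Module
open scoped ComplexConjugate

section rep

variable {G : Type*} [Group G] [Fintype G]
variable {V : Type*} [AddCommGroup V] [Module ℂ V] [FiniteDimensional ℂ V]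

/-- If every inner automorphism of `G` acts on the subgroup `U` like an inner automorphism of `U`,
then the sum of the `U`-conjugates of `ρ b` (`b ∈ U`) is a scalar. -/
theorem sum_conj_rep_sub (ρ : Representation ℂ G V) [ρ.IsIrreducible] (U : Subgroup G) [Fintype U]
    (hU : ∀ g : G, ∃ a ∈ U, ∀ u ∈ U, g * u * g⁻¹ = a * u * a⁻¹) (b : G) (hb : b ∈ U) :
    ∑ a : U, ρ ((a : G) * b * (a : G)⁻¹)
      = ((Nat.card U : ℂ) * ρ.character b / (finrank ℂ V : ℂ)) • (LinearMap.id : V →ₗ[ℂ] V) := by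
  set T : Module.End ℂ V := ∑ a : U, ρ ((a : G) * b * (a : G)⁻¹) with hT
  have hcomm : ∀ x : G, T * ρ x = ρ x * T := by
    intro x
    obtain ⟨a₀, ha₀, hconj⟩ := hU x
    rw [hT, Finset.sum_mul, Finset.mul_sum]
    rw [← Equiv.sum_comp (Equiv.mulLeft (⟨a₀, ha₀⟩ : U))
      (fun a : U => ρ ((a : G) * b * (a : G)⁻¹) * ρ x)]
    apply Finset.sum_congr rfl
    intro a _
    rw [← map_mul, ← map_mul]
    congr 1
    simp only [Equiv.coe_mulLeft, Subgroup.coe_mul]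
    have hmem : (a : G) * b * (a : G)⁻¹ ∈ U := U.mul_mem (U.mul_mem a.2 hb) (U.inv_mem a.2)
    have h1 := hconj _ hmem
    calc a₀ * (a : G) * b * (a₀ * (a : G))⁻¹ * x
        = a₀ * ((a : G) * b * (a : G)⁻¹) * a₀⁻¹ * x := by group
      _ = x * ((a : G) * b * (a : G)⁻¹) * x⁻¹ * x := by rw [h1]
      _ = x * ((a : G) * b * (a : G)⁻¹) := by group
  have h1 := eq_trace_div_smul_id_of_comm ρ T hcomm
  have htr : LinearMap.trace ℂ V T = (Nat.card U : ℂ) * ρ.character b := by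
    rw [hT, map_sum]
    have : ∀ a : U, LinearMap.trace ℂ V (ρ ((a : G) * b * (a : G)⁻¹)) = ρ.character b := by
      intro a
      exact Representation.char_conj ρ b a
    rw [Finset.sum_congr rfl (fun a _ => this a), Finset.sum_const, nsmul_eq_mul,
      Finset.card_univ, Nat.card_eq_fintype_card]
  rw [htr] at h1
  exact h1

theorem sum_character_conj_mul_sub (ρ : Representation ℂ G V) [ρ.IsIrreducible] (U : Subgroup G)
    [Fintype U] (hU : ∀ g : G, ∃ a ∈ U, ∀ u ∈ U, g * u * g⁻¹ = a * u * a⁻¹) (b : G) (hb : b ∈ U)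
    (c : G) :
    ∑ a : U, ρ.character ((a : G) * b * (a : G)⁻¹ * c)
      = (Nat.card U : ℂ) * ρ.character b * ρ.character c / (finrank ℂ V : ℂ) := by
  have h1 := sum_conj_rep_sub ρ U hU b hb
  have h2 : ∑ a : U, ρ.character ((a : G) * b * (a : G)⁻¹ * c)
      = LinearMap.trace ℂ V ((∑ a : U, ρ ((a : G) * b * (a : G)⁻¹)) * ρ c) := by
    rw [Finset.sum_mul, map_sum]
    apply Finset.sum_congr rfl
    intro a _
    rw [← map_mul]
    rfl
  rw [h2, h1, smul_mul_assoc, map_smul, smul_eq_mul]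
  have : LinearMap.trace ℂ V ((LinearMap.id : V →ₗ[ℂ] V) * ρ c) = ρ.character c := rfl
  rw [this]
  ring

end rep

section chars

variable {G : Type*} [Group G] [Fintype G]

theorem IsIrrCharacter.sum_conj_mul_sub {χ : G → ℂ} (hχ : Cfsg.IsIrrCharacter G χ) (U : Subgroup G)
    [Fintype U] (hU : ∀ g : G, ∃ a ∈ U, ∀ u ∈ U, g * u * g⁻¹ = a * u * a⁻¹) (b : G) (hb : b ∈ U)
    (w : G) :
    ∑ a : U, χ ((a : G) * b * (a : G)⁻¹ * w) = (Nat.card U : ℂ) * χ b * χ w / χ 1 := by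
  obtain ⟨n, ρ, hirr, rfl⟩ := hχ
  rw [sum_character_conj_mul_sub ρ U hU b hb w, Representation.char_one]

/-- A constituent of the restriction to `U` is proportional to `χ` on `U`. -/
theorem apply_div_eq_of_constituent (U : Subgroup G) [Fintype U]
    (hU : ∀ g : G, ∃ a ∈ U, ∀ u ∈ U, g * u * g⁻¹ = a * u * a⁻¹)
    (χ : Cfsg.IrrCharacter G) (ψ : Cfsg.IrrCharacter U)
    (h : Cfsg.classInner (fun u : U => (χ : G → ℂ) u) (ψ : U → ℂ) ≠ 0) (u : U) :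
    (χ : G → ℂ) u / (χ : G → ℂ) 1 = (ψ : U → ℂ) u / (ψ : U → ℂ) 1 := by
  have hU0 : (Nat.card U : ℂ) ≠ 0 := by
    have : Nat.card U ≠ 0 := Nat.card_pos.ne'
    exact_mod_cast this
  obtain ⟨I, hIdef⟩ : ∃ I : ℂ, I = ∑ w : U, (χ : G → ℂ) w * conj ((ψ : U → ℂ) w) := ⟨_, rfl⟩
  have hI : I ≠ 0 := by
    intro h0
    apply h
    unfold Cfsg.classInner
    rw [← hIdef, h0, mul_zero]
  have hψc := IsIrrCharacter.isCharacter ψ.2
  -- first evaluation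
  have e1 : ∑ w : U, ∑ a : U, (χ : G → ℂ) ((a : G) * u * (a : G)⁻¹ * w) * conj ((ψ : U → ℂ) w)
      = (Nat.card U : ℂ) * ((χ : G → ℂ) u / (χ : G → ℂ) 1) * I := by
    have : ∀ w : U, ∑ a : U, (χ : G → ℂ) ((a : G) * u * (a : G)⁻¹ * w) * conj ((ψ : U → ℂ) w)
        = (Nat.card U : ℂ) * ((χ : G → ℂ) u / (χ : G → ℂ) 1)
          * ((χ : G → ℂ) w * conj ((ψ : U → ℂ) w)) := by
      intro w
      rw [← Finset.sum_mul, IsIrrCharacter.sum_conj_mul_sub χ.2 U hU (u : G) u.2 (w : G)]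
      ring
    rw [Finset.sum_congr rfl (fun w _ => this w), ← Finset.mul_sum, ← hIdef]
  -- second evaluation
  have e2 : ∑ w : U, ∑ a : U, (χ : G → ℂ) ((a : G) * u * (a : G)⁻¹ * w) * conj ((ψ : U → ℂ) w)
      = (Nat.card U : ℂ) * ((ψ : U → ℂ) u / (ψ : U → ℂ) 1) * I := by
    rw [Finset.sum_comm]
    have h1 : ∀ a : U, ∑ w : U, (χ : G → ℂ) ((a : G) * u * (a : G)⁻¹ * w) * conj ((ψ : U → ℂ) w)
        = ∑ w : U, (χ : G → ℂ) w * conj ((ψ : U → ℂ) (a * u⁻¹ * a⁻¹ * w)) := by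
      intro a
      rw [← Equiv.sum_comp (Equiv.mulLeft (a * u⁻¹ * a⁻¹))
        (fun w : U => (χ : G → ℂ) ((a : G) * u * (a : G)⁻¹ * w) * conj ((ψ : U → ℂ) w))]
      apply Finset.sum_congr rfl
      intro w _
      simp only [Equiv.coe_mulLeft]
      congr 2
      simp only [Subgroup.coe_mul, Subgroup.coe_inv]
      group
    rw [Finset.sum_congr rfl (fun a _ => h1 a), Finset.sum_comm]
    have h2 : ∀ w : U, ∑ a : U, (χ : G → ℂ) w * conj ((ψ : U → ℂ) (a * u⁻¹ * a⁻¹ * w))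
        = (Nat.card U : ℂ) * ((ψ : U → ℂ) u / (ψ : U → ℂ) 1)
          * ((χ : G → ℂ) w * conj ((ψ : U → ℂ) w)) := by
      intro w
      rw [← Finset.mul_sum, ← map_sum, IsIrrCharacter.sum_conj_mul ψ.2 u⁻¹ w]
      rw [map_div₀, map_mul, map_mul, Complex.conj_natCast, IsCharacter.apply_inv hψc u,
        Complex.conj_conj, IsIrrCharacter.conj_apply_one ψ.2]
      ring
    rw [Finset.sum_congr rfl (fun w _ => h2 w), ← Finset.mul_sum, ← hIdef]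
  have h3 := e1.symm.trans e2
  have h4 := mul_right_cancel₀ hI h3
  exact mul_left_cancel₀ hU0 h4

end chars

section central

variable {G : Type*} [Group G]
variable (U₁ U₂ : Subgroup G)

theorem exists_mul_of_commute_sup_eq_top (hcomm : ∀ u ∈ U₁, ∀ v ∈ U₂, u * v = v * u)
    (hgen : U₁ ⊔ U₂ = ⊤) (g : G) : ∃ a ∈ U₁, ∃ b ∈ U₂, g = a * b := by
  let H : Subgroup G :=
    { carrier := {g | ∃ a ∈ U₁, ∃ b ∈ U₂, g = a * b}
      one_mem' := ⟨1, U₁.one_mem, 1, U₂.one_mem, by simp⟩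
      mul_mem' := by
        rintro x y ⟨a, ha, b, hb, rfl⟩ ⟨a', ha', b', hb', rfl⟩
        refine ⟨a * a', U₁.mul_mem ha ha', b * b', U₂.mul_mem hb hb', ?_⟩
        have h := hcomm a' ha' b hb
        calc a * b * (a' * b') = a * (b * a') * b' := by group
          _ = a * (a' * b) * b' := by rw [h]
          _ = a * a' * (b * b') := by group
      inv_mem' := by
        rintro x ⟨a, ha, b, hb, rfl⟩
        refine ⟨a⁻¹, U₁.inv_mem ha, b⁻¹, U₂.inv_mem hb, ?_⟩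
        rw [mul_inv_rev]
        exact (hcomm a⁻¹ (U₁.inv_mem ha) b⁻¹ (U₂.inv_mem hb)).symm }
  have hle : U₁ ⊔ U₂ ≤ H :=
    sup_le (fun a ha => ⟨a, ha, 1, U₂.one_mem, by simp⟩) (fun b hb => ⟨1, U₁.one_mem, b, hb, by simp⟩)
  rw [hgen] at hle
  exact hle (Subgroup.mem_top g)

theorem conj_eq_conj_left (hcomm : ∀ u ∈ U₁, ∀ v ∈ U₂, u * v = v * u)
    (hgen : U₁ ⊔ U₂ = ⊤) (g : G) : ∃ a ∈ U₁, ∀ u ∈ U₁, g * u * g⁻¹ = a * u * a⁻¹ := by
  obtain ⟨a, ha, b, hb, rfl⟩ := exists_mul_of_commute_sup_eq_top U₁ U₂ hcomm hgen g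
  refine ⟨a, ha, ?_⟩
  intro u hu
  have h := hcomm u hu b hb
  calc a * b * u * (a * b)⁻¹ = a * (b * u) * b⁻¹ * a⁻¹ := by group
    _ = a * (u * b) * b⁻¹ * a⁻¹ := by rw [h]
    _ = a * u * a⁻¹ := by group

theorem conj_eq_conj_right (hcomm : ∀ u ∈ U₁, ∀ v ∈ U₂, u * v = v * u)
    (hgen : U₁ ⊔ U₂ = ⊤) (g : G) : ∃ b ∈ U₂, ∀ v ∈ U₂, g * v * g⁻¹ = b * v * b⁻¹ := by
  obtain ⟨a, ha, b, hb, rfl⟩ := exists_mul_of_commute_sup_eq_top U₁ U₂ hcomm hgen g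
  refine ⟨b, hb, ?_⟩
  intro v hv
  have h := hcomm a ha (b * v * b⁻¹) (U₂.mul_mem (U₂.mul_mem hb hv) (U₂.inv_mem hb))
  calc a * b * v * (a * b)⁻¹ = a * (b * v * b⁻¹) * a⁻¹ := by group
    _ = (b * v * b⁻¹) * a * a⁻¹ := by rw [h]
    _ = b * v * b⁻¹ := by group

end central

section classes

variable {G : Type*} [Group G] [Fintype G] [DecidableEq G]

theorem index_centralizer_sub (U : Subgroup G) [Fintype U]
    (hU : ∀ g : G, ∃ a ∈ U, ∀ u ∈ U, g * u * g⁻¹ = a * u * a⁻¹) (u : U) :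
    (Subgroup.centralizer ({(u : G)} : Set G)).index
      = (Subgroup.centralizer ({u} : Set U)).index := by
  rw [← card_conj_eq_index, ← card_conj_eq_index]
  symm
  apply Finset.card_bij (fun (y : U) _ => (y : G))
  · intro y hy
    simp only [Finset.mem_filter, Finset.mem_univ, true_and] at hy ⊢
    obtain ⟨c, hc⟩ := isConj_iff.mp hy
    exact isConj_iff.mpr ⟨c, by rw [← hc]; simp⟩
  · intro y _ y' _ h
    exact Subtype.ext h
  · intro x hx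
    simp only [Finset.mem_filter, Finset.mem_univ, true_and] at hx
    obtain ⟨g, hg⟩ := isConj_iff.mp hx
    obtain ⟨a, ha, hconj⟩ := hU g
    have hx' : x = a * u * a⁻¹ := by rw [← hg, hconj _ u.2]
    refine ⟨⟨x, by rw [hx']; exact U.mul_mem (U.mul_mem ha u.2) (U.inv_mem ha)⟩, ?_, rfl⟩
    simp only [Finset.mem_filter, Finset.mem_univ, true_and]
    refine isConj_iff.mpr ⟨⟨a, ha⟩, ?_⟩
    apply Subtype.ext
    simp only [Subgroup.coe_mul, Subgroup.coe_inv]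
    exact hx'.symm

variable (U₁ U₂ : Subgroup G)

theorem IsIrrCharacter.apply_mul_of_central_prod [Fintype U₂]
    (hcomm : ∀ u ∈ U₁, ∀ v ∈ U₂, u * v = v * u) (hgen : U₁ ⊔ U₂ = ⊤)
    {χ : G → ℂ} (hχ : Cfsg.IsIrrCharacter G χ) {u₁ u₂ : G} (h₁ : u₁ ∈ U₁) (h₂ : u₂ ∈ U₂) :
    χ (u₁ * u₂) * χ 1 = χ u₁ * χ u₂ := by
  have hU0 : (Nat.card U₂ : ℂ) ≠ 0 := by
    have : Nat.card U₂ ≠ 0 := Nat.card_pos.ne'
    exact_mod_cast this
  have hχ1 := IsIrrCharacter.apply_one_ne_zero hχ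
  have hcf := IsIrrCharacter.isClassFunction hχ
  have h := IsIrrCharacter.sum_conj_mul_sub hχ U₂ (conj_eq_conj_right U₁ U₂ hcomm hgen) u₂ h₂ u₁
  have hterm : ∀ a : U₂, χ ((a : G) * u₂ * (a : G)⁻¹ * u₁) = χ (u₁ * u₂) := by
    intro a
    have e : (a : G) * u₂ * (a : G)⁻¹ * u₁ = (a : G) * (u₁ * u₂) * (a : G)⁻¹ := by
      have h3 := hcomm u₁ h₁ (a : G)⁻¹ (U₂.inv_mem a.2)
      have h4 := hcomm u₁ h₁ u₂ h₂
      calc (a : G) * u₂ * (a : G)⁻¹ * u₁ = (a : G) * u₂ * ((a : G)⁻¹ * u₁) := by group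
        _ = (a : G) * u₂ * (u₁ * (a : G)⁻¹) := by rw [h3]
        _ = (a : G) * (u₂ * u₁) * (a : G)⁻¹ := by group
        _ = (a : G) * (u₁ * u₂) * (a : G)⁻¹ := by rw [h4]
    rw [e, hcf]
  rw [Finset.sum_congr rfl (fun a _ => hterm a), Finset.sum_const, Finset.card_univ,
    ← Nat.card_eq_fintype_card, nsmul_eq_mul] at h
  have h5 : (Nat.card U₂ : ℂ) * (χ (u₁ * u₂) * χ 1) = (Nat.card U₂ : ℂ) * (χ u₁ * χ u₂) := by
    have : (Nat.card U₂ : ℂ) * χ (u₁ * u₂) * χ 1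
        = (Nat.card U₂ : ℂ) * χ u₂ * χ u₁ / χ 1 * χ 1 := congrArg (fun t => t * χ 1) h
    rw [div_mul_cancel₀ _ hχ1] at this
    rw [← mul_assoc, this]
    ring
  exact mul_left_cancel₀ hU0 h5

theorem card_conj_mul_of_central_prod {p : ℕ} [Fact p.Prime]
    (hcomm : ∀ u ∈ U₁, ∀ v ∈ U₂, u * v = v * u) (hgen : U₁ ⊔ U₂ = ⊤)
    (hZ : IsPGroup p ↥(U₁ ⊓ U₂)) {u₁ u₂ : G} (h₁ : u₁ ∈ U₁) (h₂ : u₂ ∈ U₂)
    (hr₁ : ¬ p ∣ orderOf u₁) :
    (Finset.univ.filter (fun x : G => IsConj (u₁ * u₂) x)).card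
      = (Finset.univ.filter (fun x : G => IsConj u₁ x)).card
        * (Finset.univ.filter (fun x : G => IsConj u₂ x)).card := by
  have hp : p.Prime := Fact.out
  rw [← Finset.card_product]
  symm
  have hmem₁ : ∀ x : G, IsConj u₁ x → x ∈ U₁ := by
    intro x hx
    obtain ⟨g, hg⟩ := isConj_iff.mp hx
    obtain ⟨a, ha, hconj⟩ := conj_eq_conj_left U₁ U₂ hcomm hgen g
    rw [← hg, hconj _ h₁]
    exact U₁.mul_mem (U₁.mul_mem ha h₁) (U₁.inv_mem ha)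
  have hmem₂ : ∀ x : G, IsConj u₂ x → x ∈ U₂ := by
    intro x hx
    obtain ⟨g, hg⟩ := isConj_iff.mp hx
    obtain ⟨b, hb, hconj⟩ := conj_eq_conj_right U₁ U₂ hcomm hgen g
    rw [← hg, hconj _ h₂]
    exact U₂.mul_mem (U₂.mul_mem hb h₂) (U₂.inv_mem hb)
  apply Finset.card_bij (fun (pr : G × G) _ => pr.1 * pr.2)
  · rintro ⟨k₁, k₂⟩ hk
    simp only [Finset.mem_product, Finset.mem_filter, Finset.mem_univ, true_and] at hk ⊢
    obtain ⟨g, hg⟩ := isConj_iff.mp hk.1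
    obtain ⟨a, ha, hconja⟩ := conj_eq_conj_left U₁ U₂ hcomm hgen g
    obtain ⟨h, hh⟩ := isConj_iff.mp hk.2
    obtain ⟨b, hb, hconjb⟩ := conj_eq_conj_right U₁ U₂ hcomm hgen h
    rw [isConj_iff]
    refine ⟨a * b, ?_⟩
    rw [← hg, ← hh, hconja _ h₁, hconjb _ h₂]
    have h3 := hcomm u₁ h₁ b hb
    have h4 := hcomm a⁻¹ (U₁.inv_mem ha) (b * u₂ * b⁻¹) (U₂.mul_mem (U₂.mul_mem hb h₂) (U₂.inv_mem hb))
    calc a * b * (u₁ * u₂) * (a * b)⁻¹ = a * (b * u₁) * u₂ * b⁻¹ * a⁻¹ := by group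
      _ = a * (u₁ * b) * u₂ * b⁻¹ * a⁻¹ := by rw [h3]
      _ = a * u₁ * ((b * u₂ * b⁻¹) * a⁻¹) := by group
      _ = a * u₁ * (a⁻¹ * (b * u₂ * b⁻¹)) := by rw [h4]
      _ = a * u₁ * a⁻¹ * (b * u₂ * b⁻¹) := by group
  · rintro ⟨k₁, k₂⟩ hk ⟨k₁', k₂'⟩ hk' heq
    simp only [Finset.mem_product, Finset.mem_filter, Finset.mem_univ, true_and] at hk hk'
    simp only at heq
    have hk₁ := hmem₁ _ hk.1
    have hk₁' := hmem₁ _ hk'.1
    have hk₂ := hmem₂ _ hk.2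
    have hk₂' := hmem₂ _ hk'.2
    -- z = k₁'⁻¹ k₁ = k₂' k₂⁻¹
    have hz : k₁'⁻¹ * k₁ = k₂' * k₂⁻¹ := by
      calc k₁'⁻¹ * k₁ = k₁'⁻¹ * (k₁ * k₂) * k₂⁻¹ := by group
        _ = k₁'⁻¹ * (k₁' * k₂') * k₂⁻¹ := by rw [heq]
        _ = k₂' * k₂⁻¹ := by group
    have hzmem : k₁'⁻¹ * k₁ ∈ U₁ ⊓ U₂ :=
      ⟨U₁.mul_mem (U₁.inv_mem hk₁') hk₁, by rw [hz]; exact U₂.mul_mem hk₂' (U₂.inv_mem hk₂)⟩
    obtain ⟨j, hj⟩ := (IsPGroup.iff_orderOf.mp hZ) ⟨_, hzmem⟩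
    rw [Subgroup.orderOf_mk] at hj
    have hcommz : Commute k₁' (k₁'⁻¹ * k₁) := (hcomm k₁' hk₁' _ hzmem.2)
    have hordc : ∀ x : G, IsConj u₁ x → orderOf x = orderOf u₁ := by
      intro x hx
      obtain ⟨c, hc⟩ := isConj_iff.mp hx
      rw [← hc]
      have e1 : c * u₁ * c⁻¹ = MulAut.conj c u₁ := by simp [MulAut.conj_apply]
      rw [e1, MulEquiv.orderOf_eq]
    have hord : orderOf k₁ = orderOf u₁ := hordc _ hk.1
    have hord' : orderOf k₁' = orderOf u₁ := hordc _ hk'.1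
    have hpow : (k₁'⁻¹ * k₁) ^ orderOf u₁ = 1 := by
      have e : k₁ = k₁' * (k₁'⁻¹ * k₁) := by group
      have h5 : k₁ ^ orderOf u₁ = 1 := by rw [← hord]; exact pow_orderOf_eq_one _
      have h6 : k₁' ^ orderOf u₁ = 1 := by rw [← hord']; exact pow_orderOf_eq_one _
      rw [e, hcommz.mul_pow, h6, one_mul] at h5
      exact h5
    have hdvd : orderOf (k₁'⁻¹ * k₁) ∣ orderOf u₁ := orderOf_dvd_of_pow_eq_one hpow
    have hj0 : j = 0 := by
      by_contra hj0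
      apply hr₁
      refine dvd_trans ?_ hdvd
      rw [hj]
      exact dvd_pow_self p hj0
    rw [hj0, pow_zero, orderOf_eq_one_iff] at hj
    have e1 : k₁ = k₁' := by
      have := congrArg (fun t => k₁' * t) hj
      simpa using this
    have e2 : k₂ = k₂' := by
      rw [e1] at heq
      exact mul_left_cancel heq
    rw [e1, e2]
  · intro x hx
    simp only [Finset.mem_filter, Finset.mem_univ, true_and] at hx
    obtain ⟨g, hg⟩ := isConj_iff.mp hx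
    refine ⟨(g * u₁ * g⁻¹, g * u₂ * g⁻¹), ?_, ?_⟩
    · simp only [Finset.mem_product, Finset.mem_filter, Finset.mem_univ, true_and]
      exact ⟨isConj_iff.mpr ⟨g, rfl⟩, isConj_iff.mpr ⟨g, rfl⟩⟩
    · simp only
      rw [← hg]
      group

theorem mul_eq_prEl_mul_prEl {p : ℕ} [hp : Fact p.Prime] {a b : G} (hab : Commute a b)
    (hreg : ¬ p ∣ orderOf (a * b)) : a * b = prEl p a * prEl p b := by
  have hpp : p.Prime := hp.out
  have hza : ∀ x ∈ Subgroup.zpowers a, ∀ y ∈ Subgroup.zpowers b, Commute x y := by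
    intro x hx y hy
    obtain ⟨m, rfl⟩ := Subgroup.mem_zpowers_iff.mp hx
    obtain ⟨n, rfl⟩ := Subgroup.mem_zpowers_iff.mp hy
    exact (hab.zpow_left m).zpow_right n
  have h1 := hza _ (ppEl_mem_zpowers (p := p) a) _ (ppEl_mem_zpowers (p := p) b)
  have h2 := hza _ (ppEl_mem_zpowers (p := p) a) _ (prEl_mem_zpowers (p := p) b)
  have h3 := hza _ (prEl_mem_zpowers (p := p) a) _ (ppEl_mem_zpowers (p := p) b)
  have h4 := hza _ (prEl_mem_zpowers (p := p) a) _ (prEl_mem_zpowers (p := p) b)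
  have h5 := commute_ppEl_prEl (p := p) a
  have h6 := commute_ppEl_prEl (p := p) b
  have hdecomp : a * b = (ppEl p a * ppEl p b) * (prEl p a * prEl p b) := by
    calc a * b = (ppEl p a * prEl p a) * (ppEl p b * prEl p b) := by
          rw [ppEl_mul_prEl, ppEl_mul_prEl]
      _ = ppEl p a * (prEl p a * ppEl p b) * prEl p b := by group
      _ = ppEl p a * (ppEl p b * prEl p a) * prEl p b := by rw [h3.eq]
      _ = (ppEl p a * ppEl p b) * (prEl p a * prEl p b) := by group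
  have hz : ∃ n : ℕ, orderOf (ppEl p a * ppEl p b) = p ^ n := by
    obtain ⟨i, hi⟩ := orderOf_ppEl (p := p) a
    obtain ⟨j, hj⟩ := orderOf_ppEl (p := p) b
    have hd := h1.orderOf_mul_dvd_lcm
    rw [hi, hj] at hd
    have hd2 : Nat.lcm (p ^ i) (p ^ j) ∣ p ^ (max i j) :=
      Nat.lcm_dvd (pow_dvd_pow p (le_max_left i j)) (pow_dvd_pow p (le_max_right i j))
    obtain ⟨n, -, hn⟩ := (Nat.dvd_prime_pow hpp).mp (hd.trans hd2)
    exact ⟨n, hn⟩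
  have hc : ¬ p ∣ orderOf (prEl p a * prEl p b) := by
    intro hdvd
    have hd := hdvd.trans h4.orderOf_mul_dvd_lcm
    have hd2 := hd.trans (Nat.lcm_dvd_mul _ _)
    rcases (Nat.Prime.dvd_mul hpp).mp hd2 with h | h
    · exact prEl_pRegular (p := p) a h
    · exact prEl_pRegular (p := p) b h
  have hcomm : Commute (ppEl p a * ppEl p b) (prEl p a * prEl p b) :=
    Commute.mul_left (Commute.mul_right h5 h2) (Commute.mul_right h3.symm h6)
  have h7 := prEl_mul_of_commute hz hc hcomm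
  rw [← hdecomp, prEl_of_pRegular hreg] at h7
  exact h7

variable {p : ℕ} {M : Ideal Cfsg.AlgInt}

theorem centralChar_mul_of_central_prod [Fact p.Prime] [Fintype U₁] [Fintype U₂]
    (hcomm : ∀ u ∈ U₁, ∀ v ∈ U₂, u * v = v * u) (hgen : U₁ ⊔ U₂ = ⊤)
    (hZ : IsPGroup p ↥(U₁ ⊓ U₂))
    (χ : Cfsg.IrrCharacter G) (ψ₁ : Cfsg.IrrCharacter U₁) (ψ₂ : Cfsg.IrrCharacter U₂)
    (h₁ : Cfsg.classInner (fun u : U₁ => (χ : G → ℂ) u) (ψ₁ : U₁ → ℂ) ≠ 0)
    (h₂ : Cfsg.classInner (fun u : U₂ => (χ : G → ℂ) u) (ψ₂ : U₂ → ℂ) ≠ 0)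
    (u₁ : U₁) (u₂ : U₂) (hr₁ : ¬ p ∣ orderOf u₁) :
    Cfsg.centralChar (χ : G → ℂ) ((u₁ : G) * (u₂ : G))
      = Cfsg.centralChar (ψ₁ : U₁ → ℂ) u₁ * Cfsg.centralChar (ψ₂ : U₂ → ℂ) u₂ := by
  have hL := conj_eq_conj_left U₁ U₂ hcomm hgen
  have hR := conj_eq_conj_right U₁ U₂ hcomm hgen
  have hχ1 := IsIrrCharacter.apply_one_ne_zero χ.2
  have e1 := apply_div_eq_of_constituent U₁ hL χ ψ₁ h₁ u₁
  have e2 := apply_div_eq_of_constituent U₂ hR χ ψ₂ h₂ u₂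
  have hmul := IsIrrCharacter.apply_mul_of_central_prod U₁ U₂ hcomm hgen χ.2 u₁.2 u₂.2
  have h3 : (χ : G → ℂ) ((u₁ : G) * (u₂ : G)) / (χ : G → ℂ) 1
      = (χ : G → ℂ) u₁ / (χ : G → ℂ) 1 * ((χ : G → ℂ) u₂ / (χ : G → ℂ) 1) := by
    rw [div_mul_div_comm, ← hmul, mul_div_mul_right _ _ hχ1]
  unfold Cfsg.centralChar
  rw [← index_centralizer_sub U₁ hL u₁, ← index_centralizer_sub U₂ hR u₂,
    ← card_conj_eq_index, ← card_conj_eq_index, ← card_conj_eq_index,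
    card_conj_mul_of_central_prod U₁ U₂ hcomm hgen hZ u₁.2 u₂.2
      (by rw [Subgroup.orderOf_coe]; exact hr₁)]
  rw [mul_div_assoc, mul_div_assoc, mul_div_assoc, h3, ← e1, ← e2]
  push_cast
  ring

end classes

end Cfsg.Agent.Lib.Helper6
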