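import Mathlib
import Cfsg.Agent.Lib.Helper6.CentralProd
import Cfsg.Agent.Lib.Helper6.BlkOrthFull
import Cfsg.Agent.Lib.Helper6.BlkSubNorm
import Cfsg.Agent.Lib.Helper6.BlkQuot3
import Cfsg.Agent.Lib.Helper6.BlkQuot4
import Cfsg.Agent.Lib.Helper6.BlkNormalP
import Cfsg.Agent.Lib.Helper6.BlkSections

set_option autoImplicit false
set_option linter.unusedSectionVars false
open Cfsg

namespace Cfsg.Agent.Lib.Helper6

open scoped ComplexConjugate

section

variable {G : Type*} [Group G] [Fintype G] [DecidableEq G]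
variable {p : ℕ} {M : Ideal Cfsg.AlgInt}

theorem index_centralizer_of_sup_eq_top (Q : Subgroup G) [hQn : Q.Normal] (hQ : IsPGroup p Q)
    [hp : Fact p.Prime] (hsup : Q ⊔ Subgroup.centralizer (Q : Set G) = ⊤) :
    ∃ k : ℕ, (Subgroup.centralizer (Q : Set G)).index = p ^ k := by
  haveI : (Subgroup.centralizer (Q : Set G)).Normal := Subgroup.normal_centralizer
  have h1 : (Subgroup.centralizer (Q : Set G)).index
      = (Subgroup.centralizer (Q : Set G)).relIndex Q := by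
    rw [← Subgroup.relIndex_top_right, ← hsup, Subgroup.relIndex_sup_right]
  have h2 : (Subgroup.centralizer (Q : Set G)).relIndex Q ∣ Nat.card Q :=
    Subgroup.relIndex_dvd_card _ _
  obtain ⟨n, hn⟩ := IsPGroup.iff_card.mp hQ
  rw [hn] at h2
  obtain ⟨k, -, hk⟩ := (Nat.dvd_prime_pow hp.out).mp h2
  exact ⟨k, by rw [h1, hk]⟩

open Classical in
/-- if `G = Q C_G(Q)` for a normal `p`-subgroup `Q`, then at a `p`-regular element the square sum
of a block is `|Q|` times the square sum over the members of the block with `Q` in the kernel -/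
theorem sum_block_sq_eq_card_mul (hM : Cfsg.IsPModular p M) [hp : Fact p.Prime]
    (Q : Subgroup G) [hQn : Q.Normal] (hQ : IsPGroup p Q)
    (hsup : Q ⊔ Subgroup.centralizer (Q : Set G) = ⊤) (χ₀ : Cfsg.IrrCharacter G)
    [Fintype (Cfsg.IrrCharacter G)] (s : G) (hs : ¬ p ∣ orderOf s) :
    ∑ ζ ∈ Finset.univ.filter (· ∈ Cfsg.blockOf M (χ₀ : G → ℂ)),
        (ζ : G → ℂ) s * conj ((ζ : G → ℂ) s)
      = (Nat.card Q : ℂ) * ∑ ζ ∈ Finset.univ.filter (fun ζ : Cfsg.IrrCharacter G =>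
          ζ ∈ Cfsg.blockOf M (χ₀ : G → ℂ) ∧ ∀ n ∈ Q, (ζ : G → ℂ) n = (ζ : G → ℂ) 1),
        (ζ : G → ℂ) s * conj ((ζ : G → ℂ) s) := by
  classical
  haveI : Fintype Q := Fintype.ofFinite _
  have hpp : p.Prime := hp.out
  obtain ⟨C, hC⟩ : ∃ C : Subgroup G, C = Subgroup.centralizer (Q : Set G) := ⟨_, rfl⟩
  rw [← hC] at hsup
  haveI : Fintype C := Fintype.ofFinite _
  have hidx := index_centralizer_of_sup_eq_top Q hQ (by rw [← hC]; exact hsup)
  have hsC : s ∈ C := by rw [hC]; exact mem_centralizer_of_pRegular Q hpp hidx s hs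
  have hcomm : ∀ u ∈ Q, ∀ v ∈ C, u * v = v * u := by
    intro u hu v hv
    rw [hC, Subgroup.mem_centralizer_iff] at hv
    exact hv u hu
  -- the factorization of the values
  have hfac : ∀ (ζ : Cfsg.IrrCharacter G) (u : Q),
      (ζ : G → ℂ) ((u : G) * s) = (ζ : G → ℂ) u * (ζ : G → ℂ) s / (ζ : G → ℂ) 1 := by
    intro ζ u
    have h1 := IsIrrCharacter.apply_mul_of_central_prod Q C hcomm hsup ζ.2 u.2 hsC
    have h2 := IsIrrCharacter.apply_one_ne_zero ζ.2
    field_simp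
    exact h1
  -- block orthogonality
  have horth : ∀ u : Q, u ≠ 1 →
      ∑ ζ ∈ Finset.univ.filter (· ∈ Cfsg.blockOf M (χ₀ : G → ℂ)),
        (ζ : G → ℂ) ((u : G) * s) * conj ((ζ : G → ℂ) s) = 0 := by
    intro u hu
    have hus : Commute (u : G) s := hcomm u u.2 s hsC
    obtain ⟨k, hk⟩ := (IsPGroup.iff_orderOf.mp hQ) u
    rw [← Subgroup.orderOf_coe] at hk
    have hp1 : Cfsg.IsPPart p ((u : G) * s) (u : G) := ⟨s, rfl, hus, ⟨k, hk⟩, hs⟩
    have hp2 : Cfsg.IsPPart p s 1 := ⟨s, one_mul s, Commute.one_left s, ⟨0, by simp⟩, hs⟩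
    have hnc : ¬ IsConj (u : G) 1 := by
      intro h
      have h' := isConj_one_right.mp h.symm
      exact hu (Subtype.ext h')
    have h := block_orthogonality hM ((u : G) * s) s (u : G) 1 hp1 hp2 hnc χ₀
    rw [finsum_mem_eq_sum_filter_lib] at h
    rw [← h]
    apply Finset.sum_congr rfl
    intro ζ _
    rw [IsCharacter.apply_inv (IsIrrCharacter.isCharacter ζ.2)]
  -- sum over `Q`
  have hsumQ : ∑ u : Q, ∑ ζ ∈ Finset.univ.filter (· ∈ Cfsg.blockOf M (χ₀ : G → ℂ)),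
      (ζ : G → ℂ) ((u : G) * s) * conj ((ζ : G → ℂ) s)
      = ∑ ζ ∈ Finset.univ.filter (· ∈ Cfsg.blockOf M (χ₀ : G → ℂ)),
        (ζ : G → ℂ) s * conj ((ζ : G → ℂ) s) := by
    rw [Finset.sum_eq_single (1 : Q)]
    · simp
    · intro u _ hu
      exact horth u hu
    · intro h; exact absurd (Finset.mem_univ _) h
  rw [← hsumQ, Finset.sum_comm]
  -- evaluate the inner sums
  have hinner : ∀ ζ : Cfsg.IrrCharacter G,
      ∑ u : Q, (ζ : G → ℂ) ((u : G) * s) * conj ((ζ : G → ℂ) s)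
        = if (∀ n ∈ Q, (ζ : G → ℂ) n = (ζ : G → ℂ) 1) then
            (Nat.card Q : ℂ) * ((ζ : G → ℂ) s * conj ((ζ : G → ℂ) s)) else 0 := by
    intro ζ
    have h2 := IsIrrCharacter.apply_one_ne_zero ζ.2
    have h3 : ∑ u : Q, (ζ : G → ℂ) ((u : G) * s) * conj ((ζ : G → ℂ) s)
        = (∑ u : Q, (ζ : G → ℂ) u) * ((ζ : G → ℂ) s * conj ((ζ : G → ℂ) s)) / (ζ : G → ℂ) 1 := by
      rw [Finset.sum_mul, Finset.sum_div]
      apply Finset.sum_congr rfl
      intro u _
      rw [hfac ζ u]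
      ring
    rw [h3]
    by_cases hconst : ∀ n ∈ Q, (ζ : G → ℂ) n = (ζ : G → ℂ) 1
    · rw [if_pos hconst]
      have h4 : ∑ u : Q, (ζ : G → ℂ) u = (Nat.card Q : ℂ) * (ζ : G → ℂ) 1 := by
        rw [Finset.sum_congr rfl (fun (u : Q) _ => hconst u u.2), Finset.sum_const,
          Finset.card_univ, nsmul_eq_mul, Nat.card_eq_fintype_card]
      rw [h4]
      field_simp
    · rw [if_neg hconst]
      have h4 : ∑ u : Q, (ζ : G → ℂ) u = 0 := by
        by_contra hne
        apply hconst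
        intro n hn
        exact IsIrrCharacter.const_on_normal_of_sum_ne_zero Q ζ.2 hne ⟨n, hn⟩
      rw [h4, zero_mul, zero_div]
  rw [Finset.sum_congr rfl (fun ζ _ => hinner ζ), Finset.mul_sum, ← Finset.sum_filter,
    Finset.filter_filter]

end

end Cfsg.Agent.Lib.Helper6
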