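import Mathlib
import Cfsg.Agent.Lib.Helper6.KleinFour
import Cfsg.Agent.Lib.Helper6.BlkOrth2

set_option autoImplicit false
set_option linter.unusedSectionVars false
open Cfsg

namespace Cfsg.Agent.Lib.Helper6

section

variable {G : Type*} [Group G]

/-- an element of odd order whose square commutes with `x` commutes with `x` -/
theorem commute_of_sq_commute_of_odd (n x : G) (hodd : Odd (orderOf n))
    (h : Commute (n ^ 2) x) : Commute n x := by
  obtain ⟨k, hk⟩ := hodd
  have h1 : n = (n ^ 2) ^ (k + 1) := by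
    rw [← pow_mul]
    have : 2 * (k + 1) = orderOf n + 1 := by omega
    rw [this, pow_succ, pow_orderOf_eq_one, one_mul]
  rw [h1]
  exact h.pow_left (k + 1)

theorem orderOf_conj_eq (c x : G) : orderOf (c * x * c⁻¹) = orderOf x := by
  have e1 : c * x * c⁻¹ = MulAut.conj c x := by simp [MulAut.conj_apply]
  rw [e1, MulEquiv.orderOf_eq]

/-- A group of order `4 g₀`, `g₀` odd, without a normal `2`-complement has Klein four Sylow
`2`-subgroups, all of whose involutions are conjugate. -/
theorem kleinFour_fusion_of_no_normal_complement [Finite G] (g₀ : ℕ) (hg₀ : Odd g₀)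
    (hG : Nat.card G = 4 * g₀) (hnc : ¬ ∃ N : Subgroup G, N.Normal ∧ Nat.card N = g₀)
    (P : Sylow 2 G) :
    IsKleinFour (P : Subgroup G) ∧
      ∀ x ∈ (P : Subgroup G), ∀ y ∈ (P : Subgroup G), x ≠ 1 → y ≠ 1 → IsConj x y := by
  classical
  have : Fact (Nat.Prime 2) := ⟨Nat.prime_two⟩
  have : Fintype G := Fintype.ofFinite G
  have : Fintype ↥(P : Subgroup G) := Fintype.ofFinite _
  have hg₀2 : ¬ 2 ∣ g₀ := by
    rw [← even_iff_two_dvd, Nat.not_even_iff_odd]; exact hg₀
  have hg₀0 : g₀ ≠ 0 := by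
    rintro rfl
    exact hg₀2 (dvd_zero 2)
  have hPcard : Nat.card (P : Subgroup G) = 4 := by
    rw [Sylow.card_eq_multiplicity P, hG, Nat.factorization_mul (by norm_num) hg₀0]
    have h4 : (4 : ℕ) = 2 ^ 2 := by norm_num
    rw [h4, Nat.Prime.factorization_pow Nat.prime_two]
    simp only [Finsupp.coe_add, Pi.add_apply, Finsupp.single_eq_same]
    rw [Nat.factorization_eq_zero_of_not_dvd hg₀2]
  have hPcomm : ∀ a ∈ (P : Subgroup G), ∀ b ∈ (P : Subgroup G), a * b = b * a := by
    intro a ha b hb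
    have h1 : Nat.card (P : Subgroup G) = 2 ^ 2 := by rw [hPcard]; norm_num
    have h2 := (IsPGroup.isMulCommutative_of_card_eq_prime_sq h1).is_comm.comm
      (⟨a, ha⟩ : (P : Subgroup G)) ⟨b, hb⟩
    exact congrArg (fun t : (P : Subgroup G) => (t : G)) h2
  have hPC : (P : Subgroup G) ≤ Subgroup.centralizer ((P : Subgroup G) : Set G) := by
    intro a ha
    rw [Subgroup.mem_centralizer_iff]
    intro b hb
    exact hPcomm b hb a ha
  -- the normalizer does not centralize
  have hNC : ¬ Subgroup.normalizer ((P : Subgroup G) : Set G)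
      ≤ Subgroup.centralizer ((P : Subgroup G) : Set G) := by
    intro hle
    apply hnc
    refine ⟨(MonoidHom.transferSylow P hle).ker, inferInstance, ?_⟩
    have h1 := (MonoidHom.ker_transferSylow_isComplement' P hle).card_mul_card
    rw [hPcard, hG] at h1
    omega
  obtain ⟨n, hnN, hnC⟩ := Set.not_subset.mp hNC
  obtain ⟨v, hv, u, hu, hnvu, hvodd, ⟨j, hj⟩⟩ := exists_pParts 2 Nat.prime_two n
  have hzN : Subgroup.zpowers n ≤ Subgroup.normalizer ((P : Subgroup G) : Set G) := by
    rw [Subgroup.zpowers_le]; exact hnN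
  have huP : u ∈ (P : Subgroup G) := mem_sylow_of_mem_normalizer_of_pow P u (hzN hu) j hj
  have hvN : v ∈ Subgroup.normalizer ((P : Subgroup G) : Set G) := hzN hv
  have hvC : v ∉ Subgroup.centralizer ((P : Subgroup G) : Set G) := by
    intro h
    apply hnC
    rw [hnvu]
    exact Subgroup.mul_mem _ h (hPC huP)
  have hvo : Odd (orderOf v) := by
    rw [← Nat.not_even_iff_odd, even_iff_two_dvd]; exact hvodd
  -- the action
  have hact : ∀ x ∈ (P : Subgroup G), v * x * v⁻¹ ∈ (P : Subgroup G) := by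
    intro x hx
    exact (Subgroup.mem_normalizer_iff.mp hvN x).mp hx
  obtain ⟨x, hxP, hxne⟩ : ∃ x ∈ (P : Subgroup G), v * x * v⁻¹ ≠ x := by
    by_contra hcon
    push Not at hcon
    apply hvC
    rw [Subgroup.mem_centralizer_iff]
    intro h hh
    have := hcon h hh
    calc h * v = (v * h * v⁻¹) * v := by rw [this]
      _ = v * h := by group
  have hfix : ∀ y : G, v ^ 2 * y * (v ^ 2)⁻¹ = y → v * y * v⁻¹ = y := by
    intro y hy
    have h1 : Commute (v ^ 2) y := by
      show v ^ 2 * y = y * v ^ 2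
      calc v ^ 2 * y = (v ^ 2 * y * (v ^ 2)⁻¹) * v ^ 2 := by group
        _ = y * v ^ 2 := by rw [hy]
    have h2 := commute_of_sq_commute_of_odd v y hvo h1
    calc v * y * v⁻¹ = (y * v) * v⁻¹ := by rw [h2.eq]
      _ = y := by group
  obtain ⟨x₁, hx₁⟩ : ∃ x₁ : G, x₁ = v * x * v⁻¹ := ⟨_, rfl⟩
  obtain ⟨x₂, hx₂⟩ : ∃ x₂ : G, x₂ = v * x₁ * v⁻¹ := ⟨_, rfl⟩
  have hx₁P : x₁ ∈ (P : Subgroup G) := by rw [hx₁]; exact hact x hxP
  have hx₂P : x₂ ∈ (P : Subgroup G) := by rw [hx₂]; exact hact x₁ hx₁P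
  have hx1 : x ≠ 1 := by
    rintro rfl
    apply hxne
    group
  have h10 : x₁ ≠ x := by rw [hx₁]; exact hxne
  have h21 : x₂ ≠ x₁ := by
    intro h
    apply h10
    rw [hx₂, hx₁] at h
    have := mul_left_cancel (mul_right_cancel h)
    rw [hx₁]; exact this
  have h20 : x₂ ≠ x := by
    intro h
    apply hxne
    apply hfix
    calc v ^ 2 * x * (v ^ 2)⁻¹ = v * (v * x * v⁻¹) * v⁻¹ := by
          rw [pow_two, mul_inv_rev]; simp only [mul_assoc]
      _ = x₂ := by rw [← hx₁, ← hx₂]
      _ = x := h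
  have hx₁1 : x₁ ≠ 1 := by
    intro h
    apply hx1
    rw [hx₁] at h
    have : x = v⁻¹ * (v * x * v⁻¹) * v := by group
    rw [this, h]; group
  have hx₂1 : x₂ ≠ 1 := by
    intro h
    apply hx₁1
    rw [hx₂] at h
    have : x₁ = v⁻¹ * (v * x₁ * v⁻¹) * v := by group
    rw [this, h]; group
  -- enumeration of `P`
  have henum : ∀ y ∈ (P : Subgroup G), y = 1 ∨ y = x ∨ y = x₁ ∨ y = x₂ := by
    intro y hy
    obtain ⟨T, hT⟩ : ∃ T : Finset ↥(P : Subgroup G), T
        = {(1 : ↥(P : Subgroup G)), ⟨x, hxP⟩, ⟨x₁, hx₁P⟩, ⟨x₂, hx₂P⟩} := ⟨_, rfl⟩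
    have hTcard : T.card = 4 := by
      rw [hT]
      rw [Finset.card_insert_of_notMem, Finset.card_insert_of_notMem,
        Finset.card_insert_of_notMem, Finset.card_singleton]
      · simp only [Finset.mem_singleton, Subtype.mk.injEq]
        exact fun h => h21 h.symm
      · simp only [Finset.mem_insert, Finset.mem_singleton, Subtype.mk.injEq, not_or]
        exact ⟨fun h => h10 h.symm, fun h => h20 h.symm⟩
      · simp only [Finset.mem_insert, Finset.mem_singleton, not_or]
        refine ⟨?_, ?_, ?_⟩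
        · intro h; exact hx1 (congrArg Subtype.val h).symm
        · intro h; exact hx₁1 (congrArg Subtype.val h).symm
        · intro h; exact hx₂1 (congrArg Subtype.val h).symm
    have hTuniv : T = Finset.univ := by
      apply Finset.eq_univ_of_card
      rw [hTcard, ← Nat.card_eq_fintype_card, hPcard]
    have hyT : (⟨y, hy⟩ : ↥(P : Subgroup G)) ∈ T := by rw [hTuniv]; exact Finset.mem_univ _
    rw [hT] at hyT
    simp only [Finset.mem_insert, Finset.mem_singleton, Subtype.mk.injEq] at hyT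
    rcases hyT with h | h | h | h
    · left; exact congrArg Subtype.val h
    · right; left; exact h
    · right; right; left; exact h
    · right; right; right; exact h
  -- conjugacy
  have hc01 : IsConj x x₁ := isConj_iff.mpr ⟨v, hx₁.symm⟩
  have hc12 : IsConj x₁ x₂ := isConj_iff.mpr ⟨v, hx₂.symm⟩
  have hc02 : IsConj x x₂ := hc01.trans hc12
  have hconj : ∀ a ∈ (P : Subgroup G), ∀ b ∈ (P : Subgroup G), a ≠ 1 → b ≠ 1 → IsConj a b := by
    intro a ha b hb ha1 hb1
    rcases henum a ha with h | h | h | h <;> rcases henum b hb with h' | h' | h' | h' <;>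
      first
      | exact absurd h ha1
      | exact absurd h' hb1
      | (subst h; subst h'; first
          | exact IsConj.refl _
          | exact hc01 | exact hc01.symm | exact hc12 | exact hc12.symm
          | exact hc02 | exact hc02.symm)
  refine ⟨⟨hPcard, ?_⟩, hconj⟩
  -- exponent
  have h2 : 2 ∣ Nat.card (P : Subgroup G) := by rw [hPcard]; norm_num
  obtain ⟨w, hw⟩ := exists_prime_orderOf_dvd_card' 2 h2
  have hw1 : (w : G) ≠ 1 := by
    intro h
    have : w = 1 := Subtype.ext h
    rw [this, orderOf_one] at hw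
    norm_num at hw
  have hord : ∀ y ∈ (P : Subgroup G), y ≠ 1 → orderOf y = 2 := by
    intro y hy hy1
    obtain ⟨c, hc⟩ := isConj_iff.mp (hconj (w : G) w.2 y hy hw1 hy1)
    rw [← hc, orderOf_conj_eq, Subgroup.orderOf_coe, hw]
  have hnt : Nontrivial ↥(P : Subgroup G) := by
    rw [← Finite.one_lt_card_iff_nontrivial, hPcard]
    norm_num
  rw [Monoid.exponent_eq_prime_iff Nat.prime_two]
  intro y hy1
  rw [← Subgroup.orderOf_coe]
  apply hord _ y.2
  intro h
  exact hy1 (Subtype.ext h)

end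

end Cfsg.Agent.Lib.Helper6
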