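import Mathlib
import Cfsg.Agent.Lib.Helper6.BlkContrib
import Cfsg.Agent.Lib.Helper6.BlkSections
import Cfsg.Agent.Lib.Helper6.BlkMajor
import Cfsg.Agent.Lib.Helper6.KleinFus
import Cfsg.Agent.Lib.Helper6.BlkVanish

set_option autoImplicit false
set_option linter.unusedSectionVars false
open Cfsg

namespace Cfsg.Agent.Lib.Helper6

open scoped ComplexConjugate

section reps

variable {G : Type*} [Group G] [Fintype G] [DecidableEq G]

/-- representatives of the classes of `p`-elements containing two prescribed elements -/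
theorem exists_pElement_reps (p : ℕ) (a b : G) (ha : ∃ k : ℕ, orderOf a = p ^ k)
    (hb : ∃ k : ℕ, orderOf b = p ^ k) (hab : ¬ IsConj a b) :
    ∃ X : Finset G, a ∈ X ∧ b ∈ X ∧ (∀ x ∈ X, ∃ k : ℕ, orderOf x = p ^ k) ∧
      ∀ g : G, (∃ k : ℕ, orderOf g = p ^ k) → ∃! x, x ∈ X ∧ IsConj g x := by
  classical
  let rep : G → G := fun g => if IsConj g a then a else if IsConj g b then b
    else Quotient.out (ConjClasses.mk g)
  have hrep1 : ∀ g : G, IsConj g (rep g) := by
    intro g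
    simp only [rep]
    split_ifs with h1 h2
    · exact h1
    · exact h2
    · have : ConjClasses.mk (Quotient.out (ConjClasses.mk g)) = ConjClasses.mk g :=
        Quotient.out_eq _
      exact (ConjClasses.mk_eq_mk_iff_isConj.mp this).symm
  have hrep2 : ∀ g h : G, IsConj g h → rep g = rep h := by
    intro g h hgh
    simp only [rep]
    have e1 : IsConj g a ↔ IsConj h a := ⟨fun t => hgh.symm.trans t, fun t => hgh.trans t⟩
    have e2 : IsConj g b ↔ IsConj h b := ⟨fun t => hgh.symm.trans t, fun t => hgh.trans t⟩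
    have e3 : ConjClasses.mk g = ConjClasses.mk h := ConjClasses.mk_eq_mk_iff_isConj.mpr hgh
    simp only [e1, e2, e3]
  have hord : ∀ g h : G, IsConj g h → orderOf g = orderOf h := by
    intro g h hgh
    obtain ⟨c, hc⟩ := isConj_iff.mp hgh
    rw [← hc, orderOf_conj_eq]
  refine ⟨(Finset.univ.filter (fun g : G => ∃ k : ℕ, orderOf g = p ^ k)).image rep, ?_, ?_, ?_, ?_⟩
  · rw [Finset.mem_image]
    refine ⟨a, by simp only [Finset.mem_filter, Finset.mem_univ, true_and]; exact ha, ?_⟩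
    simp only [rep]
    rw [if_pos (IsConj.refl a)]
  · rw [Finset.mem_image]
    refine ⟨b, by simp only [Finset.mem_filter, Finset.mem_univ, true_and]; exact hb, ?_⟩
    simp only [rep]
    rw [if_neg (fun h => hab h.symm), if_pos (IsConj.refl b)]
  · intro x hx
    obtain ⟨g, hg, rfl⟩ := Finset.mem_image.mp hx
    simp only [Finset.mem_filter, Finset.mem_univ, true_and] at hg
    obtain ⟨k, hk⟩ := hg
    exact ⟨k, by rw [← hord g (rep g) (hrep1 g), hk]⟩
  · intro g hg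
    refine ⟨rep g, ⟨?_, hrep1 g⟩, ?_⟩
    · rw [Finset.mem_image]
      exact ⟨g, by simp only [Finset.mem_filter, Finset.mem_univ, true_and]; exact hg, rfl⟩
    · rintro x' ⟨hx', hgx'⟩
      obtain ⟨g', _, rfl⟩ := Finset.mem_image.mp hx'
      have h1 : IsConj g g' := hgx'.trans (hrep1 g').symm
      rw [hrep2 g g' h1]

end reps

section general

variable {G : Type*} [Group G] [Fintype G] [DecidableEq G]
variable {p : ℕ} {M : Ideal Cfsg.AlgInt}

/-- a block has positive `p`-regular rank -/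
theorem blockRank_pos (hM : Cfsg.IsPModular p M) (B : Set (Cfsg.IrrCharacter G))
    (hB : Cfsg.IsPBlock M B) : 0 < Cfsg.blockRank p B := by
  obtain ⟨χ₀, hBχ⟩ := hB
  have hχ₀ : χ₀ ∈ B := by rw [hBχ]; exact sameBlock_refl hM _
  unfold Cfsg.blockRank
  rw [Module.finrank_pos_iff_exists_ne_zero]
  refine ⟨⟨Cfsg.pRegularPart p (χ₀ : G → ℂ), Submodule.subset_span ⟨χ₀, hχ₀, rfl⟩⟩, ?_⟩
  intro h
  have h1 : Cfsg.pRegularPart p (χ₀ : G → ℂ) = 0 := congrArg Subtype.val h
  have h2 := congrFun h1 1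
  unfold Cfsg.pRegularPart Cfsg.IsPRegular at h2
  rw [if_pos (by rw [orderOf_one]; exact hM.1.one_lt.ne' ∘ Nat.dvd_one.mp)] at h2
  have h3 := IsIrrCharacter.charDegree_pos χ₀.2
  rw [IsCharacter.apply_one_eq_charDegree (IsIrrCharacter.isCharacter χ₀.2)] at h2
  simp only [Pi.zero_apply, Nat.cast_eq_zero] at h2
  omega

/-- a `2`-block of defect at most one has at most two characters -/
theorem card_block_le_two (hM : Cfsg.IsPModular 2 M) (B : Set (Cfsg.IrrCharacter G))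
    (hB : Cfsg.IsPBlock M B) (hd : Cfsg.blockDefect 2 B ≤ 1) : Nat.card B ≤ 2 := by
  classical
  have : Fintype (Cfsg.IrrCharacter G) := Fintype.ofFinite _
  have : Fact (Nat.Prime 2) := ⟨Nat.prime_two⟩
  have h1 := four_mul_sum_pow_height_le hM B hB
  have h2 : (Finset.univ.filter (· ∈ B)).card
      ≤ ∑ β ∈ Finset.univ.filter (· ∈ B), 2 ^ (2 * Cfsg.blockHeight 2 B (β : G → ℂ)) := by
    rw [Finset.card_eq_sum_ones]
    apply Finset.sum_le_sum
    intro β _
    exact Nat.one_le_two_pow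
  have h3 : 2 ^ (2 * Cfsg.blockDefect 2 B) ≤ 2 ^ 2 :=
    Nat.pow_le_pow_right (by norm_num) (by omega)
  rw [Nat.card_eq_fintype_card, Fintype.card_subtype]
  omega

end general

section central

variable {C : Type*} [Group C] [Fintype C] [DecidableEq C]
variable {M : Ideal Cfsg.AlgInt}

/-- a `2`-block of defect at most one of a group with a central involution `z`, containing a
character with `z` in its kernel, consists of exactly two characters agreeing on the elements of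
odd order, the second one having `z ↦ -1` -/
theorem defect_one_central_block (hM : Cfsg.IsPModular 2 M) (z : C) (hzc : ∀ h : C, z * h = h * z)
    (hz2 : orderOf z = 2) (b : Set (Cfsg.IrrCharacter C)) (hb : Cfsg.IsPBlock M b)
    (hd : Cfsg.blockDefect 2 b ≤ 1) (θ : Cfsg.IrrCharacter C) (hθ : θ ∈ b)
    (hθz : (θ : C → ℂ) z = (θ : C → ℂ) 1) :
    ∃ θ' : Cfsg.IrrCharacter C, θ' ≠ θ ∧ b = {θ, θ'} ∧ (θ' : C → ℂ) z = -(θ' : C → ℂ) 1 ∧
      ∀ y : C, ¬ 2 ∣ orderOf y → (θ' : C → ℂ) y = (θ : C → ℂ) y := by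
  classical
  have : Fintype (Cfsg.IrrCharacter C) := Fintype.ofFinite _
  have hbθ : b = Cfsg.blockOf M (θ : C → ℂ) := by
    obtain ⟨ξ₀, hbξ⟩ := hb
    rw [hbξ]
    rw [hbξ] at hθ
    exact blockOf_eq_of_mem hM hθ
  have hzz : z * z = 1 := by rw [← sq, ← hz2, pow_orderOf_eq_one]
  have hzinv : z⁻¹ = z := inv_eq_of_mul_eq_one_left hzz
  have hz2' : (2 : ℕ) ∣ orderOf z := by rw [hz2]
  have hreal : ∀ ψ : Cfsg.IrrCharacter C, conj ((ψ : C → ℂ) z) = (ψ : C → ℂ) z := by
    intro ψ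
    rw [← IsCharacter.apply_inv (IsIrrCharacter.isCharacter ψ.2), hzinv]
  have horth : ∀ y : C, ¬ 2 ∣ orderOf y →
      ∑ ψ ∈ Finset.univ.filter (· ∈ b), (ψ : C → ℂ) y * (ψ : C → ℂ) z = 0 := by
    intro y hy
    have h1 := weak_block_orthogonality hM θ y z hy hz2'
    rw [← hbθ, finsum_mem_eq_sum_filter_lib] at h1
    rw [← h1]
    apply Finset.sum_congr rfl
    intro ψ _
    rw [hreal]
  have hcard : (Finset.univ.filter (· ∈ b)).card ≤ 2 := by
    have := card_block_le_two hM b hb hd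
    rwa [Nat.card_eq_fintype_card, Fintype.card_subtype] at this
  have hθs : θ ∈ Finset.univ.filter (· ∈ b) := by simp [hθ]
  have hx : ∀ ψ : Cfsg.IrrCharacter C, (ψ : C → ℂ) 1 = (Cfsg.charDegree (ψ : C → ℂ) : ℂ) :=
    fun ψ => IsCharacter.apply_one_eq_charDegree (IsIrrCharacter.isCharacter ψ.2)
  have hxpos : ∀ ψ : Cfsg.IrrCharacter C, 0 < Cfsg.charDegree (ψ : C → ℂ) :=
    fun ψ => IsIrrCharacter.charDegree_pos ψ.2
  have h1odd : ¬ 2 ∣ orderOf (1 : C) := by rw [orderOf_one]; norm_num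
  -- there is a second character
  obtain ⟨θ', hθ's, hne⟩ : ∃ θ' ∈ Finset.univ.filter (· ∈ b), θ' ≠ θ := by
    by_contra hcon
    push Not at hcon
    have hs : Finset.univ.filter (· ∈ b) = {θ} := by
      ext ψ
      rw [Finset.mem_singleton]
      exact ⟨fun h => hcon ψ h, fun h => by rw [h]; exact hθs⟩
    have h1 := horth 1 h1odd
    rw [hs, Finset.sum_singleton, hθz, hx θ] at h1
    have h2 := hxpos θ
    have h3 : (Cfsg.charDegree (θ : C → ℂ) : ℂ) ≠ 0 := by exact_mod_cast h2.ne'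
    exact mul_self_ne_zero.mpr h3 h1
  have hθ'b : θ' ∈ b := (Finset.mem_filter.mp hθ's).2
  have hs : Finset.univ.filter (· ∈ b) = {θ, θ'} := by
    symm
    apply Finset.eq_of_subset_of_card_le
    · intro ψ hψ
      rw [Finset.mem_insert, Finset.mem_singleton] at hψ
      rcases hψ with rfl | rfl
      · exact hθs
      · exact hθ's
    · rw [Finset.card_pair hne.symm]
      exact hcard
  have hbset : b = {θ, θ'} := by
    ext ψ
    have : ψ ∈ Finset.univ.filter (· ∈ b) ↔ ψ ∈ ({θ, θ'} : Finset (Cfsg.IrrCharacter C)) := by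
      rw [hs]
    simp only [Finset.mem_filter, Finset.mem_univ, true_and, Finset.mem_insert,
      Finset.mem_singleton] at this
    simp only [Set.mem_insert_iff, Set.mem_singleton_iff]
    exact this
  have horth2 : ∀ y : C, ¬ 2 ∣ orderOf y →
      (θ : C → ℂ) y * (θ : C → ℂ) z + (θ' : C → ℂ) y * (θ' : C → ℂ) z = 0 := by
    intro y hy
    have := horth y hy
    rw [hs, Finset.sum_pair hne.symm] at this
    exact this
  -- the value of `θ'` at `z`
  have hsq : (θ' : C → ℂ) z * (θ' : C → ℂ) z = (θ' : C → ℂ) 1 * (θ' : C → ℂ) 1 := by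
    have h1 := IsIrrCharacter.apply_central_mul θ'.2 hzc z
    rw [hzz] at h1
    have h3 : (θ' : C → ℂ) 1 ≠ 0 := by
      rw [hx θ']
      exact_mod_cast (hxpos θ').ne'
    field_simp at h1
    linear_combination -h1
  have h0 := horth2 1 h1odd
  rw [hθz] at h0
  have hcases : (θ' : C → ℂ) z = (θ' : C → ℂ) 1 ∨ (θ' : C → ℂ) z = -(θ' : C → ℂ) 1 := by
    have : ((θ' : C → ℂ) z - (θ' : C → ℂ) 1) * ((θ' : C → ℂ) z + (θ' : C → ℂ) 1) = 0 := by
      linear_combination hsq
    rcases mul_eq_zero.mp this with h | h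
    · left; exact sub_eq_zero.mp h
    · right; exact eq_neg_of_add_eq_zero_left h
  have hneg : (θ' : C → ℂ) z = -(θ' : C → ℂ) 1 := by
    rcases hcases with h | h
    · exfalso
      rw [h, hx θ, hx θ'] at h0
      have h1 : ((Cfsg.charDegree (θ : C → ℂ) * Cfsg.charDegree (θ : C → ℂ)
          + Cfsg.charDegree (θ' : C → ℂ) * Cfsg.charDegree (θ' : C → ℂ) : ℕ) : ℂ) = 0 := by
        push_cast
        exact h0
      have h2 : Cfsg.charDegree (θ : C → ℂ) * Cfsg.charDegree (θ : C → ℂ)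
          + Cfsg.charDegree (θ' : C → ℂ) * Cfsg.charDegree (θ' : C → ℂ) = 0 := by
        exact_mod_cast h1
      have := Nat.mul_pos (hxpos θ) (hxpos θ)
      omega
    · exact h
  have hdeg : Cfsg.charDegree (θ' : C → ℂ) = Cfsg.charDegree (θ : C → ℂ) := by
    rw [hneg, hx θ, hx θ'] at h0
    have h1 : ((Cfsg.charDegree (θ : C → ℂ) * Cfsg.charDegree (θ : C → ℂ) : ℕ) : ℂ)
        = ((Cfsg.charDegree (θ' : C → ℂ) * Cfsg.charDegree (θ' : C → ℂ) : ℕ) : ℂ) := by
      push_cast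
      linear_combination h0
    have h2 : Cfsg.charDegree (θ : C → ℂ) * Cfsg.charDegree (θ : C → ℂ)
        = Cfsg.charDegree (θ' : C → ℂ) * Cfsg.charDegree (θ' : C → ℂ) := by exact_mod_cast h1
    exact (Nat.mul_self_inj.mp h2).symm
  refine ⟨θ', hne, hbset, hneg, ?_⟩
  intro y hy
  have h1 := horth2 y hy
  rw [hθz, hneg, hx θ, hx θ', hdeg] at h1
  have h3 : (Cfsg.charDegree (θ : C → ℂ) : ℂ) ≠ 0 := by exact_mod_cast (hxpos θ).ne'
  have h4 : ((θ : C → ℂ) y - (θ' : C → ℂ) y) * (Cfsg.charDegree (θ : C → ℂ) : ℂ) = 0 := by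
    linear_combination h1
  rcases mul_eq_zero.mp h4 with h | h
  · exact (sub_eq_zero.mp h).symm
  · exact absurd h h3

end central

section main

variable {G : Type*} [Group G] [Fintype G] [DecidableEq G]
variable {M : Ideal Cfsg.AlgInt}

/-- the shifted inner product along a central involution -/
theorem classInner_shift_central_involution (x : G) (hx : orderOf x = 2)
    (H : Subgroup G) [Fintype H] (hH : H = Subgroup.centralizer ({x} : Set G))
    (χ : G → ℂ) (ψ : Cfsg.IrrCharacter H) (ω : ℂ) (hω : conj ω = ω)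
    (hψ : ∀ c : H, ∀ z : H, (z : G) = x → (ψ : H → ℂ) (z * c) = ω * (ψ : H → ℂ) c) :
    Cfsg.classInner (fun c : H => χ (x * (c : G))) (ψ : H → ℂ)
      = ω * Cfsg.classInner (fun c : H => χ (c : G)) (ψ : H → ℂ) := by
  have hxH : x ∈ H := by rw [hH, mem_centralizer_singleton_iff]
  have hxx : x * x = 1 := by rw [← sq, ← hx, pow_orderOf_eq_one]
  unfold Cfsg.classInner
  rw [← mul_assoc, mul_comm ω, mul_assoc]
  congr 1
  rw [← Equiv.sum_comp (Equiv.mulLeft (⟨x, hxH⟩ : H)), Finset.mul_sum]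
  apply Finset.sum_congr rfl
  intro c _
  rw [Equiv.coe_mulLeft, hψ c ⟨x, hxH⟩ rfl]
  beta_reduce
  rw [Subgroup.coe_mul, Subgroup.coe_mk, ← mul_assoc, hxx, one_mul, map_mul, hω]
  ring

/-- the subsection count for a block with at most two characters and an involution subsection -/
theorem defect_one_count (hM : Cfsg.IsPModular 2 M) (x : G) (hx : orderOf x = 2)
    (B : Set (Cfsg.IrrCharacter G)) (hB : Cfsg.IsPBlock M B) (hcard : Nat.card B ≤ 2)
    (H : Subgroup G) (hH : H = Subgroup.centralizer ({x} : Set G))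
    (b : Set (Cfsg.IrrCharacter H)) (hb : Cfsg.IsInducedBlock M H b B) :
    Nat.card B = 2 ∧ Cfsg.blockRank 2 b = 1 ∧
      ∀ b' : Set (Cfsg.IrrCharacter H), Cfsg.IsInducedBlock M H b' B → b' = b := by
  classical
  subst hH
  have : Fact (Nat.Prime 2) := ⟨Nat.prime_two⟩
  have : Fintype (Cfsg.IrrCharacter G) := Fintype.ofFinite _
  have hx1 : x ≠ 1 := by
    intro h
    rw [h, orderOf_one] at hx
    norm_num at hx
  have hxel : ∃ k : ℕ, orderOf x = 2 ^ k := ⟨1, by rw [hx, pow_one]⟩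
  have h1el : ∃ k : ℕ, orderOf (1 : G) = 2 ^ k := ⟨0, by rw [orderOf_one, pow_zero]⟩
  have h1x : ¬ IsConj (1 : G) x := by
    rw [isConj_one_right]
    exact hx1
  obtain ⟨X, h1X, hxX, hX, hXrep⟩ := exists_pElement_reps 2 1 x h1el hxel h1x
  have hcount := card_block_eq_sum_sections hM B hB X hX hXrep
  obtain ⟨f, hf⟩ : ∃ f : G → ℕ, f = fun u => ∑ᶠ b' ∈ {b' : Set (Cfsg.IrrCharacter
        ↥(Subgroup.centralizer ({u} : Set G))) |
          Cfsg.IsInducedBlock M (Subgroup.centralizer ({u} : Set G)) b' B},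
      Cfsg.blockRank 2 b' := ⟨_, rfl⟩
  have hcount' : Nat.card B = ∑ u ∈ X, f u := by rw [hcount, hf]
  have hsplit : f 1 + f x ≤ ∑ u ∈ X, f u := by
    rw [← Finset.add_sum_erase X f h1X]
    apply Nat.add_le_add_left
    apply Finset.single_le_sum (f := f) (fun _ _ => Nat.zero_le _)
    rw [Finset.mem_erase]
    exact ⟨hx1, hxX⟩
  -- the section of `1`
  have hf1 : 1 ≤ f 1 := by
    have : Fintype ↥(Subgroup.centralizer ({(1 : G)} : Set G)) := Fintype.ofFinite _
    have : Fintype (Set (Cfsg.IrrCharacter ↥(Subgroup.centralizer ({(1 : G)} : Set G)))) :=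
      Fintype.ofFinite _
    obtain ⟨χ₀, hBχ⟩ := hB
    have hχ₀ : χ₀ ∈ B := by rw [hBχ]; exact sameBlock_refl hM _
    have h1reg : ¬ 2 ∣ orderOf (1 : ↥(Subgroup.centralizer ({(1 : G)} : Set G))) := by
      rw [orderOf_one]; norm_num
    have hsh := blockPart_shift_induced hM 1 h1el (Subgroup.centralizer ({(1 : G)} : Set G)) rfl B
      ⟨χ₀, hBχ⟩ χ₀ 1 h1reg
    rw [if_pos hχ₀, Subgroup.coe_one, mul_one] at hsh
    have hne : ({ξ : Cfsg.IrrCharacter ↥(Subgroup.centralizer ({(1 : G)} : Set G)) |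
        Cfsg.IsInducedBlock M (Subgroup.centralizer ({(1 : G)} : Set G))
          (Cfsg.blockOf M (ξ : ↥(Subgroup.centralizer ({(1 : G)} : Set G)) → ℂ)) B}).Nonempty := by
      by_contra hemp
      rw [Set.not_nonempty_iff_eq_empty] at hemp
      rw [hemp] at hsh
      unfold Cfsg.blockPart at hsh
      rw [finsum_mem_empty] at hsh
      have h3 : (χ₀ : G → ℂ) 1 ≠ 0 := by
        rw [IsCharacter.apply_one_eq_charDegree (IsIrrCharacter.isCharacter χ₀.2)]
        exact_mod_cast (IsIrrCharacter.charDegree_pos χ₀.2).ne'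
      exact h3 hsh.symm
    obtain ⟨ξ₁, hξ₁⟩ := hne
    simp only [Set.mem_ofPred_eq] at hξ₁
    rw [hf]
    beta_reduce
    rw [finsum_mem_eq_sum_filter_lib]
    have hmem : Cfsg.blockOf M (ξ₁ : ↥(Subgroup.centralizer ({(1 : G)} : Set G)) → ℂ)
        ∈ Finset.univ.filter (· ∈ {b' : Set (Cfsg.IrrCharacter
        ↥(Subgroup.centralizer ({(1 : G)} : Set G))) |
          Cfsg.IsInducedBlock M (Subgroup.centralizer ({(1 : G)} : Set G)) b' B}) := by
      simp only [Finset.mem_filter, Finset.mem_univ, true_and, Set.mem_ofPred_eq]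
      exact hξ₁
    refine le_trans ?_ (Finset.single_le_sum (fun _ _ => Nat.zero_le _) hmem)
    exact blockRank_pos hM _ ⟨ξ₁, rfl⟩
  -- the section of `x`
  have : Fintype ↥(Subgroup.centralizer ({x} : Set G)) := Fintype.ofFinite _
  have : Fintype (Set (Cfsg.IrrCharacter ↥(Subgroup.centralizer ({x} : Set G)))) :=
    Fintype.ofFinite _
  have hfx : f x = ∑ b' ∈ Finset.univ.filter (· ∈ {b' : Set (Cfsg.IrrCharacter
        ↥(Subgroup.centralizer ({x} : Set G))) |
          Cfsg.IsInducedBlock M (Subgroup.centralizer ({x} : Set G)) b' B}),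
      Cfsg.blockRank 2 b' := by
    rw [hf]
    beta_reduce
    rw [finsum_mem_eq_sum_filter_lib]
  have hbmem : b ∈ Finset.univ.filter (· ∈ {b' : Set (Cfsg.IrrCharacter
        ↥(Subgroup.centralizer ({x} : Set G))) |
          Cfsg.IsInducedBlock M (Subgroup.centralizer ({x} : Set G)) b' B}) := by
    simp only [Finset.mem_filter, Finset.mem_univ, true_and, Set.mem_ofPred_eq]
    exact hb
  have hrb : 1 ≤ Cfsg.blockRank 2 b := blockRank_pos hM b hb.1
  have hfx1 : Cfsg.blockRank 2 b ≤ f x := by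
    rw [hfx]
    exact Finset.single_le_sum (fun _ _ => Nat.zero_le _) hbmem
  have hfx_le : f x ≤ 1 := by omega
  refine ⟨by omega, by omega, ?_⟩
  intro b' hb'
  by_contra hne
  have hb'mem : b' ∈ Finset.univ.filter (· ∈ {b' : Set (Cfsg.IrrCharacter
        ↥(Subgroup.centralizer ({x} : Set G))) |
          Cfsg.IsInducedBlock M (Subgroup.centralizer ({x} : Set G)) b' B}) := by
    simp only [Finset.mem_filter, Finset.mem_univ, true_and, Set.mem_ofPred_eq]
    exact hb'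
  have hrb' : 1 ≤ Cfsg.blockRank 2 b' := blockRank_pos hM b' hb'.1
  have h2 : Cfsg.blockRank 2 b + Cfsg.blockRank 2 b' ≤ f x := by
    rw [hfx, ← Finset.sum_pair (f := fun c => Cfsg.blockRank 2 c) (Ne.symm hne)]
    apply Finset.sum_le_sum_of_subset
    intro c hc
    rw [Finset.mem_insert, Finset.mem_singleton] at hc
    rcases hc with rfl | rfl
    · exact hbmem
    · exact hb'mem
  omega

/-- **blocks of defect one for `p = 2`** -/
theorem defect_one_two_block (hM : Cfsg.IsPModular 2 M) (x : G) (hx : orderOf x = 2)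
    (B : Set (Cfsg.IrrCharacter G)) (hB : Cfsg.IsPBlock M B) (hd : Cfsg.blockDefect 2 B ≤ 1)
    (H : Subgroup G) (hH : H = Subgroup.centralizer ({x} : Set G))
    (b : Set (Cfsg.IrrCharacter H)) (hb : Cfsg.IsInducedBlock M H b B)
    (θ : Cfsg.IrrCharacter H) (hθ : θ ∈ b)
    (hθx : ∀ z : H, (z : G) = x → (θ : H → ℂ) z = (θ : H → ℂ) 1) :
    ∃ χ₁ χ₂ : Cfsg.IrrCharacter G, χ₁ ≠ χ₂ ∧ B = {χ₁, χ₂} ∧
      (∀ g : G, ¬ 2 ∣ orderOf g → (χ₁ : G → ℂ) g = (χ₂ : G → ℂ) g) ∧
      ∃ ε₁ ε₂ : ℤ, (ε₁ = 1 ∨ ε₁ = -1) ∧ (ε₂ = 1 ∨ ε₂ = -1) ∧ ε₁ * ε₂ = -1 ∧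
        ∀ y : H, ¬ 2 ∣ orderOf y →
          (χ₁ : G → ℂ) (x * y) = (ε₁ : ℂ) * (θ : H → ℂ) y ∧
            (χ₂ : G → ℂ) (x * y) = (ε₂ : ℂ) * (θ : H → ℂ) y := by
  classical
  have : Fact (Nat.Prime 2) := ⟨Nat.prime_two⟩
  have : Fintype (Cfsg.IrrCharacter G) := Fintype.ofFinite _
  have : Fintype H := Fintype.ofFinite _
  have : Fintype (Cfsg.IrrCharacter H) := Fintype.ofFinite _
  have hxH : x ∈ H := by rw [hH, mem_centralizer_singleton_iff]
  have hxx : x * x = 1 := by rw [← sq, ← hx, pow_orderOf_eq_one]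
  have hx1 : x ≠ 1 := by
    intro h
    rw [h, orderOf_one] at hx
    norm_num at hx
  have hxel : ∃ k : ℕ, orderOf x = 2 ^ k := ⟨1, by rw [hx, pow_one]⟩
  have h1el : ∃ k : ℕ, orderOf (1 : G) = 2 ^ k := ⟨0, by rw [orderOf_one, pow_zero]⟩
  obtain ⟨z, hz⟩ : ∃ z : H, z = ⟨x, hxH⟩ := ⟨_, rfl⟩
  have hzx : (z : G) = x := by rw [hz]
  have hzc : ∀ h : H, z * h = h * z := by
    intro h
    apply Subtype.ext
    rw [Subgroup.coe_mul, Subgroup.coe_mul, hzx]
    have h1 : ∀ g : G, g ∈ H → x * g = g * x := by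
      intro g hg
      rw [hH, mem_centralizer_singleton_iff] at hg
      exact hg
    exact h1 _ h.2
  have hz2 : orderOf z = 2 := by rw [← Subgroup.orderOf_coe, hzx, hx]
  have hzeq : ∀ w : H, (w : G) = x → w = z := by
    intro w hw
    apply Subtype.ext
    rw [hw, hzx]
  -- the local block
  have hdb : Cfsg.blockDefect 2 b ≤ 1 := (IsInducedBlock.blockDefect_le hM H hb).trans hd
  obtain ⟨θ', hne, hbset, hneg, hagree⟩ :=
    defect_one_central_block hM z hzc hz2 b hb.1 hdb θ hθ (hθx z hzx)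
  have hθmul : ∀ c : H, ∀ w : H, (w : G) = x → (θ : H → ℂ) (w * c) = 1 * (θ : H → ℂ) c := by
    intro c w hw
    rw [hzeq w hw, IsIrrCharacter.apply_central_mul θ.2 hzc c, hθx z hzx, one_mul]
    have h3 : (θ : H → ℂ) 1 ≠ 0 := by
      rw [IsCharacter.apply_one_eq_charDegree (IsIrrCharacter.isCharacter θ.2)]
      exact_mod_cast (IsIrrCharacter.charDegree_pos θ.2).ne'
    field_simp
  have hθ'mul : ∀ c : H, ∀ w : H, (w : G) = x → (θ' : H → ℂ) (w * c) = (-1) * (θ' : H → ℂ) c := by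
    intro c w hw
    rw [hzeq w hw, IsIrrCharacter.apply_central_mul θ'.2 hzc c, hneg]
    have h3 : (θ' : H → ℂ) 1 ≠ 0 := by
      rw [IsCharacter.apply_one_eq_charDegree (IsIrrCharacter.isCharacter θ'.2)]
      exact_mod_cast (IsIrrCharacter.charDegree_pos θ'.2).ne'
    field_simp
  have hcardB := card_block_le_two hM B hB hd
  obtain ⟨hcard2, hrank, huniq⟩ := defect_one_count hM x hx B hB hcardB H hH b hb
  -- enumerate `B`
  have hBfin : (Finset.univ.filter (· ∈ B)).card = 2 := by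
    rw [← hcard2, Nat.card_eq_fintype_card, Fintype.card_subtype]
  obtain ⟨χ₁, χ₂, h12, hs⟩ := Finset.card_eq_two.mp hBfin
  have hBmem : ∀ χ : Cfsg.IrrCharacter G, χ ∈ B ↔ (χ = χ₁ ∨ χ = χ₂) := by
    intro χ
    have : χ ∈ Finset.univ.filter (· ∈ B) ↔ χ ∈ ({χ₁, χ₂} : Finset (Cfsg.IrrCharacter G)) := by
      rw [hs]
    simp only [Finset.mem_filter, Finset.mem_univ, true_and, Finset.mem_insert,
      Finset.mem_singleton] at this
    exact this
  have hBset : B = {χ₁, χ₂} := by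
    ext χ
    simp only [Set.mem_insert_iff, Set.mem_singleton_iff]
    exact hBmem χ
  have hχ₁B : χ₁ ∈ B := (hBmem χ₁).2 (Or.inl rfl)
  have hχ₂B : χ₂ ∈ B := (hBmem χ₂).2 (Or.inr rfl)
  have hbθ : b = Cfsg.blockOf M (θ : H → ℂ) := by
    obtain ⟨ξ₀, hbξ⟩ := hb.1
    rw [hbξ]
    rw [hbξ] at hθ
    exact blockOf_eq_of_mem hM hθ
  have hbfilter : Finset.univ.filter (· ∈ b) = {θ, θ'} := by
    ext ψ
    simp only [Finset.mem_filter, Finset.mem_univ, true_and, Finset.mem_insert,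
      Finset.mem_singleton]
    rw [hbset]
    simp only [Set.mem_insert_iff, Set.mem_singleton_iff]
  -- the characters in blocks inducing `B`
  have hS : {ξ : Cfsg.IrrCharacter H | Cfsg.IsInducedBlock M H (Cfsg.blockOf M (ξ : H → ℂ)) B}
      = b := by
    ext ξ
    simp only [Set.mem_ofPred_eq]
    constructor
    · intro h
      rw [← huniq _ h]
      exact sameBlock_refl hM _
    · intro h
      have : b = Cfsg.blockOf M (ξ : H → ℂ) := by
        obtain ⟨ξ₀, hbξ⟩ := hb.1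
        rw [hbξ]
        rw [hbξ] at h
        exact blockOf_eq_of_mem hM h
      rw [← this]
      exact hb
  -- the formula on the section of `x`
  have hform : ∀ χ ∈ B, ∃ m : ℤ, ∀ y : H, ¬ 2 ∣ orderOf y →
      (χ : G → ℂ) (x * (y : G)) = (m : ℂ) * (θ : H → ℂ) y := by
    intro χ hχ
    obtain ⟨n₁, hn₁⟩ := IsCharacter.classInner_nat
      (IsCharacter.restrict H (IsIrrCharacter.isCharacter χ.2)) (IsIrrCharacter.isCharacter θ.2)
    obtain ⟨n₂, hn₂⟩ := IsCharacter.classInner_nat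
      (IsCharacter.restrict H (IsIrrCharacter.isCharacter χ.2)) (IsIrrCharacter.isCharacter θ'.2)
    refine ⟨(n₁ : ℤ) - n₂, ?_⟩
    intro y hy
    have h1 := blockPart_shift_induced hM x hxel H hH B hB χ y hy
    rw [if_pos hχ, hS, blockPart_eq_finset_sum, hbfilter, Finset.sum_pair hne.symm,
      classInner_shift_central_involution x hx H hH (χ : G → ℂ) θ 1 (map_one _) hθmul,
      classInner_shift_central_involution x hx H hH (χ : G → ℂ) θ' (-1) (by simp) hθ'mul,
      hn₁, hn₂, hagree y hy] at h1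
    rw [← h1]
    push_cast
    ring
  obtain ⟨m₁, hm₁⟩ := hform χ₁ hχ₁B
  obtain ⟨m₂, hm₂⟩ := hform χ₂ hχ₂B
  -- the sum of squares
  have hH0 : (Nat.card H : ℂ) ≠ 0 := card_ne_zero_complex H
  obtain ⟨S, hSdef⟩ : ∃ S : ℂ, S = ∑ y ∈ Finset.univ.filter (fun y : H => ¬ 2 ∣ orderOf y),
      (θ : H → ℂ) y * conj ((θ : H → ℂ) y) := ⟨_, rfl⟩
  have hrk := blockRank_mul_card hM θ
  rw [← hbθ, hrank] at hrk
  have h2S : (Nat.card H : ℂ) = 2 * S := by
    rw [Nat.cast_one, mul_one] at hrk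
    rw [hrk, hSdef, Finset.mul_sum]
    apply Finset.sum_congr rfl
    intro y hy
    rw [finsum_mem_eq_sum_filter_lib, hbfilter, Finset.sum_pair hne.symm,
      hagree y (Finset.mem_filter.mp hy).2]
    ring
  have hS0 : S ≠ 0 := by
    intro h
    rw [h, mul_zero] at h2S
    exact hH0 h2S
  have hsec := sum_section_block hM x hxel H hH B hB
  have hSset : {b' : Set (Cfsg.IrrCharacter H) | Cfsg.IsInducedBlock M H b' B} = {b} := by
    ext b'
    simp only [Set.mem_ofPred_eq, Set.mem_singleton_iff]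
    exact ⟨fun h => huniq b' h, fun h => by rw [h]; exact hb⟩
  rw [hSset, finsum_mem_singleton, hrank, Nat.cast_one, mul_one, hs] at hsec
  have hmm : ((m₁ : ℂ) * m₁ + (m₂ : ℂ) * m₂) * S = 2 * S := by
    rw [← h2S, ← hsec, hSdef, Finset.mul_sum]
    apply Finset.sum_congr rfl
    intro y hy
    have hy' := (Finset.mem_filter.mp hy).2
    rw [Finset.sum_pair h12, hm₁ y hy', hm₂ y hy']
    simp only [map_mul, map_intCast]
    ring
  have hmmZ : m₁ * m₁ + m₂ * m₂ = 2 := by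
    have h1 := mul_right_cancel₀ hS0 hmm
    exact_mod_cast h1
  have hm₁c : m₁ = 1 ∨ m₁ = -1 := by
    have h1 : -1 ≤ m₁ := by nlinarith
    have h2 : m₁ ≤ 1 := by nlinarith
    have h3 : m₁ ≠ 0 := by
      intro h
      rw [h] at hmmZ
      have h4 : -1 ≤ m₂ := by nlinarith
      have h5 : m₂ ≤ 1 := by nlinarith
      interval_cases m₂ <;> omega
    omega
  have hm₂c : m₂ = 1 ∨ m₂ = -1 := by
    have h1 : -1 ≤ m₂ := by nlinarith
    have h2 : m₂ ≤ 1 := by nlinarith
    have h3 : m₂ ≠ 0 := by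
      intro h
      rw [h] at hmmZ
      rcases hm₁c with h | h <;> rw [h] at hmmZ <;> omega
    omega
  -- orthogonality with the column of `x`
  have h1odd : ¬ 2 ∣ orderOf (1 : H) := by rw [orderOf_one]; norm_num
  have hθ1 : (θ : H → ℂ) 1 = (Cfsg.charDegree (θ : H → ℂ) : ℂ) :=
    IsCharacter.apply_one_eq_charDegree (IsIrrCharacter.isCharacter θ.2)
  have hθ1ne : (Cfsg.charDegree (θ : H → ℂ) : ℂ) ≠ 0 := by
    exact_mod_cast (IsIrrCharacter.charDegree_pos θ.2).ne'
  have hχx : ∀ (χ : Cfsg.IrrCharacter G) (m : ℤ), (∀ y : H, ¬ 2 ∣ orderOf y →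
      (χ : G → ℂ) (x * (y : G)) = (m : ℂ) * (θ : H → ℂ) y) →
      (χ : G → ℂ) x = (m : ℂ) * (Cfsg.charDegree (θ : H → ℂ) : ℂ) := by
    intro χ m hm
    have := hm 1 h1odd
    rw [Subgroup.coe_one, mul_one, hθ1] at this
    exact this
  have hx2 : (2 : ℕ) ∣ orderOf x := by rw [hx]
  have horth : ∀ g : G, ¬ 2 ∣ orderOf g →
      (m₁ : ℂ) * (χ₁ : G → ℂ) g + (m₂ : ℂ) * (χ₂ : G → ℂ) g = 0 := by
    intro g hg
    obtain ⟨χ₀, hBχ⟩ := hB
    have h1 := weak_block_orthogonality hM χ₀ g x hg hx2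
    rw [← hBχ, finsum_mem_eq_sum_filter_lib, hs, Finset.sum_pair h12, hχx χ₁ m₁ hm₁,
      hχx χ₂ m₂ hm₂] at h1
    simp only [map_mul, map_intCast, map_natCast] at h1
    have h2 : ((m₁ : ℂ) * (χ₁ : G → ℂ) g + (m₂ : ℂ) * (χ₂ : G → ℂ) g)
        * (Cfsg.charDegree (θ : H → ℂ) : ℂ) = 0 := by
      linear_combination h1
    rcases mul_eq_zero.mp h2 with h | h
    · exact h
    · exact absurd h hθ1ne
  have hdeg := horth 1 (by rw [orderOf_one]; norm_num)
  rw [IsCharacter.apply_one_eq_charDegree (IsIrrCharacter.isCharacter χ₁.2),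
    IsCharacter.apply_one_eq_charDegree (IsIrrCharacter.isCharacter χ₂.2)] at hdeg
  have hdegZ : m₁ * (Cfsg.charDegree (χ₁ : G → ℂ) : ℤ) + m₂ * (Cfsg.charDegree (χ₂ : G → ℂ) : ℤ)
      = 0 := by exact_mod_cast hdeg
  have hp1 := IsIrrCharacter.charDegree_pos χ₁.2
  have hp2 := IsIrrCharacter.charDegree_pos χ₂.2
  have hopp : m₂ = -m₁ := by
    rcases hm₁c with h | h <;> rcases hm₂c with h' | h' <;> rw [h, h'] at hdegZ ⊢ <;> omega
  refine ⟨χ₁, χ₂, h12, hBset, ?_, m₁, m₂, hm₁c, hm₂c, ?_, ?_⟩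
  · intro g hg
    have h1 := horth g hg
    rw [hopp] at h1
    have hm₁ne : (m₁ : ℂ) ≠ 0 := by
      rcases hm₁c with h | h <;> rw [h] <;> norm_num
    have h2 : (m₁ : ℂ) * ((χ₁ : G → ℂ) g - (χ₂ : G → ℂ) g) = 0 := by
      push_cast at h1
      linear_combination h1
    rcases mul_eq_zero.mp h2 with h | h
    · exact absurd h hm₁ne
    · exact sub_eq_zero.mp h
  · rw [hopp]
    rcases hm₁c with h | h <;> rw [h] <;> norm_num
  · intro y hy
    exact ⟨hm₁ y hy, hm₂ y hy⟩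

end main

end Cfsg.Agent.Lib.Helper6
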