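import Mathlib
import Cfsg.Prelude.Def_Blocks
import Cfsg.Agent.Lib.Helper6.BlkTildeInd
import Cfsg.Agent.Lib.Helper6.CharOps
import Cfsg.Agent.Lib.Helper6.Multiplicity

set_option autoImplicit false
set_option linter.unusedSectionVars false
open Cfsg

namespace Cfsg.Agent.Lib.Helper6

open scoped ComplexConjugate

section

variable {G : Type*} [Group G] [Fintype G] [DecidableEq G]
variable {p : ℕ} {M : Ideal Cfsg.AlgInt}
variable (H : Subgroup G) [Fintype H]

/-- the degree of the `B`-part of an induced character, relative to the full degree -/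
theorem induced_blockPart_div (hM : Cfsg.IsPModular p M) {b : Set (Cfsg.IrrCharacter H)}
    {B₀ : Set (Cfsg.IrrCharacter G)} (hind : Cfsg.IsInducedBlock M H b B₀)
    (ξ : Cfsg.IrrCharacter H) (hξ : ξ ∈ b) (χ₁ : Cfsg.IrrCharacter G) :
    Cfsg.MemLocalIdeal M (Cfsg.blockPart (Cfsg.blockOf M (χ₁ : G → ℂ))
        (Cfsg.indFun H (ξ : H → ℂ)) 1 / Cfsg.indFun H (ξ : H → ℂ) 1
      - (if Cfsg.blockOf M (χ₁ : G → ℂ) = B₀ then 1 else 0)) := by
  classical
  obtain ⟨χ₀, hB₀⟩ := hind.2.1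
  have hχ₀ : χ₀ ∈ B₀ := by rw [hB₀]; exact sameBlock_refl hM _
  have hΦcf : Cfsg.IsClassFunction G (Cfsg.indFun H (ξ : H → ℂ)) := indFun_isClassFunction H _
  have h1 : Cfsg.blockPart (Cfsg.blockOf M (χ₁ : G → ℂ)) (Cfsg.indFun H (ξ : H → ℂ)) 1
      / Cfsg.indFun H (ξ : H → ℂ) 1
      = cOmega (Cfsg.indFun H (ξ : H → ℂ)) (blockMat (Cfsg.blockOf M (χ₁ : G → ℂ))) := by
    rw [blockPart_eq_sum _ hΦcf 1]
    unfold blockMat
    rw [cOmega_regMat]
    congr 1
    apply Finset.sum_congr rfl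
    intro k _
    rw [mul_one]
  rw [h1]
  unfold blockMat
  rw [cOmega_indFun H _ (blockCoeff_isClassFunction _), ← resMat_regMat]
  have h2 := IsInducedBlock.cOmega_sub H hM hind ξ hξ χ₀ hχ₀
    (blockMat_mem_centerAlg (Cfsg.blockOf M (χ₁ : G → ℂ))) (blockMat_mem_sMat hM χ₁)
  rw [cOmega_blockMat] at h2
  unfold blockMat at h2
  convert h2 using 2
  have : (Cfsg.blockOf M (χ₁ : G → ℂ) = B₀) ↔ χ₀ ∈ Cfsg.blockOf M (χ₁ : G → ℂ) := by
    constructor
    · intro h; rw [h]; exact hχ₀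
    · intro h
      rw [hB₀]
      exact blockOf_eq_of_mem hM h
  simp only [this]

/-- the `B`-part of a character has natural degree -/
theorem blockPart_one_nat [Fintype (Cfsg.IrrCharacter G)] (B : Set (Cfsg.IrrCharacter G))
    {Φ : G → ℂ} (hΦ : Cfsg.IsCharacter G Φ) :
    ∃ n : ℕ, Cfsg.blockPart B Φ 1 = (n : ℂ) := by
  classical
  obtain ⟨m, hm, hmi⟩ := IsCharacter.exists_mult hΦ
  refine ⟨∑ χ ∈ Finset.univ.filter (· ∈ B), m χ * Cfsg.charDegree (χ : G → ℂ), ?_⟩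
  rw [blockPart_eq_finset_sum]
  push_cast
  apply Finset.sum_congr rfl
  intro χ _
  rw [hmi χ, IsCharacter.apply_one_eq_charDegree (IsIrrCharacter.isCharacter χ.2)]

end

end Cfsg.Agent.Lib.Helper6
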