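import Mathlib
import Cfsg.Prelude.Def_Blocks
import Cfsg.Agent.Lib.Helper6.BlkDim
import Cfsg.Agent.Lib.Helper6.BlkCenter
import Cfsg.Agent.Lib.Helper6.BlkOrth2
import Cfsg.Agent.Lib.Helper6.BlkDefect

set_option autoImplicit false
set_option linter.unusedSectionVars false
open Cfsg

namespace Cfsg.Agent.Lib.Helper6

open scoped ComplexConjugate

section indep

variable {G : Type*} [Group G] [Fintype G] [DecidableEq G]
variable {p : ℕ} {M M' : Ideal Cfsg.AlgInt}

/-- Osima: the block idempotent of an `M`-block is local-integral at every maximal ideal above `p` -/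
theorem blockCoeff_memLocalRing_other (hM : Cfsg.IsPModular p M) (hM' : Cfsg.IsPModular p M')
    (χ₀ : Cfsg.IrrCharacter G) (g : G) :
    Cfsg.MemLocalRing M' (Cfsg.blockCoeff (Cfsg.blockOf M (χ₀ : G → ℂ)) g) := by
  classical
  have hp : p.Prime := hM.1
  haveI : Fact p.Prime := ⟨hp⟩
  haveI : Fintype (Cfsg.IrrCharacter G) := Fintype.ofFinite _
  by_cases hg : p ∣ orderOf g
  · rw [blockCoeff_eq_zero_of_pSingular hM χ₀ g hg]
    exact memLocalRing_zero hM'
  obtain ⟨P⟩ : Nonempty (Sylow p G) := inferInstance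
  have hPcard : Nat.card (P : Subgroup G) = p ^ (Nat.card G).factorization p :=
    P.card_eq_multiplicity
  rw [blockCoeff_eq_sum]
  simp only [idemFun]
  rw [← Finset.mul_sum]
  set B := Cfsg.blockOf M (χ₀ : G → ℂ) with hB
  -- the class function θ
  obtain ⟨θ, hθ⟩ : ∃ θ : G → ℂ, θ = fun y => ∑ χ ∈ Finset.univ.filter (· ∈ B),
      conj ((χ : G → ℂ) g) * (χ : G → ℂ) y := ⟨_, rfl⟩
  have hvan : ∀ y : G, p ∣ orderOf y → θ y = 0 := by
    intro y hy
    have h1 := weak_block_orthogonality_finset hM χ₀ g y hg hy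
    have h2 := congrArg conj h1
    rw [map_sum, map_zero] at h2
    rw [hθ]
    simp only
    rw [← h2]
    apply Finset.sum_congr rfl
    intro χ _
    rw [map_mul, Complex.conj_conj]
  have h3 := finsum_subgroup_eq_of_vanish hp (P : Subgroup G) hPcard θ hvan
  have h4 : ∑ᶠ x : (P : Subgroup G), θ x
      = (Nat.card (P : Subgroup G) : ℂ) * ∑ χ ∈ Finset.univ.filter (· ∈ B),
        conj ((χ : G → ℂ) g) * (trivMult (P : Subgroup G) (χ : G → ℂ) : ℂ) := by
    haveI : Fintype (P : Subgroup G) := Fintype.ofFinite _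
    rw [finsum_eq_sum_of_fintype, hθ]
    simp only
    rw [Finset.sum_comm, Finset.mul_sum]
    apply Finset.sum_congr rfl
    intro χ _
    rw [← Finset.mul_sum]
    have hs := trivMult_spec (P : Subgroup G) (IsIrrCharacter.isCharacter χ.2)
    rw [finsum_eq_sum_of_fintype] at hs
    rw [← hs]
    have hc : (Nat.card (P : Subgroup G) : ℂ) ≠ 0 := by
      exact_mod_cast Nat.card_pos.ne'
    field_simp
  have h5 : θ 1 = ∑ χ ∈ Finset.univ.filter (· ∈ B), (χ : G → ℂ) 1 * conj ((χ : G → ℂ) g) := by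
    rw [hθ]
    apply Finset.sum_congr rfl
    intro χ _
    ring
  rw [← h5, ← h3, h4]
  have hidx : (Nat.card G : ℂ) = (Nat.card (P : Subgroup G) : ℂ) * ((P : Subgroup G).index : ℂ) := by
    rw [← Nat.cast_mul, Subgroup.card_mul_index]
  have hc : (Nat.card (P : Subgroup G) : ℂ) ≠ 0 := by
    exact_mod_cast Nat.card_pos.ne'
  have hi : (((P : Subgroup G).index : ℕ) : ℂ) ≠ 0 := by
    exact_mod_cast (P : Subgroup G).index_ne_zero_of_finite
  have e : (Nat.card G : ℂ)⁻¹ * ((Nat.card (P : Subgroup G) : ℂ) *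
      ∑ χ ∈ Finset.univ.filter (· ∈ B),
        conj ((χ : G → ℂ) g) * (trivMult (P : Subgroup G) (χ : G → ℂ) : ℂ))
      = (((P : Subgroup G).index : ℕ) : ℂ)⁻¹ * ∑ χ ∈ Finset.univ.filter (· ∈ B),
        conj ((χ : G → ℂ) g) * (trivMult (P : Subgroup G) (χ : G → ℂ) : ℂ) := by
    rw [hidx]
    field_simp
  rw [e]
  apply MemLocalRing.mul hM' (memLocalRing_inv_natCast hM' P.not_dvd_index)
  apply MemLocalRing.sum hM'
  intro χ _
  apply MemLocalRing.mul hM'
  · apply memLocalRing_of_isIntegral hM'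
    have := IsCharacter.isIntegral_apply (IsIrrCharacter.isCharacter χ.2) g⁻¹
    rwa [IsCharacter.apply_inv (IsIrrCharacter.isCharacter χ.2)] at this
  · exact memLocalRing_natCast hM' _

/-- the blocks do not depend on the maximal ideal above `p` -/
theorem blockOf_eq_of_isPModular (hM : Cfsg.IsPModular p M) (hM' : Cfsg.IsPModular p M')
    (χ : Cfsg.IrrCharacter G) :
    Cfsg.blockOf M (χ : G → ℂ) = Cfsg.blockOf M' (χ : G → ℂ) := by
  apply Set.Subset.antisymm
  · exact blockOf_subset_of_memLocalRing hM _ (blockCoeff_memLocalRing_other hM' hM χ) χ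
      (sameBlock_refl hM' _)
  · exact blockOf_subset_of_memLocalRing hM' _ (blockCoeff_memLocalRing_other hM hM' χ) χ
      (sameBlock_refl hM _)

theorem sameBlock_of_isPModular (hM : Cfsg.IsPModular p M) (hM' : Cfsg.IsPModular p M')
    (χ ψ : Cfsg.IrrCharacter G) (h : Cfsg.SameBlock M (χ : G → ℂ) (ψ : G → ℂ)) :
    Cfsg.SameBlock M' (χ : G → ℂ) (ψ : G → ℂ) := by
  have h1 : ψ ∈ Cfsg.blockOf M (χ : G → ℂ) := h
  rw [blockOf_eq_of_isPModular hM hM'] at h1
  exact h1

end indep

end Cfsg.Agent.Lib.Helper6
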