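import Mathlib
import Cfsg.Prelude.Def_Blocks
import Cfsg.Prelude.Def_Local
import Cfsg.Agent.Lib.Helper6.BlkMajor
import Cfsg.Agent.Lib.Helper6.BlkRigid
import Cfsg.Agent.Lib.Helper6.BlkContrib
import Cfsg.Agent.Lib.Helper6.BlkPrincipal
import Cfsg.Agent.Lib.Helper6.Linear
import Cfsg.Agent.S0912
import Cfsg.Agent.S0936

set_option autoImplicit false
set_option linter.unusedSectionVars false
open Cfsg

namespace Cfsg.Agent.Lib.Helper6

section pgroup

variable {G : Type*} [Group G] [Fintype G] [DecidableEq G]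
variable {p : ℕ} {M : Ideal Cfsg.AlgInt}

/-- a linear character of `p`-power order values lies in the principal block -/
theorem mem_principalBlock_of_linear_of_isPGroup (hM : Cfsg.IsPModular p M) (hG : IsPGroup p G)
    (χ : Cfsg.IrrCharacter G) (h1 : (χ : G → ℂ) 1 = 1) : χ ∈ Cfsg.principalBlock M G := by
  intro g
  unfold Cfsg.centralChar
  rw [h1]
  have hχc := IsIrrCharacter.isCharacter χ.2
  obtain ⟨k, hk⟩ := hG g
  have hpow : ((χ : G → ℂ) g) ^ (p ^ k) = 1 := by
    have hmul : ∀ n : ℕ, (χ : G → ℂ) (g ^ n) = ((χ : G → ℂ) g) ^ n := by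
      intro n
      induction n with
      | zero => simp [h1]
      | succ n ih => rw [pow_succ, IsCharacter.mul_of_apply_one_eq_one hχc h1, ih, pow_succ]
    rw [← hmul, hk, h1]
  have h2 := memLocalIdeal_sub_one_of_pow_eq_one hM hpow
  have h3 := MemLocalIdeal.mul_left hM
    (memLocalRing_natCast hM (Subgroup.centralizer ({g} : Set G)).index) h2
  have h4 := MemLocalIdeal.neg h3
  convert h4 using 1
  ring

/-- a `p`-group has a single block -/
theorem mem_principalBlock_of_isPGroup (hM : Cfsg.IsPModular p M) [Fact p.Prime] (hG : IsPGroup p G)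
    (χ : Cfsg.IrrCharacter G) : χ ∈ Cfsg.principalBlock M G := by
  classical
  have hp : p.Prime := hM.1
  have hB : Cfsg.IsPBlock M (Cfsg.blockOf M (χ : G → ℂ)) := ⟨χ, rfl⟩
  have hχ : χ ∈ Cfsg.blockOf M (χ : G → ℂ) := sameBlock_refl hM _
  obtain ⟨D, hD⟩ := exists_isDefectGroup hM _ hB
  have hcore := Cfsg.Agent.S0912.result p M hM _ hB D hD
  have htop : Cfsg.pCore p G = ⊤ := by
    apply top_unique
    unfold Cfsg.pCore
    apply le_sSup
    refine ⟨inferInstance, ?_⟩
    exact hG.to_subgroup _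
  rw [htop] at hcore
  have hDtop : D = ⊤ := top_unique hcore
  have hcard := Cfsg.Agent.S0908.result p M hM _ hB D hD
  rw [hDtop, Subgroup.card_top] at hcard
  have h2 := factorization_card_eq_sInf_add_defect (p := p) _ χ hχ
  have hfac : (Nat.card G).factorization p = Cfsg.blockDefect p (Cfsg.blockOf M (χ : G → ℂ)) := by
    rw [hcard, Nat.Prime.factorization_pow hp]
    simp
  have hinf : sInf ((fun ψ : Cfsg.IrrCharacter G => (Cfsg.charDegree (ψ : G → ℂ)).factorization p) ''
      Cfsg.blockOf M (χ : G → ℂ)) = 0 := by omega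
  have hne : ((fun ψ : Cfsg.IrrCharacter G => (Cfsg.charDegree (ψ : G → ℂ)).factorization p) ''
      Cfsg.blockOf M (χ : G → ℂ)).Nonempty := ⟨_, χ, hχ, rfl⟩
  obtain ⟨ψ, hψ, hψ0⟩ := Nat.sInf_mem hne
  rw [hinf] at hψ0
  simp only at hψ0
  have hdvd := IsIrrCharacter.charDegree_dvd_card ψ.2
  rw [hcard] at hdvd
  obtain ⟨j, _, hj⟩ := (Nat.dvd_prime_pow hp).1 hdvd
  have hj0 : j = 0 := by
    by_contra hne0
    rw [hj, Nat.Prime.factorization_pow hp] at hψ0
    simp at hψ0
    exact hne0 hψ0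
  rw [hj0, pow_zero] at hj
  have hψ1 : (ψ : G → ℂ) 1 = 1 := by
    rw [IsCharacter.apply_one_eq_charDegree (IsIrrCharacter.isCharacter ψ.2), hj]
    simp
  have h3 := mem_principalBlock_of_linear_of_isPGroup hM hG ψ hψ1
  have h4 : Cfsg.SameBlock M (fun _ : G => (1 : ℂ)) (ψ : G → ℂ) := h3
  have h5 : Cfsg.SameBlock M (χ : G → ℂ) (ψ : G → ℂ) := hψ
  exact SameBlock.trans' hM h4 (SameBlock.symm' h5)

end pgroup

end Cfsg.Agent.Lib.Helper6
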