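import Mathlib
import Cfsg.Prelude.Def_Blocks
import Cfsg.Agent.Lib.Helper6.BlkOrthFull
import Cfsg.Agent.Lib.Helper6.BlkSections
import Cfsg.Agent.Lib.Helper6.BlkSecond3

set_option autoImplicit false
set_option linter.unusedSectionVars false
open Cfsg

namespace Cfsg.Agent.Lib.Helper6

open scoped ComplexConjugate

section pq

variable {G : Type*} [Group G] [Fintype G] [DecidableEq G]

/-- no element of order `p q` means no element whose order is divisible by both -/
theorem not_dvd_of_no_order_mul {p q : ℕ} (hp : p.Prime) (hq : q.Prime) (hpq : p ≠ q)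
    (hno : ∀ g : G, orderOf g ≠ p * q) (g : G) (h1 : p ∣ orderOf g) : ¬ q ∣ orderOf g := by
  intro h2
  have hcop : Nat.Coprime p q := (Nat.coprime_primes hp hq).mpr hpq
  have hdvd : p * q ∣ orderOf g := Nat.Coprime.mul_dvd_of_dvd_of_dvd hcop h1 h2
  have hpos : 0 < orderOf g := orderOf_pos g
  have h3 := orderOf_pow_orderOf_div (x := g) hpos.ne' hdvd
  exact hno _ h3

/-- an element with a nontrivial `q`-part is `q`-singular -/
theorem dvd_orderOf_of_isPPart_ne_one {q : ℕ} (hq : q.Prime) {w z : G}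
    (h : Cfsg.IsPPart q w z) (hz : z ≠ 1) : q ∣ orderOf w := by
  have hmem := IsPPart.mem_zpowers hq h
  obtain ⟨y, _, _, ⟨k, hk⟩, _⟩ := h
  have hk0 : k ≠ 0 := by
    rintro rfl
    rw [pow_zero, orderOf_eq_one_iff] at hk
    exact hz hk
  have h1 : orderOf z ∣ orderOf w := by
    obtain ⟨i, hi⟩ := Subgroup.mem_zpowers_iff.mp hmem
    rw [← hi]
    exact orderOf_dvd_of_pow_eq_one (by rw [← zpow_natCast, ← zpow_mul, mul_comm, zpow_mul,
      zpow_natCast, pow_orderOf_eq_one, one_zpow])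
  rw [hk] at h1
  exact dvd_trans (dvd_pow_self q hk0) h1

/-- the `q`-part of a `q`-singular element is nontrivial -/
theorem isPPart_ne_one_of_dvd {q : ℕ} {w z : G} (h : Cfsg.IsPPart q w z)
    (hw : q ∣ orderOf w) : z ≠ 1 := by
  rintro rfl
  obtain ⟨y, hy, _, _, hyr⟩ := h
  rw [one_mul] at hy
  rw [hy] at hyr
  exact hyr hw

/-- Brauer: in a group without elements of order `p q`, the characters common to a `p`-block and
a `q`-block are orthogonal on pairs (`p`-singular, `q`-singular). -/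
theorem pq_orthogonality {p q : ℕ} (hpq : p ≠ q) {Mp Mq : Ideal Cfsg.AlgInt}
    (hMp : Cfsg.IsPModular p Mp) (hMq : Cfsg.IsPModular q Mq)
    (hno : ∀ g : G, orderOf g ≠ p * q) (χp χq : Cfsg.IrrCharacter G) (y x : G)
    (hy : p ∣ orderOf y) (hx : q ∣ orderOf x) :
    ∑ᶠ χ ∈ Cfsg.blockOf Mp (χp : G → ℂ) ∩ Cfsg.blockOf Mq (χq : G → ℂ),
      (χ : G → ℂ) y * (χ : G → ℂ) x = 0 := by
  classical
  have hp : p.Prime := hMp.1
  have hq : q.Prime := hMq.1
  haveI : Fintype (Cfsg.IrrCharacter G) := Fintype.ofFinite _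
  obtain ⟨F, hFdef⟩ : ∃ F : G → ℂ, F = ∑ χ ∈ Finset.univ.filter
      (· ∈ Cfsg.blockOf Mp (χp : G → ℂ)), (χ : G → ℂ) y • (χ : G → ℂ) := ⟨_, rfl⟩
  have hF : Cfsg.IsClassFunction G F := by
    rw [hFdef]
    apply isClassFunction_sum
    intro χ _
    exact isClassFunction_smul _ (IsIrrCharacter.isClassFunction χ.2)
  obtain ⟨z, hz⟩ := exists_isPPart hq x
  have hz1 : z ≠ 1 := isPPart_ne_one_of_dvd hz hx
  obtain ⟨v, hv⟩ := exists_isPPart hp y⁻¹
  have hv1 : v ≠ 1 := isPPart_ne_one_of_dvd hv (by rw [orderOf_inv]; exact hy)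
  have hvan : ∀ w : G, Cfsg.IsPPart q w z → F w = 0 := by
    intro w hw
    have hwq : q ∣ orderOf w := dvd_orderOf_of_isPPart_ne_one hq hw hz1
    have hwp : ¬ p ∣ orderOf w := fun h => not_dvd_of_no_order_mul hp hq hpq hno w h hwq
    have hw1 : Cfsg.IsPPart p w 1 :=
      ⟨w, one_mul w, Commute.one_left w, ⟨0, by rw [orderOf_one, pow_zero]⟩, hwp⟩
    have hnc : ¬ IsConj (1 : G) v := by
      intro h
      exact hv1 (isConj_one_right.mp h)
    have := block_orthogonality hMp w y⁻¹ 1 v hw1 hv hnc χp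
    rw [inv_inv] at this
    rw [hFdef, Finset.sum_apply, ← this, ← finsum_mem_coe_finset]
    apply finsum_mem_congr
    · ext χ; simp
    · intro χ _
      simp only [Pi.smul_apply, smul_eq_mul]
      ring
  have hmain := blockPart_vanish_pSection hMq hF z hvan χq x hz
  rw [blockPart_eq_finset_sum] at hmain
  have hinner : ∀ ζ : Cfsg.IrrCharacter G, Cfsg.classInner F (ζ : G → ℂ)
      = if ζ ∈ Cfsg.blockOf Mp (χp : G → ℂ) then (ζ : G → ℂ) y else 0 := by
    intro ζ
    rw [hFdef, classInner_sum_left]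
    simp only [classInner_smul_left, classInner_irrCharacter]
    split_ifs with hζ
    · rw [Finset.sum_eq_single ζ]
      · rw [if_pos rfl, mul_one]
      · intro θ _ hθ
        rw [if_neg hθ, mul_zero]
      · intro hh
        exact absurd (Finset.mem_filter.mpr ⟨Finset.mem_univ _, hζ⟩) hh
    · apply Finset.sum_eq_zero
      intro θ hθ
      have : θ ≠ ζ := fun h => hζ (h ▸ (Finset.mem_filter.mp hθ).2)
      rw [if_neg this, mul_zero]
  simp_rw [hinner] at hmain
  have hite : ∀ χ : Cfsg.IrrCharacter G,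
      (if χ ∈ Cfsg.blockOf Mp (χp : G → ℂ) then (χ : G → ℂ) y else 0) * (χ : G → ℂ) x
        = if χ ∈ Cfsg.blockOf Mp (χp : G → ℂ) then (χ : G → ℂ) y * (χ : G → ℂ) x else 0 := by
    intro χ
    split_ifs
    · rfl
    · rw [zero_mul]
  simp_rw [hite] at hmain
  rw [← Finset.sum_filter, Finset.filter_filter] at hmain
  rw [← hmain, ← finsum_mem_coe_finset]
  apply finsum_mem_congr
  · ext χ
    simp [and_comm]
  · intro χ _
    rfl

end pq

end Cfsg.Agent.Lib.Helper6
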