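import Mathlib
import Cfsg.Agent.Lib.Helper6.BlkUniqueBlock
import Cfsg.Agent.Lib.Helper6.BlkPrincipal
import Cfsg.Agent.Lib.Helper6.BlkPrincipalKer
import Cfsg.Agent.Lib.Helper6.BlkQuot4
import Cfsg.Agent.Lib.Helper6.BlkNormalP
import Cfsg.Agent.Lib.Helper1.PConstrainedOfPSolvable
import Cfsg.Agent.Lib.Helper1.PSolvSub
import Cfsg.Agent.Lib.Helper1.PCore
import Cfsg.Agent.Lib.Helper1.PLengthOne
import Cfsg.Agent.Lib.Helper1.UpperPSeriesCentralizer

set_option autoImplicit false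
set_option linter.unusedSectionVars false
open Cfsg

namespace Cfsg.Agent.Lib.Helper6

section

variable {G : Type*} [Group G] [Finite G]
variable {p : ℕ} {M : Ideal Cfsg.AlgInt}

/-- **Fong.** In a `p`-solvable group the principal `p`-block consists exactly of the irreducible
characters whose kernel contains `O_{p'}(G)`. -/
theorem mem_principalBlock_iff_of_isPSolvable (hM : Cfsg.IsPModular p M) [Fact p.Prime]
    (hsolv : Cfsg.IsPSolvable p G) (χ : Cfsg.IrrCharacter G) :
    χ ∈ Cfsg.principalBlock M G ↔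
      ∀ n ∈ Cfsg.pPrimeCore p G, (χ : G → ℂ) n = (χ : G → ℂ) 1 := by
  classical
  have : Fintype G := Fintype.ofFinite G
  constructor
  · intro hχ n hn
    exact apply_eq_apply_one_of_mem_principalBlock hM χ hχ n hn
  · intro hker
    obtain ⟨K, hKdef⟩ : ∃ K : Subgroup G, K = Cfsg.pPrimeCore p G := ⟨_, rfl⟩
    haveI hKn : K.Normal := hKdef ▸ (inferInstance : (Cfsg.pPrimeCore p G).Normal)
    have hbot : Cfsg.pPrimeCore p (G ⧸ K) = ⊥ :=
      Cfsg.Agent.Lib.Helper1.pPrimeCore_quotient_eq_bot_of_eq p K hKdef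
    have hsolvQ : Cfsg.IsPSolvable p (G ⧸ K) :=
      Cfsg.Agent.Lib.Helper1.isPSolvable_of_surjective p (QuotientGroup.mk' K)
        (QuotientGroup.mk'_surjective K) hsolv
    have hcent : Subgroup.centralizer (Cfsg.pCore p (G ⧸ K) : Set (G ⧸ K))
        ≤ Cfsg.pCore p (G ⧸ K) :=
      Cfsg.Agent.Lib.Helper1.centralizer_pCore_le_of_isPSolvable hbot
        (Cfsg.Agent.Lib.Helper1.PSolvSub.isPSolvable_subgroup hsolvQ _)
    have : Fintype (G ⧸ K) := Fintype.ofFinite _
    obtain ⟨β, hβ⟩ := IsIrrCharacter.exists_deflation K χ (fun n hn => hker n (hKdef ▸ hn))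
    have hχ : χ = inflIrr K β := Subtype.ext hβ
    rw [hχ]
    exact sameBlock_inflation K hM (oneIrr (G ⧸ K)) β
      (sameBlock_of_centralizer_le hM (Cfsg.pCore p (G ⧸ K))
        (Cfsg.Agent.Lib.Helper1.pCore_isPGroup p) hcent _ _)

end

end Cfsg.Agent.Lib.Helper6
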