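import Mathlib
import Cfsg.Prelude.Def_Blocks
import Cfsg.Agent.Lib.Helper6.BlkQuot4
import Cfsg.Agent.Lib.Helper6.BlkQuot2
import Cfsg.Agent.Lib.Helper6.BlkPrincipalCover
import Cfsg.Agent.Lib.Helper6.GaloisRat

/-! # The principal block and the quotient by a normal `p'`-subgroup; Galois stability -/

namespace Cfsg.Agent.Lib.Helper6

open scoped ComplexConjugate

section quot

variable {G : Type*} [Group G] [Fintype G] [DecidableEq G]
variable {p : ℕ} {M : Ideal Cfsg.AlgInt}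
variable (N : Subgroup G) [hN : N.Normal]

theorem inflIrr_injective : Function.Injective (inflIrr N) := by
  intro χ ψ h
  apply Subtype.ext
  funext q
  obtain ⟨g, rfl⟩ := QuotientGroup.mk_surjective q
  have := congrFun (congrArg Subtype.val h) g
  exact this

theorem inflIrr_mem_principalBlock_iff (hM : Cfsg.IsPModular p M) (hNp : ¬ p ∣ Nat.card N)
    (ψ : Cfsg.IrrCharacter (G ⧸ N)) :
    inflIrr N ψ ∈ Cfsg.principalBlock M G ↔ ψ ∈ Cfsg.principalBlock M (G ⧸ N) := by
  constructor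
  · intro h
    have h1 : Cfsg.SameBlock M (fun g : G => ((oneIrr (G ⧸ N) : Cfsg.IrrCharacter (G ⧸ N)) :
        G ⧸ N → ℂ) (QuotientGroup.mk g)) (inflIrr N ψ : G → ℂ) := h
    obtain ⟨ψ', hψ', hsb⟩ := exists_deflation_of_sameBlock_inflation N hM hNp (oneIrr (G ⧸ N))
      (inflIrr N ψ) h1
    have : ψ = ψ' := by
      apply inflIrr_injective N
      apply Subtype.ext
      exact hψ'
    rw [this]
    exact hsb
  · intro h
    exact sameBlock_inflation N hM (oneIrr (G ⧸ N)) ψ h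

theorem exists_inflIrr_of_mem_principalBlock (hM : Cfsg.IsPModular p M) (hNp : ¬ p ∣ Nat.card N)
    (χ : Cfsg.IrrCharacter G) (hχ : χ ∈ Cfsg.principalBlock M G) :
    ∃ ψ : Cfsg.IrrCharacter (G ⧸ N), ψ ∈ Cfsg.principalBlock M (G ⧸ N) ∧ inflIrr N ψ = χ := by
  have h1 : Cfsg.SameBlock M (fun g : G => ((oneIrr (G ⧸ N) : Cfsg.IrrCharacter (G ⧸ N)) :
      G ⧸ N → ℂ) (QuotientGroup.mk g)) (χ : G → ℂ) := hχ
  obtain ⟨ψ', hψ', hsb⟩ := exists_deflation_of_sameBlock_inflation N hM hNp (oneIrr (G ⧸ N)) χ h1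
  refine ⟨ψ', hsb, ?_⟩
  apply Subtype.ext
  exact hψ'.symm

theorem bijOn_inflIrr_principalBlock (hM : Cfsg.IsPModular p M) (hNp : ¬ p ∣ Nat.card N) :
    Set.BijOn (inflIrr N) (Cfsg.principalBlock M (G ⧸ N)) (Cfsg.principalBlock M G) := by
  refine ⟨?_, (inflIrr_injective N).injOn, ?_⟩
  · intro ψ hψ
    exact (inflIrr_mem_principalBlock_iff N hM hNp ψ).mpr hψ
  · intro χ hχ
    obtain ⟨ψ, hψ, h⟩ := exists_inflIrr_of_mem_principalBlock N hM hNp χ hχ
    exact ⟨ψ, hψ, h⟩

end quot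

section galois

variable {G : Type*} [Group G] [Fintype G]
variable {p : ℕ} {M : Ideal Cfsg.AlgInt}

/-- the principal block is stable under the Galois action -/
theorem powIrr_mem_principalBlock (hM : Cfsg.IsPModular p M) [Fact p.Prime] (k : ℕ)
    (hk : Nat.Coprime k (Nat.card G)) (χ : Cfsg.IrrCharacter G)
    (hχ : χ ∈ Cfsg.principalBlock M G) : powIrr k hk χ ∈ Cfsg.principalBlock M G := by
  classical
  rw [mem_principalBlock_iff_classInner_tildeFun hM] at hχ ⊢
  intro h0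
  apply hχ
  rw [← h0]
  unfold Cfsg.classInner
  congr 1
  have hT : ∀ g : G, tildeFun p (fun _ : G => (1 : ℂ)) (g ^ k)
      = tildeFun p (fun _ : G => (1 : ℂ)) g := by
    intro g
    unfold tildeFun
    have hcop : Nat.Coprime (orderOf g) k :=
      Nat.Coprime.coprime_dvd_left (orderOf_dvd_natCard g) hk.symm
    rw [hcop.orderOf_pow]
  rw [← Equiv.sum_comp (powCoprime hk.symm)
    (fun g => tildeFun p (fun _ : G => (1 : ℂ)) g * conj ((χ : G → ℂ) g))]
  apply Finset.sum_congr rfl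
  intro g _
  rw [powCoprime_apply, hT g]
  rfl

end galois

end Cfsg.Agent.Lib.Helper6
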