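import Mathlib
import Cfsg.Prelude.Def_Blocks
import Cfsg.Agent.Lib.Helper6.BlkQuot3
import Cfsg.Agent.Lib.Helper6.BlkQuot
import Cfsg.Agent.Lib.Helper6.BlkPReg
import Cfsg.Agent.Lib.Helper1.FrattiniAction
import Cfsg.Agent.Lib.Helper2.FrattiniSub

/-! # Blocks of `G / D'` for a normal `p`-subgroup `D` -/

namespace Cfsg.Agent.Lib.Helper6

open scoped ComplexConjugate commutatorElement

section

variable {G : Type*} [Group G] [Fintype G] [DecidableEq G]
variable {p : ℕ} {M : Ideal Cfsg.AlgInt}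

omit [Fintype G] [DecidableEq G] in
/-- A `p'`-element `x` normalising the `p`-group `A` with `[A, x] ≤ [A, A]` centralises `A`
(after Helper7.FrakM10, restated here to keep the import chain short). -/
theorem mem_centralizer_of_commutator_le_commutator_lib [Finite G] [Fact p.Prime]
    {A : Subgroup G} (hAp : IsPGroup p A) {x : G} (hxA : x ∈ Subgroup.normalizer (A : Set G))
    (hxc : (orderOf x).Coprime p) (h : ⁅Subgroup.zpowers x, A⁆ ≤ ⁅A, A⁆) :
    x ∈ Subgroup.centralizer (A : Set G) := by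
  have hzA : Subgroup.zpowers x ≤ Subgroup.normalizer (A : Set G) := by
    rw [Subgroup.zpowers_le]; exact hxA
  have hcop : (Nat.card (Subgroup.zpowers x)).Coprime (Nat.card (frattini ↥A)) := by
    rw [Nat.card_zpowers]
    have hΦp : IsPGroup p (frattini ↥A) := hAp.to_subgroup _
    obtain ⟨k, hk⟩ := IsPGroup.iff_card.mp hΦp
    rw [hk]
    exact Nat.Coprime.pow_right k hxc
  have h1 := Cfsg.Agent.Lib.Helper1.centralizes_of_trivial_on_frattini_quotient
    (Subgroup.zpowers x) A hzA hcop (by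
      intro a ha k hk
      apply Cfsg.Agent.Lib.Helper2.commutator_le_map_frattini hAp
      apply h
      have := Subgroup.commutator_mem_commutator ha hk
      rwa [commutatorElement_def] at this)
  exact h1 (Subgroup.mem_zpowers x)

/-- for a normal `p`-subgroup `D`, the blocks of `G / D'` are detected after inflation -/
theorem sameBlock_of_sameBlock_inflation_commutator (hM : Cfsg.IsPModular p M)
    (D : Subgroup G) [hDn : D.Normal] (hD : IsPGroup p D)
    (χ ψ : Cfsg.IrrCharacter (G ⧸ ⁅D, D⁆))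
    (h : Cfsg.SameBlock M (fun g : G => (χ : G ⧸ ⁅D, D⁆ → ℂ) (QuotientGroup.mk g))
      (fun g : G => (ψ : G ⧸ ⁅D, D⁆ → ℂ) (QuotientGroup.mk g))) :
    Cfsg.SameBlock M (χ : G ⧸ ⁅D, D⁆ → ℂ) (ψ : G ⧸ ⁅D, D⁆ → ℂ) := by
  classical
  have : Fintype (G ⧸ ⁅D, D⁆) := Fintype.ofFinite _
  have hp : p.Prime := hM.1
  haveI : Fact p.Prime := ⟨hp⟩
  have hle : ⁅D, D⁆ ≤ D := Subgroup.commutator_le_left D D
  have hP' : IsPGroup p (⁅D, D⁆ : Subgroup G) := hD.to_le hle
  obtain ⟨Dbar, hDbar⟩ : ∃ Dbar : Subgroup (G ⧸ ⁅D, D⁆),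
      Dbar = D.map (QuotientGroup.mk' ⁅D, D⁆) := ⟨_, rfl⟩
  haveI hDbn : Dbar.Normal := by
    rw [hDbar]
    exact Subgroup.Normal.map hDn _ (QuotientGroup.mk'_surjective _)
  have hDbp : IsPGroup p Dbar := by
    rw [hDbar]
    exact hD.map _
  apply sameBlock_of_forall_pRegular hM
  intro q hq
  by_cases hcase : ∀ y : G ⧸ ⁅D, D⁆, IsConj q y → y ∉ Subgroup.centralizer (Dbar : Set (G ⧸ ⁅D, D⁆))
  · exact MemLocalIdeal.sub hM
      (centralChar_memLocalIdeal_of_not_centralizer hM Dbar hDbp q hcase χ)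
      (centralChar_memLocalIdeal_of_not_centralizer hM Dbar hDbp q hcase ψ)
  · push Not at hcase
    obtain ⟨y, hy, hyC⟩ := hcase
    have hCn : (Subgroup.centralizer (Dbar : Set (G ⧸ ⁅D, D⁆))).Normal :=
      Subgroup.normal_centralizer
    have hqC : q ∈ Subgroup.centralizer (Dbar : Set (G ⧸ ⁅D, D⁆)) := by
      obtain ⟨c, hc⟩ := isConj_iff.mp hy
      have h1 := hCn.conj_mem y hyC c⁻¹
      rw [← hc] at h1
      convert h1 using 1
      group
    obtain ⟨v, rfl, hv⟩ := exists_pRegular_lift ⁅D, D⁆ hp q hq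
    have hvD : v ∈ Subgroup.centralizer (D : Set G) := by
      apply mem_centralizer_of_commutator_le_commutator_lib hD
      · exact (Subgroup.normalizer_eq_top_iff.mpr hDn) ▸ Subgroup.mem_top v
      · exact ((Nat.Prime.coprime_iff_not_dvd hp).mpr hv).symm
      · rw [Subgroup.commutator_le]
        intro a ha d hd
        rw [← QuotientGroup.eq_one_iff]
        show (QuotientGroup.mk' ⁅D, D⁆) ⁅a, d⁆ = 1
        rw [map_commutatorElement, commutatorElement_eq_one_iff_commute]
        show Commute (QuotientGroup.mk a : G ⧸ ⁅D, D⁆) (QuotientGroup.mk d : G ⧸ ⁅D, D⁆)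
        have ha' : (QuotientGroup.mk a : G ⧸ ⁅D, D⁆)
            ∈ Subgroup.centralizer (Dbar : Set (G ⧸ ⁅D, D⁆)) := by
          obtain ⟨k, rfl⟩ := Subgroup.mem_zpowers_iff.mp ha
          rw [QuotientGroup.mk_zpow]
          exact Subgroup.zpow_mem _ hqC k
        have hd' : (QuotientGroup.mk d : G ⧸ ⁅D, D⁆) ∈ Dbar := by
          rw [hDbar]
          exact Subgroup.mem_map_of_mem _ hd
        exact (Subgroup.mem_centralizer_iff.mp ha' _ hd').symm
    have hvc : v ∈ Subgroup.centralizer ((⁅D, D⁆ : Subgroup G) : Set G) :=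
      Subgroup.centralizer_le hle hvD
    have h1 := h v
    rw [centralChar_comp_mk ⁅D, D⁆ (IsIrrCharacter.isClassFunction χ.2),
      centralChar_comp_mk ⁅D, D⁆ (IsIrrCharacter.isClassFunction ψ.2),
      pushFun_classInd_of_pRegular ⁅D, D⁆ hp hP' v hv hvc,
      cOmega_classInd _ (IsIrrCharacter.isClassFunction χ.2),
      cOmega_classInd _ (IsIrrCharacter.isClassFunction ψ.2)] at h1
    exact h1

end

end Cfsg.Agent.Lib.Helper6
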