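import Mathlib
import Cfsg.Agent.Lib.Helper6.BlkQuot3
import Cfsg.Agent.Lib.Helper6.BlkQuot4
import Cfsg.Agent.Lib.Helper6.BlkMinMax2
import Cfsg.Agent.Lib.Helper6.BlkMajor
import Cfsg.Agent.Lib.Helper6.BlkIndDefect

set_option autoImplicit false
set_option linter.unusedSectionVars false
open Cfsg

namespace Cfsg.Agent.Lib.Helper6

open scoped ComplexConjugate

section fibre

variable {G : Type*} [Group G] [Fintype G] [DecidableEq G]
variable (N : Subgroup G) [hN : N.Normal]

/-- the number of conjugates of `x` in the coset `x N` -/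
noncomputable def fibreCount (x : G) : ℕ := by
  classical
  exact (Finset.univ.filter
    (fun z : G => IsConj x z ∧ (QuotientGroup.mk z : G ⧸ N) = QuotientGroup.mk x)).card

theorem pushFun_classInd_eq [Fintype (G ⧸ N)] [DecidableEq (G ⧸ N)] (x : G) :
    pushFun N (classInd x) = (fibreCount N x : ℂ) • classInd (QuotientGroup.mk x : G ⧸ N) := by
  classical
  have hcf := pushFun_isClassFunction N (classInd_isClassFunction x)
  funext q
  rw [Pi.smul_apply, smul_eq_mul]
  by_cases hq : IsConj (QuotientGroup.mk x : G ⧸ N) q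
  · have h1 : classInd (QuotientGroup.mk x : G ⧸ N) q = 1 := by
      unfold classInd; rw [if_pos hq]
    rw [h1, mul_one]
    obtain ⟨r, hr⟩ := isConj_iff.mp hq
    rw [← hr, hcf, pushFun_apply]
    unfold classInd fibreCount
    rw [Finset.sum_ite, Finset.sum_const_zero, add_zero, Finset.sum_const, nsmul_eq_mul, mul_one]
    congr 2
    ext z
    simp only [Finset.mem_filter, Finset.mem_univ, true_and]
    tauto
  · have h1 : classInd (QuotientGroup.mk x : G ⧸ N) q = 0 := by
      unfold classInd; rw [if_neg hq]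
    rw [h1, mul_zero, pushFun_apply]
    apply Finset.sum_eq_zero
    intro g hg
    simp only [Finset.mem_filter, Finset.mem_univ, true_and] at hg
    unfold classInd
    rw [if_neg]
    intro hxg
    apply hq
    rw [← hg]
    obtain ⟨c, hc⟩ := isConj_iff.mp hxg
    rw [isConj_iff]
    refine ⟨QuotientGroup.mk c, ?_⟩
    rw [← hc]
    simp

/-- the central character of an inflated class function -/
theorem centralChar_comp_mk_eq {β : G ⧸ N → ℂ} (hβ : Cfsg.IsClassFunction (G ⧸ N) β) (x : G) :
    Cfsg.centralChar (fun g : G => β (QuotientGroup.mk g)) x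
      = (fibreCount N x : ℂ) * Cfsg.centralChar β (QuotientGroup.mk x) := by
  classical
  haveI : Fintype (G ⧸ N) := Fintype.ofFinite _
  rw [centralChar_comp_mk N hβ, pushFun_classInd_eq, regMat_smul, cOmega_smul,
    cOmega_classInd _ hβ]

/-- a `p`-subgroup whose image centralizes the image of `x` centralizes a conjugate of `x` in the
coset of `x`, when the number of such conjugates is prime to `p` -/
theorem exists_conj_centralized {p : ℕ} [Fact p.Prime] (x : G) (hm : ¬ p ∣ fibreCount N x)
    (S : Subgroup G) (hS : IsPGroup p S)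
    (hSx : S.map (QuotientGroup.mk' N) ≤ Subgroup.centralizer ({(QuotientGroup.mk x : G ⧸ N)} : Set (G ⧸ N))) :
    ∃ z : G, IsConj x z ∧ (QuotientGroup.mk z : G ⧸ N) = QuotientGroup.mk x ∧
      S ≤ Subgroup.centralizer ({z} : Set G) := by
  classical
  let Ω := {z : G // IsConj x z ∧ (QuotientGroup.mk z : G ⧸ N) = QuotientGroup.mk x}
  have hmem : ∀ (s : S) (z : Ω), IsConj x ((s : G) * z.1 * (s : G)⁻¹) ∧
      (QuotientGroup.mk ((s : G) * z.1 * (s : G)⁻¹) : G ⧸ N) = QuotientGroup.mk x := by
    intro s z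
    refine ⟨z.2.1.trans (isConj_iff.mpr ⟨s, rfl⟩), ?_⟩
    have h1 : (QuotientGroup.mk (s : G) : G ⧸ N) ∈
        Subgroup.centralizer ({(QuotientGroup.mk x : G ⧸ N)} : Set (G ⧸ N)) :=
      hSx ⟨s, s.2, rfl⟩
    rw [mem_centralizer_singleton_iff] at h1
    rw [QuotientGroup.mk_mul, QuotientGroup.mk_mul, QuotientGroup.mk_inv, z.2.2, ← h1]
    group
  let act : MulAction S Ω :=
    { smul := fun s z => ⟨(s : G) * z.1 * (s : G)⁻¹, hmem s z⟩
      one_smul := by
        intro z
        apply Subtype.ext
        show ((1 : S) : G) * z.1 * ((1 : S) : G)⁻¹ = z.1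
        simp
      mul_smul := by
        intro s t z
        apply Subtype.ext
        show ((s * t : S) : G) * z.1 * ((s * t : S) : G)⁻¹
          = (s : G) * ((t : G) * z.1 * (t : G)⁻¹) * (s : G)⁻¹
        simp only [Subgroup.coe_mul]
        group }
  have hcard : Nat.card Ω = fibreCount N x := by
    unfold fibreCount
    rw [Nat.card_eq_fintype_card, Fintype.card_subtype]
  have hne := hS.nonempty_fixed_point_of_prime_not_dvd_card Ω (by rw [hcard]; exact hm)
  obtain ⟨z, hz⟩ := hne
  refine ⟨z.1, z.2.1, z.2.2, ?_⟩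
  intro s hs
  rw [mem_centralizer_singleton_iff]
  have h1 := hz ⟨s, hs⟩
  have h2 : s * z.1 * s⁻¹ = z.1 := congrArg Subtype.val h1
  calc z.1 * s = (s * z.1 * s⁻¹) * s := by rw [h2]
    _ = s * z.1 := by group

end fibre

section lift

variable {G : Type*} [Group G] [Finite G]
variable (N : Subgroup G) [hN : N.Normal]

/-- a `p`-subgroup of the quotient is the image of a `p`-subgroup -/
theorem exists_isPGroup_map_eq {p : ℕ} [Fact p.Prime] (Dbar : Subgroup (G ⧸ N))
    (hD : IsPGroup p Dbar) :
    ∃ S : Subgroup G, IsPGroup p S ∧ S.map (QuotientGroup.mk' N) = Dbar := by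
  let f := (QuotientGroup.mk' N).subgroupComap Dbar
  have hf : Function.Surjective f :=
    MonoidHom.subgroupComap_surjective_of_surjective _ _ (QuotientGroup.mk'_surjective N)
  obtain ⟨S₀⟩ := (inferInstance : Nonempty (Sylow p (Dbar.comap (QuotientGroup.mk' N))))
  let T : Sylow p Dbar := S₀.mapSurjective hf
  have hT : (T : Subgroup Dbar) = ⊤ := by
    have hp : IsPGroup p (⊤ : Subgroup Dbar) := by
      intro g
      obtain ⟨k, hk⟩ := hD g.1
      refine ⟨k, ?_⟩
      apply Subtype.ext
      have := congrArg Subtype.val hk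
      simpa using hk
    exact (T.is_maximal' hp le_top).symm
  refine ⟨(S₀ : Subgroup (Dbar.comap (QuotientGroup.mk' N))).map
    (Dbar.comap (QuotientGroup.mk' N)).subtype, S₀.2.map _, ?_⟩
  rw [Subgroup.map_map]
  have hcomp : (QuotientGroup.mk' N).comp (Dbar.comap (QuotientGroup.mk' N)).subtype
      = Dbar.subtype.comp f := by
    ext g
    rfl
  rw [hcomp, ← Subgroup.map_map]
  have h2 : (S₀ : Subgroup (Dbar.comap (QuotientGroup.mk' N))).map f = (T : Subgroup Dbar) := rfl
  rw [h2, hT, ← MonoidHom.range_eq_map, Subgroup.range_subtype]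

end lift

end Cfsg.Agent.Lib.Helper6
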