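import Mathlib
import Cfsg.Prelude.Def_Blocks
import Cfsg.Prelude.Def_BlockRank
import Cfsg.Agent.Lib.Helper6.BlkTrans
import Cfsg.Agent.Lib.Helper6.BlkPrincipalSum
import Cfsg.Agent.Lib.Helper6.BlkPrincipal
import Cfsg.Agent.S0939
import Cfsg.Agent.S0936
import Cfsg.Agent.Lib.Helper6.BlkBrauer
import Cfsg.Agent.Lib.Helper6.BlkSecond2
import Cfsg.Agent.Lib.Helper6.BlkCover

set_option autoImplicit false
set_option linter.unusedSectionVars false
open Cfsg

namespace Cfsg.Agent.Lib.Helper6

section rank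

variable {p : ℕ} {M : Ideal Cfsg.AlgInt}

/-- the `p`-regular part commutes with transport along a group isomorphism -/
theorem pRegularPart_comp_mulEquiv {G H : Type*} [Group G] [Group H] (e : H ≃* G) (χ : G → ℂ) :
    Cfsg.pRegularPart p (fun h => χ (e h)) = fun h => Cfsg.pRegularPart p χ (e h) := by
  funext h
  unfold Cfsg.pRegularPart Cfsg.IsPRegular
  simp only [MulEquiv.orderOf_eq]

/-- the rank of the principal block is invariant under group isomorphisms -/
theorem blockRank_principalBlock_mulEquiv {G H : Type*} [Group G] [Group H] [Finite G] [Finite H]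
    (e : H ≃* G) :
    Cfsg.blockRank p (Cfsg.principalBlock M H) = Cfsg.blockRank p (Cfsg.principalBlock M G) := by
  classical
  unfold Cfsg.blockRank
  obtain ⟨L, hL⟩ : ∃ L : (G → ℂ) ≃ₗ[ℂ] (H → ℂ), ∀ f : G → ℂ, L f = fun h => f (e h) :=
    ⟨LinearEquiv.funCongrLeft ℂ ℂ e.toEquiv, fun f => rfl⟩
  have himg : (fun ξ : Cfsg.IrrCharacter H => Cfsg.pRegularPart p (ξ : H → ℂ)) ''
      (Cfsg.principalBlock M H)
      = L '' ((fun χ : Cfsg.IrrCharacter G => Cfsg.pRegularPart p (χ : G → ℂ)) ''
        (Cfsg.principalBlock M G)) := by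
    ext f
    constructor
    · rintro ⟨ξ, hξ, rfl⟩
      refine ⟨Cfsg.pRegularPart p (fun g => (ξ : H → ℂ) (e.symm g)),
        ⟨⟨fun g => (ξ : H → ℂ) (e.symm g), IsIrrCharacter.comp_mulEquiv e.symm ξ.2⟩, ?_, rfl⟩, ?_⟩
      · unfold Cfsg.principalBlock Cfsg.blockOf at hξ ⊢
        rw [Set.mem_ofPred_eq] at hξ ⊢
        have := (sameBlock_comp_mulEquiv (M := M) e.symm
          (θ := fun _ : H => (1 : ℂ)) (θ' := (ξ : H → ℂ))).mpr hξ
        exact this
      · rw [hL]
        funext h
        have := congrFun (pRegularPart_comp_mulEquiv (p := p) e.symm (ξ : H → ℂ)) (e h)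
        rw [this, e.symm_apply_apply]
    · rintro ⟨_, ⟨χ, hχ, rfl⟩, rfl⟩
      refine ⟨⟨fun h => (χ : G → ℂ) (e h), IsIrrCharacter.comp_mulEquiv e χ.2⟩, ?_, ?_⟩
      · unfold Cfsg.principalBlock Cfsg.blockOf at hχ ⊢
        rw [Set.mem_ofPred_eq] at hχ ⊢
        have := (sameBlock_comp_mulEquiv (M := M) e
          (θ := fun _ : G => (1 : ℂ)) (θ' := (χ : G → ℂ))).mpr hχ
        exact this
      · rw [hL]
        exact pRegularPart_comp_mulEquiv e (χ : G → ℂ)
  rw [himg]
  have h1 : Submodule.span ℂ (L '' ((fun χ : Cfsg.IrrCharacter G =>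
      Cfsg.pRegularPart p (χ : G → ℂ)) '' (Cfsg.principalBlock M G)))
      = (Submodule.span ℂ ((fun χ : Cfsg.IrrCharacter G =>
      Cfsg.pRegularPart p (χ : G → ℂ)) '' (Cfsg.principalBlock M G))).map
        (L : (G → ℂ) →ₗ[ℂ] (H → ℂ)) := by
    rw [Submodule.map_span]
    rfl
  rw [h1]
  exact LinearEquiv.finrank_map_eq L _

/-- the principal block of a group with a normal `p`-complement has `p`-regular rank one -/
theorem blockRank_principalBlock_of_normal_pComplement {G : Type*} [Group G] [Finite G]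
    (hM : Cfsg.IsPModular p M) [Fact p.Prime]
    (hnc : ∃ k : ℕ, (Cfsg.pPrimeCore p G).index = p ^ k) :
    Cfsg.blockRank p (Cfsg.principalBlock M G) = 1 := by
  classical
  have hp : p.Prime := hM.1
  have : Fintype G := Fintype.ofFinite G
  have hprin := Cfsg.Agent.S0939.result p M hM hnc
  have hnorm : (Cfsg.pPrimeCore p G).Normal := (pPrimeCore_normal_and_coprime (G := G) p).1
  obtain ⟨k, hk⟩ := hnc
  obtain ⟨v, hv⟩ : ∃ v : G → ℂ, v = Cfsg.pRegularPart p (fun _ : G => (1 : ℂ)) := ⟨_, rfl⟩
  have hv1 : v 1 = 1 := by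
    rw [hv]
    unfold Cfsg.pRegularPart Cfsg.IsPRegular
    rw [if_pos]
    rw [orderOf_one]
    exact hp.not_dvd_one
  have hv0 : v ≠ 0 := by
    intro h
    rw [h] at hv1
    simp at hv1
  have hspan : Submodule.span ℂ ((fun χ : Cfsg.IrrCharacter G =>
      Cfsg.pRegularPart p (χ : G → ℂ)) '' (Cfsg.principalBlock M G)) = Submodule.span ℂ {v} := by
    apply le_antisymm
    · rw [Submodule.span_le]
      rintro _ ⟨χ, hχ, rfl⟩
      rw [SetLike.mem_coe, Submodule.mem_span_singleton]
      refine ⟨(χ : G → ℂ) 1, ?_⟩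
      rw [hprin, Set.mem_ofPred_eq] at hχ
      funext g
      rw [hv]
      unfold Cfsg.pRegularPart Cfsg.IsPRegular
      simp only [Pi.smul_apply, smul_eq_mul]
      by_cases hg : ¬ p ∣ orderOf g
      · rw [if_pos hg, if_pos hg, mul_one]
        exact (hχ g (mem_of_index_eq_pow_of_pRegular hp _ hk g hg)).symm
      · rw [if_neg hg, if_neg hg, mul_zero]
    · rw [Submodule.span_le, Set.singleton_subset_iff]
      apply Submodule.subset_span
      refine ⟨oneIrr G, ?_, ?_⟩
      · rw [principalBlock_eq]; exact sameBlock_refl hM _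
      · rw [hv]; rfl
  unfold Cfsg.blockRank
  rw [hspan]
  exact finrank_span_singleton hv0

/-- the blocks of the centralizer of a `p`-element inducing the principal block: only the
principal block -/
theorem finsum_blockRank_induced_principal {G : Type*} [Group G] [Finite G]
    (hM : Cfsg.IsPModular p M) [Fact p.Prime] (x : G) (hx : ∃ k : ℕ, orderOf x = p ^ k) :
    ∑ᶠ b ∈ {b : Set (Cfsg.IrrCharacter ↥(Subgroup.centralizer ({x} : Set G))) |
        Cfsg.IsInducedBlock M (Subgroup.centralizer ({x} : Set G)) b (Cfsg.principalBlock M G)},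
      Cfsg.blockRank p b
      = Cfsg.blockRank p (Cfsg.principalBlock M ↥(Subgroup.centralizer ({x} : Set G))) := by
  classical
  have : Fintype G := Fintype.ofFinite G
  have : Fintype ↥(Subgroup.centralizer ({x} : Set G)) := Fintype.ofFinite _
  have hxC : x ∈ Subgroup.centralizer ({x} : Set G) := by rw [mem_centralizer_singleton_iff]
  have hP : IsPGroup p (Subgroup.zpowers x) := by
    obtain ⟨k, hk⟩ := hx
    apply IsPGroup.of_card (n := k)
    rw [Nat.card_zpowers, hk]
  have hPH : Subgroup.zpowers x ≤ Subgroup.centralizer ({x} : Set G) := by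
    rw [Subgroup.zpowers_le]; exact hxC
  have hCH : Subgroup.centralizer (Subgroup.zpowers x : Set G)
      ≤ Subgroup.centralizer ({x} : Set G) := by
    apply Subgroup.centralizer_le
    intro g hg
    rw [Set.mem_singleton_iff] at hg
    rw [hg]
    exact Subgroup.mem_zpowers x
  have hHN : Subgroup.centralizer ({x} : Set G)
      ≤ Subgroup.normalizer (Subgroup.zpowers x : Set G) :=
    centralizer_singleton_le_normalizer_zpowers x
  have hdef : ∀ b : Set (Cfsg.IrrCharacter (Subgroup.centralizer ({x} : Set G))),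
      Cfsg.IsPBlock M b → Cfsg.InducedBlockDefined M (Subgroup.centralizer ({x} : Set G)) b :=
    fun b hb => inducedBlockDefined_of_centralizer_le (Subgroup.zpowers x) _ hM hP hPH hCH hHN b hb
  have hset : {b : Set (Cfsg.IrrCharacter ↥(Subgroup.centralizer ({x} : Set G))) |
        Cfsg.IsInducedBlock M (Subgroup.centralizer ({x} : Set G)) b (Cfsg.principalBlock M G)}
      = {Cfsg.principalBlock M ↥(Subgroup.centralizer ({x} : Set G))} := by
    ext b
    rw [Set.mem_ofPred_eq, Set.mem_singleton_iff]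
    constructor
    · intro h
      exact (Cfsg.Agent.S0936.result p M hM _ b ⟨_, h⟩).mp h
    · intro h
      rw [h]
      exact (Cfsg.Agent.S0936.result p M hM _ _ (hdef _ ⟨oneIrr _, rfl⟩)).mpr rfl
  rw [hset, finsum_mem_singleton]

end rank

end Cfsg.Agent.Lib.Helper6
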