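import Mathlib
import Cfsg.Agent.Lib.Helper6.BlkUniqueCover
import Cfsg.Agent.Lib.Helper6.BlkStab
import Cfsg.Agent.Lib.Helper6.Ito

set_option autoImplicit false
set_option linter.unusedSectionVars false
open Cfsg

namespace Cfsg.Agent.Lib.Helper6

open scoped ComplexConjugate

section stabHeight

variable {G : Type*} [Group G] [Fintype G] [DecidableEq G]
variable {p : ℕ} [hp : Fact p.Prime] {M : Ideal Cfsg.AlgInt}
variable (H : Subgroup G) [Fintype H] (hHn : H.Normal) (T : Subgroup G) [Fintype T] (hHT : H ≤ T)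
variable (b : Set (Cfsg.IrrCharacter H))
variable (hT : ∀ g : G, g ∈ T ↔ ∀ θ ∈ b, irrConj H hHn g θ ∈ b)

include hHT hT in
/-- a block of a normal subgroup contains a character of height zero whose inertia group has
index prime to `p` in the stabilizer of the block -/
theorem exists_height_zero_stab (hM : Cfsg.IsPModular p M) (hb : Cfsg.IsPBlock M b) :
    ∃ θ ∈ b, Cfsg.blockHeight p b (θ : H → ℂ) = 0 ∧
      ¬ p ∣ (T ⊓ inertia H hHn (θ : H → ℂ)).relIndex T := by
  classical
  haveI : Fintype (H.subgroupOf T) := Fintype.ofFinite _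
  have hpp : p.Prime := hp.out
  obtain ⟨θ₀, hbθ₀⟩ := hb
  have hst := gStable_image_irrSub H hHn T hHT b hT
  have hb'eq : irrSub H T hHT '' b = Cfsg.blockOf M
      ((irrSub H T hHT θ₀ : Cfsg.IrrCharacter (H.subgroupOf T)) : H.subgroupOf T → ℂ) := by
    rw [hbθ₀]
    exact image_irrSub_blockOf H T hHT θ₀
  rw [hb'eq] at hst
  obtain ⟨ψ', hψ'over, hge⟩ := exists_cover_blockDefect_ge (H.subgroupOf T) (hHn.subgroupOf T) hM
    (irrSub H T hHT θ₀) hst
  obtain ⟨ψ, hψB, hψh⟩ := exists_height_zero (p := p) (Cfsg.blockOf M (ψ' : T → ℂ)) ψ'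
    (sameBlock_refl hM _)
  have hψover := overSet_union_blocks (H.subgroupOf T) (hHn.subgroupOf T) hM _ hst ψ' hψ'over ψ hψB
  obtain ⟨θ', hθ', hc⟩ := hψover
  rw [← hb'eq] at hθ'
  obtain ⟨θ, hθb, rfl⟩ := hθ'
  -- degrees
  have h1 := factorization_card_eq_sInf_add_defect (p := p) (Cfsg.blockOf M (ψ' : T → ℂ)) ψ hψB
  have h2 := factorization_eq_sInf_add_height (p := p) (Cfsg.blockOf M (ψ' : T → ℂ)) ψ hψB
  have h3 := factorization_card_eq_sInf_add_defect (p := p) b θ hθb
  have h4 := factorization_card_eq_add_index (p := p) (H.subgroupOf T) hpp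
  rw [Nat.card_congr (Subgroup.subgroupOfEquivOfLe hHT).toEquiv] at h4
  rw [← hb'eq, blockDefect_image_irrSub] at hge
  have hdvdθ : Cfsg.charDegree (θ : H → ℂ) ∣ Cfsg.charDegree (ψ : T → ℂ) := by
    have := charDegree_dvd_of_constituent (H.subgroupOf T) (hHn.subgroupOf T) ψ
      (irrSub H T hHT θ) hc
    rwa [charDegree_irrSub] at this
  have h5 : (Cfsg.charDegree (θ : H → ℂ)).factorization p
      ≤ (Cfsg.charDegree (ψ : T → ℂ)).factorization p :=
    (Nat.factorization_le_iff_dvd (charDegree_ne_zero θ) (charDegree_ne_zero ψ)).mpr hdvdθ p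
  have h6 : sInf ((fun χ : Cfsg.IrrCharacter H => (Cfsg.charDegree (χ : H → ℂ)).factorization p) '' b)
      ≤ (Cfsg.charDegree (θ : H → ℂ)).factorization p := Nat.sInf_le ⟨θ, hθb, rfl⟩
  have h7 : (Cfsg.charDegree (θ : H → ℂ)).factorization p
      = (Cfsg.charDegree (ψ : T → ℂ)).factorization p := by omega
  refine ⟨θ, hθb, ?_, ?_⟩
  · unfold Cfsg.blockHeight
    omega
  · -- Clifford correspondence inside `T`
    obtain ⟨S, hS⟩ : ∃ S : Subgroup G, S = T ⊓ inertia H hHn (θ : H → ℂ) := ⟨_, rfl⟩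
    rw [← hS]
    haveI : Fintype (S.subgroupOf T) := Fintype.ofFinite _
    have hH'S' : H.subgroupOf T ≤ S.subgroupOf T := by
      intro k hk
      rw [Subgroup.mem_subgroupOf] at hk ⊢
      rw [hS]
      exact ⟨k.2, le_inertia H hHn (IsIrrCharacter.isClassFunction θ.2) hk⟩
    have hstab : ∀ g : T, conjFun (H.subgroupOf T) (hHn.subgroupOf T)
        ((irrSub H T hHT θ : Cfsg.IrrCharacter (H.subgroupOf T)) : H.subgroupOf T → ℂ) g
        = ((irrSub H T hHT θ : Cfsg.IrrCharacter (H.subgroupOf T)) : H.subgroupOf T → ℂ) →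
        g ∈ S.subgroupOf T := by
      intro g hg
      rw [Subgroup.mem_subgroupOf, hS]
      refine ⟨g.2, ?_⟩
      change (g : G) ∈ inertia H hHn (θ : H → ℂ)
      rw [mem_inertia]
      have e1 : irrConj (H.subgroupOf T) (hHn.subgroupOf T) g (irrSub H T hHT θ)
          = irrSub H T hHT θ := Subtype.ext hg
      rw [irrConj_irrSub H hHn T hHT] at e1
      have e2 := (irrSub H T hHT).injective e1
      exact congrArg Subtype.val e2
    obtain ⟨ψ₀, hψ₀c, hψ₀ψ⟩ := exists_indFun_eq_of_stab (H.subgroupOf T) (hHn.subgroupOf T)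
      (S.subgroupOf T) hH'S' (irrSub H T hHT θ) hstab ψ hc
    have hirr : Cfsg.IsIrrCharacter T (Cfsg.indFun (S.subgroupOf T) (ψ₀ : S.subgroupOf T → ℂ)) := by
      rw [hψ₀ψ]; exact ψ.2
    have hdeg := charDegree_indFun (S.subgroupOf T) ψ₀ hirr
    rw [hψ₀ψ] at hdeg
    haveI : Fintype ((H.subgroupOf T).subgroupOf (S.subgroupOf T)) := Fintype.ofFinite _
    have hdvd₀ : Cfsg.charDegree (θ : H → ℂ) ∣ Cfsg.charDegree (ψ₀ : S.subgroupOf T → ℂ) := by
      have := charDegree_dvd_of_constituent ((H.subgroupOf T).subgroupOf (S.subgroupOf T))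
        ((hHn.subgroupOf T).subgroupOf (S.subgroupOf T)) ψ₀
        (irrSub (H.subgroupOf T) (S.subgroupOf T) hH'S' (irrSub H T hHT θ))
        (by rw [classInner_restrict_irrSub]; exact hψ₀c)
      rwa [charDegree_irrSub, charDegree_irrSub] at this
    have h8 : (Cfsg.charDegree (θ : H → ℂ)).factorization p
        ≤ (Cfsg.charDegree (ψ₀ : S.subgroupOf T → ℂ)).factorization p :=
      (Nat.factorization_le_iff_dvd (charDegree_ne_zero θ) (charDegree_ne_zero ψ₀)).mpr hdvd₀ p
    have h9 : (Cfsg.charDegree (ψ : T → ℂ)).factorization p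
        = (S.subgroupOf T).index.factorization p
          + (Cfsg.charDegree (ψ₀ : S.subgroupOf T → ℂ)).factorization p := by
      rw [hdeg, Nat.factorization_mul Subgroup.index_ne_zero_of_finite (charDegree_ne_zero ψ₀)]
      rfl
    have h10 : (S.subgroupOf T).index.factorization p = 0 := by omega
    intro hdvd
    have h11 : (S.subgroupOf T).index ≠ 0 := Subgroup.index_ne_zero_of_finite
    rcases (Nat.factorization_eq_zero_iff _ _).mp h10 with h12 | h12 | h12
    · exact h12 hpp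
    · exact h12 hdvd
    · exact h11 h12

end stabHeight

end Cfsg.Agent.Lib.Helper6
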