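import Mathlib
import Cfsg.Prelude.Def_Blocks
import Cfsg.Agent.Lib.Helper6.BlkVanish

set_option autoImplicit false
set_option linter.unusedSectionVars false
open Cfsg

namespace Cfsg.Agent.Lib.Helper6

section count

variable {H : Type*} [Group H] [Fintype H] [DecidableEq H]

/-- the number of elements of order `p` in a commutative subgroup containing one is prime to `p` -/
theorem not_dvd_card_orderOf_eq_prime {p : ℕ} [hp : Fact p.Prime] (A : Subgroup H)
    (hcomm : ∀ a ∈ A, ∀ b ∈ A, a * b = b * a) (hex : ∃ z ∈ A, orderOf z = p)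
    [DecidablePred (fun z : H => z ∈ A ∧ orderOf z = p)] :
    ¬ p ∣ (Finset.univ.filter (fun z : H => z ∈ A ∧ orderOf z = p)).card := by
  classical
  let Ω : Subgroup H :=
    { carrier := {z | z ∈ A ∧ z ^ p = 1}
      mul_mem' := by
        rintro a b ⟨ha, hap⟩ ⟨hb, hbp⟩
        refine ⟨A.mul_mem ha hb, ?_⟩
        have hc : Commute a b := hcomm a ha b hb
        rw [hc.mul_pow, hap, hbp, one_mul]
      one_mem' := ⟨A.one_mem, one_pow _⟩
      inv_mem' := by
        rintro a ⟨ha, hap⟩
        exact ⟨A.inv_mem ha, by rw [inv_pow, hap, inv_one]⟩ }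
  have hΩp : IsPGroup p Ω := by
    intro g
    refine ⟨1, ?_⟩
    rw [pow_one]
    ext
    simpa using g.2.2
  obtain ⟨r, hr⟩ := hΩp.exists_card_eq
  obtain ⟨z, hzA, hz⟩ := hex
  have hzΩ : z ∈ Ω := ⟨hzA, by rw [← hz]; exact pow_orderOf_eq_one z⟩
  have hz1 : z ≠ 1 := by
    intro h
    rw [h, orderOf_one] at hz
    exact hp.out.one_lt.ne hz
  have hr1 : r ≠ 0 := by
    intro h
    rw [h, pow_zero] at hr
    have := (Nat.card_eq_one_iff_unique.1 hr).1
    have h1 : (⟨z, hzΩ⟩ : Ω) = 1 := Subsingleton.elim _ _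
    exact hz1 (congrArg Subtype.val h1)
  have hcard : (Finset.univ.filter (fun z : H => z ∈ A ∧ orderOf z = p)).card + 1 = p ^ r := by
    rw [← hr, Nat.card_eq_fintype_card, ← Finset.card_univ (α := Ω)]
    have : (Finset.univ : Finset Ω).card = (Finset.univ.filter (fun z : H => z ∈ Ω)).card := by
      rw [← Finset.card_subtype]
      simp
    rw [this]
    have hsplit : Finset.univ.filter (fun z : H => z ∈ Ω)
        = insert 1 (Finset.univ.filter (fun z : H => z ∈ A ∧ orderOf z = p)) := by
      ext x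
      simp only [Finset.mem_filter, Finset.mem_univ, true_and, Finset.mem_insert]
      constructor
      · rintro ⟨hxA, hxp⟩
        by_cases hx1 : x = 1
        · left; exact hx1
        · right
          exact ⟨hxA, orderOf_eq_prime hxp hx1⟩
      · rintro (rfl | ⟨hxA, hxp⟩)
        · exact Ω.one_mem
        · exact ⟨hxA, by rw [← hxp]; exact pow_orderOf_eq_one x⟩
    rw [hsplit, Finset.card_insert_of_notMem]
    simp only [Finset.mem_filter, Finset.mem_univ, true_and, orderOf_one, not_and]
    intro _ h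
    exact hp.out.one_lt.ne h
  intro hdvd
  have h2 : p ∣ p ^ r := dvd_pow_self p hr1
  rw [← hcard] at h2
  have := (Nat.dvd_add_right hdvd).1 h2
  exact hp.out.one_lt.ne' (Nat.dvd_one.1 this)

end count

section lemmaA

variable {H : Type*} [Group H] [Fintype H] [DecidableEq H]
variable {p : ℕ} {M : Ideal Cfsg.AlgInt}

/-- indicator of the elements of order `p` -/
noncomputable def ordInd (H : Type*) [Group H] (p : ℕ) : H → ℂ :=
  fun h => if orderOf h = p then 1 else 0

theorem ordInd_isClassFunction : Cfsg.IsClassFunction H (ordInd H p) := by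
  intro g h
  unfold ordInd
  have : orderOf (h * g * h⁻¹) = orderOf g := by
    have := orderOf_injective (MulAut.conj h).toMonoidHom (MulAut.conj h).injective g
    simpa using this
  rw [this]

/-- Sum of the central character of a block with centrally embedded `Z(Q)` over elements of
order `p`: congruent to the number of central elements of order `p`. -/
theorem cOmega_ordInd_sub_card (hM : Cfsg.IsPModular p M) [hp : Fact p.Prime]
    (b : Set (Cfsg.IrrCharacter H)) (hb : Cfsg.IsPBlock M b) (Q : Subgroup H)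
    (hQ : Cfsg.IsDefectGroup p M b Q)
    (hZ : ∀ z ∈ Q, (∀ w ∈ Q, z * w = w * z) → ∀ h : H, z * h = h * z)
    (ξ : Cfsg.IrrCharacter H) (hξ : ξ ∈ b) :
    Cfsg.MemLocalIdeal M (cOmega (ξ : H → ℂ) (regMat (ordInd H p))
      - ((Finset.univ.filter (fun z : H => z ∈ Subgroup.center H ∧ orderOf z = p)).card : ℂ)) := by
  classical
  have : Fintype (ConjClasses H) := Fintype.ofFinite _
  have hξ1 := IsIrrCharacter.apply_one_ne_zero ξ.2
  set a₁ : H → ℂ := fun h => if (h ∈ Subgroup.center H ∧ orderOf h = p) then 1 else 0 with ha₁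
  set a₂ : H → ℂ := fun h => if (h ∉ Subgroup.center H ∧ orderOf h = p) then 1 else 0 with ha₂
  have hsum : ordInd H p = a₁ + a₂ := by
    funext h
    simp only [ordInd, ha₁, ha₂, Pi.add_apply]
    by_cases h1 : h ∈ Subgroup.center H <;> by_cases h2 : orderOf h = p <;> simp [h1, h2]
  have hconj : ∀ g h : H, orderOf (h * g * h⁻¹) = orderOf g := by
    intro g h
    have := orderOf_injective (MulAut.conj h).toMonoidHom (MulAut.conj h).injective g
    simpa using this
  have hcen : ∀ g h : H, h * g * h⁻¹ ∈ Subgroup.center H ↔ g ∈ Subgroup.center H := by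
    intro g h
    constructor
    · intro hh
      have := (Subgroup.center H).normal_of_characteristic.conj_mem _ hh h⁻¹
      simpa [mul_assoc] using this
    · intro hh
      exact (Subgroup.center H).normal_of_characteristic.conj_mem _ hh h
  have hcf2 : Cfsg.IsClassFunction H a₂ := by
    intro g h
    simp only [ha₂, hconj, hcen]
  rw [hsum, regMat_add, cOmega_add]
  have h1 : Cfsg.MemLocalIdeal M (cOmega (ξ : H → ℂ) (regMat a₁)
      - ((Finset.univ.filter (fun z : H => z ∈ Subgroup.center H ∧ orderOf z = p)).card : ℂ)) := by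
    rw [cOmega_regMat, Finset.sum_div]
    have e1 : ∑ g : H, a₁ g * (ξ : H → ℂ) g / (ξ : H → ℂ) 1
        = ∑ g ∈ Finset.univ.filter (fun z : H => z ∈ Subgroup.center H ∧ orderOf z = p),
            (ξ : H → ℂ) g / (ξ : H → ℂ) 1 := by
      rw [Finset.sum_filter]
      apply Finset.sum_congr rfl
      intro g _
      simp only [ha₁]
      split_ifs <;> simp
    rw [e1, Finset.card_eq_sum_ones, Nat.cast_sum, ← Finset.sum_sub_distrib]
    apply MemLocalIdeal.sum hM
    intro z hz
    simp only [Finset.mem_filter, Finset.mem_univ, true_and] at hz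
    have hzc : ∀ h : H, z * h = h * z := fun h => (Subgroup.mem_center_iff.1 hz.1 h).symm
    have := centralChar_sub_one_of_central hM ξ.2 hzc (k := 1)
      (by rw [pow_one, ← hz.2]; exact pow_orderOf_eq_one z)
    simpa using this
  have h2 : Cfsg.MemLocalIdeal M (cOmega (ξ : H → ℂ) (regMat a₂)) := by
    rw [cOmega_eq_sum_classes (IsIrrCharacter.isClassFunction ξ.2) (regMat_mem_centerAlg hcf2)]
    apply MemLocalIdeal.sum hM
    intro c _
    rw [regMat_apply, inv_one, mul_one]
    by_cases hc : (Quotient.out c ∉ Subgroup.center H ∧ orderOf (Quotient.out c) = p)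
    · simp only [ha₂, hc, not_false_eq_true, and_self, if_true, one_mul]
      by_contra hnot
      obtain ⟨x, hconjx, hxC, hxZ⟩ := Cfsg.Agent.S0929.result p M hM b hb Q hQ (Quotient.out c)
        ⟨ξ, hξ, hnot⟩
      obtain ⟨u, hu⟩ := isConj_iff.1 hconjx
      have hxo : orderOf x = p := by rw [← hu, hconj]; exact hc.2
      have hpp : Cfsg.IsPPart p x x :=
        ⟨1, mul_one x, Commute.one_right x, ⟨1, by rw [hxo, pow_one]⟩,
          by rw [orderOf_one]; exact hp.out.not_dvd_one⟩
      obtain ⟨hxQ, hxw⟩ := hxZ x hpp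
      have hxcen := hZ x hxQ hxw
      have hxc : x ∈ Subgroup.center H := Subgroup.mem_center_iff.2 (fun h => (hxcen h).symm)
      rw [← hu, hcen] at hxc
      exact hc.1 hxc
    · have : a₂ (Quotient.out c) = 0 := by
        simp only [ha₂]
        rw [if_neg hc]
      rw [this, zero_mul]
      exact memLocalIdeal_zero hM
  have : cOmega (ξ : H → ℂ) (regMat a₁) + cOmega (ξ : H → ℂ) (regMat a₂)
      - ((Finset.univ.filter (fun z : H => z ∈ Subgroup.center H ∧ orderOf z = p)).card : ℂ)
      = (cOmega (ξ : H → ℂ) (regMat a₁)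
      - ((Finset.univ.filter (fun z : H => z ∈ Subgroup.center H ∧ orderOf z = p)).card : ℂ))
        + cOmega (ξ : H → ℂ) (regMat a₂) := by ring
  rw [this]
  exact MemLocalIdeal.add hM h1 h2

end lemmaA

section lemmaB

variable {G : Type*} [Group G] [Fintype G] [DecidableEq G]
variable {p : ℕ} {M : Ideal Cfsg.AlgInt}

theorem false_of_vanish_order_p (hM : Cfsg.IsPModular p M) [hp : Fact p.Prime]
    (χ : Cfsg.IrrCharacter G) (hvan : ∀ g : G, orderOf g = p → (χ : G → ℂ) g = 0)
    (B : Set (Cfsg.IrrCharacter G)) (hχ : χ ∈ B) (L D : Subgroup G) (hDL : D ≤ L)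
    (b : Set (Cfsg.IrrCharacter L)) (hD : Cfsg.IsDefectGroup p M b (D.subgroupOf L))
    (hind : Cfsg.IsInducedBlock M L b B)
    (hcen : ∀ z ∈ D, (∀ w ∈ D, z * w = w * z) → ∀ h ∈ L, z * h = h * z)
    (hDp : IsPGroup p D) (hDne : D ≠ ⊥) : False := by
  classical
  obtain ⟨ξ₀, hb0⟩ := hind.1
  have hξ : ξ₀ ∈ b := by
    rw [hb0]
    exact sameBlock_refl hM _
  have hXc : regMat (ordInd G p) ∈ centerAlg G := regMat_mem_centerAlg ordInd_isClassFunction
  have hXs : regMat (ordInd G p) ∈ sMat hM G := by
    apply regMat_mem_sMat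
    intro g
    unfold ordInd
    split_ifs
    · exact memLocalRing_one hM
    · exact memLocalRing_zero hM
  have h1 := IsInducedBlock.cOmega_sub L hM hind ξ₀ hξ χ hχ hXc hXs
  have h0 : cOmega (χ : G → ℂ) (regMat (ordInd G p)) = 0 := by
    rw [cOmega_regMat]
    have : ∑ g : G, ordInd G p g * (χ : G → ℂ) g = 0 := by
      apply Finset.sum_eq_zero
      intro g _
      unfold ordInd
      split_ifs with h
      · rw [hvan g h, mul_zero]
      · rw [zero_mul]
    rw [this, zero_div]
  rw [h0, sub_zero, resMat_regMat] at h1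
  have hres : resFun L (ordInd G p) = ordInd L p := by
    funext h
    rw [resFun_apply]
    unfold ordInd
    rw [Subgroup.orderOf_coe]
  rw [hres] at h1
  have hZ : ∀ z ∈ D.subgroupOf L, (∀ w ∈ D.subgroupOf L, z * w = w * z) → ∀ h : L, z * h = h * z := by
    intro z hz hzw h
    have hzD : (z : G) ∈ D := Subgroup.mem_subgroupOf.1 hz
    have h2 : ∀ w ∈ D, (z : G) * w = w * (z : G) := by
      intro w hw
      have := hzw ⟨w, hDL hw⟩ (Subgroup.mem_subgroupOf.2 hw)
      exact congrArg Subtype.val this
    have := hcen z hzD h2 h h.2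
    exact Subtype.ext this
  have h3 := cOmega_ordInd_sub_card hM b hind.1 (D.subgroupOf L) hD hZ ξ₀ hξ
  have h4 : Cfsg.MemLocalIdeal M
      ((Finset.univ.filter (fun z : L => z ∈ Subgroup.center L ∧ orderOf z = p)).card : ℂ) := by
    have := MemLocalIdeal.sub hM h1 h3
    simpa using this
  rw [memLocalIdeal_natCast_iff hM] at h4
  refine not_dvd_card_orderOf_eq_prime (Subgroup.center L) ?_ ?_ h4
  · intro a ha b _
    exact (Subgroup.mem_center_iff.1 ha b).symm
  · have hnt : Nontrivial D := (Subgroup.nontrivial_iff_ne_bot D).2 hDne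
    have hcn : Nontrivial (Subgroup.center D) := hDp.center_nontrivial
    have hcp : IsPGroup p (Subgroup.center D) := hDp.to_subgroup _
    obtain ⟨n, hn⟩ := hcp.exists_card_eq
    have hn0 : n ≠ 0 := by
      intro h
      rw [h, pow_zero] at hn
      have := (Nat.card_eq_one_iff_unique.1 hn).1
      exact not_subsingleton _ this
    have hdvd : p ∣ Nat.card (Subgroup.center D) := by
      rw [hn]; exact dvd_pow_self p hn0
    obtain ⟨x, hx⟩ := exists_prime_orderOf_dvd_card' p hdvd
    have hxD : ((x : D) : G) ∈ D := (x : D).2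
    have hxw : ∀ w ∈ D, ((x : D) : G) * w = w * ((x : D) : G) := by
      intro w hw
      have := Subgroup.mem_center_iff.1 x.2 ⟨w, hw⟩
      exact (congrArg Subtype.val this).symm
    refine ⟨⟨((x : D) : G), hDL hxD⟩, ?_, ?_⟩
    · rw [Subgroup.mem_center_iff]
      intro h
      exact Subtype.ext (hcen _ hxD hxw h h.2).symm
    · rw [← Subgroup.orderOf_coe]
      change orderOf ((x : D) : G) = p
      rw [Subgroup.orderOf_coe, Subgroup.orderOf_coe]
      exact hx

end lemmaB

end Cfsg.Agent.Lib.Helper6
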