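import Mathlib
import Cfsg.Prelude.Def_Blocks
import Cfsg.Prelude.Def_BrauerPairs
import Cfsg.Agent.Lib.Helper6.BrFM2
import Cfsg.Agent.Lib.Helper6.BrIndIn
import Cfsg.Agent.Lib.Helper6.BrCyc

set_option autoImplicit false
set_option linter.unusedSectionVars false
open Cfsg

namespace Cfsg.Agent.Lib.Helper6

open scoped ComplexConjugate

section maxsteps

variable {G : Type*} [Group G] [Fintype G] [DecidableEq G]
variable {p : ℕ} [Fact p.Prime] {M : Ideal Cfsg.AlgInt}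

/-- a Brauer pair of `B` admitting no proper normal step is maximal -/
theorem isMaximalBrauerPair_of_steps (hM : Cfsg.IsPModular p M)
    (B : Set (Cfsg.IrrCharacter G)) (P : Subgroup G)
    (e : Set (Cfsg.IrrCharacter (Subgroup.centralizer (P : Set G))))
    (hPe : Cfsg.IsBrauerPairOf p M B P e)
    (hstep : ∀ (R : Subgroup G) (g : Set (Cfsg.IrrCharacter (Subgroup.centralizer (R : Set G)))),
      Cfsg.IsNormalSubpair p M P e R g → R = P) :
    Cfsg.IsMaximalBrauerPair p M B P e := by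
  refine ⟨hPe, ?_⟩
  intro R g hRg hle
  by_contra hne
  have hPR : P ≤ R := le_of_chain ⟨P, e⟩ ⟨R, g⟩ hle
  have hlt : P < R := lt_of_le_of_ne hPR (Ne.symm hne)
  obtain ⟨x, hxR, hxN, hxP⟩ := exists_mem_normalizer_not_mem hRg.1.1 hlt
  have hP1 : P ≤ R ⊓ Subgroup.normalizer (P : Set G) := le_inf hPR Subgroup.le_normalizer
  obtain ⟨g₁, hg₁, hle₁⟩ := exists_subpair hM hRg.1
    (inf_le_left : R ⊓ Subgroup.normalizer (P : Set G) ≤ R)
  have h2 : Cfsg.SubpairLE p M P e (R ⊓ Subgroup.normalizer (P : Set G)) g₁ :=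
    subpair_mono hM hRg.1 hle hle₁ hP1
  have h3 := isNormalSubpair_of_chain hM ⟨P, e⟩ ⟨R ⊓ Subgroup.normalizer (P : Set G), g₁⟩ h2
    hPe.1 inf_le_right
  have h4 := hstep _ _ h3
  apply hxP
  rw [← h4]
  exact ⟨hxR, hxN⟩

end maxsteps

section rel2rev

variable {G : Type*} [Group G] [Fintype G] [DecidableEq G]
variable {p : ℕ} [Fact p.Prime] {M : Ideal Cfsg.AlgInt}
variable (L : Subgroup G)

theorem mem_normalizer_of_coe_rel2 (H : Subgroup L) (R : Subgroup G)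
    (hHR : H.map L.subtype = R) (n : L)
    (hn : (n : G) ∈ Subgroup.normalizer (R : Set G)) :
    n ∈ Subgroup.normalizer ((H : Subgroup L) : Set L) := by
  rw [Subgroup.mem_normalizer_iff] at hn ⊢
  intro g
  rw [mem_iff_of_map_eq L H R hHR, mem_iff_of_map_eq L H R hHR]
  have := hn (g : G)
  simpa using this

/-- a normal inclusion of Brauer pairs of the ambient group between subgroups of `L` whose
centralizers lie in `L` is one in `L` -/
theorem isNormalSubpair_rel2_rev (H₁ H₂ : Subgroup L) (R₁ R₂ : Subgroup G)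
    (h1 : H₁.map L.subtype = R₁) (h2 : H₂.map L.subtype = R₂)
    (hC1 : Subgroup.centralizer (R₁ : Set G) ≤ L) (hC2 : Subgroup.centralizer (R₂ : Set G) ≤ L)
    (e₁ : Set (Cfsg.IrrCharacter (Subgroup.centralizer ((H₁ : Subgroup L) : Set L))))
    (e₂ : Set (Cfsg.IrrCharacter (Subgroup.centralizer ((H₂ : Subgroup L) : Set L))))
    (h : Cfsg.IsNormalSubpair p M R₁ (mapIrr (cE L H₁ R₁ h1 hC1) '' e₁)
      R₂ (mapIrr (cE L H₂ R₂ h2 hC2) '' e₂)) :
    Cfsg.IsNormalSubpair p M H₁ e₁ H₂ e₂ := by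
  obtain ⟨⟨hp1, hb1⟩, ⟨hp2, hb2⟩, hle, hnorm, hst, hom⟩ := h
  have hcen : ∀ x : L, x ∈ Subgroup.centralizer ((H₁ : Subgroup L) : Set L)
      ↔ (x : G) ∈ Subgroup.centralizer (R₁ : Set G) := by
    intro x
    constructor
    · intro hx
      exact coe_mem_centralizer_of_rel2 L H₁ R₁ h1 ⟨x, hx⟩
    · intro hx
      exact mem_centralizer_rel2_of_mem L H₁ R₁ h1 hC1 (x : G) hx
  refine ⟨⟨(isPGroup_rel2_iff L H₁ R₁ h1).mpr hp1, (isPBlock_rel2_iff L H₁ R₁ h1 hC1 e₁).mp hb1⟩,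
    ⟨(isPGroup_rel2_iff L H₂ R₂ h2).mpr hp2, (isPBlock_rel2_iff L H₂ R₂ h2 hC2 e₂).mp hb2⟩,
    ?_, ?_, ?_, ?_⟩
  · intro x hx
    rw [mem_iff_of_map_eq L H₂ R₂ h2]
    exact hle ((mem_iff_of_map_eq L H₁ R₁ h1 x).mp hx)
  · intro x hx
    apply mem_normalizer_of_coe_rel2 L H₁ R₁ h1
    exact hnorm ((mem_iff_of_map_eq L H₂ R₂ h2 x).mp hx)
  · intro x hx
    have hxR : (x : G) ∈ R₂ := (mem_iff_of_map_eq L H₂ R₂ h2 x).mp hx
    have h3 := stabilizesBlock_rel3_symm L H₁ R₁ hcen hC1 _ x (hst _ hxR)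
    have h4 : mapIrr (cE3 L H₁ R₁ hcen hC1).symm '' (mapIrr (cE L H₁ R₁ h1 hC1) '' e₁) = e₁ :=
      mapIrr_symm_image_image (cE L H₁ R₁ h1 hC1) e₁
    rw [h4] at h3
    exact h3
  · intro ξ hξ
    have := hom _ ⟨ξ, hξ, rfl⟩
    rw [brauerOmega_rel2' L H₂ R₂ h2 hC2, extendByZero_subgroupBlockCoeff_rel2 L H₁ R₁ h1 hC1]
    exact this

end rel2rev

end Cfsg.Agent.Lib.Helper6
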