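import Mathlib
import Cfsg.Prelude.Def_Blocks
import Cfsg.Prelude.Def_BrauerPairs
import Cfsg.Agent.Lib.Helper6.BrFM3
import Cfsg.Agent.Lib.Helper6.BrSat3

set_option autoImplicit false
set_option linter.unusedSectionVars false
open Cfsg

namespace Cfsg.Agent.Lib.Helper6

open scoped ComplexConjugate

section pairblock

variable {G : Type*} [Group G] [Fintype G] [DecidableEq G]
variable {p : ℕ} [Fact p.Prime] {M : Ideal Cfsg.AlgInt}

/-- every Brauer pair belongs to a block -/
theorem exists_block_of_pair (hM : Cfsg.IsPModular p M) (Q : Subgroup G) (hQ : IsPGroup p Q)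
    (e : Set (Cfsg.IrrCharacter (Subgroup.centralizer (Q : Set G)))) (he : Cfsg.IsPBlock M e) :
    ∃ B : Set (Cfsg.IrrCharacter G), Cfsg.IsBrauerPairOf p M B Q e := by
  classical
  have : Fintype (Subgroup.centralizer (Q : Set G)) := Fintype.ofFinite _
  obtain ⟨ξ₀, rfl⟩ := he
  obtain ⟨χ, hχ⟩ := inducedBlockDefined_centralizer hM Q hQ ξ₀
  exact ⟨_, (isBrauerPairOf_iff_isInducedBlock hM Q hQ _ _).mpr hχ⟩

/-- a Brauer pair belongs to only one block -/
theorem block_unique_of_pair (hM : Cfsg.IsPModular p M) (Q : Subgroup G)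
    (e : Set (Cfsg.IrrCharacter (Subgroup.centralizer (Q : Set G))))
    {B B' : Set (Cfsg.IrrCharacter G)} (h : Cfsg.IsBrauerPairOf p M B Q e)
    (h' : Cfsg.IsBrauerPairOf p M B' Q e) : B = B' := by
  classical
  have : Fintype (Subgroup.centralizer (Q : Set G)) := Fintype.ofFinite _
  have h1 := (isBrauerPairOf_iff_isInducedBlock hM Q h.1.1 e B).mp h
  have h2 := (isBrauerPairOf_iff_isInducedBlock hM Q h.1.1 e B').mp h'
  exact IsInducedBlock.unique _ hM h1 h2

end pairblock

section bridge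

variable {G : Type*} [Group G] [Fintype G] [DecidableEq G]
variable {p : ℕ} [Fact p.Prime] {M : Ideal Cfsg.AlgInt}
variable (P H : Subgroup G)

/-- maximality of a pair in the ambient group gives maximality of the corresponding pair of a
subgroup containing the centralizer -/
theorem isMaximalBrauerPair_sub_of_ambient (hM : Cfsg.IsPModular p M) (hPH : P ≤ H)
    (hCH : Subgroup.centralizer (P : Set G) ≤ H)
    (B : Set (Cfsg.IrrCharacter G)) (c : Set (Cfsg.IrrCharacter H))
    (e : Set (Cfsg.IrrCharacter (Subgroup.centralizer (P : Set G))))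
    (e' : Set (Cfsg.IrrCharacter (Subgroup.centralizer ((P.subgroupOf H : Subgroup H) : Set H))))
    (hrel : PairRel H ⟨P.subgroupOf H, e'⟩ ⟨P, e⟩)
    (hPe' : Cfsg.IsBrauerPairOf p M c (P.subgroupOf H) e')
    (hmax : Cfsg.IsMaximalBrauerPair p M B P e) :
    Cfsg.IsMaximalBrauerPair p M c (P.subgroupOf H) e' := by
  classical
  have : Fintype H := Fintype.ofFinite _
  have hHR : (P.subgroupOf H).map H.subtype = P := Subgroup.map_subgroupOf_eq_of_le hPH
  apply isMaximalBrauerPair_of_steps hM c _ e' hPe'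
  intro R' g' hstep
  have hle : P ≤ R'.map H.subtype := by
    rw [← hHR]
    exact Subgroup.map_mono hstep.2.2.1
  have hC2 : Subgroup.centralizer ((R'.map H.subtype : Subgroup G) : Set G) ≤ H :=
    (Subgroup.centralizer_le hle).trans hCH
  have h1 := isNormalSubpair_of_rel2 H (P.subgroupOf H) R' P (R'.map H.subtype) hHR rfl hCH hC2
    e' g' hstep
  obtain ⟨h1', hC', h2'⟩ := hrel
  simp only at h1' hC' h2'
  rw [← h2'] at h1
  have : Fintype (Subgroup.centralizer (P : Set G)) := Fintype.ofFinite _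
  have : Fintype (Subgroup.centralizer ((R'.map H.subtype : Subgroup G) : Set G)) :=
    Fintype.ofFinite _
  have h3 := (isBrauerPairOf_iff_of_isNormalSubpair (R'.map H.subtype) P hM _ e h1 B
    hmax.1.2.1).mpr hmax.1
  have h4 := hmax.2 _ _ h3 (Relation.ReflTransGen.single h1)
  apply Subgroup.map_injective (Subgroup.subtype_injective H)
  rw [h4, hHR]

/-- maximality of a pair of a subgroup containing the normalizer gives maximality of the
corresponding pair in the ambient group -/
theorem isMaximalBrauerPair_ambient_of_sub (hM : Cfsg.IsPModular p M) (hPH : P ≤ H)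
    (hNH : Subgroup.normalizer (P : Set G) ≤ H)
    (B : Set (Cfsg.IrrCharacter G)) (c : Set (Cfsg.IrrCharacter H))
    (e : Set (Cfsg.IrrCharacter (Subgroup.centralizer (P : Set G))))
    (e' : Set (Cfsg.IrrCharacter (Subgroup.centralizer ((P.subgroupOf H : Subgroup H) : Set H))))
    (hrel : PairRel H ⟨P.subgroupOf H, e'⟩ ⟨P, e⟩)
    (hPe : Cfsg.IsBrauerPairOf p M B P e)
    (hmax : Cfsg.IsMaximalBrauerPair p M c (P.subgroupOf H) e') :
    Cfsg.IsMaximalBrauerPair p M B P e := by
  classical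
  have : Fintype H := Fintype.ofFinite _
  have hCH : Subgroup.centralizer (P : Set G) ≤ H :=
    (Subgroup.centralizer_le_normalizer _).trans hNH
  have hHR : (P.subgroupOf H).map H.subtype = P := Subgroup.map_subgroupOf_eq_of_le hPH
  apply isMaximalBrauerPair_of_steps hM B P e hPe
  intro R g hstep
  have hRH : R ≤ H := hstep.2.2.2.1.trans hNH
  have h2 : (R.subgroupOf H).map H.subtype = R := Subgroup.map_subgroupOf_eq_of_le hRH
  have hC2 : Subgroup.centralizer (R : Set G) ≤ H :=
    (Subgroup.centralizer_le hstep.2.2.1).trans hCH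
  obtain ⟨h1', hC', h2'⟩ := hrel
  simp only at h1' hC' h2'
  have hg : mapIrr (cE H (R.subgroupOf H) R h2 hC2)
      '' (mapIrr (cE H (R.subgroupOf H) R h2 hC2).symm '' g) = g := by
    have := mapIrr_symm_image_image (cE H (R.subgroupOf H) R h2 hC2).symm g
    rw [MulEquiv.symm_symm] at this
    exact this
  have h1 : Cfsg.IsNormalSubpair p M (P.subgroupOf H) e' (R.subgroupOf H)
      (mapIrr (cE H (R.subgroupOf H) R h2 hC2).symm '' g) := by
    apply isNormalSubpair_rel2_rev H (P.subgroupOf H) (R.subgroupOf H) P R hHR h2 hCH hC2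
    rw [hg, ← h2']
    exact hstep
  have : Fintype (Subgroup.centralizer ((P.subgroupOf H : Subgroup H) : Set H)) :=
    Fintype.ofFinite _
  have : Fintype (Subgroup.centralizer ((R.subgroupOf H : Subgroup H) : Set H)) :=
    Fintype.ofFinite _
  have h3 := (isBrauerPairOf_iff_of_isNormalSubpair (R.subgroupOf H) (P.subgroupOf H) hM _ e' h1 c
    hmax.1.2.1).mpr hmax.1
  have h4 := hmax.2 _ _ h3 (Relation.ReflTransGen.single h1)
  rw [← h2, h4, hHR]

/-- blocks of `G` and of `H ≥ N_G(P)` with defect group `P` sharing a Brauer pair on `P` have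
congruent Brauer-map images -/
theorem congr_of_common_pair (hM : Cfsg.IsPModular p M) (hP : IsPGroup p P) (hPH : P ≤ H)
    (hNH : Subgroup.normalizer (P : Set G) ≤ H)
    (B : Set (Cfsg.IrrCharacter G)) (c : Set (Cfsg.IrrCharacter H))
    (e : Set (Cfsg.IrrCharacter (Subgroup.centralizer (P : Set G))))
    (e' : Set (Cfsg.IrrCharacter (Subgroup.centralizer ((P.subgroupOf H : Subgroup H) : Set H))))
    (hrel : PairRel H ⟨P.subgroupOf H, e'⟩ ⟨P, e⟩)
    (hPD : Cfsg.IsDefectGroup p M B P) (hPcD : Cfsg.IsDefectGroup p M c (P.subgroupOf H))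
    (hPe : Cfsg.IsBrauerPairOf p M B P e)
    (hPe' : Cfsg.IsBrauerPairOf p M c (P.subgroupOf H) e') :
    ∀ x : G, x ∈ Subgroup.centralizer (P : Set G) →
      Cfsg.MemLocalIdeal M (Cfsg.blockCoeff B x - Cfsg.subgroupBlockCoeff H c x) := by
  classical
  have : Fintype H := Fintype.ofFinite _
  have : Fintype (Subgroup.centralizer (P : Set G)) := Fintype.ofFinite _
  have : Fintype (Subgroup.centralizer ((P.subgroupOf H : Subgroup H) : Set H)) :=
    Fintype.ofFinite _
  have hCH : Subgroup.centralizer (P : Set G) ≤ H :=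
    (Subgroup.centralizer_le_normalizer _).trans hNH
  have hHR : (P.subgroupOf H).map H.subtype = P := Subgroup.map_subgroupOf_eq_of_le hPH
  have hB := hPe.2.1
  have hc := hPe'.2.1
  rw [brauer_congr_iff P H hM hP hPH hCH hB hc]
  intro e₂ he₂
  constructor
  · intro h
    have hPe₂ : Cfsg.IsBrauerPairOf p M B P e₂ := ⟨⟨hP, he₂⟩, hB, h⟩
    obtain ⟨n, hn, he₂eq⟩ := exists_normalizer_conj hM B P hPD e e₂ hPe hPe₂
    have hnH : (⟨n, hNH hn⟩ : H) ∈ Subgroup.normalizer ((P.subgroupOf H : Subgroup H) : Set H) :=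
      mem_normalizer_of_coe_rel2 H (P.subgroupOf H) P hHR ⟨n, hNH hn⟩ hn
    have hc1 : PairRel H (conjPair (⟨n, hNH hn⟩ : H) ⟨P.subgroupOf H, e'⟩) (conjPair n ⟨P, e⟩) :=
      PairRel.conj H hrel ⟨n, hNH hn⟩
    rw [conjPair_of_mem_normalizer (P.subgroupOf H) hnH e', conjPair_of_mem_normalizer P hn e,
      ← he₂eq] at hc1
    have h5 : Cfsg.IsBrauerPairOf p M c (conjPair (⟨n, hNH hn⟩ : H) ⟨P.subgroupOf H, e'⟩).1
        (conjPair (⟨n, hNH hn⟩ : H) ⟨P.subgroupOf H, e'⟩).2 :=
      isBrauerPairOf_conj c (P.subgroupOf H) ⟨n, hNH hn⟩ e' hPe'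
    rw [conjPair_of_mem_normalizer (P.subgroupOf H) hnH e'] at h5
    exact ((isBrauerPairOf_of_pairRel H _ _ hc1 c).mp h5).2.2.2
  · intro h
    have hrel₂ := PairRel.mk' H P hPH hCH e₂
    have hPe₂' := (isBrauerPairOf_of_pairRel H _ _ hrel₂ c).mpr ⟨hP, he₂, hc, h⟩
    simp only at hPe₂'
    obtain ⟨m, hm, he₂eq⟩ := exists_normalizer_conj hM c (P.subgroupOf H) hPcD e' _ hPe' hPe₂'
    have hmG : (m : G) ∈ Subgroup.normalizer (P : Set G) :=
      coe_mem_normalizer_of_rel2 H (P.subgroupOf H) P hHR m hm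
    have hc1 : PairRel H (conjPair m ⟨P.subgroupOf H, e'⟩) (conjPair (m : G) ⟨P, e⟩) :=
      PairRel.conj H hrel m
    rw [conjPair_of_mem_normalizer (P.subgroupOf H) hm e', conjPair_of_mem_normalizer P hmG e,
      ← he₂eq] at hc1
    have huniq := PairRel.unique H hrel₂ hc1
    have h5 : Cfsg.IsBrauerPairOf p M B (conjPair (m : G) ⟨P, e⟩).1 (conjPair (m : G) ⟨P, e⟩).2 :=
      isBrauerPairOf_conj B P (m : G) e hPe
    rw [conjPair_of_mem_normalizer P hmG e, ← huniq] at h5
    exact h5.2.2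

end bridge

end Cfsg.Agent.Lib.Helper6
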