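import Mathlib
import Cfsg.Prelude.Def_Blocks
import Cfsg.Prelude.Def_BrauerPairs
import Cfsg.Agent.Lib.Helper6.BrFM4
import Cfsg.Agent.Lib.Helper6.BrMax
import Cfsg.Agent.Lib.Helper6.BrFull
import Cfsg.Agent.Lib.Helper6.BlkMinMax2
import Cfsg.Agent.Lib.Helper6.BlkCenter
import Cfsg.Agent.S0912

set_option autoImplicit false
set_option linter.unusedSectionVars false
open Cfsg

namespace Cfsg.Agent.Lib.Helper6

open scoped ComplexConjugate

section grp

variable {G : Type*} [Group G]

/-- an element of `p`-power order of `T` lies in the normal subgroup `K` of `p'`-index -/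
theorem mem_of_orderOf_pow_of_not_dvd_relIndex [Finite G] {p : ℕ} [Fact p.Prime]
    (K T : Subgroup G) (hTN : T ≤ Subgroup.normalizer (K : Set G))
    (hidx : ¬ p ∣ K.relIndex T) (g : G) (hgT : g ∈ T) (hg : ∃ k : ℕ, orderOf g = p ^ k) :
    g ∈ K := by
  have hn : (K.subgroupOf T).Normal := Subgroup.normal_subgroupOf_of_le_normalizer hTN
  obtain ⟨k, hk⟩ := hg
  set gT : T := ⟨g, hgT⟩ with hgT_def
  have h1 : orderOf (QuotientGroup.mk gT : T ⧸ K.subgroupOf T) ∣ p ^ k := by
    have h2 : orderOf (QuotientGroup.mk gT : T ⧸ K.subgroupOf T) ∣ orderOf gT :=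
      orderOf_dvd_of_pow_eq_one (by
        rw [← QuotientGroup.mk_pow, pow_orderOf_eq_one]
        rfl)
    have h3 : orderOf gT = orderOf g := Subgroup.orderOf_mk g hgT
    rw [h3, hk] at h2
    exact h2
  have h4 : orderOf (QuotientGroup.mk gT : T ⧸ K.subgroupOf T) ∣ K.relIndex T := by
    have : K.relIndex T = Nat.card (T ⧸ K.subgroupOf T) := rfl
    rw [this]
    exact orderOf_dvd_natCard _
  obtain ⟨j, _, hj⟩ := (Nat.dvd_prime_pow (Fact.out : p.Prime)).mp h1
  have hj0 : j = 0 := by
    by_contra hne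
    apply hidx
    have : p ∣ orderOf (QuotientGroup.mk gT : T ⧸ K.subgroupOf T) := by
      rw [hj]
      exact dvd_pow_self p hne
    exact this.trans h4
  rw [hj0, pow_zero, orderOf_eq_one_iff, QuotientGroup.eq_one_iff] at hj
  rw [Subgroup.mem_subgroupOf] at hj
  exact hj

theorem map_conj_eq_of_le_center {Z : Subgroup G} (hZ : Z ≤ Subgroup.center G) (c : G) :
    Z.map (MulAut.conj c).toMonoidHom = Z := by
  ext y
  constructor
  · rintro ⟨z, hz, rfl⟩
    have h1 := Subgroup.mem_center_iff.mp (hZ hz) c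
    have : (MulAut.conj c).toMonoidHom z = z := by
      simp only [MulEquiv.coe_toMonoidHom, MulAut.conj_apply]
      rw [h1]
      group
    rw [this]
    exact hz
  · intro hy
    refine ⟨y, hy, ?_⟩
    have h1 := Subgroup.mem_center_iff.mp (hZ hy) c
    simp only [MulEquiv.coe_toMonoidHom, MulAut.conj_apply]
    rw [h1]
    group

end grp

section central

variable {K : Type*} [Group K] [Fintype K] [DecidableEq K]
variable {p : ℕ} [Fact p.Prime] {M : Ideal Cfsg.AlgInt}

/-- in a block with central defect group `Z`, every `p`-element centralizing an element at which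
the idempotent is a unit lies in `Z` -/
theorem mem_of_central_defectGroup (hM : Cfsg.IsPModular p M)
    (e : Set (Cfsg.IrrCharacter K)) (he : Cfsg.IsPBlock M e) (Z : Subgroup K)
    (hZc : Z ≤ Subgroup.center K) (hZ : Cfsg.IsDefectGroup p M e Z) (x : K)
    (hx : ¬ Cfsg.MemLocalIdeal M (Cfsg.blockCoeff e x)) (w : K) (hwx : w * x = x * w)
    (hw : ∃ j : ℕ, orderOf w = p ^ j) : w ∈ Z := by
  obtain ⟨ξ₀, rfl⟩ := he
  obtain ⟨y, hy, Qy, hQy⟩ := hZ
  obtain ⟨c, S, hS⟩ := (minmax hM ξ₀ y hy Qy x).1 (blockCoeff_memLocalRing hM ξ₀ x) hx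
  rw [← hQy, map_conj_eq_of_le_center hZc] at hS
  have hP : IsPGroup p (Subgroup.zpowers w) := by
    obtain ⟨j, hj⟩ := hw
    apply IsPGroup.of_card (n := j)
    rw [Nat.card_zpowers, hj]
  have hle : Subgroup.zpowers w ≤ Subgroup.centralizer ({x} : Set K) := by
    rw [Subgroup.zpowers_le, Subgroup.mem_centralizer_singleton_iff]
    exact hwx
  obtain ⟨S', hS'⟩ := exists_sylow_map_ge hP hle
  obtain ⟨d, _, hd⟩ := sylow_map_conj S S'
  have h1 : w ∈ (S' : Subgroup (Subgroup.centralizer ({x} : Set K))).map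
      (Subgroup.centralizer ({x} : Set K)).subtype := hS' (Subgroup.mem_zpowers w)
  rw [hd] at h1
  have h2 := Subgroup.map_mono (f := (MulAut.conj d).toMonoidHom) hS h1
  rw [map_conj_eq_of_le_center hZc] at h2
  exact h2

end central

section pairs

variable {G : Type*} [Group G] [Fintype G] [DecidableEq G]
variable {p : ℕ} [Fact p.Prime] {M : Ideal Cfsg.AlgInt}

/-- if `(Q, e)` admits no proper normal step then `Z(Q)` is a defect group of `e` -/
theorem isDefectGroup_center_of_steps (hM : Cfsg.IsPModular p M) (Q : Subgroup G)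
    (e : Set (Cfsg.IrrCharacter (Subgroup.centralizer (Q : Set G))))
    (hQe : Cfsg.IsBrauerPair p M Q e)
    (hstep : ∀ (R : Subgroup G) (g : Set (Cfsg.IrrCharacter (Subgroup.centralizer (R : Set G)))),
      Cfsg.IsNormalSubpair p M Q e R g → R = Q) :
    Cfsg.IsDefectGroup p M e
      ((Q ⊓ Subgroup.centralizer (Q : Set G)).subgroupOf (Subgroup.centralizer (Q : Set G))) := by
  classical
  have : Fintype (Subgroup.centralizer (Q : Set G)) := Fintype.ofFinite _
  obtain ⟨ξ₀, heξ⟩ := hQe.2
  obtain ⟨y, hy⟩ := exists_isDefectClass hM ξ₀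
  have Qy : Sylow p (Subgroup.centralizer ({y} : Set (Subgroup.centralizer (Q : Set G)))) := default
  have hD : Cfsg.IsDefectGroup p M e ((Qy : Subgroup _).map (Subgroup.centralizer
      ({y} : Set (Subgroup.centralizer (Q : Set G)))).subtype) := by
    rw [heξ]
    exact ⟨y, hy, Qy, rfl⟩
  set De := (Qy : Subgroup _).map (Subgroup.centralizer
      ({y} : Set (Subgroup.centralizer (Q : Set G)))).subtype with hDe
  have hDep : IsPGroup p De := sylow_map_isPGroup Qy
  -- `Z(Q)` is a normal `p`-subgroup of the centralizer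
  have hZp : IsPGroup p ((Q ⊓ Subgroup.centralizer (Q : Set G)).subgroupOf
      (Subgroup.centralizer (Q : Set G))) := by
    rw [← Subgroup.comap_subtype]
    exact (hQe.1.to_le inf_le_left).comap_subtype
  have hZn : ((Q ⊓ Subgroup.centralizer (Q : Set G)).subgroupOf
      (Subgroup.centralizer (Q : Set G))).Normal := by
    constructor
    intro z hz c
    rw [Subgroup.mem_subgroupOf] at hz ⊢
    have h1 := Subgroup.mem_centralizer_iff.mp c.2 (z : G) hz.1
    have h2 : ((c * z * c⁻¹ : Subgroup.centralizer (Q : Set G)) : G) = (z : G) := by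
      simp only [Subgroup.coe_mul, Subgroup.coe_inv]
      rw [← h1]
      group
    rw [h2]
    exact hz
  have hZle : (Q ⊓ Subgroup.centralizer (Q : Set G)).subgroupOf
      (Subgroup.centralizer (Q : Set G)) ≤ De := by
    have h1 : (Q ⊓ Subgroup.centralizer (Q : Set G)).subgroupOf
        (Subgroup.centralizer (Q : Set G)) ≤ Cfsg.pCore p _ := le_sSup ⟨hZn, hZp⟩
    exact h1.trans (Cfsg.Agent.S0912.result p M hM e hQe.2 De hD)
  -- the step
  have hDeG : IsPGroup p (De.map (Subgroup.centralizer (Q : Set G)).subtype) := hDep.map _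
  have hDeC : De.map (Subgroup.centralizer (Q : Set G)).subtype
      ≤ Subgroup.centralizer (Q : Set G) := Subgroup.map_subtype_le De
  have hDN : Q ⊔ De.map (Subgroup.centralizer (Q : Set G)).subtype
      ≤ Subgroup.normalizer (Q : Set G) :=
    sup_le Subgroup.le_normalizer (hDeC.trans (Subgroup.centralizer_le_normalizer _))
  have hDp : IsPGroup p (Q ⊔ De.map (Subgroup.centralizer (Q : Set G)).subtype : Subgroup G) := by
    rw [sup_comm]
    exact IsPGroup.to_sup_of_normal_right' hDeG hQe.1
      (hDeC.trans (Subgroup.centralizer_le_normalizer _))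
  have hst : ∀ x ∈ (Q ⊔ De.map (Subgroup.centralizer (Q : Set G)).subtype : Subgroup G),
      Cfsg.StabilizesBlock (Subgroup.centralizer (Q : Set G)) e x := by
    intro x hx
    rw [← mem_stabSub_iff]
    have h1 : Q ≤ stabSub (Subgroup.centralizer (Q : Set G)) e := by
      refine le_trans ?_ (centralizer_le_stabSub _ e)
      exact le_centralizer_centralizer Q
    have h2 : De.map (Subgroup.centralizer (Q : Set G)).subtype
        ≤ stabSub (Subgroup.centralizer (Q : Set G)) e := hDeC.trans (le_stabSub _ e)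
    exact (sup_le h1 h2) hx
  have hyC : ((y : Subgroup.centralizer (Q : Set G)) : G) ∈ Subgroup.centralizer
      ((Q ⊔ De.map (Subgroup.centralizer (Q : Set G)).subtype : Subgroup G) : Set G) := by
    have h1 : Q ⊔ De.map (Subgroup.centralizer (Q : Set G)).subtype
        ≤ Subgroup.centralizer ({((y : Subgroup.centralizer (Q : Set G)) : G)} : Set G) := by
      apply sup_le
      · intro q hq
        rw [Subgroup.mem_centralizer_singleton_iff]
        exact Subgroup.mem_centralizer_iff.mp y.2 q hq
      · rintro _ ⟨d, hd, rfl⟩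
        rw [Subgroup.mem_centralizer_singleton_iff]
        have h2 := sylow_map_le Qy hd
        rw [Subgroup.mem_centralizer_singleton_iff] at h2
        have := congrArg Subtype.val h2
        simpa using this
    rw [Subgroup.mem_centralizer_iff]
    intro d hd
    have := h1 hd
    rw [Subgroup.mem_centralizer_singleton_iff] at this
    exact this
  have : Fintype (Subgroup.centralizer
      ((Q ⊔ De.map (Subgroup.centralizer (Q : Set G)).subtype : Subgroup G) : Set G)) :=
    Fintype.ofFinite _
  have hne : ¬ Cfsg.MemLocalIdeal M (Cfsg.blockCoeff e ⟨(y : G), y.2⟩) := by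
    rw [heξ]
    exact hy.2.1
  obtain ⟨g, hg⟩ := exists_isNormalSubpair_of_blockCoeff hM Q
    (Q ⊔ De.map (Subgroup.centralizer (Q : Set G)).subtype) hDp le_sup_left hDN e hQe hst
    (y : G) hyC y.2 hne
  have hRQ := hstep _ _ hg
  have hDeQ : De.map (Subgroup.centralizer (Q : Set G)).subtype ≤ Q :=
    le_sup_right.trans hRQ.le
  have hDeZ : De ≤ (Q ⊓ Subgroup.centralizer (Q : Set G)).subgroupOf
      (Subgroup.centralizer (Q : Set G)) := by
    intro d hd
    rw [Subgroup.mem_subgroupOf]
    exact ⟨hDeQ ⟨d, hd, rfl⟩, d.2⟩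
  have : De = (Q ⊓ Subgroup.centralizer (Q : Set G)).subgroupOf
      (Subgroup.centralizer (Q : Set G)) := le_antisymm hDeZ hZle
  rw [← this]
  exact hD

end pairs

end Cfsg.Agent.Lib.Helper6
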