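import Mathlib
import Cfsg.Prelude.Def_Blocks
import Cfsg.Prelude.Def_BlockRank

/-!
# p-modular systems inside ℂ (valuation subrings dominating the algebraic integers at `M`)
-/

set_option autoImplicit false

namespace Cfsg.Agent.Lib.Helper6.BrMod

/-- A `p`-modular system inside `ℂ`: a valuation subring of `ℂ` containing all algebraic
integers, in whose maximal ideal the prime `p` lies. -/
structure ModSys (p : ℕ) where
  O : ValuationSubring ℂ
  int_mem : ∀ z : ℂ, IsIntegral ℤ z → z ∈ O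
  p_mem : (p : ℂ) ∈ O.nonunits

namespace ModSys

variable {p : ℕ} (S : ModSys p)

/-- The residue field of the modular system. -/
abbrev k : Type := IsLocalRing.ResidueField S.O

/-- The residue map on the valuation ring. -/
noncomputable abbrev res : S.O →+* S.k := IsLocalRing.residue S.O

/-- Reduction of a complex number (junk value `0` outside the valuation ring). -/
noncomputable def red (z : ℂ) : S.k := by
  classical exact if h : z ∈ S.O then S.res ⟨z, h⟩ else 0

theorem red_of_mem {z : ℂ} (h : z ∈ S.O) : S.red z = S.res ⟨z, h⟩ := by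
  classical
  simp [red, h]

theorem red_zero : S.red 0 = 0 := by
  rw [S.red_of_mem S.O.zero_mem]
  exact map_zero _

theorem red_one : S.red 1 = 1 := by
  rw [S.red_of_mem S.O.one_mem]
  exact map_one _

theorem red_add {z w : ℂ} (hz : z ∈ S.O) (hw : w ∈ S.O) : S.red (z + w) = S.red z + S.red w := by
  rw [S.red_of_mem (S.O.add_mem _ _ hz hw), S.red_of_mem hz, S.red_of_mem hw, ← map_add]
  rfl

theorem red_mul {z w : ℂ} (hz : z ∈ S.O) (hw : w ∈ S.O) : S.red (z * w) = S.red z * S.red w := by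
  rw [S.red_of_mem (S.O.mul_mem _ _ hz hw), S.red_of_mem hz, S.red_of_mem hw, ← map_mul]
  rfl

theorem red_neg {z : ℂ} (hz : z ∈ S.O) : S.red (-z) = - S.red z := by
  rw [S.red_of_mem (S.O.neg_mem _ hz), S.red_of_mem hz, ← map_neg]
  rfl

theorem red_sub {z w : ℂ} (hz : z ∈ S.O) (hw : w ∈ S.O) : S.red (z - w) = S.red z - S.red w := by
  rw [sub_eq_add_neg, S.red_add hz (S.O.neg_mem _ hw), S.red_neg hw, sub_eq_add_neg]

theorem red_pow {z : ℂ} (hz : z ∈ S.O) (n : ℕ) : S.red (z ^ n) = S.red z ^ n := by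
  rw [S.red_of_mem (S.O.pow_mem hz n), S.red_of_mem hz, ← map_pow]
  rfl

theorem sum_mem {ι : Type*} (s : Finset ι) (f : ι → ℂ) (hf : ∀ i ∈ s, f i ∈ S.O) :
    ∑ i ∈ s, f i ∈ S.O := by
  classical
  induction s using Finset.induction_on with
  | empty => simpa using S.O.zero_mem
  | insert a s ha ih =>
    rw [Finset.sum_insert ha]
    exact S.O.add_mem _ _ (hf a (Finset.mem_insert_self a s))
      (ih fun i hi => hf i (Finset.mem_insert_of_mem hi))

theorem red_sum {ι : Type*} (s : Finset ι) (f : ι → ℂ) (hf : ∀ i ∈ s, f i ∈ S.O) :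
    S.red (∑ i ∈ s, f i) = ∑ i ∈ s, S.red (f i) := by
  classical
  induction s using Finset.induction_on with
  | empty => simpa using S.red_zero
  | insert a s ha ih =>
    rw [Finset.sum_insert ha, Finset.sum_insert ha,
      S.red_add (hf a (Finset.mem_insert_self a s))
        (S.sum_mem s f fun i hi => hf i (Finset.mem_insert_of_mem hi)),
      ih fun i hi => hf i (Finset.mem_insert_of_mem hi)]

theorem red_eq_zero_iff {z : ℂ} (hz : z ∈ S.O) : S.red z = 0 ↔ z ∈ S.O.nonunits := by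
  rw [S.red_of_mem hz, IsLocalRing.residue_eq_zero_iff]
  exact (ValuationSubring.coe_mem_nonunits_iff (A := S.O) (a := ⟨z, hz⟩)).symm

theorem red_eq_iff {z w : ℂ} (hz : z ∈ S.O) (hw : w ∈ S.O) :
    S.red z = S.red w ↔ z - w ∈ S.O.nonunits := by
  rw [← S.red_eq_zero_iff (sub_mem hz hw), S.red_sub hz hw, sub_eq_zero]

theorem natCast_mem (n : ℕ) : (n : ℂ) ∈ S.O := _root_.natCast_mem S.O n

theorem intCast_mem (n : ℤ) : (n : ℂ) ∈ S.O := _root_.intCast_mem S.O n

theorem red_natCast (n : ℕ) : S.red (n : ℂ) = (n : S.k) := by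
  rw [S.red_of_mem (S.natCast_mem n)]
  have : (⟨(n : ℂ), S.natCast_mem n⟩ : S.O) = (n : S.O) := by
    ext; simp
  rw [this, map_natCast]

theorem red_intCast (n : ℤ) : S.red (n : ℂ) = (n : S.k) := by
  rw [S.red_of_mem (S.intCast_mem n)]
  have : (⟨(n : ℂ), S.intCast_mem n⟩ : S.O) = (n : S.O) := by
    ext; simp
  rw [this, map_intCast]

theorem p_eq_zero : (p : S.k) = 0 := by
  rw [← S.red_natCast, S.red_eq_zero_iff (S.natCast_mem p)]
  exact S.p_mem

/-- Roots of unity lie in the valuation ring. -/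
theorem mem_of_pow_eq_one {z : ℂ} {n : ℕ} (hn : 0 < n) (h : z ^ n = 1) : z ∈ S.O := by
  apply S.int_mem
  refine ⟨Polynomial.X ^ n - 1, Polynomial.monic_X_pow_sub_C 1 hn.ne', ?_⟩
  simp [h]

end ModSys

/-- Existence of a modular system attached to a modular maximal ideal `M`, whose maximal ideal
meets the algebraic integers exactly in `M`. -/
theorem exists_modSys {p : ℕ} {M : Ideal Cfsg.AlgInt} (hM : Cfsg.IsPModular p M) :
    ∃ S : ModSys p, ∀ a : Cfsg.AlgInt, a ∈ M ↔ (a : ℂ) ∈ S.O.nonunits := by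
  obtain ⟨hp, hmax, hpM⟩ := hM
  let A : Subring ℂ := Cfsg.AlgInt.toSubring
  let e : A →+* Cfsg.AlgInt :=
    { toFun := fun x => ⟨x.1, x.2⟩
      map_one' := rfl
      map_mul' := fun _ _ => rfl
      map_zero' := rfl
      map_add' := fun _ _ => rfl }
  let I : Ideal A := M.comap e
  have hI : I ≠ ⊤ := by
    intro h
    have h1 : (1 : A) ∈ I := by rw [h]; trivial
    have h2 : (1 : Cfsg.AlgInt) ∈ M := by
      have : e 1 ∈ M := h1
      simpa using this
    exact hmax.ne_top ((Ideal.eq_top_iff_one M).mpr h2)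
  obtain ⟨B, hAB, hIB⟩ := Ideal.image_subset_nonunits_valuationSubring I hI
  have hfwd : ∀ a : Cfsg.AlgInt, a ∈ M → (a : ℂ) ∈ B.nonunits := by
    intro a ha
    apply hIB
    refine ⟨⟨a.1, a.2⟩, ?_, rfl⟩
    show e ⟨a.1, a.2⟩ ∈ M
    exact ha
  have hmem : ∀ a : Cfsg.AlgInt, (a : ℂ) ∈ B := fun a => hAB a.2
  refine ⟨⟨B, fun z hz => hAB (show z ∈ A from hz), ?_⟩, ?_⟩
  · have := hfwd (p : Cfsg.AlgInt) hpM
    simpa using this
  · intro a
    refine ⟨hfwd a, fun ha => ?_⟩
    by_contra haM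
    obtain ⟨b, m, hm, hab⟩ := hmax.exists_inv haM
    have h1 : ((a : ℂ) * (b : ℂ)) ∈ B.nonunits := by
      rw [ValuationSubring.mem_nonunits_iff] at ha ⊢
      rw [map_mul]
      have hb : B.valuation (b : ℂ) ≤ 1 := (B.valuation_le_one_iff _).mpr (hmem b)
      calc B.valuation (a : ℂ) * B.valuation (b : ℂ) ≤ B.valuation (a : ℂ) * 1 :=
            mul_le_mul_right hb _
        _ < 1 := by rwa [mul_one]
    have h2 : (m : ℂ) ∈ B.nonunits := hfwd m hm
    have h3 : ((a : ℂ) * (b : ℂ) + (m : ℂ)) ∈ B.nonunits := B.nonunits.add_mem h1 h2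
    have h4 : ((a : ℂ) * (b : ℂ) + (m : ℂ)) = 1 := by
      have := congrArg (fun x : Cfsg.AlgInt => (x : ℂ)) hab
      simpa [mul_comm] using this
    rw [h4, ValuationSubring.mem_nonunits_iff, map_one] at h3
    exact lt_irrefl _ h3

end Cfsg.Agent.Lib.Helper6.BrMod
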