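import Mathlib
import Cfsg.Agent.Lib.Helper6.BrMod0

/-!
# The residue field of a modular system: characteristic, algebraic closedness, lifting of
roots of unity (Teichmüller lift)
-/

set_option autoImplicit false

namespace Cfsg.Agent.Lib.Helper6.BrMod

open Polynomial

namespace ModSys

variable {p : ℕ} (S : ModSys p)

instance charP_k [hp : Fact p.Prime] : CharP S.k p := by
  have h := CharP.ringChar_of_prime_eq_zero hp.out S.p_eq_zero
  exact ringChar.of_eq h

theorem natCast_ne_zero [Fact p.Prime] {n : ℕ} (hn : ¬ p ∣ n) : (n : S.k) ≠ 0 := by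
  intro h
  exact hn ((CharP.cast_eq_zero_iff S.k p n).mp h)

theorem res_surjective : Function.Surjective S.res := IsLocalRing.residue_surjective

theorem red_surjective (x : S.k) : ∃ z : ℂ, z ∈ S.O ∧ S.red z = x := by
  obtain ⟨y, hy⟩ := S.res_surjective x
  exact ⟨y.1, y.2, by rw [S.red_of_mem y.2]; exact hy⟩

instance isAlgClosed_k : IsAlgClosed S.k := by
  apply IsAlgClosed.of_exists_root
  intro f hf hirr
  obtain ⟨F, hF, hFdeg, hFmon⟩ :=
    Polynomial.lifts_and_natDegree_eq_and_monic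
      ((Polynomial.mem_lifts f).mpr (Polynomial.map_surjective S.res S.res_surjective f)) hf
  have hdeg : (F.map (algebraMap S.O ℂ)).degree ≠ 0 := by
    rw [Polynomial.degree_map_eq_of_injective (FaithfulSMul.algebraMap_injective S.O ℂ)]
    intro h0
    have h1 : F.natDegree = 0 := Polynomial.natDegree_eq_zero_iff_degree_le_zero.mpr h0.le
    rw [hFdeg] at h1
    have : f.degree = 0 := by
      rw [Polynomial.degree_eq_natDegree hf.ne_zero, h1]; rfl
    exact (Polynomial.degree_pos_of_irreducible hirr).ne' this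
  obtain ⟨z, hz⟩ := IsAlgClosed.exists_root (F.map (algebraMap S.O ℂ)) hdeg
  have hint : IsIntegral S.O z := by
    refine ⟨F, hFmon, ?_⟩
    rw [Polynomial.IsRoot, Polynomial.eval_map] at hz
    exact hz
  obtain ⟨y, hy⟩ := IsIntegrallyClosed.algebraMap_eq_of_integral (R := S.O) (K := ℂ) hint
  refine ⟨S.res y, ?_⟩
  rw [← hF, Polynomial.eval_map, Polynomial.eval₂_hom]
  have : F.eval y = 0 := by
    apply FaithfulSMul.algebraMap_injective S.O ℂ
    rw [map_zero, ← Polynomial.eval₂_hom, ← Polynomial.eval_map, hy]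
    exact hz
  rw [this, map_zero]

/-- Two roots of unity of orders prime to `p` with the same reduction are equal. -/
theorem root_unique [Fact p.Prime] {z w : ℂ} {m n : ℕ} (hm : 0 < m) (hn : 0 < n)
    (hpm : ¬ p ∣ m) (hpn : ¬ p ∣ n) (hz : z ^ m = 1) (hw : w ^ n = 1)
    (h : S.red z = S.red w) : z = w := by
  by_contra hne
  have hw0 : w ≠ 0 := by
    intro h0; rw [h0, zero_pow hn.ne'] at hw; exact zero_ne_one hw
  set x : ℂ := z * w⁻¹ with hx
  have hwinv : w⁻¹ ^ n = 1 := by rw [inv_pow, hw, inv_one]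
  have hxN : x ^ (m * n) = 1 := by
    rw [hx, mul_pow, pow_mul, hz, one_pow, mul_comm m n, pow_mul, hwinv, one_pow, one_mul]
  have hx1 : x ≠ 1 := by
    intro h1
    apply hne
    have : z = x * w := by rw [hx, mul_assoc, inv_mul_cancel₀ hw0, mul_one]
    rw [this, h1, one_mul]
  have hN : 0 < m * n := Nat.mul_pos hm hn
  have hzO : z ∈ S.O := S.mem_of_pow_eq_one hm hz
  have hwO : w ∈ S.O := S.mem_of_pow_eq_one hn hw
  have hwiO : w⁻¹ ∈ S.O := S.mem_of_pow_eq_one hn hwinv
  have hxO : x ∈ S.O := S.O.mul_mem _ _ hzO hwiO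
  have hredx : S.red x = 1 := by
    rw [hx, S.red_mul hzO hwiO, h, ← S.red_mul hwO hwiO, mul_inv_cancel₀ hw0, S.red_one]
  have hgeom : ∑ i ∈ Finset.range (m * n), x ^ i = 0 := by
    have := mul_geom_sum x (m * n)
    rw [hxN, sub_self] at this
    rcases mul_eq_zero.mp this with h' | h'
    · exact absurd (sub_eq_zero.mp h') hx1
    · exact h'
  have hred : S.red (∑ i ∈ Finset.range (m * n), x ^ i) = ((m * n : ℕ) : S.k) := by
    rw [S.red_sum _ _ (fun i _ => S.O.pow_mem hxO i)]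
    simp [S.red_pow hxO, hredx]
  rw [hgeom, S.red_zero] at hred
  have hp := (Fact.out : p.Prime)
  exact S.natCast_ne_zero (fun hd => (hp.dvd_mul.mp hd).elim hpm hpn) hred.symm

/-- Every `m`-th root of unity of the residue field is the reduction of a complex `m`-th root of
unity. -/
theorem exists_root_lift {x : S.k} {m : ℕ} (hm : 0 < m) (hx : x ^ m = 1) :
    ∃ z : ℂ, z ^ m = 1 ∧ S.red z = x := by
  classical
  have hmem : ∀ z ∈ nthRootsFinset m (1 : ℂ), z ∈ S.O := fun z hz =>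
    S.mem_of_pow_eq_one hm ((mem_nthRootsFinset hm 1).mp hz)
  let Q : S.O[X] := ∏ z ∈ (nthRootsFinset m (1 : ℂ)).attach, (X - C (⟨z.1, hmem z.1 z.2⟩ : S.O))
  have hQ : Q.map (algebraMap S.O ℂ) = X ^ m - 1 := by
    rw [Polynomial.X_pow_sub_one_eq_prod hm (Complex.isPrimitiveRoot_exp m hm.ne')]
    rw [Polynomial.map_prod]
    rw [← Finset.prod_attach (nthRootsFinset m (1 : ℂ))]
    refine Finset.prod_congr rfl fun z _ => ?_
    simp
  have hQ' : Q = X ^ m - 1 := by
    apply Polynomial.map_injective (algebraMap S.O ℂ) (FaithfulSMul.algebraMap_injective S.O ℂ)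
    rw [hQ]; simp
  have hk : (Q.map S.res).eval x = 0 := by
    rw [hQ']; simp [hx]
  rw [Polynomial.map_prod, Polynomial.eval_prod, Finset.prod_eq_zero_iff] at hk
  obtain ⟨z, _, hz⟩ := hk
  refine ⟨z.1, (mem_nthRootsFinset hm 1).mp z.2, ?_⟩
  rw [S.red_of_mem (hmem z.1 z.2)]
  simp at hz
  exact (sub_eq_zero.mp hz).symm

/-- The Teichmüller lift: the unique complex root of unity of order prime to `p` with given
reduction (junk value `0` if there is none). -/
noncomputable def teich (x : S.k) : ℂ := by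
  classical exact
    if h : ∃ z : ℂ, (∃ m : ℕ, 0 < m ∧ ¬ p ∣ m ∧ z ^ m = 1) ∧ S.red z = x then h.choose else 0

theorem teich_red [Fact p.Prime] {z : ℂ} {m : ℕ} (hm : 0 < m) (hpm : ¬ p ∣ m) (hz : z ^ m = 1) :
    S.teich (S.red z) = z := by
  classical
  have h : ∃ w : ℂ, (∃ m : ℕ, 0 < m ∧ ¬ p ∣ m ∧ w ^ m = 1) ∧ S.red w = S.red z :=
    ⟨z, ⟨m, hm, hpm, hz⟩, rfl⟩
  rw [teich, dif_pos h]
  obtain ⟨⟨n, hn, hpn, hw⟩, hred⟩ := h.choose_spec
  exact S.root_unique hn hm hpn hpm hw hz hred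

theorem teich_spec [Fact p.Prime] {x : S.k} {m : ℕ} (hm : 0 < m) (hpm : ¬ p ∣ m)
    (hx : x ^ m = 1) : S.teich x ^ m = 1 ∧ S.red (S.teich x) = x := by
  obtain ⟨z, hz, hzx⟩ := S.exists_root_lift hm hx
  rw [← hzx, S.teich_red hm hpm hz]
  exact ⟨hz, rfl⟩

theorem teich_one [Fact p.Prime] : S.teich 1 = 1 := by
  have := S.teich_red (z := 1) (m := 1) one_pos
    (fun h => (Fact.out : p.Prime).one_lt.ne' (Nat.dvd_one.mp h)) (one_pow 1)
  rwa [S.red_one] at this

theorem teich_mem [Fact p.Prime] {x : S.k} {m : ℕ} (hm : 0 < m) (hpm : ¬ p ∣ m)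
    (hx : x ^ m = 1) : S.teich x ∈ S.O :=
  S.mem_of_pow_eq_one hm (S.teich_spec hm hpm hx).1

end ModSys

end Cfsg.Agent.Lib.Helper6.BrMod
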