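import Mathlib
import Cfsg.Agent.Lib.Helper6.BrMod1

/-!
# Brauer characters of endomorphisms and of modular representations
-/

set_option autoImplicit false

namespace Cfsg.Agent.Lib.Helper6.BrMod

open Polynomial Module

/-- Multiplicativity of the characteristic polynomial along an invariant subspace. -/
theorem charpoly_eq_restrict_mul_mapQ {K V : Type*} [Field K] [AddCommGroup V] [Module K V]
    [Module.Finite K V] (W : Submodule K V) (e : V →ₗ[K] V) (he : W ≤ W.comap e) :
    e.charpoly = (e.restrict he).charpoly * (W.mapQ W e he).charpoly := by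
  classical
  let m := Module.Free.ChooseBasisIndex K W
  let bW : Basis m K W := Module.Free.chooseBasis K W
  let n := Module.Free.ChooseBasisIndex K (V ⧸ W)
  let bQ : Basis n K (V ⧸ W) := Module.Free.chooseBasis K (V ⧸ W)
  let b := Module.Basis.sumQuot bW bQ
  let A : Matrix m m K := LinearMap.toMatrix bW bW (e.restrict he)
  let B : Matrix m n K := Matrix.of fun i l ↦
    ((Module.Basis.sumQuot bW bQ).repr (e ((Module.Basis.sumQuot bW bQ) (Sum.inr l)))) (Sum.inl i)
  let D : Matrix n n K := LinearMap.toMatrix bQ bQ (W.mapQ W e he)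
  suffices LinearMap.toMatrix b b e = Matrix.fromBlocks A B 0 D by
    rw [← LinearMap.charpoly_toMatrix e b, this, ← LinearMap.charpoly_toMatrix (e.restrict he) bW,
      ← LinearMap.charpoly_toMatrix (W.mapQ W e he) bQ, Matrix.charpoly_fromBlocks_zero₂₁]
  ext u v
  cases u with
  | inl i =>
    cases v with
    | inl k =>
      simp only [b, Module.Basis.sumQuot_inl, Matrix.fromBlocks_apply₁₁, A,
        LinearMap.toMatrix_apply]
      apply Module.Basis.sumQuot_repr_inl_of_mem
    | inr l => simp [b, LinearMap.toMatrix_apply, Matrix.fromBlocks_apply₁₂, B]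
  | inr j =>
    cases v with
    | inl k =>
      suffices W.mkQ (e (bW k)) = 0 by simp [LinearMap.toMatrix_apply, b, this]
      rw [← LinearMap.mem_ker, Submodule.ker_mkQ]
      exact he (Submodule.coe_mem (bW k))
    | inr l =>
      simp only [LinearMap.toMatrix_apply, Module.Basis.sumQuot_repr_inr,
        Matrix.fromBlocks_apply₂₂, b, D]
      rw [← Module.Basis.sumQuot_inr bW bQ l, W.mapQ_apply]
      simp

namespace ModSys

variable {p : ℕ} (S : ModSys p)

theorem multiset_sum_mem (s : Multiset ℂ) (h : ∀ z ∈ s, z ∈ S.O) : s.sum ∈ S.O := by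
  induction s using Multiset.induction_on with
  | empty => simpa using S.O.zero_mem
  | cons a s ih =>
    rw [Multiset.sum_cons]
    exact S.O.add_mem _ _ (h a (Multiset.mem_cons_self a s))
      (ih fun z hz => h z (Multiset.mem_cons_of_mem hz))

theorem red_multiset_sum (s : Multiset ℂ) (h : ∀ z ∈ s, z ∈ S.O) :
    S.red s.sum = (s.map S.red).sum := by
  induction s using Multiset.induction_on with
  | empty => simpa using S.red_zero
  | cons a s ih =>
    rw [Multiset.sum_cons, Multiset.map_cons, Multiset.sum_cons,
      S.red_add (h a (Multiset.mem_cons_self a s))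
        (S.multiset_sum_mem s fun z hz => h z (Multiset.mem_cons_of_mem hz)),
      ih fun z hz => h z (Multiset.mem_cons_of_mem hz)]

section End

variable {V : Type*} [AddCommGroup V] [Module S.k V] [Module.Finite S.k V]

/-- The Brauer character value of an endomorphism: the sum of the Teichmüller lifts of its
eigenvalues (with multiplicity). -/
noncomputable def bch (f : Module.End S.k V) : ℂ := ((f.charpoly.roots).map S.teich).sum

theorem bch_conj {W : Type*} [AddCommGroup W] [Module S.k W] [Module.Finite S.k W]
    (e : V ≃ₗ[S.k] W) (f : Module.End S.k V) : S.bch (e.conj f) = S.bch f := by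
  unfold bch
  rw [LinearEquiv.charpoly_conj]

theorem bch_eq_add (W : Submodule S.k V) (f : Module.End S.k V) (hf : W ≤ W.comap f) :
    S.bch f = S.bch (f.restrict hf) + S.bch (W.mapQ W f hf) := by
  unfold bch
  rw [charpoly_eq_restrict_mul_mapQ W f hf, Polynomial.roots_mul, Multiset.map_add,
    Multiset.sum_add]
  exact mul_ne_zero (LinearMap.charpoly_monic _).ne_zero (LinearMap.charpoly_monic _).ne_zero

theorem bch_one [Fact p.Prime] : S.bch (1 : Module.End S.k V) = (Module.finrank S.k V : ℂ) := by
  unfold bch
  rw [LinearMap.charpoly_one, Polynomial.roots_pow]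
  have : (X - 1 : S.k[X]).roots = {1} := by
    have := Polynomial.roots_X_sub_C (1 : S.k)
    simpa using this
  rw [this, Multiset.map_nsmul, Multiset.sum_nsmul]
  simp [S.teich_one]

/-- Eigenvalues of an endomorphism of finite order `m` are `m`-th roots of unity. -/
theorem root_pow_eq_one {f : Module.End S.k V} {m : ℕ} (hf : f ^ m = 1) {x : S.k}
    (hx : x ∈ f.charpoly.roots) : x ^ m = 1 := by
  have hroot : f.charpoly.IsRoot x := (Polynomial.mem_roots'.mp hx).2
  have hev : f.HasEigenvalue x := (Module.End.hasEigenvalue_iff_isRoot_charpoly f x).mpr hroot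
  obtain ⟨v, hv⟩ := hev.exists_hasEigenvector
  have h1 : (f ^ m) v = x ^ m • v := hv.pow_apply m
  rw [hf, Module.End.one_apply] at h1
  have h2 : (x ^ m - 1) • v = 0 := by rw [sub_smul, one_smul, ← h1, sub_self]
  rcases smul_eq_zero.mp h2 with h | h
  · exact sub_eq_zero.mp h
  · exact absurd h hv.2

theorem bch_mem [Fact p.Prime] {f : Module.End S.k V} {m : ℕ} (hm : 0 < m) (hpm : ¬ p ∣ m)
    (hf : f ^ m = 1) : S.bch f ∈ S.O := by
  unfold bch
  apply S.multiset_sum_mem
  intro z hz
  obtain ⟨x, hx, rfl⟩ := Multiset.mem_map.mp hz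
  exact S.teich_mem hm hpm (S.root_pow_eq_one hf hx)

theorem red_bch [Fact p.Prime] {f : Module.End S.k V} {m : ℕ} (hm : 0 < m) (hpm : ¬ p ∣ m)
    (hf : f ^ m = 1) : S.red (S.bch f) = LinearMap.trace S.k V f := by
  unfold bch
  rw [S.red_multiset_sum, Multiset.map_map,
    Module.End.trace_eq_sum_roots_charpoly_of_splits (IsAlgClosed.splits _)]
  · congr 1
    have : Multiset.map (S.red ∘ S.teich) f.charpoly.roots
        = Multiset.map id f.charpoly.roots := by
      apply Multiset.map_congr rfl
      intro x hx
      exact (S.teich_spec hm hpm (S.root_pow_eq_one hf hx)).2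
    rw [this, Multiset.map_id]
  · intro z hz
    obtain ⟨x, hx, rfl⟩ := Multiset.mem_map.mp hz
    exact S.teich_mem hm hpm (S.root_pow_eq_one hf hx)

end End

section Matrix

variable {n : Type*} [Fintype n] [DecidableEq n]

/-- If a complex matrix with entries in the valuation ring has finite order prime to `p`, the
Brauer character value of its reduction is its trace. -/
theorem bch_toLin'_map_red [Fact p.Prime] (A : Matrix n n ℂ) (hA : ∀ i j, A i j ∈ S.O) {m : ℕ}
    (hm : 0 < m) (hpm : ¬ p ∣ m) (hAm : A ^ m = 1) :
    S.bch (Matrix.toLin' (A.map S.red)) = A.trace := by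
  classical
  -- the matrix over the valuation ring
  let A₀ : Matrix n n S.O := fun i j => ⟨A i j, hA i j⟩
  have hA₀ : A₀.map (algebraMap S.O ℂ) = A := by ext i j; rfl
  have hAk : A.map S.red = A₀.map S.res := by
    ext i j; simp only [Matrix.map_apply]; exact S.red_of_mem (hA i j)
  -- roots over ℂ
  set R : Multiset ℂ := A.charpoly.roots with hR
  have hsplit : A.charpoly = (R.map fun z => X - C z).prod := by
    have h1 := (IsAlgClosed.splits A.charpoly).eq_prod_roots_of_monic (Matrix.charpoly_monic A)
    exact h1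
  have hRm : ∀ z ∈ R, z ^ m = 1 := by
    intro z hz
    have hroot : A.charpoly.IsRoot z := (Polynomial.mem_roots'.mp hz).2
    have hspec : z ∈ spectrum ℂ A := Matrix.mem_spectrum_of_isRoot_charpoly hroot
    have hev : Module.End.HasEigenvalue (Matrix.toLin' A) z := by
      rw [Module.End.hasEigenvalue_iff_mem_spectrum]
      rwa [← Matrix.spectrum_toLin' ] at hspec
    obtain ⟨v, hv⟩ := hev.exists_hasEigenvector
    have h1 : ((Matrix.toLin' A) ^ m) v = z ^ m • v := hv.pow_apply m
    rw [← Matrix.toLin'_pow, hAm, Matrix.toLin'_one] at h1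
    have h2 : (z ^ m - 1) • v = 0 := by
      rw [sub_smul, one_smul, ← h1]; simp
    rcases smul_eq_zero.mp h2 with h | h
    · exact sub_eq_zero.mp h
    · exact absurd h hv.2
  have hRO : ∀ z ∈ R, z ∈ S.O := fun z hz => S.mem_of_pow_eq_one hm (hRm z hz)
  -- the polynomial over the valuation ring
  let Q : S.O[X] := ((R.attach).map fun z => X - C (⟨z.1, hRO z.1 z.2⟩ : S.O)).prod
  have hQ : Q.map (algebraMap S.O ℂ) = A.charpoly := by
    rw [hsplit, Polynomial.map_multiset_prod, Multiset.map_map]
    conv_rhs => rw [← Multiset.attach_map_val R, Multiset.map_map]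
    congr 1
    apply Multiset.map_congr rfl
    intro z _
    simp
  have hQ' : Q = A₀.charpoly := by
    apply Polynomial.map_injective (algebraMap S.O ℂ) (FaithfulSMul.algebraMap_injective S.O ℂ)
    rw [hQ, ← Matrix.charpoly_map, hA₀]
  have hcharK : (A.map S.red).charpoly = ((R.attach).map fun z =>
      X - C (S.res (⟨z.1, hRO z.1 z.2⟩ : S.O))).prod := by
    rw [hAk, Matrix.charpoly_map, ← hQ', Polynomial.map_multiset_prod, Multiset.map_map]
    congr 1
    apply Multiset.map_congr rfl
    intro z _
    simp
  unfold bch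
  rw [Matrix.charpoly_toLin', hcharK]
  have hroots : (((R.attach).map fun z : {x // x ∈ R} =>
      X - C (S.res (⟨z.1, hRO z.1 z.2⟩ : S.O))).prod).roots
      = (R.attach).map fun z : {x // x ∈ R} => S.res (⟨z.1, hRO z.1 z.2⟩ : S.O) := by
    have := Polynomial.roots_multiset_prod_X_sub_C
      ((R.attach).map fun z : {x // x ∈ R} => S.res (⟨z.1, hRO z.1 z.2⟩ : S.O))
    rw [Multiset.map_map] at this
    exact this
  rw [hroots, Multiset.map_map]
  have hteich : (R.attach).map (S.teich ∘ fun z : {x // x ∈ R} => S.res (⟨z.1, hRO z.1 z.2⟩ : S.O))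
      = (R.attach).map Subtype.val := by
    apply Multiset.map_congr rfl
    intro z _
    simp only [Function.comp]
    rw [← S.red_of_mem (hRO z.1 z.2)]
    exact S.teich_red hm hpm (hRm z.1 z.2)
  rw [hteich, Multiset.attach_map_val, hR, ← Matrix.trace_eq_sum_roots_charpoly]

end Matrix

end ModSys

end Cfsg.Agent.Lib.Helper6.BrMod
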