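import Mathlib
import Cfsg.Agent.Lib.Helper6.BrMod2
import Cfsg.Agent.Lib.Helper6.RepBasic

/-!
# Brauer characters of modular representations; irreducible Brauer characters; decomposition
of the Brauer character of a representation into irreducible constituents
-/

set_option autoImplicit false

namespace Cfsg.Agent.Lib.Helper6.BrMod

open Polynomial Module

universe u

namespace ModSys

variable {p : ℕ} (S : ModSys p) {G : Type*} [Group G]

section defs

variable {V : Type*} [AddCommGroup V] [Module S.k V] [Module.Finite S.k V]

/-- The Brauer character of a modular representation (extended by zero to the `p`-singular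
elements). -/
noncomputable def brauerChar (ρ : Representation S.k G V) : G → ℂ :=
  fun g => by classical exact if Cfsg.IsPRegular p g then S.bch (ρ g) else 0

theorem brauerChar_of_reg (ρ : Representation S.k G V) {g : G} (hg : Cfsg.IsPRegular p g) :
    S.brauerChar ρ g = S.bch (ρ g) := by
  classical
  simp [brauerChar, hg]

theorem brauerChar_of_not_reg (ρ : Representation S.k G V) {g : G} (hg : ¬ Cfsg.IsPRegular p g) :
    S.brauerChar ρ g = 0 := by
  classical
  simp [brauerChar, hg]

theorem bch_eq_zero_of_finrank_eq_zero (h : Module.finrank S.k V = 0) (f : Module.End S.k V) :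
    S.bch f = 0 := by
  unfold bch
  have h1 : f.charpoly.natDegree = 0 := by rw [LinearMap.charpoly_natDegree, h]
  have h2 : f.charpoly = 1 := Polynomial.eq_one_of_monic_natDegree_zero (LinearMap.charpoly_monic f) h1
  rw [h2]
  simp

theorem brauerChar_eq_zero_of_finrank_eq_zero (h : Module.finrank S.k V = 0)
    (ρ : Representation S.k G V) : S.brauerChar ρ = 0 := by
  classical
  funext g
  by_cases hg : Cfsg.IsPRegular p g
  · rw [S.brauerChar_of_reg ρ hg, S.bch_eq_zero_of_finrank_eq_zero h]; rfl
  · rw [S.brauerChar_of_not_reg ρ hg]; rfl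

theorem brauerChar_equiv {W : Type*} [AddCommGroup W] [Module S.k W] [Module.Finite S.k W]
    {ρ : Representation S.k G V} {σ : Representation S.k G W} (φ : ρ.Equiv σ) :
    S.brauerChar ρ = S.brauerChar σ := by
  classical
  funext g
  by_cases hg : Cfsg.IsPRegular p g
  · rw [S.brauerChar_of_reg ρ hg, S.brauerChar_of_reg σ hg]
    have : σ g = φ.toLinearEquiv.conj (ρ g) := by
      apply LinearMap.ext
      intro w
      have h1 := LinearMap.congr_fun (φ.isIntertwining' g) (φ.toLinearEquiv.symm w)
      have h2 : φ.toLinearEquiv (φ.toLinearEquiv.symm w) = w :=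
        φ.toLinearEquiv.apply_symm_apply w
      have h3 : φ.toLinearEquiv (ρ g (φ.toLinearEquiv.symm w))
          = σ g (φ.toLinearEquiv (φ.toLinearEquiv.symm w)) := h1
      rw [h2] at h3
      rw [LinearEquiv.conj_apply]
      exact h3.symm
    rw [this, S.bch_conj]
  · rw [S.brauerChar_of_not_reg ρ hg, S.brauerChar_of_not_reg σ hg]

theorem brauerChar_sub_quot (ρ : Representation S.k G V) (W : Submodule S.k V)
    (hW : ∀ g, W ≤ W.comap (ρ g)) :
    S.brauerChar ρ = S.brauerChar (ρ.subrepresentation W hW) + S.brauerChar (ρ.quotient W hW) := by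
  classical
  funext g
  by_cases hg : Cfsg.IsPRegular p g
  · rw [Pi.add_apply, S.brauerChar_of_reg ρ hg, S.brauerChar_of_reg _ hg, S.brauerChar_of_reg _ hg]
    exact S.bch_eq_add W (ρ g) (hW g)
  · rw [Pi.add_apply, S.brauerChar_of_not_reg ρ hg, S.brauerChar_of_not_reg _ hg,
      S.brauerChar_of_not_reg _ hg, add_zero]

theorem brauerChar_one [Fact p.Prime] (ρ : Representation S.k G V) :
    S.brauerChar ρ 1 = (Module.finrank S.k V : ℂ) := by
  have h1 : Cfsg.IsPRegular p (1 : G) := by
    unfold Cfsg.IsPRegular
    rw [orderOf_one]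
    exact fun h => (Fact.out : p.Prime).one_lt.ne' (Nat.dvd_one.mp h)
  rw [S.brauerChar_of_reg ρ h1, map_one, S.bch_one]

theorem brauerChar_conj (ρ : Representation S.k G V) (g h : G) :
    S.brauerChar ρ (h * g * h⁻¹) = S.brauerChar ρ g := by
  classical
  have hord : orderOf (h * g * h⁻¹) = orderOf g := by
    have := (MulAut.conj h).toMonoidHom
    exact orderOf_injective (MulAut.conj h).toMonoidHom (MulAut.conj h).injective g
  by_cases hg : Cfsg.IsPRegular p g
  · have hg' : Cfsg.IsPRegular p (h * g * h⁻¹) := by
      unfold Cfsg.IsPRegular at hg ⊢; rwa [hord]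
    rw [S.brauerChar_of_reg ρ hg, S.brauerChar_of_reg ρ hg']
    have hu : ρ h * ρ h⁻¹ = 1 := by rw [← map_mul, mul_inv_cancel, map_one]
    have hu' : ρ h⁻¹ * ρ h = 1 := by rw [← map_mul, inv_mul_cancel, map_one]
    let e : V ≃ₗ[S.k] V := LinearEquiv.ofLinearMap (ρ h) (ρ h⁻¹) hu hu'
    have : ρ (h * g * h⁻¹) = e.conj (ρ g) := by
      ext v
      simp [e, LinearEquiv.conj_apply, map_mul]
    rw [this, S.bch_conj]
  · have hg' : ¬ Cfsg.IsPRegular p (h * g * h⁻¹) := by
      unfold Cfsg.IsPRegular at hg ⊢; rwa [hord]
    rw [S.brauerChar_of_not_reg ρ hg, S.brauerChar_of_not_reg ρ hg']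

theorem brauerChar_isClassFunction (ρ : Representation S.k G V) :
    Cfsg.IsClassFunction G (S.brauerChar ρ) := fun g h => S.brauerChar_conj ρ g h

end defs

/-- The irreducible Brauer characters afforded by irreducible representations on which the
prescribed sums of group elements act by the prescribed scalars. -/
def IBrWith (G : Type*) [Group G] (T : Set (Finset G × S.k)) : Set (G → ℂ) :=
  {φ | ∃ (n : ℕ) (ρ : Representation S.k G (Fin n → S.k)), ρ.IsIrreducible ∧
    (∀ Tc ∈ T, ∑ x ∈ Tc.1, ρ x = Tc.2 • LinearMap.id) ∧ S.brauerChar ρ = φ}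

/-- The irreducible Brauer characters of `G`. -/
def IBr (G : Type*) [Group G] : Set (G → ℂ) := S.IBrWith G ∅

theorem IBrWith_subset_IBr (T : Set (Finset G × S.k)) : S.IBrWith G T ⊆ S.IBr G := by
  rintro φ ⟨n, ρ, hirr, _, h⟩
  exact ⟨n, ρ, hirr, by simp, h⟩

theorem mem_IBr_iff {φ : G → ℂ} : φ ∈ S.IBr G ↔
    ∃ (n : ℕ) (ρ : Representation S.k G (Fin n → S.k)), ρ.IsIrreducible ∧ S.brauerChar ρ = φ := by
  constructor
  · rintro ⟨n, ρ, hirr, _, h⟩
    exact ⟨n, ρ, hirr, h⟩
  · rintro ⟨n, ρ, hirr, h⟩
    exact ⟨n, ρ, hirr, by simp, h⟩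

section decomp

/-- The Brauer character of an irreducible representation on an arbitrary finite-dimensional
space is an irreducible Brauer character. -/
theorem brauerChar_mem_IBrWith {V : Type*} [AddCommGroup V] [Module S.k V] [Module.Finite S.k V]
    (ρ : Representation S.k G V) [hρ : ρ.IsIrreducible] (T : Set (Finset G × S.k))
    (hT : ∀ Tc ∈ T, ∑ x ∈ Tc.1, ρ x = Tc.2 • LinearMap.id) :
    S.brauerChar ρ ∈ S.IBrWith G T := by
  let e : V ≃ₗ[S.k] (Fin (Module.finrank S.k V) → S.k) := (Module.finBasis S.k V).equivFun
  refine ⟨Module.finrank S.k V, transport ρ e, isIrreducible_of_equiv (transportEquiv ρ e), ?_,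
    (S.brauerChar_equiv (transportEquiv ρ e)).symm⟩
  intro Tc hTc
  have h := hT Tc hTc
  apply LinearMap.ext
  intro v
  have h2 : ∀ w : V, (∑ x ∈ Tc.1, ρ x) w = Tc.2 • w := by
    intro w; rw [h]; simp
  have h3 : (∑ x ∈ Tc.1, transport ρ e x) v = e ((∑ x ∈ Tc.1, ρ x) (e.symm v)) := by
    simp only [LinearMap.sum_apply, map_sum]
    rfl
  rw [h3, h2]
  simp

/-- Every modular representation has a finite list of irreducible constituents whose Brauer
characters sum to its Brauer character; scalar actions of sums of group elements are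
inherited by the constituents. -/
theorem exists_list_IBrWith (T : Set (Finset G × S.k)) :
    ∀ (n : ℕ) (V : Type u) [AddCommGroup V] [Module S.k V] [Module.Finite S.k V]
      (ρ : Representation S.k G V), Module.finrank S.k V = n →
      (∀ Tc ∈ T, ∑ x ∈ Tc.1, ρ x = Tc.2 • LinearMap.id) →
      ∃ l : List (G → ℂ), (∀ φ ∈ l, φ ∈ S.IBrWith G T) ∧ S.brauerChar ρ = l.sum := by
  intro n
  induction n using Nat.strong_induction_on with
  | _ n ih =>
    intro V _ _ _ ρ hn hT
    rcases Nat.eq_zero_or_pos n with h0 | hpos
    · refine ⟨[], by simp, ?_⟩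
      rw [S.brauerChar_eq_zero_of_finrank_eq_zero (hn.trans h0)]
      simp
    · by_cases hirr : ρ.IsIrreducible
      · exact ⟨[S.brauerChar ρ], by
          intro φ hφ
          rw [List.mem_singleton] at hφ
          rw [hφ]
          exact S.brauerChar_mem_IBrWith ρ T hT, by simp⟩
      · -- a proper nonzero invariant subspace
        have hnt : Nontrivial V := Module.nontrivial_of_finrank_pos (R := S.k) (hn ▸ hpos)
        have hex : ∃ W : Subrepresentation ρ, W ≠ ⊥ ∧ W ≠ ⊤ := by
          by_contra hcon
          push_neg at hcon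
          apply hirr
          haveI : Nontrivial (Subrepresentation ρ) := by
            refine ⟨⟨⊥, ⊤, ?_⟩⟩
            intro h
            have h1 : (⊥ : Subrepresentation ρ).toSubmodule = (⊤ : Subrepresentation ρ).toSubmodule := by
              rw [h]
            have h2 : (⊥ : Submodule S.k V) = ⊤ := h1
            exact bot_ne_top h2
          exact ⟨fun W => by
            by_cases hW : W = ⊥
            · exact Or.inl hW
            · exact Or.inr (hcon W hW)⟩
        obtain ⟨W, hWbot, hWtop⟩ := hex
        have hW : ∀ g, W.toSubmodule ≤ W.toSubmodule.comap (ρ g) := fun g v hv =>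
          W.apply_mem_toSubmodule g hv
        have hWbot' : W.toSubmodule ≠ ⊥ := by
          intro h; apply hWbot
          exact Subrepresentation.toSubmodule_injective h
        have hWtop' : W.toSubmodule ≠ ⊤ := by
          intro h; apply hWtop
          exact Subrepresentation.toSubmodule_injective h
        have hlt1 : Module.finrank S.k W.toSubmodule < n := by
          rw [← hn]
          exact Submodule.finrank_lt hWtop'
        have hpos1 : 0 < Module.finrank S.k W.toSubmodule := by
          rw [Module.finrank_pos_iff]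
          exact Submodule.nontrivial_iff_ne_bot.mpr hWbot'
        have hlt2 : Module.finrank S.k (V ⧸ W.toSubmodule) < n := by
          have := Submodule.finrank_quotient_add_finrank W.toSubmodule
          omega
        obtain ⟨l1, hl1, hs1⟩ := ih _ hlt1 W.toSubmodule (ρ.subrepresentation W.toSubmodule hW) rfl
          (by
            intro Tc hTc
            have h := hT Tc hTc
            apply LinearMap.ext
            rintro ⟨v, hv⟩
            apply Subtype.ext
            have h2 : (∑ x ∈ Tc.1, ρ x) v = Tc.2 • v := by rw [h]; simp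
            simp only [LinearMap.sum_apply, LinearMap.smul_apply, LinearMap.id_apply,
              Submodule.coe_sum, Submodule.coe_smul]
            rw [← h2, LinearMap.sum_apply]
            exact Finset.sum_congr rfl fun x _ => rfl)
        obtain ⟨l2, hl2, hs2⟩ := ih _ hlt2 (V ⧸ W.toSubmodule) (ρ.quotient W.toSubmodule hW) rfl
          (by
            intro Tc hTc
            have h := hT Tc hTc
            apply LinearMap.ext
            intro q
            induction q using Submodule.Quotient.induction_on with
            | H v =>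
              have h2 : (∑ x ∈ Tc.1, ρ x) v = Tc.2 • v := by rw [h]; simp
              simp only [LinearMap.sum_apply, LinearMap.smul_apply, LinearMap.id_apply]
              rw [← Submodule.Quotient.mk_smul, ← h2, LinearMap.sum_apply]
              simp only [Representation.quotient_apply, Submodule.mapQ_apply]
              rw [← Submodule.mkQ_apply, map_sum]
              rfl)
        refine ⟨l1 ++ l2, ?_, ?_⟩
        · intro φ hφ
          rcases List.mem_append.mp hφ with h | h
          · exact hl1 φ h
          · exact hl2 φ h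
        · rw [S.brauerChar_sub_quot ρ W.toSubmodule hW, hs1, hs2, List.sum_append]

end decomp

end ModSys

end Cfsg.Agent.Lib.Helper6.BrMod
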