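import Mathlib

/-!
# Linear independence of the trace functions of pairwise non-isomorphic simple modules over an
algebra over an algebraically closed field (via the Jacobson density theorem)
-/

set_option autoImplicit false

namespace Cfsg.Agent.Lib.Helper6.BrMod

open Module

section

variable {k A : Type*} [Field k] [Ring A] [Algebra k A]

/-- The action of an algebra element on a module, as a linear map over the base field. -/
def actLin (V : Type*) [AddCommGroup V] [Module k V] [Module A V] [IsScalarTower k A V] (a : A) :
    V →ₗ[k] V where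
  toFun w := a • w
  map_add' := smul_add a
  map_smul' c w := by
    simp only [RingHom.id_apply]
    rw [← algebraMap_smul A c w, ← algebraMap_smul A c (a • w), ← mul_smul, ← mul_smul,
      Algebra.commutes]

theorem actLin_apply (V : Type*) [AddCommGroup V] [Module k V] [Module A V] [IsScalarTower k A V]
    (a : A) (w : V) : actLin (k := k) V a w = a • w := rfl

variable [IsAlgClosed k] {ι : Type*} [Fintype ι] [DecidableEq ι]
  (V : ι → Type*) [∀ i, AddCommGroup (V i)] [∀ i, Module k (V i)] [∀ i, Module A (V i)]
  [∀ i, IsScalarTower k A (V i)] [∀ i, Module.Finite k (V i)] [∀ i, IsSimpleModule A (V i)]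

/-- Every `A`-endomorphism of a product of pairwise non-isomorphic simple modules acts on
each factor by a scalar. -/
theorem exists_scalars (hne : ∀ i j, i ≠ j → IsEmpty (V i ≃ₗ[A] V j))
    (φ : Module.End A (∀ i, V i)) :
    ∃ c : ι → k, ∀ (m : ∀ i, V i) (i : ι), φ m i = c i • m i := by
  classical
  -- component maps
  let comp : ∀ i l, V l →ₗ[A] V i := fun i l =>
    (LinearMap.proj i) ∘ₗ φ ∘ₗ (LinearMap.single A V l)
  have hoff : ∀ i l, i ≠ l → comp i l = 0 := by
    intro i l hil
    rcases LinearMap.bijective_or_eq_zero (comp i l) with h | h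
    · exact ((hne l i (Ne.symm hil)).false (LinearEquiv.ofBijective (comp i l) h)).elim
    · exact h
  have hdiag : ∀ i, ∃ c : k, ∀ w : V i, comp i i w = c • w := by
    intro i
    obtain ⟨c, hc⟩ := (IsSimpleModule.algebraMap_end_bijective_of_isAlgClosed (A := A) (V := V i) k).2
      (comp i i)
    refine ⟨c, fun w => ?_⟩
    rw [← hc]
    simp [Module.algebraMap_end_apply]
  choose c hc using hdiag
  refine ⟨c, fun m i => ?_⟩
  have hm : m = ∑ l, Pi.single l (m l) := (Finset.univ_sum_single m).symm
  conv_lhs => rw [hm]
  rw [map_sum, Finset.sum_apply]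
  rw [Finset.sum_eq_single i]
  · exact hc i (m i)
  · intro l _ hli
    have := hoff i l (Ne.symm hli)
    exact LinearMap.congr_fun this (m l)
  · intro h; exact absurd (Finset.mem_univ i) h

/-- Linear independence of trace functions of pairwise non-isomorphic simple modules. -/
theorem trace_indep (hne : ∀ i j, i ≠ j → IsEmpty (V i ≃ₗ[A] V j)) (c : ι → k)
    (h : ∀ a : A, ∑ i, c i * LinearMap.trace k (V i) (actLin (k := k) (V i) a) = 0) :
    c = 0 := by
  classical
  funext j
  -- a rank-one projection on `V j`
  have hnt : Nontrivial (V j) := IsSimpleModule.nontrivial A (V j)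
  let b : ∀ i, Basis (Fin (finrank k (V i))) k (V i) := fun i => Module.finBasis k (V i)
  have hpos : 0 < finrank k (V j) := Module.finrank_pos
  let l0 : Fin (finrank k (V j)) := ⟨0, hpos⟩
  let T : V j →ₗ[k] V j := (b j).constr k (fun l => if l = l0 then b j l0 else 0)
  have hT : ∀ l, T (b j l) = if l = l0 then b j l0 else 0 := fun l => (b j).constr_basis k _ l
  have htrT : LinearMap.trace k (V j) T = 1 := by
    rw [LinearMap.trace_eq_matrix_trace k (b j) T, Matrix.trace]
    simp only [Matrix.diag_apply, LinearMap.toMatrix_apply, hT]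
    rw [Finset.sum_eq_single l0]
    · simp
    · intro l _ hl; simp [hl]
    · intro h; exact absurd (Finset.mem_univ l0) h
  -- the element of the bicommutant
  let f0 : (∀ i, V i) →+ (∀ i, V i) :=
    { toFun := fun m => Pi.single j (T (m j))
      map_zero' := by simp
      map_add' := fun m m' => by simp [Pi.single_add] }
  have hf0 : ∀ (φ : Module.End A (∀ i, V i)) (m : ∀ i, V i), f0 (φ m) = φ (f0 m) := by
    intro φ m
    obtain ⟨d, hd⟩ := exists_scalars (k := k) V hne φ
    funext i
    show (Pi.single j (T ((φ m) j)) : ∀ i, V i) i = φ (Pi.single j (T (m j))) i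
    rw [hd m j, hd (Pi.single j (T (m j))) i, map_smul]
    by_cases hij : i = j
    · subst hij; simp
    · simp [Pi.single_eq_of_ne hij]
  let f : Module.End (Module.End A (∀ i, V i)) (∀ i, V i) :=
    { toFun := f0
      map_add' := f0.map_add
      map_smul' := fun φ m => hf0 φ m }
  let s : Finset (∀ i, V i) :=
    Finset.univ.biUnion fun i => Finset.univ.image fun l => Pi.single i (b i l)
  obtain ⟨a, ha⟩ := jacobson_density f s
  have hact : ∀ i l, (f (Pi.single i (b i l))) i = a • b i l := by
    intro i l
    have hmem : (Pi.single i (b i l) : ∀ i, V i) ∈ s := by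
      simp only [s, Finset.mem_biUnion, Finset.mem_univ, Finset.mem_image, true_and]
      exact ⟨i, l, rfl⟩
    rw [ha _ hmem]
    simp
  have hj : actLin (k := k) (V j) a = T := by
    apply (b j).ext
    intro l
    rw [actLin_apply, ← hact j l]
    show (Pi.single j (T ((Pi.single j (b j l) : ∀ i, V i) j)) : ∀ i, V i) j = T (b j l)
    simp
  have hi : ∀ i, i ≠ j → actLin (k := k) (V i) a = 0 := by
    intro i hij
    apply (b i).ext
    intro l
    rw [actLin_apply, ← hact i l]
    show (Pi.single j (T ((Pi.single i (b i l) : ∀ i, V i) j)) : ∀ i, V i) i = 0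
    simp [Pi.single_eq_of_ne hij]
  have := h a
  rw [Finset.sum_eq_single j] at this
  · rw [hj, htrT, mul_one] at this
    exact this
  · intro i _ hij
    rw [hi i hij, map_zero, mul_zero]
  · intro h; exact absurd (Finset.mem_univ j) h

end

end Cfsg.Agent.Lib.Helper6.BrMod
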