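import Mathlib
import Cfsg.Agent.Lib.Helper6.BrMod3
import Cfsg.Agent.Lib.Helper6.BrMod4
import Cfsg.Agent.Lib.Helper6.PPartEl

/-!
# Linear independence of the irreducible Brauer characters
-/

set_option autoImplicit false

namespace Cfsg.Agent.Lib.Helper6.BrMod

open Module
open scoped MonoidAlgebra

/-- In characteristic `p`, multiplying by a commuting endomorphism of `p`-power order does not
change the trace. -/
theorem trace_mul_of_pow_eq_one {k V : Type*} [Field k] {p : ℕ} [Fact p.Prime] [CharP k p]
    [AddCommGroup V] [Module k V] [Module.Finite k V] (X U : Module.End k V) (hc : Commute X U)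
    (e : ℕ) (hU : U ^ (p ^ e) = 1) :
    LinearMap.trace k V (X * U) = LinearMap.trace k V X := by
  by_cases hnt : Nontrivial V
  · haveI : CharP (Module.End k V) p :=
      charP_of_injective_algebraMap (algebraMap k (Module.End k V)).injective p
    have hN : (U - 1) ^ (p ^ e) = 0 := by
      rw [sub_pow_char_pow_of_commute _ _ (Commute.one_right U), hU, one_pow, sub_self]
    have hnil : IsNilpotent (X * (U - 1)) :=
      Commute.isNilpotent_mul_left (hc.sub_right (Commute.one_right X)) ⟨_, hN⟩
    have htr : LinearMap.trace k V (X * (U - 1)) = 0 :=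
      (LinearMap.isNilpotent_trace_of_isNilpotent hnil).eq_zero
    have : X * U = X + X * (U - 1) := by rw [mul_sub, mul_one]; abel
    rw [this, map_add, htr, add_zero]
  · rw [not_nontrivial_iff_subsingleton] at hnt
    have : X * U = X := by
      apply LinearMap.ext; intro v; exact Subsingleton.elim _ _
    rw [this]

section asModule

variable {k G V W : Type*} [Field k] [Group G] [AddCommGroup V] [Module k V]
  [AddCommGroup W] [Module k W]

/-- A linear equivalence of the associated group-algebra modules gives an equivalence of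
representations. -/
noncomputable def equivOfAsModuleEquiv {ρ : Representation k G V} {σ : Representation k G W}
    (e : ρ.asModule ≃ₗ[k[G]] σ.asModule) : ρ.Equiv σ :=
  Representation.Equiv.mk
    ((ρ.asModuleEquiv.symm.trans (e.restrictScalars k)).trans σ.asModuleEquiv) (by
      intro g
      apply LinearMap.ext
      intro v
      simp only [LinearMap.comp_apply, LinearEquiv.coe_coe, LinearEquiv.trans_apply,
        LinearEquiv.restrictScalars_apply]
      rw [Representation.asModuleEquiv_symm_map_rho, map_smul]
      rw [Representation.asModuleEquiv_map_smul, Representation.asAlgebraHom_of])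

theorem actLin_asModule_of (ρ : Representation k G V) (g : G) (v : ρ.asModule) :
    actLin (k := k) ρ.asModule (MonoidAlgebra.of k G g) v
      = ρ.asModuleEquiv.symm (ρ g (ρ.asModuleEquiv v)) := by
  rw [actLin_apply, Representation.asModuleEquiv_symm_map_rho, LinearEquiv.symm_apply_apply]

theorem trace_actLin_asModule_of [Module.Finite k V] (ρ : Representation k G V) (g : G) :
    LinearMap.trace k ρ.asModule (actLin (k := k) ρ.asModule (MonoidAlgebra.of k G g))
      = LinearMap.trace k V (ρ g) := by
  have : actLin (k := k) ρ.asModule (MonoidAlgebra.of k G g)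
      = ρ.asModuleEquiv.symm.conj (ρ g) := by
    apply LinearMap.ext
    intro v
    rw [actLin_asModule_of, LinearEquiv.conj_apply]
    rfl
  rw [this, LinearMap.trace_conj']

theorem actLin_add (M : Type*) [AddCommGroup M] [Module k M] {A : Type*} [Ring A] [Algebra k A]
    [Module A M] [IsScalarTower k A M] (a b : A) :
    actLin (k := k) M (a + b) = actLin (k := k) M a + actLin (k := k) M b := by
  apply LinearMap.ext; intro v; simp [actLin_apply, add_smul]

theorem actLin_smul (M : Type*) [AddCommGroup M] [Module k M] {A : Type*} [Ring A] [Algebra k A]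
    [Module A M] [IsScalarTower k A M] (r : k) (a : A) :
    actLin (k := k) M (r • a) = r • actLin (k := k) M a := by
  apply LinearMap.ext; intro v; simp [actLin_apply, smul_assoc]

end asModule

end Cfsg.Agent.Lib.Helper6.BrMod

namespace Cfsg.Agent.Lib.Helper6.BrMod

open Module
open scoped MonoidAlgebra

namespace ModSys

variable {p : ℕ} [Fact p.Prime] (S : ModSys p) {G : Type*} [Group G] [Finite G]

section

variable {V : Type*} [AddCommGroup V] [Module S.k V] [Module.Finite S.k V]

theorem rep_pow_orderOf (ρ : Representation S.k G V) (g : G) : ρ g ^ orderOf g = 1 := by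
  rw [← map_pow, pow_orderOf_eq_one, map_one]

/-- At a `p`-regular element the Brauer character value lies in the valuation ring and reduces
to the trace. -/
theorem brauerChar_mem_and_red (ρ : Representation S.k G V) {g : G}
    (hg : Cfsg.IsPRegular p g) :
    S.brauerChar ρ g ∈ S.O ∧ S.red (S.brauerChar ρ g) = LinearMap.trace S.k V (ρ g) := by
  rw [S.brauerChar_of_reg ρ hg]
  exact ⟨S.bch_mem (orderOf_pos g) hg (S.rep_pow_orderOf ρ g),
    S.red_bch (orderOf_pos g) hg (S.rep_pow_orderOf ρ g)⟩

theorem brauerChar_mem (ρ : Representation S.k G V) (g : G) : S.brauerChar ρ g ∈ S.O := by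
  by_cases hg : Cfsg.IsPRegular p g
  · exact (S.brauerChar_mem_and_red ρ hg).1
  · rw [S.brauerChar_of_not_reg ρ hg]; exact S.O.zero_mem

/-- The trace of a modular representation at `g` equals the trace at the `p'`-part of `g`. -/
theorem trace_eq_trace_prEl (ρ : Representation S.k G V) (g : G) :
    LinearMap.trace S.k V (ρ g) = LinearMap.trace S.k V (ρ (prEl p g)) := by
  obtain ⟨e, he⟩ := orderOf_ppEl (p := p) g
  have hc : Commute (ρ (prEl p g)) (ρ (ppEl p g)) := by
    have := (commute_ppEl_prEl (p := p) g).symm
    exact this.map ρ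
  have hU : ρ (ppEl p g) ^ (p ^ e) = 1 := by
    rw [← map_pow, ← he, pow_orderOf_eq_one, map_one]
  have hg : ρ g = ρ (prEl p g) * ρ (ppEl p g) := by
    rw [← map_mul, ← (commute_ppEl_prEl (p := p) g).eq, ppEl_mul_prEl]
  rw [hg]
  exact trace_mul_of_pow_eq_one (p := p) _ _ hc e hU

end

/-- The irreducible Brauer characters are linearly independent over `ℂ`. -/
theorem linearIndependent_IBr :
    LinearIndependent ℂ (fun φ : S.IBr G => (φ : G → ℂ)) := by
  classical
  rw [linearIndependent_iff']
  intro s c hsum φ0 hφ0
  by_contra hne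
  -- representations affording the members
  choose n ρ hirr hφ using (fun φ : S.IBr G => S.mem_IBr_iff.mp φ.2)
  -- a coefficient of maximal valuation
  obtain ⟨φ1, hφ1s, hmax⟩ := Finset.exists_max_image s (fun φ => S.O.valuation (c φ)) ⟨φ0, hφ0⟩
  have hv0 : S.O.valuation (c φ0) ≠ 0 := (Valuation.ne_zero_iff _).mpr hne
  have hv1 : 0 < S.O.valuation (c φ1) := lt_of_lt_of_le (zero_lt_iff.mpr hv0) (hmax φ0 hφ0)
  have hc1 : c φ1 ≠ 0 := (Valuation.ne_zero_iff _).mp hv1.ne'
  set c' : S.IBr G → ℂ := fun φ => c φ / c φ1 with hc'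
  have hc'mem : ∀ φ ∈ s, c' φ ∈ S.O := by
    intro φ hφs
    rw [← S.O.valuation_le_one_iff, hc', map_div₀]
    exact (div_le_one₀ hv1).mpr (hmax φ hφs)
  have hc'1 : c' φ1 = 1 := div_self hc1
  have hrel : ∀ g : G, ∑ φ ∈ s, c' φ * (φ : G → ℂ) g = 0 := by
    intro g
    have h1 := congrFun hsum g
    simp only [Finset.sum_apply, Pi.smul_apply, smul_eq_mul, Pi.zero_apply] at h1
    have h2 : ∑ φ ∈ s, c' φ * (φ : G → ℂ) g = (∑ φ ∈ s, c φ * (φ : G → ℂ) g) / c φ1 := by
      rw [Finset.sum_div]
      refine Finset.sum_congr rfl fun φ _ => ?_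
      simp only [hc']; ring
    rw [h2, h1, zero_div]
  -- the reduced relation on traces
  have htr : ∀ g : G, ∑ φ : {φ // φ ∈ s}, S.red (c' φ.1) * LinearMap.trace S.k _ (ρ φ.1 g) = 0 := by
    have hreg : ∀ g : G, Cfsg.IsPRegular p g →
        ∑ φ : {φ // φ ∈ s}, S.red (c' φ.1) * LinearMap.trace S.k _ (ρ φ.1 g) = 0 := by
      intro g hg
      have h1 := congrArg S.red (hrel g)
      rw [S.red_zero, S.red_sum] at h1
      · rw [← Finset.sum_attach] at h1
        rw [← h1]
        rw [Finset.univ_eq_attach]
        refine Finset.sum_congr rfl fun φ _ => ?_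
        have hb := S.brauerChar_mem_and_red (ρ φ.1) hg
        rw [hφ φ.1] at hb
        rw [S.red_mul (hc'mem φ.1 φ.2) hb.1, hb.2]
      · intro φ hφs
        have hb := S.brauerChar_mem_and_red (ρ φ) hg
        rw [hφ φ] at hb
        exact S.O.mul_mem _ _ (hc'mem φ hφs) hb.1
    intro g
    have := hreg (prEl p g) (prEl_pRegular (p := p) g)
    rw [← this]
    refine Finset.sum_congr rfl fun φ _ => ?_
    rw [S.trace_eq_trace_prEl (ρ φ.1) g]
  -- apply the density argument
  haveI : ∀ φ : {φ // φ ∈ s}, (ρ φ.1).IsIrreducible := fun φ => hirr φ.1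
  have hzero := trace_indep (k := S.k) (A := S.k[G]) (ι := {φ // φ ∈ s})
    (fun φ => (ρ φ.1).asModule) (by
      intro i j hij
      refine ⟨fun e => hij ?_⟩
      have h1 := S.brauerChar_equiv (equivOfAsModuleEquiv e)
      rw [hφ i.1, hφ j.1] at h1
      exact Subtype.ext (Subtype.ext h1))
    (fun φ => S.red (c' φ.1)) (by
      intro a
      induction a using MonoidAlgebra.induction_on with
      | of g =>
        rw [← htr g]
        refine Finset.sum_congr rfl fun φ _ => ?_
        rw [trace_actLin_asModule_of]
      | add a b ha hb =>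
        simp only [actLin_add, map_add, mul_add, Finset.sum_add_distrib, ha, hb, add_zero]
      | smul r a ha =>
        simp only [actLin_smul, map_smul, smul_eq_mul]
        have : ∀ φ : {φ // φ ∈ s}, S.red (c' φ.1) * (r * LinearMap.trace S.k _
            (actLin (k := S.k) (ρ φ.1).asModule a))
            = r * (S.red (c' φ.1) * LinearMap.trace S.k _
              (actLin (k := S.k) (ρ φ.1).asModule a)) := fun φ => by ring
        simp only [this, ← Finset.mul_sum, ha, mul_zero])
  have h1 := congrFun hzero ⟨φ1, hφ1s⟩
  simp only [Pi.zero_apply] at h1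
  rw [hc'1, S.red_one] at h1
  exact one_ne_zero h1

end ModSys

end Cfsg.Agent.Lib.Helper6.BrMod
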