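import Mathlib
import Cfsg.Agent.Lib.Helper6.BrMod0

/-!
# Forms of complex representations over the valuation ring of a modular system
-/

set_option autoImplicit false

namespace Cfsg.Agent.Lib.Helper6.BrMod

open Module

namespace ModSys

variable {p : ℕ} (S : ModSys p) {G : Type*} [Group G]

theorem smul_eq_coe_smul {n : ℕ} (a : S.O) (x : Fin n → ℂ) : a • x = (a : ℂ) • x := by
  funext i
  simp only [Pi.smul_apply]
  rfl

/-- Every complex representation of a finite group on a coordinate space has a basis in
which all representing matrices have entries in the valuation ring. -/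
theorem exists_O_form [Finite G] {n : ℕ} (ρ : Representation ℂ G (Fin n → ℂ)) :
    ∃ (ι : Type) (_ : Fintype ι) (_ : DecidableEq ι) (B : Basis ι ℂ (Fin n → ℂ)),
      ∀ g i j, LinearMap.toMatrix B B (ρ g) i j ∈ S.O := by
  classical
  let gens : Set (Fin n → ℂ) := Set.range (fun x : G × Fin n => ρ x.1 (Pi.single x.2 1))
  let L : Submodule S.O (Fin n → ℂ) := Submodule.span S.O gens
  have hfin : Module.Finite S.O L := Module.Finite.span_of_finite S.O (Set.finite_range _)
  have htf : Submodule.torsion S.O L = ⊥ := by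
    rw [eq_bot_iff]
    intro x hx
    rw [Submodule.mem_torsion_iff] at hx
    obtain ⟨a, ha⟩ := hx
    rw [Submodule.mem_bot]
    have ha0 : ((a : S.O) : ℂ) ≠ 0 := by
      intro h
      have : (a : S.O) = 0 := Subtype.ext h
      exact nonZeroDivisors.coe_ne_zero a this
    have h1 : ((a : S.O) • x : L) = 0 := ha
    have h2 : ((a : S.O) : ℂ) • (x : Fin n → ℂ) = 0 := by
      rw [← S.smul_eq_coe_smul]
      have := congrArg (fun y : L => (y : Fin n → ℂ)) h1
      simpa using this
    rcases smul_eq_zero.mp h2 with h | h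
    · exact absurd h ha0
    · exact Subtype.ext h
  have hflat : Module.Flat S.O L := (Module.Flat.flat_iff_torsion_eq_bot_of_isBezout).mpr htf
  have hfree : Module.Free S.O L := Module.free_of_flat_of_isLocalRing
  let ι := Module.Free.ChooseBasisIndex S.O L
  let b : Basis ι S.O L := Module.Free.chooseBasis S.O L
  haveI : Fintype ι := Module.Free.ChooseBasisIndex.fintype S.O L
  let v : ι → (Fin n → ℂ) := fun i => (b i : Fin n → ℂ)
  have hliO : LinearIndependent S.O v :=
    b.linearIndependent.map' L.subtype (Submodule.ker_subtype L)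
  have hliC : LinearIndependent ℂ v := (LinearIndependent.iff_fractionRing S.O ℂ).mp hliO
  -- every element of `L` is an `O`-combination of the `v i`
  have hrepr : ∀ x : L, (x : Fin n → ℂ) = ∑ i, ((b.repr x i : S.O) : ℂ) • v i := by
    intro x
    have h1 := b.sum_repr x
    have h2 := congrArg (fun y : L => (y : Fin n → ℂ)) h1
    simp only [Submodule.coe_sum, Submodule.coe_smul] at h2
    rw [← h2]
    refine Finset.sum_congr rfl fun i _ => ?_
    rw [S.smul_eq_coe_smul]
  have hgen : ∀ (g : G) (i : Fin n), ρ g (Pi.single i 1) ∈ L :=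
    fun g i => Submodule.subset_span ⟨(g, i), rfl⟩
  have hspan : ⊤ ≤ Submodule.span ℂ (Set.range v) := by
    rw [← (Pi.basisFun ℂ (Fin n)).span_eq, Submodule.span_le]
    rintro _ ⟨i, rfl⟩
    have h1 : (Pi.basisFun ℂ (Fin n)) i = ρ 1 (Pi.single i 1) := by
      rw [map_one]; simp
    rw [h1]
    have h2 := hrepr ⟨_, hgen 1 i⟩
    simp only at h2
    rw [h2]
    exact Submodule.sum_mem _ fun j _ =>
      Submodule.smul_mem _ _ (Submodule.subset_span ⟨j, rfl⟩)
  let B : Basis ι ℂ (Fin n → ℂ) := Basis.mk hliC hspan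
  have hB : ∀ i, B i = v i := fun i => Basis.mk_apply hliC hspan i
  -- stability of the lattice
  have hstable : ∀ (g : G) (x : Fin n → ℂ), x ∈ L → ρ g x ∈ L := by
    intro g x hx
    induction hx using Submodule.span_induction with
    | mem x hx =>
      obtain ⟨⟨h, i⟩, rfl⟩ := hx
      have : ρ g (ρ h (Pi.single i 1)) = ρ (g * h) (Pi.single i 1) := by
        rw [map_mul]; rfl
      rw [this]
      exact hgen (g * h) i
    | zero => rw [map_zero]; exact L.zero_mem
    | add x y _ _ hx hy => rw [map_add]; exact L.add_mem hx hy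
    | smul a x _ hx =>
      rw [S.smul_eq_coe_smul, map_smul, ← S.smul_eq_coe_smul]
      exact L.smul_mem a hx
  refine ⟨ι, inferInstance, inferInstance, B, fun g i j => ?_⟩
  rw [LinearMap.toMatrix_apply, hB]
  have hmem : ρ g (v j) ∈ L := hstable g (v j) (b j).2
  have h1 := hrepr ⟨_, hmem⟩
  have h2 : ρ g (v j) = ∑ i, ((b.repr ⟨_, hmem⟩ i : S.O) : ℂ) • B i := by
    simp only at h1
    refine h1.trans ?_
    exact Finset.sum_congr rfl fun i _ => by rw [hB]
  rw [h2, B.repr_sum_self]
  exact (b.repr ⟨_, hmem⟩ i).2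

end ModSys

end Cfsg.Agent.Lib.Helper6.BrMod
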