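import Mathlib
import Cfsg.Agent.Lib.Helper6.BrMod3
import Cfsg.Agent.Lib.Helper6.BrMod6

/-!
# Reduction of complex representations modulo the maximal ideal; decomposition of the
`p`-regular part of a character into irreducible Brauer characters
-/

set_option autoImplicit false

namespace Cfsg.Agent.Lib.Helper6.BrMod

open Module

namespace ModSys

variable {p : ℕ} (S : ModSys p)

section matrices

variable {ι : Type*} [Fintype ι] [DecidableEq ι]

theorem map_red_mul {X Y : Matrix ι ι ℂ} (hX : ∀ i j, X i j ∈ S.O) (hY : ∀ i j, Y i j ∈ S.O) :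
    (X * Y).map S.red = X.map S.red * Y.map S.red := by
  ext i j
  simp only [Matrix.map_apply, Matrix.mul_apply]
  rw [S.red_sum _ _ (fun l _ => S.O.mul_mem _ _ (hX i l) (hY l j))]
  exact Finset.sum_congr rfl fun l _ => S.red_mul (hX i l) (hY l j)

theorem mul_mem_entries {X Y : Matrix ι ι ℂ} (hX : ∀ i j, X i j ∈ S.O) (hY : ∀ i j, Y i j ∈ S.O) :
    ∀ i j, (X * Y) i j ∈ S.O := by
  intro i j
  rw [Matrix.mul_apply]
  exact S.sum_mem _ _ (fun l _ => S.O.mul_mem _ _ (hX i l) (hY l j))

theorem map_red_one : (1 : Matrix ι ι ℂ).map S.red = 1 := by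
  ext i j
  by_cases h : i = j
  · subst h; simp [S.red_one]
  · simp [h, S.red_zero]

theorem map_red_sum {α : Type*} (s : Finset α) (X : α → Matrix ι ι ℂ)
    (hX : ∀ a ∈ s, ∀ i j, X a i j ∈ S.O) :
    (∑ a ∈ s, X a).map S.red = ∑ a ∈ s, (X a).map S.red := by
  ext i j
  simp only [Matrix.map_apply, Matrix.sum_apply]
  exact S.red_sum _ _ (fun a ha => hX a ha i j)

theorem map_red_smul_one {c : ℂ} (hc : c ∈ S.O) :
    (c • (1 : Matrix ι ι ℂ)).map S.red = S.red c • (1 : Matrix ι ι S.k) := by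
  ext i j
  by_cases h : i = j
  · subst h; simp
  · simp [h, S.red_zero]

end matrices

section reduction

variable {G : Type*} [Group G] {V : Type*} [AddCommGroup V] [Module ℂ V]
  {ι : Type} [Fintype ι] [DecidableEq ι]

/-- The reduction modulo the maximal ideal of a complex representation written in a basis in
which it has entries in the valuation ring. -/
noncomputable def redRep (ρ : Representation ℂ G V) (B : Basis ι ℂ V)
    (hB : ∀ g i j, LinearMap.toMatrix B B (ρ g) i j ∈ S.O) : Representation S.k G (ι → S.k) where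
  toFun g := Matrix.toLin' ((LinearMap.toMatrix B B (ρ g)).map S.red)
  map_one' := by
    rw [map_one]
    have : LinearMap.toMatrix B B (1 : Module.End ℂ V) = 1 := LinearMap.toMatrix_one B
    rw [this, S.map_red_one, Matrix.toLin'_one]
    rfl
  map_mul' g h := by
    rw [map_mul]
    have : LinearMap.toMatrix B B (ρ g * ρ h)
        = LinearMap.toMatrix B B (ρ g) * LinearMap.toMatrix B B (ρ h) :=
      LinearMap.toMatrix_mul B (ρ g) (ρ h)
    rw [this, S.map_red_mul (hB g) (hB h), Matrix.toLin'_mul]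
    rfl

theorem redRep_apply (ρ : Representation ℂ G V) (B : Basis ι ℂ V)
    (hB : ∀ g i j, LinearMap.toMatrix B B (ρ g) i j ∈ S.O) (g : G) :
    S.redRep ρ B hB g = Matrix.toLin' ((LinearMap.toMatrix B B (ρ g)).map S.red) := rfl

theorem brauerChar_redRep [Fact p.Prime] [Finite G] [Module.Finite ℂ V]
    (ρ : Representation ℂ G V) (B : Basis ι ℂ V)
    (hB : ∀ g i j, LinearMap.toMatrix B B (ρ g) i j ∈ S.O) :
    S.brauerChar (S.redRep ρ B hB) = Cfsg.pRegularPart p ρ.character := by
  classical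
  funext g
  unfold Cfsg.pRegularPart
  by_cases hg : Cfsg.IsPRegular p g
  · rw [S.brauerChar_of_reg _ hg, if_pos hg, S.redRep_apply]
    rw [S.bch_toLin'_map_red _ (hB g) (orderOf_pos g) hg]
    · rw [← LinearMap.trace_eq_matrix_trace ℂ B (ρ g)]
      rfl
    · rw [LinearMap.toMatrix_pow, ← map_pow, pow_orderOf_eq_one, map_one]
      exact LinearMap.toMatrix_one B
  · rw [S.brauerChar_of_not_reg _ hg, if_neg hg]

theorem redRep_sum (ρ : Representation ℂ G V) (B : Basis ι ℂ V)
    (hB : ∀ g i j, LinearMap.toMatrix B B (ρ g) i j ∈ S.O) (T : Finset G) {c : ℂ} (hc : c ∈ S.O)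
    (h : ∑ x ∈ T, ρ x = c • LinearMap.id) :
    ∑ x ∈ T, S.redRep ρ B hB x = S.red c • LinearMap.id := by
  have h1 : ∑ x ∈ T, LinearMap.toMatrix B B (ρ x) = c • (1 : Matrix ι ι ℂ) := by
    rw [← map_sum, h, map_smul]
    congr 1
    exact LinearMap.toMatrix_id B
  have h2 : (∑ x ∈ T, LinearMap.toMatrix B B (ρ x)).map S.red
      = (c • (1 : Matrix ι ι ℂ)).map S.red := by rw [h1]
  rw [S.map_red_sum _ _ (fun x _ => hB x), S.map_red_smul_one hc] at h2
  have h3 := congrArg Matrix.toLin' h2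
  rw [map_sum, map_smul, Matrix.toLin'_one] at h3
  exact h3

end reduction

section main

variable {G : Type*} [Group G] [Finite G] [Fact p.Prime]

/-- The `p`-regular part of a character is a sum of irreducible Brauer characters; scalar
actions of sums of group elements (with scalars in the valuation ring) are inherited. -/
theorem exists_list_of_rep {n : ℕ} (ρ : Representation ℂ G (Fin n → ℂ))
    (T : Set (Finset G × ℂ))
    (hT : ∀ Tc ∈ T, Tc.2 ∈ S.O ∧ ∑ x ∈ Tc.1, ρ x = Tc.2 • LinearMap.id) :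
    ∃ l : List (G → ℂ),
      (∀ φ ∈ l, φ ∈ S.IBrWith G ((fun Tc : Finset G × ℂ => (Tc.1, S.red Tc.2)) '' T)) ∧
      Cfsg.pRegularPart p ρ.character = l.sum := by
  obtain ⟨ι, _, _, B, hB⟩ := S.exists_O_form ρ
  obtain ⟨l, hl, hsum⟩ := S.exists_list_IBrWith
    ((fun Tc : Finset G × ℂ => (Tc.1, S.red Tc.2)) '' T) _ (ι → S.k) (S.redRep ρ B hB) rfl (by
      rintro _ ⟨Tc, hTc, rfl⟩
      exact S.redRep_sum ρ B hB Tc.1 (hT Tc hTc).1 (hT Tc hTc).2)
  exact ⟨l, hl, by rw [← S.brauerChar_redRep ρ B hB, hsum]⟩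

end main

end ModSys

end Cfsg.Agent.Lib.Helper6.BrMod
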