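import Mathlib
import Cfsg.Agent.Lib.Helper6.BrMod5
import Cfsg.Agent.Lib.Helper6.BrMod7

/-!
# Irreducible modular representations are determined by their Brauer characters
-/

set_option autoImplicit false

namespace Cfsg.Agent.Lib.Helper6.BrMod

open Module
open scoped MonoidAlgebra

section abstract

universe u

variable {k A : Type*} [Field k] [IsAlgClosed k] [Ring A] [Algebra k A]

/-- Two simple modules (finite-dimensional over an algebraically closed field) with the same
trace function are isomorphic. -/
theorem nonempty_equiv_of_trace_eq (V W : Type u) [AddCommGroup V] [Module k V] [Module A V]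
    [IsScalarTower k A V] [Module.Finite k V] [IsSimpleModule A V]
    [AddCommGroup W] [Module k W] [Module A W]
    [IsScalarTower k A W] [Module.Finite k W] [IsSimpleModule A W]
    (h : ∀ a : A, LinearMap.trace k V (actLin (k := k) V a)
      = LinearMap.trace k W (actLin (k := k) W a)) : Nonempty (V ≃ₗ[A] W) := by
  by_contra hne
  rw [not_nonempty_iff] at hne
  let F : Bool → Type u := fun b => cond b V W
  letI i1 : ∀ b, AddCommGroup (F b) := fun b => by
    cases b
    · exact (inferInstance : AddCommGroup W)
    · exact (inferInstance : AddCommGroup V)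
  letI i2 : ∀ b, Module k (F b) := fun b => by
    cases b
    · exact (inferInstance : Module k W)
    · exact (inferInstance : Module k V)
  letI i3 : ∀ b, Module A (F b) := fun b => by
    cases b
    · exact (inferInstance : Module A W)
    · exact (inferInstance : Module A V)
  haveI i4 : ∀ b, IsScalarTower k A (F b) := fun b => by
    cases b
    · exact (inferInstance : IsScalarTower k A W)
    · exact (inferInstance : IsScalarTower k A V)
  haveI i5 : ∀ b, Module.Finite k (F b) := fun b => by
    cases b
    · exact (inferInstance : Module.Finite k W)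
    · exact (inferInstance : Module.Finite k V)
  haveI i6 : ∀ b, IsSimpleModule A (F b) := fun b => by
    cases b
    · exact (inferInstance : IsSimpleModule A W)
    · exact (inferInstance : IsSimpleModule A V)
  have hzero := trace_indep (k := k) (A := A) (ι := Bool) F (by
      intro i j hij
      cases i <;> cases j
      · exact absurd rfl hij
      · exact ⟨fun e => hne.false (e.symm : V ≃ₗ[A] W)⟩
      · exact hne
      · exact absurd rfl hij)
    (fun b => cond b 1 (-1)) (by
      intro a
      rw [Fintype.sum_bool]
      show (1 : k) * LinearMap.trace k V (actLin (k := k) V a)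
        + (-1) * LinearMap.trace k W (actLin (k := k) W a) = 0
      rw [h a]; ring)
  have := congrFun hzero true
  simp at this

end abstract

namespace ModSys

variable {p : ℕ} [Fact p.Prime] (S : ModSys p) {G : Type*} [Group G] [Finite G]

section

variable {V : Type*} [AddCommGroup V] [Module S.k V] [Module.Finite S.k V]

theorem trace_eq_red_brauerChar (ρ : Representation S.k G V) (g : G) :
    LinearMap.trace S.k V (ρ g) = S.red (S.brauerChar ρ (prEl p g)) := by
  rw [S.trace_eq_trace_prEl ρ g]
  exact (S.brauerChar_mem_and_red ρ (prEl_pRegular (p := p) g)).2.symm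

end

/-- Irreducible modular representations with the same Brauer character are equivalent. -/
theorem nonempty_equiv_of_brauerChar_eq {V W : Type} [AddCommGroup V] [Module S.k V]
    [Module.Finite S.k V] [AddCommGroup W] [Module S.k W] [Module.Finite S.k W]
    (ρ : Representation S.k G V) (σ : Representation S.k G W) [ρ.IsIrreducible]
    [σ.IsIrreducible] (h : S.brauerChar ρ = S.brauerChar σ) : Nonempty (ρ.Equiv σ) := by
  have htr : ∀ a : S.k[G], LinearMap.trace S.k ρ.asModule (actLin (k := S.k) ρ.asModule a)
      = LinearMap.trace S.k σ.asModule (actLin (k := S.k) σ.asModule a) := by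
    intro a
    induction a using MonoidAlgebra.induction_on with
    | of g =>
      rw [trace_actLin_asModule_of, trace_actLin_asModule_of, S.trace_eq_red_brauerChar,
        S.trace_eq_red_brauerChar, h]
    | add a b ha hb => simp only [actLin_add, map_add, ha, hb]
    | smul r a ha => simp only [actLin_smul, map_smul, ha]
  obtain ⟨e⟩ := nonempty_equiv_of_trace_eq (k := S.k) (A := S.k[G]) ρ.asModule σ.asModule htr
  exact ⟨equivOfAsModuleEquiv e⟩

/-- The scalars by which sums of group elements act agree for irreducible representations with
the same Brauer character. -/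
theorem scalar_eq_of_brauerChar_eq {V W : Type} [AddCommGroup V] [Module S.k V]
    [Module.Finite S.k V] [AddCommGroup W] [Module S.k W] [Module.Finite S.k W]
    (ρ : Representation S.k G V) (σ : Representation S.k G W) [hρ : ρ.IsIrreducible]
    [σ.IsIrreducible] (h : S.brauerChar ρ = S.brauerChar σ) (T : Finset G) (c d : S.k)
    (hc : ∑ x ∈ T, ρ x = c • LinearMap.id) (hd : ∑ x ∈ T, σ x = d • LinearMap.id) : c = d := by
  obtain ⟨e⟩ := S.nonempty_equiv_of_brauerChar_eq ρ σ h
  haveI : IsSimpleModule S.k[G] ρ.asModule := inferInstance
  have hnt : Nontrivial V := IsSimpleModule.nontrivial S.k[G] ρ.asModule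
  obtain ⟨v, hv⟩ := exists_ne (0 : V)
  have hcomm : ∀ x : G, e.toLinearEquiv (ρ x v) = σ x (e.toLinearEquiv v) := by
    intro x
    exact LinearMap.congr_fun (e.isIntertwining' x) v
  have h1 : e.toLinearEquiv ((∑ x ∈ T, ρ x) v) = (∑ x ∈ T, σ x) (e.toLinearEquiv v) := by
    simp only [LinearMap.sum_apply, map_sum, hcomm]
  rw [hc, hd] at h1
  simp only [LinearMap.smul_apply, LinearMap.id_apply, map_smul] at h1
  have hev : e.toLinearEquiv v ≠ 0 := by
    intro h0
    exact hv (e.toLinearEquiv.map_eq_zero_iff.mp h0)
  have h2 : (c - d) • e.toLinearEquiv v = 0 := by rw [sub_smul, h1, sub_self]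
  rcases smul_eq_zero.mp h2 with h3 | h3
  · exact sub_eq_zero.mp h3
  · exact absurd h3 hev

end ModSys

end Cfsg.Agent.Lib.Helper6.BrMod
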