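import Mathlib
import Cfsg.Agent.Lib.Helper6.BrMod8
import Cfsg.Agent.Lib.Helper6.CentralChar
import Cfsg.Agent.Lib.Helper6.BlkIdem
import Cfsg.Agent.Lib.Helper6.SecondOrth
import Cfsg.Agent.Lib.Helper6.Auto
import Cfsg.Agent.Lib.Helper6.IrrBasis

/-!
# Decomposition numbers, the projective indecomposable characters, and blocks
-/

set_option autoImplicit false

namespace Cfsg.Agent.Lib.Helper6.BrMod

open Module
open scoped ComplexConjugate

theorem list_sum_eq_sum_count {N : Type*} [AddCommMonoid N] (s : Set N) [Fintype s]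
    (l : List N) (hl : ∀ x ∈ l, x ∈ s) :
    l.sum = ∑ x : s, (by classical exact l.count x.1) • x.1 := by
  classical
  rw [Finset.sum_list_count]
  rw [Finset.sum_set_coe (s := s) (f := fun x => l.count x • x)]
  apply Finset.sum_subset
  · intro x hx
    rw [Set.mem_toFinset]
    exact hl x (List.mem_toFinset.mp hx)
  · intro x _ hx
    rw [List.mem_toFinset] at hx
    rw [List.count_eq_zero_of_not_mem hx, zero_smul]

namespace ModSys

variable {p : ℕ} [Fact p.Prime] (S : ModSys p) {G : Type*} [Group G] [Finite G]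

instance finite_IBr : Finite (S.IBr G) :=
  (S.linearIndependent_IBr (G := G)).finite_of_isNoetherian

noncomputable instance fintype_IBr : Fintype (S.IBr G) := Fintype.ofFinite _

/-- The class sums together with the scalars by which they act in a representation with
character `χ`. -/
noncomputable def classData (χ : G → ℂ) : Set (Finset G × ℂ) := by
  classical
  haveI := Fintype.ofFinite G
  exact Set.range (fun g : G =>
    ((Finset.univ.filter (fun x : G => IsConj g x), Cfsg.centralChar χ g) : Finset G × ℂ))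

/-- The reduced class data. -/
noncomputable def classDataRed (χ : G → ℂ) : Set (Finset G × S.k) :=
  (fun Tc : Finset G × ℂ => (Tc.1, S.red Tc.2)) '' classData χ

theorem exists_list_irr (χ : Cfsg.IrrCharacter G) :
    ∃ l : List (G → ℂ), (∀ φ ∈ l, φ ∈ S.IBrWith G (S.classDataRed (χ : G → ℂ))) ∧
      Cfsg.pRegularPart p (χ : G → ℂ) = l.sum := by
  classical
  letI := Fintype.ofFinite G
  obtain ⟨n, ρ, hirr, hρ⟩ := χ.2
  haveI := hirr
  have := S.exists_list_of_rep ρ (classData (χ : G → ℂ)) (by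
    rintro _ ⟨g, rfl⟩
    refine ⟨S.int_mem _ (IsIrrCharacter.isIntegral_centralChar' χ.2 g), ?_⟩
    have h1 := classOp_eq_centralChar_smul ρ g
    rw [classOp_eq_sum, hρ] at h1
    exact h1)
  rw [hρ] at this
  exact this

theorem exists_dnum (χ : Cfsg.IrrCharacter G) :
    ∃ d : S.IBr G → ℕ, Cfsg.pRegularPart p (χ : G → ℂ) = ∑ φ, (d φ : ℂ) • (φ : G → ℂ) ∧
      ∀ φ, d φ ≠ 0 → (φ : G → ℂ) ∈ S.IBrWith G (S.classDataRed (χ : G → ℂ)) := by
  classical
  obtain ⟨l, hl, hsum⟩ := S.exists_list_irr χ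
  have hl' : ∀ x ∈ l, x ∈ S.IBr G := fun x hx => S.IBrWith_subset_IBr _ (hl x hx)
  refine ⟨fun φ => l.count φ.1, ?_, ?_⟩
  · rw [hsum, list_sum_eq_sum_count (S.IBr G) l hl']
    refine Finset.sum_congr rfl fun φ _ => ?_
    rw [← Nat.cast_smul_eq_nsmul ℂ]
  · intro φ hφ
    exact hl _ (List.count_pos_iff.mp (Nat.pos_of_ne_zero hφ))

/-- The decomposition numbers. -/
noncomputable def dnum (χ : Cfsg.IrrCharacter G) : S.IBr G → ℕ := (S.exists_dnum χ).choose

theorem pRegularPart_eq_sum_dnum (χ : Cfsg.IrrCharacter G) :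
    Cfsg.pRegularPart p (χ : G → ℂ) = ∑ φ, (S.dnum χ φ : ℂ) • (φ : G → ℂ) :=
  (S.exists_dnum χ).choose_spec.1

theorem mem_IBrWith_of_dnum_ne_zero (χ : Cfsg.IrrCharacter G) (φ : S.IBr G)
    (h : S.dnum χ φ ≠ 0) : (φ : G → ℂ) ∈ S.IBrWith G (S.classDataRed (χ : G → ℂ)) :=
  (S.exists_dnum χ).choose_spec.2 φ h

theorem IBr_apply_of_not_reg (φ : S.IBr G) {g : G} (hg : ¬ Cfsg.IsPRegular p g) :
    (φ : G → ℂ) g = 0 := by
  obtain ⟨n, ρ, _, hρ⟩ := S.mem_IBr_iff.mp φ.2
  rw [← hρ]
  exact S.brauerChar_of_not_reg ρ hg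

theorem IBr_isClassFunction (φ : S.IBr G) : Cfsg.IsClassFunction G (φ : G → ℂ) := by
  obtain ⟨n, ρ, _, hρ⟩ := S.mem_IBr_iff.mp φ.2
  rw [← hρ]
  exact S.brauerChar_isClassFunction ρ

theorem IBr_apply_one (φ : S.IBr G) : ∃ n : ℕ, 0 < n ∧ (φ : G → ℂ) 1 = (n : ℂ) := by
  obtain ⟨n, ρ, hirr, hρ⟩ := S.mem_IBr_iff.mp φ.2
  refine ⟨n, ?_, ?_⟩
  · haveI := hirr
    haveI : IsSimpleModule (MonoidAlgebra S.k G) ρ.asModule := inferInstance
    have hnt : Nontrivial (Fin n → S.k) := IsSimpleModule.nontrivial (MonoidAlgebra S.k G) ρ.asModule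
    by_contra h0
    have : n = 0 := by omega
    subst this
    exact not_subsingleton (Fin 0 → S.k) inferInstance
  · rw [← hρ, S.brauerChar_one]
    simp

/-- The projective indecomposable character attached to `φ` vanishes at the `p`-singular
elements. -/
theorem sum_dnum_mul_eq_zero [Fintype (Cfsg.IrrCharacter G)] (φ : S.IBr G) {y : G} (hy : ¬ Cfsg.IsPRegular p y) :
    ∑ χ : Cfsg.IrrCharacter G, (S.dnum χ φ : ℂ) * (χ : G → ℂ) y = 0 := by
  classical
  haveI := Fintype.ofFinite G
  -- the coefficients `a μ = ∑_χ d_{χ μ} χ(y)` give a linear relation among the `μ`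
  have hrel : ∑ μ : S.IBr G,
      (∑ χ : Cfsg.IrrCharacter G, (S.dnum χ μ : ℂ) * (χ : G → ℂ) y) • (μ : G → ℂ) = 0 := by
    funext x
    simp only [Finset.sum_apply, Pi.smul_apply, smul_eq_mul, Pi.zero_apply]
    by_cases hx : Cfsg.IsPRegular p x
    · -- column orthogonality between `y` and `x⁻¹`
      have hxinv : Cfsg.IsPRegular p x⁻¹ := by
        unfold Cfsg.IsPRegular at hx ⊢; rwa [orderOf_inv]
      have hnc : ¬ IsConj y x⁻¹ := by
        intro hc
        obtain ⟨c, hc⟩ := isConj_iff.mp hc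
        apply hy
        unfold Cfsg.IsPRegular at hxinv ⊢
        have : orderOf y = orderOf x⁻¹ := by
          rw [← hc]
          exact (orderOf_injective (MulAut.conj c).toMonoidHom (MulAut.conj c).injective y).symm
        rwa [this]
      have horth := (sum_irr_mul_conj y x⁻¹).2 hnc
      have hval : ∀ χ : Cfsg.IrrCharacter G, conj ((χ : G → ℂ) x⁻¹)
          = ∑ μ : S.IBr G, (S.dnum χ μ : ℂ) * (μ : G → ℂ) x := by
        intro χ
        rw [← IsCharacter.apply_inv (IsIrrCharacter.isCharacter χ.2), inv_inv]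
        have h1 := congrFun (S.pRegularPart_eq_sum_dnum χ) x
        unfold Cfsg.pRegularPart at h1
        rw [if_pos hx] at h1
        rw [h1]
        simp [Finset.sum_apply]
      calc ∑ μ : S.IBr G, (∑ χ : Cfsg.IrrCharacter G, (S.dnum χ μ : ℂ) * (χ : G → ℂ) y)
            * (μ : G → ℂ) x
          = ∑ χ : Cfsg.IrrCharacter G, (χ : G → ℂ) y
              * ∑ μ : S.IBr G, (S.dnum χ μ : ℂ) * (μ : G → ℂ) x := by
            simp only [Finset.sum_mul, Finset.mul_sum]
            rw [Finset.sum_comm]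
            refine Finset.sum_congr rfl fun χ _ => Finset.sum_congr rfl fun μ _ => ?_
            ring
        _ = ∑ χ : Cfsg.IrrCharacter G, (χ : G → ℂ) y * conj ((χ : G → ℂ) x⁻¹) := by
            refine Finset.sum_congr rfl fun χ _ => ?_
            rw [hval χ]
        _ = 0 := horth
    · refine Finset.sum_eq_zero fun μ _ => ?_
      rw [S.IBr_apply_of_not_reg μ hx, mul_zero]
  have hli := S.linearIndependent_IBr (G := G)
  rw [Fintype.linearIndependent_iff] at hli
  exact hli _ hrel φ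

end ModSys

end Cfsg.Agent.Lib.Helper6.BrMod
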