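import Mathlib
import Cfsg.Agent.Lib.Helper6.BrMod9
import Cfsg.Agent.Lib.Helper6.ClassFun
import Cfsg.Agent.Lib.Helper6.BlkCover3

/-!
# Irreducible Brauer characters and blocks: the `p`-regular rank of a block is its number of
irreducible Brauer characters
-/

set_option autoImplicit false

namespace Cfsg.Agent.Lib.Helper6.BrMod

open Module
open scoped ComplexConjugate

theorem pRegularPart_sum' {G : Type*} [Group G] {p : ℕ} {ι : Type*} (s : Finset ι) (c : ι → ℂ)
    (f : ι → G → ℂ) :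
    Cfsg.pRegularPart p (∑ i ∈ s, c i • f i) = ∑ i ∈ s, c i • Cfsg.pRegularPart p (f i) := by
  classical
  funext g
  rw [Finset.sum_apply]
  simp only [Pi.smul_apply, Cfsg.pRegularPart]
  by_cases hg : Cfsg.IsPRegular p g
  · simp only [if_pos hg, Finset.sum_apply, Pi.smul_apply]
  · simp only [if_neg hg, smul_zero, Finset.sum_const_zero]

namespace ModSys

variable {p : ℕ} [Fact p.Prime] (S : ModSys p) {G : Type*} [Group G] [Finite G]
  {M : Ideal Cfsg.AlgInt}

/-- Two irreducible characters having a common irreducible Brauer constituent lie in the same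
block. -/
theorem sameBlock_of_dnum_ne_zero (hM : Cfsg.IsPModular p M)
    (hS : ∀ a : Cfsg.AlgInt, a ∈ M ↔ (a : ℂ) ∈ S.O.nonunits)
    (χ ψ : Cfsg.IrrCharacter G) (φ : S.IBr G) (h1 : S.dnum χ φ ≠ 0) (h2 : S.dnum ψ φ ≠ 0) :
    Cfsg.SameBlock M (χ : G → ℂ) (ψ : G → ℂ) := by
  classical
  letI := Fintype.ofFinite G
  obtain ⟨n1, ρ1, irr1, hT1, hb1⟩ := S.mem_IBrWith_of_dnum_ne_zero χ φ h1
  obtain ⟨n2, ρ2, irr2, hT2, hb2⟩ := S.mem_IBrWith_of_dnum_ne_zero ψ φ h2
  intro g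
  have hmem1 : ((Finset.univ.filter (fun x : G => IsConj g x),
      S.red (Cfsg.centralChar (χ : G → ℂ) g)) : Finset G × S.k) ∈ S.classDataRed (χ : G → ℂ) :=
    ⟨(Finset.univ.filter (fun x : G => IsConj g x), Cfsg.centralChar (χ : G → ℂ) g),
      ⟨g, rfl⟩, rfl⟩
  have hmem2 : ((Finset.univ.filter (fun x : G => IsConj g x),
      S.red (Cfsg.centralChar (ψ : G → ℂ) g)) : Finset G × S.k) ∈ S.classDataRed (ψ : G → ℂ) :=
    ⟨(Finset.univ.filter (fun x : G => IsConj g x), Cfsg.centralChar (ψ : G → ℂ) g),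
      ⟨g, rfl⟩, rfl⟩
  have hc := hT1 _ hmem1
  have hd := hT2 _ hmem2
  haveI := irr1
  haveI := irr2
  have heq := S.scalar_eq_of_brauerChar_eq ρ1 ρ2 (hb1.trans hb2.symm) _ _ _ hc hd
  have hi1 := IsIrrCharacter.isIntegral_centralChar' χ.2 g
  have hi2 := IsIrrCharacter.isIntegral_centralChar' ψ.2 g
  rw [S.red_eq_iff (S.int_mem _ hi1) (S.int_mem _ hi2)] at heq
  have hint : IsIntegral ℤ (Cfsg.centralChar (χ : G → ℂ) g - Cfsg.centralChar (ψ : G → ℂ) g) :=
    hi1.sub hi2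
  let a : Cfsg.AlgInt := ⟨_, hint⟩
  have ha : a ∈ M := (hS a).mpr heq
  exact memLocalIdeal_coe hM ha

/-- The irreducible Brauer characters belonging to a set of irreducible characters. -/
def IBrOf (B : Set (Cfsg.IrrCharacter G)) : Set (S.IBr G) := {φ | ∃ χ ∈ B, S.dnum χ φ ≠ 0}

theorem dnum_eq_zero_of_not_mem (hM : Cfsg.IsPModular p M)
    (hS : ∀ a : Cfsg.AlgInt, a ∈ M ↔ (a : ℂ) ∈ S.O.nonunits)
    {B : Set (Cfsg.IrrCharacter G)} (hB : Cfsg.IsPBlock M B) {χ : Cfsg.IrrCharacter G}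
    (hχ : χ ∉ B) {φ : S.IBr G} (hφ : φ ∈ S.IBrOf B) : S.dnum χ φ = 0 := by
  by_contra hne
  obtain ⟨ψ, hψ, hψφ⟩ := hφ
  obtain ⟨χ₀, rfl⟩ := hB
  apply hχ
  have h1 : Cfsg.SameBlock M (ψ : G → ℂ) (χ : G → ℂ) :=
    S.sameBlock_of_dnum_ne_zero hM hS ψ χ φ hψφ hne
  exact SameBlock.trans' hM hψ h1

theorem dnum_eq_zero_of_mem_of_not_mem
    {B : Set (Cfsg.IrrCharacter G)} {χ : Cfsg.IrrCharacter G}
    (hχ : χ ∈ B) {φ : S.IBr G} (hφ : φ ∉ S.IBrOf B) : S.dnum χ φ = 0 := by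
  by_contra hne
  exact hφ ⟨χ, hχ, hne⟩

/-- The `p`-regular rank of a block equals the number of its irreducible Brauer characters. -/
theorem blockRank_eq_card_IBrOf (hM : Cfsg.IsPModular p M)
    (hS : ∀ a : Cfsg.AlgInt, a ∈ M ↔ (a : ℂ) ∈ S.O.nonunits)
    {B : Set (Cfsg.IrrCharacter G)} (hB : Cfsg.IsPBlock M B) :
    Cfsg.blockRank p B = Nat.card (S.IBrOf B) := by
  classical
  letI := Fintype.ofFinite G
  letI : Fintype (Cfsg.IrrCharacter G) := Fintype.ofFinite _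
  have hli := S.linearIndependent_IBr (G := G)
  set v : S.IBr G → (G → ℂ) := fun φ => (φ : G → ℂ) with hv
  set W : Submodule ℂ (G → ℂ) := Submodule.span ℂ
    ((fun χ : Cfsg.IrrCharacter G => Cfsg.pRegularPart p (χ : G → ℂ)) '' B) with hW
  set U : Submodule ℂ (G → ℂ) := Submodule.span ℂ (v '' S.IBrOf B) with hU
  set U' : Submodule ℂ (G → ℂ) := Submodule.span ℂ (v '' (S.IBrOf B)ᶜ) with hU'
  have hdisj : Disjoint U U' := hli.disjoint_span_image disjoint_compl_right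
  -- `W ≤ U`
  have hWU : W ≤ U := by
    rw [hW, Submodule.span_le]
    rintro _ ⟨χ, hχ, rfl⟩
    show Cfsg.pRegularPart p (χ : G → ℂ) ∈ U
    rw [S.pRegularPart_eq_sum_dnum χ]
    refine Submodule.sum_mem _ fun φ _ => ?_
    by_cases hφ : φ ∈ S.IBrOf B
    · exact Submodule.smul_mem _ _ (Submodule.subset_span ⟨φ, hφ, rfl⟩)
    · rw [S.dnum_eq_zero_of_mem_of_not_mem hχ hφ]; simp
  -- characters outside the block only involve Brauer characters outside the block
  have hW'U' : ∀ χ : Cfsg.IrrCharacter G, χ ∉ B → Cfsg.pRegularPart p (χ : G → ℂ) ∈ U' := by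
    intro χ hχ
    rw [S.pRegularPart_eq_sum_dnum χ]
    refine Submodule.sum_mem _ fun φ _ => ?_
    by_cases hφ : φ ∈ S.IBrOf B
    · rw [S.dnum_eq_zero_of_not_mem hM hS hB hχ hφ]; simp
    · exact Submodule.smul_mem _ _ (Submodule.subset_span ⟨φ, hφ, rfl⟩)
  -- `U ≤ W`
  have hUW : U ≤ W := by
    rw [hU, Submodule.span_le]
    rintro _ ⟨φ0, hφ0, rfl⟩
    have hcf := classFunction_eq_sum (v φ0) (S.IBr_isClassFunction φ0)
    have hreg : Cfsg.pRegularPart p (v φ0) = v φ0 := by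
      funext g
      unfold Cfsg.pRegularPart
      by_cases hg : Cfsg.IsPRegular p g
      · rw [if_pos hg]
      · rw [if_neg hg]; exact (S.IBr_apply_of_not_reg φ0 hg).symm
    have hsum : v φ0 = ∑ χ : Cfsg.IrrCharacter G,
        Cfsg.classInner (v φ0) (χ : G → ℂ) • Cfsg.pRegularPart p (χ : G → ℂ) := by
      conv_lhs => rw [← hreg, hcf]
      exact pRegularPart_sum' _ _ _
    set w : G → ℂ := ∑ χ ∈ Finset.univ.filter (· ∈ B),
        Cfsg.classInner (v φ0) (χ : G → ℂ) • Cfsg.pRegularPart p (χ : G → ℂ) with hw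
    set w' : G → ℂ := ∑ χ ∈ Finset.univ.filter (· ∉ B),
        Cfsg.classInner (v φ0) (χ : G → ℂ) • Cfsg.pRegularPart p (χ : G → ℂ) with hw'
    have hsplit : v φ0 = w + w' := by
      rw [hsum, hw, hw']
      exact (Finset.sum_filter_add_sum_filter_not Finset.univ (· ∈ B) _).symm
    have hwW : w ∈ W := by
      refine Submodule.sum_mem _ fun χ hχ => Submodule.smul_mem _ _ (Submodule.subset_span ?_)
      exact ⟨χ, (Finset.mem_filter.mp hχ).2, rfl⟩
    have hw'U' : w' ∈ U' := by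
      refine Submodule.sum_mem _ fun χ hχ => Submodule.smul_mem _ _ ?_
      exact hW'U' χ (Finset.mem_filter.mp hχ).2
    have hw'U : w' ∈ U := by
      have : w' = v φ0 - w := by rw [hsplit]; abel
      rw [this]
      exact U.sub_mem (Submodule.subset_span ⟨φ0, hφ0, rfl⟩) (hWU hwW)
    have hw'0 : w' = 0 := by
      have := Submodule.disjoint_def.mp hdisj w' hw'U hw'U'
      exact this
    show v φ0 ∈ W
    rw [hsplit, hw'0, add_zero]
    exact hwW
  have hWeqU : W = U := le_antisymm hWU hUW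
  unfold Cfsg.blockRank
  rw [← hW, hWeqU, hU]
  -- dimension of the span of an independent family
  have hli' : LinearIndependent ℂ (fun x : S.IBrOf B => v x.1) :=
    hli.comp (Subtype.val : S.IBrOf B → S.IBr G) Subtype.val_injective
  rw [Set.image_eq_range, finrank_span_eq_card hli']
  rw [Nat.card_eq_fintype_card]

end ModSys

end Cfsg.Agent.Lib.Helper6.BrMod
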