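import Mathlib
import Cfsg.Agent.Lib.Helper6.BrMod10
import Cfsg.Agent.Lib.Helper6.Regular
import Cfsg.Agent.Lib.Helper6.Constituent

/-!
# Groups of order prime to `p`: irreducible Brauer characters are irreducible characters
-/

set_option autoImplicit false

namespace Cfsg.Agent.Lib.Helper6.BrMod

open Module
open scoped ComplexConjugate

namespace ModSys

variable {p : ℕ} [Fact p.Prime] (S : ModSys p) {G : Type*} [Group G] [Finite G]

/-- Every irreducible Brauer character occurs in the `p`-regular part of some irreducible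
character. -/
theorem exists_dnum_ne_zero (φ : S.IBr G) : ∃ χ : Cfsg.IrrCharacter G, S.dnum χ φ ≠ 0 := by
  classical
  letI := Fintype.ofFinite G
  letI : Fintype (Cfsg.IrrCharacter G) := Fintype.ofFinite _
  by_contra hcon
  push_neg at hcon
  have hcf := classFunction_eq_sum (φ : G → ℂ) (S.IBr_isClassFunction φ)
  have hreg : Cfsg.pRegularPart p (φ : G → ℂ) = (φ : G → ℂ) := by
    funext g
    unfold Cfsg.pRegularPart
    by_cases hg : Cfsg.IsPRegular p g
    · rw [if_pos hg]
    · rw [if_neg hg]; exact (S.IBr_apply_of_not_reg φ hg).symm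
  have hsum : (φ : G → ℂ) = ∑ μ : S.IBr G, (∑ χ : Cfsg.IrrCharacter G,
      Cfsg.classInner (φ : G → ℂ) (χ : G → ℂ) * (S.dnum χ μ : ℂ)) • (μ : G → ℂ) := by
    conv_lhs => rw [← hreg, hcf, pRegularPart_sum']
    simp only [S.pRegularPart_eq_sum_dnum, Finset.smul_sum, smul_smul]
    rw [Finset.sum_comm]
    refine Finset.sum_congr rfl fun μ _ => ?_
    rw [Finset.sum_smul]
  have hli := S.linearIndependent_IBr (G := G)
  rw [Fintype.linearIndependent_iff] at hli
  have hrel : ∑ μ : S.IBr G, ((∑ χ : Cfsg.IrrCharacter G,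
      Cfsg.classInner (φ : G → ℂ) (χ : G → ℂ) * (S.dnum χ μ : ℂ)) - if μ = φ then 1 else 0)
        • (μ : G → ℂ) = 0 := by
    simp only [sub_smul, Finset.sum_sub_distrib]
    rw [← hsum]
    simp
  have h1 := hli _ hrel φ
  rw [if_pos rfl] at h1
  simp only [hcon, Nat.cast_zero, mul_zero, Finset.sum_const_zero, zero_sub, neg_eq_zero] at h1
  exact one_ne_zero h1

section traces

universe u

variable {V : Type u} [AddCommGroup V] [Module S.k V] [Module.Finite S.k V]

theorem IBr_mem (φ : S.IBr G) (g : G) : (φ : G → ℂ) g ∈ S.O := by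
  obtain ⟨n, ρ, _, hρ⟩ := S.mem_IBr_iff.mp φ.2
  rw [← hρ]
  exact S.brauerChar_mem ρ g

theorem list_sum_mem (l : List (G → ℂ)) (hl : ∀ φ ∈ l, φ ∈ S.IBr G) (g : G) :
    l.sum g ∈ S.O := by
  induction l with
  | nil => simpa using S.O.zero_mem
  | cons b l ih =>
    simp only [List.sum_cons, Pi.add_apply]
    exact S.O.add_mem _ _ (S.IBr_mem ⟨b, hl b List.mem_cons_self⟩ g)
      (ih (fun φ hφ => hl φ (List.mem_cons_of_mem b hφ)))

/-- The trace of a modular representation is the sum of the reductions of its irreducible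
Brauer constituents (evaluated at `p'`-parts). -/
theorem exists_list_trace (ρ : Representation S.k G V) :
    ∃ l : List (S.IBr G), ∀ g : G, LinearMap.trace S.k V (ρ g)
      = (l.map fun φ : S.IBr G => S.red (φ.1 (prEl p g))).sum := by
  classical
  obtain ⟨l, hl, hsum⟩ := S.exists_list_IBrWith (G := G) ∅ _ V ρ rfl (by simp)
  have hl' : ∀ φ ∈ l, φ ∈ S.IBr G := fun φ hφ => S.IBrWith_subset_IBr _ (hl φ hφ)
  refine ⟨l.pmap (fun φ h => (⟨φ, h⟩ : S.IBr G)) hl', fun g => ?_⟩
  rw [S.trace_eq_red_brauerChar, hsum]
  clear hsum hl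
  induction l with
  | nil => simp [S.red_zero]
  | cons a l ih =>
    have ha : a ∈ S.IBr G := hl' a (List.mem_cons_self)
    have hl'' : ∀ φ ∈ l, φ ∈ S.IBr G := fun φ hφ => hl' φ (List.mem_cons_of_mem a hφ)
    rw [List.sum_cons, Pi.add_apply, S.red_add (S.IBr_mem ⟨a, ha⟩ _) (S.list_sum_mem l hl'' _),
      ih hl'', List.pmap_cons, List.map_cons, List.sum_cons]

end traces

/-- The regular representation on functions. -/
def regRep (k : Type*) (G : Type*) [Field k] [Group G] : Representation k G (G → k) where
  toFun g :=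
    { toFun := fun f h => f (g⁻¹ * h)
      map_add' := fun _ _ => rfl
      map_smul' := fun _ _ => rfl }
  map_one' := by
    apply LinearMap.ext; intro f; funext h
    simp
  map_mul' a b := by
    apply LinearMap.ext; intro f; funext h
    simp [mul_assoc]

theorem regRep_apply (k : Type*) [Field k] (g : G) (f : G → k) (h : G) :
    regRep k G g f h = f (g⁻¹ * h) := rfl

/-- The trace of the regular representation. -/
theorem trace_regRep (k : Type*) [Field k] [Fintype G] [DecidableEq G] (g : G) :
    LinearMap.trace k (G → k) (regRep k G g) = if g = 1 then (Fintype.card G : k) else 0 := by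
  rw [LinearMap.trace_eq_matrix_trace k (Pi.basisFun k G), Matrix.trace]
  simp only [Matrix.diag_apply, LinearMap.toMatrix_apply, Pi.basisFun_apply, Pi.basisFun_repr,
    regRep_apply, Pi.single_apply]
  split_ifs with hg
  · subst hg; simp
  · have : ∀ h : G, ¬ (g⁻¹ * h = h) := fun h hh => hg (by simpa using hh)
    simp [this]

/-- If `p` does not divide the group order, a function on the group annihilating all
irreducible modular representations is zero. -/
theorem eq_zero_of_forall_irr [Fintype G] (hG : ¬ p ∣ Nat.card G) (a : G → S.k)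
    (h : ∀ (n : ℕ) (ρ : Representation S.k G (Fin n → S.k)), ρ.IsIrreducible →
      ∑ g : G, a g • ρ g = 0) : a = 0 := by
  classical
  -- first: `a 1 = 0` for every such `a`
  have key : ∀ b : G → S.k, (∀ (n : ℕ) (ρ : Representation S.k G (Fin n → S.k)),
      ρ.IsIrreducible → ∑ g : G, b g • ρ g = 0) → b 1 = 0 := by
    intro b hb
    obtain ⟨l, hl⟩ := S.exists_list_trace (regRep S.k G)
    have h1 : ∑ g : G, b g * LinearMap.trace S.k (G → S.k) (regRep S.k G g)
        = (Fintype.card G : S.k) * b 1 := by
      simp only [trace_regRep, mul_ite, mul_zero, Finset.sum_ite_eq', Finset.mem_univ, if_true]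
      ring
    have h2 : ∑ g : G, b g * LinearMap.trace S.k (G → S.k) (regRep S.k G g) = 0 := by
      simp only [hl]
      have : ∀ (l : List (S.IBr G)), ∑ g : G, b g *
          (l.map fun φ : S.IBr G => S.red (φ.1 (prEl p g))).sum = 0 := by
        intro l
        induction l with
        | nil => simp
        | cons φ l ih =>
          simp only [List.map_cons, List.sum_cons, mul_add, Finset.sum_add_distrib, ih, add_zero]
          obtain ⟨n, ρ, hirr, hρ⟩ := S.mem_IBr_iff.mp φ.2
          have h3 := hb n ρ hirr
          have h4 := congrArg (LinearMap.trace S.k (Fin n → S.k)) h3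
          rw [map_sum, map_zero] at h4
          rw [← h4]
          refine Finset.sum_congr rfl fun g _ => ?_
          rw [map_smul, smul_eq_mul, S.trace_eq_red_brauerChar, hρ]
      exact this l
    rw [h2] at h1
    have hc : (Fintype.card G : S.k) ≠ 0 := by
      rw [← Nat.card_eq_fintype_card]
      exact S.natCast_ne_zero hG
    rcases mul_eq_zero.mp h1.symm with h5 | h5
    · exact absurd h5 hc
    · exact h5
  funext x
  have := key (fun g => a (g * x)) (by
    intro n ρ hirr
    have h1 := h n ρ hirr
    have h2 : ∑ g : G, a (g * x) • ρ g = (∑ g : G, a g • ρ g) * ρ x⁻¹ := by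
      rw [Finset.sum_mul]
      rw [← Equiv.sum_comp (Equiv.mulRight x) (fun g => a g • ρ g * ρ x⁻¹)]
      refine Finset.sum_congr rfl fun g _ => ?_
      simp only [Equiv.coe_mulRight, smul_mul_assoc]
      rw [← map_mul, mul_assoc, mul_inv_cancel, mul_one]
    rw [h2, h1, zero_mul])
  simpa using this

end ModSys

end Cfsg.Agent.Lib.Helper6.BrMod
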