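import Mathlib
import Cfsg.Agent.Lib.Helper6.BrMod11

/-!
# Groups of order prime to `p`: irreducible Brauer characters are irreducible characters
(counting argument)
-/

set_option autoImplicit false

namespace Cfsg.Agent.Lib.Helper6.BrMod

open Module
open scoped ComplexConjugate

section arith

variable {ι : Type*} [Fintype ι] [DecidableEq ι]

theorem sum_sq_le_sq_sum (s : Finset ι) (y : ι → ℕ) : ∑ i ∈ s, y i ^ 2 ≤ (∑ i ∈ s, y i) ^ 2 := by
  induction s using Finset.induction_on with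
  | empty => simp
  | insert a s ha ih =>
    rw [Finset.sum_insert ha, Finset.sum_insert ha]
    nlinarith [Nat.zero_le (y a), Nat.zero_le (∑ i ∈ s, y i)]

theorem eq_zero_of_sq_sum_eq (y : ι → ℕ) (h : (∑ i, y i) ^ 2 = ∑ i, y i ^ 2) (i0 : ι)
    (h0 : 1 ≤ y i0) : ∀ i, i ≠ i0 → y i = 0 := by
  have hs1 : ∑ i, y i = y i0 + ∑ i ∈ Finset.univ.erase i0, y i :=
    (Finset.add_sum_erase Finset.univ y (Finset.mem_univ i0)).symm
  have hs2 : ∑ i, y i ^ 2 = y i0 ^ 2 + ∑ i ∈ Finset.univ.erase i0, y i ^ 2 :=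
    (Finset.add_sum_erase Finset.univ (fun i => y i ^ 2) (Finset.mem_univ i0)).symm
  have h4 := sum_sq_le_sq_sum (Finset.univ.erase i0) y
  set s := ∑ i ∈ Finset.univ.erase i0, y i with hs
  rw [hs1, hs2] at h
  have hs0 : s = 0 := by
    by_contra hne
    have : 1 ≤ s := Nat.one_le_iff_ne_zero.mpr hne
    nlinarith
  intro i hi
  have := Finset.sum_eq_zero_iff.mp hs0 i (Finset.mem_erase.mpr ⟨hi, Finset.mem_univ i⟩)
  exact this

theorem exists_unique_of_sum_sq_eq_one (y : ι → ℕ) (h : ∑ i, y i ^ 2 = 1) :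
    ∃ i0, y i0 = 1 ∧ ∀ i, i ≠ i0 → y i = 0 := by
  have hex : ∃ i0, y i0 ≠ 0 := by
    by_contra hcon
    push_neg at hcon
    simp [hcon] at h
  obtain ⟨i0, hi0⟩ := hex
  have hs2 : ∑ i, y i ^ 2 = y i0 ^ 2 + ∑ i ∈ Finset.univ.erase i0, y i ^ 2 :=
    (Finset.add_sum_erase Finset.univ (fun i => y i ^ 2) (Finset.mem_univ i0)).symm
  rw [hs2] at h
  have h1 : 1 ≤ y i0 := Nat.one_le_iff_ne_zero.mpr hi0
  have hle : y i0 ^ 2 ≤ 1 := by rw [← h]; exact Nat.le_add_right _ _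
  have h2 : y i0 = 1 := by
    by_contra hc
    have : 2 ≤ y i0 := by omega
    nlinarith
  have h3 : ∑ i ∈ Finset.univ.erase i0, y i ^ 2 = 0 := by
    rw [h2] at h; omega
  refine ⟨i0, h2, fun i hi => ?_⟩
  have := Finset.sum_eq_zero_iff.mp h3 i (Finset.mem_erase.mpr ⟨hi, Finset.mem_univ i⟩)
  exact pow_eq_zero_iff (two_ne_zero) |>.mp this

end arith

namespace ModSys

variable {p : ℕ} [Fact p.Prime] (S : ModSys p) {G : Type*} [Group G] [Finite G]

/-- For a group of order prime to `p`, the order is at most the sum of the squares of the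
degrees of the irreducible Brauer characters. -/
theorem card_le_sum_sq (hG : ¬ p ∣ Nat.card G) (n : S.IBr G → ℕ)
    (hn : ∀ φ : S.IBr G, (φ : G → ℂ) 1 = (n φ : ℂ)) :
    Nat.card G ≤ ∑ φ : S.IBr G, n φ ^ 2 := by
  classical
  letI := Fintype.ofFinite G
  choose m ρ hirr hφ using (fun φ : S.IBr G => S.mem_IBr_iff.mp φ.2)
  have hmn : ∀ φ, m φ = n φ := by
    intro φ
    have h1 := S.brauerChar_one (ρ φ)
    rw [hφ φ, hn φ, Module.finrank_fin_fun] at h1
    exact (Nat.cast_injective h1).symm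
  let Ψ : (G → S.k) →ₗ[S.k] ((φ : S.IBr G) → Module.End S.k (Fin (m φ) → S.k)) :=
    { toFun := fun a φ => ∑ g : G, a g • ρ φ g
      map_add' := fun a b => by
        funext φ
        simp only [Pi.add_apply, add_smul, Finset.sum_add_distrib]
      map_smul' := fun c a => by
        funext φ
        simp only [Pi.smul_apply, smul_eq_mul, RingHom.id_apply, Finset.smul_sum, mul_smul] }
  have hinj : Function.Injective Ψ := by
    rw [injective_iff_map_eq_zero]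
    intro a ha
    apply S.eq_zero_of_forall_irr hG a
    intro n' ρ' hirr'
    haveI := hirr'
    have hmem : S.brauerChar ρ' ∈ S.IBr G := S.mem_IBr_iff.mpr ⟨n', ρ', hirr', rfl⟩
    haveI := hirr ⟨_, hmem⟩
    obtain ⟨e⟩ := S.nonempty_equiv_of_brauerChar_eq (ρ ⟨_, hmem⟩) ρ' (hφ ⟨_, hmem⟩)
    have h0 : ∑ g : G, a g • ρ ⟨_, hmem⟩ g = 0 := congrFun ha ⟨_, hmem⟩
    apply LinearMap.ext
    intro v
    have hcomm : ∀ (g : G) (w : Fin (m ⟨_, hmem⟩) → S.k),
        e.toLinearEquiv (ρ ⟨_, hmem⟩ g w) = ρ' g (e.toLinearEquiv w) := fun g w =>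
      LinearMap.congr_fun (e.isIntertwining' g) w
    have hv : v = e.toLinearEquiv (e.toLinearEquiv.symm v) :=
      (e.toLinearEquiv.apply_symm_apply v).symm
    have h2 : (∑ g : G, a g • ρ' g) v
        = e.toLinearEquiv ((∑ g : G, a g • ρ ⟨_, hmem⟩ g) (e.toLinearEquiv.symm v)) := by
      simp only [LinearMap.sum_apply, LinearMap.smul_apply, map_sum, map_smul, hcomm]
      rw [← hv]
    rw [h2, h0]
    simp
  have h1 := LinearMap.finrank_le_finrank_of_injective hinj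
  rw [Module.finrank_pi, Module.finrank_pi_fintype] at h1
  rw [Nat.card_eq_fintype_card]
  refine h1.trans (le_of_eq ?_)
  refine Finset.sum_congr rfl fun φ _ => ?_
  rw [Module.finrank_linearMap, Module.finrank_fin_fun, hmn φ, sq]

/-- For a group of order prime to `p`, every irreducible Brauer character is an irreducible
character. -/
theorem IBr_isIrrCharacter_of_not_dvd (hG : ¬ p ∣ Nat.card G) (φ : S.IBr G) :
    Cfsg.IsIrrCharacter G (φ : G → ℂ) := by
  classical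
  letI := Fintype.ofFinite G
  letI : Fintype (Cfsg.IrrCharacter G) := Fintype.ofFinite _
  -- all elements are `p`-regular
  have hreg : ∀ g : G, Cfsg.IsPRegular p g := by
    intro g hdvd
    exact hG (hdvd.trans (orderOf_dvd_natCard g))
  have hpr : ∀ f : G → ℂ, Cfsg.pRegularPart p f = f := by
    intro f; funext g
    unfold Cfsg.pRegularPart
    rw [if_pos (hreg g)]
  -- degrees
  choose n hnpos hn using (fun φ : S.IBr G => S.IBr_apply_one φ)
  set x : Cfsg.IrrCharacter G → ℕ := fun χ => Cfsg.charDegree (χ : G → ℂ) with hx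
  have hxχ : ∀ χ : Cfsg.IrrCharacter G, (χ : G → ℂ) 1 = (x χ : ℂ) := fun χ =>
    IsCharacter.apply_one_eq_charDegree (IsIrrCharacter.isCharacter χ.2)
  set d : Cfsg.IrrCharacter G → S.IBr G → ℕ := fun χ φ => S.dnum χ φ with hd
  have ha : ∀ χ, x χ = ∑ μ, d χ μ * n μ := by
    intro χ
    have h1 := congrFun (S.pRegularPart_eq_sum_dnum χ) 1
    rw [hpr, hxχ] at h1
    simp only [Finset.sum_apply, Pi.smul_apply, smul_eq_mul, hn] at h1
    have : ((x χ : ℕ) : ℂ) = ((∑ μ, d χ μ * n μ : ℕ) : ℂ) := by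
      rw [h1]; push_cast; rfl
    exact Nat.cast_injective this
  have hb : ∑ χ, x χ ^ 2 = Nat.card G := by
    have h1 := sum_sq_degree (G := G)
    simp only [hxχ] at h1
    have : ((∑ χ, x χ ^ 2 : ℕ) : ℂ) = ((Nat.card G : ℕ) : ℂ) := by
      rw [← h1]; push_cast; rfl
    exact Nat.cast_injective this
  have hc := S.card_le_sum_sq hG n hn
  have hdcol : ∀ μ : S.IBr G, 1 ≤ ∑ χ, d χ μ ^ 2 := by
    intro μ
    obtain ⟨χ, hχ⟩ := S.exists_dnum_ne_zero μ
    have h1 : 1 ≤ d χ μ ^ 2 := Nat.one_le_iff_ne_zero.mpr (pow_ne_zero 2 hχ)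
    exact h1.trans (Finset.single_le_sum (f := fun χ => d χ μ ^ 2) (fun _ _ => Nat.zero_le _)
      (Finset.mem_univ χ))
  -- the chain of inequalities
  have hterm : ∀ χ, ∑ μ, (d χ μ * n μ) ^ 2 ≤ x χ ^ 2 := by
    intro χ
    rw [ha χ]
    exact sum_sq_le_sq_sum Finset.univ _
  have hswap : ∑ χ, ∑ μ, (d χ μ * n μ) ^ 2 = ∑ μ, n μ ^ 2 * ∑ χ, d χ μ ^ 2 := by
    rw [Finset.sum_comm]
    refine Finset.sum_congr rfl fun μ _ => ?_
    rw [Finset.mul_sum]
    refine Finset.sum_congr rfl fun χ _ => ?_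
    ring
  have hge : ∑ μ, n μ ^ 2 ≤ ∑ μ, n μ ^ 2 * ∑ χ, d χ μ ^ 2 :=
    Finset.sum_le_sum fun μ _ => Nat.le_mul_of_pos_right _ (hdcol μ)
  have hle : ∑ χ, ∑ μ, (d χ μ * n μ) ^ 2 ≤ ∑ χ, x χ ^ 2 := Finset.sum_le_sum fun χ _ => hterm χ
  have heq1 : ∑ χ, ∑ μ, (d χ μ * n μ) ^ 2 = ∑ χ, x χ ^ 2 := by
    apply le_antisymm hle
    rw [hb, hswap]
    exact hc.trans hge
  have hE1 : ∀ χ, ∑ μ, (d χ μ * n μ) ^ 2 = x χ ^ 2 := by
    intro χ
    exact (Finset.sum_eq_sum_iff_of_le (fun χ _ => hterm χ)).mp heq1 χ (Finset.mem_univ χ)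
  have heq2 : ∑ μ, n μ ^ 2 = ∑ μ, n μ ^ 2 * ∑ χ, d χ μ ^ 2 := by
    apply le_antisymm hge
    rw [← hswap, heq1, hb]
    exact hc
  have hE2 : ∀ μ, ∑ χ, d χ μ ^ 2 = 1 := by
    intro μ
    have h1 := (Finset.sum_eq_sum_iff_of_le (fun μ _ =>
      Nat.le_mul_of_pos_right (n μ ^ 2) (hdcol μ))).mp heq2 μ (Finset.mem_univ μ)
    have hpos : 0 < n μ ^ 2 := pow_pos (hnpos μ) 2
    have : n μ ^ 2 * 1 = n μ ^ 2 * ∑ χ, d χ μ ^ 2 := by rw [mul_one]; exact h1
    exact (Nat.eq_of_mul_eq_mul_left hpos this).symm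
  -- the unique character containing `φ`
  obtain ⟨χ0, hχ0, -⟩ := exists_unique_of_sum_sq_eq_one (fun χ => d χ φ) (hE2 φ)
  have hzero : ∀ μ, μ ≠ φ → d χ0 μ * n μ = 0 := by
    apply eq_zero_of_sq_sum_eq (fun μ => d χ0 μ * n μ)
    · rw [← ha χ0, hE1 χ0]
    · show 1 ≤ d χ0 φ * n φ
      rw [hχ0, one_mul]; exact hnpos φ
  have hzero' : ∀ μ, μ ≠ φ → d χ0 μ = 0 := by
    intro μ hμ
    rcases Nat.mul_eq_zero.mp (hzero μ hμ) with h | h
    · exact h
    · exact absurd h (hnpos μ).ne'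
  have hfin : (χ0 : G → ℂ) = (φ : G → ℂ) := by
    have h1 := S.pRegularPart_eq_sum_dnum χ0
    rw [hpr] at h1
    rw [h1, Finset.sum_eq_single φ]
    · show ((d χ0 φ : ℕ) : ℂ) • (φ : G → ℂ) = φ
      rw [hχ0]; simp
    · intro μ _ hμ
      show ((d χ0 μ : ℕ) : ℂ) • (μ : G → ℂ) = 0
      rw [hzero' μ hμ]; simp
    · intro h; exact absurd (Finset.mem_univ φ) h
  rw [← hfin]
  exact χ0.2

end ModSys

end Cfsg.Agent.Lib.Helper6.BrMod
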