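import Mathlib
import Cfsg.Agent.Lib.Helper6.BrMod12
import Cfsg.Agent.Lib.Helper6.BrauerGlobal
import Cfsg.Agent.Lib.Helper6.PComplement
import Cfsg.Agent.Lib.Helper6.Mult
import Cfsg.Agent.Lib.Helper6.CharOps

/-!
# Surjectivity of the decomposition map: every irreducible Brauer character is the
`p`-regular part of a generalized character
-/

set_option autoImplicit false

namespace Cfsg.Agent.Lib.Helper6.BrMod

open Module
open scoped ComplexConjugate

namespace ModSys

variable {p : ℕ} [Fact p.Prime] (S : ModSys p) {G : Type*} [Group G] [Finite G]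

section restriction

variable {H : Type*} [Group H] [Finite H]

/-- The composition of an irreducible Brauer character with an injective homomorphism is a
sum of irreducible Brauer characters. -/
theorem comp_injective_eq_list (ι : H →* G) (hι : Function.Injective ι) (φ : S.IBr G) :
    ∃ l : List (H → ℂ), (∀ ψ ∈ l, ψ ∈ S.IBr H) ∧ (fun h => (φ : G → ℂ) (ι h)) = l.sum := by
  classical
  obtain ⟨n, ρ, _, hρ⟩ := S.mem_IBr_iff.mp φ.2
  have hcomp : S.brauerChar (ρ.comp ι) = fun h => (φ : G → ℂ) (ι h) := by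
    funext h
    have hord : orderOf (ι h) = orderOf h := orderOf_injective ι hι h
    rw [← hρ]
    by_cases hh : Cfsg.IsPRegular p h
    · have hh' : Cfsg.IsPRegular p (ι h) := by
        unfold Cfsg.IsPRegular at hh ⊢; rwa [hord]
      rw [S.brauerChar_of_reg _ hh, S.brauerChar_of_reg _ hh']
      rfl
    · have hh' : ¬ Cfsg.IsPRegular p (ι h) := by
        unfold Cfsg.IsPRegular at hh ⊢; rwa [hord]
      rw [S.brauerChar_of_not_reg _ hh, S.brauerChar_of_not_reg _ hh']
  obtain ⟨l, hl, hsum⟩ := S.exists_list_IBrWith (G := H) ∅ _ _ (ρ.comp ι) rfl (by simp)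
  exact ⟨l, fun ψ hψ => S.IBrWith_subset_IBr _ (hl ψ hψ), by rw [← hcomp, hsum]⟩

theorem isCharacter_comp_of_not_dvd (hH : ¬ p ∣ Nat.card H) (ι : H →* G)
    (hι : Function.Injective ι) (φ : S.IBr G) :
    Cfsg.IsCharacter H (fun h => (φ : G → ℂ) (ι h)) := by
  obtain ⟨l, hl, hsum⟩ := S.comp_injective_eq_list ι hι φ
  rw [hsum]
  clear hsum
  induction l with
  | nil => exact IsCharacter.zero
  | cons a l ih =>
    rw [List.sum_cons]
    refine IsCharacter.add ?_ (ih fun ψ hψ => hl ψ (List.mem_cons_of_mem a hψ))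
    exact IsIrrCharacter.isCharacter
      (S.IBr_isIrrCharacter_of_not_dvd hH ⟨a, hl a List.mem_cons_self⟩)

end restriction

/-- On a nilpotent subgroup, `e ↦ φ (e_{p'})` is a character. -/
theorem isCharacter_prEl_nilpotent (E : Subgroup G) [Group.IsNilpotent E] (φ : S.IBr G) :
    Cfsg.IsCharacter E (fun e : E => (φ : G → ℂ) (prEl p (e : G))) := by
  classical
  have hp := (Fact.out : p.Prime)
  letI : Fintype E := Fintype.ofFinite E
  obtain ⟨K, hKn, hKcop, hKidx⟩ := exists_normal_pcomplement_of_nilpotent (E := E) p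
  letI : Fintype K := Fintype.ofFinite K
  obtain ⟨P₀⟩ := (inferInstance : Nonempty (Sylow p E))
  have hP₀n : (P₀ : Subgroup E).Normal := inferInstance
  have hP₀card : Nat.card P₀ = p ^ (Nat.card E).factorization p := Sylow.card_eq_multiplicity P₀
  have hcompl : K.IsComplement' (P₀ : Subgroup E) := by
    apply Subgroup.isComplement'_of_coprime
    · rw [hP₀card, ← hKidx]; exact K.card_mul_index
    · rw [hP₀card]; exact Nat.Coprime.pow_right _ hKcop
  let π : E →* K := (hcompl.QuotientMulEquiv).toMonoidHom.comp (QuotientGroup.mk' (P₀ : Subgroup E))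
  have hπK : ∀ (s : E) (hs : s ∈ K), π s = ⟨s, hs⟩ := by
    intro s hs
    show hcompl.QuotientMulEquiv (QuotientGroup.mk s) = ⟨s, hs⟩
    rw [← MulEquiv.eq_symm_apply]
    rfl
  have hπ : ∀ e : E, ((π e : K) : E) = prEl p e := by
    intro e
    have he : e = ppEl p e * prEl p e := (ppEl_mul_prEl p e).symm
    have hs : prEl p e ∈ K :=
      mem_of_pRegular_of_index K hp ⟨_, hKidx⟩ _ (prEl_pRegular (p := p) e)
    have hu : π (ppEl p e) = 1 := by
      obtain ⟨j, hj⟩ := orderOf_ppEl (p := p) e
      have h1 : orderOf (π (ppEl p e)) ∣ p ^ j := by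
        rw [← hj]; exact orderOf_map_dvd π _
      have h2 : orderOf (π (ppEl p e)) ∣ Nat.card K := orderOf_dvd_natCard _
      have h3 : orderOf (π (ppEl p e)) = 1 :=
        Nat.eq_one_of_dvd_coprimes (Nat.Coprime.pow_right j hKcop) h2 h1
      exact orderOf_eq_one_iff.mp h3
    conv_lhs => rw [he, map_mul, hu, one_mul, hπK _ hs]
  let ι : K →* G := E.subtype.comp K.subtype
  have hι : Function.Injective ι := E.subtype_injective.comp K.subtype_injective
  have hK : ¬ p ∣ Nat.card K := by
    intro h
    exact hp.one_lt.ne' (Nat.eq_one_of_dvd_coprimes hKcop h dvd_rfl)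
  have hch := IsCharacter.comp π (S.isCharacter_comp_of_not_dvd hK ι hι φ)
  convert hch using 2 with e
  rw [prEl_coe E e, ← hπ e]
  rfl

/-- Every irreducible Brauer character is the `p`-regular part of a generalized character. -/
theorem exists_genChar_lift (φ : S.IBr G) :
    ∃ η : G → ℂ, Cfsg.IsGeneralizedCharacter G η ∧ Cfsg.pRegularPart p η = (φ : G → ℂ) := by
  classical
  letI := Fintype.ofFinite G
  refine ⟨fun g => (φ : G → ℂ) (prEl p g), ?_, ?_⟩
  · apply isGeneralizedCharacter_of_restrict
    · intro g h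
      show (φ : G → ℂ) (prEl p (h * g * h⁻¹)) = (φ : G → ℂ) (prEl p g)
      rw [prEl_conj]
      exact S.IBr_isClassFunction φ _ _
    · rintro E ⟨q, hq, hE⟩
      haveI := IsElementary.isNilpotent hq hE
      exact IsCharacter.isGeneralizedCharacter (S.isCharacter_prEl_nilpotent E φ)
  · funext g
    unfold Cfsg.pRegularPart
    by_cases hg : Cfsg.IsPRegular p g
    · rw [if_pos hg]
      show (φ : G → ℂ) (prEl p g) = (φ : G → ℂ) g
      rw [prEl_of_pRegular hg]
    · rw [if_neg hg]; exact (S.IBr_apply_of_not_reg φ hg).symm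

end ModSys

end Cfsg.Agent.Lib.Helper6.BrMod
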