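import Mathlib
import Cfsg.Agent.Lib.Helper6.BrMod13
import Cfsg.Agent.Lib.Helper6.BlkDim
import Cfsg.Agent.Lib.Helper6.GenChar

/-!
# Degrees of irreducible Brauer characters and of projective indecomposable characters
-/

set_option autoImplicit false

namespace Cfsg.Agent.Lib.Helper6.BrMod

open Module
open scoped ComplexConjugate

namespace ModSys

variable {p : ℕ} [Fact p.Prime] (S : ModSys p) {G : Type*} [Group G] [Finite G]
  {M : Ideal Cfsg.AlgInt}

/-- The degree of an irreducible Brauer character. -/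
noncomputable def ndeg (φ : S.IBr G) : ℕ := (S.IBr_apply_one φ).choose

theorem ndeg_pos (φ : S.IBr G) : 0 < S.ndeg φ := (S.IBr_apply_one φ).choose_spec.1

theorem apply_one_eq_ndeg (φ : S.IBr G) : (φ : G → ℂ) 1 = (S.ndeg φ : ℂ) :=
  (S.IBr_apply_one φ).choose_spec.2

theorem isPRegular_one_aux : Cfsg.IsPRegular p (1 : G) := by
  unfold Cfsg.IsPRegular
  rw [orderOf_one]
  exact fun h => (Fact.out : p.Prime).one_lt.ne' (Nat.dvd_one.mp h)

theorem charDegree_eq_sum (χ : Cfsg.IrrCharacter G) :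
    Cfsg.charDegree (χ : G → ℂ) = ∑ φ : S.IBr G, S.dnum χ φ * S.ndeg φ := by
  have h1 := congrFun (S.pRegularPart_eq_sum_dnum χ) 1
  unfold Cfsg.pRegularPart at h1
  rw [if_pos (isPRegular_one_aux (p := p) (G := G)),
    IsCharacter.apply_one_eq_charDegree (IsIrrCharacter.isCharacter χ.2)] at h1
  simp only [Finset.sum_apply, Pi.smul_apply, smul_eq_mul, S.apply_one_eq_ndeg] at h1
  have : ((Cfsg.charDegree (χ : G → ℂ) : ℕ) : ℂ)
      = ((∑ φ : S.IBr G, S.dnum χ φ * S.ndeg φ : ℕ) : ℂ) := by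
    rw [h1]; push_cast; rfl
  exact Nat.cast_injective this

/-- The degree of a projective indecomposable character is divisible by the full power of `p`
dividing the group order. -/
theorem pow_dvd_sum_dnum_mul_degree [Fintype (Cfsg.IrrCharacter G)] (φ : S.IBr G) :
    p ^ (Nat.card G).factorization p ∣
      ∑ χ : Cfsg.IrrCharacter G, S.dnum χ φ * Cfsg.charDegree (χ : G → ℂ) := by
  classical
  letI := Fintype.ofFinite G
  have hp := (Fact.out : p.Prime)
  set β : G → ℂ := ∑ χ : Cfsg.IrrCharacter G, (S.dnum χ φ) • (χ : G → ℂ) with hβ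
  have hβch : Cfsg.IsCharacter G β :=
    IsCharacter.sum _ _ fun χ _ => IsCharacter.nsmul (IsIrrCharacter.isCharacter χ.2) _
  have hβval : ∀ y : G, β y = ∑ χ : Cfsg.IrrCharacter G, (S.dnum χ φ : ℂ) * (χ : G → ℂ) y := by
    intro y
    rw [hβ, Finset.sum_apply]
    refine Finset.sum_congr rfl fun χ _ => ?_
    rw [Pi.smul_apply, nsmul_eq_mul]
  have hvan : ∀ x : G, p ∣ orderOf x → β x = 0 := by
    intro x hx
    rw [hβval]
    exact S.sum_dnum_mul_eq_zero φ (fun h => h hx)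
  obtain ⟨P⟩ := (inferInstance : Nonempty (Sylow p G))
  have hP : Nat.card (P : Subgroup G) = p ^ (Nat.card G).factorization p :=
    Sylow.card_eq_multiplicity P
  have h1 := trivMult_spec (P : Subgroup G) hβch
  rw [finsum_subgroup_eq_of_vanish hp (P : Subgroup G) hP β hvan, hP] at h1
  have h2 : β 1 = ((∑ χ : Cfsg.IrrCharacter G,
      S.dnum χ φ * Cfsg.charDegree (χ : G → ℂ) : ℕ) : ℂ) := by
    rw [hβval]
    push_cast
    refine Finset.sum_congr rfl fun χ _ => ?_
    rw [IsCharacter.apply_one_eq_charDegree (IsIrrCharacter.isCharacter χ.2)]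
  rw [h2] at h1
  have hp0 : ((p ^ (Nat.card G).factorization p : ℕ) : ℂ) ≠ 0 := by
    exact_mod_cast (pow_pos hp.pos _).ne'
  have h3 : ((∑ χ : Cfsg.IrrCharacter G,
      S.dnum χ φ * Cfsg.charDegree (χ : G → ℂ) : ℕ) : ℂ)
      = ((p ^ (Nat.card G).factorization p * trivMult (P : Subgroup G) β : ℕ) : ℂ) := by
    push_cast at h1 hp0 ⊢
    field_simp at h1
    linear_combination h1
  exact ⟨_, Nat.cast_injective h3⟩

/-- The degrees of the irreducible Brauer characters of a block are divisible by every common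
divisor of the degrees of the irreducible characters of the block. -/
theorem dvd_ndeg (hM : Cfsg.IsPModular p M)
    (hS : ∀ a : Cfsg.AlgInt, a ∈ M ↔ (a : ℂ) ∈ S.O.nonunits)
    {B : Set (Cfsg.IrrCharacter G)} (hB : Cfsg.IsPBlock M B) (g : ℕ)
    (hg : ∀ χ ∈ B, g ∣ Cfsg.charDegree (χ : G → ℂ)) {φ : S.IBr G} (hφ : φ ∈ S.IBrOf B) :
    g ∣ S.ndeg φ := by
  classical
  letI := Fintype.ofFinite G
  letI : Fintype (Cfsg.IrrCharacter G) := Fintype.ofFinite _
  obtain ⟨η, hη, hηφ⟩ := S.exists_genChar_lift φ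
  obtain ⟨c, hc, -⟩ := IsGeneralizedCharacter.exists_int_coeff hη
  -- coefficients of `φ` in terms of the `μ`
  have hexp : (φ : G → ℂ) = ∑ μ : S.IBr G,
      (∑ χ : Cfsg.IrrCharacter G, (c χ : ℂ) * (S.dnum χ μ : ℂ)) • (μ : G → ℂ) := by
    rw [← hηφ, hc, pRegularPart_sum']
    simp only [S.pRegularPart_eq_sum_dnum, Finset.smul_sum, smul_smul]
    rw [Finset.sum_comm]
    refine Finset.sum_congr rfl fun μ _ => ?_
    rw [Finset.sum_smul]
  have hli := S.linearIndependent_IBr (G := G)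
  rw [Fintype.linearIndependent_iff] at hli
  have hrel : ∑ μ : S.IBr G, ((∑ χ : Cfsg.IrrCharacter G, (c χ : ℂ) * (S.dnum χ μ : ℂ))
      - if μ = φ then 1 else 0) • (μ : G → ℂ) = 0 := by
    simp only [sub_smul, Finset.sum_sub_distrib]
    rw [← hexp]
    simp
  have hcoef : ∀ μ : S.IBr G, ∑ χ : Cfsg.IrrCharacter G, (c χ : ℂ) * (S.dnum χ μ : ℂ)
      = if μ = φ then 1 else 0 := fun μ => sub_eq_zero.mp (hli _ hrel μ)
  -- integer version
  have hcoefZ : ∀ μ : S.IBr G, ∑ χ : Cfsg.IrrCharacter G, c χ * (S.dnum χ μ : ℤ)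
      = if μ = φ then 1 else 0 := by
    intro μ
    have := hcoef μ
    have h2 : ((∑ χ : Cfsg.IrrCharacter G, c χ * (S.dnum χ μ : ℤ) : ℤ) : ℂ)
        = ((if μ = φ then 1 else 0 : ℤ) : ℂ) := by
      push_cast
      rw [this]
    exact Int.cast_injective h2
  -- the key identity
  have hkey : (S.ndeg φ : ℤ) = ∑ χ ∈ Finset.univ.filter (· ∈ B),
      c χ * (Cfsg.charDegree (χ : G → ℂ) : ℤ) := by
    have h1 : ∑ χ ∈ Finset.univ.filter (· ∈ B), c χ * (Cfsg.charDegree (χ : G → ℂ) : ℤ)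
        = ∑ μ : S.IBr G, (S.ndeg μ : ℤ) * ∑ χ ∈ Finset.univ.filter (· ∈ B),
            c χ * (S.dnum χ μ : ℤ) := by
      simp only [S.charDegree_eq_sum, Finset.mul_sum]
      push_cast
      simp only [Finset.mul_sum]
      rw [Finset.sum_comm]
      refine Finset.sum_congr rfl fun μ _ => Finset.sum_congr rfl fun χ _ => ?_
      ring
    rw [h1, Finset.sum_eq_single φ]
    · have h2 : ∑ χ ∈ Finset.univ.filter (· ∈ B), c χ * (S.dnum χ φ : ℤ)
          = ∑ χ : Cfsg.IrrCharacter G, c χ * (S.dnum χ φ : ℤ) := by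
        apply Finset.sum_subset (Finset.filter_subset _ _)
        intro χ _ hχ
        have hχB : χ ∉ B := fun h => hχ (Finset.mem_filter.mpr ⟨Finset.mem_univ _, h⟩)
        rw [S.dnum_eq_zero_of_not_mem hM hS hB hχB hφ]
        simp
      rw [h2, hcoefZ φ, if_pos rfl, mul_one]
    · intro μ _ hμ
      by_cases hμB : μ ∈ S.IBrOf B
      · have h2 : ∑ χ ∈ Finset.univ.filter (· ∈ B), c χ * (S.dnum χ μ : ℤ)
            = ∑ χ : Cfsg.IrrCharacter G, c χ * (S.dnum χ μ : ℤ) := by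
          apply Finset.sum_subset (Finset.filter_subset _ _)
          intro χ _ hχ
          have hχB : χ ∉ B := fun h => hχ (Finset.mem_filter.mpr ⟨Finset.mem_univ _, h⟩)
          rw [S.dnum_eq_zero_of_not_mem hM hS hB hχB hμB]
          simp
        rw [h2, hcoefZ μ, if_neg hμ, mul_zero]
      · have h2 : ∑ χ ∈ Finset.univ.filter (· ∈ B), c χ * (S.dnum χ μ : ℤ) = 0 := by
          apply Finset.sum_eq_zero
          intro χ hχ
          rw [S.dnum_eq_zero_of_mem_of_not_mem (Finset.mem_filter.mp hχ).2 hμB]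
          simp
        rw [h2, mul_zero]
    · intro h; exact absurd (Finset.mem_univ φ) h
  have hdvd : (g : ℤ) ∣ (S.ndeg φ : ℤ) := by
    rw [hkey]
    apply Finset.dvd_sum
    intro χ hχ
    exact Dvd.dvd.mul_left (Int.natCast_dvd_natCast.mpr (hg χ (Finset.mem_filter.mp hχ).2)) _
  exact Int.natCast_dvd_natCast.mp hdvd

/-- The dimension of a block as a sum over its irreducible Brauer characters. -/
theorem sum_sq_degree_block (hM : Cfsg.IsPModular p M)
    (hS : ∀ a : Cfsg.AlgInt, a ∈ M ↔ (a : ℂ) ∈ S.O.nonunits)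
    [Fintype (Cfsg.IrrCharacter G)] {B : Set (Cfsg.IrrCharacter G)} [DecidablePred (· ∈ B)]
    [DecidablePred (· ∈ S.IBrOf B)] (hB : Cfsg.IsPBlock M B) :
    ∑ χ ∈ Finset.univ.filter (· ∈ B), Cfsg.charDegree (χ : G → ℂ) ^ 2
      = ∑ φ ∈ Finset.univ.filter (· ∈ S.IBrOf B), S.ndeg φ *
          ∑ χ : Cfsg.IrrCharacter G, S.dnum χ φ * Cfsg.charDegree (χ : G → ℂ) := by
  have h1 : ∑ χ ∈ Finset.univ.filter (· ∈ B), Cfsg.charDegree (χ : G → ℂ) ^ 2
      = ∑ φ : S.IBr G, S.ndeg φ * ∑ χ ∈ Finset.univ.filter (· ∈ B),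
          S.dnum χ φ * Cfsg.charDegree (χ : G → ℂ) := by
    have : ∀ χ : Cfsg.IrrCharacter G, Cfsg.charDegree (χ : G → ℂ) ^ 2
        = ∑ φ : S.IBr G, S.ndeg φ * (S.dnum χ φ * Cfsg.charDegree (χ : G → ℂ)) := by
      intro χ
      conv_lhs => rw [sq]; arg 1; rw [S.charDegree_eq_sum χ]
      rw [Finset.sum_mul]
      refine Finset.sum_congr rfl fun φ _ => ?_
      ring
    simp only [this, Finset.mul_sum]
    rw [Finset.sum_comm]
  rw [h1]
  symm
  rw [← Finset.sum_subset (Finset.filter_subset (· ∈ S.IBrOf B) Finset.univ)]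
  · refine Finset.sum_congr rfl fun φ hφ => ?_
    congr 1
    symm
    apply Finset.sum_subset (Finset.filter_subset _ _)
    intro χ _ hχ
    have hχB : χ ∉ B := fun h => hχ (Finset.mem_filter.mpr ⟨Finset.mem_univ _, h⟩)
    rw [S.dnum_eq_zero_of_not_mem hM hS hB hχB (Finset.mem_filter.mp hφ).2, zero_mul]
  · intro φ _ hφ
    have hφB : φ ∉ S.IBrOf B := fun h => hφ (Finset.mem_filter.mpr ⟨Finset.mem_univ _, h⟩)
    have : ∑ χ ∈ Finset.univ.filter (· ∈ B), S.dnum χ φ * Cfsg.charDegree (χ : G → ℂ) = 0 := by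
      apply Finset.sum_eq_zero
      intro χ hχ
      rw [S.dnum_eq_zero_of_mem_of_not_mem (Finset.mem_filter.mp hχ).2 hφB, zero_mul]
    rw [this, mul_zero]

end ModSys

end Cfsg.Agent.Lib.Helper6.BrMod
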