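import Mathlib
import Cfsg.Agent.Lib.Helper6.BrMod14
import Cfsg.Agent.Lib.Helper6.BlkHeightTilde
import Cfsg.Agent.Lib.Helper6.Constituent
import Cfsg.Agent.S0908

/-!
# The dimension of a block: `Σ_{χ ∈ B} χ(1)² = p^(2a-d) u² v`
-/

set_option autoImplicit false

namespace Cfsg.Agent.Lib.Helper6.BrMod

open Module
open scoped ComplexConjugate

theorem block_degree_square_sum {G : Type*} [Group G] [Finite G] (p : ℕ) [Fact p.Prime]
    (M : Ideal Cfsg.AlgInt) (hM : Cfsg.IsPModular p M) (B : Set (Cfsg.IrrCharacter G))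
    (hB : Cfsg.IsPBlock M B) (D : Subgroup G) (hD : Cfsg.IsDefectGroup p M B D) (a d : ℕ)
    (ha : (Nat.card G).factorization p = a) (hd : Nat.card D = p ^ d) (g : ℕ)
    (hg1 : ∀ χ ∈ B, g ∣ Cfsg.charDegree (χ : G → ℂ))
    (hg2 : ∀ g' : ℕ, (∀ χ ∈ B, g' ∣ Cfsg.charDegree (χ : G → ℂ)) → g' ∣ g) :
    g.factorization p = a - d ∧ ∃ v : ℕ, 0 < v ∧ ¬ p ∣ v ∧ Cfsg.blockRank p B ≤ v ∧
      ∑ᶠ χ ∈ B, Cfsg.charDegree (χ : G → ℂ) ^ 2
        = p ^ (2 * a - d) * (g / p ^ (a - d)) ^ 2 * v := by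
  classical
  letI := Fintype.ofFinite G
  letI : Fintype (Cfsg.IrrCharacter G) := Fintype.ofFinite _
  have hp : p.Prime := Fact.out
  obtain ⟨S, hS⟩ := exists_modSys hM
  have hDcard := Cfsg.Agent.S0908.result p M hM B hB D hD
  have hdd : d = Cfsg.blockDefect p B := by
    rw [hd] at hDcard
    exact Nat.pow_right_injective hp.two_le hDcard
  have hB' := hB
  obtain ⟨χ₀, hB0⟩ := hB'
  subst hB0
  have hχ₀ : χ₀ ∈ Cfsg.blockOf M (χ₀ : G → ℂ) := sameBlock_refl hM _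
  set B := Cfsg.blockOf M (χ₀ : G → ℂ) with hBdef
  have hcard := factorization_card_eq_sInf_add_defect (p := p) B χ₀ hχ₀
  obtain ⟨ξ₀, hξ₀B, hξ₀min⟩ := exists_min_degree (p := p) B χ₀ hχ₀
  have he : sInf ((fun χ : Cfsg.IrrCharacter G => (Cfsg.charDegree (χ : G → ℂ)).factorization p) ''
      B) = (Cfsg.charDegree (ξ₀ : G → ℂ)).factorization p := by
    apply le_antisymm
    · exact Nat.sInf_le ⟨ξ₀, hξ₀B, rfl⟩
    · apply le_csInf (Set.image_nonempty.mpr ⟨ξ₀, hξ₀B⟩)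
      rintro _ ⟨ψ, hψ, rfl⟩
      exact hξ₀min ψ hψ
  set e := (Cfsg.charDegree (ξ₀ : G → ℂ)).factorization p with hedef
  rw [he, ha, ← hdd] at hcard
  -- `a = e + d`
  have hξ₀pos : 0 < Cfsg.charDegree (ξ₀ : G → ℂ) := IsIrrCharacter.charDegree_pos ξ₀.2
  have hg0 : g ≠ 0 := by
    rintro rfl
    exact hξ₀pos.ne' (Nat.eq_zero_of_zero_dvd (hg1 ξ₀ hξ₀B))
  have hge : g.factorization p = e := by
    apply le_antisymm
    · exact (Nat.factorization_le_iff_dvd hg0 hξ₀pos.ne').mpr (hg1 ξ₀ hξ₀B) p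
    · have : p ^ e ∣ g := by
        apply hg2
        intro χ hχ
        exact (pow_dvd_pow p (hξ₀min χ hχ)).trans (Nat.ordProj_dvd _ p)
      exact (hp.pow_dvd_iff_le_factorization hg0).mp this
  have hae : a - d = e := by omega
  refine ⟨by rw [hge, hae], ?_⟩
  rw [hae]
  have h2ad : 2 * a - d = a + e := by omega
  rw [h2ad]
  set u := g / p ^ e with hu
  have hgu : g = p ^ e * u := by
    rw [hu, ← hge]
    exact (Nat.ordProj_mul_ordCompl_eq_self g p).symm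
  have hup : Nat.Coprime p u := by
    rw [hu, ← hge]
    exact Nat.coprime_ordCompl hp hg0
  have hu0 : u ≠ 0 := by
    rintro h
    rw [h, mul_zero] at hgu
    exact hg0 hgu
  -- the sum as a finite sum
  rw [finsum_mem_eq_sum_filter_lib]
  set N := ∑ χ ∈ Finset.univ.filter (· ∈ B), Cfsg.charDegree (χ : G → ℂ) ^ 2 with hN
  have hNfac : N.factorization p = a + e := by
    have := factorization_sum_sq_degree hM χ₀
    rw [← hBdef, ← hdd, ha] at this
    rw [hN, this]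
    omega
  have hNpos : 0 < N := by
    rw [hN]
    apply Finset.sum_pos'
    · intro χ _; exact Nat.zero_le _
    · exact ⟨χ₀, Finset.mem_filter.mpr ⟨Finset.mem_univ _, hχ₀⟩,
        pow_pos (IsIrrCharacter.charDegree_pos χ₀.2) 2⟩
  -- the decomposition over Brauer characters
  set Ψ : S.IBr G → ℕ := fun φ =>
    ∑ χ : Cfsg.IrrCharacter G, S.dnum χ φ * Cfsg.charDegree (χ : G → ℂ) with hΨ
  have hNsum : N = ∑ φ ∈ Finset.univ.filter (· ∈ S.IBrOf B), S.ndeg φ * Ψ φ :=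
    S.sum_sq_degree_block hM hS hB
  have h1 : ∀ φ ∈ S.IBrOf B, g ∣ S.ndeg φ := fun φ hφ => S.dvd_ndeg hM hS hB g hg1 hφ
  have h2 : ∀ φ ∈ S.IBrOf B, p ^ a * u ∣ Ψ φ := by
    intro φ hφ
    apply Nat.Coprime.mul_dvd_of_dvd_of_dvd (Nat.Coprime.pow_left a hup)
    · have := S.pow_dvd_sum_dnum_mul_degree φ
      rw [ha] at this
      exact this
    · apply Finset.dvd_sum
      intro χ _
      by_cases hχ : χ ∈ B
      · exact Dvd.dvd.mul_left ((Dvd.intro_left _ hgu.symm).trans (hg1 χ hχ)) _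
      · rw [S.dnum_eq_zero_of_not_mem hM hS hB hχ hφ, zero_mul]
        exact dvd_zero _
  have h3 : ∀ φ ∈ S.IBrOf B, 0 < Ψ φ := by
    intro φ hφ
    obtain ⟨χ, hχ, hne⟩ := hφ
    apply Finset.sum_pos'
    · intro χ _; exact Nat.zero_le _
    · exact ⟨χ, Finset.mem_univ _,
        Nat.mul_pos (Nat.pos_of_ne_zero hne) (IsIrrCharacter.charDegree_pos χ.2)⟩
  set v := ∑ φ ∈ Finset.univ.filter (· ∈ S.IBrOf B), (S.ndeg φ / g) * (Ψ φ / (p ^ a * u)) with hv
  have hNv : N = p ^ (a + e) * u ^ 2 * v := by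
    rw [hNsum, hv, Finset.mul_sum]
    refine Finset.sum_congr rfl fun φ hφ => ?_
    have hφ' := (Finset.mem_filter.mp hφ).2
    obtain ⟨s, hs⟩ := h1 φ hφ'
    obtain ⟨t, ht⟩ := h2 φ hφ'
    have hpa : 0 < p ^ a * u := Nat.mul_pos (pow_pos hp.pos _) (Nat.pos_of_ne_zero hu0)
    rw [hs, ht, Nat.mul_div_cancel_left _ (Nat.pos_of_ne_zero hg0), Nat.mul_div_cancel_left _ hpa]
    rw [hgu, pow_add]
    ring
  have hv0 : v ≠ 0 := by
    rintro h
    rw [h, mul_zero] at hNv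
    exact hNpos.ne' hNv
  refine ⟨v, Nat.pos_of_ne_zero hv0, ?_, ?_, hNv⟩
  · -- `p ∤ v`
    intro hpv
    have hfac : N.factorization p = (a + e) + v.factorization p := by
      rw [hNv, Nat.factorization_mul (mul_ne_zero (pow_pos hp.pos _).ne' (pow_ne_zero 2 hu0)) hv0,
        Nat.factorization_mul (pow_pos hp.pos _).ne' (pow_ne_zero 2 hu0),
        Finsupp.add_apply, Finsupp.add_apply, hp.factorization_pow, Finsupp.single_eq_same,
        Nat.factorization_pow, Finsupp.smul_apply,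
        Nat.factorization_eq_zero_of_not_dvd ((Nat.Prime.coprime_iff_not_dvd hp).mp hup)]
      simp
    have : 1 ≤ v.factorization p := (hp.dvd_iff_one_le_factorization hv0).mp hpv
    omega
  · -- the rank bound
    have hcardI : Nat.card (S.IBrOf B) = (Finset.univ.filter (· ∈ S.IBrOf B)).card := by
      rw [Nat.card_eq_fintype_card]
      exact Fintype.card_of_subtype _ (by simp)
    rw [S.blockRank_eq_card_IBrOf hM hS hB, hcardI, Finset.card_eq_sum_ones, hv]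
    apply Finset.sum_le_sum
    intro φ hφ
    have hφ' := (Finset.mem_filter.mp hφ).2
    have hpa : 0 < p ^ a * u := Nat.mul_pos (pow_pos hp.pos _) (Nat.pos_of_ne_zero hu0)
    have hs : 1 ≤ S.ndeg φ / g :=
      (Nat.one_le_div_iff (Nat.pos_of_ne_zero hg0)).mpr (Nat.le_of_dvd (S.ndeg_pos φ) (h1 φ hφ'))
    have ht : 1 ≤ Ψ φ / (p ^ a * u) :=
      (Nat.one_le_div_iff hpa).mpr (Nat.le_of_dvd (h3 φ hφ') (h2 φ hφ'))
    calc 1 = 1 * 1 := rfl
      _ ≤ _ := Nat.mul_le_mul hs ht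

end Cfsg.Agent.Lib.Helper6.BrMod
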