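import Mathlib
import Cfsg.Agent.Lib.Helper6.BrMod14

/-!
# Orthogonality between irreducible Brauer characters and projective indecomposable characters,
and the twisted block kernel
-/

set_option autoImplicit false

namespace Cfsg.Agent.Lib.Helper6.BrMod

open Module
open scoped ComplexConjugate

namespace ModSys

variable {p : ℕ} [Fact p.Prime] (S : ModSys p) {G : Type*} [Group G] [Finite G]
  {M : Ideal Cfsg.AlgInt}

/-- Composition with an isomorphism preserves irreducible Brauer characters. -/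
theorem comp_mulEquiv_mem_IBr {H : Type*} [Group H] [Finite H] (τ : H ≃* G) (φ : S.IBr G) :
    (fun h => (φ : G → ℂ) (τ h)) ∈ S.IBr H := by
  classical
  obtain ⟨n, ρ, hirr, hρ⟩ := S.mem_IBr_iff.mp φ.2
  rw [S.mem_IBr_iff]
  refine ⟨n, ρ.comp τ.toMonoidHom, ?_, ?_⟩
  · let e : Subrepresentation (ρ.comp τ.toMonoidHom) ≃o Subrepresentation ρ :=
      { toFun := fun W => ⟨W.toSubmodule, fun g v hv => by
          have := W.apply_mem_toSubmodule (τ.symm g) hv
          simpa using this⟩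
        invFun := fun W => ⟨W.toSubmodule, fun h v hv => W.apply_mem_toSubmodule (τ h) hv⟩
        left_inv := fun W => rfl
        right_inv := fun W => rfl
        map_rel_iff' := Iff.rfl }
    exact (OrderIso.isSimpleOrder_iff e).mpr hirr
  · funext h
    have hord : orderOf (τ h) = orderOf h := MulEquiv.orderOf_eq τ h
    rw [← hρ]
    by_cases hh : Cfsg.IsPRegular p h
    · have hh' : Cfsg.IsPRegular p (τ h) := by
        unfold Cfsg.IsPRegular at hh ⊢; rwa [hord]
      rw [S.brauerChar_of_reg _ hh, S.brauerChar_of_reg _ hh']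
      rfl
    · have hh' : ¬ Cfsg.IsPRegular p (τ h) := by
        unfold Cfsg.IsPRegular at hh ⊢; rwa [hord]
      rw [S.brauerChar_of_not_reg _ hh, S.brauerChar_of_not_reg _ hh']

open Classical in
/-- The coefficients of a generalized character lifting an irreducible Brauer character are
"dual" to the decomposition numbers. -/
theorem sum_coeff_mul_dnum [Fintype (Cfsg.IrrCharacter G)] (μ : S.IBr G)
    (c : Cfsg.IrrCharacter G → ℤ)
    (hc : Cfsg.pRegularPart p (∑ β : Cfsg.IrrCharacter G, (c β : ℂ) • (β : G → ℂ))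
      = (μ : G → ℂ)) (ν : S.IBr G) :
    ∑ χ : Cfsg.IrrCharacter G, (c χ : ℂ) * (S.dnum χ ν : ℂ) = if ν = μ then 1 else 0 := by
  classical
  have hexp : (μ : G → ℂ) = ∑ ν : S.IBr G,
      (∑ χ : Cfsg.IrrCharacter G, (c χ : ℂ) * (S.dnum χ ν : ℂ)) • (ν : G → ℂ) := by
    rw [← hc, pRegularPart_sum']
    simp only [S.pRegularPart_eq_sum_dnum, Finset.smul_sum, smul_smul]
    rw [Finset.sum_comm]
    refine Finset.sum_congr rfl fun ν _ => ?_
    rw [Finset.sum_smul]
  have hli := S.linearIndependent_IBr (G := G)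
  rw [Fintype.linearIndependent_iff] at hli
  have hrel : ∑ ν : S.IBr G, ((∑ χ : Cfsg.IrrCharacter G, (c χ : ℂ) * (S.dnum χ ν : ℂ))
      - if ν = μ then 1 else 0) • (ν : G → ℂ) = 0 := by
    simp only [sub_smul, Finset.sum_sub_distrib]
    rw [← hexp]
    simp
  exact sub_eq_zero.mp (hli _ hrel ν)

open Classical in
/-- Orthogonality of irreducible Brauer characters and projective indecomposable characters. -/
theorem sum_IBr_mul_conj_pim [Fintype G] [Fintype (Cfsg.IrrCharacter G)] (μ φ : S.IBr G) :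
    ∑ g : G, (μ : G → ℂ) g *
        conj (∑ χ : Cfsg.IrrCharacter G, (S.dnum χ φ : ℂ) * (χ : G → ℂ) g)
      = if φ = μ then (Nat.card G : ℂ) else 0 := by
  classical
  obtain ⟨η, hη, hημ⟩ := S.exists_genChar_lift μ
  obtain ⟨c, hc, hci⟩ := IsGeneralizedCharacter.exists_int_coeff hη
  have hcard : (Nat.card G : ℂ) ≠ 0 := by exact_mod_cast Nat.card_pos.ne'
  have h1 : ∀ g : G, (μ : G → ℂ) g *
        conj (∑ χ : Cfsg.IrrCharacter G, (S.dnum χ φ : ℂ) * (χ : G → ℂ) g)
      = ∑ χ : Cfsg.IrrCharacter G, (S.dnum χ φ : ℂ) * (η g * conj ((χ : G → ℂ) g)) := by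
    intro g
    by_cases hg : Cfsg.IsPRegular p g
    · have : (μ : G → ℂ) g = η g := by
        rw [← hημ]; unfold Cfsg.pRegularPart; rw [if_pos hg]
      rw [this, map_sum, Finset.mul_sum]
      refine Finset.sum_congr rfl fun χ _ => ?_
      rw [map_mul, Complex.conj_natCast]
      ring
    · rw [S.sum_dnum_mul_eq_zero φ hg, map_zero, mul_zero]
      have h2 : ∑ χ : Cfsg.IrrCharacter G, (S.dnum χ φ : ℂ) * (η g * conj ((χ : G → ℂ) g))
          = η g * conj (∑ χ : Cfsg.IrrCharacter G, (S.dnum χ φ : ℂ) * (χ : G → ℂ) g) := by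
        rw [map_sum, Finset.mul_sum]
        refine Finset.sum_congr rfl fun χ _ => ?_
        rw [map_mul, Complex.conj_natCast]
        ring
      rw [h2, S.sum_dnum_mul_eq_zero φ hg, map_zero, mul_zero]
  simp_rw [h1]
  rw [Finset.sum_comm]
  have h3 : ∀ χ : Cfsg.IrrCharacter G, ∑ g : G, (S.dnum χ φ : ℂ) * (η g * conj ((χ : G → ℂ) g))
      = (Nat.card G : ℂ) * ((c χ : ℂ) * (S.dnum χ φ : ℂ)) := by
    intro χ
    rw [← Finset.mul_sum]
    have := hci χ
    unfold Cfsg.classInner at this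
    have h4 : ∑ g : G, η g * conj ((χ : G → ℂ) g) = (Nat.card G : ℂ) * (c χ : ℂ) := by
      rw [← this, ← mul_assoc, mul_inv_cancel₀ hcard, one_mul]
    rw [h4]
    ring
  simp_rw [h3]
  rw [← Finset.mul_sum, S.sum_coeff_mul_dnum μ c (by rw [← hc]; exact hημ) φ]
  split_ifs <;> simp

/-- Decomposition numbers vanish outside a union of blocks. -/
theorem dnum_eq_zero_of_not_mem_union (hM : Cfsg.IsPModular p M)
    (hS : ∀ a : Cfsg.AlgInt, a ∈ M ↔ (a : ℂ) ∈ S.O.nonunits)
    {T : Set (Cfsg.IrrCharacter G)} (hT : ∀ ξ ∈ T, Cfsg.blockOf M (ξ : G → ℂ) ⊆ T)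
    {χ : Cfsg.IrrCharacter G} (hχ : χ ∉ T) {φ : S.IBr G} (hφ : φ ∈ S.IBrOf T) :
    S.dnum χ φ = 0 := by
  by_contra hne
  obtain ⟨ψ, hψ, hψφ⟩ := hφ
  apply hχ
  have h1 : Cfsg.SameBlock M (ψ : G → ℂ) (χ : G → ℂ) :=
    S.sameBlock_of_dnum_ne_zero hM hS ψ χ φ hψφ hne
  exact hT ψ hψ h1

/-- The twisted block kernel summed over the `p`-regular elements is a non-negative multiple of
the group order. -/
theorem sum_kernel_twist (hM : Cfsg.IsPModular p M)
    (hS : ∀ a : Cfsg.AlgInt, a ∈ M ↔ (a : ℂ) ∈ S.O.nonunits)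
    [Fintype G] [Fintype (Cfsg.IrrCharacter G)]
    (T : Set (Cfsg.IrrCharacter G)) [DecidablePred (· ∈ T)]
    (hT : ∀ ξ ∈ T, Cfsg.blockOf M (ξ : G → ℂ) ⊆ T) (τ : G ≃* G) :
    ∃ m : ℕ, ∑ y ∈ Finset.univ.filter (fun y : G => ¬ p ∣ orderOf y),
        ∑ ξ ∈ Finset.univ.filter (· ∈ T), (ξ : G → ℂ) (τ y) * conj ((ξ : G → ℂ) y)
      = (Nat.card G : ℂ) * (m : ℂ) := by
  classical
  refine ⟨(Finset.univ.filter (fun φ : S.IBr G => φ ∈ S.IBrOf T ∧
      (fun g => (φ : G → ℂ) (τ g)) = (φ : G → ℂ))).card, ?_⟩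
  -- pointwise expansion
  have h1 : ∀ y : G, ¬ p ∣ orderOf y →
      ∑ ξ ∈ Finset.univ.filter (· ∈ T), (ξ : G → ℂ) (τ y) * conj ((ξ : G → ℂ) y)
        = ∑ φ ∈ Finset.univ.filter (· ∈ S.IBrOf T), (φ : G → ℂ) (τ y) *
            conj (∑ χ : Cfsg.IrrCharacter G, (S.dnum χ φ : ℂ) * (χ : G → ℂ) y) := by
    intro y hy
    have hτy : Cfsg.IsPRegular p (τ y) := by
      unfold Cfsg.IsPRegular; rwa [MulEquiv.orderOf_eq τ y]
    have h2 : ∀ ξ : Cfsg.IrrCharacter G, (ξ : G → ℂ) (τ y)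
        = ∑ φ : S.IBr G, (S.dnum ξ φ : ℂ) * (φ : G → ℂ) (τ y) := by
      intro ξ
      have := congrFun (S.pRegularPart_eq_sum_dnum ξ) (τ y)
      unfold Cfsg.pRegularPart at this
      rw [if_pos hτy] at this
      rw [this, Finset.sum_apply]
      refine Finset.sum_congr rfl fun φ _ => ?_
      rw [Pi.smul_apply, smul_eq_mul]
    simp_rw [h2, Finset.sum_mul]
    rw [Finset.sum_comm]
    rw [← Finset.sum_subset (Finset.filter_subset (· ∈ S.IBrOf T) Finset.univ)]
    · refine Finset.sum_congr rfl fun φ hφ => ?_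
      have hφ' := (Finset.mem_filter.mp hφ).2
      rw [map_sum, Finset.mul_sum]
      rw [← Finset.sum_subset (Finset.filter_subset (· ∈ T) Finset.univ)]
      · refine Finset.sum_congr rfl fun ξ _ => ?_
        rw [map_mul, Complex.conj_natCast]
        ring
      · intro ξ _ hξ
        have hξT : ξ ∉ T := fun h => hξ (Finset.mem_filter.mpr ⟨Finset.mem_univ _, h⟩)
        rw [S.dnum_eq_zero_of_not_mem_union hM hS hT hξT hφ']
        simp
    · intro φ _ hφ
      have hφT : φ ∉ S.IBrOf T := fun h => hφ (Finset.mem_filter.mpr ⟨Finset.mem_univ _, h⟩)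
      apply Finset.sum_eq_zero
      intro ξ hξ
      rw [S.dnum_eq_zero_of_mem_of_not_mem (Finset.mem_filter.mp hξ).2 hφT]
      simp
  rw [Finset.sum_congr rfl fun y hy => h1 y (Finset.mem_filter.mp hy).2]
  rw [Finset.sum_comm]
  -- extend the sum over `y` to all of `G`
  have h3 : ∀ φ : S.IBr G, ∑ y ∈ Finset.univ.filter (fun y : G => ¬ p ∣ orderOf y),
      (φ : G → ℂ) (τ y) * conj (∑ χ : Cfsg.IrrCharacter G, (S.dnum χ φ : ℂ) * (χ : G → ℂ) y)
      = if (fun g => (φ : G → ℂ) (τ g)) = (φ : G → ℂ) then (Nat.card G : ℂ) else 0 := by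
    intro φ
    rw [Finset.sum_subset (Finset.filter_subset _ Finset.univ)]
    · have := S.sum_IBr_mul_conj_pim ⟨_, S.comp_mulEquiv_mem_IBr τ φ⟩ φ
      simp only at this
      rw [this]
      have hiff : (φ = ⟨_, S.comp_mulEquiv_mem_IBr τ φ⟩)
          ↔ (fun g => (φ : G → ℂ) (τ g)) = (φ : G → ℂ) := by
        rw [Subtype.ext_iff]
        exact eq_comm
      by_cases h : (fun g => (φ : G → ℂ) (τ g)) = (φ : G → ℂ)
      · rw [if_pos h, if_pos (hiff.mpr h)]
      · rw [if_neg h, if_neg (fun h' => h (hiff.mp h'))]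
    · intro y _ hy
      have hy' : ¬ Cfsg.IsPRegular p y := by
        intro h
        exact hy (Finset.mem_filter.mpr ⟨Finset.mem_univ _, h⟩)
      rw [S.sum_dnum_mul_eq_zero φ hy', map_zero, mul_zero]
  simp_rw [h3]
  rw [Finset.sum_ite, Finset.sum_const_zero, add_zero, Finset.sum_const, nsmul_eq_mul,
    Finset.filter_filter, mul_comm]

end ModSys

end Cfsg.Agent.Lib.Helper6.BrMod
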