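import Mathlib
import Cfsg.Agent.Lib.Helper6.BlkSections
import Cfsg.Agent.Lib.Helper6.BlkPrincipalSum

/-!
# Two-point versions of the section sums of `BlkPrincipalSum` / `BlkSections`
-/

set_option autoImplicit false
set_option linter.unusedSectionVars false
open Cfsg

namespace Cfsg.Agent.Lib.Helper6.BrMod

open Cfsg.Agent.Lib.Helper6
open scoped ComplexConjugate

section

variable {G : Type*} [Group G] [Fintype G] [DecidableEq G]
variable {p : ℕ} {M : Ideal Cfsg.AlgInt}

theorem sum_irr_shift_two (hp : p.Prime) [Fintype (Cfsg.IrrCharacter G)] (z : G)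
    (hz : ∃ k : ℕ, orderOf z = p ^ k) (H : Subgroup G) [Fintype H]
    (hH : H = Subgroup.centralizer ({z} : Set G)) (a a' : H → ℂ)
    (ha' : Cfsg.IsClassFunction H a')
    (hreg : ∀ c : H, p ∣ orderOf c → a c = 0) (hreg' : ∀ c : H, p ∣ orderOf c → a' c = 0) :
    ∑ ζ : Cfsg.IrrCharacter G, (∑ c : H, (ζ : G → ℂ) (z * (c : G)) * a c)
        * conj (∑ c : H, (ζ : G → ℂ) (z * (c : G)) * a' c)
      = (Nat.card H : ℂ) * ∑ c : H, a c * conj (a' c) := by
  classical
  have h1 : ∀ ζ : Cfsg.IrrCharacter G, (∑ c : H, (ζ : G → ℂ) (z * (c : G)) * a c)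
        * conj (∑ c : H, (ζ : G → ℂ) (z * (c : G)) * a' c)
      = ∑ c : H, ∑ c' : H, a c * conj (a' c')
          * ((ζ : G → ℂ) (z * (c : G)) * conj ((ζ : G → ℂ) (z * (c' : G)))) := by
    intro ζ
    rw [map_sum, Finset.sum_mul_sum]
    apply Finset.sum_congr rfl; intro c _
    apply Finset.sum_congr rfl; intro c' _
    rw [map_mul]; ring
  simp_rw [h1]
  rw [Finset.sum_comm, Finset.mul_sum]
  apply Finset.sum_congr rfl
  intro c _
  rw [Finset.sum_comm]
  simp_rw [← Finset.mul_sum, ← conjCount_eq_sum]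
  by_cases hac : a c = 0
  · simp [hac]
  have hcreg : ¬ p ∣ orderOf c := fun h => hac (hreg c h)
  have h2 : ∀ c' : H, a c * conj (a' c') * conjCount (z * (c' : G)) (z * (c : G))
      = a c * conj (a' c) * ((Finset.univ.filter (fun s : H => s * c' * s⁻¹ = c)).card : ℂ) := by
    intro c'
    by_cases hc' : p ∣ orderOf c'
    · rw [hreg' c' hc', map_zero, mul_zero, zero_mul]
      have : (Finset.univ.filter (fun s : H => s * c' * s⁻¹ = c)) = ∅ := by
        rw [Finset.filter_eq_empty_iff]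
        intro s _ hs
        apply hcreg
        rw [← hs]
        have : s * c' * s⁻¹ = MulAut.conj s c' := by simp [MulAut.conj_apply]
        rw [this, MulEquiv.orderOf_eq]
        exact hc'
      rw [this, Finset.card_empty, Nat.cast_zero, mul_zero]
    · rw [conjCount_shift hp z hz H hH c c' hcreg hc']
      by_cases hemp : (Finset.univ.filter (fun s : H => s * c' * s⁻¹ = c)) = ∅
      · rw [hemp, Finset.card_empty, Nat.cast_zero, mul_zero, mul_zero]
      · obtain ⟨s, hs⟩ := Finset.nonempty_iff_ne_empty.mpr hemp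
        simp only [Finset.mem_filter, Finset.mem_univ, true_and] at hs
        have : a' c' = a' c := by rw [← hs, ha' c' s]
        rw [this]
  simp_rw [h2]
  rw [← Finset.mul_sum]
  have h3 : ∑ c' : H, ((Finset.univ.filter (fun s : H => s * c' * s⁻¹ = c)).card : ℂ)
      = (Nat.card H : ℂ) := by
    rw [← Nat.cast_sum]
    congr 1
    simp_rw [Finset.card_filter]
    rw [Finset.sum_comm]
    have : ∀ s : H, ∑ c' : H, (if s * c' * s⁻¹ = c then 1 else 0) = 1 := by
      intro s
      rw [Finset.sum_eq_single (s⁻¹ * c * s)]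
      · rw [if_pos]; group
      · intro c' _ hne
        rw [if_neg]
        intro h
        apply hne
        rw [← h]; group
      · intro h; exact absurd (Finset.mem_univ _) h
    simp_rw [this]
    rw [Finset.sum_const, Finset.card_univ, Nat.card_eq_fintype_card]
    simp
  rw [h3]
  ring

theorem sum_blockPart_shift_two_union (hM : Cfsg.IsPModular p M)
    [Fintype (Cfsg.IrrCharacter G)]
    (z : G) (hz : ∃ k : ℕ, orderOf z = p ^ k) (H : Subgroup G) [Fintype H]
    (hH : H = Subgroup.centralizer ({z} : Set G)) [Fintype (Cfsg.IrrCharacter H)]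
    (S : Set (Cfsg.IrrCharacter H)) [DecidablePred (· ∈ S)]
    (hS : ∀ ξ ∈ S, Cfsg.blockOf M (ξ : H → ℂ) ⊆ S)
    (y y' : H) (hy : ¬ p ∣ orderOf y) (hy' : ¬ p ∣ orderOf y') :
    ∑ ζ : Cfsg.IrrCharacter G,
        Cfsg.blockPart S (fun c : H => (ζ : G → ℂ) (z * (c : G))) y'
        * conj (Cfsg.blockPart S (fun c : H => (ζ : G → ℂ) (z * (c : G))) y)
      = ∑ χ ∈ Finset.univ.filter (· ∈ S), (χ : H → ℂ) y' * conj ((χ : H → ℂ) y) := by
  classical
  have hp : p.Prime := hM.1
  have hcard : (Nat.card H : ℂ) ≠ 0 := card_ne_zero_complex H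
  obtain ⟨a, hadef⟩ : ∃ a : H → H → ℂ, a = fun w : H => fun c : H => (Nat.card H : ℂ)⁻¹ *
      ∑ χ ∈ Finset.univ.filter (· ∈ S),
        (χ : H → ℂ) w * conj ((χ : H → ℂ) c) := ⟨_, rfl⟩
  have ha : ∀ w : H, Cfsg.IsClassFunction H (a w) := by
    intro w g h
    rw [hadef]
    simp only
    congr 1
    apply Finset.sum_congr rfl
    intro χ _
    rw [IsIrrCharacter.isClassFunction χ.2 g h]
  have hreg : ∀ w : H, ¬ p ∣ orderOf w → ∀ c : H, p ∣ orderOf c → a w c = 0 := by
    intro w hw c hc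
    rw [hadef]
    simp only
    rw [weak_orthogonality_union hM S hS w c hw hc, mul_zero]
  have hpart : ∀ (w : H) (ϑ : H → ℂ), Cfsg.blockPart S ϑ w
      = ∑ c : H, ϑ c * a w c := by
    intro w ϑ
    rw [blockPart_eq_finset_sum, hadef]
    unfold Cfsg.classInner
    simp_rw [Finset.mul_sum, Finset.sum_mul]
    rw [Finset.sum_comm]
    apply Finset.sum_congr rfl
    intro c _
    apply Finset.sum_congr rfl
    intro χ _
    ring
  simp_rw [hpart]
  rw [sum_irr_shift_two hp z hz H hH (a y') (a y) (ha y) (hreg y' hy') (hreg y hy)]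
  have h1 : ∀ c : H, a y' c * conj (a y c) = (Nat.card H : ℂ)⁻¹ * (Nat.card H : ℂ)⁻¹ *
      ∑ χ ∈ Finset.univ.filter (· ∈ S),
        ∑ χ' ∈ Finset.univ.filter (· ∈ S),
          ((χ : H → ℂ) y' * conj ((χ' : H → ℂ) y))
            * ((χ' : H → ℂ) c * conj ((χ : H → ℂ) c)) := by
    intro c
    rw [hadef]
    simp only
    rw [map_mul, map_inv₀, Complex.conj_natCast, map_sum]
    rw [mul_mul_mul_comm, Finset.sum_mul_sum]
    congr 1
    apply Finset.sum_congr rfl; intro χ _
    apply Finset.sum_congr rfl; intro χ' _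
    rw [map_mul, Complex.conj_conj]
    ring
  simp_rw [h1]
  rw [← Finset.mul_sum, ← mul_assoc, ← mul_assoc, mul_inv_cancel₀ hcard, one_mul]
  rw [Finset.sum_comm, Finset.mul_sum]
  apply Finset.sum_congr rfl
  intro χ hχ
  rw [Finset.sum_comm, Finset.mul_sum]
  have h2 : ∀ χ' : Cfsg.IrrCharacter H, (Nat.card H : ℂ)⁻¹ *
      ∑ c : H, ((χ : H → ℂ) y' * conj ((χ' : H → ℂ) y))
            * ((χ' : H → ℂ) c * conj ((χ : H → ℂ) c))
      = ((χ : H → ℂ) y' * conj ((χ' : H → ℂ) y)) * (if χ' = χ then 1 else 0) := by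
    intro χ'
    rw [← classInner_irrCharacter χ' χ]
    unfold Cfsg.classInner
    rw [← Finset.mul_sum]
    ring
  simp_rw [h2]
  rw [Finset.sum_eq_single_of_mem χ hχ]
  · rw [if_pos rfl, mul_one]
  · intro χ' _ hne
    rw [if_neg hne, mul_zero]

end

end Cfsg.Agent.Lib.Helper6.BrMod
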