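import Mathlib

/-!
# A generator of the `p`-rational Galois group, arithmetically
-/

set_option autoImplicit false

namespace Cfsg.Agent.Lib.Helper6.BrMod

/-- For an odd prime `p` and `n > 0`, there is `k0` coprime to `n`, congruent to `1` modulo the
`p'`-part of `n`, such that every `k` with these properties is congruent mod `n` to a power of
`k0`. -/
theorem exists_prational_generator (p : ℕ) (hp : p.Prime) (hp2 : p ≠ 2) (n : ℕ) (hn : 0 < n) :
    ∃ k0 : ℕ, Nat.Coprime k0 n ∧ k0 ≡ 1 [MOD n / p ^ n.factorization p] ∧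
      ∀ k : ℕ, Nat.Coprime k n → k ≡ 1 [MOD n / p ^ n.factorization p] →
        ∃ j : ℕ, k ≡ k0 ^ j [MOD n] := by
  set a := n.factorization p with ha
  set q := p ^ a with hq
  set m := n / q with hm
  have hnqm : q * m = n := Nat.ordProj_mul_ordCompl_eq_self n p
  have hqm : Nat.Coprime q m := Nat.Coprime.pow_left a (Nat.coprime_ordCompl hp hn.ne')
  have hq0 : 0 < q := pow_pos hp.pos a
  haveI : NeZero q := ⟨hq0.ne'⟩
  haveI hcyc : IsCyclic (ZMod q)ˣ := ZMod.isCyclic_units_of_prime_pow p hp hp2 a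
  obtain ⟨r, hr⟩ := hcyc.exists_generator
  set r0 : ℕ := (r : ZMod q).val with hr0
  have hr0cast : ((r0 : ℕ) : ZMod q) = (r : ZMod q) := ZMod.natCast_zmod_val _
  have hr0cop : Nat.Coprime r0 q := ZMod.val_coe_unit_coprime r
  obtain ⟨k0, hk0q, hk0m⟩ := Nat.chineseRemainder hqm r0 1
  have hk0copq : Nat.Coprime k0 q := by
    have := Nat.ModEq.gcd_eq hk0q
    unfold Nat.Coprime
    rw [this]
    exact hr0cop
  have hk0copm : Nat.Coprime k0 m := by
    have := Nat.ModEq.gcd_eq hk0m
    unfold Nat.Coprime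
    rw [this]
    exact Nat.gcd_one_left m
  refine ⟨k0, ?_, hk0m, ?_⟩
  · rw [← hnqm]
    exact Nat.Coprime.mul_right hk0copq hk0copm
  · intro k hk hk1
    have hkq : Nat.Coprime k q := by
      rw [← hnqm] at hk
      exact Nat.Coprime.coprime_mul_right_right hk
    set u : (ZMod q)ˣ := ZMod.unitOfCoprime k hkq with hu
    have hmem : u ∈ Subgroup.zpowers r := hr u
    rw [← mem_powers_iff_mem_zpowers] at hmem
    obtain ⟨j, hj⟩ := hmem
    refine ⟨j, ?_⟩
    rw [← hnqm]
    rw [← Nat.modEq_and_modEq_iff_modEq_mul hqm]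
    constructor
    · rw [← ZMod.natCast_eq_natCast_iff]
      push_cast
      have h1 : ((k0 : ℕ) : ZMod q) = (r : ZMod q) := by
        rw [← hr0cast]
        exact (ZMod.natCast_eq_natCast_iff _ _ _).mpr hk0q
      rw [h1]
      have h2 : ((r ^ j : (ZMod q)ˣ) : ZMod q) = (u : ZMod q) := by
        have := congrArg (fun z : (ZMod q)ˣ => (z : ZMod q)) hj
        simpa using this
      rw [Units.val_pow_eq_pow_val] at h2
      rw [h2, hu, ZMod.coe_unitOfCoprime]
    · have : k0 ^ j ≡ 1 ^ j [MOD m] := Nat.ModEq.pow j hk0m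
      rw [one_pow] at this
      exact hk1.trans this.symm

/-- Invariance under one power map gives invariance under all its powers. -/
theorem apply_pow_pow_eq {G : Type*} [Group G] {α : Type*} (f : G → α) (k0 : ℕ)
    (h : ∀ g : G, f (g ^ k0) = f g) (j : ℕ) (g : G) : f (g ^ (k0 ^ j)) = f g := by
  induction j generalizing g with
  | zero => simp
  | succ j ih =>
    rw [pow_succ, pow_mul, h, ih]

theorem apply_pow_eq_of_modEq {G : Type*} [Group G] [Finite G] {α : Type*} (f : G → α) (k0 : ℕ)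
    (h : ∀ g : G, f (g ^ k0) = f g) (k j : ℕ) (hk : k ≡ k0 ^ j [MOD Nat.card G]) (g : G) :
    f (g ^ k) = f g := by
  have h1 : g ^ k = g ^ (k0 ^ j) := by
    rw [pow_eq_pow_iff_modEq]
    exact Nat.ModEq.of_dvd (orderOf_dvd_natCard g) hk
  rw [h1]
  exact apply_pow_pow_eq f k0 h j g

end Cfsg.Agent.Lib.Helper6.BrMod
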