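import Mathlib
import Cfsg.Agent.Lib.Helper6.BrMod16
import Cfsg.Agent.Lib.Helper6.BrMod17
import Cfsg.Agent.Lib.Helper6.BrMod18
import Cfsg.Agent.Lib.Helper6.GaloisPerm
import Cfsg.Agent.Lib.Helper6.Auto
import Cfsg.Agent.Lib.Helper6.BlkDefLe

/-!
# The number of `p`-rational characters in a block is at least the number of its irreducible
Brauer characters (`p` odd)
-/

set_option autoImplicit false

namespace Cfsg.Agent.Lib.Helper6.BrMod

open Cfsg.Agent.Lib.Helper6
open Module
open scoped ComplexConjugate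

open Classical in
/-- The contribution of a `p`-section to the number of fixed characters is a natural number. -/
theorem section_twist_sum {G : Type*} [Group G] [Fintype G] {p : ℕ} [Fact p.Prime]
    {M : Ideal Cfsg.AlgInt} (hM : Cfsg.IsPModular p M) (S : ModSys p)
    (hS : ∀ a : Cfsg.AlgInt, a ∈ M ↔ (a : ℂ) ∈ S.O.nonunits)
    [Fintype (Cfsg.IrrCharacter G)] (χ₀ : Cfsg.IrrCharacter G) (k0 : ℕ)
    (hk0 : ∀ y : G, ¬ p ∣ orderOf y → y ^ k0 = y) (x : G) :
    ∃ m : ℕ, ∑ g : G, (if Cfsg.IsPPart p g x then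
        ∑ χ ∈ Finset.univ.filter (· ∈ Cfsg.blockOf M (χ₀ : G → ℂ)),
          (χ : G → ℂ) (g ^ k0) * conj ((χ : G → ℂ) g) else 0) = (m : ℂ) := by
  classical
  have hp : p.Prime := hM.1
  by_cases hx : ∃ k : ℕ, orderOf x = p ^ k
  swap
  · refine ⟨0, ?_⟩
    rw [Nat.cast_zero]
    apply Finset.sum_eq_zero
    intro g _
    rw [if_neg]
    rintro ⟨y, -, -, hxk, -⟩
    exact hx hxk
  set H : Subgroup G := Subgroup.centralizer ({x} : Set G) with hH
  letI : Fintype H := Fintype.ofFinite H
  letI : Fintype (Cfsg.IrrCharacter H) := Fintype.ofFinite _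
  set B := Cfsg.blockOf M (χ₀ : G → ℂ) with hBdef
  have hB : Cfsg.IsPBlock M B := ⟨χ₀, rfl⟩
  obtain ⟨F, hF⟩ : ∃ F : G → ℂ, F = fun g => ∑ χ ∈ Finset.univ.filter (· ∈ B),
      (χ : G → ℂ) (g ^ k0) * conj ((χ : G → ℂ) g) := ⟨_, rfl⟩
  have hcommH : ∀ y : H, Commute x (y : G) := fun y => mem_centralizer_singleton_iff.mp y.2
  -- Step 1: the sum over the section as a sum over the `p`-regular elements of `H`
  have h1 : ∑ g : G, (if Cfsg.IsPPart p g x then F g else 0)
      = ∑ y ∈ Finset.univ.filter (fun y : H => ¬ p ∣ orderOf y), F (x * (y : G)) := by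
    rw [← Finset.sum_filter]
    symm
    apply Finset.sum_bij (fun (y : H) _ => x * (y : G))
    · intro y hy
      simp only [Finset.mem_filter, Finset.mem_univ, true_and] at hy ⊢
      refine ⟨(y : G), rfl, hcommH y, hx, ?_⟩
      rwa [Subgroup.orderOf_coe]
    · intro y _ y' _ h
      exact Subtype.ext (mul_left_cancel h)
    · intro g hg
      simp only [Finset.mem_filter, Finset.mem_univ, true_and] at hg
      obtain ⟨y, hxy, hc, -, hy⟩ := hg
      refine ⟨⟨y, mem_centralizer_singleton_iff.mpr hc.eq⟩, ?_, hxy⟩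
      simp only [Finset.mem_filter, Finset.mem_univ, true_and]
      rw [← Subgroup.orderOf_coe]
      exact hy
    · intro y _; rfl
  have hpow : ∀ y : H, ¬ p ∣ orderOf y → (x * (y : G)) ^ k0 = x ^ k0 * (y : G) := by
    intro y hy
    rw [(hcommH y).mul_pow, hk0 (y : G) (by rwa [Subgroup.orderOf_coe])]
  have hgoal : (∑ g : G, (if Cfsg.IsPPart p g x then
        ∑ χ ∈ Finset.univ.filter (· ∈ B),
          (χ : G → ℂ) (g ^ k0) * conj ((χ : G → ℂ) g) else 0))
      = ∑ g : G, (if Cfsg.IsPPart p g x then F g else 0) := by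
    rw [hF]
  rw [hgoal, h1]
  by_cases hconj : IsConj (x ^ k0) x
  swap
  · -- Case A: block orthogonality
    refine ⟨0, ?_⟩
    rw [Nat.cast_zero]
    apply Finset.sum_eq_zero
    intro y hy
    have hy' := (Finset.mem_filter.mp hy).2
    rw [hF]
    simp only
    rw [hpow y hy']
    have hyG : ¬ p ∣ orderOf (y : G) := by rwa [Subgroup.orderOf_coe]
    have hxk0 : ∃ k : ℕ, orderOf (x ^ k0) = p ^ k := by
      obtain ⟨k, hk⟩ := hx
      have hdvd : orderOf (x ^ k0) ∣ p ^ k := hk ▸ orderOf_pow_dvd k0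
      obtain ⟨k', _, hk'⟩ := (Nat.dvd_prime_pow hp).mp hdvd
      exact ⟨k', hk'⟩
    have h2 := block_orthogonality hM (x ^ k0 * (y : G)) (x * (y : G)) (x ^ k0) x
      ⟨(y : G), rfl, (hcommH y).pow_left k0, hxk0, hyG⟩
      ⟨(y : G), rfl, hcommH y, hx, hyG⟩ hconj χ₀
    rw [finsum_mem_eq_sum_filter_lib] at h2
    rw [← h2]
    refine Finset.sum_congr rfl fun χ _ => ?_
    rw [IsCharacter.apply_inv (IsIrrCharacter.isCharacter χ.2)]
  · -- Case B: the twisted kernel
    obtain ⟨t, ht⟩ := isConj_iff.mp hconj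
    have hmemτ : ∀ y : H, t * (y : G) * t⁻¹ ∈ H := by
      intro y
      show t * (y : G) * t⁻¹ ∈ Subgroup.centralizer ({x} : Set G)
      rw [mem_centralizer_singleton_iff]
      have hc : x ^ k0 * (y : G) = (y : G) * x ^ k0 := ((hcommH y).pow_left k0).eq
      calc x * (t * (y : G) * t⁻¹) = (t * x ^ k0 * t⁻¹) * (t * (y : G) * t⁻¹) := by rw [ht]
        _ = t * (x ^ k0 * (y : G)) * t⁻¹ := by group
        _ = t * ((y : G) * x ^ k0) * t⁻¹ := by rw [hc]
        _ = (t * (y : G) * t⁻¹) * (t * x ^ k0 * t⁻¹) := by group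
        _ = (t * (y : G) * t⁻¹) * x := by rw [ht]
    let τ₀ : H →* H :=
      { toFun := fun y => ⟨t * (y : G) * t⁻¹, hmemτ y⟩
        map_one' := by
          apply Subtype.ext
          simp
        map_mul' := by
          intro y y'
          apply Subtype.ext
          simp only [Subgroup.coe_mul]
          group }
    have hτ₀inj : Function.Injective τ₀ := by
      intro y y' h
      have h2 : t * (y : G) * t⁻¹ = t * (y' : G) * t⁻¹ := congrArg Subtype.val h
      apply Subtype.ext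
      exact mul_left_cancel (mul_right_cancel h2)
    let τ : H ≃* H := MulEquiv.ofBijective τ₀ (Finite.injective_iff_bijective.mp hτ₀inj)
    have hτval : ∀ y : H, ((τ y : H) : G) = t * (y : G) * t⁻¹ := fun y => rfl
    have hτord : ∀ y : H, orderOf (τ y) = orderOf y := fun y => MulEquiv.orderOf_eq τ y
    set SB : Set (Cfsg.IrrCharacter H) := {ξ : Cfsg.IrrCharacter H |
        Cfsg.IsInducedBlock M H (Cfsg.blockOf M (ξ : H → ℂ)) B} with hSB
    have hSBu := inducedSet_isUnion hM H B
    -- pointwise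
    have h3 : ∀ y : H, ¬ p ∣ orderOf y → F (x * (y : G))
        = ∑ ξ ∈ Finset.univ.filter (· ∈ SB), (ξ : H → ℂ) (τ y) * conj ((ξ : H → ℂ) y) := by
      intro y hy
      have hτy : ¬ p ∣ orderOf (τ y) := by rwa [hτord]
      rw [← sum_blockPart_shift_two_union hM x hx H rfl SB hSBu y (τ y) hy hτy]
      rw [hF]
      simp only
      rw [hpow y hy]
      have h4 : ∀ ζ : Cfsg.IrrCharacter G,
          Cfsg.blockPart SB (fun c : H => (ζ : G → ℂ) (x * (c : G))) (τ y)
          * conj (Cfsg.blockPart SB (fun c : H => (ζ : G → ℂ) (x * (c : G))) y)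
          = if ζ ∈ B then (ζ : G → ℂ) (x ^ k0 * (y : G)) * conj ((ζ : G → ℂ) (x * (y : G)))
            else 0 := by
        intro ζ
        rw [hSB, blockPart_shift_induced hM x hx H rfl B hB ζ y hy,
          blockPart_shift_induced hM x hx H rfl B hB ζ (τ y) hτy]
        by_cases hζ : ζ ∈ B
        · rw [if_pos hζ, if_pos hζ, if_pos hζ]
          congr 1
          rw [hτval]
          have h5 : x * (t * (y : G) * t⁻¹) = t * (x ^ k0 * (y : G)) * t⁻¹ := by
            calc x * (t * (y : G) * t⁻¹) = (t * x ^ k0 * t⁻¹) * (t * (y : G) * t⁻¹) := by rw [ht]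
              _ = t * (x ^ k0 * (y : G)) * t⁻¹ := by group
          rw [h5]
          exact IsIrrCharacter.isClassFunction ζ.2 _ t
        · rw [if_neg hζ, if_neg hζ, if_neg hζ, zero_mul]
      simp_rw [h4]
      rw [← Finset.sum_filter]
    rw [Finset.sum_congr rfl fun y hy => h3 y (Finset.mem_filter.mp hy).2]
    obtain ⟨m, hm⟩ := S.sum_kernel_twist hM hS SB hSBu τ
    refine ⟨Nat.card H * m, ?_⟩
    rw [hm]
    push_cast
    rfl

/-- **Brauer**: for an odd prime `p`, the number of `p`-rational irreducible characters in a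
`p`-block is at least the number of irreducible Brauer characters of the block. -/
theorem blockRank_le_card_prational {G : Type*} [Group G] [Finite G] (p : ℕ) [Fact p.Prime]
    (hodd : p ≠ 2) (M : Ideal Cfsg.AlgInt) (hM : Cfsg.IsPModular p M)
    (B : Set (Cfsg.IrrCharacter G)) (hB : Cfsg.IsPBlock M B) :
    Cfsg.blockRank p B ≤ Nat.card {χ : Cfsg.IrrCharacter G // χ ∈ B ∧ ∀ k : ℕ,
      Nat.Coprime k (Nat.card G) →
      k ≡ 1 [MOD Nat.card G / p ^ (Nat.card G).factorization p] →
      ∀ g : G, (χ : G → ℂ) (g ^ k) = (χ : G → ℂ) g} := by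
  classical
  letI := Fintype.ofFinite G
  letI : Fintype (Cfsg.IrrCharacter G) := Fintype.ofFinite _
  have hp : p.Prime := hM.1
  obtain ⟨S, hS⟩ := exists_modSys hM
  obtain ⟨χ₀, rfl⟩ := hB
  set B := Cfsg.blockOf M (χ₀ : G → ℂ) with hBdef
  obtain ⟨k0, hk0c, hk01, hk0gen⟩ :=
    exists_prational_generator p hp hodd (Nat.card G) Nat.card_pos
  have hk0reg : ∀ y : G, ¬ p ∣ orderOf y → y ^ k0 = y := by
    intro y hy
    have h1 : orderOf y ∣ Nat.card G / p ^ (Nat.card G).factorization p := by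
      have h2 : orderOf y ∣ p ^ (Nat.card G).factorization p
          * (Nat.card G / p ^ (Nat.card G).factorization p) := by
        rw [Nat.ordProj_mul_ordCompl_eq_self]; exact orderOf_dvd_natCard y
      exact Nat.Coprime.dvd_of_dvd_mul_left
        (Nat.Coprime.pow_right _ ((Nat.Prime.coprime_iff_not_dvd hp).mpr hy).symm) h2
    have : y ^ k0 = y ^ 1 := by
      rw [pow_eq_pow_iff_modEq]; exact Nat.ModEq.of_dvd h1 hk01
    rwa [pow_one] at this
  set Fix := Finset.univ.filter
    (fun χ : Cfsg.IrrCharacter G => χ ∈ B ∧ powIrr k0 hk0c χ = χ) with hFix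
  have hle : Fix.card ≤ Nat.card {χ : Cfsg.IrrCharacter G // χ ∈ B ∧ ∀ k : ℕ,
      Nat.Coprime k (Nat.card G) →
      k ≡ 1 [MOD Nat.card G / p ^ (Nat.card G).factorization p] →
      ∀ g : G, (χ : G → ℂ) (g ^ k) = (χ : G → ℂ) g} := by
    rw [Nat.card_eq_fintype_card, Fintype.card_subtype]
    apply Finset.card_le_card
    intro χ hχ
    simp only [hFix, Finset.mem_filter, Finset.mem_univ, true_and] at hχ ⊢
    refine ⟨hχ.1, ?_⟩
    intro k hk hk1 g
    obtain ⟨j, hj⟩ := hk0gen k hk hk1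
    have hfix : ∀ g : G, (χ : G → ℂ) (g ^ k0) = (χ : G → ℂ) g := by
      intro g
      have := congrArg (fun ψ : Cfsg.IrrCharacter G => (ψ : G → ℂ) g) hχ.2
      simpa [powIrr_apply] using this
    exact apply_pow_eq_of_modEq _ k0 hfix k j hj g
  refine le_trans ?_ hle
  have hcard : (Nat.card G : ℂ) ≠ 0 := by exact_mod_cast Nat.card_pos.ne'
  obtain ⟨F, hF⟩ : ∃ F : G → ℂ, F = fun g => ∑ χ ∈ Finset.univ.filter (· ∈ B),
      (χ : G → ℂ) (g ^ k0) * conj ((χ : G → ℂ) g) := ⟨_, rfl⟩
  -- (E)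
  have hE : ∑ g : G, F g = (Nat.card G : ℂ) * (Fix.card : ℂ) := by
    rw [hF]
    simp only
    rw [Finset.sum_comm]
    have h1 : ∀ χ : Cfsg.IrrCharacter G,
        ∑ g : G, (χ : G → ℂ) (g ^ k0) * conj ((χ : G → ℂ) g)
          = (Nat.card G : ℂ) * if powIrr k0 hk0c χ = χ then 1 else 0 := by
      intro χ
      rw [← classInner_irrCharacter (powIrr k0 hk0c χ) χ]
      unfold Cfsg.classInner
      rw [← mul_assoc, mul_inv_cancel₀ hcard, one_mul]
      rfl
    simp_rw [h1]
    rw [← Finset.mul_sum, hFix, ← Finset.filter_filter, Finset.card_filter]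
    push_cast
    rfl
  -- (F)
  have hFsum : ∑ g : G, F g = ∑ x : G, ∑ g : G, (if Cfsg.IsPPart p g x then F g else 0) := by
    rw [Finset.sum_comm]
    refine Finset.sum_congr rfl fun g _ => ?_
    obtain ⟨u, hu⟩ := exists_isPPart hp g
    rw [Finset.sum_eq_single u]
    · rw [if_pos hu]
    · intro x _ hne
      rw [if_neg]
      intro hx
      exact hne (IsPPart.unique hp hx hu)
    · intro h; exact absurd (Finset.mem_univ _) h
  -- (G)
  have hG1 : ∑ g : G, (if Cfsg.IsPPart p g 1 then F g else 0)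
      = (Nat.card G : ℂ) * (Cfsg.blockRank p B : ℂ) := by
    rw [blockRank_mul_card hM χ₀, ← Finset.sum_filter]
    have hfilt : Finset.univ.filter (fun g : G => Cfsg.IsPPart p g 1)
        = Finset.univ.filter (fun y : G => ¬ p ∣ orderOf y) := by
      ext g
      simp only [Finset.mem_filter, Finset.mem_univ, true_and]
      constructor
      · rintro ⟨y, hy1, -, -, hy⟩
        rw [one_mul] at hy1
        rwa [← hy1]
      · intro hg
        exact ⟨g, one_mul g, Commute.one_left g, ⟨0, by simp⟩, hg⟩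
    rw [hfilt]
    refine Finset.sum_congr rfl fun y hy => ?_
    have hy' := (Finset.mem_filter.mp hy).2
    rw [finsum_mem_eq_sum_filter_lib, hF]
    simp only
    rw [hk0reg y hy']
  -- (H)
  have hH := fun x : G => section_twist_sum hM S hS χ₀ k0 hk0reg x
  choose m hm using hH
  have hm' : ∀ x : G, ∑ g : G, (if Cfsg.IsPPart p g x then F g else 0) = (m x : ℂ) := by
    intro x
    rw [← hm x, hF]
  have hfinal : (Nat.card G : ℂ) * (Fix.card : ℂ)
      = (Nat.card G : ℂ) * (Cfsg.blockRank p B : ℂ) + ∑ x ∈ Finset.univ.erase (1 : G), (m x : ℂ) := by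
    rw [← hE, hFsum, ← Finset.add_sum_erase Finset.univ _ (Finset.mem_univ (1 : G)), hG1]
    congr 1
    exact Finset.sum_congr rfl fun x _ => hm' x
  have hnat : Nat.card G * Fix.card
      = Nat.card G * Cfsg.blockRank p B + ∑ x ∈ Finset.univ.erase (1 : G), m x := by
    exact_mod_cast hfinal
  have h2 : Nat.card G * Cfsg.blockRank p B ≤ Nat.card G * Fix.card := by
    rw [hnat]; exact Nat.le_add_right _ _
  exact Nat.le_of_mul_le_mul_left h2 Nat.card_pos

end Cfsg.Agent.Lib.Helper6.BrMod
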