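import Mathlib
import Cfsg.Agent.S4733
import Cfsg.Agent.S4675
import Cfsg.Agent.S0908
import Cfsg.Agent.Lib.Helper6.BlkDefectOne
import Cfsg.Agent.Lib.Helper6.BlkDefect
import Cfsg.Agent.Lib.Helper6.RobSep
import Cfsg.Agent.Lib.Helper6.Auto

/-!
# CT1 for Brandt's theorem (S4607): a block with two characters
-/

set_option autoImplicit false

namespace Cfsg.Agent.Lib.Helper1.Brandt

open Cfsg.Agent.Lib.Helper6
open scoped ComplexConjugate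

universe u

theorem brandt_ct1 {G : Type u} [Group G] [Finite G] (p : ℕ) [Fact p.Prime]
    (M : Ideal Cfsg.AlgInt) (hM : Cfsg.IsPModular p M) (B : Set (Cfsg.IrrCharacter G))
    (hB : Cfsg.IsPBlock M B) (D : Subgroup G) (hD : Cfsg.IsDefectGroup p M B D)
    (hk : Nat.card B = 2) :
    ∃ χ₁ χ₂ : Cfsg.IrrCharacter G, χ₁ ≠ χ₂ ∧ B = {χ₁, χ₂} ∧
      (∃ g : G, ¬ Cfsg.MemLocalIdeal M ((χ₁ : G → ℂ) g)) ∧
      (∃ g : G, ¬ Cfsg.MemLocalIdeal M ((χ₂ : G → ℂ) g)) ∧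
      (Cfsg.charDegree (χ₁ : G → ℂ) = Cfsg.charDegree (χ₂ : G → ℂ) → Nat.card D = 2) := by
  classical
  haveI : Fintype G := Fintype.ofFinite G
  have hpp : p.Prime := Fact.out
  -- the two characters
  have hk' : B.ncard = 2 := by rw [← Nat.card_coe_set_eq]; exact hk
  obtain ⟨χ₁, χ₂, h12, hBeq⟩ := Set.ncard_eq_two.mp hk'
  have h1B : χ₁ ∈ B := by rw [hBeq]; exact Set.mem_insert _ _
  have h2B : χ₂ ∈ B := by rw [hBeq]; exact Set.mem_insert_of_mem _ rfl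
  -- rank one, positive defect
  obtain ⟨hle, hd1, hd2⟩ := Cfsg.Agent.S4733.result p M hM B hB
  have hpos : 0 < Cfsg.blockRank p B := blockRank_pos hM B hB
  have hdef : Cfsg.blockDefect p B ≠ 0 := by
    intro h0
    have := (hd1.mp h0).1
    omega
  have hrank : Cfsg.blockRank p B = 1 := by
    have hne : Nat.card B ≠ Cfsg.blockRank p B := fun h => hdef (hd2.mpr h)
    omega
  obtain ⟨φ, d, ⟨n, hn⟩, hφ, hsum⟩ := Cfsg.Agent.S4675.result p M hM B hB D hD hrank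
  have hcard : Nat.card D = p ^ Cfsg.blockDefect p B := Cfsg.Agent.S0908.result p M hM B hB D hD
  -- unfold the two-term sums
  have hsum' : d χ₁ ^ 2 + d χ₂ ^ 2 = Nat.card D := by
    rw [← hsum, hBeq, finsum_mem_pair h12]
  have hreg1 : Cfsg.IsPRegular p (1 : G) := by
    unfold Cfsg.IsPRegular
    rw [orderOf_one]
    exact hpp.one_lt.ne' ∘ Nat.dvd_one.mp
  have hc1 : Cfsg.IsCharacter G (χ₁ : G → ℂ) := IsIrrCharacter.isCharacter χ₁.2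
  have hc2 : Cfsg.IsCharacter G (χ₂ : G → ℂ) := IsIrrCharacter.isCharacter χ₂.2
  have hdeg1 : (χ₁ : G → ℂ) 1 = (Cfsg.charDegree (χ₁ : G → ℂ) : ℂ) :=
    IsCharacter.apply_one_eq_charDegree hc1
  have hdeg2 : (χ₂ : G → ℂ) 1 = (Cfsg.charDegree (χ₂ : G → ℂ) : ℂ) :=
    IsCharacter.apply_one_eq_charDegree hc2
  have hdegpos1 : 0 < Cfsg.charDegree (χ₁ : G → ℂ) := IsIrrCharacter.charDegree_pos χ₁.2
  have hdegpos2 : 0 < Cfsg.charDegree (χ₂ : G → ℂ) := IsIrrCharacter.charDegree_pos χ₂.2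
  have e1 : (Cfsg.charDegree (χ₁ : G → ℂ) : ℂ) = (d χ₁ : ℂ) * φ 1 := by
    rw [← hdeg1]; exact hφ χ₁ h1B 1 hreg1
  have e2 : (Cfsg.charDegree (χ₂ : G → ℂ) : ℂ) = (d χ₂ : ℂ) * φ 1 := by
    rw [← hdeg2]; exact hφ χ₂ h2B 1 hreg1
  have hφ1 : φ 1 ≠ 0 := by
    intro h
    rw [h, mul_zero] at e1
    have : Cfsg.charDegree (χ₁ : G → ℂ) = 0 := by exact_mod_cast e1
    omega
  have hd1ne : d χ₁ ≠ 0 := by
    intro h
    rw [h, Nat.cast_zero, zero_mul] at e1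
    have : Cfsg.charDegree (χ₁ : G → ℂ) = 0 := by exact_mod_cast e1
    omega
  have hd2ne : d χ₂ ≠ 0 := by
    intro h
    rw [h, Nat.cast_zero, zero_mul] at e2
    have : Cfsg.charDegree (χ₂ : G → ℂ) = 0 := by exact_mod_cast e2
    omega
  -- n₁ d₁ + n₂ d₂ = 1
  have hn1 : (n χ₁ : ℤ) * (d χ₁ : ℤ) + (n χ₂ : ℤ) * (d χ₂ : ℤ) = 1 := by
    have h := hn 1 hreg1
    rw [hBeq, finsum_mem_pair h12, hdeg1, hdeg2, e1, e2] at h
    have h' : φ 1 * (((n χ₁ : ℤ) : ℂ) * (d χ₁ : ℂ) + ((n χ₂ : ℤ) : ℂ) * (d χ₂ : ℂ)) = φ 1 * 1 := by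
      rw [mul_one]
      calc φ 1 * (((n χ₁ : ℤ) : ℂ) * (d χ₁ : ℂ) + ((n χ₂ : ℤ) : ℂ) * (d χ₂ : ℂ))
          = ((n χ₁ : ℤ) : ℂ) * ((d χ₁ : ℂ) * φ 1) + ((n χ₂ : ℤ) : ℂ) * ((d χ₂ : ℂ) * φ 1) := by
            ring
        _ = φ 1 := h.symm
    have h'' := mul_left_cancel₀ hφ1 h'
    exact_mod_cast h''
  -- p divides neither d
  have hpd : p ∣ d χ₁ ^ 2 + d χ₂ ^ 2 := by
    rw [hsum', hcard]
    exact dvd_pow_self p hdef
  have hnd1 : ¬ p ∣ d χ₁ := by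
    intro h
    have h2 : p ∣ d χ₂ ^ 2 := (Nat.dvd_add_right (dvd_pow h two_ne_zero)).mp hpd
    have h3 : p ∣ d χ₂ := hpp.dvd_of_dvd_pow h2
    have h4 : (p : ℤ) ∣ 1 := by
      rw [← hn1]
      exact dvd_add (Dvd.dvd.mul_left (Int.natCast_dvd_natCast.mpr h) _)
        (Dvd.dvd.mul_left (Int.natCast_dvd_natCast.mpr h3) _)
    have h5 : p ∣ 1 := by exact_mod_cast h4
    exact hpp.one_lt.ne' (Nat.dvd_one.mp h5)
  have hnd2 : ¬ p ∣ d χ₂ := by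
    intro h
    have h2 : p ∣ d χ₁ ^ 2 := (Nat.dvd_add_left (dvd_pow h two_ne_zero)).mp hpd
    exact hnd1 (hpp.dvd_of_dvd_pow h2)
  -- the defect class
  obtain ⟨g₀, ⟨-, hnot, -⟩, -, -⟩ := hD
  obtain ⟨χ₀, hBχ₀⟩ := id hB
  have hg₀reg : Cfsg.IsPRegular p g₀ := by
    unfold Cfsg.IsPRegular
    apply pRegular_of_blockCoeff hM χ₀ g₀
    rw [← hBχ₀]; exact hnot
  -- blockCoeff B g₀ = c * conj (φ g₀)
  have hco : Cfsg.blockCoeff B g₀ =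
      ((d χ₁ : ℂ)⁻¹ * (((Nat.card D * Cfsg.charDegree (χ₁ : G → ℂ) : ℕ) : ℂ) / (Nat.card G : ℂ))) *
        conj (φ g₀) := by
    unfold Cfsg.blockCoeff
    rw [hBeq, finsum_mem_pair h12, hφ χ₁ h1B g₀ hg₀reg, hφ χ₂ h2B g₀ hg₀reg, hdeg1, hdeg2, e2,
      map_mul, map_mul, Complex.conj_natCast, Complex.conj_natCast]
    have hD' : (Nat.card D : ℂ) = (d χ₁ : ℂ) ^ 2 + (d χ₂ : ℂ) ^ 2 := by
      rw [← hsum']; push_cast; ring
    have hd1c : (d χ₁ : ℂ) ≠ 0 := Nat.cast_ne_zero.mpr hd1ne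
    rw [Nat.cast_mul, hD', e1]
    field_simp
  have hcloc : Cfsg.MemLocalRing M ((d χ₁ : ℂ)⁻¹ *
      (((Nat.card D * Cfsg.charDegree (χ₁ : G → ℂ) : ℕ) : ℂ) / (Nat.card G : ℂ))) := by
    apply MemLocalRing.mul hM (memLocalRing_inv_natCast hM hnd1)
    apply memLocalRing_natCast_div hM Nat.card_pos.ne'
    have hne1 : Nat.card D ≠ 0 := Nat.card_pos.ne'
    rw [Nat.factorization_mul hne1 hdegpos1.ne', Finsupp.add_apply, hcard,
      Nat.factorization_pow, Finsupp.smul_apply, hpp.factorization_self, smul_eq_mul, mul_one]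
    unfold Cfsg.blockDefect
    have hinf : sInf ((fun χ : Cfsg.IrrCharacter G =>
        (Cfsg.charDegree (χ : G → ℂ)).factorization p) '' B) ≤
        (Cfsg.charDegree (χ₁ : G → ℂ)).factorization p :=
      Nat.sInf_le ⟨χ₁, h1B, rfl⟩
    omega
  have hφg : ¬ Cfsg.MemLocalIdeal M (conj (φ g₀)) := by
    intro h
    apply hnot
    rw [hco]
    exact MemLocalIdeal.mul_left hM hcloc h
  have hval : ∀ χ ∈ B, ¬ p ∣ d χ → ¬ Cfsg.MemLocalIdeal M ((χ : G → ℂ) g₀⁻¹) := by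
    intro χ hχ hnd h
    apply hφg
    rw [IsCharacter.apply_inv (IsIrrCharacter.isCharacter χ.2), hφ χ hχ g₀ hg₀reg, map_mul,
      Complex.conj_natCast] at h
    have h2 := MemLocalIdeal.mul_left hM (memLocalRing_inv_natCast hM hnd) h
    have hdc : (d χ : ℂ) ≠ 0 := by
      intro h0
      have : d χ = 0 := by exact_mod_cast h0
      exact hnd (this ▸ dvd_zero p)
    rwa [← mul_assoc, inv_mul_cancel₀ hdc, one_mul] at h2
  refine ⟨χ₁, χ₂, h12, hBeq, ⟨g₀⁻¹, hval χ₁ h1B hnd1⟩, ⟨g₀⁻¹, hval χ₂ h2B hnd2⟩, ?_⟩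
  intro hdeg
  have h3 : (d χ₁ : ℂ) * φ 1 = (d χ₂ : ℂ) * φ 1 := by rw [← e1, ← e2, hdeg]
  have h4 : (d χ₁ : ℂ) = (d χ₂ : ℂ) := mul_right_cancel₀ hφ1 h3
  have h5 : d χ₁ = d χ₂ := by exact_mod_cast h4
  rw [← h5] at hn1 hsum'
  have h6 : ((n χ₁ : ℤ) + (n χ₂ : ℤ)) * (d χ₁ : ℤ) = 1 := by rw [← hn1]; ring
  have h7 : (d χ₁ : ℤ) ∣ 1 := Dvd.intro_left _ h6
  have h8 : d χ₁ = 1 := by
    have := Int.natCast_dvd_natCast.mp (by simpa using h7 : ((d χ₁ : ℕ) : ℤ) ∣ ((1 : ℕ) : ℤ))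
    exact Nat.dvd_one.mp this
  rw [h8] at hsum'
  omega

end Cfsg.Agent.Lib.Helper1.Brandt
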