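import Mathlib
import Cfsg.Agent.S4733
import Cfsg.Agent.S0908
import Cfsg.Agent.Lib.Helper6.BlkDefectOne

/-!
# CT2 for Brandt's theorem (S4607): a defect group of order two gives two characters
-/

set_option autoImplicit false

namespace Cfsg.Agent.Lib.Helper1.Brandt

open Cfsg.Agent.Lib.Helper6

universe u

theorem brandt_ct2 {G : Type u} [Group G] [Finite G] (p : ℕ) [Fact p.Prime]
    (M : Ideal Cfsg.AlgInt) (hM : Cfsg.IsPModular p M) (B : Set (Cfsg.IrrCharacter G))
    (hB : Cfsg.IsPBlock M B) (D : Subgroup G) (hD : Cfsg.IsDefectGroup p M B D)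
    (hD2 : Nat.card D = 2) : Nat.card B = 2 := by
  classical
  haveI : Fintype G := Fintype.ofFinite G
  have hpp : p.Prime := Fact.out
  have hcard : Nat.card D = p ^ Cfsg.blockDefect p B := Cfsg.Agent.S0908.result p M hM B hB D hD
  rw [hD2] at hcard
  have hdne : Cfsg.blockDefect p B ≠ 0 := by
    intro h0
    rw [h0, pow_zero] at hcard
    omega
  have hp2 : p = 2 := by
    have h1 : p ∣ 2 := by rw [hcard]; exact dvd_pow_self p hdne
    exact (Nat.prime_dvd_prime_iff_eq hpp Nat.prime_two).mp h1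
  subst hp2
  have hd1 : Cfsg.blockDefect 2 B = 1 := by
    have h2 : (2 : ℕ) ^ 1 = 2 ^ Cfsg.blockDefect 2 B := by rw [pow_one]; exact hcard
    exact (Nat.pow_right_injective (le_refl 2) h2).symm
  have hle2 : Nat.card B ≤ 2 := card_block_le_two hM B hB (by omega)
  obtain ⟨hle, hq1, hq2⟩ := Cfsg.Agent.S4733.result 2 M hM B hB
  have hpos : 0 < Cfsg.blockRank 2 B := blockRank_pos hM B hB
  have hne1 : Nat.card B ≠ 1 := by
    intro h1
    have h3 : Nat.card B = Cfsg.blockRank 2 B := by omega
    have := hq2.mpr h3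
    omega
  have hne0 : Nat.card B ≠ 0 := by omega
  omega

end Cfsg.Agent.Lib.Helper1.Brandt
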