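import Mathlib
import Cfsg.Agent.Lib.Helper8.C5Defs
import Cfsg.Agent.Lib.Helper8.C5A5

set_option autoImplicit false
set_option maxRecDepth 100000
set_option linter.unusedVariables false
set_option linter.unusedSectionVars false
set_option linter.style.longLine false
set_option linter.deprecated false

/-!
# S3433 piece Hb3: the configuration `Cfg Q T` for `T = C_G(w) ∩ N_G(Q)` (inner form, with
piece Hb1 as a hypothesis)
-/

open Cfsg.Agent.Lib.Helper8.C5

namespace Cfsg.Agent.Lib.Helper6.C5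

universe u
variable {G : Type u} [Group G] [Finite G]

namespace A5more

theorem pow64 : ∀ g : A5, g ^ 64 = 1 → g ^ 2 = 1 := by decide +kernel

/-- a `2`-subgroup of `A5` containing a subgroup of order `4` equals it. -/
theorem eq_of_le_of_two_group {V W : Subgroup A5} (hV : Nat.card ↥V = 4) (hVW : V ≤ W)
    (hW : IsPGroup 2 ↥W) : W = V := by
  obtain ⟨k, hk⟩ := IsPGroup.iff_card.mp hW
  have hdvd : Nat.card ↥W ∣ Nat.card A5 := Subgroup.card_subgroup_dvd_card W
  have h60 : Nat.card A5 = 60 := a5_card (MulEquiv.refl A5)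
  have hk2 : k ≤ 2 := by
    by_contra hcon
    push Not at hcon
    have h1 : 2 ^ 3 ∣ 2 ^ k := pow_dvd_pow 2 hcon
    have h2 : 2 ^ 3 ∣ 60 := by
      rw [← h60]
      exact dvd_trans h1 (hk ▸ hdvd)
    omega
  have hle : Nat.card ↥W ≤ 4 := by
    rw [hk]
    calc 2 ^ k ≤ 2 ^ 2 := Nat.pow_le_pow_right (by norm_num) hk2
      _ = 4 := by norm_num
  exact (Subgroup.eq_of_le_of_card_ge hVW (by omega)).symm

/-- a subgroup of order `4` of `A5` is the centralizer of each of its involutions. -/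
theorem eq_centralizer_of_card_four {V : Subgroup A5} (hV : Nat.card ↥V = 4) (a : A5)
    (haV : a ∈ V) (ha1 : a ≠ 1) (ha2 : a ^ 2 = 1) :
    V = Subgroup.centralizer ({a} : Set A5) := by
  haveI : Fact (Nat.Prime 2) := ⟨Nat.prime_two⟩
  have hcomm : ∀ x y : ↥V, x * y = y * x :=
    IsPGroup.commutative_of_card_eq_prime_sq (p := 2) (by rw [hV]; norm_num)
  have hle : V ≤ Subgroup.centralizer ({a} : Set A5) := by
    intro v hv
    rw [Subgroup.mem_centralizer_singleton_iff]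
    have := hcomm ⟨v, hv⟩ ⟨a, haV⟩
    exact congrArg Subtype.val this
  have hC : Nat.card ↥(Subgroup.centralizer ({a} : Set A5)) = 4 := by
    rw [← A5raw.cent_card a ha2 ha1, ← Nat.card_eq_fintype_card]
    apply Nat.card_congr
    apply Equiv.subtypeEquivRight
    intro h
    rw [Subgroup.mem_centralizer_singleton_iff]
    exact eq_comm
  exact Subgroup.eq_of_le_of_card_ge hle (by omega)

end A5more

/-- inner form of piece Hb3 (Hb1 as a hypothesis). -/
theorem cfg_of_card_of (h5 : C5 G) (Q : Subgroup G)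
    (e : ↥(Subgroup.normalizer (Q : Set G)) ⧸ Q.subgroupOf (Subgroup.normalizer (Q : Set G)) ≃* A5)
    (hQab : ∀ a ∈ Q, ∀ b ∈ Q, a * b = b * a) (hQe : ∀ a ∈ Q, a ^ 2 = 1)
    (hQc : Nat.card ↥Q = 16)
    (hT : ∀ w ∈ Q, w ≠ 1 →
      Nat.card ↥(Subgroup.centralizer ({w} : Set G) ⊓ Subgroup.normalizer (Q : Set G)) = 64)
    (hHb1 : ∀ a : G, a ∈ Subgroup.normalizer (Q : Set G) → a ∉ Q → a ^ 2 ∈ Q →
      Nat.card {q : G // q ∈ Q ∧ a * q = q * a} ^ 2 = Nat.card ↥Q) :
    ∀ w ∈ Q, w ≠ 1 →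
      Cfg Q (Subgroup.centralizer ({w} : Set G) ⊓ Subgroup.normalizer (Q : Set G)) := by
  classical
  set M : Subgroup G := Subgroup.normalizer (Q : Set G) with hM
  have hQM : Q ≤ M := Subgroup.le_normalizer
  haveI hnorm : (Q.subgroupOf M).Normal := Subgroup.normal_in_normalizer
  let φ : ↥M →* A5 := e.toMonoidHom.comp (QuotientGroup.mk' (Q.subgroupOf M))
  have hφ1 : ∀ m : ↥M, φ m = 1 ↔ (m : G) ∈ Q := by
    intro m
    show e (QuotientGroup.mk' (Q.subgroupOf M) m) = 1 ↔ _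
    rw [MulEquiv.map_eq_one_iff, QuotientGroup.mk'_apply, QuotientGroup.eq_one_iff,
      Subgroup.mem_subgroupOf]
  have hker : φ.ker = Q.subgroupOf M := by
    ext m
    rw [MonoidHom.mem_ker, hφ1, Subgroup.mem_subgroupOf]
  have hQT : ∀ w ∈ Q, Q ≤ Subgroup.centralizer ({w} : Set G) ⊓ M := by
    intro w hw q hq
    exact ⟨Subgroup.mem_centralizer_singleton_iff.mpr (hQab q hq w hw), hQM hq⟩
  -- image cardinality
  have hcardI : ∀ T : Subgroup G, Q ≤ T → T ≤ M →
      Nat.card ↥((T.subgroupOf M).map φ) * Nat.card ↥Q = Nat.card ↥T := by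
    intro T hQT' hTM
    have h1 : φ.ker.relIndex (T.subgroupOf M) = Nat.card ↥((T.subgroupOf M).map φ) :=
      Subgroup.relIndex_ker (T.subgroupOf M) φ
    have h2 : Nat.card ↥(φ.ker.subgroupOf (T.subgroupOf M)) * φ.ker.relIndex (T.subgroupOf M) =
        Nat.card ↥(T.subgroupOf M) := Subgroup.card_mul_index _
    have hle : φ.ker ≤ T.subgroupOf M := by
      rw [hker]
      intro x hx
      rw [Subgroup.mem_subgroupOf] at hx ⊢
      exact hQT' hx
    have h3 : Nat.card ↥(φ.ker.subgroupOf (T.subgroupOf M)) = Nat.card ↥φ.ker :=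
      Nat.card_congr (Subgroup.subgroupOfEquivOfLe hle).toEquiv
    have h4 : Nat.card ↥φ.ker = Nat.card ↥Q := by
      rw [hker]
      exact Nat.card_congr (Subgroup.subgroupOfEquivOfLe hQM).toEquiv
    have h5' : Nat.card ↥(T.subgroupOf M) = Nat.card ↥T :=
      Nat.card_congr (Subgroup.subgroupOfEquivOfLe hTM).toEquiv
    rw [h3, h4, h1, h5'] at h2
    rw [mul_comm]; exact h2
  -- membership pull-back: an element of M whose image lies in the image of T ⊇ Q lies in T
  have hpull : ∀ T : Subgroup G, Q ≤ T → T ≤ M → ∀ m : ↥M, φ m ∈ (T.subgroupOf M).map φ →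
      (m : G) ∈ T := by
    intro T hQT' hTM m hm
    obtain ⟨t, ht, hte⟩ := Subgroup.mem_map.mp hm
    have h1 : φ (m * t⁻¹) = 1 := by rw [map_mul, map_inv, hte, mul_inv_cancel]
    have h2 : ((m * t⁻¹ : ↥M) : G) ∈ Q := (hφ1 _).mp h1
    have h3 : ((m * t⁻¹ : ↥M) : G) ∈ T := hQT' h2
    have h4 : (t : G) ∈ T := Subgroup.mem_subgroupOf.mp ht
    have h5' : (m : G) = ((m * t⁻¹ : ↥M) : G) * (t : G) := by
      simp
    rw [h5']
    exact T.mul_mem h3 h4
  intro w hw hw1
  set T : Subgroup G := Subgroup.centralizer ({w} : Set G) ⊓ M with hTdef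
  have hTM : T ≤ M := inf_le_right
  have hTc : Nat.card ↥T = 64 := hT w hw hw1
  have hIT : Nat.card ↥((T.subgroupOf M).map φ) = 4 := by
    have := hcardI T (hQT w hw) hTM
    rw [hQc, hTc] at this
    omega
  -- squares
  have hsq : ∀ a ∈ T, a ^ 2 ∈ Q := by
    intro a ha
    have haM : a ∈ M := hTM ha
    have h64 : a ^ 64 = 1 := by
      have := pow_card_eq_one' (G := ↥T) (x := ⟨a, ha⟩)
      rw [hTc] at this
      exact congrArg Subtype.val this
    have h1 : φ ⟨a, haM⟩ ^ 64 = 1 := by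
      rw [← map_pow]
      have : (⟨a, haM⟩ : ↥M) ^ 64 = 1 := Subtype.ext (by simpa using h64)
      rw [this, map_one]
    have h2 : φ ⟨a, haM⟩ ^ 2 = 1 := A5more.pow64 _ h1
    rw [← map_pow] at h2
    have := (hφ1 _).mp h2
    simpa using this
  -- cen
  have hcen : ∀ a ∈ T, a ∉ Q → ∀ q ∈ Q, a * q = q * a → ∀ t ∈ T, t * q = q * t := by
    intro a ha haQ q hq haq t ht
    by_cases hq1 : q = 1
    · rw [hq1, mul_one, one_mul]
    set Tq : Subgroup G := Subgroup.centralizer ({q} : Set G) ⊓ M with hTqdef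
    have hTqM : Tq ≤ M := inf_le_right
    have hTqc : Nat.card ↥Tq = 64 := hT q hq hq1
    have hITq : Nat.card ↥((Tq.subgroupOf M).map φ) = 4 := by
      have := hcardI Tq (hQT q hq) hTqM
      rw [hQc, hTqc] at this
      omega
    have haM : a ∈ M := hTM ha
    have haTq : a ∈ Tq := ⟨Subgroup.mem_centralizer_singleton_iff.mpr haq, haM⟩
    have hφa1 : φ ⟨a, haM⟩ ≠ 1 := fun h => haQ ((hφ1 _).mp h)
    have hφa2 : φ ⟨a, haM⟩ ^ 2 = 1 := by
      rw [← map_pow]
      apply (hφ1 _).mpr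
      simpa using hsq a ha
    have hmem1 : φ ⟨a, haM⟩ ∈ (T.subgroupOf M).map φ :=
      Subgroup.mem_map.mpr ⟨⟨a, haM⟩, Subgroup.mem_subgroupOf.mpr ha, rfl⟩
    have hmem2 : φ ⟨a, haM⟩ ∈ (Tq.subgroupOf M).map φ :=
      Subgroup.mem_map.mpr ⟨⟨a, haM⟩, Subgroup.mem_subgroupOf.mpr haTq, rfl⟩
    have e1 := A5more.eq_centralizer_of_card_four hIT _ hmem1 hφa1 hφa2
    have e2 := A5more.eq_centralizer_of_card_four hITq _ hmem2 hφa1 hφa2
    have heq : (T.subgroupOf M).map φ = (Tq.subgroupOf M).map φ := e1.trans e2.symm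
    have htM : t ∈ M := hTM ht
    have hmem3 : φ ⟨t, htM⟩ ∈ (Tq.subgroupOf M).map φ := by
      rw [← heq]
      exact Subgroup.mem_map.mpr ⟨⟨t, htM⟩, Subgroup.mem_subgroupOf.mpr ht, rfl⟩
    have htTq : t ∈ Tq := hpull Tq (hQT q hq) hTqM ⟨t, htM⟩ hmem3
    exact Subgroup.mem_centralizer_singleton_iff.mp htTq.1
  -- an element of T outside Q
  have hexa : ∃ a ∈ T, a ∉ Q := by
    by_contra hcon
    push Not at hcon
    have hTQ : T ≤ Q := hcon
    have : Nat.card ↥T ≤ Nat.card ↥Q := Subgroup.card_le_of_le hTQ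
    omega
  refine
    { QT := hQT w hw
      Qn := ?_
      Qe := hQe
      Qab := hQab
      Qc := hQc
      Tc := hTc
      sq := hsq
      cen := hcen
      Zc := ?_
      syl := ?_ }
  · intro t ht q hq
    exact (Subgroup.mem_normalizer_iff.mp (hTM ht) q).mp hq
  · obtain ⟨a, ha, haQ⟩ := hexa
    have hcongr : Nat.card {q : G // q ∈ Q ∧ ∀ t ∈ T, t * q = q * t} =
        Nat.card {q : G // q ∈ Q ∧ a * q = q * a} := by
      apply Nat.card_congr
      apply Equiv.subtypeEquivRight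
      intro q
      constructor
      · rintro ⟨hq, hall⟩
        exact ⟨hq, hall a ha⟩
      · rintro ⟨hq, haq⟩
        exact ⟨hq, hcen a ha haQ q hq haq⟩
    rw [hcongr]
    have h1 := hHb1 a (hTM ha) haQ (hsq a ha)
    rw [hQc] at h1
    have h2 : Nat.card {q : G // q ∈ Q ∧ a * q = q * a} ^ 2 = 4 ^ 2 := by rw [h1]; norm_num
    exact Nat.pow_left_injective (by norm_num : 2 ≠ 0) h2
  · intro R hTR hRM hR2
    apply le_antisymm _ hTR
    have hI2 : IsPGroup 2 ↥((R.subgroupOf M).map φ) := (hR2.comap_subtype).map φ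
    have hle : (T.subgroupOf M).map φ ≤ (R.subgroupOf M).map φ := by
      apply Subgroup.map_mono
      intro x hx
      rw [Subgroup.mem_subgroupOf] at hx ⊢
      exact hTR hx
    have heq := A5more.eq_of_le_of_two_group hIT hle hI2
    intro r hr
    have hrM : r ∈ M := hRM hr
    have hmem : φ ⟨r, hrM⟩ ∈ (T.subgroupOf M).map φ := by
      rw [← heq]
      exact Subgroup.mem_map.mpr ⟨⟨r, hrM⟩, Subgroup.mem_subgroupOf.mpr hr, rfl⟩
    exact hpull T (hQT w hw) hTM ⟨r, hrM⟩ hmem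

end Cfsg.Agent.Lib.Helper6.C5
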