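import Mathlib
import Cfsg.Agent.Lib.Helper8.C5Defs
import Cfsg.Agent.Lib.Helper8.C5A5
import Cfsg.Agent.Lib.Helper2.C5Hb1
import Cfsg.Agent.Lib.Helper6.C5Hb3

set_option autoImplicit false
set_option linter.unusedVariables false
set_option linter.style.longLine false

/-!
# S3433 piece Hb3 (verbatim wrapper)
-/

open Cfsg.Agent.Lib.Helper8.C5

namespace Cfsg.Agent.Lib.Helper6.C5

universe u
variable {G : Type u} [Group G] [Finite G]

/-- PIECE Hb3 (verbatim). -/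
theorem cfg_of_card (h5 : C5 G) (Q : Subgroup G)
    (e : ↥(Subgroup.normalizer (Q : Set G)) ⧸ Q.subgroupOf (Subgroup.normalizer (Q : Set G)) ≃* A5)
    (hQab : ∀ a ∈ Q, ∀ b ∈ Q, a * b = b * a) (hQe : ∀ a ∈ Q, a ^ 2 = 1)
    (hQc : Nat.card ↥Q = 16)
    (hT : ∀ w ∈ Q, w ≠ 1 →
      Nat.card ↥(Subgroup.centralizer ({w} : Set G) ⊓ Subgroup.normalizer (Q : Set G)) = 64) :
    ∀ w ∈ Q, w ≠ 1 →
      Cfg Q (Subgroup.centralizer ({w} : Set G) ⊓ Subgroup.normalizer (Q : Set G)) :=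
  cfg_of_card_of h5 Q e hQab hQe hQc hT
    (fun a haM haQ ha2 => Cfsg.Agent.Lib.Helper2.C5.card_fix_sq h5 Q e hQab hQe a haM haQ ha2)

end Cfsg.Agent.Lib.Helper6.C5
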