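import Mathlib
import Cfsg.Agent.Lib.Helper8.C5Defs
import Cfsg.Agent.Lib.Helper8.C5A5
import Cfsg.Agent.Lib.Helper8.CQN2

set_option autoImplicit false
set_option linter.unusedVariables false
set_option linter.unusedSectionVars false
set_option linter.style.longLine false
set_option linter.deprecated false

/-!
# S3433 piece M2: a `C5`-group has no quotient `A6` over a nontrivial normal `2`-subgroup
-/

open Cfsg.Agent.Lib.Helper8.C5

namespace Cfsg.Agent.Lib.Helper6.C5

universe u
variable {G : Type u} [Group G] [Finite G]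

theorem card_A6 : Nat.card ↥(alternatingGroup (Fin 6)) = 360 := by
  rw [nat_card_alternatingGroup, Nat.card_eq_fintype_card, Fintype.card_fin]
  rfl

/-- inner form of M2 (no commutativity needed). -/
theorem no_A6_quot' (h5 : C5 G) (N : Subgroup G) [N.Normal] (hN1 : N ≠ ⊥)
    (hN2 : IsPGroup 2 ↥N)
    (e : G ⧸ N ≃* ↥(alternatingGroup (Fin 6))) : False := by
  have hcardQ : Nat.card (G ⧸ N) = 360 := by
    rw [Nat.card_congr e.toEquiv, card_A6]
  have hcardG : Nat.card G = 360 * Nat.card ↥N := by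
    rw [Subgroup.card_eq_card_quotient_mul_card_subgroup N, hcardQ]
  haveI : Fact (Nat.Prime 3) := ⟨by norm_num⟩
  have hdvd : 3 ^ 2 ∣ Nat.card G := by
    rw [hcardG]
    exact Dvd.dvd.mul_right (by norm_num) _
  obtain ⟨Y, hY⟩ := Sylow.exists_subgroup_card_pow_prime 3 hdvd
  have hY3 : IsPGroup 3 ↥Y := IsPGroup.of_card hY
  have hle := Cfsg.Agent.Lib.Helper8.CQ.card_le_of_normalizes (P := P5) h5.ccp 3 2
    (by norm_num) (by norm_num) (by norm_num) (by norm_num) Y N hY3 hN2 hN1
    (fun y _ q hq => (inferInstance : N.Normal).conj_mem q hq y)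
  rw [hY] at hle
  norm_num at hle

/-- PIECE M2 (verbatim). -/
theorem no_A6_quot (h5 : C5 G) (N : Subgroup G) [N.Normal] (hN1 : N ≠ ⊥)
    (hN2 : IsPGroup 2 ↥N) (hNab : ∀ a ∈ N, ∀ b ∈ N, a * b = b * a)
    (e : G ⧸ N ≃* ↥(alternatingGroup (Fin 6))) : False :=
  no_A6_quot' h5 N hN1 hN2 e

end Cfsg.Agent.Lib.Helper6.C5
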