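import Mathlib
import Cfsg.Agent.Lib.Helper8.C5Defs
import Cfsg.Agent.Lib.Helper8.C5A5
import Cfsg.Agent.Lib.Helper6.C5M2

set_option autoImplicit false
set_option linter.unusedVariables false
set_option linter.unusedSectionVars false
set_option linter.style.longLine false
set_option linter.deprecated false

/-!
# S3433 piece I: a nonsolvable `2`-local of maximal radical has the shape `Q.A5`
-/

open Cfsg.Agent.Lib.Helper8.C5

namespace Cfsg.Agent.Lib.Helper6.C5

universe u
variable {G : Type u} [Group G] [Finite G]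

/-- a subgroup containing a nonsolvable subgroup is nonsolvable. -/
theorem not_isSolvable_of_le {H K : Subgroup G} (hHK : H ≤ K) (hH : ¬ IsSolvable ↥H) :
    ¬ IsSolvable ↥K := by
  intro hK
  haveI : Group.IsSolvable ↥K := hK
  exact hH (solvable_of_solvable_injective (Subgroup.inclusion_injective hHK))

/-- PIECE I (verbatim). -/
theorem exists_A5_local [IsSimpleGroup G] (h5 : C5 G) (hns : ¬ IsSolvable G)
    (IH : ∀ (H : Type u) [Group H] [Finite H], Nat.card H < Nat.card G → C5 H → ¬ IsSolvable H →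
      Concl H)
    (hex : ∃ R : Subgroup G, R ≠ ⊥ ∧ IsPGroup 2 ↥R ∧
      ¬ IsSolvable ↥(Subgroup.normalizer (R : Set G))) :
    ∃ Q : Subgroup G, Q ≠ ⊥ ∧ IsPGroup 2 ↥Q ∧
      (∀ R : Subgroup G, R ≤ Subgroup.normalizer (Q : Set G) → IsPGroup 2 ↥R →
        (∀ m ∈ Subgroup.normalizer (Q : Set G), ∀ r ∈ R, m * r * m⁻¹ ∈ R) → R ≤ Q) ∧
      Nonempty (↥(Subgroup.normalizer (Q : Set G)) ⧸
        Q.subgroupOf (Subgroup.normalizer (Q : Set G)) ≃* A5) := by
  classical
  -- choose Q of maximal order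
  let s : Set (Subgroup G) := {R | R ≠ ⊥ ∧ IsPGroup 2 ↥R ∧
      ¬ IsSolvable ↥(Subgroup.normalizer (R : Set G))}
  have hsne : s.Nonempty := hex
  obtain ⟨Q, hQs, hQmax⟩ := Set.exists_max_image s (fun R : Subgroup G => Nat.card ↥R)
    (Set.toFinite s) hsne
  obtain ⟨hQ1, hQ2, hQns⟩ := hQs
  -- the invariance clause
  have hO : ∀ R : Subgroup G, R ≤ Subgroup.normalizer (Q : Set G) → IsPGroup 2 ↥R →
      (∀ m ∈ Subgroup.normalizer (Q : Set G), ∀ r ∈ R, m * r * m⁻¹ ∈ R) → R ≤ Q := by
    intro R hRM hR2 hRinv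
    -- Q normalizes R
    have hQN : Q ≤ Subgroup.normalizer (R : Set G) := by
      intro q hq
      rw [Subgroup.mem_normalizer_iff]
      have hqM : q ∈ Subgroup.normalizer (Q : Set G) := Subgroup.le_normalizer hq
      intro r
      constructor
      · intro hr; exact hRinv q hqM r hr
      · intro hr
        have hq' : q⁻¹ ∈ Subgroup.normalizer (Q : Set G) := Subgroup.inv_mem _ hqM
        have := hRinv q⁻¹ hq' _ hr
        have e1 : q⁻¹ * (q * r * q⁻¹) * q⁻¹⁻¹ = r := by group
        rwa [e1] at this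
    have hsup2 : IsPGroup 2 ↥(Q ⊔ R) := IsPGroup.to_sup_of_normal_right' hQ2 hR2 hQN
    have hsup1 : Q ⊔ R ≠ ⊥ := by
      intro h
      apply hQ1
      rw [eq_bot_iff, ← h]
      exact le_sup_left
    have hMle : Subgroup.normalizer (Q : Set G) ≤ Subgroup.normalizer ((Q ⊔ R : Subgroup G) : Set G) := by
      intro m hm
      have hm' : m⁻¹ ∈ Subgroup.normalizer (Q : Set G) := Subgroup.inv_mem _ hm
      -- conjugation by any element of M maps Q ⊔ R into itself
      have hconj : ∀ m' ∈ Subgroup.normalizer (Q : Set G), ∀ x ∈ Q ⊔ R, m' * x * m'⁻¹ ∈ Q ⊔ R := by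
        intro m' hm' x hx
        have hle : Q ⊔ R ≤ (Q ⊔ R).comap (MulAut.conj m').toMonoidHom := by
          apply sup_le
          · intro q hq
            rw [Subgroup.mem_comap]
            show MulAut.conj m' q ∈ Q ⊔ R
            rw [MulAut.conj_apply]
            exact (le_sup_left : Q ≤ Q ⊔ R)
              ((Subgroup.mem_normalizer_iff.mp hm' q).mp hq)
          · intro r hr
            rw [Subgroup.mem_comap]
            show MulAut.conj m' r ∈ Q ⊔ R
            rw [MulAut.conj_apply]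
            exact (le_sup_right : R ≤ Q ⊔ R) (hRinv m' hm' r hr)
        have := hle hx
        rw [Subgroup.mem_comap] at this
        have h2 : (MulAut.conj m').toMonoidHom x = m' * x * m'⁻¹ := by
          show MulAut.conj m' x = _
          rw [MulAut.conj_apply]
        rwa [h2] at this
      rw [Subgroup.mem_normalizer_iff]
      intro x
      constructor
      · intro hx; exact hconj m hm x hx
      · intro hx
        have := hconj m⁻¹ hm' _ hx
        have e1 : m⁻¹ * (m * x * m⁻¹) * m⁻¹⁻¹ = x := by group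
        rwa [e1] at this
    have hsupns : ¬ IsSolvable ↥(Subgroup.normalizer ((Q ⊔ R : Subgroup G) : Set G)) :=
      not_isSolvable_of_le hMle hQns
    have hmem : (Q ⊔ R) ∈ s := ⟨hsup1, hsup2, hsupns⟩
    have hcard : Nat.card ↥(Q ⊔ R : Subgroup G) ≤ Nat.card ↥Q := hQmax (Q ⊔ R) hmem
    have heq : Q = Q ⊔ R := Subgroup.eq_of_le_of_card_ge le_sup_left hcard
    rw [heq]
    exact le_sup_right
  refine ⟨Q, hQ1, hQ2, hO, ?_⟩
  -- the quotient
  set M : Subgroup G := Subgroup.normalizer (Q : Set G) with hM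
  have hQM : Q ≤ M := Subgroup.le_normalizer
  haveI hnorm : (Q.subgroupOf M).Normal := Subgroup.normal_in_normalizer
  have h5bar : C5 (↥M ⧸ Q.subgroupOf M) := (h5.subgroup M).quotient _
  have hQsub2 : IsPGroup 2 ↥(Q.subgroupOf M) := hQ2.comap_subtype
  have hnsbar : ¬ IsSolvable (↥M ⧸ Q.subgroupOf M) := by
    intro hsol
    apply hQns
    haveI : Group.IsSolvable (↥M ⧸ Q.subgroupOf M) := hsol
    haveI : Group.IsSolvable ↥(Q.subgroupOf M) := by
      haveI : Group.IsNilpotent ↥(Q.subgroupOf M) := hQsub2.isNilpotent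
      infer_instance
    exact solvable_of_ker_le_range (Q.subgroupOf M).subtype (QuotientGroup.mk' (Q.subgroupOf M))
      (by rw [QuotientGroup.ker_mk', Subgroup.range_subtype])
  have hcardlt : Nat.card (↥M ⧸ Q.subgroupOf M) < Nat.card G := by
    have h1 : Nat.card ↥M = Nat.card (↥M ⧸ Q.subgroupOf M) * Nat.card ↥(Q.subgroupOf M) :=
      Subgroup.card_eq_card_quotient_mul_card_subgroup _
    have h2 : Nat.card ↥(Q.subgroupOf M) = Nat.card ↥Q :=
      Nat.card_congr (Subgroup.subgroupOfEquivOfLe hQM).toEquiv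
    have h3 : 2 ≤ Nat.card ↥Q := by
      have : Nontrivial ↥Q := (Subgroup.nontrivial_iff_ne_bot Q).mpr hQ1
      exact Finite.one_lt_card
    have h4 : Nat.card ↥M ≤ Nat.card G := Subgroup.card_le_card_group M
    have h5' : 0 < Nat.card (↥M ⧸ Q.subgroupOf M) := Nat.card_pos
    rw [h2] at h1
    nlinarith
  have hconcl := IH (↥M ⧸ Q.subgroupOf M) hcardlt h5bar hnsbar
  rcases hconcl with ⟨⟨e⟩⟩ | ⟨E, hEn, hEea, ⟨e⟩⟩
  · exfalso
    have hsub1 : Q.subgroupOf M ≠ ⊥ := by
      intro h
      apply hQ1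
      rw [Subgroup.subgroupOf_eq_bot] at h
      rw [eq_bot_iff]
      intro q hq
      have : q ∈ Q ⊓ M := ⟨hq, hQM hq⟩
      rwa [h.eq_bot] at this
    exact no_A6_quot' (h5.subgroup M) (Q.subgroupOf M) hsub1 hQsub2 e
  · -- E is trivial
    haveI := hEn
    have hE2 : IsPGroup 2 ↥E := by
      intro x
      refine ⟨1, ?_⟩
      apply Subtype.ext
      rw [pow_one, Subgroup.coe_pow]
      exact hEea.2 x.1 x.2
    have hcomap2 : IsPGroup 2 ↥(E.comap (QuotientGroup.mk' (Q.subgroupOf M))) := by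
      apply hE2.comap_of_ker_isPGroup
      rw [QuotientGroup.ker_mk']
      exact hQsub2
    set R : Subgroup G := (E.comap (QuotientGroup.mk' (Q.subgroupOf M))).map M.subtype with hR
    have hRM : R ≤ M := by
      rw [hR]
      intro x hx
      obtain ⟨y, _, rfl⟩ := Subgroup.mem_map.mp hx
      exact y.2
    have hR2 : IsPGroup 2 ↥R := hcomap2.map M.subtype
    have hRinv : ∀ m ∈ M, ∀ r ∈ R, m * r * m⁻¹ ∈ R := by
      intro m hm r hr
      obtain ⟨y, hy, rfl⟩ := Subgroup.mem_map.mp hr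
      rw [hR, Subgroup.mem_map]
      refine ⟨⟨m, hm⟩ * y * ⟨m, hm⟩⁻¹, ?_, rfl⟩
      haveI : (E.comap (QuotientGroup.mk' (Q.subgroupOf M))).Normal := hEn.comap _
      exact (inferInstance : (E.comap (QuotientGroup.mk' (Q.subgroupOf M))).Normal).conj_mem y hy _
    have hRQ : R ≤ Q := hO R hRM hR2 hRinv
    have hEbot : E = ⊥ := by
      rw [eq_bot_iff]
      intro x hx
      obtain ⟨y, rfl⟩ := QuotientGroup.mk'_surjective (Q.subgroupOf M) x
      rw [Subgroup.mem_bot]
      have hyR : (y : G) ∈ R := by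
        rw [hR, Subgroup.mem_map]
        exact ⟨y, hx, rfl⟩
      have hyQ : (y : G) ∈ Q := hRQ hyR
      exact (QuotientGroup.eq_one_iff y).mpr (Subgroup.mem_subgroupOf.mpr hyQ)
    refine ⟨?_⟩
    exact ((QuotientGroup.quotientBot).symm.trans
      (QuotientGroup.quotientMulEquivOfEq hEbot.symm)).trans e

end Cfsg.Agent.Lib.Helper6.C5
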