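import Mathlib
import Cfsg.Agent.Lib.Helper6.PUKP
import Cfsg.Agent.Lib.Helper1.PU2770J
import Cfsg.Agent.Lib.Helper5.PU2770T
import Cfsg.Agent.Lib.Helper7.S2770Th

/-! # S2770 : cases A, B, C and the abstract main theorem -/

set_option autoImplicit false

namespace Cfsg.Agent.Lib.Helper6.PU

open Cfsg.Agent.Lib.Helper1

section main
variable {G : Type*} [Group G] [Finite G] {p : ℕ} [Fact p.Prime] {n : ℕ} (S : Sylow p G)
  (M : Subgroup G) {P : Type*} [Group P] (φ : G →* P)

omit [Finite G] [Fact p.Prime] in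
theorem mem_center_of_sup_eq_top (C T : Subgroup G) (h : C ⊔ T = ⊤) (y : G)
    (hC : ∀ c ∈ C, c * y = y * c) (hT : ∀ s ∈ T, s * y = y * s) : y ∈ Subgroup.center G := by
  have h1 : C ⊔ T ≤ Subgroup.centralizer ({y} : Set G) := by
    refine sup_le ?_ ?_
    · intro c hc
      rw [Subgroup.mem_centralizer_iff]
      intro z hz
      rw [Set.mem_singleton_iff] at hz
      subst hz
      exact (hC c hc).symm
    · intro c hc
      rw [Subgroup.mem_centralizer_iff]
      intro z hz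
      rw [Set.mem_singleton_iff] at hz
      subst hz
      exact (hT c hc).symm
  rw [h] at h1
  rw [Subgroup.mem_center_iff]
  intro g
  have := h1 (Subgroup.mem_top g)
  rw [Subgroup.mem_centralizer_iff] at this
  exact (this y rfl).symm

omit [Finite G] [Fact p.Prime] in
theorem normal_powerClosure_of_central (Z : Subgroup G)
    (h : ∀ x ∈ Z, x ^ p ∈ Subgroup.center G) : (Cfsg.powerClosure p 1 Z).Normal := by
  have hle : Cfsg.powerClosure p 1 Z ≤ Subgroup.center G := by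
    unfold Cfsg.powerClosure
    rw [Subgroup.closure_le]
    rintro y ⟨x, hx, rfl⟩
    rw [pow_one]
    exact h x hx
  constructor
  intro m hm g
  have hc := hle hm
  rw [Subgroup.mem_center_iff] at hc
  rw [hc g, mul_inv_cancel_right]
  exact hm

omit [Finite G] [Fact p.Prime] in
/-- case A : `G = C_G(℧¹(W)) S` -/
theorem caseA (T W V₂ : Subgroup G)
    (hZW : T ⊓ Subgroup.centralizer (T : Set G) ≤ W)
    (h2 : ∀ x, x ∈ V₂ ↔ ∃ w ∈ W, w ^ p = x)
    (h : Subgroup.centralizer (V₂ : Set G) ⊔ T = ⊤) :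
    (Cfsg.powerClosure p 1 (T ⊓ Subgroup.centralizer (T : Set G))).Normal := by
  apply normal_powerClosure_of_central
  intro x hx
  apply mem_center_of_sup_eq_top _ _ h
  · intro c hc
    rw [Subgroup.mem_centralizer_iff] at hc
    exact (hc (x ^ p) ((h2 _).mpr ⟨x, hZW hx, rfl⟩)).symm
  · intro s hs
    have hx2 : x ∈ Subgroup.centralizer (T : Set G) := (Subgroup.mem_inf.mp hx).2
    rw [Subgroup.mem_centralizer_iff] at hx2
    have hcomm : Commute s x := hx2 s hs
    exact (hcomm.pow_right p).eq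

/-- case B : `J(S) ≤ O_p(G)` -/
theorem caseB (hs : Setup p n S M φ)
    (hJ : Cfsg.thompsonSubgroupAOf (S : Subgroup G) ≤ Cfsg.pCore p G) :
    (Cfsg.powerClosure p 1
      ((S : Subgroup G) ⊓ Subgroup.centralizer ((S : Subgroup G) : Set G))).Normal ∨
    (((S : Subgroup G) ⊓
      Subgroup.centralizer (Cfsg.centerThompsonAOf (S : Subgroup G) : Set G))).Normal := by
  have hQn := pCore_normal (G := G) p
  have hJn : (Cfsg.thompsonSubgroupAOf (S : Subgroup G)).Normal :=
    (Cfsg.Agent.Lib.Helper1.PU2770J.thompsonA_normal_or (S : Subgroup G) (Cfsg.pCore p G) (pCore_le_sylow p S)).1 hJ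
  have hZJn : (Cfsg.centerThompsonAOf (S : Subgroup G)).Normal := by
    unfold Cfsg.centerThompsonAOf
    infer_instance
  rcases Cfsg.Agent.Lib.Helper9.PU2770A.dich S M hs.coatom hs.le hs.uniq
    (Subgroup.centralizer (Cfsg.centerThompsonAOf (S : Subgroup G) : Set G)) with h | ⟨-, h⟩
  · left
    obtain ⟨⟨A₀, hA₀⟩, hall⟩ := Cfsg.Agent.Lib.Helper1.PU2770J.maxab_facts (S : Subgroup G)
    obtain ⟨hAS, hAJ, -, -, hZA⟩ := hall A₀ hA₀
    apply normal_powerClosure_of_central
    intro x hx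
    apply Subgroup.pow_mem
    apply mem_center_of_sup_eq_top _ _ h
    · intro c hc
      rw [Subgroup.mem_centralizer_iff] at hc
      refine (hc x ?_).symm
      refine ⟨hAJ (hZA hx), ?_⟩
      have hJS : Cfsg.thompsonSubgroupAOf (S : Subgroup G) ≤ S := by
        unfold Cfsg.thompsonSubgroupAOf
        exact Subgroup.map_subtype_le _
      exact Subgroup.centralizer_le (by exact_mod_cast hJS) (Subgroup.mem_inf.mp hx).2
    · intro s hs'
      have hx2 : x ∈ Subgroup.centralizer ((S : Subgroup G) : Set G) :=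
        (Subgroup.mem_inf.mp hx).2
      rw [Subgroup.mem_centralizer_iff] at hx2
      exact hx2 s hs'
  · right
    rwa [inf_comm] at h

/-- the abstract form of S2770 -/
theorem main_abstract (hs : Setup p n S M φ)
    (hE₁ : Subgroup.centralizer (Cfsg.pCore p G : Set G) ≤ Cfsg.pCore p G) :
    (Cfsg.powerClosure p 1
      ((S : Subgroup G) ⊓ Subgroup.centralizer ((S : Subgroup G) : Set G))).Normal ∨
    (((S : Subgroup G) ⊓
      Subgroup.centralizer (Cfsg.centerThompsonAOf (S : Subgroup G) : Set G))).Normal := by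
  have hQn := pCore_normal (G := G) p
  have hQS := pCore_le_sylow p S
  have hQp := pCore_isPGroup (G := G) p
  -- `Z(S) ≤ Z(Q)`
  have hZcQ : (S : Subgroup G) ⊓ Subgroup.centralizer ((S : Subgroup G) : Set G) ≤
      Subgroup.centralizer (Cfsg.pCore p G : Set G) :=
    inf_le_right.trans (Subgroup.centralizer_le (by exact_mod_cast hQS))
  have hZQ : (S : Subgroup G) ⊓ Subgroup.centralizer ((S : Subgroup G) : Set G) ≤
      Cfsg.pCore p G ⊓ Subgroup.centralizer (Cfsg.pCore p G : Set G) :=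
    le_inf (hZcQ.trans hE₁) hZcQ
  -- `W`
  obtain ⟨W, hWdef⟩ : ∃ W : Subgroup G, W = Subgroup.normalClosure
      (((S : Subgroup G) ⊓ Subgroup.centralizer ((S : Subgroup G) : Set G) : Subgroup G) : Set G) :=
    ⟨_, rfl⟩
  have hWn : W.Normal := by rw [hWdef]; infer_instance
  have hZW : (S : Subgroup G) ⊓ Subgroup.centralizer ((S : Subgroup G) : Set G) ≤ W := by
    rw [hWdef]; exact Subgroup.le_normalClosure
  have hWZQ : W ≤ Cfsg.pCore p G ⊓ Subgroup.centralizer (Cfsg.pCore p G : Set G) := by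
    rw [hWdef]
    exact Subgroup.normalClosure_le_normal hZQ
  have hWQ : W ≤ Cfsg.pCore p G := hWZQ.trans inf_le_left
  have hWS : W ≤ S := hWQ.trans hQS
  have hWp : IsPGroup p W := hQp.to_le hWQ
  have hWc : ∀ a ∈ W, ∀ b ∈ W, a * b = b * a := by
    intro a ha b hb
    have h1 : a ∈ Subgroup.centralizer (Cfsg.pCore p G : Set G) :=
      (Subgroup.mem_inf.mp (hWZQ ha)).2
    rw [Subgroup.mem_centralizer_iff] at h1
    exact (h1 b (hWQ hb)).symm
  have hQW : Cfsg.pCore p G ≤ Subgroup.centralizer (W : Set G) := by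
    intro q hq
    rw [Subgroup.mem_centralizer_iff]
    intro w hw
    have h1 : w ∈ Subgroup.centralizer (Cfsg.pCore p G : Set G) :=
      (Subgroup.mem_inf.mp (hWZQ hw)).2
    rw [Subgroup.mem_centralizer_iff] at h1
    exact (h1 q hq).symm
  obtain ⟨V₁, V₂, hV₁n, hV₂n, h1, h2⟩ := Cfsg.Agent.Lib.Helper1.PU2770J.layers p W hWc
  have hV₁W : V₁ ≤ W := fun x hx => ((h1 x).mp hx).1
  have hV₂W : V₂ ≤ W := by
    intro x hx
    obtain ⟨w, hw, rfl⟩ := (h2 x).mp hx
    exact W.pow_mem hw p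
  by_cases hA : Subgroup.centralizer (V₂ : Set G) ⊔ (S : Subgroup G) = ⊤
  · left
    exact caseA (S : Subgroup G) W V₂ hZW h2 hA
  by_cases hJ : Cfsg.thompsonSubgroupAOf (S : Subgroup G) ≤ Cfsg.pCore p G
  · exact caseB S M φ hs hJ
  exfalso
  obtain ⟨A₀, hA₀, hA₀Q⟩ :=
    (Cfsg.Agent.Lib.Helper1.PU2770J.thompsonA_normal_or (S : Subgroup G) (Cfsg.pCore p G) hQS).2 hJ
  obtain ⟨hAS, hAJ, hAc, hAmax, hZA⟩ := (Cfsg.Agent.Lib.Helper1.PU2770J.maxab_facts (S : Subgroup G)).2 A₀ hA₀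
  obtain ⟨A, hAdef⟩ : ∃ A : Subgroup G, A = A₀.map (S : Subgroup G).subtype := ⟨_, rfl⟩
  rw [← hAdef] at hAS hAJ hAc hAmax hZA hA₀Q
  have hC1 : Subgroup.centralizer (V₁ : Set G) ⊔ (S : Subgroup G) ≠ ⊤ :=
    fun h => hA (Cfsg.Agent.Lib.Helper1.PU2770J.cent_layers S W V₁ V₂ hWp hWc h1 h2 h)
  have hQV₁ : Cfsg.pCore p G ≤ Subgroup.centralizer (V₁ : Set G) :=
    hQW.trans (Subgroup.centralizer_le (by exact_mod_cast hV₁W))
  have hQV₂ : Cfsg.pCore p G ≤ Subgroup.centralizer (V₂ : Set G) :=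
    hQW.trans (Subgroup.centralizer_le (by exact_mod_cast hV₂W))
  have k1 := kp S M φ hs V₁ (hWp.to_le hV₁W)
    (fun a ha b hb => hWc a (hV₁W ha) b (hV₁W hb)) hQV₁ hC1 A hAS
  have k2 := kp S M φ hs V₂ (hWp.to_le hV₂W)
    (fun a ha b hb => hWc a (hV₂W ha) b (hV₂W hb)) hQV₂ hA A hAS
  have th := Cfsg.Agent.Lib.Helper5.PU2770T.thompson_bound (S : Subgroup G) A W hAS hWS hAc hWc hAmax
  obtain ⟨sm1, sm2⟩ := Cfsg.Agent.Lib.Helper7.S2770Th.submult p W V₁ V₂ A hWc h1 h2
  have hb : Nat.card (A ⊓ Cfsg.pCore p G : Subgroup G) ≤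
      Nat.card (A ⊓ Subgroup.centralizer (W : Set G) : Subgroup G) :=
    Subgroup.card_le_of_le (inf_le_inf_left A hQW)
  -- numerics
  set a := Nat.card A with ha
  set b := Nat.card (A ⊓ Cfsg.pCore p G : Subgroup G) with hb'
  set w := Nat.card W with hw
  set v₁ := Nat.card V₁ with hv₁
  set v₂ := Nat.card V₂ with hv₂
  set c := Nat.card (W ⊓ Subgroup.centralizer (A : Set G) : Subgroup G) with hc
  set c₁ := Nat.card (V₁ ⊓ Subgroup.centralizer (A : Set G) : Subgroup G) with hc₁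
  set c₂ := Nat.card (V₂ ⊓ Subgroup.centralizer (A : Set G) : Subgroup G) with hc₂
  set d := Nat.card (A ⊓ Subgroup.centralizer (W : Set G) : Subgroup G) with hd
  have hapos : 0 < a := Nat.card_pos
  have hcpos : 0 < c := Nat.card_pos
  have hle : a ≤ b := by
    have e1 : a * (a * c) ≤ b * (a * c) := by
      calc a * (a * c) ≤ a * (a * (c₁ * c₂)) :=
            Nat.mul_le_mul_left _ (Nat.mul_le_mul_left _ sm2)
        _ = (a * c₁) * (a * c₂) := by ring
        _ ≤ (b * v₁) * (b * v₂) := Nat.mul_le_mul k1 k2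
        _ = b * (w * b) := by rw [sm1]; ring
        _ ≤ b * (w * d) := Nat.mul_le_mul_left _ (Nat.mul_le_mul_left _ hb)
        _ ≤ b * (a * c) := Nat.mul_le_mul_left _ th
    exact Nat.le_of_mul_le_mul_right e1 (Nat.mul_pos hapos hcpos)
  apply hA₀Q
  have heq : A ⊓ Cfsg.pCore p G = A :=
    Subgroup.eq_of_le_of_card_ge inf_le_left hle
  rw [← heq]
  exact inf_le_right

end main


end Cfsg.Agent.Lib.Helper6.PU
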