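import Mathlib
import Cfsg.Agent.Lib.Helper6.PUMain
import Cfsg.Agent.Lib.Helper6.CL0
import Cfsg.Agent.Lib.Helper4.CL4
import Cfsg.Agent.Lib.Helper7.CL2990b
import Cfsg.Agent.Lib.Helper8.CLP8a

/-!
# Pushing up with centrally large subgroups: the abstract main argument (S2990, part 2)
-/

set_option autoImplicit false

namespace Cfsg.Agent.Lib.Helper6.CLM

open Cfsg.Agent.Lib.Helper6.PU Cfsg.Agent.Lib.Helper6.CLP Cfsg.Agent.Lib.Helper1

section
variable {G : Type*} [Group G] [Finite G] {p : ℕ} [Fact p.Prime] {n : ℕ} (S : Sylow p G)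
  (M : Subgroup G) {P : Type*} [Group P] (φ : G →* P)

/-- the normal closure `W` of `Z(S)` -/
theorem frame (hE₁ : Subgroup.centralizer (Cfsg.pCore p G : Set G) ≤ Cfsg.pCore p G) :
    ∃ W : Subgroup G, W.Normal ∧ zc (S : Subgroup G) ≤ W ∧ W ≤ Cfsg.pCore p G ∧
      (∀ a ∈ W, ∀ b ∈ W, a * b = b * a) ∧ Cfsg.pCore p G ≤ Subgroup.centralizer (W : Set G) := by
  have hQn := pCore_normal (G := G) p
  have hQS := pCore_le_sylow p S
  have hZcQ : (S : Subgroup G) ⊓ Subgroup.centralizer ((S : Subgroup G) : Set G) ≤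
      Subgroup.centralizer (Cfsg.pCore p G : Set G) :=
    inf_le_right.trans (Subgroup.centralizer_le (by exact_mod_cast hQS))
  have hZQ : (S : Subgroup G) ⊓ Subgroup.centralizer ((S : Subgroup G) : Set G) ≤
      Cfsg.pCore p G ⊓ Subgroup.centralizer (Cfsg.pCore p G : Set G) :=
    le_inf (hZcQ.trans hE₁) hZcQ
  refine ⟨Subgroup.normalClosure
      (((S : Subgroup G) ⊓ Subgroup.centralizer ((S : Subgroup G) : Set G) : Subgroup G) : Set G),
    inferInstance, Subgroup.le_normalClosure, ?_, ?_, ?_⟩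
  · exact (Subgroup.normalClosure_le_normal hZQ).trans inf_le_left
  · intro a ha b hb
    have h1 : a ∈ Subgroup.centralizer (Cfsg.pCore p G : Set G) :=
      (Subgroup.mem_inf.mp (Subgroup.normalClosure_le_normal hZQ ha)).2
    rw [Subgroup.mem_centralizer_iff] at h1
    exact (h1 b ((Subgroup.normalClosure_le_normal hZQ hb)).1).symm
  · intro q hq
    rw [Subgroup.mem_centralizer_iff]
    intro w hw
    have h1 : w ∈ Subgroup.centralizer (Cfsg.pCore p G : Set G) :=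
      (Subgroup.mem_inf.mp (Subgroup.normalClosure_le_normal hZQ hw)).2
    rw [Subgroup.mem_centralizer_iff] at h1
    exact (h1 q hq).symm

/-- KEY : the replacement `R = (Q ∩ O) V` of a minimal centrally large `Q` -/
theorem key (hs : Setup p n S M φ) (V : Subgroup G) [V.Normal] (hVO : V ≤ Cfsg.pCore p G)
    (hOV : Cfsg.pCore p G ≤ Subgroup.centralizer (V : Set G))
    (hV : Subgroup.centralizer (V : Set G) ⊔ (S : Subgroup G) ≠ ⊤) (Q : Subgroup G)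
    (hQ : MCLin (S : Subgroup G) Q) :
    MCLin (S : Subgroup G) ((Q ⊓ Cfsg.pCore p G) ⊔ V) ∧ (Q ⊓ Cfsg.pCore p G) ⊔ V ≤ Cfsg.pCore p G ∧
    (S : Subgroup G) ⊓ Subgroup.centralizer (((Q ⊓ Cfsg.pCore p G) ⊔ V : Subgroup G) : Set G) =
      (zc Q ⊓ Cfsg.pCore p G) ⊔ V ∧
    Nat.card Q * Nat.card (V ⊓ Subgroup.centralizer (Q : Set G) : Subgroup G) =
      Nat.card (Q ⊓ Cfsg.pCore p G : Subgroup G) * Nat.card V ∧
    zc Q ⊓ V = V ⊓ Subgroup.centralizer (Q : Set G) ∧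
    (Q ⊓ Cfsg.pCore p G) ⊔ zc Q = Q ∧
    Nat.card (zc Q) * Nat.card (Q ⊓ Cfsg.pCore p G : Subgroup G) =
      Nat.card (zc Q ⊓ Cfsg.pCore p G : Subgroup G) * Nat.card Q := by
  have hQn := pCore_normal (G := G) p
  have hQS := pCore_le_sylow p S
  have hVp : IsPGroup p V := (pCore_isPGroup (G := G) p).to_le hVO
  have hVc : ∀ a ∈ V, ∀ b ∈ V, a * b = b * a := by
    intro a ha b hb
    have h1 := hOV (hVO ha)
    rw [Subgroup.mem_centralizer_iff] at h1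
    exact (h1 b hb).symm
  have k1 := kp S M φ hs V hVp hVc hOV hV Q hQ.1
  have k2 := kp S M φ hs V hVp hVc hOV hV (zc Q) (inf_le_left.trans hQ.1)
  have hCL : CLin (S : Subgroup G) Q := ⟨hQ.1, hQ.2.1⟩
  obtain ⟨hR, hRO, hZR, e1, e2, e3, e4⟩ :=
    Cfsg.Agent.Lib.Helper7.CL2990b.clr (S : Subgroup G) (Cfsg.pCore p G) V Q S.isPGroup' hQS hVO hOV hCL k1 k2
  obtain ⟨hRm, hsup, hidx⟩ :=
    Cfsg.Agent.Lib.Helper8.CLP8.mcl_step (S : Subgroup G) (Cfsg.pCore p G) V Q S.isPGroup' hQS hVO hQ hR e2 e4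
  exact ⟨hRm, hRO, hZR, e1, e3, hsup, hidx⟩

/-- part 2 of S2990 for subgroups of `G` -/
theorem s2990_part2 (hs : Setup p n S M φ)
    (hE₁ : Subgroup.centralizer (Cfsg.pCore p G : Set G) ≤ Cfsg.pCore p G) (Q : Subgroup G)
    (hQ : MCLin (S : Subgroup G) Q) :
    (zc (S : Subgroup G) ⊓ ⁅Q, Q⁆).Normal ∨
      ((Cfsg.minimalCentrallyLargeJoin ↥(S : Subgroup G)).map (S : Subgroup G).subtype).Normal := by
  have hQn := pCore_normal (G := G) p
  have hQS := pCore_le_sylow p S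
  by_cases hall : ∀ X : Subgroup G, MCLin (S : Subgroup G) X → X ≤ Cfsg.pCore p G
  · right
    exact Cfsg.Agent.Lib.Helper4.CL4.mclJoin_normal (S : Subgroup G) (Cfsg.pCore p G) hQS hall
  left
  rw [not_forall] at hall
  obtain ⟨Q₁, hQ₁'⟩ := hall
  rw [Classical.not_imp] at hQ₁'
  obtain ⟨hQ₁, hQ₁O⟩ := hQ₁'
  have hDD : ⁅Q, Q⁆ = ⁅Q₁, Q₁⁆ := (Cfsg.Agent.Lib.Helper7.CL2990b.s3007_G (S : Subgroup G) Q Q₁ S.isPGroup' hQ hQ₁).2.1
  rw [hDD]
  obtain ⟨W, hWn, hZW, hWO, hWc, hOW⟩ := frame S hE₁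
  -- normality from centrality
  have hcentral : ∀ (C : Subgroup G), C ⊔ (S : Subgroup G) = ⊤ →
      (∀ x ∈ zc (S : Subgroup G) ⊓ ⁅Q₁, Q₁⁆, ∀ c ∈ C, c * x = x * c) →
      (zc (S : Subgroup G) ⊓ ⁅Q₁, Q₁⁆).Normal := by
    intro C hC hx
    have hle : zc (S : Subgroup G) ⊓ ⁅Q₁, Q₁⁆ ≤ Subgroup.center G := by
      intro x hxm
      apply mem_center_of_sup_eq_top C (S : Subgroup G) hC x (hx x hxm)
      intro s hs'
      have h1 : x ∈ Subgroup.centralizer ((S : Subgroup G) : Set G) :=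
        (Subgroup.mem_inf.mp (Subgroup.mem_inf.mp hxm).1).2
      rw [Subgroup.mem_centralizer_iff] at h1
      exact h1 s hs'
    constructor
    intro m hm g
    have hc := hle hm
    rw [Subgroup.mem_center_iff] at hc
    rw [hc g, mul_inv_cancel_right]
    exact hm
  by_cases hW : Subgroup.centralizer (W : Set G) ⊔ (S : Subgroup G) = ⊤
  · apply hcentral _ hW
    intro x hx c hc
    rw [Subgroup.mem_centralizer_iff] at hc
    exact (hc x (hZW (Subgroup.mem_inf.mp hx).1)).symm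
  -- the replacement of `Q₁`
  obtain ⟨hRm, hRO, -, -, -, hsup, -⟩ := key S M φ hs W hWO hOW hW Q₁ hQ₁
  obtain ⟨R, hRdef⟩ : ∃ R : Subgroup G, R = (Q₁ ⊓ Cfsg.pCore p G) ⊔ W := ⟨_, rfl⟩
  rw [← hRdef] at hRm hRO
  obtain ⟨h37a, h37b, -, -⟩ := Cfsg.Agent.Lib.Helper7.CL2990b.s3007_G (S : Subgroup G) Q₁ R S.isPGroup' hQ₁ hRm
  -- `Z(Q₁) ≰ O`
  have hZQ₁ : ¬ zc Q₁ ≤ Cfsg.pCore p G := by
    intro hle
    apply hQ₁O
    rw [← h37a]
    exact sup_le (inf_le_right.trans hRO) hle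
  -- `D` is normal
  have hDn : (⁅Q₁, Q₁⁆).Normal := by
    rw [h37b]
    constructor
    intro x hx g
    have hconj := Cfsg.Agent.Lib.Helper4.CL4.conj_mcl (S : Subgroup G) (Cfsg.pCore p G) R hQS hRO hRm g
    have h1 := (Cfsg.Agent.Lib.Helper7.CL2990b.s3007_G (S : Subgroup G) R _ S.isPGroup' hRm hconj).2.1
    rw [h1, ← Subgroup.map_commutator]
    exact ⟨x, hx, rfl⟩
  have hD₁n : (W ⊓ ⁅Q₁, Q₁⁆).Normal := inferInstance
  rcases Cfsg.Agent.Lib.Helper9.PU2770A.dich S M hs.coatom hs.le hs.uniq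
    (Subgroup.centralizer ((W ⊓ ⁅Q₁, Q₁⁆ : Subgroup G) : Set G)) with h | ⟨-, h⟩
  · apply hcentral _ h
    intro x hx c hc
    rw [Subgroup.mem_centralizer_iff] at hc
    exact (hc x ⟨hZW (Subgroup.mem_inf.mp hx).1, (Subgroup.mem_inf.mp hx).2⟩).symm
  · exfalso
    apply hZQ₁
    have h1 : Subgroup.centralizer ((W ⊓ ⁅Q₁, Q₁⁆ : Subgroup G) : Set G) ⊓ (S : Subgroup G) ≤
        Cfsg.pCore p G := le_pCore h (S.isPGroup'.to_le inf_le_right)
    refine le_trans ?_ h1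
    refine le_inf ?_ (inf_le_left.trans hQ₁.1)
    intro z hz
    rw [Subgroup.mem_centralizer_iff]
    intro d hd
    have hcl : ⁅Q₁, Q₁⁆ ≤ Q₁ := by
      rw [Subgroup.commutator_le]
      intro a ha b hb
      exact Q₁.mul_mem (Q₁.mul_mem (Q₁.mul_mem ha hb) (Q₁.inv_mem ha)) (Q₁.inv_mem hb)
    have hdQ : d ∈ Q₁ := hcl (Subgroup.mem_inf.mp hd).2
    have hz2 : z ∈ Subgroup.centralizer (Q₁ : Set G) := (Subgroup.mem_inf.mp hz).2
    rw [Subgroup.mem_centralizer_iff] at hz2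
    exact hz2 d hdQ

end

end Cfsg.Agent.Lib.Helper6.CLM
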