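import Mathlib
import Cfsg.Agent.Lib.Helper6.CLMain
import Cfsg.Agent.Lib.Helper8.CLP8b
import Cfsg.Agent.Lib.Helper9.CLP9
import Cfsg.Agent.Lib.Helper1.CL2989b

/-!
# Pushing up with centrally large subgroups: the abstract main argument (S2989, part 1)
-/

set_option autoImplicit false

namespace Cfsg.Agent.Lib.Helper6.CLM

open Cfsg.Agent.Lib.Helper6.PU Cfsg.Agent.Lib.Helper6.CLP Cfsg.Agent.Lib.Helper1

section
variable {G : Type*} [Group G] [Finite G] {p : ℕ} [Fact p.Prime] {n : ℕ} (S : Sylow p G)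
  (M : Subgroup G) {P : Type*} [Group P] (φ : G →* P)

omit [Finite G] [Fact p.Prime] in
theorem omegaOneCenter_facts (p : ℕ) (X : Subgroup G) :
    Cfsg.omegaOneCenter p X ≤ zc X ∧ ∀ e ∈ Cfsg.omegaOneCenter p X, e ^ p = 1 :=
  ⟨fun x hx => ((Cfsg.Agent.Lib.Helper8.CLP8.mem_omegaOneCenter_iff p X x).mp hx).1,
    fun e he => ((Cfsg.Agent.Lib.Helper8.CLP8.mem_omegaOneCenter_iff p X e).mp he).2⟩

omit [Finite G] [Fact p.Prime] in
theorem inf_normalizer_self_le (Q O : Subgroup G) [O.Normal] :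
    Q ≤ Subgroup.normalizer ((Q ⊓ O : Subgroup G) : Set G) := by
  intro q hq
  rw [Subgroup.mem_normalizer_iff]
  intro x
  constructor
  · intro hx
    exact ⟨Q.mul_mem (Q.mul_mem hq (Subgroup.mem_inf.mp hx).1) (Q.inv_mem hq),
      Subgroup.Normal.conj_mem inferInstance x (Subgroup.mem_inf.mp hx).2 q⟩
  · intro hx
    have h1 : q⁻¹ * (q * x * q⁻¹) * q⁻¹⁻¹ ∈ Q :=
      Q.mul_mem (Q.mul_mem (Q.inv_mem hq) (Subgroup.mem_inf.mp hx).1) (Q.inv_mem (Q.inv_mem hq))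
    have h2 : q⁻¹ * (q * x * q⁻¹) * q⁻¹⁻¹ ∈ O :=
      Subgroup.Normal.conj_mem inferInstance _ (Subgroup.mem_inf.mp hx).2 q⁻¹
    have h3 : q⁻¹ * (q * x * q⁻¹) * q⁻¹⁻¹ = x := by group
    rw [h3] at h1 h2
    exact ⟨h1, h2⟩

omit [Finite G] [Fact p.Prime] in
theorem normal_of_le_center (H : Subgroup G) (h : H ≤ Subgroup.center G) : H.Normal := by
  constructor
  intro m hm g
  have hc := h hm
  rw [Subgroup.mem_center_iff] at hc
  rw [hc g, mul_inv_cancel_right]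
  exact hm

/-- part 1 of S2989 -/
theorem s2989_part1 (hs : Setup p n S M φ)
    (hE₁ : Subgroup.centralizer (Cfsg.pCore p G : Set G) ≤ Cfsg.pCore p G) :
    (zc (S : Subgroup G)).Normal ∨
      ((Cfsg.frattiniOfMinimalCLJoin p ↥(S : Subgroup G)).map (S : Subgroup G).subtype).Normal := by
  have hQn := pCore_normal (G := G) p
  have hQS := pCore_le_sylow p S
  obtain ⟨W, hWn, hZW, hWO, hWc, hOW⟩ := frame S hE₁
  have hWp : IsPGroup p W := (pCore_isPGroup (G := G) p).to_le hWO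
  obtain ⟨V, V₂, hVn, -, h1, -⟩ := Cfsg.Agent.Lib.Helper1.PU2770J.layers p W hWc
  have hVW : V ≤ W := fun x hx => ((h1 x).mp hx).1
  have hVO : V ≤ Cfsg.pCore p G := hVW.trans hWO
  have hOV : Cfsg.pCore p G ≤ Subgroup.centralizer (V : Set G) :=
    hOW.trans (Subgroup.centralizer_le (by exact_mod_cast hVW))
  have hVel : ∀ v ∈ V, v ^ p = 1 := fun v hv => ((h1 v).mp hv).2
  by_cases hV : Subgroup.centralizer (V : Set G) ⊔ (S : Subgroup G) = ⊤
  · left
    have hW := Cfsg.Agent.Lib.Helper1.CL2989b.cent_omega S W V hWp hWc h1 hV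
    apply normal_of_le_center
    intro x hx
    apply mem_center_of_sup_eq_top _ _ hW x
    · intro c hc
      rw [Subgroup.mem_centralizer_iff] at hc
      exact (hc x (hZW hx)).symm
    · intro s hs'
      have h2 : x ∈ Subgroup.centralizer ((S : Subgroup G) : Set G) := (Subgroup.mem_inf.mp hx).2
      rw [Subgroup.mem_centralizer_iff] at h2
      exact h2 s hs'
  right
  apply Cfsg.Agent.Lib.Helper9.CLP9.sPhi_normal (S : Subgroup G) (Cfsg.pCore p G) hQS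
  intro Q hQ
  by_cases hQO : Q ≤ Cfsg.pCore p G
  · exact ⟨Q, hQ, hQO, rfl⟩
  obtain ⟨hRm, hRO, hZR, e1, e3, hsup, hidx⟩ := key S M φ hs V hVO hOV hV Q hQ.1
  obtain ⟨hle, heq⟩ := Cfsg.Agent.Lib.Helper8.CLP8.omega_step (S : Subgroup G) (Cfsg.pCore p G) V Q S.isPGroup' hQ.1.1 hQS hVO
    hOV hVel hZR e1 e3 hidx
  refine ⟨(Q ⊓ Cfsg.pCore p G) ⊔ V, ⟨hRm, fun Y hY => (hQ.2 Y hY).trans hle⟩, hRO, ?_⟩
  have hcov := heq (hQ.2 _ hRm)
  obtain ⟨hΩle, hΩpow⟩ := omegaOneCenter_facts p Q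
  -- `Φ(Q) = Φ(Q ∩ O)`
  have hphiQ : phi Q = phi (Q ⊓ Cfsg.pCore p G) := by
    apply Cfsg.Agent.Lib.Helper9.CLP9.phi_eq_of_central_elementary Q (Q ⊓ Cfsg.pCore p G) (Cfsg.omegaOneCenter p Q)
      (S.isPGroup'.to_le hQ.1.1) inf_le_left ?_ hΩle hΩpow ?_
    · exact inf_normalizer_self_le Q (Cfsg.pCore p G)
    · apply le_antisymm
      · exact sup_le inf_le_left (hΩle.trans inf_le_left)
      · have hQle : Q ≤ (Q ⊓ Cfsg.pCore p G) ⊔ zc Q := hsup.ge
        have hzle : zc Q ≤ (zc Q ⊓ Cfsg.pCore p G) ⊔ Cfsg.omegaOneCenter p Q := hcov.ge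
        have h8 : zc Q ⊓ Cfsg.pCore p G ≤ Q ⊓ Cfsg.pCore p G := inf_le_inf_right _ inf_le_left
        exact hQle.trans (sup_le le_sup_left
          (hzle.trans (sup_le (h8.trans le_sup_left) le_sup_right)))
  -- `Φ(R) = Φ(Q ∩ O)`
  have hVcent : ∀ v ∈ V, ∀ x ∈ Cfsg.pCore p G, v * x = x * v := by
    intro v hv x hx
    have h4 := hOV hx
    rw [Subgroup.mem_centralizer_iff] at h4
    exact h4 v hv
  have hphiR : phi ((Q ⊓ Cfsg.pCore p G) ⊔ V) = phi (Q ⊓ Cfsg.pCore p G) := by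
    apply Cfsg.Agent.Lib.Helper9.CLP9.phi_eq_of_central_elementary ((Q ⊓ Cfsg.pCore p G) ⊔ V) (Q ⊓ Cfsg.pCore p G) V
      (S.isPGroup'.to_le hRm.1) le_sup_left ?_ ?_ hVel rfl
    · refine sup_le Subgroup.le_normalizer ?_
      refine le_trans ?_ (Subgroup.centralizer_le_normalizer (s := ((Q ⊓ Cfsg.pCore p G : Subgroup G) : Set G)))
      intro v hv
      rw [Subgroup.mem_centralizer_iff]
      intro y hy
      exact (hVcent v hv y (Subgroup.mem_inf.mp hy).2).symm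
    · refine le_inf le_sup_right ?_
      intro v hv
      rw [Subgroup.mem_centralizer_iff]
      intro r hr
      have hrO : r ∈ Cfsg.pCore p G := hRO hr
      exact (hVcent v hv r hrO).symm
  rw [hphiR, hphiQ]

end

end Cfsg.Agent.Lib.Helper6.CLM
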