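import Mathlib
import Cfsg.Prelude.Def_Local
import Cfsg.Prelude.Def_Balance
import Cfsg.Prelude.Def_ClassificationStages
import Cfsg.Agent.Lib.Helper1.ThompsonBasic
import Cfsg.Agent.Lib.Helper2.Components2
import Cfsg.Agent.Lib.Helper7.CMXRK1
import Cfsg.Agent.Lib.Helper7.CMXRK2
set_option autoImplicit false
/-! FARM CMX (S1305), unit RK: the rank argument in the diagonal case. -/
namespace Cfsg.Agent.Lib.Helper6.CMX

open Cfsg
open scoped commutatorElement

universe u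

variable {X : Type u} [Group X]

theorem mem_map_conj {D : Subgroup X} {g y : X} :
    y ∈ D.map (MulAut.conj g).toMonoidHom ↔ g⁻¹ * y * g ∈ D := by
  rw [Subgroup.mem_map_equiv, MulAut.conj_symm_apply]

theorem conj_mem_map_conj {D : Subgroup X} {g x : X} :
    g * x * g⁻¹ ∈ D.map (MulAut.conj g).toMonoidHom ↔ x ∈ D := by
  rw [mem_map_conj]
  have : g⁻¹ * (g * x * g⁻¹) * g = x := by group
  rw [this]

theorem inv_mul_mem_normalizer_of_map_conj_eq {D : Subgroup X} {k k' : X}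
    (h : D.map (MulAut.conj k).toMonoidHom = D.map (MulAut.conj k').toMonoidHom) :
    k'⁻¹ * k ∈ Subgroup.normalizer (D : Set X) := by
  rw [Subgroup.mem_normalizer_iff]
  intro x
  rw [← conj_mem_map_conj (g := k), h, mem_map_conj]
  have : k'⁻¹ * (k * x * k⁻¹) * k' = k'⁻¹ * k * x * (k'⁻¹ * k)⁻¹ := by group
  rw [this]

theorem mem_normalizer_of_map_conj_eq {D : Subgroup X} {k : X}
    (h : D.map (MulAut.conj k).toMonoidHom = D) : k ∈ Subgroup.normalizer (D : Set X) := by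
  rw [Subgroup.mem_normalizer_iff]
  intro x
  rw [← conj_mem_map_conj (g := k), h]

/-- injection `A × C → A ⊔ C` when `A ⊓ C = ⊥`. -/
theorem card_mul_card_le_card_sup_of_inf_eq_bot [Finite X] (A C : Subgroup X)
    (h : A ⊓ C = ⊥) : Nat.card A * Nat.card C ≤ Nat.card ↥(A ⊔ C) := by
  rw [← Nat.card_prod]
  apply Nat.card_le_card_of_injective (fun p : ↥A × ↥C =>
    (⟨(p.1 : X) * (p.2 : X),
      mul_mem (Subgroup.mem_sup_left p.1.2) (Subgroup.mem_sup_right p.2.2)⟩ : ↥(A ⊔ C)))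
  rintro ⟨a, c⟩ ⟨a', c'⟩ hh
  have h' : (a : X) * c = a' * c' := congrArg Subtype.val hh
  have e : (a' : X)⁻¹ * a = c' * (c : X)⁻¹ := by
    have : (a : X) = a' * c' * (c : X)⁻¹ := by
      rw [← h']; group
    rw [this]; group
  have h4 : (a' : X)⁻¹ * a ∈ A ⊓ C :=
    ⟨A.mul_mem (A.inv_mem a'.2) a.2, by rw [e]; exact C.mul_mem c'.2 (C.inv_mem c.2)⟩
  rw [h, Subgroup.mem_bot] at h4
  have ha : (a : X) = a' := by
    have := congrArg (fun y => (a' : X) * y) h4
    simpa using this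
  have hc : (c : X) = c' := by
    rw [ha] at h'
    exact mul_left_cancel h'
  exact Prod.ext (Subtype.ext ha) (Subtype.ext hc)

/-- index at most two from a two-coset cover. -/
theorem card_le_two_mul_of_cover [Finite X] {B B₀ : Subgroup X} (k₀ : X)
    (hcov : ∀ k ∈ B, k ∈ B₀ ∨ k₀⁻¹ * k ∈ B₀) : Nat.card B ≤ 2 * Nat.card B₀ := by
  have hsub : (B : Set X) ⊆ (B₀ : Set X) ∪ (fun x => k₀ * x) '' (B₀ : Set X) := by
    intro k hk
    rcases hcov k hk with h | h
    · exact Or.inl h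
    · exact Or.inr ⟨k₀⁻¹ * k, h, by group⟩
  have h1 : (B : Set X).ncard ≤ ((B₀ : Set X) ∪ (fun x => k₀ * x) '' (B₀ : Set X)).ncard :=
    Set.ncard_le_ncard hsub (Set.toFinite _)
  have h2 := Set.ncard_union_le (B₀ : Set X) ((fun x => k₀ * x) '' (B₀ : Set X))
  have h3 : ((fun x => k₀ * x) '' (B₀ : Set X)).ncard ≤ (B₀ : Set X).ncard :=
    Set.ncard_image_le (Set.toFinite _)
  have e1 : Nat.card ↥B = (B : Set X).ncard := Nat.card_coe_set_eq (B : Set X)
  have e2 : Nat.card ↥B₀ = (B₀ : Set X).ncard := Nat.card_coe_set_eq (B₀ : Set X)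
  omega

/-- the homomorphism `δ : D → X`, `d ↦ d * (a d a⁻¹)`, when `D` commutes with `a D a⁻¹`. -/
def deltaHom (a : X) (D : Subgroup X)
    (hc : ∀ d ∈ D, ∀ e ∈ D, d * (a * e * a⁻¹) = (a * e * a⁻¹) * d) : ↥D →* X where
  toFun d := (d : X) * (a * (d : X) * a⁻¹)
  map_one' := by simp
  map_mul' d e := by
    have h := hc e e.2 d d.2
    simp only [Subgroup.coe_mul]
    calc (d : X) * e * (a * ((d : X) * e) * a⁻¹)
        = (d : X) * ((e : X) * (a * d * a⁻¹)) * (a * e * a⁻¹) := by group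
      _ = (d : X) * ((a * d * a⁻¹) * e) * (a * e * a⁻¹) := by rw [h]
      _ = (d : X) * (a * d * a⁻¹) * ((e : X) * (a * e * a⁻¹)) := by group

theorem RK [Finite X] (a : X) (ha : a * a = 1) {D L B V : Subgroup X} (hD : IsComponent D)
    (hDa : D.map (MulAut.conj a).toMonoidHom ≠ D)
    (h1 : ∀ d ∈ D, d * (a * d * a⁻¹) ∈ L) (h2 : ∀ x ∈ L, ∃ d ∈ D, x = d * (a * d * a⁻¹))
    (h3 : ∀ d ∈ D, d * (a * d * a⁻¹) = 1 → d = 1)
    (hBa : B ≤ Subgroup.centralizer ({a} : Set X)) (hBL : B ≤ Subgroup.centralizer (L : Set X))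
    (hBel : IsElementaryAbelian 2 B)
    (hVL : V ≤ L) (hVel : IsElementaryAbelian 2 V) (hV4 : 4 ≤ Nat.card V) :
    ∃ W : Subgroup X, W ≤ Subgroup.centralizer (D : Set X) ∧ IsElementaryAbelian 2 W ∧
      Nat.card B < Nat.card W := by
  -- `D` and `D^a` commute
  have hDaC : IsComponent (D.map (MulAut.conj a).toMonoidHom) :=
    Cfsg.Agent.Lib.Helper2.isComponent_conj a hD
  have hcomm0 : ⁅D, D.map (MulAut.conj a).toMonoidHom⁆ = ⊥ := by
    rcases Cfsg.Agent.Lib.Helper2.isComponent_eq_or_commutator_eq_bot hD hDaC with h | h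
    · exact absurd h.symm hDa
    · exact h
  have hDle : D ≤ Subgroup.centralizer ((D.map (MulAut.conj a).toMonoidHom : Subgroup X) : Set X) :=
    Subgroup.commutator_eq_bot_iff_le_centralizer.mp hcomm0
  have hc : ∀ d ∈ D, ∀ e ∈ D, d * (a * e * a⁻¹) = (a * e * a⁻¹) * d := by
    intro d hd e he
    have := Subgroup.mem_centralizer_iff.mp (hDle hd) (a * e * a⁻¹) (conj_mem_map_conj.mpr he)
    exact this.symm
  -- the homomorphism δ
  obtain ⟨δ, hδ⟩ : ∃ δ : ↥D →* X, ∀ d : ↥D, δ d = (d : X) * (a * (d : X) * a⁻¹) :=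
    ⟨deltaHom a D hc, fun _ => rfl⟩
  have hδinj : Function.Injective δ := by
    rw [injective_iff_map_eq_one]
    intro d hd
    rw [hδ] at hd
    exact Subtype.ext (h3 d d.2 hd)
  -- ψ : D → X, d ↦ a d a⁻¹
  obtain ⟨ψ, hψ⟩ : ∃ ψ : ↥D →* X, ∀ d : ↥D, ψ d = a * (d : X) * a⁻¹ :=
    ⟨(MulAut.conj a).toMonoidHom.comp D.subtype, fun _ => rfl⟩
  have hψinj : Function.Injective ψ := by
    intro d e hde
    rw [hψ, hψ] at hde
    exact Subtype.ext (mul_left_cancel (mul_right_cancel hde))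
  -- V₁, V₂
  obtain ⟨V₁, hV₁⟩ : ∃ V₁ : Subgroup ↥D, V₁ = V.comap δ := ⟨_, rfl⟩
  obtain ⟨V₂, hV₂⟩ : ∃ V₂ : Subgroup X, V₂ = V₁.map ψ := ⟨_, rfl⟩
  have hV₁el : IsElementaryAbelian 2 V₁ :=
    hV₁ ▸ Cfsg.Agent.Lib.Helper1.isElementaryAbelian_comap_of_injective hVel δ hδinj
  have hV₂el : IsElementaryAbelian 2 V₂ :=
    hV₂ ▸ Cfsg.Agent.Lib.Helper1.isElementaryAbelian_map hV₁el ψ
  have hVrange : V ≤ δ.range := by
    intro x hx
    obtain ⟨d, hd, rfl⟩ := h2 x (hVL hx)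
    exact ⟨⟨d, hd⟩, hδ _⟩
  have hV₁card : Nat.card V₁ = Nat.card V := by
    have hm : V₁.map δ = V := by rw [hV₁]; exact Subgroup.map_comap_eq_self hVrange
    rw [← hm, Subgroup.card_map_of_injective hδinj]
  have hV₂card : Nat.card V₂ = Nat.card V := by
    rw [hV₂, Subgroup.card_map_of_injective hψinj, hV₁card]
  have hV₂mem : ∀ y ∈ V₂, ∃ d ∈ D, y = a * d * a⁻¹ := by
    intro y hy
    rw [hV₂] at hy
    obtain ⟨d, -, rfl⟩ := hy
    exact ⟨d, d.2, hψ d⟩
  have hV₂D : V₂ ≤ Subgroup.centralizer (D : Set X) := by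
    intro y hy
    obtain ⟨d, hd, rfl⟩ := hV₂mem y hy
    rw [Subgroup.mem_centralizer_iff]
    intro e he
    exact hc e he d hd
  -- B₀
  obtain ⟨B₀, hB₀⟩ : ∃ B₀ : Subgroup X, B₀ = B ⊓ Subgroup.normalizer (D : Set X) := ⟨_, rfl⟩
  have hB₀B : B₀ ≤ B := hB₀ ▸ inf_le_left
  have hB₀el : IsElementaryAbelian 2 B₀ :=
    Cfsg.Agent.Lib.Helper1.isElementaryAbelian_mono hBel hB₀B
  have hcomma : ∀ k ∈ B, k * a = a * k := by
    intro k hk
    have := hBa hk
    rw [Subgroup.mem_centralizer_singleton_iff] at this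
    exact this
  have hB₀D : B₀ ≤ Subgroup.centralizer (D : Set X) := by
    intro k hk
    have hkB : k ∈ B := hB₀B hk
    have hkN : k ∈ Subgroup.normalizer (D : Set X) := by rw [hB₀] at hk; exact hk.2
    exact Cfsg.Agent.Lib.Helper7.CMX.RK2 a ha hD hDa h1 k (hcomma k hkB) hkN (hBL hkB)
  have hainv : a⁻¹ = a := inv_eq_of_mul_eq_one_left ha
  have hV₂B₀ : V₂ ≤ Subgroup.centralizer (B₀ : Set X) := by
    intro y hy
    obtain ⟨d, hd, rfl⟩ := hV₂mem y hy
    rw [Subgroup.mem_centralizer_iff]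
    intro k hk
    have hka := hcomma k (hB₀B hk)
    have hkd : d * k = k * d := Subgroup.mem_centralizer_iff.mp (hB₀D hk) d hd
    rw [hainv]
    calc k * (a * d * a) = (k * a) * d * a := by group
      _ = a * (k * d) * a := by rw [hka]; group
      _ = a * (d * k) * a := by rw [hkd]
      _ = a * d * (k * a) := by group
      _ = a * d * (a * k) := by rw [hka]
      _ = a * d * a * k := by group
  have hinf : B₀ ⊓ V₂ = ⊥ := by
    rw [eq_bot_iff]
    rintro z ⟨hzB, hzV⟩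
    rw [Subgroup.mem_bot]
    obtain ⟨d, hd, hzd⟩ := hV₂mem z hzV
    have hza := hcomma z (hB₀B hzB)
    have hzz : z * z = 1 := by
      have := hBel.2 z (hB₀B hzB)
      rwa [pow_two] at this
    have hzeq : z = d := by
      have : a * z = a * d := by
        calc a * z = z * a := hza.symm
          _ = a * d * a⁻¹ * a := by rw [hzd]
          _ = a * d := by group
      exact mul_left_cancel this
    have hzD : z ∈ D := hzeq ▸ hd
    apply h3 z hzD
    have : a * z * a⁻¹ = z := by rw [← hza]; group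
    rw [this, hzz]
  -- W
  refine ⟨B₀ ⊔ V₂, sup_le hB₀D hV₂D,
    Cfsg.Agent.Lib.Helper1.isElementaryAbelian_sup_of_le_centralizer hB₀el hV₂el hV₂B₀, ?_⟩
  have hW := card_mul_card_le_card_sup_of_inf_eq_bot B₀ V₂ hinf
  rw [hV₂card] at hW
  have hBpos : 0 < Nat.card B := Nat.card_pos
  have hB₀pos : 0 < Nat.card B₀ := Nat.card_pos
  have hB2 : Nat.card B ≤ 2 * Nat.card B₀ := by
    by_cases hBN : B ≤ Subgroup.normalizer (D : Set X)
    · have : B₀ = B := by rw [hB₀]; exact inf_eq_left.mpr hBN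
      rw [this]; omega
    · obtain ⟨k₀, hk₀B, hk₀N⟩ := SetLike.not_le_iff_exists.mp hBN
      have hmap : ∀ k ∈ B, k ∉ Subgroup.normalizer (D : Set X) →
          D.map (MulAut.conj k).toMonoidHom = D.map (MulAut.conj a).toMonoidHom := by
        intro k hk hkN
        rcases Cfsg.Agent.Lib.Helper7.CMX.RK1 a ha hD hDa h1 k (hBL hk) with h | h
        · exact absurd (mem_normalizer_of_map_conj_eq h) hkN
        · exact h
      apply card_le_two_mul_of_cover k₀
      intro k hk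
      by_cases hkN : k ∈ Subgroup.normalizer (D : Set X)
      · left; rw [hB₀]; exact ⟨hk, hkN⟩
      · right
        rw [hB₀]
        refine ⟨B.mul_mem (B.inv_mem hk₀B) hk, ?_⟩
        apply inv_mul_mem_normalizer_of_map_conj_eq
        rw [hmap k hk hkN, hmap k₀ hk₀B hk₀N]
  have : Nat.card ↥B₀ * 4 ≤ Nat.card ↥B₀ * Nat.card ↥V := Nat.mul_le_mul_left _ hV4
  omega

end Cfsg.Agent.Lib.Helper6.CMX
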