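import Mathlib
import Cfsg.Prelude.Def_Local
import Cfsg.Prelude.Def_Balance
import Cfsg.Prelude.Def_ClassificationStages
import Cfsg.Agent.Lib.Helper1.WielandtCriterion
import Cfsg.Agent.Lib.Helper2.Components2
set_option autoImplicit false
/-! FARM CMX (S1305), unit T3: type transport of a component of `C_G(a)` lying in `C_G(b)`. -/
namespace Cfsg.Agent.Lib.Helper6.CMX

open Cfsg

universe u

variable {G : Type u} [Group G]

/-- the image in `G` of the centralizer of `a` taken inside the subgroup `C`. -/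
theorem map_centralizer_singleton_subtype (C : Subgroup G) (a : G) (haC : a ∈ C) :
    (Subgroup.centralizer ({(⟨a, haC⟩ : ↥C)} : Set ↥C)).map C.subtype =
      Subgroup.centralizer ({a} : Set G) ⊓ C := by
  ext x
  rw [Subgroup.mem_map, Subgroup.mem_inf]
  constructor
  · rintro ⟨y, hy, rfl⟩
    rw [Subgroup.mem_centralizer_singleton_iff] at hy
    refine ⟨?_, y.2⟩
    rw [Subgroup.mem_centralizer_singleton_iff]
    exact congrArg Subtype.val hy
  · rintro ⟨hxa, hxC⟩
    rw [Subgroup.mem_centralizer_singleton_iff] at hxa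
    refine ⟨⟨x, hxC⟩, ?_, rfl⟩
    rw [Subgroup.mem_centralizer_singleton_iff]
    exact Subtype.ext hxa

theorem T3 (a b : G) (hab : a ∈ Subgroup.centralizer ({b} : Set G)) (K : Subgroup G)
    (hKa : K ≤ Subgroup.centralizer ({a} : Set G)) (hKb : K ≤ Subgroup.centralizer ({b} : Set G))
    (hK : IsComponent (K.subgroupOf (Subgroup.centralizer ({a} : Set G)))) :
    IsComponent ((K.subgroupOf (Subgroup.centralizer ({b} : Set G))).subgroupOf
      (Subgroup.centralizer
        ({(⟨a, hab⟩ : ↥(Subgroup.centralizer ({b} : Set G)))} :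
          Set ↥(Subgroup.centralizer ({b} : Set G))))) := by
  obtain ⟨Cb, hCb⟩ : ∃ Cb : Subgroup G, Cb = Subgroup.centralizer ({b} : Set G) := ⟨_, rfl⟩
  obtain ⟨Ca, hCa⟩ : ∃ Ca : Subgroup G, Ca = Subgroup.centralizer ({a} : Set G) := ⟨_, rfl⟩
  subst hCb
  rw [← hCa] at hK hKa
  have hmapA := map_centralizer_singleton_subtype (Subgroup.centralizer ({b} : Set G)) a hab
  rw [← hCa] at hmapA
  have hmapK : (K.subgroupOf (Subgroup.centralizer ({b} : Set G))).map
      (Subgroup.centralizer ({b} : Set G)).subtype = K := Subgroup.map_subgroupOf_eq_of_le hKb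
  have hKA : K.subgroupOf (Subgroup.centralizer ({b} : Set G)) ≤
      Subgroup.centralizer ({(⟨a, hab⟩ : ↥(Subgroup.centralizer ({b} : Set G)))} :
          Set ↥(Subgroup.centralizer ({b} : Set G))) := by
    intro y hy
    have hyK : (y : G) ∈ K := Subgroup.mem_subgroupOf.mp hy
    have hya := hKa hyK
    rw [hCa, Subgroup.mem_centralizer_singleton_iff] at hya
    rw [Subgroup.mem_centralizer_singleton_iff]
    exact Subtype.ext hya
  refine ⟨?_, ?_⟩
  · rw [← Cfsg.Agent.Lib.Helper1.isSubnormal_subgroupOf_map_iff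
      (Subgroup.centralizer ({b} : Set G)).subtype (Subgroup.subtype_injective _), hmapA, hmapK]
    exact Cfsg.Agent.Lib.Helper1.isSubnormal_subgroupOf_of_le inf_le_left hK.1
  · -- quasisimple: both groups are isomorphic to `K`
    have e1 : ↥((K.subgroupOf (Subgroup.centralizer ({b} : Set G))).subgroupOf
        (Subgroup.centralizer ({(⟨a, hab⟩ : ↥(Subgroup.centralizer ({b} : Set G)))} :
          Set ↥(Subgroup.centralizer ({b} : Set G))))) ≃*
        ↥(K.subgroupOf (Subgroup.centralizer ({b} : Set G))) := Subgroup.subgroupOfEquivOfLe hKA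
    have e2 : ↥(K.subgroupOf (Subgroup.centralizer ({b} : Set G))) ≃* ↥K :=
      Subgroup.subgroupOfEquivOfLe hKb
    have e3 : ↥(K.subgroupOf Ca) ≃* ↥K := Subgroup.subgroupOfEquivOfLe hKa
    exact Cfsg.Agent.Lib.Helper2.isQuasisimple_of_mulEquiv ((e1.trans e2).trans e3.symm) hK.2

end Cfsg.Agent.Lib.Helper6.CMX
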