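import Mathlib
import Cfsg.Agent.Lib.Helper8.CTTDefs

/-!
# Farm CTT (S3246): unit U4 `index_two`.
-/

set_option autoImplicit false

namespace Cfsg.Agent.Lib.Helper6.CTTU4

open Cfsg Cfsg.Agent.Lib.Helper7 Cfsg.Agent.Lib.Helper8.CTT

/-- membership in the centralizer of a singleton, conjugation form -/
theorem mem_cent_iff {G : Type*} [Group G] (a g : G) :
    g ∈ Subgroup.centralizer ({a} : Set G) ↔ g * a * g⁻¹ = a := by
  rw [Subgroup.mem_centralizer_singleton_iff]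
  constructor
  · intro h
    rw [h]
    group
  · intro h
    calc g * a = (g * a * g⁻¹) * g := by group
      _ = a * g := by rw [h]

/-- `|S| ≤ 2 |C_S(a)|` when `a` has at most two `S`-conjugates. -/
theorem card_le_two_mul {G : Type*} [Group G] [Finite G] (S : Subgroup G) (a b : G)
    (hab : ∀ s ∈ S, s * a * s⁻¹ = a ∨ s * a * s⁻¹ = b) :
    Nat.card ↥S ≤ 2 * Nat.card ↥(S ⊓ Subgroup.centralizer ({a} : Set G)) := by
  classical
  set S₀ : Subgroup G := S ⊓ Subgroup.centralizer ({a} : Set G) with hS₀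
  by_cases hSS : S ≤ S₀
  · have := Subgroup.card_le_of_le hSS
    omega
  · obtain ⟨s₀, hs₀S, hs₀⟩ := SetLike.not_le_iff_exists.mp hSS
    have hs₀a : s₀ * a * s₀⁻¹ ≠ a := by
      intro h
      exact hs₀ ⟨hs₀S, (mem_cent_iff a s₀).mpr h⟩
    have hs₀b : s₀ * a * s₀⁻¹ = b := (hab s₀ hs₀S).resolve_left hs₀a
    have hsub : (S : Set G) ⊆ (S₀ : Set G) ∪ (fun x => s₀ * x) '' (S₀ : Set G) := by
      intro s hs
      by_cases hsS₀ : s ∈ S₀
      · exact Or.inl hsS₀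
      · right
        have hsa : s * a * s⁻¹ ≠ a := by
          intro h
          exact hsS₀ ⟨hs, (mem_cent_iff a s).mpr h⟩
        have hsb : s * a * s⁻¹ = b := (hab s hs).resolve_left hsa
        refine ⟨s₀⁻¹ * s, ⟨S.mul_mem (S.inv_mem hs₀S) hs, ?_⟩, by group⟩
        show s₀⁻¹ * s ∈ Subgroup.centralizer ({a} : Set G)
        rw [mem_cent_iff]
        calc s₀⁻¹ * s * a * (s₀⁻¹ * s)⁻¹ = s₀⁻¹ * (s * a * s⁻¹) * s₀ := by group
          _ = s₀⁻¹ * (s₀ * a * s₀⁻¹) * s₀ := by rw [hsb, hs₀b]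
          _ = a := by group
    have h1 : Nat.card ↥S = (S : Set G).ncard := Nat.card_coe_set_eq _
    have h2 : Nat.card ↥S₀ = (S₀ : Set G).ncard := Nat.card_coe_set_eq _
    have h3 : (S : Set G).ncard ≤ ((S₀ : Set G) ∪ (fun x => s₀ * x) '' (S₀ : Set G)).ncard :=
      Set.ncard_le_ncard hsub (Set.toFinite _)
    have h4 := Set.ncard_union_le (S₀ : Set G) ((fun x => s₀ * x) '' (S₀ : Set G))
    have h5 : ((fun x => s₀ * x) '' (S₀ : Set G)).ncard ≤ (S₀ : Set G).ncard :=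
      Set.ncard_image_le (Set.toFinite _)
    omega

/-- UNIT U4. -/
theorem index_two {G : Type*} [Group G] [Finite G] (S : Sylow 2 G) (a b : G)
    (hab : ∀ s ∈ (S : Subgroup G), s * a * s⁻¹ = a ∨ s * a * s⁻¹ = b)
    (H Q : Subgroup G) (hH : Subgroup.centralizer ({a} : Set G) ≤ H) (hQ : Cons H Q) :
    ∀ q₁ ∈ Q, ∀ q₂ ∈ Q, q₁ ∉ (S : Subgroup G) ⊓ Subgroup.centralizer ({a} : Set G) →
      q₂ ∉ (S : Subgroup G) ⊓ Subgroup.centralizer ({a} : Set G) →
      q₁⁻¹ * q₂ ∈ (S : Subgroup G) ⊓ Subgroup.centralizer ({a} : Set G) := by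
  classical
  have : Fact (Nat.Prime 2) := ⟨Nat.prime_two⟩
  have hcard := card_le_two_mul (S : Subgroup G) a b hab
  set S₀ : Subgroup G := (S : Subgroup G) ⊓ Subgroup.centralizer ({a} : Set G) with hS₀
  intro q₁ hq₁ q₂ hq₂ hq₁S hq₂S
  -- `Q ⊔ S₀` is a 2-group
  have hS₀2 : IsPGroup 2 ↥S₀ := S.2.to_le inf_le_left
  have hS₀N : S₀ ≤ Subgroup.normalizer (Q : Set G) := (inf_le_right.trans hH).trans hQ.norm
  have hsup : IsPGroup 2 ↥(Q ⊔ S₀) := IsPGroup.to_sup_of_normal_left' hQ.two hS₀2 hS₀N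
  obtain ⟨P, hP⟩ := hsup.exists_le_sylow
  have hQP : Q ≤ (P : Subgroup G) := le_sup_left.trans hP
  have hS₀P : S₀ ≤ (P : Subgroup G) := le_sup_right.trans hP
  have hPS : Nat.card ↥(P : Subgroup G) = Nat.card ↥(S : Subgroup G) :=
    Nat.card_congr (Sylow.equiv P S).toEquiv
  -- index of `S₀` in `P`
  have hrel : Nat.card ↥S₀ * S₀.relIndex (P : Subgroup G) = Nat.card ↥(P : Subgroup G) := by
    have := Subgroup.relIndex_mul_relIndex (⊥ : Subgroup G) S₀ (P : Subgroup G) bot_le hS₀P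
    rwa [Subgroup.relIndex_bot_left, Subgroup.relIndex_bot_left] at this
  have hS₀pos : 0 < Nat.card ↥S₀ := Nat.card_pos
  have hle2 : S₀.relIndex (P : Subgroup G) ≤ 2 := by
    have h1 : Nat.card ↥S₀ * S₀.relIndex (P : Subgroup G) ≤ Nat.card ↥S₀ * 2 := by
      rw [hrel, hPS]; omega
    exact Nat.le_of_mul_le_mul_left h1 hS₀pos
  have hidx : (S₀.subgroupOf (P : Subgroup G)).index = 2 := by
    have h0 : (S₀.subgroupOf (P : Subgroup G)).index ≠ 0 := Subgroup.index_ne_zero_of_finite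
    have h1 : (S₀.subgroupOf (P : Subgroup G)).index ≠ 1 := by
      intro h
      rw [Subgroup.index_eq_one] at h
      have : (⟨q₁, hQP hq₁⟩ : ↥(P : Subgroup G)) ∈ S₀.subgroupOf (P : Subgroup G) := by
        rw [h]; exact Subgroup.mem_top _
      exact hq₁S (Subgroup.mem_subgroupOf.mp this)
    have h2 : (S₀.subgroupOf (P : Subgroup G)).index ≤ 2 := hle2
    omega
  have key := Subgroup.mul_mem_iff_of_index_two hidx
    (a := (⟨q₁, hQP hq₁⟩ : ↥(P : Subgroup G))⁻¹) (b := (⟨q₂, hQP hq₂⟩ : ↥(P : Subgroup G)))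
  have hmem : (⟨q₁, hQP hq₁⟩ : ↥(P : Subgroup G))⁻¹ * ⟨q₂, hQP hq₂⟩ ∈
      S₀.subgroupOf (P : Subgroup G) := by
    rw [key]
    constructor
    · intro h
      exfalso
      have h' := (S₀.subgroupOf (P : Subgroup G)).inv_mem h
      rw [inv_inv] at h'
      exact hq₁S (Subgroup.mem_subgroupOf.mp h')
    · intro h
      exact absurd (Subgroup.mem_subgroupOf.mp h) hq₂S
  exact Subgroup.mem_subgroupOf.mp hmem

end Cfsg.Agent.Lib.Helper6.CTTU4
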