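import Mathlib
import Cfsg.Agent.Lib.Helper8.CTTDefs
import Cfsg.Agent.Lib.Helper3.TW1
import Cfsg.Agent.Lib.Lead.RVA

/-!
# Farm CTT (S3246): unit U7a `centralizes_CQT`.
-/

set_option autoImplicit false

namespace Cfsg.Agent.Lib.Helper6.CTTU7a

open Cfsg Cfsg.Agent.Lib.Helper7 Cfsg.Agent.Lib.Helper8.CTT

/-- an element of a 2-group killed by an odd power is trivial -/
theorem eq_one_of_pow_odd {G : Type*} [Group G] {Q : Subgroup G} (hQ : IsPGroup 2 ↥Q) {c : G}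
    (hc : c ∈ Q) {n : ℕ} (hn : Odd n) (hcn : c ^ n = 1) : c = 1 := by
  obtain ⟨k, hk⟩ := hQ ⟨c, hc⟩
  have hk' : c ^ 2 ^ k = 1 := by
    have := congrArg Subtype.val hk
    simpa using this
  have h1 : orderOf c ∣ 2 ^ k := orderOf_dvd_of_pow_eq_one hk'
  have h2 : orderOf c ∣ n := orderOf_dvd_of_pow_eq_one hcn
  have hcop : Nat.Coprime (2 ^ k) n := Nat.Coprime.pow_left k (Nat.coprime_two_left.mpr hn)
  have h3 : orderOf c = 1 := Nat.eq_one_of_dvd_coprimes hcop h1 h2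
  exact orderOf_eq_one_iff.mp h3

/-- UNIT U7a. -/
theorem centralizes_CQT {G : Type*} [Group G] [Finite G] (T H Q : Subgroup G) (hT : IsPGroup 2 ↥T)
    (hTH : Subgroup.centralizer (T : Set G) ≤ H) (hQ : Cons H Q) (y : G)
    (hyL : y ∈ Subgroup.normalizer (T : Set G))
    (hyC : y ∈ Subgroup.centralizer (pCoreIn 2 (Subgroup.normalizer (T : Set G)) : Set G))
    (hyo : Odd (orderOf y)) :
    ∀ d ∈ Q ⊓ Subgroup.centralizer (T : Set G), d * y = y * d := by
  set L : Subgroup G := Subgroup.normalizer (T : Set G) with hL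
  set P : Subgroup G := pCoreIn 2 L with hP
  set K : Subgroup G := L ⊓ Subgroup.centralizer (P : Set G) with hK
  have hTP : T ≤ P := le_pCoreIn Subgroup.le_normalizer hT le_rfl
  have hKCT : K ≤ Subgroup.centralizer (T : Set G) :=
    inf_le_right.trans (Subgroup.centralizer_le hTP)
  have hKH : K ≤ H := hKCT.trans hTH
  have hKL : K ≤ L := inf_le_left
  have hLP : L ≤ Subgroup.normalizer (P : Set G) := le_normalizer_pCoreIn 2 L
  have hLK : L ≤ Subgroup.normalizer (K : Set G) := by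
    apply Cfsg.Agent.Lib.Helper3.TW.le_normalizer_of_conj_mem
    intro l hl c hc
    refine ⟨L.mul_mem (L.mul_mem hl hc.1) (L.inv_mem hl), ?_⟩
    show l * c * l⁻¹ ∈ Subgroup.centralizer (P : Set G)
    rw [Subgroup.mem_centralizer_iff]
    intro p hp
    have hl' : l⁻¹ ∈ Subgroup.normalizer (P : Set G) := Subgroup.inv_mem _ (hLP hl)
    have hp' : l⁻¹ * p * l⁻¹⁻¹ ∈ P := (Subgroup.mem_normalizer_iff.mp hl' p).mp hp
    have hcomm := Subgroup.mem_centralizer_iff.mp hc.2 _ hp'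
    calc p * (l * c * l⁻¹) = l * ((l⁻¹ * p * l⁻¹⁻¹) * c) * l⁻¹ := by group
      _ = l * (c * (l⁻¹ * p * l⁻¹⁻¹)) * l⁻¹ := by rw [hcomm]
      _ = l * c * l⁻¹ * p := by group
  have hyK : y ∈ K := ⟨hyL, hyC⟩
  have hKQ : K ≤ Subgroup.normalizer (Q : Set G) := hKH.trans hQ.norm
  have hQK : Q ⊓ K ≤ pCoreIn 2 K := by
    apply le_pCoreIn inf_le_right (hQ.two.to_le inf_le_left)
    apply Cfsg.Agent.Lib.Helper3.TW.le_normalizer_of_conj_mem
    intro k hk c hc
    exact ⟨(Subgroup.mem_normalizer_iff.mp (hKQ hk) c).mp hc.1,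
      K.mul_mem (K.mul_mem hk hc.2) (K.inv_mem hk)⟩
  have hKP : pCoreIn 2 K ≤ P := Cfsg.Agent.Lib.Helper3.TW.pCoreIn_le_pCoreIn 2 hKL hLK
  have hcent : ∀ c ∈ Q ⊓ K, c * y = y * c := fun c hc =>
    Subgroup.mem_centralizer_iff.mp hyC c (hKP (hQK hc))
  have hφ : (MulAut.conj y) ^ (orderOf y) = 1 := by
    rw [← map_pow, pow_orderOf_eq_one, map_one]
  have key := Cfsg.Agent.Lib.Lead.RVA.chain_step (MulAut.conj y) (orderOf y) hφ (Q ⊓ K)
    (Q ⊓ Subgroup.centralizer (T : Set G))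
    (fun c hc hcn => eq_one_of_pow_odd hQ.two hc.1 hyo hcn)
    (fun c hc => by
      rw [MulAut.conj_apply]
      have := hcent c hc
      calc y * c * y⁻¹ = (c * y) * y⁻¹ := by rw [this]
        _ = c := by group)
    (fun b hb => by
      rw [MulAut.conj_apply]
      have hbL : b ∈ L := Subgroup.centralizer_le_normalizer _ hb.2
      have hyQ : y ∈ Subgroup.normalizer (Q : Set G) := hKQ hyK
      refine ⟨Q.mul_mem ((Subgroup.mem_normalizer_iff.mp hyQ b).mp hb.1) (Q.inv_mem hb.1), ?_⟩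
      have h1 : b * y⁻¹ * b⁻¹ ∈ K :=
        (Subgroup.mem_normalizer_iff.mp (hLK hbL) y⁻¹).mp (K.inv_mem hyK)
      have h2 : y * b * y⁻¹ * b⁻¹ = y * (b * y⁻¹ * b⁻¹) := by group
      rw [h2]
      exact K.mul_mem hyK h1)
  intro d hd
  have h := key d hd
  rw [MulAut.conj_apply] at h
  calc d * y = (y * d * y⁻¹) * y := by rw [h]
    _ = y * d := by group

end Cfsg.Agent.Lib.Helper6.CTTU7a
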