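import Mathlib
import Cfsg.Agent.Lib.Helper6.ChDich0
import Cfsg.Agent.Lib.Helper5.ChevSylow

/-! S2441 farm, unit T (transport): the dichotomy `defect 0 or full defect` for the blocks of
`↥(D.group F)` from the ambient group-theoretic statement `hmain` about the subgroups of
`D.posUnipotent F` (inside `GL D.Idx F`). -/

set_option autoImplicit false
set_option linter.unusedSectionVars false
set_option linter.unusedVariables false
set_option linter.style.longLine false

namespace Cfsg.Agent.Lib.Helper6.ChDich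

open Cfsg Cfsg.Lie Cfsg.Agent.Lib.Helper5.ChevStruct Cfsg.Agent.Lib.Helper5.ChevSym

variable {F : Type*} [Field F]

/-- **T**: ambient `hmain` ⟹ dichotomy for the blocks of `↥(D.group F)`. -/
theorem dich_of_main [Fintype F] (p : ℕ) [Fact p.Prime] [CharP F p] (D : ChevalleyDatum)
    (hD : D ∈ Seven) (M : Ideal Cfsg.AlgInt) (hM : Cfsg.IsPModular p M)
    (hmain : ∀ Q : Subgroup (GL D.Idx F), Q ≤ D.posUnipotent F →
      (∀ g : GL D.Idx F, g ∈ D.group F → conjSub g Q ≤ D.posUnipotent F →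
        ∃ x : GL D.Idx F, x ∈ D.group F ∧
          x ∈ Subgroup.centralizer ((conjSub g Q : Subgroup (GL D.Idx F)) : Set (GL D.Idx F)) ∧
          D.posUnipotent F ⊓ conjSub x (D.posUnipotent F) = conjSub g Q) →
      Q = ⊥ ∨ Q = D.posUnipotent F) :
    ∀ B : Set (Cfsg.IrrCharacter ↥(D.group F)), Cfsg.IsPBlock M B →
      Cfsg.blockDefect p B = 0 ∨
        Cfsg.blockDefect p B = (Nat.card ↥(D.group F)).factorization p := by
  classical
  haveI : Finite (GL D.Idx F) := inferInstance
  have hUG : D.posUnipotent F ≤ D.group F := pos_le_group D hD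
  obtain ⟨G, hGdef⟩ : ∃ G : Subgroup (GL D.Idx F), G = D.group F := ⟨_, rfl⟩
  obtain ⟨U, hUdef⟩ : ∃ U : Subgroup (GL D.Idx F), U = D.posUnipotent F := ⟨_, rfl⟩
  rw [← hUdef] at hmain hUG
  rw [← hGdef] at hmain hUG ⊢
  obtain ⟨P, hP⟩ : ∃ P : Sylow p ↥G, (P : Subgroup ↥G) = U.subgroupOf G := by
    subst hGdef hUdef
    exact pos_isSylow p D hD (F := F)
  -- image of a subgroup of ↥G
  have himg_conj : ∀ (g : ↥G) (K : Subgroup ↥G),
      (conjSub g K).map G.subtype = conjSub (g : GL D.Idx F) (K.map G.subtype) := by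
    intro g K
    ext y
    constructor
    · rintro ⟨_, ⟨k, hk, rfl⟩, rfl⟩
      exact ⟨(k : GL D.Idx F), ⟨k, hk, rfl⟩, rfl⟩
    · rintro ⟨_, ⟨k, hk, rfl⟩, rfl⟩
      exact ⟨_, ⟨k, hk, rfl⟩, rfl⟩
  have hmapU : (U.subgroupOf G).map G.subtype = U := by
    rw [Subgroup.map_subgroupOf_eq_of_le hUG]
  have hinj : Function.Injective (Subgroup.map G.subtype : Subgroup ↥G → Subgroup (GL D.Idx F)) :=
    Subgroup.map_injective G.subtype_injective
  refine dich_abs p M hM (hG_of_sylow p P ?_)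
  intro Q' hQ'U hgood'
  rw [hP] at hQ'U
  have hQU : Q'.map G.subtype ≤ U := by
    rw [← hmapU]; exact Subgroup.map_mono hQ'U
  have key := hmain (Q'.map G.subtype) hQU ?_
  · rcases key with h | h
    · left
      apply hinj
      rw [h, Subgroup.map_bot]
    · right
      apply hinj
      rw [h, hP, hmapU]
  · intro g hg hgU
    have hgU' : conjSub (⟨g, hg⟩ : ↥G) Q' ≤ (P : Subgroup ↥G) := by
      rw [hP]
      intro y hy
      rw [Subgroup.mem_subgroupOf]
      apply hgU
      rw [← himg_conj ⟨g, hg⟩ Q']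
      exact ⟨y, hy, rfl⟩
    obtain ⟨x', hx'c, hx'⟩ := hgood' ⟨g, hg⟩ hgU'
    refine ⟨(x' : GL D.Idx F), x'.2, ?_, ?_⟩
    · rw [Subgroup.mem_centralizer_iff]
      intro y hy
      rw [← himg_conj ⟨g, hg⟩ Q'] at hy
      obtain ⟨y', hy', rfl⟩ := hy
      have := (Subgroup.mem_centralizer_iff.mp hx'c) y' hy'
      have h2 := congrArg (fun z : ↥G => (z : GL D.Idx F)) this
      simpa using h2
    · have h1 := congrArg (Subgroup.map G.subtype) hx'
      rw [himg_conj ⟨g, hg⟩ Q'] at h1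
      rw [← h1, Subgroup.map_inf _ _ G.subtype G.subtype_injective, himg_conj x' _, hP, hmapU]

end Cfsg.Agent.Lib.Helper6.ChDich
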