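import Mathlib
import Cfsg.Prelude.Def_ChevStructure
import Cfsg.Prelude.Def_ChevF4
import Cfsg.Agent.Lib.Helper5.ChevW0
import Cfsg.Agent.Lib.Helper6.ChevCentChk

set_option autoImplicit false

/-!
S4280 farm, unit E3/E4: kernel-fast variants of the Bool checkers of `ChevCentChk`
(the parity of the Cartan row and the positivity of a root are read from literal tables).
-/

namespace Cfsg.Agent.Lib.Helper6.F4Inv

open Cfsg Cfsg.Lie Cfsg.Agent.Lib.Helper5.ChevStruct Cfsg.Agent.Lib.Helper5.ChevSym

/-- fast `presB`: the parity table `par` replaces `cartan j · % 2 = 0` -/
def presT (D : ChevalleyDatum) (par : List Bool) (w : List ℕ) : Bool :=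
  (List.range D.nroots).all fun r => par.getD (wActC D w r) false == par.getD r false

/-- fast `cntB` -/
def cntT (D : ChevalleyDatum) (par pos : List Bool) (w : List ℕ) : ℕ :=
  ((List.range D.nroots).filter fun r =>
    par.getD r false && pos.getD r false && !(pos.getD (wActC D w r) false)).length

/-- the table `par` is the parity table of the `j`-th Cartan row -/
def IsParTbl (D : ChevalleyDatum) (j : ℕ) (par : List Bool) : Prop :=
  ∀ r < D.nroots, par.getD r false = decide (D.cartan j r % 2 = 0)

/-- the table `pos` is the positivity table -/
def IsPosTbl (D : ChevalleyDatum) (pos : List Bool) : Prop :=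
  ∀ r < D.nroots, pos.getD r false = decide (D.IsPosRoot r)

theorem h6_decide_mod_eq (a b : ℤ) :
    decide (a % 2 = b % 2) = (decide (a % 2 = 0) == decide (b % 2 = 0)) := by
  rcases Int.emod_two_eq_zero_or_one a with ha | ha <;>
    rcases Int.emod_two_eq_zero_or_one b with hb | hb <;> simp [ha, hb]

theorem presT_eq (D : ChevalleyDatum) (hD : D ∈ Seven) (j : ℕ) (par : List Bool)
    (hpar : IsParTbl D j par) (w : List ℕ) (hw : Wd D w) : presT D par w = presB D j w := by
  unfold presT presB
  rw [Bool.eq_iff_iff, List.all_eq_true, List.all_eq_true]
  refine forall_congr' fun r => forall_congr' fun hr => ?_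
  have hr' := List.mem_range.1 hr
  have h1 : wActC D w r < D.nroots := by
    rw [wActC_eq]
    exact wAct_lt D hD w hw r hr'
  rw [hpar r hr', hpar _ h1, h6_decide_mod_eq]

theorem cntT_eq (D : ChevalleyDatum) (hD : D ∈ Seven) (j : ℕ) (par pos : List Bool)
    (hpar : IsParTbl D j par) (hpos : IsPosTbl D pos) (w : List ℕ) (hw : Wd D w) :
    cntT D par pos w = cntB D j w := by
  unfold cntT cntB
  congr 1
  apply List.filter_congr
  intro r hr
  have hr' := List.mem_range.1 hr
  have h1 : wActC D w r < D.nroots := by
    rw [wActC_eq]
    exact wAct_lt D hD w hw r hr'
  rw [hpar r hr', hpos r hr', hpos _ h1]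
  cases decide (D.cartan j r % 2 = 0) <;> cases decide (D.IsPosRoot r) <;>
    cases decide (D.IsPosRoot (wActC D w r)) <;> rfl

/-! ### the tables of `F₄` -/

def parF4_1 : List Bool := [true, true, true, true, true, true, true, false, false, false, false, false, false, false, false, true, true, true, true, true, true, true, true, true, true, true, true, true, true, true, true, true, true, false, false, false, false, false, false, false, false, true, true, true, true, true, true, true]

def parF4_3 : List Bool := [false, false, true, true, true, false, false, true, true, false, false, false, false, true, true, true, false, false, false, false, true, false, false, true, true, false, false, true, false, false, false, false, true, true, true, false, false, false, false, true, true, false, false, true, true, true, false, false]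

def posF4 : List Bool := [false, false, false, false, false, false, false, false, false, false, false, false, false, false, false, false, false, false, false, false, false, false, false, false, true, true, true, true, true, true, true, true, true, true, true, true, true, true, true, true, true, true, true, true, true, true, true, true]

theorem parF4_1_ok : IsParTbl chevF4 1 parF4_1 := by
  unfold IsParTbl
  decide +kernel

theorem parF4_3_ok : IsParTbl chevF4 3 parF4_3 := by
  unfold IsParTbl
  decide +kernel

theorem posF4_ok : IsPosTbl chevF4 posF4 := by
  unfold IsPosTbl
  decide +kernel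

end Cfsg.Agent.Lib.Helper6.F4Inv
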