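import Mathlib
import Cfsg.Prelude.Def_Blocks
import Cfsg.Agent.Lib.Helper6.ClassMult
import Cfsg.Agent.Lib.Helper6.Multiplicity
import Cfsg.Agent.Lib.Helper6.DegreeDvd
import Cfsg.Agent.Lib.Helper6.BlkDefect
import Cfsg.Agent.Lib.Helper6.BlkPrincipal

set_option autoImplicit false
set_option linter.unusedSectionVars false
open Cfsg

namespace Cfsg.Agent.Lib.Helper6

open scoped ComplexConjugate

section classprod

variable {G : Type*} [Group G] [Fintype G] [DecidableEq G]

/-- if no product of a conjugate of `a` with a conjugate of `a⁻¹` is a nonidentity element of the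
subgroup `P`, the order of `C_G(a)` is an average over `P` -/
theorem card_centralizer_eq_sum_of_no_products (a : G) (P : Subgroup G) [Fintype P]
    [Fintype (Cfsg.IrrCharacter G)]
    (hno : ∀ w ∈ P, w ≠ 1 → ∀ g h : G, g * a * g⁻¹ * (h * a⁻¹ * h⁻¹) ≠ w) :
    (Nat.card (Subgroup.centralizer ({a} : Set G)) : ℂ)
      = ∑ χ : Cfsg.IrrCharacter G, (χ : G → ℂ) a * conj ((χ : G → ℂ) a) / (χ : G → ℂ) 1
          * ∑ w : P, conj ((χ : G → ℂ) (w : G)) := by
  classical
  have hG := card_ne_zero_complex G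
  have hinv : ∀ χ : Cfsg.IrrCharacter G, (χ : G → ℂ) a⁻¹ = conj ((χ : G → ℂ) a) :=
    fun χ => IsCharacter.apply_inv (IsIrrCharacter.isCharacter χ.2) a
  have hw : ∀ w : P, (Nat.card G : ℂ) * ∑ χ : Cfsg.IrrCharacter G,
      (χ : G → ℂ) a * (χ : G → ℂ) a⁻¹ * conj ((χ : G → ℂ) (w : G)) / (χ : G → ℂ) 1
      = if w = 1 then (Nat.card G : ℂ) * (Nat.card (Subgroup.centralizer ({a} : Set G)) : ℂ)
        else 0 := by
    intro w
    split_ifs with h1
    · rw [h1, ← (sum_irr_mul_conj a a).1 (IsConj.refl a)]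
      congr 1
      apply Finset.sum_congr rfl
      intro χ _
      have hne := IsIrrCharacter.apply_one_ne_zero χ.2
      rw [Subgroup.coe_one, IsIrrCharacter.conj_apply_one χ.2, hinv]
      field_simp
    · rw [← card_conj_mul_conj_eq a a⁻¹ (w : G)]
      have : (Finset.univ.filter
          (fun p : G × G => p.1 * a * p.1⁻¹ * (p.2 * a⁻¹ * p.2⁻¹) = (w : G))) = ∅ := by
        rw [Finset.filter_eq_empty_iff]
        intro pr _
        refine hno (w : G) w.2 ?_ pr.1 pr.2
        intro h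
        apply h1
        exact Subtype.ext h
      rw [this, Finset.card_empty, Nat.cast_zero]
  have hsum : ∑ w : P, (Nat.card G : ℂ) * ∑ χ : Cfsg.IrrCharacter G,
      (χ : G → ℂ) a * (χ : G → ℂ) a⁻¹ * conj ((χ : G → ℂ) (w : G)) / (χ : G → ℂ) 1
      = (Nat.card G : ℂ) * (Nat.card (Subgroup.centralizer ({a} : Set G)) : ℂ) := by
    simp_rw [hw]
    rw [Finset.sum_ite_eq' Finset.univ (1 : P), if_pos (Finset.mem_univ _)]
  rw [← Finset.mul_sum] at hsum
  have h2 := mul_left_cancel₀ hG hsum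
  rw [← h2, Finset.sum_comm]
  apply Finset.sum_congr rfl
  intro χ _
  rw [Finset.mul_sum]
  apply Finset.sum_congr rfl
  intro w _
  rw [hinv]
  ring

/-- the sum of the values of a character over a subgroup is the order of the subgroup times the
multiplicity of the trivial character -/
theorem exists_sum_conj_eq_card_mul (P : Subgroup G) [Fintype P] (χ : Cfsg.IrrCharacter G) :
    ∃ m : ℕ, ∑ w : P, conj ((χ : G → ℂ) (w : G)) = (Nat.card P : ℂ) * (m : ℂ) := by
  classical
  haveI : Fintype (Cfsg.IrrCharacter P) := Fintype.ofFinite _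
  have hres : Cfsg.IsCharacter P (fun h : P => (χ : G → ℂ) h) :=
    IsCharacter.restrict _ (IsIrrCharacter.isCharacter χ.2)
  obtain ⟨m, _, hm⟩ := IsCharacter.exists_mult hres
  refine ⟨m (oneIrr P), ?_⟩
  have h1 := hm (oneIrr P)
  unfold Cfsg.classInner at h1
  have h2 : ∀ g : P, (χ : G → ℂ) (g : G)
      * (starRingEnd ℂ) (((oneIrr P : Cfsg.IrrCharacter _) : _ → ℂ) g) = (χ : G → ℂ) (g : G) := by
    intro g
    have : ((oneIrr P : Cfsg.IrrCharacter _) : _ → ℂ) g = 1 := rfl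
    rw [this, map_one, mul_one]
  simp_rw [h2] at h1
  have hP := card_ne_zero_complex P
  have h3 : ∑ g : P, (χ : G → ℂ) (g : G) = (Nat.card P : ℂ) * (m (oneIrr P) : ℂ) := by
    rw [← h1]
    field_simp
  rw [← map_sum, h3, map_mul, Complex.conj_natCast, Complex.conj_natCast]

/-- the arithmetic consequence: if `P` has order `p ^ c` and the `p`-parts of all degrees are at
most `p ^ e`, then `p ^ (c - e)` divides the order of `C_G(a)` -/
theorem pow_dvd_card_centralizer_of_no_products {p : ℕ} (hp : p.Prime) (a : G) (P : Subgroup G)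
    (c e : ℕ) (hP : Nat.card P = p ^ c)
    (hdeg : ∀ χ : Cfsg.IrrCharacter G, (Cfsg.charDegree (χ : G → ℂ)).factorization p ≤ e)
    (hno : ∀ w ∈ P, w ≠ 1 → ∀ g h : G, g * a * g⁻¹ * (h * a⁻¹ * h⁻¹) ≠ w) :
    p ^ (c - e) ∣ Nat.card (Subgroup.centralizer ({a} : Set G)) := by
  classical
  haveI : Fintype P := Fintype.ofFinite _
  haveI : Fintype (Cfsg.IrrCharacter G) := Fintype.ofFinite _
  have hmain := card_centralizer_eq_sum_of_no_products a P hno
  choose m hm using exists_sum_conj_eq_card_mul P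
  simp_rw [hm] at hmain
  -- the quotients |G| / χ(1)
  have hdvd : ∀ χ : Cfsg.IrrCharacter G, Cfsg.charDegree (χ : G → ℂ) ∣ Nat.card G :=
    fun χ => IsIrrCharacter.charDegree_dvd_card χ.2
  have hdpos : ∀ χ : Cfsg.IrrCharacter G, 0 < Cfsg.charDegree (χ : G → ℂ) :=
    fun χ => IsIrrCharacter.charDegree_pos χ.2
  obtain ⟨A, hA⟩ : ∃ A : ℕ, A = (Nat.card G).factorization p := ⟨_, rfl⟩
  have hGpos : 0 < Nat.card G := Nat.card_pos
  -- p ^ (c + A - e) divides |P| * (|G| / χ(1))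
  have hpow : ∀ χ : Cfsg.IrrCharacter G,
      p ^ (c + A - e) ∣ Nat.card P * (Nat.card G / Cfsg.charDegree (χ : G → ℂ)) := by
    intro χ
    rw [hP]
    have h1 : p ^ (A - (Cfsg.charDegree (χ : G → ℂ)).factorization p)
        ∣ Nat.card G / Cfsg.charDegree (χ : G → ℂ) := by
      have hq : Nat.card G / Cfsg.charDegree (χ : G → ℂ) ≠ 0 :=
        (Nat.div_pos (Nat.le_of_dvd hGpos (hdvd χ)) (hdpos χ)).ne'
      rw [hp.pow_dvd_iff_le_factorization hq, Nat.factorization_div (hdvd χ), hA]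
      simp
    have h2 : p ^ (c + A - e) ∣ p ^ c * p ^ (A - (Cfsg.charDegree (χ : G → ℂ)).factorization p) := by
      rw [← pow_add]
      apply pow_dvd_pow
      have := hdeg χ
      have h3 : (Cfsg.charDegree (χ : G → ℂ)).factorization p ≤ A := by
        rw [hA]
        exact (Nat.factorization_le_iff_dvd (hdpos χ).ne' hGpos.ne').mpr (hdvd χ) p
      omega
    exact dvd_trans h2 (Nat.mul_dvd_mul_left _ h1)
  choose n hn using hpow
  -- the algebraic integer
  have hint : IsIntegral ℤ (∑ χ : Cfsg.IrrCharacter G,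
      ((n χ * m χ : ℕ) : ℂ) * ((χ : G → ℂ) a * conj ((χ : G → ℂ) a))) := by
    apply IsIntegral.sum
    intro χ _
    apply IsIntegral.mul
    · have : IsIntegral ℤ ((((n χ * m χ : ℕ) : ℤ)) : ℂ) :=
        isIntegral_algebraMap (R := ℤ) (A := ℂ) (x := ((n χ * m χ : ℕ) : ℤ))
      simpa using this
    · have h1 := IsCharacter.isIntegral_apply (IsIrrCharacter.isCharacter χ.2) a
      have h2 := IsCharacter.isIntegral_apply (IsIrrCharacter.isCharacter χ.2) a⁻¹
      rw [IsCharacter.apply_inv (IsIrrCharacter.isCharacter χ.2)] at h2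
      exact IsIntegral.mul h1 h2
  have hkey : ((Nat.card (Subgroup.centralizer ({a} : Set G)) * Nat.card G : ℕ) : ℂ)
      / ((p ^ (c + A - e) : ℕ) : ℂ)
      = ∑ χ : Cfsg.IrrCharacter G,
        ((n χ * m χ : ℕ) : ℂ) * ((χ : G → ℂ) a * conj ((χ : G → ℂ) a)) := by
    have hpne : ((p ^ (c + A - e) : ℕ) : ℂ) ≠ 0 := by
      exact_mod_cast (pow_pos hp.pos _).ne'
    rw [div_eq_iff hpne, Nat.cast_mul, hmain, Finset.sum_mul, Finset.sum_mul]
    apply Finset.sum_congr rfl
    intro χ _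
    have hne := IsIrrCharacter.apply_one_ne_zero χ.2
    have h1 : ((Nat.card G : ℕ) : ℂ) = ((Nat.card G / Cfsg.charDegree (χ : G → ℂ) : ℕ) : ℂ)
        * (χ : G → ℂ) 1 := by
      rw [IsCharacter.apply_one_eq_charDegree (IsIrrCharacter.isCharacter χ.2), ← Nat.cast_mul,
        Nat.div_mul_cancel (hdvd χ)]
    have h2 : ((Nat.card P : ℕ) : ℂ) * ((Nat.card G / Cfsg.charDegree (χ : G → ℂ) : ℕ) : ℂ)
        = ((p ^ (c + A - e) : ℕ) : ℂ) * (n χ : ℂ) := by
      rw [← Nat.cast_mul, hn χ, Nat.cast_mul]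
    rw [h1]
    have h3 : (χ : G → ℂ) a * conj ((χ : G → ℂ) a) / (χ : G → ℂ) 1
          * ((Nat.card P : ℂ) * (m χ : ℂ))
          * (((Nat.card G / Cfsg.charDegree (χ : G → ℂ) : ℕ) : ℂ) * (χ : G → ℂ) 1)
        = ((Nat.card P : ℕ) : ℂ) * ((Nat.card G / Cfsg.charDegree (χ : G → ℂ) : ℕ) : ℂ)
          * ((m χ : ℂ) * ((χ : G → ℂ) a * conj ((χ : G → ℂ) a))) := by
      field_simp
    rw [h3, h2]
    push_cast
    ring
  rw [← hkey] at hint
  have h4 := nat_dvd_of_isIntegral_div (pow_pos hp.pos _).ne' hint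
  -- compare valuations
  have hCpos : 0 < Nat.card (Subgroup.centralizer ({a} : Set G)) := Nat.card_pos
  rw [hp.pow_dvd_iff_le_factorization (Nat.mul_pos hCpos hGpos).ne',
    Nat.factorization_mul hCpos.ne' hGpos.ne'] at h4
  rw [hp.pow_dvd_iff_le_factorization hCpos.ne']
  simp only [Finsupp.coe_add, Pi.add_apply] at h4
  rw [← hA] at h4
  omega

end classprod

end Cfsg.Agent.Lib.Helper6
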