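import Mathlib
import Cfsg.Prelude.Def_Blocks
import Cfsg.Agent.Lib.Helper6.BlkIdem
import Cfsg.Agent.Lib.Helper6.BlkLocal

set_option autoImplicit false
set_option linter.unusedSectionVars false
open Cfsg

namespace Cfsg.Agent.Lib.Helper6

section matrix

variable {G : Type*} [Group G] [Fintype G] [DecidableEq G]
variable {p : ℕ} {M : Ideal Cfsg.AlgInt}

/-- If all central characters of the class of `g` lie in the local ideal, then some power of the
class sum of `g` (as a matrix) has all its entries in the local ideal. -/
theorem exists_pow_classInd_memLocalIdeal (hM : Cfsg.IsPModular p M) (g : G)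
    (hω : ∀ χ : Cfsg.IrrCharacter G, Cfsg.MemLocalIdeal M (Cfsg.centralChar (χ : G → ℂ) g)) :
    ∃ k : ℕ, ∀ s t : G, Cfsg.MemLocalIdeal M ((regMat (classInd g) ^ k) s t) := by
  classical
  have : Fintype (Cfsg.IrrCharacter G) := Fintype.ofFinite _
  obtain ⟨X, hXdef⟩ : ∃ X : Matrix G G ℂ, X = regMat (classInd g) := ⟨_, rfl⟩
  rw [← hXdef]
  have hXs : X ∈ sMat hM G := hXdef ▸ classInd_mem_sMat hM g
  have hXc : X ∈ centerAlg G := hXdef ▸ regMat_mem_centerAlg (classInd_isClassFunction g)
  let fac : Cfsg.IrrCharacter G → Matrix G G ℂ :=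
    fun χ => X - (Cfsg.centralChar (χ : G → ℂ) g) • (1 : Matrix G G ℂ)
  have hfacs : ∀ χ, fac χ ∈ sMat hM G := by
    intro χ
    apply (sMat hM G).sub_mem hXs
    exact smul_mem_sMat hM (MemLocalIdeal.memLocalRing (hω χ)) (sMat hM G).one_mem
  have hfacc : ∀ χ, fac χ ∈ centerAlg G := by
    intro χ
    exact (centerAlg G).sub_mem hXc ((centerAlg G).smul_mem (centerAlg G).one_mem _)
  -- the key induction
  have key : ∀ l : List (Cfsg.IrrCharacter G), (l.map fac).prod ∈ sMat hM G ∧
      ∀ s t : G, Cfsg.MemLocalIdeal M (((l.map fac).prod - X ^ l.length) s t) := by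
    intro l
    induction l with
    | nil =>
      refine ⟨by simp only [List.map_nil, List.prod_nil]; exact (sMat hM G).one_mem, ?_⟩
      intro s t
      simp only [List.map_nil, List.prod_nil, List.length_nil, pow_zero, sub_self,
        Matrix.zero_apply]
      exact memLocalIdeal_zero hM
    | cons χ l ih =>
      obtain ⟨ih1, ih2⟩ := ih
      rw [List.map_cons, List.prod_cons, List.length_cons]
      refine ⟨(sMat hM G).mul_mem (hfacs χ) ih1, ?_⟩
      intro s t
      have heq : fac χ * (l.map fac).prod - X ^ (l.length + 1)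
          = X * ((l.map fac).prod - X ^ l.length)
            - (Cfsg.centralChar (χ : G → ℂ) g) • (l.map fac).prod := by
        simp only [fac]
        rw [pow_succ', sub_mul, mul_sub, smul_mul_assoc, one_mul]
        abel
      rw [heq, Matrix.sub_apply, Matrix.mul_apply, Matrix.smul_apply, smul_eq_mul]
      apply MemLocalIdeal.sub hM
      · apply MemLocalIdeal.sum hM
        intro u _
        exact MemLocalIdeal.mul_left hM (hXs s u) (ih2 u t)
      · exact MemLocalIdeal.mul_right hM (hω χ) (ih1 s t)
  -- the full product vanishes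
  have hzero : ((Finset.univ : Finset (Cfsg.IrrCharacter G)).toList.map fac).prod = 0 := by
    have hmem : ∀ Y ∈ (Finset.univ : Finset (Cfsg.IrrCharacter G)).toList.map fac,
        Y ∈ centerAlg G := by
      intro Y hY
      obtain ⟨χ, -, rfl⟩ := List.mem_map.mp hY
      exact hfacc χ
    apply eq_zero_of_cOmega_eq_zero ((centerAlg G).list_prod_mem hmem)
    intro ψ
    rw [cOmega_list_prod ψ.2 _ hmem, List.map_map]
    apply List.prod_eq_zero
    rw [List.mem_map]
    refine ⟨ψ, by simp, ?_⟩
    simp only [Function.comp, fac]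
    rw [cOmega_sub, cOmega_smul, cOmega_one (IsIrrCharacter.apply_one_ne_zero ψ.2), mul_one,
      hXdef, cOmega_classInd _ (IsIrrCharacter.isClassFunction ψ.2), sub_self]
  refine ⟨(Finset.univ : Finset (Cfsg.IrrCharacter G)).toList.length, ?_⟩
  intro s t
  have h := (key (Finset.univ : Finset (Cfsg.IrrCharacter G)).toList).2 s t
  rw [hzero, zero_sub, Matrix.neg_apply] at h
  have := MemLocalIdeal.neg h
  rwa [neg_neg] at this

end matrix

section bridge

variable {G : Type*} [Group G] [Fintype G] [DecidableEq G]

/-- the left regular representation by permutation matrices -/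
noncomputable def leftRegHom (G : Type*) [Group G] [Fintype G] [DecidableEq G] :
    G →* Matrix G G ℂ where
  toFun x := Matrix.of fun s t => if s = x * t then 1 else 0
  map_one' := by
    ext s t
    simp [Matrix.one_apply]
  map_mul' := by
    intro x y
    ext s t
    rw [Matrix.mul_apply]
    simp only [Matrix.of_apply]
    rw [Finset.sum_eq_single (y * t)]
    · simp [mul_assoc]
    · intro u _ hu
      rw [if_neg hu, mul_zero]
    · intro h
      exact absurd (Finset.mem_univ _) h

theorem leftRegHom_apply (x s t : G) :
    leftRegHom G x s t = if s = x * t then 1 else 0 := rfl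

/-- the regular representation of the complex group algebra -/
noncomputable def regAlgHom (G : Type*) [Group G] [Fintype G] [DecidableEq G] :
    MonoidAlgebra ℂ G →ₐ[ℂ] Matrix G G ℂ :=
  MonoidAlgebra.lift ℂ (Matrix G G ℂ) G (leftRegHom G)

theorem regAlgHom_single (x : G) (c : ℂ) :
    regAlgHom G (MonoidAlgebra.single x c) = c • leftRegHom G x := by
  unfold regAlgHom
  rw [MonoidAlgebra.lift_single]

theorem regAlgHom_apply_one (f : MonoidAlgebra ℂ G) (s : G) :
    regAlgHom G f s 1 = f.coeff s := by
  induction f using MonoidAlgebra.induction_linear with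
  | zero => simp
  | add f g hf hg =>
    rw [map_add, Matrix.add_apply, hf, hg, MonoidAlgebra.coeff_add, Finsupp.add_apply]
  | single x c =>
    rw [regAlgHom_single, Matrix.smul_apply, leftRegHom_apply, mul_one, MonoidAlgebra.coeff_single,
      Finsupp.single_apply]
    by_cases h : s = x
    · rw [if_pos h, if_pos h.symm, smul_eq_mul, mul_one]
    · rw [if_neg h, if_neg (Ne.symm h), smul_zero]

/-- the class sum over any coefficient ring -/
noncomputable def classSumAlg (R : Type*) [Semiring R] (g : G) : MonoidAlgebra R G :=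
  ∑ x ∈ Finset.univ.filter (fun x : G => IsConj g x), MonoidAlgebra.single x (1 : R)

theorem classSumAlg_map {R S : Type*} [Semiring R] [Semiring S] (f : R →+* S) (g : G) :
    MonoidAlgebra.mapRingHom G f (classSumAlg R g) = classSumAlg S g := by
  unfold classSumAlg
  rw [map_sum]
  apply Finset.sum_congr rfl
  intro x _
  rw [MonoidAlgebra.mapRingHom_single, map_one]

theorem regAlgHom_classSumAlg (g : G) : regAlgHom G (classSumAlg ℂ g) = regMat (classInd g) := by
  unfold classSumAlg
  rw [map_sum]
  ext s t
  rw [Matrix.sum_apply, regMat_apply]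
  unfold classInd
  simp only [regAlgHom_single, one_smul, leftRegHom_apply]
  rw [Finset.sum_ite, Finset.sum_const_zero, add_zero, Finset.sum_const, nsmul_eq_mul, mul_one]
  split_ifs with h
  · have : (Finset.univ.filter (fun x : G => IsConj g x)).filter (fun x => s = x * t)
        = {s * t⁻¹} := by
      ext x
      simp only [Finset.mem_filter, Finset.mem_univ, true_and, Finset.mem_singleton]
      constructor
      · rintro ⟨_, h2⟩
        rw [h2]; group
      · rintro rfl
        exact ⟨h, by group⟩
    rw [this, Finset.card_singleton, Nat.cast_one]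
  · have : (Finset.univ.filter (fun x : G => IsConj g x)).filter (fun x => s = x * t) = ∅ := by
      rw [Finset.filter_eq_empty_iff]
      intro x hx hs
      simp only [Finset.mem_filter, Finset.mem_univ, true_and] at hx
      apply h
      have : s * t⁻¹ = x := by rw [hs]; group
      rw [this]
      exact hx
    rw [this, Finset.card_empty, Nat.cast_zero]

variable {p : ℕ} {M : Ideal Cfsg.AlgInt}

/-- If all central characters of the class of `g` lie in the local ideal at `p`, the class sum of
`g` is nilpotent over every ring of characteristic `p`. -/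
theorem isNilpotent_classSumAlg (hM : Cfsg.IsPModular p M) (g : G)
    (hω : ∀ χ : Cfsg.IrrCharacter G, Cfsg.MemLocalIdeal M (Cfsg.centralChar (χ : G → ℂ) g))
    (F : Type*) [Ring F] [CharP F p] : IsNilpotent (classSumAlg F g) := by
  obtain ⟨k, hk⟩ := exists_pow_classInd_memLocalIdeal hM g hω
  refine ⟨k, ?_⟩
  rw [← classSumAlg_map (Int.castRingHom F) g, ← map_pow]
  have hcoeff : ∀ y : G, (p : ℤ) ∣ ((classSumAlg ℤ g) ^ k).coeff y := by
    intro y
    rw [← memLocalIdeal_intCast_iff hM]
    have h1 : regAlgHom G (MonoidAlgebra.mapRingHom G (Int.castRingHom ℂ) ((classSumAlg ℤ g) ^ k))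
        = regMat (classInd g) ^ k := by
      rw [map_pow, map_pow, classSumAlg_map, regAlgHom_classSumAlg]
    have h2 := hk y 1
    rw [← h1, regAlgHom_apply_one, MonoidAlgebra.coeff_mapRingHom] at h2
    exact h2
  apply MonoidAlgebra.coeff_injective
  ext y
  rw [MonoidAlgebra.coeff_mapRingHom]
  simp only [MonoidAlgebra.coeff_zero, Finsupp.zero_apply, eq_intCast]
  exact (CharP.intCast_eq_zero_iff F p _).mpr (hcoeff y)

end bridge

end Cfsg.Agent.Lib.Helper6
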