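import Cfsg.Agent.Lib.Helper9.LeechX12

/-! CO1F farm (S5388), unit UP: a sign change on an octad is not conjugate in `Co0` to its
negative (Parseval / double counting on the vectors `8 e_i`). -/

set_option autoImplicit false

namespace Cfsg.Agent.Lib.Helper6.Co1UP

open Cfsg Finset Cfsg.Agent.Lib.Helper4.Leech Cfsg.Agent.Lib.Helper9.LeechM1
  Cfsg.Agent.Lib.Helper9.LeechM2

theorem dotInt_comm' (x y : GolayPt → ℤ) : dotInt x y = dotInt y x := by
  unfold dotInt
  exact Finset.sum_congr rfl (fun i _ => mul_comm _ _)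

/-- the key symmetry: the `j`-coordinate of `f (E i)` is the `i`-coordinate of `f⁻¹ (E j)`. -/
theorem coord_symm (f : Equiv.Perm ↥leechLattice) (hf : f ∈ Co0) (i j : GolayPt) :
    (f (E i)).1 j = (f.symm (E j)).1 i := by
  have h1 : dotInt (f (E i)).1 (f (f.symm (E j))).1 = dotInt (E i).1 (f.symm (E j)).1 :=
    Cfsg.Agent.Lib.Helper9.LeechX11.dot_pres f hf (E i) (f.symm (E j))
  rw [Equiv.apply_symm_apply, E_val, E_val, Cfsg.Agent.Lib.Helper9.LeechX12.dot_single,
    dotInt_comm', Cfsg.Agent.Lib.Helper9.LeechX12.dot_single] at h1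
  linarith

theorem sqNorm_symm (f : Equiv.Perm ↥leechLattice) (hf : f ∈ Co0) (v : ↥leechLattice) :
    sqNorm (f.symm v).1 = sqNorm v.1 := by
  have := hf.2 (f.symm v)
  rw [Equiv.apply_symm_apply] at this
  exact this.symm

/-- column sums: for every `j`, the sum over all `i` of the squares of the `j`-coordinates of
`f (E i)` is 64. -/
theorem col_sum (f : Equiv.Perm ↥leechLattice) (hf : f ∈ Co0) (j : GolayPt) :
    ∑ i : GolayPt, ((f (E i)).1 j) ^ 2 = 64 := by
  have h1 : ∑ i : GolayPt, ((f (E i)).1 j) ^ 2 = sqNorm (f.symm (E j)).1 := by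
    unfold sqNorm
    exact Finset.sum_congr rfl (fun i _ => by rw [coord_symm f hf i j])
  rw [h1, sqNorm_symm f hf, sqNorm_E]

/-- UP: a sign change on an 8-element codeword is not conjugate in Co0 to its negative -/
theorem no_neg_conj (c : Finset GolayPt) (hc : c ∈ Code) (h8 : c.card = 8) (g : ↥Co0) :
    g * ⟨eps c hc, eps_mem c hc⟩ * g⁻¹ ≠ negOne * ⟨eps c hc, eps_mem c hc⟩ := by
  intro hconj
  set f : Equiv.Perm ↥leechLattice := g.1 with hfdef
  have hf : f ∈ Co0 := g.2
  -- the relation f (e w) = - e (f w)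
  have hrel : ∀ w : ↥leechLattice, f (eps c hc w) = -(eps c hc (f w)) := by
    intro w
    have h1 := congrArg (fun x : ↥Co0 => (x.1 : Equiv.Perm ↥leechLattice) (f w)) hconj
    simp only [Subgroup.coe_mul, Subgroup.coe_inv, Equiv.Perm.coe_mul, Function.comp_apply,
      negOne, neg1_apply] at h1
    rw [← hfdef] at h1
    have h2 : f⁻¹ (f w) = w := by
      show f.symm (f w) = w
      exact Equiv.symm_apply_apply f w
    rw [h2] at h1
    exact h1
  -- (1) for i ∉ c, f (E i) vanishes off c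
  have hvan : ∀ i ∉ c, ∀ j ∉ c, (f (E i)).1 j = 0 := by
    intro i hi j hj
    have h1 := hrel (E i)
    rw [eps_E c hc i hi] at h1
    have h2 : (f (E i)).1 j = (-(eps c hc (f (E i)))).1 j := by rw [← h1]
    have h3 : (-(eps c hc (f (E i)))).1 j = -((eps c hc (f (E i))).1 j) := rfl
    rw [h3, eps_val, if_neg hj] at h2
    linarith
  have hrow : ∀ i ∉ c, ∑ j ∈ c, ((f (E i)).1 j) ^ 2 = 64 := by
    intro i hi
    have h1 : sqNorm (f (E i)).1 = 64 := by rw [hf.2, sqNorm_E]
    unfold sqNorm at h1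
    rw [← h1]
    symm
    apply (Finset.sum_subset (Finset.subset_univ c) ?_).symm
    intro j _ hj
    rw [hvan i hi j hj]
    norm_num
  -- total over i ∉ c
  have hcard : (Finset.univ \ c).card = 16 := by
    rw [Finset.card_sdiff_of_subset (Finset.subset_univ c), Finset.card_univ, h8]
    rfl
  have htot : ∑ i ∈ Finset.univ \ c, ∑ j ∈ c, ((f (E i)).1 j) ^ 2 = 1024 := by
    rw [Finset.sum_congr rfl (fun i hi => hrow i (by simpa using hi))]
    rw [Finset.sum_const, hcard]
    norm_num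
  -- (2) bound by column sums
  have hle : ∑ i ∈ Finset.univ \ c, ∑ j ∈ c, ((f (E i)).1 j) ^ 2 ≤ 512 := by
    rw [Finset.sum_comm]
    calc ∑ j ∈ c, ∑ i ∈ Finset.univ \ c, ((f (E i)).1 j) ^ 2
        ≤ ∑ j ∈ c, ∑ i : GolayPt, ((f (E i)).1 j) ^ 2 := by
          apply Finset.sum_le_sum
          intro j _
          apply Finset.sum_le_sum_of_subset_of_nonneg (Finset.sdiff_subset)
          intro i _ _
          positivity
      _ = ∑ j ∈ c, (64 : ℤ) := Finset.sum_congr rfl (fun j _ => col_sum f hf j)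
      _ = 512 := by rw [Finset.sum_const, h8]; norm_num
  linarith

end Cfsg.Agent.Lib.Helper6.Co1UP
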