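import Mathlib
import Cfsg.Prelude.Def_Blocks
import Cfsg.Agent.Lib.Helper6.BlkNil
import Cfsg.Agent.Lib.Helper6.BlkInd
import Cfsg.Agent.Lib.Helper6.BlkUnion
import Cfsg.Agent.Lib.Helper6.BlkQuot

set_option autoImplicit false
set_option linter.unusedSectionVars false
open Cfsg

namespace Cfsg.Agent.Lib.Helper6

open scoped ComplexConjugate

section

variable {G : Type*} [Group G] [Fintype G] [DecidableEq G]
variable {p : ℕ} {M : Ideal Cfsg.AlgInt}
variable (N : Subgroup G) [hN : N.Normal] [DecidableEq (G ⧸ N)]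

/-- invariance under left translation by the subgroup `N` -/
def NLInv (X : Matrix G G ℂ) : Prop := ∀ n : G, n ∈ N → ∀ s t : G, X (n * s) (n * t) = X s t

theorem LInv.nLInv {X : Matrix G G ℂ} (hX : LInv X) : NLInv N X := fun n _ s t => hX n s t

theorem NLInv.mul {X Y : Matrix G G ℂ} (hX : NLInv N X) (hY : NLInv N Y) : NLInv N (X * Y) := by
  intro r hr s t
  rw [Matrix.mul_apply, Matrix.mul_apply]
  rw [← Equiv.sum_comp (Equiv.mulLeft r) (fun k => X (r * s) k * Y k (r * t))]
  apply Finset.sum_congr rfl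
  intro k _
  simp only [Equiv.coe_mulLeft]
  rw [hX r hr s k, hY r hr k t]

theorem NLInv.add {X Y : Matrix G G ℂ} (hX : NLInv N X) (hY : NLInv N Y) : NLInv N (X + Y) := by
  intro r hr s t
  simp [Matrix.add_apply, hX r hr s t, hY r hr s t]

theorem NLInv.sub {X Y : Matrix G G ℂ} (hX : NLInv N X) (hY : NLInv N Y) : NLInv N (X - Y) := by
  intro r hr s t
  simp [Matrix.sub_apply, hX r hr s t, hY r hr s t]

theorem nLInv_zero : NLInv N (0 : Matrix G G ℂ) := fun _ _ _ _ => rfl

theorem nLInv_one : NLInv N (1 : Matrix G G ℂ) := by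
  intro r _ s t
  simp [Matrix.one_apply]

theorem RInv.sub {X Y : Matrix G G ℂ} (hX : RInv X) (hY : RInv Y) : RInv (X - Y) := by
  intro r s t
  simp [Matrix.sub_apply, hX r s t, hY r s t]

theorem RInv.pow {X : Matrix G G ℂ} (hX : RInv X) (n : ℕ) : RInv (X ^ n) := by
  induction n with
  | zero => rw [pow_zero]; exact rInv_one
  | succ n ih => rw [pow_succ]; exact ih.mul hX

theorem NLInv.pow {X : Matrix G G ℂ} (hX : NLInv N X) (n : ℕ) : NLInv N (X ^ n) := by
  induction n with
  | zero => rw [pow_zero]; exact nLInv_one N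
  | succ n ih => rw [pow_succ]; exact ih.mul N hX

/-- the degree in `G ⧸ N` of a matrix position -/
theorem deg_mul (s k t : G) :
    ((s * t⁻¹ : G) : G ⧸ N) = ((s * k⁻¹ : G) : G ⧸ N) * ((k * t⁻¹ : G) : G ⧸ N) := by
  rw [← QuotientGroup.mk_mul]
  congr 1
  group

/-- homogeneous component of degree `q` -/
def comp (q : G ⧸ N) (X : Matrix G G ℂ) : Matrix G G ℂ :=
  fun s t => if ((s * t⁻¹ : G) : G ⧸ N) = q then X s t else 0

/-- homogeneous of degree `q` -/
def IsHom (q : G ⧸ N) (X : Matrix G G ℂ) : Prop :=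
  ∀ s t : G, ((s * t⁻¹ : G) : G ⧸ N) ≠ q → X s t = 0

theorem comp_apply (q : G ⧸ N) (X : Matrix G G ℂ) (s t : G) :
    comp N q X s t = if ((s * t⁻¹ : G) : G ⧸ N) = q then X s t else 0 := rfl

theorem isHom_comp (q : G ⧸ N) (X : Matrix G G ℂ) : IsHom N q (comp N q X) := by
  intro s t h
  rw [comp_apply, if_neg h]

theorem IsHom.comp_eq {q : G ⧸ N} {X : Matrix G G ℂ} (hX : IsHom N q X) : comp N q X = X := by
  funext s t
  rw [comp_apply]
  split_ifs with h
  · rfl
  · exact (hX s t h).symm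

theorem RInv.comp {X : Matrix G G ℂ} (hX : RInv X) (q : G ⧸ N) : RInv (comp N q X) := by
  intro r s t
  rw [comp_apply, comp_apply, hX r s t]
  have : s * r * (t * r)⁻¹ = s * t⁻¹ := by group
  rw [this]

theorem NLInv.comp {X : Matrix G G ℂ} (hX : NLInv N X) (q : G ⧸ N) : NLInv N (comp N q X) := by
  intro r hr s t
  rw [comp_apply, comp_apply, hX r hr s t]
  have : ((r * s * (r * t)⁻¹ : G) : G ⧸ N) = ((s * t⁻¹ : G) : G ⧸ N) := by
    have e : r * s * (r * t)⁻¹ = r * (s * t⁻¹) * r⁻¹ := by group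
    rw [e, QuotientGroup.mk_mul, QuotientGroup.mk_mul, QuotientGroup.mk_inv,
      (QuotientGroup.eq_one_iff r).mpr hr]
    simp
  rw [this]

theorem comp_mem_sMat (hM : Cfsg.IsPModular p M) {X : Matrix G G ℂ} (hX : X ∈ sMat hM G)
    (q : G ⧸ N) : comp N q X ∈ sMat hM G := by
  intro s t
  rw [comp_apply]
  split_ifs
  · exact hX s t
  · exact memLocalRing_zero hM

theorem sum_comp [Fintype (G ⧸ N)] (X : Matrix G G ℂ) : ∑ q : G ⧸ N, comp N q X = X := by
  funext s t
  rw [Matrix.sum_apply]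
  simp only [comp_apply]
  rw [Finset.sum_ite_eq]
  simp

theorem IsHom.mul {q r : G ⧸ N} {X Y : Matrix G G ℂ} (hX : IsHom N q X) (hY : IsHom N r Y) :
    IsHom N (q * r) (X * Y) := by
  intro s t h
  rw [Matrix.mul_apply]
  apply Finset.sum_eq_zero
  intro k _
  by_cases h1 : ((s * k⁻¹ : G) : G ⧸ N) = q
  · have h2 : ((k * t⁻¹ : G) : G ⧸ N) ≠ r := by
      intro h2
      apply h
      rw [deg_mul N s k t, h1, h2]
    rw [hY k t h2, mul_zero]
  · rw [hX s k h1, zero_mul]

theorem isHom_one : IsHom N (1 : G ⧸ N) (1 : Matrix G G ℂ) := by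
  intro s t h
  rw [Matrix.one_apply]
  split_ifs with h1
  · exfalso
    apply h
    rw [h1, mul_inv_cancel]
    rfl
  · rfl

theorem isHom_zero (q : G ⧸ N) : IsHom N q (0 : Matrix G G ℂ) := fun _ _ _ => rfl

theorem IsHom.pow {X : Matrix G G ℂ} (hX : IsHom N (1 : G ⧸ N) X) (n : ℕ) :
    IsHom N (1 : G ⧸ N) (X ^ n) := by
  induction n with
  | zero => rw [pow_zero]; exact isHom_one N
  | succ n ih =>
    rw [pow_succ]
    have := ih.mul N hX
    rwa [one_mul] at this

/-- multiplication by a degree one element commutes with taking components -/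
theorem comp_mul_of_isHom_one {X : Matrix G G ℂ} (hX : IsHom N (1 : G ⧸ N) X) (q : G ⧸ N)
    (Y : Matrix G G ℂ) : comp N q (X * Y) = X * comp N q Y := by
  funext s t
  rw [comp_apply, Matrix.mul_apply, Matrix.mul_apply]
  split_ifs with h
  · apply Finset.sum_congr rfl
    intro k _
    by_cases h1 : ((s * k⁻¹ : G) : G ⧸ N) = 1
    · rw [comp_apply]
      have : ((k * t⁻¹ : G) : G ⧸ N) = q := by
        rw [← h, deg_mul N s k t, h1, one_mul]
      rw [if_pos this]
    · rw [hX s k h1, zero_mul, zero_mul]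
  · symm
    apply Finset.sum_eq_zero
    intro k _
    by_cases h1 : ((s * k⁻¹ : G) : G ⧸ N) = 1
    · rw [comp_apply]
      have : ((k * t⁻¹ : G) : G ⧸ N) ≠ q := by
        intro h2
        apply h
        rw [deg_mul N s k t, h1, one_mul, h2]
      rw [if_neg this, mul_zero]
    · rw [hX s k h1, zero_mul]

/-- elements of the group algebra of `N` commute with the centralizer of `N` -/
theorem commute_of_isHom_one {X Y : Matrix G G ℂ} (hXr : RInv X)
    (hX : IsHom N (1 : G ⧸ N) X) (hY : NLInv N Y) : X * Y = Y * X := by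
  funext s t
  rw [Matrix.mul_apply, Matrix.mul_apply]
  -- left side: k = m⁻¹ * s
  have e1 : ∑ k : G, X s k * Y k t = ∑ m : G, X m 1 * Y (m⁻¹ * s) t := by
    rw [← Equiv.sum_comp ((Equiv.inv G).trans (Equiv.mulRight s))
      (fun k => X s k * Y k t)]
    apply Finset.sum_congr rfl
    intro m _
    simp only [Equiv.trans_apply, Equiv.inv_apply, Equiv.coe_mulRight]
    rw [hXr.apply_eq s (m⁻¹ * s)]
    congr 2
    group
  have e2 : ∑ k : G, Y s k * X k t = ∑ m : G, X m 1 * Y s (m * t) := by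
    rw [← Equiv.sum_comp (Equiv.mulRight t) (fun k => Y s k * X k t)]
    apply Finset.sum_congr rfl
    intro m _
    simp only [Equiv.coe_mulRight]
    rw [hXr.apply_eq (m * t) t, mul_comm]
    congr 2
    group
  rw [e1, e2]
  apply Finset.sum_congr rfl
  intro m _
  by_cases hm : m ∈ N
  · have := hY m hm (m⁻¹ * s) t
    rw [mul_inv_cancel_left] at this
    rw [this]
  · have h1 : ((m * (1 : G)⁻¹ : G) : G ⧸ N) ≠ 1 := by
      rw [inv_one, mul_one]
      intro h
      exact hm ((QuotientGroup.eq_one_iff m).mp h)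
    rw [hX m 1 h1, zero_mul, zero_mul]

end

end Cfsg.Agent.Lib.Helper6
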