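import Mathlib
import Cfsg.Prelude.Def_Blocks
import Cfsg.Agent.Lib.Helper6.CovGraded

set_option autoImplicit false
set_option linter.unusedSectionVars false
open Cfsg

namespace Cfsg.Agent.Lib.Helper6

open scoped ComplexConjugate

section

variable {G : Type*} [Group G] [Fintype G] [DecidableEq G]
variable {p : ℕ} {M : Ideal Cfsg.AlgInt}
variable (N : Subgroup G) [hN : N.Normal] [DecidableEq (G ⧸ N)]

/-- the centralizer algebra of `N` over the local ring -/
structure CR (hM : Cfsg.IsPModular p M) (X : Matrix G G ℂ) : Prop where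
  rinv : RInv X
  ninv : NLInv N X
  smat : X ∈ sMat hM G

theorem CR.mul {hM : Cfsg.IsPModular p M} {X Y : Matrix G G ℂ} (hX : CR N hM X)
    (hY : CR N hM Y) : CR N hM (X * Y) :=
  ⟨hX.rinv.mul hY.rinv, hX.ninv.mul N hY.ninv, (sMat hM G).mul_mem hX.smat hY.smat⟩

theorem CR.add {hM : Cfsg.IsPModular p M} {X Y : Matrix G G ℂ} (hX : CR N hM X)
    (hY : CR N hM Y) : CR N hM (X + Y) :=
  ⟨hX.rinv.add hY.rinv, hX.ninv.add N hY.ninv, (sMat hM G).add_mem hX.smat hY.smat⟩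

theorem CR.zero (hM : Cfsg.IsPModular p M) : CR N hM (0 : Matrix G G ℂ) :=
  ⟨rInv_zero, nLInv_zero N, (sMat hM G).zero_mem⟩

theorem CR.one (hM : Cfsg.IsPModular p M) : CR N hM (1 : Matrix G G ℂ) :=
  ⟨rInv_one, nLInv_one N, (sMat hM G).one_mem⟩

theorem CR.pow {hM : Cfsg.IsPModular p M} {X : Matrix G G ℂ} (hX : CR N hM X) (n : ℕ) :
    CR N hM (X ^ n) :=
  ⟨hX.rinv.pow n, hX.ninv.pow N n, (sMat hM G).pow_mem hX.smat n⟩

theorem CR.comp {hM : Cfsg.IsPModular p M} {X : Matrix G G ℂ} (hX : CR N hM X) (q : G ⧸ N) :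
    CR N hM (comp N q X) :=
  ⟨hX.rinv.comp N q, hX.ninv.comp N q, comp_mem_sMat N hM hX.smat q⟩

/-- membership in the ideal generated by a finite set of central degree one elements, modulo
the maximal ideal -/
def InId (hM : Cfsg.IsPModular p M) (S : Finset (Matrix G G ℂ)) (X : Matrix G G ℂ) : Prop :=
  ∃ c : Matrix G G ℂ → Matrix G G ℂ, (∀ Q ∈ S, CR N hM (c Q)) ∧ MMat M (X - ∑ Q ∈ S, Q * c Q)

theorem InId.of_mMat (hM : Cfsg.IsPModular p M) (S : Finset (Matrix G G ℂ)) {X : Matrix G G ℂ}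
    (hX : MMat M X) : InId N hM S X := by
  refine ⟨fun _ => 0, fun _ _ => CR.zero N hM, ?_⟩
  simpa using hX

theorem InId.add {hM : Cfsg.IsPModular p M} {S : Finset (Matrix G G ℂ)} {X Y : Matrix G G ℂ}
    (hX : InId N hM S X) (hY : InId N hM S Y) : InId N hM S (X + Y) := by
  obtain ⟨c, hc, hXc⟩ := hX
  obtain ⟨d, hd, hYd⟩ := hY
  refine ⟨fun Q => c Q + d Q, fun Q hQ => (hc Q hQ).add N (hd Q hQ), ?_⟩
  have : X + Y - ∑ Q ∈ S, Q * (c Q + d Q)
      = (X - ∑ Q ∈ S, Q * c Q) + (Y - ∑ Q ∈ S, Q * d Q) := by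
    simp only [mul_add, Finset.sum_add_distrib]
    abel
  rw [this]
  exact MMat.add hM hXc hYd

theorem InId.mul_right {hM : Cfsg.IsPModular p M} {S : Finset (Matrix G G ℂ)}
    {X Y : Matrix G G ℂ} (hX : InId N hM S X) (hY : CR N hM Y) : InId N hM S (X * Y) := by
  obtain ⟨c, hc, hXc⟩ := hX
  refine ⟨fun Q => c Q * Y, fun Q hQ => (hc Q hQ).mul N hY, ?_⟩
  have : X * Y - ∑ Q ∈ S, Q * (c Q * Y) = (X - ∑ Q ∈ S, Q * c Q) * Y := by
    rw [sub_mul, Finset.sum_mul]
    simp only [mul_assoc]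
  rw [this]
  exact MMat.mul_left hM hXc hY.smat

theorem InId.mul_left {hM : Cfsg.IsPModular p M} {S : Finset (Matrix G G ℂ)}
    (hS : ∀ Q ∈ S, RInv Q ∧ IsHom N (1 : G ⧸ N) Q)
    {X Y : Matrix G G ℂ} (hX : InId N hM S X) (hY : CR N hM Y) : InId N hM S (Y * X) := by
  obtain ⟨c, hc, hXc⟩ := hX
  refine ⟨fun Q => Y * c Q, fun Q hQ => hY.mul N (hc Q hQ), ?_⟩
  have : Y * X - ∑ Q ∈ S, Q * (Y * c Q) = Y * (X - ∑ Q ∈ S, Q * c Q) := by
    rw [mul_sub, Finset.mul_sum]
    congr 1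
    apply Finset.sum_congr rfl
    intro Q hQ
    rw [← mul_assoc, commute_of_isHom_one N (hS Q hQ).1 (hS Q hQ).2 hY.ninv, mul_assoc]
  rw [this]
  exact MMat.mul_right hM hY.smat hXc

theorem InId.single {hM : Cfsg.IsPModular p M} {S : Finset (Matrix G G ℂ)}
    {Q₀ Y : Matrix G G ℂ} (hQ₀ : Q₀ ∈ S) (hY : CR N hM Y) : InId N hM S (Q₀ * Y) := by
  classical
  refine ⟨fun Q => if Q = Q₀ then Y else 0, ?_, ?_⟩
  · intro Q _
    show CR N hM (if Q = Q₀ then Y else 0)
    split_ifs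
    · exact hY
    · exact CR.zero N hM
  · have : ∑ Q ∈ S, Q * (if Q = Q₀ then Y else 0) = Q₀ * Y := by
      rw [Finset.sum_eq_single Q₀]
      · rw [if_pos rfl]
      · intro Q _ hne
        rw [if_neg hne, mul_zero]
      · intro h
        exact absurd hQ₀ h
    rw [this, sub_self]
    exact MMat.zero hM

/-- removing one generator that is nilpotent modulo the ideal -/
theorem InId.remove {hM : Cfsg.IsPModular p M} {S : Finset (Matrix G G ℂ)} {Q : Matrix G G ℂ}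
    (hQS : Q ∉ S) (hS : ∀ Q' ∈ S, RInv Q' ∧ IsHom N (1 : G ⧸ N) Q')
    (hQ : CR N hM Q) (hQh : IsHom N (1 : G ⧸ N) Q)
    {f e : Matrix G G ℂ} (hf : CR N hM f) (hff : f * f = f)
    (he : CR N hM e) (heh : IsHom N (1 : G ⧸ N) e) (hee : e * e = e) (hfe : f * e = f)
    (hnil : ∃ n : ℕ, MMat M ((Q * e) ^ n))
    (h : InId N hM (insert Q S) f) : InId N hM S f := by
  obtain ⟨c, hc, hfc⟩ := h
  obtain ⟨n, hn⟩ := hnil
  have hcQ : CR N hM (c Q) := hc Q (Finset.mem_insert_self Q S)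
  set a := Q * c Q with ha
  have haC : CR N hM a := hQ.mul N hcQ
  -- f - a lies in the smaller ideal
  have h1 : InId N hM S (f - a) := by
    refine ⟨c, fun Q' hQ' => hc Q' (Finset.mem_insert_of_mem hQ'), ?_⟩
    rw [Finset.sum_insert hQS] at hfc
    have : f - a - ∑ Q' ∈ S, Q' * c Q' = f - (Q * c Q + ∑ Q' ∈ S, Q' * c Q') := by
      rw [ha]; abel
    rw [this]
    exact hfc
  have hfpow : ∀ k : ℕ, f ^ (k + 1) = f := by
    intro k
    induction k with
    | zero => rw [zero_add, pow_one]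
    | succ k ih => rw [pow_succ, ih, hff]
  -- f^(k+1) - a^(k+1) lies in the smaller ideal
  have h2 : ∀ k : ℕ, InId N hM S (f ^ (k + 1) - a ^ (k + 1)) := by
    intro k
    induction k with
    | zero => simpa using h1
    | succ k ih =>
      have e1 : f ^ (k + 1 + 1) - a ^ (k + 1 + 1)
          = f ^ (k + 1) * (f - a) + (f ^ (k + 1) - a ^ (k + 1)) * a := by
        rw [pow_succ f (k + 1), pow_succ a (k + 1), mul_sub, sub_mul]
        abel
      rw [e1]
      exact (InId.mul_left N hS h1 (hf.pow N (k + 1))).add N (ih.mul_right N haC)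
  -- the power a^(n+1) e is in the maximal ideal
  have hQe : Q * e = e * Q := commute_of_isHom_one N hQ.rinv hQh he.ninv
  have hQc : Q * c Q = c Q * Q := commute_of_isHom_one N hQ.rinv hQh hcQ.ninv
  have hepow : ∀ k : ℕ, e ^ (k + 1) = e := by
    intro k
    induction k with
    | zero => rw [zero_add, pow_one]
    | succ k ih => rw [pow_succ, ih, hee]
  have h3 : a ^ (n + 1) * e = (Q * e) ^ (n + 1) * c Q ^ (n + 1) := by
    have hc1 : Commute Q (c Q) := hQc
    have hc2 : Commute Q e := hQe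
    have hc3 : e * c Q ^ (n + 1) = c Q ^ (n + 1) * e :=
      commute_of_isHom_one N he.rinv heh ((hcQ.pow N (n + 1)).ninv)
    rw [ha, hc1.mul_pow, hc2.mul_pow, hepow, mul_assoc, ← hc3, mul_assoc]
  have h4 : MMat M (a ^ (n + 1) * e) := by
    rw [h3]
    apply MMat.mul_left hM _ (hcQ.pow N (n + 1)).smat
    rw [pow_succ]
    exact MMat.mul_left hM hn ((hQ.mul N he).smat)
  have h5 : f = (f ^ (n + 1) - a ^ (n + 1)) * e + a ^ (n + 1) * e := by
    rw [sub_mul, sub_add_cancel, hfpow, hfe]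
  rw [h5]
  exact ((h2 n).mul_right N he).add N (InId.of_mMat N hM S h4)

end

end Cfsg.Agent.Lib.Helper6
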