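import Mathlib
import Cfsg.Prelude.Def_Blocks
import Cfsg.Agent.Lib.Helper6.CovGraded
import Cfsg.Agent.Lib.Helper6.BlkCover3

set_option autoImplicit false
set_option linter.unusedSectionVars false
open Cfsg

namespace Cfsg.Agent.Lib.Helper6

open scoped ComplexConjugate

section

variable {G : Type*} [Group G] [Fintype G] [DecidableEq G]
variable {p : ℕ} {M : Ideal Cfsg.AlgInt}
variable (N : Subgroup G) [hN : N.Normal] [DecidableEq (G ⧸ N)] [Fintype N]

theorem sum_eq_sum_coe_of_forall_not_mem (F : G → ℂ) (h : ∀ g, g ∉ N → F g = 0) :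
    ∑ g : G, F g = ∑ n : N, F n := by
  classical
  have h1 : ∑ g : G, F g = ∑ g ∈ Finset.univ.filter (fun g : G => g ∈ N), F g := by
    symm
    apply Finset.sum_subset (Finset.filter_subset _ _)
    intro g _ hg
    have : g ∉ N := by simpa using hg
    exact h g this
  rw [h1, ← Finset.sum_subtype_eq_sum_filter]
  have : (Finset.univ : Finset G).subtype (fun g => g ∈ N) = (Finset.univ : Finset N) := by
    ext x; simp
  rw [this]

theorem resMat_apply' (X : Matrix G G ℂ) (n m : N) :
    resMat N X n m = X ((n : G) * (m : G)⁻¹) 1 := by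
  unfold resMat
  rw [regMat_apply, resFun_apply]
  simp

theorem not_mem_of_deg_ne {g : G} (h : ((g * (1 : G)⁻¹ : G) : G ⧸ N) ≠ 1) : g ∉ N := by
  intro hg
  apply h
  rw [inv_one, mul_one]
  exact (QuotientGroup.eq_one_iff g).mpr hg

theorem IsHom.apply_one_eq_zero {X : Matrix G G ℂ} (hX : IsHom N (1 : G ⧸ N) X) {g : G}
    (hg : g ∉ N) : X g 1 = 0 := by
  apply hX
  rw [inv_one, mul_one]
  intro h
  exact hg ((QuotientGroup.eq_one_iff g).mp h)

theorem resMat_mul_of_isHom_one {X Y : Matrix G G ℂ} (hXr : RInv X)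
    (hX : IsHom N (1 : G ⧸ N) X) (hYr : RInv Y) :
    resMat N (X * Y) = resMat N X * resMat N Y := by
  funext n m
  rw [resMat_apply', Matrix.mul_apply, Matrix.mul_apply]
  have e1 : ∑ k : G, X ((n : G) * (m : G)⁻¹) k * Y k 1
      = ∑ k : G, X ((n : G) * k⁻¹) 1 * Y (k * (m : G)⁻¹) 1 := by
    rw [← Equiv.sum_comp (Equiv.mulRight (m : G)⁻¹)
      (fun k => X ((n : G) * (m : G)⁻¹) k * Y k 1)]
    apply Finset.sum_congr rfl
    intro k _
    simp only [Equiv.coe_mulRight]
    rw [hXr (m : G)⁻¹ (n : G) k, hXr.apply_eq (n : G) k]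
  rw [e1, sum_eq_sum_coe_of_forall_not_mem N]
  · apply Finset.sum_congr rfl
    intro k _
    rw [resMat_apply', resMat_apply']
  · intro g hg
    have : (n : G) * g⁻¹ ∉ N := by
      intro h1
      apply hg
      have h2 := N.mul_mem (N.inv_mem h1) n.2
      simpa using h2
    rw [hX.apply_one_eq_zero N this, zero_mul]

theorem resMat_one : resMat N (1 : Matrix G G ℂ) = 1 := by
  funext n m
  rw [resMat_apply', Matrix.one_apply, Matrix.one_apply]
  by_cases h : n = m
  · subst h
    simp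
  · rw [if_neg h, if_neg]
    intro h1
    apply h
    apply Subtype.ext
    exact mul_inv_eq_one.mp h1

theorem resMat_pow_of_isHom_one {X : Matrix G G ℂ} (hXr : RInv X)
    (hX : IsHom N (1 : G ⧸ N) X) (n : ℕ) : resMat N (X ^ n) = resMat N X ^ n := by
  induction n with
  | zero => rw [pow_zero, pow_zero, resMat_one]
  | succ n ih =>
    rw [pow_succ, pow_succ, resMat_mul_of_isHom_one N (hXr.pow n) (hX.pow N n) hXr, ih]

theorem resMat_mem_centerAlg_of_nLInv {X : Matrix G G ℂ} (hXr : RInv X) (hXn : NLInv N X) :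
    resMat N X ∈ centerAlg N := by
  apply regMat_mem_centerAlg
  intro n m
  rw [resFun_apply, resFun_apply]
  have h1 := hXr (m : G) ((m : G) * (n : G) * (m : G)⁻¹) 1
  rw [inv_mul_cancel_right, one_mul] at h1
  have h2 := hXn (m : G) m.2 (n : G) 1
  rw [mul_one] at h2
  simp only [Subgroup.coe_mul, Subgroup.coe_inv]
  rw [← h1, h2]

theorem mMat_of_resMat {X : Matrix G G ℂ} (hM : Cfsg.IsPModular p M) (hXr : RInv X)
    (hX : IsHom N (1 : G ⧸ N) X) (h : MMat M (resMat N X)) : MMat M X := by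
  intro s t
  rw [hXr.apply_eq s t]
  by_cases hst : s * t⁻¹ ∈ N
  · have := h ⟨s * t⁻¹, hst⟩ 1
    rw [resMat_apply'] at this
    simpa using this
  · rw [hX.apply_one_eq_zero N hst]
    exact memLocalIdeal_zero hM

theorem isHom_one_liftIdem (A : Set (Cfsg.IrrCharacter N)) :
    IsHom N (1 : G ⧸ N) (liftIdem N A) := by
  intro s t h
  unfold liftIdem
  rw [regMat_apply]
  apply extendByZero_of_not_mem
  intro h1
  exact h ((QuotientGroup.eq_one_iff _).mpr h1)

/-- (N1) a degree one element of the centralizer algebra with central character values in the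
ideal on a stable union of blocks is nilpotent modulo the ideal after cutting with the
idempotent -/
theorem exists_pow_mMat_of_rad (hM : Cfsg.IsPModular p M) {A : Set (Cfsg.IrrCharacter N)}
    (hA : GStable N hN A) (hAS : ∀ n : N, Cfsg.MemLocalRing M (Cfsg.blockCoeff A n))
    {Q : Matrix G G ℂ} (hQr : RInv Q) (hQn : NLInv N Q) (hQs : Q ∈ sMat hM G)
    (hQh : IsHom N (1 : G ⧸ N) Q)
    (h : ∀ θ : Cfsg.IrrCharacter N, θ ∈ A →
      Cfsg.MemLocalIdeal M (cOmega (θ : N → ℂ) (resMat N Q))) :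
    ∃ n : ℕ, MMat M ((Q * liftIdem N A) ^ n) := by
  classical
  have hec : liftIdem N A ∈ centerAlg G := liftIdem_mem_centerAlg N hN hA
  have hes : liftIdem N A ∈ sMat hM G := liftIdem_mem_sMat N hM hAS
  have heh := isHom_one_liftIdem N A
  have hQc : resMat N Q ∈ centerAlg N := resMat_mem_centerAlg_of_nLInv N hQr hQn
  have hZ : resMat N (Q * liftIdem N A) = resMat N Q * blockMat A := by
    rw [resMat_mul_of_isHom_one N hQr hQh hec.1, resMat_liftIdem]
  have hbc : blockMat A ∈ centerAlg N := blockMat_mem_centerAlg A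
  have hZc : resMat N (Q * liftIdem N A) ∈ centerAlg N := by
    rw [hZ]
    exact (centerAlg N).mul_mem hQc hbc
  have hZs : resMat N (Q * liftIdem N A) ∈ sMat hM N :=
    resMat_mem_sMat N hM ((sMat hM G).mul_mem hQs hes)
  have hω : ∀ ξ : Cfsg.IrrCharacter N,
      Cfsg.MemLocalIdeal M (cOmega (ξ : N → ℂ) (resMat N (Q * liftIdem N A))) := by
    intro ξ
    rw [hZ, cOmega_mul ξ.2 hQc hbc.1, cOmega_blockMat]
    split_ifs with hξ
    · rw [mul_one]
      exact h ξ hξ
    · rw [mul_zero]
      exact memLocalIdeal_zero hM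
  obtain ⟨n, hn⟩ := exists_pow_mMat_of_cOmega hM hZc hZs hω
  refine ⟨n, ?_⟩
  have hr : RInv (Q * liftIdem N A) := hQr.mul hec.1
  have hh : IsHom N (1 : G ⧸ N) (Q * liftIdem N A) := by
    have := hQh.mul N heh
    rwa [one_mul] at this
  apply mMat_of_resMat N hM (hr.pow n) (hh.pow N n)
  rw [resMat_pow_of_isHom_one N hr hh]
  exact hn

end

end Cfsg.Agent.Lib.Helper6
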