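import Mathlib
import Cfsg.Prelude.Def_Blocks
import Cfsg.Agent.Lib.Helper6.CovIdeal

set_option autoImplicit false
set_option linter.unusedSectionVars false
open Cfsg

namespace Cfsg.Agent.Lib.Helper6

open scoped ComplexConjugate

/-- a word as long as the group has a nonempty subword with trivial product -/
theorem exists_loop_of_length {Q : Type*} [Group Q] [Fintype Q] (l : List Q)
    (hl : l.length = Fintype.card Q) :
    ∃ l₁ l₂ l₃ : List Q, l = l₁ ++ l₂ ++ l₃ ∧ l₂ ≠ [] ∧ l₂.prod = 1 := by
  classical
  let g : Fin (Fintype.card Q + 1) → Q := fun i => (l.take i).prod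
  have hcard : Fintype.card Q < Fintype.card (Fin (Fintype.card Q + 1)) := by
    rw [Fintype.card_fin]
    exact Nat.lt_succ_self _
  obtain ⟨i, j, hij, hg⟩ := Fintype.exists_ne_map_eq_of_card_lt g hcard
  -- wlog i < j
  have key : ∀ i j : Fin (Fintype.card Q + 1), i < j → g i = g j →
      ∃ l₁ l₂ l₃ : List Q, l = l₁ ++ l₂ ++ l₃ ∧ l₂ ≠ [] ∧ l₂.prod = 1 := by
    intro i j hlt hg
    refine ⟨l.take i, (l.take j).drop i, l.drop j, ?_, ?_, ?_⟩
    · have h1 : l.take i = (l.take j).take i := by
        rw [List.take_take]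
        congr 1
        have : (i : ℕ) ≤ (j : ℕ) := le_of_lt hlt
        omega
      rw [h1, List.take_append_drop, List.take_append_drop]
    · intro h
      have h2 := congrArg List.length h
      rw [List.length_drop, List.length_take, List.length_nil] at h2
      have hj : (j : ℕ) ≤ Fintype.card Q := Nat.lt_succ_iff.mp j.2
      have hi : (i : ℕ) < (j : ℕ) := hlt
      rw [hl] at h2
      omega
    · have h1 : l.take i = (l.take j).take i := by
        rw [List.take_take]
        congr 1
        have : (i : ℕ) ≤ (j : ℕ) := le_of_lt hlt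
        omega
      have h2 : (l.take j).prod = (l.take i).prod * ((l.take j).drop i).prod := by
        rw [h1, ← List.prod_append, List.take_append_drop]
      have h3 : (l.take i).prod = (l.take j).prod := hg
      rw [h3] at h2
      have h4 : (l.take j).prod * ((l.take j).drop i).prod = (l.take j).prod * 1 := by
        rw [mul_one]; exact h2.symm
      exact mul_left_cancel h4
  rcases lt_or_gt_of_ne hij with h | h
  · exact key i j h hg
  · exact key j i h hg.symm

section

variable {G : Type*} [Group G] [Fintype G] [DecidableEq G]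
variable {p : ℕ} {M : Ideal Cfsg.AlgInt}
variable (N : Subgroup G) [hN : N.Normal] [DecidableEq (G ⧸ N)]

/-- the product of the homogeneous components of `f` along a word -/
def wp (f : Matrix G G ℂ) (l : List (G ⧸ N)) : Matrix G G ℂ :=
  (l.map (fun q => comp N q f)).prod

theorem wp_nil (f : Matrix G G ℂ) : wp N f [] = 1 := rfl

theorem wp_cons (f : Matrix G G ℂ) (q : G ⧸ N) (l : List (G ⧸ N)) :
    wp N f (q :: l) = comp N q f * wp N f l := by
  unfold wp
  rw [List.map_cons, List.prod_cons]

theorem wp_append (f : Matrix G G ℂ) (l₁ l₂ : List (G ⧸ N)) :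
    wp N f (l₁ ++ l₂) = wp N f l₁ * wp N f l₂ := by
  unfold wp
  rw [List.map_append, List.prod_append]

theorem cR_wp {hM : Cfsg.IsPModular p M} {f : Matrix G G ℂ} (hf : CR N hM f)
    (l : List (G ⧸ N)) : CR N hM (wp N f l) := by
  induction l with
  | nil => exact CR.one N hM
  | cons q l ih =>
    rw [wp_cons]
    exact (hf.comp N q).mul N ih

theorem isHom_wp (f : Matrix G G ℂ) (l : List (G ⧸ N)) : IsHom N l.prod (wp N f l) := by
  induction l with
  | nil => exact isHom_one N
  | cons q l ih =>
    rw [wp_cons, List.prod_cons]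
    exact (isHom_comp N q f).mul N ih

/-- powers of `f` are sums of word products -/
theorem pow_mem_closure_wp [Fintype (G ⧸ N)] (f : Matrix G G ℂ) (k : ℕ) :
    f ^ k ∈ AddSubmonoid.closure
      {X : Matrix G G ℂ | ∃ l : List (G ⧸ N), l.length = k ∧ X = wp N f l} := by
  induction k with
  | zero =>
    apply AddSubmonoid.subset_closure
    exact ⟨[], rfl, by rw [pow_zero, wp_nil]⟩
  | succ k ih =>
    have e1 : f ^ (k + 1) = ∑ q : G ⧸ N, f ^ k * comp N q f := by
      rw [pow_succ, ← Finset.mul_sum, sum_comp]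
    rw [e1]
    apply AddSubmonoid.sum_mem
    intro q _
    refine AddSubmonoid.closure_induction (motive := fun X _ => X * comp N q f ∈ AddSubmonoid.closure
      {X : Matrix G G ℂ | ∃ l : List (G ⧸ N), l.length = k + 1 ∧ X = wp N f l}) ?_ ?_ ?_ ih
    · rintro X ⟨l, hl, rfl⟩
      apply AddSubmonoid.subset_closure
      refine ⟨l ++ [q], ?_, ?_⟩
      · rw [List.length_append, hl, List.length_singleton]
      · rw [wp_append, wp_cons, wp_nil, mul_one]
    · rw [zero_mul]
      exact AddSubmonoid.zero_mem _
    · intro X Y _ _ hX hY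
      rw [add_mul]
      exact AddSubmonoid.add_mem _ hX hY

/-- the set of loop products -/
def loopSet [Fintype (G ⧸ N)] (f : Matrix G G ℂ) : Set (Matrix G G ℂ) :=
  (fun l => wp N f l) '' {l : List (G ⧸ N) | l.length ≤ Fintype.card (G ⧸ N) ∧ l ≠ [] ∧ l.prod = 1}

theorem loopSet_finite [Fintype (G ⧸ N)] (f : Matrix G G ℂ) : (loopSet N f).Finite := by
  apply Set.Finite.image
  apply Set.Finite.subset (List.finite_length_le (G ⧸ N) (Fintype.card (G ⧸ N)))
  intro l hl
  exact hl.1

/-- (main abstract statement) an idempotent `f = f e` of the centralizer algebra all of whose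
loop products are nilpotent modulo the ideal after cutting with `e` vanishes modulo the ideal -/
theorem mMat_of_loops (hM : Cfsg.IsPModular p M) [Fintype (G ⧸ N)] {f e : Matrix G G ℂ}
    (hf : CR N hM f) (hff : f * f = f)
    (he : CR N hM e) (heh : IsHom N (1 : G ⧸ N) e) (hee : e * e = e) (hfe : f * e = f)
    (hloop : ∀ (q : G ⧸ N) (c : Matrix G G ℂ), CR N hM c → IsHom N q⁻¹ c →
      ∃ n : ℕ, MMat M ((comp N q f * c * e) ^ n)) : MMat M f := by
  classical
  set S : Finset (Matrix G G ℂ) := (loopSet_finite N f).toFinset with hS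
  have hSmem : ∀ Q ∈ S, ∃ l : List (G ⧸ N),
      l.length ≤ Fintype.card (G ⧸ N) ∧ l ≠ [] ∧ l.prod = 1 ∧ Q = wp N f l := by
    intro Q hQ
    rw [hS, Set.Finite.mem_toFinset] at hQ
    obtain ⟨l, ⟨h1, h2, h3⟩, rfl⟩ := hQ
    exact ⟨l, h1, h2, h3, rfl⟩
  have hSgood : ∀ Q ∈ S, CR N hM Q ∧ IsHom N (1 : G ⧸ N) Q ∧ ∃ n : ℕ, MMat M ((Q * e) ^ n) := by
    intro Q hQ
    obtain ⟨l, _, h2, h3, rfl⟩ := hSmem Q hQ
    refine ⟨cR_wp N hf l, ?_, ?_⟩
    · have := isHom_wp N f l
      rwa [h3] at this
    · cases l with
      | nil => exact absurd rfl h2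
      | cons q l' =>
        rw [wp_cons]
        apply hloop q (wp N f l') (cR_wp N hf l')
        have := isHom_wp N f l'
        rw [List.prod_cons] at h3
        have h4 : l'.prod = q⁻¹ := eq_inv_of_mul_eq_one_right h3
        rwa [h4] at this
  -- base: f lies in the ideal generated by the loop products
  have hL : 0 < Fintype.card (G ⧸ N) := Fintype.card_pos
  have hfpow : ∀ k : ℕ, f ^ (k + 1) = f := by
    intro k
    induction k with
    | zero => rw [zero_add, pow_one]
    | succ k ih => rw [pow_succ, ih, hff]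
  have hbase : InId N hM S f := by
    have h1 := pow_mem_closure_wp N f (Fintype.card (G ⧸ N))
    obtain ⟨k, hk⟩ := Nat.exists_eq_succ_of_ne_zero hL.ne'
    have h2 : f ^ Fintype.card (G ⧸ N) = f := by rw [hk]; exact hfpow k
    rw [h2] at h1
    refine AddSubmonoid.closure_induction (motive := fun X _ => InId N hM S X) ?_ ?_ ?_ h1
    · rintro X ⟨l, hl, rfl⟩
      obtain ⟨l₁, l₂, l₃, h3, h4, h5⟩ := exists_loop_of_length l hl
      have hl2 : l₂.length ≤ Fintype.card (G ⧸ N) := by
        rw [← hl, h3, List.length_append, List.length_append]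
        omega
      have hmem : wp N f l₂ ∈ S := by
        rw [hS, Set.Finite.mem_toFinset]
        exact ⟨l₂, ⟨hl2, h4, h5⟩, rfl⟩
      have hh : IsHom N (1 : G ⧸ N) (wp N f l₂) := by
        have := isHom_wp N f l₂
        rwa [h5] at this
      have e1 : wp N f l = wp N f l₂ * (wp N f l₁ * wp N f l₃) := by
        rw [h3, wp_append, wp_append, ← mul_assoc,
          commute_of_isHom_one N (cR_wp N hf l₂).rinv hh (cR_wp N hf l₁).ninv]
      rw [e1]
      exact InId.single N hmem ((cR_wp N hf l₁).mul N (cR_wp N hf l₃))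
    · exact InId.of_mMat N hM S (MMat.zero hM)
    · intro X Y _ _ hX hY
      exact hX.add N hY
  -- remove the generators one by one
  have hrem : ∀ T : Finset (Matrix G G ℂ), T ⊆ S → InId N hM T f → InId N hM ∅ f := by
    intro T
    induction T using Finset.induction_on with
    | empty => intro _ h; exact h
    | insert Q T hQT ih =>
      intro hsub h
      apply ih (fun x hx => hsub (Finset.mem_insert_of_mem hx))
      have hQ := hSgood Q (hsub (Finset.mem_insert_self Q T))
      apply InId.remove N hQT ?_ hQ.1 hQ.2.1 hf hff he heh hee hfe hQ.2.2 h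
      intro Q' hQ'
      have := hSgood Q' (hsub (Finset.mem_insert_of_mem hQ'))
      exact ⟨this.1.rinv, this.2.1⟩
  obtain ⟨c, _, hc⟩ := hrem S (Finset.Subset.refl S) hbase
  simpa using hc

end

end Cfsg.Agent.Lib.Helper6
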