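import Mathlib
import Cfsg.Prelude.Def_Blocks
import Cfsg.Agent.Lib.Helper6.CovWords
import Cfsg.Agent.Lib.Helper6.CovRes

set_option autoImplicit false
set_option linter.unusedSectionVars false
open Cfsg

namespace Cfsg.Agent.Lib.Helper6

open scoped ComplexConjugate

section

variable {G : Type*} [Group G] [Fintype G] [DecidableEq G]
variable {p : ℕ} {M : Ideal Cfsg.AlgInt}
variable (N : Subgroup G) [hN : N.Normal] [Fintype N]

/-- the characters of `N` lying under no member of `B` -/
def notUnder (B : Set (Cfsg.IrrCharacter G)) : Set (Cfsg.IrrCharacter N) :=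
  {ψ | ∀ χ ∈ B, Cfsg.classInner (fun n : N => (χ : G → ℂ) n) (ψ : N → ℂ) = 0}

theorem notUnder_gStable (B : Set (Cfsg.IrrCharacter G)) : GStable N hN (notUnder N B) := by
  intro ψ hψ g χ hχ
  rw [irrConj_coe, classInner_restrict_conjFun N hN (IsIrrCharacter.isClassFunction χ.2)]
  exact hψ χ hχ

/-- (Claim B) if a degree one element of the form `f_q c` has a nonzero central character value
at `θ`, then `θ` lies under the block -/
theorem cOmega_eq_zero_of_notUnder [DecidableEq (G ⧸ N)] (B : Set (Cfsg.IrrCharacter G))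
    (θ : Cfsg.IrrCharacter N) (hθ : θ ∈ notUnder N B) (q : G ⧸ N) {c : Matrix G G ℂ}
    (hc : RInv c) :
    cOmega (θ : N → ℂ) (resMat N (comp N q (blockMat B) * c)) = 0 := by
  classical
  have hS := notUnder_gStable N B
  have he2c : liftIdem N (notUnder N B) ∈ centerAlg G := liftIdem_mem_centerAlg N hN hS
  have he2h := isHom_one_liftIdem N (notUnder N B)
  have hfc : blockMat B ∈ centerAlg G := blockMat_mem_centerAlg B
  -- e₂ f = 0
  have h0 : liftIdem N (notUnder N B) * blockMat B = 0 := by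
    apply eq_zero_of_cOmega_eq_zero ((centerAlg G).mul_mem he2c hfc)
    intro χ
    rw [cOmega_mul χ.2 he2c hfc.1, cOmega_blockMat]
    split_ifs with hχ
    · rw [mul_one]
      apply cOmega_liftIdem_eq_zero
      intro ψ hψ
      exact hψ χ hχ
    · rw [mul_zero]
  have h1 : liftIdem N (notUnder N B) * (comp N q (blockMat B) * c) = 0 := by
    rw [← mul_assoc, ← comp_mul_of_isHom_one N he2h, h0]
    have : comp N q (0 : Matrix G G ℂ) = 0 := by
      funext s t
      rw [comp_apply]
      split_ifs <;> rfl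
    rw [this, zero_mul]
  have hQr : RInv (comp N q (blockMat B) * c) := (hfc.1.comp N q).mul hc
  have h2 := resMat_mul_of_isHom_one N he2c.1 he2h hQr
  rw [h1, resMat_liftIdem] at h2
  have h3 : cOmega (θ : N → ℂ)
      (blockMat (notUnder N B) * resMat N (comp N q (blockMat B) * c)) = 0 := by
    rw [← h2]
    unfold cOmega resMat
    simp [regMat_apply, resFun_apply]
  have hQN : RInv (resMat N (comp N q (blockMat B) * c)) := regMat_rInv _
  rw [cOmega_mul θ.2 (blockMat_mem_centerAlg _) hQN, cOmega_blockMat, if_pos hθ, one_mul] at h3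
  exact h3

/-- every character of a covered block lies under the covering block -/
theorem exists_over_of_covers (hM : Cfsg.IsPModular p M) (χ₀ : Cfsg.IrrCharacter G)
    (θ₀ : Cfsg.IrrCharacter N)
    (hcov : ∃ χ ∈ Cfsg.blockOf M (χ₀ : G → ℂ), ∃ θ ∈ Cfsg.blockOf M (θ₀ : N → ℂ),
      Cfsg.classInner (fun n : N => (χ : G → ℂ) n) (θ : N → ℂ) ≠ 0)
    (θ : Cfsg.IrrCharacter N) (hθ : θ ∈ Cfsg.blockOf M (θ₀ : N → ℂ)) :
    ∃ χ ∈ Cfsg.blockOf M (χ₀ : G → ℂ),
      Cfsg.classInner (fun n : N => (χ : G → ℂ) n) (θ : N → ℂ) ≠ 0 := by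
  classical
  have : Fintype (G ⧸ N) := Fintype.ofFinite _
  by_contra hno
  push Not at hno
  obtain ⟨χc, hχc, θc, hθc, hne⟩ := hcov
  set B := Cfsg.blockOf M (χ₀ : G → ℂ) with hB
  set b := Cfsg.blockOf M (θ₀ : N → ℂ) with hb
  set f := blockMat B with hf
  set A := conjUnion N hN b with hA
  set e := liftIdem N A with he
  have hAst : GStable N hN A := conjUnion_gStable N hN b
  have hAS : ∀ n : N, Cfsg.MemLocalRing M (Cfsg.blockCoeff A n) := fun n =>
    blockCoeff_memLocalRing_of_union hM _ (conjUnion_union_of_blocks N hN hM θ₀) n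
  have hfc : f ∈ centerAlg G := blockMat_mem_centerAlg B
  have hfs : f ∈ sMat hM G := blockMat_mem_sMat hM χ₀
  have hff : f * f = f := blockMat_idem B
  have hfC : CR N hM f := ⟨hfc.1, hfc.2.nLInv N, hfs⟩
  have hec : e ∈ centerAlg G := liftIdem_mem_centerAlg N hN hAst
  have hes : e ∈ sMat hM G := liftIdem_mem_sMat N hM hAS
  have heh : IsHom N (1 : G ⧸ N) e := isHom_one_liftIdem N A
  have heC : CR N hM e := ⟨hec.1, hec.2.nLInv N, hes⟩
  -- values of the central characters on e
  have hev : ∀ χ : Cfsg.IrrCharacter G, cOmega (χ : G → ℂ) e = 0 ∨ cOmega (χ : G → ℂ) e = 1 := by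
    intro χ
    by_cases h : ∃ ψ ∈ A, Cfsg.classInner (fun n : N => (χ : G → ℂ) n) (ψ : N → ℂ) ≠ 0
    · obtain ⟨ψ, hψA, hψ⟩ := h
      right
      exact cOmega_liftIdem_eq_one N hN hAst χ.2 ψ hψA hψ
    · left
      push Not at h
      exact cOmega_liftIdem_eq_zero N A _ h
  have hee : e * e = e := by
    apply eq_of_cOmega_eq ((centerAlg G).mul_mem hec hec) hec
    intro χ
    rw [cOmega_mul χ.2 hec hec.1]
    rcases hev χ with h | h <;> rw [h] <;> simp
  have hfe : f * e = f := by
    apply eq_of_cOmega_eq ((centerAlg G).mul_mem hfc hec) hfc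
    intro χ
    rw [cOmega_mul χ.2 hfc hec.1, cOmega_blockMat]
    split_ifs with hχ
    · rw [one_mul]
      obtain ⟨ψ, hψ⟩ := exists_constituent_restrict N χ.2
      have hsb : Cfsg.SameBlock M (χc : G → ℂ) (χ : G → ℂ) :=
        SameBlock.trans' hM (SameBlock.symm' hχc) hχ
      have hψA : ψ ∈ A := exists_conj_mem_block_of_sameBlock N hN hM θ₀ χc χ hsb θc hθc hne ψ hψ
      exact cOmega_liftIdem_eq_one N hN hAst χ.2 ψ hψA hψ
    · rw [zero_mul]
  -- the loop condition
  have hloop : ∀ (q : G ⧸ N) (c : Matrix G G ℂ), CR N hM c → IsHom N q⁻¹ c →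
      ∃ n : ℕ, MMat M ((comp N q f * c * e) ^ n) := by
    intro q c hc hch
    have hQC : CR N hM (comp N q f * c) := (hfC.comp N q).mul N hc
    have hQh : IsHom N (1 : G ⧸ N) (comp N q f * c) := by
      have := (isHom_comp N q f).mul N hch
      rwa [mul_inv_cancel] at this
    apply exists_pow_mMat_of_rad N hM hAst hAS hQC.rinv hQC.ninv hQC.smat hQh
    intro θ' hθ'A
    by_contra hnot
    obtain ⟨g, hg⟩ := hθ'A
    -- θ'' = θ^{g⁻¹} lies in the block of θ'
    have h1 : Cfsg.SameBlock M (conjFun N hN (θ' : N → ℂ) g) (θ : N → ℂ) := by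
      have h2 : Cfsg.SameBlock M (θ₀ : N → ℂ) (conjFun N hN (θ' : N → ℂ) g) := by
        have := hg
        rw [hb] at this
        have h3 : Cfsg.SameBlock M (θ₀ : N → ℂ) ((irrConj N hN g θ' : Cfsg.IrrCharacter N) : N → ℂ) :=
          this
        rwa [irrConj_coe] at h3
      exact SameBlock.trans' hM (SameBlock.symm' h2) hθ
    have h4 := sameBlock_conjFun N hN h1 g⁻¹
    rw [conjFun_conjFun, mul_inv_cancel, conjFun_one] at h4
    have h5 : Cfsg.SameBlock M (θ' : N → ℂ) ((irrConj N hN g⁻¹ θ : Cfsg.IrrCharacter N) : N → ℂ) := by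
      rw [irrConj_coe]
      exact h4
    have huc : resMat N (comp N q f * c) ∈ centerAlg N :=
      resMat_mem_centerAlg_of_nLInv N hQC.rinv hQC.ninv
    have hus : resMat N (comp N q f * c) ∈ sMat hM N := resMat_mem_sMat N hM hQC.smat
    have h6 := cOmega_sub_memLocalIdeal hM θ'.2 (irrConj N hN g⁻¹ θ).2 h5 huc hus
    have h7 : irrConj N hN g⁻¹ θ ∈ notUnder N B := by
      intro χ hχ
      rw [irrConj_coe, classInner_restrict_conjFun N hN (IsIrrCharacter.isClassFunction χ.2)]
      exact hno χ hχ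
    rw [cOmega_eq_zero_of_notUnder N B _ h7 q hc.rinv, sub_zero] at h6
    exact hnot h6
  have hmm : MMat M f := mMat_of_loops N hM hfC hff heC heh hee hfe hloop
  have h8 := cOmega_memLocalIdeal_of_entries hM χ₀.2 hfc hmm
  have h9 : χ₀ ∈ B := sameBlock_refl hM _
  rw [cOmega_blockMat, if_pos h9] at h8
  exact not_memLocalIdeal_one hM h8

end

end Cfsg.Agent.Lib.Helper6
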