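import Mathlib

set_option autoImplicit false

/-! Integer vectors of norm three on an orthonormal basis: basic combinatorics used for the
cyclic TI isometry (Peterfalvi (3.5)). -/

namespace Cfsg.Agent.Lib.Helper6.CycComb

variable {B : Type*} [Fintype B] [DecidableEq B]

/-- integer inner product -/
def ip (u v : B → ℤ) : ℤ := ∑ χ, u χ * v χ

lemma ip_comm (u v : B → ℤ) : ip u v = ip v u := by
  unfold ip
  exact Finset.sum_congr rfl fun χ _ => mul_comm _ _

lemma sq_le_ip_self (u : B → ℤ) (χ : B) : u χ * u χ ≤ ip u u := by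
  unfold ip
  exact Finset.single_le_sum (f := fun χ => u χ * u χ) (fun ψ _ => mul_self_nonneg (u ψ))
    (Finset.mem_univ χ)

lemma val_of_norm3 {u : B → ℤ} (h : ip u u = 3) (χ : B) : u χ = -1 ∨ u χ = 0 ∨ u χ = 1 := by
  have h1 := sq_le_ip_self u χ
  rw [h] at h1
  have h2 : -1 ≤ u χ := by nlinarith
  have h3 : u χ ≤ 1 := by nlinarith
  omega

lemma sq_eq_one_of_ne_zero {u : B → ℤ} (h : ip u u = 3) {χ : B} (hχ : u χ ≠ 0) :
    u χ * u χ = 1 := by
  rcases val_of_norm3 h χ with h1 | h1 | h1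
  · rw [h1]; norm_num
  · exact absurd h1 hχ
  · rw [h1]; norm_num

/-- the support of a norm three vector has three elements -/
lemma supp_card {u : B → ℤ} (h : ip u u = 3) :
    (Finset.univ.filter (fun χ => u χ ≠ 0)).card = 3 := by
  have h1 : ip u u = ∑ χ ∈ Finset.univ.filter (fun χ => u χ ≠ 0), (1 : ℤ) := by
    unfold ip
    rw [Finset.sum_filter]
    refine Finset.sum_congr rfl fun χ _ => ?_
    by_cases hχ : u χ = 0
    · simp [hχ]
    · rw [if_pos hχ, sq_eq_one_of_ne_zero h hχ]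
  rw [h] at h1
  simp at h1
  exact_mod_cast h1.symm

/-- three distinct points of the support exhaust it -/
lemma eq_zero_of_three {u : B → ℤ} (h : ip u u = 3) {x y z : B} (hxy : x ≠ y) (hxz : x ≠ z)
    (hyz : y ≠ z) (hx : u x ≠ 0) (hy : u y ≠ 0) (hz : u z ≠ 0) {χ : B} (h1 : χ ≠ x) (h2 : χ ≠ y)
    (h3 : χ ≠ z) : u χ = 0 := by
  by_contra hχ
  have hsub : ({x, y, z, χ} : Finset B) ⊆ Finset.univ.filter (fun χ => u χ ≠ 0) := by
    intro w hw
    simp only [Finset.mem_insert, Finset.mem_singleton] at hw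
    rw [Finset.mem_filter]
    refine ⟨Finset.mem_univ _, ?_⟩
    rcases hw with rfl | rfl | rfl | rfl <;> assumption
  have hcard := Finset.card_le_card hsub
  rw [supp_card h] at hcard
  have : ({x, y, z, χ} : Finset B).card = 4 := by
    rw [Finset.card_insert_of_notMem, Finset.card_insert_of_notMem, Finset.card_insert_of_notMem,
      Finset.card_singleton]
    · simp [Ne.symm h3]
    · simp [hyz, Ne.symm h2]
    · simp [hxy, hxz, Ne.symm h1]
  omega

/-- a third point of the support -/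
lemma exists_third {u : B → ℤ} (h : ip u u = 3) {x y : B} (hxy : x ≠ y) (hx : u x ≠ 0)
    (hy : u y ≠ 0) : ∃ z, z ≠ x ∧ z ≠ y ∧ u z ≠ 0 := by
  by_contra hcon
  push Not at hcon
  have hsub : Finset.univ.filter (fun χ => u χ ≠ 0) ⊆ ({x, y} : Finset B) := by
    intro w hw
    rw [Finset.mem_filter] at hw
    simp only [Finset.mem_insert, Finset.mem_singleton]
    by_contra hne
    push Not at hne
    exact hw.2 (hcon w hne.1 hne.2)
  have hcard := Finset.card_le_card hsub
  rw [supp_card h, Finset.card_pair hxy] at hcard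
  omega

/-- existence of two points in the support -/
lemma exists_dec {u : B → ℤ} (h : ip u u = 3) :
    ∃ x y z, x ≠ y ∧ x ≠ z ∧ y ≠ z ∧ u x ≠ 0 ∧ u y ≠ 0 ∧ u z ≠ 0 := by
  obtain ⟨x, y, z, hxy, hxz, hyz, hS⟩ := Finset.card_eq_three.mp (supp_card h)
  have hm : ∀ w, w ∈ ({x, y, z} : Finset B) → u w ≠ 0 := by
    intro w hw
    rw [← hS, Finset.mem_filter] at hw
    exact hw.2
  exact ⟨x, y, z, hxy, hxz, hyz, hm x (by simp), hm y (by simp), hm z (by simp)⟩

/-- inner product against a vector supported on three points -/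
lemma ip_three (t u : B → ℤ) {x y z : B} (hxy : x ≠ y) (hxz : x ≠ z) (hyz : y ≠ z)
    (h0 : ∀ χ, χ ≠ x → χ ≠ y → χ ≠ z → u χ = 0) :
    ip t u = t x * u x + t y * u y + t z * u z := by
  unfold ip
  have hsub : ∑ χ, t χ * u χ = ∑ χ ∈ ({x, y, z} : Finset B), t χ * u χ := by
    symm
    refine Finset.sum_subset (Finset.subset_univ _) fun χ _ hχ => ?_
    simp only [Finset.mem_insert, Finset.mem_singleton, not_or] at hχ
    rw [h0 χ hχ.1 hχ.2.1 hχ.2.2, mul_zero]
  rw [hsub, Finset.sum_insert (by simp [hxy, hxz]), Finset.sum_insert (by simp [hyz]),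
    Finset.sum_singleton]
  ring

/-- a `0/1`-valued function with sum one has a unique point with value one -/
lemma exists_unique_of_sum_eq_one (f : B → ℤ) (h01 : ∀ χ, f χ = 0 ∨ f χ = 1)
    (hs : ∑ χ, f χ = 1) : ∃ χ, f χ = 1 ∧ ∀ ψ, ψ ≠ χ → f ψ = 0 := by
  have hex : ∃ χ, f χ = 1 := by
    by_contra hcon
    push Not at hcon
    have : ∑ χ, f χ = 0 := Finset.sum_eq_zero fun χ _ => (h01 χ).resolve_right (hcon χ)
    omega
  obtain ⟨χ, hχ⟩ := hex
  refine ⟨χ, hχ, fun ψ hψ => ?_⟩
  by_contra hne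
  have hψ1 : f ψ = 1 := (h01 ψ).resolve_left hne
  have hnn : ∀ w ∈ (Finset.univ : Finset B), 0 ≤ f w := fun w _ => by
    rcases h01 w with h | h <;> omega
  have hle : ∑ w ∈ ({χ, ψ} : Finset B), f w ≤ ∑ w, f w :=
    Finset.sum_le_sum_of_subset_of_nonneg (Finset.subset_univ _) fun w hw _ => hnn w hw
  rw [Finset.sum_pair (Ne.symm hψ), hχ, hψ1, hs] at hle
  omega

/-- the parity trick: two norm three vectors with inner product one never carry opposite signs
on a basis vector, provided some vector separates them by an odd amount. -/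
lemma no_opposite {u v w : B → ℤ} (huu : ip u u = 3) (hvv : ip v v = 3) (huv : ip u v = 1)
    (hwu : ip w u = 1) (hwv : ip w v = 0) (χ : B) : 0 ≤ u χ * v χ := by
  by_contra hneg
  push Not at hneg
  have hD : ∑ ψ, (u ψ - v ψ) * (u ψ - v ψ) = 4 := by
    have e : ∀ ψ, (u ψ - v ψ) * (u ψ - v ψ) = u ψ * u ψ - 2 * (u ψ * v ψ) + v ψ * v ψ :=
      fun ψ => by ring
    simp only [e, Finset.sum_add_distrib, Finset.sum_sub_distrib, ← Finset.mul_sum]
    unfold ip at huu hvv huv
    rw [huu, hvv, huv]; norm_num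
  have hχ : (u χ - v χ) * (u χ - v χ) = 4 := by
    rcases val_of_norm3 huu χ with h1 | h1 | h1 <;> rcases val_of_norm3 hvv χ with h2 | h2 | h2 <;>
      rw [h1, h2] at hneg ⊢ <;> omega
  have hrest : ∀ ψ, ψ ≠ χ → u ψ - v ψ = 0 := by
    intro ψ hψ
    by_contra hne
    have hpos : 1 ≤ (u ψ - v ψ) * (u ψ - v ψ) := by
      have := mul_self_nonneg (u ψ - v ψ)
      have h0 : (u ψ - v ψ) * (u ψ - v ψ) ≠ 0 := mul_self_ne_zero.mpr hne
      omega
    have hle : ∑ w ∈ ({χ, ψ} : Finset B), (u w - v w) * (u w - v w)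
        ≤ ∑ w, (u w - v w) * (u w - v w) :=
      Finset.sum_le_sum_of_subset_of_nonneg (Finset.subset_univ _)
        fun w _ _ => mul_self_nonneg _
    rw [Finset.sum_pair (Ne.symm hψ), hχ, hD] at hle
    omega
  have hdiff : ip w u - ip w v = w χ * (u χ - v χ) := by
    unfold ip
    rw [← Finset.sum_sub_distrib]
    rw [Finset.sum_eq_single χ]
    · ring
    · intro ψ _ hψ
      have := hrest ψ hψ
      have e : w ψ * u ψ - w ψ * v ψ = w ψ * (u ψ - v ψ) := by ring
      rw [e, this, mul_zero]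
    · intro h; exact absurd (Finset.mem_univ _) h
  rw [hwu, hwv] at hdiff
  have h2 : u χ - v χ = 2 ∨ u χ - v χ = -2 := by
    have : (u χ - v χ - 2) * (u χ - v χ + 2) = 0 := by nlinarith
    rcases mul_eq_zero.mp this with h | h
    · left; omega
    · right; omega
  rcases h2 with h2 | h2 <;> rw [h2] at hdiff <;> omega

/-- the common basis vector of two compatible norm three vectors with inner product one -/
lemma exists_common {u v : B → ℤ} (huu : ip u u = 3) (hvv : ip v v = 3) (huv : ip u v = 1)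
    (hpos : ∀ χ, 0 ≤ u χ * v χ) :
    ∃ χ, u χ ≠ 0 ∧ v χ ≠ 0 ∧ ∀ ψ, u ψ ≠ 0 → v ψ ≠ 0 → ψ = χ := by
  have h01 : ∀ χ, u χ * v χ = 0 ∨ u χ * v χ = 1 := by
    intro χ
    have := hpos χ
    rcases val_of_norm3 huu χ with h1 | h1 | h1 <;> rcases val_of_norm3 hvv χ with h2 | h2 | h2 <;>
      rw [h1, h2] at this ⊢ <;> omega
  obtain ⟨χ, hχ, hrest⟩ := exists_unique_of_sum_eq_one (fun χ => u χ * v χ) h01 huv
  refine ⟨χ, ?_, ?_, ?_⟩
  · intro h0; simp only [h0, zero_mul] at hχ; omega
  · intro h0; simp only [h0, mul_zero] at hχ; omega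
  · intro ψ hu hv
    by_contra hne
    have := hrest ψ hne
    rcases mul_eq_zero.mp this with h | h
    · exact hu h
    · exact hv h

/-- equal signs on a common basis vector -/
lemma eq_of_nonneg {u v : B → ℤ} (huu : ip u u = 3) (hvv : ip v v = 3) {χ : B}
    (hpos : 0 ≤ u χ * v χ) (hu : u χ ≠ 0) (hv : v χ ≠ 0) : u χ = v χ := by
  rcases val_of_norm3 huu χ with h1 | h1 | h1 <;> rcases val_of_norm3 hvv χ with h2 | h2 | h2 <;>
    rw [h1, h2] at hpos ⊢ <;> first | rfl | (exfalso; first | exact hu h1 | exact hv h2 | omega)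

/-- the two other points of the support -/
lemma exists_others {u : B → ℤ} (h : ip u u = 3) {x : B} (hx : u x ≠ 0) :
    ∃ y z, y ≠ x ∧ z ≠ x ∧ y ≠ z ∧ u y ≠ 0 ∧ u z ≠ 0 := by
  have hmem : x ∈ Finset.univ.filter (fun χ => u χ ≠ 0) := by simp [hx]
  have hc : ((Finset.univ.filter (fun χ => u χ ≠ 0)).erase x).card = 2 := by
    rw [Finset.card_erase_of_mem hmem, supp_card h]
  obtain ⟨y, z, hyz, hS⟩ := Finset.card_eq_two.mp hc
  have hm : ∀ w, w ∈ ({y, z} : Finset B) → w ≠ x ∧ u w ≠ 0 := by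
    intro w hw
    rw [← hS, Finset.mem_erase, Finset.mem_filter] at hw
    exact ⟨hw.1, hw.2.2⟩
  exact ⟨y, z, (hm y (by simp)).1, (hm z (by simp)).1, hyz, (hm y (by simp)).2, (hm z (by simp)).2⟩

section lists

/-- the part of a sum outside a list of named points -/
def rest (l : List B) (F : B → ℤ) : ℤ := ∑ χ ∈ Finset.univ \ l.toFinset, F χ

lemma sum_eq_list_add_rest {l : List B} (hl : l.Nodup) (F : B → ℤ) :
    ∑ χ, F χ = (l.map F).sum + rest l F := by
  unfold rest
  rw [← List.sum_toFinset F hl, add_comm]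
  exact (Finset.sum_sdiff (Finset.subset_univ _)).symm

lemma rest_nonneg {l : List B} {F : B → ℤ} (h : ∀ χ, 0 ≤ F χ) : 0 ≤ rest l F :=
  Finset.sum_nonneg fun χ _ => h χ

lemma rest_mono {l : List B} {F G : B → ℤ} (h : ∀ χ, F χ ≤ G χ) : rest l F ≤ rest l G :=
  Finset.sum_le_sum fun χ _ => h χ

lemma rest_eq_zero {l : List B} {F : B → ℤ} (h : ∀ χ, χ ∉ l → F χ = 0) : rest l F = 0 := by
  refine Finset.sum_eq_zero fun χ hχ => h χ ?_
  simpa using hχ

end lists

/-- products of entries of compatible norm three vectors are dominated by squares -/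
lemma mul_le_sq {u v : B → ℤ} (huu : ip u u = 3) (hvv : ip v v = 3) (χ : B) :
    u χ * v χ ≤ u χ * u χ := by
  rcases val_of_norm3 huu χ with h1 | h1 | h1 <;> rcases val_of_norm3 hvv χ with h2 | h2 | h2 <;>
    rw [h1, h2] <;> norm_num

end Cfsg.Agent.Lib.Helper6.CycComb
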