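import Mathlib

set_option autoImplicit false

namespace Cfsg.Agent.Lib.Helper6.CycComb

theorem np_cell1 (a b c d e f g : ℤ)
    (E1 : a + b + c = 1) (E2 : a + d + e = 0) (E3 : b + d + f = 0) (E4 : a + f + g = 0)
    (hN : a * a + b * b + c * c + d * d + e * e + f * f + g * g ≤ 3) :
    (a = 0 ∧ b = 0 ∧ c = 1 ∧ d = 0 ∧ e = 0 ∧ f = 0 ∧ g = 0) ∨
    (a = 0 ∧ b = 1 ∧ c = 0 ∧ d = -1 ∧ e = 1 ∧ f = 0 ∧ g = 0) ∨
    (a = 0 ∧ b = 1 ∧ c = 0 ∧ d = 0 ∧ e = 0 ∧ f = -1 ∧ g = 1) ∨
    (a = 1 ∧ b = 0 ∧ c = 0 ∧ d = 0 ∧ e = -1 ∧ f = 0 ∧ g = -1) := by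
  have ha1 : a ≤ a * a := by nlinarith [sq_nonneg (a - 1), sq_nonneg a]
  have ha2 : -a ≤ a * a := by nlinarith [sq_nonneg (a + 1), sq_nonneg a]
  have hb1 : b ≤ b * b := by nlinarith [sq_nonneg (b - 1), sq_nonneg b]
  have hb2 : -b ≤ b * b := by nlinarith [sq_nonneg (b + 1), sq_nonneg b]
  have hc1 : c ≤ c * c := by nlinarith [sq_nonneg (c - 1), sq_nonneg c]
  have hc2 : -c ≤ c * c := by nlinarith [sq_nonneg (c + 1), sq_nonneg c]
  have hd1 : d ≤ d * d := by nlinarith [sq_nonneg (d - 1), sq_nonneg d]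
  have hd2 : -d ≤ d * d := by nlinarith [sq_nonneg (d + 1), sq_nonneg d]
  have he1 : e ≤ e * e := by nlinarith [sq_nonneg (e - 1), sq_nonneg e]
  have he2 : -e ≤ e * e := by nlinarith [sq_nonneg (e + 1), sq_nonneg e]
  have hf1 : f ≤ f * f := by nlinarith [sq_nonneg (f - 1), sq_nonneg f]
  have hf2 : -f ≤ f * f := by nlinarith [sq_nonneg (f + 1), sq_nonneg f]
  have hg1 : g ≤ g * g := by nlinarith [sq_nonneg (g - 1), sq_nonneg g]
  have hg2 : -g ≤ g * g := by nlinarith [sq_nonneg (g + 1), sq_nonneg g]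
  generalize a * a = na at *
  generalize b * b = nb at *
  generalize c * c = nc at *
  generalize d * d = nd at *
  generalize e * e = ne at *
  generalize f * f = nf at *
  generalize g * g = ng at *
  rcases (by omega : a = -1 ∨ a = 0 ∨ a = 1) with h | h | h
  · exfalso; omega
  · subst h
    rcases (by omega : b = -1 ∨ b = 0 ∨ b = 1) with h | h | h
    · exfalso; omega
    · subst h
      rcases (by omega : c = -1 ∨ c = 0 ∨ c = 1) with h | h | h
      · exfalso; omega
      · exfalso; omega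
      · subst h
        rcases (by omega : d = -1 ∨ d = 0 ∨ d = 1) with h | h | h
        · exfalso; omega
        · subst h
          rcases (by omega : e = -1 ∨ e = 0 ∨ e = 1) with h | h | h
          · exfalso; omega
          · subst h
            rcases (by omega : f = -1 ∨ f = 0 ∨ f = 1) with h | h | h
            · exfalso; omega
            · subst h
              rcases (by omega : g = -1 ∨ g = 0 ∨ g = 1) with h | h | h
              · exfalso; omega
              · subst h
                subst_vars; simp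
              · exfalso; omega
            · exfalso; omega
          · exfalso; omega
        · exfalso; omega
    · subst h
      rcases (by omega : c = -1 ∨ c = 0 ∨ c = 1) with h | h | h
      · exfalso; omega
      · subst h
        rcases (by omega : d = -1 ∨ d = 0 ∨ d = 1) with h | h | h
        · subst h
          rcases (by omega : e = -1 ∨ e = 0 ∨ e = 1) with h | h | h
          · exfalso; omega
          · exfalso; omega
          · subst h
            rcases (by omega : f = -1 ∨ f = 0 ∨ f = 1) with h | h | h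
            · exfalso; omega
            · subst h
              rcases (by omega : g = -1 ∨ g = 0 ∨ g = 1) with h | h | h
              · exfalso; omega
              · subst h
                subst_vars; simp
              · exfalso; omega
            · exfalso; omega
        · subst h
          rcases (by omega : e = -1 ∨ e = 0 ∨ e = 1) with h | h | h
          · exfalso; omega
          · subst h
            rcases (by omega : f = -1 ∨ f = 0 ∨ f = 1) with h | h | h
            · subst h
              rcases (by omega : g = -1 ∨ g = 0 ∨ g = 1) with h | h | h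
              · exfalso; omega
              · exfalso; omega
              · subst h
                subst_vars; simp
            · exfalso; omega
            · exfalso; omega
          · exfalso; omega
        · exfalso; omega
      · exfalso; omega
  · subst h
    rcases (by omega : b = -1 ∨ b = 0 ∨ b = 1) with h | h | h
    · exfalso; omega
    · subst h
      rcases (by omega : c = -1 ∨ c = 0 ∨ c = 1) with h | h | h
      · exfalso; omega
      · subst h
        rcases (by omega : d = -1 ∨ d = 0 ∨ d = 1) with h | h | h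
        · exfalso; omega
        · subst h
          rcases (by omega : e = -1 ∨ e = 0 ∨ e = 1) with h | h | h
          · subst h
            rcases (by omega : f = -1 ∨ f = 0 ∨ f = 1) with h | h | h
            · exfalso; omega
            · subst h
              rcases (by omega : g = -1 ∨ g = 0 ∨ g = 1) with h | h | h
              · subst h
                subst_vars; simp
              · exfalso; omega
              · exfalso; omega
            · exfalso; omega
          · exfalso; omega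
          · exfalso; omega
        · exfalso; omega
      · exfalso; omega
    · exfalso; omega

theorem np_cell2 (a b c d e f g : ℤ)
    (E1 : a + b + c = 0) (E2 : a + d + e = 1) (E3 : b + d + f = 0) (E4 : a + f + g = 0)
    (hN : a * a + b * b + c * c + d * d + e * e + f * f + g * g ≤ 3) :
    (a = 0 ∧ b = -1 ∧ c = 1 ∧ d = 1 ∧ e = 0 ∧ f = 0 ∧ g = 0) ∨
    (a = 0 ∧ b = 0 ∧ c = 0 ∧ d = 0 ∧ e = 1 ∧ f = 0 ∧ g = 0) ∨
    (a = 0 ∧ b = 0 ∧ c = 0 ∧ d = 1 ∧ e = 0 ∧ f = -1 ∧ g = 1) ∨
    (a = 1 ∧ b = 0 ∧ c = -1 ∧ d = 0 ∧ e = 0 ∧ f = 0 ∧ g = -1) := by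
  have ha1 : a ≤ a * a := by nlinarith [sq_nonneg (a - 1), sq_nonneg a]
  have ha2 : -a ≤ a * a := by nlinarith [sq_nonneg (a + 1), sq_nonneg a]
  have hb1 : b ≤ b * b := by nlinarith [sq_nonneg (b - 1), sq_nonneg b]
  have hb2 : -b ≤ b * b := by nlinarith [sq_nonneg (b + 1), sq_nonneg b]
  have hc1 : c ≤ c * c := by nlinarith [sq_nonneg (c - 1), sq_nonneg c]
  have hc2 : -c ≤ c * c := by nlinarith [sq_nonneg (c + 1), sq_nonneg c]
  have hd1 : d ≤ d * d := by nlinarith [sq_nonneg (d - 1), sq_nonneg d]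
  have hd2 : -d ≤ d * d := by nlinarith [sq_nonneg (d + 1), sq_nonneg d]
  have he1 : e ≤ e * e := by nlinarith [sq_nonneg (e - 1), sq_nonneg e]
  have he2 : -e ≤ e * e := by nlinarith [sq_nonneg (e + 1), sq_nonneg e]
  have hf1 : f ≤ f * f := by nlinarith [sq_nonneg (f - 1), sq_nonneg f]
  have hf2 : -f ≤ f * f := by nlinarith [sq_nonneg (f + 1), sq_nonneg f]
  have hg1 : g ≤ g * g := by nlinarith [sq_nonneg (g - 1), sq_nonneg g]
  have hg2 : -g ≤ g * g := by nlinarith [sq_nonneg (g + 1), sq_nonneg g]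
  generalize a * a = na at *
  generalize b * b = nb at *
  generalize c * c = nc at *
  generalize d * d = nd at *
  generalize e * e = ne at *
  generalize f * f = nf at *
  generalize g * g = ng at *
  rcases (by omega : a = -1 ∨ a = 0 ∨ a = 1) with h | h | h
  · exfalso; omega
  · subst h
    rcases (by omega : b = -1 ∨ b = 0 ∨ b = 1) with h | h | h
    · subst h
      rcases (by omega : c = -1 ∨ c = 0 ∨ c = 1) with h | h | h
      · exfalso; omega
      · exfalso; omega
      · subst h
        rcases (by omega : d = -1 ∨ d = 0 ∨ d = 1) with h | h | h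
        · exfalso; omega
        · exfalso; omega
        · subst h
          rcases (by omega : e = -1 ∨ e = 0 ∨ e = 1) with h | h | h
          · exfalso; omega
          · subst h
            rcases (by omega : f = -1 ∨ f = 0 ∨ f = 1) with h | h | h
            · exfalso; omega
            · subst h
              rcases (by omega : g = -1 ∨ g = 0 ∨ g = 1) with h | h | h
              · exfalso; omega
              · subst h
                subst_vars; simp
              · exfalso; omega
            · exfalso; omega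
          · exfalso; omega
    · subst h
      rcases (by omega : c = -1 ∨ c = 0 ∨ c = 1) with h | h | h
      · exfalso; omega
      · subst h
        rcases (by omega : d = -1 ∨ d = 0 ∨ d = 1) with h | h | h
        · exfalso; omega
        · subst h
          rcases (by omega : e = -1 ∨ e = 0 ∨ e = 1) with h | h | h
          · exfalso; omega
          · exfalso; omega
          · subst h
            rcases (by omega : f = -1 ∨ f = 0 ∨ f = 1) with h | h | h
            · exfalso; omega
            · subst h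
              rcases (by omega : g = -1 ∨ g = 0 ∨ g = 1) with h | h | h
              · exfalso; omega
              · subst h
                subst_vars; simp
              · exfalso; omega
            · exfalso; omega
        · subst h
          rcases (by omega : e = -1 ∨ e = 0 ∨ e = 1) with h | h | h
          · exfalso; omega
          · subst h
            rcases (by omega : f = -1 ∨ f = 0 ∨ f = 1) with h | h | h
            · subst h
              rcases (by omega : g = -1 ∨ g = 0 ∨ g = 1) with h | h | h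
              · exfalso; omega
              · exfalso; omega
              · subst h
                subst_vars; simp
            · exfalso; omega
            · exfalso; omega
          · exfalso; omega
      · exfalso; omega
    · exfalso; omega
  · subst h
    rcases (by omega : b = -1 ∨ b = 0 ∨ b = 1) with h | h | h
    · exfalso; omega
    · subst h
      rcases (by omega : c = -1 ∨ c = 0 ∨ c = 1) with h | h | h
      · subst h
        rcases (by omega : d = -1 ∨ d = 0 ∨ d = 1) with h | h | h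
        · exfalso; omega
        · subst h
          rcases (by omega : e = -1 ∨ e = 0 ∨ e = 1) with h | h | h
          · exfalso; omega
          · subst h
            rcases (by omega : f = -1 ∨ f = 0 ∨ f = 1) with h | h | h
            · exfalso; omega
            · subst h
              rcases (by omega : g = -1 ∨ g = 0 ∨ g = 1) with h | h | h
              · subst h
                subst_vars; simp
              · exfalso; omega
              · exfalso; omega
            · exfalso; omega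
          · exfalso; omega
        · exfalso; omega
      · exfalso; omega
      · exfalso; omega
    · exfalso; omega

theorem np_cell3 (a b c d e f g : ℤ)
    (E1 : a + b + c = 0) (E2 : a + d + e = 0) (E3 : b + d + f = 1) (E4 : a + f + g = 0)
    (hN : a * a + b * b + c * c + d * d + e * e + f * f + g * g ≤ 3) :
    (a = 0 ∧ b = 0 ∧ c = 0 ∧ d = 0 ∧ e = 0 ∧ f = 1 ∧ g = -1) ∨
    (a = 0 ∧ b = 0 ∧ c = 0 ∧ d = 1 ∧ e = -1 ∧ f = 0 ∧ g = 0) ∨
    (a = 0 ∧ b = 1 ∧ c = -1 ∧ d = 0 ∧ e = 0 ∧ f = 0 ∧ g = 0) := by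
  have ha1 : a ≤ a * a := by nlinarith [sq_nonneg (a - 1), sq_nonneg a]
  have ha2 : -a ≤ a * a := by nlinarith [sq_nonneg (a + 1), sq_nonneg a]
  have hb1 : b ≤ b * b := by nlinarith [sq_nonneg (b - 1), sq_nonneg b]
  have hb2 : -b ≤ b * b := by nlinarith [sq_nonneg (b + 1), sq_nonneg b]
  have hc1 : c ≤ c * c := by nlinarith [sq_nonneg (c - 1), sq_nonneg c]
  have hc2 : -c ≤ c * c := by nlinarith [sq_nonneg (c + 1), sq_nonneg c]
  have hd1 : d ≤ d * d := by nlinarith [sq_nonneg (d - 1), sq_nonneg d]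
  have hd2 : -d ≤ d * d := by nlinarith [sq_nonneg (d + 1), sq_nonneg d]
  have he1 : e ≤ e * e := by nlinarith [sq_nonneg (e - 1), sq_nonneg e]
  have he2 : -e ≤ e * e := by nlinarith [sq_nonneg (e + 1), sq_nonneg e]
  have hf1 : f ≤ f * f := by nlinarith [sq_nonneg (f - 1), sq_nonneg f]
  have hf2 : -f ≤ f * f := by nlinarith [sq_nonneg (f + 1), sq_nonneg f]
  have hg1 : g ≤ g * g := by nlinarith [sq_nonneg (g - 1), sq_nonneg g]
  have hg2 : -g ≤ g * g := by nlinarith [sq_nonneg (g + 1), sq_nonneg g]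
  generalize a * a = na at *
  generalize b * b = nb at *
  generalize c * c = nc at *
  generalize d * d = nd at *
  generalize e * e = ne at *
  generalize f * f = nf at *
  generalize g * g = ng at *
  rcases (by omega : a = -1 ∨ a = 0 ∨ a = 1) with h | h | h
  · exfalso; omega
  · subst h
    rcases (by omega : b = -1 ∨ b = 0 ∨ b = 1) with h | h | h
    · exfalso; omega
    · subst h
      rcases (by omega : c = -1 ∨ c = 0 ∨ c = 1) with h | h | h
      · exfalso; omega
      · subst h
        rcases (by omega : d = -1 ∨ d = 0 ∨ d = 1) with h | h | h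
        · exfalso; omega
        · subst h
          rcases (by omega : e = -1 ∨ e = 0 ∨ e = 1) with h | h | h
          · exfalso; omega
          · subst h
            rcases (by omega : f = -1 ∨ f = 0 ∨ f = 1) with h | h | h
            · exfalso; omega
            · exfalso; omega
            · subst h
              rcases (by omega : g = -1 ∨ g = 0 ∨ g = 1) with h | h | h
              · subst h
                subst_vars; simp
              · exfalso; omega
              · exfalso; omega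
          · exfalso; omega
        · subst h
          rcases (by omega : e = -1 ∨ e = 0 ∨ e = 1) with h | h | h
          · subst h
            rcases (by omega : f = -1 ∨ f = 0 ∨ f = 1) with h | h | h
            · exfalso; omega
            · subst h
              rcases (by omega : g = -1 ∨ g = 0 ∨ g = 1) with h | h | h
              · exfalso; omega
              · subst h
                subst_vars; simp
              · exfalso; omega
            · exfalso; omega
          · exfalso; omega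
          · exfalso; omega
      · exfalso; omega
    · subst h
      rcases (by omega : c = -1 ∨ c = 0 ∨ c = 1) with h | h | h
      · subst h
        rcases (by omega : d = -1 ∨ d = 0 ∨ d = 1) with h | h | h
        · exfalso; omega
        · subst h
          rcases (by omega : e = -1 ∨ e = 0 ∨ e = 1) with h | h | h
          · exfalso; omega
          · subst h
            rcases (by omega : f = -1 ∨ f = 0 ∨ f = 1) with h | h | h
            · exfalso; omega
            · subst h
              rcases (by omega : g = -1 ∨ g = 0 ∨ g = 1) with h | h | h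
              · exfalso; omega
              · subst h
                subst_vars; simp
              · exfalso; omega
            · exfalso; omega
          · exfalso; omega
        · exfalso; omega
      · exfalso; omega
      · exfalso; omega
  · exfalso; omega

theorem np_cell4 (a b c d e f g : ℤ)
    (E1 : a + b + c = 0) (E2 : a + d + e = 0) (E3 : b + d + f = 0) (E4 : a + f + g = 1)
    (hN : a * a + b * b + c * c + d * d + e * e + f * f + g * g ≤ 3) :
    (a = 0 ∧ b = -1 ∧ c = 1 ∧ d = 0 ∧ e = 0 ∧ f = 1 ∧ g = 0) ∨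
    (a = 0 ∧ b = 0 ∧ c = 0 ∧ d = -1 ∧ e = 1 ∧ f = 1 ∧ g = 0) ∨
    (a = 0 ∧ b = 0 ∧ c = 0 ∧ d = 0 ∧ e = 0 ∧ f = 0 ∧ g = 1) ∨
    (a = 1 ∧ b = 0 ∧ c = -1 ∧ d = 0 ∧ e = -1 ∧ f = 0 ∧ g = 0) := by
  have ha1 : a ≤ a * a := by nlinarith [sq_nonneg (a - 1), sq_nonneg a]
  have ha2 : -a ≤ a * a := by nlinarith [sq_nonneg (a + 1), sq_nonneg a]
  have hb1 : b ≤ b * b := by nlinarith [sq_nonneg (b - 1), sq_nonneg b]
  have hb2 : -b ≤ b * b := by nlinarith [sq_nonneg (b + 1), sq_nonneg b]
  have hc1 : c ≤ c * c := by nlinarith [sq_nonneg (c - 1), sq_nonneg c]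
  have hc2 : -c ≤ c * c := by nlinarith [sq_nonneg (c + 1), sq_nonneg c]
  have hd1 : d ≤ d * d := by nlinarith [sq_nonneg (d - 1), sq_nonneg d]
  have hd2 : -d ≤ d * d := by nlinarith [sq_nonneg (d + 1), sq_nonneg d]
  have he1 : e ≤ e * e := by nlinarith [sq_nonneg (e - 1), sq_nonneg e]
  have he2 : -e ≤ e * e := by nlinarith [sq_nonneg (e + 1), sq_nonneg e]
  have hf1 : f ≤ f * f := by nlinarith [sq_nonneg (f - 1), sq_nonneg f]
  have hf2 : -f ≤ f * f := by nlinarith [sq_nonneg (f + 1), sq_nonneg f]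
  have hg1 : g ≤ g * g := by nlinarith [sq_nonneg (g - 1), sq_nonneg g]
  have hg2 : -g ≤ g * g := by nlinarith [sq_nonneg (g + 1), sq_nonneg g]
  generalize a * a = na at *
  generalize b * b = nb at *
  generalize c * c = nc at *
  generalize d * d = nd at *
  generalize e * e = ne at *
  generalize f * f = nf at *
  generalize g * g = ng at *
  rcases (by omega : a = -1 ∨ a = 0 ∨ a = 1) with h | h | h
  · exfalso; omega
  · subst h
    rcases (by omega : b = -1 ∨ b = 0 ∨ b = 1) with h | h | h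
    · subst h
      rcases (by omega : c = -1 ∨ c = 0 ∨ c = 1) with h | h | h
      · exfalso; omega
      · exfalso; omega
      · subst h
        rcases (by omega : d = -1 ∨ d = 0 ∨ d = 1) with h | h | h
        · exfalso; omega
        · subst h
          rcases (by omega : e = -1 ∨ e = 0 ∨ e = 1) with h | h | h
          · exfalso; omega
          · subst h
            rcases (by omega : f = -1 ∨ f = 0 ∨ f = 1) with h | h | h
            · exfalso; omega
            · exfalso; omega
            · subst h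
              rcases (by omega : g = -1 ∨ g = 0 ∨ g = 1) with h | h | h
              · exfalso; omega
              · subst h
                subst_vars; simp
              · exfalso; omega
          · exfalso; omega
        · exfalso; omega
    · subst h
      rcases (by omega : c = -1 ∨ c = 0 ∨ c = 1) with h | h | h
      · exfalso; omega
      · subst h
        rcases (by omega : d = -1 ∨ d = 0 ∨ d = 1) with h | h | h
        · subst h
          rcases (by omega : e = -1 ∨ e = 0 ∨ e = 1) with h | h | h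
          · exfalso; omega
          · exfalso; omega
          · subst h
            rcases (by omega : f = -1 ∨ f = 0 ∨ f = 1) with h | h | h
            · exfalso; omega
            · exfalso; omega
            · subst h
              rcases (by omega : g = -1 ∨ g = 0 ∨ g = 1) with h | h | h
              · exfalso; omega
              · subst h
                subst_vars; simp
              · exfalso; omega
        · subst h
          rcases (by omega : e = -1 ∨ e = 0 ∨ e = 1) with h | h | h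
          · exfalso; omega
          · subst h
            rcases (by omega : f = -1 ∨ f = 0 ∨ f = 1) with h | h | h
            · exfalso; omega
            · subst h
              rcases (by omega : g = -1 ∨ g = 0 ∨ g = 1) with h | h | h
              · exfalso; omega
              · exfalso; omega
              · subst h
                subst_vars; simp
            · exfalso; omega
          · exfalso; omega
        · exfalso; omega
      · exfalso; omega
    · exfalso; omega
  · subst h
    rcases (by omega : b = -1 ∨ b = 0 ∨ b = 1) with h | h | h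
    · exfalso; omega
    · subst h
      rcases (by omega : c = -1 ∨ c = 0 ∨ c = 1) with h | h | h
      · subst h
        rcases (by omega : d = -1 ∨ d = 0 ∨ d = 1) with h | h | h
        · exfalso; omega
        · subst h
          rcases (by omega : e = -1 ∨ e = 0 ∨ e = 1) with h | h | h
          · subst h
            rcases (by omega : f = -1 ∨ f = 0 ∨ f = 1) with h | h | h
            · exfalso; omega
            · subst h
              rcases (by omega : g = -1 ∨ g = 0 ∨ g = 1) with h | h | h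
              · exfalso; omega
              · subst h
                subst_vars; simp
              · exfalso; omega
            · exfalso; omega
          · exfalso; omega
          · exfalso; omega
        · exfalso; omega
      · exfalso; omega
      · exfalso; omega
    · exfalso; omega

theorem core_np
    (a1 b1 c1 d1 e1 f1 g1 a2 b2 c2 d2 e2 f2 g2 a3 b3 c3 d3 e3 f3 g3 a4 b4 c4 d4 e4 f4 g4 : ℤ)
    (r1 r2 r3 r4 o12 o13 o14 o23 o24 o34 : ℤ)
    (E11 : a1 + b1 + c1 = 1) (E12 : a1 + d1 + e1 = 0) (E13 : b1 + d1 + f1 = 0) (E14 : a1 + f1 + g1 = 0)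
    (R1 : a1 * a1 + b1 * b1 + c1 * c1 + d1 * d1 + e1 * e1 + f1 * f1 + g1 * g1 + r1 = 3) (hr1 : 0 ≤ r1)
    (E21 : a2 + b2 + c2 = 0) (E22 : a2 + d2 + e2 = 1) (E23 : b2 + d2 + f2 = 0) (E24 : a2 + f2 + g2 = 0)
    (R2 : a2 * a2 + b2 * b2 + c2 * c2 + d2 * d2 + e2 * e2 + f2 * f2 + g2 * g2 + r2 = 3) (hr2 : 0 ≤ r2)
    (E31 : a3 + b3 + c3 = 0) (E32 : a3 + d3 + e3 = 0) (E33 : b3 + d3 + f3 = 1) (E34 : a3 + f3 + g3 = 0)
    (R3 : a3 * a3 + b3 * b3 + c3 * c3 + d3 * d3 + e3 * e3 + f3 * f3 + g3 * g3 + r3 = 3) (hr3 : 0 ≤ r3)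
    (E41 : a4 + b4 + c4 = 0) (E42 : a4 + d4 + e4 = 0) (E43 : b4 + d4 + f4 = 0) (E44 : a4 + f4 + g4 = 1)
    (R4 : a4 * a4 + b4 * b4 + c4 * c4 + d4 * d4 + e4 * e4 + f4 * f4 + g4 * g4 + r4 = 3) (hr4 : 0 ≤ r4)
    (S12 : 0 ≤ a1 * a2 ∧ 0 ≤ b1 * b2 ∧ 0 ≤ c1 * c2 ∧ 0 ≤ d1 * d2 ∧ 0 ≤ e1 * e2 ∧ 0 ≤ f1 * f2 ∧ 0 ≤ g1 * g2)
    (P12 : a1 * a2 + b1 * b2 + c1 * c2 + d1 * d2 + e1 * e2 + f1 * f2 + g1 * g2 + o12 = 1)
    (ho12 : 0 ≤ o12 ∧ o12 ≤ r1 ∧ o12 ≤ r2)
    (S13 : 0 ≤ a1 * a3 ∧ 0 ≤ b1 * b3 ∧ 0 ≤ c1 * c3 ∧ 0 ≤ d1 * d3 ∧ 0 ≤ e1 * e3 ∧ 0 ≤ f1 * f3 ∧ 0 ≤ g1 * g3)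
    (P13 : a1 * a3 + b1 * b3 + c1 * c3 + d1 * d3 + e1 * e3 + f1 * f3 + g1 * g3 + o13 = 1)
    (ho13 : 0 ≤ o13 ∧ o13 ≤ r1 ∧ o13 ≤ r3)
    (S14 : 0 ≤ a1 * a4 ∧ 0 ≤ b1 * b4 ∧ 0 ≤ c1 * c4 ∧ 0 ≤ d1 * d4 ∧ 0 ≤ e1 * e4 ∧ 0 ≤ f1 * f4 ∧ 0 ≤ g1 * g4)
    (P14 : a1 * a4 + b1 * b4 + c1 * c4 + d1 * d4 + e1 * e4 + f1 * f4 + g1 * g4 + o14 = 1)
    (ho14 : 0 ≤ o14 ∧ o14 ≤ r1 ∧ o14 ≤ r4)
    (S23 : 0 ≤ a2 * a3 ∧ 0 ≤ b2 * b3 ∧ 0 ≤ c2 * c3 ∧ 0 ≤ d2 * d3 ∧ 0 ≤ e2 * e3 ∧ 0 ≤ f2 * f3 ∧ 0 ≤ g2 * g3)
    (P23 : a2 * a3 + b2 * b3 + c2 * c3 + d2 * d3 + e2 * e3 + f2 * f3 + g2 * g3 + o23 = 1)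
    (ho23 : 0 ≤ o23 ∧ o23 ≤ r2 ∧ o23 ≤ r3)
    (S24 : 0 ≤ a2 * a4 ∧ 0 ≤ b2 * b4 ∧ 0 ≤ c2 * c4 ∧ 0 ≤ d2 * d4 ∧ 0 ≤ e2 * e4 ∧ 0 ≤ f2 * f4 ∧ 0 ≤ g2 * g4)
    (P24 : a2 * a4 + b2 * b4 + c2 * c4 + d2 * d4 + e2 * e4 + f2 * f4 + g2 * g4 + o24 = 1)
    (ho24 : 0 ≤ o24 ∧ o24 ≤ r2 ∧ o24 ≤ r4)
    (S34 : 0 ≤ a3 * a4 ∧ 0 ≤ b3 * b4 ∧ 0 ≤ c3 * c4 ∧ 0 ≤ d3 * d4 ∧ 0 ≤ e3 * e4 ∧ 0 ≤ f3 * f4 ∧ 0 ≤ g3 * g4)
    (P34 : a3 * a4 + b3 * b4 + c3 * c4 + d3 * d4 + e3 * e4 + f3 * f4 + g3 * g4 + o34 = 1)
    (ho34 : 0 ≤ o34 ∧ o34 ≤ r3 ∧ o34 ≤ r4)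
    : False := by
  have cl1 := np_cell1 a1 b1 c1 d1 e1 f1 g1 E11 E12 E13 E14 (by omega)
  have cl2 := np_cell2 a2 b2 c2 d2 e2 f2 g2 E21 E22 E23 E24 (by omega)
  have cl3 := np_cell3 a3 b3 c3 d3 e3 f3 g3 E31 E32 E33 E34 (by omega)
  have cl4 := np_cell4 a4 b4 c4 d4 e4 f4 g4 E41 E42 E43 E44 (by omega)
  rcases cl1 with ⟨rfl, rfl, rfl, rfl, rfl, rfl, rfl⟩ | ⟨rfl, rfl, rfl, rfl, rfl, rfl, rfl⟩ | ⟨rfl, rfl, rfl, rfl, rfl, rfl, rfl⟩ | ⟨rfl, rfl, rfl, rfl, rfl, rfl, rfl⟩
  · skip
    rcases cl2 with ⟨rfl, rfl, rfl, rfl, rfl, rfl, rfl⟩ | ⟨rfl, rfl, rfl, rfl, rfl, rfl, rfl⟩ | ⟨rfl, rfl, rfl, rfl, rfl, rfl, rfl⟩ | ⟨rfl, rfl, rfl, rfl, rfl, rfl, rfl⟩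
    · skip
      rcases cl4 with ⟨rfl, rfl, rfl, rfl, rfl, rfl, rfl⟩ | ⟨rfl, rfl, rfl, rfl, rfl, rfl, rfl⟩ | ⟨rfl, rfl, rfl, rfl, rfl, rfl, rfl⟩ | ⟨rfl, rfl, rfl, rfl, rfl, rfl, rfl⟩
      · omega
      · omega
      · omega
      · omega
    · skip
      rcases cl4 with ⟨rfl, rfl, rfl, rfl, rfl, rfl, rfl⟩ | ⟨rfl, rfl, rfl, rfl, rfl, rfl, rfl⟩ | ⟨rfl, rfl, rfl, rfl, rfl, rfl, rfl⟩ | ⟨rfl, rfl, rfl, rfl, rfl, rfl, rfl⟩
      · omega
      · omega
      · skip
        rcases cl3 with ⟨rfl, rfl, rfl, rfl, rfl, rfl, rfl⟩ | ⟨rfl, rfl, rfl, rfl, rfl, rfl, rfl⟩ | ⟨rfl, rfl, rfl, rfl, rfl, rfl, rfl⟩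
        · omega
        · omega
        · omega
      · omega
    · omega
    · omega
  · skip
    rcases cl2 with ⟨rfl, rfl, rfl, rfl, rfl, rfl, rfl⟩ | ⟨rfl, rfl, rfl, rfl, rfl, rfl, rfl⟩ | ⟨rfl, rfl, rfl, rfl, rfl, rfl, rfl⟩ | ⟨rfl, rfl, rfl, rfl, rfl, rfl, rfl⟩
    · omega
    · skip
      rcases cl4 with ⟨rfl, rfl, rfl, rfl, rfl, rfl, rfl⟩ | ⟨rfl, rfl, rfl, rfl, rfl, rfl, rfl⟩ | ⟨rfl, rfl, rfl, rfl, rfl, rfl, rfl⟩ | ⟨rfl, rfl, rfl, rfl, rfl, rfl, rfl⟩
      · omega
      · omega
      · omega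
      · omega
    · omega
    · omega
  · skip
    rcases cl2 with ⟨rfl, rfl, rfl, rfl, rfl, rfl, rfl⟩ | ⟨rfl, rfl, rfl, rfl, rfl, rfl, rfl⟩ | ⟨rfl, rfl, rfl, rfl, rfl, rfl, rfl⟩ | ⟨rfl, rfl, rfl, rfl, rfl, rfl, rfl⟩
    · omega
    · omega
    · omega
    · omega
  · skip
    rcases cl2 with ⟨rfl, rfl, rfl, rfl, rfl, rfl, rfl⟩ | ⟨rfl, rfl, rfl, rfl, rfl, rfl, rfl⟩ | ⟨rfl, rfl, rfl, rfl, rfl, rfl, rfl⟩ | ⟨rfl, rfl, rfl, rfl, rfl, rfl, rfl⟩
    · omega
    · omega
    · omega
    · omega

theorem core_k4 (a b c d e f : ℤ)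
    (E1 : a + b + c = 1) (E2 : a + d + e = 0) (E3 : b + d + f = 0) (E4 : c + e + f = 0)
    (hN : a * a + b * b + c * c + d * d + e * e + f * f ≤ 3) : False := by
  have ha1 : a ≤ a * a := by nlinarith [sq_nonneg (a - 1), sq_nonneg a]
  have ha2 : -a ≤ a * a := by nlinarith [sq_nonneg (a + 1), sq_nonneg a]
  have hb1 : b ≤ b * b := by nlinarith [sq_nonneg (b - 1), sq_nonneg b]
  have hb2 : -b ≤ b * b := by nlinarith [sq_nonneg (b + 1), sq_nonneg b]
  have hc1 : c ≤ c * c := by nlinarith [sq_nonneg (c - 1), sq_nonneg c]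
  have hc2 : -c ≤ c * c := by nlinarith [sq_nonneg (c + 1), sq_nonneg c]
  have hd1 : d ≤ d * d := by nlinarith [sq_nonneg (d - 1), sq_nonneg d]
  have hd2 : -d ≤ d * d := by nlinarith [sq_nonneg (d + 1), sq_nonneg d]
  have he1 : e ≤ e * e := by nlinarith [sq_nonneg (e - 1), sq_nonneg e]
  have he2 : -e ≤ e * e := by nlinarith [sq_nonneg (e + 1), sq_nonneg e]
  have hf1 : f ≤ f * f := by nlinarith [sq_nonneg (f - 1), sq_nonneg f]
  have hf2 : -f ≤ f * f := by nlinarith [sq_nonneg (f + 1), sq_nonneg f]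
  generalize a * a = na at *
  generalize b * b = nb at *
  generalize c * c = nc at *
  generalize d * d = nd at *
  generalize e * e = ne at *
  generalize f * f = nf at *
  omega

end Cfsg.Agent.Lib.Helper6.CycComb
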