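import Mathlib
import Cfsg.Agent.Lib.Helper6.CycComb1

set_option autoImplicit false

/-! Arrays of norm three vectors with the Gram matrix of Peterfalvi (3.5): rows, columns,
gauge normalisation and the confinement lemma. -/

namespace Cfsg.Agent.Lib.Helper6.CycComb

variable {I J B : Type*} [Fintype B] [DecidableEq B] [DecidableEq I] [DecidableEq J]

/-- the Gram matrix hypothesis -/
def Gram (b : I → J → B → ℤ) : Prop :=
  ∀ i j i' j', ip (b i j) (b i' j') =
    (if i = i' then 1 else 0) + (if j = j' then 1 else 0) +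
      (if i = i' then 1 else 0) * (if j = j' then 1 else 0)

variable {b : I → J → B → ℤ}

lemma Gram.norm (h : Gram b) (i : I) (j : J) : ip (b i j) (b i j) = 3 := by
  have := h i j i j
  simpa using this

lemma Gram.row (h : Gram b) (i : I) {j j' : J} (hj : j ≠ j') : ip (b i j) (b i j') = 1 := by
  have := h i j i j'
  simpa [hj] using this

lemma Gram.col (h : Gram b) {i i' : I} (hi : i ≠ i') (j : J) : ip (b i j) (b i' j) = 1 := by
  have := h i j i' j
  simpa [hi] using this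

lemma Gram.gen (h : Gram b) {i i' : I} (hi : i ≠ i') {j j' : J} (hj : j ≠ j') :
    ip (b i j) (b i' j') = 0 := by
  have := h i j i' j'
  simpa [hi, hj] using this

lemma Gram.transpose (h : Gram b) : Gram (fun j i => b i j) := by
  intro j i j' i'
  rw [h i j i' j']
  ring

lemma Gram.val (h : Gram b) (i : I) (j : J) (χ : B) :
    b i j χ = -1 ∨ b i j χ = 0 ∨ b i j χ = 1 := val_of_norm3 (h.norm i j) χ

/-- no opposite signs along a row -/
lemma Gram.row_nonneg (h : Gram b) {i i' : I} (hi : i ≠ i') {j j' : J} (hj : j ≠ j') (χ : B) :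
    0 ≤ b i j χ * b i j' χ :=
  no_opposite (h.norm i j) (h.norm i j') (h.row i hj) (w := b i' j)
    (h.col (Ne.symm hi) j) (h.gen (Ne.symm hi) hj) χ

/-- the common basis vector of two cells of a row -/
lemma Gram.row_common (h : Gram b) {i i' : I} (hi : i ≠ i') {j j' : J} (hj : j ≠ j') :
    ∃ χ, b i j χ ≠ 0 ∧ b i j' χ ≠ 0 ∧ ∀ ψ, b i j ψ ≠ 0 → b i j' ψ ≠ 0 → ψ = χ :=
  exists_common (h.norm i j) (h.norm i j') (h.row i hj) (h.row_nonneg hi hj)

lemma Gram.row_unique (h : Gram b) {i i' : I} (hi : i ≠ i') {j j' : J} (hj : j ≠ j') {χ ψ : B}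
    (h1 : b i j χ ≠ 0) (h2 : b i j' χ ≠ 0) (h3 : b i j ψ ≠ 0) (h4 : b i j' ψ ≠ 0) : χ = ψ := by
  obtain ⟨ζ, -, -, hζ⟩ := h.row_common hi hj
  rw [hζ χ h1 h2, hζ ψ h3 h4]

lemma Gram.row_const (h : Gram b) {i i' : I} (hi : i ≠ i') {j j' : J} (hj : j ≠ j') {χ : B}
    (h1 : b i j χ ≠ 0) (h2 : b i j' χ ≠ 0) : b i j χ = b i j' χ :=
  eq_of_nonneg (h.norm i j) (h.norm i j') (h.row_nonneg hi hj χ) h1 h2

/-- a basis vector other than the common one of two cells does not lie on both -/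
lemma Gram.row_other (h : Gram b) {i i' : I} (hi : i ≠ i') {j j' : J} (hj : j ≠ j') {χ ψ : B}
    (h1 : b i j χ ≠ 0) (h2 : b i j' χ ≠ 0) (hne : ψ ≠ χ) (h3 : b i j ψ ≠ 0) : b i j' ψ = 0 := by
  by_contra h4
  exact hne (h.row_unique hi hj h3 h4 h1 h2)

/-! ### gauge -/

/-- changing the signs of basis vectors -/
def gauge (s : B → ℤ) (b : I → J → B → ℤ) : I → J → B → ℤ := fun i j χ => s χ * b i j χ

lemma Gram.gauge (h : Gram b) {s : B → ℤ} (hs : ∀ χ, s χ * s χ = 1) :
    Gram (CycComb.gauge s b) := by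
  intro i j i' j'
  rw [← h i j i' j']
  unfold ip CycComb.gauge
  refine Finset.sum_congr rfl fun χ _ => ?_
  have := hs χ
  calc s χ * b i j χ * (s χ * b i' j' χ) = (s χ * s χ) * (b i j χ * b i' j' χ) := by ring
    _ = b i j χ * b i' j' χ := by rw [this, one_mul]

open Classical in
/-- the sign of a basis vector on a row -/
noncomputable def rowSign (b : I → J → B → ℤ) (i : I) : B → ℤ :=
  fun χ => if ∃ j, b i j χ < 0 then -1 else 1

lemma rowSign_sq (b : I → J → B → ℤ) (i : I) (χ : B) : rowSign b i χ * rowSign b i χ = 1 := by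
  unfold rowSign
  split_ifs <;> norm_num

lemma rowSign_ne_zero (b : I → J → B → ℤ) (i : I) (χ : B) : rowSign b i χ ≠ 0 := by
  unfold rowSign
  split_ifs <;> norm_num

lemma Gram.rowSign_nonneg (h : Gram b) {i i' : I} (hi : i ≠ i') (j : J) (χ : B) :
    0 ≤ CycComb.gauge (rowSign b i) b i j χ := by
  unfold CycComb.gauge rowSign
  split_ifs with hex
  · obtain ⟨j', hj'⟩ := hex
    by_cases hjj : j = j'
    · subst hjj; nlinarith
    · have := h.row_nonneg hi hjj χ
      nlinarith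
  · push Not at hex
    have := hex j
    linarith

lemma gauge_ne_zero {s : B → ℤ} (hs : ∀ χ, s χ ≠ 0) {i : I} {j : J} {χ : B} (h : b i j χ ≠ 0) :
    gauge s b i j χ ≠ 0 := mul_ne_zero (hs χ) h

lemma gauge_eq_zero {s : B → ℤ} {i : I} {j : J} {χ : B} (h : b i j χ = 0) :
    gauge s b i j χ = 0 := by
  unfold CycComb.gauge; rw [h, mul_zero]

/-- on a nonnegative row the nonzero entries are one -/
lemma Gram.eq_one (h : Gram b) {i : I} (hnn : ∀ j χ, 0 ≤ b i j χ) {j : J} {χ : B}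
    (hne : b i j χ ≠ 0) : b i j χ = 1 := by
  have := hnn j χ
  rcases h.val i j χ with h1 | h1 | h1
  · omega
  · exact absurd h1 hne
  · exact h1

/-! ### confinement -/

/-- a basis vector lying on every cell of a row (at least four columns) lies on no cell outside
that row -/
lemma Gram.confined [Fintype J] (h : Gram b) (hJ : 4 ≤ Fintype.card J) {i i' : I} (hi : i ≠ i')
    {χ : B} (hχ : ∀ j, b i j χ ≠ 0) (j : J) : b i' j χ = 0 := by
  by_contra hne
  obtain ⟨p, q, hpχ, hqχ, hpq, hp, hq⟩ := exists_others (h.norm i' j) hne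
  have hz : ∀ ψ, ψ ≠ χ → ψ ≠ p → ψ ≠ q → b i' j ψ = 0 := fun ψ h1 h2 h3 =>
    eq_zero_of_three (h.norm i' j) (Ne.symm hpχ) (Ne.symm hqχ) hpq hne hp hq h1 h2 h3
  have hcard : 2 < (Finset.univ.erase j).card := by
    rw [Finset.card_erase_of_mem (Finset.mem_univ j), Finset.card_univ]
    omega
  obtain ⟨k1, k2, k3, hk1, hk2, hk3, h12, h13, h23⟩ := Finset.two_lt_card_iff.mp hcard
  have hk : ∀ k, k ∈ Finset.univ.erase j → b i k p ≠ 0 ∨ b i k q ≠ 0 := by
    intro k hk
    have hkj : k ≠ j := (Finset.mem_erase.mp hk).1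
    have e := ip_three (b i k) (b i' j) (Ne.symm hpχ) (Ne.symm hqχ) hpq hz
    rw [h.gen hi hkj] at e
    by_contra hcon
    push Not at hcon
    rw [hcon.1, hcon.2] at e
    have : b i k χ * b i' j χ ≠ 0 := mul_ne_zero (hχ k) hne
    apply this
    linarith
  have key : ∀ k k', k ≠ k' → ∀ ψ, ψ ≠ χ → b i k ψ ≠ 0 → b i k' ψ ≠ 0 → False := by
    intro k k' hkk ψ hψ h1 h2
    exact hψ (h.row_unique hi hkk h1 h2 (hχ k) (hχ k'))
  rcases hk k1 hk1 with a1 | a1 <;> rcases hk k2 hk2 with a2 | a2 <;> rcases hk k3 hk3 with a3 | a3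
  · exact key k1 k2 h12 p hpχ a1 a2
  · exact key k1 k2 h12 p hpχ a1 a2
  · exact key k1 k3 h13 p hpχ a1 a3
  · exact key k2 k3 h23 q hqχ a2 a3
  · exact key k2 k3 h23 p hpχ a2 a3
  · exact key k1 k3 h13 q hqχ a1 a3
  · exact key k1 k2 h12 q hqχ a1 a2
  · exact key k1 k2 h12 q hqχ a1 a2

end Cfsg.Agent.Lib.Helper6.CycComb
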