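import Mathlib
import Cfsg.Agent.Lib.Helper6.CycComb2
import Cfsg.Agent.Lib.Helper6.CycComb3

set_option autoImplicit false

/-! Rows of at least four cells are sunflowers (Peterfalvi (3.5), main case analysis). -/

namespace Cfsg.Agent.Lib.Helper6.CycComb

variable {I J B : Type*} [Fintype B] [DecidableEq B] [DecidableEq I] [DecidableEq J]
variable {b : I → J → B → ℤ}

/-- the complete quadrangle configuration is impossible -/
theorem no_k4_nonneg (h : Gram b) {i i' : I} (hi : i ≠ i') (hnn : ∀ j χ, 0 ≤ b i j χ)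
    {j1 j2 j3 j4 : J} (h12 : j1 ≠ j2) (h13 : j1 ≠ j3) (h14 : j1 ≠ j4) (h23 : j2 ≠ j3)
    (h24 : j2 ≠ j4) (h34 : j3 ≠ j4) {a bb d : B}
    (ha1 : b i j1 a ≠ 0) (ha2 : b i j2 a ≠ 0) (ha3 : b i j3 a = 0) (ha4 : b i j4 a = 0)
    (hb1 : b i j1 bb ≠ 0) (hb3 : b i j3 bb ≠ 0) (hb4 : b i j4 bb = 0)
    (hd2 : b i j2 d ≠ 0) (hd3 : b i j3 d ≠ 0) (hd4 : b i j4 d = 0) : False := by
  have hba : bb ≠ a := fun e => hb3 (by rw [e]; exact ha3)
  have hda : d ≠ a := fun e => hd3 (by rw [e]; exact ha3)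
  have hb2 : b i j2 bb = 0 := h.row_other hi h12 ha1 ha2 hba hb1
  have hd1 : b i j1 d = 0 := h.row_other hi (Ne.symm h12) ha2 ha1 hda hd2
  obtain ⟨c, hc1, hc4, -⟩ := h.row_common hi h14
  obtain ⟨e, he2, he4, -⟩ := h.row_common hi h24
  obtain ⟨f, hf3, hf4, -⟩ := h.row_common hi h34
  have hca : c ≠ a := fun e => hc4 (by rw [e]; exact ha4)
  have hcb : c ≠ bb := fun e => hc4 (by rw [e]; exact hb4)
  have hea : e ≠ a := fun e' => he4 (by rw [e']; exact ha4)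
  have hed : e ≠ d := fun e' => he4 (by rw [e']; exact hd4)
  have hfb : f ≠ bb := fun e => hf4 (by rw [e]; exact hb4)
  have hfd : f ≠ d := fun e => hf4 (by rw [e]; exact hd4)
  have hc2 : b i j2 c = 0 := h.row_other hi h12 ha1 ha2 hca hc1
  have hc3 : b i j3 c = 0 := h.row_other hi h13 hb1 hb3 hcb hc1
  have he1 : b i j1 e = 0 := h.row_other hi (Ne.symm h12) ha2 ha1 hea he2
  have he3 : b i j3 e = 0 := h.row_other hi h23 hd2 hd3 hed he2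
  have hf1 : b i j1 f = 0 := h.row_other hi (Ne.symm h13) hb3 hb1 hfb hf3
  have hf2 : b i j2 f = 0 := h.row_other hi (Ne.symm h23) hd3 hd2 hfd hf3
  have n_a_bb : a ≠ bb := Ne.symm hba
  have n_a_c : a ≠ c := Ne.symm hca
  have n_a_d : a ≠ d := Ne.symm hda
  have n_a_e : a ≠ e := Ne.symm hea
  have n_a_f : a ≠ f := fun e => ha1 (by rw [e]; exact hf1)
  have n_bb_c : bb ≠ c := Ne.symm hcb
  have n_bb_d : bb ≠ d := fun e => hb1 (by rw [e]; exact hd1)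
  have n_bb_e : bb ≠ e := fun e' => hb1 (by rw [e']; exact he1)
  have n_bb_f : bb ≠ f := Ne.symm hfb
  have n_c_d : c ≠ d := fun e => hc1 (by rw [e]; exact hd1)
  have n_c_e : c ≠ e := fun e' => hc1 (by rw [e']; exact he1)
  have n_c_f : c ≠ f := fun e => hc1 (by rw [e]; exact hf1)
  have n_d_e : d ≠ e := Ne.symm hed
  have n_d_f : d ≠ f := Ne.symm hfd
  have n_e_f : e ≠ f := fun e' => he2 (by rw [e']; exact hf2)
  have z1 : ∀ χ, χ ≠ a → χ ≠ bb → χ ≠ c → b i j1 χ = 0 := fun χ h1 h2 h3 =>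
    eq_zero_of_three (h.norm i j1) n_a_bb n_a_c n_bb_c ha1 hb1 hc1 h1 h2 h3
  have z2 : ∀ χ, χ ≠ a → χ ≠ d → χ ≠ e → b i j2 χ = 0 := fun χ h1 h2 h3 =>
    eq_zero_of_three (h.norm i j2) n_a_d n_a_e n_d_e ha2 hd2 he2 h1 h2 h3
  have z3 : ∀ χ, χ ≠ bb → χ ≠ d → χ ≠ f → b i j3 χ = 0 := fun χ h1 h2 h3 =>
    eq_zero_of_three (h.norm i j3) n_bb_d n_bb_f n_d_f hb3 hd3 hf3 h1 h2 h3
  have z4 : ∀ χ, χ ≠ c → χ ≠ e → χ ≠ f → b i j4 χ = 0 := fun χ h1 h2 h3 =>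
    eq_zero_of_three (h.norm i j4) n_c_e n_c_f n_e_f hc4 he4 hf4 h1 h2 h3
  have E1 : b i' j1 a + b i' j1 bb + b i' j1 c = 1 := by
    have hq := ip_three (b i' j1) (b i j1) n_a_bb n_a_c n_bb_c z1
    rw [h.col (Ne.symm hi) j1, h.eq_one hnn ha1, h.eq_one hnn hb1, h.eq_one hnn hc1] at hq
    linarith
  have E2 : b i' j1 a + b i' j1 d + b i' j1 e = 0 := by
    have hq := ip_three (b i' j1) (b i j2) n_a_d n_a_e n_d_e z2
    rw [h.gen (Ne.symm hi) h12, h.eq_one hnn ha2, h.eq_one hnn hd2, h.eq_one hnn he2] at hq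
    linarith
  have E3 : b i' j1 bb + b i' j1 d + b i' j1 f = 0 := by
    have hq := ip_three (b i' j1) (b i j3) n_bb_d n_bb_f n_d_f z3
    rw [h.gen (Ne.symm hi) h13, h.eq_one hnn hb3, h.eq_one hnn hd3, h.eq_one hnn hf3] at hq
    linarith
  have E4 : b i' j1 c + b i' j1 e + b i' j1 f = 0 := by
    have hq := ip_three (b i' j1) (b i j4) n_c_e n_c_f n_e_f z4
    rw [h.gen (Ne.symm hi) h14, h.eq_one hnn hc4, h.eq_one hnn he4, h.eq_one hnn hf4] at hq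
    linarith
  have hL : ([a, bb, c, d, e, f] : List B).Nodup := by
    simp [n_a_bb, n_a_c, n_a_d, n_a_e, n_a_f, n_bb_c, n_bb_d, n_bb_e, n_bb_f, n_c_d, n_c_e, n_c_f,
      n_d_e, n_d_f, n_e_f]
  have hN : b i' j1 a * b i' j1 a + b i' j1 bb * b i' j1 bb + b i' j1 c * b i' j1 c +
      b i' j1 d * b i' j1 d + b i' j1 e * b i' j1 e + b i' j1 f * b i' j1 f ≤ 3 := by
    have hq := sum_eq_list_add_rest hL (fun χ => b i' j1 χ * b i' j1 χ)
    have e3 : ∑ χ, b i' j1 χ * b i' j1 χ = 3 := h.norm i' j1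
    rw [e3] at hq
    simp only [List.map_cons, List.map_nil, List.sum_cons, List.sum_nil] at hq
    have := rest_nonneg (l := [a, bb, c, d, e, f]) (F := fun χ => b i' j1 χ * b i' j1 χ)
      (fun χ => mul_self_nonneg _)
    linarith
  exact core_k4 _ _ _ _ _ _ E1 E2 E3 E4 hN

/-- the near-pencil configuration is impossible -/
theorem no_np_nonneg (h : Gram b) {i i' : I} (hi : i ≠ i') (hnn : ∀ j χ, 0 ≤ b i j χ)
    {j1 j2 j3 j4 : J} (h12 : j1 ≠ j2) (h13 : j1 ≠ j3) (h14 : j1 ≠ j4) (h23 : j2 ≠ j3)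
    (h24 : j2 ≠ j4) (h34 : j3 ≠ j4) {a : B}
    (ha1 : b i j1 a ≠ 0) (ha2 : b i j2 a ≠ 0) (ha3 : b i j3 a = 0) (ha4 : b i j4 a ≠ 0) :
    False := by
  obtain ⟨bb, hb1, hb3, -⟩ := h.row_common hi h13
  obtain ⟨d, hd2, hd3, -⟩ := h.row_common hi h23
  obtain ⟨f, hf3, hf4, -⟩ := h.row_common hi h34
  have hba : bb ≠ a := fun e => hb3 (by rw [e]; exact ha3)
  have hda : d ≠ a := fun e => hd3 (by rw [e]; exact ha3)
  have hfa : f ≠ a := fun e => hf3 (by rw [e]; exact ha3)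
  have hb2 : b i j2 bb = 0 := h.row_other hi h12 ha1 ha2 hba hb1
  have hb4 : b i j4 bb = 0 := h.row_other hi h14 ha1 ha4 hba hb1
  have hd1 : b i j1 d = 0 := h.row_other hi (Ne.symm h12) ha2 ha1 hda hd2
  have hd4 : b i j4 d = 0 := h.row_other hi h24 ha2 ha4 hda hd2
  have hf1 : b i j1 f = 0 := h.row_other hi (Ne.symm h14) ha4 ha1 hfa hf4
  have hf2 : b i j2 f = 0 := h.row_other hi (Ne.symm h24) ha4 ha2 hfa hf4
  obtain ⟨c, hca, hcb, hc1⟩ := exists_third (h.norm i j1) (Ne.symm hba) ha1 hb1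
  obtain ⟨e, hea, hed, he2⟩ := exists_third (h.norm i j2) (Ne.symm hda) ha2 hd2
  obtain ⟨g, hga, hgf, hg4⟩ := exists_third (h.norm i j4) (Ne.symm hfa) ha4 hf4
  have hc2 : b i j2 c = 0 := h.row_other hi h12 ha1 ha2 hca hc1
  have hc4 : b i j4 c = 0 := h.row_other hi h14 ha1 ha4 hca hc1
  have hc3 : b i j3 c = 0 := h.row_other hi h13 hb1 hb3 hcb hc1
  have he1 : b i j1 e = 0 := h.row_other hi (Ne.symm h12) ha2 ha1 hea he2
  have he4 : b i j4 e = 0 := h.row_other hi h24 ha2 ha4 hea he2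
  have he3 : b i j3 e = 0 := h.row_other hi h23 hd2 hd3 hed he2
  have hg1 : b i j1 g = 0 := h.row_other hi (Ne.symm h14) ha4 ha1 hga hg4
  have hg2 : b i j2 g = 0 := h.row_other hi (Ne.symm h24) ha4 ha2 hga hg4
  have hg3 : b i j3 g = 0 := h.row_other hi (Ne.symm h34) hf4 hf3 hgf hg4
  have n_a_bb : a ≠ bb := Ne.symm hba
  have n_a_c : a ≠ c := Ne.symm hca
  have n_a_d : a ≠ d := Ne.symm hda
  have n_a_e : a ≠ e := Ne.symm hea
  have n_a_f : a ≠ f := Ne.symm hfa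
  have n_a_g : a ≠ g := Ne.symm hga
  have n_bb_c : bb ≠ c := Ne.symm hcb
  have n_bb_d : bb ≠ d := fun e => hb1 (by rw [e]; exact hd1)
  have n_bb_e : bb ≠ e := fun e => hb1 (by rw [e]; exact he1)
  have n_bb_f : bb ≠ f := fun e => hb1 (by rw [e]; exact hf1)
  have n_bb_g : bb ≠ g := fun e => hb1 (by rw [e]; exact hg1)
  have n_c_d : c ≠ d := fun e => hc1 (by rw [e]; exact hd1)
  have n_c_e : c ≠ e := fun e => hc1 (by rw [e]; exact he1)
  have n_c_f : c ≠ f := fun e => hc1 (by rw [e]; exact hf1)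
  have n_c_g : c ≠ g := fun e => hc1 (by rw [e]; exact hg1)
  have n_d_e : d ≠ e := Ne.symm hed
  have n_d_f : d ≠ f := fun e => hd2 (by rw [e]; exact hf2)
  have n_d_g : d ≠ g := fun e => hd2 (by rw [e]; exact hg2)
  have n_e_f : e ≠ f := fun e => he2 (by rw [e]; exact hf2)
  have n_e_g : e ≠ g := fun e => he2 (by rw [e]; exact hg2)
  have n_f_g : f ≠ g := Ne.symm hgf
  have z1 : ∀ χ, χ ≠ a → χ ≠ bb → χ ≠ c → b i j1 χ = 0 := fun χ h1 h2 h3 =>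
    eq_zero_of_three (h.norm i j1) n_a_bb n_a_c n_bb_c ha1 hb1 hc1 h1 h2 h3
  have o_a1 : b i j1 a = 1 := h.eq_one hnn ha1
  have o_bb1 : b i j1 bb = 1 := h.eq_one hnn hb1
  have o_c1 : b i j1 c = 1 := h.eq_one hnn hc1
  have z2 : ∀ χ, χ ≠ a → χ ≠ d → χ ≠ e → b i j2 χ = 0 := fun χ h1 h2 h3 =>
    eq_zero_of_three (h.norm i j2) n_a_d n_a_e n_d_e ha2 hd2 he2 h1 h2 h3
  have o_a2 : b i j2 a = 1 := h.eq_one hnn ha2
  have o_d2 : b i j2 d = 1 := h.eq_one hnn hd2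
  have o_e2 : b i j2 e = 1 := h.eq_one hnn he2
  have z3 : ∀ χ, χ ≠ bb → χ ≠ d → χ ≠ f → b i j3 χ = 0 := fun χ h1 h2 h3 =>
    eq_zero_of_three (h.norm i j3) n_bb_d n_bb_f n_d_f hb3 hd3 hf3 h1 h2 h3
  have o_bb3 : b i j3 bb = 1 := h.eq_one hnn hb3
  have o_d3 : b i j3 d = 1 := h.eq_one hnn hd3
  have o_f3 : b i j3 f = 1 := h.eq_one hnn hf3
  have z4 : ∀ χ, χ ≠ a → χ ≠ f → χ ≠ g → b i j4 χ = 0 := fun χ h1 h2 h3 =>
    eq_zero_of_three (h.norm i j4) n_a_f n_a_g n_f_g ha4 hf4 hg4 h1 h2 h3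
  have o_a4 : b i j4 a = 1 := h.eq_one hnn ha4
  have o_f4 : b i j4 f = 1 := h.eq_one hnn hf4
  have o_g4 : b i j4 g = 1 := h.eq_one hnn hg4
  have hL : ([a, bb, c, d, e, f, g] : List B).Nodup := by
    simp [n_a_bb, n_a_c, n_a_d, n_a_e, n_a_f, n_a_g, n_bb_c, n_bb_d, n_bb_e, n_bb_f, n_bb_g, n_c_d, n_c_e, n_c_f, n_c_g, n_d_e, n_d_f, n_d_g, n_e_f, n_e_g, n_f_g]
  have E11 : b i' j1 a + b i' j1 bb + b i' j1 c = 1 := by
    have hq := ip_three (b i' j1) (b i j1) n_a_bb n_a_c n_bb_c z1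
    rw [h.col (Ne.symm hi) j1, o_a1, o_bb1, o_c1] at hq; linarith
  have E12 : b i' j1 a + b i' j1 d + b i' j1 e = 0 := by
    have hq := ip_three (b i' j1) (b i j2) n_a_d n_a_e n_d_e z2
    rw [h.gen (Ne.symm hi) h12, o_a2, o_d2, o_e2] at hq; linarith
  have E13 : b i' j1 bb + b i' j1 d + b i' j1 f = 0 := by
    have hq := ip_three (b i' j1) (b i j3) n_bb_d n_bb_f n_d_f z3
    rw [h.gen (Ne.symm hi) h13, o_bb3, o_d3, o_f3] at hq; linarith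
  have E14 : b i' j1 a + b i' j1 f + b i' j1 g = 0 := by
    have hq := ip_three (b i' j1) (b i j4) n_a_f n_a_g n_f_g z4
    rw [h.gen (Ne.symm hi) h14, o_a4, o_f4, o_g4] at hq; linarith
  have E21 : b i' j2 a + b i' j2 bb + b i' j2 c = 0 := by
    have hq := ip_three (b i' j2) (b i j1) n_a_bb n_a_c n_bb_c z1
    rw [h.gen (Ne.symm hi) (Ne.symm h12), o_a1, o_bb1, o_c1] at hq; linarith
  have E22 : b i' j2 a + b i' j2 d + b i' j2 e = 1 := by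
    have hq := ip_three (b i' j2) (b i j2) n_a_d n_a_e n_d_e z2
    rw [h.col (Ne.symm hi) j2, o_a2, o_d2, o_e2] at hq; linarith
  have E23 : b i' j2 bb + b i' j2 d + b i' j2 f = 0 := by
    have hq := ip_three (b i' j2) (b i j3) n_bb_d n_bb_f n_d_f z3
    rw [h.gen (Ne.symm hi) h23, o_bb3, o_d3, o_f3] at hq; linarith
  have E24 : b i' j2 a + b i' j2 f + b i' j2 g = 0 := by
    have hq := ip_three (b i' j2) (b i j4) n_a_f n_a_g n_f_g z4
    rw [h.gen (Ne.symm hi) h24, o_a4, o_f4, o_g4] at hq; linarith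
  have E31 : b i' j3 a + b i' j3 bb + b i' j3 c = 0 := by
    have hq := ip_three (b i' j3) (b i j1) n_a_bb n_a_c n_bb_c z1
    rw [h.gen (Ne.symm hi) (Ne.symm h13), o_a1, o_bb1, o_c1] at hq; linarith
  have E32 : b i' j3 a + b i' j3 d + b i' j3 e = 0 := by
    have hq := ip_three (b i' j3) (b i j2) n_a_d n_a_e n_d_e z2
    rw [h.gen (Ne.symm hi) (Ne.symm h23), o_a2, o_d2, o_e2] at hq; linarith
  have E33 : b i' j3 bb + b i' j3 d + b i' j3 f = 1 := by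
    have hq := ip_three (b i' j3) (b i j3) n_bb_d n_bb_f n_d_f z3
    rw [h.col (Ne.symm hi) j3, o_bb3, o_d3, o_f3] at hq; linarith
  have E34 : b i' j3 a + b i' j3 f + b i' j3 g = 0 := by
    have hq := ip_three (b i' j3) (b i j4) n_a_f n_a_g n_f_g z4
    rw [h.gen (Ne.symm hi) h34, o_a4, o_f4, o_g4] at hq; linarith
  have E41 : b i' j4 a + b i' j4 bb + b i' j4 c = 0 := by
    have hq := ip_three (b i' j4) (b i j1) n_a_bb n_a_c n_bb_c z1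
    rw [h.gen (Ne.symm hi) (Ne.symm h14), o_a1, o_bb1, o_c1] at hq; linarith
  have E42 : b i' j4 a + b i' j4 d + b i' j4 e = 0 := by
    have hq := ip_three (b i' j4) (b i j2) n_a_d n_a_e n_d_e z2
    rw [h.gen (Ne.symm hi) (Ne.symm h24), o_a2, o_d2, o_e2] at hq; linarith
  have E43 : b i' j4 bb + b i' j4 d + b i' j4 f = 0 := by
    have hq := ip_three (b i' j4) (b i j3) n_bb_d n_bb_f n_d_f z3
    rw [h.gen (Ne.symm hi) (Ne.symm h34), o_bb3, o_d3, o_f3] at hq; linarith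
  have E44 : b i' j4 a + b i' j4 f + b i' j4 g = 1 := by
    have hq := ip_three (b i' j4) (b i j4) n_a_f n_a_g n_f_g z4
    rw [h.col (Ne.symm hi) j4, o_a4, o_f4, o_g4] at hq; linarith
  have R1 : b i' j1 a * b i' j1 a + b i' j1 bb * b i' j1 bb + b i' j1 c * b i' j1 c + b i' j1 d * b i' j1 d + b i' j1 e * b i' j1 e + b i' j1 f * b i' j1 f + b i' j1 g * b i' j1 g + rest [a, bb, c, d, e, f, g] (fun χ => b i' j1 χ * b i' j1 χ) = 3 := by
    have hq := sum_eq_list_add_rest hL (fun χ => b i' j1 χ * b i' j1 χ)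
    have e3 : ∑ χ, b i' j1 χ * b i' j1 χ = 3 := h.norm i' j1
    rw [e3] at hq
    simp only [List.map_cons, List.map_nil, List.sum_cons, List.sum_nil] at hq
    linarith
  have hr1 : 0 ≤ rest [a, bb, c, d, e, f, g] (fun χ => b i' j1 χ * b i' j1 χ) :=
    rest_nonneg fun χ => mul_self_nonneg _
  have R2 : b i' j2 a * b i' j2 a + b i' j2 bb * b i' j2 bb + b i' j2 c * b i' j2 c + b i' j2 d * b i' j2 d + b i' j2 e * b i' j2 e + b i' j2 f * b i' j2 f + b i' j2 g * b i' j2 g + rest [a, bb, c, d, e, f, g] (fun χ => b i' j2 χ * b i' j2 χ) = 3 := by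
    have hq := sum_eq_list_add_rest hL (fun χ => b i' j2 χ * b i' j2 χ)
    have e3 : ∑ χ, b i' j2 χ * b i' j2 χ = 3 := h.norm i' j2
    rw [e3] at hq
    simp only [List.map_cons, List.map_nil, List.sum_cons, List.sum_nil] at hq
    linarith
  have hr2 : 0 ≤ rest [a, bb, c, d, e, f, g] (fun χ => b i' j2 χ * b i' j2 χ) :=
    rest_nonneg fun χ => mul_self_nonneg _
  have R3 : b i' j3 a * b i' j3 a + b i' j3 bb * b i' j3 bb + b i' j3 c * b i' j3 c + b i' j3 d * b i' j3 d + b i' j3 e * b i' j3 e + b i' j3 f * b i' j3 f + b i' j3 g * b i' j3 g + rest [a, bb, c, d, e, f, g] (fun χ => b i' j3 χ * b i' j3 χ) = 3 := by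
    have hq := sum_eq_list_add_rest hL (fun χ => b i' j3 χ * b i' j3 χ)
    have e3 : ∑ χ, b i' j3 χ * b i' j3 χ = 3 := h.norm i' j3
    rw [e3] at hq
    simp only [List.map_cons, List.map_nil, List.sum_cons, List.sum_nil] at hq
    linarith
  have hr3 : 0 ≤ rest [a, bb, c, d, e, f, g] (fun χ => b i' j3 χ * b i' j3 χ) :=
    rest_nonneg fun χ => mul_self_nonneg _
  have R4 : b i' j4 a * b i' j4 a + b i' j4 bb * b i' j4 bb + b i' j4 c * b i' j4 c + b i' j4 d * b i' j4 d + b i' j4 e * b i' j4 e + b i' j4 f * b i' j4 f + b i' j4 g * b i' j4 g + rest [a, bb, c, d, e, f, g] (fun χ => b i' j4 χ * b i' j4 χ) = 3 := by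
    have hq := sum_eq_list_add_rest hL (fun χ => b i' j4 χ * b i' j4 χ)
    have e3 : ∑ χ, b i' j4 χ * b i' j4 χ = 3 := h.norm i' j4
    rw [e3] at hq
    simp only [List.map_cons, List.map_nil, List.sum_cons, List.sum_nil] at hq
    linarith
  have hr4 : 0 ≤ rest [a, bb, c, d, e, f, g] (fun χ => b i' j4 χ * b i' j4 χ) :=
    rest_nonneg fun χ => mul_self_nonneg _
  have S12 : 0 ≤ b i' j1 a * b i' j2 a ∧ 0 ≤ b i' j1 bb * b i' j2 bb ∧ 0 ≤ b i' j1 c * b i' j2 c ∧ 0 ≤ b i' j1 d * b i' j2 d ∧ 0 ≤ b i' j1 e * b i' j2 e ∧ 0 ≤ b i' j1 f * b i' j2 f ∧ 0 ≤ b i' j1 g * b i' j2 g :=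
    ⟨h.row_nonneg (Ne.symm hi) h12 a, h.row_nonneg (Ne.symm hi) h12 bb, h.row_nonneg (Ne.symm hi) h12 c, h.row_nonneg (Ne.symm hi) h12 d, h.row_nonneg (Ne.symm hi) h12 e, h.row_nonneg (Ne.symm hi) h12 f, h.row_nonneg (Ne.symm hi) h12 g⟩
  have P12 : b i' j1 a * b i' j2 a + b i' j1 bb * b i' j2 bb + b i' j1 c * b i' j2 c + b i' j1 d * b i' j2 d + b i' j1 e * b i' j2 e + b i' j1 f * b i' j2 f + b i' j1 g * b i' j2 g + rest [a, bb, c, d, e, f, g] (fun χ => b i' j1 χ * b i' j2 χ) = 1 := by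
    have hq := sum_eq_list_add_rest hL (fun χ => b i' j1 χ * b i' j2 χ)
    have e3 : ∑ χ, b i' j1 χ * b i' j2 χ = 1 := h.row i' h12
    rw [e3] at hq
    simp only [List.map_cons, List.map_nil, List.sum_cons, List.sum_nil] at hq
    linarith
  have ho12 : 0 ≤ rest [a, bb, c, d, e, f, g] (fun χ => b i' j1 χ * b i' j2 χ) ∧
      rest [a, bb, c, d, e, f, g] (fun χ => b i' j1 χ * b i' j2 χ) ≤ rest [a, bb, c, d, e, f, g] (fun χ => b i' j1 χ * b i' j1 χ) ∧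
      rest [a, bb, c, d, e, f, g] (fun χ => b i' j1 χ * b i' j2 χ) ≤ rest [a, bb, c, d, e, f, g] (fun χ => b i' j2 χ * b i' j2 χ) :=
    ⟨rest_nonneg fun χ => h.row_nonneg (Ne.symm hi) h12 χ,
      rest_mono fun χ => mul_le_sq (h.norm i' j1) (h.norm i' j2) χ,
      rest_mono fun χ => (mul_comm _ _).trans_le (mul_le_sq (h.norm i' j2) (h.norm i' j1) χ)⟩
  have S13 : 0 ≤ b i' j1 a * b i' j3 a ∧ 0 ≤ b i' j1 bb * b i' j3 bb ∧ 0 ≤ b i' j1 c * b i' j3 c ∧ 0 ≤ b i' j1 d * b i' j3 d ∧ 0 ≤ b i' j1 e * b i' j3 e ∧ 0 ≤ b i' j1 f * b i' j3 f ∧ 0 ≤ b i' j1 g * b i' j3 g :=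
    ⟨h.row_nonneg (Ne.symm hi) h13 a, h.row_nonneg (Ne.symm hi) h13 bb, h.row_nonneg (Ne.symm hi) h13 c, h.row_nonneg (Ne.symm hi) h13 d, h.row_nonneg (Ne.symm hi) h13 e, h.row_nonneg (Ne.symm hi) h13 f, h.row_nonneg (Ne.symm hi) h13 g⟩
  have P13 : b i' j1 a * b i' j3 a + b i' j1 bb * b i' j3 bb + b i' j1 c * b i' j3 c + b i' j1 d * b i' j3 d + b i' j1 e * b i' j3 e + b i' j1 f * b i' j3 f + b i' j1 g * b i' j3 g + rest [a, bb, c, d, e, f, g] (fun χ => b i' j1 χ * b i' j3 χ) = 1 := by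
    have hq := sum_eq_list_add_rest hL (fun χ => b i' j1 χ * b i' j3 χ)
    have e3 : ∑ χ, b i' j1 χ * b i' j3 χ = 1 := h.row i' h13
    rw [e3] at hq
    simp only [List.map_cons, List.map_nil, List.sum_cons, List.sum_nil] at hq
    linarith
  have ho13 : 0 ≤ rest [a, bb, c, d, e, f, g] (fun χ => b i' j1 χ * b i' j3 χ) ∧
      rest [a, bb, c, d, e, f, g] (fun χ => b i' j1 χ * b i' j3 χ) ≤ rest [a, bb, c, d, e, f, g] (fun χ => b i' j1 χ * b i' j1 χ) ∧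
      rest [a, bb, c, d, e, f, g] (fun χ => b i' j1 χ * b i' j3 χ) ≤ rest [a, bb, c, d, e, f, g] (fun χ => b i' j3 χ * b i' j3 χ) :=
    ⟨rest_nonneg fun χ => h.row_nonneg (Ne.symm hi) h13 χ,
      rest_mono fun χ => mul_le_sq (h.norm i' j1) (h.norm i' j3) χ,
      rest_mono fun χ => (mul_comm _ _).trans_le (mul_le_sq (h.norm i' j3) (h.norm i' j1) χ)⟩
  have S14 : 0 ≤ b i' j1 a * b i' j4 a ∧ 0 ≤ b i' j1 bb * b i' j4 bb ∧ 0 ≤ b i' j1 c * b i' j4 c ∧ 0 ≤ b i' j1 d * b i' j4 d ∧ 0 ≤ b i' j1 e * b i' j4 e ∧ 0 ≤ b i' j1 f * b i' j4 f ∧ 0 ≤ b i' j1 g * b i' j4 g :=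
    ⟨h.row_nonneg (Ne.symm hi) h14 a, h.row_nonneg (Ne.symm hi) h14 bb, h.row_nonneg (Ne.symm hi) h14 c, h.row_nonneg (Ne.symm hi) h14 d, h.row_nonneg (Ne.symm hi) h14 e, h.row_nonneg (Ne.symm hi) h14 f, h.row_nonneg (Ne.symm hi) h14 g⟩
  have P14 : b i' j1 a * b i' j4 a + b i' j1 bb * b i' j4 bb + b i' j1 c * b i' j4 c + b i' j1 d * b i' j4 d + b i' j1 e * b i' j4 e + b i' j1 f * b i' j4 f + b i' j1 g * b i' j4 g + rest [a, bb, c, d, e, f, g] (fun χ => b i' j1 χ * b i' j4 χ) = 1 := by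
    have hq := sum_eq_list_add_rest hL (fun χ => b i' j1 χ * b i' j4 χ)
    have e3 : ∑ χ, b i' j1 χ * b i' j4 χ = 1 := h.row i' h14
    rw [e3] at hq
    simp only [List.map_cons, List.map_nil, List.sum_cons, List.sum_nil] at hq
    linarith
  have ho14 : 0 ≤ rest [a, bb, c, d, e, f, g] (fun χ => b i' j1 χ * b i' j4 χ) ∧
      rest [a, bb, c, d, e, f, g] (fun χ => b i' j1 χ * b i' j4 χ) ≤ rest [a, bb, c, d, e, f, g] (fun χ => b i' j1 χ * b i' j1 χ) ∧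
      rest [a, bb, c, d, e, f, g] (fun χ => b i' j1 χ * b i' j4 χ) ≤ rest [a, bb, c, d, e, f, g] (fun χ => b i' j4 χ * b i' j4 χ) :=
    ⟨rest_nonneg fun χ => h.row_nonneg (Ne.symm hi) h14 χ,
      rest_mono fun χ => mul_le_sq (h.norm i' j1) (h.norm i' j4) χ,
      rest_mono fun χ => (mul_comm _ _).trans_le (mul_le_sq (h.norm i' j4) (h.norm i' j1) χ)⟩
  have S23 : 0 ≤ b i' j2 a * b i' j3 a ∧ 0 ≤ b i' j2 bb * b i' j3 bb ∧ 0 ≤ b i' j2 c * b i' j3 c ∧ 0 ≤ b i' j2 d * b i' j3 d ∧ 0 ≤ b i' j2 e * b i' j3 e ∧ 0 ≤ b i' j2 f * b i' j3 f ∧ 0 ≤ b i' j2 g * b i' j3 g :=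
    ⟨h.row_nonneg (Ne.symm hi) h23 a, h.row_nonneg (Ne.symm hi) h23 bb, h.row_nonneg (Ne.symm hi) h23 c, h.row_nonneg (Ne.symm hi) h23 d, h.row_nonneg (Ne.symm hi) h23 e, h.row_nonneg (Ne.symm hi) h23 f, h.row_nonneg (Ne.symm hi) h23 g⟩
  have P23 : b i' j2 a * b i' j3 a + b i' j2 bb * b i' j3 bb + b i' j2 c * b i' j3 c + b i' j2 d * b i' j3 d + b i' j2 e * b i' j3 e + b i' j2 f * b i' j3 f + b i' j2 g * b i' j3 g + rest [a, bb, c, d, e, f, g] (fun χ => b i' j2 χ * b i' j3 χ) = 1 := by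
    have hq := sum_eq_list_add_rest hL (fun χ => b i' j2 χ * b i' j3 χ)
    have e3 : ∑ χ, b i' j2 χ * b i' j3 χ = 1 := h.row i' h23
    rw [e3] at hq
    simp only [List.map_cons, List.map_nil, List.sum_cons, List.sum_nil] at hq
    linarith
  have ho23 : 0 ≤ rest [a, bb, c, d, e, f, g] (fun χ => b i' j2 χ * b i' j3 χ) ∧
      rest [a, bb, c, d, e, f, g] (fun χ => b i' j2 χ * b i' j3 χ) ≤ rest [a, bb, c, d, e, f, g] (fun χ => b i' j2 χ * b i' j2 χ) ∧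
      rest [a, bb, c, d, e, f, g] (fun χ => b i' j2 χ * b i' j3 χ) ≤ rest [a, bb, c, d, e, f, g] (fun χ => b i' j3 χ * b i' j3 χ) :=
    ⟨rest_nonneg fun χ => h.row_nonneg (Ne.symm hi) h23 χ,
      rest_mono fun χ => mul_le_sq (h.norm i' j2) (h.norm i' j3) χ,
      rest_mono fun χ => (mul_comm _ _).trans_le (mul_le_sq (h.norm i' j3) (h.norm i' j2) χ)⟩
  have S24 : 0 ≤ b i' j2 a * b i' j4 a ∧ 0 ≤ b i' j2 bb * b i' j4 bb ∧ 0 ≤ b i' j2 c * b i' j4 c ∧ 0 ≤ b i' j2 d * b i' j4 d ∧ 0 ≤ b i' j2 e * b i' j4 e ∧ 0 ≤ b i' j2 f * b i' j4 f ∧ 0 ≤ b i' j2 g * b i' j4 g :=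
    ⟨h.row_nonneg (Ne.symm hi) h24 a, h.row_nonneg (Ne.symm hi) h24 bb, h.row_nonneg (Ne.symm hi) h24 c, h.row_nonneg (Ne.symm hi) h24 d, h.row_nonneg (Ne.symm hi) h24 e, h.row_nonneg (Ne.symm hi) h24 f, h.row_nonneg (Ne.symm hi) h24 g⟩
  have P24 : b i' j2 a * b i' j4 a + b i' j2 bb * b i' j4 bb + b i' j2 c * b i' j4 c + b i' j2 d * b i' j4 d + b i' j2 e * b i' j4 e + b i' j2 f * b i' j4 f + b i' j2 g * b i' j4 g + rest [a, bb, c, d, e, f, g] (fun χ => b i' j2 χ * b i' j4 χ) = 1 := by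
    have hq := sum_eq_list_add_rest hL (fun χ => b i' j2 χ * b i' j4 χ)
    have e3 : ∑ χ, b i' j2 χ * b i' j4 χ = 1 := h.row i' h24
    rw [e3] at hq
    simp only [List.map_cons, List.map_nil, List.sum_cons, List.sum_nil] at hq
    linarith
  have ho24 : 0 ≤ rest [a, bb, c, d, e, f, g] (fun χ => b i' j2 χ * b i' j4 χ) ∧
      rest [a, bb, c, d, e, f, g] (fun χ => b i' j2 χ * b i' j4 χ) ≤ rest [a, bb, c, d, e, f, g] (fun χ => b i' j2 χ * b i' j2 χ) ∧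
      rest [a, bb, c, d, e, f, g] (fun χ => b i' j2 χ * b i' j4 χ) ≤ rest [a, bb, c, d, e, f, g] (fun χ => b i' j4 χ * b i' j4 χ) :=
    ⟨rest_nonneg fun χ => h.row_nonneg (Ne.symm hi) h24 χ,
      rest_mono fun χ => mul_le_sq (h.norm i' j2) (h.norm i' j4) χ,
      rest_mono fun χ => (mul_comm _ _).trans_le (mul_le_sq (h.norm i' j4) (h.norm i' j2) χ)⟩
  have S34 : 0 ≤ b i' j3 a * b i' j4 a ∧ 0 ≤ b i' j3 bb * b i' j4 bb ∧ 0 ≤ b i' j3 c * b i' j4 c ∧ 0 ≤ b i' j3 d * b i' j4 d ∧ 0 ≤ b i' j3 e * b i' j4 e ∧ 0 ≤ b i' j3 f * b i' j4 f ∧ 0 ≤ b i' j3 g * b i' j4 g :=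
    ⟨h.row_nonneg (Ne.symm hi) h34 a, h.row_nonneg (Ne.symm hi) h34 bb, h.row_nonneg (Ne.symm hi) h34 c, h.row_nonneg (Ne.symm hi) h34 d, h.row_nonneg (Ne.symm hi) h34 e, h.row_nonneg (Ne.symm hi) h34 f, h.row_nonneg (Ne.symm hi) h34 g⟩
  have P34 : b i' j3 a * b i' j4 a + b i' j3 bb * b i' j4 bb + b i' j3 c * b i' j4 c + b i' j3 d * b i' j4 d + b i' j3 e * b i' j4 e + b i' j3 f * b i' j4 f + b i' j3 g * b i' j4 g + rest [a, bb, c, d, e, f, g] (fun χ => b i' j3 χ * b i' j4 χ) = 1 := by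
    have hq := sum_eq_list_add_rest hL (fun χ => b i' j3 χ * b i' j4 χ)
    have e3 : ∑ χ, b i' j3 χ * b i' j4 χ = 1 := h.row i' h34
    rw [e3] at hq
    simp only [List.map_cons, List.map_nil, List.sum_cons, List.sum_nil] at hq
    linarith
  have ho34 : 0 ≤ rest [a, bb, c, d, e, f, g] (fun χ => b i' j3 χ * b i' j4 χ) ∧
      rest [a, bb, c, d, e, f, g] (fun χ => b i' j3 χ * b i' j4 χ) ≤ rest [a, bb, c, d, e, f, g] (fun χ => b i' j3 χ * b i' j3 χ) ∧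
      rest [a, bb, c, d, e, f, g] (fun χ => b i' j3 χ * b i' j4 χ) ≤ rest [a, bb, c, d, e, f, g] (fun χ => b i' j4 χ * b i' j4 χ) :=
    ⟨rest_nonneg fun χ => h.row_nonneg (Ne.symm hi) h34 χ,
      rest_mono fun χ => mul_le_sq (h.norm i' j3) (h.norm i' j4) χ,
      rest_mono fun χ => (mul_comm _ _).trans_le (mul_le_sq (h.norm i' j4) (h.norm i' j3) χ)⟩
  exact core_np
    (b i' j1 a) (b i' j1 bb) (b i' j1 c) (b i' j1 d) (b i' j1 e) (b i' j1 f) (b i' j1 g)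
    (b i' j2 a) (b i' j2 bb) (b i' j2 c) (b i' j2 d) (b i' j2 e) (b i' j2 f) (b i' j2 g)
    (b i' j3 a) (b i' j3 bb) (b i' j3 c) (b i' j3 d) (b i' j3 e) (b i' j3 f) (b i' j3 g)
    (b i' j4 a) (b i' j4 bb) (b i' j4 c) (b i' j4 d) (b i' j4 e) (b i' j4 f) (b i' j4 g)
    _ _ _ _ _ _ _ _ _ _
    E11 E12 E13 E14 R1 hr1
    E21 E22 E23 E24 R2 hr2
    E31 E32 E33 E34 R3 hr3
    E41 E42 E43 E44 R4 hr4
    S12 P12 ho12
    S13 P13 ho13
    S14 P14 ho14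
    S23 P23 ho23
    S24 P24 ho24
    S34 P34 ho34

/-- gauge-free versions -/
theorem no_k4 (h : Gram b) {i i' : I} (hi : i ≠ i')
    {j1 j2 j3 j4 : J} (h12 : j1 ≠ j2) (h13 : j1 ≠ j3) (h14 : j1 ≠ j4) (h23 : j2 ≠ j3)
    (h24 : j2 ≠ j4) (h34 : j3 ≠ j4) {a bb d : B}
    (ha1 : b i j1 a ≠ 0) (ha2 : b i j2 a ≠ 0) (ha3 : b i j3 a = 0) (ha4 : b i j4 a = 0)
    (hb1 : b i j1 bb ≠ 0) (hb3 : b i j3 bb ≠ 0) (hb4 : b i j4 bb = 0)
    (hd2 : b i j2 d ≠ 0) (hd3 : b i j3 d ≠ 0) (hd4 : b i j4 d = 0) : False :=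
  no_k4_nonneg (h.gauge (rowSign_sq b i)) hi (fun j χ => h.rowSign_nonneg hi j χ)
    h12 h13 h14 h23 h24 h34
    (gauge_ne_zero (rowSign_ne_zero b i) ha1) (gauge_ne_zero (rowSign_ne_zero b i) ha2)
    (gauge_eq_zero ha3) (gauge_eq_zero ha4)
    (gauge_ne_zero (rowSign_ne_zero b i) hb1) (gauge_ne_zero (rowSign_ne_zero b i) hb3)
    (gauge_eq_zero hb4)
    (gauge_ne_zero (rowSign_ne_zero b i) hd2) (gauge_ne_zero (rowSign_ne_zero b i) hd3)
    (gauge_eq_zero hd4)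

theorem no_np (h : Gram b) {i i' : I} (hi : i ≠ i')
    {j1 j2 j3 j4 : J} (h12 : j1 ≠ j2) (h13 : j1 ≠ j3) (h14 : j1 ≠ j4) (h23 : j2 ≠ j3)
    (h24 : j2 ≠ j4) (h34 : j3 ≠ j4) {a : B}
    (ha1 : b i j1 a ≠ 0) (ha2 : b i j2 a ≠ 0) (ha3 : b i j3 a = 0) (ha4 : b i j4 a ≠ 0) :
    False :=
  no_np_nonneg (h.gauge (rowSign_sq b i)) hi (fun j χ => h.rowSign_nonneg hi j χ)
    h12 h13 h14 h23 h24 h34
    (gauge_ne_zero (rowSign_ne_zero b i) ha1) (gauge_ne_zero (rowSign_ne_zero b i) ha2)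
    (gauge_eq_zero ha3) (gauge_ne_zero (rowSign_ne_zero b i) ha4)

/-- every row with at least four cells has a basis vector lying on all its cells -/
theorem Gram.row_sunflower [Fintype J] (h : Gram b) (hJ : 4 ≤ Fintype.card J) {i i' : I}
    (hi : i ≠ i') : ∃ χ, ∀ j, b i j χ ≠ 0 := by
  by_contra hcon
  push Not at hcon
  have hcard : 2 < (Finset.univ : Finset J).card := by rw [Finset.card_univ]; omega
  obtain ⟨j1, j2, -, -, -, -, h12, -, -⟩ := Finset.two_lt_card_iff.mp hcard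
  obtain ⟨a, ha1, ha2, -⟩ := h.row_common hi h12
  obtain ⟨j3, ha3⟩ := hcon a
  have h13 : j1 ≠ j3 := fun e => ha1 (by rw [e]; exact ha3)
  have h23 : j2 ≠ j3 := fun e => ha2 (by rw [e]; exact ha3)
  obtain ⟨bb, hb1, hb3, -⟩ := h.row_common hi h13
  obtain ⟨d, hd2, hd3, -⟩ := h.row_common hi h23
  have hba : bb ≠ a := fun e => hb3 (by rw [e]; exact ha3)
  have hda : d ≠ a := fun e => hd3 (by rw [e]; exact ha3)
  have hb2 : b i j2 bb = 0 := h.row_other hi h12 ha1 ha2 hba hb1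
  have hd1 : b i j1 d = 0 := h.row_other hi (Ne.symm h12) ha2 ha1 hda hd2
  have hcard4 : ((Finset.univ : Finset J).erase j1 |>.erase j2 |>.erase j3).Nonempty := by
    rw [← Finset.card_pos]
    have c1 : ((Finset.univ : Finset J).erase j1).card = Fintype.card J - 1 := by
      rw [Finset.card_erase_of_mem (Finset.mem_univ _), Finset.card_univ]
    have c2 := Finset.pred_card_le_card_erase (s := (Finset.univ : Finset J).erase j1) (a := j2)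
    have c3 := Finset.pred_card_le_card_erase
      (s := ((Finset.univ : Finset J).erase j1).erase j2) (a := j3)
    omega
  obtain ⟨j4, hj4⟩ := hcard4
  simp only [Finset.mem_erase, Finset.mem_univ, and_true] at hj4
  obtain ⟨h43, h42, h41⟩ := hj4
  have h14 : j1 ≠ j4 := Ne.symm h41
  have h24 : j2 ≠ j4 := Ne.symm h42
  have h34 : j3 ≠ j4 := Ne.symm h43
  by_cases ha4 : b i j4 a = 0
  · by_cases hb4 : b i j4 bb = 0
    · by_cases hd4 : b i j4 d = 0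
      · exact no_k4 h hi h12 h13 h14 h23 h24 h34 ha1 ha2 ha3 ha4 hb1 hb3 hb4 hd2 hd3 hd4
      · exact no_np h hi h23 (Ne.symm h12) h24 (Ne.symm h13) h34 h14 hd2 hd3 hd1 hd4
    · exact no_np h hi h13 h12 h14 (Ne.symm h23) h34 h24 hb1 hb3 hb2 hb4
  · exact no_np h hi h12 h13 h14 h23 h24 h34 ha1 ha2 ha3 ha4

end Cfsg.Agent.Lib.Helper6.CycComb
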