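import Mathlib
import Cfsg.Agent.Lib.Helper6.CycComb4

set_option autoImplicit false

/-! The structure theorem for arrays of norm three vectors (Peterfalvi (3.5)). -/

namespace Cfsg.Agent.Lib.Helper6.CycComb

variable {I J B : Type*} [Fintype B] [DecidableEq B] [DecidableEq I] [DecidableEq J]
variable {b : I → J → B → ℤ}

/-- the conclusion of the structure theorem -/
def Standard (b : I → J → B → ℤ) : Prop :=
  ∃ (x : I → B) (y : J → B) (z : I → J → B) (ex : I → ℤ) (ey : J → ℤ) (ez : I → J → ℤ),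
    (∀ i, ex i = 1 ∨ ex i = -1) ∧ (∀ j, ey j = 1 ∨ ey j = -1) ∧
    (∀ i j, ez i j = 1 ∨ ez i j = -1) ∧
    Function.Injective x ∧ Function.Injective y ∧
    (∀ i j i' j', z i j = z i' j' → i = i' ∧ j = j') ∧
    (∀ i j, x i ≠ y j) ∧ (∀ i i' j, x i ≠ z i' j) ∧ (∀ j i j', y j ≠ z i j') ∧
    ∀ i j χ, b i j χ = ex i * (if χ = x i then 1 else 0) + ey j * (if χ = y j then 1 else 0) +
      ez i j * (if χ = z i j then 1 else 0)

lemma Standard.transpose (h : Standard (fun j i => b i j)) : Standard b := by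
  obtain ⟨x, y, z, ex, ey, ez, h1, h2, h3, h4, h5, h6, h7, h8, h9, h10⟩ := h
  refine ⟨y, x, fun i j => z j i, ey, ex, fun i j => ez j i, h2, h1, fun i j => h3 j i, h5, h4,
    ?_, fun i j => (h7 j i).symm, fun i i' j => h9 i j i', fun j i j' => h8 j j' i, ?_⟩
  · intro i j i' j' e
    exact (h6 j i j' i' e).symm
  · intro i j χ
    have e := h10 j i χ
    beta_reduce at e ⊢
    rw [e]
    ring

/-- entries are determined by row and column centres -/
theorem Gram.standard_of_centres [Fintype I] [Fintype J] (h : Gram b)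
    (hI : 2 ≤ Fintype.card I) (hJ : 2 ≤ Fintype.card J)
    (x : I → B) (y : J → B)
    (R1 : ∀ i j, b i j (x i) ≠ 0) (R2 : ∀ i i', i ≠ i' → ∀ j, b i' j (x i) = 0)
    (C1 : ∀ i j, b i j (y j) ≠ 0) (C2 : ∀ j j', j ≠ j' → ∀ i, b i j' (y j) = 0) :
    Standard b := by
  classical
  have hneI : ∀ i : I, ∃ i', i ≠ i' := fun i => by
    obtain ⟨i', hi'⟩ := Fintype.exists_ne_of_one_lt_card (by omega) i
    exact ⟨i', Ne.symm hi'⟩
  have hneJ : ∀ j : J, ∃ j', j ≠ j' := fun j => by
    obtain ⟨j', hj'⟩ := Fintype.exists_ne_of_one_lt_card (by omega) j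
    exact ⟨j', Ne.symm hj'⟩
  have hxy : ∀ i j, x i ≠ y j := by
    intro i j e
    obtain ⟨j', hj'⟩ := hneJ j
    have := C2 j j' hj' i
    rw [← e] at this
    exact R1 i j' this
  have hxinj : Function.Injective x := by
    intro i i' e
    by_contra hne
    obtain ⟨j, -⟩ := hneJ (Classical.choice (by
      have : 0 < Fintype.card J := by omega
      exact Fintype.card_pos_iff.mp this))
    have := R2 i i' hne j
    rw [e] at this
    exact R1 i' j this
  have hyinj : Function.Injective y := by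
    intro j j' e
    by_contra hne
    obtain ⟨i, -⟩ := hneI (Classical.choice (by
      have : 0 < Fintype.card I := by omega
      exact Fintype.card_pos_iff.mp this))
    have := C2 j j' hne i
    rw [e] at this
    exact C1 i j' this
  have hz : ∀ i j, ∃ ζ, ζ ≠ x i ∧ ζ ≠ y j ∧ b i j ζ ≠ 0 := fun i j =>
    exists_third (h.norm i j) (hxy i j) (R1 i j) (C1 i j)
  choose z hzx hzy hz0 using hz
  have hzero : ∀ i j χ, χ ≠ x i → χ ≠ y j → χ ≠ z i j → b i j χ = 0 := fun i j χ h1 h2 h3 =>
    eq_zero_of_three (h.norm i j) (hxy i j) (Ne.symm (hzx i j)) (Ne.symm (hzy i j))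
      (R1 i j) (C1 i j) (hz0 i j) h1 h2 h3
  have hxz : ∀ i i' j, x i ≠ z i' j := by
    intro i i' j e
    by_cases hii : i = i'
    · subst hii; exact hzx i j e.symm
    · have := R2 i i' hii j
      rw [e] at this
      exact hz0 i' j this
  have hyz : ∀ j i j', y j ≠ z i j' := by
    intro j i j' e
    by_cases hjj : j = j'
    · subst hjj; exact hzy i j e.symm
    · have := C2 j j' hjj i
      rw [e] at this
      exact hz0 i j' this
  have hzinj : ∀ i j i' j', z i j = z i' j' → i = i' ∧ j = j' := by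
    intro i j i' j' e
    by_cases hii : i = i'
    · subst hii
      refine ⟨rfl, ?_⟩
      by_contra hjj
      obtain ⟨i'', hi''⟩ := hneI i
      have := h.row_unique hi'' hjj (R1 i j) (R1 i j') (hz0 i j) (by rw [e]; exact hz0 i j')
      exact hxz i i j this
    · exfalso
      by_cases hjj : j = j'
      · subst hjj
        obtain ⟨j'', hj''⟩ := hneJ j
        have := h.transpose.row_unique (i := j) (i' := j'') hj'' (j := i) (j' := i') hii
          (C1 i j) (C1 i' j) (hz0 i j) (by rw [e]; exact hz0 i' j)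
        exact hyz j i j this
      · have e0 := ip_three (b i j) (b i' j') (hxy i' j') (Ne.symm (hzx i' j'))
          (Ne.symm (hzy i' j')) (hzero i' j')
        rw [h.gen hii hjj, R2 i' i (Ne.symm hii) j, C2 j' j (Ne.symm hjj) i, ← e] at e0
        have : b i j (z i j) * b i' j' (z i j) ≠ 0 :=
          mul_ne_zero (hz0 i j) (by rw [e]; exact hz0 i' j')
        apply this
        linarith
  have j₀ : J := Classical.choice (by
    have : 0 < Fintype.card J := by omega
    exact Fintype.card_pos_iff.mp this)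
  have i₀ : I := Classical.choice (by
    have : 0 < Fintype.card I := by omega
    exact Fintype.card_pos_iff.mp this)
  have hex : ∀ i j, b i j (x i) = b i j₀ (x i) := by
    intro i j
    by_cases hj : j = j₀
    · rw [hj]
    · obtain ⟨i', hi'⟩ := hneI i
      exact h.row_const hi' hj (R1 i j) (R1 i j₀)
  have hey : ∀ i j, b i j (y j) = b i₀ j (y j) := by
    intro i j
    by_cases hi : i = i₀
    · rw [hi]
    · obtain ⟨j', hj'⟩ := hneJ j
      exact h.transpose.row_const (i := j) (i' := j') hj' (j := i) (j' := i₀) hi (C1 i j) (C1 i₀ j)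
  have hpm : ∀ i j χ, b i j χ ≠ 0 → b i j χ = 1 ∨ b i j χ = -1 := by
    intro i j χ hne
    rcases h.val i j χ with h1 | h1 | h1
    · right; exact h1
    · exact absurd h1 hne
    · left; exact h1
  refine ⟨x, y, z, fun i => b i j₀ (x i), fun j => b i₀ j (y j), fun i j => b i j (z i j),
    fun i => hpm _ _ _ (R1 i j₀), fun j => hpm _ _ _ (C1 i₀ j), fun i j => hpm _ _ _ (hz0 i j),
    hxinj, hyinj, hzinj, hxy, hxz, hyz, ?_⟩
  intro i j χ
  by_cases h1 : χ = x i
  · subst h1
    rw [if_pos rfl, if_neg (hxy i j), if_neg (hxz i i j), hex i j]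
    ring
  by_cases h2 : χ = y j
  · subst h2
    rw [if_neg h1, if_pos rfl, if_neg (hyz j i j), hey i j]
    ring
  by_cases h3 : χ = z i j
  · subst h3
    rw [if_neg h1, if_neg h2, if_pos rfl]
    ring
  · rw [if_neg h1, if_neg h2, if_neg h3, hzero i j χ h1 h2 h3]
    ring

/-- the structure theorem when there are at least four columns -/
theorem Gram.standard_of_four [Fintype I] [Fintype J] (h : Gram b)
    (hI : 2 ≤ Fintype.card I) (hI3 : Fintype.card I ≠ 3) (hJ : 4 ≤ Fintype.card J) :
    Standard b := by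
  classical
  have hneI : ∀ i : I, ∃ i', i ≠ i' := fun i => by
    obtain ⟨i', hi'⟩ := Fintype.exists_ne_of_one_lt_card (by omega) i
    exact ⟨i', Ne.symm hi'⟩
  have hneJ : ∀ j : J, ∃ j', j ≠ j' := fun j => by
    obtain ⟨j', hj'⟩ := Fintype.exists_ne_of_one_lt_card (by omega) j
    exact ⟨j', Ne.symm hj'⟩
  have hx : ∀ i, ∃ χ, ∀ j, b i j χ ≠ 0 := fun i => by
    obtain ⟨i', hi'⟩ := hneI i
    exact h.row_sunflower hJ hi'
  choose x R1 using hx
  have R2 : ∀ i i', i ≠ i' → ∀ j, b i' j (x i) = 0 := fun i i' hii j =>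
    h.confined hJ hii (R1 i) j
  by_cases hI4 : 4 ≤ Fintype.card I
  · have hy : ∀ j, ∃ χ, ∀ i, b i j χ ≠ 0 := fun j => by
      obtain ⟨j', hj'⟩ := hneJ j
      exact h.transpose.row_sunflower hI4 hj'
    choose y C1 using hy
    have C2 : ∀ j j', j ≠ j' → ∀ i, b i j' (y j) = 0 := fun j j' hjj i =>
      h.transpose.confined hI4 hjj (C1 j) i
    exact h.standard_of_centres hI (by omega) x y R1 R2 (fun i j => C1 j i) C2
  · have hI2 : Fintype.card I = 2 := by omega
    obtain ⟨i1, i2, h12, huniv⟩ := (Finset.card_eq_two (s := (Finset.univ : Finset I))).mp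
      (by rw [Finset.card_univ]; exact hI2)
    have hall : ∀ i : I, i = i1 ∨ i = i2 := by
      intro i
      have : i ∈ (Finset.univ : Finset I) := Finset.mem_univ i
      rw [huniv] at this
      simpa using this
    have hy : ∀ j, ∃ χ, b i1 j χ ≠ 0 ∧ b i2 j χ ≠ 0 := fun j => by
      obtain ⟨j', hj'⟩ := hneJ j
      obtain ⟨χ, h1, h2, -⟩ := h.transpose.row_common (i := j) (i' := j') hj' (j := i1) (j' := i2) h12
      exact ⟨χ, h1, h2⟩
    choose y hy1 hy2 using hy
    have C1 : ∀ i j, b i j (y j) ≠ 0 := by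
      intro i j
      rcases hall i with rfl | rfl
      · exact hy1 j
      · exact hy2 j
    have C2 : ∀ j j', j ≠ j' → ∀ i, b i j' (y j) = 0 := by
      intro j j' hjj i
      by_contra hne
      obtain ⟨i', hi'⟩ := hneI i
      have e := h.row_unique hi' hjj (C1 i j) hne (R1 i j) (R1 i j')
      have := R2 i i' hi' j
      rw [← e] at this
      exact C1 i' j this
    exact h.standard_of_centres hI (by omega) x y R1 R2 C1 C2

/-- the structure theorem (Peterfalvi (3.5)) -/
theorem Gram.standard [Fintype I] [Fintype J] (h : Gram b)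
    (hI : 2 ≤ Fintype.card I) (hI3 : Fintype.card I ≠ 3)
    (hJ : 2 ≤ Fintype.card J) (hJ3 : Fintype.card J ≠ 3)
    (h4 : 4 ≤ Fintype.card I ∨ 4 ≤ Fintype.card J) : Standard b := by
  by_cases hJ4 : 4 ≤ Fintype.card J
  · exact h.standard_of_four hI hI3 hJ4
  · have hI4 : 4 ≤ Fintype.card I := by omega
    exact Standard.transpose (h.transpose.standard_of_four hJ hJ3 hI4)

end Cfsg.Agent.Lib.Helper6.CycComb
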