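import Mathlib
import Cfsg.Agent.Lib.Lead.CycTI5
import Cfsg.Agent.Lib.Helper6.CycComb5
import Cfsg.Agent.Lib.Helper6.GenChar
import Cfsg.Agent.Lib.Helper6.GenCharOps

set_option autoImplicit false

/-! Set-up lemmas for the existence of the cyclic TI family (Peterfalvi (3.2)). -/

namespace Cfsg.Agent.Lib.Helper6.CycExist

open Cfsg Cfsg.Agent.Lib.Lead.CycTI Cfsg.Agent.Lib.Helper6

section setup
variable {G : Type*} [Group G]

lemma sub_disj {W₁ W₂ : Subgroup G} (hd : W₁ ⊓ W₂ = ⊥) :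
    (W₁.subgroupOf (W₁ ⊔ W₂)) ⊓ (W₂.subgroupOf (W₁ ⊔ W₂)) = ⊥ := by
  rw [eq_bot_iff]
  intro x hx
  have h1 : (x:G) ∈ W₁ ⊓ W₂ :=
    ⟨Subgroup.mem_subgroupOf.mp hx.1, Subgroup.mem_subgroupOf.mp hx.2⟩
  rw [hd, Subgroup.mem_bot] at h1
  exact Subgroup.mem_bot.mpr (Subtype.ext h1)

lemma sub_sup (W₁ W₂ : Subgroup G) :
    (W₁.subgroupOf (W₁ ⊔ W₂)) ⊔ (W₂.subgroupOf (W₁ ⊔ W₂)) = ⊤ := by
  exact codisjoint_iff.mp (Subgroup.codisjoint_subgroupOf_sup W₁ W₂)

lemma card_sub_left (W₁ W₂ : Subgroup G) :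
    Nat.card (W₁.subgroupOf (W₁ ⊔ W₂)) = Nat.card W₁ :=
  Nat.card_congr (Subgroup.subgroupOfEquivOfLe le_sup_left).toEquiv

lemma card_sub_right (W₁ W₂ : Subgroup G) :
    Nat.card (W₂.subgroupOf (W₁ ⊔ W₂)) = Nat.card W₂ :=
  Nat.card_congr (Subgroup.subgroupOfEquivOfLe le_sup_right).toEquiv

variable [Finite G]

lemma three_le_card {W : Subgroup G} {K : Subgroup G} (hK : K ≤ W) (hodd : Odd (Nat.card W))
    (hne : K ≠ ⊥) : 3 ≤ Nat.card K ∧ Odd (Nat.card K) := by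
  have hdvd : Nat.card K ∣ Nat.card W := Subgroup.card_dvd_of_le hK
  have hoddK : Odd (Nat.card K) := by
    obtain ⟨c, hc⟩ := hdvd
    rw [hc] at hodd
    exact (Nat.odd_mul.mp hodd).1
  have h1 : Nat.card K ≠ 1 := fun h => hne (Subgroup.eq_bot_of_card_eq K h)
  have h0 : 0 < Nat.card K := Nat.card_pos
  obtain ⟨m, hm⟩ := hoddK
  refine ⟨by omega, ⟨m, hm⟩⟩

/-- two complementary subgroups of a cyclic group cannot both have order three -/
lemma not_both_three {A : Type*} [Group A] [Finite A] (hc : IsCyclic A) (A₁ A₂ : Subgroup A)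
    (hdisj : A₁ ⊓ A₂ = ⊥) (hsup : A₁ ⊔ A₂ = ⊤) (h1 : Nat.card A₁ = 3) (h2 : Nat.card A₂ = 3) :
    False := by
  have hcomm : ∀ a b : A, a * b = b * a := by
    obtain ⟨c, hc⟩ := hc.exists_generator
    intro a b
    obtain ⟨i, rfl⟩ := Subgroup.mem_zpowers_iff.mp (hc a)
    obtain ⟨j, rfl⟩ := Subgroup.mem_zpowers_iff.mp (hc b)
    rw [← zpow_add, ← zpow_add, add_comm]
  have hcard : Nat.card A = 9 := by
    rw [← Subgroup.card_mul_index A₂, index_of_compl hcomm A₁ A₂ hdisj hsup, h1, h2]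
  let _ : CommGroup A := { ‹Group A› with mul_comm := hcomm }
  have hpow : ∀ a : A, a ^ 3 = 1 := by
    intro a
    have ha : a ∈ A₁ ⊔ A₂ := by rw [hsup]; exact Subgroup.mem_top a
    obtain ⟨y, hy, z, hz, rfl⟩ := Subgroup.mem_sup.mp ha
    have hy3 : y ^ 3 = 1 := by
      have := pow_card_eq_one' (G := ↥A₁) (x := ⟨y, hy⟩)
      rw [h1] at this
      exact congrArg Subtype.val this
    have hz3 : z ^ 3 = 1 := by
      have := pow_card_eq_one' (G := ↥A₂) (x := ⟨z, hz⟩)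
      rw [h2] at this
      exact congrArg Subtype.val this
    rw [mul_pow, hy3, hz3, one_mul]
  have hexp : Monoid.exponent A ∣ 3 := Monoid.exponent_dvd_of_forall_pow_eq_one hpow
  have := hc
  rw [IsCyclic.exponent_eq_card, hcard] at hexp
  omega

end setup

end Cfsg.Agent.Lib.Helper6.CycExist
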