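import Mathlib
import Cfsg.Agent.Lib.Helper6.CycExist1

set_option autoImplicit false

/-! The coefficient array of the induced characters `Ind (1 - φ)(1 - ψ)` and its standard
form (Peterfalvi (3.2), first half). -/

namespace Cfsg.Agent.Lib.Helper6.CycExist

open Cfsg Cfsg.Agent.Lib.Lead.CycTI Cfsg.Agent.Lib.Helper6 Cfsg.Agent.Lib.Helper6.CycComb

/-- nontrivial elements of a subgroup -/
abbrev NT {H : Type*} [Group H] (K : Subgroup H) : Type _ := {φ : H // φ ∈ K ∧ φ ≠ 1}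

lemma card_NT {H : Type*} [Group H] [Finite H] (K : Subgroup H) [Fintype (NT K)] :
    Fintype.card (NT K) = Nat.card K - 1 := by
  classical
  letI : Fintype H := Fintype.ofFinite H
  rw [Fintype.card_subtype]
  have h1 : (Finset.univ.filter (fun φ : H => φ ∈ K ∧ φ ≠ 1))
      = (Finset.univ.filter (fun φ : H => φ ∈ K)).erase 1 := by
    ext φ
    simp only [Finset.mem_filter, Finset.mem_univ, true_and, Finset.mem_erase]
    tauto
  rw [h1, Finset.card_erase_of_mem (by simp [K.one_mem])]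
  congr 1
  rw [Nat.card_eq_fintype_card, Fintype.card_subtype]

section main
variable {G : Type*} [Group G] [Fintype G]

lemma alpha_genChar {W : Subgroup G} (φ ψ : ↥W →* ℂˣ) :
    IsGeneralizedCharacter ↥W (Lead.CycTI.alpha φ ψ) := by
  rw [alpha_eq]
  have hL : ∀ l : ↥W →* ℂˣ, IsGeneralizedCharacter ↥W (L l) := fun l =>
    IsCharacter.isGeneralizedCharacter (IsIrrCharacter.isCharacter (isIrrCharacter_of_hom l))
  exact IsGeneralizedCharacter.add (IsGeneralizedCharacter.sub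
    (IsGeneralizedCharacter.sub (hL 1) (hL φ)) (hL ψ)) (hL (φ * ψ))

/-- the principal character as an element of `IrrCharacter` -/
def one (G : Type*) [Group G] : IrrCharacter G := ⟨fun _ => 1, isIrrCharacter_one⟩

/-- integer coefficients of the induced characters -/
theorem exists_coeff [Fintype (IrrCharacter G)] (W₁ W₂ : Subgroup G) :
    ∃ c : (↥(W₁ ⊔ W₂) →* ℂˣ) → (↥(W₁ ⊔ W₂) →* ℂˣ) → IrrCharacter G → ℤ,
      ∀ φ ψ, indFun (W₁ ⊔ W₂) (Lead.CycTI.alpha φ ψ) = ∑ β, (c φ ψ β : ℂ) • (β : G → ℂ) ∧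
        ∀ β : IrrCharacter G, classInner (indFun (W₁ ⊔ W₂) (Lead.CycTI.alpha φ ψ)) (β : G → ℂ) = c φ ψ β := by
  have h : ∀ φ ψ : ↥(W₁ ⊔ W₂) →* ℂˣ, ∃ c : IrrCharacter G → ℤ,
      indFun (W₁ ⊔ W₂) (Lead.CycTI.alpha φ ψ) = ∑ β, (c β : ℂ) • (β : G → ℂ) ∧
        ∀ β : IrrCharacter G, classInner (indFun (W₁ ⊔ W₂) (Lead.CycTI.alpha φ ψ)) (β : G → ℂ) = c β :=
    fun φ ψ => IsGeneralizedCharacter.exists_int_coeff
      (IsGeneralizedCharacter.indFun (W₁ ⊔ W₂) (alpha_genChar φ ψ))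
  choose c hc using h
  exact ⟨c, hc⟩

variable [Fintype (IrrCharacter G)] [DecidableEq (IrrCharacter G)]

/-- the array of coefficients with the principal character removed -/
def bArr {W₁ W₂ : Subgroup G}
    (c : (↥(W₁ ⊔ W₂) →* ℂˣ) → (↥(W₁ ⊔ W₂) →* ℂˣ) → IrrCharacter G → ℤ) :
    NT (ann (W₂.subgroupOf (W₁ ⊔ W₂))) → NT (ann (W₁.subgroupOf (W₁ ⊔ W₂))) →
      IrrCharacter G → ℤ :=
  fun φ ψ β => c φ.1 ψ.1 β - if β = one G then 1 else 0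

theorem bArr_gram {W₁ W₂ : Subgroup G} (hW : IsSelfNormalizingCyclic W₁ W₂)
    (c : (↥(W₁ ⊔ W₂) →* ℂˣ) → (↥(W₁ ⊔ W₂) →* ℂˣ) → IrrCharacter G → ℤ)
    (hc : ∀ φ ψ, indFun (W₁ ⊔ W₂) (Lead.CycTI.alpha φ ψ) = ∑ β, (c φ ψ β : ℂ) • (β : G → ℂ) ∧
        ∀ β : IrrCharacter G, classInner (indFun (W₁ ⊔ W₂) (Lead.CycTI.alpha φ ψ)) (β : G → ℂ) = c φ ψ β)
    [DecidableEq (NT (ann (W₂.subgroupOf (W₁ ⊔ W₂))))]
    [DecidableEq (NT (ann (W₁.subgroupOf (W₁ ⊔ W₂))))] :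
    Gram (bArr c) := by
  classical
  intro φ ψ φ' ψ'
  have hφ2 : ∀ w : ↥(W₁ ⊔ W₂), (w : G) ∈ W₂ → φ.1 w = 1 ∧ φ'.1 w = 1 := fun w hw =>
    ⟨mem_ann_subgroupOf.mp φ.2.1 w hw, mem_ann_subgroupOf.mp φ'.2.1 w hw⟩
  have hψ1 : ∀ w : ↥(W₁ ⊔ W₂), (w : G) ∈ W₁ → ψ.1 w = 1 ∧ ψ'.1 w = 1 := fun w hw =>
    ⟨mem_ann_subgroupOf.mp ψ.2.1 w hw, mem_ann_subgroupOf.mp ψ'.2.1 w hw⟩
  obtain ⟨h1, h2⟩ := s1505 W₁ W₂ hW φ.1 φ'.1 ψ.1 ψ'.1 φ.2.2 φ'.2.2 ψ.2.2 ψ'.2.2 hφ2 hψ1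
  obtain ⟨h1', -⟩ := s1505 W₁ W₂ hW φ'.1 φ.1 ψ'.1 ψ.1 φ'.2.2 φ.2.2 ψ'.2.2 ψ.2.2
    (fun w hw => (hφ2 w hw).symm) (fun w hw => (hψ1 w hw).symm)
  -- coefficient at the principal character
  have c1 : c φ.1 ψ.1 (one G) = 1 := by
    have := (hc φ.1 ψ.1).2 (one G)
    have e : ((one G : IrrCharacter G) : G → ℂ) = fun _ => 1 := rfl
    rw [e, h1] at this
    exact_mod_cast this.symm
  have c1' : c φ'.1 ψ'.1 (one G) = 1 := by
    have := (hc φ'.1 ψ'.1).2 (one G)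
    have e : ((one G : IrrCharacter G) : G → ℂ) = fun _ => 1 := rfl
    rw [e, h1'] at this
    exact_mod_cast this.symm
  -- the full inner product
  have hsum : (∑ β, c φ.1 ψ.1 β * c φ'.1 ψ'.1 β : ℤ) =
      1 + (if φ.1 = φ'.1 then 1 else 0) + (if ψ.1 = ψ'.1 then 1 else 0) +
        (if φ.1 = φ'.1 then 1 else 0) * (if ψ.1 = ψ'.1 then 1 else 0) := by
    have := classInner_sum_int (G := G) (c φ.1 ψ.1) (c φ'.1 ψ'.1)
    rw [← (hc φ.1 ψ.1).1, ← (hc φ'.1 ψ'.1).1, h2] at this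
    have e : ((1 : ℂ) + (if φ.1 = φ'.1 then 1 else 0) + (if ψ.1 = ψ'.1 then 1 else 0) +
        (if φ.1 = φ'.1 then 1 else 0) * (if ψ.1 = ψ'.1 then 1 else 0)) =
        (((1 : ℤ) + (if φ.1 = φ'.1 then 1 else 0) + (if ψ.1 = ψ'.1 then 1 else 0) +
        (if φ.1 = φ'.1 then 1 else 0) * (if ψ.1 = ψ'.1 then 1 else 0) : ℤ) : ℂ) := by
      split_ifs <;> norm_num
    rw [e] at this
    exact_mod_cast this.symm
  unfold ip bArr
  have hexp : ∀ β : IrrCharacter G,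
      (c φ.1 ψ.1 β - if β = one G then 1 else 0) * (c φ'.1 ψ'.1 β - if β = one G then 1 else 0)
      = c φ.1 ψ.1 β * c φ'.1 ψ'.1 β - (if β = one G then c φ.1 ψ.1 β else 0)
        - (if β = one G then c φ'.1 ψ'.1 β else 0) + (if β = one G then 1 else 0) := by
    intro β
    split_ifs <;> ring
  simp only [hexp, Finset.sum_add_distrib, Finset.sum_sub_distrib, Finset.sum_ite_eq',
    Finset.mem_univ, if_true]
  rw [hsum, c1, c1']
  have e1 : (φ.1 = φ'.1) ↔ φ = φ' := Subtype.ext_iff.symm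
  have e2 : (ψ.1 = ψ'.1) ↔ ψ = ψ' := Subtype.ext_iff.symm
  by_cases hφ : φ = φ' <;> by_cases hψ : ψ = ψ' <;>
    simp [hφ, hψ, e1, e2]

end main

end Cfsg.Agent.Lib.Helper6.CycExist
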