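import Mathlib
import Cfsg.Agent.Lib.Helper6.CycExist2
import Cfsg.Agent.S0146

set_option autoImplicit false

/-! From a family of signed irreducible characters indexed by pairs to the cyclic TI family
(Peterfalvi (3.2), second half). -/

namespace Cfsg.Agent.Lib.Helper6.CycExist

open Cfsg Cfsg.Agent.Lib.Lead.CycTI Cfsg.Agent.Lib.Helper6 Cfsg.Agent.Lib.Helper6.CycComb
open scoped ComplexConjugate

section famD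
variable {G : Type*} [Group G] [Fintype G]

open Classical in
theorem family_of_F {W₁ W₂ : Subgroup G} (hW : IsSelfNormalizingCyclic W₁ W₂)
    (F : (↥(W₁ ⊔ W₂) →* ℂˣ) → (↥(W₁ ⊔ W₂) →* ℂˣ) → (G → ℂ))
    (F1 : ∀ φ ∈ ann (W₂.subgroupOf (W₁ ⊔ W₂)), ∀ ψ ∈ ann (W₁.subgroupOf (W₁ ⊔ W₂)),
      Sgn (F φ ψ))
    (F2 : ∀ φ ∈ ann (W₂.subgroupOf (W₁ ⊔ W₂)), ∀ ψ ∈ ann (W₁.subgroupOf (W₁ ⊔ W₂)),
      ∀ φ' ∈ ann (W₂.subgroupOf (W₁ ⊔ W₂)), ∀ ψ' ∈ ann (W₁.subgroupOf (W₁ ⊔ W₂)),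
      classInner (F φ ψ) (F φ' ψ') = if φ = φ' ∧ ψ = ψ' then 1 else 0)
    (F3 : F 1 1 = fun _ => 1)
    (F4 : ∀ φ ∈ ann (W₂.subgroupOf (W₁ ⊔ W₂)), ∀ ψ ∈ ann (W₁.subgroupOf (W₁ ⊔ W₂)),
      φ ≠ 1 → ψ ≠ 1 →
      indFun (W₁ ⊔ W₂) (Lead.CycTI.alpha φ ψ) = F 1 1 - F φ 1 - F 1 ψ + F φ ψ) :
    ∃ χ : (↥(W₁ ⊔ W₂) →* ℂˣ) → (G → ℂ), IsCyclicTIFamily W₁ W₂ χ := by
  classical
  let _ : Fintype ↥(W₁ ⊔ W₂) := Fintype.ofFinite _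
  have hcyc := hW.2.2.2.2.1
  have hcomm := W_comm hcyc
  have hdisj := sub_disj hW.2.2.1
  have hsup := sub_sup W₁ W₂
  have hsplit := fun ω => exists_split hcomm (W₁.subgroupOf (W₁ ⊔ W₂)) (W₂.subgroupOf (W₁ ⊔ W₂))
    hdisj hsup ω
  choose p1 hp1 p2 hp2 hω using hsplit
  have one1 : (1 : ↥(W₁ ⊔ W₂) →* ℂˣ) ∈ ann (W₂.subgroupOf (W₁ ⊔ W₂)) := Subgroup.one_mem _
  have one2 : (1 : ↥(W₁ ⊔ W₂) →* ℂˣ) ∈ ann (W₁.subgroupOf (W₁ ⊔ W₂)) := Subgroup.one_mem _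
  have huniq : ∀ φ ∈ ann (W₂.subgroupOf (W₁ ⊔ W₂)), ∀ ψ ∈ ann (W₁.subgroupOf (W₁ ⊔ W₂)),
      ∀ ω, (φ = p1 ω ∧ ψ = p2 ω) ↔ φ * ψ = ω := by
    intro φ hφ ψ hψ ω
    constructor
    · rintro ⟨h1, h2⟩
      rw [h1, h2]
      exact (hω ω).symm
    · intro h
      exact split_eq' hsup hφ (hp1 ω) hψ (hp2 ω) (h.trans (hω ω))
  have hχmul : ∀ φ ∈ ann (W₂.subgroupOf (W₁ ⊔ W₂)), ∀ ψ ∈ ann (W₁.subgroupOf (W₁ ⊔ W₂)),
      F (p1 (φ * ψ)) (p2 (φ * ψ)) = F φ ψ := by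
    intro φ hφ ψ hψ
    obtain ⟨h1, h2⟩ := (huniq φ hφ ψ hψ (φ * ψ)).mpr rfl
    rw [← h1, ← h2]
  have hχl : ∀ φ ∈ ann (W₂.subgroupOf (W₁ ⊔ W₂)), F (p1 φ) (p2 φ) = F φ 1 := by
    intro φ hφ
    have := hχmul φ hφ 1 one2
    rwa [hom_mul_one] at this
  have hχr : ∀ ψ ∈ ann (W₁.subgroupOf (W₁ ⊔ W₂)), F (p1 ψ) (p2 ψ) = F 1 ψ := by
    intro ψ hψ
    have := hχmul 1 one1 ψ hψ
    rwa [hom_one_mul] at this
  have hχ1 : F (p1 1) (p2 1) = F 1 1 := hχl 1 one1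
  have horth : ∀ ω ω', classInner (F (p1 ω) (p2 ω)) (F (p1 ω') (p2 ω'))
      = if ω = ω' then 1 else 0 := by
    intro ω ω'
    rw [F2 _ (hp1 ω) _ (hp2 ω) _ (hp1 ω') _ (hp2 ω')]
    have : (p1 ω = p1 ω' ∧ p2 ω = p2 ω') ↔ ω = ω' := by
      rw [huniq _ (hp1 ω) _ (hp2 ω) ω', ← hω ω]
    simp only [this]
  refine ⟨fun ω => F (p1 ω) (p2 ω), ⟨?_, ?_, ?_, ?_, ?_⟩⟩
  · intro ω
    exact F1 _ (hp1 ω) _ (hp2 ω)
  · intro ω ω'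
    rw [horth ω ω']
    congr
  · rw [hχ1, F3]
  · -- values on `W ∖ (W₁ ∪ W₂)`
    intro ω w hw1 hw2
    have hθcf : IsClassFunction G (F (p1 ω) (p2 ω)) := by
      rcases F1 _ (hp1 ω) _ (hp2 ω) with h | h
      · exact IsIrrCharacter.isClassFunction h
      · have := IsIrrCharacter.isClassFunction h
        intro g k
        have := this g k
        simpa using this
    have hcard : (Nat.card ↥(W₁ ⊔ W₂) : ℂ) ≠ 0 := by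
      have : Nat.card ↥(W₁ ⊔ W₂) ≠ 0 := Nat.card_pos.ne'
      exact_mod_cast this
    have key := vanish_of_orth hcomm (W₁.subgroupOf (W₁ ⊔ W₂)) (W₂.subgroupOf (W₁ ⊔ W₂)) hdisj
      (fun a : ↥(W₁ ⊔ W₂) => conj (F (p1 ω) (p2 ω) a) - conj ((ω a : ℂˣ) : ℂ)) ?_ w
      (fun h => hw1 (Subgroup.mem_subgroupOf.mp h)) (fun h => hw2 (Subgroup.mem_subgroupOf.mp h))
    · have h0 : conj (F (p1 ω) (p2 ω) w) = conj ((ω w : ℂˣ) : ℂ) := sub_eq_zero.mp key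
      exact (starRingEnd ℂ).injective h0
    · intro φ hφ ψ hψ
      by_cases h1 : φ = 1
      · subst h1
        refine Finset.sum_eq_zero fun a _ => ?_
        simp
      by_cases h2 : ψ = 1
      · subst h2
        refine Finset.sum_eq_zero fun a _ => ?_
        simp
      have hsum : ∑ a : ↥(W₁ ⊔ W₂), (1 - ((φ a : ℂˣ) : ℂ)) * (1 - ((ψ a : ℂˣ) : ℂ)) *
          (conj (F (p1 ω) (p2 ω) a) - conj ((ω a : ℂˣ) : ℂ))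
          = (Nat.card ↥(W₁ ⊔ W₂) : ℂ) *
            (classInner (Lead.CycTI.alpha φ ψ) (fun a : ↥(W₁ ⊔ W₂) => F (p1 ω) (p2 ω) a)
              - classInner (Lead.CycTI.alpha φ ψ) (L ω)) := by
        unfold classInner
        rw [mul_sub, ← mul_assoc, ← mul_assoc, mul_inv_cancel₀ hcard, one_mul, one_mul,
          ← Finset.sum_sub_distrib]
        refine Finset.sum_congr rfl fun a _ => ?_
        rw [Lead.CycTI.alpha, L]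
        ring
      rw [hsum, ← Cfsg.Agent.S0146.result (W₁ ⊔ W₂) (Lead.CycTI.alpha φ ψ) _ hθcf,
        F4 φ hφ ψ hψ h1 h2, alpha_eq]
      simp only [classInner_add_left, classInner_sub_left, lin_inner]
      rw [F2 _ one1 _ one2 _ (hp1 ω) _ (hp2 ω), F2 _ hφ _ one2 _ (hp1 ω) _ (hp2 ω),
        F2 _ one1 _ hψ _ (hp1 ω) _ (hp2 ω), F2 _ hφ _ hψ _ (hp1 ω) _ (hp2 ω)]
      have e1 := huniq 1 one1 1 one2 ω
      have e2 := huniq φ hφ 1 one2 ω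
      have e3 := huniq 1 one1 ψ hψ ω
      have e4 := huniq φ hφ ψ hψ ω
      rw [hom_mul_one] at e1 e2
      rw [hom_one_mul] at e3
      simp only [e1, e2, e3, e4]
      ring
  · intro φ ψ hφ1 hψ1 hφ hψ
    have hφm : φ ∈ ann (W₂.subgroupOf (W₁ ⊔ W₂)) := mem_ann_subgroupOf.mpr hφ
    have hψm : ψ ∈ ann (W₁.subgroupOf (W₁ ⊔ W₂)) := mem_ann_subgroupOf.mpr hψ
    have h4 := F4 φ hφm ψ hψm hφ1 hψ1
    have e : (fun w : ↥(W₁ ⊔ W₂) => 1 - ((φ w : ℂˣ) : ℂ) - ((ψ w : ℂˣ) : ℂ)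
        + ((φ w : ℂˣ) : ℂ) * ((ψ w : ℂˣ) : ℂ)) = Lead.CycTI.alpha φ ψ := rfl
    rw [e, h4, hχl φ hφm, hχr ψ hψm, hχmul φ hφm ψ hψm, F3]
    funext g
    simp

end famD

end Cfsg.Agent.Lib.Helper6.CycExist
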