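import Mathlib
import Cfsg.Agent.Lib.Helper6.CycExist3

set_option autoImplicit false

/-! Existence of the cyclic TI family (Peterfalvi (3.2)). -/

namespace Cfsg.Agent.Lib.Helper6.CycExist

open Cfsg Cfsg.Agent.Lib.Lead.CycTI Cfsg.Agent.Lib.Helper6 Cfsg.Agent.Lib.Helper6.CycComb
open scoped ComplexConjugate

section signed
variable {G : Type*} [Group G] [Fintype G]

lemma sgn_smul {s : ℤ} (hs : s = 1 ∨ s = -1) (β : IrrCharacter G) :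
    Sgn ((s : ℂ) • (β : G → ℂ)) := by
  rcases hs with rfl | rfl
  · left; simpa using β.2
  · right; simpa using β.2

open Classical in
lemma inner_signed (s s' : ℤ) (β β' : IrrCharacter G) :
    classInner ((s : ℂ) • (β : G → ℂ)) ((s' : ℂ) • (β' : G → ℂ))
      = if β = β' then (s : ℂ) * s' else 0 := by
  rw [classInner_smul_left, classInner_smul_right, classInner_irrCharacter]
  split_ifs <;> simp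

lemma sum_ite_smul [Fintype (IrrCharacter G)] [DecidableEq (IrrCharacter G)] (a : ℂ)
    (x : IrrCharacter G) :
    ∑ β : IrrCharacter G, (a * (if β = x then 1 else 0)) • (β : G → ℂ) = a • (x : G → ℂ) := by
  rw [Finset.sum_eq_single x]
  · simp
  · intro β _ hβ
    simp [hβ]
  · intro h; exact absurd (Finset.mem_univ _) h

end signed

section famE
variable {G : Type*} [Group G] [Fintype G]
variable {W₁ W₂ : Subgroup G}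

open Classical in
/-- the irreducible character attached to a pair -/
noncomputable def tagF
    (x : NT (ann (W₂.subgroupOf (W₁ ⊔ W₂))) → IrrCharacter G)
    (y : NT (ann (W₁.subgroupOf (W₁ ⊔ W₂))) → IrrCharacter G)
    (z : NT (ann (W₂.subgroupOf (W₁ ⊔ W₂))) → NT (ann (W₁.subgroupOf (W₁ ⊔ W₂))) → IrrCharacter G)
    (φ ψ : ↥(W₁ ⊔ W₂) →* ℂˣ) : IrrCharacter G :=
  if hφ : φ ∈ ann (W₂.subgroupOf (W₁ ⊔ W₂)) ∧ φ ≠ 1 then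
    (if hψ : ψ ∈ ann (W₁.subgroupOf (W₁ ⊔ W₂)) ∧ ψ ≠ 1 then z ⟨φ, hφ⟩ ⟨ψ, hψ⟩ else x ⟨φ, hφ⟩)
  else
    (if hψ : ψ ∈ ann (W₁.subgroupOf (W₁ ⊔ W₂)) ∧ ψ ≠ 1 then y ⟨ψ, hψ⟩ else one G)

open Classical in
/-- the sign attached to a pair -/
noncomputable def sgnF
    (ex : NT (ann (W₂.subgroupOf (W₁ ⊔ W₂))) → ℤ)
    (ey : NT (ann (W₁.subgroupOf (W₁ ⊔ W₂))) → ℤ)
    (ez : NT (ann (W₂.subgroupOf (W₁ ⊔ W₂))) → NT (ann (W₁.subgroupOf (W₁ ⊔ W₂))) → ℤ)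
    (φ ψ : ↥(W₁ ⊔ W₂) →* ℂˣ) : ℤ :=
  if hφ : φ ∈ ann (W₂.subgroupOf (W₁ ⊔ W₂)) ∧ φ ≠ 1 then
    (if hψ : ψ ∈ ann (W₁.subgroupOf (W₁ ⊔ W₂)) ∧ ψ ≠ 1 then ez ⟨φ, hφ⟩ ⟨ψ, hψ⟩ else - ex ⟨φ, hφ⟩)
  else
    (if hψ : ψ ∈ ann (W₁.subgroupOf (W₁ ⊔ W₂)) ∧ ψ ≠ 1 then - ey ⟨ψ, hψ⟩ else 1)

variable (x : NT (ann (W₂.subgroupOf (W₁ ⊔ W₂))) → IrrCharacter G)
  (y : NT (ann (W₁.subgroupOf (W₁ ⊔ W₂))) → IrrCharacter G)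
  (z : NT (ann (W₂.subgroupOf (W₁ ⊔ W₂))) → NT (ann (W₁.subgroupOf (W₁ ⊔ W₂))) → IrrCharacter G)
  (ex : NT (ann (W₂.subgroupOf (W₁ ⊔ W₂))) → ℤ)
  (ey : NT (ann (W₁.subgroupOf (W₁ ⊔ W₂))) → ℤ)
  (ez : NT (ann (W₂.subgroupOf (W₁ ⊔ W₂))) → NT (ann (W₁.subgroupOf (W₁ ⊔ W₂))) → ℤ)

lemma tag_zz (i : NT (ann (W₂.subgroupOf (W₁ ⊔ W₂)))) (j : NT (ann (W₁.subgroupOf (W₁ ⊔ W₂)))) :
    tagF x y z i.1 j.1 = z i j ∧ sgnF ex ey ez i.1 j.1 = ez i j := by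
  unfold tagF sgnF
  rw [dif_pos i.2, dif_pos j.2, dif_pos i.2, dif_pos j.2]
  exact ⟨rfl, rfl⟩

lemma tag_x1 (i : NT (ann (W₂.subgroupOf (W₁ ⊔ W₂)))) :
    tagF x y z i.1 1 = x i ∧ sgnF ex ey ez i.1 1 = - ex i := by
  unfold tagF sgnF
  rw [dif_pos i.2, dif_neg (by simp), dif_pos i.2, dif_neg (by simp)]
  exact ⟨rfl, rfl⟩

lemma tag_1y (j : NT (ann (W₁.subgroupOf (W₁ ⊔ W₂)))) :
    tagF x y z 1 j.1 = y j ∧ sgnF ex ey ez 1 j.1 = - ey j := by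
  unfold tagF sgnF
  rw [dif_neg (by simp), dif_pos j.2, dif_neg (by simp), dif_pos j.2]
  exact ⟨rfl, rfl⟩

lemma tag_11 : tagF x y z 1 1 = one G ∧ sgnF ex ey ez 1 1 = 1 := by
  unfold tagF sgnF
  rw [dif_neg (by simp), dif_neg (by simp), dif_neg (by simp), dif_neg (by simp)]
  exact ⟨rfl, rfl⟩

lemma tag_sgn_cases {φ ψ : ↥(W₁ ⊔ W₂) →* ℂˣ} (hφ : φ ∈ ann (W₂.subgroupOf (W₁ ⊔ W₂)))
    (hψ : ψ ∈ ann (W₁.subgroupOf (W₁ ⊔ W₂))) :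
    (φ = 1 ∧ ψ = 1 ∧ tagF x y z φ ψ = one G ∧ sgnF ex ey ez φ ψ = 1) ∨
    (φ = 1 ∧ ∃ j : NT (ann (W₁.subgroupOf (W₁ ⊔ W₂))), j.1 = ψ ∧ tagF x y z φ ψ = y j ∧
      sgnF ex ey ez φ ψ = - ey j) ∨
    (ψ = 1 ∧ ∃ i : NT (ann (W₂.subgroupOf (W₁ ⊔ W₂))), i.1 = φ ∧ tagF x y z φ ψ = x i ∧
      sgnF ex ey ez φ ψ = - ex i) ∨
    (∃ (i : NT (ann (W₂.subgroupOf (W₁ ⊔ W₂)))) (j : NT (ann (W₁.subgroupOf (W₁ ⊔ W₂)))),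
      i.1 = φ ∧ j.1 = ψ ∧ tagF x y z φ ψ = z i j ∧ sgnF ex ey ez φ ψ = ez i j) := by
  by_cases h1 : φ = 1
  · by_cases h2 : ψ = 1
    · left
      subst h1; subst h2
      exact ⟨rfl, rfl, (tag_11 x y z ex ey ez).1, (tag_11 x y z ex ey ez).2⟩
    · right; left
      subst h1
      exact ⟨rfl, ⟨ψ, hψ, h2⟩, rfl, (tag_1y x y z ex ey ez ⟨ψ, hψ, h2⟩).1,
        (tag_1y x y z ex ey ez ⟨ψ, hψ, h2⟩).2⟩
  · by_cases h2 : ψ = 1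
    · right; right; left
      subst h2
      exact ⟨rfl, ⟨φ, hφ, h1⟩, rfl, (tag_x1 x y z ex ey ez ⟨φ, hφ, h1⟩).1,
        (tag_x1 x y z ex ey ez ⟨φ, hφ, h1⟩).2⟩
    · right; right; right
      exact ⟨⟨φ, hφ, h1⟩, ⟨ψ, hψ, h2⟩, rfl, rfl, (tag_zz x y z ex ey ez ⟨φ, hφ, h1⟩ ⟨ψ, hψ, h2⟩).1,
        (tag_zz x y z ex ey ez ⟨φ, hφ, h1⟩ ⟨ψ, hψ, h2⟩).2⟩

include x y z in
lemma sgn_pm (h1 : ∀ i, ex i = 1 ∨ ex i = -1) (h2 : ∀ j, ey j = 1 ∨ ey j = -1)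
    (h3 : ∀ i j, ez i j = 1 ∨ ez i j = -1)
    {φ ψ : ↥(W₁ ⊔ W₂) →* ℂˣ} (hφ : φ ∈ ann (W₂.subgroupOf (W₁ ⊔ W₂)))
    (hψ : ψ ∈ ann (W₁.subgroupOf (W₁ ⊔ W₂))) :
    sgnF ex ey ez φ ψ = 1 ∨ sgnF ex ey ez φ ψ = -1 := by
  rcases tag_sgn_cases x y z ex ey ez hφ hψ with ⟨-, -, -, h⟩ | ⟨-, j, -, -, h⟩ | ⟨-, i, -, -, h⟩ |
    ⟨i, j, -, -, -, h⟩
  · left; exact h
  · rw [h]; rcases h2 j with e | e <;> rw [e] <;> simp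
  · rw [h]; rcases h1 i with e | e <;> rw [e] <;> simp
  · rw [h]; exact h3 i j

include ex ey ez in
lemma tag_inj (h4 : Function.Injective x) (h5 : Function.Injective y)
    (h6 : ∀ i j i' j', z i j = z i' j' → i = i' ∧ j = j')
    (h7 : ∀ i j, x i ≠ y j) (h8 : ∀ i i' j, x i ≠ z i' j) (h9 : ∀ j i j', y j ≠ z i j')
    (hx1 : ∀ i, x i ≠ one G) (hy1 : ∀ j, y j ≠ one G) (hz1 : ∀ i j, z i j ≠ one G)
    {φ ψ φ' ψ' : ↥(W₁ ⊔ W₂) →* ℂˣ} (hφ : φ ∈ ann (W₂.subgroupOf (W₁ ⊔ W₂)))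
    (hψ : ψ ∈ ann (W₁.subgroupOf (W₁ ⊔ W₂))) (hφ' : φ' ∈ ann (W₂.subgroupOf (W₁ ⊔ W₂)))
    (hψ' : ψ' ∈ ann (W₁.subgroupOf (W₁ ⊔ W₂)))
    (h : tagF x y z φ ψ = tagF x y z φ' ψ') : φ = φ' ∧ ψ = ψ' := by
  rcases tag_sgn_cases x y z ex ey ez hφ hψ with ⟨a1, a2, a3, -⟩ | ⟨a1, j, a2, a3, -⟩ |
    ⟨a1, i, a2, a3, -⟩ | ⟨i, j, a1, a2, a3, -⟩ <;>
  rcases tag_sgn_cases x y z ex ey ez hφ' hψ' with ⟨b1, b2, b3, -⟩ | ⟨b1, j', b2, b3, -⟩ |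
    ⟨b1, i', b2, b3, -⟩ | ⟨i', j', b1, b2, b3, -⟩ <;>
  rw [a3, b3] at h
  · exact ⟨a1.trans b1.symm, a2.trans b2.symm⟩
  · exact absurd h.symm (hy1 j')
  · exact absurd h.symm (hx1 i')
  · exact absurd h.symm (hz1 i' j')
  · exact absurd h (hy1 j)
  · exact ⟨a1.trans b1.symm, by rw [← a2, ← b2, h5 h]⟩
  · exact absurd h.symm (h7 i' j)
  · exact absurd h (h9 j i' j')
  · exact absurd h (hx1 i)
  · exact absurd h (h7 i j')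
  · exact ⟨by rw [← a2, ← b2, h4 h], a1.trans b1.symm⟩
  · exact absurd h (h8 i i' j')
  · exact absurd h (hz1 i j)
  · exact absurd h.symm (h9 j' i j)
  · exact absurd h.symm (h8 i' i j)
  · obtain ⟨e1, e2⟩ := h6 i j i' j' h
    exact ⟨by rw [← a1, ← b1, e1], by rw [← a2, ← b2, e2]⟩

end famE

end Cfsg.Agent.Lib.Helper6.CycExist
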