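import Mathlib
import Cfsg.Agent.Lib.Helper6.CycExist4

set_option autoImplicit false

/-! Existence of the cyclic TI family (Peterfalvi (3.2)): final assembly. -/

namespace Cfsg.Agent.Lib.Helper6.CycExist

open Cfsg Cfsg.Agent.Lib.Lead.CycTI Cfsg.Agent.Lib.Helper6 Cfsg.Agent.Lib.Helper6.CycComb
open scoped ComplexConjugate

section final
variable {G : Type*} [Group G] [Fintype G]

theorem coeff_one [Fintype (IrrCharacter G)] {W₁ W₂ : Subgroup G}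
    (hW : IsSelfNormalizingCyclic W₁ W₂)
    (c : (↥(W₁ ⊔ W₂) →* ℂˣ) → (↥(W₁ ⊔ W₂) →* ℂˣ) → IrrCharacter G → ℤ)
    (hc : ∀ φ ψ, indFun (W₁ ⊔ W₂) (Lead.CycTI.alpha φ ψ) = ∑ β, (c φ ψ β : ℂ) • (β : G → ℂ) ∧
        ∀ β : IrrCharacter G, classInner (indFun (W₁ ⊔ W₂) (Lead.CycTI.alpha φ ψ)) (β : G → ℂ) = c φ ψ β)
    (i : NT (ann (W₂.subgroupOf (W₁ ⊔ W₂)))) (j : NT (ann (W₁.subgroupOf (W₁ ⊔ W₂)))) :
    c i.1 j.1 (one G) = 1 := by
  have hφ2 : ∀ w : ↥(W₁ ⊔ W₂), (w : G) ∈ W₂ → i.1 w = 1 ∧ i.1 w = 1 := fun w hw =>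
    ⟨mem_ann_subgroupOf.mp i.2.1 w hw, mem_ann_subgroupOf.mp i.2.1 w hw⟩
  have hψ1 : ∀ w : ↥(W₁ ⊔ W₂), (w : G) ∈ W₁ → j.1 w = 1 ∧ j.1 w = 1 := fun w hw =>
    ⟨mem_ann_subgroupOf.mp j.2.1 w hw, mem_ann_subgroupOf.mp j.2.1 w hw⟩
  obtain ⟨h1, -⟩ := s1505 W₁ W₂ hW i.1 i.1 j.1 j.1 i.2.2 i.2.2 j.2.2 j.2.2 hφ2 hψ1
  have := (hc i.1 j.1).2 (one G)
  have e : ((one G : IrrCharacter G) : G → ℂ) = fun _ => 1 := rfl
  rw [e, h1] at this
  exact_mod_cast this.symm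

theorem exists_family (W₁ W₂ : Subgroup G) (hW : IsSelfNormalizingCyclic W₁ W₂)
    (hodd : Odd (Nat.card ↥(W₁ ⊔ W₂))) :
    ∃ χ : (↥(W₁ ⊔ W₂) →* ℂˣ) → (G → ℂ), IsCyclicTIFamily W₁ W₂ χ := by
  classical
  letI : Fintype (IrrCharacter G) := Fintype.ofFinite _
  letI : Fintype ↥(W₁ ⊔ W₂) := Fintype.ofFinite _
  letI : Fintype (NT (ann (W₂.subgroupOf (W₁ ⊔ W₂)))) := Fintype.ofFinite _
  letI : Fintype (NT (ann (W₁.subgroupOf (W₁ ⊔ W₂)))) := Fintype.ofFinite _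
  obtain ⟨c, hc⟩ := exists_coeff W₁ W₂
  have hG := bArr_gram hW c hc
  have hcyc := hW.2.2.2.2.1
  have hcomm := W_comm hcyc
  have hdisj := sub_disj hW.2.2.1
  have hsup := sub_sup W₁ W₂
  have hdisj' : (W₂.subgroupOf (W₁ ⊔ W₂)) ⊓ (W₁.subgroupOf (W₁ ⊔ W₂)) = ⊥ :=
    (inf_comm _ _).trans hdisj
  have hsup' : (W₂.subgroupOf (W₁ ⊔ W₂)) ⊔ (W₁.subgroupOf (W₁ ⊔ W₂)) = ⊤ :=
    (sup_comm _ _).trans hsup
  -- cardinalities
  have cI : Fintype.card (NT (ann (W₂.subgroupOf (W₁ ⊔ W₂)))) = Nat.card W₁ - 1 := by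
    rw [card_NT, card_ann hcomm, index_of_compl hcomm _ _ hdisj hsup, card_sub_left]
  have cJ : Fintype.card (NT (ann (W₁.subgroupOf (W₁ ⊔ W₂)))) = Nat.card W₂ - 1 := by
    rw [card_NT, card_ann hcomm, index_of_compl hcomm _ _ hdisj' hsup', card_sub_right]
  obtain ⟨k1, o1⟩ := three_le_card (W := W₁ ⊔ W₂) le_sup_left hodd hW.1
  obtain ⟨k2, o2⟩ := three_le_card (W := W₁ ⊔ W₂) le_sup_right hodd hW.2.1
  have h33 : ¬ (Nat.card W₁ = 3 ∧ Nat.card W₂ = 3) := by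
    rintro ⟨e1, e2⟩
    exact not_both_three hcyc _ _ hdisj hsup (by rw [card_sub_left, e1]) (by rw [card_sub_right, e2])
  obtain ⟨m1, hm1⟩ := o1
  obtain ⟨m2, hm2⟩ := o2
  have hstd : Standard (bArr c) :=
    hG.standard (by omega) (by omega) (by omega) (by omega) (by omega)
  obtain ⟨x, y, z, ex, ey, ez, h1, h2, h3, h4, h5, h6, h7, h8, h9, h10⟩ := hstd
  -- index types are nonempty
  have hI0 : Nonempty (NT (ann (W₂.subgroupOf (W₁ ⊔ W₂)))) := by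
    rw [← Fintype.card_pos_iff]; omega
  have hJ0 : Nonempty (NT (ann (W₁.subgroupOf (W₁ ⊔ W₂)))) := by
    rw [← Fintype.card_pos_iff]; omega
  obtain ⟨i₀⟩ := hI0
  obtain ⟨j₀⟩ := hJ0
  -- the principal character is none of the new ones
  have hb1 : ∀ i j, bArr c i j (one G) = 0 := by
    intro i j
    unfold bArr
    rw [coeff_one hW c hc i j, if_pos rfl, sub_self]
  have nz : ∀ {s : ℤ}, (s = 1 ∨ s = -1) → s ≠ 0 := by
    intro s hs; rcases hs with rfl | rfl <;> norm_num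
  have hx1 : ∀ i, x i ≠ one G := by
    intro i e
    have := h10 i j₀ (one G)
    rw [hb1, ← e, if_pos rfl, if_neg (h7 i j₀), if_neg (h8 i i j₀)] at this
    exact nz (h1 i) (by linarith)
  have hy1 : ∀ j, y j ≠ one G := by
    intro j e
    have := h10 i₀ j (one G)
    rw [hb1, ← e, if_neg (Ne.symm (h7 i₀ j)), if_pos rfl, if_neg (h9 j i₀ j)] at this
    exact nz (h2 j) (by linarith)
  have hz1 : ∀ i j, z i j ≠ one G := by
    intro i j e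
    have := h10 i j (one G)
    rw [hb1, ← e, if_neg (Ne.symm (h8 i i j)), if_neg (Ne.symm (h9 j i j)), if_pos rfl] at this
    exact nz (h3 i j) (by linarith)
  -- the family on pairs
  refine family_of_F hW
    (fun φ ψ => (sgnF ex ey ez φ ψ : ℂ) • ((tagF x y z φ ψ : IrrCharacter G) : G → ℂ)) ?_ ?_ ?_ ?_
  · intro φ hφ ψ hψ
    exact sgn_smul (sgn_pm x y z ex ey ez h1 h2 h3 hφ hψ) _
  · intro φ hφ ψ hψ φ' hφ' ψ' hψ'
    rw [inner_signed]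
    by_cases he : φ = φ' ∧ ψ = ψ'
    · obtain ⟨rfl, rfl⟩ := he
      rw [if_pos rfl, if_pos ⟨rfl, rfl⟩]
      rcases sgn_pm x y z ex ey ez h1 h2 h3 hφ hψ with e | e <;> rw [e] <;> norm_num
    · rw [if_neg he, if_neg]
      intro ht
      exact he (tag_inj x y z ex ey ez h4 h5 h6 h7 h8 h9 hx1 hy1 hz1 hφ hψ hφ' hψ' ht)
  · show (sgnF ex ey ez 1 1 : ℂ) • ((tagF x y z 1 1 : IrrCharacter G) : G → ℂ) = fun _ => 1
    rw [(tag_11 x y z ex ey ez).1, (tag_11 x y z ex ey ez).2]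
    funext g
    simp [one]
  · intro φ hφ ψ hψ hφ1 hψ1
    obtain ⟨i, hi⟩ : ∃ i : NT (ann (W₂.subgroupOf (W₁ ⊔ W₂))), i.1 = φ := ⟨⟨φ, hφ, hφ1⟩, rfl⟩
    obtain ⟨j, hj⟩ : ∃ j : NT (ann (W₁.subgroupOf (W₁ ⊔ W₂))), j.1 = ψ := ⟨⟨ψ, hψ, hψ1⟩, rfl⟩
    subst hi; subst hj
    show indFun (W₁ ⊔ W₂) (Lead.CycTI.alpha i.1 j.1)
      = (sgnF ex ey ez 1 1 : ℂ) • ((tagF x y z 1 1 : IrrCharacter G) : G → ℂ)
        - (sgnF ex ey ez i.1 1 : ℂ) • ((tagF x y z i.1 1 : IrrCharacter G) : G → ℂ)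
        - (sgnF ex ey ez 1 j.1 : ℂ) • ((tagF x y z 1 j.1 : IrrCharacter G) : G → ℂ)
        + (sgnF ex ey ez i.1 j.1 : ℂ) • ((tagF x y z i.1 j.1 : IrrCharacter G) : G → ℂ)
    rw [(tag_11 x y z ex ey ez).1, (tag_11 x y z ex ey ez).2, (tag_x1 x y z ex ey ez i).1,
      (tag_x1 x y z ex ey ez i).2, (tag_1y x y z ex ey ez j).1, (tag_1y x y z ex ey ez j).2,
      (tag_zz x y z ex ey ez i j).1, (tag_zz x y z ex ey ez i j).2, (hc i.1 j.1).1]
    have hcoef : ∀ β : IrrCharacter G, (c i.1 j.1 β : ℂ) =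
        (1 : ℂ) * (if β = one G then 1 else 0) + (ex i : ℂ) * (if β = x i then 1 else 0)
          + (ey j : ℂ) * (if β = y j then 1 else 0) + (ez i j : ℂ) * (if β = z i j then 1 else 0) := by
      intro β
      have := h10 i j β
      unfold bArr at this
      have e : c i.1 j.1 β = (if β = one G then 1 else 0) + (ex i * (if β = x i then 1 else 0)
          + ey j * (if β = y j then 1 else 0) + ez i j * (if β = z i j then 1 else 0)) := by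
        linarith
      rw [e]
      push_cast
      ring
    simp only [hcoef, add_smul, Finset.sum_add_distrib, sum_ite_smul]
    push_cast
    simp only [neg_smul, sub_neg_eq_add]

end final

end Cfsg.Agent.Lib.Helper6.CycExist
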