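import Mathlib

set_option autoImplicit false

namespace Cfsg.Agent.Lib.Helper6

/-- In a finite cyclic group, subgroups of equal order are equal. -/
theorem cyclic_subgroup_eq_of_card_eq {H : Type*} [Group H] [Finite H] [IsCyclic H]
    (A B : Subgroup H) (h : Nat.card A = Nat.card B) : A = B := by
  classical
  have : Fintype H := Fintype.ofFinite H
  set n := Nat.card A with hn
  have hn0 : 0 < n := Nat.card_pos
  have hS := IsCyclic.card_pow_eq_one_le (α := H) hn0
  have key : ∀ C : Subgroup H, Nat.card C = n →
      (C : Set H).toFinset = Finset.univ.filter (fun a : H => a ^ n = 1) := by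
    intro C hC
    apply Finset.eq_of_subset_of_card_le
    · intro x hx
      simp only [Set.mem_toFinset, SetLike.mem_coe] at hx
      simp only [Finset.mem_filter, Finset.mem_univ, true_and]
      have h1 : (⟨x, hx⟩ : C) ^ Nat.card C = 1 := pow_card_eq_one'
      rw [hC] at h1
      exact congrArg Subtype.val h1
    · rw [Set.toFinset_card]
      have : Fintype.card (C : Set H) = n := by
        rw [← hC, Nat.card_eq_fintype_card]
        rfl
      rw [this]
      exact hS
  have hA := key A rfl
  have hB := key B h.symm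
  ext x
  have h1 : x ∈ (A : Set H).toFinset ↔ x ∈ (B : Set H).toFinset := by rw [hA, hB]
  simpa using h1

/-- A nontrivial normal subgroup of a finite `p`-group contains a nontrivial central element. -/
theorem exists_mem_center_of_normal_ne_bot' {E : Type*} [Group E] [Finite E] {p : ℕ}
    [Fact p.Prime] (hE : IsPGroup p E)
    (D : Subgroup E) [D.Normal] (hD : D ≠ ⊥) : ∃ b ∈ D, b ≠ 1 ∧ b ∈ Subgroup.center E := by
  have hC : IsPGroup p (ConjAct E) := hE.of_equiv ConjAct.toConjAct
  have hpD : p ∣ Nat.card D := by
    rcases (hE.to_subgroup D).card_eq_or_dvd with h1 | h1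
    · exact absurd (Subgroup.card_eq_one.mp h1) hD
    · exact h1
  have h1 : (1 : D) ∈ MulAction.fixedPoints (ConjAct E) D := by
    intro g
    apply Subtype.ext
    rw [ConjAct.Subgroup.val_conj_smul, ConjAct.smul_def]
    simp
  obtain ⟨b, hb, hb1⟩ := hC.exists_fixed_point_of_prime_dvd_card_of_fixed_point D hpD h1
  refine ⟨b, b.2, ?_, ?_⟩
  · intro h
    apply hb1
    apply Subtype.ext
    simpa using h.symm
  · rw [Subgroup.mem_center_iff]
    intro g
    have := hb (ConjAct.toConjAct g)
    have h2 := congrArg Subtype.val this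
    rw [ConjAct.Subgroup.val_conj_smul, ConjAct.smul_def] at h2
    simp only [ConjAct.ofConjAct_toConjAct] at h2
    calc g * (b : E) = (g * b * g⁻¹) * g := by group
      _ = b * g := by rw [h2]

/-- In a finite `p`-group with cyclic centre, every nontrivial normal subgroup contains every
central element of order `p`. -/
theorem mem_of_normal_ne_bot_of_center_cyclic {E : Type*} [Group E] [Finite E] {p : ℕ}
    [Fact p.Prime] (hE : IsPGroup p E) (hcyc : IsCyclic (Subgroup.center E))
    (D : Subgroup E) [D.Normal] (hD : D ≠ ⊥) {z : E} (hz : z ∈ Subgroup.center E)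
    (hzp : orderOf z = p) : z ∈ D := by
  obtain ⟨b, hbD, hb1, hbZ⟩ := exists_mem_center_of_normal_ne_bot' hE D hD
  -- an element of order `p` in `zpowers b`
  have hbo : ∃ k : ℕ, orderOf b = p ^ k := hE.exists_orderOf_eq_pow b
  obtain ⟨k, hk⟩ := hbo
  have hk0 : k ≠ 0 := by
    intro h0
    rw [h0, pow_zero, orderOf_eq_one_iff] at hk
    exact hb1 hk
  obtain ⟨j, rfl⟩ := Nat.exists_eq_succ_of_ne_zero hk0
  set c := b ^ (p ^ j) with hc
  have hp := (Fact.out : p.Prime)
  have hco : orderOf c = p := by
    have h1 := orderOf_pow_orderOf_div (x := b) (n := p) (by rw [hk]; exact pow_ne_zero _ hp.ne_zero)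
      (by rw [hk]; exact dvd_pow_self p (Nat.succ_ne_zero j))
    rw [hk, pow_succ, Nat.mul_div_cancel _ hp.pos] at h1
    exact h1
  have hcD : c ∈ D := D.pow_mem hbD _
  have hcZ : c ∈ Subgroup.center E := (Subgroup.center E).pow_mem hbZ _
  -- compare the two subgroups of order `p` in the centre
  let A : Subgroup (Subgroup.center E) := Subgroup.zpowers ⟨c, hcZ⟩
  let B : Subgroup (Subgroup.center E) := Subgroup.zpowers ⟨z, hz⟩
  have hA : Nat.card A = p := by
    rw [Nat.card_zpowers, ← Subgroup.orderOf_coe]
    exact hco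
  have hB : Nat.card B = p := by
    rw [Nat.card_zpowers, ← Subgroup.orderOf_coe]
    exact hzp
  have hAB : A = B := cyclic_subgroup_eq_of_card_eq A B (hA.trans hB.symm)
  have hzA : (⟨z, hz⟩ : Subgroup.center E) ∈ A := by
    rw [hAB]
    exact Subgroup.mem_zpowers _
  obtain ⟨m, hm⟩ := Subgroup.mem_zpowers_iff.mp hzA
  have hm' : c ^ m = z := by
    have := congrArg Subtype.val hm
    simpa using this
  rw [← hm']
  exact D.zpow_mem hcD m

end Cfsg.Agent.Lib.Helper6
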