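import Mathlib

set_option autoImplicit false

namespace Cfsg.Agent.Lib.Helper6

open Polynomial

theorem exists_int_eq_prod_aeval_primitiveRoots_aux (N : ℕ) (hN : 0 < N) (K : Type*) [Field K]
    [Algebra ℚ K] [IsCyclotomicExtension {N} ℚ K] (P : Polynomial ℤ) :
    ∃ m : ℤ, (m : ℂ) = ∏ η ∈ primitiveRoots N ℂ, Polynomial.aeval η P := by
  haveI : NeZero N := ⟨hN.ne'⟩
  haveI : NumberField K := IsCyclotomicExtension.numberField {N} ℚ K
  obtain ⟨ζ, hζdef⟩ : ∃ ζ : K, ζ = IsCyclotomicExtension.zeta N ℚ K := ⟨_, rfl⟩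
  have hζ : IsPrimitiveRoot ζ N := by
    rw [hζdef]; exact IsCyclotomicExtension.zeta_spec N ℚ K
  obtain ⟨x, hx⟩ : ∃ x : K, x = Polynomial.aeval ζ P := ⟨_, rfl⟩
  have hζint : IsIntegral ℤ ζ := hζ.isIntegral hN
  have hxint : IsIntegral ℤ x := by
    rw [hx, Polynomial.aeval_eq_sum_range]
    apply IsIntegral.sum
    intro i _
    exact (IsIntegral.pow hζint i).smul _
  have hnorm := Algebra.norm_eq_prod_embeddings ℚ ℂ x
  have hnint : IsIntegral ℤ (Algebra.norm ℚ x) := Algebra.isIntegral_norm ℚ hxint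
  obtain ⟨m, hm⟩ := IsIntegrallyClosed.isIntegral_iff.mp hnint
  refine ⟨m, ?_⟩
  have h1 : (m : ℂ) = algebraMap ℚ ℂ (Algebra.norm ℚ x) := by
    rw [← hm]
    simp
  rw [h1, hnorm]
  obtain ⟨e, he⟩ : ∃ e : (K →ₐ[ℚ] ℂ) ≃ primitiveRoots N ℂ,
      e = hζ.embeddingsEquivPrimitiveRoots ℂ (Polynomial.cyclotomic.irreducible_rat hN) :=
    ⟨_, rfl⟩
  rw [← Finset.prod_coe_sort (primitiveRoots N ℂ) (fun η => Polynomial.aeval η P)]
  rw [← Equiv.prod_comp e]
  apply Finset.prod_congr rfl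
  intro σ _
  have h2 : ((e σ : primitiveRoots N ℂ) : ℂ) = σ ζ := by
    rw [he]
    exact IsPrimitiveRoot.embeddingsEquivPrimitiveRoots_apply_coe hζ ℂ _ σ
  rw [h2, hx]
  have := Polynomial.aeval_algHom_apply (σ.restrictScalars ℤ) ζ P
  simpa using this.symm

/-- the product of the values of an integer polynomial at the primitive roots is an integer -/
theorem exists_int_eq_prod_aeval_primitiveRoots (N : ℕ) (hN : 0 < N) (P : Polynomial ℤ) :
    ∃ m : ℤ, (m : ℂ) = ∏ η ∈ primitiveRoots N ℂ, Polynomial.aeval η P := by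
  haveI : NeZero N := ⟨hN.ne'⟩
  exact @exists_int_eq_prod_aeval_primitiveRoots_aux N hN (CyclotomicField N ℚ) _
    (CyclotomicField.algebra N ℚ) (CyclotomicField.isCyclotomicExtension N ℚ) P

/-- an integer polynomial not vanishing at the primitive `N`-th roots of unity has large
square sum there -/
theorem totient_le_sum_normSq_aeval_primitiveRoots (N : ℕ) (hN : 0 < N) (P : Polynomial ℤ)
    (hP : ∀ η ∈ primitiveRoots N ℂ, Polynomial.aeval η P ≠ 0) :
    (Nat.totient N : ℝ) ≤ ∑ η ∈ primitiveRoots N ℂ, Complex.normSq (Polynomial.aeval η P) := by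
  obtain ⟨m, hm⟩ := exists_int_eq_prod_aeval_primitiveRoots N hN P
  have hm0 : m ≠ 0 := by
    intro h0
    rw [h0, Int.cast_zero] at hm
    obtain ⟨η, hη, h1⟩ := Finset.prod_eq_zero_iff.mp hm.symm
    exact hP η hη h1
  have hprod : (1 : ℝ) ≤ ∏ η ∈ primitiveRoots N ℂ, Complex.normSq (Polynomial.aeval η P) := by
    have h1 : ∏ η ∈ primitiveRoots N ℂ, Complex.normSq (Polynomial.aeval η P)
        = Complex.normSq (m : ℂ) := by
      rw [hm, map_prod]
    rw [h1, Complex.normSq_intCast]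
    have h2 : (1 : ℤ) ≤ |m| := Int.one_le_abs hm0
    have h3 : (1 : ℝ) ≤ |(m : ℝ)| := by exact_mod_cast h2
    have h6 : (m : ℝ) * (m : ℝ) = |(m : ℝ)| * |(m : ℝ)| := (abs_mul_abs_self _).symm
    rw [h6]
    nlinarith [abs_nonneg (m : ℝ)]
  have hcard : (primitiveRoots N ℂ).card = Nat.totient N := Complex.card_primitiveRoots N
  have hpos : 0 < Nat.totient N := Nat.totient_pos.mpr hN
  have hn : (0 : ℝ) < (Nat.totient N : ℝ) := by exact_mod_cast hpos
  have hamgm := Real.geom_mean_le_arith_mean_weighted (primitiveRoots N ℂ)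
    (fun _ => (1 : ℝ) / (Nat.totient N : ℝ))
    (fun η => Complex.normSq (Polynomial.aeval η P))
    (fun _ _ => by positivity)
    (by rw [Finset.sum_const, hcard, nsmul_eq_mul]; field_simp)
    (fun η _ => Complex.normSq_nonneg _)
  rw [Real.finsetProd_rpow _ _ (fun η _ => Complex.normSq_nonneg _)] at hamgm
  have h4 : (1 : ℝ) ≤ (∏ η ∈ primitiveRoots N ℂ, Complex.normSq (Polynomial.aeval η P))
      ^ ((1 : ℝ) / (Nat.totient N : ℝ)) := Real.one_le_rpow hprod (by positivity)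
  have h5 := h4.trans hamgm
  rw [← Finset.mul_sum] at h5
  rw [one_div, ← div_eq_inv_mul, le_div_iff₀ hn, one_mul] at h5
  exact h5

end Cfsg.Agent.Lib.Helper6
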