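import Cfsg.Agent.Lib.Helper2.PUBasic3
import Cfsg.Agent.Lib.Helper5.D2NRechoose

/-! Farm D2N (S4385), unit `iia_rho` (A3) (stub statement verbatim). -/
set_option autoImplicit false
set_option linter.unusedVariables false
set_option linter.unusedSectionVars false

namespace Cfsg.Agent.Lib.Helper6.D2N

open Cfsg.Agent.Lib.Helper2.PU

variable {G : Type*} [Group G]

variable {H P T K V Z W T0 : Subgroup G} {y ρ w0 : G} {n : ℕ}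

/-- A3. `rechoose` with `N := {g ∈ H | ∀ x ∈ T, g x g⁻¹ x⁻¹ ∈ W}`. -/
theorem iia_rho [Finite G] (s : Setup H P T K y ρ n) (c : C2 H P T V Z w0)
    (hW : IsW H V W w0) (u : G) (huP : u ∈ P) (huT : u ∉ T)
    (hu : ∀ x ∈ T, u * x * u⁻¹ * x⁻¹ = 1 ∨ u * x * u⁻¹ * x⁻¹ = w0) :
    ∃ ρ' : G, Setup H P T K y ρ' n ∧ ∀ x ∈ T, ρ' * x * ρ'⁻¹ * x⁻¹ ∈ W := by
  -- the subgroup `N`
  let N : Subgroup G :=
    { carrier := {g | g ∈ H ∧ ∀ x ∈ T, g * x * g⁻¹ * x⁻¹ ∈ W}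
      one_mem' := by
        refine ⟨H.one_mem, fun x _ => ?_⟩
        have : (1 : G) * x * 1⁻¹ * x⁻¹ = 1 := by group
        rw [this]; exact W.one_mem
      mul_mem' := by
        rintro g h ⟨hgH, hg⟩ ⟨hhH, hh⟩
        refine ⟨H.mul_mem hgH hhH, fun x hx => ?_⟩
        have e : g * h * x * (g * h)⁻¹ * x⁻¹ =
            (g * (h * x * h⁻¹ * x⁻¹) * g⁻¹) * (g * x * g⁻¹ * x⁻¹) := by group
        rw [e]
        exact W.mul_mem (hW.hWn g hgH _ (hh x hx)) (hg x hx)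
      inv_mem' := by
        rintro g ⟨hgH, hg⟩
        refine ⟨H.inv_mem hgH, fun x hx => ?_⟩
        have e : g⁻¹ * x * g⁻¹⁻¹ * x⁻¹ = g⁻¹ * (g * x * g⁻¹ * x⁻¹)⁻¹ * g⁻¹⁻¹ := by group
        rw [e]
        exact hW.hWn g⁻¹ (H.inv_mem hgH) _ (W.inv_mem (hg x hx)) }
  have hNmem : ∀ g, g ∈ N ↔ g ∈ H ∧ ∀ x ∈ T, g * x * g⁻¹ * x⁻¹ ∈ W := fun g => Iff.rfl
  have hNinv : ∀ a ∈ H, ∀ g ∈ N, a * g * a⁻¹ ∈ N := by
    intro a ha g hg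
    obtain ⟨hgH, hg⟩ := (hNmem g).1 hg
    refine (hNmem _).2 ⟨H.mul_mem (H.mul_mem ha hgH) (H.inv_mem ha), fun x hx => ?_⟩
    have hx' : a⁻¹ * x * a ∈ T := s.inv_conj_T ha hx
    have e : a * g * a⁻¹ * x * (a * g * a⁻¹)⁻¹ * x⁻¹ =
        a * (g * (a⁻¹ * x * a) * g⁻¹ * (a⁻¹ * x * a)⁻¹) * a⁻¹ := by group
    rw [e]
    exact hW.hWn a ha _ (hg _ hx')
  have huN : u ∈ N := by
    refine (hNmem u).2 ⟨s.hPH huP, fun x hx => ?_⟩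
    rcases hu x hx with h | h
    · rw [h]; exact W.one_mem
    · rw [h]; exact hW.hw0W
  obtain ⟨ρ', hρ'N, hs'⟩ := Cfsg.Agent.Lib.Helper5.D2N.rechoose s N hNinv u huP huT huN
  exact ⟨ρ', hs', ((hNmem ρ').1 hρ'N).2⟩

end Cfsg.Agent.Lib.Helper6.D2N
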