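import Cfsg.Agent.Lib.Helper2.PUBasic3

/-! Farm D2N (S4385), unit `iia_T0small` (A5) (stub statement verbatim). -/
set_option autoImplicit false
set_option linter.unusedVariables false
set_option linter.unusedSectionVars false

namespace Cfsg.Agent.Lib.Helper6.D2N

open Cfsg.Agent.Lib.Helper2.PU

variable {G : Type*} [Group G]

variable {H P T K V Z W T0 : Subgroup G} {y ρ w0 : G} {n : ℕ}

/-- A5, step 2: `y c y⁻¹ ∈ T0 * {1, w0}` for `c ∈ T0`. -/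
theorem iia_T0_conj_y [Finite G] (s : Setup H P T K y ρ n) (c : C2 H P T V Z w0)
    (hW : IsW H V W w0) (r : RhoW H V Z W ρ w0) (t0 : IsT0 H T W T0 ρ)
    (hA1 : ∀ v ∈ V, v ∉ Z → (y * v * y⁻¹ ∈ P ∧ y * v * y⁻¹ ∉ T ∧
      ∀ x ∈ T, (y * v * y⁻¹) * x * (y * v * y⁻¹)⁻¹ * x⁻¹ = 1 ∨
        (y * v * y⁻¹) * x * (y * v * y⁻¹)⁻¹ * x⁻¹ = w0)) :
    ∀ d ∈ T0, ∃ d' ∈ T0, y * d * y⁻¹ = d' ∨ y * d * y⁻¹ = d' * w0 := by
  have hρH : ρ ∈ H := s.hKH s.hρK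
  obtain ⟨a, ha⟩ : ∃ a : G, a = ρ * w0 * ρ⁻¹ := ⟨_, rfl⟩
  have haW : a ∈ W := by rw [ha]; exact hW.hWn ρ hρH w0 hW.hw0W
  have haV : a ∈ V := hW.hWV haW
  have haZ : a ∉ Z := by rw [ha]; exact r.haZ
  obtain ⟨huP, huT, hux⟩ := hA1 a haV haZ
  obtain ⟨u, hu⟩ : ∃ u : G, u = y * a * y⁻¹ := ⟨_, rfl⟩
  rw [← hu] at huP huT hux
  -- step 1: `u` centralizes `T0`
  have hstep1 : ∀ d ∈ T0, u * d = d * u := by
    intro d hd
    have h1 : u * d * u⁻¹ * d⁻¹ ∈ W := by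
      rcases hux d (t0.hT0T hd) with h | h
      · rw [h]; exact W.one_mem
      · rw [h]; exact hW.hw0W
    have h2 : u * d * u⁻¹ * d⁻¹ ∈ T0 :=
      T0.mul_mem (t0.hT0n u (s.hPH huP) d hd) (T0.inv_mem hd)
    have h3 := t0.hT0W _ h2 h1
    calc u * d = (u * d * u⁻¹ * d⁻¹) * (d * u) := by group
      _ = d * u := by rw [h3, one_mul]
  intro d hd
  have hdT : d ∈ T := t0.hT0T hd
  obtain ⟨g, hg⟩ : ∃ g : G, g = y * d * y⁻¹ := ⟨_, rfl⟩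
  rw [← hg]
  have hgP : g ∈ P := by rw [hg]; exact s.hyP d (s.hTP hdT)
  -- `g` commutes with `u`
  have had : a * d = d * a := c.hVc a haV d hdT
  have hgu : g * u = u * g := by
    rw [hg, hu]
    calc y * d * y⁻¹ * (y * a * y⁻¹) = y * (d * a) * y⁻¹ := by group
      _ = y * (a * d) * y⁻¹ := by rw [had]
      _ = y * a * y⁻¹ * (y * d * y⁻¹) := by group
  -- `g` commutes with `y u y⁻¹ = p0 a p0⁻¹`
  obtain ⟨p0, hp0P, hp0⟩ := s.hy2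
  have haP : a ∈ P := s.hTP (c.hVT haV)
  have hyu : y * u * y⁻¹ = p0 * a * p0⁻¹ := by
    rw [hu, ← hp0 a haP]; group
  have hgyu : g * (y * u * y⁻¹) = (y * u * y⁻¹) * g := by
    rw [hg]
    calc y * d * y⁻¹ * (y * u * y⁻¹) = y * (d * u) * y⁻¹ := by group
      _ = y * (u * d) * y⁻¹ := by rw [hstep1 d hd]
      _ = y * u * y⁻¹ * (y * d * y⁻¹) := by group
  have hgw0 : g * w0 = w0 * g := c.w0_comm_P hgP
  have hga : g * a = a * g := by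
    rcases c.hw0 p0 hp0P a haV with h | h
    · have e : p0 * a * p0⁻¹ = a := by
        calc p0 * a * p0⁻¹ = (p0 * a * p0⁻¹ * a⁻¹) * a := by group
          _ = a := by rw [h, one_mul]
      rw [hyu, e] at hgyu
      exact hgyu
    · have e : p0 * a * p0⁻¹ = w0 * a := by
        calc p0 * a * p0⁻¹ = (p0 * a * p0⁻¹ * a⁻¹) * a := by group
          _ = w0 * a := by rw [h]
      rw [hyu, e] at hgyu
      -- g * (w0 * a) = (w0 * a) * g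
      have : w0 * (g * a) = w0 * (a * g) := by
        calc w0 * (g * a) = (w0 * g) * a := by group
          _ = (g * w0) * a := by rw [hgw0]
          _ = g * (w0 * a) := by group
          _ = w0 * a * g := hgyu
          _ = w0 * (a * g) := by group
      exact mul_left_cancel this
  -- hence `g ∈ T`
  have hgT : g ∈ T := by
    by_contra hgT
    have h := c.comm_eq_w0 s hgP hgT haV haZ
    have h1 : g * a * g⁻¹ * a⁻¹ = 1 := by rw [hga]; group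
    rw [h1] at h
    exact c.hw01 h.symm
  obtain ⟨d', hd', w, hw, hgw⟩ := t0.hdec g hgT
  -- `w` commutes with `u`
  have hwu : u * w = w * u := by
    have hw' : w = d'⁻¹ * g := by rw [hgw]; group
    have hd'u := hstep1 d' hd'
    have hd'iu : u * d'⁻¹ = d'⁻¹ * u := by
      have : Commute u d' := hd'u
      exact this.inv_right.eq
    rw [hw']
    calc u * (d'⁻¹ * g) = (u * d'⁻¹) * g := by group
      _ = (d'⁻¹ * u) * g := by rw [hd'iu]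
      _ = d'⁻¹ * (u * g) := by group
      _ = d'⁻¹ * (g * u) := by rw [hgu]
      _ = d'⁻¹ * g * u := by group
  have hwV : w ∈ V := hW.hWV hw
  have hwZ : w ∈ Z := c.toC2a.mem_Z_of_comm s huP huT hwV hwu
  refine ⟨d', hd', ?_⟩
  rcases r.hlist w hw with h | h | h | h
  · left; rw [hgw, h, mul_one]
  · right; rw [hgw, h]
  · exfalso; rw [h, ← ha] at hwZ; exact haZ hwZ
  · exfalso
    rw [← ha] at h
    have : a = w * w0 := by rw [h, mul_assoc, c.w0_sq, mul_one]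
    apply haZ
    rw [this]
    exact Z.mul_mem hwZ c.hw0Z

/-- A5. `|T0| ≤ 2`. -/
theorem iia_T0small [Finite G] (s : Setup H P T K y ρ n) (c : C2 H P T V Z w0)
    (hW : IsW H V W w0) (r : RhoW H V Z W ρ w0)
    (hρW : ∀ x ∈ T, ρ * x * ρ⁻¹ * x⁻¹ ∈ W) (t0 : IsT0 H T W T0 ρ)
    (hyw0 : y * w0 * y⁻¹ = w0)
    (hA1 : ∀ v ∈ V, v ∉ Z → (y * v * y⁻¹ ∈ P ∧ y * v * y⁻¹ ∉ T ∧
      ∀ x ∈ T, (y * v * y⁻¹) * x * (y * v * y⁻¹)⁻¹ * x⁻¹ = 1 ∨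
        (y * v * y⁻¹) * x * (y * v * y⁻¹)⁻¹ * x⁻¹ = w0)) :
    ∀ c1 ∈ T0, ∀ c2 ∈ T0, c1 = 1 ∨ c2 = 1 ∨ c1 = c2 := by
  have hconj := iia_T0_conj_y s c hW r t0 hA1
  have hρH : ρ ∈ H := s.hKH s.hρK
  -- the subgroup `Q`
  let Q : Subgroup G :=
    { carrier := {x | x ∈ T0 ∧ y * x * y⁻¹ ∈ T0}
      one_mem' := by
        refine ⟨T0.one_mem, ?_⟩
        have : y * 1 * y⁻¹ = 1 := by group
        rw [this]; exact T0.one_mem
      mul_mem' := by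
        rintro x x' ⟨hx, hxy⟩ ⟨hx', hxy'⟩
        refine ⟨T0.mul_mem hx hx', ?_⟩
        have : y * (x * x') * y⁻¹ = (y * x * y⁻¹) * (y * x' * y⁻¹) := by group
        rw [this]; exact T0.mul_mem hxy hxy'
      inv_mem' := by
        rintro x ⟨hx, hxy⟩
        refine ⟨T0.inv_mem hx, ?_⟩
        have : y * x⁻¹ * y⁻¹ = (y * x * y⁻¹)⁻¹ := by group
        rw [this]; exact T0.inv_mem hxy }
  have hQmem : ∀ x, x ∈ Q ↔ x ∈ T0 ∧ y * x * y⁻¹ ∈ T0 := fun x => Iff.rfl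
  have hQP : Q ≤ P := fun x hx => s.hTP (t0.hT0T ((hQmem x).1 hx).1)
  -- `ρ ^ i` commutes with `T0`
  have hρpow : ∀ (i : ℕ), ∀ d ∈ T0, ρ ^ i * d = d * ρ ^ i := by
    intro i d hd
    have : Commute ρ d := t0.hT0ρ d hd
    exact (this.pow_left i).eq
  -- `H`-conjugates of elements of `T0` are `P`-conjugates
  have hHP : ∀ a ∈ H, ∀ x ∈ T0, ∃ p' ∈ P, a * x * a⁻¹ = p' * x * p'⁻¹ := by
    intro a ha x hx
    obtain ⟨k, hk, p, hp, rfl⟩ := s.hHK a ha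
    obtain ⟨i, x0, hx0, rfl⟩ := s.hKρ k hk
    obtain ⟨d, hd, w, hw, rfl⟩ := t0.hdec x0 hx0
    have hx1 : p * x * p⁻¹ ∈ T0 := t0.hT0n p (s.hPH hp) x hx
    have h1 : ρ ^ i * (p * x * p⁻¹) = (p * x * p⁻¹) * ρ ^ i := hρpow i _ hx1
    have h2 : w * (p * x * p⁻¹) = (p * x * p⁻¹) * w :=
      c.hVc w (hW.hWV hw) _ (t0.hT0T hx1)
    refine ⟨d * p, P.mul_mem (s.hTP (t0.hT0T hd)) hp, ?_⟩
    calc d * w * ρ ^ i * p * x * (d * w * ρ ^ i * p)⁻¹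
        = d * w * (ρ ^ i * (p * x * p⁻¹)) * (ρ ^ i)⁻¹ * w⁻¹ * d⁻¹ := by group
      _ = d * w * ((p * x * p⁻¹) * ρ ^ i) * (ρ ^ i)⁻¹ * w⁻¹ * d⁻¹ := by rw [h1]
      _ = d * (w * (p * x * p⁻¹)) * w⁻¹ * d⁻¹ := by group
      _ = d * ((p * x * p⁻¹) * w) * w⁻¹ * d⁻¹ := by rw [h2]
      _ = d * p * x * (d * p)⁻¹ := by group
  have hQH : ∀ a ∈ H, ∀ x ∈ Q, a * x * a⁻¹ ∈ Q := by
    intro a ha x hx
    obtain ⟨hx0, hxy⟩ := (hQmem x).1 hx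
    refine (hQmem _).2 ⟨t0.hT0n a ha x hx0, ?_⟩
    obtain ⟨p', hp', e⟩ := hHP a ha x hx0
    rw [e]
    have hyp' : y * p' * y⁻¹ ∈ H := s.hPH (s.hyP p' hp')
    have e2 : y * (p' * x * p'⁻¹) * y⁻¹ = (y * p' * y⁻¹) * (y * x * y⁻¹) * (y * p' * y⁻¹)⁻¹ := by
      group
    rw [e2]
    exact t0.hT0n _ hyp' _ hxy
  have hQy : ∀ x ∈ Q, y * x * y⁻¹ ∈ Q := by
    intro x hx
    obtain ⟨hx0, hxy⟩ := (hQmem x).1 hx
    refine (hQmem _).2 ⟨hxy, ?_⟩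
    obtain ⟨p0, hp0P, hp0⟩ := s.hy2
    have := hp0 x (s.hTP (t0.hT0T hx0))
    have e : y * (y * x * y⁻¹) * y⁻¹ = y * y * x * y⁻¹ * y⁻¹ := by group
    rw [e, this]
    exact t0.hT0n p0 (s.hPH hp0P) x hx0
  have hQbot : Q = ⊥ := s.hyQ Q hQP hQH hQy
  -- nontrivial elements are sent into `T0 * w0`
  have hw0T0 : w0 ∉ T0 := fun h => c.hw01 (t0.hT0W w0 h hW.hw0W)
  have hne : ∀ d ∈ T0, d ≠ 1 → ∃ d' ∈ T0, y * d * y⁻¹ = d' * w0 := by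
    intro d hd hd1
    obtain ⟨d', hd', h | h⟩ := hconj d hd
    · exfalso
      apply hd1
      have : d ∈ Q := (hQmem d).2 ⟨hd, by rw [h]; exact hd'⟩
      rw [hQbot] at this
      exact Subgroup.mem_bot.mp this
    · exact ⟨d', hd', h⟩
  intro c1 hc1 c2 hc2
  by_cases h1 : c1 = 1
  · exact Or.inl h1
  by_cases h2 : c2 = 1
  · exact Or.inr (Or.inl h2)
  refine Or.inr (Or.inr ?_)
  obtain ⟨d1, hd1, e1⟩ := hne c1 hc1 h1
  obtain ⟨d2, hd2, e2⟩ := hne c2 hc2 h2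
  have hmem : c1 * c2⁻¹ ∈ Q := by
    refine (hQmem _).2 ⟨T0.mul_mem hc1 (T0.inv_mem hc2), ?_⟩
    have e : y * (c1 * c2⁻¹) * y⁻¹ = (y * c1 * y⁻¹) * (y * c2 * y⁻¹)⁻¹ := by group
    rw [e, e1, e2]
    have e3 : d1 * w0 * (d2 * w0)⁻¹ = d1 * d2⁻¹ := by group
    rw [e3]
    exact T0.mul_mem hd1 (T0.inv_mem hd2)
  rw [hQbot] at hmem
  have := Subgroup.mem_bot.mp hmem
  exact mul_inv_eq_one.mp this

end Cfsg.Agent.Lib.Helper6.D2N
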