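import Mathlib
import Cfsg.Agent.Lib.Helper9.D3670Defs
import Cfsg.Agent.Lib.Helper4.CliffordTwo

/-!
# S3670 unit A8: a character of norm two is the sum of two distinct irreducible characters
-/

set_option autoImplicit false

namespace Cfsg.Agent.Lib.Helper9.D3670

open scoped ComplexConjugate

universe u

/-- A8: a character of norm 2 is the sum of two distinct irreducible characters. -/
theorem eq_add_of_norm_two {K : Type u} [Group K] [Fintype K] {ψ : K → ℂ} (hψ : Cfsg.IsCharacter K ψ)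
    (h : Cfsg.classInner ψ ψ = 2) :
    ∃ χ₁ χ₂ : Cfsg.IrrCharacter K, χ₁ ≠ χ₂ ∧ ψ = (χ₁ : K → ℂ) + (χ₂ : K → ℂ) := by
  obtain ⟨ψ₁, ψ₂, h1, h2, hne, hsum⟩ := Cfsg.Agent.Lib.Helper4.exists_eq_add_of_norm_two hψ h
  refine ⟨⟨ψ₁, h1⟩, ⟨ψ₂, h2⟩, ?_, hsum⟩
  intro heq
  exact hne (congrArg Subtype.val heq)

end Cfsg.Agent.Lib.Helper9.D3670
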