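import Mathlib
import Cfsg.Agent.Lib.Helper2.D4InvDefs
import Cfsg.Agent.Lib.Helper5.ChevTwistCore
import Cfsg.Agent.Lib.Helper5.Tw3D4Core
import Cfsg.Agent.Lib.Helper5.Tw3D4Weyl

set_option autoImplicit false

/-!
# D4INV farm (S2183), units C2, C3a, C3b

`B ∩ n₀⁻¹ B n₀ ≤ H` for the longest element `n₀ = (n_a n_b)³`, and the two consequences
`P4_W1`, `P4_W2`: since `n_b n₀ ≡ n₀ n_b` and `n_a n₀ ≡ n₀ n_a` modulo `H`, the element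
`c' = n_b c n_b⁻¹` (resp. `n_a c n_a⁻¹`) lies in `B ∩ n₀⁻¹ B n₀ = H`.
-/

namespace Cfsg.Agent.Lib.Helper6.D4Inv

open Cfsg Cfsg.Lie Cfsg.Agent.Lib.Helper5 Cfsg.Agent.Lib.Helper5.TwAut Cfsg.Agent.Lib.Helper5.Tw3D4
  Cfsg.Agent.Lib.Helper5.ChevSym Cfsg.Agent.Lib.Helper5.ChevStruct Cfsg.Agent.Lib.Helper4.BNPair
  Cfsg.Agent.Lib.Helper2.D4Inv

/-- the word of `(n_a n_b)³` -/
def h6_w0 : List ℕ := [0, 2, 3, 1, 0, 2, 3, 1, 0, 2, 3, 1]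

theorem h6_w0_chk : checkW0 chevD4 h6_w0 = true := by decide +kernel

theorem h6_swap_b : ∀ r < chevD4.nroots,
    wAct chevD4 ([1] ++ h6_w0) r = wAct chevD4 (h6_w0 ++ [1]) r := by decide +kernel

theorem h6_swap_a : ∀ r < chevD4.nroots,
    wAct chevD4 ([0, 2, 3] ++ h6_w0) r = wAct chevD4 (h6_w0 ++ [0, 2, 3]) r := by decide +kernel

section gl

variable {K : Type*} [Field K]

/-- `B ∩ n₀⁻¹ B n₀ ≤ H` in `GL` -/
theorem h6_opp_GL (c : GL chevD4.Idx K) (hc : c ∈ chevD4.borelSubgroup K)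
    (h : wGL chevD4 hD4 h6_w0 * c * (wGL chevD4 hD4 h6_w0)⁻¹ ∈ chevD4.borelSubgroup K) :
    c ∈ chevD4.diagonalSubgroup K := by
  obtain ⟨hwd, hmap⟩ := conj_pos_eq_neg' (K := K) chevD4 hD4 h6_w0 h6_w0_chk
  set n : GL chevD4.Idx K := wGL chevD4 hD4 h6_w0 with hn
  have hnN : n ∈ chevD4.monomialSubgroup K := wGL_mem chevD4 hD4 _ hwd
  have h2 : n * c * n⁻¹ ∈ (chevD4.borelSubgroup K).map (MulAut.conj n).toMonoidHom :=
    ⟨c, hc, rfl⟩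
  have h3 : (chevD4.borelSubgroup K).map (MulAut.conj n).toMonoidHom
      = chevD4.negUnipotent K ⊔ chevD4.diagonalSubgroup K := by
    unfold ChevalleyDatum.borelSubgroup
    rw [Subgroup.map_sup, hmap, diagonal_map_conj chevD4 hD4 n hnN]
  rw [h3] at h2
  have h4 : n * c * n⁻¹ ∈ chevD4.borelSubgroup K ⊓
      (chevD4.negUnipotent K ⊔ chevD4.diagonalSubgroup K) := Subgroup.mem_inf.2 ⟨h, h2⟩
  rw [borel_inf_negBorel chevD4 hD4] at h4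
  have h5 := (conj_monomial_diag_mem chevD4 hD4 n hnN _ h4).2
  have e : n⁻¹ * (n * c * n⁻¹) * n = c := by group
  rwa [e] at h5

/-- if `n_J n₀ ≡ n₀ n_J` modulo `H`, then `n_J⁻¹ B n_J ∩ (n_J n₀)⁻¹ B (n_J n₀) ≤ H` -/
theorem h6_W_GL (J : List ℕ) (hJ : Wd chevD4 J)
    (hsw : ∀ r < chevD4.nroots, wAct chevD4 (J ++ h6_w0) r = wAct chevD4 (h6_w0 ++ J) r)
    (c : GL chevD4.Idx K)
    (h1 : (wGL chevD4 hD4 J * wGL chevD4 hD4 h6_w0) * c *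
      (wGL chevD4 hD4 J * wGL chevD4 hD4 h6_w0)⁻¹ ∈ chevD4.borelSubgroup K)
    (h2 : wGL chevD4 hD4 J * c * (wGL chevD4 hD4 J)⁻¹ ∈ chevD4.borelSubgroup K) :
    c ∈ chevD4.diagonalSubgroup K := by
  obtain ⟨hwd, -⟩ := conj_pos_eq_neg' (K := K) chevD4 hD4 h6_w0 h6_w0_chk
  set n : GL chevD4.Idx K := wGL chevD4 hD4 h6_w0 with hn
  set s : GL chevD4.Idx K := wGL chevD4 hD4 J with hs
  have hsN : s ∈ chevD4.monomialSubgroup K := wGL_mem chevD4 hD4 _ hJ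
  have hd : (wGL chevD4 hD4 (J ++ h6_w0) * (wGL chevD4 hD4 (h6_w0 ++ J))⁻¹ : GL chevD4.Idx K)
      ∈ chevD4.diagonalSubgroup K :=
    (hrel_iff_act_eq chevD4 hD4 _ _ (hJ.append hwd) (hwd.append hJ)).2 hsw
  rw [wGL_append, wGL_append, ← hn, ← hs] at hd
  set d : GL chevD4.Idx K := s * n * (n * s)⁻¹ with hdd
  have hdB : d ∈ chevD4.borelSubgroup K := diagonal_le_borel chevD4 hd
  have h3 : n * (s * c * s⁻¹) * n⁻¹ ∈ chevD4.borelSubgroup K := by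
    have e : n * (s * c * s⁻¹) * n⁻¹ = d⁻¹ * ((s * n) * c * (s * n)⁻¹) * d := by
      rw [hdd]; group
    rw [e]
    exact mul_mem (mul_mem (inv_mem hdB) h1) hdB
  have h4 := h6_opp_GL (s * c * s⁻¹) h2 h3
  have h5 := (conj_monomial_diag_mem chevD4 hD4 s hsN _ h4).2
  have e : s⁻¹ * (s * c * s⁻¹) * s = c := by group
  rwa [e] at h5

end gl

variable {K : Type*} [Field K] [Fintype K] [CharP K 2] {q : ℕ} (hq : IsPrimePow q)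
  (hK : Fintype.card K = q ^ 3) (f : K →+* K) (hf : ∀ x, f x = x ^ q)
  (hf3 : ∀ x, f (f (f x)) = x)

theorem h6_mem_B_iff (g : ↥(twistedD4 K q)) :
    g ∈ (P4 hq hK f hf hf3).B ↔ (g : GL chevD4.Idx K) ∈ chevD4.borelSubgroup K := by
  show g ∈ (chevD4.borelSubgroup K ⊓ twistedD4 K q).subgroupOf (twistedD4 K q) ↔ _
  rw [Subgroup.mem_subgroupOf, Subgroup.mem_inf]
  exact ⟨fun h => h.1, fun h => ⟨h, g.2⟩⟩

theorem h6_mem_N_of_diag (g : ↥(twistedD4 K q))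
    (h : (g : GL chevD4.Idx K) ∈ chevD4.diagonalSubgroup K) : g ∈ (P4 hq hK f hf hf3).N := by
  show g ∈ (chevD4.monomialSubgroup K ⊓ twistedD4 K q).subgroupOf (twistedD4 K q)
  rw [Subgroup.mem_subgroupOf, Subgroup.mem_inf]
  exact ⟨diagonal_le_monomial chevD4 h, g.2⟩

theorem h6_coe_w0 : (((a4 f hf * b4 f hf) ^ 3 : ↥(twistedD4 K q)) : GL chevD4.Idx K)
    = wGL chevD4 hD4 h6_w0 := by
  have e : h6_w0 = ([0, 2, 3] ++ [1]) ++ (([0, 2, 3] ++ [1]) ++ ([0, 2, 3] ++ [1])) := rfl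
  rw [e]
  simp only [wGL_append, pow_succ, pow_zero, one_mul, Subgroup.coe_mul, a4, b4, mul_assoc]

/-- Unit C2 -/
theorem P4_opp : ∀ c ∈ (P4 hq hK f hf hf3).B,
    (a4 f hf * b4 f hf) ^ 3 * c * ((a4 f hf * b4 f hf) ^ 3)⁻¹ ∈ (P4 hq hK f hf hf3).B →
    c ∈ (P4 hq hK f hf hf3).N := by
  intro c hc h
  rw [h6_mem_B_iff] at hc h
  apply h6_mem_N_of_diag
  apply h6_opp_GL _ hc
  rw [← h6_coe_w0 f hf]
  exact h

/-- Unit C3a -/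
theorem P4_W1 : ∀ c ∈ (P4 hq hK f hf hf3).B,
    (b4 f hf * (a4 f hf * b4 f hf) ^ 3) * c * (b4 f hf * (a4 f hf * b4 f hf) ^ 3)⁻¹
      ∈ (P4 hq hK f hf hf3).B →
    b4 f hf * c * (b4 f hf)⁻¹ ∈ (P4 hq hK f hf hf3).B → c ∈ (P4 hq hK f hf hf3).N := by
  intro c _ h1 h2
  rw [h6_mem_B_iff] at h1 h2
  apply h6_mem_N_of_diag
  apply h6_W_GL [1] (orbsOK4.wd _ (gen4_mem 1)) h6_swap_b
  · rw [← h6_coe_w0 f hf]
    exact h1
  · exact h2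

/-- Unit C3b -/
theorem P4_W2 : ∀ c ∈ (P4 hq hK f hf hf3).B,
    (a4 f hf * (a4 f hf * b4 f hf) ^ 3) * c * (a4 f hf * (a4 f hf * b4 f hf) ^ 3)⁻¹
      ∈ (P4 hq hK f hf hf3).B →
    a4 f hf * c * (a4 f hf)⁻¹ ∈ (P4 hq hK f hf hf3).B → c ∈ (P4 hq hK f hf hf3).N := by
  intro c _ h1 h2
  rw [h6_mem_B_iff] at h1 h2
  apply h6_mem_N_of_diag
  apply h6_W_GL [0, 2, 3] (orbsOK4.wd _ (gen4_mem 0)) h6_swap_a
  · rw [← h6_coe_w0 f hf]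
    exact h1
  · exact h2

end Cfsg.Agent.Lib.Helper6.D4Inv
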