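import Mathlib

/-!
# Odd-order groups with a four-group of automorphisms, part 1

`card_le_fix_mul_inv` : an abelian subgroup of odd order invariant under an involutive
automorphism is at most (fixed points) x (inverted points).
`card_le_of_commutative` : the three-centralizer bound for abelian subgroups.
`card_le_of_isPGroup` : the three-centralizer bound for `q`-groups, `q` odd.
-/

set_option autoImplicit false

namespace Cfsg.Agent.Lib.Helper6.DC

section abelian

variable {S : Type*} [Group S] [Finite S]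

theorem sq_injective_of_odd (hodd : Odd (Nat.card S)) {a b : S} (h : a * a = b * b) : a = b := by
  have hc : (Nat.card S).Coprime 2 := Nat.coprime_two_right.mpr hodd
  have hinj := (powCoprime hc).injective
  apply hinj
  simp only [powCoprime, Equiv.coe_fn_mk, pow_two]
  exact h

/-- fixed points times inverted points bound an invariant abelian subgroup -/
theorem card_le_fix_mul_inv (hodd : Odd (Nat.card S)) (A : Subgroup S)
    (hA : ∀ a ∈ A, ∀ b ∈ A, a * b = b * a) (ρ : S ≃* S) (hρ : ∀ x, ρ (ρ x) = x)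
    (hρA : ∀ a ∈ A, ρ a ∈ A) :
    Nat.card A ≤ Nat.card {x : S // x ∈ A ∧ ρ x = x} * Nat.card {x : S // x ∈ A ∧ ρ x = x⁻¹} := by
  rw [← Nat.card_prod]
  have h1 : ∀ a ∈ A, ρ (a * ρ a) = a * ρ a := by
    intro a ha
    rw [map_mul, hρ]
    exact hA _ (hρA a ha) _ ha
  have h2 : ∀ a : S, ρ (a * (ρ a)⁻¹) = (a * (ρ a)⁻¹)⁻¹ := by
    intro a
    rw [map_mul, map_inv, hρ, mul_inv_rev, inv_inv]
  have key : ∀ a ∈ A, a * a = (a * ρ a) * (a * (ρ a)⁻¹) := by
    intro a ha
    have hc := hA (ρ a) (hρA a ha) a ha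
    calc a * a = a * (a * ρ a) * (ρ a)⁻¹ := by group
      _ = a * (ρ a * a) * (ρ a)⁻¹ := by rw [hc]
      _ = (a * ρ a) * (a * (ρ a)⁻¹) := by group
  refine Nat.card_le_card_of_injective
    (fun a : A => ((⟨(a : S) * ρ a, A.mul_mem a.2 (hρA a a.2), h1 a a.2⟩ :
        {x : S // x ∈ A ∧ ρ x = x}),
      (⟨(a : S) * (ρ a)⁻¹, A.mul_mem a.2 (A.inv_mem (hρA a a.2)), h2 a⟩ :
        {x : S // x ∈ A ∧ ρ x = x⁻¹}))) ?_
  intro a b hab
  have e1 : (a : S) * ρ a = b * ρ b := congrArg (fun p => (p.1 : S)) hab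
  have e2 : (a : S) * (ρ a)⁻¹ = b * (ρ b)⁻¹ := congrArg (fun p => (p.2 : S)) hab
  apply Subtype.ext
  apply sq_injective_of_odd hodd
  rw [key a a.2, key b b.2, e1, e2]

/-- three-centralizer bound for an invariant abelian subgroup -/
theorem card_le_of_commutative (hodd : Odd (Nat.card S)) (A : Subgroup S)
    (hA : ∀ a ∈ A, ∀ b ∈ A, a * b = b * a) (σ τ : S ≃* S)
    (hσ : ∀ x, σ (σ x) = x) (hτ : ∀ x, τ (τ x) = x) (hστ : ∀ x, σ (τ x) = τ (σ x))
    (hσA : ∀ a ∈ A, σ a ∈ A) (hτA : ∀ a ∈ A, τ a ∈ A) :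
    Nat.card A ≤ Nat.card {x : S // x ∈ A ∧ σ x = x} * Nat.card {x : S // x ∈ A ∧ τ x = x}
      * Nat.card {x : S // x ∈ A ∧ σ (τ x) = x} := by
  let B : Subgroup S :=
    { carrier := {x | x ∈ A ∧ σ x = x⁻¹}
      mul_mem' := by
        intro x y hx hy
        refine ⟨A.mul_mem hx.1 hy.1, ?_⟩
        rw [map_mul, hx.2, hy.2, ← mul_inv_rev, hA y hy.1 x hx.1]
      one_mem' := ⟨A.one_mem, by simp⟩
      inv_mem' := by
        intro x hx
        exact ⟨A.inv_mem hx.1, by rw [map_inv, hx.2]⟩ }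
  have hBmem : ∀ x, x ∈ B ↔ (x ∈ A ∧ σ x = x⁻¹) := fun x => Iff.rfl
  have s1 := card_le_fix_mul_inv hodd A hA σ hσ hσA
  have hBcard : Nat.card {x : S // x ∈ A ∧ σ x = x⁻¹} = Nat.card B :=
    Nat.card_congr (Equiv.subtypeEquivRight (fun x => (hBmem x).symm))
  have hBcomm : ∀ a ∈ B, ∀ b ∈ B, a * b = b * a := fun a ha b hb => hA a ha.1 b hb.1
  have hτB : ∀ a ∈ B, τ a ∈ B := by
    intro a ha
    refine ⟨hτA a ha.1, ?_⟩
    rw [hστ, ha.2, map_inv]
  have s2 := card_le_fix_mul_inv hodd B hBcomm τ hτ hτB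
  have s3 : Nat.card {x : S // x ∈ B ∧ τ x = x} ≤ Nat.card {x : S // x ∈ A ∧ τ x = x} :=
    Nat.card_le_card_of_injective (fun x => ⟨x.1, x.2.1.1, x.2.2⟩)
      (fun a b h => Subtype.ext (congrArg (fun p => (p.1 : S)) h))
  have s4 : Nat.card {x : S // x ∈ B ∧ τ x = x⁻¹}
      ≤ Nat.card {x : S // x ∈ A ∧ σ (τ x) = x} := by
    refine Nat.card_le_card_of_injective (fun x => ⟨x.1, x.2.1.1, ?_⟩)
      (fun a b h => Subtype.ext (congrArg (fun p => (p.1 : S)) h))
    rw [x.2.2, map_inv, x.2.1.2, inv_inv]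
  calc Nat.card A ≤ Nat.card {x : S // x ∈ A ∧ σ x = x} * Nat.card B := by
        rw [← hBcard]; exact s1
    _ ≤ Nat.card {x : S // x ∈ A ∧ σ x = x}
        * (Nat.card {x : S // x ∈ A ∧ τ x = x} * Nat.card {x : S // x ∈ A ∧ σ (τ x) = x}) :=
        Nat.mul_le_mul_left _ (s2.trans (Nat.mul_le_mul s3 s4))
    _ = _ := by ring

end abelian

section center

variable {S : Type*} [Group S] [Finite S]

/-- a fixed coset of the centre contains a fixed element (odd order) -/
theorem exists_fixed_rep (hodd : Odd (Nat.card S)) (ρ : S ≃* S) (hρ : ∀ x, ρ (ρ x) = x)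
    (hmap : (Subgroup.center S).map (ρ : S →* S) = Subgroup.center S)
    (u : S ⧸ Subgroup.center S)
    (hu : QuotientGroup.congr (Subgroup.center S) (Subgroup.center S) ρ hmap u = u) :
    ∃ s : S, (QuotientGroup.mk s : S ⧸ Subgroup.center S) = u ∧ ρ s = s := by
  obtain ⟨s₀, rfl⟩ := QuotientGroup.mk_surjective u
  rw [QuotientGroup.congr_mk] at hu
  have hz : s₀⁻¹ * ρ s₀ ∈ Subgroup.center S := by
    rw [← QuotientGroup.eq]; exact hu.symm
  obtain ⟨m, hm⟩ := hodd
  set z := s₀⁻¹ * ρ s₀ with hzdef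
  have hρs : ρ s₀ = s₀ * z := by rw [hzdef]; group
  have hρz : ρ z = z⁻¹ := by
    have h1 : ρ (ρ s₀) = ρ s₀ * ρ z := by rw [hρs, map_mul, ← hρs]
    rw [hρ, hρs] at h1
    have h2 : z * ρ z = 1 := by
      have : s₀ * 1 = s₀ * (z * ρ z) := by rw [mul_one, ← mul_assoc]; exact h1
      exact (mul_left_cancel this).symm
    exact eq_inv_of_mul_eq_one_right h2
  have hzpow : z ^ (Nat.card S) = 1 := pow_card_eq_one'
  have hw : z ^ (m + 1) * z ^ (m + 1) = z := by
    rw [← pow_add, show m + 1 + (m + 1) = Nat.card S + 1 by omega, pow_succ, hzpow, one_mul]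
  have hwZ : z ^ (m + 1) ∈ Subgroup.center S := Subgroup.pow_mem _ hz _
  refine ⟨s₀ * z ^ (m + 1), ?_, ?_⟩
  · rw [QuotientGroup.eq]
    have : s₀⁻¹ * (s₀ * z ^ (m + 1)) = z ^ (m + 1) := by group
    -- (s₀ * w)⁻¹ * s₀ ∈ center
    have h3 : (s₀ * z ^ (m + 1))⁻¹ * s₀ = (z ^ (m + 1))⁻¹ := by group
    rw [h3]
    exact Subgroup.inv_mem _ hwZ
  · rw [map_mul, map_pow, hρz, hρs, inv_pow]
    calc s₀ * z * (z ^ (m + 1))⁻¹ = s₀ * (z ^ (m + 1) * z ^ (m + 1)) * (z ^ (m + 1))⁻¹ := by
          rw [hw]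
      _ = s₀ * z ^ (m + 1) := by group

/-- fixed points in the centre times fixed points of the quotient are at most the fixed points -/
theorem card_fix_center_mul_card_fix_quotient_le (hodd : Odd (Nat.card S)) (ρ : S ≃* S)
    (hρ : ∀ x, ρ (ρ x) = x)
    (hmap : (Subgroup.center S).map (ρ : S →* S) = Subgroup.center S) :
    Nat.card {x : S // x ∈ Subgroup.center S ∧ ρ x = x}
      * Nat.card {u : S ⧸ Subgroup.center S //
          QuotientGroup.congr (Subgroup.center S) (Subgroup.center S) ρ hmap u = u}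
      ≤ Nat.card {x : S // ρ x = x} := by
  classical
  rw [← Nat.card_prod]
  have hex := exists_fixed_rep hodd ρ hρ hmap
  choose! r hr using hex
  refine Nat.card_le_card_of_injective
    (fun p : {x : S // x ∈ Subgroup.center S ∧ ρ x = x}
        × {u : S ⧸ Subgroup.center S //
          QuotientGroup.congr (Subgroup.center S) (Subgroup.center S) ρ hmap u = u} =>
      (⟨(p.1 : S) * r p.2.1, by
        rw [map_mul, p.1.2.2, (hr p.2.1 p.2.2).2]⟩ : {x : S // ρ x = x})) ?_
  intro p p' h
  have e : (p.1 : S) * r p.2.1 = (p'.1 : S) * r p'.2.1 := congrArg (fun x => (x.1 : S)) h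
  have hmk : ∀ q : {x : S // x ∈ Subgroup.center S ∧ ρ x = x}
        × {u : S ⧸ Subgroup.center S //
          QuotientGroup.congr (Subgroup.center S) (Subgroup.center S) ρ hmap u = u},
      (QuotientGroup.mk ((q.1 : S) * r q.2.1) : S ⧸ Subgroup.center S) = q.2.1 := by
    intro q
    rw [QuotientGroup.mk_mul, (hr q.2.1 q.2.2).1,
      (QuotientGroup.eq_one_iff (q.1 : S)).mpr q.1.2.1, one_mul]
  have e2 : p.2.1 = p'.2.1 := by rw [← hmk p, ← hmk p', e]
  have e3 : (p.1 : S) = p'.1 := by
    rw [e2] at e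
    exact mul_right_cancel e
  exact Prod.ext (Subtype.ext e3) (Subtype.ext e2)

end center

section pgroup

universe v

/-- three-centralizer bound for `q`-groups, `q` odd -/
theorem card_le_of_isPGroup (q : ℕ) [Fact q.Prime] (hq : q ≠ 2) :
    ∀ (n : ℕ) (S : Type v) [Group S] [Finite S], Nat.card S = n → IsPGroup q S →
      ∀ σ τ : S ≃* S, (∀ x, σ (σ x) = x) → (∀ x, τ (τ x) = x) → (∀ x, σ (τ x) = τ (σ x)) →
      Nat.card S ≤ Nat.card {x : S // σ x = x} * Nat.card {x : S // τ x = x}
        * Nat.card {x : S // σ (τ x) = x} := by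
  intro n
  induction n using Nat.strong_induction_on with
  | _ n ih =>
    intro S _ _ hn hS σ τ hσ hτ hστ
    have hqp : q.Prime := Fact.out
    have hodd : Odd (Nat.card S) := by
      obtain ⟨k, hk⟩ := (IsPGroup.iff_card (p := q)).mp hS
      rw [hk]
      exact Odd.pow (hqp.odd_of_ne_two hq)
    have hZcomm : ∀ a ∈ Subgroup.center S, ∀ b ∈ Subgroup.center S, a * b = b * a := by
      intro a ha b _
      exact (Subgroup.mem_center_iff.mp ha b).symm
    have hchar : ∀ ρ : S ≃* S, (Subgroup.center S).map (ρ : S →* S) = Subgroup.center S :=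
      fun ρ => Subgroup.characteristic_iff_map_eq.mp Subgroup.centerCharacteristic ρ
    have hinvZ : ∀ ρ : S ≃* S, ∀ a ∈ Subgroup.center S, ρ a ∈ Subgroup.center S := by
      intro ρ a ha
      rw [← hchar ρ]
      exact Subgroup.mem_map_of_mem _ ha
    have hZ := card_le_of_commutative hodd (Subgroup.center S) hZcomm σ τ hσ hτ hστ
      (hinvZ σ) (hinvZ τ)
    by_cases htop : Subgroup.center S = ⊤
    · -- abelian case
      have e0 : Nat.card (Subgroup.center S) = Nat.card S := by
        rw [htop]; exact Subgroup.card_top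
      have e1 : ∀ ρ : S ≃* S, Nat.card {x : S // x ∈ Subgroup.center S ∧ ρ x = x}
          = Nat.card {x : S // ρ x = x} := by
        intro ρ
        exact Nat.card_congr (Equiv.subtypeEquivRight (fun x => by rw [htop]; simp))
      have e2 : Nat.card {x : S // x ∈ Subgroup.center S ∧ σ (τ x) = x}
          = Nat.card {x : S // σ (τ x) = x} :=
        Nat.card_congr (Equiv.subtypeEquivRight (fun x => by rw [htop]; simp))
      rw [e0, e1 σ, e1 τ, e2] at hZ
      exact hZ
    · -- induction through the centre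
      have hnt : Nontrivial S := by
        by_contra hcon
        rw [not_nontrivial_iff_subsingleton] at hcon
        exact htop (Subsingleton.elim _ _)
      have hZnt : Nontrivial (Subgroup.center S) := hS.center_nontrivial
      have hcardS := Subgroup.card_eq_card_quotient_mul_card_subgroup (Subgroup.center S)
      have hZ1 : 1 < Nat.card (Subgroup.center S) := Finite.one_lt_card
      have hSpos : 0 < Nat.card S := Nat.card_pos
      have hQpos : 0 < Nat.card (S ⧸ Subgroup.center S) := Nat.card_pos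
      have hlt : Nat.card (S ⧸ Subgroup.center S) < n := by
        rw [← hn, hcardS]
        nlinarith
      -- quotient automorphisms
      set Z := Subgroup.center S with hZdef
      let σq := QuotientGroup.congr Z Z σ (hchar σ)
      let τq := QuotientGroup.congr Z Z τ (hchar τ)
      let ρ : S ≃* S := τ.trans σ
      have hρapp : ∀ x, ρ x = σ (τ x) := fun x => rfl
      have hρ : ∀ x, ρ (ρ x) = x := by
        intro x
        rw [hρapp, hρapp, hστ (σ (τ x)), hσ, hτ]
      let ρq := QuotientGroup.congr Z Z ρ (hchar ρ)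
      have hσq : ∀ u, σq (σq u) = u := by
        intro u
        induction u using QuotientGroup.induction_on with
        | H x => simp only [σq, QuotientGroup.congr_mk, hσ]
      have hτq : ∀ u, τq (τq u) = u := by
        intro u
        induction u using QuotientGroup.induction_on with
        | H x => simp only [τq, QuotientGroup.congr_mk, hτ]
      have hστq : ∀ u, σq (τq u) = τq (σq u) := by
        intro u
        induction u using QuotientGroup.induction_on with
        | H x => simp only [σq, τq, QuotientGroup.congr_mk, hστ]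
      have hρq : ∀ u, ρq u = σq (τq u) := by
        intro u
        induction u using QuotientGroup.induction_on with
        | H x => simp only [σq, τq, ρq, QuotientGroup.congr_mk, hρapp]
      have hQ := ih _ hlt (S ⧸ Z) rfl (hS.to_quotient Z) σq τq hσq hτq hστq
      have a1 := card_fix_center_mul_card_fix_quotient_le hodd σ hσ (hchar σ)
      have a2 := card_fix_center_mul_card_fix_quotient_le hodd τ hτ (hchar τ)
      have a3 := card_fix_center_mul_card_fix_quotient_le hodd ρ hρ (hchar ρ)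
      have e3 : Nat.card {u : S ⧸ Z // ρq u = u} = Nat.card {u : S ⧸ Z // σq (τq u) = u} :=
        Nat.card_congr (Equiv.subtypeEquivRight (fun u => by rw [hρq u]))
      have e4 : Nat.card {x : S // x ∈ Z ∧ ρ x = x} = Nat.card {x : S // x ∈ Z ∧ σ (τ x) = x} :=
        Nat.card_congr (Equiv.subtypeEquivRight (fun x => by rw [hρapp x]))
      have e5 : Nat.card {x : S // ρ x = x} = Nat.card {x : S // σ (τ x) = x} :=
        Nat.card_congr (Equiv.subtypeEquivRight (fun x => by rw [hρapp x]))
      change Nat.card {x : S // x ∈ Z ∧ ρ x = x} * Nat.card {u : S ⧸ Z // ρq u = u}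
        ≤ Nat.card {x : S // ρ x = x} at a3
      rw [e3, e4, e5] at a3
      change Nat.card {x : S // x ∈ Z ∧ σ x = x} * Nat.card {u : S ⧸ Z // σq u = u}
        ≤ Nat.card {x : S // σ x = x} at a1
      change Nat.card {x : S // x ∈ Z ∧ τ x = x} * Nat.card {u : S ⧸ Z // τq u = u}
        ≤ Nat.card {x : S // τ x = x} at a2
      calc Nat.card S = Nat.card (S ⧸ Z) * Nat.card Z := hcardS
        _ ≤ (Nat.card {u : S ⧸ Z // σq u = u} * Nat.card {u : S ⧸ Z // τq u = u}
              * Nat.card {u : S ⧸ Z // σq (τq u) = u})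
            * (Nat.card {x : S // x ∈ Z ∧ σ x = x} * Nat.card {x : S // x ∈ Z ∧ τ x = x}
              * Nat.card {x : S // x ∈ Z ∧ σ (τ x) = x}) := Nat.mul_le_mul hQ hZ
        _ = (Nat.card {x : S // x ∈ Z ∧ σ x = x} * Nat.card {u : S ⧸ Z // σq u = u})
            * (Nat.card {x : S // x ∈ Z ∧ τ x = x} * Nat.card {u : S ⧸ Z // τq u = u})
            * (Nat.card {x : S // x ∈ Z ∧ σ (τ x) = x}
              * Nat.card {u : S ⧸ Z // σq (τq u) = u}) := by ring
        _ ≤ _ := Nat.mul_le_mul (Nat.mul_le_mul a1 a2) a3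

end pgroup

end Cfsg.Agent.Lib.Helper6.DC
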