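import Mathlib
import Cfsg.Agent.Lib.Helper6.DC1

/-!
# Odd-order groups with a four-group of automorphisms, part 2

`card_le_of_odd` : an odd-order group acted on by a 2-group containing two commuting
involutions whose three fixed-point sets have at most `c` elements has order at most
`(c^3)^(c^3+1)`.
`card_normal_odd_le` : the same for a normal subgroup of odd order of a group containing
an elementary abelian 2-subgroup.
-/

set_option autoImplicit false

namespace Cfsg.Agent.Lib.Helper6.DC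

/-- restriction of an involutive automorphism to an invariant subgroup -/
def restrAut {K : Type*} [Group K] (ρ : K ≃* K) (Q : Subgroup K) (hQ : ∀ x ∈ Q, ρ x ∈ Q)
    (hρ : ∀ x, ρ (ρ x) = x) : Q ≃* Q where
  toFun x := ⟨ρ (x : K), hQ x x.2⟩
  invFun x := ⟨ρ (x : K), hQ x x.2⟩
  left_inv x := Subtype.ext (hρ (x : K))
  right_inv x := Subtype.ext (hρ (x : K))
  map_mul' x y := Subtype.ext (map_mul ρ (x : K) (y : K))

theorem restrAut_apply {K : Type*} [Group K] (ρ : K ≃* K) (Q : Subgroup K)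
    (hQ : ∀ x ∈ Q, ρ x ∈ Q) (hρ : ∀ x, ρ (ρ x) = x) (x : Q) :
    ((restrAut ρ Q hQ hρ x : Q) : K) = ρ (x : K) := rfl

section

universe v w

theorem card_le_of_odd {K : Type v} [Group K] [Finite K] (hodd : Odd (Nat.card K))
    {A : Type w} [Group A] (hA : IsPGroup 2 A) (φ : A →* MulAut K) (s t : A)
    (hs : s * s = 1) (ht : t * t = 1) (hst : s * t = t * s) (c : ℕ)
    (h1 : Nat.card {x : K // φ s x = x} ≤ c) (h2 : Nat.card {x : K // φ t x = x} ≤ c)
    (h3 : Nat.card {x : K // φ (s * t) x = x} ≤ c) :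
    Nat.card K ≤ (c ^ 3) ^ (c ^ 3 + 1) := by
  classical
  haveI : Fact (Nat.Prime 2) := ⟨Nat.prime_two⟩
  letI : MulDistribMulAction A K := MulDistribMulAction.compHom K φ
  have hsmul : ∀ (a : A) (x : K), a • x = φ a x := fun a x => rfl
  have hσ : ∀ x, φ s (φ s x) = x := by
    intro x
    have h : φ s * φ s = 1 := by rw [← map_mul, hs, map_one]
    have := congrArg (fun f : MulAut K => f x) h
    simpa [MulAut.mul_apply] using this
  have hτ : ∀ x, φ t (φ t x) = x := by
    intro x
    have h : φ t * φ t = 1 := by rw [← map_mul, ht, map_one]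
    have := congrArg (fun f : MulAut K => f x) h
    simpa [MulAut.mul_apply] using this
  have hστ : ∀ x, φ s (φ t x) = φ t (φ s x) := by
    intro x
    have h : φ s * φ t = φ t * φ s := by rw [← map_mul, ← map_mul, hst]
    have := congrArg (fun f : MulAut K => f x) h
    simpa [MulAut.mul_apply] using this
  have hprod : ∀ x, φ (s * t) x = φ s (φ t x) := by
    intro x
    rw [map_mul, MulAut.mul_apply]
  have hc1 : 1 ≤ c := by
    have : Nonempty {x : K // φ s x = x} := ⟨⟨1, map_one _⟩⟩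
    exact le_trans Nat.card_pos h1
  have hc3 : 1 ≤ c ^ 3 := Nat.one_le_pow _ _ hc1
  have hKpos : Nat.card K ≠ 0 := Nat.card_pos.ne'
  -- each Sylow subgroup is small
  have hsyl : ∀ q ∈ (Nat.card K).primeFactors,
      q ^ (Nat.card K).factorization q ≤ c ^ 3 := by
    intro q hqmem
    have hqp : q.Prime := Nat.prime_of_mem_primeFactors hqmem
    have hqd : q ∣ Nat.card K := Nat.dvd_of_mem_primeFactors hqmem
    haveI : Fact q.Prime := ⟨hqp⟩
    have hq2 : q ≠ 2 := by
      rintro rfl
      exact (Nat.not_even_iff_odd.mpr hodd) (even_iff_two_dvd.mpr hqd)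
    have hnd : ¬ 2 ∣ Nat.card (Sylow q K) := by
      intro h2
      have P : Sylow q K := default
      have h3 := (h2.trans (Sylow.card_dvd_index P)).trans (Subgroup.index_dvd_card _)
      exact (Nat.not_even_iff_odd.mpr hodd) (even_iff_two_dvd.mpr h3)
    obtain ⟨Q, hQ⟩ := hA.nonempty_fixed_point_of_prime_not_dvd_card (Sylow q K) hnd
    have hQinv : ∀ (a : A), ∀ x ∈ (Q : Subgroup K), φ a x ∈ (Q : Subgroup K) := by
      intro a x hx
      have h4 := Subgroup.smul_mem_pointwise_smul x a (Q : Subgroup K) hx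
      rw [← Sylow.pointwise_smul_def, hQ a] at h4
      exact h4
    have hres := card_le_of_isPGroup q hq2 (Nat.card (Q : Subgroup K)) (Q : Subgroup K) rfl
      Q.isPGroup' (restrAut (φ s) (Q : Subgroup K) (hQinv s) hσ)
      (restrAut (φ t) (Q : Subgroup K) (hQinv t) hτ)
      (fun x => Subtype.ext (hσ x)) (fun x => Subtype.ext (hτ x))
      (fun x => Subtype.ext (hστ x))
    have b1 : Nat.card {x : (Q : Subgroup K) //
        restrAut (φ s) (Q : Subgroup K) (hQinv s) hσ x = x} ≤ c := by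
      refine le_trans (Nat.card_le_card_of_injective
        (fun x => (⟨(x.1 : K), congrArg Subtype.val x.2⟩ : {x : K // φ s x = x})) ?_) h1
      intro a b h
      exact Subtype.ext (Subtype.ext (congrArg (fun p => (p.1 : K)) h))
    have b2 : Nat.card {x : (Q : Subgroup K) //
        restrAut (φ t) (Q : Subgroup K) (hQinv t) hτ x = x} ≤ c := by
      refine le_trans (Nat.card_le_card_of_injective
        (fun x => (⟨(x.1 : K), congrArg Subtype.val x.2⟩ : {x : K // φ t x = x})) ?_) h2
      intro a b h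
      exact Subtype.ext (Subtype.ext (congrArg (fun p => (p.1 : K)) h))
    have b3 : Nat.card {x : (Q : Subgroup K) //
        restrAut (φ s) (Q : Subgroup K) (hQinv s) hσ
          (restrAut (φ t) (Q : Subgroup K) (hQinv t) hτ x) = x} ≤ c := by
      refine le_trans (Nat.card_le_card_of_injective
        (fun x => (⟨(x.1 : K), by
          rw [hprod]; exact congrArg Subtype.val x.2⟩ : {x : K // φ (s * t) x = x})) ?_) h3
      intro a b h
      exact Subtype.ext (Subtype.ext (congrArg (fun p => (p.1 : K)) h))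
    rw [← Sylow.card_eq_multiplicity Q]
    calc Nat.card (Q : Subgroup K) ≤ _ := hres
      _ ≤ c * c * c := Nat.mul_le_mul (Nat.mul_le_mul b1 b2) b3
      _ = c ^ 3 := by ring
  have hprime_le : ∀ q ∈ (Nat.card K).primeFactors, q ≤ c ^ 3 := by
    intro q hqmem
    have hqp : q.Prime := Nat.prime_of_mem_primeFactors hqmem
    have hqd : q ∣ Nat.card K := Nat.dvd_of_mem_primeFactors hqmem
    have hf : 1 ≤ (Nat.card K).factorization q :=
      (hqp.dvd_iff_one_le_factorization hKpos).mp hqd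
    calc q = q ^ 1 := (pow_one q).symm
      _ ≤ q ^ (Nat.card K).factorization q := Nat.pow_le_pow_right hqp.pos hf
      _ ≤ c ^ 3 := hsyl q hqmem
  have hcardpf : (Nat.card K).primeFactors.card ≤ c ^ 3 + 1 := by
    have hsub : (Nat.card K).primeFactors ⊆ Finset.range (c ^ 3 + 1) := by
      intro q hq
      rw [Finset.mem_range]
      exact Nat.lt_succ_of_le (hprime_le q hq)
    calc (Nat.card K).primeFactors.card ≤ (Finset.range (c ^ 3 + 1)).card :=
          Finset.card_le_card hsub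
      _ = c ^ 3 + 1 := Finset.card_range _
  have hfact : Nat.card K = ∏ q ∈ (Nat.card K).primeFactors, q ^ (Nat.card K).factorization q := by
    conv_lhs => rw [← Nat.prod_factorization_pow_eq_self hKpos]
    rw [Finsupp.prod, Nat.support_factorization]
  rw [hfact]
  calc ∏ q ∈ (Nat.card K).primeFactors, q ^ (Nat.card K).factorization q
      ≤ (c ^ 3) ^ (Nat.card K).primeFactors.card :=
        Finset.prod_le_pow_card _ _ _ hsyl
    _ ≤ (c ^ 3) ^ (c ^ 3 + 1) := Nat.pow_le_pow_right hc3 hcardpf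

theorem mul_comm_of_exponent_two {G : Type*} [Group G] (E : Subgroup G)
    (hE : ∀ x ∈ E, x * x = 1) {s t : G} (hs : s ∈ E) (ht : t ∈ E) : s * t = t * s := by
  have e := hE (s * t) (E.mul_mem hs ht)
  have e1 : (s * t)⁻¹ = s * t := inv_eq_of_mul_eq_one_right e
  have e2 : s⁻¹ = s := inv_eq_of_mul_eq_one_right (hE s hs)
  have e3 : t⁻¹ = t := inv_eq_of_mul_eq_one_right (hE t ht)
  rw [← e1, mul_inv_rev, e2, e3]

theorem isPGroup_two_of_exponent_two {G : Type*} [Group G] (E : Subgroup G)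
    (hE : ∀ x ∈ E, x * x = 1) : IsPGroup 2 E := by
  intro g
  refine ⟨1, ?_⟩
  rw [pow_one, pow_two]
  exact Subtype.ext (hE g g.2)

theorem card_normal_odd_le {G : Type v} [Group G] [Finite G] (E : Subgroup G)
    (hE : ∀ x ∈ E, x * x = 1) (K : Subgroup G) [K.Normal] (hK : Odd (Nat.card K))
    (s t : G) (hs : s ∈ E) (ht : t ∈ E) (c : ℕ)
    (h1 : Nat.card (Subgroup.centralizer ({s} : Set G)) ≤ c)
    (h2 : Nat.card (Subgroup.centralizer ({t} : Set G)) ≤ c)
    (h3 : Nat.card (Subgroup.centralizer ({s * t} : Set G)) ≤ c) :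
    Nat.card K ≤ (c ^ 3) ^ (c ^ 3 + 1) := by
  let φ : E →* MulAut K := (MulAut.conjNormal (H := K)).comp E.subtype
  have hφ : ∀ (e : E) (x : K), ((φ e x : K) : G) = (e : G) * x * (e : G)⁻¹ := by
    intro e x
    exact MulAut.conjNormal_apply (e : G) x
  have hfix : ∀ (g : G) (hg : g ∈ E), Nat.card {x : K // φ ⟨g, hg⟩ x = x}
      ≤ Nat.card (Subgroup.centralizer ({g} : Set G)) := by
    intro g hg
    refine Nat.card_le_card_of_injective
      (fun x => (⟨(x.1 : G), ?_⟩ : Subgroup.centralizer ({g} : Set G))) ?_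
    · rw [Subgroup.mem_centralizer_iff]
      intro h hh
      rw [Set.mem_singleton_iff] at hh
      subst hh
      have h4 : h * (x.1 : G) * h⁻¹ = (x.1 : G) := by
        have h5 := hφ ⟨h, hg⟩ x.1
        rw [x.2] at h5
        exact h5.symm
      calc h * (x.1 : G) = h * (x.1 : G) * h⁻¹ * h := by group
        _ = (x.1 : G) * h := by rw [h4]
    · intro a b h
      exact Subtype.ext (Subtype.ext (congrArg (fun p => (p.1 : G)) h))
  have hA : IsPGroup 2 E := isPGroup_two_of_exponent_two E hE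
  have e1 : (⟨s, hs⟩ : E) * ⟨s, hs⟩ = 1 := Subtype.ext (hE s hs)
  have e2 : (⟨t, ht⟩ : E) * ⟨t, ht⟩ = 1 := Subtype.ext (hE t ht)
  have e3 : (⟨s, hs⟩ : E) * ⟨t, ht⟩ = ⟨t, ht⟩ * ⟨s, hs⟩ :=
    Subtype.ext (mul_comm_of_exponent_two E hE hs ht)
  have f1 : Nat.card {x : K // φ ⟨s, hs⟩ x = x} ≤ c := (hfix s hs).trans h1
  have f2 : Nat.card {x : K // φ ⟨t, ht⟩ x = x} ≤ c := (hfix t ht).trans h2
  have hmul : (⟨s, hs⟩ : E) * ⟨t, ht⟩ = ⟨s * t, E.mul_mem hs ht⟩ := rfl
  have f3 : Nat.card {x : K // φ (⟨s, hs⟩ * ⟨t, ht⟩) x = x} ≤ c := by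
    rw [hmul]
    exact (hfix (s * t) (E.mul_mem hs ht)).trans h3
  exact card_le_of_odd hK hA φ ⟨s, hs⟩ ⟨t, ht⟩ e1 e2 e3 c f1 f2 f3

end

end Cfsg.Agent.Lib.Helper6.DC
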