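import Mathlib
import Cfsg.Agent.Lib.Helper6.DC2
import Cfsg.Agent.Lib.Helper6.ClassSum
import Cfsg.Agent.S4476

/-!
# Groups with an elementary abelian 2-subgroup of order at least 4 all of whose involutions
have small centralizers are of bounded order (given the order of a Sylow 2-subgroup)

Main result: `four_group_bound`.
-/

set_option autoImplicit false

namespace Cfsg.Agent.Lib.Helper6.DC

section quot

variable {G : Type*} [Group G] [Finite G]

theorem card_comap_mk (Y : Subgroup G) [Y.Normal] (N : Subgroup (G ⧸ Y)) :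
    Nat.card (N.comap (QuotientGroup.mk' Y)) = Nat.card N * Nat.card Y := by
  have hidx : (N.comap (QuotientGroup.mk' Y)).index = N.index :=
    Subgroup.index_comap_of_surjective N (QuotientGroup.mk'_surjective Y)
  have h1 := Subgroup.card_mul_index (N.comap (QuotientGroup.mk' Y))
  have h2 := Subgroup.card_mul_index N
  have h3 := Subgroup.card_eq_card_quotient_mul_card_subgroup Y
  have hpos : 0 < N.index := Nat.pos_of_ne_zero Subgroup.index_ne_zero_of_finite
  have : Nat.card (N.comap (QuotientGroup.mk' Y)) * N.index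
      = Nat.card N * Nat.card Y * N.index := by
    rw [← hidx, h1, h3, ← h2, hidx]; ring
  exact Nat.eq_of_mul_eq_mul_right hpos this

theorem factorization_quotient (Y : Subgroup G) [Y.Normal] (p : ℕ) :
    (Nat.card (G ⧸ Y)).factorization p + (Nat.card Y).factorization p
      = (Nat.card G).factorization p := by
  have h3 := Subgroup.card_eq_card_quotient_mul_card_subgroup Y
  rw [h3, Nat.factorization_mul Nat.card_pos.ne' Nat.card_pos.ne']
  rfl

/-- the centralizer of the image of `t` in a quotient is not larger than that of `t` -/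
theorem card_centralizer_mk_le (Y : Subgroup G) [Y.Normal] (t : G) :
    Nat.card (Subgroup.centralizer ({(QuotientGroup.mk t : G ⧸ Y)} : Set (G ⧸ Y)))
      ≤ Nat.card (Subgroup.centralizer ({t} : Set G)) := by
  classical
  have : Fintype G := Fintype.ofFinite G
  have hcardA := card_comap_mk Y
    (Subgroup.centralizer ({(QuotientGroup.mk t : G ⧸ Y)} : Set (G ⧸ Y)))
  have hmemA : ∀ g : G, g ∈ (Subgroup.centralizer
      ({(QuotientGroup.mk t : G ⧸ Y)} : Set (G ⧸ Y))).comap (QuotientGroup.mk' Y)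
      → g * t * g⁻¹ * t⁻¹ ∈ Y := by
    intro g hg
    rw [Subgroup.mem_comap, Subgroup.mem_centralizer_iff] at hg
    have h1 := hg _ (Set.mem_singleton _)
    rw [← QuotientGroup.eq_one_iff]
    have h2 : (QuotientGroup.mk (g * t * g⁻¹ * t⁻¹) : G ⧸ Y)
        = (QuotientGroup.mk' Y g) * (QuotientGroup.mk t : G ⧸ Y) * (QuotientGroup.mk' Y g)⁻¹
          * (QuotientGroup.mk t : G ⧸ Y)⁻¹ := rfl
    rw [h2, ← h1]
    group
  set s : Finset G := Finset.univ.filter (fun g => g ∈ (Subgroup.centralizer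
      ({(QuotientGroup.mk t : G ⧸ Y)} : Set (G ⧸ Y))).comap (QuotientGroup.mk' Y)) with hs
  have hAs : Nat.card ((Subgroup.centralizer
      ({(QuotientGroup.mk t : G ⧸ Y)} : Set (G ⧸ Y))).comap (QuotientGroup.mk' Y)) = s.card := by
    rw [Nat.card_eq_fintype_card, Fintype.card_subtype]
  have hYs : Nat.card Y = (Finset.univ.filter (fun g : G => g ∈ Y)).card := by
    rw [Nat.card_eq_fintype_card, Fintype.card_subtype]
  have hCs : Nat.card (Subgroup.centralizer ({t} : Set G))
      = (Finset.univ.filter (fun g : G => g ∈ Subgroup.centralizer ({t} : Set G))).card := by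
    rw [Nat.card_eq_fintype_card, Fintype.card_subtype]
  have himg : (s.image (fun g => g * t * g⁻¹ * t⁻¹)).card ≤ Nat.card Y := by
    rw [hYs]
    apply Finset.card_le_card
    intro y hy
    rw [Finset.mem_image] at hy
    obtain ⟨g, hg, rfl⟩ := hy
    rw [Finset.mem_filter]
    refine ⟨Finset.mem_univ _, hmemA g ?_⟩
    rw [hs, Finset.mem_filter] at hg
    exact hg.2
  have hfib : ∀ b ∈ s.image (fun g => g * t * g⁻¹ * t⁻¹),
      (s.filter (fun a => a * t * a⁻¹ * t⁻¹ = b)).card
        ≤ Nat.card (Subgroup.centralizer ({t} : Set G)) := by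
    intro b hb
    rw [Finset.mem_image] at hb
    obtain ⟨g₀, _, rfl⟩ := hb
    rw [hCs]
    apply Finset.card_le_card_of_injOn (fun a => g₀⁻¹ * a)
    · intro a ha
      rw [Finset.mem_coe, Finset.mem_filter] at ha
      rw [Finset.mem_coe, Finset.mem_filter]
      refine ⟨Finset.mem_univ _, ?_⟩
      rw [Subgroup.mem_centralizer_iff]
      intro h hh
      rw [Set.mem_singleton_iff] at hh
      subst hh
      have e : a * h * a⁻¹ = g₀ * h * g₀⁻¹ := by
        have := ha.2
        calc a * h * a⁻¹ = a * h * a⁻¹ * h⁻¹ * h := by group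
          _ = g₀ * h * g₀⁻¹ * h⁻¹ * h := by rw [this]
          _ = g₀ * h * g₀⁻¹ := by group
      calc h * (g₀⁻¹ * a) = g₀⁻¹ * (g₀ * h * g₀⁻¹) * a := by group
        _ = g₀⁻¹ * (a * h * a⁻¹) * a := by rw [e]
        _ = g₀⁻¹ * a * h := by group
    · intro a _ a' _ h
      exact mul_left_cancel h
  have hmain := Finset.card_le_mul_card_image (f := fun g => g * t * g⁻¹ * t⁻¹) s
    (Nat.card (Subgroup.centralizer ({t} : Set G))) hfib
  have hle : Nat.card (Subgroup.centralizer ({(QuotientGroup.mk t : G ⧸ Y)} : Set (G ⧸ Y)))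
      * Nat.card Y ≤ Nat.card (Subgroup.centralizer ({t} : Set G)) * Nat.card Y := by
    rw [← hcardA, hAs]
    exact hmain.trans (Nat.mul_le_mul_left _ himg)
  exact Nat.le_of_mul_le_mul_right hle Nat.card_pos

/-- if `t` lies in the normal subgroup `Y`, then `|G| ≤ |C(t)| |Y|` -/
theorem card_le_of_mem_normal (Y : Subgroup G) [Y.Normal] (t : G) (ht : t ∈ Y) :
    Nat.card G ≤ Nat.card (Subgroup.centralizer ({t} : Set G)) * Nat.card Y := by
  classical
  have : Fintype G := Fintype.ofFinite G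
  have h1 := Cfsg.Agent.Lib.Helper6.card_conj_mul_card_centralizer t
  have hYs : Nat.card Y = (Finset.univ.filter (fun g : G => g ∈ Y)).card := by
    rw [Nat.card_eq_fintype_card, Fintype.card_subtype]
  have h2 : (Finset.univ.filter (fun x : G => IsConj t x)).card ≤ Nat.card Y := by
    rw [hYs]
    apply Finset.card_le_card
    intro x hx
    rw [Finset.mem_filter] at hx ⊢
    obtain ⟨c, rfl⟩ := isConj_iff.mp hx.2
    exact ⟨Finset.mem_univ _, (inferInstance : Y.Normal).conj_mem t ht c⟩
  rw [← h1, mul_comm]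
  exact Nat.mul_le_mul_left _ h2

end quot

section hyp

universe u

/-- the running hypothesis: an elementary abelian 2-subgroup with at least two distinct
involutions, all of whose involutions have centralizers of order at most `c` -/
def Hyp (G : Type u) [Group G] (E : Subgroup G) (c : ℕ) : Prop :=
  (∀ x ∈ E, x * x = 1) ∧ (∃ s ∈ E, ∃ t ∈ E, s ≠ 1 ∧ t ≠ 1 ∧ s ≠ t) ∧
    ∀ t ∈ E, t ≠ 1 → Nat.card (Subgroup.centralizer ({t} : Set G)) ≤ c

variable {G : Type u} [Group G] [Finite G]

theorem orderOf_eq_two_of_mul_self {t : G} (h : t * t = 1) (h1 : t ≠ 1) : orderOf t = 2 := by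
  haveI : Fact (Nat.Prime 2) := ⟨Nat.prime_two⟩
  exact orderOf_eq_prime (by rw [pow_two]; exact h) h1

theorem Hyp.two_dvd_card {E : Subgroup G} {c : ℕ} (h : Hyp G E c) : 2 ∣ Nat.card G := by
  obtain ⟨hE, ⟨s, hs, _, _, hs1, _, _⟩, _⟩ := h
  rw [← orderOf_eq_two_of_mul_self (hE s hs) hs1]
  exact orderOf_dvd_natCard s

theorem Hyp.map_mk {E : Subgroup G} {c : ℕ} (h : Hyp G E c) (Y : Subgroup G) [Y.Normal]
    (hYE : ∀ t ∈ E, t ≠ 1 → t ∉ Y) :
    Hyp (G ⧸ Y) (E.map (QuotientGroup.mk' Y)) c := by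
  obtain ⟨hE, ⟨s, hs, t, ht, hs1, ht1, hst⟩, hc⟩ := h
  refine ⟨?_, ⟨QuotientGroup.mk' Y s, Subgroup.mem_map_of_mem _ hs, QuotientGroup.mk' Y t,
    Subgroup.mem_map_of_mem _ ht, ?_, ?_, ?_⟩, ?_⟩
  · intro x hx
    obtain ⟨e, he, rfl⟩ := Subgroup.mem_map.mp hx
    rw [← map_mul, hE e he, map_one]
  · intro hcon
    exact hYE s hs hs1 ((QuotientGroup.eq_one_iff s).mp hcon)
  · intro hcon
    exact hYE t ht ht1 ((QuotientGroup.eq_one_iff t).mp hcon)
  · intro hcon
    have h1 : s⁻¹ * t ∈ Y := QuotientGroup.eq.mp hcon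
    have h2 : s⁻¹ * t ≠ 1 := by
      intro h3
      apply hst
      have : s * (s⁻¹ * t) = s * 1 := by rw [h3]
      simpa using this.symm
    exact hYE _ (E.mul_mem (E.inv_mem hs) ht) h2 h1
  · intro x hx hx1
    obtain ⟨e, he, rfl⟩ := Subgroup.mem_map.mp hx
    have he1 : e ≠ 1 := by
      rintro rfl
      exact hx1 (map_one _)
    exact (card_centralizer_mk_le Y e).trans (hc e he he1)

/-- abelian normal subgroups of a reduced group are trivial -/
theorem eq_bot_of_commutative_normal
    (hodd : ∀ N : Subgroup G, N.Normal → Odd (Nat.card N) → N = ⊥)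
    (h2 : ∀ N : Subgroup G, N.Normal → IsPGroup 2 N → N = ⊥)
    (A : Subgroup G) [hAn : A.Normal] (hA : ∀ a ∈ A, ∀ b ∈ A, a * b = b * a) : A = ⊥ := by
  by_contra hne
  obtain ⟨⟨a, haA⟩, ha1⟩ := Subgroup.ne_bot_iff_exists_ne_one.mp hne
  have ha1' : a ≠ 1 := fun h => ha1 (Subtype.ext h)
  have ho1 : orderOf a ≠ 1 := fun h => ha1' (orderOf_eq_one_iff.mp h)
  have ho0 : orderOf a ≠ 0 := (orderOf_pos a).ne'
  have hqp : (orderOf a).minFac.Prime := Nat.minFac_prime ho1
  set q := (orderOf a).minFac with hq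
  have hqd : q ∣ orderOf a := Nat.minFac_dvd _
  have hbo : orderOf (a ^ (orderOf a / q)) = q := orderOf_pow_orderOf_div ho0 hqd
  let B : Subgroup G :=
    { carrier := {x | x ∈ A ∧ x ^ q = 1}
      mul_mem' := by
        intro x y hx hy
        refine ⟨A.mul_mem hx.1 hy.1, ?_⟩
        have hcomm : Commute x y := hA x hx.1 y hy.1
        rw [hcomm.mul_pow, hx.2, hy.2, one_mul]
      one_mem' := ⟨A.one_mem, one_pow _⟩
      inv_mem' := by
        intro x hx
        exact ⟨A.inv_mem hx.1, by rw [inv_pow, hx.2, inv_one]⟩ }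
  have hBn : B.Normal := by
    refine ⟨fun x hx g => ⟨hAn.conj_mem x hx.1 g, ?_⟩⟩
    rw [conj_pow, hx.2]
    group
  have hbB : a ^ (orderOf a / q) ∈ B := by
    refine ⟨A.pow_mem haA _, ?_⟩
    have h5 := pow_orderOf_eq_one (a ^ (orderOf a / q))
    rw [hbo] at h5
    exact h5
  have hb1 : a ^ (orderOf a / q) ≠ 1 := by
    intro h
    rw [h, orderOf_one] at hbo
    exact hqp.one_lt.ne hbo
  have hBne : B ≠ ⊥ := by
    intro h
    rw [h, Subgroup.mem_bot] at hbB
    exact hb1 hbB
  haveI : Fact q.Prime := ⟨hqp⟩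
  have hBp : IsPGroup q B := by
    intro g
    refine ⟨1, ?_⟩
    rw [pow_one]
    exact Subtype.ext g.2.2
  by_cases hq2 : q = 2
  · apply hBne
    apply h2 B hBn
    rw [← hq2]
    exact hBp
  · apply hBne
    apply hodd B hBn
    obtain ⟨k, hk⟩ := (IsPGroup.iff_card (p := q)).mp hBp
    rw [hk]
    exact Odd.pow (hqp.odd_of_ne_two hq2)

/-- the quotient step -/
theorem card_le_of_even_normal {E : Subgroup G} {c a Fa : ℕ} (h : Hyp G E c)
    (hfac : (Nat.card G).factorization 2 ≤ a + 1)
    (ih : ∀ (G' : Type u) [Group G'] [Finite G'] (E' : Subgroup G'), Hyp G' E' c →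
      (Nat.card G').factorization 2 ≤ a → Nat.card G' ≤ Fa)
    (Y : Subgroup G) [Y.Normal] (hY2 : 2 ∣ Nat.card Y) (y₀ : ℕ) (hY : Nat.card Y ≤ y₀) :
    Nat.card G ≤ y₀ * (c + Fa) := by
  by_cases hex : ∃ t ∈ E, t ≠ 1 ∧ t ∈ Y
  · obtain ⟨t, ht, ht1, htY⟩ := hex
    calc Nat.card G ≤ Nat.card (Subgroup.centralizer ({t} : Set G)) * Nat.card Y :=
          card_le_of_mem_normal Y t htY
      _ ≤ c * y₀ := Nat.mul_le_mul (h.2.2 t ht ht1) hY
      _ ≤ y₀ * (c + Fa) := by nlinarith
  · have hYE : ∀ t ∈ E, t ≠ 1 → t ∉ Y := fun t ht ht1 htY => hex ⟨t, ht, ht1, htY⟩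
    have hq := h.map_mk Y hYE
    have hf := factorization_quotient Y 2
    have hY1 : 1 ≤ (Nat.card Y).factorization 2 :=
      (Nat.prime_two.dvd_iff_one_le_factorization Nat.card_pos.ne').mp hY2
    have hb := ih (G ⧸ Y) (E.map (QuotientGroup.mk' Y)) hq (by omega)
    have h3 := Subgroup.card_eq_card_quotient_mul_card_subgroup Y
    calc Nat.card G = Nat.card (G ⧸ Y) * Nat.card Y := h3
      _ ≤ Fa * y₀ := Nat.mul_le_mul hb hY
      _ ≤ y₀ * (c + Fa) := by nlinarith

/-- the case of a nontrivial normal 2-subgroup -/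
theorem card_le_of_normal_two_subgroup {E : Subgroup G} {c a Fa : ℕ} (h : Hyp G E c)
    (hfac : (Nat.card G).factorization 2 ≤ a + 1)
    (ih : ∀ (G' : Type u) [Group G'] [Finite G'] (E' : Subgroup G'), Hyp G' E' c →
      (Nat.card G').factorization 2 ≤ a → Nat.card G' ≤ Fa)
    (T : Subgroup G) [T.Normal] (hT : IsPGroup 2 T) (hT1 : T ≠ ⊥) :
    Nat.card G ≤ 2 ^ (a + 1) * (c + Fa) := by
  haveI : Fact (Nat.Prime 2) := ⟨Nat.prime_two⟩
  obtain ⟨k, hk⟩ := (IsPGroup.iff_card (p := 2)).mp hT
  have hk1 : k ≠ 0 := by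
    rintro rfl
    rw [pow_zero] at hk
    exact hT1 (Subgroup.eq_bot_of_card_le T hk.le)
  have hdvd : 2 ^ k ∣ Nat.card G := by
    rw [← hk]; exact Subgroup.card_subgroup_dvd_card T
  have hkle : k ≤ (Nat.card G).factorization 2 :=
    (Nat.prime_two.pow_dvd_iff_le_factorization Nat.card_pos.ne').mp hdvd
  have hY2 : 2 ∣ Nat.card T := by
    rw [hk]; exact dvd_pow_self 2 hk1
  have hY : Nat.card T ≤ 2 ^ (a + 1) := by
    rw [hk]; exact Nat.pow_le_pow_right (by norm_num) (by omega)
  exact card_le_of_even_normal h hfac ih T hY2 _ hY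

theorem orderOf_conj_eq (g x : G) : orderOf (g * x * g⁻¹) = orderOf x := by
  apply orderOf_eq_orderOf_iff.mpr
  intro n
  rw [conj_pow]
  constructor
  · intro h
    have : g⁻¹ * (g * x ^ n * g⁻¹) * g = g⁻¹ * 1 * g := by rw [h]
    simpa [mul_assoc] using this
  · intro h
    rw [h]; group

/-- the reduced case -/
theorem card_le_of_reduced {E : Subgroup G} {c a Fa : ℕ} (h : Hyp G E c)
    (hfac : (Nat.card G).factorization 2 ≤ a + 1)
    (ih : ∀ (G' : Type u) [Group G'] [Finite G'] (E' : Subgroup G'), Hyp G' E' c →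
      (Nat.card G').factorization 2 ≤ a → Nat.card G' ≤ Fa)
    (hodd : ∀ N : Subgroup G, N.Normal → Odd (Nat.card N) → N = ⊥)
    (h2 : ∀ N : Subgroup G, N.Normal → IsPGroup 2 N → N = ⊥) :
    Nat.card G ≤ (c ^ 2).factorial * (c + Fa) := by
  classical
  have : Fintype G := Fintype.ofFinite G
  obtain ⟨hE, ⟨s, hs, _, _, hs1, _, _⟩, hc⟩ := id h
  have hso : orderOf s = 2 := orderOf_eq_two_of_mul_self (hE s hs) hs1
  have heven : Even (Nat.card G) := even_iff_two_dvd.mpr h.two_dvd_card
  -- many involutions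
  have hconj := Cfsg.Agent.Lib.Helper6.card_conj_mul_card_centralizer s
  have hinv : (Finset.univ.filter (fun x : G => IsConj s x)).card
      ≤ Nat.card {x : G // orderOf x = 2} := by
    rw [Nat.card_eq_fintype_card, Fintype.card_subtype]
    apply Finset.card_le_card
    intro x hx
    rw [Finset.mem_filter] at hx ⊢
    obtain ⟨g, rfl⟩ := isConj_iff.mp hx.2
    exact ⟨Finset.mem_univ _, by rw [orderOf_conj_eq, hso]⟩
  have hcs := hc s hs hs1
  have hGle : Nat.card G ≤ Nat.card {x : G // orderOf x = 2} * c := by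
    rw [← hconj]
    exact Nat.mul_le_mul hinv hcs
  have hGpos : 0 < Nat.card G := Nat.card_pos
  have htpos : 0 < Nat.card {x : G // orderOf x = 2} := by
    rcases Nat.eq_zero_or_pos (Nat.card {x : G // orderOf x = 2}) with h0 | h0
    · rw [h0, zero_mul] at hGle; omega
    · exact h0
  obtain ⟨⟨x, hx1, hxidx⟩, -⟩ := Cfsg.Agent.S4476.result heven _ rfl
  have hidx : (Subgroup.centralizer ({x} : Set G)).index ≤ c ^ 2 := by
    have hq : ((Nat.card G : ℚ) - 1) / (Nat.card {x : G // orderOf x = 2} : ℚ) ≤ (c : ℚ) := by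
      rw [div_le_iff₀ (by exact_mod_cast htpos)]
      have : (Nat.card G : ℚ) ≤ (Nat.card {x : G // orderOf x = 2} : ℚ) * c := by
        exact_mod_cast hGle
      linarith
    have hq0 : (0 : ℚ) ≤ ((Nat.card G : ℚ) - 1) / (Nat.card {x : G // orderOf x = 2} : ℚ) := by
      apply div_nonneg
      · have : (1 : ℚ) ≤ (Nat.card G : ℚ) := by exact_mod_cast hGpos
        linarith
      · exact_mod_cast htpos.le
    have h3 : ((Subgroup.centralizer ({x} : Set G)).index : ℚ) ≤ (c : ℚ) ^ 2 :=
      hxidx.trans (pow_le_pow_left₀ hq0 hq 2)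
    exact_mod_cast h3
  -- the normal closure of `x`
  haveI hYn : (Subgroup.normalClosure ({x} : Set G)).Normal := Subgroup.normalClosure_normal
  have hxY : x ∈ Subgroup.normalClosure ({x} : Set G) :=
    Subgroup.subset_normalClosure (Set.mem_singleton x)
  haveI hCn : (Subgroup.centralizer
      ((Subgroup.normalClosure ({x} : Set G) : Subgroup G) : Set G)).Normal :=
    Subgroup.normal_centralizer
  have hcore : (Subgroup.centralizer ({x} : Set G)).normalCore
      ≤ Subgroup.centralizer ((Subgroup.normalClosure ({x} : Set G) : Subgroup G) : Set G) := by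
    intro g hg
    have hg' : ∀ b : G, b * g * b⁻¹ ∈ Subgroup.centralizer ({x} : Set G) := hg
    have hle : Subgroup.normalClosure ({x} : Set G) ≤ Subgroup.centralizer ({g} : Set G) := by
      rw [Subgroup.normalClosure, Subgroup.closure_le]
      intro y hy
      obtain ⟨x', hx', hxy⟩ := Group.mem_conjugatesOfSet_iff.mp hy
      rw [Set.mem_singleton_iff] at hx'
      subst hx'
      obtain ⟨b, rfl⟩ := isConj_iff.mp hxy
      rw [SetLike.mem_coe, Subgroup.mem_centralizer_iff]
      intro g' hg''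
      rw [Set.mem_singleton_iff] at hg''
      subst hg''
      have h4 := Subgroup.mem_centralizer_iff.mp (hg' b⁻¹) x' (Set.mem_singleton _)
      -- h4 : x' * (b⁻¹ * g' * b⁻¹⁻¹) = b⁻¹ * g' * b⁻¹⁻¹ * x'
      rw [inv_inv] at h4
      calc g' * (b * x' * b⁻¹) = b * (b⁻¹ * g' * b * x') * b⁻¹ := by group
        _ = b * (x' * (b⁻¹ * g' * b)) * b⁻¹ := by rw [h4]
        _ = b * x' * b⁻¹ * g' := by group
    rw [Subgroup.mem_centralizer_iff]
    intro y hy
    have h5 := Subgroup.mem_centralizer_iff.mp (hle hy) g (Set.mem_singleton _)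
    exact h5.symm
  have hcoreidx : (Subgroup.centralizer ({x} : Set G)).normalCore.index
      ≤ ((Subgroup.centralizer ({x} : Set G)).index).factorial := by
    rw [Subgroup.normalCore_eq_ker, Subgroup.index_ker, Subgroup.index_eq_card,
      ← Nat.card_perm]
    exact Nat.card_le_card_of_injective _ Subtype.val_injective
  have hCidx : (Subgroup.centralizer
      ((Subgroup.normalClosure ({x} : Set G) : Subgroup G) : Set G)).index
      ≤ (c ^ 2).factorial := by
    have h6 := Subgroup.index_dvd_of_le hcore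
    have h7 : (Subgroup.centralizer ({x} : Set G)).normalCore.index ≠ 0 :=
      Subgroup.index_ne_zero_of_finite
    exact ((Nat.le_of_dvd (Nat.pos_of_ne_zero h7) h6).trans hcoreidx).trans
      (Nat.factorial_le hidx)
  -- the intersection is abelian normal, hence trivial
  haveI hIn : (Subgroup.normalClosure ({x} : Set G) ⊓ Subgroup.centralizer
      ((Subgroup.normalClosure ({x} : Set G) : Subgroup G) : Set G)).Normal :=
    Subgroup.normal_inf_normal _ _
  have hint : Subgroup.normalClosure ({x} : Set G) ⊓ Subgroup.centralizer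
      ((Subgroup.normalClosure ({x} : Set G) : Subgroup G) : Set G) = ⊥ := by
    apply eq_bot_of_commutative_normal hodd h2
    intro a ha b hb
    exact (Subgroup.mem_centralizer_iff.mp hb.2 a ha.1)
  have hYle : Nat.card (Subgroup.normalClosure ({x} : Set G)) ≤ (c ^ 2).factorial := by
    have hdisj : Disjoint (Subgroup.centralizer
        ((Subgroup.normalClosure ({x} : Set G) : Subgroup G) : Set G))
        (Subgroup.normalClosure ({x} : Set G)) := by
      rw [disjoint_iff, inf_comm]; exact hint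
    have h8 := Subgroup.relIndex_dvd_index_of_normal (Subgroup.centralizer
        ((Subgroup.normalClosure ({x} : Set G) : Subgroup G) : Set G))
        (Subgroup.normalClosure ({x} : Set G))
    rw [Subgroup.relIndex, Subgroup.subgroupOf_eq_bot.mpr hdisj, Subgroup.index_bot] at h8
    have h9 : (Subgroup.centralizer
        ((Subgroup.normalClosure ({x} : Set G) : Subgroup G) : Set G)).index ≠ 0 :=
      Subgroup.index_ne_zero_of_finite
    exact (Nat.le_of_dvd (Nat.pos_of_ne_zero h9) h8).trans hCidx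
  have hY2 : 2 ∣ Nat.card (Subgroup.normalClosure ({x} : Set G)) := by
    by_contra hnd
    have ho : Odd (Nat.card (Subgroup.normalClosure ({x} : Set G))) := by
      rw [← Nat.not_even_iff_odd, even_iff_two_dvd]; exact hnd
    have := hodd _ hYn ho
    rw [this, Subgroup.mem_bot] at hxY
    exact hx1 hxY
  exact card_le_of_even_normal h hfac ih _ hY2 _ hYle

/-- **Main group-theoretic bound.** -/
theorem four_group_bound (a : ℕ) : ∀ c : ℕ, ∃ F : ℕ, ∀ (G : Type u) [Group G] [Finite G]
    (E : Subgroup G), Hyp G E c → (Nat.card G).factorization 2 ≤ a → Nat.card G ≤ F := by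
  induction a with
  | zero =>
    intro c
    refine ⟨0, ?_⟩
    intro G _ _ E h hfac
    exfalso
    have h2 := h.two_dvd_card
    have := (Nat.prime_two.dvd_iff_one_le_factorization Nat.card_pos.ne').mp h2
    omega
  | succ a ih =>
    intro c
    obtain ⟨Fa, hFa⟩ := ih c
    refine ⟨(2 ^ (a + 1) * (c + Fa) + (c ^ 2).factorial * (c + Fa)) * (c ^ 3) ^ (c ^ 3 + 1), ?_⟩
    intro G _ _ E h hfac
    obtain ⟨hE, ⟨s, hs, t, ht, hs1, ht1, hst⟩, hc⟩ := id h
    -- a largest normal subgroup of odd order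
    haveI : Nonempty {N : Subgroup G // N.Normal ∧ Odd (Nat.card N)} :=
      ⟨⟨⊥, inferInstance, by rw [Subgroup.card_bot]; exact odd_one⟩⟩
    obtain ⟨⟨K, hKn, hKo⟩, hKmax⟩ := Finite.exists_max
      (fun N : {N : Subgroup G // N.Normal ∧ Odd (Nat.card N)} => Nat.card N.1)
    haveI := hKn
    have hst1 : s * t ≠ 1 := by
      intro h3
      apply hst
      have e2 : t⁻¹ = t := inv_eq_of_mul_eq_one_right (hE t ht)
      rw [← e2]
      exact eq_inv_of_mul_eq_one_left h3
    have hKle : Nat.card K ≤ (c ^ 3) ^ (c ^ 3 + 1) :=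
      card_normal_odd_le E hE K hKo s t hs ht c (hc s hs hs1) (hc t ht ht1)
        (hc _ (E.mul_mem hs ht) hst1)
    have hYE : ∀ t ∈ E, t ≠ 1 → t ∉ K := by
      intro t ht ht1 htK
      have h3 := Subgroup.orderOf_dvd_natCard K htK
      rw [orderOf_eq_two_of_mul_self (hE t ht) ht1] at h3
      exact (Nat.not_even_iff_odd.mpr hKo) (even_iff_two_dvd.mpr h3)
    have hq := h.map_mk K hYE
    have hf := factorization_quotient K 2
    have hfacq : (Nat.card (G ⧸ K)).factorization 2 ≤ a + 1 := by omega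
    have hoddq : ∀ N : Subgroup (G ⧸ K), N.Normal → Odd (Nat.card N) → N = ⊥ := by
      intro N hNn hNo
      have hcm := card_comap_mk K N
      have hNn' : (N.comap (QuotientGroup.mk' K)).Normal := hNn.comap _
      have hmax := hKmax ⟨N.comap (QuotientGroup.mk' K), hNn', by rw [hcm]; exact hNo.mul hKo⟩
      simp only at hmax
      rw [hcm] at hmax
      have hKpos : 0 < Nat.card K := Nat.card_pos
      have : Nat.card N ≤ 1 := by
        by_contra hcon
        have : 2 ≤ Nat.card N := by omega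
        nlinarith
      exact Subgroup.eq_bot_of_card_le N this
    have hquot : Nat.card (G ⧸ K)
        ≤ 2 ^ (a + 1) * (c + Fa) + (c ^ 2).factorial * (c + Fa) := by
      by_cases hT : ∃ T : Subgroup (G ⧸ K), T.Normal ∧ IsPGroup 2 T ∧ T ≠ ⊥
      · obtain ⟨T, hTn, hTp, hT1⟩ := hT
        haveI := hTn
        exact (card_le_of_normal_two_subgroup hq hfacq hFa T hTp hT1).trans
          (Nat.le_add_right _ _)
      · have h2q : ∀ N : Subgroup (G ⧸ K), N.Normal → IsPGroup 2 N → N = ⊥ := by
          intro N hNn hNp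
          by_contra hne
          exact hT ⟨N, hNn, hNp, hne⟩
        exact (card_le_of_reduced hq hfacq hFa hoddq h2q).trans (Nat.le_add_left _ _)
    have h3 := Subgroup.card_eq_card_quotient_mul_card_subgroup K
    rw [h3]
    exact Nat.mul_le_mul hquot hKle

end hyp

end Cfsg.Agent.Lib.Helper6.DC
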