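import Mathlib
import Cfsg.Agent.Lib.Helper6.DegreeDvd

set_option autoImplicit false
universe u

namespace Cfsg.Agent.Lib.Helper6

/-- a bound for the denominators in a representation of a rational number as a sum of `k`
unit fractions -/
theorem exists_bound_unit_fractions (k : ℕ) : ∀ b : ℕ, 0 < b → ∃ N : ℕ, ∀ s : Multiset ℕ,
    Multiset.card s = k → (∀ n ∈ s, 0 < n) → ∀ a : ℕ, 0 < a →
    (s.map (fun n : ℕ => (1 : ℚ) / n)).sum = (a : ℚ) / b → ∀ n ∈ s, n ≤ N := by
  induction k with
  | zero =>
    intro b hb
    refine ⟨0, ?_⟩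
    intro s hs
    rw [Multiset.card_eq_zero] at hs
    subst hs
    intro _ a ha hsum n hn
    simp at hn
  | succ k ih =>
    intro b hb
    choose! N hN using ih
    refine ⟨max ((k + 1) * b) ((Finset.range ((k + 1) * b + 1)).sup (fun m => N (b * m))), ?_⟩
    intro s hs hpos a ha hsum n hn
    have hne : s ≠ 0 := by
      intro h
      rw [h] at hs
      simp at hs
    obtain ⟨m, hm, hmin⟩ := Multiset.exists_min_image (fun n : ℕ => n) hne
    obtain ⟨t, rfl⟩ := Multiset.exists_cons_of_mem hm
    have hmpos : 0 < m := hpos m hm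
    have hmQ : (0 : ℚ) < m := by exact_mod_cast hmpos
    have hbQ : (0 : ℚ) < b := by exact_mod_cast hb
    have haQ : (1 : ℚ) ≤ a := by exact_mod_cast ha
    have htcard : Multiset.card t = k := by
      rw [Multiset.card_cons] at hs
      omega
    rw [Multiset.map_cons, Multiset.sum_cons] at hsum
    -- every term is at most `1 / m`
    have hle : (t.map (fun n : ℕ => (1 : ℚ) / n)).sum ≤ (k : ℚ) * (1 / m) := by
      have h1 : ∀ x ∈ t.map (fun n : ℕ => (1 : ℚ) / n), x ≤ 1 / (m : ℚ) := by
        intro x hx
        obtain ⟨n', hn', rfl⟩ := Multiset.mem_map.mp hx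
        have h2 : m ≤ n' := hmin n' (Multiset.mem_cons_of_mem hn')
        have h3 : (m : ℚ) ≤ n' := by exact_mod_cast h2
        exact one_div_le_one_div_of_le hmQ h3
      have := Multiset.sum_le_card_nsmul _ _ h1
      rw [Multiset.card_map, htcard, nsmul_eq_mul] at this
      exact this
    have hmle : m ≤ (k + 1) * b := by
      have h1 : (a : ℚ) / b ≤ ((k : ℚ) + 1) * (1 / m) := by
        rw [← hsum]
        linarith
      have h2 : (1 : ℚ) / b ≤ ((k : ℚ) + 1) * (1 / m) := by
        refine le_trans ?_ h1
        exact div_le_div_of_nonneg_right haQ hbQ.le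
      have h3 : (m : ℚ) ≤ ((k : ℚ) + 1) * b := by
        rw [div_le_iff₀ hbQ] at h2
        have h4 : (1 : ℚ) * m ≤ ((k : ℚ) + 1) * (1 / m) * b * m :=
          mul_le_mul_of_nonneg_right h2 hmQ.le
        have h5 : ((k : ℚ) + 1) * (1 / m) * b * m = ((k : ℚ) + 1) * b := by
          field_simp
        rw [h5, one_mul] at h4
        exact h4
      exact_mod_cast h3
    rcases Multiset.mem_cons.mp hn with rfl | hnt
    · exact le_trans hmle (le_max_left _ _)
    · -- the remaining sum is positive
      have htpos : ∀ n' ∈ t, 0 < n' := fun n' hn' => hpos n' (Multiset.mem_cons_of_mem hn')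
      have hsumpos : 0 < (t.map (fun n : ℕ => (1 : ℚ) / n)).sum := by
        obtain ⟨t', rfl⟩ := Multiset.exists_cons_of_mem hnt
        rw [Multiset.map_cons, Multiset.sum_cons]
        have h1 : (0 : ℚ) < 1 / (n : ℚ) := by
          have : (0 : ℚ) < n := by exact_mod_cast htpos n hnt
          positivity
        have h2 : 0 ≤ (t'.map (fun n : ℕ => (1 : ℚ) / n)).sum := by
          apply Multiset.sum_nonneg
          intro x hx
          obtain ⟨n', _, rfl⟩ := Multiset.mem_map.mp hx
          positivity
        linarith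
      have hsum' : (t.map (fun n : ℕ => (1 : ℚ) / n)).sum = (a : ℚ) / b - 1 / m := by
        linarith
      have hlt : b < a * m := by
        have h1 : (0 : ℚ) < (a : ℚ) / b - 1 / m := by rw [← hsum']; exact hsumpos
        have h2 : (a : ℚ) / b - 1 / m = ((a : ℚ) * m - b) / (b * m) := by
          field_simp
        rw [h2] at h1
        have h3 : (0 : ℚ) < (a : ℚ) * m - b := by
          by_contra hcon
          push Not at hcon
          have : ((a : ℚ) * m - b) / (b * m) ≤ 0 :=
            div_nonpos_of_nonpos_of_nonneg hcon (by positivity)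
          linarith
        have h4 : (b : ℚ) < (a : ℚ) * m := by linarith
        exact_mod_cast h4
      have hsum'' : (t.map (fun n : ℕ => (1 : ℚ) / n)).sum
          = ((a * m - b : ℕ) : ℚ) / ((b * m : ℕ) : ℚ) := by
        rw [hsum', Nat.cast_sub hlt.le]
        push_cast
        field_simp
      have := hN (b * m) (Nat.mul_pos hb hmpos) t htcard htpos (a * m - b) (by omega) hsum'' n hnt
      refine le_trans this (le_trans ?_ (le_max_right _ _))
      exact Finset.le_sup (f := fun m => N (b * m)) (Finset.mem_range.mpr (by omega))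

/-- Landau's theorem: the order of a finite group is bounded in terms of its class number -/
theorem exists_card_bound_of_card_conjClasses (K : ℕ) : ∃ N : ℕ, ∀ (G : Type u) [Group G]
    [Finite G], Nat.card (ConjClasses G) ≤ K → Nat.card G ≤ N := by
  classical
  have h := fun k => exists_bound_unit_fractions k 1 Nat.one_pos
  choose N hN using h
  refine ⟨(Finset.range (K + 1)).sup N, ?_⟩
  intro G _ _ hK
  have : Fintype G := Fintype.ofFinite G
  have : Fintype (ConjClasses G) := Fintype.ofFinite _
  obtain ⟨s, hs⟩ : ∃ s : Multiset ℕ, s = (Finset.univ : Finset (ConjClasses G)).val.map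
      (fun c : ConjClasses G => Nat.card (Subgroup.centralizer ({Quotient.out c} : Set G))) := ⟨_, rfl⟩
  have hcard : Multiset.card s = Nat.card (ConjClasses G) := by
    rw [hs, Multiset.card_map, Nat.card_eq_fintype_card]
    rfl
  have hpos : ∀ n ∈ s, 0 < n := by
    intro n hn
    rw [hs] at hn
    obtain ⟨c, _, rfl⟩ := Multiset.mem_map.mp hn
    exact Nat.card_pos
  have hG0 : (Nat.card G : ℂ) ≠ 0 := by
    have : 0 < Nat.card G := Nat.card_pos
    exact_mod_cast this.ne'
  have hsum : (s.map (fun n : ℕ => (1 : ℚ) / n)).sum = ((1 : ℕ) : ℚ) / ((1 : ℕ) : ℚ) := by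
    rw [hs, Multiset.map_map]
    have h1 := sum_eq_sum_conjClasses (G := G) (fun _ => (1 : ℂ)) (fun _ _ => rfl)
    simp only [Finset.sum_const, Finset.card_univ, nsmul_eq_mul, mul_one] at h1
    have h2 : ∀ c : ConjClasses G,
        ((Subgroup.centralizer ({Quotient.out c} : Set G)).index : ℚ)
          = (Nat.card G : ℚ) * (1 / (Nat.card (Subgroup.centralizer ({Quotient.out c} : Set G)) : ℚ)) := by
      intro c
      have h3 := Subgroup.index_mul_card (Subgroup.centralizer ({Quotient.out c} : Set G))
      have h4 : (0 : ℚ) < (Nat.card (Subgroup.centralizer ({Quotient.out c} : Set G)) : ℚ) := by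
        exact_mod_cast Nat.card_pos
      rw [← h3]
      push_cast
      field_simp
    have h5 : (Nat.card G : ℚ) = ∑ c : ConjClasses G,
        ((Subgroup.centralizer ({Quotient.out c} : Set G)).index : ℚ) := by
      have h6 : ((Fintype.card G : ℕ) : ℂ) = ((∑ c : ConjClasses G,
          (Subgroup.centralizer ({Quotient.out c} : Set G)).index : ℕ) : ℂ) := by
        rw [h1]
        push_cast
        rfl
      have h7 := Nat.cast_injective h6
      rw [Nat.card_eq_fintype_card, h7]
      push_cast
      rfl
    simp_rw [h2] at h5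
    rw [← Finset.mul_sum] at h5
    have hGQ : (0 : ℚ) < (Nat.card G : ℚ) := by exact_mod_cast Nat.card_pos
    have h8 : ∑ c : ConjClasses G,
        (1 : ℚ) / (Nat.card (Subgroup.centralizer ({Quotient.out c} : Set G)) : ℚ) = 1 := by
      have := mul_left_cancel₀ hGQ.ne' (h5.symm.trans (mul_one _).symm)
      exact this
    simp only [Nat.cast_one, div_one]
    refine Eq.trans ?_ h8
    rfl
  have hmem : Nat.card G ∈ s := by
    rw [hs, Multiset.mem_map]
    refine ⟨ConjClasses.mk 1, Finset.mem_univ _, ?_⟩
    have h1 : Quotient.out (ConjClasses.mk (1 : G)) = 1 := by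
      have h2 : ConjClasses.mk (Quotient.out (ConjClasses.mk (1 : G))) = ConjClasses.mk 1 :=
        Quotient.out_eq _
      rw [ConjClasses.mk_eq_mk_iff_isConj] at h2
      exact isConj_one_left.mp h2
    rw [h1]
    have h3 : Subgroup.centralizer ({1} : Set G) = ⊤ := by
      ext x
      simp [Subgroup.mem_centralizer_iff]
    rw [h3, Subgroup.card_top]
  have := hN (Nat.card (ConjClasses G)) s hcard hpos 1 Nat.one_pos hsum (Nat.card G) hmem
  refine le_trans this ?_
  exact Finset.le_sup (f := N) (Finset.mem_range.mpr (by omega))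

end Cfsg.Agent.Lib.Helper6
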