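import Mathlib
import Cfsg.Agent.Lib.Helper6.DC3
import Cfsg.Agent.S4718
import Cfsg.Agent.S0919
import Cfsg.Agent.S0936
import Cfsg.Agent.Lib.Helper6.BlkMajor
import Cfsg.Agent.Lib.Helper6.BlkQuot3
import Cfsg.Agent.Lib.Helper6.BlkQuot4
import Cfsg.Agent.Lib.Helper6.BlkQuot5
import Cfsg.Agent.Lib.Helper6.BlkIdem
import Cfsg.Agent.Lib.Helper6.BlkCover3
import Cfsg.Agent.Lib.Helper6.BlkPrincipal
import Cfsg.Agent.Lib.Helper6.Multiplicity

/-!
# Brauer's bound for groups of deficiency class `r` whose Sylow 2-subgroup contains an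
elementary abelian subgroup of order `2^(r+1)`

Main result: `exists_bound`.
-/

set_option autoImplicit false
set_option maxHeartbeats 400000

universe u

namespace Cfsg.Agent.Lib.Helper6.DC

open Cfsg.Agent.Lib.Helper6

/-- every nonprincipal 2-block has defect less than `r` -/
def DefClass (M : Ideal Cfsg.AlgInt) (G : Type u) [Group G] (r : ℕ) : Prop :=
  ∀ B : Set (Cfsg.IrrCharacter G), Cfsg.IsPBlock M B → B ≠ Cfsg.principalBlock M G →
    Cfsg.blockDefect 2 B < r

/-- the deficiency class passes to centralizers of involutions -/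
theorem DefClass.centralizer {G : Type u} [Group G] [Finite G] {M : Ideal Cfsg.AlgInt}
    (hM : Cfsg.IsPModular 2 M) {r : ℕ} (h : DefClass M G r) (t : G) (ht : t * t = 1) :
    DefClass M (Subgroup.centralizer ({t} : Set G)) r := by
  classical
  have : Fintype G := Fintype.ofFinite G
  have : Fact (Nat.Prime 2) := ⟨Nat.prime_two⟩
  have : Fintype (Subgroup.centralizer ({t} : Set G)) := Fintype.ofFinite _
  intro b hb hne
  have htH : t ∈ Subgroup.centralizer ({t} : Set G) := by
    rw [Subgroup.mem_centralizer_singleton_iff]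
  have hP : IsPGroup 2 (Subgroup.zpowers t) := by
    intro g
    obtain ⟨g, hg⟩ := g
    refine ⟨1, ?_⟩
    obtain ⟨n, rfl⟩ := Subgroup.mem_zpowers_iff.mp hg
    apply Subtype.ext
    show (t ^ n) ^ (2 ^ 1) = 1
    rw [pow_one, ← zpow_natCast, ← zpow_mul, mul_comm, zpow_mul, zpow_natCast, pow_two, ht,
      one_zpow]
  have hCH : Subgroup.centralizer ((Subgroup.zpowers t : Subgroup G) : Set G)
      ≤ Subgroup.centralizer ({t} : Set G) := by
    apply Subgroup.centralizer_le
    intro w hw
    rw [Set.mem_singleton_iff] at hw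
    rw [hw]
    exact Subgroup.mem_zpowers t
  have hHN : Subgroup.centralizer ({t} : Set G)
      ≤ Subgroup.normalizer ((Subgroup.zpowers t : Subgroup G) : Set G) := by
    refine le_trans ?_ (Subgroup.centralizer_le_normalizer _)
    intro k hk
    rw [Subgroup.mem_centralizer_singleton_iff] at hk
    rw [Subgroup.mem_centralizer_iff]
    intro z hz
    obtain ⟨n, rfl⟩ := Subgroup.mem_zpowers_iff.mp hz
    have hc : Commute k t := hk
    exact ((hc.zpow_right n).eq).symm
  have hdef := Cfsg.Agent.S0919.result 2 M hM (Subgroup.zpowers t)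
    (Subgroup.centralizer ({t} : Set G)) hP
    (by rw [Subgroup.zpowers_le]; exact htH) hCH hHN b hb
  obtain ⟨B, hB⟩ := hdef
  have hBne : B ≠ Cfsg.principalBlock M G := by
    intro hBe
    rw [hBe] at hB
    exact hne ((Cfsg.Agent.S0936.result 2 M hM (Subgroup.centralizer ({t} : Set G)) b
      ⟨_, hB⟩).mp hB)
  have h1 := h B hB.2.1 hBne
  have h2 := IsInducedBlock.blockDefect_le hM (Subgroup.centralizer ({t} : Set G)) hB
  omega

/-- the deficiency class drops by one in the quotient by a central subgroup of order 2 -/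
theorem DefClass.quotient {H : Type u} [Group H] [Finite H] {M : Ideal Cfsg.AlgInt}
    (hM : Cfsg.IsPModular 2 M) {r : ℕ} (h : DefClass M H r) (Z : Subgroup H) [hZn : Z.Normal]
    (hZc : Z ≤ Subgroup.center H) (hZ2 : Nat.card Z = 2) :
    DefClass M (H ⧸ Z) (r - 1) := by
  classical
  have : Fintype H := Fintype.ofFinite H
  have : Fintype (H ⧸ Z) := Fintype.ofFinite _
  have : Fact (Nat.Prime 2) := ⟨Nat.prime_two⟩
  intro B' hB' hne
  obtain ⟨χ₀, hχ₀⟩ := hB'
  -- a character of minimal 2-adic degree valuation in B'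
  have hne' : ((fun χ : Cfsg.IrrCharacter (H ⧸ Z) =>
      (Cfsg.charDegree (χ : H ⧸ Z → ℂ)).factorization 2) '' B').Nonempty := by
    refine ⟨_, χ₀, ?_, rfl⟩
    rw [hχ₀]
    exact sameBlock_refl hM _
  obtain ⟨χb, hχbB, hχbmin⟩ := Nat.sInf_mem hne'
  have hZp : IsPGroup 2 Z := IsPGroup.of_card (n := 1) (by rw [hZ2, pow_one])
  have hC : ∃ k : ℕ, (Subgroup.centralizer (Z : Set H)).index = 2 ^ k := by
    refine ⟨0, ?_⟩
    have : Subgroup.centralizer (Z : Set H) = ⊤ := by
      rw [Subgroup.centralizer_eq_top_iff_subset]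
      exact hZc
    rw [this, Subgroup.index_top, pow_zero]
  -- the block of the inflation
  have hBblock : Cfsg.IsPBlock M (Cfsg.blockOf M ((inflIrr Z χb : Cfsg.IrrCharacter H) : H → ℂ)) :=
    ⟨inflIrr Z χb, rfl⟩
  have hBne : Cfsg.blockOf M ((inflIrr Z χb : Cfsg.IrrCharacter H) : H → ℂ)
      ≠ Cfsg.principalBlock M H := by
    intro hBe
    have hmem : inflIrr Z χb ∈ Cfsg.principalBlock M H := by
      rw [← hBe]
      exact sameBlock_refl hM _
    have hsb : Cfsg.SameBlock M
        (fun g : H => ((oneIrr (H ⧸ Z) : Cfsg.IrrCharacter (H ⧸ Z)) : H ⧸ Z → ℂ)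
          (QuotientGroup.mk g))
        (fun g : H => (χb : H ⧸ Z → ℂ) (QuotientGroup.mk g)) := hmem
    have hsb' := sameBlock_of_sameBlock_inflation Z hM hZp hC (oneIrr (H ⧸ Z)) χb hsb
    have hmem' : χb ∈ Cfsg.principalBlock M (H ⧸ Z) := hsb'
    apply hne
    have e1 : B' = Cfsg.blockOf M (χb : H ⧸ Z → ℂ) := by
      rw [hχ₀]
      apply blockOf_eq_of_mem hM
      rw [← hχ₀]
      exact hχbB
    have e2 : Cfsg.principalBlock M (H ⧸ Z) = Cfsg.blockOf M (χb : H ⧸ Z → ℂ) :=
      blockOf_eq_of_mem hM hmem'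
    rw [e1, e2]
  have hlt := h _ hBblock hBne
  -- defect computations
  have hdegeq : Cfsg.charDegree ((inflIrr Z χb : Cfsg.IrrCharacter H) : H → ℂ)
      = Cfsg.charDegree (χb : H ⧸ Z → ℂ) := rfl
  have hge : (Nat.card H).factorization 2 - (Cfsg.charDegree (χb : H ⧸ Z → ℂ)).factorization 2
      ≤ Cfsg.blockDefect 2 (Cfsg.blockOf M ((inflIrr Z χb : Cfsg.IrrCharacter H) : H → ℂ)) := by
    unfold Cfsg.blockDefect
    apply Nat.sub_le_sub_left
    apply Nat.sInf_le
    refine ⟨inflIrr Z χb, sameBlock_refl hM _, ?_⟩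
    show (Cfsg.charDegree ((inflIrr Z χb : Cfsg.IrrCharacter H) : H → ℂ)).factorization 2 = _
    rw [hdegeq]
  have hfac := factorization_quotient Z 2
  rw [hZ2] at hfac
  have h22 : (2 : ℕ).factorization 2 = 1 := Nat.prime_two.factorization_self
  rw [h22] at hfac
  have hdvd : Cfsg.charDegree (χb : H ⧸ Z → ℂ) ∣ Nat.card (H ⧸ Z) :=
    IsIrrCharacter.charDegree_dvd_card χb.2
  have hle : (Cfsg.charDegree (χb : H ⧸ Z → ℂ)).factorization 2
      ≤ (Nat.card (H ⧸ Z)).factorization 2 :=
    (Nat.factorization_le_iff_dvd (IsIrrCharacter.charDegree_pos χb.2).ne'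
      Nat.card_pos.ne').mpr hdvd 2
  have hdefB' : Cfsg.blockDefect 2 B' = (Nat.card (H ⧸ Z)).factorization 2
      - (Cfsg.charDegree (χb : H ⧸ Z → ℂ)).factorization 2 := by
    unfold Cfsg.blockDefect
    rw [← hχbmin]
  omega

/-- the statement to be proved, for a fixed Sylow exponent `a` and bound `N` -/
def Good (a N : ℕ) : Prop :=
  ∀ (G : Type u) [Group G] [Finite G] (M : Ideal Cfsg.AlgInt) (r : ℕ) (P : Sylow 2 G),
    Cfsg.IsPModular 2 M → Nat.card P = 2 ^ a → DefClass M G r →
    (∃ E : Subgroup G, E ≤ (P : Subgroup G) ∧ (∀ x ∈ E, x * x = 1) ∧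
      Nat.card E = 2 ^ (r + 1)) → Nat.card G ≤ N

theorem exists_two_nontrivial {G : Type u} [Group G] [Finite G] (E : Subgroup G)
    (hE : 2 < Nat.card E) : ∃ s ∈ E, ∃ t ∈ E, s ≠ 1 ∧ t ≠ 1 ∧ s ≠ t := by
  classical
  have : Fintype E := Fintype.ofFinite E
  rw [Nat.card_eq_fintype_card, Fintype.two_lt_card_iff] at hE
  obtain ⟨x, y, z, hxy, hxz, hyz⟩ := hE
  have hv : ∀ {u v : E}, u ≠ v → (u : G) ≠ (v : G) := fun h h' => h (Subtype.ext h')
  by_cases hx : x = 1
  · refine ⟨y, y.2, z, z.2, ?_, ?_, hv hyz⟩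
    · intro h1
      exact hxy (by rw [hx]; exact (Subtype.ext (by rw [h1]; rfl)))
    · intro h1
      exact hxz (by rw [hx]; exact (Subtype.ext (by rw [h1]; rfl)))
  · by_cases hy : y = 1
    · refine ⟨x, x.2, z, z.2, ?_, ?_, hv hxz⟩
      · intro h1
        exact hx (Subtype.ext (by rw [h1]; rfl))
      · intro h1
        exact hyz (by rw [hy]; exact (Subtype.ext (by rw [h1]; rfl)))
    · refine ⟨x, x.2, y, y.2, ?_, ?_, hv hxy⟩
      · intro h1
        exact hx (Subtype.ext (by rw [h1]; rfl))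
      · intro h1
        exact hy (Subtype.ext (by rw [h1]; rfl))

/-- the centralizer of an involution of `E` has bounded order, by induction -/
theorem card_centralizer_le {a N : ℕ} (ih : ∀ a' ≤ a, Good.{u} a' N)
    {G : Type u} [Group G] [Finite G] {M : Ideal Cfsg.AlgInt} (hM : Cfsg.IsPModular 2 M)
    {r : ℕ} (hcl : DefClass M G (r + 1)) (hfacG : (Nat.card G).factorization 2 = a + 1)
    (E : Subgroup G) (hE2 : ∀ x ∈ E, x * x = 1) (hEc : Nat.card E = 2 ^ (r + 2))
    (t : G) (htE : t ∈ E) (ht1 : t ≠ 1) :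
    Nat.card (Subgroup.centralizer ({t} : Set G)) ≤ 2 * N := by
  classical
  have : Fact (Nat.Prime 2) := ⟨Nat.prime_two⟩
  have ht : t * t = 1 := hE2 t htE
  have hclH := DefClass.centralizer hM hcl t ht
  have htH : t ∈ Subgroup.centralizer ({t} : Set G) := by
    rw [Subgroup.mem_centralizer_singleton_iff]
  -- abbreviations
  obtain ⟨tH, htH'⟩ : ∃ tH : Subgroup.centralizer ({t} : Set G), (tH : G) = t := ⟨⟨t, htH⟩, rfl⟩
  have htHc : tH ∈ Subgroup.center (Subgroup.centralizer ({t} : Set G)) := by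
    rw [Subgroup.mem_center_iff]
    intro g
    apply Subtype.ext
    have hg := g.2
    rw [Subgroup.mem_centralizer_singleton_iff] at hg
    show (g : G) * (tH : G) = (tH : G) * (g : G)
    rw [htH']
    exact hg
  have hZc : Subgroup.zpowers tH ≤ Subgroup.center (Subgroup.centralizer ({t} : Set G)) := by
    rw [Subgroup.zpowers_le]
    exact htHc
  have hZn : (Subgroup.zpowers tH).Normal := by
    refine ⟨fun n hn g => ?_⟩
    have h1 := hZc hn
    rw [Subgroup.mem_center_iff] at h1
    rw [h1 g, mul_inv_cancel_right]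
    exact hn
  have htH1 : tH ≠ 1 := by
    intro h1
    apply ht1
    rw [← htH', h1]
    rfl
  have htH2 : tH ^ 2 = 1 := by
    apply Subtype.ext
    show (tH : G) ^ 2 = 1
    rw [htH', pow_two, ht]
  have hZ2 : Nat.card (Subgroup.zpowers tH) = 2 := by
    rw [Nat.card_zpowers]
    exact orderOf_eq_prime htH2 htH1
  have hclQ := DefClass.quotient hM hclH (Subgroup.zpowers tH) hZc hZ2
  rw [Nat.add_sub_cancel] at hclQ
  -- the image of E
  have hEH : E ≤ Subgroup.centralizer ({t} : Set G) := by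
    intro x hx
    rw [Subgroup.mem_centralizer_singleton_iff]
    exact mul_comm_of_exponent_two E hE2 hx htE
  have hcardEH : Nat.card (E.subgroupOf (Subgroup.centralizer ({t} : Set G))) = 2 ^ (r + 2) := by
    rw [← hEc]
    exact Nat.card_congr (Subgroup.subgroupOfEquivOfLe hEH).toEquiv
  have hZle : Subgroup.zpowers tH ≤ E.subgroupOf (Subgroup.centralizer ({t} : Set G)) := by
    rw [Subgroup.zpowers_le, Subgroup.mem_subgroupOf, htH']
    exact htE
  have hcardmap := card_eq_card_map_mk_mul (Subgroup.zpowers tH)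
    (E.subgroupOf (Subgroup.centralizer ({t} : Set G))) hZle
  rw [hcardEH, hZ2] at hcardmap
  have hcardEbar : Nat.card ((E.subgroupOf (Subgroup.centralizer ({t} : Set G))).map
      (QuotientGroup.mk' (Subgroup.zpowers tH))) = 2 ^ (r + 1) := by
    have : 2 ^ (r + 2) = 2 ^ (r + 1) * 2 := by ring
    rw [this] at hcardmap
    exact (Nat.eq_of_mul_eq_mul_right (by norm_num) hcardmap).symm
  have hEbar2 : ∀ x ∈ (E.subgroupOf (Subgroup.centralizer ({t} : Set G))).map
      (QuotientGroup.mk' (Subgroup.zpowers tH)), x * x = 1 := by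
    intro x hx
    obtain ⟨y, hy, rfl⟩ := Subgroup.mem_map.mp hx
    rw [Subgroup.mem_subgroupOf] at hy
    have hyy : y * y = 1 := by
      apply Subtype.ext
      show (y : G) * (y : G) = 1
      exact hE2 _ hy
    rw [← map_mul, hyy, map_one]
  have hEbarp : IsPGroup 2 ((E.subgroupOf (Subgroup.centralizer ({t} : Set G))).map
      (QuotientGroup.mk' (Subgroup.zpowers tH))) := IsPGroup.of_card hcardEbar
  obtain ⟨Pbar, hPbar⟩ := hEbarp.exists_le_sylow
  have hPbarcard := Pbar.card_eq_multiplicity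
  -- the 2-part of the quotient
  have hfac := factorization_quotient (Subgroup.zpowers tH) 2
  rw [hZ2] at hfac
  have h22 : (2 : ℕ).factorization 2 = 1 := Nat.prime_two.factorization_self
  rw [h22] at hfac
  have hdvd : Nat.card (Subgroup.centralizer ({t} : Set G)) ∣ Nat.card G :=
    Subgroup.card_subgroup_dvd_card _
  have hle : (Nat.card (Subgroup.centralizer ({t} : Set G))).factorization 2
      ≤ (Nat.card G).factorization 2 :=
    (Nat.factorization_le_iff_dvd Nat.card_pos.ne' Nat.card_pos.ne').mpr hdvd 2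
  have ha' : (Nat.card (Subgroup.centralizer ({t} : Set G) ⧸ Subgroup.zpowers tH)).factorization 2
      ≤ a := by omega
  have hbound := ih _ ha' (Subgroup.centralizer ({t} : Set G) ⧸ Subgroup.zpowers tH) M r Pbar hM
    hPbarcard hclQ ⟨_, hPbar, hEbar2, hcardEbar⟩
  have hcard := Subgroup.card_eq_card_quotient_mul_card_subgroup (Subgroup.zpowers tH)
  rw [hZ2] at hcard
  rw [hcard]
  omega

/-- Brauer's bound -/
theorem exists_bound (a : ℕ) : ∃ N : ℕ, ∀ a' ≤ a, Good.{u} a' N := by
  classical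
  have : Fact (Nat.Prime 2) := ⟨Nat.prime_two⟩
  induction a with
  | zero =>
    refine ⟨0, ?_⟩
    intro a' ha'
    have ha0 : a' = 0 := by omega
    subst ha0
    intro G _ _ M r P hM hP hcl hE
    obtain ⟨E, hEP, _, hEc⟩ := hE
    exfalso
    have h1 : Nat.card E ≤ Nat.card (P : Subgroup G) := Subgroup.card_le_of_le hEP
    have h2 : Nat.card (P : Subgroup G) = 1 := by rw [← pow_zero 2]; exact hP
    have h3 : 2 ≤ 2 ^ (r + 1) := by
      calc 2 = 2 ^ 1 := by norm_num
        _ ≤ 2 ^ (r + 1) := Nat.pow_le_pow_right (by norm_num) (by omega)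
    omega
  | succ a ih =>
    obtain ⟨N, hN⟩ := ih
    obtain ⟨N₀, hN₀⟩ := Cfsg.Agent.S4718.result.{u} 2 (a + 1)
    obtain ⟨F, hF⟩ := four_group_bound.{u} (a + 1) (2 * N)
    refine ⟨N + N₀ + F, ?_⟩
    intro a' ha'
    by_cases hlt : a' ≤ a
    · intro G _ _ M r P hM hP hcl hE
      have := hN a' hlt G M r P hM hP hcl hE
      omega
    · have ha1 : a' = a + 1 := by omega
      subst ha1
      intro G _ _ M r P hM hP hcl hE
      obtain ⟨E, hEP, hE2, hEc⟩ := hE
      have hfacG : (Nat.card G).factorization 2 = a + 1 := by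
        have h1 := P.card_eq_multiplicity
        have h2 : Nat.card P = 2 ^ (a + 1) := hP
        rw [h2] at h1
        exact (Nat.pow_right_injective (le_refl 2) h1).symm
      rcases Nat.eq_zero_or_pos r with hr | hr
      · -- only the principal block
        subst hr
        have hone : ∀ B : Set (Cfsg.IrrCharacter G), Cfsg.IsPBlock M B →
            B = Cfsg.principalBlock M G := by
          intro B hB
          by_contra hne
          have := hcl B hB hne
          omega
        have := hN₀ G M hM hfacG hone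
        omega
      · obtain ⟨r', rfl⟩ : ∃ r', r = r' + 1 := ⟨r - 1, by omega⟩
        have hE4 : 2 < Nat.card E := by
          rw [hEc]
          calc 2 < 2 ^ 2 := by norm_num
            _ ≤ 2 ^ (r' + 1 + 1) := Nat.pow_le_pow_right (by norm_num) (by omega)
        have hHyp : Hyp G E (2 * N) := by
          refine ⟨hE2, exists_two_nontrivial E hE4, ?_⟩
          intro t htE ht1
          exact card_centralizer_le hN hM hcl hfacG E hE2 hEc t htE ht1
        have := hF G E hHyp (by omega)
        omega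

end Cfsg.Agent.Lib.Helper6.DC
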