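import Mathlib

set_option autoImplicit false
set_option linter.unusedSectionVars false

/-!
Elements of order three normalizing no nontrivial 2-subgroup: the parity of the class
multiplication constant `#{(a,b) ∈ C × C : a b = x⁻¹}`.
-/

namespace Cfsg.Agent.Lib.Helper6.DZ3

open Classical

variable {G : Type*} [Group G]

/-- order three and normalizing no nontrivial 2-subgroup -/
def Special (g : G) : Prop :=
  orderOf g = 3 ∧ ∀ Q : Subgroup G, IsPGroup 2 ↥Q → g ∈ Subgroup.normalizer (Q : Set G) → Q = ⊥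

theorem Special.mul_mul {x : G} (hx : Special x) : x * x * x = 1 := by
  have h := pow_orderOf_eq_one x
  rw [hx.1, pow_succ, pow_two] at h
  exact h

theorem Special.sq_eq_inv {x : G} (hx : Special x) : x * x = x⁻¹ :=
  eq_inv_of_mul_eq_one_left hx.mul_mul

theorem Special.inv_mul_inv {x : G} (hx : Special x) : x⁻¹ * x⁻¹ = x := by
  have h := hx.mul_mul
  calc x⁻¹ * x⁻¹ = x⁻¹ * x⁻¹ * (x * x * x) := by rw [h, mul_one]
    _ = x := by group

theorem Special.ne_one {x : G} (hx : Special x) : x ≠ 1 := by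
  intro h
  have := hx.1
  rw [h, orderOf_one] at this
  omega

/-- the key contradiction: an involution `s` with `(s x)^3 = 1` generates with `x` a copy of the
alternating group of degree four, whose four-group is normalized by `x` -/
theorem no_invol (x s : G) (hx : Special x) (hs : s * s = 1) (hs1 : s ≠ 1)
    (h3 : (s * x) ^ 3 = 1) : False := by
  have hx3 := hx.mul_mul
  have hinv := hx.sq_eq_inv
  have hxx := hx.inv_mul_inv
  obtain ⟨t1, ht1⟩ : ∃ t, t = x * s * x⁻¹ := ⟨_, rfl⟩
  obtain ⟨t2, ht2⟩ : ∃ t, t = x⁻¹ * s * x := ⟨_, rfl⟩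
  have e1 : t1 * t1 = 1 := by
    rw [ht1]
    calc x * s * x⁻¹ * (x * s * x⁻¹) = x * (s * s) * x⁻¹ := by group
      _ = 1 := by rw [hs]; group
  have e2 : t2 * t2 = 1 := by
    rw [ht2]
    calc x⁻¹ * s * x * (x⁻¹ * s * x) = x⁻¹ * (s * s) * x := by group
      _ = 1 := by rw [hs]; group
  have h012 : s * t1 * t2 = 1 := by
    rw [ht1, ht2]
    calc s * (x * s * x⁻¹) * (x⁻¹ * s * x) = s * x * s * (x⁻¹ * x⁻¹) * s * x := by group
      _ = s * x * s * x * s * x := by rw [hxx]
      _ = (s * x) ^ 3 := by rw [pow_succ, pow_two]; simp only [mul_assoc]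
      _ = 1 := h3
  have i0 : s = s⁻¹ := eq_inv_of_mul_eq_one_left hs
  have i1 : t1 = t1⁻¹ := eq_inv_of_mul_eq_one_left e1
  have i2 : t2 = t2⁻¹ := eq_inv_of_mul_eq_one_left e2
  have h01 : s * t1 = t2 := by
    have := eq_inv_of_mul_eq_one_left h012
    rw [this]; exact i2.symm
  have c01 : s * t1 = t1 * s := by
    calc s * t1 = t2 := h01
      _ = t2⁻¹ := i2
      _ = (s * t1)⁻¹ := by rw [h01]
      _ = t1⁻¹ * s⁻¹ := by rw [mul_inv_rev]
      _ = t1 * s := by rw [← i1, ← i0]
  have h12 : t1 * t2 = s := by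
    calc t1 * t2 = t1 * (s * t1) := by rw [h01]
      _ = t1 * (t1 * s) := by rw [c01]
      _ = (t1 * t1) * s := by group
      _ = s := by rw [e1, one_mul]
  have h02 : s * t2 = t1 := by
    calc s * t2 = s * (s * t1) := by rw [h01]
      _ = (s * s) * t1 := by group
      _ = t1 := by rw [hs, one_mul]
  have c12 : t1 * t2 = t2 * t1 := by
    calc t1 * t2 = s := h12
      _ = s * (t1 * t1) := by rw [e1, mul_one]
      _ = (s * t1) * t1 := by group
      _ = t2 * t1 := by rw [h01]
  have c02 : s * t2 = t2 * s := by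
    calc s * t2 = t1 := h02
      _ = t1 * (s * s) := by rw [hs, mul_one]
      _ = (t1 * s) * s := by group
      _ = (s * t1) * s := by rw [c01]
      _ = t2 * s := by rw [h01]
  obtain ⟨S, hS⟩ : ∃ S : Set G, S = {s, t1, t2} := ⟨_, rfl⟩
  have hmemS : ∀ a, a ∈ S ↔ a = s ∨ a = t1 ∨ a = t2 := by
    intro a; rw [hS]; simp
  have hcomm : ∀ a ∈ S, ∀ b ∈ S, a * b = b * a := by
    intro a ha b hb
    rw [hmemS] at ha hb
    rcases ha with rfl | rfl | rfl <;> rcases hb with rfl | rfl | rfl
    · rfl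
    · exact c01
    · exact c02
    · exact c01.symm
    · rfl
    · exact c12
    · exact c02.symm
    · exact c12.symm
    · rfl
  obtain ⟨Q, hQ⟩ : ∃ Q : Subgroup G, Q = Subgroup.closure S := ⟨_, rfl⟩
  have hSQ : ∀ a ∈ S, a ∈ Q := by
    intro a ha; rw [hQ]; exact Subgroup.subset_closure ha
  have hQcent : Q ≤ Subgroup.centralizer (Q : Set G) := by
    rw [hQ, Subgroup.centralizer_closure, Subgroup.closure_le]
    intro a ha
    exact Subgroup.mem_centralizer_iff.mpr (fun h hh => hcomm h hh a ha)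
  have hQcomm : ∀ a ∈ Q, ∀ b ∈ Q, a * b = b * a := by
    intro a ha b hb
    exact Subgroup.mem_centralizer_iff.mp (hQcent hb) a ha
  have hsq : ∀ q ∈ Q, q * q = 1 := by
    intro q hq
    rw [hQ] at hq
    induction hq using Subgroup.closure_induction with
    | mem a ha =>
      rw [hmemS] at ha
      rcases ha with rfl | rfl | rfl
      · exact hs
      · exact e1
      · exact e2
    | one => exact mul_one 1
    | mul a b ha hb ia ib =>
      rw [← hQ] at ha hb
      calc a * b * (a * b) = a * (b * a) * b := by group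
        _ = a * (a * b) * b := by rw [hQcomm b hb a ha]
        _ = (a * a) * (b * b) := by group
        _ = 1 := by rw [ia, ib, mul_one]
    | inv a _ ia =>
      rw [← mul_inv_rev, ia, inv_one]
  have hP : IsPGroup 2 ↥Q := by
    rintro ⟨q, hq⟩
    refine ⟨1, Subtype.ext ?_⟩
    simp only [pow_one, Subgroup.coe_pow, Subgroup.coe_one, pow_two]
    exact hsq q hq
  have key1 : ∀ h ∈ Q, x * h * x⁻¹ ∈ Q := by
    intro h hh
    rw [hQ] at hh
    induction hh using Subgroup.closure_induction with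
    | mem a ha =>
      rw [hmemS] at ha
      rcases ha with h | h | h
      · apply hSQ; rw [hmemS]; right; left; rw [h]; exact ht1.symm
      · apply hSQ; rw [hmemS]; right; right
        rw [h, ht1, ht2]
        calc x * (x * s * x⁻¹) * x⁻¹ = (x * x) * s * (x⁻¹ * x⁻¹) := by group
          _ = x⁻¹ * s * x := by rw [hinv, hxx]
      · apply hSQ; rw [hmemS]; left
        rw [h, ht2]; group
    | one =>
      have : x * 1 * x⁻¹ = 1 := by group
      rw [this]; exact Q.one_mem
    | mul a b _ _ ia ib =>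
      have : x * (a * b) * x⁻¹ = (x * a * x⁻¹) * (x * b * x⁻¹) := by group
      rw [this]; exact Q.mul_mem ia ib
    | inv a _ ia =>
      have : x * a⁻¹ * x⁻¹ = (x * a * x⁻¹)⁻¹ := by group
      rw [this]; exact Q.inv_mem ia
  have hnorm : x ∈ Subgroup.normalizer (Q : Set G) := by
    rw [Subgroup.mem_normalizer_iff]
    intro h
    refine ⟨key1 h, fun hk => ?_⟩
    have h2 := key1 _ (key1 _ hk)
    have e : x * (x * (x * h * x⁻¹) * x⁻¹) * x⁻¹ = h := by
      calc x * (x * (x * h * x⁻¹) * x⁻¹) * x⁻¹ = (x * x * x) * h * (x * x * x)⁻¹ := by group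
        _ = h := by rw [hx3, inv_one, one_mul, mul_one]
    rwa [e] at h2
  have hbot := hx.2 Q hP hnorm
  have hsQ : s ∈ Q := hSQ s (by rw [hmemS]; left; rfl)
  rw [hbot, Subgroup.mem_bot] at hsQ
  exact hs1 hsQ

theorem fixed_iff (x b : G) : (b * x⁻¹) * (b * x⁻¹) = 1 ↔ b = x * b⁻¹ * x := by
  rw [mul_eq_one_iff_eq_inv, mul_inv_rev, inv_inv, mul_inv_eq_iff_eq_mul]

/-- the parity of the number of solutions of `a b = x⁻¹` in a class of elements of order three -/
theorem card_pairs_mod_two [Finite G] (x y : G) (hx : Special x) (hy : y ^ 3 = 1) :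
    Nat.card {p : G × G // IsConj y p.1 ∧ IsConj y p.2 ∧ p.1 * p.2 = x⁻¹} % 2
      = if IsConj y x then 1 else 0 := by
  have : Fintype G := Fintype.ofFinite G
  have hx3 := hx.mul_mul
  have hinv := hx.sq_eq_inv
  have hxx := hx.inv_mul_inv
  obtain ⟨T, hT⟩ : ∃ T : Finset G,
      T = Finset.univ.filter (fun b : G => IsConj y b ∧ IsConj y (x⁻¹ * b⁻¹)) := ⟨_, rfl⟩
  have hmemT : ∀ b, b ∈ T ↔ IsConj y b ∧ IsConj y (x⁻¹ * b⁻¹) := by
    intro b; rw [hT]; simp
  -- the pairs correspond to `T`
  have hcard : Nat.card {p : G × G // IsConj y p.1 ∧ IsConj y p.2 ∧ p.1 * p.2 = x⁻¹}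
      = T.card := by
    have e : {p : G × G // IsConj y p.1 ∧ IsConj y p.2 ∧ p.1 * p.2 = x⁻¹} ≃ {b : G // b ∈ T} :=
      { toFun := fun p => ⟨p.1.2, by
          rw [hmemT]
          refine ⟨p.2.2.1, ?_⟩
          have h := p.2.2.2
          have : x⁻¹ * (p.1.2)⁻¹ = p.1.1 := (eq_mul_inv_of_mul_eq h).symm
          rw [this]; exact p.2.1⟩
        invFun := fun b => ⟨(x⁻¹ * (b.1)⁻¹, b.1), by
          have hb := (hmemT b.1).mp b.2
          refine ⟨hb.2, hb.1, ?_⟩
          group⟩
        left_inv := by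
          rintro ⟨⟨a, b⟩, h1, h2, h3⟩
          apply Subtype.ext
          simp only [Prod.mk.injEq, and_true]
          simp only at h3
          exact (eq_mul_inv_of_mul_eq h3).symm
        right_inv := by
          rintro ⟨b, hb⟩
          rfl }
    rw [Nat.card_congr e, Nat.card_eq_fintype_card, Fintype.card_coe]
  rw [hcard]
  -- the involution
  obtain ⟨θ, hθ⟩ : ∃ θ : G → G, θ = fun b => x * b⁻¹ * x := ⟨_, rfl⟩
  have hθapp : ∀ b, θ b = x * b⁻¹ * x := by intro b; rw [hθ]
  have hθθ : ∀ b, θ (θ b) = b := by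
    intro b; rw [hθapp, hθapp]; group
  have hθT : ∀ b ∈ T, θ b ∈ T := by
    intro b hb
    rw [hmemT] at hb ⊢
    rw [hθapp]
    constructor
    · refine hb.2.trans (isConj_iff.mpr ⟨x * b⁻¹, ?_⟩)
      calc x * b⁻¹ * (x⁻¹ * b⁻¹) * (x * b⁻¹)⁻¹ = x * b⁻¹ * (x⁻¹ * x⁻¹) := by group
        _ = x * b⁻¹ * x := by rw [hxx]
    · refine hb.1.trans (isConj_iff.mpr ⟨x, ?_⟩)
      calc x * b * x⁻¹ = (x⁻¹ * x⁻¹) * b * x⁻¹ := by rw [hxx]
        _ = x⁻¹ * (x * b⁻¹ * x)⁻¹ := by group
  -- fixed points
  have hfix : ∀ b ∈ T, (θ b = b ↔ b = x) := by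
    intro b hb
    rw [hθapp]
    constructor
    · intro h
      have h2 := (fixed_iff x b).mpr h.symm
      by_contra hne
      have hs1 : b * x⁻¹ ≠ 1 := by
        intro h1
        exact hne (by rw [mul_inv_eq_one] at h1; exact h1)
      have hb3 : b ^ 3 = 1 := by
        have := ((hmemT b).mp hb).1.pow 3
        rw [hy] at this
        exact (isConj_one_right.mp this)
      have h3 : ((b * x⁻¹) * x) ^ 3 = 1 := by
        have : b * x⁻¹ * x = b := by group
        rw [this]; exact hb3
      exact no_invol x (b * x⁻¹) hx h2 hs1 h3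
    · intro h
      rw [h]; group
  have hmov : (((T.filter (fun b => θ b ≠ b)).card : ℕ) : ZMod 2) = 0 := by
    rw [Finset.card_eq_sum_ones, Nat.cast_sum]
    simp only [Nat.cast_one]
    refine Finset.sum_involution (fun b _ => θ b) ?_ ?_ ?_ ?_
    · intro b _; decide
    · intro b hb _; exact (Finset.mem_filter.mp hb).2
    · intro b hb
      rw [Finset.mem_filter] at hb ⊢
      refine ⟨hθT b hb.1, ?_⟩
      rw [hθθ]; exact fun h => hb.2 h.symm
    · intro b _; exact hθθ b
  have hmov2 : 2 ∣ (T.filter (fun b => θ b ≠ b)).card :=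
    (ZMod.natCast_eq_zero_iff _ 2).mp hmov
  have hsplit : (T.filter (fun b => θ b = b)).card + (T.filter (fun b => θ b ≠ b)).card
      = T.card := by
    exact Finset.card_filter_add_card_filter_not (s := T) (fun b => θ b = b)
  have hfixcard : (T.filter (fun b => θ b = b)).card = if IsConj y x then 1 else 0 := by
    have heq : T.filter (fun b => θ b = b) = T.filter (fun b => b = x) := by
      apply Finset.filter_congr
      intro b hb
      exact hfix b hb
    rw [heq]
    by_cases hc : IsConj y x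
    · rw [if_pos hc]
      have hxT : x ∈ T := by
        rw [hmemT]
        refine ⟨hc, ?_⟩
        rw [hxx]; exact hc
      have : T.filter (fun b => b = x) = {x} := by
        ext b
        simp only [Finset.mem_filter, Finset.mem_singleton]
        constructor
        · exact fun h => h.2
        · intro h; rw [h]; exact ⟨hxT, rfl⟩
      rw [this, Finset.card_singleton]
    · rw [if_neg hc]
      rw [Finset.card_eq_zero]
      ext b
      simp only [Finset.mem_filter, Finset.notMem_empty, iff_false, not_and]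
      intro hb h
      rw [h, hmemT] at hb
      exact hc hb.1
  obtain ⟨k, hk⟩ := hmov2
  rw [← hsplit, hfixcard, hk]
  split_ifs <;> omega

end Cfsg.Agent.Lib.Helper6.DZ3
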