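import Mathlib
import Cfsg.Prelude.Def_Blocks
import Cfsg.Agent.Lib.Helper6.DZ3A
import Cfsg.Agent.Lib.Helper6.ClassMult
import Cfsg.Agent.Lib.Helper6.BlkLocal
import Cfsg.Agent.Lib.Helper6.BlkIdem
import Cfsg.Agent.Lib.Helper6.BlkDefect
import Cfsg.Agent.Lib.Helper6.BlkReal
import Cfsg.Agent.Lib.Helper6.Multiplicity
import Cfsg.Agent.Lib.Helper6.IrrBasis
import Cfsg.Agent.Lib.Helper6.BlkVanish

set_option autoImplicit false
set_option linter.unusedSectionVars false
set_option maxHeartbeats 800000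

/-!
Characters of 2-defect zero and elements of order three normalizing no nontrivial 2-subgroup:
the class sums of such elements are linearly independent modulo the radical of the centre of the
group algebra in characteristic two.
-/

namespace Cfsg.Agent.Lib.Helper6.DZ3

open Cfsg Cfsg.Agent.Lib.Helper6
open scoped ComplexConjugate
open Classical

variable {G : Type*} [Group G] [Finite G] {M : Ideal Cfsg.AlgInt}

theorem Special.pow_three {x : G} (hx : Special x) : x ^ 3 = 1 := by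
  rw [pow_succ, pow_two]; exact hx.mul_mul

theorem Special.not_two_dvd_centralizer {x : G} (hx : Special x) :
    ¬ 2 ∣ Nat.card (Subgroup.centralizer ({x} : Set G)) := by
  intro h
  have : Fact (Nat.Prime 2) := ⟨Nat.prime_two⟩
  obtain ⟨z, hz⟩ := exists_prime_orderOf_dvd_card' 2 h
  have hzc : (z : G) * x = x * (z : G) := Subgroup.mem_centralizer_singleton_iff.mp z.2
  have hcomm : ∀ h ∈ Subgroup.zpowers (z : G), x * h * x⁻¹ = h := by
    rintro h ⟨k, rfl⟩
    have hc : Commute x ((z : G) ^ k) := (show Commute x (z : G) from hzc.symm).zpow_right k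
    rw [hc.eq]; group
  have hP : IsPGroup 2 ↥(Subgroup.zpowers (z : G)) := by
    apply IsPGroup.of_card (n := 1)
    rw [Nat.card_zpowers, pow_one, Subgroup.orderOf_coe]; exact hz
  have hnorm : x ∈ Subgroup.normalizer ((Subgroup.zpowers (z : G)) : Set G) := by
    rw [Subgroup.mem_normalizer_iff]
    intro h
    constructor
    · intro hh; rw [hcomm h hh]; exact hh
    · intro hh
      have h1 := hcomm _ hh
      have e : h = x * h * x⁻¹ := by
        have h2 : x⁻¹ * (x * (x * h * x⁻¹) * x⁻¹) * x = x⁻¹ * (x * h * x⁻¹) * x := by rw [h1]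
        have l : x⁻¹ * (x * (x * h * x⁻¹) * x⁻¹) * x = x * h * x⁻¹ := by group
        have r : x⁻¹ * (x * h * x⁻¹) * x = h := by group
        rw [l, r] at h2; exact h2.symm
      rw [e]; exact hh
  have hbot := hx.2 _ hP hnorm
  rw [Subgroup.zpowers_eq_bot] at hbot
  have h1 : orderOf (z : G) = 1 := by rw [hbot, orderOf_one]
  rw [Subgroup.orderOf_coe, hz] at h1
  omega

/-- the core independence statement -/
theorem core (hM : Cfsg.IsPModular 2 M) {ι : Type*} [Fintype ι] (x : ι → G)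
    (hx : ∀ i, Special (x i)) (hnc : ∀ i j, IsConj (x i) (x j) → i = j) (a : ι → Cfsg.AlgInt)
    (hyp : ∀ χ : Cfsg.IrrCharacter G,
      (Cfsg.charDegree (χ : G → ℂ)).factorization 2 = (Nat.card G).factorization 2 →
      Cfsg.MemLocalIdeal M (∑ i, (a i : ℂ) * Cfsg.centralChar (χ : G → ℂ) (x i))) (j : ι) :
    a j ∈ M := by
  have : Fintype G := Fintype.ofFinite G
  haveI : Fintype (Cfsg.IrrCharacter G) := Fintype.ofFinite _
  obtain ⟨g, hg⟩ : ∃ g : G, g = (x j)⁻¹ := ⟨_, rfl⟩
  obtain ⟨n, hn⟩ : ∃ n : ι → ℕ, ∀ i, n i = Nat.card (Subgroup.centralizer ({x i} : Set G)) :=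
    ⟨_, fun _ => rfl⟩
  obtain ⟨c, hc⟩ : ∃ c : ι → ι → ℕ, ∀ i i', c i i' = Nat.card {p : G × G //
      IsConj (x i) p.1 ∧ IsConj (x i') p.2 ∧ p.1 * p.2 = g} := ⟨_, fun _ _ => rfl⟩
  have hnodd : ∀ i, ¬ 2 ∣ n i := by
    intro i; rw [hn]; exact (hx i).not_two_dvd_centralizer
  have hn0 : ∀ i, (n i : ℂ) ≠ 0 := by
    intro i
    have : n i ≠ 0 := by
      intro h0; exact hnodd i (by rw [h0]; exact dvd_zero 2)
    exact_mod_cast this
  obtain ⟨K, hK⟩ : ∃ K : Cfsg.IrrCharacter G → ℂ, ∀ χ : Cfsg.IrrCharacter G,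
      K χ = (Nat.card G : ℂ) * conj ((χ : G → ℂ) g) / (χ : G → ℂ) 1 := ⟨_, fun _ => rfl⟩
  obtain ⟨u, hu⟩ : ∃ u : Cfsg.IrrCharacter G → ι → ℂ, ∀ (χ : Cfsg.IrrCharacter G) i,
      u χ i = (χ : G → ℂ) (x i) * ((n i : ℂ))⁻¹ := ⟨_, fun _ _ => rfl⟩
  obtain ⟨T, hT⟩ : ∃ T : Cfsg.IrrCharacter G → ℂ, ∀ χ : Cfsg.IrrCharacter G,
      T χ = ∑ i, (a i : ℂ) * u χ i := ⟨_, fun _ => rfl⟩
  -- the class multiplication constants through characters
  have hcform : ∀ i i', (c i i' : ℂ) = ∑ χ : Cfsg.IrrCharacter G, K χ * u χ i * u χ i' := by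
    intro i i'
    have h1 := card_conj_mul_conj_eq (x i) (x i') g
    have h2 := card_conj_pairs (x i) (x i') g
    rw [← hn i, ← hn i', ← hc i i'] at h2
    rw [h2] at h1
    have h3 : (∑ χ : Cfsg.IrrCharacter G, K χ * u χ i * u χ i')
        = ((n i : ℂ))⁻¹ * ((n i' : ℂ))⁻¹ * ((Nat.card G : ℂ) * ∑ χ : Cfsg.IrrCharacter G,
          (χ : G → ℂ) (x i) * (χ : G → ℂ) (x i') * conj ((χ : G → ℂ) g) / (χ : G → ℂ) 1) := by
      rw [Finset.mul_sum, Finset.mul_sum]
      refine Finset.sum_congr rfl (fun χ _ => ?_)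
      rw [hK, hu, hu]; ring
    rw [h3, ← h1]
    have e1 := hn0 i
    have e2 := hn0 i'
    push_cast
    field_simp
  -- local integrality of `T`
  have hTloc : ∀ χ : Cfsg.IrrCharacter G, Cfsg.MemLocalRing M (T χ) := by
    intro χ
    rw [hT]
    refine MemLocalRing.sum hM _ _ (fun i _ => ?_)
    rw [hu]
    refine MemLocalRing.mul hM (memLocalRing_coe hM (a i)) (MemLocalRing.mul hM ?_ ?_)
    · exact memLocalRing_of_isIntegral hM
        (IsCharacter.isIntegral_apply (IsIrrCharacter.isCharacter χ.2) (x i))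
    · exact memLocalRing_inv_natCast hM (hnodd i)
  have hGpos : Nat.card G ≠ 0 := Nat.card_pos.ne'
  -- each character contributes an element of the local ideal
  have hterm : ∀ χ : Cfsg.IrrCharacter G, Cfsg.MemLocalIdeal M (K χ * T χ ^ 2) := by
    intro χ
    have hχ := χ.2
    have hχc := IsIrrCharacter.isCharacter hχ
    obtain ⟨d, hd⟩ : ∃ d : ℕ, d = Cfsg.charDegree (χ : G → ℂ) := ⟨_, rfl⟩
    have h1 : (χ : G → ℂ) 1 = (d : ℂ) := by
      rw [hd]; exact IsCharacter.apply_one_eq_charDegree hχc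
    have hdvd : d ∣ Nat.card G := by
      rw [hd]; exact IsIrrCharacter.charDegree_dvd_card hχ
    obtain ⟨k, hk⟩ := hdvd
    have hd0 : d ≠ 0 := by
      rintro rfl; rw [zero_mul] at hk; exact hGpos hk
    have hk0 : k ≠ 0 := by
      rintro rfl; rw [mul_zero] at hk; exact hGpos hk
    have hd0' : (d : ℂ) ≠ 0 := by exact_mod_cast hd0
    have hconj : Cfsg.MemLocalRing M (conj ((χ : G → ℂ) g)) := by
      rw [← IsCharacter.apply_inv hχc g]
      exact memLocalRing_of_isIntegral hM (IsCharacter.isIntegral_apply hχc g⁻¹)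
    have hKeq : K χ = (k : ℂ) * conj ((χ : G → ℂ) g) := by
      rw [hK, h1, hk]; push_cast; field_simp
    by_cases hdeg : (Cfsg.charDegree (χ : G → ℂ)).factorization 2
        = (Nat.card G).factorization 2
    · have h := hyp χ hdeg
      have hsum : ∑ i, (a i : ℂ) * Cfsg.centralChar (χ : G → ℂ) (x i) = (k : ℂ) * T χ := by
        rw [hT, Finset.mul_sum]
        refine Finset.sum_congr rfl (fun i _ => ?_)
        rw [hu]
        unfold Cfsg.centralChar
        rw [h1]
        have hidx : ((Subgroup.centralizer ({x i} : Set G)).index : ℂ) * (n i : ℂ)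
            = (d : ℂ) * (k : ℂ) := by
          have := Subgroup.index_mul_card (Subgroup.centralizer ({x i} : Set G))
          rw [← hn i, hk] at this
          exact_mod_cast this
        have e1 := hn0 i
        have hidx' : ((Subgroup.centralizer ({x i} : Set G)).index : ℂ)
            = (d : ℂ) * (k : ℂ) * ((n i : ℂ))⁻¹ := by
          rw [← hidx]; field_simp
        rw [hidx']; field_simp
      rw [hsum] at h
      have : K χ * T χ ^ 2 = ((k : ℂ) * T χ) * (conj ((χ : G → ℂ) g) * T χ) := by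
        rw [hKeq]; ring
      rw [this]
      exact MemLocalIdeal.mul_right hM h (MemLocalRing.mul hM hconj (hTloc χ))
    · have hfac : (Nat.card G).factorization 2 = d.factorization 2 + k.factorization 2 := by
        rw [hk, Nat.factorization_mul hd0 hk0]; rfl
      have hk2 : k.factorization 2 ≠ 0 := by
        intro h0
        apply hdeg
        rw [← hd, hfac, h0, add_zero]
      have h2k : 2 ∣ k := Nat.dvd_of_factorization_pos hk2
      have hkI : Cfsg.MemLocalIdeal M (k : ℂ) := (memLocalIdeal_natCast_iff hM k).mpr h2k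
      have : K χ * T χ ^ 2 = (k : ℂ) * (conj ((χ : G → ℂ) g) * T χ ^ 2) := by
        rw [hKeq]; ring
      rw [this]
      exact MemLocalIdeal.mul_right hM hkI
        (MemLocalRing.mul hM hconj (MemLocalRing.pow hM (hTloc χ) 2))
  -- the double sum
  have hN : ∑ i, ∑ i', (a i : ℂ) * (a i' : ℂ) * (c i i' : ℂ)
      = ∑ χ : Cfsg.IrrCharacter G, K χ * T χ ^ 2 := by
    have h1 : ∀ χ : Cfsg.IrrCharacter G, K χ * T χ ^ 2
        = ∑ i, ∑ i', (a i : ℂ) * (a i' : ℂ) * (K χ * u χ i * u χ i') := by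
      intro χ
      rw [pow_two, hT, Finset.sum_mul_sum, Finset.mul_sum]
      refine Finset.sum_congr rfl (fun i _ => ?_)
      rw [Finset.mul_sum]
      refine Finset.sum_congr rfl (fun i' _ => ?_)
      ring
    calc ∑ i, ∑ i', (a i : ℂ) * (a i' : ℂ) * (c i i' : ℂ)
        = ∑ i, ∑ i', ∑ χ : Cfsg.IrrCharacter G,
            (a i : ℂ) * (a i' : ℂ) * (K χ * u χ i * u χ i') := by
          refine Finset.sum_congr rfl (fun i _ => Finset.sum_congr rfl (fun i' _ => ?_))
          rw [hcform, Finset.mul_sum]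
      _ = ∑ i, ∑ χ : Cfsg.IrrCharacter G, ∑ i',
            (a i : ℂ) * (a i' : ℂ) * (K χ * u χ i * u χ i') :=
          Finset.sum_congr rfl (fun i _ => Finset.sum_comm)
      _ = ∑ χ : Cfsg.IrrCharacter G, ∑ i, ∑ i',
            (a i : ℂ) * (a i' : ℂ) * (K χ * u χ i * u χ i') := Finset.sum_comm
      _ = ∑ χ : Cfsg.IrrCharacter G, K χ * T χ ^ 2 :=
          Finset.sum_congr rfl (fun χ _ => (h1 χ).symm)
  have hNI : Cfsg.MemLocalIdeal M (∑ i, ∑ i', (a i : ℂ) * (a i' : ℂ) * (c i i' : ℂ)) := by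
    rw [hN]
    exact MemLocalIdeal.sum hM _ _ (fun χ _ => hterm χ)
  -- symmetry and the diagonal
  have hsym : ∀ i i', c i i' = c i' i := by
    intro i i'
    have : (c i i' : ℂ) = (c i' i : ℂ) := by
      rw [hcform, hcform]
      refine Finset.sum_congr rfl (fun χ _ => ?_)
      ring
    exact_mod_cast this
  have hdiag : ∀ i, c i i % 2 = if i = j then 1 else 0 := by
    intro i
    have h := card_pairs_mod_two (x j) (x i) (hx j) (hx i).pow_three
    rw [← hg, ← hc i i] at h
    rw [h]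
    by_cases hij : i = j
    · rw [if_pos hij, if_pos (by rw [hij])]
    · rw [if_neg hij, if_neg (fun hcj => hij (hnc i j hcj))]
  -- split the double sum
  obtain ⟨F, hF⟩ : ∃ F : ι × ι → ℂ, ∀ p, F p = (a p.1 : ℂ) * (a p.2 : ℂ) * (c p.1 p.2 : ℂ) :=
    ⟨_, fun _ => rfl⟩
  have hsplit : ∑ i, ∑ i', (a i : ℂ) * (a i' : ℂ) * (c i i' : ℂ)
      = ∑ i, F (i, i) + ∑ p ∈ (Finset.univ : Finset ι).offDiag, F p := by
    have e1 : ∑ i, ∑ i', (a i : ℂ) * (a i' : ℂ) * (c i i' : ℂ)
        = ∑ p ∈ (Finset.univ : Finset ι) ×ˢ (Finset.univ : Finset ι), F p := by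
      rw [Finset.sum_congr rfl (fun p _ => hF p)]
      exact (Finset.sum_product' _ _ (fun i i' => (a i : ℂ) * (a i' : ℂ) * (c i i' : ℂ))).symm
    rw [e1, ← Finset.diag_union_offDiag, Finset.sum_union (Finset.disjoint_diag_offDiag _),
      Finset.sum_diag]
  have hFloc : ∀ p, Cfsg.MemLocalRing M (F p) := by
    intro p
    rw [hF]
    exact MemLocalRing.mul hM (MemLocalRing.mul hM (memLocalRing_coe hM _) (memLocalRing_coe hM _))
      (memLocalRing_natCast hM _)
  have h2I : Cfsg.MemLocalIdeal M (2 : ℂ) := by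
    have := memLocalIdeal_prime hM
    exact_mod_cast this
  have hoff : Cfsg.MemLocalIdeal M (∑ p ∈ (Finset.univ : Finset ι).offDiag, F p) := by
    refine memLocalIdeal_sum_involution hM _ F Prod.swap ?_ ?_ ?_ ?_
    · intro p hp
      rw [Finset.mem_offDiag] at hp ⊢
      exact ⟨Finset.mem_univ _, Finset.mem_univ _, fun h => hp.2.2 h.symm⟩
    · intro p _; exact Prod.swap_swap p
    · intro p hp h
      rw [Finset.mem_offDiag] at hp
      apply hp.2.2
      have := congrArg Prod.fst h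
      simp only [Prod.fst_swap] at this
      exact this.symm
    · intro p _
      have : F p + F p.swap = 2 * F p := by
        rw [hF, hF]
        simp only [Prod.fst_swap, Prod.snd_swap]
        rw [hsym p.2 p.1]; ring
      rw [this]
      exact MemLocalIdeal.mul_right hM h2I (hFloc p)
  have hdiagsum : ∑ i, F (i, i)
      = (a j : ℂ) * (a j : ℂ) + 2 * ∑ i, (a i : ℂ) * (a i : ℂ) * ((c i i / 2 : ℕ) : ℂ) := by
    rw [Finset.mul_sum]
    have : ∀ i, F (i, i) = (if i = j then (a i : ℂ) * (a i : ℂ) else 0)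
        + 2 * ((a i : ℂ) * (a i : ℂ) * ((c i i / 2 : ℕ) : ℂ)) := by
      intro i
      rw [hF]
      simp only
      have hdm : (c i i : ℂ) = 2 * ((c i i / 2 : ℕ) : ℂ) + ((c i i % 2 : ℕ) : ℂ) := by
        have := Nat.div_add_mod (c i i) 2
        exact_mod_cast this.symm
      rw [hdm, hdiag i]
      by_cases hij : i = j
      · rw [if_pos hij, if_pos hij]; push_cast; ring
      · rw [if_neg hij, if_neg hij]; push_cast; ring
    rw [Finset.sum_congr rfl (fun i _ => this i), Finset.sum_add_distrib,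
      Finset.sum_ite_eq' Finset.univ j (fun i => (a i : ℂ) * (a i : ℂ)),
      if_pos (Finset.mem_univ j)]
  have hdI : Cfsg.MemLocalIdeal M
      (2 * ∑ i, (a i : ℂ) * (a i : ℂ) * ((c i i / 2 : ℕ) : ℂ)) := by
    refine MemLocalIdeal.mul_right hM h2I (MemLocalRing.sum hM _ _ (fun i _ => ?_))
    exact MemLocalRing.mul hM (MemLocalRing.mul hM (memLocalRing_coe hM _) (memLocalRing_coe hM _))
      (memLocalRing_natCast hM _)
  have hsq : Cfsg.MemLocalIdeal M ((a j : ℂ) * (a j : ℂ)) := by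
    have e : (a j : ℂ) * (a j : ℂ)
        = (∑ i, ∑ i', (a i : ℂ) * (a i' : ℂ) * (c i i' : ℂ))
          - ∑ p ∈ (Finset.univ : Finset ι).offDiag, F p
          - 2 * ∑ i, (a i : ℂ) * (a i : ℂ) * ((c i i / 2 : ℕ) : ℂ) := by
      rw [hsplit, hdiagsum]; ring
    rw [e]
    exact MemLocalIdeal.sub hM (MemLocalIdeal.sub hM hNI hoff) hdI
  have hj : Cfsg.MemLocalIdeal M (a j : ℂ) := by
    rcases memLocalIdeal_or_of_mul hM (memLocalRing_coe hM _) (memLocalRing_coe hM _) hsq with h | h
    · exact h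
    · exact h
  exact (memLocalIdeal_coe_iff hM (a j)).mp hj

/-- the number of characters of 2-defect zero is at least the number of classes of elements of
order three normalizing no nontrivial 2-subgroup -/
theorem main :
    Nat.card {C : ConjClasses G // ∃ g ∈ C.carrier, orderOf g = 3 ∧
        ∀ Q : Subgroup G, IsPGroup 2 ↥Q → g ∈ Subgroup.normalizer (Q : Set G) → Q = ⊥}
      ≤ Nat.card {χ : Cfsg.IrrCharacter G //
        (Cfsg.charDegree (χ : G → ℂ)).factorization 2 = (Nat.card G).factorization 2} := by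
  have : Fact (Nat.Prime 2) := ⟨Nat.prime_two⟩
  obtain ⟨M, hM⟩ := exists_isPModular 2
  have : M.IsMaximal := hM.2.1
  let _ : Field (Cfsg.AlgInt ⧸ M) := Ideal.Quotient.field M
  haveI : Fintype {C : ConjClasses G // ∃ g ∈ C.carrier, orderOf g = 3 ∧
        ∀ Q : Subgroup G, IsPGroup 2 ↥Q → g ∈ Subgroup.normalizer (Q : Set G) → Q = ⊥} :=
    Fintype.ofFinite _
  haveI : Fintype {χ : Cfsg.IrrCharacter G //
        (Cfsg.charDegree (χ : G → ℂ)).factorization 2 = (Nat.card G).factorization 2} :=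
    Fintype.ofFinite _
  obtain ⟨x, hxdef⟩ : ∃ x : {C : ConjClasses G // ∃ g ∈ C.carrier, orderOf g = 3 ∧
        ∀ Q : Subgroup G, IsPGroup 2 ↥Q → g ∈ Subgroup.normalizer (Q : Set G) → Q = ⊥} → G,
      ∀ C, x C ∈ C.1.carrier ∧ Special (x C) := by
    refine ⟨fun C => Classical.choose C.2, fun C => ?_⟩
    have := Classical.choose_spec C.2
    exact ⟨this.1, this.2.1, this.2.2⟩
  have hx : ∀ C, Special (x C) := fun C => (hxdef C).2
  have hnc : ∀ i j, IsConj (x i) (x j) → i = j := by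
    intro i j hij
    apply Subtype.ext
    rw [← ConjClasses.mem_carrier_iff_mk_eq.mp (hxdef i).1,
      ← ConjClasses.mem_carrier_iff_mk_eq.mp (hxdef j).1]
    exact ConjClasses.mk_eq_mk_iff_isConj.mpr hij
  obtain ⟨W, hW⟩ : ∃ W : Matrix {χ : Cfsg.IrrCharacter G //
        (Cfsg.charDegree (χ : G → ℂ)).factorization 2 = (Nat.card G).factorization 2}
      {C : ConjClasses G // ∃ g ∈ C.carrier, orderOf g = 3 ∧
        ∀ Q : Subgroup G, IsPGroup 2 ↥Q → g ∈ Subgroup.normalizer (Q : Set G) → Q = ⊥}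
      (Cfsg.AlgInt ⧸ M), ∀ χ i, W χ i = Ideal.Quotient.mk M
        ⟨Cfsg.centralChar (χ.1 : G → ℂ) (x i),
          IsIrrCharacter.isIntegral_centralChar' χ.1.2 (x i)⟩ := ⟨_, fun _ _ => rfl⟩
  have hinj : Function.Injective W.mulVecLin := by
    rw [injective_iff_map_eq_zero]
    intro v hv
    rw [Matrix.mulVecLin_apply] at hv
    obtain ⟨a, ha⟩ : ∃ a : {C : ConjClasses G // ∃ g ∈ C.carrier, orderOf g = 3 ∧
        ∀ Q : Subgroup G, IsPGroup 2 ↥Q → g ∈ Subgroup.normalizer (Q : Set G) → Q = ⊥}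
        → Cfsg.AlgInt, ∀ i, Ideal.Quotient.mk M (a i) = v i := by
      refine ⟨fun i => Classical.choose (Ideal.Quotient.mk_surjective (v i)), fun i => ?_⟩
      exact Classical.choose_spec (Ideal.Quotient.mk_surjective (v i))
    have hyp : ∀ χ : Cfsg.IrrCharacter G,
        (Cfsg.charDegree (χ : G → ℂ)).factorization 2 = (Nat.card G).factorization 2 →
        Cfsg.MemLocalIdeal M (∑ i, (a i : ℂ) * Cfsg.centralChar (χ : G → ℂ) (x i)) := by
      intro χ hdeg
      have h1 := congrFun hv ⟨χ, hdeg⟩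
      simp only [Matrix.mulVec, dotProduct, Pi.zero_apply] at h1
      have h2 : (∑ i, W ⟨χ, hdeg⟩ i * v i) = Ideal.Quotient.mk M (∑ i,
          (⟨Cfsg.centralChar (χ : G → ℂ) (x i),
            IsIrrCharacter.isIntegral_centralChar' χ.2 (x i)⟩ : Cfsg.AlgInt) * a i) := by
        rw [map_sum]
        refine Finset.sum_congr rfl (fun i _ => ?_)
        rw [map_mul, hW, ha]
      rw [h2, Ideal.Quotient.eq_zero_iff_mem] at h1
      have h3 := memLocalIdeal_coe hM h1
      have h4 : ((∑ i, (⟨Cfsg.centralChar (χ : G → ℂ) (x i),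
            IsIrrCharacter.isIntegral_centralChar' χ.2 (x i)⟩ : Cfsg.AlgInt) * a i
              : Cfsg.AlgInt) : ℂ)
          = ∑ i, (a i : ℂ) * Cfsg.centralChar (χ : G → ℂ) (x i) := by
        push_cast
        refine Finset.sum_congr rfl (fun i _ => ?_)
        rw [mul_comm]
      rw [h4] at h3
      exact h3
    funext j
    have := core hM x hx hnc a hyp j
    rw [← ha j, Pi.zero_apply, Ideal.Quotient.eq_zero_iff_mem]
    exact this
  have hfin := LinearMap.finrank_le_finrank_of_injective hinj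
  rw [Module.finrank_fintype_fun_eq_card, Module.finrank_fintype_fun_eq_card] at hfin
  rw [Nat.card_eq_fintype_card, Nat.card_eq_fintype_card]
  exact hfin

end Cfsg.Agent.Lib.Helper6.DZ3
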