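import Mathlib
import Cfsg.Agent.Lib.Helper6.Dade3

set_option autoImplicit false

/-!
The regular wreath product of a monomial group with a group of prime order is monomial.
-/

namespace Cfsg.Agent.Lib.Helper6.Dade

open scoped ComplexConjugate
open RegularWreathProduct

section wreath

variable {D : Type*} [Group D] {Q : Type*} [Group Q]

/-- the base group of the wreath product -/
def baseSub (D : Type*) [Group D] (Q : Type*) [Group Q] : Subgroup (D ≀ᵣ Q) :=
  (rightHom : D ≀ᵣ Q →* Q).ker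

instance baseSub_normal : (baseSub D Q).Normal := MonoidHom.normal_ker _

theorem mem_baseSub (w : D ≀ᵣ Q) : w ∈ baseSub D Q ↔ w.right = 1 := Iff.rfl

/-- the base group is the power of `D` -/
def baseEquiv (D : Type*) [Group D] (Q : Type*) [Group Q] : baseSub D Q ≃* (Q → D) where
  toFun b := b.1.left
  invFun f := ⟨⟨f, 1⟩, rfl⟩
  left_inv b := by
    apply Subtype.ext
    ext
    · rfl
    · exact ((mem_baseSub b.1).mp b.2).symm
  right_inv f := rfl
  map_mul' a b := by
    funext q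
    have ha : a.1.right = 1 := (mem_baseSub a.1).mp a.2
    simp [ha]

theorem index_baseSub [Finite Q] : (baseSub D Q).index = Nat.card Q := by
  unfold baseSub
  rw [Subgroup.index_ker]
  have : (rightHom : D ≀ᵣ Q →* Q).range = ⊤ := by
    rw [MonoidHom.range_eq_top]
    intro q
    exact ⟨inl q, rfl⟩
  rw [this]
  exact Nat.card_congr Subgroup.topEquiv.toEquiv

/-- the wreath product of a subgroup with `Q`, as a subgroup -/
def wrSub (H : Subgroup D) : Subgroup (D ≀ᵣ Q) where
  carrier := {w | ∀ q, w.left q ∈ H}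
  one_mem' := fun _ => H.one_mem
  mul_mem' := by
    intro a b ha hb q
    rw [mul_left]
    exact H.mul_mem (ha q) (hb _)
  inv_mem' := by
    intro a ha q
    rw [inv_left]
    exact H.inv_mem (ha _)

theorem mem_wrSub (H : Subgroup D) (w : D ≀ᵣ Q) : w ∈ wrSub (Q := Q) H ↔ ∀ q, w.left q ∈ H :=
  Iff.rfl

/-- the wreath subgroup as a product -/
def wrSubEquiv (H : Subgroup D) : wrSub (Q := Q) H ≃ (Q → H) × Q where
  toFun u := (fun q => ⟨u.1.left q, u.2 q⟩, u.1.right)
  invFun x := ⟨⟨fun q => x.1 q, x.2⟩, fun q => (x.1 q).2⟩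
  left_inv _ := rfl
  right_inv _ := rfl

theorem card_wrSub [Finite Q] (H : Subgroup D) :
    Nat.card (wrSub (Q := Q) H) = Nat.card H ^ Nat.card Q * Nat.card Q := by
  rw [Nat.card_congr (wrSubEquiv H), Nat.card_prod, Nat.card_fun]

variable [Fintype Q]

/-- the product linear character of the wreath subgroup -/
def wrLam (H : Subgroup D) (lam : H →* ℂˣ) : wrSub (Q := Q) H →* ℂˣ where
  toFun u := ∏ q, lam ⟨u.1.left q, u.2 q⟩
  map_one' := by
    apply Finset.prod_eq_one
    intro q _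
    exact map_one lam
  map_mul' a b := by
    have h1 : ∀ q, lam ⟨(a * b).1.left q, (a * b).2 q⟩
        = lam ⟨a.1.left q, a.2 q⟩ * lam ⟨b.1.left (a.1.right⁻¹ * q), b.2 _⟩ := by
      intro q
      rw [← map_mul]
      rfl
    rw [Finset.prod_congr rfl (fun q _ => h1 q), Finset.prod_mul_distrib]
    congr 1
    exact Equiv.prod_comp (Equiv.mulLeft a.1.right⁻¹) (fun q => lam ⟨b.1.left q, b.2 q⟩)

theorem wrLam_apply (H : Subgroup D) (lam : H →* ℂˣ) (u : wrSub (Q := Q) H) :
    ((wrLam H lam u : ℂˣ) : ℂ) = ∏ q, ((lam ⟨u.1.left q, u.2 q⟩ : ℂˣ) : ℂ) := by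
  unfold wrLam
  simp only [MonoidHom.coe_mk, OneHom.coe_mk]
  rw [Units.coe_prod]

theorem extendByZero_wrSub (H : Subgroup D) (lam : H →* ℂˣ) (w : D ≀ᵣ Q) :
    Cfsg.extendByZero (wrSub (Q := Q) H) (fun u => ((wrLam H lam u : ℂˣ) : ℂ)) w
      = ∏ q, Cfsg.extendByZero H (fun h => ((lam h : ℂˣ) : ℂ)) (w.left q) := by
  by_cases hw : w ∈ wrSub (Q := Q) H
  · rw [extendByZero_of_mem _ _ hw, wrLam_apply]
    apply Finset.prod_congr rfl
    intro q _
    rw [extendByZero_of_mem _ _ (hw q)]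
  · rw [extendByZero_of_not_mem _ _ hw]
    have hex : ∃ q, w.left q ∉ H := by
      by_contra hcon
      push Not at hcon
      exact hw hcon
    obtain ⟨q, hq⟩ := hex
    symm
    apply Finset.prod_eq_zero (Finset.mem_univ q)
    rw [extendByZero_of_not_mem _ _ hq]

theorem conj_left_of_mem_baseSub (x b : D ≀ᵣ Q) (hb : b.right = 1) (q : Q) :
    (x⁻¹ * b * x).left q
      = (x.left (x.right * q))⁻¹ * b.left (x.right * q) * x.left (x.right * q) := by
  simp [hb]

variable [Fintype D] [DecidableEq Q] [Fintype (D ≀ᵣ Q)]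

/-- the key computation: the induced character restricted to the base group -/
theorem indFun_wrLam_apply (H : Subgroup D) (lam : H →* ℂˣ) (b : D ≀ᵣ Q) (hb : b.right = 1) :
    Cfsg.indFun (wrSub (Q := Q) H) (fun u => ((wrLam H lam u : ℂˣ) : ℂ)) b
      = piFun (fun _ : Q => Cfsg.indFun H (fun h => ((lam h : ℂˣ) : ℂ))) b.left := by
  classical
  unfold Cfsg.indFun
  rw [piFun_apply]
  have h1 : ∀ x : D ≀ᵣ Q,
      Cfsg.extendByZero (wrSub (Q := Q) H) (fun u => ((wrLam H lam u : ℂˣ) : ℂ)) (x⁻¹ * b * x)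
        = ∏ q, Cfsg.extendByZero H (fun h => ((lam h : ℂˣ) : ℂ))
            ((x.left q)⁻¹ * b.left q * x.left q) := by
    intro x
    rw [extendByZero_wrSub]
    rw [← Equiv.prod_comp (Equiv.mulLeft x.right) (fun q =>
      Cfsg.extendByZero H (fun h => ((lam h : ℂˣ) : ℂ)) ((x.left q)⁻¹ * b.left q * x.left q))]
    apply Finset.prod_congr rfl
    intro q _
    rw [conj_left_of_mem_baseSub x b hb q]
    rfl
  rw [Finset.sum_congr rfl (fun x _ => h1 x)]
  have h2 : ∑ x : D ≀ᵣ Q, ∏ q, Cfsg.extendByZero H (fun h => ((lam h : ℂˣ) : ℂ))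
        ((x.left q)⁻¹ * b.left q * x.left q)
      = ∑ y : (Q → D) × Q, ∏ q, Cfsg.extendByZero H (fun h => ((lam h : ℂˣ) : ℂ))
        ((y.1 q)⁻¹ * b.left q * y.1 q) :=
    Fintype.sum_equiv (equivProd D Q) _ _ (fun x => rfl)
  rw [h2, Fintype.sum_prod_type]
  simp only [Finset.sum_const, Finset.card_univ, nsmul_eq_mul]
  rw [← Finset.mul_sum, sum_pi_prod (fun q d => Cfsg.extendByZero H
    (fun h => ((lam h : ℂˣ) : ℂ)) (d⁻¹ * b.left q * d))]
  rw [Finset.prod_mul_distrib, card_wrSub, Finset.prod_const, Finset.card_univ]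
  have hQ : (Fintype.card Q : ℂ) ≠ 0 := by
    exact_mod_cast Fintype.card_ne_zero
  have hH : (Nat.card H : ℂ) ≠ 0 := card_ne_zero_complex H
  rw [Nat.card_eq_fintype_card (α := Q)]
  push_cast
  field_simp
  have h3 : (Nat.card H : ℂ) ^ Fintype.card Q * (1 / (Nat.card H : ℂ)) ^ Fintype.card Q = 1 := by
    rw [← mul_pow, mul_one_div_cancel hH, one_pow]
  rw [mul_right_comm, h3, one_mul]

end wreath

end Cfsg.Agent.Lib.Helper6.Dade
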