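import Mathlib
import Cfsg.Agent.Lib.Helper6.Dade4

set_option autoImplicit false

/-!
The regular wreath product of a monomial group with a group of prime order is monomial
(conclusion).
-/

namespace Cfsg.Agent.Lib.Helper6.Dade

open scoped ComplexConjugate
open RegularWreathProduct

section closure

variable {D : Type*} [Group D] {Q : Type*} [Group Q]

theorem baseEquiv_symm_coe (f : Q → D) :
    (((baseEquiv D Q).symm f : baseSub D Q) : D ≀ᵣ Q) = ⟨f, 1⟩ := rfl

theorem conj_inl_baseEquiv_symm (c : Q) (f : Q → D) :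
    (inl c : D ≀ᵣ Q) * (((baseEquiv D Q).symm f : baseSub D Q) : D ≀ᵣ Q) * (inl c)⁻¹
      = (((baseEquiv D Q).symm (fun x => f (c⁻¹ * x)) : baseSub D Q) : D ≀ᵣ Q) := by
  rw [baseEquiv_symm_coe, baseEquiv_symm_coe]
  ext q
  · simp
  · simp

variable [Fintype D] [Fintype Q] [DecidableEq Q] [Fintype (D ≀ᵣ Q)]

theorem wreath_hext (hD : IsMGroup D) (θ : baseSub D Q → ℂ)
    (hθ : Cfsg.IsIrrCharacter (baseSub D Q) θ)
    (hinv : ∀ g : D ≀ᵣ Q, conjFun (baseSub D Q) baseSub_normal θ g = θ) :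
    ∃ (U : Subgroup (D ≀ᵣ Q)) (μ : ↥U →* ℂˣ),
      ∀ b : baseSub D Q, Cfsg.indFun U (fun u => ((μ u : ℂˣ) : ℂ)) (b : D ≀ᵣ Q) = θ b := by
  classical
  obtain ⟨θ', hθ'def⟩ : ∃ θ' : (Q → D) → ℂ, θ' = fun f => θ ((baseEquiv D Q).symm f) :=
    ⟨_, rfl⟩
  have hθ' : Cfsg.IsIrrCharacter (Q → D) θ' := by
    rw [hθ'def]
    exact IsIrrCharacter.comp_mulEquiv (baseEquiv D Q).symm hθ
  obtain ⟨ϑ, hϑ, hθ'eq⟩ := exists_piFun_of_isIrrCharacter hθ'
  have hshift : ∀ (c : Q) (f : Q → D), θ' (fun x => f (c⁻¹ * x)) = θ' f := by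
    intro c f
    have h1 := congrFun (hinv (inl c)) ((baseEquiv D Q).symm f)
    rw [conjFun_apply] at h1
    rw [hθ'def]
    simp only
    rw [← h1]
    congr 1
    apply Subtype.ext
    exact (conj_inl_baseEquiv_symm c f).symm
  have hconst : ∀ c : Q, ϑ c = ϑ 1 := by
    intro c
    have hp : piFun ϑ = piFun (fun q => ϑ (c * q)) := by
      funext f
      have h1 := hshift c f
      rw [hθ'eq] at h1
      rw [← h1, piFun_apply, piFun_apply]
      rw [← Equiv.prod_comp (Equiv.mulLeft c) (fun q => ϑ q (f (c⁻¹ * q)))]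
      apply Finset.prod_congr rfl
      intro q _
      simp
    have h2 := piFun_injective_irr hϑ (fun q => hϑ (c * q)) hp
    have h3 := congrFun h2 1
    simp only [mul_one] at h3
    exact h3.symm
  obtain ⟨H, lam, hH⟩ := hD (ϑ 1) (hϑ 1)
  refine ⟨wrSub H, wrLam H lam, ?_⟩
  intro b
  rw [indFun_wrLam_apply H lam b.1 ((mem_baseSub b.1).mp b.2), ← hH]
  have h4 : (fun _ : Q => ϑ 1) = ϑ := funext (fun q => (hconst q).symm)
  rw [h4, ← hθ'eq, hθ'def]
  simp only
  congr 1
  exact (baseEquiv D Q).symm_apply_apply b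

/-- the regular wreath product of an M-group with a group of prime order is an M-group -/
theorem isMGroup_wreath (hD : IsMGroup D) (p : ℕ) (hp : p.Prime) (hQ : Nat.card Q = p) :
    IsMGroup (D ≀ᵣ Q) := by
  classical
  haveI : Fintype (baseSub D Q) := Fintype.ofFinite _
  apply isMGroup_of_prime_index (baseSub D Q) p hp (by rw [index_baseSub, hQ])
  · exact IsMGroup.of_mulEquiv (baseEquiv D Q) (isMGroup_pi hD)
  · exact wreath_hext hD

end closure

end Cfsg.Agent.Lib.Helper6.Dade
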