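import Mathlib
import Cfsg.Agent.Lib.Helper6.Dade5
import Cfsg.Agent.Lib.Helper6.MGroup
import Cfsg.Agent.Lib.Helper3.SolvIndex

set_option autoImplicit false

/-!
Dade's theorem: every finite solvable group embeds in an M-group.
-/

namespace Cfsg.Agent.Lib.Helper6.Dade

open scoped ComplexConjugate
open RegularWreathProduct

section kk

variable {G : Type*} [Group G] (N : Subgroup G) [hN : N.Normal] {M₀ : Type*} [Group M₀]

theorem kk_mem (g : G) (q : G ⧸ N) :
    (q.out)⁻¹ * g * (((g : G ⧸ N))⁻¹ * q).out ∈ N := by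
  rw [← QuotientGroup.eq_one_iff]
  rw [QuotientGroup.mk_mul, QuotientGroup.mk_mul, QuotientGroup.mk_inv, QuotientGroup.out_eq',
    QuotientGroup.out_eq']
  group

/-- the Kaloujnine–Krasner cocycle -/
noncomputable def kkElt (g : G) (q : G ⧸ N) : N :=
  ⟨(q.out)⁻¹ * g * (((g : G ⧸ N))⁻¹ * q).out, kk_mem N g q⟩

theorem kkElt_mul (g h : G) (q : G ⧸ N) :
    kkElt N (g * h) q = kkElt N g q * kkElt N h (((g : G ⧸ N))⁻¹ * q) := by
  apply Subtype.ext
  unfold kkElt
  simp only [Subgroup.coe_mul]
  have e1 : (((g * h : G) : G ⧸ N))⁻¹ * q = ((h : G ⧸ N))⁻¹ * (((g : G ⧸ N))⁻¹ * q) := by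
    rw [QuotientGroup.mk_mul, mul_inv_rev, mul_assoc]
  rw [e1]
  group

theorem kkElt_one (q : G ⧸ N) : kkElt N (1 : G) q = 1 := by
  apply Subtype.ext
  unfold kkElt
  simp

/-- the Kaloujnine–Krasner embedding, composed with a homomorphism on the normal subgroup -/
noncomputable def kkHom (j : N →* M₀) : G →* M₀ ≀ᵣ (G ⧸ N) where
  toFun g := ⟨fun q => j (kkElt N g q), (g : G ⧸ N)⟩
  map_one' := by
    ext q
    · simp [kkElt_one]
    · rfl
  map_mul' g h := by
    ext q
    · simp only [mul_left, Pi.mul_apply]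
      rw [kkElt_mul, map_mul]
    · rfl

theorem kkHom_injective (j : N →* M₀) (hj : Function.Injective j) :
    Function.Injective (kkHom N j) := by
  rw [injective_iff_map_eq_one]
  intro g hg
  have h1 : ((g : G ⧸ N)) = 1 := congrArg RegularWreathProduct.right hg
  have h2 : j (kkElt N g 1) = 1 := congrFun (congrArg RegularWreathProduct.left hg) 1
  have h3 : kkElt N g 1 = 1 := by
    apply hj
    rw [h2, map_one]
  have h4 := congrArg Subtype.val h3
  unfold kkElt at h4
  simp only [h1, inv_one, one_mul, Subgroup.coe_one] at h4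
  have h5 : g = (1 : G ⧸ N).out * (1 : G ⧸ N).out⁻¹ := by
    have : g = (1 : G ⧸ N).out * ((1 : G ⧸ N).out⁻¹ * g * (1 : G ⧸ N).out)
        * (1 : G ⧸ N).out⁻¹ := by group
    rw [this, h4, mul_one]
  rw [h5, mul_inv_cancel]

end kk

section comm

variable {M : Type*} [Group M] [Fintype M]

theorem isMGroup_of_comm (h : ∀ a b : M, a * b = b * a) : IsMGroup M := by
  intro χ hχ
  have hχc := IsIrrCharacter.isCharacter hχ
  have h1 : χ 1 = 1 := by
    obtain ⟨n, ρ, hirr, hρ⟩ := hχ
    haveI := hirr
    have hfr := finrank_eq_one_of_comm h ρ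
    rw [← hρ, Representation.char_one, hfr, Nat.cast_one]
  refine ⟨⊤, (linearCharHom hχc h1).comp (⊤ : Subgroup M).subtype, ?_⟩
  have h2 := indFun_top (IsCharacter.isClassFunction hχc)
  exact h2.symm.trans rfl

end comm

universe u

theorem dade_aux : ∀ (n : ℕ) (G : Type u) [Group G] [Finite G], Group.IsSolvable G →
    Nat.card G = n →
    ∃ (M : Type u) (_ : Group M) (_ : Fintype M), IsMGroup M ∧
      ∃ f : G →* M, Function.Injective f := by
  intro n
  induction n using Nat.strong_induction_on with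
  | _ n ih =>
    intro G _ _ hsolv hcard
    classical
    by_cases htriv : Subsingleton G
    · haveI : Fintype G := Fintype.ofFinite G
      refine ⟨G, inferInstance, inferInstance, ?_, MonoidHom.id G, fun _ _ h => h⟩
      exact isMGroup_of_comm (fun a b => Subsingleton.elim _ _)
    · haveI : Nontrivial G := not_subsingleton_iff_nontrivial.mp htriv
      obtain ⟨p, N, hp, hN, hidx⟩ :=
        Cfsg.Agent.Lib.Helper3.SolvIndex.exists_normal_index_prime_of_solvable (Q := G)
      haveI := hN
      have hlt : Nat.card N < n := by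
        have h1 := N.card_mul_index
        rw [hidx, hcard] at h1
        have h2 := hp.two_le
        have h3 : 0 < Nat.card N := Nat.card_pos
        nlinarith
      obtain ⟨M₀, hM₀g, hM₀f, hM₀, j, hj⟩ := ih (Nat.card N) hlt N inferInstance rfl
      haveI : Fintype (G ⧸ N) := Fintype.ofFinite _
      have hQ : Nat.card (G ⧸ N) = p := by rw [← Subgroup.index_eq_card, hidx]
      haveI : Fintype (M₀ ≀ᵣ (G ⧸ N)) := Fintype.ofFinite _
      refine ⟨M₀ ≀ᵣ (G ⧸ N), inferInstance, inferInstance, ?_, kkHom N j,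
        kkHom_injective N j hj⟩
      exact isMGroup_wreath hM₀ p hp hQ

end Cfsg.Agent.Lib.Helper6.Dade
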