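import Mathlib
import Cfsg.Agent.Lib.Lead.Dade2
import Cfsg.Agent.Lib.Helper6.AlgIntComb
import Cfsg.Agent.Lib.Helper6.PermChar
import Cfsg.Agent.Lib.Helper6.GenCharOps
import Cfsg.Agent.Lib.Helper6.ClassFun
import Cfsg.Agent.Lib.Helper6.DegreeDvd

set_option autoImplicit false
set_option linter.unusedSectionVars false
open Cfsg

/-! The Dade map sends generalized characters to generalized characters: arithmetic set-up,
support lemmas, induced values, the torsion permutation character, the polynomial trick. -/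

namespace Cfsg.Agent.Lib.Helper6

open scoped ComplexConjugate
open Cfsg.Agent.Lib.Lead.Dade

section arith

theorem coprime_gcd_pow_div (N b : ℕ) (hN : N ≠ 0) (hb : b ≠ 0) :
    Nat.Coprime (Nat.gcd N (b ^ N)) (N / Nat.gcd N (b ^ N)) := by
  obtain ⟨m, hm⟩ : ∃ m, m = Nat.gcd N (b ^ N) := ⟨_, rfl⟩
  rw [← hm]
  have hmN : m ∣ N := hm ▸ Nat.gcd_dvd_left _ _
  have hm0 : m ≠ 0 := by
    intro h
    rw [h] at hmN
    exact hN (Nat.eq_zero_of_zero_dvd hmN)
  have hq0 : N / m ≠ 0 := by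
    have := Nat.div_pos (Nat.le_of_dvd (Nat.pos_of_ne_zero hN) hmN) (Nat.pos_of_ne_zero hm0)
    exact this.ne'
  by_contra hnc
  obtain ⟨r, hr, hrm, hrq⟩ := Nat.Prime.not_coprime_iff_dvd.mp hnc
  have hrb : r ∣ b := hr.dvd_of_dvd_pow (hrm.trans (hm ▸ Nat.gcd_dvd_right _ _))
  have h1 : 1 ≤ (N / m).factorization r := hr.factorization_pos_of_dvd hq0 hrq
  have h2 : (N / m).factorization r = N.factorization r - m.factorization r := by
    rw [Nat.factorization_div hmN, Finsupp.tsub_apply]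
  have h3 : m.factorization r = min (N.factorization r) ((b ^ N).factorization r) := by
    rw [hm, Nat.factorization_gcd hN (pow_ne_zero _ hb), Finsupp.inf_apply]
  have h4 : (b ^ N).factorization r = N * b.factorization r := by
    rw [Nat.factorization_pow, Finsupp.smul_apply, smul_eq_mul]
  have h5 : 1 ≤ b.factorization r := hr.factorization_pos_of_dvd hb hrb
  have h6 : N.factorization r < N := Nat.factorization_lt r hN
  have h7 : N ≤ N * b.factorization r := Nat.le_mul_of_pos_right _ h5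
  rw [h4] at h3
  rw [h3, min_eq_left (by omega)] at h2
  omega

end arith

section dade

variable {G : Type*} [Group G] [Fintype G]
variable {A : Set G} {L : Subgroup G} {H : G → Subgroup G}

open Classical in
/-- the product of the orders of the attached subgroups -/
noncomputable def dadeBad (A : Set G) (H : G → Subgroup G) : ℕ :=
  ∏ a : G, if a ∈ A then Nat.card (H a) else 1

open Classical in
/-- the product of the orders of the centralisers in `L` -/
noncomputable def dadeGood (A : Set G) (L : Subgroup G) : ℕ :=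
  ∏ b : G, if b ∈ A then Nat.card ↥(L ⊓ Subgroup.centralizer ({b} : Set G)) else 1

/-- the part of the group order made of primes dividing an attached subgroup -/
noncomputable def dadeM (A : Set G) (H : G → Subgroup G) : ℕ :=
  Nat.gcd (Nat.card G) (dadeBad A H ^ Nat.card G)

/-- the complementary part of the group order -/
noncomputable def dadeN (A : Set G) (H : G → Subgroup G) : ℕ :=
  Nat.card G / dadeM A H

theorem card_H_dvd_dadeBad {a : G} (ha : a ∈ A) : Nat.card (H a) ∣ dadeBad A H := by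
  classical
  unfold dadeBad
  have := Finset.dvd_prod_of_mem (fun a : G => if a ∈ A then Nat.card (H a) else 1)
    (Finset.mem_univ a)
  simpa [if_pos ha] using this

theorem card_CL_dvd_dadeGood {a : G} (ha : a ∈ A) :
    Nat.card ↥(L ⊓ Subgroup.centralizer ({a} : Set G)) ∣ dadeGood A L := by
  classical
  unfold dadeGood
  have := Finset.dvd_prod_of_mem
    (fun b : G => if b ∈ A then Nat.card ↥(L ⊓ Subgroup.centralizer ({b} : Set G)) else 1)
    (Finset.mem_univ a)
  simpa [if_pos ha] using this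

theorem dadeBad_ne_zero : dadeBad A H ≠ 0 := by
  classical
  unfold dadeBad
  apply Finset.prod_ne_zero_iff.mpr
  intro a _
  split_ifs
  · exact Nat.card_pos.ne'
  · exact one_ne_zero

theorem coprime_dadeBad_dadeGood (hD : Cfsg.DadeHypothesis A L H) :
    Nat.Coprime (dadeBad A H) (dadeGood A L) := by
  classical
  unfold dadeBad dadeGood
  apply Nat.Coprime.prod_left
  intro a _
  apply Nat.Coprime.prod_right
  intro b _
  by_cases ha : a ∈ A
  · by_cases hb : b ∈ A
    · rw [if_pos ha, if_pos hb]; exact hD.coprime a ha b hb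
    · rw [if_neg hb]; exact Nat.coprime_one_right _
  · rw [if_neg ha]; exact Nat.coprime_one_left _

theorem dadeM_dvd_card : dadeM A H ∣ Nat.card G := by
  unfold dadeM; exact Nat.gcd_dvd_left _ _

theorem dadeM_dvd_pow : dadeM A H ∣ dadeBad A H ^ Nat.card G := by
  unfold dadeM; exact Nat.gcd_dvd_right _ _

theorem card_eq_dadeM_mul_dadeN : Nat.card G = dadeM A H * dadeN A H := by
  unfold dadeN
  rw [Nat.mul_div_cancel' dadeM_dvd_card]

theorem coprime_dadeM_dadeN : Nat.Coprime (dadeM A H) (dadeN A H) := by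
  unfold dadeN dadeM
  exact coprime_gcd_pow_div _ _ Nat.card_pos.ne' dadeBad_ne_zero

theorem coprime_dadeBad_dadeN : Nat.Coprime (dadeBad A H) (dadeN A H) := by
  by_contra hnc
  obtain ⟨r, hr, hrb, hrn⟩ := Nat.Prime.not_coprime_iff_dvd.mp hnc
  have h1 : r ∣ Nat.card G := by
    rw [card_eq_dadeM_mul_dadeN (A := A) (H := H)]; exact hrn.mul_left _
  have h2 : r ∣ dadeBad A H ^ Nat.card G := hrb.trans (dvd_pow_self _ Nat.card_pos.ne')
  have h3 : r ∣ dadeM A H := by
    unfold dadeM; exact Nat.dvd_gcd h1 h2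
  exact hr.one_lt.ne' (Nat.eq_one_of_dvd_coprimes coprime_dadeM_dadeN h3 hrn)

theorem orderOf_dvd_dadeM {a u : G} (ha : a ∈ A) (hu : u ∈ H a) : orderOf u ∣ dadeM A H := by
  unfold dadeM
  apply Nat.dvd_gcd (orderOf_dvd_natCard u)
  exact ((orderOf_dvd_H hu).trans (card_H_dvd_dadeBad ha)).trans
    (dvd_pow_self _ Nat.card_pos.ne')

theorem coprime_card_CL_dadeM (hD : Cfsg.DadeHypothesis A L H) {a : G} (ha : a ∈ A) :
    Nat.Coprime (Nat.card ↥(L ⊓ Subgroup.centralizer ({a} : Set G))) (dadeM A H) := by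
  have h1 := card_CL_dvd_dadeGood (L := L) ha
  have h2 : Nat.Coprime (dadeGood A L) (dadeBad A H ^ Nat.card G) :=
    Nat.Coprime.pow_right _ (coprime_dadeBad_dadeGood hD).symm
  exact Nat.Coprime.coprime_dvd_left h1 (Nat.Coprime.coprime_dvd_right dadeM_dvd_pow h2)

theorem orderOf_dvd_dadeN (hD : Cfsg.DadeHypothesis A L H) {a : G} (ha : a ∈ A) :
    orderOf a ∣ dadeN A H := by
  have h1 : orderOf a ∣ dadeM A H * dadeN A H := by
    rw [← card_eq_dadeM_mul_dadeN]; exact orderOf_dvd_natCard a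
  have h2 : Nat.Coprime (orderOf a) (dadeM A H) :=
    Nat.Coprime.coprime_dvd_left (orderOf_dvd_CL hD ha) (coprime_card_CL_dadeM hD ha)
  exact h2.dvd_of_dvd_mul_left h1

theorem coprime_card_H_dadeN {a : G} (ha : a ∈ A) :
    Nat.Coprime (Nat.card (H a)) (dadeN A H) :=
  Nat.Coprime.coprime_dvd_left (card_H_dvd_dadeBad ha) coprime_dadeBad_dadeN

/-- an element of the centraliser of `a` killed by `dadeM` lies in `H a` -/
theorem mem_H_of_pow_dadeM_eq_one (hD : Cfsg.DadeHypothesis A L H) {a : G} (ha : a ∈ A) {w : G}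
    (hwc : w ∈ Subgroup.centralizer ({a} : Set G)) (hw : w ^ dadeM A H = 1) : w ∈ H a := by
  rw [← hD.sup_eq a ha] at hwc
  obtain ⟨h, hh, c, hc, rfl⟩ := Cfsg.Agent.S1498.mem_sup_of_conj (H a)
    (L ⊓ Subgroup.centralizer ({a} : Set G))
    (fun c hc u hu => hD.conj_mem_H a ha c hc.2 u hu) w hwc
  have hpow : ∀ j : ℕ, ∃ hj ∈ H a, (h * c) ^ j = hj * c ^ j := by
    intro j
    induction j with
    | zero => exact ⟨1, one_mem _, by simp⟩
    | succ j ih =>
      obtain ⟨hj, hhj, e⟩ := ih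
      refine ⟨hj * (c ^ j * h * (c ^ j)⁻¹),
        mul_mem hhj (hD.conj_mem_H a ha _ (pow_mem hc.2 j) h hh), ?_⟩
      rw [pow_succ, e, pow_succ]
      group
  obtain ⟨hm, hhm, e⟩ := hpow (dadeM A H)
  rw [hw] at e
  have hcm : c ^ dadeM A H ∈ H a ⊓ (L ⊓ Subgroup.centralizer ({a} : Set G)) := by
    refine ⟨?_, pow_mem hc _⟩
    have : c ^ dadeM A H = hm⁻¹ := eq_inv_of_mul_eq_one_right e.symm
    rw [this]; exact (H a).inv_mem hhm
  rw [hD.inf_eq_bot a ha, Subgroup.mem_bot] at hcm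
  have h1 : orderOf c ∣ dadeM A H := orderOf_dvd_of_pow_eq_one hcm
  have h2 : orderOf c ∣ Nat.card ↥(L ⊓ Subgroup.centralizer ({a} : Set G)) :=
    Subgroup.orderOf_dvd_natCard _ hc
  have h3 : orderOf c = 1 :=
    Nat.Coprime.eq_one_of_dvd
      (Nat.Coprime.coprime_dvd_left h2 (coprime_card_CL_dadeM hD ha)) h1
  rw [orderOf_eq_one_iff] at h3
  rw [h3, mul_one]; exact hh

theorem pow_eq_of_mem_A (hD : Cfsg.DadeHypothesis A L H) {k : ℕ}
    (hkn : k ≡ 1 [MOD dadeN A H]) {a : G} (ha : a ∈ A) : a ^ k = a := by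
  have h2 : k ≡ 1 [MOD orderOf a] := hkn.of_dvd (orderOf_dvd_dadeN hD ha)
  have := (pow_eq_pow_iff_modEq (x := a)).mpr h2
  rwa [pow_one] at this

theorem pow_eq_one_of_mem_H {k : ℕ} (hkm : k ≡ 0 [MOD dadeM A H]) {a u : G} (ha : a ∈ A)
    (hu : u ∈ H a) : u ^ k = 1 := by
  have h2 : orderOf u ∣ k :=
    (orderOf_dvd_dadeM ha hu).trans ((Nat.modEq_zero_iff_dvd).mp hkm)
  exact orderOf_dvd_iff_pow_eq_one.mp h2

theorem eq_one_of_mul_pow_dadeN (hD : Cfsg.DadeHypothesis A L H) {a u : G} (ha : a ∈ A)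
    (hu : u ∈ H a) (h : (a * u) ^ dadeN A H = 1) : u = 1 := by
  rw [(commute_of_mem hD ha hu).mul_pow] at h
  have ha' : a ^ dadeN A H = 1 := orderOf_dvd_iff_pow_eq_one.mp (orderOf_dvd_dadeN hD ha)
  rw [ha', one_mul] at h
  have h1 : orderOf u ∣ dadeN A H := orderOf_dvd_of_pow_eq_one h
  have h2 : orderOf u ∣ dadeM A H := orderOf_dvd_dadeM ha hu
  have h3 : orderOf u = 1 := Nat.eq_one_of_dvd_coprimes coprime_dadeM_dadeN h2 h1
  exact orderOf_eq_one_iff.mp h3

theorem conj_pow_eq_of_supp (hD : Cfsg.DadeHypothesis A L H) {k : ℕ}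
    (hkm : k ≡ 0 [MOD dadeM A H]) (hkn : k ≡ 1 [MOD dadeN A H]) {a : G} (ha : a ∈ A)
    {u x g : G} (hu : u ∈ H a) (hx : x * g * x⁻¹ = a * u) : x * g ^ k * x⁻¹ = a := by
  rw [← conj_pow, hx, (commute_of_mem hD ha hu).mul_pow, pow_eq_of_mem_A hD hkn ha,
    pow_eq_one_of_mem_H hkm ha hu, mul_one]

theorem supp_of_supp_pow (hD : Cfsg.DadeHypothesis A L H) {k : ℕ}
    (hkm : k ≡ 0 [MOD dadeM A H]) (hkn : k ≡ 1 [MOD dadeN A H]) {a : G} (ha : a ∈ A)
    {u x g : G} (hu : u ∈ H a) (hx : x * g ^ k * x⁻¹ = a * u) :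
    ∃ u' ∈ H a, x * g * x⁻¹ = a * u' := by
  obtain ⟨g', hg'⟩ : ∃ g', g' = x * g * x⁻¹ := ⟨_, rfl⟩
  rw [← hg']
  have hg'k : g' ^ k = a * u := by rw [hg', conj_pow, hx]
  have hcard := card_eq_dadeM_mul_dadeN (A := A) (H := H) (G := G)
  have hu1 : u = 1 := by
    apply eq_one_of_mul_pow_dadeN hD ha hu
    rw [← hg'k, ← pow_mul]
    apply orderOf_dvd_iff_pow_eq_one.mp
    apply (orderOf_dvd_natCard g').trans
    rw [hcard]
    exact Nat.mul_dvd_mul_right ((Nat.modEq_zero_iff_dvd).mp hkm) _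
  rw [hu1, mul_one] at hg'k
  obtain ⟨k', hk'm, hk'n⟩ := Nat.chineseRemainder (coprime_dadeM_dadeN (A := A) (H := H)) 1 0
  have hsum : k + k' ≡ 1 [MOD Nat.card G] := by
    rw [hcard]
    apply (Nat.modEq_and_modEq_iff_modEq_mul coprime_dadeM_dadeN).mp
    constructor
    · have := hkm.add hk'm; simpa using this
    · have := hkn.add hk'n; simpa using this
  have hg'sum : g' ^ k * g' ^ k' = g' := by
    rw [← pow_add]
    have := (pow_eq_pow_iff_modEq (x := g')).mpr (hsum.of_dvd (orderOf_dvd_natCard g'))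
    rwa [pow_one] at this
  refine ⟨g' ^ k', ?_, ?_⟩
  · apply mem_H_of_pow_dadeM_eq_one hD ha
    · rw [Subgroup.mem_centralizer_singleton_iff, ← hg'k]
      exact ((Commute.refl g').pow_pow k' k).eq
    · rw [← pow_mul]
      apply orderOf_dvd_iff_pow_eq_one.mp
      apply (orderOf_dvd_natCard g').trans
      rw [hcard, mul_comm (dadeM A H)]
      exact Nat.mul_dvd_mul_right ((Nat.modEq_zero_iff_dvd).mp hk'n) _
  · rw [← hg'k]; exact hg'sum.symm

/-- the Dade map is invariant under the `π`-part power map -/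
theorem dade_pow_eq (hD : Cfsg.DadeHypothesis A L H) {α : L → ℂ}
    (hα : Cfsg.IsClassFunction L α) {k : ℕ}
    (hkm : k ≡ 0 [MOD dadeM A H]) (hkn : k ≡ 1 [MOD dadeN A H]) (g : G) :
    Cfsg.dadeIsometry A L H α (g ^ k) = Cfsg.dadeIsometry A L H α g := by
  by_cases hs : ∃ a : ↥L, (a : G) ∈ A ∧ ∃ x : G, ∃ u ∈ H (a : G), x * g * x⁻¹ = (a : G) * u
  · obtain ⟨a, ha, x, u, hu, hx⟩ := hs
    rw [dade_apply hD hα a ha hu hx]
    apply dade_apply hD hα a ha (one_mem (H (a : G))) (x := x)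
    rw [mul_one]; exact conj_pow_eq_of_supp hD hkm hkn ha hu hx
  · rw [dade_apply_of_not hs]
    apply dade_apply_of_not
    rintro ⟨a, ha, x, u, hu, hx⟩
    obtain ⟨u', hu', hx'⟩ := supp_of_supp_pow hD hkm hkn ha hu hx
    exact hs ⟨a, ha, x, u', hu', hx'⟩

/-- the induced function at an element of `A` -/
theorem dade_indFun_apply (hD : Cfsg.DadeHypothesis A L H) {α : L → ℂ}
    (hα : Cfsg.IsClassFunction L α) (hαA : ∀ x : L, (x : G) ∉ A → α x = 0) (a : L)
    (ha : (a : G) ∈ A) :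
    Cfsg.indFun L α (a : G) = (Nat.card (H (a : G)) : ℂ) * α a := by
  classical
  unfold Cfsg.indFun
  have h1 : ∀ x : G, Cfsg.extendByZero L α (x⁻¹ * (a : G) * x)
      = if x⁻¹ * (a : G) * x ∈ A then α a else 0 := by
    intro x
    by_cases hx : x⁻¹ * (a : G) * x ∈ A
    · rw [if_pos hx, extendByZero_of_mem L α (hD.subset hx)]
      exact alpha_conj hD hα a ⟨_, hD.subset hx⟩ ha x⁻¹ (by simp) hx
    · rw [if_neg hx]
      by_cases hxL : x⁻¹ * (a : G) * x ∈ L
      · rw [extendByZero_of_mem L α hxL]; exact hαA _ hx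
      · exact extendByZero_of_not_mem L α hxL
  rw [Finset.sum_congr rfl (fun x _ => h1 x),
    ← Equiv.sum_comp (Equiv.inv G) (fun x : G => if x⁻¹ * (a : G) * x ∈ A then α a else 0)]
  simp only [Equiv.inv_apply, inv_inv]
  rw [Finset.sum_ite, Finset.sum_const, Finset.sum_const_zero, add_zero, nsmul_eq_mul]
  have hc : (Finset.univ.filter fun y : G => y * (a : G) * y⁻¹ ∈ A).card
      = Nat.card L * Nat.card (H (a : G)) := by
    rw [← card_conj_mem hD ha, Nat.card_eq_fintype_card, Fintype.card_subtype]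
  rw [hc]
  push_cast
  have hL0 := card_ne_zero_complex L
  field_simp

theorem dade_indFun_apply_of_not {α : L → ℂ} (hαA : ∀ x : L, (x : G) ∉ A → α x = 0) {x : G}
    (hs : ¬ ∃ a : ↥L, (a : G) ∈ A ∧ ∃ y : G, ∃ u ∈ H (a : G), y * x * y⁻¹ = (a : G) * u) :
    Cfsg.indFun L α x = 0 := by
  unfold Cfsg.indFun
  rw [Finset.sum_eq_zero, mul_zero]
  intro z _
  by_cases hzL : z⁻¹ * x * z ∈ L
  · rw [extendByZero_of_mem L α hzL]
    apply hαA
    intro hzA
    exact hs ⟨⟨_, hzL⟩, hzA, z⁻¹, 1, one_mem _, by simp⟩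
  · exact extendByZero_of_not_mem L α hzL

end dade

section torsion

/-- the elements killed by `m`, with the conjugation action -/
def PowTorsion (G : Type*) [Group G] (m : ℕ) : Type _ := {h : G // h ^ m = 1}

instance powTorsionMulAction (G : Type*) [Group G] (m : ℕ) : MulAction G (PowTorsion G m) where
  smul g h := ⟨g * h.1 * g⁻¹, by rw [conj_pow, h.2, mul_one, mul_inv_cancel]⟩
  one_smul h := Subtype.ext (show 1 * h.1 * (1 : G)⁻¹ = h.1 by simp)
  mul_smul g g' h := Subtype.ext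
    (show g * g' * h.1 * (g * g')⁻¹ = g * (g' * h.1 * g'⁻¹) * g⁻¹ by group)

instance powTorsionFinite (G : Type*) [Group G] [Finite G] (m : ℕ) : Finite (PowTorsion G m) :=
  inferInstanceAs (Finite {h : G // h ^ m = 1})

/-- constructor keeping the type -/
def PowTorsion.mk' {G : Type*} [Group G] {m : ℕ} (h : G) (hh : h ^ m = 1) : PowTorsion G m :=
  ⟨h, hh⟩

theorem powTorsion_smul_val {G : Type*} [Group G] {m : ℕ} (g : G) (h : PowTorsion G m) :
    (g • h).1 = g * h.1 * g⁻¹ := rfl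

variable {G : Type*} [Group G] [Fintype G]
variable {A : Set G} {L : Subgroup G} {H : G → Subgroup G}

theorem permChar_powTorsion_apply (hD : Cfsg.DadeHypothesis A L H) {a : G} (ha : a ∈ A) :
    permChar G (PowTorsion G (dadeM A H)) a = (Nat.card (H a) : ℂ) := by
  unfold permChar
  congr 1
  apply Nat.card_congr
  refine ⟨fun h => ⟨h.1.1, ?_⟩, fun u => ⟨PowTorsion.mk' u.1 ?_, ?_⟩, ?_, ?_⟩
  · have h2 : a • h.1 = h.1 := h.2
    have h3 : a * h.1.1 * a⁻¹ = h.1.1 := by
      have := congrArg Subtype.val h2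
      rwa [powTorsion_smul_val] at this
    apply mem_H_of_pow_dadeM_eq_one hD ha _ h.1.2
    rw [Subgroup.mem_centralizer_singleton_iff]
    have h4 : a * h.1.1 = h.1.1 * a := mul_inv_eq_iff_eq_mul.mp h3
    exact h4.symm
  · exact orderOf_dvd_iff_pow_eq_one.mp (orderOf_dvd_dadeM ha u.2)
  · rw [MulAction.mem_fixedBy]
    apply Subtype.ext
    rw [powTorsion_smul_val]
    exact (commute_of_mem hD ha u.2).mul_inv_cancel
  · intro h; rfl
  · intro u; rfl

end torsion

section poly

variable {G : Type*} [Group G]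

theorem IsGeneralizedCharacter.isIntegral_apply' [Finite G] {θ : G → ℂ}
    (hθ : Cfsg.IsGeneralizedCharacter G θ) (g : G) : IsIntegral ℤ (θ g) := by
  obtain ⟨a, b, ha, hb, rfl⟩ := hθ
  exact IsIntegral.sub (IsCharacter.isIntegral_apply ha g) (IsCharacter.isIntegral_apply hb g)

/-- a generalized character inverting a character on finitely many prescribed values, up to
the product of these values -/
theorem exists_inverse_genChar {P : G → ℂ} (hP : Cfsg.IsCharacter G P) (V : Finset ℕ) :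
    ∃ Q : G → ℂ, Cfsg.IsGeneralizedCharacter G Q ∧
      ∀ g : G, (∃ v ∈ V, P g = (v : ℂ)) → P g * Q g = ((∏ v ∈ V, v : ℕ) : ℂ) := by
  classical
  induction V using Finset.induction_on with
  | empty =>
    refine ⟨0, IsGeneralizedCharacter.zero, ?_⟩
    rintro g ⟨v, hv, _⟩
    simp at hv
  | insert w V hw ih =>
    obtain ⟨Q, hQ, hQv⟩ := ih
    have hone : Cfsg.IsGeneralizedCharacter G (fun _ : G => (1 : ℂ)) :=
      IsCharacter.isGeneralizedCharacter (IsIrrCharacter.isCharacter isIrrCharacter_one)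
    refine ⟨(w : ℂ) • Q + ((∏ v ∈ V, v : ℕ) : ℂ) • (fun _ : G => (1 : ℂ)) - P * Q, ?_, ?_⟩
    · apply IsGeneralizedCharacter.sub
      · apply IsGeneralizedCharacter.add
        · exact IsGeneralizedCharacter.natCast_smul hQ w
        · exact IsGeneralizedCharacter.natCast_smul hone _
      · exact IsGeneralizedCharacter.mul (IsCharacter.isGeneralizedCharacter hP) hQ
    · rintro g ⟨v, hv, hPv⟩
      rw [Finset.prod_insert hw]
      simp only [Pi.sub_apply, Pi.add_apply, Pi.smul_apply, Pi.mul_apply, smul_eq_mul, mul_one]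
      push_cast
      rcases Finset.mem_insert.mp hv with rfl | hvV
      · rw [hPv]; ring
      · have := hQv g ⟨v, hvV, hPv⟩
        push_cast at this
        linear_combination ((w : ℂ) - P g) * this

end poly

end Cfsg.Agent.Lib.Helper6
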