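import Mathlib
import Cfsg.Agent.Lib.Helper6.DadeVChar1

set_option autoImplicit false
set_option linter.unusedSectionVars false
open Cfsg

/-! The Dade map sends generalized characters to generalized characters: the analysis on
elementary subgroups and the main theorem. -/

namespace Cfsg.Agent.Lib.Helper6

open scoped ComplexConjugate
open Cfsg.Agent.Lib.Lead.Dade

section hall

variable {E : Type*} [Group E] [Finite E]

/-- the `π`-part power map of a nilpotent group is an endomorphism -/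
theorem exists_hall_powHom [Group.IsNilpotent E] (m n : ℕ) (hcop : Nat.Coprime m n)
    (hmn0 : m * n ≠ 0) (hE : Nat.card E ∣ m * n) (k : ℕ) (hkm : k ≡ 0 [MOD m])
    (hkn : k ≡ 1 [MOD n]) :
    ∃ (φ : E →* E) (A : Subgroup E), A.Normal ∧ A.index ∣ n ∧ (∀ x, φ x = x ^ k) ∧
      (∀ x a : E, a ∈ A → (x * a) ^ k = x ^ k) ∧ (∀ x a : E, a ∈ A → (a * x) ^ k = x ^ k) := by
  obtain ⟨A, B, hAn, hBn, hAm, hBn', hAidx, hcard⟩ := exists_hall_decomp (E := E) m n hcop hmn0 hE
  have hcopAB : Nat.Coprime (Nat.card A) (Nat.card B) :=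
    Nat.Coprime.coprime_dvd_left hAm (Nat.Coprime.coprime_dvd_right hBn' hcop)
  have hdisj : Disjoint A B := Subgroup.disjoint_of_coprime_natCard hcopAB
  have hcomm : ∀ a ∈ A, ∀ b ∈ B, Commute a b := fun a ha b hb =>
    Subgroup.commute_of_normal_of_disjoint A B hAn hBn hdisj a b ha hb
  have hcompl : A.IsComplement' B := Subgroup.isComplement'_of_coprime hcard hcopAB
  have hApow : ∀ a ∈ A, a ^ k = 1 := by
    intro a ha
    have h1 : orderOf a ∣ Nat.card A := Subgroup.orderOf_dvd_natCard A ha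
    have h2 : orderOf a ∣ k := (h1.trans hAm).trans ((Nat.modEq_zero_iff_dvd).mp hkm)
    exact orderOf_dvd_iff_pow_eq_one.mp h2
  have hBpow : ∀ b ∈ B, b ^ k = b := by
    intro b hb
    have h1 : orderOf b ∣ n := (Subgroup.orderOf_dvd_natCard B hb).trans hBn'
    have h2 : k ≡ 1 [MOD orderOf b] := hkn.of_dvd h1
    have := (pow_eq_pow_iff_modEq (x := b)).mpr h2
    rwa [pow_one] at this
  have hdecomp : ∀ x : E, ∃ a ∈ A, ∃ b ∈ B, x = a * b := by
    intro x
    obtain ⟨⟨⟨a, ha⟩, ⟨b, hb⟩⟩, hab, -⟩ := (Subgroup.isComplement_iff_existsUnique.mp hcompl) x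
    exact ⟨a, ha, b, hb, hab.symm⟩
  have hpow : ∀ a ∈ A, ∀ b ∈ B, (a * b) ^ k = b := by
    intro a ha b hb
    rw [(hcomm a ha b hb).mul_pow, hApow a ha, hBpow b hb, one_mul]
  have hmul : ∀ x y : E, (x * y) ^ k = x ^ k * y ^ k := by
    intro x y
    obtain ⟨a, ha, b, hb, rfl⟩ := hdecomp x
    obtain ⟨a', ha', b', hb', rfl⟩ := hdecomp y
    have h1 : a * b * (a' * b') = (a * a') * (b * b') := by
      rw [mul_assoc, ← mul_assoc b a' b', ((hcomm a' ha' b hb).eq).symm, mul_assoc a' b b',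
        ← mul_assoc]
    rw [h1, hpow _ (A.mul_mem ha ha') _ (B.mul_mem hb hb'), hpow a ha b hb, hpow a' ha' b' hb']
  refine ⟨⟨⟨fun x => x ^ k, one_pow k⟩, hmul⟩, A, hAn, hAidx, fun x => rfl, ?_, ?_⟩
  · intro x a ha
    obtain ⟨a₀, ha₀, b₀, hb₀, rfl⟩ := hdecomp x
    rw [hpow a₀ ha₀ b₀ hb₀]
    have h1 : a₀ * b₀ * a = (a₀ * a) * b₀ := by
      rw [mul_assoc, (hcomm a ha b₀ hb₀).eq.symm, ← mul_assoc]
    rw [h1, hpow (a₀ * a) (A.mul_mem ha₀ ha) b₀ hb₀]
  · intro x a ha
    obtain ⟨a₀, ha₀, b₀, hb₀, rfl⟩ := hdecomp x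
    rw [hpow a₀ ha₀ b₀ hb₀, ← mul_assoc, hpow (a * a₀) (A.mul_mem ha ha₀) b₀ hb₀]

end hall

section coset

variable {E : Type*} [Group E] [Fintype E] [DecidableEq E]

/-- a function with algebraic integer values, constant on the cosets of a normal subgroup `A`
of index dividing `n`: `n` times its inner products with the irreducible characters are
algebraic integers -/
theorem isIntegral_mul_classInner_of_coset_invariant (A : Subgroup E) [hAn : A.Normal] (n : ℕ)
    (hidx : A.index ∣ n) (φ : E → ℂ) (hint : ∀ e, IsIntegral ℤ (φ e))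
    (hfr : ∀ x a : E, a ∈ A → φ (x * a) = φ x) (hfl : ∀ x a : E, a ∈ A → φ (a * x) = φ x)
    {ψ : E → ℂ} (hψ : Cfsg.IsIrrCharacter E ψ) :
    IsIntegral ℤ ((n : ℂ) * Cfsg.classInner φ ψ) := by
  classical
  haveI : Fintype A := Fintype.ofFinite _
  have hA0 : (Nat.card A : ℂ) ≠ 0 := card_ne_zero_complex A
  have hE0 : (Nat.card E : ℂ) ≠ 0 := card_ne_zero_complex E
  by_cases hS : ∑ a : A, ψ a = 0
  · have h1 : ∀ a : A, ∑ e : E, φ e * conj (ψ e) = ∑ e : E, φ e * conj (ψ ((a : E) * e)) := by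
      intro a
      rw [← Equiv.sum_comp (Equiv.mulLeft (a : E)) (fun e : E => φ e * conj (ψ e))]
      apply Finset.sum_congr rfl
      intro e _
      simp only [Equiv.coe_mulLeft]
      rw [hfl e a a.2]
    have h2 : (Nat.card A : ℂ) * ∑ e : E, φ e * conj (ψ e) = 0 := by
      have : (Nat.card A : ℂ) * ∑ e : E, φ e * conj (ψ e)
          = ∑ a : A, ∑ e : E, φ e * conj (ψ ((a : E) * e)) := by
        rw [← Finset.sum_congr rfl (fun a _ => h1 a), Finset.sum_const, Finset.card_univ,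
          nsmul_eq_mul, Nat.card_eq_fintype_card]
      rw [this, Finset.sum_comm]
      apply Finset.sum_eq_zero
      intro e _
      rw [← Finset.mul_sum, ← map_sum, IsIrrCharacter.sum_normal_mul A hψ e, hS, zero_mul,
        zero_div, map_zero, mul_zero]
    have h3 : ∑ e : E, φ e * conj (ψ e) = 0 := by
      rcases mul_eq_zero.mp h2 with h | h
      · exact absurd h hA0
      · exact h
    unfold Cfsg.classInner
    rw [h3, mul_zero, mul_zero]
    exact isIntegral_zero
  · have hconst := IsIrrCharacter.const_on_normal_of_sum_ne_zero A hψ hS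
    have hψc := IsIrrCharacter.isCharacter hψ
    haveI : Fintype (E ⧸ A) := Fintype.ofFinite _
    have h1 := sum_eq_card_mul_sum_quotient A (fun e : E => φ e * conj (ψ e)) (by
      intro g t ht
      rw [hfr g t ht, IsCharacter.apply_mul_of_apply_eq hψc (hconst ⟨t, ht⟩)])
    unfold Cfsg.classInner
    rw [h1]
    have hidx' : (Nat.card E : ℂ) = (Nat.card A : ℂ) * (A.index : ℂ) := by
      rw [← A.card_mul_index]; push_cast; ring
    have hidx0 : (A.index : ℂ) ≠ 0 := by
      intro h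
      rw [hidx', h, mul_zero] at hE0
      exact hE0 rfl
    obtain ⟨r, hr'⟩ := hidx
    have h2 : (n : ℂ) * ((Nat.card E : ℂ)⁻¹ *
        ((Nat.card A : ℂ) * ∑ q : E ⧸ A, φ q.out * conj (ψ q.out)))
        = ∑ q : E ⧸ A, (r : ℂ) * (φ q.out * conj (ψ q.out)) := by
      rw [hidx', hr', ← Finset.mul_sum]
      push_cast
      field_simp
    rw [h2]
    apply IsIntegral.sum
    intro q _
    apply IsIntegral.mul
    · have h5 := isIntegral_algebraMap (R := ℤ) (A := ℂ) (x := (r : ℤ))
      simpa using h5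
    · apply IsIntegral.mul (hint _)
      have h6 := IsCharacter.isIntegral_apply (IsCharacter.conj hψc) q.out
      exact h6

end coset

section main

variable {G : Type*} [Group G] [Fintype G]
variable {A : Set G} {L : Subgroup G} {H : G → Subgroup G}

open Classical in
/-- the values of the torsion permutation character on `A` -/
noncomputable def dadeValues (A : Set G) (H : G → Subgroup G) : Finset ℕ :=
  Finset.univ.image (fun a : G => if a ∈ A then Nat.card (H a) else 1)

theorem card_H_mem_dadeValues {a : G} (ha : a ∈ A) : Nat.card (H a) ∈ dadeValues A H := by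
  classical
  unfold dadeValues
  apply Finset.mem_image.mpr
  exact ⟨a, Finset.mem_univ _, if_pos ha⟩

theorem coprime_prod_dadeValues : Nat.Coprime (∏ v ∈ dadeValues A H, v) (dadeN A H) := by
  classical
  apply Nat.Coprime.prod_left
  intro v hv
  unfold dadeValues at hv
  obtain ⟨a, _, rfl⟩ := Finset.mem_image.mp hv
  by_cases ha : a ∈ A
  · rw [if_pos ha]; exact coprime_card_H_dadeN ha
  · rw [if_neg ha]; exact Nat.coprime_one_left _

theorem prod_dadeValues_ne_zero : ∏ v ∈ dadeValues A H, v ≠ 0 := by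
  classical
  apply Finset.prod_ne_zero_iff.mpr
  intro v hv
  unfold dadeValues at hv
  obtain ⟨a, _, rfl⟩ := Finset.mem_image.mp hv
  split_ifs
  · exact Nat.card_pos.ne'
  · exact one_ne_zero

theorem dade_mul_eq_of_pow_dadeN (hD : Cfsg.DadeHypothesis A L H) {α : L → ℂ}
    (hα : Cfsg.IsClassFunction L α) (hαA : ∀ x : L, (x : G) ∉ A → α x = 0)
    {Q : G → ℂ} (hQcf : Cfsg.IsClassFunction G Q)
    (hQ : ∀ g : G, (∃ v ∈ dadeValues A H, permChar G (PowTorsion G (dadeM A H)) g = (v : ℂ)) →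
      permChar G (PowTorsion G (dadeM A H)) g * Q g = ((∏ v ∈ dadeValues A H, v : ℕ) : ℂ))
    (hFcf : Cfsg.IsClassFunction G (Cfsg.indFun L α))
    {x : G} (hx : x ^ dadeN A H = 1) :
    ((∏ v ∈ dadeValues A H, v : ℕ) : ℂ) * Cfsg.dadeIsometry A L H α x
      = Cfsg.indFun L α x * Q x := by
  by_cases hs : ∃ a : ↥L, (a : G) ∈ A ∧ ∃ y : G, ∃ u ∈ H (a : G), y * x * y⁻¹ = (a : G) * u
  · obtain ⟨a, ha, y, u, hu, hy⟩ := hs
    have hu1 : u = 1 := by
      apply eq_one_of_mul_pow_dadeN hD ha hu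
      rw [← hy, conj_pow, hx]; group
    rw [hu1, mul_one] at hy
    rw [dade_apply hD hα a ha (one_mem _) (by rw [mul_one]; exact hy)]
    have h1 : Cfsg.indFun L α x = Cfsg.indFun L α (a : G) := by
      rw [← hy]; exact (hFcf x y).symm
    have h2 : Q x = Q (a : G) := by rw [← hy]; exact (hQcf x y).symm
    rw [h1, h2, dade_indFun_apply hD hα hαA a ha]
    have h3 := hQ (a : G) ⟨Nat.card (H (a : G)), card_H_mem_dadeValues ha,
      permChar_powTorsion_apply hD ha⟩
    rw [permChar_powTorsion_apply hD ha] at h3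
    rw [← h3]; ring
  · rw [dade_apply_of_not hs, dade_indFun_apply_of_not hαA hs, mul_zero, zero_mul]

/-- the restriction of the Dade image to an elementary subgroup -/
theorem dade_restrict_elem (hD : Cfsg.DadeHypothesis A L H) {α : L → ℂ}
    (hα : Cfsg.IsGeneralizedCharacter L α) (hαA : ∀ x : L, (x : G) ∉ A → α x = 0)
    (E : Subgroup G) (hE : IsElem E) :
    Cfsg.IsGeneralizedCharacter E (fun e : E => Cfsg.dadeIsometry A L H α e) := by
  classical
  haveI : Fintype E := Fintype.ofFinite E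
  have hαcf := IsGeneralizedCharacter.isClassFunction hα
  obtain ⟨q, hq, hEq⟩ := hE
  haveI : Group.IsNilpotent E := IsElementary.isNilpotent hq hEq
  have hcop := coprime_dadeM_dadeN (A := A) (H := H) (G := G)
  have hcard := card_eq_dadeM_mul_dadeN (A := A) (H := H) (G := G)
  have hmn0 : dadeM A H * dadeN A H ≠ 0 := by rw [← hcard]; exact Nat.card_pos.ne'
  have hEcard : Nat.card E ∣ dadeM A H * dadeN A H := by
    rw [← hcard]; exact Subgroup.card_subgroup_dvd_card E
  obtain ⟨k, hkm, hkn⟩ := Nat.chineseRemainder hcop 0 1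
  obtain ⟨φ, AE, hAEn, hAEidx, hφ, hr, hl⟩ :=
    exists_hall_powHom (E := E) _ _ hcop hmn0 hEcard k hkm hkn
  obtain ⟨f, hf⟩ : ∃ f : G → ℂ, f = Cfsg.dadeIsometry A L H α := ⟨_, rfl⟩
  rw [← hf]
  have hfcf : Cfsg.IsClassFunction G f := hf ▸ dade_isClassFunction hD hαcf
  have hfpow : ∀ g : G, f (g ^ k) = f g := fun g => by
    rw [hf]; exact dade_pow_eq hD hαcf hkm hkn g
  have hfint : ∀ g : G, IsIntegral ℤ (f g) := by
    intro g
    rw [hf]
    by_cases hs : ∃ a : ↥L, (a : G) ∈ A ∧ ∃ x : G, ∃ u ∈ H (a : G), x * g * x⁻¹ = (a : G) * u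
    · obtain ⟨a, ha, x, u, hu, hx⟩ := hs
      rw [dade_apply hD hαcf a ha hu hx]; exact IsGeneralizedCharacter.isIntegral_apply' hα a
    · rw [dade_apply_of_not hs]; exact isIntegral_zero
  obtain ⟨fE, hfE⟩ : ∃ fE : E → ℂ, fE = fun e : E => f e := ⟨_, rfl⟩
  rw [← hfE]
  have hfEr : ∀ x a : E, a ∈ AE → fE (x * a) = fE x := by
    intro x a ha
    rw [hfE]
    simp only
    rw [← hfpow ((x * a : E) : G), ← hfpow (x : G), ← Subgroup.coe_pow, ← Subgroup.coe_pow,
      hr x a ha]
  have hfEl : ∀ x a : E, a ∈ AE → fE (a * x) = fE x := by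
    intro x a ha
    rw [hfE]
    simp only
    rw [← hfpow ((a * x : E) : G), ← hfpow (x : G), ← Subgroup.coe_pow, ← Subgroup.coe_pow,
      hl x a ha]
  have hfEcf : Cfsg.IsClassFunction E fE := by
    intro g h
    rw [hfE]
    simp only
    have := hfcf (g : G) (h : G)
    simpa using this
  obtain ⟨Q, hQ, hQv⟩ := exists_inverse_genChar
    (isCharacter_permChar (G := G) (PowTorsion G (dadeM A H))) (dadeValues A H)
  obtain ⟨D, hD'⟩ : ∃ D : ℕ, D = ∏ v ∈ dadeValues A H, v := ⟨_, rfl⟩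
  have hFgen : Cfsg.IsGeneralizedCharacter G (Cfsg.indFun L α) :=
    IsGeneralizedCharacter.indFun L hα
  have hDf : (D : ℂ) • fE = fun e : E => (Cfsg.indFun L α * Q) ((φ e : E) : G) := by
    funext e
    rw [hfE]
    simp only [Pi.smul_apply, smul_eq_mul, Pi.mul_apply]
    rw [hφ e, Subgroup.coe_pow, ← hfpow (e : G), hD', hf]
    apply dade_mul_eq_of_pow_dadeN hD hαcf hαA (IsGeneralizedCharacter.isClassFunction hQ) hQv (IsGeneralizedCharacter.isClassFunction hFgen)
    rw [← pow_mul]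
    apply orderOf_dvd_iff_pow_eq_one.mp
    apply (orderOf_dvd_natCard (e : G)).trans
    rw [hcard]
    exact Nat.mul_dvd_mul_right ((Nat.modEq_zero_iff_dvd).mp hkm) _
  have hDgen : Cfsg.IsGeneralizedCharacter E ((D : ℂ) • fE) := by
    rw [hDf]
    exact IsGeneralizedCharacter.comp φ
      (IsGeneralizedCharacter.restrict E (IsGeneralizedCharacter.mul hFgen hQ))
  haveI : Fintype (Cfsg.IrrCharacter E) := Fintype.ofFinite _
  have hD0 : (D : ℂ) ≠ 0 := by
    rw [hD']; exact_mod_cast prod_dadeValues_ne_zero (A := A) (H := H)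
  have hcoef : ∀ ξ : Cfsg.IrrCharacter E, ∃ z : ℤ, Cfsg.classInner fE (ξ : E → ℂ) = z := by
    intro ξ
    obtain ⟨t, ht⟩ : ∃ t : ℂ, t = Cfsg.classInner fE (ξ : E → ℂ) := ⟨_, rfl⟩
    rw [← ht]
    obtain ⟨z, hz⟩ : ∃ z : ℤ, (D : ℂ) * t = z := by
      rw [ht, ← classInner_smul_left]
      obtain ⟨a, b, ha, hb, hab⟩ := hDgen
      rw [hab, classInner_sub_left]
      obtain ⟨na, hna⟩ := IsCharacter.classInner_irr_nat ha ξ.2
      obtain ⟨nb, hnb⟩ := IsCharacter.classInner_irr_nat hb ξ.2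
      exact ⟨(na : ℤ) - nb, by rw [hna, hnb]; push_cast; ring⟩
    have hnt : IsIntegral ℤ ((dadeN A H : ℂ) * t) := by
      rw [ht]
      exact isIntegral_mul_classInner_of_coset_invariant AE _ hAEidx fE
        (fun e => by rw [hfE]; exact hfint _) hfEr hfEl ξ.2
    have hcopD : Nat.Coprime D (dadeN A H) := hD' ▸ coprime_prod_dadeValues
    obtain ⟨s, r, hsr⟩ := Nat.Coprime.isCoprime hcopD
    have hsr' : (s : ℂ) * D + r * dadeN A H = 1 := by exact_mod_cast hsr
    have ht2 : t = s * z + r * ((dadeN A H : ℂ) * t) := by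
      rw [← hz]; linear_combination (-t) * hsr'
    have hintz : ∀ j : ℤ, IsIntegral ℤ (j : ℂ) := fun j => by
      have h5 := isIntegral_algebraMap (R := ℤ) (A := ℂ) (x := j)
      simpa using h5
    have hint : IsIntegral ℤ t := by
      rw [ht2]
      apply IsIntegral.add
      · exact IsIntegral.mul (hintz s) (hintz z)
      · exact IsIntegral.mul (hintz r) hnt
    have hq : t = (((z : ℚ) / (D : ℚ) : ℚ) : ℂ) := by
      push_cast
      rw [eq_div_iff hD0, mul_comm]
      exact hz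
    rw [hq] at hint
    obtain ⟨m, hm⟩ := int_of_isIntegral_ratCast hint
    refine ⟨m, ?_⟩
    rw [hq, ← hm]
    push_cast
    rfl
  have hexp := classFunction_eq_sum fE hfEcf
  rw [hexp]
  apply IsGeneralizedCharacter.sum
  intro ξ _
  obtain ⟨z, hz⟩ := hcoef ξ
  rw [hz]
  exact IsGeneralizedCharacter.intCast_smul
    (IsCharacter.isGeneralizedCharacter (IsIrrCharacter.isCharacter ξ.2)) z

/-- **Dade**: the Dade map sends generalized characters vanishing off `A` to generalized
characters. -/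
theorem dade_isGeneralizedCharacter (hD : Cfsg.DadeHypothesis A L H) {α : L → ℂ}
    (hα : Cfsg.IsGeneralizedCharacter L α) (hαA : ∀ x : L, (x : G) ∉ A → α x = 0) :
    Cfsg.IsGeneralizedCharacter G (Cfsg.dadeIsometry A L H α) :=
  isGeneralizedCharacter_of_restrict (dade_isClassFunction hD (IsGeneralizedCharacter.isClassFunction hα))
    (fun E hE => dade_restrict_elem hD hα hαA E hE)

end main

end Cfsg.Agent.Lib.Helper6
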