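import Mathlib

set_option autoImplicit false
set_option linter.unusedSectionVars false

/-!
Derived series of subgroups and quotients (only Mathlib).
-/

namespace Cfsg.Agent.Lib.Helper6

section der

variable {G G' : Type*} [Group G] [Group G']

theorem derivedSeries_eq_bot_of_le {k m : ℕ} (h : derivedSeries G k = ⊥) (hkm : k ≤ m) :
    derivedSeries G m = ⊥ :=
  le_bot_iff.mp (h ▸ derivedSeries_antitone G hkm)

theorem derivedSeries_eq_bot_of_surjective (f : G →* G') (hf : Function.Surjective f) {k : ℕ}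
    (h : derivedSeries G k = ⊥) : derivedSeries G' k = ⊥ := by
  rw [← map_derivedSeries_eq hf k, h, Subgroup.map_bot]

/-- if the image of `P` in `G'` has trivial `k`-th derived subgroup then the `k`-th derived subgroup
of `P` lies in the kernel -/
theorem derivedSeries_map_le_ker (f : G →* G') (P : Subgroup G) (Q : Subgroup G')
    (hQ : Q = P.map f) {k : ℕ} (h : derivedSeries Q k = ⊥) :
    ∀ x ∈ derivedSeries P k, ((x : P) : G) ∈ f.ker := by
  subst hQ
  intro x hx
  have h1 := map_derivedSeries_eq (f.subgroupMap_surjective P) k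
  rw [h] at h1
  have h2 : f.subgroupMap P x ∈ Subgroup.map (f.subgroupMap P) (derivedSeries P k) :=
    Subgroup.mem_map_of_mem _ hx
  rw [h1, Subgroup.mem_bot] at h2
  rw [MonoidHom.mem_ker]
  have h3 := congrArg Subtype.val h2
  simpa using h3

theorem derivedSeries_eq_bot_of_le_of_disjoint (P N : Subgroup G) {k : ℕ}
    (h : ∀ x ∈ derivedSeries P k, ((x : P) : G) ∈ N) (hdisj : N ⊓ P = ⊥) :
    derivedSeries P k = ⊥ := by
  rw [eq_bot_iff]
  intro x hx
  rw [Subgroup.mem_bot]
  apply Subtype.ext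
  have h1 : ((x : P) : G) ∈ N ⊓ P := ⟨h x hx, x.2⟩
  rw [hdisj, Subgroup.mem_bot] at h1
  exact h1

theorem derivedSeries_succ_eq_bot_of_le_abelian (P V : Subgroup G) {k : ℕ}
    (h : ∀ x ∈ derivedSeries P k, ((x : P) : G) ∈ V)
    (hab : ∀ a ∈ V, ∀ b ∈ V, a * b = b * a) :
    derivedSeries P (k + 1) = ⊥ := by
  rw [derivedSeries_succ, Subgroup.commutator_eq_bot_iff_le_centralizer]
  intro x hx
  rw [Subgroup.mem_centralizer_iff]
  intro y hy
  apply Subtype.ext
  exact hab _ (h y hy) _ (h x hx)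

/-- if all commutators of elements of `P` lie in an abelian subgroup then `P'' = 1` -/
theorem derivedSeries_two_eq_bot (P V : Subgroup G)
    (h : ∀ a ∈ P, ∀ b ∈ P, a * b * a⁻¹ * b⁻¹ ∈ V)
    (hab : ∀ a ∈ V, ∀ b ∈ V, a * b = b * a) :
    derivedSeries P 2 = ⊥ := by
  apply derivedSeries_succ_eq_bot_of_le_abelian P V _ hab
  intro x hx
  rw [derivedSeries_one] at hx
  have h1 : commutator P ≤ (V.subgroupOf P) := by
    rw [commutator_def, Subgroup.commutator_le]
    intro a _ b _
    rw [Subgroup.mem_subgroupOf]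
    exact h a a.2 b b.2
  exact h1 hx

theorem commutator_mem_of_isMulCommutative (f : G →* G') (P : Subgroup G) (Q : Subgroup G')
    (hQ : Q = P.map f) (hcomm : IsMulCommutative Q) :
    ∀ a ∈ P, ∀ b ∈ P, a * b * a⁻¹ * b⁻¹ ∈ f.ker := by
  subst hQ
  intro a ha b hb
  rw [MonoidHom.mem_ker]
  have h1 : (⟨f a, Subgroup.mem_map_of_mem f ha⟩ : P.map f) * ⟨f b, Subgroup.mem_map_of_mem f hb⟩
      = ⟨f b, Subgroup.mem_map_of_mem f hb⟩ * ⟨f a, Subgroup.mem_map_of_mem f ha⟩ :=
    hcomm.is_comm.comm _ _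
  have h2 : f a * f b = f b * f a := congrArg Subtype.val h1
  rw [map_mul, map_mul, map_mul, map_inv, map_inv, h2]
  group

end der

end Cfsg.Agent.Lib.Helper6
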