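import Mathlib
import Cfsg.Agent.Lib.Helper6.BlkPrincipalQuot
import Cfsg.Agent.Lib.Helper6.BlkNormalP

set_option autoImplicit false
set_option linter.unusedSectionVars false
open Cfsg

/-!
Counting irreducible characters of degree divisible by `p` in a quotient.
-/

namespace Cfsg.Agent.Lib.Helper6

open scoped ComplexConjugate

section count

variable {G : Type*} [Group G] [Fintype G] [DecidableEq G]
variable (p : ℕ) (N : Subgroup G) [hN : N.Normal]

theorem charDegree_inflIrr (β : Cfsg.IrrCharacter (G ⧸ N)) :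
    Cfsg.charDegree ((inflIrr N β : Cfsg.IrrCharacter G) : G → ℂ)
      = Cfsg.charDegree (β : G ⧸ N → ℂ) := by
  unfold Cfsg.charDegree
  rw [inflIrr_apply, QuotientGroup.mk_one]

/-- inflation, restricted to characters of degree divisible by `p` -/
noncomputable def inflDiv :
    {β : Cfsg.IrrCharacter (G ⧸ N) // p ∣ Cfsg.charDegree (β : G ⧸ N → ℂ)} →
      {χ : Cfsg.IrrCharacter G // p ∣ Cfsg.charDegree (χ : G → ℂ)} :=
  fun β => ⟨inflIrr N β.1, by rw [charDegree_inflIrr]; exact β.2⟩

theorem inflDiv_injective : Function.Injective (inflDiv p N) := by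
  intro β β' h
  apply Subtype.ext
  apply inflIrr_injective N
  exact congrArg Subtype.val h

theorem card_div_quotient_le :
    Nat.card {β : Cfsg.IrrCharacter (G ⧸ N) // p ∣ Cfsg.charDegree (β : G ⧸ N → ℂ)}
      ≤ Nat.card {χ : Cfsg.IrrCharacter G // p ∣ Cfsg.charDegree (χ : G → ℂ)} := by
  haveI : Finite (Cfsg.IrrCharacter G) := inferInstance
  exact Nat.card_le_card_of_injective _ (inflDiv_injective p N)

/-- if the quotient has as many characters of degree divisible by `p`, all of them are inflated -/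
theorem apply_eq_apply_one_of_card_div_eq
    (h : Nat.card {β : Cfsg.IrrCharacter (G ⧸ N) // p ∣ Cfsg.charDegree (β : G ⧸ N → ℂ)}
      = Nat.card {χ : Cfsg.IrrCharacter G // p ∣ Cfsg.charDegree (χ : G → ℂ)})
    (χ : Cfsg.IrrCharacter G) (hχ : p ∣ Cfsg.charDegree (χ : G → ℂ)) :
    ∀ n ∈ N, (χ : G → ℂ) n = (χ : G → ℂ) 1 := by
  haveI : Finite (Cfsg.IrrCharacter G) := inferInstance
  have hbij := (inflDiv_injective p N).bijective_of_nat_card_le h.ge
  obtain ⟨β, hβ⟩ := hbij.2 ⟨χ, hχ⟩
  have h1 : inflIrr N β.1 = χ := congrArg Subtype.val hβ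
  intro n hn
  rw [← h1, inflIrr_apply, inflIrr_apply, (QuotientGroup.eq_one_iff n).mpr hn, QuotientGroup.mk_one]

end count

end Cfsg.Agent.Lib.Helper6
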