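import Mathlib
import Cfsg.Agent.Lib.Helper3.DetChar
import Cfsg.Agent.Lib.Helper6.Ramified

set_option autoImplicit false
set_option linter.unusedSectionVars false
open Cfsg

/-!
Extension of an invariant linear character of `p`-power order lying under a character of degree
prime to `p`, through the determinant.
-/

namespace Cfsg.Agent.Lib.Helper6

open scoped ComplexConjugate
open Cfsg.Agent.Lib.Helper3.DetChar

section detExt

variable {H : Type*} [Group H] [Fintype H] [DecidableEq H]

/-- the constant function `m` is the character of the trivial representation of degree `m`,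
whose determinant is trivial -/
theorem detChar_const (m : ℕ) : Cfsg.detChar (fun _ : H => (m : ℂ)) = fun _ => 1 := by
  have h1 : (fun _ : H => (m : ℂ))
      = (Representation.trivial ℂ H (Fin m → ℂ)).character := by
    funext g
    change (m : ℂ) = LinearMap.trace ℂ (Fin m → ℂ) (LinearMap.id)
    simp
  rw [h1, detChar_character]
  funext g
  change LinearMap.det (LinearMap.id : (Fin m → ℂ) →ₗ[ℂ] (Fin m → ℂ)) = 1
  simp

theorem isCharacter_const (m : ℕ) : Cfsg.IsCharacter H (fun _ : H => (m : ℂ)) := by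
  refine ⟨m, Representation.trivial ℂ H (Fin m → ℂ), ?_⟩
  funext g
  change LinearMap.trace ℂ (Fin m → ℂ) (LinearMap.id) = (m : ℂ)
  simp

theorem charDegree_const (m : ℕ) : Cfsg.charDegree (fun _ : H => (m : ℂ)) = m := by
  unfold Cfsg.charDegree
  simp

/-- an invariant linear character of a normal `p`-subgroup lying under an irreducible character of
degree prime to `p` extends to a linear character of the whole group -/
theorem exists_linear_extension_of_coprime (p : ℕ) [hp : Fact p.Prime]
    (W : Subgroup H) [hW : W.Normal] [Fintype W] (hWp : ∃ k : ℕ, Nat.card W = p ^ k)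
    (f : W →* ℂˣ)
    (hinv : ∀ g : H, conjFun W hW (fun w : W => ((f w : ℂˣ) : ℂ)) g = fun w : W => ((f w : ℂˣ) : ℂ))
    (ψ : Cfsg.IrrCharacter H)
    (hψ : Cfsg.classInner (fun w : W => (ψ : H → ℂ) w) (fun w : W => ((f w : ℂˣ) : ℂ)) ≠ 0)
    (hdeg : ¬ p ∣ Cfsg.charDegree (ψ : H → ℂ)) :
    ∃ μ : H →* ℂˣ, ∀ w : W, μ (w : H) = f w := by
  have hlirr : Cfsg.IsIrrCharacter W (fun w : W => ((f w : ℂˣ) : ℂ)) := isIrrCharacter_of_hom f
  have hψc := IsIrrCharacter.isCharacter ψ.2
  obtain ⟨m, hm⟩ : ∃ m : ℕ, m = Cfsg.charDegree (ψ : H → ℂ) := ⟨_, rfl⟩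
  have hres := restrict_eq_smul_of_invariant W hW ψ.2 hlirr hinv hψ
  have he : Cfsg.classInner (fun w : W => (ψ : H → ℂ) w) (fun w : W => ((f w : ℂˣ) : ℂ))
      = (m : ℂ) := by
    have h1 := congrFun hres 1
    simp only [Pi.smul_apply, smul_eq_mul, map_one, Units.val_one, mul_one, Subgroup.coe_one] at h1
    rw [← h1, hm]
    exact IsCharacter.apply_one_eq_charDegree hψc
  rw [he] at hres
  have hres' : (fun w : W => (ψ : H → ℂ) (W.subtype w))
      = fun w : W => ((f w : ℂˣ) : ℂ) * (m : ℂ) := by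
    funext w
    have := congrFun hres w
    simp only [Pi.smul_apply, smul_eq_mul] at this
    rw [mul_comm]
    exact this
  have hd1 := detChar_comp W.subtype hψc
  rw [hres', detChar_mul_hom f (isCharacter_const m), charDegree_const, detChar_const] at hd1
  obtain ⟨d, hd⟩ := exists_hom_eq_detChar hψc
  rw [hd] at hd1
  -- `d w = (f w)^m` on `W`
  have hdw : ∀ w : W, d (w : H) = f w ^ m := by
    intro w
    have h1 := congrFun hd1 w
    simp only [mul_one, Subgroup.subtype_apply] at h1
    apply Units.ext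
    rw [Units.val_pow_eq_pow_val]
    exact h1.symm
  obtain ⟨k, hk⟩ := hWp
  have hcop : Nat.Coprime m (p ^ k) := by
    apply Nat.Coprime.pow_right
    rw [hm]
    exact ((Nat.Prime.coprime_iff_not_dvd hp.out).2 hdeg).symm
  have hfk : ∀ w : W, f w ^ (p ^ k) = 1 := by
    intro w
    rw [← map_pow, ← hk, pow_card_eq_one', map_one]
  -- a with a * m ≡ 1 mod p^k
  obtain ⟨a, ha⟩ : ∃ a : ℕ, a * m ≡ 1 [MOD p ^ k] := by
    by_cases hk1 : p ^ k = 1
    · exact ⟨0, by rw [hk1]; exact Nat.modEq_one⟩
    · have hgt : 1 < p ^ k := by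
        have : 0 < p ^ k := pow_pos hp.out.pos k
        omega
      obtain ⟨a, _, ha⟩ := Nat.exists_mul_mod_eq_one_of_coprime hcop hgt
      refine ⟨a, ?_⟩
      rw [mul_comm]
      rw [Nat.ModEq, ha, Nat.mod_eq_of_lt hgt]
  refine ⟨d ^ a, ?_⟩
  intro w
  rw [MonoidHom.pow_apply, hdw, ← pow_mul]
  have h1 : m * a % (p ^ k) = 1 % (p ^ k) := by
    rw [mul_comm]; exact ha
  have h2 : m * a = (p ^ k) * (m * a / p ^ k) + m * a % (p ^ k) := (Nat.div_add_mod _ _).symm
  rw [h2, h1, pow_add, pow_mul, hfk, one_pow, one_mul]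
  by_cases hk1 : p ^ k = 1
  · have : f w = 1 := by
      have := hfk w
      rw [hk1, pow_one] at this
      exact this
    rw [this, one_pow]
  · have hgt : 1 < p ^ k := by
      have : 0 < p ^ k := pow_pos hp.out.pos k
      omega
    rw [Nat.mod_eq_of_lt hgt, pow_one]

end detExt

end Cfsg.Agent.Lib.Helper6
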