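import Mathlib
import Cfsg.Agent.Lib.Helper6.DerLen3
import Cfsg.Agent.Lib.Helper6.BlkPrincipalQuot
import Cfsg.Agent.Lib.Helper6.IrrBasis
import Cfsg.Agent.S0856
import Cfsg.Agent.S0146
import Cfsg.Agent.S4713

set_option autoImplicit false
set_option linter.unusedSectionVars false
open Cfsg

/-!
Over an invariant linear character of a normal `p`-subgroup `W` all of whose overlying characters
have degree prime to `p`, the quotient has abelian Sylow `p`-subgroups (`p`-solvable case).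
-/

namespace Cfsg.Agent.Lib.Helper6

open scoped ComplexConjugate

section typeLevel

variable {H : Type*} [Group H] [Fintype H] [DecidableEq H]

theorem isMulCommutative_sylow_quotient (p : ℕ) [hp : Fact p.Prime]
    (hsolv : Cfsg.IsPSolvable p H)
    (W : Subgroup H) [hW : W.Normal] [Fintype W] (hWp : ∃ k : ℕ, Nat.card W = p ^ k)
    (f : W →* ℂˣ)
    (hinv : ∀ g : H, conjFun W hW (fun w : W => ((f w : ℂˣ) : ℂ)) g = fun w : W => ((f w : ℂˣ) : ℂ))
    (hdeg : ∀ ψ : Cfsg.IrrCharacter H,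
      Cfsg.classInner (fun w : W => (ψ : H → ℂ) w) (fun w : W => ((f w : ℂˣ) : ℂ)) ≠ 0 →
        ¬ p ∣ Cfsg.charDegree (ψ : H → ℂ))
    (hsolvQ : Cfsg.IsPSolvable p (H ⧸ W))
    (Pb : Sylow p (H ⧸ W)) : IsMulCommutative Pb := by
  have hlirr : Cfsg.IsIrrCharacter W (fun w : W => ((f w : ℂˣ) : ℂ)) := isIrrCharacter_of_hom f
  obtain ⟨ψ₀, hψ₀⟩ := exists_irr_over W ⟨_, hlirr⟩
  simp only at hψ₀
  obtain ⟨μ, hμ⟩ := exists_linear_extension_of_coprime p W hWp f hinv ψ₀ hψ₀ (hdeg ψ₀ hψ₀)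
  have hμirr : Cfsg.IsIrrCharacter H (fun h : H => ((μ h : ℂˣ) : ℂ)) := isIrrCharacter_of_hom μ
  have hone : Cfsg.IsIrrCharacter W (fun _ : W => (1 : ℂ)) := isIrrCharacter_one
  have hprodeq : ((fun _ : W => (1 : ℂ)) * (fun w : W => ((f w : ℂˣ) : ℂ)))
      = (fun w : W => ((f w : ℂˣ) : ℂ)) := by
    funext b
    simp
  have hbij := Cfsg.Agent.S0856.result W (fun _ : W => (1 : ℂ)) (fun w : W => ((f w : ℂˣ) : ℂ))
    hone hlirr (fun _ _ => rfl) (fun g n => congrFun (hinv g) n) (by rw [hprodeq]; exact hlirr)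
    (fun h : H => ((μ h : ℂˣ) : ℂ)) hμirr (fun n => by rw [hμ])
  have hall : ∀ β : Cfsg.IrrCharacter (H ⧸ W), ¬ p ∣ Cfsg.charDegree (β : H ⧸ W → ℂ) := by
    intro β
    have hβ' : ((inflIrr W β : Cfsg.IrrCharacter H) : H → ℂ) ∈
        {β : H → ℂ | Cfsg.IsIrrCharacter H β ∧
          Cfsg.classInner (Cfsg.indFun W (fun _ : W => (1 : ℂ))) β ≠ 0} := by
      refine ⟨(inflIrr W β).2, ?_⟩
      rw [Cfsg.Agent.S0146.result W (fun _ : W => (1 : ℂ)) _
        (IsIrrCharacter.isClassFunction (inflIrr W β).2)]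
      have hconst : (fun w : W => ((inflIrr W β : Cfsg.IrrCharacter H) : H → ℂ) w)
          = ((β : H ⧸ W → ℂ) 1) • (fun _ : W => (1 : ℂ)) := by
        funext w
        rw [inflIrr_apply, (QuotientGroup.eq_one_iff (w : H)).mpr w.2]
        simp
      rw [hconst, classInner_smul_right, classInner_isIrrCharacter hone hone, if_pos rfl, mul_one]
      intro h0
      rw [map_eq_zero] at h0
      exact IsIrrCharacter.apply_one_ne_zero β.2 h0
    obtain ⟨hirr, hc⟩ := hbij.mapsTo hβ'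
    rw [hprodeq, Cfsg.Agent.S0146.result W _ _ (IsIrrCharacter.isClassFunction hirr)] at hc
    have hc' : Cfsg.classInner (fun w : W => (((inflIrr W β : Cfsg.IrrCharacter H) : H → ℂ) *
        (fun h : H => ((μ h : ℂˣ) : ℂ))) w) (fun w : W => ((f w : ℂˣ) : ℂ)) ≠ 0 := by
      intro h0
      apply hc
      rw [← classInner_conj_symm, h0, map_zero]
    have h1 := hdeg ⟨_, hirr⟩ hc'
    have h2 : Cfsg.charDegree ((((inflIrr W β : Cfsg.IrrCharacter H) : H → ℂ) *
        (fun h : H => ((μ h : ℂˣ) : ℂ)))) = Cfsg.charDegree (β : H ⧸ W → ℂ) := by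
      unfold Cfsg.charDegree
      simp only [Pi.mul_apply, map_one, Units.val_one, mul_one]
      rw [inflIrr_apply, QuotientGroup.mk_one]
    rw [← h2]
    exact h1
  exact ((Cfsg.Agent.S4713.result p hsolvQ Pb).2 hall).2

end typeLevel

end Cfsg.Agent.Lib.Helper6
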