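import Mathlib
import Cfsg.Agent.Lib.Helper6.DerLen1
import Cfsg.Agent.Lib.Helper6.DerLen4
import Cfsg.Agent.Lib.Helper6.FongHt1
import Cfsg.Agent.Lib.Helper6.BlkFRDefect
import Cfsg.Agent.Lib.Helper6.ClassCount
import Cfsg.Agent.Lib.Helper6.CliffordStab
import Cfsg.Agent.Lib.Helper3.Dade5
import Cfsg.Agent.Lib.Helper1.PConstrainedOfPSolvable
import Cfsg.Agent.Lib.Helper1.PSolvSub

set_option autoImplicit false
set_option linter.unusedSectionVars false
open Cfsg

/-!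
If every irreducible character of degree divisible by `p` of a `p`-solvable group is trivial on the
nontrivial abelian normal `p`-subgroup `V`, then `P' ≤ V` for the Sylow `p`-subgroups `P`.
-/

namespace Cfsg.Agent.Lib.Helper6

open scoped ComplexConjugate

section groupLevel

variable {G : Type*} [Group G] [Fintype G] [DecidableEq G]

theorem exists_irr_ne_one (V : Type*) [Group V] [Finite V] [Nontrivial V] :
    ∃ lam : Cfsg.IrrCharacter V, lam ≠ oneIrr V := by
  by_contra hall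
  push Not at hall
  have h1 : Nat.card (Cfsg.IrrCharacter V) ≤ 1 :=
    Finite.card_le_one_iff_subsingleton.mpr ⟨fun a b => by rw [hall a, hall b]⟩
  rw [card_irrCharacter] at h1
  have h2 := Finite.card_le_one_iff_subsingleton.mp h1
  obtain ⟨x, hx⟩ := exists_ne (1 : V)
  have h3 : ConjClasses.mk x = ConjClasses.mk 1 := Subsingleton.elim _ _
  rw [ConjClasses.mk_eq_mk_iff_isConj, isConj_one_left] at h3
  exact hx h3

theorem commutator_mem_of_div_trivial (p : ℕ) [hp : Fact p.Prime] (hsolv : Cfsg.IsPSolvable p G)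
    (V : Subgroup G) [Fintype V] (hV : V.Normal) (hVp : ∃ k : ℕ, Nat.card V = p ^ k)
    (hVne : V ≠ ⊥) (hVab : ∀ a ∈ V, ∀ b ∈ V, a * b = b * a)
    (hker : ∀ χ : Cfsg.IrrCharacter G, p ∣ Cfsg.charDegree (χ : G → ℂ) →
      ∀ v ∈ V, (χ : G → ℂ) v = (χ : G → ℂ) 1)
    (P : Sylow p G) : ∀ a ∈ (P : Subgroup G), ∀ b ∈ (P : Subgroup G), a * b * a⁻¹ * b⁻¹ ∈ V := by
  classical
  haveI : Nontrivial V := (Subgroup.nontrivial_iff_ne_bot V).mpr hVne
  obtain ⟨lam, hlam⟩ := exists_irr_ne_one V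
  have hcommV : ∀ a b : V, a * b = b * a := by
    intro a b
    apply Subtype.ext
    exact hVab a a.2 b b.2
  have hlam1 : (lam : V → ℂ) 1 = 1 := Cfsg.Agent.Lib.Helper3.Dade.apply_one_eq_one_of_comm hcommV lam.2
  have hlamc := IsIrrCharacter.isCharacter lam.2
  obtain ⟨f, hfdef⟩ : ∃ f : V →* ℂˣ, f = linearCharHom hlamc hlam1 := ⟨_, rfl⟩
  have hf : (fun v : V => ((f v : ℂˣ) : ℂ)) = (lam : V → ℂ) := by
    rw [hfdef]; rfl
  -- the inertia group
  obtain ⟨T, hTdef⟩ : ∃ T : Subgroup G, T = inertia V hV (lam : V → ℂ) := ⟨_, rfl⟩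
  haveI : Fintype T := Fintype.ofFinite _
  have hVT : V ≤ T := by
    rw [hTdef]; exact le_inertia V hV (IsIrrCharacter.isClassFunction lam.2)
  have hstab : ∀ g : G, conjFun V hV (lam : V → ℂ) g = (lam : V → ℂ) → g ∈ T := by
    intro g hg
    rw [hTdef]
    exact hg
  have hTinv : ∀ g ∈ T, conjFun V hV (lam : V → ℂ) g = (lam : V → ℂ) := by
    intro g hg
    rw [hTdef] at hg
    exact hg
  -- degrees over `lam`
  have hdegT : ∀ ψ : Cfsg.IrrCharacter T,
      Cfsg.classInner (fun n : V => (ψ : T → ℂ) ⟨n, hVT n.2⟩) (lam : V → ℂ) ≠ 0 →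
        ¬ p ∣ T.index * Cfsg.charDegree (ψ : T → ℂ) := by
    intro ψ hc hdvd
    have hirr := indFun_isIrrCharacter_of_stab V hV T hVT lam hstab ψ hc
    have hdeg := charDegree_indFun T ψ hirr
    rw [← hdeg] at hdvd
    have hχc := IsIrrCharacter.isCharacter hirr
    have h1 : Cfsg.classInner (fun t : T => Cfsg.indFun T (ψ : T → ℂ) t) (ψ : T → ℂ) ≠ 0 := by
      have h2 := Cfsg.Agent.S0146.result T (ψ : T → ℂ) (Cfsg.indFun T (ψ : T → ℂ))
        (IsIrrCharacter.isClassFunction hirr)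
      rw [classInner_isIrrCharacter hirr hirr, if_pos rfl] at h2
      intro h0
      rw [← classInner_conj_symm, h0, map_zero] at h2
      exact one_ne_zero h2
    have h3 := constituent_trans V T hVT hχc ψ lam h1 hc
    have h4 : ∀ v ∈ V, Cfsg.indFun T (ψ : T → ℂ) v = Cfsg.indFun T (ψ : T → ℂ) 1 :=
      hker ⟨_, hirr⟩ hdvd
    apply h3
    have hconst : (fun l : V => Cfsg.indFun T (ψ : T → ℂ) l)
        = (Cfsg.indFun T (ψ : T → ℂ) 1) • ((oneIrr V : Cfsg.IrrCharacter V) : V → ℂ) := by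
      funext v
      rw [h4 v v.2]
      simp [oneIrr]
    rw [hconst, classInner_smul_left, classInner_irrCharacter, if_neg (Ne.symm hlam), mul_zero]
  -- the type-level data
  haveI : Fintype (V.subgroupOf T) := Fintype.ofFinite _
  haveI hW : (V.subgroupOf T).Normal := hV.subgroupOf T
  obtain ⟨f', hf'def⟩ : ∃ f' : V.subgroupOf T →* ℂˣ,
      f' = f.comp (Subgroup.subgroupOfEquivOfLe hVT).toMonoidHom := ⟨_, rfl⟩
  have hf' : (fun w : V.subgroupOf T => ((f' w : ℂˣ) : ℂ))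
      = ((irrSub V T hVT lam : Cfsg.IrrCharacter (V.subgroupOf T)) : V.subgroupOf T → ℂ) := by
    funext w
    rw [irrSub_apply, ← hf, hf'def]
    rfl
  have hWp : ∃ k : ℕ, Nat.card (V.subgroupOf T) = p ^ k := by
    obtain ⟨k, hk⟩ := hVp
    exact ⟨k, by rw [Nat.card_congr (Subgroup.subgroupOfEquivOfLe hVT).toEquiv, hk]⟩
  have hinv' : ∀ g : T, conjFun (V.subgroupOf T) hW (fun w : V.subgroupOf T => ((f' w : ℂˣ) : ℂ)) g
      = fun w : V.subgroupOf T => ((f' w : ℂˣ) : ℂ) := by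
    intro g
    rw [hf']
    funext w
    rw [conjFun_apply, irrSub_apply, irrSub_apply]
    have h1 := congrFun (hTinv (g : G) g.2) (Subgroup.subgroupOfEquivOfLe hVT w)
    rw [conjFun_apply] at h1
    rw [← h1]
    congr 1
  have hdeg' : ∀ ψ : Cfsg.IrrCharacter T,
      Cfsg.classInner (fun w : V.subgroupOf T => (ψ : T → ℂ) w)
        (fun w : V.subgroupOf T => ((f' w : ℂˣ) : ℂ)) ≠ 0 →
        ¬ p ∣ Cfsg.charDegree (ψ : T → ℂ) := by
    intro ψ hc hdvd
    rw [hf', classInner_restrict_irrSub] at hc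
    exact hdegT ψ hc (Dvd.dvd.mul_left hdvd _)
  have hsolvT : Cfsg.IsPSolvable p T :=
    Cfsg.Agent.Lib.Helper1.PSolvSub.isPSolvable_subgroup hsolv T
  have hsolvQ : Cfsg.IsPSolvable p (T ⧸ V.subgroupOf T) :=
    Cfsg.Agent.Lib.Helper1.isPSolvable_of_surjective p (QuotientGroup.mk' (V.subgroupOf T))
      (QuotientGroup.mk'_surjective _) hsolvT
  -- the index of `T` is prime to `p`
  have hTidx : ¬ p ∣ T.index := by
    obtain ⟨ψ₀, hψ₀⟩ := exists_irr_over (G := T) (V.subgroupOf T) (irrSub V T hVT lam)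
    rw [classInner_restrict_irrSub] at hψ₀
    intro hdvd
    exact hdegT ψ₀ hψ₀ (Dvd.dvd.mul_right hdvd _)
  -- a Sylow subgroup of `T`
  obtain ⟨P₁⟩ : Nonempty (Sylow p T) := inferInstance
  have hcomm := isMulCommutative_sylow_quotient p hsolvT (V.subgroupOf T) hWp f' hinv' hdeg' hsolvQ
    (P₁.mapSurjective (QuotientGroup.mk'_surjective (V.subgroupOf T)))
  have hcm := commutator_mem_of_isMulCommutative (QuotientGroup.mk' (V.subgroupOf T))
    (P₁ : Subgroup T) _ (Sylow.coe_mapSurjective _ P₁) hcomm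
  rw [QuotientGroup.ker_mk'] at hcm
  -- transport to `G`
  obtain ⟨P₂, hP₂⟩ : ∃ P₂ : Subgroup G, P₂ = (P₁ : Subgroup T).map T.subtype := ⟨_, rfl⟩
  have hP₂comm : ∀ a ∈ P₂, ∀ b ∈ P₂, a * b * a⁻¹ * b⁻¹ ∈ V := by
    rw [hP₂]
    rintro _ ⟨a, ha, rfl⟩ _ ⟨b, hb, rfl⟩
    have := hcm a ha b hb
    rw [Subgroup.mem_subgroupOf] at this
    simpa using this
  have hcard : Nat.card P₂ = p ^ (Nat.card G).factorization p := by
    rw [hP₂, Subgroup.card_map_of_injective T.subtype_injective, Sylow.card_eq_multiplicity]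
    congr 1
    rw [← T.card_mul_index, Nat.factorization_mul Nat.card_pos.ne' T.index_ne_zero_of_finite,
      Finsupp.add_apply, Nat.factorization_eq_zero_of_not_dvd hTidx, add_zero]
  obtain ⟨g, hg⟩ := MulAction.exists_smul_eq G (Sylow.ofCard P₂ hcard) P
  have hmem : ∀ a ∈ (P : Subgroup G), g⁻¹ * a * g ∈ P₂ := by
    intro a ha
    rw [← hg, Sylow.coe_subgroup_smul, Subgroup.mem_pointwise_smul_iff_inv_smul_mem,
      Sylow.coe_ofCard] at ha
    simpa [MulAut.smul_def] using ha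
  intro a ha b hb
  have h1 := hP₂comm _ (hmem a ha) _ (hmem b hb)
  have h2 := hV.conj_mem _ h1 g
  have h3 : g * (g⁻¹ * a * g * (g⁻¹ * b * g) * (g⁻¹ * a * g)⁻¹ * (g⁻¹ * b * g)⁻¹) * g⁻¹
      = a * b * a⁻¹ * b⁻¹ := by group
  rw [h3] at h2
  exact h2

end groupLevel

end Cfsg.Agent.Lib.Helper6
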