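import Mathlib
import Cfsg.Agent.Lib.Helper6.DerLen2
import Cfsg.Agent.Lib.Helper6.DerLen5
import Cfsg.Agent.Lib.Helper6.BlkCover
import Cfsg.Agent.Lib.Helper1.PCore
import Cfsg.Agent.Lib.Helper1.UpperPSeriesCentralizer

set_option autoImplicit false
set_option linter.unusedSectionVars false
open Cfsg

/-!
In a `p`-solvable group the derived length of a Sylow `p`-subgroup is at most one more than the
number of irreducible characters of degree divisible by `p`.
-/

namespace Cfsg.Agent.Lib.Helper6

open scoped ComplexConjugate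

universe u

theorem card_quotient_lt {G : Type*} [Group G] [Finite G] (N : Subgroup G) [N.Normal] (hN : N ≠ ⊥) :
    Nat.card (G ⧸ N) < Nat.card G := by
  rw [← Subgroup.index_eq_card, ← N.card_mul_index]
  have h1 : 1 < Nat.card N := by
    rw [Finite.one_lt_card_iff_nontrivial]
    exact (Subgroup.nontrivial_iff_ne_bot N).mpr hN
  have h2 : 0 < N.index := Nat.pos_of_ne_zero N.index_ne_zero_of_finite
  nlinarith

theorem derivedLength_sylow_aux (p : ℕ) [hp : Fact p.Prime] (n : ℕ) :
    ∀ (G : Type u) [Group G] [Finite G], Nat.card G = n → Cfsg.IsPSolvable p G →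
    ∀ P : Sylow p G,
      derivedSeries ↥(P : Subgroup G)
        (Nat.card {χ : Cfsg.IrrCharacter G // p ∣ Cfsg.charDegree (χ : G → ℂ)} + 1) = ⊥ := by
  induction n using Nat.strong_induction_on with
  | _ n ih =>
    intro G _ _ hn hsolv P
    classical
    haveI : Fintype G := Fintype.ofFinite G
    obtain ⟨m, hm⟩ : ∃ m : ℕ,
        m = Nat.card {χ : Cfsg.IrrCharacter G // p ∣ Cfsg.charDegree (χ : G → ℂ)} := ⟨_, rfl⟩
    rw [← hm]
    haveI : Finite (Cfsg.IrrCharacter G) := inferInstance
    by_cases hm0 : m = 0
    · -- all degrees prime to `p`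
      have hall : ∀ χ : Cfsg.IrrCharacter G, ¬ p ∣ Cfsg.charDegree (χ : G → ℂ) := by
        intro χ hχ
        have : Nonempty {χ : Cfsg.IrrCharacter G // p ∣ Cfsg.charDegree (χ : G → ℂ)} := ⟨⟨χ, hχ⟩⟩
        have h1 : 0 < Nat.card {χ : Cfsg.IrrCharacter G // p ∣ Cfsg.charDegree (χ : G → ℂ)} :=
          Nat.card_pos
        omega
      obtain ⟨_, hcomm⟩ := (Cfsg.Agent.S4713.result p hsolv P).2 hall
      rw [hm0]
      apply derivedSeries_succ_eq_bot_of_le_abelian (P : Subgroup G) (P : Subgroup G)
      · intro x _
        exact x.2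
      · intro a ha b hb
        have := hcomm.is_comm.comm (⟨a, ha⟩ : (P : Subgroup G)) ⟨b, hb⟩
        exact congrArg Subtype.val this
    · have hm1 : 1 ≤ m := Nat.one_le_iff_ne_zero.mpr hm0
      obtain ⟨O, hOdef⟩ : ∃ O : Subgroup G, O = Cfsg.pPrimeCore p G := ⟨_, rfl⟩
      haveI hOn : O.Normal := hOdef ▸ (pPrimeCore_normal_and_coprime (G := G) p).1
      have hOp : (Nat.card O).Coprime p := hOdef ▸ (pPrimeCore_normal_and_coprime (G := G) p).2
      by_cases hO : O = ⊥
      · -- `O_{p'}(G) = 1`
        have hbot : Cfsg.pPrimeCore p G = ⊥ := by rw [← hOdef]; exact hO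
        have hcent : Subgroup.centralizer (Cfsg.pCore p G : Set G) ≤ Cfsg.pCore p G :=
          Cfsg.Agent.Lib.Helper1.centralizer_pCore_le_of_isPSolvable hbot
            (Cfsg.Agent.Lib.Helper1.PSolvSub.isPSolvable_subgroup hsolv _)
        obtain ⟨Q, hQdef⟩ : ∃ Q : Subgroup G, Q = Cfsg.pCore p G := ⟨_, rfl⟩
        rw [← hQdef] at hcent
        haveI hQn : Q.Normal := by rw [hQdef]; exact Cfsg.Agent.Lib.Helper1.pCore_normal p
        have hQp : IsPGroup p Q := by rw [hQdef]; exact Cfsg.Agent.Lib.Helper1.pCore_isPGroup p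
        have hQP : Q ≤ P := by rw [hQdef]; exact Cfsg.Agent.Lib.Helper1.pCore_le_sylow p P
        have hQne : Q ≠ ⊥ := by
          intro hQ
          rw [hQ] at hcent
          have htop : (⊤ : Subgroup G) ≤ ⊥ := by
            refine le_trans ?_ hcent
            intro x _
            rw [Subgroup.mem_centralizer_iff]
            intro y hy
            rw [SetLike.mem_coe, Subgroup.mem_bot] at hy
            rw [hy, one_mul, mul_one]
          have hcard1 : Nat.card G = 1 := by
            have h1 : (⊤ : Subgroup G) = ⊥ := le_bot_iff.mp htop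
            rw [← Subgroup.card_top, h1, Subgroup.card_bot]
          have : m = 0 := by
            rw [hm]
            rw [Nat.card_eq_zero]
            left
            constructor
            rintro ⟨χ, hχ⟩
            have h1 := IsIrrCharacter.charDegree_dvd_card χ.2
            rw [hcard1] at h1
            have h2 := hχ.trans h1
            exact hp.out.one_lt.ne' (Nat.dvd_one.mp h2)
          exact hm0 this
        haveI : Nontrivial Q := (Subgroup.nontrivial_iff_ne_bot Q).mpr hQne
        haveI : Nontrivial (Subgroup.center Q) := hQp.center_nontrivial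
        obtain ⟨V, hVdef⟩ : ∃ V : Subgroup G, V = (Subgroup.center Q).map Q.subtype := ⟨_, rfl⟩
        haveI hVn : V.Normal := by rw [hVdef]; infer_instance
        haveI : Fintype V := Fintype.ofFinite _
        have hVQ : V ≤ Q := by
          rw [hVdef]
          rintro _ ⟨x, _, rfl⟩
          exact x.2
        have hVp : ∃ k : ℕ, Nat.card V = p ^ k := IsPGroup.iff_card.mp (hQp.to_le hVQ)
        have hVne : V ≠ ⊥ := by
          rw [hVdef]
          intro h
          rw [(Subgroup.map_eq_bot_iff_of_injective _ Q.subtype_injective)] at h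
          exact (Subgroup.nontrivial_iff_ne_bot _).mp inferInstance h
        have hVab : ∀ a ∈ V, ∀ b ∈ V, a * b = b * a := by
          rw [hVdef]
          rintro _ ⟨a, ha, rfl⟩ _ ⟨b, hb, rfl⟩
          have := Subgroup.mem_center_iff.mp ha b
          exact (congrArg Subtype.val this).symm
        obtain ⟨m', hm'⟩ : ∃ m' : ℕ, m' = Nat.card {β : Cfsg.IrrCharacter (G ⧸ V) //
            p ∣ Cfsg.charDegree (β : G ⧸ V → ℂ)} := ⟨_, rfl⟩
        have hm'le : m' ≤ m := by rw [hm, hm']; exact card_div_quotient_le p V
        have hsolvQ : Cfsg.IsPSolvable p (G ⧸ V) :=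
          Cfsg.Agent.Lib.Helper1.isPSolvable_of_surjective p (QuotientGroup.mk' V)
            (QuotientGroup.mk'_surjective V) hsolv
        have hlt : Nat.card (G ⧸ V) < n := hn ▸ card_quotient_lt V hVne
        have hih := ih _ hlt (G ⧸ V) rfl hsolvQ
          (P.mapSurjective (QuotientGroup.mk'_surjective V))
        rw [← hm'] at hih
        by_cases hlt' : m' < m
        · have h1 := derivedSeries_map_le_ker (QuotientGroup.mk' V) (P : Subgroup G) _
            (Sylow.coe_mapSurjective _ P) hih
          rw [QuotientGroup.ker_mk'] at h1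
          have h2 := derivedSeries_succ_eq_bot_of_le_abelian (P : Subgroup G) V h1 hVab
          exact derivedSeries_eq_bot_of_le h2 (by omega)
        · have heq : m' = m := le_antisymm hm'le (not_lt.mp hlt')
          have hker : ∀ χ : Cfsg.IrrCharacter G, p ∣ Cfsg.charDegree (χ : G → ℂ) →
              ∀ v ∈ V, (χ : G → ℂ) v = (χ : G → ℂ) 1 := by
            intro χ hχ
            apply apply_eq_apply_one_of_card_div_eq p V _ χ hχ
            rw [← hm, ← hm', heq]
          have h1 := commutator_mem_of_div_trivial p hsolv V hVn hVp hVne hVab hker P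
          have h2 := derivedSeries_two_eq_bot (P : Subgroup G) V h1 hVab
          exact derivedSeries_eq_bot_of_le h2 (by omega)
      · -- `O_{p'}(G) ≠ 1`
        obtain ⟨m', hm'⟩ : ∃ m' : ℕ, m' = Nat.card {β : Cfsg.IrrCharacter (G ⧸ O) //
            p ∣ Cfsg.charDegree (β : G ⧸ O → ℂ)} := ⟨_, rfl⟩
        have hm'le : m' ≤ m := by rw [hm, hm']; exact card_div_quotient_le p O
        have hsolvQ : Cfsg.IsPSolvable p (G ⧸ O) :=
          Cfsg.Agent.Lib.Helper1.isPSolvable_of_surjective p (QuotientGroup.mk' O)
            (QuotientGroup.mk'_surjective O) hsolv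
        have hlt : Nat.card (G ⧸ O) < n := hn ▸ card_quotient_lt O hO
        have hih := ih _ hlt (G ⧸ O) rfl hsolvQ
          (P.mapSurjective (QuotientGroup.mk'_surjective O))
        rw [← hm'] at hih
        have hih' := derivedSeries_eq_bot_of_le hih (show m' + 1 ≤ m + 1 by omega)
        have h1 := derivedSeries_map_le_ker (QuotientGroup.mk' O) (P : Subgroup G) _
          (Sylow.coe_mapSurjective _ P) hih'
        rw [QuotientGroup.ker_mk'] at h1
        apply derivedSeries_eq_bot_of_le_of_disjoint (P : Subgroup G) O h1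
        rw [eq_bot_iff]
        intro x hx
        rw [Subgroup.mem_bot]
        have h2 : orderOf x ∣ Nat.card O := by
          have := orderOf_dvd_natCard (⟨x, hx.1⟩ : O)
          rwa [Subgroup.orderOf_mk] at this
        obtain ⟨k, hk⟩ := (P.isPGroup' ⟨x, hx.2⟩)
        have h3 : orderOf x ∣ p ^ k := by
          apply orderOf_dvd_of_pow_eq_one
          exact congrArg Subtype.val hk
        have h4 : orderOf x ∣ 1 := by
          have := Nat.Coprime.pow_right k hOp
          rw [← Nat.Coprime.gcd_eq_one this]
          exact Nat.dvd_gcd h2 h3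
        exact orderOf_eq_one_iff.mp (Nat.dvd_one.mp h4)

end Cfsg.Agent.Lib.Helper6
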