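import Mathlib
import Cfsg.Agent.Lib.Helper6.Dih2
import Cfsg.Agent.Lib.Helper6.BlkColumn
import Cfsg.Agent.Lib.Helper6.BlkLocal
import Cfsg.Agent.Lib.Helper6.Auto
import Cfsg.Agent.S0947

/-! # Groups with dihedral Sylow `2`-subgroups: the columns of the principal block at the
elements of the rotation subgroup -/

set_option autoImplicit false
set_option linter.unusedSectionVars false
open Cfsg

namespace Cfsg.Agent.Lib.Helper6.Dih

open Cfsg.Agent.Lib.Helper6
open scoped ComplexConjugate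

section

variable {G : Type*} [Group G] [Finite G] {σ : G} {N : ℕ} {M : Ideal Cfsg.AlgInt}

theorem finsum_principal_eq_sum {A : Type*} [AddCommMonoid A]
    (B : Finset (Cfsg.IrrCharacter G))
    (hB : ∀ χ, χ ∈ B ↔ χ ∈ Cfsg.principalBlock M G) (f : Cfsg.IrrCharacter G → A) :
    ∑ᶠ χ ∈ Cfsg.principalBlock M G, f χ = ∑ χ ∈ B, f χ := by
  classical
  have : Fintype (Cfsg.IrrCharacter G) := Fintype.ofFinite _
  rw [finsum_mem_eq_sum_filter_lib]
  congr 1
  ext χ
  simp [hB]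

theorem exists_orderOf_of_mem (P : Sylow 2 G) {x : G} (hx : x ∈ (P : Subgroup G)) :
    ∃ k : ℕ, orderOf x = 2 ^ k := by
  obtain ⟨k, hk⟩ := (IsPGroup.iff_orderOf.mp P.2) ⟨x, hx⟩
  exact ⟨k, by rw [← hk, Subgroup.orderOf_mk]⟩

/-- the inner products of the columns of the principal block at powers of `σ` -/
theorem column_inner (hM : Cfsg.IsPModular 2 M) (P : Sylow 2 G)
    (h : DihData (P : Subgroup G) σ N) (B : Finset (Cfsg.IrrCharacter G))
    (hB : ∀ χ, χ ∈ B ↔ χ ∈ Cfsg.principalBlock M G) {l l' : ℕ}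
    (h0 : 0 < l) (hl : l < N) (h0' : 0 < l') (hl' : l' < N) :
    ∑ χ ∈ B, (χ : G → ℂ) (σ ^ l) * conj ((χ : G → ℂ) (σ ^ l'))
      = (N : ℂ) * ((if l = l' then 1 else 0) + (if l + l' = N then 1 else 0)) := by
  classical
  have : Fact (Nat.Prime 2) := ⟨Nat.prime_two⟩
  rw [← finsum_principal_eq_sum B hB]
  have hyP : σ ^ l ∈ (P : Subgroup G) := (P : Subgroup G).pow_mem h.mem l
  have hy'P : σ ^ l' ∈ (P : Subgroup G) := (P : Subgroup G).pow_mem h.mem l'
  have hy := exists_orderOf_of_mem P hyP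
  have hy' := exists_orderOf_of_mem P hy'P
  have hiff := isConj_pow_iff P h h0 hl h0' hl'
  by_cases hc : IsConj (σ ^ l) (σ ^ l')
  · rw [principal_column_conj 2 M hM _ _ hy hc,
      ← principal_column_conj 2 M hM (σ ^ l) (σ ^ l) hy (IsConj.refl _)]
    have h947 := (Cfsg.Agent.S0947.result 2 M hM (σ ^ l) hy (h.pow_ne_one h0 hl)
      (1 : Subgroup.centralizer ({σ ^ l} : Set G)) (by rw [orderOf_one]; norm_num)).2
    rw [Subgroup.coe_one, mul_one] at h947
    have hcast : ∀ v : ℕ, ∑ᶠ ζ ∈ Cfsg.principalBlock M G, ‖(ζ : G → ℂ) (σ ^ l)‖ ^ 2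
          = ((2 ^ v : ℕ) : ℝ) →
        ∑ᶠ ζ ∈ Cfsg.principalBlock M G, (ζ : G → ℂ) (σ ^ l) * conj ((ζ : G → ℂ) (σ ^ l))
          = ((2 ^ v : ℕ) : ℂ) := by
      intro v hv
      rw [finsum_principal_eq_sum B hB] at hv ⊢
      have h1 : ∀ χ : Cfsg.IrrCharacter G, (χ : G → ℂ) (σ ^ l) * conj ((χ : G → ℂ) (σ ^ l))
          = ((‖(χ : G → ℂ) (σ ^ l)‖ ^ 2 : ℝ) : ℂ) := by
        intro χ
        rw [Complex.mul_conj']
        push_cast
        rfl
      rw [Finset.sum_congr rfl (fun χ _ => h1 χ), ← Complex.ofReal_sum, hv]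
      push_cast
      rfl
    by_cases hss : σ ^ l * σ ^ l = 1
    · have h2l := (h.sq_eq_one_iff h0 hl).mp hss
      obtain ⟨hidx, hv⟩ := centralizer_data_of_sq_eq P h (DihData.pow_mem l) hss
        (h.pow_ne_one h0 hl)
      rw [hcast _ (h947 hidx), hv]
      have e1 : l = l' := by rcases hiff.mp hc with h' | h' <;> omega
      have e2 : l + l' = N := by omega
      rw [if_pos e1, if_pos e2]
      push_cast
      ring
    · have h2l : 2 * l ≠ N := fun h' => hss ((h.sq_eq_one_iff h0 hl).mpr h')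
      obtain ⟨hidx, hv⟩ := centralizer_data_of_sq_ne P h (DihData.pow_mem l) hss
      rw [hcast _ (h947 hidx), hv]
      rcases hiff.mp hc with h' | h'
      · have e2 : ¬ (l + l' = N) := by omega
        rw [if_pos h'.symm, if_neg e2]
        ring
      · have e1 : ¬ (l = l') := by omega
        rw [if_neg e1, if_pos h']
        ring
  · rw [principal_column_not_conj 2 M hM _ _ hy hy' hc]
    have e1 : ¬ (l = l') := fun h' => hc (hiff.mpr (Or.inl h'.symm))
    have e2 : ¬ (l + l' = N) := fun h' => hc (hiff.mpr (Or.inr h'))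
    rw [if_neg e1, if_neg e2]
    ring

/-- orthogonality of a column at a power of `σ` with a `2`-regular column -/
theorem column_regular (hM : Cfsg.IsPModular 2 M) (P : Sylow 2 G)
    (h : DihData (P : Subgroup G) σ N) (B : Finset (Cfsg.IrrCharacter G))
    (hB : ∀ χ, χ ∈ B ↔ χ ∈ Cfsg.principalBlock M G) {l : ℕ}
    (h0 : 0 < l) (hl : l < N) (ρ : G) (hρ : ¬ 2 ∣ orderOf ρ) :
    ∑ χ ∈ B, (χ : G → ℂ) (σ ^ l) * conj ((χ : G → ℂ) ρ) = 0 := by
  classical
  have : Fintype G := Fintype.ofFinite G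
  have : Fact (Nat.Prime 2) := ⟨Nat.prime_two⟩
  have hyP : σ ^ l ∈ (P : Subgroup G) := (P : Subgroup G).pow_mem h.mem l
  have hy := exists_orderOf_of_mem P hyP
  have h1 : Cfsg.IsPPart 2 (σ ^ l) (σ ^ l) :=
    ⟨1, mul_one _, Commute.one_right _, hy, by rw [orderOf_one]; norm_num⟩
  have h2 : Cfsg.IsPPart 2 ρ 1 :=
    ⟨ρ, one_mul ρ, Commute.one_left ρ, ⟨0, by simp⟩, hρ⟩
  have h3 : ¬ IsConj (σ ^ l) 1 := by
    rw [isConj_one_left]
    exact h.pow_ne_one h0 hl
  have key := block_orthogonality hM (σ ^ l) ρ (σ ^ l) 1 h1 h2 h3 (oneIrr G)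
  change ∑ᶠ χ ∈ Cfsg.principalBlock M G, (χ : G → ℂ) (σ ^ l) * (χ : G → ℂ) ρ⁻¹ = 0 at key
  rw [finsum_principal_eq_sum B hB] at key
  rw [← key]
  apply Finset.sum_congr rfl
  intro χ _
  rw [IsCharacter.apply_inv (IsIrrCharacter.isCharacter χ.2)]

/-- a character of the principal block does not vanish at an element central in a Sylow
subgroup -/
theorem apply_ne_zero_of_central (hM : Cfsg.IsPModular 2 M) (P : Sylow 2 G) {z : G}
    (hz : ∀ x ∈ (P : Subgroup G), x * z = z * x) (χ : Cfsg.IrrCharacter G)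
    (hχ : χ ∈ Cfsg.principalBlock M G) : (χ : G → ℂ) z ≠ 0 := by
  have : Fact (Nat.Prime 2) := ⟨Nat.prime_two⟩
  intro h0
  have hs : Cfsg.SameBlock M (fun _ : G => (1 : ℂ)) (χ : G → ℂ) := hχ
  have h1 := hs z
  unfold Cfsg.centralChar at h1
  rw [h0] at h1
  simp only [mul_one, div_one, mul_zero, zero_div, sub_zero] at h1
  have h2 := (memLocalIdeal_natCast_iff hM _).mp h1
  have hPC : (P : Subgroup G) ≤ Subgroup.centralizer ({z} : Set G) := by
    intro x hx
    rw [Subgroup.mem_centralizer_singleton_iff]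
    exact hz x hx
  exact P.not_dvd_index (h2.trans (Subgroup.index_dvd_of_le hPC))

end

end Cfsg.Agent.Lib.Helper6.Dih
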