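import Mathlib
import Cfsg.Agent.Lib.Helper6.Dih3
import Cfsg.Agent.Lib.Helper6.Dih10
import Cfsg.Agent.Lib.Helper6.BlkPrincipalKer
import Cfsg.Agent.Lib.Helper6.ClassFun

/-! # General lemmas for the order formula: involutions in cyclic groups, fibres of conjugation
maps, and values of principal block characters at `u v` -/

set_option autoImplicit false
set_option linter.unusedSectionVars false
open Cfsg

namespace Cfsg.Agent.Lib.Helper6.Dih

open Cfsg.Agent.Lib.Helper6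

section general

variable {G : Type*} [Group G]

theorem orderOf_conj' (c x : G) : orderOf (c * x * c⁻¹) = orderOf x := by
  have h := (MulAut.conj c).orderOf_eq x
  rwa [MulAut.conj_apply] at h

theorem zpow_of_mul_self {w : G} (hw : w * w = 1) (k : ℤ) : w ^ k = 1 ∨ w ^ k = w := by
  have h2 : w ^ (2 : ℤ) = 1 := by
    rw [show (2 : ℤ) = 1 + 1 by norm_num, zpow_add, zpow_one]; exact hw
  obtain ⟨j, hj | hj⟩ := Int.even_or_odd' k
  · left; rw [hj, zpow_mul, h2, one_zpow]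
  · right; rw [hj, zpow_add, zpow_mul, h2, one_zpow, one_mul, zpow_one]

theorem pow_of_mul_self_of_odd {w : G} (hw : w * w = 1) {r : ℕ} (hr : Odd r) : w ^ r = w := by
  obtain ⟨j, rfl⟩ := hr
  rw [pow_succ, pow_mul, pow_two, hw, one_pow, one_mul]

theorem orderOf_eq_two_of {x : G} (hxx : x * x = 1) (hx1 : x ≠ 1) : orderOf x = 2 := by
  haveI : Fact (Nat.Prime 2) := ⟨Nat.prime_two⟩
  exact orderOf_eq_prime (by rw [pow_two]; exact hxx) hx1

theorem mul_self_of_orderOf_two {x : G} (hx : orderOf x = 2) : x * x = 1 := by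
  have h := pow_orderOf_eq_one x
  rwa [hx, pow_two] at h

theorem ne_one_of_orderOf_two {x : G} (hx : orderOf x = 2) : x ≠ 1 := by
  intro h
  rw [h, orderOf_one] at hx
  omega

theorem inv_of_orderOf_two {x : G} (hx : orderOf x = 2) : x⁻¹ = x :=
  inv_eq_of_mul_eq_one_left (mul_self_of_orderOf_two hx)

/-- the unique involution of a cyclic group of even order -/
theorem existsUnique_involution_zpowers [Finite G] (g : G) (hg : 2 ∣ orderOf g) :
    ∃ z₀ : G, (orderOf z₀ = 2 ∧ z₀ ∈ Subgroup.zpowers g) ∧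
      ∀ z : G, orderOf z = 2 → z ∈ Subgroup.zpowers g → z = z₀ := by
  classical
  obtain ⟨k, hk⟩ := hg
  have ho : 0 < orderOf g := orderOf_pos g
  have hk0 : 0 < k := by
    rcases Nat.eq_zero_or_pos k with h | h
    · rw [h] at hk; omega
    · exact h
  have h1 : g ^ k * g ^ k = 1 := by
    rw [← pow_add, show k + k = orderOf g by omega, pow_orderOf_eq_one]
  have h2 : g ^ k ≠ 1 := pow_ne_one_of_lt_orderOf hk0.ne' (by omega)
  refine ⟨g ^ k, ⟨orderOf_eq_two_of h1 h2, Subgroup.npow_mem_zpowers g k⟩, ?_⟩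
  intro z hz hzg
  rw [mem_zpowers_iff_mem_range_orderOf] at hzg
  obtain ⟨j, hj, rfl⟩ := Finset.mem_image.mp hzg
  have hj' := Finset.mem_range.mp hj
  have h3 := mul_self_of_orderOf_two hz
  rw [← pow_add] at h3
  have h4 := orderOf_dvd_of_pow_eq_one h3
  have hj0 : j ≠ 0 := by
    intro h
    rw [h, pow_zero, orderOf_one] at hz
    omega
  obtain ⟨c, hc⟩ := h4
  have hc1 : c = 1 := by
    rcases Nat.lt_or_ge c 1 with h | h
    · have : c = 0 := by omega
      rw [this] at hc; omega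
    · rcases Nat.lt_or_ge c 2 with h' | h'
      · omega
      · have : orderOf g * 2 ≤ orderOf g * c := Nat.mul_le_mul_left _ h'
        omega
  rw [hc1] at hc
  have : j = k := by omega
  rw [this]

theorem not_involution_zpowers_of_odd (g : G) (hg : Odd (orderOf g)) (z : G)
    (hz : orderOf z = 2) : z ∉ Subgroup.zpowers g := by
  intro hmem
  have h1 := orderOf_dvd_of_mem_zpowers hmem
  rw [hz] at h1
  obtain ⟨j, hj⟩ := hg
  omega

end general

section fiber

variable {G : Type*} [Group G] [Fintype G] [DecidableEq G]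

/-- the fibres of `c ↦ c a c⁻¹` on a subgroup -/
theorem sum_conj_fiber (H : Subgroup G) [DecidablePred (· ∈ H)] (a : G) {A : Type*}
    [AddCommMonoid A] (f : G → A) :
    ∑ c ∈ Finset.univ.filter (· ∈ H), f (c * a * c⁻¹)
      = (Finset.univ.filter (fun d => d ∈ H ∧ d * a = a * d)).card •
        ∑ x ∈ (Finset.univ.filter (· ∈ H)).image (fun c => c * a * c⁻¹), f x := by
  rw [Finset.sum_comp f (fun c => c * a * c⁻¹), Finset.smul_sum]
  apply Finset.sum_congr rfl
  intro b hb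
  obtain ⟨c₀, hc₀, rfl⟩ := Finset.mem_image.mp hb
  have hc₀H : c₀ ∈ H := (Finset.mem_filter.mp hc₀).2
  congr 1
  symm
  apply Finset.card_bij (fun d _ => c₀ * d)
  · intro d hd
    obtain ⟨_, hdH, hda⟩ := Finset.mem_filter.mp hd
    refine Finset.mem_filter.mpr ⟨Finset.mem_filter.mpr ⟨Finset.mem_univ _, mul_mem hc₀H hdH⟩, ?_⟩
    calc c₀ * d * a * (c₀ * d)⁻¹ = c₀ * (d * a) * d⁻¹ * c₀⁻¹ := by group
      _ = c₀ * (a * d) * d⁻¹ * c₀⁻¹ := by rw [hda]
      _ = c₀ * a * c₀⁻¹ := by group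
  · intro d₁ _ d₂ _ h
    exact mul_left_cancel h
  · intro c hc
    obtain ⟨hcH', hca⟩ := Finset.mem_filter.mp hc
    have hcH : c ∈ H := (Finset.mem_filter.mp hcH').2
    refine ⟨c₀⁻¹ * c, Finset.mem_filter.mpr ⟨Finset.mem_univ _, mul_mem (inv_mem hc₀H) hcH, ?_⟩,
      by group⟩
    calc c₀⁻¹ * c * a = c₀⁻¹ * (c * a * c⁻¹) * c := by group
      _ = c₀⁻¹ * (c₀ * a * c₀⁻¹) * c := by rw [hca]
      _ = a * (c₀⁻¹ * c) := by group

end fiber

section block

variable {G : Type*} [Group G] [Finite G] {σ : G} {N : ℕ} {M : Ideal Cfsg.AlgInt}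

theorem exists_conj_mem_zpowers (P : Sylow 2 G) (h : DihData (P : Subgroup G) σ N)
    (hfus : ∀ t ∈ (P : Subgroup G), t ∉ Subgroup.zpowers σ →
      ∃ c : G, c * t * c⁻¹ ∈ Subgroup.zpowers σ)
    {u : G} (hu : ∃ k : ℕ, orderOf u = 2 ^ k) :
    ∃ c : G, c * u * c⁻¹ ∈ Subgroup.zpowers σ := by
  obtain ⟨c, _, hc⟩ := exists_conj_mem_of_le P ⊤ le_top (Subgroup.mem_top u) hu
  by_cases hz : c * u * c⁻¹ ∈ Subgroup.zpowers σ
  · exact ⟨c, hz⟩
  · obtain ⟨c', hc'⟩ := hfus _ hc hz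
    refine ⟨c' * c, ?_⟩
    have h1 : c' * c * u * (c' * c)⁻¹ = c' * (c * u * c⁻¹) * c'⁻¹ := by group
    rw [h1]; exact hc'

/-- characters of the principal block at `u v`, `u` a nontrivial `2`-element, `v` of odd order
commuting with `u` -/
theorem principal_apply_two_mul_odd (hM : Cfsg.IsPModular 2 M) (P : Sylow 2 G)
    (h : DihData (P : Subgroup G) σ N)
    (hfus : ∀ t ∈ (P : Subgroup G), t ∉ Subgroup.zpowers σ →
      ∃ c : G, c * t * c⁻¹ ∈ Subgroup.zpowers σ)
    (χ : Cfsg.IrrCharacter G) (hχ : χ ∈ Cfsg.principalBlock M G) {u v : G}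
    (hu : ∃ k : ℕ, orderOf u = 2 ^ k) (hu1 : u ≠ 1) (huv : u * v = v * u)
    (hv : Odd (orderOf v)) : (χ : G → ℂ) (u * v) = (χ : G → ℂ) u := by
  classical
  have : Fintype G := Fintype.ofFinite G
  haveI : Fact (Nat.Prime 2) := ⟨Nat.prime_two⟩
  obtain ⟨c, hc⟩ := exists_conj_mem_zpowers P h hfus hu
  have hcf := IsCharacter.isClassFunction (IsIrrCharacter.isCharacter χ.2)
  obtain ⟨s, hs⟩ : ∃ s, s = c * u * c⁻¹ := ⟨_, rfl⟩
  obtain ⟨w, hw⟩ : ∃ w, w = c * v * c⁻¹ := ⟨_, rfl⟩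
  rw [← hs] at hc
  have h1 : (χ : G → ℂ) (u * v) = (χ : G → ℂ) (s * w) := by
    have h2 : s * w = c * (u * v) * c⁻¹ := by rw [hs, hw]; group
    rw [h2, hcf (u * v) c]
  have h2 : (χ : G → ℂ) u = (χ : G → ℂ) s := by rw [hs, hcf u c]
  rw [h1, h2]
  have hs1 : s ≠ 1 := by
    intro h'
    apply hu1
    have h3 : u = c⁻¹ * s * c := by rw [hs]; group
    rw [h3, h', mul_one, inv_mul_cancel]
  have hso : ∃ k : ℕ, orderOf s = 2 ^ k := by
    obtain ⟨k, hk⟩ := hu
    exact ⟨k, by rw [hs, orderOf_conj', hk]⟩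
  have hsw : s * w = w * s := by
    rw [hs, hw]
    calc c * u * c⁻¹ * (c * v * c⁻¹) = c * (u * v) * c⁻¹ := by group
      _ = c * (v * u) * c⁻¹ := by rw [huv]
      _ = c * v * c⁻¹ * (c * u * c⁻¹) := by group
  have hwo : Odd (orderOf w) := by rw [hw, orderOf_conj']; exact hv
  have hidx : ∃ j : ℕ,
      (Cfsg.pPrimeCore 2 ↥(Subgroup.centralizer ({s} : Set G))).index = 2 ^ j := by
    by_cases hss : s * s = 1
    · exact (centralizer_data_of_sq_eq P h hc hss hs1).1
    · exact (centralizer_data_of_sq_ne P h hc hss).1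
  have hwC : w ∈ Subgroup.centralizer ({s} : Set G) := by
    rw [Subgroup.mem_centralizer_singleton_iff]; exact hsw.symm
  have hwK : (⟨w, hwC⟩ : ↥(Subgroup.centralizer ({s} : Set G)))
      ∈ Cfsg.pPrimeCore 2 ↥(Subgroup.centralizer ({s} : Set G)) :=
    mem_pPrimeCore_of_odd hidx _ (by rw [Subgroup.orderOf_mk]; exact hwo)
  have : Fintype ↥(Subgroup.centralizer ({s} : Set G)) := Fintype.ofFinite _
  exact principal_apply_mul_core hM s hso (Subgroup.centralizer ({s} : Set G)) rfl χ hχ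
    ⟨w, hwC⟩ hwK

end block

end Cfsg.Agent.Lib.Helper6.Dih
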