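import Mathlib
import Cfsg.Agent.Lib.Helper6.GaloisRat

/-! # Fourier analysis on a cyclic group of order `N`, for values of characters on the powers
of an element of order `N` -/

set_option autoImplicit false
set_option linter.unusedSectionVars false
open Cfsg

namespace Cfsg.Agent.Lib.Helper6.Dih

open Cfsg.Agent.Lib.Helper6
open scoped ComplexConjugate

section fourier

variable {N : ℕ} {ζ : ℂ}

theorem sum_pow_of_pow_eq_one {x : ℂ} (hx : x ^ N = 1) :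
    ∑ l ∈ Finset.range N, x ^ l = if x = 1 then (N : ℂ) else 0 := by
  split_ifs with h
  · rw [h]; simp
  · have := geom_sum_mul x N
    rw [hx, sub_self] at this
    exact (mul_eq_zero.mp this).resolve_right (sub_ne_zero.mpr h)

theorem pow_mod_eq (hζ : IsPrimitiveRoot ζ N) (a : ℕ) : ζ ^ a = ζ ^ (a % N) := by
  conv_lhs => rw [← Nat.div_add_mod a N, pow_add, pow_mul, hζ.pow_eq_one, one_pow, one_mul]

theorem pow_eq_pow_iff (hζ : IsPrimitiveRoot ζ N) (hN : 0 < N) (a b : ℕ) :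
    ζ ^ a = ζ ^ b ↔ a ≡ b [MOD N] := by
  constructor
  · intro h
    rw [pow_mod_eq hζ a, pow_mod_eq hζ b] at h
    exact hζ.pow_inj (Nat.mod_lt a hN) (Nat.mod_lt b hN) h
  · intro h
    rw [pow_mod_eq hζ a, pow_mod_eq hζ b]
    have h' : a % N = b % N := h
    rw [h']

theorem sum_pow_mul_inv (hζ : IsPrimitiveRoot ζ N) (hN : 0 < N) (a b : ℕ) :
    ∑ l ∈ Finset.range N, ζ ^ (a * l) * (ζ ^ (b * l))⁻¹
      = if a ≡ b [MOD N] then (N : ℂ) else 0 := by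
  have hζ0 : ζ ≠ 0 := hζ.ne_zero hN.ne'
  have h1 : ∀ l, ζ ^ (a * l) * (ζ ^ (b * l))⁻¹ = (ζ ^ a * (ζ ^ b)⁻¹) ^ l := by
    intro l; rw [mul_pow, inv_pow, ← pow_mul, ← pow_mul]
  simp_rw [h1]
  have hx : (ζ ^ a * (ζ ^ b)⁻¹) ^ N = 1 := by
    rw [mul_pow, inv_pow, ← pow_mul, ← pow_mul, mul_comm a N, mul_comm b N, pow_mul, pow_mul,
      hζ.pow_eq_one]
    simp
  rw [sum_pow_of_pow_eq_one hx]
  have hiff : (ζ ^ a * (ζ ^ b)⁻¹ = 1) ↔ a ≡ b [MOD N] := by
    rw [mul_inv_eq_one₀ (pow_ne_zero b hζ0)]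
    exact pow_eq_pow_iff hζ hN a b
  by_cases hab : a ≡ b [MOD N]
  · rw [if_pos hab, if_pos (hiff.mpr hab)]
  · rw [if_neg hab, if_neg (fun h => hab (hiff.mp h))]

/-- the Fourier coefficients of a function on `ℕ` (thought of as `N`-periodic) -/
noncomputable def coef (N : ℕ) (ζ : ℂ) (f : ℕ → ℂ) (k : ℕ) : ℂ :=
  (N : ℂ)⁻¹ * ∑ l ∈ Finset.range N, f l * (ζ ^ (k * l))⁻¹

/-- Fourier inversion -/
theorem sum_coef_mul (hζ : IsPrimitiveRoot ζ N) (hN : 0 < N) (f : ℕ → ℂ) {l : ℕ} (hl : l < N) :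
    ∑ k ∈ Finset.range N, coef N ζ f k * ζ ^ (k * l) = f l := by
  have hN0 : (N : ℂ) ≠ 0 := by exact_mod_cast hN.ne'
  have h1 : ∀ k, coef N ζ f k * ζ ^ (k * l)
      = ∑ l' ∈ Finset.range N, (N : ℂ)⁻¹ * f l' * (ζ ^ (l * k) * (ζ ^ (l' * k))⁻¹) := by
    intro k
    unfold coef
    rw [Finset.mul_sum, Finset.sum_mul]
    apply Finset.sum_congr rfl
    intro l' _
    rw [mul_comm k l, mul_comm k l']
    ring
  simp_rw [h1]
  rw [Finset.sum_comm]
  have h2 : ∀ l' ∈ Finset.range N,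
      ∑ k ∈ Finset.range N, (N : ℂ)⁻¹ * f l' * (ζ ^ (l * k) * (ζ ^ (l' * k))⁻¹)
        = if l' = l then f l' else 0 := by
    intro l' hl'
    rw [← Finset.mul_sum, sum_pow_mul_inv hζ hN]
    have hl'' := Finset.mem_range.mp hl'
    by_cases hll : l' = l
    · rw [if_pos hll, if_pos (by rw [hll])]
      field_simp
    · rw [if_neg hll, if_neg]
      · ring
      · intro hmod
        exact hll (Nat.ModEq.eq_of_lt_of_lt hmod hl hl'').symm
  rw [Finset.sum_congr rfl h2, Finset.sum_ite_eq' (Finset.range N) l f,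
    if_pos (Finset.mem_range.mpr hl)]

/-- the coefficients of a sum of powers of `N`-th roots of unity are multiplicities -/
theorem coef_eq_card {ι : Type*} [Fintype ι] [DecidableEq ι] (hζ : IsPrimitiveRoot ζ N)
    (hN : 0 < N) (μ : ι → ℂ) (hμ : ∀ i, μ i ^ N = 1) (f : ℕ → ℂ)
    (hf : ∀ l, f l = ∑ i, μ i ^ l) (k : ℕ) :
    coef N ζ f k = ((Finset.univ.filter (fun i => μ i = ζ ^ k)).card : ℂ) := by
  classical
  have hN0 : (N : ℂ) ≠ 0 := by exact_mod_cast hN.ne'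
  have hζ0 : ζ ≠ 0 := hζ.ne_zero hN.ne'
  unfold coef
  have h1 : ∀ l, f l * (ζ ^ (k * l))⁻¹ = ∑ i, (μ i * (ζ ^ k)⁻¹) ^ l := by
    intro l
    rw [hf l, Finset.sum_mul]
    apply Finset.sum_congr rfl
    intro i _
    rw [mul_pow, inv_pow, ← pow_mul]
  simp_rw [h1]
  rw [Finset.sum_comm]
  have h2 : ∀ i : ι, ∑ l ∈ Finset.range N, (μ i * (ζ ^ k)⁻¹) ^ l
      = if μ i = ζ ^ k then (N : ℂ) else 0 := by
    intro i
    have hx : (μ i * (ζ ^ k)⁻¹) ^ N = 1 := by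
      rw [mul_pow, hμ i, inv_pow, ← pow_mul, mul_comm k N, pow_mul, hζ.pow_eq_one]
      simp
    rw [sum_pow_of_pow_eq_one hx]
    have hiff : (μ i * (ζ ^ k)⁻¹ = 1) ↔ μ i = ζ ^ k :=
      mul_inv_eq_one₀ (pow_ne_zero k hζ0)
    by_cases hh : μ i = ζ ^ k
    · rw [if_pos hh, if_pos (hiff.mpr hh)]
    · rw [if_neg hh, if_neg (fun h => hh (hiff.mp h))]
  rw [Finset.sum_congr rfl (fun i _ => h2 i), Finset.sum_ite, Finset.sum_const_zero, add_zero,
    Finset.sum_const, nsmul_eq_mul]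
  field_simp

/-- the coefficients of the restriction of a character to a cyclic subgroup are natural
numbers -/
theorem exists_coef_nat {G : Type*} [Group G] {χ : G → ℂ} (hχ : Cfsg.IsCharacter G χ)
    (hζ : IsPrimitiveRoot ζ N) (hN : 0 < N) (σ : G) (hσ : σ ^ N = 1) (k : ℕ) :
    ∃ n : ℕ, coef N ζ (fun l => χ (σ ^ l)) k = n := by
  classical
  obtain ⟨m, μ, hμ, hk⟩ := IsCharacter.exists_eigen_pow hχ σ N hN hσ
  exact ⟨_, coef_eq_card hζ hN μ hμ _ hk k⟩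

theorem conj_pow_inv (hζ : IsPrimitiveRoot ζ N) (hN : 0 < N) (a : ℕ) :
    conj ((ζ ^ a)⁻¹) = ζ ^ a := by
  have h1 : (ζ ^ a) ^ N = 1 := by rw [← pow_mul, mul_comm, pow_mul, hζ.pow_eq_one, one_pow]
  rw [inv_eq_conj_of_pow_eq_one hN h1, Complex.conj_conj]

theorem pow_sub_mul_inv (hζ : IsPrimitiveRoot ζ N) {k : ℕ} (hk : k ≤ N) (l : ℕ) :
    (ζ ^ ((N - k) * l))⁻¹ = ζ ^ (k * l) := by
  apply inv_eq_of_mul_eq_one_left
  rw [← pow_add, ← add_mul, show k + (N - k) = N by omega, pow_mul, hζ.pow_eq_one, one_pow]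

/-- symmetry of the coefficients of a real valued function -/
theorem coef_sub (hζ : IsPrimitiveRoot ζ N) (hN : 0 < N) (f : ℕ → ℂ)
    (hf : ∀ l, conj (f l) = f l) {k : ℕ} (hk : k ≤ N) :
    coef N ζ f (N - k) = conj (coef N ζ f k) := by
  unfold coef
  rw [map_mul, map_inv₀, Complex.conj_natCast, map_sum]
  congr 1
  apply Finset.sum_congr rfl
  intro l _
  rw [map_mul, hf l, conj_pow_inv hζ hN, pow_sub_mul_inv hζ hk]

/-- the values of `f` from the shape of its coefficients -/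
theorem apply_eq_sum_of_coef (hζ : IsPrimitiveRoot ζ N) (hN : 0 < N) (f : ℕ → ℂ) (c₀ : ℂ)
    (e : ℕ → ℂ) (hce : ∀ k < N, coef N ζ f k = c₀ + e k) {l : ℕ} (h0 : 0 < l) (hl : l < N) :
    f l = ∑ k ∈ Finset.range N, e k * ζ ^ (k * l) := by
  rw [← sum_coef_mul hζ hN f hl]
  have h1 : ∀ k ∈ Finset.range N, coef N ζ f k * ζ ^ (k * l)
      = c₀ * (ζ ^ (l * k) * (ζ ^ (0 * k))⁻¹) + e k * ζ ^ (k * l) := by
    intro k hk
    rw [hce k (Finset.mem_range.mp hk), mul_comm l k]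
    simp only [zero_mul, pow_zero, inv_one, mul_one]
    ring
  rw [Finset.sum_congr rfl h1, Finset.sum_add_distrib, ← Finset.mul_sum,
    sum_pow_mul_inv hζ hN, if_neg, mul_zero, zero_add]
  intro hmod
  have := Nat.ModEq.eq_of_lt_of_lt hmod hl hN
  omega

theorem pow_half (hζ : IsPrimitiveRoot ζ N) {m : ℕ} (hm : N = 2 * m) (hN : 0 < N) :
    ζ ^ m = -1 := by
  have h1 : (ζ ^ m) ^ 2 = 1 := by rw [← pow_mul, mul_comm, ← hm, hζ.pow_eq_one]
  have h2 : ζ ^ m ≠ 1 := by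
    intro h
    have := (hζ.pow_eq_one_iff_dvd m).mp h
    have := Nat.le_of_dvd (by omega) this
    omega
  have h3 : (ζ ^ m - 1) * (ζ ^ m + 1) = 0 := by
    have : (ζ ^ m - 1) * (ζ ^ m + 1) = (ζ ^ m) ^ 2 - 1 := by ring
    rw [this, h1, sub_self]
  rcases mul_eq_zero.mp h3 with h | h
  · exact absurd (sub_eq_zero.mp h) h2
  · exact eq_neg_of_add_eq_zero_left h

end fourier

end Cfsg.Agent.Lib.Helper6.Dih
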