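import Mathlib
import Cfsg.Agent.Lib.Helper6.Dih1

/-! # Dihedral subgroups from a presentation; reflections -/

set_option autoImplicit false
set_option linter.unusedSectionVars false

namespace Cfsg.Agent.Lib.Helper6.Dih

section presentation

variable {G : Type*} [Group G]

theorem DihData.of_presentation {P : Subgroup G} {σ τ : G} {N : ℕ} (hN : 4 ≤ N)
    (hσ : σ ∈ P) (hτ : τ ∈ P) (hσo : orderOf σ = N) (hτo : orderOf τ = 2)
    (hrel : τ * σ * τ⁻¹ = σ⁻¹) (hgen : Subgroup.closure ({σ, τ} : Set G) = P) :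
    DihData P σ N ∧ τ ∉ Subgroup.zpowers σ := by
  have hττ : τ * τ = 1 := by
    have h1 := pow_orderOf_eq_one τ
    rw [hτo, pow_two] at h1
    exact h1
  have hτinv : τ⁻¹ = τ := inv_eq_of_mul_eq_one_left hττ
  have hinvZ : ∀ s ∈ Subgroup.zpowers σ, τ * s * τ⁻¹ = s⁻¹ := by
    intro s hs
    obtain ⟨k, rfl⟩ := Subgroup.mem_zpowers_iff.mp hs
    rw [← conj_zpow, hrel, inv_zpow]
  have hτZ : τ ∉ Subgroup.zpowers σ := by
    intro hmem
    have hc : τ * σ = σ * τ := DihData.comm_of_mem hmem (Subgroup.mem_zpowers σ)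
    have h1 : τ * σ * τ⁻¹ = σ := by rw [hc, mul_inv_cancel_right]
    rw [hrel] at h1
    have h2 : σ * σ = 1 := by
      have h3 := mul_inv_cancel σ
      rwa [h1] at h3
    have h4 : orderOf σ ∣ 2 := orderOf_dvd_of_pow_eq_one (by rw [pow_two]; exact h2)
    rw [hσo] at h4
    have := Nat.le_of_dvd (by norm_num) h4
    omega
  have hrefl : ∀ w, w * τ ∈ Subgroup.zpowers σ → w * w = 1 := by
    intro w hw
    have h1 := hinvZ _ hw
    rw [hτinv] at h1
    have h2 : τ * w = (w * τ)⁻¹ := by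
      rw [← h1]
      simp [mul_assoc, hττ]
    rw [mul_inv_rev, hτinv] at h2
    have h3 : w = w⁻¹ := mul_left_cancel h2
    calc w * w = w * w⁻¹ := by rw [← h3]
      _ = 1 := mul_inv_cancel w
  have hclaim : ∀ g ∈ P, g ∈ Subgroup.zpowers σ ∨ g * τ ∈ Subgroup.zpowers σ := by
    intro g hg
    rw [← hgen] at hg
    refine Subgroup.closure_induction
      (p := fun g _ => g ∈ Subgroup.zpowers σ ∨ g * τ ∈ Subgroup.zpowers σ) ?_ ?_ ?_ ?_ hg
    · intro x hx
      rcases hx with h | h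
      · rw [h]; exact Or.inl (Subgroup.mem_zpowers _)
      · rw [Set.mem_singleton_iff.mp h]
        right; rw [hττ]; exact one_mem _
    · exact Or.inl (one_mem _)
    · intro x y _ _ hx hy
      rcases hx with hx | hx <;> rcases hy with hy | hy
      · exact Or.inl (mul_mem hx hy)
      · right; rw [mul_assoc]; exact mul_mem hx hy
      · right
        have h1 := hinvZ y hy
        rw [hτinv] at h1
        have h2 : x * y * τ = (x * τ) * (τ * y * τ) := by
          calc x * y * τ = x * (τ * τ) * y * τ := by rw [hττ, mul_one]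
            _ = (x * τ) * (τ * y * τ) := by group
        rw [h2, h1]
        exact mul_mem hx (inv_mem hy)
      · left
        have hyinv : y⁻¹ = y := inv_eq_of_mul_eq_one_left (hrefl y hy)
        have h2 : x * y = (x * τ) * (y * τ)⁻¹ := by
          calc x * y = x * y⁻¹ := by rw [hyinv]
            _ = (x * τ) * (y * τ)⁻¹ := by group
        rw [h2]
        exact mul_mem hx (inv_mem hy)
    · intro x _ hx
      rcases hx with hx | hx
      · exact Or.inl (inv_mem hx)
      · right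
        have hxinv : x⁻¹ = x := inv_eq_of_mul_eq_one_left (hrefl x hx)
        rw [hxinv]; exact hx
  have hZP : Subgroup.zpowers σ ≤ P := Subgroup.zpowers_le.mpr hσ
  refine ⟨⟨hN, hσ, hσo, ?_, ?_⟩, hτZ⟩
  · have hidx : ((Subgroup.zpowers σ).subgroupOf P).index = 2 := by
      rw [Subgroup.index_eq_two_iff]
      refine ⟨⟨τ, hτ⟩, fun b => ?_⟩
      simp only [Subgroup.mem_subgroupOf, Subgroup.coe_mul]
      rcases hclaim b b.2 with hb | hb
      · right
        refine ⟨hb, fun hbτ => hτZ ?_⟩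
        have h1 := mul_mem (inv_mem hb) hbτ
        rwa [inv_mul_cancel_left] at h1
      · left
        refine ⟨hb, fun hb' => hτZ ?_⟩
        have h1 := mul_mem (inv_mem hb') hb
        rwa [inv_mul_cancel_left] at h1
    have h1 := Subgroup.card_mul_index ((Subgroup.zpowers σ).subgroupOf P)
    have h2 : Nat.card ((Subgroup.zpowers σ).subgroupOf P) = Nat.card (Subgroup.zpowers σ) :=
      Nat.card_congr (Subgroup.subgroupOfEquivOfLe hZP).toEquiv
    rw [hidx, h2, Nat.card_zpowers, hσo] at h1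
    omega
  · intro t ht hts
    have hs := (hclaim t ht).resolve_left hts
    refine ⟨?_, hrefl t hs⟩
    have ht' : t = (t * τ) * τ := by rw [mul_assoc, hττ, mul_one]
    have hcomm : (t * τ) * σ⁻¹ = σ⁻¹ * (t * τ) :=
      DihData.comm_of_mem hs (inv_mem (Subgroup.mem_zpowers σ))
    have hrel' : τ⁻¹ * σ * τ = σ⁻¹ := by
      have h5 := hrel
      rw [hτinv] at h5
      rw [hτinv]
      exact h5
    calc t * σ * t⁻¹ = (t * τ) * (τ⁻¹ * σ * τ) * (t * τ)⁻¹ := by group
      _ = (t * τ) * σ⁻¹ * (t * τ)⁻¹ := by rw [hrel']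
      _ = σ⁻¹ := by rw [hcomm, mul_inv_cancel_right]

end presentation

section reflections

variable {G : Type*} [Group G] {P : Subgroup G} {σ : G} {N : ℕ}

namespace DihData

/-- conjugating a reflection by a rotation -/
theorem conj_refl (h : DihData P σ N) {t s : G} (ht : t ∈ P) (hts : t ∉ Subgroup.zpowers σ)
    (hs : s ∈ Subgroup.zpowers σ) : s * t * s⁻¹ = s * s * t := by
  have h1 := h.conj_mem ht hts (inv_mem hs)
  rw [inv_inv] at h1
  have h2 : t * s⁻¹ = s * t := by
    calc t * s⁻¹ = (t * s⁻¹ * t⁻¹) * t := by group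
      _ = s * t := by rw [h1]
  rw [mul_assoc s t s⁻¹, h2, ← mul_assoc]

/-- conjugating a reflection by the inverse of a rotation -/
theorem inv_conj_refl (h : DihData P σ N) {t s : G} (ht : t ∈ P)
    (hts : t ∉ Subgroup.zpowers σ) (hs : s ∈ Subgroup.zpowers σ) :
    s⁻¹ * t * s = t * s * s := by
  have h1 := h.conj_mem ht hts hs
  have h2 : s⁻¹ * t = t * s := by
    calc s⁻¹ * t = (t * s * t⁻¹) * t := by rw [h1]
      _ = t * s := by group
  rw [h2]

theorem refl_mul_self (h : DihData P σ N) {t : G} (ht : t ∈ P)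
    (hts : t ∉ Subgroup.zpowers σ) : t * t = 1 := (h.inv t ht hts).2

theorem refl_inv (h : DihData P σ N) {t : G} (ht : t ∈ P)
    (hts : t ∉ Subgroup.zpowers σ) : t⁻¹ = t :=
  inv_eq_of_mul_eq_one_left (h.refl_mul_self ht hts)

theorem refl_mul_refl_mem (h : DihData P σ N) {t t' : G} (ht : t ∈ P) (ht' : t' ∈ P)
    (hts : t ∉ Subgroup.zpowers σ) (hts' : t' ∉ Subgroup.zpowers σ) :
    t * t' ∈ Subgroup.zpowers σ := by
  have h1 := h.inv_mul_mem ht ht' hts hts'
  rwa [h.refl_inv ht hts] at h1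

/-- a rotation times a reflection is a reflection -/
theorem mul_refl_not_mem {t s : G} (hts : t ∉ Subgroup.zpowers σ)
    (hs : s ∈ Subgroup.zpowers σ) : s * t ∉ Subgroup.zpowers σ := by
  intro hmem
  apply hts
  have h1 := mul_mem (inv_mem hs) hmem
  rwa [inv_mul_cancel_left] at h1

/-- a conjugate of a reflection by an element of `P` is a reflection -/
theorem conj_not_mem (h : DihData P σ N) {t g : G} (hg : g ∈ P)
    (hts : t ∉ Subgroup.zpowers σ) : g * t * g⁻¹ ∉ Subgroup.zpowers σ := by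
  intro hmem
  apply hts
  by_cases hgs : g ∈ Subgroup.zpowers σ
  · have h1 := mul_mem (mul_mem (inv_mem hgs) hmem) hgs
    have h2 : g⁻¹ * (g * t * g⁻¹) * g = t := by group
    rwa [h2] at h1
  · -- `g` inverts the rotations
    have h1 := h.conj_mem hg hgs (inv_mem hmem)
    -- g * (g t g⁻¹)⁻¹ * g⁻¹ = g t g⁻¹
    have h2 : g⁻¹ * (g * t * g⁻¹) * g = t := by group
    have h3 : g⁻¹ * (g * t * g⁻¹) * g ∈ Subgroup.zpowers σ := by
      have h4 : g⁻¹ * (g * t * g⁻¹) * g = g⁻¹ * (g * t * g⁻¹) * g⁻¹⁻¹ := by rw [inv_inv]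
      rw [h4]
      have hg' : g⁻¹ ∈ P := inv_mem hg
      have hgs' : g⁻¹ ∉ Subgroup.zpowers σ := fun hh => hgs (by simpa using inv_mem hh)
      rw [h.conj_mem hg' hgs' hmem]
      exact inv_mem hmem
    rwa [h2] at h3

/-- every reflection is conjugate under `⟨σ⟩` to `τ` or to `σ τ` -/
theorem exists_conj_refl [Finite G] (h : DihData P σ N) {Nh : ℕ} (hN2 : N = 2 * Nh) {t τ : G}
    (ht : t ∈ P) (hts : t ∉ Subgroup.zpowers σ) (hτ : τ ∈ P)
    (hτs : τ ∉ Subgroup.zpowers σ) :
    ∃ i : ℕ, σ ^ i * t * (σ ^ i)⁻¹ = τ ∨ σ ^ i * t * (σ ^ i)⁻¹ = σ * τ := by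
  have hs := h.refl_mul_refl_mem ht hτ hts hτs
  obtain ⟨a, ha, hpa⟩ := h.exists_pow hs
  have hττ := h.refl_mul_self hτ hτs
  have ht' : t = σ ^ a * τ := by rw [hpa, mul_assoc, hττ, mul_one]
  have hconj : ∀ i : ℕ, σ ^ i * t * (σ ^ i)⁻¹ = σ ^ (i + i + a) * τ := by
    intro i
    rw [h.conj_refl ht hts (pow_mem i), ht', ← pow_add, ← mul_assoc, ← pow_add]
  rcases Nat.even_or_odd' a with ⟨a', ha' | ha'⟩
  · refine ⟨N - a', Or.inl ?_⟩
    rw [hconj, show N - a' + (N - a') + a = N * 2 by omega, pow_mul, h.pow_N, one_pow, one_mul]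
  · refine ⟨N - a', Or.inr ?_⟩
    rw [hconj, show N - a' + (N - a') + a = N * 2 + 1 by omega, pow_succ, pow_mul, h.pow_N,
      one_pow, one_mul]

/-- `τ` and `σ τ` are not conjugate in `P` -/
theorem not_conj_refl (h : DihData P σ N) [Finite G] {Nh : ℕ} (hN2 : N = 2 * Nh) {τ g : G}
    (hτ : τ ∈ P) (hτs : τ ∉ Subgroup.zpowers σ) (hg : g ∈ P) :
    g * τ * g⁻¹ ≠ σ * τ := by
  have hkey : ∀ s ∈ Subgroup.zpowers σ, s * τ * s⁻¹ ≠ σ * τ := by
    intro s hs hcon
    rw [h.conj_refl hτ hτs hs] at hcon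
    have h1 : s * s = σ := mul_right_cancel hcon
    obtain ⟨i, hi, rfl⟩ := h.exists_pow hs
    rw [← pow_add] at h1
    have h2 : σ ^ (i + i + (N - 1)) = 1 := by
      rw [pow_add, h1, ← pow_succ', show N - 1 + 1 = N by have := h.four_le; omega, h.pow_N]
    have h3 := (h.pow_eq_one_iff _).mp h2
    have h4 : 2 ∣ i + i + (N - 1) := (Dvd.intro Nh hN2.symm).trans h3
    have := h.four_le
    omega
  by_cases hgs : g ∈ Subgroup.zpowers σ
  · exact hkey g hgs
  · have hs := h.refl_mul_refl_mem hg hτ hgs hτs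
    have hττ := h.refl_mul_self hτ hτs
    have h1 : g * τ * g⁻¹ = (g * τ) * τ * (g * τ)⁻¹ := by group
    rw [h1]
    exact hkey _ hs

end DihData

end reflections

end Cfsg.Agent.Lib.Helper6.Dih
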