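import Mathlib
import Cfsg.Agent.Lib.Helper6.Dih4
import Cfsg.Agent.Lib.Helper6.Dih9
import Cfsg.Agent.Lib.Helper6.Dih11
import Cfsg.Agent.Lib.Helper6.BlkOrth2

/-! # Counting pairs of involutions in a group with dihedral Sylow `2`-subgroups and one class
of involutions, weighted by a class function `Ψ` supported on `2`-singular elements -/

set_option autoImplicit false
set_option linter.unusedSectionVars false
set_option linter.unusedVariables false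

namespace Cfsg.Agent.Lib.Helper6.Dih

open Cfsg.Agent.Lib.Helper6
open Classical

/-- the hypotheses of the counting argument -/
structure CountSetup {G : Type*} [Group G] (P : Subgroup G) (σ τ : G) (N Nh : ℕ) (ζ : ℂ)
    (Ψ : G → ℂ) (q : G → G) : Prop where
  dih : DihData P σ N
  half : N = 2 * Nh
  two_group : ∀ a ∈ P, ∃ k : ℕ, orderOf a = 2 ^ k
  τ_mem : τ ∈ P
  τ_not : τ ∉ Subgroup.zpowers σ
  prim : IsPrimitiveRoot ζ N
  Ψ_class : ∀ g c : G, Ψ (c * g * c⁻¹) = Ψ g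
  Ψ_odd : ∀ ρ : G, Odd (orderOf ρ) → Ψ ρ = 0
  Ψ_pow : ∀ l : ℕ, Ψ (σ ^ l) = 2 - ζ ^ l - (ζ ^ l)⁻¹
  Ψ_mul : ∀ u v : G, (∃ k : ℕ, orderOf u = 2 ^ k) → u ≠ 1 → u * v = v * u →
    Odd (orderOf v) → Ψ (u * v) = Ψ u
  q_mem : ∀ g ∈ Subgroup.centralizer ({σ ^ Nh} : Set G), q g ∈ P
  q_mul : ∀ g ∈ Subgroup.centralizer ({σ ^ Nh} : Set G),
    ∀ h ∈ Subgroup.centralizer ({σ ^ Nh} : Set G), q (g * h) = q g * q h
  q_id : ∀ a ∈ P, q a = a
  q_odd : ∀ g ∈ Subgroup.centralizer ({σ ^ Nh} : Set G), q g = 1 → Odd (orderOf g)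
  syl : ∀ u ∈ Subgroup.centralizer ({σ ^ Nh} : Set G), (∃ k : ℕ, orderOf u = 2 ^ k) →
    ∃ c ∈ Subgroup.centralizer ({σ ^ Nh} : Set G), c * u * c⁻¹ ∈ P
  fus : ∀ x : G, orderOf x = 2 → ∃ c : G, c * σ ^ Nh * c⁻¹ = x

/-- the involutions of `C(J)` mapping to reflections -/
def IsRefl {G : Type*} [Group G] (σ : G) (Nh : ℕ) (q : G → G) (x : G) : Prop :=
  orderOf x = 2 ∧ x ∈ Subgroup.centralizer ({σ ^ Nh} : Set G) ∧ q x ∉ Subgroup.zpowers σ

section defs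

variable {G : Type*} [Group G] [Fintype G]

/-- pairs of involutions whose product has `z` among its powers -/
noncomputable def Fz (Ψ : G → ℂ) (z : G) : ℂ :=
  ∑ x : G, ∑ y : G,
    if orderOf x = 2 ∧ orderOf y = 2 ∧ z ∈ Subgroup.zpowers (x * y) then Ψ (x * y) else 0

/-- pairs of reflections -/
noncomputable def SR (σ : G) (Nh : ℕ) (q : G → G) (Ψ : G → ℂ) : ℂ :=
  ∑ x : G, ∑ y : G, if IsRefl σ Nh q x ∧ IsRefl σ Nh q y then Ψ (x * y) else 0

/-- all pairs of involutions -/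
noncomputable def T0 (Ψ : G → ℂ) : ℂ :=
  ∑ x : G, ∑ y : G, if orderOf x = 2 ∧ orderOf y = 2 then Ψ (x * y) else 0

theorem mem_zpowers_conj_iff (c z w : G) :
    c * z * c⁻¹ ∈ Subgroup.zpowers (c * w * c⁻¹) ↔ z ∈ Subgroup.zpowers w := by
  constructor
  · intro h
    obtain ⟨k, hk⟩ := Subgroup.mem_zpowers_iff.mp h
    rw [conj_zpow] at hk
    have h2 : c⁻¹ * (c * w ^ k * c⁻¹) * c = c⁻¹ * (c * z * c⁻¹) * c := by rw [hk]
    have e1 : c⁻¹ * (c * w ^ k * c⁻¹) * c = w ^ k := by group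
    have e2 : c⁻¹ * (c * z * c⁻¹) * c = z := by group
    rw [e1, e2] at h2
    exact Subgroup.mem_zpowers_iff.mpr ⟨k, h2⟩
  · intro h
    obtain ⟨k, hk⟩ := Subgroup.mem_zpowers_iff.mp h
    exact Subgroup.mem_zpowers_iff.mpr ⟨k, by rw [conj_zpow, hk]⟩

end defs

namespace CountSetup

variable {G : Type*} [Group G] [Fintype G] {P : Subgroup G} {σ τ : G} {N Nh : ℕ} {ζ : ℂ}
  {Ψ : G → ℂ} {q : G → G} (S : CountSetup P σ τ N Nh ζ Ψ q)

include S

theorem Nh_pos : 0 < Nh := by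
  have h1 := S.dih.four_le
  have h2 := S.half
  omega

theorem J_mem_Z : σ ^ Nh ∈ Subgroup.zpowers σ := DihData.pow_mem Nh

theorem J_mul_self : σ ^ Nh * σ ^ Nh = 1 := by
  rw [← pow_add, show Nh + Nh = N by have := S.half; omega, S.dih.pow_N]

theorem J_ne_one : σ ^ Nh ≠ 1 :=
  S.dih.pow_ne_one S.Nh_pos (by have := S.half; have := S.Nh_pos; omega)

theorem J_inv : (σ ^ Nh)⁻¹ = σ ^ Nh := inv_eq_of_mul_eq_one_left S.J_mul_self

theorem J_order : orderOf (σ ^ Nh) = 2 := orderOf_eq_two_of S.J_mul_self S.J_ne_one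

theorem J_mem_P : σ ^ Nh ∈ P := S.dih.zpowers_le S.J_mem_Z

theorem mem_C_iff {g : G} :
    g ∈ Subgroup.centralizer ({σ ^ Nh} : Set G) ↔ g * σ ^ Nh = σ ^ Nh * g :=
  Subgroup.mem_centralizer_singleton_iff

theorem P_le_C : P ≤ Subgroup.centralizer ({σ ^ Nh} : Set G) := by
  intro a ha
  rw [Subgroup.mem_centralizer_singleton_iff]
  by_cases haz : a ∈ Subgroup.zpowers σ
  · exact DihData.comm_of_mem haz S.J_mem_Z
  · have h1 := S.dih.conj_mem ha haz S.J_mem_Z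
    rw [S.J_inv] at h1
    calc a * σ ^ Nh = a * σ ^ Nh * a⁻¹ * a := by group
      _ = σ ^ Nh * a := by rw [h1]

theorem J_mem_C : σ ^ Nh ∈ Subgroup.centralizer ({σ ^ Nh} : Set G) := S.P_le_C S.J_mem_P

theorem q_one : q 1 = 1 := S.q_id 1 (one_mem P)

theorem q_inv {g : G} (hg : g ∈ Subgroup.centralizer ({σ ^ Nh} : Set G)) :
    q g⁻¹ = (q g)⁻¹ := by
  have h1 := S.q_mul g hg g⁻¹ (inv_mem hg)
  rw [mul_inv_cancel, S.q_one] at h1
  exact (inv_eq_of_mul_eq_one_right h1.symm).symm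

theorem q_conj {g c : G} (hg : g ∈ Subgroup.centralizer ({σ ^ Nh} : Set G))
    (hc : c ∈ Subgroup.centralizer ({σ ^ Nh} : Set G)) :
    q (c * g * c⁻¹) = q c * q g * (q c)⁻¹ := by
  rw [S.q_mul _ (mul_mem hc hg) _ (inv_mem hc), S.q_mul _ hc _ hg, S.q_inv hc]

theorem q_pow {g : G} (hg : g ∈ Subgroup.centralizer ({σ ^ Nh} : Set G)) (n : ℕ) :
    q (g ^ n) = q g ^ n := by
  induction n with
  | zero => rw [pow_zero, pow_zero]; exact S.q_one
  | succ n ih => rw [pow_succ, pow_succ, S.q_mul _ (pow_mem hg n) _ hg, ih]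

theorem q_of_odd {g : G} (hg : g ∈ Subgroup.centralizer ({σ ^ Nh} : Set G))
    (ho : Odd (orderOf g)) : q g = 1 := by
  obtain ⟨k, hk⟩ := S.two_group _ (S.q_mem g hg)
  have h1 : q g ^ orderOf g = 1 := by rw [← S.q_pow hg, pow_orderOf_eq_one, S.q_one]
  have h2 := orderOf_dvd_of_pow_eq_one h1
  rw [hk] at h2
  have h3 : Nat.Coprime (2 ^ k) (orderOf g) := Nat.Coprime.pow_left k ho.coprime_two_left
  have h4 : 2 ^ k = 1 := Nat.Coprime.eq_one_of_dvd h3 h2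
  rw [h4] at hk
  exact orderOf_eq_one_iff.mp hk

theorem q_J : q (σ ^ Nh) = σ ^ Nh := S.q_id _ S.J_mem_P

/-- `Ψ` on `C(J)` factors through the retraction -/
theorem Ψ_eq_q {g : G} (hg : g ∈ Subgroup.centralizer ({σ ^ Nh} : Set G)) :
    Ψ g = Ψ (q g) := by
  obtain ⟨v, hv, u, hu, hguv, hvo, huo⟩ := exists_pParts 2 Nat.prime_two g
  have hzC : Subgroup.zpowers g ≤ Subgroup.centralizer ({σ ^ Nh} : Set G) :=
    Subgroup.zpowers_le.mpr hg
  have hvC := hzC hv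
  have huC := hzC hu
  have hvodd : Odd (orderOf v) := Nat.odd_iff.mpr (by omega)
  have hqv : q v = 1 := S.q_of_odd hvC hvodd
  have hqg : q g = q u := by rw [hguv, S.q_mul v hvC u huC, hqv, one_mul]
  have hcomm : u * v = v * u := DihData.comm_of_mem hu hv
  have hΨ1 : Ψ 1 = 0 := S.Ψ_odd 1 (by rw [orderOf_one]; exact odd_one)
  by_cases hu1 : u = 1
  · rw [hqg, hu1, S.q_one, hΨ1, hguv, hu1, mul_one, S.Ψ_odd v hvodd]
  · have h1 : Ψ g = Ψ u := by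
      rw [hguv, ← hcomm]; exact S.Ψ_mul u v huo hu1 hcomm hvodd
    obtain ⟨c, hcC, hcP⟩ := S.syl u huC huo
    have h2 := S.q_id _ hcP
    rw [S.q_conj huC hcC] at h2
    rw [h1, hqg, ← S.Ψ_class u c, ← h2, S.Ψ_class]

theorem q_inv_ne_one {x : G} (hx : orderOf x = 2)
    (hxC : x ∈ Subgroup.centralizer ({σ ^ Nh} : Set G)) : q x ≠ 1 := by
  intro h
  have h1 := S.q_odd x hxC h
  rw [hx] at h1
  exact absurd h1 (by decide)

theorem q_inv_mul_self {x : G} (hx : orderOf x = 2)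
    (hxC : x ∈ Subgroup.centralizer ({σ ^ Nh} : Set G)) : q x * q x = 1 := by
  rw [← S.q_mul x hxC x hxC, mul_self_of_orderOf_two hx, S.q_one]

theorem mul_J_mul_self {x : G} (hx : x * x = 1)
    (hxC : x ∈ Subgroup.centralizer ({σ ^ Nh} : Set G)) :
    (x * σ ^ Nh) * (x * σ ^ Nh) = 1 := by
  have hcomm : x * σ ^ Nh = σ ^ Nh * x := S.mem_C_iff.mp hxC
  calc (x * σ ^ Nh) * (x * σ ^ Nh) = x * (σ ^ Nh * x) * σ ^ Nh := by group
    _ = x * (x * σ ^ Nh) * σ ^ Nh := by rw [hcomm]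
    _ = (x * x) * (σ ^ Nh * σ ^ Nh) := by group
    _ = 1 := by rw [hx, S.J_mul_self, one_mul]

theorem eq_J_of_q {x : G} (hx : orderOf x = 2)
    (hxC : x ∈ Subgroup.centralizer ({σ ^ Nh} : Set G)) (hq : q x = σ ^ Nh) :
    x = σ ^ Nh := by
  have hxJ : x * σ ^ Nh ∈ Subgroup.centralizer ({σ ^ Nh} : Set G) := mul_mem hxC S.J_mem_C
  have h1 : q (x * σ ^ Nh) = 1 := by
    rw [S.q_mul x hxC _ S.J_mem_C, hq, S.q_J, S.J_mul_self]
  have h2 := S.q_odd _ hxJ h1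
  have h3 := S.mul_J_mul_self (mul_self_of_orderOf_two hx) hxC
  have h4 : x * σ ^ Nh = 1 := by
    have h5 := pow_of_mul_self_of_odd h3 h2
    rw [pow_orderOf_eq_one] at h5
    exact h5.symm
  calc x = (σ ^ Nh)⁻¹ := eq_inv_of_mul_eq_one_left h4
    _ = σ ^ Nh := S.J_inv

theorem q_eq_J_of_mem {x : G} (hx : orderOf x = 2)
    (hxC : x ∈ Subgroup.centralizer ({σ ^ Nh} : Set G)) (hqZ : q x ∈ Subgroup.zpowers σ) :
    q x = σ ^ Nh := by
  have h := S.dih.eq_of_sq_eq_one hqZ (S.q_inv_mul_self hx hxC) (S.q_inv_ne_one hx hxC)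
  rw [h.1, show N / 2 = Nh by have := S.half; omega]

/-- pairs of involutions with `J` a power of the product consist of reflections -/
theorem isRefl_of_mem_zpowers {x y : G} (hx : orderOf x = 2) (hy : orderOf y = 2)
    (hJ : σ ^ Nh ∈ Subgroup.zpowers (x * y)) : IsRefl σ Nh q x ∧ IsRefl σ Nh q y := by
  obtain ⟨k, hk⟩ := Subgroup.mem_zpowers_iff.mp hJ
  have hxi := inv_of_orderOf_two hx
  have hyi := inv_of_orderOf_two hy
  have hxx := mul_self_of_orderOf_two hx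
  have hyy := mul_self_of_orderOf_two hy
  have hxC : x ∈ Subgroup.centralizer ({σ ^ Nh} : Set G) := by
    rw [S.mem_C_iff]
    have h1 : x * (x * y) * x⁻¹ = (x * y)⁻¹ := by
      calc x * (x * y) * x⁻¹ = (x * x) * y * x⁻¹ := by group
        _ = y⁻¹ * x⁻¹ := by rw [hxx, one_mul, hyi]
        _ = (x * y)⁻¹ := by rw [mul_inv_rev]
    have h2 : x * σ ^ Nh * x⁻¹ = σ ^ Nh := by
      rw [← hk, ← conj_zpow, h1, inv_zpow, hk, S.J_inv]
    calc x * σ ^ Nh = x * σ ^ Nh * x⁻¹ * x := by group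
      _ = σ ^ Nh * x := by rw [h2]
  have hyC : y ∈ Subgroup.centralizer ({σ ^ Nh} : Set G) := by
    rw [S.mem_C_iff]
    have h1 : y * (x * y) * y⁻¹ = (x * y)⁻¹ := by
      calc y * (x * y) * y⁻¹ = y * x := by group
        _ = y⁻¹ * x⁻¹ := by rw [hyi, hxi]
        _ = (x * y)⁻¹ := by rw [mul_inv_rev]
    have h2 : y * σ ^ Nh * y⁻¹ = σ ^ Nh := by
      rw [← hk, ← conj_zpow, h1, inv_zpow, hk, S.J_inv]
    calc y * σ ^ Nh = y * σ ^ Nh * y⁻¹ * y := by group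
      _ = σ ^ Nh * y := by rw [h2]
  refine ⟨⟨hx, hxC, ?_⟩, ⟨hy, hyC, ?_⟩⟩
  · intro hqZ
    have hxJ := S.eq_J_of_q hx hxC (S.q_eq_J_of_mem hx hxC hqZ)
    rw [hxJ] at hk
    have hcomm : y * σ ^ Nh = σ ^ Nh * y := S.mem_C_iff.mp hyC
    have hsq : (σ ^ Nh * y) * (σ ^ Nh * y) = 1 := by
      rw [← hcomm]; exact S.mul_J_mul_self hyy hyC
    rcases zpow_of_mul_self hsq k with h | h
    · rw [h] at hk; exact S.J_ne_one hk.symm
    · rw [h] at hk
      have : y = 1 := by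
        have h3 : σ ^ Nh * y = σ ^ Nh * 1 := by rw [hk, mul_one]
        exact mul_left_cancel h3
      exact ne_one_of_orderOf_two hy this
  · intro hqZ
    have hyJ := S.eq_J_of_q hy hyC (S.q_eq_J_of_mem hy hyC hqZ)
    rw [hyJ] at hk
    have hsq := S.mul_J_mul_self hxx hxC
    rcases zpow_of_mul_self hsq k with h | h
    · rw [h] at hk; exact S.J_ne_one hk.symm
    · rw [h] at hk
      have : x = 1 := by
        have h3 : x * σ ^ Nh = 1 * σ ^ Nh := by rw [hk, one_mul]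
        exact mul_right_cancel h3
      exact ne_one_of_orderOf_two hx this

/-- for a pair of reflections with `Ψ (x y) ≠ 0`, `J` is a power of `x y` -/
theorem mem_zpowers_of_Ψ_ne_zero {x y : G} (hx : IsRefl σ Nh q x) (hy : IsRefl σ Nh q y)
    (hΨ : Ψ (x * y) ≠ 0) : σ ^ Nh ∈ Subgroup.zpowers (x * y) := by
  obtain ⟨hx2, hxC, hxZ⟩ := hx
  obtain ⟨hy2, hyC, hyZ⟩ := hy
  have hxyC : x * y ∈ Subgroup.centralizer ({σ ^ Nh} : Set G) := mul_mem hxC hyC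
  have htt := S.dih.refl_mul_refl_mem (S.q_mem x hxC) (S.q_mem y hyC) hxZ hyZ
  have hΨ' : Ψ (x * y) = Ψ (q x * q y) := by rw [S.Ψ_eq_q hxyC, S.q_mul x hxC y hyC]
  have hΨ1 : Ψ 1 = 0 := S.Ψ_odd 1 (by rw [orderOf_one]; exact odd_one)
  have hne : q x * q y ≠ 1 := by
    intro h; apply hΨ; rw [hΨ', h]; exact hΨ1
  obtain ⟨e, he⟩ := S.two_group _ (S.dih.zpowers_le htt)
  have he0 : e ≠ 0 := by
    intro h0
    rw [h0, pow_zero] at he
    exact hne (orderOf_eq_one_iff.mp he)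
  have hw1 : (q x * q y) ^ (2 ^ (e - 1)) * (q x * q y) ^ (2 ^ (e - 1)) = 1 := by
    rw [← pow_add, ← two_mul, ← pow_succ', show e - 1 + 1 = e by omega, ← he,
      pow_orderOf_eq_one]
  have hw2 : (q x * q y) ^ (2 ^ (e - 1)) ≠ 1 :=
    pow_ne_one_of_lt_orderOf (by positivity)
      (by rw [he]; exact Nat.pow_lt_pow_right (by norm_num) (by omega))
  have hwZ : (q x * q y) ^ (2 ^ (e - 1)) ∈ Subgroup.zpowers σ := pow_mem htt _
  have hwJ := (S.dih.eq_of_sq_eq_one hwZ hw1 hw2).1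
  rw [show N / 2 = Nh by have := S.half; omega] at hwJ
  have hgC : (x * y) ^ (2 ^ (e - 1)) ∈ Subgroup.centralizer ({σ ^ Nh} : Set G) :=
    pow_mem hxyC _
  have hqg : q ((x * y) ^ (2 ^ (e - 1))) = σ ^ Nh := by
    rw [S.q_pow hxyC, S.q_mul x hxC y hyC]; exact hwJ
  have hgJ : (x * y) ^ (2 ^ (e - 1)) * σ ^ Nh ∈ Subgroup.centralizer ({σ ^ Nh} : Set G) :=
    mul_mem hgC S.J_mem_C
  have h1 : q ((x * y) ^ (2 ^ (e - 1)) * σ ^ Nh) = 1 := by
    rw [S.q_mul _ hgC _ S.J_mem_C, hqg, S.q_J, S.J_mul_self]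
  have hodd := S.q_odd _ hgJ h1
  have hcomm : Commute ((x * y) ^ (2 ^ (e - 1))) (σ ^ Nh) := S.mem_C_iff.mp hgC
  have h2 := pow_orderOf_eq_one ((x * y) ^ (2 ^ (e - 1)) * σ ^ Nh)
  rw [hcomm.mul_pow, pow_of_mul_self_of_odd S.J_mul_self hodd] at h2
  have h3 : ((x * y) ^ (2 ^ (e - 1))) ^ orderOf ((x * y) ^ (2 ^ (e - 1)) * σ ^ Nh)
      = σ ^ Nh := (eq_inv_of_mul_eq_one_left h2).trans S.J_inv
  rw [← h3, ← pow_mul]
  exact Subgroup.npow_mem_zpowers _ _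

theorem Fz_J : Fz Ψ (σ ^ Nh) = SR σ Nh q Ψ := by
  unfold Fz SR
  apply Finset.sum_congr rfl
  intro x _
  apply Finset.sum_congr rfl
  intro y _
  by_cases h1 : orderOf x = 2 ∧ orderOf y = 2 ∧ σ ^ Nh ∈ Subgroup.zpowers (x * y)
  · rw [if_pos h1, if_pos (S.isRefl_of_mem_zpowers h1.1 h1.2.1 h1.2.2)]
  · rw [if_neg h1]
    by_cases h2 : IsRefl σ Nh q x ∧ IsRefl σ Nh q y
    · rw [if_pos h2]
      by_contra hne
      exact h1 ⟨h2.1.1, h2.2.1, S.mem_zpowers_of_Ψ_ne_zero h2.1 h2.2 (Ne.symm hne)⟩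
    · rw [if_neg h2]

theorem isRefl_conj {y s : G} (hy : IsRefl σ Nh q y) (hs : s ∈ Subgroup.zpowers σ) :
    IsRefl σ Nh q (s * y * s⁻¹) := by
  obtain ⟨hy2, hyC, hyZ⟩ := hy
  have hsP := S.dih.zpowers_le hs
  have hsC := S.P_le_C hsP
  refine ⟨by rw [orderOf_conj']; exact hy2, mul_mem (mul_mem hsC hyC) (inv_mem hsC), ?_⟩
  rw [S.q_conj hyC hsC, S.q_id s hsP]
  exact S.dih.conj_not_mem hsP hyZ

theorem sum_inner {x y : G} (hx : IsRefl σ Nh q x) (hy : IsRefl σ Nh q y) :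
    ∑ i ∈ Finset.range Nh, Ψ (x * ((σ ^ i)⁻¹ * y * σ ^ i)) = (N : ℂ) := by
  obtain ⟨hx2, hxC, hxZ⟩ := hx
  obtain ⟨hy2, hyC, hyZ⟩ := hy
  have htP := S.q_mem x hxC
  have htP' := S.q_mem y hyC
  obtain ⟨a, ha, hpa⟩ := S.dih.exists_pow (S.dih.refl_mul_refl_mem htP htP' hxZ hyZ)
  have hterm : ∀ i : ℕ, Ψ (x * ((σ ^ i)⁻¹ * y * σ ^ i))
      = 2 - ζ ^ a * (ζ ^ 2) ^ i - (ζ ^ a)⁻¹ * ((ζ ^ 2)⁻¹) ^ i := by
    intro i
    have hsP : σ ^ i ∈ P := S.dih.zpowers_le (DihData.pow_mem i)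
    have hsC := S.P_le_C hsP
    have heC : (σ ^ i)⁻¹ * y * σ ^ i ∈ Subgroup.centralizer ({σ ^ Nh} : Set G) :=
      mul_mem (mul_mem (inv_mem hsC) hyC) hsC
    rw [S.Ψ_eq_q (mul_mem hxC heC), S.q_mul x hxC _ heC,
      S.q_mul _ (mul_mem (inv_mem hsC) hyC) _ hsC, S.q_mul _ (inv_mem hsC) _ hyC,
      S.q_inv hsC, S.q_id _ hsP, S.dih.inv_conj_refl htP' hyZ (DihData.pow_mem i)]
    have h1 : q x * (q y * σ ^ i * σ ^ i) = σ ^ (a + i + i) := by
      rw [pow_add, pow_add, hpa]; group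
    rw [h1, S.Ψ_pow]
    have hz : ζ ^ (a + i + i) = ζ ^ a * (ζ ^ 2) ^ i := by ring
    rw [hz, mul_inv, inv_pow]
  rw [Finset.sum_congr rfl (fun i _ => hterm i), Finset.sum_sub_distrib,
    Finset.sum_sub_distrib, ← Finset.mul_sum, ← Finset.mul_sum]
  have hz2 : (ζ ^ 2) ^ Nh = 1 := by rw [← pow_mul, ← S.half, S.prim.pow_eq_one]
  have hz2ne : ζ ^ 2 ≠ 1 := by
    intro h
    have h3 := (S.prim.pow_eq_one_iff_dvd 2).mp h
    have h4 := Nat.le_of_dvd (by norm_num) h3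
    have h5 := S.dih.four_le
    omega
  have hz2' : ((ζ ^ 2)⁻¹) ^ Nh = 1 := by rw [inv_pow, hz2, inv_one]
  have hz2ne' : (ζ ^ 2)⁻¹ ≠ 1 := by
    intro h; apply hz2ne; exact inv_eq_one.mp h
  rw [sum_pow_of_pow_eq_one hz2, sum_pow_of_pow_eq_one hz2', if_neg hz2ne, if_neg hz2ne',
    Finset.sum_const, Finset.card_range, nsmul_eq_mul, mul_zero, mul_zero, sub_zero, sub_zero,
    S.half]
  push_cast
  ring

theorem SR_shift (i : ℕ) : SR σ Nh q Ψ = ∑ x : G, ∑ y : G,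
    if IsRefl σ Nh q x ∧ IsRefl σ Nh q y then Ψ (x * ((σ ^ i)⁻¹ * y * σ ^ i)) else 0 := by
  unfold SR
  apply Finset.sum_congr rfl
  intro x _
  refine (Equiv.sum_comp ((Equiv.mulLeft (σ ^ i)⁻¹).trans (Equiv.mulRight (σ ^ i)))
    (fun y => if IsRefl σ Nh q x ∧ IsRefl σ Nh q y then Ψ (x * y) else 0)).symm.trans ?_
  apply Finset.sum_congr rfl
  intro y _
  show (if IsRefl σ Nh q x ∧ IsRefl σ Nh q ((σ ^ i)⁻¹ * y * σ ^ i)
    then Ψ (x * ((σ ^ i)⁻¹ * y * σ ^ i)) else 0) = _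
  have hiff : IsRefl σ Nh q ((σ ^ i)⁻¹ * y * σ ^ i) ↔ IsRefl σ Nh q y := by
    constructor
    · intro h
      have h1 := S.isRefl_conj h (DihData.pow_mem i)
      have e : σ ^ i * ((σ ^ i)⁻¹ * y * σ ^ i) * (σ ^ i)⁻¹ = y := by group
      rwa [e] at h1
    · intro h
      have h1 := S.isRefl_conj h (inv_mem (DihData.pow_mem i))
      rwa [inv_inv] at h1
  by_cases h1 : IsRefl σ Nh q x ∧ IsRefl σ Nh q y
  · rw [if_pos h1, if_pos ⟨h1.1, hiff.mpr h1.2⟩]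
  · rw [if_neg h1, if_neg (fun h => h1 ⟨h.1, hiff.mp h.2⟩)]

theorem SR_eq : (Nh : ℂ) * SR σ Nh q Ψ
    = (N : ℂ) * ((Finset.univ.filter (IsRefl σ Nh q)).card : ℂ) ^ 2 := by
  have h1 : (Nh : ℂ) * SR σ Nh q Ψ = ∑ i ∈ Finset.range Nh, SR σ Nh q Ψ := by
    rw [Finset.sum_const, Finset.card_range, nsmul_eq_mul]
  rw [h1, Finset.sum_congr rfl (fun i _ => S.SR_shift i), Finset.sum_comm]
  have h2 : ∀ x : G, ∑ i ∈ Finset.range Nh, ∑ y : G,
      (if IsRefl σ Nh q x ∧ IsRefl σ Nh q y then Ψ (x * ((σ ^ i)⁻¹ * y * σ ^ i)) else 0)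
      = ∑ y : G, if IsRefl σ Nh q x ∧ IsRefl σ Nh q y then (N : ℂ) else 0 := by
    intro x
    rw [Finset.sum_comm]
    apply Finset.sum_congr rfl
    intro y _
    by_cases h : IsRefl σ Nh q x ∧ IsRefl σ Nh q y
    · simp only [if_pos h]
      exact S.sum_inner h.1 h.2
    · simp only [if_neg h]
      exact Finset.sum_const_zero
  rw [Finset.sum_congr rfl (fun x _ => h2 x)]
  have h3 : ∀ x : G, ∑ y : G, (if IsRefl σ Nh q x ∧ IsRefl σ Nh q y then (N : ℂ) else 0)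
      = if IsRefl σ Nh q x
        then (N : ℂ) * ((Finset.univ.filter (IsRefl σ Nh q)).card : ℂ) else 0 := by
    intro x
    by_cases hx : IsRefl σ Nh q x
    · rw [if_pos hx]
      simp only [hx, true_and]
      rw [← Finset.sum_filter, Finset.sum_const, nsmul_eq_mul, mul_comm]
    · rw [if_neg hx]
      simp only [hx, false_and, if_false]
      exact Finset.sum_const_zero
  rw [Finset.sum_congr rfl (fun x _ => h3 x), ← Finset.sum_filter, Finset.sum_const,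
    nsmul_eq_mul]
  ring

theorem Fz_conj (c z : G) : Fz Ψ (c * z * c⁻¹) = Fz Ψ z := by
  unfold Fz
  have e1 : ∀ f : G → ℂ, ∑ x : G, f x = ∑ x : G, f (c * x * c⁻¹) := fun f =>
    (Equiv.sum_comp (MulAut.conj c).toEquiv f).symm
  rw [e1]
  apply Finset.sum_congr rfl
  intro x _
  rw [e1]
  apply Finset.sum_congr rfl
  intro y _
  have h1 : c * x * c⁻¹ * (c * y * c⁻¹) = c * (x * y) * c⁻¹ := by group
  rw [h1]
  have hiff : (orderOf (c * x * c⁻¹) = 2 ∧ orderOf (c * y * c⁻¹) = 2 ∧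
      c * z * c⁻¹ ∈ Subgroup.zpowers (c * (x * y) * c⁻¹))
      ↔ (orderOf x = 2 ∧ orderOf y = 2 ∧ z ∈ Subgroup.zpowers (x * y)) := by
    rw [mem_zpowers_conj_iff, orderOf_conj', orderOf_conj']
  rw [S.Ψ_class]
  by_cases hc : orderOf x = 2 ∧ orderOf y = 2 ∧ z ∈ Subgroup.zpowers (x * y)
  · rw [if_pos hc, if_pos (hiff.mpr hc)]
  · rw [if_neg hc, if_neg (fun h => hc (hiff.mp h))]

theorem T0_eq_sum_Fz : T0 Ψ = ∑ z : G, if orderOf z = 2 then Fz Ψ z else 0 := by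
  have h1 : ∀ z : G, (if orderOf z = 2 then Fz Ψ z else 0)
      = ∑ x : G, ∑ y : G, if orderOf z = 2 ∧ orderOf x = 2 ∧ orderOf y = 2 ∧
          z ∈ Subgroup.zpowers (x * y) then Ψ (x * y) else 0 := by
    intro z
    by_cases hz : orderOf z = 2
    · rw [if_pos hz]; unfold Fz; simp only [hz, true_and]
    · rw [if_neg hz]; simp only [hz, false_and, if_false, Finset.sum_const_zero]
  rw [Finset.sum_congr rfl (fun z _ => h1 z), Finset.sum_comm]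
  unfold T0
  apply Finset.sum_congr rfl
  intro x _
  rw [Finset.sum_comm]
  apply Finset.sum_congr rfl
  intro y _
  symm
  by_cases hxy : orderOf x = 2 ∧ orderOf y = 2
  · rw [if_pos hxy]
    by_cases hev : 2 ∣ orderOf (x * y)
    · obtain ⟨z₀, ⟨hz₀, hz₀m⟩, huniq⟩ := existsUnique_involution_zpowers (x * y) hev
      rw [Finset.sum_eq_single z₀]
      · rw [if_pos ⟨hz₀, hxy.1, hxy.2, hz₀m⟩]
      · intro z _ hz
        rw [if_neg]
        intro h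
        exact hz (huniq z h.1 h.2.2.2)
      · intro h; exact absurd (Finset.mem_univ _) h
    · have hodd : Odd (orderOf (x * y)) := Nat.odd_iff.mpr (by omega)
      rw [S.Ψ_odd _ hodd]
      simp
  · rw [if_neg hxy]
    apply Finset.sum_eq_zero
    intro z _
    rw [if_neg (fun h => hxy ⟨h.2.1, h.2.2.1⟩)]

theorem T0_eq : T0 Ψ
    = ((Finset.univ.filter (fun z : G => orderOf z = 2)).card : ℂ) * Fz Ψ (σ ^ Nh) := by
  rw [S.T0_eq_sum_Fz]
  have h1 : ∀ z : G, (if orderOf z = 2 then Fz Ψ z else 0)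
      = if orderOf z = 2 then Fz Ψ (σ ^ Nh) else 0 := by
    intro z
    by_cases hz : orderOf z = 2
    · rw [if_pos hz, if_pos hz]
      obtain ⟨c, hc⟩ := S.fus z hz
      rw [← hc, S.Fz_conj]
    · rw [if_neg hz, if_neg hz]
  rw [Finset.sum_congr rfl (fun z _ => h1 z), ← Finset.sum_filter, Finset.sum_const,
    nsmul_eq_mul]

end CountSetup

end Cfsg.Agent.Lib.Helper6.Dih
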