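import Mathlib
import Cfsg.Agent.Lib.Helper6.Dih12

/-! # Counting pairs of involutions: the number of reflections and the main count -/

set_option autoImplicit false
set_option linter.unusedSectionVars false
set_option linter.unusedVariables false

namespace Cfsg.Agent.Lib.Helper6.Dih

open Cfsg.Agent.Lib.Helper6
open Classical

namespace CountSetup

variable {G : Type*} [Group G] [Fintype G] {P : Subgroup G} {σ τ : G} {N Nh : ℕ} {ζ : ℂ}
  {Ψ : G → ℂ} {q : G → G} (S : CountSetup P σ τ N Nh ζ Ψ q)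

include S

theorem στ_mem : σ * τ ∈ P := mul_mem S.dih.mem S.τ_mem

theorem στ_not : σ * τ ∉ Subgroup.zpowers σ :=
  DihData.mul_refl_not_mem S.τ_not (Subgroup.mem_zpowers σ)

theorem isRefl_conj_refl {a c : G} (ha : a ∈ P) (haZ : a ∉ Subgroup.zpowers σ)
    (hc : c ∈ Subgroup.centralizer ({σ ^ Nh} : Set G)) : IsRefl σ Nh q (c * a * c⁻¹) := by
  have haC := S.P_le_C ha
  refine ⟨?_, mul_mem (mul_mem hc haC) (inv_mem hc), ?_⟩
  · rw [orderOf_conj']
    exact orderOf_eq_two_of (S.dih.refl_mul_self ha haZ) (fun h => haZ (h ▸ one_mem _))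
  · rw [S.q_conj haC hc, S.q_id a ha]
    exact S.dih.conj_not_mem (S.q_mem c hc) haZ

theorem isRefl_iff (x : G) : IsRefl σ Nh q x ↔
    (∃ c ∈ Subgroup.centralizer ({σ ^ Nh} : Set G), c * τ * c⁻¹ = x) ∨
      (∃ c ∈ Subgroup.centralizer ({σ ^ Nh} : Set G), c * (σ * τ) * c⁻¹ = x) := by
  constructor
  · rintro ⟨hx2, hxC, hxZ⟩
    obtain ⟨c, hcC, hcP⟩ := S.syl x hxC ⟨1, by rw [hx2, pow_one]⟩
    have h1 := S.q_id _ hcP
    rw [S.q_conj hxC hcC] at h1
    have hx'Z : c * x * c⁻¹ ∉ Subgroup.zpowers σ := by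
      rw [← h1]; exact S.dih.conj_not_mem (S.q_mem c hcC) hxZ
    obtain ⟨i, hi | hi⟩ := S.dih.exists_conj_refl S.half hcP hx'Z S.τ_mem S.τ_not
    · left
      have hsC : σ ^ i ∈ Subgroup.centralizer ({σ ^ Nh} : Set G) :=
        S.P_le_C (S.dih.zpowers_le (DihData.pow_mem i))
      refine ⟨(σ ^ i * c)⁻¹, inv_mem (mul_mem hsC hcC), ?_⟩
      rw [← hi]; group
    · right
      have hsC : σ ^ i ∈ Subgroup.centralizer ({σ ^ Nh} : Set G) :=
        S.P_le_C (S.dih.zpowers_le (DihData.pow_mem i))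
      refine ⟨(σ ^ i * c)⁻¹, inv_mem (mul_mem hsC hcC), ?_⟩
      rw [← hi]; group
  · rintro (⟨c, hc, rfl⟩ | ⟨c, hc, rfl⟩)
    · exact S.isRefl_conj_refl S.τ_mem S.τ_not hc
    · exact S.isRefl_conj_refl S.στ_mem S.στ_not hc

theorem conj_τ_ne_conj_στ {c c' : G} (hc : c ∈ Subgroup.centralizer ({σ ^ Nh} : Set G))
    (hc' : c' ∈ Subgroup.centralizer ({σ ^ Nh} : Set G)) :
    c * τ * c⁻¹ ≠ c' * (σ * τ) * c'⁻¹ := by
  intro h
  have hτC := S.P_le_C S.τ_mem
  have hστC := S.P_le_C S.στ_mem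
  have h1 := congrArg q h
  rw [S.q_conj hτC hc, S.q_conj hστC hc', S.q_id τ S.τ_mem, S.q_id _ S.στ_mem] at h1
  have hg : (q c')⁻¹ * q c ∈ P := mul_mem (inv_mem (S.q_mem c' hc')) (S.q_mem c hc)
  apply S.dih.not_conj_refl S.half S.τ_mem S.τ_not hg
  calc (q c')⁻¹ * q c * τ * ((q c')⁻¹ * q c)⁻¹
      = (q c')⁻¹ * (q c * τ * (q c)⁻¹) * q c' := by group
    _ = (q c')⁻¹ * (q c' * (σ * τ) * (q c')⁻¹) * q c' := by rw [h1]
    _ = σ * τ := by group

theorem card_refl : (Finset.univ.filter (IsRefl σ Nh q)).card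
    = ((Finset.univ.filter (· ∈ Subgroup.centralizer ({σ ^ Nh} : Set G))).image
        (fun c => c * τ * c⁻¹)).card
      + ((Finset.univ.filter (· ∈ Subgroup.centralizer ({σ ^ Nh} : Set G))).image
        (fun c => c * (σ * τ) * c⁻¹)).card := by
  have h1 : Finset.univ.filter (IsRefl σ Nh q)
      = ((Finset.univ.filter (· ∈ Subgroup.centralizer ({σ ^ Nh} : Set G))).image
          (fun c => c * τ * c⁻¹))
        ∪ ((Finset.univ.filter (· ∈ Subgroup.centralizer ({σ ^ Nh} : Set G))).image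
          (fun c => c * (σ * τ) * c⁻¹)) := by
    ext x
    simp only [Finset.mem_filter, Finset.mem_univ, true_and, Finset.mem_union, Finset.mem_image]
    rw [S.isRefl_iff]
  rw [h1, Finset.card_union_of_disjoint]
  rw [Finset.disjoint_left]
  intro x hx hx'
  obtain ⟨c, hc, rfl⟩ := Finset.mem_image.mp hx
  obtain ⟨c', hc', h2⟩ := Finset.mem_image.mp hx'
  exact S.conj_τ_ne_conj_στ (Finset.mem_filter.mp hc).2 (Finset.mem_filter.mp hc').2 h2.symm

theorem card_C_eq (a : G) :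
    (Finset.univ.filter (· ∈ Subgroup.centralizer ({σ ^ Nh} : Set G))).card
      = (Finset.univ.filter (fun d => d ∈ Subgroup.centralizer ({σ ^ Nh} : Set G)
          ∧ d * a = a * d)).card
        * ((Finset.univ.filter (· ∈ Subgroup.centralizer ({σ ^ Nh} : Set G))).image
          (fun c => c * a * c⁻¹)).card := by
  have h := sum_conj_fiber (Subgroup.centralizer ({σ ^ Nh} : Set G)) a (fun _ => (1 : ℕ))
  simp only [Finset.sum_const, smul_eq_mul, mul_one] at h
  exact h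

theorem natCard_C : Nat.card (Subgroup.centralizer ({σ ^ Nh} : Set G))
    = (Finset.univ.filter (· ∈ Subgroup.centralizer ({σ ^ Nh} : Set G))).card := by
  rw [Nat.card_eq_fintype_card]
  exact Fintype.card_of_subtype _ (fun x => by simp)

theorem natCard_C2 (a : G) : Nat.card (Subgroup.centralizer ({σ ^ Nh, a} : Set G))
    = (Finset.univ.filter (fun d => d ∈ Subgroup.centralizer ({σ ^ Nh} : Set G)
        ∧ d * a = a * d)).card := by
  rw [Nat.card_eq_fintype_card]
  apply Fintype.card_of_subtype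
  intro x
  simp only [Finset.mem_filter, Finset.mem_univ, true_and, Subgroup.mem_centralizer_iff,
    Set.mem_insert_iff, Set.mem_singleton_iff, forall_eq_or_imp, forall_eq]
  constructor
  · rintro ⟨h1, h2⟩
    exact ⟨h1, h2.symm⟩
  · rintro ⟨h1, h2⟩
    exact ⟨h1, h2.symm⟩

theorem sum_conj_J (f : G → ℂ) : ∑ g : G, f (g * σ ^ Nh * g⁻¹)
    = (Nat.card (Subgroup.centralizer ({σ ^ Nh} : Set G)) : ℂ)
      * ∑ x : G, if orderOf x = 2 then f x else 0 := by
  have h := sum_conj_fiber (⊤ : Subgroup G) (σ ^ Nh) f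
  have e1 : Finset.univ.filter (· ∈ (⊤ : Subgroup G)) = Finset.univ := by ext x; simp
  have e2 : (Finset.univ.filter
      (fun d => d ∈ (⊤ : Subgroup G) ∧ d * σ ^ Nh = σ ^ Nh * d)).card
      = Nat.card (Subgroup.centralizer ({σ ^ Nh} : Set G)) := by
    rw [S.natCard_C]
    congr 1
    ext x
    simp [Subgroup.mem_centralizer_singleton_iff]
  have e3 : (Finset.univ : Finset G).image (fun c => c * σ ^ Nh * c⁻¹)
      = Finset.univ.filter (fun x => orderOf x = 2) := by
    ext x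
    simp only [Finset.mem_image, Finset.mem_univ, true_and, Finset.mem_filter]
    constructor
    · rintro ⟨c, rfl⟩; rw [orderOf_conj']; exact S.J_order
    · intro hx; exact S.fus x hx
  rw [e1, e2, e3] at h
  rw [h, nsmul_eq_mul, Finset.sum_filter]

/-- **The main count.** -/
theorem count_main :
    ∑ g : G, ∑ h : G, Ψ (g * σ ^ Nh * g⁻¹ * (h * σ ^ Nh * h⁻¹))
      = (Nat.card G : ℂ) * (Nat.card (Subgroup.centralizer ({σ ^ Nh} : Set G)) : ℂ) * 2
        * ((Nat.card (Subgroup.centralizer ({σ ^ Nh} : Set G)) : ℂ)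
          * (1 / (Nat.card (Subgroup.centralizer ({σ ^ Nh, τ} : Set G)) : ℂ)
            + 1 / (Nat.card (Subgroup.centralizer ({σ ^ Nh, σ * τ} : Set G)) : ℂ))) ^ 2 := by
  have ha : ∑ g : G, ∑ h : G, Ψ (g * σ ^ Nh * g⁻¹ * (h * σ ^ Nh * h⁻¹))
      = (Nat.card (Subgroup.centralizer ({σ ^ Nh} : Set G)) : ℂ) ^ 2 * T0 Ψ := by
    have h1 : ∀ g : G, ∑ h : G, Ψ (g * σ ^ Nh * g⁻¹ * (h * σ ^ Nh * h⁻¹))
        = (Nat.card (Subgroup.centralizer ({σ ^ Nh} : Set G)) : ℂ)
          * ∑ y : G, if orderOf y = 2 then Ψ (g * σ ^ Nh * g⁻¹ * y) else 0 :=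
      fun g => S.sum_conj_J (fun y => Ψ (g * σ ^ Nh * g⁻¹ * y))
    rw [Finset.sum_congr rfl (fun g _ => h1 g)]
    rw [S.sum_conj_J (fun x => (Nat.card (Subgroup.centralizer ({σ ^ Nh} : Set G)) : ℂ)
      * ∑ y : G, if orderOf y = 2 then Ψ (x * y) else 0)]
    have h2 : ∀ x : G, (if orderOf x = 2
        then (Nat.card (Subgroup.centralizer ({σ ^ Nh} : Set G)) : ℂ)
          * ∑ y : G, (if orderOf y = 2 then Ψ (x * y) else 0) else 0)
        = (Nat.card (Subgroup.centralizer ({σ ^ Nh} : Set G)) : ℂ)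
          * ∑ y : G, if orderOf x = 2 ∧ orderOf y = 2 then Ψ (x * y) else 0 := by
      intro x
      by_cases hx : orderOf x = 2
      · rw [if_pos hx]; simp only [hx, true_and]
      · rw [if_neg hx]; simp only [hx, false_and, if_false, Finset.sum_const_zero, mul_zero]
    rw [Finset.sum_congr rfl (fun x _ => h2 x), ← Finset.mul_sum]
    unfold T0
    ring
  have hb : (Nat.card G : ℂ) = (Nat.card (Subgroup.centralizer ({σ ^ Nh} : Set G)) : ℂ)
      * ((Finset.univ.filter (fun z : G => orderOf z = 2)).card : ℂ) := by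
    have h1 := S.sum_conj_J (fun _ => (1 : ℂ))
    rw [Finset.sum_const, Finset.card_univ, nsmul_eq_mul, mul_one, Finset.sum_boole] at h1
    rw [Nat.card_eq_fintype_card]
    exact h1
  have hNh : (Nh : ℂ) ≠ 0 := by exact_mod_cast S.Nh_pos.ne'
  have hSR2 : SR σ Nh q Ψ = 2 * ((Finset.univ.filter (IsRefl σ Nh q)).card : ℂ) ^ 2 := by
    apply mul_left_cancel₀ hNh
    rw [S.SR_eq, S.half]
    push_cast
    ring
  -- the number of reflections
  have hone : ∀ a : G, (Finset.univ.filter (fun d => d ∈ Subgroup.centralizer ({σ ^ Nh} : Set G)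
      ∧ d * a = a * d)).card ≠ 0 := by
    intro a
    apply Finset.card_ne_zero.mpr
    exact ⟨1, Finset.mem_filter.mpr ⟨Finset.mem_univ _, one_mem _, by rw [one_mul, mul_one]⟩⟩
  have him : ∀ a : G, (((Finset.univ.filter (· ∈ Subgroup.centralizer ({σ ^ Nh} : Set G))).image
      (fun c => c * a * c⁻¹)).card : ℂ)
      = (Nat.card (Subgroup.centralizer ({σ ^ Nh} : Set G)) : ℂ)
        * (1 / (Nat.card (Subgroup.centralizer ({σ ^ Nh, a} : Set G)) : ℂ)) := by
    intro a
    have h1 := S.card_C_eq a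
    rw [S.natCard_C, S.natCard_C2 a, h1]
    have h2 : ((Finset.univ.filter (fun d => d ∈ Subgroup.centralizer ({σ ^ Nh} : Set G)
      ∧ d * a = a * d)).card : ℂ) ≠ 0 := by exact_mod_cast hone a
    push_cast
    field_simp
  have hr : ((Finset.univ.filter (IsRefl σ Nh q)).card : ℂ)
      = (Nat.card (Subgroup.centralizer ({σ ^ Nh} : Set G)) : ℂ)
        * (1 / (Nat.card (Subgroup.centralizer ({σ ^ Nh, τ} : Set G)) : ℂ)
          + 1 / (Nat.card (Subgroup.centralizer ({σ ^ Nh, σ * τ} : Set G)) : ℂ)) := by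
    rw [S.card_refl]
    push_cast
    rw [him τ, him (σ * τ)]
    ring
  rw [ha, S.T0_eq, S.Fz_J, hSR2, hb, ← hr]
  ring

end CountSetup

end Cfsg.Agent.Lib.Helper6.Dih
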