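import Mathlib

/-! # A combinatorial lemma on chains of integral vectors of norms `3, 2, …, 2, 3`
(the Brauer tree like analysis of the principal block for dihedral Sylow `2`-subgroups) -/

set_option autoImplicit false
set_option linter.unusedSectionVars false

namespace Cfsg.Agent.Lib.Helper6.Dih

section chain

variable {ι : Type*} [Fintype ι] [DecidableEq ι]

/-- coordinate indicator -/
def ind (p : ι) (i : ι) : ℤ := if i = p then 1 else 0

theorem ind_self (p : ι) : ind p p = 1 := by simp [ind]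

theorem ind_ne {p i : ι} (h : i ≠ p) : ind p i = 0 := by simp [ind, h]

theorem sum_ind_mul (p : ι) (v : ι → ℤ) : ∑ i, ind p i * v i = v p := by
  unfold ind
  simp [ite_mul]

theorem sum_two_mul (w v : ι → ℤ) (a a' : ℤ) (p q : ι)
    (hw : ∀ i, w i = a * ind p i + a' * ind q i) :
    ∑ i, w i * v i = a * v p + a' * v q := by
  have h : ∀ i, w i * v i = a * (ind p i * v i) + a' * (ind q i * v i) := by
    intro i; rw [hw i]; ring
  rw [Finset.sum_congr rfl (fun i _ => h i), Finset.sum_add_distrib, ← Finset.mul_sum,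
    ← Finset.mul_sum, sum_ind_mul, sum_ind_mul]

theorem sum_three_mul (w v : ι → ℤ) (a a' a'' : ℤ) (p q r : ι)
    (hw : ∀ i, w i = a * ind p i + a' * ind q i + a'' * ind r i) :
    ∑ i, w i * v i = a * v p + a' * v q + a'' * v r := by
  have h : ∀ i, w i * v i = a * (ind p i * v i) + a' * (ind q i * v i)
      + a'' * (ind r i * v i) := by
    intro i; rw [hw i]; ring
  rw [Finset.sum_congr rfl (fun i _ => h i), Finset.sum_add_distrib, Finset.sum_add_distrib,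
    ← Finset.mul_sum, ← Finset.mul_sum, ← Finset.mul_sum, sum_ind_mul, sum_ind_mul, sum_ind_mul]

theorem rest_nonneg (v : ι → ℤ) (S : Finset ι) : 0 ≤ ∑ i ∈ S, v i * v i :=
  Finset.sum_nonneg (fun i _ => mul_self_nonneg (v i))

theorem zero_of_rest_zero (v : ι → ℤ) (S : Finset ι) (h : ∑ i ∈ S, v i * v i = 0) :
    ∀ i ∈ S, v i = 0 := by
  intro i hi
  have := (Finset.sum_eq_zero_iff_of_nonneg (fun j _ => mul_self_nonneg (v j))).mp h i hi
  exact mul_self_eq_zero.mp this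

theorem exists_ne_zero_of_rest_pos (v : ι → ℤ) (S : Finset ι) (h : 0 < ∑ i ∈ S, v i * v i) :
    ∃ q ∈ S, v q ≠ 0 := by
  by_contra hcon
  push Not at hcon
  have h0 : ∑ i ∈ S, v i * v i = 0 :=
    Finset.sum_eq_zero (fun i hi => by rw [hcon i hi, mul_zero])
  omega

theorem peel (v : ι → ℤ) (S : Finset ι) (c : ℤ) (hc : 0 < c) (h : ∑ i ∈ S, v i * v i = c) :
    ∃ q ∈ S, v q ≠ 0 ∧ ∑ i ∈ S.erase q, v i * v i = c - v q * v q := by
  obtain ⟨q, hqS, hq0⟩ := exists_ne_zero_of_rest_pos v S (by rw [h]; exact hc)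
  refine ⟨q, hqS, hq0, ?_⟩
  have h2 : v q * v q + ∑ i ∈ S.erase q, v i * v i = ∑ i ∈ S, v i * v i :=
    Finset.add_sum_erase S (fun i => v i * v i) hqS
  linarith

theorem int_unit_of_sq_le {a : ℤ} (ha : a ≠ 0) (h : a * a ≤ 3) : a = 1 ∨ a = -1 := by
  have h1 : a ≤ 1 := by
    by_contra hc
    have : 2 ≤ a := by omega
    nlinarith
  have h2 : -1 ≤ a := by
    by_contra hc
    have : a ≤ -2 := by omega
    nlinarith
  omega

theorem int_bounds {a b : ℤ} (h : a * a + b * b ≤ 3) : (-1 ≤ a ∧ a ≤ 1) ∧ (-1 ≤ b ∧ b ≤ 1) := by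
  refine ⟨⟨?_, ?_⟩, ⟨?_, ?_⟩⟩ <;> nlinarith [mul_self_nonneg a, mul_self_nonneg b]

theorem unit_mul_self {a : ℤ} (h : a = 1 ∨ a = -1) : a * a = 1 := by
  rcases h with h | h <;> rw [h] <;> norm_num

theorem sum_sub_le (v : ι → ℤ) (S : Finset ι) : ∑ i ∈ S, v i * v i ≤ ∑ i, v i * v i := by
  have h1 : ∑ i ∈ S, v i * v i + ∑ i ∈ Sᶜ, v i * v i = ∑ i, v i * v i :=
    Finset.sum_add_sum_compl S (fun i => v i * v i)
  have h2 := rest_nonneg v Sᶜ
  linarith

theorem zero_of_full (v : ι → ℤ) (S : Finset ι)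
    (h : ∑ i ∈ S, v i * v i = ∑ i, v i * v i) : ∀ i, i ∉ S → v i = 0 := by
  have h1 : ∑ i ∈ S, v i * v i + ∑ i ∈ Sᶜ, v i * v i = ∑ i, v i * v i :=
    Finset.sum_add_sum_compl S (fun i => v i * v i)
  have h2 : ∑ i ∈ Sᶜ, v i * v i = 0 := by linarith
  intro i hi
  exact zero_of_rest_zero v _ h2 i (Finset.mem_compl.mpr hi)

/-- a vector of norm `2` with an entry `±1` -/
theorem shape_two (v : ι → ℤ) (p : ι) (hn : ∑ i, v i * v i = 2) (hp : v p = 1 ∨ v p = -1) :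
    ∃ q : ι, q ≠ p ∧ (v q = 1 ∨ v q = -1) ∧ ∀ i, i ≠ p → i ≠ q → v i = 0 := by
  have hpp : v p * v p = 1 := unit_mul_self hp
  have h1 : v p * v p + ∑ i ∈ Finset.univ.erase p, v i * v i = ∑ i, v i * v i :=
    Finset.add_sum_erase Finset.univ (fun i => v i * v i) (Finset.mem_univ p)
  have h2 : ∑ i ∈ Finset.univ.erase p, v i * v i = 1 := by linarith
  obtain ⟨q, hqS, hq0, h3⟩ := peel v _ 1 one_pos h2
  have hqp : q ≠ p := Finset.ne_of_mem_erase hqS
  have h4 := rest_nonneg v ((Finset.univ.erase p).erase q)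
  have hq1 : v q = 1 ∨ v q = -1 := int_unit_of_sq_le hq0 (by linarith)
  have hqq : v q * v q = 1 := unit_mul_self hq1
  have h5 : ∑ i ∈ (Finset.univ.erase p).erase q, v i * v i = 0 := by linarith
  refine ⟨q, hqp, hq1, ?_⟩
  intro i hip hiq
  exact zero_of_rest_zero v _ h5 i
    (Finset.mem_erase.mpr ⟨hiq, Finset.mem_erase.mpr ⟨hip, Finset.mem_univ i⟩⟩)

/-- a vector of norm `3` with an entry `±1` -/
theorem shape_three (v : ι → ℤ) (p : ι) (hn : ∑ i, v i * v i = 3) (hp : v p = 1 ∨ v p = -1) :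
    ∃ c d : ι, c ≠ p ∧ d ≠ p ∧ c ≠ d ∧ (v c = 1 ∨ v c = -1) ∧ (v d = 1 ∨ v d = -1) ∧
      ∀ i, i ≠ p → i ≠ c → i ≠ d → v i = 0 := by
  have hpp : v p * v p = 1 := unit_mul_self hp
  have h1 : v p * v p + ∑ i ∈ Finset.univ.erase p, v i * v i = ∑ i, v i * v i :=
    Finset.add_sum_erase Finset.univ (fun i => v i * v i) (Finset.mem_univ p)
  have h2 : ∑ i ∈ Finset.univ.erase p, v i * v i = 2 := by linarith
  obtain ⟨c, hcS, hc0, h3⟩ := peel v _ 2 two_pos h2
  have hcp : c ≠ p := Finset.ne_of_mem_erase hcS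
  have h4 := rest_nonneg v ((Finset.univ.erase p).erase c)
  have hc1 : v c = 1 ∨ v c = -1 := int_unit_of_sq_le hc0 (by linarith)
  have hcc : v c * v c = 1 := unit_mul_self hc1
  have h5 : ∑ i ∈ (Finset.univ.erase p).erase c, v i * v i = 1 := by linarith
  obtain ⟨d, hdS, hd0, h6⟩ := peel v _ 1 one_pos h5
  have hdc : d ≠ c := Finset.ne_of_mem_erase hdS
  have hdp : d ≠ p := Finset.ne_of_mem_erase (Finset.mem_of_mem_erase hdS)
  have h7 := rest_nonneg v (((Finset.univ.erase p).erase c).erase d)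
  have hd1 : v d = 1 ∨ v d = -1 := int_unit_of_sq_le hd0 (by linarith)
  have hdd : v d * v d = 1 := unit_mul_self hd1
  have h8 : ∑ i ∈ ((Finset.univ.erase p).erase c).erase d, v i * v i = 0 := by linarith
  refine ⟨c, d, hcp, hdp, hdc.symm, hc1, hd1, ?_⟩
  intro i hip hic hid
  exact zero_of_rest_zero v _ h8 i
    (Finset.mem_erase.mpr ⟨hid, Finset.mem_erase.mpr ⟨hic,
      Finset.mem_erase.mpr ⟨hip, Finset.mem_univ i⟩⟩⟩)

/-- the hypotheses on the chain of vectors -/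
structure ChainHyp (u : ℕ → ι → ℤ) (x : ι → ℤ) (o : ι) (m : ℕ) : Prop where
  one_le : 1 ≤ m
  ne_two : m ≠ 2
  x_pos : ∀ i, 0 < x i
  x_o : x o = 1
  norm_zero : ∑ i, u 0 i * u 0 i = 3
  norm_top : ∑ i, u m i * u m i = 3
  norm_mid : ∀ k, 0 < k → k < m → ∑ i, u k i * u k i = 2
  adj : ∀ k, k < m → ∑ i, u k i * u (k + 1) i = -1
  far : ∀ k l, k + 2 ≤ l → l ≤ m → ∑ i, u k i * u l i = 0
  at_o_zero : u 0 o = 1
  at_o : ∀ k, 0 < k → k ≤ m → u k o = 0
  deg : ∀ k, k ≤ m → ∑ i, u k i * x i = 0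

/-- the inductive invariant -/
structure ChainInv (u : ℕ → ι → ℤ) (o b : ι) (δ : ℤ) (θ : ℕ → ι) (j : ℕ) : Prop where
  ne_o : ∀ i, 1 ≤ i → i ≤ j → θ i ≠ o
  ne_b : ∀ i, 1 ≤ i → i ≤ j → θ i ≠ b
  inj : ∀ i i', 1 ≤ i → i < i' → i' ≤ j → θ i ≠ θ i'
  shape0 : ∀ i, u 0 i = 1 * ind o i + δ * ind b i + (-δ) * ind (θ 1) i
  shape : ∀ k, 1 ≤ k → k < j → ∀ i, u k i = δ * ind (θ k) i + (-δ) * ind (θ (k + 1)) i
  at_b : u j b = 0
  at_top : u j (θ j) = δ
  at_low : ∀ i, 1 ≤ i → i < j → u j (θ i) = 0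

theorem norm_le_three {u : ℕ → ι → ℤ} {x : ι → ℤ} {o : ι} {m : ℕ} (H : ChainHyp u x o m)
    {k : ℕ} (hk : k ≤ m) : ∑ i, u k i * u k i ≤ 3 := by
  by_cases h0 : k = 0
  · rw [h0, H.norm_zero]
  by_cases hm : k = m
  · rw [hm, H.norm_top]
  · rw [H.norm_mid k (by omega) (by omega)]; norm_num

theorem base_build {u : ℕ → ι → ℤ} {o : ι} (b t : ι) (δ : ℤ) (hbo : b ≠ o) (hto : t ≠ o)
    (htb : t ≠ b)
    (hshape : ∀ i, u 0 i = 1 * ind o i + u 0 b * ind b i + u 0 t * ind t i)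
    (h0b : u 0 b = δ) (h0t : u 0 t = -δ) (h1b : u 1 b = 0) (h1t : u 1 t = δ) :
    ChainInv u o b δ (fun _ => t) 1 where
  ne_o := fun _ _ _ => hto
  ne_b := fun _ _ _ => htb
  inj := fun i i' h1 h2 h3 => by omega
  shape0 := by
    intro i
    rw [hshape i, h0b, h0t]
  shape := fun k h1 h2 => by omega
  at_b := h1b
  at_top := h1t
  at_low := fun i h1 h2 => by omega

theorem chain_base {u : ℕ → ι → ℤ} {x : ι → ℤ} {o : ι} {m : ℕ} (H : ChainHyp u x o m) :
    ∃ (δ : ℤ) (b : ι) (θ : ℕ → ι), (δ = 1 ∨ δ = -1) ∧ b ≠ o ∧ ChainInv u o b δ θ 1 := by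
  obtain ⟨b₁, b₂, h1o, h2o, h12, hv1, hv2, hz⟩ :=
    shape_three (u 0) o H.norm_zero (Or.inl H.at_o_zero)
  have hshape : ∀ i, u 0 i = 1 * ind o i + u 0 b₁ * ind b₁ i + u 0 b₂ * ind b₂ i := by
    intro i
    by_cases hio : i = o
    · rw [hio, ind_self, ind_ne h1o.symm, ind_ne h2o.symm, H.at_o_zero]; ring
    by_cases hi1 : i = b₁
    · rw [hi1, ind_ne h1o, ind_self, ind_ne h12]; ring
    by_cases hi2 : i = b₂
    · rw [hi2, ind_ne h2o, ind_ne h12.symm, ind_self]; ring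
    · rw [hz i hio hi1 hi2, ind_ne hio, ind_ne hi1, ind_ne hi2]; ring
  have hshape' : ∀ i, u 0 i = 1 * ind o i + u 0 b₂ * ind b₂ i + u 0 b₁ * ind b₁ i := by
    intro i; rw [hshape i]; ring
  have hdeg := H.deg 0 (Nat.zero_le m)
  rw [sum_three_mul _ _ _ _ _ _ _ _ hshape, H.x_o] at hdeg
  have hx1 := H.x_pos b₁
  have hx2 := H.x_pos b₂
  have hvo : u 1 o = 0 := H.at_o 1 one_pos H.one_le
  have hadj : ∑ i, u 0 i * u 1 i = -1 := H.adj 0 (by have := H.one_le; omega)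
  rw [sum_three_mul _ _ _ _ _ _ _ _ hshape, hvo] at hadj
  have hn1 : ∑ i, u 1 i * u 1 i ≤ 3 := norm_le_three H H.one_le
  have hle := sum_sub_le (u 1) {b₁, b₂}
  rw [Finset.sum_pair h12] at hle
  have hb := int_bounds (le_trans hle hn1)
  rcases hv1 with e1 | e1 <;> rcases hv2 with e2 | e2
  · exfalso
    rw [e1, e2] at hdeg
    omega
  · -- u 0 b₁ = 1, u 0 b₂ = -1
    rw [e1, e2] at hadj hdeg
    have hcase : (u 1 b₁ = 0 ∧ u 1 b₂ = 1) ∨ (u 1 b₁ = -1 ∧ u 1 b₂ = 0) := by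
      rcases hb with ⟨⟨ha1, ha2⟩, ⟨hb1, hb2⟩⟩
      have : u 1 b₂ = u 1 b₁ + 1 := by linarith
      have h3 : u 1 b₁ = -1 ∨ u 1 b₁ = 0 := by omega
      rcases h3 with h3 | h3
      · right; exact ⟨h3, by omega⟩
      · left; exact ⟨h3, by omega⟩
    rcases hcase with ⟨c1, c2⟩ | ⟨c1, c2⟩
    · exact ⟨1, b₁, fun _ => b₂, Or.inl rfl, h1o,
        base_build b₁ b₂ 1 h1o h2o h12.symm hshape e1 e2 c1 c2⟩
    · exact ⟨-1, b₂, fun _ => b₁, Or.inr rfl, h2o,
        base_build b₂ b₁ (-1) h2o h1o h12 hshape' e2 (by rw [e1]; norm_num) c2 c1⟩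
  · -- u 0 b₁ = -1, u 0 b₂ = 1
    rw [e1, e2] at hadj hdeg
    have hcase : (u 1 b₁ = 0 ∧ u 1 b₂ = -1) ∨ (u 1 b₁ = 1 ∧ u 1 b₂ = 0) := by
      rcases hb with ⟨⟨ha1, ha2⟩, ⟨hb1, hb2⟩⟩
      have : u 1 b₂ = u 1 b₁ - 1 := by linarith
      have h3 : u 1 b₁ = 1 ∨ u 1 b₁ = 0 := by omega
      rcases h3 with h3 | h3
      · right; exact ⟨h3, by omega⟩
      · left; exact ⟨h3, by omega⟩
    rcases hcase with ⟨c1, c2⟩ | ⟨c1, c2⟩
    · exact ⟨-1, b₁, fun _ => b₂, Or.inr rfl, h1o,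
        base_build b₁ b₂ (-1) h1o h2o h12.symm hshape e1 (by rw [e2]; norm_num) c1 c2⟩
    · exact ⟨1, b₂, fun _ => b₁, Or.inl rfl, h2o,
        base_build b₂ b₁ 1 h2o h1o h12 hshape' e2 e1 c2 c1⟩
  · exfalso
    rw [e1, e2] at hdeg
    omega

theorem chain_step {u : ℕ → ι → ℤ} {x : ι → ℤ} {o : ι} {m : ℕ} (H : ChainHyp u x o m)
    {δ : ℤ} {b : ι} {θ : ℕ → ι} {j : ℕ} (hδ : δ = 1 ∨ δ = -1)
    (I : ChainInv u o b δ θ j) (hj1 : 1 ≤ j) (hjm : j < m) :
    ∃ θ' : ℕ → ι, ChainInv u o b δ θ' (j + 1) := by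
  obtain ⟨q, hqt, hq1, hz⟩ := shape_two (u j) (θ j) (H.norm_mid j (by omega) hjm)
    (by rw [I.at_top]; exact hδ)
  have hqo : q ≠ o := by
    intro h
    rw [h, H.at_o j (by omega) (by omega)] at hq1
    omega
  have hqb : q ≠ b := by
    intro h
    rw [h, I.at_b] at hq1
    omega
  have hqθ : ∀ i, 1 ≤ i → i ≤ j → q ≠ θ i := by
    intro i hi1 hij h
    by_cases hij' : i = j
    · rw [hij'] at h
      exact hqt h
    · rw [h, I.at_low i hi1 (by omega)] at hq1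
      omega
  have hshape_j : ∀ i, u j i = δ * ind (θ j) i + u j q * ind q i := by
    intro i
    by_cases hi1 : i = θ j
    · rw [hi1, ind_self, ind_ne hqt.symm, I.at_top]; ring
    by_cases hi2 : i = q
    · rw [hi2, ind_ne hqt, ind_self]; ring
    · rw [hz i hi1 hi2, ind_ne hi1, ind_ne hi2]; ring
  have hqδ : u j q = -δ := by
    have hd := H.deg j (by omega)
    rw [sum_two_mul _ _ _ _ _ _ hshape_j] at hd
    have h1 := H.x_pos (θ j)
    have h2 := H.x_pos q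
    rcases hδ with h | h <;> rcases hq1 with h' | h' <;> rw [h, h'] at hd <;> omega
  have hshape_j' : ∀ i, u j i = δ * ind (θ j) i + (-δ) * ind q i := by
    intro i; rw [hshape_j i, hqδ]
  have hδ0 : δ ≠ 0 := by rcases hδ with h | h <;> rw [h] <;> norm_num
  have hδδ : δ * δ = 1 := unit_mul_self hδ
  -- the next vector
  have hvo : u (j + 1) o = 0 := H.at_o (j + 1) (by omega) (by omega)
  have h0 := H.far 0 (j + 1) (by omega) (by omega)
  rw [sum_three_mul _ _ _ _ _ _ _ _ I.shape0, hvo] at h0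
  have hvb1 : u (j + 1) (θ 1) = u (j + 1) b := by
    rcases hδ with h | h <;> rw [h] at h0 <;> omega
  have hk : ∀ k, 1 ≤ k → k < j → u (j + 1) (θ (k + 1)) = u (j + 1) (θ k) := by
    intro k hk1 hkj
    have h1 := H.far k (j + 1) (by omega) (by omega)
    rw [sum_two_mul _ _ _ _ _ _ (I.shape k hk1 hkj)] at h1
    rcases hδ with h | h <;> rw [h] at h1 <;> omega
  have hall : ∀ i, 1 ≤ i → i ≤ j → u (j + 1) (θ i) = u (j + 1) b := by
    intro i hi1
    induction i, hi1 using Nat.le_induction with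
    | base => intro _; exact hvb1
    | succ i hi1 ih =>
      intro hij
      rw [hk i hi1 (by omega)]
      exact ih (by omega)
  have hadj := H.adj j hjm
  rw [sum_two_mul _ _ _ _ _ _ hshape_j', hall j hj1 le_rfl] at hadj
  have hvq : u (j + 1) q = u (j + 1) b + δ := by
    rcases hδ with h | h <;> rw [h] at hadj <;> rw [h] <;> omega
  have hn := norm_le_three H (show j + 1 ≤ m by omega)
  have hbθ1 : b ≠ θ 1 := (I.ne_b 1 le_rfl hj1).symm
  have hθ1q : θ 1 ≠ q := (hqθ 1 le_rfl hj1).symm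
  -- the key claim
  have ht0 : u (j + 1) b = 0 := by
    by_contra hne
    have hle := sum_sub_le (u (j + 1)) {b, θ 1, q}
    rw [Finset.sum_insert (by
        simp only [Finset.mem_insert, Finset.mem_singleton, not_or]
        exact ⟨hbθ1, hqb.symm⟩), Finset.sum_pair hθ1q, hvb1, hvq] at hle
    have hb1 : u (j + 1) b = 1 ∨ u (j + 1) b = -1 := by
      apply int_unit_of_sq_le hne
      nlinarith [mul_self_nonneg (u (j + 1) b + δ), mul_self_nonneg (u (j + 1) b)]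
    have hbδ : u (j + 1) b = -δ := by
      rcases hδ with h | h <;> rcases hb1 with h' | h' <;> rw [h, h'] at hle <;> rw [h, h']
        <;> first | rfl | (exfalso; omega)
    have hbb : u (j + 1) b * u (j + 1) b = 1 := unit_mul_self hb1
    have hxb := H.x_pos b
    have hx1 := H.x_pos (θ 1)
    by_cases hjm' : j + 1 < m
    · -- norm two
      have hn2 := H.norm_mid (j + 1) (by omega) hjm'
      have hfull : ∑ i ∈ ({b, θ 1} : Finset ι), u (j + 1) i * u (j + 1) i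
          = ∑ i, u (j + 1) i * u (j + 1) i := by
        rw [Finset.sum_pair hbθ1, hvb1, hbb, hn2]
        norm_num
      have hzero := zero_of_full (u (j + 1)) _ hfull
      have hsh : ∀ i, u (j + 1) i = (-δ) * ind b i + (-δ) * ind (θ 1) i := by
        intro i
        by_cases hi1 : i = b
        · rw [hi1, ind_self, ind_ne hbθ1, hbδ]; ring
        by_cases hi2 : i = θ 1
        · rw [hi2, ind_ne hbθ1.symm, ind_self, hvb1, hbδ]; ring
        · rw [hzero i (by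
            simp only [Finset.mem_insert, Finset.mem_singleton, not_or]
            exact ⟨hi1, hi2⟩), ind_ne hi1, ind_ne hi2]; ring
      have hd := H.deg (j + 1) (by omega)
      rw [sum_two_mul _ _ _ _ _ _ hsh] at hd
      rcases hδ with h | h <;> rw [h] at hd <;> omega
    · -- norm three
      have hm3 : j + 1 = m := by omega
      have hj2 : 2 ≤ j := by
        have := H.ne_two
        omega
      have hn3 : ∑ i, u (j + 1) i * u (j + 1) i = 3 := by rw [hm3]; exact H.norm_top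
      have hbθ2 : b ≠ θ 2 := (I.ne_b 2 (by omega) hj2).symm
      have hθ12 : θ 1 ≠ θ 2 := I.inj 1 2 le_rfl (by omega) hj2
      have hv2 : u (j + 1) (θ 2) = u (j + 1) b := hall 2 (by omega) hj2
      have hx2 := H.x_pos (θ 2)
      have hfull : ∑ i ∈ ({b, θ 1, θ 2} : Finset ι), u (j + 1) i * u (j + 1) i
          = ∑ i, u (j + 1) i * u (j + 1) i := by
        rw [Finset.sum_insert (by
          simp only [Finset.mem_insert, Finset.mem_singleton, not_or]
          exact ⟨hbθ1, hbθ2⟩), Finset.sum_pair hθ12, hvb1, hv2, hbb, hn3]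
        norm_num
      have hzero := zero_of_full (u (j + 1)) _ hfull
      have hsh : ∀ i, u (j + 1) i = (-δ) * ind b i + (-δ) * ind (θ 1) i
          + (-δ) * ind (θ 2) i := by
        intro i
        by_cases hi1 : i = b
        · rw [hi1, ind_self, ind_ne hbθ1, ind_ne hbθ2, hbδ]; ring
        by_cases hi2 : i = θ 1
        · rw [hi2, ind_ne hbθ1.symm, ind_self, ind_ne hθ12, hvb1, hbδ]; ring
        by_cases hi3 : i = θ 2
        · rw [hi3, ind_ne hbθ2.symm, ind_ne hθ12.symm, ind_self, hv2, hbδ]; ring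
        · rw [hzero i (by
            simp only [Finset.mem_insert, Finset.mem_singleton, not_or]
            exact ⟨hi1, hi2, hi3⟩), ind_ne hi1, ind_ne hi2, ind_ne hi3]; ring
      have hd := H.deg (j + 1) (by omega)
      rw [sum_three_mul _ _ _ _ _ _ _ _ hsh] at hd
      rcases hδ with h | h <;> rw [h] at hd <;> omega
  -- the new labelling
  have hθle : ∀ i, i ≤ j → Function.update θ (j + 1) q i = θ i := fun i hi =>
    Function.update_of_ne (by omega) _ _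
  have hθtop : Function.update θ (j + 1) q (j + 1) = q := Function.update_self _ _ _
  refine ⟨Function.update θ (j + 1) q, ?_⟩
  constructor
  · intro i hi1 hij
    by_cases hi : i ≤ j
    · rw [hθle i hi]; exact I.ne_o i hi1 hi
    · have : i = j + 1 := by omega
      rw [this, hθtop]; exact hqo
  · intro i hi1 hij
    by_cases hi : i ≤ j
    · rw [hθle i hi]; exact I.ne_b i hi1 hi
    · have : i = j + 1 := by omega
      rw [this, hθtop]; exact hqb
  · intro i i' hi1 hii' hi'j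
    by_cases hi : i' ≤ j
    · rw [hθle i (by omega), hθle i' hi]; exact I.inj i i' hi1 hii' hi
    · have : i' = j + 1 := by omega
      rw [this, hθtop, hθle i (by omega)]; exact (hqθ i hi1 (by omega)).symm
  · intro i
    rw [hθle 1 hj1]; exact I.shape0 i
  · intro k hk1 hkj i
    by_cases hk' : k < j
    · rw [hθle k (by omega), hθle (k + 1) (by omega)]; exact I.shape k hk1 hk' i
    · have : k = j := by omega
      rw [this, hθle j le_rfl, hθtop]; exact hshape_j' i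
  · exact ht0
  · rw [hθtop, hvq, ht0, zero_add]
  · intro i hi1 hij
    rw [hθle i (by omega), hall i hi1 (by omega), ht0]

/-- the conclusion of the chain lemma -/
structure ChainOut (u : ℕ → ι → ℤ) (o : ι) (m : ℕ) (δ : ℤ) (b : ι) (θ : ℕ → ι) (c d : ι)
    (εc εd : ℤ) : Prop where
  hδ : δ = 1 ∨ δ = -1
  hεc : εc = 1 ∨ εc = -1
  hεd : εd = 1 ∨ εd = -1
  b_ne_o : b ≠ o
  c_ne_o : c ≠ o
  d_ne_o : d ≠ o
  c_ne_b : c ≠ b
  d_ne_b : d ≠ b
  c_ne_d : c ≠ d
  θ_ne_o : ∀ j, 1 ≤ j → j ≤ m → θ j ≠ o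
  θ_ne_b : ∀ j, 1 ≤ j → j ≤ m → θ j ≠ b
  θ_ne_c : ∀ j, 1 ≤ j → j ≤ m → θ j ≠ c
  θ_ne_d : ∀ j, 1 ≤ j → j ≤ m → θ j ≠ d
  θ_inj : ∀ j j', 1 ≤ j → j < j' → j' ≤ m → θ j ≠ θ j'
  shape0 : ∀ i, u 0 i = 1 * ind o i + δ * ind b i + (-δ) * ind (θ 1) i
  shape : ∀ k, 1 ≤ k → k < m → ∀ i, u k i = δ * ind (θ k) i + (-δ) * ind (θ (k + 1)) i
  shapem : ∀ i, u m i = δ * ind (θ m) i + εc * ind c i + εd * ind d i

theorem chain_final {u : ℕ → ι → ℤ} {x : ι → ℤ} {o : ι} {m : ℕ} (H : ChainHyp u x o m)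
    {δ : ℤ} {b : ι} {θ : ℕ → ι} (hδ : δ = 1 ∨ δ = -1) (hbo : b ≠ o)
    (I : ChainInv u o b δ θ m) :
    ∃ (c d : ι) (εc εd : ℤ), ChainOut u o m δ b θ c d εc εd := by
  have hm1 := H.one_le
  obtain ⟨c, d, hct, hdt, hcd, hc1, hd1, hz⟩ := shape_three (u m) (θ m) H.norm_top
    (by rw [I.at_top]; exact hδ)
  have hmo : u m o = 0 := H.at_o m (by omega) le_rfl
  have hne : ∀ r : ι, (u m r = 1 ∨ u m r = -1) → r ≠ o ∧ r ≠ b ∧ ∀ i, 1 ≤ i → i < m → θ i ≠ r := by
    intro r hr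
    refine ⟨?_, ?_, ?_⟩
    · intro h; rw [h, hmo] at hr; omega
    · intro h; rw [h, I.at_b] at hr; omega
    · intro i hi1 him h; rw [← h, I.at_low i hi1 him] at hr; omega
  obtain ⟨hco, hcb, hcθ⟩ := hne c hc1
  obtain ⟨hdo, hdb, hdθ⟩ := hne d hd1
  refine ⟨c, d, u m c, u m d, ?_⟩
  constructor
  · exact hδ
  · exact hc1
  · exact hd1
  · exact hbo
  · exact hco
  · exact hdo
  · exact hcb
  · exact hdb
  · exact hcd
  · exact I.ne_o
  · exact I.ne_b
  · intro j hj1 hjm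
    by_cases h : j < m
    · exact hcθ j hj1 h
    · have : j = m := by omega
      rw [this]; exact hct.symm
  · intro j hj1 hjm
    by_cases h : j < m
    · exact hdθ j hj1 h
    · have : j = m := by omega
      rw [this]; exact hdt.symm
  · exact I.inj
  · exact I.shape0
  · exact I.shape
  · intro i
    by_cases hi1 : i = θ m
    · rw [hi1, ind_self, ind_ne hct.symm, ind_ne hdt.symm, I.at_top]; ring
    by_cases hi2 : i = c
    · rw [hi2, ind_ne hct, ind_self, ind_ne hcd]; ring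
    by_cases hi3 : i = d
    · rw [hi3, ind_ne hdt, ind_ne hcd.symm, ind_self]; ring
    · rw [hz i hi1 hi2 hi3, ind_ne hi1, ind_ne hi2, ind_ne hi3]; ring

/-- **The chain lemma.** -/
theorem chain_lemma {u : ℕ → ι → ℤ} {x : ι → ℤ} {o : ι} {m : ℕ} (H : ChainHyp u x o m) :
    ∃ (δ : ℤ) (b : ι) (θ : ℕ → ι) (c d : ι) (εc εd : ℤ), ChainOut u o m δ b θ c d εc εd := by
  obtain ⟨δ, b, θ₁, hδ, hbo, I₁⟩ := chain_base H
  have hind : ∀ j, 1 ≤ j → j ≤ m → ∃ θ : ℕ → ι, ChainInv u o b δ θ j := by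
    intro j hj1
    induction j, hj1 using Nat.le_induction with
    | base => intro _; exact ⟨θ₁, I₁⟩
    | succ j hj1 ih =>
      intro hjm
      obtain ⟨θ, I⟩ := ih (by omega)
      exact chain_step H hδ I hj1 (by omega)
  obtain ⟨θ, I⟩ := hind m H.one_le le_rfl
  obtain ⟨c, d, εc, εd, hout⟩ := chain_final H hδ hbo I
  exact ⟨δ, b, θ, c, d, εc, εd, hout⟩

end chain

end Cfsg.Agent.Lib.Helper6.Dih
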