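import Mathlib
import Cfsg.Agent.Lib.Helper6.Dih3
import Cfsg.Agent.Lib.Helper6.Dih4

/-! # Groups with dihedral Sylow `2`-subgroups: the integral vectors of differences of
multiplicities and their Gram matrix -/

set_option autoImplicit false
set_option linter.unusedSectionVars false
open Cfsg

namespace Cfsg.Agent.Lib.Helper6.Dih

open Cfsg.Agent.Lib.Helper6
open scoped ComplexConjugate

section defs

variable {G : Type*} [Group G]

/-- multiplicity of the `k`-th linear character of `⟨σ⟩` in the restriction of `χ` -/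
noncomputable def mN (N : ℕ) (ζ : ℂ) (σ : G) (χ : G → ℂ) (k : ℕ) : ℕ :=
  @dite ℕ (∃ n : ℕ, coef N ζ (fun l => χ (σ ^ l)) k = n) (Classical.propDecidable _)
    (fun h => Classical.choose h) (fun _ => 0)

theorem mN_spec {N : ℕ} {ζ : ℂ} {σ : G} {χ : G → ℂ} (hχ : Cfsg.IsCharacter G χ)
    (hζ : IsPrimitiveRoot ζ N) (hN : 0 < N) (hσ : σ ^ N = 1) (k : ℕ) :
    (mN N ζ σ χ k : ℂ) = coef N ζ (fun l => χ (σ ^ l)) k := by
  have h := exists_coef_nat hχ hζ hN σ hσ k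
  unfold mN
  rw [dif_pos h]
  exact (Classical.choose_spec h).symm

/-- differences of consecutive multiplicities -/
noncomputable def uZ (N : ℕ) (ζ : ℂ) (σ : G) (χ : G → ℂ) (k : ℕ) : ℤ :=
  (mN N ζ σ χ k : ℤ) - (mN N ζ σ χ (k + 1) : ℤ)

/-- the test functions -/
noncomputable def bfun (ζ : ℂ) (k l : ℕ) : ℂ := (ζ ^ (k * l))⁻¹ - (ζ ^ ((k + 1) * l))⁻¹

theorem bfun_zero (ζ : ℂ) (k : ℕ) : bfun ζ k 0 = 0 := by
  unfold bfun; simp

theorem uZ_eq {N : ℕ} {ζ : ℂ} {σ : G} {χ : G → ℂ} (hχ : Cfsg.IsCharacter G χ)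
    (hζ : IsPrimitiveRoot ζ N) (hN : 0 < N) (hσ : σ ^ N = 1) (k : ℕ) :
    ((uZ N ζ σ χ k : ℤ) : ℂ)
      = (N : ℂ)⁻¹ * ∑ l ∈ Finset.range N, χ (σ ^ l) * bfun ζ k l := by
  unfold uZ
  push_cast
  rw [mN_spec hχ hζ hN hσ, mN_spec hχ hζ hN hσ]
  unfold coef bfun
  rw [← mul_sub, ← Finset.sum_sub_distrib]
  congr 1
  apply Finset.sum_congr rfl
  intro l _
  ring

end defs

section pairing

variable {G : Type*} [Group G] [Finite G] {σ : G} {N : ℕ} {M : Ideal Cfsg.AlgInt}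

/-- the basic bilinear identity for the columns at the powers of `σ` -/
theorem sum_pairing (hM : Cfsg.IsPModular 2 M) (P : Sylow 2 G)
    (h : DihData (P : Subgroup G) σ N) (B : Finset (Cfsg.IrrCharacter G))
    (hB : ∀ χ, χ ∈ B ↔ χ ∈ Cfsg.principalBlock M G) (β γ : ℕ → ℂ) (hβ : β 0 = 0)
    (hγ : γ 0 = 0) :
    ∑ χ ∈ B, (∑ l ∈ Finset.range N, (χ : G → ℂ) (σ ^ l) * β l)
        * conj (∑ l ∈ Finset.range N, (χ : G → ℂ) (σ ^ l) * γ l)
      = (N : ℂ) * ∑ l ∈ Finset.range N, β l * (conj (γ l) + conj (γ (N - l))) := by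
  classical
  have e1 : ∀ χ : Cfsg.IrrCharacter G, (∑ l ∈ Finset.range N, (χ : G → ℂ) (σ ^ l) * β l)
        * conj (∑ l ∈ Finset.range N, (χ : G → ℂ) (σ ^ l) * γ l)
      = ∑ l ∈ Finset.range N, ∑ l' ∈ Finset.range N, β l * conj (γ l')
          * ((χ : G → ℂ) (σ ^ l) * conj ((χ : G → ℂ) (σ ^ l'))) := by
    intro χ
    rw [map_sum, Finset.sum_mul_sum]
    apply Finset.sum_congr rfl
    intro l _
    apply Finset.sum_congr rfl
    intro l' _
    rw [map_mul]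
    ring
  rw [Finset.sum_congr rfl (fun χ _ => e1 χ), Finset.sum_comm, Finset.mul_sum]
  apply Finset.sum_congr rfl
  intro l hl
  have hlN := Finset.mem_range.mp hl
  rw [Finset.sum_comm]
  by_cases hl0 : l = 0
  · rw [hl0, hβ]
    simp
  have h0 : 0 < l := Nat.pos_of_ne_zero hl0
  have e2 : ∀ l' ∈ Finset.range N, ∑ χ ∈ B, β l * conj (γ l')
        * ((χ : G → ℂ) (σ ^ l) * conj ((χ : G → ℂ) (σ ^ l')))
      = (if l' = l then (N : ℂ) * (β l * conj (γ l')) else 0)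
        + (if l' = N - l then (N : ℂ) * (β l * conj (γ l')) else 0) := by
    intro l' hl'
    have hl'N := Finset.mem_range.mp hl'
    rw [← Finset.mul_sum]
    by_cases hl'0 : l' = 0
    · have h1 : ¬ (l' = l) := by omega
      have h2 : ¬ (l' = N - l) := by omega
      rw [if_neg h1, if_neg h2, hl'0, hγ]
      simp
    have h0' : 0 < l' := Nat.pos_of_ne_zero hl'0
    rw [column_inner hM P h B hB h0 hlN h0' hl'N]
    by_cases h1 : l' = l
    · by_cases h2 : l' = N - l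
      · rw [if_pos h1, if_pos h2, if_pos h1.symm, if_pos (by omega)]
        ring
      · rw [if_pos h1, if_neg h2, if_pos h1.symm, if_neg (by omega)]
        ring
    · by_cases h2 : l' = N - l
      · rw [if_neg h1, if_pos h2, if_neg (fun hh => h1 hh.symm), if_pos (by omega)]
        ring
      · rw [if_neg h1, if_neg h2, if_neg (fun hh => h1 hh.symm), if_neg (by omega)]
        ring
  rw [Finset.sum_congr rfl e2, Finset.sum_add_distrib, Finset.sum_ite_eq' (Finset.range N) l,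
    Finset.sum_ite_eq' (Finset.range N) (N - l), if_pos hl,
    if_pos (Finset.mem_range.mpr (by omega))]
  ring

end pairing

section gram

variable {G : Type*} [Group G] [Finite G] {σ : G} {N : ℕ} {M : Ideal Cfsg.AlgInt} {ζ : ℂ}

theorem conj_bfun (hζ : IsPrimitiveRoot ζ N) (hN : 0 < N) (k l : ℕ) :
    conj (bfun ζ k l) = ζ ^ (k * l) - ζ ^ ((k + 1) * l) := by
  unfold bfun
  rw [map_sub, conj_pow_inv hζ hN, conj_pow_inv hζ hN]

theorem conj_bfun_sub (hζ : IsPrimitiveRoot ζ N) (hN : 0 < N) (k : ℕ) {l : ℕ} (hl : l ≤ N) :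
    conj (bfun ζ k (N - l)) = bfun ζ k l := by
  rw [conj_bfun hζ hN]
  unfold bfun
  have e : ∀ a : ℕ, ζ ^ (a * (N - l)) = (ζ ^ (a * l))⁻¹ := by
    intro a
    have := pow_sub_mul_inv hζ hl a
    rw [mul_comm a (N - l), mul_comm a l, ← this, inv_inv]
  rw [e, e]

/-- indicator of a congruence -/
def dlt (N a b : ℕ) : ℤ := if a ≡ b [MOD N] then 1 else 0

theorem sum_pow_mul_inv' (hζ : IsPrimitiveRoot ζ N) (hN : 0 < N) (a b : ℕ) :
    (N : ℂ)⁻¹ * ∑ l ∈ Finset.range N, ζ ^ (a * l) * (ζ ^ (b * l))⁻¹ = (dlt N a b : ℂ) := by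
  have hN0 : (N : ℂ) ≠ 0 := by exact_mod_cast hN.ne'
  rw [sum_pow_mul_inv hζ hN]
  unfold dlt
  split_ifs
  · field_simp
    simp
  · simp

/-- the Gram matrix of the difference vectors, in terms of congruence indicators -/
theorem gram_general (hM : Cfsg.IsPModular 2 M) (P : Sylow 2 G)
    (h : DihData (P : Subgroup G) σ N) (hζ : IsPrimitiveRoot ζ N)
    (B : Finset (Cfsg.IrrCharacter G))
    (hB : ∀ χ, χ ∈ B ↔ χ ∈ Cfsg.principalBlock M G) (k k' : ℕ) :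
    ∑ χ ∈ B, uZ N ζ σ (χ : G → ℂ) k * uZ N ζ σ (χ : G → ℂ) k'
      = dlt N k' k - dlt N (k' + 1) k - dlt N k' (k + 1) + dlt N (k' + 1) (k + 1)
        + dlt N 0 (k + k') - dlt N 0 (k + (k' + 1)) - dlt N 0 (k + 1 + k')
        + dlt N 0 (k + 1 + (k' + 1)) := by
  have hN : 0 < N := by have := h.four_le; omega
  have hN0 : (N : ℂ) ≠ 0 := by exact_mod_cast hN.ne'
  have hcast : ((∑ χ ∈ B, uZ N ζ σ (χ : G → ℂ) k * uZ N ζ σ (χ : G → ℂ) k' : ℤ) : ℂ)
      = ((dlt N k' k - dlt N (k' + 1) k - dlt N k' (k + 1) + dlt N (k' + 1) (k + 1)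
        + dlt N 0 (k + k') - dlt N 0 (k + (k' + 1)) - dlt N 0 (k + 1 + k')
        + dlt N 0 (k + 1 + (k' + 1)) : ℤ) : ℂ) := by
    push_cast
    have e1 : ∀ χ : Cfsg.IrrCharacter G,
        ((uZ N ζ σ (χ : G → ℂ) k : ℤ) : ℂ) * ((uZ N ζ σ (χ : G → ℂ) k' : ℤ) : ℂ)
          = (N : ℂ)⁻¹ * (N : ℂ)⁻¹ *
            ((∑ l ∈ Finset.range N, (χ : G → ℂ) (σ ^ l) * bfun ζ k l)
              * conj (∑ l ∈ Finset.range N, (χ : G → ℂ) (σ ^ l) * bfun ζ k' l)) := by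
      intro χ
      have hχ := IsIrrCharacter.isCharacter χ.2
      have hreal : conj ((uZ N ζ σ (χ : G → ℂ) k' : ℤ) : ℂ) = ((uZ N ζ σ (χ : G → ℂ) k' : ℤ) : ℂ) :=
        map_intCast (starRingEnd ℂ) _
      rw [← hreal, uZ_eq hχ hζ hN h.pow_N, uZ_eq hχ hζ hN h.pow_N, map_mul, map_inv₀,
        Complex.conj_natCast]
      ring
    rw [Finset.sum_congr rfl (fun χ _ => e1 χ), ← Finset.mul_sum,
      sum_pairing hM P h B hB (bfun ζ k) (bfun ζ k') (bfun_zero ζ k) (bfun_zero ζ k')]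
    have e2 : ∀ l ∈ Finset.range N,
        bfun ζ k l * (conj (bfun ζ k' l) + conj (bfun ζ k' (N - l)))
          = ζ ^ (k' * l) * (ζ ^ (k * l))⁻¹ - ζ ^ ((k' + 1) * l) * (ζ ^ (k * l))⁻¹
            - ζ ^ (k' * l) * (ζ ^ ((k + 1) * l))⁻¹ + ζ ^ ((k' + 1) * l) * (ζ ^ ((k + 1) * l))⁻¹
            + ζ ^ (0 * l) * (ζ ^ ((k + k') * l))⁻¹ - ζ ^ (0 * l) * (ζ ^ ((k + (k' + 1)) * l))⁻¹
            - ζ ^ (0 * l) * (ζ ^ ((k + 1 + k') * l))⁻¹
            + ζ ^ (0 * l) * (ζ ^ ((k + 1 + (k' + 1)) * l))⁻¹ := by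
      intro l hl
      rw [conj_bfun_sub hζ hN k' (Finset.mem_range.mp hl).le, conj_bfun hζ hN]
      unfold bfun
      simp only [zero_mul, pow_zero, one_mul, add_mul, pow_add, mul_inv]
      ring
    rw [Finset.sum_congr rfl e2]
    simp only [Finset.sum_add_distrib, Finset.sum_sub_distrib]
    have e3 : (N : ℂ)⁻¹ * (N : ℂ)⁻¹ * ((N : ℂ) *
        (∑ l ∈ Finset.range N, ζ ^ (k' * l) * (ζ ^ (k * l))⁻¹
          - ∑ l ∈ Finset.range N, ζ ^ ((k' + 1) * l) * (ζ ^ (k * l))⁻¹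
          - ∑ l ∈ Finset.range N, ζ ^ (k' * l) * (ζ ^ ((k + 1) * l))⁻¹
          + ∑ l ∈ Finset.range N, ζ ^ ((k' + 1) * l) * (ζ ^ ((k + 1) * l))⁻¹
          + ∑ l ∈ Finset.range N, ζ ^ (0 * l) * (ζ ^ ((k + k') * l))⁻¹
          - ∑ l ∈ Finset.range N, ζ ^ (0 * l) * (ζ ^ ((k + (k' + 1)) * l))⁻¹
          - ∑ l ∈ Finset.range N, ζ ^ (0 * l) * (ζ ^ ((k + 1 + k') * l))⁻¹
          + ∑ l ∈ Finset.range N, ζ ^ (0 * l) * (ζ ^ ((k + 1 + (k' + 1)) * l))⁻¹))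
        = (N : ℂ)⁻¹ * ∑ l ∈ Finset.range N, ζ ^ (k' * l) * (ζ ^ (k * l))⁻¹
          - (N : ℂ)⁻¹ * ∑ l ∈ Finset.range N, ζ ^ ((k' + 1) * l) * (ζ ^ (k * l))⁻¹
          - (N : ℂ)⁻¹ * ∑ l ∈ Finset.range N, ζ ^ (k' * l) * (ζ ^ ((k + 1) * l))⁻¹
          + (N : ℂ)⁻¹ * ∑ l ∈ Finset.range N, ζ ^ ((k' + 1) * l) * (ζ ^ ((k + 1) * l))⁻¹
          + (N : ℂ)⁻¹ * ∑ l ∈ Finset.range N, ζ ^ (0 * l) * (ζ ^ ((k + k') * l))⁻¹
          - (N : ℂ)⁻¹ * ∑ l ∈ Finset.range N, ζ ^ (0 * l) * (ζ ^ ((k + (k' + 1)) * l))⁻¹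
          - (N : ℂ)⁻¹ * ∑ l ∈ Finset.range N, ζ ^ (0 * l) * (ζ ^ ((k + 1 + k') * l))⁻¹
          + (N : ℂ)⁻¹ * ∑ l ∈ Finset.range N, ζ ^ (0 * l)
              * (ζ ^ ((k + 1 + (k' + 1)) * l))⁻¹ := by
      field_simp
    rw [e3]
    simp only [sum_pow_mul_inv' hζ hN]
  exact_mod_cast hcast

theorem dlt_of_lt {a b : ℕ} (ha : a < N) (hb : b < N) : dlt N a b = if a = b then 1 else 0 := by
  unfold dlt
  by_cases hab : a = b
  · rw [if_pos hab, if_pos (by rw [hab])]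
  · rw [if_neg hab, if_neg (fun hmod => hab (Nat.ModEq.eq_of_lt_of_lt hmod ha hb))]

theorem dlt_zero_of_le {c : ℕ} (hN : 0 < N) (hc : c ≤ N) :
    dlt N 0 c = if c = 0 ∨ c = N then 1 else 0 := by
  unfold dlt
  by_cases h0 : c = 0
  · rw [if_pos (Or.inl h0), if_pos (by rw [h0])]
  · by_cases hN' : c = N
    · rw [if_pos (Or.inr hN'), if_pos]
      rw [hN']
      exact (Nat.modEq_zero_iff_dvd.mpr dvd_rfl).symm
    · have hnm : ¬ (0 ≡ c [MOD N]) := by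
        intro hmod
        have := Nat.ModEq.eq_of_lt_of_lt hmod hN (by omega)
        omega
      have hno : ¬ (c = 0 ∨ c = N) := by tauto
      rw [if_neg hnm, if_neg hno]

/-- the Gram matrix of the vectors `u_0, …, u_m`, `N = 2(m+1)` -/
theorem gram (hM : Cfsg.IsPModular 2 M) (P : Sylow 2 G)
    (h : DihData (P : Subgroup G) σ N) (hζ : IsPrimitiveRoot ζ N)
    (B : Finset (Cfsg.IrrCharacter G))
    (hB : ∀ χ, χ ∈ B ↔ χ ∈ Cfsg.principalBlock M G) {m : ℕ} (hm : N = 2 * (m + 1))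
    {k k' : ℕ} (hkk' : k ≤ k') (hk' : k' ≤ m) :
    ∑ χ ∈ B, uZ N ζ σ (χ : G → ℂ) k * uZ N ζ σ (χ : G → ℂ) k'
      = (if k = k' then 2 else 0) - (if k' = k + 1 then 1 else 0)
        + (if k' = 0 then 1 else 0) + (if k = m then 1 else 0) := by
  have hN : 0 < N := by omega
  rw [gram_general hM P h hζ B hB k k']
  rw [dlt_of_lt (by omega : k' < N) (by omega : k < N),
    dlt_of_lt (by omega : k' + 1 < N) (by omega : k < N),
    dlt_of_lt (by omega : k' < N) (by omega : k + 1 < N),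
    dlt_of_lt (by omega : k' + 1 < N) (by omega : k + 1 < N),
    dlt_zero_of_le hN (by omega : k + k' ≤ N),
    dlt_zero_of_le hN (by omega : k + (k' + 1) ≤ N),
    dlt_zero_of_le hN (by omega : k + 1 + k' ≤ N),
    dlt_zero_of_le hN (by omega : k + 1 + (k' + 1) ≤ N)]
  by_cases e1 : k = k'
  · subst e1
    by_cases e2 : k = 0
    · subst e2
      by_cases e3 : (0 : ℕ) = m
      · subst e3
        simp [hm]
      · have : ¬ (0 + 1 + (0 + 1) = N) := by omega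
        simp [e3, this]
        omega
    · by_cases e3 : k = m
      · subst e3
        have h1 : k + 1 + (k + 1) = N := by omega
        have h2 : ¬ (k + k = N) := by omega
        have h3 : ¬ (k + (k + 1) = N) := by omega
        have h4 : ¬ (k + 1 + k = N) := by omega
        simp [e2, h1, h2, h3, h4]
      · have h1 : ¬ (k + 1 + (k + 1) = N) := by omega
        have h2 : ¬ (k + k = N) := by omega
        have h3 : ¬ (k + (k + 1) = N) := by omega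
        have h4 : ¬ (k + 1 + k = N) := by omega
        simp [e2, e3, h1, h2, h3, h4]
  · have hlt : k < k' := lt_of_le_of_ne hkk' e1
    have h0 : ¬ (k' = 0) := by omega
    have hkm : ¬ (k = m) := by omega
    have h1 : ¬ (k + 1 + (k' + 1) = N) := by omega
    have h2 : ¬ (k + k' = N) := by omega
    have h3 : ¬ (k + (k' + 1) = N) := by omega
    have h4 : ¬ (k + 1 + k' = N) := by omega
    have h5 : ¬ (k' = k) := by omega
    have h6 : ¬ (k' + 1 = k) := by omega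
    have h7 : ¬ (k' + 1 = k + 1) := by omega
    have h8 : ¬ (k + k' = 0) := by omega
    by_cases e2 : k' = k + 1
    · simp [e1, e2, h0, hkm, h1, h2, h3, h4, h5, h6, h7, h8]
      omega
    · simp [e1, e2, h0, hkm, h1, h2, h3, h4, h5, h6, h7, h8]

/-- orthogonality of the difference vectors with the `2`-regular columns -/
theorem sum_uZ_mul_regular (hM : Cfsg.IsPModular 2 M) (P : Sylow 2 G)
    (h : DihData (P : Subgroup G) σ N) (hζ : IsPrimitiveRoot ζ N)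
    (B : Finset (Cfsg.IrrCharacter G))
    (hB : ∀ χ, χ ∈ B ↔ χ ∈ Cfsg.principalBlock M G) (k : ℕ) (ρ : G) (hρ : ¬ 2 ∣ orderOf ρ) :
    ∑ χ ∈ B, ((uZ N ζ σ (χ : G → ℂ) k : ℤ) : ℂ) * (χ : G → ℂ) ρ = 0 := by
  have hN : 0 < N := by have := h.four_le; omega
  have hρ' : ¬ 2 ∣ orderOf ρ⁻¹ := by rwa [orderOf_inv]
  have e1 : ∀ χ : Cfsg.IrrCharacter G, ((uZ N ζ σ (χ : G → ℂ) k : ℤ) : ℂ) * (χ : G → ℂ) ρ
      = (N : ℂ)⁻¹ * ∑ l ∈ Finset.range N, bfun ζ k l
          * ((χ : G → ℂ) (σ ^ l) * conj ((χ : G → ℂ) ρ⁻¹)) := by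
    intro χ
    have hχ := IsIrrCharacter.isCharacter χ.2
    rw [uZ_eq hχ hζ hN h.pow_N, IsCharacter.apply_inv hχ, Complex.conj_conj, mul_assoc,
      Finset.sum_mul]
    congr 1
    apply Finset.sum_congr rfl
    intro l _
    ring
  rw [Finset.sum_congr rfl (fun χ _ => e1 χ), ← Finset.mul_sum, Finset.sum_comm]
  have e2 : ∀ l ∈ Finset.range N, ∑ χ ∈ B, bfun ζ k l
      * ((χ : G → ℂ) (σ ^ l) * conj ((χ : G → ℂ) ρ⁻¹)) = 0 := by
    intro l hl
    rw [← Finset.mul_sum]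
    by_cases hl0 : l = 0
    · rw [hl0, bfun_zero, zero_mul]
    · rw [column_regular hM P h B hB (Nat.pos_of_ne_zero hl0) (Finset.mem_range.mp hl) ρ⁻¹ hρ',
        mul_zero]
  rw [Finset.sum_congr rfl e2, Finset.sum_const_zero, mul_zero]

end gram

end Cfsg.Agent.Lib.Helper6.Dih
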