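import Mathlib
import Cfsg.Agent.Lib.Helper6.Dih5
import Cfsg.Agent.Lib.Helper6.ClassFun
import Cfsg.Agent.Lib.Helper6.Mult

/-! # Groups with dihedral Sylow `2`-subgroups: values of characters on the powers of `σ` from
the differences of multiplicities, and nonvanishing -/

set_option autoImplicit false
set_option linter.unusedSectionVars false
open Cfsg

namespace Cfsg.Agent.Lib.Helper6.Dih

open Cfsg.Agent.Lib.Helper6
open scoped ComplexConjugate

section sums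

theorem sum_cond_one {N : ℕ} (p : ℕ → Prop) [DecidablePred p] {j : ℕ} (hj : j < N)
    (hp : ∀ k, k < N → (p k ↔ k = j)) (a : ℤ) (g : ℕ → ℂ) :
    ∑ k ∈ Finset.range N, ((if p k then a else 0 : ℤ) : ℂ) * g k = (a : ℂ) * g j := by
  rw [Finset.sum_eq_single j]
  · rw [if_pos ((hp j hj).mpr rfl)]
  · intro k hk hkj
    rw [if_neg (fun hh => hkj ((hp k (Finset.mem_range.mp hk)).mp hh))]
    simp
  · intro hh
    exact absurd (Finset.mem_range.mpr hj) hh

theorem sum_cond_two {N : ℕ} (p : ℕ → Prop) [DecidablePred p] {j j' : ℕ} (hj : j < N)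
    (hj' : j' < N) (hjj' : j ≠ j')
    (hp : ∀ k, k < N → (p k ↔ k = j ∨ k = j')) (a : ℤ) (g : ℕ → ℂ) :
    ∑ k ∈ Finset.range N, ((if p k then a else 0 : ℤ) : ℂ) * g k
      = (a : ℂ) * g j + (a : ℂ) * g j' := by
  have h1 : ∀ k ∈ Finset.range N, ((if p k then a else 0 : ℤ) : ℂ) * g k
      = ((if k = j then a else 0 : ℤ) : ℂ) * g k
        + ((if k = j' then a else 0 : ℤ) : ℂ) * g k := by
    intro k hk
    have hk' := Finset.mem_range.mp hk
    by_cases e1 : k = j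
    · have e2 : ¬ (k = j') := fun hh => hjj' (e1.symm.trans hh)
      rw [if_pos ((hp k hk').mpr (Or.inl e1)), if_pos e1, if_neg e2]
      simp
    · by_cases e2 : k = j'
      · rw [if_pos ((hp k hk').mpr (Or.inr e2)), if_neg e1, if_pos e2]
        simp
      · rw [if_neg (fun hh => ((hp k hk').mp hh).elim e1 e2), if_neg e1, if_neg e2]
        simp
  rw [Finset.sum_congr rfl h1, Finset.sum_add_distrib,
    sum_cond_one (fun k => k = j) hj (fun k _ => Iff.rfl) a g,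
    sum_cond_one (fun k => k = j') hj' (fun k _ => Iff.rfl) a g]

end sums

section values

variable {G : Type*} [Group G] [Finite G] {σ : G} {N : ℕ} {ζ : ℂ} {P : Subgroup G}

theorem conj_apply_pow (h : DihData P σ N) {χ : G → ℂ} (hχ : Cfsg.IsCharacter G χ) (l : ℕ) :
    conj (χ (σ ^ l)) = χ (σ ^ l) := by
  rw [← IsCharacter.apply_inv hχ]
  obtain ⟨g, hg⟩ := isConj_iff.mp (h.isConj_inv (DihData.pow_mem l))
  rw [← hg]
  exact IsCharacter.isClassFunction hχ (σ ^ l) g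

theorem mN_sub (h : DihData P σ N) (hζ : IsPrimitiveRoot ζ N) {χ : G → ℂ}
    (hχ : Cfsg.IsCharacter G χ) {k : ℕ} (hk : k ≤ N) :
    mN N ζ σ χ (N - k) = mN N ζ σ χ k := by
  have hN : 0 < N := by have := h.four_le; omega
  have h1 := mN_spec hχ hζ hN h.pow_N (N - k)
  have h2 := mN_spec hχ hζ hN h.pow_N k
  rw [coef_sub hζ hN _ (fun l => conj_apply_pow h hχ l) hk, ← h2, Complex.conj_natCast] at h1
  exact_mod_cast h1

theorem mN_eq_sub_sum (N : ℕ) (ζ : ℂ) (σ : G) (χ : G → ℂ) (k : ℕ) :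
    (mN N ζ σ χ k : ℤ) = (mN N ζ σ χ 0 : ℤ) - ∑ i ∈ Finset.range k, uZ N ζ σ χ i := by
  induction k with
  | zero => simp
  | succ k ih =>
    rw [Finset.sum_range_succ]
    have hu : uZ N ζ σ χ k = (mN N ζ σ χ k : ℤ) - (mN N ζ σ χ (k + 1) : ℤ) := rfl
    rw [hu]
    linarith

theorem mN_of_uZ {m : ℕ} {χ : G → ℂ} (p p' : ℕ) (s s' : ℤ)
    (hu : ∀ i, i ≤ m → uZ N ζ σ χ i = (if i = p then s else 0) + (if i = p' then s' else 0))
    {k : ℕ} (hk : k ≤ m + 1) :
    (mN N ζ σ χ k : ℤ) = (mN N ζ σ χ 0 : ℤ) - (if p < k then s else 0)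
      - (if p' < k then s' else 0) := by
  rw [mN_eq_sub_sum N ζ σ χ k]
  have h1 : ∑ i ∈ Finset.range k, uZ N ζ σ χ i
      = ∑ i ∈ Finset.range k, ((if i = p then s else 0) + (if i = p' then s' else 0)) :=
    Finset.sum_congr rfl (fun i hi => hu i (by have := Finset.mem_range.mp hi; omega))
  rw [h1, Finset.sum_add_distrib, Finset.sum_ite_eq' (Finset.range k) p (fun _ => s),
    Finset.sum_ite_eq' (Finset.range k) p' (fun _ => s')]
  simp only [Finset.mem_range]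
  ring

/-- the values at the powers of `σ` from the shape of the multiplicities -/
theorem apply_pow_of_mN (h : DihData P σ N) (hζ : IsPrimitiveRoot ζ N) {m : ℕ}
    (hm : N = 2 * (m + 1)) {χ : G → ℂ} (hχ : Cfsg.IsCharacter G χ) (c₀ a : ℤ) (j₀ : ℕ)
    (hj₀ : j₀ ≤ m + 1)
    (hM : ∀ k, k ≤ m + 1 → (mN N ζ σ χ k : ℤ) = c₀ + (if k = j₀ then a else 0))
    {l : ℕ} (h0 : 0 < l) (hl : l < N) :
    χ (σ ^ l) = ∑ k ∈ Finset.range N,
      ((if k = j₀ ∨ k + j₀ = N then a else 0 : ℤ) : ℂ) * ζ ^ (k * l) := by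
  have hN : 0 < N := by omega
  refine apply_eq_sum_of_coef hζ hN (fun l => χ (σ ^ l)) (c₀ : ℂ)
    (fun k => ((if k = j₀ ∨ k + j₀ = N then a else 0 : ℤ) : ℂ)) ?_ h0 hl
  intro k hk
  rw [← mN_spec hχ hζ hN h.pow_N k]
  show (mN N ζ σ χ k : ℂ) = (c₀ : ℂ) + ((if k = j₀ ∨ k + j₀ = N then a else 0 : ℤ) : ℂ)
  by_cases hkm : k ≤ m + 1
  · have h1 := hM k hkm
    have h2 : ((mN N ζ σ χ k : ℤ) : ℂ) = ((c₀ + (if k = j₀ then a else 0) : ℤ) : ℂ) := by
      rw [h1]
    rw [Int.cast_natCast] at h2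
    rw [h2]
    by_cases e : k = j₀
    · rw [if_pos e, if_pos (Or.inl e)]; push_cast; ring
    · rw [if_neg e, if_neg (by omega)]; push_cast; ring
  · have h1 := hM (N - k) (by omega)
    have hsym := mN_sub h hζ hχ (show N - k ≤ N by omega)
    rw [show N - (N - k) = k by omega] at hsym
    have h2 : ((mN N ζ σ χ (N - k) : ℤ) : ℂ)
        = ((c₀ + (if N - k = j₀ then a else 0) : ℤ) : ℂ) := by
      rw [h1]
    rw [Int.cast_natCast, ← hsym] at h2
    rw [h2]
    by_cases e : N - k = j₀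
    · rw [if_pos e, if_pos (Or.inr (by omega))]; push_cast; ring
    · rw [if_neg e, if_neg (by omega)]; push_cast; ring

/-- the pattern of the character `χ₁` -/
theorem val_b (h : DihData P σ N) (hζ : IsPrimitiveRoot ζ N) {m : ℕ}
    (hm : N = 2 * (m + 1)) {χ : G → ℂ} (hχ : Cfsg.IsCharacter G χ) (δ : ℤ)
    (hu0 : uZ N ζ σ χ 0 = δ) (hu : ∀ k, 1 ≤ k → k ≤ m → uZ N ζ σ χ k = 0)
    {l : ℕ} (h0 : 0 < l) (hl : l < N) : χ (σ ^ l) = (δ : ℂ) := by
  have hpat : ∀ i, i ≤ m → uZ N ζ σ χ i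
      = (if i = 0 then δ else 0) + (if i = 0 then 0 else 0) := by
    intro i hi
    by_cases e : i = 0
    · rw [e, hu0]; simp
    · rw [hu i (by omega) hi]; simp [e]
  have hMk : ∀ k, k ≤ m + 1 → (mN N ζ σ χ k : ℤ)
      = ((mN N ζ σ χ 0 : ℤ) - δ) + (if k = 0 then δ else 0) := by
    intro k hk
    rw [mN_of_uZ 0 0 δ 0 hpat hk, ite_self]
    by_cases e : k = 0
    · rw [if_neg (show ¬ 0 < k by omega), if_pos e]; ring
    · rw [if_pos (show 0 < k by omega), if_neg e]; ring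
  rw [apply_pow_of_mN h hζ hm hχ _ δ 0 (by omega) hMk h0 hl]
  rw [sum_cond_one (fun k => k = 0 ∨ k + 0 = N) (show 0 < N by omega)
    (fun k hk => by constructor <;> intro hh <;> omega) δ (fun k => ζ ^ (k * l))]
  simp

/-- the pattern of the characters `χ₂`, `χ₃` -/
theorem val_c (h : DihData P σ N) (hζ : IsPrimitiveRoot ζ N) {m : ℕ}
    (hm : N = 2 * (m + 1)) {χ : G → ℂ} (hχ : Cfsg.IsCharacter G χ) (ε : ℤ)
    (hum : uZ N ζ σ χ m = ε) (hu : ∀ k, k < m → uZ N ζ σ χ k = 0)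
    {l : ℕ} (h0 : 0 < l) (hl : l < N) : χ (σ ^ l) = (ε : ℂ) * (-1) ^ (l + 1) := by
  have hpat : ∀ i, i ≤ m → uZ N ζ σ χ i
      = (if i = m then ε else 0) + (if i = m then 0 else 0) := by
    intro i hi
    by_cases e : i = m
    · rw [e, hum]; simp
    · rw [hu i (by omega)]; simp [e]
  have hMk : ∀ k, k ≤ m + 1 → (mN N ζ σ χ k : ℤ)
      = (mN N ζ σ χ 0 : ℤ) + (if k = m + 1 then -ε else 0) := by
    intro k hk
    rw [mN_of_uZ m m ε 0 hpat hk, ite_self]
    by_cases e : k = m + 1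
    · rw [if_pos (show m < k by omega), if_pos e]; ring
    · rw [if_neg (show ¬ m < k by omega), if_neg e]; ring
  rw [apply_pow_of_mN h hζ hm hχ _ (-ε) (m + 1) le_rfl hMk h0 hl]
  rw [sum_cond_one (fun k => k = m + 1 ∨ k + (m + 1) = N) (show m + 1 < N by omega)
    (fun k hk => by constructor <;> intro hh <;> omega) (-ε) (fun k => ζ ^ (k * l))]
  rw [pow_mul, pow_half hζ hm (by omega)]
  push_cast
  ring

/-- the pattern of the characters `χ^{(j)}` -/
theorem val_theta (h : DihData P σ N) (hζ : IsPrimitiveRoot ζ N) {m : ℕ}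
    (hm : N = 2 * (m + 1)) {χ : G → ℂ} (hχ : Cfsg.IsCharacter G χ) (δ : ℤ) {j : ℕ}
    (hj1 : 1 ≤ j) (hjm : j ≤ m)
    (hu1 : uZ N ζ σ χ (j - 1) = -δ) (hu2 : uZ N ζ σ χ j = δ)
    (hu : ∀ k, k ≤ m → k ≠ j - 1 → k ≠ j → uZ N ζ σ χ k = 0)
    {l : ℕ} (h0 : 0 < l) (hl : l < N) :
    χ (σ ^ l) = (δ : ℂ) * (ζ ^ (j * l) + (ζ ^ (j * l))⁻¹) := by
  have hpat : ∀ i, i ≤ m → uZ N ζ σ χ i
      = (if i = j - 1 then -δ else 0) + (if i = j then δ else 0) := by
    intro i hi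
    by_cases e1 : i = j - 1
    · have e2 : ¬ (i = j) := by omega
      rw [if_pos e1, if_neg e2, e1, hu1]; ring
    · by_cases e2 : i = j
      · rw [if_neg e1, if_pos e2, e2, hu2]; ring
      · rw [if_neg e1, if_neg e2, hu i hi e1 e2]; ring
  have hMk : ∀ k, k ≤ m + 1 → (mN N ζ σ χ k : ℤ)
      = (mN N ζ σ χ 0 : ℤ) + (if k = j then δ else 0) := by
    intro k hk
    rw [mN_of_uZ (j - 1) j (-δ) δ hpat hk]
    by_cases e : k = j
    · rw [if_pos (show j - 1 < k by omega), if_neg (show ¬ j < k by omega), if_pos e]; ring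
    · by_cases e' : j < k
      · rw [if_pos (show j - 1 < k by omega), if_pos e', if_neg e]; ring
      · rw [if_neg (show ¬ j - 1 < k by omega), if_neg e', if_neg e]; ring
  rw [apply_pow_of_mN h hζ hm hχ _ δ j (by omega) hMk h0 hl]
  rw [sum_cond_two (fun k => k = j ∨ k + j = N) (show j < N by omega)
    (show N - j < N by omega) (show j ≠ N - j by omega)
    (fun k hk => by constructor <;> intro hh <;> omega) δ (fun k => ζ ^ (k * l))]
  have hinv : (ζ ^ (j * l))⁻¹ = ζ ^ ((N - j) * l) := by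
    rw [← pow_sub_mul_inv hζ (show j ≤ N by omega) l, inv_inv]
  rw [hinv]
  ring

end values

section nonvanishing

variable {G : Type*} [Group G] [Finite G] {σ : G} {N : ℕ} {ζ : ℂ} {M : Ideal Cfsg.AlgInt}

/-- every character of the principal block occurs in one of the difference vectors -/
theorem exists_uZ_ne_zero (hM : Cfsg.IsPModular 2 M) (P : Sylow 2 G)
    (h : DihData (P : Subgroup G) σ N) (hζ : IsPrimitiveRoot ζ N) {m : ℕ}
    (hm : N = 2 * (m + 1)) (χ : Cfsg.IrrCharacter G) (hχ : χ ∈ Cfsg.principalBlock M G) :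
    ∃ k, k ≤ m ∧ uZ N ζ σ (χ : G → ℂ) k ≠ 0 := by
  by_contra hcon
  push Not at hcon
  have hχc := IsIrrCharacter.isCharacter χ.2
  have hpat : ∀ i, i ≤ m → uZ N ζ σ (χ : G → ℂ) i
      = (if i = 0 then 0 else 0) + (if i = 0 then 0 else 0) := by
    intro i hi; rw [hcon i hi]; simp
  have hMk : ∀ k, k ≤ m + 1 → (mN N ζ σ (χ : G → ℂ) k : ℤ)
      = (mN N ζ σ (χ : G → ℂ) 0 : ℤ) + (if k = 0 then 0 else 0) := by
    intro k hk
    rw [mN_of_uZ 0 0 0 0 hpat hk]; simp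
  have hval := apply_pow_of_mN h hζ hm hχc _ 0 0 (by omega) hMk (show 0 < m + 1 by omega)
    (show m + 1 < N by omega)
  have hz : (χ : G → ℂ) (σ ^ (m + 1)) = 0 := by
    rw [hval]
    apply Finset.sum_eq_zero
    intro k _
    simp
  refine apply_ne_zero_of_central hM P ?_ χ hχ hz
  intro x hx
  by_cases hxs : x ∈ Subgroup.zpowers σ
  · exact DihData.comm_of_mem hxs (DihData.pow_mem (m + 1))
  · have h1 := h.conj_pow' hx hxs (m + 1)
    have h2 : (σ ^ (m + 1))⁻¹ = σ ^ (m + 1) := by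
      apply inv_eq_of_mul_eq_one_right
      rw [← pow_add, show m + 1 + (m + 1) = N by omega, h.pow_N]
    rw [h2] at h1
    calc x * σ ^ (m + 1) = x * σ ^ (m + 1) * x⁻¹ * x := by group
      _ = σ ^ (m + 1) * x := by rw [h1]

end nonvanishing

section trivial

variable {G : Type*} [Group G] [Finite G] {σ : G} {N : ℕ} {ζ : ℂ}

theorem isCharacter_one_fun : Cfsg.IsCharacter G (fun _ => (1 : ℂ)) :=
  IsIrrCharacter.isCharacter isIrrCharacter_one

theorem mN_one (hζ : IsPrimitiveRoot ζ N) (hN : 0 < N) (hσ : σ ^ N = 1) {k : ℕ} (hk : k < N) :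
    mN N ζ σ (fun _ : G => (1 : ℂ)) k = if k = 0 then 1 else 0 := by
  have h1 : (mN N ζ σ (fun _ : G => (1 : ℂ)) k : ℂ) = coef N ζ (fun _ : ℕ => (1 : ℂ)) k :=
    mN_spec isCharacter_one_fun hζ hN hσ k
  have h2 : coef N ζ (fun _ : ℕ => (1 : ℂ)) k = (dlt N 0 k : ℂ) := by
    rw [← sum_pow_mul_inv' hζ hN 0 k]
    unfold coef
    simp
  rw [h2, dlt_zero_of_le hN hk.le] at h1
  by_cases e : k = 0
  · rw [if_pos (Or.inl e)] at h1
    rw [if_pos e]
    exact_mod_cast h1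
  · rw [if_neg (by omega)] at h1
    rw [if_neg e]
    exact_mod_cast h1

theorem uZ_one (hζ : IsPrimitiveRoot ζ N) {m : ℕ} (hm : N = 2 * (m + 1)) (hσ : σ ^ N = 1)
    {k : ℕ} (hk : k ≤ m) :
    uZ N ζ σ (fun _ : G => (1 : ℂ)) k = if k = 0 then 1 else 0 := by
  unfold uZ
  rw [mN_one hζ (by omega) hσ (show k < N by omega),
    mN_one hζ (by omega) hσ (show k + 1 < N by omega)]
  by_cases e : k = 0
  · simp [e]
  · simp [e]

end trivial

end Cfsg.Agent.Lib.Helper6.Dih
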