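import Mathlib
import Cfsg.Agent.Lib.Helper6.Dih6
import Cfsg.Agent.Lib.Helper6.Dih7
import Cfsg.Agent.Lib.Helper6.BrPrin
import Cfsg.Agent.Lib.Helper6.Constituent
import Cfsg.Agent.Lib.Helper6.IrrBasis

/-! # The principal `2`-block of a group with dihedral Sylow `2`-subgroups (Brauer) -/

set_option autoImplicit false
set_option linter.unusedSectionVars false
open Cfsg

namespace Cfsg.Agent.Lib.Helper6.Dih

open Cfsg.Agent.Lib.Helper6
open scoped ComplexConjugate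

section aux

variable {ι : Type*} [Fintype ι] [DecidableEq ι]

theorem sum_ind_mul_complex (p : ι) (v : ι → ℂ) : ∑ i, ((ind p i : ℤ) : ℂ) * v i = v p := by
  rw [Finset.sum_eq_single p]
  · rw [ind_self]; simp
  · intro i _ hi; rw [ind_ne hi]; simp
  · intro h; exact absurd (Finset.mem_univ p) h

theorem sum_two_mul_complex (w : ι → ℤ) (v : ι → ℂ) (a a' : ℤ) (p q : ι)
    (hw : ∀ i, w i = a * ind p i + a' * ind q i) :
    ∑ i, ((w i : ℤ) : ℂ) * v i = (a : ℂ) * v p + (a' : ℂ) * v q := by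
  have h : ∀ i, ((w i : ℤ) : ℂ) * v i = (a : ℂ) * (((ind p i : ℤ) : ℂ) * v i)
      + (a' : ℂ) * (((ind q i : ℤ) : ℂ) * v i) := by
    intro i; rw [hw i]; push_cast; ring
  rw [Finset.sum_congr rfl (fun i _ => h i), Finset.sum_add_distrib, ← Finset.mul_sum,
    ← Finset.mul_sum, sum_ind_mul_complex, sum_ind_mul_complex]

theorem sum_three_mul_complex (w : ι → ℤ) (v : ι → ℂ) (a a' a'' : ℤ) (p q r : ι)
    (hw : ∀ i, w i = a * ind p i + a' * ind q i + a'' * ind r i) :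
    ∑ i, ((w i : ℤ) : ℂ) * v i = (a : ℂ) * v p + (a' : ℂ) * v q + (a'' : ℂ) * v r := by
  have h : ∀ i, ((w i : ℤ) : ℂ) * v i = (a : ℂ) * (((ind p i : ℤ) : ℂ) * v i)
      + (a' : ℂ) * (((ind q i : ℤ) : ℂ) * v i) + (a'' : ℂ) * (((ind r i : ℤ) : ℂ) * v i) := by
    intro i; rw [hw i]; push_cast; ring
  rw [Finset.sum_congr rfl (fun i _ => h i), Finset.sum_add_distrib, Finset.sum_add_distrib,
    ← Finset.mul_sum, ← Finset.mul_sum, ← Finset.mul_sum, sum_ind_mul_complex,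
    sum_ind_mul_complex, sum_ind_mul_complex]

theorem eq_of_three_ne_zero {w : ι → ℤ} {a a' a'' : ℤ} {p q r i : ι}
    (hw : w i = a * ind p i + a' * ind q i + a'' * ind r i) (h : w i ≠ 0) :
    i = p ∨ i = q ∨ i = r := by
  by_contra hcon
  push Not at hcon
  obtain ⟨h1, h2, h3⟩ := hcon
  rw [ind_ne h1, ind_ne h2, ind_ne h3] at hw
  apply h; rw [hw]; ring

theorem eq_of_two_ne_zero {w : ι → ℤ} {a a' : ℤ} {p q i : ι}
    (hw : w i = a * ind p i + a' * ind q i) (h : w i ≠ 0) :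
    i = p ∨ i = q := by
  by_contra hcon
  push Not at hcon
  obtain ⟨h1, h2⟩ := hcon
  rw [ind_ne h1, ind_ne h2] at hw
  apply h; rw [hw]; ring

end aux

section uB

variable {G : Type*} [Group G]

open Classical in
/-- the difference vectors, extended by zero outside the block -/
noncomputable def uB (B : Finset (Cfsg.IrrCharacter G)) (N : ℕ) (ζ : ℂ) (σ : G) (k : ℕ)
    (χ : Cfsg.IrrCharacter G) : ℤ :=
  if χ ∈ B then uZ N ζ σ (χ : G → ℂ) k else 0

variable {B : Finset (Cfsg.IrrCharacter G)} {N : ℕ} {ζ : ℂ} {σ : G} {χ : Cfsg.IrrCharacter G}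

theorem uB_of_mem (hχ : χ ∈ B) (k : ℕ) :
    uB B N ζ σ k χ = uZ N ζ σ (χ : G → ℂ) k := by
  unfold uB; rw [if_pos hχ]

theorem uB_of_not_mem (hχ : χ ∉ B) (k : ℕ) : uB B N ζ σ k χ = 0 := by
  unfold uB; rw [if_neg hχ]

theorem mem_of_uB_ne_zero {k : ℕ} (h : uB B N ζ σ k χ ≠ 0) : χ ∈ B := by
  by_contra hcon; exact h (uB_of_not_mem hcon k)

/-- the degrees -/
noncomputable def xB (χ : Cfsg.IrrCharacter G) : ℤ := (Cfsg.charDegree (χ : G → ℂ) : ℤ)

theorem sum_uB_mul_uB [Fintype (Cfsg.IrrCharacter G)] (B : Finset (Cfsg.IrrCharacter G))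
    (N : ℕ) (ζ : ℂ) (σ : G) (k k' : ℕ) :
    ∑ χ, uB B N ζ σ k χ * uB B N ζ σ k' χ
      = ∑ χ ∈ B, uZ N ζ σ (χ : G → ℂ) k * uZ N ζ σ (χ : G → ℂ) k' := by
  have h1 : ∑ χ ∈ B, uB B N ζ σ k χ * uB B N ζ σ k' χ
      = ∑ χ, uB B N ζ σ k χ * uB B N ζ σ k' χ :=
    Finset.sum_subset (Finset.subset_univ B)
      (fun χ _ hχ => by rw [uB_of_not_mem hχ, zero_mul])
  rw [← h1]
  exact Finset.sum_congr rfl (fun χ hχ => by rw [uB_of_mem hχ, uB_of_mem hχ])

theorem sum_uB_mul [Fintype (Cfsg.IrrCharacter G)] (B : Finset (Cfsg.IrrCharacter G))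
    (N : ℕ) (ζ : ℂ) (σ : G) (k : ℕ) (x : Cfsg.IrrCharacter G → ℤ) :
    ∑ χ, uB B N ζ σ k χ * x χ = ∑ χ ∈ B, uZ N ζ σ (χ : G → ℂ) k * x χ := by
  have h1 : ∑ χ ∈ B, uB B N ζ σ k χ * x χ = ∑ χ, uB B N ζ σ k χ * x χ :=
    Finset.sum_subset (Finset.subset_univ B)
      (fun χ _ hχ => by rw [uB_of_not_mem hχ, zero_mul])
  rw [← h1]
  exact Finset.sum_congr rfl (fun χ hχ => by rw [uB_of_mem hχ])

theorem sum_uB_mul_complex [Fintype (Cfsg.IrrCharacter G)]
    (B : Finset (Cfsg.IrrCharacter G)) (N : ℕ) (ζ : ℂ) (σ : G) (k : ℕ)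
    (v : Cfsg.IrrCharacter G → ℂ) :
    ∑ χ, ((uB B N ζ σ k χ : ℤ) : ℂ) * v χ
      = ∑ χ ∈ B, ((uZ N ζ σ (χ : G → ℂ) k : ℤ) : ℂ) * v χ := by
  have h1 : ∑ χ ∈ B, ((uB B N ζ σ k χ : ℤ) : ℂ) * v χ
      = ∑ χ, ((uB B N ζ σ k χ : ℤ) : ℂ) * v χ :=
    Finset.sum_subset (Finset.subset_univ B)
      (fun χ _ hχ => by rw [uB_of_not_mem hχ, Int.cast_zero, zero_mul])
  rw [← h1]
  exact Finset.sum_congr rfl (fun χ hχ => by rw [uB_of_mem hχ])

end uB

section main

/-- **Brauer's theorem on the principal `2`-block for dihedral Sylow `2`-subgroups**, in terms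
of `N = 2 (m + 1)`, `m ≠ 2`. -/
theorem dihedral_principal_block {G : Type*} [Group G] [Finite G] {M : Ideal Cfsg.AlgInt}
    (hM : Cfsg.IsPModular 2 M) (P : Sylow 2 G) {σ : G} {N : ℕ}
    (h : DihData (P : Subgroup G) σ N) {ζ : ℂ} (hζ : IsPrimitiveRoot ζ N) {m : ℕ}
    (hm : N = 2 * (m + 1)) (hm1 : 1 ≤ m) (hm2 : m ≠ 2) :
    Nat.card (Cfsg.principalBlock M G) = 4 + m ∧ ∃ (χ₁ χ₂ χ₃ : Cfsg.IrrCharacter G) (χ' : Fin (m) → Cfsg.IrrCharacter G) (δ₁ δ₂ δ₃ : ℤ), (δ₁ = 1 ∨ δ₁ = -1) ∧ (δ₂ = 1 ∨ δ₂ = -1) ∧ (δ₃ = 1 ∨ δ₃ = -1) ∧ Function.Injective χ' ∧ (χ₁ : G → ℂ) ≠ (fun _ => 1) ∧ (χ₂ : G → ℂ) ≠ (fun _ => 1) ∧ (χ₃ : G → ℂ) ≠ (fun _ => 1) ∧ χ₁ ≠ χ₂ ∧ χ₁ ≠ χ₃ ∧ χ₂ ≠ χ₃ ∧ (∀ j, χ' j ≠ χ₁ ∧ χ' j ≠ χ₂ ∧ χ' j ≠ χ₃ ∧ (χ' j : G → ℂ) ≠ (fun _ => 1)) ∧ Cfsg.principalBlock M G = {χ : Cfsg.IrrCharacter G | (χ : G → ℂ) = (fun _ => 1) ∨ χ = χ₁ ∨ χ = χ₂ ∨ χ = χ₃ ∨ ∃ j, χ = χ' j} ∧ (∀ l : ℕ, 0 < l → l < N → (χ₁ : G → ℂ) (σ ^ l) = δ₁ ∧ (χ₂ : G →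 ℂ) (σ ^ l) = δ₂ * (-1) ^ (l + 1) ∧ (χ₃ : G → ℂ) (σ ^ l) = δ₃ * (-1) ^ (l + 1) ∧ ∀ j : Fin (m), (χ' j : G → ℂ) (σ ^ l) = δ₁ * (ζ ^ (((j : ℕ) + 1) * l) + (ζ ^ (((j : ℕ) + 1) * l))⁻¹)) ∧ ∀ ρ : G, Odd (orderOf ρ) → ∀ j : Fin (m), 1 + δ₁ * (χ₁ : G → ℂ) ρ = -δ₂ * (χ₂ : G → ℂ) ρ - δ₃ * (χ₃ : G → ℂ) ρ ∧ 1 + δ₁ * (χ₁ : G → ℂ) ρ = δ₁ * (χ' j : G → ℂ) ρ := by
  classical
  have : Fintype G := Fintype.ofFinite G
  have : Fintype (Cfsg.IrrCharacter G) := Fintype.ofFinite _
  obtain ⟨B, hB⟩ : ∃ B : Finset (Cfsg.IrrCharacter G),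
      ∀ χ, χ ∈ B ↔ χ ∈ Cfsg.principalBlock M G :=
    ⟨Finset.univ.filter (fun χ => χ ∈ Cfsg.principalBlock M G), fun χ => by simp⟩
  have hoB : oneIrr G ∈ B := (hB _).mpr (oneIrr_mem_principalBlock hM)
  have hgram := fun {k k' : ℕ} (hkk' : k ≤ k') (hk' : k' ≤ m) =>
    gram hM P h hζ B hB hm hkk' hk'
  have H : ChainHyp (uB B N ζ σ) xB (oneIrr G) m := by
    refine ⟨hm1, hm2, ?_, ?_, ?_, ?_, ?_, ?_, ?_, ?_, ?_, ?_⟩
    · intro χ
      unfold xB
      exact_mod_cast IsIrrCharacter.charDegree_pos χ.2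
    · unfold xB
      have h1 : Cfsg.charDegree ((oneIrr G : Cfsg.IrrCharacter G) : G → ℂ) = 1 :=
        charDegree_one_fun
      rw [h1]; rfl
    · rw [sum_uB_mul_uB, hgram (le_refl 0) (Nat.zero_le m)]
      split_ifs <;> first | omega | contradiction
    · rw [sum_uB_mul_uB, hgram (le_refl m) (le_refl m)]
      split_ifs <;> first | omega | contradiction
    · intro k hk0 hkm
      rw [sum_uB_mul_uB, hgram (le_refl k) hkm.le]
      split_ifs <;> first | omega | contradiction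
    · intro k hkm
      rw [sum_uB_mul_uB, hgram (Nat.le_succ k) (show k + 1 ≤ m by omega)]
      split_ifs <;> first | omega | contradiction
    · intro k l hkl hlm
      rw [sum_uB_mul_uB, hgram (show k ≤ l by omega) hlm]
      split_ifs <;> first | omega | contradiction
    · rw [uB_of_mem hoB]
      exact (uZ_one hζ hm h.pow_N (Nat.zero_le m)).trans (if_pos rfl)
    · intro k hk0 hkm
      rw [uB_of_mem hoB]
      exact (uZ_one hζ hm h.pow_N hkm).trans (if_neg (by omega))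
    · intro k hkm
      rw [sum_uB_mul]
      have h1 := sum_uZ_mul_regular hM P h hζ B hB k 1 (by rw [orderOf_one]; norm_num)
      have h2 : ((∑ χ ∈ B, uZ N ζ σ (χ : G → ℂ) k * xB χ : ℤ) : ℂ) = 0 := by
        rw [← h1]
        push_cast
        apply Finset.sum_congr rfl
        intro χ _
        rw [IsCharacter.apply_one_eq_charDegree (IsIrrCharacter.isCharacter χ.2)]
        simp [xB]
      exact_mod_cast h2
  obtain ⟨δ, b, θ, c, d, εc, εd, out⟩ := chain_lemma H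
  have hδ0 : δ ≠ 0 := by rcases out.hδ with hh | hh <;> rw [hh] <;> norm_num
  have hεc0 : εc ≠ 0 := by rcases out.hεc with hh | hh <;> rw [hh] <;> norm_num
  have hεd0 : εd ≠ 0 := by rcases out.hεd with hh | hh <;> rw [hh] <;> norm_num
  have hθne : ∀ j j', 1 ≤ j → j ≤ m → 1 ≤ j' → j' ≤ m → j ≠ j' → θ j ≠ θ j' := by
    intro j j' h1 h2 h3 h4 hne
    rcases Nat.lt_or_gt_of_ne hne with hlt | hlt
    · exact out.θ_inj j j' h1 hlt h4
    · exact (out.θ_inj j' j h3 hlt h2).symm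
  -- evaluations at `b`
  have Eb0 : uB B N ζ σ 0 b = δ := by
    rw [out.shape0 b, ind_ne out.b_ne_o, ind_self, ind_ne (out.θ_ne_b 1 le_rfl hm1).symm]; ring
  have Ebk : ∀ k, 1 ≤ k → k ≤ m → uB B N ζ σ k b = 0 := by
    intro k hk1 hkm
    by_cases hk : k < m
    · rw [out.shape k hk1 hk b, ind_ne (out.θ_ne_b k hk1 hkm).symm,
        ind_ne (out.θ_ne_b (k + 1) (by omega) (by omega)).symm]; ring
    · have hkm' : k = m := by omega
      rw [hkm', out.shapem b, ind_ne (out.θ_ne_b m hm1 le_rfl).symm, ind_ne out.c_ne_b.symm,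
        ind_ne out.d_ne_b.symm]; ring
  -- evaluations at `c`
  have Ecm : uB B N ζ σ m c = εc := by
    rw [out.shapem c, ind_ne (out.θ_ne_c m hm1 le_rfl).symm, ind_self, ind_ne out.c_ne_d]; ring
  have Eck : ∀ k, k < m → uB B N ζ σ k c = 0 := by
    intro k hk
    by_cases hk0 : k = 0
    · rw [hk0, out.shape0 c, ind_ne out.c_ne_o, ind_ne out.c_ne_b,
        ind_ne (out.θ_ne_c 1 le_rfl hm1).symm]; ring
    · rw [out.shape k (by omega) hk c, ind_ne (out.θ_ne_c k (by omega) hk.le).symm,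
        ind_ne (out.θ_ne_c (k + 1) (by omega) (by omega)).symm]; ring
  -- evaluations at `d`
  have Edm : uB B N ζ σ m d = εd := by
    rw [out.shapem d, ind_ne (out.θ_ne_d m hm1 le_rfl).symm, ind_ne out.c_ne_d.symm,
      ind_self]; ring
  have Edk : ∀ k, k < m → uB B N ζ σ k d = 0 := by
    intro k hk
    by_cases hk0 : k = 0
    · rw [hk0, out.shape0 d, ind_ne out.d_ne_o, ind_ne out.d_ne_b,
        ind_ne (out.θ_ne_d 1 le_rfl hm1).symm]; ring
    · rw [out.shape k (by omega) hk d, ind_ne (out.θ_ne_d k (by omega) hk.le).symm,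
        ind_ne (out.θ_ne_d (k + 1) (by omega) (by omega)).symm]; ring
  -- evaluations at the `θ j`
  have Eθlow : ∀ i, i < m → uB B N ζ σ i (θ (i + 1)) = -δ := by
    intro i hi
    by_cases hi0 : i = 0
    · rw [hi0, Nat.zero_add, out.shape0 (θ 1), ind_ne (out.θ_ne_o 1 le_rfl hm1),
        ind_ne (out.θ_ne_b 1 le_rfl hm1), ind_self]; ring
    · rw [out.shape i (by omega) hi (θ (i + 1)),
        ind_ne (hθne (i + 1) i (by omega) (by omega) (by omega) (by omega) (by omega)),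
        ind_self]; ring
  have Eθtop : ∀ j, 1 ≤ j → j ≤ m → uB B N ζ σ j (θ j) = δ := by
    intro j hj1 hjm
    by_cases hj : j < m
    · rw [out.shape j hj1 hj (θ j), ind_self,
        ind_ne (hθne j (j + 1) hj1 hjm (by omega) (by omega) (by omega))]; ring
    · have hjm' : j = m := by omega
      rw [hjm', out.shapem (θ m), ind_self, ind_ne (out.θ_ne_c m hm1 le_rfl),
        ind_ne (out.θ_ne_d m hm1 le_rfl)]; ring
  have Eθoth : ∀ j k, 1 ≤ j → j ≤ m → k ≤ m → k + 1 ≠ j → k ≠ j →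
      uB B N ζ σ k (θ j) = 0 := by
    intro j k hj1 hjm hkm hk1 hk2
    by_cases hk0 : k = 0
    · rw [hk0, out.shape0 (θ j), ind_ne (out.θ_ne_o j hj1 hjm), ind_ne (out.θ_ne_b j hj1 hjm),
        ind_ne (hθne j 1 hj1 hjm le_rfl hm1 (by omega))]; ring
    by_cases hk : k < m
    · rw [out.shape k (by omega) hk (θ j), ind_ne (hθne j k hj1 hjm (by omega) hkm (by omega)),
        ind_ne (hθne j (k + 1) hj1 hjm (by omega) (by omega) (by omega))]; ring
    · have hkm' : k = m := by omega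
      rw [hkm', out.shapem (θ j), ind_ne (hθne j m hj1 hjm hm1 le_rfl (by omega)),
        ind_ne (out.θ_ne_c j hj1 hjm), ind_ne (out.θ_ne_d j hj1 hjm)]; ring
  -- membership in the block
  have hbne : uB B N ζ σ 0 b ≠ 0 := by rw [Eb0]; exact hδ0
  have hbB : b ∈ B := mem_of_uB_ne_zero hbne
  have hcne : uB B N ζ σ m c ≠ 0 := by rw [Ecm]; exact hεc0
  have hcB : c ∈ B := mem_of_uB_ne_zero hcne
  have hdne : uB B N ζ σ m d ≠ 0 := by rw [Edm]; exact hεd0
  have hdB : d ∈ B := mem_of_uB_ne_zero hdne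
  have hθB : ∀ j, 1 ≤ j → j ≤ m → θ j ∈ B := by
    intro j h1 h2
    have hne : uB B N ζ σ j (θ j) ≠ 0 := by rw [Eθtop j h1 h2]; exact hδ0
    exact mem_of_uB_ne_zero hne
  -- description of the block
  have hdesc : ∀ χ : Cfsg.IrrCharacter G, χ ∈ Cfsg.principalBlock M G ↔
      (χ = oneIrr G ∨ χ = b ∨ χ = c ∨ χ = d ∨ ∃ j : Fin m, χ = θ ((j : ℕ) + 1)) := by
    intro χ
    constructor
    · intro hχ
      have hχB := (hB χ).mpr hχ
      obtain ⟨k, hkm, hk⟩ := exists_uZ_ne_zero hM P h hζ hm χ hχ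
      rw [← uB_of_mem hχB] at hk
      have hθcase : ∀ j, 1 ≤ j → j ≤ m → χ = θ j →
          ∃ j' : Fin m, χ = θ ((j' : ℕ) + 1) := by
        intro j hj1 hjm hj
        refine ⟨⟨j - 1, by omega⟩, ?_⟩
        rw [hj]
        show θ j = θ (j - 1 + 1)
        rw [Nat.sub_add_cancel hj1]
      by_cases hk0 : k = 0
      · rw [hk0] at hk
        rcases eq_of_three_ne_zero (out.shape0 χ) hk with e | e | e
        · exact Or.inl e
        · exact Or.inr (Or.inl e)
        · exact Or.inr (Or.inr (Or.inr (Or.inr (hθcase 1 le_rfl hm1 e))))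
      by_cases hkm' : k < m
      · rcases eq_of_two_ne_zero (out.shape k (by omega) hkm' χ) hk with e | e
        · exact Or.inr (Or.inr (Or.inr (Or.inr (hθcase k (by omega) hkm e))))
        · exact Or.inr (Or.inr (Or.inr (Or.inr (hθcase (k + 1) (by omega) (by omega) e))))
      · have hkm'' : k = m := by omega
        rw [hkm''] at hk
        rcases eq_of_three_ne_zero (out.shapem χ) hk with e | e | e
        · exact Or.inr (Or.inr (Or.inr (Or.inr (hθcase m hm1 le_rfl e))))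
        · exact Or.inr (Or.inr (Or.inl e))
        · exact Or.inr (Or.inr (Or.inr (Or.inl e)))
    · rintro (e | e | e | e | ⟨j, e⟩)
      · rw [e]; exact (hB _).mp hoB
      · rw [e]; exact (hB _).mp hbB
      · rw [e]; exact (hB _).mp hcB
      · rw [e]; exact (hB _).mp hdB
      · rw [e]; exact (hB _).mp (hθB _ (by omega) (by have := j.2; omega))
  have hinj : Function.Injective (fun j : Fin m => θ ((j : ℕ) + 1)) := by
    intro j j' hjj'
    by_contra hne
    have hne' : (j : ℕ) + 1 ≠ (j' : ℕ) + 1 := by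
      intro hh; apply hne; exact Fin.ext (by omega)
    exact hθne _ _ (by omega) (by have := j.2; omega) (by omega) (by have := j'.2; omega)
      hne' hjj'
  -- the values of `uZ`
  have uZb0 : uZ N ζ σ (b : G → ℂ) 0 = δ := by rw [← uB_of_mem hbB]; exact Eb0
  have uZbk : ∀ k, 1 ≤ k → k ≤ m → uZ N ζ σ (b : G → ℂ) k = 0 := by
    intro k h1 h2; rw [← uB_of_mem hbB]; exact Ebk k h1 h2
  have uZcm : uZ N ζ σ (c : G → ℂ) m = εc := by rw [← uB_of_mem hcB]; exact Ecm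
  have uZck : ∀ k, k < m → uZ N ζ σ (c : G → ℂ) k = 0 := by
    intro k h1; rw [← uB_of_mem hcB]; exact Eck k h1
  have uZdm : uZ N ζ σ (d : G → ℂ) m = εd := by rw [← uB_of_mem hdB]; exact Edm
  have uZdk : ∀ k, k < m → uZ N ζ σ (d : G → ℂ) k = 0 := by
    intro k h1; rw [← uB_of_mem hdB]; exact Edk k h1
  refine ⟨?_, b, c, d, fun j => θ ((j : ℕ) + 1), δ, εc, εd, out.hδ, out.hεc, out.hεd, hinj,
    ?_, ?_, ?_, out.c_ne_b.symm, out.d_ne_b.symm, out.c_ne_d, ?_, ?_, ?_, ?_⟩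
  · -- the cardinality
    have hset : Cfsg.principalBlock M G
        = ↑(insert (oneIrr G) (insert b (insert c (insert d
            (Finset.univ.image (fun j : Fin m => θ ((j : ℕ) + 1))))))) := by
      ext χ
      rw [hdesc χ, Finset.mem_coe, Finset.mem_insert, Finset.mem_insert, Finset.mem_insert,
        Finset.mem_insert, Finset.mem_image]
      constructor
      · rintro (e | e | e | e | ⟨j, e⟩)
        · exact Or.inl e
        · exact Or.inr (Or.inl e)
        · exact Or.inr (Or.inr (Or.inl e))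
        · exact Or.inr (Or.inr (Or.inr (Or.inl e)))
        · exact Or.inr (Or.inr (Or.inr (Or.inr ⟨j, Finset.mem_univ _, e.symm⟩)))
      · rintro (e | e | e | e | ⟨j, _, e⟩)
        · exact Or.inl e
        · exact Or.inr (Or.inl e)
        · exact Or.inr (Or.inr (Or.inl e))
        · exact Or.inr (Or.inr (Or.inr (Or.inl e)))
        · exact Or.inr (Or.inr (Or.inr (Or.inr ⟨j, e.symm⟩)))
    have himg : (Finset.univ.image (fun j : Fin m => θ ((j : ℕ) + 1))).card = m := by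
      rw [Finset.card_image_of_injective _ hinj, Finset.card_univ, Fintype.card_fin]
    have hnd : d ∉ Finset.univ.image (fun j : Fin m => θ ((j : ℕ) + 1)) := by
      intro hh
      obtain ⟨j, _, hj⟩ := Finset.mem_image.mp hh
      exact out.θ_ne_d _ (by omega) (by have := j.2; omega) hj
    have hnc : c ∉ insert d (Finset.univ.image (fun j : Fin m => θ ((j : ℕ) + 1))) := by
      intro hh
      rcases Finset.mem_insert.mp hh with e | hh
      · exact out.c_ne_d e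
      · obtain ⟨j, _, hj⟩ := Finset.mem_image.mp hh
        exact out.θ_ne_c _ (by omega) (by have := j.2; omega) hj
    have hnb : b ∉ insert c (insert d
        (Finset.univ.image (fun j : Fin m => θ ((j : ℕ) + 1)))) := by
      intro hh
      rcases Finset.mem_insert.mp hh with e | hh
      · exact out.c_ne_b e.symm
      rcases Finset.mem_insert.mp hh with e | hh
      · exact out.d_ne_b e.symm
      · obtain ⟨j, _, hj⟩ := Finset.mem_image.mp hh
        exact out.θ_ne_b _ (by omega) (by have := j.2; omega) hj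
    have hno : oneIrr G ∉ insert b (insert c (insert d
        (Finset.univ.image (fun j : Fin m => θ ((j : ℕ) + 1))))) := by
      intro hh
      rcases Finset.mem_insert.mp hh with e | hh
      · exact out.b_ne_o e.symm
      rcases Finset.mem_insert.mp hh with e | hh
      · exact out.c_ne_o e.symm
      rcases Finset.mem_insert.mp hh with e | hh
      · exact out.d_ne_o e.symm
      · obtain ⟨j, _, hj⟩ := Finset.mem_image.mp hh
        exact out.θ_ne_o _ (by omega) (by have := j.2; omega) hj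
    rw [Nat.card_coe_set_eq, hset, Set.ncard_coe_finset, Finset.card_insert_of_notMem hno,
      Finset.card_insert_of_notMem hnb, Finset.card_insert_of_notMem hnc,
      Finset.card_insert_of_notMem hnd, himg]
    omega
  · intro hh; exact out.b_ne_o (Subtype.ext hh)
  · intro hh; exact out.c_ne_o (Subtype.ext hh)
  · intro hh; exact out.d_ne_o (Subtype.ext hh)
  · intro j
    have hj1 : 1 ≤ (j : ℕ) + 1 := by omega
    have hj2 : (j : ℕ) + 1 ≤ m := by have := j.2; omega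
    exact ⟨out.θ_ne_b _ hj1 hj2, out.θ_ne_c _ hj1 hj2, out.θ_ne_d _ hj1 hj2,
      fun hh => out.θ_ne_o _ hj1 hj2 (Subtype.ext hh)⟩
  · ext χ
    rw [hdesc χ, Set.mem_ofPred_eq]
    constructor
    · rintro (e | e | e | e | ⟨j, e⟩)
      · left; rw [e]; rfl
      · exact Or.inr (Or.inl e)
      · exact Or.inr (Or.inr (Or.inl e))
      · exact Or.inr (Or.inr (Or.inr (Or.inl e)))
      · exact Or.inr (Or.inr (Or.inr (Or.inr ⟨j, e⟩)))
    · rintro (e | e | e | e | ⟨j, e⟩)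
      · exact Or.inl (Subtype.ext e)
      · exact Or.inr (Or.inl e)
      · exact Or.inr (Or.inr (Or.inl e))
      · exact Or.inr (Or.inr (Or.inr (Or.inl e)))
      · exact Or.inr (Or.inr (Or.inr (Or.inr ⟨j, e⟩)))
  · -- the values at the powers of `σ`
    intro l h0 hl
    refine ⟨?_, ?_, ?_, ?_⟩
    · exact val_b h hζ hm (IsIrrCharacter.isCharacter b.2) δ uZb0 uZbk h0 hl
    · exact val_c h hζ hm (IsIrrCharacter.isCharacter c.2) εc uZcm uZck h0 hl
    · exact val_c h hζ hm (IsIrrCharacter.isCharacter d.2) εd uZdm uZdk h0 hl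
    · intro j
      have hj1 : 1 ≤ (j : ℕ) + 1 := by omega
      have hj2 : (j : ℕ) + 1 ≤ m := by have := j.2; omega
      have hmem := hθB _ hj1 hj2
      have hu1 : uZ N ζ σ (θ ((j : ℕ) + 1) : G → ℂ) ((j : ℕ) + 1 - 1) = -δ := by
        rw [Nat.add_sub_cancel, ← uB_of_mem hmem]; exact Eθlow j j.2
      have hu2 : uZ N ζ σ (θ ((j : ℕ) + 1) : G → ℂ) ((j : ℕ) + 1) = δ := by
        rw [← uB_of_mem hmem]; exact Eθtop _ hj1 hj2
      have hu : ∀ k, k ≤ m → k ≠ (j : ℕ) + 1 - 1 → k ≠ (j : ℕ) + 1 →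
          uZ N ζ σ (θ ((j : ℕ) + 1) : G → ℂ) k = 0 := by
        intro k hk h1 h2
        rw [Nat.add_sub_cancel] at h1
        rw [← uB_of_mem hmem]
        exact Eθoth _ k hj1 hj2 hk (by omega) h2
      exact val_theta h hζ hm (IsIrrCharacter.isCharacter (θ ((j : ℕ) + 1)).2) δ hj1 hj2
        hu1 hu2 hu h0 hl
  · -- the relations on the elements of odd order
    intro ρ hρ j
    have hρ2 : ¬ 2 ∣ orderOf ρ := fun h2 =>
      (Nat.not_even_iff_odd.mpr hρ) (even_iff_two_dvd.mpr h2)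
    have hreg : ∀ k, ∑ χ, ((uB B N ζ σ k χ : ℤ) : ℂ) * (χ : G → ℂ) ρ = 0 := by
      intro k
      rw [sum_uB_mul_complex]
      exact sum_uZ_mul_regular hM P h hζ B hB k ρ hρ2
    have hδc : (δ : ℂ) ≠ 0 := by exact_mod_cast hδ0
    have r0 := hreg 0
    rw [sum_three_mul_complex _ _ _ _ _ _ _ _ out.shape0] at r0
    have rk : ∀ k, 1 ≤ k → k < m → (θ (k + 1) : G → ℂ) ρ = (θ k : G → ℂ) ρ := by
      intro k hk1 hkm
      have r := hreg k
      rw [sum_two_mul_complex _ _ _ _ _ _ (out.shape k hk1 hkm)] at r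
      push_cast at r
      have h' : (δ : ℂ) * ((θ k : G → ℂ) ρ - (θ (k + 1) : G → ℂ) ρ) = 0 := by
        linear_combination r
      rcases mul_eq_zero.mp h' with h'' | h''
      · exact absurd h'' hδc
      · exact (sub_eq_zero.mp h'').symm
    have rall : ∀ k, 1 ≤ k → k ≤ m → (θ k : G → ℂ) ρ = (θ 1 : G → ℂ) ρ := by
      intro k hk1
      induction k, hk1 using Nat.le_induction with
      | base => intro _; rfl
      | succ k hk1 ih =>
        intro hkm
        rw [rk k hk1 (by omega)]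
        exact ih (by omega)
    have rm := hreg m
    rw [sum_three_mul_complex _ _ _ _ _ _ _ _ out.shapem] at rm
    have ho : ((oneIrr G : Cfsg.IrrCharacter G) : G → ℂ) ρ = 1 := rfl
    rw [ho] at r0
    push_cast at r0 rm
    have e1 := rall m hm1 le_rfl
    have e2 := rall ((j : ℕ) + 1) (by omega) (by have := j.2; omega)
    constructor
    · push_cast
      linear_combination r0 + rm - (δ : ℂ) * e1
    · push_cast
      linear_combination r0 - (δ : ℂ) * e2

end main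

end Cfsg.Agent.Lib.Helper6.Dih
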