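import Mathlib
import Cfsg.Agent.Lib.Helper6.Dih8
import Cfsg.Agent.Lib.Helper6.Dih13
import Cfsg.Agent.Lib.Helper6.ClassMult

/-! # Brauer's order formula for groups with dihedral Sylow `2`-subgroups and one class of
involutions -/

set_option autoImplicit false
set_option linter.unusedSectionVars false
set_option linter.unusedVariables false
open Cfsg

namespace Cfsg.Agent.Lib.Helper6.Dih

open Cfsg.Agent.Lib.Helper6
open scoped ComplexConjugate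

section fusion

variable {G : Type*} [Group G] [Finite G] {σ τ : G} {N Nh : ℕ}

theorem le_centralizer_half {P : Subgroup G} (h : DihData P σ N) (hN2 : N = 2 * Nh) :
    P ≤ Subgroup.centralizer ({σ ^ Nh} : Set G) := by
  have hJJ : σ ^ Nh * σ ^ Nh = 1 := by
    rw [← pow_add, show Nh + Nh = N by omega, h.pow_N]
  have hJinv : (σ ^ Nh)⁻¹ = σ ^ Nh := inv_eq_of_mul_eq_one_left hJJ
  intro a ha
  rw [Subgroup.mem_centralizer_singleton_iff]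
  by_cases haz : a ∈ Subgroup.zpowers σ
  · exact DihData.comm_of_mem haz (DihData.pow_mem Nh)
  · have h1 := h.conj_mem ha haz (DihData.pow_mem Nh)
    rw [hJinv] at h1
    calc a * σ ^ Nh = a * σ ^ Nh * a⁻¹ * a := by group
      _ = σ ^ Nh * a := by rw [h1]

theorem refl_conj_J (P : Sylow 2 G) (h : DihData (P : Subgroup G) σ N) (hN2 : N = 2 * Nh)
    (hτ : τ ∈ (P : Subgroup G)) (hτs : τ ∉ Subgroup.zpowers σ)
    (hconj : IsConj (σ ^ Nh) τ ∧ IsConj (σ ^ Nh) (σ * τ)) {t : G}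
    (ht : t ∈ (P : Subgroup G)) (hts : t ∉ Subgroup.zpowers σ) :
    ∃ c : G, c * t * c⁻¹ = σ ^ Nh := by
  obtain ⟨i, hi | hi⟩ := h.exists_conj_refl hN2 ht hts hτ hτs
  · obtain ⟨c, hc⟩ := isConj_iff.mp hconj.1
    refine ⟨c⁻¹ * σ ^ i, ?_⟩
    have h1 : c⁻¹ * σ ^ i * t * (c⁻¹ * σ ^ i)⁻¹ = c⁻¹ * (σ ^ i * t * (σ ^ i)⁻¹) * c := by group
    rw [h1, hi, ← hc]; group
  · obtain ⟨c, hc⟩ := isConj_iff.mp hconj.2
    refine ⟨c⁻¹ * σ ^ i, ?_⟩
    have h1 : c⁻¹ * σ ^ i * t * (c⁻¹ * σ ^ i)⁻¹ = c⁻¹ * (σ ^ i * t * (σ ^ i)⁻¹) * c := by group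
    rw [h1, hi, ← hc]; group

theorem involution_conj_J (P : Sylow 2 G) (h : DihData (P : Subgroup G) σ N)
    (hN2 : N = 2 * Nh) (hτ : τ ∈ (P : Subgroup G)) (hτs : τ ∉ Subgroup.zpowers σ)
    (hconj : IsConj (σ ^ Nh) τ ∧ IsConj (σ ^ Nh) (σ * τ)) {x : G} (hx : orderOf x = 2) :
    ∃ c : G, c * σ ^ Nh * c⁻¹ = x := by
  obtain ⟨c, _, hc⟩ := exists_conj_mem_of_le P ⊤ le_top (Subgroup.mem_top x)
    ⟨1, by rw [hx, pow_one]⟩
  have hx2 : (c * x * c⁻¹) * (c * x * c⁻¹) = 1 := by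
    have h1 := mul_self_of_orderOf_two hx
    calc (c * x * c⁻¹) * (c * x * c⁻¹) = c * (x * x) * c⁻¹ := by group
      _ = 1 := by rw [h1]; group
  have hx1 : c * x * c⁻¹ ≠ 1 := by
    intro h'
    apply ne_one_of_orderOf_two hx
    have h1 : x = c⁻¹ * (c * x * c⁻¹) * c := by group
    rw [h1, h']; group
  by_cases hz : c * x * c⁻¹ ∈ Subgroup.zpowers σ
  · have h1 := (h.eq_of_sq_eq_one hz hx2 hx1).1
    rw [show N / 2 = Nh by omega] at h1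
    refine ⟨c⁻¹, ?_⟩
    rw [← h1]; group
  · obtain ⟨c', hc'⟩ := refl_conj_J P h hN2 hτ hτs hconj hc hz
    refine ⟨(c' * c)⁻¹, ?_⟩
    rw [← hc']; group

end fusion

section charside

variable {G : Type*} [Group G] [Fintype G]

theorem sum_sum_conj_mul {χ : G → ℂ} (hχ : Cfsg.IsIrrCharacter G χ) (J : G) :
    ∑ g : G, ∑ h : G, χ (g * J * g⁻¹ * (h * J * h⁻¹))
      = (Nat.card G : ℂ) ^ 2 * χ J ^ 2 / χ 1 := by
  rw [Finset.sum_comm]
  have hcf := IsIrrCharacter.isClassFunction hχ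
  have h1 : ∀ h : G, ∑ g : G, χ (g * J * g⁻¹ * (h * J * h⁻¹))
      = (Nat.card G : ℂ) * χ J * χ J / χ 1 := by
    intro h
    rw [IsIrrCharacter.sum_conj_mul hχ J (h * J * h⁻¹), hcf J h]
  rw [Finset.sum_congr rfl (fun h _ => h1 h), Finset.sum_const, Finset.card_univ, nsmul_eq_mul,
    ← Nat.card_eq_fintype_card]
  ring

end charside

section main

/-- **Brauer's order formula**, in terms of `N = 2 Nh`. -/
theorem dihedral_order_formula {G : Type*} [Group G] [Finite G] {M : Ideal Cfsg.AlgInt}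
    (hM : Cfsg.IsPModular 2 M) (P : Sylow 2 G) {σ τ : G} {N Nh : ℕ} (hN4 : 4 ≤ N)
    (hhalf : N = 2 * Nh) (hNh2 : Nh - 1 ≠ 2)
    (hσ : σ ∈ (P : Subgroup G)) (hτ : τ ∈ (P : Subgroup G)) (hσo : orderOf σ = N)
    (hτo : orderOf τ = 2) (hrel : τ * σ * τ⁻¹ = σ⁻¹)
    (hgen : Subgroup.closure ({σ, τ} : Set G) = (P : Subgroup G))
    (hconj : IsConj (σ ^ Nh) τ ∧ IsConj (σ ^ Nh) (σ * τ))
    (χ₁ : Cfsg.IrrCharacter G) (hχ₁ : χ₁ ∈ Cfsg.principalBlock M G)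
    (h1 : (χ₁ : G → ℂ) ≠ (fun _ => 1)) (δ₁ : ℤ) (hδ₁ : δ₁ = 1 ∨ δ₁ = -1)
    (hval : ∀ l : ℕ, 0 < l → l < N → (χ₁ : G → ℂ) (σ ^ l) = δ₁) :
    (Cfsg.charDegree (χ₁ : G → ℂ) : ℤ) ≠ δ₁ ∧ (Nat.card G : ℚ) * ((Cfsg.charDegree (χ₁ : G → ℂ) : ℚ) - δ₁) ^ 2 = 2 * (Cfsg.charDegree (χ₁ : G → ℂ) : ℚ) * ((Cfsg.charDegree (χ₁ : G → ℂ) : ℚ) + δ₁) * (Nat.card (Subgroup.centralizer ({σ ^ (Nh)} : Set G)) : ℚ) ^ 3 * (1 / (Nat.card (Subgroup.centralizer ({σ ^ (Nh), τ} : Set G)) : ℚ) + 1 / (Nat.card (Subgroup.centralizer ({σ ^ (Nh), σ * τ} : Set G)) : ℚ)) ^ 2 := by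
  classical
  have : Fintype G := Fintype.ofFinite G
  obtain ⟨hD, hτZ⟩ := DihData.of_presentation hN4 hσ hτ hσo hτo hrel hgen
  have hNhpos : 0 < Nh := by omega
  obtain ⟨ζ, hζ⟩ : ∃ ζ : ℂ, IsPrimitiveRoot ζ N :=
    ⟨_, Complex.isPrimitiveRoot_exp N (by omega)⟩
  have hm : N = 2 * (Nh - 1 + 1) := by omega
  have hm1 : 1 ≤ Nh - 1 := by omega
  obtain ⟨-, b, c, d, χ', δ, εc, εd, hδ, hεc, hεd, -, -, -, -, -, -, -, -, hblock, hvals,
    hrels⟩ := dihedral_principal_block hM P hD hζ hm hm1 hNh2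
  -- identification of `χ₁`
  have hmem : χ₁ ∈ {χ : Cfsg.IrrCharacter G | (χ : G → ℂ) = (fun _ => 1) ∨ χ = b ∨ χ = c ∨
      χ = d ∨ ∃ j, χ = χ' j} := by rw [← hblock]; exact hχ₁
  have h1N : 1 < N := by omega
  have h2N : 2 < N := by omega
  have hεc0 : (εc : ℂ) ≠ 0 := by rcases hεc with h | h <;> rw [h] <;> norm_num
  have hεd0 : (εd : ℂ) ≠ 0 := by rcases hεd with h | h <;> rw [h] <;> norm_num
  have hid : χ₁ = b := by
    rcases hmem with h | h | h | h | ⟨j, h⟩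
    · exact absurd h h1
    · exact h
    · exfalso
      have e1 := (hvals 1 one_pos h1N).2.1
      have e2 := (hvals 2 two_pos h2N).2.1
      rw [← h, hval 1 one_pos h1N] at e1
      rw [← h, hval 2 two_pos h2N] at e2
      have e := e1.symm.trans e2
      exact hεc0 (by linear_combination (1 / 2 : ℂ) * e)
    · exfalso
      have e1 := (hvals 1 one_pos h1N).2.2.1
      have e2 := (hvals 2 two_pos h2N).2.2.1
      rw [← h, hval 1 one_pos h1N] at e1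
      rw [← h, hval 2 two_pos h2N] at e2
      have e := e1.symm.trans e2
      exact hεd0 (by linear_combination (1 / 2 : ℂ) * e)
    · exfalso
      have e1 := (hvals Nh hNhpos (by omega)).2.2.2 j
      rw [← h, hval Nh hNhpos (by omega)] at e1
      have hz : ζ ^ (((j : ℕ) + 1) * Nh) = (-1) ^ ((j : ℕ) + 1) := by
        rw [mul_comm, pow_mul, pow_half hζ hhalf (by omega)]
      rw [hz] at e1
      rcases neg_one_pow_eq_or ℂ ((j : ℕ) + 1) with h2 | h2 <;> rw [h2] at e1 <;>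
        rcases hδ with h3 | h3 <;> rcases hδ₁ with h4 | h4 <;> rw [h3, h4] at e1 <;>
        norm_num at e1
  subst hid
  have hδeq : δ = δ₁ := by
    have e1 := (hvals 1 one_pos h1N).1
    rw [hval 1 one_pos h1N] at e1
    exact_mod_cast e1.symm
  subst hδeq
  -- the character `θ`
  obtain ⟨θ, hθdef⟩ : ∃ θ : Cfsg.IrrCharacter G, θ = χ' ⟨0, by omega⟩ := ⟨_, rfl⟩
  have hθB : θ ∈ Cfsg.principalBlock M G := by
    rw [hblock]
    exact Or.inr (Or.inr (Or.inr (Or.inr ⟨_, hθdef⟩)))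
  have hθval : ∀ l : ℕ, 0 < l → l < N →
      (θ : G → ℂ) (σ ^ l) = (δ : ℂ) * (ζ ^ l + (ζ ^ l)⁻¹) := by
    intro l h0 hl
    have e1 := (hvals l h0 hl).2.2.2 ⟨0, by omega⟩
    rw [← hθdef] at e1
    simpa using e1
  have hθrel : ∀ ρ : G, Odd (orderOf ρ) →
      1 + (δ : ℂ) * (χ₁ : G → ℂ) ρ = (δ : ℂ) * (θ : G → ℂ) ρ := by
    intro ρ hρ
    have e1 := (hrels ρ hρ ⟨0, by omega⟩).2
    rw [← hθdef] at e1
    exact e1
  have hδδ : (δ : ℂ) * (δ : ℂ) = 1 := by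
    rcases hδ with h | h <;> rw [h] <;> norm_num
  have hcfχ := IsIrrCharacter.isClassFunction χ₁.2
  have hcfθ := IsIrrCharacter.isClassFunction θ.2
  -- basic facts on `J`
  have hJJ : σ ^ Nh * σ ^ Nh = 1 := by
    rw [← pow_add, show Nh + Nh = N by omega, hD.pow_N]
  have hJ1 : σ ^ Nh ≠ 1 := hD.pow_ne_one hNhpos (by omega)
  have hPC := le_centralizer_half hD hhalf
  -- fusion
  have hfus : ∀ t ∈ (P : Subgroup G), t ∉ Subgroup.zpowers σ →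
      ∃ c : G, c * t * c⁻¹ ∈ Subgroup.zpowers σ := by
    intro t ht hts
    obtain ⟨c, hc⟩ := refl_conj_J P hD hhalf hτ hτZ hconj ht hts
    exact ⟨c, by rw [hc]; exact DihData.pow_mem Nh⟩
  -- the retraction
  obtain ⟨⟨j, hj⟩, hfac2⟩ := centralizer_data_of_sq_eq P hD (DihData.pow_mem Nh) hJJ hJ1
  have hKc := (pPrimeCore_normal_and_coprime
    (G := ↥(Subgroup.centralizer ({σ ^ Nh} : Set G))) 2).2
  have hfac := two_pow_factorization_of_index _ hKc j hj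
  rw [hfac] at hfac2
  obtain ⟨q, hq1, hq2, hq3, hq4⟩ := exists_retraction
    (Subgroup.centralizer ({σ ^ Nh} : Set G)) (P : Subgroup G) hPC
    ⟨j, by rw [hD.card, hfac2], hj⟩
  -- the class function `Ψ`
  obtain ⟨Ψ, hΨdef⟩ : ∃ Ψ : G → ℂ,
      Ψ = fun g => 1 + (δ : ℂ) * (χ₁ : G → ℂ) g - (δ : ℂ) * (θ : G → ℂ) g := ⟨_, rfl⟩
  have hΨ : ∀ g, Ψ g = 1 + (δ : ℂ) * (χ₁ : G → ℂ) g - (δ : ℂ) * (θ : G → ℂ) g := by
    intro g; rw [hΨdef]
  have hΨodd : ∀ ρ : G, Odd (orderOf ρ) → Ψ ρ = 0 := by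
    intro ρ hρ
    rw [hΨ]
    linear_combination hθrel ρ hρ
  have S : CountSetup (P : Subgroup G) σ τ N Nh ζ Ψ q := by
    refine ⟨hD, hhalf, fun a ha => exists_orderOf_of_mem P ha, hτ, hτZ, hζ, ?_, hΨodd, ?_, ?_,
      hq1, hq2, hq3, hq4, ?_, ?_⟩
    · intro g c
      rw [hΨ, hΨ, hcfχ g c, hcfθ g c]
    · intro l
      by_cases hl : N ∣ l
      · have e1 : σ ^ l = 1 := (hD.pow_eq_one_iff l).mpr hl
        have e2 : ζ ^ l = 1 := (hζ.pow_eq_one_iff_dvd l).mpr hl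
        rw [e1, e2, hΨodd 1 (by rw [orderOf_one]; exact odd_one)]
        norm_num
      · have hpos : 0 < l % N := by
          rcases Nat.eq_zero_or_pos (l % N) with h0 | h0
          · exact absurd (Nat.dvd_of_mod_eq_zero h0) hl
          · exact h0
        have hlt : l % N < N := Nat.mod_lt l (by omega)
        have e1 : σ ^ l = σ ^ (l % N) := by
          rw [← hD.order]; exact (pow_mod_orderOf σ l).symm
        have e2 : ζ ^ l = ζ ^ (l % N) := pow_mod_eq hζ l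
        rw [e1, e2, hΨ, hval _ hpos hlt, hθval _ hpos hlt]
        linear_combination (1 - ζ ^ (l % N) - (ζ ^ (l % N))⁻¹) * hδδ
    · intro u v hu hu1 huv hv
      rw [hΨ, hΨ, principal_apply_two_mul_odd hM P hD hfus χ₁ hχ₁ hu hu1 huv hv,
        principal_apply_two_mul_odd hM P hD hfus θ hθB hu hu1 huv hv]
    · intro u huC hu
      exact exists_conj_mem_of_le P _ hPC huC hu
    · intro x hx
      exact involution_conj_J P hD hhalf hτ hτZ hconj hx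
  have hcount := S.count_main
  -- the character side
  have hJval : (χ₁ : G → ℂ) (σ ^ Nh) = (δ : ℂ) := hval Nh hNhpos (by omega)
  have hθJ : (θ : G → ℂ) (σ ^ Nh) = -2 * (δ : ℂ) := by
    rw [hθval Nh hNhpos (by omega), pow_half hζ hhalf (by omega)]
    norm_num
    ring
  have hχone : (χ₁ : G → ℂ) 1 = (Cfsg.charDegree (χ₁ : G → ℂ) : ℂ) :=
    IsCharacter.apply_one_eq_charDegree (IsIrrCharacter.isCharacter χ₁.2)
  have hθone : (θ : G → ℂ) 1 = (Cfsg.charDegree (χ₁ : G → ℂ) : ℂ) + (δ : ℂ) := by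
    have e1 := hθrel 1 (by rw [orderOf_one]; exact odd_one)
    rw [hχone] at e1
    linear_combination (-(δ : ℂ)) * e1 + (-(θ : G → ℂ) 1 + (Cfsg.charDegree (χ₁ : G → ℂ) : ℂ)) * hδδ
  have hθone' : (θ : G → ℂ) 1 = (Cfsg.charDegree (θ : G → ℂ) : ℂ) :=
    IsCharacter.apply_one_eq_charDegree (IsIrrCharacter.isCharacter θ.2)
  have hX : (Cfsg.charDegree (χ₁ : G → ℂ) : ℂ) ≠ 0 := by
    exact_mod_cast (IsIrrCharacter.charDegree_pos χ₁.2).ne'
  have hY : (Cfsg.charDegree (χ₁ : G → ℂ) : ℂ) + (δ : ℂ) ≠ 0 := by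
    rw [← hθone, hθone']
    exact_mod_cast (IsIrrCharacter.charDegree_pos θ.2).ne'
  have hsum : ∑ g : G, ∑ h : G, Ψ (g * σ ^ Nh * g⁻¹ * (h * σ ^ Nh * h⁻¹))
      = (Nat.card G : ℂ) ^ 2 * (1 + (δ : ℂ) * ((δ : ℂ) ^ 2 / (Cfsg.charDegree (χ₁ : G → ℂ) : ℂ))
        - (δ : ℂ) * ((-2 * (δ : ℂ)) ^ 2
          / ((Cfsg.charDegree (χ₁ : G → ℂ) : ℂ) + (δ : ℂ)))) := by
    have e1 := sum_sum_conj_mul χ₁.2 (σ ^ Nh)
    have e2 := sum_sum_conj_mul θ.2 (σ ^ Nh)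
    rw [hJval, hχone] at e1
    rw [hθJ, hθone] at e2
    simp only [hΨ, Finset.sum_sub_distrib, Finset.sum_add_distrib, ← Finset.mul_sum, e1, e2]
    simp only [Finset.sum_const, Finset.card_univ, nsmul_eq_mul, mul_one,
      ← Nat.card_eq_fintype_card]
    ring
  rw [hsum] at hcount
  have hG0 : (Nat.card G : ℂ) ≠ 0 := by exact_mod_cast (Nat.card_pos (α := G)).ne'
  -- the formula over `ℂ`
  have hE : 1 + (δ : ℂ) * ((δ : ℂ) ^ 2 / (Cfsg.charDegree (χ₁ : G → ℂ) : ℂ))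
      - (δ : ℂ) * ((-2 * (δ : ℂ)) ^ 2 / ((Cfsg.charDegree (χ₁ : G → ℂ) : ℂ) + (δ : ℂ)))
      = ((Cfsg.charDegree (χ₁ : G → ℂ) : ℂ) - (δ : ℂ)) ^ 2
        / ((Cfsg.charDegree (χ₁ : G → ℂ) : ℂ)
          * ((Cfsg.charDegree (χ₁ : G → ℂ) : ℂ) + (δ : ℂ))) := by
    rcases hδ with h | h
    · rw [h] at hY ⊢
      push_cast at hY ⊢
      field_simp
      ring
    · rw [h] at hY ⊢
      push_cast at hY ⊢
      field_simp
      ring
  rw [hE] at hcount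
  have key : (Nat.card G : ℂ) * ((Cfsg.charDegree (χ₁ : G → ℂ) : ℂ) - (δ : ℂ)) ^ 2
      = 2 * (Cfsg.charDegree (χ₁ : G → ℂ) : ℂ)
        * ((Cfsg.charDegree (χ₁ : G → ℂ) : ℂ) + (δ : ℂ))
        * (Nat.card (Subgroup.centralizer ({σ ^ Nh} : Set G)) : ℂ) ^ 3
        * (1 / (Nat.card (Subgroup.centralizer ({σ ^ Nh, τ} : Set G)) : ℂ)
          + 1 / (Nat.card (Subgroup.centralizer ({σ ^ Nh, σ * τ} : Set G)) : ℂ)) ^ 2 := by
    calc (Nat.card G : ℂ) * ((Cfsg.charDegree (χ₁ : G → ℂ) : ℂ) - (δ : ℂ)) ^ 2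
        = ((Cfsg.charDegree (χ₁ : G → ℂ) : ℂ)
            * ((Cfsg.charDegree (χ₁ : G → ℂ) : ℂ) + (δ : ℂ)) / (Nat.card G : ℂ))
          * ((Nat.card G : ℂ) ^ 2 * (((Cfsg.charDegree (χ₁ : G → ℂ) : ℂ) - (δ : ℂ)) ^ 2
            / ((Cfsg.charDegree (χ₁ : G → ℂ) : ℂ)
              * ((Cfsg.charDegree (χ₁ : G → ℂ) : ℂ) + (δ : ℂ))))) := by
          field_simp
      _ = ((Cfsg.charDegree (χ₁ : G → ℂ) : ℂ)
            * ((Cfsg.charDegree (χ₁ : G → ℂ) : ℂ) + (δ : ℂ)) / (Nat.card G : ℂ))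
          * ((Nat.card G : ℂ) * (Nat.card (Subgroup.centralizer ({σ ^ Nh} : Set G)) : ℂ) * 2
            * ((Nat.card (Subgroup.centralizer ({σ ^ Nh} : Set G)) : ℂ)
              * (1 / (Nat.card (Subgroup.centralizer ({σ ^ Nh, τ} : Set G)) : ℂ)
                + 1 / (Nat.card (Subgroup.centralizer ({σ ^ Nh, σ * τ} : Set G)) : ℂ)))
              ^ 2) := by rw [hcount]
      _ = _ := by
          field_simp
  -- transfer to `ℚ`
  have keyQ : (Nat.card G : ℚ) * ((Cfsg.charDegree (χ₁ : G → ℂ) : ℚ) - δ) ^ 2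
      = 2 * (Cfsg.charDegree (χ₁ : G → ℂ) : ℚ) * ((Cfsg.charDegree (χ₁ : G → ℂ) : ℚ) + δ)
        * (Nat.card (Subgroup.centralizer ({σ ^ Nh} : Set G)) : ℚ) ^ 3
        * (1 / (Nat.card (Subgroup.centralizer ({σ ^ Nh, τ} : Set G)) : ℚ)
          + 1 / (Nat.card (Subgroup.centralizer ({σ ^ Nh, σ * τ} : Set G)) : ℚ)) ^ 2 := by
    apply Rat.cast_injective (α := ℂ)
    push_cast
    linear_combination key
  refine ⟨?_, keyQ⟩
  intro hcon
  have hxpos : (0 : ℚ) < (Cfsg.charDegree (χ₁ : G → ℂ) : ℚ) := by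
    exact_mod_cast IsIrrCharacter.charDegree_pos χ₁.2
  have hδQ : (δ : ℚ) = (Cfsg.charDegree (χ₁ : G → ℂ) : ℚ) := by exact_mod_cast hcon.symm
  have hC1 : (0 : ℚ) < (Nat.card (Subgroup.centralizer ({σ ^ Nh} : Set G)) : ℚ) := by
    exact_mod_cast Nat.card_pos
  have hC2 : (0 : ℚ) < (Nat.card (Subgroup.centralizer ({σ ^ Nh, τ} : Set G)) : ℚ) := by
    exact_mod_cast Nat.card_pos
  have hC3 : (0 : ℚ) < (Nat.card (Subgroup.centralizer ({σ ^ Nh, σ * τ} : Set G)) : ℚ) := by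
    exact_mod_cast Nat.card_pos
  rw [hδQ, sub_self] at keyQ
  have hpos : (0 : ℚ) < 2 * (Cfsg.charDegree (χ₁ : G → ℂ) : ℚ)
      * ((Cfsg.charDegree (χ₁ : G → ℂ) : ℚ) + (Cfsg.charDegree (χ₁ : G → ℂ) : ℚ))
      * (Nat.card (Subgroup.centralizer ({σ ^ Nh} : Set G)) : ℚ) ^ 3
      * (1 / (Nat.card (Subgroup.centralizer ({σ ^ Nh, τ} : Set G)) : ℚ)
        + 1 / (Nat.card (Subgroup.centralizer ({σ ^ Nh, σ * τ} : Set G)) : ℚ)) ^ 2 := by
    positivity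
  rw [← keyQ] at hpos
  norm_num at hpos

end main

end Cfsg.Agent.Lib.Helper6.Dih
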