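import Mathlib
import Cfsg.Prelude.Def_ChevStructure
import Cfsg.Agent.Lib.Helper5.ChevSymPCore
import Cfsg.Agent.Lib.Helper5.ChevXGL
import Cfsg.Agent.Lib.Helper5.ChevNConj
import Cfsg.Agent.Lib.Helper5.ChevTwistH

set_option autoImplicit false

/-!
# A generic engine for fusion identities `h n_w h⁻¹ = y` in characteristic `p`

`h` is a product of root elements `x_r(1)`, `n_w = wGL D hD w`, `y` a word with constant
parameters; the identity `h n_w = y h` is checked on the symbolic columns modulo `p`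
(helper5's `wordColP`, helper7's method of `F4InvFus` / `F4EvE`, made generic in the datum).
-/

namespace Cfsg.Agent.Lib.Helper6.EvFuse

open Cfsg Cfsg.Lie Cfsg.Agent.Lib.Helper5.ChevSym Cfsg.Agent.Lib.Helper5.ChevSymP
  Cfsg.Agent.Lib.Helper5.ChevStruct

/-- the constant polynomial `1` -/
def cOne : PolyP := [([], 1)]

/-- the constant polynomial `-1` -/
def cMOne : PolyP := [([], -1)]

/-- the symbolic word of `n_{p_i}` -/
def sNi (D : ChevalleyDatum) (i : ℕ) : List (ℕ × PolyP) :=
  [(D.simple i, cOne), (D.neg (D.simple i), cMOne), (D.simple i, cOne)]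

/-- the symbolic word of `n_w` -/
def sNw (D : ChevalleyDatum) : List ℕ → List (ℕ × PolyP)
  | [] => []
  | i :: w => sNi D i ++ sNw D w

/-- the symbolic word of a product of `x_r(1)` -/
def sH (h : List ℕ) : List (ℕ × PolyP) := h.map fun r => (r, cOne)

/-- the columns `a, …, b - 1` -/
def colsAB (a b : ℕ) : List ℕ := (List.range (b - a)).map (· + a)

theorem mem_colsAB (a b c : ℕ) (h1 : a ≤ c) (h2 : c < b) : c ∈ colsAB a b := by
  unfold colsAB
  rw [List.mem_map]
  exact ⟨c - a, List.mem_range.2 (by omega), by omega⟩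

variable {K : Type*} [Field K]

theorem evalWP_append' (vals : List K) (w1 w2 : List (ℕ × PolyP)) :
    evalWP vals (w1 ++ w2) = evalWP vals w1 ++ evalWP vals w2 := by
  simp [evalWP]

theorem evalWP_sH (h : List ℕ) :
    evalWP ([] : List K) (sH h) = h.map fun r => (r, (1 : K)) := by
  simp [evalWP, sH, cOne, evalPolyP, evalMonoP, monoVal]

theorem nGL_eq_sNi (D : ChevalleyDatum) (hD : D ∈ Seven) (i : ℕ) :
    (nGL D hD i : GL D.Idx K) = wordGL D hD (evalWP ([] : List K) (sNi D i)) := by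
  unfold nGL
  congr 1
  simp [ChevalleyDatum.nWord, sNi, evalWP, cOne, cMOne, evalPolyP, evalMonoP, monoVal]

theorem wGL_eq_sNw (D : ChevalleyDatum) (hD : D ∈ Seven) (w : List ℕ) :
    (wGL D hD w : GL D.Idx K) = wordGL D hD (evalWP ([] : List K) (sNw D w)) := by
  induction w with
  | nil =>
    rw [wGL_nil]
    simp [sNw, evalWP, wordGL]
  | cons i w ih =>
    rw [wGL_cons, nGL_eq_sNi D hD i, ih]
    show _ = wordGL D hD (evalWP ([] : List K) (sNi D i ++ sNw D w))
    rw [evalWP_append', wordGL_append']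

/-- two symbolic words with constant parameters and equal columns modulo `p` give the same
element of `GL` -/
theorem wordGL_eq_of_cols (D : ChevalleyDatum) (hD : D ∈ Seven) (p : ℕ) (hp : ((p : ℕ) : K) = 0)
    (cols : List ℕ) (hsupp : ∀ r < D.nroots, ∀ c ∈ supp D r, c ∈ cols)
    (w1 w2 : List (ℕ × PolyP)) (hr : ∀ rp ∈ w1 ++ w2, rp.1 < D.nroots)
    (chk : ∀ col ∈ cols, vecEqP p (wordColP D p w1 col) (wordColP D p w2 col) = true) :
    wordGL D hD (evalWP ([] : List K) w1) = wordGL D hD (evalWP ([] : List K) w2) := by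
  apply Units.ext
  rw [wordGL_val, wordGL_val]
  exact wordMat_eq_of_colsP D p ([] : List K) hp w1 w2 cols
    (fun rp hrp => hsupp rp.1 (hr rp hrp)) chk

/-- the fusion step from a column check: `h n_w h⁻¹ = y` -/
theorem fuse_of_cols (D : ChevalleyDatum) (hD : D ∈ Seven) (p : ℕ) (hp : ((p : ℕ) : K) = 0)
    (cols : List ℕ) (hsupp : ∀ r < D.nroots, ∀ c ∈ supp D r, c ∈ cols)
    (h w : List ℕ) (sY : List (ℕ × PolyP))
    (hr : ∀ rp ∈ (sH h ++ sNw D w) ++ (sY ++ sH h), rp.1 < D.nroots)
    (chk : ∀ col ∈ cols,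
      vecEqP p (wordColP D p (sH h ++ sNw D w) col) (wordColP D p (sY ++ sH h) col) = true) :
    wordGL D hD (evalWP ([] : List K) (sH h)) * wGL D hD w *
        (wordGL D hD (evalWP ([] : List K) (sH h)))⁻¹
      = wordGL D hD (evalWP ([] : List K) sY) := by
  have e := wordGL_eq_of_cols (K := K) D hD p hp cols hsupp _ _ hr chk
  rw [evalWP_append', evalWP_append', wordGL_append', wordGL_append'] at e
  rw [wGL_eq_sNw D hD w, e]
  group

/-- a product of `x_r(1)` as a word -/
theorem wordGL_sH_two (D : ChevalleyDatum) (hD : D ∈ Seven) (a b : ℕ) :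
    wordGL D hD (evalWP ([] : List K) (sH [a, b])) = xGL D hD a 1 * xGL D hD b 1 := by
  rw [evalWP_sH]; simp [wordGL]

theorem wordGL_sH_one (D : ChevalleyDatum) (hD : D ∈ Seven) (a : ℕ) :
    wordGL D hD (evalWP ([] : List K) (sH [a])) = xGL D hD a 1 := by
  rw [evalWP_sH]; simp [wordGL]

theorem wordGL_sH_three (D : ChevalleyDatum) (hD : D ∈ Seven) (a b c : ℕ) :
    wordGL D hD (evalWP ([] : List K) (sH [a, b, c]))
      = xGL D hD a 1 * xGL D hD b 1 * xGL D hD c 1 := by
  rw [evalWP_sH]; simp [wordGL, mul_assoc]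

theorem wordGL_sH_four (D : ChevalleyDatum) (hD : D ∈ Seven) (a b c d : ℕ) :
    wordGL D hD (evalWP ([] : List K) (sH [a, b, c, d]))
      = xGL D hD a 1 * xGL D hD b 1 * xGL D hD c 1 * xGL D hD d 1 := by
  rw [evalWP_sH]; simp [wordGL, mul_assoc]

end Cfsg.Agent.Lib.Helper6.EvFuse
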