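import Mathlib
import Cfsg.Agent.Lib.Helper6.E6EvDefs
import Cfsg.Agent.Lib.Helper6.EvFuse

set_option autoImplicit false

/-!
# Farm E6EV (S2175), unit E' : fusion of the five non-trivial local maxima of `W(E₆)`

For each of the five words `lmE6[j]` an explicit product `h` of root elements `x_r(1)` (helper3's
data) conjugates `n_w` to one of the three unipotent involutions of the statement.
-/

namespace Cfsg.Agent.Lib.Helper6.E6Ev

open Cfsg Cfsg.Lie Cfsg.Agent.Lib.Helper5.ChevSym Cfsg.Agent.Lib.Helper5.ChevSymP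
  Cfsg.Agent.Lib.Helper5.ChevStruct Cfsg.Agent.Lib.Helper6.EvFuse

/-- the 78 columns -/
def cols6 : List ℕ := List.range 78

set_option maxRecDepth 1000000 in
theorem supp6_le : ∀ r < chevE6.nroots, ∀ c ∈ supp chevE6 r, c ∈ cols6 := by decide +kernel

theorem cols6_split : ∀ col ∈ cols6,
    col ∈ colsAB 0 13 ∨ col ∈ colsAB 13 26 ∨ col ∈ colsAB 26 39 ∨ col ∈ colsAB 39 52 ∨ col ∈ colsAB 52 65 ∨ col ∈ colsAB 65 78 := by
  decide

def sY6_0 : List (ℕ × PolyP) := sH [71]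

def sY6_1 : List (ℕ × PolyP) := sH [68, 66]

def sY6_2 : List (ℕ × PolyP) := sH [55, 65, 67]

def hE6_0 : List ℕ := [39, 32, 39, 37, 34, 37, 36, 35, 36, 42, 29, 42, 39, 32, 39, 37, 34, 37, 56, 15, 56, 42, 29, 42, 39, 32, 39, 56, 15, 56, 42, 29, 42, 46, 25, 46, 56, 15, 56, 47, 44, 63, 51, 32, 27, 11, 0]

def hE6_1 : List ℕ := [56, 15, 56, 42, 29, 42, 56, 15, 56, 18, 6, 2]

def hE6_2 : List ℕ := [56, 15, 56, 42, 29, 42, 39, 32, 39, 46, 25, 46, 56, 15, 56, 27, 11, 0]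

def hE6_3 : List ℕ := [42, 29, 42, 39, 32, 39, 46, 25, 46, 11, 0]

def hE6_4 : List ℕ := [0]

set_option maxRecDepth 1000000 in
theorem chkE6_0_0 : ∀ col ∈ colsAB 0 13,
    vecEqP 2 (wordColP chevE6 2 (sH hE6_0 ++ sNw chevE6 (lmE6.getD 0 [])) col)
      (wordColP chevE6 2 (sY6_2 ++ sH hE6_0) col) = true := by
  decide +kernel

set_option maxRecDepth 1000000 in
theorem chkE6_0_13 : ∀ col ∈ colsAB 13 26,
    vecEqP 2 (wordColP chevE6 2 (sH hE6_0 ++ sNw chevE6 (lmE6.getD 0 [])) col)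
      (wordColP chevE6 2 (sY6_2 ++ sH hE6_0) col) = true := by
  decide +kernel

set_option maxRecDepth 1000000 in
theorem chkE6_0_26 : ∀ col ∈ colsAB 26 39,
    vecEqP 2 (wordColP chevE6 2 (sH hE6_0 ++ sNw chevE6 (lmE6.getD 0 [])) col)
      (wordColP chevE6 2 (sY6_2 ++ sH hE6_0) col) = true := by
  decide +kernel

set_option maxRecDepth 1000000 in
theorem chkE6_0_39 : ∀ col ∈ colsAB 39 52,
    vecEqP 2 (wordColP chevE6 2 (sH hE6_0 ++ sNw chevE6 (lmE6.getD 0 [])) col)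
      (wordColP chevE6 2 (sY6_2 ++ sH hE6_0) col) = true := by
  decide +kernel

set_option maxRecDepth 1000000 in
theorem chkE6_0_52 : ∀ col ∈ colsAB 52 65,
    vecEqP 2 (wordColP chevE6 2 (sH hE6_0 ++ sNw chevE6 (lmE6.getD 0 [])) col)
      (wordColP chevE6 2 (sY6_2 ++ sH hE6_0) col) = true := by
  decide +kernel

set_option maxRecDepth 1000000 in
theorem chkE6_0_65 : ∀ col ∈ colsAB 65 78,
    vecEqP 2 (wordColP chevE6 2 (sH hE6_0 ++ sNw chevE6 (lmE6.getD 0 [])) col)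
      (wordColP chevE6 2 (sY6_2 ++ sH hE6_0) col) = true := by
  decide +kernel

theorem chkE6_0 : ∀ col ∈ cols6,
    vecEqP 2 (wordColP chevE6 2 (sH hE6_0 ++ sNw chevE6 (lmE6.getD 0 [])) col)
      (wordColP chevE6 2 (sY6_2 ++ sH hE6_0) col) = true := by
  intro col hcol
  rcases cols6_split col hcol with h | h | h | h | h | h
  · exact chkE6_0_0 col h
  · exact chkE6_0_13 col h
  · exact chkE6_0_26 col h
  · exact chkE6_0_39 col h
  · exact chkE6_0_52 col h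
  · exact chkE6_0_65 col h

set_option maxRecDepth 1000000 in
theorem chkE6_1_0 : ∀ col ∈ colsAB 0 13,
    vecEqP 2 (wordColP chevE6 2 (sH hE6_1 ++ sNw chevE6 (lmE6.getD 1 [])) col)
      (wordColP chevE6 2 (sY6_2 ++ sH hE6_1) col) = true := by
  decide +kernel

set_option maxRecDepth 1000000 in
theorem chkE6_1_13 : ∀ col ∈ colsAB 13 26,
    vecEqP 2 (wordColP chevE6 2 (sH hE6_1 ++ sNw chevE6 (lmE6.getD 1 [])) col)
      (wordColP chevE6 2 (sY6_2 ++ sH hE6_1) col) = true := by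
  decide +kernel

set_option maxRecDepth 1000000 in
theorem chkE6_1_26 : ∀ col ∈ colsAB 26 39,
    vecEqP 2 (wordColP chevE6 2 (sH hE6_1 ++ sNw chevE6 (lmE6.getD 1 [])) col)
      (wordColP chevE6 2 (sY6_2 ++ sH hE6_1) col) = true := by
  decide +kernel

set_option maxRecDepth 1000000 in
theorem chkE6_1_39 : ∀ col ∈ colsAB 39 52,
    vecEqP 2 (wordColP chevE6 2 (sH hE6_1 ++ sNw chevE6 (lmE6.getD 1 [])) col)
      (wordColP chevE6 2 (sY6_2 ++ sH hE6_1) col) = true := by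
  decide +kernel

set_option maxRecDepth 1000000 in
theorem chkE6_1_52 : ∀ col ∈ colsAB 52 65,
    vecEqP 2 (wordColP chevE6 2 (sH hE6_1 ++ sNw chevE6 (lmE6.getD 1 [])) col)
      (wordColP chevE6 2 (sY6_2 ++ sH hE6_1) col) = true := by
  decide +kernel

set_option maxRecDepth 1000000 in
theorem chkE6_1_65 : ∀ col ∈ colsAB 65 78,
    vecEqP 2 (wordColP chevE6 2 (sH hE6_1 ++ sNw chevE6 (lmE6.getD 1 [])) col)
      (wordColP chevE6 2 (sY6_2 ++ sH hE6_1) col) = true := by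
  decide +kernel

theorem chkE6_1 : ∀ col ∈ cols6,
    vecEqP 2 (wordColP chevE6 2 (sH hE6_1 ++ sNw chevE6 (lmE6.getD 1 [])) col)
      (wordColP chevE6 2 (sY6_2 ++ sH hE6_1) col) = true := by
  intro col hcol
  rcases cols6_split col hcol with h | h | h | h | h | h
  · exact chkE6_1_0 col h
  · exact chkE6_1_13 col h
  · exact chkE6_1_26 col h
  · exact chkE6_1_39 col h
  · exact chkE6_1_52 col h
  · exact chkE6_1_65 col h

set_option maxRecDepth 1000000 in
theorem chkE6_2_0 : ∀ col ∈ colsAB 0 13,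
    vecEqP 2 (wordColP chevE6 2 (sH hE6_2 ++ sNw chevE6 (lmE6.getD 2 [])) col)
      (wordColP chevE6 2 (sY6_2 ++ sH hE6_2) col) = true := by
  decide +kernel

set_option maxRecDepth 1000000 in
theorem chkE6_2_13 : ∀ col ∈ colsAB 13 26,
    vecEqP 2 (wordColP chevE6 2 (sH hE6_2 ++ sNw chevE6 (lmE6.getD 2 [])) col)
      (wordColP chevE6 2 (sY6_2 ++ sH hE6_2) col) = true := by
  decide +kernel

set_option maxRecDepth 1000000 in
theorem chkE6_2_26 : ∀ col ∈ colsAB 26 39,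
    vecEqP 2 (wordColP chevE6 2 (sH hE6_2 ++ sNw chevE6 (lmE6.getD 2 [])) col)
      (wordColP chevE6 2 (sY6_2 ++ sH hE6_2) col) = true := by
  decide +kernel

set_option maxRecDepth 1000000 in
theorem chkE6_2_39 : ∀ col ∈ colsAB 39 52,
    vecEqP 2 (wordColP chevE6 2 (sH hE6_2 ++ sNw chevE6 (lmE6.getD 2 [])) col)
      (wordColP chevE6 2 (sY6_2 ++ sH hE6_2) col) = true := by
  decide +kernel

set_option maxRecDepth 1000000 in
theorem chkE6_2_52 : ∀ col ∈ colsAB 52 65,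
    vecEqP 2 (wordColP chevE6 2 (sH hE6_2 ++ sNw chevE6 (lmE6.getD 2 [])) col)
      (wordColP chevE6 2 (sY6_2 ++ sH hE6_2) col) = true := by
  decide +kernel

set_option maxRecDepth 1000000 in
theorem chkE6_2_65 : ∀ col ∈ colsAB 65 78,
    vecEqP 2 (wordColP chevE6 2 (sH hE6_2 ++ sNw chevE6 (lmE6.getD 2 [])) col)
      (wordColP chevE6 2 (sY6_2 ++ sH hE6_2) col) = true := by
  decide +kernel

theorem chkE6_2 : ∀ col ∈ cols6,
    vecEqP 2 (wordColP chevE6 2 (sH hE6_2 ++ sNw chevE6 (lmE6.getD 2 [])) col)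
      (wordColP chevE6 2 (sY6_2 ++ sH hE6_2) col) = true := by
  intro col hcol
  rcases cols6_split col hcol with h | h | h | h | h | h
  · exact chkE6_2_0 col h
  · exact chkE6_2_13 col h
  · exact chkE6_2_26 col h
  · exact chkE6_2_39 col h
  · exact chkE6_2_52 col h
  · exact chkE6_2_65 col h

set_option maxRecDepth 1000000 in
theorem chkE6_3_0 : ∀ col ∈ colsAB 0 13,
    vecEqP 2 (wordColP chevE6 2 (sH hE6_3 ++ sNw chevE6 (lmE6.getD 3 [])) col)
      (wordColP chevE6 2 (sY6_1 ++ sH hE6_3) col) = true := by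
  decide +kernel

set_option maxRecDepth 1000000 in
theorem chkE6_3_13 : ∀ col ∈ colsAB 13 26,
    vecEqP 2 (wordColP chevE6 2 (sH hE6_3 ++ sNw chevE6 (lmE6.getD 3 [])) col)
      (wordColP chevE6 2 (sY6_1 ++ sH hE6_3) col) = true := by
  decide +kernel

set_option maxRecDepth 1000000 in
theorem chkE6_3_26 : ∀ col ∈ colsAB 26 39,
    vecEqP 2 (wordColP chevE6 2 (sH hE6_3 ++ sNw chevE6 (lmE6.getD 3 [])) col)
      (wordColP chevE6 2 (sY6_1 ++ sH hE6_3) col) = true := by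
  decide +kernel

set_option maxRecDepth 1000000 in
theorem chkE6_3_39 : ∀ col ∈ colsAB 39 52,
    vecEqP 2 (wordColP chevE6 2 (sH hE6_3 ++ sNw chevE6 (lmE6.getD 3 [])) col)
      (wordColP chevE6 2 (sY6_1 ++ sH hE6_3) col) = true := by
  decide +kernel

set_option maxRecDepth 1000000 in
theorem chkE6_3_52 : ∀ col ∈ colsAB 52 65,
    vecEqP 2 (wordColP chevE6 2 (sH hE6_3 ++ sNw chevE6 (lmE6.getD 3 [])) col)
      (wordColP chevE6 2 (sY6_1 ++ sH hE6_3) col) = true := by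
  decide +kernel

set_option maxRecDepth 1000000 in
theorem chkE6_3_65 : ∀ col ∈ colsAB 65 78,
    vecEqP 2 (wordColP chevE6 2 (sH hE6_3 ++ sNw chevE6 (lmE6.getD 3 [])) col)
      (wordColP chevE6 2 (sY6_1 ++ sH hE6_3) col) = true := by
  decide +kernel

theorem chkE6_3 : ∀ col ∈ cols6,
    vecEqP 2 (wordColP chevE6 2 (sH hE6_3 ++ sNw chevE6 (lmE6.getD 3 [])) col)
      (wordColP chevE6 2 (sY6_1 ++ sH hE6_3) col) = true := by
  intro col hcol
  rcases cols6_split col hcol with h | h | h | h | h | h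
  · exact chkE6_3_0 col h
  · exact chkE6_3_13 col h
  · exact chkE6_3_26 col h
  · exact chkE6_3_39 col h
  · exact chkE6_3_52 col h
  · exact chkE6_3_65 col h

set_option maxRecDepth 1000000 in
theorem chkE6_4_0 : ∀ col ∈ colsAB 0 13,
    vecEqP 2 (wordColP chevE6 2 (sH hE6_4 ++ sNw chevE6 (lmE6.getD 4 [])) col)
      (wordColP chevE6 2 (sY6_0 ++ sH hE6_4) col) = true := by
  decide +kernel

set_option maxRecDepth 1000000 in
theorem chkE6_4_13 : ∀ col ∈ colsAB 13 26,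
    vecEqP 2 (wordColP chevE6 2 (sH hE6_4 ++ sNw chevE6 (lmE6.getD 4 [])) col)
      (wordColP chevE6 2 (sY6_0 ++ sH hE6_4) col) = true := by
  decide +kernel

set_option maxRecDepth 1000000 in
theorem chkE6_4_26 : ∀ col ∈ colsAB 26 39,
    vecEqP 2 (wordColP chevE6 2 (sH hE6_4 ++ sNw chevE6 (lmE6.getD 4 [])) col)
      (wordColP chevE6 2 (sY6_0 ++ sH hE6_4) col) = true := by
  decide +kernel

set_option maxRecDepth 1000000 in
theorem chkE6_4_39 : ∀ col ∈ colsAB 39 52,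
    vecEqP 2 (wordColP chevE6 2 (sH hE6_4 ++ sNw chevE6 (lmE6.getD 4 [])) col)
      (wordColP chevE6 2 (sY6_0 ++ sH hE6_4) col) = true := by
  decide +kernel

set_option maxRecDepth 1000000 in
theorem chkE6_4_52 : ∀ col ∈ colsAB 52 65,
    vecEqP 2 (wordColP chevE6 2 (sH hE6_4 ++ sNw chevE6 (lmE6.getD 4 [])) col)
      (wordColP chevE6 2 (sY6_0 ++ sH hE6_4) col) = true := by
  decide +kernel

set_option maxRecDepth 1000000 in
theorem chkE6_4_65 : ∀ col ∈ colsAB 65 78,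
    vecEqP 2 (wordColP chevE6 2 (sH hE6_4 ++ sNw chevE6 (lmE6.getD 4 [])) col)
      (wordColP chevE6 2 (sY6_0 ++ sH hE6_4) col) = true := by
  decide +kernel

theorem chkE6_4 : ∀ col ∈ cols6,
    vecEqP 2 (wordColP chevE6 2 (sH hE6_4 ++ sNw chevE6 (lmE6.getD 4 [])) col)
      (wordColP chevE6 2 (sY6_0 ++ sH hE6_4) col) = true := by
  intro col hcol
  rcases cols6_split col hcol with h | h | h | h | h | h
  · exact chkE6_4_0 col h
  · exact chkE6_4_13 col h
  · exact chkE6_4_26 col h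
  · exact chkE6_4_39 col h
  · exact chkE6_4_52 col h
  · exact chkE6_4_65 col h


set_option maxRecDepth 1000000 in
theorem words6_lt : ∀ j < 5, ∀ rp ∈ (sH ([hE6_0, hE6_1, hE6_2, hE6_3, hE6_4].getD j []) ++
      sNw chevE6 (lmE6.getD j [])) ++
      (([sY6_2, sY6_2, sY6_2, sY6_1, sY6_0].getD j []) ++
        sH ([hE6_0, hE6_1, hE6_2, hE6_3, hE6_4].getD j [])), rp.1 < chevE6.nroots := by
  decide +kernel

section

variable {K : Type*} [Field K]

theorem yGL6_eq0 : yGL6 K 0 = wordGL chevE6 memE6v (evalWP ([] : List K) sY6_0) := by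
  rw [sY6_0, wordGL_sH_one]; rfl

theorem yGL6_eq1 : yGL6 K 1 = wordGL chevE6 memE6v (evalWP ([] : List K) sY6_1) := by
  rw [sY6_1, wordGL_sH_two]; rfl

theorem yGL6_eq2 : yGL6 K 2 = wordGL chevE6 memE6v (evalWP ([] : List K) sY6_2) := by
  rw [sY6_2, wordGL_sH_three]; rfl

/-- **Unit E'.** -/
theorem E_lm_fuse6 [CharP K 2] (j : ℕ) (hj : j < 5) :
    ∃ h ∈ chevE6.group K, ∃ k : Fin 3,
      h * wGL chevE6 memE6v (lmE6.getD j []) * h⁻¹ = yGL6 K k := by
  have hp : ((2 : ℕ) : K) = 0 := CharP.cast_eq_zero K 2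
  have hw := words6_lt j hj
  interval_cases j
  · refine ⟨wordGL chevE6 memE6v (evalWP ([] : List K) (sH hE6_0)), wordGL_mem_group _ _ _, 2, ?_⟩
    rw [yGL6_eq2]
    exact fuse_of_cols chevE6 memE6v 2 hp cols6 supp6_le hE6_0 _ sY6_2 hw chkE6_0
  · refine ⟨wordGL chevE6 memE6v (evalWP ([] : List K) (sH hE6_1)), wordGL_mem_group _ _ _, 2, ?_⟩
    rw [yGL6_eq2]
    exact fuse_of_cols chevE6 memE6v 2 hp cols6 supp6_le hE6_1 _ sY6_2 hw chkE6_1
  · refine ⟨wordGL chevE6 memE6v (evalWP ([] : List K) (sH hE6_2)), wordGL_mem_group _ _ _, 2, ?_⟩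
    rw [yGL6_eq2]
    exact fuse_of_cols chevE6 memE6v 2 hp cols6 supp6_le hE6_2 _ sY6_2 hw chkE6_2
  · refine ⟨wordGL chevE6 memE6v (evalWP ([] : List K) (sH hE6_3)), wordGL_mem_group _ _ _, 1, ?_⟩
    rw [yGL6_eq1]
    exact fuse_of_cols chevE6 memE6v 2 hp cols6 supp6_le hE6_3 _ sY6_1 hw chkE6_3
  · refine ⟨wordGL chevE6 memE6v (evalWP ([] : List K) (sH hE6_4)), wordGL_mem_group _ _ _, 0, ?_⟩
    rw [yGL6_eq0]
    exact fuse_of_cols chevE6 memE6v 2 hp cols6 supp6_le hE6_4 _ sY6_0 hw chkE6_4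

end

end Cfsg.Agent.Lib.Helper6.E6Ev
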