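import Mathlib
import Cfsg.Agent.Lib.Helper6.F4EvDefs
import Cfsg.Agent.Lib.Helper7.InvGenHyp
import Cfsg.Agent.Lib.Helper5.ChevWTbl

set_option autoImplicit false

/-!
# The involutive local maxima of a Weyl group from a table indexed by the subsets of the diagram

A local maximum `w` with `w² = 1` is `w₀ w_I⁻¹` where `I` is the set of fundamental roots fixed by
`w` (helper7's `locmax_eq`).  Given a table `I ↦ L_I` (a word of the longest element of `W_I`) and a
list `lm` of words, a Boolean check over the subsets `I` shows that `w` acts like a word of `lm`.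
Generic in the datum (used for `E₆`; usable for `E₇`, `E₈`).
-/

namespace Cfsg.Agent.Lib.Helper6.EvLocMax

open Cfsg Cfsg.Lie Cfsg.Agent.Lib.Helper5.ChevSym Cfsg.Agent.Lib.Helper5.ChevStruct
  Cfsg.Agent.Lib.Helper6.F4Ev

/-- the word attached to the subset `I` in the table -/
def lookupL (tbl : List (List ℕ × List ℕ)) (I : List ℕ) : List ℕ :=
  match tbl.find? (fun p => p.1 == I) with
  | some p => p.2
  | none => []

/-- the check of the row `I` -/
def chkRow (D : ChevalleyDatum) (w0 : List ℕ) (tbl : List (List ℕ × List ℕ))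
    (lm : List (List ℕ)) (I : List ℕ) : Bool :=
  let L := lookupL tbl I
  let w' := w0 ++ L.reverse
  L.all (fun i => I.contains i) &&
  I.all (fun i => !decide (D.IsPosRoot (wAct D L.reverse (D.simple i)))) &&
  (!((List.range D.rank).all fun i =>
      let a := wAct D w' (D.simple i)
      ((a == D.simple i) == I.contains i) && (!decide (D.IsPosRoot a) || a == D.simple i) &&
        (wAct D w' a == D.simple i)) ||
    lm.any fun v => v.all (fun i => Nat.blt i D.rank) &&
      (List.range D.rank).all fun i => wAct D v (D.simple i) == wAct D w' (D.simple i))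

theorem locmax_cases_of_table (D : ChevalleyDatum) (hD : D ∈ Seven) (w0 : List ℕ)
    (hchk : checkW0 D w0 = true) (tbl : List (List ℕ × List ℕ)) (lm : List (List ℕ))
    (htbl : ∀ I ∈ (List.range D.rank).sublists, chkRow D w0 tbl lm I = true)
    (w : List ℕ) (hw : Wd D w) (hw2 : ∀ r < D.nroots, wAct D (w ++ w) r = r)
    (hl : LocMax D w) :
    ∃ v ∈ lm, Wd D v ∧ ∀ r < D.nroots, wAct D w r = wAct D v r := by
  classical
  set I : List ℕ := (List.range D.rank).filter
    (fun i => decide (wAct D w (D.simple i) = D.simple i)) with hIdef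
  have hI : I ∈ (List.range D.rank).sublists := List.mem_sublists.2 List.filter_sublist
  have hmemI : ∀ i, i ∈ I ↔ i < D.rank ∧ wAct D w (D.simple i) = D.simple i := by
    intro i
    rw [hIdef, List.mem_filter, List.mem_range, decide_eq_true_eq]
  have h := htbl I hI
  unfold chkRow at h
  set L := lookupL tbl I with hLdef
  simp only [Bool.and_eq_true, List.all_eq_true] at h
  obtain ⟨⟨h1, h2⟩, h3⟩ := h
  have hL : ∀ i ∈ L, i < D.rank ∧ wAct D w (D.simple i) = D.simple i := by
    intro i hi
    have := h1 i hi
    rw [List.contains_iff_mem] at this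
    exact (hmemI i).1 this
  have hdesc : ∀ i < D.rank, wAct D w (D.simple i) = D.simple i →
      ¬ D.IsPosRoot (wAct D L.reverse (D.simple i)) := by
    intro i hi hfix
    have := h2 i ((hmemI i).2 ⟨hi, hfix⟩)
    simpa using this
  have hE := Cfsg.Agent.Lib.Helper7.InvGen.locmax_eq D hD w0 hchk w hw hw2 hl L hL hdesc
  have hLwd : Wd D L := fun i hi => (hL i hi).1
  have hw0wd : Wd D w0 := (conj_pos_eq_neg' (K := ℚ) D hD w0 hchk).1
  have hw'wd : Wd D (w0 ++ L.reverse) := hw0wd.append hLwd.reverse
  have hW : ∀ r < D.nroots, wAct D w r = wAct D (w0 ++ L.reverse) r := by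
    intro r hr
    rw [wAct_append, ← hE _ (wAct_lt D hD L.reverse hLwd.reverse r hr), wAct_append,
      wAct_reverse D hD L hLwd r hr]
  have hprem : ((List.range D.rank).all fun i =>
      let a := wAct D (w0 ++ L.reverse) (D.simple i)
      ((a == D.simple i) == I.contains i) && (!decide (D.IsPosRoot a) || a == D.simple i) &&
        (wAct D (w0 ++ L.reverse) a == D.simple i)) = true := by
    rw [List.all_eq_true]
    intro i hi
    have hi' : i < D.rank := List.mem_range.1 hi
    have hs : D.simple i < D.nroots := simple_lt D hD i hi'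
    have ha : wAct D (w0 ++ L.reverse) (D.simple i) = wAct D w (D.simple i) := (hW _ hs).symm
    simp only [ha]
    have halt : wAct D w (D.simple i) < D.nroots := wAct_lt D hD w hw _ hs
    have h4 : wAct D (w0 ++ L.reverse) (wAct D w (D.simple i)) = D.simple i := by
      rw [← hW _ halt, ← wAct_append]
      exact hw2 _ hs
    rw [h4]
    by_cases hfix : wAct D w (D.simple i) = D.simple i
    · have hiI : i ∈ I := (hmemI i).2 ⟨hi', hfix⟩
      simp [hfix, hiI]
    · have hiI : i ∉ I := fun hc => hfix ((hmemI i).1 hc).2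
      rcases hl i hi' with h5 | h5
      · simp [hfix, hiI, h5]
      · exact absurd h5 hfix
  rw [hprem] at h3
  simp only [Bool.not_true, Bool.false_or, List.any_eq_true, Bool.and_eq_true,
    List.all_eq_true] at h3
  obtain ⟨v, hv, hvwd, hvimg⟩ := h3
  have hvwd' : Wd D v := fun i hi => by
    have := hvwd i hi
    rwa [Nat.blt_eq] at this
  refine ⟨v, hv, hvwd', ?_⟩
  apply wAct_eq_of_simple D hD w v hw hvwd'
  intro j hj
  have := hvimg j (List.mem_range.2 hj)
  rw [beq_iff_eq] at this
  rw [this, hW _ (simple_lt D hD j hj)]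

end Cfsg.Agent.Lib.Helper6.EvLocMax
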