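import Mathlib
import Cfsg.Agent.Lib.Helper6.E6EvDefs
import Cfsg.Agent.Lib.Helper6.EvLocMax

set_option autoImplicit false

/-!
# Farm E6EV (S2175), unit T' : the involutive local maxima of `W(E₆)`
-/

namespace Cfsg.Agent.Lib.Helper6.E6Ev

open Cfsg Cfsg.Lie Cfsg.Agent.Lib.Helper5.ChevSym Cfsg.Agent.Lib.Helper5.ChevStruct
  Cfsg.Agent.Lib.Helper6.F4Ev Cfsg.Agent.Lib.Helper6.EvLocMax

/-- the subsets `I` of the diagram with a reduced word of the longest element of `W_I`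
(helper3's table) -/
def liE6 : List (List ℕ × List ℕ) :=
  [([], []), ([0], [0]), ([1], [1]), ([2], [2]), ([3], [3]), ([4], [4]), ([5], [5]),
   ([0, 1], [0, 1]), ([0, 2], [0, 2, 0]), ([0, 3], [0, 3]), ([0, 4], [0, 4]), ([0, 5], [0, 5]),
   ([1, 2], [1, 2]), ([1, 3], [1, 3, 1]), ([1, 4], [1, 4]), ([1, 5], [1, 5]),
   ([2, 3], [2, 3, 2]), ([2, 4], [2, 4]), ([2, 5], [2, 5]), ([3, 4], [3, 4, 3]),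
   ([3, 5], [3, 5]), ([4, 5], [4, 5, 4]), ([0, 1, 2], [0, 1, 2, 0]), ([0, 1, 3], [0, 1, 3, 1]),
   ([0, 1, 4], [0, 1, 4]), ([0, 1, 5], [0, 1, 5]), ([0, 2, 3], [0, 2, 0, 3, 2, 0]),
   ([0, 2, 4], [0, 2, 0, 4]), ([0, 2, 5], [0, 2, 0, 5]), ([0, 3, 4], [0, 3, 4, 3]),
   ([0, 3, 5], [0, 3, 5]), ([0, 4, 5], [0, 4, 5, 4]), ([1, 2, 3], [1, 2, 3, 1, 2, 3]),
   ([1, 2, 4], [1, 2, 4]), ([1, 2, 5], [1, 2, 5]), ([1, 3, 4], [1, 3, 1, 4, 3, 1]),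
   ([1, 3, 5], [1, 3, 1, 5]), ([1, 4, 5], [1, 4, 5, 4]), ([2, 3, 4], [2, 3, 2, 4, 3, 2]),
   ([2, 3, 5], [2, 3, 2, 5]), ([2, 4, 5], [2, 4, 5, 4]), ([3, 4, 5], [3, 4, 3, 5, 4, 3]),
   ([0, 1, 2, 3], [0, 1, 2, 0, 3, 1, 2, 0, 3, 2]), ([0, 1, 2, 4], [0, 1, 2, 0, 4]),
   ([0, 1, 2, 5], [0, 1, 2, 0, 5]), ([0, 1, 3, 4], [0, 1, 3, 1, 4, 3, 1]),
   ([0, 1, 3, 5], [0, 1, 3, 1, 5]), ([0, 1, 4, 5], [0, 1, 4, 5, 4]),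
   ([0, 2, 3, 4], [0, 2, 0, 3, 2, 0, 4, 3, 2, 0]), ([0, 2, 3, 5], [0, 2, 0, 3, 2, 0, 5]),
   ([0, 2, 4, 5], [0, 2, 0, 4, 5, 4]), ([0, 3, 4, 5], [0, 3, 4, 3, 5, 4, 3]),
   ([1, 2, 3, 4], [1, 2, 3, 1, 2, 3, 4, 3, 1, 2, 3, 4]), ([1, 2, 3, 5], [1, 2, 3, 1, 2, 3, 5]),
   ([1, 2, 4, 5], [1, 2, 4, 5, 4]), ([1, 3, 4, 5], [1, 3, 1, 4, 3, 1, 5, 4, 3, 1]),
   ([2, 3, 4, 5], [2, 3, 2, 4, 3, 2, 5, 4, 3, 2]),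
   ([0, 1, 2, 3, 4], [0, 1, 2, 0, 3, 1, 2, 0, 3, 2, 4, 3, 1, 2, 0, 3, 2, 4, 3, 1]),
   ([0, 1, 2, 3, 5], [0, 1, 2, 0, 3, 1, 2, 0, 3, 2, 5]),
   ([0, 1, 2, 4, 5], [0, 1, 2, 0, 4, 5, 4]),
   ([0, 1, 3, 4, 5], [0, 1, 3, 1, 4, 3, 1, 5, 4, 3, 1]),
   ([0, 2, 3, 4, 5], [0, 2, 0, 3, 2, 0, 4, 3, 2, 0, 5, 4, 3, 2, 0]),
   ([1, 2, 3, 4, 5], [1, 2, 3, 1, 2, 3, 4, 3, 1, 2, 3, 4, 5, 4, 3, 1, 2, 3, 4, 5]),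
   ([0, 1, 2, 3, 4, 5], [0, 1, 2, 0, 3, 1, 2, 0, 3, 2, 4, 3, 1, 2, 0, 3, 2, 4, 3, 1, 5, 4, 3, 1, 2, 0, 3, 2, 4, 3, 1, 5, 4, 3, 2, 0])]

set_option maxRecDepth 1000000 in
theorem chkRow_E6 : ∀ I ∈ (List.range chevE6.rank).sublists,
    chkRow chevE6 w0E6 liE6 lmE6 I = true := by decide +kernel

/-- **Unit T'.** an involutive local maximum of `W(E₆)` acts like one of the six words `lmE6` -/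
theorem T_locmax_cases6 (w : List ℕ) (hw : Wd chevE6 w)
    (hw2 : ∀ r < chevE6.nroots, wAct chevE6 (w ++ w) r = r) (hl : LocMax chevE6 w) :
    ∃ k < 6, Wd chevE6 (lmE6.getD k []) ∧
      ∀ r < chevE6.nroots, wAct chevE6 w r = wAct chevE6 (lmE6.getD k []) r := by
  obtain ⟨v, hv, hvwd, hact⟩ :=
    locmax_cases_of_table chevE6 memE6v w0E6 chkW0_w0E6 liE6 lmE6 chkRow_E6 w hw hw2 hl
  rw [List.mem_iff_getElem] at hv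
  obtain ⟨k, hk, e⟩ := hv
  have hk6 : k < 6 := hk
  have e2 : lmE6.getD k [] = v := by
    rw [List.getD_eq_getElem _ _ hk]; exact e
  exact ⟨k, hk6, by rw [e2]; exact hvwd, by rw [e2]; exact hact⟩

end Cfsg.Agent.Lib.Helper6.E6Ev
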