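import Mathlib
import Cfsg.Agent.Lib.Helper2.E6M2DefsB

set_option autoImplicit false
set_option linter.unusedSectionVars false
set_option linter.unusedVariables false

/-!
Farm E6M2 (statement S2341), layer B2, unit CONJ2: the Weyl element `n1` carries `Z` to the line
`F e1` and `Z X_δ` to `F e1 + F e2`, so the fixed-point dimensions agree for class functions.
-/

namespace Cfsg.Agent.Lib.Helper6.E6M2CONJ

open Cfsg.Agent.Lib.Helper2.E6M2B

variable {F Lam L G : Type*} [Field F] [Fintype F] [DecidableEq F] [AddCommGroup Lam]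
  [Module F Lam] [Fintype Lam] [DecidableEq Lam] [Group L] [Group G] (D : Data F Lam L G) (m : ℕ)
  (hD : Rel D m)

include hD in
theorem fZ_eq_f1 (χ : G → ℂ) (hχ : ∀ x y, χ (x * y * x⁻¹) = χ y) : fZ D χ = f1 D χ := by
  obtain ⟨e, he, h⟩ := hD.n1_z
  unfold fZ f1
  congr 1
  rw [← Equiv.sum_comp (Equiv.mulLeft₀ e he) (fun t => χ (D.Psi 0 (t • D.e1)))]
  apply Finset.sum_congr rfl
  intro r _
  simp only [Equiv.mulLeft₀_apply]
  rw [← h r, hχ]

include hD in
theorem f90_eq_f2 (χ : G → ℂ) (hχ : ∀ x y, χ (x * y * x⁻¹) = χ y) : f90 D χ = f2 D χ := by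
  obtain ⟨e, he, h⟩ := hD.n1_z
  obtain ⟨e', he', h'⟩ := hD.n1_x
  unfold f90 f2
  congr 1
  rw [← Equiv.sum_comp (Equiv.mulLeft₀ e he)
    (fun t => ∑ u : F, χ (D.Psi 0 (t • D.e1) * D.Psi 0 (u • D.e2)))]
  apply Finset.sum_congr rfl
  intro r _
  rw [← Equiv.sum_comp (Equiv.mulLeft₀ e' he')
    (fun u => χ (D.Psi 0 (((Equiv.mulLeft₀ e he) r) • D.e1) * D.Psi 0 (u • D.e2)))]
  apply Finset.sum_congr rfl
  intro t _
  simp only [Equiv.mulLeft₀_apply]
  rw [← h r, ← h' t, ← hχ D.n1 (D.Psi r 0 * D.phi (D.xd t))]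
  congr 1
  group

end Cfsg.Agent.Lib.Helper6.E6M2CONJ
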