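import Mathlib
import Cfsg.Agent.Lib.Helper6.E6M2ADJ

/-! E6M2 farm (S2341): `inLam_of_cell` with the neighbour condition spelled `(N ∩ I).card = 2`
(the hypothesis `Closure q` / `hhard` of the units PARAM8, NMOV2, CELLS2). -/

set_option autoImplicit false

namespace Cfsg.Agent.Lib.Helper6.E6M2Closure

open Cfsg.Agent.Lib.Helper5.E6M Cfsg.Agent.Lib.Helper3.E6M2C Matrix
open Cfsg.Agent.Lib.Helper6.E6M2ADJ

theorem ddI_eq_inter (I N : T3) : ddI I N = (N.1 ∩ I.1).card := by
  unfold ddI
  rw [Finset.filter_mem_eq_inter]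

variable {K : Type*} [Field K] [Fintype K] [DecidableEq K] (q : ℕ) (hq : IsPrimePow q)
  (hK : Fintype.card K = q ^ 2)

include hq hK in
/-- the closure property: a cell element of a long `I` with `τ`-compatible `I`- and neighbour
coordinates lies in `Λ_τ` -/
theorem closure_inter : ∀ I : T3, IsLong I → ∀ l : T3 → K, l ∈ Cell I → l I ^ q = l I →
    (∀ N : T3, (N.1 ∩ I.1).card = 2 → l (tauI N) = ((epsI N : ℤ) : K) * l N ^ q) →
    InLam q l := by
  intro I hI l hl h0 hN
  exact inLam_of_cell q hq hK I hI l hl h0 (fun N hd => hN N (by rw [← ddI_eq_inter]; exact hd))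

end Cfsg.Agent.Lib.Helper6.E6M2Closure
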