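import Mathlib
import Cfsg.Agent.Lib.Helper2.E6M2DefsB

set_option autoImplicit false
set_option linter.unusedSectionVars false
set_option linter.unusedVariables false

/-!
Farm E6M2 (statement S2341), layer B2, unit INV2: the multiplicities `cM` are invariant under the
Levi part `L` acting on the characters of `Lam`.
-/

namespace Cfsg.Agent.Lib.Helper6.E6M2INV

open Cfsg.Agent.Lib.Helper2.E6M2B

variable {F Lam L G : Type*} [Field F] [Fintype F] [DecidableEq F] [AddCommGroup Lam]
  [Module F Lam] [Fintype Lam] [DecidableEq Lam] [Group L] [Group G] (D : Data F Lam L G) (m : ℕ)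
  (hD : Rel D m)

theorem actC_apply (g : L) (l : AddChar Lam ℂ) (s : Lam) :
    actC D g l s = l (D.act g⁻¹ s) := rfl

theorem act_inv_act (g : L) (s : Lam) : D.act g⁻¹ (D.act g s) = s := by
  have : D.act g⁻¹ * D.act g = 1 := by rw [← map_mul, inv_mul_cancel, map_one]
  have h2 := congrArg (fun f : Lam ≃ₗ[F] Lam => f s) this
  simpa using h2

theorem act_act_inv (g : L) (s : Lam) : D.act g (D.act g⁻¹ s) = s := by
  have : D.act g * D.act g⁻¹ = 1 := by rw [← map_mul, mul_inv_cancel, map_one]
  have h2 := congrArg (fun f : Lam ≃ₗ[F] Lam => f s) this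
  simpa using h2

include hD in
theorem cM_inv (χ : G → ℂ) (hχ : ∀ x y, χ (x * y * x⁻¹) = χ y) (g : L) (l : AddChar Lam ℂ) :
    cM D χ (actC D g l) = cM D χ l := by
  unfold cM
  congr 1
  rw [Finset.sum_comm]
  conv_rhs => rw [Finset.sum_comm]
  rw [← Equiv.sum_comp (D.act g).toEquiv
    (fun s => ∑ r : F, actC D g l (-s) * χ (D.Psi r s))]
  apply Finset.sum_congr rfl
  intro s _
  obtain ⟨c, hc⟩ := hD.conj g s
  show ∑ r : F, actC D g l (-(D.act g s)) * χ (D.Psi r (D.act g s)) =
    ∑ r : F, l (-s) * χ (D.Psi r s)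
  have h1 : actC D g l (-(D.act g s)) = l (-s) := by
    rw [actC_apply, map_neg, act_inv_act]
  rw [h1, ← Equiv.sum_comp (Equiv.addRight c) (fun r => l (-s) * χ (D.Psi r (D.act g s)))]
  apply Finset.sum_congr rfl
  intro r _
  rw [Equiv.coe_addRight, ← hc r, hχ]

end Cfsg.Agent.Lib.Helper6.E6M2INV
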