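import Mathlib
import Cfsg.Agent.Lib.Helper3.E6M2DefsC
import Cfsg.Agent.Lib.Helper6.E6MSUPP

/-! E6M2 farm (S2341): the vectors fixed by the minors of `1 + t E_{50}` (the contragredient action
of the long root element `x_δ(-t) = 1 - t E_{05}`) are those which are not `moved2`. -/

set_option autoImplicit false

namespace Cfsg.Agent.Lib.Helper6.E6M2MOVED

open Cfsg.Agent.Lib.Helper5.E6M Cfsg.Agent.Lib.Helper3.E6M2C Matrix
open Cfsg.Agent.Lib.Helper6.E6MSUPP

variable {K : Type*} [Field K]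

/-- the position `(5,0)` -/
def p50 : IJ := ⟨(5, 0), by decide⟩

theorem fix_iff_not_moved2 (t : K) (ht : t ≠ 0) (l : T3 → K) :
    Mm (Matrix.transvection (5 : Fin 6) 0 t) *ᵥ l = l ↔ ¬ moved2 l := by
  have hco : ∀ J : T3, (Mm (Matrix.transvection (5 : Fin 6) 0 t) *ᵥ l) J =
      l J + t * (if (5 : Fin 6) ∈ J.1 ∧ (0 : Fin 6) ∉ J.1 then
        ((rsgn (repl J 0 5) 5 0 : ℤ) : K) * l (repl J 0 5) else 0) := fun J => tv_coord p50 t l J
  constructor
  · intro h
    rintro ⟨I, h0, h5, hI⟩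
    -- `J = repl I 5 0`
    obtain ⟨r1, r2, r3⟩ := repl_repl 5 0 (by decide) I ⟨h0, h5⟩
    have := congrFun h (repl I 5 0)
    rw [hco, if_pos ⟨r1, r2⟩, r3] at this
    have h0' : t * (((rsgn I 5 0 : ℤ) : K) * l I) = 0 := by linear_combination this
    rcases mul_eq_zero.mp h0' with h' | h'
    · exact ht h'
    · rcases mul_eq_zero.mp h' with h'' | h''
      · exact rsgn_ne_zero I 5 0 h''
      · exact hI h''
  · intro h
    funext J
    rw [hco]
    by_cases hc : (5 : Fin 6) ∈ J.1 ∧ (0 : Fin 6) ∉ J.1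
    · obtain ⟨r1, r2, _⟩ := repl_repl 0 5 (by decide) J hc
      have : l (repl J 0 5) = 0 := by
        by_contra hne
        exact h ⟨repl J 0 5, r1, r2, hne⟩
      rw [if_pos hc, this]
      simp
    · rw [if_neg hc]; simp

end Cfsg.Agent.Lib.Helper6.E6M2MOVED
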