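import Mathlib
import Cfsg.Agent.Lib.Helper3.E6M2DefsC
import Cfsg.Agent.Lib.Helper7.E6M2LAM
import Cfsg.Agent.Lib.Helper6.E6M2SUPPBase
import Cfsg.Agent.Lib.Helper6.E6M2CELL

/-! E6M2 farm (S2341), layer C2, unit SUPP2: the shape argument in `Λ_τ`. -/

set_option autoImplicit false

namespace Cfsg.Agent.Lib.Helper6.E6M2SUPP

open Cfsg.Agent.Lib.Helper5.E6M Cfsg.Agent.Lib.Helper3.E6M2C Matrix
open Cfsg.Agent.Lib.Helper6.E6MSUPP Cfsg.Agent.Lib.Helper6.E6M2TORUS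
open Cfsg.Agent.Lib.Helper6.E6M2SUPPBase Cfsg.Agent.Lib.Helper6.E6M2CELL

variable {K : Type*} [Field K] [Fintype K] [DecidableEq K] (q : ℕ) (hq : IsPrimePow q)
  (hK : Fintype.card K = q ^ 2)

variable (c : (T3 → K) → ℕ)
  (hinv : ∀ (g : SL6 K), g ∈ RJ q → ∀ l : T3 → K, InLam q l → c (Mm g.1 *ᵥ l) = c l)

include hq hK hinv in
/-- all the elements of all the cells have the same multiplicity -/
theorem cell_const2 (I : T3) (hI : IsLong I) (l : T3 → K) (hl : l ∈ Cell I) (hl' : InLam q l) :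
    c l = c (Pi.single I012 1) := by
  obtain ⟨g, c', hgR, hcq, hc0, rfl⟩ := cell_orbit2 q hq hK I hI l hl hl'
  have h1 : InLam q (Pi.single I012 (1 : K)) :=
    Cfsg.Agent.Lib.Helper7.E6M2C.inLam_single q hq I012 long_I012 1 (one_pow q)
  have h2 : InLam q (Pi.single I012 c') :=
    Cfsg.Agent.Lib.Helper7.E6M2C.inLam_single q hq I012 long_I012 c' hcq
  rw [hinv g hgR _ h2, single_eq_hJ c' hc0, hinv _ (hJ_mem q hq hK c' hcq) _ h1]

include hq hK hinv in
/-- the shape argument: the multiplicity of the decomposable vectors is not `0` -/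
theorem no_extra2
    (hsum : ∑ l ∈ Finset.univ.filter (fun l : T3 → K => InLam q l ∧ l I012 ≠ 0), c l =
      (q - 1) * q ^ 9)
    (h0 : c (Pi.single I012 1) = 0) : False := by
  classical
  have hq2 : 2 ≤ q := hq.two_le
  have hN : 0 < (q - 1) * q ^ 9 := Nat.mul_pos (by omega) (pow_pos (by omega) _)
  have h1L : InLam q (Pi.single I012 (1 : K)) :=
    Cfsg.Agent.Lib.Helper7.E6M2C.inLam_single q hq I012 long_I012 1 (one_pow q)
  -- a vector with positive multiplicity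
  have hex : ∃ l₀ : T3 → K, InLam q l₀ ∧ l₀ I012 ≠ 0 ∧ c l₀ ≠ 0 := by
    by_contra hcon
    push Not at hcon
    rw [Finset.sum_eq_zero (fun l hl => hcon l (Finset.mem_filter.mp hl).2.1
      (Finset.mem_filter.mp hl).2.2)] at hsum
    omega
  obtain ⟨l₀, hl₀L, hl₀, hcl₀⟩ := hex
  have hzero : InLam q (0 : T3 → K) := Cfsg.Agent.Lib.Helper7.E6M2C.inLam_zero q hq
  -- its shape
  obtain ⟨g, hgR, hg0, hgS⟩ := adjust2 q hq hK l₀ hl₀L hl₀ 0 hzero
    (Finset.univ.filter (fun N : T3 => dd N = 2)) (fun N hN => (Finset.mem_filter.mp hN).2)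
  set σ := Mm g.1 *ᵥ l₀ with hσ
  have hσL : InLam q σ := Cfsg.Agent.Lib.Helper7.E6M2C.inLam_RJ q hq hK g hgR l₀ hl₀L
  have hσ0 : σ I012 ≠ 0 := by rw [hg0]; exact hl₀
  have hσsh : ∀ X, dd X = 2 → σ X = 0 := fun X hX =>
    hgS X (Finset.mem_filter.mpr ⟨Finset.mem_univ _, hX⟩)
  have hcσ : c σ ≠ 0 := by rw [hσ, hinv g hgR l₀ hl₀L]; exact hcl₀
  have hσq : σ I012 ^ q = σ I012 := long_coord q σ hσL I012 long_I012
  have hne : ∃ X, X ≠ I012 ∧ σ X ≠ 0 := by
    by_contra hcon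
    push Not at hcon
    have : σ = Pi.single I012 (σ I012) := by
      funext J
      by_cases hJ : J = I012
      · subst hJ; rw [Pi.single_eq_same]
      · rw [Pi.single_eq_of_ne hJ, hcon J hJ]
    apply hcσ
    rw [this, single_eq_hJ _ hσ0, hinv _ (hJ_mem q hq hK _ hσq) _ h1L, h0]
  obtain ⟨g', hg'R, hg'0, hg'sh, hg'ne⟩ := move2 q σ hσsh hne
  set σ' := Mm g'.1 *ᵥ σ with hσ'
  have hσ'L : InLam q σ' := Cfsg.Agent.Lib.Helper7.E6M2C.inLam_RJ q hq hK g' hg'R σ hσL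
  have hcσ' : c σ' ≠ 0 := by rw [hσ', hinv g' hg'R σ hσL]; exact hcσ
  -- the map to the coordinates `012` and the nine neighbours
  set Ψ : (T3 → K) → K × ({N : T3 // dd N = 2} → K) := fun l => (l I012, fun N => l N.1) with hΨ
  set YF := Finset.univ.filter (fun l : T3 → K => InLam q l ∧ l I012 ≠ 0 ∧ c l ≠ 0) with hYF
  set CF := Finset.univ.filter (fun l : T3 → K => l ∈ Cell I012 ∧ InLam q l) with hCF
  have hCcard : CF.card = (q - 1) * q ^ 9 := by
    rw [← cell_card2 q hq hK I012 long_I012,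
      Nat.card_eq_fintype_card, Fintype.card_subtype]
  have hΨinj : Set.InjOn Ψ CF := by
    intro l hl l' hl' h
    rw [Finset.mem_coe, hCF, Finset.mem_filter] at hl hl'
    rw [hΨ] at h
    have h1 := congrArg Prod.fst h
    have h2 := congrArg Prod.snd h
    exact cell_ext l l' hl.2.1 hl'.2.1 h1 (fun N hN => congrFun h2 ⟨N, hN⟩)
  have hsurj : CF.image Ψ ⊆ YF.image Ψ := by
    intro x hx
    obtain ⟨m, hm, rfl⟩ := Finset.mem_image.mp hx
    rw [hCF, Finset.mem_filter] at hm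
    obtain ⟨-, hmC, hmL⟩ := hm
    have hm0 : m I012 ≠ 0 := by
      obtain ⟨c', A, hc', rfl⟩ := hmC
      simpa [Cfsg.Agent.Lib.Helper2.E6MCell.cell_coord] using hc'
    have hmq : m I012 ^ q = m I012 := long_coord q m hmL I012 long_I012
    have hτ : m I012 / σ I012 ≠ 0 := div_ne_zero hm0 hσ0
    have hτq : (m I012 / σ I012) ^ q = m I012 / σ I012 := by rw [div_pow, hmq, hσq]
    set l₁ := Mm (hJ (m I012 / σ I012)).1 *ᵥ σ with hl₁
    have hl₁L : InLam q l₁ :=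
      Cfsg.Agent.Lib.Helper7.E6M2C.inLam_RJ q hq hK _ (hJ_mem q hq hK _ hτq) σ hσL
    have hl₁0 : l₁ I012 = m I012 := by
      rw [hl₁, hJ_coord _ hτ]; field_simp
    obtain ⟨g₂, hg₂R, h20, h2S⟩ := adjust2 q hq hK l₁ hl₁L (by rw [hl₁0]; exact hm0) m hmL
      (Finset.univ.filter (fun N : T3 => dd N = 2)) (fun N hN => (Finset.mem_filter.mp hN).2)
    rw [Finset.mem_image]
    refine ⟨Mm g₂.1 *ᵥ l₁, ?_, ?_⟩
    · rw [hYF, Finset.mem_filter]
      refine ⟨Finset.mem_univ _,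
        Cfsg.Agent.Lib.Helper7.E6M2C.inLam_RJ q hq hK g₂ hg₂R l₁ hl₁L, ?_, ?_⟩
      · rw [h20, hl₁0]; exact hm0
      · rw [hinv g₂ hg₂R l₁ hl₁L, hl₁, hinv _ (hJ_mem q hq hK _ hτq) σ hσL]; exact hcσ
    · rw [hΨ]
      refine Prod.ext ?_ ?_
      · show (Mm g₂.1 *ᵥ l₁) I012 = m I012
        rw [h20, hl₁0]
      · funext N
        show (Mm g₂.1 *ᵥ l₁) N.1 = m N.1
        exact h2S N.1 (Finset.mem_filter.mpr ⟨Finset.mem_univ _, N.2⟩)
  have hninj : ¬ Set.InjOn Ψ YF := by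
    intro hinj
    have h1 : σ ∈ YF := by
      rw [hYF, Finset.mem_filter]; exact ⟨Finset.mem_univ _, hσL, hσ0, hcσ⟩
    have h2 : σ' ∈ YF := by
      rw [hYF, Finset.mem_filter]
      refine ⟨Finset.mem_univ _, hσ'L, ?_, hcσ'⟩
      rw [hg'0]; exact hσ0
    apply hg'ne
    refine hinj (Finset.mem_coe.mpr h2) (Finset.mem_coe.mpr h1) ?_
    rw [hΨ]
    refine Prod.ext ?_ ?_
    · exact hg'0
    · funext N
      show σ' N.1 = σ N.1
      rw [hg'sh N.1 N.2, hσsh N.1 N.2]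
  have hlt : (YF.image Ψ).card < YF.card :=
    lt_of_le_of_ne Finset.card_image_le (fun h => hninj (Finset.card_image_iff.mp h))
  have hY : YF.card ≤
      ∑ l ∈ Finset.univ.filter (fun l : T3 → K => InLam q l ∧ l I012 ≠ 0), c l := by
    have hsub : YF ⊆ Finset.univ.filter (fun l : T3 → K => InLam q l ∧ l I012 ≠ 0) := by
      intro l hl
      rw [hYF, Finset.mem_filter] at hl
      exact Finset.mem_filter.mpr ⟨Finset.mem_univ _, hl.2.1, hl.2.2.1⟩
    calc YF.card = ∑ _l ∈ YF, 1 := (Finset.card_eq_sum_ones YF)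
      _ ≤ ∑ l ∈ YF, c l := Finset.sum_le_sum (fun l hl => by
          rw [hYF, Finset.mem_filter] at hl
          exact Nat.one_le_iff_ne_zero.mpr hl.2.2.2)
      _ ≤ _ := Finset.sum_le_sum_of_subset hsub
  have h1 := Finset.card_le_card hsurj
  rw [Finset.card_image_of_injOn hΨinj, hCcard] at h1
  omega

include hq hK hinv in
/-- the case `I = {0,1,2}` -/
theorem supp012_2
    (hsum : ∑ l ∈ Finset.univ.filter (fun l : T3 → K => InLam q l ∧ l I012 ≠ 0), c l =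
      (q - 1) * q ^ 9) :
    c (Pi.single I012 1) = 1 ∧
      ∀ l : T3 → K, InLam q l → l I012 ≠ 0 → l ∉ Cell I012 → c l = 0 := by
  classical
  have hq2 : 2 ≤ q := hq.two_le
  have hN : 0 < (q - 1) * q ^ 9 := Nat.mul_pos (by omega) (pow_pos (by omega) _)
  set XF := Finset.univ.filter (fun l : T3 → K => InLam q l ∧ l I012 ≠ 0) with hXF
  set CF := Finset.univ.filter (fun l : T3 → K => l ∈ Cell I012 ∧ InLam q l) with hCF
  have hCcard : CF.card = (q - 1) * q ^ 9 := by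
    rw [← cell_card2 q hq hK I012 long_I012,
      Nat.card_eq_fintype_card, Fintype.card_subtype]
  have hsub : CF ⊆ XF := by
    intro l hl
    rw [hCF, Finset.mem_filter] at hl
    obtain ⟨-, ⟨c', A, hc', rfl⟩, hL⟩ := hl
    rw [hXF, Finset.mem_filter]
    refine ⟨Finset.mem_univ _, hL, ?_⟩
    rw [Pi.smul_apply, Cfsg.Agent.Lib.Helper2.E6MCell.cell_coord, smul_eq_mul, mul_one]
    exact hc'
  have hsplit := Finset.sum_sdiff (f := c) hsub
  have hcell : ∑ l ∈ CF, c l = ((q - 1) * q ^ 9) * c (Pi.single I012 1) := by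
    rw [Finset.sum_congr rfl (fun l hl => cell_const2 q hq hK c hinv I012 long_I012 l
      (by rw [hCF, Finset.mem_filter] at hl; exact hl.2.1)
      (by rw [hCF, Finset.mem_filter] at hl; exact hl.2.2)), Finset.sum_const, hCcard,
      smul_eq_mul]
  rw [hcell, hsum] at hsplit
  have hc0 : c (Pi.single I012 1) ≠ 0 := fun h => no_extra2 q hq hK c hinv hsum h
  have hc1 : c (Pi.single I012 1) = 1 := by
    by_contra hne
    have h2 : 2 ≤ c (Pi.single I012 1) := by omega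
    have := Nat.mul_le_mul_left ((q - 1) * q ^ 9) h2
    omega
  refine ⟨hc1, fun l hlL hl hnot => ?_⟩
  rw [hc1, mul_one] at hsplit
  have hR : ∑ l ∈ XF \ CF, c l = 0 := by omega
  rw [Finset.sum_eq_zero_iff] at hR
  apply hR
  rw [Finset.mem_sdiff, hXF, hCF, Finset.mem_filter, Finset.mem_filter]
  exact ⟨⟨Finset.mem_univ _, hlL, hl⟩, fun h => hnot h.2.1⟩

include hq hK hinv in
/-- unit SUPP2 -/
theorem supp2
    (hsum : ∑ l ∈ Finset.univ.filter (fun l : T3 → K => InLam q l ∧ l I012 ≠ 0), c l =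
      (q - 1) * q ^ 9) :
    ∀ (I : T3), IsLong I → ∀ l : T3 → K, InLam q l → l I ≠ 0 →
      (l ∈ Cell I → c l = 1) ∧ (l ∉ Cell I → c l = 0) := by
  classical
  obtain ⟨hc1, hX⟩ := supp012_2 q hq hK c hinv hsum
  intro I hI l hlL hl
  refine ⟨fun hmem => ?_, fun hnot => ?_⟩
  · rw [cell_const2 q hq hK c hinv I hI l hmem hlL, hc1]
  · by_contra hcl
    obtain ⟨g, hgR, hg⟩ := reach2 q (3 - dd I) I hI (by have := dd_le I; omega) l hl
    have hgL : InLam q (Mm g.1 *ᵥ l) :=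
      Cfsg.Agent.Lib.Helper7.E6M2C.inLam_RJ q hq hK g hgR l hlL
    have hcl' : c (Mm g.1 *ᵥ l) ≠ 0 := by rw [hinv g hgR l hlL]; exact hcl
    have hmem' : Mm g.1 *ᵥ l ∈ Cell I012 := by
      by_contra h
      exact hcl' (hX _ hgL hg h)
    have hl_eq : l = Mm (g⁻¹).1 *ᵥ (Mm g.1 *ᵥ l) := by
      rw [← Mm_mul_mulVec, inv_mul_cancel, Mm_one_mulVec]
    obtain ⟨c', C, hC⟩ := Mm_cell g⁻¹ I012 _ hmem'
    apply hnot
    rw [hl_eq, hC]
    apply mem_cell_of_smul_pl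
    rw [← hC, ← hl_eq]
    exact hl

end Cfsg.Agent.Lib.Helper6.E6M2SUPP
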