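import Mathlib
import Cfsg.Agent.Lib.Helper4.SLnGen

/-! E6M farm (S2340), unit BLOCKPERF: the block upper triangular subgroup
`{[[A, B], [0, D]] : det A = 1 (= det D)}` of `SL (m ⊕ n) F` is generated by its coordinate
transvections and is perfect (every hom to a commutative group is trivial), when `3 ≤ |m|, |n|`. -/

set_option autoImplicit false

namespace Cfsg.Agent.Lib.Helper6.E6MBlockPerf

open Matrix Matrix.SpecialLinearGroup
open scoped commutatorElement

variable {F : Type*} [Field F]
variable {m n : Type*} [Fintype m] [Fintype n] [DecidableEq m] [DecidableEq n]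

/-- the block subgroup: lower left block zero, upper left block of determinant one. -/
def blockSub (F : Type*) [Field F] (m n : Type*) [Fintype m] [Fintype n] [DecidableEq m]
    [DecidableEq n] : Subgroup (SpecialLinearGroup (m ⊕ n) F) where
  carrier := {g | g.1.toBlocks₂₁ = 0 ∧ g.1.toBlocks₁₁.det = 1}
  one_mem' := by
    refine ⟨?_, ?_⟩
    · show (1 : Matrix (m ⊕ n) (m ⊕ n) F).toBlocks₂₁ = 0
      ext a b; simp [toBlocks₂₁]
    · show (1 : Matrix (m ⊕ n) (m ⊕ n) F).toBlocks₁₁.det = 1
      have : (1 : Matrix (m ⊕ n) (m ⊕ n) F).toBlocks₁₁ = 1 := by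
        ext a b; simp [toBlocks₁₁, Matrix.one_apply]
      rw [this, det_one]
  mul_mem' := by
    rintro g h ⟨hg1, hg2⟩ ⟨hh1, hh2⟩
    have hg : g.1 = fromBlocks g.1.toBlocks₁₁ g.1.toBlocks₁₂ 0 g.1.toBlocks₂₂ := by
      rw [← hg1, fromBlocks_toBlocks]
    have hh : h.1 = fromBlocks h.1.toBlocks₁₁ h.1.toBlocks₁₂ 0 h.1.toBlocks₂₂ := by
      rw [← hh1, fromBlocks_toBlocks]
    have hgh : (g * h).1 = fromBlocks (g.1.toBlocks₁₁ * h.1.toBlocks₁₁)
        (g.1.toBlocks₁₁ * h.1.toBlocks₁₂ + g.1.toBlocks₁₂ * h.1.toBlocks₂₂) 0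
        (g.1.toBlocks₂₂ * h.1.toBlocks₂₂) := by
      rw [coe_mul, hg, hh, fromBlocks_multiply]
      simp
    refine ⟨?_, ?_⟩
    · show (g * h).1.toBlocks₂₁ = 0
      rw [hgh, toBlocks_fromBlocks₂₁]
    · show (g * h).1.toBlocks₁₁.det = 1
      rw [hgh, toBlocks_fromBlocks₁₁, det_mul, hg2, hh2, one_mul]
  inv_mem' := by
    rintro g ⟨hg1, hg2⟩
    have hg : g.1 = fromBlocks g.1.toBlocks₁₁ g.1.toBlocks₁₂ 0 g.1.toBlocks₂₂ := by
      rw [← hg1, fromBlocks_toBlocks]
    set h := g⁻¹ with hh
    have hh' : h.1 = fromBlocks h.1.toBlocks₁₁ h.1.toBlocks₁₂ h.1.toBlocks₂₁ h.1.toBlocks₂₂ :=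
      (fromBlocks_toBlocks _).symm
    have h1 : g.1 * h.1 = 1 := by
      rw [← coe_mul, hh, mul_inv_cancel]; rfl
    have h2 : h.1 * g.1 = 1 := by
      rw [← coe_mul, hh, inv_mul_cancel]; rfl
    rw [hg, hh', fromBlocks_multiply, ← fromBlocks_one, fromBlocks_inj] at h1
    rw [hg, hh', fromBlocks_multiply, ← fromBlocks_one, fromBlocks_inj] at h2
    obtain ⟨-, -, h1c, h1d⟩ := h1
    obtain ⟨h2a, -, -, -⟩ := h2
    simp only [Matrix.zero_mul, zero_add, Matrix.mul_zero, add_zero] at h1c h1d h2a
    have h3 : h.1.toBlocks₂₂ * g.1.toBlocks₂₂ = 1 := mul_eq_one_comm.mp h1d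
    have h21 : h.1.toBlocks₂₁ = 0 := by
      have := congrArg (fun M => h.1.toBlocks₂₂ * M) h1c
      simp only [Matrix.mul_zero] at this
      rw [← Matrix.mul_assoc, h3, Matrix.one_mul] at this
      exact this
    refine ⟨h21, ?_⟩
    show h.1.toBlocks₁₁.det = 1
    have := congrArg det h2a
    rw [det_mul, hg2, mul_one, det_one] at this
    exact this

theorem mem_blockSub {g : SpecialLinearGroup (m ⊕ n) F} :
    g ∈ blockSub F m n ↔ g.1.toBlocks₂₁ = 0 ∧ g.1.toBlocks₁₁.det = 1 := Iff.rfl

/-- allowed index pairs: not (row in the second block and column in the first block). -/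
def Allowed (i j : m ⊕ n) : Prop := ¬ (i.isRight ∧ j.isLeft)

/-- the allowed coordinate transvections. -/
def allowedT (F : Type*) [Field F] (m n : Type*) [Fintype m] [Fintype n] [DecidableEq m]
    [DecidableEq n] : Set (SpecialLinearGroup (m ⊕ n) F) :=
  {t | ∃ (i j : m ⊕ n) (h : i ≠ j) (c : F), Allowed i j ∧ t = transvection h c}

theorem transvection_mem_blockSub {i j : m ⊕ n} (h : i ≠ j) (c : F) (ha : Allowed i j) :
    transvection h c ∈ blockSub F m n := by
  refine ⟨?_, ?_⟩
  · ext a b
    simp only [transvection_coe, toBlocks₂₁, of_apply, Matrix.add_apply, Matrix.zero_apply]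
    rw [Matrix.one_apply_ne (by simp), zero_add, single_apply]
    rw [if_neg]
    rintro ⟨rfl, rfl⟩
    exact ha ⟨rfl, rfl⟩
  · rcases i with i | i <;> rcases j with j | j
    · have hij : i ≠ j := fun e => h (by rw [e])
      have : (transvection h c).1.toBlocks₁₁ = Matrix.transvection i j c := by
        ext a b
        simp only [transvection_coe, toBlocks₁₁, of_apply, Matrix.add_apply, Matrix.transvection,
          Matrix.one_apply, single_apply, Sum.inl.injEq]
      rw [this, det_transvection_of_ne _ _ hij]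
    · have : (transvection h c).1.toBlocks₁₁ = 1 := by
        ext a b
        simp [transvection_coe, toBlocks₁₁, Matrix.one_apply, single_apply]
      rw [this, det_one]
    · have : (transvection h c).1.toBlocks₁₁ = 1 := by
        ext a b
        simp [transvection_coe, toBlocks₁₁, Matrix.one_apply, single_apply]
      rw [this, det_one]
    · have : (transvection h c).1.toBlocks₁₁ = 1 := by
        ext a b
        simp [transvection_coe, toBlocks₁₁, Matrix.one_apply, single_apply]
      rw [this, det_one]

theorem allowedT_subset : allowedT F m n ⊆ (blockSub F m n : Set _) := by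
  rintro t ⟨i, j, h, c, ha, rfl⟩
  exact transvection_mem_blockSub h c ha

/-! ### the three factors -/

/-- upper left embedding. -/
def embL (A : SpecialLinearGroup m F) : SpecialLinearGroup (m ⊕ n) F :=
  ⟨fromBlocks A.1 0 0 1, by rw [det_fromBlocks_zero₂₁, det_one, mul_one]; exact A.2⟩

/-- lower right embedding. -/
def embR (D : SpecialLinearGroup n F) : SpecialLinearGroup (m ⊕ n) F :=
  ⟨fromBlocks 1 0 0 D.1, by rw [det_fromBlocks_zero₂₁, det_one, one_mul]; exact D.2⟩

/-- unipotent radical. -/
def uni (N : Matrix m n F) : SpecialLinearGroup (m ⊕ n) F :=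
  ⟨fromBlocks 1 N 0 1, by rw [det_fromBlocks_zero₂₁]; simp⟩

theorem embL_mul (A B : SpecialLinearGroup m F) :
    (embL (n := n) (A * B)) = embL A * embL B := by
  apply Subtype.ext
  show fromBlocks (A.1 * B.1) 0 0 1 = fromBlocks A.1 0 0 1 * fromBlocks B.1 0 0 1
  rw [fromBlocks_multiply]; simp

theorem embR_mul (A B : SpecialLinearGroup n F) :
    (embR (m := m) (A * B)) = embR A * embR B := by
  apply Subtype.ext
  show fromBlocks 1 0 0 (A.1 * B.1) = fromBlocks 1 0 0 A.1 * fromBlocks 1 0 0 B.1
  rw [fromBlocks_multiply]; simp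

theorem uni_add (N N' : Matrix m n F) : uni (N + N') = uni N * uni N' := by
  apply Subtype.ext
  show fromBlocks 1 (N + N') 0 1 = fromBlocks 1 N 0 1 * fromBlocks 1 N' 0 1
  rw [fromBlocks_multiply]; simp [add_comm]

theorem uni_zero : uni (0 : Matrix m n F) = 1 := by
  apply Subtype.ext
  show fromBlocks 1 0 0 1 = (1 : Matrix (m ⊕ n) (m ⊕ n) F)
  exact fromBlocks_one

theorem embL_transvection {i j : m} (h : i ≠ j) (c : F) :
    embL (n := n) (transvection h c) =
      transvection (show (Sum.inl i : m ⊕ n) ≠ Sum.inl j from fun e => h (Sum.inl.inj e)) c := by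
  apply Subtype.ext
  show fromBlocks (1 + single i j c) 0 0 1 = 1 + single (Sum.inl i) (Sum.inl j) c
  ext a b
  rcases a with a | a <;> rcases b with b | b <;>
    simp [Matrix.one_apply, single_apply]

theorem embR_transvection {i j : n} (h : i ≠ j) (c : F) :
    embR (m := m) (transvection h c) =
      transvection (show (Sum.inr i : m ⊕ n) ≠ Sum.inr j from fun e => h (Sum.inr.inj e)) c := by
  apply Subtype.ext
  show fromBlocks 1 0 0 (1 + single i j c) = 1 + single (Sum.inr i) (Sum.inr j) c
  ext a b
  rcases a with a | a <;> rcases b with b | b <;>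
    simp [Matrix.one_apply, single_apply]

theorem uni_single (i : m) (j : n) (c : F) :
    uni (single i j c) =
      transvection (show (Sum.inl i : m ⊕ n) ≠ Sum.inr j from Sum.inl_ne_inr) c := by
  apply Subtype.ext
  show fromBlocks 1 (single i j c) 0 1 = 1 + single (Sum.inl i) (Sum.inr j) c
  ext a b
  rcases a with a | a <;> rcases b with b | b <;>
    simp [Matrix.one_apply, single_apply]

theorem embL_mem_closure (hm : 2 ≤ Fintype.card m) (A : SpecialLinearGroup m F) :
    embL (n := n) A ∈ Subgroup.closure (allowedT F m n) := by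
  have : Nontrivial m := Fintype.one_lt_card_iff_nontrivial.mp (by omega)
  refine Cfsg.Agent.Lib.Helper4.transvection_induction_gen
    (fun A => embL (n := n) A ∈ Subgroup.closure (allowedT F m n)) ?_ ?_ A
  · intro i j h c
    show embL (transvection h c) ∈ _
    rw [embL_transvection]
    exact Subgroup.subset_closure ⟨_, _, _, c, by simp [Allowed], rfl⟩
  · intro A B hA hB
    show embL (A * B) ∈ _
    rw [embL_mul]
    exact mul_mem hA hB

theorem embR_mem_closure (hn : 2 ≤ Fintype.card n) (A : SpecialLinearGroup n F) :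
    embR (m := m) A ∈ Subgroup.closure (allowedT F m n) := by
  have : Nontrivial n := Fintype.one_lt_card_iff_nontrivial.mp (by omega)
  refine Cfsg.Agent.Lib.Helper4.transvection_induction_gen
    (fun A => embR (m := m) A ∈ Subgroup.closure (allowedT F m n)) ?_ ?_ A
  · intro i j h c
    show embR (transvection h c) ∈ _
    rw [embR_transvection]
    exact Subgroup.subset_closure ⟨_, _, _, c, by simp [Allowed], rfl⟩
  · intro A B hA hB
    show embR (A * B) ∈ _
    rw [embR_mul]
    exact mul_mem hA hB

theorem uni_mem_closure (N : Matrix m n F) :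
    uni N ∈ Subgroup.closure (allowedT F m n) := by
  induction N using Matrix.induction_on' with
  | h_zero => rw [uni_zero]; exact one_mem _
  | h_add p q hp hq => rw [uni_add]; exact mul_mem hp hq
  | h_std_basis i j x =>
    rw [uni_single]
    exact Subgroup.subset_closure ⟨_, _, _, x, by simp [Allowed], rfl⟩

/-- decomposition of an element of the block subgroup. -/
theorem decomp {g : SpecialLinearGroup (m ⊕ n) F} (hg : g ∈ blockSub F m n) :
    ∃ (A : SpecialLinearGroup m F) (D : SpecialLinearGroup n F) (N : Matrix m n F),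
      g = embL A * uni N * embR D := by
  obtain ⟨hg1, hg2⟩ := hg
  have hgm : g.1 = fromBlocks g.1.toBlocks₁₁ g.1.toBlocks₁₂ 0 g.1.toBlocks₂₂ := by
    rw [← hg1, fromBlocks_toBlocks]
  have hdet : g.1.toBlocks₂₂.det = 1 := by
    have := g.2
    rw [hgm, det_fromBlocks_zero₂₁, hg2, one_mul] at this
    exact this
  let A : SpecialLinearGroup m F := ⟨g.1.toBlocks₁₁, hg2⟩
  let D : SpecialLinearGroup n F := ⟨g.1.toBlocks₂₂, hdet⟩
  refine ⟨A, D, (A⁻¹).1 * g.1.toBlocks₁₂ * (D⁻¹).1, ?_⟩
  apply Subtype.ext
  rw [hgm]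
  show _ = fromBlocks A.1 0 0 1 * fromBlocks 1 ((A⁻¹).1 * g.1.toBlocks₁₂ * (D⁻¹).1) 0 1 *
    fromBlocks 1 0 0 D.1
  rw [fromBlocks_multiply, fromBlocks_multiply]
  have hA : A.1 * (A⁻¹).1 = 1 := by rw [← coe_mul, mul_inv_cancel]; rfl
  have hD : (D⁻¹).1 * D.1 = 1 := by rw [← coe_mul, inv_mul_cancel]; rfl
  simp only [Matrix.mul_one, Matrix.mul_zero, add_zero, zero_add, Matrix.zero_mul, Matrix.one_mul]
  congr 1
  rw [← Matrix.mul_assoc, ← Matrix.mul_assoc, hA, Matrix.one_mul, Matrix.mul_assoc, hD,
    Matrix.mul_one]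

/-- BLOCKPERF (1): the block subgroup is generated by its coordinate transvections. -/
theorem blockSub_eq_closure (hm : 2 ≤ Fintype.card m) (hn : 2 ≤ Fintype.card n) :
    blockSub F m n = Subgroup.closure (allowedT F m n) := by
  apply le_antisymm
  · intro g hg
    obtain ⟨A, D, N, rfl⟩ := decomp hg
    exact mul_mem (mul_mem (embL_mem_closure hm A) (uni_mem_closure N)) (embR_mem_closure hn D)
  · rw [Subgroup.closure_le]
    exact allowedT_subset

/-- every allowed transvection is a commutator of two allowed transvections. -/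
theorem allowed_is_commutator (hm : 3 ≤ Fintype.card m) (hn : 3 ≤ Fintype.card n)
    {i j : m ⊕ n} (h : i ≠ j) (c : F) (ha : Allowed i j) :
    ∃ a ∈ allowedT F m n, ∃ b ∈ allowedT F m n, transvection h c = ⁅a, b⁆ := by
  classical
  -- choose a third index k on the side of i (if i is left) or of j (if both right)
  have key : ∃ k : m ⊕ n, k ≠ i ∧ k ≠ j ∧ Allowed i k ∧ Allowed k j := by
    rcases i with i | i
    · -- i left: take k left, different from i and j
      have : ∃ k : m, Sum.inl k ≠ (Sum.inl i : m ⊕ n) ∧ Sum.inl k ≠ j := by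
        by_contra hcon
        push Not at hcon
        have hsub : (Finset.univ : Finset m) ⊆
            ({i} : Finset m) ∪ (Finset.univ.filter (fun k => (Sum.inl k : m ⊕ n) = j)) := by
          intro k _
          by_cases hk : k = i
          · simp [hk]
          · have := hcon k (fun e => hk (Sum.inl.inj e))
            simp [this]
        have hc1 : (Finset.univ.filter (fun k : m => (Sum.inl k : m ⊕ n) = j)).card ≤ 1 := by
          apply Finset.card_le_one.mpr
          intro a ha b hb
          simp only [Finset.mem_filter, Finset.mem_univ, true_and] at ha hb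
          exact Sum.inl.inj (ha.trans hb.symm)
        have := Finset.card_le_card hsub
        have h2 := Finset.card_union_le ({i} : Finset m)
          (Finset.univ.filter (fun k => (Sum.inl k : m ⊕ n) = j))
        rw [Finset.card_univ] at this
        simp only [Finset.card_singleton] at h2
        omega
      obtain ⟨k, hk1, hk2⟩ := this
      exact ⟨Sum.inl k, hk1, hk2, by simp [Allowed], by simp [Allowed]⟩
    · -- i right: then j is right as well
      rcases j with j | j
      · exact absurd ⟨rfl, rfl⟩ ha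
      · have : ∃ k : n, k ≠ i ∧ k ≠ j := by
          by_contra hcon
          push Not at hcon
          have hsub : (Finset.univ : Finset n) ⊆ {i, j} := by
            intro k _
            by_cases hk : k = i
            · simp [hk]
            · simp [hcon k hk]
          have := Finset.card_le_card hsub
          have h2 : ({i, j} : Finset n).card ≤ 2 := Finset.card_le_two
          rw [Finset.card_univ] at this
          omega
        obtain ⟨k, hk1, hk2⟩ := this
        exact ⟨Sum.inr k, fun e => hk1 (Sum.inr.inj e), fun e => hk2 (Sum.inr.inj e),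
          by simp [Allowed], by simp [Allowed]⟩
  obtain ⟨k, hki, hkj, hik, hkj'⟩ := key
  refine ⟨transvection hki.symm c, ⟨_, _, _, c, hik, rfl⟩, transvection hkj 1,
    ⟨_, _, _, 1, hkj', rfl⟩, ?_⟩
  rw [Cfsg.Agent.Lib.Helper4.commutator_transvection h hki.symm hkj c 1, mul_one]

/-- BLOCKPERF (2): every hom from the block subgroup to a commutative group is trivial. -/
theorem hom_trivial (hm : 3 ≤ Fintype.card m) (hn : 3 ≤ Fintype.card n)
    {A : Type*} [CommGroup A] (f : ↥(blockSub F m n) →* A) (g : ↥(blockSub F m n)) :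
    f g = 1 := by
  have hcl := blockSub_eq_closure (F := F) (m := m) (n := n) (by omega) (by omega)
  have key : ∀ x ∈ Subgroup.closure (allowedT F m n), ∀ hx : x ∈ blockSub F m n,
      f ⟨x, hx⟩ = 1 := by
    intro x hx
    induction hx using Subgroup.closure_induction with
    | mem t ht =>
      intro hx
      obtain ⟨i, j, h, c, ha, rfl⟩ := ht
      obtain ⟨a, haT, b, hbT, hab⟩ := allowed_is_commutator hm hn h c ha
      have ha' := allowedT_subset haT
      have hb' := allowedT_subset hbT
      have : (⟨transvection h c, hx⟩ : ↥(blockSub F m n)) =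
          ⁅(⟨a, ha'⟩ : ↥(blockSub F m n)), (⟨b, hb'⟩ : ↥(blockSub F m n))⁆ := by
        apply Subtype.ext
        exact hab
      rw [this, map_commutatorElement]
      exact commutatorElement_eq_one_iff_commute.mpr (Commute.all _ _)
    | one =>
      intro hx
      exact map_one f
    | mul x y _ _ hx hy =>
      intro hxy
      have hx' : x ∈ blockSub F m n := by rw [hcl]; assumption
      have hy' : y ∈ blockSub F m n := by rw [hcl]; assumption
      have : (⟨x * y, hxy⟩ : ↥(blockSub F m n)) = ⟨x, hx'⟩ * ⟨y, hy'⟩ := rfl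
      rw [this, map_mul, hx hx', hy hy', one_mul]
    | inv x _ hx =>
      intro hxi
      have hx' : x ∈ blockSub F m n := by rw [hcl]; assumption
      have : (⟨x⁻¹, hxi⟩ : ↥(blockSub F m n)) = (⟨x, hx'⟩)⁻¹ := rfl
      rw [this, map_inv, hx hx', inv_one]
  exact key g.1 (hcl ▸ g.2) g.2

/-- BLOCKPERF (2'): the block subgroup is perfect. -/
theorem commutator_eq_top (hm : 3 ≤ Fintype.card m) (hn : 3 ≤ Fintype.card n) :
    commutator ↥(blockSub F m n) = ⊤ := by
  rw [eq_top_iff]
  intro g _
  have := hom_trivial hm hn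
    (Abelianization.of : ↥(blockSub F m n) →* Abelianization ↥(blockSub F m n)) g
  rw [← MonoidHom.mem_ker, Abelianization.ker_of] at this
  exact this

end Cfsg.Agent.Lib.Helper6.E6MBlockPerf
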