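import Mathlib

/-! E6M farm (S2340), unit COUNT2: the number of 3 x 3 matrices over a finite field of order `q`
with a fixed 2 x 2 minor nonzero is `q^5 (q^2-1)(q^2-q)`.  Also a general version: for injective
index maps `I : k -> m`, `J : k -> n` the number of `m x n` matrices `A` with
`P (A.submatrix I J)` is `q^(|m||n| - |k|^2)` times the number of `k x k` matrices with `P`. -/

set_option autoImplicit false

namespace Cfsg.Agent.Lib.Helper6.E6MCount2

open Matrix

section general

variable {F : Type*} [Fintype F] [DecidableEq F]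
variable {m n k : Type*} [Fintype m] [Fintype n] [Fintype k] [DecidableEq m] [DecidableEq n]
  [DecidableEq k]

/-- the index embedding `k x k -> m x n`. -/
def idx (I : k → m) (J : k → n) : k × k → m × n := fun p => (I p.1, J p.2)

theorem idx_injective {I : k → m} {J : k → n} (hI : Function.Injective I)
    (hJ : Function.Injective J) : Function.Injective (idx I J) := by
  intro p p' h
  simp only [idx, Prod.mk.injEq] at h
  exact Prod.ext (hI h.1) (hJ h.2)

/-- functions on `m x n` split as functions on the range of `idx` and on its complement. -/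
noncomputable def splitEquiv (I : k → m) (J : k → n) (hI : Function.Injective I)
    (hJ : Function.Injective J) :
    (m × n → F) ≃ (k × k → F) × ({p : m × n // p ∉ Set.range (idx I J)} → F) :=
  (Equiv.piEquivPiSubtypeProd (fun p : m × n => p ∈ Set.range (idx I J)) (fun _ => F)).trans
    (Equiv.prodCongr
      (Equiv.arrowCongr (Equiv.ofInjective (idx I J) (idx_injective hI hJ)).symm (Equiv.refl F))
      (Equiv.refl _))

theorem splitEquiv_fst (I : k → m) (J : k → n) (hI : Function.Injective I)
    (hJ : Function.Injective J) (f : m × n → F) (p : k × k) :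
    (splitEquiv I J hI hJ f).1 p = f (idx I J p) := by
  simp [splitEquiv, Equiv.piEquivPiSubtypeProd, Equiv.arrowCongr]

theorem card_compl_range (I : k → m) (J : k → n) (hI : Function.Injective I)
    (hJ : Function.Injective J) :
    Fintype.card {p : m × n // p ∉ Set.range (idx I J)} =
      Fintype.card m * Fintype.card n - Fintype.card k * Fintype.card k := by
  classical
  rw [Fintype.card_subtype_compl, Fintype.card_prod]
  congr 1
  rw [← Fintype.card_prod]
  exact (Fintype.card_congr (Equiv.ofInjective (idx I J) (idx_injective hI hJ))).symm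

/-- general count. -/
theorem card_submatrix_pred (I : k → m) (J : k → n) (hI : Function.Injective I)
    (hJ : Function.Injective J) (P : Matrix k k F → Prop) [DecidablePred P] :
    Fintype.card {A : Matrix m n F // P (A.submatrix I J)} =
      Fintype.card {B : Matrix k k F // P B} *
        Fintype.card F ^ (Fintype.card m * Fintype.card n - Fintype.card k * Fintype.card k) := by
  classical
  -- curry / uncurry
  let c : Matrix m n F ≃ (m × n → F) :=
    { toFun := fun A p => A p.1 p.2
      invFun := fun f => Matrix.of (fun i j => f (i, j))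
      left_inv := fun A => rfl
      right_inv := fun f => rfl }
  let c' : (k × k → F) ≃ Matrix k k F :=
    { toFun := fun f => Matrix.of (fun i j => f (i, j))
      invFun := fun A p => A p.1 p.2
      left_inv := fun f => rfl
      right_inv := fun A => rfl }
  let e : Matrix m n F ≃ Matrix k k F × ({p : m × n // p ∉ Set.range (idx I J)} → F) :=
    (c.trans (splitEquiv I J hI hJ)).trans (Equiv.prodCongr c' (Equiv.refl _))
  have he : ∀ A : Matrix m n F, (e A).1 = A.submatrix I J := by
    intro A
    ext a b
    show (splitEquiv I J hI hJ (c A)).1 (a, b) = A (I a) (J b)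
    rw [splitEquiv_fst]
    rfl
  have h1 : {A : Matrix m n F // P (A.submatrix I J)} ≃
      {x : Matrix k k F × ({p : m × n // p ∉ Set.range (idx I J)} → F) // P x.1} :=
    e.subtypeEquiv (fun A => by rw [he])
  have h2 : {x : Matrix k k F × ({p : m × n // p ∉ Set.range (idx I J)} → F) // P x.1} ≃
      {B : Matrix k k F // P B} × ({p : m × n // p ∉ Set.range (idx I J)} → F) :=
    { toFun := fun x => (⟨x.1.1, x.2⟩, x.1.2)
      invFun := fun y => ⟨(y.1.1, y.2), y.1.2⟩
      left_inv := fun x => rfl
      right_inv := fun y => rfl }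
  rw [Fintype.card_congr (h1.trans h2), Fintype.card_prod, Fintype.card_fun,
    card_compl_range I J hI hJ]

end general

section field

variable {F : Type*} [Field F] [Fintype F] [DecidableEq F]

/-- invertible 2 x 2 matrices. -/
theorem card_det_ne_zero_two :
    Fintype.card {B : Matrix (Fin 2) (Fin 2) F // B.det ≠ 0} =
      (Fintype.card F ^ 2 - 1) * (Fintype.card F ^ 2 - Fintype.card F) := by
  classical
  have hGL := Matrix.card_GL_field (𝔽 := F) 2
  have e : GL (Fin 2) F ≃ {B : Matrix (Fin 2) (Fin 2) F // B.det ≠ 0} :=
    { toFun := fun g => ⟨g.1, by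
        have := (Matrix.isUnit_iff_isUnit_det g.1).mp g.isUnit
        exact this.ne_zero⟩
      invFun := fun B => Matrix.GeneralLinearGroup.mkOfDetNeZero B.1 B.2
      left_inv := fun g => by
        apply Units.ext
        rfl
      right_inv := fun B => by
        apply Subtype.ext
        rfl }
  rw [← Fintype.card_congr e, ← Nat.card_eq_fintype_card, hGL]
  simp [Fin.prod_univ_two]

/-- COUNT2: a fixed 2 x 2 minor of a 3 x 3 matrix is nonzero. -/
theorem card_minor_ne_zero (i1 i2 j1 j2 : Fin 3) (hi : i1 ≠ i2) (hj : j1 ≠ j2) :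
    Fintype.card {A : Matrix (Fin 3) (Fin 3) F // A i1 j1 * A i2 j2 - A i1 j2 * A i2 j1 ≠ 0} =
      Fintype.card F ^ 5 * (Fintype.card F ^ 2 - 1) * (Fintype.card F ^ 2 - Fintype.card F) := by
  classical
  have hI : Function.Injective (![i1, i2] : Fin 2 → Fin 3) := by
    intro a b h
    fin_cases a <;> fin_cases b <;> simp_all
  have hJ : Function.Injective (![j1, j2] : Fin 2 → Fin 3) := by
    intro a b h
    fin_cases a <;> fin_cases b <;> simp_all
  have h := card_submatrix_pred (F := F) ![i1, i2] ![j1, j2] hI hJ (fun B => B.det ≠ 0)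
  have hcongr : Fintype.card {A : Matrix (Fin 3) (Fin 3) F //
      A i1 j1 * A i2 j2 - A i1 j2 * A i2 j1 ≠ 0} =
      Fintype.card {A : Matrix (Fin 3) (Fin 3) F // (A.submatrix ![i1, i2] ![j1, j2]).det ≠ 0} := by
    refine Fintype.card_congr (Equiv.subtypeEquivRight (fun A => ?_))
    rw [Matrix.det_fin_two]
    simp
  rw [hcongr, h, card_det_ne_zero_two]
  simp only [Fintype.card_fin]
  ring

/-- `Nat.card` form. -/
theorem natCard_minor_ne_zero (i1 i2 j1 j2 : Fin 3) (hi : i1 ≠ i2) (hj : j1 ≠ j2) :
    Nat.card {A : Matrix (Fin 3) (Fin 3) F // A i1 j1 * A i2 j2 - A i1 j2 * A i2 j1 ≠ 0} =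
      Fintype.card F ^ 5 * (Fintype.card F ^ 2 - 1) * (Fintype.card F ^ 2 - Fintype.card F) := by
  classical
  rw [Nat.card_eq_fintype_card]
  exact card_minor_ne_zero i1 i2 j1 j2 hi hj

end field

end Cfsg.Agent.Lib.Helper6.E6MCount2
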