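import Mathlib
import Cfsg.Agent.Lib.Helper5.E6MDefs
import Cfsg.Agent.Lib.Helper2.E6MCell
import Cfsg.Agent.Lib.Helper6.E6MCount2

/-! E6M farm (S2340), unit NPAIR: the number of elements of the cell of `012` with nonzero
`045`-coordinate. -/

set_option autoImplicit false

namespace Cfsg.Agent.Lib.Helper6.E6MNPAIR

open Cfsg.Agent.Lib.Helper5.E6M Matrix

variable {F : Type*} [Field F]

theorem I045_emb (k : Fin 3) : I045.emb k = ![(0 : Fin 6), 4, 5] k := by
  have h := Finset.orderEmbOfFin_unique (s := I045.1) I045.2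
    (f := fun k : Fin 3 => (![(0 : Fin 6), 4, 5] k : Fin 6))
    (by intro x; fin_cases x <;> decide)
    (by intro a b hab; fin_cases a <;> fin_cases b <;> first | exact absurd hab (by decide) | decide)
  exact (congrFun h k).symm

theorem I012_emb' (k : Fin 3) : I012.emb k = ![(0 : Fin 6), 1, 2] k := by
  have h := Finset.orderEmbOfFin_unique (s := I012.1) I012.2
    (f := fun k : Fin 3 => (![(0 : Fin 6), 1, 2] k : Fin 6))
    (by intro x; fin_cases x <;> decide)
    (by intro a b hab; fin_cases a <;> fin_cases b <;> first | exact absurd hab (by decide) | decide)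
  exact (congrFun h k).symm

theorem I012_compl_emb (j : Fin 3) : I012.compl.emb j = ![(3 : Fin 6), 4, 5] j := by
  have h := Finset.orderEmbOfFin_unique (s := I012.compl.1) I012.compl.2
    (f := fun k : Fin 3 => (![(3 : Fin 6), 4, 5] k : Fin 6))
    (by intro x; fin_cases x <;> decide)
    (by intro a b hab; fin_cases a <;> fin_cases b <;> first | exact absurd hab (by decide) | decide)
  exact (congrFun h j).symm

/-- the `045`-coordinate of `pl (cellMat I012 A)` is a `2 × 2` minor of `A`. -/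
theorem pl_cell_045 (A : Matrix (Fin 3) (Fin 3) F) :
    pl (cellMat I012 A) I045 = A 1 1 * A 2 2 - A 1 2 * A 2 1 := by
  have hrow0 : ∀ k', cellMat I012 A (0 : Fin 6) k' = if k' = 0 then 1 else 0 := by
    intro k'
    have := Cfsg.Agent.Lib.Helper2.E6MCell.cellMat_emb I012 A 0 k'
    rw [I012_emb'] at this
    exact this
  have hrow4 : ∀ k', cellMat I012 A (4 : Fin 6) k' = A 1 k' := by
    intro k'
    have := Cfsg.Agent.Lib.Helper2.E6MCell.cellMat_compl_emb I012 A 1 k'
    rw [I012_compl_emb] at this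
    exact this
  have hrow5 : ∀ k', cellMat I012 A (5 : Fin 6) k' = A 2 k' := by
    intro k'
    have := Cfsg.Agent.Lib.Helper2.E6MCell.cellMat_compl_emb I012 A 2 k'
    rw [I012_compl_emb] at this
    exact this
  unfold pl
  rw [det_fin_three]
  simp only [submatrix_apply, id_eq, I045_emb]
  simp only [Matrix.cons_val_zero, Matrix.cons_val_one, Matrix.cons_val_two, Matrix.head_cons,
    Matrix.tail_cons, hrow0, hrow4, hrow5]
  simp

section count

variable [Fintype F] [DecidableEq F]

/-- unit NPAIR. -/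
theorem npair : Nat.card {l : T3 → F // l ∈ Cell I012 ∧ l I045 ≠ 0} =
    (Fintype.card F - 1) * Fintype.card F ^ 5 *
      ((Fintype.card F ^ 2 - 1) * (Fintype.card F ^ 2 - Fintype.card F)) := by
  classical
  -- the parameter space
  let P := {c : F // c ≠ 0} × {A : Matrix (Fin 3) (Fin 3) F // A 1 1 * A 2 2 - A 1 2 * A 2 1 ≠ 0}
  let f : P → {l : T3 → F // l ∈ Cell I012 ∧ l I045 ≠ 0} := fun x =>
    ⟨x.1.1 • pl (cellMat I012 x.2.1), ⟨x.1.1, x.2.1, x.1.2, rfl⟩, by
      rw [Pi.smul_apply, smul_eq_mul, pl_cell_045]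
      exact mul_ne_zero x.1.2 x.2.2⟩
  have hf : Function.Bijective f := by
    constructor
    · rintro ⟨⟨c, hc⟩, ⟨A, hA⟩⟩ ⟨⟨c', hc'⟩, ⟨A', hA'⟩⟩ h
      have h1 : c • pl (cellMat I012 A) = c' • pl (cellMat I012 A') := congrArg Subtype.val h
      obtain ⟨e1, e2⟩ := Cfsg.Agent.Lib.Helper2.E6MCell.cell_param_injective I012 c c' hc A A' h1
      subst e1; subst e2; rfl
    · rintro ⟨l, ⟨c, A, hc, rfl⟩, hl⟩
      rw [Pi.smul_apply, smul_eq_mul, pl_cell_045] at hl
      exact ⟨⟨⟨c, hc⟩, ⟨A, right_ne_zero_of_mul hl⟩⟩, rfl⟩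
  rw [← Nat.card_eq_of_bijective f hf, Nat.card_prod, Nat.card_eq_fintype_card,
    Nat.card_eq_fintype_card,
    Cfsg.Agent.Lib.Helper6.E6MCount2.card_minor_ne_zero (F := F) 1 2 1 2 (by decide) (by decide)]
  have hc : Fintype.card {c : F // c ≠ 0} = Fintype.card F - 1 := by
    rw [Fintype.card_subtype_compl, Fintype.card_subtype_eq]
  rw [hc]
  ring

end count

end Cfsg.Agent.Lib.Helper6.E6MNPAIR
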