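import Mathlib
import Cfsg.Agent.Lib.Helper6.E8CoreADD

set_option autoImplicit false

/-!
# Farm E8CORE (S5751), unit ADD, second part : the additive entries in `ite` form
-/

namespace Cfsg.Agent.Lib.Helper6.E8Core

open Cfsg Cfsg.Lie Cfsg.Agent.Lib.Helper5.ChevStruct Cfsg.Agent.Lib.Helper5.ChevSym
  Cfsg.Agent.Lib.Helper8.E8Core

theorem filter_sum_eq_ite_sum (ρ : ℕ) (w : List (ℕ × F2)) :
    ((w.filter fun p => p.1 = ρ).map Prod.snd).sum
      = (w.map fun p => if p.1 = ρ then p.2 else 0).sum := by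
  induction w with
  | nil => simp
  | cons p w ih =>
    by_cases hp : p.1 = ρ
    · rw [List.filter_cons_of_pos (by simpa using hp), List.map_cons, List.sum_cons, List.map_cons,
        List.sum_cons, if_pos hp, ih]
    · rw [List.filter_cons_of_neg (by simpa using hp), List.map_cons, List.sum_cons, if_neg hp,
        zero_add, ih]

theorem ADD_word_entry_ite (m : ℤ) (hm : 1 ≤ m) (w : List (ℕ × F2))
    (hw : ∀ p ∈ w, p.1 < chevE8.nroots ∧ (p.2 = 0 ∨ m ≤ lev p.1))
    (ρ : ℕ) (hρ : ρ < chevE8.nroots) (hρm : lev ρ = m) (nρ : Fin chevE8.nroots)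
    (hn : nρ.val = chevE8.neg ρ) (i : Fin chevE8.rank) :
    chevE8.wordMat F2 w (Sum.inl i) (Sum.inr nρ)
      = (((chevE8.coroot.getD ρ #[]).getD i.val 0 : ℤ) : F2)
        * (w.map fun p => if p.1 = ρ then p.2 else 0).sum := by
  rw [ADD_word_entry m hm w hw ρ hρ hρm nρ hn i, filter_sum_eq_ite_sum]

/-- the level of the opposite root -/
theorem lev_neg (r : ℕ) (hr : r < chevE8.nroots) : lev (chevE8.neg r) = - lev r := by
  have := lvlJ_neg chevE8 rlOne lvlOK_E8 JN r hr
  rwa [lvlJ_eq_lev, lvlJ_eq_lev] at this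

end Cfsg.Agent.Lib.Helper6.E8Core
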