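import Mathlib
import Cfsg.Agent.Lib.Helper6.E8CoreADD2

set_option autoImplicit false

/-!
# Farm E8CORE (S5751), unit PSI : an element of the unipotent radical `U_J` has no factor of
level `0` in its canonical product

The block diagonal part `dg` (with respect to the level) is multiplicative on matrices that do not
lower the level; it kills the root elements of positive level and fixes those of level `0`.
-/

namespace Cfsg.Agent.Lib.Helper6.E8Core

open Cfsg Cfsg.Lie Cfsg.Agent.Lib.Helper5.ChevStruct Cfsg.Agent.Lib.Helper5.ChevSym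
  Cfsg.Agent.Lib.Helper5.BlockGrade Cfsg.Agent.Lib.Helper8.E8Core

/-- the block diagonal part -/
def dg (M : Matrix chevE8.Idx chevE8.Idx F2) : Matrix chevE8.Idx chevE8.Idx F2 :=
  Matrix.of fun a b => if idxLev a = idxLev b then M a b else 0

/-- `M` does not lower the level -/
def WU (M : Matrix chevE8.Idx chevE8.Idx F2) : Prop := ∀ a b, M a b ≠ 0 → idxLev b ≤ idxLev a

theorem wu_of_blockUpK (M : Matrix chevE8.Idx chevE8.Idx F2) (h : BlockUpK 0 M) : WU M := by
  intro a b hab
  by_cases e : a = b
  · rw [e]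
  · have : (M - 1) a b ≠ 0 := by
      rw [Matrix.sub_apply, Matrix.one_apply_ne e, sub_zero]
      exact hab
    have := h a b this
    omega

theorem wu_mul (M N : Matrix chevE8.Idx chevE8.Idx F2) (hM : WU M) (hN : WU N) : WU (M * N) := by
  intro a b hab
  rw [Matrix.mul_apply] at hab
  obtain ⟨c, -, hc⟩ := Finset.exists_ne_zero_of_sum_ne_zero hab
  have h1 := hM a c (left_ne_zero_of_mul hc)
  have h2 := hN c b (right_ne_zero_of_mul hc)
  omega

theorem dg_apply (M : Matrix chevE8.Idx chevE8.Idx F2) (a b : chevE8.Idx) :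
    dg M a b = if idxLev a = idxLev b then M a b else 0 := rfl

theorem dg_mul (M N : Matrix chevE8.Idx chevE8.Idx F2) (hM : WU M) (hN : WU N) :
    dg (M * N) = dg M * dg N := by
  ext a b
  rw [dg_apply, Matrix.mul_apply, Matrix.mul_apply]
  by_cases hab : idxLev a = idxLev b
  · rw [if_pos hab]
    apply Finset.sum_congr rfl
    intro c _
    rw [dg_apply, dg_apply]
    by_cases hac : idxLev a = idxLev c
    · rw [if_pos hac, if_pos (hac.symm.trans hab)]
    · rw [if_neg hac, zero_mul]
      by_contra hne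
      have h1 := hM a c (left_ne_zero_of_mul hne)
      have h2 := hN c b (right_ne_zero_of_mul hne)
      omega
  · rw [if_neg hab]
    symm
    apply Finset.sum_eq_zero
    intro c _
    rw [dg_apply, dg_apply]
    by_cases hac : idxLev a = idxLev c
    · have hcb : ¬ idxLev c = idxLev b := fun h => hab (hac.trans h)
      rw [if_neg hcb, mul_zero]
    · rw [if_neg hac, zero_mul]

theorem dg_one : dg 1 = 1 := by
  ext a b
  rw [dg_apply]
  by_cases hab : a = b
  · rw [hab, if_pos rfl]
  · rw [Matrix.one_apply_ne hab]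
    split_ifs <;> rfl

/-- a positive root has level at least `0` -/
theorem lev_nonneg (r : ℕ) (hr : chevE8.IsPosRoot r) : 0 ≤ lev r := by
  by_cases h : chevE8.InRootSub JN r
  · have := lvlJ_eq_zero chevE8 rlOne JN r h
    rw [lvlJ_eq_lev] at this
    omega
  · have := lvlJ_pos chevE8 hE8 rlOne lvlOK_E8 JN r ⟨hr, h⟩
    rw [lvlJ_eq_lev] at this
    omega

theorem dg_x_pos (r : ℕ) (hr : r < chevE8.nroots) (t : F2) (h : 1 ≤ lev r) :
    dg (chevE8.x F2 r t) = 1 := by
  rw [← dg_one]
  ext a b
  rw [dg_apply, dg_apply]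
  by_cases hab : idxLev a = idxLev b
  · rw [if_pos hab, if_pos hab]
    by_contra hne
    have hne' : (chevE8.x F2 r t - 1) a b ≠ 0 := by
      rw [Matrix.sub_apply]
      exact sub_ne_zero.2 hne
    obtain ⟨i, hi, e⟩ := x_sub_one_lev r hr t a b hne'
    have hi' : (1 : ℤ) ≤ (i : ℤ) := by exact_mod_cast hi
    have : 0 < (i : ℤ) * lev r := by nlinarith
    omega
  · rw [if_neg hab, if_neg hab]

theorem dg_x_zero (r : ℕ) (hr : r < chevE8.nroots) (t : F2) (h : lev r = 0) :
    dg (chevE8.x F2 r t) = chevE8.x F2 r t := by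
  ext a b
  rw [dg_apply]
  by_cases hab : idxLev a = idxLev b
  · rw [if_pos hab]
  · rw [if_neg hab]
    by_contra hne
    have hab' : a ≠ b := fun e => hab (by rw [e])
    have hne' : (chevE8.x F2 r t - 1) a b ≠ 0 := by
      rw [Matrix.sub_apply, Matrix.one_apply_ne hab', sub_zero]
      exact fun e => hne e.symm
    obtain ⟨i, hi, e⟩ := x_sub_one_lev r hr t a b hne'
    rw [h, mul_zero, add_zero] at e
    exact hab e

/-- the block diagonal part of a word of positive root elements -/
theorem dg_word (w : List (ℕ × F2)) (hw : ∀ p ∈ w, chevE8.IsPosRoot p.1) :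
    dg (chevE8.wordMat F2 w)
      = chevE8.wordMat F2 (w.map fun p => (p.1, if lev p.1 = 0 then p.2 else 0)) := by
  induction w with
  | nil =>
    have : chevE8.wordMat F2 [] = 1 := by simp [ChevalleyDatum.wordMat]
    rw [List.map_nil, this, dg_one]
  | cons p w ih =>
    have hp := hw p List.mem_cons_self
    have hw' : ∀ q ∈ w, chevE8.IsPosRoot q.1 := fun q hq => hw q (List.mem_cons_of_mem _ hq)
    have h0 := lev_nonneg p.1 hp
    rw [List.map_cons, wordMat_cons', wordMat_cons']
    have hX : WU (chevE8.x F2 p.1 p.2) :=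
      wu_of_blockUpK _ (blockUpK_x 0 le_rfl p.1 hp.1 p.2 (Or.inr h0))
    have hW : WU (chevE8.wordMat F2 w) :=
      wu_of_blockUpK _ (ADD_word_blockUp 0 le_rfl w
        fun q hq => ⟨(hw' q hq).1, Or.inr (lev_nonneg q.1 (hw' q hq))⟩)
    rw [dg_mul _ _ hX hW, ih hw']
    by_cases hl : lev p.1 = 0
    · rw [if_pos hl, dg_x_zero p.1 hp.1 p.2 hl]
    · rw [if_neg hl, dg_x_pos p.1 hp.1 p.2 (by omega), x_at_zero]

/-- the block diagonal part of an element of the unipotent radical is trivial -/
theorem dg_of_mem_radical (y : GL chevE8.Idx F2) (hy : y ∈ chevE8.unipotentRadical F2 JN) :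
    dg (y : Matrix chevE8.Idx chevE8.Idx F2) = 1 := by
  have h := (unipotentRadical_le_blockUpSub chevE8 hE8 rlOne lvlOK_E8 JN hy).1
  rw [← dg_one]
  ext a b
  rw [dg_apply, dg_apply]
  by_cases hab : idxLev a = idxLev b
  · rw [if_pos hab, if_pos hab]
    by_contra hne
    have hne' : ((y : Matrix chevE8.Idx chevE8.Idx F2) - 1) a b ≠ 0 := by
      rw [Matrix.sub_apply]
      exact sub_ne_zero.2 hne
    have := h a b hne'
    rw [idxLvl_eq_idxLev, idxLvl_eq_idxLev] at this
    omega
  · rw [if_neg hab, if_neg hab]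

theorem mem_posRoots_iff (r : ℕ) : r ∈ chevE8.posRoots ↔ chevE8.IsPosRoot r := by
  unfold ChevalleyDatum.posRoots
  rw [List.mem_filter, List.mem_range, decide_eq_true_eq]
  exact ⟨fun h => h.2, fun h => ⟨h.1, h⟩⟩

/-- **unit PSI of the farm E8CORE** -/
theorem PSI_QQ_zero (y : GL chevE8.Idx F2) (hy : y ∈ chevE8.unipotentRadical F2 JN) :
    QQ 0 y := by
  have hyU : y ∈ chevE8.posUnipotent F2 := by
    revert hy y
    show chevE8.unipotentRadical F2 JN ≤ chevE8.posUnipotent F2
    unfold ChevalleyDatum.unipotentRadical ChevalleyDatum.posUnipotent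
    apply Subgroup.closure_mono
    rintro g ⟨r, t, hp, -, hg⟩
    exact ⟨r, t, hp, hg⟩
  obtain ⟨huniq, -⟩ := pos_unique_product (F := F2) chevE8 hE8
  obtain ⟨t, ⟨ht0, hty⟩, -⟩ := huniq y hyU
  -- the block diagonal part
  have h1 := dg_of_mem_radical y hy
  rw [hty, dg_word _ (by
    intro p hp
    rw [List.mem_map] at hp
    obtain ⟨r, hr, rfl⟩ := hp
    exact (mem_posRoots_iff r).1 hr), List.map_map] at h1
  -- uniqueness of the canonical word of `1`
  obtain ⟨t1, -, huq⟩ := huniq 1 (one_mem _)
  have e1 : (fun r => if lev r = 0 then t r else (0 : F2)) = t1 := by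
    apply huq
    refine ⟨fun r hr => ?_, ?_⟩
    · show (if lev r = 0 then t r else (0 : F2)) = 0
      rw [ht0 r hr]
      split_ifs <;> rfl
    · rw [Units.val_one, ← h1]
      rfl
  have e2 : (fun _ : ℕ => (0 : F2)) = t1 := by
    apply huq
    refine ⟨fun r _ => rfl, ?_⟩
    rw [Units.val_one]
    symm
    have : ∀ L : List ℕ, chevE8.wordMat F2 (L.map fun r => (r, (0 : F2))) = 1 := by
      intro L
      induction L with
      | nil => simp [ChevalleyDatum.wordMat]
      | cons r L ih => rw [List.map_cons, wordMat_cons', ih, x_at_zero, one_mul]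
    exact this _
  refine ⟨t, ht0, fun r hr => ?_, hty⟩
  by_cases hp : chevE8.IsPosRoot r
  · have h0 := lev_nonneg r hp
    have hl : lev r = 0 := by omega
    have := congrFun (e1.trans e2.symm) r
    simp only [if_pos hl] at this
    exact this
  · exact ht0 r hp

end Cfsg.Agent.Lib.Helper6.E8Core
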