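import Mathlib
import Cfsg.Agent.Lib.Helper6.E8CorePSI
import Cfsg.Agent.Lib.Helper6.F4EvA1
import Cfsg.Agent.Lib.Helper9.InvFrameB
import Cfsg.Agent.Lib.Helper5.ChevDiag
import Cfsg.Agent.Lib.Helper5.ChevBnB

set_option autoImplicit false

/-!
# Farm E8CORE (S5751), last step of unit UP0 : an element `y` of `U` whose conjugate by the longest
element of `W_J` is again in `U` lies in the unipotent radical `U_J`

(The block diagonal part of `n y n⁻¹` is `n · dg(y) · n⁻¹`; it lies in `U ∩ V = 1`.)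
-/

namespace Cfsg.Agent.Lib.Helper6.E8Core

open Cfsg Cfsg.Lie Cfsg.Agent.Lib.Helper5.ChevStruct Cfsg.Agent.Lib.Helper5.ChevSym
  Cfsg.Agent.Lib.Helper5.BlockGrade Cfsg.Agent.Lib.Helper8.E8Core Cfsg.Agent.Lib.Helper6.F4Ev
  Cfsg.Agent.Lib.Helper9.InvFrame

/-- the longest word of `W_J` (`J` = all nodes but the branch node; type `A₂ × A₁ × A₄`) -/
def w0J : List ℕ := [0, 2, 0, 1, 4, 5, 4, 6, 5, 4, 7, 6, 5, 4]

theorem w0J_jword : JWord w0J := by
  intro i hi
  simp only [w0J, List.mem_cons, List.not_mem_nil, or_false] at hi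
  rcases hi with rfl | rfl | rfl | rfl | rfl | rfl | rfl | rfl | rfl | rfl | rfl | rfl | rfl | rfl <;>
    exact ⟨by decide, by decide⟩

theorem jword_wd (w : List ℕ) (hw : JWord w) : Wd chevE8 w := fun i hi => (hw i hi).1

set_option maxRecDepth 1000000 in
theorem w0J_negC : ∀ r < 240, decide (chevE8.IsPosRoot r) = true → lev r = 0 →
    decide (chevE8.IsNegRoot (wActC chevE8 w0J r)) = true := by decide +kernel

theorem w0J_neg (r : ℕ) (hr : chevE8.IsPosRoot r) (h0 : lev r = 0) :
    chevE8.IsNegRoot (wAct chevE8 w0J r) := by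
  have := w0J_negC r hr.1 (decide_eq_true hr) h0
  rw [wActC_eq] at this
  exact of_decide_eq_true this

set_option maxRecDepth 1000000 in
theorem lev_simple_J : ∀ i < 8, i ≠ node → lev (chevE8.simple i) = 0 := by decide +kernel

/-- the root elements of level `0` are block diagonal -/
theorem wu_x_zero (r : ℕ) (hr : r < chevE8.nroots) (t : F2) (h : lev r = 0) :
    WU (chevE8.x F2 r t) :=
  wu_of_blockUpK _ (blockUpK_x 0 le_rfl r hr t (Or.inr (by omega)))

theorem simple_lt (i : ℕ) (hi : i < chevE8.rank) : chevE8.simple i < chevE8.nroots :=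
  Cfsg.Agent.Lib.Helper5.ChevStruct.simple_lt chevE8 hE8 i hi

/-- `n_i`, `i ≠` the branch node, does not lower the level and is its own block diagonal part -/
theorem nGL_J (i : ℕ) (hi : i < chevE8.rank) (hin : i ≠ node) :
    WU ((nGL chevE8 hE8 i : GL chevE8.Idx F2) : Matrix chevE8.Idx chevE8.Idx F2) ∧
    dg ((nGL chevE8 hE8 i : GL chevE8.Idx F2) : Matrix chevE8.Idx chevE8.Idx F2)
      = ((nGL chevE8 hE8 i : GL chevE8.Idx F2) : Matrix chevE8.Idx chevE8.Idx F2) := by
  have hs := simple_lt i hi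
  have hl : lev (chevE8.simple i) = 0 := lev_simple_J i hi hin
  have hn := (neg_lt chevE8 hE8 _ hs).1
  have hln : lev (chevE8.neg (chevE8.simple i)) = 0 := by rw [lev_neg _ hs, hl, neg_zero]
  have e : ((nGL chevE8 hE8 i : GL chevE8.Idx F2) : Matrix chevE8.Idx chevE8.Idx F2)
      = chevE8.x F2 (chevE8.simple i) 1 * (chevE8.x F2 (chevE8.neg (chevE8.simple i)) (-(1 : F2)⁻¹)
        * (chevE8.x F2 (chevE8.simple i) 1 * 1)) := by
    rw [nGL_val]
    unfold ChevalleyDatum.nMat ChevalleyDatum.nWord ChevalleyDatum.wordMat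
    simp only [List.map_cons, List.map_nil, List.prod_cons, List.prod_nil]
  have w1 := wu_x_zero _ hs (1 : F2) hl
  have w2 := wu_x_zero _ hn (-(1 : F2)⁻¹) hln
  have w3 : WU (chevE8.x F2 (chevE8.simple i) 1 * 1) := by rw [mul_one]; exact w1
  have w23 := wu_mul _ _ w2 w3
  refine ⟨by rw [e]; exact wu_mul _ _ w1 w23, ?_⟩
  rw [e, dg_mul _ _ w1 w23, dg_mul _ _ w2 w3, mul_one, dg_x_zero _ hs _ hl, dg_x_zero _ hn _ hln]

theorem wGL_J (w : List ℕ) (hw : JWord w) :
    WU ((wGL chevE8 hE8 w : GL chevE8.Idx F2) : Matrix chevE8.Idx chevE8.Idx F2) ∧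
    dg ((wGL chevE8 hE8 w : GL chevE8.Idx F2) : Matrix chevE8.Idx chevE8.Idx F2)
      = ((wGL chevE8 hE8 w : GL chevE8.Idx F2) : Matrix chevE8.Idx chevE8.Idx F2) := by
  induction w with
  | nil =>
    have : (wGL chevE8 hE8 [] : GL chevE8.Idx F2) = 1 := wGL_nil chevE8 hE8
    rw [this, Units.val_one]
    exact ⟨wu_of_blockUpK _ (blockUpK_one 0), dg_one⟩
  | cons i w ih =>
    have hi := hw i List.mem_cons_self
    have hw' : JWord w := fun j hj => hw j (List.mem_cons_of_mem _ hj)
    obtain ⟨a1, a2⟩ := nGL_J i hi.1 hi.2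
    obtain ⟨b1, b2⟩ := ih hw'
    have e : (wGL chevE8 hE8 (i :: w) : GL chevE8.Idx F2)
        = nGL chevE8 hE8 i * wGL chevE8 hE8 w := by
      unfold wGL
      rw [List.map_cons, List.prod_cons]
    rw [e, Units.val_mul]
    exact ⟨wu_mul _ _ a1 b1, by rw [dg_mul _ _ a1 b1, a2, b2]⟩

/-- a word of positive root elements does not lower the level -/
theorem wu_word (w : List (ℕ × F2)) (hw : ∀ p ∈ w, chevE8.IsPosRoot p.1) :
    WU (chevE8.wordMat F2 w) :=
  wu_of_blockUpK _ (ADD_word_blockUp 0 le_rfl w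
    fun q hq => ⟨(hw q hq).1, Or.inr (lev_nonneg q.1 (hw q hq))⟩)

theorem posWord (t : ℕ → F2) :
    ∀ p ∈ chevE8.posRoots.map (fun r => (r, t r)), chevE8.IsPosRoot p.1 := by
  intro p hp
  rw [List.mem_map] at hp
  obtain ⟨r, hr, rfl⟩ := hp
  exact (mem_posRoots_iff r).1 hr

theorem wordGL_cons'' (p : ℕ × F2) (w : List (ℕ × F2)) :
    wordGL chevE8 hE8 (p :: w) = xGL chevE8 hE8 p.1 p.2 * wordGL chevE8 hE8 w := by
  unfold wordGL
  rw [List.map_cons, List.prod_cons]

theorem wordGL_pos_mem (w : List (ℕ × F2)) (hw : ∀ p ∈ w, chevE8.IsPosRoot p.1) :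
    wordGL chevE8 hE8 w ∈ chevE8.posUnipotent F2 := by
  induction w with
  | nil => exact one_mem _
  | cons p w ih =>
    rw [wordGL_cons'']
    refine mul_mem ?_ (ih fun q hq => hw q (List.mem_cons_of_mem _ hq))
    exact Subgroup.subset_closure ⟨p.1, p.2, hw p List.mem_cons_self, rfl⟩

/-- the conjugate by `n_w` of a word of positive root elements of level `0` is in `V`, if `w` makes
all positive roots of level `0` negative -/
theorem conj_word_mem_neg (w : List ℕ) (hw : JWord w)
    (hneg : ∀ r, chevE8.IsPosRoot r → lev r = 0 → chevE8.IsNegRoot (wAct chevE8 w r))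
    (t : ℕ → F2) (l : List ℕ) (hl : ∀ r ∈ l, chevE8.IsPosRoot r) :
    wGL chevE8 hE8 w * wordGL chevE8 hE8 (l.map fun r => (r, if lev r = 0 then t r else 0))
      * (wGL chevE8 hE8 w)⁻¹ ∈ chevE8.negUnipotent F2 := by
  induction l with
  | nil =>
    have : wordGL chevE8 hE8 ([] : List (ℕ × F2)) = 1 := rfl
    rw [List.map_nil, this, mul_one, mul_inv_cancel]
    exact one_mem _
  | cons r l ih =>
    rw [List.map_cons, wordGL_cons'']
    have hr := hl r List.mem_cons_self
    have e : ∀ n a b : GL chevE8.Idx F2, n * (a * b) * n⁻¹ = (n * a * n⁻¹) * (n * b * n⁻¹) := by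
      intro n a b
      group
    rw [e]
    refine mul_mem ?_ (ih fun q hq => hl q (List.mem_cons_of_mem _ hq))
    dsimp only
    rw [wGL_conj_char2 chevE8 hE8 w (jword_wd _ hw) r hr.1]
    by_cases h0 : lev r = 0
    · exact Subgroup.subset_closure ⟨_, _, hneg r hr h0, rfl⟩
    · rw [if_neg h0]
      have : xGL chevE8 hE8 (wAct chevE8 w r) (0 : F2) = 1 := by
        apply Units.ext
        rw [xGL_val, x_at_zero, Units.val_one]
      rw [this]
      exact one_mem _

theorem hE8' : chevE8 ∈ SevenTypes := by simp [SevenTypes]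

/-- **the last step of UP0**, for a general word `w` of `W_J` making the positive roots of level `0`
negative -/
theorem mem_radical_of_conj_gen (w : List ℕ) (hw : JWord w)
    (hneg : ∀ r, chevE8.IsPosRoot r → lev r = 0 → chevE8.IsNegRoot (wAct chevE8 w r))
    (y : GL chevE8.Idx F2) (hy : y ∈ chevE8.posUnipotent F2)
    (hc : wGL chevE8 hE8 w * y * (wGL chevE8 hE8 w)⁻¹ ∈ chevE8.posUnipotent F2) :
    y ∈ chevE8.unipotentRadical F2 JN := by
  obtain ⟨huniq, -⟩ := pos_unique_product (F := F2) chevE8 hE8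
  obtain ⟨t, ⟨ht0, hty⟩, -⟩ := huniq y hy
  obtain ⟨t2, ⟨-, htz⟩, -⟩ := huniq _ hc
  obtain ⟨n, hn⟩ : ∃ n : GL chevE8.Idx F2, n = wGL chevE8 hE8 w := ⟨_, rfl⟩
  rw [← hn] at hc htz
  -- block diagonal parts
  obtain ⟨n1, n2⟩ := wGL_J w hw
  rw [← hn] at n1 n2
  have hinv : n⁻¹ = wGL chevE8 hE8 w.reverse := by
    rw [hn]
    exact wGL_reverse_char2 (F := F2) chevE8 hE8 w (jword_wd _ hw)
  have hrev : JWord w.reverse := fun i hi => hw i (List.mem_reverse.1 hi)
  obtain ⟨m1, m2⟩ := wGL_J w.reverse hrev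
  rw [← hinv] at m1 m2
  have wy : WU (y : Matrix chevE8.Idx chevE8.Idx F2) := by rw [hty]; exact wu_word _ (posWord t)
  have hdz : dg ((n * y * n⁻¹ : GL chevE8.Idx F2) : Matrix chevE8.Idx chevE8.Idx F2)
      = (n : Matrix chevE8.Idx chevE8.Idx F2) * dg (y : Matrix chevE8.Idx chevE8.Idx F2)
        * ((n⁻¹ : GL chevE8.Idx F2) : Matrix chevE8.Idx chevE8.Idx F2) := by
    rw [Units.val_mul, Units.val_mul, dg_mul _ _ (wu_mul _ _ n1 wy) m1, dg_mul _ _ n1 wy, n2, m2]
  -- the level-0 part of `y` as an element of `GL`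
  set L : GL chevE8.Idx F2 :=
    wordGL chevE8 hE8 (chevE8.posRoots.map fun r => (r, if lev r = 0 then t r else 0)) with hL
  have hLval : (L : Matrix chevE8.Idx chevE8.Idx F2) = dg (y : Matrix chevE8.Idx chevE8.Idx F2) := by
    rw [hL, wordGL_val, hty, dg_word _ (posWord t), List.map_map]
    rfl
  -- `n L n⁻¹` is in `U`
  have hU : n * L * n⁻¹ ∈ chevE8.posUnipotent F2 := by
    have e : n * L * n⁻¹ = wordGL chevE8 hE8
        (chevE8.posRoots.map fun r => (r, if lev r = 0 then t2 r else 0)) := by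
      apply Units.ext
      rw [Units.val_mul, Units.val_mul, hLval, ← hdz, htz, dg_word _ (posWord t2), List.map_map,
        wordGL_val]
      rfl
    rw [e]
    exact wordGL_pos_mem _ (posWord _)
  -- and in `V`
  have hV : n * L * n⁻¹ ∈ chevE8.negUnipotent F2 := by
    rw [hn, hL]
    exact conj_word_mem_neg w hw hneg t chevE8.posRoots fun r hr => (mem_posRoots_iff r).1 hr
  have h1 : n * L * n⁻¹ = 1 := by
    have : n * L * n⁻¹ ∈ chevE8.borelSubgroup F2 ⊓ chevE8.negUnipotent F2 :=
      ⟨pos_le_borel chevE8 hU, hV⟩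
    rw [borel_inf_neg chevE8 hE8'] at this
    exact this
  have hL1 : L = 1 := by
    have : L = n⁻¹ * (n * L * n⁻¹) * n := by group
    rw [this, h1]
    group
  -- uniqueness of the canonical word of `1`
  obtain ⟨t1, -, huq⟩ := huniq 1 (one_mem _)
  have e1 : (fun r => if lev r = 0 then t r else (0 : F2)) = t1 := by
    apply huq
    refine ⟨fun r hr => ?_, ?_⟩
    · show (if lev r = 0 then t r else (0 : F2)) = 0
      rw [ht0 r hr]
      split_ifs <;> rfl
    · rw [← hL1, hL, wordGL_val]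
  have e2 : (fun _ : ℕ => (0 : F2)) = t1 := by
    apply huq
    refine ⟨fun r _ => rfl, ?_⟩
    rw [Units.val_one]
    symm
    have : ∀ l : List ℕ, chevE8.wordMat F2 (l.map fun r => (r, (0 : F2))) = 1 := by
      intro l
      induction l with
      | nil => simp [ChevalleyDatum.wordMat]
      | cons r l ih => rw [List.map_cons, wordMat_cons', ih, x_at_zero, one_mul]
    exact this _
  have hzero : ∀ r, lev r = 0 → t r = 0 := by
    intro r hl
    have := congrFun (e1.trans e2.symm) r
    simp only [if_pos hl] at this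
    exact this
  -- `y` is a product of root elements of positive level
  have hyw : y = wordGL chevE8 hE8 (chevE8.posRoots.map fun r => (r, t r)) := by
    apply Units.ext
    rw [hty, wordGL_val]
  rw [hyw]
  have : ∀ l : List ℕ, (∀ r ∈ l, chevE8.IsPosRoot r) →
      wordGL chevE8 hE8 (l.map fun r => (r, t r)) ∈ chevE8.unipotentRadical F2 JN := by
    intro l hl
    induction l with
    | nil => exact one_mem _
    | cons r l ih =>
      rw [List.map_cons, wordGL_cons'']
      refine mul_mem ?_ (ih fun q hq => hl q (List.mem_cons_of_mem _ hq))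
      have hr := hl r List.mem_cons_self
      by_cases h0 : lev r = 0
      · show xGL chevE8 hE8 r (t r) ∈ _
        rw [hzero r h0]
        have : xGL chevE8 hE8 r (0 : F2) = 1 := by
          apply Units.ext
          rw [xGL_val, x_at_zero, Units.val_one]
        rw [this]
        exact one_mem _
      · refine Subgroup.subset_closure ⟨r, t r, hr, ?_, rfl⟩
        intro hin
        apply h0
        have := lvlJ_eq_zero chevE8 rlOne JN r hin
        rwa [lvlJ_eq_lev] at this
  exact this _ fun r hr => (mem_posRoots_iff r).1 hr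

/-- **the last step of UP0** : an element `y` of `U` whose conjugate by `n_{w₀(J)}` is again in `U`
lies in the unipotent radical `U_J` -/
theorem mem_radical_of_conj (y : GL chevE8.Idx F2) (hy : y ∈ chevE8.posUnipotent F2)
    (hc : wGL chevE8 hE8 w0J * y * (wGL chevE8 hE8 w0J)⁻¹ ∈ chevE8.posUnipotent F2) :
    y ∈ chevE8.unipotentRadical F2 JN :=
  mem_radical_of_conj_gen w0J w0J_jword w0J_neg y hy hc

end Cfsg.Agent.Lib.Helper6.E8Core
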