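import Mathlib
import Cfsg.Agent.Lib.Helper6.E8EvData
import Cfsg.Agent.Lib.Helper9.InvFrameB
import Cfsg.Agent.Lib.Helper7.E7EvD

set_option autoImplicit false

/-!
# Farm E8EV (S2176), unit E : fusion of the nine frame representatives of `W(E₈)`

In characteristic two, for each of the nine class representatives `rep_j` (products of the
reflections in `k` pairwise orthogonal roots, `k = 1, …, 8`, two classes for `k = 4`) the element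
`n_{rep_j}` is conjugate in the group to the product of the `x_b(1)` over the frame
(`Helper9.InvFrame.conjG_fw`), and the frames with more than four roots (and the frame `4A₁'`) are
reduced by `D₄`-drops (`Helper7.E7Ev.drop_of_cols`) to the four products of the statement.
-/

namespace Cfsg.Agent.Lib.Helper6.E8Ev

open Cfsg Cfsg.Lie Cfsg.Agent.Lib.Helper5.ChevSym Cfsg.Agent.Lib.Helper5.ChevSymP
  Cfsg.Agent.Lib.Helper5.ChevStruct Cfsg.Agent.Lib.Helper6.EvFuse Cfsg.Agent.Lib.Helper6.F4Ev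
  Cfsg.Agent.Lib.Helper9.InvFrame Cfsg.Agent.Lib.Helper7.E7Ev

variable {F : Type*} [Field F]

/-- the nine class representatives (reduced words), as in `tools/helper8/e8ev_data.md` [C] -/
def repE8h : List (List ℕ) :=
  [[7, 6, 5, 4, 3, 2, 1, 3, 4, 5, 6, 0, 2, 3, 4, 5, 1, 3, 4, 2, 3, 0, 2, 1, 3, 4, 5, 6, 7, 6, 5, 4, 3, 2, 1, 3, 4, 5, 6, 0, 2, 3, 4, 5, 1, 3, 4, 2, 3, 0, 2, 1, 3, 4, 5, 6, 7],
   [0, 2, 3, 4, 5, 1, 3, 4, 2, 3, 0, 2, 1, 3, 4, 5, 6, 7, 5, 4, 3, 2, 1, 3, 4, 5, 6, 0, 2, 3, 4, 5, 1, 3, 4, 2, 3, 0, 2, 1, 3, 4, 5, 6, 7, 0, 2, 3, 4, 5, 1, 3, 4, 2, 3, 0, 2, 1, 3, 4, 5, 6, 5, 4, 3, 2, 1, 3, 4, 5, 0, 2, 3, 4, 1, 3, 2, 0],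
   [6, 5, 4, 3, 2, 1, 3, 4, 5, 6, 0, 2, 3, 4, 5, 1, 3, 4, 2, 3, 0, 2, 1, 3, 4, 5, 6, 7, 6, 5, 4, 3, 2, 1, 3, 4, 5, 6, 0, 2, 3, 4, 5, 1, 3, 4, 2, 3, 0, 2, 1, 3, 4, 5, 6, 7, 6, 5, 4, 3, 2, 1, 3, 4, 5, 6, 0, 2, 3, 4, 5, 1, 3, 4, 2, 3, 0, 2, 1, 3, 4, 5, 6],
   [7, 6, 5, 4, 3, 2, 1, 3, 4, 5, 6, 0, 2, 3, 4, 5, 1, 3, 4, 2, 3, 0, 2, 1, 3, 4, 5, 6, 7, 6, 5, 4, 3, 2, 1, 3, 4, 5, 6, 0, 2, 3, 4, 5, 1, 3, 4, 2, 3, 0, 2, 1, 3, 4, 5, 6, 7, 6, 5, 4, 3, 2, 1, 3, 4, 5, 6, 0, 2, 3, 4, 5, 1, 3, 4, 2, 3, 0, 2, 1, 3, 4, 5, 6],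
   [1, 3, 4, 5, 6, 2, 3, 4, 5, 1, 3, 4, 2, 3, 0, 2, 1, 3, 4, 5, 6, 7, 6, 5, 4, 3, 2, 1, 3, 4, 5, 6, 0, 2, 3, 4, 5, 1, 3, 4, 2, 3, 0, 2, 1, 3, 4, 5, 6, 7, 1, 3, 4, 5, 6, 2, 3, 4, 5, 1, 3, 4, 2, 3, 0, 2, 1, 3, 4, 5, 6, 1, 3, 4, 2, 3, 0, 2, 1, 3, 4, 5, 4, 3, 2, 1, 3, 4, 0, 2, 3, 1],
   [1, 3, 4, 5, 6, 2, 3, 4, 5, 1, 3, 4, 2, 3, 0, 2, 1, 3, 4, 5, 6, 7, 6, 5, 4, 3, 2, 1, 3, 4, 5, 6, 0, 2, 3, 4, 5, 1, 3, 4, 2, 3, 0, 2, 1, 3, 4, 5, 6, 7, 1, 3, 4, 5, 6, 2, 3, 4, 5, 1, 3, 4, 2, 3, 0, 2, 1, 3, 4, 5, 6, 1, 3, 4, 2, 3, 0, 2, 1, 3, 4, 5, 4, 3, 0, 2, 1, 3, 4, 0, 2, 3, 1],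
   [1, 3, 4, 5, 6, 2, 3, 4, 5, 1, 3, 4, 2, 3, 0, 2, 1, 3, 4, 5, 6, 7, 6, 5, 4, 3, 2, 1, 3, 4, 5, 6, 0, 2, 3, 4, 5, 1, 3, 4, 2, 3, 0, 2, 1, 3, 4, 5, 6, 7, 1, 3, 4, 5, 6, 2, 3, 4, 5, 1, 3, 4, 2, 3, 0, 2, 1, 3, 4, 5, 6, 3, 4, 5, 1, 3, 4, 2, 3, 0, 2, 1, 3, 4, 5, 4, 2, 3, 0, 2, 1, 3, 4, 0, 2, 1, 3, 1],
   [1, 3, 4, 5, 6, 2, 3, 4, 5, 1, 3, 4, 2, 3, 0, 2, 1, 3, 4, 5, 6, 7, 6, 5, 4, 3, 2, 1, 3, 4, 5, 6, 0, 2, 3, 4, 5, 1, 3, 4, 2, 3, 0, 2, 1, 3, 4, 5, 6, 7, 5, 4, 3, 2, 1, 3, 4, 5, 6, 0, 2, 3, 4, 5, 1, 3, 4, 2, 3, 0, 2, 1, 3, 4, 5, 6, 2, 3, 4, 5, 1, 3, 4, 2, 3, 0, 2, 1, 3, 4, 5, 3, 4, 2, 3, 0, 2, 1, 3, 4, 3, 0, 2, 1, 3, 2, 1],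
   [7, 6, 5, 4, 3, 2, 1, 3, 4, 5, 6, 0, 2, 3, 4, 5, 1, 3, 4, 2, 3, 0, 2, 1, 3, 4, 5, 6, 7, 6, 5, 4, 3, 2, 1, 3, 4, 5, 6, 0, 2, 3, 4, 5, 1, 3, 4, 2, 3, 0, 2, 1, 3, 4, 5, 6, 7, 6, 5, 4, 3, 2, 1, 3, 4, 5, 6, 0, 2, 3, 4, 5, 1, 3, 4, 2, 3, 0, 2, 1, 3, 4, 5, 6, 0, 2, 3, 4, 5, 1, 3, 4, 2, 3, 0, 2, 1, 3, 4, 5, 1, 3, 4, 2, 3, 0, 2, 1, 3, 4, 2, 3, 0, 2, 1, 3, 0, 2, 1, 0]]

/-- the nine frames -/
def frE8 : List (List ℕ) :=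
  [[239],
   [232, 233],
   [228, 222, 218],
   [228, 222, 218, 120],
   [226, 220, 213, 216],
   [226, 220, 213, 216, 126],
   [226, 220, 213, 216, 126, 132],
   [226, 220, 213, 216, 126, 132, 139],
   [226, 220, 213, 216, 126, 132, 139, 168]]

/-- for each frame root `b` a pair `(v, i)` with `b = v(p_i)` -/
def fwE8 : List (List (List ℕ × ℕ)) :=
  [[([7, 6, 5, 4, 3, 2, 1, 3, 4, 5, 6, 7, 0, 2, 3, 4, 5, 6, 1, 3, 4, 5, 2, 3, 4, 1, 3, 2], 0)],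
   [([2, 3, 4, 5, 6, 7, 0, 2, 3, 4, 5, 6, 1, 3, 4, 5, 2, 3, 4, 1, 3, 2], 0), ([1, 3, 4, 5, 6, 7, 0, 2, 3, 4, 5, 6, 1, 3, 4, 5, 2, 3, 4, 1, 3, 2], 0)],
   [([6, 7, 0, 2, 3, 4, 5, 6, 1, 3, 4, 5, 2, 3, 4, 1, 3, 2], 0), ([5, 6, 7, 2, 3, 4, 5, 6, 1, 3, 4, 5, 2, 3, 4, 1, 3, 2], 0), ([4, 5, 6, 7, 3, 4, 5, 6, 1, 3, 4, 5, 2, 3, 4, 1, 3, 2], 0)],
   [([6, 7, 0, 2, 3, 4, 5, 6, 1, 3, 4, 5, 2, 3, 4, 1, 3, 2], 0), ([5, 6, 7, 2, 3, 4, 5, 6, 1, 3, 4, 5, 2, 3, 4, 1, 3, 2], 0), ([4, 5, 6, 7, 3, 4, 5, 6, 1, 3, 4, 5, 2, 3, 4, 1, 3, 2], 0), ([], 7)],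
   [([0, 2, 3, 4, 5, 6, 1, 3, 4, 5, 2, 3, 4, 1, 3, 2], 0), ([7, 2, 3, 4, 5, 6, 1, 3, 4, 5, 2, 3, 4, 1, 3, 2], 0), ([5, 6, 7, 4, 5, 6, 1, 3, 4, 5, 2, 3, 4, 1, 3, 2], 0), ([6, 7, 3, 4, 5, 6, 1, 3, 4, 5, 2, 3, 4, 1, 3, 2], 0)],
   [([0, 2, 3, 4, 5, 6, 1, 3, 4, 5, 2, 3, 4, 1, 3, 2], 0), ([7, 2, 3, 4, 5, 6, 1, 3, 4, 5, 2, 3, 4, 1, 3, 2], 0), ([5, 6, 7, 4, 5, 6, 1, 3, 4, 5, 2, 3, 4, 1, 3, 2], 0), ([6, 7, 3, 4, 5, 6, 1, 3, 4, 5, 2, 3, 4, 1, 3, 2], 0), ([], 4)],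
   [([0, 2, 3, 4, 5, 6, 1, 3, 4, 5, 2, 3, 4, 1, 3, 2], 0), ([7, 2, 3, 4, 5, 6, 1, 3, 4, 5, 2, 3, 4, 1, 3, 2], 0), ([5, 6, 7, 4, 5, 6, 1, 3, 4, 5, 2, 3, 4, 1, 3, 2], 0), ([6, 7, 3, 4, 5, 6, 1, 3, 4, 5, 2, 3, 4, 1, 3, 2], 0), ([], 4), ([5, 4], 3)],
   [([0, 2, 3, 4, 5, 6, 1, 3, 4, 5, 2, 3, 4, 1, 3, 2], 0), ([7, 2, 3, 4, 5, 6, 1, 3, 4, 5, 2, 3, 4, 1, 3, 2], 0), ([5, 6, 7, 4, 5, 6, 1, 3, 4, 5, 2, 3, 4, 1, 3, 2], 0), ([6, 7, 3, 4, 5, 6, 1, 3, 4, 5, 2, 3, 4, 1, 3, 2], 0), ([], 4), ([5, 4], 3), ([6, 5, 4, 3], 2)],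
   [([0, 2, 3, 4, 5, 6, 1, 3, 4, 5, 2, 3, 4, 1, 3, 2], 0), ([7, 2, 3, 4, 5, 6, 1, 3, 4, 5, 2, 3, 4, 1, 3, 2], 0), ([5, 6, 7, 4, 5, 6, 1, 3, 4, 5, 2, 3, 4, 1, 3, 2], 0), ([6, 7, 3, 4, 5, 6, 1, 3, 4, 5, 2, 3, 4, 1, 3, 2], 0), ([], 4), ([5, 4], 3), ([6, 5, 4, 3], 2), ([7, 6, 5, 4, 3, 2], 0)]]


/-- `fwRoots` computed with `wActC` -/
def fwRootsC (D : ChevalleyDatum) (fw : List (List ℕ × ℕ)) : List ℕ :=
  fw.map fun p => wActC D p.1 (D.simple p.2)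

theorem fwRootsC_eq (D : ChevalleyDatum) (fw : List (List ℕ × ℕ)) :
    fwRootsC D fw = fwRoots D fw := by
  unfold fwRootsC fwRoots
  exact List.map_congr_left (fun p _ => wActC_eq D p.1 _)

set_option maxRecDepth 1000000 in
theorem fwOK8 : ∀ j < 9, fwOK chevE8 (fwE8.getD j []) = true := by decide +kernel

set_option maxRecDepth 1000000 in
theorem fwRoots8C : ∀ j < 9, fwRootsC chevE8 (fwE8.getD j []) = frE8.getD j [] := by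
  decide +kernel

set_option maxRecDepth 1000000 in
theorem frameOK8 : ∀ j < 9, frameOK chevE8 (frE8.getD j []) = true := by decide +kernel

set_option maxRecDepth 1000000 in
theorem repWd8 : ∀ j < 9, (repE8h.getD j []).all (fun i => Nat.blt i 8) = true := by
  decide +kernel

set_option maxRecDepth 1000000 in
theorem act8C : ∀ j < 9, ∀ i < 8,
    wActC chevE8 (repE8h.getD j []) (chevE8.simple i)
      = wActC chevE8 (fwWord (fwE8.getD j [])) (chevE8.simple i) := by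
  decide +kernel

theorem repE8h_wd (j : ℕ) (hj : j < 9) : Wd chevE8 (repE8h.getD j []) := by
  intro i hi
  have h := List.all_eq_true.1 (repWd8 j hj) i hi
  have h2 : i < 8 := by simpa using h
  exact h2

/-- each frame product is conjugate to `n_{rep_j}` -/
theorem conj_frame8 [CharP F 2] (j : ℕ) (hj : j < 9) :
    ConjG chevE8 (fprod chevE8 memE8v (frE8.getD j []) : GL chevE8.Idx F)
      (wGL chevE8 memE8v (repE8h.getD j [])) := by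
  have h1 := fwOK8 j hj
  have h2 := fwRoots8C j hj
  rw [fwRootsC_eq] at h2
  have h3 := frameOK8 j hj
  rw [← h2] at h3 ⊢
  have hw := repE8h_wd j hj
  refine conjG_fw chevE8 memE8v _ h1 h3 _ hw ?_
  apply wAct_eq_of_simple chevE8 memE8v _ _ hw (fwWord_wd chevE8 _ h1)
  intro i hi
  have h := act8C j hj i hi
  rwa [wActC_eq, wActC_eq] at h

/-- the 248 columns -/
def cols8 : List ℕ := List.range 248

set_option maxRecDepth 1000000 in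
theorem supp8_lt : ∀ r < chevE8.nroots, ∀ c ∈ supp chevE8 r, c < 248 := by decide +kernel

theorem supp8_le : ∀ r < chevE8.nroots, ∀ c ∈ supp chevE8 r, c ∈ cols8 :=
  fun r hr c hc => List.mem_range.2 (supp8_lt r hr c hc)

theorem two_eq_zero8 [CharP F 2] : ((2 : ℕ) : F) = 0 := CharP.cast_eq_zero F 2

set_option maxRecDepth 1000000 in
theorem chkD8_0 : ∀ col ∈ cols8,
    vecEqP 2 (wordColP chevE8 2 (sH [80, 60, 222, 53] ++ sH [228, 222, 218, 120]) col)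
      (wordColP chevE8 2 (sH [228, 222, 218] ++ sH [80, 60, 222, 53]) col) = true := by
  decide +kernel

set_option maxRecDepth 1000000 in
theorem chkD8_1 : ∀ col ∈ cols8,
    vecEqP 2 (wordColP chevE8 2 (sH [84, 63, 220, 54] ++ sH [226, 220, 213, 216, 126]) col)
      (wordColP chevE8 2 (sH [226, 220, 213, 216] ++ sH [84, 63, 220, 54]) col) = true := by
  decide +kernel

set_option maxRecDepth 1000000 in
theorem chkD8_2 : ∀ col ∈ cols8,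
    vecEqP 2 (wordColP chevE8 2 (sH [88, 67, 220, 55] ++ sH [226, 220, 213, 216, 126, 132]) col)
      (wordColP chevE8 2 (sH [226, 220, 213, 216, 126] ++ sH [88, 67, 220, 55]) col) = true := by
  decide +kernel

set_option maxRecDepth 1000000 in
theorem chkD8_3 : ∀ col ∈ cols8,
    vecEqP 2 (wordColP chevE8 2 (sH [93, 65, 213, 68] ++ sH [226, 220, 213, 216, 126, 132, 139]) col)
      (wordColP chevE8 2 (sH [226, 220, 213, 216, 126, 132] ++ sH [93, 65, 213, 68]) col) = true := by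
  decide +kernel

set_option maxRecDepth 1000000 in
theorem chkD8_4 : ∀ col ∈ cols8,
    vecEqP 2 (wordColP chevE8 2 (sH [94, 87, 213, 90] ++ sH [226, 220, 213, 216, 126, 132, 139, 168]) col)
      (wordColP chevE8 2 (sH [226, 220, 213, 216, 126, 132, 139] ++ sH [94, 87, 213, 90]) col) = true := by
  decide +kernel

theorem drop8_0 [CharP F 2] :
    ConjG chevE8 (fprod chevE8 memE8v [228, 222, 218, 120] : GL chevE8.Idx F)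
      (fprod chevE8 memE8v [228, 222, 218]) :=
  ⟨_, wordGL_mem_group chevE8 memE8v _,
    drop_of_cols chevE8 memE8v 2 two_eq_zero8 cols8 supp8_le [80, 60, 222, 53] _ _ (by decide) chkD8_0⟩

theorem drop8_1 [CharP F 2] :
    ConjG chevE8 (fprod chevE8 memE8v [226, 220, 213, 216, 126] : GL chevE8.Idx F)
      (fprod chevE8 memE8v [226, 220, 213, 216]) :=
  ⟨_, wordGL_mem_group chevE8 memE8v _,
    drop_of_cols chevE8 memE8v 2 two_eq_zero8 cols8 supp8_le [84, 63, 220, 54] _ _ (by decide) chkD8_1⟩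

theorem drop8_2 [CharP F 2] :
    ConjG chevE8 (fprod chevE8 memE8v [226, 220, 213, 216, 126, 132] : GL chevE8.Idx F)
      (fprod chevE8 memE8v [226, 220, 213, 216, 126]) :=
  ⟨_, wordGL_mem_group chevE8 memE8v _,
    drop_of_cols chevE8 memE8v 2 two_eq_zero8 cols8 supp8_le [88, 67, 220, 55] _ _ (by decide) chkD8_2⟩

theorem drop8_3 [CharP F 2] :
    ConjG chevE8 (fprod chevE8 memE8v [226, 220, 213, 216, 126, 132, 139] : GL chevE8.Idx F)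
      (fprod chevE8 memE8v [226, 220, 213, 216, 126, 132]) :=
  ⟨_, wordGL_mem_group chevE8 memE8v _,
    drop_of_cols chevE8 memE8v 2 two_eq_zero8 cols8 supp8_le [93, 65, 213, 68] _ _ (by decide) chkD8_3⟩

theorem drop8_4 [CharP F 2] :
    ConjG chevE8 (fprod chevE8 memE8v [226, 220, 213, 216, 126, 132, 139, 168] : GL chevE8.Idx F)
      (fprod chevE8 memE8v [226, 220, 213, 216, 126, 132, 139]) :=
  ⟨_, wordGL_mem_group chevE8 memE8v _,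
    drop_of_cols chevE8 memE8v 2 two_eq_zero8 cols8 supp8_le [94, 87, 213, 90] _ _ (by decide) chkD8_4⟩

/-- the four frames of the statement -/
def ys8 : List (List ℕ) := [[239], [232, 233], [228, 222, 218], [226, 220, 213, 216]]

theorem fprod_ys8_0 : (fprod chevE8 memE8v (ys8.getD 0 []) : GL chevE8.Idx F)
    = xGL chevE8 memE8v 239 1 := by
  simp [fprod, ys8]

theorem fprod_ys8_1 : (fprod chevE8 memE8v (ys8.getD 1 []) : GL chevE8.Idx F)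
    = xGL chevE8 memE8v 232 1 * xGL chevE8 memE8v 233 1 := by
  simp [fprod, ys8]

theorem fprod_ys8_2 : (fprod chevE8 memE8v (ys8.getD 2 []) : GL chevE8.Idx F)
    = xGL chevE8 memE8v 228 1 * xGL chevE8 memE8v 222 1 * xGL chevE8 memE8v 218 1 := by
  simp [fprod, ys8, mul_assoc]

theorem fprod_ys8_3 : (fprod chevE8 memE8v (ys8.getD 3 []) : GL chevE8.Idx F)
    = xGL chevE8 memE8v 226 1 * xGL chevE8 memE8v 220 1 * xGL chevE8 memE8v 213 1 *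
        xGL chevE8 memE8v 216 1 := by
  simp [fprod, ys8, mul_assoc]

/-- the class of `y` to which the `j`-th representative fuses -/
def fuseIdx8 : List ℕ := [0, 1, 2, 2, 3, 3, 3, 3, 3]

/-- **unit E of the farm E8EV** (conjugacy form): `n_{rep_j}` is conjugate in `E₈(F)` to the frame
product `y_k`, `k = fuseIdx8[j]` -/
theorem E_rep_fuse8_conj [CharP F 2] (j : ℕ) (hj : j < 9) :
    ConjG chevE8 (wGL chevE8 memE8v (repE8h.getD j []) : GL chevE8.Idx F)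
      (fprod chevE8 memE8v (ys8.getD (fuseIdx8.getD j 0) [])) := by
  have h := conjG_symm (conj_frame8 (F := F) j hj)
  have d0 := drop8_0 (F := F)
  have d1 := drop8_1 (F := F)
  have d2 := drop8_2 (F := F)
  have d3 := drop8_3 (F := F)
  have d4 := drop8_4 (F := F)
  interval_cases j
  · exact h
  · exact h
  · exact h
  · exact conjG_trans h d0
  · exact h
  · exact conjG_trans h d1
  · exact conjG_trans h (conjG_trans d2 d1)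
  · exact conjG_trans h (conjG_trans d3 (conjG_trans d2 d1))
  · exact conjG_trans h (conjG_trans d4 (conjG_trans d3 (conjG_trans d2 d1)))

theorem fuseIdx8_lt (j : ℕ) (hj : j < 9) : fuseIdx8.getD j 0 < 4 := by
  interval_cases j <;> decide

/-- **unit E of the farm E8EV** (explicit form) -/
theorem E_rep_fuse8 [CharP F 2] (j : ℕ) (hj : j < 9) :
    ∃ h ∈ chevE8.group F, ∃ k < 4,
      h * (wGL chevE8 memE8v (repE8h.getD j []) : GL chevE8.Idx F) * h⁻¹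
        = fprod chevE8 memE8v (ys8.getD k []) := by
  obtain ⟨h, hh, e⟩ := E_rep_fuse8_conj (F := F) j hj
  exact ⟨h, hh, _, fuseIdx8_lt j hj, e⟩

end Cfsg.Agent.Lib.Helper6.E8Ev
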