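import Mathlib
import Cfsg.Agent.Lib.Helper6.E8EvE
import Cfsg.Agent.Lib.Helper5.ChevWTbl

set_option autoImplicit false

/-!
# Farm E8EV (S2176), unit C : every non-trivial involutive local maximum of `W(E₈)` (the words
`lmE8`) gives an element `n_w` conjugate to the product of the `x_r(1)` over one of the nine frames
-/

namespace Cfsg.Agent.Lib.Helper6.E8Ev

open Cfsg Cfsg.Lie Cfsg.Agent.Lib.Helper5.ChevSym Cfsg.Agent.Lib.Helper5.ChevStruct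
  Cfsg.Agent.Lib.Helper6.F4Ev Cfsg.Agent.Lib.Helper9.InvFrame

/-- for the `k`-th local maximum: the frame `c` and a word `u` with `u · lm_k · u⁻¹` acting like the
product of the reflections of the frame -/
def lmConj8 : List (ℕ × List ℕ) :=
  [(8, []),
   (7, [7, 6, 5, 4, 3, 2]),
   (7, [0, 1, 2, 7, 6, 5, 4, 3]),
   (7, [0, 7, 6, 5, 4, 3]),
   (7, [0, 2, 7, 6, 5, 4]),
   (7, [0, 2, 3, 7, 6, 5]),
   (7, [0, 2, 3, 4, 7, 6]),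
   (7, [0, 2, 3, 4, 5, 7]),
   (7, [0, 2, 3, 4, 5, 6]),
   (6, [0, 6, 5, 4, 3, 1, 2, 7, 6, 5, 4, 3]),
   (6, [0, 6, 5, 4, 3, 2, 7, 6, 5, 4]),
   (6, [0, 2, 6, 5, 4, 3, 2, 7, 6, 5]),
   (6, [0, 2, 3, 6, 5, 4, 3, 2, 7, 6]),
   (6, [0, 2, 3, 4, 6, 5, 4, 3, 2, 7]),
   (6, [0, 2, 3, 4, 5, 6, 5, 4, 3, 2]),
   (6, [0, 6, 5, 4, 3, 1, 2, 7, 6, 5, 4, 3, 2, 0]),
   (6, [0, 2, 0, 3, 1, 2, 3, 6, 5, 4, 3, 7, 6, 5]),
   (6, [0, 2, 0, 3, 1, 2, 6, 5, 4, 3, 7, 6]),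
   (6, [0, 2, 0, 3, 1, 2, 4, 6, 5, 4, 3, 7]),
   (6, [0, 2, 0, 3, 1, 2, 4, 5, 6, 5, 4, 3]),
   (6, [0, 2, 0, 6, 5, 4, 3, 7, 6, 5]),
   (6, [0, 2, 0, 3, 6, 5, 4, 3, 7, 6]),
   (6, [0, 2, 0, 3, 4, 6, 5, 4, 3, 7]),
   (6, [0, 2, 0, 3, 4, 5, 6, 5, 4, 3]),
   (6, [0, 2, 0, 3, 2, 6, 5, 4, 7, 6]),
   (6, [0, 2, 0, 3, 2, 4, 6, 5, 4, 7]),
   (6, [0, 2, 0, 3, 2, 4, 5, 6, 5, 4]),
   (6, [0, 2, 0, 3, 2, 4, 3, 6, 5, 7]),
   (6, [0, 2, 0, 3, 2, 4, 3, 5, 6, 5]),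
   (6, [0, 2, 0, 3, 2, 4, 3, 5, 4, 6]),
   (5, [0, 2, 0, 5, 4, 3, 1, 2, 3, 6, 5, 4, 3, 7, 6, 5]),
   (5, [0, 2, 0, 5, 4, 3, 1, 2, 6, 5, 4, 3, 7, 6]),
   (5, [0, 2, 0, 3, 5, 4, 3, 1, 2, 6, 5, 4, 3, 7]),
   (5, [0, 2, 0, 3, 4, 5, 4, 3, 1, 2, 6, 5, 4, 3]),
   (5, [0, 2, 0, 5, 4, 3, 2, 6, 5, 4, 7, 6]),
   (5, [0, 2, 0, 3, 5, 4, 3, 2, 6, 5, 4, 7]),
   (5, [0, 2, 0, 3, 4, 5, 4, 3, 2, 6, 5, 4]),
   (5, [0, 2, 0, 3, 2, 5, 4, 3, 2, 6, 5, 7]),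
   (5, [0, 2, 0, 3, 2, 4, 5, 4, 3, 2, 6, 5]),
   (5, [0, 2, 0, 3, 2, 4, 3, 5, 4, 3, 2, 6]),
   (5, [0, 2, 0, 5, 4, 3, 1, 2, 3, 6, 5, 4, 3, 2, 0, 7, 6, 5]),
   (5, [0, 2, 0, 5, 4, 3, 1, 2, 6, 5, 4, 3, 2, 0, 7, 6]),
   (5, [0, 2, 0, 3, 5, 4, 3, 1, 2, 6, 5, 4, 3, 2, 0, 7]),
   (5, [0, 2, 0, 3, 4, 5, 4, 3, 1, 2, 6, 5, 4, 3, 2, 0]),
   (5, [0, 2, 0, 3, 2, 0, 4, 3, 1, 2, 3, 4, 5, 4, 3, 6, 5, 7]),
   (5, [0, 2, 0, 3, 2, 0, 4, 3, 1, 2, 3, 5, 4, 3, 6, 5]),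
   (5, [0, 2, 0, 3, 2, 0, 4, 3, 1, 2, 5, 4, 3, 6]),
   (5, [0, 2, 0, 3, 2, 0, 5, 4, 3, 6, 5, 7]),
   (5, [0, 2, 0, 3, 2, 0, 4, 5, 4, 3, 6, 5]),
   (5, [0, 2, 0, 3, 2, 0, 4, 3, 5, 4, 3, 6]),
   (5, [0, 2, 0, 3, 2, 0, 4, 3, 2, 5, 4, 6]),
   (4, [0, 2, 0, 3, 2, 0, 4, 3, 1, 2, 3, 4, 5, 4, 3, 6, 5, 7]),
   (4, [0, 2, 0, 3, 2, 0, 4, 3, 1, 2, 3, 5, 4, 3, 6, 5]),
   (4, [0, 2, 0, 3, 2, 0, 4, 3, 1, 2, 5, 4, 3, 6]),
   (4, [0, 2, 0, 3, 2, 0, 4, 3, 2, 5, 4, 6]),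
   (3, [0, 2, 0, 3, 1, 2, 3, 4, 3, 2, 0, 5]),
   (4, [0, 2, 0, 3, 2, 0, 4, 3, 1, 2, 3, 4, 5, 4, 3, 2, 0, 6, 5, 7]),
   (4, [0, 2, 0, 3, 2, 0, 4, 3, 1, 2, 3, 5, 4, 3, 2, 0, 6, 5]),
   (4, [0, 2, 0, 3, 2, 0, 4, 3, 1, 2, 5, 4, 3, 2, 0, 6]),
   (2, [0, 2, 0, 3, 1, 2, 3, 4, 3, 2, 0, 5, 6, 7]),
   (2, [0, 2, 0, 3, 1, 2, 3, 4, 3, 2, 0, 5]),
   (1, [1, 3, 4, 5, 6, 7]),
   (0, []),
   (0, [])]

/-- the check for the `k`-th local maximum -/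
def chkC8 (k : ℕ) : Bool :=
  let c := (lmConj8.getD k (0, [])).1
  let u := (lmConj8.getD k (0, [])).2
  Nat.blt c 9 && u.all (fun i => Nat.blt i 8) && (lmE8.getD k []).all (fun i => Nat.blt i 8) &&
    (List.range 8).all fun j =>
      wActC chevE8 (u ++ lmE8.getD k [] ++ u.reverse) (chevE8.simple j) ==
        wActC chevE8 (fwWord (fwE8.getD c [])) (chevE8.simple j)

set_option maxRecDepth 1000000 in
theorem chkC8_0 : ∀ k < 8, chkC8 (0 + k) = true := by decide +kernel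

set_option maxRecDepth 1000000 in
theorem chkC8_1 : ∀ k < 8, chkC8 (8 + k) = true := by decide +kernel

set_option maxRecDepth 1000000 in
theorem chkC8_2 : ∀ k < 8, chkC8 (16 + k) = true := by decide +kernel

set_option maxRecDepth 1000000 in
theorem chkC8_3 : ∀ k < 8, chkC8 (24 + k) = true := by decide +kernel

set_option maxRecDepth 1000000 in
theorem chkC8_4 : ∀ k < 8, chkC8 (32 + k) = true := by decide +kernel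

set_option maxRecDepth 1000000 in
theorem chkC8_5 : ∀ k < 8, chkC8 (40 + k) = true := by decide +kernel

set_option maxRecDepth 1000000 in
theorem chkC8_6 : ∀ k < 8, chkC8 (48 + k) = true := by decide +kernel

set_option maxRecDepth 1000000 in
theorem chkC8_7 : ∀ k < 7, chkC8 (56 + k) = true := by decide +kernel

theorem chkC8_all : ∀ k < 63, chkC8 k = true := by
  intro k hk
  by_cases h0 : k < 8
  · have := chkC8_0 (k - 0) (by omega)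
    rwa [show 0 + (k - 0) = k by omega] at this
  by_cases h1 : k < 16
  · have := chkC8_1 (k - 8) (by omega)
    rwa [show 8 + (k - 8) = k by omega] at this
  by_cases h2 : k < 24
  · have := chkC8_2 (k - 16) (by omega)
    rwa [show 16 + (k - 16) = k by omega] at this
  by_cases h3 : k < 32
  · have := chkC8_3 (k - 24) (by omega)
    rwa [show 24 + (k - 24) = k by omega] at this
  by_cases h4 : k < 40
  · have := chkC8_4 (k - 32) (by omega)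
    rwa [show 32 + (k - 32) = k by omega] at this
  by_cases h5 : k < 48
  · have := chkC8_5 (k - 40) (by omega)
    rwa [show 40 + (k - 40) = k by omega] at this
  by_cases h6 : k < 56
  · have := chkC8_6 (k - 48) (by omega)
    rwa [show 48 + (k - 48) = k by omega] at this
  · have := chkC8_7 (k - 56) (by omega)
    rwa [show 56 + (k - 56) = k by omega] at this

variable {F : Type*} [Field F]

/-- **Unit C (E₈).** -/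
theorem C_lm_conj_frame8 [CharP F 2] (k : ℕ) (hk : k < 63) :
    ∃ c < 9, ConjG chevE8 (wGL chevE8 memE8v (lmE8.getD k []) : GL chevE8.Idx F)
      (fprod chevE8 memE8v (frE8.getD c [])) := by
  have h := chkC8_all k hk
  unfold chkC8 at h
  simp only [Bool.and_eq_true, List.all_eq_true, List.mem_range, beq_iff_eq, Nat.blt_eq,
    wActC_eq] at h
  obtain ⟨⟨⟨hc, hu⟩, hl⟩, hact⟩ := h
  have hu' : Wd chevE8 (lmConj8.getD k (0, [])).2 := hu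
  have hl' : Wd chevE8 (lmE8.getD k []) := hl
  have hf1 := fwOK8 _ hc
  have hf3 := fwRoots8C _ hc
  rw [fwRootsC_eq] at hf3
  have hf2 := frameOK8 _ hc
  rw [← hf3] at hf2
  refine ⟨_, hc, ?_⟩
  have hact' := wAct_eq_of_simple chevE8 memE8v _ _ ((hu'.append hl').append hu'.reverse)
    (fwWord_wd chevE8 _ hf1) hact
  have h1 := conjG_fw (F := F) chevE8 memE8v _ hf1 hf2 _
    ((hu'.append hl').append hu'.reverse) hact'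
  rw [hf3] at h1
  have h2 : ConjG chevE8 (wGL chevE8 memE8v (lmE8.getD k []) : GL chevE8.Idx F)
      (wGL chevE8 memE8v ((lmConj8.getD k (0, [])).2 ++ lmE8.getD k [] ++
        ((lmConj8.getD k (0, [])).2).reverse)) := by
    refine ⟨wGL chevE8 memE8v (lmConj8.getD k (0, [])).2, wGL_mem_group_of chevE8 memE8v _ hu', ?_⟩
    rw [wGL_reverse_char2 chevE8 memE8v _ hu', ← wGL_append, ← wGL_append]
  exact conjG_trans h2 (conjG_symm h1)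

end Cfsg.Agent.Lib.Helper6.E8Ev
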