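import Mathlib
import Cfsg.Agent.Lib.Helper6.EvLocMax

set_option autoImplicit false

/-!
# The involutive local maxima from a table, when the longest element is `-1`

Variant of `EvLocMax.locmax_cases_of_table` for the data with `w₀ = -1` (`E₇`, `E₈`, `F₄`, …):
`w₀ L⁻¹ (r) = -(L⁻¹ r)`, so only the short words `L_I` are evaluated, and the words of the list
`lm` are recognised by the (precomputed) images of the fundamental roots.
-/

namespace Cfsg.Agent.Lib.Helper6.EvLocMax

open Cfsg Cfsg.Lie Cfsg.Agent.Lib.Helper5.ChevSym Cfsg.Agent.Lib.Helper5.ChevStruct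
  Cfsg.Agent.Lib.Helper6.F4Ev

/-- the check of the row `I` when `w₀ = -1` (with `wActC`, the kernel-friendly form of `wAct`) -/
def chkRowN (D : ChevalleyDatum) (tbl : List (List ℕ × List ℕ)) (lmImg : List (List ℕ))
    (I : List ℕ) : Bool :=
  let Lr := (lookupL tbl I).reverse
  (lookupL tbl I).all (fun i => I.contains i) &&
  I.all (fun i => !decide (D.IsPosRoot (wActC D Lr (D.simple i)))) &&
  (!((List.range D.rank).all fun i =>
      let a := D.neg (wActC D Lr (D.simple i))
      ((a == D.simple i) == I.contains i) && (!decide (D.IsPosRoot a) || a == D.simple i) &&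
        (D.neg (wActC D Lr a) == D.simple i)) ||
    lmImg.contains ((List.range D.rank).map fun i => D.neg (wActC D Lr (D.simple i))))

/-- the images of the fundamental roots under the words of `lm` -/
def chkImg (D : ChevalleyDatum) (lm : List (List ℕ)) (lmImg : List (List ℕ)) : Bool :=
  (lm.length == lmImg.length) &&
  (List.range lm.length).all fun k =>
    (lm.getD k []).all (fun i => Nat.blt i D.rank) &&
      (lmImg.getD k [] == (List.range D.rank).map fun i => wActC D (lm.getD k []) (D.simple i))

/-- `w₀ = -1` on the roots -/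
def chkNeg (D : ChevalleyDatum) (w0 : List ℕ) : Bool :=
  (List.range D.nroots).all fun r => wActC D w0 r == D.neg r

theorem chkNeg_spec (D : ChevalleyDatum) (w0 : List ℕ) (h : chkNeg D w0 = true) :
    ∀ r < D.nroots, wAct D w0 r = D.neg r := by
  intro r hr
  unfold chkNeg at h
  rw [List.all_eq_true] at h
  have := h r (List.mem_range.2 hr)
  rwa [beq_iff_eq, wActC_eq] at this

theorem locmax_cases_of_tableN (D : ChevalleyDatum) (hD : D ∈ Seven) (w0 : List ℕ)
    (hchk : checkW0 D w0 = true) (hneg : ∀ r < D.nroots, wAct D w0 r = D.neg r)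
    (tbl : List (List ℕ × List ℕ)) (lm lmImg : List (List ℕ))
    (himg : chkImg D lm lmImg = true)
    (htbl : ∀ I ∈ (List.range D.rank).sublists, chkRowN D tbl lmImg I = true)
    (w : List ℕ) (hw : Wd D w) (hw2 : ∀ r < D.nroots, wAct D (w ++ w) r = r)
    (hl : LocMax D w) :
    ∃ v ∈ lm, Wd D v ∧ ∀ r < D.nroots, wAct D w r = wAct D v r := by
  classical
  set I : List ℕ := (List.range D.rank).filter
    (fun i => decide (wAct D w (D.simple i) = D.simple i)) with hIdef
  have hI : I ∈ (List.range D.rank).sublists := List.mem_sublists.2 List.filter_sublist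
  have hmemI : ∀ i, i ∈ I ↔ i < D.rank ∧ wAct D w (D.simple i) = D.simple i := by
    intro i
    rw [hIdef, List.mem_filter, List.mem_range, decide_eq_true_eq]
  have h := htbl I hI
  unfold chkRowN at h
  set L := lookupL tbl I with hLdef
  simp only [wActC_eq, Bool.and_eq_true, List.all_eq_true] at h
  obtain ⟨⟨h1, h2⟩, h3⟩ := h
  have hL : ∀ i ∈ L, i < D.rank ∧ wAct D w (D.simple i) = D.simple i := by
    intro i hi
    have := h1 i hi
    rw [List.contains_iff_mem] at this
    exact (hmemI i).1 this
  have hdesc : ∀ i < D.rank, wAct D w (D.simple i) = D.simple i →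
      ¬ D.IsPosRoot (wAct D L.reverse (D.simple i)) := by
    intro i hi hfix
    have := h2 i ((hmemI i).2 ⟨hi, hfix⟩)
    simpa using this
  have hE := Cfsg.Agent.Lib.Helper7.InvGen.locmax_eq D hD w0 hchk w hw hw2 hl L hL hdesc
  have hLwd : Wd D L := fun i hi => (hL i hi).1
  have hW : ∀ r < D.nroots, wAct D w r = D.neg (wAct D L.reverse r) := by
    intro r hr
    have hlt := wAct_lt D hD L.reverse hLwd.reverse r hr
    rw [← hneg _ hlt, ← hE _ hlt, wAct_append, wAct_reverse D hD L hLwd r hr]
  have hprem : ((List.range D.rank).all fun i =>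
      let a := D.neg (wAct D L.reverse (D.simple i))
      ((a == D.simple i) == I.contains i) && (!decide (D.IsPosRoot a) || a == D.simple i) &&
        (D.neg (wAct D L.reverse a) == D.simple i)) = true := by
    rw [List.all_eq_true]
    intro i hi
    have hi' : i < D.rank := List.mem_range.1 hi
    have hs : D.simple i < D.nroots := simple_lt D hD i hi'
    have ha : D.neg (wAct D L.reverse (D.simple i)) = wAct D w (D.simple i) := (hW _ hs).symm
    simp only [ha]
    have halt : wAct D w (D.simple i) < D.nroots := wAct_lt D hD w hw _ hs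
    have h4 : D.neg (wAct D L.reverse (wAct D w (D.simple i))) = D.simple i := by
      rw [← hW _ halt, ← wAct_append]
      exact hw2 _ hs
    rw [h4]
    by_cases hfix : wAct D w (D.simple i) = D.simple i
    · have hiI : i ∈ I := (hmemI i).2 ⟨hi', hfix⟩
      simp [hfix, hiI]
    · have hiI : i ∉ I := fun hc => hfix ((hmemI i).1 hc).2
      rcases hl i hi' with h5 | h5
      · simp [hfix, hiI, h5]
      · exact absurd h5 hfix
  rw [hprem] at h3
  simp only [Bool.not_true, Bool.false_or] at h3
  rw [List.contains_iff_mem, List.mem_iff_getElem] at h3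
  obtain ⟨k, hk, e⟩ := h3
  unfold chkImg at himg
  simp only [wActC_eq, Bool.and_eq_true, List.all_eq_true, beq_iff_eq, List.mem_range] at himg
  obtain ⟨hlen, himg2⟩ := himg
  have hk' : k < lm.length := by rw [hlen]; exact hk
  obtain ⟨hvwd, hvimg⟩ := himg2 k hk'
  have hvwd' : Wd D (lm.getD k []) := fun i hi => by
    have := hvwd i hi
    rwa [Nat.blt_eq] at this
  refine ⟨lm.getD k [], ?_, hvwd', ?_⟩
  · rw [List.getD_eq_getElem _ _ hk']
    exact List.getElem_mem hk'
  · have e2 : lmImg.getD k [] = lmImg[k] := List.getD_eq_getElem _ _ hk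
    rw [e2, e] at hvimg
    rw [List.map_inj_left] at hvimg
    apply wAct_eq_of_simple D hD w _ hw hvwd'
    intro j hj
    rw [hW _ (simple_lt D hD j hj)]
    exact hvimg j (List.mem_range.2 hj)

end Cfsg.Agent.Lib.Helper6.EvLocMax
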