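import Mathlib
import Cfsg.Agent.Lib.Helper6.E8EvData
import Cfsg.Agent.Lib.Helper6.EvLocMaxN

set_option autoImplicit false

/-!
# Farm E8EV (S2176), unit T : the involutive local maxima of `W(E₈)`
-/

namespace Cfsg.Agent.Lib.Helper6.E8Ev

open Cfsg Cfsg.Lie Cfsg.Agent.Lib.Helper5.ChevSym Cfsg.Agent.Lib.Helper5.ChevStruct
  Cfsg.Agent.Lib.Helper6.F4Ev Cfsg.Agent.Lib.Helper6.EvLocMax

/-- the images of the fundamental roots under the words of `lmE8` -/
def lmImg8 : List (List ℕ) :=
  [[77, 98, 104, 109, 113, 116, 118, 119], [162, 98, 76, 109, 113, 116, 118, 119],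
   [77, 141, 104, 97, 113, 116, 118, 119], [76, 98, 135, 103, 113, 116, 118, 119],
   [77, 97, 103, 130, 108, 116, 118, 119], [77, 98, 104, 108, 126, 112, 118, 119],
   [77, 98, 104, 109, 112, 123, 115, 119], [77, 98, 104, 109, 113, 115, 121, 117],
   [77, 98, 104, 109, 113, 116, 117, 120], [162, 141, 76, 97, 113, 116, 118, 119],
   [162, 97, 75, 130, 108, 116, 118, 119], [162, 98, 76, 108, 126, 112, 118, 119],
   [162, 98, 76, 109, 112, 123, 115, 119], [162, 98, 76, 109, 113, 115, 121, 117],
   [162, 98, 76, 109, 113, 116, 117, 120], [76, 141, 135, 92, 113, 116, 118, 119],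
   [77, 141, 104, 96, 126, 112, 118, 119], [77, 141, 104, 97, 112, 123, 115, 119],
   [77, 141, 104, 97, 113, 115, 121, 117], [77, 141, 104, 97, 113, 116, 117, 120],
   [76, 98, 135, 102, 126, 112, 118, 119], [76, 98, 135, 103, 112, 123, 115, 119],
   [76, 98, 135, 103, 113, 115, 121, 117], [76, 98, 135, 103, 113, 116, 117, 120],
   [77, 97, 103, 130, 107, 123, 115, 119], [77, 97, 103, 130, 108, 115, 121, 117],
   [77, 97, 103, 130, 108, 116, 117, 120], [77, 98, 104, 108, 126, 111, 121, 117],
   [77, 98, 104, 108, 126, 112, 117, 120], [77, 98, 104, 109, 112, 123, 114, 120],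
   [162, 141, 76, 96, 126, 112, 118, 119], [162, 141, 76, 97, 112, 123, 115, 119],
   [162, 141, 76, 97, 113, 115, 121, 117], [162, 141, 76, 97, 113, 116, 117, 120],
   [162, 97, 75, 130, 107, 123, 115, 119], [162, 97, 75, 130, 108, 115, 121, 117],
   [162, 97, 75, 130, 108, 116, 117, 120], [162, 98, 76, 108, 126, 111, 121, 117],
   [162, 98, 76, 108, 126, 112, 117, 120], [162, 98, 76, 109, 112, 123, 114, 120],
   [76, 141, 135, 91, 126, 112, 118, 119], [76, 141, 135, 92, 112, 123, 115, 119],
   [76, 141, 135, 92, 113, 115, 121, 117], [76, 141, 135, 92, 113, 116, 117, 120],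
   [77, 141, 104, 96, 126, 111, 121, 117], [77, 141, 104, 96, 126, 112, 117, 120],
   [77, 141, 104, 97, 112, 123, 114, 120], [76, 98, 135, 102, 126, 111, 121, 117],
   [76, 98, 135, 102, 126, 112, 117, 120], [76, 98, 135, 103, 112, 123, 114, 120],
   [77, 97, 103, 130, 107, 123, 114, 120], [162, 141, 76, 96, 126, 111, 121, 117],
   [162, 141, 76, 96, 126, 112, 117, 120], [162, 141, 76, 97, 112, 123, 114, 120],
   [162, 97, 75, 130, 107, 123, 114, 120], [55, 141, 135, 130, 126, 83, 118, 119],
   [76, 141, 135, 91, 126, 111, 121, 117], [76, 141, 135, 91, 126, 112, 117, 120],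
   [76, 141, 135, 92, 112, 123, 114, 120], [55, 141, 135, 130, 126, 82, 121, 117],
   [55, 141, 135, 130, 126, 83, 117, 120], [20, 141, 135, 130, 126, 123, 121, 78],
   [162, 141, 135, 130, 126, 123, 121, 1], [162, 141, 135, 130, 126, 123, 121, 120]]

set_option maxRecDepth 1000000 in
theorem w0E8_negC : chkNeg chevE8 w0E8 = true := by decide +kernel

theorem w0E8_neg : ∀ r < chevE8.nroots, wAct chevE8 w0E8 r = chevE8.neg r :=
  chkNeg_spec chevE8 w0E8 w0E8_negC

set_option maxRecDepth 1000000 in
theorem chkImg8 : chkImg chevE8 lmE8 lmImg8 = true := by decide +kernel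

set_option maxRecDepth 1000000 in
theorem subs8 : ∀ I ∈ (List.range chevE8.rank).sublists, I ∈ liE8.map Prod.fst := by
  decide +kernel

/-- the rows `lo, …, hi - 1` of the table pass the check -/
def chkRange8 (lo hi : ℕ) : Bool :=
  (List.range (hi - lo)).all fun d => chkRowN chevE8 liE8 lmImg8 (liE8.getD (lo + d) ([], [])).1

theorem chkRange8_spec (lo hi : ℕ) (h : chkRange8 lo hi = true) (t : ℕ) (h1 : lo ≤ t)
    (h2 : t < hi) : chkRowN chevE8 liE8 lmImg8 (liE8.getD t ([], [])).1 = true := by
  unfold chkRange8 at h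
  rw [List.all_eq_true] at h
  have := h (t - lo) (List.mem_range.2 (by omega))
  rwa [Nat.add_sub_cancel' h1] at this

set_option maxRecDepth 1000000 in
theorem chkRange8_0 : chkRange8 0 32 = true := by decide +kernel

set_option maxRecDepth 1000000 in
theorem chkRange8_32 : chkRange8 32 64 = true := by decide +kernel

set_option maxRecDepth 1000000 in
theorem chkRange8_64 : chkRange8 64 96 = true := by decide +kernel

set_option maxRecDepth 1000000 in
theorem chkRange8_96 : chkRange8 96 128 = true := by decide +kernel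

set_option maxRecDepth 1000000 in
theorem chkRange8_128 : chkRange8 128 160 = true := by decide +kernel

set_option maxRecDepth 1000000 in
theorem chkRange8_160 : chkRange8 160 192 = true := by decide +kernel

set_option maxRecDepth 1000000 in
theorem chkRange8_192 : chkRange8 192 224 = true := by decide +kernel

set_option maxRecDepth 1000000 in
theorem chkRange8_224 : chkRange8 224 256 = true := by decide +kernel

set_option maxRecDepth 1000000 in
theorem liE8_length : liE8.length = 256 := by decide +kernel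

theorem chkRow8_all (t : ℕ) (ht : t < 256) :
    chkRowN chevE8 liE8 lmImg8 (liE8.getD t ([], [])).1 = true := by
  rcases Nat.lt_or_ge t 32 with h | h
  · exact chkRange8_spec 0 32 chkRange8_0 t (by omega) h
  rcases Nat.lt_or_ge t 64 with h | h
  · exact chkRange8_spec 32 64 chkRange8_32 t (by omega) h
  rcases Nat.lt_or_ge t 96 with h | h
  · exact chkRange8_spec 64 96 chkRange8_64 t (by omega) h
  rcases Nat.lt_or_ge t 128 with h | h
  · exact chkRange8_spec 96 128 chkRange8_96 t (by omega) h
  rcases Nat.lt_or_ge t 160 with h | h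
  · exact chkRange8_spec 128 160 chkRange8_128 t (by omega) h
  rcases Nat.lt_or_ge t 192 with h | h
  · exact chkRange8_spec 160 192 chkRange8_160 t (by omega) h
  rcases Nat.lt_or_ge t 224 with h | h
  · exact chkRange8_spec 192 224 chkRange8_192 t (by omega) h
  rcases Nat.lt_or_ge t 256 with h | h
  · exact chkRange8_spec 224 256 chkRange8_224 t (by omega) h
  omega

/-- **Unit T (E₈).** an involutive local maximum of `W(E₈)` acts like one of the 64 words
`lmE8` -/
theorem T_locmax_cases8 (w : List ℕ) (hw : Wd chevE8 w)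
    (hw2 : ∀ r < chevE8.nroots, wAct chevE8 (w ++ w) r = r) (hl : LocMax chevE8 w) :
    ∃ v ∈ lmE8, Wd chevE8 v ∧ ∀ r < chevE8.nroots, wAct chevE8 w r = wAct chevE8 v r := by
  apply locmax_cases_of_tableN chevE8 memE8v w0E8 chkW0_w0E8 w0E8_neg liE8 lmE8 lmImg8 chkImg8
    _ w hw hw2 hl
  intro I hI
  have h1 := subs8 I hI
  rw [List.mem_map] at h1
  obtain ⟨p, hp, rfl⟩ := h1
  rw [List.mem_iff_getElem] at hp
  obtain ⟨t, ht, e⟩ := hp
  have ht' : t < 256 := by rw [← liE8_length]; exact ht
  have := chkRow8_all t ht'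
  rw [List.getD_eq_getElem _ _ ht, e] at this
  exact this

end Cfsg.Agent.Lib.Helper6.E8Ev
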