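import Mathlib
import Cfsg.Agent.Lib.Helper6.E8EvT
import Cfsg.Agent.Lib.Helper6.E8EvC
import Cfsg.Agent.Lib.Helper7.InvGenHyp
import Cfsg.Agent.Lib.Helper3.F4EvB
import Cfsg.Agent.Lib.Helper2.E8EvRank

set_option autoImplicit false

/-!
# Farm E8EV (S2176): assembly — the four classes of involutions of `E₈(q)`, `q` even
-/

namespace Cfsg.Agent.Lib.Helper6.E8Ev

open Cfsg Cfsg.Lie Cfsg.Agent.Lib.Helper5.ChevSym Cfsg.Agent.Lib.Helper5.ChevStruct
  Cfsg.Agent.Lib.Helper6.F4Ev Cfsg.Agent.Lib.Helper9.InvFrame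

variable (F : Type*) [Field F]

/-- the four representatives -/
def yGL8 (k : ℕ) : GL chevE8.Idx F := fprod chevE8 memE8v (ys8.getD k [])

/-- the four matrices of the statement -/
def yList8 : List (Matrix chevE8.Idx chevE8.Idx F) :=
  [chevE8.x F 239 1, chevE8.x F 232 1 * chevE8.x F 233 1,
    chevE8.x F 228 1 * chevE8.x F 222 1 * chevE8.x F 218 1,
    chevE8.x F 226 1 * chevE8.x F 220 1 * chevE8.x F 213 1 * chevE8.x F 216 1]

theorem yGL8_mem_group (k : ℕ) : yGL8 F k ∈ chevE8.group F :=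
  fprod_mem_group chevE8 memE8v _

variable {F}

theorem fprod_val8 (D : ChevalleyDatum) (hD : D ∈ Seven) (R : List ℕ) :
    ((fprod D hD R : GL D.Idx F) : Matrix D.Idx D.Idx F) = (R.map fun r => D.x F r 1).prod := by
  induction R with
  | nil => simp [fprod]
  | cons r R ih => rw [fprod_cons, Units.val_mul, ih, xGL_val, List.map_cons, List.prod_cons]

theorem yGL8_val (k : ℕ) (hk : k < 4) :
    ((yGL8 F k : GL chevE8.Idx F) : Matrix chevE8.Idx chevE8.Idx F) = (yList8 F).getD k 0 := by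
  unfold yGL8
  rw [fprod_val8]
  interval_cases k <;> simp [ys8, yList8, mul_assoc]

theorem yGL8_mem_yList8 (k : ℕ) (hk : k < 4) :
    ((yGL8 F k : GL chevE8.Idx F) : Matrix chevE8.Idx chevE8.Idx F) ∈ yList8 F := by
  rw [yGL8_val k hk]
  interval_cases k <;> simp [yList8]

theorem eq_yGL8_of_mem_yList8 (y : GL chevE8.Idx F)
    (h : ((y : GL chevE8.Idx F) : Matrix chevE8.Idx chevE8.Idx F) ∈ yList8 F) :
    ∃ k < 4, y = yGL8 F k := by
  simp only [yList8, List.mem_cons, List.not_mem_nil, or_false] at h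
  rcases h with h | h | h | h
  · exact ⟨0, by norm_num, Units.ext (by rw [h, yGL8_val 0 (by norm_num)]; simp [yList8])⟩
  · exact ⟨1, by norm_num, Units.ext (by rw [h, yGL8_val 1 (by norm_num)]; simp [yList8])⟩
  · exact ⟨2, by norm_num, Units.ext (by rw [h, yGL8_val 2 (by norm_num)]; simp [yList8])⟩
  · exact ⟨3, by norm_num, Units.ext (by rw [h, yGL8_val 3 (by norm_num)]; simp [yList8])⟩

/-! ### Ranks -/

/-- the rank of `y_k - 1` -/
def rk8 : ℕ → ℕ
  | 0 => 58
  | 1 => 92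
  | 2 => 110
  | _ => 120

theorem rank_yGL8_eq [CharP F 2] (k : ℕ) (hk : k < 4) :
    ((yGL8 F k : Matrix chevE8.Idx chevE8.Idx F) - 1).rank = rk8 k := by
  have hp : ((2 : ℕ) : F) = 0 := CharP.cast_eq_zero F 2
  unfold yGL8
  rw [fprod_val8]
  interval_cases k
  · exact Cfsg.Agent.Lib.Helper2.E8EvRank.rank_y0 (K := F) hp
  · exact Cfsg.Agent.Lib.Helper2.E8EvRank.rank_y1 (K := F) hp
  · exact Cfsg.Agent.Lib.Helper2.E8EvRank.rank_y2 (K := F) hp
  · exact Cfsg.Agent.Lib.Helper2.E8EvRank.rank_y3 (K := F) hp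

/-- **Unit R (E₈).** the representatives are pairwise not conjugate in `GL` -/
theorem R_not_conj8 [CharP F 2] (k l : ℕ) (hk : k < 4) (hl : l < 4) (h : GL chevE8.Idx F)
    (e : h * yGL8 F k * h⁻¹ = yGL8 F l) : k = l := by
  have hr := Cfsg.Agent.Lib.Helper2.RankGen.rank_conj h (yGL8 F k)
  rw [e, rank_yGL8_eq k hk, rank_yGL8_eq l hl] at hr
  interval_cases k <;> interval_cases l <;> simp_all [rk8]

theorem R_ne_one8 [CharP F 2] (k : ℕ) (hk : k < 4) : yGL8 F k ≠ 1 := by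
  intro h
  have hr := rank_yGL8_eq (F := F) k hk
  rw [h, Units.val_one, sub_self, Matrix.rank_zero] at hr
  interval_cases k <;> simp [rk8] at hr

/-! ### Orders -/

set_option maxRecDepth 1000000 in
theorem frameOK_ys8 : ∀ k < 4, frameOK chevE8 (ys8.getD k []) = true := by decide +kernel

/-- **Unit P (E₈).** -/
theorem P_order8 [CharP F 2] (k : ℕ) (hk : k < 4) : orderOf (yGL8 F k) = 2 := by
  have h2 : (yGL8 F k) ^ 2 = 1 := by
    rw [pow_two]
    exact fprod_sq chevE8 memE8v _ (frameOK_ys8 k hk)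
  exact orderOf_eq_prime h2 (R_ne_one8 k hk)

/-! ### The drops -/

theorem D_frame_to_y8 [CharP F 2] (c : ℕ) (hc : c < 9) :
    ConjG chevE8 (fprod chevE8 memE8v (frE8.getD c []) : GL chevE8.Idx F)
      (yGL8 F (fuseIdx8.getD c 0)) := by
  have d0 := drop8_0 (F := F)
  have d1 := drop8_1 (F := F)
  have d2 := drop8_2 (F := F)
  have d3 := drop8_3 (F := F)
  have d4 := drop8_4 (F := F)
  unfold yGL8
  interval_cases c
  · exact conjG_refl _ _
  · exact conjG_refl _ _
  · exact conjG_refl _ _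
  · exact d0
  · exact conjG_refl _ _
  · exact d1
  · exact conjG_trans d2 d1
  · exact conjG_trans d3 (conjG_trans d2 d1)
  · exact conjG_trans d4 (conjG_trans d3 (conjG_trans d2 d1))

/-! ### Every involution is conjugate to a representative -/

theorem mem_lmE8_idx (v : List ℕ) (hv : v ∈ lmE8) : ∃ k < 64, v = lmE8.getD k [] := by
  rw [List.mem_iff_getElem] at hv
  obtain ⟨k, hk, e⟩ := hv
  have hk' : k < 64 := by
    have : lmE8.length = 64 := by decide
    omega
  exact ⟨k, hk', by rw [List.getD_eq_getElem _ _ hk, e]⟩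

theorem exists_conj_yGL8 [Fintype F] [CharP F 2] (g : GL chevE8.Idx F)
    (hg : g ∈ chevE8.group F) (ho : orderOf g = 2) :
    ∃ k < 4, ∃ h ∈ chevE8.group F, h * g * h⁻¹ = yGL8 F k := by
  have hg2 : g * g = 1 := by
    have := pow_orderOf_eq_one g
    rwa [ho, pow_two] at this
  have hg1 : g ≠ 1 := by
    intro h
    rw [h, orderOf_one] at ho
    omega
  obtain ⟨a, ha, w, hw, hw2, hloc, c, hc, e⟩ :=
    invol_conj_cell chevE8 memE8v w0E8 chkW0_w0E8
      (Cfsg.Agent.Lib.Helper7.InvGen.hypB_gen chevE8 memE8v w0E8 chkW0_w0E8) g hg hg2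
  obtain ⟨v, hv, hwdv, hact⟩ := T_locmax_cases8 w hw hw2 hloc
  obtain ⟨k, hk, rfl⟩ := mem_lmE8_idx v hv
  have hwk : (wGL chevE8 memE8v w : GL chevE8.Idx F) = wGL chevE8 memE8v (lmE8.getD k []) :=
    A1h_wGL_congr chevE8 memE8v w _ hw hwdv hact
  have hsq : (wGL chevE8 memE8v w * c) * (wGL chevE8 memE8v w * c) = 1 := by
    rw [← e]
    have : a * g * a⁻¹ * (a * g * a⁻¹) = a * (g * g) * a⁻¹ := by group
    rw [this, hg2]; group
  have hk63 : k < 63 := by
    by_contra hk0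
    have hk0' : k = 63 := by omega
    subst hk0'
    have h1 : (wGL chevE8 memE8v w : GL chevE8.Idx F) = 1 := by
      rw [hwk]
      have : lmE8.getD 63 [] = [] := by decide
      rw [this, wGL_nil]
    rw [h1, one_mul] at hsq e
    have hc1 := Cfsg.Agent.Lib.Helper3.F4Ev.h3_B1_diag_invol chevE8 memE8v c hc hsq
    rw [hc1] at e
    apply hg1
    have : g = a⁻¹ * (a * g * a⁻¹) * a := by group
    rw [this, e]; group
  obtain ⟨d, hd, e2⟩ :=
    Cfsg.Agent.Lib.Helper3.F4Ev.h3_B2_invol_lift chevE8 memE8v w hw hw2 c hc hsq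
  have hdG : d ∈ chevE8.group F :=
    borel_le_group chevE8 memE8v (diagonal_le_borel chevE8 hd)
  obtain ⟨cc, hcc, hconj⟩ := C_lm_conj_frame8 (F := F) k hk63
  obtain ⟨h, hh, e4⟩ := conjG_trans hconj (D_frame_to_y8 cc hcc)
  refine ⟨_, fuseIdx8_lt cc hcc, h * d * a, mul_mem (mul_mem hh hdG) ha, ?_⟩
  rw [← e4, ← hwk, ← e2, ← e]
  group

end Cfsg.Agent.Lib.Helper6.E8Ev
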