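import Mathlib
import Cfsg.Prelude
import Cfsg.Agent.Lib.Helper6.ExtraOut3

set_option autoImplicit false
set_option linter.unusedSectionVars false
set_option linter.unusedVariables false
set_option linter.unusedSimpArgs false
open Cfsg

/-! The outer automorphism groups of the extraspecial 2-groups. -/

namespace Cfsg.Agent.Lib.Helper6.ExtraOut

open Matrix Cfsg.Agent.Lib.Helper5 Cfsg.Agent.Lib.Helper5.OrthCard Cfsg.Agent.Lib.Helper1.ES
  Cfsg.Agent.Lib.Helper5.OrthPlane Cfsg.Agent.Lib.Helper5.IsomReindex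

/-- plus type: the diagonal form -/
theorem diag_plus (n : ℕ) :
    (fun v => βTH (sig 0 n) (sig 0 n) v v) = Cfsg.quadFormPlus n (ZMod 2) := by
  funext v
  rw [βTH_apply]
  unfold Cfsg.quadFormPlus
  apply Finset.sum_congr rfl
  intro i _
  rw [sig_zero]
  ring

/-- the elementary abelian subgroup `b = 0` of the plus type group -/
def subA (n : ℕ) : Subgroup (TH (sig 0 n) (sig 0 n)) where
  carrier := {x | x.b = 0}
  mul_mem' := by
    intro x y hx hy
    show (x * y).b = 0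
    rw [TH.mul_b, hx, hy, add_zero]
  one_mem' := rfl
  inv_mem' := by
    intro x hx
    show (x⁻¹).b = 0
    rw [TH.inv_b, hx, neg_zero]

theorem mem_subA {n : ℕ} (x : TH (sig 0 n) (sig 0 n)) : x ∈ subA n ↔ x.b = 0 := Iff.rfl

theorem bil_subA {n : ℕ} (x y : TH (sig 0 n) (sig 0 n)) (hx : x.b = 0) (hy : y.b = 0) :
    TH.bil (sig 0 n) (sig 0 n) x.a x.b y.a y.b = 0 := by
  unfold TH.bil
  apply Finset.sum_eq_zero
  intro i _
  rw [hx, hy, sig_zero]
  simp

theorem subA_elemAb (n : ℕ) : Cfsg.IsElementaryAbelian 2 (subA n) := by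
  constructor
  · refine ⟨⟨fun x y => ?_⟩⟩
    apply Subtype.ext
    show x.1 * y.1 = y.1 * x.1
    apply TH.ext
    · simp [add_comm]
    · simp [add_comm]
    · rw [TH.mul_c, TH.mul_c, bil_subA _ _ x.2 y.2, bil_subA _ _ y.2 x.2]
      ring
  · intro x hx
    rw [pow_two]
    apply TH.ext
    · rw [TH.mul_a]
      exact vadd_self _
    · rw [TH.mul_b, hx, add_zero]
      rfl
    · rw [TH.mul_c, bil_subA _ _ hx hx, add_zero]
      exact add_self_z2 _

theorem card_subA (n : ℕ) : Nat.card ↥(subA n) = 2 ^ (n + 1) := by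
  have e : ↥(subA n) ≃ (Fin n → ZMod 2) × ZMod 2 :=
    { toFun := fun x => (x.1.a, x.1.c)
      invFun := fun y => ⟨⟨y.1, 0, y.2⟩, rfl⟩
      left_inv := fun x => by
        apply Subtype.ext
        apply TH.ext
        · rfl
        · exact x.2.symm
        · rfl
      right_inv := fun y => rfl }
  rw [Nat.card_congr e, Nat.card_prod, Nat.card_fun, Nat.card_zmod, pow_succ]
  simp

/-- transport of elementary abelian subgroups -/
theorem elemAb_map {G H : Type*} [Group G] [Group H] (e : G ≃* H) (A : Subgroup G)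
    (hA : Cfsg.IsElementaryAbelian 2 A) :
    Cfsg.IsElementaryAbelian 2 (A.map e.toMonoidHom) := by
  obtain ⟨hc, hs⟩ := hA
  constructor
  · refine ⟨⟨fun x y => ?_⟩⟩
    obtain ⟨x', hx', hx⟩ := x.2
    obtain ⟨y', hy', hy⟩ := y.2
    apply Subtype.ext
    show x.1 * y.1 = y.1 * x.1
    rw [← hx, ← hy]
    have h1 : x' * y' = y' * x' := congrArg Subtype.val (hc.is_comm.comm ⟨x', hx'⟩ ⟨y', hy'⟩)
    show e x' * e y' = e y' * e x'
    rw [← map_mul, ← map_mul, h1]
  · rintro _ ⟨x', hx', rfl⟩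
    show e x' ^ 2 = 1
    rw [← map_pow, hs x' hx', map_one]

/-- the index bijection for the minus type -/
def σm (m : ℕ) : Fin (m + 1) ⊕ Fin (m + 1) ≃ (Fin m ⊕ Fin m) ⊕ Fin 2 where
  toFun := Sum.elim (Fin.lastCases (Sum.inr 0) (fun j => Sum.inl (Sum.inl j)))
    (Fin.lastCases (Sum.inr 1) (fun j => Sum.inl (Sum.inr j)))
  invFun := Sum.elim
    (Sum.elim (fun j => Sum.inl (Fin.castSucc j)) (fun j => Sum.inr (Fin.castSucc j)))
    (fun k => if k = 0 then Sum.inl (Fin.last m) else Sum.inr (Fin.last m))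
  left_inv := by
    rintro (i | i)
    · refine Fin.lastCases ?_ (fun j => ?_) i <;> simp
    · refine Fin.lastCases ?_ (fun j => ?_) i <;> simp
  right_inv := by
    rintro ((j | j) | k)
    · simp
    · simp
    · fin_cases k <;> simp

theorem σm_inl_castSucc (m : ℕ) (j : Fin m) :
    σm m (Sum.inl (Fin.castSucc j)) = Sum.inl (Sum.inl j) := by
  simp [σm]

theorem σm_inr_castSucc (m : ℕ) (j : Fin m) :
    σm m (Sum.inr (Fin.castSucc j)) = Sum.inl (Sum.inr j) := by
  simp [σm]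

theorem σm_inl_last (m : ℕ) : σm m (Sum.inl (Fin.last m)) = Sum.inr 0 := by
  simp [σm]

theorem σm_inr_last (m : ℕ) : σm m (Sum.inr (Fin.last m)) = Sum.inr 1 := by
  simp [σm]

/-- minus type: the diagonal form -/
theorem diag_minus (m : ℕ) (v : (Fin m ⊕ Fin m) ⊕ Fin 2 → ZMod 2) :
    Cfsg.quadFormMinus m (ZMod 2) 1 1 v =
      (fun w => βTH (sig 1 (m + 1)) (sig 1 (m + 1)) w w) (v ∘ σm m) := by
  show _ = βTH (sig 1 (m + 1)) (sig 1 (m + 1)) (v ∘ σm m) (v ∘ σm m)
  rw [βTH_apply, Fin.sum_univ_castSucc]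
  simp only [Function.comp_apply, σm_inl_castSucc, σm_inr_castSucc, σm_inl_last, σm_inr_last,
    sig_castSucc, sig_last, zero_mul, add_zero, one_mul]
  unfold Cfsg.quadFormMinus
  ring

/-- the number of singular vectors of the minus type form -/
theorem zeros_minus (m : ℕ) :
    2 * Nat.card {v : (Fin m ⊕ Fin m) ⊕ Fin 2 → ZMod 2 //
      Cfsg.quadFormMinus m (ZMod 2) 1 1 v = 0} + 2 ^ (m + 2) = 2 ^ (2 * m + 2) + 2 ^ (m + 1) := by
  have han := anisotropic_of (1 : ZMod 2) 1 (by decide)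
  have hz := binForm_zeros (1 : ZMod 2) 1 han
  have h := zeros_genForm_closed (binForm (1 : ZMod 2) 1) hz m
  rw [ZMod.card, Fintype.card_fin] at h
  have hfun : ⇑(genForm (binForm (1 : ZMod 2) 1) m) = Cfsg.quadFormMinus m (ZMod 2) 1 1 := by
    rw [← Cfsg.Agent.Lib.Helper6.OrthInv2Std.minusForm_eq_genForm, coe_minusForm]
  rw [hfun] at h
  exact h

end Cfsg.Agent.Lib.Helper6.ExtraOut
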