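import Mathlib
import Cfsg.Prelude
import Cfsg.Agent.Lib.Helper6.ExtraOut4

set_option autoImplicit false
set_option linter.unusedSectionVars false
set_option linter.unusedVariables false
set_option linter.unusedSimpArgs false
open Cfsg

/-! The outer automorphism groups of the extraspecial 2-groups: final assembly. -/

namespace Cfsg.Agent.Lib.Helper6.ExtraOut

open Matrix Cfsg.Agent.Lib.Helper5 Cfsg.Agent.Lib.Helper5.OrthCard Cfsg.Agent.Lib.Helper1.ES
  Cfsg.Agent.Lib.Helper5.OrthPlane Cfsg.Agent.Lib.Helper5.IsomReindex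

/-- the number of solutions of `x² = 1` in the minus type group -/
theorem count_minus (m : ℕ) :
    Nat.card {x : TH (sig 1 (m + 1)) (sig 1 (m + 1)) // x ^ 2 = 1} + 2 ^ (m + 2) =
      2 ^ (2 * m + 2) + 2 ^ (m + 1) := by
  rw [card_sq_congr (thEquiv (sig 1 (m + 1)) (sig 1 (m + 1))), QH.card_sq_eq_one]
  have h1 := card_zeros_reindex (σm m)
    (fun w => βTH (sig 1 (m + 1)) (sig 1 (m + 1)) w w) (Cfsg.quadFormMinus m (ZMod 2) 1 1)
    (diag_minus m)
  have h2 : Nat.card {v : Fin (m + 1) ⊕ Fin (m + 1) → ZMod 2 //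
      βTH (sig 1 (m + 1)) (sig 1 (m + 1)) v v = 0} =
      Nat.card {v : (Fin m ⊕ Fin m) ⊕ Fin 2 → ZMod 2 //
        Cfsg.quadFormMinus m (ZMod 2) 1 1 v = 0} := h1
  rw [h2]
  exact zeros_minus m

theorem out_extraspecial {E : Type*} [Group E] [Finite E] (hE : Cfsg.IsExtraspecial 2 E) (n : ℕ)
    (hn : 1 ≤ n) (hcard : Nat.card E = 2 ^ (2 * n + 1)) :
    ((∃ A : Subgroup E, Cfsg.IsElementaryAbelian 2 A ∧ Nat.card ↥A = 2 ^ (n + 1)) →
      Nonempty (Cfsg.Out E ≃* Cfsg.isometryGroup (ZMod 2) (Cfsg.quadFormPlus n (ZMod 2)))) ∧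
    ((¬ ∃ A : Subgroup E, Cfsg.IsElementaryAbelian 2 A ∧ Nat.card ↥A = 2 ^ (n + 1)) →
      Nonempty (Cfsg.Out E ≃*
        Cfsg.isometryGroup (ZMod 2) (Cfsg.quadFormMinus (n - 1) (ZMod 2) 1 1))) := by
  obtain ⟨k, ε, ⟨e⟩⟩ := extraspecial2_iso_th hE
  have hk : k = n := by
    have c1 := Nat.card_congr e.toEquiv
    rw [TH.card_th, Nat.card_zmod, hcard] at c1
    have := Nat.pow_right_injective (le_refl 2) c1
    omega
  subst hk
  rcases z2_cases ε with rfl | rfl
  · -- plus type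
    have hA : ∃ A : Subgroup E, Cfsg.IsElementaryAbelian 2 A ∧ Nat.card ↥A = 2 ^ (k + 1) := by
      refine ⟨(subA k).map e.toMonoidHom, elemAb_map e _ (subA_elemAb k), ?_⟩
      rw [Subgroup.card_map_of_injective (f := e.toMonoidHom) e.injective, card_subA]
    refine ⟨fun _ => ⟨?_⟩, fun h => absurd hA h⟩
    exact ((outCongr e.symm).trans (outCongr (thEquiv _ _))).trans
      ((QH.outEquiv (βTH_nondeg _ _)).trans (isometryGroupCongr _ _ (diag_plus k)))
  · -- minus type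
    obtain ⟨m, rfl⟩ : ∃ m, k = m + 1 := ⟨k - 1, by omega⟩
    have hA : ¬ ∃ A : Subgroup E, Cfsg.IsElementaryAbelian 2 A ∧
        Nat.card ↥A = 2 ^ (m + 1 + 1) := by
      rintro ⟨A, ⟨hc, hs⟩, hcA⟩
      have hcount := count_minus m
      rw [card_sq_congr e] at hcount
      obtain ⟨n', hn1, hc', hcl⟩ := Cfsg.Agent.Lib.Helper4.ES2.classify hE
      have hn' : n' = m + 1 := by
        rw [hcard] at hc'
        have := Nat.pow_right_injective (le_refl 2) hc'
        omega
      subst hn'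
      have e1 : 2 * (m + 1) = 2 * m + 2 := by ring
      rw [e1] at hcl
      have hp : 0 < 2 ^ (m + 2) := Nat.pow_pos (by norm_num)
      rcases hcl with ⟨c1, -, -⟩ | ⟨-, h2, -⟩
      · omega
      · have h3 := h2 A hc hs
        rw [hcA] at h3
        have h4 : 2 ^ (m + 1) < 2 ^ (m + 1 + 1) := Nat.pow_lt_pow_right (by norm_num) (by omega)
        omega
    refine ⟨fun h => absurd h hA, fun _ => ⟨?_⟩⟩
    rw [Nat.add_sub_cancel]
    exact ((outCongr e.symm).trans (outCongr (thEquiv _ _))).trans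
      ((QH.outEquiv (βTH_nondeg _ _)).trans
        (isometryGroupReindexMul (σm m) _ _ (diag_minus m)))

end Cfsg.Agent.Lib.Helper6.ExtraOut
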