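import Mathlib
import Cfsg.Prelude.Def_ChevF4
import Cfsg.Agent.Lib.Helper5.ChevOrder
import Cfsg.Agent.Lib.Helper5.ChevTorusKer
import Cfsg.Agent.Lib.Helper5.F4WCover
import Cfsg.Agent.Lib.Helper7.ChCentB
import Cfsg.Agent.Lib.Helper6.ChevCentChk
import Cfsg.Agent.Lib.Helper6.ChevCentChk2
import Cfsg.Agent.Lib.Helper6.F4InvDefs

set_option autoImplicit false

/-!
S4280 farm, units P3a / P3b: the orders of the centralizers of the two torus involutions
`tA = h_{α_1}(-1)`, `tB = h_{α_3}(-1)` of `F₄(q)`, `q` odd, from helper7's generic cell count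
(`ChCent.card_centralizer_hLam`), helper5's full table of `W(F₄)` and a kernel-checked histogram.
-/

namespace Cfsg.Agent.Lib.Helper6.F4Inv

open Cfsg Cfsg.Lie Cfsg.Agent.Lib.Helper5.ChevStruct Cfsg.Agent.Lib.Helper5.ChevSym
  Cfsg.Agent.Lib.Helper7.Ch2G Cfsg.Agent.Lib.Helper7.ChCent

variable {F : Type*} [Field F]

theorem h6_mem_tbl (R : CosetRec) (hR : R ∈ wtblF4_full) :
    ∃ t < 1152, R = wtblF4_full.getD t default := by
  obtain ⟨t, ht, rfl⟩ := List.mem_iff_getElem.1 hR
  refine ⟨t, by rw [← wtblF4_full_length]; exact ht, ?_⟩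
  rw [List.getD_eq_getElem _ _ ht]

theorem h6_tbl_mem (t : ℕ) (ht : t < 1152) : wtblF4_full.getD t default ∈ wtblF4_full := by
  have ht' : t < wtblF4_full.length := by rw [wtblF4_full_length]; exact ht
  rw [List.getD_eq_getElem _ _ ht']
  exact List.getElem_mem ht'

theorem h6_tbl_wd (R : CosetRec) (hR : R ∈ wtblF4_full) : Wd chevF4 R.wd := by
  obtain ⟨t, ht, rfl⟩ := h6_mem_tbl R hR
  exact (Cfsg.Agent.Lib.Helper5.F4W.tbl_facts t ht).1

/-- a numeric key of a list of root indices `< 64` -/
def h6_keyOf (l : List ℕ) : ℕ := l.foldr (fun x a => x + 64 * a) 0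

/-- Bool: the entries of a list of numbers are pairwise distinct -/
def h6_distinctB : List ℕ → Bool
  | [] => true
  | a :: l => l.all (fun b => !(Nat.beq a b)) && h6_distinctB l

theorem h6_distinctB_spec (l : List ℕ) (h : h6_distinctB l = true) : l.Nodup := by
  induction l with
  | nil => exact List.nodup_nil
  | cons a l ih =>
    unfold h6_distinctB at h
    rw [Bool.and_eq_true, List.all_eq_true] at h
    rw [List.nodup_cons]
    refine ⟨?_, ih h.2⟩
    intro ha
    have := h.1 a ha
    simp at this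

theorem h6_img_eq (s t : ℕ) (hs : s < 1152) (ht : t < 1152)
    (h : ∀ r < chevF4.nroots, wAct chevF4 (wtblF4_full.getD s default).wd r
      = wAct chevF4 (wtblF4_full.getD t default).wd r) :
    (wtblF4_full.getD s default).img = (wtblF4_full.getD t default).img := by
  have hs1 := (Cfsg.Agent.Lib.Helper5.F4W.tbl_facts s hs).2.1
  have ht1 := (Cfsg.Agent.Lib.Helper5.F4W.tbl_facts t ht).2.1
  have hs2 := (Cfsg.Agent.Lib.Helper5.F4W.tbl_next s hs 0 (by norm_num)).2.2
  have ht2 := (Cfsg.Agent.Lib.Helper5.F4W.tbl_next t ht 0 (by norm_num)).2.2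
  apply List.ext_getElem (by rw [hs2, ht2])
  intro j hj1 hj2
  have hj : j < 4 := by rw [hs2] at hj1; exact hj1
  have e1 := hs1 j hj
  have e2 := ht1 j hj
  rw [List.getD_eq_getElem _ _ hj1] at e1
  rw [List.getD_eq_getElem _ _ hj2] at e2
  rw [← e1, ← e2]
  exact h _ (simple_lt chevF4 memF4 j hj)

/-- the records of the table whose word preserves the parity table `par` -/
def recsOf (par : List Bool) : List CosetRec :=
  wtblF4_full.filter fun R => presT chevF4 par R.wd

theorem h6_recsOf_mem (par : List Bool) (R : CosetRec) (hR : R ∈ recsOf par) :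
    R ∈ wtblF4_full := (List.mem_filter.1 hR).1

theorem h6_presS0_iff (j : Fin chevF4.rank) (w : List ℕ) :
    PresS0 chevF4 (Pi.single j 1) w ↔ presB chevF4 j.val w = true := by
  rw [presB_iff]
  unfold PresS0
  simp only [h6_pairLam_single]

theorem card_centralizer_single [Fintype F] (hodd : Odd (Fintype.card F))
    (j : Fin chevF4.rank) (par : List Bool) (hpar : IsParTbl chevF4 j.val par)
    (ds : List ℕ) (N : ℕ) (hN : posEvenB chevF4 j.val = N)
    (hh : histo ((recsOf par).map fun R => cntT chevF4 par posF4 R.wd) = degPoly ds)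
    (hdist : h6_distinctB ((recsOf par).map fun R => h6_keyOf R.img) = true)
    (hlen : ds.length = 4) :
    Nat.card ↥(Subgroup.centralizer
      ({(⟨hLam chevF4 F (-1) (Pi.single j 1), hLam_mem_group chevF4 memF4 _ _⟩ :
        ↥(chevF4.group F))} : Set ↥(chevF4.group F)))
      = Fintype.card F ^ N * (ds.map fun d => Fintype.card F ^ d - 1).prod := by
  have hq : 1 ≤ Fintype.card F := Fintype.card_pos
  rw [card_centralizer_hLam hodd chevF4 memF4 (Pi.single j 1) ((recsOf par).map (·.wd))]
  · have e1 : (evenPart chevF4 (Pi.single j 1) (posT chevF4)).card = N := by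
      rw [← hN, ← posEvenB_eq]
      unfold evenPart posT
      rw [Finset.filter_filter]
      simp only [h6_pairLam_single]
    have e2 : (((recsOf par).map (·.wd)).map
        fun w => Fintype.card F ^ (evenPart chevF4 (Pi.single j 1) (negSet chevF4 w)).card).sum
          = (ds.map fun d => ∑ e ∈ Finset.range d, Fintype.card F ^ e).prod := by
      rw [← evalP_degPoly, ← hh]
      have e3 : ((recsOf par).map fun R => cntT chevF4 par posF4 R.wd)
          = ((recsOf par).map (·.wd)).map (cntB chevF4 j.val) := by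
        rw [List.map_map]
        apply List.map_congr_left
        intro R hR
        rw [Function.comp_apply]
        exact cntT_eq chevF4 memF4 j.val par posF4 hpar posF4_ok R.wd
          (h6_tbl_wd R (h6_recsOf_mem par R hR))
      rw [e3, ← sum_pow_cnt]
      unfold evenPart
      simp only [h6_pairLam_single]
    have e3 : Nat.card ↥(chevF4.diagonalSubgroup F) = (Fintype.card F - 1) ^ ds.length := by
      have := card_diagonal_formula (F := F) chevF4 memF4 1 (card_ker_F4 Fˣ)
      rw [one_mul] at this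
      rw [this, hlen]
      rfl
    rw [e1, e2, e3, ← pow_length_mul_prod_geom _ hq ds]
    ring
  · intro w hw
    obtain ⟨R, hR, rfl⟩ := List.mem_map.1 hw
    exact h6_tbl_wd R (h6_recsOf_mem par R hR)
  · intro w hw
    obtain ⟨R, hR, rfl⟩ := List.mem_map.1 hw
    have hR' := List.mem_filter.1 hR
    rw [h6_presS0_iff, ← presT_eq chevF4 memF4 j.val par hpar R.wd (h6_tbl_wd R hR'.1)]
    exact hR'.2
  · intro w hw hp
    obtain ⟨t, ht, hact⟩ := Cfsg.Agent.Lib.Helper5.F4W.cover_act w hw
    have hmem := h6_tbl_mem t ht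
    refine ⟨_, List.mem_map.2 ⟨_, List.mem_filter.2 ⟨hmem, ?_⟩, rfl⟩, hact⟩
    rw [presT_eq chevF4 memF4 j.val par hpar _ (h6_tbl_wd _ hmem),
      ← presB_congr chevF4 j.val w _ hact]
    exact (h6_presS0_iff j w).1 hp
  · rw [List.pairwise_map]
    have h := h6_distinctB_spec _ hdist
    unfold List.Nodup at h
    rw [List.pairwise_map] at h
    refine h.imp_of_mem ?_
    intro R S hR hS hne hact
    obtain ⟨s, hs, rfl⟩ := h6_mem_tbl R (h6_recsOf_mem par R hR)
    obtain ⟨t, ht, rfl⟩ := h6_mem_tbl S (h6_recsOf_mem par S hS)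
    exact hne (congrArg h6_keyOf (h6_img_eq s t hs ht hact))

set_option maxRecDepth 100000 in
theorem histA :
    histo ((recsOf parF4_1).map fun R => cntT chevF4 parF4_1 posF4 R.wd)
      = degPoly [2, 4, 6, 8] := by
  decide +kernel

set_option maxRecDepth 100000 in
theorem distA : h6_distinctB ((recsOf parF4_1).map fun R => h6_keyOf R.img) = true := by
  decide +kernel

set_option maxRecDepth 100000 in
theorem histB :
    histo ((recsOf parF4_3).map fun R => cntT chevF4 parF4_3 posF4 R.wd)
      = degPoly [2, 2, 4, 6] := by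
  decide +kernel

set_option maxRecDepth 100000 in
theorem distB : h6_distinctB ((recsOf parF4_3).map fun R => h6_keyOf R.img) = true := by
  decide +kernel

/-- **P3a** -/
theorem card_centralizer_tA [Fintype F] (hodd : Odd (Fintype.card F)) :
    Nat.card ↥(Subgroup.centralizer
      ({(⟨tA F, tA_mem⟩ : ↥(Cfsg.Lie.chevF4.group F))} : Set ↥(Cfsg.Lie.chevF4.group F)))
      = Fintype.card F ^ 16 * (Fintype.card F ^ 2 - 1) * (Fintype.card F ^ 4 - 1)
        * (Fintype.card F ^ 6 - 1) * (Fintype.card F ^ 8 - 1) := by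
  have h := card_centralizer_single (F := F) hodd j1 parF4_1 parF4_1_ok [2, 4, 6, 8] 16
    (by decide +kernel) histA distA rfl
  refine h.trans ?_
  simp only [List.map_cons, List.map_nil, List.prod_cons, List.prod_nil]
  ring

/-- **P3b** -/
theorem card_centralizer_tB [Fintype F] (hodd : Odd (Fintype.card F)) :
    Nat.card ↥(Subgroup.centralizer
      ({(⟨tB F, tB_mem⟩ : ↥(Cfsg.Lie.chevF4.group F))} : Set ↥(Cfsg.Lie.chevF4.group F)))
      = Fintype.card F ^ 10 * (Fintype.card F ^ 2 - 1) ^ 2 * (Fintype.card F ^ 4 - 1)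
        * (Fintype.card F ^ 6 - 1) := by
  have h := card_centralizer_single (F := F) hodd j3 parF4_3 parF4_3_ok [2, 2, 4, 6] 10
    (by decide +kernel) histB distB rfl
  refine h.trans ?_
  simp only [List.map_cons, List.map_nil, List.prod_cons, List.prod_nil]
  ring

end Cfsg.Agent.Lib.Helper6.F4Inv
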