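import Mathlib
import Cfsg.Agent.Lib.Helper6.F4EvDefs
import Cfsg.Agent.Lib.Helper6.F4EvA1

set_option autoImplicit false

/-!
# Farm F4EV (S2174), unit C : the eleven non-trivial local maxima of `W(F₄)` are conjugate to
the seven representatives `w_J`
-/

namespace Cfsg.Agent.Lib.Helper6.F4Ev

open Cfsg Cfsg.Lie Cfsg.Agent.Lib.Helper5.ChevSym Cfsg.Agent.Lib.Helper5.ChevStruct
  Cfsg.Agent.Lib.Helper5.F4T

/-- for the `k`-th local maximum: the index `j` of the representative and the conjugating word -/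
def lmConj : List (ℕ × List ℕ) :=
  [(0, []), (0, [1, 2, 3, 1, 2, 1, 0]), (1, [2, 1, 2, 0, 1, 2, 3]), (3, [3, 2, 0, 1, 2, 3, 1, 0]),
   (2, [2, 1, 2, 3, 1, 2, 0, 1, 2, 0]), (2, [2, 1, 2, 3, 1, 2, 0, 1, 2, 1]),
   (2, [2, 1, 2, 0, 1, 2, 3, 2, 0, 1]), (4, [3, 2, 1, 2, 0, 1, 2]), (4, [3, 2, 1, 2, 3, 0, 1]),
   (5, [0, 1, 2, 3, 1, 2, 0]), (5, [0, 1, 2, 3, 1, 2, 1]), (6, [])]

def chkC (k : ℕ) : Bool :=
  let j := (lmConj.getD k (0, [])).1
  let u := (lmConj.getD k (0, [])).2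
  Nat.blt j 7 && u.all (fun i => Nat.blt i 4) && (lmF.getD k []).all (fun i => Nat.blt i 4) &&
    (repF.getD j []).all (fun i => Nat.blt i 4) &&
    (List.range 48).all fun r =>
      wAct chevF4 (u ++ lmF.getD k [] ++ u.reverse) r == wAct chevF4 (repF.getD j []) r

set_option maxRecDepth 1000000 in
theorem chkC_all : ∀ k < 12, 1 ≤ k → chkC k = true := by decide +kernel

variable {F : Type*} [Field F]

/-- **Unit C.** -/
theorem C_lm_conj_rep [CharP F 2] (k : ℕ) (hk1 : 1 ≤ k) (hk : k < 12) :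
    ∃ u : List ℕ, Wd chevF4 u ∧ ∃ j < 7,
      (wGL chevF4 hF4 u * wGL chevF4 hF4 (lmF.getD k []) * (wGL chevF4 hF4 u)⁻¹ :
        GL chevF4.Idx F) = wGL chevF4 hF4 (repF.getD j []) := by
  have h := chkC_all k hk hk1
  unfold chkC at h
  simp only [Bool.and_eq_true, List.all_eq_true, List.mem_range, beq_iff_eq, Nat.blt_eq] at h
  obtain ⟨⟨⟨⟨hj, hu⟩, hl⟩, hr⟩, hact⟩ := h
  have hu' : Wd chevF4 (lmConj.getD k (0, [])).2 := hu
  have hl' : Wd chevF4 (lmF.getD k []) := hl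
  have hr' : Wd chevF4 (repF.getD (lmConj.getD k (0, [])).1 []) := hr
  refine ⟨_, hu', _, hj, ?_⟩
  rw [wGL_reverse_char2 chevF4 hF4 _ hu', ← wGL_append, ← wGL_append]
  exact A1h_wGL_congr chevF4 hF4 _ _ ((hu'.append hl').append hu'.reverse) hr' hact

end Cfsg.Agent.Lib.Helper6.F4Ev
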