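import Mathlib
import Cfsg.Agent.Lib.Helper6.F4EvDefs
import Cfsg.Agent.Lib.Helper5.F4WCover

set_option autoImplicit false

/-!
# Farm F4EV (S2174), unit T : the local maxima of `W(F₄)` from the table of 1152 elements
-/

namespace Cfsg.Agent.Lib.Helper6.F4Ev

open Cfsg Cfsg.Lie Cfsg.Agent.Lib.Helper5.ChevSym Cfsg.Agent.Lib.Helper5.ChevStruct
  Cfsg.Agent.Lib.Helper5.F4T Cfsg.Agent.Lib.Helper5.F4W

/-- the images of the fundamental roots under the twelve local maxima -/
def lmImg : List (List ℕ) :=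
  [[33, 27, 25, 24], [7, 27, 25, 24], [33, 27, 25, 1], [10, 27, 25, 15], [13, 27, 16, 24],
   [33, 13, 21, 24], [33, 12, 25, 21], [14, 20, 21, 24], [14, 19, 25, 21], [13, 27, 17, 23],
   [33, 13, 22, 23], [14, 20, 22, 23]]

/-- the words `L` of `w_J` for the twelve local maxima -/
def lmL : List (List ℕ) :=
  [[3, 2, 1, 2, 0, 1, 2, 3, 2, 1, 2, 0, 1, 2, 3, 2, 1, 2, 0, 1, 2, 0, 1, 0],
   [3, 2, 1, 2, 3, 2, 1, 2, 1], [2, 1, 2, 0, 1, 2, 0, 1, 0], [2, 1, 2, 1], [3, 1], [3, 0], [2, 0],
   [3], [2], [1], [0], []]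

/-- the test on the images of the fundamental roots -/
def chkLM (img : List ℕ) : Bool :=
  !((List.range 4).all fun j =>
      (!decide (chevF4.IsPosRoot (img.getD j 0))) || (img.getD j 0 == chevF4.simple j)) ||
    lmImg.contains img

set_option maxRecDepth 1000000 in
theorem chkLM_all : wtblF4_full.all (fun c => chkLM c.img) = true := by decide +kernel

set_option maxRecDepth 1000000 in
theorem lmImg_spec : ∀ k < 12, Wd chevF4 (lmF.getD k []) ∧ (lmImg.getD k []).length = 4 ∧
    ∀ j < 4, wAct chevF4 (lmF.getD k []) (chevF4.simple j) = (lmImg.getD k []).getD j 0 := by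
  unfold Wd
  decide +kernel

/-- **Unit T1.** a local maximum acts like one of the twelve words `lmF` -/
theorem T1_locmax_cases (w : List ℕ) (hw : Wd chevF4 w) (hl : LocMax chevF4 w) :
    ∃ k < 12, ∀ r < 48, wAct chevF4 w r = wAct chevF4 (lmF.getD k []) r := by
  obtain ⟨t, ht, h⟩ := cover w hw
  have hlen : t < wtblF4_full.length := by rw [wtblF4_full_length]; exact ht
  have hmem : wtblF4_full.getD t default ∈ wtblF4_full := by
    rw [List.getD_eq_getElem _ _ hlen]
    exact List.getElem_mem hlen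
  have h1 := List.all_eq_true.1 chkLM_all _ hmem
  set img := (wtblF4_full.getD t default).img with himg
  have hloc : ((List.range 4).all fun j =>
      (!decide (chevF4.IsPosRoot (img.getD j 0))) || (img.getD j 0 == chevF4.simple j)) = true := by
    rw [List.all_eq_true]
    intro j hj
    have hj4 : j < 4 := List.mem_range.1 hj
    rw [← h j hj4]
    rcases hl j hj4 with h2 | h2
    · simp [h2]
    · simp [h2]
  have h2 : lmImg.contains img = true := by
    unfold chkLM at h1
    rw [hloc] at h1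
    simpa using h1
  rw [List.contains_iff_mem, List.mem_iff_getElem] at h2
  obtain ⟨k, hk, e⟩ := h2
  have hk12 : k < 12 := hk
  refine ⟨k, hk12, ?_⟩
  obtain ⟨hwd, hlen4, hspec⟩ := lmImg_spec k hk12
  have e2 : lmImg.getD k [] = img := by
    rw [List.getD_eq_getElem _ _ hk]; exact e
  apply wAct_eq_of_simple chevF4 memF4 w _ hw hwd
  intro j hj
  have hj4 : j < 4 := hj
  rw [h j hj4, hspec j hj4, e2]

/-- the check of the hypothesis `HypB` on the twelve words -/
def chkHB (k : ℕ) : Bool :=
  let w := lmF.getD k []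
  let L := lmL.getD k []
  (L.all fun i => Nat.blt i 4 && (wAct chevF4 w (chevF4.simple i) == chevF4.simple i) &&
    (List.range 48).all fun r => wAct chevF4 (i :: w) r == wAct chevF4 (w ++ [i]) r) &&
  (List.range 48).all fun r => wAct chevF4 (w ++ L) r == wAct chevF4 w0F r

set_option maxRecDepth 1000000 in
theorem chkHB_all : (List.range 12).all chkHB = true := by decide +kernel

theorem reflectRoot_lt48 (i : ℕ) (hi : i < 4) (r : ℕ) (hr : r < 48) :
    chevF4.reflectRoot i r < 48 :=
  (reflectRoot_invol chevF4 memF4 i hi r hr).1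

/-- **Unit T2.** the hypothesis on the Weyl group holds for `F₄` -/
theorem T2_hypB : HypB chevF4 w0F := by
  intro w hw _ hl
  obtain ⟨k, hk, hact⟩ := T1_locmax_cases w hw hl
  have hchk := List.all_eq_true.1 chkHB_all k (List.mem_range.2 hk)
  unfold chkHB at hchk
  simp only [Bool.and_eq_true, List.all_eq_true, List.mem_range, beq_iff_eq, Nat.blt_eq] at hchk
  obtain ⟨h1, h2⟩ := hchk
  obtain ⟨hwd, -, -⟩ := lmImg_spec k hk
  refine ⟨lmL.getD k [], ?_, ?_⟩
  · intro i hi
    obtain ⟨⟨hi4, hfix⟩, hcomm⟩ := h1 i hi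
    have hs : chevF4.simple i < 48 := simple_lt chevF4 memF4 i hi4
    refine ⟨hi4, ?_, ?_⟩
    · rw [hact _ hs, hfix]
    · intro r hr
      have hr48 : r < 48 := hr
      have e1 : wAct chevF4 (i :: w) r = chevF4.reflectRoot i (wAct chevF4 w r) := rfl
      have e2 : wAct chevF4 (i :: lmF.getD k []) r
          = chevF4.reflectRoot i (wAct chevF4 (lmF.getD k []) r) := rfl
      rw [e1, hact r hr48, ← e2, hcomm r hr48, wAct_append, wAct_append]
      exact (hact _ (reflectRoot_lt48 i hi4 r hr48)).symm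
  · intro r hr
    have hr48 : r < 48 := hr
    have hLwd : Wd chevF4 (lmL.getD k []) := fun i hi => (h1 i hi).1.1
    rw [wAct_append, hact _ (wAct_lt chevF4 memF4 _ hLwd r hr48), ← wAct_append]
    exact h2 r hr48

end Cfsg.Agent.Lib.Helper6.F4Ev
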