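import Mathlib
import Cfsg.Prelude.Def_ChevF4
import Cfsg.Agent.Lib.Helper5.ChevGen
import Cfsg.Agent.Lib.Helper7.G2CentT
import Cfsg.Agent.Lib.Helper2.F4DiagInv
import Cfsg.Agent.Lib.Helper6.F4InvDefs
import Cfsg.Agent.Lib.Helper6.F4CentFinal

set_option autoImplicit false

/-!
S4280 (F₄(q), q odd: exactly two classes of involutions, with the centralizer orders):
the assembly, with Part I (every involution is conjugate into `H`) as a hypothesis.
-/

namespace Cfsg.Agent.Lib.Helper6.F4Inv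

open Cfsg Cfsg.Lie Cfsg.Agent.Lib.Helper5.ChevStruct Cfsg.Agent.Lib.Helper5.ChevSym
  Cfsg.Agent.Lib.Helper7.Ch2G

variable {F : Type*} [Field F]

/-- conjugate elements have centralizers of the same order -/
theorem card_centralizer_of_isConj {G : Type*} [Group G] {s t : G} (h : IsConj s t) :
    Nat.card ↥(Subgroup.centralizer ({s} : Set G))
      = Nat.card ↥(Subgroup.centralizer ({t} : Set G)) := by
  obtain ⟨c, hc⟩ := isConj_iff.1 h
  have e := Cfsg.Agent.Lib.Helper7.G2CentT.centralizer_map_equiv (MulAut.conj c) s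
  have e2 : (MulAut.conj c) s = t := by rw [MulAut.conj_apply]; exact hc
  rw [e2] at e
  rw [← e]
  exact (Nat.card_congr ((MulAut.conj c).subgroupMap _).toEquiv)

/-- the two orders are different -/
theorem orders_ne (q : ℕ) (hq : 2 ≤ q) :
    q ^ 16 * (q ^ 2 - 1) * (q ^ 4 - 1) * (q ^ 6 - 1) * (q ^ 8 - 1)
      ≠ q ^ 10 * (q ^ 2 - 1) ^ 2 * (q ^ 4 - 1) * (q ^ 6 - 1) := by
  have h2 : 1 ≤ q ^ 2 - 1 := by
    have : 4 ≤ q ^ 2 := by nlinarith
    omega
  have h4 : 1 ≤ q ^ 4 - 1 := by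
    have : 4 ≤ q ^ 4 := by
      nlinarith [pow_pos (show 0 < q by omega) 2, pow_pos (show 0 < q by omega) 4]
    omega
  have h6 : 1 ≤ q ^ 6 - 1 := by
    have : 2 ≤ q ^ 6 := by
      calc 2 ≤ q := hq
        _ = q ^ 1 := (pow_one q).symm
        _ ≤ q ^ 6 := Nat.pow_le_pow_right (by omega) (by omega)
    omega
  have hlt : q ^ 2 - 1 < q ^ 6 * (q ^ 8 - 1) := by
    have h8 : 1 ≤ q ^ 8 - 1 := by
      have : 2 ≤ q ^ 8 := by
        calc 2 ≤ q := hq
          _ = q ^ 1 := (pow_one q).symm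
          _ ≤ q ^ 8 := Nat.pow_le_pow_right (by omega) (by omega)
      omega
    have : q ^ 2 ≤ q ^ 6 := Nat.pow_le_pow_right (by omega) (by omega)
    calc q ^ 2 - 1 < q ^ 2 := by omega
      _ ≤ q ^ 6 := this
      _ = q ^ 6 * 1 := (mul_one _).symm
      _ ≤ q ^ 6 * (q ^ 8 - 1) := Nat.mul_le_mul_left _ h8
  intro h
  have hpos : 0 < q ^ 10 * (q ^ 2 - 1) * (q ^ 4 - 1) * (q ^ 6 - 1) := by positivity
  have e1 : q ^ 16 * (q ^ 2 - 1) * (q ^ 4 - 1) * (q ^ 6 - 1) * (q ^ 8 - 1)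
      = (q ^ 10 * (q ^ 2 - 1) * (q ^ 4 - 1) * (q ^ 6 - 1)) * (q ^ 6 * (q ^ 8 - 1)) := by ring
  have e2 : q ^ 10 * (q ^ 2 - 1) ^ 2 * (q ^ 4 - 1) * (q ^ 6 - 1)
      = (q ^ 10 * (q ^ 2 - 1) * (q ^ 4 - 1) * (q ^ 6 - 1)) * (q ^ 2 - 1) := by ring
  rw [e1, e2] at h
  have := Nat.eq_of_mul_eq_mul_left hpos h
  omega

/-- **S4280**, from Part I as a hypothesis -/
theorem s4280_of [Fintype F] (hF : Odd (Fintype.card F))
    (hP1 : ∀ t : GL chevF4.Idx F, t ∈ chevF4.group F → t * t = 1 →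
      ∃ g ∈ chevF4.group F, g * t * g⁻¹ ∈ chevF4.diagonalSubgroup F) :
    ∃ s t : ↥(Cfsg.Lie.chevF4.group F), orderOf s = 2 ∧ orderOf t = 2 ∧ ¬ IsConj s t ∧
      (∀ u : ↥(Cfsg.Lie.chevF4.group F), orderOf u = 2 → IsConj u s ∨ IsConj u t) ∧
      Nat.card (Subgroup.centralizer ({s} : Set ↥(Cfsg.Lie.chevF4.group F)))
        = Fintype.card F ^ 16 * (Fintype.card F ^ 2 - 1) * (Fintype.card F ^ 4 - 1)
          * (Fintype.card F ^ 6 - 1) * (Fintype.card F ^ 8 - 1) ∧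
      Nat.card (Subgroup.centralizer ({t} : Set ↥(Cfsg.Lie.chevF4.group F)))
        = Fintype.card F ^ 10 * (Fintype.card F ^ 2 - 1) ^ 2 * (Fintype.card F ^ 4 - 1)
          * (Fintype.card F ^ 6 - 1) := by
  have hq : 2 ≤ Fintype.card F := Fintype.one_lt_card
  refine ⟨⟨tA F, tA_mem⟩, ⟨tB F, tB_mem⟩, ?_, ?_, ?_, ?_, card_centralizer_tA hF,
    card_centralizer_tB hF⟩
  · apply Cfsg.Agent.Lib.Helper7.G2CentT.orderOf_eq_two_of
    · exact Subtype.ext tA_sq
    · intro h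
      exact tA_ne_one hF (congrArg Subtype.val h)
  · apply Cfsg.Agent.Lib.Helper7.G2CentT.orderOf_eq_two_of
    · exact Subtype.ext tB_sq
    · intro h
      exact tB_ne_one hF (congrArg Subtype.val h)
  · intro hc
    have := card_centralizer_of_isConj hc
    rw [card_centralizer_tA hF, card_centralizer_tB hF] at this
    exact orders_ne _ hq this
  · intro u hu
    have hu2 : (u : GL chevF4.Idx F) * u = 1 := by
      have : u ^ 2 = 1 := by rw [← hu]; exact pow_orderOf_eq_one u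
      have h := congrArg Subtype.val this
      simpa [pow_two] using h
    have hu1 : (u : GL chevF4.Idx F) ≠ 1 := by
      intro h
      have : u = 1 := Subtype.ext h
      rw [this, orderOf_one] at hu
      omega
    obtain ⟨g, hg, hgd⟩ := hP1 u u.2 hu2
    have hd2 : (g * u * g⁻¹) * (g * u * g⁻¹) = 1 := by
      calc (g * (u : GL chevF4.Idx F) * g⁻¹) * (g * u * g⁻¹) = g * (u * u) * g⁻¹ := by group
        _ = 1 := by rw [hu2, mul_one, mul_inv_cancel]
    have hd1 : g * (u : GL chevF4.Idx F) * g⁻¹ ≠ 1 := by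
      intro h
      apply hu1
      have : (u : GL chevF4.Idx F) = g⁻¹ * (g * u * g⁻¹) * g := by group
      rw [this, h]; group
    obtain ⟨n, hn, hcase⟩ := Cfsg.Agent.Lib.Helper2.F4Inv.diag_invol_F4 _ hgd hd2 hd1
    have hnG : n ∈ chevF4.group F := monomial_le_group chevF4 memF4 hn
    rcases hcase with h | h
    · left
      rw [isConj_iff]
      refine ⟨⟨n * g, mul_mem hnG hg⟩, Subtype.ext ?_⟩
      show (n * g) * (u : GL chevF4.Idx F) * (n * g)⁻¹ = tA F
      rw [← h]; group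
    · right
      rw [isConj_iff]
      refine ⟨⟨n * g, mul_mem hnG hg⟩, Subtype.ext ?_⟩
      show (n * g) * (u : GL chevF4.Idx F) * (n * g)⁻¹ = tB F
      rw [← h]; group

end Cfsg.Agent.Lib.Helper6.F4Inv
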