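import Mathlib
import Cfsg.Prelude.Def_FusionComponents
import Cfsg.Agent.Lib.Helper9.FusionBasic
import Cfsg.Agent.Lib.Helper9.FusionIso
import Cfsg.Agent.Lib.Helper9.FusionAut
import Cfsg.Agent.Lib.Helper9.FactorSys3
import Cfsg.Agent.Lib.Helper9.NormalSeries
import Cfsg.Agent.Lib.Helper9.TransportConstrained

/-!
# Transport of fusion systems along a local isomorphism: core definitions

`e : R ≃* R'` with `R ≤ Ω`, `R' ≤ Ω'`.  Subgroups `P ≤ R` are carried to `imP e P ≤ R'`,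
homomorphisms `φ : P →* Ω` with values in `R` to `conjH e hP φ hφ : imP e P →* Ω'`.
-/

set_option autoImplicit false

namespace Cfsg.Agent.Lib.Helper6.FT

open Cfsg Cfsg.FusionSystem Cfsg.Agent.Lib.Helper9

variable {Ω Ω' : Type*} [Group Ω] [Group Ω'] {R : Subgroup Ω} {R' : Subgroup Ω'}

/-- the homomorphism `R →* Ω'` underlying a local isomorphism -/
def fwd (e : R ≃* R') : R →* Ω' := R'.subtype.comp e.toMonoidHom

theorem fwd_apply (e : R ≃* R') (x : R) : fwd e x = ((e x : R') : Ω') := rfl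

theorem fwd_injective (e : R ≃* R') : Function.Injective (fwd e) :=
  fun _ _ h => e.injective (Subtype.ext h)

theorem fwd_range (e : R ≃* R') : (fwd e).range = R' := by
  ext y
  constructor
  · rintro ⟨x, rfl⟩
    exact (e x).2
  · intro hy
    exact ⟨e.symm ⟨y, hy⟩, by simp [fwd_apply]⟩

/-- image of a subgroup -/
def imP (e : R ≃* R') (P : Subgroup Ω) : Subgroup Ω' := imageAlong (fwd e) P

theorem mem_imP (e : R ≃* R') (P : Subgroup Ω) (y : Ω') :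
    y ∈ imP e P ↔ ∃ (x : Ω) (hx : x ∈ R), x ∈ P ∧ ((e ⟨x, hx⟩ : R') : Ω') = y :=
  mem_imageAlong (fwd e) P y

theorem imP_le (e : R ≃* R') (P : Subgroup Ω) : imP e P ≤ R' := by
  intro y hy
  obtain ⟨x, hx, -, rfl⟩ := (mem_imP e P y).mp hy
  exact (e ⟨x, hx⟩).2

theorem map_mem_imP (e : R ≃* R') {P : Subgroup Ω} {x : Ω} (hx : x ∈ R) (hxP : x ∈ P) :
    ((e ⟨x, hx⟩ : R') : Ω') ∈ imP e P := (mem_imP e P _).mpr ⟨x, hx, hxP, rfl⟩

theorem symm_mem_of_mem_imP (e : R ≃* R') {P : Subgroup Ω} {y : Ω'} (hy : y ∈ imP e P) :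
    ((e.symm ⟨y, imP_le e P hy⟩ : R) : Ω) ∈ P := by
  obtain ⟨x, hx, hxP, rfl⟩ := (mem_imP e P y).mp hy
  have : (⟨((e ⟨x, hx⟩ : R') : Ω'), imP_le e P hy⟩ : R') = e ⟨x, hx⟩ := Subtype.ext rfl
  rw [this, MulEquiv.symm_apply_apply]
  exact hxP

theorem imP_symm_imP (e : R ≃* R') {P : Subgroup Ω} (hP : P ≤ R) :
    imP e.symm (imP e P) = P := by
  ext x
  constructor
  · intro hx
    obtain ⟨y, hy, hyP, rfl⟩ := (mem_imP e.symm (imP e P) x).mp hx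
    exact symm_mem_of_mem_imP e hyP
  · intro hx
    refine (mem_imP e.symm (imP e P) x).mpr ⟨((e ⟨x, hP hx⟩ : R') : Ω'), (e ⟨x, hP hx⟩).2,
      map_mem_imP e (hP hx) hx, ?_⟩
    have : (⟨((e ⟨x, hP hx⟩ : R') : Ω'), (e ⟨x, hP hx⟩).2⟩ : R') = e ⟨x, hP hx⟩ := Subtype.ext rfl
    rw [this, MulEquiv.symm_apply_apply]

theorem imP_imP_symm (e : R ≃* R') {P' : Subgroup Ω'} (hP' : P' ≤ R') :
    imP e (imP e.symm P') = P' := by
  have := imP_symm_imP e.symm hP'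
  rwa [MulEquiv.symm_symm] at this

theorem imP_mono (e : R ≃* R') {P Q : Subgroup Ω} (h : P ≤ Q) : imP e P ≤ imP e Q :=
  imageAlong_mono (fwd e) h

theorem imP_le_imP_iff (e : R ≃* R') {P Q : Subgroup Ω} (hP : P ≤ R) (hQ : Q ≤ R) :
    imP e P ≤ imP e Q ↔ P ≤ Q := by
  constructor
  · intro h
    have := imP_mono e.symm h
    rwa [imP_symm_imP e hP, imP_symm_imP e hQ] at this
  · exact imP_mono e

theorem imP_inj (e : R ≃* R') {P Q : Subgroup Ω} (hP : P ≤ R) (hQ : Q ≤ R) :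
    imP e P = imP e Q ↔ P = Q := by
  constructor
  · intro h
    exact le_antisymm ((imP_le_imP_iff e hP hQ).mp h.le) ((imP_le_imP_iff e hQ hP).mp h.ge)
  · rintro rfl
    rfl

theorem imP_top (e : R ≃* R') : imP e R = R' := imageAlong_top' (fwd e) (fwd_range e)

theorem imP_bot (e : R ≃* R') : imP e ⊥ = ⊥ := imageAlong_bot (fwd e)

theorem imP_sup (e : R ≃* R') {P Q : Subgroup Ω} (hP : P ≤ R) (hQ : Q ≤ R) :
    imP e (P ⊔ Q) = imP e P ⊔ imP e Q := by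
  apply le_antisymm
  · have h1 : P ⊔ Q ≤ imP e.symm (imP e P ⊔ imP e Q) := by
      apply sup_le
      · have := imP_mono e.symm (le_sup_left : imP e P ≤ imP e P ⊔ imP e Q)
        rwa [imP_symm_imP e hP] at this
      · have := imP_mono e.symm (le_sup_right : imP e Q ≤ imP e P ⊔ imP e Q)
        rwa [imP_symm_imP e hQ] at this
    have h2 := imP_mono e h1
    rwa [imP_imP_symm e (sup_le (imP_le e P) (imP_le e Q))] at h2
  · exact sup_le (imP_mono e le_sup_left) (imP_mono e le_sup_right)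

theorem exists_imP_eq (e : R ≃* R') {P' : Subgroup Ω'} (hP' : P' ≤ R') :
    ∃ P : Subgroup Ω, P ≤ R ∧ imP e P = P' :=
  ⟨imP e.symm P', imP_le e.symm P', imP_imP_symm e hP'⟩

theorem imP_eq_bot_iff (e : R ≃* R') {P : Subgroup Ω} (hP : P ≤ R) : imP e P = ⊥ ↔ P = ⊥ := by
  rw [← imP_bot e, imP_inj e hP bot_le]

/-- restriction of the local isomorphism to a subgroup -/
noncomputable def eP (e : R ≃* R') {P : Subgroup Ω} (hP : P ≤ R) : P ≃* imP e P where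
  toFun x := ⟨((e ⟨x, hP x.2⟩ : R') : Ω'), map_mem_imP e (hP x.2) x.2⟩
  invFun y := ⟨((e.symm ⟨y, imP_le e P y.2⟩ : R) : Ω), symm_mem_of_mem_imP e y.2⟩
  left_inv x := by
    apply Subtype.ext
    show ((e.symm ⟨((e ⟨x, hP x.2⟩ : R') : Ω'), _⟩ : R) : Ω) = x
    have : (⟨((e ⟨x, hP x.2⟩ : R') : Ω'), (e ⟨x, hP x.2⟩).2⟩ : R') = e ⟨x, hP x.2⟩ :=
      Subtype.ext rfl
    rw [this, MulEquiv.symm_apply_apply]
  right_inv y := by
    apply Subtype.ext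
    show ((e ⟨((e.symm ⟨y, imP_le e P y.2⟩ : R) : Ω), _⟩ : R') : Ω') = y
    have : (⟨((e.symm ⟨y, imP_le e P y.2⟩ : R) : Ω), (e.symm ⟨y, imP_le e P y.2⟩).2⟩ : R)
        = e.symm ⟨y, imP_le e P y.2⟩ := Subtype.ext rfl
    rw [this, MulEquiv.apply_symm_apply]
  map_mul' x y := by
    apply Subtype.ext
    show ((e ⟨((x * y : P) : Ω), _⟩ : R') : Ω')
      = ((e ⟨x, hP x.2⟩ : R') : Ω') * ((e ⟨y, hP y.2⟩ : R') : Ω')
    have : (⟨((x * y : P) : Ω), hP (x * y).2⟩ : R) = ⟨x, hP x.2⟩ * ⟨y, hP y.2⟩ := rfl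
    rw [this, map_mul]
    rfl

theorem eP_apply (e : R ≃* R') {P : Subgroup Ω} (hP : P ≤ R) (x : P) :
    ((eP e hP x : imP e P) : Ω') = ((e ⟨x, hP x.2⟩ : R') : Ω') := rfl

theorem eP_symm_apply (e : R ≃* R') {P : Subgroup Ω} (hP : P ≤ R) (y : imP e P) :
    (((eP e hP).symm y : P) : Ω) = ((e.symm ⟨y, imP_le e P y.2⟩ : R) : Ω) := rfl

theorem card_imP (e : R ≃* R') {P : Subgroup Ω} (hP : P ≤ R) : Nat.card (imP e P) = Nat.card P :=
  (Nat.card_congr (eP e hP).toEquiv).symm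

/-- transport of a homomorphism -/
noncomputable def conjH (e : R ≃* R') {P : Subgroup Ω} (hP : P ≤ R) (φ : P →* Ω)
    (hφ : ∀ x, φ x ∈ R) : imP e P →* Ω' :=
  (fwd e).comp ((φ.codRestrict R hφ).comp (eP e hP).symm.toMonoidHom)

theorem conjH_eP (e : R ≃* R') {P : Subgroup Ω} (hP : P ≤ R) (φ : P →* Ω)
    (hφ : ∀ x, φ x ∈ R) (x : P) :
    conjH e hP φ hφ (eP e hP x) = ((e ⟨φ x, hφ x⟩ : R') : Ω') := by
  simp [conjH, fwd_apply]

theorem conjH_apply (e : R ≃* R') {P : Subgroup Ω} (hP : P ≤ R) (φ : P →* Ω)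
    (hφ : ∀ x, φ x ∈ R) (x : P) (h : ((e ⟨x, hP x.2⟩ : R') : Ω') ∈ imP e P) :
    conjH e hP φ hφ ⟨((e ⟨x, hP x.2⟩ : R') : Ω'), h⟩ = ((e ⟨φ x, hφ x⟩ : R') : Ω') :=
  conjH_eP e hP φ hφ x

theorem conjH_mem (e : R ≃* R') {P : Subgroup Ω} (hP : P ≤ R) (φ : P →* Ω)
    (hφ : ∀ x, φ x ∈ R) (y : imP e P) : conjH e hP φ hφ y ∈ R' := by
  obtain ⟨x, rfl⟩ := (eP e hP).surjective y
  rw [conjH_eP]
  exact (e _).2

theorem conjH_ext (e : R ≃* R') {P : Subgroup Ω} (hP : P ≤ R) {φ' ψ' : imP e P →* Ω'}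
    (h : ∀ x : P, φ' (eP e hP x) = ψ' (eP e hP x)) : φ' = ψ' := by
  ext y
  obtain ⟨x, rfl⟩ := (eP e hP).surjective y
  exact h x

theorem exists_conjH_eq (e : R ≃* R') {P : Subgroup Ω} (hP : P ≤ R) (φ' : imP e P →* Ω')
    (hφ' : ∀ y, φ' y ∈ R') :
    ∃ (φ : P →* Ω) (hφ : ∀ x, φ x ∈ R), conjH e hP φ hφ = φ' := by
  refine ⟨(fwd e.symm).comp ((φ'.codRestrict R' hφ').comp (eP e hP).toMonoidHom), ?_, ?_⟩
  · intro x
    exact (e.symm _).2
  · apply conjH_ext e hP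
    intro x
    refine (conjH_eP e hP _ _ x).trans ?_
    show ((e ⟨((e.symm ⟨φ' (eP e hP x), _⟩ : R) : Ω), _⟩ : R') : Ω') = φ' (eP e hP x)
    have : (⟨((e.symm ⟨φ' (eP e hP x), hφ' _⟩ : R) : Ω), (e.symm ⟨φ' (eP e hP x), hφ' _⟩).2⟩ : R)
        = e.symm ⟨φ' (eP e hP x), hφ' _⟩ := Subtype.ext rfl
    rw [this, MulEquiv.apply_symm_apply]

theorem conjH_inj (e : R ≃* R') {P : Subgroup Ω} (hP : P ≤ R) {φ ψ : P →* Ω}
    (hφ : ∀ x, φ x ∈ R) (hψ : ∀ x, ψ x ∈ R) (h : conjH e hP φ hφ = conjH e hP ψ hψ) : φ = ψ := by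
  ext x
  have h1 := conjH_eP e hP φ hφ x
  have h2 := conjH_eP e hP ψ hψ x
  rw [h] at h1
  have h3 : (e ⟨φ x, hφ x⟩ : R') = e ⟨ψ x, hψ x⟩ := Subtype.ext (h1.symm.trans h2)
  exact congrArg Subtype.val (e.injective h3)

theorem conjH_injective (e : R ≃* R') {P : Subgroup Ω} (hP : P ≤ R) (φ : P →* Ω)
    (hφ : ∀ x, φ x ∈ R) (hinj : Function.Injective φ) :
    Function.Injective (conjH e hP φ hφ) := by
  intro a b hab
  obtain ⟨x, rfl⟩ := (eP e hP).surjective a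
  obtain ⟨y, rfl⟩ := (eP e hP).surjective b
  rw [conjH_eP, conjH_eP] at hab
  have h3 : (e ⟨φ x, hφ x⟩ : R') = e ⟨φ y, hφ y⟩ := Subtype.ext hab
  have h4 : φ x = φ y := congrArg Subtype.val (e.injective h3)
  rw [hinj h4]

theorem conjH_range (e : R ≃* R') {P : Subgroup Ω} (hP : P ≤ R) (φ : P →* Ω)
    (hφ : ∀ x, φ x ∈ R) : (conjH e hP φ hφ).range = imP e φ.range := by
  ext y
  constructor
  · rintro ⟨a, rfl⟩
    obtain ⟨x, rfl⟩ := (eP e hP).surjective a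
    rw [conjH_eP]
    exact map_mem_imP e (hφ x) ⟨x, rfl⟩
  · intro hy
    obtain ⟨z, hz, ⟨x, rfl⟩, rfl⟩ := (mem_imP e _ y).mp hy
    exact ⟨eP e hP x, conjH_eP e hP φ hφ x⟩

theorem conjH_subtype (e : R ≃* R') {P : Subgroup Ω} (hP : P ≤ R) :
    conjH e hP P.subtype (fun x => hP x.2) = (imP e P).subtype := by
  apply conjH_ext e hP
  intro x
  refine (conjH_eP e hP _ _ x).trans ?_
  rfl

theorem conjH_conjHom (e : R ≃* R') {P : Subgroup Ω} (hP : P ≤ R) {g : Ω} (hg : g ∈ R) :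
    conjH e hP (conjHom P g) (fun x => R.mul_mem (R.mul_mem hg (hP x.2)) (R.inv_mem hg))
      = conjHom (imP e P) ((e ⟨g, hg⟩ : R') : Ω') := by
  apply conjH_ext e hP
  intro x
  refine (conjH_eP e hP _ _ x).trans ?_
  show ((e ⟨g * (x : Ω) * g⁻¹, _⟩ : R') : Ω')
    = ((e ⟨g, hg⟩ : R') : Ω') * ((e ⟨x, hP x.2⟩ : R') : Ω') * ((e ⟨g, hg⟩ : R') : Ω')⁻¹
  have : (⟨g * (x : Ω) * g⁻¹, R.mul_mem (R.mul_mem hg (hP x.2)) (R.inv_mem hg)⟩ : R)
      = ⟨g, hg⟩ * ⟨x, hP x.2⟩ * (⟨g, hg⟩ : R)⁻¹ := rfl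
  rw [this, map_mul, map_mul, map_inv]
  rfl

theorem conjH_comp (e : R ≃* R') {P Q : Subgroup Ω} (hP : P ≤ R) (hQ : Q ≤ R) (φ : P →* Ω)
    (ψ : Q →* Ω) (h : ∀ x : P, φ x ∈ Q) (hψ : ∀ x, ψ x ∈ R)
    (h' : ∀ y : imP e P, conjH e hP φ (fun x => hQ (h x)) y ∈ imP e Q) :
    conjH e hP (ψ.comp (φ.codRestrict Q h)) (fun x => hψ _)
      = (conjH e hQ ψ hψ).comp ((conjH e hP φ (fun x => hQ (h x))).codRestrict (imP e Q) h') := by
  apply conjH_ext e hP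
  intro x
  refine (conjH_eP e hP _ _ x).trans ?_
  show _ = conjH e hQ ψ hψ ⟨conjH e hP φ (fun x => hQ (h x)) (eP e hP x), _⟩
  have h1 : (⟨conjH e hP φ (fun x => hQ (h x)) (eP e hP x), h' _⟩ : imP e Q)
      = eP e hQ ⟨φ x, h x⟩ := by
    apply Subtype.ext
    rw [eP_apply]
    exact conjH_eP e hP φ _ x
  rw [h1]
  refine Eq.trans ?_ (conjH_eP e hQ ψ hψ _).symm
  rfl

theorem conjH_comp_mem (e : R ≃* R') {P Q : Subgroup Ω} (hP : P ≤ R) (hQ : Q ≤ R) (φ : P →* Ω)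
    (h : ∀ x : P, φ x ∈ Q) (y : imP e P) : conjH e hP φ (fun x => hQ (h x)) y ∈ imP e Q := by
  obtain ⟨x, rfl⟩ := (eP e hP).surjective y
  rw [conjH_eP]
  exact map_mem_imP e (hQ (h x)) (h x)

theorem conjH_restrict (e : R ≃* R') {P Q : Subgroup Ω} (hP : P ≤ R) (hQP : Q ≤ P) (φ : P →* Ω)
    (hφ : ∀ x, φ x ∈ R) :
    conjH e (hQP.trans hP) (φ.comp (Subgroup.inclusion hQP)) (fun x => hφ _)
      = (conjH e hP φ hφ).comp (Subgroup.inclusion (imP_mono e hQP)) := by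
  apply conjH_ext e (hQP.trans hP)
  intro x
  refine (conjH_eP e (hQP.trans hP) _ _ x).trans ?_
  show _ = conjH e hP φ hφ (Subgroup.inclusion (imP_mono e hQP) (eP e (hQP.trans hP) x))
  have h1 : Subgroup.inclusion (imP_mono e hQP) (eP e (hQP.trans hP) x)
      = eP e hP (Subgroup.inclusion hQP x) := Subtype.ext rfl
  rw [h1]
  refine Eq.trans ?_ (conjH_eP e hP φ hφ _).symm
  rfl

/-- membership in a `Hom` set is invariant under propositional equality of sources -/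
theorem hom_congr {S : Subgroup Ω} (F : FusionSystem S) {Q Q' : Subgroup Ω} (h : Q = Q')
    (φ : Q →* Ω) (φ' : Q' →* Ω) (hφ : ∀ x : Q, φ' ⟨x, h ▸ x.2⟩ = φ x) :
    φ ∈ F.Hom Q ↔ φ' ∈ F.Hom Q' := by
  subst h
  have : φ' = φ := by
    ext x
    exact hφ x
  rw [this]

theorem fs_ext {S : Subgroup Ω} (F E : FusionSystem S) (h : ∀ P, F.Hom P = E.Hom P) : F = E := by
  cases F
  cases E
  congr
  funext P
  exact h P

end Cfsg.Agent.Lib.Helper6.FT
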