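import Cfsg.Agent.Lib.Helper6.FT0
import Cfsg.Agent.Lib.Helper9.FactorSys2

/-!
# Transport of fusion systems along a local isomorphism: the image of a system
-/

set_option autoImplicit false

namespace Cfsg.Agent.Lib.Helper6.FT

open Cfsg Cfsg.FusionSystem Cfsg.Agent.Lib.Helper9

variable {Ω Ω' : Type*} [Group Ω] [Group Ω'] {R : Subgroup Ω} {R' : Subgroup Ω'}

/-- `D'` (over `U'`) is the image of `D` (over `U ≤ R`) under the local isomorphism `e`. -/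
def IsImg (e : R ≃* R') {U : Subgroup Ω} (D : FusionSystem U) {U' : Subgroup Ω'}
    (D' : FusionSystem U') : Prop :=
  U ≤ R ∧ U' = imP e U ∧
    ∀ (P : Subgroup Ω) (hP : P ≤ R) (φ : P →* Ω) (hφ : ∀ x, φ x ∈ R),
      φ ∈ D.Hom P ↔ conjH e hP φ hφ ∈ D'.Hom (imP e P)

theorem IsImg.le {e : R ≃* R'} {U : Subgroup Ω} {D : FusionSystem U} {U' : Subgroup Ω'}
    {D' : FusionSystem U'} (h : IsImg e D D') : U ≤ R := h.1

theorem IsImg.le' {e : R ≃* R'} {U : Subgroup Ω} {D : FusionSystem U} {U' : Subgroup Ω'}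
    {D' : FusionSystem U'} (h : IsImg e D D') : U' ≤ R' := h.2.1 ▸ imP_le e U

theorem IsImg.eq {e : R ≃* R'} {U : Subgroup Ω} {D : FusionSystem U} {U' : Subgroup Ω'}
    {D' : FusionSystem U'} (h : IsImg e D D') : U' = imP e U := h.2.1

theorem IsImg.hom_iff {e : R ≃* R'} {U : Subgroup Ω} {D : FusionSystem U} {U' : Subgroup Ω'}
    {D' : FusionSystem U'} (h : IsImg e D D') {P : Subgroup Ω} (hP : P ≤ R) (φ : P →* Ω)
    (hφ : ∀ x, φ x ∈ R) : φ ∈ D.Hom P ↔ conjH e hP φ hφ ∈ D'.Hom (imP e P) := h.2.2 P hP φ hφ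

/-- every map of the image system is the transport of a map of the system -/
theorem IsImg.exists_of_mem {e : R ≃* R'} {U : Subgroup Ω} {D : FusionSystem U}
    {U' : Subgroup Ω'} {D' : FusionSystem U'} (h : IsImg e D D') {P : Subgroup Ω} (hP : P ≤ R)
    {φ' : imP e P →* Ω'} (hφ' : φ' ∈ D'.Hom (imP e P)) :
    ∃ (φ : P →* Ω) (hφ : ∀ x, φ x ∈ R), φ ∈ D.Hom P ∧ conjH e hP φ hφ = φ' := by
  obtain ⟨φ, hφ, rfl⟩ := exists_conjH_eq e hP φ' (fun y => h.le' (hom_mem D' hφ' y))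
  exact ⟨φ, hφ, (h.hom_iff hP φ hφ).mpr hφ', rfl⟩

theorem conjH_symm_conjH (e : R ≃* R') {P : Subgroup Ω} (hP : P ≤ R) (φ : P →* Ω)
    (hφ : ∀ x, φ x ∈ R) (x : imP e.symm (imP e P)) :
    conjH e.symm (imP_le e P) (conjH e hP φ hφ) (conjH_mem e hP φ hφ) x
      = φ ⟨x, (imP_symm_imP e hP).le x.2⟩ := by
  obtain ⟨y, rfl⟩ := (eP e.symm (imP_le e P)).surjective x
  obtain ⟨z, rfl⟩ := (eP e hP).surjective y
  refine (conjH_eP e.symm (imP_le e P) _ _ _).trans ?_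
  have h1 : (⟨conjH e hP φ hφ (eP e hP z), conjH_mem e hP φ hφ _⟩ : R') = e ⟨φ z, hφ z⟩ :=
    Subtype.ext (conjH_eP e hP φ hφ z)
  rw [h1, MulEquiv.symm_apply_apply]
  show φ z = φ _
  congr 1
  apply Subtype.ext
  show (z : Ω) = ((e.symm ⟨((e ⟨z, hP z.2⟩ : R') : Ω'), _⟩ : R) : Ω)
  have h2 : (⟨((e ⟨z, hP z.2⟩ : R') : Ω'), (e ⟨z, hP z.2⟩).2⟩ : R') = e ⟨z, hP z.2⟩ :=
    Subtype.ext rfl
  rw [h2, MulEquiv.symm_apply_apply]

theorem IsImg.symm {e : R ≃* R'} {U : Subgroup Ω} {D : FusionSystem U} {U' : Subgroup Ω'}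
    {D' : FusionSystem U'} (h : IsImg e D D') : IsImg e.symm D' D := by
  refine ⟨h.le', ?_, ?_⟩
  · rw [h.eq, imP_symm_imP e h.le]
  · intro P' hP' φ' hφ'
    obtain ⟨P, hP, rfl⟩ := exists_imP_eq e hP'
    obtain ⟨φ, hφ, rfl⟩ := exists_conjH_eq e hP φ' hφ'
    rw [← h.hom_iff hP φ hφ]
    exact (hom_congr D (imP_symm_imP e hP) _ φ (fun x => (conjH_symm_conjH e hP φ hφ x).symm)).symm

/-- two images of the same system coincide -/
theorem IsImg.unique {e : R ≃* R'} {U : Subgroup Ω} {D : FusionSystem U} {U₁ U₂ : Subgroup Ω'}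
    {D₁ : FusionSystem U₁} {D₂ : FusionSystem U₂} (h₁ : IsImg e D D₁) (h₂ : IsImg e D D₂) :
    ∃ h : U₁ = U₂, h ▸ D₁ = D₂ := by
  have hU : U₁ = U₂ := h₁.eq.trans h₂.eq.symm
  subst hU
  refine ⟨rfl, ?_⟩
  apply fs_ext
  intro P'
  ext φ'
  constructor
  · intro hφ'
    have hP' : P' ≤ R' := (hom_le D₁ hφ').trans h₁.le'
    obtain ⟨P, hP, rfl⟩ := exists_imP_eq e hP'
    obtain ⟨φ, hφ, hφD, rfl⟩ := h₁.exists_of_mem hP hφ'
    exact (h₂.hom_iff hP φ hφ).mp hφD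
  · intro hφ'
    have hP' : P' ≤ R' := (hom_le D₂ hφ').trans h₂.le'
    obtain ⟨P, hP, rfl⟩ := exists_imP_eq e hP'
    obtain ⟨φ, hφ, hφD, rfl⟩ := h₂.exists_of_mem hP hφ'
    exact (h₁.hom_iff hP φ hφ).mp hφD

/-- the restriction of `fwd e` to a subgroup of `R` -/
def fwdOn (e : R ≃* R') {U : Subgroup Ω} (hU : U ≤ R) : U →* Ω' :=
  (fwd e).comp (Subgroup.inclusion hU)

theorem fwdOn_apply (e : R ≃* R') {U : Subgroup Ω} (hU : U ≤ R) (x : U) :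
    fwdOn e hU x = ((e ⟨x, hU x.2⟩ : R') : Ω') := rfl

theorem fwdOn_injective (e : R ≃* R') {U : Subgroup Ω} (hU : U ≤ R) :
    Function.Injective (fwdOn e hU) := by
  intro a b h
  have h1 : (⟨(a : Ω), hU a.2⟩ : R) = ⟨b, hU b.2⟩ := e.injective (Subtype.ext h)
  exact Subtype.ext (congrArg (fun z : R => (z : Ω)) h1)

theorem fwdOn_ker (e : R ≃* R') {U : Subgroup Ω} (hU : U ≤ R) (s : U) :
    fwdOn e hU s = 1 ↔ (s : Ω) ∈ (⊥ : Subgroup Ω) := by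
  rw [Subgroup.mem_bot]
  constructor
  · intro h
    have : s = 1 := fwdOn_injective e hU (h.trans (map_one _).symm)
    rw [this]
    rfl
  · intro h
    have : s = 1 := Subtype.ext h
    rw [this, map_one]

theorem imageAlong_fwdOn (e : R ≃* R') {U : Subgroup Ω} (hU : U ≤ R) {P : Subgroup Ω}
    (hP : P ≤ U) : imageAlong (fwdOn e hU) P = imP e P := by
  ext y
  rw [mem_imageAlong, mem_imP]
  constructor
  · rintro ⟨x, hx, hxP, rfl⟩
    exact ⟨x, hU hx, hxP, rfl⟩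
  · rintro ⟨x, hx, hxP, rfl⟩
    exact ⟨x, hP hxP, hxP, rfl⟩

theorem fwdOn_range (e : R ≃* R') {U : Subgroup Ω} (hU : U ≤ R) :
    (fwdOn e hU).range = imP e U := by
  rw [← imageAlong_fwdOn e hU le_rfl]
  exact (imageAlong_top' (fwdOn e hU) rfl).symm

theorem preimageAlong_fwdOn (e : R ≃* R') {U : Subgroup Ω} (hU : U ≤ R) {P : Subgroup Ω}
    (hP : P ≤ U) : preimageAlong (fwdOn e hU) (imP e P) = P := by
  rw [← imageAlong_fwdOn e hU hP]
  exact preimageAlong_imageAlong (fwdOn e hU) (fwdOn_ker e hU) hP bot_le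

end Cfsg.Agent.Lib.Helper6.FT
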