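import Cfsg.Agent.Lib.Helper6.FT9

/-!
# Transport of fusion systems: self-images, composition of images, uniqueness of factor systems
-/

set_option autoImplicit false

namespace Cfsg.Agent.Lib.Helper6.FT

open Cfsg Cfsg.FusionSystem Cfsg.Agent.Lib.Helper9

variable {Ω Ω' Ω'' : Type*} [Group Ω] [Group Ω'] [Group Ω'']

/-- two factor systems read through the same map coincide -/
theorem factorSystem_unique {S : Subgroup Ω} (F : FusionSystem S) (S₀ : Subgroup Ω)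
    (θ : S →* Ω') {S₁ S₂ : Subgroup Ω'} (E₁ : FusionSystem S₁) (E₂ : FusionSystem S₂)
    (h₁ : F.IsFactorSystem S₀ θ E₁) (h₂ : F.IsFactorSystem S₀ θ E₂) :
    ∃ h : S₁ = S₂, h ▸ E₁ = E₂ := by
  have hS : S₁ = S₂ := h₁.2.2.1.symm.trans h₂.2.2.1
  subst hS
  refine ⟨rfl, ?_⟩
  apply fs_ext
  intro P'
  ext φ'
  rw [h₁.2.2.2, h₂.2.2.2]

/-- a system stable under a group of automorphisms of its underlying group is its own image -/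
theorem isImg_self {U : Subgroup Ω} (D : FusionSystem U) (A : Subgroup (MulAut U))
    (h : ∀ α ∈ A, ∀ (P : Subgroup Ω) (hP : P ≤ U) (φ : P →* Ω) (hφ : ∀ x, φ x ∈ U),
      φ ∈ D.Hom P → conjH (α : U ≃* U) hP φ hφ ∈ D.Hom (imP (α : U ≃* U) P))
    {α : MulAut U} (hα : α ∈ A) : IsImg (α : U ≃* U) D D := by
  refine ⟨le_rfl, (imP_top (α : U ≃* U)).symm, ?_⟩
  intro P hP φ hφ
  refine ⟨h α hα P hP φ hφ, ?_⟩
  intro h2
  have h3 := h α⁻¹ (A.inv_mem hα) (imP (α : U ≃* U) P) (imP_le _ P)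
    (conjH (α : U ≃* U) hP φ hφ) (conjH_mem _ hP φ hφ) h2
  exact (hom_congr D (imP_symm_imP (α : U ≃* U) hP) _ φ
    (fun x => (conjH_symm_conjH (α : U ≃* U) hP φ hφ x).symm)).mp h3

/-- automorphisms of `S` in the system carry the system to itself -/
theorem conjH_mem_of_autGroup {S : Subgroup Ω} (F : FusionSystem S) {α : MulAut S}
    (hα : α ∈ F.autGroup S) (P : Subgroup Ω) (hP : P ≤ S) (φ : P →* Ω) (hφ : ∀ x, φ x ∈ S)
    (hφF : φ ∈ F.Hom P) : conjH (α : S ≃* S) hP φ hφ ∈ F.Hom (imP (α : S ≃* S) P) := by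
  have ha : S.subtype.comp α.toMonoidHom ∈ F.Hom S := hom_of_mem_autGroup F le_rfl hα
  have haP : (S.subtype.comp α.toMonoidHom).comp (Subgroup.inclusion hP) ∈ F.Hom P :=
    restrict_mem F ha hP
  have hr : ((S.subtype.comp α.toMonoidHom).comp (Subgroup.inclusion hP)).range
      = imP (α : S ≃* S) P := by
    ext y
    rw [mem_imP]
    constructor
    · rintro ⟨x, rfl⟩
      exact ⟨x, hP x.2, x.2, rfl⟩
    · rintro ⟨x, hx, hxP, rfl⟩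
      exact ⟨⟨x, hxP⟩, rfl⟩
  obtain ⟨b, hb, hb1, hb2, -⟩ := inv_hom F haP hr
  have hbP : ∀ y, b y ∈ P := by
    intro y
    have : b y ∈ b.range := ⟨y, rfl⟩
    exact hb2.le this
  obtain ⟨χ₁, hχ₁, hχ₁x⟩ := comp_hom F hb hφF hbP
  have hχ₁S : ∀ y, χ₁ y ∈ S := fun y => hom_mem F hχ₁ y
  obtain ⟨χ₂, hχ₂, hχ₂x⟩ := comp_hom F hχ₁ ha hχ₁S
  have : conjH (α : S ≃* S) hP φ hφ = χ₂ := by
    apply conjH_ext (α : S ≃* S) hP
    intro x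
    rw [conjH_eP, hχ₂x]
    have h1 : b (eP (α : S ≃* S) hP x) = x := hb1 x (eP (α : S ≃* S) hP x).2
    have h2 : (⟨χ₁ (eP (α : S ≃* S) hP x), hχ₁S _⟩ : S) = ⟨φ x, hφ x⟩ := by
      apply Subtype.ext
      show χ₁ (eP (α : S ≃* S) hP x) = φ x
      rw [hχ₁x]
      congr 1
      exact Subtype.ext h1
    rw [h2]
    rfl
  rw [this]
  exact hχ₂

theorem isImg_self_of_autGroup {S : Subgroup Ω} (F : FusionSystem S) {α : MulAut S}
    (hα : α ∈ F.autGroup S) : IsImg (α : S ≃* S) F F :=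
  isImg_self F (F.autGroup S) (fun _ hβ P hP φ hφ hφF => conjH_mem_of_autGroup F hβ P hP φ hφ hφF)
    hα

/-- a normal (even invariant) subsystem is its own image under `Aut_F(U)` -/
theorem isImg_self_of_invariant {U S : Subgroup Ω} (D : FusionSystem U) (F : FusionSystem S)
    (h : D.IsInvariantIn F) {α : MulAut U} (hα : α ∈ F.autGroup U) : IsImg (α : U ≃* U) D D := by
  have h1 := (invClause_iff D F).mp h.2.2.1
  exact isImg_self D (F.autGroup U) (fun β hβ P hP φ hφ hφD => h1 β hβ P hP φ hφ hφD) hα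

section trans

variable {R₁ : Subgroup Ω} {R₁' R₂ : Subgroup Ω'} {R₂' : Subgroup Ω''}

/-- composite of two local isomorphisms -/
noncomputable def eTrans (e₁ : R₁ ≃* R₁') (e₂ : R₂ ≃* R₂') (h12 : R₁' ≤ R₂) :
    R₁ ≃* imP e₂ R₁' := e₁.trans (eP e₂ h12)

theorem eTrans_apply (e₁ : R₁ ≃* R₁') (e₂ : R₂ ≃* R₂') (h12 : R₁' ≤ R₂) (x : R₁) :
    ((eTrans e₁ e₂ h12 x : imP e₂ R₁') : Ω'')
      = ((e₂ ⟨((e₁ x : R₁') : Ω'), h12 (e₁ x).2⟩ : R₂') : Ω'') := rfl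

theorem imP_eTrans (e₁ : R₁ ≃* R₁') (e₂ : R₂ ≃* R₂') (h12 : R₁' ≤ R₂) {P : Subgroup Ω}
    (hP : P ≤ R₁) : imP (eTrans e₁ e₂ h12) P = imP e₂ (imP e₁ P) := by
  ext z
  constructor
  · intro hz
    obtain ⟨x, hx, hxP, rfl⟩ := (mem_imP _ _ _).mp hz
    rw [eTrans_apply]
    exact map_mem_imP e₂ (h12 (e₁ ⟨x, hx⟩).2) (map_mem_imP e₁ hx hxP)
  · intro hz
    obtain ⟨y, hy, hyP, rfl⟩ := (mem_imP _ _ _).mp hz
    obtain ⟨x, hx, hxP, rfl⟩ := (mem_imP _ _ _).mp hyP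
    exact (mem_imP _ _ _).mpr ⟨x, hx, hxP, rfl⟩

theorem conjH_eTrans (e₁ : R₁ ≃* R₁') (e₂ : R₂ ≃* R₂') (h12 : R₁' ≤ R₂) {P : Subgroup Ω}
    (hP : P ≤ R₁) (φ : P →* Ω) (hφ : ∀ x, φ x ∈ R₁) (w : imP (eTrans e₁ e₂ h12) P) :
    conjH e₂ ((imP_le e₁ P).trans h12) (conjH e₁ hP φ hφ) (fun y => h12 (conjH_mem e₁ hP φ hφ y))
        ⟨w, (imP_eTrans e₁ e₂ h12 hP).le w.2⟩
      = conjH (eTrans e₁ e₂ h12) hP φ hφ w := by
  obtain ⟨x, rfl⟩ := (eP (eTrans e₁ e₂ h12) hP).surjective w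
  have h1 : (⟨((eP (eTrans e₁ e₂ h12) hP x : imP (eTrans e₁ e₂ h12) P) : Ω''),
      (imP_eTrans e₁ e₂ h12 hP).le (eP (eTrans e₁ e₂ h12) hP x).2⟩ : imP e₂ (imP e₁ P))
      = eP e₂ ((imP_le e₁ P).trans h12) (eP e₁ hP x) := Subtype.ext rfl
  rw [h1]
  refine (conjH_eP e₂ _ _ _ _).trans ?_
  refine Eq.trans ?_ (conjH_eP (eTrans e₁ e₂ h12) hP φ hφ x).symm
  rw [eTrans_apply]
  have h2 : (⟨conjH e₁ hP φ hφ (eP e₁ hP x), h12 (conjH_mem e₁ hP φ hφ _)⟩ : R₂)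
      = ⟨((e₁ ⟨φ x, hφ x⟩ : R₁') : Ω'), h12 (e₁ ⟨φ x, hφ x⟩).2⟩ :=
    Subtype.ext (conjH_eP e₁ hP φ hφ x)
  rw [h2]

theorem IsImg.trans {e₁ : R₁ ≃* R₁'} {e₂ : R₂ ≃* R₂'} (h12 : R₁' ≤ R₂) {U : Subgroup Ω}
    {D : FusionSystem U} {U' : Subgroup Ω'} {D' : FusionSystem U'} {U'' : Subgroup Ω''}
    {D'' : FusionSystem U''} (h₁ : IsImg e₁ D D') (h₂ : IsImg e₂ D' D'') :
    IsImg (eTrans e₁ e₂ h12) D D'' := by
  refine ⟨h₁.le, ?_, ?_⟩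
  · rw [imP_eTrans e₁ e₂ h12 h₁.le, ← h₁.eq, ← h₂.eq]
  · intro P hP φ hφ
    rw [h₁.hom_iff hP φ hφ, h₂.hom_iff ((imP_le e₁ P).trans h12) (conjH e₁ hP φ hφ)
      (fun y => h12 (conjH_mem e₁ hP φ hφ y))]
    exact (hom_congr D'' (imP_eTrans e₁ e₂ h12 hP) _ _
      (fun w => conjH_eTrans e₁ e₂ h12 hP φ hφ w)).symm

end trans

end Cfsg.Agent.Lib.Helper6.FT
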