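import Cfsg.Agent.Lib.Helper6.FT10

/-!
# Conjugates of subnormal subsystems are subnormal; conjugates of components are components
-/

set_option autoImplicit false

namespace Cfsg.Agent.Lib.Helper6.FT

open Cfsg Cfsg.FusionSystem Cfsg.Agent.Lib.Helper9

variable {Ω : Type*} [Group Ω]

theorem fwdOn_ofInjective {T : Subgroup Ω} (γ : T →* Ω) (hinj : Function.Injective γ) :
    fwdOn (MonoidHom.ofInjective hinj) (le_rfl : T ≤ T) = γ := by
  ext x
  rfl

theorem isImg_of_hom {T : Subgroup Ω} (γ : T →* Ω) (hinj : Function.Injective γ)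
    (C : FusionSystem T) {T' : Subgroup Ω} (E : FusionSystem T')
    (hE : C.IsFactorSystem ⊥ γ E) : IsImg (MonoidHom.ofInjective hinj) C E := by
  apply isImg_of_isFactorSystem (MonoidHom.ofInjective hinj) le_rfl C E
  rw [fwdOn_ofInjective]
  exact hE

theorem ker_of_injective {T : Subgroup Ω} (γ : T →* Ω) (hinj : Function.Injective γ) (s : T) :
    γ s = 1 ↔ (s : Ω) ∈ (⊥ : Subgroup Ω) := by
  rw [Subgroup.mem_bot]
  constructor
  · intro h
    have : s = 1 := hinj (h.trans (map_one γ).symm)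
    rw [this]
    rfl
  · intro h
    have : s = 1 := Subtype.ext h
    rw [this, map_one]

theorem subnormal_conj {T S : Subgroup Ω} {C : FusionSystem T} {F : FusionSystem S} {p : ℕ}
    (hsub : C.IsSubnormalIn F p) :
    Fact p.Prime → Finite S → IsPGroup p S → F.IsSaturated p →
      ∀ (γ : T →* Ω), γ ∈ F.Hom T → ∀ {T' : Subgroup Ω} (E : FusionSystem T'),
        C.IsFactorSystem ⊥ γ E → E.IsSubnormalIn F p := by
  induction hsub with
  | refl F p =>
    intro _ hfin _ _ γ hγ T' E hE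
    have hrange : γ.range = T := by
      apply Subgroup.eq_of_le_of_card_ge (range_le F hγ)
      rw [← Nat.card_congr (MonoidHom.ofInjective (F.injective_of_mem hγ)).toEquiv]
    obtain ⟨α, hα, hαγ⟩ := exists_aut_of_hom F hγ hrange
    have h1 : IsImg (α : T ≃* T) F F := isImg_self_of_autGroup F hα
    have h2 := isFactorSystem_of_isImg (α : T ≃* T) F F h1
    have h3 : fwdOn (α : T ≃* T) (le_rfl : T ≤ T) = γ := by
      ext x
      exact hαγ x
    rw [h3] at h2
    obtain ⟨rfl, rfl⟩ := factorSystem_unique F ⊥ γ F E h2 hE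
    exact IsSubnormalIn.refl _ p
  | step hED hDF ih =>
    rename_i T U S C D F p
    intro hp hfin hS hF γ hγ T' E hE
    have hUS : U ≤ S := hDF.1.2.2.2.1.1
    have hTU : T ≤ U := le_of_isSubnormalIn hED
    haveI : Finite U := finite_of_le hUS
    haveI : Finite T := finite_of_le (hTU.trans hUS)
    have hUp : IsPGroup p U := isPGroup_of_le hS hUS
    obtain ⟨α, hα, φ₀, hφ₀, hfr⟩ := hDF.1.2.2.2.2.2 T hTU γ hγ
    have hinj₀ : Function.Injective φ₀ := D.injective_of_mem hφ₀
    have hE₀ := factorSystem_isFactorSystem C ⊥ (stronglyClosed_bot C) φ₀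
      (ker_of_injective φ₀ hinj₀) φ₀.range rfl
    have h0 : (factorSystem C ⊥ (stronglyClosed_bot C) φ₀ (ker_of_injective φ₀ hinj₀) φ₀.range
        rfl).IsSubnormalIn D p := ih hp inferInstance hUp hDF.1.1 φ₀ hφ₀ _ hE₀
    have hDD : IsImg (α : U ≃* U) D D := isImg_self_of_invariant D F hDF.1.2.2 hα
    have h12 : φ₀.range ≤ U := range_le D hφ₀
    haveI : Finite φ₀.range := finite_of_le h12
    obtain ⟨E₁, hE₁⟩ := exists_isImg (α : U ≃* U) h12
      (factorSystem C ⊥ (stronglyClosed_bot C) φ₀ (ker_of_injective φ₀ hinj₀) φ₀.range rfl)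
    have h1 : E₁.IsSubnormalIn D p :=
      isSubnormalIn_img (α : U ≃* U) h0 hp le_rfl inferInstance hUp E₁ D hE₁ hDD
    have h2 : E₁.IsSubnormalIn F p := IsSubnormalIn.step h1 hDF
    have hCE₀ := isImg_of_hom φ₀ hinj₀ C _ hE₀
    have hCE₁ := hCE₀.trans h12 hE₁
    have h3 := isFactorSystem_of_isImg _ C E₁ hCE₁
    have h4 : fwdOn (eTrans (MonoidHom.ofInjective hinj₀) (α : U ≃* U) h12) (le_rfl : T ≤ T)
        = γ := by
      ext x
      exact (hfr x (hom_mem D hφ₀ x)).symm
    rw [h4] at h3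
    obtain ⟨rfl, rfl⟩ := factorSystem_unique C ⊥ γ E₁ E h3 hE
    exact h2

/-- S5154 in library form -/
theorem component_conj {S : Subgroup Ω} [Finite S] (p : ℕ) [hp : Fact p.Prime]
    (hS : IsPGroup p S) (F : FusionSystem S) (hF : F.IsSaturated p) {T : Subgroup Ω}
    (C : FusionSystem T) (hC : C.IsComponentIn F p) (γ : T →* Ω) (hγ : γ ∈ F.Hom T)
    {T' : Subgroup Ω} (E : FusionSystem T') (hE : C.IsFactorSystem ⊥ γ E) :
    E.IsComponentIn F p := by
  obtain ⟨hsub, hq⟩ := hC
  have hTS : T ≤ S := le_of_isSubnormalIn hsub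
  haveI : Finite T := finite_of_le hTS
  refine ⟨subnormal_conj hsub hp inferInstance hS hF γ hγ E hE, ?_⟩
  exact (isImg_of_hom γ (F.injective_of_mem hγ) C E hE).quasisimple p (isPGroup_of_le hS hTS) hq

end Cfsg.Agent.Lib.Helper6.FT
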