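import Cfsg.Agent.Lib.Helper6.FT11

/-!
# The layer of a saturated fusion system is characteristic
-/

set_option autoImplicit false

namespace Cfsg.Agent.Lib.Helper6.FT

open Cfsg Cfsg.FusionSystem Cfsg.Agent.Lib.Helper9

variable {Ω : Type*} [Group Ω]

/-- a system carried into itself by `α` and by `α⁻¹` is its own image -/
theorem isImg_self' {U : Subgroup Ω} (D : FusionSystem U) (α : U ≃* U)
    (h : ∀ (P : Subgroup Ω) (hP : P ≤ U) (φ : P →* Ω) (hφ : ∀ x, φ x ∈ U),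
      φ ∈ D.Hom P → conjH α hP φ hφ ∈ D.Hom (imP α P))
    (h' : ∀ (P : Subgroup Ω) (hP : P ≤ U) (φ : P →* Ω) (hφ : ∀ x, φ x ∈ U),
      φ ∈ D.Hom P → conjH α.symm hP φ hφ ∈ D.Hom (imP α.symm P)) : IsImg α D D := by
  refine ⟨le_rfl, (imP_top α).symm, ?_⟩
  intro P hP φ hφ
  refine ⟨h P hP φ hφ, ?_⟩
  intro h2
  have h3 := h' (imP α P) (imP_le _ P) (conjH α hP φ hφ) (conjH_mem _ hP φ hφ) h2
  exact (hom_congr D (imP_symm_imP α hP) _ φ
    (fun x => (conjH_symm_conjH α hP φ hφ x).symm)).mp h3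

theorem eq_conjH_of_inducedAlong {U : Subgroup Ω} (α : U ≃* U) {P : Subgroup Ω} (hP : P ≤ U)
    (φ : P →* Ω) (hφ : ∀ x, φ x ∈ U) (φ' : imP α P →* Ω)
    (h : InducedAlong (fwd α) φ φ') : φ' = conjH α hP φ hφ := by
  obtain ⟨hP₁, hφ₁, hP', hx⟩ := h
  apply conjH_ext α hP
  intro x
  rw [conjH_eP]
  exact hx x

theorem conjH_mem_of_isMorphism {S : Subgroup Ω} (F : FusionSystem S) (α : S ≃* S)
    (hα : F.IsMorphism F (fwd α)) (P : Subgroup Ω) (hP : P ≤ S) (φ : P →* Ω)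
    (hφ : ∀ x, φ x ∈ S) (hφF : φ ∈ F.Hom P) : conjH α hP φ hφ ∈ F.Hom (imP α P) := by
  obtain ⟨φ', hφ', hind⟩ := hα.2 P φ hφF
  have := eq_conjH_of_inducedAlong α hP φ hφ φ' hind
  rw [← this]
  exact hφ'

theorem isImg_of_isMorphism {S : Subgroup Ω} (F : FusionSystem S) (α : S ≃* S)
    (hα : F.IsMorphism F (fwd α)) (hα' : F.IsMorphism F (fwd α.symm)) : IsImg α F F :=
  isImg_self' F α (conjH_mem_of_isMorphism F α hα) (conjH_mem_of_isMorphism F α.symm hα')

/-- S5311 in library form -/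
theorem layer_characteristic {S : Subgroup Ω} [Finite S] (p : ℕ) [hp : Fact p.Prime]
    (hS : IsPGroup p S) (F : FusionSystem S) (α : S ≃* S)
    (hα : F.IsMorphism F (fwd α)) (hα' : F.IsMorphism F (fwd α.symm))
    {T : Subgroup Ω} (E : FusionSystem T) (hE : E.IsLayerOf F p) :
    imP α T = T ∧ ∀ (P : Subgroup Ω) (φ : P →* Ω), φ ∈ E.Hom P →
      ∀ φ' : imP α P →* Ω, InducedAlong (fwd α) φ φ' → φ' ∈ E.Hom (imP α P) := by
  have hFF : IsImg α F F := isImg_of_isMorphism F α hα hα'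
  have hFF' : IsImg α.symm F F := hFF.symm
  obtain ⟨hEF, hcomp, hmin⟩ := hE
  have hTS : T ≤ S := hEF.1.2.2.2.1.1
  haveI : Finite T := finite_of_le hTS
  -- the image of a normal subsystem containing all components is such a subsystem
  have key : ∀ (β : S ≃* S), IsImg β F F → IsImg β.symm F F →
      ∀ (E₁ : FusionSystem (imP β T)), IsImg β E E₁ → E.IsSubsystemOf E₁ := by
    intro β hβ hβ' E₁ hE₁
    apply hmin (imP β T) E₁ (hE₁.normalIn hβ p hS hEF)
    intro U C hC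
    have hUS : U ≤ S := le_of_isSubnormalIn hC.1
    haveI : Finite U := finite_of_le hUS
    obtain ⟨C₀, hC₀⟩ := exists_isImg β.symm hUS C
    have hC₀F : C₀.IsComponentIn F p := hC₀.componentIn hβ' p hS hC
    have h1 : C₀.IsSubsystemOf E := hcomp _ C₀ hC₀F
    have hC₀' : IsImg β C₀ C := by
      have := hC₀.symm
      rwa [MulEquiv.symm_symm] at this
    exact hC₀'.subsystem hE₁ h1
  obtain ⟨E₁, hE₁⟩ := exists_isImg α hTS E
  obtain ⟨E₂, hE₂⟩ := exists_isImg α.symm hTS E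
  have h1 : E.IsSubsystemOf E₁ := key α hFF hFF' E₁ hE₁
  have h2 : E.IsSubsystemOf E₂ := by
    have := key α.symm hFF' (by rwa [MulEquiv.symm_symm]) E₂ hE₂
    exact this
  have hE₂' : IsImg α E₂ E := by
    have := hE₂.symm
    rwa [MulEquiv.symm_symm] at this
  have h3 : E₁.IsSubsystemOf E := hE₁.subsystem hE₂' h2
  have hT1 : T ≤ imP α T := (E₁.le_of_mem (h1 T (subtype_mem E le_rfl))).1
  haveI : Finite (imP α T) := finite_imP α hTS
  have hT2 : imP α T = T := by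
    symm
    apply Subgroup.eq_of_le_of_card_ge hT1
    rw [card_imP α hTS]
  refine ⟨hT2, ?_⟩
  intro P φ hφ φ' hind
  have hP : P ≤ S := (hom_le E hφ).trans hTS
  have hφS : ∀ x, φ x ∈ S := fun x => hTS (hom_mem E hφ x)
  have h4 := eq_conjH_of_inducedAlong α hP φ hφS φ' hind
  rw [h4]
  exact h3 _ ((hE₁.hom_iff hP φ hφS).mp hφ)

end Cfsg.Agent.Lib.Helper6.FT
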