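import Cfsg.Agent.Lib.Helper6.FT1

/-!
# Transport of fusion systems: bridges with `IsFactorSystem ⊥`, existence of images
-/

set_option autoImplicit false

namespace Cfsg.Agent.Lib.Helper6.FT

open Cfsg Cfsg.FusionSystem Cfsg.Agent.Lib.Helper9

variable {Ω Ω' : Type*} [Group Ω] [Group Ω'] {R : Subgroup Ω} {R' : Subgroup Ω'}

theorem inducedAlong_conjH (e : R ≃* R') {U : Subgroup Ω} (hU : U ≤ R) {P : Subgroup Ω}
    (hP : P ≤ U) (φ : P →* Ω) (hφ : ∀ x, φ x ∈ U) :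
    InducedAlong (fwdOn e hU) φ (conjH e (hP.trans hU) φ (fun x => hU (hφ x))) :=
  ⟨hP, hφ, fun x => map_mem_imP e (hU (hP x.2)) x.2,
    fun x => conjH_eP e (hP.trans hU) φ (fun x => hU (hφ x)) x⟩

theorem eq_of_inducedAlong (e : R ≃* R') {U : Subgroup Ω} (hU : U ≤ R) {P : Subgroup Ω}
    (hP : P ≤ U) (φ φ₁ : P →* Ω) (hφ : ∀ x, φ x ∈ U)
    (h : InducedAlong (fwdOn e hU) φ₁ (conjH e (hP.trans hU) φ (fun x => hU (hφ x)))) :
    φ₁ = φ := by
  obtain ⟨hP₁, hφ₁, hP', hx⟩ := h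
  ext x
  have h1 := hx x
  have h2 := conjH_eP e (hP.trans hU) φ (fun x => hU (hφ x)) x
  have h3 : fwdOn e hU ⟨φ₁ x, hφ₁ x⟩ = fwdOn e hU ⟨φ x, hφ x⟩ := h1.symm.trans h2
  exact congrArg Subtype.val (fwdOn_injective e hU h3)

/-- from the frozen notion to `IsImg` -/
theorem isImg_of_isFactorSystem (e : R ≃* R') {U : Subgroup Ω} (hU : U ≤ R)
    (D : FusionSystem U) {U' : Subgroup Ω'} (D' : FusionSystem U')
    (h : D.IsFactorSystem ⊥ (fwdOn e hU) D') : IsImg e D D' := by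
  obtain ⟨-, -, hrange, hhom⟩ := h
  have hU' : U' = imP e U := hrange.symm.trans (fwdOn_range e hU)
  refine ⟨hU, hU', ?_⟩
  intro P hP φ hφ
  constructor
  · intro hφD
    have hPU : P ≤ U := hom_le D hφD
    rw [hhom]
    refine ⟨hU' ▸ imP_mono e hPU, ?_⟩
    rw [preimageAlong_fwdOn e hU hPU]
    exact ⟨φ, hφD, inducedAlong_conjH e hU hPU φ (fun x => hom_mem D hφD x)⟩
  · intro hφ'
    rw [hhom] at hφ'
    obtain ⟨hle, hex⟩ := hφ'
    have hPU : P ≤ U := (imP_le_imP_iff e hP hU).mp (hU' ▸ hle)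
    rw [preimageAlong_fwdOn e hU hPU] at hex
    obtain ⟨φ₁, hφ₁, hind⟩ := hex
    have hφU : ∀ x, φ x ∈ U := by
      intro x
      obtain ⟨hP₁, hφ₁U, hP', hx⟩ := hind
      have h1 := hx x
      have h2 := conjH_eP e hP φ hφ x
      have h3 : (e ⟨φ₁ x, hU (hφ₁U x)⟩ : R') = e ⟨φ x, hφ x⟩ := Subtype.ext (h1.symm.trans h2)
      have h4 : (φ₁ x : Ω) = φ x := congrArg (fun z : R => (z : Ω)) (e.injective h3)
      rw [← h4]
      exact hφ₁U x
    have := eq_of_inducedAlong e hU hPU φ φ₁ hφU hind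
    rw [← this]
    exact hφ₁

/-- from `IsImg` to the frozen notion -/
theorem isFactorSystem_of_isImg (e : R ≃* R') {U : Subgroup Ω} (D : FusionSystem U)
    {U' : Subgroup Ω'} (D' : FusionSystem U') (h : IsImg e D D') :
    D.IsFactorSystem ⊥ (fwdOn e h.le) D' := by
  have hU := h.le
  refine ⟨bot_le, fwdOn_ker e hU, (fwdOn_range e hU).trans h.eq.symm, ?_⟩
  intro P' φ'
  constructor
  · intro hφ'
    have hP'U' : P' ≤ U' := hom_le D' hφ'
    refine ⟨hP'U', ?_⟩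
    obtain ⟨P, hP, rfl⟩ := exists_imP_eq e (hP'U'.trans h.le')
    have hPU : P ≤ U := (imP_le_imP_iff e hP hU).mp (h.eq ▸ hP'U')
    rw [preimageAlong_fwdOn e hU hPU]
    obtain ⟨φ, hφ, hφD, rfl⟩ := h.exists_of_mem hP hφ'
    exact ⟨φ, hφD, inducedAlong_conjH e hU hPU φ (fun x => hom_mem D hφD x)⟩
  · rintro ⟨hP'U', hex⟩
    obtain ⟨P, hP, rfl⟩ := exists_imP_eq e (hP'U'.trans h.le')
    have hPU : P ≤ U := (imP_le_imP_iff e hP hU).mp (h.eq ▸ hP'U')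
    rw [preimageAlong_fwdOn e hU hPU] at hex
    obtain ⟨φ₁, hφ₁, hind⟩ := hex
    obtain ⟨φ, hφ, rfl⟩ := exists_conjH_eq e hP φ' (by
      intro y
      obtain ⟨x, rfl⟩ := (eP e hP).surjective y
      obtain ⟨hP₁, hφ₁U, hP', hx⟩ := hind
      have := hx x
      have h5 : (⟨((e ⟨x, hP x.2⟩ : R') : Ω'), hP' x⟩ : imP e P) = eP e hP x := Subtype.ext rfl
      rw [← h5]
      have h6 : φ' ⟨((e ⟨x, hP x.2⟩ : R') : Ω'), hP' x⟩ = fwdOn e hU ⟨φ₁ x, hφ₁U x⟩ := hx x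
      rw [h6]
      exact (e _).2)
    have hφU : ∀ x, φ x ∈ U := by
      intro x
      obtain ⟨hP₁, hφ₁U, hP', hx⟩ := hind
      have h1 := hx x
      have h2 := conjH_eP e hP φ hφ x
      have h3 : (e ⟨φ₁ x, hU (hφ₁U x)⟩ : R') = e ⟨φ x, hφ x⟩ := Subtype.ext (h1.symm.trans h2)
      have h4 : (φ₁ x : Ω) = φ x := congrArg (fun z : R => (z : Ω)) (e.injective h3)
      rw [← h4]
      exact hφ₁U x
    have := eq_of_inducedAlong e hU hPU φ φ₁ hφU hind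
    subst this
    exact (h.hom_iff hP φ₁ hφ).mp hφ₁

/-- images exist -/
theorem exists_isImg (e : R ≃* R') {U : Subgroup Ω} (hU : U ≤ R) [Finite U]
    (D : FusionSystem U) : ∃ D' : FusionSystem (imP e U), IsImg e D D' :=
  ⟨factorSystem D ⊥ (stronglyClosed_bot D) (fwdOn e hU) (fwdOn_ker e hU) (imP e U)
      (fwdOn_range e hU),
    isImg_of_isFactorSystem e hU D _
      (factorSystem_isFactorSystem D ⊥ (stronglyClosed_bot D) (fwdOn e hU) (fwdOn_ker e hU)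
        (imP e U) (fwdOn_range e hU))⟩

theorem finite_imP (e : R ≃* R') {U : Subgroup Ω} (hU : U ≤ R) [Finite U] : Finite (imP e U) :=
  Finite.of_equiv U (eP e hU).toEquiv

theorem isPGroup_imP (e : R ≃* R') {U : Subgroup Ω} (hU : U ≤ R) {p : ℕ} (h : IsPGroup p U) :
    IsPGroup p (imP e U) := h.of_equiv (eP e hU)

end Cfsg.Agent.Lib.Helper6.FT
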