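import Cfsg.Agent.Lib.Helper6.FT2
import Cfsg.Agent.Lib.Helper9.FactorSys8
import Cfsg.Agent.Lib.Helper9.HyperfocalFactor2

/-!
# Transport of fusion systems: saturation, hyperfocal subgroup, subsystems, strongly closed
subgroups, automorphism groups
-/

set_option autoImplicit false

namespace Cfsg.Agent.Lib.Helper6.FT

open Cfsg Cfsg.FusionSystem Cfsg.Agent.Lib.Helper9

variable {Ω Ω' : Type*} [Group Ω] [Group Ω'] {R : Subgroup Ω} {R' : Subgroup Ω'}

theorem IsImg.saturated {e : R ≃* R'} {U : Subgroup Ω} {D : FusionSystem U} {U' : Subgroup Ω'}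
    {D' : FusionSystem U'} (h : IsImg e D D') [Finite U] (p : ℕ) [Fact p.Prime]
    (hU : IsPGroup p U) (hD : D.IsSaturated p) : D'.IsSaturated p :=
  factorSystem_saturated p hU D hD (stronglyClosed_bot D) (fwdOn e h.le) D'
    (isFactorSystem_of_isImg e D D' h)

theorem IsImg.hyperfocal {e : R ≃* R'} {U : Subgroup Ω} {D : FusionSystem U} {U' : Subgroup Ω'}
    {D' : FusionSystem U'} (h : IsImg e D D') [Finite U] (p : ℕ) [Fact p.Prime]
    (hU : IsPGroup p U) (hD : D.IsSaturated p) :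
    D'.hyperfocalSubgroup p = imP e (D.hyperfocalSubgroup p) := by
  have h1 := hyperfocal_factorSystem p hU D hD ⊥ (stronglyClosed_bot D) (fwdOn e h.le) D'
    (isFactorSystem_of_isImg e D D' h)
  rw [h1]
  apply imageAlong_fwdOn e h.le
  unfold hyperfocalSubgroup
  rw [Subgroup.closure_le]
  rintro y ⟨P, α, x, hP, -, rfl⟩
  exact U.mul_mem (U.inv_mem (hP x.2)) (hP ((α : MulAut P) x).2)

theorem IsImg.subsystem {e : R ≃* R'} {U₁ U : Subgroup Ω} {D₁ : FusionSystem U₁}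
    {D : FusionSystem U} {U₁' U' : Subgroup Ω'} {D₁' : FusionSystem U₁'} {D' : FusionSystem U'}
    (h₁ : IsImg e D₁ D₁') (h : IsImg e D D') (hs : D₁.IsSubsystemOf D) :
    D₁'.IsSubsystemOf D' := by
  intro P' φ' hφ'
  have hP' : P' ≤ R' := (hom_le D₁' hφ').trans h₁.le'
  obtain ⟨P, hP, rfl⟩ := exists_imP_eq e hP'
  obtain ⟨φ, hφ, hφD, rfl⟩ := h₁.exists_of_mem hP hφ'
  exact (h.hom_iff hP φ hφ).mp (hs P hφD)

theorem IsImg.stronglyClosed {e : R ≃* R'} {U : Subgroup Ω} {D : FusionSystem U}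
    {U' : Subgroup Ω'} {D' : FusionSystem U'} (h : IsImg e D D') {T : Subgroup Ω}
    (hT : D.StronglyClosed T) : D'.StronglyClosed (imP e T) := by
  have := imageAlong_stronglyClosed D (fwdOn e h.le) D' (isFactorSystem_of_isImg e D D' h) hT
    bot_le
  rwa [imageAlong_fwdOn e h.le hT.1] at this

/-- transport of automorphisms of a subgroup -/
noncomputable def cA (e : R ≃* R') {P : Subgroup Ω} (hP : P ≤ R) : MulAut P ≃* MulAut (imP e P) :=
  MulAut.congr (eP e hP)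

theorem cA_apply (e : R ≃* R') {P : Subgroup Ω} (hP : P ≤ R) (α : MulAut P) (x : P) :
    cA e hP α (eP e hP x) = eP e hP (α x) := by
  simp [cA, MulAut.congr_apply]

theorem cA_symm_apply (e : R ≃* R') {P : Subgroup Ω} (hP : P ≤ R) (α' : MulAut (imP e P))
    (x : P) : eP e hP ((cA e hP).symm α' x) = α' (eP e hP x) := by
  have := cA_apply e hP ((cA e hP).symm α') x
  rw [MulEquiv.apply_symm_apply] at this
  exact this.symm

theorem subtype_comp_cA (e : R ≃* R') {P : Subgroup Ω} (hP : P ≤ R) (α : MulAut P) :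
    (imP e P).subtype.comp (cA e hP α).toMonoidHom
      = conjH e hP (P.subtype.comp α.toMonoidHom) (fun x => hP (α x).2) := by
  apply conjH_ext e hP
  intro x
  refine Eq.trans ?_ (conjH_eP e hP _ _ x).symm
  show ((cA e hP α (eP e hP x) : imP e P) : Ω') = _
  rw [cA_apply]
  rfl

theorem IsImg.mem_autGroup_iff {e : R ≃* R'} {U : Subgroup Ω} {D : FusionSystem U}
    {U' : Subgroup Ω'} {D' : FusionSystem U'} (h : IsImg e D D') {P : Subgroup Ω} (hP : P ≤ U)
    (α : MulAut P) : α ∈ D.autGroup P ↔ cA e (hP.trans h.le) α ∈ D'.autGroup (imP e P) := by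
  rw [Helper9.mem_autGroup_iff D hP, Helper9.mem_autGroup_iff D' (h.eq ▸ imP_mono e hP),
    subtype_comp_cA, ← h.hom_iff]

theorem IsImg.exists_autGroup {e : R ≃* R'} {U : Subgroup Ω} {D : FusionSystem U}
    {U' : Subgroup Ω'} {D' : FusionSystem U'} (h : IsImg e D D') {P : Subgroup Ω} (hP : P ≤ U)
    {α' : MulAut (imP e P)} (hα' : α' ∈ D'.autGroup (imP e P)) :
    ∃ α ∈ D.autGroup P, cA e (hP.trans h.le) α = α' := by
  refine ⟨(cA e (hP.trans h.le)).symm α', ?_, MulEquiv.apply_symm_apply _ _⟩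
  rw [h.mem_autGroup_iff hP, MulEquiv.apply_symm_apply]
  exact hα'

theorem imP_centralizerIn (e : R ≃* R') {S T : Subgroup Ω} (hS : S ≤ R) (hT : T ≤ R) :
    imP e (centralizerIn S T) = centralizerIn (imP e S) (imP e T) := by
  ext y
  constructor
  · intro hy
    obtain ⟨x, hx, hxC, rfl⟩ := (mem_imP e _ y).mp hy
    refine ⟨map_mem_imP e hx hxC.1, ?_⟩
    show _ ∈ Subgroup.centralizer ((imP e T : Subgroup Ω') : Set Ω')
    rw [Subgroup.mem_centralizer_iff]
    intro t' ht'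
    obtain ⟨t, ht, htT, rfl⟩ := (mem_imP e _ t').mp ht'
    have h1 : t * x = x * t := (Subgroup.mem_centralizer_iff.mp hxC.2) t htT
    have h2 : (⟨t, ht⟩ : R) * ⟨x, hx⟩ = ⟨x, hx⟩ * ⟨t, ht⟩ := Subtype.ext h1
    have h3 : (e (⟨t, ht⟩ * ⟨x, hx⟩) : R') = e (⟨x, hx⟩ * ⟨t, ht⟩) := by rw [h2]
    rw [map_mul, map_mul] at h3
    exact congrArg (fun z : R' => (z : Ω')) h3
  · intro hy
    obtain ⟨hyS, hyC⟩ := hy
    obtain ⟨x, hx, hxS, rfl⟩ := (mem_imP e _ y).mp hyS
    refine map_mem_imP e hx ⟨hxS, ?_⟩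
    show _ ∈ Subgroup.centralizer ((T : Subgroup Ω) : Set Ω)
    rw [Subgroup.mem_centralizer_iff]
    intro t htT
    have hyC' : ((e ⟨x, hx⟩ : R') : Ω') ∈ Subgroup.centralizer ((imP e T : Subgroup Ω') : Set Ω') :=
      hyC
    have h1 := (Subgroup.mem_centralizer_iff.mp hyC') _ (map_mem_imP e (hT htT) htT)
    have h2 : (e ⟨t, hT htT⟩ : R') * e ⟨x, hx⟩ = e ⟨x, hx⟩ * e ⟨t, hT htT⟩ := Subtype.ext h1
    rw [← map_mul, ← map_mul] at h2
    exact congrArg (fun z : R => (z : Ω)) (e.injective h2)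

end Cfsg.Agent.Lib.Helper6.FT
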