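import Cfsg.Agent.Lib.Helper6.FT3

/-!
# Transport of fusion systems: the invariance clause
-/

set_option autoImplicit false

namespace Cfsg.Agent.Lib.Helper6.FT

open Cfsg Cfsg.FusionSystem Cfsg.Agent.Lib.Helper9

variable {Ω Ω' : Type*} [Group Ω] [Group Ω'] {R : Subgroup Ω} {R' : Subgroup Ω'}

/-- the invariance clause of `IsInvariantIn`, as in the frozen definition -/
def InvClause {T S : Subgroup Ω} (E : FusionSystem T) (F : FusionSystem S) : Prop :=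
  ∀ (P : Subgroup Ω) (hPT : P ≤ T) (φ : P →* Ω), φ ∈ E.Hom P → ∀ α ∈ F.autGroup T,
      ∃ χ ∈ E.Hom ((P.subgroupOf T).map (T.subtype.comp α.toMonoidHom)),
        ∀ (x : P) (hφx : φ x ∈ T)
          (hαx : ((α ⟨x, hPT x.2⟩ : T) : Ω) ∈ (P.subgroupOf T).map (T.subtype.comp α.toMonoidHom)),
          χ ⟨(α ⟨x, hPT x.2⟩ : T), hαx⟩ = ((α ⟨φ x, hφx⟩ : T) : Ω)

/-- the Frattini clause of `IsInvariantIn`, as in the frozen definition -/
def FratClause {T S : Subgroup Ω} (E : FusionSystem T) (F : FusionSystem S) : Prop :=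
  ∀ (P : Subgroup Ω), P ≤ T → ∀ (φ : P →* Ω), φ ∈ F.Hom P →
      ∃ α ∈ F.autGroup T, ∃ φ₀ ∈ E.Hom P, ∀ (x : P) (hx : φ₀ x ∈ T), φ x = ((α ⟨φ₀ x, hx⟩ : T) : Ω)

theorem isInvariantIn_iff {T S : Subgroup Ω} (E : FusionSystem T) (F : FusionSystem S) :
    E.IsInvariantIn F ↔ E.IsSubsystemOf F ∧ F.StronglyClosed T ∧ InvClause E F ∧ FratClause E F :=
  Iff.rfl

/-- the invariance clause, restated with the transport machinery for `α : T ≃* T` -/
theorem invClause_iff {T S : Subgroup Ω} (E : FusionSystem T) (F : FusionSystem S) :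
    InvClause E F ↔ ∀ α ∈ F.autGroup T, ∀ (P : Subgroup Ω) (hP : P ≤ T) (φ : P →* Ω)
      (hφ : ∀ x, φ x ∈ T), φ ∈ E.Hom P → conjH (α : T ≃* T) hP φ hφ ∈ E.Hom (imP (α : T ≃* T) P) := by
  constructor
  · intro h α hα P hP φ hφ hφE
    obtain ⟨χ, hχ, hχx⟩ := h P hP φ hφE α hα
    have : conjH (α : T ≃* T) hP φ hφ = χ := by
      apply conjH_ext (α : T ≃* T) hP
      intro x
      rw [conjH_eP]
      exact (hχx x (hφ x) (eP (α : T ≃* T) hP x).2).symm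
    rw [this]
    exact hχ
  · intro h P hP φ hφE α hα
    have hφ : ∀ x, φ x ∈ T := fun x => hom_mem E hφE x
    refine ⟨conjH (α : T ≃* T) hP φ hφ, h α hα P hP φ hφ hφE, ?_⟩
    intro x hφx hαx
    exact conjH_eP (α : T ≃* T) hP φ hφ x

/-- the basic commuting square, elementwise -/
theorem sq_elem (e : R ≃* R') {T P : Subgroup Ω} (hT : T ≤ R) (hPT : P ≤ T) (α : T ≃* T) (x : P)
    (h1 : imP e P ≤ imP e T) (h2 : imP α P ≤ R) :
    ((eP (cA e hT α) h1 (eP e (hPT.trans hT) x) : imP (cA e hT α) (imP e P)) : Ω')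
      = ((eP e h2 (eP α hPT x) : imP e (imP α P)) : Ω') := by
  have h3 : (⟨((eP e (hPT.trans hT) x : imP e P) : Ω'), h1 (eP e (hPT.trans hT) x).2⟩ : imP e T)
      = eP e hT ⟨x, hPT x.2⟩ := Subtype.ext rfl
  calc ((eP (cA e hT α) h1 (eP e (hPT.trans hT) x) : imP (cA e hT α) (imP e P)) : Ω')
      = ((cA e hT α ⟨((eP e (hPT.trans hT) x : imP e P) : Ω'),
          h1 (eP e (hPT.trans hT) x).2⟩ : imP e T) : Ω') := rfl
    _ = ((cA e hT α (eP e hT ⟨x, hPT x.2⟩) : imP e T) : Ω') := by rw [h3]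
    _ = ((eP e hT (α ⟨x, hPT x.2⟩) : imP e T) : Ω') := by rw [cA_apply]
    _ = _ := rfl

theorem sq_imP (e : R ≃* R') {T P : Subgroup Ω} (hT : T ≤ R) (hPT : P ≤ T) (α : T ≃* T) :
    imP (cA e hT α) (imP e P) = imP e (imP α P) := by
  have h1 : imP e P ≤ imP e T := imP_mono e hPT
  have h2 : imP α P ≤ R := (imP_le α P).trans hT
  ext y
  constructor
  · intro hy
    obtain ⟨w, hw⟩ := (eP (cA e hT α) h1).surjective ⟨y, hy⟩
    obtain ⟨x, rfl⟩ := (eP e (hPT.trans hT)).surjective w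
    have := sq_elem e hT hPT α x h1 h2
    rw [hw] at this
    rw [show y = _ from this]
    exact (eP e h2 (eP α hPT x)).2
  · intro hy
    obtain ⟨w, hw⟩ := (eP e h2).surjective ⟨y, hy⟩
    obtain ⟨x, rfl⟩ := (eP α hPT).surjective w
    have := sq_elem e hT hPT α x h1 h2
    rw [hw] at this
    rw [show y = _ from this.symm]
    exact (eP (cA e hT α) h1 (eP e (hPT.trans hT) x)).2

theorem sq_conjH (e : R ≃* R') {T P : Subgroup Ω} (hT : T ≤ R) (hPT : P ≤ T) (α : T ≃* T)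
    (φ : P →* Ω) (hφ : ∀ x, φ x ∈ T) (y : imP e (imP α P)) :
    conjH (cA e hT α) (imP_mono e hPT) (conjH e (hPT.trans hT) φ (fun x => hT (hφ x)))
        (conjH_comp_mem e (hPT.trans hT) hT φ hφ) ⟨y, (sq_imP e hT hPT α).ge y.2⟩
      = conjH e ((imP_le α P).trans hT) (conjH α hPT φ hφ)
          (fun z => hT (conjH_mem α hPT φ hφ z)) y := by
  have h1 : imP e P ≤ imP e T := imP_mono e hPT
  have h2 : imP α P ≤ R := (imP_le α P).trans hT
  obtain ⟨w, rfl⟩ := (eP e h2).surjective y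
  obtain ⟨x, rfl⟩ := (eP α hPT).surjective w
  have h3 : (⟨((eP e h2 (eP α hPT x) : imP e (imP α P)) : Ω'), (sq_imP e hT hPT α).ge
      (eP e h2 (eP α hPT x)).2⟩ : imP (cA e hT α) (imP e P))
      = eP (cA e hT α) h1 (eP e (hPT.trans hT) x) :=
    Subtype.ext (sq_elem e hT hPT α x h1 h2).symm
  rw [h3]
  refine (conjH_eP (cA e hT α) h1 _ _ _).trans ?_
  refine Eq.trans ?_ (conjH_eP e h2 _ _ _).symm
  have h4 : (⟨conjH e (hPT.trans hT) φ (fun x => hT (hφ x)) (eP e (hPT.trans hT) x),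
      conjH_comp_mem e (hPT.trans hT) hT φ hφ _⟩ : imP e T) = eP e hT ⟨φ x, hφ x⟩ :=
    Subtype.ext (conjH_eP e (hPT.trans hT) φ _ x)
  rw [h4, cA_apply, eP_apply]
  have h5 : (⟨conjH α hPT φ hφ (eP α hPT x), hT (conjH_mem α hPT φ hφ _)⟩ : R)
      = ⟨((α ⟨φ x, hφ x⟩ : T) : Ω), hT (α ⟨φ x, hφ x⟩).2⟩ :=
    Subtype.ext (conjH_eP α hPT φ hφ x)
  rw [h5]

/-- transport of the invariance clause -/
theorem IsImg.invClause {e : R ≃* R'} {T S : Subgroup Ω} {E : FusionSystem T}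
    {F : FusionSystem S} {T' S' : Subgroup Ω'} {E' : FusionSystem T'} {F' : FusionSystem S'}
    (hE : IsImg e E E') (hF : IsImg e F F') (hTS : T ≤ S) (h : InvClause E F) :
    InvClause E' F' := by
  rw [invClause_iff] at h ⊢
  have hT : T ≤ R := hE.le
  obtain rfl : T' = imP e T := hE.eq
  intro α' hα' P' hP' φ' hφ' hφ'E
  obtain ⟨α, hα, rfl⟩ := hF.exists_autGroup hTS hα'
  obtain ⟨P, hP, rfl⟩ := exists_imP_eq e (hP'.trans (imP_le e T))
  have hPT : P ≤ T := (imP_le_imP_iff e hP hT).mp hP'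
  obtain ⟨φ, hφ, hφE, rfl⟩ := hE.exists_of_mem hP hφ'E
  have hφT : ∀ x, φ x ∈ T := fun x => hom_mem E hφE x
  have h1 := h α hα P hPT φ hφT hφE
  have h2 := (hE.hom_iff ((imP_le α P).trans hT) (conjH α hPT φ hφT)
    (fun z => hT (conjH_mem α hPT φ hφT z))).mp h1
  refine (hom_congr E' (sq_imP e hT hPT α).symm _ _ ?_).mp h2
  intro y
  exact sq_conjH e hT hPT α φ hφT y

/-- transport of the Frattini clause -/
theorem IsImg.fratClause {e : R ≃* R'} {T S : Subgroup Ω} {E : FusionSystem T}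
    {F : FusionSystem S} {T' S' : Subgroup Ω'} {E' : FusionSystem T'} {F' : FusionSystem S'}
    (hE : IsImg e E E') (hF : IsImg e F F') (hTS : T ≤ S) (h : FratClause E F) :
    FratClause E' F' := by
  have hT : T ≤ R := hE.le
  obtain rfl : T' = imP e T := hE.eq
  intro P' hP' φ' hφ'F
  obtain ⟨P, hP, rfl⟩ := exists_imP_eq e (hP'.trans (imP_le e T))
  have hPT : P ≤ T := (imP_le_imP_iff e hP hT).mp hP'
  obtain ⟨φ, hφ, hφF, rfl⟩ := hF.exists_of_mem hP hφ'F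
  obtain ⟨α, hα, φ₀, hφ₀, hx⟩ := h P hPT φ hφF
  have hφ₀T : ∀ x, φ₀ x ∈ T := fun x => hom_mem E hφ₀ x
  refine ⟨cA e hT α, (hF.mem_autGroup_iff hTS α).mp hα, conjH e hP φ₀ (fun x => hT (hφ₀T x)),
    (hE.hom_iff hP φ₀ _).mp hφ₀, ?_⟩
  intro y hy
  obtain ⟨x, rfl⟩ := (eP e hP).surjective y
  refine (conjH_eP e hP φ hφ x).trans ?_
  have h4 : (⟨conjH e hP φ₀ (fun x => hT (hφ₀T x)) (eP e hP x), hy⟩ : imP e T)
      = eP e hT ⟨φ₀ x, hφ₀T x⟩ := Subtype.ext (conjH_eP e hP φ₀ _ x)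
  rw [h4, cA_apply, eP_apply]
  have h5 : (⟨φ x, hφ x⟩ : R) = ⟨((α ⟨φ₀ x, hφ₀T x⟩ : T) : Ω), hT (α ⟨φ₀ x, hφ₀T x⟩).2⟩ :=
    Subtype.ext (hx x (hφ₀T x))
  rw [h5]

/-- transport of `IsInvariantIn` -/
theorem IsImg.invariantIn {e : R ≃* R'} {T S : Subgroup Ω} {E : FusionSystem T}
    {F : FusionSystem S} {T' S' : Subgroup Ω'} {E' : FusionSystem T'} {F' : FusionSystem S'}
    (hE : IsImg e E E') (hF : IsImg e F F') (h : E.IsInvariantIn F) : E'.IsInvariantIn F' := by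
  rw [isInvariantIn_iff] at h ⊢
  obtain ⟨h1, h2, h3, h4⟩ := h
  refine ⟨hE.subsystem hF h1, ?_, hE.invClause hF h2.1 h3, hE.fratClause hF h2.1 h4⟩
  have := hF.stronglyClosed h2
  rwa [← hE.eq] at this

end Cfsg.Agent.Lib.Helper6.FT
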