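import Cfsg.Agent.Lib.Helper6.FT4

/-!
# Transport of fusion systems: the extension condition and `IsNormalIn`
-/

set_option autoImplicit false

namespace Cfsg.Agent.Lib.Helper6.FT

open Cfsg Cfsg.FusionSystem Cfsg.Agent.Lib.Helper9

variable {Ω Ω' : Type*} [Group Ω] [Group Ω'] {R : Subgroup Ω} {R' : Subgroup Ω'}

/-- the extension condition of `IsNormalIn` with a flexible middle subgroup `W` -/
def ExtW {T S : Subgroup Ω} (E : FusionSystem T) (F : FusionSystem S) (W : Subgroup Ω)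
    (hTW : T ≤ W) : Prop :=
  ∀ α ∈ E.autGroup T, ∃ β ∈ F.autGroup W,
    (∀ x : T, ((β (Subgroup.inclusion hTW x) : W) : Ω) = ((α x : T) : Ω)) ∧
    ∀ c : W, (c : Ω) ∈ centralizerIn S T →
      (c : Ω)⁻¹ * ((β c : W) : Ω) ∈ T ⊓ Subgroup.centralizer (T : Set Ω)

theorem isNormalIn_iff {T S : Subgroup Ω} (E : FusionSystem T) (F : FusionSystem S) (p : ℕ) :
    E.IsNormalIn F p ↔ E.IsWeaklyNormalIn F p ∧ ExtW E F (T ⊔ centralizerIn S T) le_sup_left :=
  Iff.rfl

theorem extW_congr {T S : Subgroup Ω} (E : FusionSystem T) (F : FusionSystem S)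
    {W W₂ : Subgroup Ω} (h : W = W₂) (hTW : T ≤ W) (hTW₂ : T ≤ W₂) :
    ExtW E F W hTW ↔ ExtW E F W₂ hTW₂ := by
  subst h
  rfl

theorem IsImg.extW {e : R ≃* R'} {T S : Subgroup Ω} {E : FusionSystem T}
    {F : FusionSystem S} {E' : FusionSystem (imP e T)} {F' : FusionSystem (imP e S)}
    (hE : IsImg e E E') (hF : IsImg e F F') (W : Subgroup Ω) (hTW : T ≤ W) (hWS : W ≤ S)
    (h : ExtW E F W hTW) : ExtW E' F' (imP e W) (imP_mono e hTW) := by
  have hT : T ≤ R := hE.le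
  have hS : S ≤ R := hF.le
  have hW : W ≤ R := hWS.trans hS
  intro α' hα'
  obtain ⟨α, hα, rfl⟩ := hE.exists_autGroup le_rfl hα'
  obtain ⟨β, hβ, hβ1, hβ2⟩ := h α hα
  refine ⟨cA e hW β, (hF.mem_autGroup_iff hWS β).mp hβ, ?_, ?_⟩
  · intro x'
    obtain ⟨x, rfl⟩ := (eP e hT).surjective x'
    have h1 : Subgroup.inclusion (imP_mono e hTW) (eP e hT x)
        = eP e hW (Subgroup.inclusion hTW x) := Subtype.ext rfl
    rw [h1, cA_apply, cA_apply, eP_apply, eP_apply]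
    have h2 : (⟨((β (Subgroup.inclusion hTW x) : W) : Ω), hW (β (Subgroup.inclusion hTW x)).2⟩ : R)
        = ⟨((α x : T) : Ω), hT (α x).2⟩ := Subtype.ext (hβ1 x)
    rw [h2]
  · intro c' hc'
    obtain ⟨c, rfl⟩ := (eP e hW).surjective c'
    rw [← imP_centralizerIn e hS hT] at hc'
    have hc : (c : Ω) ∈ centralizerIn S T := by
      have := symm_mem_of_mem_imP e hc'
      have h3 : (⟨((eP e hW c : imP e W) : Ω'), imP_le e _ hc'⟩ : R') = e ⟨c, hW c.2⟩ :=
        Subtype.ext rfl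
      rwa [h3, MulEquiv.symm_apply_apply] at this
    have h4 := hβ2 c hc
    have h5 : (T ⊓ Subgroup.centralizer (T : Set Ω) : Subgroup Ω) = centralizerIn T T := rfl
    have h6 : (imP e T ⊓ Subgroup.centralizer ((imP e T : Subgroup Ω') : Set Ω') : Subgroup Ω')
        = centralizerIn (imP e T) (imP e T) := rfl
    rw [h6, ← imP_centralizerIn e hT hT]
    rw [h5] at h4
    have hz : (c : Ω)⁻¹ * ((β c : W) : Ω) ∈ R := hT h4.1
    have h7 := map_mem_imP e hz h4
    have h8 : (⟨(c : Ω)⁻¹ * ((β c : W) : Ω), hz⟩ : R)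
        = (⟨c, hW c.2⟩ : R)⁻¹ * ⟨((β c : W) : Ω), hW (β c).2⟩ := rfl
    rw [h8, map_mul, map_inv] at h7
    rw [cA_apply]
    exact h7

theorem IsImg.normalIn {e : R ≃* R'} {T S : Subgroup Ω} {E : FusionSystem T}
    {F : FusionSystem S} {T' S' : Subgroup Ω'} {E' : FusionSystem T'} {F' : FusionSystem S'}
    (hE : IsImg e E E') (hF : IsImg e F F') [Finite S] (p : ℕ) [Fact p.Prime]
    (hS : IsPGroup p S) (h : E.IsNormalIn F p) : E'.IsNormalIn F' p := by
  rw [isNormalIn_iff] at h ⊢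
  obtain ⟨⟨hEs, hFs, hinv⟩, hext⟩ := h
  have hTS : T ≤ S := hinv.2.1.1
  haveI : Finite T := finite_of_le hTS
  have hTp : IsPGroup p T := isPGroup_of_le hS hTS
  refine ⟨⟨hE.saturated p hTp hEs, hF.saturated p hS hFs, hE.invariantIn hF hinv⟩, ?_⟩
  obtain rfl : T' = imP e T := hE.eq
  obtain rfl : S' = imP e S := hF.eq
  have hT : T ≤ R := hE.le
  have hSR : S ≤ R := hF.le
  have hC : centralizerIn S T ≤ S := inf_le_left
  have h1 := hE.extW hF (T ⊔ centralizerIn S T) le_sup_left (sup_le hTS hC) hext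
  refine (extW_congr E' F' ?_ _ _).mp h1
  rw [imP_sup e hT (hC.trans hSR), imP_centralizerIn e hSR hT]

end Cfsg.Agent.Lib.Helper6.FT
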