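import Cfsg.Agent.Lib.Helper6.FT5
import Cfsg.Agent.Lib.Helper9.Subnormal

/-!
# Transport of fusion systems: subnormality
-/

set_option autoImplicit false

namespace Cfsg.Agent.Lib.Helper6.FT

open Cfsg Cfsg.FusionSystem Cfsg.Agent.Lib.Helper9

variable {Ω Ω' : Type*} [Group Ω] [Group Ω'] {R : Subgroup Ω} {R' : Subgroup Ω'}

theorem isSubnormalIn_img (e : R ≃* R') {T S : Subgroup Ω} {E : FusionSystem T}
    {F : FusionSystem S} {p : ℕ} (hsub : E.IsSubnormalIn F p) :
    Fact p.Prime → S ≤ R → Finite S → IsPGroup p S →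
      ∀ {T' S' : Subgroup Ω'} (E' : FusionSystem T') (F' : FusionSystem S'),
        IsImg e E E' → IsImg e F F' → E'.IsSubnormalIn F' p := by
  induction hsub with
  | refl F p =>
    intro _ _ _ _ T' S' E' F' hE hF
    obtain ⟨rfl, rfl⟩ := hE.unique hF
    exact IsSubnormalIn.refl _ p
  | step hED hDF ih =>
    rename_i T U S E D F p
    intro hp hSR hfin hS T' S' E' F' hE hF
    have hUS : U ≤ S := hDF.1.2.2.2.1.1
    haveI : Finite U := finite_of_le hUS
    obtain ⟨D', hD⟩ := exists_isImg e (hUS.trans hSR) D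
    have h1 := ih hp (hUS.trans hSR) inferInstance (isPGroup_of_le hS hUS) E' D' hE hD
    exact IsSubnormalIn.step h1 (hD.normalIn hF p hS hDF)

end Cfsg.Agent.Lib.Helper6.FT
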