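import Cfsg.Agent.Lib.Helper6.FT6
import Cfsg.Agent.Lib.Helper9.FusionCenter

/-!
# Transport of fusion systems: central subgroups, the centre, simplicity
-/

set_option autoImplicit false

namespace Cfsg.Agent.Lib.Helper6.FT

open Cfsg Cfsg.FusionSystem Cfsg.Agent.Lib.Helper9

variable {Ω Ω' : Type*} [Group Ω] [Group Ω'] {R : Subgroup Ω} {R' : Subgroup Ω'}

/-- a flexible criterion for being central -/
theorem isCentral_of_flex {S : Subgroup Ω} (F : FusionSystem S) {Q : Subgroup Ω} (hQ : Q ≤ S)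
    (h : ∀ (P : Subgroup Ω) (φ : P →* Ω), φ ∈ F.Hom P →
      ∃ (W : Subgroup Ω) (hPW : P ≤ W) (hQW : Q ≤ W), ∃ ψ ∈ F.Hom W,
        (∀ x : P, ψ (Subgroup.inclusion hPW x) = φ x) ∧
          ∀ x : Q, ψ (Subgroup.inclusion hQW x) = x) : F.IsCentral Q := by
  refine ⟨hQ, ?_⟩
  intro P φ hφ
  obtain ⟨W, hPW, hQW, ψ, hψ, h1, h2⟩ := h P φ hφ
  refine ⟨ψ.comp (Subgroup.inclusion (sup_le hPW hQW)), restrict_mem F hψ _, ?_, ?_⟩
  · intro x
    exact h1 x
  · intro x
    exact h2 x

theorem IsImg.isCentral {e : R ≃* R'} {U : Subgroup Ω} {D : FusionSystem U} {U' : Subgroup Ω'}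
    {D' : FusionSystem U'} (h : IsImg e D D') {Q : Subgroup Ω} (hQ : D.IsCentral Q) :
    D'.IsCentral (imP e Q) := by
  have hU : U ≤ R := h.le
  have hQU : Q ≤ U := hQ.1
  apply isCentral_of_flex D' (h.eq ▸ imP_mono e hQU)
  intro P' φ' hφ'
  have hP' : P' ≤ R' := (hom_le D' hφ').trans h.le'
  obtain ⟨P, hP, rfl⟩ := exists_imP_eq e hP'
  obtain ⟨φ, hφ, hφD, rfl⟩ := h.exists_of_mem hP hφ'
  obtain ⟨ψ, hψ, h1, h2⟩ := hQ.2 P φ hφD
  have hW : P ⊔ Q ≤ R := sup_le hP (hQU.trans hU)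
  have hψR : ∀ x, ψ x ∈ R := fun x => hU (hom_mem D hψ x)
  refine ⟨imP e (P ⊔ Q), imP_mono e le_sup_left, imP_mono e le_sup_right,
    conjH e hW ψ hψR, (h.hom_iff hW ψ hψR).mp hψ, ?_, ?_⟩
  · intro y
    obtain ⟨x, rfl⟩ := (eP e hP).surjective y
    have h3 : Subgroup.inclusion (imP_mono e (le_sup_left : P ≤ P ⊔ Q)) (eP e hP x)
        = eP e hW (Subgroup.inclusion le_sup_left x) := Subtype.ext rfl
    rw [h3]
    refine (conjH_eP e hW ψ hψR _).trans ?_
    refine Eq.trans ?_ (conjH_eP e hP φ hφ x).symm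
    have h4 : (⟨ψ (Subgroup.inclusion le_sup_left x), hψR _⟩ : R) = ⟨φ x, hφ x⟩ :=
      Subtype.ext (h1 x)
    rw [h4]
  · intro y
    obtain ⟨x, rfl⟩ := (eP e (hQU.trans hU)).surjective y
    have h3 : Subgroup.inclusion (imP_mono e (le_sup_right : Q ≤ P ⊔ Q)) (eP e (hQU.trans hU) x)
        = eP e hW (Subgroup.inclusion le_sup_right x) := Subtype.ext rfl
    rw [h3]
    refine (conjH_eP e hW ψ hψR _).trans ?_
    have h4 : (⟨ψ (Subgroup.inclusion le_sup_right x), hψR _⟩ : R)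
        = ⟨x, hU (hQU x.2)⟩ := Subtype.ext (h2 x)
    rw [h4]
    rfl

theorem center_le {S : Subgroup Ω} (F : FusionSystem S) : F.center ≤ S := by
  apply sSup_le
  intro Q hQ
  exact hQ.1

theorem IsImg.center {e : R ≃* R'} {U : Subgroup Ω} {D : FusionSystem U} {U' : Subgroup Ω'}
    {D' : FusionSystem U'} (h : IsImg e D D') [Finite U] : D'.center = imP e D.center := by
  haveI : Finite U' := h.eq ▸ finite_imP e h.le
  apply le_antisymm
  · have h1 : imP e.symm D'.center ≤ D.center :=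
      le_sSup (h.symm.isCentral (isCentral_center D'))
    have h2 := imP_mono e h1
    rwa [imP_imP_symm e ((center_le D').trans h.le')] at h2
  · exact le_sSup (h.isCentral (isCentral_center D))

/-- transport of simplicity -/
theorem IsImg.isSimple {e : R ≃* R'} {S : Subgroup Ω} {F : FusionSystem S} {S' : Subgroup Ω'}
    {F' : FusionSystem S'} (hF : IsImg e F F') [Finite S] (p : ℕ) [Fact p.Prime]
    (hS : IsPGroup p S) (h : F.IsSimple p) : F'.IsSimple p := by
  obtain ⟨hsat, hne, hnor⟩ := h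
  have hSR : S ≤ R := hF.le
  obtain rfl : S' = imP e S := hF.eq
  haveI : Finite (imP e S) := finite_imP e hSR
  have hS' : IsPGroup p (imP e S) := isPGroup_imP e hSR hS
  refine ⟨hF.saturated p hS hsat, ?_, ?_⟩
  · intro hbot
    exact hne ((imP_eq_bot_iff e hSR).mp hbot)
  · intro T' E' hE'
    have hT'S' : T' ≤ imP e S := hE'.1.2.2.2.1.1
    have hT'R' : T' ≤ R' := hT'S'.trans (imP_le e S)
    haveI : Finite T' := finite_of_le hT'S'
    obtain ⟨E, hE⟩ := exists_isImg e.symm hT'R' E'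
    have hEF : E.IsNormalIn F p := hE.normalIn hF.symm p hS' hE'
    have hE2 : IsImg e E E' := by
      have := hE.symm
      rwa [MulEquiv.symm_symm] at this
    rcases hnor _ E hEF with h0 | ⟨h1, h2⟩
    · left
      have h3 := hE2.eq
      rw [h0, imP_bot] at h3
      exact h3
    · right
      have h3 : T' = imP e S := by
        have h4 := hE2.eq
        rwa [h1] at h4
      subst h3
      refine ⟨rfl, ?_⟩
      -- both `E'` and `F'` are images of systems with the same maps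
      have h5 : IsImg e F E' := by
        refine ⟨hSR, rfl, ?_⟩
        intro P hP φ hφ
        rw [← hE2.hom_iff hP φ hφ, h2 P]
      obtain ⟨_, h6⟩ := h5.unique hF
      intro P
      rw [← h6]

end Cfsg.Agent.Lib.Helper6.FT
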