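import Cfsg.Agent.Lib.Helper6.FT7

/-!
# Transport of fusion systems: factor systems of a system and of its image correspond
-/

set_option autoImplicit false

namespace Cfsg.Agent.Lib.Helper6.FT

open Cfsg Cfsg.FusionSystem Cfsg.Agent.Lib.Helper9

variable {Ω Ω' : Type*} [Group Ω] [Group Ω'] {R : Subgroup Ω} {R' : Subgroup Ω'}

theorem isImg_quot (e : R ≃* R') {T : Subgroup Ω} (hT : T ≤ R) (C : FusionSystem T)
    (C' : FusionSystem (imP e T)) (hC : IsImg e C C')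
    {Ω₁ Ω₁' : Type*} [Group Ω₁] [Group Ω₁'] {S₁ : Subgroup Ω₁} {S₁' : Subgroup Ω₁'}
    (S₀ : Subgroup Ω) (S₀' : Subgroup Ω')
    (θ : T →* Ω₁) (θ' : imP e T →* Ω₁') (E₁ : FusionSystem S₁) (E₁' : FusionSystem S₁')
    (hE₁ : C.IsFactorSystem S₀ θ E₁) (hE₁' : C'.IsFactorSystem S₀' θ' E₁')
    (eb : S₁ ≃* S₁')
    (hcompat : ∀ (x : T) (hx : θ x ∈ S₁), ((eb ⟨θ x, hx⟩ : S₁') : Ω₁') = θ' (eP e hT x)) :
    IsImg eb E₁ E₁' := by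
  have hr : θ.range = S₁ := hE₁.2.2.1
  have hθS : ∀ x : T, θ x ∈ S₁ := fun x => hr ▸ ⟨x, rfl⟩
  refine ⟨le_rfl, (imP_top eb).symm, ?_⟩
  intro P₁ hP₁ φ₁ hφ₁
  have K1 : preimageAlong θ' (imP eb P₁) = imP e (preimageAlong θ P₁) := by
    ext y
    constructor
    · intro hy0
      obtain ⟨hy, hy2⟩ := (mem_preimageAlong θ' _ y).mp hy0
      obtain ⟨x, hx, hxT, rfl⟩ := (mem_imP e T y).mp hy
      refine (mem_imP e _ _).mpr ⟨x, hx, ?_, rfl⟩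
      refine (mem_preimageAlong θ P₁ x).mpr ⟨hxT, ?_⟩
      have h1 : (⟨((e ⟨x, hx⟩ : R') : Ω'), hy⟩ : imP e T) = eP e hT ⟨x, hxT⟩ := Subtype.ext rfl
      have h1' : θ' ⟨((e ⟨x, hx⟩ : R') : Ω'), hy⟩ = ((eb ⟨θ ⟨x, hxT⟩, hθS _⟩ : S₁') : Ω₁') := by
        rw [h1, hcompat ⟨x, hxT⟩ (hθS _)]
      rw [h1'] at hy2
      have h2 := symm_mem_of_mem_imP eb hy2
      have h3 : (⟨((eb ⟨θ ⟨x, hxT⟩, hθS _⟩ : S₁') : Ω₁'), imP_le eb P₁ hy2⟩ : S₁')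
          = eb ⟨θ ⟨x, hxT⟩, hθS _⟩ := Subtype.ext rfl
      rwa [h3, MulEquiv.symm_apply_apply] at h2
    · intro hy0
      obtain ⟨x, hx, hxpre, rfl⟩ := (mem_imP e _ y).mp hy0
      obtain ⟨hxT, hxP₁⟩ := (mem_preimageAlong θ P₁ x).mp hxpre
      refine (mem_preimageAlong θ' _ _).mpr ⟨map_mem_imP e hx hxT, ?_⟩
      have h1 : (⟨((e ⟨x, hx⟩ : R') : Ω'), map_mem_imP e hx hxT⟩ : imP e T) = eP e hT ⟨x, hxT⟩ :=
        Subtype.ext rfl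
      have h1' : θ' ⟨((e ⟨x, hx⟩ : R') : Ω'), map_mem_imP e hx hxT⟩
          = ((eb ⟨θ ⟨x, hxT⟩, hθS _⟩ : S₁') : Ω₁') := by
        rw [h1, hcompat ⟨x, hxT⟩ (hθS _)]
      rw [h1']
      exact map_mem_imP eb (hθS _) hxP₁
  have hPT : preimageAlong θ P₁ ≤ T := preimageAlong_le θ P₁
  have hPR : preimageAlong θ P₁ ≤ R := hPT.trans hT
  have hle : imP eb P₁ ≤ S₁' := imP_le eb P₁
  rw [hE₁.2.2.2, hE₁'.2.2.2]
  constructor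
  · rintro ⟨-, φ, hφC, hind⟩
    refine ⟨hle, ?_⟩
    rw [K1]
    obtain ⟨hP, hφT, hP', hx⟩ := hind
    refine ⟨conjH e hPR φ (fun x => hT (hφT x)), (hC.hom_iff hPR φ _).mp hφC, ?_⟩
    have hm : ∀ x : preimageAlong θ P₁,
        θ' ⟨((eP e hPR x : imP e (preimageAlong θ P₁)) : Ω'), imP_mono e hPT (eP e hPR x).2⟩
          = ((eb ⟨θ ⟨x, hPT x.2⟩, hθS _⟩ : S₁') : Ω₁') := by
      intro x
      have h1 : (⟨((eP e hPR x : imP e (preimageAlong θ P₁)) : Ω'),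
          imP_mono e hPT (eP e hPR x).2⟩ : imP e T) = eP e hT ⟨x, hPT x.2⟩ := Subtype.ext rfl
      rw [h1, hcompat ⟨x, hPT x.2⟩ (hθS _)]
    refine ⟨imP_mono e hPT, fun y => conjH_comp_mem e hPR hT φ hφT y, ?_, ?_⟩
    · intro y
      obtain ⟨x, rfl⟩ := (eP e hPR).surjective y
      rw [hm x]
      exact map_mem_imP eb (hθS _) (hP' x)
    · intro y
      obtain ⟨x, rfl⟩ := (eP e hPR).surjective y
      have h2 : ∀ hmem, (⟨θ' ⟨((eP e hPR x : imP e (preimageAlong θ P₁)) : Ω'),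
            imP_mono e hPT (eP e hPR x).2⟩, hmem⟩ : imP eb P₁)
          = eP eb hP₁ ⟨θ ⟨x, hPT x.2⟩, hP' x⟩ := by
        intro hmem
        exact Subtype.ext (hm x)
      rw [h2]
      refine (conjH_eP eb hP₁ φ₁ hφ₁ _).trans ?_
      have h3 : (⟨conjH e hPR φ (fun x => hT (hφT x)) (eP e hPR x),
          conjH_comp_mem e hPR hT φ hφT _⟩ : imP e T) = eP e hT ⟨φ x, hφT x⟩ :=
        Subtype.ext (conjH_eP e hPR φ _ x)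
      rw [h3, ← hcompat ⟨φ x, hφT x⟩ (hθS _)]
      have h4 : (⟨φ₁ ⟨θ ⟨x, hPT x.2⟩, hP' x⟩, hφ₁ _⟩ : S₁) = ⟨θ ⟨φ x, hφT x⟩, hθS _⟩ :=
        Subtype.ext (hx x)
      rw [h4]
  · rintro ⟨-, hex⟩
    refine ⟨hP₁, ?_⟩
    rw [K1] at hex
    obtain ⟨φ', hφ'C, hind⟩ := hex
    obtain ⟨φ, hφ, hφC, rfl⟩ := hC.exists_of_mem hPR hφ'C
    have hφT : ∀ x, φ x ∈ T := fun x => hom_mem C hφC x
    refine ⟨φ, hφC, ?_⟩
    obtain ⟨hP, hφT', hP', hx⟩ := hind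
    have hP₁' : ∀ x : preimageAlong θ P₁, θ ⟨x, hPT x.2⟩ ∈ P₁ := by
      intro x
      obtain ⟨_, h⟩ := (mem_preimageAlong θ P₁ x).mp x.2
      exact h
    refine ⟨hPT, hφT, hP₁', ?_⟩
    intro x
    have hm : θ' ⟨((eP e hPR x : imP e (preimageAlong θ P₁)) : Ω'), hP (eP e hPR x).2⟩
          = ((eb ⟨θ ⟨x, hPT x.2⟩, hθS _⟩ : S₁') : Ω₁') := by
      have h1 : (⟨((eP e hPR x : imP e (preimageAlong θ P₁)) : Ω'),
          hP (eP e hPR x).2⟩ : imP e T) = eP e hT ⟨x, hPT x.2⟩ := Subtype.ext rfl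
      rw [h1, hcompat ⟨x, hPT x.2⟩ (hθS _)]
    have h5 := hx (eP e hPR x)
    have h2 : (⟨θ' ⟨((eP e hPR x : imP e (preimageAlong θ P₁)) : Ω'),
          hP (eP e hPR x).2⟩, hP' _⟩ : imP eb P₁)
        = eP eb hP₁ ⟨θ ⟨x, hPT x.2⟩, hP₁' x⟩ := Subtype.ext hm
    rw [h2] at h5
    have h6 := (conjH_eP eb hP₁ φ₁ hφ₁ _).symm.trans h5
    have h3 : (⟨conjH e hPR φ hφ (eP e hPR x), hφT' _⟩ : imP e T) = eP e hT ⟨φ x, hφT x⟩ :=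
      Subtype.ext (conjH_eP e hPR φ _ x)
    rw [h3, ← hcompat ⟨φ x, hφT x⟩ (hθS _)] at h6
    have h7 : (eb ⟨φ₁ ⟨θ ⟨x, hPT x.2⟩, hP₁' x⟩, hφ₁ _⟩ : S₁') = eb ⟨θ ⟨φ x, hφT x⟩, hθS _⟩ :=
      Subtype.ext h6
    exact congrArg (fun z : S₁ => (z : Ω₁)) (eb.injective h7)

end Cfsg.Agent.Lib.Helper6.FT
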