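import Cfsg.Agent.Lib.Helper6.FT8

/-!
# Transport of fusion systems: quasisimple systems and components
-/

set_option autoImplicit false

namespace Cfsg.Agent.Lib.Helper6.FT

open Cfsg Cfsg.FusionSystem Cfsg.Agent.Lib.Helper9

variable {Ω Ω' : Type*} [Group Ω] [Group Ω'] {R : Subgroup Ω} {R' : Subgroup Ω'}

theorem IsImg.quasisimple {e : R ≃* R'} {T : Subgroup Ω} {C : FusionSystem T}
    {T' : Subgroup Ω'} {C' : FusionSystem T'} (hC : IsImg e C C') [Finite T] (p : ℕ)
    [Fact p.Prime] (hTp : IsPGroup p T) (hq : C.Quasisimple p) : C'.Quasisimple p := by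
  obtain ⟨hsat, hhyp, hsimp⟩ := hq
  have hT : T ≤ R := hC.le
  obtain rfl : T' = imP e T := hC.eq
  refine ⟨hC.saturated p hTp hsat, ?_, ?_⟩
  · rw [hC.hyperfocal p hTp hsat, hhyp]
  · intro E' hE'
    obtain ⟨E₁, hE₁⟩ := exists_factorSystem_quotient C C.center (center_stronglyClosed C)
    have hs1 : E₁.IsSimple p := hsimp E₁ hE₁
    have hZ' : C'.center = imP e C.center := hC.center
    have hmap : ((C.center).subgroupOf T).map ((eP e hT : T ≃* imP e T) : T →* imP e T)
        = (C'.center).subgroupOf (imP e T) := by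
      ext y
      rw [Subgroup.mem_subgroupOf, hZ', Subgroup.mem_map]
      constructor
      · rintro ⟨x, hx, rfl⟩
        exact map_mem_imP e (hT x.2) (Subgroup.mem_subgroupOf.mp hx)
      · intro hy
        obtain ⟨x, hx, hxZ, hxy⟩ := (mem_imP e _ _).mp hy
        have hxT : x ∈ T := center_le C hxZ
        refine ⟨⟨x, hxT⟩, Subgroup.mem_subgroupOf.mpr hxZ, ?_⟩
        exact Subtype.ext hxy
    let q := QuotientGroup.congr ((C.center).subgroupOf T) ((C'.center).subgroupOf (imP e T))
      (eP e hT) hmap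
    let eb : (⊤ : Subgroup (T ⧸ (C.center).subgroupOf T))
        ≃* (⊤ : Subgroup (imP e T ⧸ (C'.center).subgroupOf (imP e T))) :=
      Subgroup.topEquiv.trans (q.trans Subgroup.topEquiv.symm)
    have himg : IsImg eb E₁ E' :=
      isImg_quot e hT C C' hC C.center C'.center
        (QuotientGroup.mk' ((C.center).subgroupOf T))
        (QuotientGroup.mk' ((C'.center).subgroupOf (imP e T))) E₁ E' hE₁ hE' eb
        (fun x hx => rfl)
    haveI : Finite (⊤ : Subgroup (T ⧸ (C.center).subgroupOf T)) :=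
      Finite.of_equiv _ Subgroup.topEquiv.symm.toEquiv
    have hp : IsPGroup p (⊤ : Subgroup (T ⧸ (C.center).subgroupOf T)) :=
      (hTp.to_quotient _).of_equiv Subgroup.topEquiv.symm
    exact himg.isSimple p hp hs1

theorem IsImg.componentIn {e : R ≃* R'} {T S : Subgroup Ω} {C : FusionSystem T}
    {F : FusionSystem S} {T' S' : Subgroup Ω'} {C' : FusionSystem T'} {F' : FusionSystem S'}
    (hC : IsImg e C C') (hF : IsImg e F F') [Finite S] (p : ℕ) [hp : Fact p.Prime]
    (hS : IsPGroup p S) (h : C.IsComponentIn F p) : C'.IsComponentIn F' p := by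
  obtain ⟨hsub, hq⟩ := h
  have hTS : T ≤ S := le_of_isSubnormalIn hsub
  haveI : Finite T := finite_of_le hTS
  exact ⟨isSubnormalIn_img e hsub hp hF.le inferInstance hS C' F' hC hF,
    hC.quasisimple p (isPGroup_of_le hS hTS) hq⟩

end Cfsg.Agent.Lib.Helper6.FT
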