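import Mathlib
import Cfsg.Prelude.Def_Blocks
import Cfsg.Agent.Lib.Helper6.BlkCover
import Cfsg.Agent.Lib.Helper6.BlkFRDict

set_option autoImplicit false
set_option linter.unusedSectionVars false
open Cfsg

namespace Cfsg.Agent.Lib.Helper6

open scoped ComplexConjugate

section knRatio

variable {G : Type*} [Group G] [Fintype G] (N : Subgroup G) [Fintype N] (hN : N.Normal)

/-- the sum of an invariant weight against a conjugate of `θ` -/
theorem sum_mul_conjFun_of_invariant (θ : N → ℂ) (a : N → ℂ)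
    (ha : ∀ (g : G) (n : N), a ⟨g * n * g⁻¹, hN.conj_mem n n.2 g⟩ = a n) (g : G) :
    ∑ n : N, a n * conjFun N hN θ g n = ∑ n : N, a n * θ n := by
  haveI := hN
  rw [← Equiv.sum_comp (MulAut.conjNormal g : N ≃* N).toEquiv (fun n : N => a n * θ n)]
  apply Finset.sum_congr rfl
  intro n _
  have h1 : ((MulAut.conjNormal g : N ≃* N).toEquiv n) = ⟨g * n * g⁻¹, hN.conj_mem n n.2 g⟩ := by
    apply Subtype.ext
    simp
  rw [h1, ha g n, conjFun_apply]

/-- Clifford: sums of an invariant weight against `χ` and against a constituent `θ` of `χ_N` are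
proportional -/
theorem exists_sum_mul_eq_of_invariant {χ : G → ℂ} (hχ : Cfsg.IsIrrCharacter G χ)
    (θ : Cfsg.IrrCharacter N)
    (hc : Cfsg.classInner (fun n : N => χ n) (θ : N → ℂ) ≠ 0) :
    ∃ c : ℂ, ∀ a : N → ℂ,
      (∀ (g : G) (n : N), a ⟨g * n * g⁻¹, hN.conj_mem n n.2 g⟩ = a n) →
      ∑ n : N, a n * χ n = c * ∑ n : N, a n * (θ : N → ℂ) n := by
  classical
  haveI : Fintype (Cfsg.IrrCharacter N) := Fintype.ofFinite _
  refine ⟨∑ ψ : Cfsg.IrrCharacter N,
    if Cfsg.classInner (fun n : N => χ n) (ψ : N → ℂ) ≠ 0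
      then Cfsg.classInner (fun n : N => χ n) (θ : N → ℂ) else 0, ?_⟩
  intro a ha
  have hχcf := IsIrrCharacter.isClassFunction hχ
  have h1 := classFunction_eq_sum (fun n : N => χ n)
    (IsCharacter.isClassFunction (IsCharacter.restrict N (IsIrrCharacter.isCharacter hχ)))
  have h2 : ∀ n : N, χ n = ∑ ψ : Cfsg.IrrCharacter N,
      Cfsg.classInner (fun n : N => χ n) (ψ : N → ℂ) * (ψ : N → ℂ) n := by
    intro n
    have := congrFun h1 n
    simp only [Finset.sum_apply, Pi.smul_apply, smul_eq_mul] at this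
    exact this
  calc ∑ n : N, a n * χ n
      = ∑ n : N, ∑ ψ : Cfsg.IrrCharacter N,
          Cfsg.classInner (fun n : N => χ n) (ψ : N → ℂ) * (a n * (ψ : N → ℂ) n) := by
        apply Finset.sum_congr rfl
        intro n _
        conv_lhs => rw [h2 n]
        rw [Finset.mul_sum]
        apply Finset.sum_congr rfl
        intro ψ _
        ring
    _ = ∑ ψ : Cfsg.IrrCharacter N, Cfsg.classInner (fun n : N => χ n) (ψ : N → ℂ) *
          ∑ n : N, a n * (ψ : N → ℂ) n := by
        rw [Finset.sum_comm]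
        apply Finset.sum_congr rfl
        intro ψ _
        rw [Finset.mul_sum]
    _ = ∑ ψ : Cfsg.IrrCharacter N,
          (if Cfsg.classInner (fun n : N => χ n) (ψ : N → ℂ) ≠ 0
            then Cfsg.classInner (fun n : N => χ n) (θ : N → ℂ) else 0) *
          ∑ n : N, a n * (θ : N → ℂ) n := by
        apply Finset.sum_congr rfl
        intro ψ _
        by_cases h0 : Cfsg.classInner (fun n : N => χ n) (ψ : N → ℂ) = 0
        · rw [if_neg (not_not.mpr h0), h0]
          simp
        · rw [if_pos h0]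
          obtain ⟨g, hg⟩ := exists_conjFun_eq_of_constituents N hN hχ θ.2 ψ.2 hc h0
          rw [hg, classInner_restrict_conjFun N hN hχcf, sum_mul_conjFun_of_invariant N hN _ a ha]
    _ = _ := by rw [Finset.sum_mul]

/-- the ratio lemma: `(Σ a χ) θ(1) = (Σ a θ) χ(1)` for an invariant weight `a` -/
theorem sum_mul_ratio_of_invariant {χ : G → ℂ} (hχ : Cfsg.IsIrrCharacter G χ)
    (θ : Cfsg.IrrCharacter N)
    (hc : Cfsg.classInner (fun n : N => χ n) (θ : N → ℂ) ≠ 0) (a : N → ℂ)
    (ha : ∀ (g : G) (n : N), a ⟨g * n * g⁻¹, hN.conj_mem n n.2 g⟩ = a n) :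
    (∑ n : N, a n * χ n) * (θ : N → ℂ) 1 = (∑ n : N, a n * (θ : N → ℂ) n) * χ 1 := by
  classical
  obtain ⟨c, hcc⟩ := exists_sum_mul_eq_of_invariant N hN hχ θ hc
  have h1 := hcc a ha
  have h2 := hcc (fun n : N => if n = 1 then 1 else 0) (by
    intro g n
    have : (⟨g * n * g⁻¹, hN.conj_mem n n.2 g⟩ : N) = 1 ↔ n = 1 := by
      constructor
      · intro h
        have h' := congrArg Subtype.val h
        simp only [Subgroup.coe_one] at h'
        apply Subtype.ext
        have : (n : G) = g⁻¹ * (g * n * g⁻¹) * g := by group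
        rw [this, h']
        simp
      · intro h
        apply Subtype.ext
        rw [h]
        simp
    simp only [this])
  simp only [ite_mul, one_mul, zero_mul, Finset.sum_ite_eq', Finset.mem_univ, if_true] at h2
  rw [h1]
  have h3 : χ 1 = χ ((1 : N) : G) := by simp
  rw [h3, h2]
  ring

/-- a constituent of the restriction of a class function to `L ≤ S` lies under a constituent on
`S` -/
theorem exists_mid_constituent (L S : Subgroup G) [Fintype L] [Fintype S] (hLS : L ≤ S)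
    {A : G → ℂ} (hA : Cfsg.IsClassFunction G A) (θ : Cfsg.IrrCharacter L)
    (hc : Cfsg.classInner (fun l : L => A l) (θ : L → ℂ) ≠ 0) :
    ∃ η : Cfsg.IrrCharacter S, Cfsg.classInner (fun s : S => A s) (η : S → ℂ) ≠ 0 ∧
      Cfsg.classInner (fun l : L => (η : S → ℂ) ⟨l, hLS l.2⟩) (θ : L → ℂ) ≠ 0 := by
  classical
  haveI : Fintype (Cfsg.IrrCharacter S) := Fintype.ofFinite _
  by_contra hno
  push Not at hno
  apply hc
  have hAS : Cfsg.IsClassFunction S (fun s : S => A s) := by
    intro s t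
    exact hA (s : G) (t : G)
  have h1 := classFunction_eq_sum (fun s : S => A s) hAS
  have h2 : (fun l : L => A l) = ∑ η : Cfsg.IrrCharacter S,
      Cfsg.classInner (fun s : S => A s) (η : S → ℂ) • (fun l : L => (η : S → ℂ) ⟨l, hLS l.2⟩) := by
    funext l
    have := congrFun h1 ⟨l, hLS l.2⟩
    simp only [Finset.sum_apply, Pi.smul_apply, smul_eq_mul] at this ⊢
    exact this
  rw [h2, classInner_sum_left]
  apply Finset.sum_eq_zero
  intro η _
  rw [classInner_smul_left]
  by_cases h0 : Cfsg.classInner (fun s : S => A s) (η : S → ℂ) = 0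
  · rw [h0, zero_mul]
  · rw [hno η h0, mul_zero]

/-- the ratio lemma for a subgroup `L` normalized by an intermediate subgroup `T` -/
theorem sum_mul_ratio_of_invariant_of_le (L T : Subgroup G) [Fintype L] [Fintype T] (hLT : L ≤ T)
    (hLn : ∀ t ∈ T, ∀ l ∈ L, t * l * t⁻¹ ∈ L)
    (χ : Cfsg.IrrCharacter T) (θ : Cfsg.IrrCharacter L)
    (hc : Cfsg.classInner (fun l : L => (χ : T → ℂ) ⟨l, hLT l.2⟩) (θ : L → ℂ) ≠ 0)
    (a : G → ℂ) (ha : ∀ t ∈ T, ∀ g : G, a (t * g * t⁻¹) = a g) :
    (∑ l : L, a l * (χ : T → ℂ) ⟨l, hLT l.2⟩) * (θ : L → ℂ) 1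
      = (∑ l : L, a l * (θ : L → ℂ) l) * (χ : T → ℂ) 1 := by
  classical
  haveI : Fintype (L.subgroupOf T) := Fintype.ofFinite _
  have hN' : (L.subgroupOf T).Normal := by
    constructor
    intro n hn t
    rw [Subgroup.mem_subgroupOf] at hn ⊢
    exact hLn t t.2 n hn
  have hc' : Cfsg.classInner (fun k : L.subgroupOf T => (χ : T → ℂ) k)
      ((irrSub L T hLT θ : Cfsg.IrrCharacter (L.subgroupOf T)) : L.subgroupOf T → ℂ) ≠ 0 := by
    rw [classInner_restrict_irrSub]
    exact hc
  have h := sum_mul_ratio_of_invariant (L.subgroupOf T) hN' χ.2 (irrSub L T hLT θ) hc'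
    (fun k : L.subgroupOf T => a ((k : T) : G)) (by
      intro t n
      exact ha t t.2 _)
  have e1 : ∑ k : L.subgroupOf T, a ((k : T) : G) * (χ : T → ℂ) k
      = ∑ l : L, a l * (χ : T → ℂ) ⟨l, hLT l.2⟩ := by
    rw [← Equiv.sum_comp (Subgroup.subgroupOfEquivOfLe hLT).toEquiv
      (fun l : L => a l * (χ : T → ℂ) ⟨l, hLT l.2⟩)]
    rfl
  have e2 : ∑ k : L.subgroupOf T, a ((k : T) : G) *
      ((irrSub L T hLT θ : Cfsg.IrrCharacter (L.subgroupOf T)) : L.subgroupOf T → ℂ) k
      = ∑ l : L, a l * (θ : L → ℂ) l := by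
    rw [← Equiv.sum_comp (Subgroup.subgroupOfEquivOfLe hLT).toEquiv
      (fun l : L => a l * (θ : L → ℂ) l)]
    rfl
  have e3 : ((irrSub L T hLT θ : Cfsg.IrrCharacter (L.subgroupOf T)) : L.subgroupOf T → ℂ) 1
      = (θ : L → ℂ) 1 := by
    rw [irrSub_apply, map_one]
  rw [e1, e2, e3] at h
  exact h

end knRatio

end Cfsg.Agent.Lib.Helper6
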