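import Mathlib
import Cfsg.Prelude.Def_Blocks
import Cfsg.Agent.Lib.Helper6.BrMax5
import Cfsg.Agent.Lib.Helper6.TwistDefect
import Cfsg.Agent.Lib.Helper6.TwistNormal
import Cfsg.Agent.Lib.Helper6.BlkNormalAbel
import Cfsg.Agent.Lib.Helper6.BlkCover3
import Cfsg.Agent.S0968
import Cfsg.Agent.S0919
import Cfsg.Agent.S4437
import Cfsg.Agent.S0970

set_option autoImplicit false
set_option linter.unusedSectionVars false
open Cfsg

namespace Cfsg.Agent.Lib.Helper6

open scoped ComplexConjugate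

section knCore

variable {K : Type*} [Group K] [Fintype K] [DecidableEq K]
variable {p : ℕ} [Fact p.Prime] {M : Ideal Cfsg.AlgInt}

/-- the degree of an irreducible character trivial on a normal subgroup divides its index -/
theorem charDegree_dvd_index_of_trivial (Q : Subgroup K) [hQ : Q.Normal] (χ : Cfsg.IrrCharacter K)
    (h : ∀ q ∈ Q, (χ : K → ℂ) q = (χ : K → ℂ) 1) : Cfsg.charDegree (χ : K → ℂ) ∣ Q.index := by
  classical
  have : Fintype (K ⧸ Q) := Fintype.ofFinite _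
  obtain ⟨β, hβ⟩ := IsIrrCharacter.exists_deflation Q χ h
  have hdegβ : Cfsg.charDegree (β : K ⧸ Q → ℂ) = Cfsg.charDegree (χ : K → ℂ) := by
    have h1 := IsCharacter.apply_one_eq_charDegree (IsIrrCharacter.isCharacter β.2)
    have h2 := IsCharacter.apply_one_eq_charDegree (IsIrrCharacter.isCharacter χ.2)
    have h3 : (χ : K → ℂ) 1 = (β : K ⧸ Q → ℂ) 1 := by rw [hβ]; rfl
    rw [h1, h2] at h3
    exact_mod_cast h3.symm
  rw [← hdegβ, Subgroup.index_eq_card]
  exact IsIrrCharacter.charDegree_dvd_card β.2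

/-- Knörr's theorem over a normal subgroup of `p`-power index: the core argument -/
theorem knorr_core (hM : Cfsg.IsPModular p M)
    (N : Subgroup K) [Fintype N] (hN : N.Normal) (hidx : ∃ k : ℕ, N.index = p ^ k)
    (b : Set (Cfsg.IrrCharacter N)) (hb : Cfsg.IsPBlock M b) (hbst : GStable N hN b)
    (P : Subgroup K) (hP : IsPGroup p P) (H : Subgroup K) [Fintype H]
    (hH : H = P ⊔ Subgroup.centralizer (P : Set K))
    (θ : Cfsg.IrrCharacter H) (hθP : ∀ h : H, (h : K) ∈ P → (θ : H → ℂ) h = (θ : H → ℂ) 1)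
    (hθdeg : (Nat.card H).factorization p
      ≤ (Cfsg.charDegree (θ : H → ℂ)).factorization p + (Nat.card P).factorization p)
    (hcov : Cfsg.MemLocalIdeal M (cOmega (θ : H → ℂ) (resMat H (liftIdem N b)) - 1))
    (hinert : ∀ t : K, t ∈ Subgroup.normalizer (P : Set K) → (∃ k : ℕ, orderOf t = p ^ k) →
      Cfsg.IsConjCharOf H t (θ : H → ℂ) (θ : H → ℂ) → t ∈ H) :
    Cfsg.IsDefectGroup p M b ((P ⊓ N).subgroupOf N) := by
  classical
  have hpp : p.Prime := Fact.out
  have hPH : P ≤ H := by rw [hH]; exact le_sup_left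
  have hCH : Subgroup.centralizer (P : Set K) ≤ H := by rw [hH]; exact le_sup_right
  have hHN : H ≤ Subgroup.normalizer (P : Set K) := by
    rw [hH]; exact sup_le Subgroup.le_normalizer (Subgroup.centralizer_le_normalizer _)
  -- the world of `H`
  obtain ⟨P', hP'def⟩ : ∃ P' : Subgroup H, P' = P.subgroupOf H := ⟨_, rfl⟩
  have hP'p : IsPGroup p P' := by
    rw [hP'def, ← Subgroup.comap_subtype]; exact hP.comap_subtype
  have hG' : P' ⊔ Subgroup.centralizer (P' : Set H) = ⊤ := by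
    rw [hP'def]
    apply Subgroup.map_injective (Subgroup.subtype_injective H)
    rw [Subgroup.map_sup, map_centralizer_subgroupOf P H hPH hCH,
      Subgroup.map_subgroupOf_eq_of_le hPH, ← MonoidHom.range_eq_map, Subgroup.range_subtype, hH]
  have hθ' : ∀ x ∈ P', (θ : H → ℂ) x = (θ : H → ℂ) 1 := by
    intro x hx
    rw [hP'def, Subgroup.mem_subgroupOf] at hx
    exact hθP x hx
  have hcardP' : Nat.card P' = Nat.card P := by
    rw [hP'def]; exact Nat.card_congr (Subgroup.subgroupOfEquivOfLe hPH).toEquiv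
  have hdeg' : (Cfsg.charDegree (θ : H → ℂ)).factorization p = P'.index.factorization p := by
    have h1 := P'.card_mul_index
    have h2 : (Nat.card H).factorization p
        = (Nat.card P').factorization p + P'.index.factorization p := by
      rw [← h1, Nat.factorization_mul Nat.card_pos.ne' P'.index_ne_zero_of_finite]
      rfl
    rw [hcardP'] at h2
    haveI : P'.Normal := normal_of_sup_centralizer_eq_top P' hG'
    have h3 := charDegree_dvd_index_of_trivial P' θ hθ'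
    have h4 := (Nat.factorization_le_iff_dvd (IsIrrCharacter.charDegree_pos θ.2).ne'
      P'.index_ne_zero_of_finite).mpr h3 p
    omega
  haveI : Fintype P' := Fintype.ofFinite _
  have hβD : Cfsg.IsDefectGroup p M (Cfsg.blockOf M (θ : H → ℂ)) P' :=
    isDefectGroup_blockOf_twist P' hP'p hG' θ hdeg' (oneIrr P')
      (hH_of_const_on (p := p) P' θ hθ') hM
  obtain ⟨huniq, -, -⟩ := Cfsg.Agent.S0968.result p M hM P' hP'p hG'
    (Cfsg.blockOf M (θ : H → ℂ)) ⟨θ, rfl⟩ hβD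
  have hβD' : Cfsg.IsDefectGroup p M (Cfsg.blockOf M (θ : H → ℂ)) (P.subgroupOf H) := by
    rw [← hP'def]; exact hβD
  -- the induced block
  obtain ⟨Bs, hBs⟩ := Cfsg.Agent.S0919.result p M hM P H hP hPH hCH hHN
    (Cfsg.blockOf M (θ : H → ℂ)) ⟨θ, rfl⟩
  -- the stabilizer
  have hNH : Subgroup.normalizer (P : Set K) ≤ Subgroup.normalizer (H : Set K) := by
    rw [hH]
    have h1 := Subgroup.normalizer_inf_normalizer_le_normalizer_sup P
      (Subgroup.centralizer (P : Set K))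
    intro g hg
    exact h1 ⟨hg, normalizer_le_normalizer_centralizer P hg⟩
  obtain ⟨T, hTdef⟩ : ∃ T : Subgroup K,
      T = stabSub H (Cfsg.blockOf M (θ : H → ℂ)) ⊓ Subgroup.normalizer (P : Set K) := ⟨_, rfl⟩
  have hT : ∀ g : K, g ∈ T ↔ (g ∈ Subgroup.normalizer (P : Set K) ∧
      ∀ θ₁ ∈ Cfsg.blockOf M (θ : H → ℂ), ∀ θ' : Cfsg.IrrCharacter H,
        (∀ h h' : H, (h' : K) = g * h * g⁻¹ → (θ' : H → ℂ) h' = (θ₁ : H → ℂ) h) →
          θ' ∈ Cfsg.blockOf M (θ : H → ℂ)) := by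
    intro g
    rw [hTdef, Subgroup.mem_inf]
    constructor
    · rintro ⟨h1, h2⟩
      exact ⟨h2, (cond_iff_mem_stabSub H _ g (hNH h2)).mpr h1⟩
    · rintro ⟨h1, h2⟩
      exact ⟨(cond_iff_mem_stabSub H _ g (hNH h1)).mp h2, h1⟩
  have hrel : ¬ p ∣ H.relIndex T := by
    intro hdvd
    obtain ⟨Q⟩ : Nonempty (Sylow p T) := inferInstance
    have hex : ∃ t : T, t ∈ Q ∧ (t : K) ∉ H := by
      by_contra hno
      push Not at hno
      have hQH : (Q : Subgroup T) ≤ H.subgroupOf T := by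
        intro t ht
        rw [Subgroup.mem_subgroupOf]
        exact hno t ht
      have h1 := Subgroup.index_dvd_of_le hQH
      exact Q.not_dvd_index (dvd_trans hdvd h1)
    obtain ⟨t, htQ, htH⟩ := hex
    apply htH
    have htT : (t : K) ∈ stabSub H (Cfsg.blockOf M (θ : H → ℂ)) ⊓
        Subgroup.normalizer (P : Set K) := by
      rw [← hTdef]; exact t.2
    rw [Subgroup.mem_inf] at htT
    obtain ⟨ht1, ht2⟩ := htT
    have hx : (t : K) ∈ Subgroup.normalizer (H : Set K) := hNH ht2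
    apply hinert t ht2
    · obtain ⟨k, hk⟩ := (IsPGroup.iff_orderOf.1 Q.isPGroup') ⟨t, htQ⟩
      refine ⟨k, ?_⟩
      rw [← hk, ← Subgroup.orderOf_coe, ← Subgroup.orderOf_coe]
    · rw [isConjCharOf_iff H (t : K) hx θ θ]
      have h1 : autIrr (nAut H (t : K) hx) θ ∈ Cfsg.blockOf M (θ : H → ℂ) := by
        obtain ⟨_, hst⟩ := ht1
        have h0 : autIrr (nAut H (t : K) hx) θ
            ∈ autIrr (nAut H (t : K) hx) '' Cfsg.blockOf M (θ : H → ℂ) :=
          ⟨θ, sameBlock_refl hM _, rfl⟩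
        rw [hst] at h0
        exact h0
      have h2 : ∀ x ∈ P', (autIrr (nAut H (t : K) hx) θ : H → ℂ) x
          = (autIrr (nAut H (t : K) hx) θ : H → ℂ) 1 := by
        intro x hx'
        rw [autIrr_apply, autIrr_apply, map_one]
        apply hθP
        rw [nAut_inv_apply_coe]
        rw [hP'def, Subgroup.mem_subgroupOf] at hx'
        have h3 := ht2
        rw [Subgroup.mem_normalizer_iff'] at h3
        have h4 := (h3 ((t : K)⁻¹ * (x : K))).mpr (by simpa using hx')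
        exact h4
      exact huniq.unique ⟨sameBlock_refl hM _, hθ'⟩ ⟨h1, h2⟩
  have hBsD : Cfsg.IsDefectGroup p M Bs P :=
    (Cfsg.Agent.S4437.result p M hM P hP H hH (Cfsg.blockOf M (θ : H → ℂ)) ⟨θ, rfl⟩ hβD' Bs hBs
      T hT).mpr hrel
  -- `Bs` covers `b`
  have hS : ∀ n : N, Cfsg.MemLocalRing M (Cfsg.blockCoeff b n) := by
    obtain ⟨θ₁, rfl⟩ := hb
    intro n
    exact blockCoeff_memLocalRing hM _ n
  obtain ⟨ψ, hψdef⟩ := hBs.2.1
  have hψ : ψ ∈ Bs := by rw [hψdef]; exact sameBlock_refl hM _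
  have hcovB : ∃ χ ∈ Bs, ∃ θ₁ ∈ b,
      Cfsg.classInner (fun n : N => (χ : K → ℂ) n) (θ₁ : N → ℂ) ≠ 0 := by
    by_contra hno
    push Not at hno
    have h1 := IsInducedBlock.cOmega_sub H hM hBs θ (sameBlock_refl hM _) ψ hψ
      (liftIdem_mem_centerAlg N hN hbst) (liftIdem_mem_sMat N hM hS)
    rw [cOmega_liftIdem_eq_zero N b (ψ : K → ℂ) (hno ψ hψ), sub_zero] at h1
    have h2 := MemLocalIdeal.sub hM h1 hcov
    rw [sub_sub_cancel] at h2
    exact not_memLocalIdeal_one hM h2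
  -- uniqueness of the covering block
  have hmax : ∀ B' : Set (Cfsg.IrrCharacter K), Cfsg.IsPBlock M B' →
      (∃ χ ∈ B', ∃ θ₁ ∈ b, Cfsg.classInner (fun n : N => (χ : K → ℂ) n) (θ₁ : N → ℂ) ≠ 0) →
      Cfsg.blockDefect p B' ≤ Cfsg.blockDefect p Bs := by
    intro B' hB' hcov'
    obtain ⟨χ', hχ', θ', hθ', hc'⟩ := hcov'
    obtain ⟨χ₁, hχ₁, θ₁, hθ₁, hc₁⟩ := hcovB
    have hθθ : Cfsg.SameBlock M (θ₁ : N → ℂ) (θ' : N → ℂ) := by
      obtain ⟨θ₀, rfl⟩ := hb
      exact SameBlock.trans' hM (SameBlock.symm' hθ₁) hθ'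
    have h1 := sameBlock_of_cover_of_index N hM hidx χ₁ χ' θ₁ θ' hθθ hc₁ hc'
    have h2 : B' = Bs := by
      obtain ⟨χ₀, rfl⟩ := hB'
      obtain ⟨χ₂, rfl⟩ := hBs.2.1
      rw [blockOf_eq_of_mem hM hχ', blockOf_eq_of_mem hM hχ₁]
      exact (blockOf_eq_of_sameBlock hM h1).symm
    rw [h2]
  haveI := hN
  have hinv : ∀ g : K, ∀ θ₁ ∈ b, ∀ θ' : Cfsg.IrrCharacter N,
      (∀ n : N, (θ' : N → ℂ) n = (θ₁ : N → ℂ) ⟨g * n * g⁻¹, hN.conj_mem n n.2 g⟩) → θ' ∈ b :=
    fun g => (stab_iff_irrConj N hN b g).mpr (fun θ₁ hθ₁ => hbst θ₁ hθ₁ g)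
  exact (Cfsg.Agent.S0970.result p M hM N b hb hinv Bs hBs.2.1 hcovB hmax P hBsD).2.1

end knCore

end Cfsg.Agent.Lib.Helper6
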