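import Mathlib
import Cfsg.Prelude.Def_Blocks
import Cfsg.Agent.Lib.Helper6.KnRatio
import Cfsg.Agent.Lib.Helper6.BrWeight
import Cfsg.Agent.Lib.Helper6.CliffordStab
import Cfsg.Agent.Lib.Helper6.CliffordDeg
import Cfsg.Agent.Lib.Helper6.Ito

set_option autoImplicit false
set_option linter.unusedSectionVars false
open Cfsg

namespace Cfsg.Agent.Lib.Helper6

open scoped ComplexConjugate

section knDZ

variable {H : Type*} [Group H] [Fintype H] [DecidableEq H]

/-- every constituent on a normal subgroup `C` of a character of defect zero modulo the normal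
`p`-subgroup `Q` has defect zero modulo `Q ∩ C` -/
theorem constituent_defect_zero_mod {p : ℕ} (hp : p.Prime) (Q C : Subgroup H)
    [hQn : Q.Normal] [hCn : C.Normal] [Fintype C] (χ : Cfsg.IrrCharacter H)
    (hker : ∀ q ∈ Q, (χ : H → ℂ) q = (χ : H → ℂ) 1)
    (hdeg : (Cfsg.charDegree (χ : H → ℂ)).factorization p + (Nat.card Q).factorization p
      = (Nat.card H).factorization p)
    (η : Cfsg.IrrCharacter C)
    (hη : Cfsg.classInner (fun c : C => (χ : H → ℂ) c) (η : C → ℂ) ≠ 0) :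
    (Nat.card C).factorization p
        ≤ (Cfsg.charDegree (η : C → ℂ)).factorization p
          + (Nat.card (Q.subgroupOf C)).factorization p := by
  obtain ⟨θ₀, hθ₀, _, hdeg₀⟩ := exists_constituent_defect_zero_mod hp Q C χ hker hdeg
  obtain ⟨g, hg⟩ := exists_conjFun_eq_of_constituents C hCn χ.2 θ₀.2 η.2 hθ₀ hη
  have : Cfsg.charDegree (η : C → ℂ) = Cfsg.charDegree (θ₀ : C → ℂ) := by
    unfold Cfsg.charDegree
    rw [hg, conjFun_apply_one]
  rw [this]
  exact hdeg₀

end knDZ

section lemI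

variable {X : Type*} [Group X] [Fintype X] [DecidableEq X]

/-- sum of squared absolute values of an irreducible character -/
theorem sum_normSq_of_isIrrCharacter {η : X → ℂ} (hη : Cfsg.IsIrrCharacter X η) :
    ∑ s : X, Complex.normSq (η s) = (Nat.card X : ℝ) := by
  have h1 := classInner_isIrrCharacter hη hη
  rw [if_pos rfl] at h1
  unfold Cfsg.classInner at h1
  have h2 : ∑ s : X, η s * conj (η s) = (Nat.card X : ℂ) := by
    have h3 : (Nat.card X : ℂ) * ((Nat.card X : ℂ)⁻¹ * ∑ g : X, η g * conj (η g))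
        = (Nat.card X : ℂ) * 1 := by rw [h1]
    rw [← mul_assoc, mul_inv_cancel₀ (card_ne_zero_complex X), one_mul, mul_one] at h3
    exact h3
  have h4 : ∀ s : X, η s * conj (η s) = ((Complex.normSq (η s) : ℝ) : ℂ) := fun s =>
    Complex.mul_conj (η s)
  rw [Finset.sum_congr rfl (fun s _ => h4 s), ← Complex.ofReal_sum] at h2
  have h5 : ((Nat.card X : ℝ) : ℂ) = (Nat.card X : ℂ) := by push_cast; rfl
  rw [← h5] at h2
  exact Complex.ofReal_injective h2

theorem knorr_lemI {p : ℕ} (hp : p.Prime) (P H S L : Subgroup X) [Fintype H] [Fintype S]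
    [Fintype L] (hPn : P.Normal) (hHn : H.Normal) (hSn : S.Normal) (hLn : L.Normal)
    (hL : L = H ⊓ S) (hPL : P ≤ L)
    (x : X) (hxS : x ∈ S) (hgen : H ⊔ Subgroup.zpowers x = ⊤)
    (hxp : ∃ k : ℕ, orderOf x = p ^ k)
    (χ : Cfsg.IrrCharacter H)
    (hχP : ∀ h : H, (h : X) ∈ P → (χ : H → ℂ) h = (χ : H → ℂ) 1)
    (hχdeg : (Cfsg.charDegree (χ : H → ℂ)).factorization p + (Nat.card P).factorization p
      = (Nat.card H).factorization p)
    (hstab : ∀ y : X, conjFun H hHn (χ : H → ℂ) y = (χ : H → ℂ) → y ∈ H)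
    (θ : Cfsg.IrrCharacter L) (hLH : L ≤ H)
    (hθχ : Cfsg.classInner (fun l : L => (χ : H → ℂ) ⟨l, hLH l.2⟩) (θ : L → ℂ) ≠ 0)
    (hθx : conjFun L hLn (θ : L → ℂ) x = (θ : L → ℂ))
    (hθdeg : (Cfsg.charDegree (θ : L → ℂ)).factorization p + (Nat.card P).factorization p
      ≤ (Nat.card L).factorization p) :
    x ∈ H := by
  classical
  haveI := hPn
  haveI := hSn
  haveI := hHn
  have hLS : L ≤ S := by rw [hL]; exact inf_le_right
  -- the induced character
  have hcχ : Cfsg.classInner (fun n : H => (χ : H → ℂ) ⟨n, (le_refl H) n.2⟩) (χ : H → ℂ) ≠ 0 := by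
    have h1 : (fun n : H => (χ : H → ℂ) ⟨n, (le_refl H) n.2⟩) = (χ : H → ℂ) := by funext n; rfl
    rw [h1, classInner_irrCharacter, if_pos rfl]
    exact one_ne_zero
  have hζ := indFun_isIrrCharacter_of_stab H hHn H (le_refl H) χ hstab χ hcχ
  obtain ⟨ζ, hζdef⟩ : ∃ ζ : Cfsg.IrrCharacter X, (ζ : X → ℂ) = Cfsg.indFun H (χ : H → ℂ) :=
    ⟨⟨_, hζ⟩, rfl⟩
  have hζP : ∀ q ∈ P, (ζ : X → ℂ) q = (ζ : X → ℂ) 1 := by
    intro q hq
    have hqH : q ∈ H := hLH (hPL hq)
    rw [hζdef]
    have h1 := indFun_apply_of_normal H hHn (χ : H → ℂ) ⟨q, hqH⟩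
    have h2 := indFun_apply_of_normal H hHn (χ : H → ℂ) 1
    simp only [Subgroup.coe_one] at h2
    simp only at h1
    rw [h1, h2]
    congr 1
    apply Finset.sum_congr rfl
    intro y _
    rw [conjFun_apply, conjFun_apply]
    rw [hχP ⟨y * q * y⁻¹, _⟩ (hPn.conj_mem q hq y)]
    apply congrArg
    apply Subtype.ext
    simp
  have hζ1 : Cfsg.charDegree (ζ : X → ℂ) = H.index * Cfsg.charDegree (χ : H → ℂ) := by
    have h1 := indFun_one H (χ : H → ℂ)
    rw [← hζdef, IsCharacter.apply_one_eq_charDegree (IsIrrCharacter.isCharacter ζ.2),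
      IsCharacter.apply_one_eq_charDegree (IsIrrCharacter.isCharacter χ.2), ← Nat.cast_mul] at h1
    exact_mod_cast h1
  have hζdeg : (Cfsg.charDegree (ζ : X → ℂ)).factorization p + (Nat.card P).factorization p
      = (Nat.card X).factorization p := by
    rw [hζ1, Nat.factorization_mul H.index_ne_zero_of_finite
      (IsIrrCharacter.charDegree_pos χ.2).ne', ← H.card_mul_index,
      Nat.factorization_mul Nat.card_pos.ne' H.index_ne_zero_of_finite]
    simp only [Finsupp.coe_add, Pi.add_apply]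
    omega
  -- `ζ` lies over `θ`
  have hζcf := IsIrrCharacter.isClassFunction ζ.2
  have hζH : Cfsg.classInner (fun h : H => (ζ : X → ℂ) h) (χ : H → ℂ) ≠ 0 := by
    have h1 := Cfsg.Agent.S0146.result H (χ : H → ℂ) (ζ : X → ℂ) hζcf
    rw [← hζdef, classInner_irrCharacter, if_pos rfl] at h1
    rw [← classInner_conj_symm, ← h1]
    simp
  have hζL : Cfsg.classInner (fun l : L => (ζ : X → ℂ) l) (θ : L → ℂ) ≠ 0 := by
    obtain ⟨k, hk⟩ := IsCharacter.classInner_comp_ge (Subgroup.inclusion hLH)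
      (IsCharacter.restrict H (IsIrrCharacter.isCharacter ζ.2)) χ.2 hζH θ.2
    obtain ⟨m, hm⟩ := IsCharacter.classInner_irr_nat
      (IsCharacter.comp (Subgroup.inclusion hLH) (IsIrrCharacter.isCharacter χ.2)) θ.2
    have e1 : (fun x : L => (χ : H → ℂ) (Subgroup.inclusion hLH x))
        = fun l : L => (χ : H → ℂ) ⟨l, hLH l.2⟩ := rfl
    have e2 : (fun x : L => (fun h : H => (ζ : X → ℂ) h) (Subgroup.inclusion hLH x))
        = fun l : L => (ζ : X → ℂ) l := rfl
    rw [e1] at hm hk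
    rw [e2] at hk
    rw [hk, hm]
    have hm0 : m ≠ 0 := by
      intro h0
      rw [h0] at hm
      exact hθχ (by simpa using hm)
    have : ((m + k : ℕ) : ℂ) ≠ 0 := by
      exact_mod_cast (by omega : m + k ≠ 0)
    simpa using this
  obtain ⟨η, hηζ, hηθ⟩ := exists_mid_constituent L S hLS hζcf θ hζL
  have hηdeg := constituent_defect_zero_mod hp P S ζ hζP hζdeg η hηζ
  -- invariance of `θ` under `S`
  have hSI : S ≤ inertia L hLn (θ : L → ℂ) := by
    intro s hs
    have hs' : s ∈ H ⊔ Subgroup.zpowers x := by rw [hgen]; trivial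
    rw [Subgroup.mem_sup_of_normal_left] at hs'
    obtain ⟨y, hy, z, hz, rfl⟩ := hs'
    have hzS : z ∈ S := (Subgroup.zpowers_le.mpr hxS) hz
    have hyS : y ∈ S := by
      have := S.mul_mem hs (S.inv_mem hzS)
      simpa using this
    have hyL : y ∈ L := by rw [hL]; exact ⟨hy, hyS⟩
    have hzI : z ∈ inertia L hLn (θ : L → ℂ) :=
      (Subgroup.zpowers_le.mpr ((mem_inertia L hLn _ x).mpr hθx)) hz
    exact Subgroup.mul_mem _ (le_inertia L hLn (IsIrrCharacter.isClassFunction θ.2) hyL) hzI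
  have h7 := restrict_eq_smul_of_invariant_of_le L hLn S hLS η.2 θ.2
    (fun s hs => (mem_inertia L hLn _ s).mp (hSI hs)) hηθ
  obtain ⟨m, hm⟩ := IsCharacter.classInner_irr_nat
    (IsCharacter.comp (Subgroup.inclusion hLS) (IsIrrCharacter.isCharacter η.2)) θ.2
  have e1 : (fun x : L => (η : S → ℂ) (Subgroup.inclusion hLS x))
      = fun l : L => (η : S → ℂ) ⟨l, hLS l.2⟩ := rfl
  rw [e1] at hm
  rw [hm] at h7
  have hm0 : m ≠ 0 := by
    intro h0
    rw [h0] at hm
    exact hηθ (by simpa using hm)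
  have hη1 : Cfsg.charDegree (η : S → ℂ) = m * Cfsg.charDegree (θ : L → ℂ) := by
    have h8 := congrFun h7 1
    simp only [Pi.smul_apply, smul_eq_mul] at h8
    have h9 : (⟨((1 : L) : X), hLS (1 : L).2⟩ : S) = 1 := by
      apply Subtype.ext
      simp
    rw [h9, IsCharacter.apply_one_eq_charDegree (IsIrrCharacter.isCharacter η.2),
      IsCharacter.apply_one_eq_charDegree (IsIrrCharacter.isCharacter θ.2), ← Nat.cast_mul] at h8
    exact_mod_cast h8
  -- the norm inequality
  have hnorm : m ^ 2 * Nat.card L ≤ Nat.card S := by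
    have h10 := sum_normSq_of_isIrrCharacter η.2
    have h11 := sum_normSq_of_isIrrCharacter θ.2
    have h12 : ∑ l : L, Complex.normSq ((η : S → ℂ) ⟨l, hLS l.2⟩)
        = (m : ℝ) ^ 2 * ∑ l : L, Complex.normSq ((θ : L → ℂ) l) := by
      rw [Finset.mul_sum]
      apply Finset.sum_congr rfl
      intro l _
      have := congrFun h7 l
      simp only [Pi.smul_apply, smul_eq_mul] at this
      rw [this, Complex.normSq_mul, Complex.normSq_natCast]
      ring
    have h13 : ∑ l : L, Complex.normSq ((η : S → ℂ) ⟨l, hLS l.2⟩)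
        ≤ ∑ s : S, Complex.normSq ((η : S → ℂ) s) := by
      have hinj : Function.Injective (Subgroup.inclusion hLS) := Subgroup.inclusion_injective hLS
      have h14 : ∑ l : L, Complex.normSq ((η : S → ℂ) ⟨l, hLS l.2⟩)
          = ∑ s ∈ Finset.univ.image (Subgroup.inclusion hLS), Complex.normSq ((η : S → ℂ) s) := by
        rw [Finset.sum_image (fun a _ b _ h => hinj h)]
        rfl
      rw [h14]
      exact Finset.sum_le_univ_sum_of_nonneg (fun s => Complex.normSq_nonneg _)
    rw [h12, h11, h10] at h13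
    have h15 : ((m ^ 2 * Nat.card L : ℕ) : ℝ) ≤ ((Nat.card S : ℕ) : ℝ) := by
      push_cast
      exact h13
    exact_mod_cast h15
  -- the index of `H`
  obtain ⟨k, hk⟩ := hxp
  have hHS : S ⊔ H = ⊤ := by
    apply top_unique
    rw [← hgen, sup_comm S H]
    exact sup_le_sup_left (Subgroup.zpowers_le.mpr hxS) H
  obtain ⟨j, hjk, hj⟩ : ∃ j ≤ k, H.index = p ^ j := by
    apply (Nat.dvd_prime_pow hp).1
    rw [← hk, ← Nat.card_zpowers, ← Subgroup.relIndex_top_right, ← hgen,
      Subgroup.relIndex_sup_left]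
    exact Subgroup.relIndex_dvd_card _ _
  have hcardS : Nat.card S = Nat.card L * p ^ j := by
    have h16 := Subgroup.relIndex_mul_relIndex ⊥ L S bot_le hLS
    rw [Subgroup.relIndex_bot_left, Subgroup.relIndex_bot_left] at h16
    rw [← h16, ← hj]
    congr 1
    rw [hL, Subgroup.inf_relIndex_right, ← Subgroup.relIndex_top_right, ← hHS,
      Subgroup.relIndex_sup_right]
  have hcardP : Nat.card (P.subgroupOf S) = Nat.card P :=
    Nat.card_congr (Subgroup.subgroupOfEquivOfLe (hPL.trans hLS)).toEquiv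
  rw [hcardP, hη1, Nat.factorization_mul hm0 (IsIrrCharacter.charDegree_pos θ.2).ne', hcardS,
    Nat.factorization_mul Nat.card_pos.ne' (pow_ne_zero _ hp.ne_zero),
    Nat.Prime.factorization_pow hp] at hηdeg
  simp only [Finsupp.coe_add, Pi.add_apply, Finsupp.single_eq_same] at hηdeg
  have hjm : j ≤ m.factorization p := by omega
  have hpm : p ^ j ∣ m := (hp.pow_dvd_iff_le_factorization hm0).2 hjm
  have hpm' : p ^ j ≤ m := Nat.le_of_dvd (Nat.pos_of_ne_zero hm0) hpm
  rw [hcardS, mul_comm] at hnorm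
  have hm2 : m ^ 2 ≤ p ^ j := Nat.le_of_mul_le_mul_left hnorm Nat.card_pos
  have hm1 : m = 1 := by nlinarith [Nat.pos_of_ne_zero hm0]
  have hpj : p ^ j = 1 := by
    rw [hm1] at hpm'
    exact le_antisymm hpm' (Nat.one_le_pow _ _ hp.pos)
  have hH : H = ⊤ := by
    rw [← Subgroup.index_eq_one, hj, hpj]
  rw [hH]
  trivial

end lemI

end Cfsg.Agent.Lib.Helper6
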