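import Mathlib
import Cfsg.Prelude.Def_Blocks
import Cfsg.Agent.Lib.Helper6.KnCore
import Cfsg.Agent.Lib.Helper6.KnLemI
import Cfsg.Agent.Lib.Helper6.BrMax2
import Cfsg.Agent.Lib.Helper6.BrFull
import Cfsg.Agent.Lib.Helper6.BlkUniqueCover

set_option autoImplicit false
set_option linter.unusedSectionVars false
open Cfsg

namespace Cfsg.Agent.Lib.Helper6

open scoped ComplexConjugate

section knRel

variable {G : Type*} [Group G] [Fintype G] [DecidableEq G]
variable {p : ℕ} [Fact p.Prime] {M : Ideal Cfsg.AlgInt}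

omit [Fintype G] [DecidableEq G] in
theorem map_centralizer_subgroupOf_inf (P K : Subgroup G) (hPK : P ≤ K) :
    (Subgroup.centralizer ((P.subgroupOf K : Subgroup K) : Set K)).map K.subtype
      = Subgroup.centralizer (P : Set G) ⊓ K := by
  ext x
  rw [Subgroup.mem_map, Subgroup.mem_inf]
  constructor
  · rintro ⟨n, hn, rfl⟩
    refine ⟨?_, n.2⟩
    rw [Subgroup.mem_centralizer_iff] at hn ⊢
    intro d hd
    have h1 := hn ⟨d, hPK hd⟩ (by
      rw [SetLike.mem_coe, Subgroup.mem_subgroupOf]; exact hd)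
    exact congrArg Subtype.val h1
  · rintro ⟨hx, hxK⟩
    refine ⟨⟨x, hxK⟩, ?_, rfl⟩
    rw [Subgroup.mem_centralizer_iff] at hx ⊢
    intro q hq
    rw [SetLike.mem_coe, Subgroup.mem_subgroupOf] at hq
    apply Subtype.ext
    exact hx _ hq

/-- the core argument of Knörr's theorem, relative to a subgroup `K` -/
theorem knorr_core_rel (hM : Cfsg.IsPModular p M)
    (N : Subgroup G) [Fintype N] (hN : N.Normal) (K : Subgroup G) [Fintype K] (hNK : N ≤ K)
    (hidx : ∃ k : ℕ, N.relIndex K = p ^ k)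
    (b : Set (Cfsg.IrrCharacter N)) (hb : Cfsg.IsPBlock M b) (hbst : GStable N hN b)
    (P : Subgroup G) (hP : IsPGroup p P) (hPK : P ≤ K) (L : Subgroup G) [Fintype L]
    (hL : L = P ⊔ (Subgroup.centralizer (P : Set G) ⊓ K))
    (θ : Cfsg.IrrCharacter L) (hθP : ∀ l : L, (l : G) ∈ P → (θ : L → ℂ) l = (θ : L → ℂ) 1)
    (hθdeg : (Nat.card L).factorization p
      ≤ (Cfsg.charDegree (θ : L → ℂ)).factorization p + (Nat.card P).factorization p)
    (hcov : Cfsg.MemLocalIdeal M
      ((∑ l : L, Cfsg.extendByZero N (Cfsg.blockCoeff b) (l : G) * (θ : L → ℂ) l)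
        / (θ : L → ℂ) 1 - 1))
    (hinert : ∀ t ∈ K, t ∈ Subgroup.normalizer (P : Set G) → (∃ k : ℕ, orderOf t = p ^ k) →
      Cfsg.IsConjCharOf L t (θ : L → ℂ) (θ : L → ℂ) → t ∈ L) :
    Cfsg.IsDefectGroup p M b ((P ⊓ N).subgroupOf N) := by
  classical
  have hLK : L ≤ K := by rw [hL]; exact sup_le hPK inf_le_right
  have hPL : P ≤ L := by rw [hL]; exact le_sup_left
  haveI : Fintype (N.subgroupOf K) := Fintype.ofFinite _
  haveI : Fintype (L.subgroupOf K) := Fintype.ofFinite _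
  have hN' : (N.subgroupOf K).Normal := hN.subgroupOf K
  have hb' : Cfsg.IsPBlock M (irrSub N K hNK '' b) := by
    obtain ⟨θ₀, rfl⟩ := hb
    exact ⟨irrSub N K hNK θ₀, image_irrSub_blockOf N K hNK θ₀⟩
  have hbst' : GStable (N.subgroupOf K) hN' (irrSub N K hNK '' b) := by
    rintro _ ⟨θ₁, hθ₁, rfl⟩ k
    rw [irrConj_irrSub N hN K hNK]
    exact ⟨_, hbst θ₁ hθ₁ (k : G), rfl⟩
  have hP' : IsPGroup p (P.subgroupOf K) := by
    rw [← Subgroup.comap_subtype]; exact hP.comap_subtype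
  have hH' : L.subgroupOf K = P.subgroupOf K
      ⊔ Subgroup.centralizer ((P.subgroupOf K : Subgroup K) : Set K) := by
    apply Subgroup.map_injective (Subgroup.subtype_injective K)
    rw [Subgroup.map_sup, Subgroup.map_subgroupOf_eq_of_le hLK,
      Subgroup.map_subgroupOf_eq_of_le hPK, map_centralizer_subgroupOf_inf P K hPK, hL]
  have hθP' : ∀ h : L.subgroupOf K, (h : K) ∈ P.subgroupOf K →
      ((irrSub L K hLK θ : Cfsg.IrrCharacter (L.subgroupOf K)) : L.subgroupOf K → ℂ) h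
        = ((irrSub L K hLK θ : Cfsg.IrrCharacter (L.subgroupOf K)) : L.subgroupOf K → ℂ) 1 := by
    intro h hh
    rw [irrSub_apply, irrSub_apply, map_one]
    apply hθP
    exact hh
  have hθdeg' : (Nat.card (L.subgroupOf K)).factorization p
      ≤ (Cfsg.charDegree ((irrSub L K hLK θ : Cfsg.IrrCharacter (L.subgroupOf K)) :
          L.subgroupOf K → ℂ)).factorization p
        + (Nat.card (P.subgroupOf K)).factorization p := by
    rw [charDegree_irrSub, Nat.card_congr (Subgroup.subgroupOfEquivOfLe hLK).toEquiv,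
      Nat.card_congr (Subgroup.subgroupOfEquivOfLe hPK).toEquiv]
    exact hθdeg
  have hcov' : Cfsg.MemLocalIdeal M
      (cOmega ((irrSub L K hLK θ : Cfsg.IrrCharacter (L.subgroupOf K)) : L.subgroupOf K → ℂ)
        (resMat (L.subgroupOf K) (liftIdem (N.subgroupOf K) (irrSub N K hNK '' b))) - 1) := by
    unfold liftIdem
    rw [resMat_regMat, cOmega_regMat]
    convert hcov using 3
    · rw [← Equiv.sum_comp (Subgroup.subgroupOfEquivOfLe hLK).toEquiv
        (fun l : L => Cfsg.extendByZero N (Cfsg.blockCoeff b) (l : G) * (θ : L → ℂ) l)]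
      apply Finset.sum_congr rfl
      intro h _
      rw [resFun_apply, irrSub_apply]
      congr 1
      by_cases hh : ((h : K) : G) ∈ N
      · have hh' : (h : K) ∈ N.subgroupOf K := hh
        rw [extendByZero_of_mem _ _ hh', blockCoeff_image_irrSub]
        have : ((Subgroup.subgroupOfEquivOfLe hLK).toEquiv h : G) ∈ N := hh
        rw [extendByZero_of_mem _ _ this]
        rfl
      · have hh' : (h : K) ∉ N.subgroupOf K := hh
        rw [extendByZero_of_not_mem _ _ hh']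
        have : ((Subgroup.subgroupOfEquivOfLe hLK).toEquiv h : G) ∉ N := hh
        rw [extendByZero_of_not_mem _ _ this]
    · rw [irrSub_apply, map_one]
  have hinert' : ∀ t : K, t ∈ Subgroup.normalizer ((P.subgroupOf K : Subgroup K) : Set K) →
      (∃ k : ℕ, orderOf t = p ^ k) →
      Cfsg.IsConjCharOf (L.subgroupOf K) t
        ((irrSub L K hLK θ : Cfsg.IrrCharacter (L.subgroupOf K)) : L.subgroupOf K → ℂ)
        ((irrSub L K hLK θ : Cfsg.IrrCharacter (L.subgroupOf K)) : L.subgroupOf K → ℂ) →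
      t ∈ L.subgroupOf K := by
    intro t htn htp htc
    rw [Subgroup.mem_subgroupOf]
    apply hinert (t : G) t.2
    · rw [← Subgroup.subgroupOf_normalizer_eq hPK] at htn
      exact htn
    · obtain ⟨k, hk⟩ := htp
      exact ⟨k, by rw [← hk, Subgroup.orderOf_coe]⟩
    · intro l l' hl
      have h1 := htc ((Subgroup.subgroupOfEquivOfLe hLK).symm l)
        ((Subgroup.subgroupOfEquivOfLe hLK).symm l') (by
          apply Subtype.ext
          exact hl)
      rw [irrSub_apply, irrSub_apply, MulEquiv.apply_symm_apply, MulEquiv.apply_symm_apply] at h1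
      exact h1
  have key := knorr_core hM (N.subgroupOf K) hN' hidx (irrSub N K hNK '' b) hb' hbst'
    (P.subgroupOf K) hP' (L.subgroupOf K) hH' (irrSub L K hLK θ) hθP' hθdeg' hcov' hinert'
  have h := IsDefectGroup.mapIrr (Subgroup.subgroupOfEquivOfLe hNK) key
  have e1 : mapIrr (Subgroup.subgroupOfEquivOfLe hNK) '' (irrSub N K hNK '' b) = b := by
    rw [Set.image_image]
    convert Set.image_id b using 2
    apply Subtype.ext
    funext n
    rw [mapIrr_apply, irrSub_apply, MulEquiv.apply_symm_apply]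
    rfl
  have e2 : (((P.subgroupOf K ⊓ N.subgroupOf K).subgroupOf (N.subgroupOf K))).map
      (Subgroup.subgroupOfEquivOfLe hNK).toMonoidHom = (P ⊓ N).subgroupOf N := by
    ext n
    rw [Subgroup.mem_map, Subgroup.mem_subgroupOf]
    constructor
    · rintro ⟨k, hk, rfl⟩
      rw [Subgroup.mem_subgroupOf, Subgroup.mem_inf, Subgroup.mem_subgroupOf,
        Subgroup.mem_subgroupOf] at hk
      exact hk
    · intro hn
      refine ⟨(Subgroup.subgroupOfEquivOfLe hNK).symm n, ?_, ?_⟩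
      · rw [Subgroup.mem_subgroupOf, Subgroup.mem_inf, Subgroup.mem_subgroupOf,
          Subgroup.mem_subgroupOf]
        exact hn
      · exact (Subgroup.subgroupOfEquivOfLe hNK).apply_symm_apply n
  rw [e1, e2] at h
  exact h

/-- Lemma I relative to the subgroup `H₀ ⊔ ⟨x⟩` -/
theorem knorr_lemI_rel (hpp : p.Prime) (P H₀ S₀ L : Subgroup G) [Fintype H₀] [Fintype L] (x : G)
    (hL : L = H₀ ⊓ S₀) (hPL : P ≤ L) (hxS : x ∈ S₀)
    (hXP : H₀ ⊔ Subgroup.zpowers x ≤ Subgroup.normalizer (P : Set G))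
    (hXH : H₀ ⊔ Subgroup.zpowers x ≤ Subgroup.normalizer (H₀ : Set G))
    (hXS : H₀ ⊔ Subgroup.zpowers x ≤ Subgroup.normalizer (S₀ : Set G))
    (hxp : ∃ k : ℕ, orderOf x = p ^ k)
    (χ : Cfsg.IrrCharacter H₀)
    (hχP : ∀ h : H₀, (h : G) ∈ P → (χ : H₀ → ℂ) h = (χ : H₀ → ℂ) 1)
    (hχdeg : (Cfsg.charDegree (χ : H₀ → ℂ)).factorization p + (Nat.card P).factorization p
      = (Nat.card H₀).factorization p)
    (hstab : ∀ y ∈ H₀ ⊔ Subgroup.zpowers x,
      Cfsg.IsConjCharOf H₀ y (χ : H₀ → ℂ) (χ : H₀ → ℂ) → y ∈ H₀)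
    (θ : Cfsg.IrrCharacter L) (hLH : L ≤ H₀)
    (hθχ : Cfsg.classInner (fun l : L => (χ : H₀ → ℂ) ⟨l, hLH l.2⟩) (θ : L → ℂ) ≠ 0)
    (hθx : Cfsg.IsConjCharOf L x (θ : L → ℂ) (θ : L → ℂ))
    (hθdeg : (Cfsg.charDegree (θ : L → ℂ)).factorization p + (Nat.card P).factorization p
      ≤ (Nat.card L).factorization p) :
    x ∈ H₀ := by
  classical
  obtain ⟨X, hXdef⟩ : ∃ X : Subgroup G, X = H₀ ⊔ Subgroup.zpowers x := ⟨_, rfl⟩
  rw [← hXdef] at hXP hXH hXS hstab
  haveI : Fintype X := Fintype.ofFinite _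
  haveI : Fintype (H₀.subgroupOf X) := Fintype.ofFinite _
  haveI : Fintype (S₀.subgroupOf X) := Fintype.ofFinite _
  haveI : Fintype (L.subgroupOf X) := Fintype.ofFinite _
  have hHX : H₀ ≤ X := by rw [hXdef]; exact le_sup_left
  have hLX : L ≤ X := hLH.trans hHX
  have hPX : P ≤ X := hPL.trans hLX
  have hxX : x ∈ X := by
    rw [hXdef]; exact (le_sup_right : Subgroup.zpowers x ≤ _) (Subgroup.mem_zpowers x)
  have hPn : (P.subgroupOf X).Normal := Subgroup.normal_subgroupOf_of_le_normalizer hXP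
  have hHn : (H₀.subgroupOf X).Normal := Subgroup.normal_subgroupOf_of_le_normalizer hXH
  have hSn : (S₀.subgroupOf X).Normal := Subgroup.normal_subgroupOf_of_le_normalizer hXS
  have hL' : L.subgroupOf X = H₀.subgroupOf X ⊓ S₀.subgroupOf X := by
    rw [hL]
    ext y
    simp only [Subgroup.mem_subgroupOf, Subgroup.mem_inf]
  have hLn : (L.subgroupOf X).Normal := by
    rw [hL']
    exact Subgroup.normal_inf_normal _ _
  have hPL' : P.subgroupOf X ≤ L.subgroupOf X := by
    intro y hy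
    rw [Subgroup.mem_subgroupOf] at hy ⊢
    exact hPL hy
  have hgen' : H₀.subgroupOf X ⊔ Subgroup.zpowers (⟨x, hxX⟩ : X) = ⊤ := by
    apply Subgroup.map_injective (Subgroup.subtype_injective X)
    rw [Subgroup.map_sup, Subgroup.map_subgroupOf_eq_of_le hHX, MonoidHom.map_zpowers,
      ← MonoidHom.range_eq_map, Subgroup.range_subtype]
    exact hXdef.symm
  have hxp' : ∃ k : ℕ, orderOf (⟨x, hxX⟩ : X) = p ^ k := by
    obtain ⟨k, hk⟩ := hxp
    refine ⟨k, ?_⟩
    rw [← hk, ← Subgroup.orderOf_coe]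
  have hχP' : ∀ h : H₀.subgroupOf X, (h : X) ∈ P.subgroupOf X →
      ((irrSub H₀ X hHX χ : Cfsg.IrrCharacter (H₀.subgroupOf X)) : H₀.subgroupOf X → ℂ) h
        = ((irrSub H₀ X hHX χ : Cfsg.IrrCharacter (H₀.subgroupOf X)) : H₀.subgroupOf X → ℂ) 1 := by
    intro h hh
    rw [irrSub_apply, irrSub_apply, map_one]
    apply hχP
    exact hh
  have hχdeg' : (Cfsg.charDegree ((irrSub H₀ X hHX χ : Cfsg.IrrCharacter (H₀.subgroupOf X)) :
        H₀.subgroupOf X → ℂ)).factorization p + (Nat.card (P.subgroupOf X)).factorization p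
      = (Nat.card (H₀.subgroupOf X)).factorization p := by
    rw [charDegree_irrSub, Nat.card_congr (Subgroup.subgroupOfEquivOfLe hHX).toEquiv,
      Nat.card_congr (Subgroup.subgroupOfEquivOfLe hPX).toEquiv]
    exact hχdeg
  have hstab' : ∀ y : X, conjFun (H₀.subgroupOf X) hHn
      ((irrSub H₀ X hHX χ : Cfsg.IrrCharacter (H₀.subgroupOf X)) : H₀.subgroupOf X → ℂ) y
        = ((irrSub H₀ X hHX χ : Cfsg.IrrCharacter (H₀.subgroupOf X)) : H₀.subgroupOf X → ℂ) →
      y ∈ H₀.subgroupOf X := by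
    intro y hy
    rw [Subgroup.mem_subgroupOf]
    apply hstab (y : G) y.2
    intro h h' hh
    have h1 := congrFun hy ((Subgroup.subgroupOfEquivOfLe hHX).symm h)
    rw [conjFun_apply, irrSub_apply, irrSub_apply, MulEquiv.apply_symm_apply] at h1
    rw [← h1]
    apply congrArg
    apply Subtype.ext
    rw [hh]
    rfl
  have hLH' : L.subgroupOf X ≤ H₀.subgroupOf X := by
    intro y hy
    rw [Subgroup.mem_subgroupOf] at hy ⊢
    exact hLH hy
  have hθχ' : Cfsg.classInner (fun l : L.subgroupOf X =>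
      ((irrSub H₀ X hHX χ : Cfsg.IrrCharacter (H₀.subgroupOf X)) : H₀.subgroupOf X → ℂ)
        ⟨l, hLH' l.2⟩)
      ((irrSub L X hLX θ : Cfsg.IrrCharacter (L.subgroupOf X)) : L.subgroupOf X → ℂ) ≠ 0 := by
    have e1 : (fun l : L.subgroupOf X =>
        ((irrSub H₀ X hHX χ : Cfsg.IrrCharacter (H₀.subgroupOf X)) : H₀.subgroupOf X → ℂ)
          ⟨l, hLH' l.2⟩)
        = fun l : L.subgroupOf X => (fun l₀ : L => (χ : H₀ → ℂ) ⟨l₀, hLH l₀.2⟩)
          (Subgroup.subgroupOfEquivOfLe hLX l) := by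
      funext l
      rfl
    have e2 : ((irrSub L X hLX θ : Cfsg.IrrCharacter (L.subgroupOf X)) : L.subgroupOf X → ℂ)
        = fun l : L.subgroupOf X => (θ : L → ℂ) (Subgroup.subgroupOfEquivOfLe hLX l) := by
      funext l
      rfl
    rw [e1, e2]
    have e3 := classInner_comp_mulEquiv (Subgroup.subgroupOfEquivOfLe hLX)
      (fun l₀ : L => (χ : H₀ → ℂ) ⟨l₀, hLH l₀.2⟩) (θ : L → ℂ)
    rw [e3]
    exact hθχ
  have hθx' : conjFun (L.subgroupOf X) hLn
      ((irrSub L X hLX θ : Cfsg.IrrCharacter (L.subgroupOf X)) : L.subgroupOf X → ℂ) ⟨x, hxX⟩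
        = ((irrSub L X hLX θ : Cfsg.IrrCharacter (L.subgroupOf X)) : L.subgroupOf X → ℂ) := by
    funext l
    rw [conjFun_apply, irrSub_apply, irrSub_apply]
    apply hθx
    rfl
  have hθdeg' : (Cfsg.charDegree ((irrSub L X hLX θ : Cfsg.IrrCharacter (L.subgroupOf X)) :
        L.subgroupOf X → ℂ)).factorization p + (Nat.card (P.subgroupOf X)).factorization p
      ≤ (Nat.card (L.subgroupOf X)).factorization p := by
    rw [charDegree_irrSub, Nat.card_congr (Subgroup.subgroupOfEquivOfLe hLX).toEquiv,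
      Nat.card_congr (Subgroup.subgroupOfEquivOfLe hPX).toEquiv]
    exact hθdeg
  have key := knorr_lemI hpp (P.subgroupOf X) (H₀.subgroupOf X) (S₀.subgroupOf X)
    (L.subgroupOf X) hPn hHn hSn hLn hL' hPL' ⟨x, hxX⟩ hxS hgen' hxp'
    (irrSub H₀ X hHX χ) hχP' hχdeg' hstab' (irrSub L X hLX θ) hLH' hθχ' hθx' hθdeg'
  exact key

end knRel

end Cfsg.Agent.Lib.Helper6
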