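import Mathlib
import Cfsg.Prelude.Def_Blocks
import Cfsg.Agent.Lib.Helper6.KnRel
import Cfsg.Agent.Lib.Helper6.KnRatio
import Cfsg.Agent.S0973

set_option autoImplicit false
set_option linter.unusedSectionVars false
open Cfsg

namespace Cfsg.Agent.Lib.Helper6

open scoped ComplexConjugate

section knStableAux

variable {G : Type*} [Group G]

/-- elements of `P ⊔ C_G(P)` are products -/
theorem exists_mul_of_mem_sup_centralizer (P : Subgroup G) {g : G}
    (hg : g ∈ P ⊔ Subgroup.centralizer (P : Set G)) :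
    ∃ u ∈ P, ∃ c ∈ Subgroup.centralizer (P : Set G), g = u * c := by
  let S : Subgroup G :=
    { carrier := {g | ∃ u ∈ P, ∃ c ∈ Subgroup.centralizer (P : Set G), g = u * c}
      one_mem' := ⟨1, P.one_mem, 1, Subgroup.one_mem _, by simp⟩
      mul_mem' := by
        rintro a b ⟨u, hu, c, hc, rfl⟩ ⟨u', hu', c', hc', rfl⟩
        refine ⟨u * u', P.mul_mem hu hu', c * c', Subgroup.mul_mem _ hc hc', ?_⟩
        have h1 : u' * c = c * u' := Subgroup.mem_centralizer_iff.1 hc u' hu'
        calc u * c * (u' * c') = u * (c * u') * c' := by group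
          _ = u * (u' * c) * c' := by rw [h1]
          _ = u * u' * (c * c') := by group
      inv_mem' := by
        rintro a ⟨u, hu, c, hc, rfl⟩
        refine ⟨u⁻¹, P.inv_mem hu, c⁻¹, Subgroup.inv_mem _ hc, ?_⟩
        have h1 : u * c = c * u := Subgroup.mem_centralizer_iff.1 hc u hu
        rw [h1]
        group }
  have h1 : P ⊔ Subgroup.centralizer (P : Set G) ≤ S := by
    apply sup_le
    · intro u hu
      exact ⟨u, hu, 1, Subgroup.one_mem _, by simp⟩
    · intro c hc
      exact ⟨1, P.one_mem, c, hc, by simp⟩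
  exact h1 hg

/-- the modular law for `P C_G(P)` -/
theorem sup_centralizer_inf_eq (P K : Subgroup G) (hPK : P ≤ K) :
    (P ⊔ Subgroup.centralizer (P : Set G)) ⊓ K
      = P ⊔ (Subgroup.centralizer (P : Set G) ⊓ K) := by
  apply le_antisymm
  · rintro g ⟨hg, hgK⟩
    obtain ⟨u, hu, c, hc, rfl⟩ := exists_mul_of_mem_sup_centralizer P hg
    have hcK : c ∈ K := by
      have := K.mul_mem (K.inv_mem (hPK hu)) hgK
      simpa using this
    exact Subgroup.mul_mem _ ((le_sup_left : P ≤ _) hu)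
      ((le_sup_right : Subgroup.centralizer (P : Set G) ⊓ K ≤ _) ⟨hc, hcK⟩)
  · apply le_inf
    · exact sup_le le_sup_left (inf_le_left.trans le_sup_right)
    · exact sup_le hPK inf_le_right

/-- the index of `H` in `H⟨x⟩` divides the order of `x` when `x` normalizes `H` -/
theorem relIndex_sup_zpowers_dvd [Finite G] (H : Subgroup G) (x : G)
    (hx : x ∈ Subgroup.normalizer (H : Set G)) :
    H.relIndex (H ⊔ Subgroup.zpowers x) ∣ orderOf x := by
  obtain ⟨X, hXdef⟩ : ∃ X : Subgroup G, X = H ⊔ Subgroup.zpowers x := ⟨_, rfl⟩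
  rw [← hXdef]
  have hHX : H ≤ X := by rw [hXdef]; exact le_sup_left
  have hxX : x ∈ X := by
    rw [hXdef]; exact (le_sup_right : Subgroup.zpowers x ≤ _) (Subgroup.mem_zpowers x)
  have hXN : X ≤ Subgroup.normalizer (H : Set G) := by
    rw [hXdef]
    exact sup_le Subgroup.le_normalizer (Subgroup.zpowers_le.mpr hx)
  haveI hHn : (H.subgroupOf X).Normal := Subgroup.normal_subgroupOf_of_le_normalizer hXN
  have hgen' : H.subgroupOf X ⊔ Subgroup.zpowers (⟨x, hxX⟩ : X) = ⊤ := by
    apply Subgroup.map_injective (Subgroup.subtype_injective X)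
    rw [Subgroup.map_sup, Subgroup.map_subgroupOf_eq_of_le hHX, MonoidHom.map_zpowers,
      ← MonoidHom.range_eq_map, Subgroup.range_subtype]
    exact hXdef.symm
  have h1 : H.relIndex X = (H.subgroupOf X).index := rfl
  rw [h1, ← Subgroup.relIndex_top_right, ← hgen', Subgroup.relIndex_sup_left]
  have h2 := Subgroup.relIndex_dvd_card (H.subgroupOf X) (Subgroup.zpowers (⟨x, hxX⟩ : X))
  rw [Nat.card_zpowers, ← Subgroup.orderOf_coe] at h2
  exact h2

end knStableAux

section knStable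

variable {G : Type*} [Group G] [Fintype G] [DecidableEq G]
variable {p : ℕ} [Fact p.Prime] {M : Ideal Cfsg.AlgInt}

/-- the coefficient function of a stable block, extended by zero, is invariant -/
theorem extendByZero_blockCoeff_conj (N : Subgroup G) [Fintype N] (hN : N.Normal)
    {A : Set (Cfsg.IrrCharacter N)} (hA : GStable N hN A) (h g : G) :
    Cfsg.extendByZero N (Cfsg.blockCoeff A) (h * g * h⁻¹)
      = Cfsg.extendByZero N (Cfsg.blockCoeff A) g := by
  by_cases hg : g ∈ N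
  · have hg' : h * g * h⁻¹ ∈ N := hN.conj_mem g hg h
    rw [extendByZero_of_mem N _ hg, extendByZero_of_mem N _ hg']
    exact blockCoeff_conj_of_gStable N hN hA h ⟨g, hg⟩
  · have hg' : h * g * h⁻¹ ∉ N := by
      intro h1
      apply hg
      have := hN.conj_mem _ h1 h⁻¹
      simpa [mul_assoc] using this
    rw [extendByZero_of_not_mem N _ hg, extendByZero_of_not_mem N _ hg']

/-- Knörr's theorem for a stable block, given a root block of `B` -/
theorem knorr_stable_aux (hM : Cfsg.IsPModular p M)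
    (N : Subgroup G) [Fintype N] (hN : N.Normal)
    (b : Set (Cfsg.IrrCharacter N)) (hb : Cfsg.IsPBlock M b) (hbst : GStable N hN b)
    (B : Set (Cfsg.IrrCharacter G))
    (hcov : ∃ χ ∈ B, ∃ θ ∈ b,
      Cfsg.classInner (fun n : N => (χ : G → ℂ) n) (θ : N → ℂ) ≠ 0)
    (P : Subgroup G) (hPD : Cfsg.IsDefectGroup p M B P)
    (H₀ : Subgroup G) [Fintype H₀] (hH₀ : H₀ = P ⊔ Subgroup.centralizer (P : Set G))
    (bP : Set (Cfsg.IrrCharacter H₀)) (hbPD : Cfsg.IsDefectGroup p M bP (P.subgroupOf H₀))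
    (hbPind : Cfsg.IsInducedBlock M H₀ bP B) :
    Cfsg.IsDefectGroup p M b ((P ⊓ N).subgroupOf N) := by
  classical
  have hpp : p.Prime := Fact.out
  have hP : IsPGroup p P := IsDefectGroup.isPGroup' hPD
  have hPH₀ : P ≤ H₀ := by rw [hH₀]; exact le_sup_left
  have hCH₀ : Subgroup.centralizer (P : Set G) ≤ H₀ := by rw [hH₀]; exact le_sup_right
  have hH₀N : H₀ ≤ Subgroup.normalizer (P : Set G) := by
    rw [hH₀]; exact sup_le Subgroup.le_normalizer (Subgroup.centralizer_le_normalizer _)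
  have hNH : Subgroup.normalizer (P : Set G) ≤ Subgroup.normalizer (H₀ : Set G) := by
    rw [hH₀]
    have h1 := Subgroup.normalizer_inf_normalizer_le_normalizer_sup P
      (Subgroup.centralizer (P : Set G))
    intro g hg
    exact h1 ⟨hg, normalizer_le_normalizer_centralizer P hg⟩
  have hbP : Cfsg.IsPBlock M bP := hbPind.1
  -- the stabilizer of the root
  obtain ⟨T, hTdef⟩ : ∃ T : Subgroup G,
      T = stabSub H₀ bP ⊓ Subgroup.normalizer (P : Set G) := ⟨_, rfl⟩
  have hT : ∀ g : G, g ∈ T ↔ (g ∈ Subgroup.normalizer (P : Set G) ∧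
      ∀ θ₁ ∈ bP, ∀ θ' : Cfsg.IrrCharacter H₀,
        (∀ h h' : H₀, (h' : G) = g * h * g⁻¹ → (θ' : H₀ → ℂ) h' = (θ₁ : H₀ → ℂ) h) →
          θ' ∈ bP) := by
    intro g
    rw [hTdef, Subgroup.mem_inf]
    constructor
    · rintro ⟨h1, h2⟩
      exact ⟨h2, (cond_iff_mem_stabSub H₀ _ g (hNH h2)).mpr h1⟩
    · rintro ⟨h1, h2⟩
      exact ⟨(cond_iff_mem_stabSub H₀ _ g (hNH h1)).mp h2, h1⟩
  have hrelΓ : ¬ p ∣ H₀.relIndex T :=
    (Cfsg.Agent.S4437.result p M hM P hP H₀ hH₀ bP hbP hbPD B hbPind T hT).mp hPD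
  have hH₀T : H₀ ≤ T := by
    rw [hTdef]
    exact le_inf (le_stabSub H₀ bP) hH₀N
  -- the canonical character
  obtain ⟨P₀, hP₀def⟩ : ∃ P₀ : Subgroup H₀, P₀ = P.subgroupOf H₀ := ⟨_, rfl⟩
  have hP₀p : IsPGroup p P₀ := by
    rw [hP₀def, ← Subgroup.comap_subtype]; exact hP.comap_subtype
  have hG₀ : P₀ ⊔ Subgroup.centralizer (P₀ : Set H₀) = ⊤ := by
    rw [hP₀def]
    apply Subgroup.map_injective (Subgroup.subtype_injective H₀)
    rw [Subgroup.map_sup, map_centralizer_subgroupOf P H₀ hPH₀ hCH₀,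
      Subgroup.map_subgroupOf_eq_of_le hPH₀, ← MonoidHom.range_eq_map, Subgroup.range_subtype, hH₀]
  have hbPD' : Cfsg.IsDefectGroup p M bP P₀ := by rw [hP₀def]; exact hbPD
  obtain ⟨huniq, hdegall, -⟩ := Cfsg.Agent.S0968.result p M hM P₀ hP₀p hG₀ bP hbP hbPD'
  obtain ⟨χ, ⟨hχb, hχP₀⟩, -⟩ := huniq
  have hχdeg₀ := hdegall χ hχb hχP₀
  have hcardP₀ : Nat.card P₀ = Nat.card P := by
    rw [hP₀def]; exact Nat.card_congr (Subgroup.subgroupOfEquivOfLe hPH₀).toEquiv
  have hχP : ∀ h : H₀, (h : G) ∈ P → (χ : H₀ → ℂ) h = (χ : H₀ → ℂ) 1 := by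
    intro h hh
    apply hχP₀
    rw [hP₀def, Subgroup.mem_subgroupOf]
    exact hh
  have hχdeg : (Cfsg.charDegree (χ : H₀ → ℂ)).factorization p + (Nat.card P).factorization p
      = (Nat.card H₀).factorization p := by
    have h1 := P₀.card_mul_index
    have h2 : (Nat.card H₀).factorization p
        = (Nat.card P₀).factorization p + P₀.index.factorization p := by
      rw [← h1, Nat.factorization_mul Nat.card_pos.ne' P₀.index_ne_zero_of_finite]
      rfl
    rw [hcardP₀] at h2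
    omega
  -- the subgroups `K` and `L`
  obtain ⟨K, hKdef⟩ : ∃ K : Subgroup G, K = N ⊔ P := ⟨_, rfl⟩
  haveI : Fintype K := Fintype.ofFinite _
  have hNK : N ≤ K := by rw [hKdef]; exact le_sup_left
  have hPK : P ≤ K := by rw [hKdef]; exact le_sup_right
  have hKnorm : Subgroup.normalizer (P : Set G) ≤ Subgroup.normalizer (K : Set G) := by
    rw [hKdef]
    have h1 := Subgroup.normalizer_inf_normalizer_le_normalizer_sup N P
    intro g hg
    apply h1
    refine ⟨?_, hg⟩
    haveI := hN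
    rw [Subgroup.normalizer_eq_top]
    trivial
  obtain ⟨L, hLdef⟩ : ∃ L : Subgroup G,
      L = P ⊔ (Subgroup.centralizer (P : Set G) ⊓ K) := ⟨_, rfl⟩
  haveI : Fintype L := Fintype.ofFinite _
  have hLeq : L = H₀ ⊓ K := by
    rw [hLdef, hH₀, sup_centralizer_inf_eq P K hPK]
  have hLH₀ : L ≤ H₀ := by rw [hLeq]; exact inf_le_left
  have hLK : L ≤ K := by rw [hLeq]; exact inf_le_right
  have hPL : P ≤ L := by rw [hLdef]; exact le_sup_left
  have hH₀L : H₀ ≤ Subgroup.normalizer (L : Set G) := by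
    rw [hLeq]
    exact (le_inf Subgroup.le_normalizer (hH₀N.trans hKnorm)).trans
      Subgroup.inf_normalizer_le_normalizer_inf
  -- the character `θ`
  haveI hP₀n : P₀.Normal := normal_of_sup_centralizer_eq_top P₀ hG₀
  haveI hCn : (L.subgroupOf H₀).Normal := Subgroup.normal_subgroupOf_of_le_normalizer hH₀L
  haveI : Fintype (L.subgroupOf H₀) := Fintype.ofFinite _
  have hdegχ' : (Cfsg.charDegree (χ : H₀ → ℂ)).factorization p + (Nat.card P₀).factorization p
      = (Nat.card H₀).factorization p := by rw [hcardP₀]; exact hχdeg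
  obtain ⟨θ₁, hθ₁c, hθ₁P, hθ₁deg⟩ :=
    exists_constituent_defect_zero_mod hpp P₀ (L.subgroupOf H₀) χ hχP₀ hdegχ'
  obtain ⟨θ, hθdef⟩ : ∃ θ : Cfsg.IrrCharacter L, θ = (irrSub L H₀ hLH₀).symm θ₁ := ⟨_, rfl⟩
  have hθeq : irrSub L H₀ hLH₀ θ = θ₁ := by rw [hθdef, Equiv.apply_symm_apply]
  have hθχ : Cfsg.classInner (fun l : L => (χ : H₀ → ℂ) ⟨l, hLH₀ l.2⟩) (θ : L → ℂ) ≠ 0 := by
    rw [← classInner_restrict_irrSub L H₀ hLH₀, hθeq]
    exact hθ₁c
  have hθP : ∀ l : L, (l : G) ∈ P → (θ : L → ℂ) l = (θ : L → ℂ) 1 := by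
    intro l hl
    have h1 := hθ₁P ((Subgroup.subgroupOfEquivOfLe hLH₀).symm l) (by
      rw [hP₀def, Subgroup.mem_subgroupOf]
      exact hl)
    rw [← hθeq, irrSub_apply, irrSub_apply, MulEquiv.apply_symm_apply, map_one] at h1
    exact h1
  have hθdeg : (Nat.card L).factorization p
      ≤ (Cfsg.charDegree (θ : L → ℂ)).factorization p + (Nat.card P).factorization p := by
    have hP₀C : P₀ ≤ L.subgroupOf H₀ := by
      intro y hy
      rw [hP₀def, Subgroup.mem_subgroupOf] at hy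
      rw [Subgroup.mem_subgroupOf]
      exact hPL hy
    rw [← hθeq, charDegree_irrSub, Nat.card_congr (Subgroup.subgroupOfEquivOfLe hLH₀).toEquiv,
      Nat.card_congr (Subgroup.subgroupOfEquivOfLe hP₀C).toEquiv, hcardP₀] at hθ₁deg
    exact hθ₁deg
  -- the covering congruence
  have hS : ∀ n : N, Cfsg.MemLocalRing M (Cfsg.blockCoeff b n) := by
    obtain ⟨θ₀, rfl⟩ := hb
    intro n
    exact blockCoeff_memLocalRing hM _ n
  obtain ⟨χB, hχB, θb, hθb, hcb⟩ := hcov
  have hcovS : Cfsg.MemLocalIdeal M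
      ((∑ l : L, Cfsg.extendByZero N (Cfsg.blockCoeff b) (l : G) * (θ : L → ℂ) l)
        / (θ : L → ℂ) 1 - 1) := by
    have h1 := IsInducedBlock.cOmega_sub H₀ hM hbPind χ hχb χB hχB
      (liftIdem_mem_centerAlg N hN hbst) (liftIdem_mem_sMat N hM hS)
    rw [cOmega_liftIdem_eq_one N hN hbst χB.2 θb hθb hcb] at h1
    convert h1 using 2
    unfold liftIdem
    rw [resMat_regMat, cOmega_regMat]
    have h2 : ∑ h : H₀, resFun H₀ (Cfsg.extendByZero N (Cfsg.blockCoeff b)) h * (χ : H₀ → ℂ) h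
        = ∑ l : L, Cfsg.extendByZero N (Cfsg.blockCoeff b) (l : G)
            * (χ : H₀ → ℂ) ⟨l, hLH₀ l.2⟩ := by
      have hinj : Function.Injective (Subgroup.inclusion hLH₀) :=
        Subgroup.inclusion_injective hLH₀
      have h3 : ∑ l : L, Cfsg.extendByZero N (Cfsg.blockCoeff b) (l : G)
            * (χ : H₀ → ℂ) ⟨l, hLH₀ l.2⟩
          = ∑ h ∈ Finset.univ.image (Subgroup.inclusion hLH₀),
            resFun H₀ (Cfsg.extendByZero N (Cfsg.blockCoeff b)) h * (χ : H₀ → ℂ) h := by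
        rw [Finset.sum_image (fun a _ b _ h => hinj h)]
        rfl
      rw [h3]
      symm
      apply Finset.sum_subset (Finset.subset_univ _)
      intro h _ hnot
      have hhN : (h : G) ∉ N := by
        intro hhN
        apply hnot
        rw [Finset.mem_image]
        have hhL : (h : G) ∈ L := by
          rw [hLeq]
          exact ⟨h.2, hNK hhN⟩
        exact ⟨⟨(h : G), hhL⟩, Finset.mem_univ _, rfl⟩
      rw [resFun_apply, extendByZero_of_not_mem N _ hhN, zero_mul]
    have h4 := sum_mul_ratio_of_invariant_of_le L H₀ hLH₀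
      (fun t ht l hl => by
        have := hH₀L ht
        rw [Subgroup.mem_normalizer_iff] at this
        exact (this l).mp hl)
      χ θ hθχ (Cfsg.extendByZero N (Cfsg.blockCoeff b))
      (fun t _ g => extendByZero_blockCoeff_conj N hN hbst t g)
    rw [h2]
    have hθ1 := IsIrrCharacter.apply_one_ne_zero θ.2
    have hχ1 := IsIrrCharacter.apply_one_ne_zero χ.2
    field_simp
    rw [← h4]
    ring
  -- the inertial condition
  have hinert : ∀ t ∈ K, t ∈ Subgroup.normalizer (P : Set G) → (∃ k : ℕ, orderOf t = p ^ k) →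
      Cfsg.IsConjCharOf L t (θ : L → ℂ) (θ : L → ℂ) → t ∈ L := by
    intro t htK htN htp htc
    have hXP : H₀ ⊔ Subgroup.zpowers t ≤ Subgroup.normalizer (P : Set G) :=
      sup_le hH₀N (Subgroup.zpowers_le.mpr htN)
    suffices h : t ∈ H₀ by
      rw [hLeq]
      exact ⟨h, htK⟩
    have hθdeg' : (Cfsg.charDegree (θ : L → ℂ)).factorization p + (Nat.card P).factorization p
        ≤ (Nat.card L).factorization p := by
      haveI hPLn : (P.subgroupOf L).Normal :=
        Subgroup.normal_subgroupOf_of_le_normalizer (hLH₀.trans hH₀N)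
      have h3 := charDegree_dvd_index_of_trivial (P.subgroupOf L) θ (by
        intro q hq
        exact hθP q hq)
      have h4 := (Nat.factorization_le_iff_dvd (IsIrrCharacter.charDegree_pos θ.2).ne'
        (P.subgroupOf L).index_ne_zero_of_finite).mpr h3 p
      have h5 := (P.subgroupOf L).card_mul_index
      have h6 : (Nat.card L).factorization p
          = (Nat.card (P.subgroupOf L)).factorization p
            + (P.subgroupOf L).index.factorization p := by
        rw [← h5, Nat.factorization_mul Nat.card_pos.ne' (P.subgroupOf L).index_ne_zero_of_finite]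
        rfl
      rw [Nat.card_congr (Subgroup.subgroupOfEquivOfLe hPL).toEquiv] at h6
      omega
    apply knorr_lemI_rel hpp P H₀ K L t hLeq hPL htK hXP (hXP.trans hNH) (hXP.trans hKnorm) htp
      χ hχP hχdeg ?_ θ hLH₀ hθχ htc hθdeg'
    intro y hyX hyc
    have hyN : y ∈ Subgroup.normalizer (P : Set G) := hXP hyX
    have hyH : y ∈ Subgroup.normalizer (H₀ : Set G) := hNH hyN
    have hyT : y ∈ T := by
      rw [hTdef, Subgroup.mem_inf]
      refine ⟨⟨hyH, ?_⟩, hyN⟩
      rw [isConjCharOf_iff H₀ y hyH χ χ] at hyc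
      obtain ⟨χ₀, rfl⟩ := hbP
      rw [blockOf_eq_of_mem hM hχb, autIrr_image_blockOf, ← hyc]
    have h1 : H₀.relIndex (T ⊓ (H₀ ⊔ Subgroup.zpowers t)) ∣ H₀.relIndex T := by
      have := Subgroup.relIndex_mul_relIndex H₀ (T ⊓ (H₀ ⊔ Subgroup.zpowers t)) T
        (le_inf hH₀T le_sup_left) inf_le_left
      exact Dvd.intro _ this
    have h2 : H₀.relIndex (T ⊓ (H₀ ⊔ Subgroup.zpowers t))
        ∣ H₀.relIndex (H₀ ⊔ Subgroup.zpowers t) := by
      have := Subgroup.relIndex_mul_relIndex H₀ (T ⊓ (H₀ ⊔ Subgroup.zpowers t))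
        (H₀ ⊔ Subgroup.zpowers t) (le_inf hH₀T le_sup_left) inf_le_right
      exact Dvd.intro _ this
    obtain ⟨k, hk⟩ := htp
    have h3 := h2.trans (relIndex_sup_zpowers_dvd H₀ t (hNH htN))
    rw [hk] at h3
    obtain ⟨j, -, hj⟩ := (Nat.dvd_prime_pow hpp).1 h3
    have hj0 : j = 0 := by
      by_contra hne
      apply hrelΓ
      apply dvd_trans _ h1
      rw [hj]
      exact dvd_pow_self p hne
    rw [hj0, pow_zero, Subgroup.relIndex_eq_one] at hj
    exact hj ⟨hyT, hyX⟩
  -- the index of `N` in `K`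
  have hidx : ∃ k : ℕ, N.relIndex K = p ^ k := by
    haveI := hN
    obtain ⟨n, hn⟩ := IsPGroup.iff_card.1 hP
    have h1 : N.relIndex K ∣ p ^ n := by
      rw [hKdef, Subgroup.relIndex_sup_left, ← hn]
      exact Subgroup.relIndex_dvd_card N P
    obtain ⟨j, -, hj⟩ := (Nat.dvd_prime_pow hpp).1 h1
    exact ⟨j, hj⟩
  exact knorr_core_rel hM N hN K hNK hidx b hb hbst P hP hPK L hLdef θ hθP hθdeg hcovS hinert

/-- Knörr's theorem for a stable block: if `B` covers the `G`-stable block `b` of the normal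
subgroup `N` and `P` is a defect group of `B` then `P ∩ N` is a defect group of `b` -/
theorem knorr_stable (hM : Cfsg.IsPModular p M)
    (N : Subgroup G) [Fintype N] (hN : N.Normal)
    (b : Set (Cfsg.IrrCharacter N)) (hb : Cfsg.IsPBlock M b) (hbst : GStable N hN b)
    (B : Set (Cfsg.IrrCharacter G)) (hB : Cfsg.IsPBlock M B)
    (hcov : ∃ χ ∈ B, ∃ θ ∈ b,
      Cfsg.classInner (fun n : N => (χ : G → ℂ) n) (θ : N → ℂ) ≠ 0)
    (P : Subgroup G) (hPD : Cfsg.IsDefectGroup p M B P) :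
    Cfsg.IsDefectGroup p M b ((P ⊓ N).subgroupOf N) := by
  classical
  haveI : Fintype ↥(P ⊔ Subgroup.centralizer (P : Set G)) := Fintype.ofFinite _
  obtain ⟨⟨bP, hbPD, hbPind⟩, -⟩ := Cfsg.Agent.S0973.result p M hM B hB P hPD
  exact knorr_stable_aux hM N hN b hb hbst B hcov P hPD _ rfl bP hbPD hbPind

end knStable

end Cfsg.Agent.Lib.Helper6
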