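import Mathlib
import Cfsg.Prelude.Def_Blocks
import Cfsg.Agent.Lib.Helper6.KnStable
import Cfsg.Agent.Lib.Helper6.BlkStab
import Cfsg.Agent.Lib.Helper6.BlkFRDefect
import Cfsg.Agent.Lib.Helper6.BlkDefConj

set_option autoImplicit false
set_option linter.unusedSectionVars false
open Cfsg

namespace Cfsg.Agent.Lib.Helper6

open scoped ComplexConjugate

section knFR

variable {G : Type*} [Group G] [Fintype G] [DecidableEq G]
variable {p : ℕ} [Fact p.Prime] {M : Ideal Cfsg.AlgInt}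

/-- Knörr's theorem: a block `B` covering the block `b` of the normal subgroup `N` has a defect
group `P`, contained in the stabilizer of `b`, such that `P ∩ N` is a defect group of `b` -/
theorem knorr_exists (hM : Cfsg.IsPModular p M)
    (N : Subgroup G) [Fintype N] (hN : N.Normal)
    (b : Set (Cfsg.IrrCharacter N)) (hb : Cfsg.IsPBlock M b)
    (B : Set (Cfsg.IrrCharacter G)) (hB : Cfsg.IsPBlock M B)
    (hcov : ∃ χ ∈ B, ∃ θ ∈ b,
      Cfsg.classInner (fun n : N => (χ : G → ℂ) n) (θ : N → ℂ) ≠ 0) :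
    ∃ P : Subgroup G, Cfsg.IsDefectGroup p M B P ∧ P ≤ blockStab N hN b ∧
      Cfsg.IsDefectGroup p M b ((P ⊓ N).subgroupOf N) := by
  classical
  obtain ⟨T, hTdef⟩ : ∃ T : Subgroup G, T = blockStab N hN b := ⟨_, rfl⟩
  haveI : Fintype T := Fintype.ofFinite _
  have hT : ∀ g : G, g ∈ T ↔ ∀ θ ∈ b, irrConj N hN g θ ∈ b := by
    intro g
    rw [hTdef]
    exact mem_blockStab_iff N hN hM b hb g
  have hNT : N ≤ T := by rw [hTdef]; exact le_blockStab N hN b
  obtain ⟨B', hB', hcov', hind⟩ := fongReynolds_surjective N hN T hNT b hT hM hb B hB hcov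
  obtain ⟨D, hD⟩ := exists_isDefectGroup hM B' hB'
  have hP₀ := fongReynolds_defectGroup N hN T hNT b hT hM hb B' hB' hcov' B hind D hD
  haveI : Fintype (N.subgroupOf T) := Fintype.ofFinite _
  have hN' : (N.subgroupOf T).Normal := hN.subgroupOf T
  have hb' : Cfsg.IsPBlock M (irrSub N T hNT '' b) := by
    obtain ⟨θ₀, rfl⟩ := hb
    exact ⟨irrSub N T hNT θ₀, image_irrSub_blockOf N T hNT θ₀⟩
  have hst' := gStable_image_irrSub N hN T hNT b hT
  have hcov'' : ∃ ψ ∈ B', ∃ θ' ∈ irrSub N T hNT '' b,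
      Cfsg.classInner (fun k : N.subgroupOf T => (ψ : T → ℂ) k) (θ' : N.subgroupOf T → ℂ) ≠ 0 := by
    obtain ⟨ψ, hψ, θ, hθ, hc⟩ := hcov'
    refine ⟨ψ, hψ, irrSub N T hNT θ, ⟨θ, hθ, rfl⟩, ?_⟩
    rw [classInner_restrict_irrSub]
    exact hc
  have key := knorr_stable hM (N.subgroupOf T) hN' (irrSub N T hNT '' b) hb' hst' B' hB' hcov''
    D hD
  have h := IsDefectGroup.mapIrr (Subgroup.subgroupOfEquivOfLe hNT) key
  have e1 : mapIrr (Subgroup.subgroupOfEquivOfLe hNT) '' (irrSub N T hNT '' b) = b := by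
    rw [Set.image_image]
    convert Set.image_id b using 2
    apply Subtype.ext
    funext n
    rw [mapIrr_apply, irrSub_apply, MulEquiv.apply_symm_apply]
    rfl
  have e2 : ((D ⊓ N.subgroupOf T).subgroupOf (N.subgroupOf T)).map
      (Subgroup.subgroupOfEquivOfLe hNT).toMonoidHom
        = ((D.map T.subtype) ⊓ N).subgroupOf N := by
    ext n
    rw [Subgroup.mem_map, Subgroup.mem_subgroupOf]
    constructor
    · rintro ⟨k, hk, rfl⟩
      rw [Subgroup.mem_subgroupOf, Subgroup.mem_inf, Subgroup.mem_subgroupOf] at hk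
      exact ⟨⟨(k : T), hk.1, rfl⟩, hk.2⟩
    · rintro ⟨⟨d, hd, hdn⟩, hn⟩
      refine ⟨(Subgroup.subgroupOfEquivOfLe hNT).symm n, ?_, ?_⟩
      · rw [Subgroup.mem_subgroupOf, Subgroup.mem_inf, Subgroup.mem_subgroupOf]
        refine ⟨?_, hn⟩
        have : (((Subgroup.subgroupOfEquivOfLe hNT).symm n : N.subgroupOf T) : T) = d := by
          apply Subtype.ext
          exact hdn.symm
        rw [this]
        exact hd
      · exact (Subgroup.subgroupOfEquivOfLe hNT).apply_symm_apply n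
  rw [e1, e2] at h
  refine ⟨D.map T.subtype, hP₀, ?_, h⟩
  rw [← hTdef]
  exact Subgroup.map_subtype_le D

end knFR

end Cfsg.Agent.Lib.Helper6
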