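import Mathlib
import Cfsg.Prelude.Def_Blocks
import Cfsg.Agent.Lib.Helper6.KnFR

set_option autoImplicit false
set_option linter.unusedSectionVars false
open Cfsg

namespace Cfsg.Agent.Lib.Helper6

open scoped ComplexConjugate

section knConj

variable {G : Type*} [Group G] [Fintype G] [DecidableEq G]
variable {p : ℕ} [Fact p.Prime] {M : Ideal Cfsg.AlgInt}
variable (N : Subgroup G) [Fintype N] [hN : N.Normal]

theorem irrConj_inv_eq_mapIrr (x : G) (θ : Cfsg.IrrCharacter N) :
    irrConj N hN x⁻¹ θ = mapIrr (MulAut.conjNormal x : N ≃* N) θ := by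
  apply Subtype.ext
  funext n
  rw [irrConj_coe, conjFun_apply, mapIrr_apply]
  apply congrArg
  apply Subtype.ext
  rw [← MulAut.inv_def, ← map_inv]
  simp

theorem irrConj_inv_image_eq (x : G) (b : Set (Cfsg.IrrCharacter N)) :
    irrConj N hN x⁻¹ '' b = mapIrr (MulAut.conjNormal x : N ≃* N) '' b := by
  apply Set.image_congr
  intro θ _
  exact irrConj_inv_eq_mapIrr N x θ

theorem isPBlock_irrConj_inv_image (x : G) {b : Set (Cfsg.IrrCharacter N)}
    (hb : Cfsg.IsPBlock M b) : Cfsg.IsPBlock M (irrConj N hN x⁻¹ '' b) := by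
  rw [irrConj_inv_image_eq]
  exact isPBlock_mapIrr_image _ hb

theorem IsDefectGroup.irrConj_inv (x : G) {b : Set (Cfsg.IrrCharacter N)} {D : Subgroup N}
    (hD : Cfsg.IsDefectGroup p M b D) :
    Cfsg.IsDefectGroup p M (irrConj N hN x⁻¹ '' b)
      (D.map (MulAut.conjNormal x : N ≃* N).toMonoidHom) := by
  rw [irrConj_inv_image_eq]
  exact IsDefectGroup.mapIrr _ hD

/-- the conjugate of `(P₀ ∩ N)` inside `N` -/
theorem map_conjNormal_inf_subgroupOf (x : G) (P₀ : Subgroup G) :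
    ((P₀ ⊓ N).subgroupOf N).map (MulAut.conjNormal x : N ≃* N).toMonoidHom
      = ((P₀.map (MulAut.conj x).toMonoidHom) ⊓ N).subgroupOf N := by
  ext n
  rw [Subgroup.mem_map, Subgroup.mem_subgroupOf, Subgroup.mem_inf, Subgroup.mem_map]
  constructor
  · rintro ⟨k, hk, rfl⟩
    rw [Subgroup.mem_subgroupOf] at hk
    refine ⟨⟨(k : G), hk.1, ?_⟩, SetLike.coe_mem _⟩
    simp
  · rintro ⟨⟨y, hy, hyn⟩, hn⟩
    have hyN : y ∈ N := by
      have h1 : y = x⁻¹ * (n : G) * x := by
        rw [← hyn]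
        simp [mul_assoc]
      rw [h1]
      have h2 := hN.conj_mem (n : G) n.2 x⁻¹
      simpa using h2
    refine ⟨⟨y, hyN⟩, ?_, ?_⟩
    · rw [Subgroup.mem_subgroupOf]
      exact ⟨hy, hyN⟩
    · apply Subtype.ext
      rw [← hyn]
      simp

end knConj

end Cfsg.Agent.Lib.Helper6
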