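import Mathlib
import Cfsg.Agent.Lib.Helper6.FongHt1
import Cfsg.Agent.Lib.Helper6.BlkFR
import Cfsg.Agent.Lib.Helper6.BlkUniqueCover
import Cfsg.Agent.S4671
import Cfsg.Agent.S0887
import Cfsg.Agent.S0908

set_option autoImplicit false
set_option linter.unusedSectionVars false
open Cfsg

/-!
Fong's height bound, the invariant case: the two numerical inputs.
-/

namespace Cfsg.Agent.Lib.Helper6

open scoped ComplexConjugate

section subLevel

variable {G : Type*} [Group G] [Fintype G] [DecidableEq G]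
variable {p : ℕ} {M : Ideal Cfsg.AlgInt}

/-- invariance passes to the transported character of `K.subgroupOf A` -/
theorem invK_irrSub (K A : Subgroup G) [Fintype K] [Fintype A] (hK : K.Normal) (hKA : K ≤ A)
    (θ : Cfsg.IrrCharacter K) (hinv : ∀ g : G, irrConj K hK g θ = θ) :
    haveI : (K.subgroupOf A).Normal := hK.subgroupOf A
    Cfsg.Agent.Lib.Helper8.McK.InvK (K.subgroupOf A)
      ((irrSub K A hKA θ : Cfsg.IrrCharacter (K.subgroupOf A)) : K.subgroupOf A → ℂ) := by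
  intro g n
  rw [irrSub_apply, irrSub_apply]
  have h1 : ((irrConj K hK (g : G) θ : Cfsg.IrrCharacter K) : K → ℂ) = (θ : K → ℂ) := by
    rw [hinv]
  rw [irrConj_coe] at h1
  have h2 := congrFun h1 (Subgroup.subgroupOfEquivOfLe hKA n)
  rw [conjFun_apply] at h2
  rw [← h2]
  congr 1

/-- over an invariant character of a normal `p'`-subgroup `K`, the `p`-part of the degree is
bounded by the index of any normal `A ≥ K` with `A/K` an abelian `p`-group -/
theorem factorization_charDegree_le_index (hp : p.Prime)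
    (K A : Subgroup G) [Fintype K] [Fintype A] (hK : K.Normal) (hA : A.Normal) (hKA : K ≤ A)
    (hKp : ¬ p ∣ Nat.card K) (hidx : ∃ k : ℕ, K.relIndex A = p ^ k)
    (hab : ∀ a ∈ A, ∀ b ∈ A, a * b * a⁻¹ * b⁻¹ ∈ K)
    (θ : Cfsg.IrrCharacter K) (hinv : ∀ g : G, irrConj K hK g θ = θ)
    (χ : Cfsg.IrrCharacter G)
    (hχθ : Cfsg.classInner (fun n : K => (χ : G → ℂ) n) (θ : K → ℂ) ≠ 0) :
    (Cfsg.charDegree (χ : G → ℂ)).factorization p ≤ A.index.factorization p := by
  classical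
  have := hA
  obtain ⟨φ, hφ⟩ := exists_constituent_restrict A χ.2
  obtain ⟨θ', hθ'⟩ := exists_constituent_restrict_of_le K A hKA φ
  have h1 := constituent_trans K A hKA (IsIrrCharacter.isCharacter χ.2) φ θ' hφ hθ'
  have h2 := eq_of_constituents_of_invariant K hK χ.2 θ θ' hinv hχθ h1
  rw [h2] at hθ'
  haveI : Fintype (K.subgroupOf A) := Fintype.ofFinite _
  have hK' : (K.subgroupOf A).Normal := hK.subgroupOf A
  have hcard : Nat.card (K.subgroupOf A) = Nat.card K :=
    Nat.card_congr (Subgroup.subgroupOfEquivOfLe hKA).toEquiv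
  have hcop : (Nat.card (K.subgroupOf A)).Coprime (K.subgroupOf A).index := by
    obtain ⟨k, hk⟩ := hidx
    rw [hcard]
    change (Nat.card K).Coprime (K.relIndex A)
    rw [hk]
    apply Nat.Coprime.pow_right
    exact ((Nat.Prime.coprime_iff_not_dvd hp).2 hKp).symm
  have hab' : ∀ a b : A, a * b * a⁻¹ * b⁻¹ ∈ K.subgroupOf A := by
    intro a b
    rw [Subgroup.mem_subgroupOf]
    exact hab a a.2 b b.2
  have hinv' := invK_irrSub K A hK hKA θ hinv
  have hc'' : Cfsg.classInner (fun k : K.subgroupOf A => (φ : A → ℂ) k)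
      ((irrSub K A hKA θ : Cfsg.IrrCharacter (K.subgroupOf A)) : K.subgroupOf A → ℂ) ≠ 0 := by
    rw [classInner_restrict_irrSub]
    exact hθ'
  have hdeg := charDegree_eq_of_over_invariant_abelian (K.subgroupOf A) hcop hab'
    (irrSub K A hKA θ) hinv' φ hc''
  rw [charDegree_irrSub K A hKA θ] at hdeg
  obtain ⟨hd1, hd2⟩ := Cfsg.Agent.S0887.result A (χ : G → ℂ) χ.2 (φ : A → ℂ) φ.2 hφ
    (Cfsg.charDegree (χ : G → ℂ)) (Cfsg.charDegree (φ : A → ℂ))
    (IsCharacter.apply_one_eq_charDegree (IsIrrCharacter.isCharacter χ.2))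
    (IsCharacter.apply_one_eq_charDegree (IsIrrCharacter.isCharacter φ.2))
  have hφ0 : (Cfsg.charDegree (φ : A → ℂ)).factorization p = 0 := by
    rw [hdeg]
    apply Nat.factorization_eq_zero_of_not_dvd
    intro hdvd
    exact hKp (hdvd.trans (IsIrrCharacter.charDegree_dvd_card θ.2))
  obtain ⟨q, hq⟩ := hd1
  have hχ0 : Cfsg.charDegree (χ : G → ℂ) ≠ 0 := charDegree_ne_zero χ
  have hφne : Cfsg.charDegree (φ : A → ℂ) ≠ 0 := charDegree_ne_zero φ
  have hq0 : q ≠ 0 := by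
    rintro rfl
    rw [mul_zero] at hq
    exact hχ0 hq
  have hdiv : Cfsg.charDegree (χ : G → ℂ) / Cfsg.charDegree (φ : A → ℂ) = q := by
    rw [hq]
    exact Nat.mul_div_cancel_left q (Nat.pos_of_ne_zero hφne)
  rw [hdiv] at hd2
  rw [hq, Nat.factorization_mul hφne hq0, Finsupp.add_apply, hφ0, zero_add]
  exact (Nat.factorization_le_iff_dvd hq0 Subgroup.index_ne_zero_of_finite).mpr hd2 p

/-- over an invariant character of a normal `p'`-subgroup `K`, a defect group meets any normal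
`M₁ ≥ K` with `M₁/K` a `p`-group in a Sylow `p`-subgroup of `M₁` -/
theorem card_defectGroup_inf_eq [Fact p.Prime] (hM : Cfsg.IsPModular p M)
    (K M₁ : Subgroup G) [Fintype K] [Fintype M₁] (hK : K.Normal) (hM₁ : M₁.Normal) (hKM : K ≤ M₁)
    (hKp : ¬ p ∣ Nat.card K) (hidx : ∃ k : ℕ, K.relIndex M₁ = p ^ k)
    (θ : Cfsg.IrrCharacter K) (hinv : ∀ g : G, irrConj K hK g θ = θ)
    (B : Set (Cfsg.IrrCharacter G)) (hB : Cfsg.IsPBlock M B)
    (P : Subgroup G) (hP : Cfsg.IsDefectGroup p M B P)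
    (χ : Cfsg.IrrCharacter G) (hχ : χ ∈ B)
    (hχθ : Cfsg.classInner (fun n : K => (χ : G → ℂ) n) (θ : K → ℂ) ≠ 0) :
    Nat.card (P ⊓ M₁ : Subgroup G) = p ^ (Nat.card M₁).factorization p := by
  classical
  have := hM₁
  obtain ⟨c, hc, _, ⟨χ', hχ', ψ, hψ, hcon⟩, hdef⟩ :=
    Cfsg.Agent.S4671.result p M hM M₁ B hB P hP
  obtain ⟨θ', hθ'⟩ := exists_constituent_restrict_of_le K M₁ hKM ψ
  have h1 := constituent_trans K M₁ hKM (IsIrrCharacter.isCharacter χ'.2) ψ θ' hcon hθ'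
  have hsb : Cfsg.SameBlock M (χ : G → ℂ) (χ' : G → ℂ) := by
    obtain ⟨χ₀, rfl⟩ := hB
    exact SameBlock.trans' hM (SameBlock.symm' hχ) hχ'
  have h2 := constituent_of_sameBlock_of_coprime K hK hM hKp χ χ' hsb θ hχθ
  have h3 := eq_of_constituents_of_invariant K hK χ'.2 θ θ' hinv h2 h1
  rw [h3] at hθ'
  haveI : Fintype (K.subgroupOf M₁) := Fintype.ofFinite _
  have hK' : (K.subgroupOf M₁).Normal := hK.subgroupOf M₁
  have hcard : Nat.card (K.subgroupOf M₁) = Nat.card K :=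
    Nat.card_congr (Subgroup.subgroupOfEquivOfLe hKM).toEquiv
  have hidx' : ∃ k : ℕ, (K.subgroupOf M₁).index = p ^ k := hidx
  have hKp' : ¬ p ∣ Nat.card (K.subgroupOf M₁) := by rw [hcard]; exact hKp
  have hinv' := invK_irrSub K M₁ hK hKM θ hinv
  have hc'' : Cfsg.classInner (fun k : K.subgroupOf M₁ => (ψ : M₁ → ℂ) k)
      ((irrSub K M₁ hKM θ : Cfsg.IrrCharacter (K.subgroupOf M₁)) : K.subgroupOf M₁ → ℂ) ≠ 0 := by
    rw [classInner_restrict_irrSub]
    exact hθ'
  have hdefect := blockDefect_eq_of_over_invariant hM (K.subgroupOf M₁) hidx' hKp'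
    (irrSub K M₁ hKM θ) hinv' c hc ψ hψ hc''
  have h4 := Cfsg.Agent.S0908.result p M hM c hc _ hdef
  rw [hdefect] at h4
  rw [← h4]
  exact (Nat.card_congr (Subgroup.subgroupOfEquivOfLe (inf_le_right : P ⊓ M₁ ≤ M₁)).toEquiv).symm

end subLevel

end Cfsg.Agent.Lib.Helper6
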