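import Mathlib

set_option autoImplicit false
set_option linter.unusedSectionVars false

/-!
Group-theoretic lemmas for Fong's height bound (only Mathlib).
-/

namespace Cfsg.Agent.Lib.Helper6

section grp

variable {G Q' : Type*} [Group G] [Group Q'] [Finite G]

theorem card_comap_eq_ker_mul (f : G →* Q') (hf : Function.Surjective f) (Q : Subgroup Q') :
    Nat.card (Q.comap f) = Nat.card f.ker * Nat.card Q := by
  have hle : f.ker ≤ Q.comap f := by
    intro x hx
    rw [Subgroup.mem_comap, MonoidHom.mem_ker.mp hx]
    exact Q.one_mem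
  have h1 : Nat.card f.ker * f.ker.relIndex (Q.comap f) = Nat.card (Q.comap f) := by
    rw [← Subgroup.relIndex_bot_left, Subgroup.relIndex_mul_relIndex _ _ _ bot_le hle,
      Subgroup.relIndex_bot_left]
  have h2 : f.ker.relIndex (Q.comap f) = Nat.card Q := by
    rw [← MonoidHom.comap_bot, Subgroup.relIndex_comap, Subgroup.map_comap_eq_self_of_surjective hf,
      Subgroup.relIndex_bot_left]
  rw [← h1, h2]

theorem relIndex_ker_comap (f : G →* Q') (hf : Function.Surjective f) (Q : Subgroup Q') :
    f.ker.relIndex (Q.comap f) = Nat.card Q := by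
  rw [← MonoidHom.comap_bot, Subgroup.relIndex_comap, Subgroup.map_comap_eq_self_of_surjective hf,
    Subgroup.relIndex_bot_left]

omit [Finite G] in
theorem relIndex_comap_of_ker_eq (f : G →* Q') (hf : Function.Surjective f) (K : Subgroup G)
    (hker : f.ker = K) (Q : Subgroup Q') : K.relIndex (Q.comap f) = Nat.card Q := by
  subst hker
  rw [← MonoidHom.comap_bot, Subgroup.relIndex_comap, Subgroup.map_comap_eq_self_of_surjective hf,
    Subgroup.relIndex_bot_left]

omit [Finite G] in
theorem le_comap_of_ker_eq (f : G →* Q') (K : Subgroup G) (hker : f.ker = K) (Q : Subgroup Q') :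
    K ≤ Q.comap f := by
  subst hker
  intro x hx
  rw [Subgroup.mem_comap, MonoidHom.mem_ker.mp hx]
  exact Q.one_mem

/-- if `P` meets the preimage of the `p`-subgroup `Q` in a subgroup of the full `p`-part order and
the kernel is a `p'`-group, then the image of `P` contains `Q` -/
theorem le_map_of_card_inf_comap (p : ℕ) [hp : Fact p.Prime] (f : G →* Q')
    (hf : Function.Surjective f) (hker : ¬ p ∣ Nat.card f.ker)
    (Q : Subgroup Q') (hQ : IsPGroup p Q) (P : Subgroup G)
    (hcard : Nat.card (P ⊓ Q.comap f : Subgroup G) = p ^ (Nat.card (Q.comap f)).factorization p) :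
    Q ≤ P.map f := by
  haveI : Finite Q' := Finite.of_surjective f hf
  obtain ⟨a, ha⟩ := IsPGroup.iff_card.mp hQ
  have hM₁ := card_comap_eq_ker_mul f hf Q
  have hfac : (Nat.card (Q.comap f)).factorization p = a := by
    rw [hM₁, Nat.factorization_mul Nat.card_pos.ne' Nat.card_pos.ne', Finsupp.add_apply,
      Nat.factorization_eq_zero_of_not_dvd hker, zero_add, ha, Nat.factorization_pow,
      Finsupp.smul_apply, Nat.Prime.factorization_self hp.out, smul_eq_mul, mul_one]
  rw [hfac] at hcard
  obtain ⟨R, hR⟩ : ∃ R : Subgroup G, R = P ⊓ Q.comap f := ⟨_, rfl⟩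
  rw [← hR] at hcard
  let g : R →* Q' := f.comp R.subtype
  have hginj : Function.Injective g := by
    rw [injective_iff_map_eq_one]
    intro r hr
    have hrker : (r : G) ∈ f.ker := MonoidHom.mem_ker.mpr hr
    have h1 : orderOf (r : G) ∣ Nat.card f.ker := by
      have := orderOf_dvd_natCard (⟨(r : G), hrker⟩ : f.ker)
      rwa [Subgroup.orderOf_mk] at this
    have h2 : orderOf (r : G) ∣ p ^ a := by
      rw [← hcard]
      have := orderOf_dvd_natCard r
      rwa [← Subgroup.orderOf_coe] at this
    obtain ⟨k, _, hk⟩ := (Nat.dvd_prime_pow hp.out).mp h2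
    have hk0 : k = 0 := by
      by_contra hne
      apply hker
      rw [hk] at h1
      exact (dvd_pow_self p hne).trans h1
    rw [hk0, pow_zero, orderOf_eq_one_iff] at hk
    exact Subtype.ext hk
  have hrange_le : g.range ≤ Q := by
    rintro _ ⟨r, rfl⟩
    have hr : (r : G) ∈ P ⊓ Q.comap f := hR ▸ r.2
    exact hr.2
  have hrange_card : Nat.card g.range = Nat.card Q := by
    rw [ha, ← hcard]
    exact (Nat.card_congr (MonoidHom.ofInjective hginj).toEquiv).symm
  have heq : g.range = Q := Subgroup.eq_of_le_of_card_ge hrange_le hrange_card.ge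
  intro q hq
  rw [← heq] at hq
  obtain ⟨r, rfl⟩ := hq
  have hr : (r : G) ∈ P ⊓ Q.comap f := hR ▸ r.2
  exact ⟨(r : G), hr.1, rfl⟩

omit [Finite G] in
/-- the centre of `P` maps into the centralizer of anything contained in the image of `P` -/
theorem map_center_le_comap_centralizer (f : G →* Q') (Q : Subgroup Q') (P : Subgroup G)
    (hQP : Q ≤ P.map f) :
    (Subgroup.center P).map P.subtype ≤ (Subgroup.centralizer (Q : Set Q')).comap f := by
  rintro _ ⟨z, hz, rfl⟩
  rw [Subgroup.mem_comap, Subgroup.mem_centralizer_iff]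
  intro q hq
  obtain ⟨r, hr, rfl⟩ := hQP hq
  have h1 := Subgroup.mem_center_iff.mp hz ⟨r, hr⟩
  have h2 : r * (z : G) = (z : G) * r := congrArg Subtype.val h1
  simp only [Subgroup.subtype_apply]
  rw [← map_mul, ← map_mul, h2]

theorem card_center_dvd_card_comap_centralizer (f : G →* Q') (Q : Subgroup Q') (P : Subgroup G)
    (hQP : Q ≤ P.map f) :
    Nat.card (Subgroup.center P) ∣ Nat.card ((Subgroup.centralizer (Q : Set Q')).comap f) := by
  have h1 := Subgroup.card_dvd_of_le (map_center_le_comap_centralizer f Q P hQP)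
  rwa [Subgroup.card_map_of_injective P.subtype_injective] at h1

/-- the index of the centre is invariant under isomorphism -/
theorem index_center_congr {A B : Type*} [Group A] [Group B] (e : A ≃* B) :
    (Subgroup.center A).index = (Subgroup.center B).index := by
  have h : (Subgroup.center A).map e.toMonoidHom = Subgroup.center B := by
    ext b
    rw [Subgroup.mem_map, Subgroup.mem_center_iff]
    constructor
    · rintro ⟨a, ha, rfl⟩ b'
      obtain ⟨a', rfl⟩ := e.surjective b'
      have := Subgroup.mem_center_iff.mp ha a'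
      simp only [MulEquiv.toMonoidHom_eq_coe, MonoidHom.coe_coe]
      rw [← map_mul, ← map_mul, this]
    · intro hb
      refine ⟨e.symm b, ?_, by simp⟩
      rw [Subgroup.mem_center_iff]
      intro a
      apply e.injective
      rw [map_mul, map_mul, MulEquiv.apply_symm_apply]
      exact hb (e a)
  rw [← h]
  exact (Subgroup.index_map_equiv (Subgroup.center A) e).symm

end grp

end Cfsg.Agent.Lib.Helper6
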