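import Mathlib
import Cfsg.Agent.Lib.Helper6.FongHt2
import Cfsg.Agent.Lib.Helper6.FongHt3
import Cfsg.Agent.Lib.Helper6.BlkStab
import Cfsg.Agent.Lib.Helper6.BlkFRDefect
import Cfsg.Agent.Lib.Helper6.BlkDefConj
import Cfsg.Agent.Lib.Helper1.PConstrainedOfPSolvable
import Cfsg.Agent.Lib.Helper1.PSolvSub
import Cfsg.Agent.Lib.Helper1.PCore
import Cfsg.Agent.Lib.Helper1.UpperPSeriesCentralizer
import Cfsg.Agent.S0914

set_option autoImplicit false
set_option linter.unusedSectionVars false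
open Cfsg

/-!
Fong's height bound in `p`-solvable groups: `ht χ ≤ ν_p |P : Z(P)|`.
-/

namespace Cfsg.Agent.Lib.Helper6

open scoped ComplexConjugate

section invariantCase

variable {G : Type*} [Group G] [Fintype G] [DecidableEq G]
variable {p : ℕ} {M : Ideal Cfsg.AlgInt}

/-- the case of an invariant character of `O_{p'}(G)` -/
theorem fong_height_invariant [Fact p.Prime] (hM : Cfsg.IsPModular p M)
    (hsolv : Cfsg.IsPSolvable p G)
    (K : Subgroup G) [Fintype K] (hKdef : K = Cfsg.pPrimeCore p G) (hK : K.Normal)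
    (θ : Cfsg.IrrCharacter K) (hinv : ∀ g : G, irrConj K hK g θ = θ)
    (B : Set (Cfsg.IrrCharacter G)) (hB : Cfsg.IsPBlock M B)
    (P : Subgroup G) (hP : Cfsg.IsDefectGroup p M B P)
    (χ : Cfsg.IrrCharacter G) (hχ : χ ∈ B)
    (hχθ : Cfsg.classInner (fun n : K => (χ : G → ℂ) n) (θ : K → ℂ) ≠ 0) :
    Cfsg.blockHeight p B (χ : G → ℂ) ≤ ((Subgroup.center P).index).factorization p := by
  classical
  have hp : p.Prime := hM.1
  have := hK
  have hKp : ¬ p ∣ Nat.card K := by
    have h1 := (pPrimeCore_normal_and_coprime (G := G) p).2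
    rw [← hKdef] at h1
    exact (Nat.Prime.coprime_iff_not_dvd hp).1 h1.symm
  have hbot : Cfsg.pPrimeCore p (G ⧸ K) = ⊥ :=
    Cfsg.Agent.Lib.Helper1.pPrimeCore_quotient_eq_bot_of_eq p K hKdef
  have hsolvQ : Cfsg.IsPSolvable p (G ⧸ K) :=
    Cfsg.Agent.Lib.Helper1.isPSolvable_of_surjective p (QuotientGroup.mk' K)
      (QuotientGroup.mk'_surjective K) hsolv
  have hcent : Subgroup.centralizer (Cfsg.pCore p (G ⧸ K) : Set (G ⧸ K))
      ≤ Cfsg.pCore p (G ⧸ K) :=
    Cfsg.Agent.Lib.Helper1.centralizer_pCore_le_of_isPSolvable hbot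
      (Cfsg.Agent.Lib.Helper1.PSolvSub.isPSolvable_subgroup hsolvQ _)
  obtain ⟨f, hfdef⟩ : ∃ f : G →* G ⧸ K, f = QuotientGroup.mk' K := ⟨_, rfl⟩
  have hf : Function.Surjective f := by rw [hfdef]; exact QuotientGroup.mk'_surjective K
  have hker : f.ker = K := by rw [hfdef]; exact QuotientGroup.ker_mk' K
  obtain ⟨Qb, hQb⟩ : ∃ Qb : Subgroup (G ⧸ K), Qb = Cfsg.pCore p (G ⧸ K) := ⟨_, rfl⟩
  have hQn : Qb.Normal := by rw [hQb]; exact Cfsg.Agent.Lib.Helper1.pCore_normal p
  have hQp : IsPGroup p Qb := by rw [hQb]; exact Cfsg.Agent.Lib.Helper1.pCore_isPGroup p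
  rw [← hQb] at hcent
  obtain ⟨Cb, hCb⟩ : ∃ Cb : Subgroup (G ⧸ K), Cb = Subgroup.centralizer (Qb : Set (G ⧸ K)) :=
    ⟨_, rfl⟩
  have hCn : Cb.Normal := by rw [hCb]; infer_instance
  rw [← hCb] at hcent
  have hCp : IsPGroup p Cb := hQp.to_le hcent
  obtain ⟨M₁, hM₁⟩ : ∃ M₁ : Subgroup G, M₁ = Qb.comap f := ⟨_, rfl⟩
  obtain ⟨A, hA⟩ : ∃ A : Subgroup G, A = Cb.comap f := ⟨_, rfl⟩
  haveI : Fintype M₁ := Fintype.ofFinite _
  haveI : Fintype A := Fintype.ofFinite _
  have hKM : K ≤ M₁ := by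
    rw [hM₁]
    exact le_comap_of_ker_eq f K hker Qb
  have hKA : K ≤ A := by
    rw [hA]
    exact le_comap_of_ker_eq f K hker Cb
  have hM₁n : M₁.Normal := by rw [hM₁]; exact hQn.comap f
  have hAn : A.Normal := by rw [hA]; exact hCn.comap f
  have hidxM : ∃ k : ℕ, K.relIndex M₁ = p ^ k := by
    rw [hM₁, relIndex_comap_of_ker_eq f hf K hker Qb]
    exact IsPGroup.iff_card.mp hQp
  have hidxA : ∃ k : ℕ, K.relIndex A = p ^ k := by
    rw [hA, relIndex_comap_of_ker_eq f hf K hker Cb]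
    exact IsPGroup.iff_card.mp hCp
  have hab : ∀ a ∈ A, ∀ b ∈ A, a * b * a⁻¹ * b⁻¹ ∈ K := by
    intro a ha b hb
    rw [hA, Subgroup.mem_comap] at ha hb
    have hgoal : a * b * a⁻¹ * b⁻¹ ∈ f.ker := by
      rw [MonoidHom.mem_ker]
      have h1 : f a ∈ Subgroup.centralizer (Qb : Set (G ⧸ K)) := hCb ▸ ha
      have h2 : f b ∈ Qb := hcent hb
      have h3 := Subgroup.mem_centralizer_iff.mp h1 (f b) h2
      rw [map_mul, map_mul, map_mul, map_inv, map_inv, ← h3]
      group
    exact hker.le hgoal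
  have h_a := card_defectGroup_inf_eq hM K M₁ hK hM₁n hKM hKp hidxM θ hinv B hB P hP χ hχ hχθ
  have h_b := factorization_charDegree_le_index hp K A hK hAn hKA hKp hidxA hab θ hinv χ hχθ
  have hkerp : ¬ p ∣ Nat.card f.ker := by
    have : Nat.card f.ker = Nat.card K := by
      apply Nat.card_congr
      exact (MulEquiv.subgroupCongr hker).toEquiv
    rw [this]; exact hKp
  rw [hM₁] at h_a
  have hQP : Qb ≤ P.map f := le_map_of_card_inf_comap p f hf hkerp Qb hQp P h_a
  have hZ : Nat.card (Subgroup.center P) ∣ Nat.card A := by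
    rw [hA, hCb]
    exact card_center_dvd_card_comap_centralizer f Qb P hQP
  have hZle : (Nat.card (Subgroup.center P)).factorization p ≤ (Nat.card A).factorization p :=
    (Nat.factorization_le_iff_dvd Nat.card_pos.ne' Nat.card_pos.ne').mpr hZ p
  have hcardP := Cfsg.Agent.S0908.result p M hM B hB P hP
  have hPmul : Nat.card (Subgroup.center P) * (Subgroup.center P).index = Nat.card P :=
    Subgroup.card_mul_index _
  have hPfac : (Nat.card (Subgroup.center P)).factorization p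
      + ((Subgroup.center P).index).factorization p = Cfsg.blockDefect p B := by
    rw [← Finsupp.add_apply, ← Nat.factorization_mul Nat.card_pos.ne'
      Subgroup.index_ne_zero_of_finite, hPmul, hcardP, Nat.factorization_pow, Finsupp.smul_apply,
      Nat.Prime.factorization_self hp, smul_eq_mul, mul_one]
  have hGfac : (Nat.card A).factorization p + A.index.factorization p
      = (Nat.card G).factorization p := by
    rw [← Finsupp.add_apply, ← Nat.factorization_mul Nat.card_pos.ne'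
      Subgroup.index_ne_zero_of_finite, Subgroup.card_mul_index]
  unfold Cfsg.blockDefect at hPfac
  unfold Cfsg.blockHeight
  omega

end invariantCase

end Cfsg.Agent.Lib.Helper6
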