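import Mathlib
import Cfsg.Agent.Lib.Helper6.FongHt4

set_option autoImplicit false
set_option linter.unusedSectionVars false
open Cfsg

/-!
Fong's height bound in `p`-solvable groups: the induction.
-/

namespace Cfsg.Agent.Lib.Helper6

open scoped ComplexConjugate

universe u

theorem fong_height_aux {p : ℕ} [Fact p.Prime] {M : Ideal Cfsg.AlgInt}
    (hM : Cfsg.IsPModular p M) (n : ℕ) :
    ∀ (G : Type u) [Group G] [Finite G], Nat.card G = n → Cfsg.IsPSolvable p G →
    ∀ (B : Set (Cfsg.IrrCharacter G)), Cfsg.IsPBlock M B →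
    ∀ (P : Subgroup G), Cfsg.IsDefectGroup p M B P →
    ∀ χ : Cfsg.IrrCharacter G, χ ∈ B →
      Cfsg.blockHeight p B (χ : G → ℂ) ≤ ((Subgroup.center P).index).factorization p := by
  induction n using Nat.strong_induction_on with
  | _ n ih =>
    intro G _ _ hn hsolv B hB P hP χ hχ
    classical
    haveI : Fintype G := Fintype.ofFinite G
    have hp : p.Prime := hM.1
    obtain ⟨K, hKdef⟩ : ∃ K : Subgroup G, K = Cfsg.pPrimeCore p G := ⟨_, rfl⟩
    have hK : K.Normal := hKdef ▸ (pPrimeCore_normal_and_coprime (G := G) p).1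
    haveI : Fintype K := Fintype.ofFinite _
    obtain ⟨θ, hθ⟩ := exists_constituent_restrict K χ.2
    by_cases hinv : ∀ g : G, irrConj K hK g θ = θ
    · exact fong_height_invariant hM hsolv K hKdef hK θ hinv B hB P hP χ hχ hθ
    · push Not at hinv
      obtain ⟨g₀, hg₀⟩ := hinv
      have hKp : ¬ p ∣ Nat.card K := by
        have h1 := (pPrimeCore_normal_and_coprime (G := G) p).2
        rw [← hKdef] at h1
        exact (Nat.Prime.coprime_iff_not_dvd hp).1 h1.symm
      have hsing : Cfsg.blockOf M (θ : K → ℂ) = {θ} := by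
        apply (Cfsg.Agent.S0914.result p M hM θ).1
        intro hdvd
        exact hKp (hdvd.trans (Nat.div_dvd_of_dvd (IsIrrCharacter.charDegree_dvd_card θ.2)))
      obtain ⟨b, hbdef⟩ : ∃ b : Set (Cfsg.IrrCharacter K), b = Cfsg.blockOf M (θ : K → ℂ) :=
        ⟨_, rfl⟩
      have hb : Cfsg.IsPBlock M b := ⟨θ, hbdef⟩
      have hθb : θ ∈ b := by rw [hbdef]; exact sameBlock_refl hM _
      obtain ⟨T, hTdef⟩ : ∃ T : Subgroup G, T = blockStab K hK b := ⟨_, rfl⟩
      haveI : Fintype T := Fintype.ofFinite _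
      have hT : ∀ g : G, g ∈ T ↔ ∀ θ' ∈ b, irrConj K hK g θ' ∈ b := by
        intro g
        rw [hTdef]
        exact mem_blockStab_iff K hK hM b hb g
      have hKT : K ≤ T := by rw [hTdef]; exact le_blockStab K hK b
      have hg₀T : g₀ ∉ T := by
        intro h
        apply hg₀
        have h1 := (hT g₀).1 h θ hθb
        rw [hbdef, hsing] at h1
        exact h1
      have hlt : Nat.card T < n := by
        rw [← hn]
        apply lt_of_le_of_ne (Subgroup.card_le_card_group T)
        intro heq
        apply hg₀T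
        rw [Subgroup.eq_top_of_card_eq T heq]
        exact Subgroup.mem_top _
      have hcov : ∃ χ ∈ B, ∃ θ' ∈ b,
          Cfsg.classInner (fun n : K => (χ : G → ℂ) n) (θ' : K → ℂ) ≠ 0 := ⟨χ, hχ, θ, hθb, hθ⟩
      obtain ⟨B', hB', hcov', hind⟩ := fongReynolds_surjective K hK T hKT b hT hM hb B hB hcov
      obtain ⟨ψ, hψ, hχψ⟩ := (fongReynolds_mem_iff K hK T hKT b hT hM hb B' hB' hcov' B hind χ).1 hχ
      obtain ⟨D, hD⟩ := exists_isDefectGroup hM B' hB'
      have hD' := fongReynolds_defectGroup K hK T hKT b hT hM hb B' hB' hcov' B hind D hD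
      have hheight := fongReynolds_blockHeight K hK T hKT b hT hM hb B' hB' hcov' B hind ψ hψ
      have hsolvT : Cfsg.IsPSolvable p T :=
        Cfsg.Agent.Lib.Helper1.PSolvSub.isPSolvable_subgroup hsolv T
      have hih := ih (Nat.card T) hlt T rfl hsolvT B' hB' D hD ψ hψ
      rw [hχψ, hheight]
      refine hih.trans (le_of_eq ?_)
      -- the index of the centre is the same for the conjugate defect groups
      obtain ⟨χ₀, rfl⟩ := hB
      obtain ⟨x, hx⟩ := isDefectGroup_conj hM χ₀ (D.map T.subtype) P hD' hP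
      subst hx
      have e1 : D ≃* (D.map T.subtype) := Subgroup.equivMapOfInjective D T.subtype T.subtype_injective
      have e2 : (D.map T.subtype) ≃* ((D.map T.subtype).map (MulAut.conj x).toMonoidHom) :=
        Subgroup.equivMapOfInjective _ _ (MulAut.conj x).injective
      rw [index_center_congr (e1.trans e2)]

end Cfsg.Agent.Lib.Helper6
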