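import Mathlib
import Cfsg.Prelude.Def_Blocks
import Cfsg.Agent.Lib.Helper6.KnConj

set_option autoImplicit false
set_option linter.unusedSectionVars false
open Cfsg

namespace Cfsg.Agent.Lib.Helper6

open scoped ComplexConjugate

section knStab

variable {A : Type*} [Group A] [Fintype A] [DecidableEq A]
variable {p : ℕ} [Fact p.Prime] {M : Ideal Cfsg.AlgInt}

/-- a normal subgroup of `p`-power index containing a defect group of a block covering a stable
block is the whole group -/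
theorem eq_top_of_cover_defect_le (hM : Cfsg.IsPModular p M)
    (N : Subgroup A) [Fintype N] (hN : N.Normal) (hidx : ∃ k : ℕ, N.index = p ^ k)
    (c : Set (Cfsg.IrrCharacter N)) (hc : Cfsg.IsPBlock M c) (hcst : GStable N hN c)
    (f : Set (Cfsg.IrrCharacter A)) (hf : Cfsg.IsPBlock M f)
    (hcov : ∃ χ ∈ f, ∃ θ ∈ c, Cfsg.classInner (fun n : N => (χ : A → ℂ) n) (θ : N → ℂ) ≠ 0)
    (D : Subgroup A) (hD : Cfsg.IsDefectGroup p M f D) (hDN : D ≤ N) : N = ⊤ := by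
  classical
  have hpp : p.Prime := Fact.out
  have hmax : ∀ B' : Set (Cfsg.IrrCharacter A), Cfsg.IsPBlock M B' →
      (∃ χ ∈ B', ∃ θ₁ ∈ c, Cfsg.classInner (fun n : N => (χ : A → ℂ) n) (θ₁ : N → ℂ) ≠ 0) →
      Cfsg.blockDefect p B' ≤ Cfsg.blockDefect p f := by
    intro B' hB' hcov'
    obtain ⟨χ', hχ', θ', hθ', hc'⟩ := hcov'
    obtain ⟨χ₁, hχ₁, θ₁, hθ₁, hc₁⟩ := hcov
    have hθθ : Cfsg.SameBlock M (θ₁ : N → ℂ) (θ' : N → ℂ) := by
      obtain ⟨θ₀, rfl⟩ := hc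
      exact SameBlock.trans' hM (SameBlock.symm' hθ₁) hθ'
    have h1 := sameBlock_of_cover_of_index N hM hidx χ₁ χ' θ₁ θ' hθθ hc₁ hc'
    have h2 : B' = f := by
      obtain ⟨χ₀, rfl⟩ := hB'
      obtain ⟨χ₂, rfl⟩ := hf
      rw [blockOf_eq_of_mem hM hχ', blockOf_eq_of_mem hM hχ₁]
      exact (blockOf_eq_of_sameBlock hM h1).symm
    rw [h2]
  haveI := hN
  have hinv : ∀ g : A, ∀ θ₁ ∈ c, ∀ θ' : Cfsg.IrrCharacter N,
      (∀ n : N, (θ' : N → ℂ) n = (θ₁ : N → ℂ) ⟨g * n * g⁻¹, hN.conj_mem n n.2 g⟩) → θ' ∈ c :=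
    fun g => (stab_iff_irrConj N hN c g).mpr (fun θ₁ hθ₁ => hcst θ₁ hθ₁ g)
  have h3 := (Cfsg.Agent.S0970.result p M hM N c hc hinv f hf hcov hmax D hD).1
  rw [sup_eq_right.mpr hDN] at h3
  obtain ⟨k, hk⟩ := hidx
  have hk0 : k = 0 := by
    by_contra hne
    apply h3
    rw [hk]
    exact dvd_pow_self p hne
  rw [hk0, pow_zero] at hk
  exact Subgroup.index_eq_one.mp hk

/-- over a normal subgroup of `p`-power index containing a defect group of a covering block, the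
stabilizer of the covered block is the normal subgroup -/
theorem blockStab_le_of_cover_defect_le (hM : Cfsg.IsPModular p M)
    (N : Subgroup A) [Fintype N] (hN : N.Normal) (hidx : ∃ k : ℕ, N.index = p ^ k)
    (c : Set (Cfsg.IrrCharacter N)) (hc : Cfsg.IsPBlock M c)
    (f : Set (Cfsg.IrrCharacter A)) (hf : Cfsg.IsPBlock M f)
    (hcov : ∃ χ ∈ f, ∃ θ ∈ c, Cfsg.classInner (fun n : N => (χ : A → ℂ) n) (θ : N → ℂ) ≠ 0)
    (D : Subgroup A) (hD : Cfsg.IsDefectGroup p M f D) (hDN : D ≤ N) :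
    blockStab N hN c ≤ N := by
  classical
  have hpp : p.Prime := Fact.out
  obtain ⟨T, hTdef⟩ : ∃ T : Subgroup A, T = blockStab N hN c := ⟨_, rfl⟩
  rw [← hTdef]
  haveI : Fintype T := Fintype.ofFinite _
  have hT : ∀ g : A, g ∈ T ↔ ∀ θ ∈ c, irrConj N hN g θ ∈ c := by
    intro g
    rw [hTdef]
    exact mem_blockStab_iff N hN hM c hc g
  have hNT : N ≤ T := by rw [hTdef]; exact le_blockStab N hN c
  obtain ⟨f', hf', hcov', hind⟩ := fongReynolds_surjective N hN T hNT c hT hM hc f hf hcov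
  obtain ⟨D', hD'⟩ := exists_isDefectGroup hM f' hf'
  have hP₀ := fongReynolds_defectGroup N hN T hNT c hT hM hc f' hf' hcov' f hind D' hD'
  have hD'N : D'.map T.subtype ≤ N := by
    obtain ⟨χ₀, rfl⟩ := hf
    obtain ⟨x, hx⟩ := isDefectGroup_conj hM χ₀ D _ hD hP₀
    rw [hx]
    rintro _ ⟨d, hd, rfl⟩
    exact hN.conj_mem d (hDN hd) x
  haveI : Fintype (N.subgroupOf T) := Fintype.ofFinite _
  have hN' : (N.subgroupOf T).Normal := hN.subgroupOf T
  have hc' : Cfsg.IsPBlock M (irrSub N T hNT '' c) := by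
    obtain ⟨θ₀, rfl⟩ := hc
    exact ⟨irrSub N T hNT θ₀, image_irrSub_blockOf N T hNT θ₀⟩
  have hst' := gStable_image_irrSub N hN T hNT c hT
  have hcov'' : ∃ ψ ∈ f', ∃ θ' ∈ irrSub N T hNT '' c,
      Cfsg.classInner (fun k : N.subgroupOf T => (ψ : T → ℂ) k) (θ' : N.subgroupOf T → ℂ) ≠ 0 := by
    obtain ⟨ψ, hψ, θ, hθ, hc⟩ := hcov'
    refine ⟨ψ, hψ, irrSub N T hNT θ, ⟨θ, hθ, rfl⟩, ?_⟩
    rw [classInner_restrict_irrSub]
    exact hc
  have hidx' : ∃ k : ℕ, (N.subgroupOf T).index = p ^ k := by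
    obtain ⟨k, hk⟩ := hidx
    have h1 : (N.subgroupOf T).index ∣ p ^ k := by
      rw [← hk]
      exact Subgroup.relIndex_dvd_index_of_normal N T
    obtain ⟨j, -, hj⟩ := (Nat.dvd_prime_pow hpp).1 h1
    exact ⟨j, hj⟩
  have hD'N' : D' ≤ N.subgroupOf T := by
    intro d hd
    rw [Subgroup.mem_subgroupOf]
    exact hD'N ⟨d, hd, rfl⟩
  have key := eq_top_of_cover_defect_le hM (N.subgroupOf T) hN' hidx' (irrSub N T hNT '' c) hc'
    hst' f' hf' hcov'' D' hD' hD'N'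
  intro t ht
  have : (⟨t, ht⟩ : T) ∈ N.subgroupOf T := by rw [key]; trivial
  exact this

/-- the prelude's stabilizer condition is membership in `blockStab` -/
theorem stabilizesBlock_iff_mem_blockStab (hM : Cfsg.IsPModular p M)
    (N : Subgroup A) [Fintype N] (hN : N.Normal)
    (c : Set (Cfsg.IrrCharacter N)) (hc : Cfsg.IsPBlock M c) (x : A) :
    Cfsg.StabilizesBlock N c x ↔ x ∈ blockStab N hN c := by
  have hconj : ∀ χ : Cfsg.IrrCharacter N,
      Cfsg.IsConjCharOf N x (χ : N → ℂ) (irrConj N hN x⁻¹ χ : N → ℂ) := by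
    intro χ k k' hk
    rw [irrConj_coe, conjFun_apply]
    apply congrArg
    apply Subtype.ext
    change x⁻¹ * (k' : A) * x⁻¹⁻¹ = (k : A)
    rw [hk]
    simp [mul_assoc]
  constructor
  · rintro ⟨_, h⟩
    have h1 : x⁻¹ ∈ blockStab N hN c := by
      rw [mem_blockStab_iff N hN hM c hc]
      intro θ hθ
      obtain ⟨χ', hχ', hcc⟩ := h θ hθ
      have : χ' = irrConj N hN x⁻¹ θ := by
        apply Subtype.ext
        funext k
        have h2 := hcc ⟨x⁻¹ * (k : A) * x⁻¹⁻¹, hN.conj_mem k k.2 x⁻¹⟩ k (by simp [mul_assoc])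
        rw [h2, irrConj_coe, conjFun_apply]
      rw [← this]
      exact hχ'
    have := Subgroup.inv_mem _ h1
    rwa [inv_inv] at this
  · intro h
    refine ⟨?_, ?_⟩
    · haveI := hN
      rw [Subgroup.normalizer_eq_top]
      trivial
    · intro χ hχ
      have h1 := Subgroup.inv_mem _ h
      rw [mem_blockStab_iff N hN hM c hc] at h1
      exact ⟨irrConj N hN x⁻¹ χ, h1 χ hχ, hconj χ⟩

end knStab

end Cfsg.Agent.Lib.Helper6
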