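import Mathlib
import Cfsg.Prelude.Def_Blocks
import Cfsg.Agent.Lib.Helper6.KnStab
import Cfsg.Agent.Lib.Helper8.McK1
import Cfsg.Agent.Lib.Helper6.Multiplicity
import Cfsg.Agent.S4438
import Cfsg.Agent.S0929
import Cfsg.Agent.S0963

set_option autoImplicit false
set_option linter.unusedSectionVars false
open Cfsg

namespace Cfsg.Agent.Lib.Helper6

open scoped ComplexConjugate

section fongThm

variable {X : Type*} [Group X] [Fintype X] [DecidableEq X]
variable {p : ℕ} [Fact p.Prime] {M : Ideal Cfsg.AlgInt}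

/-- over an invariant character of a normal `p'`-subgroup there is an irreducible character of
degree prime to `p` -/
theorem exists_pPrime_degree_over (K : Subgroup X) [Fintype K] (hK : K.Normal)
    (hKp : ¬ p ∣ Nat.card K) (θ : Cfsg.IrrCharacter K)
    (hinv : ∀ (g : X) (n : K), (θ : K → ℂ) ⟨g * n * g⁻¹, hK.conj_mem n n.2 g⟩ = (θ : K → ℂ) n) :
    ∃ χ : Cfsg.IrrCharacter X, Cfsg.classInner (fun n : K => (χ : X → ℂ) n) (θ : K → ℂ) ≠ 0 ∧
      ¬ p ∣ Cfsg.charDegree (χ : X → ℂ) := by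
  classical
  have hpp : p.Prime := Fact.out
  haveI := hK
  obtain ⟨S⟩ : Nonempty (Sylow p X) := inferInstance
  obtain ⟨Y, hYdef⟩ : ∃ Y : Subgroup X, Y = K ⊔ (S : Subgroup X) := ⟨_, rfl⟩
  haveI : Fintype Y := Fintype.ofFinite _
  have hKY : K ≤ Y := by rw [hYdef]; exact le_sup_left
  have hSY : (S : Subgroup X) ≤ Y := by rw [hYdef]; exact le_sup_right
  haveI : Fintype (K.subgroupOf Y) := Fintype.ofFinite _
  haveI hK' : (K.subgroupOf Y).Normal := hK.subgroupOf Y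
  have hcardK' : Nat.card (K.subgroupOf Y) = Nat.card K :=
    Nat.card_congr (Subgroup.subgroupOfEquivOfLe hKY).toEquiv
  have hidx : ∃ j : ℕ, (K.subgroupOf Y).index = p ^ j := by
    obtain ⟨n, hn⟩ := IsPGroup.iff_card.1 S.isPGroup'
    have h1 : (K.subgroupOf Y).index ∣ p ^ n := by
      change K.relIndex Y ∣ p ^ n
      rw [hYdef, Subgroup.relIndex_sup_left, ← hn]
      exact Subgroup.relIndex_dvd_card K (S : Subgroup X)
    obtain ⟨j, -, hj⟩ := (Nat.dvd_prime_pow hpp).1 h1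
    exact ⟨j, hj⟩
  have hcop : (Nat.card (K.subgroupOf Y)).Coprime (K.subgroupOf Y).index := by
    obtain ⟨j, hj⟩ := hidx
    rw [hj, hcardK']
    apply Nat.Coprime.pow_right
    exact ((Nat.Prime.coprime_iff_not_dvd hpp).mpr hKp).symm
  have hinv' : Cfsg.Agent.Lib.Helper8.McK.InvK (K.subgroupOf Y)
      ((irrSub K Y hKY θ : Cfsg.IrrCharacter (K.subgroupOf Y)) : K.subgroupOf Y → ℂ) := by
    intro g n
    rw [irrSub_apply, irrSub_apply]
    exact hinv (g : X) (Subgroup.subgroupOfEquivOfLe hKY n)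
  obtain ⟨θh, hθh⟩ := Cfsg.Agent.Lib.Helper8.McK.exists_extension (K.subgroupOf Y) hcop
    (irrSub K Y hKY θ) hinv'
  have hθhK : ∀ n : K, (θh : Y → ℂ) ⟨n, hKY n.2⟩ = (θ : K → ℂ) n := by
    intro n
    have h1 := hθh ((Subgroup.subgroupOfEquivOfLe hKY).symm n)
    rw [irrSub_apply, MulEquiv.apply_symm_apply] at h1
    rw [← h1]
    rfl
  have hA : Cfsg.IsCharacter X (Cfsg.indFun Y (θh : Y → ℂ)) :=
    IsCharacter.indFun Y (IsIrrCharacter.isCharacter θh.2)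
  haveI : Fintype (Cfsg.IrrCharacter X) := Fintype.ofFinite _
  obtain ⟨m, hm, hmi⟩ := IsCharacter.exists_mult hA
  have hA1 : Cfsg.indFun Y (θh : Y → ℂ) 1
      = ((Y.index * Cfsg.charDegree (θ : K → ℂ) : ℕ) : ℂ) := by
    rw [indFun_one]
    have h1 : (θh : Y → ℂ) 1 = (θ : K → ℂ) 1 := by
      have := hθhK 1
      rw [← this]
      rfl
    rw [h1, IsCharacter.apply_one_eq_charDegree (IsIrrCharacter.isCharacter θ.2)]
    push_cast
    rfl
  have hndvd : ¬ p ∣ Y.index * Cfsg.charDegree (θ : K → ℂ) := by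
    intro h
    rcases (Nat.Prime.dvd_mul hpp).1 h with h1 | h1
    · exact S.not_dvd_index (dvd_trans h1 (Subgroup.index_dvd_of_le hSY))
    · exact hKp (dvd_trans h1 (IsIrrCharacter.charDegree_dvd_card θ.2))
  have hex : ∃ χ : Cfsg.IrrCharacter X, m χ ≠ 0 ∧ ¬ p ∣ Cfsg.charDegree (χ : X → ℂ) := by
    by_contra hno
    push Not at hno
    apply hndvd
    have h1 := congrFun hm 1
    rw [hA1] at h1
    rw [Finset.sum_apply] at h1
    simp only [Pi.smul_apply] at h1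
    simp only [nsmul_eq_mul] at h1
    have h2 : ∀ χ : Cfsg.IrrCharacter X, ((m χ : ℕ) : ℂ) * (χ : X → ℂ) 1
        = ((m χ * Cfsg.charDegree (χ : X → ℂ) : ℕ) : ℂ) := by
      intro χ
      rw [IsCharacter.apply_one_eq_charDegree (IsIrrCharacter.isCharacter χ.2)]
      push_cast
      rfl
    rw [Finset.sum_congr rfl (fun χ _ => h2 χ), ← Nat.cast_sum] at h1
    have h3 : Y.index * Cfsg.charDegree (θ : K → ℂ)
        = ∑ χ : Cfsg.IrrCharacter X, m χ * Cfsg.charDegree (χ : X → ℂ) := by exact_mod_cast h1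
    rw [h3]
    apply Finset.dvd_sum
    intro χ _
    by_cases h0 : m χ = 0
    · rw [h0, zero_mul]; exact dvd_zero p
    · exact Dvd.dvd.mul_left (hno χ h0) _
  obtain ⟨χ, hmχ, hχdeg⟩ := hex
  refine ⟨χ, ?_, hχdeg⟩
  have h1 : Cfsg.classInner (Cfsg.indFun Y (θh : Y → ℂ)) (χ : X → ℂ) ≠ 0 := by
    rw [hmi χ]
    exact_mod_cast hmχ
  rw [Cfsg.Agent.S0146.result Y (θh : Y → ℂ) (χ : X → ℂ) (IsIrrCharacter.isClassFunction χ.2)] at h1
  have h2 : Cfsg.classInner (fun y : Y => (χ : X → ℂ) y) (θh : Y → ℂ) ≠ 0 := by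
    rw [← classInner_conj_symm]
    intro h0
    apply h1
    have := congrArg conj h0
    rwa [Complex.conj_conj, map_zero] at this
  obtain ⟨k, hk⟩ := IsCharacter.classInner_comp_ge (Subgroup.inclusion hKY)
    (IsCharacter.restrict Y (IsIrrCharacter.isCharacter χ.2)) θh.2 h2 θ.2
  have e1 : (fun x : K => (fun y : Y => (χ : X → ℂ) y) (Subgroup.inclusion hKY x))
      = fun n : K => (χ : X → ℂ) n := rfl
  have e2 : (fun x : K => (θh : Y → ℂ) (Subgroup.inclusion hKY x)) = (θ : K → ℂ) := by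
    funext x
    exact hθhK x
  rw [e1, e2, classInner_irrCharacter, if_pos rfl] at hk
  rw [hk]
  have : ((1 + k : ℕ) : ℂ) ≠ 0 := by exact_mod_cast (by omega : 1 + k ≠ 0)
  simpa using this

/-- a block containing a character of degree prime to `p` has the Sylow `p`-subgroups as its
defect groups -/
theorem sylow_defect_of_pPrime_degree (hM : Cfsg.IsPModular p M) (χ : Cfsg.IrrCharacter X)
    (hdeg : ¬ p ∣ Cfsg.charDegree (χ : X → ℂ)) :
    (∀ P : Sylow p X, Cfsg.IsDefectGroup p M (Cfsg.blockOf M (χ : X → ℂ)) (P : Subgroup X)) ∧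
    ∀ D : Subgroup X, Cfsg.IsDefectGroup p M (Cfsg.blockOf M (χ : X → ℂ)) D →
      ∃ P : Sylow p X, D = (P : Subgroup X) := by
  have hpp : p.Prime := Fact.out
  have hχ : χ ∈ Cfsg.blockOf M (χ : X → ℂ) := sameBlock_refl hM _
  have hdef : Cfsg.blockDefect p (Cfsg.blockOf M (χ : X → ℂ)) = (Nat.card X).factorization p := by
    unfold Cfsg.blockDefect
    have h0 : sInf ((fun ψ : Cfsg.IrrCharacter X => (Cfsg.charDegree (ψ : X → ℂ)).factorization p) ''
        Cfsg.blockOf M (χ : X → ℂ)) = 0 := by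
      apply Nat.eq_zero_of_le_zero
      apply Nat.sInf_le
      refine ⟨χ, hχ, ?_⟩
      simp only
      exact Nat.factorization_eq_zero_of_not_dvd hdeg
    rw [h0, Nat.sub_zero]
  have hall : ∀ D : Subgroup X, Cfsg.IsDefectGroup p M (Cfsg.blockOf M (χ : X → ℂ)) D →
      ∃ P : Sylow p X, D = (P : Subgroup X) := by
    intro D hD
    have h1 := Cfsg.Agent.S0908.result p M hM _ ⟨χ, rfl⟩ D hD
    rw [hdef] at h1
    exact ⟨Sylow.ofCard D h1, rfl⟩
  refine ⟨?_, hall⟩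
  intro P
  obtain ⟨D, hD⟩ := exists_isDefectGroup hM _ (⟨χ, rfl⟩ : Cfsg.IsPBlock M (Cfsg.blockOf M (χ : X → ℂ)))
  obtain ⟨P₀, rfl⟩ := hall D hD
  obtain ⟨g, hg⟩ := MulAction.exists_smul_eq X P₀ P
  have h1 := IsDefectGroup.map_conj hM χ _ hD g
  have h2 : ((P₀ : Subgroup X)).map (MulAut.conj g).toMonoidHom = (P : Subgroup X) := by
    rw [← hg]
    rfl
  rw [h2] at h1
  exact h1

/-- a block of a normal subgroup whose defect group `D` satisfies `C_G(D) ≤ N` is covered by a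
unique block -/
theorem sameBlock_of_cover_of_centralizer_le (hM : Cfsg.IsPModular p M)
    (N : Subgroup X) [Fintype N] (hN : N.Normal)
    (b : Set (Cfsg.IrrCharacter N)) (hb : Cfsg.IsPBlock M b) (D : Subgroup X) (hDN : D ≤ N)
    (hD : Cfsg.IsDefectGroup p M b (D.subgroupOf N))
    (hC : Subgroup.centralizer (D : Set X) ≤ N)
    (χ χ' : Cfsg.IrrCharacter X) (θ θ' : Cfsg.IrrCharacter N) (hθ : θ ∈ b) (hθ' : θ' ∈ b)
    (hc : Cfsg.classInner (fun n : N => (χ : X → ℂ) n) (θ : N → ℂ) ≠ 0)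
    (hc' : Cfsg.classInner (fun n : N => (χ' : X → ℂ) n) (θ' : N → ℂ) ≠ 0) :
    Cfsg.SameBlock M (χ : X → ℂ) (χ' : X → ℂ) := by
  haveI := hN
  have hvan : ∀ (ψ : Cfsg.IrrCharacter X) (η : Cfsg.IrrCharacter N), η ∈ b →
      Cfsg.classInner (fun n : N => (ψ : X → ℂ) n) (η : N → ℂ) ≠ 0 → ∀ g : X, g ∉ N →
      Cfsg.MemLocalIdeal M (Cfsg.centralChar (ψ : X → ℂ) g) := by
    intro ψ η hη hcη g hg
    by_contra hcon
    have hψ : ψ ∈ Cfsg.blockOf M (ψ : X → ℂ) := sameBlock_refl hM _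
    obtain ⟨P, hP, hPN⟩ := Cfsg.Agent.S4438.result p M hM N b hb D hDN hD
      (Cfsg.blockOf M (ψ : X → ℂ)) ⟨ψ, rfl⟩ ⟨ψ, hψ, η, hη, hcη⟩
    obtain ⟨x, hgx, hxc, -⟩ := Cfsg.Agent.S0929.result p M hM _ ⟨ψ, rfl⟩ P hP g ⟨ψ, hψ, hcon⟩
    have hxN : x ∈ N := by
      apply hC
      rw [Subgroup.mem_centralizer_iff] at hxc ⊢
      intro d hd
      have hdP : d ∈ P := by
        have : d ∈ P ⊓ N := by rw [hPN]; exact hd
        exact this.1
      exact hxc d hdP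
    apply hg
    obtain ⟨c, hc⟩ := isConj_iff.mp hgx
    have h1 : g = c⁻¹ * x * c⁻¹⁻¹ := by rw [← hc]; group
    rw [h1]
    exact hN.conj_mem x hxN c⁻¹
  intro g
  by_cases hg : g ∈ N
  · have e1 := (Cfsg.Agent.S0963.result N χ θ).mp hc ⟨g, hg⟩
    have e2 := (Cfsg.Agent.S0963.result N χ' θ').mp hc' ⟨g, hg⟩
    simp only at e1 e2
    rw [e1, e2]
    have hθθ : Cfsg.SameBlock M (θ : N → ℂ) (θ' : N → ℂ) := by
      obtain ⟨θ₀, rfl⟩ := hb
      exact SameBlock.trans' hM (SameBlock.symm' hθ) hθ'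
    exact inducedCentralChar_sub_memLocalIdeal N hM θ.2 θ'.2 hθθ g
  · exact MemLocalIdeal.sub hM (hvan χ θ hθ hc g hg) (hvan χ' θ' hθ' hc' g hg)

/-- Fong's theorem on characters over an invariant character of a normal `p'`-subgroup `N`, given
a normal subgroup `M₁ ≥ N` with `M₁/N` a `p`-group and `C_G(P₁) ≤ M₁` for the Sylow `p`-subgroups
`P₁` of `M₁` -/
theorem fong_aux (hM : Cfsg.IsPModular p M)
    (N : Subgroup X) [Fintype N] (hN : N.Normal) (hNp : ¬ p ∣ Nat.card N)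
    (θ : Cfsg.IrrCharacter N)
    (hinv : ∀ (g : X) (n : N), (θ : N → ℂ) ⟨g * n * g⁻¹, hN.conj_mem n n.2 g⟩ = (θ : N → ℂ) n)
    (M₁ : Subgroup X) [Fintype M₁] (hM₁ : M₁.Normal) (hNM : N ≤ M₁)
    (hidx : ∃ k : ℕ, (N.subgroupOf M₁).index = p ^ k)
    (hcon : ∀ P₁ : Sylow p M₁,
      Subgroup.centralizer (((P₁ : Subgroup M₁).map M₁.subtype : Subgroup X) : Set X) ≤ M₁) :
    ∃ B : Set (Cfsg.IrrCharacter X), Cfsg.IsPBlock M B ∧
      (∀ χ : Cfsg.IrrCharacter X, χ ∈ B ↔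
        Cfsg.classInner (fun n : N => (χ : X → ℂ) n) (θ : N → ℂ) ≠ 0) ∧
      (∀ P : Sylow p X, Cfsg.IsDefectGroup p M B (P : Subgroup X)) ∧
      ∀ D : Subgroup X, Cfsg.IsDefectGroup p M B D → ∃ P : Sylow p X, D = (P : Subgroup X) := by
  classical
  have hpp : p.Prime := Fact.out
  obtain ⟨χ₁, hχ₁θ, hχ₁deg⟩ := exists_pPrime_degree_over N hN hNp θ hinv
  obtain ⟨hsyl, hdefs⟩ := sylow_defect_of_pPrime_degree hM χ₁ hχ₁deg
  refine ⟨Cfsg.blockOf M (χ₁ : X → ℂ), ⟨χ₁, rfl⟩, ?_, hsyl, hdefs⟩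
  intro χ
  constructor
  · intro hχ
    exact constituent_of_sameBlock_of_coprime N hN hM hNp χ₁ χ hχ θ hχ₁θ
  · intro hχθ
    change Cfsg.SameBlock M (χ₁ : X → ℂ) (χ : X → ℂ)
    obtain ⟨η₁, hη₁χ, hη₁θ⟩ := exists_mid_constituent N M₁ hNM
      (IsIrrCharacter.isClassFunction χ₁.2) θ hχ₁θ
    obtain ⟨η, hηχ, hηθ⟩ := exists_mid_constituent N M₁ hNM
      (IsIrrCharacter.isClassFunction χ.2) θ hχθ
    haveI : Fintype (N.subgroupOf M₁) := Fintype.ofFinite _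
    haveI hN' : (N.subgroupOf M₁).Normal := hN.subgroupOf M₁
    have hcardN' : Nat.card (N.subgroupOf M₁) = Nat.card N :=
      Nat.card_congr (Subgroup.subgroupOfEquivOfLe hNM).toEquiv
    have hθ' : ∀ ξ : Cfsg.IrrCharacter M₁,
        Cfsg.classInner (fun n : N => (ξ : M₁ → ℂ) ⟨n, hNM n.2⟩) (θ : N → ℂ) ≠ 0 →
        Cfsg.classInner (fun k : N.subgroupOf M₁ => (ξ : M₁ → ℂ) k)
          ((irrSub N M₁ hNM θ : Cfsg.IrrCharacter (N.subgroupOf M₁)) : N.subgroupOf M₁ → ℂ) ≠ 0 := by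
      intro ξ hξ
      rw [classInner_restrict_irrSub]
      exact hξ
    have hsb : Cfsg.SameBlock M (η₁ : M₁ → ℂ) (η : M₁ → ℂ) :=
      sameBlock_of_cover_of_index (N.subgroupOf M₁) hM hidx η₁ η (irrSub N M₁ hNM θ)
        (irrSub N M₁ hNM θ) (sameBlock_refl hM _) (hθ' η₁ hη₁θ) (hθ' η hηθ)
    -- a character of `M₁` of degree prime to `p` over `θ`
    obtain ⟨η₂, hη₂θ, hη₂deg⟩ := exists_pPrime_degree_over (N.subgroupOf M₁) hN'
      (by rw [hcardN']; exact hNp) (irrSub N M₁ hNM θ) (by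
        intro g n
        rw [irrSub_apply, irrSub_apply]
        exact hinv (g : X) (Subgroup.subgroupOfEquivOfLe hNM n))
    have hsb₂ : Cfsg.SameBlock M (η₁ : M₁ → ℂ) (η₂ : M₁ → ℂ) :=
      sameBlock_of_cover_of_index (N.subgroupOf M₁) hM hidx η₁ η₂ (irrSub N M₁ hNM θ)
        (irrSub N M₁ hNM θ) (sameBlock_refl hM _) (hθ' η₁ hη₁θ) hη₂θ
    obtain ⟨P₁⟩ : Nonempty (Sylow p M₁) := inferInstance
    have hP₁ := (sylow_defect_of_pPrime_degree hM η₂ hη₂deg).1 P₁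
    rw [← blockOf_eq_of_sameBlock hM hsb₂] at hP₁
    obtain ⟨D, hDdef⟩ : ∃ D : Subgroup X, D = (P₁ : Subgroup M₁).map M₁.subtype := ⟨_, rfl⟩
    have hDM : D ≤ M₁ := by rw [hDdef]; exact Subgroup.map_subtype_le _
    have hD : Cfsg.IsDefectGroup p M (Cfsg.blockOf M (η₁ : M₁ → ℂ)) (D.subgroupOf M₁) := by
      have : D.subgroupOf M₁ = (P₁ : Subgroup M₁) := by
        rw [hDdef]
        exact Subgroup.comap_map_eq_self_of_injective (Subgroup.subtype_injective M₁) _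
      rw [this]
      exact hP₁
    have hC : Subgroup.centralizer (D : Set X) ≤ M₁ := by
      rw [hDdef]
      exact hcon P₁
    exact sameBlock_of_cover_of_centralizer_le hM M₁ hM₁ (Cfsg.blockOf M (η₁ : M₁ → ℂ))
      ⟨η₁, rfl⟩ D hDM hD hC χ₁ χ η₁ η (sameBlock_refl hM _) hsb hη₁χ hηχ

end fongThm

end Cfsg.Agent.Lib.Helper6
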