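import Mathlib
import Cfsg.Agent.Lib.Helper4.ScalarRes4
import Cfsg.Agent.Lib.Helper5.HermBasis
import Cfsg.Agent.Lib.Helper5.HermBridge
import Cfsg.Agent.Lib.Helper5.HermCard

set_option autoImplicit false
set_option linter.unusedSectionVars false
set_option linter.unusedVariables false
set_option linter.unusedSimpArgs false

/-! Fixed-point-free elements of order three in the symplectic group: the structure of a vector
space over the quadratic extension, and the hermitian form. -/

namespace Cfsg.Agent.Lib.Helper6.FpfSp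

open Cfsg Cfsg.Agent.Lib.Helper4.ScalarRes Matrix

section coords

variable {F K : Type*} [Field F] [Field K] [Algebra F K] {q : ℕ} (Q : QD F K q (-1) 1)

theorem c0_add (x y : K) : Q.c0 (x + y) = Q.c0 x + Q.c0 y := by
  unfold QD.c0; rw [map_add]; rfl

theorem c0_zero : Q.c0 0 = 0 := by
  unfold QD.c0; rw [map_zero]; rfl

theorem e_one : Q.e (1, 0) = 1 := by
  rw [QD.e_apply]; simp

theorem e_theta : Q.e (0, 1) = Q.θ := by
  rw [QD.e_apply]; simp

theorem e_algebraMap (t : F) : Q.e (t, 0) = algebraMap F K t := by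
  rw [QD.e_apply]; simp

theorem c0_one : Q.c0 1 = 1 := by
  rw [← e_one Q, QD.c0_e]

theorem c1_one : Q.c1 1 = 0 := by
  rw [← e_one Q, QD.c1_e]

theorem c0_theta : Q.c0 Q.θ = 0 := by
  rw [← e_theta Q, QD.c0_e]

theorem c1_theta : Q.c1 Q.θ = 1 := by
  rw [← e_theta Q, QD.c1_e]

theorem c0_algebraMap (t : F) : Q.c0 (algebraMap F K t) = t := by
  rw [← e_algebraMap Q, QD.c0_e]

theorem c1_algebraMap (t : F) : Q.c1 (algebraMap F K t) = 0 := by
  rw [← e_algebraMap Q, QD.c1_e]

theorem c0_mul (z w : K) : Q.c0 (z * w) = Q.c0 z * Q.c0 w - Q.c1 z * Q.c1 w := by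
  conv_lhs => rw [← Q.e_c z, ← Q.e_c w, Q.e_mul_e, Q.c0_e]
  simp only
  ring

theorem c1_mul' (z w : K) :
    Q.c1 (z * w) = Q.c0 z * Q.c1 w + Q.c1 z * Q.c0 w - Q.c1 z * Q.c1 w := by
  conv_lhs => rw [← Q.e_c z, ← Q.e_c w, Q.e_mul_e, Q.c1_e]
  simp only
  ring

theorem theta_sq : Q.θ ^ 2 + Q.θ + 1 = 0 := by
  have := Q.hθ
  simp only [map_neg, map_one] at this
  linear_combination this

theorem fr_theta : Q.fr Q.θ = -1 - Q.θ := by
  rw [Q.hfrθ]; simp

theorem e_add (p p' : F × F) : Q.e (p + p') = Q.e p + Q.e p' := map_add _ _ _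

theorem e_mk_add (a b a' b' : F) : Q.e (a + a', b + b') = Q.e (a, b) + Q.e (a', b') := by
  rw [← e_add]; rfl

theorem e_smul (t : F) (a b : F) : Q.e (t * a, t * b) = algebraMap F K t * Q.e (a, b) := by
  rw [QD.e_apply, QD.e_apply]
  simp only [map_mul]
  ring

theorem theta_mul_e (a b : F) : Q.θ * Q.e (a, b) = Q.e (-b, a - b) := by
  rw [← e_theta Q, Q.e_mul_e]
  congr 1
  ext <;> simp <;> ring

theorem fr_e' (a b : F) : Q.fr (Q.e (a, b)) = Q.e (a - b, -b) := by
  rw [Q.fr_e, QD.e_apply]
  simp only [map_sub, map_neg, map_one]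
  ring

theorem fr_theta_mul_e (a b : F) : Q.fr Q.θ * Q.e (a, b) = Q.e (-a + b, -a) := by
  have h1 : Q.fr Q.θ = Q.e (-1, -1) := by
    rw [fr_theta, QD.e_apply]; simp only [map_neg, map_one]; ring
  rw [h1, Q.e_mul_e]
  congr 1
  ext <;> simp <;> ring

theorem fr_fr (z : K) : Q.fr (Q.fr z) = z := by
  rw [← Q.e_c z, fr_e', fr_e']
  congr 1
  ext <;> simp

theorem fr_ne_id : Q.fr ≠ RingHom.id K := by
  intro h
  have h1 : Q.fr Q.θ = Q.θ := by rw [h]; rfl
  rw [← e_theta Q, fr_e'] at h1
  have h2 := Q.e.injective h1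
  have h3 := congrArg Prod.fst h2
  simp at h3

theorem e_eq_iff (p : F × F) (z : K) : Q.e p = z ↔ p = (Q.c0 z, Q.c1 z) := by
  constructor
  · intro h; rw [← h, QD.c0_e, QD.c1_e]
  · intro h; rw [h, Q.e_c]

end coords

section space

variable {F K : Type*} [Field F] [Field K] [Algebra F K] {q : ℕ} (Q : QD F K q (-1) 1)
variable {ι : Type*} [Fintype ι] [DecidableEq ι] (X : Matrix ι ι F) (hX : X * X + X + 1 = 0)

include hX in
theorem X_sq_mulVec (v : ι → F) : X *ᵥ (X *ᵥ v) = - (X *ᵥ v) - v := by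
  have := congrArg (fun M => M *ᵥ v) hX
  simp only [add_mulVec, ← mulVec_mulVec, one_mulVec, zero_mulVec] at this
  rw [eq_sub_iff_add_eq, eq_neg_iff_add_eq_zero]
  rw [← this]; abel

/-- the scalar action of the quadratic extension -/
noncomputable def smulFun (z : K) (v : ι → F) : ι → F := Q.c0 z • v + Q.c1 z • X *ᵥ v

theorem smulFun_one (v : ι → F) : smulFun Q X 1 v = v := by
  unfold smulFun
  rw [c0_one, c1_one]; simp

include hX in
theorem smulFun_mul (z w : K) (v : ι → F) :
    smulFun Q X (z * w) v = smulFun Q X z (smulFun Q X w v) := by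
  unfold smulFun
  rw [c0_mul, c1_mul', mulVec_add, mulVec_smul, mulVec_smul, X_sq_mulVec X hX]
  module

theorem smulFun_zero (z : K) : smulFun Q X z (0 : ι → F) = 0 := by
  unfold smulFun
  simp

theorem smulFun_add (z : K) (u v : ι → F) :
    smulFun Q X z (u + v) = smulFun Q X z u + smulFun Q X z v := by
  unfold smulFun
  rw [mulVec_add]
  module

theorem add_smulFun (z w : K) (v : ι → F) :
    smulFun Q X (z + w) v = smulFun Q X z v + smulFun Q X w v := by
  unfold smulFun
  rw [c0_add, QD.c1_add]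
  module

theorem zero_smulFun (v : ι → F) : smulFun Q X 0 v = 0 := by
  unfold smulFun
  rw [c0_zero, QD.c1_zero]; simp

/-- the space with its structure over the quadratic extension -/
def VK (Q : QD F K q (-1) 1) (X : Matrix ι ι F) (hX : X * X + X + 1 = 0) : Type _ := ι → F

instance : AddCommGroup (VK Q X hX) := inferInstanceAs (AddCommGroup (ι → F))

instance : Module F (VK Q X hX) := inferInstanceAs (Module F (ι → F))

instance [Fintype F] : Fintype (VK Q X hX) := inferInstanceAs (Fintype (ι → F))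

/-- forgetting the structure -/
def toV (v : VK Q X hX) : ι → F := v

/-- adding the structure -/
def ofV (v : ι → F) : VK Q X hX := v

noncomputable instance : Module K (VK Q X hX) where
  smul z v := ofV Q X hX (smulFun Q X z (toV Q X hX v))
  one_smul v := smulFun_one Q X v
  mul_smul z w v := smulFun_mul Q X hX z w v
  smul_zero z := smulFun_zero Q X z
  smul_add z u v := smulFun_add Q X z u v
  add_smul z w v := add_smulFun Q X z w v
  zero_smul v := zero_smulFun Q X v

theorem smul_def (z : K) (v : VK Q X hX) :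
    z • v = ofV Q X hX (smulFun Q X z (toV Q X hX v)) := rfl

theorem toV_add (u v : VK Q X hX) : toV Q X hX (u + v) = toV Q X hX u + toV Q X hX v := rfl

theorem toV_ofV (v : ι → F) : toV Q X hX (ofV Q X hX v) = v := rfl

theorem ofV_toV (v : VK Q X hX) : ofV Q X hX (toV Q X hX v) = v := rfl

theorem ofV_add (u v : ι → F) : ofV Q X hX (u + v) = ofV Q X hX u + ofV Q X hX v := rfl

theorem toV_smul (z : K) (v : VK Q X hX) :
    toV Q X hX (z • v) = Q.c0 z • toV Q X hX v + Q.c1 z • X *ᵥ toV Q X hX v := rfl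

theorem algebraMap_smul_eq (t : F) (v : VK Q X hX) :
    toV Q X hX ((algebraMap F K t) • v) = t • toV Q X hX v := by
  rw [toV_smul, c0_algebraMap, c1_algebraMap]; simp

theorem theta_smul_eq (v : VK Q X hX) : toV Q X hX (Q.θ • v) = X *ᵥ toV Q X hX v := by
  rw [toV_smul, c0_theta, c1_theta]; simp

end space

end Cfsg.Agent.Lib.Helper6.FpfSp
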