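import Mathlib
import Cfsg.Agent.Lib.Helper6.FpfSp1

set_option autoImplicit false
set_option linter.unusedSectionVars false
set_option linter.unusedVariables false
set_option linter.unusedSimpArgs false
set_option linter.unnecessarySeqFocus false

/-! Fixed-point-free elements of order three in the symplectic group: the hermitian form and
the adapted coordinates. -/

namespace Cfsg.Agent.Lib.Helper6.FpfSp

open Cfsg Cfsg.Agent.Lib.Helper4.ScalarRes Matrix
open Cfsg.Agent.Lib.Helper5.SympTv Cfsg.Agent.Lib.Helper5.SympBridge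

section form

variable {F K : Type*} [Field F] [Field K] [Algebra F K] {q : ℕ} (Q : QD F K q (-1) 1)
variable {m : ℕ} (X : Matrix (Fin m ⊕ Fin m) (Fin m ⊕ Fin m) F) (hX : X * X + X + 1 = 0)
  (hXs : ∀ u v, sympForm m F (X *ᵥ u) (X *ᵥ v) = sympForm m F u v)

/-- the hermitian form on plain vectors -/
noncomputable def hf (u v : Fin m ⊕ Fin m → F) : K :=
  Q.e (sympForm m F (X *ᵥ u) v + sympForm m F u v, sympForm m F u v)

theorem c1_hf (u v : Fin m ⊕ Fin m → F) : Q.c1 (hf Q X u v) = sympForm m F u v := by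
  unfold hf; rw [QD.c1_e]

theorem hf_add_left (u u' v : Fin m ⊕ Fin m → F) :
    hf Q X (u + u') v = hf Q X u v + hf Q X u' v := by
  unfold hf
  rw [mulVec_add, sympForm_add_left, sympForm_add_left, ← e_mk_add]
  congr 1
  rw [Prod.mk.injEq]
  constructor <;> ring

theorem hf_add_right (u v v' : Fin m ⊕ Fin m → F) :
    hf Q X u (v + v') = hf Q X u v + hf Q X u v' := by
  unfold hf
  rw [sympForm_add_right, sympForm_add_right, ← e_mk_add]
  congr 1
  rw [Prod.mk.injEq]
  constructor <;> ring

theorem hf_smul_left (t : F) (u v : Fin m ⊕ Fin m → F) :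
    hf Q X (t • u) v = algebraMap F K t * hf Q X u v := by
  unfold hf
  rw [mulVec_smul, sympForm_smul_left, sympForm_smul_left, ← e_smul]
  congr 1
  rw [Prod.mk.injEq]
  constructor <;> ring

theorem hf_smul_right (t : F) (u v : Fin m ⊕ Fin m → F) :
    hf Q X u (t • v) = algebraMap F K t * hf Q X u v := by
  unfold hf
  rw [sympForm_smul_right, sympForm_smul_right, ← e_smul]
  congr 1
  rw [Prod.mk.injEq]
  constructor <;> ring

theorem S_X2_left (a b v : Fin m ⊕ Fin m → F) :
    sympForm m F (-a - b) v = -sympForm m F a v - sympForm m F b v := by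
  simp only [← sympBilin_apply, map_sub, map_neg, LinearMap.sub_apply, LinearMap.neg_apply]

include hX in
theorem hf_X_left (u v : Fin m ⊕ Fin m → F) : hf Q X (X *ᵥ u) v = Q.θ * hf Q X u v := by
  unfold hf
  rw [theta_mul_e, X_sq_mulVec X hX, S_X2_left]
  congr 1
  rw [Prod.mk.injEq]
  constructor <;> ring

include hX hXs in
theorem S_right_X (u v : Fin m ⊕ Fin m → F) :
    sympForm m F u (X *ᵥ v) = -sympForm m F (X *ᵥ u) v - sympForm m F u v := by
  have h := hXs (-(X *ᵥ u) - u) v
  have hw : X *ᵥ (-(X *ᵥ u) - u) = u := by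
    rw [mulVec_sub, mulVec_neg, X_sq_mulVec X hX]; abel
  rw [hw] at h
  rw [h, S_X2_left]

include hX hXs in
theorem hf_X_right (u v : Fin m ⊕ Fin m → F) : hf Q X u (X *ᵥ v) = Q.fr Q.θ * hf Q X u v := by
  unfold hf
  rw [fr_theta_mul_e, hXs, S_right_X X hX hXs]
  congr 1
  rw [Prod.mk.injEq]
  constructor <;> ring

include hX hXs in
theorem hf_symm (u v : Fin m ⊕ Fin m → F) : Q.fr (hf Q X u v) = hf Q X v u := by
  unfold hf
  rw [fr_e', sympForm_swap m (X *ᵥ v) u, S_right_X X hX hXs, sympForm_swap m v u]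
  congr 1
  rw [Prod.mk.injEq]
  constructor <;> ring

/-- the hermitian form on the space over the extension -/
noncomputable def hK (u v : VK Q X hX) : K := hf Q X (toV Q X hX u) (toV Q X hX v)

theorem hK_smul_left (z : K) (u v : VK Q X hX) : hK Q X hX (z • u) v = z * hK Q X hX u v := by
  unfold hK
  rw [toV_smul, hf_add_left, hf_smul_left, hf_smul_left, hf_X_left Q X hX]
  conv_rhs => rw [← Q.e_c z, QD.e_apply]
  ring

include hXs in
theorem hK_smul_right (z : K) (u v : VK Q X hX) :
    hK Q X hX u (z • v) = Q.fr z * hK Q X hX u v := by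
  unfold hK
  rw [toV_smul, hf_add_right, hf_smul_right, hf_smul_right, hf_X_right Q X hX hXs]
  conv_rhs => rw [← Q.e_c z, Q.fr_e]
  rw [fr_theta]
  simp only [map_neg, map_one]
  ring

/-- the sesquilinear map, semilinear in the first variable -/
noncomputable def BK : VK Q X hX →ₛₗ[Q.fr] VK Q X hX →ₗ[K] K :=
  LinearMap.mk₂'ₛₗ Q.fr (RingHom.id K) (fun u v => hK Q X hX v u)
    (fun u u' v => hf_add_right Q X _ _ _)
    (fun c u v => by rw [smul_eq_mul]; exact hK_smul_right Q X hX hXs c v u)
    (fun u v v' => hf_add_left Q X _ _ _)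
    (fun c u v => by rw [RingHom.id_apply, smul_eq_mul]; exact hK_smul_left Q X hX c v u)

theorem BK_apply (u v : VK Q X hX) : BK Q X hX hXs u v = hK Q X hX v u := rfl

theorem BK_isSymm : (BK Q X hX hXs).IsSymm :=
  ⟨fun u v => by rw [BK_apply, BK_apply]; exact hf_symm Q X hX hXs _ _⟩

theorem BK_nondegenerate : (BK Q X hX hXs).Nondegenerate := by
  constructor
  · intro u hu
    have h1 : ∀ v, sympForm m F (toV Q X hX u) v = 0 := by
      intro v
      have := hu (ofV Q X hX v)
      rw [BK_apply] at this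
      have h2 := congrArg Q.c1 this
      unfold hK at h2
      rw [c1_hf, QD.c1_zero, toV_ofV, sympForm_swap] at h2
      exact neg_eq_zero.mp h2
    exact eq_zero_of_sympForm_right m _ h1
  · intro u hu
    have h1 : ∀ v, sympForm m F (toV Q X hX u) v = 0 := by
      intro v
      have := hu (ofV Q X hX v)
      rw [BK_apply] at this
      have h2 := congrArg Q.c1 this
      unfold hK at h2
      rw [c1_hf, QD.c1_zero, toV_ofV] at h2
      exact h2
    exact eq_zero_of_sympForm_right m _ h1

end form

end Cfsg.Agent.Lib.Helper6.FpfSp
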