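import Mathlib
import Cfsg.Agent.Lib.Helper6.FpfSp2

set_option autoImplicit false
set_option linter.unusedSectionVars false
set_option linter.unusedVariables false
set_option linter.unusedSimpArgs false
set_option linter.unnecessarySeqFocus false

/-! Fixed-point-free elements of order three in the symplectic group: adapted coordinates. -/

namespace Cfsg.Agent.Lib.Helper6.FpfSp

open Cfsg Cfsg.Agent.Lib.Helper4.ScalarRes Matrix
open Cfsg.Agent.Lib.Helper5.SympTv Cfsg.Agent.Lib.Helper5.SympBridge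

section coordsT

variable {F K : Type*} [Field F] [Field K] [Algebra F K] {q : ℕ} (Q : QD F K q (-1) 1)
variable {m : ℕ} (X : Matrix (Fin m ⊕ Fin m) (Fin m ⊕ Fin m) F) (hX : X * X + X + 1 = 0)
  (hXs : ∀ u v, sympForm m F (X *ᵥ u) (X *ᵥ v) = sympForm m F u v)

theorem finrank_VK [Fintype F] [Fintype K] (hF : Fintype.card F = q)
    (hK : Fintype.card K = q ^ 2) : Module.finrank K (VK Q X hX) = m := by
  have h1 : Nat.card (VK Q X hX) = q ^ (2 * m) := by
    show Nat.card (Fin m ⊕ Fin m → F) = _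
    rw [Nat.card_fun, Nat.card_eq_fintype_card, Nat.card_eq_fintype_card, hF, Fintype.card_sum,
      Fintype.card_fin, two_mul]
  have h2 := Module.card_eq_pow_finrank (K := K) (V := VK Q X hX)
  rw [← Nat.card_eq_fintype_card, h1, hK, ← pow_mul] at h2
  have hq : 2 ≤ q := by
    rw [← hF]; exact Fintype.one_lt_card
  have := Nat.pow_right_injective hq h2
  omega

variable (b : Module.Basis (Fin m) K (VK Q X hX))

/-- the adapted coordinates -/
noncomputable def Tmap : (Fin m ⊕ Fin m → F) ≃ₗ[F] (Fin m → K) where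
  toFun v := b.equivFun (ofV Q X hX v)
  invFun a := toV Q X hX (b.equivFun.symm a)
  left_inv v := by
    show toV Q X hX (b.equivFun.symm (b.equivFun (ofV Q X hX v))) = v
    rw [LinearEquiv.symm_apply_apply, toV_ofV]
  right_inv a := by
    show b.equivFun (ofV Q X hX (toV Q X hX (b.equivFun.symm a))) = a
    rw [ofV_toV, LinearEquiv.apply_symm_apply]
  map_add' u v := by rw [ofV_add, map_add]
  map_smul' t v := by
    have h1 : ofV Q X hX (t • v) = (algebraMap F K t) • ofV Q X hX v :=
      (algebraMap_smul_eq Q X hX t (ofV Q X hX v)).symm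
    rw [h1, map_smul]
    funext i
    simp [Algebra.smul_def]

theorem Tmap_apply (v : Fin m ⊕ Fin m → F) : Tmap Q X hX b v = b.equivFun (ofV Q X hX v) := rfl

theorem Tmap_X (v : Fin m ⊕ Fin m → F) : Tmap Q X hX b (X *ᵥ v) = Q.θ • Tmap Q X hX b v := by
  rw [Tmap_apply, Tmap_apply, ← map_smul]
  congr 1
  exact (theta_smul_eq Q X hX (ofV Q X hX v)).symm

theorem herm_Tmap (hb : ∀ i j, BK Q X hX hXs (b i) (b j) = if i = j then 1 else 0)
    (u v : Fin m ⊕ Fin m → F) :
    hermForm m K q (Tmap Q X hX b u) (Tmap Q X hX b v) = hf Q X u v := by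
  have hu := b.sum_equivFun (ofV Q X hX u)
  have hv := b.sum_equivFun (ofV Q X hX v)
  have h0 : hf Q X u v = BK Q X hX hXs (ofV Q X hX v) (ofV Q X hX u) := rfl
  rw [h0]
  conv_rhs => rw [← hu, ← hv]
  rw [map_sum]
  unfold hermForm
  apply Finset.sum_congr rfl
  intro j _
  rw [map_smul, map_sum, LinearMap.sum_apply, Finset.sum_eq_single j]
  · rw [LinearMap.map_smulₛₗ, LinearMap.smul_apply, hb, if_pos rfl, smul_eq_mul, smul_eq_mul,
      mul_one, Q.hfr]
    rfl
  · intro i _ hij
    rw [LinearMap.map_smulₛₗ, LinearMap.smul_apply, hb, if_neg hij, smul_zero]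
  · intro h; exact absurd (Finset.mem_univ j) h

theorem symp_eq_c1_herm (hb : ∀ i j, BK Q X hX hXs (b i) (b j) = if i = j then 1 else 0)
    (u v : Fin m ⊕ Fin m → F) :
    sympForm m F u v = Q.c1 (hermForm m K q (Tmap Q X hX b u) (Tmap Q X hX b v)) := by
  rw [herm_Tmap Q X hX hXs b hb, c1_hf]

end coordsT

end Cfsg.Agent.Lib.Helper6.FpfSp
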