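import Mathlib
import Cfsg.Agent.Lib.Helper6.FpfSp3

set_option autoImplicit false
set_option linter.unusedSectionVars false
set_option linter.unusedVariables false
set_option linter.unusedSimpArgs false
set_option linter.unnecessarySeqFocus false

/-! Fixed-point-free elements of order three in the symplectic group: the centraliser is a
unitary group. -/

namespace Cfsg.Agent.Lib.Helper6.FpfSp

open Cfsg Cfsg.Agent.Lib.Helper4.ScalarRes Matrix
open Cfsg.Agent.Lib.Helper5.SympTv Cfsg.Agent.Lib.Helper5.SympBridge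

section group

variable {F K : Type*} [Field F] [Field K] [Algebra F K] {q : ℕ} (Q : QD F K q (-1) 1)
variable {m : ℕ} (X : Matrix (Fin m ⊕ Fin m) (Fin m ⊕ Fin m) F) (hX : X * X + X + 1 = 0)
  (hXs : ∀ u v, sympForm m F (X *ᵥ u) (X *ᵥ v) = sympForm m F u v)

theorem exists_adapted_basis [Fintype F] [Fintype K] (hF : Fintype.card F = q)
    (hK : Fintype.card K = q ^ 2) :
    ∃ b : Module.Basis (Fin m) K (VK Q X hX),
      ∀ i j, BK Q X hX hXs (b i) (b j) = if i = j then 1 else 0 := by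
  obtain ⟨b, hb⟩ := Cfsg.Agent.Lib.Helper5.HermBasis.exists_orthonormal_basis (fr_ne_id Q)
    (fr_fr Q) (BK Q X hX hXs) (BK_isSymm Q X hX hXs) (BK_nondegenerate Q X hX hXs)
  have hr := finrank_VK Q X hX hF hK
  refine ⟨b.reindex (finCongr hr), ?_⟩
  intro i j
  rw [Module.Basis.reindex_apply, Module.Basis.reindex_apply, hb]
  simp

variable (b : Module.Basis (Fin m) K (VK Q X hX))
  (hb : ∀ i j, BK Q X hX hXs (b i) (b j) = if i = j then 1 else 0)

include hb in
theorem conj_mem_symp (A : Matrix (Fin m) (Fin m) K)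
    (hA : ∀ u v, hermForm m K q (A *ᵥ u) (A *ᵥ v) = hermForm m K q u v) :
    conjMat (Tmap Q X hX b) A ∈ symplecticGroup (Fin m) F := by
  rw [mem_symplectic_iff]
  intro u v
  rw [symp_eq_c1_herm Q X hX hXs b hb, symp_eq_c1_herm Q X hX hXs b hb, conjMat_mulVec,
    conjMat_mulVec, hA]

theorem conj_comm (A : Matrix (Fin m) (Fin m) K) :
    conjMat (Tmap Q X hX b) A * X = X * conjMat (Tmap Q X hX b) A := by
  apply Matrix.toLin'.injective
  apply LinearMap.ext
  intro u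
  apply (Tmap Q X hX b).injective
  rw [toLin'_apply, toLin'_apply, ← mulVec_mulVec, ← mulVec_mulVec, conjMat_mulVec, Tmap_X,
    Tmap_X, conjMat_mulVec, mulVec_smul]

/-- a matrix commuting with `X`, as a linear map over the extension -/
noncomputable def gK (G : Matrix (Fin m ⊕ Fin m) (Fin m ⊕ Fin m) F) (hG : X * G = G * X) :
    VK Q X hX →ₗ[K] VK Q X hX where
  toFun v := ofV Q X hX (G *ᵥ toV Q X hX v)
  map_add' u v := by
    rw [toV_add, mulVec_add, ofV_add]
  map_smul' z v := by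
    show (G *ᵥ (Q.c0 z • toV Q X hX v + Q.c1 z • X *ᵥ toV Q X hX v) : Fin m ⊕ Fin m → F) =
      Q.c0 z • (G *ᵥ toV Q X hX v) + Q.c1 z • X *ᵥ (G *ᵥ toV Q X hX v)
    rw [mulVec_add, mulVec_smul, mulVec_smul, mulVec_mulVec, mulVec_mulVec, hG]

theorem gK_apply (G : Matrix (Fin m ⊕ Fin m) (Fin m ⊕ Fin m) F) (hG : X * G = G * X)
    (v : VK Q X hX) : gK Q X hX G hG v = ofV Q X hX (G *ᵥ toV Q X hX v) := rfl

include hX hXs in
theorem hf_G (G : Matrix (Fin m ⊕ Fin m) (Fin m ⊕ Fin m) F) (hG : X * G = G * X)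
    (hGs : ∀ u v, sympForm m F (G *ᵥ u) (G *ᵥ v) = sympForm m F u v)
    (u v : Fin m ⊕ Fin m → F) : hf Q X (G *ᵥ u) (G *ᵥ v) = hf Q X u v := by
  unfold hf
  rw [mulVec_mulVec, hG, ← mulVec_mulVec, hGs, hGs]

end group

section main

variable {F K : Type*} [Field F] [Field K] [Algebra F K] {q : ℕ} (Q : QD F K q (-1) 1)
variable [Fintype F] [Fintype K] (hF : Fintype.card F = q) (hK : Fintype.card K = q ^ 2)
variable {m : ℕ} (x : symplecticGroup (Fin m) F)
  (hX : (x : Matrix (Fin m ⊕ Fin m) (Fin m ⊕ Fin m) F) * x + x + 1 = 0)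

theorem hXs_of_mem (u v : Fin m ⊕ Fin m → F) :
    sympForm m F ((x : Matrix (Fin m ⊕ Fin m) (Fin m ⊕ Fin m) F) *ᵥ u)
      ((x : Matrix (Fin m ⊕ Fin m) (Fin m ⊕ Fin m) F) *ᵥ v) = sympForm m F u v :=
  sympForm_mulVec m x.2 u v

variable (b : Module.Basis (Fin m) K (VK Q (x : Matrix (Fin m ⊕ Fin m) (Fin m ⊕ Fin m) F) hX))
  (hb : ∀ i j, BK Q (x : Matrix (Fin m ⊕ Fin m) (Fin m ⊕ Fin m) F) hX (hXs_of_mem x) (b i) (b j) =
    if i = j then 1 else 0)

/-- the map from the unitary group to the centraliser -/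
noncomputable def Phi (A : ↥(Cfsg.GU m K q)) :
    ↥(Subgroup.centralizer ({x} : Set ↥(symplecticGroup (Fin m) F))) :=
  ⟨⟨conjMat (Tmap Q _ hX b) ((A : GL (Fin m) K) : Matrix (Fin m) (Fin m) K),
      conj_mem_symp Q _ hX (hXs_of_mem x) b hb _ (fun u v => A.2 u v)⟩, by
    rw [Subgroup.mem_centralizer_iff]
    intro y hy
    rw [Set.mem_singleton_iff] at hy
    subst hy
    apply Subtype.ext
    exact (conj_comm Q _ hX b _).symm⟩

theorem Phi_val (A : ↥(Cfsg.GU m K q)) :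
    (((Phi Q x hX b hb A : ↥(Subgroup.centralizer ({x} : Set ↥(symplecticGroup (Fin m) F)))) :
      ↥(symplecticGroup (Fin m) F)) : Matrix (Fin m ⊕ Fin m) (Fin m ⊕ Fin m) F) =
      conjMat (Tmap Q _ hX b) ((A : GL (Fin m) K) : Matrix (Fin m) (Fin m) K) := rfl

theorem Phi_injective : Function.Injective (Phi Q x hX b hb) := by
  intro A A' h
  have h1 := congrArg (fun g : ↥(Subgroup.centralizer ({x} : Set ↥(symplecticGroup (Fin m) F))) =>
    ((g : ↥(symplecticGroup (Fin m) F)) : Matrix (Fin m ⊕ Fin m) (Fin m ⊕ Fin m) F)) h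
  simp only [Phi_val] at h1
  apply Subtype.ext
  apply Units.ext
  exact conjMat_injective _ h1

theorem Phi_surjective : Function.Surjective (Phi Q x hX b hb) := by
  intro g
  obtain ⟨G, hGdef⟩ : ∃ G : Matrix (Fin m ⊕ Fin m) (Fin m ⊕ Fin m) F,
    G = ((g : ↥(symplecticGroup (Fin m) F)) : Matrix (Fin m ⊕ Fin m) (Fin m ⊕ Fin m) F) := ⟨_, rfl⟩
  have hGs : ∀ u v, sympForm m F (G *ᵥ u) (G *ᵥ v) = sympForm m F u v := by
    intro u v; rw [hGdef]; exact sympForm_mulVec m (g : ↥(symplecticGroup (Fin m) F)).2 u v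
  have hG : (x : Matrix (Fin m ⊕ Fin m) (Fin m ⊕ Fin m) F) * G =
      G * (x : Matrix (Fin m ⊕ Fin m) (Fin m ⊕ Fin m) F) := by
    have := (Subgroup.mem_centralizer_iff.mp g.2) x (Set.mem_singleton x)
    have h2 := congrArg (fun y : ↥(symplecticGroup (Fin m) F) =>
      (y : Matrix (Fin m ⊕ Fin m) (Fin m ⊕ Fin m) F)) this
    rw [hGdef]
    exact h2
  -- invertibility
  have hGinv : ∀ w, G *ᵥ w = 0 → w = 0 := by
    intro w hw
    have h1 : ((g : ↥(symplecticGroup (Fin m) F))⁻¹ * (g : ↥(symplecticGroup (Fin m) F)) :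
      ↥(symplecticGroup (Fin m) F)) = 1 := inv_mul_cancel _
    have h2 := congrArg (fun y : ↥(symplecticGroup (Fin m) F) =>
      (y : Matrix (Fin m ⊕ Fin m) (Fin m ⊕ Fin m) F)) h1
    simp only [Submonoid.coe_mul, Submonoid.coe_one] at h2
    have h3 := congrArg (fun M => M *ᵥ w) h2
    simp only [← mulVec_mulVec, one_mulVec] at h3
    rw [← hGdef, hw, mulVec_zero] at h3
    exact h3.symm
  set X := (x : Matrix (Fin m ⊕ Fin m) (Fin m ⊕ Fin m) F) with hXdef
  -- the linear map over the extension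
  let L0 : (Fin m → K) →ₗ[K] (Fin m → K) :=
    (b.equivFun : VK Q X hX →ₗ[K] (Fin m → K)) ∘ₗ gK Q X hX G hG ∘ₗ
      (b.equivFun.symm : (Fin m → K) →ₗ[K] VK Q X hX)
  have hL0 : ∀ u, L0 (Tmap Q X hX b u) = Tmap Q X hX b (G *ᵥ u) := by
    intro u
    show b.equivFun (gK Q X hX G hG (b.equivFun.symm (b.equivFun (ofV Q X hX u)))) = _
    rw [LinearEquiv.symm_apply_apply, gK_apply, toV_ofV]
    rfl
  have hinj : Function.Injective L0 := by
    rw [← LinearMap.ker_eq_bot, LinearMap.ker_eq_bot']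
    intro a ha
    obtain ⟨u, rfl⟩ := (Tmap Q X hX b).surjective a
    rw [hL0] at ha
    have h1 : G *ᵥ u = 0 := by
      apply (Tmap Q X hX b).injective
      rw [ha, map_zero]
    rw [hGinv u h1, map_zero]
  let L := LinearEquiv.ofInjectiveEndo L0 hinj
  have hL : ∀ a, L a = L0 a := fun a => rfl
  have hherm : ∀ a c, hermForm m K q (L a) (L c) = hermForm m K q a c := by
    intro a c
    obtain ⟨u, rfl⟩ := (Tmap Q X hX b).surjective a
    obtain ⟨v, rfl⟩ := (Tmap Q X hX b).surjective c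
    rw [hL, hL, hL0, hL0, herm_Tmap Q X hX (hXs_of_mem x) b hb,
      herm_Tmap Q X hX (hXs_of_mem x) b hb, hf_G Q X hX (hXs_of_mem x) G hG hGs]
  obtain ⟨A, hA⟩ := Cfsg.Agent.Lib.Helper5.HermBridge.exists_GU_of_isometry m L hherm
  refine ⟨A, ?_⟩
  apply Subtype.ext
  apply Subtype.ext
  rw [Phi_val, ← hGdef]
  apply Matrix.toLin'.injective
  apply LinearMap.ext
  intro u
  apply (Tmap Q X hX b).injective
  rw [toLin'_apply, toLin'_apply, conjMat_mulVec, hA, hL, hL0]

include Q hX b hb in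
theorem card_centralizer_eq :
    Nat.card ↥(Subgroup.centralizer ({x} : Set ↥(symplecticGroup (Fin m) F))) =
      Nat.card ↥(Cfsg.GU m K q) :=
  (Nat.card_congr (Equiv.ofBijective (Phi Q x hX b hb)
    ⟨Phi_injective Q x hX b hb, Phi_surjective Q x hX b hb⟩)).symm

end main

end Cfsg.Agent.Lib.Helper6.FpfSp
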