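import Mathlib
import Cfsg.Agent.Lib.Helper6.FpfSp4

set_option autoImplicit false
set_option linter.unusedSectionVars false
set_option linter.unusedVariables false
set_option linter.unusedSimpArgs false
set_option linter.unnecessarySeqFocus false

/-! Fixed-point-free elements of order three in the symplectic group: the order of the
centraliser. -/

namespace Cfsg.Agent.Lib.Helper6.FpfSp

open Cfsg Cfsg.Agent.Lib.Helper4.ScalarRes Matrix

theorem no_cube_root {F : Type*} [Field F] [Fintype F] {q : ℕ} (hF : Fintype.card F = q)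
    (hq : q % 3 = 2) (s : F) (hs : s ^ 2 + s + 1 = 0) : False := by
  have hs0 : s ≠ 0 := by
    rintro rfl
    simp at hs
  have hs3 : s ^ 3 = 1 := by linear_combination (s - 1) * hs
  have h1 := FiniteField.pow_card_sub_one_eq_one s hs0
  rw [hF] at h1
  obtain ⟨k, hk⟩ : ∃ k, q - 1 = 3 * k + 1 := ⟨(q - 1) / 3, by omega⟩
  rw [hk, pow_add, pow_mul, hs3, one_pow, one_mul, pow_one] at h1
  subst h1
  have h3 : (3 : F) = 0 := by linear_combination hs
  have hq0 : ((q : ℕ) : F) = 0 := by rw [← hF]; exact FiniteField.cast_card_eq_zero F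
  obtain ⟨j, hj⟩ : ∃ j, q = 3 * j + 2 := ⟨q / 3, by omega⟩
  rw [hj] at hq0
  push_cast at hq0
  have h2 : (2 : F) = 0 := by linear_combination hq0 - (j : F) * h3
  have : (1 : F) = 0 := by linear_combination h3 - h2
  exact one_ne_zero this

theorem aniso {F : Type*} [Field F] [Fintype F] {q : ℕ} (hF : Fintype.card F = q)
    (hq : q % 3 = 2) :
    ∀ z₁ z₂ : F, z₁ ^ 2 + (-1) * z₁ * z₂ + 1 * z₂ ^ 2 = 0 → z₁ = 0 ∧ z₂ = 0 := by
  intro z₁ z₂ h
  by_cases hz : z₂ = 0
  · subst hz
    refine ⟨?_, rfl⟩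
    have : z₁ ^ 2 = 0 := by linear_combination h
    exact pow_eq_zero_iff (two_ne_zero) |>.mp this
  · exfalso
    apply no_cube_root hF hq (-z₁ / z₂)
    field_simp
    linear_combination h

theorem exists_ext {F : Type*} [Field F] [Fintype F] {q : ℕ} (hF : Fintype.card F = q) :
    ∃ (K : Type) (_ : Field K) (_ : Fintype K), Fintype.card K = q ^ 2 := by
  obtain ⟨p, _, n, hp, hpn⟩ := FiniteField.card' F
  have : Fact p.Prime := Fact.mk hp
  have hn : 2 * (n : ℕ) ≠ 0 := by have := n.pos; omega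
  let _ : Fintype (GaloisField p (2 * n)) := Fintype.ofFinite _
  refine ⟨GaloisField p (2 * n), inferInstance, inferInstance, ?_⟩
  rw [← Nat.card_eq_fintype_card, GaloisField.card p (2 * n) hn, ← hF, hpn, ← pow_mul, mul_comm]

theorem quad_of_cube {n : Type*} [Fintype n] [DecidableEq n] {F : Type*} [Field F]
    (X : Matrix n n F) (h3 : X ^ 3 = 1) (hu : IsUnit (X - 1)) : X * X + X + 1 = 0 := by
  have h : (X - 1) * (X * X + X + 1) = 0 := by
    have : (X - 1) * (X * X + X + 1) = X ^ 3 - 1 := by noncomm_ring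
    rw [this, h3, sub_self]
  exact (hu.mul_right_eq_zero).mp h

/-- the order of the centraliser of a fixed-point-free element of order three -/
theorem card_centralizer {F : Type*} [Field F] [Fintype F] {q : ℕ} (hF : Fintype.card F = q)
    (hq : q % 3 = 2) {m : ℕ} (x : symplecticGroup (Fin m) F) (hx3 : x ^ 3 = 1)
    (hfpf : IsUnit ((x : Matrix (Fin m ⊕ Fin m) (Fin m ⊕ Fin m) F) - 1)) :
    Nat.card ↥(Subgroup.centralizer ({x} : Set ↥(symplecticGroup (Fin m) F))) =
      q ^ (m * (m - 1) / 2) *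
        ∏ i ∈ Finset.range m, (if Even i then q ^ (i + 1) + 1 else q ^ (i + 1) - 1) := by
  obtain ⟨K, _, _, hK⟩ := exists_ext hF
  obtain ⟨inst, ⟨Q⟩⟩ := exists_QD hF hK (-1) 1 (aniso hF hq)
  have hX3 : (x : Matrix (Fin m ⊕ Fin m) (Fin m ⊕ Fin m) F) ^ 3 = 1 := by
    have := congrArg (fun y : ↥(symplecticGroup (Fin m) F) =>
      (y : Matrix (Fin m ⊕ Fin m) (Fin m ⊕ Fin m) F)) hx3
    simpa using this
  have hX := quad_of_cube _ hX3 hfpf
  obtain ⟨b, hb⟩ := exists_adapted_basis Q _ hX (hXs_of_mem x) hF hK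
  rw [card_centralizer_eq Q x hX b hb]
  exact Cfsg.Agent.Lib.Helper5.HermCard.card_GU hK m

end Cfsg.Agent.Lib.Helper6.FpfSp
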