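import Mathlib

/-!
# Field of values criterion: algebraic preliminaries

Pointwise fixed fields of automorphisms of `ℂ`, reduction of integer polynomial values at the two
roots of a quadratic, geometric sums of roots of unity.
-/

set_option autoImplicit false

namespace Cfsg.Agent.Lib.Helper6.Fv

open Polynomial

/-- a ring automorphism of `ℂ` fixing a set pointwise fixes the field it generates over `ℚ` -/
theorem adjoin_fix (σ : ℂ ≃+* ℂ) (V : Set ℂ) (hV : ∀ v ∈ V, σ v = v) :
    ∀ x ∈ IntermediateField.adjoin ℚ V, σ x = x := by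
  intro x hx
  refine IntermediateField.adjoin_induction ℚ (p := fun x _ => σ x = x) ?_ ?_ ?_ ?_ ?_ hx
  · intro v hv
    exact hV v hv
  · intro q
    simp
  · intro a b _ _ ha hb
    rw [map_add, ha, hb]
  · intro a _ ha
    rw [map_inv₀, ha]
  · intro a b _ _ ha hb
    rw [map_mul, ha, hb]

/-- values of an integer polynomial at the two roots `z, z'` of a quadratic with coefficients in a
field `K` are of the form `U + V z`, `U + V z'` with `U, V ∈ K` -/
theorem quad_reduce (K : IntermediateField ℚ ℂ) (z z' : ℂ) (hθ : z + z' ∈ K) (hε : z * z' ∈ K)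
    (P : Polynomial ℤ) :
    ∃ U ∈ K, ∃ V ∈ K, aeval z P = U + V * z ∧ aeval z' P = U + V * z' := by
  refine Polynomial.induction_on (motive := fun P : Polynomial ℤ =>
    ∃ U ∈ K, ∃ V ∈ K, aeval z P = U + V * z ∧ aeval z' P = U + V * z') P ?_ ?_ ?_
  · intro a
    refine ⟨(a : ℂ), intCast_mem K a, 0, K.zero_mem, ?_, ?_⟩
    · simp
    · simp
  · rintro p q ⟨U, hU, V, hV, h1, h2⟩ ⟨U', hU', V', hV', h1', h2'⟩
    refine ⟨U + U', K.add_mem hU hU', V + V', K.add_mem hV hV', ?_, ?_⟩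
    · rw [map_add, h1, h1']
      ring
    · rw [map_add, h2, h2']
      ring
  · rintro n a ⟨U, hU, V, hV, h1, h2⟩
    refine ⟨-(z * z') * V, K.mul_mem (K.neg_mem hε) hV, U + (z + z') * V,
      K.add_mem hU (K.mul_mem hθ hV), ?_, ?_⟩
    · have e : aeval z (C a * X ^ (n + 1)) = aeval z (C a * X ^ n) * z := by
        simp only [map_mul, map_pow, aeval_X, pow_succ]
        ring
      rw [e, h1]
      ring
    · have e : aeval z' (C a * X ^ (n + 1)) = aeval z' (C a * X ^ n) * z' := by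
        simp only [map_mul, map_pow, aeval_X, pow_succ]
        ring
      rw [e, h2]
      ring

/-- geometric sums of powers of a root of unity -/
theorem geom_sum_root {ζ : ℂ} {N : ℕ} (hζ : ζ ^ N = 1) (k : ℕ) :
    ∑ i ∈ Finset.range N, (ζ ^ k) ^ i = if ζ ^ k = 1 then (N : ℂ) else 0 := by
  split_ifs with h
  · rw [h]
    simp
  · have h1 : (ζ ^ k) ^ N = 1 := by
      rw [← pow_mul, mul_comm, pow_mul, hζ, one_pow]
    have h2 := geom_sum_mul (ζ ^ k) N
    rw [h1, sub_self] at h2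
    rcases mul_eq_zero.mp h2 with h3 | h3
    · exact h3
    · exact absurd (sub_eq_zero.mp h3) h

/-- the Fourier coefficients of the values of an integer polynomial at the powers of a root of
unity are integers -/
theorem geom_int {ζ : ℂ} {N : ℕ} (hζ : ζ ^ N = 1) (r : ℕ) (P : Polynomial ℤ) :
    ∃ c : ℤ, ∑ i ∈ Finset.range N, aeval (ζ ^ i) P * (ζ ^ r) ^ i = (N : ℂ) * c := by
  refine Polynomial.induction_on' (motive := fun P : Polynomial ℤ =>
    ∃ c : ℤ, ∑ i ∈ Finset.range N, aeval (ζ ^ i) P * (ζ ^ r) ^ i = (N : ℂ) * c) P ?_ ?_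
  · rintro p q ⟨c, hc⟩ ⟨d, hd⟩
    refine ⟨c + d, ?_⟩
    simp only [map_add, add_mul, Finset.sum_add_distrib, hc, hd]
    push_cast
    ring
  · intro n a
    have key : ∀ i : ℕ, aeval (ζ ^ i) (monomial n a) * (ζ ^ r) ^ i = (a : ℂ) * (ζ ^ (n + r)) ^ i := by
      intro i
      rw [aeval_monomial]
      have e : (ζ ^ i) ^ n * (ζ ^ r) ^ i = (ζ ^ (n + r)) ^ i := by
        rw [← pow_mul, ← pow_mul, ← pow_mul, ← pow_add]
        congr 1
        ring
      rw [mul_assoc, e]
      simp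
    simp only [key]
    rw [← Finset.mul_sum, geom_sum_root hζ]
    split_ifs
    · exact ⟨a, by ring⟩
    · exact ⟨0, by simp⟩

/-- `t + t⁻¹ = s + s⁻¹` forces `t = s` or `t = s⁻¹` -/
theorem eq_or_eq_inv_of_add_inv {t s : ℂ} (ht : t ≠ 0) (hs : s ≠ 0) (h : t + t⁻¹ = s + s⁻¹) :
    t = s ∨ t = s⁻¹ := by
  have e1 : t * t⁻¹ = 1 := mul_inv_cancel₀ ht
  have e2 : s * s⁻¹ = 1 := mul_inv_cancel₀ hs
  have h1 : (t - s) * (t * s - 1) = 0 := by
    linear_combination (t * s) * h - s * e1 + t * e2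
  rcases mul_eq_zero.mp h1 with h2 | h2
  · left
    exact sub_eq_zero.mp h2
  · right
    exact eq_inv_of_mul_eq_one_left (sub_eq_zero.mp h2)

/-- `t - t⁻¹ = s - s⁻¹` forces `t = s` or `t s = -1` -/
theorem eq_or_mul_eq_neg_one_of_sub_inv {t s : ℂ} (ht : t ≠ 0) (hs : s ≠ 0)
    (h : t - t⁻¹ = s - s⁻¹) : t = s ∨ t * s = -1 := by
  have e1 : t * t⁻¹ = 1 := mul_inv_cancel₀ ht
  have e2 : s * s⁻¹ = 1 := mul_inv_cancel₀ hs
  have h1 : (t - s) * (t * s + 1) = 0 := by
    linear_combination (t * s) * h + s * e1 - t * e2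
  rcases mul_eq_zero.mp h1 with h2 | h2
  · left
    exact sub_eq_zero.mp h2
  · right
    exact eq_neg_of_add_eq_zero_left h2

/-- an element with square one is `1` or `-1` -/
theorem eq_one_or_neg_one_of_sq {t : ℂ} (h : t ^ 2 = 1) : t = 1 ∨ t = -1 := by
  have h1 : (t - 1) * (t + 1) = 0 := by
    linear_combination h
  rcases mul_eq_zero.mp h1 with h2 | h2
  · left
    exact sub_eq_zero.mp h2
  · right
    exact eq_neg_of_add_eq_zero_left h2

end Cfsg.Agent.Lib.Helper6.Fv
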