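import Mathlib
import Cfsg.Prelude.Def_Blocks
import Cfsg.Agent.Lib.Helper6.SubContribExp

set_option autoImplicit false
set_option linter.unusedSectionVars false
open Cfsg

namespace Cfsg.Agent.Lib.Helper6

open scoped ComplexConjugate

section poly

variable {G : Type*} [Group G] [Fintype G] [DecidableEq G]
variable {p : ℕ} {M : Ideal Cfsg.AlgInt}

theorem conj_eq_pow_of_pow_eq_one {η : ℂ} {N : ℕ} (hN : 0 < N) (h : η ^ N = 1) :
    conj η = η ^ (N - 1) := by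
  have hnorm : ‖η‖ = 1 := Complex.norm_eq_one_of_pow_eq_one h hN.ne'
  rw [← Complex.inv_eq_conj hnorm]
  have hη0 : η ≠ 0 := by
    intro h0
    rw [h0, zero_pow hN.ne'] at h
    exact zero_ne_one h
  apply inv_eq_of_mul_eq_one_right
  rw [← pow_succ', Nat.sub_add_cancel hN, h]

/-- the normalised contributions of the subsections `(u ^ j, b)` are the values of one integer
polynomial at the powers of a primitive root of unity -/
theorem exists_poly_subContrib (hM : Cfsg.IsPModular p M) [Fact p.Prime] (u : G) (N : ℕ)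
    (hN : 0 < N) (H : Subgroup G) [Fintype H] (zH : H) (hzH : (zH : G) = u)
    (hzc : ∀ h : H, zH * h = h * zH) (hzN : zH ^ N = 1)
    (ξ₀ : Cfsg.IrrCharacter H) (χ ψ : Cfsg.IrrCharacter G) (ζ₀ : ℂ)
    (hζ₀ : IsPrimitiveRoot ζ₀ N) :
    ∃ P : Polynomial ℤ, ∀ j : ℕ,
      Polynomial.aeval (ζ₀ ^ j) P = (p : ℂ) ^ Cfsg.blockDefect p (Cfsg.blockOf M (ξ₀ : H → ℂ))
        * subContrib p (u ^ j) H (Cfsg.blockOf M (ξ₀ : H → ℂ)) (χ : G → ℂ) (ψ : G → ℂ) := by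
  classical
  haveI : Fintype (Cfsg.IrrCharacter H) := Fintype.ofFinite _
  have hmult : ∀ Χ : Cfsg.IrrCharacter G, ∃ n : Cfsg.IrrCharacter H → ℕ,
      ∀ ξ : Cfsg.IrrCharacter H, Cfsg.classInner (resFun H (Χ : G → ℂ)) (ξ : H → ℂ) = n ξ := by
    intro Χ
    have hres : Cfsg.IsCharacter H (resFun H (Χ : G → ℂ)) :=
      IsCharacter.restrict H (IsIrrCharacter.isCharacter Χ.2)
    choose n hn using fun ξ : Cfsg.IrrCharacter H => IsCharacter.classInner_irr_nat hres ξ.2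
    exact ⟨n, hn⟩
  obtain ⟨nχ, hnχ⟩ := hmult χ
  obtain ⟨nψ, hnψ⟩ := hmult ψ
  obtain ⟨lam, hlamdef⟩ : ∃ lam : Cfsg.IrrCharacter H → ℂ,
      lam = fun (ξ : Cfsg.IrrCharacter H) => (ξ : H → ℂ) zH / (ξ : H → ℂ) 1 := ⟨_, rfl⟩
  have hlam : ∀ ξ : Cfsg.IrrCharacter H, lam ξ ^ N = 1 := by
    intro ξ
    rw [hlamdef]
    simp only
    rw [← IsIrrCharacter.apply_central_pow ξ.2 hzc, hzN,
      div_self (IsIrrCharacter.apply_one_ne_zero ξ.2)]
  have hex : ∀ ξ : Cfsg.IrrCharacter H, ∃ e : ℕ, ζ₀ ^ e = lam ξ := by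
    intro ξ
    haveI : NeZero N := ⟨hN.ne'⟩
    obtain ⟨e, _, he⟩ := hζ₀.eq_pow_of_pow_eq_one (hlam ξ)
    exact ⟨e, he⟩
  choose e he using hex
  refine ⟨∑ ξ ∈ Finset.univ.filter (· ∈ Cfsg.blockOf M (ξ₀ : H → ℂ)),
      ∑ ξ' ∈ Finset.univ.filter (· ∈ Cfsg.blockOf M (ξ₀ : H → ℂ)),
        Polynomial.C ((nχ ξ : ℤ) * (nψ ξ' : ℤ) * mH p (Cfsg.blockOf M (ξ₀ : H → ℂ)) ξ ξ')
          * Polynomial.X ^ (e ξ + (N - 1) * e ξ'), ?_⟩
  intro j
  -- the central element `u ^ j`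
  have hzHj : ((zH ^ j : H) : G) = u ^ j := by rw [Subgroup.coe_pow, hzH]
  have hzcj : ∀ h : H, zH ^ j * h = h * zH ^ j := by
    intro h
    have : Commute zH h := hzc h
    exact (this.pow_left j).eq
  have hηN : (ζ₀ ^ j) ^ N = 1 := by
    rw [← pow_mul, mul_comm, pow_mul, hζ₀.pow_eq_one, one_pow]
  have hA : ∀ (Χ : Cfsg.IrrCharacter G) (n : Cfsg.IrrCharacter H → ℕ),
      (∀ ξ : Cfsg.IrrCharacter H, Cfsg.classInner (resFun H (Χ : G → ℂ)) (ξ : H → ℂ) = n ξ) →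
      ∀ ξ : Cfsg.IrrCharacter H,
      Cfsg.classInner (fun c : H => (Χ : G → ℂ) (u ^ j * (c : G))) (ξ : H → ℂ)
        = (ζ₀ ^ j) ^ e ξ * (n ξ : ℂ) := by
    intro Χ n hn ξ
    rw [classInner_shift_eq (u ^ j) H (zH ^ j) hzHj hzcj, hn,
      IsIrrCharacter.apply_central_pow ξ.2 hzc]
    have : (ξ : H → ℂ) zH / (ξ : H → ℂ) 1 = lam ξ := by rw [hlamdef]
    rw [this, ← he ξ, ← pow_mul, ← pow_mul, mul_comm (e ξ) j]
  rw [subContrib_expand hM (u ^ j) H ξ₀ (χ : G → ℂ) (ψ : G → ℂ), map_sum]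
  apply Finset.sum_congr rfl
  intro ξ _
  rw [map_sum]
  apply Finset.sum_congr rfl
  intro ξ' _
  rw [hA χ nχ hnχ ξ, hA ψ nψ hnψ ξ']
  have hc : conj ((ζ₀ ^ j) ^ e ξ' * (nψ ξ' : ℂ)) = ((ζ₀ ^ j) ^ (N - 1)) ^ e ξ' * (nψ ξ' : ℂ) := by
    rw [map_mul, map_pow, Complex.conj_natCast, conj_eq_pow_of_pow_eq_one hN hηN]
  rw [hc]
  simp only [map_mul, Polynomial.aeval_C, map_pow, Polynomial.aeval_X, eq_intCast, Int.cast_mul,
    Int.cast_natCast, map_natCast, map_intCast]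
  rw [pow_add, pow_mul]
  ring

end poly

end Cfsg.Agent.Lib.Helper6
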