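import Mathlib
import Cfsg.Prelude.Def_Characters
import Cfsg.Agent.Lib.Helper6.Fv1
import Cfsg.Agent.Lib.Helper6.Decomp
import Cfsg.Agent.Lib.Helper6.Mult
import Cfsg.Agent.Lib.Helper6.BlkVanish
import Cfsg.Agent.Lib.Helper6.Constituent
import Cfsg.Agent.Lib.Helper6.RepBasic
import Cfsg.Agent.Lib.Helper6.SecondOrth
import Cfsg.Agent.Lib.Helper6.IrrBasis
import Cfsg.Agent.Lib.Helper6.SubContribPoly

/-!
# Field of values criterion: the character-theoretic part

The values of a character on the powers of an element `x` of order dividing `N` are the values of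
one integer polynomial at the powers of a primitive `N`-th root of unity.  If the only powers of
`x` conjugate to `x` are `x` and `x ^ m`, the field of values at `x` is `ℚ(ζ + ζ ^ m)`.
-/

set_option autoImplicit false

open Cfsg

namespace Cfsg.Agent.Lib.Helper6.Fv

open scoped ComplexConjugate

variable {G : Type*} [Group G] [Finite G]

/-- the values of a character at the powers of `x` are the values of an integer polynomial at the
powers of a primitive root of unity -/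
theorem exists_poly_char {χ : G → ℂ} (hχ : Cfsg.IsCharacter G χ) (x : G) {N : ℕ} (hN : 0 < N)
    (hx : x ^ N = 1) {ζ : ℂ} (hζ : IsPrimitiveRoot ζ N) :
    ∃ P : Polynomial ℤ, ∀ i : ℕ, χ (x ^ i) = Polynomial.aeval (ζ ^ i) P := by
  classical
  haveI : Fintype G := Fintype.ofFinite G
  obtain ⟨H, hH⟩ : ∃ H : Subgroup G, H = Subgroup.zpowers x := ⟨_, rfl⟩
  haveI : Fintype H := Fintype.ofFinite H
  haveI : Fintype (Cfsg.IrrCharacter H) := Fintype.ofFinite _
  have hres : Cfsg.IsCharacter H (fun h : H => χ h) := IsCharacter.restrict H hχ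
  obtain ⟨m, hm⟩ := IsCharacter.eq_sum_irr hres
  have hxH : x ∈ H := by
    rw [hH]
    exact Subgroup.mem_zpowers x
  obtain ⟨zH, hzH⟩ : ∃ zH : H, (zH : G) = x := ⟨⟨x, hxH⟩, rfl⟩
  have hzc : ∀ h : H, zH * h = h * zH := by
    intro h
    have hh : (h : G) ∈ Subgroup.zpowers x := by
      rw [← hH]
      exact h.2
    obtain ⟨k, hk⟩ := Subgroup.mem_zpowers_iff.mp hh
    apply Subtype.ext
    rw [Subgroup.coe_mul, Subgroup.coe_mul, hzH, ← hk]
    exact ((Commute.refl x).zpow_right k).eq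
  have hzN : zH ^ N = 1 := by
    apply Subtype.ext
    rw [Subgroup.coe_pow, hzH, hx, Subgroup.coe_one]
  have hlam : ∀ ξ : Cfsg.IrrCharacter H, ((ξ : H → ℂ) zH / (ξ : H → ℂ) 1) ^ N = 1 := by
    intro ξ
    rw [← IsIrrCharacter.apply_central_pow ξ.2 hzc, hzN,
      div_self (IsIrrCharacter.apply_one_ne_zero ξ.2)]
  have hex : ∀ ξ : Cfsg.IrrCharacter H, ∃ e : ℕ, ζ ^ e = (ξ : H → ℂ) zH / (ξ : H → ℂ) 1 := by
    intro ξ
    haveI : NeZero N := ⟨hN.ne'⟩
    obtain ⟨e, _, he⟩ := hζ.eq_pow_of_pow_eq_one (hlam ξ)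
    exact ⟨e, he⟩
  choose e he using hex
  refine ⟨∑ ξ : Cfsg.IrrCharacter H,
    Polynomial.C ((m ξ : ℤ) * (Cfsg.charDegree (ξ : H → ℂ) : ℤ)) * Polynomial.X ^ (e ξ), ?_⟩
  intro i
  have h1 : χ (x ^ i) = (fun h : H => χ h) (zH ^ i) := by
    simp only [Subgroup.coe_pow, hzH]
  rw [h1, hm, map_sum, Finset.sum_apply]
  apply Finset.sum_congr rfl
  intro ξ _
  have h0 := IsIrrCharacter.apply_one_ne_zero ξ.2
  have h2 : (ξ : H → ℂ) (zH ^ i) = (ξ : H → ℂ) 1 * ((ξ : H → ℂ) zH / (ξ : H → ℂ) 1) ^ i := by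
    rw [← IsIrrCharacter.apply_central_pow ξ.2 hzc]
    field_simp
  rw [Pi.smul_apply, h2, ← he ξ,
    IsCharacter.apply_one_eq_charDegree (IsIrrCharacter.isCharacter ξ.2)]
  rw [map_mul, Polynomial.aeval_C, map_pow, Polynomial.aeval_X, eq_intCast, Int.cast_mul,
    Int.cast_natCast, Int.cast_natCast, nsmul_eq_mul, ← pow_mul, ← pow_mul, mul_comm i (e ξ)]
  ring

/-- the values at `x` lie in `ℚ(ζ + ζ ^ m)` if `x` is conjugate to `x ^ m` -/
theorem values_mem (x : G) {N m : ℕ} (hN : 0 < N) (hx : x ^ N = 1) {ζ : ℂ}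
    (hζ : IsPrimitiveRoot ζ N) (hne : ζ ^ m ≠ ζ) (hconj : IsConj x (x ^ m))
    (K : IntermediateField ℚ ℂ) (hθ : ζ + ζ ^ m ∈ K) (hε : ζ * ζ ^ m ∈ K)
    (χ : Cfsg.IrrCharacter G) : (χ : G → ℂ) x ∈ K := by
  classical
  haveI : Fintype G := Fintype.ofFinite G
  obtain ⟨P, hP⟩ := exists_poly_char (IsIrrCharacter.isCharacter χ.2) x hN hx hζ
  obtain ⟨U, hU, V, hV, h1, h2⟩ := quad_reduce K ζ (ζ ^ m) hθ hε P
  have e1 : (χ : G → ℂ) x = U + V * ζ := by
    have := hP 1
    rw [pow_one, pow_one] at this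
    rw [this, h1]
  have e2 : (χ : G → ℂ) (x ^ m) = U + V * ζ ^ m := by
    rw [hP m, h2]
  have e3 : (χ : G → ℂ) x = (χ : G → ℂ) (x ^ m) := (isConj_iff_forall_irr x (x ^ m)).mp hconj χ
  have h3 : V * (ζ - ζ ^ m) = 0 := by
    linear_combination e3 - e1 + e2
  rcases mul_eq_zero.mp h3 with h4 | h4
  · rw [e1, h4, zero_mul, add_zero]
    exact hU
  · exact absurd (sub_eq_zero.mp h4).symm hne

/-- `ζ + ζ ^ m` lies in the field of values at `x` if `x` and `x ^ m` are the only powers of `x`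
conjugate to `x` -/
theorem theta_mem (x : G) {N m : ℕ} (hN : 1 < N) (hx : x ^ N = 1) {ζ : ℂ}
    (hζ : IsPrimitiveRoot ζ N) (hm1 : m ≠ 1) (hmN : m < N) (hconj : IsConj x (x ^ m))
    (hF : ∀ i, i < N → IsConj (x ^ i) x → i = 1 ∨ i = m) :
    ζ + ζ ^ m ∈ IntermediateField.adjoin ℚ
      {z : ℂ | ∃ χ : Cfsg.IrrCharacter G, (χ : G → ℂ) x = z} := by
  classical
  haveI : Fintype G := Fintype.ofFinite G
  haveI : Fintype (Cfsg.IrrCharacter G) := Fintype.ofFinite _
  have hN0 : 0 < N := by omega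
  obtain ⟨K, hK⟩ : ∃ K : IntermediateField ℚ ℂ, K = IntermediateField.adjoin ℚ
      {z : ℂ | ∃ χ : Cfsg.IrrCharacter G, (χ : G → ℂ) x = z} := ⟨_, rfl⟩
  rw [← hK]
  have hVK : ∀ χ : Cfsg.IrrCharacter G, (χ : G → ℂ) x ∈ K := by
    intro χ
    rw [hK]
    exact IntermediateField.subset_adjoin ℚ _ ⟨χ, rfl⟩
  obtain ⟨η, hη⟩ : ∃ η : ℂ, η = ζ ^ (N - 1) := ⟨_, rfl⟩
  have hηc : conj η = ζ := by
    have h1 : conj ζ = ζ ^ (N - 1) := conj_eq_pow_of_pow_eq_one hN0 hζ.pow_eq_one
    rw [hη, ← h1, Complex.conj_conj]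
  -- the integer multiplicities
  have hc : ∀ χ : Cfsg.IrrCharacter G, ∃ c : ℤ,
      ∑ i ∈ Finset.range N, (χ : G → ℂ) (x ^ i) * η ^ i = (N : ℂ) * c := by
    intro χ
    obtain ⟨P, hP⟩ := exists_poly_char (IsIrrCharacter.isCharacter χ.2) x hN0 hx hζ
    obtain ⟨c, hc⟩ := geom_int hζ.pow_eq_one (N - 1) P
    refine ⟨c, ?_⟩
    rw [← hc, hη]
    exact Finset.sum_congr rfl (fun i _ => by rw [hP i])
  choose c hc using hc
  obtain ⟨w, hw⟩ : ∃ w : ℂ, w = ∑ χ : Cfsg.IrrCharacter G, (c χ : ℂ) * (χ : G → ℂ) x :=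
    ⟨_, rfl⟩
  have hwK : w ∈ K := by
    rw [hw]
    apply sum_mem
    intro χ _
    exact K.mul_mem (intCast_mem K (c χ)) (hVK χ)
  -- second orthogonality
  obtain ⟨C, hC⟩ : ∃ C : ℕ, C = Nat.card (Subgroup.centralizer ({x} : Set G)) := ⟨_, rfl⟩
  have hCpos : 0 < C := by
    rw [hC]
    exact Nat.card_pos
  have hS1 : (∑ χ : Cfsg.IrrCharacter G, (χ : G → ℂ) x * conj ((χ : G → ℂ) x)) = (C : ℂ) := by
    rw [hC]
    exact (sum_irr_mul_conj x x).1 (IsConj.refl x)
  have hS : ∀ i, i < N →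
      (∑ χ : Cfsg.IrrCharacter G, (χ : G → ℂ) (x ^ i) * conj ((χ : G → ℂ) x))
        = if i = 1 ∨ i = m then (C : ℂ) else 0 := by
    intro i hi
    split_ifs with h
    · rcases h with h | h
      · rw [h, pow_one]
        exact hS1
      · rw [h]
        have e : ∀ χ : Cfsg.IrrCharacter G, (χ : G → ℂ) (x ^ m) = (χ : G → ℂ) x :=
          fun χ => ((isConj_iff_forall_irr x (x ^ m)).mp hconj χ).symm
        simp only [e]
        exact hS1
    · apply (sum_irr_mul_conj (x ^ i) x).2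
      intro hcon
      exact h (hF i hi hcon)
  have key : (N : ℂ) * conj w = (C : ℂ) * (η + η ^ m) := by
    calc (N : ℂ) * conj w
        = ∑ χ : Cfsg.IrrCharacter G, ((N : ℂ) * c χ) * conj ((χ : G → ℂ) x) := by
          rw [hw, map_sum, Finset.mul_sum]
          apply Finset.sum_congr rfl
          intro χ _
          rw [map_mul, map_intCast]
          ring
      _ = ∑ χ : Cfsg.IrrCharacter G, ∑ i ∈ Finset.range N,
            ((χ : G → ℂ) (x ^ i) * η ^ i) * conj ((χ : G → ℂ) x) := by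
          apply Finset.sum_congr rfl
          intro χ _
          rw [← hc χ, Finset.sum_mul]
      _ = ∑ i ∈ Finset.range N, η ^ i *
            ∑ χ : Cfsg.IrrCharacter G, (χ : G → ℂ) (x ^ i) * conj ((χ : G → ℂ) x) := by
          rw [Finset.sum_comm]
          apply Finset.sum_congr rfl
          intro i _
          rw [Finset.mul_sum]
          apply Finset.sum_congr rfl
          intro χ _
          ring
      _ = ∑ i ∈ Finset.range N, η ^ i * (if i = 1 ∨ i = m then (C : ℂ) else 0) := by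
          apply Finset.sum_congr rfl
          intro i hi
          rw [hS i (Finset.mem_range.mp hi)]
      _ = η ^ 1 * (C : ℂ) + η ^ m * (C : ℂ) := by
          rw [Finset.sum_eq_add 1 m (Ne.symm hm1)]
          · simp
          · intro i _ hi
            rw [if_neg (by tauto), mul_zero]
          · intro h
            exact absurd (Finset.mem_range.mpr hN) h
          · intro h
            exact absurd (Finset.mem_range.mpr hmN) h
      _ = (C : ℂ) * (η + η ^ m) := by ring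
  have key2 : (N : ℂ) * w = (C : ℂ) * (ζ + ζ ^ m) := by
    have h1 := congrArg conj key
    rw [map_mul, map_mul, map_add, map_pow, hηc, Complex.conj_conj, map_natCast, map_natCast]
      at h1
    exact h1
  have hC0 : (C : ℂ) ≠ 0 := by
    exact_mod_cast hCpos.ne'
  have e : ζ + ζ ^ m = ((N : ℂ) / (C : ℂ)) * w := by
    rw [div_mul_eq_mul_div, eq_div_iff hC0]
    linear_combination -key2
  rw [e]
  exact K.mul_mem (K.div_mem (natCast_mem K N) (natCast_mem K C)) hwK

end Cfsg.Agent.Lib.Helper6.Fv
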