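import Mathlib
import Cfsg.Agent.S4399

/-!
# Field of values criterion: `2`-groups with a cyclic maximal subgroup, and fusion

`S` is a finite group with an element `a` whose cyclic subgroup has index two, `b ∉ ⟨a⟩` and
`b a b⁻¹ = a ^ (k + 1)`.  Then `[S : S'] = 2 gcd(o(a), k)`.  We also control the fusion of a
generator of the cyclic maximal subgroup of a Sylow `2`-subgroup.
-/

set_option autoImplicit false

namespace Cfsg.Agent.Lib.Helper6.Fv

section grp

variable {S : Type*} [Group S]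

/-- iterating a conjugation which acts as a power map -/
theorem conj_pow_pow {h x : S} {j : ℕ} (hx : h * x * h⁻¹ = x ^ j) (s : ℕ) :
    h ^ s * x * (h ^ s)⁻¹ = x ^ (j ^ s) := by
  induction s with
  | zero => simp
  | succ s ih =>
    have e : h ^ (s + 1) * x * (h ^ (s + 1))⁻¹ = h * (h ^ s * x * (h ^ s)⁻¹) * h⁻¹ := by
      rw [pow_succ', mul_inv_rev]
      simp only [mul_assoc]
    rw [e, ih, ← conj_pow, hx, ← pow_mul, pow_succ']

theorem zpow_pow_comm (a : S) (t : ℤ) (m : ℕ) : (a ^ m) ^ t = (a ^ t) ^ m := by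
  rw [← zpow_natCast (a ^ t) m, ← zpow_natCast a m, ← zpow_mul, ← zpow_mul, mul_comm]

theorem commute_zpowers {a x y : S} (hx : x ∈ Subgroup.zpowers a) (hy : y ∈ Subgroup.zpowers a) :
    x * y = y * x := by
  obtain ⟨k, rfl⟩ := Subgroup.mem_zpowers_iff.mp hx
  obtain ⟨l, rfl⟩ := Subgroup.mem_zpowers_iff.mp hy
  exact (((Commute.refl a).zpow_left k).zpow_right l).eq

/-- a power of two dividing condition: `gcd (2 ^ e) k = 2` forces `k ≡ 2 mod 4` -/
theorem mod_four_of_gcd {e k : ℕ} (he : 2 ≤ e) (hg : Nat.gcd (2 ^ e) k = 2) : k % 4 = 2 := by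
  have h2 : 2 ∣ k := by
    have := Nat.gcd_dvd_right (2 ^ e) k
    rwa [hg] at this
  have h4 : ¬ 4 ∣ k := by
    intro h
    have h4e : 4 ∣ 2 ^ e := by
      have := pow_dvd_pow 2 he
      norm_num at this
      exact this
    have := Nat.dvd_gcd h4e h
    rw [hg] at this
    omega
  omega

/-- conversely `k ≡ 2 mod 4` forces `gcd (2 ^ e) k = 2` -/
theorem gcd_of_mod_four {e k : ℕ} (he : 1 ≤ e) (hk : k % 4 = 2) : Nat.gcd (2 ^ e) k = 2 := by
  obtain ⟨i, hie, hi⟩ := (Nat.dvd_prime_pow Nat.prime_two).mp (Nat.gcd_dvd_left (2 ^ e) k)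
  have h2 : 2 ∣ Nat.gcd (2 ^ e) k := by
    apply Nat.dvd_gcd
    · exact dvd_pow_self 2 (by omega)
    · omega
  have hi1 : 1 ≤ i := by
    rcases Nat.eq_zero_or_pos i with h | h
    · rw [h, pow_zero] at hi
      rw [hi] at h2
      omega
    · exact h
  have hi2 : i < 2 := by
    by_contra hcon
    have hcon : 2 ≤ i := by omega
    have h4 : 4 ∣ Nat.gcd (2 ^ e) k := by
      rw [hi]
      have := pow_dvd_pow 2 hcon
      norm_num at this
      exact this
    have := h4.trans (Nat.gcd_dvd_right (2 ^ e) k)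
    omega
  have : i = 1 := by omega
  rw [hi, this, pow_one]

variable [Finite S]

/-- the commutator subgroup is generated by `[b, a]` -/
theorem commutator_eq_zpowers {a b : S} (hi : (Subgroup.zpowers a).index = 2)
    (hb : b ∉ Subgroup.zpowers a) :
    commutator S = Subgroup.zpowers (b * a * b⁻¹ * a⁻¹) := by
  haveI : (Subgroup.zpowers a).Normal := Subgroup.normal_of_index_eq_two hi
  have hAc : ∀ x ∈ Subgroup.zpowers a, ∀ y ∈ Subgroup.zpowers a, x * y = y * x :=
    fun x hx y hy => commute_zpowers hx hy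
  have hcA : b * a * b⁻¹ * a⁻¹ ∈ Subgroup.zpowers a :=
    Subgroup.mul_mem _ (Subgroup.Normal.conj_mem inferInstance a (Subgroup.mem_zpowers a) b)
      (Subgroup.inv_mem _ (Subgroup.mem_zpowers a))
  have hc : Commute (b * a * b⁻¹ * a⁻¹) a := hAc _ hcA _ (Subgroup.mem_zpowers a)
  rw [← Cfsg.Agent.S4399.range_commHom (Subgroup.zpowers a) hi hAc b hb]
  apply le_antisymm
  · rintro _ ⟨⟨y, hy⟩, rfl⟩
    rw [Cfsg.Agent.S4399.commHom_apply]
    obtain ⟨k, rfl⟩ := Subgroup.mem_zpowers_iff.mp hy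
    refine Subgroup.mem_zpowers_iff.mpr ⟨k, ?_⟩
    have h1 : b * a ^ k * b⁻¹ = (b * a * b⁻¹ * a⁻¹) ^ k * a ^ k := by
      rw [← conj_zpow, ← hc.mul_zpow, inv_mul_cancel_right]
    show (b * a * b⁻¹ * a⁻¹) ^ k = b * a ^ k * b⁻¹ * (a ^ k)⁻¹
    rw [h1, mul_inv_cancel_right]
  · rw [Subgroup.zpowers_le]
    refine ⟨⟨a, Subgroup.mem_zpowers a⟩, ?_⟩
    rw [Cfsg.Agent.S4399.commHom_apply]

/-- the index of the commutator subgroup -/
theorem index_commutator_eq {a b : S} (hi : (Subgroup.zpowers a).index = 2)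
    (hb : b ∉ Subgroup.zpowers a) {k : ℕ} (hk : b * a * b⁻¹ = a ^ (k + 1)) :
    (commutator S).index = 2 * Nat.gcd (orderOf a) k := by
  have hc : b * a * b⁻¹ * a⁻¹ = a ^ k := by
    rw [hk, pow_succ, mul_inv_cancel_right]
  have h1 : commutator S = Subgroup.zpowers (a ^ k) := by
    rw [commutator_eq_zpowers hi hb, hc]
  have h2 : Nat.card (commutator S) = orderOf a / Nat.gcd (orderOf a) k := by
    rw [h1, Nat.card_zpowers, orderOf_pow]
  have h3 : (commutator S).index * Nat.card (commutator S) = Nat.card S :=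
    Subgroup.index_mul_card _
  have h4 : 2 * orderOf a = Nat.card S := by
    rw [← Subgroup.index_mul_card (Subgroup.zpowers a), hi, Nat.card_zpowers]
  have hpos : 0 < orderOf a := orderOf_pos a
  have hg : 0 < Nat.gcd (orderOf a) k := Nat.gcd_pos_of_pos_left _ hpos
  obtain ⟨q, hq⟩ := Nat.gcd_dvd_left (orderOf a) k
  have hq' : orderOf a / Nat.gcd (orderOf a) k = q := Nat.div_eq_of_eq_mul_right hg hq
  have hqpos : 0 < q := by
    rcases Nat.eq_zero_or_pos q with h | h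
    · rw [h, mul_zero] at hq
      omega
    · exact h
  rw [h2, hq'] at h3
  apply Nat.eq_of_mul_eq_mul_right hqpos
  rw [h3, ← h4, mul_assoc, ← hq]

/-- `b ^ 2` centralises `a`, whence a divisibility -/
theorem orderOf_dvd_mul {a b : S} (hi : (Subgroup.zpowers a).index = 2) {k : ℕ}
    (hk : b * a * b⁻¹ = a ^ (k + 1)) : orderOf a ∣ k * (k + 2) := by
  have hbb : b * b ∈ Subgroup.zpowers a := Subgroup.mul_self_mem_of_index_two hi b
  have hcomm : (b * b) * a * (b * b)⁻¹ = a := by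
    rw [commute_zpowers hbb (Subgroup.mem_zpowers a), mul_inv_cancel_right]
  have h2 := conj_pow_pow hk 2
  rw [pow_two b, hcomm] at h2
  have h3 : a ^ ((k + 1) ^ 2) = a ^ 1 := by
    rw [pow_one]
    exact h2.symm
  rw [pow_eq_pow_iff_modEq] at h3
  have h4 : orderOf a ∣ (k + 1) ^ 2 - 1 :=
    (Nat.modEq_iff_dvd' (Nat.one_le_pow _ _ (Nat.succ_pos k))).mp h3.symm
  have e : (k + 1) ^ 2 - 1 = k * (k + 2) := by
    have : (k + 1) ^ 2 = k * (k + 2) + 1 := by ring
    omega
  rwa [e] at h4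

/-- all elements outside the cyclic maximal subgroup act in the same way on `a` -/
theorem conj_eq_of_not_mem {a b s : S} (hi : (Subgroup.zpowers a).index = 2)
    (hb : b ∉ Subgroup.zpowers a) (hs : s ∉ Subgroup.zpowers a) :
    s * a * s⁻¹ = b * a * b⁻¹ := by
  have h1 : s⁻¹ * b ∈ Subgroup.zpowers a := by
    rw [Subgroup.mul_mem_iff_of_index_two hi]
    constructor
    · intro h
      exact absurd ((Subgroup.inv_mem_iff _).mp h) hs
    · intro h
      exact absurd h hb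
  obtain ⟨t, ht⟩ := Subgroup.mem_zpowers_iff.mp h1
  have hb' : b = s * a ^ t := by
    rw [ht, mul_inv_cancel_left]
  have hc : Commute (a ^ t) a := (Commute.refl a).zpow_left t
  rw [hb', mul_inv_rev, mul_assoc s (a ^ t) a, hc.eq]
  simp only [mul_assoc, mul_inv_cancel_left]

/-- elements outside the cyclic maximal subgroup have order dividing four when
`gcd (o(a), k) = 2` -/
theorem pow_four_of_not_mem {a b s : S} (hi : (Subgroup.zpowers a).index = 2)
    (hb : b ∉ Subgroup.zpowers a) (hs : s ∉ Subgroup.zpowers a) {k : ℕ}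
    (hk : b * a * b⁻¹ = a ^ (k + 1)) (hg : Nat.gcd (orderOf a) k = 2) : s ^ 4 = 1 := by
  have hsa : s * a * s⁻¹ = a ^ (k + 1) := by
    rw [conj_eq_of_not_mem hi hb hs, hk]
  have hss : s * s ∈ Subgroup.zpowers a := Subgroup.mul_self_mem_of_index_two hi s
  obtain ⟨t, ht⟩ := (Submonoid.mem_powers_iff _ _).mp (mem_powers_iff_mem_zpowers.mpr hss)
  have h1 : s * (a ^ t) * s⁻¹ = a ^ t := by
    rw [ht]
    simp only [mul_assoc, mul_inv_cancel]
    rw [mul_one]
  have h2 : s * (a ^ t) * s⁻¹ = a ^ (t * (k + 1)) := by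
    rw [← conj_pow, hsa, ← pow_mul, mul_comm]
  have h3 : a ^ (t * (k + 1)) = a ^ t := by
    rw [← h2, h1]
  rw [pow_eq_pow_iff_modEq] at h3
  have h4 : orderOf a ∣ t * k := by
    have := (Nat.modEq_iff_dvd' (Nat.le_mul_of_pos_right t (Nat.succ_pos k))).mp h3.symm
    have e : t * (k + 1) - t = t * k := by
      rw [mul_add, mul_one, Nat.add_sub_cancel]
    rwa [e] at this
  have h5 : orderOf a ∣ t * 2 := by
    have := Nat.dvd_gcd (Dvd.intro_left t rfl : orderOf a ∣ t * orderOf a) h4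
    rwa [Nat.gcd_mul_left, hg] at this
  calc s ^ 4 = (s * s) ^ 2 := by
        rw [← pow_two, ← pow_mul]
    _ = a ^ (t * 2) := by
        rw [← ht, ← pow_mul]
    _ = 1 := orderOf_dvd_iff_pow_eq_one.mp h5

end grp

section sylow

variable {G : Type*} [Group G] [Finite G]

/-- conjugating a `p`-subgroup into a given Sylow subgroup -/
theorem conj_le_sylow {p : ℕ} [Fact p.Prime] (P : Sylow p G) (A : Subgroup G)
    (hA : IsPGroup p A) : ∃ c : G, ∀ y ∈ A, c * y * c⁻¹ ∈ (P : Subgroup G) := by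
  obtain ⟨R, hR⟩ := hA.exists_le_sylow
  obtain ⟨c, hc⟩ := MulAction.exists_smul_eq G R P
  refine ⟨c, fun y hy => ?_⟩
  rw [← hc, Sylow.coe_subgroup_smul]
  have := Subgroup.smul_mem_pointwise_smul y (MulAut.conj c) (R : Subgroup G) (hR hy)
  rwa [MulAut.smul_def, MulAut.conj_apply] at this

/-- a `p`-element centralising a Sylow `p`-subgroup lies in it -/
theorem mem_sylow_of_commute {p : ℕ} [Fact p.Prime] (P : Sylow p G) (y : G)
    (hy : IsPGroup p (Subgroup.zpowers y))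
    (hcomm : ∀ q ∈ (P : Subgroup G), q * y = y * q) : y ∈ (P : Subgroup G) := by
  have hle : Subgroup.zpowers y ≤ Subgroup.normalizer ((P : Subgroup G) : Set G) := by
    rw [Subgroup.zpowers_le]
    apply Subgroup.mem_normalizer_fintype
    intro q hq
    have hq' : q ∈ (P : Subgroup G) := hq
    have e : y * q * y⁻¹ = q := by
      rw [← hcomm q hq', mul_inv_cancel_right]
    rw [e]
    exact hq
  have hsup : IsPGroup p (Subgroup.zpowers y ⊔ (P : Subgroup G) : Subgroup G) :=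
    IsPGroup.to_sup_of_normal_right' hy P.isPGroup' hle
  have h1 := P.is_maximal' hsup le_sup_right
  have h2 : y ∈ Subgroup.zpowers y ⊔ (P : Subgroup G) :=
    Subgroup.mem_sup_left (Subgroup.mem_zpowers y)
  rwa [h1] at h2

theorem conj_commute_aux (a g r : G) (h : a * ((r * g)⁻¹ * g) = ((r * g)⁻¹ * g) * a) :
    r * (g * a * g⁻¹) = (g * a * g⁻¹) * r := by
  calc r * (g * a * g⁻¹) = r * (g * (a * ((r * g)⁻¹ * g)) * (g⁻¹ * r)) := by group
    _ = r * (g * (((r * g)⁻¹ * g) * a) * (g⁻¹ * r)) := by rw [h]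
    _ = g * a * g⁻¹ * r := by group

/-- a `2`-element of a Sylow `2`-subgroup whose order exceeds the exponent of the centre has a
conjugacy class of even size -/
theorem two_dvd_index_centralizer (P : Sylow 2 G) (a : ↥(P : Subgroup G))
    (hcen : ∀ z ∈ Subgroup.center ↥(P : Subgroup G), orderOf z ∣ 2)
    (ha : 2 < orderOf a) (h2 : ∃ e : ℕ, orderOf a = 2 ^ e) :
    2 ∣ (Subgroup.centralizer ({(a : G)} : Set G)).index := by
  haveI : Fact (Nat.Prime 2) := ⟨Nat.prime_two⟩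
  by_contra hodd
  obtain ⟨q, hq⟩ := IsPGroup.nonempty_fixed_point_of_prime_not_dvd_card P.isPGroup'
    (G ⧸ Subgroup.centralizer ({(a : G)} : Set G)) hodd
  induction q using QuotientGroup.induction_on with
  | H g =>
    rw [MulAction.mem_fixedPoints] at hq
    have hcomm : ∀ r ∈ (P : Subgroup G), r * (g * (a : G) * g⁻¹) = (g * (a : G) * g⁻¹) * r := by
      intro r hr
      have h1 := hq ⟨r, hr⟩
      have h2 : ((r * g : G) : G ⧸ Subgroup.centralizer ({(a : G)} : Set G)) = (g : G ⧸ _) := h1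
      rw [QuotientGroup.eq, Subgroup.mem_centralizer_iff] at h2
      exact conj_commute_aux (a : G) g r (h2 (a : G) (Set.mem_singleton _))
    obtain ⟨e, he⟩ := h2
    have hoy : orderOf (g * (a : G) * g⁻¹) = 2 ^ e := by
      rw [← he, ← Subgroup.orderOf_coe]
      exact (MulAut.conj g).orderOf_eq (a : G)
    have hyP : g * (a : G) * g⁻¹ ∈ (P : Subgroup G) := by
      apply mem_sylow_of_commute P _ _ hcomm
      exact IsPGroup.of_card (n := e) (by rw [Nat.card_zpowers, hoy])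
    have hz : (⟨g * (a : G) * g⁻¹, hyP⟩ : ↥(P : Subgroup G)) ∈ Subgroup.center ↥(P : Subgroup G) := by
      rw [Subgroup.mem_center_iff]
      intro r
      apply Subtype.ext
      exact hcomm r r.2
    have := hcen _ hz
    rw [← Subgroup.orderOf_coe] at this
    rw [show ((⟨g * (a : G) * g⁻¹, hyP⟩ : ↥(P : Subgroup G)) : G) = g * (a : G) * g⁻¹ from rfl,
      hoy, ← he] at this
    have := Nat.le_of_dvd (by norm_num) this
    omega

/-- a conjugation acting as the `j`-th power on an element of `2`-power order has `j` odd -/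
theorem coprime_of_conj {x h : G} {j e : ℕ} (hox : orderOf x = 2 ^ e)
    (hj : h * x * h⁻¹ = x ^ j) : Nat.Coprime j (2 ^ e) := by
  have h1 : orderOf (x ^ j) = orderOf x := by
    rw [← hj]
    exact (MulAut.conj h).orderOf_eq x
  rw [orderOf_pow, hox] at h1
  obtain ⟨q, hq⟩ := Nat.gcd_dvd_left (2 ^ e) j
  have hgpos : 0 < Nat.gcd (2 ^ e) j := Nat.gcd_pos_of_pos_left _ (by positivity)
  have h2 : 2 ^ e / Nat.gcd (2 ^ e) j = q := Nat.div_eq_of_eq_mul_right hgpos hq
  rw [h2] at h1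
  rw [h1] at hq
  have h2e : 0 < 2 ^ e := by positivity
  have h3 : Nat.gcd (2 ^ e) j = 1 := by
    apply Nat.eq_of_mul_eq_mul_right h2e
    rw [one_mul]
    exact hq.symm
  exact Nat.coprime_comm.mp h3

/-- fusion of a generator of the cyclic maximal subgroup, large case -/
theorem fusion_large (P : Sylow 2 G) (a : ↥(P : Subgroup G)) {e m : ℕ} (he : 3 ≤ e)
    (ha : orderOf a = 2 ^ e)
    (h4 : ∀ s : ↥(P : Subgroup G), s ∉ Subgroup.zpowers a → s ^ 4 = 1)
    (hm : ∀ s : ↥(P : Subgroup G), s ∉ Subgroup.zpowers a → s * a * s⁻¹ = a ^ m)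
    (h : G) (j : ℕ) (hj : h * (a : G) * h⁻¹ = (a : G) ^ j) :
    j ≡ 1 [MOD 2 ^ e] ∨ j ≡ m [MOD 2 ^ e] := by
  haveI : Fact (Nat.Prime 2) := ⟨Nat.prime_two⟩
  obtain ⟨x, hx⟩ : ∃ x : G, x = (a : G) := ⟨_, rfl⟩
  rw [← hx] at hj
  have hox : orderOf x = 2 ^ e := by
    rw [hx, Subgroup.orderOf_coe, ha]
  have hjc : Nat.Coprime j (2 ^ e) := coprime_of_conj hox hj
  -- the `2`-part of `h`
  have ho : orderOf h ≠ 0 := (orderOf_pos h).ne'
  obtain ⟨u, v, hv, huv⟩ := Nat.exists_eq_two_pow_mul_odd ho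
  have hcop : Nat.Coprime v (2 ^ (e - 1)) :=
    Nat.Coprime.pow_right _ (Nat.coprime_two_right.mpr hv)
  obtain ⟨s, hs0, hs1⟩ := Nat.chineseRemainder hcop 0 1
  obtain ⟨h', hh'⟩ : ∃ h' : G, h' = h ^ s := ⟨_, rfl⟩
  have hh'2 : h' ^ (2 ^ u) = 1 := by
    rw [hh', ← pow_mul]
    apply orderOf_dvd_iff_pow_eq_one.mp
    rw [huv]
    obtain ⟨w, hw⟩ := (Nat.modEq_zero_iff_dvd).mp hs0
    rw [hw]
    exact ⟨w, by ring⟩
  have hj2 : j ^ 2 ^ (e - 1) ≡ 1 [MOD 2 ^ e] := by
    have := Nat.ModEq.pow_totient hjc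
    rwa [Nat.totient_prime_pow Nat.prime_two (by omega : 0 < e), show 2 - 1 = 1 from rfl,
      mul_one] at this
  have hjs : j ^ s ≡ j [MOD 2 ^ e] := by
    have h1 : s % 2 ^ (e - 1) = 1 := by
      have h1' : s % 2 ^ (e - 1) = 1 % 2 ^ (e - 1) := hs1
      rw [h1', Nat.mod_eq_of_lt]
      exact Nat.one_lt_two_pow (by omega)
    obtain ⟨q, hq⟩ : ∃ q, s = 2 ^ (e - 1) * q + 1 := by
      refine ⟨s / 2 ^ (e - 1), ?_⟩
      have := Nat.div_add_mod s (2 ^ (e - 1))
      rw [h1] at this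
      exact this.symm
    rw [hq, pow_succ, pow_mul]
    calc (j ^ 2 ^ (e - 1)) ^ q * j ≡ 1 ^ q * j [MOD 2 ^ e] := (hj2.pow _).mul_right _
      _ = j := by rw [one_pow, one_mul]
  have hh'x : h' * x * h'⁻¹ = x ^ j := by
    rw [hh', conj_pow_pow hj s, pow_eq_pow_iff_modEq, hox]
    exact hjs
  -- the `2`-group generated by `x` and `h'`
  have hxP : IsPGroup 2 (Subgroup.zpowers x) :=
    IsPGroup.of_card (n := e) (by rw [Nat.card_zpowers, hox])
  have hh'P : IsPGroup 2 (Subgroup.zpowers h') := by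
    obtain ⟨i, _, hi'⟩ := (Nat.dvd_prime_pow Nat.prime_two).mp (orderOf_dvd_of_pow_eq_one hh'2)
    exact IsPGroup.of_card (n := i) (by rw [Nat.card_zpowers, hi'])
  have hnorm : Subgroup.zpowers h' ≤
      Subgroup.normalizer ((Subgroup.zpowers x : Subgroup G) : Set G) := by
    rw [Subgroup.zpowers_le]
    apply Subgroup.mem_normalizer_fintype
    intro y hy
    have hy' : y ∈ Subgroup.zpowers x := hy
    obtain ⟨t, rfl⟩ := Subgroup.mem_zpowers_iff.mp hy'
    rw [← conj_zpow, hh'x]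
    exact Subgroup.zpow_mem _ (Subgroup.pow_mem _ (Subgroup.mem_zpowers x) j) t
  have hR : IsPGroup 2 (Subgroup.zpowers x ⊔ Subgroup.zpowers h' : Subgroup G) :=
    IsPGroup.to_sup_of_normal_left' hxP hh'P hnorm
  obtain ⟨c, hc⟩ := conj_le_sylow P _ hR
  obtain ⟨x', hx'⟩ : ∃ x' : ↥(P : Subgroup G), (x' : G) = c * x * c⁻¹ :=
    ⟨⟨_, hc x (Subgroup.mem_sup_left (Subgroup.mem_zpowers x))⟩, rfl⟩
  obtain ⟨h'', hh''⟩ : ∃ h'' : ↥(P : Subgroup G), (h'' : G) = c * h' * c⁻¹ :=
    ⟨⟨_, hc h' (Subgroup.mem_sup_right (Subgroup.mem_zpowers h'))⟩, rfl⟩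
  have hact : h'' * x' * h''⁻¹ = x' ^ j := by
    apply Subtype.ext
    simp only [Subgroup.coe_mul, Subgroup.coe_inv, Subgroup.coe_pow, hx', hh'']
    rw [conj_pow, ← hh'x]
    group
  have hox' : orderOf x' = 2 ^ e := by
    rw [← Subgroup.orderOf_coe, hx', ← hox]
    exact (MulAut.conj c).orderOf_eq x
  have hx'A : x' ∈ Subgroup.zpowers a := by
    by_contra hcon
    have h1 := h4 x' hcon
    have hd : 2 ^ e ∣ 4 := by
      rw [← hox']
      exact orderOf_dvd_of_pow_eq_one h1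
    have h2 : 2 ^ e ≤ 4 := Nat.le_of_dvd (by norm_num) hd
    have h3 : 2 ^ 3 ≤ 2 ^ e := Nat.pow_le_pow_right (by norm_num) he
    omega
  obtain ⟨t, ht⟩ := Subgroup.mem_zpowers_iff.mp hx'A
  by_cases hhA : h'' ∈ Subgroup.zpowers a
  · left
    have hcomm : h'' * x' * h''⁻¹ = x' := by
      rw [commute_zpowers hhA hx'A, mul_inv_cancel_right]
    rw [hcomm] at hact
    have h1 : x' ^ j = x' ^ 1 := by
      rw [pow_one]
      exact hact.symm
    rw [pow_eq_pow_iff_modEq, hox'] at h1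
    exact h1
  · right
    have h1 := hm h'' hhA
    have h2 : h'' * x' * h''⁻¹ = x' ^ m := by
      rw [← ht, ← conj_zpow, h1, zpow_pow_comm]
    rw [h2] at hact
    rw [pow_eq_pow_iff_modEq, hox'] at hact
    exact hact.symm

/-- fusion of a generator of the cyclic maximal subgroup -/
theorem fusion (P : Sylow 2 G) (a : ↥(P : Subgroup G)) {e m : ℕ} (he : 2 ≤ e)
    (ha : orderOf a = 2 ^ e) (hm4 : m % 4 = 3)
    (h4 : ∀ s : ↥(P : Subgroup G), s ∉ Subgroup.zpowers a → s ^ 4 = 1)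
    (hm : ∀ s : ↥(P : Subgroup G), s ∉ Subgroup.zpowers a → s * a * s⁻¹ = a ^ m)
    (h : G) (j : ℕ) (hj : h * (a : G) * h⁻¹ = (a : G) ^ j) :
    j ≡ 1 [MOD 2 ^ e] ∨ j ≡ m [MOD 2 ^ e] := by
  rcases Nat.lt_or_ge e 3 with he3 | he3
  · have he2 : e = 2 := by omega
    subst he2
    have hox : orderOf (a : G) = 2 ^ 2 := by
      rw [Subgroup.orderOf_coe, ha]
    have hjc : Nat.Coprime j (2 ^ 2) := coprime_of_conj hox hj
    have hodd : j % 2 = 1 := by
      by_contra hcon
      have h2 : 2 ∣ j := by omega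
      have := Nat.dvd_gcd h2 (by norm_num : 2 ∣ 2 ^ 2)
      rw [hjc] at this
      omega
    unfold Nat.ModEq
    norm_num
    omega
  · exact fusion_large P a he3 ha h4 hm h j hj

end sylow

end Cfsg.Agent.Lib.Helper6.Fv
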