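import Mathlib
import Cfsg.Agent.Lib.Helper1.GH7Sb4

/-!
# Farm GH7 (S3105), sub-unit N3-from-N1 (helper6)

`(N3)`: in the nonsplit case, for `k` over an involution of `L`, the image of `C_{Ω₁(Q)}(k)` in
`U = Ω₁(Q)/W` lies in `[U, k]`.  This is exactly the hypothesis `hN3` of
`Cfsg.Agent.Lib.Helper3.GH7Om.omega_split_of`.  `(N1)` is taken as an explicit hypothesis `hN1`
(shape of `Cfsg.Agent.Lib.Helper9.GH7N1.complement_of_fixed`, with `IsOdd` unfolded).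
-/

set_option autoImplicit false
set_option linter.unusedVariables false
set_option linter.unusedSectionVars false
set_option linter.style.longLine false

namespace Cfsg.Agent.Lib.Helper6.GH7N3

open Cfsg.Agent.Lib.Helper3.A8Emb (sqSub)
open Cfsg.Agent.Lib.Helper2.GH7
open Cfsg.Agent.Lib.Helper1.GH7Sb (omega1 omega1_normal exists_coords')

universe u

variable {G : Type u} [Group G] [Finite G] {Q : Subgroup G} [Q.Normal]

/-- an involution `M` of `L` is a transvection: a nonzero fixed vector `v` is either the centre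
(`v ∈ (1 + M) U`) or `M` is "odd" in the stabiliser of `v`. -/
theorem inv_cases : ∀ M : L, M ≠ 1 → M * M = 1 → ∀ v : Fin 3 → ZMod 2,
    Matrix.mulVec (M : Matrix (Fin 3) (Fin 3) (ZMod 2)) v = v →
    (∃ x : Fin 3 → ZMod 2, Matrix.mulVec (M : Matrix (Fin 3) (Fin 3) (ZMod 2)) x + x = v) ∨
    (Matrix.mulVec (M : Matrix (Fin 3) (Fin 3) (ZMod 2)) v = v ∧
      (∃ x : Fin 3 → ZMod 2, Matrix.mulVec (M : Matrix (Fin 3) (Fin 3) (ZMod 2)) x + x ≠ 0 ∧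
        Matrix.mulVec (M : Matrix (Fin 3) (Fin 3) (ZMod 2)) x + x ≠ v) ∧
      (∀ x : Fin 3 → ZMod 2,
        Matrix.mulVec (M : Matrix (Fin 3) (Fin 3) (ZMod 2))
          (Matrix.mulVec (M : Matrix (Fin 3) (Fin 3) (ZMod 2)) x) + x = 0 ∨
        Matrix.mulVec (M : Matrix (Fin 3) (Fin 3) (ZMod 2))
          (Matrix.mulVec (M : Matrix (Fin 3) (Fin 3) (ZMod 2)) x) + x = v)) := by
  decide +kernel

theorem add_self_vec (a : Fin 3 → ZMod 2) : a + a = 0 := by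
  revert a; decide

/-- **(N3) from (N1)**, in the shape of the hypothesis `hN3` of `omega_split_of`. -/
theorem n3_of (θ : G →* L) (hsurj : Function.Surjective θ) (hker : θ.ker = Q)
    (hcomm : ∀ a ∈ Q, ∀ b ∈ Q, a * b = b * a) (hcard : Nat.card Q = 32) (hΦ : Nat.card (sqSub Q) = 2)
    (hfaith : ∀ g : G, (∀ a ∈ Q, g * a * g⁻¹ * a⁻¹ ∈ sqSub Q) → g ∈ Q)
    (hN1 : ∀ (α : L ≃* L) (φ : G → (Fin 3 → ZMod 2)),
      (∀ a ∈ omega1 Q hcomm, ∀ b ∈ omega1 Q hcomm, φ (a * b) = φ a + φ b) →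
      (∀ v : Fin 3 → ZMod 2, ∃ o ∈ omega1 Q hcomm, φ o = v) →
      (∀ o ∈ omega1 Q hcomm, φ o = 0 ↔ o ∈ sqSub Q) →
      (∀ g : G, ∀ o ∈ omega1 Q hcomm,
        φ (g * o * g⁻¹) = Matrix.mulVec (α (θ g) : Matrix (Fin 3) (Fin 3) (ZMod 2)) (φ o)) →
      ∀ (g₀ o₀ : G), o₀ ∈ omega1 Q hcomm → φ o₀ ≠ 0 →
        (Matrix.mulVec (α (θ g₀) : Matrix (Fin 3) (Fin 3) (ZMod 2)) (φ o₀) = φ o₀ ∧
          (∃ x : Fin 3 → ZMod 2,
            Matrix.mulVec (α (θ g₀) : Matrix (Fin 3) (Fin 3) (ZMod 2)) x + x ≠ 0 ∧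
            Matrix.mulVec (α (θ g₀) : Matrix (Fin 3) (Fin 3) (ZMod 2)) x + x ≠ φ o₀) ∧
          (∀ x : Fin 3 → ZMod 2,
            Matrix.mulVec (α (θ g₀) : Matrix (Fin 3) (Fin 3) (ZMod 2))
              (Matrix.mulVec (α (θ g₀) : Matrix (Fin 3) (Fin 3) (ZMod 2)) x) + x = 0 ∨
            Matrix.mulVec (α (θ g₀) : Matrix (Fin 3) (Fin 3) (ZMod 2))
              (Matrix.mulVec (α (θ g₀) : Matrix (Fin 3) (Fin 3) (ZMod 2)) x) + x = φ o₀)) →
        g₀ * o₀ = o₀ * g₀ →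
        ∃ U' : Subgroup G, U'.Normal ∧ U' ≤ Q ∧ Nat.card U' = 8 ∧ ∀ x ∈ U', x * x = 1) :
    (¬ ∃ U' : Subgroup G, U'.Normal ∧ U' ≤ Q ∧ Nat.card U' = 8 ∧ ∀ x ∈ U', x * x = 1) →
      ∀ k : G, θ k ≠ 1 → θ k * θ k = 1 → ∀ o ∈ omega1 Q hcomm, k * o * k⁻¹ = o →
        ∃ o' ∈ omega1 Q hcomm, o * (o' * (k * o' * k⁻¹)) ∈ sqSub Q := by
  intro hns k hk1 hk2 o ho hfix
  obtain ⟨α, φ, hadd, hsur, hkerφ, hequiv⟩ := exists_coords' θ hsurj hker hcomm hcard hΦ hfaith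
  have hM1 : α (θ k) ≠ 1 := by
    intro h
    apply hk1
    apply α.injective
    rw [h, map_one]
  have hM2 : α (θ k) * α (θ k) = 1 := by rw [← map_mul, hk2, map_one]
  have hMv : Matrix.mulVec (α (θ k) : Matrix (Fin 3) (Fin 3) (ZMod 2)) (φ o) = φ o := by
    rw [← hequiv k o ho, hfix]
  by_cases h0 : φ o = 0
  · refine ⟨1, Subgroup.one_mem _, ?_⟩
    have : o * (1 * (k * 1 * k⁻¹)) = o := by group
    rw [this]
    exact (hkerφ o ho).1 h0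
  rcases inv_cases (α (θ k)) hM1 hM2 (φ o) hMv with ⟨x, hx⟩ | hodd
  · obtain ⟨o', ho', rfl⟩ := hsur x
    refine ⟨o', ho', ?_⟩
    have hc : k * o' * k⁻¹ ∈ omega1 Q hcomm := (omega1_normal hcomm).conj_mem o' ho' k
    have hm1 : o' * (k * o' * k⁻¹) ∈ omega1 Q hcomm := Subgroup.mul_mem _ ho' hc
    have hmem : o * (o' * (k * o' * k⁻¹)) ∈ omega1 Q hcomm := Subgroup.mul_mem _ ho hm1
    rw [← hkerφ _ hmem, hadd o ho _ hm1, hadd o' ho' _ hc, hequiv k o' ho', ← hx,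
      add_comm (φ o')]
    exact add_self_vec _
  · exfalso
    apply hns
    refine hN1 α φ hadd hsur hkerφ hequiv k o ho h0 hodd ?_
    calc k * o = (k * o * k⁻¹) * k := by group
      _ = o * k := by rw [hfix]

end Cfsg.Agent.Lib.Helper6.GH7N3
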