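import Mathlib

/-!
# Cyclic monomial matrices in `GL_p(F)`

`mon d k` is the matrix with entry `d i` in position `(i, i + k)` and zeros elsewhere.
-/

set_option autoImplicit false

namespace Cfsg.Agent.Lib.Helper6.GLpMon

variable {F : Type*} [Field F] {p : ℕ} [NeZero p]

/-- the cyclic monomial matrix -/
def monM (d : Fin p → F) (k : Fin p) : Matrix (Fin p) (Fin p) F :=
  fun i j => if j = i + k then d i else 0

omit [NeZero p] in
lemma monM_apply (d : Fin p → F) (k i j : Fin p) :
    monM d k i j = if j = i + k then d i else 0 := rfl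

lemma monM_mul (d e : Fin p → F) (k l : Fin p) :
    monM d k * monM e l = monM (fun i => d i * e (i + k)) (k + l) := by
  ext i j
  rw [Matrix.mul_apply, Finset.sum_eq_single (i + k)]
  · simp only [monM_apply, if_true, add_assoc]
    split_ifs <;> simp
  · intro c _ hc
    rw [monM_apply, if_neg hc, zero_mul]
  · intro h
    exact absurd (Finset.mem_univ _) h

lemma monM_one : monM (fun _ : Fin p => (1 : F)) 0 = 1 := by
  ext i j
  rw [monM_apply, add_zero, Matrix.one_apply]
  by_cases h : i = j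
  · simp [h]
  · rw [if_neg h, if_neg (fun h' => h h'.symm)]

/-- the cyclic monomial matrix as an element of the general linear group -/
def mon (d : Fin p → Fˣ) (k : Fin p) : GL (Fin p) F where
  val := monM (fun i => (d i : F)) k
  inv := monM (fun i => ((d (i - k))⁻¹ : Fˣ)) (-k)
  val_inv := by
    rw [monM_mul, ← monM_one]
    congr 1
    · funext i
      simp
    · simp
  inv_val := by
    rw [monM_mul, ← monM_one]
    congr 1
    · funext i
      rw [← sub_eq_add_neg]
      simp
    · simp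

lemma mon_val (d : Fin p → Fˣ) (k : Fin p) :
    ((mon d k : GL (Fin p) F) : Matrix (Fin p) (Fin p) F) = monM (fun i => (d i : F)) k := rfl

lemma mon_apply (d : Fin p → Fˣ) (k i j : Fin p) :
    ((mon d k : GL (Fin p) F) : Matrix (Fin p) (Fin p) F) i j
      = if j = i + k then (d i : F) else 0 := rfl

lemma mon_mul (d e : Fin p → Fˣ) (k l : Fin p) :
    mon d k * mon e l = mon (fun i => d i * e (i + k)) (k + l) := by
  apply Units.ext
  rw [Units.val_mul, mon_val, mon_val, mon_val, monM_mul]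
  have h1 : (fun i => ((d i : F)) * (e (i + k) : F)) = fun i => ((d i * e (i + k) : Fˣ) : F) := by
    funext i
    rw [Units.val_mul]
  rw [h1]

lemma mon_one : mon (fun _ : Fin p => (1 : Fˣ)) 0 = (1 : GL (Fin p) F) := by
  apply Units.ext
  rw [mon_val, Units.val_one]
  exact monM_one

lemma mon_inv (d : Fin p → Fˣ) (k : Fin p) :
    (mon d k)⁻¹ = mon (fun i => (d (i - k))⁻¹) (-k) := by
  apply inv_eq_of_mul_eq_one_right
  rw [mon_mul, ← mon_one]
  have h1 : (fun i => d i * (d (i + k - k))⁻¹) = fun _ : Fin p => (1 : Fˣ) := by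
    funext i
    simp
  rw [h1, add_neg_cancel]

lemma mon_inj {d e : Fin p → Fˣ} {k l : Fin p} (h : mon d k = mon e l) : d = e ∧ k = l := by
  have hval : ∀ i j, ((mon d k : GL (Fin p) F) : Matrix (Fin p) (Fin p) F) i j
      = ((mon e l : GL (Fin p) F) : Matrix (Fin p) (Fin p) F) i j := by
    intro i j; rw [h]
  have hkl : k = l := by
    have h0 := hval 0 (0 + k)
    rw [mon_apply, mon_apply, if_pos rfl] at h0
    by_contra hne
    rw [if_neg (by simpa using hne)] at h0
    exact (d 0).ne_zero h0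
  refine ⟨?_, hkl⟩
  subst hkl
  funext i
  have hi := hval i (i + k)
  rw [mon_apply, mon_apply, if_pos rfl, if_pos rfl] at hi
  exact Units.ext hi

/-- the diagonal embedding -/
def diagHom : (Fin p → Fˣ) →* GL (Fin p) F where
  toFun d := mon d 0
  map_one' := mon_one
  map_mul' d e := by
    rw [mon_mul]
    have h1 : (fun i => d i * e (i + 0)) = d * e := by
      funext i
      simp
    rw [h1, add_zero]

lemma diagHom_apply (d : Fin p → Fˣ) : diagHom d = (mon d 0 : GL (Fin p) F) := rfl

variable (F p) in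
/-- the group of cyclic monomial matrices with entries `p`-th roots of unity -/
def Q0 : Subgroup (GL (Fin p) F) where
  carrier := {g | ∃ (d : Fin p → Fˣ) (k : Fin p), (∀ i, d i ^ p = 1) ∧ g = mon d k}
  mul_mem' := by
    rintro _ _ ⟨d, k, hd, rfl⟩ ⟨e, l, he, rfl⟩
    refine ⟨_, _, ?_, mon_mul d e k l⟩
    intro i
    rw [mul_pow, hd, he, one_mul]
  one_mem' := ⟨_, _, fun _ => one_pow _, mon_one.symm⟩
  inv_mem' := by
    rintro _ ⟨d, k, hd, rfl⟩
    refine ⟨_, _, ?_, mon_inv d k⟩
    intro i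
    rw [inv_pow, hd, inv_one]

lemma mem_Q0 (g : GL (Fin p) F) :
    g ∈ Q0 F p ↔ ∃ (d : Fin p → Fˣ) (k : Fin p), (∀ i, d i ^ p = 1) ∧ g = mon d k := Iff.rfl

lemma mon_mem_Q0 (d : Fin p → Fˣ) (k : Fin p) (hd : ∀ i, d i ^ p = 1) : mon d k ∈ Q0 F p :=
  ⟨d, k, hd, rfl⟩

/-- powers shift additively -/
lemma mon_pow (d : Fin p → Fˣ) (k : Fin p) (hd : ∀ i, d i ^ p = 1) (r : ℕ) :
    ∃ e : Fin p → Fˣ, (∀ i, e i ^ p = 1) ∧ (mon d k) ^ r = mon e (r • k) := by
  induction r with
  | zero => exact ⟨fun _ => 1, fun _ => one_pow _, by rw [pow_zero, zero_smul, mon_one]⟩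
  | succ r ih =>
    obtain ⟨e, he, hr⟩ := ih
    refine ⟨fun i => e i * d (i + r • k), ?_, ?_⟩
    · intro i
      rw [mul_pow, he, hd, one_mul]
    · rw [pow_succ, hr, mon_mul, succ_nsmul]

end Cfsg.Agent.Lib.Helper6.GLpMon
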