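import Mathlib
import Cfsg.Agent.Lib.Helper6.GLpMon

/-!
# The Sylow `p`-subgroup of `GL_p(q)` when `p` exactly divides `q - 1`
-/

set_option autoImplicit false

namespace Cfsg.Agent.Lib.Helper6.GLpMon

variable {F : Type*} [Field F] [Fintype F] {p : ℕ} [Fact p.Prime]

lemma exists_zeta (h1 : p ∣ Fintype.card F - 1) : ∃ ζ : Fˣ, orderOf ζ = p := by
  classical
  apply exists_prime_orderOf_dvd_card p
  rw [Fintype.card_units]
  exact h1

lemma card_mu (h1 : p ∣ Fintype.card F - 1) : Nat.card {a : Fˣ // a ^ p = 1} = p := by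
  classical
  have hp : p.Prime := Fact.out
  apply le_antisymm
  · rw [Nat.card_eq_fintype_card, Fintype.card_subtype]
    exact IsCyclic.card_pow_eq_one_le hp.pos
  · obtain ⟨ζ, hζ⟩ := exists_zeta (F := F) h1
    have hζp : ζ ^ p = 1 := by rw [← hζ]; exact pow_orderOf_eq_one ζ
    have hinj : Function.Injective (fun i : Fin p => (⟨ζ ^ i.val, by
        rw [← pow_mul, mul_comm, pow_mul, hζp, one_pow]⟩ :
          {a : Fˣ // a ^ p = 1})) := by
      intro i j hij
      have h2 : ζ ^ i.val = ζ ^ j.val := congrArg Subtype.val hij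
      apply Fin.ext
      apply pow_injOn_Iio_orderOf (x := ζ)
      · rw [hζ]; exact i.2
      · rw [hζ]; exact j.2
      · exact h2
    have := Nat.card_le_card_of_injective _ hinj
    rwa [Nat.card_eq_fintype_card, Fintype.card_fin] at this

/-- parametrisation of `Q0` -/
noncomputable def q0Equiv : ({d : Fin p → Fˣ // ∀ i, d i ^ p = 1} × Fin p) ≃ Q0 F p :=
  Equiv.ofBijective (fun x => ⟨mon x.1.1 x.2, mon_mem_Q0 _ _ x.1.2⟩) (by
    constructor
    · rintro ⟨⟨d, hd⟩, k⟩ ⟨⟨e, he⟩, l⟩ h
      have h2 : mon d k = mon e l := congrArg Subtype.val h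
      obtain ⟨h3, h4⟩ := mon_inj h2
      subst h3 h4
      rfl
    · rintro ⟨g, d, k, hd, rfl⟩
      exact ⟨⟨⟨d, hd⟩, k⟩, rfl⟩)

lemma card_Q0 (h1 : p ∣ Fintype.card F - 1) : Nat.card (Q0 F p) = p ^ (p + 1) := by
  rw [← Nat.card_congr (q0Equiv (F := F) (p := p)), Nat.card_prod,
    Nat.card_congr (Equiv.subtypePiEquivPi (β := fun _ : Fin p => Fˣ)
      (p := fun _ a => a ^ p = 1)), Nat.card_pi]
  simp only [card_mu h1, Finset.prod_const, Finset.card_univ, Fintype.card_fin, Nat.card_eq_fintype_card]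
  rw [pow_succ]

section valuation

lemma factor_val (q : ℕ) (hodd : p ≠ 2) (h1 : p ∣ q - 1) (h2 : ¬ p ^ 2 ∣ q - 1) (hq : 2 ≤ q)
    (m : ℕ) (hm : m ≠ 0) :
    (q ^ m - 1).factorization p = 1 + m.factorization p := by
  have hp : p.Prime := Fact.out
  have hoddp : Odd p := hp.odd_of_ne_two hodd
  have hq1 : q - 1 ≠ 0 := by omega
  have hnd : ¬ p ∣ q := by
    intro h
    have : p ∣ q - (q - 1) := Nat.dvd_sub h h1
    have e : q - (q - 1) = 1 := by omega
    rw [e] at this
    exact hp.one_lt.ne' (Nat.dvd_one.1 this)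
  have h3 := padicValNat.pow_sub_pow (x := q) (y := 1) (p := p) hoddp (by omega) h1 hnd hm
  rw [one_pow] at h3
  rw [Nat.factorization_def _ hp, Nat.factorization_def _ hp, h3]
  congr 1
  rw [← Nat.factorization_def _ hp]
  have h4 : 1 ≤ (q - 1).factorization p :=
    (hp.pow_dvd_iff_le_factorization hq1).1 (by rwa [pow_one])
  have h5 : ¬ 2 ≤ (q - 1).factorization p := fun h =>
    h2 ((hp.pow_dvd_iff_le_factorization hq1).2 h)
  omega

lemma factorization_GL (hodd : p ≠ 2) (h1 : p ∣ Fintype.card F - 1)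
    (h2 : ¬ p ^ 2 ∣ Fintype.card F - 1) :
    (Nat.card (GL (Fin p) F)).factorization p = p + 1 := by
  have hp : p.Prime := Fact.out
  have hq : 2 ≤ Fintype.card F := Fintype.one_lt_card
  obtain ⟨q, hqdef⟩ : ∃ q, q = Fintype.card F := ⟨_, rfl⟩
  rw [← hqdef] at h1 h2 hq
  have hnd : ¬ p ∣ q := by
    intro h
    have : p ∣ q - (q - 1) := Nat.dvd_sub h h1
    have e : q - (q - 1) = 1 := by omega
    rw [e] at this
    exact hp.one_lt.ne' (Nat.dvd_one.1 this)
  rw [Matrix.card_GL_field, ← hqdef]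
  have hne : ∀ i ∈ (Finset.univ : Finset (Fin p)), q ^ p - q ^ i.val ≠ 0 := by
    intro i _
    have : q ^ i.val < q ^ p := Nat.pow_lt_pow_right (by omega) i.2
    omega
  rw [Nat.factorization_prod hne, Finsupp.finsetSum_apply]
  have hterm : ∀ i : Fin p, (q ^ p - q ^ i.val).factorization p
      = 1 + (if i.val = 0 then 1 else 0) := by
    intro i
    have e : q ^ p - q ^ i.val = q ^ i.val * (q ^ (p - i.val) - 1) := by
      rw [Nat.mul_sub, mul_one, ← pow_add]
      congr 2
      have := i.2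
      omega
    have hne1 : q ^ (p - i.val) - 1 ≠ 0 := by
      have : 1 < q ^ (p - i.val) := Nat.one_lt_pow (by have := i.2; omega) (by omega)
      omega
    rw [e, Nat.factorization_mul (by positivity) hne1, Finsupp.add_apply,
      Nat.factorization_pow, Finsupp.smul_apply, Nat.factorization_eq_zero_of_not_dvd hnd,
      smul_zero, zero_add, factor_val q hodd h1 h2 hq _ (by have := i.2; omega)]
    congr 1
    by_cases hi : i.val = 0
    · rw [if_pos hi, hi, Nat.sub_zero, hp.factorization_self]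
    · rw [if_neg hi]
      apply Nat.factorization_eq_zero_of_not_dvd
      intro h
      have := Nat.le_of_dvd (by have := i.2; omega) h
      omega
  rw [Finset.sum_congr rfl (fun i _ => hterm i), Finset.sum_add_distrib]
  simp only [Finset.sum_const, Finset.card_univ, Fintype.card_fin, smul_eq_mul, mul_one]
  congr 1
  rw [Finset.sum_ite, Finset.sum_const_zero, add_zero, Finset.sum_const, smul_eq_mul, mul_one]
  have : (Finset.univ.filter fun i : Fin p => i.val = 0) = {0} := by
    ext i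
    simp only [Finset.mem_filter, Finset.mem_univ, true_and, Finset.mem_singleton]
    constructor
    · intro h
      exact Fin.ext (by rw [h]; rfl)
    · intro h
      rw [h]; rfl
  rw [this, Finset.card_singleton]

end valuation

/-- `Q0` as a Sylow subgroup -/
noncomputable def sylowQ0 (hodd : p ≠ 2) (h1 : p ∣ Fintype.card F - 1)
    (h2 : ¬ p ^ 2 ∣ Fintype.card F - 1) : Sylow p (GL (Fin p) F) :=
  Sylow.ofCard (Q0 F p) (by rw [card_Q0 h1, factorization_GL hodd h1 h2])

lemma coe_sylowQ0 (hodd : p ≠ 2) (h1 : p ∣ Fintype.card F - 1)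
    (h2 : ¬ p ^ 2 ∣ Fintype.card F - 1) :
    ((sylowQ0 hodd h1 h2 : Sylow p (GL (Fin p) F)) : Subgroup (GL (Fin p) F)) = Q0 F p := rfl

end Cfsg.Agent.Lib.Helper6.GLpMon
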