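import Mathlib
import Cfsg.Agent.Lib.Helper6.GLpCard

/-!
# Elements outside the normaliser of the monomial Sylow subgroup of `GL_p(q)`
-/

set_option autoImplicit false

namespace Cfsg.Agent.Lib.Helper6.GLpMon

section general

variable {F : Type*} [Field F] {p : ℕ} [NeZero p]

omit [NeZero p] in
lemma monM_mul_apply (d : Fin p → F) (k : Fin p) (M : Matrix (Fin p) (Fin p) F) (a b : Fin p) :
    (monM d k * M) a b = d a * M (a + k) b := by
  rw [Matrix.mul_apply, Finset.sum_eq_single (a + k)]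
  · rw [monM_apply, if_pos rfl]
  · intro c _ hc
    rw [monM_apply, if_neg hc, zero_mul]
  · intro h
    exact absurd (Finset.mem_univ _) h

lemma mul_monM_apply (M : Matrix (Fin p) (Fin p) F) (d : Fin p → F) (k : Fin p) (a b : Fin p) :
    (M * monM d k) a b = M a (b - k) * d (b - k) := by
  rw [Matrix.mul_apply, Finset.sum_eq_single (b - k)]
  · rw [monM_apply, if_pos (by simp)]
  · intro c _ hc
    rw [monM_apply, if_neg, mul_zero]
    intro h
    apply hc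
    rw [h]
    simp
  · intro h
    exact absurd (Finset.mem_univ _) h

lemma monM_const (c : F) : monM (fun _ : Fin p => c) 0 = c • (1 : Matrix (Fin p) (Fin p) F) := by
  ext i j
  rw [monM_apply, add_zero, Matrix.smul_apply, Matrix.one_apply, smul_eq_mul]
  by_cases h : i = j
  · simp [h]
  · rw [if_neg h, if_neg (fun h' => h h'.symm), mul_zero]

lemma conj_pow_inv {G : Type*} [Group G] (g a : G) (r : ℕ) :
    (g⁻¹ * a * g) ^ r = g⁻¹ * a ^ r * g := by
  induction r with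
  | zero => simp
  | succ r ih => rw [pow_succ, ih, pow_succ]; group

end general

section prime

variable {F : Type*} [Field F] {p : ℕ} [Fact p.Prime]

lemma exists_nsmul_eq (k : Fin p) (hk : k ≠ 0) (l : Fin p) : ∃ r : ℕ, r • k = l := by
  have h1 : AddSubgroup.zmultiples k = ⊤ :=
    zmultiples_eq_top_of_prime_card (p := p) (by simp) hk
  have h2 : l ∈ AddSubgroup.zmultiples k := by rw [h1]; trivial
  rw [← mem_multiples_iff_mem_zmultiples] at h2
  exact (AddSubmonoid.mem_multiples_iff _ _).1 h2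

lemma const_of_shift {α : Type*} (k : Fin p) (hk : k ≠ 0) (d : Fin p → α)
    (h : ∀ i, d (i + k) = d i) : ∀ i j, d i = d j := by
  have h1 : ∀ r : ℕ, d (r • k) = d 0 := by
    intro r
    induction r with
    | zero => simp
    | succ r ih => rw [succ_nsmul, h, ih]
  have h2 : ∀ i, d i = d 0 := by
    intro i
    obtain ⟨r, rfl⟩ := exists_nsmul_eq k hk i
    exact h1 r
  intro i j
  rw [h2 i, h2 j]

lemma prime_nsmul (k : Fin p) : p • k = 0 := by
  have := card_nsmul_eq_zero' (G := Fin p) (x := k)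
  rwa [Nat.card_eq_fintype_card, Fintype.card_fin] at this

/-- the abelian-subgroup argument: an element `g` such that only scalar elements of `D` are
conjugated into `D` by `g` does not normalise `Q0` -/
theorem not_mem_normalizer_of_star (hp3 : 3 ≤ p) (ζ : Fˣ) (hζ : ζ ^ p = 1) (hζ1 : ζ ≠ 1)
    (g : GL (Fin p) F)
    (hstar : ∀ d a : Fin p → Fˣ, (∀ i, d i ^ p = 1) → (∀ i, a i ^ p = 1) →
      mon d 0 * g = g * mon a 0 → ∀ i j, d i = d j) :
    g ∉ Subgroup.normalizer ((Q0 F p : Subgroup (GL (Fin p) F)) : Set (GL (Fin p) F)) := by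
  intro hg
  have hconj : ∀ y ∈ Q0 F p, g⁻¹ * y * g ∈ Q0 F p := by
    intro y hy
    have h1 : g⁻¹ ∈ Subgroup.normalizer ((Q0 F p : Subgroup (GL (Fin p) F)) : Set (GL (Fin p) F)) :=
      Subgroup.inv_mem _ hg
    have := (Subgroup.mem_normalizer_iff.1 h1 y).1 hy
    simpa using this
  obtain ⟨i0, i1, i2, h01, h02, h12⟩ : ∃ i0 i1 i2 : Fin p, i0 ≠ i1 ∧ i0 ≠ i2 ∧ i1 ≠ i2 := by
    refine ⟨⟨0, by omega⟩, ⟨1, by omega⟩, ⟨2, by omega⟩, ?_, ?_, ?_⟩ <;>
      simp [Fin.ext_iff]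
  obtain ⟨d₁, hd₁def⟩ : ∃ d₁ : Fin p → Fˣ, d₁ = fun i => if i = i0 then ζ else 1 := ⟨_, rfl⟩
  obtain ⟨d₂, hd₂def⟩ : ∃ d₂ : Fin p → Fˣ, d₂ = fun i => if i = i1 then ζ else 1 := ⟨_, rfl⟩
  have hd₁ : ∀ i, d₁ i ^ p = 1 := by
    intro i
    rw [hd₁def]
    by_cases h : i = i0
    · simp [h, hζ]
    · simp [h]
  have hd₂ : ∀ i, d₂ i ^ p = 1 := by
    intro i
    rw [hd₂def]
    by_cases h : i = i1
    · simp [h, hζ]
    · simp [h]
  obtain ⟨e₁, k₁, he₁, ha₁⟩ := hconj (mon d₁ 0) (mon_mem_Q0 _ _ hd₁)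
  obtain ⟨e₂, k₂, he₂, ha₂⟩ := hconj (mon d₂ 0) (mon_mem_Q0 _ _ hd₂)
  have hk₁ : k₁ ≠ 0 := by
    rintro rfl
    have h1 : mon d₁ 0 * g = g * mon e₁ 0 := by rw [← ha₁]; group
    have h2 := hstar d₁ e₁ hd₁ he₁ h1 i0 i1
    rw [hd₁def] at h2
    simp only [if_true, if_neg h01.symm] at h2
    exact hζ1 h2
  obtain ⟨r, hr⟩ := exists_nsmul_eq k₁ hk₁ (-k₂)
  obtain ⟨e₃, he₃, hpow⟩ := mon_pow e₁ k₁ he₁ r
  have h3 : g⁻¹ * (mon d₂ 0 * (mon d₁ 0) ^ r) * g = mon (fun i => e₂ i * e₃ (i + k₂)) 0 := by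
    have h4 : g⁻¹ * (mon d₂ 0 * (mon d₁ 0) ^ r) * g
        = (g⁻¹ * mon d₂ 0 * g) * (g⁻¹ * mon d₁ 0 * g) ^ r := by
      rw [conj_pow_inv]; group
    rw [h4, ha₁, ha₂, hpow, mon_mul, hr, add_neg_cancel]
  have h5 : mon d₂ 0 * (mon d₁ 0) ^ r = (mon (d₂ * d₁ ^ r) 0 : GL (Fin p) F) := by
    rw [← diagHom_apply, ← diagHom_apply, ← diagHom_apply, map_mul, map_pow]
  rw [h5] at h3
  have h6 : mon (d₂ * d₁ ^ r) 0 * g = g * mon (fun i => e₂ i * e₃ (i + k₂)) 0 := by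
    rw [← h3]; group
  have h7 := hstar (d₂ * d₁ ^ r) _ (by
    intro i
    rw [Pi.mul_apply, Pi.pow_apply, mul_pow, ← pow_mul, mul_comm r p, pow_mul, hd₁, hd₂, one_pow,
      one_mul]) (by
    intro i
    rw [mul_pow, he₂, he₃, one_mul]) h6 i1 i2
  rw [Pi.mul_apply, Pi.mul_apply, Pi.pow_apply, Pi.pow_apply, hd₁def, hd₂def] at h7
  simp only [if_true, if_neg h01.symm, if_neg h02.symm, if_neg h12.symm, one_pow, mul_one] at h7
  exact hζ1 h7

end prime

end Cfsg.Agent.Lib.Helper6.GLpMon
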