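import Mathlib
import Cfsg.Agent.Lib.Helper6.GLpRed1

/-!
# Diagonal elements of the monomial Sylow subgroup of `GL_p(q)` lie in a second Sylow subgroup
-/

set_option autoImplicit false

namespace Cfsg.Agent.Lib.Helper6.GLpMon

variable {F : Type*} [Field F] {p : ℕ} [Fact p.Prime]

/-- a transvection as an element of the general linear group -/
noncomputable def transv (i j : Fin p) (hij : i ≠ j) : GL (Fin p) F :=
  Matrix.GeneralLinearGroup.mk'' (Matrix.transvection i j 1) (by
    rw [Matrix.det_transvection_of_ne _ _ hij]; exact isUnit_one)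

omit [Fact (Nat.Prime p)] in
lemma transv_apply (i j : Fin p) (hij : i ≠ j) (a b : Fin p) :
    ((transv i j hij : GL (Fin p) F) : Matrix (Fin p) (Fin p) F) a b
      = (if a = b then 1 else 0) + (if i = a ∧ j = b then 1 else 0) := by
  change (Matrix.transvection i j (1 : F)) a b = _
  rw [Matrix.transvection, Matrix.add_apply, Matrix.one_apply, Matrix.single_apply]

theorem case_a (ζ : Fˣ) (hζ : ζ ^ p = 1) (hζ1 : ζ ≠ 1) (d : Fin p → Fˣ)
    (hd : ∀ i, d i ^ p = 1) (i j : Fin p) (hij : i ≠ j) (hdij : d i = d j) :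
    ∃ g : GL (Fin p) F, g⁻¹ * mon d 0 * g ∈ Q0 F p ∧
      g ∉ Subgroup.normalizer ((Q0 F p : Subgroup (GL (Fin p) F)) : Set (GL (Fin p) F)) := by
  refine ⟨transv i j hij, ?_, ?_⟩
  · have hcomm : mon d 0 * transv i j hij = transv i j hij * mon d 0 := by
      apply Units.ext
      ext a b
      rw [Units.val_mul, Units.val_mul, mon_val, monM_mul_apply, mul_monM_apply, add_zero,
        sub_zero, transv_apply, mul_comm]
      by_cases hab : a = b
      · subst hab; rfl
      · rw [if_neg hab, zero_add]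
        by_cases h2 : i = a ∧ j = b
        · obtain ⟨rfl, rfl⟩ := h2
          rw [hdij]
        · rw [if_neg h2, zero_mul, zero_mul]
    have : (transv i j hij)⁻¹ * mon d 0 * transv i j hij = mon d 0 := by
      rw [mul_assoc, hcomm, ← mul_assoc, inv_mul_cancel, one_mul]
    rw [this]
    exact mon_mem_Q0 _ _ hd
  · intro hg
    obtain ⟨d', hd'def⟩ : ∃ d' : Fin p → Fˣ, d' = fun a => if a = i then ζ else 1 := ⟨_, rfl⟩
    have hd' : ∀ a, d' a ^ p = 1 := by
      intro a
      rw [hd'def]
      by_cases h : a = i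
      · simp [h, hζ]
      · simp [h]
    obtain ⟨e, l, -, h⟩ := (Subgroup.mem_normalizer_iff.1 hg _).1 (mon_mem_Q0 d' 0 hd')
    have h' : transv i j hij * mon d' 0 = mon e l * transv i j hij := by
      rw [← h]; group
    have hent : ∀ a b, ((transv i j hij : GL (Fin p) F) : Matrix (Fin p) (Fin p) F) a b * (d' b : F)
        = (e a : F) * ((transv i j hij : GL (Fin p) F) : Matrix (Fin p) (Fin p) F) (a + l) b := by
      intro a b
      have := congrArg (fun M : GL (Fin p) F => (M : Matrix (Fin p) (Fin p) F) a b) h'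
      simp only [Units.val_mul] at this
      rw [mon_val, mon_val, monM_mul_apply, mul_monM_apply, sub_zero] at this
      exact this
    have h1 := hent i i
    have h2 := hent i j
    rw [transv_apply, transv_apply, hd'def] at h1 h2
    simp only [if_true, hij.symm, and_false, if_false, add_zero, one_mul, hij,
      zero_add, and_self] at h1 h2
    have hl : l = 0 := by
      by_contra hl
      have : i + l ≠ i := by simpa using hl
      rw [if_neg this, mul_zero] at h1
      exact ζ.ne_zero h1
    subst hl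
    simp only [add_zero, if_true, hij, if_false, mul_one, zero_add, and_self] at h1 h2
    apply hζ1
    apply Units.ext
    rw [h1, ← h2]

/-- a Vandermonde matrix as an element of the general linear group -/
noncomputable def vand (y : Fin p → Fˣ) (hy : Function.Injective y) : GL (Fin p) F :=
  Matrix.GeneralLinearGroup.mk'' (Matrix.vandermonde (fun i => (y i : F))) (by
    rw [isUnit_iff_ne_zero, Matrix.det_vandermonde_ne_zero_iff]
    intro a b hab
    exact hy (Units.ext hab))

omit [Fact (Nat.Prime p)] in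
lemma vand_apply (y : Fin p → Fˣ) (hy : Function.Injective y) (a b : Fin p) :
    ((vand y hy : GL (Fin p) F) : Matrix (Fin p) (Fin p) F) a b = (y a : F) ^ b.val := by
  change Matrix.vandermonde (fun i => (y i : F)) a b = _
  rw [Matrix.vandermonde_apply]

lemma pow_mod_of_pow_eq_one {M : Type*} [Monoid M] (u : M) (n m : ℕ) (hu : u ^ n = 1) :
    u ^ (m % n) = u ^ m := by
  conv_rhs => rw [← Nat.div_add_mod m n, pow_add, pow_mul, hu, one_pow, one_mul]

lemma mon_mul_vand (y : Fin p → Fˣ) (hy : Function.Injective y) (hyp : ∀ i, y i ^ p = 1) :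
    mon y 0 * vand y hy = vand y hy * mon (fun _ => 1) (-1) := by
  have hp : p.Prime := Fact.out
  apply Units.ext
  ext a b
  rw [Units.val_mul, Units.val_mul, mon_val, monM_mul_apply, mon_val, mul_monM_apply, add_zero,
    sub_neg_eq_add, vand_apply, vand_apply, Units.val_one, mul_one, Fin.val_add, Fin.val_one',
    Nat.mod_eq_of_lt hp.one_lt, ← pow_succ']
  have h1 : (y a : F) ^ p = 1 := by rw [← Units.val_pow_eq_pow_val, hyp, Units.val_one]
  rw [pow_mod_of_pow_eq_one _ _ _ h1]

lemma star_vand (y : Fin p → Fˣ) (hy : Function.Injective y) (d a : Fin p → Fˣ)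
    (h : mon d 0 * vand y hy = vand y hy * mon a 0) : ∀ i j, d i = d j := by
  have h1 : ∀ i, d i = a 0 := by
    intro i
    have := congrArg (fun M : GL (Fin p) F => (M : Matrix (Fin p) (Fin p) F) i 0) h
    simp only [Units.val_mul] at this
    rw [mon_val, mon_val, monM_mul_apply, mul_monM_apply, add_zero, sub_zero, vand_apply,
      Fin.val_zero, pow_zero, mul_one, one_mul] at this
    exact Units.ext this
  intro i j
  rw [h1 i, h1 j]

theorem vand_not_mem_normalizer (hp3 : 3 ≤ p) (ζ : Fˣ) (hζ : ζ ^ p = 1) (hζ1 : ζ ≠ 1)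
    (y : Fin p → Fˣ) (hy : Function.Injective y) :
    vand y hy ∉ Subgroup.normalizer ((Q0 F p : Subgroup (GL (Fin p) F)) : Set (GL (Fin p) F)) :=
  not_mem_normalizer_of_star hp3 ζ hζ hζ1 _ (fun d a _ _ h => star_vand y hy d a h)

theorem case_b (hp3 : 3 ≤ p) (ζ : Fˣ) (hζ : ζ ^ p = 1) (hζ1 : ζ ≠ 1) (d : Fin p → Fˣ)
    (hd : ∀ i, d i ^ p = 1) (hinj : Function.Injective d) :
    ∃ g : GL (Fin p) F, g⁻¹ * mon d 0 * g ∈ Q0 F p ∧
      g ∉ Subgroup.normalizer ((Q0 F p : Subgroup (GL (Fin p) F)) : Set (GL (Fin p) F)) := by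
  refine ⟨vand d hinj, ?_, vand_not_mem_normalizer hp3 ζ hζ hζ1 d hinj⟩
  rw [mul_assoc, mon_mul_vand d hinj hd, ← mul_assoc, inv_mul_cancel, one_mul]
  exact mon_mem_Q0 _ _ (fun _ => one_pow _)

end Cfsg.Agent.Lib.Helper6.GLpMon
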