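import Mathlib
import Cfsg.Agent.Lib.Helper6.GLpRed2

/-!
# Non-diagonal elements of the monomial Sylow subgroup of `GL_p(q)` lie in a second Sylow subgroup
-/

set_option autoImplicit false

namespace Cfsg.Agent.Lib.Helper6.GLpMon

variable {F : Type*} [Field F] {p : ℕ} [Fact p.Prime]

lemma pow_prime_scalar (d : Fin p → Fˣ) (k : Fin p) (hk : k ≠ 0) (hd : ∀ i, d i ^ p = 1) :
    ∃ c : Fˣ, c ^ p = 1 ∧ (mon d k) ^ p = mon (fun _ => c) 0 := by
  obtain ⟨e, he, hpow⟩ := mon_pow d k hd p
  rw [prime_nsmul] at hpow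
  have hcomm : mon e 0 * mon d k = mon d k * mon e 0 := by
    rw [← hpow, ← pow_succ, ← pow_succ']
  rw [mon_mul, mon_mul] at hcomm
  obtain ⟨h1, -⟩ := mon_inj hcomm
  have h2 : ∀ i, e (i + k) = e i := by
    intro i
    have := congrFun h1 i
    simp only [add_zero] at this
    rw [mul_comm] at this
    exact (mul_left_cancel this).symm
  have h3 := const_of_shift k hk e h2
  refine ⟨e 0, he 0, ?_⟩
  rw [hpow]
  congr 1
  funext i
  exact h3 i 0

/-- case (d): the `p`-th power is a non-trivial scalar -/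
theorem case_d (hodd : p ≠ 2) (d : Fin p → Fˣ) (k : Fin p) (hk : k ≠ 0)
    (hd : ∀ i, d i ^ p = 1) (c : Fˣ) (hc : c ^ p = 1) (hc1 : c ≠ 1)
    (hx : (mon d k) ^ p = mon (fun _ => c) 0)
    (hnorm : ∀ g : GL (Fin p) F,
      (∀ d' a : Fin p → Fˣ, (∀ i, d' i ^ p = 1) → (∀ i, a i ^ p = 1) →
        mon d' 0 * g = g * mon a 0 → ∀ i j, d' i = d' j) →
      g ∉ Subgroup.normalizer ((Q0 F p : Subgroup (GL (Fin p) F)) : Set (GL (Fin p) F))) :
    ∃ g : GL (Fin p) F, g⁻¹ * mon d k * g ∈ Q0 F p ∧
      g ∉ Subgroup.normalizer ((Q0 F p : Subgroup (GL (Fin p) F)) : Set (GL (Fin p) F)) := by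
  have hp : p.Prime := Fact.out
  have hoddp : Odd p := hp.odd_of_ne_two hodd
  obtain ⟨X, hX⟩ : ∃ X : Matrix (Fin p) (Fin p) F, X = ((mon d k : GL (Fin p) F) :
    Matrix (Fin p) (Fin p) F) := ⟨_, rfl⟩
  have hXp : X ^ p = (c : F) • (1 : Matrix (Fin p) (Fin p) F) := by
    rw [hX, ← Units.val_pow_eq_pow_val, hx, mon_val, monM_const]
  have hc0 : (1 : F) + (c : F) ≠ 0 := by
    intro h
    have h1 : (c : F) = -1 := by linear_combination h
    have h2 : ((c : F)) ^ p = 1 := by rw [← Units.val_pow_eq_pow_val, hc, Units.val_one]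
    rw [h1, hoddp.neg_pow, one_pow] at h2
    apply hc1
    apply Units.ext
    rw [h1, h2, Units.val_one]
  have hgeom : (1 + X) * ∑ t ∈ Finset.range p, (-X) ^ t
      = ((1 : F) + (c : F)) • (1 : Matrix (Fin p) (Fin p) F) := by
    have := mul_neg_geom_sum (-X) p
    rw [sub_neg_eq_add, hoddp.neg_pow, sub_neg_eq_add, hXp] at this
    rw [this, add_smul, one_smul]
  have hdet : IsUnit (1 + X).det := by
    rw [isUnit_iff_ne_zero]
    intro h0
    have := congrArg Matrix.det hgeom
    rw [Matrix.det_mul, h0, zero_mul, Matrix.det_smul, Matrix.det_one, mul_one] at this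
    exact pow_ne_zero _ hc0 this.symm
  obtain ⟨g, hg⟩ : ∃ g : GL (Fin p) F, (g : Matrix (Fin p) (Fin p) F) = 1 + X :=
    ⟨Matrix.GeneralLinearGroup.mk'' (1 + X) hdet, rfl⟩
  have hgapp : ∀ i j, (g : Matrix (Fin p) (Fin p) F) i j
      = (if i = j then 1 else 0) + (if j = i + k then (d i : F) else 0) := by
    intro i j
    rw [hg, hX, Matrix.add_apply, Matrix.one_apply, mon_apply]
  refine ⟨g, ?_, ?_⟩
  · have hcomm : mon d k * g = g * mon d k := by
      apply Units.ext
      rw [Units.val_mul, Units.val_mul, hg, ← hX, mul_add, add_mul, mul_one, one_mul]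
    rw [mul_assoc, hcomm, ← mul_assoc, inv_mul_cancel, one_mul]
    exact mon_mem_Q0 _ _ hd
  · apply hnorm
    intro d' a _ _ h
    have hent : ∀ i j, (d' i : F) * (g : Matrix (Fin p) (Fin p) F) i j
        = (g : Matrix (Fin p) (Fin p) F) i j * (a j : F) := by
      intro i j
      have := congrArg (fun M : GL (Fin p) F => (M : Matrix (Fin p) (Fin p) F) i j) h
      simp only [Units.val_mul] at this
      rw [mon_val, mon_val, monM_mul_apply, mul_monM_apply, add_zero, sub_zero] at this
      exact this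
    have hik : ∀ i : Fin p, i ≠ i + k := by
      intro i h
      apply hk
      have : i + k = i + 0 := by rw [add_zero]; exact h.symm
      exact add_left_cancel this
    have h1 : ∀ i, (d' i : F) = (a i : F) := by
      intro i
      have := hent i i
      rw [hgapp, if_pos rfl, if_neg (hik i), add_zero, mul_one, one_mul] at this
      exact this
    have h2 : ∀ i, d' (i + k) = d' i := by
      intro i
      have := hent i (i + k)
      rw [hgapp, if_neg (hik i), if_pos rfl, zero_add, ← h1 (i + k), mul_comm] at this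
      exact (Units.ext (mul_left_cancel₀ (d i).ne_zero this)).symm
    exact const_of_shift k hk d' h2

end Cfsg.Agent.Lib.Helper6.GLpMon
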