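import Mathlib
import Cfsg.Agent.Lib.Helper4.QuatSyl1

/-!
# Redundant Sylow subgroups

A Sylow `p`-subgroup `Q` is *redundant* when every `p`-element lies in a Sylow `p`-subgroup
other than `Q`.
-/

set_option autoImplicit false

namespace Cfsg.Agent.Lib.Helper6.RedSylow

open Pointwise Cfsg.Agent.Lib.Helper4.QuatSyl

variable {G : Type*} [Group G]

/-- a Sylow subgroup is redundant when every `p`-element lies in another Sylow subgroup -/
def Redundant {p : ℕ} (Q : Sylow p G) : Prop :=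
  ∀ x : G, (∃ k : ℕ, orderOf x = p ^ k) → ∃ P : Sylow p G, P ≠ Q ∧ x ∈ P

lemma exists_pow_order {p : ℕ} [Fact p.Prime] (P : Sylow p G) (x : G) (hx : x ∈ P) :
    ∃ k : ℕ, orderOf x = p ^ k := by
  obtain ⟨k, hk⟩ := P.2 ⟨x, hx⟩
  have h1 : x ^ p ^ k = 1 := by
    have := congrArg Subtype.val hk
    simpa using this
  obtain ⟨j, -, hj⟩ := (Nat.dvd_prime_pow Fact.out).1 (orderOf_dvd_of_pow_eq_one h1)
  exact ⟨j, hj⟩

lemma exists_sylow_mem {p : ℕ} [Fact p.Prime] [Finite G] (x : G)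
    (hx : ∃ k : ℕ, orderOf x = p ^ k) : ∃ P : Sylow p G, x ∈ P := by
  obtain ⟨k, hk⟩ := hx
  have h1 : IsPGroup p (Subgroup.zpowers x) :=
    IsPGroup.of_card (n := k) (by rw [Nat.card_zpowers, hk])
  obtain ⟨P, hP⟩ := h1.exists_le_sylow
  exact ⟨P, hP (Subgroup.mem_zpowers x)⟩

lemma mem_smul_sylow {p : ℕ} (g x : G) (Q : Sylow p G) :
    x ∈ (g • Q : Sylow p G) ↔ g⁻¹ * x * g ∈ Q := by
  change x ∈ ((g • Q : Sylow p G) : Subgroup G) ↔ g⁻¹ * x * g ∈ (Q : Subgroup G)
  rw [Sylow.coe_subgroup_smul, Subgroup.mem_pointwise_smul_iff_inv_smul_mem, MulAut.smul_def,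
    ← map_inv, MulAut.conj_apply, inv_inv]

/-- if the centralisers of non-identity `p`-elements are abelian, no Sylow `p`-subgroup is
redundant -/
theorem not_redundant_of_comm {p : ℕ} [Fact p.Prime] [Finite G]
    (hab : ∀ x : G, x ≠ 1 → (∃ k : ℕ, orderOf x = p ^ k) →
      ∀ a b : G, a * x = x * a → b * x = x * b → a * b = b * a)
    (Q : Sylow p G) : ¬ Redundant Q := by
  intro hR
  -- a central element
  have hcen : ∀ P : Sylow p G, (P : Subgroup G) ≠ ⊥ →
      ∃ z : G, z ∈ P ∧ z ≠ 1 ∧ ∀ g ∈ P, g * z = z * g := by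
    intro P hP
    have : Nontrivial (P : Subgroup G) := (Subgroup.nontrivial_iff_ne_bot _).2 hP
    have := P.2.center_nontrivial
    obtain ⟨z, hz1⟩ := exists_ne (1 : Subgroup.center (P : Subgroup G))
    refine ⟨((z : (P : Subgroup G)) : G), (z : (P : Subgroup G)).2, ?_, ?_⟩
    · intro h
      apply hz1
      apply Subtype.ext
      apply Subtype.ext
      exact h
    · intro g hg
      have := Subgroup.mem_center_iff.1 z.2 ⟨g, hg⟩
      exact congrArg Subtype.val this
  have habel : ∀ P : Sylow p G, (P : Subgroup G) ≠ ⊥ →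
      ∀ a ∈ P, ∀ b ∈ P, a * b = b * a := by
    intro P hP a ha b hb
    obtain ⟨z, hzP, hz1, hzc⟩ := hcen P hP
    exact hab z hz1 (exists_pow_order P z hzP) a b (hzc a ha) (hzc b hb)
  by_cases hQ : (Q : Subgroup G) = ⊥
  · obtain ⟨P, hPQ, -⟩ := hR 1 ⟨0, by simp⟩
    apply hPQ
    apply Sylow.ext
    rw [hQ]
    apply Subgroup.eq_bot_of_card_eq
    have h1 : Nat.card (P : Subgroup G) = Nat.card (Q : Subgroup G) := by
      rw [Sylow.card_eq_multiplicity, Sylow.card_eq_multiplicity]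
    rw [h1, hQ, Subgroup.card_bot]
  · obtain ⟨z, hzQ, hz1, hzc⟩ := hcen Q hQ
    have hzord := exists_pow_order Q z hzQ
    obtain ⟨P, hPQ, hzP⟩ := hR z hzord
    have hPbot : (P : Subgroup G) ≠ ⊥ := by
      intro h
      have h2 : z ∈ (P : Subgroup G) := hzP
      rw [h] at h2
      exact hz1 (Subgroup.mem_bot.1 h2)
    have hPab := habel P hPbot
    have key : ∀ g ∈ P, ∀ h ∈ Q, g * h * g⁻¹ = h := by
      intro g hg h hh
      have : g * h = h * g := hab z hz1 hzord g h (hPab g hg z hzP) (hzc h hh)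
      rw [this, mul_inv_cancel_right]
    have hPN : (P : Subgroup G) ≤ Subgroup.normalizer ((Q : Subgroup G) : Set G) := by
      intro g hg
      rw [Subgroup.mem_normalizer_iff]
      intro h
      constructor
      · intro hh
        rw [key g hg h hh]; exact hh
      · intro hh
        have h1 := key g⁻¹ (Subgroup.inv_mem _ hg) _ hh
        have h2 : g⁻¹ * (g * h * g⁻¹) * g⁻¹⁻¹ = h := by group
        rw [h2] at h1
        rw [h1]; exact hh
    have hsup := IsPGroup.to_sup_of_normal_right' P.2 Q.2 hPN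
    have e1 := Q.is_maximal' hsup le_sup_right
    have e2 := P.is_maximal' hsup le_sup_left
    exact hPQ (Sylow.ext (e2.symm.trans e1))

section torus

variable {c z : G} {a m : ℕ} (H : TorusHyp c z a m)

include H

/-- an element of order four in the torus -/
lemma exists_v : ∃ v ∈ Subgroup.zpowers (c ^ m), v * v = z := by
  obtain ⟨b, rfl⟩ : ∃ b, a = b + 2 := ⟨a - 2, by have := H.two_le; omega⟩
  have hord := orderOf_u H
  refine ⟨(c ^ m) ^ 2 ^ b, Subgroup.pow_mem _ (Subgroup.mem_zpowers _) _, ?_⟩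
  obtain ⟨t, ht⟩ : ∃ t, t = (c ^ m) ^ 2 ^ (b + 1) := ⟨_, rfl⟩
  have e1 : (c ^ m) ^ 2 ^ b * (c ^ m) ^ 2 ^ b = t := by
    rw [ht, ← pow_add, ← two_mul, ← pow_succ']
  have htt : t * t = 1 := by
    rw [ht, ← pow_add, ← two_mul, ← pow_succ', ← hord]; exact pow_orderOf_eq_one _
  have ht1 : t ≠ 1 := by
    intro h
    rw [ht] at h
    have h2 := orderOf_dvd_of_pow_eq_one h
    rw [hord] at h2
    have h3 := Nat.le_of_dvd (by positivity) h2
    have h4 : 2 ^ (b + 1) < 2 ^ (b + 2) := Nat.pow_lt_pow_right (by norm_num) (by omega)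
    omega
  rw [e1]
  rcases H.invol t htt with h | h
  · exact absurd h ht1
  · exact h

variable [Finite G]

theorem redundant_of_lt (hfus : ∀ x y : G, x * x = z → y * y = z → IsConj x y) (hm : 1 < m) :
    ∃ Q : Sylow 2 G, Redundant Q := by
  have hT2 : IsPGroup 2 (Subgroup.zpowers (c ^ m)) :=
    IsPGroup.of_card (n := a) (by rw [Nat.card_zpowers, orderOf_u H])
  obtain ⟨Q, hS⟩ := hT2.exists_le_sylow
  refine ⟨Q, ?_⟩
  have hcQ : c • Q ≠ Q := by
    intro h
    rw [Sylow.smul_eq_iff_mem_normalizer] at h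
    have h1 := mem_S_of_mem_normalizers H Q hS c h
      (Subgroup.le_normalizer (Subgroup.mem_zpowers c))
    have h2 := S_inf_T H Q hS c h1 (Subgroup.mem_zpowers c)
    have h3 : orderOf c ∣ 2 ^ a := by
      rw [← orderOf_u H]; exact orderOf_dvd_of_mem_zpowers h2
    rw [H.ord] at h3
    have h4 : m ∣ 1 := by
      have : 2 ^ a * m ∣ 2 ^ a * 1 := by rwa [mul_one]
      exact (Nat.mul_dvd_mul_iff_left (by positivity)).1 this
    have := Nat.le_of_dvd (by norm_num) h4
    omega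
  have hmem : ∀ v ∈ Q, v ∈ Subgroup.zpowers c → v ∈ (c • Q : Sylow 2 G) := by
    intro v hv hvT
    rw [mem_smul_sylow]
    have hcv : c * v = v * c := by
      have : v ∈ Subgroup.centralizer ({c} : Set G) := by rw [cent_c H]; exact hvT
      rw [Subgroup.mem_centralizer_singleton_iff] at this
      exact this.symm
    have e : c⁻¹ * v * c = v := by
      rw [mul_assoc, ← hcv, inv_mul_cancel_left]
    rw [e]; exact hv
  intro x hx
  by_cases hxQ : x ∈ Q
  · have hv : ∃ v, v ∈ Q ∧ v ∈ (c • Q : Sylow 2 G) ∧ IsConj v x := by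
      by_cases hxT : x ∈ Subgroup.zpowers c
      · exact ⟨x, hxQ, hmem x hxQ hxT, IsConj.refl x⟩
      · obtain ⟨v, hvT2, hvv⟩ := exists_v H
        have hxx : x * x = z := H.sq x (S_le_NT H Q hS hxQ) hxT
        exact ⟨v, hS hvT2, hmem v (hS hvT2) (T2_le H hvT2), hfus v x hvv hxx⟩
    obtain ⟨v, hvQ, hvcQ, hconj⟩ := hv
    obtain ⟨g, hg⟩ := isConj_iff.1 hconj
    have e : g⁻¹ * x * g = v := by rw [← hg]; group
    by_cases hgQ : g • Q = Q
    · refine ⟨g • (c • Q), ?_, ?_⟩
      · intro h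
        apply hcQ
        have : g • (c • Q) = g • Q := h.trans hgQ.symm
        exact smul_left_cancel g this
      · rw [mem_smul_sylow, e]; exact hvcQ
    · refine ⟨g • Q, hgQ, ?_⟩
      rw [mem_smul_sylow, e]; exact hvQ
  · obtain ⟨P, hP⟩ := exists_sylow_mem x hx
    exact ⟨P, fun h => hxQ (h ▸ hP), hP⟩

theorem not_redundant_of_eq_one (hm : m = 1) (Q : Sylow 2 G) : ¬ Redundant Q := by
  subst hm
  intro hR
  have hT2 : IsPGroup 2 (Subgroup.zpowers (c ^ 1)) :=
    IsPGroup.of_card (n := a) (by rw [Nat.card_zpowers, orderOf_u H])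
  obtain ⟨Q₀, hS⟩ := hT2.exists_le_sylow
  have hTQ₀ : ∀ t ∈ Subgroup.zpowers c, t ∈ (Q₀ : Subgroup G) := by
    intro t ht
    apply hS
    rwa [pow_one]
  have huniq : ∀ P : Sylow 2 G, c ∈ P → P = Q₀ := by
    intro P hcP
    have hSP : Subgroup.zpowers (c ^ 1) ≤ (P : Subgroup G) := by
      rw [pow_one, Subgroup.zpowers_le]; exact hcP
    have hle : (P : Subgroup G) ≤ Q₀ := by
      intro g hg
      by_cases hgT : g ∈ Subgroup.zpowers c
      · exact hTQ₀ g hgT
      · obtain ⟨w, hw, hwT⟩ := exists_w H Q₀ hS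
        have hgN := S_le_NT H P hSP hg
        have hwN := S_le_NT H Q₀ hS hw
        have h1 : g * w⁻¹ ∈ Subgroup.zpowers c := by
          rw [← cent_c H, Subgroup.mem_centralizer_singleton_iff]
          have e1 : w⁻¹ * c * w⁻¹⁻¹ = c⁻¹ :=
            inverts H w⁻¹ (Subgroup.inv_mem _ hwN)
              (fun h => hwT (by simpa using Subgroup.inv_mem _ h)) c (Subgroup.mem_zpowers c)
          have e2 : g * c⁻¹ * g⁻¹ = c := by
            rw [inverts H g hgN hgT c⁻¹ (Subgroup.inv_mem _ (Subgroup.mem_zpowers c)), inv_inv]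
          calc g * w⁻¹ * c = g * (w⁻¹ * c * w⁻¹⁻¹) * w⁻¹ := by group
            _ = g * c⁻¹ * g⁻¹ * (g * w⁻¹) := by rw [e1]; group
            _ = c * (g * w⁻¹) := by rw [e2]
        have h2 := hTQ₀ _ h1
        have := Subgroup.mul_mem _ h2 hw
        rwa [inv_mul_cancel_right] at this
    exact Sylow.ext (P.is_maximal' Q₀.2 hle).symm
  obtain ⟨g, hg⟩ := MulAction.exists_smul_eq G Q₀ Q
  have hord : ∃ k, orderOf (g * c * g⁻¹) = 2 ^ k := by
    refine ⟨a, ?_⟩
    have := (MulAut.conj g).orderOf_eq c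
    rw [MulAut.conj_apply] at this
    rw [this, H.ord, mul_one]
  obtain ⟨P, hPQ, hxP⟩ := hR (g * c * g⁻¹) hord
  apply hPQ
  have h1 : c ∈ (g⁻¹ • P : Sylow 2 G) := by
    rw [mem_smul_sylow, inv_inv]
    exact hxP
  have h2 := huniq _ h1
  rw [← hg, ← h2, smul_inv_smul]

theorem exists_redundant_iff (hfus : ∀ x y : G, x * x = z → y * y = z → IsConj x y) :
    (∃ Q : Sylow 2 G, Redundant Q) ↔ 1 < m := by
  constructor
  · rintro ⟨Q, hQ⟩
    by_contra hm
    have hm1 : m = 1 := by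
      have := m_pos H
      omega
    exact not_redundant_of_eq_one H hm1 Q hQ
  · exact redundant_of_lt H hfus

end torus

end Cfsg.Agent.Lib.Helper6.RedSylow
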