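import Mathlib
import Cfsg.Agent.Lib.Helper6.GLpRed3
import Cfsg.Agent.Lib.Helper6.RedSylow

/-!
# `GL_p(q)` has a redundant Sylow `p`-subgroup when `p` exactly divides `q - 1`
-/

set_option autoImplicit false

namespace Cfsg.Agent.Lib.Helper6.GLpMon

open Cfsg.Agent.Lib.Helper6.RedSylow

open Fin.NatCast

variable {F : Type*} [Field F] {p : ℕ} [Fact p.Prime]

lemma mon_one_pow (d : Fin p → Fˣ) (r : ℕ) :
    (mon d 1) ^ r
      = mon (fun i => ∏ t ∈ Finset.range r, d (i + (t : Fin p))) (r : Fin p) := by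
  induction r with
  | zero =>
    have h0 : ((0 : ℕ) : Fin p) = 0 := by simp
    rw [pow_zero, h0, ← mon_one]
    congr 1
  | succ r ih =>
    have h1 : ((r + 1 : ℕ) : Fin p) = (r : Fin p) + 1 := by simp
    rw [pow_succ, ih, mon_mul, h1]
    congr 1
    funext i
    rw [Finset.prod_range_succ]

lemma prod_eq_one_of_pow (d : Fin p → Fˣ) (h : (mon d 1) ^ p = 1) : ∏ j, d j = 1 := by
  have hpp : ((p : ℕ) : Fin p) = 0 := by simp
  rw [mon_one_pow, hpp, ← mon_one] at h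
  obtain ⟨h1, -⟩ := mon_inj h
  have h2 := congrFun h1 0
  simp only [zero_add] at h2
  rw [← Fin.prod_univ_eq_prod_range (fun t => d (t : Fin p)) p] at h2
  simp only [Fin.cast_val_eq_self] at h2
  exact h2

/-- the tail products -/
noncomputable def tailProd (d : Fin p → Fˣ) (i : Fin p) : Fˣ :=
  ∏ t ∈ Finset.univ.filter (fun t : Fin p => i ≤ t), d t

lemma tailProd_rec (d : Fin p → Fˣ) (hprod : ∏ j, d j = 1) (i : Fin p) :
    tailProd d i = d i * tailProd d (i + 1) := by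
  have hp : p.Prime := Fact.out
  by_cases hi : i.val + 1 < p
  · have hval : (i + 1).val = i.val + 1 := by
      rw [Fin.val_add, Fin.val_one', Nat.mod_eq_of_lt hp.one_lt, Nat.mod_eq_of_lt hi]
    have hset : (Finset.univ.filter fun t : Fin p => i ≤ t)
        = insert i (Finset.univ.filter fun t : Fin p => i + 1 ≤ t) := by
      ext t
      simp only [Finset.mem_filter, Finset.mem_univ, true_and, Finset.mem_insert, Fin.le_def,
        Fin.ext_iff, hval]
      omega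
    rw [tailProd, hset, Finset.prod_insert, ← tailProd]
    simp only [Finset.mem_filter, Finset.mem_univ, true_and, Fin.le_def, hval]
    omega
  · have hi1 : i + 1 = 0 := by
      apply Fin.ext
      rw [Fin.val_add, Fin.val_one', Nat.mod_eq_of_lt hp.one_lt]
      have := i.2
      have e : i.val + 1 = p := by omega
      rw [e, Nat.mod_self]
      rfl
    have h0 : tailProd d 0 = 1 := by
      rw [tailProd, ← hprod]
      congr 1
      ext t
      simp
    have hset : (Finset.univ.filter fun t : Fin p => i ≤ t) = {i} := by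
      ext t
      simp only [Finset.mem_filter, Finset.mem_univ, true_and, Finset.mem_singleton, Fin.le_def,
        Fin.ext_iff]
      have := t.2
      omega
    rw [hi1, h0, mul_one, tailProd, hset, Finset.prod_singleton]

/-- case (c): elements of order `p` outside the diagonal subgroup -/
theorem case_c (hp3 : 3 ≤ p) (ζ : Fˣ) (hζo : orderOf ζ = p) (d : Fin p → Fˣ) (k : Fin p)
    (hk : k ≠ 0) (hd : ∀ i, d i ^ p = 1) (hx : (mon d k) ^ p = 1) :
    ∃ g : GL (Fin p) F, g⁻¹ * mon d k * g ∈ Q0 F p ∧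
      g ∉ Subgroup.normalizer ((Q0 F p : Subgroup (GL (Fin p) F)) : Set (GL (Fin p) F)) := by
  have hp : p.Prime := Fact.out
  have hζ : ζ ^ p = 1 := by rw [← hζo]; exact pow_orderOf_eq_one ζ
  have hζ1 : ζ ≠ 1 := by
    rintro rfl
    rw [orderOf_one] at hζo
    exact hp.one_lt.ne hζo
  obtain ⟨m, hm⟩ := exists_nsmul_eq k hk 1
  obtain ⟨d', hd', hx'⟩ := mon_pow d k hd m
  rw [hm] at hx'
  have hx'p : (mon d' 1) ^ p = 1 := by
    rw [← hx', ← pow_mul, mul_comm, pow_mul, hx, one_pow]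
  have hprod := prod_eq_one_of_pow d' hx'p
  obtain ⟨e, hedef⟩ : ∃ e : Fin p → Fˣ, e = tailProd d' := ⟨_, rfl⟩
  have he : ∀ i, e i ^ p = 1 := by
    intro i
    rw [hedef, tailProd, ← Finset.prod_pow]
    exact Finset.prod_eq_one (fun t _ => hd' t)
  have hrec : ∀ i, e i = d' i * e (i + 1) := by
    intro i
    rw [hedef]
    exact tailProd_rec d' hprod i
  have hconj : mon e 0 * mon (fun _ => 1) 1 = mon d' 1 * mon e 0 := by
    rw [mon_mul, mon_mul, zero_add, add_zero]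
    congr 1
    funext i
    rw [mul_one]
    exact hrec i
  -- the regular diagonal element
  have hy₀ : Function.Injective (fun i : Fin p => ζ ^ i.val) := by
    intro i j hij
    apply Fin.ext
    apply pow_injOn_Iio_orderOf (x := ζ)
    · rw [hζo]; exact i.2
    · rw [hζo]; exact j.2
    · exact hij
  have hy₀p : ∀ i : Fin p, (ζ ^ i.val) ^ p = 1 := by
    intro i
    rw [← pow_mul, mul_comm, pow_mul, hζ, one_pow]
  have hv := mon_mul_vand (fun i : Fin p => ζ ^ i.val) hy₀ hy₀p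
  have hvN := vand_not_mem_normalizer hp3 ζ hζ hζ1 (fun i : Fin p => ζ ^ i.val) hy₀
  obtain ⟨V, hV⟩ : ∃ V : GL (Fin p) F, V = vand (fun i : Fin p => ζ ^ i.val) hy₀ := ⟨_, rfl⟩
  rw [← hV] at hv hvN
  obtain ⟨A, hA⟩ : ∃ A : GL (Fin p) F, A = mon e 0 := ⟨_, rfl⟩
  obtain ⟨B, hB⟩ : ∃ B : GL (Fin p) F, B = mon d' 1 := ⟨_, rfl⟩
  obtain ⟨Y, hY⟩ : ∃ Y : GL (Fin p) F, Y = mon (fun i : Fin p => ζ ^ i.val) 0 := ⟨_, rfl⟩
  obtain ⟨Pm, hPm⟩ : ∃ Pm : GL (Fin p) F, Pm = mon (fun _ => 1) (-1) := ⟨_, rfl⟩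
  have hC : mon (fun _ : Fin p => (1 : Fˣ)) 1 = Pm⁻¹ := by
    have h1 : (fun i : Fin p => ((fun _ : Fin p => (1 : Fˣ)) (i - -1))⁻¹) = fun _ => 1 := by
      funext i
      simp
    rw [hPm, mon_inv, h1, neg_neg]
  rw [← hA, ← hB, hC] at hconj
  rw [← hY, ← hPm] at hv
  have hAQ : A ∈ Q0 F p := by rw [hA]; exact mon_mem_Q0 _ _ he
  have hYQ : Y ∈ Q0 F p := by rw [hY]; exact mon_mem_Q0 _ _ hy₀p
  have e1 : A⁻¹ * B * A = Pm⁻¹ := by
    rw [mul_assoc, ← hconj, ← mul_assoc, inv_mul_cancel, one_mul]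
  have e2 : V * Pm * V⁻¹ = Y := by
    rw [← hv, mul_inv_cancel_right]
  have e3 : (A * V⁻¹)⁻¹ * B * (A * V⁻¹) = Y⁻¹ := by
    calc (A * V⁻¹)⁻¹ * B * (A * V⁻¹) = V * (A⁻¹ * B * A) * V⁻¹ := by group
      _ = V * Pm⁻¹ * V⁻¹ := by rw [e1]
      _ = (V * Pm * V⁻¹)⁻¹ := by group
      _ = Y⁻¹ := by rw [e2]
  -- `x` is a power of `x'`
  have hxpow : mon d k = B ^ k.val := by
    rw [hB, ← hx', ← pow_mul]
    obtain ⟨N, hN⟩ : ∃ N, N = m * k.val := ⟨_, rfl⟩
    rw [← hN]
    have hNk : N • k = k := by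
      rw [hN, mul_comm, mul_nsmul', hm]
      simp
    have hN0 : N ≠ 0 := by
      rintro rfl
      rw [zero_nsmul] at hNk
      exact hk hNk.symm
    have hN1 : (N - 1) • k = 0 := by
      have : (N - 1) • k + k = k := by
        rw [← succ_nsmul, Nat.sub_add_cancel (Nat.pos_of_ne_zero hN0), hNk]
      exact add_eq_right.1 this
    have hord : addOrderOf k = p := addOrderOf_eq_prime (prime_nsmul k) hk
    have hdvd : p ∣ N - 1 := by
      rw [← hord]
      exact addOrderOf_dvd_iff_nsmul_eq_zero.2 hN1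
    obtain ⟨t, ht⟩ := hdvd
    have : N = p * t + 1 := by
      have := Nat.pos_of_ne_zero hN0
      omega
    rw [this, pow_succ, pow_mul, hx, one_pow, one_mul]
  refine ⟨A * V⁻¹, ?_, ?_⟩
  · rw [hxpow, ← conj_pow_inv, e3]
    exact Subgroup.pow_mem _ (Subgroup.inv_mem _ hYQ) _
  · intro hmem
    apply hvN
    have h1 : A⁻¹ * (A * V⁻¹) ∈ Subgroup.normalizer
        ((Q0 F p : Subgroup (GL (Fin p) F)) : Set (GL (Fin p) F)) :=
      Subgroup.mul_mem _ (Subgroup.inv_mem _ (Subgroup.le_normalizer hAQ)) hmem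
    rw [inv_mul_cancel_left] at h1
    have := Subgroup.inv_mem _ h1
    rwa [inv_inv] at this

theorem exists_conj (hodd : p ≠ 2) (ζ : Fˣ) (hζo : orderOf ζ = p) (x : GL (Fin p) F)
    (hx : x ∈ Q0 F p) :
    ∃ g : GL (Fin p) F, g⁻¹ * x * g ∈ Q0 F p ∧
      g ∉ Subgroup.normalizer ((Q0 F p : Subgroup (GL (Fin p) F)) : Set (GL (Fin p) F)) := by
  have hp : p.Prime := Fact.out
  have hp3 : 3 ≤ p := by
    have := hp.two_le
    omega
  have hζ : ζ ^ p = 1 := by rw [← hζo]; exact pow_orderOf_eq_one ζ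
  have hζ1 : ζ ≠ 1 := by
    rintro rfl
    rw [orderOf_one] at hζo
    exact hp.one_lt.ne hζo
  obtain ⟨d, k, hd, rfl⟩ := hx
  by_cases hk : k = 0
  · subst hk
    by_cases hinj : Function.Injective d
    · exact case_b hp3 ζ hζ hζ1 d hd hinj
    · rw [Function.Injective] at hinj
      push Not at hinj
      obtain ⟨i, j, hij, hne⟩ := hinj
      exact case_a ζ hζ hζ1 d hd i j hne hij
  · obtain ⟨c, hc, hpow⟩ := pow_prime_scalar d k hk hd
    by_cases hc1 : c = 1
    · subst hc1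
      rw [mon_one] at hpow
      exact case_c hp3 ζ hζo d k hk hd hpow
    · exact case_d hodd d k hk hd c hc hc1 hpow
        (fun g h => not_mem_normalizer_of_star hp3 ζ hζ hζ1 g h)

theorem gl_redundant [Fintype F] (hodd : p ≠ 2) (h1 : p ∣ Fintype.card F - 1)
    (h2 : ¬ p ^ 2 ∣ Fintype.card F - 1) :
    ∃ Q : Sylow p (GL (Fin p) F), Redundant Q := by
  classical
  obtain ⟨ζ, hζo⟩ := exists_zeta (F := F) h1
  refine ⟨sylowQ0 hodd h1 h2, ?_⟩
  intro x hx
  by_cases hxQ : x ∈ sylowQ0 hodd h1 h2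
  · have hxQ' : x ∈ Q0 F p := hxQ
    obtain ⟨g, hg1, hg2⟩ := exists_conj hodd ζ hζo x hxQ'
    refine ⟨g • sylowQ0 hodd h1 h2, ?_, ?_⟩
    · intro h
      rw [Sylow.smul_eq_iff_mem_normalizer] at h
      exact hg2 h
    · rw [mem_smul_sylow]
      exact hg1
  · obtain ⟨P, hP⟩ := exists_sylow_mem x hx
    exact ⟨P, fun h => hxQ (h ▸ hP), hP⟩

end Cfsg.Agent.Lib.Helper6.GLpMon
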