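import Mathlib
import Cfsg.Agent.Lib.Helper6.GUCDefs

set_option autoImplicit false
set_option linter.unusedSectionVars false
set_option linter.unusedVariables false

/-!
Farm GUC (statement S2646), unit B: `piFun` is a surjective ring homomorphism on the commutant,
with nil kernel.
-/

namespace Cfsg.Agent.Lib.Helper6.GUC

open Matrix Cfsg.Agent.Lib.Helper6.GLC

universe u

variable {K : Type u} [Field K] {t : ℕ} (d : Fin t → ℕ) (hd : ∀ k, 1 ≤ d k) (N : ℕ)

theorem piFun_apply (x : Matrix (Idx d) (Idx d) K) (i : Fin N)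
    (k l : {k : Fin t // d k = (i : ℕ)}) :
    piFun d hd N x i k l = x ⟨k.1, ⟨0, hd k.1⟩⟩ ⟨l.1, ⟨0, hd l.1⟩⟩ := rfl

theorem piFun_one : piFun d hd N (1 : Matrix (Idx d) (Idx d) K) = 1 := by
  funext i
  ext k l
  rw [piFun_apply, Pi.one_apply, Matrix.one_apply, Matrix.one_apply]
  by_cases h : k = l
  · subst h
    rw [if_pos rfl, if_pos rfl]
  · rw [if_neg h, if_neg]
    intro h'
    apply h
    apply Subtype.ext
    exact congrArg Sigma.fst h'

theorem piFun_add (x y : Matrix (Idx d) (Idx d) K) :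
    piFun d hd N (x + y) = piFun d hd N x + piFun d hd N y := by
  funext i
  ext k l
  rfl

theorem piFun_sub (x y : Matrix (Idx d) (Idx d) K) :
    piFun d hd N (x - y) = piFun d hd N x - piFun d hd N y := by
  funext i
  ext k l
  rfl

/-- entries in the first row of a block of an element of the commutant -/
theorem Rc_apply_zero_row {x : Matrix (Idx d) (Idx d) K} (hx : x ∈ Rc K d) (k : Fin t)
    (z : Idx d) (hz : (z.2 : ℕ) ≠ 0 ∨ d z.1 < d k) : x ⟨k, ⟨0, hd k⟩⟩ z = 0 := by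
  rw [← toMat_params d hd x ((mem_Rc d x).1 hx), toMat_apply]
  apply dif_neg
  rintro ⟨h1, h2⟩
  simp only at h1 h2
  rcases hz with hz | hz
  · omega
  · omega

/-- entries in the first column of a block of an element of the commutant -/
theorem Rc_apply_zero_col {x : Matrix (Idx d) (Idx d) K} (hx : x ∈ Rc K d) (l : Fin t)
    (m : Fin t) (hm : d l < d m) : x ⟨m, ⟨0, hd m⟩⟩ ⟨l, ⟨0, hd l⟩⟩ = 0 := by
  rw [← toMat_params d hd x ((mem_Rc d x).1 hx), toMat_apply]
  apply dif_neg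
  rintro ⟨h1, h2⟩
  simp only at h1 h2
  omega

theorem piFun_mul {x y : Matrix (Idx d) (Idx d) K} (hx : x ∈ Rc K d) (hy : y ∈ Rc K d) :
    piFun d hd N (x * y) = piFun d hd N x * piFun d hd N y := by
  classical
  funext i
  ext k l
  rw [piFun_apply, Pi.mul_apply, Matrix.mul_apply, Matrix.mul_apply]
  let emb : {k : Fin t // d k = (i : ℕ)} ↪ Idx d :=
    ⟨fun m => ⟨m.1, ⟨0, hd m.1⟩⟩, fun m m' h => Subtype.ext (congrArg Sigma.fst h)⟩
  have h1 : ∑ m : {k : Fin t // d k = (i : ℕ)}, piFun d hd N x i k m * piFun d hd N y i m l =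
      ∑ z ∈ Finset.univ.map emb, x ⟨k.1, ⟨0, hd k.1⟩⟩ z * y z ⟨l.1, ⟨0, hd l.1⟩⟩ := by
    rw [Finset.sum_map]
    rfl
  rw [h1]
  symm
  apply Finset.sum_subset (Finset.subset_univ _)
  intro z _ hz
  obtain ⟨m, r⟩ := z
  by_cases hr : (r : ℕ) = 0
  · have hr' : r = ⟨0, hd m⟩ := Fin.ext hr
    subst hr'
    have hmi : d m ≠ (i : ℕ) := by
      intro hmi
      apply hz
      rw [Finset.mem_map]
      exact ⟨⟨m, hmi⟩, Finset.mem_univ _, rfl⟩
    rcases Nat.lt_or_gt_of_ne hmi with h | h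
    · rw [Rc_apply_zero_row d hd hx k.1 ⟨m, ⟨0, hd m⟩⟩ (Or.inr (by rw [k.2]; exact h)), zero_mul]
    · rw [Rc_apply_zero_col d hd hy l.1 m (by rw [l.2]; exact h), mul_zero]
  · rw [Rc_apply_zero_row d hd hx k.1 ⟨m, r⟩ (Or.inl hr), zero_mul]

theorem piFun_surjective (hN : ∀ k, d k < N) (b : Bq K d N) :
    ∃ x ∈ Rc K d, piFun d hd N x = b := by
  refine ⟨toMat d (build d N hN (fun _ => 0) b), (mem_Rc d _).2 (toMat_comm d _), ?_⟩
  funext i
  unfold piFun
  rw [params_toMat]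
  exact Gbar_build d hd N hN _ b i

theorem piFun_pow {x : Matrix (Idx d) (Idx d) K} (hx : x ∈ Rc K d) (k : ℕ) :
    piFun d hd N (x ^ k) = piFun d hd N x ^ k := by
  induction k with
  | zero => rw [pow_zero, pow_zero, piFun_one]
  | succ k ih =>
    rw [pow_succ, pow_succ, piFun_mul d hd N (Subring.pow_mem _ hx k) hx, ih]

/-- `1 - y` is invertible for `y` in the kernel -/
theorem isUnit_one_sub_of_piFun_eq_zero (hN : ∀ k, d k < N)
    {y : Matrix (Idx d) (Idx d) K} (hy : y ∈ Rc K d) (h0 : piFun d hd N y = 0) :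
    IsUnit (1 - y) := by
  have h1 : (1 - y) ∈ Rc K d := Subring.sub_mem _ (Subring.one_mem _) hy
  rw [Matrix.isUnit_iff_isUnit_det, ← toMat_params d hd (1 - y) ((mem_Rc d _).1 h1),
    isUnit_det_iff d hd]
  intro i
  by_cases hi : i < N
  · have : Gbar d hd (params d hd (1 - y)) i = 1 := by
      have h2 := piFun_sub d hd N (1 : Matrix (Idx d) (Idx d) K) y
      rw [h0, piFun_one, sub_zero] at h2
      exact congrFun h2 ⟨i, hi⟩
    rw [this, Matrix.det_one]
    exact isUnit_one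
  · exact isUnit_Gbar_of_ge d hd N hN _ i (by omega)

theorem isNilpotent_of_piFun_eq_zero [Finite K] (hN : ∀ k, d k < N)
    {x : Matrix (Idx d) (Idx d) K} (hx : x ∈ Rc K d) (h0 : piFun d hd N x = 0) :
    IsNilpotent x := by
  classical
  obtain ⟨a, b, hab, hpow⟩ := Finite.exists_ne_map_eq_of_infinite (fun k : ℕ => x ^ k)
  change x ^ a = x ^ b at hpow
  wlog hlt : a < b generalizing a b
  · exact this b a hab.symm hpow.symm (by omega)
  obtain ⟨c, rfl⟩ : ∃ c, b = a + c := ⟨b - a, by omega⟩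
  have hc : 1 ≤ c := by omega
  have hy : x ^ c ∈ Rc K d := Subring.pow_mem _ hx c
  have hy0 : piFun d hd N (x ^ c) = 0 := by
    rw [piFun_pow d hd N hx, h0, zero_pow (by omega)]
  obtain ⟨v, hv⟩ := isUnit_one_sub_of_piFun_eq_zero d hd N hN hy hy0
  refine ⟨a, ?_⟩
  have h1 : x ^ a * (1 - x ^ c) = 0 := by
    rw [mul_sub, mul_one, ← pow_add, ← hpow, sub_self]
  rw [← hv] at h1
  have := congrArg (· * ((v⁻¹ : (Matrix (Idx d) (Idx d) K)ˣ) : Matrix (Idx d) (Idx d) K)) h1
  simpa [mul_assoc] using this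

end Cfsg.Agent.Lib.Helper6.GUC
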