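import Mathlib
import Cfsg.Prelude.Def_JordanBlocks
import Cfsg.Prelude.Def_LieClassical
import Cfsg.Agent.Lib.Helper6.GUCDefs
import Cfsg.Agent.Lib.Helper5.UnitConj.Unip
import Cfsg.Agent.Lib.Helper5.HermCard
import Cfsg.Agent.Lib.Helper5.HermTv
import Cfsg.Agent.Lib.Helper9.AschU16

set_option autoImplicit false
set_option linter.unusedSectionVars false
set_option linter.unusedVariables false

/-!
Farm GUC (statement S2646): STUBS. Every `sorry` is (part of) a unit of the farm. The real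
definitions are in `Lib/Helper6/GUCDefs.lean` (ct, Cc, H0, H0inv, cdag, dag, Rc, Bq, piFun, ctB),
the abstract counting lemma `card_unitary` in `Lib/Helper6/GUCCount.lean` (done),
the Toeplitz parametrisation of the commutant in `Lib/Helper6/GLC1-3.lean` (done, S2581).

PAPER PROOF. F = F_{q^2}, σ = x ↦ x^q, d = block sizes, Idx d = Σ k, Fin (d k), N = Nil K d the nilpotent
matrix with N e_{k,r} = e_{k,r+1} (column (k,r) has its 1 in row (k,r+1)), R = Rc K d = commutant of N =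
{toMat d c | c : Par d → K} (GLC1: toMat_params, params_toMat, toMat_comm),
  (toMat d c) ((k,r),(l,s)) = c ((k, r - s), l) if s ≤ r and d k ≤ r - s + d l, else 0.
Model form H0: H0 ((k,r),(k,r')) = (-1)^r ε^(d k - 1) if r + r' + 1 = d k, else 0, with ε ≠ 0, σ ε = -ε.
H0 is hermitian, H0inv is its inverse, ct N * H0 = -(H0 * N), i.e. the adjoint dag x = H0inv * ct x * H0
satisfies dag N = -N; dag is an involutive σ-semilinear anti-automorphism of the full matrix ring which
preserves R, and on R it is given by `cdag` on the parameters (entrywise check, see unit C); on the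
"top" parameters ((k,0),l), d k = d l = i it is the conjugate transpose: Gbar (cdag c) i = ct (Gbar c i).
pi = (Gbar_i)_i : R → B = Π_i M_{a_i}(F) is a surjective ring hom with nil kernel J (GLC2/3: build,
isUnit_det_iff) and pi (dag x) = ctB (pi x). By `card_unitary`:
  |U(R)| * |Sym J| = |U(B)| * |J|,  |J| = (q^2)^γ, |Sym J|^2 = |J|, U(B) = Π_i GU_{a_i}(q) (standard form).
Model element: a with a + σ a = 1, P = 1 + a N, Q = 1 - σ a N = dag P, u' = P Q^{-1}: dag u' * u' = 1,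
u' - 1 = N Q^{-1}, commutant of u' = R, rank (u' - 1)^k = rank N^k. Orthonormalizer T of H0 (helper9
`exists_orthonormalizer` after reindexing by e) transports u' to u0 ∈ GU_n(q) with C_GU(u0) ≃ U(R);
u0 and u are unipotent with the same ranks, hence GL-conjugate (helper5 `isConj_of_rank_eq`), hence
GU-conjugate (helper5 `gu_isConj_of_gl_isConj`), hence |C(u)| = |C(u0)| = |U(R)|.
-/

namespace Cfsg.Agent.Lib.Helper6.GUCStub

open Matrix Cfsg.Agent.Lib.Helper6.GLC Cfsg.Agent.Lib.Helper6.GUC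

universe u

variable {K : Type u} [Field K] (σ : K →+* K) {t : ℕ}

/-! ## Unit C: the model form and the involution on the parameters (pure entrywise matrix checks) -/

section C

variable (hσ : ∀ a, σ (σ a) = a) {ε : K} (hε0 : ε ≠ 0) (hε : σ ε = -ε) (d : Fin t → ℕ)

theorem Cc_ne_zero (hε0 : ε ≠ 0) (i : ℕ) : Cc ε i ≠ 0 := sorry

theorem Cc_conj (hε : σ ε = -ε) (i : ℕ) : σ (Cc ε i) = (-1) ^ (i - 1) * Cc ε i := sorry

theorem H0_herm (hε : σ ε = -ε) : ct σ (H0 ε d) = H0 ε d := sorry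

theorem H0_mul_H0inv (hε0 : ε ≠ 0) : H0 ε d * H0inv ε d = 1 := sorry

theorem H0inv_mul_H0 (hε0 : ε ≠ 0) : H0inv ε d * H0 ε d = 1 := sorry

theorem ct_Nil_mul_H0 : ct σ (Nil K d) * H0 ε d = -(H0 ε d * Nil K d) := sorry

/-- the adjoint of `toMat d c` is `toMat d (cdag c)`; both sides at `((k,r),(l,s))` are
`(-1)^(d l - 1 - s) * Cc (d l) * σ (c ((l, d l - 1 - s - r), k))` if `r + s + 1 ≤ min (d k) (d l)`, else 0 -/
theorem H0_mul_toMat_cdag (hε0 : ε ≠ 0) (hε : σ ε = -ε) (c : Par d → K) :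
    H0 ε d * toMat d (cdag σ ε d c) = ct σ (toMat d c) * H0 ε d := sorry

theorem Gbar_cdag (hε0 : ε ≠ 0) (hd : ∀ k, 1 ≤ d k) (c : Par d → K) (i : ℕ) :
    Gbar d hd (cdag σ ε d c) i = ct σ (Gbar d hd c i) := sorry

end C

/-! ## Unit D: the adjoint `dag` (formal consequences of unit C + ct lemmas) -/

section D

variable (hσ : ∀ a, σ (σ a) = a) {ε : K} (hε0 : ε ≠ 0) (hε : σ ε = -ε) (d : Fin t → ℕ)

theorem dag_isInvol (hσ : ∀ a, σ (σ a) = a) (hε0 : ε ≠ 0) (hε : σ ε = -ε) :
    IsInvol (dag σ ε d) := sorry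

theorem dag_smul (a : K) (x : Matrix (Idx d) (Idx d) K) :
    dag σ ε d (a • x) = σ a • dag σ ε d x := sorry

theorem dag_Nil (hε0 : ε ≠ 0) : dag σ ε d (Nil K d) = -Nil K d := sorry

theorem dag_mem_Rc (hσ : ∀ a, σ (σ a) = a) (hε0 : ε ≠ 0) (hε : σ ε = -ε)
    {x : Matrix (Idx d) (Idx d) K} (hx : x ∈ Rc K d) : dag σ ε d x ∈ Rc K d := sorry

theorem dag_toMat (hε0 : ε ≠ 0) (hε : σ ε = -ε) (c : Par d → K) :
    dag σ ε d (toMat d c) = toMat d (cdag σ ε d c) := sorry

theorem dag_mul_self_iff (hε0 : ε ≠ 0) (x : Matrix (Idx d) (Idx d) K) :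
    dag σ ε d x * x = 1 ↔ ct σ x * H0 ε d * x = H0 ε d := sorry

theorem piFun_dag (hε0 : ε ≠ 0) (hε : σ ε = -ε) (hd : ∀ k, 1 ≤ d k) (N : ℕ)
    {x : Matrix (Idx d) (Idx d) K} (hx : x ∈ Rc K d) :
    piFun d hd N (dag σ ε d x) = ctB σ d N (piFun d hd N x) := sorry

end D

/-! ## Unit B: `piFun` is a surjective ring homomorphism on the commutant, with nil kernel (GLC1-3) -/

section B

variable (d : Fin t → ℕ) (hd : ∀ k, 1 ≤ d k) (N : ℕ)

theorem piFun_one : piFun d hd N (1 : Matrix (Idx d) (Idx d) K) = 1 := sorry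

theorem piFun_add (x y : Matrix (Idx d) (Idx d) K) :
    piFun d hd N (x + y) = piFun d hd N x + piFun d hd N y := sorry

/-- `(x y) ((k,0),(l,0)) = Σ_{m : d m = i} x ((k,0),(m,0)) y ((m,0),(l,0))` for `d k = d l = i`: the other
terms vanish by the shape of `toMat` -/
theorem piFun_mul {x y : Matrix (Idx d) (Idx d) K} (hx : x ∈ Rc K d) (hy : y ∈ Rc K d) :
    piFun d hd N (x * y) = piFun d hd N x * piFun d hd N y := sorry

/-- from `GLC.build` / `GLC.Gbar_build` -/
theorem piFun_surjective (hN : ∀ k, d k < N) (b : Bq K d N) :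
    ∃ x ∈ Rc K d, piFun d hd N x = b := sorry

/-- `1 - y` is a unit for `y` in the kernel (`GLC.isUnit_det_iff`), and in a finite ring `x^a = x^(a+b)` -/
theorem isNilpotent_of_piFun_eq_zero [Finite K] (hN : ∀ k, d k < N)
    {x : Matrix (Idx d) (Idx d) K} (hx : x ∈ Rc K d) (h0 : piFun d hd N x = 0) :
    IsNilpotent x := sorry

end B

/-! ## Unit U (helper6): the count from `card_unitary` -/

section U

variable [Fintype K] (hσ : ∀ a, σ (σ a) = a) {ε : K} (hε0 : ε ≠ 0) (hε : σ ε = -ε)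
  (d : Fin t → ℕ) (hd : ∀ k, 1 ≤ d k) (N : ℕ)

theorem card_URc (hσ : ∀ a, σ (σ a) = a) (hε0 : ε ≠ 0) (hε : σ ε = -ε) (hN : ∀ k, d k < N)
    {lam : K} (hlam : lam + σ lam = 1) :
    Nat.card {x : Matrix (Idx d) (Idx d) K // x ∈ Rc K d ∧ dag σ ε d x * x = 1} *
      Nat.card {x : Matrix (Idx d) (Idx d) K // x ∈ Rc K d ∧ piFun d hd N x = 0 ∧
        dag σ ε d x = x} =
    Nat.card {b : Bq K d N // ctB σ d N b * b = 1} *
      Nat.card {x : Matrix (Idx d) (Idx d) K // x ∈ Rc K d ∧ piFun d hd N x = 0} := sorry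

end U

/-! ## Unit J: the sizes of the kernel, its symmetric part and the unitary group of the quotient -/

section J

variable [Fintype K] (d : Fin t → ℕ) (hd : ∀ k, 1 ≤ d k) (N : ℕ)

/-- `x ↦ params x` restricted to the non-`isE` parameters is a bijection from the kernel onto all
functions (`GLC.build` with `m = 0`) -/
theorem card_ker (hN : ∀ k, d k < N) :
    Nat.card {x : Matrix (Idx d) (Idx d) K // x ∈ Rc K d ∧ piFun d hd N x = 0} =
      Fintype.card K ^ Nat.card {p : Par d // ¬ isE d p.1} := sorry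

/-- `(s, s') ↦ s + θ s'` is a bijection `Sym × Sym → J` for `θ` with `σ θ ≠ θ` -/
theorem card_symker_sq (hσ : ∀ a, σ (σ a) = a) {ε : K} (hε0 : ε ≠ 0) (hε : σ ε = -ε)
    {θ : K} (hθ : σ θ ≠ θ) :
    Nat.card {x : Matrix (Idx d) (Idx d) K // x ∈ Rc K d ∧ piFun d hd N x = 0 ∧
        dag σ ε d x = x} ^ 2 =
      Nat.card {x : Matrix (Idx d) (Idx d) K // x ∈ Rc K d ∧ piFun d hd N x = 0} := sorry

/-- each factor is a standard unitary group: reindex `{k // d k = i}` by `Fin a_i` and use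
`Helper5.UnitConj.mem_GU_iff_cT` -/
theorem card_UB {q : ℕ} (hK : Fintype.card K = q ^ 2) :
    Nat.card {b : Bq K d N // ctB (Cfsg.Agent.Lib.Helper5.HermBridge.sigma hK) d N b * b = 1} =
      ∏ i : Fin N, Nat.card ↥(Cfsg.GU (Finset.univ.filter (fun k : Fin t => d k = (i : ℕ))).card K q) :=
  sorry

end J

/-! ## Unit E: the model unitary element and the transport to `GU_n(q)` -/

section E

variable [Fintype K] {q n : ℕ} (hK : Fintype.card K = q ^ 2) (d : Fin t → ℕ)

/-- E1: the Cayley transform `u' = (1 + a N) (1 - σ a N)⁻¹` with `a + σ a = 1` -/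
theorem exists_model_unitary (hσ : ∀ a, σ (σ a) = a) {ε : K} (hε0 : ε ≠ 0) (hε : σ ε = -ε)
    {a : K} (ha : a + σ a = 1) :
    ∃ u' : Matrix (Idx d) (Idx d) K, dag σ ε d u' * u' = 1 ∧
      (∀ x : Matrix (Idx d) (Idx d) K, x * u' = u' * x ↔ x ∈ Rc K d) ∧
      ∃ w w' : Matrix (Idx d) (Idx d) K, w * w' = 1 ∧ w' * w = 1 ∧ w * Nil K d = Nil K d * w ∧
        u' - 1 = Nil K d * w := sorry

/-- E2: transport along an orthonormalizer of `H0` and conjugacy in `GU` -/
theorem card_centralizer_eq {ε : K} (hε0 : ε ≠ 0)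
    (hε : Cfsg.Agent.Lib.Helper5.HermBridge.sigma hK ε = -ε)
    (e : Idx d ≃ Fin n) (u : ↥(Cfsg.GU n K q))
    (hu : IsConj (Matrix.reindex e e (Cfsg.jordanTypeMatrix d K))
      ((u : GL (Fin n) K) : Matrix (Fin n) (Fin n) K)) :
    Nat.card ↥(Subgroup.centralizer ({u} : Set ↥(Cfsg.GU n K q))) =
      Nat.card {x : Matrix (Idx d) (Idx d) K // x ∈ Rc K d ∧
        dag (Cfsg.Agent.Lib.Helper5.HermBridge.sigma hK) ε d x * x = 1} := sorry

end E

/-! ## Unit Z (helper6): assembly and arithmetic -/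

theorem guc_main {K : Type*} [Field K] [Fintype K] {q n t : ℕ} (hK : Fintype.card K = q ^ 2)
    (d : Fin t → ℕ) (hd : ∀ k, 1 ≤ d k) (e : ((k : Fin t) × Fin (d k)) ≃ Fin n)
    (u : ↥(Cfsg.GU n K q))
    (hu : IsConj (Matrix.reindex e e (Cfsg.jordanTypeMatrix d K))
      ((u : GL (Fin n) K) : Matrix (Fin n) (Fin n) K)) :
    (Nat.card ↥(Subgroup.centralizer ({u} : Set ↥(Cfsg.GU n K q))) : ℤ) =
      (q : ℤ) ^ (2 * (∑ i ∈ Finset.range (Finset.univ.sup d + 1),
          ∑ j ∈ Finset.range (Finset.univ.sup d + 1),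
            if i < j then i * (Finset.univ.filter (fun k : Fin t => d k = i)).card *
              (Finset.univ.filter (fun k : Fin t => d k = j)).card else 0) +
        ∑ i ∈ Finset.range (Finset.univ.sup d + 1),
          (i - 1) * (Finset.univ.filter (fun k : Fin t => d k = i)).card ^ 2) *
      ∏ i ∈ Finset.range (Finset.univ.sup d + 1),
        ((q : ℤ) ^ ((Finset.univ.filter (fun k : Fin t => d k = i)).card *
            ((Finset.univ.filter (fun k : Fin t => d k = i)).card - 1) / 2) *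
          ∏ j : Fin (Finset.univ.filter (fun k : Fin t => d k = i)).card,
            ((q : ℤ) ^ ((j : ℕ) + 1) - (-1) ^ ((j : ℕ) + 1))) := sorry

end Cfsg.Agent.Lib.Helper6.GUCStub
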