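import Mathlib
import Cfsg.Agent.Lib.Helper6.GUCB
import Cfsg.Agent.Lib.Helper3.GUCD

set_option autoImplicit false
set_option linter.unusedSectionVars false
set_option linter.unusedVariables false

/-!
Farm GUC (statement S2646), unit U: the count of the unitary elements of the commutant from the
abstract lemma `card_unitary`.
-/

namespace Cfsg.Agent.Lib.Helper6.GUC

open Matrix Cfsg.Agent.Lib.Helper6.GLC Cfsg.Agent.Lib.Helper3.GUC

universe u

variable {K : Type u} [Field K] (σ : K →+* K) {t : ℕ}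

theorem ctB_isInvol (hσ : ∀ a, σ (σ a) = a) (d : Fin t → ℕ) (N : ℕ) :
    IsInvol (ctB (K := K) σ d N) where
  add := fun x y => by
    funext i
    exact ct_add σ (x i) (y i)
  mul := fun x y => by
    funext i
    exact ct_mul σ (x i) (y i)
  one := by
    funext i
    exact ct_one σ
  invol := fun x => by
    funext i
    exact ct_ct σ hσ (x i)

section U

variable [Fintype K] {ε : K} (d : Fin t → ℕ) (hd : ∀ k, 1 ≤ d k) (N : ℕ)

theorem card_URc (hσ : ∀ a, σ (σ a) = a) (hε0 : ε ≠ 0) (hε : σ ε = -ε) (hN : ∀ k, d k < N)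
    {lam : K} (hlam : lam + σ lam = 1) :
    Nat.card {x : Matrix (Idx d) (Idx d) K // x ∈ Rc K d ∧ dag σ ε d x * x = 1} *
      Nat.card {x : Matrix (Idx d) (Idx d) K // x ∈ Rc K d ∧ piFun d hd N x = 0 ∧
        dag σ ε d x = x} =
    Nat.card {b : Bq K d N // ctB σ d N b * b = 1} *
      Nat.card {x : Matrix (Idx d) (Idx d) K // x ∈ Rc K d ∧ piFun d hd N x = 0} := by
  classical
  have hI := dag_isInvol σ d hσ hε0 hε
  let st : Rc K d → Rc K d := fun x => ⟨dag σ ε d x.1, dag_mem_Rc σ d hσ hε0 hε x.2⟩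
  have hst : IsInvol st :=
    { add := fun x y => Subtype.ext (hI.add x.1 y.1)
      mul := fun x y => Subtype.ext (hI.mul x.1 y.1)
      one := Subtype.ext hI.one
      invol := fun x => Subtype.ext (hI.invol x.1) }
  have hz : piFun d hd N (0 : Matrix (Idx d) (Idx d) K) = 0 := by
    have := piFun_add (K := K) d hd N 0 0
    rw [add_zero] at this
    exact left_eq_add.1 this
  let π : Rc K d →+* Bq K d N :=
    { toFun := fun x => piFun d hd N x.1
      map_one' := piFun_one d hd N
      map_mul' := fun x y => piFun_mul d hd N x.2 y.2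
      map_zero' := hz
      map_add' := fun x y => piFun_add d hd N x.1 y.1 }
  have hπ : Function.Surjective π := by
    intro b
    obtain ⟨x, hx, hxb⟩ := piFun_surjective d hd N hN b
    exact ⟨⟨x, hx⟩, hxb⟩
  have hπs : ∀ x, π (st x) = ctB σ d N (π x) := fun x => piFun_dag σ d hε0 hε hd N x.2
  have hnil : ∀ x, π x = 0 → IsNilpotent x := by
    intro x hx
    obtain ⟨k, hk⟩ := isNilpotent_of_piFun_eq_zero d hd N hN x.2 hx
    refine ⟨k, Subtype.ext ?_⟩
    rw [SubmonoidClass.coe_pow, hk]
    rfl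
  have hl1 : (lam • (1 : Matrix (Idx d) (Idx d) K)) ∈ Rc K d := by
    rw [mem_Rc, smul_mul_assoc, one_mul, mul_smul_comm, mul_one]
  let lamR : Rc K d := ⟨lam • 1, hl1⟩
  have hlc : ∀ x : Rc K d, lamR * x = x * lamR := by
    intro x
    apply Subtype.ext
    show lam • (1 : Matrix (Idx d) (Idx d) K) * x.1 = x.1 * lam • (1 : Matrix (Idx d) (Idx d) K)
    rw [smul_mul_assoc, one_mul, mul_smul_comm, mul_one]
  have hl1' : lamR + st lamR = 1 := by
    apply Subtype.ext
    show lam • (1 : Matrix (Idx d) (Idx d) K) + dag σ ε d (lam • 1) = 1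
    rw [dag_smul, hI.one, ← add_smul, hlam, one_smul]
  have key := card_unitary hst (ctB_isInvol σ hσ d N) π hπ hπs hnil hlc hl1'
  have e1 : Nat.card {x : Rc K d // st x * x = 1} =
      Nat.card {x : Matrix (Idx d) (Idx d) K // x ∈ Rc K d ∧ dag σ ε d x * x = 1} := by
    refine Nat.card_congr ((Equiv.subtypeEquivRight ?_).trans
      (Equiv.subtypeSubtypeEquivSubtypeInter (fun x => x ∈ Rc K d)
        (fun x => dag σ ε d x * x = 1)))
    intro x
    exact Subtype.ext_iff
  have e2 : Nat.card {x : Rc K d // π x = 0 ∧ st x = x} =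
      Nat.card {x : Matrix (Idx d) (Idx d) K // x ∈ Rc K d ∧ piFun d hd N x = 0 ∧
        dag σ ε d x = x} := by
    refine Nat.card_congr ((Equiv.subtypeEquivRight ?_).trans
      (Equiv.subtypeSubtypeEquivSubtypeInter (fun x => x ∈ Rc K d)
        (fun x => piFun d hd N x = 0 ∧ dag σ ε d x = x)))
    intro x
    exact and_congr Iff.rfl Subtype.ext_iff
  have e3 : Nat.card {x : Rc K d // π x = 0} =
      Nat.card {x : Matrix (Idx d) (Idx d) K // x ∈ Rc K d ∧ piFun d hd N x = 0} := by
    refine Nat.card_congr (Equiv.subtypeSubtypeEquivSubtypeInter (fun x => x ∈ Rc K d)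
        (fun x => piFun d hd N x = 0))
  rw [← e1, ← e2, ← e3]
  exact key

end U

end Cfsg.Agent.Lib.Helper6.GUC
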