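import Mathlib
import Cfsg.Prelude.Def_JordanBlocks
import Cfsg.Prelude.Def_LieClassical
import Cfsg.Agent.Lib.Helper6.GUCU
import Cfsg.Agent.Lib.Helper4.GUCJ2
import Cfsg.Agent.Lib.Helper9.GUCJ1
import Cfsg.Agent.Lib.Helper9.GUCJ3
import Cfsg.Agent.Lib.Helper8.GUCE2
import Cfsg.Agent.Lib.Helper5.HermCard
import Cfsg.Agent.Lib.Helper5.HermTv
import Cfsg.Agent.Lib.Helper5.UnitConj.Fixed

set_option autoImplicit false
set_option linter.unusedSectionVars false
set_option linter.unusedVariables false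

/-!
Farm GUC (statement S2646), unit Z: assembly.
-/

namespace Cfsg.Agent.Lib.Helper6.GUC

open Matrix Cfsg.Agent.Lib.Helper6.GLC Cfsg.Agent.Lib.Helper3.GUC

/-- the exponent `γ` in terms of the non-`isE` parameters -/
theorem card_nonE_eq {t : ℕ} (d : Fin t → ℕ) (N : ℕ) (hN : ∀ k, d k < N) :
    Nat.card {p : Par d // ¬ isE d p.1} =
      2 * (∑ i ∈ Finset.range N, ∑ j ∈ Finset.range N,
          if i < j then i * (Finset.univ.filter (fun k : Fin t => d k = i)).card *
            (Finset.univ.filter (fun k : Fin t => d k = j)).card else 0) +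
        ∑ i ∈ Finset.range N,
          (i - 1) * (Finset.univ.filter (fun k : Fin t => d k = i)).card ^ 2 := by
  rw [card_nonE]
  rw [← arith (fun i => (Finset.univ.filter (fun k : Fin t => d k = i)).card) N,
    group1 d N hN (fun i => ∑ l, (min i (d l) - if i = d l then 1 else 0))]
  apply Finset.sum_congr rfl
  intro i _
  congr 1
  rw [group1 d N hN (fun j => min i j - if i = j then 1 else 0)]

/-- the order of `GU_a(q)` as an integer -/
theorem card_GU_int {K : Type*} [Field K] [Fintype K] {q : ℕ} (hK : Fintype.card K = q ^ 2)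
    (a : ℕ) :
    (Nat.card ↥(Cfsg.GU a K q) : ℤ) =
      (q : ℤ) ^ (a * (a - 1) / 2) * ∏ j : Fin a, ((q : ℤ) ^ ((j : ℕ) + 1) - (-1) ^ ((j : ℕ) + 1)) := by
  rw [Cfsg.Agent.Lib.Helper5.HermCard.card_GU hK a, Nat.cast_mul, Nat.cast_pow, Nat.cast_prod,
    Fin.prod_univ_eq_prod_range (fun j => ((q : ℤ) ^ (j + 1) - (-1) ^ (j + 1))) a]
  congr 1
  apply Finset.prod_congr rfl
  intro i _
  have hq : 1 ≤ q ^ (i + 1) := by
    have hq0 : 0 < q := by
      rcases Nat.eq_zero_or_pos q with h | h
      · subst h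
        have : 0 < Fintype.card K := Fintype.card_pos
        rw [hK] at this
        simp at this
      · exact h
    exact Nat.one_le_pow _ _ hq0
  by_cases hi : Even i
  · rw [if_pos hi, Odd.neg_one_pow (Even.add_one hi)]
    push_cast
    ring
  · rw [if_neg hi]
    have hi' : Odd i := Nat.not_even_iff_odd.1 hi
    rw [Even.neg_one_pow (Odd.add_one hi'), Nat.cast_sub hq]
    push_cast
    ring

theorem guc_main {K : Type*} [Field K] [Fintype K] {q n t : ℕ} (hK : Fintype.card K = q ^ 2)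
    (d : Fin t → ℕ) (hd : ∀ k, 1 ≤ d k) (e : ((k : Fin t) × Fin (d k)) ≃ Fin n)
    (u : ↥(Cfsg.GU n K q))
    (hu : IsConj (Matrix.reindex e e (Cfsg.jordanTypeMatrix d K))
      ((u : GL (Fin n) K) : Matrix (Fin n) (Fin n) K)) :
    (Nat.card ↥(Subgroup.centralizer ({u} : Set ↥(Cfsg.GU n K q))) : ℤ) =
      (q : ℤ) ^ (2 * (∑ i ∈ Finset.range (Finset.univ.sup d + 1),
          ∑ j ∈ Finset.range (Finset.univ.sup d + 1),
            if i < j then i * (Finset.univ.filter (fun k : Fin t => d k = i)).card *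
              (Finset.univ.filter (fun k : Fin t => d k = j)).card else 0) +
        ∑ i ∈ Finset.range (Finset.univ.sup d + 1),
          (i - 1) * (Finset.univ.filter (fun k : Fin t => d k = i)).card ^ 2) *
      ∏ i ∈ Finset.range (Finset.univ.sup d + 1),
        ((q : ℤ) ^ ((Finset.univ.filter (fun k : Fin t => d k = i)).card *
            ((Finset.univ.filter (fun k : Fin t => d k = i)).card - 1) / 2) *
          ∏ j : Fin (Finset.univ.filter (fun k : Fin t => d k = i)).card,
            ((q : ℤ) ^ ((j : ℕ) + 1) - (-1) ^ ((j : ℕ) + 1))) := by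
  classical
  set N := Finset.univ.sup d + 1 with hNdef
  have hN : ∀ k, d k < N := fun k =>
    Nat.lt_succ_of_le (Finset.le_sup (f := d) (Finset.mem_univ k))
  set σ := Cfsg.Agent.Lib.Helper5.HermBridge.sigma hK with hσdef
  have hσ : ∀ a, σ (σ a) = a := Cfsg.Agent.Lib.Helper5.HermBridge.sigma_sigma hK
  obtain ⟨ε, hε0, hεq⟩ := Cfsg.Agent.Lib.Helper5.HermTv.exists_trace_zero hK
  have hε : σ ε = -ε := hεq
  obtain ⟨lam, hlamq⟩ := Cfsg.Agent.Lib.Helper5.HermTv.exists_trace_eq hK 1 (one_pow q)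
  have hlam : lam + σ lam = 1 := hlamq
  obtain ⟨θ, hθ⟩ := Cfsg.Agent.Lib.Helper5.UnitConj.exists_moved hK
  have hq0 : 0 < q := by
    rcases Nat.eq_zero_or_pos q with h | h
    · subst h
      have : 0 < Fintype.card K := Fintype.card_pos
      rw [hK] at this
      simp at this
    · exact h
  -- the pieces
  have h1 := Cfsg.Agent.Lib.Helper8.GUC.card_centralizer_eq hK d hε0 hε e u hu
  have h2 := card_URc σ d hd N hσ hε0 hε hN hlam
  have h3 := Cfsg.Agent.Lib.Helper9.GUC.card_ker (K := K) d hd N hN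
  have h4 := Cfsg.Agent.Lib.Helper4.GUC.card_symker_sq_of σ d hd N hσ (ε := ε)
    (dag_isInvol σ d hσ hε0 hε).invol (fun x hx => dag_mem_Rc σ d hσ hε0 hε hx)
    (fun x hx => piFun_dag σ d hε0 hε hd N hx) hθ
  have h5 := Cfsg.Agent.Lib.Helper9.GUC.card_UB d N hK
  rw [card_nonE_eq d N hN, hK] at h3
  set m := 2 * (∑ i ∈ Finset.range N, ∑ j ∈ Finset.range N,
          if i < j then i * (Finset.univ.filter (fun k : Fin t => d k = i)).card *
            (Finset.univ.filter (fun k : Fin t => d k = j)).card else 0) +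
        ∑ i ∈ Finset.range N,
          (i - 1) * (Finset.univ.filter (fun k : Fin t => d k = i)).card ^ 2 with hm
  set A := Nat.card {x : Matrix (Idx d) (Idx d) K // x ∈ Rc K d ∧ dag σ ε d x * x = 1} with hA
  set S := Nat.card {x : Matrix (Idx d) (Idx d) K // x ∈ Rc K d ∧ piFun d hd N x = 0 ∧
        dag σ ε d x = x} with hS
  have hSq : S = q ^ m := by
    rw [h3] at h4
    have : S ^ 2 = (q ^ m) ^ 2 := by rw [h4]; ring
    exact Nat.pow_left_injective (n := 2) (by norm_num) this
  rw [h3, hSq, h5] at h2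
  have hAeq : A = (∏ i : Fin N,
      Nat.card ↥(Cfsg.GU (Finset.univ.filter (fun k : Fin t => d k = (i : ℕ))).card K q)) * q ^ m := by
    have hpos : 0 < q ^ m := Nat.pow_pos hq0
    apply Nat.eq_of_mul_eq_mul_right hpos
    rw [h2]
    ring
  rw [h1, hAeq, Nat.cast_mul, Nat.cast_prod, Nat.cast_pow, mul_comm]
  congr 1
  rw [Fin.prod_univ_eq_prod_range (fun i =>
    ((Nat.card ↥(Cfsg.GU (Finset.univ.filter (fun k : Fin t => d k = i)).card K q) : ℕ) : ℤ)) N]
  apply Finset.prod_congr rfl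
  intro i _
  exact card_GU_int hK _

end Cfsg.Agent.Lib.Helper6.GUC
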