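import Mathlib
import Cfsg.Agent.Lib.Helper4.CliffordTwo
import Cfsg.Agent.Lib.Helper6.BlkVanish
import Cfsg.Agent.Lib.Helper6.Mult
import Cfsg.Agent.Lib.Helper6.Orthogonality
import Cfsg.Agent.Lib.Helper6.ClassFun
import Cfsg.Agent.Lib.Helper6.Constituent

set_option autoImplicit false

/-! Twisted extensions by a nondegenerate 2-cocycle are groups of central type. -/

namespace Cfsg.Agent.Lib.Helper6.Gag

open scoped ComplexConjugate

universe u v

/-- A normalized 2-cocycle of `X` with values in the commutative group `M` (trivial action). -/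
structure Coc (X : Type u) (M : Type v) [Group X] [CommGroup M] where
  α : X → X → M
  coc : ∀ x y z : X, α x y * α (x * y) z = α y z * α x (y * z)
  one_left : ∀ y : X, α 1 y = 1
  one_right : ∀ x : X, α x 1 = 1

variable {X : Type u} {M : Type v} [Group X] [CommGroup M]

/-- nondegeneracy of a cocycle -/
def Coc.ND (c : Coc X M) : Prop :=
  ∀ x : X, x ≠ 1 → ∃ y : X, x * y = y * x ∧ c.α x y ≠ c.α y x

/-- The twisted extension of `X` by `M`. -/
@[ext] structure TwExt (c : Coc X M) where
  fst : X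
  snd : M

namespace TwExt

variable {c : Coc X M}

instance : Mul (TwExt c) := ⟨fun a b => ⟨a.fst * b.fst, a.snd * b.snd * c.α a.fst b.fst⟩⟩
instance : One (TwExt c) := ⟨⟨1, 1⟩⟩
instance : Inv (TwExt c) := ⟨fun a => ⟨a.fst⁻¹, a.snd⁻¹ * (c.α a.fst⁻¹ a.fst)⁻¹⟩⟩

theorem mul_fst (a b : TwExt c) : (a * b).fst = a.fst * b.fst := rfl
theorem mul_snd (a b : TwExt c) : (a * b).snd = a.snd * b.snd * c.α a.fst b.fst := rfl
theorem one_fst : (1 : TwExt c).fst = 1 := rfl
theorem one_snd : (1 : TwExt c).snd = 1 := rfl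
theorem inv_fst (a : TwExt c) : a⁻¹.fst = a.fst⁻¹ := rfl
theorem inv_snd (a : TwExt c) : a⁻¹.snd = a.snd⁻¹ * (c.α a.fst⁻¹ a.fst)⁻¹ := rfl

instance : Group (TwExt c) :=
  Group.ofLeftAxioms
    (by
      intro a b d
      ext
      · simp only [mul_fst, mul_assoc]
      · simp only [mul_snd, mul_fst]
        have h := c.coc a.fst b.fst d.fst
        calc a.snd * b.snd * c.α a.fst b.fst * d.snd * c.α (a.fst * b.fst) d.fst
            = a.snd * b.snd * d.snd * (c.α a.fst b.fst * c.α (a.fst * b.fst) d.fst) := by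
              simp only [mul_assoc, mul_left_comm (c.α a.fst b.fst) d.snd]
          _ = a.snd * b.snd * d.snd * (c.α b.fst d.fst * c.α a.fst (b.fst * d.fst)) := by rw [h]
          _ = a.snd * (b.snd * d.snd * c.α b.fst d.fst) * c.α a.fst (b.fst * d.fst) := by
              simp only [mul_assoc])
    (by
      intro a
      ext
      · simp only [mul_fst, one_fst, one_mul]
      · simp only [mul_snd, one_snd, one_fst, c.one_left, one_mul, mul_one])
    (by
      intro a
      ext
      · simp only [mul_fst, inv_fst, one_fst, inv_mul_cancel]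
      · simp only [mul_snd, inv_snd, inv_fst, one_snd]
        calc a.snd⁻¹ * (c.α a.fst⁻¹ a.fst)⁻¹ * a.snd * c.α a.fst⁻¹ a.fst
            = (a.snd⁻¹ * a.snd) * ((c.α a.fst⁻¹ a.fst)⁻¹ * c.α a.fst⁻¹ a.fst) := by
              simp only [mul_assoc, mul_left_comm ((c.α a.fst⁻¹ a.fst)⁻¹) a.snd]
          _ = 1 := by rw [inv_mul_cancel, inv_mul_cancel, one_mul])

/-- The underlying equivalence with the product. -/
def equivProd (c : Coc X M) : TwExt c ≃ X × M where
  toFun a := (a.fst, a.snd)
  invFun p := ⟨p.1, p.2⟩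
  left_inv _ := rfl
  right_inv _ := rfl

instance [Finite X] [Finite M] : Finite (TwExt c) := Finite.of_equiv _ (equivProd c).symm

theorem card_eq [Finite X] [Finite M] : Nat.card (TwExt c) = Nat.card X * Nat.card M := by
  rw [Nat.card_congr (equivProd c), Nat.card_prod]

/-- The central embedding of `M`. -/
def zHom (c : Coc X M) : M →* TwExt c where
  toFun m := ⟨1, m⟩
  map_one' := rfl
  map_mul' m n := by
    ext
    · simp only [mul_fst, mul_one]
    · simp only [mul_snd, c.one_left, mul_one]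

theorem zHom_fst (m : M) : (zHom c m).fst = 1 := rfl
theorem zHom_snd (m : M) : (zHom c m).snd = m := rfl

theorem zHom_injective : Function.Injective (zHom c) := fun m n h => by
  have := congrArg TwExt.snd h
  exact this

theorem zHom_mul_fst (m : M) (a : TwExt c) : (zHom c m * a).fst = a.fst := by
  rw [mul_fst, zHom_fst, one_mul]

theorem zHom_mul_snd (m : M) (a : TwExt c) : (zHom c m * a).snd = m * a.snd := by
  rw [mul_snd, zHom_fst, zHom_snd, c.one_left, mul_one]

theorem zHom_comm (m : M) (a : TwExt c) : zHom c m * a = a * zHom c m := by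
  ext
  · rw [zHom_mul_fst, mul_fst, zHom_fst, mul_one]
  · rw [zHom_mul_snd, mul_snd, zHom_fst, zHom_snd, c.one_right, mul_one, mul_comm]

theorem eq_zHom_of_fst {a : TwExt c} (h : a.fst = 1) : a = zHom c a.snd := by
  ext
  · rw [h, zHom_fst]
  · rw [zHom_snd]

theorem zHom_mem_center (m : M) : zHom c m ∈ Subgroup.center (TwExt c) := by
  rw [Subgroup.mem_center_iff]
  intro g
  exact (zHom_comm m g).symm

theorem fst_eq_one_of_mem_center (hnd : c.ND) {a : TwExt c}
    (ha : a ∈ Subgroup.center (TwExt c)) : a.fst = 1 := by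
  by_contra hx
  obtain ⟨y, hxy, hα⟩ := hnd a.fst hx
  have h := Subgroup.mem_center_iff.mp ha ⟨y, 1⟩
  have h2 := congrArg TwExt.snd h
  simp only [mul_snd, one_mul, mul_one] at h2
  apply hα
  exact (mul_left_cancel h2).symm

theorem center_eq (hnd : c.ND) : Subgroup.center (TwExt c) = (zHom c).range := by
  ext a
  constructor
  · intro ha
    exact ⟨a.snd, (eq_zHom_of_fst (fst_eq_one_of_mem_center hnd ha)).symm⟩
  · rintro ⟨m, rfl⟩
    exact zHom_mem_center m

theorem card_center [Finite X] [Finite M] (hnd : c.ND) :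
    Nat.card (Subgroup.center (TwExt c)) = Nat.card M := by
  rw [center_eq hnd]
  exact (Nat.card_congr (MonoidHom.ofInjective zHom_injective).toEquiv).symm

theorem index_center [Finite X] [Finite M] (hnd : c.ND) :
    (Subgroup.center (TwExt c)).index = Nat.card X := by
  have h1 := (Subgroup.center (TwExt c)).card_mul_index
  rw [card_center hnd, card_eq, mul_comm (Nat.card X)] at h1
  exact Nat.eq_of_mul_eq_mul_left Nat.card_pos h1

/-- The map of `X` into the central quotient. -/
def toQuot (c : Coc X M) : X →* TwExt c ⧸ Subgroup.center (TwExt c) where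
  toFun x := QuotientGroup.mk ⟨x, 1⟩
  map_one' := rfl
  map_mul' x y := by
    have h : (⟨x, 1⟩ : TwExt c) * ⟨y, 1⟩ = ⟨x * y, 1⟩ * zHom c (c.α x y) := by
      ext
      · simp only [mul_fst, zHom_fst, mul_one]
      · simp only [mul_snd, zHom_fst, zHom_snd, c.one_right, mul_one, one_mul]
    rw [← QuotientGroup.mk_mul, h, QuotientGroup.mk_mul,
      (QuotientGroup.eq_one_iff _).mpr (zHom_mem_center (c.α x y)), mul_one]

theorem toQuot_injective (hnd : c.ND) : Function.Injective (toQuot c) := by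
  rw [injective_iff_map_eq_one]
  intro x hx
  have h1 : (⟨x, 1⟩ : TwExt c) ∈ Subgroup.center (TwExt c) :=
    (QuotientGroup.eq_one_iff _).mp hx
  exact fst_eq_one_of_mem_center hnd h1

end TwExt

open TwExt

section Character

variable [Finite X] [Finite M] (c : Coc X M)

/-- A twisted extension by a nondegenerate cocycle has an irreducible character which is faithful
and fully ramified over the centre. -/
theorem central_type (hnd : c.ND) (j : M →* ℂˣ) (hj : Function.Injective j) :
    ∃ χ : Cfsg.IrrCharacter (TwExt c),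
      (∀ h : TwExt c, (χ : TwExt c → ℂ) h = (χ : TwExt c → ℂ) 1 → h = 1) ∧
      (Cfsg.charDegree (χ : TwExt c → ℂ)) ^ 2 = Nat.card X := by
  classical
  haveI : Fintype X := Fintype.ofFinite X
  haveI : Fintype M := Fintype.ofFinite M
  haveI : Fintype (TwExt c) := Fintype.ofFinite _
  set Z : Subgroup (TwExt c) := (zHom c).range with hZ
  haveI : Fintype Z := Fintype.ofFinite _
  let eZ : M ≃* Z := MonoidHom.ofInjective zHom_injective
  let lin : Z →* ℂˣ := j.comp eZ.symm.toMonoidHom
  have hlin : ∀ m : M, lin ⟨zHom c m, ⟨m, rfl⟩⟩ = j m := by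
    intro m
    have : eZ.symm ⟨zHom c m, ⟨m, rfl⟩⟩ = m := by
      rw [MulEquiv.symm_apply_eq]
      exact Subtype.ext rfl
    show j (eZ.symm ⟨zHom c m, ⟨m, rfl⟩⟩) = j m
    rw [this]
  have hψ : Cfsg.IsIrrCharacter Z (fun z => ((lin z : ℂˣ) : ℂ)) :=
    Cfsg.Agent.Lib.Helper6.isIrrCharacter_of_hom lin
  obtain ⟨χ, hχ, hne⟩ := Cfsg.Agent.Lib.Helper4.exists_irr_over Z hψ
  have hχ1 : χ 1 ≠ 0 := Cfsg.Agent.Lib.Helper6.IsIrrCharacter.apply_one_ne_zero hχ
  have hcm : ∀ (m : M) (k : TwExt c), χ (zHom c m * k) = χ (zHom c m) * χ k / χ 1 :=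
    fun m k => Cfsg.Agent.Lib.Helper6.IsIrrCharacter.apply_central_mul hχ
      (fun h => zHom_comm m h) k
  -- norm one
  have hnorm : ∀ m : M, ((j m : ℂˣ) : ℂ) * conj ((j m : ℂˣ) : ℂ) = 1 := by
    intro m
    have h1 : ((j m : ℂˣ) : ℂ) ^ Nat.card M = 1 := by
      rw [← Units.val_pow_eq_pow_val, ← map_pow, pow_card_eq_one', map_one, Units.val_one]
    have h2 := Complex.norm_eq_one_of_pow_eq_one h1 Nat.card_pos.ne'
    rw [Complex.mul_conj, Complex.normSq_eq_norm_sq, h2]
    norm_num
  -- the key identification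
  have hkey : ∀ m : M, χ (zHom c m) = ((j m : ℂˣ) : ℂ) * χ 1 := by
    -- w z = lin z * conj (χ z / χ 1)
    set w : Z → ℂ := fun z => ((lin z : ℂˣ) : ℂ) * conj (χ (z : TwExt c) / χ 1) with hw
    have hwmul : ∀ z₀ z : Z, w (z₀ * z) = w z₀ * w z := by
      intro z₀ z
      obtain ⟨m₀, hm₀⟩ := z₀.2
      simp only [hw]
      rw [map_mul, Units.val_mul, Subgroup.coe_mul, ← hm₀, hcm m₀ (z : TwExt c)]
      simp only [map_mul, map_div₀]
      have : conj (χ 1) ≠ 0 := by
        intro h0
        apply hχ1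
        have := congrArg conj h0
        simpa using this
      field_simp
    have hsum : ∑ z : Z, ((lin z : ℂˣ) : ℂ) * conj (χ (z : TwExt c))
        = conj (χ 1) * ∑ z : Z, w z := by
      rw [Finset.mul_sum]
      apply Finset.sum_congr rfl
      intro z _
      simp only [hw]
      rw [map_div₀]
      have : conj (χ 1) ≠ 0 := by
        intro h0
        apply hχ1
        have := congrArg conj h0
        simpa using this
      field_simp
    have hS : ∑ z : Z, w z ≠ 0 := by
      intro h0
      apply hne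
      unfold Cfsg.classInner
      rw [hsum, h0, mul_zero, mul_zero]
    have hw1 : ∀ z₀ : Z, w z₀ = 1 := by
      intro z₀
      have h1 : ∑ z : Z, w z = w z₀ * ∑ z : Z, w z := by
        rw [Finset.mul_sum, ← Equiv.sum_comp (Equiv.mulLeft z₀) w]
        apply Finset.sum_congr rfl
        intro z _
        exact hwmul z₀ z
      have h2 : (1 - w z₀) * ∑ z : Z, w z = 0 := by
        rw [sub_mul, one_mul, ← h1, sub_self]
      rcases mul_eq_zero.mp h2 with h | h
      · exact (sub_eq_zero.mp h).symm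
      · exact absurd h hS
    intro m
    have h1 := hw1 ⟨zHom c m, ⟨m, rfl⟩⟩
    simp only [hw] at h1
    rw [hlin m] at h1
    -- j m * conj (χ z / χ 1) = 1 = j m * conj (j m)
    have hjne : ((j m : ℂˣ) : ℂ) ≠ 0 := Units.ne_zero _
    have h2 : conj (χ (zHom c m) / χ 1) = conj ((j m : ℂˣ) : ℂ) :=
      mul_left_cancel₀ hjne (h1.trans (hnorm m).symm)
    have h3 : χ (zHom c m) / χ 1 = ((j m : ℂˣ) : ℂ) := (starRingEnd ℂ).injective h2
    rw [← h3]
    field_simp
  have hK1 : ∀ (m : M) (k : TwExt c), χ (zHom c m * k) = ((j m : ℂˣ) : ℂ) * χ k := by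
    intro m k
    rw [hcm, hkey]
    field_simp
  have hcf := Cfsg.Agent.Lib.Helper6.IsIrrCharacter.isClassFunction hχ
  -- vanishing off the centre
  have hK2 : ∀ a : TwExt c, a.fst ≠ 1 → χ a = 0 := by
    intro a hx
    obtain ⟨y, hxy, hα⟩ := hnd a.fst hx
    set k : TwExt c := ⟨y, 1⟩ with hk
    set u : M := c.α a.fst y * (c.α y a.fst)⁻¹ with hu
    have hu1 : u ≠ 1 := by
      intro h
      apply hα
      rw [hu, mul_inv_eq_one] at h
      exact h
    have h1 : a * k = zHom c u * (k * a) := by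
      ext
      · rw [zHom_mul_fst, mul_fst, mul_fst, hxy]
      · rw [zHom_mul_snd, mul_snd, mul_snd, hu]
        simp only [hk, mul_one, one_mul]
        calc a.snd * c.α a.fst y
            = (c.α a.fst y * ((c.α y a.fst)⁻¹ * c.α y a.fst)) * a.snd := by
              rw [inv_mul_cancel, mul_one, mul_comm]
          _ = c.α a.fst y * (c.α y a.fst)⁻¹ * (a.snd * c.α y a.fst) := by
              rw [mul_comm a.snd (c.α y a.fst)]
              simp only [mul_assoc]
    have h2 : a = zHom c u * (k * a * k⁻¹) := by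
      rw [← mul_assoc (zHom c u) (k * a) k⁻¹, ← h1, mul_assoc, mul_inv_cancel, mul_one]
    have h3 : χ a = ((j u : ℂˣ) : ℂ) * χ a := by
      conv_lhs => rw [h2]
      rw [hK1, hcf a k]
    have hju : ((j u : ℂˣ) : ℂ) ≠ 1 := by
      intro h
      apply hu1
      apply hj
      rw [map_one]
      exact Units.ext h
    have h4 : (1 - ((j u : ℂˣ) : ℂ)) * χ a = 0 := by
      rw [sub_mul, one_mul, ← h3, sub_self]
    rcases mul_eq_zero.mp h4 with h | h
    · exact absurd (sub_eq_zero.mp h).symm hju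
    · exact h
  -- the norm
  have hK3 : ∑ a : TwExt c, χ a * conj (χ a) = (Nat.card (TwExt c) : ℂ) := by
    have h1 : Cfsg.classInner χ χ = 1 := by
      rw [Cfsg.Agent.Lib.Helper6.classInner_isIrrCharacter hχ hχ, if_pos rfl]
    unfold Cfsg.classInner at h1
    have hG : (Nat.card (TwExt c) : ℂ) ≠ 0 := by
      exact_mod_cast (Nat.card_pos (α := TwExt c)).ne'
    field_simp at h1
    exact h1
  have hdeg : χ 1 * conj (χ 1) = (Nat.card X : ℂ) := by
    have h1 : ∑ a : TwExt c, χ a * conj (χ a)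
        = ∑ p : X × M, χ ⟨p.1, p.2⟩ * conj (χ ⟨p.1, p.2⟩) :=
      Fintype.sum_equiv (equivProd c) _ _ (fun a => rfl)
    rw [h1, Fintype.sum_prod_type, Finset.sum_eq_single (1 : X)] at hK3
    · have h2 : ∀ m : M, χ (⟨1, m⟩ : TwExt c) * conj (χ (⟨1, m⟩ : TwExt c))
          = χ 1 * conj (χ 1) := by
        intro m
        have e : (⟨1, m⟩ : TwExt c) = zHom c m * 1 := by rw [mul_one]; rfl
        rw [e, hK1, map_mul]
        calc ((j m : ℂˣ) : ℂ) * χ 1 * (conj ((j m : ℂˣ) : ℂ) * conj (χ 1))
            = (((j m : ℂˣ) : ℂ) * conj ((j m : ℂˣ) : ℂ)) * (χ 1 * conj (χ 1)) := by ring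
          _ = χ 1 * conj (χ 1) := by rw [hnorm m, one_mul]
      rw [Finset.sum_congr rfl (fun m _ => h2 m), Finset.sum_const, Finset.card_univ,
        nsmul_eq_mul, card_eq, Nat.cast_mul, ← Nat.card_eq_fintype_card] at hK3
      have hM : (Nat.card M : ℂ) ≠ 0 := by exact_mod_cast (Nat.card_pos (α := M)).ne'
      have : (Nat.card M : ℂ) * (χ 1 * conj (χ 1)) = (Nat.card M : ℂ) * (Nat.card X : ℂ) := by
        rw [hK3]; ring
      exact mul_left_cancel₀ hM this
    · intro x _ hx
      apply Finset.sum_eq_zero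
      intro m _
      rw [hK2 ⟨x, m⟩ hx, zero_mul]
    · intro h
      exact absurd (Finset.mem_univ _) h
  refine ⟨⟨χ, hχ⟩, ?_, ?_⟩
  · intro h hh
    simp only at hh
    have hf : h.fst = 1 := by
      by_contra hx
      rw [hK2 h hx] at hh
      exact hχ1 hh.symm
    have e : h = zHom c h.snd * 1 := by rw [mul_one]; exact eq_zHom_of_fst hf
    rw [e, hK1] at hh
    have h5 : ((j h.snd : ℂˣ) : ℂ) = 1 := by
      have := mul_right_cancel₀ hχ1 (hh.trans (one_mul _).symm)
      exact this
    have h6 : h.snd = 1 := by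
      apply hj
      rw [map_one]
      exact Units.ext h5
    rw [e, h6, map_one, mul_one]
  · simp only
    have h1 := Cfsg.Agent.Lib.Helper6.IsCharacter.apply_one_eq_charDegree
      (Cfsg.Agent.Lib.Helper6.IsIrrCharacter.isCharacter hχ)
    rw [h1, Complex.conj_natCast] at hdeg
    have : ((Cfsg.charDegree χ ^ 2 : ℕ) : ℂ) = (Nat.card X : ℂ) := by
      rw [← hdeg]; push_cast; ring
    exact_mod_cast this

end Character

end Cfsg.Agent.Lib.Helper6.Gag
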