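import Mathlib
import Cfsg.Agent.Lib.Helper6.GagA

set_option autoImplicit false

/-! The wreath product step: a nondegenerate cocycle on `X` gives one on `(X ≀ᵣ C_r) × C_r`. -/

namespace Cfsg.Agent.Lib.Helper6.Gag

open RegularWreathProduct

universe u

/-- The cyclic group of order `r`, multiplicatively. -/
abbrev Qr (r : ℕ) : Type := Multiplicative (ZMod r)

variable {X : Type u} [Group X] (c : Coc X ℂˣ) (r : ℕ) [NeZero r] {ζ : ℂˣ} (hζ : ζ ^ r = 1)

/-- the wreath cocycle -/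
noncomputable def wrα (u v : (X ≀ᵣ Qr r) × Qr r) : ℂˣ :=
  (∏ x : Qr r, c.α (u.1.left x) (v.1.left (u.1.right⁻¹ * x))) *
    AddChar.zmodChar r hζ (Multiplicative.toAdd u.1.right * Multiplicative.toAdd v.2)

theorem wrα_apply (f f' : Qr r → X) (q q' b b' : Qr r) :
    wrα c r hζ ((⟨f, q⟩ : X ≀ᵣ Qr r), b) ((⟨f', q'⟩ : X ≀ᵣ Qr r), b')
      = (∏ x : Qr r, c.α (f x) (f' (q⁻¹ * x))) *
        AddChar.zmodChar r hζ (Multiplicative.toAdd q * Multiplicative.toAdd b') := rfl

theorem prod_coc (f f' f'' : Qr r → X) (q q' : Qr r) :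
    (∏ x, c.α (f x) (f' (q⁻¹ * x))) *
        (∏ x, c.α (f x * f' (q⁻¹ * x)) (f'' ((q * q')⁻¹ * x)))
      = (∏ x, c.α (f' x) (f'' (q'⁻¹ * x))) *
        (∏ x, c.α (f x) (f' (q⁻¹ * x) * f'' (q'⁻¹ * (q⁻¹ * x)))) := by
  rw [← Equiv.prod_comp (Equiv.mulLeft q⁻¹) (fun x => c.α (f' x) (f'' (q'⁻¹ * x))),
    ← Finset.prod_mul_distrib, ← Finset.prod_mul_distrib]
  apply Finset.prod_congr rfl
  intro x _
  simp only [Equiv.coe_mulLeft]
  rw [mul_inv_rev, mul_assoc]
  exact c.coc _ _ _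

theorem wrα_coc (u v w : (X ≀ᵣ Qr r) × Qr r) :
    wrα c r hζ u v * wrα c r hζ (u * v) w = wrα c r hζ v w * wrα c r hζ u (v * w) := by
  obtain ⟨⟨f, q⟩, b⟩ := u
  obtain ⟨⟨f', q'⟩, b'⟩ := v
  obtain ⟨⟨f'', q''⟩, b''⟩ := w
  have h1 := prod_coc c r f f' f'' q q'
  have h2 : AddChar.zmodChar r hζ (Multiplicative.toAdd q * Multiplicative.toAdd b') *
      AddChar.zmodChar r hζ (Multiplicative.toAdd (q * q') * Multiplicative.toAdd b'')
      = AddChar.zmodChar r hζ (Multiplicative.toAdd q' * Multiplicative.toAdd b'') *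
        AddChar.zmodChar r hζ (Multiplicative.toAdd q * Multiplicative.toAdd (b' * b'')) := by
    rw [← AddChar.map_add_eq_mul, ← AddChar.map_add_eq_mul, toAdd_mul, toAdd_mul]
    congr 1
    ring
  show ((∏ x : Qr r, c.α (f x) (f' (q⁻¹ * x))) *
        AddChar.zmodChar r hζ (Multiplicative.toAdd q * Multiplicative.toAdd b')) *
      ((∏ x : Qr r, c.α (f x * f' (q⁻¹ * x)) (f'' ((q * q')⁻¹ * x))) *
        AddChar.zmodChar r hζ (Multiplicative.toAdd (q * q') * Multiplicative.toAdd b''))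
    = ((∏ x : Qr r, c.α (f' x) (f'' (q'⁻¹ * x))) *
        AddChar.zmodChar r hζ (Multiplicative.toAdd q' * Multiplicative.toAdd b'')) *
      ((∏ x : Qr r, c.α (f x) (f' (q⁻¹ * x) * f'' (q'⁻¹ * (q⁻¹ * x)))) *
        AddChar.zmodChar r hζ (Multiplicative.toAdd q * Multiplicative.toAdd (b' * b'')))
  rw [mul_mul_mul_comm, h1, h2, mul_mul_mul_comm]

theorem wrα_one_left (v : (X ≀ᵣ Qr r) × Qr r) : wrα c r hζ 1 v = 1 := by
  obtain ⟨⟨f', q'⟩, b'⟩ := v
  show (∏ x : Qr r, c.α ((1 : Qr r → X) x) (f' ((1 : Qr r)⁻¹ * x))) *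
      AddChar.zmodChar r hζ (Multiplicative.toAdd (1 : Qr r) * Multiplicative.toAdd b') = 1
  simp only [Pi.one_apply, c.one_left, Finset.prod_const_one, toAdd_one, zero_mul,
    AddChar.map_zero_eq_one, one_mul]

theorem wrα_one_right (u : (X ≀ᵣ Qr r) × Qr r) : wrα c r hζ u 1 = 1 := by
  obtain ⟨⟨f, q⟩, b⟩ := u
  show (∏ x : Qr r, c.α (f x) ((1 : Qr r → X) (q⁻¹ * x))) *
      AddChar.zmodChar r hζ (Multiplicative.toAdd q * Multiplicative.toAdd (1 : Qr r)) = 1
  simp only [Pi.one_apply, c.one_right, Finset.prod_const_one, toAdd_one, mul_zero,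
    AddChar.map_zero_eq_one, one_mul]

/-- The wreath cocycle as a cocycle. -/
noncomputable def wrCoc : Coc ((X ≀ᵣ Qr r) × Qr r) ℂˣ where
  α := wrα c r hζ
  coc := wrα_coc c r hζ
  one_left := wrα_one_left c r hζ
  one_right := wrα_one_right c r hζ

theorem wrCoc_α (u v : (X ≀ᵣ Qr r) × Qr r) : (wrCoc c r hζ).α u v = wrα c r hζ u v := rfl

theorem wrα_pow {m : ℕ} (hc : ∀ x y, c.α x y ^ m = 1) (hm : r ∣ m)
    (u v : (X ≀ᵣ Qr r) × Qr r) : wrα c r hζ u v ^ m = 1 := by
  unfold wrα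
  rw [mul_pow, ← Finset.prod_pow, Finset.prod_congr rfl (fun x _ => hc _ _),
    Finset.prod_const_one, one_mul, AddChar.zmodChar_apply, ← pow_mul, mul_comm, pow_mul]
  obtain ⟨k, rfl⟩ := hm
  rw [pow_mul, hζ, one_pow, one_pow]

theorem zmodChar_ne_one [hr : Fact r.Prime] (hζ1 : ζ ≠ 1) {t : ZMod r} (ht : t ≠ 0) :
    AddChar.zmodChar r hζ t ≠ 1 := by
  intro h
  rw [AddChar.zmodChar_apply] at h
  have h1 : orderOf ζ = r := orderOf_eq_prime hζ hζ1
  have h2 : r ∣ t.val := by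
    have h0 : orderOf ζ ∣ t.val := orderOf_dvd_of_pow_eq_one h
    generalize t.val = n at h0 ⊢
    rw [h1] at h0
    exact h0
  have h3 : t.val = 0 := Nat.eq_zero_of_dvd_of_lt h2 (ZMod.val_lt t)
  exact ht ((ZMod.val_eq_zero t).mp h3)

theorem wr_nd [hr : Fact r.Prime] (hζ1 : ζ ≠ 1) (hnd : c.ND) : (wrCoc c r hζ).ND := by
  classical
  intro u hu
  obtain ⟨⟨f, q⟩, b⟩ := u
  by_cases hq : q = 1
  · subst hq
    by_cases hf : f = 1
    · subst hf
      have hb : b ≠ 1 := by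
        intro hb
        apply hu
        rw [hb]
        rfl
      refine ⟨((⟨1, Multiplicative.ofAdd (1 : ZMod r)⟩ : X ≀ᵣ Qr r), 1), ?_, ?_⟩
      · apply Prod.ext
        · show (1 : X ≀ᵣ Qr r) * _ = _ * (1 : X ≀ᵣ Qr r)
          rw [one_mul, mul_one]
        · show b * 1 = 1 * b
          rw [one_mul, mul_one]
      · rw [wrCoc_α, wrCoc_α, wrα_apply, wrα_apply]
        simp only [Pi.one_apply, c.one_left, Finset.prod_const_one, toAdd_one, zero_mul,
          AddChar.map_zero_eq_one, one_mul, toAdd_ofAdd]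
        have hb0 : Multiplicative.toAdd b ≠ 0 := by
          intro h
          apply hb
          exact toAdd_eq_zero.mp h
        exact (zmodChar_ne_one r hζ hζ1 hb0).symm
    · obtain ⟨x₀, hx₀⟩ := Function.ne_iff.mp hf
      rw [Pi.one_apply] at hx₀
      obtain ⟨y₀, hxy, hα⟩ := hnd (f x₀) hx₀
      set g : Qr r → X := Pi.mulSingle x₀ y₀ with hg
      have hg1 : g x₀ = y₀ := by rw [hg, Pi.mulSingle_eq_same]
      have hg2 : ∀ x, x ≠ x₀ → g x = 1 := fun x hx => by rw [hg, Pi.mulSingle_eq_of_ne hx]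
      refine ⟨((⟨g, 1⟩ : X ≀ᵣ Qr r), 1), ?_, ?_⟩
      · apply Prod.ext
        · apply RegularWreathProduct.ext
          · funext x
            show f x * g ((1 : Qr r)⁻¹ * x) = g x * f ((1 : Qr r)⁻¹ * x)
            rw [inv_one, one_mul]
            by_cases hx : x = x₀
            · rw [hx, hg1]
              exact hxy
            · rw [hg2 x hx, mul_one, one_mul]
          · rfl
        · show b * 1 = 1 * b
          rw [one_mul, mul_one]
      · rw [wrCoc_α, wrCoc_α, wrα_apply, wrα_apply]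
        simp only [inv_one, one_mul, toAdd_one, zero_mul, mul_zero,
          AddChar.map_zero_eq_one, mul_one]
        rw [Finset.prod_eq_single x₀, Finset.prod_eq_single x₀]
        · rw [hg1]
          exact hα
        · intro x _ hx
          rw [hg2 x hx, c.one_left]
        · intro h
          exact absurd (Finset.mem_univ _) h
        · intro x _ hx
          rw [hg2 x hx, c.one_right]
        · intro h
          exact absurd (Finset.mem_univ _) h
  · refine ⟨((1 : X ≀ᵣ Qr r), Multiplicative.ofAdd (1 : ZMod r)), ?_, ?_⟩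
    · apply Prod.ext
      · show (⟨f, q⟩ : X ≀ᵣ Qr r) * 1 = 1 * ⟨f, q⟩
        rw [one_mul, mul_one]
      · show b * _ = _ * b
        rw [mul_comm]
    · rw [wrCoc_α, wrCoc_α]
      show (∏ x : Qr r, c.α (f x) ((1 : Qr r → X) (q⁻¹ * x))) *
          AddChar.zmodChar r hζ (Multiplicative.toAdd q *
            Multiplicative.toAdd (Multiplicative.ofAdd (1 : ZMod r)))
        ≠ (∏ x : Qr r, c.α ((1 : Qr r → X) x) (f ((1 : Qr r)⁻¹ * x))) *
          AddChar.zmodChar r hζ (Multiplicative.toAdd (1 : Qr r) * Multiplicative.toAdd b)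
      simp only [Pi.one_apply, c.one_left, c.one_right, Finset.prod_const_one, toAdd_one,
        zero_mul, AddChar.map_zero_eq_one, one_mul, toAdd_ofAdd, mul_one]
      have hq0 : Multiplicative.toAdd q ≠ 0 := by
        intro h
        apply hq
        exact toAdd_eq_zero.mp h
      exact zmodChar_ne_one r hζ hζ1 hq0

end Cfsg.Agent.Lib.Helper6.Gag
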