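import Mathlib
import Cfsg.Agent.Lib.Helper6.GagB
import Cfsg.Agent.Lib.Helper6.Dade6

set_option autoImplicit false

/-! Gagola's embedding theorem: every finite solvable group embeds in the central quotient of a
group of central type. -/

namespace Cfsg.Agent.Lib.Helper6.Gag

open RegularWreathProduct TwExt

universe u

/-- the radical of a natural number -/
def radN (n : ℕ) : ℕ := ∏ p ∈ n.primeFactors, p

theorem radN_pos (n : ℕ) : 0 < radN n :=
  Finset.prod_pos (fun _ hp => (Nat.prime_of_mem_primeFactors hp).pos)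

theorem radN_squarefree (n : ℕ) : Squarefree (radN n) := by
  unfold radN
  rw [← Nat.radical_eq_prod_primeFactors]
  exact UniqueFactorizationMonoid.squarefree_radical

theorem prime_dvd_radN {n p : ℕ} (hn : n ≠ 0) (hp : p.Prime) : p ∣ radN n ↔ p ∣ n := by
  unfold radN
  constructor
  · intro h
    rw [Prime.dvd_finset_prod_iff hp.prime] at h
    obtain ⟨q, hq, hpq⟩ := h
    have hqp := Nat.prime_of_mem_primeFactors hq
    have : p = q := (Nat.prime_dvd_prime_iff_eq hp hqp).mp hpq
    rw [this]
    exact Nat.dvd_of_mem_primeFactors hq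
  · intro h
    exact Finset.dvd_prod_of_mem _ (Nat.mem_primeFactors.mpr ⟨hp, h, hn⟩)

theorem radN_dvd {a b : ℕ} (hab : a ∣ b) (hb : b ≠ 0) : radN a ∣ radN b :=
  Finset.prod_dvd_prod_of_subset _ _ _ (Nat.primeFactors_mono hab hb)

/-- the trivial cocycle -/
def Coc.triv (X : Type u) [Group X] : Coc X ℂˣ where
  α := fun _ _ => 1
  coc := fun _ _ _ => rfl
  one_left := fun _ => rfl
  one_right := fun _ => rfl

/-- The inductive datum. -/
def HasDatum (G : Type u) [Group G] : Prop :=
  ∃ (X : Type u) (_ : Group X) (_ : Finite X) (ι : G →* X) (c : Coc X ℂˣ),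
    Function.Injective ι ∧ (∀ p : ℕ, p.Prime → p ∣ Nat.card X → p ∣ Nat.card G) ∧
    (∀ x y, c.α x y ^ radN (Nat.card G) = 1) ∧ c.ND

theorem exists_root (r : ℕ) (hr : r.Prime) : ∃ ζ : ℂˣ, ζ ^ r = 1 ∧ ζ ≠ 1 := by
  have hprim := Complex.isPrimitiveRoot_exp r hr.ne_zero
  set z := Complex.exp (2 * Real.pi * Complex.I / r) with hz
  have hzr : z ^ r = 1 := hprim.pow_eq_one
  have hz1 : z ≠ 1 := hprim.ne_one hr.one_lt
  have hz0 : z ≠ 0 := by
    intro h
    rw [h, zero_pow hr.ne_zero] at hzr
    exact zero_ne_one hzr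
  refine ⟨Units.mk0 z hz0, ?_, ?_⟩
  · apply Units.ext
    rw [Units.val_pow_eq_pow_val, Units.val_mk0, hzr, Units.val_one]
  · intro h
    apply hz1
    have := congrArg Units.val h
    rwa [Units.val_mk0, Units.val_one] at this

theorem card_Qr (r : ℕ) [NeZero r] : Nat.card (Qr r) = r := by
  rw [Nat.card_congr Multiplicative.toAdd, Nat.card_zmod]

theorem hasDatum_of_solvable : ∀ (n : ℕ) (G : Type u) [Group G] [Finite G],
    Group.IsSolvable G → Nat.card G = n → HasDatum G := by
  intro n
  induction n using Nat.strong_induction_on with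
  | _ n ih =>
    intro G _ _ hsolv hcard
    classical
    by_cases htriv : Subsingleton G
    · refine ⟨G, inferInstance, inferInstance, MonoidHom.id G, Coc.triv G, fun _ _ h => h,
        fun p _ hp => hp, fun x y => one_pow _, ?_⟩
      intro x hx
      exact absurd (Subsingleton.elim x 1) hx
    · haveI : Nontrivial G := not_subsingleton_iff_nontrivial.mp htriv
      obtain ⟨r, N, hr, hN, hidx⟩ :=
        Cfsg.Agent.Lib.Helper3.SolvIndex.exists_normal_index_prime_of_solvable (Q := G)
      haveI := hN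
      haveI : Fact r.Prime := ⟨hr⟩
      haveI : NeZero r := ⟨hr.ne_zero⟩
      have hNG : Nat.card N * r = Nat.card G := by
        rw [← hidx]; exact N.card_mul_index
      have hG0 : Nat.card G ≠ 0 := Nat.card_pos.ne'
      have hlt : Nat.card N < n := by
        rw [← hcard, ← hNG]
        have h2 := hr.two_le
        have h3 : 0 < Nat.card N := Nat.card_pos
        nlinarith
      obtain ⟨X₁, hX₁g, hX₁f, ι₁, c₁, hι₁, hpr₁, htor₁, hnd₁⟩ :=
        ih (Nat.card N) hlt N inferInstance rfl
      obtain ⟨ζ, hζ, hζ1⟩ := exists_root r hr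
      have hQ : Nat.card (G ⧸ N) = r := by rw [← Subgroup.index_eq_card, hidx]
      let e : (G ⧸ N) ≃* Qr r := mulEquivOfPrimeCardEq (p := r) hQ (card_Qr r)
      let κ : G →* X₁ ≀ᵣ Qr r :=
        (RegularWreathProduct.congr (MulEquiv.refl X₁) e).toMonoidHom.comp
          (Cfsg.Agent.Lib.Helper6.Dade.kkHom N ι₁)
      have hκ : Function.Injective κ :=
        (RegularWreathProduct.congr (MulEquiv.refl X₁) e).injective.comp
          (Cfsg.Agent.Lib.Helper6.Dade.kkHom_injective N ι₁ hι₁)
      refine ⟨(X₁ ≀ᵣ Qr r) × Qr r, inferInstance, inferInstance, MonoidHom.prod κ 1,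
        wrCoc c₁ r hζ, ?_, ?_, ?_, wr_nd c₁ r hζ hζ1 hnd₁⟩
      · intro g g' h
        apply hκ
        have := congrArg Prod.fst h
        simpa using this
      · intro p hp hdvd
        rw [Nat.card_prod, RegularWreathProduct.card, card_Qr] at hdvd
        have hrG : r ∣ Nat.card G := ⟨Nat.card N, by rw [← hNG, mul_comm]⟩
        have hNdvd : Nat.card N ∣ Nat.card G := ⟨r, hNG.symm⟩
        rcases (Nat.Prime.dvd_mul hp).mp hdvd with h | h
        · rcases (Nat.Prime.dvd_mul hp).mp h with h | h
          · exact (hpr₁ p hp (hp.dvd_of_dvd_pow h)).trans hNdvd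
          · exact h.trans hrG
        · exact h.trans hrG
      · intro x y
        rw [wrCoc_α]
        apply wrα_pow
        · intro x y
          have hNdvd : Nat.card N ∣ Nat.card G := ⟨r, hNG.symm⟩
          obtain ⟨k, hk⟩ := radN_dvd hNdvd hG0
          rw [hk, pow_mul, htor₁, one_pow]
        · rw [prime_dvd_radN hG0 hr]
          exact ⟨Nat.card N, by rw [← hNG, mul_comm]⟩

/-- Gagola's theorem. -/
theorem gagola {G : Type u} [Group G] [Finite G] (hsolv : Group.IsSolvable G) :
    ∃ (H : Type u) (_ : Group H) (_ : Finite H) (χ : Cfsg.IrrCharacter H),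
      (∀ h : H, (χ : H → ℂ) h = (χ : H → ℂ) 1 → h = 1) ∧
      (Cfsg.charDegree (χ : H → ℂ)) ^ 2 = (Subgroup.center H).index ∧
      (∃ f : G →* H ⧸ Subgroup.center H, Function.Injective f) ∧
      (∀ p : ℕ, p.Prime → ((p ∣ Nat.card H ↔ p ∣ Nat.card G) ∧
        (p ∣ Nat.card (Subgroup.center H) ↔ p ∣ Nat.card G))) ∧
      Squarefree (Nat.card (Subgroup.center H)) := by
  obtain ⟨X, hXg, hXf, ι, c, hι, hpr, htor, hnd⟩ :=
    hasDatum_of_solvable (Nat.card G) G hsolv rfl
  have hG0 : Nat.card G ≠ 0 := Nat.card_pos.ne'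
  set m := radN (Nat.card G) with hm
  haveI : NeZero m := ⟨(radN_pos _).ne'⟩
  let c' : Coc X (rootsOfUnity m ℂ) :=
    { α := fun x y => ⟨c.α x y, (mem_rootsOfUnity _ _).mpr (htor x y)⟩
      coc := fun x y z => Subtype.ext (c.coc x y z)
      one_left := fun y => Subtype.ext (c.one_left y)
      one_right := fun x => Subtype.ext (c.one_right x) }
  have hnd' : c'.ND := by
    intro x hx
    obtain ⟨y, hxy, hα⟩ := hnd x hx
    exact ⟨y, hxy, fun h => hα (congrArg Subtype.val h)⟩
  have hcardM : Nat.card (rootsOfUnity m ℂ) = m := Complex.card_rootsOfUnity m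
  haveI : Finite (rootsOfUnity m ℂ) :=
    Nat.finite_of_card_ne_zero (by rw [hcardM]; exact (radN_pos _).ne')
  obtain ⟨χ, hfaith, hdeg⟩ := central_type c' hnd' (rootsOfUnity m ℂ).subtype
    (Subgroup.subtype_injective _)
  refine ⟨TwExt c', inferInstance, inferInstance, χ, hfaith, ?_, ?_, ?_, ?_⟩
  · rw [hdeg, index_center hnd']
  · exact ⟨(toQuot c').comp ι, (toQuot_injective hnd').comp hι⟩
  · intro p hp
    rw [card_eq, card_center hnd', hcardM]
    constructor
    · constructor
      · intro h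
        rcases (Nat.Prime.dvd_mul hp).mp h with h | h
        · exact hpr p hp h
        · exact (prime_dvd_radN hG0 hp).mp h
      · intro h
        exact ((prime_dvd_radN hG0 hp).mpr h).trans (dvd_mul_left _ _)
    · exact prime_dvd_radN hG0 hp
  · rw [card_center hnd', hcardM]
    exact radN_squarefree _

end Cfsg.Agent.Lib.Helper6.Gag
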