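import Mathlib
import Cfsg.Agent.Lib.Helper6.GalFix1
import Cfsg.Agent.Lib.Helper3.CanonExt
import Cfsg.Agent.Lib.Helper3.GallagherDecomp
import Cfsg.Agent.Lib.Helper3.Dade5
import Cfsg.Agent.Lib.Helper1.CharThompson2
import Cfsg.Agent.Lib.Helper6.Linear

set_option autoImplicit false
set_option linter.unusedSectionVars false
set_option linter.style.haveILetI false
open Cfsg

universe u

namespace Cfsg.Agent.Lib.Helper6.GalFix

open Cfsg.Agent.Lib.Helper6 Cfsg.Agent.Lib.Helper3.DetChar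
open scoped ComplexConjugate

section fiber

variable {G : Type u} [Group G] [Finite G] (N : Subgroup G) [hN : N.Normal]

/-- the Galois-fixed extensions of a Galois-fixed invariant character of degree prime to `p` to a
cyclic `p`-extension: there are exactly `p` of them -/
theorem card_fiber (p : ℕ) [hpF : Fact p.Prime] (a : ℕ) (hidx : N.index = p ^ a)
    (hdvd : p ∣ N.index) (hcyc : IsCyclic (G ⧸ N)) (hres : Cfsg.pResidual p ↥N = ⊤)
    (k : ℕ) (hk : Nat.Coprime k (Nat.card G)) (hkQ : ∀ x : G ⧸ N, x ^ k = x ^ (1 + p))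
    (θ : N → ℂ) (hθ : Cfsg.IsIrrCharacter N θ)
    (hinv : ∀ (g : G) (n : N), θ ⟨g * n * g⁻¹, hN.conj_mem (n : G) n.2 g⟩ = θ n)
    (hdeg : ¬ p ∣ Cfsg.charDegree θ) (hθk : ∀ n : N, θ (n ^ k) = θ n) :
    Nat.card {χ : Cfsg.IrrCharacter G // (∀ n : N, (χ : G → ℂ) n = θ n) ∧
      ∀ g : G, (χ : G → ℂ) (g ^ k) = (χ : G → ℂ) g} = p := by
  classical
  haveI : Fintype G := Fintype.ofFinite G
  haveI : Fintype N := Fintype.ofFinite N
  have hp : p.Prime := hpF.out
  have hcomm : ∀ x y : G ⧸ N, x * y = y * x := isMulCommutative_iff.mp inferInstance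
  have hsolv : Group.IsSolvable (G ⧸ N) := Group.isSolvable_of_comm hcomm
  have hθc : Cfsg.IsCharacter N θ := IsIrrCharacter.isCharacter hθ
  have hd : θ 1 = (Cfsg.charDegree θ : ℂ) := IsCharacter.apply_one_eq_charDegree hθc
  have hndet : ¬ p ∣ Cfsg.detOrder θ :=
    Cfsg.Agent.Lib.Helper1.CharThompson.not_dvd_detOrder hres hθc
  have hcop : Nat.Coprime N.index (Cfsg.detOrder θ * Cfsg.charDegree θ) := by
    rw [hidx]
    apply Nat.Coprime.pow_left
    rw [Nat.Prime.coprime_iff_not_dvd hp]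
    intro h
    rcases (Nat.Prime.dvd_mul hp).mp h with h | h
    · exact hndet h
    · exact hdeg h
  obtain ⟨χ₀, ⟨hχ₀, hext, hdet⟩, huniq⟩ :=
    Cfsg.Agent.Lib.Helper3.CanonExt.exists_unique_extension_of_coprime_solvable N hsolv θ hθ hinv
      _ hd hcop
  -- Galois invariance of the canonical extension
  have hχ₀k : (fun g => χ₀ (g ^ k)) = χ₀ := by
    apply huniq _ (IsIrrCharacter.comp_pow hχ₀ hk)
    · intro n
      show χ₀ ((n : G) ^ k) = θ n
      rw [← hθk n, ← hext (n ^ k), Subgroup.coe_pow]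
    · rw [detOrder_comp_pow hχ₀ hk, hdet, hidx]
      apply Nat.Coprime.pow_left
      exact (Nat.Prime.coprime_iff_not_dvd hp).mpr hndet
  have hθ' : Cfsg.IsIrrCharacter N (fun n : N => χ₀ n) := by
    have : (fun n : N => χ₀ n) = θ := funext hext
    rw [this]
    exact hθ
  have hmk1 : ∀ n : N, (QuotientGroup.mk (n : G) : G ⧸ N) = 1 := fun n =>
    (QuotientGroup.eq_one_iff (n : G)).mpr n.2
  haveI : Finite (G ⧸ N) := inferInstance
  -- the bijection
  let S := {f : (G ⧸ N) →* ℂˣ // ∀ x, (f x) ^ p = 1}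
  let X := {χ : Cfsg.IrrCharacter G // (∀ n : N, (χ : G → ℂ) n = θ n) ∧
      ∀ g : G, (χ : G → ℂ) (g ^ k) = (χ : G → ℂ) g}
  have hX : ∀ f : S, (∀ n : N, ((f.1 (QuotientGroup.mk (n : G)) : ℂˣ) : ℂ) * χ₀ n = θ n) ∧
      ∀ g : G, ((f.1 (QuotientGroup.mk (g ^ k)) : ℂˣ) : ℂ) * χ₀ (g ^ k)
        = ((f.1 (QuotientGroup.mk g) : ℂˣ) : ℂ) * χ₀ g := by
    intro f
    constructor
    · intro n
      rw [hmk1 n, map_one, Units.val_one, one_mul, hext n]
    · intro g
      have h1 : χ₀ (g ^ k) = χ₀ g := congrFun hχ₀k g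
      rw [h1, QuotientGroup.mk_pow, hkQ, map_pow, pow_add, pow_one, f.2, mul_one]
  let Ψ : S → X := fun f =>
    ⟨⟨fun g => ((f.1 (QuotientGroup.mk g) : ℂˣ) : ℂ) * χ₀ g,
      isIrrCharacter_hom_mul (f.1.comp (QuotientGroup.mk' N)) hχ₀⟩, hX f⟩
  have hΨ : Function.Bijective Ψ := by
    constructor
    · intro f f' hff
      have h1 : (fun g => ((f.1 (QuotientGroup.mk g) : ℂˣ) : ℂ) * χ₀ g)
          = fun g => ((f'.1 (QuotientGroup.mk g) : ℂˣ) : ℂ) * χ₀ g :=
        congrArg (fun t : X => ((t.1 : Cfsg.IrrCharacter G) : G → ℂ)) hff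
      have h2 := Cfsg.Agent.Lib.Helper3.GallagherDecomp.mul_infl_injective N hχ₀ hθ'
        (fun x => ((f.1 x : ℂˣ) : ℂ)) (fun x => ((f'.1 x : ℂˣ) : ℂ)) h1
      apply Subtype.ext
      apply MonoidHom.ext
      intro x
      apply Units.ext
      exact congrFun h2 x
    · intro χ
      obtain ⟨⟨χ, hχ⟩, hχN, hχk⟩ := χ
      simp only at hχN hχk
      haveI : Fintype (Cfsg.IrrCharacter (G ⧸ N)) := Fintype.ofFinite _
      have hover : Cfsg.classInner (fun n : N => χ n) (fun n : N => χ₀ n) ≠ 0 := by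
        have e1 : (fun n : N => χ n) = θ := funext hχN
        have e2 : (fun n : N => χ₀ n) = θ := funext hext
        rw [e1, e2, classInner_isIrrCharacter hθ hθ, if_pos rfl]
        exact one_ne_zero
      obtain ⟨β, hβ⟩ := Cfsg.Agent.Lib.Helper3.GallagherDecomp.exists_infl_of_over N hχ₀ hθ'
        hχ hover
      have hβ1 : (β : G ⧸ N → ℂ) 1 = 1 :=
        Cfsg.Agent.Lib.Helper3.Dade.apply_one_eq_one_of_comm hcomm β.2
      let f : (G ⧸ N) →* ℂˣ := linearCharHom (IsIrrCharacter.isCharacter β.2) hβ1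
      have hf : ∀ x, ((f x : ℂˣ) : ℂ) = (β : G ⧸ N → ℂ) x := fun x => rfl
      have hχf : ∀ g, χ g = ((f (QuotientGroup.mk g) : ℂˣ) : ℂ) * χ₀ g := by
        intro g
        rw [hf, hβ]
        rfl
      have hfp : ∀ x, (f x) ^ p = 1 := by
        have h1 : (fun g : G => (fun x => ((f x : ℂˣ) : ℂ) ^ (1 + p)) (QuotientGroup.mk g)) * χ₀
            = (fun g : G => (fun x => ((f x : ℂˣ) : ℂ)) (QuotientGroup.mk g)) * χ₀ := by
          funext g
          simp only [Pi.mul_apply]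
          rw [← hχf g, ← hχk g, hχf (g ^ k), QuotientGroup.mk_pow, hkQ, map_pow,
            Units.val_pow_eq_pow_val, congrFun hχ₀k g]
        have h2 := Cfsg.Agent.Lib.Helper3.GallagherDecomp.mul_infl_injective N hχ₀ hθ'
          (fun x => ((f x : ℂˣ) : ℂ) ^ (1 + p)) (fun x => ((f x : ℂˣ) : ℂ)) h1
        intro x
        have h3 : ((f x : ℂˣ) : ℂ) ^ (1 + p) = ((f x : ℂˣ) : ℂ) := congrFun h2 x
        apply Units.ext
        rw [Units.val_pow_eq_pow_val, Units.val_one]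
        rw [pow_add, pow_one] at h3
        have hne : ((f x : ℂˣ) : ℂ) ≠ 0 := Units.ne_zero _
        have h4 : ((f x : ℂˣ) : ℂ) * ((f x : ℂˣ) : ℂ) ^ p = ((f x : ℂˣ) : ℂ) * 1 := by
          rw [h3, mul_one]
        exact mul_left_cancel₀ hne h4
      refine ⟨⟨f, hfp⟩, ?_⟩
      apply Subtype.ext
      apply Subtype.ext
      funext g
      exact (hχf g).symm
  have hcard : p ∣ Nat.card (G ⧸ N) := hdvd
  rw [← Nat.card_eq_of_bijective Ψ hΨ]
  exact card_hom_pow_eq_one hcyc p hcard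

end fiber

end Cfsg.Agent.Lib.Helper6.GalFix
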