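import Mathlib
import Cfsg.Agent.Lib.Helper6.GalFix2
import Cfsg.Agent.Lib.Helper6.BlkPrincipalCover
import Cfsg.Agent.Lib.Helper6.IrrBasis

set_option autoImplicit false
set_option linter.unusedSectionVars false
set_option linter.style.haveILetI false
open Cfsg

universe u

namespace Cfsg.Agent.Lib.Helper6.GalFix

open Cfsg.Agent.Lib.Helper6 Cfsg.Agent.Lib.Helper3.DetChar
open scoped ComplexConjugate

theorem card_eq_mul_of_fiber {A B : Type*} [Finite A] [Finite B] (r : A → B) (p : ℕ)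
    (h : ∀ b, Nat.card {a // r a = b} = p) : Nat.card A = p * Nat.card B := by
  classical
  haveI : Fintype B := Fintype.ofFinite B
  rw [← Nat.card_congr (Equiv.sigmaFiberEquiv r), Nat.card_sigma]
  simp only [h, Finset.sum_const, Finset.card_univ, smul_eq_mul, Nat.card_eq_fintype_card]
  exact mul_comm _ _

section main

variable {G : Type u} [Group G] [Finite G]

theorem card_galois_fixed (p : ℕ) [hpF : Fact p.Prime] (M : Ideal Cfsg.AlgInt)
    (hM : Cfsg.IsPModular p M) (P : Subgroup G) (N : Subgroup G) [hN : N.Normal]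
    (hPN : P ⊔ N = ⊤) (a : ℕ) (hidx : N.index = p ^ a) (hdvd : p ∣ N.index)
    (hcyc : IsCyclic (G ⧸ N)) (hres : Cfsg.pResidual p ↥N = ⊤)
    (k : ℕ) (hk : Nat.Coprime k (Nat.card G)) (hkQ : ∀ x : G ⧸ N, x ^ k = x ^ (1 + p)) :
    Nat.card {χ : Cfsg.IrrCharacter G // χ ∈ Cfsg.principalBlock M G ∧
        ¬ p ∣ Cfsg.charDegree (χ : G → ℂ) ∧ ∀ g : G, (χ : G → ℂ) (g ^ k) = (χ : G → ℂ) g}
      = p * Nat.card {θ : Cfsg.IrrCharacter ↥N // θ ∈ Cfsg.principalBlock M ↥N ∧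
        ¬ p ∣ Cfsg.charDegree (θ : ↥N → ℂ) ∧
        (∀ x ∈ P, ∀ n : ↥N, (θ : ↥N → ℂ) ⟨x * n * x⁻¹, hN.conj_mem n n.2 x⟩ = (θ : ↥N → ℂ) n) ∧
        ∀ n : ↥N, (θ : ↥N → ℂ) (n ^ k) = (θ : ↥N → ℂ) n} := by
  classical
  haveI : Fintype G := Fintype.ofFinite G
  haveI : Fintype N := Fintype.ofFinite N
  have hp : p.Prime := hpF.out
  have hresirr : ∀ χ : Cfsg.IrrCharacter G, ¬ p ∣ Cfsg.charDegree (χ : G → ℂ) →
      Cfsg.IsIrrCharacter N (fun n : N => (χ : G → ℂ) n) :=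
    fun χ h => restrict_irr N hp a hidx χ.2 h
  have hdegres : ∀ χ : G → ℂ, Cfsg.charDegree (fun n : N => χ n) = Cfsg.charDegree χ := by
    intro χ
    unfold Cfsg.charDegree
    show ⌊(χ ((1 : N) : G)).re⌋₊ = _
    rw [Subgroup.coe_one]
  have hself : ∀ θ : Cfsg.IrrCharacter N,
      Cfsg.classInner (θ : N → ℂ) (θ : N → ℂ) ≠ 0 := by
    intro θ
    rw [classInner_irrCharacter, if_pos rfl]
    exact one_ne_zero
  have hB : ∀ (χ : Cfsg.IrrCharacter G) (_ : χ ∈ Cfsg.principalBlock M G)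
      (h2 : ¬ p ∣ Cfsg.charDegree (χ : G → ℂ))
      (_ : ∀ g : G, (χ : G → ℂ) (g ^ k) = (χ : G → ℂ) g),
      (⟨fun n : N => (χ : G → ℂ) n, hresirr χ h2⟩ : Cfsg.IrrCharacter N)
          ∈ Cfsg.principalBlock M ↥N ∧
        ¬ p ∣ Cfsg.charDegree (fun n : N => (χ : G → ℂ) n) ∧
        (∀ x ∈ P, ∀ n : ↥N, (χ : G → ℂ) (⟨x * n * x⁻¹, hN.conj_mem n n.2 x⟩ : N)
          = (χ : G → ℂ) n) ∧
        ∀ n : ↥N, (χ : G → ℂ) ((n ^ k : N) : G) = (χ : G → ℂ) n := by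
    intro χ h1 h2 h3
    refine ⟨?_, ?_, ?_, ?_⟩
    · exact mem_principalBlock_of_constituent N hN hM χ h1 _ (hself ⟨_, hresirr χ h2⟩)
    · rw [hdegres]
      exact h2
    · intro x _ n
      exact IsIrrCharacter.isClassFunction χ.2 (n : G) x
    · intro n
      rw [Subgroup.coe_pow]
      exact h3 n
  apply card_eq_mul_of_fiber (r := fun χ =>
    ⟨⟨fun n : N => (χ.1 : G → ℂ) n, hresirr χ.1 χ.2.2.1⟩, hB χ.1 χ.2.1 χ.2.2.1 χ.2.2.2⟩)
  rintro ⟨θ, hθ1, hθ2, hθ3, hθ4⟩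
  -- invariance under all of `G`
  have hinv : ∀ (g : G) (n : N),
      (θ : N → ℂ) ⟨g * n * g⁻¹, hN.conj_mem (n : G) n.2 g⟩ = (θ : N → ℂ) n := by
    intro g n
    have hfix : ∀ x : P, irrConj N hN (x : G)⁻¹ θ = θ := by
      intro x
      apply Subtype.ext
      rw [irrConj_coe]
      funext n
      rw [conjFun_apply]
      exact hθ3 (x : G)⁻¹ (inv_mem x.2) n
    have h1 := Cfsg.Agent.Lib.Helper1.CharThompson.invariant_of_fixed N hN P hPN θ hfix g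
    have h2 := congrFun (congrArg (fun t : Cfsg.IrrCharacter N => (t : N → ℂ)) h1) n
    simp only [irrConj_coe, conjFun_apply] at h2
    exact h2
  refine Eq.trans (Nat.card_congr ?_)
    (card_fiber N p a hidx hdvd hcyc hres k hk hkQ (θ : N → ℂ) θ.2 hinv hθ2 hθ4)
  refine
    { toFun := fun χ => ⟨χ.1.1, fun n =>
        congrFun (congrArg (fun t : {θ : Cfsg.IrrCharacter ↥N // θ ∈ Cfsg.principalBlock M ↥N ∧
          ¬ p ∣ Cfsg.charDegree (θ : ↥N → ℂ) ∧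
          (∀ x ∈ P, ∀ n : ↥N, (θ : ↥N → ℂ) ⟨x * n * x⁻¹, hN.conj_mem n n.2 x⟩
            = (θ : ↥N → ℂ) n) ∧
          ∀ n : ↥N, (θ : ↥N → ℂ) (n ^ k) = (θ : ↥N → ℂ) n} =>
            ((t.1 : Cfsg.IrrCharacter N) : N → ℂ)) χ.2) n, χ.1.2.2.2⟩
      invFun := fun χ => ⟨⟨χ.1, ?_, ?_, χ.2.2⟩, ?_⟩
      left_inv := fun χ => Subtype.ext (Subtype.ext rfl)
      right_inv := fun χ => Subtype.ext rfl }
  · -- membership in the principal block
    have e1 : (fun n : N => ((χ.1 : Cfsg.IrrCharacter G) : G → ℂ) n) = (θ : N → ℂ) :=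
      funext χ.2.1
    apply mem_principalBlock_of_over N hM a hidx χ.1 θ hθ1
    rw [e1]
    exact hself θ
  · have e1 : (fun n : N => ((χ.1 : Cfsg.IrrCharacter G) : G → ℂ) n) = (θ : N → ℂ) :=
      funext χ.2.1
    rw [← hdegres, e1]
    exact hθ2
  · apply Subtype.ext
    apply Subtype.ext
    funext n
    exact χ.2.1 n

end main

end Cfsg.Agent.Lib.Helper6.GalFix
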