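import Mathlib
import Cfsg.Agent.Lib.Helper2.HDDefs
import Cfsg.Agent.Lib.Helper6.HDCore

/-!
# HD farm (S1235): unit U2_cent, verbatim (helper6)
-/

set_option autoImplicit false

namespace Cfsg.Agent.Lib.Helper6.HD

open Cfsg.Agent.Lib.Helper2.HDDefs

set_option linter.unusedVariables false in
/-- U2 (L1): if `b ∈ R` has a centralizer of order at most `k` then `|R : M| ≤ k`. -/
theorem U2_cent {P : Type*} [Group P] [Finite P] (R M : Subgroup P) (hMR : M ≤ R)
    (hn : ∀ r ∈ R, ∀ m ∈ M, r * m * r⁻¹ ∈ M) (hsq : ∀ r ∈ R, r * r ∈ M)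
    (b : P) (hb : b ∈ R) (k : ℕ) (hk : Nat.card ↥(Subgroup.centralizer ({b} : Set P)) ≤ k) :
    Nat.card R ≤ k * Nat.card M := by
  refine Cfsg.Agent.Lib.Helper6.HDCore.card_le_of_sq R M hn ?_ b hb k ?_
  · intro r hr
    rw [pow_two]
    exact hsq r hr
  · exact le_trans (Subgroup.card_le_of_le inf_le_right) hk

end Cfsg.Agent.Lib.Helper6.HD
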