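import Mathlib
import Cfsg.Prelude.Def_Local
import Cfsg.Agent.Lib.Helper1.HH2
import Cfsg.Agent.Lib.Helper1.PSolvSub
import Cfsg.Agent.Lib.Helper1.PConstrainedOfPSolvable
import Cfsg.Agent.Lib.Helper2.Cores
import Cfsg.Agent.Lib.Helper3.HHC10
import Cfsg.Agent.Lib.Helper3.UpperPSeries
set_option autoImplicit false
open Cfsg
universe u v
namespace Cfsg.Agent.Lib.Helper6.HHE

/-- elements of `R ⊔ zpowers x` are products `r * x ^ j` when `x` normalises `R`. -/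
theorem mem_sup_zpowers {H : Type*} [Group H] (R : Subgroup H) (x : H)
    (hxR : x ∈ Subgroup.normalizer (R : Set H)) (k : H) (hk : k ∈ R ⊔ Subgroup.zpowers x) :
    ∃ r ∈ R, ∃ j : ℤ, k = r * x ^ j := by
  have hconj : ∀ (j : ℤ), ∀ r ∈ R, x ^ j * r * (x ^ j)⁻¹ ∈ R := by
    intro j r hr
    have hj : x ^ j ∈ Subgroup.normalizer (R : Set H) := Subgroup.zpow_mem _ hxR j
    exact (Subgroup.mem_normalizer_iff.mp hj r).mp hr
  let S : Subgroup H :=
    { carrier := {k | ∃ r ∈ R, ∃ j : ℤ, k = r * x ^ j}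
      one_mem' := ⟨1, R.one_mem, 0, by simp⟩
      mul_mem' := by
        rintro _ _ ⟨r₁, hr₁, a, rfl⟩ ⟨r₂, hr₂, b, rfl⟩
        refine ⟨r₁ * (x ^ a * r₂ * (x ^ a)⁻¹), R.mul_mem hr₁ (hconj a r₂ hr₂), a + b, ?_⟩
        rw [zpow_add]; group
      inv_mem' := by
        rintro _ ⟨r, hr, a, rfl⟩
        refine ⟨x ^ (-a) * r⁻¹ * (x ^ (-a))⁻¹, hconj (-a) _ (R.inv_mem hr), -a, ?_⟩
        group }
  have hle : R ⊔ Subgroup.zpowers x ≤ S := by
    refine sup_le ?_ ?_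
    · intro r hr; exact ⟨r, hr, 0, by simp⟩
    · rw [Subgroup.zpowers_le]; exact ⟨1, R.one_mem, 1, by simp⟩
  exact hle hk

/-- powers of `r * x ^ j` stay in `R * x ^ (j * k)`. -/
theorem pow_mul_zpow_mem {H : Type*} [Group H] (R : Subgroup H) (x : H)
    (hxR : x ∈ Subgroup.normalizer (R : Set H)) (r : H) (hr : r ∈ R) (j : ℤ) (k : ℕ) :
    ∃ r' ∈ R, (r * x ^ j) ^ k = r' * x ^ (j * k) := by
  have hconj : ∀ (j : ℤ), ∀ r ∈ R, x ^ j * r * (x ^ j)⁻¹ ∈ R := by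
    intro j r hr
    have hj : x ^ j ∈ Subgroup.normalizer (R : Set H) := Subgroup.zpow_mem _ hxR j
    exact (Subgroup.mem_normalizer_iff.mp hj r).mp hr
  induction k with
  | zero => exact ⟨1, R.one_mem, by simp⟩
  | succ k ih =>
    obtain ⟨r', hr', h⟩ := ih
    refine ⟨r' * (x ^ (j * k) * r * (x ^ (j * k))⁻¹), R.mul_mem hr' (hconj _ r hr), ?_⟩
    rw [pow_succ, h]
    have : j * ((k + 1 : ℕ) : ℤ) = j * k + j := by push_cast; ring
    rw [this, zpow_add]; group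

/-- KEY1 (farm HHE): Theorem B black box on `R<x'>`. -/
theorem key1 {H : Type u} [Group H] [Finite H] {p : ℕ} [hp : Fact p.Prime] (hp2 : p ≠ 2)
    (hsol : IsPSolvable p H)
    {V : Type v} [AddCommGroup V] [Module (ZMod p) V] [Finite V]
    (ρ : H →* (V ≃ₗ[ZMod p] V)) (hρ : Function.Injective ρ) (n : ℕ)
    (hE2 : ∀ h : H, orderOf h = p ^ (n + 1) →
      (((ρ h : V ≃ₗ[ZMod p] V) : Module.End (ZMod p) V) - 1) ^ (p ^ (n + 1) - 1) = 0)
    (x' : H) (hx' : orderOf x' = p ^ (n + 1)) (R : Subgroup H)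
    (hxR : x' ∈ Subgroup.normalizer (R : Set H)) (hRp : (Nat.card R).Coprime p)
    (hR2 : ∀ S : Subgroup H, S ≤ R → IsPGroup 2 S → ∀ a ∈ S, ∀ b ∈ S, a * b = b * a) :
    x' ^ p ^ n ∈ Subgroup.centralizer (R : Set H) := by
  by_contra hw
  have hxN : x' ^ p ^ (n + 1) = 1 := by rw [← hx']; exact pow_orderOf_eq_one x'
  obtain ⟨K₀, hK₀⟩ : ∃ K₀, K₀ = R ⊔ Subgroup.zpowers x' := ⟨_, rfl⟩
  have hRK : R ≤ K₀ := by rw [hK₀]; exact le_sup_left
  have hxK : x' ∈ K₀ := by rw [hK₀]; exact Subgroup.mem_sup_right (Subgroup.mem_zpowers x')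
  have hKN : K₀ ≤ Subgroup.normalizer (R : Set H) := by
    rw [hK₀]; exact sup_le Subgroup.le_normalizer (by rw [Subgroup.zpowers_le]; exact hxR)
  have hF1 : ∀ k ∈ K₀, ∃ r ∈ R, ∃ j : ℤ, k = r * x' ^ j := by
    intro k hk; rw [hK₀] at hk; exact mem_sup_zpowers R x' hxR k hk
  -- p-elements of R are trivial
  have hRp1 : ∀ g ∈ R, ∀ a : ℕ, g ^ p ^ a = 1 → g = 1 := by
    intro g hg a ha
    have h1 : orderOf g ∣ p ^ a := orderOf_dvd_of_pow_eq_one ha
    have h2 : orderOf g ∣ Nat.card R := Subgroup.orderOf_dvd_natCard R hg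
    exact orderOf_eq_one_iff.mp
      (Nat.eq_one_of_dvd_coprimes (Nat.Coprime.pow_left a hRp.symm) h1 h2)
  -- no nontrivial power of x' centralises R
  have hcentX : ∀ j : ℤ, x' ^ j ≠ 1 → ¬ (∀ r ∈ R, x' ^ j * r = r * x' ^ j) := by
    intro j hj hc
    apply hw
    have hN0 : (0 : ℤ) < ((p ^ (n + 1) : ℕ) : ℤ) := by exact_mod_cast pow_pos hp.out.pos _
    obtain ⟨i, hi⟩ : ∃ i : ℕ, (i : ℤ) = j % ((p ^ (n + 1) : ℕ) : ℤ) :=
      ⟨(j % ((p ^ (n + 1) : ℕ) : ℤ)).toNat, Int.toNat_of_nonneg (Int.emod_nonneg _ hN0.ne')⟩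
    have hxi : x' ^ i = x' ^ j := by
      rw [← zpow_natCast, hi, ← hx', zpow_mod_orderOf]
    have hilt : i < p ^ (n + 1) := by
      have := Int.emod_lt_of_pos j hN0
      rw [← hi] at this; exact_mod_cast this
    have hi0 : 0 < i := by
      rcases Nat.eq_zero_or_pos i with h | h
      · exfalso; apply hj; rw [← hxi, h, pow_zero]
      · exact h
    have hmem := Cfsg.Agent.Lib.Helper1.HH.pow_pow_mem_zpowers hp.out x' n hxN i hi0 hilt
    rw [hxi] at hmem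
    obtain ⟨t, ht⟩ := Subgroup.mem_zpowers_iff.mp hmem
    rw [Subgroup.mem_centralizer_iff]
    intro r hr
    rw [← ht]
    have hcm : Commute (x' ^ j) r := hc r hr
    exact ((hcm.zpow_left t).eq).symm
  -- the group K
  have hsolK : IsPSolvable p K₀ := Cfsg.Agent.Lib.Helper1.PSolvSub.isPSolvable_subgroup hsol K₀
  have hOpK : pCore p K₀ = ⊥ := by
    rw [eq_bot_iff]
    intro a' ha'
    haveI hOn : (pCore p K₀).Normal := (Cfsg.Agent.Lib.Helper2.pCore_mem (G := K₀) p).1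
    have hOp : IsPGroup p (pCore p K₀) := Cfsg.Agent.Lib.Helper2.pCore_isPGroup (G := K₀) p
    obtain ⟨a, haK⟩ := a'
    -- a is a p-element
    obtain ⟨ka, hka⟩ := hOp ⟨⟨a, haK⟩, ha'⟩
    have hka' : a ^ p ^ ka = 1 := by
      have := congrArg (fun z : ↥(pCore p K₀) => ((z : K₀) : H)) hka
      simpa using this
    -- Step A: a centralises R
    have hA : ∀ r ∈ R, a * r = r * a := by
      intro r hr
      have hrK : r ∈ K₀ := hRK hr
      -- c := a * r * a⁻¹ * r⁻¹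
      have hc1 : (⟨r, hrK⟩ : K₀) * (⟨a, haK⟩ : K₀)⁻¹ * (⟨r, hrK⟩ : K₀)⁻¹ ∈ pCore p K₀ :=
        hOn.conj_mem _ ((pCore p K₀).inv_mem ha') _
      have hc2 : (⟨a, haK⟩ : K₀) * ((⟨r, hrK⟩ : K₀) * (⟨a, haK⟩ : K₀)⁻¹ * (⟨r, hrK⟩ : K₀)⁻¹) ∈
          pCore p K₀ := (pCore p K₀).mul_mem ha' hc1
      obtain ⟨kc, hkc⟩ := hOp ⟨_, hc2⟩
      have hkc' : (a * (r * a⁻¹ * r⁻¹)) ^ p ^ kc = 1 := by
        have := congrArg (fun z : ↥(pCore p K₀) => ((z : K₀) : H)) hkc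
        simpa using this
      have hcR : a * (r * a⁻¹ * r⁻¹) ∈ R := by
        have h1 : a * r * a⁻¹ ∈ R := (Subgroup.mem_normalizer_iff.mp (hKN haK) r).mp hr
        have : a * (r * a⁻¹ * r⁻¹) = (a * r * a⁻¹) * r⁻¹ := by group
        rw [this]; exact R.mul_mem h1 (R.inv_mem hr)
      have h1 := hRp1 _ hcR kc hkc'
      calc a * r = (a * (r * a⁻¹ * r⁻¹)) * r * a := by group
        _ = r * a := by rw [h1, one_mul]
    -- write a = r * x'^j
    obtain ⟨r, hr, j, haj⟩ := hF1 a haK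
    -- (x'^j)^|R| = a^|R|
    have hcomm : Commute a r⁻¹ := (show Commute a r from hA r hr).inv_right
    have hxj : x' ^ j = r⁻¹ * a := by rw [haj]; group
    have hpowR : (x' ^ j) ^ Nat.card R = a ^ Nat.card R := by
      rw [hxj, (hcomm.symm).mul_pow, inv_pow]
      have : r ^ Nat.card R = 1 := by
        have h0 : orderOf r ∣ Nat.card R := Subgroup.orderOf_dvd_natCard R hr
        exact orderOf_dvd_iff_pow_eq_one.mp h0
      rw [this, inv_one, one_mul]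
    -- x'^j centralises R
    by_cases hj1 : x' ^ j = 1
    · -- then a ∈ R is a p-element
      have : a = r := by rw [haj, hj1, mul_one]
      have ha1 : a = 1 := hRp1 a (this ▸ hr) ka hka'
      rw [Subgroup.mem_bot]
      exact Subtype.ext ha1
    · exfalso
      apply hcentX j hj1
      -- x'^j ∈ zpowers a
      have hxjp : (x' ^ j) ^ p ^ (n + 1) = 1 := by
        rw [← zpow_natCast, ← zpow_mul, mul_comm, zpow_mul, zpow_natCast, hxN, one_zpow]
      have hcop : Nat.Coprime (Nat.card R) (p ^ (n + 1)) := Nat.Coprime.pow_right _ hRp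
      obtain ⟨u, -, hu⟩ : ∃ u, u < p ^ (n + 1) ∧ Nat.card R * u % p ^ (n + 1) = 1 :=
        Nat.exists_mul_mod_eq_one_of_coprime hcop
          (Nat.one_lt_pow (Nat.succ_ne_zero n) hp.out.one_lt)
      obtain ⟨t, ht⟩ : ∃ t, Nat.card R * u = p ^ (n + 1) * t + 1 :=
        ⟨Nat.card R * u / p ^ (n + 1), by
          have := (Nat.div_add_mod (Nat.card R * u) (p ^ (n + 1))).symm
          rw [hu] at this; exact this⟩
      have hxja : x' ^ j = a ^ (Nat.card R * u) := by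
        rw [pow_mul, ← hpowR, ← pow_mul, ht, pow_add, pow_mul, hxjp, one_pow, one_mul, pow_one]
      intro r₂ hr₂
      rw [hxja]
      exact (((show Commute a r₂ from hA r₂ hr₂).pow_left _).eq)
  -- transport to GL(V)
  obtain ⟨Hs, hHs⟩ : ∃ Hs, Hs = K₀.map ρ := ⟨_, rfl⟩
  obtain ⟨e, he⟩ : ∃ e : K₀ ≃* Hs, ∀ k : K₀, ((e k : Hs) : V ≃ₗ[ZMod p] V) = ρ k := by
    subst hHs
    exact ⟨K₀.equivMapOfInjective ρ hρ, fun k => rfl⟩
  haveI : Finite Hs := Finite.of_surjective e e.surjective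
  have hsolHs : IsPSolvable p Hs :=
    Cfsg.Agent.Lib.Helper1.isPSolvable_of_surjective p e.toMonoidHom e.surjective hsolK
  have hOpHs : pCore p Hs = ⊥ := by
    rw [← Cfsg.Agent.Lib.Helper3.pCore_map_equiv p e, hOpK, Subgroup.map_bot]
  have hxHs : ρ x' ∈ Hs := by rw [hHs]; exact ⟨x', hxK, rfl⟩
  have hordρ : orderOf (ρ x') = p ^ (n + 1) := by rw [orderOf_injective ρ hρ x', hx']
  have key := Cfsg.Agent.Lib.Helper3.HHC10.theoremB_concrete (F := ZMod p) (p := p) Hs hsolHs hOpHs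
    (ρ x') hxHs n hordρ
  rcases key with h | ⟨q, n₀, m, hq, h1, h2, h3, h4, h5, -⟩
  · exact h (hE2 x' hx')
  · -- q = 2
    have hq2 : q = 2 := by
      have hodd : Odd (p ^ n₀) := (hp.out.odd_of_ne_two hp2).pow
      have hpos : 1 ≤ p ^ n₀ := Nat.one_le_pow _ _ hp.out.pos
      have heven : Even (p ^ n₀ - 1) := by
        obtain ⟨c, hc⟩ := hodd
        exact ⟨c, by omega⟩
      rw [h4] at heven
      have h2q : 2 ∣ q ^ m := even_iff_two_dvd.mp heven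
      have := Nat.Prime.dvd_of_dvd_pow Nat.prime_two h2q
      exact ((Nat.prime_dvd_prime_iff_eq Nat.prime_two hq).mp this).symm
    subst hq2
    haveI : Fact (Nat.Prime 2) := ⟨Nat.prime_two⟩
    obtain ⟨S⟩ : Nonempty (Sylow 2 Hs) := inferInstance
    apply h5 S
    -- S_H : the 2-subgroup of H corresponding to S
    obtain ⟨SH, hSH⟩ : ∃ SH : Subgroup H,
        SH = ((S : Subgroup Hs).comap e.toMonoidHom).map K₀.subtype := ⟨_, rfl⟩
    have hSH2 : IsPGroup 2 SH := by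
      rw [hSH]
      exact (S.isPGroup'.comap_of_injective e.toMonoidHom e.injective).map _
    have hSHK : SH ≤ K₀ := by rw [hSH]; rintro _ ⟨k, -, rfl⟩; exact k.2
    have hSHR : SH ≤ R := by
      intro s hs
      obtain ⟨r, hr, j, hsj⟩ := hF1 s (hSHK hs)
      obtain ⟨a, ha⟩ := hSH2 ⟨s, hs⟩
      have ha' : s ^ 2 ^ a = 1 := by simpa using congrArg Subtype.val ha
      obtain ⟨r', hr', hpw⟩ := pow_mul_zpow_mem R x' hxR r hr j (2 ^ a)
      rw [← hsj, ha'] at hpw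
      -- x'^(j * 2^a) = r'⁻¹ ∈ R, a p-element
      have hxr : x' ^ (j * ((2 ^ a : ℕ) : ℤ)) = r'⁻¹ := by
        have : r' * x' ^ (j * ((2 ^ a : ℕ) : ℤ)) = 1 := hpw.symm
        exact eq_inv_of_mul_eq_one_right this
      have hxp : (x' ^ (j * ((2 ^ a : ℕ) : ℤ))) ^ p ^ (n + 1) = 1 := by
        rw [← zpow_natCast, ← zpow_mul, mul_comm, zpow_mul, zpow_natCast, hxN, one_zpow]
      have h1' : x' ^ (j * ((2 ^ a : ℕ) : ℤ)) = 1 :=
        hRp1 _ (by rw [hxr]; exact R.inv_mem hr') (n + 1) hxp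
      -- so (x'^j)^(2^a) = 1 and (x'^j)^(p^(n+1)) = 1
      have hxj2 : (x' ^ j) ^ 2 ^ a = 1 := by
        rw [← zpow_natCast, ← zpow_mul]; exact h1'
      have hxjp : (x' ^ j) ^ p ^ (n + 1) = 1 := by
        rw [← zpow_natCast, ← zpow_mul, mul_comm, zpow_mul, zpow_natCast, hxN, one_zpow]
      have hd1 : orderOf (x' ^ j) ∣ 2 ^ a := orderOf_dvd_of_pow_eq_one hxj2
      have hd2 : orderOf (x' ^ j) ∣ p ^ (n + 1) := orderOf_dvd_of_pow_eq_one hxjp
      have hcop : Nat.Coprime (2 ^ a) (p ^ (n + 1)) :=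
        Nat.Coprime.pow _ _ ((Nat.coprime_primes Nat.prime_two hp.out).mpr (Ne.symm hp2))
      have hxj1 : x' ^ j = 1 := orderOf_eq_one_iff.mp (Nat.eq_one_of_dvd_coprimes hcop hd1 hd2)
      rw [hsj, hxj1, mul_one]; exact hr
    have hcommSH := hR2 SH hSHR hSH2
    refine ⟨⟨fun a b => ?_⟩⟩
    obtain ⟨ka, hka⟩ := e.surjective (a : Hs)
    obtain ⟨kb, hkb⟩ := e.surjective (b : Hs)
    have hkaS : (ka : H) ∈ SH := by
      rw [hSH]; refine ⟨ka, ?_, rfl⟩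
      show e ka ∈ (S : Subgroup Hs); rw [hka]; exact a.2
    have hkbS : (kb : H) ∈ SH := by
      rw [hSH]; refine ⟨kb, ?_, rfl⟩
      show e kb ∈ (S : Subgroup Hs); rw [hkb]; exact b.2
    have hkk : ka * kb = kb * ka := Subtype.ext (hcommSH _ hkaS _ hkbS)
    apply Subtype.ext
    show (a : Hs) * (b : Hs) = (b : Hs) * (a : Hs)
    rw [← hka, ← hkb, ← map_mul, ← map_mul, hkk]

end Cfsg.Agent.Lib.Helper6.HHE
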