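import Mathlib
import Cfsg.Prelude.Def_Local
import Cfsg.Agent.Lib.Helper1.HH3
import Cfsg.Agent.Lib.Helper1.HH4
import Cfsg.Agent.Lib.Helper1.PCore
import Cfsg.Agent.Lib.Helper1.UpperPSeriesCentralizer
import Cfsg.Agent.Lib.Helper2.HHDual
import Cfsg.Agent.Lib.Helper3.UpperPSeries
import Cfsg.Agent.Lib.Helper1.HHELemE
import Cfsg.Agent.Lib.Helper6.HHEKey1
import Cfsg.Agent.Lib.Helper7.HH2LQFinal
set_option autoImplicit false
open Cfsg
open Cfsg.Agent.Lib.Helper1.HH
universe u v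
namespace Cfsg.Agent.Lib.Helper6.HHE

/-! ## farm HHE (S3786): ATL, the two-level lemma (Route B: helper1's Lemma Q). -/

/-- ATL via Route B (Lemma Q). -/
theorem atl {H : Type u} [Group H] [Finite H] {p : ℕ} [hp : Fact p.Prime] (hp2 : p ≠ 2)
    (hsol : IsPSolvable p H) (hOp : pCore p H = ⊥)
    {V : Type v} [AddCommGroup V] [Module (ZMod p) V] [Finite V]
    (ρ : H →* (V ≃ₗ[ZMod p] V)) (hρ : Function.Injective ρ) (n : ℕ)
    (hexp : ExpLE p (n + 1) H)
    (hE2 : ∀ h : H, orderOf h = p ^ (n + 1) →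
      (((ρ h : V ≃ₗ[ZMod p] V) : Module.End (ZMod p) V) - 1) ^ (p ^ (n + 1) - 1) = 0)
    (x : H) (hx : x ^ p ^ (n + 1) = 1) : x ^ p ^ n ∈ (upperPSeries p H 2).1 := by
  by_contra hz
  obtain ⟨N, hN⟩ : ∃ N, N = pPrimeCore p H := ⟨_, rfl⟩
  haveI hNn : N.Normal := by rw [hN]; exact (Cfsg.Agent.Lib.Helper2.pPrimeCore_mem p).1
  have hNcop : (Nat.card N).Coprime p := by
    rw [hN]; exact (Cfsg.Agent.Lib.Helper2.pPrimeCore_mem p).2
  have hCN : Subgroup.centralizer (N : Set H) ≤ N := by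
    rw [hN]; exact Cfsg.Agent.Lib.Helper2.centralizer_pPrimeCore_le p hsol hOp
  obtain ⟨U, hU⟩ : ∃ U, U = (upperPSeries p H 2).1 := ⟨_, rfl⟩
  haveI hUn : U.Normal := by rw [hU]; exact (upperPSeries p H 2).2
  have hUmem : ∀ g : H, g ∈ U ↔ QuotientGroup.mk' N g ∈ pCore p (H ⧸ N) := by
    intro g
    rw [hU, Cfsg.Agent.Lib.Helper3.upperPSeries_two]
    subst hN
    rfl
  rw [← hU] at hz
  have hxp : IsPGroup p (Subgroup.zpowers x) := by
    obtain ⟨k, -, hk⟩ := (Nat.dvd_prime_pow hp.out).mp (orderOf_dvd_of_pow_eq_one hx)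
    exact IsPGroup.of_card (n := k) (by rw [Nat.card_zpowers, hk])
  obtain ⟨T₀, hT₀⟩ := hxp.exists_le_sylow
  have hxT₀ : x ∈ (T₀ : Subgroup H) := hT₀ (Subgroup.mem_zpowers x)
  obtain ⟨T, hT⟩ : ∃ T, T = (T₀ : Subgroup H) := ⟨_, rfl⟩
  have hTp : IsPGroup p T := by rw [hT]; exact T₀.isPGroup'
  have hxT : x ∈ T := by rw [hT]; exact hxT₀
  have hTexp : ∀ t ∈ T, t ^ p ^ (n + 1) = 1 := by
    intro t ht
    obtain ⟨k, hk⟩ := hTp ⟨t, ht⟩
    apply hexp t ⟨k, ?_⟩
    have := congrArg Subtype.val hk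
    simpa using this
  -- C_T(N) = 1
  have hPK : ∀ t ∈ T, (∀ k ∈ N, t * k = k * t) → t = 1 := by
    intro y hyT hyc
    have hyC : y ∈ Subgroup.centralizer (N : Set H) := by
      rw [Subgroup.mem_centralizer_iff]
      intro g hg
      exact (hyc g hg).symm
    have hyNmem : y ∈ N := hCN hyC
    obtain ⟨k, hk⟩ := hTp ⟨y, hyT⟩
    have hk' : y ^ p ^ k = 1 := by simpa using congrArg Subtype.val hk
    have h1 : orderOf y ∣ p ^ k := orderOf_dvd_of_pow_eq_one hk'
    have h2 : orderOf y ∣ Nat.card N := Subgroup.orderOf_dvd_natCard N hyNmem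
    have h3 : orderOf y = 1 :=
      Nat.eq_one_of_dvd_coprimes (Nat.Coprime.pow_left k hNcop.symm) h1 h2
    exact orderOf_eq_one_iff.mp h3
  -- (*) from KEY1
  have hstar : ∀ t ∈ T, ∀ B : Subgroup H, B ≤ N → (∀ a ∈ B, ∀ b ∈ B, a * b = b * a) →
      (∀ b ∈ B, t * b * t⁻¹ ∈ B) → ∀ b ∈ B, t ^ p ^ n * b = b * t ^ p ^ n := by
    intro t ht B hBN hBab hBt b hb
    by_cases h1 : t ^ p ^ n = 1
    · rw [h1, one_mul, mul_one]
    · have hord : orderOf t = p ^ (n + 1) := orderOf_eq_prime_pow h1 (hTexp t ht)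
      have hRp : (Nat.card B).Coprime p :=
        Nat.Coprime.coprime_dvd_left (Subgroup.card_dvd_of_le hBN) hNcop
      have hnorm : t ∈ Subgroup.normalizer (B : Set H) := by
        haveI : Finite B := inferInstance
        rw [Subgroup.mem_normalizer_iff]
        intro c
        constructor
        · intro hc; exact hBt c hc
        · intro hc
          -- conjugation by t is injective on the finite set B, hence surjective
          have hinj : Function.Injective (fun c : B => (⟨t * c * t⁻¹, hBt c c.2⟩ : B)) := by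
            intro c1 c2 h
            have := congrArg Subtype.val h
            simp only at this
            apply Subtype.ext
            have h2 : t * (c1 : H) = t * (c2 : H) := mul_right_cancel this
            exact mul_left_cancel h2
          have hsurj := Finite.surjective_of_injective hinj
          obtain ⟨c', hc'⟩ := hsurj ⟨t * c * t⁻¹, hc⟩
          have := congrArg Subtype.val hc'
          simp only at this
          have h2 : t * (c' : H) = t * c := mul_right_cancel this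
          have h3 : (c' : H) = c := mul_left_cancel h2
          rw [← h3]; exact c'.2
      have hcent := key1 hp2 hsol ρ hρ n hE2 t hord B hnorm hRp
        (fun S' hS' _ a ha b hb => hBab a (hS' ha) b (hS' hb))
      exact (Subgroup.mem_centralizer_iff.mp hcent b hb).symm
  have hQ := Cfsg.Agent.Lib.Helper7.HH2L.pow_commute_of_exceptional hp2 N hNcop T hTp hPK n
    hTexp hstar
  -- LEM-E in K = H ⧸ N
  have hsolK : IsPSolvable p (H ⧸ N) := Cfsg.Agent.S4218.isPSolvable_quotient p N hsol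
  have hbotK : pPrimeCore p (H ⧸ N) = ⊥ :=
    Cfsg.Agent.Lib.Helper1.pPrimeCore_quotient_eq_bot_of_eq p N hN
  have hxK : (QuotientGroup.mk' N x) ^ p ^ (n + 1) = 1 := by rw [← map_pow, hx, map_one]
  have hxnK : (QuotientGroup.mk' N x) ^ p ^ n ∉ pCore p (H ⧸ N) := by
    rw [← map_pow, ← hUmem]; exact hz
  obtain ⟨ub, hub, hne⟩ := Cfsg.Agent.Lib.Helper1.HHE.lemE hp2 hsolK hbotK n (QuotientGroup.mk' N x) hxK hxnK
  have hlift : ∃ u ∈ T, QuotientGroup.mk' N u = ub := by
    have hsurj := QuotientGroup.mk'_surjective N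
    have h1 : pCore p (H ⧸ N) ≤ (T₀.mapSurjective hsurj : Sylow p (H ⧸ N)) :=
      Cfsg.Agent.Lib.Helper1.pCore_le_sylow p _
    have h2 := h1 hub
    have h2' : ub ∈ ((T₀.mapSurjective hsurj : Sylow p (H ⧸ N)) : Subgroup (H ⧸ N)) := h2
    rw [Sylow.coe_mapSurjective] at h2'
    obtain ⟨t, ht, rfl⟩ := h2'
    exact ⟨t, by rw [hT]; exact ht, rfl⟩
  obtain ⟨u, hu, rfl⟩ := hlift
  apply hne
  have := hQ (u * x) (T.mul_mem hu hxT) x hxT
  rw [← map_mul, ← map_pow, ← map_pow, ← map_mul, ← map_mul, this]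

end Cfsg.Agent.Lib.Helper6.HHE
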