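import Mathlib
import Cfsg.Prelude.Def_Local
import Cfsg.Agent.Lib.Helper1.HH3
import Cfsg.Agent.Lib.Helper1.HH4
import Cfsg.Agent.Lib.Helper1.UpperPSeriesCentralizer
import Cfsg.Agent.Lib.Helper2.HHDual
import Cfsg.Agent.Lib.Helper3.HHB3
import Cfsg.Agent.Lib.Helper3.UpperPSeries
import Cfsg.Agent.Lib.Helper1.HHELin
import Cfsg.Agent.Lib.Helper6.HHEAtl
set_option autoImplicit false
open Cfsg
open Cfsg.Agent.Lib.Helper1.HH
open scoped BigOperators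
universe u
namespace Cfsg.Agent.Lib.Helper6.HHE

/-! ## farm HHE (S3786): TLG, group form of the two-level lemma. -/

/-- `O_p(G / O_{p',p}(G)) = 1`. -/
theorem pCore_quot_pPrimePCore_eq_bot {G : Type u} [Group G] [Finite G] (p : ℕ) [Fact p.Prime]
    (U : Subgroup G) [U.Normal] (hU : U = pPrimePCore p G) : pCore p (G ⧸ U) = ⊥ := by
  obtain ⟨N, hN⟩ : ∃ N, N = pPrimeCore p G := ⟨_, rfl⟩
  haveI hNn : N.Normal := by rw [hN]; exact (Cfsg.Agent.Lib.Helper2.pPrimeCore_mem p).1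
  have hUmem : ∀ g : G, g ∈ U ↔ QuotientGroup.mk' N g ∈ pCore p (G ⧸ N) := by
    intro g; rw [hU]; subst hN; rfl
  obtain ⟨M, hM⟩ : ∃ M, M = (pCore p (G ⧸ U)).comap (QuotientGroup.mk' U) := ⟨_, rfl⟩
  haveI hMn : M.Normal := by
    rw [hM]; exact (inferInstance : (pCore p (G ⧸ U)).Normal).comap _
  -- image of M in G ⧸ N is a normal p-subgroup
  obtain ⟨M', hM'⟩ : ∃ M', M' = M.map (QuotientGroup.mk' N) := ⟨_, rfl⟩
  haveI hM'n : M'.Normal := by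
    rw [hM']; exact Subgroup.Normal.map hMn _ (QuotientGroup.mk'_surjective N)
  have hM'p : IsPGroup p M' := by
    rintro ⟨_, hm'⟩
    rw [hM'] at hm'
    obtain ⟨m, hm, rfl⟩ := hm'
    rw [hM] at hm
    have hm : QuotientGroup.mk' U m ∈ pCore p (G ⧸ U) := hm
    obtain ⟨k, hk⟩ := (Cfsg.Agent.Lib.Helper2.pCore_isPGroup (G := G ⧸ U) p) ⟨_, hm⟩
    have hk' : (QuotientGroup.mk' U m) ^ p ^ k = 1 := by simpa using congrArg Subtype.val hk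
    rw [← map_pow, QuotientGroup.mk'_apply, QuotientGroup.eq_one_iff, hUmem] at hk'
    obtain ⟨j, hj⟩ := (Cfsg.Agent.Lib.Helper2.pCore_isPGroup (G := G ⧸ N) p) ⟨_, hk'⟩
    have hj' : (QuotientGroup.mk' N (m ^ p ^ k)) ^ p ^ j = 1 := by
      simpa using congrArg Subtype.val hj
    refine ⟨k + j, Subtype.ext ?_⟩
    show (QuotientGroup.mk' N m) ^ p ^ (k + j) = 1
    rw [pow_add, pow_mul, ← map_pow]
    exact hj'
  have hle : M' ≤ pCore p (G ⧸ N) := Cfsg.Agent.Lib.Helper2.le_pCore hM'p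
  rw [eq_bot_iff]
  intro y hy
  obtain ⟨g, rfl⟩ := QuotientGroup.mk'_surjective U y
  have hgM : g ∈ M := by rw [hM]; exact hy
  have hgU : g ∈ U := by
    rw [hUmem]; apply hle; rw [hM']; exact ⟨g, hgM, rfl⟩
  rw [Subgroup.mem_bot, QuotientGroup.mk'_apply, QuotientGroup.eq_one_iff]
  exact hgU


theorem coe_pow_apply {R M : Type*} [Semiring R] [AddCommMonoid M] [Module R M]
    (e : M ≃ₗ[R] M) (k : ℕ) (v : M) :
    ((e ^ k : M ≃ₗ[R] M)) v = (((e : M ≃ₗ[R] M) : Module.End R M) ^ k) v := by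
  induction k generalizing v with
  | zero => simp
  | succ k ih =>
    rw [pow_succ, pow_succ, LinearEquiv.mul_apply, ih, Module.End.mul_apply]
    rfl

/-- TLG: group form of the two-level lemma. -/
theorem tl_general {G : Type u} [Group G] [Finite G] {p : ℕ} [hp : Fact p.Prime] (hp2 : p ≠ 2)
    (hsol : IsPSolvable p G) (n : ℕ) (hexp : ExpLE p (n + 1) G) (x : G)
    (hx : ∃ a, x ^ p ^ a = 1) : x ^ p ^ n ∈ (upperPSeries p G 4).1 := by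
  obtain ⟨N, hN⟩ : ∃ N, N = pPrimeCore p G := ⟨_, rfl⟩
  haveI hNn : N.Normal := by rw [hN]; exact (Cfsg.Agent.Lib.Helper2.pPrimeCore_mem p).1
  have hsol₁ : IsPSolvable p (G ⧸ N) := Cfsg.Agent.S4218.isPSolvable_quotient p N hsol
  have hbot₁ : pPrimeCore p (G ⧸ N) = ⊥ :=
    Cfsg.Agent.Lib.Helper1.pPrimeCore_quotient_eq_bot_of_eq p N hN
  have hexp₁ : ExpLE p (n + 1) (G ⧸ N) := hexp.map hp.out _ (QuotientGroup.mk'_surjective N)
  obtain ⟨V, iV1, iV2, iV3, ρ, π, hπ, hker, hequiv⟩ := Cfsg.Agent.Lib.Helper1.HHE.lin_package hsol₁ hbot₁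
  obtain ⟨L, hL⟩ : ∃ L, L = pCore p (G ⧸ N) := ⟨_, rfl⟩
  haveI hLn : L.Normal := by rw [hL]; infer_instance
  have hLp : IsPGroup p L := by rw [hL]; exact Cfsg.Agent.Lib.Helper2.pCore_isPGroup p
  obtain ⟨U, hU⟩ : ∃ U, U = (upperPSeries p G 2).1 := ⟨_, rfl⟩
  haveI hUn : U.Normal := by rw [hU]; exact (upperPSeries p G 2).2
  have hU' : U = pPrimePCore p G := by rw [hU, Cfsg.Agent.Lib.Helper3.upperPSeries_two]
  have hUmem : ∀ g : G, g ∈ U ↔ QuotientGroup.mk' N g ∈ pCore p (G ⧸ N) := by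
    intro g; rw [hU']; subst hN; rfl
  obtain ⟨f, hf⟩ : ∃ f : G →* (V ≃ₗ[ZMod p] V), ∀ g, f g = ρ (QuotientGroup.mk' N g) :=
    ⟨ρ.comp (QuotientGroup.mk' N), fun _ => rfl⟩
  have hfker : ∀ g, f g = 1 ↔ g ∈ U := by
    intro g; rw [hUmem, ← hker, MonoidHom.mem_ker, hf]
  obtain ⟨ρ', hρ'⟩ : ∃ ρ' : (G ⧸ U) →* (V ≃ₗ[ZMod p] V), ∀ g, ρ' (QuotientGroup.mk' U g) = f g :=
    ⟨QuotientGroup.lift U f (fun g hg => MonoidHom.mem_ker.mpr ((hfker g).mpr hg)), fun _ => rfl⟩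
  have hρ'inj : Function.Injective ρ' := by
    rw [injective_iff_map_eq_one]
    intro y hy
    obtain ⟨g, rfl⟩ := QuotientGroup.mk'_surjective U y
    rw [hρ', hfker] at hy
    rw [QuotientGroup.mk'_apply, QuotientGroup.eq_one_iff]; exact hy
  have hsol' : IsPSolvable p (G ⧸ U) := Cfsg.Agent.S4218.isPSolvable_quotient p U hsol
  have hOp' : pCore p (G ⧸ U) = ⊥ := pCore_quot_pPrimePCore_eq_bot p U hU'
  have hexp' : ExpLE p (n + 1) (G ⧸ U) := hexp.map hp.out _ (QuotientGroup.mk'_surjective U)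
  have hE2' : ∀ h : G ⧸ U, orderOf h = p ^ (n + 1) →
      (((ρ' h : V ≃ₗ[ZMod p] V) : Module.End (ZMod p) V) - 1) ^ (p ^ (n + 1) - 1) = 0 := by
    intro h hh
    have hhp : h ^ p ^ (n + 1) = 1 := by rw [← hh]; exact pow_orderOf_eq_one h
    obtain ⟨g, rfl, hg⟩ :=
      exists_pElement_lift hp.out _ (QuotientGroup.mk'_surjective U) h (n + 1) hhp
    rw [hρ', hf]
    obtain ⟨gb, hgb⟩ : ∃ gb, gb = QuotientGroup.mk' N g := ⟨_, rfl⟩
    rw [← hgb]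
    have hgbp : ∃ a, gb ^ p ^ a = 1 := by
      obtain ⟨a, ha⟩ := hg
      exact ⟨a, by rw [hgb, ← map_pow, ha, map_one]⟩
    have hgbN : gb ^ p ^ (n + 1) = 1 := hexp₁ gb hgbp
    have hgbpg : IsPGroup p (Subgroup.zpowers gb) := by
      obtain ⟨a, ha⟩ := hgbp
      obtain ⟨k, -, hk⟩ := (Nat.dvd_prime_pow hp.out).mp (orderOf_dvd_of_pow_eq_one ha)
      exact IsPGroup.of_card (n := k) (by rw [Nat.card_zpowers, hk])
    have hLg : IsPGroup p (L ⊔ Subgroup.zpowers gb : Subgroup (G ⧸ N)) :=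
      IsPGroup.to_sup_of_normal_left hLp hgbpg
    rw [← Cfsg.Agent.Lib.Helper3.HHB3.alg_geom_sum_eq_pow (K := ZMod p) p (n + 1)
      (((ρ gb : V ≃ₗ[ZMod p] V)) : Module.End (ZMod p) V)]
    apply LinearMap.ext
    intro v
    subst hL
    obtain ⟨ℓ, hℓ⟩ := hπ (Multiplicative.ofAdd v)
    -- conjugates
    have hc : ∀ i : ℕ, gb ^ i * (ℓ : G ⧸ N) * (gb ^ i)⁻¹ ∈ pCore p (G ⧸ N) :=
      fun i => hLn.conj_mem _ ℓ.2 _
    have hπc : ∀ i : ℕ, π ⟨gb ^ i * (ℓ : G ⧸ N) * (gb ^ i)⁻¹, hc i⟩ =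
        Multiplicative.ofAdd (((((ρ gb : V ≃ₗ[ZMod p] V)) : Module.End (ZMod p) V) ^ i) v) := by
      intro i
      rw [hequiv (gb ^ i) ℓ (hc i), hℓ, map_pow, coe_pow_apply]
      rfl
    have key : ∀ k : ℕ, ∃ hk : ((ℓ : G ⧸ N) * gb) ^ k * (gb ^ k)⁻¹ ∈ pCore p (G ⧸ N),
        π ⟨((ℓ : G ⧸ N) * gb) ^ k * (gb ^ k)⁻¹, hk⟩ = Multiplicative.ofAdd
          (∑ i ∈ Finset.range k,
            ((((ρ gb : V ≃ₗ[ZMod p] V)) : Module.End (ZMod p) V) ^ i) v) := by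
      intro k
      induction k with
      | zero =>
        refine ⟨by simp, ?_⟩
        have : (⟨((ℓ : G ⧸ N) * gb) ^ 0 * (gb ^ 0)⁻¹, by simp⟩ : ↥(pCore p (G ⧸ N))) = 1 := by
          apply Subtype.ext; simp
        rw [this, map_one]; simp
      | succ k ih =>
        obtain ⟨hk, ih⟩ := ih
        have e : ((ℓ : G ⧸ N) * gb) ^ (k + 1) * (gb ^ (k + 1))⁻¹ =
            (((ℓ : G ⧸ N) * gb) ^ k * (gb ^ k)⁻¹) * (gb ^ k * (ℓ : G ⧸ N) * (gb ^ k)⁻¹) := by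
          rw [pow_succ, pow_succ]; group
        have hk1 : ((ℓ : G ⧸ N) * gb) ^ (k + 1) * (gb ^ (k + 1))⁻¹ ∈ pCore p (G ⧸ N) := by
          rw [e]; exact Subgroup.mul_mem _ hk (hc k)
        refine ⟨hk1, ?_⟩
        have e2 : (⟨((ℓ : G ⧸ N) * gb) ^ (k + 1) * (gb ^ (k + 1))⁻¹, hk1⟩ :
            ↥(pCore p (G ⧸ N))) =
            ⟨((ℓ : G ⧸ N) * gb) ^ k * (gb ^ k)⁻¹, hk⟩ *
              ⟨gb ^ k * (ℓ : G ⧸ N) * (gb ^ k)⁻¹, hc k⟩ := Subtype.ext e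
        rw [e2, map_mul, ih, hπc k, Finset.sum_range_succ, ofAdd_add]
    have h1 : ∃ a, ((ℓ : G ⧸ N) * gb) ^ p ^ a = 1 := by
      have hmem : (ℓ : G ⧸ N) * gb ∈ (pCore p (G ⧸ N) ⊔ Subgroup.zpowers gb : Subgroup (G ⧸ N)) :=
        Subgroup.mul_mem _ (Subgroup.mem_sup_left ℓ.2)
          (Subgroup.mem_sup_right (Subgroup.mem_zpowers gb))
      obtain ⟨a, ha⟩ := hLg ⟨_, hmem⟩
      exact ⟨a, by simpa using congrArg Subtype.val ha⟩
    obtain ⟨hk, h2⟩ := key (p ^ (n + 1))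
    have e1 : (⟨((ℓ : G ⧸ N) * gb) ^ p ^ (n + 1) * (gb ^ p ^ (n + 1))⁻¹, hk⟩ :
        ↥(pCore p (G ⧸ N))) = 1 := by
      apply Subtype.ext
      show ((ℓ : G ⧸ N) * gb) ^ p ^ (n + 1) * (gb ^ p ^ (n + 1))⁻¹ = 1
      rw [hexp₁ _ h1, hgbN]; simp
    rw [e1, map_one] at h2
    have h3 : (∑ i ∈ Finset.range (p ^ (n + 1)),
        ((((ρ gb : V ≃ₗ[ZMod p] V)) : Module.End (ZMod p) V) ^ i) v) = 0 := by
      have := congrArg Multiplicative.toAdd h2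
      simpa using this.symm
    rw [LinearMap.sum_apply, h3]; rfl
  have hx' : (QuotientGroup.mk' U x) ^ p ^ (n + 1) = 1 := by
    rw [← map_pow, hexp x hx, map_one]
  have h1 := atl hp2 hsol' hOp' ρ' hρ'inj n hexp' hE2' (QuotientGroup.mk' U x) hx'
  have e4 : (4 : ℕ) = 2 + 2 := rfl
  rw [e4, Cfsg.Agent.Lib.Helper1.upperPSeries_shift, Subgroup.mem_comap, map_pow]
  subst hU
  exact h1

end Cfsg.Agent.Lib.Helper6.HHE
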