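import Mathlib
import Cfsg.Prelude.Def_Local
import Cfsg.Agent.Lib.Helper1.HH3
import Cfsg.Agent.Lib.Helper1.HH4
import Cfsg.Agent.Lib.Helper6.HHETlg
set_option autoImplicit false
open Cfsg
open Cfsg.Agent.Lib.Helper1.HH
universe u
namespace Cfsg.Agent.Lib.Helper6.HHE

/-! ## farm HHE (S3786): P2, `l_p ≤ 2e`. -/

/-- part 2 of S3786 from `tl_general`. -/
theorem plength_le_two_mul (p : ℕ) [hp : Fact p.Prime] (hp2 : p ≠ 2) :
    ∀ (e : ℕ) (G : Type u) [Group G] [Finite G], IsPSolvable p G → ExpLE p e G →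
      (upperPSeries p G (2 * (2 * e) + 1)).1 = ⊤ := by
  intro e
  induction e with
  | zero =>
    intro G _ _ hsol hexp
    have h2 : ¬ p ∣ Nat.card G := by
      intro hdvd
      obtain ⟨z, hz⟩ := exists_prime_orderOf_dvd_card' p hdvd
      have h1 : z ^ p ^ 0 = 1 := hexp z ⟨1, by rw [pow_one, ← hz]; exact pow_orderOf_eq_one z⟩
      rw [pow_zero, pow_one] at h1
      rw [h1, orderOf_one] at hz
      exact hp.out.one_lt.ne hz
    have h4 : (Nat.card (⊤ : Subgroup G)).Coprime p := by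
      rw [Subgroup.card_top]
      exact ((Nat.Prime.coprime_iff_not_dvd hp.out).mpr h2).symm
    show (upperPSeries p G 1).1 = ⊤
    rw [Cfsg.Agent.Lib.Helper3.upperPSeries_one, eq_top_iff]
    exact Cfsg.Agent.Lib.Helper1.le_pPrimeCore Subgroup.normal_top h4
  | succ n ih =>
    intro G _ _ hsol hexp
    have hsurj1 := QuotientGroup.mk'_surjective (upperPSeries p G 2).1
    have hsol1 := Cfsg.Agent.S4218.isPSolvable_quotient p (upperPSeries p G 2).1 hsol
    have hsurj2 := QuotientGroup.mk'_surjective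
      (upperPSeries p (G ⧸ (upperPSeries p G 2).1) 2).1
    have hsol2 := Cfsg.Agent.S4218.isPSolvable_quotient p
      (upperPSeries p (G ⧸ (upperPSeries p G 2).1) 2).1 hsol1
    have hexp2 : ExpLE p n
        ((G ⧸ (upperPSeries p G 2).1) ⧸ (upperPSeries p (G ⧸ (upperPSeries p G 2).1) 2).1) := by
      rintro z'' ⟨b, hb⟩
      obtain ⟨z', rfl, ⟨b', hb'⟩⟩ := exists_pElement_lift hp.out _ hsurj2 z'' b hb
      obtain ⟨z, rfl, ha⟩ := exists_pElement_lift hp.out _ hsurj1 z' b' hb'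
      have h1 := tl_general hp2 hsol n hexp z ha
      have e4 : (4 : ℕ) = 2 + 2 := rfl
      rw [e4, Cfsg.Agent.Lib.Helper1.upperPSeries_shift, Subgroup.mem_comap] at h1
      rw [← map_pow, ← map_pow, QuotientGroup.mk'_apply, QuotientGroup.eq_one_iff]
      exact h1
    have h2 := ih _ hsol2 hexp2
    have e : 2 * (2 * (n + 1)) + 1 = ((2 * (2 * n) + 1) + 2) + 2 := by ring
    have h3 : (upperPSeries p (G ⧸ (upperPSeries p G 2).1) ((2 * (2 * n) + 1) + 2)).1 = ⊤ := by
      rw [Cfsg.Agent.Lib.Helper1.upperPSeries_shift p (G ⧸ (upperPSeries p G 2).1) (2 * (2 * n) + 1),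
        h2, Subgroup.comap_top]
    rw [e, Cfsg.Agent.Lib.Helper1.upperPSeries_shift p G ((2 * (2 * n) + 1) + 2), h3,
      Subgroup.comap_top]

end Cfsg.Agent.Lib.Helper6.HHE
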