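import Mathlib
import Cfsg.Prelude.Def_Local
import Cfsg.Agent.Lib.Helper1.HH3
import Cfsg.Agent.Lib.Helper1.HH4
import Cfsg.Agent.Lib.Helper3.HHC10
import Cfsg.Agent.Lib.Helper3.HHD3
set_option autoImplicit false
open Cfsg
open Cfsg.Agent.Lib.Helper1.HH
universe u v
namespace Cfsg.Agent.Lib.Helper6.HHEStubs

/-! ## farm HHE (S3786): sorry'd STUBS, never imported.  e = n+1, m = p^n.
Prove a unit in a NEW file of your own Lib folder with the SAME statement (any name/namespace),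
then tip `HHE-DONE <unit>` with import path + full name. Paper proof: tip `NOMINATE S3786`. -/

/-- KEY1: Theorem B black box on `R<x'>`. -/
theorem key1 {H : Type u} [Group H] [Finite H] {p : ℕ} [Fact p.Prime] (hp2 : p ≠ 2)
    {V : Type v} [AddCommGroup V] [Module (ZMod p) V] [Finite V]
    (ρ : H →* (V ≃ₗ[ZMod p] V)) (hρ : Function.Injective ρ) (n : ℕ)
    (hE2 : ∀ h : H, orderOf h = p ^ (n + 1) →
      (((ρ h : V ≃ₗ[ZMod p] V) : Module.End (ZMod p) V) - 1) ^ (p ^ (n + 1) - 1) = 0)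
    (x' : H) (hx' : orderOf x' = p ^ (n + 1)) (R : Subgroup H)
    (hxR : x' ∈ Subgroup.normalizer (R : Set H)) (hRp : (Nat.card R).Coprime p)
    (hR2 : ∀ S : Subgroup H, S ≤ R → IsPGroup 2 S → ∀ a ∈ S, ∀ b ∈ S, a * b = b * a) :
    x' ^ p ^ n ∈ Subgroup.centralizer (R : Set H) := by
  sorry

/-- LIN: linearisation of `O_p(G)/Φ(O_p(G))` when `O_{p'}(G) = 1`. -/
theorem lin_package {G : Type u} [Group G] [Finite G] {p : ℕ} [Fact p.Prime]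
    (hsol : IsPSolvable p G) (hbot : pPrimeCore p G = ⊥) :
    ∃ (V : Type u) (_ : AddCommGroup V) (_ : Module (ZMod p) V) (_ : Finite V)
      (ρ : G →* (V ≃ₗ[ZMod p] V)) (π : ↥(pCore p G) →* Multiplicative V),
      Function.Surjective π ∧ ρ.ker = pCore p G ∧
      ∀ (g : G) (h : ↥(pCore p G)) (hgh : g * (h : G) * g⁻¹ ∈ pCore p G),
        π ⟨g * (h : G) * g⁻¹, hgh⟩ = Multiplicative.ofAdd (ρ g (Multiplicative.toAdd (π h))) := by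
  sorry

/-- LEM-E: `Y` is nonabelian. -/
theorem lemE {K : Type u} [Group K] [Finite K] {p : ℕ} [Fact p.Prime] (hp2 : p ≠ 2)
    (hsol : IsPSolvable p K) (hbot : pPrimeCore p K = ⊥) (n : ℕ) (x : K)
    (hx : x ^ p ^ (n + 1) = 1) (hxn : x ^ p ^ n ∉ pCore p K) :
    ∃ u ∈ pCore p K, (u * x) ^ p ^ n * x ^ p ^ n ≠ x ^ p ^ n * (u * x) ^ p ^ n := by
  sorry

/-- ISO-lin: the F_2 linear algebra core. -/
theorem iso_lin {p : ℕ} [Fact p.Prime] (hp2 : p ≠ 2) {U Z : Type*} [AddCommGroup U]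
    [Module (ZMod 2) U] [Finite U] [AddCommGroup Z]
    (β : U →+ U →+ Z) (hβalt : ∀ u, β u u = 0)
    (A : Subgroup (U ≃ₗ[ZMod 2] U)) (hAodd : Odd (Nat.card A))
    (hAc : ∀ a ∈ A, ∀ b ∈ A, a * b = b * a)
    (hAβ : ∀ a ∈ A, ∀ u v, β (a u) (a v) = β u v)
    (ξ : U ≃ₗ[ZMod 2] U) (n : ℕ) (hξ : ξ ^ p ^ (n + 1) = 1) (hξA : ∀ a ∈ A, ξ * a * ξ⁻¹ ∈ A)
    (hξβ : ∀ u v, β u v = 0 → β (ξ u) (ξ v) = 0)
    (a : U ≃ₗ[ZMod 2] U) (ha : a ∈ A) (hne : a * ξ ^ p ^ n ≠ ξ ^ p ^ n * a) :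
    ∃ I : AddSubgroup U, (∀ u ∈ I, ξ u ∈ I) ∧ (∀ u ∈ I, ∀ v ∈ I, β u v = 0) ∧
      ∃ u ∈ I, (ξ ^ p ^ n) u ≠ u := by
  sorry

/-! ### ISO-ALG: abstract core (R a finite commutative ring with `r^(2^k)=r`, e.g. `F_2[A]`, acting on `U` via `φ`).
`IsPrim e` (written inline in the stubs): `e*e=e ∧ e≠0 ∧ ∀ f, f*f=f → f*e=f → f=0 ∨ f=e`. -/

/-- ALG-R1: distinct primitive idempotents are orthogonal. -/
theorem prim_mul_prim {R : Type*} [CommRing R] (e e' : R)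
    (he : e * e = e ∧ e ≠ 0 ∧ ∀ f, f * f = f → f * e = f → f = 0 ∨ f = e)
    (he' : e' * e' = e' ∧ e' ≠ 0 ∧ ∀ f, f * f = f → f * e' = f → f = 0 ∨ f = e')
    (hne : e ≠ e') : e * e' = 0 := by
  sorry

/-- ALG-R2: every element is the sum of its components: if all `r * e` (e primitive) vanish, `r = 0`. -/
theorem eq_zero_of_prim_mul {R : Type*} [CommRing R] [Finite R] (k : ℕ) (hk : 1 ≤ k)
    (hq : ∀ r : R, r ^ 2 ^ k = r) (r : R)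
    (h : ∀ e : R, (e * e = e ∧ e ≠ 0 ∧ ∀ f, f * f = f → f * e = f → f = 0 ∨ f = e) → r * e = 0) :
    r = 0 := by
  sorry

/-- ALG-R3: `R e` is a field for primitive `e`. -/
theorem prim_field {R : Type*} [CommRing R] [Finite R] (k : ℕ) (hk : 1 ≤ k)
    (hq : ∀ r : R, r ^ 2 ^ k = r) (e : R)
    (he : e * e = e ∧ e ≠ 0 ∧ ∀ f, f * f = f → f * e = f → f = 0 ∨ f = e)
    (l : R) (hl : l * e = l) (hl0 : l ≠ 0) : ∃ l' : R, l' * e = l' ∧ l * l' = e := by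
  sorry

/-- ALG-ORTH0: an involution commuting with a permutation of odd order cannot relate two
distinct members of one orbit. -/
theorem orbit_dag {X : Type*} (σ dag : Equiv.Perm X) (N : ℕ) (hN : Odd N) (hσN : σ ^ N = 1)
    (hdag : dag * dag = 1) (hc : σ * dag = dag * σ) (e : X) (i j : ℕ)
    (h : dag ((σ ^ i) e) = (σ ^ j) e) : (σ ^ i) e = (σ ^ j) e := by
  sorry

/-- ISO-1 (case 1: `σ_w` moves an active primitive idempotent). -/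
theorem iso_case1 {p : ℕ} [Fact p.Prime] (hp2 : p ≠ 2) {R : Type*} [CommRing R] [Finite R]
    (k : ℕ) (hk : 1 ≤ k) (hq : ∀ r : R, r ^ 2 ^ k = r)
    {U Z : Type*} [AddCommGroup U] [Module (ZMod 2) U] [Finite U] [AddCommGroup Z]
    (φ : R →+* Module.End (ZMod 2) U)
    (β : U →+ U →+ Z) (hβalt : ∀ u, β u u = 0)
    (dag : R ≃+* R) (hdag2 : ∀ r, dag (dag r) = r)
    (hβdag : ∀ r u v, β (φ r u) v = β u (φ (dag r) v))
    (σ : R ≃+* R) (hσdag : ∀ r, σ (dag r) = dag (σ r))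
    (ξ : U ≃ₗ[ZMod 2] U) (n : ℕ) (hξ : ξ ^ p ^ (n + 1) = 1)
    (hσN : ∀ r, (⇑σ)^[p ^ (n + 1)] r = r)
    (hξσ : ∀ r u, ξ (φ r u) = φ (σ r) (ξ u))
    (hξβ : ∀ u v, β u v = 0 → β (ξ u) (ξ v) = 0)
    (e : R) (he : e * e = e ∧ e ≠ 0 ∧ ∀ f, f * f = f → f * e = f → f = 0 ∨ f = e)
    (u₀ : U) (hu₀ : φ e u₀ ≠ 0) (hmove : (⇑σ)^[p ^ n] e ≠ e) :
    ∃ I : AddSubgroup U, (∀ u ∈ I, ξ u ∈ I) ∧ (∀ u ∈ I, ∀ v ∈ I, β u v = 0) ∧
      ∃ u ∈ I, (ξ ^ p ^ n) u ≠ u := by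
  sorry

/-- ISO-2 (case 2: `σ_w` fixes `e` but is not the identity on the field `R e` acting on `e U`). -/
theorem iso_case2 {p : ℕ} [Fact p.Prime] (hp2 : p ≠ 2) {R : Type*} [CommRing R] [Finite R]
    (k : ℕ) (hk : 1 ≤ k) (hq : ∀ r : R, r ^ 2 ^ k = r)
    {U Z : Type*} [AddCommGroup U] [Module (ZMod 2) U] [Finite U] [AddCommGroup Z]
    (φ : R →+* Module.End (ZMod 2) U)
    (β : U →+ U →+ Z) (hβalt : ∀ u, β u u = 0)
    (dag : R ≃+* R) (hdag2 : ∀ r, dag (dag r) = r)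
    (hβdag : ∀ r u v, β (φ r u) v = β u (φ (dag r) v))
    (σ : R ≃+* R) (hσdag : ∀ r, σ (dag r) = dag (σ r))
    (ξ : U ≃ₗ[ZMod 2] U) (n : ℕ) (hξ : ξ ^ p ^ (n + 1) = 1)
    (hσN : ∀ r, (⇑σ)^[p ^ (n + 1)] r = r)
    (hξσ : ∀ r u, ξ (φ r u) = φ (σ r) (ξ u))
    (hξβ : ∀ u v, β u v = 0 → β (ξ u) (ξ v) = 0)
    (e : R) (he : e * e = e ∧ e ≠ 0 ∧ ∀ f, f * f = f → f * e = f → f = 0 ∨ f = e)
    (hfix : (⇑σ)^[p ^ n] e = e) (l : R) (hl : l * e = l) (u₁ : U)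
    (hne : φ ((⇑σ)^[p ^ n] l) u₁ ≠ φ l u₁) :
    ∃ I : AddSubgroup U, (∀ u ∈ I, ξ u ∈ I) ∧ (∀ u ∈ I, ∀ v ∈ I, β u v = 0) ∧
      ∃ u ∈ I, (ξ ^ p ^ n) u ≠ u := by
  sorry

/-- ISO-ALG: assembly of the two cases. -/
theorem iso_alg {p : ℕ} [Fact p.Prime] (hp2 : p ≠ 2) {R : Type*} [CommRing R] [Finite R]
    (k : ℕ) (hk : 1 ≤ k) (hq : ∀ r : R, r ^ 2 ^ k = r)
    {U Z : Type*} [AddCommGroup U] [Module (ZMod 2) U] [Finite U] [AddCommGroup Z]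
    (φ : R →+* Module.End (ZMod 2) U)
    (β : U →+ U →+ Z) (hβalt : ∀ u, β u u = 0)
    (dag : R ≃+* R) (hdag2 : ∀ r, dag (dag r) = r)
    (hβdag : ∀ r u v, β (φ r u) v = β u (φ (dag r) v))
    (σ : R ≃+* R) (hσdag : ∀ r, σ (dag r) = dag (σ r))
    (ξ : U ≃ₗ[ZMod 2] U) (n : ℕ) (hξ : ξ ^ p ^ (n + 1) = 1)
    (hσN : ∀ r, (⇑σ)^[p ^ (n + 1)] r = r)
    (hξσ : ∀ r u, ξ (φ r u) = φ (σ r) (ξ u))
    (hξβ : ∀ u v, β u v = 0 → β (ξ u) (ξ v) = 0)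
    (r₀ : R) (u₀ : U) (hne : φ ((⇑σ)^[p ^ n] r₀) u₀ ≠ φ r₀ u₀) :
    ∃ I : AddSubgroup U, (∀ u ∈ I, ξ u ∈ I) ∧ (∀ u ∈ I, ∀ v ∈ I, β u v = 0) ∧
      ∃ u ∈ I, (ξ ^ p ^ n) u ≠ u := by
  sorry

/-- ISO-group: pull ISO-lin back to the class-2 group `Q`. -/
theorem iso_group {H : Type u} [Group H] {p : ℕ} [Fact p.Prime] (hp2 : p ≠ 2)
    (Q A : Subgroup H) [Finite Q] [Finite A] (hQ2 : IsPGroup 2 Q)
    (hQc : ∀ a ∈ Q, ∀ b ∈ Q, a * b * a⁻¹ * b⁻¹ ∈ Subgroup.centralizer (Q : Set H))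
    (hQs : ∀ a ∈ Q, a ^ 2 ∈ Subgroup.centralizer (Q : Set H))
    (hA : IsPGroup p A) (hAc : ∀ a ∈ A, ∀ b ∈ A, a * b = b * a)
    (hAQ : A ≤ Subgroup.normalizer (Q : Set H))
    (hAZ : ∀ a ∈ A, ∀ c ∈ Q, c ∈ Subgroup.centralizer (Q : Set H) → a * c = c * a)
    (ξ : H) (n : ℕ) (hξ : ξ ^ p ^ (n + 1) = 1) (hξQ : ξ ∈ Subgroup.normalizer (Q : Set H))
    (hξA : ξ ∈ Subgroup.normalizer (A : Set H))
    (a : H) (ha : a ∈ A)
    (hne : a * ξ ^ p ^ n * a⁻¹ * (ξ ^ p ^ n)⁻¹ ∉ Subgroup.centralizer (Q : Set H)) :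
    ∃ Q₁ : Subgroup H, Q₁ ≤ Q ∧ (∀ a ∈ Q₁, ∀ b ∈ Q₁, a * b = b * a) ∧
      ξ ∈ Subgroup.normalizer (Q₁ : Set H) ∧ ξ ^ p ^ n ∉ Subgroup.centralizer (Q₁ : Set H) := by
  sorry

/-- TWO-1: a maximal abelian `T`-normal subgroup of `Y` is self-centralising in `Y`. -/
theorem exists_max_abelian_normal {H : Type u} [Group H] {p : ℕ} [Fact p.Prime]
    (T Y : Subgroup H) [Finite T] (hT : IsPGroup p T) (hYT : Y ≤ T)
    (hTY : T ≤ Subgroup.normalizer (Y : Set H)) :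
    ∃ A : Subgroup H, A ≤ Y ∧ (∀ a ∈ A, ∀ b ∈ A, a * b = b * a) ∧
      T ≤ Subgroup.normalizer (A : Set H) ∧ Y ⊓ Subgroup.centralizer (A : Set H) ≤ A := by
  sorry

/-- TWO-2: minimal `T`-invariant subgroup of the 2-group `S` on which `D` acts nontrivially. -/
theorem exists_min_invariant {H : Type u} [Group H] {p : ℕ} [Fact p.Prime] (hp2 : p ≠ 2)
    (T S D : Subgroup H) [Finite T] [Finite S] (hT : IsPGroup p T) (hS : IsPGroup 2 S)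
    (hTS : T ≤ Subgroup.normalizer (S : Set H)) (hDT : D ≤ T)
    (hTD : T ≤ Subgroup.normalizer (D : Set H))
    (hDS : ¬ D ≤ Subgroup.centralizer (S : Set H)) :
    ∃ Q : Subgroup H, Q ≤ S ∧ T ≤ Subgroup.normalizer (Q : Set H) ∧
      ¬ D ≤ Subgroup.centralizer (Q : Set H) ∧
      (∀ a ∈ Q, ∀ b ∈ Q, a * b * a⁻¹ * b⁻¹ ∈ Subgroup.centralizer (Q : Set H)) ∧
      (∀ a ∈ Q, a ^ 2 ∈ Subgroup.centralizer (Q : Set H)) := by
  sorry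

/-- TWO: the 2-group lemma. -/
theorem two_group_lemma {H : Type u} [Group H] [Finite H] {p : ℕ} [Fact p.Prime] (hp2 : p ≠ 2)
    (T S : Subgroup H) (hT : IsPGroup p T) (hS : IsPGroup 2 S)
    (hTS : T ≤ Subgroup.normalizer (S : Set H)) (n : ℕ) (YY : Set H) (hYYT : YY ⊆ T)
    (hYYinv : ∀ t ∈ T, ∀ w ∈ YY, t * w * t⁻¹ ∈ YY)
    (hYY : ∀ w ∈ YY, ∃ ξ ∈ T, ξ ^ p ^ (n + 1) = 1 ∧ w = ξ ^ p ^ n ∧
      ∀ Q₁ : Subgroup H, Q₁ ≤ S → (∀ a ∈ Q₁, ∀ b ∈ Q₁, a * b = b * a) →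
        ξ ∈ Subgroup.normalizer (Q₁ : Set H) → w ∈ Subgroup.centralizer (Q₁ : Set H))
    (hfaith : Subgroup.closure YY ⊓ Subgroup.centralizer (S : Set H) = ⊥) :
    ∀ a ∈ Subgroup.closure YY, ∀ b ∈ Subgroup.closure YY, a * b = b * a := by
  sorry

/-- ATL: the two-level lemma. -/
theorem atl {H : Type u} [Group H] [Finite H] {p : ℕ} [Fact p.Prime] (hp2 : p ≠ 2)
    (hsol : IsPSolvable p H) (hOp : pCore p H = ⊥)
    {V : Type v} [AddCommGroup V] [Module (ZMod p) V] [Finite V]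
    (ρ : H →* (V ≃ₗ[ZMod p] V)) (hρ : Function.Injective ρ) (n : ℕ)
    (hexp : ExpLE p (n + 1) H)
    (hE2 : ∀ h : H, orderOf h = p ^ (n + 1) →
      (((ρ h : V ≃ₗ[ZMod p] V) : Module.End (ZMod p) V) - 1) ^ (p ^ (n + 1) - 1) = 0)
    (x : H) (hx : x ^ p ^ (n + 1) = 1) : x ^ p ^ n ∈ (upperPSeries p H 2).1 := by
  sorry

/-- TLG: group form. -/
theorem tl_general {G : Type u} [Group G] [Finite G] {p : ℕ} [Fact p.Prime] (hp2 : p ≠ 2)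
    (hsol : IsPSolvable p G) (n : ℕ) (hexp : ExpLE p (n + 1) G) (x : G)
    (hx : ∃ a, x ^ p ^ a = 1) : x ^ p ^ n ∈ (upperPSeries p G 4).1 := by
  sorry

/-- part 2 of S3786. -/
theorem plength_le_two_mul (p : ℕ) [hp : Fact p.Prime] (hp2 : p ≠ 2) :
    ∀ (e : ℕ) (G : Type u) [Group G] [Finite G], IsPSolvable p G → ExpLE p e G →
      (upperPSeries p G (2 * (2 * e) + 1)).1 = ⊤ := by
  sorry

/-- part 1 of S3786. -/
theorem plength_le_of_good (p : ℕ) [hp : Fact p.Prime] (hp2 : p ≠ 2) :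
    ∀ (e : ℕ) (G : Type u) [Group G] [Finite G], IsPSolvable p G → ExpLE p e G →
      ((¬ ∃ k : ℕ, p = 2 ^ k + 1) ∨ ∀ S : Sylow 2 G, IsMulCommutative (S : Subgroup G)) →
      (upperPSeries p G (2 * e + 1)).1 = ⊤ := by
  sorry

end Cfsg.Agent.Lib.Helper6.HHEStubs
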