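import Mathlib
import Cfsg.Prelude.Def_Local
set_option autoImplicit false
open Cfsg
namespace Cfsg.Agent.Lib.Helper6.HHEStubs2

/-! ## farm HHE (S3786): sorry'd STUB of helper1's Route-B plug-in LEMMA Q (never imported).
Shape copied verbatim from helper1's tip `HH2L SHAPES` (unit Q, owner helper1).  ATL is written
against BOTH `two_group_lemma` (Route A) and this statement (Route B); whichever lands first is used. -/

theorem pow_commute_of_exceptional {L : Type*} [Group L] [Finite L] {p : ℕ} [Fact p.Prime] (hp2 : p ≠ 2)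
    (K : Subgroup L) [K.Normal] (hK : (Nat.card K).Coprime p)
    (P : Subgroup L) (hP : IsPGroup p P)
    (hPK : ∀ t ∈ P, (∀ k ∈ K, t * k = k * t) → t = 1)
    (n : ℕ) (hexp : ∀ t ∈ P, t ^ p ^ (n + 1) = 1)
    (hstar : ∀ t ∈ P, ∀ B : Subgroup L, B ≤ K → (∀ a ∈ B, ∀ b ∈ B, a * b = b * a) →
      (∀ b ∈ B, t * b * t⁻¹ ∈ B) → ∀ b ∈ B, t ^ p ^ n * b = b * t ^ p ^ n) :
    ∀ s ∈ P, ∀ t ∈ P, s ^ p ^ n * t ^ p ^ n = t ^ p ^ n * s ^ p ^ n := by
  sorry

end Cfsg.Agent.Lib.Helper6.HHEStubs2
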