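import Mathlib
import Cfsg.Agent.Lib.Helper6.HJc
import Cfsg.Agent.Lib.Helper7.HJa

set_option autoImplicit false
set_option linter.unusedVariables false
set_option linter.style.longLine false

/-!
# The count `a(t) = 195` (farm-out piece C of S3313), verbatim form
-/

namespace Cfsg.Agent.Lib.Helper6.HJc

variable {G : Type*} [Group G]

theorem count_t [Finite G] (z t : G) (hz : orderOf z = 2) (ht : orderOf t = 2) (hzt : ¬ IsConj z t)
    (V B : Subgroup G) (hVB : Cfsg.IsInternalDirectProduct V B (Subgroup.centralizer ({t} : Set G)))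
    (hV2 : ∀ v ∈ V, v ^ 2 = 1) (htV : t ∈ V) (hB : Nonempty (↥B ≃* alternatingGroup (Fin 5)))
    (hBz : ∀ x ∈ B, orderOf x = 2 → IsConj x z)
    (hCt : ∀ x ∈ Subgroup.centralizer ({t} : Set G), orderOf x = 2 → x ∉ B → IsConj x t) :
    Nat.card {p : G × G // IsConj z p.1 ∧ IsConj t p.2 ∧ t ∈ Subgroup.zpowers (p.1 * p.2)} = 195 :=
  (count_t_aux z t hz ht hzt V B hVB hV2 htV hBz hCt).trans (Cfsg.Agent.Lib.Helper7.HJa.cntTB B hB)

end Cfsg.Agent.Lib.Helper6.HJc
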