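import Mathlib
import Cfsg.Prelude
import Cfsg.Agent.Lib.Helper4.ES2E
import Cfsg.Agent.Lib.Helper1.PCore
import Cfsg.Agent.Lib.Helper1.Fitting
import Cfsg.Agent.Lib.Helper8.Layer
import Cfsg.Agent.Lib.Helper1.GlaubermanRepl3

set_option autoImplicit false
set_option maxHeartbeats 1000000
set_option linter.unusedVariables false
set_option linter.unusedSectionVars false
set_option linter.style.longLine false

/-!
# Order of a semidirect product and the extraspecial data of `O_2(C_G(z))` (farm-out piece E+B of S3313)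
-/

namespace Cfsg.Agent.Lib.Helper6.HJe

open Cfsg.Agent.Lib.Helper4.ES2

variable {G : Type*} [Group G]

theorem card_of_complement [Finite G] (K Q C : Subgroup G) (hsup : K ⊔ Q = C) (hinf : K ⊓ Q = ⊥)
    (hnorm : ∀ k ∈ K, ∀ q ∈ Q, k * q * k⁻¹ ∈ Q) : Nat.card C = Nat.card K * Nat.card Q := by
  have hKN : K ≤ Subgroup.normalizer (Q : Set G) := by
    intro k hk
    rw [Subgroup.mem_normalizer_iff]
    intro q
    constructor
    · intro hq; exact hnorm k hk q hq
    · intro hq
      have := hnorm k⁻¹ (K.inv_mem hk) _ hq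
      have e : k⁻¹ * (k * q * k⁻¹) * k⁻¹⁻¹ = q := by group
      rwa [e] at this
  have h := Cfsg.Agent.Lib.Helper1.GlaubermanRepl.card_sup_mul_card_inf_of_le_normalizer K Q hKN
  rw [hsup, hinf, Subgroup.card_bot, mul_one] at h
  exact h

/-- transport of extraspecial data along an injective homomorphism -/
theorem data_map {E : Type*} [Group E] (ι : E →* G) (hι : Function.Injective ι)
    (Q : Subgroup E) (z : E) (h : Data Q z) : Data (Q.map ι) (ι z) where
  zQ := Subgroup.mem_map_of_mem ι h.zQ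
  z_ne := by
    intro h1
    apply h.z_ne
    apply hι
    rw [h1, map_one]
  z_sq := by rw [← map_mul, h.z_sq, map_one]
  z_comm := by
    rintro q ⟨q', hq', rfl⟩
    rw [← map_mul, ← map_mul, h.z_comm q' hq']
  center_sub := by
    rintro c ⟨c', hc', rfl⟩ hc
    have h1 : ∀ q ∈ Q, q * c' = c' * q := by
      intro q hq
      apply hι
      rw [map_mul, map_mul]
      exact hc (ι q) (Subgroup.mem_map_of_mem ι hq)
    rcases h.center_sub c' hc' h1 with h2 | h2
    · left; rw [h2, map_one]
    · right; rw [h2]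
  comm_mem := by
    rintro a ⟨a', ha', rfl⟩ b ⟨b', hb', rfl⟩
    have e : cm (ι a') (ι b') = ι (cm a' b') := by
      unfold cm; simp only [map_mul, map_inv]
    rw [e]
    rcases h.comm_mem a' ha' b' hb' with h2 | h2
    · left; rw [h2, map_one]
    · right; rw [h2]
  sq_mem := by
    rintro a ⟨a', ha', rfl⟩
    rw [← map_mul]
    rcases h.sq_mem a' ha' with h2 | h2
    · left; rw [h2, map_one]
    · right; rw [h2]

theorem data_of_hex [Finite G] (z : G) (hz : orderOf z = 2)
    (hex : Cfsg.IsExtraspecial 2 ↥(Cfsg.generalizedFittingSubgroup ↥(Subgroup.centralizer ({z} : Set G)))) :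
    Cfsg.Agent.Lib.Helper4.ES2.Data ((Cfsg.pCore 2 ↥(Subgroup.centralizer ({z} : Set G))).map (Subgroup.centralizer ({z} : Set G)).subtype) z := by
  haveI : Fact (Nat.Prime 2) := ⟨Nat.prime_two⟩
  set C : Subgroup G := Subgroup.centralizer ({z} : Set G) with hC
  set Fs : Subgroup ↥C := Cfsg.generalizedFittingSubgroup ↥C with hFs
  have hFs2 : IsPGroup 2 ↥Fs := hex.1.1
  have hFsN : Fs.Normal := Cfsg.Agent.Lib.Helper8.generalizedFittingSubgroup_normal
  have h1 : Fs ≤ Cfsg.pCore 2 ↥C := Cfsg.Agent.Lib.Helper1.le_pCore hFsN hFs2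
  have h2 : Cfsg.pCore 2 ↥C ≤ Fs := by
    have hn : (Cfsg.pCore 2 ↥C).Normal := Cfsg.Agent.Lib.Helper1.pCore_normal 2
    have hp : IsPGroup 2 ↥(Cfsg.pCore 2 ↥C) := Cfsg.Agent.Lib.Helper1.pCore_isPGroup 2
    have hnil : Group.IsNilpotent ↥(Cfsg.pCore 2 ↥C) := hp.isNilpotent
    have h3 := Cfsg.Agent.Lib.Helper1.le_fittingSubgroup hn hnil
    refine h3.trans ?_
    rw [hFs]
    unfold Cfsg.generalizedFittingSubgroup
    exact le_sup_right
  have heq : Cfsg.pCore 2 ↥C = Fs := le_antisymm h2 h1
  obtain ⟨z0, hD, _⟩ := data_top hex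
  set ι : ↥Fs →* G := C.subtype.comp Fs.subtype with hι
  have hιinj : Function.Injective ι := by
    intro a b hab
    apply Subtype.ext
    apply Subtype.ext
    exact hab
  have hD' := data_map ι hιinj ⊤ z0 hD
  have hmap : (⊤ : Subgroup ↥Fs).map ι = (Cfsg.pCore 2 ↥C).map C.subtype := by
    rw [heq, hι, ← Subgroup.map_map, ← MonoidHom.range_eq_map, Subgroup.range_subtype]
  -- z is the central involution
  have hzC : z ∈ C := by
    rw [hC, Subgroup.mem_centralizer_singleton_iff]
  set zC : ↥C := ⟨z, hzC⟩ with hzCdef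
  have hzcent : ∀ c : ↥C, c * zC = zC * c := by
    intro c
    apply Subtype.ext
    have h5 : (c : G) ∈ Subgroup.centralizer ({z} : Set G) := c.2
    exact Subgroup.mem_centralizer_singleton_iff.mp h5
  have hzCord : orderOf zC = 2 := by
    rw [← hz]
    exact Subgroup.orderOf_mk z hzC
  have hzn : (Subgroup.zpowers zC).Normal := by
    constructor
    intro n hn g
    have hc : g * n = n * g := by
      obtain ⟨k, rfl⟩ := Subgroup.mem_zpowers_iff.mp hn
      have : Commute g zC := hzcent g
      exact (this.zpow_right k)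
    have : g * n * g⁻¹ = n := by rw [hc]; group
    rw [this]; exact hn
  have hzp : IsPGroup 2 ↥(Subgroup.zpowers zC) := by
    apply IsPGroup.of_card (n := 1)
    rw [Nat.card_zpowers, hzCord, pow_one]
  have hzFs : zC ∈ Fs := by
    rw [← heq]
    exact Cfsg.Agent.Lib.Helper1.le_pCore hzn hzp (Subgroup.mem_zpowers zC)
  set zF : ↥Fs := ⟨zC, hzFs⟩ with hzFdef
  have hzF1 : zF ≠ 1 := by
    intro h
    have h3 : z = 1 := by
      have h4 : ((zF : ↥C) : G) = (((1 : ↥Fs) : ↥C) : G) := by rw [h]
      exact h4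
    rw [h3, orderOf_one] at hz
    omega
  have hzFc : ∀ q ∈ (⊤ : Subgroup ↥Fs), q * zF = zF * q := by
    intro q _
    apply Subtype.ext
    exact hzcent q.1
  have hz0 : zF = z0 := by
    rcases hD.center_sub zF (Subgroup.mem_top _) hzFc with h | h
    · exact absurd h hzF1
    · exact h
  have hιz : ι z0 = z := by rw [← hz0]; rfl
  rw [← hmap, ← hιz]
  exact hD'

end Cfsg.Agent.Lib.Helper6.HJe
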