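import Mathlib
import Cfsg.Prelude.Def_Blocks
import Cfsg.Prelude.Def_BlockLocal

set_option autoImplicit false
set_option linter.unusedSectionVars false
open Cfsg

namespace Cfsg.Agent.Lib.Helper6

section hkaux

variable {G : Type*} [Group G]

/-- conjugation inside a subgroup -/
theorem subgroupOf_map_conj (P H : Subgroup G) (x : H) :
    (P.subgroupOf H).map (MulAut.conj x).toMonoidHom
      = (P.map (MulAut.conj (x : G)).toMonoidHom).subgroupOf H := by
  ext y
  rw [Subgroup.mem_subgroupOf]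
  constructor
  · rintro ⟨z, hz, rfl⟩
    rw [SetLike.mem_coe, Subgroup.mem_subgroupOf] at hz
    exact ⟨(z : G), hz, by simp⟩
  · rintro ⟨z, hz, hzy⟩
    have hzH : z ∈ H := by
      have h1 : z = (x : G)⁻¹ * (y : G) * (x : G) := by
        rw [← hzy]
        simp [mul_assoc]
      rw [h1]
      exact H.mul_mem (H.mul_mem (H.inv_mem x.2) y.2) x.2
    refine ⟨⟨z, hzH⟩, ?_, ?_⟩
    · rw [SetLike.mem_coe, Subgroup.mem_subgroupOf]
      exact hz
    · apply Subtype.ext
      rw [← hzy]
      simp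

theorem map_conj_inf_normal (N : Subgroup G) [hN : N.Normal] (P : Subgroup G) (x : G) :
    (P.map (MulAut.conj x).toMonoidHom) ⊓ N = (P ⊓ N).map (MulAut.conj x).toMonoidHom := by
  ext y
  constructor
  · rintro ⟨⟨z, hz, rfl⟩, hyN⟩
    refine ⟨z, ⟨hz, ?_⟩, rfl⟩
    have h1 := hN.conj_mem _ hyN x⁻¹
    simpa [mul_assoc] using h1
  · rintro ⟨z, ⟨hz, hzN⟩, rfl⟩
    refine ⟨⟨z, hz, rfl⟩, ?_⟩
    have h1 := hN.conj_mem _ hzN x
    simpa using h1

theorem map_conj_eq_of_mem_normalizer_hk (Q : Subgroup G) (x : G)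
    (hx : x ∈ Subgroup.normalizer (Q : Set G)) :
    Q.map (MulAut.conj x).toMonoidHom = Q := by
  ext y
  constructor
  · rintro ⟨z, hz, rfl⟩
    have := (Subgroup.mem_normalizer_iff.mp hx z).mp hz
    simpa using this
  · intro hy
    refine ⟨x⁻¹ * y * x, ?_, by simp [mul_assoc]⟩
    have := (Subgroup.mem_normalizer_iff.mp (Subgroup.inv_mem _ hx) y).mp hy
    simpa using this

theorem mem_normalizer_of_map_conj_eq_hk (Q : Subgroup G) (x : G)
    (h : Q.map (MulAut.conj x).toMonoidHom = Q) : x ∈ Subgroup.normalizer (Q : Set G) := by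
  rw [Subgroup.mem_normalizer_iff]
  intro z
  constructor
  · intro hz
    rw [← h]
    exact ⟨z, hz, by simp⟩
  · intro hz
    rw [← h] at hz
    obtain ⟨w, hw, hwz⟩ := hz
    have : w = z := by
      have := hwz
      simp only [MulEquiv.coe_toMonoidHom, MulAut.conj_apply] at this
      exact mul_left_cancel (mul_right_cancel this)
    rw [← this]
    exact hw

theorem normalizer_le_normalizer_inf_normal (N : Subgroup G) [hN : N.Normal] (P : Subgroup G) :
    Subgroup.normalizer (P : Set G) ≤ Subgroup.normalizer ((P ⊓ N : Subgroup G) : Set G) := by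
  intro x hx
  apply mem_normalizer_of_map_conj_eq_hk
  rw [← map_conj_inf_normal, map_conj_eq_of_mem_normalizer_hk P x hx]

end hkaux

end Cfsg.Agent.Lib.Helper6
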