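import Mathlib
import Cfsg.Prelude.Def_Blocks
import Cfsg.Prelude.Def_BlockLocal
import Cfsg.Agent.Lib.Helper6.BrIndIn
import Cfsg.Agent.Lib.Helper6.BlkTrans
import Cfsg.Agent.Lib.Helper6.BlkCover3
import Cfsg.Agent.Lib.Helper6.KnRatio
import Cfsg.Agent.S0963

set_option autoImplicit false
set_option linter.unusedSectionVars false
open Cfsg

namespace Cfsg.Agent.Lib.Helper6

open scoped ComplexConjugate

section hkcover

variable {G : Type*} [Group G] [Fintype G] [DecidableEq G]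
variable {p : ℕ} [Fact p.Prime] {M : Ideal Cfsg.AlgInt}

/-- a sum over `H` of a function vanishing outside `N` is a sum over `H ⊓ N` -/
theorem sum_subgroup_eq_sum_inf (H N : Subgroup G) [Fintype H] [Fintype ↥(H ⊓ N)] (a : G → ℂ)
    (ha : ∀ g : G, g ∉ N → a g = 0) (ψ : H → ℂ) :
    ∑ h : H, a h * ψ h = ∑ l : ↥(H ⊓ N), a l * ψ ⟨l, l.2.1⟩ := by
  classical
  have h1 : ∑ h : H, a h * ψ h
      = ∑ h ∈ Finset.univ.filter (fun h : H => (h : G) ∈ N), a h * ψ h := by
    rw [Finset.sum_filter]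
    apply Finset.sum_congr rfl
    intro h _
    split_ifs with hh
    · rfl
    · rw [ha _ hh, zero_mul]
  rw [h1]
  symm
  apply Finset.sum_bij (fun (l : ↥(H ⊓ N)) _ => (⟨(l : G), l.2.1⟩ : H))
  · intro l _
    simp only [Finset.mem_filter, Finset.mem_univ, true_and]
    exact l.2.2
  · intro l₁ _ l₂ _ h
    apply Subtype.ext
    exact congrArg (fun x : H => (x : G)) h
  · intro h hh
    simp only [Finset.mem_filter, Finset.mem_univ, true_and] at hh
    exact ⟨⟨(h : G), h.2, hh⟩, Finset.mem_univ _, rfl⟩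
  · intro l _
    rfl

/-- induction and covering commute: if `c ^ G = B`, `e ^ N = d` and `c` covers `e`, then every
member of `B` lies over `d` -/
theorem induced_covers (hM : Cfsg.IsPModular p M) (N : Subgroup G) [Fintype N] [hN : N.Normal]
    (H : Subgroup G) [Fintype H] [Fintype ↥(H ⊓ N)]
    {c : Set (Cfsg.IrrCharacter H)} {B : Set (Cfsg.IrrCharacter G)}
    (hcB : Cfsg.IsInducedBlock M H c B)
    {e : Set (Cfsg.IrrCharacter ↥(H ⊓ N))} {d : Set (Cfsg.IrrCharacter N)}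
    (hed : Cfsg.IsInducedBlockIn M N (H ⊓ N) e d)
    (ψ : Cfsg.IrrCharacter H) (hψ : ψ ∈ c) (ξ : Cfsg.IrrCharacter ↥(H ⊓ N)) (hξ : ξ ∈ e)
    (hc : Cfsg.classInner (fun l : ↥(H ⊓ N) => (ψ : H → ℂ) ⟨l, l.2.1⟩) (ξ : ↥(H ⊓ N) → ℂ) ≠ 0)
    (χ : Cfsg.IrrCharacter G) (hχ : χ ∈ B) :
    ∃ θ ∈ d, Cfsg.classInner (fun n : N => (χ : G → ℂ) n) (θ : N → ℂ) ≠ 0 := by
  classical
  obtain ⟨θ₀, hdθ⟩ := hed.2.1
  have hθ₀ : θ₀ ∈ d := by rw [hdθ]; exact sameBlock_refl hM _
  obtain ⟨φ, hφdef⟩ : ∃ φ : ↥((H ⊓ N).subgroupOf N) ≃* ↥(H ⊓ N),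
      φ = Subgroup.subgroupOfEquivOfLe inf_le_right := ⟨_, rfl⟩
  have hφ : ∀ a : ↥((H ⊓ N).subgroupOf N), ((φ a : ↥(H ⊓ N)) : G) = ((a : N) : G) := by
    intro a
    rw [hφdef]
    rfl
  haveI : Fintype ↥((H ⊓ N).subgroupOf N) := Fintype.ofFinite _
  have hind := (isInducedBlockIn_iff (M := M) N (H ⊓ N) _ φ hφ e d).mp hed
  have key : ∀ n : N, Cfsg.MemLocalIdeal M (Cfsg.centralChar (χ : G → ℂ) (n : G)
      - Cfsg.inducedCentralChar N (θ₀ : N → ℂ) (n : G)) := by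
    intro n
    have hXc : regMat (classInd (n : G)) ∈ centerAlg G :=
      regMat_mem_centerAlg (classInd_isClassFunction _)
    have hXs : regMat (classInd (n : G)) ∈ sMat hM G := classInd_mem_sMat hM _
    have e1 := IsInducedBlock.cOmega_sub H hM hcB ψ hψ χ hχ hXc hXs
    rw [cOmega_classInd _ (IsIrrCharacter.isClassFunction χ.2)] at e1
    have e2 := IsInducedBlock.cOmega_sub _ hM hind (mapIrr φ.symm ξ) ⟨ξ, hξ, rfl⟩ θ₀ hθ₀
      (resMat_mem_centerAlg N hXc) (resMat_mem_sMat N hM hXs)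
    have e3 : cOmega ((mapIrr φ.symm ξ : Cfsg.IrrCharacter ↥((H ⊓ N).subgroupOf N)) :
          ↥((H ⊓ N).subgroupOf N) → ℂ)
          (resMat ((H ⊓ N).subgroupOf N) (resMat N (regMat (classInd (n : G)))))
        = cOmega (ξ : ↥(H ⊓ N) → ℂ) (resMat (H ⊓ N) (regMat (classInd (n : G)))) :=
      cOmega_comp_resMat_resMat N _ (H ⊓ N) φ hφ (ξ : ↥(H ⊓ N) → ℂ) _
    have e5 : cOmega (ψ : H → ℂ) (resMat H (regMat (classInd (n : G))))
        = cOmega (ξ : ↥(H ⊓ N) → ℂ) (resMat (H ⊓ N) (regMat (classInd (n : G)))) := by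
      rw [resMat_regMat, resMat_regMat, cOmega_regMat, cOmega_regMat]
      have hψ1 : (ψ : H → ℂ) 1 ≠ 0 := IsIrrCharacter.apply_one_ne_zero ψ.2
      have hξ1 : (ξ : ↥(H ⊓ N) → ℂ) 1 ≠ 0 := IsIrrCharacter.apply_one_ne_zero ξ.2
      rw [div_eq_div_iff hψ1 hξ1]
      have hsupp : ∀ g : G, g ∉ N → classInd (n : G) g = 0 := by
        intro g hg
        unfold classInd
        rw [if_neg]
        intro hconj
        apply hg
        obtain ⟨y, hy⟩ := isConj_iff.mp hconj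
        rw [← hy]
        exact hN.conj_mem _ n.2 y
      have hsum := sum_subgroup_eq_sum_inf H N (classInd (n : G)) hsupp (ψ : H → ℂ)
      have hratio := sum_mul_ratio_of_invariant_of_le (H ⊓ N) H inf_le_left
        (by
          intro t ht l hl
          exact ⟨H.mul_mem (H.mul_mem ht hl.1) (H.inv_mem ht), hN.conj_mem _ hl.2 t⟩)
        ψ ξ hc (classInd (n : G))
        (by
          intro t _ g
          exact classInd_isClassFunction (n : G) g t)
      simp only [resFun_apply]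
      rw [hsum]
      exact hratio
    rw [e3, ← e5] at e2
    have e4 := inducedCentralChar_eq_cOmega N (θ₀ : N → ℂ) (n : G)
    rw [← e4] at e2
    have := MemLocalIdeal.sub hM e2 e1
    rw [sub_sub_sub_cancel_left] at this
    exact this
  obtain ⟨θ₁, hθ₁⟩ := exists_constituent_restrict N χ.2
  have hS := (Cfsg.Agent.S0963.result N χ θ₁).mp hθ₁
  have hcongr : ∀ n : N, Cfsg.MemLocalIdeal M
      (Cfsg.inducedCentralChar N (θ₁ : N → ℂ) (n : G)
        - Cfsg.inducedCentralChar N (θ₀ : N → ℂ) (n : G)) := by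
    intro n
    rw [← hS n]
    exact key n
  obtain ⟨g, hg⟩ := exists_conj_mem_of_inducedCentralChar_congr N hM θ₀ θ₁ θ₀
    (sameBlock_refl hM _) hcongr
  refine ⟨irrConj N hN g θ₁, by rw [hdθ]; exact hg, ?_⟩
  rw [irrConj_coe, classInner_restrict_conjFun N hN (IsIrrCharacter.isClassFunction χ.2)]
  exact hθ₁

end hkcover

end Cfsg.Agent.Lib.Helper6
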