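import Mathlib
import Cfsg.Prelude.Def_Blocks
import Cfsg.Prelude.Def_BlockLocal
import Cfsg.Prelude.Def_BrauerPairs
import Cfsg.Agent.Lib.Helper6.BlkTrans
import Cfsg.Agent.Lib.Helper6.BlkPairs
import Cfsg.Agent.Lib.Helper6.BrFull
import Cfsg.Agent.Lib.Helper6.BrConj2
import Cfsg.Agent.Lib.Helper6.BrCan
import Cfsg.Agent.Lib.Helper6.BrCyc
import Cfsg.Agent.Lib.Helper6.BrMax5
import Cfsg.Agent.Lib.Helper6.BrFM2
import Cfsg.Agent.Lib.Helper6.BrPair3
import Cfsg.Agent.Lib.Helper6.BlkDefConj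

set_option autoImplicit false
set_option linter.unusedSectionVars false
open Cfsg

namespace Cfsg.Agent.Lib.Helper6

open scoped ComplexConjugate

section transrev

variable {G : Type*} [Group G] [Fintype G] [DecidableEq G]
variable {p : ℕ} {M : Ideal Cfsg.AlgInt}

/-- converse transitivity of block induction: if `b₀ ^ K = β` and `b₀ ^ G = B` then `β ^ G = B` -/
theorem IsInducedBlock.trans_rev (hM : Cfsg.IsPModular p M) (K : Subgroup G) [Fintype K]
    (H' : Subgroup K) [Fintype H'] (H : Subgroup G) [Fintype H] (e : H' ≃* H)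
    (he : ∀ x : H', ((e x : H) : G) = ((x : K) : G)) (θ : Cfsg.IrrCharacter H)
    {β : Set (Cfsg.IrrCharacter K)} {B : Set (Cfsg.IrrCharacter G)}
    (h1 : Cfsg.IsInducedBlock M H' (Cfsg.blockOf M (fun x : H' => (θ : H → ℂ) (e x))) β)
    (h3 : Cfsg.IsInducedBlock M H (Cfsg.blockOf M (θ : H → ℂ)) B) :
    Cfsg.IsInducedBlock M K β B := by
  classical
  refine ⟨h1.2.1, h3.2.1, ?_⟩
  intro ξ hξ χ hχ g
  have hθ : θ ∈ Cfsg.blockOf M (θ : H → ℂ) := sameBlock_refl hM _
  have hθ₁ : (⟨fun x : H' => (θ : H → ℂ) (e x), IsIrrCharacter.comp_mulEquiv e θ.2⟩ :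
      Cfsg.IrrCharacter H') ∈ Cfsg.blockOf M (fun x : H' => (θ : H → ℂ) (e x)) := by
    change Cfsg.SameBlock M _ _
    exact sameBlock_refl hM _
  have hXc : regMat (classInd g) ∈ centerAlg G := regMat_mem_centerAlg (classInd_isClassFunction g)
  have hXs : regMat (classInd g) ∈ sMat hM G := classInd_mem_sMat hM g
  have e1 := IsInducedBlock.cOmega_sub H' hM h1 _ hθ₁ ξ hξ (resMat_mem_centerAlg K hXc)
    (resMat_mem_sMat K hM hXs)
  have e2 := IsInducedBlock.cOmega_sub H hM h3 θ hθ χ hχ hXc hXs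
  rw [inducedCentralChar_eq_cOmega]
  rw [cOmega_classInd _ (IsIrrCharacter.isClassFunction χ.2)] at e2
  simp only at e1
  rw [cOmega_comp_resMat_resMat K H' H e he] at e1
  have := MemLocalIdeal.sub hM e2 e1
  rw [sub_sub_sub_cancel_left] at this
  exact this

end transrev

section rootpair

variable {K : Type*} [Group K] [Fintype K] [DecidableEq K]
variable {p : ℕ} [Fact p.Prime] {M : Ideal Cfsg.AlgInt}

/-- a block with defect group `D₀` has a Brauer pair `(D₀, e)` with `e ^ K = b`, and `Z(D₀)` is a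
defect group of `e` -/
theorem exists_pair_center_defect (hM : Cfsg.IsPModular p M) (b : Set (Cfsg.IrrCharacter K))
    (hb : Cfsg.IsPBlock M b) (D₀ : Subgroup K) (hD₀ : Cfsg.IsDefectGroup p M b D₀) :
    ∃ e : Set (Cfsg.IrrCharacter (Subgroup.centralizer (D₀ : Set K))),
      Cfsg.IsInducedBlock M (Subgroup.centralizer (D₀ : Set K)) e b ∧
      Cfsg.IsDefectGroup p M e
        ((D₀ ⊓ Subgroup.centralizer (D₀ : Set K)).subgroupOf (Subgroup.centralizer (D₀ : Set K))) := by
  classical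
  haveI : Fintype (Subgroup.centralizer (D₀ : Set K)) := Fintype.ofFinite _
  have hP : IsPGroup p D₀ := IsDefectGroup.isPGroup' hD₀
  obtain ⟨e, he⟩ := exists_isBrauerPairOf_of_isDefectGroup D₀ hM hP hb hD₀
  have hmax := isMaximalBrauerPair_of_isDefectGroup hM b D₀ e hD₀ he
  refine ⟨e, (isBrauerPairOf_iff_isInducedBlock hM D₀ hP e b).mp he, ?_⟩
  apply isDefectGroup_center_of_steps hM D₀ e he.1
  intro R g hn
  haveI : Fintype (Subgroup.centralizer (R : Set K)) := Fintype.ofFinite _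
  have h1 : Cfsg.IsBrauerPairOf p M b R g :=
    (isBrauerPairOf_iff_of_isNormalSubpair R D₀ hM g e hn b hb).mpr he
  exact hmax.2 R g h1 (Relation.ReflTransGen.single hn)

end rootpair

section main

variable {G : Type*} [Group G] [Fintype G] [DecidableEq G]
variable {p : ℕ} [Fact p.Prime] {M : Ideal Cfsg.AlgInt}

/-- Brauer: a block `b` of `H` with defect group `D₀` and `C_G(D₀) ≤ H` induces a block of `G`;
moreover the pair `(D₀, e)` in `G` obtained from a root of `b` has `Z(D₀)` as a defect group of `e`,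
and `e` induces every block induced by `b` -/
theorem exists_pair_of_centralizer_le (hM : Cfsg.IsPModular p M) (H : Subgroup G)
    (b : Set (Cfsg.IrrCharacter H)) (hb : Cfsg.IsPBlock M b) (D₀ : Subgroup H)
    (hD₀ : Cfsg.IsDefectGroup p M b D₀)
    (hC : Subgroup.centralizer ((D₀.map H.subtype : Subgroup G) : Set G) ≤ H) :
    ∃ e : Set (Cfsg.IrrCharacter (Subgroup.centralizer ((D₀.map H.subtype : Subgroup G) : Set G))),
      Cfsg.IsPBlock M e ∧
      Cfsg.IsDefectGroup p M e
        ((D₀.map H.subtype ⊓ Subgroup.centralizer ((D₀.map H.subtype : Subgroup G) : Set G)).subgroupOf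
          (Subgroup.centralizer ((D₀.map H.subtype : Subgroup G) : Set G))) ∧
      Cfsg.InducedBlockDefined M H b ∧
      ∀ B : Set (Cfsg.IrrCharacter G), Cfsg.IsInducedBlock M H b B →
        Cfsg.IsInducedBlock M (Subgroup.centralizer ((D₀.map H.subtype : Subgroup G) : Set G)) e B := by
  classical
  haveI : Fintype H := Fintype.ofFinite _
  obtain ⟨P, hPdef⟩ : ∃ P : Subgroup G, P = D₀.map H.subtype := ⟨_, rfl⟩
  rw [← hPdef] at hC ⊢
  have hP₀ : IsPGroup p D₀ := IsDefectGroup.isPGroup' hD₀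
  have hP : IsPGroup p P := by
    rw [hPdef]
    exact hP₀.map _
  haveI : Fintype (Subgroup.centralizer (D₀ : Set H)) := Fintype.ofFinite _
  haveI : Fintype (Subgroup.centralizer (P : Set G)) := Fintype.ofFinite _
  have hmap : (Subgroup.centralizer (D₀ : Set H)).map H.subtype
      = Subgroup.centralizer (P : Set G) := by
    ext y
    rw [Subgroup.mem_map]
    constructor
    · rintro ⟨x, hx, rfl⟩
      rw [Subgroup.mem_centralizer_iff] at hx ⊢
      intro d hd
      rw [hPdef] at hd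
      obtain ⟨d', hd', rfl⟩ := hd
      exact congrArg (fun z : H => (z : G)) (hx d' hd')
    · intro hy
      refine ⟨⟨y, hC hy⟩, ?_, rfl⟩
      rw [Subgroup.mem_centralizer_iff] at hy ⊢
      intro d hd
      apply Subtype.ext
      exact hy (d : G) (by rw [hPdef]; exact ⟨d, hd, rfl⟩)
  obtain ⟨φ, hφ⟩ : ∃ φ : ↥(Subgroup.centralizer (D₀ : Set H)) ≃*
      ↥(Subgroup.centralizer (P : Set G)),
      ∀ x : ↥(Subgroup.centralizer (D₀ : Set H)),
        ((φ x : ↥(Subgroup.centralizer (P : Set G))) : G) = ((x : H) : G) := by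
    refine ⟨(Subgroup.equivMapOfInjective _ H.subtype (Subgroup.subtype_injective _)).trans
      (MulEquiv.subgroupCongr hmap), ?_⟩
    intro x; rfl
  obtain ⟨e', he'ind, he'def⟩ := exists_pair_center_defect hM b hb D₀ hD₀
  obtain ⟨θ', he'θ⟩ := he'ind.1
  obtain ⟨θ, hθ⟩ : ∃ θ : Cfsg.IrrCharacter (Subgroup.centralizer (P : Set G)),
      θ = mapIrr φ θ' := ⟨_, rfl⟩
  have heq : mapIrr φ '' e' = Cfsg.blockOf M (θ : ↥(Subgroup.centralizer (P : Set G)) → ℂ) := by
    rw [he'θ, mapIrr_image_blockOf, hθ]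
  have hfun : (fun x : ↥(Subgroup.centralizer (D₀ : Set H)) =>
      (θ : ↥(Subgroup.centralizer (P : Set G)) → ℂ) (φ x))
      = (θ' : ↥(Subgroup.centralizer (D₀ : Set H)) → ℂ) := by
    funext x
    rw [hθ, mapIrr_apply, MulEquiv.symm_apply_apply]
  have h1 : Cfsg.IsInducedBlock M (Subgroup.centralizer (D₀ : Set H))
      (Cfsg.blockOf M (fun x : ↥(Subgroup.centralizer (D₀ : Set H)) =>
        (θ : ↥(Subgroup.centralizer (P : Set G)) → ℂ) (φ x))) b := by
    rw [hfun, ← he'θ]
    exact he'ind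
  refine ⟨mapIrr φ '' e', isPBlock_mapIrr_image φ he'ind.1, ?_, ?_, ?_⟩
  · have h2 := IsDefectGroup.mapIrr (p := p) (M := M) φ he'def
    have h3 : ((D₀ ⊓ Subgroup.centralizer (D₀ : Set H)).subgroupOf
        (Subgroup.centralizer (D₀ : Set H))).map φ.toMonoidHom
        = (P ⊓ Subgroup.centralizer (P : Set G)).subgroupOf
          (Subgroup.centralizer (P : Set G)) := by
      ext y
      rw [Subgroup.mem_map, Subgroup.mem_subgroupOf]
      constructor
      · rintro ⟨x, hx, rfl⟩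
        rw [Subgroup.mem_subgroupOf] at hx
        refine ⟨?_, (φ x).2⟩
        change ((φ x : ↥(Subgroup.centralizer (P : Set G))) : G) ∈ P
        rw [hφ, hPdef]
        exact ⟨(x : H), hx.1, rfl⟩
      · rintro ⟨hyP, _⟩
        obtain ⟨d, hd, hdy⟩ := hPdef.le hyP
        refine ⟨φ.symm y, ?_, φ.apply_symm_apply y⟩
        rw [Subgroup.mem_subgroupOf]
        have h4 := hφ (φ.symm y)
        rw [φ.apply_symm_apply] at h4
        have h5 : ((φ.symm y : ↥(Subgroup.centralizer (D₀ : Set H))) : H) = d := by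
          apply Subtype.ext
          rw [← h4]
          exact hdy.symm
        refine ⟨?_, (φ.symm y).2⟩
        rw [h5]
        exact hd
    rw [h3] at h2
    exact h2
  · obtain ⟨χ, hχ⟩ := inducedBlockDefined_centralizer hM P hP θ
    exact ⟨_, IsInducedBlock.trans_rev hM H (Subgroup.centralizer (D₀ : Set H))
      (Subgroup.centralizer (P : Set G)) φ hφ θ h1 hχ⟩
  · intro B hB
    rw [heq]
    exact IsInducedBlock.trans hM H (Subgroup.centralizer (D₀ : Set H))
      (Subgroup.centralizer (P : Set G)) φ hφ θ h1 hB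

end main

section final

variable {G : Type*} [Group G] [Fintype G] [DecidableEq G]
variable {p : ℕ} [Fact p.Prime] {M : Ideal Cfsg.AlgInt}

/-- a Brauer pair `(P, e)` of `B` with `Z(P)` a defect group of `e` lies below a maximal pair
`(D, ·)` with `Z(D) ≤ P` -/
theorem exists_defectGroup_center_le (hM : Cfsg.IsPModular p M) (B : Set (Cfsg.IrrCharacter G))
    (P : Subgroup G) (hP : IsPGroup p P)
    (e : Set (Cfsg.IrrCharacter (Subgroup.centralizer (P : Set G)))) (he : Cfsg.IsPBlock M e)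
    (hdef : Cfsg.IsDefectGroup p M e
      ((P ⊓ Subgroup.centralizer (P : Set G)).subgroupOf (Subgroup.centralizer (P : Set G))))
    (hind : Cfsg.IsInducedBlock M (Subgroup.centralizer (P : Set G)) e B) :
    ∃ D : Subgroup G, Cfsg.IsDefectGroup p M B D ∧ P ≤ D ∧
      ∀ x ∈ D, (∀ d ∈ D, d * x = x * d) → x ∈ P := by
  classical
  haveI : Fintype (Subgroup.centralizer (P : Set G)) := Fintype.ofFinite _
  have hpair : Cfsg.IsBrauerPairOf p M B P e :=
    (isBrauerPairOf_iff_isInducedBlock hM P hP e B).mpr hind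
  obtain ⟨bb, hmax, hch⟩ := exists_maximal_above (p := p) (M := M) B (Nat.card G) ⟨P, e⟩
    (Nat.sub_le _ _) hpair
  obtain ⟨D, eD⟩ := bb
  have hD := isDefectGroup_of_isMaximalBrauerPair hM B D eD hmax
  have hPD : P ≤ D := le_of_chain _ _ hch
  obtain ⟨D', hD', hle⟩ := exists_isDefectGroup_ge_centralizerIn hM D P eD e hmax.1.1 hPD he hch
  have hcard := card_eq_of_isDefectGroup hM e he _ _ hdef hD'
  have hZle : (P ⊓ Subgroup.centralizer (P : Set G)).subgroupOf (Subgroup.centralizer (P : Set G))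
      ≤ (D ⊓ Subgroup.centralizer (P : Set G)).subgroupOf (Subgroup.centralizer (P : Set G)) := by
    intro y hy
    rw [Subgroup.mem_subgroupOf] at hy ⊢
    exact ⟨hPD hy.1, hy.2⟩
  have heq := Subgroup.eq_of_le_of_card_ge (hZle.trans hle) (le_of_eq hcard.symm)
  refine ⟨D, hD, hPD, ?_⟩
  intro x hxD hxc
  have hxC : x ∈ Subgroup.centralizer (P : Set G) := by
    rw [Subgroup.mem_centralizer_iff]
    intro d hd
    exact hxc d (hPD hd)
  have h1 : (⟨x, hxC⟩ : Subgroup.centralizer (P : Set G)) ∈ D' := by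
    apply hle
    rw [Subgroup.mem_subgroupOf]
    exact ⟨hxD, hxC⟩
  rw [← heq, Subgroup.mem_subgroupOf] at h1
  exact h1.1

/-- Brauer: `b ^ G` is defined when `C_G(D₀) ≤ H`, with nested defect groups -/
theorem induced_block_nested (hM : Cfsg.IsPModular p M) (H : Subgroup G)
    (b : Set (Cfsg.IrrCharacter H)) (hb : Cfsg.IsPBlock M b) (D₀ : Subgroup H)
    (hD₀ : Cfsg.IsDefectGroup p M b D₀)
    (hC : Subgroup.centralizer ((D₀.map H.subtype : Subgroup G) : Set G) ≤ H) :
    Cfsg.InducedBlockDefined M H b ∧ ∀ B : Set (Cfsg.IrrCharacter G),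
      Cfsg.IsInducedBlock M H b B →
      (∃ D : Subgroup G, Cfsg.IsDefectGroup p M B D ∧
        (Subgroup.center ↥D).map D.subtype
          ≤ ((Subgroup.center ↥D₀).map D₀.subtype).map H.subtype ∧
        ((Subgroup.center ↥D₀).map D₀.subtype).map H.subtype ≤ D₀.map H.subtype ∧
        D₀.map H.subtype ≤ D) ∧
      (∀ D : Subgroup G, Cfsg.IsDefectGroup p M B D → IsMulCommutative ↥D →
        Cfsg.IsDefectGroup p M B (D₀.map H.subtype)) := by
  classical
  obtain ⟨e, he, hedef, hdefd, heind⟩ := exists_pair_of_centralizer_le hM H b hb D₀ hD₀ hC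
  refine ⟨hdefd, ?_⟩
  intro B hB
  have hP : IsPGroup p (D₀.map H.subtype) := (IsDefectGroup.isPGroup' hD₀).map _
  obtain ⟨D₁, hD₁, hPD₁, hcen⟩ := exists_defectGroup_center_le hM B _ hP e he hedef (heind B hB)
  constructor
  · refine ⟨D₁, hD₁, ?_, ?_, hPD₁⟩
    · rintro x ⟨z, hz, rfl⟩
      have hzc := Subgroup.mem_center_iff.mp hz
      have hxP : ((z : D₁) : G) ∈ D₀.map H.subtype := by
        apply hcen _ z.2
        intro d hd
        exact congrArg (fun w : D₁ => (w : G)) (hzc ⟨d, hd⟩)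
      obtain ⟨d₀, hd₀, hd₀z⟩ := hxP
      refine ⟨d₀, ⟨⟨d₀, hd₀⟩, ?_, rfl⟩, hd₀z⟩
      rw [SetLike.mem_coe, Subgroup.mem_center_iff]
      intro w
      apply Subtype.ext
      apply Subtype.ext
      have hwD : (((w : D₀) : H) : G) ∈ D₁ := hPD₁ ⟨(w : H), w.2, rfl⟩
      have := congrArg (fun w : D₁ => (w : G)) (hzc ⟨_, hwD⟩)
      simp only [Subgroup.coe_mul] at this ⊢
      rw [← hd₀z] at this
      exact this
    · rintro x ⟨y, ⟨z, _, rfl⟩, rfl⟩
      exact ⟨(z : H), z.2, rfl⟩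
  · intro D hD hDab
    obtain ⟨χ₀, hBχ⟩ := hB.2.1
    rw [hBχ] at hD hD₁
    obtain ⟨x, hx⟩ := isDefectGroup_conj hM χ₀ D D₁ hD hD₁
    have hle : D₁ ≤ D₀.map H.subtype := by
      intro a ha
      apply hcen a ha
      intro c hc
      rw [hx] at ha hc
      obtain ⟨a', ha', rfl⟩ := ha
      obtain ⟨c', hc', rfl⟩ := hc
      have h1 : (⟨c', hc'⟩ : D) * ⟨a', ha'⟩ = ⟨a', ha'⟩ * ⟨c', hc'⟩ :=
        IsMulCommutative.is_comm.comm _ _
      have h2 : c' * a' = a' * c' := congrArg (fun w : D => (w : G)) h1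
      simp only [MulEquiv.coe_toMonoidHom, MulAut.conj_apply]
      calc x * c' * x⁻¹ * (x * a' * x⁻¹) = x * (c' * a') * x⁻¹ := by group
        _ = x * (a' * c') * x⁻¹ := by rw [h2]
        _ = x * a' * x⁻¹ * (x * c' * x⁻¹) := by group
    have : D₀.map H.subtype = D₁ := le_antisymm hPD₁ hle
    rw [hBχ, this]
    exact hD₁

end final

end Cfsg.Agent.Lib.Helper6
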