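import Mathlib
import Cfsg.Prelude.Def_Blocks
import Cfsg.Prelude.Def_BlockLocal
import Cfsg.Agent.Lib.Helper6.BrIndIn
import Cfsg.Agent.Lib.Helper6.BlkTrans
import Cfsg.Agent.Lib.Helper6.IndCentral
import Cfsg.Agent.Lib.Helper6.BlkFirstMain
import Cfsg.Agent.Lib.Helper6.BrFull
import Cfsg.Agent.Lib.Helper6.MajorFusion2

set_option autoImplicit false
set_option linter.unusedSectionVars false
open Cfsg

namespace Cfsg.Agent.Lib.Helper6

open scoped ComplexConjugate

section relfm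

variable {G : Type*} [Group G] [Fintype G] [DecidableEq G]
variable {p : ℕ} [Fact p.Prime] {M : Ideal Cfsg.AlgInt}

/-- the normalizer of `P` in the group `S`, identified with a subgroup `K` of `G` -/
noncomputable def relNormEquiv (P S K : Subgroup G) (hPS : P ≤ S)
    (hK : ∀ x : G, x ∈ K ↔ x ∈ S ∧ x ∈ Subgroup.normalizer (P : Set G)) :
    ↥(Subgroup.normalizer ((P.subgroupOf S : Subgroup S) : Set S)) ≃* ↥K where
  toFun a := ⟨((a : S) : G), (hK _).mpr ⟨(a : S).2, by
    have h2 : (a : S) ∈ (Subgroup.normalizer (P : Set G)).subgroupOf S := by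
      rw [Subgroup.subgroupOf_normalizer_eq hPS]
      exact a.2
    exact Subgroup.mem_subgroupOf.mp h2⟩⟩
  invFun k := ⟨⟨(k : G), ((hK _).mp k.2).1⟩, by
    rw [← Subgroup.subgroupOf_normalizer_eq hPS, Subgroup.mem_subgroupOf]
    exact ((hK _).mp k.2).2⟩
  left_inv a := rfl
  right_inv k := rfl
  map_mul' a b := rfl

theorem relNormEquiv_coe (P S K : Subgroup G) (hPS : P ≤ S)
    (hK : ∀ x : G, x ∈ K ↔ x ∈ S ∧ x ∈ Subgroup.normalizer (P : Set G))
    (a : ↥(Subgroup.normalizer ((P.subgroupOf S : Subgroup S) : Set S))) :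
    ((relNormEquiv P S K hPS hK a : K) : G) = ((a : S) : G) := rfl

theorem relNormEquiv_symm_coe (P S K : Subgroup G) (hPS : P ≤ S)
    (hK : ∀ x : G, x ∈ K ↔ x ∈ S ∧ x ∈ Subgroup.normalizer (P : Set G)) (k : K) :
    ((((relNormEquiv P S K hPS hK).symm k :
      ↥(Subgroup.normalizer ((P.subgroupOf S : Subgroup S) : Set S))) : S) : G) = (k : G) := rfl

theorem relNormEquiv_map (P S K : Subgroup G) (hPS : P ≤ S)
    (hK : ∀ x : G, x ∈ K ↔ x ∈ S ∧ x ∈ Subgroup.normalizer (P : Set G)) :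
    ((P.subgroupOf S).subgroupOf (Subgroup.normalizer ((P.subgroupOf S : Subgroup S) : Set S))).map
      (relNormEquiv P S K hPS hK).toMonoidHom = P.subgroupOf K := by
  ext k
  constructor
  · rintro ⟨a, ha, rfl⟩
    rw [Subgroup.mem_subgroupOf]
    rw [SetLike.mem_coe, Subgroup.mem_subgroupOf, Subgroup.mem_subgroupOf] at ha
    exact ha
  · intro hk
    rw [Subgroup.mem_subgroupOf] at hk
    refine ⟨(relNormEquiv P S K hPS hK).symm k, ?_, ?_⟩
    · rw [SetLike.mem_coe, Subgroup.mem_subgroupOf, Subgroup.mem_subgroupOf]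
      exact hk
    · exact (relNormEquiv P S K hPS hK).apply_symm_apply k

theorem relNormEquiv_symm_map (P S K : Subgroup G) (hPS : P ≤ S)
    (hK : ∀ x : G, x ∈ K ↔ x ∈ S ∧ x ∈ Subgroup.normalizer (P : Set G)) :
    (P.subgroupOf K).map (relNormEquiv P S K hPS hK).symm.toMonoidHom
      = (P.subgroupOf S).subgroupOf
          (Subgroup.normalizer ((P.subgroupOf S : Subgroup S) : Set S)) := by
  ext a
  constructor
  · rintro ⟨k, hk, rfl⟩
    rw [Subgroup.mem_subgroupOf, Subgroup.mem_subgroupOf]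
    rw [SetLike.mem_coe, Subgroup.mem_subgroupOf] at hk
    exact hk
  · intro ha
    rw [Subgroup.mem_subgroupOf, Subgroup.mem_subgroupOf] at ha
    refine ⟨relNormEquiv P S K hPS hK a, ?_, ?_⟩
    · rw [SetLike.mem_coe, Subgroup.mem_subgroupOf]
      exact ha
    · exact (relNormEquiv P S K hPS hK).symm_apply_apply a

theorem mapIrr_symm_symm_image {K K' : Type*} [Group K] [Group K'] [Finite K] [Finite K']
    (φ : K ≃* K') (A : Set (Cfsg.IrrCharacter K')) :
    mapIrr φ '' (mapIrr φ.symm '' A) = A := by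
  have := mapIrr_symm_image_image φ.symm A
  rw [MulEquiv.symm_symm] at this
  exact this

/-- relative first main theorem: induction from `N_S(P)` to `S` preserves the defect group `P` -/
theorem relFM_induced (hM : Cfsg.IsPModular p M) (P S K : Subgroup G) (hP : IsPGroup p P)
    (hPS : P ≤ S) (hK : ∀ x : G, x ∈ K ↔ x ∈ S ∧ x ∈ Subgroup.normalizer (P : Set G))
    (b : Set (Cfsg.IrrCharacter K)) (hb : Cfsg.IsPBlock M b)
    (hPb : Cfsg.IsDefectGroup p M b (P.subgroupOf K)) :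
    ∃ c : Set (Cfsg.IrrCharacter S), Cfsg.IsPBlock M c ∧
      Cfsg.IsDefectGroup p M c (P.subgroupOf S) ∧ Cfsg.IsInducedBlockIn M S K b c := by
  classical
  haveI : Fintype S := Fintype.ofFinite _
  haveI : Fintype ↥(Subgroup.normalizer ((P.subgroupOf S : Subgroup S) : Set S)) :=
    Fintype.ofFinite _
  obtain ⟨φ, hφdef⟩ : ∃ φ, φ = relNormEquiv P S K hPS hK := ⟨_, rfl⟩
  have hφ : ∀ a, ((φ a : K) : G) = ((a : S) : G) := by
    intro a; rw [hφdef]; rfl
  have hDp : IsPGroup p (P.subgroupOf S) := by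
    rw [← Subgroup.comap_subtype]
    exact hP.comap_subtype
  have hb' : Cfsg.IsPBlock M (mapIrr φ.symm '' b) := isPBlock_mapIrr_image φ.symm hb
  have hD' : Cfsg.IsDefectGroup p M (mapIrr φ.symm '' b) ((P.subgroupOf S).subgroupOf
      (Subgroup.normalizer ((P.subgroupOf S : Subgroup S) : Set S))) := by
    have := IsDefectGroup.mapIrr (p := p) (M := M) φ.symm hPb
    rw [hφdef, relNormEquiv_symm_map] at this
    rw [hφdef]
    exact this
  obtain ⟨c, hc, hcD, hind⟩ := firstMain_induced hM (P.subgroupOf S) hDp _ hb' hD'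
  exact ⟨c, hc, hcD, (isInducedBlockIn_iff (M := M) S K _ φ hφ b c).mpr hind⟩

/-- relative first main theorem: existence of the correspondent -/
theorem relFM_exists (hM : Cfsg.IsPModular p M) (P S K : Subgroup G) (hP : IsPGroup p P)
    (hPS : P ≤ S) (hK : ∀ x : G, x ∈ K ↔ x ∈ S ∧ x ∈ Subgroup.normalizer (P : Set G))
    (c : Set (Cfsg.IrrCharacter S)) (hc : Cfsg.IsPBlock M c)
    (hPc : Cfsg.IsDefectGroup p M c (P.subgroupOf S)) :
    ∃ b : Set (Cfsg.IrrCharacter K), Cfsg.IsPBlock M b ∧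
      Cfsg.IsDefectGroup p M b (P.subgroupOf K) ∧ Cfsg.IsInducedBlockIn M S K b c := by
  classical
  haveI : Fintype S := Fintype.ofFinite _
  haveI : Fintype ↥(Subgroup.normalizer ((P.subgroupOf S : Subgroup S) : Set S)) :=
    Fintype.ofFinite _
  obtain ⟨φ, hφdef⟩ : ∃ φ, φ = relNormEquiv P S K hPS hK := ⟨_, rfl⟩
  have hφ : ∀ a, ((φ a : K) : G) = ((a : S) : G) := by
    intro a; rw [hφdef]; rfl
  have hDp : IsPGroup p (P.subgroupOf S) := by
    rw [← Subgroup.comap_subtype]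
    exact hP.comap_subtype
  obtain ⟨b', hb', hb'D, hind⟩ := firstMain_exists hM (P.subgroupOf S) hDp c hc hPc
  refine ⟨mapIrr φ '' b', isPBlock_mapIrr_image φ hb', ?_, ?_⟩
  · have := IsDefectGroup.mapIrr (p := p) (M := M) φ hb'D
    rw [hφdef, relNormEquiv_map] at this
    rw [hφdef]
    exact this
  · rw [isInducedBlockIn_iff (M := M) S K _ φ hφ, mapIrr_symm_image_image]
    exact hind

/-- relative first main theorem: uniqueness of the correspondent -/
theorem relFM_unique (hM : Cfsg.IsPModular p M) (P S K : Subgroup G) (hP : IsPGroup p P)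
    (hPS : P ≤ S) (hK : ∀ x : G, x ∈ K ↔ x ∈ S ∧ x ∈ Subgroup.normalizer (P : Set G))
    (c : Set (Cfsg.IrrCharacter S)) (b₁ b₂ : Set (Cfsg.IrrCharacter K))
    (h₁ : Cfsg.IsDefectGroup p M b₁ (P.subgroupOf K))
    (hind₁ : Cfsg.IsInducedBlockIn M S K b₁ c) (hind₂ : Cfsg.IsInducedBlockIn M S K b₂ c) :
    b₁ = b₂ := by
  classical
  haveI : Fintype S := Fintype.ofFinite _
  haveI : Fintype ↥(Subgroup.normalizer ((P.subgroupOf S : Subgroup S) : Set S)) :=
    Fintype.ofFinite _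
  obtain ⟨φ, hφdef⟩ : ∃ φ, φ = relNormEquiv P S K hPS hK := ⟨_, rfl⟩
  have hφ : ∀ a, ((φ a : K) : G) = ((a : S) : G) := by
    intro a; rw [hφdef]; rfl
  have hDp : IsPGroup p (P.subgroupOf S) := by
    rw [← Subgroup.comap_subtype]
    exact hP.comap_subtype
  have hD' : Cfsg.IsDefectGroup p M (mapIrr φ.symm '' b₁) ((P.subgroupOf S).subgroupOf
      (Subgroup.normalizer ((P.subgroupOf S : Subgroup S) : Set S))) := by
    have := IsDefectGroup.mapIrr (p := p) (M := M) φ.symm h₁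
    rw [hφdef, relNormEquiv_symm_map] at this
    rw [hφdef]
    exact this
  have e1 := (isInducedBlockIn_iff (M := M) S K _ φ hφ b₁ c).mp hind₁
  have e2 := (isInducedBlockIn_iff (M := M) S K _ φ hφ b₂ c).mp hind₂
  have := firstMain_unique hM (P.subgroupOf S) hDp c _ _ hD' e1 e2
  exact (mapIrr φ.symm).injective.image_injective this

/-- transitivity of block induction through an intermediate subgroup -/
theorem IsInducedBlockIn.trans (hM : Cfsg.IsPModular p M) (K S : Subgroup G) (hKS : K ≤ S)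
    {b : Set (Cfsg.IrrCharacter K)} {c : Set (Cfsg.IrrCharacter S)}
    {B : Set (Cfsg.IrrCharacter G)}
    (h1 : Cfsg.IsInducedBlockIn M S K b c) (h2 : Cfsg.IsInducedBlock M S c B) :
    Cfsg.IsInducedBlock M K b B := by
  classical
  haveI : Fintype S := Fintype.ofFinite _
  haveI : Fintype K := Fintype.ofFinite _
  haveI : Fintype ↥(K.subgroupOf S) := Fintype.ofFinite _
  obtain ⟨φ, hφdef⟩ : ∃ φ : ↥(K.subgroupOf S) ≃* ↥K, φ = Subgroup.subgroupOfEquivOfLe hKS :=
    ⟨_, rfl⟩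
  have hφ : ∀ a : ↥(K.subgroupOf S), ((φ a : K) : G) = ((a : S) : G) := by
    intro a; rw [hφdef]; rfl
  obtain ⟨θ, hbθ⟩ := h1.1
  have e1 := (isInducedBlockIn_iff (M := M) S K _ φ hφ b c).mp h1
  rw [hbθ, mapIrr_image_blockOf] at e1
  rw [hbθ]
  exact IsInducedBlock.trans hM S (K.subgroupOf S) K φ hφ θ e1 h2

/-- converse transitivity of block induction through an intermediate subgroup -/
theorem IsInducedBlockIn.trans_rev (hM : Cfsg.IsPModular p M) (K S : Subgroup G) (hKS : K ≤ S)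
    {b : Set (Cfsg.IrrCharacter K)} {c : Set (Cfsg.IrrCharacter S)}
    {B : Set (Cfsg.IrrCharacter G)}
    (h1 : Cfsg.IsInducedBlockIn M S K b c) (h3 : Cfsg.IsInducedBlock M K b B) :
    Cfsg.IsInducedBlock M S c B := by
  classical
  haveI : Fintype S := Fintype.ofFinite _
  haveI : Fintype K := Fintype.ofFinite _
  haveI : Fintype ↥(K.subgroupOf S) := Fintype.ofFinite _
  obtain ⟨φ, hφdef⟩ : ∃ φ : ↥(K.subgroupOf S) ≃* ↥K, φ = Subgroup.subgroupOfEquivOfLe hKS :=
    ⟨_, rfl⟩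
  have hφ : ∀ a : ↥(K.subgroupOf S), ((φ a : K) : G) = ((a : S) : G) := by
    intro a; rw [hφdef]; rfl
  obtain ⟨θ, hbθ⟩ := h1.1
  have e1 := (isInducedBlockIn_iff (M := M) S K _ φ hφ b c).mp h1
  rw [hbθ, mapIrr_image_blockOf] at e1
  rw [hbθ] at h3
  exact IsInducedBlock.trans_rev hM S (K.subgroupOf S) K φ hφ θ e1 h3

end relfm

end Cfsg.Agent.Lib.Helper6
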