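import Mathlib
import Cfsg.Prelude.Def_Blocks
import Cfsg.Prelude.Def_BlockLocal
import Cfsg.Agent.Lib.Helper6.HKRelFM
import Cfsg.Agent.Lib.Helper6.KnFR
import Cfsg.Agent.Lib.Helper6.Auto

set_option autoImplicit false
set_option linter.unusedSectionVars false
open Cfsg

namespace Cfsg.Agent.Lib.Helper6

open scoped ComplexConjugate

section fmi

variable {G : Type*} [Group G] [Fintype G] [DecidableEq G]
variable {p : ℕ} [Fact p.Prime] {M : Ideal Cfsg.AlgInt}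

/-- first main theorem for a subgroup `H ≥ N_G(P)`: induction preserves the defect group -/
theorem fmi_induced (hM : Cfsg.IsPModular p M) (P H : Subgroup G) (hP : IsPGroup p P)
    (hNH : Subgroup.normalizer (P : Set G) ≤ H)
    (c : Set (Cfsg.IrrCharacter H)) (hc : Cfsg.IsPBlock M c)
    (hPc : Cfsg.IsDefectGroup p M c (P.subgroupOf H)) :
    ∃ B : Set (Cfsg.IrrCharacter G), Cfsg.IsPBlock M B ∧ Cfsg.IsDefectGroup p M B P ∧
      Cfsg.IsInducedBlock M H c B := by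
  classical
  haveI : Fintype (Subgroup.normalizer (P : Set G)) := Fintype.ofFinite _
  have hPH : P ≤ H := Subgroup.le_normalizer.trans hNH
  have hK : ∀ x : G, x ∈ Subgroup.normalizer (P : Set G)
      ↔ x ∈ H ∧ x ∈ Subgroup.normalizer (P : Set G) :=
    fun x => ⟨fun h => ⟨hNH h, h⟩, fun h => h.2⟩
  obtain ⟨b, hb, hbD, hind⟩ := relFM_exists hM P H _ hP hPH hK c hc hPc
  obtain ⟨B, hB, hBD, hindB⟩ := firstMain_induced hM P hP b hb hbD
  exact ⟨B, hB, hBD, IsInducedBlockIn.trans_rev hM _ H hNH hind hindB⟩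

/-- first main theorem for a subgroup `H ≥ N_G(P)`: existence -/
theorem fmi_exists (hM : Cfsg.IsPModular p M) (P H : Subgroup G) (hP : IsPGroup p P)
    (hNH : Subgroup.normalizer (P : Set G) ≤ H)
    (B : Set (Cfsg.IrrCharacter G)) (hB : Cfsg.IsPBlock M B)
    (hPB : Cfsg.IsDefectGroup p M B P) :
    ∃ c : Set (Cfsg.IrrCharacter H), Cfsg.IsPBlock M c ∧
      Cfsg.IsDefectGroup p M c (P.subgroupOf H) ∧ Cfsg.IsInducedBlock M H c B := by
  classical
  haveI : Fintype (Subgroup.normalizer (P : Set G)) := Fintype.ofFinite _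
  have hPH : P ≤ H := Subgroup.le_normalizer.trans hNH
  have hK : ∀ x : G, x ∈ Subgroup.normalizer (P : Set G)
      ↔ x ∈ H ∧ x ∈ Subgroup.normalizer (P : Set G) :=
    fun x => ⟨fun h => ⟨hNH h, h⟩, fun h => h.2⟩
  obtain ⟨b, hb, hbD, hind⟩ := firstMain_exists hM P hP B hB hPB
  obtain ⟨c, hc, hcD, hindc⟩ := relFM_induced hM P H _ hP hPH hK b hb hbD
  exact ⟨c, hc, hcD, IsInducedBlockIn.trans_rev hM _ H hNH hindc hind⟩

/-- first main theorem for a subgroup `H ≥ N_G(P)`: uniqueness -/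
theorem fmi_unique (hM : Cfsg.IsPModular p M) (P H : Subgroup G) (hP : IsPGroup p P)
    (hNH : Subgroup.normalizer (P : Set G) ≤ H)
    (B : Set (Cfsg.IrrCharacter G)) (c₁ c₂ : Set (Cfsg.IrrCharacter H))
    (hc₁ : Cfsg.IsPBlock M c₁) (hc₂ : Cfsg.IsPBlock M c₂)
    (h₁ : Cfsg.IsDefectGroup p M c₁ (P.subgroupOf H))
    (h₂ : Cfsg.IsDefectGroup p M c₂ (P.subgroupOf H))
    (hind₁ : Cfsg.IsInducedBlock M H c₁ B) (hind₂ : Cfsg.IsInducedBlock M H c₂ B) :
    c₁ = c₂ := by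
  classical
  haveI : Fintype (Subgroup.normalizer (P : Set G)) := Fintype.ofFinite _
  have hPH : P ≤ H := Subgroup.le_normalizer.trans hNH
  have hK : ∀ x : G, x ∈ Subgroup.normalizer (P : Set G)
      ↔ x ∈ H ∧ x ∈ Subgroup.normalizer (P : Set G) :=
    fun x => ⟨fun h => ⟨hNH h, h⟩, fun h => h.2⟩
  obtain ⟨b₁, hb₁, hb₁D, hi₁⟩ := relFM_exists hM P H _ hP hPH hK c₁ hc₁ h₁
  obtain ⟨b₂, hb₂, hb₂D, hi₂⟩ := relFM_exists hM P H _ hP hPH hK c₂ hc₂ h₂
  have e1 := IsInducedBlockIn.trans hM _ H hNH hi₁ hind₁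
  have e2 := IsInducedBlockIn.trans hM _ H hNH hi₂ hind₂
  have hbb := firstMain_unique hM P hP B b₁ b₂ hb₁D e1 e2
  subst hbb
  exact IsInducedBlockIn.unique hM H _ hNH hi₁ hi₂

end fmi

section knrel

variable {G : Type*} [Group G] [Fintype G] [DecidableEq G]
variable {p : ℕ} [Fact p.Prime] {M : Ideal Cfsg.AlgInt}

/-- Knörr's theorem for a pair of subgroups `L ⊴ H` of `G` -/
theorem knorr_rel (hM : Cfsg.IsPModular p M) (H L : Subgroup G) [Fintype H] [Fintype L]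
    (hLH : L ≤ H)
    (hLn : ∀ h ∈ H, ∀ l ∈ L, h * l * h⁻¹ ∈ L)
    (c : Set (Cfsg.IrrCharacter H)) (hc : Cfsg.IsPBlock M c)
    (e : Set (Cfsg.IrrCharacter L)) (he : Cfsg.IsPBlock M e)
    (hcov : ∃ ψ ∈ c, ∃ ξ ∈ e,
      Cfsg.classInner (fun l : L => (ψ : H → ℂ) ⟨l, hLH l.2⟩) (ξ : L → ℂ) ≠ 0) :
    ∃ P : Subgroup G, P ≤ H ∧ Cfsg.IsDefectGroup p M c (P.subgroupOf H) ∧
      Cfsg.IsDefectGroup p M e ((P ⊓ L).subgroupOf L) := by
  classical
  haveI : Fintype ↥(L.subgroupOf H) := Fintype.ofFinite _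
  have hN' : (L.subgroupOf H).Normal := by
    constructor
    intro n hn g
    rw [Subgroup.mem_subgroupOf] at hn ⊢
    have := hLn g g.2 n hn
    simpa using this
  obtain ⟨φ, hφdef⟩ : ∃ φ : ↥(L.subgroupOf H) ≃* ↥L, φ = Subgroup.subgroupOfEquivOfLe hLH :=
    ⟨_, rfl⟩
  have hφ : ∀ a : ↥(L.subgroupOf H), ((φ a : L) : G) = ((a : H) : G) := by
    intro a; rw [hφdef]; rfl
  obtain ⟨ψ, hψ, ξ, hξ, hne⟩ := hcov
  have hcov' : ∃ χ ∈ c, ∃ θ ∈ mapIrr φ.symm '' e,
      Cfsg.classInner (fun n : ↥(L.subgroupOf H) => (χ : H → ℂ) n)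
        (θ : ↥(L.subgroupOf H) → ℂ) ≠ 0 := by
    refine ⟨ψ, hψ, mapIrr φ.symm ξ, ⟨ξ, hξ, rfl⟩, ?_⟩
    have e1 := classInner_comp_mulEquiv φ (fun l : L => (ψ : H → ℂ) ⟨l, hLH l.2⟩) (ξ : L → ℂ)
    have e2 : (fun n : ↥(L.subgroupOf H) => (ψ : H → ℂ) n)
        = fun n : ↥(L.subgroupOf H) => (ψ : H → ℂ) ⟨(φ n : L), hLH (φ n).2⟩ := by
      funext n
      exact congrArg (ψ : H → ℂ) (Subtype.ext (hφ n).symm)
    have e3 : ((mapIrr φ.symm ξ : Cfsg.IrrCharacter ↥(L.subgroupOf H)) : ↥(L.subgroupOf H) → ℂ)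
        = fun n => (ξ : L → ℂ) (φ n) := by
      funext n
      rw [mapIrr_apply, MulEquiv.symm_symm]
    rw [e2, e3, e1]
    exact hne
  obtain ⟨P', hP'c, -, hP'b⟩ := knorr_exists hM (L.subgroupOf H) hN' _
    (isPBlock_mapIrr_image φ.symm he) c hc hcov'
  refine ⟨P'.map H.subtype, ?_, ?_, ?_⟩
  · rintro x ⟨y, -, rfl⟩
    exact y.2
  · have : (P'.map H.subtype).subgroupOf H = P' := by
      ext y
      rw [Subgroup.mem_subgroupOf]
      constructor
      · rintro ⟨z, hz, hzy⟩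
        have : z = y := Subtype.ext hzy
        rw [← this]
        exact hz
      · intro hy
        exact ⟨y, hy, rfl⟩
    rw [this]
    exact hP'c
  · have h1 := IsDefectGroup.mapIrr (p := p) (M := M) φ hP'b
    rw [mapIrr_symm_symm_image] at h1
    have h2 : ((P' ⊓ L.subgroupOf H).subgroupOf (L.subgroupOf H)).map φ.toMonoidHom
        = (P'.map H.subtype ⊓ L).subgroupOf L := by
      ext l
      constructor
      · rintro ⟨a, ha, rfl⟩
        rw [SetLike.mem_coe, Subgroup.mem_subgroupOf] at ha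
        rw [Subgroup.mem_subgroupOf]
        refine ⟨⟨(a : H), ha.1, ?_⟩, (φ a).2⟩
        exact (hφ a).symm
      · intro hl
        rw [Subgroup.mem_subgroupOf] at hl
        obtain ⟨⟨y, hy, hyl⟩, -⟩ := hl
        have hyL : y ∈ L.subgroupOf H := by
          rw [Subgroup.mem_subgroupOf]
          have : ((y : H) : G) = (l : G) := hyl
          rw [this]
          exact l.2
        refine ⟨⟨y, hyL⟩, ?_, ?_⟩
        · rw [SetLike.mem_coe, Subgroup.mem_subgroupOf]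
          exact ⟨hy, hyL⟩
        · apply Subtype.ext
          have := hφ ⟨y, hyL⟩
          rw [MulEquiv.coe_toMonoidHom, this]
          exact hyl
    rw [h2] at h1
    exact h1

end knrel

end Cfsg.Agent.Lib.Helper6
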