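import Mathlib
import Cfsg.Prelude.Def_Blocks
import Cfsg.Prelude.Def_BlockLocal
import Cfsg.Agent.Lib.Helper6.HKCover
import Cfsg.Agent.Lib.Helper6.HKFMI
import Cfsg.Agent.Lib.Helper6.HKAux
import Cfsg.Agent.Lib.Helper6.BlkOrthFull
import Cfsg.Agent.S0919
import Cfsg.Agent.S4438

set_option autoImplicit false
set_option linter.unusedSectionVars false
open Cfsg

namespace Cfsg.Agent.Lib.Helper6

open scoped ComplexConjugate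

section hkmain

variable {G : Type*} [Group G] [Fintype G] [DecidableEq G]
variable {p : ℕ} [Fact p.Prime] {M : Ideal Cfsg.AlgInt}

/-- Harris–Knörr, part 1: a block of `H = N_G(Q)` covering `e` induces a block covering `d` -/
theorem hk_part1 (hM : Cfsg.IsPModular p M) (N : Subgroup G) [Fintype N] [hN : N.Normal]
    (Q : Subgroup G) (hQ : IsPGroup p Q) (H : Subgroup G) [Fintype H]
    (hH : ∀ x : G, x ∈ H ↔ x ∈ Subgroup.normalizer (Q : Set G)) [Fintype ↥(H ⊓ N)]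
    (d : Set (Cfsg.IrrCharacter N)) (e : Set (Cfsg.IrrCharacter ↥(H ⊓ N)))
    (hed : Cfsg.IsInducedBlockIn M N (H ⊓ N) e d)
    (c : Set (Cfsg.IrrCharacter H)) (hc : Cfsg.IsPBlock M c)
    (hcov : ∃ ψ ∈ c, ∃ ξ ∈ e, Cfsg.classInner
      (fun l : ↥(H ⊓ N) => (ψ : H → ℂ) ⟨l, l.2.1⟩) (ξ : ↥(H ⊓ N) → ℂ) ≠ 0) :
    ∃! B : Set (Cfsg.IrrCharacter G), Cfsg.IsInducedBlock M H c B ∧
      ∃ χ ∈ B, ∃ θ ∈ d, Cfsg.classInner (fun n : N => (χ : G → ℂ) n) (θ : N → ℂ) ≠ 0 := by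
  classical
  have hQH : Q ≤ H := fun x hx => (hH x).mpr (Subgroup.le_normalizer hx)
  have hCH : Subgroup.centralizer (Q : Set G) ≤ H :=
    fun x hx => (hH x).mpr (Subgroup.centralizer_le_normalizer _ hx)
  have hHN : H ≤ Subgroup.normalizer (Q : Set G) := fun x hx => (hH x).mp hx
  obtain ⟨B, hB⟩ := Cfsg.Agent.S0919.result p M hM Q H hQ hQH hCH hHN c hc
  obtain ⟨χ₀, hBχ⟩ := hB.2.1
  have hχ₀ : χ₀ ∈ B := by rw [hBχ]; exact sameBlock_refl hM _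
  obtain ⟨ψ, hψ, ξ, hξ, hne⟩ := hcov
  obtain ⟨θ, hθ, hθne⟩ := induced_covers hM N H hB hed ψ hψ ξ hξ hne χ₀ hχ₀
  refine ⟨B, ⟨hB, χ₀, hχ₀, θ, hθ, hθne⟩, ?_⟩
  rintro B' ⟨hB', -⟩
  exact IsInducedBlock.unique H hM hB' hB

/-- a block of `H = N_G(Q)` covering `e` has a defect group `P` with `P ∩ N = Q` -/
theorem hk_defect (hM : Cfsg.IsPModular p M) (N : Subgroup G) [Fintype N] [hN : N.Normal]
    (Q : Subgroup G) (hQN : Q ≤ N) (H : Subgroup G) [Fintype H]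
    (hH : ∀ x : G, x ∈ H ↔ x ∈ Subgroup.normalizer (Q : Set G)) [Fintype ↥(H ⊓ N)]
    (e : Set (Cfsg.IrrCharacter ↥(H ⊓ N))) (he : Cfsg.IsPBlock M e)
    (heQ : Cfsg.IsDefectGroup p M e (Q.subgroupOf (H ⊓ N)))
    (c : Set (Cfsg.IrrCharacter H)) (hc : Cfsg.IsPBlock M c)
    (hcov : ∃ ψ ∈ c, ∃ ξ ∈ e, Cfsg.classInner
      (fun l : ↥(H ⊓ N) => (ψ : H → ℂ) ⟨l, l.2.1⟩) (ξ : ↥(H ⊓ N) → ℂ) ≠ 0) :
    ∃ P : Subgroup G, P ≤ H ∧ Cfsg.IsDefectGroup p M c (P.subgroupOf H) ∧ P ⊓ N = Q := by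
  classical
  have hQH : Q ≤ H := fun x hx => (hH x).mpr (Subgroup.le_normalizer hx)
  have hLn : ∀ h ∈ H, ∀ l ∈ H ⊓ N, h * l * h⁻¹ ∈ H ⊓ N := by
    intro h hh l hl
    exact ⟨H.mul_mem (H.mul_mem hh hl.1) (H.inv_mem hh), hN.conj_mem _ hl.2 h⟩
  obtain ⟨P, hPH, hPc, hPe⟩ := knorr_rel hM H (H ⊓ N) inf_le_left hLn c hc e he hcov
  refine ⟨P, hPH, hPc, ?_⟩
  obtain ⟨ξ₀, rfl⟩ := he
  obtain ⟨x, hx⟩ := isDefectGroup_conj hM ξ₀ _ _ heQ hPe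
  have hxn : ((x : ↥(H ⊓ N)) : G) ∈ Subgroup.normalizer (Q : Set G) := (hH _).mp x.2.1
  rw [subgroupOf_map_conj, map_conj_eq_of_mem_normalizer_hk Q _ hxn] at hx
  ext y
  constructor
  · rintro ⟨hyP, hyN⟩
    have hyL : y ∈ H ⊓ N := ⟨hPH hyP, hyN⟩
    have h1 : (⟨y, hyL⟩ : ↥(H ⊓ N)) ∈ (P ⊓ (H ⊓ N)).subgroupOf (H ⊓ N) := by
      rw [Subgroup.mem_subgroupOf]
      exact ⟨hyP, hyL⟩
    rw [hx, Subgroup.mem_subgroupOf] at h1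
    exact h1
  · intro hy
    have hyL : y ∈ H ⊓ N := ⟨hQH hy, hQN hy⟩
    have h1 : (⟨y, hyL⟩ : ↥(H ⊓ N)) ∈ Q.subgroupOf (H ⊓ N) := by
      rw [Subgroup.mem_subgroupOf]
      exact hy
    rw [← hx, Subgroup.mem_subgroupOf] at h1
    exact ⟨h1.1, hyL.2⟩

theorem isPGroup_of_subgroupOf {P H : Subgroup G} (hPH : P ≤ H)
    (h : IsPGroup p (P.subgroupOf H)) : IsPGroup p P :=
  h.of_equiv (Subgroup.subgroupOfEquivOfLe hPH)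

/-- Harris–Knörr, injectivity -/
theorem hk_inj (hM : Cfsg.IsPModular p M) (N : Subgroup G) [Fintype N] [hN : N.Normal]
    (Q : Subgroup G) (hQN : Q ≤ N) (H : Subgroup G) [Fintype H]
    (hH : ∀ x : G, x ∈ H ↔ x ∈ Subgroup.normalizer (Q : Set G)) [Fintype ↥(H ⊓ N)]
    (e : Set (Cfsg.IrrCharacter ↥(H ⊓ N))) (he : Cfsg.IsPBlock M e)
    (heQ : Cfsg.IsDefectGroup p M e (Q.subgroupOf (H ⊓ N)))
    (B : Set (Cfsg.IrrCharacter G))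
    (c₁ c₂ : Set (Cfsg.IrrCharacter H)) (hc₁ : Cfsg.IsPBlock M c₁) (hc₂ : Cfsg.IsPBlock M c₂)
    (hcov₁ : ∃ ψ ∈ c₁, ∃ ξ ∈ e, Cfsg.classInner
      (fun l : ↥(H ⊓ N) => (ψ : H → ℂ) ⟨l, l.2.1⟩) (ξ : ↥(H ⊓ N) → ℂ) ≠ 0)
    (hcov₂ : ∃ ψ ∈ c₂, ∃ ξ ∈ e, Cfsg.classInner
      (fun l : ↥(H ⊓ N) => (ψ : H → ℂ) ⟨l, l.2.1⟩) (ξ : ↥(H ⊓ N) → ℂ) ≠ 0)
    (hind₁ : Cfsg.IsInducedBlock M H c₁ B) (hind₂ : Cfsg.IsInducedBlock M H c₂ B) :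
    c₁ = c₂ := by
  classical
  obtain ⟨P₁, hP₁H, hD₁, hP₁N⟩ := hk_defect hM N Q hQN H hH e he heQ c₁ hc₁ hcov₁
  obtain ⟨P₂, hP₂H, hD₂, hP₂N⟩ := hk_defect hM N Q hQN H hH e he heQ c₂ hc₂ hcov₂
  have hP₁ : IsPGroup p P₁ := isPGroup_of_subgroupOf hP₁H (IsDefectGroup.isPGroup' hD₁)
  have hP₂ : IsPGroup p P₂ := isPGroup_of_subgroupOf hP₂H (IsDefectGroup.isPGroup' hD₂)
  have hN₁ : Subgroup.normalizer (P₁ : Set G) ≤ H := by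
    intro x hx
    rw [hH, ← hP₁N]
    exact normalizer_le_normalizer_inf_normal N P₁ hx
  have hN₂ : Subgroup.normalizer (P₂ : Set G) ≤ H := by
    intro x hx
    rw [hH, ← hP₂N]
    exact normalizer_le_normalizer_inf_normal N P₂ hx
  obtain ⟨B₁, -, hB₁D, hB₁⟩ := fmi_induced hM P₁ H hP₁ hN₁ c₁ hc₁ hD₁
  obtain ⟨B₂, -, hB₂D, hB₂⟩ := fmi_induced hM P₂ H hP₂ hN₂ c₂ hc₂ hD₂
  have e1 : B₁ = B := IsInducedBlock.unique H hM hB₁ hind₁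
  have e2 : B₂ = B := IsInducedBlock.unique H hM hB₂ hind₂
  rw [e1] at hB₁D
  rw [e2] at hB₂D
  obtain ⟨χ₀, hBχ⟩ := hind₁.2.1
  rw [hBχ] at hB₁D hB₂D
  obtain ⟨g, hg⟩ := isDefectGroup_conj hM χ₀ P₁ P₂ hB₁D hB₂D
  have hgH : g ∈ H := by
    rw [hH]
    apply mem_normalizer_of_map_conj_eq_hk
    rw [← hP₁N, ← map_conj_inf_normal, ← hg, hP₂N, hP₁N]
  obtain ⟨ψ₂, hc₂ψ⟩ := hc₂
  rw [hc₂ψ] at hD₂
  have h3 := IsDefectGroup.map_conj hM ψ₂ _ hD₂ (⟨g, hgH⟩ : H)⁻¹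
  rw [subgroupOf_map_conj] at h3
  have h4 : P₂.map (MulAut.conj (((⟨g, hgH⟩ : H)⁻¹ : H) : G)).toMonoidHom = P₁ := by
    rw [hg, Subgroup.map_map]
    have : (MulAut.conj (((⟨g, hgH⟩ : H)⁻¹ : H) : G)).toMonoidHom.comp
        (MulAut.conj g).toMonoidHom = MonoidHom.id G := by
      ext z
      simp [mul_assoc]
    rw [this, Subgroup.map_id]
  rw [h4, ← hc₂ψ] at h3
  exact fmi_unique hM P₁ H hP₁ hN₁ B c₁ c₂ hc₁ ⟨ψ₂, hc₂ψ⟩ hD₁ h3 hind₁ hind₂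

end hkmain

end Cfsg.Agent.Lib.Helper6
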