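import Mathlib
import Cfsg.Prelude.Def_Blocks
import Cfsg.Prelude.Def_BlockLocal
import Cfsg.Agent.Lib.Helper6.HKCover
import Cfsg.Agent.Lib.Helper6.HKFMI
import Cfsg.Agent.Lib.Helper6.HKAux
import Cfsg.Agent.Lib.Helper6.BlkOrthFull
import Cfsg.Agent.Lib.Helper6.BrNorm
import Cfsg.Agent.Lib.Helper6.MajorFusion
import Cfsg.Agent.Lib.Helper6.Constituent
import Cfsg.Agent.Lib.Helper6.Mult
import Cfsg.Agent.S0919
import Cfsg.Agent.S4438

set_option autoImplicit false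
set_option linter.unusedSectionVars false
open Cfsg

namespace Cfsg.Agent.Lib.Helper6

open scoped ComplexConjugate

section hksurj

variable {G : Type*} [Group G] [Fintype G] [DecidableEq G]
variable {p : ℕ} [Fact p.Prime] {M : Ideal Cfsg.AlgInt}

/-- Harris–Knörr, surjectivity -/
theorem hk_surj (hM : Cfsg.IsPModular p M) (N : Subgroup G) [Fintype N] [hN : N.Normal]
    (Q : Subgroup G) (hQ : IsPGroup p Q) (hQN : Q ≤ N) (H : Subgroup G) [Fintype H]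
    (hH : ∀ x : G, x ∈ H ↔ x ∈ Subgroup.normalizer (Q : Set G)) [Fintype ↥(H ⊓ N)]
    (d : Set (Cfsg.IrrCharacter N)) (hd : Cfsg.IsPBlock M d)
    (hdQ : Cfsg.IsDefectGroup p M d (Q.subgroupOf N))
    (e : Set (Cfsg.IrrCharacter ↥(H ⊓ N)))
    (hed : Cfsg.IsInducedBlockIn M N (H ⊓ N) e d)
    (B : Set (Cfsg.IrrCharacter G)) (hB : Cfsg.IsPBlock M B)
    (hcov : ∃ χ ∈ B, ∃ θ ∈ d, Cfsg.classInner (fun n : N => (χ : G → ℂ) n) (θ : N → ℂ) ≠ 0) :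
    ∃ c : Set (Cfsg.IrrCharacter H), Cfsg.IsPBlock M c ∧
      (∃ ψ ∈ c, ∃ ξ ∈ e, Cfsg.classInner
        (fun l : ↥(H ⊓ N) => (ψ : H → ℂ) ⟨l, l.2.1⟩) (ξ : ↥(H ⊓ N) → ℂ) ≠ 0) ∧
      Cfsg.IsInducedBlock M H c B := by
  classical
  have hQH : Q ≤ H := fun x hx => (hH x).mpr (Subgroup.le_normalizer hx)
  have hK : ∀ x : G, x ∈ H ⊓ N ↔ x ∈ N ∧ x ∈ Subgroup.normalizer (Q : Set G) :=
    fun x => ⟨fun h => ⟨h.2, (hH x).mp h.1⟩, fun h => ⟨(hH x).mpr h.2, h.1⟩⟩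
  have hLn : ∀ h ∈ H, ∀ l ∈ H ⊓ N, h * l * h⁻¹ ∈ H ⊓ N := by
    intro h hh l hl
    exact ⟨H.mul_mem (H.mul_mem hh hl.1) (H.inv_mem hh), hN.conj_mem _ hl.2 h⟩
  -- a defect group `P` of `B` with `P ∩ N = Q`
  obtain ⟨P, hPB, hPN⟩ := Cfsg.Agent.S4438.result p M hM N d hd Q hQN hdQ B hB hcov
  have hPp : IsPGroup p P := IsDefectGroup.isPGroup' hPB
  have hNP : Subgroup.normalizer (P : Set G) ≤ H := by
    intro x hx
    rw [hH, ← hPN]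
    exact normalizer_le_normalizer_inf_normal N P hx
  have hPH : P ≤ H := Subgroup.le_normalizer.trans hNP
  obtain ⟨c, hc, hcD, hcB⟩ := fmi_exists hM P H hPp hNP B hB hPB
  refine ⟨c, hc, ?_, hcB⟩
  obtain ⟨ψ₀, hcψ⟩ := hc
  have hψ₀ : ψ₀ ∈ c := by rw [hcψ]; exact sameBlock_refl hM _
  -- a constituent of the restriction
  have hchar : Cfsg.IsCharacter ↥(H ⊓ N) (fun l : ↥(H ⊓ N) => (ψ₀ : H → ℂ) ⟨l, l.2.1⟩) :=
    IsCharacter.comp (Subgroup.inclusion inf_le_left) (IsIrrCharacter.isCharacter ψ₀.2)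
  obtain ⟨ξ₂, hξ₂⟩ := IsCharacter.exists_constituent hchar
    (IsIrrCharacter.apply_one_ne_zero ψ₀.2)
  have hcov₂ : ∃ ψ ∈ c, ∃ ξ ∈ Cfsg.blockOf M (ξ₂ : ↥(H ⊓ N) → ℂ), Cfsg.classInner
      (fun l : ↥(H ⊓ N) => (ψ : H → ℂ) ⟨l, l.2.1⟩) (ξ : ↥(H ⊓ N) → ℂ) ≠ 0 :=
    ⟨ψ₀, hψ₀, ξ₂, sameBlock_refl hM _, hξ₂⟩
  obtain ⟨P₂, hP₂H, hP₂c, hP₂e⟩ := knorr_rel hM H (H ⊓ N) inf_le_left hLn c ⟨ψ₀, hcψ⟩
    (Cfsg.blockOf M (ξ₂ : ↥(H ⊓ N) → ℂ)) ⟨ξ₂, rfl⟩ hcov₂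
  rw [hcψ] at hcD hP₂c
  obtain ⟨x, hx⟩ := isDefectGroup_conj hM ψ₀ _ _ hcD hP₂c
  rw [subgroupOf_map_conj] at hx
  have hxn : ((x : H) : G) ∈ Subgroup.normalizer (Q : Set G) := (hH _).mp x.2
  have hP₂L : P₂ ⊓ (H ⊓ N) = Q := by
    have h1 : P₂ ⊓ (H ⊓ N) = (P.map (MulAut.conj (x : G)).toMonoidHom) ⊓ N := by
      ext y
      constructor
      · rintro ⟨hyP, hyH, hyN⟩
        have h2 : (⟨y, hyH⟩ : H) ∈ P₂.subgroupOf H := by
          rw [Subgroup.mem_subgroupOf]; exact hyP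
        rw [hx, Subgroup.mem_subgroupOf] at h2
        exact ⟨h2, hyN⟩
      · rintro ⟨hyP, hyN⟩
        have hyH : y ∈ H := by
          obtain ⟨z, hz, rfl⟩ := hyP
          simp only [MulEquiv.coe_toMonoidHom, MulAut.conj_apply]
          exact H.mul_mem (H.mul_mem x.2 (hPH hz)) (H.inv_mem x.2)
        have h2 : (⟨y, hyH⟩ : H) ∈ (P.map (MulAut.conj (x : G)).toMonoidHom).subgroupOf H := by
          rw [Subgroup.mem_subgroupOf]; exact hyP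
        rw [← hx, Subgroup.mem_subgroupOf] at h2
        exact ⟨h2, hyH, hyN⟩
    rw [h1, map_conj_inf_normal, hPN, map_conj_eq_of_mem_normalizer_hk Q _ hxn]
  rw [hP₂L] at hP₂e
  -- the induced block `d₂` of `N`
  obtain ⟨d₂, hd₂, hd₂Q, hind₂⟩ := relFM_induced hM Q N (H ⊓ N) hQ hQN hK
    (Cfsg.blockOf M (ξ₂ : ↥(H ⊓ N) → ℂ)) ⟨ξ₂, rfl⟩ hP₂e
  obtain ⟨χ, hχ, θ, hθ, hθne⟩ := hcov
  obtain ⟨θ₂, hθ₂, hθ₂ne⟩ := induced_covers hM N H hcB hind₂ ψ₀ hψ₀ ξ₂ (sameBlock_refl hM _)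
    hξ₂ χ hχ
  obtain ⟨g, hg⟩ := exists_conjFun_eq_of_constituents N hN χ.2 θ.2 θ₂.2 hθne hθ₂ne
  have hdθ : d = Cfsg.blockOf M (θ : N → ℂ) := by
    obtain ⟨θ₀, rfl⟩ := hd
    exact blockOf_eq_of_mem hM hθ
  have hd₂θ : d₂ = Cfsg.blockOf M (θ₂ : N → ℂ) := by
    obtain ⟨θ₀, rfl⟩ := hd₂
    exact blockOf_eq_of_mem hM hθ₂
  -- conjugation by `g` on `N`
  have hconjN : ∀ t : G, ∀ y : G, y ∈ N ↔ t⁻¹ * y * t ∈ N := by
    intro t y
    constructor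
    · intro hy
      have := hN.conj_mem y hy t⁻¹
      simpa using this
    · intro hy
      have := hN.conj_mem _ hy t
      simpa [mul_assoc] using this
  obtain ⟨φg, hφgdef⟩ : ∃ φ : N ≃* N, φ = conjSubEquiv N N g (hconjN g) := ⟨_, rfl⟩
  have hφg : ∀ n : N, ((φg n : N) : G) = g * (n : G) * g⁻¹ := by
    intro n; rw [hφgdef]; rfl
  have h1 : mapIrr φg θ₂ = θ := by
    apply Subtype.ext
    funext m
    rw [mapIrr_apply, hg, conjFun_apply]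
    apply congrArg
    apply Subtype.ext
    have := hφg (φg.symm m)
    rw [MulEquiv.apply_symm_apply] at this
    exact this.symm
  have hdimg : mapIrr φg '' d₂ = d := by
    rw [hd₂θ, mapIrr_image_blockOf, h1, hdθ]
  have hD1 : Cfsg.IsDefectGroup p M d ((Q.subgroupOf N).map φg.toMonoidHom) := by
    have := IsDefectGroup.mapIrr (p := p) (M := M) φg hd₂Q
    rw [hdimg] at this
    exact this
  rw [hdθ] at hD1 hdQ
  obtain ⟨n, hn⟩ := isDefectGroup_conj hM θ _ _ hD1 hdQ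
  have hyQ : ((n : N) : G) * g ∈ Subgroup.normalizer (Q : Set G) := by
    apply mem_normalizer_of_map_conj_eq_hk
    ext z
    constructor
    · rintro ⟨q, hq, rfl⟩
      have hq' : (⟨q, hQN hq⟩ : N) ∈ Q.subgroupOf N := by
        rw [Subgroup.mem_subgroupOf]; exact hq
      have h2 : (MulAut.conj n) (φg ⟨q, hQN hq⟩) ∈ ((Q.subgroupOf N).map φg.toMonoidHom).map
          (MulAut.conj n).toMonoidHom := ⟨_, ⟨_, hq', rfl⟩, rfl⟩
      rw [← hn, Subgroup.mem_subgroupOf] at h2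
      have h3 : (((MulAut.conj n) (φg ⟨q, hQN hq⟩) : N) : G)
          = (MulAut.conj ((n : G) * g)).toMonoidHom q := by
        simp only [MulAut.conj_apply, Subgroup.coe_mul, Subgroup.coe_inv, hφg,
          MulEquiv.coe_toMonoidHom]
        group
      rw [h3] at h2
      exact h2
    · intro hz
      have hz' : (⟨z, hQN hz⟩ : N) ∈ Q.subgroupOf N := by
        rw [Subgroup.mem_subgroupOf]; exact hz
      rw [hn] at hz'
      obtain ⟨w, ⟨q, hq, rfl⟩, hwz⟩ := hz'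
      rw [SetLike.mem_coe, Subgroup.mem_subgroupOf] at hq
      refine ⟨(q : G), hq, ?_⟩
      have := congrArg (fun t : N => (t : G)) hwz
      simp only [MulEquiv.coe_toMonoidHom, MulAut.conj_apply, Subgroup.coe_mul,
        Subgroup.coe_inv, hφg] at this
      rw [← this]
      simp only [MulEquiv.coe_toMonoidHom, MulAut.conj_apply]
      group
  have hyH : ((n : N) : G) * g ∈ H := (hH _).mpr hyQ
  obtain ⟨y, hydef⟩ : ∃ y : G, y = (n : G) * g := ⟨_, rfl⟩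
  rw [← hydef] at hyQ hyH
  have hconjL : ∀ z : G, z ∈ H ⊓ N ↔ y⁻¹ * z * y ∈ H ⊓ N := by
    intro z
    constructor
    · intro hz
      have := hLn y⁻¹ (H.inv_mem hyH) z hz
      simpa using this
    · intro hz
      have := hLn y hyH _ hz
      simpa [mul_assoc] using this
  obtain ⟨φN, hφNdef⟩ : ∃ φ : N ≃* N, φ = conjSubEquiv N N y (hconjN y) := ⟨_, rfl⟩
  have hφN : ∀ m : N, ((φN m : N) : G) = y * (m : G) * y⁻¹ := by
    intro m; rw [hφNdef]; rfl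
  obtain ⟨φL, hφLdef⟩ : ∃ φ : ↥(H ⊓ N) ≃* ↥(H ⊓ N),
      φ = conjSubEquiv (H ⊓ N) (H ⊓ N) y hconjL := ⟨_, rfl⟩
  have hφL : ∀ l : ↥(H ⊓ N), ((φL l : ↥(H ⊓ N)) : G) = y * (l : G) * y⁻¹ := by
    intro l; rw [hφLdef]; rfl
  have hφLs : ∀ l : ↥(H ⊓ N), ((φL.symm l : ↥(H ⊓ N)) : G) = y⁻¹ * (l : G) * y := by
    intro l; rw [hφLdef]; rfl
  have h5 : mapIrr φN θ₂ = θ := by
    apply Subtype.ext
    funext m
    rw [mapIrr_apply, hg, conjFun_apply]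
    have hcf := IsIrrCharacter.isClassFunction θ.2 m (n⁻¹)
    rw [← hcf]
    apply congrArg
    apply Subtype.ext
    have h6 : ((φN.symm m : N) : G) = y⁻¹ * (m : G) * y := by rw [hφNdef]; rfl
    simp only [Subgroup.coe_mul, Subgroup.coe_inv, h6, hydef]
    group
  have hdimg2 : mapIrr φN '' d₂ = d := by
    rw [hd₂θ, mapIrr_image_blockOf, h5, hdθ]
  have hconj := IsInducedBlockIn.conj (M := M) y N N (H ⊓ N) (H ⊓ N) φN hφN φL hφL hind₂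
  rw [hdimg2] at hconj
  have hD2 : Cfsg.IsDefectGroup p M (mapIrr φL '' Cfsg.blockOf M (ξ₂ : ↥(H ⊓ N) → ℂ))
      (Q.subgroupOf (H ⊓ N)) := by
    have := IsDefectGroup.mapIrr (p := p) (M := M) φL hP₂e
    have h7 : (Q.subgroupOf (H ⊓ N)).map φL.toMonoidHom = Q.subgroupOf (H ⊓ N) := by
      ext l
      constructor
      · rintro ⟨k, hk, rfl⟩
        rw [SetLike.mem_coe, Subgroup.mem_subgroupOf] at hk
        rw [Subgroup.mem_subgroupOf, MulEquiv.coe_toMonoidHom, hφL]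
        exact (Subgroup.mem_normalizer_iff.mp hyQ _).mp hk
      · intro hl
        rw [Subgroup.mem_subgroupOf] at hl
        refine ⟨φL.symm l, ?_, φL.apply_symm_apply l⟩
        rw [SetLike.mem_coe, Subgroup.mem_subgroupOf, hφLs]
        have := (Subgroup.mem_normalizer_iff.mp (Subgroup.inv_mem _ hyQ) _).mp hl
        simpa using this
    rw [h7] at this
    exact this
  have heq := relFM_unique hM Q N (H ⊓ N) hQ hQN hK d _ e hD2 hconj hed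
  refine ⟨ψ₀, hψ₀, mapIrr φL ξ₂, by rw [← heq]; exact ⟨ξ₂, sameBlock_refl hM _, rfl⟩, ?_⟩
  have e1 := classInner_comp_mulEquiv φL.symm
    (fun l : ↥(H ⊓ N) => (ψ₀ : H → ℂ) ⟨l, l.2.1⟩) (ξ₂ : ↥(H ⊓ N) → ℂ)
  have e2 : (fun l : ↥(H ⊓ N) =>
        (ψ₀ : H → ℂ) ⟨(φL.symm l : ↥(H ⊓ N)), (φL.symm l).2.1⟩)
      = fun l : ↥(H ⊓ N) => (ψ₀ : H → ℂ) ⟨l, l.2.1⟩ := by
    funext l
    have hcf := IsIrrCharacter.isClassFunction ψ₀.2 ⟨l, l.2.1⟩ (⟨y, hyH⟩ : H)⁻¹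
    rw [← hcf]
    apply congrArg
    apply Subtype.ext
    simp only [Subgroup.coe_mul, Subgroup.coe_inv, hφLs, inv_inv]
  have e3 : ((mapIrr φL ξ₂ : Cfsg.IrrCharacter ↥(H ⊓ N)) : ↥(H ⊓ N) → ℂ)
      = fun l => (ξ₂ : ↥(H ⊓ N) → ℂ) (φL.symm l) := by
    funext l
    rw [mapIrr_apply]
  rw [e3, ← e2, e1]
  exact hξ₂

end hksurj

end Cfsg.Agent.Lib.Helper6
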