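import Mathlib
import Cfsg.Prelude.Def_Blocks
import Cfsg.Agent.Lib.Helper6.BLTwo

/-! # Abelian Sylow 2-subgroups with automizer of order three: a nontrivial linear character -/

set_option autoImplicit false
set_option linter.unusedSectionVars false
open Cfsg

namespace Cfsg.Agent.Lib.Helper6

open scoped ComplexConjugate

section hcy

variable {G : Type*} [Group G] [Fintype G] [DecidableEq G]
variable {p : ℕ} {M : Ideal Cfsg.AlgInt}
variable {P : Sylow p G} [Fintype ↥(P : Subgroup G)] [Fintype (↥(P : Subgroup G) →* ℂˣ)]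
    [Fintype (Cfsg.IrrCharacter G)] [DecidableEq (Cfsg.IrrCharacter G)] {m : ℕ}

set_option maxHeartbeats 1000000 in
/-- for `p = 2` some nonprincipal character of the principal block is linear -/
theorem BLData.exists_linear_two [Fact p.Prime] (D : BLData M P 3) (hd : D.d = 0)
    (hM : Cfsg.IsPModular p M) (hab : IsMulCommutative P)
    (hfrob : ∀ y : G, y ∈ (P : Subgroup G) → y ≠ 1 →
      Subgroup.centralizer ({y} : Set G) ⊓ Subgroup.normalizer ((P : Subgroup G) : Set G)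
        = Subgroup.centralizer ((P : Subgroup G) : Set G))
    (hCN : (Subgroup.centralizer ((P : Subgroup G) : Set G)).relIndex
      (Subgroup.normalizer ((P : Subgroup G) : Set G)) = 3)
    (hm2 : 3 + 1 < Nat.card P) (hp2 : p = 2) (y₀ : G) (hg₀ : y₀ ∈ (P : Subgroup G))
    (hy₀1 : y₀ ≠ 1) (hy₀2 : y₀ * y₀ = 1) :
    ∃ χ : Cfsg.IrrCharacter G, χ ≠ oneIrr G ∧ Cfsg.charDegree (χ : G → ℂ) = 1 := by
  classical
  by_contra hnolin
  push Not at hnolin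
  have hp : p.Prime := Fact.out
  obtain ⟨hX3, hXsign⟩ := D.three_X hd hM hab hfrob
  have h1X := D.one_mem_X hM
  have hw1 := (D.one hM).1
  have hX'card : (D.X.erase (oneIrr G)).card = 2 := by
    rw [Finset.card_erase_of_mem h1X, hX3]
  obtain ⟨χ₂, χ₃, hne, hX'⟩ := Finset.card_eq_two.mp hX'card
  have hχ₂X' : χ₂ ∈ D.X.erase (oneIrr G) := by rw [hX']; simp
  have hχ₃X' : χ₃ ∈ D.X.erase (oneIrr G) := by rw [hX']; simp
  have hχ₂X := Finset.mem_of_mem_erase hχ₂X'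
  have hχ₃X := Finset.mem_of_mem_erase hχ₃X'
  have hχ₂1 : χ₂ ≠ oneIrr G := Finset.ne_of_mem_erase hχ₂X'
  have hχ₃1 : χ₃ ≠ oneIrr G := Finset.ne_of_mem_erase hχ₃X'
  have hsumX : ∀ g : Cfsg.IrrCharacter G → ℂ,
      ∑ χ ∈ D.X, g χ = g (oneIrr G) + g χ₂ + g χ₃ := by
    intro g
    rw [← Finset.add_sum_erase D.X g h1X, hX', Finset.sum_pair hne]
    ring
  obtain ⟨ψ₀, _, hψ₀, _, _⟩ := D.hclasses
  obtain ⟨η₀, hη₀def⟩ : ∃ η₀, η₀ = D.Θ ψ₀ := ⟨_, rfl⟩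
  have hη₀ : η₀ ∈ D.Y := (D.mem_Y _).mpr ⟨ψ₀, hψ₀, hη₀def.symm⟩
  have hf₂ := IsCharacter.apply_one_eq_charDegree (IsIrrCharacter.isCharacter χ₂.2)
  have hf₃ := IsCharacter.apply_one_eq_charDegree (IsIrrCharacter.isCharacter χ₃.2)
  have hf := IsCharacter.apply_one_eq_charDegree (IsIrrCharacter.isCharacter η₀.2)
  have hf₂pos := IsIrrCharacter.charDegree_pos χ₂.2
  have hf₃pos := IsIrrCharacter.charDegree_pos χ₃.2
  have hfpos := IsIrrCharacter.charDegree_pos η₀.2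
  have h1reg : ¬ p ∣ orderOf (1 : G) := by rw [orderOf_one]; exact hp.not_dvd_one
  have hone : ∀ g : G, ((oneIrr G : Cfsg.IrrCharacter G) : G → ℂ) g = 1 := fun _ => rfl
  -- the first relation
  have E1 : 1 + D.w χ₂ * (Cfsg.charDegree (χ₂ : G → ℂ) : ℤ)
      + D.w χ₃ * (Cfsg.charDegree (χ₃ : G → ℂ) : ℤ)
      - D.δ * (Cfsg.charDegree (η₀ : G → ℂ) : ℤ) = 0 := by
    have h := D.pRegular_rel η₀ hη₀ 1 h1reg
    rw [hd, hsumX, hw1, hone, hf₂, hf₃, hf] at h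
    have : ((1 + D.w χ₂ * (Cfsg.charDegree (χ₂ : G → ℂ) : ℤ)
      + D.w χ₃ * (Cfsg.charDegree (χ₃ : G → ℂ) : ℤ)
      - D.δ * (Cfsg.charDegree (η₀ : G → ℂ) : ℤ) : ℤ) : ℂ) = 0 := by
      push_cast
      push_cast at h
      linear_combination h
    exact_mod_cast this
  -- an element of `P` not conjugate to the involution
  obtain ⟨y, hy1, hync⟩ : ∃ y : ↥(P : Subgroup G), y ≠ 1 ∧ ¬ IsConj y₀ (y : G) := by
    by_contra hall
    push Not at hall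
    have hc := card_conj_in_sylow P hab hfrob y₀ hg₀ hy₀1
    rw [hCN, Nat.card_eq_fintype_card, Fintype.card_subtype] at hc
    have h2 : Finset.univ.filter (fun w : ↥(P : Subgroup G) => (w : G) ≠ 1 ∧ IsConj y₀ (w : G))
        = Finset.univ.erase 1 := by
      ext w
      simp only [Finset.mem_filter, Finset.mem_univ, true_and, Finset.mem_erase, and_true]
      constructor
      · rintro ⟨h3, _⟩ h4
        apply h3; rw [h4]; rfl
      · intro h3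
        refine ⟨?_, hall w h3⟩
        intro h4
        apply h3
        exact Subtype.ext h4
    rw [h2, Finset.card_erase_of_mem (Finset.mem_univ _), Finset.card_univ,
      ← Nat.card_eq_fintype_card] at hc
    omega
  have hyG : (y : G) ≠ 1 := fun h => hy1 (Subtype.ext h)
  have hx : ∃ k : ℕ, orderOf (y : G) = p ^ k := by
    obtain ⟨k, hk⟩ := (IsPGroup.iff_orderOf.mp P.2) y
    exact ⟨k, by rw [← hk, Subgroup.orderOf_coe]⟩
  have hz : Cfsg.IsPPart p (y : G) (y : G) :=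
    ⟨1, mul_one _, Commute.one_right _, hx, h1reg⟩
  have hno : ∀ c : G, Cfsg.IsPPart p c (y : G) → ∀ g h : G,
      g * y₀ * g⁻¹ * (h * y₀ * h⁻¹) ≠ c :=
    fun c hc g h => no_product_of_involutions_two P hab hfrob hCN hp2 y₀ hg₀ hy₀1 hy₀2
      (y : G) y.2 hyG hync c hc g h
  have E3c := block_sum_classMult_eq_zero hM y₀ y₀ (y : G) hz hno (oneIrr G)
  rw [← prinFinset_eq_filter_blockOf, ← Finset.sum_sdiff D.Y_subset] at E3c
  obtain ⟨y₀', hy₀'⟩ : ∃ y₀' : ↥(P : Subgroup G), (y₀' : G) = y₀ := ⟨⟨y₀, hg₀⟩, rfl⟩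
  have hy₀'1 : y₀' ≠ 1 := by
    intro h; apply hy₀1; rw [← hy₀', h]; rfl
  have hw₂sq : (D.w χ₂ : ℂ) * (D.w χ₂ : ℂ) = 1 := by
    rcases hXsign χ₂ hχ₂X with h | h <;> rw [h] <;> norm_num
  have hw₃sq : (D.w χ₃ : ℂ) * (D.w χ₃ : ℂ) = 1 := by
    rcases hXsign χ₃ hχ₃X with h | h <;> rw [h] <;> norm_num
  have hXpart : ∑ χ ∈ prinFinset M G \ D.Y,
      ((χ : G → ℂ) y₀ * (χ : G → ℂ) y₀ / (χ : G → ℂ) 1) * conj ((χ : G → ℂ) (y : G))
      = 1 + (D.w χ₂ : ℂ) / (Cfsg.charDegree (χ₂ : G → ℂ) : ℂ)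
        + (D.w χ₃ : ℂ) / (Cfsg.charDegree (χ₃ : G → ℂ) : ℂ) := by
    change ∑ χ ∈ D.X, _ = _
    rw [hsumX]
    have e1 : (((oneIrr G : Cfsg.IrrCharacter G) : G → ℂ) y₀
        * ((oneIrr G : Cfsg.IrrCharacter G) : G → ℂ) y₀
        / ((oneIrr G : Cfsg.IrrCharacter G) : G → ℂ) 1)
        * conj (((oneIrr G : Cfsg.IrrCharacter G) : G → ℂ) (y : G)) = 1 := by
      rw [hone, hone, hone]
      simp
    have e2 : ((χ₂ : G → ℂ) y₀ * (χ₂ : G → ℂ) y₀ / (χ₂ : G → ℂ) 1)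
        * conj ((χ₂ : G → ℂ) (y : G))
        = (D.w χ₂ : ℂ) / (Cfsg.charDegree (χ₂ : G → ℂ) : ℂ) := by
      rw [← hy₀', D.val_X hab χ₂ hχ₂X y₀' hy₀'1, D.val_X hab χ₂ hχ₂X y hy1, hf₂, map_intCast,
        hw₂sq]
      ring
    have e3 : ((χ₃ : G → ℂ) y₀ * (χ₃ : G → ℂ) y₀ / (χ₃ : G → ℂ) 1)
        * conj ((χ₃ : G → ℂ) (y : G))
        = (D.w χ₃ : ℂ) / (Cfsg.charDegree (χ₃ : G → ℂ) : ℂ) := by
      rw [← hy₀', D.val_X hab χ₃ hχ₃X y₀' hy₀'1, D.val_X hab χ₃ hχ₃X y hy1, hf₃, map_intCast,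
        hw₃sq]
      ring
    rw [e1, e2, e3]
  -- the exceptional part
  obtain ⟨S, hSdef⟩ : ∃ S : (↥(P : Subgroup G) →* ℂˣ) → ℂ,
      S = fun μ => ∑ w : ↥(P : Subgroup G),
        if (w : G) ≠ 1 ∧ IsConj y₀ (w : G) then ((μ w : ℂˣ) : ℂ) else 0 := ⟨_, rfl⟩
  have hΘy₀ : ∀ μ : ↥(P : Subgroup G) →* ℂˣ, μ ≠ 1 →
      ((D.Θ μ : Cfsg.IrrCharacter G) : G → ℂ) y₀ = (D.δ : ℂ) * S μ := by
    intro μ hμ
    have h1 := D.val_Y hab μ hμ y₀' hy₀'1
    rw [hd, orbSum_eq_sum_isConj P hab hfrob μ hμ y₀' (by rw [hy₀']; exact hy₀1), hy₀'] at h1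
    rw [h1, hSdef, Int.cast_zero, zero_add]
    beta_reduce
    refine congrArg _ (Finset.sum_congr rfl ?_)
    intro w _
    by_cases h : (w : G) ≠ 1 ∧ IsConj y₀ (w : G)
    · rw [if_pos h, if_pos h]
    · rw [if_neg h, if_neg h]
  have hδδ : (D.δ : ℂ) * (D.δ : ℂ) = 1 := by
    have := D.δ_mul_δ
    exact_mod_cast this
  have hδ0 : (D.δ : ℂ) ≠ 0 := by exact_mod_cast D.δ_ne_zero
  have hterm : ∀ η ∈ D.Y,
      ((η : G → ℂ) y₀ * (η : G → ℂ) y₀ / (η : G → ℂ) 1) * conj ((η : G → ℂ) (y : G))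
      = (D.δ : ℂ) / (Cfsg.charDegree (η₀ : G → ℂ) : ℂ)
        * ∑ μ : ↥(P : Subgroup G) →* ℂˣ,
          if μ ≠ 1 ∧ D.Θ μ = η then S μ * S μ * conj ((μ y : ℂˣ) : ℂ) else 0 := by
    intro η hη
    obtain ⟨ψ, hψ, hψη⟩ := (D.mem_Y η).mp hη
    have hS : ∀ μ : ↥(P : Subgroup G) →* ℂˣ, μ ≠ 1 ∧ D.Θ μ = η → S μ = S ψ := by
      rintro μ ⟨hμ, hμη⟩
      have h1 := hΘy₀ μ hμ
      rw [hμη, ← hψη, hΘy₀ ψ hψ] at h1
      exact (mul_left_cancel₀ hδ0 h1).symm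
    have h2 : ∑ μ : ↥(P : Subgroup G) →* ℂˣ,
          (if μ ≠ 1 ∧ D.Θ μ = η then S μ * S μ * conj ((μ y : ℂˣ) : ℂ) else 0)
        = S ψ * S ψ * ∑ μ : ↥(P : Subgroup G) →* ℂˣ,
          (if μ ≠ 1 ∧ D.Θ μ = η then conj ((μ y : ℂˣ) : ℂ) else 0) := by
      rw [Finset.mul_sum]
      apply Finset.sum_congr rfl
      intro μ _
      split_ifs with h
      · rw [hS μ h]
      · rw [mul_zero]
    have h3 : conj ((η : G → ℂ) (y : G)) = (D.δ : ℂ) * ∑ μ : ↥(P : Subgroup G) →* ℂˣ,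
          (if μ ≠ 1 ∧ D.Θ μ = η then conj ((μ y : ℂˣ) : ℂ) else 0) := by
      rw [D.val hab η (D.Y_subset hη |> mem_prinFinset.mp) y hy1, ← hψη, D.hwd ψ hψ, hd,
        Int.cast_zero, zero_add, map_mul, map_intCast, map_sum]
      congr 1
      apply Finset.sum_congr rfl
      intro μ _
      split_ifs
      · rfl
      · exact map_zero _
    rw [h2, h3]
    generalize (∑ μ : ↥(P : Subgroup G) →* ℂˣ,
          (if μ ≠ 1 ∧ D.Θ μ = η then conj ((μ y : ℂˣ) : ℂ) else 0)) = B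
    rw [D.pRegular_eq η η₀ hη hη₀ 1 h1reg, hf, ← hψη, hΘy₀ ψ hψ]
    linear_combination ((D.δ : ℂ) * S ψ ^ 2 * B / (Cfsg.charDegree (η₀ : G → ℂ) : ℂ)) * hδδ
  have hswap : ∑ η ∈ D.Y, ∑ μ : ↥(P : Subgroup G) →* ℂˣ,
          (if μ ≠ 1 ∧ D.Θ μ = η then S μ * S μ * conj ((μ y : ℂˣ) : ℂ) else 0)
      = ∑ μ : ↥(P : Subgroup G) →* ℂˣ,
          (S μ * S μ * conj ((μ y : ℂˣ) : ℂ)
            - if μ = 1 then S 1 * S 1 * conj (((1 : ↥(P : Subgroup G) →* ℂˣ) y : ℂˣ) : ℂ) else 0) := by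
    rw [Finset.sum_comm]
    apply Finset.sum_congr rfl
    intro μ _
    by_cases hμ : μ = 1
    · rw [if_pos hμ, hμ, sub_self]
      apply Finset.sum_eq_zero
      intro η _
      rw [if_neg]
      intro h
      exact h.1 rfl
    · rw [if_neg hμ, sub_zero]
      have h1 : ∀ η ∈ D.Y, (if μ ≠ 1 ∧ D.Θ μ = η then S μ * S μ * conj ((μ y : ℂˣ) : ℂ) else 0)
          = if D.Θ μ = η then S μ * S μ * conj ((μ y : ℂˣ) : ℂ) else 0 := by
        intro η _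
        apply if_congr _ rfl rfl
        constructor
        · exact fun h => h.2
        · exact fun h => ⟨hμ, h⟩
      rw [Finset.sum_congr rfl h1, Finset.sum_ite_eq, if_pos ((D.mem_Y _).mpr ⟨μ, hμ, rfl⟩)]
  have hS1 : S 1 = 3 := by
    rw [hSdef]
    simp only [MonoidHom.one_apply, Units.val_one]
    rw [Finset.sum_ite, Finset.sum_const_zero, add_zero, Finset.sum_const, nsmul_eq_mul, mul_one]
    have hc := card_conj_in_sylow P hab hfrob y₀ hg₀ hy₀1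
    rw [hCN, Nat.card_eq_fintype_card, Fintype.card_subtype] at hc
    rw [hc]
    norm_num
  have hnoprod : ∀ w w' : ↥(P : Subgroup G),
      ((w : G) ≠ 1 ∧ IsConj y₀ (w : G)) → ((w' : G) ≠ 1 ∧ IsConj y₀ (w' : G)) →
      w * w' * y⁻¹ ≠ 1 := by
    intro w w' hw hw' h
    have h1 : w * w' = y := mul_inv_eq_one.mp h
    have h2 : (w : G) * (w' : G) = (y : G) := by
      rw [← h1]; rfl
    rcases conj_mul_conj_of_involution P hab hfrob hCN y₀ hg₀ hy₀1 hy₀2 (w : G) (w' : G)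
      w.2 w'.2 hw.2 hw'.2 with h3 | h3
    · rw [h2] at h3
      exact hyG h3
    · rw [h2] at h3
      exact hync h3
  have hfull : ∑ μ : ↥(P : Subgroup G) →* ℂˣ, S μ * S μ * conj ((μ y : ℂˣ) : ℂ) = 0 := by
    have h1 : ∀ μ : ↥(P : Subgroup G) →* ℂˣ, S μ * S μ * conj ((μ y : ℂˣ) : ℂ)
        = ∑ w : ↥(P : Subgroup G), ∑ w' : ↥(P : Subgroup G),
          if ((w : G) ≠ 1 ∧ IsConj y₀ (w : G)) ∧ ((w' : G) ≠ 1 ∧ IsConj y₀ (w' : G)) then
            ((μ (w * w' * y⁻¹) : ℂˣ) : ℂ) else 0 := by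
      intro μ
      rw [hSdef]
      simp only
      rw [Finset.sum_mul_sum, Finset.sum_mul]
      apply Finset.sum_congr rfl
      intro w _
      rw [Finset.sum_mul]
      apply Finset.sum_congr rfl
      intro w' _
      rw [hom_conj]
      by_cases hw : ((w : G) ≠ 1 ∧ IsConj y₀ (w : G))
      · by_cases hw' : ((w' : G) ≠ 1 ∧ IsConj y₀ (w' : G))
        · rw [if_pos hw, if_pos hw', if_pos ⟨hw, hw'⟩, map_mul, map_mul, Units.val_mul,
            Units.val_mul]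
        · have hnn : ¬ (((w : G) ≠ 1 ∧ IsConj y₀ (w : G))
              ∧ ((w' : G) ≠ 1 ∧ IsConj y₀ (w' : G))) := fun h => hw' h.2
          rw [if_neg hw', if_neg hnn, mul_zero, zero_mul]
      · have hnn : ¬ (((w : G) ≠ 1 ∧ IsConj y₀ (w : G))
              ∧ ((w' : G) ≠ 1 ∧ IsConj y₀ (w' : G))) := fun h => hw h.1
        rw [if_neg hw, if_neg hnn, zero_mul, zero_mul]
    rw [Finset.sum_congr rfl (fun μ _ => h1 μ), Finset.sum_comm]
    apply Finset.sum_eq_zero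
    intro w _
    rw [Finset.sum_comm]
    apply Finset.sum_eq_zero
    intro w' _
    by_cases hK : ((w : G) ≠ 1 ∧ IsConj y₀ (w : G)) ∧ ((w' : G) ≠ 1 ∧ IsConj y₀ (w' : G))
    · simp only [if_pos hK]
      rw [sum_homs_apply hab, if_neg (hnoprod w w' hK.1 hK.2)]
    · simp only [if_neg hK]
      exact Finset.sum_const_zero
  have hYpart : ∑ η ∈ D.Y,
      ((η : G → ℂ) y₀ * (η : G → ℂ) y₀ / (η : G → ℂ) 1) * conj ((η : G → ℂ) (y : G))
      = (D.δ : ℂ) / (Cfsg.charDegree (η₀ : G → ℂ) : ℂ) * (-9) := by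
    rw [Finset.sum_congr rfl hterm, ← Finset.mul_sum, hswap, Finset.sum_sub_distrib, hfull,
      Finset.sum_ite_eq' Finset.univ (1 : ↥(P : Subgroup G) →* ℂˣ), if_pos (Finset.mem_univ _),
      hS1]
    simp only [MonoidHom.one_apply, Units.val_one, map_one]
    ring
  rw [hXpart, hYpart] at E3c
  have E3 : (1 : ℚ) + (D.w χ₂ : ℚ) / (Cfsg.charDegree (χ₂ : G → ℂ) : ℚ)
      + (D.w χ₃ : ℚ) / (Cfsg.charDegree (χ₃ : G → ℂ) : ℚ)
      - 9 * (D.δ : ℚ) / (Cfsg.charDegree (η₀ : G → ℂ) : ℚ) = 0 := by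
    have : (((1 : ℚ) + (D.w χ₂ : ℚ) / (Cfsg.charDegree (χ₂ : G → ℂ) : ℚ)
      + (D.w χ₃ : ℚ) / (Cfsg.charDegree (χ₃ : G → ℂ) : ℚ)
      - 9 * (D.δ : ℚ) / (Cfsg.charDegree (η₀ : G → ℂ) : ℚ) : ℚ) : ℂ) = 0 := by
      push_cast
      linear_combination E3c
    exact_mod_cast this
  -- the order of `P`
  have hcardY := D.card_Y hab hfrob hCN
  have hq : 16 ≤ Nat.card P := by
    obtain ⟨k, hk⟩ := IsPGroup.iff_card.mp P.2
    have hk' : Nat.card P = 2 ^ k := by rw [hk, hp2]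
    have hk4 : 4 ≤ k := by
      by_contra hlt
      have : k ≤ 3 := by omega
      interval_cases k <;> omega
    calc 16 = 2 ^ 4 := by norm_num
      _ ≤ 2 ^ k := Nat.pow_le_pow_right (by norm_num) hk4
      _ = Nat.card P := hk'.symm
  have hnefix : ∀ χ : Cfsg.IrrCharacter G, χ ∈ D.X → χ ≠ oneIrr G →
      ¬ ((Cfsg.charDegree (χ : G → ℂ) : ℤ) = 1 ∧ D.w χ = 1) := by
    rintro χ _ hχ1 ⟨h1, _⟩
    exact hnolin χ hχ1 (by exact_mod_cast h1)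
  exact bl_two_algebra (D.w χ₂) (D.w χ₃) D.δ (hXsign χ₂ hχ₂X) (hXsign χ₃ hχ₃X) D.hδ _ _ _ _
    hf₂pos hf₃pos hfpos hq (D.degree_congr hab χ₂ hχ₂X) (D.degree_congr hab χ₃ hχ₃X)
    (hnefix χ₂ hχ₂X hχ₂1) (hnefix χ₃ hχ₃X hχ₃1) E1 E3

end hcy

end Cfsg.Agent.Lib.Helper6
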