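import Mathlib
import Cfsg.Prelude.Def_Blocks
import Cfsg.Agent.Lib.Helper6.Hcy1
import Cfsg.Agent.Lib.Helper6.BLThree
import Cfsg.Agent.Lib.Helper6.BlkVanish
import Cfsg.Agent.Lib.Helper6.Linear
import Cfsg.Agent.Lib.Helper2.Cores
import Cfsg.Agent.Lib.Lead.Homocyc

/-! # Brauer's theorem on groups with homocyclic Sylow 2-subgroups of type `(2^m, 2^m)` -/

set_option autoImplicit false
set_option linter.unusedSectionVars false
open Cfsg

namespace Cfsg.Agent.Lib.Helper6.Hcy

open Cfsg.Agent.Lib.Helper6

universe u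

/-- an abelian Sylow 2-subgroup of order at least 16 with automizer of order three acting
freely lies in a proper normal subgroup -/
theorem exists_proper_normal {G : Type*} [Group G] [Finite G] (P : Sylow 2 G)
    (hab : IsMulCommutative P)
    (hfrob : ∀ y : G, y ∈ (P : Subgroup G) → y ≠ 1 →
      Subgroup.centralizer ({y} : Set G) ⊓ Subgroup.normalizer ((P : Subgroup G) : Set G)
        = Subgroup.centralizer ((P : Subgroup G) : Set G))
    (hCN : (Subgroup.centralizer ((P : Subgroup G) : Set G)).relIndex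
      (Subgroup.normalizer ((P : Subgroup G) : Set G)) = 3)
    (hm2 : 3 + 1 < Nat.card P) (y₀ : G) (hg₀ : y₀ ∈ (P : Subgroup G))
    (hy₀1 : y₀ ≠ 1) (hy₀2 : y₀ * y₀ = 1) :
    ∃ K : Subgroup G, K.Normal ∧ K ≠ ⊤ ∧ (P : Subgroup G) ≤ K := by
  classical
  haveI : Fintype G := Fintype.ofFinite G
  haveI : Fintype ↥(P : Subgroup G) := Fintype.ofFinite _
  haveI : Finite (↥(P : Subgroup G) →* ℂˣ) :=
    Nat.finite_of_card_ne_zero (by rw [card_homs_of_comm hab]; exact Nat.card_pos.ne')
  haveI : Fintype (↥(P : Subgroup G) →* ℂˣ) := Fintype.ofFinite _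
  haveI : Fintype (Cfsg.IrrCharacter G) := Fintype.ofFinite _
  obtain ⟨M, hM⟩ := exists_isPModular 2
  obtain ⟨D, hd⟩ := exists_blData_three (M := M) hM hab hfrob hm2 hCN
  obtain ⟨χ, hχ1, hdeg⟩ := D.exists_linear_two hd hM hab hfrob hCN hm2 rfl y₀ hg₀ hy₀1 hy₀2
  have hχc := IsIrrCharacter.isCharacter χ.2
  have h1 : (χ : G → ℂ) 1 = 1 := by
    rw [IsCharacter.apply_one_eq_charDegree hχc, hdeg]
    simp
  obtain ⟨f, hf⟩ : ∃ f : G →* ℂˣ, ∀ g : G, ((f g : ℂˣ) : ℂ) = (χ : G → ℂ) g :=
    ⟨linearCharHom hχc h1, fun g => linearCharHom_apply hχc h1 g⟩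
  refine ⟨f.ker, inferInstance, ?_, ?_⟩
  · intro htop
    apply hχ1
    apply Subtype.ext
    funext g
    have hg : g ∈ f.ker := by rw [htop]; trivial
    rw [MonoidHom.mem_ker] at hg
    have h2 := hf g
    rw [hg] at h2
    show (χ : G → ℂ) g = 1
    rw [← h2]
    rfl
  · -- the restriction to `P` is invariant under the normalizer, hence trivial
    obtain ⟨ψ, hψdef⟩ : ∃ ψ : ↥(P : Subgroup G) →* ℂˣ, ψ = f.comp (P : Subgroup G).subtype :=
      ⟨_, rfl⟩
    have hψ1 : ψ = 1 := by
      by_contra hψ
      -- an element of the normalizer outside the centralizer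
      have hex : ∃ n : G, n ∈ Subgroup.normalizer ((P : Subgroup G) : Set G) ∧
          n ∉ Subgroup.centralizer ((P : Subgroup G) : Set G) := by
        by_contra hall
        push Not at hall
        have hle : Subgroup.normalizer ((P : Subgroup G) : Set G)
            ≤ Subgroup.centralizer ((P : Subgroup G) : Set G) := fun n hn => hall n hn
        rw [Subgroup.relIndex_eq_one.mpr hle] at hCN
        omega
      obtain ⟨n, hn, hnC⟩ := hex
      apply hnC
      rw [← actHom_eq_self_iff P hab hfrob ψ hψ ⟨n, hn⟩]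
      ext w
      rw [actHom_apply, hψdef]
      simp only [MonoidHom.coe_comp, Function.comp_apply, Subgroup.coe_subtype]
      rw [conjNormalizerEquiv_symm_apply]
      simp only [map_mul, map_inv]
      rw [mul_comm, ← mul_assoc, mul_inv_cancel, one_mul]
    intro x hx
    rw [MonoidHom.mem_ker]
    have h2 : ψ ⟨x, hx⟩ = 1 := by rw [hψ1]; rfl
    rw [hψdef] at h2
    exact h2

/-- the hypothesis on normal subgroups of odd order passes to normal subgroups -/
theorem odd_normal_eq_bot_of_normal {G : Type*} [Group G] [Finite G]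
    (hO : ∀ N : Subgroup G, N.Normal → Odd (Nat.card N) → N = ⊥) (K : Subgroup G) [hK : K.Normal]
    (L : Subgroup K) (hL : L.Normal) (hLodd : Odd (Nat.card L)) : L = ⊥ := by
  haveI hchar : (Cfsg.pPrimeCore 2 K).Characteristic :=
    Cfsg.Agent.Lib.Helper2.pPrimeCore_characteristic 2
  have hcop : (Nat.card (Cfsg.pPrimeCore 2 K)).Coprime 2 :=
    Cfsg.Agent.Lib.Helper2.pPrimeCore_card_coprime 2
  have hnorm : ((Cfsg.pPrimeCore 2 K).map K.subtype).Normal :=
    ConjAct.normal_of_characteristic_of_normal
  have hcard : Nat.card ((Cfsg.pPrimeCore 2 K).map K.subtype)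
      = Nat.card (Cfsg.pPrimeCore 2 K) :=
    Subgroup.card_map_of_injective K.subtype_injective
  have hbot := hO _ hnorm (by rw [hcard]; exact Nat.Coprime.odd_of_right hcop)
  have hO' : Cfsg.pPrimeCore 2 K = ⊥ :=
    (Subgroup.map_eq_bot_iff_of_injective _ K.subtype_injective).mp hbot
  have hle : L ≤ Cfsg.pPrimeCore 2 K :=
    Cfsg.Agent.Lib.Helper2.le_pPrimeCore (hN := hL) (Nat.coprime_two_right.mpr hLodd)
  rw [hO'] at hle
  exact le_bot_iff.mp hle

/-- the Sylow 2-subgroup is normal -/
theorem sylow_normal_aux (m : ℕ) (hm : 2 ≤ m) : ∀ (n : ℕ) (G : Type u) [Group G] [Finite G],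
    Nat.card G = n → ∀ (P : Sylow 2 G),
    Nonempty ((P : Subgroup G) ≃* Multiplicative (ZMod (2 ^ m) × ZMod (2 ^ m))) →
    (∀ N : Subgroup G, N.Normal → Odd (Nat.card N) → N = ⊥) → (P : Subgroup G).Normal := by
  intro n
  induction n using Nat.strong_induction_on with
  | _ n ih =>
    intro G _ _ hn P ⟨e⟩ hO
    have hyp := Cfsg.Agent.Lib.Lead.Homocyc.hyp_of_equiv (P : Subgroup G) P.isPGroup' m
      (by omega) e
    rcases Cfsg.Agent.Lib.Lead.Homocyc.relIndex_cases P hyp with h1 | h3
    · -- Burnside's transfer theorem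
      have hNC : Subgroup.normalizer ((P : Subgroup G) : Set G)
          ≤ Subgroup.centralizer ((P : Subgroup G) : Set G) := Subgroup.relIndex_eq_one.mp h1
      have hcomp := MonoidHom.ker_transferSylow_isComplement' P hNC
      have hKn : (MonoidHom.transferSylow P hNC).ker.Normal := inferInstance
      have hcard := hcomp.card_mul_card
      have hKodd : Odd (Nat.card (MonoidHom.transferSylow P hNC).ker) := by
        have h2 := (P : Subgroup G).index_mul_card
        have hidx : Nat.card (MonoidHom.transferSylow P hNC).ker = (P : Subgroup G).index := by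
          have hpos : 0 < Nat.card (P : Subgroup G) := Nat.card_pos
          exact Nat.eq_of_mul_eq_mul_right hpos (by rw [hcard, h2])
        rw [hidx]
        have h3 := P.not_dvd_index
        exact Nat.odd_iff.mpr (Nat.two_dvd_ne_zero.mp h3)
      have hKbot := hO _ hKn hKodd
      have hPtop : (P : Subgroup G) = ⊤ := by
        rw [hKbot] at hcomp
        exact Subgroup.isComplement'_bot_left.mp hcomp
      rw [hPtop]
      infer_instance
    · -- the character-theoretic case
      have hab : IsMulCommutative P := ⟨⟨fun a b => Subtype.ext (hyp.comm a a.2 b b.2)⟩⟩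
      have hfrob : ∀ y : G, y ∈ (P : Subgroup G) → y ≠ 1 →
          Subgroup.centralizer ({y} : Set G) ⊓ Subgroup.normalizer ((P : Subgroup G) : Set G)
            = Subgroup.centralizer ((P : Subgroup G) : Set G) :=
        fun y hy hy1 => Cfsg.Agent.Lib.Lead.Homocyc.cent_inf_norm P hyp hy hy1
      obtain ⟨a, b, haP, hbP, ha2, hb2, ha1, hb1, hne⟩ := hyp.ex
      have hcardP : Nat.card (P : Subgroup G) = 2 ^ m * 2 ^ m := by
        rw [Nat.card_congr e.toEquiv]
        show Nat.card (ZMod (2 ^ m) × ZMod (2 ^ m)) = _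
        rw [Nat.card_prod, Nat.card_zmod]
      have h4 : 4 ≤ 2 ^ m := by
        calc 4 = 2 ^ 2 := by norm_num
          _ ≤ 2 ^ m := Nat.pow_le_pow_right (by norm_num) hm
      have hm2' : 3 + 1 < Nat.card P := by
        rw [hcardP]
        nlinarith
      obtain ⟨K, hKn, hKtop, hPK⟩ := exists_proper_normal P hab hfrob h3 hm2' a haP ha1
        (by rw [← sq]; exact ha2)
      have hlt : Nat.card K < n := by
        rw [← hn]
        exact lt_of_le_of_ne (Subgroup.card_le_card_group K)
          (fun h => hKtop (Subgroup.eq_top_of_card_eq K h))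
      have hcoe : ((P.subtype hPK : Sylow 2 K) : Subgroup K) = (P : Subgroup G).subgroupOf K :=
        Sylow.coe_subtype P hPK
      have eK : ((P.subtype hPK : Sylow 2 K) : Subgroup K)
          ≃* Multiplicative (ZMod (2 ^ m) × ZMod (2 ^ m)) :=
        ((MulEquiv.subgroupCongr hcoe).trans (Subgroup.subgroupOfEquivOfLe hPK)).trans e
      have hOK : ∀ L : Subgroup K, L.Normal → Odd (Nat.card L) → L = ⊥ :=
        fun L hL hodd => odd_normal_eq_bot_of_normal hO K L hL hodd
      have hPKn : ((P.subtype hPK : Sylow 2 K) : Subgroup K).Normal :=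
        ih (Nat.card K) hlt K rfl (P.subtype hPK) ⟨eK⟩ hOK
      haveI hchar : ((P.subtype hPK : Sylow 2 K) : Subgroup K).Characteristic :=
        Sylow.characteristic_of_normal (P.subtype hPK) hPKn
      have hnorm : (((P.subtype hPK : Sylow 2 K) : Subgroup K).map K.subtype).Normal :=
        ConjAct.normal_of_characteristic_of_normal
      have hmap : ((P.subtype hPK : Sylow 2 K) : Subgroup K).map K.subtype = (P : Subgroup G) := by
        rw [hcoe]
        exact Subgroup.map_subgroupOf_eq_of_le hPK
      rw [← hmap]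
      exact hnorm

/-- Brauer's theorem -/
theorem homocyclic_structure {G : Type u} [Group G] [Finite G] (P : Sylow 2 G) (m : ℕ)
    (hm : 2 ≤ m) (e : (P : Subgroup G) ≃* Multiplicative (ZMod (2 ^ m) × ZMod (2 ^ m)))
    (hO : ∀ N : Subgroup G, N.Normal → Odd (Nat.card N) → N = ⊥) :
    (P : Subgroup G).Normal ∧ Subgroup.centralizer (P : Set G) = (P : Subgroup G) ∧
      ((P : Subgroup G).index = 1 ∨ (P : Subgroup G).index = 3) := by
  haveI hn : (P : Subgroup G).Normal := sylow_normal_aux m hm _ G rfl P ⟨e⟩ hO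
  have hyp := Cfsg.Agent.Lib.Lead.Homocyc.hyp_of_equiv (P : Subgroup G) P.isPGroup' m
    (by omega) e
  have hPC : (P : Subgroup G) ≤ Subgroup.centralizer ((P : Subgroup G) : Set G) := by
    intro x hx
    rw [Subgroup.mem_centralizer_iff]
    intro y hy
    exact hyp.comm y hy x hx
  haveI hCn : (Subgroup.centralizer ((P : Subgroup G) : Set G)).Normal := inferInstance
  -- the centralizer has a normal 2-complement, which is trivial
  have hNC : Subgroup.normalizer (((P.subtype hPC :
        Sylow 2 (Subgroup.centralizer ((P : Subgroup G) : Set G))) :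
        Subgroup (Subgroup.centralizer ((P : Subgroup G) : Set G))) :
        Set (Subgroup.centralizer ((P : Subgroup G) : Set G)))
      ≤ Subgroup.centralizer (((P.subtype hPC :
        Sylow 2 (Subgroup.centralizer ((P : Subgroup G) : Set G))) :
        Subgroup (Subgroup.centralizer ((P : Subgroup G) : Set G))) :
        Set (Subgroup.centralizer ((P : Subgroup G) : Set G))) := by
    intro c _
    rw [Subgroup.mem_centralizer_iff]
    intro y hy
    rw [SetLike.mem_coe, Sylow.coe_subtype, Subgroup.mem_subgroupOf] at hy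
    apply Subtype.ext
    have hc := c.2
    rw [Subgroup.mem_centralizer_iff] at hc
    exact hc (y : G) hy
  have hidx := (pPrimeCore_of_normalizer_le_centralizer (P.subtype hPC) hNC).1
  have hcore : Cfsg.pPrimeCore 2 (Subgroup.centralizer ((P : Subgroup G) : Set G)) = ⊥ := by
    apply odd_normal_eq_bot_of_normal hO (Subgroup.centralizer ((P : Subgroup G) : Set G)) _
      (Cfsg.Agent.Lib.Helper2.pPrimeCore_mem 2).1
    exact Nat.Coprime.odd_of_right (Cfsg.Agent.Lib.Helper2.pPrimeCore_card_coprime 2)
  rw [hcore, Subgroup.index_bot] at hidx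
  have hcardeq : Nat.card (Subgroup.centralizer ((P : Subgroup G) : Set G))
      = Nat.card (P : Subgroup G) := by
    rw [hidx, Sylow.coe_subtype]
    exact Nat.card_congr (Subgroup.subgroupOfEquivOfLe hPC).toEquiv
  have hcent : Subgroup.centralizer ((P : Subgroup G) : Set G) = (P : Subgroup G) :=
    (Subgroup.eq_of_le_of_card_ge hPC hcardeq.le).symm
  refine ⟨hn, hcent, ?_⟩
  have hcases := Cfsg.Agent.Lib.Lead.Homocyc.relIndex_cases P hyp
  rw [Subgroup.normalizer_eq_top, Subgroup.relIndex_top_right, hcent] at hcases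
  exact hcases

end Cfsg.Agent.Lib.Helper6.Hcy
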