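import Cfsg.Agent.Lib.Helper6.HupY

set_option autoImplicit false

/-! Huppert with the sharper alternative: an abelian normal subgroup generating a field of the
size of `V` (instead of the bare semilinear conclusion).  The proofs are those of the `Hup*`
files with the alternative replaced. -/

namespace Cfsg.Agent.Lib.Helper6.Hup

open Module

variable {q : ℕ} [Fact q.Prime] {V : Type*} [AddCommGroup V] [Module (ZMod q) V]
  {G : Type*} [Group G]

/-- the sharper alternative -/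
def Good (ρ : G →* (V ≃ₗ[ZMod q] V)) : Prop :=
  ∃ N : Subgroup G, N.Normal ∧ (∀ a ∈ N, ∀ b ∈ N, a * b = b * a) ∧
    Nat.card (algOf ρ N) = Nat.card V

namespace Hyp

variable {ρ : G →* (V ≃ₗ[ZMod q] V)} (h : Hyp ρ)
include h

theorem good_of_card [Finite V] [Nontrivial V] {N : Subgroup G} (hNn : N.Normal)
    (hN : ∀ a ∈ N, ∀ b ∈ N, a * b = b * a) (hc : Nat.card (algOf ρ N) = Nat.card V) :
    Good ρ :=
  ⟨N, hNn, hN, hc⟩

theorem good_of_finrank_one [Finite V] [Nontrivial V]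
    (hn : finrank (ZMod q) V = 1) : Good ρ := by
  have hNn : (⊥ : Subgroup G).Normal := inferInstance
  have hN : ∀ a ∈ (⊥ : Subgroup G), ∀ b ∈ (⊥ : Subgroup G), a * b = b * a := by
    intro a ha b hb
    rw [Subgroup.mem_bot] at ha hb
    rw [ha, hb]
  have hA := h.FL hNn hN
  have h1 := hA.finrank_pos
  have h2 := hA.finrank_le
  refine ⟨⊥, hNn, hN, ?_⟩
  rw [hA.card_eq, natCard_eq_pow (q := q) V, hn]
  congr 1
  omega

/-- an element of ppd order in an abelian normal subgroup forces the semilinear case -/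
theorem good_of_ppd_elt [Finite V] [Nontrivial V] {N : Subgroup G} (hNn : N.Normal)
    (hN : ∀ a ∈ N, ∀ b ∈ N, a * b = b * a) {y : G} (hy : y ∈ N) (hy1 : y ≠ 1) {p0 : ℕ}
    (hp0 : p0.Prime) (hyp : y ^ p0 = 1) (hdvd : p0 ∣ q ^ finrank (ZMod q) V - 1)
    (hprim : ∀ k, 0 < k → k < finrank (ZMod q) V → ¬ p0 ∣ q ^ k - 1) : Good ρ := by
  have : Fact p0.Prime := ⟨hp0⟩
  have h1 := h.card_modEq_one hNn hN hy hy1 p0 hyp
  have hA := h.FL hNn hN
  rw [hA.card_eq] at h1
  have h5 := Cfsg.Agent.Lib.Helper5.SingerAbelian.arith q p0 (finrank (ZMod q) V) 0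
    (finrank (ZMod q) (algOf ρ N)) hp0 hdvd (Fact.out : q.Prime).two_le hprim (Nat.zero_le _)
    hA.finrank_le (by rwa [pow_zero])
  have hd := hA.finrank_pos
  have h6 : finrank (ZMod q) (algOf ρ N) = finrank (ZMod q) V := by
    rcases h5 with h | h
    · omega
    · exact h.2
  apply h.good_of_card hNn hN
  rw [hA.card_eq, natCard_eq_pow (q := q) V, h6]


end Hyp

namespace Hyp

variable {ρ : G →* (V ≃ₗ[ZMod q] V)} (h : Hyp ρ)
include h

theorem pCore_ppd_eq_botG [Finite G] [Finite V] [Nontrivial V] (hsl : ¬ Good ρ) {p0 : ℕ}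
    (hp0 : p0.Prime) (hdvd : p0 ∣ q ^ finrank (ZMod q) V - 1)
    (hprim : ∀ k, 0 < k → k < finrank (ZMod q) V → ¬ p0 ∣ q ^ k - 1) :
    Cfsg.pCore p0 G = ⊥ := by
  have : Fact p0.Prime := ⟨hp0⟩
  by_contra hne
  obtain ⟨y, hy, hy1, hyp⟩ := exists_elt_of_pCore_ne_bot p0 hne
  exact hsl (h.good_of_ppd_elt (Zc_normal (Cfsg.Agent.Lib.Helper1.pCore_normal p0)) (Zc_comm _)
    hy hy1 hp0 hyp hdvd hprim)

/-- a core not centralised by the ppd element -/
theorem exists_noncentral_pCoreG [Finite G] [Finite V] [Nontrivial V] [Group.IsSolvable G]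
    (hsl : ¬ Good ρ) {p0 : ℕ} (hp0 : p0.Prime) {x : G} (hx1 : x ≠ 1) (hxp : x ^ p0 = 1)
    (hdvd : p0 ∣ q ^ finrank (ZMod q) V - 1)
    (hprim : ∀ k, 0 < k → k < finrank (ZMod q) V → ¬ p0 ∣ q ^ k - 1) :
    ∃ r : ℕ, r.Prime ∧ ∃ g ∈ Cfsg.pCore r G, x * g ≠ g * x := by
  by_contra hcon
  push Not at hcon
  have hF : Cfsg.fittingSubgroup G ≤ Subgroup.centralizer ({x} : Set G) := by
    rw [Cfsg.Agent.Lib.Helper1.fittingSubgroup_eq_iSup_pCore]
    apply iSup_le
    intro p g hg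
    rw [Subgroup.mem_centralizer_iff]
    intro y hy
    rw [Set.mem_singleton_iff] at hy
    rw [hy]
    exact hcon p p.2 g hg
  have hxc : x ∈ Subgroup.centralizer (Cfsg.fittingSubgroup G : Set G) := by
    rw [Subgroup.mem_centralizer_iff]
    intro g hg
    have := Subgroup.mem_centralizer_iff.mp (hF hg) x rfl
    exact this.symm
  have hxF : x ∈ Cfsg.fittingSubgroup G :=
    Cfsg.Agent.Lib.Helper1.centralizer_fittingSubgroup_le hxc
  have hxZ : x ∈ Zc (Cfsg.fittingSubgroup G) := by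
    rw [mem_Zc]
    exact ⟨hxF, fun b hb => Subgroup.mem_centralizer_iff.mp hxc b hb⟩
  exact hsl (h.good_of_ppd_elt (Zc_normal Cfsg.Agent.Lib.Helper1.fittingSubgroup_normal)
    (Zc_comm _) hxZ hx1 hp0 hxp hdvd hprim)

end Hyp

/-- **Lemma P** -/
theorem ppd_dichotomyG [Finite G] [Finite V] [Nontrivial V] (hsol : Group.IsSolvable G)
    (ρ : G →* (V ≃ₗ[ZMod q] V)) (h : Hyp ρ) {p0 : ℕ} (hp0 : p0.Prime) {x : G} (hx1 : x ≠ 1)
    (hxp : x ^ p0 = 1) (hdvd : p0 ∣ q ^ finrank (ZMod q) V - 1)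
    (hprim : ∀ k, 0 < k → k < finrank (ZMod q) V → ¬ p0 ∣ q ^ k - 1)
    (hn2 : 2 ≤ finrank (ZMod q) V) :
    Good ρ ∨ (p0 = finrank (ZMod q) V + 1 ∧ q ≠ 2 ∧ ∃ C : Subgroup G, BData ρ C) := by
  by_cases hsl : Good ρ
  · left; exact hsl
  right
  have := hsol
  obtain ⟨r, hr, g, hg, hxg⟩ := h.exists_noncentral_pCoreG hsl hp0 hx1 hxp hdvd hprim
  have : Fact r.Prime := ⟨hr⟩
  have hRn := Cfsg.Agent.Lib.Helper1.pCore_normal (G := G) r
  have hR := Cfsg.Agent.Lib.Helper1.pCore_isPGroup (G := G) r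
  have hrp : p0 ≠ r := by
    rintro rfl
    have hb := h.pCore_ppd_eq_botG hsl hp0 hdvd hprim
    rw [hb, Subgroup.mem_bot] at hg
    subst hg
    exact hxg (by rw [mul_one, one_mul])
  have hrq : r ≠ q := by
    rintro rfl
    have hb := h.pCore_q_eq_bot
    rw [hb, Subgroup.mem_bot] at hg
    subst hg
    exact hxg (by rw [mul_one, one_mul])
  have := hRn
  obtain ⟨C, hC⟩ := exists_crit r (Cfsg.pCore r G) hR
  have hxC : ¬ ∀ c ∈ C, x * c = c * x := fun hc =>
    hxg (hC.cent_of_cent hRn hR hr hp0 hrp hxp hc g hg)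
  have hCab : ¬ ∀ a ∈ C, ∀ b ∈ C, a * b = b * a := fun hab =>
    hxC (h.ppd_commute hC.normal hab hp0 hxp hdvd hprim)
  have hZn := Zc_normal hC.normal
  have hA := h.FL hZn (Zc_comm C)
  have hxZ := h.ppd_commute hZn (Zc_comm C) hp0 hxp hdvd hprim
  have hnab : ∃ a ∈ C, ∃ b ∈ C, a * b ≠ b * a := by
    push Not at hCab; exact hCab
  have hS := exists_sympT ρ h.inj hr hC hA hnab
  obtain ⟨M, hM⟩ := SympT.exists_sq hr _ C rfl hS
  have hp0M : p0 ≤ M + 1 := by
    by_contra hlt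
    push Not at hlt
    have h1 := SympT.triv_of_small hr hp0 hrp x hxp (fun z (hz : z ∈ muSub C r) => hxZ z hz.1) _ C rfl hS
      (normal_conj_iff hC.normal x) M hM hlt
    exact hxC (cent_of_cmx_mem hC.le hR hr hp0 hrp hxp hxZ h1)
  have hnp := ppd_dvd_sub_one q p0 (finrank (ZMod q) V) hp0 (by omega)
    (Fact.out : q.Prime).two_le hdvd hprim
  have hnle : finrank (ZMod q) V ≤ p0 - 1 :=
    Nat.le_of_dvd (by have := hp0.two_le; omega) hnp
  have hcomm : ∀ a ∈ C, ∀ b ∈ C, cm a b ∈ Zc C := fun a ha b hb => hC.comm a ha b (hC.le hb)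
  obtain ⟨_, hMn⟩ := crit_M_le ρ h.inj hcomm hA M hM
  have hp0eq : p0 = finrank (ZMod q) V + 1 := by
    have := hp0.two_le
    omega
  have heven : Even (finrank (ZMod q) V) := by
    rcases Nat.even_or_odd (finrank (ZMod q) V) with he | ho
    · exact he
    · exfalso
      have h1 : Even p0 := by rw [hp0eq]; exact ho.add_one
      have h2 := (Nat.Prime.even_iff hp0).mp h1
      omega
  obtain ⟨hB, hr2⟩ := bdata_of_crit ρ h.inj hr hR hC hA hS M hM (by omega) heven
  exact ⟨hp0eq, by rintro rfl; exact hrq hr2, C, hB⟩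

theorem main_ge3G [Finite G] [Finite V] [Nontrivial V] (hsol : Group.IsSolvable G)
    (ρ : G →* (V ≃ₗ[ZMod q] V)) (h : Hyp ρ) (hn3 : 3 ≤ finrank (ZMod q) V)
    (h26 : ¬ (q = 2 ∧ finrank (ZMod q) V = 6)) : Good ρ ∨ Nat.card V = 81 := by
  by_cases hsl : Good ρ
  · left; exact hsl
  right
  have hq := (Fact.out : q.Prime)
  have hq1 : 1 ≤ q := hq.one_lt.le
  obtain ⟨n, hn⟩ : ∃ n, finrank (ZMod q) V = n := ⟨_, rfl⟩
  rw [hn] at hn3 h26
  obtain ⟨p0, hp0, hdvd, hprim⟩ := Cfsg.Agent.Lib.Helper2.Zsig.zsigmondy q n hq.one_lt (by omega)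
    h26 (by rintro ⟨h2, _⟩; omega)
  have hcardV : Nat.card V = q ^ n := by rw [natCard_eq_pow (q := q) V, hn]
  have hGdvd : q ^ n - 1 ∣ Nat.card G := by
    have := h.card_sub_one_dvd
    rwa [hcardV] at this
  have : Fact p0.Prime := ⟨hp0⟩
  obtain ⟨x, hx⟩ := exists_prime_orderOf_dvd_card' p0 (hdvd.trans hGdvd)
  have hx1 : x ≠ 1 := by
    rintro rfl
    rw [orderOf_one] at hx
    exact hp0.one_lt.ne hx
  have hxp : x ^ p0 = 1 := by rw [← hx]; exact pow_orderOf_eq_one x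
  rcases ppd_dichotomyG hsol ρ h hp0 hx1 hxp (by rw [hn]; exact hdvd) (by rw [hn]; exact hprim)
    (by rw [hn]; omega) with h' | ⟨hp0n, hq2, C, hB⟩
  · exact absurd h' hsl
  rw [hn] at hp0n
  -- n is a power of two
  obtain ⟨j, hj⟩ : ∃ j, n = 2 ^ j := by
    obtain ⟨a, ha⟩ := IsPGroup.iff_card.mp hB.two
    have h1 : n ∣ 2 ^ a := by
      rw [← ha, hB.card, hn]
      exact Dvd.dvd.mul_right (Dvd.intro_left _ (by ring : n * n = n ^ 2)) _
    obtain ⟨j, _, hj⟩ := (Nat.dvd_prime_pow Nat.prime_two).mp h1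
    exact ⟨j, hj⟩
  have hj2 : 2 ≤ j := by
    by_contra hlt
    have : j = 0 ∨ j = 1 := by omega
    rcases this with rfl | rfl <;> omega
  obtain ⟨j', rfl⟩ : ∃ j', j = j' + 2 := ⟨j - 2, by omega⟩
  -- notation: m = n / 2 = 2 ^ (j' + 1)
  have hqodd : Odd q := hq.odd_of_ne_two hq2
  have hpq : ¬ p0 ∣ q - 1 := by
    have := hprim 1 (by norm_num) (by omega)
    rwa [pow_one] at this
  have hnm : n = 2 ^ (j' + 1) * 2 := by rw [hj, pow_succ]
  have claim : ∀ s : ℕ, s.Prime → s ≠ 2 → s ∣ q ^ (2 ^ (j' + 1)) + 1 → s = p0 := by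
    intro s hs hs2 hsd
    have : Fact s.Prime := ⟨hs⟩
    have : Fact (2 < s) := ⟨by have := hs.two_le; omega⟩
    have h1 : (q : ZMod s) ^ (2 ^ (j' + 1)) = -1 := by
      have h0 := (ZMod.natCast_eq_zero_iff (q ^ (2 ^ (j' + 1)) + 1) s).mpr hsd
      push_cast at h0
      exact eq_neg_of_add_eq_zero_left h0
    have h2 : (q : ZMod s) ^ (2 ^ (j' + 1 + 1)) = 1 := by
      rw [pow_succ 2 (j' + 1), pow_mul, h1, neg_one_sq]
    have h3 : ¬ (q : ZMod s) ^ (2 ^ (j' + 1)) = 1 := by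
      rw [h1]; exact ZMod.neg_one_ne_one
    have hord : orderOf (q : ZMod s) = 2 ^ (j' + 1 + 1) := orderOf_eq_prime_pow h3 h2
    have hsdvd : s ∣ q ^ n - 1 := by
      rw [Cfsg.Agent.Lib.Helper2.Zsig.dvd_pow_sub_one_iff hq1 s n, hj]
      exact h2
    have hsprim : ∀ k, 0 < k → k < n → ¬ s ∣ q ^ k - 1 := by
      intro k hk hkn hd
      have h4 := (Cfsg.Agent.Lib.Helper2.Zsig.dvd_pow_sub_one_iff hq1 s k).mp hd
      have h5 := orderOf_dvd_of_pow_eq_one h4
      rw [hord] at h5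
      have h6 := Nat.le_of_dvd hk h5
      rw [hj] at hkn
      omega
    obtain ⟨y, hy⟩ := exists_prime_orderOf_dvd_card' s (hsdvd.trans hGdvd)
    have hy1 : y ≠ 1 := by
      rintro rfl
      rw [orderOf_one] at hy
      exact hs.one_lt.ne hy
    have hyp : y ^ s = 1 := by rw [← hy]; exact pow_orderOf_eq_one y
    rcases ppd_dichotomyG hsol ρ h hs hy1 hyp (by rw [hn]; exact hsdvd) (by rw [hn]; exact hsprim)
      (by rw [hn]; omega) with h' | ⟨h', _⟩
    · exact absurd h' hsl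
    · rw [h', hn, hp0n]
  -- q ^ m + 1 = 2 * N with N odd
  have hmod : (q ^ (2 ^ (j' + 1)) + 1) % 4 = 2 := by
    have e : q ^ (2 ^ (j' + 1)) = (q ^ (2 ^ j')) ^ 2 := by rw [← pow_mul, pow_succ]
    have := odd_sq_mod_four (q ^ (2 ^ j')) hqodd.pow
    rw [e]; omega
  obtain ⟨N, hN⟩ : ∃ N, q ^ (2 ^ (j' + 1)) + 1 = 2 * N := ⟨(q ^ (2 ^ (j' + 1)) + 1) / 2, by omega⟩
  have hNodd : N % 2 = 1 := by omega
  have hNpow : N = p0 ^ N.primeFactorsList.length := by
    apply Nat.eq_prime_pow_of_unique_prime_dvd (by omega)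
    intro d hd hdN
    apply claim d hd
    · rintro rfl
      omega
    · rw [hN]; exact Dvd.dvd.mul_left hdN 2
  obtain ⟨a, ha⟩ : ∃ a, N = p0 ^ a := ⟨_, hNpow⟩
  -- a ≤ 1
  have hNdvdG : N ∣ Nat.card G := by
    have h1 : q ^ n - 1 = (q ^ (2 ^ (j' + 1)) - 1) * (q ^ (2 ^ (j' + 1)) + 1) := by
      rw [hnm, pow_mul]
      have : 1 ≤ q ^ (2 ^ (j' + 1)) := Nat.one_le_pow _ _ (by omega)
      obtain ⟨t, ht⟩ : ∃ t, q ^ (2 ^ (j' + 1)) = t + 1 := ⟨q ^ (2 ^ (j' + 1)) - 1, by omega⟩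
      rw [ht]
      simp only [Nat.add_sub_cancel]
      have : (t + 1) ^ 2 = t * (t + 1 + 1) + 1 := by ring
      rw [this, Nat.add_sub_cancel]
    have h2 : N ∣ q ^ n - 1 := by
      rw [h1, hN]
      exact Dvd.dvd.mul_left (Dvd.intro_left _ rfl) _
    exact h2.trans hGdvd
  have ha1 : a ≤ 1 := by
    obtain P : Sylow p0 G := default
    have hPcard := P.card_eq_multiplicity
    have hGne : Nat.card G ≠ 0 := Nat.card_pos.ne'
    have h1 : a ≤ (Nat.card G).factorization p0 := by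
      rw [← Nat.Prime.pow_dvd_iff_le_factorization hp0 hGne, ← ha]
      exact hNdvdG
    have h2 : Nat.card (P : Subgroup G) ∣ p0 :=
      hB.pgroup_card_dvd h.inj hp0 (by omega : 1 ≤ j' + 2) (by rw [hn, hj])
        (by rw [hp0n, hj]) hpq (P : Subgroup G) P.isPGroup'
    rw [hPcard] at h2
    have h3 : p0 ^ a ∣ p0 := (pow_dvd_pow p0 h1).trans h2
    by_contra hlt
    have h4 : p0 ^ 2 ∣ p0 := (pow_dvd_pow p0 (by omega)).trans h3
    have h5 := Nat.le_of_dvd hp0.pos h4
    have := hp0.two_le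
    nlinarith
  -- arithmetic
  have hq3 : 3 ≤ q := by
    have := hq.two_le
    omega
  have hmpos : 2 ≤ 2 ^ (j' + 1) := by
    calc 2 = 2 ^ 1 := by norm_num
      _ ≤ 2 ^ (j' + 1) := Nat.pow_le_pow_right (by norm_num) (by omega)
  have hge : 3 ^ (2 ^ (j' + 1)) ≤ q ^ (2 ^ (j' + 1)) := Nat.pow_le_pow_left hq3 _
  have ha0 : a = 1 := by
    by_contra hne
    have : a = 0 := by omega
    rw [this, pow_zero] at ha
    rw [ha] at hN
    have : 9 ≤ 3 ^ (2 ^ (j' + 1)) := by
      calc 9 = 3 ^ 2 := by norm_num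
        _ ≤ 3 ^ (2 ^ (j' + 1)) := Nat.pow_le_pow_right (by norm_num) hmpos
    omega
  rw [ha0, pow_one] at ha
  -- q ^ m + 1 = 2 * p0 = 2 * (n + 1)
  rw [ha, hp0n, hnm] at hN
  by_cases hm2 : 2 ^ (j' + 1) = 2
  · -- n = 4, q = 3
    rw [hm2] at hN
    have hq9 : q ^ 2 = 9 := by omega
    have hq3' : q = 3 := by nlinarith
    rw [hcardV, hnm, hm2, hq3']
    norm_num
  · exfalso
    have h3 : 3 ≤ 2 ^ (j' + 1) := by omega
    have := three_pow_gt _ h3
    omega

namespace Hyp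

variable {ρ : G →* (V ≃ₗ[ZMod q] V)} (h : Hyp ρ)
include h

/-- in dimension two, outside the semilinear case, abelian normal subgroups are scalar -/
theorem scal_of_abelG [Finite V] [Nontrivial V] (hn : finrank (ZMod q) V = 2)
    (hsl : ¬ Good ρ) {N : Subgroup G} (hNn : N.Normal)
    (hN : ∀ a ∈ N, ∀ b ∈ N, a * b = b * a) :
    ∀ x ∈ N, ∃ c : ZMod q, Lh ρ x = c • (1 : Module.End (ZMod q) V) := by
  have hA := h.FL hNn hN
  have h1 := hA.finrank_pos
  have h2 := hA.finrank_le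
  rw [hn] at h2
  have h3 : finrank (ZMod q) (algOf ρ N) ≠ 2 := by
    intro h3
    apply hsl
    apply h.good_of_card hNn hN
    rw [hA.card_eq, natCard_eq_pow (q := q) V, hn, h3]
  have hd1 : finrank (ZMod q) (algOf ρ N) = 1 := by omega
  have hbot : algOf ρ N = ⊥ := Subalgebra.eq_bot_of_finrank_one hd1
  intro x hx
  have hx' := Lh_mem_algOf ρ hx
  rw [hbot, Algebra.mem_bot] at hx'
  obtain ⟨c, hc⟩ := hx'
  exact ⟨c, by rw [← hc]; exact Algebra.algebraMap_eq_smul_one c⟩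

/-- the structure in dimension two -/
theorem structure_twoG [Finite G] [Finite V] [Nontrivial V] (hsol : Group.IsSolvable G)
    (hn : finrank (ZMod q) V = 2) (hsl : ¬ Good ρ) :
    q ≠ 2 ∧ ∃ C : Subgroup G, BData ρ C := by
  have := hsol
  -- abelian normal subgroups are central
  have hcen : ∀ N : Subgroup G, N.Normal → (∀ a ∈ N, ∀ b ∈ N, a * b = b * a) →
      ∀ x ∈ N, ∀ g : G, g * x = x * g := by
    intro N hNn hN x hx g
    obtain ⟨c, hc⟩ := h.scal_of_abelG hn hsl hNn hN x hx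
    exact scalar_central ρ h.inj hc g
  -- some core is nonabelian
  have hex : ∃ r : ℕ, r.Prime ∧ ∃ a ∈ Cfsg.pCore r G, ∃ b ∈ Cfsg.pCore r G, a * b ≠ b * a := by
    by_contra hcon
    push Not at hcon
    have hF : Cfsg.fittingSubgroup G ≤ Subgroup.center G := by
      rw [Cfsg.Agent.Lib.Helper1.fittingSubgroup_eq_iSup_pCore]
      apply iSup_le
      intro p x hx
      rw [Subgroup.mem_center_iff]
      intro g
      exact hcen _ (Cfsg.Agent.Lib.Helper1.pCore_normal p) (hcon p p.2) x hx g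
    have htop : ∀ g : G, g ∈ Cfsg.fittingSubgroup G := by
      intro g
      apply Cfsg.Agent.Lib.Helper1.centralizer_fittingSubgroup_le
      rw [Subgroup.mem_centralizer_iff]
      intro x hx
      exact (Subgroup.mem_center_iff.mp (hF hx) g).symm
    have hab : ∀ a ∈ (⊤ : Subgroup G), ∀ b ∈ (⊤ : Subgroup G), a * b = b * a := by
      intro a _ b _
      exact Subgroup.mem_center_iff.mp (hF (htop b)) a
    have hsc := h.scal_of_abelG hn hsl (inferInstance : (⊤ : Subgroup G).Normal) hab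
    exact h.not_all_scalar (by omega) (fun g => hsc g (Subgroup.mem_top g))
  obtain ⟨r, hr, a, ha, b, hb, hab⟩ := hex
  have : Fact r.Prime := ⟨hr⟩
  have hRn := Cfsg.Agent.Lib.Helper1.pCore_normal (G := G) r
  have hR := Cfsg.Agent.Lib.Helper1.pCore_isPGroup (G := G) r
  have := hRn
  obtain ⟨C, hC⟩ := exists_crit r (Cfsg.pCore r G) hR
  have hnab : ∃ a ∈ C, ∃ b ∈ C, a * b ≠ b * a := by
    by_contra hcon
    push Not at hcon
    have hCc := hcen C hC.normal hcon
    have hle : Cfsg.pCore r G ≤ C := fun g hg => hC.self_cent g hg (fun c hc => (hCc c hc g).symm)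
    exact hab (hcon a (hle ha) b (hle hb))
  have hZn := Zc_normal hC.normal
  have hA := h.FL hZn (Zc_comm C)
  have hS := exists_sympT ρ h.inj hr hC hA hnab
  obtain ⟨M, hM⟩ := SympT.exists_sq hr _ C rfl hS
  have hM2 : 2 ≤ M := by
    by_contra hlt
    have hM1 : M ^ 2 ≤ 1 := by
      have : M ≤ 1 := by omega
      exact Nat.pow_le_one_iff (by norm_num) |>.mpr this
    have hle : Nat.card C ≤ Nat.card (Zc C) := by
      rw [hM]
      calc M ^ 2 * Nat.card (Zc C) ≤ 1 * Nat.card (Zc C) := Nat.mul_le_mul_right _ hM1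
        _ = Nat.card (Zc C) := one_mul _
    have heq : Zc C = C := Subgroup.eq_of_le_of_card_ge (Zc_le C) hle
    obtain ⟨a', ha', b', hb', hab'⟩ := hnab
    have ha'' : a' ∈ Zc C := by rw [heq]; exact ha'
    have hb'' : b' ∈ Zc C := by rw [heq]; exact hb'
    exact hab' (Zc_comm C a' ha'' b' hb'')
  obtain ⟨hB, hr2⟩ := bdata_of_crit ρ h.inj hr hR hC hA hS M hM (by omega)
    (by rw [hn]; exact even_two)
  refine ⟨?_, C, hB⟩
  rintro rfl
  have hb0 := h.pCore_q_eq_bot
  rw [hr2] at ha hb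
  rw [hb0, Subgroup.mem_bot] at ha hb
  rw [ha, hb] at hab
  exact hab rfl

theorem abel_26G [Finite G] [Finite V] [Nontrivial V] (hn : finrank (ZMod q) V = 6)
    (hsl : ¬ Good ρ) {N : Subgroup G} (hNn : N.Normal)
    (hN : ∀ a ∈ N, ∀ b ∈ N, a * b = b * a) :
    ∃ d : ℕ, 1 ≤ d ∧ d ≤ 5 ∧ Nat.card (algOf ρ N) = q ^ d ∧ Nat.card N ∣ q ^ d - 1 := by
  have hA := h.FL hNn hN
  have h1 := hA.finrank_pos
  have h2 := hA.finrank_le
  have h3 := hA.card_eq
  rw [hn] at h2
  refine ⟨finrank (ZMod q) (algOf ρ N), h1, ?_, h3, ?_⟩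
  · by_contra hlt
    have h6 : finrank (ZMod q) (algOf ρ N) = 6 := by omega
    apply hsl
    apply h.good_of_card hNn hN
    rw [h3, natCard_eq_pow (q := q) V, hn, h6]
  · have h4 := h.card_dvd_units hNn hN
    rw [h3] at h4
    exact h4

theorem case_AG [Finite G] [Finite V] [Nontrivial V] (hsol : Group.IsSolvable G) (hq : q = 2)
    (hn : finrank (ZMod q) V = 6) (hsl : ¬ Good ρ) (h7 : Cfsg.pCore 7 G = ⊥) : False := by
  have := hsol
  haveI : Fact (Nat.Prime 7) := ⟨by norm_num⟩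
  haveI : Fact (Nat.Prime 3) := ⟨Nat.prime_three⟩
  have hp7 : (7 : ℕ).Prime := by norm_num
  have hp3 : (3 : ℕ).Prime := Nat.prime_three
  have hV : Nat.card V = 64 := by
    rw [natCard_eq_pow (q := q) V, hn]
    have e : q ^ 6 = 2 ^ 6 := by rw [hq]
    rw [e]; norm_num
  have hdvd := h.card_sub_one_dvd
  rw [hV] at hdvd
  have h7d : 7 ∣ Nat.card G := Dvd.dvd.trans (by norm_num) hdvd
  obtain ⟨y, hy⟩ := exists_prime_orderOf_dvd_card' 7 h7d
  have hy1 : y ≠ 1 := by
    rintro rfl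
    rw [orderOf_one] at hy
    omega
  have hy7 : y ^ 7 = 1 := by rw [← hy]; exact pow_orderOf_eq_one y
  obtain ⟨r, hr, g, hg, hyg⟩ := exists_noncentral_of_bot h7 hy1 hy7
  have hrne : Cfsg.pCore r G ≠ ⊥ := by
    intro hb
    rw [hb, Subgroup.mem_bot] at hg
    subst hg
    exact hyg (by rw [mul_one, one_mul])
  have hr3 : r = 3 := by
    rcases h.core_26 hq hn hr hrne with h3 | h7'
    · exact h3
    · exfalso; subst h7'; exact hrne h7
  subst hr3
  have hRn := Cfsg.Agent.Lib.Helper1.pCore_normal (G := G) 3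
  have hR := Cfsg.Agent.Lib.Helper1.pCore_isPGroup (G := G) 3
  have := hRn
  obtain ⟨C, hC⟩ := exists_crit 3 (Cfsg.pCore 3 G) hR
  have hxC : ¬ ∀ c ∈ C, y * c = c * y := fun hc =>
    hyg (hC.cent_of_cent hRn hR hp3 hp7 (by norm_num) hy7 hc g hg)
  have hsmall : ∀ N : Subgroup G, N.Normal → (∀ a ∈ N, ∀ b ∈ N, a * b = b * a) →
      IsPGroup 3 N → ∀ b ∈ N, y * b = b * y := by
    intro N hNn hN hNp
    obtain ⟨d, hd1, hd5, _, hdv⟩ := h.abel_26G hn hsl hNn hN
    obtain ⟨k, hk⟩ := IsPGroup.iff_card.mp hNp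
    have hk1 : k ≤ 1 := by
      by_contra hk2
      push Not at hk2
      have h9 : 9 ∣ q ^ d - 1 := by
        refine Dvd.dvd.trans ?_ hdv
        rw [hk]
        have e9 : (9 : ℕ) = 3 ^ 2 := by norm_num
        rw [e9]
        exact pow_dvd_pow 3 hk2
      rw [hq] at h9
      interval_cases d <;> omega
    have hle : Nat.card N ≤ 3 := by
      rw [hk]
      interval_cases k <;> norm_num
    exact cent_of_small hp7 hy7 N (normal_conj_iff hNn y) (by omega)
  have hC3 : IsPGroup 3 C := hR.to_le hC.le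
  have hCab : ¬ ∀ a ∈ C, ∀ b ∈ C, a * b = b * a := fun hab =>
    hxC (hsmall C hC.normal hab hC3)
  have hZn := Zc_normal hC.normal
  have hA := h.FL hZn (Zc_comm C)
  have hxZ := hsmall (Zc C) hZn (Zc_comm C) (hC3.to_le (Zc_le C))
  have hnab : ∃ a ∈ C, ∃ b ∈ C, a * b ≠ b * a := by
    push Not at hCab; exact hCab
  have hS := exists_sympT ρ h.inj hp3 hC hA hnab
  obtain ⟨M, hM⟩ := SympT.exists_sq hp3 _ C rfl hS
  have hcomm : ∀ a ∈ C, ∀ b ∈ C, cm a b ∈ Zc C := fun a ha b hb => hC.comm a ha b (hC.le hb)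
  obtain ⟨hQ, hMn⟩ := crit_M_le ρ h.inj hcomm hA M hM
  rw [hn] at hMn
  have hM5 : M + 1 < 7 := by
    by_contra hcon
    have hM6 : M = 6 := by omega
    obtain ⟨k, hk⟩ := IsPGroup.iff_card.mp hC3
    have h36 : 2 ∣ 3 ^ k := by
      rw [← hk, hM, hM6]
      exact Dvd.dvd.mul_right (by norm_num) _
    have := Nat.Prime.dvd_of_dvd_pow Nat.prime_two h36
    omega
  have h1 := SympT.triv_of_small hp3 hp7 (by norm_num) y hy7
    (fun z (hz : z ∈ muSub C 3) => hxZ z hz.1) _ C rfl hS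
    (normal_conj_iff hC.normal y) M hM hM5
  exact hxC (cent_of_cmx_mem hC.le hR hp3 hp7 (by norm_num) hy7 hxZ h1)

theorem case_B1G [Finite G] [Finite V] [Nontrivial V] (hq : q = 2)
    (hn : finrank (ZMod q) V = 6) (hsl : ¬ Good ρ) (h3 : Cfsg.pCore 3 G ≠ ⊥)
    (h7 : Cfsg.pCore 7 G ≠ ⊥) : False := by
  haveI : Fact (Nat.Prime 7) := ⟨by norm_num⟩
  haveI : Fact (Nat.Prime 3) := ⟨Nat.prime_three⟩
  obtain ⟨z3, hz3, hz31, hz33⟩ := exists_elt_of_pCore_ne_bot 3 h3
  obtain ⟨z7, hz7, hz71, hz77⟩ := exists_elt_of_pCore_ne_bot 7 h7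
  have hZn := Zc_normal (Cfsg.Agent.Lib.Helper1.fittingSubgroup_normal (G := G))
  have hN := Zc_comm (Cfsg.fittingSubgroup G)
  have m3 := Zc_pCore_le_Zc_fitting 3 hz3
  have m7 := Zc_pCore_le_Zc_fitting 7 hz7
  have c3 := h.card_modEq_one hZn hN m3 hz31 3 hz33
  have c7 := h.card_modEq_one hZn hN m7 hz71 7 hz77
  obtain ⟨d, hd1, hd5, hcard, _⟩ := h.abel_26G hn hsl hZn hN
  rw [hcard, hq] at c3 c7
  interval_cases d <;>
    first | exact absurd c3 (by decide) | exact absurd c7 (by decide)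

theorem case_B2G [Finite G] [Finite V] [Nontrivial V] (hsol : Group.IsSolvable G) (hq : q = 2)
    (hn : finrank (ZMod q) V = 6) (hsl : ¬ Good ρ) (h3 : Cfsg.pCore 3 G = ⊥) : False := by
  have := hsol
  haveI : Fact (Nat.Prime 7) := ⟨by norm_num⟩
  haveI : Fact (Nat.Prime 3) := ⟨Nat.prime_three⟩
  have hp7 : (7 : ℕ).Prime := by norm_num
  have hp3 : (3 : ℕ).Prime := Nat.prime_three
  have hV : Nat.card V = 64 := by
    rw [natCard_eq_pow (q := q) V, hn]
    have e : q ^ 6 = 2 ^ 6 := by rw [hq]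
    rw [e]; norm_num
  have hdvd := h.card_sub_one_dvd
  rw [hV] at hdvd
  have h9d : 9 ∣ Nat.card G := Dvd.dvd.trans (by norm_num) hdvd
  have h3d : 3 ∣ Nat.card G := Dvd.dvd.trans (by norm_num) hdvd
  have hRn := Cfsg.Agent.Lib.Helper1.pCore_normal (G := G) 7
  have hR := Cfsg.Agent.Lib.Helper1.pCore_isPGroup (G := G) 7
  have := hRn
  obtain ⟨C, hC⟩ := exists_crit 7 (Cfsg.pCore 7 G) hR
  have hmove : ∀ x : G, x ≠ 1 → x ^ 3 = 1 → ¬ ∀ c ∈ C, x * c = c * x := by
    intro x hx1 hx3 hc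
    obtain ⟨r, hr, g, hg, hxg⟩ := exists_noncentral_of_bot h3 hx1 hx3
    have hrne : Cfsg.pCore r G ≠ ⊥ := by
      intro hb
      rw [hb, Subgroup.mem_bot] at hg
      subst hg
      exact hxg (by rw [mul_one, one_mul])
    have hr7 : r = 7 := by
      rcases h.core_26 hq hn hr hrne with h3' | h7'
      · exfalso; subst h3'; exact hrne h3
      · exact h7'
    subst hr7
    exact hxg (hC.cent_of_cent hRn hR hp7 hp3 (by norm_num) hx3 hc g hg)
  have hC7 : IsPGroup 7 C := hR.to_le hC.le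
  have hCab : ∀ a ∈ C, ∀ b ∈ C, a * b = b * a := by
    by_contra hCab
    have hnab : ∃ a ∈ C, ∃ b ∈ C, a * b ≠ b * a := by
      push Not at hCab; exact hCab
    have hZn := Zc_normal hC.normal
    have hA := h.FL hZn (Zc_comm C)
    have hS := exists_sympT ρ h.inj hp7 hC hA hnab
    obtain ⟨M, hM⟩ := SympT.exists_sq hp7 _ C rfl hS
    have hcomm : ∀ a ∈ C, ∀ b ∈ C, cm a b ∈ Zc C := fun a ha b hb =>
      hC.comm a ha b (hC.le hb)
    obtain ⟨hQ, hMn⟩ := crit_M_le ρ h.inj hcomm hA M hM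
    rw [hn] at hMn
    obtain ⟨k, hk⟩ := IsPGroup.iff_card.mp hC7
    have hCpos : 0 < Nat.card C := Nat.card_pos
    have hMpos : 0 < M := by
      rcases Nat.eq_zero_or_pos M with h0 | h0
      · exfalso
        rw [h0] at hM
        norm_num at hM
        omega
      · exact h0
    have hcop : Nat.Coprime M 7 := by
      rw [Nat.coprime_comm, Nat.Prime.coprime_iff_not_dvd hp7]
      intro hd
      have := Nat.le_of_dvd hMpos hd
      omega
    have hdv : M ^ 2 ∣ 7 ^ k := by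
      rw [← hk, hM]
      exact Dvd.intro _ rfl
    have hM2 : M ^ 2 = 1 := Nat.Coprime.eq_one_of_dvd (Nat.Coprime.pow 2 k hcop) hdv
    rw [hM2, one_mul] at hM
    have hZeq : Zc C = C := Subgroup.eq_of_le_of_card_ge (Zc_le C) (le_of_eq hM)
    obtain ⟨a, ha, b, hb, hab⟩ := hnab
    have haZ : a ∈ Zc C := by rw [hZeq]; exact ha
    exact hab ((mem_Zc.mp haZ).2 b hb).symm
  obtain ⟨d, hd1, hd5, _, hdv⟩ := h.abel_26G hn hsl hC.normal hCab
  obtain ⟨k, hk⟩ := IsPGroup.iff_card.mp hC7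
  have hk1 : k ≤ 1 := by
    by_contra hk2
    push Not at hk2
    have h49 : 49 ∣ q ^ d - 1 := by
      refine Dvd.dvd.trans ?_ hdv
      rw [hk]
      have e49 : (49 : ℕ) = 7 ^ 2 := by norm_num
      rw [e49]
      exact pow_dvd_pow 7 hk2
    rw [hq] at h49
    interval_cases d <;> omega
  obtain ⟨x0, hx0⟩ := exists_prime_orderOf_dvd_card' 3 h3d
  have hx01 : x0 ≠ 1 := by
    rintro rfl
    rw [orderOf_one] at hx0
    omega
  have hx03 : x0 ^ 3 = 1 := by rw [← hx0]; exact pow_orderOf_eq_one x0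
  interval_cases k
  · have hsub : Subsingleton C := (Nat.card_eq_one_iff_unique.mp (by rw [hk]; norm_num)).1
    apply hmove x0 hx01 hx03
    intro c hc
    have hc1 : c = 1 := congrArg Subtype.val (Subsingleton.elim (⟨c, hc⟩ : C) 1)
    rw [hc1, mul_one, one_mul]
  · have hk7 : Nat.card C = 7 := by rw [hk]; norm_num
    haveI := hC.normal
    haveI : IsCyclic C := isCyclic_of_prime_card hk7
    have hAut : Nat.card (MulAut C) = 6 := by
      rw [IsCyclic.card_mulAut, hk7, Nat.totient_prime hp7]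
    have hG := card_eq_ker_mul_range (MulAut.conjNormal (H := C))
    have hr6 : Nat.card (MulAut.conjNormal (H := C)).range ∣ 6 := by
      rw [← hAut]; exact Subgroup.card_subgroup_dvd_card _
    have h3k : 3 ∣ Nat.card (MulAut.conjNormal (H := C)).ker := by
      by_contra hnd
      have hcop3 : Nat.Coprime 3 (Nat.card (MulAut.conjNormal (H := C)).ker) :=
        (Nat.Prime.coprime_iff_not_dvd hp3).mpr hnd
      have hcop : Nat.Coprime (3 ^ 2) (Nat.card (MulAut.conjNormal (H := C)).ker) :=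
        Nat.Coprime.pow_left 2 hcop3
      rw [hG] at h9d
      have h9r : 3 ^ 2 ∣ Nat.card (MulAut.conjNormal (H := C)).range :=
        hcop.dvd_of_dvd_mul_left (by norm_num; exact h9d)
      have := Nat.le_of_dvd (by norm_num) (h9r.trans hr6)
      omega
    obtain ⟨x, hx⟩ := exists_prime_orderOf_dvd_card' 3 h3k
    have hx' : orderOf (x : G) = 3 := by rw [Subgroup.orderOf_coe]; exact hx
    have hx1 : (x : G) ≠ 1 := by
      intro h1
      rw [h1, orderOf_one] at hx'
      omega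
    have hx3 : (x : G) ^ 3 = 1 := by rw [← hx']; exact pow_orderOf_eq_one _
    apply hmove (x : G) hx1 hx3
    intro c hc
    have hxk := x.2
    rw [MonoidHom.mem_ker] at hxk
    have h5 := congrArg (fun f : MulAut C => ((f ⟨c, hc⟩ : C) : G)) hxk
    simp only [MulAut.conjNormal_apply, MulAut.one_apply] at h5
    calc (x : G) * c = ((x : G) * c * (x : G)⁻¹) * x := by group
      _ = c * x := by rw [h5]

/-- the case `(q, n) = (2, 6)` -/
theorem case26G [Finite G] [Finite V] [Nontrivial V] (hsol : Group.IsSolvable G) (hq : q = 2)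
    (hn : finrank (ZMod q) V = 6) : Good ρ := by
  by_contra hsl
  by_cases h7 : Cfsg.pCore 7 G = ⊥
  · exact h.case_AG hsol hq hn hsl h7
  · by_cases h3 : Cfsg.pCore 3 G = ⊥
    · exact h.case_B2G hsol hq hn hsl h3
    · exact h.case_B1G hq hn hsl h3 h7

/-- cardinality `81` is semilinear in the regular case -/
theorem good_81 [Finite G] [Finite V] [Nontrivial V] (hsol : Group.IsSolvable G)
    (hreg : Reg ρ) (hV : Nat.card V = 81) : Good ρ := by
  have hc := natCard_eq_pow (q := q) V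
  rw [hV] at hc
  have hnpos : 0 < finrank (ZMod q) V := Module.finrank_pos
  have hq3 : q = 3 := by
    have hqd : q ∣ 3 ^ 4 := by
      have h1 : q ∣ q ^ finrank (ZMod q) V := dvd_pow_self q hnpos.ne'
      rw [← hc] at h1
      have e : (81 : ℕ) = 3 ^ 4 := by norm_num
      rw [e] at h1
      exact h1
    exact (Nat.prime_dvd_prime_iff_eq Fact.out Nat.prime_three).mp
      ((Fact.out : q.Prime).dvd_of_dvd_pow hqd)
  have hn4 : finrank (ZMod q) V = 4 := by
    have e : q ^ finrank (ZMod q) V = 3 ^ finrank (ZMod q) V :=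
      congrArg (fun t => t ^ finrank (ZMod q) V) hq3
    rw [e] at hc
    have e2 : (81 : ℕ) = 3 ^ 4 := by norm_num
    rw [e2] at hc
    exact (Nat.pow_right_injective (le_refl 2 |>.trans (by norm_num : 2 ≤ 3)) hc).symm
  have hG : Nat.card G = 80 := by rw [h.card_of_reg hreg, hV]
  haveI : Fact (Nat.Prime 5) := ⟨by norm_num⟩
  obtain ⟨x, hx⟩ := exists_prime_orderOf_dvd_card' (G := G) 5 (by rw [hG]; norm_num)
  have hx1 : x ≠ 1 := by
    rintro rfl
    rw [orderOf_one] at hx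
    omega
  have hx5 : x ^ 5 = 1 := by rw [← hx]; exact pow_orderOf_eq_one x
  have hdvd : 5 ∣ q ^ finrank (ZMod q) V - 1 := by rw [← hc]; norm_num
  have hprim : ∀ k, 0 < k → k < finrank (ZMod q) V → ¬ 5 ∣ q ^ k - 1 := by
    intro k hk0 hk4
    rw [hn4] at hk4
    rw [hq3]
    interval_cases k <;> norm_num
  rcases ppd_dichotomyG hsol ρ h (by norm_num) hx1 hx5 hdvd hprim (by omega) with
    hs | ⟨_, _, C, hB⟩
  · exact hs
  · exfalso
    have hcard := hB.card
    rw [hn4] at hcard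
    have hCd : Nat.card C ∣ 80 := by
      rw [← hG]; exact Subgroup.card_subgroup_dvd_card C
    have hμ : 2 ∣ Nat.card (Zc C) := by
      have h2 := Subgroup.card_dvd_of_le hB.symp.mu_le
      rwa [hB.symp.mu_card] at h2
    rw [hcard] at hCd
    obtain ⟨t, ht⟩ := hμ
    rw [ht] at hCd
    have h32 : 32 ∣ 80 := Dvd.dvd.trans ⟨t, by ring⟩ hCd
    norm_num at h32

/-- cardinality `9` is semilinear in the regular case -/
theorem good_9 [Finite G] [Finite V] [Nontrivial V] (hreg : Reg ρ)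
    (hV : Nat.card V = 9) : Good ρ := by
  have hc := natCard_eq_pow (q := q) V
  rw [hV] at hc
  have hnpos : 0 < finrank (ZMod q) V := Module.finrank_pos
  have hq3 : q = 3 := by
    have hqd : q ∣ 3 ^ 2 := by
      have h1 : q ∣ q ^ finrank (ZMod q) V := dvd_pow_self q hnpos.ne'
      rw [← hc] at h1
      have e : (9 : ℕ) = 3 ^ 2 := by norm_num
      rw [e] at h1
      exact h1
    exact (Nat.prime_dvd_prime_iff_eq Fact.out Nat.prime_three).mp
      ((Fact.out : q.Prime).dvd_of_dvd_pow hqd)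
  have hn2 : finrank (ZMod q) V = 2 := by
    have e : q ^ finrank (ZMod q) V = 3 ^ finrank (ZMod q) V :=
      congrArg (fun t => t ^ finrank (ZMod q) V) hq3
    rw [e] at hc
    have e2 : (9 : ℕ) = 3 ^ 2 := by norm_num
    rw [e2] at hc
    exact (Nat.pow_right_injective (by norm_num : 2 ≤ 3) hc).symm
  have hG : Nat.card G = 8 := by rw [h.card_of_reg hreg, hV]
  obtain ⟨N, hNn, hN, h4⟩ : ∃ N : Subgroup G, N.Normal ∧ (∀ a ∈ N, ∀ b ∈ N, a * b = b * a) ∧
      4 ∣ Nat.card N := by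
    by_cases hall : ∀ g : G, g ^ 2 = 1
    · refine ⟨⊤, inferInstance, ?_, ?_⟩
      · intro a _ b _
        have ha' : a⁻¹ = a := inv_eq_of_mul_eq_one_left (by rw [← pow_two]; exact hall a)
        have hb' : b⁻¹ = b := inv_eq_of_mul_eq_one_left (by rw [← pow_two]; exact hall b)
        have hab' : (a * b)⁻¹ = a * b :=
          inv_eq_of_mul_eq_one_left (by rw [← pow_two]; exact hall (a * b))
        calc a * b = (a * b)⁻¹ := hab'.symm
          _ = b⁻¹ * a⁻¹ := mul_inv_rev a b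
          _ = b * a := by rw [ha', hb']
      · rw [Subgroup.card_top, hG]; norm_num
    · push Not at hall
      obtain ⟨g, hg⟩ := hall
      have hord : orderOf g ∣ 8 := by rw [← hG]; exact orderOf_dvd_natCard g
      have h2 : ¬ orderOf g ∣ 2 := fun hd => hg (orderOf_dvd_iff_pow_eq_one.mp hd)
      have hcz : Nat.card (Subgroup.zpowers g) = orderOf g := Nat.card_zpowers g
      have h4 : 4 ∣ orderOf g := by
        have hle : orderOf g ≤ 8 := Nat.le_of_dvd (by norm_num) hord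
        generalize orderOf g = o at hord h2 hle
        interval_cases o <;> omega
      refine ⟨Subgroup.zpowers g, ?_, ?_, by rw [hcz]; exact h4⟩
      · have hmi := Subgroup.card_mul_index (Subgroup.zpowers g)
        rw [hcz, hG] at hmi
        have hle : orderOf g ≤ 8 := Nat.le_of_dvd (by norm_num) hord
        obtain ⟨t, ht⟩ := h4
        have hopos : 0 < orderOf g := Nat.pos_of_dvd_of_pos hord (by norm_num)
        have ht12 : t = 1 ∨ t = 2 := by omega
        rcases ht12 with h1 | h1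
        · apply Subgroup.normal_of_index_eq_two
          rw [ht, h1] at hmi
          omega
        · have htop : Subgroup.zpowers g = ⊤ := by
            apply Subgroup.eq_top_of_card_eq
            rw [hcz, hG, ht, h1]
          rw [htop]; infer_instance
      · intro a ha b hb
        obtain ⟨i, rfl⟩ := Subgroup.mem_zpowers_iff.mp ha
        obtain ⟨j, rfl⟩ := Subgroup.mem_zpowers_iff.mp hb
        rw [← zpow_add, ← zpow_add, add_comm]
  have hA := h.FL hNn hN
  have hd1 := hA.finrank_pos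
  have hd2 := hA.finrank_le
  rw [hn2] at hd2
  have hdv := h.card_dvd_units hNn hN
  rw [hA.card_eq] at hdv
  have hd : finrank (ZMod q) (algOf ρ N) = 2 := by
    by_contra hne
    have hd1' : finrank (ZMod q) (algOf ρ N) = 1 := by omega
    rw [hd1', pow_one, hq3] at hdv
    have := h4.trans hdv
    omega
  apply h.good_of_card hNn hN
  rw [hA.card_eq, hd, natCard_eq_pow (q := q) V, hn2]

/-- the regular case: semilinear or dimension two with `q ∈ {5, 7, 11, 23}` -/
theorem reg_casesG [Finite G] [Finite V] [Nontrivial V] (hsol : Group.IsSolvable G)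
    (hreg : Reg ρ) :
    Good ρ ∨ (finrank (ZMod q) V = 2 ∧ (∃ C : Subgroup G, BData ρ C) ∧
      (q = 5 ∨ q = 7 ∨ q = 11 ∨ q = 23)) := by
  by_cases hsl : Good ρ
  · left; exact hsl
  right
  have hpos : 0 < finrank (ZMod q) V := Module.finrank_pos
  rcases Nat.lt_or_ge (finrank (ZMod q) V) 3 with hlt | hge
  · have h12 : finrank (ZMod q) V = 1 ∨ finrank (ZMod q) V = 2 := by omega
    rcases h12 with h1 | h2
    · exact absurd (h.good_of_finrank_one h1) hsl
    · obtain ⟨hq2, C, hB⟩ := h.structure_twoG hsol h2 hsl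
      refine ⟨h2, ⟨C, hB⟩, ?_⟩
      have hd := hB.card_dvd h.inj h2
      have hV := h.card_sub_one_dvd
      have hc : Nat.card V = q ^ 2 := by rw [natCard_eq_pow (q := q) V, h2]
      rw [hc] at hV
      rcases arith_two q Fact.out hq2 (hV.trans hd) with r | r | r | r | r
      · exfalso
        apply hsl
        apply h.good_9 hreg
        rw [hc]
        have e : q ^ 2 = 3 ^ 2 := congrArg (fun t => t ^ 2) r
        rw [e]; norm_num
      · left; exact r
      · right; left; exact r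
      · right; right; left; exact r
      · right; right; right; exact r
  · exfalso
    by_cases h26 : q = 2 ∧ finrank (ZMod q) V = 6
    · exact hsl (h.case26G hsol h26.1 h26.2)
    · rcases main_ge3G hsol ρ h hge h26 with r | r
      · exact hsl r
      · exact hsl (h.good_81 hsol hreg r)

end Hyp

end Cfsg.Agent.Lib.Helper6.Hup
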