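import Cfsg.Agent.Lib.Helper6.HgA

set_option autoImplicit false

/-! The sharper alternative gives an irreducible cyclic normal subgroup. -/

namespace Cfsg.Agent.Lib.Helper6.Hup

open Module

variable {q : ℕ} [Fact q.Prime] {V : Type*} [AddCommGroup V] [Module (ZMod q) V]
  {G : Type*} [Group G]

theorem algOf_invariant (ρ : G →* (V ≃ₗ[ZMod q] V)) (N : Subgroup G)
    (W : Submodule (ZMod q) V) (hW : ∀ n ∈ N, ∀ v ∈ W, ρ n v ∈ W) :
    ∀ a ∈ algOf ρ N, ∀ v ∈ W, a v ∈ W := by
  intro a ha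
  induction ha using Algebra.adjoin_induction with
  | mem x hx =>
    obtain ⟨n, hn, rfl⟩ := hx
    intro v hv
    exact hW n hn v hv
  | algebraMap r =>
    intro v hv
    rw [Module.algebraMap_end_apply]
    exact W.smul_mem r hv
  | add x y _ _ hx hy =>
    intro v hv
    rw [LinearMap.add_apply]
    exact W.add_mem (hx v hv) (hy v hv)
  | mul x y _ _ hx hy =>
    intro v hv
    rw [Module.End.mul_apply]
    exact hx _ (hy v hv)

namespace Hyp

variable {ρ : G →* (V ≃ₗ[ZMod q] V)} (h : Hyp ρ)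
include h

theorem cyclic_of_abel [Finite G] [Finite V] [Nontrivial V] {N : Subgroup G} (hNn : N.Normal)
    (hN : ∀ a ∈ N, ∀ b ∈ N, a * b = b * a) : IsCyclic N := by
  have hA := h.FL hNn hN
  letI : Field (algOf ρ N) := hA.isField.toField
  let f : N →* algOf ρ N :=
    { toFun := fun z => ⟨Lh ρ (z : G), Lh_mem_algOf ρ z.2⟩
      map_one' := Subtype.ext (map_one (Lh ρ))
      map_mul' := fun a b => Subtype.ext (map_mul (Lh ρ) _ _) }
  have hf : Function.Injective f := by
    intro a b hab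
    apply Subtype.ext
    apply Lh_injective ρ h.inj
    exact congrArg Subtype.val hab
  exact isCyclic_of_injective_ringHom f hf

theorem irred_of_card [Finite V] [Nontrivial V] {N : Subgroup G} (hNn : N.Normal)
    (hN : ∀ a ∈ N, ∀ b ∈ N, a * b = b * a) (hc : Nat.card (algOf ρ N) = Nat.card V)
    (W : Submodule (ZMod q) V) (hW0 : W ≠ ⊥) (hW : ∀ n ∈ N, ∀ v ∈ W, ρ n v ∈ W) : W = ⊤ := by
  have hA := h.FL hNn hN
  obtain ⟨w, hwW, hw0⟩ := Submodule.exists_mem_ne_zero_of_ne_bot hW0
  have hinj := hA.eval_injective hw0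
  have hbij := hinj.bijective_of_nat_card_le (le_of_eq hc.symm)
  rw [eq_top_iff]
  intro v _
  obtain ⟨a, ha⟩ := hbij.2 v
  rw [← ha]
  exact algOf_invariant ρ N W hW a a.2 w hwW

end Hyp

end Cfsg.Agent.Lib.Helper6.Hup
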