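import Mathlib
import Cfsg.Prelude.Def_Perm

set_option autoImplicit false

/-! Semiaffine groups of a finite field: explicit permutations and cardinalities. -/

namespace Cfsg.Agent.Lib.Helper6.Hq

open Cfsg

section Field

variable {F : Type*} [Field F]

/-- the semiaffine permutation `x ↦ a * σ x + b` -/
def slPerm (a : Fˣ) (σ : F ≃+* F) (b : F) : Equiv.Perm F where
  toFun x := (a : F) * σ x + b
  invFun x := σ.symm (((a⁻¹ : Fˣ) : F) * (x - b))
  left_inv x := by
    simp only [add_sub_cancel_right, ← mul_assoc, Units.inv_mul, one_mul,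
      RingEquiv.symm_apply_apply]
  right_inv x := by
    simp only [RingEquiv.apply_symm_apply, ← mul_assoc, Units.mul_inv, one_mul, sub_add_cancel]

theorem slPerm_apply (a : Fˣ) (σ : F ≃+* F) (b : F) (x : F) :
    slPerm a σ b x = (a : F) * σ x + b := rfl

theorem slPerm_inj {a a' : Fˣ} {σ σ' : F ≃+* F} {b b' : F}
    (h : slPerm a σ b = slPerm a' σ' b') : a = a' ∧ σ = σ' ∧ b = b' := by
  have h0 := Equiv.congr_fun h 0
  simp only [slPerm_apply, map_zero, mul_zero, zero_add] at h0
  have h1 := Equiv.congr_fun h 1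
  simp only [slPerm_apply, map_one, mul_one] at h1
  subst h0
  have ha : (a : F) = a' := add_right_cancel h1
  have ha' : a = a' := Units.ext ha
  subst ha'
  refine ⟨rfl, ?_, rfl⟩
  ext x
  have hx := Equiv.congr_fun h x
  simp only [slPerm_apply] at hx
  have := add_right_cancel hx
  exact mul_left_cancel₀ a.ne_zero this

theorem mem_semiaffine_iff (f : Equiv.Perm F) :
    f ∈ semiaffineGroup F ↔ ∃ a σ b, f = slPerm a σ b := by
  constructor
  · rintro ⟨a, b, σ, h⟩
    exact ⟨a, σ, b, Equiv.ext h⟩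
  · rintro ⟨a, σ, b, rfl⟩
    exact ⟨a, b, σ, fun x => rfl⟩

theorem mem_affine_iff (f : Equiv.Perm F) :
    f ∈ affineGroup F ↔ ∃ a b, f = slPerm a (RingEquiv.refl F) b := by
  constructor
  · rintro ⟨a, b, h⟩
    exact ⟨a, b, Equiv.ext h⟩
  · rintro ⟨a, b, rfl⟩
    exact ⟨a, b, fun x => rfl⟩

theorem card_units_eq [Finite F] : Nat.card Fˣ = Nat.card F - 1 := by
  classical
  have := Fintype.ofFinite F
  rw [Nat.card_eq_fintype_card, Nat.card_eq_fintype_card, Fintype.card_units]

theorem card_semiaffine [Finite F] :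
    Nat.card (semiaffineGroup F) = Nat.card F * (Nat.card F - 1) * Nat.card (F ≃+* F) := by
  have e : (Fˣ × (F ≃+* F) × F) ≃ semiaffineGroup F :=
    Equiv.ofBijective
      (fun t => ⟨slPerm t.1 t.2.1 t.2.2, (mem_semiaffine_iff _).mpr ⟨_, _, _, rfl⟩⟩) (by
        constructor
        · rintro ⟨a, σ, b⟩ ⟨a', σ', b'⟩ h
          have h' := slPerm_inj (congrArg Subtype.val h)
          obtain ⟨h1, h2, h3⟩ := h'
          simp only at h1 h2 h3
          subst h1 h2 h3
          rfl
        · rintro ⟨f, hf⟩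
          obtain ⟨a, σ, b, rfl⟩ := (mem_semiaffine_iff f).mp hf
          exact ⟨⟨a, σ, b⟩, rfl⟩)
  rw [← Nat.card_congr e, Nat.card_prod, Nat.card_prod, card_units_eq]
  ring

theorem card_affine [Finite F] :
    Nat.card (affineGroup F) = Nat.card F * (Nat.card F - 1) := by
  have e : (Fˣ × F) ≃ affineGroup F :=
    Equiv.ofBijective
      (fun t => ⟨slPerm t.1 (RingEquiv.refl F) t.2, (mem_affine_iff _).mpr ⟨_, _, rfl⟩⟩) (by
        constructor
        · rintro ⟨a, b⟩ ⟨a', b'⟩ h
          have h' := slPerm_inj (congrArg Subtype.val h)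
          obtain ⟨h1, -, h3⟩ := h'
          simp only at h1 h3
          subst h1 h3
          rfl
        · rintro ⟨f, hf⟩
          obtain ⟨a, b, rfl⟩ := (mem_affine_iff f).mp hf
          exact ⟨⟨a, b⟩, rfl⟩)
  rw [← Nat.card_congr e, Nat.card_prod, card_units_eq]
  ring

/-- the semilinear group of degree one: semiaffine maps fixing zero -/
def GL1 (F : Type*) [Field F] : Subgroup (Equiv.Perm F) :=
  semiaffineGroup F ⊓ MulAction.stabilizer (Equiv.Perm F) (0 : F)

theorem mem_GL1_iff (f : Equiv.Perm F) : f ∈ GL1 F ↔ ∃ a σ, f = slPerm a σ 0 := by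
  constructor
  · rintro ⟨h1, h2⟩
    obtain ⟨a, σ, b, rfl⟩ := (mem_semiaffine_iff f).mp h1
    have h3 : slPerm a σ b 0 = 0 := h2
    simp only [slPerm_apply, map_zero, mul_zero, zero_add] at h3
    subst h3
    exact ⟨a, σ, rfl⟩
  · rintro ⟨a, σ, rfl⟩
    refine ⟨(mem_semiaffine_iff _).mpr ⟨_, _, _, rfl⟩, ?_⟩
    show slPerm a σ 0 0 = 0
    simp only [slPerm_apply, map_zero, mul_zero, zero_add]

theorem card_GL1 [Finite F] :
    Nat.card (GL1 F) = (Nat.card F - 1) * Nat.card (F ≃+* F) := by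
  have e : (Fˣ × (F ≃+* F)) ≃ GL1 F :=
    Equiv.ofBijective
      (fun t => ⟨slPerm t.1 t.2 0, (mem_GL1_iff _).mpr ⟨_, _, rfl⟩⟩) (by
        constructor
        · rintro ⟨a, σ⟩ ⟨a', σ'⟩ h
          have h' := slPerm_inj (congrArg Subtype.val h)
          obtain ⟨h1, h2, -⟩ := h'
          simp only at h1 h2
          subst h1 h2
          rfl
        · rintro ⟨f, hf⟩
          obtain ⟨a, σ, rfl⟩ := (mem_GL1_iff f).mp hf
          exact ⟨⟨a, σ⟩, rfl⟩)
  rw [← Nat.card_congr e, Nat.card_prod, card_units_eq]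

end Field

/-- the automorphism group of the Galois field of order `p ^ n` has order `n` -/
theorem card_ringAut (p n : ℕ) [Fact p.Prime] (hn : n ≠ 0) :
    Nat.card (GaloisField p n ≃+* GaloisField p n) = n := by
  have h1 := IsGalois.card_aut_eq_finrank (ZMod p) (GaloisField p n)
  rw [GaloisField.finrank p hn] at h1
  refine Eq.trans (Nat.card_congr ?_) h1
  refine
    { toFun := fun σ => AlgEquiv.ofRingEquiv (f := σ) (fun x => ?_)
      invFun := fun τ => τ.toRingEquiv
      left_inv := fun σ => by ext x; rfl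
      right_inv := fun τ => by ext x; rfl }
  have : (σ : GaloisField p n →+* GaloisField p n).comp (algebraMap (ZMod p) (GaloisField p n)) =
      algebraMap (ZMod p) (GaloisField p n) := Subsingleton.elim _ _
  exact RingHom.congr_fun this x

/-- the arithmetic of transitivity on planes -/
theorem plane_arith (p n : ℕ) (hp : p.Prime) (hn : 3 ≤ n)
    (h : p ^ (n - 1) - 1 ∣ n * (p ^ 2 - 1)) : n = 3 ∨ (n = 5 ∧ p = 2) := by
  have hp2 : 2 ≤ p := hp.two_le
  have hsq : 4 ≤ p ^ 2 := by nlinarith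
  rcases Nat.lt_or_ge n 6 with hlt | hge
  · have hn' : n = 3 ∨ n = 4 ∨ n = 5 := by omega
    rcases hn' with rfl | rfl | rfl
    · left; rfl
    · exfalso
      have e1 : p ^ (4 - 1) - 1 = (p - 1) * (p ^ 2 + p + 1) := by
        obtain ⟨m, rfl⟩ : ∃ m, p = m + 1 := ⟨p - 1, by omega⟩
        simp only [Nat.add_sub_cancel]
        have : (m + 1) ^ (4 - 1) = m * ((m + 1) ^ 2 + (m + 1) + 1) + 1 := by ring
        omega
      have e2 : 4 * (p ^ 2 - 1) = (p - 1) * (4 * (p + 1)) := by
        obtain ⟨m, rfl⟩ : ∃ m, p = m + 1 := ⟨p - 1, by omega⟩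
        simp only [Nat.add_sub_cancel]
        have : (m + 1) ^ 2 = m * (m + 2) + 1 := by ring
        rw [this, Nat.add_sub_cancel]
        ring
      rw [e1, e2] at h
      have h3 : p ^ 2 + p + 1 ∣ 4 * (p + 1) :=
        (Nat.mul_dvd_mul_iff_left (by omega : 0 < p - 1)).mp h
      obtain ⟨k, hk⟩ := h3
      rcases Nat.lt_or_ge k 2 with hk2 | hk2
      · have hk' : k = 0 ∨ k = 1 := by omega
        rcases hk' with rfl | rfl
        · omega
        · rcases Nat.lt_or_ge p 4 with h4 | h4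
          · have : p = 2 ∨ p = 3 := by omega
            rcases this with rfl | rfl <;> omega
          · nlinarith
      · nlinarith
    · right
      refine ⟨rfl, ?_⟩
      have e1 : p ^ (5 - 1) - 1 = (p ^ 2 - 1) * (p ^ 2 + 1) := by
        obtain ⟨m, hm⟩ : ∃ m, p ^ 2 = m + 1 := ⟨p ^ 2 - 1, by omega⟩
        have : p ^ (5 - 1) = (p ^ 2) ^ 2 := by ring
        rw [this, hm]
        simp only [Nat.add_sub_cancel]
        have : (m + 1) ^ 2 = m * (m + 1 + 1) + 1 := by ring
        rw [this, Nat.add_sub_cancel]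
      rw [e1, mul_comm 5 _] at h
      have h3 : p ^ 2 + 1 ∣ 5 := (Nat.mul_dvd_mul_iff_left (by omega : 0 < p ^ 2 - 1)).mp h
      have h4 := Nat.le_of_dvd (by norm_num) h3
      have : p < 3 := by nlinarith
      omega
  · exfalso
    have h2n : ∀ m : ℕ, 6 ≤ m → m + 1 ≤ 2 ^ (m - 3) := by
      intro m hm
      induction m, hm using Nat.le_induction with
      | base => norm_num
      | succ m hm ih =>
        have : m + 1 - 3 = (m - 3) + 1 := by omega
        rw [this, pow_succ]
        omega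
    have h5 : 2 ^ (n - 3) ≤ p ^ (n - 3) := Nat.pow_le_pow_left hp2 _
    have h6 : p ^ (n - 1) = p ^ 2 * p ^ (n - 3) := by
      rw [← pow_add]; congr 1; omega
    have h7 : (n + 1) * p ^ 2 ≤ p ^ (n - 1) := by
      rw [h6, mul_comm]
      exact Nat.mul_le_mul_left _ ((h2n n hge).trans h5)
    have hpos : 0 < n * (p ^ 2 - 1) := Nat.mul_pos (by omega) (by omega)
    have h8 := Nat.le_of_dvd hpos h
    have h9 : n * (p ^ 2 - 1) + n = n * p ^ 2 := by
      obtain ⟨m, hm⟩ : ∃ m, p ^ 2 = m + 1 := ⟨p ^ 2 - 1, by omega⟩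
      rw [hm, Nat.add_sub_cancel]; ring
    have h10 : (n + 1) * p ^ 2 = n * p ^ 2 + p ^ 2 := by ring
    omega

end Cfsg.Agent.Lib.Helper6.Hq
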