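import Mathlib
import Cfsg.Agent.Lib.Helper2.ElusC
import Cfsg.Agent.Lib.Helper6.HupX

set_option autoImplicit false

/-! Transitivity on planes: orbit counting; the exceptional case `3 ^ 4`. -/

namespace Cfsg.Agent.Lib.Helper6.Hq

open Module Pointwise

variable {p : ℕ} [Fact p.Prime] {V : Type*} [AddCommGroup V] [Module (ZMod p) V]

theorem finite_linEquiv [Finite V] : Finite (V ≃ₗ[ZMod p] V) :=
  Finite.of_injective (fun f => (f : V → V)) DFunLike.coe_injective

/-- scalar multiplications -/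
abbrev scal (p : ℕ) [Fact p.Prime] (V : Type*) [AddCommGroup V] [Module (ZMod p) V] :
    (ZMod p)ˣ →* (V ≃ₗ[ZMod p] V) := DistribMulAction.toModuleAut (ZMod p) V

theorem scal_apply (c : (ZMod p)ˣ) (v : V) : scal p V c v = (c : ZMod p) • v := rfl

theorem scal_injective [Nontrivial V] : Function.Injective (scal p V) := by
  intro c d h
  obtain ⟨v, hv⟩ := exists_ne (0 : V)
  have h1 := LinearEquiv.congr_fun h v
  rw [scal_apply, scal_apply] at h1
  have h2 : ((c : ZMod p) - (d : ZMod p)) • v = 0 := by rw [sub_smul, h1, sub_self]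
  rcases smul_eq_zero.mp h2 with h3 | h3
  · exact Units.ext (sub_eq_zero.mp h3)
  · exact absurd h3 hv

theorem scal_commute (c : (ZMod p)ˣ) (γ : V ≃ₗ[ZMod p] V) : γ * scal p V c = scal p V c * γ := by
  ext v
  show γ ((c : ZMod p) • v) = (c : ZMod p) • γ v
  rw [map_smul]

theorem card_planes [Finite V] :
    Nat.card {W : Submodule (ZMod p) V // finrank (ZMod p) W = 2} * ((p ^ 2 - 1) * (p - 1)) =
      (p ^ finrank (ZMod p) V - 1) * (p ^ (finrank (ZMod p) V - 1) - 1) ∨
      finrank (ZMod p) V < 2 := by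
  rcases Nat.lt_or_ge (finrank (ZMod p) V) 2 with h | h
  · right; exact h
  left
  have h1 := Cfsg.Agent.Lib.Helper2.Elus.card_subspaces_mul' (F := ZMod p) (V := V) 2 h
  rw [Fin.prod_univ_two, Fin.prod_univ_two, ZMod.card] at h1
  simpa using h1

/-- counting planes by orbit and stabilizer -/
theorem planes_dvd [Finite V] (Γ : Subgroup (V ≃ₗ[ZMod p] V)) (U : Subgroup (ZMod p)ˣ)
    (hZ : ∀ c ∈ U, scal p V c ∈ Γ)
    (h2 : ∀ W W' : Submodule (ZMod p) V, finrank (ZMod p) W = 2 → finrank (ZMod p) W' = 2 →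
      ∃ γ ∈ Γ, W.map ((γ : V ≃ₗ[ZMod p] V) : V →ₗ[ZMod p] V) = W')
    (hn : 2 ≤ finrank (ZMod p) V) :
    Nat.card {W : Submodule (ZMod p) V // finrank (ZMod p) W = 2} * Nat.card U ∣ Nat.card Γ := by
  have hp := (Fact.out : p.Prime)
  have hfin : Finite (V ≃ₗ[ZMod p] V) := finite_linEquiv
  have hnt : Nontrivial V := by
    apply Module.nontrivial_of_finrank_pos (R := ZMod p)
    omega
  -- a plane exists
  have hne : Nonempty {W : Submodule (ZMod p) V // finrank (ZMod p) W = 2} := by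
    rcases card_planes (p := p) (V := V) with h | h
    · have hpos : 0 < (p ^ finrank (ZMod p) V - 1) * (p ^ (finrank (ZMod p) V - 1) - 1) := by
        apply Nat.mul_pos
        · have : 2 ^ finrank (ZMod p) V ≤ p ^ finrank (ZMod p) V :=
            Nat.pow_le_pow_left hp.two_le _
          have : 2 ^ 2 ≤ 2 ^ finrank (ZMod p) V := Nat.pow_le_pow_right (by norm_num) hn
          omega
        · have : 2 ^ (finrank (ZMod p) V - 1) ≤ p ^ (finrank (ZMod p) V - 1) :=
            Nat.pow_le_pow_left hp.two_le _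
          have : 2 ^ 1 ≤ 2 ^ (finrank (ZMod p) V - 1) :=
            Nat.pow_le_pow_right (by norm_num) (by omega)
          omega
      rw [← h] at hpos
      have : 0 < Nat.card {W : Submodule (ZMod p) V // finrank (ZMod p) W = 2} :=
        Nat.pos_of_mul_pos_right hpos
      exact (Nat.card_pos_iff.mp this).1
    · omega
  obtain ⟨⟨W₀, hW₀⟩⟩ := hne
  have horb : MulAction.orbit Γ W₀ = {W : Submodule (ZMod p) V | finrank (ZMod p) W = 2} := by
    ext W
    constructor
    · rintro ⟨γ, rfl⟩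
      show finrank (ZMod p) (W₀.map ((γ : V ≃ₗ[ZMod p] V) : V →ₗ[ZMod p] V)) = 2
      rw [LinearEquiv.finrank_map_eq]
      exact hW₀
    · intro hW
      obtain ⟨γ, hγ, h⟩ := h2 W₀ W hW₀ hW
      exact ⟨⟨γ, hγ⟩, h⟩
  have h3 := MulAction.index_stabilizer Γ W₀
  rw [horb, ← Nat.card_coe_set_eq] at h3
  have h4 := Subgroup.index_mul_card (MulAction.stabilizer Γ W₀)
  -- scalars stabilise
  let Z' : Subgroup Γ := (U.map (scal p V)).subgroupOf Γ
  have hZ' : Z' ≤ MulAction.stabilizer Γ W₀ := by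
    rintro ⟨γ, hγ⟩ ⟨c, -, hc⟩
    have hc' : scal p V c = γ := hc
    subst hc'
    show W₀.map ((scal p V c : V ≃ₗ[ZMod p] V) : V →ₗ[ZMod p] V) = W₀
    ext x
    constructor
    · rintro ⟨w, hw, rfl⟩
      exact W₀.smul_mem _ hw
    · intro hx
      refine ⟨((c⁻¹ : (ZMod p)ˣ) : ZMod p) • x, W₀.smul_mem _ hx, ?_⟩
      show (c : ZMod p) • (((c⁻¹ : (ZMod p)ˣ) : ZMod p) • x) = x
      rw [smul_smul, Units.mul_inv, one_smul]
  have hcardZ : Nat.card Z' = Nat.card U := by
    have hle : U.map (scal p V) ≤ Γ := by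
      rintro _ ⟨c, hc, rfl⟩
      exact hZ c hc
    have e1 : Z' ≃* U.map (scal p V) := Subgroup.subgroupOfEquivOfLe hle
    rw [Nat.card_congr e1.toEquiv, Subgroup.card_map_of_injective scal_injective]
  have h5 : Nat.card U ∣ Nat.card (MulAction.stabilizer Γ W₀) := by
    rw [← hcardZ]
    exact Subgroup.card_dvd_of_le hZ'
  rw [← h4, h3]
  exact Nat.mul_dvd_mul_left _ h5

theorem card_units_top : Nat.card (⊤ : Subgroup (ZMod p)ˣ) = p - 1 := by
  rw [Subgroup.card_top, Nat.card_eq_fintype_card, ZMod.card_units]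

end Cfsg.Agent.Lib.Helper6.Hq

namespace Cfsg.Agent.Lib.Helper6.Hup

open Module

variable {q : ℕ} [Fact q.Prime] {V : Type*} [AddCommGroup V] [Module (ZMod q) V]
  {G : Type*} [Group G]

/-- in the exceptional case `3 ^ 4` the order of the group is prime to `13` -/
theorem no_thirteen [Finite G] [Finite V] [Nontrivial V] (hsol : Group.IsSolvable G)
    (ρ : G →* (V ≃ₗ[ZMod q] V)) (h : Hyp ρ) (hq : q = 3) (hn : finrank (ZMod q) V = 4)
    (hsl : ¬ SemiLin ρ) (h13 : 13 ∣ Nat.card G) : False := by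
  subst hq
  have hcardV : Nat.card V = 3 ^ 4 := by rw [natCard_eq_pow (q := 3) V, hn]
  have h80 : 80 ∣ Nat.card G := by
    have := h.card_sub_one_dvd
    rw [hcardV] at this
    exact this
  have : Fact (Nat.Prime 5) := ⟨by norm_num⟩
  have : Fact (Nat.Prime 13) := ⟨by norm_num⟩
  obtain ⟨x, hx⟩ := exists_prime_orderOf_dvd_card' 5 ((by norm_num : 5 ∣ 80).trans h80)
  have hx1 : x ≠ 1 := by
    rintro rfl
    rw [orderOf_one] at hx
    omega
  have hxp : x ^ 5 = 1 := by rw [← hx]; exact pow_orderOf_eq_one x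
  rcases ppd_dichotomy hsol ρ h (by norm_num : Nat.Prime 5) hx1 hxp
    (by rw [hn]; norm_num) (by
      rw [hn]
      intro k hk0 hk4
      interval_cases k <;> norm_num) (by rw [hn]; norm_num) with h' | ⟨-, -, C, hB⟩
  · exact hsl h'
  obtain ⟨y, hy⟩ := exists_prime_orderOf_dvd_card' 13 h13
  have hy1 : y ≠ 1 := by
    rintro rfl
    rw [orderOf_one] at hy
    omega
  have hyp : y ^ 13 = 1 := by rw [← hy]; exact pow_orderOf_eq_one y
  have hcard := hB.card
  rw [hn] at hcard
  have key := SympT.triv_of_small Nat.prime_two (μ := muSub C 2) (by norm_num : Nat.Prime 13)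
    (by norm_num) y hyp (fun z hz => hB.scalar_commute h.inj (mem_muSub.mp hz).1 y)
    (Nat.card C) C rfl hB.symp (fun b => normal_conj_iff hB.normal y b) 4 hcard (by norm_num)
  -- `y` centralises `C`
  have hcent : ∀ c ∈ C, Lh ρ c * Lh ρ y = Lh ρ y * Lh ρ c := by
    intro c hc
    have hz := key c hc
    set z := y * c * y⁻¹ * c⁻¹ with hzdef
    have hyz : y * z = z * y := hB.scalar_commute h.inj hz y
    have hconj : y * c * y⁻¹ = z * c := by rw [hzdef]; group
    have hz13 := pow_eq_one_of_conj y c z hyz hconj 13 hyp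
    obtain ⟨a, ha⟩ := IsPGroup.iff_card.mp hB.two
    have hzC : z ∈ C := Zc_le C hz
    have hz2 : z ^ (2 ^ a) = 1 := by
      have h1 : (⟨z, hzC⟩ : C) ^ Nat.card C = 1 := pow_card_eq_one'
      rw [ha] at h1
      exact congrArg Subtype.val h1
    have hz1 : z = 1 :=
      eq_one_of_pow_coprime z 13 (2 ^ a) (Nat.Coprime.pow_right a (by norm_num)) hz13 hz2
    rw [hz1, one_mul] at hconj
    have : y * c = c * y := by
      calc y * c = (y * c * y⁻¹) * y := by group
        _ = c * y := by rw [hconj]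
    rw [← map_mul, ← map_mul, this]
  obtain ⟨c, hc⟩ := hB.cent (Lh ρ y) hcent
  exact hy1 (scalar_eq_one ρ h.inj hyp (by norm_num) hc)

end Cfsg.Agent.Lib.Helper6.Hup
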