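import Mathlib
import Cfsg.Agent.Lib.Helper2.Cores
import Cfsg.Agent.Lib.Helper6.HqA
import Cfsg.Agent.Lib.Helper6.HqB

set_option autoImplicit false

/-! Normalizer of an elementary abelian Sylow subgroup acting transitively on points and planes:
the linear part is semilinear of degree one. -/

namespace Cfsg.Agent.Lib.Helper6.Hq

open Module Cfsg

section Transport

variable {p : ℕ} [Fact p.Prime] {V : Type*} [AddCommGroup V] [Module (ZMod p) V]
  {F : Type*} [Field F]

/-- conjugation of a linear automorphism to a permutation of the field -/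
def cE (e : V ≃+ F) : (V ≃ₗ[ZMod p] V) →* Equiv.Perm F where
  toFun γ := (e.symm.toEquiv.trans γ.toEquiv).trans e.toEquiv
  map_one' := by
    ext x
    simp
  map_mul' γ₁ γ₂ := by
    ext x
    simp

theorem cE_apply (e : V ≃+ F) (γ : V ≃ₗ[ZMod p] V) (x : F) : cE e γ x = e (γ (e.symm x)) := rfl

theorem cE_injective (e : V ≃+ F) : Function.Injective (cE (p := p) e) := by
  intro γ₁ γ₂ h
  ext v
  have := Equiv.congr_fun h (e v)
  rw [cE_apply, cE_apply, AddEquiv.symm_apply_apply] at this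
  exact e.injective this

theorem cE_mem_GL1 [Nontrivial V] (e : V ≃+ F) (γ : V ≃ₗ[ZMod p] V)
    (h : ∃ (a : F) (σ : F ≃+* F), ∀ v : V, e (γ v) = a * σ (e v)) : cE e γ ∈ GL1 F := by
  obtain ⟨a, σ, h⟩ := h
  have ha : a ≠ 0 := by
    rintro rfl
    obtain ⟨v, hv⟩ := exists_ne (0 : V)
    have h1 := h v
    rw [zero_mul] at h1
    have h2 : γ v = 0 := e.map_eq_zero_iff.mp h1
    exact hv (γ.map_eq_zero_iff.mp h2)
  rw [mem_GL1_iff]
  refine ⟨Units.mk0 a ha, σ, ?_⟩
  ext x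
  rw [cE_apply, slPerm_apply, add_zero, h, AddEquiv.apply_symm_apply]
  rfl

theorem card_dvd_GL1 [Nontrivial V] [Finite F] (e : V ≃+ F) (Δ : Subgroup (V ≃ₗ[ZMod p] V))
    (h : ∀ γ ∈ Δ, ∃ (a : F) (σ : F ≃+* F), ∀ v : V, e (γ v) = a * σ (e v)) :
    Nat.card Δ ∣ (Nat.card F - 1) * Nat.card (F ≃+* F) := by
  rw [← card_GL1, ← Subgroup.card_map_of_injective (cE_injective (p := p) e)]
  apply Subgroup.card_dvd_of_le
  rintro _ ⟨γ, hγ, rfl⟩
  exact cE_mem_GL1 e γ (h γ hγ)

/-- transport of the semilinear structure to the Galois field -/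
theorem semilin_galois [Finite V] {G : Type*} [Group G] (ρ : G →* (V ≃ₗ[ZMod p] V))
    (h : Hup.SemiLin ρ) (n : ℕ) (hn : n ≠ 0) (hfr : finrank (ZMod p) V = n) :
    ∃ e : V ≃+ GaloisField p n, ∀ g : G, ∃ (a : GaloisField p n)
      (σ : GaloisField p n ≃+* GaloisField p n), ∀ v : V, e (ρ g v) = a * σ (e v) := by
  classical
  obtain ⟨F, _, _, e, he⟩ := h
  have : Fintype (GaloisField p n) := Fintype.ofFinite _
  have hc : Fintype.card F = Fintype.card (GaloisField p n) := by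
    rw [← Nat.card_eq_fintype_card, ← Nat.card_eq_fintype_card, GaloisField.card p n hn,
      ← Nat.card_congr e.toEquiv, Hup.natCard_eq_pow (q := p) V, hfr]
  let ι : F ≃+* GaloisField p n := FiniteField.ringEquivOfCardEq hc
  refine ⟨e.trans ι.toAddEquiv, fun g => ?_⟩
  obtain ⟨a, σ, h⟩ := he g
  refine ⟨ι a, (ι.symm.trans σ).trans ι, fun v => ?_⟩
  show ι (e (ρ g v)) = ι a * ι (σ (ι.symm (ι (e v))))
  rw [h, map_mul, RingEquiv.symm_apply_apply]

end Transport

section Core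

variable {Y : Type*} [Group Y] {p : ℕ} [Fact p.Prime]
  {V : Type*} [AddCommGroup V] [Module (ZMod p) V]

/-- the configuration: `V` embedded as a normal Hall subgroup, with the conjugation action -/
structure Conf (ε : Multiplicative V →* Y) (α : Y →* (V ≃ₗ[ZMod p] V)) : Prop where
  inj : Function.Injective ε
  normal : ε.range.Normal
  hall : (Nat.card ε.range).Coprime ε.range.index
  act : ∀ (y : Y) (v : V),
    ε (Multiplicative.ofAdd (α y v)) = y * ε (Multiplicative.ofAdd v) * y⁻¹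

variable {ε : Multiplicative V →* Y} {α : Y →* (V ≃ₗ[ZMod p] V)}

theorem Conf.card_range [Finite V] (cf : Conf ε α) :
    Nat.card ε.range = p ^ finrank (ZMod p) V := by
  rw [← Nat.card_congr (MonoidHom.ofInjective cf.inj).toEquiv, ← Hup.natCard_eq_pow (q := p) V]
  rfl

theorem Conf.comm_of_core [Finite Y] [Finite V] (cf : Conf ε α) {k : Y}
    (hk : k ∈ pPrimeCore p Y) {u : Y} (hu : u ∈ ε.range) : k * u * k⁻¹ = u := by
  have := cf.normal
  have hK : (pPrimeCore p Y).Normal := inferInstance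
  have hcop : Nat.Coprime (Nat.card (pPrimeCore p Y)) (Nat.card ε.range) := by
    rw [cf.card_range]
    exact Nat.Coprime.pow_right _ (Cfsg.Agent.Lib.Helper2.pPrimeCore_card_coprime p)
  have hbot := Subgroup.inf_eq_bot_of_coprime hcop
  have hc1 : k * u * k⁻¹ * u⁻¹ ∈ pPrimeCore p Y := by
    have h1 : u * k⁻¹ * u⁻¹ ∈ pPrimeCore p Y := hK.conj_mem _ (inv_mem hk) u
    have : k * u * k⁻¹ * u⁻¹ = k * (u * k⁻¹ * u⁻¹) := by group
    rw [this]
    exact mul_mem hk h1
  have hc2 : k * u * k⁻¹ * u⁻¹ ∈ ε.range :=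
    mul_mem (cf.normal.conj_mem _ hu k) (inv_mem hu)
  have hc : k * u * k⁻¹ * u⁻¹ ∈ pPrimeCore p Y ⊓ ε.range := ⟨hc1, hc2⟩
  rw [hbot, Subgroup.mem_bot] at hc
  calc k * u * k⁻¹ = (k * u * k⁻¹ * u⁻¹) * u := by group
    _ = u := by rw [hc, one_mul]

theorem Conf.core_trivial [Finite Y] [Finite V] (cf : Conf ε α) (k : Y)
    (hk : k ∈ pPrimeCore p Y) : α k = 1 := by
  ext v
  have h1 := cf.act k v
  rw [cf.comm_of_core hk ⟨_, rfl⟩] at h1
  have h2 := cf.inj h1
  exact Multiplicative.ofAdd.injective h2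

/-- the action on the quotient by the core -/
noncomputable def Conf.rho2 [Finite Y] [Finite V] (cf : Conf ε α) :
    Y ⧸ pPrimeCore p Y →* (V ≃ₗ[ZMod p] V) :=
  QuotientGroup.lift (pPrimeCore p Y) α (fun k hk => cf.core_trivial k hk)

/-- the action together with the scalars -/
noncomputable def Conf.rho3 [Finite Y] [Finite V] (cf : Conf ε α) :
    (Y ⧸ pPrimeCore p Y) × (ZMod p)ˣ →* (V ≃ₗ[ZMod p] V) :=
  MonoidHom.noncommCoprod cf.rho2 (scal p V) (fun m c => scal_commute c (cf.rho2 m))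

theorem Conf.rho3_apply [Finite Y] [Finite V] (cf : Conf ε α) (y : Y) (c : (ZMod p)ˣ) (v : V) :
    cf.rho3 (QuotientGroup.mk y, c) v = (c : ZMod p) • α y v := by
  show (cf.rho2 (QuotientGroup.mk y) * scal p V c) v = _
  show α y ((c : ZMod p) • v) = _
  rw [map_smul]

/-- the main arithmetic conclusion -/
theorem Conf.core_arith [Finite Y] [Finite V] (cf : Conf ε α) (n : ℕ) (hn : 3 ≤ n)
    (hfr : finrank (ZMod p) V = n)
    (hsolv : Group.IsSolvable (Y ⧸ pPrimeCore p Y))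
    (h1 : ∀ v w : V, v ≠ 0 → w ≠ 0 → ∃ (y : Y) (c : (ZMod p)ˣ), (c : ZMod p) • α y v = w)
    (h2 : ∀ W W' : Submodule (ZMod p) V, finrank (ZMod p) W = 2 → finrank (ZMod p) W' = 2 →
      ∃ y : Y, W.map ((α y : V ≃ₗ[ZMod p] V) : V →ₗ[ZMod p] V) = W') :
    (n = 3 ∨ (n = 5 ∧ p = 2)) ∧
    ∃ e : V ≃+ GaloisField p n,
      (∀ y : Y, ∃ (a : GaloisField p n) (σ : GaloisField p n ≃+* GaloisField p n),
        ∀ v : V, e (α y v) = a * σ (e v)) ∧
      Nat.card {W : Submodule (ZMod p) V // finrank (ZMod p) W = 2} ∣ Nat.card α.range ∧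
      Nat.card α.range ∣ (p ^ n - 1) * n := by
  have hp := (Fact.out : p.Prime)
  have hnt : Nontrivial V := by
    apply Module.nontrivial_of_finrank_pos (R := ZMod p)
    omega
  have hfinL : Finite (V ≃ₗ[ZMod p] V) := finite_linEquiv
  set Γ : Subgroup (V ≃ₗ[ZMod p] V) := cf.rho3.range with hΓ
  have hsolΓ : Group.IsSolvable Γ :=
    Group.isSolvable_of_surjective (f := cf.rho3.rangeRestrict) cf.rho3.rangeRestrict_surjective
  have hαΓ : ∀ y : Y, α y ∈ Γ := by
    intro y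
    refine ⟨(QuotientGroup.mk y, 1), ?_⟩
    ext v
    rw [cf.rho3_apply, Units.val_one, one_smul]
  have hZΓ : ∀ c : (ZMod p)ˣ, scal p V c ∈ Γ := by
    intro c
    refine ⟨(QuotientGroup.mk 1, c), ?_⟩
    ext v
    rw [cf.rho3_apply, map_one]
    rfl
  have hyp : Hup.Hyp Γ.subtype := by
    refine ⟨Subtype.val_injective, fun v w hv hw => ?_⟩
    obtain ⟨y, c, h⟩ := h1 v w hv hw
    refine ⟨⟨cf.rho3 (QuotientGroup.mk y, c), ⟨_, rfl⟩⟩, ?_⟩
    show cf.rho3 (QuotientGroup.mk y, c) v = w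
    rw [cf.rho3_apply, h]
  have hcardV : Nat.card V = p ^ n := by rw [Hup.natCard_eq_pow (q := p) V, hfr]
  -- planes
  have hpl := planes_dvd Γ ⊤ (fun c _ => hZΓ c) (fun W W' hW hW' => by
    obtain ⟨y, hy⟩ := h2 W W' hW hW'
    exact ⟨α y, hαΓ y, hy⟩) (by omega)
  rw [card_units_top] at hpl
  have hplα := planes_dvd α.range ⊥ (fun c hc => by
    rw [Subgroup.mem_bot] at hc
    subst hc
    rw [map_one]
    exact one_mem _) (fun W W' hW hW' => by
    obtain ⟨y, hy⟩ := h2 W W' hW hW'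
    exact ⟨α y, ⟨y, rfl⟩, hy⟩) (by omega)
  rw [Subgroup.card_bot, mul_one] at hplα
  have hcp : Nat.card {W : Submodule (ZMod p) V // finrank (ZMod p) W = 2} *
      ((p ^ 2 - 1) * (p - 1)) = (p ^ n - 1) * (p ^ (n - 1) - 1) := by
    rcases card_planes (p := p) (V := V) with h | h
    · rw [hfr] at h; exact h
    · omega
  -- semilinear?
  have hsl : Hup.SemiLin Γ.subtype := by
    by_contra hsl
    have h81 : Nat.card V = 81 := by
      by_cases h26 : p = 2 ∧ finrank (ZMod p) V = 6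
      · exact absurd (hyp.case26 hsolΓ h26.1 h26.2) hsl
      · rcases Hup.main_ge3 hsolΓ Γ.subtype hyp (by omega) h26 with r | r
        · exact absurd r hsl
        · exact r
    rw [hcardV] at h81
    have hp3 : p = 3 := by
      have h1 : p ∣ 3 ^ 4 := by
        rw [show (3 : ℕ) ^ 4 = 81 by norm_num, ← h81]
        exact dvd_pow_self p (by omega)
      exact (Nat.prime_dvd_prime_iff_eq hp Nat.prime_three).mp (hp.dvd_of_dvd_pow h1)
    have hn4 : n = 4 := by
      rw [hp3, show (81 : ℕ) = 3 ^ 4 by norm_num] at h81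
      exact Nat.pow_right_injective (by norm_num : 2 ≤ 3) h81
    have h13 : 13 ∣ Nat.card Γ := by
      obtain ⟨N, hN⟩ : ∃ N, N = Nat.card {W : Submodule (ZMod p) V // finrank (ZMod p) W = 2} :=
        ⟨_, rfl⟩
      rw [← hN] at hcp hpl
      rw [hp3, hn4] at hcp
      have h130 : N = 130 := by
        norm_num at hcp
        omega
      rw [h130] at hpl
      exact (Dvd.dvd.mul_right (by norm_num : 13 ∣ 130) (p - 1)).trans hpl
    exact Hup.no_thirteen hsolΓ Γ.subtype hyp hp3 (by rw [hfr, hn4]) hsl h13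
  obtain ⟨e, he⟩ := semilin_galois Γ.subtype hsl n (by omega) hfr
  have heΓ : ∀ γ ∈ Γ, ∃ (a : GaloisField p n) (σ : GaloisField p n ≃+* GaloisField p n),
      ∀ v : V, e (γ v) = a * σ (e v) := fun γ hγ => he ⟨γ, hγ⟩
  have hcardF : Nat.card (GaloisField p n) = p ^ n := GaloisField.card p n (by omega)
  have hΓdvd : Nat.card Γ ∣ (p ^ n - 1) * n := by
    have := card_dvd_GL1 e Γ heΓ
    rwa [hcardF, card_ringAut p n (by omega)] at this
  have hαdvd : Nat.card α.range ∣ (p ^ n - 1) * n := by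
    have := card_dvd_GL1 e α.range (fun γ hγ => by
      obtain ⟨y, rfl⟩ := hγ
      exact heΓ _ (hαΓ y))
    rwa [hcardF, card_ringAut p n (by omega)] at this
  refine ⟨?_, e, fun y => heΓ _ (hαΓ y), hplα, hαdvd⟩
  -- arithmetic
  apply plane_arith p n hp hn
  have h3 := hpl.trans hΓdvd
  have hpn : 0 < p ^ n - 1 := by
    have : 2 ^ n ≤ p ^ n := Nat.pow_le_pow_left hp.two_le _
    have : 2 ^ 3 ≤ 2 ^ n := Nat.pow_le_pow_right (by norm_num) hn
    omega
  have h4 : (p ^ n - 1) * (p ^ (n - 1) - 1) ∣ (p ^ n - 1) * (n * (p ^ 2 - 1)) := by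
    rw [← hcp]
    have := Nat.mul_dvd_mul_right h3 (p ^ 2 - 1)
    calc Nat.card {W : Submodule (ZMod p) V // finrank (ZMod p) W = 2} *
          ((p ^ 2 - 1) * (p - 1))
        = Nat.card {W : Submodule (ZMod p) V // finrank (ZMod p) W = 2} * (p - 1) *
          (p ^ 2 - 1) := by ring
      _ ∣ (p ^ n - 1) * n * (p ^ 2 - 1) := this
      _ = (p ^ n - 1) * (n * (p ^ 2 - 1)) := by ring
  exact (Nat.mul_dvd_mul_iff_left hpn).mp h4

end Core

end Cfsg.Agent.Lib.Helper6.Hq
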