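import Mathlib
import Cfsg.Agent.Lib.Helper6.HqC

set_option autoImplicit false

/-! The abstract finish: a group with a normal elementary abelian Hall subgroup, acting
semilinearly, modulo its core, is a group of semiaffine permutations. -/

namespace Cfsg.Agent.Lib.Helper6.Hq

open Module Cfsg

section Trans

variable {F : Type*} [Field F]

/-- the translation `x ↦ x + b` -/
def trn (b : F) : Equiv.Perm F := slPerm 1 (RingEquiv.refl F) b

theorem trn_apply (b x : F) : trn b x = x + b := by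
  show ((1 : Fˣ) : F) * (RingEquiv.refl F) x + b = x + b
  rw [Units.val_one, one_mul, RingEquiv.refl_apply]

theorem trn_zero : trn (0 : F) = 1 := by
  ext x
  rw [trn_apply, add_zero, Equiv.Perm.one_apply]

theorem trn_mul (a b : F) : trn a * trn b = trn (a + b) := by
  ext x
  rw [Equiv.Perm.mul_apply, trn_apply, trn_apply, trn_apply]
  ring

theorem trn_pow (b : F) (m : ℕ) : trn b ^ m = trn (m • b) := by
  induction m with
  | zero => rw [pow_zero, zero_nsmul, trn_zero]
  | succ m ih => rw [pow_succ, ih, trn_mul, succ_nsmul]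

theorem trn_injective : Function.Injective (trn : F → Equiv.Perm F) := by
  intro a b h
  have := Equiv.congr_fun h 0
  rwa [trn_apply, trn_apply, zero_add, zero_add] at this

theorem trn_mem_semiaffine (b : F) : trn b ∈ semiaffineGroup F :=
  (mem_semiaffine_iff _).mpr ⟨1, RingEquiv.refl F, b, rfl⟩

theorem trn_mem_affine (b : F) : trn b ∈ affineGroup F :=
  (mem_affine_iff _).mpr ⟨1, b, rfl⟩

theorem slPerm_pow_apply (a : Fˣ) (σ : F ≃+* F) (k : ℕ) :
    ∃ a' : F, ∀ x, (slPerm a σ 0 ^ k) x = a' * (σ ^ k) x := by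
  induction k with
  | zero =>
    refine ⟨1, fun x => ?_⟩
    rw [pow_zero, pow_zero, one_mul]
    rfl
  | succ k ih =>
    obtain ⟨a', h⟩ := ih
    refine ⟨a' * (σ ^ k) (a : F), fun x => ?_⟩
    rw [pow_succ, Equiv.Perm.mul_apply, h, slPerm_apply, add_zero, map_mul, pow_succ,
      RingAut.mul_apply, mul_assoc]

end Trans

section Hom

/-- extension of homomorphisms from a normal subgroup and a complement -/
theorem exists_hom_of_complement {Y X : Type*} [Group Y] [Group X] {Q H : Subgroup Y}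
    [hQ : Q.Normal] (hc : Q.IsComplement' H) (fn : Q →* X) (fg : H →* X)
    (hcomp : ∀ (h : H) (u : Q),
      fn ⟨(h : Y) * u * (h : Y)⁻¹, hQ.conj_mem u u.2 h⟩ * fg h = fg h * fn u) :
    ∃ Φ : Y →* X, (∀ u : Q, Φ u = fn u) ∧ (∀ h : H, Φ h = fg h) := by
  let μ := SemidirectProduct.mulEquivSubgroup hc
  refine ⟨(SemidirectProduct.lift fn fg ?_).comp μ.symm.toMonoidHom, ?_, ?_⟩
  · intro g
    ext u
    show fn ⟨(g : Y) * u * (g : Y)⁻¹, hQ.conj_mem u u.2 g⟩ = fg g * fn u * (fg g)⁻¹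
    rw [eq_mul_inv_iff_mul_eq]
    exact hcomp g u
  · intro u
    have h1 : μ.symm (u : Y) = SemidirectProduct.inl u := by
      rw [MulEquiv.symm_apply_eq]
      simp [μ]
    rw [MonoidHom.comp_apply, MulEquiv.coe_toMonoidHom, h1, SemidirectProduct.lift_inl]
  · intro h
    have h1 : μ.symm (h : Y) = SemidirectProduct.inr h := by
      rw [MulEquiv.symm_apply_eq]
      simp [μ]
    rw [MonoidHom.comp_apply, MulEquiv.coe_toMonoidHom, h1, SemidirectProduct.lift_inr]

/-- the quotient by the kernel embeds in any subgroup containing the range -/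
theorem exists_inj_quot {Y X : Type*} [Group Y] [Group X] (Φ : Y →* X) (K : Subgroup Y)
    [K.Normal] (hker : Φ.ker = K) (S : Subgroup X) (hle : Φ.range ≤ S) :
    ∃ f : Y ⧸ K →* S, Function.Injective f := by
  subst hker
  exact ⟨(Subgroup.inclusion hle).comp (QuotientGroup.rangeKerLift Φ),
    (Subgroup.inclusion_injective hle).comp (QuotientGroup.rangeKerLift_injective Φ)⟩

/-- the quotient by the kernel is the range -/
theorem nonempty_equiv_quot {Y X : Type*} [Group Y] [Group X] (Φ : Y →* X) (K : Subgroup Y)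
    [K.Normal] (hker : Φ.ker = K) (S : Subgroup X) (heq : Φ.range = S) :
    Nonempty (Y ⧸ K ≃* S) := by
  subst hker heq
  exact ⟨QuotientGroup.quotientKerEquivRange Φ⟩

end Hom

section Finish

variable {Y : Type*} [Group Y] {p : ℕ} [Fact p.Prime]
  {V : Type*} [AddCommGroup V] [Module (ZMod p) V]
  {ε : Multiplicative V →* Y} {α : Y →* (V ≃ₗ[ZMod p] V)}
  {F : Type*} [Field F]

theorem Conf.alpha_eps (cf : Conf ε α) (m : Multiplicative V) : α (ε m) = 1 := by
  ext v
  have h1 := cf.act (ε m) v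
  rw [← map_inv, ← map_mul, ← map_mul, mul_comm m, mul_inv_cancel_right] at h1
  exact Multiplicative.ofAdd.injective (cf.inj h1)

theorem trn_comm (e : V ≃+ F) (γ : V ≃ₗ[ZMod p] V) (v : V) :
    trn (e (γ v)) * cE e γ = cE e γ * trn (e v) := by
  ext x
  rw [Equiv.Perm.mul_apply, Equiv.Perm.mul_apply, trn_apply, trn_apply, cE_apply, cE_apply]
  simp only [map_add, AddEquiv.symm_apply_apply]

theorem cE_zero (e : V ≃+ F) (γ : V ≃ₗ[ZMod p] V) : cE e γ 0 = 0 := by
  rw [cE_apply, map_zero, map_zero, map_zero]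

/-- the homomorphism to the permutations of the field -/
theorem Conf.exists_hom (cf : Conf ε α) (e : V ≃+ F) :
    ∃ Φ : Y →* Equiv.Perm F,
      (∀ m : Multiplicative V, Φ (ε m) = trn (e (Multiplicative.toAdd m))) ∧
      (∀ y : Y, ∃ b : F, Φ y = trn b * cE e (α y)) := by
  have hnorm := cf.normal
  obtain ⟨H, hH⟩ := Subgroup.exists_right_complement'_of_coprime cf.hall
  let fn : ε.range →* Equiv.Perm F :=
    { toFun := fun u => trn (e (Multiplicative.toAdd ((MonoidHom.ofInjective cf.inj).symm u)))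
      map_one' := by rw [map_one, toAdd_one, map_zero, trn_zero]
      map_mul' := fun u u' => by rw [map_mul, toAdd_mul, map_add, trn_mul] }
  have hfn : ∀ (u : ε.range) (m : Multiplicative V), (u : Y) = ε m →
      fn u = trn (e (Multiplicative.toAdd m)) := by
    intro u m hu
    have h1 : (MonoidHom.ofInjective cf.inj).symm u = m := by
      rw [MulEquiv.symm_apply_eq]
      exact Subtype.ext (hu.trans (MonoidHom.ofInjective_apply cf.inj).symm)
    show trn (e (Multiplicative.toAdd ((MonoidHom.ofInjective cf.inj).symm u))) = _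
    rw [h1]
  let fg : H →* Equiv.Perm F := (cE e).comp (α.comp H.subtype)
  obtain ⟨Φ, hΦ1, hΦ2⟩ := exists_hom_of_complement hH fn fg (by
    intro h u
    obtain ⟨m, hm⟩ := u.2
    have h2 : ((⟨(h : Y) * u * (h : Y)⁻¹, hnorm.conj_mem u u.2 h⟩ : ε.range) : Y) =
        ε (Multiplicative.ofAdd (α h (Multiplicative.toAdd m))) := by
      show (h : Y) * u * (h : Y)⁻¹ = _
      have h3 : ε (Multiplicative.ofAdd (Multiplicative.toAdd m)) = u := hm
      rw [cf.act, h3]
    rw [hfn _ _ h2, hfn u m hm.symm]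
    exact trn_comm e (α h) (Multiplicative.toAdd m))
  refine ⟨Φ, fun m => ?_, fun y => ?_⟩
  · exact (hΦ1 ⟨ε m, ⟨m, rfl⟩⟩).trans (hfn _ m rfl)
  · obtain ⟨x, hx, -⟩ := hH.existsUnique y
    obtain ⟨m, hm⟩ := x.1.2
    refine ⟨e (Multiplicative.toAdd m), ?_⟩
    have h4 : Φ (x.1 : Y) = trn (e (Multiplicative.toAdd m)) := by
      rw [← hm]
      exact (hΦ1 ⟨ε m, ⟨m, rfl⟩⟩).trans (hfn _ m rfl)
    have h5 : Φ (x.2 : Y) = cE e (α (x.2 : Y)) := hΦ2 ⟨x.2.1, x.2.2⟩
    have h6 : α (x.1 : Y) = 1 := by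
      rw [← hm]
      exact cf.alpha_eps m
    rw [← hx, map_mul, map_mul, h4, h5, h6, one_mul]

theorem range_iff (e : V ≃+ F) (Φ : Y →* Equiv.Perm F)
    (hP1 : ∀ m : Multiplicative V, Φ (ε m) = trn (e (Multiplicative.toAdd m)))
    (hP2 : ∀ y : Y, ∃ b : F, Φ y = trn b * cE e (α y)) (g : Equiv.Perm F) :
    g ∈ Φ.range ↔ ∃ (b : F) (y : Y), g = trn b * cE e (α y) := by
  constructor
  · rintro ⟨y, rfl⟩
    obtain ⟨b, hb⟩ := hP2 y
    exact ⟨b, y, hb⟩
  · rintro ⟨b, y, rfl⟩
    obtain ⟨b', hb'⟩ := hP2 y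
    refine ⟨ε (Multiplicative.ofAdd (e.symm (b - b'))) * y, ?_⟩
    rw [map_mul, hP1, hb', ← mul_assoc, trn_mul, toAdd_ofAdd, AddEquiv.apply_symm_apply,
      sub_add_cancel]

theorem Conf.ker_eq [Finite Y] [Finite V] [CharP F p] (cf : Conf ε α) (e : V ≃+ F)
    (Φ : Y →* Equiv.Perm F)
    (hP1 : ∀ m : Multiplicative V, Φ (ε m) = trn (e (Multiplicative.toAdd m)))
    (hP2 : ∀ y : Y, ∃ b : F, Φ y = trn b * cE e (α y))
    (hpos : 0 < finrank (ZMod p) V) : Φ.ker = pPrimeCore p Y := by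
  have hp := (Fact.out : p.Prime)
  apply le_antisymm
  · apply Cfsg.Agent.Lib.Helper2.le_pPrimeCore
    have hnorm := cf.normal
    let f : Φ.ker →* Y ⧸ ε.range := (QuotientGroup.mk' ε.range).comp Φ.ker.subtype
    have hf : Function.Injective f := by
      rw [injective_iff_map_eq_one]
      intro x hx
      have h1 : (x : Y) ∈ ε.range := (QuotientGroup.eq_one_iff (x : Y)).mp hx
      obtain ⟨m, hm⟩ := h1
      have h2 : Φ (ε m) = 1 := by
        rw [hm]
        exact x.2
      rw [hP1, ← trn_zero] at h2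
      have h3 := trn_injective h2
      have h4 : Multiplicative.toAdd m = 0 := e.map_eq_zero_iff.mp h3
      have h5 : m = 1 := Multiplicative.toAdd.injective h4
      have h6 : (x : Y) = 1 := by rw [← hm, h5, map_one]
      exact Subtype.ext h6
    have h6 := Subgroup.card_dvd_of_injective f hf
    have h7 : Nat.card (Y ⧸ ε.range) = ε.range.index := rfl
    rw [h7] at h6
    have h8 : p ∣ Nat.card ε.range := by
      rw [cf.card_range]
      exact dvd_pow_self p hpos.ne'
    have h9 : Nat.Coprime p ε.range.index := Nat.Coprime.coprime_dvd_left h8 cf.hall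
    exact (Nat.Coprime.coprime_dvd_right h6 h9).symm
  · intro k hk
    rw [MonoidHom.mem_ker]
    obtain ⟨b, hb⟩ := hP2 k
    rw [cf.core_trivial k hk, map_one, mul_one] at hb
    have h1 : (trn b) ^ orderOf k = 1 := by
      rw [← hb, ← map_pow, pow_orderOf_eq_one, map_one]
    rw [trn_pow, ← trn_zero] at h1
    have h2 := trn_injective h1
    rw [nsmul_eq_mul] at h2
    rcases mul_eq_zero.mp h2 with h3 | h3
    · exfalso
      have h4 : p ∣ orderOf k := (CharP.cast_eq_zero_iff F p _).mp h3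
      have h5 : orderOf k ∣ Nat.card (pPrimeCore p Y) := Subgroup.orderOf_dvd_natCard _ hk
      have h6 := Cfsg.Agent.Lib.Helper2.pPrimeCore_card_coprime (G := Y) p
      exact (Nat.Prime.coprime_iff_not_dvd hp).mp h6.symm (h4.trans h5)
    · rw [hb, h3, trn_zero]

theorem range_le_semiaffine [Nontrivial V] (e : V ≃+ F) (Φ : Y →* Equiv.Perm F)
    (hP2 : ∀ y : Y, ∃ b : F, Φ y = trn b * cE e (α y))
    (he : ∀ y : Y, ∃ (a : F) (σ : F ≃+* F), ∀ v : V, e (α y v) = a * σ (e v)) :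
    Φ.range ≤ semiaffineGroup F := by
  rintro _ ⟨y, rfl⟩
  obtain ⟨b, hb⟩ := hP2 y
  rw [hb]
  exact mul_mem (trn_mem_semiaffine b) (Subgroup.mem_inf.mp (cE_mem_GL1 e (α y) (he y))).1

theorem card_range_eq [Finite F] (e : V ≃+ F) (Φ : Y →* Equiv.Perm F)
    (hP1 : ∀ m : Multiplicative V, Φ (ε m) = trn (e (Multiplicative.toAdd m)))
    (hP2 : ∀ y : Y, ∃ b : F, Φ y = trn b * cE e (α y)) :
    Nat.card Φ.range = Nat.card F * Nat.card α.range := by
  have hiff := range_iff e Φ hP1 hP2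
  have e1 : (F × α.range) ≃ Φ.range :=
    Equiv.ofBijective
      (fun t => ⟨trn t.1 * cE e t.2.1, (hiff _).mpr (by
        obtain ⟨y, hy⟩ := t.2.2
        exact ⟨t.1, y, by rw [hy]⟩)⟩) (by
      constructor
      · rintro ⟨b, γ, hγ⟩ ⟨b', γ', hγ'⟩ h
        have h' : trn b * cE e γ = trn b' * cE e γ' := congrArg Subtype.val h
        have h0 := Equiv.congr_fun h' 0
        rw [Equiv.Perm.mul_apply, Equiv.Perm.mul_apply, cE_zero, cE_zero, trn_apply, trn_apply,
          zero_add, zero_add] at h0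
        subst h0
        have h1 := cE_injective e (mul_left_cancel h')
        subst h1
        rfl
      · rintro ⟨g, hg⟩
        obtain ⟨b, y, rfl⟩ := (hiff g).mp hg
        exact ⟨⟨b, ⟨α y, ⟨y, rfl⟩⟩⟩, rfl⟩)
  rw [← Nat.card_congr e1, Nat.card_prod]

/-- the subgroup of `Y` corresponding to a submodule -/
def sgOf (ε : Multiplicative V →* Y) (W : Submodule (ZMod p) V) : Subgroup Y where
  carrier := {x | ∃ v ∈ W, ε (Multiplicative.ofAdd v) = x}
  one_mem' := ⟨0, W.zero_mem, by rw [ofAdd_zero, map_one]⟩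
  mul_mem' := by
    rintro _ _ ⟨v, hv, rfl⟩ ⟨w, hw, rfl⟩
    exact ⟨v + w, W.add_mem hv hw, by rw [ofAdd_add, map_mul]⟩
  inv_mem' := by
    rintro _ ⟨v, hv, rfl⟩
    exact ⟨-v, W.neg_mem hv, by rw [ofAdd_neg, map_inv]⟩

theorem sgOf_le_range (W : Submodule (ZMod p) V) : sgOf ε W ≤ ε.range := by
  rintro _ ⟨v, -, rfl⟩
  exact ⟨_, rfl⟩

theorem Conf.card_sgOf (cf : Conf ε α) (W : Submodule (ZMod p) V) :
    Nat.card (sgOf ε W) = Nat.card W := by
  symm
  apply Nat.card_congr
  refine Equiv.ofBijective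
    (fun v : W => (⟨ε (Multiplicative.ofAdd (v : V)), ⟨v, v.2, rfl⟩⟩ : sgOf ε W)) ⟨?_, ?_⟩
  · rintro ⟨v, hv⟩ ⟨w, hw⟩ h
    have h1 : ε (Multiplicative.ofAdd v) = ε (Multiplicative.ofAdd w) := congrArg Subtype.val h
    exact Subtype.ext (Multiplicative.ofAdd.injective (cf.inj h1))
  · rintro ⟨_, v, hv, rfl⟩
    exact ⟨⟨v, hv⟩, rfl⟩

theorem Conf.sub_trans (cf : Conf ε α)
    (HT : ∀ A B : Subgroup Y, A ≤ ε.range → B ≤ ε.range → Nat.card A = Nat.card B →
      ∃ y : Y, B = A.map (MulAut.conj y).toMonoidHom)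
    (W W' : Submodule (ZMod p) V) (h : Nat.card W = Nat.card W') :
    ∃ y : Y, W.map ((α y : V ≃ₗ[ZMod p] V) : V →ₗ[ZMod p] V) = W' := by
  obtain ⟨y, hy⟩ := HT (sgOf ε W) (sgOf ε W') (sgOf_le_range W) (sgOf_le_range W')
    (by rw [cf.card_sgOf, cf.card_sgOf, h])
  refine ⟨y, ?_⟩
  ext w
  rw [Submodule.mem_map]
  constructor
  · rintro ⟨v, hv, rfl⟩
    have h1 : ε (Multiplicative.ofAdd (α y v)) ∈ sgOf ε W' := by
      rw [hy, cf.act]
      exact ⟨ε (Multiplicative.ofAdd v), ⟨v, hv, rfl⟩, rfl⟩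
    obtain ⟨w, hw, hw'⟩ := h1
    have h2 : w = α y v := Multiplicative.ofAdd.injective (cf.inj hw')
    have h3 : α y v ∈ W' := h2 ▸ hw
    exact h3
  · intro hw
    have h1 : ε (Multiplicative.ofAdd w) ∈ sgOf ε W' := ⟨w, hw, rfl⟩
    rw [hy] at h1
    obtain ⟨x, ⟨v, hv, rfl⟩, hx⟩ := h1
    refine ⟨v, hv, ?_⟩
    have h2 : ε (Multiplicative.ofAdd (α y v)) = ε (Multiplicative.ofAdd w) := by
      rw [cf.act]
      exact hx
    exact Multiplicative.ofAdd.injective (cf.inj h2)

end Finish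

end Cfsg.Agent.Lib.Helper6.Hq
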