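import Mathlib
import Cfsg.Agent.Lib.Helper6.HqD

set_option autoImplicit false

/-! The normalizer of an elementary abelian Sylow subgroup when subgroups of equal order
are conjugate: the solvable case. -/

namespace Cfsg.Agent.Lib.Helper6.Hq

open Module Cfsg

universe u

section Main

variable {Y : Type*} [Group Y] {p : ℕ} [Fact p.Prime]
  {V : Type*} [AddCommGroup V] [Module (ZMod p) V]
  {ε : Multiplicative V →* Y} {α : Y →* (V ≃ₗ[ZMod p] V)}

set_option maxHeartbeats 800000 in
theorem Conf.main [Finite Y] [Finite V] (cf : Conf ε α) (n : ℕ) (hn : 3 ≤ n)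
    (hfr : finrank (ZMod p) V = n)
    (hsolv : Group.IsSolvable (Y ⧸ pPrimeCore p Y))
    (HT : ∀ A B : Subgroup Y, A ≤ ε.range → B ≤ ε.range → Nat.card A = Nat.card B →
      ∃ y : Y, B = A.map (MulAut.conj y).toMonoidHom) :
    (n = 3 ∧ (∃ f : Y ⧸ pPrimeCore p Y →* semiaffineGroup (GaloisField p 3),
        Function.Injective f) ∧
      (p = 2 → Nonempty (Y ⧸ pPrimeCore p Y ≃* semiaffineGroup (GaloisField 2 3)) ∨
               Nonempty (Y ⧸ pPrimeCore p Y ≃* affineGroup (GaloisField 2 3)))) ∨
    (n = 5 ∧ p = 2 ∧ Nonempty (Y ⧸ pPrimeCore p Y ≃* semiaffineGroup (GaloisField 2 5))) := by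
  have htr := cf.sub_trans HT
  have hpr := (Fact.out : p.Prime)
  obtain ⟨hcase, e, he, hdv1, hdv2⟩ := cf.core_arith n hn hfr hsolv
    (by
      intro v w hv hw
      obtain ⟨y, hy⟩ := htr (Submodule.span (ZMod p) {v}) (Submodule.span (ZMod p) {w}) (by
        rw [Hup.natCard_eq_pow (q := p) (Submodule.span (ZMod p) {v}),
          Hup.natCard_eq_pow (q := p) (Submodule.span (ZMod p) {w}),
          finrank_span_singleton hv, finrank_span_singleton hw])
      have h3 : w ∈ Submodule.span (ZMod p) {w} := Submodule.mem_span_singleton_self w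
      rw [← hy, Submodule.map_span, Set.image_singleton, Submodule.mem_span_singleton] at h3
      obtain ⟨c, hc⟩ := h3
      have hc0 : c ≠ 0 := by
        rintro rfl
        rw [zero_smul] at hc
        exact hw hc.symm
      exact ⟨y, Units.mk0 c hc0, hc⟩)
    (by
      intro W W' hW hW'
      exact htr W W' (by
        rw [Hup.natCard_eq_pow (q := p) W, Hup.natCard_eq_pow (q := p) W', hW, hW']))
  have hnt : Nontrivial V := by
    apply Module.nontrivial_of_finrank_pos (R := ZMod p)
    omega
  obtain ⟨Φ, hP1, hP2⟩ := cf.exists_hom e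
  have hker := cf.ker_eq e Φ hP1 hP2 (by omega)
  have hle := range_le_semiaffine e Φ hP2 he
  have hcR := card_range_eq e Φ hP1 hP2
  have hF : Nat.card (GaloisField p n) = p ^ n := GaloisField.card p n (by omega)
  have hAut := card_ringAut p n (by omega)
  have hsemi := card_semiaffine (F := GaloisField p n)
  have haff := card_affine (F := GaloisField p n)
  rw [hF, hAut] at hsemi
  rw [hF] at haff hcR
  have hcp := card_planes (p := p) (V := V)
  rw [hfr] at hcp
  obtain ⟨N2, hN2⟩ : ∃ N2, N2 = Nat.card {W : Submodule (ZMod p) V // finrank (ZMod p) W = 2} :=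
    ⟨_, rfl⟩
  obtain ⟨A, hA⟩ : ∃ A, A = Nat.card α.range := ⟨_, rfl⟩
  rw [← hN2] at hcp hdv1
  rw [← hA] at hdv1 hdv2 hcR
  rcases hcase with rfl | ⟨rfl, rfl⟩
  · refine Or.inl ⟨rfl, exists_inj_quot Φ _ hker _ hle, fun hp2 => ?_⟩
    subst hp2
    have h7 : N2 = 7 := by
      rcases hcp with h | h
      · norm_num at h
        omega
      · omega
    rw [h7] at hdv1
    norm_num at hdv2
    have hA' : A = 7 ∨ A = 21 := by
      obtain ⟨k, hk⟩ := hdv1
      obtain ⟨j, hj⟩ := hdv2
      have hkj : k * j = 3 := by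
        rw [hk] at hj
        nlinarith
      have hk3 : k ∣ 3 := ⟨j, hkj.symm⟩
      rcases (Nat.dvd_prime Nat.prime_three).mp hk3 with rfl | rfl
      · left; omega
      · right; omega
    rcases hA' with h | h
    · right
      have hle' : Φ.range ≤ affineGroup (GaloisField 2 3) := by
        rintro _ ⟨y, rfl⟩
        obtain ⟨b, hb⟩ := hP2 y
        rw [hb]
        refine mul_mem (trn_mem_affine b) ?_
        obtain ⟨a, σ, hσ⟩ := (mem_GL1_iff _).mp (cE_mem_GL1 e (α y) (he y))
        have h7' : (cE e (α y)) ^ 7 = 1 := by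
          rw [← map_pow]
          have h8 : (⟨α y, ⟨y, rfl⟩⟩ : α.range) ^ 7 = 1 := by
            have h9 := pow_card_eq_one' (G := α.range) (x := ⟨α y, ⟨y, rfl⟩⟩)
            rwa [← hA, h] at h9
          have h' : (α y) ^ 7 = 1 := by
            have h9 := congrArg Subtype.val h8
            rwa [Subgroup.coe_pow, Subgroup.coe_one] at h9
          rw [h', map_one]
        obtain ⟨a', ha'⟩ := slPerm_pow_apply a σ 7
        rw [← hσ, h7'] at ha'
        have ha1 : a' = 1 := by
          have h9 := ha' 1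
          rw [Equiv.Perm.one_apply, map_one, mul_one] at h9
          exact h9.symm
        have hσ7 : σ ^ 7 = 1 := by
          ext x
          have h9 := ha' x
          rw [Equiv.Perm.one_apply, ha1, one_mul] at h9
          exact h9.symm
        have hσ3 : σ ^ 3 = 1 := by
          have h9 := pow_card_eq_one' (G := GaloisField 2 3 ≃+* GaloisField 2 3) (x := σ)
          rwa [hAut] at h9
        have hσ1 : σ = 1 := by
          have h1 := orderOf_dvd_of_pow_eq_one hσ7
          have h2 := orderOf_dvd_of_pow_eq_one hσ3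
          have h3 : orderOf σ ∣ Nat.gcd 7 3 := Nat.dvd_gcd h1 h2
          have h4 : Nat.gcd 7 3 = 1 := by norm_num
          rw [h4, Nat.dvd_one] at h3
          exact orderOf_eq_one_iff.mp h3
        rw [hσ, hσ1]
        exact (mem_affine_iff _).mpr ⟨a, 0, rfl⟩
      have heq : Φ.range = affineGroup (GaloisField 2 3) :=
        Subgroup.eq_of_le_of_card_ge hle' (by omega)
      exact nonempty_equiv_quot Φ _ hker _ heq
    · left
      have heq : Φ.range = semiaffineGroup (GaloisField 2 3) :=
        Subgroup.eq_of_le_of_card_ge hle (by omega)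
      exact nonempty_equiv_quot Φ _ hker _ heq
  · refine Or.inr ⟨rfl, rfl, ?_⟩
    have h155 : N2 = 155 := by
      rcases hcp with h | h
      · norm_num at h
        omega
      · omega
    rw [h155] at hdv1
    norm_num at hdv2
    have hA' : A = 155 := Nat.dvd_antisymm hdv2 hdv1
    have heq : Φ.range = semiaffineGroup (GaloisField 2 5) :=
      Subgroup.eq_of_le_of_card_ge hle (by omega)
    exact nonempty_equiv_quot Φ _ hker _ heq

end Main

section Build

/-- a normal elementary abelian Hall subgroup gives a configuration -/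
theorem exists_conf {Y : Type u} [Group Y] (p : ℕ) [Fact p.Prime] (Q : Subgroup Y)
    [hQ : Q.Normal] (hc : ∀ a ∈ Q, ∀ b ∈ Q, a * b = b * a) (hx : ∀ a ∈ Q, a ^ p = 1)
    (hall : (Nat.card Q).Coprime Q.index) :
    ∃ (V : Type u) (_ : AddCommGroup V) (_ : Module (ZMod p) V) (ε : Multiplicative V →* Y)
      (α : Y →* (V ≃ₗ[ZMod p] V)), Conf ε α ∧ ε.range = Q := by
  letI : CommGroup Q :=
    { (inferInstance : Group Q) with
      mul_comm := fun a b => Subtype.ext (hc a.1 a.2 b.1 b.2) }
  have hM : Module (ZMod p) (Additive Q) := AddCommGroup.zmodModule (by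
    intro x
    change Additive.ofMul (x.toMul ^ p) = 0
    have : x.toMul ^ p = 1 := Subtype.ext (by
      have := hx x.toMul.1 x.toMul.2
      simpa using this)
    rw [this]
    rfl)
  let ε : Multiplicative (Additive Q) →* Y :=
    { toFun := fun m => ((Additive.toMul (Multiplicative.toAdd m) : Q) : Y)
      map_one' := rfl
      map_mul' := fun a b => rfl }
  let cj : Y → (Additive Q ≃+ Additive Q) := fun y =>
    { toFun := fun v => Additive.ofMul
        ⟨y * (Additive.toMul v : Q) * y⁻¹, hQ.conj_mem _ (Additive.toMul v).2 y⟩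
      invFun := fun v => Additive.ofMul ⟨y⁻¹ * (Additive.toMul v : Q) * y, by
        have := hQ.conj_mem _ (Additive.toMul v).2 y⁻¹
        rwa [inv_inv] at this⟩
      left_inv := fun v => by
        apply Additive.toMul.injective
        apply Subtype.ext
        show y⁻¹ * (y * (Additive.toMul v : Q) * y⁻¹) * y = (Additive.toMul v : Q)
        group
      right_inv := fun v => by
        apply Additive.toMul.injective
        apply Subtype.ext
        show y * (y⁻¹ * (Additive.toMul v : Q) * y) * y⁻¹ = (Additive.toMul v : Q)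
        group
      map_add' := fun v w => by
        apply Additive.toMul.injective
        apply Subtype.ext
        show y * (((Additive.toMul v : Q) : Y) * ((Additive.toMul w : Q) : Y)) * y⁻¹ =
          (y * (Additive.toMul v : Q) * y⁻¹) * (y * (Additive.toMul w : Q) * y⁻¹)
        group }
  have hcj : ∀ (y : Y) (v : Additive Q),
      ((Additive.toMul (cj y v) : Q) : Y) = y * (Additive.toMul v : Q) * y⁻¹ := fun y v => rfl
  let α : Y →* (Additive Q ≃ₗ[ZMod p] Additive Q) :=
    MonoidHom.mk'
      (fun y => (cj y).toLinearEquiv (fun (c : ZMod p) v => ZMod.map_smul (cj y) c v)) (by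
        intro y z
        refine LinearEquiv.ext fun v => ?_
        rw [LinearEquiv.mul_apply]
        simp only [AddEquiv.coe_toLinearEquiv]
        apply Additive.toMul.injective
        apply Subtype.ext
        rw [hcj, hcj, hcj]
        group)
  have hinj : Function.Injective ε := by
    intro a b h
    exact Multiplicative.toAdd.injective (Additive.toMul.injective (Subtype.ext h))
  have hr : ε.range = Q := by
    ext x
    constructor
    · rintro ⟨m, rfl⟩
      exact (Additive.toMul (Multiplicative.toAdd m)).2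
    · intro hx'
      exact ⟨Multiplicative.ofAdd (Additive.ofMul ⟨x, hx'⟩), rfl⟩
  refine ⟨Additive Q, inferInstance, hM, ε, α, ⟨hinj, ?_, ?_, ?_⟩, hr⟩
  · rw [hr]
    exact hQ
  · rw [hr]
    exact hall
  · intro y v
    rfl

/-- Burnside fusion for subgroups of an abelian Sylow subgroup -/
theorem fusion_in_normalizer {G : Type*} [Group G] [Finite G] {p : ℕ} [Fact p.Prime]
    (P : Sylow p G) (hc : ∀ a ∈ (P : Subgroup G), ∀ b ∈ (P : Subgroup G), a * b = b * a)
    (U U' : Subgroup G) (hU : U ≤ P) (hU' : U' ≤ P) (g : G)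
    (hg : U' = U.map (MulAut.conj g).toMonoidHom) :
    ∃ y ∈ Subgroup.normalizer ((P : Subgroup G) : Set G),
      U' = U.map (MulAut.conj y).toMonoidHom := by
  subst hg
  have h1 : (P : Subgroup G) ≤
      Subgroup.centralizer ((U.map (MulAut.conj g).toMonoidHom : Subgroup G) : Set G) := by
    intro x hx
    rw [Subgroup.mem_centralizer_iff]
    intro u hu
    exact hc u (hU' hu) x hx
  have h2 : ((g • P : Sylow p G) : Subgroup G) ≤
      Subgroup.centralizer ((U.map (MulAut.conj g).toMonoidHom : Subgroup G) : Set G) := by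
    rintro _ ⟨z, hz, rfl⟩
    rw [Subgroup.mem_centralizer_iff]
    intro u hu
    obtain ⟨w, hw, rfl⟩ := hu
    show g * w * g⁻¹ * (g * z * g⁻¹) = g * z * g⁻¹ * (g * w * g⁻¹)
    have h3 := hc w (hU hw) z hz
    calc g * w * g⁻¹ * (g * z * g⁻¹) = g * (w * z) * g⁻¹ := by group
      _ = g * (z * w) * g⁻¹ := by rw [h3]
      _ = g * z * g⁻¹ * (g * w * g⁻¹) := by group
  obtain ⟨h, hh⟩ := MulAction.exists_smul_eq
    (Subgroup.centralizer ((U.map (MulAut.conj g).toMonoidHom : Subgroup G) : Set G))
    ((g • P).subtype h2) (P.subtype h1)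
  simp_rw [Sylow.smul_subtype, Subgroup.smul_def, smul_smul] at hh
  have hy : (h : G) * g ∈ Subgroup.normalizer ((P : Subgroup G) : Set G) :=
    Sylow.smul_eq_iff_mem_normalizer.mp (Sylow.subtype_injective hh)
  have hcen : ∀ u ∈ U.map (MulAut.conj g).toMonoidHom, (h : G) * u * (h : G)⁻¹ = u := by
    intro u hu
    have h3 := (Subgroup.mem_centralizer_iff.mp h.2) u hu
    rw [← h3, mul_inv_cancel_right]
  have hmap : ∀ w ∈ U, (h : G) * g * w * ((h : G) * g)⁻¹ = g * w * g⁻¹ := by
    intro w hw
    have hu : g * w * g⁻¹ ∈ U.map (MulAut.conj g).toMonoidHom := ⟨w, hw, rfl⟩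
    calc (h : G) * g * w * ((h : G) * g)⁻¹ = (h : G) * (g * w * g⁻¹) * (h : G)⁻¹ := by group
      _ = g * w * g⁻¹ := hcen _ hu
  refine ⟨h * g, hy, ?_⟩
  ext x
  constructor
  · rintro ⟨w, hw, rfl⟩
    exact ⟨w, hw, hmap w hw⟩
  · rintro ⟨w, hw, rfl⟩
    exact ⟨w, hw, (hmap w hw).symm⟩

/-- the group-theoretic statement -/
theorem main_group {G : Type u} [Group G] [Finite G] {p : ℕ} [Fact p.Prime]
    (hC : ∀ H K : Subgroup G, IsPGroup p H → IsPGroup p K → Nat.card H = Nat.card K →
      ∃ g : G, K = H.map (MulAut.conj g).toMonoidHom) (P : Sylow p G) (n : ℕ) (hn : 3 ≤ n)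
    (hel : IsElementaryAbelian p (P : Subgroup G)) (hcard : Nat.card P = p ^ n)
    (N : Subgroup G) (hPN : (P : Subgroup G) ≤ N)
    (hQn : ((P : Subgroup G).subgroupOf N).Normal)
    (hNn : Subgroup.normalizer ((P : Subgroup G) : Set G) ≤ N)
    (hsolv : Group.IsSolvable (↥N ⧸ pPrimeCore p ↥N)) :
    (n = 3 ∧ (∃ f : ↥N ⧸ pPrimeCore p ↥N →* semiaffineGroup (GaloisField p 3),
        Function.Injective f) ∧
      (p = 2 → Nonempty (↥N ⧸ pPrimeCore p ↥N ≃* semiaffineGroup (GaloisField 2 3)) ∨
               Nonempty (↥N ⧸ pPrimeCore p ↥N ≃* affineGroup (GaloisField 2 3)))) ∨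
    (n = 5 ∧ p = 2 ∧ Nonempty (↥N ⧸ pPrimeCore p ↥N ≃* semiaffineGroup (GaloisField 2 5))) := by
  have hpr := (Fact.out : p.Prime)
  have hPc : ∀ a ∈ (P : Subgroup G), ∀ b ∈ (P : Subgroup G), a * b = b * a := fun a ha b hb =>
    congrArg Subtype.val (hel.1.is_comm.comm ⟨a, ha⟩ ⟨b, hb⟩)
  have hQc : ∀ a ∈ (P : Subgroup G).subgroupOf N, ∀ b ∈ (P : Subgroup G).subgroupOf N,
      a * b = b * a := fun a ha b hb => Subtype.ext (hPc a.1 ha b.1 hb)
  have hQx : ∀ a ∈ (P : Subgroup G).subgroupOf N, a ^ p = 1 := fun a ha => Subtype.ext (by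
    rw [Subgroup.coe_pow, Subgroup.coe_one]
    exact hel.2 a.1 ha)
  have hQcard : Nat.card ((P : Subgroup G).subgroupOf N) = p ^ n := by
    rw [← hcard]
    exact Nat.card_congr (Subgroup.subgroupOfEquivOfLe hPN).toEquiv
  have hall : (Nat.card ((P : Subgroup G).subgroupOf N)).Coprime
      ((P : Subgroup G).subgroupOf N).index := (P.subtype hPN).card_coprime_index
  obtain ⟨V, i1, i2, ε, α, cf, hr⟩ := exists_conf p ((P : Subgroup G).subgroupOf N) hQc hQx hall
  have hfinV : Finite V := Finite.of_injective (fun v : V => ε (Multiplicative.ofAdd v))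
    (fun a b h => Multiplicative.ofAdd.injective (cf.inj h))
  have hfr : finrank (ZMod p) V = n := by
    have h1 := cf.card_range
    rw [hr, hQcard] at h1
    exact (Nat.pow_right_injective hpr.two_le h1).symm
  have HT : ∀ A B : Subgroup N, A ≤ ε.range → B ≤ ε.range → Nat.card A = Nat.card B →
      ∃ y : N, B = A.map (MulAut.conj y).toMonoidHom := by
    intro A B hA hB hAB
    rw [hr] at hA hB
    have hA' : A.map N.subtype ≤ (P : Subgroup G) := by
      rintro _ ⟨a, ha, rfl⟩
      exact hA ha
    have hB' : B.map N.subtype ≤ (P : Subgroup G) := by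
      rintro _ ⟨a, ha, rfl⟩
      exact hB ha
    obtain ⟨g, hg⟩ := hC (A.map N.subtype) (B.map N.subtype) (P.isPGroup'.to_le hA')
      (P.isPGroup'.to_le hB')
      (by rw [Subgroup.card_map_of_injective N.subtype_injective,
        Subgroup.card_map_of_injective N.subtype_injective, hAB])
    obtain ⟨y, hy, hy'⟩ := fusion_in_normalizer P hPc _ _ hA' hB' g hg
    refine ⟨⟨y, hNn hy⟩, ?_⟩
    apply Subgroup.map_injective N.subtype_injective
    have hcomp : (MulAut.conj y).toMonoidHom.comp N.subtype =
        N.subtype.comp (MulAut.conj (⟨y, hNn hy⟩ : N)).toMonoidHom := MonoidHom.ext fun a => rfl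
    rw [hy', Subgroup.map_map, Subgroup.map_map, hcomp]
  exact cf.main n hn hfr hsolv HT

end Build

end Cfsg.Agent.Lib.Helper6.Hq
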