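import Mathlib
import Cfsg.Agent.Lib.Helper6.BlkVanish
import Cfsg.Agent.Lib.Helper6.Decomp
import Cfsg.Agent.Lib.Helper6.Mult
import Cfsg.Agent.Lib.Helper6.Multiplicity
import Cfsg.Agent.Lib.Helper6.Linear
import Cfsg.Agent.Lib.Helper6.ClassFun
import Cfsg.Agent.Lib.Helper6.BlkLocal
import Cfsg.Agent.Lib.Helper6.BlkContrib
import Cfsg.Agent.Lib.Helper6.BlkDefect
import Cfsg.Agent.S0908

set_option autoImplicit false
set_option linter.unusedSectionVars false
open Cfsg

namespace Cfsg.Agent.Lib.Helper6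

open scoped ComplexConjugate

section shift

variable {X : Type*} [Group X] [Fintype X] [DecidableEq X]

/-- the scalar by which a central element acts in an irreducible character is integral -/
theorem IsIrrCharacter.isIntegral_central_ratio {τ : X → ℂ} (hτ : Cfsg.IsIrrCharacter X τ) {c : X}
    (hc : ∀ h : X, c * h = h * c) : IsIntegral ℤ (τ c / τ 1) := by
  have h1 := IsIrrCharacter.apply_central_pow hτ hc (orderOf c)
  rw [pow_orderOf_eq_one, div_self (IsIrrCharacter.apply_one_ne_zero hτ)] at h1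
  refine ⟨Polynomial.X ^ orderOf c - 1, Polynomial.monic_X_pow_sub_C 1 (orderOf_pos c).ne', ?_⟩
  simp [← h1]

/-- shifting a character by a central element and restricting to a subgroup gives an integral
combination of irreducible characters -/
theorem isIntegral_classInner_shift_central {χ : X → ℂ} (hχ : Cfsg.IsCharacter X χ) {c : X}
    (hc : ∀ h : X, c * h = h * c) (Q : Subgroup X) [Fintype Q] {μ : Q → ℂ}
    (hμ : Cfsg.IsIrrCharacter Q μ) :
    IsIntegral ℤ (Cfsg.classInner (fun y : Q => χ (c * (y : X))) μ) := by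
  classical
  haveI : Fintype (Cfsg.IrrCharacter X) := Fintype.ofFinite _
  obtain ⟨m, hm⟩ := IsCharacter.eq_sum_irr hχ
  have h1 : (fun y : Q => χ (c * (y : X)))
      = ∑ τ : Cfsg.IrrCharacter X, (((m τ : ℕ) : ℂ) * ((τ : X → ℂ) c / (τ : X → ℂ) 1)) •
          (fun y : Q => (τ : X → ℂ) (y : X)) := by
    funext y
    rw [hm]
    simp only [Finset.sum_apply, Pi.smul_apply, smul_eq_mul, nsmul_eq_mul]
    apply Finset.sum_congr rfl
    intro τ _
    rw [Pi.mul_apply, Pi.natCast_apply, IsIrrCharacter.apply_central_mul τ.2 hc]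
    have := IsIrrCharacter.apply_one_ne_zero τ.2
    field_simp
  rw [h1, classInner_sum_left]
  apply IsIntegral.sum
  intro τ _
  rw [classInner_smul_left]
  apply IsIntegral.mul
  · apply IsIntegral.mul
    · have h5 := isIntegral_algebraMap (R := ℤ) (A := ℂ) (x := ((m τ : ℕ) : ℤ))
      simpa using h5
    · exact IsIrrCharacter.isIntegral_central_ratio τ.2 hc
  · obtain ⟨n, hn⟩ := IsCharacter.classInner_irr_nat
      (IsCharacter.restrict Q (IsIrrCharacter.isCharacter τ.2)) hμ
    rw [hn]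
    have h5 := isIntegral_algebraMap (R := ℤ) (A := ℂ) (x := ((n : ℕ) : ℤ))
    simpa using h5

variable {p : ℕ} [hp : Fact p.Prime] {M : Ideal Cfsg.AlgInt}

/-- if a character does not vanish mod `M` at a central element, then for any `p`-subgroup the
shifted restriction contains a linear character -/
theorem exists_linear_of_not_memLocalIdeal (hM : Cfsg.IsPModular p M) {χ : X → ℂ}
    (hχ : Cfsg.IsCharacter X χ) {c : X} (hc : ∀ h : X, c * h = h * c) (Q : Subgroup X)
    [Fintype Q] (hQ : IsPGroup p Q) (hχc : ¬ Cfsg.MemLocalIdeal M (χ c)) :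
    ∃ μ : Q → ℂ, Cfsg.IsIrrCharacter Q μ ∧ μ 1 = 1 ∧
      Cfsg.classInner (fun y : Q => χ (c * (y : X))) μ ≠ 0 := by
  classical
  haveI : Fintype (Cfsg.IrrCharacter Q) := Fintype.ofFinite _
  by_contra hcon
  push Not at hcon
  apply hχc
  have hcf : Cfsg.IsClassFunction Q (fun y : Q => χ (c * (y : X))) := by
    intro y h
    have hχcf := IsCharacter.isClassFunction hχ
    have : c * ((h * y * h⁻¹ : Q) : X) = (h : X) * (c * (y : X)) * (h : X)⁻¹ := by
      push_cast
      rw [← mul_assoc, ← mul_assoc, hc (h : X), mul_assoc (h : X) c]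
    simp only [this]
    exact hχcf _ _
  have h1 := classFunction_eq_sum _ hcf
  have h2 := congrFun h1 1
  simp only [Subgroup.coe_one, mul_one, Finset.sum_apply, Pi.smul_apply, smul_eq_mul] at h2
  rw [h2]
  apply MemLocalIdeal.sum hM
  intro μ _
  by_cases hμ1 : (μ : Q → ℂ) 1 = 1
  · rw [hcon μ μ.2 hμ1, zero_mul]
    exact memLocalIdeal_zero hM
  · apply MemLocalIdeal.mul_left hM
      (memLocalRing_of_isIntegral hM (isIntegral_classInner_shift_central hχ hc Q μ.2))
    rw [IsCharacter.apply_one_eq_charDegree (IsIrrCharacter.isCharacter μ.2)]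
    rw [memLocalIdeal_natCast_iff hM]
    have hdvd := IsIrrCharacter.charDegree_dvd_card μ.2
    obtain ⟨k, hk⟩ := hQ.exists_card_eq
    rw [hk] at hdvd
    obtain ⟨j, _, hj⟩ := (Nat.dvd_prime_pow hp.out).mp hdvd
    rcases Nat.eq_zero_or_pos j with h0 | h0
    · exfalso
      apply hμ1
      rw [IsCharacter.apply_one_eq_charDegree (IsIrrCharacter.isCharacter μ.2), hj, h0]
      simp
    · rw [hj]
      exact dvd_pow_self p h0.ne'

/-- a linear constituent of a shifted restriction agrees with the multiplier on elements that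
act by scalars -/
theorem linear_eq_of_shift_scalar {ψ : X → ℂ} (Q : Subgroup X) [Fintype Q] {μ : Q → ℂ}
    (hμ : Cfsg.IsCharacter Q μ) (hμ1 : μ 1 = 1)
    (hne : Cfsg.classInner (fun y : Q => ψ (y : X)) μ ≠ 0) (z : Q) (l : ℂ)
    (hz : ∀ y : Q, ψ ((z : X) * (y : X)) = l * ψ (y : X)) : μ z = l := by
  have hmul := IsCharacter.mul_of_apply_one_eq_one hμ hμ1
  have hμz : μ z * μ z⁻¹ = 1 := by rw [← hmul, mul_inv_cancel, hμ1]
  have hconj : ∀ y : Q, conj (μ y) = μ y⁻¹ := by
    intro y
    have h1 : μ y * μ y⁻¹ = 1 := by rw [← hmul, mul_inv_cancel, hμ1]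
    have h2 := IsCharacter.apply_inv hμ y
    rw [h2]
  have hsum : ∑ y : Q, ψ (y : X) * conj (μ y)
      = (l * μ z⁻¹) * ∑ y : Q, ψ (y : X) * conj (μ y) := by
    conv_lhs => rw [← Equiv.sum_comp (Equiv.mulLeft z) (fun y : Q => ψ (y : X) * conj (μ y))]
    rw [Finset.mul_sum]
    apply Finset.sum_congr rfl
    intro y _
    simp only [Equiv.coe_mulLeft, Subgroup.coe_mul, hz, hmul, map_mul, hconj]
    ring
  have h1 : Cfsg.classInner (fun y : Q => ψ (y : X)) μ
      = (l * μ z⁻¹) * Cfsg.classInner (fun y : Q => ψ (y : X)) μ := by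
    unfold Cfsg.classInner
    rw [← mul_assoc, mul_comm (l * μ z⁻¹), mul_assoc, ← hsum]
  have h2 : l * μ z⁻¹ = 1 := by
    have : (1 - l * μ z⁻¹) * Cfsg.classInner (fun y : Q => ψ (y : X)) μ = 0 := by
      rw [sub_mul, one_mul, ← h1, sub_self]
    rcases mul_eq_zero.mp this with h | h
    · exact (sub_eq_zero.mp h).symm
    · exact absurd h hne
  calc μ z = μ z * (l * μ z⁻¹) := by rw [h2, mul_one]
    _ = l * (μ z * μ z⁻¹) := by ring
    _ = l := by rw [hμz, mul_one]

end shift

end Cfsg.Agent.Lib.Helper6
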