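import Mathlib

set_option autoImplicit false

/-! Huppert's theorem on solvable transitive linear groups: basic set-up.
The algebra generated by a normal abelian subgroup is a field. -/

namespace Cfsg.Agent.Lib.Helper6.Hup

open Module

variable {q : ℕ} [Fact q.Prime] {V : Type*} [AddCommGroup V] [Module (ZMod q) V]
  {G : Type*} [Group G]

/-- the semilinear conclusion -/
def SemiLin (ρ : G →* (V ≃ₗ[ZMod q] V)) : Prop :=
  ∃ (F : Type) (_ : Field F) (_ : Fintype F) (e : V ≃+ F),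
    ∀ g : G, ∃ (a : F) (σ : F ≃+* F), ∀ v : V, e (ρ g v) = a * σ (e v)

/-- the representation as a monoid hom into the endomorphism ring -/
def Lh (ρ : G →* (V ≃ₗ[ZMod q] V)) : G →* Module.End (ZMod q) V where
  toFun g := (ρ g).toLinearMap
  map_one' := by rw [map_one]; rfl
  map_mul' a b := by rw [map_mul]; rfl

theorem Lh_apply (ρ : G →* (V ≃ₗ[ZMod q] V)) (g : G) (v : V) : Lh ρ g v = ρ g v := rfl

theorem Lh_mul_inv (ρ : G →* (V ≃ₗ[ZMod q] V)) (g : G) : Lh ρ g * Lh ρ g⁻¹ = 1 := by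
  rw [← map_mul, mul_inv_cancel, map_one]

theorem Lh_inv_mul (ρ : G →* (V ≃ₗ[ZMod q] V)) (g : G) : Lh ρ g⁻¹ * Lh ρ g = 1 := by
  rw [← map_mul, inv_mul_cancel, map_one]

theorem Lh_injective (ρ : G →* (V ≃ₗ[ZMod q] V)) (hρ : Function.Injective ρ) :
    Function.Injective (Lh ρ) := by
  intro a b h
  apply hρ
  ext v
  exact LinearMap.congr_fun h v

theorem Lh_inv_apply (ρ : G →* (V ≃ₗ[ZMod q] V)) (g : G) (v : V) :
    Lh ρ g⁻¹ (Lh ρ g v) = v := by
  have := LinearMap.congr_fun (Lh_inv_mul ρ g) v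
  rwa [Module.End.mul_apply] at this

theorem Lh_apply_inv (ρ : G →* (V ≃ₗ[ZMod q] V)) (g : G) (v : V) :
    Lh ρ g (Lh ρ g⁻¹ v) = v := by
  have := LinearMap.congr_fun (Lh_mul_inv ρ g) v
  rwa [Module.End.mul_apply] at this

theorem conj_cancel (ρ : G →* (V ≃ₗ[ZMod q] V)) (g : G) (x : Module.End (ZMod q) V) :
    Lh ρ g⁻¹ * (Lh ρ g * x * Lh ρ g⁻¹) * Lh ρ g = x := by
  calc Lh ρ g⁻¹ * (Lh ρ g * x * Lh ρ g⁻¹) * Lh ρ g
      = (Lh ρ g⁻¹ * Lh ρ g) * x * (Lh ρ g⁻¹ * Lh ρ g) := by simp only [mul_assoc]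
    _ = x := by rw [Lh_inv_mul, one_mul, mul_one]

theorem conj_mul (ρ : G →* (V ≃ₗ[ZMod q] V)) (g : G) (x y : Module.End (ZMod q) V) :
    Lh ρ g * (x * y) * Lh ρ g⁻¹ = (Lh ρ g * x * Lh ρ g⁻¹) * (Lh ρ g * y * Lh ρ g⁻¹) := by
  calc Lh ρ g * (x * y) * Lh ρ g⁻¹ = Lh ρ g * x * 1 * y * Lh ρ g⁻¹ := by
        simp only [mul_one, mul_assoc]
    _ = _ := by rw [← Lh_inv_mul ρ g]; simp only [mul_assoc]

theorem finite_End [Finite V] : Finite (Module.End (ZMod q) V) := DFunLike.finite _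

/-- **Claim A**: a commuting family of endomorphisms normalised by a group transitive on the nonzero
vectors consists of `0` and injective maps. -/
theorem eq_zero_of_trans [Finite V] (ρ : G →* (V ≃ₗ[ZMod q] V))
    (htrans : ∀ v w : V, v ≠ 0 → w ≠ 0 → ∃ g : G, ρ g v = w)
    (A : Set (Module.End (ZMod q) V))
    (hcomm : ∀ a ∈ A, ∀ b ∈ A, a * b = b * a)
    (hnorm : ∀ g : G, ∀ a ∈ A, Lh ρ g * a * Lh ρ g⁻¹ ∈ A)
    {a : Module.End (ZMod q) V} (ha : a ∈ A) {v : V} (hv : v ≠ 0) (hav : a v = 0) : a = 0 := by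
  classical
  have : Finite (Module.End (ZMod q) V) := finite_End
  let I : V → Set (Module.End (ZMod q) V) := fun v => {a | a ∈ A ∧ a v = 0}
  have hfin : ∀ v, (I v).Finite := fun v => Set.toFinite _
  have key1 : ∀ v w : V, v ≠ 0 → w ≠ 0 → (I v).ncard ≤ (I w).ncard := by
    intro v w hv hw
    obtain ⟨g, hg⟩ := htrans v w hv hw
    apply Set.ncard_le_ncard_of_injOn (fun a => Lh ρ g * a * Lh ρ g⁻¹) _ _ (hfin w)
    · rintro a ⟨haA, hav⟩
      refine ⟨hnorm g a haA, ?_⟩
      have h1 : Lh ρ g⁻¹ w = v := by rw [← hg]; exact Lh_inv_apply ρ g v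
      show (Lh ρ g * a * Lh ρ g⁻¹) w = 0
      rw [Module.End.mul_apply, Module.End.mul_apply, h1, hav, map_zero]
    · intro a _ b _ hab
      have h2 := congrArg (fun x => Lh ρ g⁻¹ * x * Lh ρ g) hab
      simp only [conj_cancel] at h2
      exact h2
  have key2 : ∀ v w : V, v ≠ 0 → w ≠ 0 → I v ⊆ I w → I v = I w := fun v w hv hw h =>
    Set.eq_of_subset_of_ncard_le h (key1 w v hw hv) (hfin w)
  have key3 : ∀ v1 v2 : V, v1 ≠ 0 → v2 ≠ 0 → v1 + v2 ≠ 0 →
      I v2 = I (v1 + v2) ∨ I v1 = I v2 := by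
    intro v1 v2 h1 h2 h12
    by_cases hc : ∀ k ∈ I v1, k v2 = 0
    · right
      exact key2 v1 v2 h1 h2 (fun k hk => ⟨hk.1, hc k hk⟩)
    · left
      push Not at hc
      obtain ⟨k, hk, hk2⟩ := hc
      have e2 : I v2 = I (k v2) := key2 v2 (k v2) h2 hk2 (by
        rintro j ⟨hjA, hj⟩
        refine ⟨hjA, ?_⟩
        have : (j * k) v2 = (k * j) v2 := by rw [hcomm j hjA k hk.1]
        rw [Module.End.mul_apply, Module.End.mul_apply, hj, map_zero] at this
        exact this)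
      have e3 : I (v1 + v2) = I (k v2) := key2 (v1 + v2) (k v2) h12 hk2 (by
        rintro j ⟨hjA, hj⟩
        refine ⟨hjA, ?_⟩
        have h3 : k (v1 + v2) = k v2 := by rw [map_add, hk.2, zero_add]
        have : (j * k) (v1 + v2) = (k * j) (v1 + v2) := by rw [hcomm j hjA k hk.1]
        rw [Module.End.mul_apply, Module.End.mul_apply, hj, map_zero, h3] at this
        exact this)
      rw [e2, e3]
  have key4 : ∀ v1 v2 : V, v1 ≠ 0 → v2 ≠ 0 → I v1 = I v2 := by
    intro v1 v2 h1 h2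
    by_cases h12 : v1 + v2 = 0
    · have hv2 : v2 = -v1 := by rw [eq_neg_iff_add_eq_zero, add_comm]; exact h12
      subst hv2
      ext j
      constructor
      · rintro ⟨hA, h⟩
        refine ⟨hA, ?_⟩
        rw [map_neg, h, neg_zero]
      · rintro ⟨hA, h⟩
        refine ⟨hA, ?_⟩
        rw [map_neg, neg_eq_zero] at h
        exact h
    · rcases key3 v1 v2 h1 h2 h12 with h | h
      · rcases key3 v2 v1 h2 h1 (by rwa [add_comm]) with h' | h'
        · rw [add_comm v2 v1] at h'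
          rw [h', h]
        · exact h'.symm
      · exact h
  apply LinearMap.ext
  intro w
  by_cases hw : w = 0
  · rw [hw, map_zero, map_zero]
  · have : a ∈ I w := by rw [← key4 v w hv hw]; exact ⟨ha, hav⟩
    rw [this.2]; rfl

/-- the algebra generated by (the image of) a subgroup -/
def algOf (ρ : G →* (V ≃ₗ[ZMod q] V)) (N : Subgroup G) :
    Subalgebra (ZMod q) (Module.End (ZMod q) V) :=
  Algebra.adjoin (ZMod q) ((Lh ρ) '' (N : Set G))

theorem Lh_mem_algOf (ρ : G →* (V ≃ₗ[ZMod q] V)) {N : Subgroup G} {n : G} (hn : n ∈ N) :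
    Lh ρ n ∈ algOf ρ N :=
  Algebra.subset_adjoin ⟨n, hn, rfl⟩

theorem commute_algOf (ρ : G →* (V ≃ₗ[ZMod q] V)) (N : Subgroup G) (y : Module.End (ZMod q) V)
    (hy : ∀ n ∈ N, Lh ρ n * y = y * Lh ρ n) : ∀ a ∈ algOf ρ N, a * y = y * a := by
  have h1 : algOf ρ N ≤ Subalgebra.centralizer (ZMod q) ({y} : Set (Module.End (ZMod q) V)) := by
    apply Algebra.adjoin_le
    rintro _ ⟨n, hn, rfl⟩
    rw [SetLike.mem_coe, Subalgebra.mem_centralizer_iff]
    intro g hg
    rw [Set.mem_singleton_iff] at hg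
    rw [hg]; exact (hy n hn).symm
  intro a ha
  have := (Subalgebra.mem_centralizer_iff (R := ZMod q)).mp (h1 ha) y rfl
  exact this.symm

theorem algOf_comm (ρ : G →* (V ≃ₗ[ZMod q] V)) (N : Subgroup G)
    (hN : ∀ a ∈ N, ∀ b ∈ N, a * b = b * a) :
    ∀ a ∈ algOf ρ N, ∀ b ∈ algOf ρ N, a * b = b * a := by
  intro a ha b hb
  refine commute_algOf ρ N b (fun n hn => ?_) a ha
  have := commute_algOf ρ N (Lh ρ n)
    (fun m hm => by rw [← map_mul, ← map_mul, hN m hm n hn]) b hb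
  exact this.symm

theorem algOf_conj_mem (ρ : G →* (V ≃ₗ[ZMod q] V)) (N : Subgroup G) (g : G)
    (hg : ∀ n ∈ N, g * n * g⁻¹ ∈ N) :
    ∀ a ∈ algOf ρ N, Lh ρ g * a * Lh ρ g⁻¹ ∈ algOf ρ N := by
  intro a ha
  induction ha using Algebra.adjoin_induction with
  | mem x hx =>
    obtain ⟨n, hn, rfl⟩ := hx
    rw [← map_mul, ← map_mul]
    exact Lh_mem_algOf ρ (hg n hn)
  | algebraMap r =>
    rw [(Algebra.commutes r (Lh ρ g)).symm, mul_assoc, Lh_mul_inv, mul_one]
    exact Subalgebra.algebraMap_mem _ r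
  | add x y _ _ hx hy =>
    rw [mul_add, add_mul]; exact add_mem hx hy
  | mul x y _ _ hx hy =>
    rw [conj_mul]; exact mul_mem hx hy

theorem algOf_mono (ρ : G →* (V ≃ₗ[ZMod q] V)) {N M : Subgroup G} (h : N ≤ M) :
    algOf ρ N ≤ algOf ρ M :=
  Algebra.adjoin_mono (Set.image_mono h)

/-- field-like subalgebras -/
structure FL (A : Subalgebra (ZMod q) (Module.End (ZMod q) V)) : Prop where
  comm : ∀ a ∈ A, ∀ b ∈ A, a * b = b * a
  inj : ∀ a ∈ A, ∀ v : V, v ≠ 0 → a v = 0 → a = 0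

theorem FL_algOf [Finite V] (ρ : G →* (V ≃ₗ[ZMod q] V))
    (htrans : ∀ v w : V, v ≠ 0 → w ≠ 0 → ∃ g : G, ρ g v = w)
    (N : Subgroup G) (hNn : N.Normal) (hN : ∀ a ∈ N, ∀ b ∈ N, a * b = b * a) :
    FL (algOf ρ N) :=
  ⟨algOf_comm ρ N hN, fun _ ha _ hv hav =>
    eq_zero_of_trans ρ htrans (algOf ρ N : Set (Module.End (ZMod q) V)) (algOf_comm ρ N hN)
      (fun g a ha => algOf_conj_mem ρ N g (fun n hn => hNn.conj_mem n hn g) a ha) ha hv hav⟩

theorem natCard_eq_pow (W : Type*) [AddCommGroup W] [Module (ZMod q) W] [Finite W] :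
    Nat.card W = q ^ finrank (ZMod q) W := by
  classical
  have : Fintype W := Fintype.ofFinite W
  rw [Nat.card_eq_fintype_card, Module.card_eq_pow_finrank (K := ZMod q) (V := W), ZMod.card]

namespace FL

variable {A : Subalgebra (ZMod q) (Module.End (ZMod q) V)} (hA : FL A)
include hA

theorem mul_eq_zero' {a b : Module.End (ZMod q) V} (ha : a ∈ A) (_hb : b ∈ A) (h : a * b = 0) :
    a = 0 ∨ b = 0 := by
  by_cases hb0 : b = 0
  · right; exact hb0
  · left
    obtain ⟨v, hv⟩ : ∃ v, b v ≠ 0 := by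
      by_contra hcon
      push Not at hcon
      exact hb0 (LinearMap.ext hcon)
    exact hA.inj a ha (b v) hv (by rw [← Module.End.mul_apply, h]; rfl)

theorem finite_carrier [Finite V] : Finite A := by
  have : Finite (Module.End (ZMod q) V) := finite_End
  infer_instance

theorem eval_injective {v0 : V} (hv0 : v0 ≠ 0) :
    Function.Injective (fun a : A => (a : Module.End (ZMod q) V) v0) := by
  intro a b hab
  apply Subtype.ext
  have h1 : ((a : Module.End (ZMod q) V) - (b : Module.End (ZMod q) V)) v0 = 0 := by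
    rw [LinearMap.sub_apply]; exact sub_eq_zero.mpr hab
  exact sub_eq_zero.mp (hA.inj _ (A.sub_mem a.2 b.2) v0 hv0 h1)

theorem card_le [Finite V] [Nontrivial V] : Nat.card A ≤ Nat.card V := by
  obtain ⟨v0, hv0⟩ := exists_ne (0 : V)
  exact Nat.card_le_card_of_injective _ (hA.eval_injective hv0)

theorem isField [Finite V] [Nontrivial V] : IsField A where
  exists_pair_ne := by
    refine ⟨0, 1, ?_⟩
    intro h
    obtain ⟨v0, hv0⟩ := exists_ne (0 : V)
    have h1 := congrArg (fun x : A => (x : Module.End (ZMod q) V) v0) h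
    exact hv0 h1.symm
  mul_comm a b := Subtype.ext (hA.comm a a.2 b b.2)
  mul_inv_cancel {a} ha := by
    have : Finite A := hA.finite_carrier
    have hinj : Function.Injective (fun b : A => a * b) := by
      intro b c hbc
      have h1 : a * (b - c) = 0 := by rw [mul_sub]; exact sub_eq_zero.mpr hbc
      have h2 : (a : Module.End (ZMod q) V) * ((b - c : A) : Module.End (ZMod q) V) = 0 :=
        congrArg Subtype.val h1
      rcases hA.mul_eq_zero' a.2 (b - c).2 h2 with h | h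
      · exact absurd (Subtype.ext h) ha
      · exact sub_eq_zero.mp (Subtype.ext h)
    obtain ⟨b, hb⟩ := (Finite.injective_iff_surjective.mp hinj) 1
    exact ⟨b, hb⟩

theorem card_eq [Finite V] : Nat.card A = q ^ finrank (ZMod q) A := by
  have : Finite A := hA.finite_carrier
  exact natCard_eq_pow A

theorem finrank_pos [Finite V] [Nontrivial V] : 0 < finrank (ZMod q) A := by
  have : Finite A := hA.finite_carrier
  by_contra h
  have h0 : finrank (ZMod q) A = 0 := by omega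
  have h1 := hA.card_eq
  rw [h0, pow_zero] at h1
  have h2 : (0 : A) = 1 := (Nat.card_eq_one_iff_unique.mp h1).1.elim 0 1
  exact hA.isField.exists_pair_ne.elim (fun x hx => hx.elim (fun y hy => hy
    ((Nat.card_eq_one_iff_unique.mp h1).1.elim x y)))

theorem finrank_le [Finite V] [Nontrivial V] : finrank (ZMod q) A ≤ finrank (ZMod q) V := by
  have h1 := hA.card_le
  rw [hA.card_eq, natCard_eq_pow (q := q) V] at h1
  exact (Nat.pow_le_pow_iff_right (Fact.out : q.Prime).one_lt).mp h1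

end FL

/-- **Lemma 0**, abstract form -/
theorem semilin_of_field [Finite V] (ρ : G →* (V ≃ₗ[ZMod q] V)) {K : Type*} [Field K] [Finite K]
    (ι : K →+* Module.End (ZMod q) V) (v0 : V)
    (hbij : Function.Bijective (fun k : K => ι k v0))
    (hnorm : ∀ g : G, ∀ k : K, ∃ k' : K, Lh ρ g * ι k * Lh ρ g⁻¹ = ι k') : SemiLin ρ := by
  classical
  have hιinj : Function.Injective ι := by
    intro a b hab
    apply hbij.1
    show ι a v0 = ι b v0
    rw [hab]
  choose σ hσ using hnorm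
  have hσmul : ∀ g k1 k2, σ g (k1 * k2) = σ g k1 * σ g k2 := by
    intro g k1 k2
    apply hιinj
    rw [map_mul, ← hσ, ← hσ, ← hσ, map_mul, conj_mul]
  have hσadd : ∀ g k1 k2, σ g (k1 + k2) = σ g k1 + σ g k2 := by
    intro g k1 k2
    apply hιinj
    rw [map_add, ← hσ, ← hσ, ← hσ, map_add, mul_add, add_mul]
  have hσone : ∀ g, σ g 1 = 1 := by
    intro g
    apply hιinj
    rw [← hσ, map_one, mul_one, Lh_mul_inv]
  have hσzero : ∀ g, σ g 0 = 0 := by
    intro g
    apply hιinj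
    rw [← hσ, map_zero, mul_zero, zero_mul]
  let σh : G → K →+* K := fun g =>
    { toFun := σ g, map_one' := hσone g, map_mul' := hσmul g, map_zero' := hσzero g,
      map_add' := hσadd g }
  have hσbij : ∀ g, Function.Bijective (σh g) := fun g =>
    Finite.injective_iff_bijective.mp (σh g).injective
  let σe : G → K ≃+* K := fun g => RingEquiv.ofBijective (σh g) (hσbij g)
  have hσe : ∀ g k, σe g k = σ g k := fun g k => rfl
  let e0h : K →+ V :=
    { toFun := fun k => ι k v0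
      map_zero' := by rw [map_zero]; rfl
      map_add' := fun a b => by rw [map_add]; rfl }
  let e0 : K ≃+ V := AddEquiv.ofBijective e0h hbij
  have he0 : ∀ k, e0 k = ι k v0 := fun k => rfl
  let sh : Shrink.{0} K ≃+* K := Shrink.ringEquiv.{0, _} K
  have : Finite (Shrink.{0} K) := Finite.of_equiv K (equivShrink.{0, _} K)
  refine ⟨Shrink.{0} K, inferInstance, Fintype.ofFinite _, e0.symm.trans sh.symm.toAddEquiv, ?_⟩
  intro g
  refine ⟨sh.symm (e0.symm (ρ g v0)), (sh.trans (σe g)).trans sh.symm, ?_⟩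
  intro v
  obtain ⟨k, rfl⟩ := e0.surjective v
  have h1 : Lh ρ g * ι k = ι (σ g k) * Lh ρ g := by
    rw [← hσ, mul_assoc, mul_assoc, Lh_inv_mul, mul_one]
  have key : ρ g (e0 k) = e0 (e0.symm (ρ g v0) * σ g k) := by
    have h2 : ρ g (e0 k) = (Lh ρ g * ι k) v0 := rfl
    have h3 : ι (e0.symm (ρ g v0)) v0 = ρ g v0 := by
      rw [← he0, AddEquiv.apply_symm_apply]
    rw [h2, h1, Module.End.mul_apply, Lh_apply, he0, mul_comm, map_mul, Module.End.mul_apply, h3]
  show sh.symm (e0.symm (ρ g (e0 k))) =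
    sh.symm (e0.symm (ρ g v0)) * sh.symm (σe g (sh (sh.symm (e0.symm (e0 k)))))
  rw [key, AddEquiv.symm_apply_apply, AddEquiv.symm_apply_apply, RingEquiv.apply_symm_apply,
    map_mul, hσe]

/-- **Lemma 0** -/
theorem semilin_of_FL [Finite V] [Nontrivial V] (ρ : G →* (V ≃ₗ[ZMod q] V))
    {A : Subalgebra (ZMod q) (Module.End (ZMod q) V)} (hA : FL A)
    (hnorm : ∀ g : G, ∀ a ∈ A, Lh ρ g * a * Lh ρ g⁻¹ ∈ A)
    (hcard : Nat.card A = Nat.card V) : SemiLin ρ := by
  letI : Field A := hA.isField.toField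
  have : Finite A := hA.finite_carrier
  obtain ⟨v0, hv0⟩ := exists_ne (0 : V)
  refine semilin_of_field ρ (A.val : A →+* Module.End (ZMod q) V) v0 ?_ ?_
  · exact (hA.eval_injective hv0).bijective_of_nat_card_le hcard.ge
  · intro g k
    exact ⟨⟨_, hnorm g k k.2⟩, rfl⟩

end Cfsg.Agent.Lib.Helper6.Hup
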