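import Cfsg.Agent.Lib.Helper6.HupA
import Cfsg.Agent.Lib.Helper5.SingerAbelian

set_option autoImplicit false

/-! Huppert: fixed point counting. -/

namespace Cfsg.Agent.Lib.Helper6.Hup

open Module

theorem End_pow_eq_iterate {T : Type*} (F : Function.End T) (n : ℕ) :
    (F ^ n : Function.End T) = Nat.iterate F n := by
  induction n with
  | zero => rfl
  | succ n ih =>
    rw [pow_succ', ih]
    exact (Function.iterate_succ' (f := (F : T → T)) n).symm

theorem card_modEq_fixed {T : Type*} [Finite T] (f : T → T) (p : ℕ) [Fact p.Prime]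
    (hf : ∀ t, f^[p] t = t) : Nat.card T ≡ Nat.card {t : T // f t = t} [MOD p] := by
  classical
  have : Fintype T := Fintype.ofFinite T
  let F : Function.End T := f
  have h1 : (F ^ p ^ 1 : Function.End T) = 1 := by
    rw [pow_one, End_pow_eq_iterate]
    funext t
    exact hf t
  have h2 := Equiv.Perm.card_fixedPoints_modEq (f := F) (p := p) (n := 1) h1
  rw [Nat.card_eq_fintype_card]
  have h3 : Nat.card {t : T // f t = t} = Fintype.card (Function.fixedPoints F) := by
    rw [← Nat.card_eq_fintype_card]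
    exact Nat.card_congr (Equiv.subtypeEquivRight (fun t => Iff.rfl))
  rw [h3]
  exact h2

theorem forall_of_card_subtype_eq {T : Type*} [Finite T] (P : T → Prop)
    (h : Nat.card {t // P t} = Nat.card T) : ∀ t, P t := by
  have hbij : Function.Bijective (Subtype.val : {t // P t} → T) :=
    Subtype.val_injective.bijective_of_nat_card_le h.ge
  intro t
  obtain ⟨s, rfl⟩ := hbij.2 t
  exact s.2

theorem eq_one_of_pow_coprime {H : Type*} [Group H] (w : H) (a b : ℕ) (hab : Nat.Coprime a b)
    (ha : w ^ a = 1) (hb : w ^ b = 1) : w = 1 := by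
  rw [← orderOf_eq_one_iff]
  have h1 := orderOf_dvd_of_pow_eq_one ha
  have h2 := orderOf_dvd_of_pow_eq_one hb
  exact Nat.eq_one_of_dvd_coprimes hab h1 h2

theorem pow_conj_eq {H : Type*} [Group H] (x g w : H) (hxw : x * w = w * x)
    (h : x * g * x⁻¹ = w * g) (k : ℕ) : x ^ k * g * (x ^ k)⁻¹ = w ^ k * g := by
  induction k with
  | zero => simp
  | succ k ih =>
    have e1 : x ^ (k + 1) * g * (x ^ (k + 1))⁻¹ = x * (x ^ k * g * (x ^ k)⁻¹) * x⁻¹ := by
      rw [pow_succ']; group
    rw [e1, ih]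
    have e2 : x * (w ^ k * g) * x⁻¹ = (x * w ^ k * x⁻¹) * (x * g * x⁻¹) := by group
    have e3 : x * w ^ k * x⁻¹ = w ^ k := by
      have : Commute x (w ^ k) := (show Commute x w from hxw).pow_right k
      rw [this.eq, mul_assoc, mul_inv_cancel, mul_one]
    rw [e2, e3, h, ← mul_assoc, ← pow_succ]

/-- if `x` of order dividing `k` acts on `g` by a commuting multiplier `w`, then `w ^ k = 1`. -/
theorem pow_eq_one_of_conj {H : Type*} [Group H] (x g w : H) (hxw : x * w = w * x)
    (h : x * g * x⁻¹ = w * g) (k : ℕ) (hk : x ^ k = 1) : w ^ k = 1 := by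
  have := pow_conj_eq x g w hxw h k
  rw [hk, one_mul, inv_one, mul_one] at this
  exact mul_right_cancel (b := g) (show w ^ k * g = 1 * g by rw [one_mul]; exact this.symm)

variable {q : ℕ} [Fact q.Prime] {V : Type*} [AddCommGroup V] [Module (ZMod q) V]
  {G : Type*} [Group G]

theorem Lh_pow (ρ : G →* (V ≃ₗ[ZMod q] V)) (x : G) (k : ℕ) : Lh ρ (x ^ k) = Lh ρ x ^ k :=
  map_pow _ _ _

namespace FL

variable {A : Subalgebra (ZMod q) (Module.End (ZMod q) V)} (hA : FL A)
include hA

/-- multiplication by a nontrivial `p`-th root of unity has `0` as its only fixed point -/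
theorem card_modEq_one [Finite V] [Nontrivial V] {u : Module.End (ZMod q) V} (hu : u ∈ A)
    (hu1 : u ≠ 1) (p : ℕ) [Fact p.Prime] (hup : u ^ p = 1) : Nat.card A ≡ 1 [MOD p] := by
  have : Finite A := hA.finite_carrier
  let f : A → A := fun a => ⟨u * a, A.mul_mem hu a.2⟩
  have hit : ∀ (k : ℕ) (a : A), ((f^[k] a : A) : Module.End (ZMod q) V) = u ^ k * a := by
    intro k
    induction k with
    | zero => intro a; simp
    | succ k ih =>
      intro a
      rw [Function.iterate_succ', Function.comp_apply]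
      show u * ((f^[k] a : A) : Module.End (ZMod q) V) = _
      rw [ih, ← mul_assoc, ← pow_succ']
  have h1 := card_modEq_fixed f p (fun a => Subtype.ext (by rw [hit, hup, one_mul]))
  have h2 : Nat.card {a : A // f a = a} = 1 := by
    rw [Nat.card_eq_one_iff_unique]
    refine ⟨⟨?_⟩, ⟨⟨0, Subtype.ext (mul_zero u)⟩⟩⟩
    rintro ⟨a, ha⟩ ⟨b, hb⟩
    apply Subtype.ext
    show a = b
    have key : ∀ c : A, f c = c → c = 0 := by
      intro c hc
      have h3 : u * (c : Module.End (ZMod q) V) = c := congrArg Subtype.val hc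
      have h4 : (u - 1) * (c : Module.End (ZMod q) V) = 0 := by
        rw [sub_mul, one_mul, h3, sub_self]
      rcases hA.mul_eq_zero' (A.sub_mem hu A.one_mem) c.2 h4 with h | h
      · exact absurd (sub_eq_zero.mp h) hu1
      · exact Subtype.ext h
    rw [key a ha, key b hb]
  rwa [h2] at h1

/-- on `V` as well -/
theorem card_V_modEq_one [Finite V] {u : Module.End (ZMod q) V} (hu : u ∈ A)
    (hu1 : u ≠ 1) (p : ℕ) [Fact p.Prime] (hup : u ^ p = 1) : Nat.card V ≡ 1 [MOD p] := by
  have hit : ∀ (k : ℕ) (v : V), ((fun w => u w)^[k] v) = (u ^ k) v := by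
    intro k
    induction k with
    | zero => intro v; simp
    | succ k ih =>
      intro v
      rw [Function.iterate_succ', Function.comp_apply, ih, pow_succ', Module.End.mul_apply]
  have h1 := card_modEq_fixed (fun w : V => u w) p (fun v => by rw [hit, hup]; rfl)
  have h2 : Nat.card {v : V // u v = v} = 1 := by
    rw [Nat.card_eq_one_iff_unique]
    refine ⟨⟨?_⟩, ⟨⟨0, map_zero u⟩⟩⟩
    have key : ∀ v : V, u v = v → v = 0 := by
      intro v hv
      by_contra hv0
      have h4 : (u - 1) v = 0 := by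
        rw [LinearMap.sub_apply, hv]; exact sub_self v
      exact hu1 (sub_eq_zero.mp (hA.inj _ (A.sub_mem hu A.one_mem) v hv0 h4))
    rintro ⟨a, ha⟩ ⟨b, hb⟩
    apply Subtype.ext
    show a = b
    rw [key a ha, key b hb]
  rwa [h2] at h1

/-- **the ppd element centralises every normalised field-like algebra** -/
theorem commute_of_ppd [Finite V] [Nontrivial V] (ρ : G →* (V ≃ₗ[ZMod q] V)) (x : G) (p0 : ℕ)
    (hp0 : p0.Prime) (hx : ∀ a ∈ A, Lh ρ x * a * Lh ρ x⁻¹ ∈ A) (hxp : x ^ p0 = 1)
    (hdvd : p0 ∣ q ^ finrank (ZMod q) V - 1)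
    (hprim : ∀ k, 0 < k → k < finrank (ZMod q) V → ¬ p0 ∣ q ^ k - 1) :
    ∀ a ∈ A, Lh ρ x * a = a * Lh ρ x := by
  classical
  have : Fact p0.Prime := ⟨hp0⟩
  have : Finite A := hA.finite_carrier
  have : Finite (Module.End (ZMod q) V) := finite_End
  let f : A → A := fun a => ⟨Lh ρ x * a * Lh ρ x⁻¹, hx a a.2⟩
  have hit : ∀ (k : ℕ) (a : A),
      ((f^[k] a : A) : Module.End (ZMod q) V) = Lh ρ (x ^ k) * a * Lh ρ (x ^ k)⁻¹ := by
    intro k
    induction k with
    | zero => intro a; simp
    | succ k ih =>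
      intro a
      rw [Function.iterate_succ', Function.comp_apply]
      show Lh ρ x * ((f^[k] a : A) : Module.End (ZMod q) V) * Lh ρ x⁻¹ = _
      rw [ih, pow_succ', mul_inv_rev, map_mul, map_mul]
      simp only [mul_assoc]
  have h1 := card_modEq_fixed f p0 (fun a => Subtype.ext (by
    rw [hit, hxp, inv_one, map_one, one_mul, mul_one]))
  -- the fixed points form a subspace
  let A0 : Submodule (ZMod q) (Module.End (ZMod q) V) :=
    { carrier := {a | a ∈ A ∧ Lh ρ x * a = a * Lh ρ x}
      add_mem' := by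
        rintro a b ⟨ha, ha'⟩ ⟨hb, hb'⟩
        exact ⟨A.add_mem ha hb, by rw [mul_add, add_mul, ha', hb']⟩
      zero_mem' := ⟨A.zero_mem, by rw [mul_zero, zero_mul]⟩
      smul_mem' := by
        rintro c a ⟨ha, ha'⟩
        exact ⟨A.smul_mem ha c, by rw [mul_smul_comm, smul_mul_assoc, ha']⟩ }
  have hA0le : A0 ≤ Subalgebra.toSubmodule A := fun a ha => ha.1
  have hfix : Nat.card {a : A // f a = a} = Nat.card A0 := by
    apply Nat.card_congr
    refine ⟨fun a => ⟨a.1.1, a.1.2, ?_⟩, fun a => ⟨⟨a.1, a.2.1⟩, ?_⟩, fun a => rfl, fun a => rfl⟩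
    · have h2 : Lh ρ x * (a.1 : Module.End (ZMod q) V) * Lh ρ x⁻¹ = a.1 :=
        congrArg Subtype.val a.2
      calc Lh ρ x * (a.1 : Module.End (ZMod q) V)
          = Lh ρ x * (a.1 : Module.End (ZMod q) V) * (Lh ρ x⁻¹ * Lh ρ x) := by
            rw [Lh_inv_mul, mul_one]
        _ = (Lh ρ x * (a.1 : Module.End (ZMod q) V) * Lh ρ x⁻¹) * Lh ρ x := by
            simp only [mul_assoc]
        _ = _ := by rw [h2]
    · apply Subtype.ext
      show Lh ρ x * a.1 * Lh ρ x⁻¹ = a.1
      rw [a.2.2, mul_assoc, Lh_mul_inv, mul_one]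
  have hc1 : Nat.card A0 = q ^ finrank (ZMod q) A0 := natCard_eq_pow A0
  have hd1 : Nat.card A = q ^ finrank (ZMod q) A := hA.card_eq
  have hcd : finrank (ZMod q) A0 ≤ finrank (ZMod q) A := by
    have := Submodule.finrank_mono hA0le
    simpa using this
  have hc0 : 0 < finrank (ZMod q) A0 := by
    by_contra h
    have h0 : finrank (ZMod q) A0 = 0 := by omega
    rw [h0, pow_zero] at hc1
    obtain ⟨v0, hv0⟩ := exists_ne (0 : V)
    have h2 : (⟨1, A.one_mem, by rw [mul_one, one_mul]⟩ : A0) = 0 :=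
      (Nat.card_eq_one_iff_unique.mp hc1).1.elim _ _
    have h3 : (1 : Module.End (ZMod q) V) = 0 := congrArg Subtype.val h2
    exact hv0 (LinearMap.congr_fun h3 v0)
  rw [hfix, hc1, hd1] at h1
  have h5 := Cfsg.Agent.Lib.Helper5.SingerAbelian.arith q p0 (finrank (ZMod q) V)
    (finrank (ZMod q) A0) (finrank (ZMod q) A) hp0 hdvd (Fact.out : q.Prime).two_le hprim hcd
    hA.finrank_le h1
  have h6 : finrank (ZMod q) A0 = finrank (ZMod q) A := by
    rcases h5 with h | h
    · exact h
    · omega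
  have h7 : A0 = Subalgebra.toSubmodule A := by
    apply Submodule.eq_of_le_of_finrank_eq hA0le
    simpa using h6
  intro a ha
  have : a ∈ A0 := by rw [h7]; exact ha
  exact this.2

end FL

end Cfsg.Agent.Lib.Helper6.Hup
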