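import Cfsg.Agent.Lib.Helper6.HupL
import Cfsg.Agent.Lib.Helper1.CriticalExists
import Cfsg.Agent.Lib.Helper1.PCore

set_option autoImplicit false

/-! Huppert: critical subgroups in the ambient group; symplectic type data. -/

namespace Cfsg.Agent.Lib.Helper6.Hup

open Module
open scoped commutatorElement

variable {q : ℕ} [Fact q.Prime] {V : Type*} [AddCommGroup V] [Module (ZMod q) V]
  {G : Type*} [Group G]

/-- a critical subgroup of the normal `r`-subgroup `R`, seen in `G` -/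
structure Crit (r : ℕ) (R C : Subgroup G) : Prop where
  le : C ≤ R
  normal : C.Normal
  comm : ∀ c ∈ C, ∀ g ∈ R, cm c g ∈ Zc C
  self_cent : ∀ g ∈ R, (∀ c ∈ C, c * g = g * c) → g ∈ C
  pow : ∀ c ∈ C, c ^ r ∈ Zc C

theorem exists_crit [Finite G] (r : ℕ) [Fact r.Prime] (R : Subgroup G) [hRn : R.Normal]
    (hR : IsPGroup r R) : ∃ C : Subgroup G, Crit r R C := by
  obtain ⟨H, hchar, hfrat, hcomm, hcent⟩ :=
    Cfsg.Agent.Lib.Helper1.exists_critical_subgroup (P := R) hR
  refine ⟨H.map R.subtype, Subgroup.map_subtype_le H, ?_, ?_, ?_, ?_⟩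
  · constructor
    intro c hc g
    obtain ⟨h, hh, rfl⟩ := Subgroup.mem_map.mp hc
    rw [← hchar.fixed (MulAut.conjNormal g)] at hh
    exact Subgroup.mem_map.mpr ⟨_, Subgroup.mem_comap.mp hh, MulAut.conjNormal_apply g h⟩
  · intro c hc g hg
    obtain ⟨h, hh, rfl⟩ := Subgroup.mem_map.mp hc
    have h1 : ⁅h, (⟨g, hg⟩ : R)⁆ ∈ H ⊓ Subgroup.centralizer (H : Set R) :=
      hcomm (Subgroup.commutator_mem_commutator hh (Subgroup.mem_top _))
    have e : cm (R.subtype h) g = ((⁅h, (⟨g, hg⟩ : R)⁆ : R) : G) := by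
      rw [commutatorElement_def]; rfl
    rw [e, mem_Zc]
    refine ⟨Subgroup.mem_map.mpr ⟨_, h1.1, rfl⟩, ?_⟩
    intro b hb
    obtain ⟨h', hh', rfl⟩ := Subgroup.mem_map.mp hb
    have := Subgroup.mem_centralizer_iff.mp h1.2 h' hh'
    exact congrArg Subtype.val this
  · intro g hg hgc
    have h1 : (⟨g, hg⟩ : R) ∈ Subgroup.centralizer (H : Set R) := by
      rw [Subgroup.mem_centralizer_iff]
      intro h hh
      apply Subtype.ext
      exact hgc _ (Subgroup.mem_map.mpr ⟨h, hh, rfl⟩)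
    exact Subgroup.mem_map.mpr ⟨_, hcent h1, rfl⟩
  · intro c hc
    obtain ⟨h, hh, rfl⟩ := Subgroup.mem_map.mp hc
    have h1 : (⟨h, hh⟩ : H) ^ r ∈ frattini H :=
      Cfsg.Agent.Lib.Helper1.pow_prime_mem_frattini_of_isPGroup r (hR.to_subgroup H) _
    have h2 : H.subtype ((⟨h, hh⟩ : H) ^ r) ∈ Subgroup.centralizer (H : Set R) :=
      hfrat (Subgroup.mem_map_of_mem H.subtype h1)
    have e : H.subtype ((⟨h, hh⟩ : H) ^ r) = h ^ r := rfl
    rw [e] at h2
    rw [mem_Zc]
    refine ⟨pow_mem (Subgroup.mem_map.mpr ⟨h, hh, rfl⟩) r, ?_⟩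
    intro b hb
    obtain ⟨h', hh', rfl⟩ := Subgroup.mem_map.mp hb
    have := Subgroup.mem_centralizer_iff.mp h2 h' hh'
    exact congrArg Subtype.val this

theorem cm_mul_left_gen (x y z : G) : cm (x * y) z = x * cm y z * x⁻¹ * cm x z := by
  unfold cm; group

theorem cm_pow_of_commute {a b : G} (h : a * cm a b = cm a b * a) (k : ℕ) :
    cm (a ^ k) b = cm a b ^ k := by
  induction k with
  | zero => unfold cm; group
  | succ k ih =>
    rw [pow_succ', cm_mul_left_gen, ih]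
    have hc : Commute a (cm a b ^ k) := (show Commute a (cm a b) from h).pow_right k
    rw [hc.eq, mul_assoc (cm a b ^ k), mul_inv_cancel, mul_one, ← pow_succ]

theorem card_le_of_units {K : Type*} [Field K] {H : Type*} [Group H] (f : H →* Kˣ)
    (hf : Function.Injective f) (r : ℕ) (hr : 0 < r) (h : ∀ x : H, x ^ r = 1) :
    Nat.card H ≤ r := by
  haveI : NeZero r := ⟨hr.ne'⟩
  let g : H → rootsOfUnity r K := fun x =>
    ⟨f x, by rw [mem_rootsOfUnity, ← map_pow, h, map_one]⟩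
  have hg : Function.Injective g := by
    intro a b hab
    apply hf
    exact congrArg Subtype.val hab
  exact (Nat.card_le_card_of_injective g hg).trans (card_rootsOfUnity K r)

/-- the `r`-torsion of the centre -/
def muSub (C : Subgroup G) (r : ℕ) : Subgroup G where
  carrier := {z | z ∈ Zc C ∧ z ^ r = 1}
  one_mem' := ⟨(Zc C).one_mem, one_pow r⟩
  mul_mem' := by
    rintro a b ⟨ha, ha'⟩ ⟨hb, hb'⟩
    refine ⟨(Zc C).mul_mem ha hb, ?_⟩
    have hc : Commute a b := ((mem_Zc.mp ha).2 b (Zc_le C hb)).symm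
    rw [hc.mul_pow, ha', hb', one_mul]
  inv_mem' := by
    rintro a ⟨ha, ha'⟩
    exact ⟨(Zc C).inv_mem ha, by rw [inv_pow, ha', inv_one]⟩

theorem mem_muSub {C : Subgroup G} {r : ℕ} {z : G} : z ∈ muSub C r ↔ z ∈ Zc C ∧ z ^ r = 1 :=
  Iff.rfl

theorem Crit.cm_pow_eq_one {r : ℕ} {R C : Subgroup G} (hC : Crit r R C) {a b : G} (ha : a ∈ C)
    (hb : b ∈ C) : cm a b ^ r = 1 := by
  have hz := hC.comm a ha b (hC.le hb)
  have h1 : a * cm a b = cm a b * a := (mem_Zc.mp hz).2 a ha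
  rw [← cm_pow_of_commute h1, cm_eq_one_iff]
  exact ((mem_Zc.mp (hC.pow a ha)).2 b hb).symm

/-- symplectic type data from a nonabelian critical subgroup whose centre generates a field -/
theorem exists_sympT [Finite G] [Finite V] [Nontrivial V] (ρ : G →* (V ≃ₗ[ZMod q] V))
    (hρ : Function.Injective ρ) {r : ℕ} (hr : r.Prime) {R C : Subgroup G} (hC : Crit r R C)
    (hA : FL (algOf ρ (Zc C))) (hnab : ∃ a ∈ C, ∃ b ∈ C, a * b ≠ b * a) :
    SympT r (muSub C r) C := by
  haveI : Fact r.Prime := ⟨hr⟩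
  refine ⟨inferInstance, fun z hz => hz.1, ?_, fun a ha b hb =>
    ⟨hC.comm a ha b (hC.le hb), hC.cm_pow_eq_one ha hb⟩⟩
  apply le_antisymm
  · -- at most r roots of unity
    letI : Field (algOf ρ (Zc C)) := hA.isField.toField
    let f : muSub C r →* (algOf ρ (Zc C))ˣ := MonoidHom.mk'
      (fun z => ⟨⟨Lh ρ (z : G), Lh_mem_algOf ρ z.2.1⟩, ⟨Lh ρ (z : G)⁻¹, Lh_mem_algOf ρ
        ((Zc C).inv_mem z.2.1)⟩, Subtype.ext (Lh_mul_inv ρ _), Subtype.ext (Lh_inv_mul ρ _)⟩)
      (fun a b => Units.ext (Subtype.ext (map_mul (Lh ρ) _ _)))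
    have hf : Function.Injective f := by
      intro a b hab
      apply Subtype.ext
      apply Lh_injective ρ hρ
      exact congrArg (fun u : (algOf ρ (Zc C))ˣ => ((u : algOf ρ (Zc C)) : Module.End (ZMod q) V)) hab
    exact card_le_of_units f hf r hr.pos (fun z => Subtype.ext z.2.2)
  · obtain ⟨a, ha, b, hb, hab⟩ := hnab
    have hζ : cm a b ∈ muSub C r := ⟨hC.comm a ha b (hC.le hb), hC.cm_pow_eq_one ha hb⟩
    have hζ1 : (⟨cm a b, hζ⟩ : muSub C r) ≠ 1 := by
      intro h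
      exact hab (cm_eq_one_iff.mp (congrArg Subtype.val h))
    have hord : orderOf (⟨cm a b, hζ⟩ : muSub C r) = r :=
      orderOf_eq_prime (Subtype.ext hζ.2) hζ1
    have := orderOf_dvd_natCard (⟨cm a b, hζ⟩ : muSub C r)
    rw [hord] at this
    exact Nat.le_of_dvd Nat.card_pos this

theorem normal_conj_iff {C : Subgroup G} (hC : C.Normal) (x b : G) :
    x * b * x⁻¹ ∈ C ↔ b ∈ C := by
  constructor
  · intro h
    have := hC.conj_mem _ h x⁻¹
    have e : x⁻¹ * (x * b * x⁻¹) * x⁻¹⁻¹ = b := by group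
    rwa [e] at this
  · intro h; exact hC.conj_mem b h x

theorem Zc_normal {C : Subgroup G} (hC : C.Normal) : (Zc C).Normal := by
  haveI := hC
  unfold Zc
  infer_instance

end Cfsg.Agent.Lib.Helper6.Hup
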