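import Cfsg.Agent.Lib.Helper6.HupT

set_option autoImplicit false

/-! Huppert: coset representatives of `C / Z(C)` are linearly independent over the field
generated by `Z(C)`. -/

namespace Cfsg.Agent.Lib.Helper6.Hup

open Module

variable {q : ℕ} [Fact q.Prime] {V : Type*} [AddCommGroup V] [Module (ZMod q) V]
  {G : Type*} [Group G]

/-- representatives -/
noncomputable def rep (C : Subgroup G) (w : C ⧸ Zs C) : G := ((Quotient.out w : C) : G)

theorem rep_mem (C : Subgroup G) (w : C ⧸ Zs C) : rep C w ∈ C := (Quotient.out w).2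

theorem rep_eq (C : Subgroup G) {w w' : C ⧸ Zs C} (h : (rep C w)⁻¹ * rep C w' ∈ Zc C) :
    w = w' := by
  rw [← QuotientGroup.out_eq' w, ← QuotientGroup.out_eq' w', QuotientGroup.eq]
  exact Subgroup.mem_subgroupOf.mpr h

theorem commute_of_cm_eq {g t t0 : G} (h : cm g t = cm g t0) :
    g * (t0⁻¹ * t) = (t0⁻¹ * t) * g := by
  have e1 : g * t * g⁻¹ = cm g t * t := by unfold cm; group
  have e2 : g * t0 * g⁻¹ = cm g t0 * t0 := by unfold cm; group
  have e3 : g * (t0⁻¹ * t) * g⁻¹ = (g * t0 * g⁻¹)⁻¹ * (g * t * g⁻¹) := by group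
  rw [e1, e2, h] at e3
  have e4 : (cm g t0 * t0)⁻¹ * (cm g t0 * t) = t0⁻¹ * t := by group
  rw [e4] at e3
  exact mul_inv_eq_iff_eq_mul.mp e3

open Classical in
theorem linind_aux [Finite V] (ρ : G →* (V ≃ₗ[ZMod q] V)) (hρ : Function.Injective ρ)
    (C : Subgroup G) [Fintype (C ⧸ Zs C)]
    (hcomm : ∀ a ∈ C, ∀ b ∈ C, cm a b ∈ Zc C) (hA : FL (algOf ρ (Zc C))) :
    ∀ (n : ℕ) (α : (C ⧸ Zs C) → Module.End (ZMod q) V),
      (Finset.univ.filter (fun w => α w ≠ 0)).card = n →
      (∀ w, α w ∈ algOf ρ (Zc C)) →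
      ∑ w, α w * Lh ρ (rep C w) = 0 → ∀ w, α w = 0 := by
  classical
  intro n
  induction n using Nat.strong_induction_on with
  | _ n ih =>
    intro α hn hαA hsum
    by_contra hne
    push Not at hne
    obtain ⟨w0, hw0⟩ := hne
    have hζmem : ∀ g ∈ C, ∀ w, Lh ρ (cm g (rep C w)) ∈ algOf ρ (Zc C) :=
      fun g hg w => Lh_mem_algOf ρ (hcomm g hg _ (rep_mem C w))
    have hgA : ∀ g ∈ C, ∀ a ∈ algOf ρ (Zc C), a * Lh ρ g = Lh ρ g * a := fun g hg a ha =>
      commute_algOf ρ (Zc C) (Lh ρ g)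
        (fun z hz => by rw [← map_mul, ← map_mul, (mem_Zc.mp hz).2 g hg]) a ha
    have key : ∀ g ∈ C, ∀ w, α w ≠ 0 → cm g (rep C w) = cm g (rep C w0) := by
      intro g hg w hw
      let α' : (C ⧸ Zs C) → Module.End (ZMod q) V :=
        fun w => α w * (Lh ρ (cm g (rep C w)) - Lh ρ (cm g (rep C w0)))
      have hα'A : ∀ w, α' w ∈ algOf ρ (Zc C) := fun w =>
        (algOf ρ (Zc C)).mul_mem (hαA w)
          ((algOf ρ (Zc C)).sub_mem (hζmem g hg w) (hζmem g hg w0))
      have hsum' : ∑ w, α' w * Lh ρ (rep C w) = 0 := by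
        have h1 : ∑ w, α w * Lh ρ (cm g (rep C w)) * Lh ρ (rep C w) = 0 := by
          have h2 : Lh ρ g * (∑ w, α w * Lh ρ (rep C w)) * Lh ρ g⁻¹ = 0 := by
            rw [hsum, mul_zero, zero_mul]
          rw [Finset.mul_sum, Finset.sum_mul] at h2
          rw [← h2]
          apply Finset.sum_congr rfl
          intro w _
          rw [← mul_assoc (Lh ρ g), ← hgA g hg (α w) (hαA w), mul_assoc, mul_assoc, mul_assoc,
            ← map_mul, ← map_mul, ← map_mul]
          congr 2
          unfold cm; group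
        have h3 : ∑ w, α w * Lh ρ (cm g (rep C w0)) * Lh ρ (rep C w) = 0 := by
          have h4 : Lh ρ (cm g (rep C w0)) * ∑ w, α w * Lh ρ (rep C w) = 0 := by
            rw [hsum, mul_zero]
          rw [Finset.mul_sum] at h4
          rw [← h4]
          apply Finset.sum_congr rfl
          intro w _
          rw [← mul_assoc, hA.comm _ (hζmem g hg w0) _ (hαA w)]
        calc ∑ w, α' w * Lh ρ (rep C w)
            = ∑ w, (α w * Lh ρ (cm g (rep C w)) * Lh ρ (rep C w) -
                α w * Lh ρ (cm g (rep C w0)) * Lh ρ (rep C w)) := by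
              apply Finset.sum_congr rfl
              intro w _
              show α w * (Lh ρ (cm g (rep C w)) - Lh ρ (cm g (rep C w0))) * Lh ρ (rep C w) = _
              rw [mul_sub, sub_mul]
          _ = 0 := by rw [Finset.sum_sub_distrib, h1, h3, sub_zero]
      have hcard' : (Finset.univ.filter (fun w => α' w ≠ 0)).card < n := by
        rw [← hn]
        apply Finset.card_lt_card
        rw [Finset.ssubset_iff_of_subset]
        · refine ⟨w0, by simp [hw0], ?_⟩
          simp only [Finset.mem_filter, Finset.mem_univ, true_and, not_not]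
          show α w0 * (Lh ρ (cm g (rep C w0)) - Lh ρ (cm g (rep C w0))) = 0
          rw [sub_self, mul_zero]
        · intro w hw
          simp only [Finset.mem_filter, Finset.mem_univ, true_and] at hw ⊢
          intro h0
          apply hw
          show α w * _ = 0
          rw [h0, zero_mul]
      have h0 := ih _ hcard' α' rfl hα'A hsum' w
      have h5 : α w * (Lh ρ (cm g (rep C w)) - Lh ρ (cm g (rep C w0))) = 0 := h0
      rcases hA.mul_eq_zero' (hαA w)
        ((algOf ρ (Zc C)).sub_mem (hζmem g hg w) (hζmem g hg w0)) h5 with h | h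
      · exact absurd h hw
      · exact Lh_injective ρ hρ (sub_eq_zero.mp h)
    have hsupp : ∀ w, α w ≠ 0 → w = w0 := by
      intro w hw
      symm
      apply rep_eq C
      rw [mem_Zc]
      refine ⟨mul_mem (inv_mem (rep_mem C w0)) (rep_mem C w), fun g hg => ?_⟩
      exact commute_of_cm_eq (key g hg w hw)
    have h6 : ∑ w, α w * Lh ρ (rep C w) = α w0 * Lh ρ (rep C w0) := by
      apply Finset.sum_eq_single w0
      · intro w _ hw
        by_cases h : α w = 0
        · rw [h, zero_mul]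
        · exact absurd (hsupp w h) hw
      · intro h; exact absurd (Finset.mem_univ w0) h
    rw [h6] at hsum
    apply hw0
    calc α w0 = α w0 * Lh ρ (rep C w0) * Lh ρ (rep C w0)⁻¹ := by
          rw [mul_assoc, Lh_mul_inv, mul_one]
      _ = 0 := by rw [hsum, zero_mul]

/-- the main linear independence statement -/
theorem linind [Finite V] (ρ : G →* (V ≃ₗ[ZMod q] V)) (hρ : Function.Injective ρ)
    (C : Subgroup G) [Fintype (C ⧸ Zs C)]
    (hcomm : ∀ a ∈ C, ∀ b ∈ C, cm a b ∈ Zc C) (hA : FL (algOf ρ (Zc C))) :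
    Function.Injective (fun α : (C ⧸ Zs C) → algOf ρ (Zc C) =>
      ∑ w, (α w : Module.End (ZMod q) V) * Lh ρ (rep C w)) := by
  intro α β hαβ
  funext w
  apply Subtype.ext
  have h1 : ∑ w, ((α w : Module.End (ZMod q) V) - (β w : Module.End (ZMod q) V)) *
      Lh ρ (rep C w) = 0 := by
    simp only [sub_mul]
    rw [Finset.sum_sub_distrib]
    exact sub_eq_zero.mpr hαβ
  have := linind_aux ρ hρ C hcomm hA _
    (fun w => (α w : Module.End (ZMod q) V) - (β w : Module.End (ZMod q) V)) rfl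
    (fun w => (algOf ρ (Zc C)).sub_mem (α w).2 (β w).2) h1 w
  exact sub_eq_zero.mp this

theorem card_End [Finite V] :
    Nat.card (Module.End (ZMod q) V) = q ^ (finrank (ZMod q) V * finrank (ZMod q) V) := by
  have : Finite (Module.End (ZMod q) V) := finite_End
  rw [natCard_eq_pow (q := q) (Module.End (ZMod q) V)]
  congr 1
  exact Module.finrank_linearMap (ZMod q) (ZMod q) V V

/-- (L1) -/
theorem card_bound [Finite V] [Nontrivial V] [Finite G] (ρ : G →* (V ≃ₗ[ZMod q] V))
    (hρ : Function.Injective ρ) (C : Subgroup G)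
    (hcomm : ∀ a ∈ C, ∀ b ∈ C, cm a b ∈ Zc C) (hA : FL (algOf ρ (Zc C))) :
    finrank (ZMod q) (algOf ρ (Zc C)) * Nat.card (C ⧸ Zs C) ≤
      finrank (ZMod q) V * finrank (ZMod q) V := by
  classical
  have : Fintype (C ⧸ Zs C) := Fintype.ofFinite _
  have : Finite (Module.End (ZMod q) V) := finite_End
  have : Finite (algOf ρ (Zc C)) := hA.finite_carrier
  have h1 := Nat.card_le_card_of_injective _ (linind ρ hρ C hcomm hA)
  rw [Nat.card_fun, hA.card_eq, card_End, ← pow_mul] at h1
  exact (Nat.pow_le_pow_iff_right (Fact.out : q.Prime).one_lt).mp h1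

/-- (L2) the equality case -/
theorem full_of_card_eq [Finite V] [Nontrivial V] [Finite G] (ρ : G →* (V ≃ₗ[ZMod q] V))
    (hρ : Function.Injective ρ) (C : Subgroup G)
    (hcomm : ∀ a ∈ C, ∀ b ∈ C, cm a b ∈ Zc C) (hA : FL (algOf ρ (Zc C)))
    (hcard : Nat.card (C ⧸ Zs C) = finrank (ZMod q) V * finrank (ZMod q) V) :
    (∀ z ∈ Zc C, ∃ c : ZMod q, Lh ρ z = c • (1 : Module.End (ZMod q) V)) ∧
    (∀ y : Module.End (ZMod q) V, (∀ c ∈ C, Lh ρ c * y = y * Lh ρ c) →
      ∃ c : ZMod q, y = c • (1 : Module.End (ZMod q) V)) := by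
  classical
  have : Fintype (C ⧸ Zs C) := Fintype.ofFinite _
  have : Finite (Module.End (ZMod q) V) := finite_End
  have : Finite (algOf ρ (Zc C)) := hA.finite_carrier
  have hb := card_bound ρ hρ C hcomm hA
  have hpos := hA.finrank_pos
  have hnpos : 0 < finrank (ZMod q) V * finrank (ZMod q) V := by
    rw [← hcard]; exact Nat.card_pos
  have hd1 : finrank (ZMod q) (algOf ρ (Zc C)) = 1 := by
    rw [hcard] at hb
    by_contra hne
    have : 2 ≤ finrank (ZMod q) (algOf ρ (Zc C)) := by omega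
    nlinarith
  have hbot : algOf ρ (Zc C) = ⊥ := Subalgebra.eq_bot_of_finrank_one hd1
  have hscal : ∀ a ∈ algOf ρ (Zc C), ∃ c : ZMod q, a = c • (1 : Module.End (ZMod q) V) := by
    intro a ha
    rw [hbot, Algebra.mem_bot] at ha
    obtain ⟨c, rfl⟩ := ha
    exact ⟨c, Algebra.algebraMap_eq_smul_one c⟩
  refine ⟨fun z hz => hscal _ (Lh_mem_algOf ρ hz), ?_⟩
  intro y hy
  -- surjectivity
  have hinj := linind ρ hρ C hcomm hA
  have hbij : Function.Bijective (fun α : (C ⧸ Zs C) → algOf ρ (Zc C) =>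
      ∑ w, (α w : Module.End (ZMod q) V) * Lh ρ (rep C w)) := by
    apply hinj.bijective_of_nat_card_le
    rw [Nat.card_fun, hA.card_eq, card_End, hd1, pow_one, hcard]
  have hcen : y ∈ Set.center (Module.End (ZMod q) V) := by
    rw [Semigroup.mem_center_iff]
    intro M
    obtain ⟨α, rfl⟩ := hbij.2 M
    show (∑ w, (α w : Module.End (ZMod q) V) * Lh ρ (rep C w)) * y =
      y * ∑ w, (α w : Module.End (ZMod q) V) * Lh ρ (rep C w)
    rw [Finset.sum_mul, Finset.mul_sum]
    apply Finset.sum_congr rfl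
    intro w _
    obtain ⟨c, hc⟩ := hscal _ (α w).2
    rw [hc, mul_assoc, hy _ (rep_mem C w), smul_mul_assoc, one_mul, ← mul_assoc, mul_smul_comm,
      mul_one, smul_mul_assoc]
  obtain ⟨c, _, hc⟩ := Module.End.mem_center_iff.mp hcen
  refine ⟨c, ?_⟩
  rw [hc]
  ext v
  simp

end Cfsg.Agent.Lib.Helper6.Hup
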