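import Cfsg.Agent.Lib.Helper6.HupP

set_option autoImplicit false

/-! Huppert: orbit counting, and the bound on `p0`-subgroups in the exceptional case. -/

namespace Cfsg.Agent.Lib.Helper6.Hup

open Module

theorem eq_one_of_pow_coprime' {H : Type*} [Monoid H] (w : H) (a b : ℕ) (hab : Nat.Coprime a b)
    (ha : w ^ a = 1) (hb : w ^ b = 1) : w = 1 := by
  rw [← orderOf_eq_one_iff]
  have h1 := orderOf_dvd_of_pow_eq_one ha
  have h2 := orderOf_dvd_of_pow_eq_one hb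
  exact Nat.eq_one_of_dvd_coprimes hab h1 h2

/-- the order of `2` modulo `2 ^ j + 1` is `2 * j` -/
theorem two_pow_arith (j c : ℕ) (hc1 : 1 ≤ c) (hc2 : c ≤ 2 * j)
    (h : 2 ^ j + 1 ∣ 2 ^ c - 1) : c = 2 * j := by
  by_contra hne
  have hlt : c < 2 * j := lt_of_le_of_ne hc2 hne
  have h2c : 2 ≤ 2 ^ c := by
    calc 2 = 2 ^ 1 := by norm_num
      _ ≤ 2 ^ c := Nat.pow_le_pow_right (by norm_num) hc1
  rcases le_or_gt c j with hcj | hcj
  · have h1 := Nat.le_of_dvd (by omega) h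
    have h3 : 2 ^ c ≤ 2 ^ j := Nat.pow_le_pow_right (by norm_num) hcj
    omega
  · have e : 2 ^ c = 2 ^ (c - j) * 2 ^ j := by
      rw [← pow_add]; congr 1; omega
    have h2 : 2 ^ j + 1 ∣ 2 ^ (c - j) + 1 := by
      have h3 : 2 ^ j + 1 ∣ 2 ^ (c - j) * (2 ^ j + 1) := Dvd.intro_left _ rfl
      have h4 : 2 ^ (c - j) * (2 ^ j + 1) = (2 ^ c - 1) + (2 ^ (c - j) + 1) := by
        rw [mul_add, mul_one, ← e]; omega
      rw [h4] at h3
      exact (Nat.dvd_add_right h).mp h3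
    have h5 := Nat.le_of_dvd (by positivity) h2
    have h6 : 2 ^ (c - j) < 2 ^ j := Nat.pow_lt_pow_right (by norm_num) (by omega)
    omega

variable {q : ℕ} [Fact q.Prime] {V : Type*} [AddCommGroup V] [Module (ZMod q) V]
  {G : Type*} [Group G]

theorem Hyp.card_sub_one_dvd [Finite G] [Finite V] [Nontrivial V] {ρ : G →* (V ≃ₗ[ZMod q] V)}
    (h : Hyp ρ) : Nat.card V - 1 ∣ Nat.card G := by
  classical
  obtain ⟨v0, hv0⟩ := exists_ne (0 : V)
  letI : MulAction G V := MulAction.compHom V ρ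
  have hsmul : ∀ (g : G) (v : V), g • v = ρ g v := fun g v => rfl
  have horb : MulAction.orbit G v0 = {v | v ≠ 0} := by
    ext v
    constructor
    · rintro ⟨g, rfl⟩
      show g • v0 ≠ 0
      rw [hsmul]
      intro h0
      exact hv0 ((ρ g).map_eq_zero_iff.mp h0)
    · intro hv
      obtain ⟨g, hg⟩ := h.trans v0 v hv0 hv
      exact ⟨g, hg⟩
  have h1 := MulAction.index_stabilizer G v0
  have h2 : ({v : V | v ≠ 0}).ncard = Nat.card V - 1 := by
    have e : {v : V | v ≠ 0} = ({0} : Set V)ᶜ := by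
      ext v; simp
    rw [e, Set.ncard_compl, Set.ncard_singleton]
  rw [horb, h2] at h1
  rw [← h1]
  exact Subgroup.index_dvd_card _

/-- a scalar element of order prime to `q - 1` is trivial -/
theorem scalar_eq_one [Nontrivial V] (ρ : G →* (V ≃ₗ[ZMod q] V)) (hρ : Function.Injective ρ)
    {y : G} {m : ℕ} (hym : y ^ m = 1) (hm : Nat.Coprime m (q - 1)) {c : ZMod q}
    (hc : Lh ρ y = c • (1 : Module.End (ZMod q) V)) : y = 1 := by
  obtain ⟨v0, hv0⟩ := exists_ne (0 : V)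
  have hc0 : c ≠ 0 := by
    rintro rfl
    rw [zero_smul] at hc
    have h1 := Lh_mul_inv ρ y
    rw [hc, zero_mul] at h1
    have h2 := LinearMap.congr_fun h1 v0
    exact hv0 h2.symm
  have h1 : c ^ m = 1 := by
    have h2 : Lh ρ (y ^ m) = c ^ m • (1 : Module.End (ZMod q) V) := by
      rw [map_pow, hc, smul_pow, one_pow]
    rw [hym, map_one] at h2
    have h3 : v0 = c ^ m • v0 := LinearMap.congr_fun h2 v0
    have h4 : (c ^ m - 1) • v0 = 0 := by rw [sub_smul, one_smul, ← h3, sub_self]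
    rcases smul_eq_zero.mp h4 with h | h
    · exact sub_eq_zero.mp h
    · exact absurd h hv0
  have h5 : c ^ (q - 1) = 1 := ZMod.pow_card_sub_one_eq_one hc0
  have h6 : c = 1 := eq_one_of_pow_coprime' c m (q - 1) hm h1 h5
  apply Lh_injective ρ hρ
  rw [hc, h6, one_smul, map_one]

namespace BData

variable {ρ : G →* (V ≃ₗ[ZMod q] V)} {C : Subgroup G} (hB : BData ρ C)
include hB

theorem scalar_commute (hρ : Function.Injective ρ) {z : G} (hz : z ∈ Zc C) (y : G) :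
    y * z = z * y := by
  obtain ⟨c, hc⟩ := hB.zscal z hz
  apply Lh_injective ρ hρ
  rw [map_mul, map_mul, hc, mul_smul_comm, mul_one, smul_mul_assoc, one_mul]

theorem card_Zc_pow [Finite G] : ∃ i : ℕ, Nat.card (Zc C) = 2 ^ i :=
  IsPGroup.iff_card.mp (hB.two.to_le (Zc_le C))

/-- an element of order `p0` commutes with no noncentral element of `C` -/
theorem no_fix [Finite G] [Finite V] [Nontrivial V] (hρ : Function.Injective ρ) {p0 j : ℕ}
    (hp0 : p0.Prime) (hj : 1 ≤ j) (hn : finrank (ZMod q) V = 2 ^ j) (hp0n : p0 = 2 ^ j + 1)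
    (hpq : ¬ p0 ∣ q - 1) {y : G} (hy1 : y ≠ 1) (hyp : y ^ p0 = 1) {c0 : G} (hc0 : c0 ∈ C)
    (hc0Z : c0 ∉ Zc C) (hyc : y * c0 = c0 * y) : False := by
  classical
  have : Fact p0.Prime := ⟨hp0⟩
  have hZle : Zc C ≤ CB C y := fun z hz =>
    mem_CB.mpr ⟨Zc_le C hz, hB.scalar_commute hρ hz y⟩
  -- fixed point count
  let f : C → C := fun c => ⟨y * c * y⁻¹, hB.normal.conj_mem _ c.2 _⟩
  have hit : ∀ (k : ℕ) (c : C), ((f^[k] c : C) : G) = y ^ k * c * (y ^ k)⁻¹ := by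
    intro k
    induction k with
    | zero => intro c; simp
    | succ k ih =>
      intro c
      rw [Function.iterate_succ', Function.comp_apply]
      show y * ((f^[k] c : C) : G) * y⁻¹ = _
      rw [ih, pow_succ']; group
  have h1 := card_modEq_fixed f p0 (fun c => Subtype.ext (by
    rw [hit, hyp, one_mul, inv_one, mul_one]))
  have hfix : Nat.card {c : C // f c = c} = Nat.card (CB C y) := by
    apply Nat.card_congr
    refine ⟨fun c => ⟨c.1.1, mem_CB.mpr ⟨c.1.2, ?_⟩⟩, fun c => ⟨⟨c.1, CB_le C y c.2⟩, ?_⟩,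
      fun c => rfl, fun c => rfl⟩
    · have h2 : y * (c.1 : G) * y⁻¹ = c.1 := congrArg Subtype.val c.2
      exact mul_inv_eq_iff_eq_mul.mp h2
    · apply Subtype.ext
      show y * (c : G) * y⁻¹ = c
      rw [(mem_CB.mp c.2).2, mul_assoc, mul_inv_cancel, mul_one]
  rw [hfix] at h1
  -- numbers
  obtain ⟨i, hi⟩ := hB.card_Zc_pow
  obtain ⟨k, hk⟩ := Subgroup.card_dvd_of_le hZle
  have hZpos : 0 < Nat.card (Zc C) := Nat.card_pos
  have hcard := hB.card
  rw [hn] at hcard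
  have hkdvd : k ∣ (2 ^ j) ^ 2 := by
    have h3 := Subgroup.card_dvd_of_le (CB_le C y)
    rw [hk, hcard, mul_comm ((2 ^ j) ^ 2)] at h3
    exact Nat.dvd_of_mul_dvd_mul_left hZpos h3
  rw [← pow_mul] at hkdvd
  obtain ⟨c, hc2, rfl⟩ := (Nat.dvd_prime_pow Nat.prime_two).mp hkdvd
  have hc1 : 1 ≤ c := by
    by_contra h0
    have hc0' : c = 0 := by omega
    rw [hc0', pow_zero, mul_one] at hk
    have h4 : Zc C = CB C y := Subgroup.eq_of_le_of_card_ge hZle hk.le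
    exact hc0Z (h4 ▸ mem_CB.mpr ⟨hc0, hyc⟩)
  have hp02 : p0 ≠ 2 := by
    have : 2 ≤ 2 ^ j := by
      calc 2 = 2 ^ 1 := by norm_num
        _ ≤ 2 ^ j := Nat.pow_le_pow_right (by norm_num) hj
    omega
  have hcop : Nat.Coprime p0 (Nat.card (Zc C)) := by
    rw [hi]
    exact Nat.Coprime.pow_right i ((Nat.coprime_primes hp0 Nat.prime_two).mpr hp02)
  have h5 : (2 ^ j) ^ 2 ≡ 2 ^ c [MOD p0] := by
    rw [hcard, hk, mul_comm (Nat.card (Zc C))] at h1
    exact Nat.ModEq.cancel_right_of_coprime hcop h1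
  have h6 : (2 ^ j) ^ 2 ≡ 1 [MOD p0] := by
    have h7 : p0 ∣ (2 ^ j) ^ 2 - 1 := by
      have h8 : (2 ^ j) ^ 2 - 1 = (2 ^ j - 1) * (2 ^ j + 1) := by
        have : 1 ≤ 2 ^ j := Nat.one_le_two_pow
        obtain ⟨t, ht⟩ : ∃ t, 2 ^ j = t + 1 := ⟨2 ^ j - 1, by omega⟩
        rw [ht]
        simp only [Nat.add_sub_cancel]
        have : (t + 1) ^ 2 = t * (t + 1 + 1) + 1 := by ring
        rw [this, Nat.add_sub_cancel]
      rw [h8, hp0n]
      exact Dvd.intro_left _ rfl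
    exact ((Nat.modEq_iff_dvd' (Nat.one_le_pow _ _ (by positivity))).mpr h7).symm
  have h9 : 2 ^ c ≡ 1 [MOD p0] := h5.symm.trans h6
  have h10 : p0 ∣ 2 ^ c - 1 := (Nat.modEq_iff_dvd' Nat.one_le_two_pow).mp h9.symm
  rw [hp0n] at h10
  have hc3 := two_pow_arith j c hc1 (by omega) h10
  -- CB C y = C
  have h11 : CB C y = C := by
    apply Subgroup.eq_of_le_of_card_ge (CB_le C y)
    rw [hk, hcard, hc3, ← pow_mul, mul_comm j 2, mul_comm]
  have hcen : ∀ c ∈ C, Lh ρ c * Lh ρ y = Lh ρ y * Lh ρ c := by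
    intro c hc
    have : c ∈ CB C y := by rw [h11]; exact hc
    rw [← map_mul, ← map_mul, (mem_CB.mp this).2]
  obtain ⟨lam, hlam⟩ := hB.cent _ hcen
  have hcop2 : Nat.Coprime p0 (q - 1) := (Nat.Prime.coprime_iff_not_dvd hp0).mpr hpq
  exact hy1 (scalar_eq_one ρ hρ hyp hcop2 hlam)

/-- `p0`-subgroups have order at most `p0` -/
theorem pgroup_card_dvd [Finite G] [Finite V] [Nontrivial V] (hρ : Function.Injective ρ)
    {p0 j : ℕ} (hp0 : p0.Prime) (hj : 1 ≤ j) (hn : finrank (ZMod q) V = 2 ^ j)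
    (hp0n : p0 = 2 ^ j + 1) (hpq : ¬ p0 ∣ q - 1) (P : Subgroup G) (hP : IsPGroup p0 P) :
    Nat.card P ∣ p0 := by
  classical
  have : Fact p0.Prime := ⟨hp0⟩
  have hZn := Zc_normal hB.normal
  let Ω := {c : G // c ∈ (C : Set G) \ (Zc C : Set G)}
  letI : MulAction P Ω :=
    { smul := fun y c => ⟨(y : G) * c.1 * (y : G)⁻¹, hB.normal.conj_mem _ c.2.1 _,
        fun hz => c.2.2 ((normal_conj_iff hZn (y : G) c.1).mp hz)⟩
      one_smul := fun c => Subtype.ext (by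
        show ((1 : P) : G) * c.1 * ((1 : P) : G)⁻¹ = c.1
        simp)
      mul_smul := fun a b c => Subtype.ext (by
        show ((a * b : P) : G) * c.1 * ((a * b : P) : G)⁻¹ =
          (a : G) * ((b : G) * c.1 * (b : G)⁻¹) * (a : G)⁻¹
        simp [mul_assoc]) }
  have hsm : ∀ (y : P) (c : Ω), ((y • c : Ω) : G) = (y : G) * c.1 * (y : G)⁻¹ := fun _ _ => rfl
  have hfree : ∀ (y : P) (c : Ω), y • c = c → y = 1 := by
    intro y c hyc
    by_contra hy1
    obtain ⟨i, hi⟩ := (IsPGroup.iff_orderOf.mp hP) y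
    have hi0 : i ≠ 0 := by
      rintro rfl
      rw [pow_zero, orderOf_eq_one_iff] at hi
      exact hy1 hi
    obtain ⟨i', rfl⟩ : ∃ i', i = i' + 1 := ⟨i - 1, by omega⟩
    have hy'p : ((y : G) ^ (p0 ^ i')) ^ p0 = 1 := by
      rw [← pow_mul, ← pow_succ, ← Subgroup.coe_pow, ← hi, pow_orderOf_eq_one]; rfl
    have hy'1 : (y : G) ^ (p0 ^ i') ≠ 1 := by
      intro h1
      have h2 : (y ^ (p0 ^ i') : P) = 1 := Subtype.ext h1
      have h3 := orderOf_dvd_of_pow_eq_one h2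
      rw [hi] at h3
      have h4 := Nat.le_of_dvd (pow_pos hp0.pos _) h3
      rw [pow_succ] at h4
      have := hp0.two_le
      nlinarith [pow_pos hp0.pos i']
    have hcomm : (y : G) * c.1 = c.1 * (y : G) := by
      have h5 := congrArg Subtype.val hyc
      rw [hsm] at h5
      exact mul_inv_eq_iff_eq_mul.mp h5
    have hcomm' : (y : G) ^ (p0 ^ i') * c.1 = c.1 * (y : G) ^ (p0 ^ i') :=
      ((show Commute (y : G) c.1 from hcomm).pow_left _).eq
    exact hB.no_fix hρ hp0 hj hn hp0n hpq hy'1 hy'p c.2.1 c.2.2 hcomm'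
  have : Fintype P := Fintype.ofFinite _
  have : Fintype Ω := Fintype.ofFinite _
  have hburn := MulAction.sum_card_fixedBy_eq_card_orbits_mul_card_group P Ω
  have hsum : ∑ y : P, Fintype.card (MulAction.fixedBy Ω y) = Fintype.card Ω := by
    rw [Finset.sum_eq_single (1 : P)]
    · exact Fintype.card_of_bijective (f := Subtype.val)
        ⟨Subtype.val_injective, fun c => ⟨⟨c, one_smul _ c⟩, rfl⟩⟩
    · intro y _ hy
      rw [Fintype.card_eq_zero_iff]
      exact ⟨fun c => hy (hfree y c.1 c.2)⟩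
    · intro h; exact absurd (Finset.mem_univ _) h
  rw [hsum] at hburn
  have hdvd : Nat.card P ∣ Nat.card Ω := by
    rw [Nat.card_eq_fintype_card, Nat.card_eq_fintype_card, hburn]
    exact Dvd.intro_left _ rfl
  have hΩ : Nat.card Ω = Nat.card C - Nat.card (Zc C) := by
    have h1 : Nat.card Ω = ((C : Set G) \ (Zc C : Set G)).ncard := Nat.card_coe_set_eq _
    rw [h1, Set.ncard_sdiff (by exact_mod_cast Zc_le C)]
    rfl
  obtain ⟨i, hi⟩ := hB.card_Zc_pow
  have hcard := hB.card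
  rw [hn] at hcard
  have hΩ2 : Nat.card Ω = ((2 ^ j) ^ 2 - 1) * Nat.card (Zc C) := by
    rw [hΩ, hcard, Nat.sub_mul, one_mul]
  obtain ⟨b, hb⟩ := IsPGroup.iff_card.mp hP
  have hp02 : p0 ≠ 2 := by
    have : 2 ≤ 2 ^ j := by
      calc 2 = 2 ^ 1 := by norm_num
        _ ≤ 2 ^ j := Nat.pow_le_pow_right (by norm_num) hj
    omega
  have hcop : Nat.Coprime (Nat.card P) (Nat.card (Zc C)) := by
    rw [hb, hi]
    exact Nat.Coprime.pow _ _ ((Nat.coprime_primes hp0 Nat.prime_two).mpr hp02)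
  rw [hΩ2, mul_comm] at hdvd
  have hdvd2 : Nat.card P ∣ (2 ^ j) ^ 2 - 1 := hcop.dvd_of_dvd_mul_left hdvd
  have h8 : (2 ^ j) ^ 2 - 1 = (2 ^ j - 1) * p0 := by
    rw [hp0n]
    have : 1 ≤ 2 ^ j := Nat.one_le_two_pow
    obtain ⟨t, ht⟩ : ∃ t, 2 ^ j = t + 1 := ⟨2 ^ j - 1, by omega⟩
    rw [ht]
    simp only [Nat.add_sub_cancel]
    have : (t + 1) ^ 2 = t * (t + 1 + 1) + 1 := by ring
    rw [this, Nat.add_sub_cancel]
  rw [h8, hb] at hdvd2
  rw [hb]
  by_contra hnd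
  have hb2 : 2 ≤ b := by
    by_contra hlt
    have : b = 0 ∨ b = 1 := by omega
    rcases this with rfl | rfl
    · exact hnd (by rw [pow_zero]; exact one_dvd _)
    · exact hnd (by rw [pow_one])
  have h9 : p0 ^ 2 ∣ (2 ^ j - 1) * p0 := (pow_dvd_pow p0 hb2).trans hdvd2
  rw [pow_two, mul_comm (2 ^ j - 1)] at h9
  have h10 : p0 ∣ 2 ^ j - 1 := Nat.dvd_of_mul_dvd_mul_left hp0.pos h9
  have h2j : 2 ≤ 2 ^ j := by
    calc 2 = 2 ^ 1 := by norm_num
      _ ≤ 2 ^ j := Nat.pow_le_pow_right (by norm_num) hj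
  have := Nat.le_of_dvd (by omega) h10
  omega

end BData

end Cfsg.Agent.Lib.Helper6.Hup
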