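import Cfsg.Agent.Lib.Helper6.HupM

set_option autoImplicit false

/-! Huppert: the case `n ≥ 3`, `(q, n) ≠ (2, 6)`. -/

namespace Cfsg.Agent.Lib.Helper6.Hup

open Module

theorem three_pow_gt (m : ℕ) (hm : 3 ≤ m) : 4 * m + 1 < 3 ^ m := by
  induction m, hm using Nat.le_induction with
  | base => norm_num
  | succ m hm ih => rw [pow_succ]; omega

theorem odd_sq_mod_four (t : ℕ) (ht : Odd t) : t ^ 2 % 4 = 1 := by
  obtain ⟨u, rfl⟩ := ht
  have : (2 * u + 1) ^ 2 = 4 * (u * u + u) + 1 := by ring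
  rw [this]; omega

variable {q : ℕ} [Fact q.Prime] {V : Type*} [AddCommGroup V] [Module (ZMod q) V]
  {G : Type*} [Group G]

theorem main_ge3 [Finite G] [Finite V] [Nontrivial V] (hsol : Group.IsSolvable G)
    (ρ : G →* (V ≃ₗ[ZMod q] V)) (h : Hyp ρ) (hn3 : 3 ≤ finrank (ZMod q) V)
    (h26 : ¬ (q = 2 ∧ finrank (ZMod q) V = 6)) : SemiLin ρ ∨ Nat.card V = 81 := by
  by_cases hsl : SemiLin ρ
  · left; exact hsl
  right
  have hq := (Fact.out : q.Prime)
  have hq1 : 1 ≤ q := hq.one_lt.le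
  obtain ⟨n, hn⟩ : ∃ n, finrank (ZMod q) V = n := ⟨_, rfl⟩
  rw [hn] at hn3 h26
  obtain ⟨p0, hp0, hdvd, hprim⟩ := Cfsg.Agent.Lib.Helper2.Zsig.zsigmondy q n hq.one_lt (by omega)
    h26 (by rintro ⟨h2, _⟩; omega)
  have hcardV : Nat.card V = q ^ n := by rw [natCard_eq_pow (q := q) V, hn]
  have hGdvd : q ^ n - 1 ∣ Nat.card G := by
    have := h.card_sub_one_dvd
    rwa [hcardV] at this
  have : Fact p0.Prime := ⟨hp0⟩
  obtain ⟨x, hx⟩ := exists_prime_orderOf_dvd_card' p0 (hdvd.trans hGdvd)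
  have hx1 : x ≠ 1 := by
    rintro rfl
    rw [orderOf_one] at hx
    exact hp0.one_lt.ne hx
  have hxp : x ^ p0 = 1 := by rw [← hx]; exact pow_orderOf_eq_one x
  rcases ppd_dichotomy hsol ρ h hp0 hx1 hxp (by rw [hn]; exact hdvd) (by rw [hn]; exact hprim)
    (by rw [hn]; omega) with h' | ⟨hp0n, hq2, C, hB⟩
  · exact absurd h' hsl
  rw [hn] at hp0n
  -- n is a power of two
  obtain ⟨j, hj⟩ : ∃ j, n = 2 ^ j := by
    obtain ⟨a, ha⟩ := IsPGroup.iff_card.mp hB.two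
    have h1 : n ∣ 2 ^ a := by
      rw [← ha, hB.card, hn]
      exact Dvd.dvd.mul_right (Dvd.intro_left _ (by ring : n * n = n ^ 2)) _
    obtain ⟨j, _, hj⟩ := (Nat.dvd_prime_pow Nat.prime_two).mp h1
    exact ⟨j, hj⟩
  have hj2 : 2 ≤ j := by
    by_contra hlt
    have : j = 0 ∨ j = 1 := by omega
    rcases this with rfl | rfl <;> omega
  obtain ⟨j', rfl⟩ : ∃ j', j = j' + 2 := ⟨j - 2, by omega⟩
  -- notation: m = n / 2 = 2 ^ (j' + 1)
  have hqodd : Odd q := hq.odd_of_ne_two hq2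
  have hpq : ¬ p0 ∣ q - 1 := by
    have := hprim 1 (by norm_num) (by omega)
    rwa [pow_one] at this
  have hnm : n = 2 ^ (j' + 1) * 2 := by rw [hj, pow_succ]
  have claim : ∀ s : ℕ, s.Prime → s ≠ 2 → s ∣ q ^ (2 ^ (j' + 1)) + 1 → s = p0 := by
    intro s hs hs2 hsd
    have : Fact s.Prime := ⟨hs⟩
    have : Fact (2 < s) := ⟨by have := hs.two_le; omega⟩
    have h1 : (q : ZMod s) ^ (2 ^ (j' + 1)) = -1 := by
      have h0 := (ZMod.natCast_eq_zero_iff (q ^ (2 ^ (j' + 1)) + 1) s).mpr hsd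
      push_cast at h0
      exact eq_neg_of_add_eq_zero_left h0
    have h2 : (q : ZMod s) ^ (2 ^ (j' + 1 + 1)) = 1 := by
      rw [pow_succ 2 (j' + 1), pow_mul, h1, neg_one_sq]
    have h3 : ¬ (q : ZMod s) ^ (2 ^ (j' + 1)) = 1 := by
      rw [h1]; exact ZMod.neg_one_ne_one
    have hord : orderOf (q : ZMod s) = 2 ^ (j' + 1 + 1) := orderOf_eq_prime_pow h3 h2
    have hsdvd : s ∣ q ^ n - 1 := by
      rw [Cfsg.Agent.Lib.Helper2.Zsig.dvd_pow_sub_one_iff hq1 s n, hj]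
      exact h2
    have hsprim : ∀ k, 0 < k → k < n → ¬ s ∣ q ^ k - 1 := by
      intro k hk hkn hd
      have h4 := (Cfsg.Agent.Lib.Helper2.Zsig.dvd_pow_sub_one_iff hq1 s k).mp hd
      have h5 := orderOf_dvd_of_pow_eq_one h4
      rw [hord] at h5
      have h6 := Nat.le_of_dvd hk h5
      rw [hj] at hkn
      omega
    obtain ⟨y, hy⟩ := exists_prime_orderOf_dvd_card' s (hsdvd.trans hGdvd)
    have hy1 : y ≠ 1 := by
      rintro rfl
      rw [orderOf_one] at hy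
      exact hs.one_lt.ne hy
    have hyp : y ^ s = 1 := by rw [← hy]; exact pow_orderOf_eq_one y
    rcases ppd_dichotomy hsol ρ h hs hy1 hyp (by rw [hn]; exact hsdvd) (by rw [hn]; exact hsprim)
      (by rw [hn]; omega) with h' | ⟨h', _⟩
    · exact absurd h' hsl
    · rw [h', hn, hp0n]
  -- q ^ m + 1 = 2 * N with N odd
  have hmod : (q ^ (2 ^ (j' + 1)) + 1) % 4 = 2 := by
    have e : q ^ (2 ^ (j' + 1)) = (q ^ (2 ^ j')) ^ 2 := by rw [← pow_mul, pow_succ]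
    have := odd_sq_mod_four (q ^ (2 ^ j')) hqodd.pow
    rw [e]; omega
  obtain ⟨N, hN⟩ : ∃ N, q ^ (2 ^ (j' + 1)) + 1 = 2 * N := ⟨(q ^ (2 ^ (j' + 1)) + 1) / 2, by omega⟩
  have hNodd : N % 2 = 1 := by omega
  have hNpow : N = p0 ^ N.primeFactorsList.length := by
    apply Nat.eq_prime_pow_of_unique_prime_dvd (by omega)
    intro d hd hdN
    apply claim d hd
    · rintro rfl
      omega
    · rw [hN]; exact Dvd.dvd.mul_left hdN 2
  obtain ⟨a, ha⟩ : ∃ a, N = p0 ^ a := ⟨_, hNpow⟩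
  -- a ≤ 1
  have hNdvdG : N ∣ Nat.card G := by
    have h1 : q ^ n - 1 = (q ^ (2 ^ (j' + 1)) - 1) * (q ^ (2 ^ (j' + 1)) + 1) := by
      rw [hnm, pow_mul]
      have : 1 ≤ q ^ (2 ^ (j' + 1)) := Nat.one_le_pow _ _ (by omega)
      obtain ⟨t, ht⟩ : ∃ t, q ^ (2 ^ (j' + 1)) = t + 1 := ⟨q ^ (2 ^ (j' + 1)) - 1, by omega⟩
      rw [ht]
      simp only [Nat.add_sub_cancel]
      have : (t + 1) ^ 2 = t * (t + 1 + 1) + 1 := by ring
      rw [this, Nat.add_sub_cancel]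
    have h2 : N ∣ q ^ n - 1 := by
      rw [h1, hN]
      exact Dvd.dvd.mul_left (Dvd.intro_left _ rfl) _
    exact h2.trans hGdvd
  have ha1 : a ≤ 1 := by
    obtain P : Sylow p0 G := default
    have hPcard := P.card_eq_multiplicity
    have hGne : Nat.card G ≠ 0 := Nat.card_pos.ne'
    have h1 : a ≤ (Nat.card G).factorization p0 := by
      rw [← Nat.Prime.pow_dvd_iff_le_factorization hp0 hGne, ← ha]
      exact hNdvdG
    have h2 : Nat.card (P : Subgroup G) ∣ p0 :=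
      hB.pgroup_card_dvd h.inj hp0 (by omega : 1 ≤ j' + 2) (by rw [hn, hj])
        (by rw [hp0n, hj]) hpq (P : Subgroup G) P.isPGroup'
    rw [hPcard] at h2
    have h3 : p0 ^ a ∣ p0 := (pow_dvd_pow p0 h1).trans h2
    by_contra hlt
    have h4 : p0 ^ 2 ∣ p0 := (pow_dvd_pow p0 (by omega)).trans h3
    have h5 := Nat.le_of_dvd hp0.pos h4
    have := hp0.two_le
    nlinarith
  -- arithmetic
  have hq3 : 3 ≤ q := by
    have := hq.two_le
    omega
  have hmpos : 2 ≤ 2 ^ (j' + 1) := by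
    calc 2 = 2 ^ 1 := by norm_num
      _ ≤ 2 ^ (j' + 1) := Nat.pow_le_pow_right (by norm_num) (by omega)
  have hge : 3 ^ (2 ^ (j' + 1)) ≤ q ^ (2 ^ (j' + 1)) := Nat.pow_le_pow_left hq3 _
  have ha0 : a = 1 := by
    by_contra hne
    have : a = 0 := by omega
    rw [this, pow_zero] at ha
    rw [ha] at hN
    have : 9 ≤ 3 ^ (2 ^ (j' + 1)) := by
      calc 9 = 3 ^ 2 := by norm_num
        _ ≤ 3 ^ (2 ^ (j' + 1)) := Nat.pow_le_pow_right (by norm_num) hmpos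
    omega
  rw [ha0, pow_one] at ha
  -- q ^ m + 1 = 2 * p0 = 2 * (n + 1)
  rw [ha, hp0n, hnm] at hN
  by_cases hm2 : 2 ^ (j' + 1) = 2
  · -- n = 4, q = 3
    rw [hm2] at hN
    have hq9 : q ^ 2 = 9 := by omega
    have hq3' : q = 3 := by nlinarith
    rw [hcardV, hnm, hm2, hq3']
    norm_num
  · exfalso
    have h3 : 3 ≤ 2 ^ (j' + 1) := by omega
    have := three_pow_gt _ h3
    omega

end Cfsg.Agent.Lib.Helper6.Hup
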