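import Cfsg.Agent.Lib.Helper6.HupC
import Cfsg.Agent.Lib.Helper1.FittingCentralizer

set_option autoImplicit false

/-! Huppert: the ppd dichotomy (Lemma P for transitive groups). -/

namespace Cfsg.Agent.Lib.Helper6.Hup

open Module

theorem ppd_dvd_sub_one (q p0 n : ℕ) (hp0 : p0.Prime) (hn : 0 < n) (hq : 2 ≤ q)
    (hdvd : p0 ∣ q ^ n - 1) (hprim : ∀ k, 0 < k → k < n → ¬ p0 ∣ q ^ k - 1) : n ∣ p0 - 1 := by
  have hcop : Nat.Coprime q p0 := by
    rw [Nat.coprime_comm, Nat.Prime.coprime_iff_not_dvd hp0]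
    intro h
    have h2 : p0 ∣ q ^ n := dvd_pow h hn.ne'
    have h3 : 1 ≤ q ^ n := Nat.one_le_pow _ _ (by omega)
    have h4 : p0 ∣ q ^ n - (q ^ n - 1) := Nat.dvd_sub h2 hdvd
    have h5 : q ^ n - (q ^ n - 1) = 1 := by omega
    rw [h5] at h4
    exact hp0.one_lt.ne' (Nat.dvd_one.mp h4)
  have h1 : q ^ (p0 - 1) ≡ 1 [MOD p0] := by
    have := Nat.ModEq.pow_totient hcop
    rwa [Nat.totient_prime hp0] at this
  have h2 : q ^ n ≡ 1 [MOD p0] := by
    have h3 : 1 ≤ q ^ n := Nat.one_le_pow _ _ (by omega)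
    exact ((Nat.modEq_iff_dvd' h3).mpr hdvd).symm
  have h3 : q ^ (p0 - 1) ≡ q ^ ((p0 - 1) % n) [MOD p0] := by
    conv_lhs => rw [← Nat.div_add_mod (p0 - 1) n, pow_add, pow_mul]
    have := (h2.pow ((p0 - 1) / n)).mul_right (q ^ ((p0 - 1) % n))
    rwa [one_pow, one_mul] at this
  have h4 : q ^ ((p0 - 1) % n) ≡ 1 [MOD p0] := h3.symm.trans h1
  by_contra hnd
  have hs : 0 < (p0 - 1) % n := Nat.pos_of_ne_zero (fun h => hnd (Nat.dvd_of_mod_eq_zero h))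
  have hlt : (p0 - 1) % n < n := Nat.mod_lt _ hn
  apply hprim _ hs hlt
  exact (Nat.modEq_iff_dvd' (Nat.one_le_pow _ _ (by omega))).mp h4.symm

variable {q : ℕ} [Fact q.Prime] {V : Type*} [AddCommGroup V] [Module (ZMod q) V]
  {G : Type*} [Group G]

/-- the standing hypotheses -/
structure Hyp (ρ : G →* (V ≃ₗ[ZMod q] V)) : Prop where
  inj : Function.Injective ρ
  trans : ∀ v w : V, v ≠ 0 → w ≠ 0 → ∃ g : G, ρ g v = w

/-- the structure in the exceptional case -/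
structure BData (ρ : G →* (V ≃ₗ[ZMod q] V)) (C : Subgroup G) : Prop where
  normal : C.Normal
  two : IsPGroup 2 C
  card : Nat.card C = (finrank (ZMod q) V) ^ 2 * Nat.card (Zc C)
  zscal : ∀ z ∈ Zc C, ∃ c : ZMod q, Lh ρ z = c • (1 : Module.End (ZMod q) V)
  cent : ∀ y : Module.End (ZMod q) V, (∀ c ∈ C, Lh ρ c * y = y * Lh ρ c) →
    ∃ c : ZMod q, y = c • (1 : Module.End (ZMod q) V)
  comm : ∀ a ∈ C, ∀ b ∈ C, cm a b ∈ Zc C
  sq : ∀ c ∈ C, c ^ 2 ∈ Zc C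
  symp : SympT 2 (muSub C 2) C

theorem Zc_comm (C : Subgroup G) : ∀ a ∈ Zc C, ∀ b ∈ Zc C, a * b = b * a :=
  fun a ha _ hb => (mem_Zc.mp hb).2 a (Zc_le C ha)

namespace Hyp

variable {ρ : G →* (V ≃ₗ[ZMod q] V)} (h : Hyp ρ)
include h

theorem FL [Finite V] {N : Subgroup G} (hNn : N.Normal) (hN : ∀ a ∈ N, ∀ b ∈ N, a * b = b * a) :
    Hup.FL (algOf ρ N) := FL_algOf ρ h.trans N hNn hN

theorem semilin_of_card [Finite V] [Nontrivial V] {N : Subgroup G} (hNn : N.Normal)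
    (hN : ∀ a ∈ N, ∀ b ∈ N, a * b = b * a) (hc : Nat.card (algOf ρ N) = Nat.card V) :
    SemiLin ρ :=
  semilin_of_FL ρ (h.FL hNn hN)
    (fun g a ha => algOf_conj_mem ρ N g (fun n hn => hNn.conj_mem n hn g) a ha) hc

theorem card_modEq_one [Finite V] [Nontrivial V] {N : Subgroup G} (hNn : N.Normal)
    (hN : ∀ a ∈ N, ∀ b ∈ N, a * b = b * a) {y : G} (hy : y ∈ N) (hy1 : y ≠ 1) (s : ℕ)
    [Fact s.Prime] (hys : y ^ s = 1) : Nat.card (algOf ρ N) ≡ 1 [MOD s] :=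
  (h.FL hNn hN).card_modEq_one (Lh_mem_algOf ρ hy)
    (fun e => hy1 (Lh_injective ρ h.inj (e.trans (map_one _).symm))) s
    (by rw [← map_pow, hys, map_one])

/-- no elements of order `q` in abelian normal subgroups -/
theorem no_q_elt [Finite V] [Nontrivial V] {N : Subgroup G} (hNn : N.Normal)
    (hN : ∀ a ∈ N, ∀ b ∈ N, a * b = b * a) {y : G} (hy : y ∈ N) (hyq : y ^ q = 1) : y = 1 := by
  by_contra hy1
  have h1 := h.card_modEq_one hNn hN hy hy1 q hyq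
  rw [(h.FL hNn hN).card_eq] at h1
  have hd := (h.FL hNn hN).finrank_pos
  have h2 : q ^ finrank (ZMod q) (algOf ρ N) ≡ 0 [MOD q] :=
    (Nat.modEq_zero_iff_dvd).mpr (dvd_pow_self q hd.ne')
  have h3 : (1 : ℕ) ≡ 0 [MOD q] := h1.symm.trans h2
  have h4 := (Nat.modEq_zero_iff_dvd).mp h3
  exact (Fact.out : q.Prime).one_lt.ne' (Nat.dvd_one.mp h4)

/-- an element of ppd order in an abelian normal subgroup forces the semilinear case -/
theorem semilin_of_ppd_elt [Finite V] [Nontrivial V] {N : Subgroup G} (hNn : N.Normal)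
    (hN : ∀ a ∈ N, ∀ b ∈ N, a * b = b * a) {y : G} (hy : y ∈ N) (hy1 : y ≠ 1) {p0 : ℕ}
    (hp0 : p0.Prime) (hyp : y ^ p0 = 1) (hdvd : p0 ∣ q ^ finrank (ZMod q) V - 1)
    (hprim : ∀ k, 0 < k → k < finrank (ZMod q) V → ¬ p0 ∣ q ^ k - 1) : SemiLin ρ := by
  have : Fact p0.Prime := ⟨hp0⟩
  have h1 := h.card_modEq_one hNn hN hy hy1 p0 hyp
  have hA := h.FL hNn hN
  rw [hA.card_eq] at h1
  have h5 := Cfsg.Agent.Lib.Helper5.SingerAbelian.arith q p0 (finrank (ZMod q) V) 0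
    (finrank (ZMod q) (algOf ρ N)) hp0 hdvd (Fact.out : q.Prime).two_le hprim (Nat.zero_le _)
    hA.finrank_le (by rwa [pow_zero])
  have hd := hA.finrank_pos
  have h6 : finrank (ZMod q) (algOf ρ N) = finrank (ZMod q) V := by
    rcases h5 with h | h
    · omega
    · exact h.2
  apply h.semilin_of_card hNn hN
  rw [hA.card_eq, natCard_eq_pow (q := q) V, h6]

/-- the ppd element centralises every abelian normal subgroup -/
theorem ppd_commute [Finite V] [Nontrivial V] {N : Subgroup G} (hNn : N.Normal)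
    (hN : ∀ a ∈ N, ∀ b ∈ N, a * b = b * a) {p0 : ℕ} (hp0 : p0.Prime) {x : G} (hxp : x ^ p0 = 1)
    (hdvd : p0 ∣ q ^ finrank (ZMod q) V - 1)
    (hprim : ∀ k, 0 < k → k < finrank (ZMod q) V → ¬ p0 ∣ q ^ k - 1) :
    ∀ n ∈ N, x * n = n * x := by
  intro n hn
  have h1 := (h.FL hNn hN).commute_of_ppd ρ x p0 hp0
    (fun a ha => algOf_conj_mem ρ N x (fun n hn => hNn.conj_mem n hn x) a ha) hxp hdvd hprim
    (Lh ρ n) (Lh_mem_algOf ρ hn)
  apply Lh_injective ρ h.inj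
  rw [map_mul, map_mul, h1]

end Hyp

/-- an element of order `s` in the centre of a nontrivial `s`-core -/
theorem exists_elt_of_pCore_ne_bot [Finite G] (s : ℕ) [Fact s.Prime]
    (hne : Cfsg.pCore s G ≠ ⊥) : ∃ y ∈ Zc (Cfsg.pCore s G), y ≠ 1 ∧ y ^ s = 1 := by
  have hR := Cfsg.Agent.Lib.Helper1.pCore_isPGroup (G := G) s
  have : Nontrivial (Cfsg.pCore s G) := (Subgroup.nontrivial_iff_ne_bot _).mpr hne
  have := hR.center_nontrivial
  have hcen : IsPGroup s (Subgroup.center (Cfsg.pCore s G)) := hR.to_subgroup _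
  obtain ⟨k, hk, hcard⟩ := hcen.nontrivial_iff_card.mp inferInstance
  have hdvd : s ∣ Nat.card (Subgroup.center (Cfsg.pCore s G)) := by
    rw [hcard]; exact dvd_pow_self s hk.ne'
  obtain ⟨z, hz⟩ := exists_prime_orderOf_dvd_card' s hdvd
  refine ⟨((z : Cfsg.pCore s G) : G), ?_, ?_, ?_⟩
  · rw [mem_Zc]
    refine ⟨(z : Cfsg.pCore s G).2, fun b hb => ?_⟩
    have := Subgroup.mem_center_iff.mp z.2 ⟨b, hb⟩
    exact congrArg Subtype.val this
  · intro h1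
    have : z = 1 := by
      apply Subtype.ext; apply Subtype.ext; exact h1
    rw [this, orderOf_one] at hz
    exact (Fact.out : s.Prime).one_lt.ne hz
  · have := pow_orderOf_eq_one z
    rw [hz] at this
    have h2 := congrArg (fun u : Subgroup.center (Cfsg.pCore s G) => ((u : Cfsg.pCore s G) : G)) this
    simpa using h2

namespace Hyp

variable {ρ : G →* (V ≃ₗ[ZMod q] V)} (h : Hyp ρ)
include h

theorem pCore_q_eq_bot [Finite G] [Finite V] [Nontrivial V] : Cfsg.pCore q G = ⊥ := by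
  by_contra hne
  obtain ⟨y, hy, hy1, hyq⟩ := exists_elt_of_pCore_ne_bot q hne
  exact hy1 (h.no_q_elt (Zc_normal (Cfsg.Agent.Lib.Helper1.pCore_normal q)) (Zc_comm _) hy hyq)

theorem pCore_ppd_eq_bot [Finite G] [Finite V] [Nontrivial V] (hsl : ¬ SemiLin ρ) {p0 : ℕ}
    (hp0 : p0.Prime) (hdvd : p0 ∣ q ^ finrank (ZMod q) V - 1)
    (hprim : ∀ k, 0 < k → k < finrank (ZMod q) V → ¬ p0 ∣ q ^ k - 1) :
    Cfsg.pCore p0 G = ⊥ := by
  have : Fact p0.Prime := ⟨hp0⟩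
  by_contra hne
  obtain ⟨y, hy, hy1, hyp⟩ := exists_elt_of_pCore_ne_bot p0 hne
  exact hsl (h.semilin_of_ppd_elt (Zc_normal (Cfsg.Agent.Lib.Helper1.pCore_normal p0)) (Zc_comm _)
    hy hy1 hp0 hyp hdvd hprim)

/-- a core not centralised by the ppd element -/
theorem exists_noncentral_pCore [Finite G] [Finite V] [Nontrivial V] [Group.IsSolvable G]
    (hsl : ¬ SemiLin ρ) {p0 : ℕ} (hp0 : p0.Prime) {x : G} (hx1 : x ≠ 1) (hxp : x ^ p0 = 1)
    (hdvd : p0 ∣ q ^ finrank (ZMod q) V - 1)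
    (hprim : ∀ k, 0 < k → k < finrank (ZMod q) V → ¬ p0 ∣ q ^ k - 1) :
    ∃ r : ℕ, r.Prime ∧ ∃ g ∈ Cfsg.pCore r G, x * g ≠ g * x := by
  by_contra hcon
  push Not at hcon
  have hF : Cfsg.fittingSubgroup G ≤ Subgroup.centralizer ({x} : Set G) := by
    rw [Cfsg.Agent.Lib.Helper1.fittingSubgroup_eq_iSup_pCore]
    apply iSup_le
    intro p g hg
    rw [Subgroup.mem_centralizer_iff]
    intro y hy
    rw [Set.mem_singleton_iff] at hy
    rw [hy]
    exact hcon p p.2 g hg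
  have hxc : x ∈ Subgroup.centralizer (Cfsg.fittingSubgroup G : Set G) := by
    rw [Subgroup.mem_centralizer_iff]
    intro g hg
    have := Subgroup.mem_centralizer_iff.mp (hF hg) x rfl
    exact this.symm
  have hxF : x ∈ Cfsg.fittingSubgroup G :=
    Cfsg.Agent.Lib.Helper1.centralizer_fittingSubgroup_le hxc
  have hxZ : x ∈ Zc (Cfsg.fittingSubgroup G) := by
    rw [mem_Zc]
    exact ⟨hxF, fun b hb => Subgroup.mem_centralizer_iff.mp hxc b hb⟩
  exact hsl (h.semilin_of_ppd_elt (Zc_normal Cfsg.Agent.Lib.Helper1.fittingSubgroup_normal)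
    (Zc_comm _) hxZ hx1 hp0 hxp hdvd hprim)

end Hyp

/-- an element of coprime order centralising a critical subgroup centralises the whole group -/
theorem Crit.cent_of_cent {r : ℕ} {R C : Subgroup G} (hC : Crit r R C) (hRn : R.Normal)
    (hR : IsPGroup r R) (hr : r.Prime) {p0 : ℕ} (hp0 : p0.Prime) (hpr : p0 ≠ r) {x : G}
    (hxp : x ^ p0 = 1) (hxC : ∀ c ∈ C, x * c = c * x) : ∀ g ∈ R, x * g = g * x := by
  intro g hg
  have hg' : x * g * x⁻¹ ∈ R := hRn.conj_mem g hg x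
  have hwR : x * g * x⁻¹ * g⁻¹ ∈ R := mul_mem hg' (inv_mem hg)
  have hwC : ∀ c ∈ C, c * (x * g * x⁻¹ * g⁻¹) = (x * g * x⁻¹ * g⁻¹) * c := by
    intro c hc
    have hxc : x * c * x⁻¹ = c := by rw [hxC c hc, mul_assoc, mul_inv_cancel, mul_one]
    have hz : cm c⁻¹ g⁻¹ ∈ Zc C := hC.comm _ (inv_mem hc) _ (inv_mem hg)
    have hxz : x * cm c⁻¹ g⁻¹ * x⁻¹ = cm c⁻¹ g⁻¹ := by
      rw [hxC _ (Zc_le C hz), mul_assoc, mul_inv_cancel, mul_one]
    have e1 : g⁻¹ * c * g = c * cm c⁻¹ g⁻¹ := by unfold cm; group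
    have e2 : x * (g⁻¹ * c * g) * x⁻¹ =
        (x * g * x⁻¹)⁻¹ * (x * c * x⁻¹) * (x * g * x⁻¹) := by group
    have e3 : x * (c * cm c⁻¹ g⁻¹) * x⁻¹ = (x * c * x⁻¹) * (x * cm c⁻¹ g⁻¹ * x⁻¹) := by group
    rw [e1, e3, hxc, hxz] at e2
    calc c * (x * g * x⁻¹ * g⁻¹)
        = (x * g * x⁻¹) * ((x * g * x⁻¹)⁻¹ * c * (x * g * x⁻¹)) * g⁻¹ := by group
      _ = (x * g * x⁻¹) * (g⁻¹ * c * g) * g⁻¹ := by rw [← e2, ← e1]
      _ = (x * g * x⁻¹ * g⁻¹) * c := by group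
  have hw : x * g * x⁻¹ * g⁻¹ ∈ C := hC.self_cent _ hwR hwC
  have hxw : x * (x * g * x⁻¹ * g⁻¹) = (x * g * x⁻¹ * g⁻¹) * x := hxC _ hw
  have hconj : x * g * x⁻¹ = (x * g * x⁻¹ * g⁻¹) * g := by group
  have h1 := pow_eq_one_of_conj x g _ hxw hconj p0 hxp
  obtain ⟨k, hk⟩ := hR ⟨_, hwR⟩
  have h2 : (x * g * x⁻¹ * g⁻¹) ^ r ^ k = 1 := congrArg Subtype.val hk
  have h3 := eq_one_of_pow_coprime _ p0 (r ^ k)
    (Nat.Coprime.pow_right k ((Nat.coprime_primes hp0 hr).mpr hpr)) h1 h2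
  have h4 : x * g * x⁻¹ = g := by rw [hconj, h3, one_mul]
  calc x * g = (x * g * x⁻¹) * x := by group
    _ = g * x := by rw [h4]

/-- trivial action modulo the centre plus trivial action on the centre gives trivial action -/
theorem cent_of_cmx_mem {r : ℕ} {R C : Subgroup G} (hCR : C ≤ R) (hR : IsPGroup r R)
    (hr : r.Prime) {p0 : ℕ} (hp0 : p0.Prime) (hpr : p0 ≠ r) {x : G} (hxp : x ^ p0 = 1)
    (hxZ : ∀ z ∈ Zc C, x * z = z * x) (hx : ∀ c ∈ C, x * c * x⁻¹ * c⁻¹ ∈ Zc C) :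
    ∀ c ∈ C, x * c = c * x := by
  intro c hc
  have hz := hx c hc
  have hconj : x * c * x⁻¹ = (x * c * x⁻¹ * c⁻¹) * c := by group
  have h1 := pow_eq_one_of_conj x c _ (hxZ _ hz) hconj p0 hxp
  obtain ⟨k, hk⟩ := hR ⟨_, hCR (Zc_le C hz)⟩
  have h2 : (x * c * x⁻¹ * c⁻¹) ^ r ^ k = 1 := congrArg Subtype.val hk
  have h3 := eq_one_of_pow_coprime _ p0 (r ^ k)
    (Nat.Coprime.pow_right k ((Nat.coprime_primes hp0 hr).mpr hpr)) h1 h2
  have h4 : x * c * x⁻¹ = c := by rw [hconj, h3, one_mul]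
  calc x * c = (x * c * x⁻¹) * x := by group
    _ = c * x := by rw [h4]

/-- bound `M ≤ n` -/
theorem crit_M_le [Finite G] [Finite V] [Nontrivial V] (ρ : G →* (V ≃ₗ[ZMod q] V))
    (hρ : Function.Injective ρ) {C : Subgroup G}
    (hcomm : ∀ a ∈ C, ∀ b ∈ C, cm a b ∈ Zc C) (hA : FL (algOf ρ (Zc C))) (M : ℕ)
    (hM : Nat.card C = M ^ 2 * Nat.card (Zc C)) :
    Nat.card (C ⧸ Zs C) = M ^ 2 ∧ M ≤ finrank (ZMod q) V := by
  have hZpos : 0 < Nat.card (Zc C) := Nat.card_pos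
  have hQ : Nat.card (C ⧸ Zs C) = M ^ 2 := by
    have h1 := card_quot C
    rw [hM] at h1
    exact (Nat.eq_of_mul_eq_mul_right hZpos h1).symm
  refine ⟨hQ, ?_⟩
  have hb := card_bound ρ hρ C hcomm hA
  have hd := hA.finrank_pos
  rw [hQ] at hb
  have h2 : M ^ 2 ≤ finrank (ZMod q) V * finrank (ZMod q) V := by nlinarith
  nlinarith

/-- the full data once `n ≤ M` -/
theorem bdata_of_crit [Finite G] [Finite V] [Nontrivial V] (ρ : G →* (V ≃ₗ[ZMod q] V))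
    (hρ : Function.Injective ρ) {r : ℕ} (hr : r.Prime) {R C : Subgroup G} (hR : IsPGroup r R)
    (hC : Crit r R C) (hA : FL (algOf ρ (Zc C))) (hS : SympT r (muSub C r) C) (M : ℕ)
    (hM : Nat.card C = M ^ 2 * Nat.card (Zc C)) (hnM : finrank (ZMod q) V ≤ M)
    (heven : Even (finrank (ZMod q) V)) : BData ρ C ∧ r = 2 := by
  have : Fact r.Prime := ⟨hr⟩
  have hcomm : ∀ a ∈ C, ∀ b ∈ C, cm a b ∈ Zc C := fun a ha b hb => hC.comm a ha b (hC.le hb)
  obtain ⟨hQ, hMn⟩ := crit_M_le ρ hρ hcomm hA M hM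
  have hMeq : M = finrank (ZMod q) V := le_antisymm hMn hnM
  have hQ' : Nat.card (C ⧸ Zs C) = finrank (ZMod q) V * finrank (ZMod q) V := by
    rw [hQ, hMeq, sq]
  obtain ⟨hz, hc⟩ := full_of_card_eq ρ hρ C hcomm hA hQ'
  have hCp : IsPGroup r C := hR.to_le hC.le
  have hr2 : r = 2 := by
    have := hC.normal
    have hQp : IsPGroup r (C ⧸ Zs C) := hCp.to_quotient _
    obtain ⟨k, hk⟩ := IsPGroup.iff_card.mp hQp
    have hnpos : 0 < finrank (ZMod q) V := Module.finrank_pos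
    have h2 : 2 ∣ r ^ k := by
      rw [← hk, hQ']
      exact Dvd.dvd.mul_right heven.two_dvd _
    have h3 : 2 ∣ r := Nat.Prime.dvd_of_dvd_pow Nat.prime_two h2
    exact ((Nat.prime_dvd_prime_iff_eq Nat.prime_two hr).mp h3).symm
  subst hr2
  refine ⟨⟨hC.normal, hCp, by rw [hM, hMeq], hz, hc, hcomm, ?_, hS⟩, rfl⟩
  intro c hcC
  exact hC.pow c hcC

/-- **Lemma P** -/
theorem ppd_dichotomy [Finite G] [Finite V] [Nontrivial V] (hsol : Group.IsSolvable G)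
    (ρ : G →* (V ≃ₗ[ZMod q] V)) (h : Hyp ρ) {p0 : ℕ} (hp0 : p0.Prime) {x : G} (hx1 : x ≠ 1)
    (hxp : x ^ p0 = 1) (hdvd : p0 ∣ q ^ finrank (ZMod q) V - 1)
    (hprim : ∀ k, 0 < k → k < finrank (ZMod q) V → ¬ p0 ∣ q ^ k - 1)
    (hn2 : 2 ≤ finrank (ZMod q) V) :
    SemiLin ρ ∨ (p0 = finrank (ZMod q) V + 1 ∧ q ≠ 2 ∧ ∃ C : Subgroup G, BData ρ C) := by
  by_cases hsl : SemiLin ρ
  · left; exact hsl
  right
  have := hsol
  obtain ⟨r, hr, g, hg, hxg⟩ := h.exists_noncentral_pCore hsl hp0 hx1 hxp hdvd hprim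
  have : Fact r.Prime := ⟨hr⟩
  have hRn := Cfsg.Agent.Lib.Helper1.pCore_normal (G := G) r
  have hR := Cfsg.Agent.Lib.Helper1.pCore_isPGroup (G := G) r
  have hrp : p0 ≠ r := by
    rintro rfl
    have hb := h.pCore_ppd_eq_bot hsl hp0 hdvd hprim
    rw [hb, Subgroup.mem_bot] at hg
    subst hg
    exact hxg (by rw [mul_one, one_mul])
  have hrq : r ≠ q := by
    rintro rfl
    have hb := h.pCore_q_eq_bot
    rw [hb, Subgroup.mem_bot] at hg
    subst hg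
    exact hxg (by rw [mul_one, one_mul])
  have := hRn
  obtain ⟨C, hC⟩ := exists_crit r (Cfsg.pCore r G) hR
  have hxC : ¬ ∀ c ∈ C, x * c = c * x := fun hc =>
    hxg (hC.cent_of_cent hRn hR hr hp0 hrp hxp hc g hg)
  have hCab : ¬ ∀ a ∈ C, ∀ b ∈ C, a * b = b * a := fun hab =>
    hxC (h.ppd_commute hC.normal hab hp0 hxp hdvd hprim)
  have hZn := Zc_normal hC.normal
  have hA := h.FL hZn (Zc_comm C)
  have hxZ := h.ppd_commute hZn (Zc_comm C) hp0 hxp hdvd hprim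
  have hnab : ∃ a ∈ C, ∃ b ∈ C, a * b ≠ b * a := by
    push Not at hCab; exact hCab
  have hS := exists_sympT ρ h.inj hr hC hA hnab
  obtain ⟨M, hM⟩ := SympT.exists_sq hr _ C rfl hS
  have hp0M : p0 ≤ M + 1 := by
    by_contra hlt
    push Not at hlt
    have h1 := SympT.triv_of_small hr hp0 hrp x hxp (fun z (hz : z ∈ muSub C r) => hxZ z hz.1) _ C rfl hS
      (normal_conj_iff hC.normal x) M hM hlt
    exact hxC (cent_of_cmx_mem hC.le hR hr hp0 hrp hxp hxZ h1)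
  have hnp := ppd_dvd_sub_one q p0 (finrank (ZMod q) V) hp0 (by omega)
    (Fact.out : q.Prime).two_le hdvd hprim
  have hnle : finrank (ZMod q) V ≤ p0 - 1 :=
    Nat.le_of_dvd (by have := hp0.two_le; omega) hnp
  have hcomm : ∀ a ∈ C, ∀ b ∈ C, cm a b ∈ Zc C := fun a ha b hb => hC.comm a ha b (hC.le hb)
  obtain ⟨_, hMn⟩ := crit_M_le ρ h.inj hcomm hA M hM
  have hp0eq : p0 = finrank (ZMod q) V + 1 := by
    have := hp0.two_le
    omega
  have heven : Even (finrank (ZMod q) V) := by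
    rcases Nat.even_or_odd (finrank (ZMod q) V) with he | ho
    · exact he
    · exfalso
      have h1 : Even p0 := by rw [hp0eq]; exact ho.add_one
      have h2 := (Nat.Prime.even_iff hp0).mp h1
      omega
  obtain ⟨hB, hr2⟩ := bdata_of_crit ρ h.inj hr hR hC hA hS M hM (by omega) heven
  exact ⟨hp0eq, by rintro rfl; exact hrq hr2, C, hB⟩

end Cfsg.Agent.Lib.Helper6.Hup
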