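import Cfsg.Agent.Lib.Helper6.HupN

set_option autoImplicit false

/-! Huppert: dimensions one and two (structure). -/

namespace Cfsg.Agent.Lib.Helper6.Hup

open Module

variable {q : ℕ} [Fact q.Prime] {V : Type*} [AddCommGroup V] [Module (ZMod q) V]
  {G : Type*} [Group G]

theorem FL_bot : FL (⊥ : Subalgebra (ZMod q) (Module.End (ZMod q) V)) := by
  constructor
  · intro a ha b hb
    rw [Algebra.mem_bot] at ha hb
    obtain ⟨c, rfl⟩ := ha
    exact Algebra.commutes c b
  · intro a ha v hv hav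
    rw [Algebra.mem_bot] at ha
    obtain ⟨c, rfl⟩ := ha
    rw [Module.algebraMap_end_apply] at hav
    rcases smul_eq_zero.mp hav with h | h
    · rw [h, map_zero]
    · exact absurd h hv

/-- dimension one -/
theorem semilin_of_finrank_one [Finite V] [Nontrivial V] (ρ : G →* (V ≃ₗ[ZMod q] V))
    (hn : finrank (ZMod q) V = 1) : SemiLin ρ := by
  have hFL : FL (⊥ : Subalgebra (ZMod q) (Module.End (ZMod q) V)) := FL_bot
  apply semilin_of_FL ρ hFL
  · intro g a ha
    rw [Algebra.mem_bot] at ha ⊢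
    obtain ⟨c, rfl⟩ := ha
    refine ⟨c, ?_⟩
    rw [(Algebra.commutes c (Lh ρ g)).symm, mul_assoc, Lh_mul_inv, mul_one]
  · have h1 := hFL.finrank_pos (V := V)
    have h2 := hFL.finrank_le (V := V)
    rw [hFL.card_eq, natCard_eq_pow (q := q) V, hn]
    congr 1
    omega

theorem scalar_central (ρ : G →* (V ≃ₗ[ZMod q] V)) (hρ : Function.Injective ρ) {x : G}
    {c : ZMod q} (hc : Lh ρ x = c • (1 : Module.End (ZMod q) V)) (g : G) : g * x = x * g := by
  apply Lh_injective ρ hρ
  rw [map_mul, map_mul, hc, mul_smul_comm, mul_one, smul_mul_assoc, one_mul]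

namespace Hyp

variable {ρ : G →* (V ≃ₗ[ZMod q] V)} (h : Hyp ρ)
include h

/-- in dimension two, outside the semilinear case, abelian normal subgroups are scalar -/
theorem scal_of_abel [Finite V] [Nontrivial V] (hn : finrank (ZMod q) V = 2)
    (hsl : ¬ SemiLin ρ) {N : Subgroup G} (hNn : N.Normal)
    (hN : ∀ a ∈ N, ∀ b ∈ N, a * b = b * a) :
    ∀ x ∈ N, ∃ c : ZMod q, Lh ρ x = c • (1 : Module.End (ZMod q) V) := by
  have hA := h.FL hNn hN
  have h1 := hA.finrank_pos
  have h2 := hA.finrank_le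
  rw [hn] at h2
  have h3 : finrank (ZMod q) (algOf ρ N) ≠ 2 := by
    intro h3
    apply hsl
    apply h.semilin_of_card hNn hN
    rw [hA.card_eq, natCard_eq_pow (q := q) V, hn, h3]
  have hd1 : finrank (ZMod q) (algOf ρ N) = 1 := by omega
  have hbot : algOf ρ N = ⊥ := Subalgebra.eq_bot_of_finrank_one hd1
  intro x hx
  have hx' := Lh_mem_algOf ρ hx
  rw [hbot, Algebra.mem_bot] at hx'
  obtain ⟨c, hc⟩ := hx'
  exact ⟨c, by rw [← hc]; exact Algebra.algebraMap_eq_smul_one c⟩

/-- not every element is a scalar (dimension at least two) -/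
theorem not_all_scalar [Finite G] [Finite V] [Nontrivial V] (hn : 2 ≤ finrank (ZMod q) V) :
    ¬ ∀ g : G, ∃ c : ZMod q, Lh ρ g = c • (1 : Module.End (ZMod q) V) := by
  intro hall
  choose c hc using hall
  have hinj : Function.Injective c := by
    intro a b hab
    apply Lh_injective ρ h.inj
    rw [hc a, hc b, hab]
  have h1 : Nat.card G ≤ q := by
    have := Nat.card_le_card_of_injective c hinj
    rwa [Nat.card_zmod] at this
  have h2 := h.card_sub_one_dvd
  rw [natCard_eq_pow (q := q) V] at h2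
  have hq := (Fact.out : q.Prime).two_le
  have h3 : q ^ 2 ≤ q ^ finrank (ZMod q) V := Nat.pow_le_pow_right (by omega) hn
  have h4 := Nat.le_of_dvd Nat.card_pos h2
  have h5 : q * 2 ≤ q ^ 2 := by rw [pow_two]; exact Nat.mul_le_mul_left q hq
  omega

/-- the structure in dimension two -/
theorem structure_two [Finite G] [Finite V] [Nontrivial V] (hsol : Group.IsSolvable G)
    (hn : finrank (ZMod q) V = 2) (hsl : ¬ SemiLin ρ) :
    q ≠ 2 ∧ ∃ C : Subgroup G, BData ρ C := by
  have := hsol
  -- abelian normal subgroups are central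
  have hcen : ∀ N : Subgroup G, N.Normal → (∀ a ∈ N, ∀ b ∈ N, a * b = b * a) →
      ∀ x ∈ N, ∀ g : G, g * x = x * g := by
    intro N hNn hN x hx g
    obtain ⟨c, hc⟩ := h.scal_of_abel hn hsl hNn hN x hx
    exact scalar_central ρ h.inj hc g
  -- some core is nonabelian
  have hex : ∃ r : ℕ, r.Prime ∧ ∃ a ∈ Cfsg.pCore r G, ∃ b ∈ Cfsg.pCore r G, a * b ≠ b * a := by
    by_contra hcon
    push Not at hcon
    have hF : Cfsg.fittingSubgroup G ≤ Subgroup.center G := by
      rw [Cfsg.Agent.Lib.Helper1.fittingSubgroup_eq_iSup_pCore]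
      apply iSup_le
      intro p x hx
      rw [Subgroup.mem_center_iff]
      intro g
      exact hcen _ (Cfsg.Agent.Lib.Helper1.pCore_normal p) (hcon p p.2) x hx g
    have htop : ∀ g : G, g ∈ Cfsg.fittingSubgroup G := by
      intro g
      apply Cfsg.Agent.Lib.Helper1.centralizer_fittingSubgroup_le
      rw [Subgroup.mem_centralizer_iff]
      intro x hx
      exact (Subgroup.mem_center_iff.mp (hF hx) g).symm
    have hab : ∀ a ∈ (⊤ : Subgroup G), ∀ b ∈ (⊤ : Subgroup G), a * b = b * a := by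
      intro a _ b _
      exact Subgroup.mem_center_iff.mp (hF (htop b)) a
    have hsc := h.scal_of_abel hn hsl (inferInstance : (⊤ : Subgroup G).Normal) hab
    exact h.not_all_scalar (by omega) (fun g => hsc g (Subgroup.mem_top g))
  obtain ⟨r, hr, a, ha, b, hb, hab⟩ := hex
  have : Fact r.Prime := ⟨hr⟩
  have hRn := Cfsg.Agent.Lib.Helper1.pCore_normal (G := G) r
  have hR := Cfsg.Agent.Lib.Helper1.pCore_isPGroup (G := G) r
  have := hRn
  obtain ⟨C, hC⟩ := exists_crit r (Cfsg.pCore r G) hR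
  have hnab : ∃ a ∈ C, ∃ b ∈ C, a * b ≠ b * a := by
    by_contra hcon
    push Not at hcon
    have hCc := hcen C hC.normal hcon
    have hle : Cfsg.pCore r G ≤ C := fun g hg => hC.self_cent g hg (fun c hc => (hCc c hc g).symm)
    exact hab (hcon a (hle ha) b (hle hb))
  have hZn := Zc_normal hC.normal
  have hA := h.FL hZn (Zc_comm C)
  have hS := exists_sympT ρ h.inj hr hC hA hnab
  obtain ⟨M, hM⟩ := SympT.exists_sq hr _ C rfl hS
  have hM2 : 2 ≤ M := by
    by_contra hlt
    have hM1 : M ^ 2 ≤ 1 := by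
      have : M ≤ 1 := by omega
      exact Nat.pow_le_one_iff (by norm_num) |>.mpr this
    have hle : Nat.card C ≤ Nat.card (Zc C) := by
      rw [hM]
      calc M ^ 2 * Nat.card (Zc C) ≤ 1 * Nat.card (Zc C) := Nat.mul_le_mul_right _ hM1
        _ = Nat.card (Zc C) := one_mul _
    have heq : Zc C = C := Subgroup.eq_of_le_of_card_ge (Zc_le C) hle
    obtain ⟨a', ha', b', hb', hab'⟩ := hnab
    have ha'' : a' ∈ Zc C := by rw [heq]; exact ha'
    have hb'' : b' ∈ Zc C := by rw [heq]; exact hb'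
    exact hab' (Zc_comm C a' ha'' b' hb'')
  obtain ⟨hB, hr2⟩ := bdata_of_crit ρ h.inj hr hR hC hA hS M hM (by omega)
    (by rw [hn]; exact even_two)
  refine ⟨?_, C, hB⟩
  rintro rfl
  have hb0 := h.pCore_q_eq_bot
  rw [hr2] at ha hb
  rw [hb0, Subgroup.mem_bot] at ha hb
  rw [ha, hb] at hab
  exact hab rfl

end Hyp

end Cfsg.Agent.Lib.Helper6.Hup
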