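import Cfsg.Agent.Lib.Helper6.HupQ

set_option autoImplicit false

/-! Huppert: dimension two: the order of `G` divides `24 (q - 1)`. -/

namespace Cfsg.Agent.Lib.Helper6.Hup

open Module

section ActQ

variable {Γ : Type*} [Group Γ] (B : Subgroup Γ)

theorem fQ_fQ (x y : Γ) (hx : ∀ b, x * b * x⁻¹ ∈ B ↔ b ∈ B) (hy : ∀ b, y * b * y⁻¹ ∈ B ↔ b ∈ B)
    (hxy : ∀ b, (x * y) * b * (x * y)⁻¹ ∈ B ↔ b ∈ B) (w : B ⧸ Zs B) :
    fQ B x hx (fQ B y hy w) = fQ B (x * y) hxy w := by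
  induction w using QuotientGroup.induction_on with
  | H b =>
    rw [fQ_mk, fQ_mk, fQ_mk]
    congr 1
    apply Subtype.ext
    show x * (y * (b : Γ) * y⁻¹) * x⁻¹ = (x * y) * (b : Γ) * (x * y)⁻¹
    group

theorem fQ_of_eq_one (x : Γ) (hx1 : x = 1) (hx : ∀ b, x * b * x⁻¹ ∈ B ↔ b ∈ B) (w : B ⧸ Zs B) :
    fQ B x hx w = w := by
  subst hx1
  induction w using QuotientGroup.induction_on with
  | H b =>
    rw [fQ_mk]
    congr 1
    apply Subtype.ext
    show 1 * (b : Γ) * 1⁻¹ = b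
    group

/-- the action on `B / Z(B)` -/
def actQ (hBn : B.Normal) : Γ →* Equiv.Perm (B ⧸ Zs B) where
  toFun g :=
    { toFun := fQ B g (normal_conj_iff hBn g)
      invFun := fQ B g⁻¹ (normal_conj_iff hBn g⁻¹)
      left_inv := fun w => by
        rw [fQ_fQ B g⁻¹ g _ _ (normal_conj_iff hBn (g⁻¹ * g))]
        exact fQ_of_eq_one B _ (inv_mul_cancel g) _ w
      right_inv := fun w => by
        rw [fQ_fQ B g g⁻¹ _ _ (normal_conj_iff hBn (g * g⁻¹))]
        exact fQ_of_eq_one B _ (mul_inv_cancel g) _ w }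
  map_one' := Equiv.ext (fun w => fQ_of_eq_one B 1 rfl _ w)
  map_mul' g g' := Equiv.ext (fun w => (fQ_fQ B g g' _ _ _ w).symm)

theorem actQ_apply (hBn : B.Normal) (g : Γ) (w : B ⧸ Zs B) :
    actQ B hBn g w = fQ B g (normal_conj_iff hBn g) w := rfl

theorem actQ_one' (hBn : B.Normal) (g : Γ) : actQ B hBn g 1 = 1 := by
  rw [actQ_apply, map_one]

theorem mem_ker_actQ (hBn : B.Normal) (g : Γ) :
    g ∈ (actQ B hBn).ker ↔ ∀ b ∈ B, cm g b ∈ Zc B := by
  rw [MonoidHom.mem_ker]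
  constructor
  · intro h b hb
    have h1 : actQ B hBn g (QuotientGroup.mk ⟨b, hb⟩) = QuotientGroup.mk ⟨b, hb⟩ := by
      rw [h]; rfl
    rw [actQ_apply, fQ_mk] at h1
    have h2 : (QuotientGroup.mk (phi B g (normal_conj_iff hBn g) ⟨b, hb⟩ * (⟨b, hb⟩ : B)⁻¹) :
        B ⧸ Zs B) = 1 := by
      rw [QuotientGroup.mk_mul, QuotientGroup.mk_inv, h1, mul_inv_cancel]
    rw [mk_eq_one_iff] at h2
    exact h2
  · intro h
    apply Equiv.ext
    intro w
    induction w using QuotientGroup.induction_on with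
    | H b =>
      rw [actQ_apply, fQ_mk]
      show _ = (QuotientGroup.mk b : B ⧸ Zs B)
      have h2 : (QuotientGroup.mk (phi B g (normal_conj_iff hBn g) b * b⁻¹) : B ⧸ Zs B) = 1 := by
        rw [mk_eq_one_iff]
        exact h b b.2
      rw [QuotientGroup.mk_mul, QuotientGroup.mk_inv, mul_inv_eq_one] at h2
      exact h2

theorem card_stab_of_four {α : Type*} [Finite α] (hα : Nat.card α = 4) (a : α) :
    Nat.card (MulAction.stabilizer (Equiv.Perm α) a) = 6 := by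
  classical
  have h1 := MulAction.index_stabilizer_of_transitive (Equiv.Perm α) a
  have h2 := Subgroup.card_mul_index (MulAction.stabilizer (Equiv.Perm α) a)
  rw [h1, Nat.card_perm, hα] at h2
  have h3 : Nat.factorial 4 = 24 := rfl
  rw [h3] at h2
  omega

theorem card_range_actQ_dvd (hBn : B.Normal) [Finite (B ⧸ Zs B)]
    (h4 : Nat.card (B ⧸ Zs B) = 4) : Nat.card (actQ B hBn).range ∣ 6 := by
  rw [← card_stab_of_four h4 (1 : B ⧸ Zs B)]
  apply Subgroup.card_dvd_of_le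
  rintro _ ⟨g, rfl⟩
  rw [MulAction.mem_stabilizer_iff, Equiv.Perm.smul_def]
  exact actQ_one' B hBn g

theorem card_eq_ker_mul_range {Γ' : Type*} [Group Γ'] (f : Γ →* Γ') :
    Nat.card Γ = Nat.card f.ker * Nat.card f.range := by
  rw [← Subgroup.index_ker, Subgroup.card_mul_index]

theorem cm_mul_right_gen (x y z : Γ) : cm x (y * z) = cm x y * (y * cm x z * y⁻¹) := by
  unfold cm; group

theorem cm_mul_right_of_ker {g : Γ} (hg : ∀ c ∈ B, cm g c ∈ Zc B) {c c' : Γ} (hc : c ∈ B)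
    (hc' : c' ∈ B) : cm g (c * c') = cm g c * cm g c' := by
  rw [cm_mul_right_gen]
  have h1 := (mem_Zc.mp (hg c' hc')).2 c hc
  rw [h1, mul_assoc (cm g c'), mul_inv_cancel, mul_one]

end ActQ

variable {q : ℕ} [Fact q.Prime] {V : Type*} [AddCommGroup V] [Module (ZMod q) V]
  {G : Type*} [Group G]

/-- the scalar units -/
def scalU (q : ℕ) [Fact q.Prime] (V : Type*) [AddCommGroup V] [Module (ZMod q) V] :
    (ZMod q)ˣ →* (Module.End (ZMod q) V)ˣ :=
  Units.map ((algebraMap (ZMod q) (Module.End (ZMod q) V) : ZMod q →+* Module.End (ZMod q) V) :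
    ZMod q →* Module.End (ZMod q) V)

theorem scalU_coe (u : (ZMod q)ˣ) :
    ((scalU q V u : (Module.End (ZMod q) V)ˣ) : Module.End (ZMod q) V) =
      (u : ZMod q) • (1 : Module.End (ZMod q) V) := by
  show algebraMap (ZMod q) (Module.End (ZMod q) V) (u : ZMod q) = _
  exact Algebra.algebraMap_eq_smul_one _

/-- the subgroup of elements acting as scalars -/
def scalSub (ρ : G →* (V ≃ₗ[ZMod q] V)) : Subgroup G :=
  (scalU q V).range.comap (Lh ρ).toHomUnits

theorem mem_scalSub [Nontrivial V] (ρ : G →* (V ≃ₗ[ZMod q] V)) {g : G} :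
    g ∈ scalSub ρ ↔ ∃ c : ZMod q, Lh ρ g = c • (1 : Module.End (ZMod q) V) := by
  unfold scalSub
  rw [Subgroup.mem_comap, MonoidHom.mem_range]
  constructor
  · rintro ⟨u, hu⟩
    refine ⟨(u : ZMod q), ?_⟩
    have := congrArg (fun w : (Module.End (ZMod q) V)ˣ => (w : Module.End (ZMod q) V)) hu
    simp only [MonoidHom.coe_toHomUnits] at this
    rw [← this]
    exact scalU_coe u
  · rintro ⟨c, hc⟩
    have hc0 : c ≠ 0 := by
      rintro rfl
      obtain ⟨v, hv⟩ := exists_ne (0 : V)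
      have h1 : Lh ρ g v = 0 := by rw [hc, zero_smul]; rfl
      rw [Lh_apply] at h1
      exact hv ((LinearEquiv.map_eq_zero_iff (ρ g)).mp h1)
    refine ⟨Units.mk0 c hc0, ?_⟩
    apply Units.ext
    rw [scalU_coe, MonoidHom.coe_toHomUnits, hc]
    rfl

theorem card_scalSub_dvd (ρ : G →* (V ≃ₗ[ZMod q] V)) (hρ : Function.Injective ρ) :
    Nat.card (scalSub ρ) ∣ q - 1 := by
  have h1 : Nat.card (scalSub ρ) ∣ Nat.card (scalU q V).range := by
    apply Subgroup.card_dvd_of_injective ((Lh ρ).toHomUnits.subgroupComap (scalU q V).range)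
    intro a b hab
    apply Subtype.ext
    apply Lh_injective ρ hρ
    have := congrArg (fun w : (scalU q V).range =>
      ((w : (Module.End (ZMod q) V)ˣ) : Module.End (ZMod q) V)) hab
    exact this
  have h2 := Subgroup.card_range_dvd (scalU q V)
  have h3 : Nat.card (ZMod q)ˣ = q - 1 := by rw [Nat.card_units, Nat.card_zmod]
  rw [h3] at h2
  exact h1.trans h2

namespace BData

variable {ρ : G →* (V ≃ₗ[ZMod q] V)} {C : Subgroup G} (hB : BData ρ C)
include hB

theorem card_quot_eq [Finite G] (hn : finrank (ZMod q) V = 2) : Nat.card (C ⧸ Zs C) = 4 := by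
  have h1 := card_quot C
  have h2 := hB.card
  rw [hn] at h2
  have hpos : 0 < Nat.card (Zc C) := Nat.card_pos
  rw [h2] at h1
  have h3 := Nat.eq_of_mul_eq_mul_right hpos h1
  rw [← h3]; norm_num

theorem cm_mem_mu (hρ : Function.Injective ρ) {g : G} (hg : ∀ c ∈ C, cm g c ∈ Zc C) {c : G}
    (hc : c ∈ C) : cm g c ∈ muSub C 2 := by
  refine ⟨hg c hc, ?_⟩
  rw [pow_two, ← cm_mul_right_of_ker C hg hc hc, cm_eq_one_iff, ← pow_two]
  exact hB.scalar_commute hρ (hB.sq c hc) g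

/-- the commutator with a fixed `c` as a homomorphism on the kernel -/
def lam (hρ : Function.Injective ρ) (c : G) (hc : c ∈ C) :
    (actQ C hB.normal).ker →* muSub C 2 where
  toFun g := ⟨cm (g : G) c, hB.cm_mem_mu hρ ((mem_ker_actQ C hB.normal (g : G)).mp g.2) hc⟩
  map_one' := Subtype.ext (by
    show cm (1 : G) c = 1
    unfold cm; group)
  map_mul' g g' := Subtype.ext (by
    show cm ((g : G) * (g' : G)) c = cm (g : G) c * cm (g' : G) c
    rw [cm_mul_left_gen]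
    have hz : cm (g' : G) c ∈ Zc C := (mem_ker_actQ C hB.normal (g' : G)).mp g'.2 c hc
    have h1 := hB.scalar_commute hρ hz (g : G)
    rw [h1, mul_assoc (cm (g' : G) c), mul_inv_cancel, mul_one]
    exact (hB.scalar_commute hρ hz _).symm)

theorem decomp [Finite G] (hn : finrank (ZMod q) V = 2) {c1 c2 : G} (h1 : c1 ∈ C)
    (h1z : c1 ∉ Zc C) (h2 : c2 ∈ C) (h21 : cm c2 c1 ≠ 1) {c : G} (hc : c ∈ C) :
    ∃ j i : ℕ, ∃ z ∈ Zc C, c = c2 ^ j * (c1 ^ i * z) := by
  have hS := hB.symp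
  have hr : (2 : ℕ).Prime := Nat.prime_two
  have e1 := hS.card_eq_mul_CB hr h1 h1z
  have e2 := hS.card_Zc_CB hr h1 h1z
  have e3 := hB.card
  rw [hn] at e3
  norm_num at e3
  have hle : Zc (CB C c1) ≤ CB C c1 := Zc_le _
  have heq : Zc (CB C c1) = CB C c1 := Subgroup.eq_of_le_of_card_ge hle (by omega)
  have hζ : cm c2 c1 ∈ muSub C 2 := hS.comm c2 h2 c1 h1
  obtain ⟨j, hj⟩ := hS.exists_pow_of_mu hr hζ h21 (hS.comm c hc c1 h1)
  have hyC : (c2 ^ j)⁻¹ * c ∈ C := mul_mem (inv_mem (pow_mem h2 j)) hc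
  have hy1 : cm ((c2 ^ j)⁻¹ * c) c1 = 1 := by
    rw [hS.cm_mul_left (inv_mem (pow_mem h2 j)) hc h1, hS.cm_inv_left (pow_mem h2 j) h1,
      hS.cm_pow_left h2 h1, hj, inv_mul_cancel]
  have hyCB : (c2 ^ j)⁻¹ * c ∈ CB C c1 := by
    rw [mem_CB]
    exact ⟨hyC, (cm_eq_one_iff.mp hy1).symm⟩
  rw [← heq] at hyCB
  obtain ⟨i, z, hz, hyz⟩ := hS.exists_decomp hr h1 h1z hyCB
  refine ⟨j, i, z, hz, ?_⟩
  rw [← hyz]; group

theorem commute_all [Finite G] (hρ : Function.Injective ρ) (hn : finrank (ZMod q) V = 2)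
    {c1 c2 : G} (h1 : c1 ∈ C) (h1z : c1 ∉ Zc C) (h2 : c2 ∈ C) (h21 : cm c2 c1 ≠ 1) {g : G}
    (hg1 : g * c1 = c1 * g) (hg2 : g * c2 = c2 * g) : ∀ c ∈ C, g * c = c * g := by
  intro c hc
  obtain ⟨j, i, z, hz, rfl⟩ := hB.decomp hn h1 h1z h2 h21 hc
  have a1 : Commute g c1 := hg1
  have a2 : Commute g c2 := hg2
  have a3 : Commute g z := hB.scalar_commute hρ hz g
  exact ((a2.pow_right j).mul_right ((a1.pow_right i).mul_right a3)).eq

theorem mem_scalSub_of_commute [Nontrivial V] {g : G} (hg : ∀ c ∈ C, g * c = c * g) :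
    g ∈ scalSub ρ := by
  rw [mem_scalSub]
  apply hB.cent
  intro c hc
  rw [← map_mul, ← map_mul, hg c hc]

theorem card_dvd [Finite G] [Finite V] [Nontrivial V] (hρ : Function.Injective ρ)
    (hn : finrank (ZMod q) V = 2) : Nat.card G ∣ 24 * (q - 1) := by
  classical
  have hS := hB.symp
  obtain ⟨c1, h1, h1z⟩ : ∃ c1 ∈ C, c1 ∉ Zc C := by
    by_contra hcon
    push Not at hcon
    have hZ : Zc C = C := le_antisymm (Zc_le C) hcon
    have e3 := hB.card
    rw [hn, hZ] at e3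
    have hpos : 0 < Nat.card C := Nat.card_pos
    norm_num at e3
    omega
  obtain ⟨c2, h2, h21⟩ := hS.exists_noncomm h1 h1z
  let Λ : (actQ C hB.normal).ker →* muSub C 2 × muSub C 2 :=
    (hB.lam hρ c1 h1).prod (hB.lam hρ c2 h2)
  have hG := card_eq_ker_mul_range (actQ C hB.normal)
  have hR := card_range_actQ_dvd C hB.normal (hB.card_quot_eq hn)
  have hDc := card_eq_ker_mul_range Λ
  have hΛr : Nat.card Λ.range ∣ 4 := by
    have h4 := Subgroup.card_subgroup_dvd_card Λ.range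
    rw [Nat.card_prod, hS.mu_card] at h4
    exact h4
  have hΛk : Nat.card Λ.ker ∣ q - 1 := by
    refine Dvd.dvd.trans ?_ (card_scalSub_dvd ρ hρ)
    let f : Λ.ker →* G := (Subgroup.subtype _).comp (Subgroup.subtype _)
    have hf : ∀ x, f x ∈ scalSub ρ := by
      intro x
      apply hB.mem_scalSub_of_commute
      have hx := x.2
      rw [MonoidHom.mem_ker] at hx
      have e1 : cm (((x : (actQ C hB.normal).ker)) : G) c1 = 1 :=
        congrArg (fun p : muSub C 2 × muSub C 2 => ((p.1 : muSub C 2) : G)) hx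
      have e2 : cm (((x : (actQ C hB.normal).ker)) : G) c2 = 1 :=
        congrArg (fun p : muSub C 2 × muSub C 2 => ((p.2 : muSub C 2) : G)) hx
      exact hB.commute_all hρ hn h1 h1z h2 h21 (cm_eq_one_iff.mp e1) (cm_eq_one_iff.mp e2)
    apply Subgroup.card_dvd_of_injective (f.codRestrict (scalSub ρ) hf)
    intro a b hab
    have h5 := congrArg Subtype.val hab
    exact Subtype.ext (Subtype.ext h5)
  rw [hG, hDc]
  have h6 := Nat.mul_dvd_mul (Nat.mul_dvd_mul hΛk hΛr) hR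
  refine h6.trans ?_
  exact ⟨1, by ring⟩

end BData

theorem arith_two (q : ℕ) (hq : q.Prime) (hq2 : q ≠ 2) (h : q ^ 2 - 1 ∣ 24 * (q - 1)) :
    q = 3 ∨ q = 5 ∨ q = 7 ∨ q = 11 ∨ q = 23 := by
  have h2 := hq.two_le
  obtain ⟨k, rfl⟩ : ∃ k, q = k + 1 := ⟨q - 1, by omega⟩
  have e1 : (k + 1) ^ 2 - 1 = k * (k + 2) := by
    have : (k + 1) ^ 2 = k * (k + 2) + 1 := by ring
    omega
  have e2 : 24 * (k + 1 - 1) = k * 24 := by
    rw [Nat.add_sub_cancel]; ring
  rw [e1, e2] at h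
  have h3 : k + 2 ∣ 24 := Nat.dvd_of_mul_dvd_mul_left (by omega) h
  have h4 : k + 2 ≤ 24 := Nat.le_of_dvd (by norm_num) h3
  have h5 : k ≤ 22 := by omega
  clear h h4 e1 e2 h2
  interval_cases k <;>
    first | omega | (exfalso; revert hq; norm_num) | (exfalso; revert h3; norm_num)

/-- dimension two: the exceptional cardinalities -/
theorem Hyp.card_two [Finite G] [Finite V] [Nontrivial V] {ρ : G →* (V ≃ₗ[ZMod q] V)}
    (h : Hyp ρ) (hsol : Group.IsSolvable G) (hn : finrank (ZMod q) V = 2) (hsl : ¬ SemiLin ρ) :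
    Nat.card V = 9 ∨ Nat.card V = 25 ∨ Nat.card V = 49 ∨ Nat.card V = 121 ∨
      Nat.card V = 529 := by
  obtain ⟨hq2, C, hB⟩ := h.structure_two hsol hn hsl
  have hd := hB.card_dvd h.inj hn
  have hV := h.card_sub_one_dvd
  have hc : Nat.card V = q ^ 2 := by rw [natCard_eq_pow (q := q) V, hn]
  rw [hc] at hV ⊢
  rcases arith_two q Fact.out hq2 (hV.trans hd) with r | r | r | r | r <;> subst r <;> norm_num

end Cfsg.Agent.Lib.Helper6.Hup
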