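import Cfsg.Agent.Lib.Helper6.HupB

set_option autoImplicit false

/-! Huppert: groups of symplectic type (commutators in a central subgroup of prime order);
an automorphism of large prime order acts trivially modulo the centre. -/

namespace Cfsg.Agent.Lib.Helper6.Hup

variable {Γ : Type*} [Group Γ]

/-- the commutator -/
def cm (a b : Γ) : Γ := a * b * a⁻¹ * b⁻¹

theorem cm_eq_one_iff {a b : Γ} : cm a b = 1 ↔ a * b = b * a := by
  unfold cm
  constructor
  · intro h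
    have h1 : a * b * a⁻¹ * b⁻¹ * (b * a) = 1 * (b * a) := by rw [h]
    rw [one_mul] at h1
    rw [← h1]; group
  · intro h
    calc a * b * a⁻¹ * b⁻¹ = (a * b) * a⁻¹ * b⁻¹ := rfl
      _ = (b * a) * a⁻¹ * b⁻¹ := by rw [h]
      _ = 1 := by group

theorem cm_swap (a b : Γ) : cm a b = (cm b a)⁻¹ := by unfold cm; group

/-- the centre of a subgroup, as a subgroup of the ambient group -/
def Zc (B : Subgroup Γ) : Subgroup Γ := B ⊓ Subgroup.centralizer (B : Set Γ)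

theorem mem_Zc {B : Subgroup Γ} {z : Γ} : z ∈ Zc B ↔ z ∈ B ∧ ∀ b ∈ B, b * z = z * b := by
  unfold Zc; rw [Subgroup.mem_inf, Subgroup.mem_centralizer_iff]; rfl

theorem Zc_le (B : Subgroup Γ) : Zc B ≤ B := inf_le_left

/-- the centraliser of an element in a subgroup -/
def CB (B : Subgroup Γ) (a : Γ) : Subgroup Γ := B ⊓ Subgroup.centralizer ({a} : Set Γ)

theorem mem_CB {B : Subgroup Γ} {a b : Γ} : b ∈ CB B a ↔ b ∈ B ∧ a * b = b * a := by
  unfold CB; rw [Subgroup.mem_inf, Subgroup.mem_centralizer_iff]; simp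

theorem CB_le (B : Subgroup Γ) (a : Γ) : CB B a ≤ B := inf_le_left

/-- groups of symplectic type -/
structure SympT (r : ℕ) (μ B : Subgroup Γ) : Prop where
  fin : Finite B
  mu_le : μ ≤ Zc B
  mu_card : Nat.card μ = r
  comm : ∀ a ∈ B, ∀ b ∈ B, cm a b ∈ μ

namespace SympT

variable {r : ℕ} {μ B : Subgroup Γ} (hS : SympT r μ B)
include hS

theorem cm_mem_B {a b : Γ} (ha : a ∈ B) (hb : b ∈ B) : cm a b ∈ B :=
  Zc_le B (hS.mu_le (hS.comm a ha b hb))

theorem cm_central {a b : Γ} (ha : a ∈ B) (hb : b ∈ B) {c : Γ} (hc : c ∈ B) :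
    c * cm a b = cm a b * c :=
  (mem_Zc.mp (hS.mu_le (hS.comm a ha b hb))).2 c hc

theorem cm_mul_left {a b c : Γ} (ha : a ∈ B) (hb : b ∈ B) (hc : c ∈ B) :
    cm (a * b) c = cm a c * cm b c := by
  have hz := hS.cm_central hb hc ha
  have hw := hS.cm_central hb hc (hS.cm_mem_B ha hc)
  calc cm (a * b) c = (a * cm b c) * (c * a⁻¹ * c⁻¹) := by unfold cm; group
    _ = cm b c * a * (c * a⁻¹ * c⁻¹) := by rw [hz]
    _ = cm b c * cm a c := by unfold cm; group
    _ = cm a c * cm b c := hw.symm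

theorem cm_mul_right {a b c : Γ} (ha : a ∈ B) (hb : b ∈ B) (hc : c ∈ B) :
    cm a (b * c) = cm a b * cm a c := by
  have hz := hS.cm_central ha hc (inv_mem hb)
  calc cm a (b * c) = a * b * a⁻¹ * (cm a c * b⁻¹) := by unfold cm; group
    _ = a * b * a⁻¹ * (b⁻¹ * cm a c) := by rw [hz]
    _ = cm a b * cm a c := by unfold cm; group

omit hS in
theorem cm_one_left (a : Γ) : cm 1 a = 1 := by unfold cm; group
omit hS in
theorem cm_one_right (a : Γ) : cm a 1 = 1 := by unfold cm; group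

theorem cm_inv_left {a c : Γ} (ha : a ∈ B) (hc : c ∈ B) : cm a⁻¹ c = (cm a c)⁻¹ := by
  have h := hS.cm_mul_left ha (inv_mem ha) hc
  rw [mul_inv_cancel, cm_one_left] at h
  exact eq_inv_of_mul_eq_one_right h.symm

theorem cm_inv_right {a c : Γ} (ha : a ∈ B) (hc : c ∈ B) : cm a c⁻¹ = (cm a c)⁻¹ := by
  have h := hS.cm_mul_right ha hc (inv_mem hc)
  rw [mul_inv_cancel, cm_one_right] at h
  exact eq_inv_of_mul_eq_one_right h.symm

theorem cm_pow_left {a c : Γ} (ha : a ∈ B) (hc : c ∈ B) (k : ℕ) : cm (a ^ k) c = cm a c ^ k := by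
  induction k with
  | zero => rw [pow_zero, pow_zero, cm_one_left]
  | succ k ih => rw [pow_succ, hS.cm_mul_left (pow_mem ha k) ha hc, ih, pow_succ]

theorem cm_pow_right {a c : Γ} (ha : a ∈ B) (hc : c ∈ B) (k : ℕ) : cm a (c ^ k) = cm a c ^ k := by
  induction k with
  | zero => rw [pow_zero, pow_zero, cm_one_right]
  | succ k ih => rw [pow_succ, hS.cm_mul_right ha (pow_mem hc k) hc, ih, pow_succ]

theorem pow_r {z : Γ} (hz : z ∈ μ) : z ^ r = 1 := by
  have h := pow_card_eq_one' (G := μ) (x := ⟨z, hz⟩)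
  rw [hS.mu_card] at h
  exact congrArg Subtype.val h

theorem exists_pow_of_mu (hr : r.Prime) {ζ z : Γ} (hζ : ζ ∈ μ) (hζ1 : ζ ≠ 1) (hz : z ∈ μ) :
    ∃ j : ℕ, z = ζ ^ j := by
  haveI : Fact r.Prime := ⟨hr⟩
  have hfin : Finite μ := Nat.finite_of_card_ne_zero (by rw [hS.mu_card]; exact hr.ne_zero)
  have h1 : Subgroup.zpowers (⟨ζ, hζ⟩ : μ) = ⊤ :=
    zpowers_eq_top_of_prime_card hS.mu_card (by intro h; exact hζ1 (congrArg Subtype.val h))
  have h2 : (⟨z, hz⟩ : μ) ∈ Subgroup.zpowers (⟨ζ, hζ⟩ : μ) := by rw [h1]; trivial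
  rw [← mem_powers_iff_mem_zpowers] at h2
  obtain ⟨j, hj⟩ := h2
  exact ⟨j, (congrArg Subtype.val hj).symm⟩

theorem pow_r_mem_Zc {b : Γ} (hb : b ∈ B) : b ^ r ∈ Zc B := by
  rw [mem_Zc]
  refine ⟨pow_mem hb r, fun h hh => ?_⟩
  rw [← cm_eq_one_iff, hS.cm_pow_right hh hb, hS.pow_r (hS.comm h hh b hb)]

theorem exists_noncomm {a : Γ} (ha : a ∈ B) (hna : a ∉ Zc B) : ∃ g ∈ B, cm g a ≠ 1 := by
  by_contra hcon
  push Not at hcon
  apply hna
  rw [mem_Zc]
  exact ⟨ha, fun b hb => cm_eq_one_iff.mp (hcon b hb)⟩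

theorem sub (a : Γ) (ha : a ∈ B) : SympT r μ (CB B a) where
  fin := by
    haveI := hS.fin
    exact Finite.of_injective (Subgroup.inclusion (CB_le B a)) (Subgroup.inclusion_injective _)
  mu_le := by
    intro z hz
    have h1 := mem_Zc.mp (hS.mu_le hz)
    rw [mem_Zc]
    refine ⟨mem_CB.mpr ⟨h1.1, h1.2 a ha⟩, fun b hb => h1.2 b (CB_le B a hb)⟩
  mu_card := hS.mu_card
  comm := fun b hb c hc => hS.comm b (CB_le B a hb) c (CB_le B a hc)

omit hS in
theorem self_mem_Zc_CB {a : Γ} (ha : a ∈ B) : a ∈ Zc (CB B a) := by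
  rw [mem_Zc]
  exact ⟨mem_CB.mpr ⟨ha, rfl⟩, fun b hb => (mem_CB.mp hb).2.symm⟩

theorem Zc_le_Zc_CB {a : Γ} (ha : a ∈ B) : Zc B ≤ Zc (CB B a) := by
  intro z hz
  have h1 := mem_Zc.mp hz
  rw [mem_Zc]
  exact ⟨mem_CB.mpr ⟨h1.1, h1.2 a ha⟩, fun b hb => h1.2 b (CB_le B a hb)⟩

/-- (E) -/
theorem mem_Zc_of_commute (hr : r.Prime) {a : Γ} (ha : a ∈ B) {g : Γ} (hg : g ∈ B)
    (hga : cm g a ≠ 1) {y : Γ} (hy : y ∈ Zc (CB B a)) (hgy : g * y = y * g) : y ∈ Zc B := by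
  have hy' := mem_Zc.mp hy
  have hyB : y ∈ B := CB_le B a hy'.1
  rw [mem_Zc]
  refine ⟨hyB, fun h hh => ?_⟩
  obtain ⟨j, hj⟩ := hS.exists_pow_of_mu hr (hS.comm g hg a ha) hga (hS.comm h hh a ha)
  have hb1 : h * (g ^ j)⁻¹ ∈ CB B a := by
    rw [mem_CB]
    refine ⟨mul_mem hh (inv_mem (pow_mem hg j)), ?_⟩
    have : cm (h * (g ^ j)⁻¹) a = 1 := by
      rw [hS.cm_mul_left hh (inv_mem (pow_mem hg j)) ha, hS.cm_inv_left (pow_mem hg j) ha,
        hS.cm_pow_left hg ha, hj, mul_inv_cancel]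
    exact (cm_eq_one_iff.mp this).symm
  have h1 := hy'.2 _ hb1
  have h2 : g ^ j * y = y * g ^ j := ((show Commute g y from hgy).pow_left j).eq
  calc h * y = (h * (g ^ j)⁻¹) * (g ^ j * y) := by group
    _ = (h * (g ^ j)⁻¹) * (y * g ^ j) := by rw [h2]
    _ = ((h * (g ^ j)⁻¹) * y) * g ^ j := by group
    _ = (y * (h * (g ^ j)⁻¹)) * g ^ j := by rw [h1]
    _ = y * h := by group

/-- (D) -/
theorem exists_decomp (hr : r.Prime) {a : Γ} (ha : a ∈ B) (hna : a ∉ Zc B) {y : Γ}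
    (hy : y ∈ Zc (CB B a)) : ∃ i : ℕ, ∃ z ∈ Zc B, y = a ^ i * z := by
  obtain ⟨g, hg, hga⟩ := hS.exists_noncomm ha hna
  have hyB : y ∈ B := CB_le B a (Zc_le _ hy)
  obtain ⟨i, hi⟩ := hS.exists_pow_of_mu hr (hS.comm g hg a ha) hga (hS.comm g hg y hyB)
  refine ⟨i, (a ^ i)⁻¹ * y, ?_, by group⟩
  have hz : (a ^ i)⁻¹ * y ∈ Zc (CB B a) :=
    mul_mem (inv_mem (pow_mem (self_mem_Zc_CB ha) i)) hy
  apply hS.mem_Zc_of_commute hr ha hg hga hz
  rw [← cm_eq_one_iff, hS.cm_mul_right hg (inv_mem (pow_mem ha i)) hyB,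
    hS.cm_inv_right hg (pow_mem ha i), hS.cm_pow_right hg ha, hi, inv_mul_cancel]

/-- (S2') -/
theorem card_eq_mul_CB (hr : r.Prime) {a : Γ} (ha : a ∈ B) (hna : a ∉ Zc B) :
    Nat.card B = r * Nat.card (CB B a) := by
  haveI : Fact r.Prime := ⟨hr⟩
  let κ : B →* μ := MonoidHom.mk' (fun b => ⟨cm b a, hS.comm b b.2 a ha⟩)
    (fun b b' => Subtype.ext (hS.cm_mul_left b.2 b'.2 ha))
  have hker : κ.ker = (CB B a).subgroupOf B := by
    ext b
    rw [MonoidHom.mem_ker, Subgroup.mem_subgroupOf, mem_CB]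
    constructor
    · intro h
      have : cm (b : Γ) a = 1 := congrArg Subtype.val h
      exact ⟨b.2, (cm_eq_one_iff.mp this).symm⟩
    · intro h
      exact Subtype.ext (cm_eq_one_iff.mpr h.2.symm)
  have hrange : κ.range = ⊤ := by
    haveI : Fact (Nat.card μ).Prime := by rw [hS.mu_card]; exact ⟨hr⟩
    rcases Subgroup.eq_bot_or_eq_top_of_prime_card κ.range with h | h
    · exfalso
      obtain ⟨g, hg, hga⟩ := hS.exists_noncomm ha hna
      have h1 : κ ⟨g, hg⟩ ∈ κ.range := ⟨_, rfl⟩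
      rw [h, Subgroup.mem_bot] at h1
      exact hga (congrArg Subtype.val h1)
    · exact h
  have h1 := Subgroup.card_mul_index κ.ker
  rw [Subgroup.index_ker, hrange, Subgroup.card_top, hS.mu_card, hker,
    Nat.card_congr (Subgroup.subgroupOfEquivOfLe (CB_le B a)).toEquiv] at h1
  rw [← h1, mul_comm]

/-- (S4') -/
theorem card_Zc_CB (hr : r.Prime) {a : Γ} (ha : a ∈ B) (hna : a ∉ Zc B) :
    Nat.card (Zc (CB B a)) = r * Nat.card (Zc B) := by
  haveI : Fact r.Prime := ⟨hr⟩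
  obtain ⟨g, hg, hga⟩ := hS.exists_noncomm ha hna
  have hle : ∀ y : Zc (CB B a), (y : Γ) ∈ B := fun y => CB_le B a (Zc_le _ y.2)
  let κ : Zc (CB B a) →* μ := MonoidHom.mk' (fun y => ⟨cm g y, hS.comm g hg y (hle y)⟩)
    (fun y y' => Subtype.ext (hS.cm_mul_right hg (hle y) (hle y')))
  have hker : κ.ker = (Zc B).subgroupOf (Zc (CB B a)) := by
    ext y
    rw [MonoidHom.mem_ker, Subgroup.mem_subgroupOf]
    constructor
    · intro h
      have : cm g (y : Γ) = 1 := congrArg Subtype.val h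
      exact hS.mem_Zc_of_commute hr ha hg hga y.2 (cm_eq_one_iff.mp this)
    · intro h
      exact Subtype.ext (cm_eq_one_iff.mpr ((mem_Zc.mp h).2 g hg))
  have hrange : κ.range = ⊤ := by
    haveI : Fact (Nat.card μ).Prime := by rw [hS.mu_card]; exact ⟨hr⟩
    rcases Subgroup.eq_bot_or_eq_top_of_prime_card κ.range with h | h
    · exfalso
      have h1 : κ ⟨a, self_mem_Zc_CB ha⟩ ∈ κ.range := ⟨_, rfl⟩
      rw [h, Subgroup.mem_bot] at h1
      exact hga (congrArg Subtype.val h1)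
    · exact h
  have h1 := Subgroup.card_mul_index κ.ker
  rw [Subgroup.index_ker, hrange, Subgroup.card_top, hS.mu_card, hker,
    Nat.card_congr (Subgroup.subgroupOfEquivOfLe (hS.Zc_le_Zc_CB ha)).toEquiv] at h1
  rw [← h1, mul_comm]

end SympT

/-- (S5): the index of the centre is a perfect square -/
theorem SympT.exists_sq {r : ℕ} (hr : r.Prime) {μ : Subgroup Γ} :
    ∀ (n : ℕ) (B : Subgroup Γ), Nat.card B = n → SympT r μ B →
      ∃ M : ℕ, Nat.card B = M ^ 2 * Nat.card (Zc B) := by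
  intro n
  induction n using Nat.strong_induction_on with
  | _ n ih =>
    intro B hn hS
    by_cases hab : ∀ a ∈ B, a ∈ Zc B
    · refine ⟨1, ?_⟩
      have : Zc B = B := le_antisymm (Zc_le B) hab
      rw [this, one_pow, one_mul]
    · push Not at hab
      obtain ⟨a, ha, hna⟩ := hab
      haveI := hS.fin
      have h1 := hS.card_eq_mul_CB hr ha hna
      have h2 := hS.card_Zc_CB hr ha hna
      have hpos : 0 < Nat.card (CB B a) := by
        haveI := (hS.sub a ha).fin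
        exact Nat.card_pos
      have hlt : Nat.card (CB B a) < n := by
        rw [← hn, h1]
        have := hr.two_le
        nlinarith
      obtain ⟨M1, hM1⟩ := ih _ hlt (CB B a) rfl (hS.sub a ha)
      refine ⟨r * M1, ?_⟩
      rw [h1, hM1, h2]; ring

end Cfsg.Agent.Lib.Helper6.Hup
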