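import Cfsg.Agent.Lib.Helper6.HupS

set_option autoImplicit false

/-! Huppert: an automorphism of prime order `p0 > M + 1` acts trivially on `B / Z(B)` of order
`M ^ 2` (symplectic type). -/

namespace Cfsg.Agent.Lib.Helper6.Hup

variable {Γ : Type*} [Group Γ]

section Quot

variable (B : Subgroup Γ) (x : Γ)

theorem conj_mem_Zc (hxB : ∀ b, x * b * x⁻¹ ∈ B ↔ b ∈ B) {z : Γ} (hz : z ∈ Zc B) :
    x * z * x⁻¹ ∈ Zc B := by
  rw [mem_Zc] at hz ⊢
  refine ⟨(hxB z).mpr hz.1, ?_⟩
  intro b hb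
  have hb' : x⁻¹ * b * x ∈ B := by
    rw [← hxB]
    have : x * (x⁻¹ * b * x) * x⁻¹ = b := by group
    rw [this]; exact hb
  have := hz.2 _ hb'
  calc b * (x * z * x⁻¹) = x * ((x⁻¹ * b * x) * z) * x⁻¹ := by group
    _ = x * (z * (x⁻¹ * b * x)) * x⁻¹ := by rw [this]
    _ = x * z * x⁻¹ * b := by group

/-- the centre as a subgroup of `B` -/
def Zs : Subgroup B := (Zc B).subgroupOf B

instance Zs_normal : (Zs B).Normal := by
  constructor
  intro z hz b
  have hz' : (z : Γ) ∈ Zc B := Subgroup.mem_subgroupOf.mp hz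
  have h1 := (mem_Zc.mp hz').2 b b.2
  have : b * z * b⁻¹ = z := by
    apply Subtype.ext
    simp only [Subgroup.coe_mul, Subgroup.coe_inv]
    rw [h1, mul_assoc, mul_inv_cancel, mul_one]
  rw [this]; exact hz

/-- conjugation by `x` on `B` -/
def phi (hxB : ∀ b, x * b * x⁻¹ ∈ B ↔ b ∈ B) : B →* B where
  toFun b := ⟨x * b * x⁻¹, (hxB b).mpr b.2⟩
  map_one' := Subtype.ext (by simp)
  map_mul' a b := Subtype.ext (by simp only [Subgroup.coe_mul]; group)

/-- the induced map on `B / Z(B)` -/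
def fQ (hxB : ∀ b, x * b * x⁻¹ ∈ B ↔ b ∈ B) : B ⧸ Zs B →* B ⧸ Zs B :=
  QuotientGroup.map (Zs B) (Zs B) (phi B x hxB) (by
    intro z hz
    rw [Subgroup.mem_comap]
    exact Subgroup.mem_subgroupOf.mpr (conj_mem_Zc B x hxB (Subgroup.mem_subgroupOf.mp hz)))

theorem fQ_mk (hxB : ∀ b, x * b * x⁻¹ ∈ B ↔ b ∈ B) (b : B) :
    fQ B x hxB (QuotientGroup.mk b) = QuotientGroup.mk (phi B x hxB b) := rfl

theorem phi_iter (hxB : ∀ b, x * b * x⁻¹ ∈ B ↔ b ∈ B) (k : ℕ) (b : B) :
    (((phi B x hxB)^[k] b : B) : Γ) = x ^ k * b * (x ^ k)⁻¹ := by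
  induction k with
  | zero => simp
  | succ k ih =>
    rw [Function.iterate_succ', Function.comp_apply]
    show x * (((phi B x hxB)^[k] b : B) : Γ) * x⁻¹ = _
    rw [ih, pow_succ']; group

theorem fQ_iter (hxB : ∀ b, x * b * x⁻¹ ∈ B ↔ b ∈ B) (k : ℕ) (b : B) :
    (fQ B x hxB)^[k] (QuotientGroup.mk b) = QuotientGroup.mk ((phi B x hxB)^[k] b) := by
  induction k with
  | zero => rfl
  | succ k ih =>
    rw [Function.iterate_succ', Function.comp_apply, ih, fQ_mk, Function.iterate_succ',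
      Function.comp_apply]

theorem fQ_iter_eq (hxB : ∀ b, x * b * x⁻¹ ∈ B ↔ b ∈ B) (p0 : ℕ) (hxp : x ^ p0 = 1)
    (w : B ⧸ Zs B) : (fQ B x hxB)^[p0] w = w := by
  induction w using QuotientGroup.induction_on with
  | H b =>
    rw [fQ_iter]
    congr 1
    apply Subtype.ext
    rw [phi_iter, hxp, one_mul, inv_one, mul_one]

theorem card_quot [Finite B] : Nat.card B = Nat.card (B ⧸ Zs B) * Nat.card (Zc B) := by
  have h := Subgroup.card_eq_card_quotient_mul_card_subgroup (Zs B)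
  rw [h]
  congr 1
  exact Nat.card_congr (Subgroup.subgroupOfEquivOfLe (Zc_le B)).toEquiv

theorem mk_eq_one_iff (b : B) :
    (QuotientGroup.mk b : B ⧸ Zs B) = 1 ↔ (b : Γ) ∈ Zc B := by
  rw [QuotientGroup.eq_one_iff]; exact Subgroup.mem_subgroupOf

end Quot

theorem comm_aux1 {z a c : Γ} (hzc : c * z = z * c) (hc : a * c = c * a) :
    (z * a) * c = c * (z * a) := by
  calc (z * a) * c = z * (a * c) := mul_assoc _ _ _
    _ = z * (c * a) := by rw [hc]
    _ = (z * c) * a := (mul_assoc _ _ _).symm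
    _ = (c * z) * a := by rw [hzc]
    _ = c * (z * a) := mul_assoc _ _ _

theorem comm_aux2 {z a c : Γ} (hzc : c * z = z * c) (h1 : (z * a) * c = c * (z * a)) :
    a * c = c * a := by
  have h2 : z * (a * c) = z * (c * a) := by
    calc z * (a * c) = (z * a) * c := (mul_assoc _ _ _).symm
      _ = c * (z * a) := h1
      _ = (c * z) * a := (mul_assoc _ _ _).symm
      _ = (z * c) * a := by rw [hzc]
      _ = z * (c * a) := mul_assoc _ _ _
  exact mul_left_cancel h2

theorem conj_pow_mul (x a z : Γ) (i : ℕ) :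
    x * (a ^ i * z) * x⁻¹ = (x * a * x⁻¹) ^ i * (x * z * x⁻¹) := by
  rw [conj_pow]; group

theorem e2_aux {z0 a w z : Γ} (i : ℕ) (hcz : a ^ i * w = w * a ^ i)
    (hza : a ^ i * z = z * a ^ i) :
    z0 ^ i * a ^ i * w * (a ^ i * z)⁻¹ = z0 ^ i * w * z⁻¹ := by
  calc z0 ^ i * a ^ i * w * (a ^ i * z)⁻¹
      = z0 ^ i * (a ^ i * w) * (a ^ i * z)⁻¹ := by group
    _ = z0 ^ i * (w * a ^ i) * (z * a ^ i)⁻¹ := by rw [hcz, hza]
    _ = _ := by group

theorem conj_conj_aux (x a b : Γ) : x * (a * b) * x⁻¹ = (x * a * x⁻¹) * (x * b * x⁻¹) := by group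

/-- (F) -/
theorem SympT.mem_Zc_of_cmx {r : ℕ} {μ B : Subgroup Γ} (hS : SympT r μ B) (hr : r.Prime)
    {p0 : ℕ} (hp0 : p0.Prime) (hpr : p0 ≠ r) (x : Γ) (hxp : x ^ p0 = 1)
    (hxB : ∀ b, x * b * x⁻¹ ∈ B ↔ b ∈ B) {b : Γ} (hb : b ∈ B)
    (h : x * (x * b * x⁻¹ * b⁻¹) * x⁻¹ * (x * b * x⁻¹ * b⁻¹)⁻¹ ∈ Zc B) :
    x * b * x⁻¹ * b⁻¹ ∈ Zc B := by
  have hδ : x * b * x⁻¹ * b⁻¹ ∈ B := mul_mem ((hxB b).mpr hb) (inv_mem hb)
  set δ : B := ⟨x * b * x⁻¹ * b⁻¹, hδ⟩ with hδdef
  set b' : B := ⟨b, hb⟩ with hb'def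
  set f := fQ B x hxB with hf
  have h1 : f (QuotientGroup.mk b') = QuotientGroup.mk δ * QuotientGroup.mk b' := by
    rw [hf, fQ_mk, ← QuotientGroup.mk_mul]
    congr 1
    apply Subtype.ext
    show x * b * x⁻¹ = (x * b * x⁻¹ * b⁻¹) * b
    group
  have h2 : f (QuotientGroup.mk δ) = QuotientGroup.mk δ := by
    rw [hf, fQ_mk, QuotientGroup.eq_iff_div_mem]
    have e : ((phi B x hxB δ / δ : B) : Γ) =
        x * (x * b * x⁻¹ * b⁻¹) * x⁻¹ * (x * b * x⁻¹ * b⁻¹)⁻¹ := by
      rw [div_eq_mul_inv]; rfl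
    rw [Zs, Subgroup.mem_subgroupOf, e]
    exact h
  have h3 : ∀ k : ℕ, f^[k] (QuotientGroup.mk b') =
      (QuotientGroup.mk δ : B ⧸ Zs B) ^ k * QuotientGroup.mk b' := by
    intro k
    induction k with
    | zero => simp
    | succ k ih =>
      rw [Function.iterate_succ', Function.comp_apply, ih, map_mul, map_pow, h2, h1, ← mul_assoc,
        ← pow_succ]
  have h4 : (QuotientGroup.mk δ : B ⧸ Zs B) ^ p0 = 1 := by
    have := h3 p0
    rw [hf, fQ_iter_eq B x hxB p0 hxp] at this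
    exact mul_right_cancel (b := (QuotientGroup.mk b' : B ⧸ Zs B))
      (by rw [one_mul]; exact this.symm)
  have h5 : (QuotientGroup.mk δ : B ⧸ Zs B) ^ r = 1 := by
    rw [← QuotientGroup.mk_pow, mk_eq_one_iff]
    exact hS.pow_r_mem_Zc hδ
  have h6 := eq_one_of_pow_coprime _ p0 r ((Nat.coprime_primes hp0 hr).mpr hpr) h4 h5
  exact (mk_eq_one_iff B δ).mp h6

/-- (S6) -/
theorem SympT.triv_of_small {r : ℕ} (hr : r.Prime) {μ : Subgroup Γ} {p0 : ℕ} (hp0 : p0.Prime)
    (hpr : p0 ≠ r) (x : Γ) (hxp : x ^ p0 = 1) (hxμ : ∀ z ∈ μ, x * z = z * x) :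
    ∀ (n : ℕ) (B : Subgroup Γ), Nat.card B = n → SympT r μ B →
      (∀ b, x * b * x⁻¹ ∈ B ↔ b ∈ B) →
      ∀ M : ℕ, Nat.card B = M ^ 2 * Nat.card (Zc B) → M + 1 < p0 →
        ∀ b ∈ B, x * b * x⁻¹ * b⁻¹ ∈ Zc B := by
  intro n
  induction n using Nat.strong_induction_on with
  | _ n ih =>
    intro B hn hS hxB M hM hMp
    have := hS.fin
    have : Fact p0.Prime := ⟨hp0⟩
    by_cases hab : ∀ a ∈ B, a ∈ Zc B
    · intro b hb
      exact hab _ (mul_mem ((hxB b).mpr hb) (inv_mem hb))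
    · push Not at hab
      obtain ⟨a0, ha0, hna0⟩ := hab
      have hZpos : 0 < Nat.card (Zc B) := by
        have : Finite (Zc B) :=
          Finite.of_injective (Subgroup.inclusion (Zc_le B)) (Subgroup.inclusion_injective _)
        exact Nat.card_pos
      have hQ : Nat.card (B ⧸ Zs B) = M ^ 2 := by
        have h1 := card_quot B
        rw [hM] at h1
        exact (Nat.eq_of_mul_eq_mul_right hZpos h1).symm
      -- step 2: a fixed nontrivial coset
      have hfix : ∃ a ∈ B, a ∉ Zc B ∧ x * a * x⁻¹ * a⁻¹ ∈ Zc B := by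
        by_contra hno
        push Not at hno
        have h1 := card_modEq_fixed (fQ B x hxB) p0 (fQ_iter_eq B x hxB p0 hxp)
        have h2 : Nat.card {w : B ⧸ Zs B // fQ B x hxB w = w} = 1 := by
          rw [Nat.card_eq_one_iff_unique]
          refine ⟨⟨?_⟩, ⟨⟨1, map_one _⟩⟩⟩
          have key : ∀ w : B ⧸ Zs B, fQ B x hxB w = w → w = 1 := by
            intro w
            induction w using QuotientGroup.induction_on with
            | H b =>
              intro hw
              rw [fQ_mk, QuotientGroup.eq_iff_div_mem] at hw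
              have hw' : x * (b : Γ) * x⁻¹ * (b : Γ)⁻¹ ∈ Zc B := by
                have h9 := Subgroup.mem_subgroupOf.mp hw
                have e : ((phi B x hxB b / b : B) : Γ) = x * (b : Γ) * x⁻¹ * (b : Γ)⁻¹ := by
                  rw [div_eq_mul_inv]; rfl
                rwa [e] at h9
              rw [mk_eq_one_iff]
              by_contra hb
              exact hno b b.2 hb hw'
          rintro ⟨w1, hw1⟩ ⟨w2, hw2⟩
          apply Subtype.ext
          show w1 = w2
          rw [key w1 hw1, key w2 hw2]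
        rw [h2, hQ] at h1
        have hM2 : 2 ≤ M := by
          by_contra hlt
          have hM1 : M ≤ 1 := by omega
          have hQ1 : Nat.card (B ⧸ Zs B) ≤ 1 := by
            rw [hQ]; exact Nat.pow_le_one_iff (by norm_num) |>.mpr hM1
          have hsub : Subsingleton (B ⧸ Zs B) := by
            rcases Nat.le_one_iff_eq_zero_or_eq_one.mp hQ1 with h | h
            · exact absurd h (Nat.card_pos (α := B ⧸ Zs B)).ne'
            · exact (Nat.card_eq_one_iff_unique.mp h).1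
          have : (QuotientGroup.mk ⟨a0, ha0⟩ : B ⧸ Zs B) = 1 := Subsingleton.elim _ _
          exact hna0 ((mk_eq_one_iff B ⟨a0, ha0⟩).mp this)
        have h3 : p0 ∣ M ^ 2 - 1 :=
          (Nat.modEq_iff_dvd' (Nat.one_le_pow _ _ (by omega))).mp h1.symm
        have h4 : M ^ 2 - 1 = (M - 1) * (M + 1) := by
          obtain ⟨k, rfl⟩ : ∃ k, M = k + 1 := ⟨M - 1, by omega⟩
          simp only [Nat.add_sub_cancel]
          have : (k + 1) ^ 2 = k * (k + 1 + 1) + 1 := by ring
          rw [this, Nat.add_sub_cancel]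
        rw [h4] at h3
        rcases (Nat.Prime.dvd_mul hp0).mp h3 with h | h
        · have := Nat.le_of_dvd (by omega) h
          omega
        · have := Nat.le_of_dvd (by omega) h
          omega
      obtain ⟨a, ha, hna, hxa⟩ := hfix
      -- x * a * x⁻¹ = z0 * a
      obtain ⟨z0, hz0⟩ : ∃ z0, z0 = x * a * x⁻¹ * a⁻¹ := ⟨_, rfl⟩
      rw [← hz0] at hxa
      have hxa' : x * a * x⁻¹ = z0 * a := by rw [hz0]; group
      have hz0c := mem_Zc.mp hxa
      -- step 3: x normalises CB B a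
      have hxB1 : ∀ b, x * b * x⁻¹ ∈ CB B a ↔ b ∈ CB B a := by
        intro b
        rw [mem_CB, mem_CB, hxB]
        constructor
        · rintro ⟨hbB, hc⟩
          refine ⟨hbB, ?_⟩
          have hcB : x * b * x⁻¹ ∈ B := (hxB b).mpr hbB
          -- x b x⁻¹ commutes with a and z0, hence with z0 a = x a x⁻¹
          have h1 : (z0 * a) * (x * b * x⁻¹) = (x * b * x⁻¹) * (z0 * a) :=
            comm_aux1 (hz0c.2 _ hcB) hc
          rw [← hxa'] at h1
          have h2 : x * (a * b) * x⁻¹ = x * (b * a) * x⁻¹ := by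
            rw [conj_conj_aux, conj_conj_aux]; exact h1
          exact mul_left_cancel (mul_right_cancel h2)
        · rintro ⟨hbB, hc⟩
          refine ⟨hbB, ?_⟩
          have hcB : x * b * x⁻¹ ∈ B := (hxB b).mpr hbB
          have h1 : (x * a * x⁻¹) * (x * b * x⁻¹) = (x * b * x⁻¹) * (x * a * x⁻¹) := by
            rw [← conj_conj_aux, ← conj_conj_aux, hc]
          rw [hxa'] at h1
          exact comm_aux2 (hz0c.2 _ hcB) h1
      have hS1 := hS.sub a ha
      have hc1 := hS.card_eq_mul_CB hr ha hna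
      have hc2 := hS.card_Zc_CB hr ha hna
      obtain ⟨M1, hM1⟩ := SympT.exists_sq hr _ (CB B a) rfl hS1
      have hpos1 : 0 < Nat.card (CB B a) := by
        have := hS1.fin
        exact Nat.card_pos
      have hlt : Nat.card (CB B a) < n := by
        rw [← hn, hc1]
        have := hr.two_le
        nlinarith
      have hMM : M = r * M1 := by
        have h1 : M ^ 2 * Nat.card (Zc B) = (r * M1) ^ 2 * Nat.card (Zc B) := by
          rw [← hM, hc1, hM1, hc2]; ring
        have h2 := Nat.eq_of_mul_eq_mul_right hZpos h1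
        exact Nat.pow_left_injective (by norm_num : 2 ≠ 0) h2
      have hM1p : M1 + 1 < p0 := by
        have := hr.two_le
        have : M1 ≤ M := by rw [hMM]; nlinarith
        omega
      have hIH := ih _ hlt (CB B a) rfl hS1 hxB1 M1 hM1 hM1p
      -- the commutator of x with an element of Zc (CB B a) lies in Zc B
      have hstepZ : ∀ y ∈ Zc (CB B a), x * y * x⁻¹ * y⁻¹ ∈ Zc B := by
        intro y hy
        obtain ⟨i, z, hz, rfl⟩ := hS.exists_decomp hr ha hna hy
        have hz' := conj_mem_Zc B x hxB hz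
        have hcomm : Commute z0 a := (hz0c.2 a ha).symm
        rw [conj_pow_mul, hxa', hcomm.mul_pow]
        -- z0^i a^i (x z x⁻¹) (a^i z)⁻¹ = z0^i * (x z x⁻¹) * z⁻¹ (central elements)
        have hai : a ^ i ∈ B := pow_mem ha i
        have hcz : a ^ i * (x * z * x⁻¹) = (x * z * x⁻¹) * a ^ i := (mem_Zc.mp hz').2 _ hai
        have hza : a ^ i * z = z * a ^ i := (mem_Zc.mp hz).2 _ hai
        rw [e2_aux i hcz hza]
        exact mul_mem (mul_mem (pow_mem hxa i) hz') (inv_mem hz)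
      -- step 4: trivial action on CB B a modulo Zc B
      have hstep4 : ∀ b ∈ CB B a, x * b * x⁻¹ * b⁻¹ ∈ Zc B := by
        intro b hb
        have hbB := CB_le B a hb
        exact hS.mem_Zc_of_cmx hr hp0 hpr x hxp hxB hbB (hstepZ _ (hIH b hb))
      -- step 5
      intro h hh
      have hδB : x * h * x⁻¹ * h⁻¹ ∈ B := mul_mem ((hxB h).mpr hh) (inv_mem hh)
      have hδZ1 : x * h * x⁻¹ * h⁻¹ ∈ Zc (CB B a) := by
        have hcomm : ∀ b ∈ CB B a, b * (x * h * x⁻¹ * h⁻¹) = (x * h * x⁻¹ * h⁻¹) * b := by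
          intro b hb
          have hbB := CB_le B a hb
          -- b' = x⁻¹ b x ∈ CB B a
          have hb' : x⁻¹ * b * x ∈ CB B a := by
            rw [← hxB1]
            have : x * (x⁻¹ * b * x) * x⁻¹ = b := by group
            rw [this]; exact hb
          have hb'B := CB_le B a hb'
          -- b * b'⁻¹ ∈ Zc B
          have hzb : b * (x⁻¹ * b * x)⁻¹ ∈ Zc B := by
            have := hstep4 _ hb'
            have e : x * (x⁻¹ * b * x) * x⁻¹ * (x⁻¹ * b * x)⁻¹ = b * (x⁻¹ * b * x)⁻¹ := by group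
            rwa [e] at this
          -- cm (x h x⁻¹) b = cm h b
          have e1 : cm (x * h * x⁻¹) b = x * cm h (x⁻¹ * b * x) * x⁻¹ := by unfold cm; group
          have e2 : x * cm h (x⁻¹ * b * x) * x⁻¹ = cm h (x⁻¹ * b * x) := by
            rw [hxμ _ (hS.comm h hh _ hb'B), mul_assoc, mul_inv_cancel, mul_one]
          have e3 : cm h (x⁻¹ * b * x) = cm h b := by
            have hsplit : b = (b * (x⁻¹ * b * x)⁻¹) * (x⁻¹ * b * x) := by group
            have hzB : b * (x⁻¹ * b * x)⁻¹ ∈ B := Zc_le B hzb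
            have h0 : cm h (b * (x⁻¹ * b * x)⁻¹) = 1 :=
              cm_eq_one_iff.mpr ((mem_Zc.mp hzb).2 h hh)
            conv_rhs => rw [hsplit]
            rw [hS.cm_mul_right hh hzB hb'B, h0, one_mul]
          have e4 : cm (x * h * x⁻¹ * h⁻¹) b = 1 := by
            rw [hS.cm_mul_left ((hxB h).mpr hh) (inv_mem hh) hbB, hS.cm_inv_left hh hbB, e1, e2,
              e3, mul_inv_cancel]
          exact (cm_eq_one_iff.mp e4).symm
        rw [mem_Zc]
        refine ⟨mem_CB.mpr ⟨hδB, ?_⟩, hcomm⟩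
        exact hcomm a (self_mem_Zc_CB ha |> Zc_le _)
      exact hS.mem_Zc_of_cmx hr hp0 hpr x hxp hxB hh (hstepZ _ hδZ1)

end Cfsg.Agent.Lib.Helper6.Hup
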