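import Cfsg.Agent.Lib.Helper6.HupY

set_option autoImplicit false

/-! Huppert, regular case in dimension two: preparations for the quaternion analysis. -/

namespace Cfsg.Agent.Lib.Helper6.Hup

open Module

variable {q : ℕ} [Fact q.Prime] {V : Type*} [AddCommGroup V] [Module (ZMod q) V]
  {G : Type*} [Group G]

theorem exists_index_two_of_card {R : Type*} [Group R] [Finite R]
    (h : Nat.card R = 2 ∨ Nat.card R = 6) : ∃ H : Subgroup R, H.index = 2 := by
  rcases h with h | h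
  · exact ⟨⊥, by rw [Subgroup.index_bot, h]⟩
  · haveI : Fact (Nat.Prime 3) := ⟨Nat.prime_three⟩
    obtain ⟨K, hK⟩ := Sylow.exists_subgroup_card_pow_prime (G := R) 3 (n := 1)
      (by rw [h]; norm_num)
    refine ⟨K, ?_⟩
    have h1 := Subgroup.card_mul_index K
    rw [hK, h] at h1
    omega

theorem index_two_of_range {P : Type*} [Group P] (ψ : G →* P)
    (h : Nat.card ψ.range = 2 ∨ Nat.card ψ.range = 6) :
    ∃ N : Subgroup G, N.Normal ∧ N.index = 2 := by
  haveI : Finite ψ.range :=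
    Nat.finite_of_card_ne_zero (by rcases h with h | h <;> rw [h] <;> norm_num)
  obtain ⟨H, hH⟩ := exists_index_two_of_card h
  have hi : (H.comap ψ.rangeRestrict).index = 2 := by
    rw [Subgroup.index_comap_of_surjective H ψ.rangeRestrict_surjective, hH]
  exact ⟨_, Subgroup.normal_of_index_eq_two hi, hi⟩

namespace BData

variable {ρ : G →* (V ≃ₗ[ZMod q] V)} {C : Subgroup G} (hB : BData ρ C)
include hB

theorem exists_noncentral [Finite G] (hn : finrank (ZMod q) V = 2) : ∃ c1 ∈ C, c1 ∉ Zc C := by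
  by_contra hcon
  push Not at hcon
  have hZ : Zc C = C := le_antisymm (Zc_le C) hcon
  have e3 := hB.card
  rw [hn, hZ] at e3
  have hpos : 0 < Nat.card C := Nat.card_pos
  norm_num at e3
  omega

theorem index_two_of_ker_top [Finite G] (hρ : Function.Injective ρ)
    (hn : finrank (ZMod q) V = 2) (hall : ∀ g : G, g ∈ (actQ C hB.normal).ker) :
    ∃ N : Subgroup G, N.Normal ∧ N.index = 2 := by
  have hS := hB.symp
  obtain ⟨c1, h1, h1z⟩ := hB.exists_noncentral hn
  obtain ⟨c2, h2, h21⟩ := hS.exists_noncomm h1 h1z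
  let χ : G →* muSub C 2 :=
    (hB.lam hρ c1 h1).comp ((MonoidHom.id G).codRestrict (actQ C hB.normal).ker hall)
  refine ⟨χ.ker, MonoidHom.normal_ker χ, ?_⟩
  rw [Subgroup.index_ker]
  have hd := Subgroup.card_subgroup_dvd_card χ.range
  rw [hS.mu_card] at hd
  rcases (Nat.dvd_prime Nat.prime_two).mp hd with h | h
  · exfalso
    rw [Subgroup.card_eq_one] at h
    have hm : χ c2 ∈ χ.range := ⟨c2, rfl⟩
    rw [h, Subgroup.mem_bot] at hm
    exact h21 (congrArg Subtype.val hm)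
  · exact h

theorem card_ker_dvd [Finite G] [Finite V] [Nontrivial V] (hρ : Function.Injective ρ)
    (hn : finrank (ZMod q) V = 2) : Nat.card (actQ C hB.normal).ker ∣ 4 * (q - 1) := by
  classical
  have hS := hB.symp
  obtain ⟨c1, h1, h1z⟩ := hB.exists_noncentral hn
  obtain ⟨c2, h2, h21⟩ := hS.exists_noncomm h1 h1z
  let Λ : (actQ C hB.normal).ker →* muSub C 2 × muSub C 2 :=
    (hB.lam hρ c1 h1).prod (hB.lam hρ c2 h2)
  have hDc := card_eq_ker_mul_range Λ
  have hΛr : Nat.card Λ.range ∣ 4 := by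
    have h4 := Subgroup.card_subgroup_dvd_card Λ.range
    rw [Nat.card_prod, hS.mu_card] at h4
    exact h4
  have hΛk : Nat.card Λ.ker ∣ q - 1 := by
    refine Dvd.dvd.trans ?_ (card_scalSub_dvd ρ hρ)
    let f : Λ.ker →* G := (Subgroup.subtype _).comp (Subgroup.subtype _)
    have hf : ∀ x, f x ∈ scalSub ρ := by
      intro x
      apply hB.mem_scalSub_of_commute
      have hx := x.2
      rw [MonoidHom.mem_ker] at hx
      have e1 : cm (((x : (actQ C hB.normal).ker)) : G) c1 = 1 :=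
        congrArg (fun p : muSub C 2 × muSub C 2 => ((p.1 : muSub C 2) : G)) hx
      have e2 : cm (((x : (actQ C hB.normal).ker)) : G) c2 = 1 :=
        congrArg (fun p : muSub C 2 × muSub C 2 => ((p.2 : muSub C 2) : G)) hx
      exact hB.commute_all hρ hn h1 h1z h2 h21 (cm_eq_one_iff.mp e1) (cm_eq_one_iff.mp e2)
    apply Subgroup.card_dvd_of_injective (f.codRestrict (scalSub ρ) hf)
    intro a b hab
    have h5 := congrArg Subtype.val hab
    exact Subtype.ext (Subtype.ext h5)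
  rw [hDc]
  have h6 := Nat.mul_dvd_mul hΛk hΛr
  refine h6.trans ?_
  exact ⟨1, by ring⟩

theorem CB_abel [Finite G] (hn : finrank (ZMod q) V = 2) {b : G} (hb : b ∈ C)
    (hbz : b ∉ Zc C) : Zc (CB C b) = CB C b := by
  have hS := hB.symp
  have hr : (2 : ℕ).Prime := Nat.prime_two
  have e1 := hS.card_eq_mul_CB hr hb hbz
  have e2 := hS.card_Zc_CB hr hb hbz
  have e3 := hB.card
  rw [hn] at e3
  norm_num at e3
  exact Subgroup.eq_of_le_of_card_ge (Zc_le _) (by omega)

theorem comm_decomp [Finite G] (hn : finrank (ZMod q) V = 2) {b : G} (hb : b ∈ C)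
    (hbz : b ∉ Zc C) {x : G} (hx : x ∈ C) (hxb : cm x b = 1) :
    ∃ i : ℕ, ∃ z ∈ Zc C, x = b ^ i * z := by
  have hxCB : x ∈ CB C b := by
    rw [mem_CB]
    exact ⟨hx, (cm_eq_one_iff.mp hxb).symm⟩
  rw [← hB.CB_abel hn hb hbz] at hxCB
  exact hB.symp.exists_decomp Nat.prime_two hb hbz hxCB

/-- the parity argument -/
theorem mem_or_of_comm [Finite G] (hn : finrank (ZMod q) V = 2) {b : G} (hb : b ∈ C)
    (hbz : b ∉ Zc C) {x : G} (hx : x ∈ C) (hxb : cm x b = 1) :
    x ∈ Zc C ∨ x * b⁻¹ ∈ Zc C := by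
  obtain ⟨i, z, hz, rfl⟩ := hB.comm_decomp hn hb hbz hx hxb
  have hb2 : b ^ 2 ∈ Zc C := hB.sq b hb
  rcases Nat.even_or_odd' i with ⟨k, hk | hk⟩
  · left
    rw [hk, pow_mul]
    exact mul_mem (pow_mem hb2 k) hz
  · right
    have hzb : z * b⁻¹ = b⁻¹ * z := ((mem_Zc.mp hz).2 b⁻¹ (inv_mem hb)).symm
    have e : b ^ i * z * b⁻¹ = (b ^ 2) ^ k * z := by
      calc b ^ i * z * b⁻¹ = b ^ i * (z * b⁻¹) := mul_assoc _ _ _
        _ = b ^ i * (b⁻¹ * z) := by rw [hzb]
        _ = (b ^ 2) ^ k * z := by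
          rw [hk, pow_succ, ← pow_mul]
          group
    rw [e]
    exact mul_mem (pow_mem hb2 k) hz

/-- an element of order three outside the kernel fixes only the trivial coset -/
theorem fix_unique [Finite G] (hn : finrank (ZMod q) V = 2) {g : G} (hg3 : g ^ 3 = 1)
    (hgD : g ∉ (actQ C hB.normal).ker) : ∀ x ∈ C, cm g x ∈ Zc C → x ∈ Zc C := by
  haveI : Fact (Nat.Prime 3) := ⟨Nat.prime_three⟩
  have hQ := hB.card_quot_eq hn
  have hxB := normal_conj_iff hB.normal g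
  have h1 := card_modEq_fixed (fQ C g hxB) 3 (fun w => fQ_iter_eq C g hxB 3 hg3 w)
  rw [hQ] at h1
  have h2 : Nat.card {w : C ⧸ Zs C // fQ C g hxB w = w} ≤ 4 := by
    rw [← hQ]; exact Finite.card_subtype_le _
  have h3 : Nat.card {w : C ⧸ Zs C // fQ C g hxB w = w} ≠ 4 := by
    intro h4
    apply hgD
    rw [MonoidHom.mem_ker]
    apply Equiv.ext
    intro w
    exact forall_of_card_subtype_eq (fun w : C ⧸ Zs C => fQ C g hxB w = w)
      (by rw [h4, hQ]) w
  have h5 : Nat.card {w : C ⧸ Zs C // fQ C g hxB w = w} = 1 := by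
    unfold Nat.ModEq at h1
    omega
  have hsub : Subsingleton {w : C ⧸ Zs C // fQ C g hxB w = w} :=
    (Nat.card_eq_one_iff_unique.mp h5).1
  intro x hx hcm
  have hfx : fQ C g hxB (QuotientGroup.mk ⟨x, hx⟩) = QuotientGroup.mk ⟨x, hx⟩ := by
    rw [fQ_mk]
    have h6 : (QuotientGroup.mk (phi C g hxB ⟨x, hx⟩ * (⟨x, hx⟩ : C)⁻¹) : C ⧸ Zs C) = 1 := by
      rw [mk_eq_one_iff]; exact hcm
    rw [QuotientGroup.mk_mul, QuotientGroup.mk_inv, mul_inv_eq_one] at h6
    exact h6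
  have hf1 : fQ C g hxB 1 = 1 := map_one _
  have h7 := Subsingleton.elim
    (⟨_, hfx⟩ : {w : C ⧸ Zs C // fQ C g hxB w = w}) ⟨1, hf1⟩
  have h8 : (QuotientGroup.mk ⟨x, hx⟩ : C ⧸ Zs C) = 1 := congrArg Subtype.val h7
  exact (mk_eq_one_iff C ⟨x, hx⟩).mp h8

end BData

end Cfsg.Agent.Lib.Helper6.Hup
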