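import Cfsg.Agent.Lib.Helper6.HupX

set_option autoImplicit false

/-! Huppert, regular case: basic facts, the cardinalities `9` and `81` are semilinear. -/

namespace Cfsg.Agent.Lib.Helper6.Hup

open Module

variable {q : ℕ} [Fact q.Prime] {V : Type*} [AddCommGroup V] [Module (ZMod q) V]
  {G : Type*} [Group G]

/-- the regularity hypothesis -/
def Reg (ρ : G →* (V ≃ₗ[ZMod q] V)) : Prop := ∀ v : V, v ≠ 0 → ∀ g : G, ρ g v = v → g = 1

namespace Hyp

variable {ρ : G →* (V ≃ₗ[ZMod q] V)} (h : Hyp ρ)
include h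

theorem card_of_reg [Finite G] [Finite V] [Nontrivial V] (hreg : Reg ρ) :
    Nat.card G = Nat.card V - 1 := by
  classical
  obtain ⟨v0, hv0⟩ := exists_ne (0 : V)
  letI : MulAction G V := MulAction.compHom V ρ
  have hsmul : ∀ (g : G) (v : V), g • v = ρ g v := fun g v => rfl
  have horb : MulAction.orbit G v0 = {v | v ≠ 0} := by
    ext v
    constructor
    · rintro ⟨g, rfl⟩
      show g • v0 ≠ 0
      rw [hsmul]
      intro h0
      exact hv0 ((ρ g).map_eq_zero_iff.mp h0)
    · intro hv
      obtain ⟨g, hg⟩ := h.trans v0 v hv0 hv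
      exact ⟨g, hg⟩
  have h1 := MulAction.index_stabilizer G v0
  have h2 : ({v : V | v ≠ 0}).ncard = Nat.card V - 1 := by
    have e : {v : V | v ≠ 0} = ({0} : Set V)ᶜ := by
      ext v; simp
    rw [e, Set.ncard_compl, Set.ncard_singleton]
  have hst : MulAction.stabilizer G v0 = ⊥ := by
    rw [eq_bot_iff]
    intro g hg
    rw [MulAction.mem_stabilizer_iff, hsmul] at hg
    exact Subgroup.mem_bot.mpr (hreg v0 hv0 g hg)
  rw [horb, h2, hst, Subgroup.index_bot] at h1
  exact h1

omit h in
/-- an involution acts as `-1` -/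
theorem invol_of_reg (hreg : Reg ρ) {t : G} (ht : t ^ 2 = 1) (ht1 : t ≠ 1) :
    ∀ v, ρ t v = -v := by
  intro v
  by_contra hne
  have hw : v + ρ t v ≠ 0 := fun h0 => hne (eq_neg_of_add_eq_zero_right h0)
  have hfix : ρ t (v + ρ t v) = v + ρ t v := by
    have e : ρ t (ρ t v) = v := by
      rw [← LinearEquiv.mul_apply, ← map_mul, ← pow_two, ht, map_one]
      rfl
    rw [map_add, e, add_comm]
  exact ht1 (hreg _ hw t hfix)

/-- an involution is central -/
theorem invol_central (hreg : Reg ρ) {t : G} (ht : t ^ 2 = 1) (ht1 : t ≠ 1) (b : G) :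
    b * t = t * b := by
  have hneg := invol_of_reg hreg ht ht1
  apply h.inj
  apply LinearEquiv.ext
  intro v
  rw [map_mul, map_mul, LinearEquiv.mul_apply, LinearEquiv.mul_apply, hneg, hneg, map_neg]

/-- cardinality `81` is semilinear in the regular case -/
theorem semilin_81 [Finite G] [Finite V] [Nontrivial V] (hsol : Group.IsSolvable G)
    (hreg : Reg ρ) (hV : Nat.card V = 81) : SemiLin ρ := by
  have hc := natCard_eq_pow (q := q) V
  rw [hV] at hc
  have hnpos : 0 < finrank (ZMod q) V := Module.finrank_pos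
  have hq3 : q = 3 := by
    have hqd : q ∣ 3 ^ 4 := by
      have h1 : q ∣ q ^ finrank (ZMod q) V := dvd_pow_self q hnpos.ne'
      rw [← hc] at h1
      have e : (81 : ℕ) = 3 ^ 4 := by norm_num
      rw [e] at h1
      exact h1
    exact (Nat.prime_dvd_prime_iff_eq Fact.out Nat.prime_three).mp
      ((Fact.out : q.Prime).dvd_of_dvd_pow hqd)
  have hn4 : finrank (ZMod q) V = 4 := by
    have e : q ^ finrank (ZMod q) V = 3 ^ finrank (ZMod q) V :=
      congrArg (fun t => t ^ finrank (ZMod q) V) hq3
    rw [e] at hc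
    have e2 : (81 : ℕ) = 3 ^ 4 := by norm_num
    rw [e2] at hc
    exact (Nat.pow_right_injective (le_refl 2 |>.trans (by norm_num : 2 ≤ 3)) hc).symm
  have hG : Nat.card G = 80 := by rw [h.card_of_reg hreg, hV]
  haveI : Fact (Nat.Prime 5) := ⟨by norm_num⟩
  obtain ⟨x, hx⟩ := exists_prime_orderOf_dvd_card' (G := G) 5 (by rw [hG]; norm_num)
  have hx1 : x ≠ 1 := by
    rintro rfl
    rw [orderOf_one] at hx
    omega
  have hx5 : x ^ 5 = 1 := by rw [← hx]; exact pow_orderOf_eq_one x
  have hdvd : 5 ∣ q ^ finrank (ZMod q) V - 1 := by rw [← hc]; norm_num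
  have hprim : ∀ k, 0 < k → k < finrank (ZMod q) V → ¬ 5 ∣ q ^ k - 1 := by
    intro k hk0 hk4
    rw [hn4] at hk4
    rw [hq3]
    interval_cases k <;> norm_num
  rcases ppd_dichotomy hsol ρ h (by norm_num) hx1 hx5 hdvd hprim (by omega) with
    hs | ⟨_, _, C, hB⟩
  · exact hs
  · exfalso
    have hcard := hB.card
    rw [hn4] at hcard
    have hCd : Nat.card C ∣ 80 := by
      rw [← hG]; exact Subgroup.card_subgroup_dvd_card C
    have hμ : 2 ∣ Nat.card (Zc C) := by
      have h2 := Subgroup.card_dvd_of_le hB.symp.mu_le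
      rwa [hB.symp.mu_card] at h2
    rw [hcard] at hCd
    obtain ⟨t, ht⟩ := hμ
    rw [ht] at hCd
    have h32 : 32 ∣ 80 := Dvd.dvd.trans ⟨t, by ring⟩ hCd
    norm_num at h32

/-- cardinality `9` is semilinear in the regular case -/
theorem semilin_9 [Finite G] [Finite V] [Nontrivial V] (hreg : Reg ρ)
    (hV : Nat.card V = 9) : SemiLin ρ := by
  have hc := natCard_eq_pow (q := q) V
  rw [hV] at hc
  have hnpos : 0 < finrank (ZMod q) V := Module.finrank_pos
  have hq3 : q = 3 := by
    have hqd : q ∣ 3 ^ 2 := by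
      have h1 : q ∣ q ^ finrank (ZMod q) V := dvd_pow_self q hnpos.ne'
      rw [← hc] at h1
      have e : (9 : ℕ) = 3 ^ 2 := by norm_num
      rw [e] at h1
      exact h1
    exact (Nat.prime_dvd_prime_iff_eq Fact.out Nat.prime_three).mp
      ((Fact.out : q.Prime).dvd_of_dvd_pow hqd)
  have hn2 : finrank (ZMod q) V = 2 := by
    have e : q ^ finrank (ZMod q) V = 3 ^ finrank (ZMod q) V :=
      congrArg (fun t => t ^ finrank (ZMod q) V) hq3
    rw [e] at hc
    have e2 : (9 : ℕ) = 3 ^ 2 := by norm_num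
    rw [e2] at hc
    exact (Nat.pow_right_injective (by norm_num : 2 ≤ 3) hc).symm
  have hG : Nat.card G = 8 := by rw [h.card_of_reg hreg, hV]
  obtain ⟨N, hNn, hN, h4⟩ : ∃ N : Subgroup G, N.Normal ∧ (∀ a ∈ N, ∀ b ∈ N, a * b = b * a) ∧
      4 ∣ Nat.card N := by
    by_cases hall : ∀ g : G, g ^ 2 = 1
    · refine ⟨⊤, inferInstance, ?_, ?_⟩
      · intro a _ b _
        have ha' : a⁻¹ = a := inv_eq_of_mul_eq_one_left (by rw [← pow_two]; exact hall a)
        have hb' : b⁻¹ = b := inv_eq_of_mul_eq_one_left (by rw [← pow_two]; exact hall b)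
        have hab' : (a * b)⁻¹ = a * b :=
          inv_eq_of_mul_eq_one_left (by rw [← pow_two]; exact hall (a * b))
        calc a * b = (a * b)⁻¹ := hab'.symm
          _ = b⁻¹ * a⁻¹ := mul_inv_rev a b
          _ = b * a := by rw [ha', hb']
      · rw [Subgroup.card_top, hG]; norm_num
    · push Not at hall
      obtain ⟨g, hg⟩ := hall
      have hord : orderOf g ∣ 8 := by rw [← hG]; exact orderOf_dvd_natCard g
      have h2 : ¬ orderOf g ∣ 2 := fun hd => hg (orderOf_dvd_iff_pow_eq_one.mp hd)
      have hcz : Nat.card (Subgroup.zpowers g) = orderOf g := Nat.card_zpowers g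
      have h4 : 4 ∣ orderOf g := by
        have hle : orderOf g ≤ 8 := Nat.le_of_dvd (by norm_num) hord
        generalize orderOf g = o at hord h2 hle
        interval_cases o <;> omega
      refine ⟨Subgroup.zpowers g, ?_, ?_, by rw [hcz]; exact h4⟩
      · have hmi := Subgroup.card_mul_index (Subgroup.zpowers g)
        rw [hcz, hG] at hmi
        have hle : orderOf g ≤ 8 := Nat.le_of_dvd (by norm_num) hord
        obtain ⟨t, ht⟩ := h4
        have hopos : 0 < orderOf g := Nat.pos_of_dvd_of_pos hord (by norm_num)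
        have ht12 : t = 1 ∨ t = 2 := by omega
        rcases ht12 with h1 | h1
        · apply Subgroup.normal_of_index_eq_two
          rw [ht, h1] at hmi
          omega
        · have htop : Subgroup.zpowers g = ⊤ := by
            apply Subgroup.eq_top_of_card_eq
            rw [hcz, hG, ht, h1]
          rw [htop]; infer_instance
      · intro a ha b hb
        obtain ⟨i, rfl⟩ := Subgroup.mem_zpowers_iff.mp ha
        obtain ⟨j, rfl⟩ := Subgroup.mem_zpowers_iff.mp hb
        rw [← zpow_add, ← zpow_add, add_comm]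
  have hA := h.FL hNn hN
  have hd1 := hA.finrank_pos
  have hd2 := hA.finrank_le
  rw [hn2] at hd2
  have hdv := h.card_dvd_units hNn hN
  rw [hA.card_eq] at hdv
  have hd : finrank (ZMod q) (algOf ρ N) = 2 := by
    by_contra hne
    have hd1' : finrank (ZMod q) (algOf ρ N) = 1 := by omega
    rw [hd1', pow_one, hq3] at hdv
    have := h4.trans hdv
    omega
  apply h.semilin_of_card hNn hN
  rw [hA.card_eq, hd, natCard_eq_pow (q := q) V, hn2]

/-- the regular case: semilinear or dimension two with `q ∈ {5, 7, 11, 23}` -/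
theorem reg_cases [Finite G] [Finite V] [Nontrivial V] (hsol : Group.IsSolvable G)
    (hreg : Reg ρ) :
    SemiLin ρ ∨ (finrank (ZMod q) V = 2 ∧ (∃ C : Subgroup G, BData ρ C) ∧
      (q = 5 ∨ q = 7 ∨ q = 11 ∨ q = 23)) := by
  by_cases hsl : SemiLin ρ
  · left; exact hsl
  right
  have hpos : 0 < finrank (ZMod q) V := Module.finrank_pos
  rcases Nat.lt_or_ge (finrank (ZMod q) V) 3 with hlt | hge
  · have h12 : finrank (ZMod q) V = 1 ∨ finrank (ZMod q) V = 2 := by omega
    rcases h12 with h1 | h2
    · exact absurd (semilin_of_finrank_one ρ h1) hsl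
    · obtain ⟨hq2, C, hB⟩ := h.structure_two hsol h2 hsl
      refine ⟨h2, ⟨C, hB⟩, ?_⟩
      have hd := hB.card_dvd h.inj h2
      have hV := h.card_sub_one_dvd
      have hc : Nat.card V = q ^ 2 := by rw [natCard_eq_pow (q := q) V, h2]
      rw [hc] at hV
      rcases arith_two q Fact.out hq2 (hV.trans hd) with r | r | r | r | r
      · exfalso
        apply hsl
        apply h.semilin_9 hreg
        rw [hc]
        have e : q ^ 2 = 3 ^ 2 := congrArg (fun t => t ^ 2) r
        rw [e]; norm_num
      · left; exact r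
      · right; left; exact r
      · right; right; left; exact r
      · right; right; right; exact r
  · exfalso
    by_cases h26 : q = 2 ∧ finrank (ZMod q) V = 6
    · exact hsl (h.case26 hsol h26.1 h26.2)
    · rcases main_ge3 hsol ρ h hge h26 with r | r
      · exact hsl r
      · exact hsl (h.semilin_81 hsol hreg r)

end Hyp

end Cfsg.Agent.Lib.Helper6.Hup
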