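import Mathlib
import Cfsg.Agent.Lib.Helper6.InvA
import Cfsg.Agent.Lib.Helper3.IC1
import Cfsg.Agent.Lib.Helper1.SubnormalPCore
import Cfsg.Agent.S0200

set_option autoImplicit false

/-!
# Involutory automorphisms inverting few elements of odd order (part C: Baer–Suzuki)

If `N` is a normal `α`-invariant subgroup in which `α` inverts no nontrivial element of odd
order, then `[N, α] ≤ O_2(G)`.  This is the Baer–Suzuki consequence `S0200` applied in the
semidirect product of `N` with the restriction of `α`.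
-/

namespace Cfsg.Agent.Lib.Helper6.Inv

open Cfsg.Agent.Lib.Helper1 Cfsg.Agent.Lib.Helper3.IC SemidirectProduct

universe u

variable {G : Type u} [Group G]

theorem cm_mem_pCore [Finite G] {α : MulAut G} (hsq : ∀ g, α (α g) = g) (N : Subgroup G)
    [hNn : N.Normal] (hN : ∀ n ∈ N, α n ∈ N) (hI : ∀ x ∈ invSet α, x ∈ N → x = 1) :
    ∀ n ∈ N, n⁻¹ * α n ∈ Cfsg.pCore 2 G := by
  classical
  obtain ⟨β, hβ⟩ : ∃ β : MulAut N, β = restrictAut α N hN := ⟨_, rfl⟩
  have hβa : ∀ x : N, ((β x : N) : G) = α x := by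
    intro x; rw [hβ]; rfl
  by_cases h1 : β = 1
  · intro n hn
    have h2 : α n = n := by
      have h3 := hβa ⟨n, hn⟩
      rw [h1] at h3
      simpa using h3.symm
    rw [h2, inv_mul_cancel]
    exact Subgroup.one_mem _
  · have hβsq : β ^ 2 = 1 := by
      ext x
      rw [pow_two, MulAut.mul_apply, MulAut.one_apply, hβa, hβa, hsq]
    have hβ2 : orderOf β = 2 := orderOf_eq_prime hβsq h1
    haveI : Finite (Gam β) := gam_finite β
    have ht2 : orderOf (aa β) = 2 := by
      have h3 : orderOf (aa β) = orderOf (az β) :=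
        orderOf_injective (inr : Subgroup.zpowers β →* Gam β) inr_injective (az β)
      rw [h3, ← hβ2]
      exact Subgroup.orderOf_mk β (Subgroup.mem_zpowers β)
    by_cases hO : ∀ M : Subgroup (Gam β), M.Normal → IsPGroup 2 M → aa β ∉ M
    · exfalso
      obtain ⟨h, hh1, hodd, hinv⟩ := Cfsg.Agent.S0200.result (aa β) ht2 hO
      have hr : (rightHom : Gam β →* Subgroup.zpowers β) h = 1 := by
        have hd1 : orderOf ((rightHom : Gam β →* Subgroup.zpowers β) h) ∣ orderOf h :=
          orderOf_map_dvd _ h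
        have hd2 : orderOf ((rightHom : Gam β →* Subgroup.zpowers β) h) ∣ 2 := by
          have h4 : Nat.card (Subgroup.zpowers β) = 2 := by rw [Nat.card_zpowers, hβ2]
          rw [← h4]; exact orderOf_dvd_natCard _
        have h5 : orderOf ((rightHom : Gam β →* Subgroup.zpowers β) h) = 1 := by
          rcases (Nat.dvd_prime Nat.prime_two).mp hd2 with h' | h'
          · exact h'
          · exfalso
            rw [h'] at hd1
            exact (Nat.not_even_iff_odd.mpr hodd) (even_iff_two_dvd.mpr hd1)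
        exact orderOf_eq_one_iff.mp h5
      have hmem : h ∈ (inl : N →* Gam β).range := by
        rw [range_inl_eq_ker_rightHom]; exact hr
      obtain ⟨n, rfl⟩ := hmem
      have hβn : β n = n⁻¹ := by
        apply inl_injective (φ := (Subgroup.zpowers β).subtype)
        rw [inl_apply, hinv, map_inv]
      have hon : orderOf (inl n : Gam β) = orderOf n :=
        orderOf_injective (inl : N →* Gam β) inl_injective n
      have hmemI : (n : G) ∈ invSet α := by
        refine ⟨?_, ?_⟩
        · rw [Subgroup.orderOf_coe, ← hon]; exact hodd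
        · rw [← hβa, hβn]; simp
      have hn1 : (n : G) = 1 := hI _ hmemI n.2
      have hn1' : n = 1 := Subtype.ext hn1
      exact hh1 (by rw [hn1', map_one])
    · push Not at hO
      obtain ⟨M, hMn, hM2, htM⟩ := hO
      obtain ⟨Q, hQ⟩ : ∃ Q : Subgroup N, Q = M.comap (inl : N →* Gam β) := ⟨_, rfl⟩
      have hQn : Q.Normal := by rw [hQ]; exact hMn.comap _
      have hQ2 : IsPGroup 2 Q := by rw [hQ]; exact hM2.comap_of_injective _ inl_injective
      have hQle : Q ≤ Cfsg.pCore 2 N := le_pCore hQn hQ2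
      intro n hn
      have hmem : (⟨n, hn⟩ : N)⁻¹ * β ⟨n, hn⟩ ∈ Q := by
        rw [hQ, Subgroup.mem_comap, map_mul, map_inv, inl_apply]
        have h1 : (inl ⟨n, hn⟩ : Gam β)⁻¹ * aa β * (inl ⟨n, hn⟩ : Gam β) ∈ M := by
          have h2 := hMn.conj_mem _ htM (inl ⟨n, hn⟩ : Gam β)⁻¹
          simpa using h2
        have h2 : (aa β)⁻¹ ∈ M := M.inv_mem htM
        have h3 := M.mul_mem h1 h2
        simpa only [mul_assoc] using h3
      have h3 : ((⟨n, hn⟩ : N)⁻¹ * β ⟨n, hn⟩ : N) ∈ Cfsg.pCore 2 N := hQle hmem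
      have h4 : N.subtype ((⟨n, hn⟩ : N)⁻¹ * β ⟨n, hn⟩ : N) ∈ (Cfsg.pCore 2 N).map N.subtype :=
        Subgroup.mem_map_of_mem _ h3
      have h5 := pCore_map_le_of_isSubnormal (p := 2) hNn.isSubnormal h4
      simpa [hβa] using h5

end Cfsg.Agent.Lib.Helper6.Inv
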