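import Mathlib
import Cfsg.Agent.Lib.Helper6.InvA

set_option autoImplicit false

/-!
# Involutory automorphisms inverting few elements of odd order (part D: Brauer–Fowler count)

A nontrivial involutory automorphism `α` of a finite group inverts a nontrivial element `y` whose
conjugacy class has fewer than `3 |C_G(α)|²` elements.
-/

namespace Cfsg.Agent.Lib.Helper6.Inv

universe u

variable {G : Type u} [Group G]

theorem finset_card_le_card_subgroup {X : Type*} {H₀ : Type*} [Group H₀] (s : Finset X)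
    (H : Subgroup H₀) [Finite H] (f : X → H₀) (hf : ∀ x ∈ s, f x ∈ H)
    (hinj : Set.InjOn f (s : Set X)) : s.card ≤ Nat.card H := by
  rw [← Nat.card_eq_finsetCard]
  refine Nat.card_le_card_of_injective (fun x : s => (⟨f x.1, hf x.1 x.2⟩ : H)) ?_
  intro x y hxy
  exact Subtype.ext (hinj (Finset.mem_coe.mpr x.2) (Finset.mem_coe.mpr y.2)
    (congrArg Subtype.val hxy))

theorem exists_small_class [Finite G] {α : MulAut G} (hsq : ∀ g, α (α g) = g)
    (hne : ∃ g, α g ≠ g) :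
    ∃ y : G, y ≠ 1 ∧ α y = y⁻¹ ∧
      (Subgroup.centralizer {y}).index < 3 * Nat.card (fixSub α) ^ 2 := by
  classical
  by_contra hcon
  push Not at hcon
  haveI : Fintype G := Fintype.ofFinite G
  obtain ⟨c, hc⟩ : ∃ c, c = Nat.card (fixSub α) := ⟨_, rfl⟩
  rw [← hc] at hcon
  obtain ⟨n, hn⟩ : ∃ n, n = Nat.card G := ⟨_, rfl⟩
  obtain ⟨J, hJ⟩ : ∃ J : Finset G, J = Finset.univ.image (fun g : G => g⁻¹ * α g) := ⟨_, rfl⟩
  obtain ⟨k, hk⟩ : ∃ k, k = J.card := ⟨_, rfl⟩
  have hJmem : ∀ j, j ∈ J ↔ ∃ g, g⁻¹ * α g = j := by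
    intro j; rw [hJ]; simp
  have hJinv : ∀ j ∈ J, α j = j⁻¹ := by
    intro j hj
    obtain ⟨g, rfl⟩ := (hJmem j).mp hj
    rw [map_mul, map_inv, hsq, mul_inv_rev, inv_inv]
  have h1J : (1 : G) ∈ J := (hJmem 1).mpr ⟨1, by simp⟩
  have hk2 : 2 ≤ k := by
    obtain ⟨g₀, hg₀⟩ := hne
    rw [hk]
    refine Finset.one_lt_card.mpr ⟨1, h1J, g₀⁻¹ * α g₀, (hJmem _).mpr ⟨g₀, rfl⟩, ?_⟩
    intro h
    apply hg₀
    have h2 := congrArg (fun z => g₀ * z) h
    simpa using h2.symm
  have hnck : n ≤ c * k := by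
    have h := Finset.card_le_mul_card_image (f := fun g : G => g⁻¹ * α g) Finset.univ c ?_
    · rw [hn, Nat.card_eq_fintype_card, hk, hJ]
      simpa using h
    · intro a ha
      obtain ⟨g, -, rfl⟩ := Finset.mem_image.mp ha
      rw [hc]
      refine finset_card_le_card_subgroup _ (fixSub α) (fun x => x * g⁻¹) ?_ ?_
      · intro x hx
        have hx' : x⁻¹ * α x = g⁻¹ * α g := (Finset.mem_filter.mp hx).2
        rw [mem_fixSub, map_mul, map_inv]
        have h2 : α x = x * (g⁻¹ * α g) := by rw [← hx']; group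
        rw [h2]; group
      · intro x _ y _ hxy
        simpa using hxy
  have hsum : k * k
      = ∑ g : G, ((J ×ˢ J).filter (fun p : G × G => p.1⁻¹ * p.2 = g)).card := by
    rw [hk, ← Finset.card_product]
    exact Finset.card_eq_sum_card_fiberwise (by intro x _; simp)
  have hF1 : ((J ×ˢ J).filter (fun p : G × G => p.1⁻¹ * p.2 = 1)).card ≤ k := by
    rw [hk]
    refine Finset.card_le_card_of_injOn (fun p => p.1) ?_ ?_
    · intro p hp
      rw [Finset.mem_coe] at hp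
      exact Finset.mem_coe.mpr (Finset.mem_product.mp (Finset.mem_filter.mp hp).1).1
    · intro p hp q hq hpq
      rw [Finset.mem_coe] at hp hq
      have hp' : p.1⁻¹ * p.2 = 1 := (Finset.mem_filter.mp hp).2
      have hq' : q.1⁻¹ * q.2 = 1 := (Finset.mem_filter.mp hq).2
      have hp2 : p.2 = p.1 := by rw [inv_mul_eq_one] at hp'; exact hp'.symm
      have hq2 : q.2 = q.1 := by rw [inv_mul_eq_one] at hq'; exact hq'.symm
      have hpq' : p.1 = q.1 := hpq
      exact Prod.ext hpq' (by rw [hp2, hq2]; exact hpq')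
  have hFg : ∀ g : G, g ≠ 1 →
      3 * c ^ 2 * ((J ×ˢ J).filter (fun p : G × G => p.1⁻¹ * p.2 = g)).card ≤ n := by
    intro g hg
    by_cases hemp : ((J ×ˢ J).filter (fun p : G × G => p.1⁻¹ * p.2 = g)) = ∅
    · rw [hemp]; simp
    · obtain ⟨p₀, hp₀⟩ := Finset.nonempty_iff_ne_empty.mpr hemp
      obtain ⟨hp₀J, hp₀g⟩ := Finset.mem_filter.mp hp₀
      obtain ⟨hj₀, hj₀'⟩ := Finset.mem_product.mp hp₀J
      have key : ∀ p ∈ (J ×ˢ J).filter (fun p : G × G => p.1⁻¹ * p.2 = g),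
          α g = p.1 * g⁻¹ * p.1⁻¹ := by
        intro p hp
        obtain ⟨hpJ, hpg⟩ := Finset.mem_filter.mp hp
        obtain ⟨h1, h2⟩ := Finset.mem_product.mp hpJ
        have e1 : α p.1 = p.1⁻¹ := hJinv _ h1
        have e2 : α p.2 = p.2⁻¹ := hJinv _ h2
        have e3 : g = p.1⁻¹ * p.2 := hpg.symm
        rw [e3, map_mul, map_inv, e1, e2]
        group
      obtain ⟨h, hh⟩ := (hJmem p₀.1).mp hj₀
      obtain ⟨y, hy⟩ : ∃ y, y = α h * g * (α h)⁻¹ := ⟨_, rfl⟩
      have hy1 : y ≠ 1 := by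
        intro hy1
        apply hg
        rw [hy] at hy1
        have h2 := congrArg (fun z => (α h)⁻¹ * z * α h) hy1
        simpa [mul_assoc] using h2
      have hyinv : α y = y⁻¹ := by
        rw [hy, map_mul, map_mul, map_inv, hsq, key p₀ hp₀, ← hh]
        group
      have hidx := hcon y hy1 hyinv
      have hcard : ((J ×ˢ J).filter (fun p : G × G => p.1⁻¹ * p.2 = g)).card
          ≤ Nat.card (Subgroup.centralizer {y}) := by
        refine finset_card_le_card_subgroup _ _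
          (fun p => α h * (p₀.1⁻¹ * p.1) * (α h)⁻¹) ?_ ?_
        · intro p hp
          rw [Subgroup.mem_centralizer_singleton_iff, hy]
          have e := (key p hp).symm.trans (key p₀ hp₀)
          have e2 : (p₀.1⁻¹ * p.1) * g⁻¹ = g⁻¹ * (p₀.1⁻¹ * p.1) := by
            calc (p₀.1⁻¹ * p.1) * g⁻¹ = p₀.1⁻¹ * (p.1 * g⁻¹ * p.1⁻¹) * p.1 := by group
              _ = p₀.1⁻¹ * (p₀.1 * g⁻¹ * p₀.1⁻¹) * p.1 := by rw [e]
              _ = g⁻¹ * (p₀.1⁻¹ * p.1) := by group
          have e3 : Commute (p₀.1⁻¹ * p.1) g := by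
            have e4 : Commute (p₀.1⁻¹ * p.1) g⁻¹ := e2
            simpa using e4.inv_right
          exact ((Commute.conj_iff (α h)).mpr e3).eq
        · intro p hp q hq hpq
          rw [Finset.mem_coe] at hp hq
          have hp' : p.1⁻¹ * p.2 = g := (Finset.mem_filter.mp hp).2
          have hq' : q.1⁻¹ * q.2 = g := (Finset.mem_filter.mp hq).2
          have hpq' : p.1 = q.1 := by simpa using hpq
          have hp2 : p.2 = p.1 * g := eq_mul_of_inv_mul_eq hp'
          have hq2 : q.2 = q.1 * g := eq_mul_of_inv_mul_eq hq'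
          exact Prod.ext hpq' (by rw [hp2, hq2, hpq'])
      calc 3 * c ^ 2 * ((J ×ˢ J).filter (fun p : G × G => p.1⁻¹ * p.2 = g)).card
          ≤ (Subgroup.centralizer {y}).index * Nat.card (Subgroup.centralizer {y}) :=
            Nat.mul_le_mul hidx hcard
        _ = n := by rw [hn, mul_comm]; exact Subgroup.card_mul_index _
  obtain ⟨F, hF⟩ : ∃ F : G → ℕ,
      F = fun g => ((J ×ˢ J).filter (fun p : G × G => p.1⁻¹ * p.2 = g)).card := ⟨_, rfl⟩
  have hsum' : k * k = F 1 + ∑ g ∈ Finset.univ.erase (1 : G), F g := by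
    rw [Finset.add_sum_erase _ _ (Finset.mem_univ _), hsum, hF]
  have hF1' : F 1 ≤ k := by rw [hF]; exact hF1
  have hrest : 3 * c ^ 2 * ∑ g ∈ Finset.univ.erase (1 : G), F g
      ≤ (Finset.univ.erase (1 : G)).card * n := by
    rw [Finset.mul_sum]
    calc ∑ g ∈ Finset.univ.erase (1 : G), 3 * c ^ 2 * F g
        ≤ ∑ _g ∈ Finset.univ.erase (1 : G), n :=
          Finset.sum_le_sum (fun g hg => by
            rw [hF]; exact hFg g (Finset.ne_of_mem_erase hg))
      _ = (Finset.univ.erase (1 : G)).card * n := by rw [Finset.sum_const, smul_eq_mul]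
  have he : (Finset.univ.erase (1 : G)).card < n := by
    rw [hn, Nat.card_eq_fintype_card, ← Finset.card_univ]
    exact Finset.card_erase_lt_of_mem (Finset.mem_univ _)
  obtain ⟨e, hee⟩ : ∃ e, e = (Finset.univ.erase (1 : G)).card := ⟨_, rfl⟩
  rw [← hee] at hrest he
  obtain ⟨S, hS⟩ : ∃ S, S = ∑ g ∈ Finset.univ.erase (1 : G), F g := ⟨_, rfl⟩
  rw [← hS] at hrest hsum'
  have hn0 : 0 < n := by omega
  have i2 : e * n < n * n := Nat.mul_lt_mul_of_pos_right he hn0
  have i3 : n * n ≤ (c * k) * (c * k) := Nat.mul_le_mul hnck hnck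
  have i4 : 2 * k ≤ k * k := Nat.mul_le_mul_right k hk2
  have i5 : c ^ 2 * (2 * k) ≤ c ^ 2 * (k * k) := Nat.mul_le_mul_left _ i4
  have i6 : 3 * c ^ 2 * F 1 ≤ 3 * c ^ 2 * k := Nat.mul_le_mul_left _ hF1'
  have i7 : 3 * c ^ 2 * (k * k) = 3 * c ^ 2 * F 1 + 3 * c ^ 2 * S := by
    rw [hsum', mul_add]
  nlinarith [i2, i3, i5, i6, i7, hrest]

end Cfsg.Agent.Lib.Helper6.Inv
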