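import Mathlib
import Cfsg.Agent.Lib.Helper6.InvB
import Cfsg.Agent.Lib.Helper2.Bsw2A

set_option autoImplicit false

/-!
# Involutory automorphisms inverting few elements of odd order (part E: small normal closures)

A finite group generated by `t` elements, each of order dividing `e` and with at most `b`
conjugates, has order at most `e ^ t * schurB (b ^ t)`.  In particular the normal closure of an
element `v` with `v ^ e = 1` and at most `c` conjugates has bounded order.
-/

namespace Cfsg.Agent.Lib.Helper6.Inv

universe u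

variable {G : Type u} [Group G]

theorem index_centralizer_conj (g v : G) :
    (Subgroup.centralizer {g * v * g⁻¹}).index = (Subgroup.centralizer {v}).index := by
  have h : Subgroup.centralizer {g * v * g⁻¹}
      = (Subgroup.centralizer {v}).comap (MulAut.conj g⁻¹).toMonoidHom := by
    ext x
    rw [Subgroup.mem_comap, Subgroup.mem_centralizer_singleton_iff,
      Subgroup.mem_centralizer_singleton_iff]
    simp only [MulEquiv.coe_toMonoidHom, MulAut.conj_apply, inv_inv]
    constructor
    · intro hx
      calc g⁻¹ * x * g * v = g⁻¹ * (x * (g * v * g⁻¹)) * g := by group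
        _ = g⁻¹ * ((g * v * g⁻¹) * x) * g := by rw [hx]
        _ = v * (g⁻¹ * x * g) := by group
    · intro hx
      calc x * (g * v * g⁻¹) = g * ((g⁻¹ * x * g) * v) * g⁻¹ := by group
        _ = g * (v * (g⁻¹ * x * g)) * g⁻¹ := by rw [hx]
        _ = g * v * g⁻¹ * x := by group
  rw [h]
  exact Subgroup.index_comap_of_surjective _ (MulAut.conj g⁻¹).surjective

theorem index_center_le_of_generators {H : Type*} [Group H] [Finite H] (T : Finset H)
    (hT : Subgroup.closure (T : Set H) = ⊤) (b : ℕ)
    (hb : ∀ t ∈ T, (Subgroup.centralizer {t}).index ≤ b) :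
    (Subgroup.center H).index ≤ b ^ T.card := by
  classical
  have h1 : (⨅ t : T, Subgroup.centralizer {(t : H)}) ≤ Subgroup.center H := by
    intro g hg
    rw [Subgroup.mem_iInf] at hg
    have h2 : Subgroup.closure (T : Set H) ≤ Subgroup.centralizer {g} := by
      rw [Subgroup.closure_le]
      intro t ht
      have h3 := hg ⟨t, ht⟩
      rw [Subgroup.mem_centralizer_singleton_iff] at h3
      rw [SetLike.mem_coe, Subgroup.mem_centralizer_singleton_iff]
      exact h3.symm
    rw [hT] at h2
    rw [Subgroup.mem_center_iff]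
    intro x
    have h3 := h2 (Subgroup.mem_top x)
    rw [Subgroup.mem_centralizer_singleton_iff] at h3
    exact h3
  calc (Subgroup.center H).index ≤ (⨅ t : T, Subgroup.centralizer {(t : H)}).index :=
        Subgroup.index_antitone h1
    _ ≤ ∏ t : T, (Subgroup.centralizer {(t : H)}).index := Subgroup.index_iInf_le _
    _ ≤ ∏ _t : T, b :=
        Finset.prod_le_prod (fun _ _ => Nat.zero_le _) (fun t _ => hb t.1 t.2)
    _ = b ^ T.card := by rw [Finset.prod_const, Finset.card_univ, Fintype.card_coe]

theorem card_abelianization_le_of_generators {H : Type*} [Group H] [Finite H] (T : Finset H)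
    (hT : Subgroup.closure (T : Set H) = ⊤) (e : ℕ) (he : ∀ t ∈ T, t ^ e = 1) (he0 : 0 < e) :
    Nat.card (Abelianization H) ≤ e ^ T.card := by
  classical
  obtain ⟨T', hT'⟩ : ∃ T' : Finset (Abelianization H),
      T' = T.image (Abelianization.of : H →* Abelianization H) := ⟨_, rfl⟩
  have hgen : Subgroup.closure (T' : Set (Abelianization H)) = ⊤ := by
    rw [hT', Finset.coe_image, ← MonoidHom.map_closure, hT,
      Subgroup.map_top_of_surjective _ (QuotientGroup.mk_surjective)]
  have hexp : ∀ a : Abelianization H, a ^ e = 1 := by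
    intro a
    have hle : Subgroup.closure (T' : Set (Abelianization H))
        ≤ (powMonoidHom e : Abelianization H →* Abelianization H).ker := by
      rw [Subgroup.closure_le]
      intro a ha
      rw [hT'] at ha
      obtain ⟨t, ht, rfl⟩ := Finset.mem_image.mp (Finset.mem_coe.mp ha)
      rw [SetLike.mem_coe, MonoidHom.mem_ker, powMonoidHom_apply, ← map_pow, he t ht, map_one]
    rw [hgen] at hle
    have h2 := hle (Subgroup.mem_top a)
    rwa [MonoidHom.mem_ker, powMonoidHom_apply] at h2
  have hrank : Group.rank (Abelianization H) ≤ T'.card := Group.rank_le hgen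
  have hdvd := card_dvd_exponent_pow_rank' (Abelianization H) hexp
  calc Nat.card (Abelianization H) ≤ e ^ Group.rank (Abelianization H) :=
        Nat.le_of_dvd (pow_pos he0 _) hdvd
    _ ≤ e ^ T.card :=
        Nat.pow_le_pow_right he0 (hrank.trans (by rw [hT']; exact Finset.card_image_le))

theorem card_le_of_generators {H : Type*} [Group H] [Finite H] (T : Finset H)
    (hT : Subgroup.closure (T : Set H) = ⊤) (b e : ℕ)
    (hb : ∀ t ∈ T, (Subgroup.centralizer {t}).index ≤ b) (he : ∀ t ∈ T, t ^ e = 1)
    (he0 : 0 < e) : Nat.card H ≤ e ^ T.card * schurB (b ^ T.card) := by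
  rw [← Subgroup.card_mul_index (commutator H), mul_comm]
  refine Nat.mul_le_mul (card_abelianization_le_of_generators T hT e he he0) ?_
  refine le_trans card_commutator_le
    (schurB_mono ?_ (index_center_le_of_generators T hT b hb))
  exact Nat.one_le_iff_ne_zero.mpr Subgroup.FiniteIndex.index_ne_zero

theorem card_normalClosure_le [Finite G] (v : G) (c e : ℕ)
    (hc : (Subgroup.centralizer {v}).index ≤ c) (he : v ^ e = 1) (he0 : 0 < e) :
    Nat.card (Subgroup.normalClosure {v}) ≤ e ^ c * schurB (c ^ c) := by
  classical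
  haveI : Fintype G := Fintype.ofFinite G
  obtain ⟨K, hK⟩ : ∃ K : Finset G, K = Finset.univ.image (fun g : G => g * v * g⁻¹) :=
    ⟨_, rfl⟩
  have hKmem : ∀ x, x ∈ K ↔ ∃ g, g * v * g⁻¹ = x := by intro x; rw [hK]; simp
  have hset : Group.conjugatesOfSet ({v} : Set G) = (K : Set G) := by
    ext x
    rw [Group.mem_conjugatesOfSet_iff, Finset.mem_coe, hKmem]
    constructor
    · rintro ⟨a, ha, hax⟩
      rw [Set.mem_singleton_iff] at ha
      subst ha
      exact isConj_iff.mp hax
    · rintro ⟨g, hg⟩
      exact ⟨v, Set.mem_singleton v, isConj_iff.mpr ⟨g, hg⟩⟩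
  have hc1 : 1 ≤ c :=
    le_trans (Nat.one_le_iff_ne_zero.mpr Subgroup.FiniteIndex.index_ne_zero) hc
  have hKcard : K.card ≤ c := by
    have h1 := Cfsg.Agent.Lib.Helper2.Bsw2.card_conj_mul_card_centralizer v
    have h2 := Subgroup.card_mul_index (Subgroup.centralizer ({v} : Set G))
    have h3 : Nat.card {x : G // ∃ g : G, g * v * g⁻¹ = x} = K.card := by
      rw [← Nat.card_eq_finsetCard]
      exact Nat.card_congr (Equiv.subtypeEquivRight (fun x => (hKmem x).symm))
    have h4 : 0 < Nat.card (Subgroup.centralizer ({v} : Set G)) := Nat.card_pos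
    have h5 : K.card = (Subgroup.centralizer ({v} : Set G)).index := by
      rw [h3] at h1
      rw [← h2, mul_comm] at h1
      exact Nat.eq_of_mul_eq_mul_left h4 h1
    rw [h5]; exact hc
  show Nat.card (Subgroup.closure (Group.conjugatesOfSet ({v} : Set G))) ≤ _
  rw [hset]
  obtain ⟨T, hTdef⟩ : ∃ T : Finset (Subgroup.closure (K : Set G)),
      T = K.subtype (fun x => x ∈ Subgroup.closure (K : Set G)) := ⟨_, rfl⟩
  have hTcoe : (T : Set (Subgroup.closure (K : Set G)))
      = (Subgroup.closure (K : Set G)).subtype ⁻¹' (K : Set G) := by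
    ext x
    rw [hTdef]
    simp [Finset.mem_subtype]
  have hT : Subgroup.closure (T : Set (Subgroup.closure (K : Set G))) = ⊤ := by
    rw [hTcoe]; exact Subgroup.closure_preimage_eq_top _
  have hTcard : T.card ≤ c := by
    rw [hTdef, Finset.card_subtype]
    exact (Finset.card_filter_le _ _).trans hKcard
  have hTK : ∀ t ∈ T, ((t : Subgroup.closure (K : Set G)) : G) ∈ K := by
    intro t ht
    rw [hTdef, Finset.mem_subtype] at ht
    exact ht
  have hb : ∀ t ∈ T, (Subgroup.centralizer {t}).index ≤ c := by
    intro t ht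
    obtain ⟨g, hg⟩ := (hKmem _).mp (hTK t ht)
    have h1 : Subgroup.centralizer {t}
        = (Subgroup.centralizer {(t : G)}).subgroupOf (Subgroup.closure (K : Set G)) := by
      ext x
      rw [Subgroup.mem_subgroupOf, Subgroup.mem_centralizer_singleton_iff,
        Subgroup.mem_centralizer_singleton_iff, Subtype.ext_iff]
      rfl
    rw [h1]
    have h2 : (Subgroup.centralizer {(t : G)}).relIndex (Subgroup.closure (K : Set G))
        ≤ (Subgroup.centralizer {(t : G)}).relIndex ⊤ :=
      Subgroup.relIndex_le_of_le_right le_top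
        (by rw [Subgroup.relIndex_top_right]; exact Subgroup.FiniteIndex.index_ne_zero)
    rw [Subgroup.relIndex_top_right] at h2
    refine le_trans h2 ?_
    rw [← hg, index_centralizer_conj]
    exact hc
  have hee : ∀ t ∈ T, t ^ e = 1 := by
    intro t ht
    obtain ⟨g, hg⟩ := (hKmem _).mp (hTK t ht)
    apply Subtype.ext
    rw [Subgroup.coe_pow, ← hg, conj_pow, he]
    simp
  refine le_trans (card_le_of_generators T hT c e hb hee he0) ?_
  refine Nat.mul_le_mul (Nat.pow_le_pow_right he0 hTcard) (schurB_mono ?_ ?_)
  · exact Nat.one_le_pow _ _ hc1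
  · exact Nat.pow_le_pow_right hc1 hTcard

end Cfsg.Agent.Lib.Helper6.Inv
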