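import Mathlib
import Cfsg.Agent.Lib.Helper6.InvC
import Cfsg.Agent.Lib.Helper6.InvD
import Cfsg.Agent.Lib.Helper6.InvE
import Cfsg.Agent.Lib.Helper6.InvF

set_option autoImplicit false

/-!
# Involutory automorphisms inverting few elements of odd order (part G: the core case)

An admissible nontrivial group with trivial centre and `O_2(G) = 1` has a bounded normal subgroup
meeting `invSet α` nontrivially, so its order is bounded through the quotient.
-/

namespace Cfsg.Agent.Lib.Helper6.Inv

universe u

variable {G : Type u} [Group G]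

theorem normalClosure_invariant {α : MulAut G} {v : G}
    (hv : α v ∈ Subgroup.normalClosure ({v} : Set G)) :
    ∀ n ∈ Subgroup.normalClosure ({v} : Set G),
      α n ∈ Subgroup.normalClosure ({v} : Set G) := by
  have hle : Subgroup.normalClosure ({v} : Set G)
      ≤ (Subgroup.normalClosure ({v} : Set G)).comap (α : G ≃* G).toMonoidHom := by
    apply Subgroup.normalClosure_le_normal
    intro x hx
    rw [Set.mem_singleton_iff] at hx
    rw [hx]
    exact hv
  intro n hn
  exact hle hn

theorem card_le_of_small_class [Finite G] {α : MulAut G} (hA : Adm α) (m F : ℕ)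
    (hm : mInv α ≤ m)
    (IH : ∀ (H : Type u) [Group H] [Finite H] (β : MulAut H), Adm β → mInv β < m →
      Nat.card H ≤ F)
    (v : G) (e : ℕ) (hv : α v ∈ Subgroup.normalClosure ({v} : Set G))
    (hidx : (Subgroup.centralizer {v}).index ≤ cZero m) (he : v ^ e = 1) (he0 : 0 < e)
    (hem : e ≤ m)
    (hx : ∃ x ∈ invSet α, x ≠ 1 ∧ x ∈ Subgroup.normalClosure ({v} : Set G)) :
    Nat.card G ≤ coreB m F := by
  obtain ⟨x, hxI, hx1, hxN⟩ := hx
  have hNinv := normalClosure_invariant hv
  have h1 : Nat.card (Subgroup.normalClosure ({v} : Set G))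
      ≤ e ^ cZero m * schurB (cZero m ^ cZero m) :=
    card_normalClosure_le v (cZero m) e hidx he he0
  have h2 : Nat.card (G ⧸ Subgroup.normalClosure ({v} : Set G)) ≤ F :=
    IH _ (quotAut α hA.sq _ hNinv) (adm_quot hA _ hNinv)
      (lt_of_lt_of_le (mInv_quot_lt hA.sq _ hNinv hxI hx1 hxN) hm)
  calc Nat.card G = Nat.card (G ⧸ Subgroup.normalClosure ({v} : Set G))
        * Nat.card (Subgroup.normalClosure ({v} : Set G)) :=
        Subgroup.card_eq_card_quotient_mul_card_subgroup _
    _ ≤ F * (m ^ cZero m * schurB (cZero m ^ cZero m)) :=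
        Nat.mul_le_mul h2 (le_trans h1 (Nat.mul_le_mul_right _ (Nat.pow_le_pow_left hem _)))
    _ = coreB m F := by unfold coreB; ring

theorem card_le_coreB [Finite G] [Nontrivial G] {α : MulAut G} (hA : Adm α)
    (hZ : Subgroup.center G = ⊥) (hO : Cfsg.pCore 2 G = ⊥) (m F : ℕ) (hm : mInv α ≤ m)
    (IH : ∀ (H : Type u) [Group H] [Finite H] (β : MulAut H), Adm β → mInv β < m →
      Nat.card H ≤ F) :
    Nat.card G ≤ coreB m F := by
  have hm2 : 2 ≤ m := le_trans (two_le_mInv hA) hm
  have hfix : Nat.card (fixSub α) ≤ m.factorial := by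
    refine le_trans (card_fixSub_le hA ?_) (Nat.factorial_le hm)
    intro g _ hg
    rw [hZ] at hg
    exact Subgroup.mem_bot.mp hg
  have hne : ∃ g, α g ≠ g := by
    obtain ⟨x, hxI, hx1⟩ := exists_ne_one hA
    refine ⟨x, fun h => hx1 ?_⟩
    have h2 : x * x = 1 := mul_eq_one_iff_eq_inv.mpr (h.symm.trans hxI.2)
    exact eq_one_of_mul_self_of_odd h2 hxI.1
  obtain ⟨y, hy1, hyinv, hyidx⟩ := exists_small_class hA.sq hne
  have hyidx' : (Subgroup.centralizer {y}).index ≤ cZero m := by
    unfold cZero
    have h3 : Nat.card (fixSub α) ^ 2 ≤ m.factorial ^ 2 := Nat.pow_le_pow_left hfix 2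
    omega
  have hxI : y ^ (2 ^ Nat.card G) ∈ invSet α := pow_two_pow_mem_invSet hyinv
  by_cases hx1 : y ^ (2 ^ Nat.card G) = 1
  · -- `y` is a nontrivial `2`-element
    obtain ⟨j, -, hj⟩ := (Nat.dvd_prime_pow Nat.prime_two).mp (orderOf_dvd_of_pow_eq_one hx1)
    have hj0 : j ≠ 0 := by
      intro h
      rw [h, pow_zero, orderOf_eq_one_iff] at hj
      exact hy1 hj
    obtain ⟨i, rfl⟩ := Nat.exists_eq_succ_of_ne_zero hj0
    obtain ⟨z, hz⟩ : ∃ z, z = y ^ (2 ^ i) := ⟨_, rfl⟩
    have hz1 : z ≠ 1 := by
      rw [hz]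
      apply pow_ne_one_of_lt_orderOf (by positivity)
      rw [hj]
      exact Nat.pow_lt_pow_right (by norm_num) (Nat.lt_succ_self i)
    have hzz : z * z = 1 := by
      rw [hz, ← pow_add, ← two_mul, ← pow_succ', ← hj, pow_orderOf_eq_one]
    have hzinv : z⁻¹ = z := inv_eq_of_mul_eq_one_left hzz
    have hαz : α z = z := by
      rw [hz, pow_inverted hyinv, ← hz, hzinv]
    have hcent : Subgroup.centralizer {y} ≤ Subgroup.centralizer {z} := by
      intro g hg
      rw [Subgroup.mem_centralizer_singleton_iff] at hg ⊢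
      rw [hz]
      exact ((Commute.pow_right (show Commute g y from hg) _)).eq
    have hidx : (Subgroup.centralizer {z}).index ≤ cZero m :=
      le_trans (Subgroup.index_antitone hcent) hyidx'
    have hzN : z ∈ Subgroup.normalClosure ({z} : Set G) :=
      Subgroup.subset_normalClosure (Set.mem_singleton z)
    have hv : α z ∈ Subgroup.normalClosure ({z} : Set G) := by rw [hαz]; exact hzN
    have hNinv := normalClosure_invariant hv
    have hex : ∃ x ∈ invSet α, x ≠ 1 ∧ x ∈ Subgroup.normalClosure ({z} : Set G) := by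
      by_contra hcon
      push Not at hcon
      have hI : ∀ x ∈ invSet α, x ∈ Subgroup.normalClosure ({z} : Set G) → x = 1 := by
        intro x hx hxN
        by_contra hne1
        exact hcon x hx hne1 hxN
      have hfixN : ∀ n ∈ Subgroup.normalClosure ({z} : Set G), α n = n := by
        intro n hn
        have h3 := cm_mem_pCore hA.sq _ hNinv hI n hn
        rw [hO, Subgroup.mem_bot, inv_mul_eq_one] at h3
        exact h3.symm
      have hzc : z ∈ Subgroup.center G := by
        apply mem_center_of_commute hA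
        intro x hx
        have hconj : x * z * x⁻¹ ∈ Subgroup.normalClosure ({z} : Set G) :=
          (Subgroup.normalClosure_normal).conj_mem _ hzN x
        have h4 := hfixN _ hconj
        rw [map_mul, map_mul, map_inv, hx.2, hαz, inv_inv] at h4
        have h5 : Commute (x ^ 2) z := by
          rw [pow_two]
          show x * x * z = z * (x * x)
          calc x * x * z = x * (x * z * x⁻¹) * x := by group
            _ = x * (x⁻¹ * z * x) * x := by rw [h4]
            _ = z * (x * x) := by group
        obtain ⟨k, hk⟩ := exists_pow_eq_self_of_coprime (x := x) (n := 2)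
          (Nat.coprime_two_left.mpr hx.1)
        have h6 : Commute x z := by
          rw [← hk]; exact h5.pow_left k
        exact h6.eq
      rw [hZ] at hzc
      exact hz1 (Subgroup.mem_bot.mp hzc)
    exact card_le_of_small_class hA m F hm IH z 2 hv hidx (by rw [pow_two]; exact hzz)
      (by norm_num) hm2 hex
  · -- the odd part of `y` is nontrivial
    obtain ⟨x, hx⟩ : ∃ x, x = y ^ (2 ^ Nat.card G) := ⟨_, rfl⟩
    rw [← hx] at hxI hx1
    have hcent : Subgroup.centralizer {y} ≤ Subgroup.centralizer {x} := by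
      intro g hg
      rw [Subgroup.mem_centralizer_singleton_iff] at hg ⊢
      rw [hx]
      exact ((Commute.pow_right (show Commute g y from hg) _)).eq
    have hidx : (Subgroup.centralizer {x}).index ≤ cZero m :=
      le_trans (Subgroup.index_antitone hcent) hyidx'
    have hxN : x ∈ Subgroup.normalClosure ({x} : Set G) :=
      Subgroup.subset_normalClosure (Set.mem_singleton x)
    refine card_le_of_small_class hA m F hm IH x (orderOf x) ?_ hidx (pow_orderOf_eq_one x)
      (orderOf_pos x) (le_trans (orderOf_le_mInv hxI) hm) ⟨x, hxI, hx1, hxN⟩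
    rw [hxI.2]; exact Subgroup.inv_mem _ hxN

end Cfsg.Agent.Lib.Helper6.Inv
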