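import Mathlib
import Cfsg.Agent.Lib.Helper6.InvG

set_option autoImplicit false

/-!
# Involutory automorphisms inverting few elements of odd order (part H: the case `O_2(G) = 1`)

If `O_2(G) = 1` the index of the centre is bounded: either the centre is trivial (core case), or
`invSet α` meets the centre, or `α` centralizes the centre and then the centre of `G ⧸ Z(G)` is
inverted by the induced automorphism.
-/

namespace Cfsg.Agent.Lib.Helper6.Inv

universe u

variable {G : Type u} [Group G]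

theorem fixed_central_quot_eq_one [Finite G] {α : MulAut G} (hA : Adm α)
    (hodd : ∀ z ∈ Subgroup.center G, Odd (orderOf z))
    (hfixZ : ∀ z ∈ Subgroup.center G, α z = z)
    (hZinv : ∀ n ∈ Subgroup.center G, α n ∈ Subgroup.center G)
    (b : G ⧸ Subgroup.center G) (hb : b ∈ Subgroup.center (G ⧸ Subgroup.center G))
    (hfix : quotAut α hA.sq (Subgroup.center G) hZinv b = b) : b = 1 := by
  obtain ⟨y, rfl⟩ := QuotientGroup.mk_surjective b
  rw [quotAut_mk] at hfix
  have h1 : y⁻¹ * α y ∈ Subgroup.center G := QuotientGroup.eq.mp hfix.symm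
  have hαy : α y = y := by
    obtain ⟨z₁, hz₁⟩ : ∃ z₁, z₁ = y⁻¹ * α y := ⟨_, rfl⟩
    rw [← hz₁] at h1
    have h2 : α y = y * z₁ := by rw [hz₁]; group
    have h3 : α (α y) = y := hA.sq y
    rw [h2, map_mul, h2, hfixZ z₁ h1] at h3
    have h4 : z₁ * z₁ = 1 := by
      have h5 := congrArg (fun w => y⁻¹ * w) h3
      simpa [mul_assoc] using h5
    have h5 := eq_one_of_mul_self_of_odd h4 (hodd z₁ h1)
    rw [h2, h5, mul_one]
  rw [QuotientGroup.eq_one_iff]
  apply mem_center_of_commute hA
  intro x hx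
  have hc : (x * y)⁻¹ * (y * x) ∈ Subgroup.center G := by
    rw [Subgroup.mem_center_iff] at hb
    have h2 := hb (QuotientGroup.mk x)
    rw [← QuotientGroup.mk_mul, ← QuotientGroup.mk_mul] at h2
    exact QuotientGroup.eq.mp h2
  obtain ⟨c, hcdef⟩ : ∃ c, c = (x * y)⁻¹ * (y * x) := ⟨_, rfl⟩
  rw [← hcdef] at hc
  have hαc : α c = c⁻¹ := by
    have hcc : x * c * x⁻¹ = c := by
      rw [Subgroup.mem_center_iff] at hc
      rw [hc x, mul_inv_cancel_right]
    calc α c = α ((x * y)⁻¹ * (y * x)) := by rw [hcdef]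
      _ = (x⁻¹ * y)⁻¹ * (y * x⁻¹) := by
          rw [map_mul, map_inv, map_mul, map_mul, hαy, hx.2]
      _ = (x * ((x * y)⁻¹ * (y * x)) * x⁻¹)⁻¹ := by group
      _ = c⁻¹ := by rw [← hcdef, hcc]
  have h6 : c * c = 1 := mul_eq_one_iff_eq_inv.mpr ((hfixZ c hc).symm.trans hαc)
  have h7 : c = 1 := eq_one_of_mul_self_of_odd h6 (hodd c hc)
  rw [hcdef, inv_mul_eq_one] at h7
  exact h7

theorem center_quot_subset_invSet [Finite G] {α : MulAut G} (hA : Adm α)
    (hodd : ∀ z ∈ Subgroup.center G, Odd (orderOf z))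
    (hfixZ : ∀ z ∈ Subgroup.center G, α z = z)
    (hZinv : ∀ n ∈ Subgroup.center G, α n ∈ Subgroup.center G)
    (b : G ⧸ Subgroup.center G) (hb : b ∈ Subgroup.center (G ⧸ Subgroup.center G)) :
    b ∈ invSet (quotAut α hA.sq (Subgroup.center G) hZinv) := by
  obtain ⟨β, hβ⟩ : ∃ β, β = quotAut α hA.sq (Subgroup.center G) hZinv := ⟨_, rfl⟩
  rw [← hβ]
  have hβsq : ∀ g, β (β g) = g := by rw [hβ]; exact (adm_quot hA _ hZinv).sq
  have hβc : ∀ b' ∈ Subgroup.center (G ⧸ Subgroup.center G),
      β b' ∈ Subgroup.center (G ⧸ Subgroup.center G) := char_invariant _ β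
  have hfix1 : ∀ b' ∈ Subgroup.center (G ⧸ Subgroup.center G), β b' = b' → b' = 1 := by
    intro b' hb' h
    rw [hβ] at h
    exact fixed_central_quot_eq_one hA hodd hfixZ hZinv b' hb' h
  have hinv : ∀ b' ∈ Subgroup.center (G ⧸ Subgroup.center G), β b' = b'⁻¹ := by
    intro b' hb'
    have hmem : b' * β b' ∈ Subgroup.center (G ⧸ Subgroup.center G) :=
      Subgroup.mul_mem _ hb' (hβc b' hb')
    have hfx : β (b' * β b') = b' * β b' := by
      rw [map_mul, hβsq]
      exact (Subgroup.mem_center_iff.mp hb' (β b'))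
    have h2 := hfix1 _ hmem hfx
    exact eq_inv_of_mul_eq_one_right h2
  refine ⟨?_, hinv b hb⟩
  by_contra hodd'
  rw [Nat.not_odd_iff_even] at hodd'
  obtain ⟨k, hk⟩ := hodd'
  have hpos : 0 < orderOf b := orderOf_pos b
  have hk0 : 0 < k := by omega
  have ht1 : b ^ k ≠ 1 := by
    intro h
    have h3 := Nat.le_of_dvd hk0 (orderOf_dvd_of_pow_eq_one h)
    omega
  have htc : b ^ k ∈ Subgroup.center (G ⧸ Subgroup.center G) := Subgroup.pow_mem _ hb k
  have htt : b ^ k * b ^ k = 1 := by rw [← pow_add, ← hk, pow_orderOf_eq_one]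
  apply ht1
  apply hfix1 _ htc
  rw [hinv _ htc]
  exact inv_eq_of_mul_eq_one_left htt

theorem card_le_oddB [Finite G] {α : MulAut G} (hA : Adm α) (hO : Cfsg.pCore 2 G = ⊥)
    (m F : ℕ) (hF : 1 ≤ F) (hm : mInv α ≤ m)
    (IH : ∀ (H : Type u) [Group H] [Finite H] (β : MulAut H), Adm β → mInv β < m →
      Nat.card H ≤ F) :
    Nat.card G ≤ oddB m F := by
  have hm1 : 1 ≤ m := le_trans (mInv_pos α) hm
  obtain ⟨X, hX⟩ : ∃ X, X = coreB m F + m * schurB F := ⟨_, rfl⟩
  have hcoreX : coreB m F ≤ X := by rw [hX]; exact Nat.le_add_right _ _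
  have hmsX : m * schurB F ≤ X := by rw [hX]; exact Nat.le_add_left _ _
  have hFX : F ≤ X :=
    le_trans (le_trans (le_schurB hF) (Nat.le_mul_of_pos_left _ hm1)) hmsX
  have h1core : 1 ≤ coreB m F := one_le_coreB hm1 hF
  suffices hidx : (Subgroup.center G).index ≤ X by
    have h1 : 1 ≤ (Subgroup.center G).index :=
      Nat.one_le_iff_ne_zero.mpr Subgroup.FiniteIndex.index_ne_zero
    calc Nat.card G ≤ mInv α * schurB (Subgroup.center G).index := card_le_mul_schurB hA
      _ ≤ m * schurB X := Nat.mul_le_mul hm (schurB_mono h1 hidx)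
      _ = oddB m F := by unfold oddB; rw [hX]
  have hZinv : ∀ n ∈ Subgroup.center G, α n ∈ Subgroup.center G := char_invariant _ α
  have hodd : ∀ z ∈ Subgroup.center G, Odd (orderOf z) :=
    fun z hz => odd_orderOf_of_mem_center hO hz
  by_cases hZ : Subgroup.center G = ⊥
  · rw [hZ, Subgroup.index_bot]
    rcases subsingleton_or_nontrivial G with hs | hn
    · rw [Nat.card_of_subsingleton (1 : G)]
      exact le_trans h1core hcoreX
    · exact le_trans (card_le_coreB hA hZ hO m F hm IH) hcoreX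
  · by_cases hIZ : ∃ x ∈ invSet α, x ≠ 1 ∧ x ∈ Subgroup.center G
    · obtain ⟨x, hxI, hx1, hxZ⟩ := hIZ
      have h2 : Nat.card (G ⧸ Subgroup.center G) ≤ F :=
        IH _ (quotAut α hA.sq _ hZinv) (adm_quot hA _ hZinv)
          (lt_of_lt_of_le (mInv_quot_lt hA.sq _ hZinv hxI hx1 hxZ) hm)
      exact le_trans h2 hFX
    · push Not at hIZ
      have hfixZ : ∀ z ∈ Subgroup.center G, α z = z := by
        intro z hz
        have hw : z * (α z)⁻¹ ∈ Subgroup.center G :=
          Subgroup.mul_mem _ hz (Subgroup.inv_mem _ (hZinv z hz))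
        have hwI : z * (α z)⁻¹ ∈ invSet α := ⟨hodd _ hw, cm_inverted hA.sq z⟩
        by_contra hne
        apply hIZ _ hwI _ hw
        intro h
        apply hne
        exact (mul_inv_eq_one.mp h).symm
      obtain ⟨β, hβ⟩ : ∃ β, β = quotAut α hA.sq (Subgroup.center G) hZinv := ⟨_, rfl⟩
      have hAβ : Adm β := by rw [hβ]; exact adm_quot hA _ hZinv
      have hmβ : mInv β ≤ m := by rw [hβ]; exact le_trans (mInv_quot_le hA.sq _ hZinv) hm
      show Nat.card (G ⧸ Subgroup.center G) ≤ X
      by_cases hB : Subgroup.center (G ⧸ Subgroup.center G) = ⊥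
      · have hOq : Cfsg.pCore 2 (G ⧸ Subgroup.center G) = ⊥ :=
          pCore_quotient_central_eq_bot 2 (Subgroup.center G) le_rfl hO
        rcases subsingleton_or_nontrivial (G ⧸ Subgroup.center G) with hs | hn
        · rw [Nat.card_of_subsingleton (1 : G ⧸ Subgroup.center G)]
          exact le_trans h1core hcoreX
        · exact le_trans (card_le_coreB hAβ hB hOq m F hmβ IH) hcoreX
      · obtain ⟨b, hb, hb1⟩ : ∃ b ∈ Subgroup.center (G ⧸ Subgroup.center G), b ≠ 1 := by
          by_contra hcon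
          push Not at hcon
          apply hB
          rw [eq_bot_iff]
          intro b hb
          exact Subgroup.mem_bot.mpr (hcon b hb)
        have hbI : b ∈ invSet β := by
          rw [hβ]; exact center_quot_subset_invSet hA hodd hfixZ hZinv b hb
        have hZqinv : ∀ n ∈ Subgroup.center (G ⧸ Subgroup.center G),
            β n ∈ Subgroup.center (G ⧸ Subgroup.center G) := char_invariant _ β
        have h2 : Nat.card ((G ⧸ Subgroup.center G) ⧸ Subgroup.center (G ⧸ Subgroup.center G))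
            ≤ F :=
          IH _ (quotAut β hAβ.sq _ hZqinv) (adm_quot hAβ _ hZqinv)
            (lt_of_lt_of_le (mInv_quot_lt hAβ.sq _ hZqinv hbI hb1 hb) hmβ)
        have h3 : 1 ≤ (Subgroup.center (G ⧸ Subgroup.center G)).index :=
          Nat.one_le_iff_ne_zero.mpr Subgroup.FiniteIndex.index_ne_zero
        calc Nat.card (G ⧸ Subgroup.center G)
            ≤ mInv β * schurB (Subgroup.center (G ⧸ Subgroup.center G)).index :=
              card_le_mul_schurB hAβ
          _ ≤ m * schurB F := Nat.mul_le_mul hmβ (schurB_mono h3 h2)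
          _ ≤ X := hmsX

end Cfsg.Agent.Lib.Helper6.Inv
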