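import Mathlib
import Cfsg.Agent.Lib.Helper6.InvH
import Cfsg.Agent.Lib.Helper7.InvM4b

set_option autoImplicit false

/-!
# Involutory automorphisms inverting few elements of odd order (part I: general case, induction)

`|O_2(G) : O_2(G) ∩ Z(G)|` is bounded through the `2`-group lemma, `G ⧸ O_2(G)` through the case
`O_2 = 1`, hence `|G : Z(G)|` and `|G|`.  The final bound `fB` is defined by recursion on the number
of inverted elements of odd order.
-/

namespace Cfsg.Agent.Lib.Helper6.Inv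

universe u

variable {G : Type u} [Group G]

theorem relIndex_center_pCore_le [Finite G] {α : MulAut G} (hA : Adm α) :
    (Subgroup.center G).relIndex (Cfsg.pCore 2 G) ≤ ((mInv α) ^ 2) ^ (mInv α) := by
  classical
  have hP2 : IsPGroup 2 (Cfsg.pCore 2 G) := Cfsg.Agent.Lib.Helper7.pCore_isPGroup 2 G
  have hPa : ∀ r ∈ Cfsg.pCore 2 G, α r ∈ Cfsg.pCore 2 G := char_invariant _ α
  haveI : Fintype (invSet α) := Fintype.ofFinite _
  have h1 : (⨅ x : invSet α, Subgroup.centralizer {(x : G)}) ≤ Subgroup.center G := by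
    intro g hg
    rw [Subgroup.mem_iInf] at hg
    apply mem_center_of_commute hA
    intro x hx
    have h2 := hg ⟨x, hx⟩
    rw [Subgroup.mem_centralizer_singleton_iff] at h2
    exact h2.symm
  have hne : ∀ H : Subgroup G, H.relIndex (Cfsg.pCore 2 G) ≠ 0 :=
    fun H => Subgroup.FiniteIndex.index_ne_zero
  have h2 : (Subgroup.center G).relIndex (Cfsg.pCore 2 G)
      ≤ (⨅ x : invSet α, Subgroup.centralizer {(x : G)}).relIndex (Cfsg.pCore 2 G) :=
    Subgroup.relIndex_le_of_le_left h1 (hne _)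
  have h3 := Subgroup.relIndex_iInf_le (L := Cfsg.pCore 2 G)
    (fun x : invSet α => Subgroup.centralizer {(x : G)})
  have h4 : ∀ x : invSet α,
      (Subgroup.centralizer {(x : G)}).relIndex (Cfsg.pCore 2 G) ≤ (mInv α) ^ 2 := by
    intro x
    have h5 : (Subgroup.centralizer {(x : G)}).relIndex (Cfsg.pCore 2 G) ≤ _ :=
      Cfsg.Agent.Lib.Helper7.InvM4.index_centralizer_le_sq α hA.sq (Cfsg.pCore 2 G) hP2 hPa
        x.1 x.2
    refine le_trans h5 (Nat.pow_le_pow_left ?_ 2)
    unfold mInv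
    exact Nat.card_le_card_of_injective
      (fun y : {y : G // y ∈ invSet α ∧ ∃ r ∈ Cfsg.pCore 2 G, y = r⁻¹ * x.1 * r} =>
        (⟨y.1, y.2.1⟩ : invSet α)) (by
      intro a b hab
      have h6 : (a : G) = (b : G) := congrArg (fun w : invSet α => (w : G)) hab
      exact Subtype.ext h6)
  calc (Subgroup.center G).relIndex (Cfsg.pCore 2 G)
      ≤ (⨅ x : invSet α, Subgroup.centralizer {(x : G)}).relIndex (Cfsg.pCore 2 G) := h2
    _ ≤ ∏ x : invSet α, (Subgroup.centralizer {(x : G)}).relIndex (Cfsg.pCore 2 G) := h3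
    _ ≤ ∏ _x : invSet α, (mInv α) ^ 2 :=
        Finset.prod_le_prod (fun _ _ => Nat.zero_le _) (fun x _ => h4 x)
    _ = ((mInv α) ^ 2) ^ (mInv α) := by
        rw [Finset.prod_const, Finset.card_univ]
        congr 1
        unfold mInv
        rw [Nat.card_eq_fintype_card]

theorem card_le_genB [Finite G] {α : MulAut G} (hA : Adm α) (m F : ℕ) (hF : 1 ≤ F)
    (hm : mInv α ≤ m)
    (IH : ∀ (H : Type u) [Group H] [Finite H] (β : MulAut H), Adm β → mInv β < m →
      Nat.card H ≤ F) :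
    Nat.card G ≤ genB m F := by
  have hm1 : 1 ≤ m := le_trans (mInv_pos α) hm
  have hPa : ∀ r ∈ Cfsg.pCore 2 G, α r ∈ Cfsg.pCore 2 G := char_invariant _ α
  have hOq : Cfsg.pCore 2 (G ⧸ Cfsg.pCore 2 G) = ⊥ := pCore_quot_self_eq_bot 2
  have hq : Nat.card (G ⧸ Cfsg.pCore 2 G) ≤ oddB m F :=
    card_le_oddB (adm_quot hA (Cfsg.pCore 2 G) hPa) hOq m F hF
      (le_trans (mInv_quot_le hA.sq (Cfsg.pCore 2 G) hPa) hm) IH
  have hrel : (Subgroup.center G).relIndex (Cfsg.pCore 2 G) ≤ (m ^ 2) ^ m := by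
    refine le_trans (relIndex_center_pCore_le hA) ?_
    calc (mInv α ^ 2) ^ mInv α ≤ (m ^ 2) ^ mInv α :=
          Nat.pow_le_pow_left (Nat.pow_le_pow_left hm 2) _
      _ ≤ (m ^ 2) ^ m := Nat.pow_le_pow_right (Nat.one_le_pow _ _ hm1) hm
  have hidx : (Subgroup.center G).index ≤ (m ^ 2) ^ m * oddB m F := by
    have h1 : (Subgroup.center G).index ≤ (Subgroup.center G ⊓ Cfsg.pCore 2 G).index :=
      Subgroup.index_antitone inf_le_left
    have h2 : (Subgroup.center G ⊓ Cfsg.pCore 2 G).relIndex (Cfsg.pCore 2 G)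
        * (Cfsg.pCore 2 G).index = (Subgroup.center G ⊓ Cfsg.pCore 2 G).index :=
      Subgroup.relIndex_mul_index inf_le_right
    rw [Subgroup.inf_relIndex_right] at h2
    rw [← h2] at h1
    exact le_trans h1 (Nat.mul_le_mul hrel hq)
  have h1 : 1 ≤ (Subgroup.center G).index :=
    Nat.one_le_iff_ne_zero.mpr Subgroup.FiniteIndex.index_ne_zero
  calc Nat.card G ≤ mInv α * schurB (Subgroup.center G).index := card_le_mul_schurB hA
    _ ≤ m * schurB ((m ^ 2) ^ m * oddB m F) := Nat.mul_le_mul hm (schurB_mono h1 hidx)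
    _ = genB m F := rfl

/-- the bounding function -/
def fB : ℕ → ℕ
  | 0 => 1
  | (m + 1) => genB (m + 1) (fB m)

theorem one_le_fB : ∀ m, 1 ≤ fB m
  | 0 => le_refl 1
  | (m + 1) => one_le_genB (Nat.succ_le_succ (Nat.zero_le m)) (one_le_fB m)

theorem card_le_fB (m : ℕ) : ∀ (G : Type u) [Group G] [Finite G] (α : MulAut G),
    Adm α → mInv α ≤ m → Nat.card G ≤ fB m := by
  induction m with
  | zero =>
    intro G _ _ α _ hm
    have := mInv_pos α
    omega
  | succ m ih =>
    intro G _ _ α hA hm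
    exact card_le_genB hA (m + 1) (fB m) (one_le_fB m) hm
      (fun H _ _ β hβ hlt => ih H β hβ (Nat.lt_succ_iff.mp hlt))

end Cfsg.Agent.Lib.Helper6.Inv
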