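import Mathlib
import Cfsg.Prelude.Def_Characters
import Cfsg.Agent.Lib.Helper6.CharBasic
import Cfsg.Agent.Lib.Helper6.Auto
import Cfsg.Agent.Lib.Helper6.GaloisRat

/-! Ito `2p`, steps F and G: the dynamics of `χ (g ^ 2) = F (χ g)`. Part A: elementary
consequences. -/

set_option autoImplicit false
open Cfsg

namespace Cfsg.Agent.Lib.Helper6.ItoDyn

open scoped ComplexConjugate

variable {G : Type*} [Group G] [Fintype G]

/-- The hypotheses, with `χ` replaced by its integer valued version `c`. -/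
structure Hyp (p : ℕ) (chi Lam : G → ℂ) (c : G → ℤ) : Prop where
  hp : p.Prime
  hp7 : 7 ≤ p
  hchi : Cfsg.IsCharacter G chi
  hLam : Cfsg.IsCharacter G Lam
  hc : ∀ g, chi g = (c g : ℂ)
  h1 : c 1 = (p : ℤ) - 1
  hfaith : ∀ g, c g = (p : ℤ) - 1 → g = 1
  hordp : ∀ g, orderOf g = p → c g = -1
  hreg : ∀ g : G, p ∣ orderOf g → orderOf g = p
  hsq : ∀ g, orderOf g ≠ p → c (g ^ 2) = c g ^ 2 - ((p : ℤ) - 1) * c g + ((p : ℤ) - 1)
  hLam' : ∀ g, orderOf g ≠ p → Lam g = (c g : ℂ) - 1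

namespace Hyp

variable {p : ℕ} {chi Lam : G → ℂ} {c : G → ℤ} (h : Hyp p chi Lam c)

include h

theorem le (g : G) : c g ≤ (p : ℤ) - 1 := by
  obtain ⟨n, ρ, hρ⟩ := h.hchi
  have h1 : ‖chi g‖ ≤ (n : ℝ) := by
    have := norm_character_le ρ g
    rw [hρ, Module.finrank_fin_fun] at this
    exact this
  have h2 : chi 1 = (n : ℂ) := by
    rw [← hρ, Representation.char_one, Module.finrank_fin_fun]
  have h3 : (n : ℤ) = (p : ℤ) - 1 := by
    have : ((n : ℤ) : ℂ) = (((p : ℤ) - 1 : ℤ) : ℂ) := by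
      rw [← h.h1, ← h.hc 1, h2]; simp
    exact_mod_cast this
  rw [h.hc g, Complex.norm_intCast] at h1
  have h4 : ((c g : ℤ) : ℝ) ≤ (n : ℝ) := le_trans (le_abs_self _) h1
  have h5 : c g ≤ (n : ℤ) := by exact_mod_cast h4
  omega

theorem reg_pow (g : G) (hg : orderOf g ≠ p) (k : ℕ) : orderOf (g ^ k) ≠ p := by
  intro e
  apply hg
  apply h.hreg
  rw [← e]
  exact orderOf_pow_dvd k

theorem nonneg (g : G) (hg : orderOf g ≠ p) : 0 ≤ c g := by
  have h1 := h.hsq g hg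
  have h2 := h.le (g ^ 2)
  have h3 := h.le g
  by_contra hneg
  push Not at hneg
  have hp7 : (7 : ℤ) ≤ (p : ℤ) := by exact_mod_cast h.hp7
  have h4 : 0 < c g * (c g - ((p : ℤ) - 1)) :=
    mul_pos_of_neg_of_neg hneg (by linarith)
  nlinarith

theorem le' (g : G) (hg1 : g ≠ 1) : c g ≤ (p : ℤ) - 2 := by
  have h1 := h.le g
  have h2 : c g ≠ (p : ℤ) - 1 := fun e => hg1 (h.hfaith g e)
  omega

theorem sq_eq_one_iff (g : G) (hg : orderOf g ≠ p) (hg1 : g ≠ 1) : c g = 0 ↔ g ^ 2 = 1 := by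
  have h1 := h.hsq g hg
  constructor
  · intro e
    apply h.hfaith
    rw [h1, e]; ring
  · intro e
    rw [e, h.h1] at h1
    have h2 : c g * (c g - ((p : ℤ) - 1)) = 0 := by linarith
    rcases mul_eq_zero.mp h2 with h3 | h3
    · exact h3
    · exfalso
      exact hg1 (h.hfaith g (by linarith))

theorem of_sq_ne (g : G) (hg : orderOf g ≠ p) (hg2 : g ^ 2 ≠ 1) :
    (c g = 1 ∨ c g = (p : ℤ) - 2) ∧ c (g ^ 2) = 1 := by
  have hg1 : g ≠ 1 := by
    intro e; apply hg2; rw [e, one_pow]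
  have h1 := h.hsq g hg
  have h2 := h.nonneg g hg
  have h3 := h.le' g hg1
  have h4 : c g ≠ 0 := fun e => hg2 ((h.sq_eq_one_iff g hg hg1).mp e)
  have h5 := h.nonneg (g ^ 2) (h.reg_pow g hg 2)
  have hp7 : (7 : ℤ) ≤ (p : ℤ) := by exact_mod_cast h.hp7
  have hcases : c g = 1 ∨ c g = (p : ℤ) - 2 := by
    by_contra hno
    push Not at hno
    have ha : 0 ≤ c g - 2 := by
      have : c g ≠ 1 := hno.1
      omega
    have hb : 0 ≤ (p : ℤ) - 3 - c g := by
      have : c g ≠ (p : ℤ) - 2 := hno.2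
      omega
    nlinarith [mul_nonneg ha hb]
  refine ⟨hcases, ?_⟩
  rcases hcases with e | e
  · rw [h1, e]; ring
  · rw [h1, e]; ring

theorem odd_order (g : G) (hg : orderOf g ≠ p) (hg1 : g ≠ 1) (hodd : Odd (orderOf g)) :
    c g = 1 := by
  obtain ⟨m, hm⟩ := hodd
  have hy : (g ^ (m + 1)) ^ 2 = g := by
    rw [← pow_mul]
    have : (m + 1) * 2 = orderOf g + 1 := by omega
    rw [this, pow_succ, pow_orderOf_eq_one, one_mul]
  have h1 := h.of_sq_ne (g ^ (m + 1)) (h.reg_pow g hg (m + 1)) (by rw [hy]; exact hg1)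
  rw [hy] at h1
  exact h1.2

theorem no_four (g : G) (hg : orderOf g ≠ p) (hg2 : g ^ 2 ≠ 1) : (g ^ 2) ^ 2 ≠ 1 := by
  intro e
  have h1 := (h.of_sq_ne g hg hg2).2
  have h2 := (h.sq_eq_one_iff (g ^ 2) (h.reg_pow g hg 2) hg2).mpr e
  omega

end Hyp

end Cfsg.Agent.Lib.Helper6.ItoDyn
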