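import Mathlib
import Cfsg.Agent.Lib.Helper6.ItoDynA

/-! Ito `2p`, steps F and G. Part B: elements of even order. -/

set_option autoImplicit false
open Cfsg

namespace Cfsg.Agent.Lib.Helper6.ItoDyn

open scoped ComplexConjugate

variable {G : Type*} [Group G] [Fintype G]

theorem sum_ind (n a : ℕ) (b : ℤ) (ha : a < n) :
    ∑ k ∈ Finset.range n, (if k = a then b else 0) = b := by
  rw [Finset.sum_ite_eq', if_pos (Finset.mem_range.mpr ha)]

/-- the alternating sum of the values of a character on a cyclic group of even order is a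
natural number -/
theorem alt_sum_nat {Lam : G → ℂ} (hLam : Cfsg.IsCharacter G Lam) (g : G) (r : ℕ) (hr : 0 < r)
    (hg : g ^ (2 * r) = 1) :
    ∃ N : ℕ, ∑ k ∈ Finset.range (2 * r), (-1 : ℂ) ^ k * Lam (g ^ k) = (N : ℂ) := by
  classical
  obtain ⟨m, μ, hμ, hμk⟩ := IsCharacter.exists_eigen_pow hLam g (2 * r) (by omega) hg
  refine ⟨2 * r * (Finset.univ.filter (fun i => μ i = -1)).card, ?_⟩
  calc ∑ k ∈ Finset.range (2 * r), (-1 : ℂ) ^ k * Lam (g ^ k)
      = ∑ k ∈ Finset.range (2 * r), ∑ i, (-μ i) ^ k := by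
        apply Finset.sum_congr rfl
        intro k _
        rw [hμk k, Finset.mul_sum]
        apply Finset.sum_congr rfl
        intro i _
        rw [neg_pow (μ i)]
    _ = ∑ i, ∑ k ∈ Finset.range (2 * r), (-μ i) ^ k := Finset.sum_comm
    _ = ∑ i, (if μ i = -1 then ((2 * r : ℕ) : ℂ) else 0) := by
        apply Finset.sum_congr rfl
        intro i _
        by_cases hi : μ i = -1
        · rw [if_pos hi, hi, neg_neg]
          simp
        · rw [if_neg hi]
          have hne : -μ i - 1 ≠ 0 := by
            intro e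
            apply hi
            linear_combination -e
          have hgeom := geom_sum_mul (-μ i) (2 * r)
          have hpow : (-μ i) ^ (2 * r) = 1 := by
            rw [neg_pow, hμ i, pow_mul]
            simp
          rw [hpow, sub_self] at hgeom
          exact (mul_eq_zero.mp hgeom).resolve_right hne
    _ = ((2 * r * (Finset.univ.filter (fun i => μ i = -1)).card : ℕ) : ℂ) := by
        rw [← Finset.sum_filter, Finset.sum_const, nsmul_eq_mul]
        push_cast
        ring

namespace Hyp

variable {p : ℕ} {chi Lam : G → ℂ} {c : G → ℤ} (h : Hyp p chi Lam c)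

include h

theorem even_order (g : G) (hg : orderOf g ≠ p) (hg2 : g ^ 2 ≠ 1) (heven : Even (orderOf g)) :
    c g = 1 := by
  obtain ⟨r, hr⟩ := heven
  have hn : orderOf g = 2 * r := by omega
  have hnpos : 0 < orderOf g := orderOf_pos g
  have hrpos : 0 < r := by omega
  have hgr : g ^ r ≠ 1 := pow_ne_one_of_lt_orderOf hrpos.ne' (by omega)
  have hg2r : g ^ (2 * r) = 1 := by rw [← hn]; exact pow_orderOf_eq_one g
  have hp7 : (7 : ℤ) ≤ (p : ℤ) := by exact_mod_cast h.hp7
  -- `r` is odd
  have hrodd : Odd r := by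
    by_contra hne
    rw [Nat.not_odd_iff_even] at hne
    obtain ⟨s, hs⟩ := hne
    have h1 : orderOf (g ^ s) ≠ p := h.reg_pow g hg s
    have h2 : (g ^ s) ^ 2 ≠ 1 := by
      rw [← pow_mul]
      have : s * 2 = r := by omega
      rw [this]; exact hgr
    apply h.no_four (g ^ s) h1 h2
    rw [← pow_mul, ← pow_mul]
    have : s * (2 * 2) = 2 * r := by omega
    rw [this]; exact hg2r
  have hr3 : 3 ≤ r := by
    obtain ⟨s, hs⟩ := hrodd
    by_contra hlt
    have hr1 : r = 1 := by omega
    apply hg2
    rw [hr1] at hg2r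
    exact hg2r
  rcases (h.of_sq_ne g hg hg2).1 with h1 | hp2
  · exact h1
  exfalso
  -- the inverse
  have hginv : c g⁻¹ = (p : ℤ) - 2 := by
    have e := IsCharacter.apply_inv h.hchi g
    rw [h.hc g⁻¹, h.hc g, map_intCast] at e
    have : c g⁻¹ = c g := by exact_mod_cast e
    rw [this, hp2]
  have hginv' : g ^ (2 * r - 1) = g⁻¹ := by
    apply eq_inv_of_mul_eq_one_left
    rw [← pow_succ]
    have : 2 * r - 1 + 1 = 2 * r := by omega
    rw [this]; exact hg2r
  -- the involution
  have hinv0 : c (g ^ r) = 0 := by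
    apply (h.sq_eq_one_iff (g ^ r) (h.reg_pow g hg r) hgr).mpr
    rw [← pow_mul]
    have : r * 2 = 2 * r := by omega
    rw [this]; exact hg2r
  -- the alternating sum
  obtain ⟨N, hN⟩ := alt_sum_nat h.hLam g r hrpos hg2r
  have hS2 : ∑ k ∈ Finset.range (2 * r), (-1 : ℂ) ^ k * Lam (g ^ k)
      = ((∑ k ∈ Finset.range (2 * r), (-1 : ℤ) ^ k * (c (g ^ k) - 1) : ℤ) : ℂ) := by
    rw [Int.cast_sum]
    apply Finset.sum_congr rfl
    intro k _
    rw [h.hLam' (g ^ k) (h.reg_pow g hg k)]
    push_cast
    ring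
  have hT : (0 : ℤ) ≤ ∑ k ∈ Finset.range (2 * r), (-1 : ℤ) ^ k * (c (g ^ k) - 1) := by
    have e : ((∑ k ∈ Finset.range (2 * r), (-1 : ℤ) ^ k * (c (g ^ k) - 1) : ℤ) : ℂ)
        = ((N : ℤ) : ℂ) := by
      rw [← hS2, hN]; simp
    have e2 := Int.cast_injective e
    rw [e2]
    exact Int.natCast_nonneg N
  -- the termwise bound
  have hU : ∀ k ∈ Finset.range (2 * r), (-1 : ℤ) ^ k * (c (g ^ k) - 1) ≤
      (if k = 0 then (p : ℤ) - 2 else 0) + (if k = r then 1 else 0)
        + (if k = 1 then -((p : ℤ) - 3) else 0)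
        + (if k = 2 * r - 1 then -((p : ℤ) - 3) else 0) := by
    intro k hk
    rw [Finset.mem_range] at hk
    by_cases k0 : k = 0
    · rw [k0, if_pos rfl, if_neg (by omega), if_neg (by omega), if_neg (by omega), pow_zero,
        pow_zero, h.h1]
      linarith
    by_cases kr : k = r
    · rw [kr, if_neg (by omega), if_pos rfl, if_neg (by omega), if_neg (by omega),
        Odd.neg_one_pow hrodd, hinv0]
      norm_num
    by_cases k1 : k = 1
    · rw [k1, if_neg (by omega), if_neg (by omega), if_pos rfl, if_neg (by omega), pow_one,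
        pow_one, hp2]
      linarith
    by_cases kl : k = 2 * r - 1
    · have hodd : Odd (2 * r - 1) := ⟨r - 1, by omega⟩
      rw [kl, if_neg (by omega), if_neg (by omega), if_neg (by omega), if_pos rfl,
        Odd.neg_one_pow hodd, hginv', hginv]
      linarith
    rw [if_neg k0, if_neg kr, if_neg k1, if_neg kl]
    have hgk1 : g ^ k ≠ 1 := pow_ne_one_of_lt_orderOf k0 (by omega)
    rcases Nat.even_or_odd k with hke | hko
    · -- even exponent: an element of odd order
      rw [Even.neg_one_pow hke]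
      have hdvd : orderOf (g ^ k) ∣ r := by
        apply orderOf_dvd_of_pow_eq_one
        obtain ⟨j, hj⟩ := hke
        rw [← pow_mul]
        have : k * r = (2 * r) * j := by rw [hj]; ring
        rw [this, pow_mul, hg2r, one_pow]
      have hodd : Odd (orderOf (g ^ k)) := Odd.of_dvd_nat hrodd hdvd
      rw [h.odd_order (g ^ k) (h.reg_pow g hg k) hgk1 hodd]
      norm_num
    · -- odd exponent
      rw [Odd.neg_one_pow hko]
      have hsq : (g ^ k) ^ 2 ≠ 1 := by
        intro e
        rw [← pow_mul] at e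
        have hd : orderOf g ∣ k * 2 := orderOf_dvd_of_pow_eq_one e
        rw [hn] at hd
        have hd2 : r ∣ k := by
          have : 2 * r ∣ 2 * k := by rwa [mul_comm k 2] at hd
          exact (Nat.mul_dvd_mul_iff_left (by norm_num)).mp this
        have hle : r ≤ k := Nat.le_of_dvd (Nat.pos_of_ne_zero k0) hd2
        have hd3 : r ∣ k - r := Nat.dvd_sub hd2 (dvd_refl r)
        have h0 : k - r = 0 := Nat.eq_zero_of_dvd_of_lt hd3 (by omega)
        omega
      have h5 := (h.of_sq_ne (g ^ k) (h.reg_pow g hg k) hsq).1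
      rcases h5 with e | e
      · rw [e]; norm_num
      · rw [e]; linarith
  have hsum := Finset.sum_le_sum hU
  rw [Finset.sum_add_distrib, Finset.sum_add_distrib, Finset.sum_add_distrib,
    sum_ind _ _ _ (by omega), sum_ind _ _ _ (by omega), sum_ind _ _ _ (by omega),
    sum_ind _ _ _ (by omega)] at hsum
  linarith

end Hyp

end Cfsg.Agent.Lib.Helper6.ItoDyn
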