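import Mathlib
import Cfsg.Agent.Lib.Helper6.ItoDynB

/-! Ito `2p`, steps F and G. Part C: the count and the arithmetic contradiction. -/

set_option autoImplicit false
open Cfsg

namespace Cfsg.Agent.Lib.Helper6.ItoDyn

open scoped ComplexConjugate

variable {G : Type*} [Group G] [Fintype G]

theorem arith {p a : ℕ} (hp7 : 7 ≤ p) (hpa : p = 2 * a ^ 2 + 2 * a + 1) (N : ℕ)
    (hN : (N : ℤ) = (p : ℤ) * ((p : ℤ) - 1) * ((p : ℤ) - 2))
    (hk : (a * (2 * a + 1)) * (2 * p) ∣ N) : False := by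
  obtain ⟨q, hq⟩ := hk
  have hq' : (N : ℤ) = ((a : ℤ) * (2 * a + 1)) * (2 * p) * q := by
    rw [hq]; push_cast; ring
  have hpa' : (p : ℤ) = 2 * (a : ℤ) ^ 2 + 2 * a + 1 := by
    rw [hpa]; push_cast; ring
  have ha : 0 < a := by
    by_contra h0
    have h00 : a = 0 := by omega
    rw [h00] at hpa
    omega
  have haZ : (0 : ℤ) < (a : ℤ) := by exact_mod_cast ha
  have hne : 2 * (a : ℤ) * (2 * (a : ℤ) ^ 2 + 2 * a + 1) ≠ 0 := by
    have h1 : (0 : ℤ) < 2 * (a : ℤ) := by linarith
    have h2 : (0 : ℤ) < 2 * (a : ℤ) ^ 2 + 2 * a + 1 := by positivity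
    exact (mul_pos h1 h2).ne'
  have key : (2 * (a : ℤ) * (2 * (a : ℤ) ^ 2 + 2 * a + 1)) *
      (((a : ℤ) + 1) * (2 * (a : ℤ) ^ 2 + 2 * a - 1)) =
      (2 * (a : ℤ) * (2 * (a : ℤ) ^ 2 + 2 * a + 1)) * ((2 * (a : ℤ) + 1) * q) := by
    have h3 := hN.symm.trans hq'
    rw [hpa'] at h3
    linear_combination h3
  have hcanc := mul_left_cancel₀ hne key
  have hdvd : (2 * (a : ℤ) + 1) ∣ 3 :=
    ⟨(2 * (a : ℤ) + 1) ^ 2 + (2 * (a : ℤ) + 1) - 3 - 4 * q, by
      linear_combination (-4 : ℤ) * hcanc⟩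
  have hle := Int.le_of_dvd (by norm_num) hdvd
  have ha1 : a ≤ 1 := by omega
  have ha1' : a = 1 := by omega
  rw [ha1'] at hpa
  omega

namespace Hyp

variable {p : ℕ} {chi Lam : G → ℂ} {c : G → ℤ} (h : Hyp p chi Lam c)

include h

theorem zero_or_one (g : G) (hg1 : g ≠ 1) (hg : orderOf g ≠ p) : c g = 0 ∨ c g = 1 := by
  by_cases h2 : g ^ 2 = 1
  · left; exact (h.sq_eq_one_iff g hg hg1).mpr h2
  · right
    rcases Nat.even_or_odd (orderOf g) with he | ho
    · exact h.even_order g hg h2 he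
    · exact h.odd_order g hg hg1 ho

theorem card_eq (hsum : ∑ g : G, chi g = 0)
    (hsumsq : ∑ g : G, chi g * chi g = (Nat.card G : ℂ))
    (hcount : (Finset.univ.filter (fun g : G => orderOf g = p)).card * (2 * p)
      = (p - 1) * Nat.card G) :
    (Nat.card G : ℤ) = (p : ℤ) * ((p : ℤ) - 1) * ((p : ℤ) - 2) := by
  classical
  have hp7 := h.hp7
  have hpt : ∀ g : G, chi g * chi g - chi g =
      (if g = 1 then ((p : ℂ) - 1) * ((p : ℂ) - 2) else 0)
        + (if orderOf g = p then (2 : ℂ) else 0) := by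
    intro g
    by_cases hg1 : g = 1
    · have hord : orderOf g ≠ p := by
        rw [hg1, orderOf_one]; omega
      rw [if_pos hg1, if_neg hord, hg1, h.hc 1, h.h1]
      push_cast
      ring
    · by_cases hgp : orderOf g = p
      · rw [if_neg hg1, if_pos hgp, h.hc g, h.hordp g hgp]
        push_cast
        ring
      · rw [if_neg hg1, if_neg hgp, h.hc g]
        rcases h.zero_or_one g hg1 hgp with e | e
        · rw [e]; push_cast; ring
        · rw [e]; push_cast; ring
  have hS : ∑ g : G, (chi g * chi g - chi g) = (Nat.card G : ℂ) := by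
    rw [Finset.sum_sub_distrib, hsumsq, hsum, sub_zero]
  have hS2 : ∑ g : G, (if orderOf g = p then (2 : ℂ) else 0)
      = 2 * ((Finset.univ.filter (fun g : G => orderOf g = p)).card : ℂ) := by
    rw [← Finset.sum_filter, Finset.sum_const, nsmul_eq_mul]; ring
  have hS' : (Nat.card G : ℂ) = ((p : ℂ) - 1) * ((p : ℂ) - 2)
      + 2 * ((Finset.univ.filter (fun g : G => orderOf g = p)).card : ℂ) := by
    calc (Nat.card G : ℂ) = ∑ g : G, (chi g * chi g - chi g) := hS.symm
      _ = ∑ g : G, ((if g = 1 then ((p : ℂ) - 1) * ((p : ℂ) - 2) else 0)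
            + (if orderOf g = p then (2 : ℂ) else 0)) :=
          Finset.sum_congr rfl (fun g _ => hpt g)
      _ = _ := by
          rw [Finset.sum_add_distrib, Finset.sum_ite_eq', if_pos (Finset.mem_univ _), hS2]
  have hZ : (Nat.card G : ℤ) = ((p : ℤ) - 1) * ((p : ℤ) - 2)
      + 2 * ((Finset.univ.filter (fun g : G => orderOf g = p)).card : ℤ) := by
    have e : ((Nat.card G : ℤ) : ℂ) = ((((p : ℤ) - 1) * ((p : ℤ) - 2)
        + 2 * ((Finset.univ.filter (fun g : G => orderOf g = p)).card : ℤ) : ℤ) : ℂ) := by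
      push_cast
      exact hS'
    exact_mod_cast e
  have hc : ((Finset.univ.filter (fun g : G => orderOf g = p)).card : ℤ) * (2 * (p : ℤ))
      = ((p : ℤ) - 1) * (Nat.card G : ℤ) := by
    have hp1 : 1 ≤ p := by omega
    have e : (((Finset.univ.filter (fun g : G => orderOf g = p)).card * (2 * p) : ℕ) : ℤ)
        = (((p - 1) * Nat.card G : ℕ) : ℤ) := by rw [hcount]
    push_cast [Nat.cast_sub hp1] at e
    exact e
  linear_combination (p : ℤ) * hZ + hc

end Hyp

/-- Steps F and G of Ito's theorem on primitive groups of degree `2p`. -/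
theorem ito_dynamics {p a : ℕ} (hp : p.Prime) (hp7 : 7 ≤ p) (hpa : p = 2 * a ^ 2 + 2 * a + 1)
    (chi Lam : G → ℂ) (hchi : Cfsg.IsCharacter G chi) (hLam : Cfsg.IsCharacter G Lam)
    (hint : ∀ g, ∃ z : ℤ, chi g = z) (h1 : chi 1 = (p : ℂ) - 1)
    (hfaith : ∀ g, chi g = chi 1 → g = 1)
    (hordp : ∀ g, orderOf g = p → chi g = -1)
    (hreg : ∀ g : G, p ∣ orderOf g → orderOf g = p)
    (hsq : ∀ g, orderOf g ≠ p →
      chi (g ^ 2) = chi g ^ 2 - ((p : ℂ) - 1) * chi g + ((p : ℂ) - 1))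
    (hLam' : ∀ g, orderOf g ≠ p → Lam g = chi g - 1)
    (hsum : ∑ g : G, chi g = 0) (hsumsq : ∑ g : G, chi g * chi g = (Nat.card G : ℂ))
    (hcount : (Finset.univ.filter (fun g : G => orderOf g = p)).card * (2 * p)
      = (p - 1) * Nat.card G)
    (hk : (a * (2 * a + 1)) * (2 * p) ∣ Nat.card G) : False := by
  choose c hc using hint
  have H : Hyp p chi Lam c :=
    { hp := hp
      hp7 := hp7
      hchi := hchi
      hLam := hLam
      hc := hc
      h1 := by
        have e := h1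
        rw [hc 1] at e
        exact_mod_cast e
      hfaith := fun g e => hfaith g (by rw [hc g, h1, e]; norm_num)
      hordp := fun g e => by
        have e2 := hordp g e
        rw [hc g] at e2
        exact_mod_cast e2
      hreg := hreg
      hsq := fun g e => by
        have e2 := hsq g e
        rw [hc g, hc (g ^ 2)] at e2
        exact_mod_cast e2
      hLam' := fun g e => by rw [hLam' g e, hc g] }
  exact arith hp7 hpa (Nat.card G) (H.card_eq hsum hsumsq hcount) hk

end Cfsg.Agent.Lib.Helper6.ItoDyn
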