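import Mathlib
import Cfsg.Agent.Lib.Helper6.ItoDynC

/-! Ito `2p`, steps F and G: the variant with the weaker divisibility hypothesis
`(2a+1) * (2p) ∣ |G|`. -/

set_option autoImplicit false
open Cfsg

namespace Cfsg.Agent.Lib.Helper6.ItoDyn

variable {G : Type*} [Group G] [Fintype G]

theorem arith' {p a : ℕ} (hp7 : 7 ≤ p) (hpa : p = 2 * a ^ 2 + 2 * a + 1) (N : ℕ)
    (hN : (N : ℤ) = (p : ℤ) * ((p : ℤ) - 1) * ((p : ℤ) - 2))
    (hk : (2 * a + 1) * (2 * p) ∣ N) : False := by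
  obtain ⟨q, hq⟩ := hk
  have hq' : (N : ℤ) = (2 * (a : ℤ) + 1) * (2 * p) * q := by
    rw [hq]; push_cast; ring
  have hpa' : (p : ℤ) = 2 * (a : ℤ) ^ 2 + 2 * a + 1 := by
    rw [hpa]; push_cast; ring
  have haZ : (0 : ℤ) ≤ (a : ℤ) := Int.natCast_nonneg a
  have hne : 2 * (2 * (a : ℤ) ^ 2 + 2 * a + 1) ≠ 0 := by
    have h2 : (0 : ℤ) < 2 * (a : ℤ) ^ 2 + 2 * a + 1 := by positivity
    linarith
  have key : (2 * (2 * (a : ℤ) ^ 2 + 2 * a + 1)) *
      ((a : ℤ) * ((a : ℤ) + 1) * (2 * (a : ℤ) ^ 2 + 2 * a - 1)) =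
      (2 * (2 * (a : ℤ) ^ 2 + 2 * a + 1)) * ((2 * (a : ℤ) + 1) * q) := by
    have h3 := hN.symm.trans hq'
    rw [hpa'] at h3
    linear_combination h3
  have hcanc := mul_left_cancel₀ hne key
  have hdvd : (2 * (a : ℤ) + 1) ∣ 3 :=
    ⟨8 * q - (2 * (a : ℤ) + 1) ^ 3 + 4 * (2 * (a : ℤ) + 1), by
      linear_combination (8 : ℤ) * hcanc⟩
  have hle := Int.le_of_dvd (by norm_num) hdvd
  have ha1 : a ≤ 1 := by omega
  have hp5 : p ≤ 5 := by
    rw [hpa]
    have : a = 0 ∨ a = 1 := by omega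
    rcases this with h | h <;> rw [h] <;> norm_num
  omega

/-- Steps F and G of Ito's theorem, with the weaker divisibility hypothesis. -/
theorem ito_dynamics' {p a : ℕ} (hp : p.Prime) (hp7 : 7 ≤ p) (hpa : p = 2 * a ^ 2 + 2 * a + 1)
    (chi Lam : G → ℂ) (hchi : Cfsg.IsCharacter G chi) (hLam : Cfsg.IsCharacter G Lam)
    (hint : ∀ g, ∃ z : ℤ, chi g = z) (h1 : chi 1 = (p : ℂ) - 1)
    (hfaith : ∀ g, chi g = chi 1 → g = 1)
    (hordp : ∀ g, orderOf g = p → chi g = -1)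
    (hreg : ∀ g : G, p ∣ orderOf g → orderOf g = p)
    (hsq : ∀ g, orderOf g ≠ p →
      chi (g ^ 2) = chi g ^ 2 - ((p : ℂ) - 1) * chi g + ((p : ℂ) - 1))
    (hLam' : ∀ g, orderOf g ≠ p → Lam g = chi g - 1)
    (hsum : ∑ g : G, chi g = 0) (hsumsq : ∑ g : G, chi g * chi g = (Nat.card G : ℂ))
    (hcount : (Finset.univ.filter (fun g : G => orderOf g = p)).card * (2 * p)
      = (p - 1) * Nat.card G)
    (hk : (2 * a + 1) * (2 * p) ∣ Nat.card G) : False := by
  choose c hc using hint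
  have H : Hyp p chi Lam c :=
    { hp := hp
      hp7 := hp7
      hchi := hchi
      hLam := hLam
      hc := hc
      h1 := by
        have e := h1
        rw [hc 1] at e
        exact_mod_cast e
      hfaith := fun g e => hfaith g (by rw [hc g, h1, e]; norm_num)
      hordp := fun g e => by
        have e2 := hordp g e
        rw [hc g] at e2
        exact_mod_cast e2
      hreg := hreg
      hsq := fun g e => by
        have e2 := hsq g e
        rw [hc g, hc (g ^ 2)] at e2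
        exact_mod_cast e2
      hLam' := fun g e => by rw [hLam' g e, hc g] }
  exact arith' hp7 hpa (Nat.card G) (H.card_eq hsum hsumsq hcount) hk

end Cfsg.Agent.Lib.Helper6.ItoDyn
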