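import Mathlib
import Cfsg.Agent.Lib.Helper4.Sixty5
import Cfsg.Agent.Lib.Helper7.P2pConc

/-! Ito `2p`: the group theoretic setup. Part A: abstract groups whose Sylow `p`-normalizer has
order `2p` and whose nontrivial normal subgroups have order divisible by `p`. -/

set_option autoImplicit false

namespace Cfsg.Agent.Lib.Helper6.ItoSetup

open Cfsg.Agent.Lib.Helper4 Cfsg.Agent.Lib.Helper4.Sixty

variable {p : ℕ} [hpf : Fact p.Prime] {H : Type*} [Group H] [Finite H]

/-- every Sylow `p`-subgroup has order `p` and a normalizer of order `2p` -/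
theorem card_all (hp2 : 2 < p) (P : Sylow p H)
    (hN : Nat.card (Subgroup.normalizer ((P : Subgroup H) : Set H)) = 2 * p) (Q : Sylow p H) :
    Nat.card (Q : Subgroup H) = p ∧
      Nat.card (Subgroup.normalizer ((Q : Subgroup H) : Set H)) = 2 * p := by
  have h1 := Cfsg.Agent.Lib.Helper7.P2p.card_sylow_of_normalizer hp2 P hN
  have h2 : Nat.card (Q : Subgroup H) = p := by
    rw [Sylow.card_eq_multiplicity Q, ← Sylow.card_eq_multiplicity P]; exact h1
  refine ⟨h2, ?_⟩
  have e1 : Nat.card (Sylow p H) = (Subgroup.normalizer ((P : Subgroup H) : Set H)).index :=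
    Sylow.card_eq_index_normalizer P
  have e2 : Nat.card (Sylow p H) = (Subgroup.normalizer ((Q : Subgroup H) : Set H)).index :=
    Sylow.card_eq_index_normalizer Q
  have m1 := Subgroup.card_mul_index (Subgroup.normalizer ((P : Subgroup H) : Set H))
  have m2 := Subgroup.card_mul_index (Subgroup.normalizer ((Q : Subgroup H) : Set H))
  rw [← e1, hN] at m1
  rw [← e2] at m2
  have hpos : 0 < Nat.card (Sylow p H) := Nat.card_pos
  have : Nat.card (Subgroup.normalizer ((Q : Subgroup H) : Set H)) * Nat.card (Sylow p H)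
      = (2 * p) * Nat.card (Sylow p H) := by rw [m2, m1]
  exact Nat.eq_of_mul_eq_mul_right hpos this

/-- the centralizer of an element of order `p` is the group it generates (Burnside transfer) -/
theorem mem_zpowers_of_commute (hp2 : 2 < p) (P : Sylow p H)
    (hN : Nat.card (Subgroup.normalizer ((P : Subgroup H) : Set H)) = 2 * p)
    (hnorm : ∀ K : Subgroup H, K.Normal → K ≠ ⊥ → p ∣ Nat.card K)
    (x : H) (hx : orderOf x = p) (g : H) (hg : g * x = x * g) : g ∈ Subgroup.zpowers x := by
  have hpp := hpf.out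
  obtain ⟨Q, hxQ⟩ := exists_sylow_of_orderOf x hx
  obtain ⟨hQ, hNQ⟩ := card_all hp2 P hN Q
  have hQz : (Q : Subgroup H) = Subgroup.zpowers x := sylow_eq_zpowers Q hQ hxQ hx
  by_contra hgQ
  -- elements commuting with `x` commute with `Q`
  have hcommQ : ∀ n : H, n * x = x * n → ∀ q ∈ (Q : Subgroup H), n * q = q * n := by
    intro n hn q hq
    rw [hQz, Subgroup.mem_zpowers_iff] at hq
    obtain ⟨k, rfl⟩ := hq
    exact ((show Commute n x from hn).zpow_right k).eq
  have hcomm_norm : ∀ n : H, n * x = x * n →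
      n ∈ Subgroup.normalizer ((Q : Subgroup H) : Set H) := by
    intro n hn
    rw [Subgroup.mem_normalizer_iff]
    intro q
    constructor
    · intro hq
      rw [hcommQ n hn q hq, mul_inv_cancel_right]
      exact hq
    · intro hq
      have hn' : n⁻¹ * x = x * n⁻¹ := by
        have : Commute n⁻¹ x := (show Commute n x from hn).inv_left
        exact this.eq
      have e := hcommQ n⁻¹ hn' _ hq
      have e2 : q = n⁻¹ * (n * q * n⁻¹) * n := by group
      rw [e2, e, inv_mul_cancel_right]
      exact hq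
  set C : Subgroup H := Subgroup.centralizer {x} ⊓
    Subgroup.normalizer ((Q : Subgroup H) : Set H) with hC
  have hQC : (Q : Subgroup H) ≤ C := by
    intro q hq
    rw [hC, Subgroup.mem_inf]
    refine ⟨?_, Subgroup.le_normalizer hq⟩
    rw [Subgroup.mem_centralizer_singleton_iff]
    rw [hQz, Subgroup.mem_zpowers_iff] at hq
    obtain ⟨k, rfl⟩ := hq
    exact ((Commute.refl x).zpow_left k).eq
  have hgC : g ∈ C := by
    rw [hC, Subgroup.mem_inf]
    refine ⟨?_, hcomm_norm g hg⟩
    rw [Subgroup.mem_centralizer_singleton_iff]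
    exact hg
  have hd1 : Nat.card (Q : Subgroup H) ∣ Nat.card C := Subgroup.card_dvd_of_le hQC
  have hd2 : Nat.card C ∣ 2 * p := by
    rw [← hNQ]; exact Subgroup.card_dvd_of_le inf_le_right
  have hne : Nat.card C ≠ p := by
    intro e
    have : (Q : Subgroup H) = C := Subgroup.eq_of_le_of_card_ge hQC (by rw [e, hQ])
    apply hgQ
    rw [← hQz, this]
    exact hgC
  have hcC : Nat.card C = 2 * p := by
    rw [hQ] at hd1
    obtain ⟨m, hm⟩ := hd1
    rw [hm] at hd2 hne ⊢
    have hm2 : m ∣ 2 := by
      have : p * m ∣ p * 2 := by rwa [mul_comm 2 p] at hd2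
      exact Nat.dvd_of_mul_dvd_mul_left hpp.pos this
    have hm12 : m = 1 ∨ m = 2 := (Nat.dvd_prime Nat.prime_two).mp hm2
    rcases hm12 with h1 | h2
    · exfalso; apply hne; rw [h1, mul_one]
    · rw [h2, mul_comm]
  have hCN : C = Subgroup.normalizer ((Q : Subgroup H) : Set H) :=
    Subgroup.eq_of_le_of_card_ge inf_le_right (by rw [hcC, hNQ])
  have hNC : Subgroup.normalizer (Q : Set H) ≤ Subgroup.centralizer (Q : Set H) := by
    intro n hn
    have hn' : n ∈ C := by rw [hCN]; exact hn
    rw [hC, Subgroup.mem_inf, Subgroup.mem_centralizer_singleton_iff] at hn'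
    rw [Subgroup.mem_centralizer_iff]
    intro q hq
    exact (hcommQ n hn'.1 q hq).symm
  -- Burnside's transfer theorem
  have hcomp := MonoidHom.ker_transferSylow_isComplement' Q hNC
  have hcard := hcomp.card_mul_card
  set K : Subgroup H := (MonoidHom.transferSylow Q hNC).ker with hK
  have hKn : K.Normal := MonoidHom.normal_ker _
  have hK1 : K ≠ ⊥ := by
    intro e
    rw [e, Subgroup.card_bot, one_mul, hQ] at hcard
    have h2p : 2 * p ∣ Nat.card H := by
      rw [← hNQ]; exact Subgroup.card_subgroup_dvd_card _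
    rw [← hcard] at h2p
    have := Nat.le_of_dvd hpp.pos h2p
    have := hpp.pos
    omega
  have hpK := hnorm K hKn hK1
  have hidx : (Q : Subgroup H).index = Nat.card K := by
    have h1 := Subgroup.card_mul_index (Q : Subgroup H)
    have hpos : 0 < Nat.card (Q : Subgroup H) := Nat.card_pos
    have : Nat.card (Q : Subgroup H) * (Q : Subgroup H).index
        = Nat.card (Q : Subgroup H) * Nat.card K := by rw [h1, ← hcard, mul_comm]
    exact Nat.eq_of_mul_eq_mul_left hpos this
  exact Q.not_dvd_index (hidx ▸ hpK)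

/-- an element whose order is divisible by `p` has order `p` -/
theorem orderOf_eq_of_dvd (hp2 : 2 < p) (P : Sylow p H)
    (hN : Nat.card (Subgroup.normalizer ((P : Subgroup H) : Set H)) = 2 * p)
    (hnorm : ∀ K : Subgroup H, K.Normal → K ≠ ⊥ → p ∣ Nat.card K)
    (g : H) (hg : p ∣ orderOf g) : orderOf g = p := by
  obtain ⟨m, hm⟩ := hg
  have hm0 : m ≠ 0 := by
    rintro rfl
    rw [mul_zero] at hm
    exact (orderOf_pos g).ne' hm
  have hy : orderOf (g ^ m) = p := by
    rw [orderOf_pow_of_dvd hm0 (Dvd.intro_left p hm.symm), hm,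
      Nat.mul_div_cancel _ (Nat.pos_of_ne_zero hm0)]
  have hmem := mem_zpowers_of_commute hp2 P hN hnorm (g ^ m) hy g
    (by rw [← pow_succ', ← pow_succ])
  have hdvd := orderOf_dvd_of_mem_zpowers hmem
  rw [hy] at hdvd
  exact Nat.dvd_antisymm hdvd ⟨m, hm⟩

/-- the number of elements of order `p` -/
theorem card_orderOf_eq [Fintype H] (hp2 : 2 < p) (P : Sylow p H)
    (hN : Nat.card (Subgroup.normalizer ((P : Subgroup H) : Set H)) = 2 * p) :
    (Finset.univ.filter (fun g : H => orderOf g = p)).card * (2 * p)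
      = (p - 1) * Nat.card H := by
  have hc : ∀ Q : Sylow p H, Nat.card Q = p := fun Q => (card_all hp2 P hN Q).1
  have h1 := ncard_orderOf_eq p hc
  have h2 : {x : H | orderOf x = p}.ncard
      = (Finset.univ.filter (fun g : H => orderOf g = p)).card := by
    rw [← Set.ncard_coe_finset]
    congr 1
    ext y
    simp
  have e1 : Nat.card (Sylow p H) = (Subgroup.normalizer ((P : Subgroup H) : Set H)).index :=
    Sylow.card_eq_index_normalizer P
  have m1 := Subgroup.card_mul_index (Subgroup.normalizer ((P : Subgroup H) : Set H))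
  rw [← e1, hN] at m1
  rw [← h2, h1, ← m1]
  ring

/-- the Sylow subgroup contains the centralizers of its nonidentity elements -/
theorem cent_le (hp2 : 2 < p) (P : Sylow p H)
    (hN : Nat.card (Subgroup.normalizer ((P : Subgroup H) : Set H)) = 2 * p)
    (hnorm : ∀ K : Subgroup H, K.Normal → K ≠ ⊥ → p ∣ Nat.card K) :
    ∀ x ∈ (P : Subgroup H), x ≠ 1 → ∀ g : H, g * x = x * g → g ∈ (P : Subgroup H) := by
  intro x hx hx1 g hg
  have hP := (card_all hp2 P hN P).1
  have hox : orderOf x = p := orderOf_of_mem_sylow P hP hx hx1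
  rw [sylow_eq_zpowers P hP hx hox]
  exact mem_zpowers_of_commute hp2 P hN hnorm x hox g hg

end Cfsg.Agent.Lib.Helper6.ItoSetup
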