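import Mathlib

/-! Field lemmas for Wielandt's theorem on primitive groups of degree `2p`:
traces of `p`-th roots of unity in the `p`-th cyclotomic field, a linear independence lemma,
and a Galois averaging lemma. -/

namespace Cfsg.Agent.Lib.Helper6.W2p

open Polynomial

section Field

variable {p : ℕ} [hp : Fact p.Prime] {F : Type*} [Field F] [CharZero F]
  [IsCyclotomicExtension {p} ℚ F]

theorem isPrimitiveRoot_of_pow (μ : F) (h : μ ^ p = 1) (h1 : μ ≠ 1) : IsPrimitiveRoot μ p := by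
  have hd : orderOf μ ∣ p := orderOf_dvd_of_pow_eq_one h
  rcases (Nat.dvd_prime hp.out).mp hd with h0 | h0
  · exact absurd (orderOf_eq_one_iff.mp h0) h1
  · rw [← h0]; exact IsPrimitiveRoot.orderOf μ

theorem nextCoeff_cyclotomic_prime : (cyclotomic p ℚ).nextCoeff = 1 := by
  have hp2 : 2 ≤ p := hp.out.two_le
  have hdeg : (cyclotomic p ℚ).natDegree = p - 1 := by
    rw [natDegree_cyclotomic, Nat.totient_prime hp.out]
  rw [nextCoeff_of_natDegree_pos (by rw [hdeg]; omega), hdeg, cyclotomic_prime]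
  rw [finsetSum_coeff]
  rw [Finset.sum_eq_single (p - 1 - 1)]
  · simp
  · intro b _ hb
    rw [coeff_X_pow, if_neg (fun h => hb h.symm)]
  · intro h
    exfalso; apply h; rw [Finset.mem_range]; omega

theorem trace_primitive (μ : F) (hμ : IsPrimitiveRoot μ p) : Algebra.trace ℚ F μ = -1 := by
  have h1 := PowerBasis.trace_gen_eq_nextCoeff_minpoly (hμ.powerBasis ℚ)
  rw [IsPrimitiveRoot.powerBasis_gen] at h1
  rw [h1, ← cyclotomic_eq_minpoly_rat hμ hp.out.pos, nextCoeff_cyclotomic_prime]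

theorem trace_one_cyc : Algebra.trace ℚ F (1 : F) = (p : ℚ) - 1 := by
  haveI := IsCyclotomicExtension.finiteDimensional {p} ℚ F
  have h := Algebra.trace_algebraMap (S := F) (1 : ℚ)
  rw [map_one] at h
  rw [h, IsCyclotomicExtension.finrank F (cyclotomic.irreducible_rat hp.out.pos),
    Nat.totient_prime hp.out]
  have hp1 : 1 ≤ p := hp.out.one_le
  simp [Nat.cast_sub hp1]

open Classical in
theorem trace_root (μ : F) (h : μ ^ p = 1) :
    Algebra.trace ℚ F μ = if μ = 1 then (p : ℚ) - 1 else -1 := by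
  split_ifs with h1
  · rw [h1]; exact trace_one_cyc
  · exact trace_primitive μ (isPrimitiveRoot_of_pow μ h h1)

/-- Linear independence: a rational combination of `1, ζ, …, ζ^(p-1)` vanishes only if all
coefficients are equal. -/
theorem coeff_const (ζ : F) (hζ : IsPrimitiveRoot ζ p) (c : ZMod p → ℚ)
    (h : ∑ z : ZMod p, (algebraMap ℚ F (c z)) * ζ ^ z.val = 0) : ∀ z, c z = c 0 := by
  classical
  set f : ℚ[X] := ∑ z : ZMod p, C (c z) * X ^ z.val with hf
  have hcoeff : ∀ z : ZMod p, f.coeff z.val = c z := by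
    intro z
    rw [hf, finsetSum_coeff, Finset.sum_eq_single z]
    · simp
    · intro b _ hb
      rw [coeff_C_mul, coeff_X_pow, if_neg, mul_zero]
      intro hzb
      exact hb (ZMod.val_injective p hzb.symm)
    · intro h; exact absurd (Finset.mem_univ z) h
  have hroot : aeval ζ f = 0 := by
    rw [hf, map_sum]
    rw [← h]
    apply Finset.sum_congr rfl
    intro z _
    simp [aeval_C]
  have hdvd : cyclotomic p ℚ ∣ f := by
    rw [cyclotomic_eq_minpoly_rat hζ hp.out.pos]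
    exact minpoly.dvd ℚ ζ hroot
  have hdegf : f.natDegree ≤ p - 1 := by
    rw [hf]
    apply natDegree_sum_le_of_forall_le
    intro z _
    refine (natDegree_C_mul_le _ _).trans ?_
    rw [natDegree_X_pow]
    have := ZMod.val_lt z
    omega
  have hdegc : (cyclotomic p ℚ).natDegree = p - 1 := by
    rw [natDegree_cyclotomic, Nat.totient_prime hp.out]
  obtain ⟨q, hq⟩ := hdvd
  by_cases hf0 : f = 0
  · intro z
    have h1 := hcoeff z
    have h2 := hcoeff 0
    rw [hf0] at h1 h2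
    simp at h1 h2
    rw [← h1, ← h2]
  · have hq0 : q ≠ 0 := by
      rintro rfl; apply hf0; rw [hq, mul_zero]
    have hc0 : cyclotomic p ℚ ≠ 0 := cyclotomic_ne_zero p ℚ
    have hdeg : f.natDegree = (cyclotomic p ℚ).natDegree + q.natDegree := by
      rw [hq, natDegree_mul hc0 hq0]
    have hq1 : q.natDegree = 0 := by omega
    obtain ⟨a, ha⟩ : ∃ a, q = C a := ⟨q.coeff 0, eq_C_of_natDegree_eq_zero hq1⟩
    have key : ∀ z : ZMod p, c z = a := by
      intro z
      rw [← hcoeff z, hq, ha, mul_comm, coeff_C_mul, cyclotomic_prime, finsetSum_coeff,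
        Finset.sum_eq_single z.val]
      · simp
      · intro b _ hb
        rw [coeff_X_pow, if_neg (fun h => hb h.symm)]
      · intro h; exfalso; apply h; rw [Finset.mem_range]; exact ZMod.val_lt z
    intro z
    rw [key z, key 0]

end Field

section Galois

variable {p : ℕ} [hp : Fact p.Prime] {F : Type*} [Field F] [CharZero F]
  [IsCyclotomicExtension {p} ℚ F]

/-- Galois averaging lemma. -/
theorem lemmaG (K : IntermediateField ℚ F) (ξ ξ' ρ ρ' : F) (hξ : ξ ^ p = 1)
    (hξ' : ξ' ^ p = 1) (hρ : ρ ∈ K) (hρ' : ρ' ∈ K)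
    (h : ∀ κ ∈ K, Algebra.trace ℚ F (κ * (ρ - ξ)) = 0)
    (h' : ∀ κ ∈ K, Algebra.trace ℚ F (κ * (ρ' - ξ')) = 0) :
    ρ = ρ' ∨ Algebra.trace ℚ F (ρ * ξ'⁻¹) = -1 := by
  classical
  haveI := IsCyclotomicExtension.finiteDimensional {p} ℚ F
  haveI := IsCyclotomicExtension.isGalois {p} ℚ F
  set H : Subgroup (F ≃ₐ[ℚ] F) := K.fixingSubgroup with hH
  haveI : Fintype H := Fintype.ofFinite H
  have hfix : IntermediateField.fixedField H = K := IsGalois.fixedField_fixingSubgroup K
  set d : F := (Fintype.card H : F) with hd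
  have hd0 : d ≠ 0 := by
    rw [hd]; exact_mod_cast Fintype.card_ne_zero
  -- the average
  let avg : F → F := fun x => d⁻¹ * ∑ σ : H, (σ : F ≃ₐ[ℚ] F) x
  have avg_mem : ∀ x, avg x ∈ K := by
    intro x
    rw [← hfix, IntermediateField.mem_fixedField_iff]
    intro g hg
    simp only [avg, map_mul, map_inv₀, map_sum]
    have hdg : g d = d := by rw [hd]; simp
    rw [hdg]
    congr 1
    exact Fintype.sum_equiv (Equiv.mulLeft (⟨g, hg⟩ : H)) _ _ (fun σ => rfl)
  have avg_tr : ∀ x, ∀ κ ∈ K, Algebra.trace ℚ F (κ * avg x) = Algebra.trace ℚ F (κ * x) := by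
    intro x κ hκ
    simp only [avg]
    have e1 : κ * (d⁻¹ * ∑ σ : H, (σ : F ≃ₐ[ℚ] F) x)
        = d⁻¹ * ∑ σ : H, (σ : F ≃ₐ[ℚ] F) (κ * x) := by
      rw [mul_left_comm, Finset.mul_sum]
      congr 1
      apply Finset.sum_congr rfl
      intro σ _
      rw [map_mul]
      have := (IntermediateField.mem_fixingSubgroup_iff K (σ : F ≃ₐ[ℚ] F)).mp σ.2 κ hκ
      rw [this]
    rw [e1]
    have hdq : d⁻¹ = algebraMap ℚ F ((Fintype.card H : ℚ)⁻¹) := by
      rw [hd]; simp
    rw [hdq, ← Algebra.smul_def, map_smul, map_sum]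
    have : ∀ σ : H, Algebra.trace ℚ F ((σ : F ≃ₐ[ℚ] F) (κ * x)) = Algebra.trace ℚ F (κ * x) :=
      fun σ => Algebra.trace_eq_of_algEquiv (σ : F ≃ₐ[ℚ] F) (κ * x)
    rw [Finset.sum_congr rfl (fun σ _ => this σ), Finset.sum_const, Finset.card_univ,
      smul_eq_mul, nsmul_eq_mul]
    have hc : (Fintype.card H : ℚ) ≠ 0 := by exact_mod_cast Fintype.card_ne_zero
    field_simp
  have uniq : ∀ x r, r ∈ K → (∀ κ ∈ K, Algebra.trace ℚ F (κ * (r - x)) = 0) → r = avg x := by
    intro x r hr hrx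
    by_contra hne
    have hδ : r - avg x ≠ 0 := sub_ne_zero.mpr hne
    have hδK : r - avg x ∈ K := K.sub_mem hr (avg_mem x)
    have hκK : (r - avg x)⁻¹ ∈ K := K.inv_mem hδK
    have h1 := hrx _ hκK
    have h2 := avg_tr x _ hκK
    have h3 : Algebra.trace ℚ F ((r - avg x)⁻¹ * (r - avg x)) = 0 := by
      have : (r - avg x)⁻¹ * (r - avg x)
          = (r - avg x)⁻¹ * (r - x) - ((r - avg x)⁻¹ * avg x - (r - avg x)⁻¹ * x) := by ring
      rw [this, map_sub, map_sub, h1, h2]; ring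
    rw [inv_mul_cancel₀ hδ, trace_one_cyc (p := p)] at h3
    have hp2 : (2 : ℚ) ≤ p := by exact_mod_cast hp.out.two_le
    linarith
  have e1 := uniq ξ ρ hρ h
  have e2 := uniq ξ' ρ' hρ' h'
  by_cases hex : ∃ σ : H, (σ : F ≃ₐ[ℚ] F) ξ = ξ'
  · left
    obtain ⟨σ₀, hσ₀⟩ := hex
    rw [e1, e2]
    simp only [avg]
    congr 1
    rw [← hσ₀]
    exact Fintype.sum_equiv (Equiv.mulRight σ₀⁻¹) _ _ (fun σ => by simp)
  · right
    push Not at hex
    have hK1 : ξ'⁻¹ ∈ (⊤ : IntermediateField ℚ F) := trivial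
    rw [e1]
    simp only [avg]
    have e3 : d⁻¹ * (∑ σ : H, (σ : F ≃ₐ[ℚ] F) ξ) * ξ'⁻¹
        = d⁻¹ * ∑ σ : H, ((σ : F ≃ₐ[ℚ] F) ξ * ξ'⁻¹) := by
      rw [mul_assoc, Finset.sum_mul]
    rw [e3]
    have hdq : d⁻¹ = algebraMap ℚ F ((Fintype.card H : ℚ)⁻¹) := by
      rw [hd]; simp
    rw [hdq, ← Algebra.smul_def, map_smul, map_sum]
    have : ∀ σ : H, Algebra.trace ℚ F ((σ : F ≃ₐ[ℚ] F) ξ * ξ'⁻¹) = -1 := by
      intro σ
      have hpow : ((σ : F ≃ₐ[ℚ] F) ξ * ξ'⁻¹) ^ p = 1 := by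
        rw [mul_pow, ← map_pow, hξ, map_one, inv_pow, hξ', inv_one, mul_one]
      rw [trace_root _ hpow, if_neg]
      intro h1
      apply hex σ
      have hξ'0 : ξ' ≠ 0 := by
        rintro rfl
        rw [zero_pow hp.out.ne_zero] at hξ'
        exact zero_ne_one hξ'
      field_simp at h1
      exact h1
    rw [Finset.sum_congr rfl (fun σ _ => this σ), Finset.sum_const, Finset.card_univ,
      smul_eq_mul, nsmul_eq_mul]
    have hc : (Fintype.card H : ℚ) ≠ 0 := by exact_mod_cast Fintype.card_ne_zero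
    field_simp

end Galois

end Cfsg.Agent.Lib.Helper6.W2p
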