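import Mathlib
import Cfsg.Agent.Lib.Helper6.W2pA

/-! Wielandt `2p`: the commutant of a transitive group containing an element of order `p`
with two orbits of length `p`; block-circulant Fourier transform. -/

namespace Cfsg.Agent.Lib.Helper6.W2p

open Matrix

universe u v

/-- Configuration: a parametrisation of `Ω` by `Fin 2 × ZMod p` on which `π` acts as the shift. -/
structure Cfg (p : ℕ) (Ω : Type u) (G : Type v) [Group G] [MulAction G Ω] where
  e : Fin 2 × ZMod p ≃ Ω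
  π : G
  hπ : ∀ i z, π • e (i, z) = e (i, z + 1)

variable {p : ℕ} [hp : Fact p.Prime] {Ω : Type u} {G : Type v} [Fintype Ω] [DecidableEq Ω]
  [Group G] [Fintype G] [MulAction G Ω]

namespace Cfg

variable (c : Cfg p Ω G)

/-- The point with coordinates `(i, z)`. -/
def pt (i : Fin 2) (z : ZMod p) : Ω := c.e (i, z)

theorem pt_inj {i j : Fin 2} {z w : ZMod p} : c.pt i z = c.pt j w ↔ i = j ∧ z = w := by
  simp [pt, Prod.ext_iff]

theorem exists_pt (x : Ω) : ∃ i z, x = c.pt i z :=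
  ⟨(c.e.symm x).1, (c.e.symm x).2, by simp [pt]⟩

theorem sum_pt {M : Type*} [AddCommMonoid M] (f : Ω → M) :
    ∑ x, f x = ∑ i, ∑ z, f (c.pt i z) := by
  rw [← c.e.sum_comp, Fintype.sum_prod_type]; rfl

theorem pow_smul (n : ℕ) (i : Fin 2) (z : ZMod p) : c.π ^ n • c.pt i z = c.pt i (z + n) := by
  induction n generalizing z with
  | zero => simp
  | succ n ih =>
    rw [pow_succ, mul_smul]
    have h1 : c.π • c.pt i z = c.pt i (z + 1) := c.hπ i z
    rw [h1, ih]
    congr 1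
    push_cast; ring

/-- The power of `π` shifting by `w`. -/
def σ (w : ZMod p) : G := c.π ^ w.val

theorem σ_smul (w : ZMod p) (i : Fin 2) (z : ZMod p) : c.σ w • c.pt i z = c.pt i (z + w) := by
  rw [σ, pow_smul, ZMod.natCast_zmod_val]

/-- Invariance of a matrix under the group. -/
def Inv (a : Matrix Ω Ω ℚ) : Prop := ∀ (g : G) (x y : Ω), a (g • x) (g • y) = a x y

theorem Inv.add {a b : Matrix Ω Ω ℚ} (ha : Inv (G := G) a) (hb : Inv (G := G) b) :
    Inv (G := G) (a + b) := fun g x y => by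
  simp [Matrix.add_apply, ha g x y, hb g x y]

theorem Inv.sub {a b : Matrix Ω Ω ℚ} (ha : Inv (G := G) a) (hb : Inv (G := G) b) :
    Inv (G := G) (a - b) := fun g x y => by
  simp [Matrix.sub_apply, ha g x y, hb g x y]

theorem Inv.smul {a : Matrix Ω Ω ℚ} (q : ℚ) (ha : Inv (G := G) a) :
    Inv (G := G) (q • a) := fun g x y => by
  simp [Matrix.smul_apply, ha g x y]

theorem Inv.transpose {a : Matrix Ω Ω ℚ} (ha : Inv (G := G) a) :
    Inv (G := G) aᵀ := fun g x y => by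
  simp [Matrix.transpose_apply, ha g y x]

theorem Inv.one : Inv (G := G) (1 : Matrix Ω Ω ℚ) := fun g x y => by
  simp [Matrix.one_apply, (MulAction.injective g).eq_iff]

theorem Inv.mul {a b : Matrix Ω Ω ℚ} (ha : Inv (G := G) a) (hb : Inv (G := G) b) :
    Inv (G := G) (a * b) := fun g x y => by
  rw [Matrix.mul_apply, Matrix.mul_apply, ← Equiv.sum_comp (MulAction.toPerm g)]
  apply Finset.sum_congr rfl
  intro z _
  simp only [MulAction.toPerm_apply]
  rw [ha g x z, hb g z y]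

/-- The block function of an invariant matrix. -/
def blk (a : Matrix Ω Ω ℚ) (i j : Fin 2) (z : ZMod p) : ℚ := a (c.pt i 0) (c.pt j z)

theorem blk_eq {a : Matrix Ω Ω ℚ} (ha : Inv (G := G) a) (i j : Fin 2) (k l : ZMod p) :
    a (c.pt i k) (c.pt j l) = c.blk a i j (l - k) := by
  have h := ha (c.σ k) (c.pt i 0) (c.pt j (l - k))
  rw [σ_smul, σ_smul] at h
  rw [blk, ← h]
  congr 2 <;> ring

/-- Block sums. -/
def bs (a : Matrix Ω Ω ℚ) (i j : Fin 2) : ℚ := ∑ z, c.blk a i j z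

theorem row_sum_pt {a : Matrix Ω Ω ℚ} (ha : Inv (G := G) a) (i : Fin 2) (k : ZMod p) :
    ∑ y, a (c.pt i k) y = c.bs a i 0 + c.bs a i 1 := by
  rw [c.sum_pt, Fin.sum_univ_two]
  have h : ∀ j l, a (c.pt i k) (c.pt j l) = c.blk a i j (l - k) := fun j l => c.blk_eq ha i j k l
  simp only [h]
  congr 1
  · exact (Equiv.subRight k).sum_comp (fun z => c.blk a i 0 z)
  · exact (Equiv.subRight k).sum_comp (fun z => c.blk a i 1 z)

/-- The sign vector of the two orbits. -/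
def v (x : Ω) : ℚ := if (c.e.symm x).1 = 0 then 1 else -1

theorem v_pt (i : Fin 2) (z : ZMod p) : c.v (c.pt i z) = if i = 0 then 1 else -1 := by
  simp [v, pt]

theorem v_mul_self (x : Ω) : c.v x * c.v x = 1 := by
  unfold v; split_ifs <;> norm_num

theorem sum_v : ∑ x, c.v x = 0 := by
  rw [c.sum_pt, Fin.sum_univ_two]
  simp [v_pt]

theorem row_v_pt {a : Matrix Ω Ω ℚ} (ha : Inv (G := G) a) (i : Fin 2) (k : ZMod p) :
    ∑ y, a (c.pt i k) y * c.v y = c.bs a i 0 - c.bs a i 1 := by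
  rw [c.sum_pt, Fin.sum_univ_two, sub_eq_add_neg]
  have h : ∀ j l, a (c.pt i k) (c.pt j l) = c.blk a i j (l - k) := fun j l => c.blk_eq ha i j k l
  simp only [h, v_pt]
  congr 1
  · simp only [if_true, mul_one]
    exact (Equiv.subRight k).sum_comp (fun z => c.blk a i 0 z)
  · have : ((1 : Fin 2) = 0) = False := by simp
    simp only [this, if_false, mul_neg, mul_one, Finset.sum_neg_distrib]
    congr 1
    exact (Equiv.subRight k).sum_comp (fun z => c.blk a i 1 z)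

/-- First character: the row sum. -/
def ψ0 (a : Matrix Ω Ω ℚ) : ℚ := ∑ y, a (c.pt 0 0) y

/-- Second character: eigenvalue on the sign vector. -/
def ψ1 (a : Matrix Ω Ω ℚ) : ℚ := ∑ y, a (c.pt 0 0) y * c.v y

variable [MulAction.IsPretransitive G Ω]

theorem row_sum {a : Matrix Ω Ω ℚ} (ha : Inv (G := G) a) (x : Ω) : ∑ y, a x y = c.ψ0 a := by
  obtain ⟨g, hg⟩ := MulAction.exists_smul_eq G (c.pt 0 0) x
  rw [← hg, ψ0, ← Equiv.sum_comp (MulAction.toPerm g)]
  apply Finset.sum_congr rfl; intro y _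
  simp only [MulAction.toPerm_apply]
  exact ha g _ _

theorem col_sum {a : Matrix Ω Ω ℚ} (ha : Inv (G := G) a) (y : Ω) :
    ∑ x, a x y = ∑ x, a x (c.pt 0 0) := by
  obtain ⟨g, hg⟩ := MulAction.exists_smul_eq G (c.pt 0 0) y
  rw [← hg, ← Equiv.sum_comp (MulAction.toPerm g)]
  apply Finset.sum_congr rfl; intro x _
  simp only [MulAction.toPerm_apply]
  exact ha g _ _

theorem bs_rel {a : Matrix Ω Ω ℚ} (ha : Inv (G := G) a) :
    c.bs a 0 0 + c.bs a 0 1 = c.ψ0 a ∧ c.bs a 1 0 + c.bs a 1 1 = c.ψ0 a ∧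
    c.bs a 0 0 - c.bs a 0 1 = c.ψ1 a ∧ c.bs a 1 1 - c.bs a 1 0 = c.ψ1 a := by
  have h1 : c.bs a 0 0 + c.bs a 0 1 = c.ψ0 a := by
    rw [← c.row_sum_pt ha 0 0]; rfl
  have h2 : c.bs a 1 0 + c.bs a 1 1 = c.ψ0 a := by
    rw [← c.row_sum_pt ha 1 0]; exact c.row_sum ha _
  have h3 : c.bs a 0 0 - c.bs a 0 1 = c.ψ1 a := by
    rw [← c.row_v_pt ha 0 0]; rfl
  refine ⟨h1, h2, h3, ?_⟩
  -- total sum of a v vanishes
  have htot : ∑ x, ∑ y, a x y * c.v y = 0 := by
    rw [Finset.sum_comm]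
    have : ∀ y, ∑ x, a x y * c.v y = (∑ x, a x (c.pt 0 0)) * c.v y := by
      intro y; rw [← Finset.sum_mul, c.col_sum ha y]
    rw [Finset.sum_congr rfl (fun y _ => this y), ← Finset.mul_sum, c.sum_v, mul_zero]
  rw [c.sum_pt, Fin.sum_univ_two] at htot
  simp only [c.row_v_pt ha, Finset.sum_const, Finset.card_univ, ZMod.card, nsmul_eq_mul] at htot
  have hp0 : (p : ℚ) ≠ 0 := by exact_mod_cast hp.out.ne_zero
  have : (c.bs a 0 0 - c.bs a 0 1) + (c.bs a 1 0 - c.bs a 1 1) = 0 := by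
    have h4 : (p : ℚ) * ((c.bs a 0 0 - c.bs a 0 1) + (c.bs a 1 0 - c.bs a 1 1)) = 0 := by
      linarith
    rcases mul_eq_zero.mp h4 with h | h
    · exact absurd h hp0
    · exact h
  linarith

theorem mulVec_v {a : Matrix Ω Ω ℚ} (ha : Inv (G := G) a) (x : Ω) :
    ∑ y, a x y * c.v y = c.ψ1 a * c.v x := by
  obtain ⟨i, k, rfl⟩ := c.exists_pt x
  obtain ⟨-, -, h3, h4⟩ := c.bs_rel ha
  rw [c.row_v_pt ha, v_pt]
  fin_cases i
  · simp [h3]
  · simp; linarith

theorem ψ0_mul {a b : Matrix Ω Ω ℚ} (ha : Inv (G := G) a) (hb : Inv (G := G) b) :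
    c.ψ0 (a * b) = c.ψ0 a * c.ψ0 b := by
  unfold ψ0
  simp only [Matrix.mul_apply]
  rw [Finset.sum_comm]
  have : ∀ z, ∑ y, a (c.pt 0 0) z * b z y = a (c.pt 0 0) z * c.ψ0 b := by
    intro z; rw [← Finset.mul_sum, c.row_sum hb z]
  rw [Finset.sum_congr rfl (fun z _ => this z), ← Finset.sum_mul]
  rfl

theorem ψ1_mul {a b : Matrix Ω Ω ℚ} (ha : Inv (G := G) a) (hb : Inv (G := G) b) :
    c.ψ1 (a * b) = c.ψ1 a * c.ψ1 b := by
  have e1 : c.ψ1 (a * b) = ∑ z, ∑ y, a (c.pt 0 0) z * b z y * c.v y := by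
    unfold ψ1
    simp only [Matrix.mul_apply, Finset.sum_mul]
    rw [Finset.sum_comm]
  have e2 : ∀ z, ∑ y, a (c.pt 0 0) z * b z y * c.v y = (a (c.pt 0 0) z * c.v z) * c.ψ1 b := by
    intro z
    have := c.mulVec_v hb z
    calc ∑ y, a (c.pt 0 0) z * b z y * c.v y = a (c.pt 0 0) z * ∑ y, b z y * c.v y := by
          rw [Finset.mul_sum]; apply Finset.sum_congr rfl; intro y _; ring
      _ = (a (c.pt 0 0) z * c.v z) * c.ψ1 b := by rw [this]; ring
  rw [e1, Finset.sum_congr rfl (fun z _ => e2 z), ← Finset.sum_mul]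
  rfl

theorem ψ1_transpose {a : Matrix Ω Ω ℚ} (ha : Inv (G := G) a) : c.ψ1 aᵀ = c.ψ1 a := by
  have e1 : ∑ x, c.v x * ∑ y, aᵀ x y * c.v y = ∑ y, c.v y * ∑ x, a y x * c.v x := by
    simp only [Finset.mul_sum, Matrix.transpose_apply]
    rw [Finset.sum_comm]
    apply Finset.sum_congr rfl; intro y _
    apply Finset.sum_congr rfl; intro x _; ring
  simp only [c.mulVec_v ha.transpose, c.mulVec_v ha] at e1
  have h2 : ∀ t : ℚ, ∑ x, c.v x * (t * c.v x) = t * (2 * p) := by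
    intro t
    have : ∀ x, c.v x * (t * c.v x) = t := by
      intro x; rw [mul_left_comm, c.v_mul_self, mul_one]
    rw [Finset.sum_congr rfl (fun x _ => this x), Finset.sum_const, Finset.card_univ,
      ← Fintype.card_congr c.e, Fintype.card_prod, Fintype.card_fin, ZMod.card]
    simp; ring
  rw [h2, h2] at e1
  have hp0 : (p : ℚ) ≠ 0 := by exact_mod_cast hp.out.ne_zero
  have : (2 * (p : ℚ)) ≠ 0 := by positivity
  exact mul_right_cancel₀ this e1

end Cfg

end Cfsg.Agent.Lib.Helper6.W2p
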