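import Mathlib
import Cfsg.Agent.Lib.Helper6.W2pB

/-! Wielandt `2p`: the Fourier transform `hat` of an invariant matrix. -/

namespace Cfsg.Agent.Lib.Helper6.W2p

open Matrix

universe u v

section Chi

variable {p : ℕ} [hp : Fact p.Prime] {F : Type*} [Field F]

/-- The character `z ↦ ζ ^ z`. -/
def χ (ζ : F) (z : ZMod p) : F := ζ ^ z.val

theorem χ_zero (ζ : F) : χ ζ (0 : ZMod p) = 1 := by simp [χ]

theorem χ_add {ζ : F} (hζ : IsPrimitiveRoot ζ p) (z w : ZMod p) :
    χ ζ (z + w) = χ ζ z * χ ζ w := by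
  unfold χ
  rw [ZMod.val_add, ← pow_add]
  have h := pow_mod_orderOf ζ (z.val + w.val)
  rw [← hζ.eq_orderOf] at h
  exact h

theorem χ_pow {ζ : F} (hζ : IsPrimitiveRoot ζ p) (z : ZMod p) : (χ ζ z) ^ p = 1 := by
  unfold χ
  rw [← pow_mul, mul_comm, pow_mul, hζ.pow_eq_one, one_pow]

theorem χ_eq_one_iff {ζ : F} (hζ : IsPrimitiveRoot ζ p) (z : ZMod p) : χ ζ z = 1 ↔ z = 0 := by
  unfold χ
  rw [hζ.pow_eq_one_iff_dvd]
  constructor
  · intro h
    have hlt := ZMod.val_lt z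
    have : z.val = 0 := Nat.eq_zero_of_dvd_of_lt h hlt
    exact (ZMod.val_eq_zero z).mp this
  · rintro rfl; simp

theorem χ_neg {ζ : F} (hζ : IsPrimitiveRoot ζ p) (z : ZMod p) : χ ζ (-z) = (χ ζ z)⁻¹ := by
  have h : χ ζ (-z) * χ ζ z = 1 := by
    rw [← χ_add hζ, neg_add_cancel, χ_zero]
  exact eq_inv_of_mul_eq_one_left h

theorem χ_ne_zero {ζ : F} (hζ : IsPrimitiveRoot ζ p) (z : ZMod p) : χ ζ z ≠ 0 := by
  intro h
  have := χ_pow hζ z
  rw [h, zero_pow hp.out.ne_zero] at this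
  exact zero_ne_one this

end Chi

variable {p : ℕ} [hp : Fact p.Prime] {Ω : Type u} {G : Type v} [Fintype Ω] [DecidableEq Ω]
  [Group G] [Fintype G] [MulAction G Ω]
variable {F : Type*} [Field F] [CharZero F]

namespace Cfg

variable (c : Cfg p Ω G)

/-- The Fourier transform of (the block functions of) a matrix. -/
def hat (ζ : F) (a : Matrix Ω Ω ℚ) : Matrix (Fin 2) (Fin 2) F :=
  fun i j => ∑ z, algebraMap ℚ F (c.blk a i j z) * χ ζ z

theorem hat_add (ζ : F) (a b : Matrix Ω Ω ℚ) : c.hat ζ (a + b) = c.hat ζ a + c.hat ζ b := by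
  ext i j
  simp only [hat, blk, Matrix.add_apply, map_add, add_mul, Finset.sum_add_distrib]

theorem hat_sub (ζ : F) (a b : Matrix Ω Ω ℚ) : c.hat ζ (a - b) = c.hat ζ a - c.hat ζ b := by
  ext i j
  simp only [hat, blk, Matrix.sub_apply, map_sub, sub_mul, Finset.sum_sub_distrib]

theorem hat_smul (ζ : F) (q : ℚ) (a : Matrix Ω Ω ℚ) :
    c.hat ζ (q • a) = algebraMap ℚ F q • c.hat ζ a := by
  ext i j
  simp only [hat, blk, Matrix.smul_apply, smul_eq_mul, map_mul, Finset.mul_sum, mul_assoc]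

theorem hat_one (ζ : F) : c.hat ζ (1 : Matrix Ω Ω ℚ) = 1 := by
  ext i j
  simp only [hat, blk, Matrix.one_apply, c.pt_inj]
  by_cases hij : i = j
  · subst hij
    rw [Finset.sum_eq_single (0 : ZMod p)]
    · simp [χ_zero]
    · intro b _ hb
      have : ¬ ((0 : ZMod p) = b) := fun h => hb h.symm
      simp [this]
    · intro h; exact absurd (Finset.mem_univ _) h
  · have : ∀ z : ZMod p, ¬ (i = j ∧ (0 : ZMod p) = z) := fun z h => hij h.1
    simp [this, hij]

theorem blk_mul {a b : Matrix Ω Ω ℚ} (ha : Inv (G := G) a) (hb : Inv (G := G) b)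
    (i j : Fin 2) (z : ZMod p) :
    c.blk (a * b) i j z = ∑ m, ∑ k, c.blk a i m k * c.blk b m j (z - k) := by
  rw [blk, Matrix.mul_apply, c.sum_pt]
  apply Finset.sum_congr rfl; intro m _
  apply Finset.sum_congr rfl; intro k _
  rw [c.blk_eq hb]
  rfl

theorem hat_mul {ζ : F} (hζ : IsPrimitiveRoot ζ p) {a b : Matrix Ω Ω ℚ}
    (ha : Inv (G := G) a) (hb : Inv (G := G) b) :
    c.hat ζ (a * b) = c.hat ζ a * c.hat ζ b := by
  ext i j
  rw [Matrix.mul_apply]
  simp only [hat]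
  have e1 : ∀ z, algebraMap ℚ F (c.blk (a * b) i j z) * χ ζ z
      = ∑ m, ∑ k, (algebraMap ℚ F (c.blk a i m k) * χ ζ k) *
          (algebraMap ℚ F (c.blk b m j (z - k)) * χ ζ (z - k)) := by
    intro z
    rw [c.blk_mul ha hb, map_sum, Finset.sum_mul]
    apply Finset.sum_congr rfl; intro m _
    rw [map_sum, Finset.sum_mul]
    apply Finset.sum_congr rfl; intro k _
    have : χ ζ z = χ ζ k * χ ζ (z - k) := by rw [← χ_add hζ]; congr 1; ring
    rw [map_mul, this]; ring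
  rw [Finset.sum_congr rfl (fun z _ => e1 z), Finset.sum_comm]
  apply Finset.sum_congr rfl; intro m _
  rw [Finset.sum_comm, Finset.sum_mul]
  apply Finset.sum_congr rfl; intro k _
  rw [← Finset.mul_sum]
  congr 1
  exact (Equiv.subRight k).sum_comp
    (fun w => algebraMap ℚ F (c.blk b m j w) * χ ζ w)

/-- The diagonal block sum function. -/
def S (a : Matrix Ω Ω ℚ) (z : ZMod p) : ℚ := c.blk a 0 0 z + c.blk a 1 1 z

theorem trace_hat (ζ : F) (a : Matrix Ω Ω ℚ) :
    (c.hat ζ a).trace = ∑ z, algebraMap ℚ F (c.S a z) * χ ζ z := by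
  rw [Matrix.trace_fin_two]
  simp only [hat, S, map_add, add_mul, Finset.sum_add_distrib]

theorem sum_S [MulAction.IsPretransitive G Ω] {a : Matrix Ω Ω ℚ} (ha : Inv (G := G) a) :
    ∑ z, c.S a z = c.ψ0 a + c.ψ1 a := by
  obtain ⟨h1, h2, h3, h4⟩ := c.bs_rel ha
  simp only [S, Finset.sum_add_distrib]
  change c.bs a 0 0 + c.bs a 1 1 = _
  linarith

/-- An invariant matrix with vanishing characters and transform is zero. -/
theorem eq_zero_of_hat [MulAction.IsPretransitive G Ω] [IsCyclotomicExtension {p} ℚ F]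
    {ζ : F} (hζ : IsPrimitiveRoot ζ p) {a : Matrix Ω Ω ℚ}
    (ha : Inv (G := G) a) (h0 : c.ψ0 a = 0) (h1 : c.ψ1 a = 0) (hh : c.hat ζ a = 0) : a = 0 := by
  have hconst : ∀ i j z, c.blk a i j z = c.blk a i j 0 := by
    intro i j z
    have := congrFun (congrFun hh i) j
    simp only [hat, Matrix.zero_apply] at this
    exact coeff_const ζ hζ (fun z => c.blk a i j z) this z
  have hbs : ∀ i j, c.bs a i j = p * c.blk a i j 0 := by
    intro i j
    rw [bs, Finset.sum_congr rfl (fun z _ => hconst i j z), Finset.sum_const, Finset.card_univ,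
      ZMod.card, nsmul_eq_mul]
  obtain ⟨r1, r2, r3, r4⟩ := c.bs_rel ha
  rw [h0] at r1 r2
  rw [h1] at r3 r4
  have hp0 : (p : ℚ) ≠ 0 := by exact_mod_cast hp.out.ne_zero
  have z00 : c.blk a 0 0 0 = 0 := by
    have : (p : ℚ) * c.blk a 0 0 0 = 0 := by rw [← hbs]; linarith
    exact (mul_eq_zero.mp this).resolve_left hp0
  have z01 : c.blk a 0 1 0 = 0 := by
    have : (p : ℚ) * c.blk a 0 1 0 = 0 := by rw [← hbs]; linarith
    exact (mul_eq_zero.mp this).resolve_left hp0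
  have z10 : c.blk a 1 0 0 = 0 := by
    have : (p : ℚ) * c.blk a 1 0 0 = 0 := by rw [← hbs]; linarith
    exact (mul_eq_zero.mp this).resolve_left hp0
  have z11 : c.blk a 1 1 0 = 0 := by
    have : (p : ℚ) * c.blk a 1 1 0 = 0 := by rw [← hbs]; linarith
    exact (mul_eq_zero.mp this).resolve_left hp0
  ext x y
  obtain ⟨i, k, rfl⟩ := c.exists_pt x
  obtain ⟨j, l, rfl⟩ := c.exists_pt y
  rw [c.blk_eq ha, hconst, Matrix.zero_apply]
  fin_cases i <;> fin_cases j <;> assumption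

end Cfg

end Cfsg.Agent.Lib.Helper6.W2p
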