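import Mathlib
import Cfsg.Agent.Lib.Helper6.W2pC

/-! Wielandt `2p`: the Gram idempotent `E` of the sign vectors. -/

namespace Cfsg.Agent.Lib.Helper6.W2p

open Matrix

universe u v

section TwoByTwo

variable {F : Type*} [Field F]

theorem idem_two (Q : Matrix (Fin 2) (Fin 2) F) (h : Q * Q = Q) :
    Q = 0 ∨ Q = 1 ∨ (Q.trace = 1 ∧ Q.det = 0) := by
  have h00 := congrFun (congrFun h 0) 0
  have h01 := congrFun (congrFun h 0) 1
  have h10 := congrFun (congrFun h 1) 0
  have h11 := congrFun (congrFun h 1) 1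
  simp only [Matrix.mul_apply, Fin.sum_univ_two] at h00 h01 h10 h11
  by_cases ht : Q 0 0 + Q 1 1 = 1
  · right; right
    refine ⟨by rw [Matrix.trace_fin_two]; exact ht, ?_⟩
    rw [Matrix.det_fin_two]
    have : Q 1 1 = 1 - Q 0 0 := by linear_combination ht
    rw [this]; linear_combination -h00
  · have hb : Q 0 1 = 0 := by
      have : Q 0 1 * (Q 0 0 + Q 1 1 - 1) = 0 := by linear_combination h01
      rcases mul_eq_zero.mp this with h | h
      · exact h
      · exact absurd (by linear_combination h) ht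
    have hc : Q 1 0 = 0 := by
      have : Q 1 0 * (Q 0 0 + Q 1 1 - 1) = 0 := by linear_combination h10
      rcases mul_eq_zero.mp this with h | h
      · exact h
      · exact absurd (by linear_combination h) ht
    rw [hb, hc] at h00 h11
    have ha : Q 0 0 = 0 ∨ Q 0 0 = 1 := by
      have : Q 0 0 * (Q 0 0 - 1) = 0 := by linear_combination h00
      rcases mul_eq_zero.mp this with h | h
      · left; exact h
      · right; linear_combination h
    have hd : Q 1 1 = 0 ∨ Q 1 1 = 1 := by
      have : Q 1 1 * (Q 1 1 - 1) = 0 := by linear_combination h11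
      rcases mul_eq_zero.mp this with h | h
      · left; exact h
      · right; linear_combination h
    rcases ha with ha | ha <;> rcases hd with hd | hd
    · left
      ext i j; fin_cases i <;> fin_cases j <;> simp [ha, hd, hb, hc]
    · exfalso; apply ht; rw [ha, hd]; ring
    · exfalso; apply ht; rw [ha, hd]; ring
    · right; left
      ext i j; fin_cases i <;> fin_cases j <;> simp [ha, hd, hb, hc]

theorem corner_two (N X : Matrix (Fin 2) (Fin 2) F) (hN : N.det = 0) :
    N * X * N = (X * N).trace • N := by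
  rw [Matrix.det_fin_two] at hN
  ext i j
  fin_cases i <;> fin_cases j
  · simp only [Matrix.mul_apply, Fin.sum_univ_two, Matrix.trace_fin_two, Matrix.smul_apply,
      smul_eq_mul, Fin.zero_eta, Fin.isValue]
    linear_combination (-(X 1 1)) * hN
  · simp only [Matrix.mul_apply, Fin.sum_univ_two, Matrix.trace_fin_two, Matrix.smul_apply,
      smul_eq_mul, Fin.zero_eta, Fin.mk_one, Fin.isValue]
    linear_combination (X 0 1) * hN
  · simp only [Matrix.mul_apply, Fin.sum_univ_two, Matrix.trace_fin_two, Matrix.smul_apply,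
      smul_eq_mul, Fin.zero_eta, Fin.mk_one, Fin.isValue]
    linear_combination (X 1 0) * hN
  · simp only [Matrix.mul_apply, Fin.sum_univ_two, Matrix.trace_fin_two, Matrix.smul_apply,
      smul_eq_mul, Fin.mk_one, Fin.isValue]
    linear_combination (-(X 0 0)) * hN

theorem det_one_sub_two (Q : Matrix (Fin 2) (Fin 2) F) :
    (1 - Q).det = 1 - Q.trace + Q.det := by
  rw [Matrix.det_fin_two, Matrix.det_fin_two, Matrix.trace_fin_two]
  simp only [Matrix.sub_apply, Matrix.one_apply_eq, Matrix.one_apply_ne, ne_eq,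
    Fin.isValue, zero_ne_one, one_ne_zero, not_false_eq_true]
  ring

end TwoByTwo

variable {p : ℕ} [hp : Fact p.Prime] {Ω : Type u} {G : Type v} [Fintype Ω] [DecidableEq Ω]
  [Group G] [Fintype G] [MulAction G Ω]

namespace Cfg

variable (c : Cfg p Ω G)

/-- The translate of the sign vector. -/
def gv (g : G) (x : Ω) : ℚ := c.v (g⁻¹ • x)

/-- The Gram matrix of the translates of the sign vector, normalised. -/
def E : Matrix Ω Ω ℚ :=
  fun x y => (2 * (Fintype.card G : ℚ))⁻¹ * ∑ g : G, c.gv g x * c.gv g y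

theorem E_inv : Inv (G := G) c.E := by
  intro h x y
  unfold E
  congr 1
  have : ∀ g : G, c.gv g (h • x) * c.gv g (h • y)
      = (fun g' => c.gv g' x * c.gv g' y) (h⁻¹ * g) := by
    intro g
    simp only [gv, _root_.mul_inv_rev, inv_inv, mul_smul]
  rw [Finset.sum_congr rfl (fun g _ => this g)]
  exact Equiv.sum_comp (Equiv.mulLeft h⁻¹) (fun g' => c.gv g' x * c.gv g' y)

theorem E_diag (x : Ω) : c.E x x = 1 / 2 := by
  unfold E
  have : ∀ g : G, c.gv g x * c.gv g x = 1 := fun g => c.v_mul_self _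
  rw [Finset.sum_congr rfl (fun g _ => this g), Finset.sum_const, Finset.card_univ, nsmul_eq_mul,
    mul_one]
  have : (Fintype.card G : ℚ) ≠ 0 := by exact_mod_cast Fintype.card_ne_zero
  field_simp

theorem E_symm : c.Eᵀ = c.E := by
  ext x y
  simp only [Matrix.transpose_apply, E]
  congr 1
  apply Finset.sum_congr rfl; intro g _; ring

theorem E_symm' (x y : Ω) : c.E x y = c.E y x := by
  have := congrFun (congrFun c.E_symm y) x
  simpa [Matrix.transpose_apply] using this

theorem E_row (x : Ω) : ∑ y, c.E x y = 0 := by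
  unfold E
  rw [← Finset.mul_sum, Finset.sum_comm]
  have : ∀ g : G, ∑ y, c.gv g x * c.gv g y = 0 := by
    intro g
    rw [← Finset.mul_sum]
    have : ∑ y, c.gv g y = ∑ y, c.v y :=
      Equiv.sum_comp (MulAction.toPerm g⁻¹) c.v
    rw [this, c.sum_v, mul_zero]
  rw [Finset.sum_congr rfl (fun g _ => this g), Finset.sum_const_zero, mul_zero]

variable [MulAction.IsPretransitive G Ω]

theorem ψ0_E : c.ψ0 c.E = 0 := c.E_row _

theorem mul_E {a : Matrix Ω Ω ℚ} (ha : Inv (G := G) a) : a * c.E = c.ψ1 a • c.E := by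
  ext x y
  rw [Matrix.mul_apply, Matrix.smul_apply, smul_eq_mul]
  have e2 : ∀ g : G, ∑ z, a x z * c.gv g z = c.ψ1 a * c.gv g x := by
    intro g
    have h1 : ∑ z, a x z * c.gv g z = ∑ z', a (g⁻¹ • x) z' * c.v z' := by
      rw [← Equiv.sum_comp (MulAction.toPerm g)]
      apply Finset.sum_congr rfl; intro z _
      simp only [MulAction.toPerm_apply, gv, inv_smul_smul]
      have := ha g⁻¹ x (g • z)
      rw [inv_smul_smul] at this
      rw [this]
    rw [h1, c.mulVec_v ha]; rfl
  set N : ℚ := (2 * (Fintype.card G : ℚ))⁻¹ with hN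
  have hE : ∀ z w, c.E z w = N * ∑ g : G, c.gv g z * c.gv g w := fun z w => rfl
  calc ∑ z, a x z * c.E z y
      = N * ∑ z, ∑ g : G, a x z * (c.gv g z * c.gv g y) := by
        rw [Finset.mul_sum]
        apply Finset.sum_congr rfl; intro z _
        rw [hE, mul_left_comm, Finset.mul_sum]
    _ = N * ∑ g : G, ∑ z, a x z * (c.gv g z * c.gv g y) := by rw [Finset.sum_comm]
    _ = N * ∑ g : G, (c.ψ1 a * c.gv g x) * c.gv g y := by
        congr 1
        apply Finset.sum_congr rfl; intro g _
        rw [← e2 g, Finset.sum_mul]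
        apply Finset.sum_congr rfl; intro z _; ring
    _ = c.ψ1 a * c.E x y := by
        rw [hE]
        simp only [Finset.mul_sum]
        apply Finset.sum_congr rfl; intro g _; ring

theorem E_mul {a : Matrix Ω Ω ℚ} (ha : Inv (G := G) a) : c.E * a = c.ψ1 a • c.E := by
  have h := c.mul_E ha.transpose
  rw [c.ψ1_transpose ha] at h
  have h2 := congrArg Matrix.transpose h
  rw [Matrix.transpose_mul, Matrix.transpose_transpose, Matrix.transpose_smul, c.E_symm] at h2
  exact h2

/-- The eigenvalue of `E` on the sign vector. -/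
def ε : ℚ := c.ψ1 c.E

theorem E_sq : c.E * c.E = c.ε • c.E := c.mul_E c.E_inv

theorem ε_ge : 1 / 2 ≤ c.ε := by
  have h := congrFun (congrFun c.E_sq (c.pt 0 0)) (c.pt 0 0)
  rw [Matrix.mul_apply, Matrix.smul_apply, smul_eq_mul, c.E_diag] at h
  have h2 : (1 / 2 : ℚ) * (1 / 2) ≤ ∑ y, c.E (c.pt 0 0) y * c.E y (c.pt 0 0) := by
    have hnn : ∀ y ∈ Finset.univ, 0 ≤ c.E (c.pt 0 0) y * c.E y (c.pt 0 0) := by
      intro y _
      rw [c.E_symm' y]; exact mul_self_nonneg _
    have := Finset.single_le_sum hnn (Finset.mem_univ (c.pt 0 0))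
    rw [c.E_diag] at this
    exact this
  rw [h] at h2
  linarith

theorem ε_pos : 0 < c.ε := lt_of_lt_of_le (by norm_num) c.ε_ge

end Cfg

end Cfsg.Agent.Lib.Helper6.W2p
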