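import Mathlib
import Cfsg.Agent.Lib.Helper6.W2pD

/-! Wielandt `2p`: the rank one idempotent `Q`, the third character `ω`, and the trace identity. -/

namespace Cfsg.Agent.Lib.Helper6.W2p

open Matrix

universe u v

variable {p : ℕ} [hp : Fact p.Prime] {Ω : Type u} {G : Type v} [Fintype Ω] [DecidableEq Ω]
  [Group G] [Fintype G] [MulAction G Ω] [MulAction.IsPretransitive G Ω]
variable {F : Type*} [Field F] [CharZero F]

namespace Cfg

variable (c : Cfg p Ω G)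

/-- The normalised transform of `E`. -/
def Q (ζ : F) : Matrix (Fin 2) (Fin 2) F := (algebraMap ℚ F c.ε)⁻¹ • c.hat ζ c.E

theorem εF_ne (F : Type*) [Field F] [CharZero F] : algebraMap ℚ F c.ε ≠ 0 := by
  rw [Ne, map_eq_zero]; exact c.ε_pos.ne'

theorem hatE_eq (ζ : F) : c.hat ζ c.E = algebraMap ℚ F c.ε • c.Q ζ := by
  rw [Q, smul_smul, mul_inv_cancel₀ (c.εF_ne F), one_smul]

theorem hat_mul_hatE {ζ : F} (hζ : IsPrimitiveRoot ζ p) {a : Matrix Ω Ω ℚ}
    (ha : Inv (G := G) a) :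
    c.hat ζ a * c.hat ζ c.E = algebraMap ℚ F (c.ψ1 a) • c.hat ζ c.E := by
  rw [← c.hat_mul hζ ha c.E_inv, c.mul_E ha, c.hat_smul]

theorem hatE_mul_hat {ζ : F} (hζ : IsPrimitiveRoot ζ p) {a : Matrix Ω Ω ℚ}
    (ha : Inv (G := G) a) :
    c.hat ζ c.E * c.hat ζ a = algebraMap ℚ F (c.ψ1 a) • c.hat ζ c.E := by
  rw [← c.hat_mul hζ c.E_inv ha, c.E_mul ha, c.hat_smul]

theorem hat_mul_Q {ζ : F} (hζ : IsPrimitiveRoot ζ p) {a : Matrix Ω Ω ℚ}
    (ha : Inv (G := G) a) :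
    c.hat ζ a * c.Q ζ = algebraMap ℚ F (c.ψ1 a) • c.Q ζ := by
  rw [Q, Matrix.mul_smul, c.hat_mul_hatE hζ ha, smul_comm]

theorem Q_mul_hat {ζ : F} (hζ : IsPrimitiveRoot ζ p) {a : Matrix Ω Ω ℚ}
    (ha : Inv (G := G) a) :
    c.Q ζ * c.hat ζ a = algebraMap ℚ F (c.ψ1 a) • c.Q ζ := by
  rw [Q, Matrix.smul_mul, c.hatE_mul_hat hζ ha, smul_comm]

theorem Q_idem {ζ : F} (hζ : IsPrimitiveRoot ζ p) : c.Q ζ * c.Q ζ = c.Q ζ := by
  have h := c.hat_mul_Q hζ c.E_inv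
  rw [c.hatE_eq, Matrix.smul_mul] at h
  have h2 : algebraMap ℚ F c.ε • (c.Q ζ * c.Q ζ) = algebraMap ℚ F c.ε • c.Q ζ := h
  have := congrArg (fun M => (algebraMap ℚ F c.ε)⁻¹ • M) h2
  simp only [smul_smul, inv_mul_cancel₀ (c.εF_ne F), one_smul] at this
  exact this

/-- The main case. -/
structure Main (ζ : F) : Prop where
  hζ : IsPrimitiveRoot ζ p
  tr : (c.Q ζ).trace = 1
  det : (c.Q ζ).det = 0

variable {c}

namespace Main

variable {ζ : F} (m : c.Main ζ)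

include m

theorem QQ' : c.Q ζ * (1 - c.Q ζ) = 0 := by
  rw [Matrix.mul_sub, Matrix.mul_one, c.Q_idem m.hζ, sub_self]

theorem Q'Q : (1 - c.Q ζ) * c.Q ζ = 0 := by
  rw [Matrix.sub_mul, Matrix.one_mul, c.Q_idem m.hζ, sub_self]

theorem Q'Q' : (1 - c.Q ζ) * (1 - c.Q ζ) = 1 - c.Q ζ := by
  rw [Matrix.mul_sub, Matrix.mul_one, m.Q'Q, sub_zero]

theorem detQ' : (1 - c.Q ζ).det = 0 := by
  rw [det_one_sub_two, m.tr, m.det]; ring

theorem trQ' : (1 - c.Q ζ).trace = 1 := by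
  rw [Matrix.trace_sub, Matrix.trace_one, m.tr]; simp; norm_num

end Main

/-- The third character. -/
def ω (c : Cfg p Ω G) (ζ : F) (a : Matrix Ω Ω ℚ) : F := (c.hat ζ a * (1 - c.Q ζ)).trace

namespace Main

variable {ζ : F} (m : c.Main ζ)

include m

theorem hat_mul_Q' {a : Matrix Ω Ω ℚ} (ha : Inv (G := G) a) :
    c.hat ζ a * (1 - c.Q ζ) = c.ω ζ a • (1 - c.Q ζ) := by
  have h1 : (1 - c.Q ζ) * c.hat ζ a * (1 - c.Q ζ) = c.hat ζ a * (1 - c.Q ζ) := by
    rw [Matrix.sub_mul, Matrix.one_mul, Matrix.sub_mul, c.Q_mul_hat m.hζ ha, Matrix.smul_mul,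
      m.QQ', smul_zero, sub_zero]
  rw [← h1, corner_two _ _ m.detQ']
  rfl

theorem hat_decomp {a : Matrix Ω Ω ℚ} (ha : Inv (G := G) a) :
    c.hat ζ a = algebraMap ℚ F (c.ψ1 a) • c.Q ζ + c.ω ζ a • (1 - c.Q ζ) := by
  rw [← m.hat_mul_Q' ha, ← c.hat_mul_Q m.hζ ha, ← Matrix.mul_add]
  simp

theorem trace_hat_eq {a : Matrix Ω Ω ℚ} (ha : Inv (G := G) a) :
    (c.hat ζ a).trace = algebraMap ℚ F (c.ψ1 a) + c.ω ζ a := by
  conv_lhs => rw [m.hat_decomp ha]
  rw [Matrix.trace_add, Matrix.trace_smul, Matrix.trace_smul, m.tr, m.trQ']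
  simp

omit m in
theorem ω_add (a b : Matrix Ω Ω ℚ) : c.ω ζ (a + b) = c.ω ζ a + c.ω ζ b := by
  simp only [ω, c.hat_add, Matrix.add_mul, Matrix.trace_add]

omit m in
theorem ω_sub (a b : Matrix Ω Ω ℚ) : c.ω ζ (a - b) = c.ω ζ a - c.ω ζ b := by
  simp only [ω, c.hat_sub, Matrix.sub_mul, Matrix.trace_sub]

omit m in
theorem ω_smul (q : ℚ) (a : Matrix Ω Ω ℚ) : c.ω ζ (q • a) = algebraMap ℚ F q * c.ω ζ a := by
  simp only [ω, c.hat_smul, Matrix.smul_mul, Matrix.trace_smul, smul_eq_mul]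

theorem ω_one : c.ω ζ (1 : Matrix Ω Ω ℚ) = 1 := by
  simp only [ω, c.hat_one, Matrix.one_mul]
  exact m.trQ'

theorem ω_mul {a b : Matrix Ω Ω ℚ} (ha : Inv (G := G) a) (hb : Inv (G := G) b) :
    c.ω ζ (a * b) = c.ω ζ a * c.ω ζ b := by
  have h : c.hat ζ (a * b) * (1 - c.Q ζ) = (c.ω ζ a * c.ω ζ b) • (1 - c.Q ζ) := by
    rw [c.hat_mul m.hζ ha hb, Matrix.mul_assoc, m.hat_mul_Q' hb, Matrix.mul_smul,
      m.hat_mul_Q' ha, smul_smul, mul_comm]
  have h2 : c.ω ζ (a * b) = (c.hat ζ (a * b) * (1 - c.Q ζ)).trace := rfl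
  rw [h2, h, Matrix.trace_smul, m.trQ']
  simp

theorem ω_E : c.ω ζ c.E = 0 := by
  unfold ω
  rw [c.hatE_eq, Matrix.smul_mul, m.QQ', smul_zero, Matrix.trace_zero]

variable [IsCyclotomicExtension {p} ℚ F]

theorem ε_eq_one : c.ε = 1 := by
  have h1 : (c.hat ζ c.E).trace = algebraMap ℚ F c.ε := by
    rw [c.hatE_eq, Matrix.trace_smul, m.tr]; simp
  rw [c.trace_hat] at h1
  have h2 : ∑ z : ZMod p,
      algebraMap ℚ F (c.S c.E z - if z = 0 then c.ε else 0) * ζ ^ z.val = 0 := by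
    have e : ∀ z : ZMod p, algebraMap ℚ F (c.S c.E z - if z = 0 then c.ε else 0) * ζ ^ z.val
        = algebraMap ℚ F (c.S c.E z) * χ ζ z
          - (if z = 0 then algebraMap ℚ F c.ε * χ ζ z else 0) := by
      intro z
      unfold χ
      split_ifs with hz <;> simp [sub_mul]
    rw [Finset.sum_congr rfl (fun z _ => e z), Finset.sum_sub_distrib, h1,
      Finset.sum_ite_eq' Finset.univ (0 : ZMod p)]
    simp [χ_zero]
  have h3 := coeff_const ζ m.hζ _ h2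
  have hS0 : c.S c.E 0 = 1 := by
    unfold S blk
    rw [c.E_diag, c.E_diag]; norm_num
  have h4 : ∀ z : ZMod p, c.S c.E z - (if z = 0 then c.ε else 0) = 1 - c.ε := by
    intro z
    have := h3 z
    simp only [if_true, hS0] at this
    exact this
  have h5 : ∑ z : ZMod p, (c.S c.E z - if z = 0 then c.ε else 0) = (p : ℚ) * (1 - c.ε) := by
    rw [Finset.sum_congr rfl (fun z _ => h4 z), Finset.sum_const, Finset.card_univ, ZMod.card,
      nsmul_eq_mul]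
  rw [Finset.sum_sub_distrib, c.sum_S c.E_inv, c.ψ0_E,
    Finset.sum_ite_eq' Finset.univ (0 : ZMod p)] at h5
  simp only [Finset.mem_univ, if_true] at h5
  have h6 : (p : ℚ) * (1 - c.ε) = 0 := by
    rw [← h5]; unfold ε; ring
  have hp0 : (p : ℚ) ≠ 0 := by exact_mod_cast hp.out.ne_zero
  rcases mul_eq_zero.mp h6 with h | h
  · exact absurd h hp0
  · linarith

theorem ψ1_E : c.ψ1 c.E = 1 := m.ε_eq_one

theorem hatE_eq_Q : c.hat ζ c.E = c.Q ζ := by
  rw [c.hatE_eq, m.ε_eq_one]; simp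

theorem S_E {z : ZMod p} (hz : z ≠ 0) : c.S c.E z = 0 := by
  -- redo the constancy argument with ε = 1
  have h1 : (c.hat ζ c.E).trace = 1 := by rw [m.hatE_eq_Q, m.tr]
  rw [c.trace_hat] at h1
  have h2 : ∑ z : ZMod p,
      algebraMap ℚ F (c.S c.E z - if z = 0 then 1 else 0) * ζ ^ z.val = 0 := by
    have e : ∀ z : ZMod p, algebraMap ℚ F (c.S c.E z - if z = 0 then 1 else 0) * ζ ^ z.val
        = algebraMap ℚ F (c.S c.E z) * χ ζ z
          - (if z = 0 then χ ζ z else 0) := by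
      intro z
      unfold χ
      split_ifs with hz <;> simp [sub_mul]
    rw [Finset.sum_congr rfl (fun z _ => e z), Finset.sum_sub_distrib, h1,
      Finset.sum_ite_eq' Finset.univ (0 : ZMod p)]
    simp [χ_zero]
  have h3 := coeff_const ζ m.hζ _ h2 z
  have hS0 : c.S c.E 0 = 1 := by
    unfold S blk
    rw [c.E_diag, c.E_diag]; norm_num
  simp only [if_true, hS0, if_neg hz] at h3
  linarith

/-- The trace identity. -/
theorem master {a : Matrix Ω Ω ℚ} (ha : Inv (G := G) a) (w : ZMod p) :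
    (p : ℚ) * c.S a (-w) = c.ψ0 a
      + c.ψ1 a * (1 + Algebra.trace ℚ F (χ ζ w)) + Algebra.trace ℚ F (c.ω ζ a * χ ζ w) := by
  have h1 : ∑ z, algebraMap ℚ F (c.S a z) * χ ζ z = algebraMap ℚ F (c.ψ1 a) + c.ω ζ a := by
    rw [← c.trace_hat, m.trace_hat_eq ha]
  have h2 : ∑ z, algebraMap ℚ F (c.S a z) * χ ζ (z + w)
      = algebraMap ℚ F (c.ψ1 a) * χ ζ w + c.ω ζ a * χ ζ w := by
    rw [← add_mul, ← h1, Finset.sum_mul]
    apply Finset.sum_congr rfl; intro z _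
    rw [χ_add m.hζ, mul_assoc]
  have h3 := congrArg (Algebra.trace ℚ F) h2
  rw [map_sum, map_add] at h3
  have hT : ∀ (q : ℚ) (x : F), Algebra.trace ℚ F (algebraMap ℚ F q * x)
      = q * Algebra.trace ℚ F x := by
    intro q x
    rw [← Algebra.smul_def, map_smul, smul_eq_mul]
  simp only [hT] at h3
  have hχ : ∀ z : ZMod p, Algebra.trace ℚ F (χ ζ (z + w))
      = (p : ℚ) * (if z = -w then 1 else 0) - 1 := by
    intro z
    rw [trace_root _ (χ_pow m.hζ _)]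
    have : (χ ζ (z + w) = 1) ↔ z = -w := by
      rw [χ_eq_one_iff m.hζ]; exact add_eq_zero_iff_eq_neg
    by_cases hz : z = -w
    · rw [if_pos (this.mpr hz), if_pos hz]; ring
    · rw [if_neg (fun h => hz (this.mp h)), if_neg hz]; ring
  have h4 : ∑ z, c.S a z * Algebra.trace ℚ F (χ ζ (z + w))
      = (p : ℚ) * c.S a (-w) - (c.ψ0 a + c.ψ1 a) := by
    rw [← c.sum_S ha]
    simp only [hχ, mul_sub, mul_one, Finset.sum_sub_distrib]
    congr 1
    rw [Finset.sum_eq_single (-w)]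
    · simp; ring
    · intro b _ hb; rw [if_neg hb]; ring
    · intro h; exact absurd (Finset.mem_univ _) h
  rw [h4] at h3
  linarith

/-- Invariant matrices are determined by their three characters. -/
theorem ext_char {a b : Matrix Ω Ω ℚ} (ha : Inv (G := G) a) (hb : Inv (G := G) b)
    (h0 : c.ψ0 a = c.ψ0 b) (h1 : c.ψ1 a = c.ψ1 b) (h2 : c.ω ζ a = c.ω ζ b) : a = b := by
  have hh : c.hat ζ a = c.hat ζ b := by
    rw [m.hat_decomp ha, m.hat_decomp hb, h1, h2]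
  have hab : Inv (G := G) (a - b) := ha.sub hb
  have e0 : c.ψ0 (a - b) = 0 := by
    unfold ψ0 at *
    simp only [Matrix.sub_apply, Finset.sum_sub_distrib, h0, sub_self]
  have e1 : c.ψ1 (a - b) = 0 := by
    unfold ψ1 at *
    simp only [Matrix.sub_apply, sub_mul, Finset.sum_sub_distrib, h1, sub_self]
  have e2 : c.hat ζ (a - b) = 0 := by rw [c.hat_sub, hh, sub_self]
  exact sub_eq_zero.mp (c.eq_zero_of_hat m.hζ hab e0 e1 e2)

end Main

end Cfg

end Cfsg.Agent.Lib.Helper6.W2p
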