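import Mathlib
import Cfsg.Agent.Lib.Helper6.W2pE

/-! Wielandt `2p`: the averaged class operators `R w` and their orthogonality. -/

namespace Cfsg.Agent.Lib.Helper6.W2p

open Matrix

universe u v

variable {p : ℕ} [hp : Fact p.Prime] {Ω : Type u} {G : Type v} [Fintype Ω] [DecidableEq Ω]
  [Group G] [Fintype G] [MulAction G Ω] [MulAction.IsPretransitive G Ω]
variable {F : Type*} [Field F] [CharZero F]

namespace Cfg

variable (c : Cfg p Ω G)

/-- The average of the conjugates of the permutation matrix of `σ w`. -/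
def R (w : ZMod p) : Matrix Ω Ω ℚ :=
  fun x y => (Fintype.card G : ℚ)⁻¹ * ∑ g : G, if (g * c.σ w * g⁻¹) • y = x then 1 else 0

theorem cardG_ne : (Fintype.card G : ℚ) ≠ 0 := by exact_mod_cast Fintype.card_ne_zero

theorem R_inv (w : ZMod p) : Inv (G := G) (c.R w) := by
  intro h x y
  unfold R
  congr 1
  have : ∀ g : G, (if (g * c.σ w * g⁻¹) • (h • y) = h • x then (1 : ℚ) else 0)
      = (fun g' : G => if (g' * c.σ w * g'⁻¹) • y = x then (1 : ℚ) else 0) (h⁻¹ * g) := by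
    intro g
    have e : ((h⁻¹ * g) * c.σ w * (h⁻¹ * g)⁻¹) • y = x ↔ (g * c.σ w * g⁻¹) • (h • y) = h • x := by
      rw [_root_.mul_inv_rev, inv_inv]
      constructor
      · intro hh
        rw [← hh]
        simp only [mul_smul, smul_inv_smul]
      · intro hh
        have := congrArg (fun t => h⁻¹ • t) hh
        simp only [inv_smul_smul] at this
        rw [← this]
        simp only [mul_smul]
    simp only [e]
  rw [Finset.sum_congr rfl (fun g _ => this g)]
  exact Equiv.sum_comp (Equiv.mulLeft h⁻¹)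
    (fun g' : G => if (g' * c.σ w * g'⁻¹) • y = x then (1 : ℚ) else 0)

theorem R_nonneg (w : ZMod p) (x y : Ω) : 0 ≤ c.R w x y := by
  unfold R
  apply mul_nonneg
  · positivity
  · apply Finset.sum_nonneg; intro g _; split_ifs <;> norm_num

theorem R_pos_of (w : ZMod p) (x y : Ω) (g : G) (h : (g * c.σ w * g⁻¹) • y = x) :
    0 < c.R w x y := by
  unfold R
  apply mul_pos
  · have := cardG_ne (G := G); positivity
  · have hnn : ∀ g' ∈ (Finset.univ : Finset G),
        (0 : ℚ) ≤ if (g' * c.σ w * g'⁻¹) • y = x then 1 else 0 := by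
      intro g' _; split_ifs <;> norm_num
    have := Finset.single_le_sum hnn (Finset.mem_univ g)
    rw [if_pos h] at this
    linarith

theorem exists_of_R_ne (w : ZMod p) (x y : Ω) (h : c.R w x y ≠ 0) :
    ∃ g : G, (g * c.σ w * g⁻¹) • y = x := by
  by_contra hne
  push Not at hne
  apply h
  unfold R
  rw [Finset.sum_eq_zero, mul_zero]
  intro g _
  rw [if_neg (hne g)]

theorem ψ0_R (w : ZMod p) : c.ψ0 (c.R w) = 1 := by
  unfold ψ0 R
  rw [← Finset.mul_sum, Finset.sum_comm]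
  have : ∀ g : G, ∑ y, (if (g * c.σ w * g⁻¹) • y = c.pt 0 0 then (1 : ℚ) else 0) = 1 := by
    intro g
    rw [Finset.sum_eq_single ((g * c.σ w * g⁻¹)⁻¹ • c.pt 0 0)]
    · rw [if_pos (smul_inv_smul _ _)]
    · intro b _ hb
      rw [if_neg]
      intro h
      apply hb
      rw [← h, inv_smul_smul]
    · intro h; exact absurd (Finset.mem_univ _) h
  rw [Finset.sum_congr rfl (fun g _ => this g), Finset.sum_const, Finset.card_univ, nsmul_eq_mul,
    mul_one, inv_mul_cancel₀ (cardG_ne (G := G))]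

omit [MulAction.IsPretransitive G Ω] in
theorem σ_inv_smul (w : ZMod p) (x : Ω) : (c.σ w)⁻¹ • x = c.σ (-w) • x := by
  obtain ⟨i, z, rfl⟩ := c.exists_pt x
  rw [inv_smul_eq_iff, c.σ_smul, c.σ_smul]
  congr 1; ring

omit [MulAction.IsPretransitive G Ω] in
theorem R_transpose (w : ZMod p) : (c.R w)ᵀ = c.R (-w) := by
  ext x y
  simp only [Matrix.transpose_apply, R]
  congr 1
  apply Finset.sum_congr rfl; intro g _
  have : (g * c.σ w * g⁻¹) • x = y ↔ (g * c.σ (-w) * g⁻¹) • y = x := by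
    have e1 : (g * c.σ (-w) * g⁻¹) • y = (g * (c.σ w)⁻¹ * g⁻¹) • y := by
      simp only [mul_smul]
      rw [c.σ_inv_smul]
    rw [e1]
    have e2 : g * (c.σ w)⁻¹ * g⁻¹ = (g * c.σ w * g⁻¹)⁻¹ := by group
    rw [e2, inv_smul_eq_iff]
    exact eq_comm
  simp only [this]

/-- The pairing with `R w` picks out the entries along `σ w`. -/
theorem pair_R {a : Matrix Ω Ω ℚ} (ha : Inv (G := G) a) (w : ZMod p) :
    ∑ x, ∑ y, a x y * c.R w x y = (p : ℚ) * c.S a (-w) := by
  have e1 : ∀ g : G, ∑ y, a ((g * c.σ w * g⁻¹) • y) y = ∑ y, a (c.σ w • y) y := by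
    intro g
    rw [← Equiv.sum_comp (MulAction.toPerm g)]
    apply Finset.sum_congr rfl; intro y _
    simp only [MulAction.toPerm_apply, mul_smul, inv_smul_smul]
    exact ha g _ _
  have e2 : ∑ x, ∑ y, a x y * c.R w x y
      = (Fintype.card G : ℚ)⁻¹ * ∑ g : G, ∑ y, a ((g * c.σ w * g⁻¹) • y) y := by
    unfold R
    rw [Finset.sum_comm]
    have : ∀ y, ∑ x, a x y * ((Fintype.card G : ℚ)⁻¹ *
        ∑ g : G, if (g * c.σ w * g⁻¹) • y = x then 1 else 0)
        = (Fintype.card G : ℚ)⁻¹ * ∑ g : G, a ((g * c.σ w * g⁻¹) • y) y := by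
      intro y
      have e3 : ∀ x, a x y * ((Fintype.card G : ℚ)⁻¹ *
          ∑ g : G, if (g * c.σ w * g⁻¹) • y = x then 1 else 0)
          = (Fintype.card G : ℚ)⁻¹ * ∑ g : G, if (g * c.σ w * g⁻¹) • y = x then a x y else 0 := by
        intro x
        rw [mul_left_comm, Finset.mul_sum]
        congr 1
        apply Finset.sum_congr rfl; intro g _
        split_ifs <;> simp
      rw [Finset.sum_congr rfl (fun x _ => e3 x), ← Finset.mul_sum, Finset.sum_comm]
      congr 1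
      apply Finset.sum_congr rfl; intro g _
      rw [Finset.sum_ite_eq Finset.univ ((g * c.σ w * g⁻¹) • y)]
      simp
    rw [Finset.sum_congr rfl (fun y _ => this y), ← Finset.mul_sum, Finset.sum_comm]
  rw [e2, Finset.sum_congr rfl (fun g _ => e1 g), Finset.sum_const, Finset.card_univ,
    nsmul_eq_mul, ← mul_assoc, inv_mul_cancel₀ (cardG_ne (G := G)), one_mul]
  rw [c.sum_pt, Fin.sum_univ_two]
  simp only [c.σ_smul, c.blk_eq ha]
  have : ∀ k : ZMod p, k - (k + w) = -w := fun k => by ring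
  simp only [this, Finset.sum_const, Finset.card_univ, ZMod.card, nsmul_eq_mul, S]
  ring

omit [MulAction.IsPretransitive G Ω] in
theorem trace_eq_S {b : Matrix Ω Ω ℚ} (hb : Inv (G := G) b) :
    b.trace = (p : ℚ) * c.S b 0 := by
  unfold Matrix.trace
  simp only [Matrix.diag_apply]
  rw [c.sum_pt, Fin.sum_univ_two]
  simp only [c.blk_eq hb, sub_self, Finset.sum_const, Finset.card_univ, ZMod.card, nsmul_eq_mul, S]
  ring

omit [MulAction.IsPretransitive G Ω] [DecidableEq Ω] [Fintype G] hp in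
theorem trace_mul_transpose' (a b : Matrix Ω Ω ℚ) :
    (a * bᵀ).trace = ∑ x, ∑ y, a x y * b x y := by
  unfold Matrix.trace
  simp only [Matrix.diag_apply, Matrix.mul_apply, Matrix.transpose_apply]

omit [MulAction.IsPretransitive G Ω] in
theorem trace_E : c.E.trace = (p : ℚ) := by
  unfold Matrix.trace
  simp only [Matrix.diag_apply, c.E_diag, Finset.sum_const, Finset.card_univ]
  rw [← Fintype.card_congr c.e, Fintype.card_prod, Fintype.card_fin, ZMod.card]
  simp
  ring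

variable {c}

namespace Main

variable {ζ : F} (m : c.Main ζ) [IsCyclotomicExtension {p} ℚ F]

include m

theorem trace_χ {w : ZMod p} (hw : w ≠ 0) : Algebra.trace ℚ F (χ ζ w) = -1 := by
  rw [trace_root _ (χ_pow m.hζ _), if_neg]
  rw [χ_eq_one_iff m.hζ]; exact hw

theorem trace_χ_zero : Algebra.trace ℚ F (χ ζ (0 : ZMod p)) = (p : ℚ) - 1 := by
  rw [trace_root _ (χ_pow m.hζ _), if_pos]
  rw [χ_eq_one_iff m.hζ]

theorem ψ1_R {w : ZMod p} (hw : w ≠ 0) : c.ψ1 (c.R w) = 0 := by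
  have h1 := c.pair_R c.E_inv (-w)
  rw [m.S_E (by simpa using hw), mul_zero, ← trace_mul_transpose', c.R_transpose,
    neg_neg, c.E_mul (c.R_inv w), Matrix.trace_smul, c.trace_E, smul_eq_mul] at h1
  have hp0 : (p : ℚ) ≠ 0 := by exact_mod_cast hp.out.ne_zero
  exact (mul_eq_zero.mp h1).resolve_right hp0

/-- The characterisation of `ω (R (-w))`. -/
theorem ω_R_char {a : Matrix Ω Ω ℚ} (ha : Inv (G := G) a) {w : ZMod p} (hw : w ≠ 0) :
    Algebra.trace ℚ F (c.ω ζ a * (c.ω ζ (c.R (-w)) - χ ζ w)) = 0 := by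
  have h1 := c.pair_R ha w
  rw [m.master ha w, m.trace_χ hw] at h1
  have h2 : ∑ x, ∑ y, a x y * c.R w x y = (a * c.R (-w)).trace := by
    rw [← c.R_transpose, trace_mul_transpose']
  have h3 := m.master (ha.mul (c.R_inv (-w))) 0
  rw [neg_zero, ← c.trace_eq_S (ha.mul (c.R_inv (-w))), m.trace_χ_zero, χ_zero, mul_one,
    c.ψ0_mul ha (c.R_inv _), c.ψ1_mul ha (c.R_inv _), c.ψ0_R,
    m.ψ1_R (by simpa using hw), m.ω_mul ha (c.R_inv _)] at h3
  rw [h2, h3] at h1
  rw [mul_sub, map_sub]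
  linarith

/-- The field of values of `ω`. -/
def K : IntermediateField ℚ F :=
  haveI := IsCyclotomicExtension.finiteDimensional {p} ℚ F
  Subalgebra.toIntermediateField'
    { carrier := {x | ∃ a : Matrix Ω Ω ℚ, Inv (G := G) a ∧ c.ω ζ a = x}
      mul_mem' := by
        rintro _ _ ⟨a, ha, rfl⟩ ⟨b, hb, rfl⟩
        exact ⟨a * b, ha.mul hb, m.ω_mul ha hb⟩
      add_mem' := by
        rintro _ _ ⟨a, ha, rfl⟩ ⟨b, hb, rfl⟩
        exact ⟨a + b, ha.add hb, ω_add a b⟩
      algebraMap_mem' := by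
        intro q
        refine ⟨q • (1 : Matrix Ω Ω ℚ), Inv.one.smul q, ?_⟩
        rw [ω_smul, m.ω_one, mul_one] }
    (Subalgebra.isField_of_algebraic _)

theorem mem_K {a : Matrix Ω Ω ℚ} (ha : Inv (G := G) a) : c.ω ζ a ∈ m.K := ⟨a, ha, rfl⟩

theorem of_mem_K {x : F} (hx : x ∈ m.K) : ∃ a : Matrix Ω Ω ℚ, Inv (G := G) a ∧ c.ω ζ a = x := hx

/-- Two averaged class operators are equal or have disjoint supports. -/
theorem R_dichotomy {w w' : ZMod p} (hw : w ≠ 0) (hw' : w' ≠ 0) :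
    c.R w = c.R w' ∨ ∀ x y, c.R w x y * c.R w' x y = 0 := by
  have hnw : -w ≠ 0 := by simpa using hw
  have hnw' : -w' ≠ 0 := by simpa using hw'
  have hch : ∀ κ ∈ m.K, Algebra.trace ℚ F (κ * (c.ω ζ (c.R w) - χ ζ (-w))) = 0 := by
    intro κ hκ
    obtain ⟨a, ha, rfl⟩ := m.of_mem_K hκ
    have := m.ω_R_char ha hnw
    rwa [neg_neg] at this
  have hch' : ∀ κ ∈ m.K, Algebra.trace ℚ F (κ * (c.ω ζ (c.R w') - χ ζ (-w'))) = 0 := by
    intro κ hκ
    obtain ⟨a, ha, rfl⟩ := m.of_mem_K hκ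
    have := m.ω_R_char ha hnw'
    rwa [neg_neg] at this
  rcases lemmaG (p := p) m.K (χ ζ (-w)) (χ ζ (-w')) (c.ω ζ (c.R w)) (c.ω ζ (c.R w'))
    (χ_pow m.hζ _) (χ_pow m.hζ _) (m.mem_K (c.R_inv w)) (m.mem_K (c.R_inv w')) hch hch'
    with h | h
  · left
    apply m.ext_char (c.R_inv w) (c.R_inv w')
    · rw [c.ψ0_R, c.ψ0_R]
    · rw [m.ψ1_R hw, m.ψ1_R hw']
    · exact h
  · right
    rw [χ_neg m.hζ, inv_inv] at h
    have h1 := c.pair_R (c.R_inv w) w'
    rw [m.master (c.R_inv w) w', m.trace_χ hw', c.ψ0_R, m.ψ1_R hw, h] at h1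
    have h2 : ∑ x, ∑ y, c.R w x y * c.R w' x y = 0 := by rw [h1]; ring
    intro x y
    have hnn : ∀ x ∈ (Finset.univ : Finset Ω), 0 ≤ ∑ y, c.R w x y * c.R w' x y := by
      intro x _
      apply Finset.sum_nonneg; intro y _
      exact mul_nonneg (c.R_nonneg _ _ _) (c.R_nonneg _ _ _)
    have h3 := (Finset.sum_eq_zero_iff_of_nonneg hnn).mp h2 x (Finset.mem_univ x)
    have hnn2 : ∀ y ∈ (Finset.univ : Finset Ω), 0 ≤ c.R w x y * c.R w' x y := by
      intro y _
      exact mul_nonneg (c.R_nonneg _ _ _) (c.R_nonneg _ _ _)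
    exact (Finset.sum_eq_zero_iff_of_nonneg hnn2).mp h3 y (Finset.mem_univ y)

end Main

end Cfg

end Cfsg.Agent.Lib.Helper6.W2p
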