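import Mathlib
import Cfsg.Agent.Lib.Helper6.W2pF

/-! Wielandt `2p`: orbitals, blocks, and the rank three conclusion in the main case. -/

namespace Cfsg.Agent.Lib.Helper6.W2p

open Matrix

universe u v

section Rel

variable {Ω : Type u} {G : Type v} [Group G] [MulAction G Ω]

/-- `(x, y)` lies in the orbital of `(x₀, y₀)`. -/
def rel (G : Type v) [Group G] [MulAction G Ω] (x₀ y₀ x y : Ω) : Prop :=
  ∃ g : G, g • x₀ = x ∧ g • y₀ = y

theorem rel_refl (x y : Ω) : rel G x y x y := ⟨1, one_smul _ _, one_smul _ _⟩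

theorem rel_symm {x₀ y₀ x y : Ω} (h : rel G x₀ y₀ x y) : rel G x y x₀ y₀ := by
  obtain ⟨g, h1, h2⟩ := h
  exact ⟨g⁻¹, by rw [← h1, inv_smul_smul], by rw [← h2, inv_smul_smul]⟩

theorem rel_trans {x₀ y₀ x y x' y' : Ω} (h : rel G x₀ y₀ x y) (h' : rel G x y x' y') :
    rel G x₀ y₀ x' y' := by
  obtain ⟨g, h1, h2⟩ := h
  obtain ⟨g', h1', h2'⟩ := h'
  exact ⟨g' * g, by rw [mul_smul, h1, h1'], by rw [mul_smul, h2, h2']⟩

theorem rel_smul {x₀ y₀ x y : Ω} (h : rel G x₀ y₀ x y) (g : G) :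
    rel G x₀ y₀ (g • x) (g • y) := rel_trans h ⟨g, rfl, rfl⟩

theorem rel_ne {x₀ y₀ x y : Ω} (h : rel G x₀ y₀ x y) (hne : x₀ ≠ y₀) : x ≠ y := by
  obtain ⟨g, h1, h2⟩ := h
  rw [← h1, ← h2]
  exact fun h => hne (MulAction.injective g h)

theorem Inv_rel {a : Matrix Ω Ω ℚ} (ha : Cfg.Inv (G := G) a) {x₀ y₀ x y : Ω}
    (h : rel G x₀ y₀ x y) : a x y = a x₀ y₀ := by
  obtain ⟨g, h1, h2⟩ := h
  rw [← h1, ← h2]; exact ha g _ _

/-- The class of a point under an invariant equivalence relation is a block. -/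
theorem isBlock_of_equiv (r : Ω → Ω → Prop) (hrefl : ∀ x, r x x)
    (hsymm : ∀ x y, r x y → r y x) (htrans : ∀ x y z, r x y → r y z → r x z)
    (hinv : ∀ (g : G) x y, r x y → r (g • x) (g • y)) (x₀ : Ω) :
    MulAction.IsBlock G {y | r x₀ y} := by
  rw [MulAction.isBlock_iff_smul_eq_of_mem]
  intro g a ha hga
  simp only [Set.mem_setOf_eq] at ha hga
  ext y
  simp only [Set.mem_smul_set_iff_inv_smul_mem, Set.mem_setOf_eq]
  constructor
  · intro h
    -- r x₀ (g⁻¹ y) → r (g x₀) y ; r x₀ a, r x₀ (g a) → r (g x₀) (g a) → r x₀ (g x₀)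
    have h1 : r (g • x₀) y := by
      have := hinv g _ _ h
      rwa [smul_inv_smul] at this
    have h2 : r (g • x₀) (g • a) := hinv g _ _ ha
    have h3 : r x₀ (g • x₀) := htrans _ _ _ hga (hsymm _ _ h2)
    exact htrans _ _ _ h3 h1
  · intro h
    have h2 : r (g • x₀) (g • a) := hinv g _ _ ha
    have h3 : r (g • x₀) x₀ := htrans _ _ _ h2 (hsymm _ _ hga)
    have h4 : r (g • x₀) y := htrans _ _ _ h3 h
    have := hinv g⁻¹ _ _ h4
    rwa [inv_smul_smul] at this

end Rel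

variable {p : ℕ} [hp : Fact p.Prime] {Ω : Type u} {G : Type v} [Fintype Ω] [DecidableEq Ω]
  [Group G] [Fintype G] [MulAction G Ω]
variable {F : Type*} [Field F] [CharZero F]

namespace Cfg

variable (c : Cfg p Ω G)

theorem zero_ne_one_zmod : (0 : ZMod p) ≠ 1 := by
  haveI : Fact (1 < p) := ⟨hp.out.one_lt⟩
  exact zero_ne_one

theorem v_eq_or (x : Ω) : c.v x = 1 ∨ c.v x = -1 := by
  unfold v; split_ifs <;> simp

variable [hprim : MulAction.IsPreprimitive G Ω]

/-- Support of `R w`. -/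
theorem R_ne_iff (w : ZMod p) (x y : Ω) :
    c.R w x y ≠ 0 ↔
      (rel G (c.pt 0 0) (c.pt 0 (-w)) x y ∨ rel G (c.pt 1 0) (c.pt 1 (-w)) x y) := by
  constructor
  · intro h
    obtain ⟨g, hg⟩ := c.exists_of_R_ne w x y h
    obtain ⟨i, k, hik⟩ := c.exists_pt (g⁻¹ • y)
    have hy : y = g • c.pt i k := by rw [← hik, smul_inv_smul]
    have hx : x = g • c.pt i (k + w) := by
      rw [← hg, hy]
      simp only [mul_smul, inv_smul_smul, c.σ_smul]
    have hr : rel G (c.pt i 0) (c.pt i (-w)) x y := by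
      refine ⟨g * c.σ (k + w), ?_, ?_⟩
      · rw [mul_smul, c.σ_smul, hx]; congr 2; ring
      · rw [mul_smul, c.σ_smul, hy]; congr 2; ring
    fin_cases i
    · left; exact hr
    · right; exact hr
  · intro h
    have key : ∀ i : Fin 2, rel G (c.pt i 0) (c.pt i (-w)) x y → c.R w x y ≠ 0 := by
      intro i ⟨g, h1, h2⟩
      apply (c.R_pos_of w x y g _).ne'
      rw [← h2, ← h1]
      simp only [mul_smul, inv_smul_smul, c.σ_smul]
      congr 2; ring
    rcases h with h | h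
    · exact key 0 h
    · exact key 1 h

/-- Every pair of distinct points is conjugate to a pair inside an orbit of `π`. -/
theorem exists_within {x₀ y₀ : Ω} (hne : x₀ ≠ y₀) :
    ∃ (i : Fin 2) (z : ZMod p), z ≠ 0 ∧ rel G (c.pt i 0) (c.pt i z) x₀ y₀ := by
  by_contra hcon
  push Not at hcon
  -- the two points are always on opposite sides
  have hopp : ∀ g : G, c.v (g⁻¹ • x₀) * c.v (g⁻¹ • y₀) = -1 := by
    intro g
    obtain ⟨i, k, hik⟩ := c.exists_pt (g⁻¹ • x₀)
    obtain ⟨j, l, hjl⟩ := c.exists_pt (g⁻¹ • y₀)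
    have hij : i ≠ j := by
      rintro rfl
      have hkl : l - k ≠ 0 := by
        intro h
        apply hne
        have : l = k := by linear_combination h
        have h2 : g⁻¹ • x₀ = g⁻¹ • y₀ := by rw [hik, hjl, this]
        exact MulAction.injective g⁻¹ h2
      apply hcon i (l - k) hkl
      refine ⟨g * c.σ k, ?_, ?_⟩
      · rw [mul_smul, c.σ_smul, zero_add, ← hik, smul_inv_smul]
      · rw [mul_smul, c.σ_smul, sub_add_cancel, ← hjl, smul_inv_smul]
    rw [hik, hjl, c.v_pt, c.v_pt]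
    fin_cases i <;> fin_cases j <;> simp at hij ⊢
  -- the relation "product of signs is constant"
  let r : Ω → Ω → Prop := fun x y =>
    ∀ g g' : G, c.v (g⁻¹ • x) * c.v (g⁻¹ • y) = c.v (g'⁻¹ • x) * c.v (g'⁻¹ • y)
  have hr_refl : ∀ x, r x x := fun x g g' => by rw [c.v_mul_self, c.v_mul_self]
  have hr_symm : ∀ x y, r x y → r y x := fun x y h g g' => by
    rw [mul_comm, h g g', mul_comm]
  have hr_trans : ∀ x y z, r x y → r y z → r x z := by
    intro x y z h1 h2 g g'
    have e : ∀ k : G, c.v (k⁻¹ • x) * c.v (k⁻¹ • z)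
        = (c.v (k⁻¹ • x) * c.v (k⁻¹ • y)) * (c.v (k⁻¹ • y) * c.v (k⁻¹ • z)) := by
      intro k
      have := c.v_mul_self (k⁻¹ • y)
      calc c.v (k⁻¹ • x) * c.v (k⁻¹ • z)
          = c.v (k⁻¹ • x) * (c.v (k⁻¹ • y) * c.v (k⁻¹ • y)) * c.v (k⁻¹ • z) := by
            rw [this, mul_one]
        _ = _ := by ring
    rw [e g, e g', h1 g g', h2 g g']
  have hr_inv : ∀ (h : G) x y, r x y → r (h • x) (h • y) := by
    intro h x y hxy g g'
    have := hxy (h⁻¹ * g) (h⁻¹ * g')
    simpa only [_root_.mul_inv_rev, inv_inv, mul_smul] using this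
  have hB1 := isBlock_of_equiv (G := G) r hr_refl hr_symm hr_trans hr_inv x₀
  have hx₀y₀ : r x₀ y₀ := fun g g' => by rw [hopp g, hopp g']
  have hB1univ : {y | r x₀ y} = Set.univ := by
    rcases hprim.isTrivialBlock_of_isBlock hB1 with h | h
    · exact absurd (h (hr_refl x₀) hx₀y₀) hne
    · exact h
  have hr_all : ∀ x y, r x y := by
    intro x y
    have hx : r x₀ x := by
      have : x ∈ {y | r x₀ y} := by rw [hB1univ]; trivial
      exact this
    have hy : r x₀ y := by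
      have : y ∈ {y | r x₀ y} := by rw [hB1univ]; trivial
      exact this
    exact hr_trans _ _ _ (hr_symm _ _ hx) hy
  -- the relation "always on the same side"
  let s : Ω → Ω → Prop := fun x y => ∀ g : G, c.v (g⁻¹ • x) = c.v (g⁻¹ • y)
  have hs_inv : ∀ (h : G) x y, s x y → s (h • x) (h • y) := by
    intro h x y hxy g
    have := hxy (h⁻¹ * g)
    simpa only [_root_.mul_inv_rev, inv_inv, mul_smul] using this
  have hB2 := isBlock_of_equiv (G := G) s (fun x g => rfl) (fun x y h g => (h g).symm)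
    (fun x y z h1 h2 g => (h1 g).trans (h2 g)) hs_inv (c.pt 0 0)
  have h01 : s (c.pt 0 0) (c.pt 0 1) := by
    intro g
    have h1 := hr_all (c.pt 0 0) (c.pt 0 1) g 1
    simp only [inv_one, one_smul, c.v_pt, if_true, mul_one] at h1
    rcases c.v_eq_or (g⁻¹ • c.pt 0 0) with ha | ha <;>
      rcases c.v_eq_or (g⁻¹ • c.pt 0 1) with hb | hb <;> rw [ha, hb] at h1 ⊢ <;> norm_num at h1
  have hne01 : c.pt 0 0 ≠ c.pt 0 1 := by
    intro h
    exact zero_ne_one_zmod (p := p) (c.pt_inj.mp h).2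
  have hB2univ : {y | s (c.pt 0 0) y} = Set.univ := by
    rcases hprim.isTrivialBlock_of_isBlock hB2 with h | h
    · exact absurd (h (fun g => rfl) h01) hne01
    · exact h
  have h10 : s (c.pt 0 0) (c.pt 1 0) := by
    have : c.pt 1 0 ∈ {y | s (c.pt 0 0) y} := by rw [hB2univ]; trivial
    exact this
  have := h10 1
  simp only [inv_one, one_smul, c.v_pt] at this
  norm_num at this

end Cfg

end Cfsg.Agent.Lib.Helper6.W2p
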