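import Mathlib
import Cfsg.Agent.Lib.Helper6.W2pG

/-! Wielandt `2p`: the main case gives rank three with the stated parameters. -/

namespace Cfsg.Agent.Lib.Helper6.W2p

open Matrix

universe u v

variable {p : ℕ} [hp : Fact p.Prime] {Ω : Type u} {G : Type v} [Fintype Ω] [DecidableEq Ω]
  [Group G] [Fintype G] [MulAction G Ω]
variable {F : Type*} [Field F] [CharZero F]

namespace Cfg

variable (c : Cfg p Ω G)

/-- The union of the orbitals of the two basic pairs. -/
def e1 (x y : Ω) : Prop :=
  rel G (c.pt 0 0) (c.pt 0 1) x y ∨ rel G (c.pt 1 0) (c.pt 1 1) x y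

open Classical in
/-- The indicator matrix of `e1`. -/
noncomputable def A1 : Matrix Ω Ω ℚ := fun x y => if c.e1 x y then 1 else 0

theorem e1_smul (g : G) (x y : Ω) : c.e1 (g • x) (g • y) ↔ c.e1 x y := by
  unfold e1
  constructor
  · rintro (h | h)
    · left; have := rel_smul h g⁻¹; simpa only [inv_smul_smul] using this
    · right; have := rel_smul h g⁻¹; simpa only [inv_smul_smul] using this
  · rintro (h | h)
    · left; exact rel_smul h g
    · right; exact rel_smul h g

theorem A1_inv : Inv (G := G) c.A1 := by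
  intro g x y
  unfold A1
  have := c.e1_smul g x y
  by_cases h : c.e1 x y
  · rw [if_pos h, if_pos (this.mpr h)]
  · rw [if_neg h, if_neg (fun h' => h (this.mp h'))]

theorem pt_ne (i : Fin 2) : c.pt i 0 ≠ c.pt i 1 := by
  intro h
  exact zero_ne_one_zmod (p := p) (c.pt_inj.mp h).2

theorem e1_ne {x y : Ω} (h : c.e1 x y) : x ≠ y := by
  rcases h with h | h
  · exact rel_ne h (c.pt_ne 0)
  · exact rel_ne h (c.pt_ne 1)

theorem e1_trans {x y x' y' : Ω} (h : c.e1 x y) (h' : rel G x y x' y') : c.e1 x' y' := by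
  rcases h with h | h
  · left; exact rel_trans h h'
  · right; exact rel_trans h h'

variable [hprim : MulAction.IsPreprimitive G Ω]

theorem E_zero_contra (h : ∀ x y, x ≠ y → c.E x y = 0) : False := by
  have h1 := c.E_row (c.pt 0 0)
  rw [Finset.sum_eq_single (c.pt 0 0)] at h1
  · rw [c.E_diag] at h1; norm_num at h1
  · intro b _ hb; exact h _ _ hb.symm
  · intro h; exact absurd (Finset.mem_univ _) h

variable {c}

namespace Main

variable {ζ : F} (m : c.Main ζ) [IsCyclotomicExtension {p} ℚ F]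

include m

theorem R_neg_one_ne_iff (x y : Ω) : c.R (-1) x y ≠ 0 ↔ c.e1 x y := by
  rw [c.R_ne_iff, neg_neg]; rfl

theorem blk_A1_eq (z : ZMod p) : c.blk c.A1 0 0 z = c.blk c.A1 1 1 z := by
  classical
  by_cases hz : z = 0
  · subst hz
    unfold blk A1
    rw [if_neg (fun h => c.e1_ne h rfl), if_neg (fun h => c.e1_ne h rfl)]
  · have hnz : -z ≠ 0 := by simpa using hz
    have hn1 : (-1 : ZMod p) ≠ 0 := by
      have := zero_ne_one_zmod (p := p)
      simpa using this.symm
    have hsupp : ∀ i : Fin 2, c.R (-z) (c.pt i 0) (c.pt i z) ≠ 0 := by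
      intro i
      rw [c.R_ne_iff, neg_neg]
      fin_cases i
      · left; exact rel_refl _ _
      · right; exact rel_refl _ _
    rcases m.R_dichotomy hnz hn1 with h | h
    · have : ∀ i : Fin 2, c.e1 (c.pt i 0) (c.pt i z) := by
        intro i
        rw [← m.R_neg_one_ne_iff, ← h]
        exact hsupp i
      unfold blk A1
      rw [if_pos (this 0), if_pos (this 1)]
    · have : ∀ i : Fin 2, ¬ c.e1 (c.pt i 0) (c.pt i z) := by
        intro i hi
        rw [← m.R_neg_one_ne_iff] at hi
        rcases mul_eq_zero.mp (h (c.pt i 0) (c.pt i z)) with h1 | h1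
        · exact hsupp i h1
        · exact hi h1
      unfold blk A1
      rw [if_neg (this 0), if_neg (this 1)]

theorem E_within_zero_contra (h : ∀ (i : Fin 2) (z : ZMod p), z ≠ 0 → c.blk c.E i i z = 0) :
    False := by
  apply c.E_zero_contra
  intro x y hxy
  obtain ⟨i, z, hz, hr⟩ := c.exists_within hxy
  rw [Inv_rel c.E_inv hr]
  exact h i z hz

/-- In the main case every pair of distinct points lies in one of the two basic orbitals. -/
theorem all_e1 (x y : Ω) (hxy : x ≠ y) : c.e1 x y := by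
  classical
  have hblk := m.blk_A1_eq
  have hhat : c.hat ζ c.A1 0 0 = c.hat ζ c.A1 1 1 := by
    unfold hat
    apply Finset.sum_congr rfl; intro z _
    rw [hblk z]
  have hdec := m.hat_decomp c.A1_inv
  have h00 := congrFun (congrFun hdec 0) 0
  have h11 := congrFun (congrFun hdec 1) 1
  simp only [Matrix.add_apply, Matrix.smul_apply, Matrix.sub_apply, Matrix.one_apply_eq,
    smul_eq_mul] at h00 h11
  have hkey : (algebraMap ℚ F (c.ψ1 c.A1) - c.ω ζ c.A1) * (c.Q ζ 0 0 - c.Q ζ 1 1) = 0 := by
    have : c.hat ζ c.A1 0 0 - c.hat ζ c.A1 1 1 = 0 := by rw [hhat, sub_self]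
    rw [h00, h11] at this
    linear_combination this
  rcases mul_eq_zero.mp hkey with hA | hB
  · -- hat A1 is scalar
    have hω : c.ω ζ c.A1 = algebraMap ℚ F (c.ψ1 c.A1) := by
      rw [← sub_eq_zero, ← neg_sub, hA, neg_zero]
    have h00' : c.hat ζ c.A1 0 0 = algebraMap ℚ F (c.ψ1 c.A1) := by
      rw [h00, hω]; ring
    have h2 : ∑ z : ZMod p,
        algebraMap ℚ F (c.blk c.A1 0 0 z - if z = 0 then c.ψ1 c.A1 else 0) * ζ ^ z.val = 0 := by
      have e : ∀ z : ZMod p,
          algebraMap ℚ F (c.blk c.A1 0 0 z - if z = 0 then c.ψ1 c.A1 else 0) * ζ ^ z.val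
          = algebraMap ℚ F (c.blk c.A1 0 0 z) * χ ζ z
            - (if z = 0 then algebraMap ℚ F (c.ψ1 c.A1) * χ ζ z else 0) := by
        intro z
        unfold χ
        split_ifs with hz <;> simp [sub_mul]
      rw [Finset.sum_congr rfl (fun z _ => e z), Finset.sum_sub_distrib,
        Finset.sum_ite_eq' Finset.univ (0 : ZMod p)]
      have : ∑ z, algebraMap ℚ F (c.blk c.A1 0 0 z) * χ ζ z = c.hat ζ c.A1 0 0 := rfl
      rw [this, h00']
      simp [χ_zero]
    have h3 := coeff_const ζ m.hζ _ h2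
    have hb0 : c.blk c.A1 0 0 0 = 0 := by
      unfold blk A1
      rw [if_neg (fun h => c.e1_ne h rfl)]
    have hb1 : c.blk c.A1 0 0 1 = 1 := by
      unfold blk A1
      rw [if_pos (show c.e1 _ _ from Or.inl (rel_refl _ _))]
    have hone := h3 1
    simp only [if_true, hb0, hb1, if_neg (zero_ne_one_zmod (p := p)).symm] at hone
    have hall : ∀ z : ZMod p, z ≠ 0 → c.blk c.A1 0 0 z = 1 := by
      intro z hz
      have := h3 z
      simp only [if_true, hb0, if_neg hz] at this
      linarith
    have hall' : ∀ (i : Fin 2) (z : ZMod p), z ≠ 0 → c.e1 (c.pt i 0) (c.pt i z) := by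
      intro i z hz
      have h1 : c.blk c.A1 i i z = 1 := by
        fin_cases i
        · exact hall z hz
        · have := hblk z
          simp only [Fin.mk_one, Fin.isValue]
          rw [← this]; exact hall z hz
      unfold blk A1 at h1
      by_contra hcon
      rw [if_neg hcon] at h1
      norm_num at h1
    obtain ⟨i, z, hz, hr⟩ := c.exists_within hxy
    exact c.e1_trans (hall' i z hz) hr
  · -- Q 0 0 = Q 1 1
    exfalso
    apply m.E_within_zero_contra
    have hQ : c.Q ζ 0 0 = c.Q ζ 1 1 := sub_eq_zero.mp hB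
    rw [← m.hatE_eq_Q] at hQ
    have h2 : ∑ z : ZMod p,
        algebraMap ℚ F (c.blk c.E 0 0 z - c.blk c.E 1 1 z) * ζ ^ z.val = 0 := by
      have e : ∀ z : ZMod p,
          algebraMap ℚ F (c.blk c.E 0 0 z - c.blk c.E 1 1 z) * ζ ^ z.val
          = algebraMap ℚ F (c.blk c.E 0 0 z) * χ ζ z
            - algebraMap ℚ F (c.blk c.E 1 1 z) * χ ζ z := by
        intro z
        unfold χ
        rw [map_sub, sub_mul]
      rw [Finset.sum_congr rfl (fun z _ => e z), Finset.sum_sub_distrib]
      have e0 : ∑ z, algebraMap ℚ F (c.blk c.E 0 0 z) * χ ζ z = c.hat ζ c.E 0 0 := rfl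
      have e1 : ∑ z, algebraMap ℚ F (c.blk c.E 1 1 z) * χ ζ z = c.hat ζ c.E 1 1 := rfl
      rw [e0, e1, hQ, sub_self]
    have h3 := coeff_const ζ m.hζ _ h2
    have hd0 : c.blk c.E 0 0 0 - c.blk c.E 1 1 0 = 0 := by
      unfold blk; rw [c.E_diag, c.E_diag]; ring
    intro i z hz
    have h4 := h3 z
    rw [hd0] at h4
    have h5 := m.S_E hz
    unfold S at h5
    fin_cases i
    · simp only [Fin.zero_eta, Fin.isValue]; linarith
    · simp only [Fin.mk_one, Fin.isValue]; linarith

end Main

end Cfg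

end Cfsg.Agent.Lib.Helper6.W2p
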