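import Mathlib
import Cfsg.Agent.Lib.Helper6.W2pH

/-! Wielandt `2p`: the degenerate cases and the abstract core theorem. -/

namespace Cfsg.Agent.Lib.Helper6.W2p

open Matrix

universe u v

variable {p : ℕ} [hp : Fact p.Prime] {Ω : Type u} {G : Type v} [Fintype Ω] [DecidableEq Ω]
  [Group G] [Fintype G] [MulAction G Ω]
variable {F : Type*} [Field F] [CharZero F]

namespace Cfg

variable (c : Cfg p Ω G) [hprim : MulAction.IsPreprimitive G Ω]

theorem same_side_contra
    (h01 : ∀ g : G, c.v (g⁻¹ • c.pt 0 0) = c.v (g⁻¹ • c.pt 0 1)) : False := by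
  let s : Ω → Ω → Prop := fun x y => ∀ g : G, c.v (g⁻¹ • x) = c.v (g⁻¹ • y)
  have hs_inv : ∀ (h : G) x y, s x y → s (h • x) (h • y) := by
    intro h x y hxy g
    have := hxy (h⁻¹ * g)
    simpa only [_root_.mul_inv_rev, inv_inv, mul_smul] using this
  have hB2 := isBlock_of_equiv (G := G) s (fun x g => rfl) (fun x y h g => (h g).symm)
    (fun x y z h1 h2 g => (h1 g).trans (h2 g)) hs_inv (c.pt 0 0)
  have hB2univ : {y | s (c.pt 0 0) y} = Set.univ := by
    rcases hprim.isTrivialBlock_of_isBlock hB2 with h | h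
    · exact absurd (h (fun g => rfl) h01) (c.pt_ne 0)
    · exact h
  have h10 : s (c.pt 0 0) (c.pt 1 0) := by
    have : c.pt 1 0 ∈ {y | s (c.pt 0 0) y} := by rw [hB2univ]; trivial
    exact this
  have := h10 1
  simp only [inv_one, one_smul, c.v_pt] at this
  norm_num at this

/-- The case `Q = 0` is impossible. -/
theorem case_zero [IsCyclotomicExtension {p} ℚ F] {ζ : F} (hζ : IsPrimitiveRoot ζ p)
    (hQ : c.Q ζ = 0) : False := by
  have hE : c.hat ζ c.E = 0 := by rw [c.hatE_eq, hQ, smul_zero]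
  have h1 := congrFun (congrFun hE 0) 0
  simp only [hat, Matrix.zero_apply] at h1
  have h2 := coeff_const ζ hζ (fun z => c.blk c.E 0 0 z) h1 1
  simp only [blk] at h2
  rw [c.E_diag] at h2
  -- all terms in the Gram sum are one
  unfold E at h2
  have hG : (Fintype.card G : ℚ) ≠ 0 := cardG_ne (G := G)
  have h3 : ∑ g : G, c.gv g (c.pt 0 0) * c.gv g (c.pt 0 1) = (Fintype.card G : ℚ) := by
    field_simp at h2
    linarith
  have h4 : ∑ g : G, (1 - c.gv g (c.pt 0 0) * c.gv g (c.pt 0 1)) = 0 := by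
    rw [Finset.sum_sub_distrib, h3, Finset.sum_const, Finset.card_univ]; simp
  have hnn : ∀ g ∈ (Finset.univ : Finset G),
      0 ≤ 1 - c.gv g (c.pt 0 0) * c.gv g (c.pt 0 1) := by
    intro g _
    unfold gv
    rcases c.v_eq_or (g⁻¹ • c.pt 0 0) with ha | ha <;>
      rcases c.v_eq_or (g⁻¹ • c.pt 0 1) with hb | hb <;> rw [ha, hb] <;> norm_num
  have h5 := (Finset.sum_eq_zero_iff_of_nonneg hnn).mp h4
  apply c.same_side_contra
  intro g
  have := h5 g (Finset.mem_univ g)
  unfold gv at this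
  rcases c.v_eq_or (g⁻¹ • c.pt 0 0) with ha | ha <;>
    rcases c.v_eq_or (g⁻¹ • c.pt 0 1) with hb | hb <;> rw [ha, hb] at this ⊢ <;> norm_num at this

open Classical in
/-- The indicator matrix of the orbital of the first basic pair. -/
noncomputable def B1 : Matrix Ω Ω ℚ :=
  fun x y => if rel G (c.pt 0 0) (c.pt 0 1) x y then 1 else 0

omit hprim in
theorem B1_inv : Inv (G := G) c.B1 := by
  intro g x y
  unfold B1
  have h1 : rel G (c.pt 0 0) (c.pt 0 1) (g • x) (g • y) ↔ rel G (c.pt 0 0) (c.pt 0 1) x y := by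
    constructor
    · intro h; have := rel_smul h g⁻¹; simpa only [inv_smul_smul] using this
    · intro h; exact rel_smul h g
  by_cases h : rel G (c.pt 0 0) (c.pt 0 1) x y
  · rw [if_pos h, if_pos (h1.mpr h)]
  · rw [if_neg h, if_neg (fun h' => h (h1.mp h'))]

/-- The case `Q = 1` gives double transitivity. -/
theorem case_one [IsCyclotomicExtension {p} ℚ F] {ζ : F} (hζ : IsPrimitiveRoot ζ p)
    (hQ : c.Q ζ = 1) : ∀ x y : Ω, x ≠ y → rel G (c.pt 0 0) (c.pt 0 1) x y := by
  classical
  have hhat : c.hat ζ c.B1 = algebraMap ℚ F (c.ψ1 c.B1) • (1 : Matrix (Fin 2) (Fin 2) F) := by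
    have := c.hat_mul_Q hζ c.B1_inv
    rwa [hQ, Matrix.mul_one] at this
  -- diagonal block (0,0)
  have hb00 : c.blk c.B1 0 0 0 = 0 := by
    unfold blk B1
    rw [if_neg (fun h => rel_ne h (c.pt_ne 0) rfl)]
  have hb11 : c.blk c.B1 1 1 0 = 0 := by
    unfold blk B1
    rw [if_neg (fun h => rel_ne h (c.pt_ne 0) rfl)]
  have hb01 : c.blk c.B1 0 0 1 = 1 := by
    unfold blk B1
    rw [if_pos (rel_refl _ _)]
  have diag : ∀ i : Fin 2, ∀ z : ZMod p,
      c.blk c.B1 i i z - (if z = 0 then c.ψ1 c.B1 else 0) = c.blk c.B1 i i 0 - c.ψ1 c.B1 := by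
    intro i z
    have h1 := congrFun (congrFun hhat i) i
    simp only [hat, Matrix.smul_apply, Matrix.one_apply_eq, smul_eq_mul, mul_one] at h1
    have h2 : ∑ z : ZMod p,
        algebraMap ℚ F (c.blk c.B1 i i z - if z = 0 then c.ψ1 c.B1 else 0) * ζ ^ z.val = 0 := by
      have e : ∀ z : ZMod p,
          algebraMap ℚ F (c.blk c.B1 i i z - if z = 0 then c.ψ1 c.B1 else 0) * ζ ^ z.val
          = algebraMap ℚ F (c.blk c.B1 i i z) * χ ζ z
            - (if z = 0 then algebraMap ℚ F (c.ψ1 c.B1) * χ ζ z else 0) := by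
        intro z
        unfold χ
        split_ifs with hz <;> simp [sub_mul]
      rw [Finset.sum_congr rfl (fun z _ => e z), Finset.sum_sub_distrib,
        Finset.sum_ite_eq' Finset.univ (0 : ZMod p), h1]
      simp [χ_zero]
    have h3 := coeff_const ζ hζ _ h2 z
    simpa using h3
  have hψ : c.ψ1 c.B1 = -1 := by
    have := diag 0 1
    rw [if_neg (zero_ne_one_zmod (p := p)).symm, hb01, hb00] at this
    linarith
  have hdiag : ∀ i : Fin 2, ∀ z : ZMod p, z ≠ 0 → c.blk c.B1 i i z = 1 := by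
    intro i z hz
    have := diag i z
    rw [if_neg hz, hψ] at this
    fin_cases i
    · simp only [Fin.zero_eta, Fin.isValue] at this ⊢; rw [hb00] at this; linarith
    · simp only [Fin.mk_one, Fin.isValue] at this ⊢; rw [hb11] at this; linarith
  -- off-diagonal blocks are constant
  have off : ∀ i j : Fin 2, i ≠ j → ∀ z : ZMod p, c.blk c.B1 i j z = c.blk c.B1 i j 0 := by
    intro i j hij z
    have h1 := congrFun (congrFun hhat i) j
    simp only [hat, Matrix.smul_apply, Matrix.one_apply_ne hij, smul_eq_mul, mul_zero] at h1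
    exact coeff_const ζ hζ (fun z => c.blk c.B1 i j z) h1 z
  have hbs_diag : ∀ i : Fin 2, c.bs c.B1 i i = (p : ℚ) - 1 := by
    intro i
    unfold bs
    have : ∀ z : ZMod p, c.blk c.B1 i i z = 1 - (if z = 0 then 1 else 0) := by
      intro z
      by_cases hz : z = 0
      · subst hz
        rw [if_pos rfl]
        fin_cases i
        · simpa using hb00
        · simpa using hb11
      · rw [if_neg hz, hdiag i z hz]; ring
    rw [Finset.sum_congr rfl (fun z _ => this z), Finset.sum_sub_distrib,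
      Finset.sum_ite_eq' Finset.univ (0 : ZMod p)]
    simp
  have hbs_off : ∀ i j : Fin 2, i ≠ j → c.bs c.B1 i j = (p : ℚ) * c.blk c.B1 i j 0 := by
    intro i j hij
    unfold bs
    rw [Finset.sum_congr rfl (fun z _ => off i j hij z), Finset.sum_const, Finset.card_univ,
      ZMod.card, nsmul_eq_mul]
  obtain ⟨r1, r2, r3, r4⟩ := c.bs_rel c.B1_inv
  rw [hψ, hbs_diag 0, hbs_off 0 1 (by decide)] at r3
  rw [hψ, hbs_diag 1, hbs_off 1 0 (by decide)] at r4
  have hp0 : (p : ℚ) ≠ 0 := by exact_mod_cast hp.out.ne_zero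
  have k01 : c.blk c.B1 0 1 0 = 1 := by
    have : (p : ℚ) * (c.blk c.B1 0 1 0 - 1) = 0 := by linarith
    rcases mul_eq_zero.mp this with h | h
    · exact absurd h hp0
    · linarith
  have k10 : c.blk c.B1 1 0 0 = 1 := by
    have : (p : ℚ) * (c.blk c.B1 1 0 0 - 1) = 0 := by linarith
    rcases mul_eq_zero.mp this with h | h
    · exact absurd h hp0
    · linarith
  intro x y hxy
  obtain ⟨i, k, rfl⟩ := c.exists_pt x
  obtain ⟨j, l, rfl⟩ := c.exists_pt y
  have hone : c.B1 (c.pt i k) (c.pt j l) = 1 := by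
    rw [c.blk_eq c.B1_inv]
    by_cases hij : i = j
    · subst hij
      apply hdiag
      intro h
      apply hxy
      have : l = k := by linear_combination h
      rw [this]
    · rw [off i j hij]
      fin_cases i <;> fin_cases j
      · exact absurd rfl hij
      · exact k01
      · exact k10
      · exact absurd rfl hij
  unfold B1 at hone
  by_contra hcon
  rw [if_neg hcon] at hone
  norm_num at hone

end Cfg

end Cfsg.Agent.Lib.Helper6.W2p
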