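import Mathlib
import Cfsg.Agent.Lib.Helper6.W2pI

/-! Wielandt `2p`: parameters in the main case, and the abstract core theorem. -/

namespace Cfsg.Agent.Lib.Helper6.W2p

open Matrix

universe u v

section Arith

/-- The arithmetic of the rank three parameters. -/
theorem params_arith (p n1 n2 : ℕ) (hsum : n1 + n2 + 1 = 2 * p)
    (hsq : ((n1 : ℤ) - n2) ^ 2 = 2 * p - 1) (hp : 2 ≤ p) :
    ∃ a : ℕ, 0 < a ∧ p = 2 * a ^ 2 + 2 * a + 1 ∧
      ((n1 = a * (2 * a + 1) ∧ n2 = (a + 1) * (2 * a + 1)) ∨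
       (n1 = (a + 1) * (2 * a + 1) ∧ n2 = a * (2 * a + 1))) := by
  -- wlog n1 ≤ n2
  have key : ∀ m1 m2 : ℕ, m1 ≤ m2 → m1 + m2 + 1 = 2 * p → ((m2 : ℤ) - m1) ^ 2 = 2 * p - 1 →
      ∃ a : ℕ, 0 < a ∧ p = 2 * a ^ 2 + 2 * a + 1 ∧
        m1 = a * (2 * a + 1) ∧ m2 = (a + 1) * (2 * a + 1) := by
    intro m1 m2 hle hs hq
    obtain ⟨d, hd⟩ := Nat.exists_eq_add_of_le hle
    have hq' : (d : ℤ) ^ 2 = 2 * p - 1 := by
      rw [← hq, hd]; push_cast; ring
    have hodd : Odd d := by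
      by_contra hne
      rw [Nat.not_odd_iff_even] at hne
      obtain ⟨e, he⟩ := hne
      rw [he] at hq'
      push_cast at hq'
      omega
    obtain ⟨a, ha⟩ := hodd
    have hpa : (p : ℤ) = 2 * a ^ 2 + 2 * a + 1 := by
      rw [ha] at hq'; push_cast at hq'; linarith
    have hpa' : p = 2 * a ^ 2 + 2 * a + 1 := by exact_mod_cast hpa
    refine ⟨a, ?_, hpa', ?_, ?_⟩
    · rcases Nat.eq_zero_or_pos a with h0 | h0
      · rw [h0] at hpa'; omega
      · exact h0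
    · have : (m1 : ℤ) = a * (2 * a + 1) := by
        have h1 : (m1 : ℤ) + m2 + 1 = 2 * p := by exact_mod_cast hs
        have h2 : (m2 : ℤ) = m1 + (2 * a + 1) := by rw [hd, ha]; push_cast; ring
        rw [h2, hpa] at h1
        linarith
      exact_mod_cast this
    · have : (m2 : ℤ) = (a + 1) * (2 * a + 1) := by
        have h1 : (m1 : ℤ) + m2 + 1 = 2 * p := by exact_mod_cast hs
        have h2 : (m2 : ℤ) = m1 + (2 * a + 1) := by rw [hd, ha]; push_cast; ring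
        rw [hpa] at h1
        have h3 : (m1 : ℤ) = m2 - (2 * a + 1) := by linarith
        rw [h3] at h1
        linarith
      exact_mod_cast this
  rcases le_total n1 n2 with h | h
  · obtain ⟨a, ha, hpa, h1, h2⟩ := key n1 n2 h hsum (by rw [← hsq]; ring)
    exact ⟨a, ha, hpa, Or.inl ⟨h1, h2⟩⟩
  · obtain ⟨a, ha, hpa, h1, h2⟩ := key n2 n1 h (by omega) hsq
    exact ⟨a, ha, hpa, Or.inr ⟨h2, h1⟩⟩

end Arith

variable {p : ℕ} [hp : Fact p.Prime] {Ω : Type u} {G : Type v} [Fintype Ω] [DecidableEq Ω]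
  [Group G] [Fintype G] [MulAction G Ω]
variable {F : Type*} [Field F] [CharZero F]

namespace Cfg

variable {c : Cfg p Ω G} [hprim : MulAction.IsPreprimitive G Ω]

namespace Main

variable {ζ : F} (m : c.Main ζ) [IsCyclotomicExtension {p} ℚ F]

include m

theorem params :
    ∃ a : ℕ, 0 < a ∧ p = 2 * a ^ 2 + 2 * a + 1 ∧
      ¬ rel G (c.pt 0 0) (c.pt 0 1) (c.pt 1 0) (c.pt 1 1) ∧
      ((Nat.card {y // rel G (c.pt 0 0) (c.pt 0 1) (c.pt 0 0) y} = a * (2 * a + 1) ∧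
        Nat.card {y // rel G (c.pt 1 0) (c.pt 1 1) (c.pt 0 0) y} = (a + 1) * (2 * a + 1)) ∨
       (Nat.card {y // rel G (c.pt 0 0) (c.pt 0 1) (c.pt 0 0) y} = (a + 1) * (2 * a + 1) ∧
        Nat.card {y // rel G (c.pt 1 0) (c.pt 1 1) (c.pt 0 0) y} = a * (2 * a + 1))) := by
  classical
  set x₀ := c.pt 0 0 with hx₀
  set γ := c.E (c.pt 0 0) (c.pt 0 1) with hγ
  have hγ2 : c.E (c.pt 1 0) (c.pt 1 1) = -γ := by
    have := m.S_E (zero_ne_one_zmod (p := p)).symm
    unfold S blk at this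
    linarith
  have hall := m.all_e1
  have hdist : ¬ rel G (c.pt 0 0) (c.pt 0 1) (c.pt 1 0) (c.pt 1 1) := by
    intro hr
    have h1 : c.E (c.pt 1 0) (c.pt 1 1) = γ := Inv_rel c.E_inv hr
    have hγ0 : γ = 0 := by linarith
    apply c.E_zero_contra
    intro x y hxy
    rcases hall x y hxy with h | h
    · rw [Inv_rel c.E_inv h]; exact hγ0
    · rw [Inv_rel c.E_inv h, hγ2, hγ0, neg_zero]
  let P1 : Ω → Prop := fun y => rel G (c.pt 0 0) (c.pt 0 1) x₀ y
  let P2 : Ω → Prop := fun y => rel G (c.pt 1 0) (c.pt 1 1) x₀ y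
  have hP1ne : ∀ y, P1 y → y ≠ x₀ := fun y h => (rel_ne h (c.pt_ne 0)).symm
  have hP2ne : ∀ y, P2 y → y ≠ x₀ := fun y h => (rel_ne h (c.pt_ne 1)).symm
  have hP12 : ∀ y, P1 y → ¬ P2 y := fun y h1 h2 => hdist (rel_trans h1 (rel_symm h2))
  have hcases : ∀ y, y ≠ x₀ → (P1 y ∨ P2 y) := fun y hy => hall x₀ y hy.symm
  have hE : ∀ y, c.E x₀ y = (if y = x₀ then 1 / 2 else 0) + γ * (if P1 y then 1 else 0)
      - γ * (if P2 y then 1 else 0) := by
    intro y
    by_cases hy : y = x₀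
    · rw [if_pos hy, if_neg (fun h => hP1ne y h hy), if_neg (fun h => hP2ne y h hy), hy,
        c.E_diag]; ring
    · rcases hcases y hy with h | h
      · rw [if_neg hy, if_pos h, if_neg (hP12 y h), Inv_rel c.E_inv h]; ring
      · rw [if_neg hy, if_neg (fun h1 => hP12 y h1 h), if_pos h, Inv_rel c.E_inv h, hγ2]; ring
  have hone : ∀ y, (1 : ℚ) = (if y = x₀ then 1 else 0) + (if P1 y then 1 else 0)
      + (if P2 y then 1 else 0) := by
    intro y
    by_cases hy : y = x₀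
    · rw [if_pos hy, if_neg (fun h => hP1ne y h hy), if_neg (fun h => hP2ne y h hy)]; ring
    · rcases hcases y hy with h | h
      · rw [if_neg hy, if_pos h, if_neg (hP12 y h)]; ring
      · rw [if_neg hy, if_neg (fun h1 => hP12 y h1 h), if_pos h]; ring
  have hEsq : ∀ y, c.E x₀ y * c.E y x₀ = (if y = x₀ then 1 / 4 else 0)
      + γ ^ 2 * (if P1 y then 1 else 0) + γ ^ 2 * (if P2 y then 1 else 0) := by
    intro y
    rw [c.E_symm' y x₀, hE y]
    by_cases hy : y = x₀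
    · simp only [if_pos hy, if_neg (fun h => hP1ne y h hy), if_neg (fun h => hP2ne y h hy)]; ring
    · rcases hcases y hy with h | h
      · simp only [if_neg hy, if_pos h, if_neg (hP12 y h)]; ring
      · simp only [if_neg hy, if_neg (fun h1 => hP12 y h1 h), if_pos h]; ring
  set n1 := Nat.card {y // P1 y} with hn1
  set n2 := Nat.card {y // P2 y} with hn2
  have hs1 : ∑ y : Ω, (if P1 y then (1 : ℚ) else 0) = n1 := by
    rw [Finset.sum_boole, hn1, Nat.card_eq_fintype_card, Fintype.card_subtype]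
  have hs2 : ∑ y : Ω, (if P2 y then (1 : ℚ) else 0) = n2 := by
    rw [Finset.sum_boole, hn2, Nat.card_eq_fintype_card, Fintype.card_subtype]
  have hs0 : ∀ r : ℚ, ∑ y : Ω, (if y = x₀ then r else 0) = r := by
    intro r; rw [Finset.sum_ite_eq' Finset.univ x₀]; simp only [Finset.mem_univ, if_true]
  -- row sum
  have h1 : 1 / 2 + γ * n1 - γ * n2 = 0 := by
    have := c.E_row x₀
    rw [Finset.sum_congr rfl (fun y _ => hE y), Finset.sum_sub_distrib, Finset.sum_add_distrib,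
      hs0, ← Finset.mul_sum, ← Finset.mul_sum, hs1, hs2] at this
    exact this
  -- diagonal of the square
  have h2 : 1 / 4 + γ ^ 2 * n1 + γ ^ 2 * n2 = 1 / 2 := by
    have := congrFun (congrFun c.E_sq x₀) x₀
    rw [Matrix.mul_apply, Matrix.smul_apply, m.ε_eq_one, one_smul, c.E_diag,
      Finset.sum_congr rfl (fun y _ => hEsq y), Finset.sum_add_distrib, Finset.sum_add_distrib,
      hs0, ← Finset.mul_sum, ← Finset.mul_sum, hs1, hs2] at this
    exact this
  -- count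
  have h3 : (n1 : ℚ) + n2 + 1 = 2 * p := by
    have hc : (Fintype.card Ω : ℚ) = 2 * p := by
      rw [← Fintype.card_congr c.e, Fintype.card_prod, Fintype.card_fin, ZMod.card]; simp
    have : ∑ y : Ω, (1 : ℚ) = Fintype.card Ω := by simp
    rw [Finset.sum_congr rfl (fun y _ => hone y), Finset.sum_add_distrib, Finset.sum_add_distrib,
      hs0, hs1, hs2, hc] at this
    linarith
  have h3' : n1 + n2 + 1 = 2 * p := by exact_mod_cast h3
  -- the square
  have hγne : γ ≠ 0 := by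
    intro h0; rw [h0] at h1; norm_num at h1
  have hsqQ : ((n1 : ℚ) - n2) ^ 2 = 2 * p - 1 := by
    have e1 : γ * ((n1 : ℚ) - n2) = -1 / 2 := by linarith
    have e2 : γ ^ 2 * ((n1 : ℚ) - n2) ^ 2 = 1 / 4 := by
      rw [← mul_pow, e1]; norm_num
    have e3 : γ ^ 2 * (2 * (p : ℚ) - 1) = 1 / 4 := by
      have : (n1 : ℚ) + n2 = 2 * p - 1 := by linarith
      rw [← this]; linarith
    have hγ2ne : γ ^ 2 ≠ 0 := pow_ne_zero 2 hγne
    have : γ ^ 2 * (((n1 : ℚ) - n2) ^ 2 - (2 * (p : ℚ) - 1)) = 0 := by rw [mul_sub, e2, e3]; ring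
    rcases mul_eq_zero.mp this with h | h
    · exact absurd h hγ2ne
    · linarith
  have hsqZ : ((n1 : ℤ) - n2) ^ 2 = 2 * p - 1 := by
    have : (((n1 : ℤ) - n2) ^ 2 : ℚ) = ((2 * p - 1 : ℤ) : ℚ) := by
      push_cast; exact hsqQ
    exact_mod_cast this
  obtain ⟨a, ha, hpa, hn⟩ := params_arith p n1 n2 h3' hsqZ hp.out.two_le
  exact ⟨a, ha, hpa, hdist, hn⟩

end Main

variable (c)

/-- The abstract core theorem. -/
theorem core :
    (∀ x y : Ω, x ≠ y → rel G (c.pt 0 0) (c.pt 0 1) x y) ∨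
    ((∀ x y : Ω, x ≠ y → c.e1 x y) ∧
      ∃ a : ℕ, 0 < a ∧ p = 2 * a ^ 2 + 2 * a + 1 ∧
      ¬ rel G (c.pt 0 0) (c.pt 0 1) (c.pt 1 0) (c.pt 1 1) ∧
      ((Nat.card {y // rel G (c.pt 0 0) (c.pt 0 1) (c.pt 0 0) y} = a * (2 * a + 1) ∧
        Nat.card {y // rel G (c.pt 1 0) (c.pt 1 1) (c.pt 0 0) y} = (a + 1) * (2 * a + 1)) ∨
       (Nat.card {y // rel G (c.pt 0 0) (c.pt 0 1) (c.pt 0 0) y} = (a + 1) * (2 * a + 1) ∧
        Nat.card {y // rel G (c.pt 1 0) (c.pt 1 1) (c.pt 0 0) y} = a * (2 * a + 1)))) := by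
  have : NeZero p := ⟨hp.out.ne_zero⟩
  haveI hcyc : @IsCyclotomicExtension {p} ℚ (CyclotomicField p ℚ) _ _
      DivisionRing.toRatAlgebra := by
    have h : (DivisionRing.toRatAlgebra : Algebra ℚ (CyclotomicField p ℚ))
        = CyclotomicField.algebra p ℚ := Subsingleton.elim _ _
    rw [h]
    infer_instance
  have hζ : IsPrimitiveRoot (IsCyclotomicExtension.zeta p ℚ (CyclotomicField p ℚ)) p :=
    IsCyclotomicExtension.zeta_spec p ℚ (CyclotomicField p ℚ)
  set ζ := IsCyclotomicExtension.zeta p ℚ (CyclotomicField p ℚ) with hζdef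
  rcases idem_two (c.Q ζ) (c.Q_idem hζ) with h0 | h1 | ⟨htr, hdet⟩
  · exact absurd (c.case_zero hζ h0) id
  · left; exact c.case_one hζ h1
  · right
    have m : c.Main ζ := ⟨hζ, htr, hdet⟩
    exact ⟨m.all_e1, m.params⟩

end Cfg

end Cfsg.Agent.Lib.Helper6.W2p
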