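import Mathlib
import Cfsg.Agent.Lib.Helper6.W2pJ

/-! Wielandt `2p`: front end (construction of the configuration) and back end (rank three). -/

namespace Cfsg.Agent.Lib.Helper6.W2p

open Matrix

universe u v

section Front

variable {p : ℕ} [hp : Fact p.Prime] {Ω : Type u} {G : Type v} [Fintype Ω] [DecidableEq Ω]
  [Group G] [MulAction G Ω]

/-- A fixed point free element of order `p` on `2p` points gives a configuration. -/
theorem exists_cfg (hΩ : Fintype.card Ω = 2 * p) (π : G) (hπp : π ^ p = 1)
    (hfix : ∀ x : Ω, π • x ≠ x) : Nonempty (Cfg p Ω G) := by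
  classical
  haveI : NeZero p := ⟨hp.out.ne_zero⟩
  haveI : Fact (1 < p) := ⟨hp.out.one_lt⟩
  have hmod : ∀ (n : ℕ) (x : Ω), π ^ n • x = π ^ ((n : ZMod p).val) • x := by
    intro n x
    rw [ZMod.val_natCast, pow_eq_pow_mod n hπp]
  have hshift : ∀ (n : ℕ) (z : ZMod p) (x : Ω),
      π ^ n • π ^ z.val • x = π ^ (z + n).val • x := by
    intro n z x
    rw [← mul_smul, ← pow_add, hmod]
    have : ((n + z.val : ℕ) : ZMod p) = z + n := by
      push_cast; rw [ZMod.natCast_zmod_val]; ring
    rw [this]
  have hinj : ∀ (x : Ω) (z w : ZMod p), π ^ z.val • x = π ^ w.val • x → z = w := by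
    intro x z w h
    by_contra hne
    have hd0 : w - z ≠ 0 := sub_ne_zero.mpr (Ne.symm hne)
    have h1 : ∀ u : ZMod p, π ^ u.val • x = π ^ (u + (w - z)).val • x := by
      intro u
      have e1 := hshift (u - z).val z x
      have e2 := hshift (u - z).val w x
      rw [ZMod.natCast_zmod_val] at e1 e2
      rw [show z + (u - z) = u by ring] at e1
      rw [show w + (u - z) = u + (w - z) by ring] at e2
      rw [← e1, ← e2, h]
    have h2 : ∀ k : ℕ, x = π ^ ((k : ZMod p) * (w - z)).val • x := by
      intro k
      induction k with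
      | zero => simp
      | succ k ih =>
        calc x = π ^ ((k : ZMod p) * (w - z)).val • x := ih
          _ = π ^ ((k : ZMod p) * (w - z) + (w - z)).val • x := h1 _
          _ = π ^ (((k + 1 : ℕ) : ZMod p) * (w - z)).val • x := by
              congr 3; push_cast; ring
    have h3 := h2 ((w - z)⁻¹).val
    rw [ZMod.natCast_zmod_val, inv_mul_cancel₀ hd0, ZMod.val_one, pow_one] at h3
    exact hfix x h3.symm
  have hpos : 0 < Fintype.card Ω := by rw [hΩ]; exact Nat.mul_pos two_pos hp.out.pos
  obtain ⟨x₀⟩ := Fintype.card_pos_iff.mp hpos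
  have hns : ¬ Function.Surjective (fun z : ZMod p => π ^ z.val • x₀) := by
    intro hs
    have := Fintype.card_le_of_surjective _ hs
    rw [hΩ, ZMod.card] at this
    have := hp.out.pos
    omega
  obtain ⟨x₁, hx₁⟩ : ∃ x₁ : Ω, ∀ z : ZMod p, π ^ z.val • x₀ ≠ x₁ := by
    by_contra hcon
    apply hns
    intro y
    by_contra hy
    exact hcon ⟨y, fun z hz => hy ⟨z, hz⟩⟩
  have hcross : ∀ z w : ZMod p, π ^ z.val • x₀ ≠ π ^ w.val • x₁ := by
    intro z w h
    have e1 := hshift (-w).val z x₀
    have e2 := hshift (-w).val w x₁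
    rw [ZMod.natCast_zmod_val] at e1 e2
    rw [add_neg_cancel, ZMod.val_zero, pow_zero, one_smul] at e2
    rw [h, e2] at e1
    exact hx₁ _ e1.symm
  let X : Fin 2 → Ω := ![x₀, x₁]
  let f : Fin 2 × ZMod p → Ω := fun q => π ^ q.2.val • X q.1
  have hfinj : Function.Injective f := by
    rintro ⟨i, z⟩ ⟨j, w⟩ h
    simp only [f] at h
    fin_cases i <;> fin_cases j
    · simp only [X, Fin.zero_eta, Matrix.cons_val_zero] at h
      rw [hinj _ _ _ h]
    · simp only [X, Fin.zero_eta, Fin.mk_one, Matrix.cons_val_zero, Matrix.cons_val_one] at h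
      exact absurd h (hcross z w)
    · simp only [X, Fin.zero_eta, Fin.mk_one, Matrix.cons_val_zero, Matrix.cons_val_one] at h
      exact absurd h.symm (hcross w z)
    · simp only [X, Fin.mk_one, Matrix.cons_val_one] at h
      rw [hinj _ _ _ h]
  have hbij : Function.Bijective f := by
    rw [Fintype.bijective_iff_injective_and_card]
    refine ⟨hfinj, ?_⟩
    rw [Fintype.card_prod, Fintype.card_fin, ZMod.card, hΩ]
  refine ⟨⟨Equiv.ofBijective f hbij, π, ?_⟩⟩
  intro i z
  rw [Equiv.ofBijective_apply, Equiv.ofBijective_apply]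
  simp only [f]
  have := hshift 1 z (X i)
  rw [pow_one, Nat.cast_one] at this
  exact this

end Front

section Back

variable {p : ℕ} [hp : Fact p.Prime] {Ω : Type u} {G : Type v} [Fintype Ω] [DecidableEq Ω]
  [Group G] [Fintype G] [MulAction G Ω]

theorem mem_orbit_stab_iff (a₀ x y : Ω) :
    x ∈ MulAction.orbit (MulAction.stabilizer G a₀) y ↔ rel G a₀ y a₀ x := by
  constructor
  · rintro ⟨⟨g, hg⟩, hgy⟩
    exact ⟨g, MulAction.mem_stabilizer_iff.mp hg, hgy⟩
  · rintro ⟨g, hg, hgy⟩
    exact ⟨⟨g, MulAction.mem_stabilizer_iff.mpr hg⟩, hgy⟩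

theorem card_rel_transport [MulAction.IsPretransitive G Ω] (u w x₀ a₀ : Ω) :
    Nat.card {y // rel G u w a₀ y} = Nat.card {y // rel G u w x₀ y} := by
  obtain ⟨g, hg⟩ := MulAction.exists_smul_eq G x₀ a₀
  apply Nat.card_congr
  symm
  refine Equiv.subtypeEquiv (MulAction.toPerm g) ?_
  intro y
  rw [MulAction.toPerm_apply]
  constructor
  · intro h
    have := rel_smul h g
    rwa [hg] at this
  · intro h
    have := rel_smul h g⁻¹
    rwa [inv_smul_smul, ← hg, inv_smul_smul] at this

/-- The abstract form of the theorem. -/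
theorem backend [hprim : MulAction.IsPreprimitive G Ω] (c : Cfg p Ω G) (a₀ : Ω) :
    MulAction.IsMultiplyPretransitive G Ω 2 ∨
    (Nat.card (MulAction.orbitRel.Quotient (MulAction.stabilizer G a₀) Ω) = 3 ∧
      ∃ a : ℕ, 0 < a ∧ p = 2 * a ^ 2 + 2 * a + 1 ∧ ∀ b : Ω, b ≠ a₀ →
        Nat.card (MulAction.orbit (MulAction.stabilizer G a₀) b) = a * (2 * a + 1) ∨
        Nat.card (MulAction.orbit (MulAction.stabilizer G a₀) b) = (a + 1) * (2 * a + 1)) := by
  classical
  haveI : MulAction.IsPretransitive G Ω := hprim.toIsPretransitive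
  rcases c.core with hL | ⟨hall, a, ha, hpa, hdist, hn⟩
  · left
    rw [MulAction.is_two_pretransitive_iff]
    intro x y z w hxy hzw
    exact rel_trans (rel_symm (hL x y hxy)) (hL z w hzw)
  · right
    set H := MulAction.stabilizer G a₀ with hH
    let P1 : Ω → Prop := fun y => rel G (c.pt 0 0) (c.pt 0 1) a₀ y
    let P2 : Ω → Prop := fun y => rel G (c.pt 1 0) (c.pt 1 1) a₀ y
    have hP1ne : ∀ y, P1 y → y ≠ a₀ := fun y h => (rel_ne h (c.pt_ne 0)).symm
    have hP2ne : ∀ y, P2 y → y ≠ a₀ := fun y h => (rel_ne h (c.pt_ne 1)).symm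
    have hP12 : ∀ y, P1 y → ¬ P2 y := fun y h1 h2 => hdist (rel_trans h1 (rel_symm h2))
    have hcases : ∀ y, y ≠ a₀ → (P1 y ∨ P2 y) := fun y hy => hall a₀ y hy.symm
    have horb1 : ∀ b, P1 b → ∀ x, x ∈ MulAction.orbit H b ↔ P1 x := by
      intro b hb x
      rw [mem_orbit_stab_iff]
      exact ⟨fun h => rel_trans hb h, fun h => rel_trans (rel_symm hb) h⟩
    have horb2 : ∀ b, P2 b → ∀ x, x ∈ MulAction.orbit H b ↔ P2 x := by
      intro b hb x
      rw [mem_orbit_stab_iff]
      exact ⟨fun h => rel_trans hb h, fun h => rel_trans (rel_symm hb) h⟩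
    have horb0 : ∀ x, x ∈ MulAction.orbit H a₀ ↔ x = a₀ := by
      intro x
      rw [mem_orbit_stab_iff]
      constructor
      · rintro ⟨g, h1, h2⟩
        rw [← h2, h1]
      · rintro rfl
        exact rel_refl _ _
    have hc1 : ∀ b, P1 b → Nat.card (MulAction.orbit H b)
        = Nat.card {y // rel G (c.pt 0 0) (c.pt 0 1) (c.pt 0 0) y} := by
      intro b hb
      rw [← card_rel_transport (G := G) (c.pt 0 0) (c.pt 0 1) (c.pt 0 0) a₀]
      exact Nat.card_congr (Equiv.subtypeEquivRight (horb1 b hb))
    have hc2 : ∀ b, P2 b → Nat.card (MulAction.orbit H b)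
        = Nat.card {y // rel G (c.pt 1 0) (c.pt 1 1) (c.pt 0 0) y} := by
      intro b hb
      rw [← card_rel_transport (G := G) (c.pt 1 0) (c.pt 1 1) (c.pt 0 0) a₀]
      exact Nat.card_congr (Equiv.subtypeEquivRight (horb2 b hb))
    refine ⟨?_, a, ha, hpa, ?_⟩
    · -- the rank
      let cls : Ω → Fin 3 := fun b => if b = a₀ then 0 else if P1 b then 1 else 2
      have hcls0 : cls a₀ = 0 := by simp [cls]
      have hcls1 : ∀ b, P1 b → cls b = 1 := by
        intro b hb; simp only [cls]; rw [if_neg (hP1ne b hb), if_pos hb]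
      have hcls2 : ∀ b, P2 b → cls b = 2 := by
        intro b hb; simp only [cls]
        rw [if_neg (hP2ne b hb), if_neg (fun h => hP12 b h hb)]
      have hiff : ∀ x y : Ω, x ∈ MulAction.orbit H y ↔ cls x = cls y := by
        intro x y
        by_cases hy : y = a₀
        · rw [hy, horb0, hcls0]
          constructor
          · rintro rfl; exact hcls0
          · intro h
            by_contra hx
            rcases hcases x hx with h1 | h2
            · rw [hcls1 x h1] at h; exact absurd h (by decide)
            · rw [hcls2 x h2] at h; exact absurd h (by decide)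
        · rcases hcases y hy with h1 | h2
          · rw [horb1 y h1, hcls1 y h1]
            constructor
            · exact hcls1 x
            · intro h
              by_contra hx
              by_cases hxa : x = a₀
              · rw [hxa, hcls0] at h; exact absurd h (by decide)
              · rcases hcases x hxa with h1' | h2'
                · exact hx h1'
                · rw [hcls2 x h2'] at h; exact absurd h (by decide)
          · rw [horb2 y h2, hcls2 y h2]
            constructor
            · exact hcls2 x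
            · intro h
              by_contra hx
              by_cases hxa : x = a₀
              · rw [hxa, hcls0] at h; exact absurd h (by decide)
              · rcases hcases x hxa with h1' | h2'
                · rw [hcls1 x h1'] at h; exact absurd h (by decide)
                · exact hx h2'
      let φ : MulAction.orbitRel.Quotient H Ω → Fin 3 :=
        Quotient.lift cls (fun x y hxy => (hiff x y).mp hxy)
      have hφinj : Function.Injective φ := by
        intro q1 q2
        induction q1 using Quotient.inductionOn with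
        | _ x =>
          induction q2 using Quotient.inductionOn with
          | _ y =>
            intro h
            exact Quotient.sound ((hiff x y).mpr h)
      have hφsurj : Function.Surjective φ := by
        obtain ⟨g1, hg1⟩ := MulAction.exists_smul_eq G (c.pt 0 0) a₀
        obtain ⟨g2, hg2⟩ := MulAction.exists_smul_eq G (c.pt 1 0) a₀
        have hb1 : P1 (g1 • c.pt 0 1) := ⟨g1, hg1, rfl⟩
        have hb2 : P2 (g2 • c.pt 1 1) := ⟨g2, hg2, rfl⟩
        intro i
        fin_cases i
        · exact ⟨Quotient.mk _ a₀, hcls0⟩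
        · exact ⟨Quotient.mk _ (g1 • c.pt 0 1), hcls1 _ hb1⟩
        · exact ⟨Quotient.mk _ (g2 • c.pt 1 1), hcls2 _ hb2⟩
      rw [Nat.card_congr (Equiv.ofBijective φ ⟨hφinj, hφsurj⟩), Nat.card_eq_fintype_card,
        Fintype.card_fin]
    · intro b hb
      rcases hcases b hb with h1 | h2
      · rw [hc1 b h1]
        rcases hn with ⟨e1, -⟩ | ⟨e1, -⟩
        · left; exact e1
        · right; exact e1
      · rw [hc2 b h2]
        rcases hn with ⟨-, e2⟩ | ⟨-, e2⟩
        · right; exact e2
        · left; exact e2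

end Back

section Concrete

variable {α : Type u} [Fintype α] [DecidableEq α]

/-- Wielandt's theorem on primitive groups of degree `2p`. -/
theorem wielandt_two_p {p : ℕ} (hp : p.Prime) (hα : Fintype.card α = 2 * p)
    (G : Subgroup (Equiv.Perm α)) (hG : MulAction.IsPreprimitive G α) (a₀ : α) :
    MulAction.IsMultiplyPretransitive G α 2 ∨
    (Nat.card (MulAction.orbitRel.Quotient (MulAction.stabilizer G a₀) α) = 3 ∧
      ∃ a : ℕ, 0 < a ∧ p = 2 * a ^ 2 + 2 * a + 1 ∧ ∀ b : α, b ≠ a₀ →
        Nat.card (MulAction.orbit (MulAction.stabilizer G a₀) b) = a * (2 * a + 1) ∨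
        Nat.card (MulAction.orbit (MulAction.stabilizer G a₀) b) = (a + 1) * (2 * a + 1)) := by
  classical
  haveI : Fact p.Prime := ⟨hp⟩
  haveI := hG
  haveI : MulAction.IsPretransitive G α := hG.toIsPretransitive
  haveI : Fintype G := Fintype.ofFinite G
  have hdvd : p ∣ Nat.card G := by
    have h1 : (MulAction.stabilizer G a₀).index = Nat.card α :=
      MulAction.index_stabilizer_of_transitive G a₀
    have h2 := Subgroup.index_dvd_card (MulAction.stabilizer G a₀)
    rw [h1, Nat.card_eq_fintype_card, hα] at h2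
    exact (Dvd.intro_left 2 rfl).trans h2
  obtain ⟨π, hπ⟩ := exists_prime_orderOf_dvd_card' p hdvd
  have hπ' : orderOf (π : Equiv.Perm α) = p := by rw [Subgroup.orderOf_coe]; exact hπ
  obtain ⟨n, hn⟩ := Equiv.Perm.cycleType_prime_order (σ := (π : Equiv.Perm α))
    (by rw [hπ']; exact hp)
  rw [hπ'] at hn
  have hsum : (n + 1) * p = (π : Equiv.Perm α).support.card := by
    rw [← Equiv.Perm.sum_cycleType, hn, Multiset.sum_replicate, smul_eq_mul]
  have hle : (π : Equiv.Perm α).support.card ≤ 2 * p := by
    rw [← hα]; exact Finset.card_le_univ _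
  have hn1 : n ≤ 1 := by
    have h : (n + 1) * p ≤ 2 * p := hsum ▸ hle
    have := Nat.le_of_mul_le_mul_right h hp.pos
    omega
  rcases Nat.le_one_iff_eq_zero_or_eq_one.mp hn1 with h0 | h1
  · -- a `p`-cycle: Jordan
    left
    subst h0
    have hcyc : (π : Equiv.Perm α).IsCycle := by
      rw [← Equiv.Perm.card_cycleType_eq_one, hn]; simp
    have htr := Equiv.Perm.isPretransitive_of_isCycle_mem hcyc π.2
    have hsn : ((↑(π : Equiv.Perm α).support : Set α)ᶜ).ncard = (p - 1) + 1 := by
      rw [Set.ncard_compl, Set.ncard_coe_finset, Nat.card_eq_fintype_card, hα, ← hsum]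
      have := hp.two_le
      omega
    have hsn' : (p - 1) + 2 < Nat.card α := by
      rw [Nat.card_eq_fintype_card, hα]
      have := hp.two_le
      omega
    exact hG.is_two_pretransitive hsn hsn' htr
  · subst h1
    have hsupp : (π : Equiv.Perm α).support = Finset.univ := by
      rw [← Finset.card_eq_iff_eq_univ, ← hsum, hα]
    have hfix : ∀ x : α, π • x ≠ x := by
      intro x
      have : x ∈ (π : Equiv.Perm α).support := by rw [hsupp]; exact Finset.mem_univ x
      rw [Equiv.Perm.mem_support] at this
      exact this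
    have hπp : π ^ p = 1 := by rw [← hπ]; exact pow_orderOf_eq_one π
    obtain ⟨c⟩ := exists_cfg (G := G) hα π hπp hfix
    exact backend c a₀

end Concrete

end Cfsg.Agent.Lib.Helper6.W2p
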