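import Mathlib
import Cfsg.Agent.Lib.Helper6.W2pK

/-! Ito `2p`, the case `p = 5`: a rank three graph of valency three on ten points
(the Petersen graph), its rigidity, and the resulting bound for the group order. -/

set_option autoImplicit false

namespace Cfsg.Agent.Lib.Helper6.W2pFive

open Classical

universe u v

variable {Ω : Type u} {G : Type v} [Group G] [MulAction G Ω] [Fintype Ω]

/-- A symmetric orbital graph of valency three on ten points, with vertex stabilizers transitive
on the neighbours and on the non-neighbours. -/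
structure Gr (G : Type v) (Ω : Type u) [Group G] [MulAction G Ω] [Fintype Ω] where
  adj : Ω → Ω → Prop
  symm : ∀ x y, adj x y → adj y x
  irrefl : ∀ x, ¬ adj x x
  inv : ∀ (g : G) (x y : Ω), adj x y → adj (g • x) (g • y)
  deg : ∀ x, (Finset.univ.filter (fun y => adj x y)).card = 3
  tr1 : ∀ x y y', adj x y → adj x y' → ∃ g : G, g • x = x ∧ g • y = y'
  tr2 : ∀ x z z', z ≠ x → ¬ adj x z → z' ≠ x → ¬ adj x z' → ∃ g : G, g • x = x ∧ g • z = z'
  card : Fintype.card Ω = 10

namespace Gr

variable (r : Gr G Ω)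

theorem inv_iff (g : G) (x y : Ω) : r.adj (g • x) (g • y) ↔ r.adj x y := by
  constructor
  · intro h
    have := r.inv g⁻¹ _ _ h
    rwa [inv_smul_smul, inv_smul_smul] at this
  · exact r.inv g x y

/-- The number of common neighbours. -/
noncomputable def cn (x z : Ω) : ℕ :=
  (Finset.univ.filter (fun y => r.adj x y ∧ r.adj y z)).card

theorem cn_smul (g : G) (x z : Ω) : r.cn (g • x) (g • z) = r.cn x z := by
  unfold cn
  apply Finset.card_bij (fun y _ => g⁻¹ • y)
  · intro y hy
    simp only [Finset.mem_filter, Finset.mem_univ, true_and] at hy ⊢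
    constructor
    · have := r.inv g⁻¹ _ _ hy.1
      rwa [inv_smul_smul] at this
    · have := r.inv g⁻¹ _ _ hy.2
      rwa [inv_smul_smul] at this
  · intro y _ y' _ h
    exact MulAction.injective g⁻¹ h
  · intro y hy
    simp only [Finset.mem_filter, Finset.mem_univ, true_and] at hy
    refine ⟨g • y, ?_, inv_smul_smul g y⟩
    simp only [Finset.mem_filter, Finset.mem_univ, true_and]
    exact ⟨r.inv g _ _ hy.1, r.inv g _ _ hy.2⟩

theorem cn_self (x : Ω) : r.cn x x = 3 := by
  unfold cn
  rw [← r.deg x]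
  congr 1
  apply Finset.filter_congr
  intro y _
  exact ⟨fun h => h.1, fun h => ⟨h, r.symm _ _ h⟩⟩

theorem sum_cn (x : Ω) : ∑ z, r.cn x z = 9 := by
  have h1 : ∀ z, r.cn x z = ∑ y, (if (r.adj x y ∧ r.adj y z) then 1 else 0) := by
    intro z
    unfold cn
    rw [Finset.card_filter]
  have h2 : ∀ y, (∑ z, (if (r.adj x y ∧ r.adj y z) then 1 else 0)) =
      if r.adj x y then 3 else 0 := by
    intro y
    by_cases h : r.adj x y
    · rw [if_pos h, ← r.deg y, Finset.card_filter]
      apply Finset.sum_congr rfl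
      intro z _
      simp only [h, true_and]
    · rw [if_neg h]
      apply Finset.sum_eq_zero
      intro z _
      rw [if_neg (fun hh => h hh.1)]
  calc ∑ z, r.cn x z = ∑ z, ∑ y, (if (r.adj x y ∧ r.adj y z) then 1 else 0) :=
        Finset.sum_congr rfl (fun z _ => h1 z)
    _ = ∑ y, ∑ z, (if (r.adj x y ∧ r.adj y z) then 1 else 0) := Finset.sum_comm
    _ = ∑ y, (if r.adj x y then 3 else 0) := Finset.sum_congr rfl (fun y _ => h2 y)
    _ = 9 := by rw [← Finset.sum_filter, Finset.sum_const, r.deg x]; rfl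

theorem card_non (x : Ω) :
    (Finset.univ.filter (fun z => z ≠ x ∧ ¬ r.adj x z)).card = 6 := by
  have h1 : (Finset.univ.filter (fun z => ¬ r.adj x z)).card = 7 := by
    have := Finset.card_filter_add_card_filter_not (s := (Finset.univ : Finset Ω))
      (fun z => r.adj x z)
    rw [r.deg x, Finset.card_univ, r.card] at this
    omega
  have h2 : Finset.univ.filter (fun z => z ≠ x ∧ ¬ r.adj x z) =
      (Finset.univ.filter (fun z => ¬ r.adj x z)).erase x := by
    ext z
    simp only [Finset.mem_filter, Finset.mem_univ, true_and, Finset.mem_erase]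
  rw [h2, Finset.card_erase_of_mem, h1]
  simp only [Finset.mem_filter, Finset.mem_univ, true_and]
  exact r.irrefl x

theorem cn_adj_const [MulAction.IsPretransitive G Ω] {x y x' y' : Ω} (h : r.adj x y)
    (h' : r.adj x' y') : r.cn x y = r.cn x' y' := by
  obtain ⟨g, hg⟩ := MulAction.exists_smul_eq G x x'
  have h1 : r.adj x' (g • y) := by rw [← hg]; exact r.inv g _ _ h
  obtain ⟨k, hk1, hk2⟩ := r.tr1 x' (g • y) y' h1 h'
  calc r.cn x y = r.cn (g • x) (g • y) := (r.cn_smul g x y).symm
    _ = r.cn x' (g • y) := by rw [hg]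
    _ = r.cn (k • x') (k • (g • y)) := (r.cn_smul k _ _).symm
    _ = r.cn x' y' := by rw [hk1, hk2]

theorem cn_non_const [MulAction.IsPretransitive G Ω] {x z x' z' : Ω} (h1 : z ≠ x)
    (h2 : ¬ r.adj x z) (h1' : z' ≠ x') (h2' : ¬ r.adj x' z') : r.cn x z = r.cn x' z' := by
  obtain ⟨g, hg⟩ := MulAction.exists_smul_eq G x x'
  have e1 : g • z ≠ x' := by rw [← hg]; exact fun h => h1 (MulAction.injective g h)
  have e2 : ¬ r.adj x' (g • z) := by rw [← hg, r.inv_iff]; exact h2
  obtain ⟨k, hk1, hk2⟩ := r.tr2 x' (g • z) z' e1 e2 h1' h2'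
  calc r.cn x z = r.cn (g • x) (g • z) := (r.cn_smul g x z).symm
    _ = r.cn x' (g • z) := by rw [hg]
    _ = r.cn (k • x') (k • (g • z)) := (r.cn_smul k _ _).symm
    _ = r.cn x' z' := by rw [hk1, hk2]

theorem lam_mu [MulAction.IsPretransitive G Ω] {x y z : Ω} (hy : r.adj x y) (hz1 : z ≠ x)
    (hz2 : ¬ r.adj x z) : 3 + 3 * r.cn x y + 6 * r.cn x z = 9 := by
  rw [← r.sum_cn x]
  have hx : x ∈ (Finset.univ : Finset Ω) := Finset.mem_univ x
  rw [← Finset.add_sum_erase _ _ hx, r.cn_self x,
    ← Finset.sum_filter_add_sum_filter_not (Finset.univ.erase x) (fun w => r.adj x w)]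
  have hA : ∑ w ∈ (Finset.univ.erase x).filter (fun w => r.adj x w), r.cn x w
      = 3 * r.cn x y := by
    have hs : (Finset.univ.erase x).filter (fun w => r.adj x w)
        = Finset.univ.filter (fun w => r.adj x w) := by
      ext w
      simp only [Finset.mem_filter, Finset.mem_erase, Finset.mem_univ, true_and, and_true]
      refine ⟨fun h => h.2, fun h => ⟨fun e => ?_, h⟩⟩
      rw [e] at h
      exact r.irrefl x h
    rw [hs]
    calc ∑ w ∈ Finset.univ.filter (fun w => r.adj x w), r.cn x w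
        = ∑ w ∈ Finset.univ.filter (fun w => r.adj x w), r.cn x y :=
          Finset.sum_congr rfl (fun w hw => r.cn_adj_const ((Finset.mem_filter.mp hw).2) hy)
      _ = 3 * r.cn x y := by rw [Finset.sum_const, r.deg x, smul_eq_mul]
  have hB : ∑ w ∈ (Finset.univ.erase x).filter (fun w => ¬ r.adj x w), r.cn x w
      = 6 * r.cn x z := by
    have hs : (Finset.univ.erase x).filter (fun w => ¬ r.adj x w)
        = Finset.univ.filter (fun w => w ≠ x ∧ ¬ r.adj x w) := by
      ext w
      simp only [Finset.mem_filter, Finset.mem_erase, Finset.mem_univ, true_and, and_true]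
    rw [hs]
    calc ∑ w ∈ Finset.univ.filter (fun w => w ≠ x ∧ ¬ r.adj x w), r.cn x w
        = ∑ w ∈ Finset.univ.filter (fun w => w ≠ x ∧ ¬ r.adj x w), r.cn x z :=
          Finset.sum_congr rfl (fun w hw => r.cn_non_const (Finset.mem_filter.mp hw).2.1
            (Finset.mem_filter.mp hw).2.2 hz1 hz2)
      _ = 6 * r.cn x z := by rw [Finset.sum_const, r.card_non x, smul_eq_mul]
  rw [hA, hB]
  ring

theorem exists_nbr (x : Ω) : ∃ y, r.adj x y := by
  have hne : (Finset.univ.filter (fun y => r.adj x y)).Nonempty := by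
    rw [← Finset.card_pos, r.deg x]; norm_num
  obtain ⟨y, hy⟩ := hne
  exact ⟨y, (Finset.mem_filter.mp hy).2⟩

theorem exists_non (x : Ω) : ∃ z, z ≠ x ∧ ¬ r.adj x z := by
  have hne : (Finset.univ.filter (fun z => z ≠ x ∧ ¬ r.adj x z)).Nonempty := by
    rw [← Finset.card_pos, r.card_non x]; norm_num
  obtain ⟨z, hz⟩ := hne
  exact ⟨z, (Finset.mem_filter.mp hz).2⟩

theorem mu_ne_zero [hprim : MulAction.IsPreprimitive G Ω] {x z : Ω} (hz1 : z ≠ x)
    (hz2 : ¬ r.adj x z) : r.cn x z ≠ 0 := by
  haveI : MulAction.IsPretransitive G Ω := hprim.toIsPretransitive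
  intro h0
  have hall : ∀ a c, c ≠ a → ¬ r.adj a c → r.cn a c = 0 := fun a c h1 h2 => by
    rw [r.cn_non_const h1 h2 hz1 hz2]; exact h0
  have htrans : ∀ a b c, (a = b ∨ r.adj a b) → (b = c ∨ r.adj b c) → (a = c ∨ r.adj a c) := by
    intro a b c hab hbc
    rcases hab with hab | hab
    · rw [hab]; exact hbc
    rcases hbc with hbc | hbc
    · rw [← hbc]; exact Or.inr hab
    by_cases hac : a = c
    · exact Or.inl hac
    by_cases hadj : r.adj a c
    · exact Or.inr hadj
    exfalso
    have := hall a c (Ne.symm hac) hadj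
    unfold cn at this
    rw [Finset.card_eq_zero, Finset.filter_eq_empty_iff] at this
    exact this (Finset.mem_univ b) ⟨hab, hbc⟩
  have hblock := W2p.isBlock_of_equiv (G := G) (fun a b => a = b ∨ r.adj a b)
    (fun a => Or.inl rfl)
    (fun a b h => h.elim (fun e => Or.inl e.symm) (fun e => Or.inr (r.symm _ _ e)))
    htrans
    (fun g a b h => h.elim (fun e => Or.inl (by rw [e])) (fun e => Or.inr (r.inv g _ _ e))) x
  obtain ⟨y, hy⟩ := r.exists_nbr x
  rcases hprim.isTrivialBlock_of_isBlock hblock with hsub | htop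
  · have hxy : x = y := hsub (Or.inl rfl) (Or.inr hy)
    rw [← hxy] at hy
    exact r.irrefl _ hy
  · have hz : z ∈ {y | x = y ∨ r.adj x y} := by rw [htop]; trivial
    rcases hz with e | e
    · exact hz1 e.symm
    · exact hz2 e

theorem cn_adj [hprim : MulAction.IsPreprimitive G Ω] {x y : Ω} (h : r.adj x y) :
    r.cn x y = 0 := by
  haveI : MulAction.IsPretransitive G Ω := hprim.toIsPretransitive
  obtain ⟨z, hz1, hz2⟩ := r.exists_non x
  have h1 := r.lam_mu h hz1 hz2
  have h2 := r.mu_ne_zero hz1 hz2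
  omega

theorem cn_non [hprim : MulAction.IsPreprimitive G Ω] {x z : Ω} (hz1 : z ≠ x)
    (hz2 : ¬ r.adj x z) : r.cn x z = 1 := by
  haveI : MulAction.IsPretransitive G Ω := hprim.toIsPretransitive
  obtain ⟨y, hy⟩ := r.exists_nbr x
  have h1 := r.lam_mu hy hz1 hz2
  have h2 := r.mu_ne_zero hz1 hz2
  omega

theorem no_tri [MulAction.IsPreprimitive G Ω] {x y w : Ω} (h : r.adj x y) (h1 : r.adj x w)
    (h2 : r.adj w y) : False := by
  have := r.cn_adj h
  unfold cn at this
  rw [Finset.card_eq_zero, Finset.filter_eq_empty_iff] at this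
  exact this (Finset.mem_univ w) ⟨h1, h2⟩

theorem uniq [MulAction.IsPreprimitive G Ω] {x z w w' : Ω} (h1 : z ≠ x) (h2 : ¬ r.adj x z)
    (hw : r.adj x w ∧ r.adj w z) (hw' : r.adj x w' ∧ r.adj w' z) : w = w' := by
  have := r.cn_non h1 h2
  unfold cn at this
  rw [Finset.card_eq_one] at this
  obtain ⟨a, ha⟩ := this
  have e1 : w ∈ Finset.univ.filter (fun y => r.adj x y ∧ r.adj y z) := by
    simp only [Finset.mem_filter, Finset.mem_univ, true_and]; exact hw
  have e2 : w' ∈ Finset.univ.filter (fun y => r.adj x y ∧ r.adj y z) := by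
    simp only [Finset.mem_filter, Finset.mem_univ, true_and]; exact hw'
  rw [ha, Finset.mem_singleton] at e1 e2
  rw [e1, e2]

theorem exists_common [MulAction.IsPreprimitive G Ω] {x z : Ω} (h1 : z ≠ x)
    (h2 : ¬ r.adj x z) : ∃ w, r.adj x w ∧ r.adj w z := by
  have := r.cn_non h1 h2
  unfold cn at this
  rw [Finset.card_eq_one] at this
  obtain ⟨a, ha⟩ := this
  have e1 : a ∈ Finset.univ.filter (fun y => r.adj x y ∧ r.adj y z) := by
    rw [ha]; exact Finset.mem_singleton_self a
  exact ⟨a, (Finset.mem_filter.mp e1).2⟩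

theorem fix_nbrs {g : G} {x a b c : Ω} (hx : g • x = x) (ha : r.adj x a) (hb : r.adj x b)
    (hab : a ≠ b) (hga : g • a = a) (hgb : g • b = b) (hc : r.adj x c) : g • c = c := by
  by_cases hca : c = a
  · rw [hca]; exact hga
  by_cases hcb : c = b
  · rw [hcb]; exact hgb
  have hsub : ({a, b, c} : Finset Ω) ⊆ Finset.univ.filter (fun y => r.adj x y) := by
    intro w hw
    simp only [Finset.mem_insert, Finset.mem_singleton] at hw
    simp only [Finset.mem_filter, Finset.mem_univ, true_and]
    rcases hw with h | h | h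
    · rw [h]; exact ha
    · rw [h]; exact hb
    · rw [h]; exact hc
  have hcard : ({a, b, c} : Finset Ω).card = 3 := by
    rw [Finset.card_insert_of_notMem, Finset.card_insert_of_notMem, Finset.card_singleton]
    · rw [Finset.mem_singleton]; exact Ne.symm hcb
    · simp only [Finset.mem_insert, Finset.mem_singleton, not_or]
      exact ⟨hab, Ne.symm hca⟩
  have heq := Finset.eq_of_subset_of_card_le hsub (by rw [hcard, r.deg x])
  have hgc : g • c ∈ ({a, b, c} : Finset Ω) := by
    rw [heq]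
    simp only [Finset.mem_filter, Finset.mem_univ, true_and]
    have := r.inv g _ _ hc
    rwa [hx] at this
  simp only [Finset.mem_insert, Finset.mem_singleton] at hgc
  rcases hgc with h | h | h
  · exfalso; apply hca; apply MulAction.injective g; show g • c = g • a; rw [h, hga]
  · exfalso; apply hcb; apply MulAction.injective g; show g • c = g • b; rw [h, hgb]
  · exact h

theorem fix_common [MulAction.IsPreprimitive G Ω] {g : G} {u1 u2 w : Ω} (h1 : g • u1 = u1)
    (h2 : g • u2 = u2) (hne : u2 ≠ u1) (hna : ¬ r.adj u1 u2)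
    (hw : r.adj u1 w ∧ r.adj w u2) : g • w = w := by
  refine r.uniq hne hna ?_ hw
  have a := r.inv g _ _ hw.1
  have b := r.inv g _ _ hw.2
  rw [h1] at a
  rw [h2] at b
  exact ⟨a, b⟩

/-- An element fixing a `3`-arc fixes every point. -/
theorem rigid [MulAction.IsPreprimitive G Ω] {g : G} {x0 x1 x2 x3 : Ω} (h01 : r.adj x0 x1)
    (h12 : r.adj x1 x2) (h23 : r.adj x2 x3) (h02 : x0 ≠ x2) (h13 : x1 ≠ x3)
    (g0 : g • x0 = x0) (g1 : g • x1 = x1) (g2 : g • x2 = x2) (g3 : g • x3 = x3) (v : Ω) :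
    g • v = v := by
  have n1 : ∀ c, r.adj x1 c → g • c = c := fun c hc =>
    r.fix_nbrs g1 (r.symm _ _ h01) h12 h02 g0 g2 hc
  have n2 : ∀ c, r.adj x2 c → g • c = c := fun c hc =>
    r.fix_nbrs g2 (r.symm _ _ h12) h23 h13 g1 g3 hc
  by_cases hv1 : r.adj x1 v
  · exact n1 v hv1
  by_cases hv2 : r.adj x2 v
  · exact n2 v hv2
  by_cases e1 : v = x1
  · rw [e1]; exact g1
  by_cases e2 : v = x2
  · rw [e2]; exact g2
  obtain ⟨u1, hu1⟩ := r.exists_common e1 hv1
  obtain ⟨u2, hu2⟩ := r.exists_common e2 hv2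
  have f1 := n1 u1 hu1.1
  have f2 := n2 u2 hu2.1
  have hne : u2 ≠ u1 := by
    intro e
    rw [e] at hu2
    exact r.no_tri h12 hu1.1 (r.symm _ _ hu2.1)
  have hna : ¬ r.adj u1 u2 := by
    intro h
    exact r.no_tri h hu1.2 (r.symm _ _ hu2.2)
  exact r.fix_common f1 f2 hne hna ⟨hu1.2, r.symm _ _ hu2.2⟩

end Gr

end Cfsg.Agent.Lib.Helper6.W2pFive
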