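import Mathlib
import Cfsg.Agent.Lib.Helper6.W2pFiveA
import Cfsg.Agent.Lib.Helper4.Simple60
import Cfsg.Agent.Lib.Helper4.Sixty5

/-! Ito `2p`, the case `p = 5`: a primitive, not doubly transitive group of degree ten whose
Sylow `5`-normalizer has order ten is isomorphic to the alternating group of degree five. -/

set_option autoImplicit false

namespace Cfsg.Agent.Lib.Helper6.W2pFive

open Classical

universe u v

section Abstract

variable {Ω : Type u} {G : Type v} [Group G] [MulAction G Ω] [Fintype Ω]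

/-- walks of length one -/
abbrev W1 (r : Gr G Ω) : Type u := Σ a : Ω, {b // r.adj a b}

/-- walks of length two -/
abbrev W2 (r : Gr G Ω) : Type u := Σ w : W1 r, {c // r.adj w.2.1 c}

/-- walks of length three -/
abbrev W3 (r : Gr G Ω) : Type u := Σ w : W2 r, {d // r.adj w.2.1 d}

namespace Gr

variable (r : Gr G Ω)

theorem exists_arc : ∃ x0 x1 x2 x3 : Ω,
    r.adj x0 x1 ∧ r.adj x1 x2 ∧ r.adj x2 x3 ∧ x0 ≠ x2 ∧ x1 ≠ x3 := by
  have hpos : 0 < Fintype.card Ω := by rw [r.card]; norm_num
  obtain ⟨x0⟩ := Fintype.card_pos_iff.mp hpos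
  obtain ⟨x1, h01⟩ := r.exists_nbr x0
  have hnext : ∀ a b, r.adj a b → ∃ c, r.adj b c ∧ a ≠ c := by
    intro a b hab
    have hmem : a ∈ Finset.univ.filter (fun y => r.adj b y) := by
      simp only [Finset.mem_filter, Finset.mem_univ, true_and]; exact r.symm _ _ hab
    have hc : ((Finset.univ.filter (fun y => r.adj b y)).erase a).card = 2 := by
      rw [Finset.card_erase_of_mem hmem, r.deg b]
    have hne : ((Finset.univ.filter (fun y => r.adj b y)).erase a).Nonempty := by
      rw [← Finset.card_pos, hc]; norm_num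
    obtain ⟨c, hc⟩ := hne
    rw [Finset.mem_erase, Finset.mem_filter] at hc
    exact ⟨c, hc.2.2, Ne.symm hc.1⟩
  obtain ⟨x2, h12, h02⟩ := hnext x0 x1 h01
  obtain ⟨x3, h23, h13⟩ := hnext x1 x2 h12
  exact ⟨x0, x1, x2, x3, h01, h12, h23, h02, h13⟩

theorem card_sub (a : Ω) : Fintype.card {b // r.adj a b} = 3 := by
  rw [Fintype.card_subtype]; exact r.deg a

theorem card_W1 : Fintype.card (W1 r) = 30 := by
  rw [Fintype.card_sigma]
  simp only [r.card_sub]
  rw [Finset.sum_const, Finset.card_univ, r.card]; rfl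

theorem card_W2 : Fintype.card (W2 r) = 90 := by
  rw [Fintype.card_sigma]
  simp only [r.card_sub]
  rw [Finset.sum_const, Finset.card_univ, r.card_W1]; rfl

theorem card_W3 : Fintype.card (W3 r) = 270 := by
  rw [Fintype.card_sigma]
  simp only [r.card_sub]
  rw [Finset.sum_const, Finset.card_univ, r.card_W2]; rfl

theorem card_le (r : Gr G Ω) [MulAction.IsPreprimitive G Ω] [Fintype G]
    (hfaith : ∀ g : G, (∀ v : Ω, g • v = v) → g = 1) : Fintype.card G ≤ 270 := by
  obtain ⟨x0, x1, x2, x3, h01, h12, h23, h02, h13⟩ := r.exists_arc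
  let Φ : G → W3 r := fun g =>
    ⟨⟨⟨g • x0, ⟨g • x1, r.inv g _ _ h01⟩⟩, ⟨g • x2, r.inv g _ _ h12⟩⟩, ⟨g • x3, r.inv g _ _ h23⟩⟩
  have hinj : Function.Injective Φ := by
    intro g g' h
    have e0 : g • x0 = g' • x0 := congrArg (fun w : W3 r => w.1.1.1) h
    have e1 : g • x1 = g' • x1 := congrArg (fun w : W3 r => w.1.1.2.1) h
    have e2 : g • x2 = g' • x2 := congrArg (fun w : W3 r => w.1.2.1) h
    have e3 : g • x3 = g' • x3 := congrArg (fun w : W3 r => w.2.1) h
    have key : ∀ x : Ω, g • x = g' • x → (g'⁻¹ * g) • x = x := by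
      intro x hx; rw [mul_smul, hx, inv_smul_smul]
    have := hfaith (g'⁻¹ * g)
      (r.rigid h01 h12 h23 h02 h13 (key _ e0) (key _ e1) (key _ e2) (key _ e3))
    exact (inv_mul_eq_one.mp this).symm
  rw [← r.card_W3]
  exact Fintype.card_le_of_injective Φ hinj

theorem six_dvd (r : Gr G Ω) [Finite G] (x : Ω) : 6 ∣ Nat.card (MulAction.stabilizer G x) := by
  obtain ⟨z, hz1, hz2⟩ := r.exists_non x
  have horb : MulAction.orbit (MulAction.stabilizer G x) z =
      ↑(Finset.univ.filter (fun z' => z' ≠ x ∧ ¬ r.adj x z')) := by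
    ext z'
    rw [MulAction.mem_orbit_iff]
    simp only [Finset.coe_filter, Finset.mem_univ, true_and, Set.mem_ofPred_eq]
    constructor
    · rintro ⟨⟨h, hh⟩, hz'⟩
      have hx : h • x = x := MulAction.mem_stabilizer_iff.mp hh
      have hz'' : h • z = z' := hz'
      rw [← hz'']
      constructor
      · intro e
        apply hz1
        apply MulAction.injective h
        show h • z = h • x
        rw [e, hx]
      · intro e
        apply hz2
        apply (r.inv_iff h x z).mp
        rw [hx]
        exact e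
    · rintro ⟨h1, h2⟩
      obtain ⟨g, hg1, hg2⟩ := r.tr2 x z z' hz1 hz2 h1 h2
      exact ⟨⟨g, MulAction.mem_stabilizer_iff.mpr hg1⟩, hg2⟩
  have hidx := MulAction.index_stabilizer (MulAction.stabilizer G x) z
  rw [horb, Set.ncard_coe_finset, r.card_non x] at hidx
  rw [← hidx]
  exact Subgroup.index_dvd_card _

end Gr

theorem exists_gr [MulAction.IsPretransitive G Ω] (hΩ : Fintype.card Ω = 10)
    (u w u' w' : Ω) (huw : u ≠ w)
    (hcover : ∀ x y : Ω, x ≠ y → W2p.rel G u w x y ∨ W2p.rel G u' w' x y)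
    (hdisj : ¬ W2p.rel G u w u' w')
    (hcard : ∀ x, Nat.card {y // W2p.rel G u w x y} = 3)
    (hswap : ∃ (t : G) (a : Ω), t • a ≠ a ∧ t • t • a = a) : Nonempty (Gr G Ω) := by
  obtain ⟨t, a, hta, htta⟩ := hswap
  have hab : W2p.rel G a (t • a) (t • a) a := ⟨t, rfl, htta⟩
  have hsymm : ∀ x y, W2p.rel G u w x y → W2p.rel G u w y x := by
    intro x y hxy
    rcases hcover a (t • a) (Ne.symm hta) with hA | hB
    · have h1 : W2p.rel G a (t • a) x y := W2p.rel_trans (W2p.rel_symm hA) hxy
      obtain ⟨g, hg1, hg2⟩ := h1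
      have h2 := W2p.rel_smul hab g
      rw [hg1, hg2] at h2
      exact W2p.rel_trans hA h2
    · have hyx : y ≠ x := (W2p.rel_ne hxy huw).symm
      rcases hcover y x hyx with h | h
      · exact h
      · exfalso
        have h1 : W2p.rel G a (t • a) y x := W2p.rel_trans (W2p.rel_symm hB) h
        obtain ⟨g, hg1, hg2⟩ := h1
        have h2 := W2p.rel_smul hab g
        rw [hg1, hg2] at h2
        have h3 : W2p.rel G u' w' x y := W2p.rel_trans hB h2
        exact hdisj (W2p.rel_trans hxy (W2p.rel_symm h3))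
  refine ⟨{ adj := W2p.rel G u w, symm := hsymm, irrefl := ?_, inv := ?_, deg := ?_,
            tr1 := ?_, tr2 := ?_, card := hΩ }⟩
  · intro x h; exact W2p.rel_ne h huw rfl
  · intro g x y h; exact W2p.rel_smul h g
  · intro x
    rw [← hcard x, Nat.card_eq_fintype_card, Fintype.card_subtype]
  · intro x y y' h h'
    exact W2p.rel_trans (W2p.rel_symm h) h'
  · intro x z z' h1 h2 h1' h2'
    have hB : W2p.rel G u' w' x z := (hcover x z (Ne.symm h1)).resolve_left h2
    have hB' : W2p.rel G u' w' x z' := (hcover x z' (Ne.symm h1')).resolve_left h2'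
    exact W2p.rel_trans (W2p.rel_symm hB) hB'

end Abstract

section Concrete

variable {α : Type*} [Fintype α] [DecidableEq α]

/-- The front end of Wielandt `2p` when the group is not doubly transitive. -/
theorem exists_cfg_of_not_two {p : ℕ} (hp : p.Prime) (hα : Fintype.card α = 2 * p)
    (G : Subgroup (Equiv.Perm α)) (hG : MulAction.IsPreprimitive G α)
    (hnot2 : ¬ MulAction.IsMultiplyPretransitive G α 2) : Nonempty (W2p.Cfg p α G) := by
  haveI : Fact p.Prime := ⟨hp⟩
  haveI := hG
  haveI : MulAction.IsPretransitive G α := hG.toIsPretransitive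
  haveI : Fintype G := Fintype.ofFinite G
  obtain ⟨a₀⟩ : Nonempty α := by
    apply Fintype.card_pos_iff.mp
    rw [hα]; exact Nat.mul_pos two_pos hp.pos
  have hdvd : p ∣ Nat.card G := by
    have h1 : (MulAction.stabilizer G a₀).index = Nat.card α :=
      MulAction.index_stabilizer_of_transitive G a₀
    have h2 := Subgroup.index_dvd_card (MulAction.stabilizer G a₀)
    rw [h1, Nat.card_eq_fintype_card, hα] at h2
    exact (Dvd.intro_left 2 rfl).trans h2
  obtain ⟨π, hπ⟩ := exists_prime_orderOf_dvd_card' p hdvd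
  have hπ' : orderOf (π : Equiv.Perm α) = p := by rw [Subgroup.orderOf_coe]; exact hπ
  obtain ⟨n, hn⟩ := Equiv.Perm.cycleType_prime_order (σ := (π : Equiv.Perm α))
    (by rw [hπ']; exact hp)
  rw [hπ'] at hn
  have hsum : (n + 1) * p = (π : Equiv.Perm α).support.card := by
    rw [← Equiv.Perm.sum_cycleType, hn, Multiset.sum_replicate, smul_eq_mul]
  have hle : (π : Equiv.Perm α).support.card ≤ 2 * p := by
    rw [← hα]; exact Finset.card_le_univ _
  have hn1 : n ≤ 1 := by
    have h : (n + 1) * p ≤ 2 * p := hsum ▸ hle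
    have := Nat.le_of_mul_le_mul_right h hp.pos
    omega
  rcases Nat.le_one_iff_eq_zero_or_eq_one.mp hn1 with h0 | h1
  · exfalso
    apply hnot2
    subst h0
    have hcyc : (π : Equiv.Perm α).IsCycle := by
      rw [← Equiv.Perm.card_cycleType_eq_one, hn]; simp
    have htr := Equiv.Perm.isPretransitive_of_isCycle_mem hcyc π.2
    have hsn : ((↑(π : Equiv.Perm α).support : Set α)ᶜ).ncard = (p - 1) + 1 := by
      rw [Set.ncard_compl, Set.ncard_coe_finset, Nat.card_eq_fintype_card, hα, ← hsum]
      have := hp.two_le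
      omega
    have hsn' : (p - 1) + 2 < Nat.card α := by
      rw [Nat.card_eq_fintype_card, hα]
      have := hp.two_le
      omega
    exact hG.is_two_pretransitive hsn hsn' htr
  · subst h1
    have hsupp : (π : Equiv.Perm α).support = Finset.univ := by
      rw [← Finset.card_eq_iff_eq_univ, ← hsum, hα]
    have hfix : ∀ x : α, π • x ≠ x := by
      intro x
      have : x ∈ (π : Equiv.Perm α).support := by rw [hsupp]; exact Finset.mem_univ x
      rw [Equiv.Perm.mem_support] at this
      exact this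
    have hπp : π ^ p = 1 := by rw [← hπ]; exact pow_orderOf_eq_one π
    exact W2p.exists_cfg (G := G) hα π hπp hfix

/-- Step H of Ito `2p`: the case `p = 5`. -/
theorem main (hα : Fintype.card α = 10) (G : Subgroup (Equiv.Perm α))
    (hprim : MulAction.IsPreprimitive G α)
    (hnot2 : ¬ MulAction.IsMultiplyPretransitive G α 2) [Fact (Nat.Prime 5)] (P : Sylow 5 G)
    (hN : Nat.card (Subgroup.normalizer ((P : Subgroup G) : Set G)) = 10) :
    Nonempty (G ≃* alternatingGroup (Fin 5)) := by
  haveI := hprim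
  haveI : MulAction.IsPretransitive G α := hprim.toIsPretransitive
  haveI : Fintype G := Fintype.ofFinite G
  obtain ⟨c⟩ := exists_cfg_of_not_two (p := 5) (by norm_num) (by rw [hα]) G hprim hnot2
  rcases c.core with hL | ⟨hall, a, ha, hpa, hdist, hn⟩
  · exfalso
    apply hnot2
    rw [MulAction.is_two_pretransitive_iff]
    intro x y z w hxy hzw
    exact W2p.rel_trans (W2p.rel_symm (hL x y hxy)) (hL z w hzw)
  have ha1 : a = 1 := by
    have : a < 2 := by
      by_contra h
      push Not at h
      nlinarith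
    omega
  subst ha1
  have e3 : 1 * (2 * 1 + 1) = 3 := by norm_num
  have e6 : (1 + 1) * (2 * 1 + 1) = 6 := by norm_num
  rw [e3, e6] at hn
  have h2dvd : 2 ∣ Nat.card G := by
    have := Subgroup.card_subgroup_dvd_card (Subgroup.normalizer ((P : Subgroup G) : Set G))
    rw [hN] at this
    exact Dvd.dvd.trans (by norm_num) this
  obtain ⟨t, ht⟩ := exists_prime_orderOf_dvd_card' 2 h2dvd
  have ht1 : t ≠ 1 := by
    intro h
    rw [h, orderOf_one] at ht
    norm_num at ht
  have htt : t * t = 1 := by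
    rw [← pow_two, ← ht]; exact pow_orderOf_eq_one t
  have hswap : ∃ (t : G) (a : α), t • a ≠ a ∧ t • t • a = a := by
    have hex : ∃ a : α, t • a ≠ a := by
      by_contra hno
      push Not at hno
      apply ht1
      apply Subtype.ext
      apply Equiv.ext
      intro a
      exact hno a
    obtain ⟨a, ha⟩ := hex
    exact ⟨t, a, ha, by rw [← mul_smul, htt, one_smul]⟩
  have hgr : Nonempty (Gr G α) := by
    rcases hn with ⟨e1, _⟩ | ⟨_, e2⟩
    · refine exists_gr hα (c.pt 0 0) (c.pt 0 1) (c.pt 1 0) (c.pt 1 1) (c.pt_ne 0) ?_ hdist ?_ hswap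
      · intro x y hxy; exact hall x y hxy
      · intro x
        rw [W2p.card_rel_transport (G := G) (c.pt 0 0) (c.pt 0 1) (c.pt 0 0) x]
        exact e1
    · refine exists_gr hα (c.pt 1 0) (c.pt 1 1) (c.pt 0 0) (c.pt 0 1) (c.pt_ne 1) ?_
        (fun h => hdist (W2p.rel_symm h)) ?_ hswap
      · intro x y hxy; exact (hall x y hxy).symm
      · intro x
        rw [W2p.card_rel_transport (G := G) (c.pt 1 0) (c.pt 1 1) (c.pt 0 0) x]
        exact e2
  obtain ⟨r⟩ := hgr
  have hfaith : ∀ g : G, (∀ v : α, g • v = v) → g = 1 := by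
    intro g hg
    apply Subtype.ext
    apply Equiv.ext
    intro a
    exact hg a
  have hle : Fintype.card G ≤ 270 := r.card_le hfaith
  rw [← Nat.card_eq_fintype_card] at hle
  have x0 : α := c.pt 0 0
  have h6 := r.six_dvd x0
  have hidx : (MulAction.stabilizer G x0).index = 10 := by
    rw [MulAction.index_stabilizer_of_transitive, Nat.card_eq_fintype_card, hα]
  have hmul := Subgroup.card_mul_index (MulAction.stabilizer G x0)
  have hsyl : Nat.card (Sylow 5 G) =
      (Subgroup.normalizer ((P : Subgroup G) : Set G)).index := Sylow.card_eq_index_normalizer P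
  have hmod := card_sylow_modEq_one 5 G
  have hmul2 := Subgroup.card_mul_index (Subgroup.normalizer ((P : Subgroup G) : Set G))
  rw [hN, ← hsyl] at hmul2
  rw [hidx] at hmul
  have hcard : Nat.card G = 60 := by
    unfold Nat.ModEq at hmod
    obtain ⟨k, hk⟩ := h6
    omega
  have hPn : ¬ (P : Subgroup G).Normal := by
    intro hnorm
    have h1 : Subgroup.normalizer ((P : Subgroup G) : Set G) = ⊤ :=
      Subgroup.normalizer_eq_top_iff.mpr hnorm
    rw [h1, Subgroup.card_top] at hN
    omega
  haveI := Cfsg.Agent.Lib.Helper4.Sixty.isSimpleGroup_of_card_sixty hcard P hPn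
  exact Cfsg.Agent.Lib.Helper4.simple_sixty_iso hcard

end Concrete

end Cfsg.Agent.Lib.Helper6.W2pFive
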