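import Mathlib
import Cfsg.Prelude.Def_Characters
import Cfsg.Agent.Lib.Helper6.ItoSetupA
import Cfsg.Agent.Lib.Helper6.W2pFiveB
import Cfsg.Agent.Lib.Helper6.CharBasic

/-! Ito `2p`: the group theoretic setup. Part B: primitive, not doubly transitive permutation
groups of degree `2p` whose Sylow `p`-normalizer has order `2p`. -/

set_option autoImplicit false

namespace Cfsg.Agent.Lib.Helper6.ItoSetup

open Cfsg.Agent.Lib.Helper4 Cfsg.Agent.Lib.Helper4.Sixty

variable {α : Type*} [Fintype α] [DecidableEq α] {p : ℕ} [hpf : Fact p.Prime]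

/-- elements of order `p` are fixed point free (Jordan) -/
theorem fpf (hα : Fintype.card α = 2 * p) (G : Subgroup (Equiv.Perm α))
    (hG : MulAction.IsPreprimitive G α) (hnot2 : ¬ MulAction.IsMultiplyPretransitive G α 2)
    (π : G) (hπ : orderOf π = p) (x : α) : π • x ≠ x := by
  have hp := hpf.out
  haveI := hG
  have hπ' : orderOf (π : Equiv.Perm α) = p := by rw [Subgroup.orderOf_coe]; exact hπ
  obtain ⟨n, hn⟩ := Equiv.Perm.cycleType_prime_order (σ := (π : Equiv.Perm α))
    (by rw [hπ']; exact hp)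
  rw [hπ'] at hn
  have hsum : (n + 1) * p = (π : Equiv.Perm α).support.card := by
    rw [← Equiv.Perm.sum_cycleType, hn, Multiset.sum_replicate, smul_eq_mul]
  have hle : (π : Equiv.Perm α).support.card ≤ 2 * p := by
    rw [← hα]; exact Finset.card_le_univ _
  have hn1 : n ≤ 1 := by
    have h : (n + 1) * p ≤ 2 * p := hsum ▸ hle
    have := Nat.le_of_mul_le_mul_right h hp.pos
    omega
  rcases Nat.le_one_iff_eq_zero_or_eq_one.mp hn1 with h0 | h1
  · exfalso
    apply hnot2
    subst h0
    have hcyc : (π : Equiv.Perm α).IsCycle := by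
      rw [← Equiv.Perm.card_cycleType_eq_one, hn]; simp
    have htr := Equiv.Perm.isPretransitive_of_isCycle_mem hcyc π.2
    have hsn : ((↑(π : Equiv.Perm α).support : Set α)ᶜ).ncard = (p - 1) + 1 := by
      rw [Set.ncard_compl, Set.ncard_coe_finset, Nat.card_eq_fintype_card, hα, ← hsum]
      have := hp.two_le
      omega
    have hsn' : (p - 1) + 2 < Nat.card α := by
      rw [Nat.card_eq_fintype_card, hα]
      have := hp.two_le
      omega
    exact hG.is_two_pretransitive hsn hsn' htr
  · subst h1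
    have hsupp : (π : Equiv.Perm α).support = Finset.univ := by
      rw [← Finset.card_eq_iff_eq_univ, ← hsum, hα]
    have : x ∈ (π : Equiv.Perm α).support := by rw [hsupp]; exact Finset.mem_univ x
    rw [Equiv.Perm.mem_support] at this
    exact this

/-- a nontrivial normal subgroup of a primitive group of degree `2p` has order divisible by `p` -/
theorem dvd_card_normal (hα : Fintype.card α = 2 * p) (G : Subgroup (Equiv.Perm α))
    (hG : MulAction.IsPreprimitive G α) (K : Subgroup G) (hK : K.Normal) (hK1 : K ≠ ⊥) :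
    p ∣ Nat.card K := by
  haveI := hG
  haveI := hK
  have hfix : MulAction.fixedPoints K α ≠ Set.univ := by
    intro h
    apply hK1
    rw [Subgroup.eq_bot_iff_forall]
    intro k hk
    apply Subtype.ext
    apply Equiv.ext
    intro a
    have ha : a ∈ MulAction.fixedPoints K α := by rw [h]; trivial
    exact ha ⟨k, hk⟩
  haveI : MulAction.IsPretransitive K α :=
    MulAction.IsQuasiPreprimitive.isPretransitive_of_normal hfix
  have hpos : 0 < Fintype.card α := by rw [hα]; exact Nat.mul_pos two_pos hpf.out.pos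
  obtain ⟨a⟩ := Fintype.card_pos_iff.mp hpos
  have h1 := MulAction.index_stabilizer_of_transitive K a
  have h2 := Subgroup.index_dvd_card (MulAction.stabilizer K a)
  rw [h1, Nat.card_eq_fintype_card, hα] at h2
  exact (Dvd.intro_left 2 rfl).trans h2

/-- a character which is not constant `χ 1` on the elements of order `p` is faithful -/
theorem faithful_of_ne (hp2 : 2 < p) (hα : Fintype.card α = 2 * p)
    (G : Subgroup (Equiv.Perm α)) (hG : MulAction.IsPreprimitive G α) (P : Sylow p G)
    (hN : Nat.card (Subgroup.normalizer ((P : Subgroup G) : Set G)) = 2 * p)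
    {chi : G → ℂ} (hchi : Cfsg.IsCharacter G chi) (x : G) (hx : orderOf x = p)
    (hne : chi x ≠ chi 1) : ∀ g, chi g = chi 1 → g = 1 := by
  haveI : Fintype G := Fintype.ofFinite G
  obtain ⟨n, ρ, hρ⟩ := hchi
  intro g hg
  by_contra hg1
  have hc : ∀ Q : Sylow p G, Nat.card Q = p := fun Q => (card_all hp2 P hN Q).1
  have hgK : g ∈ MonoidHom.ker ρ := by
    rw [MonoidHom.mem_ker]
    exact (character_eq_finrank_iff ρ g).mp (by rw [hρ, hg, ← hρ, Representation.char_one])
  have hK1 : MonoidHom.ker ρ ≠ ⊥ := by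
    intro e
    rw [e, Subgroup.mem_bot] at hgK
    exact hg1 hgK
  have hKn : (MonoidHom.ker ρ).Normal := MonoidHom.normal_ker ρ
  have hxK : x ∈ MonoidHom.ker ρ :=
    mem_of_normal_of_dvd p hc (MonoidHom.ker ρ)
      (dvd_card_normal hα G hG (MonoidHom.ker ρ) hKn hK1) x hx
  apply hne
  rw [MonoidHom.mem_ker] at hxK
  rw [← hρ]
  unfold Representation.character
  rw [hxK, map_one ρ]

/-- the subdegree `a (2a+1)` and the divisibility of the group order -/
theorem exists_param (hα : Fintype.card α = 2 * p) (G : Subgroup (Equiv.Perm α))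
    (hG : MulAction.IsPreprimitive G α) (hnot2 : ¬ MulAction.IsMultiplyPretransitive G α 2) :
    ∃ a : ℕ, 0 < a ∧ p = 2 * a ^ 2 + 2 * a + 1 ∧ (a * (2 * a + 1)) * (2 * p) ∣ Nat.card G := by
  haveI := hG
  haveI : MulAction.IsPretransitive G α := hG.toIsPretransitive
  haveI : Fintype G := Fintype.ofFinite G
  obtain ⟨c⟩ := W2pFive.exists_cfg_of_not_two hpf.out hα G hG hnot2
  rcases c.core with hL | ⟨hall, a, ha, hpa, hdist, hn⟩
  · exfalso
    apply hnot2
    rw [MulAction.is_two_pretransitive_iff]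
    intro x y z w hxy hzw
    exact W2p.rel_trans (W2p.rel_symm (hL x y hxy)) (hL z w hzw)
  refine ⟨a, ha, hpa, ?_⟩
  have key : ∀ (u w : α), Nat.card {y // W2p.rel G u w (c.pt 0 0) y} = a * (2 * a + 1) →
      (a * (2 * a + 1)) * (2 * p) ∣ Nat.card G := by
    intro u w hcard
    have hpos : 0 < Nat.card {y // W2p.rel G u w (c.pt 0 0) y} := by
      rw [hcard]; positivity
    obtain ⟨⟨b, hb⟩⟩ := (Nat.card_pos_iff.mp hpos).1
    have horb : ∀ y, y ∈ MulAction.orbit (MulAction.stabilizer G (c.pt 0 0)) b ↔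
        W2p.rel G u w (c.pt 0 0) y := by
      intro y
      rw [W2p.mem_orbit_stab_iff]
      exact ⟨fun h => W2p.rel_trans hb h, fun h => W2p.rel_trans (W2p.rel_symm hb) h⟩
    have hcard2 : (MulAction.orbit (MulAction.stabilizer G (c.pt 0 0)) b).ncard
        = a * (2 * a + 1) := by
      rw [← hcard, ← Nat.card_coe_set_eq]
      exact Nat.card_congr (Equiv.subtypeEquivRight horb)
    have h1 := MulAction.index_stabilizer (MulAction.stabilizer G (c.pt 0 0)) b
    have h2 := Subgroup.index_dvd_card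
      (MulAction.stabilizer (MulAction.stabilizer G (c.pt 0 0)) b)
    rw [h1, hcard2] at h2
    have h3 : (MulAction.stabilizer G (c.pt 0 0)).index = 2 * p := by
      rw [MulAction.index_stabilizer_of_transitive, Nat.card_eq_fintype_card, hα]
    have h4 := Subgroup.card_mul_index (MulAction.stabilizer G (c.pt 0 0))
    rw [h3] at h4
    rw [← h4]
    exact Nat.mul_dvd_mul_right h2 _
  rcases hn with ⟨e1, _⟩ | ⟨_, e2⟩
  · exact key _ _ e1
  · exact key _ _ e2

/-- The group theoretic setup of Ito's theorem, bundled. -/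
theorem setup (hp : 3 < p) (hα : Fintype.card α = 2 * p) (G : Subgroup (Equiv.Perm α))
    (hG : MulAction.IsPreprimitive G α) (hnot2 : ¬ MulAction.IsMultiplyPretransitive G α 2)
    (P : Sylow p G)
    (hN : Nat.card (Subgroup.normalizer ((P : Subgroup G) : Set G)) = 2 * p) :
    Nat.card (P : Subgroup G) = p ∧
    (∀ x : G, orderOf x = p → ∀ c : α, x • c ≠ c) ∧
    (∀ x ∈ (P : Subgroup G), x ≠ 1 → ∀ g : G, g * x = x * g → g ∈ (P : Subgroup G)) ∧
    (∃ w : G, ∀ x ∈ (P : Subgroup G), w⁻¹ * x * w = x⁻¹) ∧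
    (∀ x ∈ (P : Subgroup G), x ≠ 1 → ∀ g : G, g⁻¹ * x * g ∈ (P : Subgroup G) →
      g⁻¹ * x * g = x ∨ g⁻¹ * x * g = x⁻¹) ∧
    (∀ g : G, p ∣ orderOf g → orderOf g = p) ∧
    (∀ K : Subgroup G, K.Normal → K ≠ ⊥ → (P : Subgroup G) ≤ K) := by
  have hp2 : 2 < p := by omega
  have hnorm : ∀ K : Subgroup G, K.Normal → K ≠ ⊥ → p ∣ Nat.card K :=
    fun K hK hK1 => dvd_card_normal hα G hG K hK hK1
  have hP := (card_all hp2 P hN P).1
  have hcent := cent_le hp2 P hN hnorm
  have hinv := Cfsg.Agent.Lib.Helper7.P2p.inv_of_normalizer (P : Subgroup G) hP hN hcent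
  have hc : ∀ Q : Sylow p G, Nat.card Q = p := fun Q => (card_all hp2 P hN Q).1
  refine ⟨hP, fun x hx c => fpf hα G hG hnot2 x hx c, hcent, hinv.1, hinv.2,
    fun g hg => orderOf_eq_of_dvd hp2 P hN hnorm g hg, ?_⟩
  intro K hK hK1 x hx
  by_cases hx1 : x = 1
  · rw [hx1]; exact K.one_mem
  · haveI := hK
    exact mem_of_normal_of_dvd p hc K (hnorm K hK hK1) x (orderOf_of_mem_sylow P hP hx hx1)

end Cfsg.Agent.Lib.Helper6.ItoSetup
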