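import Mathlib
import Cfsg.Agent.Lib.Helper4.ES2B

/-!
# Groups of type `J₂` (S1721 / S5382), fusion of involutions (lead's steps A5, A6, A8)

From the module structure of `Q` under `C = C(z)`, the one-class property of the involutions of
`C \ Q`, `z` not weakly closed in `Q` and more than one class of involutions:
all involutions of `Q` are conjugate to `z`, a Sylow 2-subgroup of `G` has order `128` and lies in a
conjugate of `C`, and `G` has exactly two classes of involutions.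
-/

set_option autoImplicit false

namespace Cfsg.Agent.Lib.Helper6.J2F
open Cfsg.Agent.Lib.Helper4.ES2

variable {G : Type*} [Group G]

theorem exists_two_others : ∀ i j : Fin 5, i ≠ j →
    ∃ k l : Fin 5, k ≠ l ∧ i ≠ k ∧ i ≠ l ∧ j ≠ k ∧ j ≠ l := by decide

/-- `A₅` is transitive on five points -/
theorem exists_alt_map (i j : Fin 5) :
    ∃ σ : Equiv.Perm (Fin 5), σ ∈ alternatingGroup (Fin 5) ∧ σ i = j := by
  by_cases hij : i = j
  · exact ⟨1, Subgroup.one_mem _, by simp [hij]⟩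
  · obtain ⟨k, l, hkl, hik, hil, hjk, hjl⟩ := exists_two_others i j hij
    refine ⟨Equiv.swap i j * Equiv.swap k l, ?_, ?_⟩
    · rw [Equiv.Perm.mem_alternatingGroup, map_mul, Equiv.Perm.sign_swap hij,
        Equiv.Perm.sign_swap hkl]
      rfl
    · rw [Equiv.Perm.mul_apply, Equiv.swap_apply_of_ne_of_ne hik hil, Equiv.swap_apply_left]

theorem sq_of_orderOf_two {x : G} (hx : orderOf x = 2) : x * x = 1 ∧ x ≠ 1 := by
  refine ⟨?_, ?_⟩
  · have := pow_orderOf_eq_one x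
    rwa [hx, pow_two] at this
  · intro h
    rw [h, orderOf_one] at hx
    norm_num at hx

theorem orderOf_two_of_sq {x : G} (hx : x * x = 1) (hx1 : x ≠ 1) : orderOf x = 2 :=
  orderOf_eq_prime (by rw [pow_two]; exact hx) hx1

theorem fusion_aux [Finite G] (z : G) (C Q : Subgroup G)
    (hmemC : ∀ c, c ∈ C ↔ c * z = z * c)
    (hD : Data Q z) (hQ : Nat.card Q = 32) (hQC : Q ≤ C)
    (hQn : ∀ c ∈ C, ∀ q ∈ Q, c * q * c⁻¹ ∈ Q)
    (hself : ∀ c ∈ C, (∀ q ∈ Q, c * q = q * c) → c ∈ Q)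
    (hCcard : Nat.card (C) = 1920)
    (phi : ↥(C) →* Equiv.Perm (Fin 5)) (u : Fin 5 → G)
    (hran : phi.range = alternatingGroup (Fin 5))
    (hu : ∀ i, u i ∈ Q ∧ u i * u i = 1 ∧ u i ≠ 1 ∧ u i ≠ z)
    (hcm : ∀ i j, i ≠ j → cm (u i) (u j) = z)
    (hexh : ∀ x ∈ Q, x * x = 1 → x = 1 ∨ x = z ∨ ∃ i, x = u i ∨ x = u i * z)
    (hact : ∀ (c : ↥(C)) (i : Fin 5),
      (c : G) * u i * (c : G)⁻¹ = u (phi c i) ∨ (c : G) * u i * (c : G)⁻¹ = u (phi c i) * z)
    (hI : ∀ v ∈ C, v ∉ Q → v * v = 1 →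
      ∀ v' ∈ C, v' ∉ Q → v' * v' = 1 →
        ∃ c ∈ C, c * v' * c⁻¹ = v)
    (hnwc : ∃ g : G, g * z * g⁻¹ ∈ Q ∧ g * z * g⁻¹ ≠ z)
    (hcl : ∃ x y : G, orderOf x = 2 ∧ orderOf y = 2 ∧ ¬ IsConj x y) :
    (∀ x ∈ Q, orderOf x = 2 → IsConj x z) ∧
    (∀ P : Sylow 2 G, Nat.card P = 128) ∧
    (∀ x : G, orderOf x = 2 → ∃ g : G, g * x * g⁻¹ ∈ C) ∧
    (∀ t ∈ C, t ∉ Q → orderOf t = 2 →
      ¬ IsConj z t ∧ (∀ x : G, orderOf x = 2 → IsConj x z ∨ IsConj x t) ∧
      (∀ x ∈ C, orderOf x = 2 → x ∉ Q → IsConj x t)) ∧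
    (∃ t ∈ C, t ∉ Q ∧ orderOf t = 2) := by
  classical
  haveI : Fact (Nat.Prime 2) := ⟨Nat.prime_two⟩
  have hzz : z * z = 1 := hD.z_sq
  -- PART 1: the involutions of `Q`
  have htrans : ∀ i j, ∃ c : ↥C, phi c i = j := by
    intro i j
    obtain ⟨σ, hσ, hσij⟩ := exists_alt_map i j
    rw [← hran] at hσ
    obtain ⟨c, rfl⟩ := hσ
    exact ⟨c, hσij⟩
  have hflip : ∀ i, IsConj (u i) (u i * z) := by
    intro i
    obtain ⟨k, hk⟩ : ∃ k : Fin 5, k ≠ i := exists_ne i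
    have h1 := hcm k i hk
    rw [isConj_iff]
    refine ⟨u k, ?_⟩
    have h2 : u k * u i * (u k)⁻¹ = cm (u k) (u i) * u i := by unfold cm; group
    rw [h2, h1]
    exact (hD.z_comm _ (hu i).1).symm
  have hall : ∀ i j, IsConj (u i) (u j) := by
    intro i j
    obtain ⟨c, hc⟩ := htrans i j
    rcases hact c i with h | h
    · rw [hc] at h; exact isConj_iff.mpr ⟨c, h⟩
    · rw [hc] at h
      exact (isConj_iff.mpr ⟨(c : G), h⟩).trans (hflip j).symm
  obtain ⟨g₀, hg₀Q, hg₀z⟩ := hnwc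
  have hzu : ∃ i₀, IsConj z (u i₀) := by
    have hsq : (g₀ * z * g₀⁻¹) * (g₀ * z * g₀⁻¹) = 1 := by
      calc (g₀ * z * g₀⁻¹) * (g₀ * z * g₀⁻¹) = g₀ * (z * z) * g₀⁻¹ := by group
        _ = 1 := by rw [hzz]; group
    have hne1 : g₀ * z * g₀⁻¹ ≠ 1 := by
      intro h
      apply hD.z_ne
      calc z = g₀⁻¹ * (g₀ * z * g₀⁻¹) * g₀ := by group
        _ = 1 := by rw [h]; group
    rcases hexh _ hg₀Q hsq with h | h | ⟨i, h | h⟩
    · exact absurd h hne1
    · exact absurd h hg₀z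
    · exact ⟨i, isConj_iff.mpr ⟨g₀, h⟩⟩
    · exact ⟨i, (isConj_iff.mpr ⟨g₀, h⟩).trans (hflip i).symm⟩
  obtain ⟨i₀, hi₀⟩ := hzu
  have hQz : ∀ x ∈ Q, orderOf x = 2 → IsConj x z := by
    intro x hxQ hx2
    obtain ⟨hxx, hx1⟩ := sq_of_orderOf_two hx2
    rcases hexh x hxQ hxx with h | h | ⟨i, h | h⟩
    · exact absurd h hx1
    · rw [h]
    · rw [h]; exact (hall i i₀).trans hi₀.symm
    · rw [h]; exact ((hflip i).symm.trans (hall i i₀)).trans hi₀.symm
  -- PART 2: a Sylow 2-subgroup inside `C`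
  have hQp : IsPGroup 2 Q := hD.isPGroup
  obtain ⟨P, hQP⟩ := hQp.exists_le_sylow
  have hzP : z ∈ (P : Subgroup G) := hQP hD.zQ
  have hPC : (P : Subgroup G) ≤ C := by
    haveI hPnt : Nontrivial (P : Subgroup G) :=
      ⟨⟨⟨z, hzP⟩, 1, fun h => hD.z_ne (congrArg Subtype.val h)⟩⟩
    haveI hcen : Nontrivial (Subgroup.center (P : Subgroup G)) :=
      IsPGroup.center_nontrivial P.isPGroup'
    obtain ⟨w, hw⟩ := exists_ne (1 : Subgroup.center (P : Subgroup G))
    have hwcomm : ∀ p ∈ (P : Subgroup G), p * ((w : ↥(P : Subgroup G)) : G) =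
        ((w : ↥(P : Subgroup G)) : G) * p := by
      intro p hp
      have h1 := Subgroup.mem_center_iff.mp w.2 ⟨p, hp⟩
      exact congrArg Subtype.val h1
    set w' : G := ((w : ↥(P : Subgroup G)) : G) with hw'
    have hw'1 : w' ≠ 1 := by
      intro h
      apply hw
      apply Subtype.ext
      apply Subtype.ext
      exact h
    have hw'C : w' ∈ C := by
      rw [hmemC]
      exact (hwcomm z hzP).symm
    have hw'Q : w' ∈ Q := hself w' hw'C (fun q hq => (hwcomm q (hQP hq)).symm)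
    have hw'z : w' = z := by
      rcases hD.center_sub w' hw'Q (fun q hq => hwcomm q (hQP hq)) with h | h
      · exact absurd h hw'1
      · exact h
    intro p hp
    rw [hmemC]
    have := hwcomm p hp
    rwa [hw'z] at this
  have hPcard : Nat.card (P : Subgroup G) = 128 := by
    have h1 := P.card_eq_multiplicity
    set n := (Nat.card G).factorization 2 with hn
    have h2 : Nat.card (P : Subgroup G) ∣ 1920 := by
      have := Subgroup.card_dvd_of_le hPC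
      rwa [hCcard] at this
    have h3 : (1920 : ℕ) ∣ Nat.card G := by
      rw [← hCcard]; exact Subgroup.card_subgroup_dvd_card C
    have h4 : 7 ≤ n := by
      have h5 : 2 ^ 7 ∣ Nat.card G := dvd_trans (by norm_num) h3
      exact (Nat.prime_two.pow_dvd_iff_le_factorization Nat.card_pos.ne').mp h5
    have h6 : n ≤ 7 := by
      by_contra hcon
      have h7 : 8 ≤ n := by omega
      have h8 : 2 ^ 8 ∣ 1920 := dvd_trans (pow_dvd_pow 2 h7) (h1 ▸ h2)
      norm_num at h8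
    have h9 : n = 7 := le_antisymm h6 h4
    rw [h1, h9]; norm_num
  have hSyl : ∀ P' : Sylow 2 G, Nat.card P' = 128 := by
    intro P'
    have h1 := P'.card_eq_multiplicity
    have h2 := P.card_eq_multiplicity
    have h3 : Nat.card (P' : Subgroup G) = Nat.card (P : Subgroup G) := by rw [h1, h2]
    exact h3.trans hPcard
  -- PART 3: every involution is conjugate into `C`
  have hinto : ∀ x : G, orderOf x = 2 → ∃ g : G, g * x * g⁻¹ ∈ C := by
    intro x hx
    have hp : IsPGroup 2 (Subgroup.zpowers x) := by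
      apply IsPGroup.of_card (n := 1)
      rw [Nat.card_zpowers, hx, pow_one]
    obtain ⟨P', hP'⟩ := hp.exists_le_sylow
    have hxP' : x ∈ (P' : Subgroup G) := hP' (Subgroup.mem_zpowers x)
    obtain ⟨g, hg⟩ := MulAction.exists_smul_eq G P' P
    refine ⟨g, hPC ?_⟩
    have h1 : g * x * g⁻¹ ∈ ((g • P' : Sylow 2 G) : Subgroup G) := by
      rw [Sylow.coe_subgroup_smul]
      have := Subgroup.smul_mem_pointwise_smul x (MulAut.conj g) (P' : Subgroup G) hxP'
      simpa [MulAut.smul_def, MulAut.conj_apply] using this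
    rwa [hg] at h1
  have hconj2 : ∀ (g x : G), orderOf (g * x * g⁻¹) = orderOf x := by
    intro g x
    have : g * x * g⁻¹ = MulAut.conj g x := by rw [MulAut.conj_apply]
    rw [this]
    exact (MulAut.conj g).orderOf_eq x
  -- PART 4
  have hpart4 : ∀ t ∈ C, t ∉ Q → orderOf t = 2 →
      ¬ IsConj z t ∧ (∀ x : G, orderOf x = 2 → IsConj x z ∨ IsConj x t) ∧
      (∀ x ∈ C, orderOf x = 2 → x ∉ Q → IsConj x t) := by
    intro t htC htQ ht2
    obtain ⟨htt, ht1⟩ := sq_of_orderOf_two ht2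
    have hc : ∀ x ∈ C, orderOf x = 2 → x ∉ Q → IsConj x t := by
      intro x hxC hx2 hxQ
      obtain ⟨c, _, hc⟩ := hI t htC htQ htt x hxC hxQ (sq_of_orderOf_two hx2).1
      exact isConj_iff.mpr ⟨c, hc⟩
    have hb : ∀ x : G, orderOf x = 2 → IsConj x z ∨ IsConj x t := by
      intro x hx2
      obtain ⟨g, hg⟩ := hinto x hx2
      have hx' : IsConj x (g * x * g⁻¹) := isConj_iff.mpr ⟨g, rfl⟩
      have ho : orderOf (g * x * g⁻¹) = 2 := by rw [hconj2, hx2]
      by_cases hgQ : g * x * g⁻¹ ∈ Q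
      · exact Or.inl (hx'.trans (hQz _ hgQ ho))
      · exact Or.inr (hx'.trans (hc _ hg ho hgQ))
    refine ⟨?_, hb, hc⟩
    intro hzt
    obtain ⟨x, y, hx, hy, hxy⟩ := hcl
    apply hxy
    have hxz : IsConj x z := by
      rcases hb x hx with h | h
      · exact h
      · exact h.trans hzt.symm
    have hyz : IsConj y z := by
      rcases hb y hy with h | h
      · exact h
      · exact h.trans hzt.symm
    exact hxz.trans hyz.symm
  refine ⟨hQz, hSyl, hinto, hpart4, ?_⟩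
  -- PART 5
  by_contra hcon
  obtain ⟨x, y, hx, hy, hxy⟩ := hcl
  have hallz : ∀ w : G, orderOf w = 2 → IsConj w z := by
    intro w hw
    obtain ⟨g, hg⟩ := hinto w hw
    have hw' : IsConj w (g * w * g⁻¹) := isConj_iff.mpr ⟨g, rfl⟩
    have ho : orderOf (g * w * g⁻¹) = 2 := by rw [hconj2, hw]
    have hgQ : g * w * g⁻¹ ∈ Q := by
      by_contra hgQ
      exact hcon ⟨_, hg, hgQ, ho⟩
    exact hw'.trans (hQz _ hgQ ho)
  exact hxy ((hallz x hx).trans (hallz y hy).symm)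

theorem fusion [Finite G] (z : G) (hz : orderOf z = 2) (Q : Subgroup G)
    (hD : Data Q z) (hQ : Nat.card Q = 32) (hQC : Q ≤ Subgroup.centralizer ({z} : Set G))
    (hQn : ∀ c ∈ Subgroup.centralizer ({z} : Set G), ∀ q ∈ Q, c * q * c⁻¹ ∈ Q)
    (hself : ∀ c ∈ Subgroup.centralizer ({z} : Set G), (∀ q ∈ Q, c * q = q * c) → c ∈ Q)
    (hCcard : Nat.card (Subgroup.centralizer ({z} : Set G)) = 1920)
    (phi : ↥(Subgroup.centralizer ({z} : Set G)) →* Equiv.Perm (Fin 5)) (u : Fin 5 → G)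
    (hran : phi.range = alternatingGroup (Fin 5))
    (hu : ∀ i, u i ∈ Q ∧ u i * u i = 1 ∧ u i ≠ 1 ∧ u i ≠ z)
    (hcm : ∀ i j, i ≠ j → cm (u i) (u j) = z)
    (hexh : ∀ x ∈ Q, x * x = 1 → x = 1 ∨ x = z ∨ ∃ i, x = u i ∨ x = u i * z)
    (hact : ∀ (c : ↥(Subgroup.centralizer ({z} : Set G))) (i : Fin 5),
      (c : G) * u i * (c : G)⁻¹ = u (phi c i) ∨ (c : G) * u i * (c : G)⁻¹ = u (phi c i) * z)
    (hI : ∀ v ∈ Subgroup.centralizer ({z} : Set G), v ∉ Q → v * v = 1 →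
      ∀ v' ∈ Subgroup.centralizer ({z} : Set G), v' ∉ Q → v' * v' = 1 →
        ∃ c ∈ Subgroup.centralizer ({z} : Set G), c * v' * c⁻¹ = v)
    (hnwc : ∃ g : G, g * z * g⁻¹ ∈ Q ∧ g * z * g⁻¹ ≠ z)
    (hcl : ∃ x y : G, orderOf x = 2 ∧ orderOf y = 2 ∧ ¬ IsConj x y) :
    (∀ x ∈ Q, orderOf x = 2 → IsConj x z) ∧
    (∀ P : Sylow 2 G, Nat.card P = 128) ∧
    (∀ x : G, orderOf x = 2 → ∃ g : G, g * x * g⁻¹ ∈ Subgroup.centralizer ({z} : Set G)) ∧
    (∀ t ∈ Subgroup.centralizer ({z} : Set G), t ∉ Q → orderOf t = 2 →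
      ¬ IsConj z t ∧ (∀ x : G, orderOf x = 2 → IsConj x z ∨ IsConj x t) ∧
      (∀ x ∈ Subgroup.centralizer ({z} : Set G), orderOf x = 2 → x ∉ Q → IsConj x t)) ∧
    (∃ t ∈ Subgroup.centralizer ({z} : Set G), t ∉ Q ∧ orderOf t = 2) := by
  refine fusion_aux z (Subgroup.centralizer ({z} : Set G)) Q ?_ hD hQ hQC hQn hself hCcard phi u hran
    hu hcm hexh hact hI hnwc hcl
  intro c
  rw [Subgroup.mem_centralizer_iff]
  constructor
  · intro h; exact (h z (Set.mem_singleton z)).symm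
  · intro h y hy
    rw [Set.mem_singleton_iff] at hy
    subst hy
    exact h.symm

end Cfsg.Agent.Lib.Helper6.J2F
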