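import Mathlib
import Cfsg.Agent.Lib.Helper8.HJ4

/-!
# Groups of type `J₂` (S1721): Thompson's order formula without a complement

`core'` is `Cfsg.Agent.Lib.Helper8.HJ.core` with the complement `K ≅ A₅` replaced by the numerical
facts it was used for; the second centralizer is `V × B` with an arbitrary `B`.
`count_A4`: the count `a(t)` when all involutions of `B` lie in a four-group.
-/

set_option autoImplicit false

namespace Cfsg.Agent.Lib.Helper6.J2K
open Cfsg.Agent.Lib.Helper4.ES2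
open Cfsg.Agent.Lib.Lead
open Cfsg.Agent.Lib.Helper6.HJc
open Cfsg.Agent.Lib.Helper8.HJ

variable {G : Type*} [Group G]

theorem core' [Finite G] (z t : G) (hz : orderOf z = 2) (ht : orderOf t = 2)
    (hzt : ¬ IsConj z t) (hcl : ∀ x : G, orderOf x = 2 → IsConj x z ∨ IsConj x t)
    (Q : Subgroup G) (hD : Data Q z)
    (hQn : ∀ c ∈ Subgroup.centralizer ({z} : Set G), ∀ q ∈ Q, c * q * c⁻¹ ∈ Q)
    (hCcard : Nat.card (Subgroup.centralizer ({z} : Set G)) = 1920)
    (hmin : invCount Q = 12 ∧ RkLE 2 Q)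
    (hI : Nat.card {b : G // IsConj t b ∧ b * z = z * b} = 120)
    (hfus : ∀ v : G, IsConj t v → v * z = z * v →
      Nat.card {u : G // u ∈ Q ∧ orderOf u = 2 ∧ u * v = v * u} = 3)
    (hQz : ∀ x ∈ Q, orderOf x = 2 → IsConj x z)
    (hCz : ∀ x ∈ Subgroup.centralizer ({z} : Set G), orderOf x = 2 → x ∉ Q → IsConj x t)
    (V B : Subgroup G) (hVB : Cfsg.IsInternalDirectProduct V B (Subgroup.centralizer ({t} : Set G)))
    (hV2 : ∀ v ∈ V, v ^ 2 = 1) (htV : t ∈ V)
    (hBz : ∀ x ∈ B, orderOf x = 2 → IsConj x z)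
    (hCt : ∀ x ∈ Subgroup.centralizer ({t} : Set G), orderOf x = 2 → x ∉ B → IsConj x t) :
    Nat.card G = Nat.card (Subgroup.centralizer ({t} : Set G)) * 960 +
      1920 * Nat.card {p : G × G // p.1 ∈ B ∧ p.2 ∈ B ∧ orderOf p.1 = 2 ∧ p.2 * p.2 = 1 ∧
        Odd (orderOf (p.1 * p.2))} := by
  classical
  have hmemC : ∀ x : G, x ∈ Subgroup.centralizer ({z} : Set G) ↔ x * z = z * x := fun x =>
    Subgroup.mem_centralizer_singleton_iff
  obtain ⟨hinv12, hrk⟩ := hmin
  have hinv11 : Nat.card {u : G // u ∈ Q ∧ orderOf u = 2} = 11 := by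
    have := card_invol_add_one Q
    omega
  -- characterization of the pairs counted by a(z)
  have hpair : ∀ u v : G, (IsConj z u ∧ IsConj t v ∧ z ∈ Subgroup.zpowers (u * v)) ↔
      ((IsConj t v ∧ v * z = z * v) ∧ (u ∈ Q ∧ orderOf u = 2) ∧ ¬ (u * v = v * u)) := by
    intro u v
    constructor
    · rintro ⟨hu, hv, hmem⟩
      have hu2 : orderOf u = 2 := by rw [S0213.orderOf_of_isConj hu]; exact hz
      have hv2 : orderOf v = 2 := by rw [S0213.orderOf_of_isConj hv]; exact ht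
      obtain ⟨h1, h2⟩ := comm_of_mem_zpowers (invol_mul_self hu2) (invol_mul_self hv2)
        (invol_mul_self hz) hmem
      have huQ : u ∈ Q := by
        by_contra hnQ
        exact hzt (hu.trans (hCz u ((hmemC u).mpr h1) hu2 hnQ))
      have hvQ : v ∉ Q := by
        intro hvQ
        exact hzt ((hQz v hvQ hv2).symm.trans hv.symm)
      refine ⟨⟨hv, h2⟩, ⟨huQ, hu2⟩, ?_⟩
      exact (z_mem_zpowers_iff hD hrk huQ hu2 hv2 hvQ (hQn v ((hmemC v).mpr h2) u huQ) h2).mp hmem
    · rintro ⟨⟨hv, hvz⟩, ⟨huQ, hu2⟩, hnc⟩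
      have hv2 : orderOf v = 2 := by rw [S0213.orderOf_of_isConj hv]; exact ht
      have hvQ : v ∉ Q := by
        intro hvQ
        exact hzt ((hQz v hvQ hv2).symm.trans hv.symm)
      refine ⟨(hQz u huQ hu2).symm, hv, ?_⟩
      exact (z_mem_zpowers_iff hD hrk huQ hu2 hv2 hvQ (hQn v ((hmemC v).mpr hvz) u huQ) hvz).mpr hnc
  -- the fibre count
  have hfib : ∀ v : G, IsConj t v ∧ v * z = z * v →
      Nat.card {u : G // (u ∈ Q ∧ orderOf u = 2) ∧ ¬ (u * v = v * u)} = 8 := by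
    rintro v ⟨hv, hvz⟩
    have h1 := card_split (fun u : G => u ∈ Q ∧ orderOf u = 2) (fun u => u * v = v * u)
    have h2 : Nat.card {x : G // (x ∈ Q ∧ orderOf x = 2) ∧ x * v = v * x} = 3 := by
      rw [← hfus v hv hvz]
      apply Nat.card_congr
      exact Equiv.subtypeEquivRight (fun u => and_assoc)
    rw [h2, hinv11] at h1
    omega
  have hcz : Nat.card {p : G × G // IsConj z p.1 ∧ IsConj t p.2 ∧
      z ∈ Subgroup.zpowers (p.1 * p.2)} = 960 := by
    haveI : Fintype G := Fintype.ofFinite G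
    have e1 : {p : G × G // IsConj z p.1 ∧ IsConj t p.2 ∧ z ∈ Subgroup.zpowers (p.1 * p.2)} ≃
        {p : G × G // (IsConj t p.1 ∧ p.1 * z = z * p.1) ∧ (p.2 ∈ Q ∧ orderOf p.2 = 2) ∧
          ¬ (p.2 * p.1 = p.1 * p.2)} :=
      Equiv.subtypeEquiv (Equiv.prodComm G G) (fun p => hpair p.1 p.2)
    have e2 := Equiv.subtypeProdEquivSigmaSubtype (fun (v u : G) =>
      (IsConj t v ∧ v * z = z * v) ∧ (u ∈ Q ∧ orderOf u = 2) ∧ ¬ (u * v = v * u))
    rw [Nat.card_congr e1, Nat.card_congr e2, Nat.card_sigma]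
    have h3 : ∀ v : G, Nat.card {u : G // (IsConj t v ∧ v * z = z * v) ∧ (u ∈ Q ∧ orderOf u = 2) ∧
        ¬ (u * v = v * u)} = if (IsConj t v ∧ v * z = z * v) then 8 else 0 := by
      intro v
      by_cases hv : IsConj t v ∧ v * z = z * v
      · rw [if_pos hv, ← hfib v hv]
        apply Nat.card_congr
        exact Equiv.subtypeEquivRight (fun u => ⟨fun h => h.2, fun h => ⟨hv, h⟩⟩)
      · rw [if_neg hv]
        haveI : IsEmpty {u : G // (IsConj t v ∧ v * z = z * v) ∧ (u ∈ Q ∧ orderOf u = 2) ∧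
            ¬ (u * v = v * u)} := ⟨fun u => hv u.2.1⟩
        exact Nat.card_of_isEmpty
    simp only [h3]
    rw [Finset.sum_ite, Finset.sum_const_zero, add_zero, Finset.sum_const, smul_eq_mul,
      ← Fintype.card_subtype, ← Nat.card_eq_fintype_card, hI]
  have hall : ∀ x : G, orderOf x = 2 → IsConj z x ∨ IsConj t x := fun x hx =>
    (hcl x hx).imp IsConj.symm IsConj.symm
  have hct := count_t_aux z t hz ht hzt V B hVB hV2 htV hBz hCt
  rw [S0213.result z t hz ht hzt hall, hcz, hct, hCcard]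

/-- the count `a(t)` when all involutions of `B` lie in a four-group `U ≤ B` -/
theorem count_A4 (B U : Subgroup G) (hU : Nat.card U = 4) (hU2 : ∀ x ∈ U, x * x = 1)
    (hUB : U ≤ B) (hinvB : ∀ b ∈ B, b * b = 1 → b ∈ U) :
    Nat.card {p : G × G // p.1 ∈ B ∧ p.2 ∈ B ∧ orderOf p.1 = 2 ∧ p.2 * p.2 = 1 ∧
      Odd (orderOf (p.1 * p.2))} = 3 := by
  classical
  haveI : Finite ↥U := Nat.finite_of_card_ne_zero (by rw [hU]; norm_num)
  have key : ∀ p : G × G, (p.1 ∈ B ∧ p.2 ∈ B ∧ orderOf p.1 = 2 ∧ p.2 * p.2 = 1 ∧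
      Odd (orderOf (p.1 * p.2))) ↔ (p.1 ∈ U ∧ p.1 ≠ 1 ∧ p.2 = p.1) := by
    rintro ⟨a, b⟩
    constructor
    · rintro ⟨ha, hb, ha2, hb2, hodd⟩
      have haa : a * a = 1 := by
        have := pow_orderOf_eq_one a
        rwa [ha2, pow_two] at this
      have ha1 : a ≠ 1 := by
        intro h
        rw [h, orderOf_one] at ha2
        norm_num at ha2
      have haU := hinvB a ha haa
      have hbU := hinvB b hb hb2
      have hab2 : (a * b) * (a * b) = 1 := hU2 _ (U.mul_mem haU hbU)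
      have hab : a * b = 1 := by
        have h1 : orderOf (a * b) ∣ 2 := orderOf_dvd_of_pow_eq_one (by rw [pow_two]; exact hab2)
        have h2 : orderOf (a * b) = 1 := by
          rcases (Nat.dvd_prime Nat.prime_two).mp h1 with h | h
          · exact h
          · exfalso
            simp only at hodd
            rw [h] at hodd
            exact absurd hodd (by decide)
        exact orderOf_eq_one_iff.mp h2
      refine ⟨haU, ha1, ?_⟩
      show b = a
      calc b = (a * a) * b := by rw [haa, one_mul]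
        _ = a * (a * b) := by group
        _ = a := by rw [hab, mul_one]
    · rintro ⟨haU, ha1, hba⟩
      simp only at hba
      subst hba
      have haa := hU2 _ haU
      refine ⟨hUB haU, hUB haU, orderOf_eq_prime (by rw [pow_two]; exact haa) ha1, haa, ?_⟩
      show Odd (orderOf (b * b))
      rw [haa, orderOf_one]
      exact odd_one
  have e1 : {p : G × G // p.1 ∈ B ∧ p.2 ∈ B ∧ orderOf p.1 = 2 ∧ p.2 * p.2 = 1 ∧
      Odd (orderOf (p.1 * p.2))} ≃ {p : G × G // p.1 ∈ U ∧ p.1 ≠ 1 ∧ p.2 = p.1} :=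
    Equiv.subtypeEquivRight key
  have e2 : {p : G × G // p.1 ∈ U ∧ p.1 ≠ 1 ∧ p.2 = p.1} ≃ {a : ↥U // a ≠ 1} :=
    { toFun := fun p => ⟨⟨p.1.1, p.2.1⟩, fun h => p.2.2.1 (congrArg Subtype.val h)⟩
      invFun := fun a => ⟨((a.1 : G), (a.1 : G)), a.1.2, fun h => a.2 (Subtype.ext h), rfl⟩
      left_inv := by
        rintro ⟨⟨a, b⟩, h1, h2, h3⟩
        simp only at h3
        subst h3
        rfl
      right_inv := by
        rintro ⟨⟨a, ha⟩, h⟩
        rfl }
  rw [Nat.card_congr e1, Nat.card_congr e2]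
  haveI : Fintype ↥U := Fintype.ofFinite _
  have h1 : Nat.card {a : ↥U // a ≠ 1} = Nat.card ↥U - 1 := by
    rw [Nat.card_eq_fintype_card, Nat.card_eq_fintype_card, Fintype.card_subtype_compl,
      Fintype.card_subtype_eq]
  rw [h1, hU]

end Cfsg.Agent.Lib.Helper6.J2K
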