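import Mathlib

/-!
# Groups of type `J₂` (S1723): the subgroup generated by two commuting elements of order three
-/

set_option autoImplicit false

namespace Cfsg.Agent.Lib.Helper6.J2L

variable {G : Type*} [Group G]

/-- the subgroup generated by `x` and `y` -/
def K2 (x y : G) : Subgroup G := Subgroup.closure {x, y}

theorem pow_three_of_orderOf {x : G} (hx : orderOf x = 3) : x ^ 3 = 1 := by
  rw [← hx]; exact pow_orderOf_eq_one x

theorem pow_mod_three {x : G} (hx : orderOf x = 3) (i : ℕ) : x ^ i = x ^ (i % 3) := by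
  rw [← hx]; exact (pow_mod_orderOf x i).symm

theorem inv_eq_sq {x : G} (hx : orderOf x = 3) : x⁻¹ = x ^ 2 := by
  have h := pow_three_of_orderOf hx
  calc x⁻¹ = x⁻¹ * x ^ 3 := by rw [h, mul_one]
    _ = x ^ 2 := by rw [pow_succ]; group

theorem mem_K2_iff {x y : G} (hx : orderOf x = 3) (hy : orderOf y = 3) (hxy : x * y = y * x)
    (g : G) : g ∈ K2 x y ↔ ∃ i j : ℕ, g = x ^ i * y ^ j := by
  have hc : Commute x y := hxy
  constructor
  · intro hg
    unfold K2 at hg
    induction hg using Subgroup.closure_induction with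
    | mem g hg =>
      rcases hg with rfl | hg
      · exact ⟨1, 0, by simp⟩
      · rw [Set.mem_singleton_iff] at hg
        subst hg
        exact ⟨0, 1, by simp⟩
    | one => exact ⟨0, 0, by simp⟩
    | mul a b _ _ ha hb =>
      obtain ⟨i, j, rfl⟩ := ha
      obtain ⟨k, l, rfl⟩ := hb
      refine ⟨i + k, j + l, ?_⟩
      have h1 : Commute (y ^ j) (x ^ k) := (hc.pow_pow k j).symm
      calc x ^ i * y ^ j * (x ^ k * y ^ l) = x ^ i * (y ^ j * x ^ k) * y ^ l := by group
        _ = x ^ i * (x ^ k * y ^ j) * y ^ l := by rw [h1.eq]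
        _ = x ^ (i + k) * y ^ (j + l) := by rw [pow_add, pow_add]; group
    | inv a _ ha =>
      obtain ⟨i, j, rfl⟩ := ha
      refine ⟨2 * i, 2 * j, ?_⟩
      apply inv_eq_of_mul_eq_one_right
      have h1 : Commute (y ^ j) (x ^ (2 * i)) := (hc.pow_pow (2 * i) j).symm
      have hx3 := pow_three_of_orderOf hx
      have hy3 := pow_three_of_orderOf hy
      calc x ^ i * y ^ j * (x ^ (2 * i) * y ^ (2 * j))
          = x ^ i * (y ^ j * x ^ (2 * i)) * y ^ (2 * j) := by group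
        _ = x ^ i * (x ^ (2 * i) * y ^ j) * y ^ (2 * j) := by rw [h1.eq]
        _ = (x ^ i * x ^ (2 * i)) * (y ^ j * y ^ (2 * j)) := by group
        _ = 1 := by
          rw [← pow_add, ← pow_add, show i + 2 * i = 3 * i by ring, show j + 2 * j = 3 * j by ring,
            pow_mul, pow_mul, hx3, hy3, one_pow, one_pow, one_mul]
  · rintro ⟨i, j, rfl⟩
    unfold K2
    have hxm : x ∈ Subgroup.closure ({x, y} : Set G) :=
      Subgroup.subset_closure (by simp)
    have hym : y ∈ Subgroup.closure ({x, y} : Set G) :=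
      Subgroup.subset_closure (by simp)
    exact Subgroup.mul_mem _ (Subgroup.pow_mem _ hxm i) (Subgroup.pow_mem _ hym j)

theorem left_mem_K2 (x y : G) : x ∈ K2 x y := by
  unfold K2
  exact Subgroup.subset_closure (by simp)

theorem right_mem_K2 (x y : G) : y ∈ K2 x y := by
  unfold K2
  exact Subgroup.subset_closure (by simp)

theorem K2_le {x y : G} {H : Subgroup G} (hx : x ∈ H) (hy : y ∈ H) : K2 x y ≤ H := by
  unfold K2
  rw [Subgroup.closure_le]
  intro g hg
  rcases hg with rfl | hg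
  · exact hx
  · rw [Set.mem_singleton_iff] at hg; subst hg; exact hy

theorem K2_comm {x y : G} (hx : orderOf x = 3) (hy : orderOf y = 3) (hxy : x * y = y * x) :
    ∀ a ∈ K2 x y, ∀ b ∈ K2 x y, a * b = b * a := by
  intro a ha b hb
  obtain ⟨i, j, rfl⟩ := (mem_K2_iff hx hy hxy a).mp ha
  obtain ⟨k, l, rfl⟩ := (mem_K2_iff hx hy hxy b).mp hb
  have hc : Commute x y := hxy
  have h1 : Commute (x ^ i) (x ^ k * y ^ l) :=
    ((Commute.refl x).pow_pow i k).mul_right (hc.pow_pow i l)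
  have h2 : Commute (y ^ j) (x ^ k * y ^ l) :=
    ((hc.pow_pow k j).symm).mul_right ((Commute.refl y).pow_pow j l)
  exact (h1.mul_left h2).eq

/-- every element of `K2 x y` has cube one -/
theorem K2_pow_three {x y : G} (hx : orderOf x = 3) (hy : orderOf y = 3) (hxy : x * y = y * x)
    (g : G) (hg : g ∈ K2 x y) : g ^ 3 = 1 := by
  obtain ⟨i, j, rfl⟩ := (mem_K2_iff hx hy hxy g).mp hg
  have hc : Commute (x ^ i) (y ^ j) := (show Commute x y from hxy).pow_pow i j
  rw [hc.mul_pow, ← pow_mul, ← pow_mul, mul_comm i 3, mul_comm j 3, pow_mul, pow_mul,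
    pow_three_of_orderOf hx, pow_three_of_orderOf hy, one_pow, one_pow, one_mul]

theorem K2_isPGroup {x y : G} (hx : orderOf x = 3) (hy : orderOf y = 3) (hxy : x * y = y * x) :
    IsPGroup 3 (K2 x y) := by
  intro g
  refine ⟨1, ?_⟩
  apply Subtype.ext
  rw [pow_one, Subgroup.coe_pow, Subgroup.coe_one]
  exact K2_pow_three hx hy hxy g g.2

/-- the order of `K2 x y` is nine when `y ∉ ⟨x⟩` -/
theorem card_K2 {x y : G} (hx : orderOf x = 3) (hy : orderOf y = 3) (hxy : x * y = y * x)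
    (hyx : y ∉ Subgroup.zpowers x) : Nat.card (K2 x y) = 9 := by
  classical
  have hx3 := pow_three_of_orderOf hx
  have hy3 := pow_three_of_orderOf hy
  -- a bijection from `Fin 3 × Fin 3`
  let f : Fin 3 × Fin 3 → ↥(K2 x y) := fun p =>
    ⟨x ^ (p.1 : ℕ) * y ^ (p.2 : ℕ), (mem_K2_iff hx hy hxy _).mpr ⟨p.1, p.2, rfl⟩⟩
  have hsurj : Function.Surjective f := by
    rintro ⟨g, hg⟩
    obtain ⟨i, j, rfl⟩ := (mem_K2_iff hx hy hxy g).mp hg
    refine ⟨(⟨i % 3, Nat.mod_lt _ (by norm_num)⟩, ⟨j % 3, Nat.mod_lt _ (by norm_num)⟩), ?_⟩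
    apply Subtype.ext
    show x ^ (i % 3) * y ^ (j % 3) = x ^ i * y ^ j
    rw [← pow_mod_three hx, ← pow_mod_three hy]
  have hypow : ∀ j : ℕ, j < 3 → j ≠ 0 → y ^ j ∉ Subgroup.zpowers x := by
    intro j hj hj0 hmem
    apply hyx
    interval_cases j
    · exact absurd rfl hj0
    · simpa using hmem
    · have h1 : y = (y ^ 2) ^ 2 := by
        rw [← pow_mul, show 2 * 2 = 3 + 1 from rfl, pow_add, hy3, one_mul, pow_one]
      rw [h1]
      exact Subgroup.pow_mem _ hmem 2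
  have hinj : Function.Injective f := by
    rintro ⟨i, j⟩ ⟨k, l⟩ h
    have h1 : x ^ (i : ℕ) * y ^ (j : ℕ) = x ^ (k : ℕ) * y ^ (l : ℕ) := congrArg Subtype.val h
    -- `y ^ j * (y ^ l)⁻¹ ∈ ⟨x⟩`
    have hjl : j = l := by
      by_contra hne
      rcases lt_or_gt_of_ne hne with hlt | hlt
      · -- `y ^ (l - j) ∈ ⟨x⟩`
        have h2 : y ^ ((l : ℕ) - (j : ℕ)) = (x ^ (k : ℕ))⁻¹ * x ^ (i : ℕ) := by
          have h3 : y ^ (l : ℕ) = y ^ ((l : ℕ) - (j : ℕ)) * y ^ (j : ℕ) := by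
            rw [← pow_add]; congr 1
            have : (j : ℕ) < (l : ℕ) := hlt
            omega
          rw [h3] at h1
          have hc : Commute (x ^ (i : ℕ)) (y ^ (j : ℕ)) :=
            (show Commute x y from hxy).pow_pow _ _
          calc y ^ ((l : ℕ) - (j : ℕ))
              = (x ^ (k : ℕ))⁻¹ * (x ^ (k : ℕ) * (y ^ ((l : ℕ) - (j : ℕ)) * y ^ (j : ℕ))) *
                (y ^ (j : ℕ))⁻¹ := by group
            _ = (x ^ (k : ℕ))⁻¹ * (x ^ (i : ℕ) * y ^ (j : ℕ)) * (y ^ (j : ℕ))⁻¹ := by rw [h1]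
            _ = (x ^ (k : ℕ))⁻¹ * x ^ (i : ℕ) := by group
        apply hypow ((l : ℕ) - (j : ℕ)) (by have := l.2; omega)
          (by have : (j : ℕ) < (l : ℕ) := hlt; omega)
        rw [h2]
        exact Subgroup.mul_mem _ (Subgroup.inv_mem _ (Subgroup.pow_mem _ (Subgroup.mem_zpowers x) _))
          (Subgroup.pow_mem _ (Subgroup.mem_zpowers x) _)
      · have h2 : y ^ ((j : ℕ) - (l : ℕ)) = (x ^ (i : ℕ))⁻¹ * x ^ (k : ℕ) := by
          have h3 : y ^ (j : ℕ) = y ^ ((j : ℕ) - (l : ℕ)) * y ^ (l : ℕ) := by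
            rw [← pow_add]; congr 1
            have : (l : ℕ) < (j : ℕ) := hlt
            omega
          rw [h3] at h1
          calc y ^ ((j : ℕ) - (l : ℕ))
              = (x ^ (i : ℕ))⁻¹ * (x ^ (i : ℕ) * (y ^ ((j : ℕ) - (l : ℕ)) * y ^ (l : ℕ))) *
                (y ^ (l : ℕ))⁻¹ := by group
            _ = (x ^ (i : ℕ))⁻¹ * (x ^ (k : ℕ) * y ^ (l : ℕ)) * (y ^ (l : ℕ))⁻¹ := by rw [h1]
            _ = (x ^ (i : ℕ))⁻¹ * x ^ (k : ℕ) := by group
        apply hypow ((j : ℕ) - (l : ℕ)) (by have := j.2; omega)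
          (by have : (l : ℕ) < (j : ℕ) := hlt; omega)
        rw [h2]
        exact Subgroup.mul_mem _ (Subgroup.inv_mem _ (Subgroup.pow_mem _ (Subgroup.mem_zpowers x) _))
          (Subgroup.pow_mem _ (Subgroup.mem_zpowers x) _)
    subst hjl
    have h2 : x ^ (i : ℕ) = x ^ (k : ℕ) := mul_right_cancel h1
    have hik : i = k := by
      have h3 := (pow_inj_mod (x := x) (n := (i : ℕ)) (m := (k : ℕ))).mp h2
      rw [hx, Nat.mod_eq_of_lt i.2, Nat.mod_eq_of_lt k.2] at h3
      exact Fin.ext h3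
    rw [hik]
  have hbij : Function.Bijective f := ⟨hinj, hsurj⟩
  rw [← Nat.card_congr (Equiv.ofBijective f hbij)]
  simp

end Cfsg.Agent.Lib.Helper6.J2L
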