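import Mathlib

/-!
# Groups of type `J₂` (S1723): elements of order three centralizing a `2`-central involution (1)

`ThreeLocal z C Q`: the local structure of `C = C(z)` at its elements of order three
(`C_C(d) = S₈ × ⟨d⟩` with `S₈ ≤ Q` of order eight whose normalizer centralizes `z`, `d` inverted in `C`,
all subgroups of order three of `C` conjugate).  Consequences in `G`: `S₈` is a Sylow `2`-subgroup of
`C_G(d)`, the involutions of `C_G(d)` are conjugate to `z`.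
-/

set_option autoImplicit false

namespace Cfsg.Agent.Lib.Helper6.J2T

variable {G : Type*} [Group G]

/-- the local structure of `C` at the elements of order three -/
def ThreeLocal (z : G) (C Q : Subgroup G) : Prop :=
  ∀ d ∈ C, orderOf d = 3 → ∃ S8 : Subgroup G, S8 ≤ Q ∧ Nat.card S8 ∣ 8 ∧
    (∀ s ∈ S8, s * d = d * s) ∧
    (∀ g : G, (∀ s ∈ S8, g * s * g⁻¹ ∈ S8) → g * z = z * g) ∧
    (∀ c ∈ C, c * d = d * c → ∃ q ∈ S8, c = q ∨ c = q * d ∨ c = q * d⁻¹) ∧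
    (∃ c ∈ C, c * d * c⁻¹ = d⁻¹) ∧
    (∀ d' ∈ C, orderOf d' = 3 → ∃ c ∈ C, c * d' * c⁻¹ = d ∨ c * d' * c⁻¹ = d⁻¹)

/-- normalizers grow in `p`-groups (ambient form) -/
theorem exists_normalizing_not_mem [Finite G] {p : ℕ} [Fact p.Prime] {S R : Subgroup G}
    (hS : IsPGroup p S) (hRS : R ≤ S) (hne : ¬ S ≤ R) :
    ∃ y ∈ S, y ∉ R ∧ ∀ r ∈ R, y * r * y⁻¹ ∈ R := by
  haveI : Group.IsNilpotent ↥S := hS.isNilpotent
  have hlt : R.subgroupOf S < ⊤ := by
    rw [lt_top_iff_ne_top]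
    intro h
    apply hne
    intro s hs
    have : (⟨s, hs⟩ : ↥S) ∈ R.subgroupOf S := by rw [h]; exact Subgroup.mem_top _
    exact Subgroup.mem_subgroupOf.mp this
  have hnc := Group.normalizerCondition_of_isNilpotent (G := ↥S) (R.subgroupOf S) hlt
  obtain ⟨y, hyN, hyR⟩ := SetLike.exists_of_lt hnc
  refine ⟨y.1, y.2, fun h => hyR (Subgroup.mem_subgroupOf.mpr h), fun r hr => ?_⟩
  rw [Subgroup.mem_normalizer_iff] at hyN
  have h1 : (⟨r, hRS hr⟩ : ↥S) ∈ R.subgroupOf S := Subgroup.mem_subgroupOf.mpr hr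
  have h2 := (hyN ⟨r, hRS hr⟩).mp h1
  exact Subgroup.mem_subgroupOf.mp h2

/-- a `2`-element which is an element of order three times ... : helper for powers -/
theorem eq_one_of_pow_two_of_pow_three {x : G} {k : ℕ} (h2 : x ^ (2 ^ k) = 1) (h3 : x ^ 3 = 1) :
    x = 1 := by
  have h1 : orderOf x ∣ 2 ^ k := orderOf_dvd_of_pow_eq_one h2
  have h4 : orderOf x ∣ 3 := orderOf_dvd_of_pow_eq_one h3
  have h5 : Nat.Coprime (2 ^ k) 3 := by
    apply Nat.Coprime.pow_left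
    norm_num
  have h6 : orderOf x ∣ 1 := by
    have := Nat.dvd_gcd h1 h4
    rwa [h5] at this
  exact orderOf_eq_one_iff.mp (Nat.dvd_one.mp h6)

section local3

variable [Finite G] {z : G} {C Q : Subgroup G}

/-- a `2`-subgroup of `C_G(d)` containing `S₈` equals `S₈` -/
theorem le_S8 (hC : ∀ g : G, g ∈ C ↔ g * z = z * g) {d : G} (hd3 : orderOf d = 3)
    {S8 : Subgroup G}
    (hS8n : ∀ g : G, (∀ s ∈ S8, g * s * g⁻¹ ∈ S8) → g * z = z * g)
    (hCd : ∀ c ∈ C, c * d = d * c → ∃ q ∈ S8, c = q ∨ c = q * d ∨ c = q * d⁻¹)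
    (S : Subgroup G) (hS : IsPGroup 2 S) (hS8S : S8 ≤ S) (hSd : ∀ s ∈ S, s * d = d * s) :
    S ≤ S8 := by
  haveI : Fact (Nat.Prime 2) := ⟨Nat.prime_two⟩
  by_contra hne
  obtain ⟨g, hgS, hgS8, hgN⟩ := exists_normalizing_not_mem hS hS8S hne
  have hgz := hS8n g hgN
  have hgC : g ∈ C := (hC g).mpr hgz
  obtain ⟨q, hq, hcase⟩ := hCd g hgC (hSd g hgS)
  -- `d` is not a `2`-element
  have hdS : d ∉ S := by
    intro hdS
    obtain ⟨k, hk⟩ := hS ⟨d, hdS⟩
    have hk' : d ^ (2 ^ k) = 1 := by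
      have := congrArg Subtype.val hk
      simpa using this
    have h3 : d ^ 3 = 1 := by rw [← hd3]; exact pow_orderOf_eq_one d
    have h1 := eq_one_of_pow_two_of_pow_three hk' h3
    rw [h1, orderOf_one] at hd3
    norm_num at hd3
  rcases hcase with h | h | h
  · exact hgS8 (h ▸ hq)
  · apply hdS
    have : d = q⁻¹ * g := by rw [h]; group
    rw [this]
    exact S.mul_mem (S.inv_mem (hS8S hq)) hgS
  · apply hdS
    have : d = (q⁻¹ * g)⁻¹ := by rw [h]; group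
    rw [this]
    exact S.inv_mem (S.mul_mem (S.inv_mem (hS8S hq)) hgS)

/-- `S₈` gives a Sylow `2`-subgroup of `C_G(d)`; every `2`-subgroup of `C_G(d)` is conjugate in
`C_G(d)` into `S₈` -/
theorem conj_into_S8 (hC : ∀ g : G, g ∈ C ↔ g * z = z * g) {d : G} (hd3 : orderOf d = 3)
    {S8 : Subgroup G} (hS8card : Nat.card S8 ∣ 8) (hS8d : ∀ s ∈ S8, s * d = d * s)
    (hS8n : ∀ g : G, (∀ s ∈ S8, g * s * g⁻¹ ∈ S8) → g * z = z * g)
    (hCd : ∀ c ∈ C, c * d = d * c → ∃ q ∈ S8, c = q ∨ c = q * d ∨ c = q * d⁻¹)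
    (S : Subgroup G) (hS : IsPGroup 2 S) (hSd : ∀ s ∈ S, s * d = d * s) :
    ∃ x : G, x * d = d * x ∧ ∀ s ∈ S, x * s * x⁻¹ ∈ S8 := by
  classical
  haveI : Fact (Nat.Prime 2) := ⟨Nat.prime_two⟩
  set X : Subgroup G := Subgroup.centralizer ({d} : Set G) with hX
  have hmemX : ∀ g : G, g ∈ X ↔ g * d = d * g := fun g => Subgroup.mem_centralizer_singleton_iff
  have hS8X : S8 ≤ X := fun s hs => (hmemX s).mpr (hS8d s hs)
  have hSX : S ≤ X := fun s hs => (hmemX s).mpr (hSd s hs)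
  have hS8p : IsPGroup 2 S8 := by
    obtain ⟨k, _, hk⟩ := (Nat.dvd_prime_pow Nat.prime_two).mp
      (show Nat.card S8 ∣ 2 ^ 3 by simpa using hS8card)
    exact IsPGroup.of_card hk
  -- Sylow subgroups of `X`
  have hS8p' : IsPGroup 2 (S8.subgroupOf X) :=
    hS8p.comap_of_injective X.subtype X.subtype_injective
  have hSp' : IsPGroup 2 (S.subgroupOf X) := hS.comap_of_injective X.subtype X.subtype_injective
  obtain ⟨P8, hP8⟩ := hS8p'.exists_le_sylow
  obtain ⟨P, hP⟩ := hSp'.exists_le_sylow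
  -- `P8` is `S8`
  have hP8eq : ∀ y : ↥X, y ∈ (P8 : Subgroup ↥X) → (y : G) ∈ S8 := by
    intro y hy
    have h1 : ((P8 : Subgroup ↥X).map X.subtype) ≤ S8 := by
      apply le_S8 hC hd3 hS8n hCd
      · exact P8.isPGroup'.map X.subtype
      · intro s hs
        exact ⟨⟨s, hS8X hs⟩, hP8 (Subgroup.mem_subgroupOf.mpr hs), rfl⟩
      · rintro s ⟨y, _, rfl⟩
        exact (hmemX y).mp y.2
    exact h1 ⟨y, hy, rfl⟩
  obtain ⟨x, hx⟩ := MulAction.exists_smul_eq ↥X P P8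
  refine ⟨(x : G), (hmemX x).mp x.2, fun s hs => ?_⟩
  have h1 : (⟨s, hSX hs⟩ : ↥X) ∈ (P : Subgroup ↥X) := hP (Subgroup.mem_subgroupOf.mpr hs)
  have h2 : x * ⟨s, hSX hs⟩ * x⁻¹ ∈ ((x • P : Sylow 2 ↥X) : Subgroup ↥X) := by
    rw [Sylow.coe_subgroup_smul]
    have := Subgroup.smul_mem_pointwise_smul _ (MulAut.conj x) (P : Subgroup ↥X) h1
    simpa [MulAut.smul_def, MulAut.conj_apply] using this
  rw [hx] at h2
  have h3 := hP8eq _ h2
  simpa using h3

/-- the order of a `2`-subgroup of `C_G(d)` divides eight -/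
theorem card_two_sub_dvd (hC : ∀ g : G, g ∈ C ↔ g * z = z * g) {d : G} (hd3 : orderOf d = 3)
    {S8 : Subgroup G} (hS8card : Nat.card S8 ∣ 8) (hS8d : ∀ s ∈ S8, s * d = d * s)
    (hS8n : ∀ g : G, (∀ s ∈ S8, g * s * g⁻¹ ∈ S8) → g * z = z * g)
    (hCd : ∀ c ∈ C, c * d = d * c → ∃ q ∈ S8, c = q ∨ c = q * d ∨ c = q * d⁻¹)
    (S : Subgroup G) (hS : IsPGroup 2 S) (hSd : ∀ s ∈ S, s * d = d * s) :
    Nat.card S ∣ 8 := by
  obtain ⟨x, _, hx⟩ := conj_into_S8 hC hd3 hS8card hS8d hS8n hCd S hS hSd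
  have h1 : S.map (MulAut.conj x).toMonoidHom ≤ S8 := by
    rintro y ⟨s, hs, rfl⟩
    have := hx s hs
    simpa [MulAut.conj_apply] using this
  have h2 : Nat.card (S.map (MulAut.conj x).toMonoidHom) = Nat.card S :=
    Subgroup.card_map_of_injective (MulAut.conj x).injective
  rw [← h2]
  exact (Subgroup.card_dvd_of_le h1).trans hS8card

end local3

end Cfsg.Agent.Lib.Helper6.J2T
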