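import Mathlib
import Cfsg.Agent.Lib.Helper6.J2T1

/-!
# Groups of type `J₂` (S1723): elements of order three centralizing a `2`-central involution (2)

`DType z x`: `x` has order three and commutes with a conjugate of `z`.  All such elements are conjugate,
inverted, their centralizers have Sylow `2`-subgroups of order eight consisting of `z`-type involutions,
and an involution centralizing `x` centralizes no further elements of order three of `C_G(x)`.
-/

set_option autoImplicit false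

namespace Cfsg.Agent.Lib.Helper6.J2T

variable {G : Type*} [Group G]

theorem conj_comm {g a b : G} (h : a * b = b * a) :
    (g * a * g⁻¹) * (g * b * g⁻¹) = (g * b * g⁻¹) * (g * a * g⁻¹) := by
  calc (g * a * g⁻¹) * (g * b * g⁻¹) = g * (a * b) * g⁻¹ := by group
    _ = g * (b * a) * g⁻¹ := by rw [h]
    _ = (g * b * g⁻¹) * (g * a * g⁻¹) := by group

theorem comm_of_conj_comm {g a b : G}
    (h : (g * a * g⁻¹) * (g * b * g⁻¹) = (g * b * g⁻¹) * (g * a * g⁻¹)) : a * b = b * a := by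
  have := conj_comm (g := g⁻¹) h
  simpa [mul_assoc] using this

theorem orderOf_conj (g x : G) : orderOf (g * x * g⁻¹) = orderOf x := by
  have : g * x * g⁻¹ = MulAut.conj g x := by rw [MulAut.conj_apply]
  rw [this]
  exact (MulAut.conj g).orderOf_eq x

theorem conj_inv' (g x : G) : g * x⁻¹ * g⁻¹ = (g * x * g⁻¹)⁻¹ := by group

theorem conj_injective (g : G) {a b : G} (h : g * a * g⁻¹ = g * b * g⁻¹) : a = b := by
  calc a = g⁻¹ * (g * a * g⁻¹) * g := by group
    _ = g⁻¹ * (g * b * g⁻¹) * g := by rw [h]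
    _ = b := by group

/-- `x` has order three and commutes with a conjugate of `z` -/
def DType (z x : G) : Prop := orderOf x = 3 ∧ ∃ s : G, IsConj s z ∧ s * x = x * s

theorem DType.inv {z x : G} (h : DType z x) : DType z x⁻¹ := by
  obtain ⟨h3, s, hs, hsx⟩ := h
  refine ⟨by rw [orderOf_inv]; exact h3, s, hs, ?_⟩
  calc s * x⁻¹ = x⁻¹ * (x * s) * x⁻¹ := by group
    _ = x⁻¹ * (s * x) * x⁻¹ := by rw [hsx]
    _ = x⁻¹ * s := by group

theorem DType.conj {z x : G} (h : DType z x) (g : G) : DType z (g * x * g⁻¹) := by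
  obtain ⟨h3, s, hs, hsx⟩ := h
  refine ⟨by rw [orderOf_conj]; exact h3, g * s * g⁻¹, ?_, conj_comm hsx⟩
  exact (isConj_iff.mpr ⟨g, rfl⟩ : IsConj s (g * s * g⁻¹)).symm.trans hs

theorem DType.of_conj {z x : G} (g : G) (h : DType z (g * x * g⁻¹)) : DType z x := by
  have := h.conj g⁻¹
  have h2 : g⁻¹ * (g * x * g⁻¹) * g⁻¹⁻¹ = x := by group
  rwa [h2] at this

section local3

variable [Finite G] {z : G} {C Q : Subgroup G}

/-- a `d`-type element is conjugate into `C` -/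
theorem DType.exists_conj_mem (hC : ∀ g : G, g ∈ C ↔ g * z = z * g) {x : G} (h : DType z x) :
    ∃ g : G, g * x * g⁻¹ ∈ C ∧ orderOf (g * x * g⁻¹) = 3 := by
  obtain ⟨h3, s, hs, hsx⟩ := h
  obtain ⟨g, hg⟩ := isConj_iff.mp hs
  refine ⟨g, ?_, by rw [orderOf_conj]; exact h3⟩
  rw [hC, ← hg]
  exact (conj_comm hsx).symm

/-- elements of order three of `C` are `d`-type -/
theorem dtype_of_mem (hC : ∀ g : G, g ∈ C ↔ g * z = z * g) {d : G} (hdC : d ∈ C)
    (hd3 : orderOf d = 3) : DType z d :=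
  ⟨hd3, z, IsConj.refl z, ((hC d).mp hdC).symm⟩

/-- all `d`-type elements are conjugate -/
theorem DType.isConj (hC : ∀ g : G, g ∈ C ↔ g * z = z * g) (h3 : ThreeLocal z C Q) {x y : G}
    (hx : DType z x) (hy : DType z y) : IsConj x y := by
  obtain ⟨g, hgC, hg3⟩ := hx.exists_conj_mem hC
  obtain ⟨k, hkC, hk3⟩ := hy.exists_conj_mem hC
  obtain ⟨S8, _, _, _, _, _, ⟨w, _, hw⟩, hall⟩ := h3 _ hgC hg3
  obtain ⟨c, _, hc⟩ := hall _ hkC hk3
  have hxg : IsConj x (g * x * g⁻¹) := isConj_iff.mpr ⟨g, rfl⟩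
  have hyk : IsConj y (k * y * k⁻¹) := isConj_iff.mpr ⟨k, rfl⟩
  have hinv : IsConj (g * x * g⁻¹) (g * x * g⁻¹)⁻¹ := isConj_iff.mpr ⟨w, hw⟩
  rcases hc with hc | hc
  · exact hxg.trans ((isConj_iff.mpr ⟨c, hc⟩ : IsConj (k * y * k⁻¹) _).symm.trans hyk.symm)
  · exact hxg.trans (hinv.trans
      ((isConj_iff.mpr ⟨c, hc⟩ : IsConj (k * y * k⁻¹) _).symm.trans hyk.symm))

/-- a `d`-type element is inverted -/
theorem DType.inverted (hC : ∀ g : G, g ∈ C ↔ g * z = z * g) (h3 : ThreeLocal z C Q) {x : G}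
    (hx : DType z x) : ∃ w : G, w * x * w⁻¹ = x⁻¹ := by
  obtain ⟨g, hgC, hg3⟩ := hx.exists_conj_mem hC
  obtain ⟨S8, _, _, _, _, _, ⟨w, _, hw⟩, _⟩ := h3 _ hgC hg3
  refine ⟨g⁻¹ * w * g, ?_⟩
  have h1 : (g⁻¹ * w * g) * x * (g⁻¹ * w * g)⁻¹ = g⁻¹ * (w * (g * x * g⁻¹) * w⁻¹) * g := by group
  rw [h1, hw]; group

/-- the order of a `2`-subgroup of the centralizer of a `d`-type element divides eight -/
theorem DType.card_two_sub_dvd (hC : ∀ g : G, g ∈ C ↔ g * z = z * g) (h3 : ThreeLocal z C Q) {x : G}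
    (hx : DType z x) (S : Subgroup G) (hS : IsPGroup 2 S) (hSx : ∀ s ∈ S, s * x = x * s) :
    Nat.card S ∣ 8 := by
  obtain ⟨g, hgC, hg3⟩ := hx.exists_conj_mem hC
  obtain ⟨S8, _, hS8c, hS8d, hS8n, hCd, _, _⟩ := h3 _ hgC hg3
  have h2 : Nat.card (S.map (MulAut.conj g).toMonoidHom) = Nat.card S :=
    Subgroup.card_map_of_injective (MulAut.conj g).injective
  rw [← h2]
  apply Cfsg.Agent.Lib.Helper6.J2T.card_two_sub_dvd hC hg3 hS8c hS8d hS8n hCd _ (hS.map _)
  rintro y ⟨s, hs, rfl⟩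
  have := conj_comm (g := g) (hSx s hs)
  simpa [MulAut.conj_apply] using this

/-- involutions centralizing a `d`-type element are conjugate to `z` -/
theorem DType.invol_isConj (hC : ∀ g : G, g ∈ C ↔ g * z = z * g) (h3 : ThreeLocal z C Q)
    (hQz : ∀ q ∈ Q, orderOf q = 2 → IsConj q z) {x : G} (hx : DType z x) (s : G)
    (hs : orderOf s = 2) (hsx : s * x = x * s) : IsConj s z := by
  obtain ⟨g, hgC, hg3⟩ := hx.exists_conj_mem hC
  obtain ⟨S8, hS8Q, hS8c, hS8d, hS8n, hCd, _, _⟩ := h3 _ hgC hg3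
  have hp : IsPGroup 2 (Subgroup.zpowers (g * s * g⁻¹)) := by
    apply IsPGroup.of_card (n := 1)
    rw [Nat.card_zpowers, orderOf_conj, hs, pow_one]
  have hcomm : ∀ y ∈ Subgroup.zpowers (g * s * g⁻¹), y * (g * x * g⁻¹) = (g * x * g⁻¹) * y := by
    intro y hy
    obtain ⟨k, rfl⟩ := Subgroup.mem_zpowers_iff.mp hy
    have hc : Commute (g * s * g⁻¹) (g * x * g⁻¹) := conj_comm hsx
    exact hc.zpow_left k
  obtain ⟨w, _, hw⟩ := conj_into_S8 hC hg3 hS8c hS8d hS8n hCd _ hp hcomm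
  have h1 := hw _ (Subgroup.mem_zpowers (g * s * g⁻¹))
  have h2 : orderOf (w * (g * s * g⁻¹) * w⁻¹) = 2 := by rw [orderOf_conj, orderOf_conj, hs]
  have h4 := hQz _ (hS8Q h1) h2
  have h5 : IsConj s (w * (g * s * g⁻¹) * w⁻¹) := by
    refine isConj_iff.mpr ⟨w * g, ?_⟩
    group
  exact h5.trans h4

/-- an involution centralizing a `d`-type element `x` centralizes no elements of order three of
`C_G(x)` other than `x, x⁻¹` -/
theorem DType.three_cent_invol (hC : ∀ g : G, g ∈ C ↔ g * z = z * g) (h3 : ThreeLocal z C Q)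
    (hQz : ∀ q ∈ Q, orderOf q = 2 → IsConj q z) {x : G} (hx : DType z x) (s : G)
    (hs : orderOf s = 2) (hsx : s * x = x * s) (c : G) (hc3 : orderOf c = 3)
    (hcs : c * s = s * c) (hcx : c * x = x * c) : c = x ∨ c = x⁻¹ := by
  have hsz := hx.invol_isConj hC h3 hQz s hs hsx
  obtain ⟨g, hg⟩ := isConj_iff.mp hsz
  have hdC : g * x * g⁻¹ ∈ C := by
    rw [hC, ← hg]
    exact (conj_comm hsx).symm
  have hd3 : orderOf (g * x * g⁻¹) = 3 := by rw [orderOf_conj]; exact hx.1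
  have hcC : g * c * g⁻¹ ∈ C := by
    rw [hC, ← hg]
    exact conj_comm hcs
  obtain ⟨S8, _, hS8c, hS8d, _, hCd, _, _⟩ := h3 _ hdC hd3
  obtain ⟨q, hq, hcase⟩ := hCd _ hcC (conj_comm hcx)
  have hq8 : q ^ (2 ^ 3) = 1 := by
    have h1 : (⟨q, hq⟩ : ↥S8) ^ Nat.card ↥S8 = 1 := pow_card_eq_one'
    have h2 : q ^ Nat.card ↥S8 = 1 := by
      have h0 := congrArg Subtype.val h1
      rw [Subgroup.coe_pow, Subgroup.coe_one] at h0
      exact h0
    obtain ⟨m, hm⟩ := hS8c
    rw [show (2 : ℕ) ^ 3 = 8 from rfl, hm, pow_mul, h2, one_pow]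
  have hc3' : (g * c * g⁻¹) ^ 3 = 1 := by
    rw [← hc3, ← orderOf_conj g c]; exact pow_orderOf_eq_one _
  have hd3' : (g * x * g⁻¹) ^ 3 = 1 := by rw [← hd3]; exact pow_orderOf_eq_one _
  have hqd : Commute q (g * x * g⁻¹) := hS8d q hq
  rcases hcase with h | h | h
  · exfalso
    rw [h] at hc3'
    have h1 := eq_one_of_pow_two_of_pow_three hq8 hc3'
    rw [h1] at h
    have h2 : c = 1 := by
      apply conj_injective g
      rw [h]; group
    rw [h2, orderOf_one] at hc3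
    norm_num at hc3
  · left
    rw [h, hqd.mul_pow, hd3', mul_one] at hc3'
    have h1 := eq_one_of_pow_two_of_pow_three hq8 hc3'
    rw [h1, one_mul] at h
    exact conj_injective g h
  · right
    have hqd' : Commute q (g * x * g⁻¹)⁻¹ := hqd.inv_right
    rw [h, hqd'.mul_pow, inv_pow, hd3', inv_one, mul_one] at hc3'
    have h1 := eq_one_of_pow_two_of_pow_three hq8 hc3'
    rw [h1, one_mul, ← conj_inv'] at h
    exact conj_injective g h

end local3

end Cfsg.Agent.Lib.Helper6.J2T
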