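import Mathlib
import Cfsg.Prelude.Def_Transfer
import Cfsg.Agent.Lib.Helper6.J2L1
import Cfsg.Agent.Lib.Helper6.J2T2
import Cfsg.Agent.Lib.Helper7.J2L3c
import Cfsg.Agent.Lib.Helper9.J2Xb

/-!
# Groups of type `J₂` (S1723): the Sylow `3`-subgroup containing `E₁ = ⟨d⟩ × ⟨r⟩`

`d` of `d`-type, `r` of order three not of `d`-type, `C_G(E₁) = E₁`, `27 ∤ |C_G(r)|`:
a Sylow `3`-subgroup `P₃ ⊇ E₁` is extraspecial of order `27` with centre `⟨d⟩`,
and all elements of `E₁ \ ⟨d⟩` are conjugate to `r`.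
-/

set_option autoImplicit false

namespace Cfsg.Agent.Lib.Helper6.J2L
open Cfsg.Agent.Lib.Helper6.J2T
open scoped commutatorElement

variable {G : Type*} [Group G]

theorem mem_zpowers_three {d x : G} (hd : orderOf d = 3) (hx : x ∈ Subgroup.zpowers d) :
    x = 1 ∨ x = d ∨ x = d⁻¹ := by
  obtain ⟨n, rfl⟩ := Subgroup.mem_zpowers_iff.mp hx
  exact Cfsg.Agent.Lib.Helper7.J2L3c.zpow_three d hd n

theorem zpowers_eq_of_mem {d e : G} (hd : orderOf d = 3) (he : e ∈ Subgroup.zpowers d)
    (he1 : e ≠ 1) : Subgroup.zpowers e = Subgroup.zpowers d := by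
  rcases mem_zpowers_three hd he with h | h | h
  · exact absurd h he1
  · rw [h]
  · rw [h, Subgroup.zpowers_inv]

theorem exists_pow_of_mem_zpowers [Finite G] {e x : G} (hx : x ∈ Subgroup.zpowers e) :
    ∃ m : ℕ, e ^ m = x := by
  have := (mem_powers_iff_mem_zpowers (x := e) (y := x)).mpr hx
  exact (Submonoid.mem_powers_iff _ _).mp this

/-- conjugating by powers when the commutator is central -/
theorem conj_pow_central {g x e : G} (h : g * x * g⁻¹ = e * x) (hge : g * e = e * g) (m : ℕ) :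
    g ^ m * x * (g ^ m)⁻¹ = e ^ m * x := by
  induction m with
  | zero => simp
  | succ m ih =>
    have hc : Commute g (e ^ m) := (show Commute g e from hge).pow_right m
    calc g ^ (m + 1) * x * (g ^ (m + 1))⁻¹ = g * (g ^ m * x * (g ^ m)⁻¹) * g⁻¹ := by
          rw [pow_succ']; group
      _ = g * (e ^ m * x) * g⁻¹ := by rw [ih]
      _ = (g * e ^ m) * x * g⁻¹ := by group
      _ = (e ^ m * g) * x * g⁻¹ := by rw [hc.eq]
      _ = e ^ m * (g * x * g⁻¹) := by group
      _ = e ^ m * (e * x) := by rw [h]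
      _ = e ^ (m + 1) * x := by rw [pow_succ]; group

theorem isConj_inv {a b : G} (h : IsConj a b) : IsConj a⁻¹ b⁻¹ := by
  obtain ⟨c, hc⟩ := isConj_iff.mp h
  refine isConj_iff.mpr ⟨c, ?_⟩
  rw [← hc]; group

theorem structure_P3 [Finite G] (hG : Nat.card G = 604800) (z d r : G)
    (hd : DType z d) (hr3 : orderOf r = 3) (hrn : ¬ DType z r) (hdr : d * r = r * d)
    (hcen : ∀ c : G, c * d = d * c → c * r = r * c → c ∈ K2 d r)
    (h27 : ¬ 27 ∣ Nat.card (Subgroup.centralizer ({r} : Set G)))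
    (hrinv : ∃ s : G, s * r * s⁻¹ = r⁻¹)
    (P3 : Sylow 3 G) (hEP : K2 d r ≤ (P3 : Subgroup G)) :
    Nat.card (P3 : Subgroup G) = 27 ∧
    Cfsg.IsExtraspecial 3 ↥(P3 : Subgroup G) ∧
    (∀ x ∈ (P3 : Subgroup G), x * d = d * x) ∧
    (∀ c ∈ (P3 : Subgroup G), (∀ x ∈ (P3 : Subgroup G), x * c = c * x) →
      c ∈ Subgroup.zpowers d) ∧
    (∀ c : G, (∀ x ∈ (P3 : Subgroup G), x * c = c * x) → c ∈ (P3 : Subgroup G)) ∧
    (∀ x ∈ (P3 : Subgroup G), ∀ y ∈ (P3 : Subgroup G),
      x * y * x⁻¹ * y⁻¹ ∈ Subgroup.zpowers d) ∧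
    (∀ e ∈ K2 d r, e ∉ Subgroup.zpowers d → IsConj e r) := by
  classical
  haveI : Fact (Nat.Prime 3) := ⟨Nat.prime_three⟩
  have hd3 : orderOf d = 3 := hd.1
  have hd1 : d ≠ 1 := by
    intro h; rw [h, orderOf_one] at hd3; norm_num at hd3
  have hr1 : r ≠ 1 := by
    intro h; rw [h, orderOf_one] at hr3; norm_num at hr3
  set P : Subgroup G := (P3 : Subgroup G) with hP
  have hdP : d ∈ P := hEP (left_mem_K2 d r)
  have hrP : r ∈ P := hEP (right_mem_K2 d r)
  -- `r ∉ ⟨d⟩`
  have hrd : r ∉ Subgroup.zpowers d := by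
    intro h
    rcases mem_zpowers_three hd3 h with h1 | h1 | h1
    · exact hr1 h1
    · exact hrn (h1 ▸ hd)
    · exact hrn (h1 ▸ hd.inv)
  have hK9 : Nat.card (K2 d r) = 9 := card_K2 hd3 hr3 hdr hrd
  -- the order of `P`
  have hPc : Nat.card P = 27 := by
    have h1 := P3.card_eq_multiplicity
    rw [hG, Cfsg.Agent.Lib.Helper7.J2L3c.fact604800] at h1
    rw [hP, h1]; norm_num
  -- `P` is nonabelian
  have hex : ∃ g ∈ P, g ∉ K2 d r := by
    by_contra hcon
    have hle : P ≤ K2 d r := by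
      intro g hg
      by_contra hg'
      exact hcon ⟨g, hg, hg'⟩
    have := Subgroup.card_le_of_le hle
    rw [hPc, hK9] at this
    omega
  obtain ⟨g₀, hg₀P, hg₀K⟩ := hex
  have hna : ∃ a b : ↥P, a * b ≠ b * a := by
    by_contra hcon
    apply hg₀K
    apply hcen
    · by_contra h
      exact hcon ⟨⟨g₀, hg₀P⟩, ⟨d, hdP⟩, fun h' => h (congrArg Subtype.val h')⟩
    · by_contra h
      exact hcon ⟨⟨g₀, hg₀P⟩, ⟨r, hrP⟩, fun h' => h (congrArg Subtype.val h')⟩
  have hES : Cfsg.IsExtraspecial 3 ↥P :=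
    Cfsg.Agent.Lib.Helper9.J2X.extraspecial_of_card_cube 3 (by rw [hPc]; norm_num) hna
  obtain ⟨⟨_, _, hcomm⟩, hZ3⟩ := hES
  -- a generator of the centre
  haveI : Nontrivial (Subgroup.center ↥P) := by
    haveI : Finite (Subgroup.center ↥P) := inferInstance
    rw [← Finite.one_lt_card_iff_nontrivial, hZ3]; norm_num
  obtain ⟨c0, hc0⟩ := exists_ne (1 : Subgroup.center ↥P)
  set c : G := ((c0 : ↥P) : G) with hc
  have hcP : c ∈ P := (c0 : ↥P).2
  have hc1 : c ≠ 1 := by
    intro h
    apply hc0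
    apply Subtype.ext
    apply Subtype.ext
    exact h
  have hccomm : ∀ x ∈ P, x * c = c * x := by
    intro x hx
    have h1 := Subgroup.mem_center_iff.mp c0.2 ⟨x, hx⟩
    exact congrArg Subtype.val h1
  have hc3 : orderOf c = 3 := by
    have h1 : (c0 : Subgroup.center ↥P) ^ 3 = 1 := by
      rw [← hZ3]; exact pow_card_eq_one'
    have h2 : c ^ 3 = 1 := by
      have := congrArg (fun x : Subgroup.center ↥P => ((x : ↥P) : G)) h1
      simpa using this
    exact orderOf_eq_prime h2 hc1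
  -- central elements of `P` lie in `⟨c⟩`
  have hcenter : ∀ y ∈ P, (∀ x ∈ P, x * y = y * x) → y ∈ Subgroup.zpowers c := by
    intro y hy hycomm
    have hyZ : (⟨y, hy⟩ : ↥P) ∈ Subgroup.center ↥P := by
      rw [Subgroup.mem_center_iff]
      intro x
      apply Subtype.ext
      exact hycomm x.1 x.2
    -- the centre is `zpowers c0`
    have hle : Subgroup.zpowers (c0 : ↥P) ≤ Subgroup.center ↥P := by
      rw [Subgroup.zpowers_le]; exact c0.2
    have hoc : orderOf (c0 : ↥P) = 3 := by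
      rw [← hc3, hc]
      exact (Subgroup.orderOf_coe (c0 : ↥P)).symm
    have heq : Subgroup.zpowers (c0 : ↥P) = Subgroup.center ↥P := by
      apply Subgroup.eq_of_le_of_card_ge hle
      rw [Nat.card_zpowers, hoc, hZ3]
    rw [← heq] at hyZ
    obtain ⟨n, hn⟩ := Subgroup.mem_zpowers_iff.mp hyZ
    refine Subgroup.mem_zpowers_iff.mpr ⟨n, ?_⟩
    have := congrArg Subtype.val hn
    simpa using this
  -- commutators lie in `⟨c⟩`
  have hcommc : ∀ x ∈ P, ∀ y ∈ P, x * y * x⁻¹ * y⁻¹ ∈ Subgroup.zpowers c := by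
    intro x hx y hy
    have h1 : ⁅(⟨x, hx⟩ : ↥P), ⟨y, hy⟩⁆ ∈ commutator ↥P := by
      rw [commutator_def]
      exact Subgroup.commutator_mem_commutator (Subgroup.mem_top _) (Subgroup.mem_top _)
    rw [hcomm] at h1
    have h2 : ∀ a ∈ P, ((⁅(⟨x, hx⟩ : ↥P), ⟨y, hy⟩⁆ : ↥P) : G) * a =
        a * ((⁅(⟨x, hx⟩ : ↥P), ⟨y, hy⟩⁆ : ↥P) : G) := by
      intro a ha
      have := Subgroup.mem_center_iff.mp h1 ⟨a, ha⟩
      exact (congrArg Subtype.val this).symm
    have h3 : ((⁅(⟨x, hx⟩ : ↥P), ⟨y, hy⟩⁆ : ↥P) : G) = x * y * x⁻¹ * y⁻¹ := by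
      rw [commutatorElement_def]; simp
    rw [h3] at h2
    apply hcenter _ (P.mul_mem (P.mul_mem (P.mul_mem hx hy) (P.inv_mem hx)) (P.inv_mem hy))
    intro a ha
    exact (h2 a ha).symm
  have hcK : c ∈ K2 d r := hcen c (hccomm d hdP).symm (hccomm r hrP).symm
  -- `r` is not central in `P`
  have hrnc : ¬ (∀ x ∈ P, x * r = r * x) := by
    intro h
    apply h27
    have hle : P ≤ Subgroup.centralizer ({r} : Set G) := by
      intro x hx
      rw [Subgroup.mem_centralizer_singleton_iff]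
      exact h x hx
    have := Subgroup.card_dvd_of_le hle
    rwa [hPc] at this
  -- `d` is central in `P`
  have hdZ : ∀ x ∈ P, x * d = d * x := by
    by_contra hcon
    have hex : ∃ g ∈ P, g * d ≠ d * g := by
      by_contra h
      apply hcon
      intro x hx
      by_contra hx'
      exact h ⟨x, hx, hx'⟩
    obtain ⟨g, hgP, hgd⟩ := hex
    set e : G := g * d * g⁻¹ * d⁻¹ with he
    have heZ : e ∈ Subgroup.zpowers c := hcommc g hgP d hdP
    have he1 : e ≠ 1 := by
      intro h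
      apply hgd
      calc g * d = (g * d * g⁻¹ * d⁻¹) * d * g := by group
        _ = d * g := by rw [← he, h, one_mul]
    have hez : Subgroup.zpowers e = Subgroup.zpowers c := zpowers_eq_of_mem hc3 heZ he1
    have heP : e ∈ P := P.mul_mem (P.mul_mem (P.mul_mem hgP hdP) (P.inv_mem hgP)) (P.inv_mem hdP)
    have hecomm : ∀ x ∈ P, x * e = e * x := by
      intro x hx
      obtain ⟨n, hn⟩ := Subgroup.mem_zpowers_iff.mp heZ
      rw [← hn]
      exact ((show Commute x c from hccomm x hx).zpow_right n).eq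
    have hconj : g * d * g⁻¹ = e * d := by rw [he]; group
    -- `c ∉ ⟨d⟩`
    have hcd : c ∉ Subgroup.zpowers d := by
      intro h
      have h1 : Subgroup.zpowers c = Subgroup.zpowers d := zpowers_eq_of_mem hd3 h hc1
      have h2 : d ∈ Subgroup.zpowers c := by rw [h1]; exact Subgroup.mem_zpowers d
      obtain ⟨n, hn⟩ := Subgroup.mem_zpowers_iff.mp h2
      apply hgd
      rw [← hn]
      exact ((show Commute g c from hccomm g hgP).zpow_right n).eq
    have hdc : d * c = c * d := hccomm d hdP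
    have hK9' : Nat.card (K2 d c) = 9 := card_K2 hd3 hc3 hdc hcd
    have hKK : K2 d c = K2 d r := by
      apply Subgroup.eq_of_le_of_card_ge (K2_le (left_mem_K2 d r) hcK)
      rw [hK9, hK9']
    have hrK : r ∈ K2 d c := by rw [hKK]; exact right_mem_K2 d r
    obtain ⟨i, j, hij⟩ := (mem_K2_iff hd3 hc3 hdc r).mp hrK
    -- `c ^ j` is a power of `e`
    have hcj : c ^ j ∈ Subgroup.zpowers e := by
      rw [hez]; exact Subgroup.pow_mem _ (Subgroup.mem_zpowers c) j
    obtain ⟨m, hm⟩ := exists_pow_of_mem_zpowers hcj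
    have hcj2 : c ^ (2 * j) ∈ Subgroup.zpowers e := by
      rw [hez]; exact Subgroup.pow_mem _ (Subgroup.mem_zpowers c) _
    obtain ⟨m2, hm2⟩ := exists_pow_of_mem_zpowers hcj2
    have hdcj : ∀ k : ℕ, Commute d (c ^ k) := fun k => (show Commute d c from hdc).pow_right k
    rw [pow_mod_three hd3 i] at hij
    have hi3 : i % 3 < 3 := Nat.mod_lt _ (by norm_num)
    interval_cases (i % 3)
    · -- `r = c ^ j` is central
      apply hrnc
      intro x hx
      rw [hij, pow_zero, one_mul]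
      exact ((show Commute x c from hccomm x hx).pow_right j).eq
    · -- `r = d * c ^ j` is conjugate to `d`
      apply hrn
      have h1 := conj_pow_central hconj (hecomm g hgP) m
      rw [hm] at h1
      have h2 : r = g ^ m * d * (g ^ m)⁻¹ := by
        rw [h1, hij, pow_one]; exact (hdcj j).eq
      rw [h2]
      exact hd.conj _
    · -- `r⁻¹ = d * c ^ (2 j)` is conjugate to `d`
      apply hrn
      have h1 := conj_pow_central hconj (hecomm g hgP) m2
      rw [hm2] at h1
      have h2 : r⁻¹ = g ^ m2 * d * (g ^ m2)⁻¹ := by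
        rw [h1, hij]
        apply inv_eq_of_mul_eq_one_right
        have hc3' := pow_three_of_orderOf hc3
        have hd3' := pow_three_of_orderOf hd3
        calc d ^ 2 * c ^ j * (c ^ (2 * j) * d)
            = d ^ 2 * (c ^ j * c ^ (2 * j)) * d := by group
          _ = d ^ 2 * 1 * d := by
            rw [← pow_add, show j + 2 * j = 3 * j by ring, pow_mul, hc3', one_pow]
          _ = d ^ 3 := by rw [mul_one]; exact (pow_succ d 2).symm
          _ = 1 := hd3'
      have h3 : DType z r⁻¹ := by rw [h2]; exact hd.conj _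
      have h4 := h3.inv
      rwa [inv_inv] at h4
  -- `⟨d⟩ = ⟨c⟩`
  have hdc : Subgroup.zpowers d = Subgroup.zpowers c :=
    zpowers_eq_of_mem hc3 (hcenter d hdP hdZ) hd1
  refine ⟨hPc, ⟨⟨P3.isPGroup', by assumption, hcomm⟩, hZ3⟩, hdZ, ?_, ?_, ?_, ?_⟩
  · intro y hy hycomm
    rw [hdc]; exact hcenter y hy hycomm
  · intro y hy
    exact hEP (hcen y (hy d hdP).symm (hy r hrP).symm)
  · intro x hx y hy
    rw [hdc]; exact hcommc x hx y hy
  · -- the elements of `E₁ \ ⟨d⟩`
    intro e' he'K he'd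
    obtain ⟨i, j, hij⟩ := (mem_K2_iff hd3 hr3 hdr e').mp he'K
    -- an element of `P` not commuting with `r`
    have hex : ∃ g ∈ P, g * r ≠ r * g := by
      by_contra h
      apply hrnc
      intro x hx
      by_contra hx'
      exact h ⟨x, hx, hx'⟩
    obtain ⟨g, hgP, hgr⟩ := hex
    set e : G := g * r * g⁻¹ * r⁻¹ with he
    have heZ : e ∈ Subgroup.zpowers d := by rw [hdc]; exact hcommc g hgP r hrP
    have he1 : e ≠ 1 := by
      intro h
      apply hgr
      calc g * r = (g * r * g⁻¹ * r⁻¹) * r * g := by group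
        _ = r * g := by rw [← he, h, one_mul]
    have hez : Subgroup.zpowers e = Subgroup.zpowers d := zpowers_eq_of_mem hd3 heZ he1
    have hge : g * e = e * g := by
      obtain ⟨n, hn⟩ := Subgroup.mem_zpowers_iff.mp heZ
      rw [← hn]
      exact ((show Commute g d from hdZ g hgP).zpow_right n).eq
    have hconj : g * r * g⁻¹ = e * r := by rw [he]; group
    have hall : ∀ k : ℕ, IsConj (d ^ k * r) r := by
      intro k
      have hk : d ^ k ∈ Subgroup.zpowers e := by
        rw [hez]; exact Subgroup.pow_mem _ (Subgroup.mem_zpowers d) k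
      obtain ⟨m, hm⟩ := exists_pow_of_mem_zpowers hk
      have h1 := conj_pow_central hconj hge m
      rw [hm] at h1
      exact (isConj_iff.mpr ⟨g ^ m, h1⟩ : IsConj r (d ^ k * r)).symm
    rw [pow_mod_three hr3 j] at hij
    have hj3 : j % 3 < 3 := Nat.mod_lt _ (by norm_num)
    interval_cases (j % 3)
    · exfalso
      apply he'd
      rw [hij, pow_zero, mul_one]
      exact Subgroup.pow_mem _ (Subgroup.mem_zpowers d) i
    · rw [hij, pow_one]; exact hall i
    · -- `d ^ i * r ^ 2 = (d ^ (2 i) * r)⁻¹`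
      have h1 : d ^ i * r ^ 2 = (d ^ (2 * i) * r)⁻¹ := by
        symm
        apply inv_eq_of_mul_eq_one_right
        have hr3' := pow_three_of_orderOf hr3
        have hd3' := pow_three_of_orderOf hd3
        have hcr : Commute r (d ^ i) := ((show Commute d r from hdr).pow_left i).symm
        calc d ^ (2 * i) * r * (d ^ i * r ^ 2)
            = d ^ (2 * i) * (r * d ^ i) * r ^ 2 := by group
          _ = d ^ (2 * i) * (d ^ i * r) * r ^ 2 := by rw [hcr.eq]
          _ = (d ^ (2 * i) * d ^ i) * (r * r ^ 2) := by group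
          _ = 1 := by
            rw [← pow_add, ← pow_succ', show 2 * i + i = 3 * i by ring, pow_mul, hd3', one_pow,
              hr3', one_mul]
      rw [hij, h1]
      obtain ⟨s, hs⟩ := hrinv
      have h2 := isConj_inv (hall (2 * i))
      exact h2.trans (isConj_iff.mpr ⟨s⁻¹, by rw [← hs]; group⟩)

end Cfsg.Agent.Lib.Helper6.J2L
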