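import Mathlib
import Cfsg.Agent.Lib.Helper4.ES2B
import Cfsg.Agent.Lib.Helper4.J2Na
import Cfsg.Agent.Lib.Helper6.J2L2

/-!
# Groups of type `J₂` (S1723): the normalizer of `E₁ = ⟨d⟩ × ⟨r⟩` has order `54`
-/

set_option autoImplicit false

namespace Cfsg.Agent.Lib.Helper6.J2L
open Cfsg.Agent.Lib.Helper6.J2T
open Cfsg.Agent.Lib.Helper4.J2N

variable {G : Type*} [Group G]

theorem normalizer_E1 [Finite G] (z d r : G) (hd : DType z d) (hr3 : orderOf r = 3)
    (hrn : ¬ DType z r) (hdr : d * r = r * d)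
    (P : Subgroup G) (hPc : Nat.card P = 27) (hEP : K2 d r ≤ P)
    (hdZ : ∀ x ∈ P, x * d = d * x)
    (hcommP : ∀ x ∈ P, ∀ y ∈ P, x * y * x⁻¹ * y⁻¹ ∈ Subgroup.zpowers d)
    (hconjr : ∀ e ∈ K2 d r, e ∉ Subgroup.zpowers d → IsConj e r)
    (hstab : ∀ c : G, c * r = r * c → (c * d * c⁻¹ = d ∨ c * d * c⁻¹ = d⁻¹) → c ∈ K2 d r)
    (s : G) (hs2 : orderOf s = 2) (hsd : s * d = d * s) (hsr : s * r * s⁻¹ = r⁻¹) :
    Nat.card (Subgroup.normalizer (K2 d r : Set G)) = 54 ∧
    Subgroup.normalizer (K2 d r : Set G) ≤ Subgroup.normalizer (P : Set G) ∧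
    ∀ n ∈ Subgroup.normalizer (K2 d r : Set G), n * d = d * n := by
  classical
  have hd3 : orderOf d = 3 := hd.1
  have hd1 : d ≠ 1 := by
    intro h; rw [h, orderOf_one] at hd3; norm_num at hd3
  have hr1 : r ≠ 1 := by
    intro h; rw [h, orderOf_one] at hr3; norm_num at hr3
  have hrd : r ∉ Subgroup.zpowers d := by
    intro h
    rcases mem_zpowers_three hd3 h with h1 | h1 | h1
    · exact hr1 h1
    · exact hrn (h1 ▸ hd)
    · exact hrn (h1 ▸ hd.inv)
  have hK9 : Nat.card (K2 d r) = 9 := card_K2 hd3 hr3 hdr hrd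
  have hZK : Subgroup.zpowers d ≤ K2 d r := by
    rw [Subgroup.zpowers_le]; exact left_mem_K2 d r
  set N1 : Subgroup G := Subgroup.normalizer (K2 d r : Set G) with hN1
  have hconjK : ∀ n ∈ N1, ∀ x ∈ K2 d r, n * x * n⁻¹ ∈ K2 d r := by
    intro n hn x hx
    exact (Subgroup.mem_normalizer_iff.mp hn x).mp hx
  -- `P ≤ N1`
  have hPN : P ≤ N1 := by
    intro g hg
    apply mem_normalizer_of_conj_mem
    intro x hx
    have h1 := hcommP g hg x (hEP hx)
    have h2 : g * x * g⁻¹ = (g * x * g⁻¹ * x⁻¹) * x := by group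
    rw [h2]
    exact (K2 d r).mul_mem (hZK h1) hx
  -- `s ∈ N1`
  have hsN : s ∈ N1 := by
    apply mem_normalizer_of_conj_mem
    intro x hx
    obtain ⟨i, j, rfl⟩ := (mem_K2_iff hd3 hr3 hdr x).mp hx
    have h1 : s * (d ^ i * r ^ j) * s⁻¹ = (s * d * s⁻¹) ^ i * (s * r * s⁻¹) ^ j := by
      rw [conj_pow, conj_pow]; group
    have h2 : s * d * s⁻¹ = d := by rw [hsd]; group
    rw [h1, h2, hsr]
    exact (K2 d r).mul_mem ((K2 d r).pow_mem (left_mem_K2 d r) i)
      ((K2 d r).pow_mem ((K2 d r).inv_mem (right_mem_K2 d r)) j)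
  -- conjugates of `d` and `r` under `N1`
  have hnd : ∀ n ∈ N1, n * d * n⁻¹ = d ∨ n * d * n⁻¹ = d⁻¹ := by
    intro n hn
    have h1 := hconjK n hn d (left_mem_K2 d r)
    have h2 : n * d * n⁻¹ ∈ Subgroup.zpowers d := by
      by_contra h
      have h3 := hconjr _ h1 h
      apply hrn
      obtain ⟨c, hc⟩ := isConj_iff.mp h3
      rw [← hc]
      exact (hd.conj n).conj c
    rcases mem_zpowers_three hd3 h2 with h | h | h
    · exfalso
      apply hd1
      calc d = n⁻¹ * (n * d * n⁻¹) * n := by group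
        _ = 1 := by rw [h]; group
    · exact Or.inl h
    · exact Or.inr h
  have hnr : ∀ n ∈ N1, n * r * n⁻¹ ∉ Subgroup.zpowers d := by
    intro n hn h
    have ho : orderOf (n * r * n⁻¹) = 3 := by rw [orderOf_conj]; exact hr3
    rcases mem_zpowers_three hd3 h with h1 | h1 | h1
    · rw [h1, orderOf_one] at ho; norm_num at ho
    · apply hrn
      apply DType.of_conj n
      rw [h1]; exact hd
    · apply hrn
      apply DType.of_conj n
      rw [h1]; exact hd.inv
  -- orbit-stabilizer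
  have horb := card_conj_orbit N1 r
  have hO : Nat.card {y : G // ∃ h ∈ N1, h * r * h⁻¹ = y} ≤ 6 := by
    have h1 : {y : G | ∃ h ∈ N1, h * r * h⁻¹ = y} ⊆
        (K2 d r : Set G) \ (Subgroup.zpowers d : Set G) := by
      rintro y ⟨h, hh, rfl⟩
      exact ⟨hconjK h hh r (right_mem_K2 d r), hnr h hh⟩
    have h2 : ((K2 d r : Set G) \ (Subgroup.zpowers d : Set G)).ncard = 6 := by
      rw [Set.ncard_diff (by exact_mod_cast hZK) (Set.toFinite _)]
      have h3 : (K2 d r : Set G).ncard = 9 := hK9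
      have h4 : (Subgroup.zpowers d : Set G).ncard = 3 := by
        have : Nat.card (Subgroup.zpowers d) = 3 := by rw [Nat.card_zpowers, hd3]
        exact this
      rw [h3, h4]
    have h5 := Set.ncard_le_ncard h1 (Set.toFinite _)
    rw [h2] at h5
    exact h5
  have hS : Nat.card {h : G // h ∈ N1 ∧ h * r = r * h} ≤ 9 := by
    rw [← hK9]
    apply Nat.card_le_card_of_injective
      (fun h : {h : G // h ∈ N1 ∧ h * r = r * h} =>
        (⟨h.1, hstab h.1 h.2.2 (hnd h.1 h.2.1)⟩ : ↥(K2 d r)))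
    intro a b hab
    apply Subtype.ext
    have h9 := congrArg (fun x : ↥(K2 d r) => (x : G)) hab
    exact h9
  have hle : Nat.card N1 ≤ 54 := by
    rw [← horb]
    calc _ ≤ 6 * 9 := Nat.mul_le_mul hO hS
      _ = 54 := by norm_num
  -- divisibility
  have h27 : 27 ∣ Nat.card N1 := by
    rw [← hPc]; exact Subgroup.card_dvd_of_le hPN
  have h2 : 2 ∣ Nat.card N1 := by
    rw [← hs2]
    have := orderOf_dvd_natCard (⟨s, hsN⟩ : ↥N1)
    rwa [Subgroup.orderOf_mk] at this
  have h54 : 54 ∣ Nat.card N1 := by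
    have hc : Nat.Coprime 27 2 := by norm_num
    have := hc.mul_dvd_of_dvd_of_dvd h27 h2
    simpa using this
  have hN1c : Nat.card N1 = 54 := by
    have hpos : 0 < Nat.card N1 := Nat.card_pos
    obtain ⟨k, hk⟩ := h54
    rw [hk] at hle hpos
    have : k = 1 := by omega
    rw [hk, this]
  -- `P` has index two in `N1`
  have hidx : (P.subgroupOf N1).index = 2 := by
    have h1 := Cfsg.Agent.Lib.Helper4.ES2.relIndex_mul_card hPN
    rw [hPc, hN1c] at h1
    have h3 : P.relIndex N1 = 2 := by omega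
    exact h3
  have hnorm : (P.subgroupOf N1).Normal := Subgroup.normal_of_index_eq_two hidx
  -- `s ∉ P`
  have hsP : s ∉ P := by
    intro h
    have h1 : (⟨s, h⟩ : ↥P) ^ Nat.card ↥P = 1 := pow_card_eq_one'
    rw [hPc] at h1
    have h2 : s ^ 27 = 1 := by
      have := congrArg Subtype.val h1
      simpa using this
    have h3 := orderOf_dvd_of_pow_eq_one h2
    rw [hs2] at h3
    norm_num at h3
  refine ⟨hN1c, ?_, ?_⟩
  · intro n hn
    apply mem_normalizer_of_conj_mem
    intro p hp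
    have h1 : (⟨p, hPN hp⟩ : ↥N1) ∈ P.subgroupOf N1 := Subgroup.mem_subgroupOf.mpr hp
    have h2 := hnorm.conj_mem _ h1 ⟨n, hn⟩
    exact Subgroup.mem_subgroupOf.mp h2
  · intro n hn
    by_cases hnP : n ∈ P
    · exact hdZ n hnP
    · -- `s⁻¹ * n ∈ P`
      have h1 : (⟨s, hsN⟩ : ↥N1)⁻¹ * ⟨n, hn⟩ ∈ P.subgroupOf N1 := by
        rw [Subgroup.mul_mem_iff_of_index_two hidx]
        constructor
        · intro h
          exfalso
          apply hsP
          have := (P.subgroupOf N1).inv_mem h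
          rw [inv_inv] at this
          exact Subgroup.mem_subgroupOf.mp this
        · intro h
          exact absurd (Subgroup.mem_subgroupOf.mp h) hnP
      have h2 : s⁻¹ * n ∈ P := Subgroup.mem_subgroupOf.mp h1
      have h3 := hdZ _ h2
      have hsd' : Commute s d := hsd
      have h4 : Commute (s⁻¹ * n) d := h3
      have h5 : Commute (s * (s⁻¹ * n)) d := hsd'.mul_left h4
      have h6 : s * (s⁻¹ * n) = n := by group
      rw [h6] at h5
      exact h5.eq

end Cfsg.Agent.Lib.Helper6.J2L
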