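import Mathlib
import Cfsg.Prelude.Def_TwoFusion
import Cfsg.Agent.Lib.Helper6.J2L3
import Cfsg.Agent.Lib.Helper7.J2L3c
import Cfsg.Agent.Lib.Helper9.J2La
import Cfsg.Agent.Lib.Helper9.J2Rf
import Cfsg.Agent.Lib.Helper9.J2Xb
import Cfsg.Agent.Lib.Helper5.J2S5b

/-!
# Groups of type `J₂` (S1723): the Sylow `3`-subgroups, assembled from the exported local data
-/

set_option autoImplicit false

namespace Cfsg.Agent.Lib.Helper6.J2L
open Cfsg.Agent.Lib.Helper6.J2T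

variable {G : Type*} [Group G]

set_option maxRecDepth 1000000 in
theorem a4_norm3 : ∀ σ τ : Equiv.Perm (Fin 4), Equiv.Perm.sign σ = 1 → Equiv.Perm.sign τ = 1 →
    σ * σ * σ = 1 → σ ≠ 1 → (τ * σ * τ⁻¹ = σ ∨ τ * σ * τ⁻¹ = σ⁻¹) →
    (τ = 1 ∨ τ = σ ∨ τ = σ * σ) := by decide

/-- in a group isomorphic to `A₄` the normalizer of a subgroup of order three is that subgroup -/
theorem norm3_of_A4 {D : Subgroup G} (w : ↥D ≃* alternatingGroup (Fin 4)) {d a : G} (hd : d ∈ D)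
    (ha : a ∈ D) (hd3 : orderOf d = 3)
    (h : a * d * a⁻¹ = d ∨ a * d * a⁻¹ = d⁻¹) : a = 1 ∨ a = d ∨ a = d * d := by
  have hd1 : d ≠ 1 := by
    intro h1; rw [h1, orderOf_one] at hd3; norm_num at hd3
  have hddd : d * d * d = 1 := by
    have := pow_orderOf_eq_one d
    rw [hd3] at this
    rw [← this, pow_succ, pow_succ, pow_one]
  obtain ⟨σ, hσ⟩ : ∃ σ : Equiv.Perm (Fin 4), σ = ((w ⟨d, hd⟩ : alternatingGroup (Fin 4)) :
      Equiv.Perm (Fin 4)) := ⟨_, rfl⟩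
  obtain ⟨τ, hτ⟩ : ∃ τ : Equiv.Perm (Fin 4), τ = ((w ⟨a, ha⟩ : alternatingGroup (Fin 4)) :
      Equiv.Perm (Fin 4)) := ⟨_, rfl⟩
  have hσs : Equiv.Perm.sign σ = 1 := by
    rw [hσ]; exact Equiv.Perm.mem_alternatingGroup.mp (w ⟨d, hd⟩).2
  have hτs : Equiv.Perm.sign τ = 1 := by
    rw [hτ]; exact Equiv.Perm.mem_alternatingGroup.mp (w ⟨a, ha⟩).2
  have hinj : ∀ x y : ↥D, ((w x : alternatingGroup (Fin 4)) : Equiv.Perm (Fin 4)) =
      ((w y : alternatingGroup (Fin 4)) : Equiv.Perm (Fin 4)) → (x : G) = (y : G) := by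
    intro x y hxy
    have := w.injective (Subtype.ext hxy)
    exact congrArg Subtype.val this
  have hσ3 : σ * σ * σ = 1 := by
    have h1 : (⟨d, hd⟩ : ↥D) * ⟨d, hd⟩ * ⟨d, hd⟩ = 1 := Subtype.ext hddd
    have h2 := congrArg (fun x => ((w x : alternatingGroup (Fin 4)) : Equiv.Perm (Fin 4))) h1
    simp only [map_mul, map_one, Subgroup.coe_mul, Subgroup.coe_one] at h2
    rw [hσ]; exact h2
  have hσ1 : σ ≠ 1 := by
    intro h1
    apply hd1
    have := hinj ⟨d, hd⟩ 1 (by rw [← hσ, h1, map_one]; rfl)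
    exact this
  have hconj : τ * σ * τ⁻¹ = σ ∨ τ * σ * τ⁻¹ = σ⁻¹ := by
    rcases h with h | h
    · left
      have h1 : (⟨a, ha⟩ : ↥D) * ⟨d, hd⟩ * (⟨a, ha⟩ : ↥D)⁻¹ = ⟨d, hd⟩ := Subtype.ext h
      have h2 := congrArg (fun x => ((w x : alternatingGroup (Fin 4)) : Equiv.Perm (Fin 4))) h1
      simp only [map_mul, map_inv, Subgroup.coe_mul, Subgroup.coe_inv] at h2
      rw [hσ, hτ]; exact h2
    · right
      have h1 : (⟨a, ha⟩ : ↥D) * ⟨d, hd⟩ * (⟨a, ha⟩ : ↥D)⁻¹ = (⟨d, hd⟩ : ↥D)⁻¹ := Subtype.ext h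
      have h2 := congrArg (fun x => ((w x : alternatingGroup (Fin 4)) : Equiv.Perm (Fin 4))) h1
      simp only [map_mul, map_inv, Subgroup.coe_mul, Subgroup.coe_inv] at h2
      rw [hσ, hτ]; exact h2
  rcases a4_norm3 σ τ hσs hτs hσ3 hσ1 hconj with h1 | h1 | h1
  · left
    exact hinj ⟨a, ha⟩ 1 (by rw [← hτ, h1, map_one]; rfl)
  · right; left
    exact hinj ⟨a, ha⟩ ⟨d, hd⟩ (by rw [← hτ, ← hσ, h1])
  · right; right
    have := hinj ⟨a, ha⟩ (⟨d, hd⟩ * ⟨d, hd⟩) (by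
      rw [← hτ, h1, map_mul, Subgroup.coe_mul, ← hσ])
    exact this

/-- the data of the `3`-local analysis: `d`, `r`, the inverting involution `s` and the structure of the
centralizer of `r` -/
theorem exists_d_r [Finite G] (hG : Nat.card G = 604800) (z t : G) (C Q V0 R1 D : Subgroup G)
    (hC : ∀ g : G, g ∈ C ↔ g * z = z * g) (h3 : ThreeLocal z C Q)
    (hQz : ∀ q ∈ Q, orderOf q = 2 → IsConj q z)
    (hz : orderOf z = 2) (ht : orderOf t = 2) (hnzt : ¬ IsConj z t)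
    (hVB : Cfsg.IsInternalDirectProduct V0 R1 (Subgroup.centralizer ({t} : Set G)))
    (hV : Nat.card V0 = 4) (htV : t ∈ V0)
    (hR1 : Nonempty (↥R1 ≃* alternatingGroup (Fin 5)))
    (hfuse : ∀ t1 ∈ V0, t1 ≠ 1 → ∃ c : G, c * t * c⁻¹ = t1)
    (hR1z : ∀ x ∈ R1, orderOf x = 2 → IsConj x z)
    (hM : Cfsg.IsInternalDirectProduct D R1 (Subgroup.normalizer (V0 : Set G)))
    (hVD : V0 ≤ D) (hDc : Nat.card D = 12)
    (hceq : ∀ t1 ∈ V0, t1 ≠ 1 →
      Subgroup.centralizer ({t1} : Set G) = Subgroup.centralizer ({t} : Set G))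
    (hA4 : Nonempty (↥D ≃* alternatingGroup (Fin 4)))
    (h5 : ∀ f ∈ C, orderOf f = 5 → ∀ c ∈ C, c * f = f * c → ∃ a b : ℕ, c = z ^ a * f ^ b) :
    ∃ d r s : G, DType z d ∧ orderOf r = 3 ∧ ¬ DType z r ∧ d * r = r * d ∧ d ∈ D ∧ r ∈ R1 ∧
      orderOf s = 2 ∧ s * d = d * s ∧ s * r * s⁻¹ = r⁻¹ ∧ t * r = r * t ∧
      (∀ y : G, y * r = r * y → ∃ a ∈ D, ∃ k : ℕ, y = a * r ^ k) ∧
      (∀ c : G, c * r = r * c → (c * d * c⁻¹ = d ∨ c * d * c⁻¹ = d⁻¹) → c ∈ K2 d r) := by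
  classical
  obtain ⟨w⟩ := hR1
  obtain ⟨w4⟩ := hA4
  have hDR : ∀ a ∈ D, ∀ b ∈ R1, a * b = b * a := hM.2.2.1
  -- an element of order three of R1
  have hR1c : Nat.card ↥R1 = 60 := by
    rw [Nat.card_congr w.toEquiv, nat_card_alternatingGroup, Nat.card_fin]
    decide
  obtain ⟨r0, hr0⟩ := exists_prime_orderOf_dvd_card' (G := ↥R1) 3 (by rw [hR1c]; norm_num)
  obtain ⟨d0, hd0⟩ := exists_prime_orderOf_dvd_card' (G := ↥D) 3 (by rw [hDc]; norm_num)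
  have hr3 : orderOf (r0 : G) = 3 := by rw [Subgroup.orderOf_coe]; exact hr0
  have hd3 : orderOf (d0 : G) = 3 := by rw [Subgroup.orderOf_coe]; exact hd0
  have hr0' : r0 ^ 3 = 1 := by rw [← hr0]; exact pow_orderOf_eq_one r0
  have hr01 : r0 ≠ 1 := by
    intro h; rw [h, orderOf_one] at hr0; norm_num at hr0
  obtain ⟨τ, hτ2, hτ1, hτc⟩ := Cfsg.Agent.Lib.Helper9.J2R.y_invert3 w r0 hr0' hr01
  have hs2 : orderOf (τ : G) = 2 := by
    rw [Subgroup.orderOf_coe]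
    apply orderOf_eq_prime
    · rw [pow_two]; exact hτ2
    · exact hτ1
  have hsz : IsConj (τ : G) z := hR1z τ.1 τ.2 hs2
  have hsd : (τ : G) * (d0 : G) = (d0 : G) * (τ : G) := (hDR d0.1 d0.2 τ.1 τ.2).symm
  have hdT : DType z (d0 : G) := ⟨hd3, τ.1, hsz, hsd⟩
  have htr : t * (r0 : G) = (r0 : G) * t := hDR t (hVD htV) r0.1 r0.2
  have hrn : ¬ DType z (r0 : G) := by
    intro hx
    have := DType.invol_isConj hC h3 hQz hx t ht htr
    exact hnzt this.symm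
  have hdr : (d0 : G) * (r0 : G) = (r0 : G) * (d0 : G) := hDR d0.1 d0.2 r0.1 r0.2
  have hsr : (τ : G) * (r0 : G) * (τ : G)⁻¹ = (r0 : G)⁻¹ := by
    have := congrArg Subtype.val hτc
    simpa using this
  -- hypotheses of cent_rho
  have hV2 : ∀ v ∈ V0, v * v = 1 := by
    intro v hv
    by_cases h1 : v = 1
    · rw [h1, mul_one]
    · obtain ⟨c, hc⟩ := hfuse v hv h1
      rw [← hc]
      have htt : t * t = 1 := by
        have := pow_orderOf_eq_one t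
        rw [ht, pow_two] at this
        exact this
      calc c * t * c⁻¹ * (c * t * c⁻¹) = c * (t * t) * c⁻¹ := by group
        _ = 1 := by rw [htt]; group
  have hcent : ∀ t1 ∈ V0, t1 ≠ 1 → ∀ x : G, x * t1 = t1 * x →
      ∃ v ∈ V0, ∃ r ∈ R1, x = v * r := by
    intro t1 ht1 h1 x hx
    apply Cfsg.Agent.Lib.Helper5.J2S5.mem_sup_comm V0 R1 hVB.2.2.1
    rw [hVB.2.2.2.2, ← hceq t1 ht1 h1, Subgroup.mem_centralizer_singleton_iff]
    exact hx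
  have h5' : ∀ s f : G, IsConj s z → orderOf f = 5 → s * f = f * s → ∀ c : G, c * s = s * c →
      c * f = f * c → ∃ a b : ℕ, c = s ^ a * f ^ b := by
    intro s f hsz hf5 hsf c hcs hcf
    obtain ⟨g, hg⟩ := isConj_iff.mp hsz
    have hf'C : g * f * g⁻¹ ∈ C := by
      rw [hC, ← hg]
      exact (conj_comm (g := g) hsf).symm
    have hf'5 : orderOf (g * f * g⁻¹) = 5 := by rw [orderOf_conj]; exact hf5
    have hc'C : g * c * g⁻¹ ∈ C := by
      rw [hC, ← hg]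
      exact conj_comm (g := g) hcs
    have hc'f : (g * c * g⁻¹) * (g * f * g⁻¹) = (g * f * g⁻¹) * (g * c * g⁻¹) :=
      conj_comm (g := g) hcf
    obtain ⟨a, b, hab⟩ := h5 _ hf'C hf'5 _ hc'C hc'f
    refine ⟨a, b, ?_⟩
    apply conj_injective g
    rw [hab, ← hg]
    have e1 : ∀ (x : G) (n : ℕ), (g * x * g⁻¹) ^ n = g * x ^ n * g⁻¹ := by
      intro x n
      induction n with
      | zero => simp
      | succ n ih => rw [pow_succ, pow_succ, ih]; group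
    rw [e1, e1]; group
  have hcr := Cfsg.Agent.Lib.Helper9.J2R.cent_rho hG z V0 D R1 hz hV hV2 hVD hDc ⟨w⟩ hM hcent hR1z
    h5' (r0 : G) r0.2 hr3
  refine ⟨d0, r0, τ, hdT, hr3, hrn, hdr, d0.2, r0.2, hs2, hsd, hsr, htr, hcr, ?_⟩
  intro c hcr' hcd
  obtain ⟨a, haD, k, hk⟩ := hcr c hcr'
  have hrk : (r0 : G) ^ k * (d0 : G) = (d0 : G) * (r0 : G) ^ k := by
    have : Commute (d0 : G) (r0 : G) := hdr
    exact (this.pow_right k).symm
  have hca : c * (d0 : G) * c⁻¹ = a * (d0 : G) * a⁻¹ := by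
    rw [hk]
    calc a * (r0 : G) ^ k * (d0 : G) * (a * (r0 : G) ^ k)⁻¹
        = a * ((r0 : G) ^ k * (d0 : G)) * ((r0 : G) ^ k)⁻¹ * a⁻¹ := by group
      _ = a * ((d0 : G) * (r0 : G) ^ k) * ((r0 : G) ^ k)⁻¹ * a⁻¹ := by rw [hrk]
      _ = a * (d0 : G) * a⁻¹ := by group
  rw [hca] at hcd
  have ha := norm3_of_A4 w4 d0.2 haD hd3 hcd
  rw [hk]
  apply Subgroup.mul_mem
  · rcases ha with h | h | h
    · rw [h]; exact Subgroup.one_mem _
    · rw [h]; exact left_mem_K2 _ _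
    · rw [h]; exact Subgroup.mul_mem _ (left_mem_K2 _ _) (left_mem_K2 _ _)
  · exact Subgroup.pow_mem _ (right_mem_K2 _ _) k

end Cfsg.Agent.Lib.Helper6.J2L
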