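import Mathlib
import Cfsg.Prelude.Def_TwoFusion
import Cfsg.Agent.Lib.Helper6.J2L4

/-!
# Groups of type `J₂` (S1723): the Sylow `3`-subgroups, conclusion
-/

set_option autoImplicit false

namespace Cfsg.Agent.Lib.Helper6.J2L
open Cfsg.Agent.Lib.Helper6.J2T

variable {G : Type*} [Group G]

/-- the conclusion of S1723 from the `3`-local data -/
theorem sylow_three_of_d_r [Finite G] (hG : Nat.card G = 604800) (z t : G) (C Q D : Subgroup G)
    (hC : ∀ g : G, g ∈ C ↔ g * z = z * g) (h3 : ThreeLocal z C Q)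
    (ht : orderOf t = 2) (hDc : Nat.card D = 12)
    (d r s : G) (hd : DType z d) (hr3 : orderOf r = 3) (hrn : ¬ DType z r) (hdr : d * r = r * d)
    (hs2 : orderOf s = 2) (hsd : s * d = d * s) (hsr : s * r * s⁻¹ = r⁻¹) (htr : t * r = r * t)
    (hcr : ∀ y : G, y * r = r * y → ∃ a ∈ D, ∃ k : ℕ, y = a * r ^ k)
    (hstab : ∀ c : G, c * r = r * c → (c * d * c⁻¹ = d ∨ c * d * c⁻¹ = d⁻¹) → c ∈ K2 d r)
    (P : Sylow 3 G) :
    Cfsg.IsExtraspecial 3 (P : Subgroup G) ∧ Nat.card P = 27 ∧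
      Nat.card (Subgroup.normalizer ((P : Subgroup G) : Set G)) = 216 ∧
      ∃ a b : G, orderOf a = 3 ∧ orderOf b = 3 ∧ ¬ IsConj a b ∧
        ∀ c : G, orderOf c = 3 → IsConj c a ∨ IsConj c b := by
  classical
  haveI : Fact (Nat.Prime 3) := ⟨Nat.prime_three⟩
  have hd3 : orderOf d = 3 := hd.1
  -- r is not a power of d
  have hrd : r ∉ Subgroup.zpowers d := by
    intro h
    rcases mem_zpowers_three hd3 h with h1 | h1 | h1
    · rw [h1, orderOf_one] at hr3; norm_num at hr3
    · exact hrn (h1 ▸ hd)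
    · exact hrn (h1 ▸ hd.inv)
  have hcen : ∀ c : G, c * d = d * c → c * r = r * c → c ∈ K2 d r := by
    intro c hcd hcr'
    apply hstab c hcr'
    left
    rw [hcd]; group
  -- the centralizer of r has at most 36 elements
  have hle : Nat.card (Subgroup.centralizer ({r} : Set G)) ≤ 36 := by
    have key : ∀ y : ↥(Subgroup.centralizer ({r} : Set G)), ∃ p : ↥D × Fin 3,
        (y : G) = (p.1 : G) * r ^ (p.2 : ℕ) := by
      intro y
      obtain ⟨a, ha, k, hk⟩ := hcr y.1 (by
        have := y.2; rwa [Subgroup.mem_centralizer_singleton_iff] at this)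
      refine ⟨(⟨a, ha⟩, ⟨k % 3, Nat.mod_lt _ (by norm_num)⟩), ?_⟩
      show (y : G) = a * r ^ (k % 3)
      rw [hk, ← pow_mod_three hr3]
    choose f hf using key
    have hinj : Function.Injective f := by
      intro y1 y2 h
      apply Subtype.ext
      rw [hf y1, hf y2, h]
    have := Nat.card_le_card_of_injective f hinj
    rw [Nat.card_prod, Nat.card_fin, hDc] at this
    simpa using this
  have h27 : ¬ 27 ∣ Nat.card (Subgroup.centralizer ({r} : Set G)) := by
    intro h
    have h2 : 2 ∣ Nat.card (Subgroup.centralizer ({r} : Set G)) := by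
      have htm : t ∈ Subgroup.centralizer ({r} : Set G) := by
        rw [Subgroup.mem_centralizer_singleton_iff]; exact htr
      have := orderOf_dvd_natCard (⟨t, htm⟩ : ↥(Subgroup.centralizer ({r} : Set G)))
      rwa [Subgroup.orderOf_mk, ht] at this
    have hc : Nat.Coprime 27 2 := by norm_num
    have h54 : 27 * 2 ∣ Nat.card (Subgroup.centralizer ({r} : Set G)) :=
      hc.mul_dvd_of_dvd_of_dvd h h2
    have hpos : 0 < Nat.card (Subgroup.centralizer ({r} : Set G)) := Nat.card_pos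
    have := Nat.le_of_dvd hpos h54
    omega
  have hrinv : ∃ s : G, s * r * s⁻¹ = r⁻¹ := ⟨s, hsr⟩
  obtain ⟨P3, hEP⟩ := (K2_isPGroup hd3 hr3 hdr).exists_le_sylow
  obtain ⟨hP27, -, hdZ, hZ, hCP, hcommP, hconjr⟩ :=
    structure_P3 hG z d r hd hr3 hrn hdr hcen h27 hrinv P3 hEP
  obtain ⟨hN1c, hN1N, hN1d⟩ := normalizer_E1 z d r hd hr3 hrn hdr (P3 : Subgroup G) hP27 hEP hdZ
    hcommP hconjr hstab s hs2 hsd hsr
  have hdP : d ∈ (P3 : Subgroup G) := hEP (left_mem_K2 d r)
  have hrP : r ∈ (P3 : Subgroup G) := hEP (right_mem_K2 d r)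
  have hN216 := Cfsg.Agent.Lib.Helper7.J2L3c.card_normalizer_P3 hG d hd3 P3 hdP hdZ hZ hCP
    (DType.inverted hC h3 hd) (fun S hS hSd => DType.card_two_sub_dvd hC h3 hd S hS hSd)
    (Subgroup.normalizer (K2 d r : Set G)) hN1c hN1N hN1d
  have hnd : ∀ n ∈ Subgroup.normalizer ((P3 : Subgroup G) : Set G),
      n * d * n⁻¹ ∈ Subgroup.zpowers d := by
    intro n hn
    have hn' : ∀ x : G, x ∈ (P3 : Subgroup G) ↔ n * x * n⁻¹ ∈ (P3 : Subgroup G) := by
      intro x
      exact Subgroup.mem_normalizer_iff.mp hn x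
    apply hZ _ ((hn' d).mp hdP)
    intro x hx
    have hx' : n⁻¹ * x * n ∈ (P3 : Subgroup G) := by
      rw [hn']
      have : n * (n⁻¹ * x * n) * n⁻¹ = x := by group
      rw [this]; exact hx
    have h1 := hdZ _ hx'
    calc x * (n * d * n⁻¹) = n * ((n⁻¹ * x * n) * d) * n⁻¹ := by group
      _ = n * (d * (n⁻¹ * x * n)) * n⁻¹ := by rw [h1]
      _ = n * d * n⁻¹ * x := by group
  have hcov := Cfsg.Agent.Lib.Helper9.J2L.cover_P3 d hd3 P3 hP27 (K2 d r) hEP
    (card_K2 hd3 hr3 hdr hrd) (left_mem_K2 d r) hN216 hN1c hN1N hnd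
  -- the card of P
  have hPc : Nat.card (P : Subgroup G) = 27 := by
    rw [Sylow.card_eq_multiplicity, hG, Cfsg.Agent.Lib.Helper7.J2L3c.fact604800]
    norm_num
  -- P is not abelian
  obtain ⟨k, -, hk⟩ := Cfsg.Agent.Lib.Helper7.J2L3c.sylow_conj_in (⊤ : Subgroup G) P P3
    le_top le_top
  have hna : ∃ a b : ↥(P : Subgroup G), a * b ≠ b * a := by
    -- r is not central in P3
    have hrc : ¬ ∀ x ∈ (P3 : Subgroup G), x * r = r * x := fun h => hrd (hZ r hrP h)
    rw [not_forall] at hrc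
    obtain ⟨x, hx⟩ := hrc
    rw [Classical.not_imp] at hx
    obtain ⟨hxP, hxr⟩ := hx
    refine ⟨⟨k * x * k⁻¹, hk x hxP⟩, ⟨k * r * k⁻¹, hk r hrP⟩, ?_⟩
    intro h
    apply hxr
    have h1 := congrArg Subtype.val h
    simp only [Subgroup.coe_mul] at h1
    exact comm_of_conj_comm h1
  refine ⟨?_, hPc, ?_, d, r, hd3, hr3, ?_, ?_⟩
  · exact Cfsg.Agent.Lib.Helper9.J2X.extraspecial_of_card_cube 3 (by rw [hPc]; norm_num) hna
  · -- the normalizers have the same index
    have h1 : (Subgroup.normalizer ((P : Subgroup G) : Set G)).index = Nat.card (Sylow 3 G) :=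
      (Sylow.card_eq_index_normalizer P).symm
    have h2 : Nat.card (Sylow 3 G) = (Subgroup.normalizer ((P3 : Subgroup G) : Set G)).index :=
      Sylow.card_eq_index_normalizer P3
    have h3' : (Subgroup.normalizer ((P : Subgroup G) : Set G)).index =
        (Subgroup.normalizer ((P3 : Subgroup G) : Set G)).index := h1.trans h2
    have h4 := Subgroup.card_mul_index (Subgroup.normalizer ((P : Subgroup G) : Set G))
    have h5 := Subgroup.card_mul_index (Subgroup.normalizer ((P3 : Subgroup G) : Set G))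
    rw [hG] at h4 h5
    rw [hN216] at h5
    rw [h3'] at h4
    have h6 : (Subgroup.normalizer ((P3 : Subgroup G) : Set G)).index = 2800 := by omega
    rw [h6] at h4
    omega
  · intro h
    obtain ⟨g, hg⟩ := isConj_iff.mp h
    exact hrn (hg ▸ hd.conj g)
  · intro c hc3
    -- conjugate c into P3
    have hcp : IsPGroup 3 (Subgroup.zpowers c) := by
      apply IsPGroup.of_card (n := 1)
      rw [Nat.card_zpowers, hc3, pow_one]
    obtain ⟨P', hP'⟩ := hcp.exists_le_sylow
    obtain ⟨k', -, hk'⟩ := Cfsg.Agent.Lib.Helper7.J2L3c.sylow_conj_in (⊤ : Subgroup G) P3 P'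
      le_top le_top
    have hc' : k' * c * k'⁻¹ ∈ (P3 : Subgroup G) := hk' c (hP' (Subgroup.mem_zpowers c))
    have hc'3 : orderOf (k' * c * k'⁻¹) = 3 := by rw [orderOf_conj]; exact hc3
    -- a conjugate e of c in K2 d r
    obtain ⟨e, heK, hce⟩ : ∃ e ∈ K2 d r, IsConj c e := by
      by_cases hz' : k' * c * k'⁻¹ ∈ Subgroup.zpowers d
      · refine ⟨k' * c * k'⁻¹, ?_, isConj_iff.mpr ⟨k', rfl⟩⟩
        have : Subgroup.zpowers d ≤ K2 d r := by
          rw [Subgroup.zpowers_le]; exact left_mem_K2 d r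
        exact this hz'
      · obtain ⟨n, hn⟩ := hcov _ hc' hz'
        refine ⟨n * (k' * c * k'⁻¹) * n⁻¹, hn, isConj_iff.mpr ⟨n * k', ?_⟩⟩
        group
    have he3 : orderOf e = 3 := by
      obtain ⟨g, hg⟩ := isConj_iff.mp hce
      rw [← hg, orderOf_conj]; exact hc3
    by_cases hez : e ∈ Subgroup.zpowers d
    · left
      rcases mem_zpowers_three hd3 hez with h1 | h1 | h1
      · rw [h1, orderOf_one] at he3; norm_num at he3
      · rw [h1] at hce; exact hce
      · rw [h1] at hce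
        obtain ⟨w, hw⟩ := DType.inverted hC h3 hd
        have : IsConj d⁻¹ d := by
          rw [isConj_comm]
          exact isConj_iff.mpr ⟨w, hw⟩
        exact hce.trans this
    · right
      exact hce.trans (hconjr e heK hez)

end Cfsg.Agent.Lib.Helper6.J2L
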