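import Mathlib
import Cfsg.Prelude.Def_TwoFusion
import Cfsg.Agent.Lib.Helper6.J2L5
import Cfsg.Agent.Lib.Helper5.J2S5c0

/-!
# Groups of type `J₂` (S1724): no element of order two or three centralizes an element of order seven
-/

set_option autoImplicit false

namespace Cfsg.Agent.Lib.Helper6.J2M
open Cfsg.Agent.Lib.Helper6.J2T Cfsg.Agent.Lib.Helper6.J2L

variable {G : Type*} [Group G]

/-- a subgroup all of whose elements have order dividing `n`, `n` prime to seven, has order prime to
seven -/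
theorem no_seven [Finite G] (H : Subgroup G) (n : ℕ) (hn : ¬ 7 ∣ n) (h : ∀ y ∈ H, y ^ n = 1) :
    ¬ 7 ∣ Nat.card H := by
  intro h7
  haveI : Fact (Nat.Prime 7) := ⟨by norm_num⟩
  obtain ⟨y, hy⟩ := exists_prime_orderOf_dvd_card' (G := ↥H) 7 h7
  have h1 : (y : G) ^ n = 1 := h y.1 y.2
  have h2 : orderOf (y : G) = 7 := by rw [Subgroup.orderOf_coe]; exact hy
  have h3 := orderOf_dvd_of_pow_eq_one h1
  rw [h2] at h3
  exact hn h3

/-- the elements of a product of two commuting subgroups -/
theorem pow_card_mul [Finite G] (A B : Subgroup G) {a b : G} (ha : a ∈ A) (hb : b ∈ B)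
    (hab : a * b = b * a) : (a * b) ^ (Nat.card A * Nat.card B) = 1 := by
  have h1 : a ^ Nat.card A = 1 := by
    have := pow_card_eq_one' (G := ↥A) (x := ⟨a, ha⟩)
    exact congrArg Subtype.val this
  have h2 : b ^ Nat.card B = 1 := by
    have := pow_card_eq_one' (G := ↥B) (x := ⟨b, hb⟩)
    exact congrArg Subtype.val this
  have hc : Commute a b := hab
  rw [hc.mul_pow, pow_mul, h1, one_pow, one_mul, mul_comm, pow_mul, h2, one_pow]

/-- `27` divides the order of the centralizer of `d` -/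
theorem dvd_card_cent_d [Finite G] (hG : Nat.card G = 604800) (z t : G) (D : Subgroup G)
    (ht : orderOf t = 2) (hDc : Nat.card D = 12)
    (d r s : G) (hd : DType z d) (hr3 : orderOf r = 3) (hrn : ¬ DType z r) (hdr : d * r = r * d)
    (hsr : s * r * s⁻¹ = r⁻¹) (htr : t * r = r * t)
    (hcr : ∀ y : G, y * r = r * y → ∃ a ∈ D, ∃ k : ℕ, y = a * r ^ k)
    (hstab : ∀ c : G, c * r = r * c → (c * d * c⁻¹ = d ∨ c * d * c⁻¹ = d⁻¹) → c ∈ K2 d r) :
    27 ∣ Nat.card (Subgroup.centralizer ({d} : Set G)) := by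
  classical
  haveI : Fact (Nat.Prime 3) := ⟨Nat.prime_three⟩
  have hd3 : orderOf d = 3 := hd.1
  have hcen : ∀ c : G, c * d = d * c → c * r = r * c → c ∈ K2 d r := by
    intro c hcd hcr'
    apply hstab c hcr'
    left
    rw [hcd]; group
  have hle : Nat.card (Subgroup.centralizer ({r} : Set G)) ≤ 36 := by
    have key : ∀ y : ↥(Subgroup.centralizer ({r} : Set G)), ∃ p : ↥D × Fin 3,
        (y : G) = (p.1 : G) * r ^ (p.2 : ℕ) := by
      intro y
      obtain ⟨a, ha, k, hk⟩ := hcr y.1 (by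
        have := y.2; rwa [Subgroup.mem_centralizer_singleton_iff] at this)
      refine ⟨(⟨a, ha⟩, ⟨k % 3, Nat.mod_lt _ (by norm_num)⟩), ?_⟩
      show (y : G) = a * r ^ (k % 3)
      rw [hk, ← pow_mod_three hr3]
    choose f hf using key
    have hinj : Function.Injective f := by
      intro y1 y2 h
      apply Subtype.ext
      rw [hf y1, hf y2, h]
    have := Nat.card_le_card_of_injective f hinj
    rw [Nat.card_prod, Nat.card_fin, hDc] at this
    simpa using this
  have h27 : ¬ 27 ∣ Nat.card (Subgroup.centralizer ({r} : Set G)) := by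
    intro h
    have h2 : 2 ∣ Nat.card (Subgroup.centralizer ({r} : Set G)) := by
      have htm : t ∈ Subgroup.centralizer ({r} : Set G) := by
        rw [Subgroup.mem_centralizer_singleton_iff]; exact htr
      have := orderOf_dvd_natCard (⟨t, htm⟩ : ↥(Subgroup.centralizer ({r} : Set G)))
      rwa [Subgroup.orderOf_mk, ht] at this
    have hc : Nat.Coprime 27 2 := by norm_num
    have h54 : 27 * 2 ∣ Nat.card (Subgroup.centralizer ({r} : Set G)) :=
      hc.mul_dvd_of_dvd_of_dvd h h2
    have hpos : 0 < Nat.card (Subgroup.centralizer ({r} : Set G)) := Nat.card_pos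
    have := Nat.le_of_dvd hpos h54
    omega
  have hrinv : ∃ s : G, s * r * s⁻¹ = r⁻¹ := ⟨s, hsr⟩
  obtain ⟨P3, hEP⟩ := (K2_isPGroup hd3 hr3 hdr).exists_le_sylow
  obtain ⟨hP27, -, hdZ, -, -, -, -⟩ :=
    structure_P3 hG z d r hd hr3 hrn hdr hcen h27 hrinv P3 hEP
  rw [← hP27]
  apply Subgroup.card_dvd_of_le
  intro x hx
  rw [Subgroup.mem_centralizer_singleton_iff]
  exact hdZ x hx

end Cfsg.Agent.Lib.Helper6.J2M
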