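import Mathlib
import Cfsg.Prelude.Def_TwoFusion
import Cfsg.Agent.Lib.Helper6.J2M1

/-!
# Groups of type `J₂` (S1724): the centralizers of the elements of order two and three have order prime
to seven
-/

set_option autoImplicit false

namespace Cfsg.Agent.Lib.Helper6.J2M
open Cfsg.Agent.Lib.Helper6.J2T Cfsg.Agent.Lib.Helper6.J2L

variable {G : Type*} [Group G]

theorem card_cent_of_isConj [Finite G] {x y : G} (h : IsConj x y) :
    Nat.card (Subgroup.centralizer ({x} : Set G)) = Nat.card (Subgroup.centralizer ({y} : Set G)) := by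
  obtain ⟨g, hg⟩ := isConj_iff.mp h
  rw [← hg]
  exact (Cfsg.Agent.Lib.Helper5.J2S5.card_centralizer_conj g x).symm

theorem no_seven_cent [Finite G] (hG : Nat.card G = 604800) (z t : G) (C Q V0 R1 D : Subgroup G)
    (hC : ∀ g : G, g ∈ C ↔ g * z = z * g) (h3 : ThreeLocal z C Q)
    (hQz : ∀ q ∈ Q, orderOf q = 2 → IsConj q z)
    (hz : orderOf z = 2) (ht : orderOf t = 2) (hnzt : ¬ IsConj z t)
    (hcl2 : ∀ s : G, orderOf s = 2 → IsConj s z ∨ IsConj s t) (hCcard : Nat.card C = 1920)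
    (hVB : Cfsg.IsInternalDirectProduct V0 R1 (Subgroup.centralizer ({t} : Set G)))
    (hV : Nat.card V0 = 4) (htV : t ∈ V0)
    (hR1 : Nonempty (↥R1 ≃* alternatingGroup (Fin 5)))
    (hfuse : ∀ t1 ∈ V0, t1 ≠ 1 → ∃ c : G, c * t * c⁻¹ = t1)
    (hR1z : ∀ x ∈ R1, orderOf x = 2 → IsConj x z)
    (hM : Cfsg.IsInternalDirectProduct D R1 (Subgroup.normalizer (V0 : Set G)))
    (hVD : V0 ≤ D) (hDc : Nat.card D = 12)
    (hceq : ∀ t1 ∈ V0, t1 ≠ 1 →
      Subgroup.centralizer ({t1} : Set G) = Subgroup.centralizer ({t} : Set G))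
    (hA4 : Nonempty (↥D ≃* alternatingGroup (Fin 4)))
    (h5 : ∀ f ∈ C, orderOf f = 5 → ∀ c ∈ C, c * f = f * c → ∃ a b : ℕ, c = z ^ a * f ^ b)
    (h1080 : ∀ d ∈ C, orderOf d = 3 → 27 ∣ Nat.card (Subgroup.centralizer ({d} : Set G)) →
      Nat.card (Subgroup.centralizer ({d} : Set G)) = 1080) :
    ∀ x : G, (orderOf x = 2 ∨ orderOf x = 3) →
      ¬ 7 ∣ Nat.card (Subgroup.centralizer ({x} : Set G)) := by
  classical
  haveI : Fact (Nat.Prime 3) := ⟨Nat.prime_three⟩
  obtain ⟨w⟩ := hR1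
  have hR1c : Nat.card ↥R1 = 60 := by
    rw [Nat.card_congr w.toEquiv, nat_card_alternatingGroup, Nat.card_fin]
    decide
  have hCeq : Subgroup.centralizer ({z} : Set G) = C := by
    ext g
    rw [Subgroup.mem_centralizer_singleton_iff, hC]
  obtain ⟨d, r, s, hd, hr3, hrn, hdr, hdD, hrR, hs2, hsd, hsr, htr, hcr, hstab⟩ :=
    exists_d_r hG z t C Q V0 R1 D hC h3 hQz hz ht hnzt hVB hV htV ⟨w⟩ hfuse hR1z hM hVD hDc hceq
      hA4 h5
  have h27d := dvd_card_cent_d hG z t D ht hDc d r s hd hr3 hrn hdr hsr htr hcr hstab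
  have hDR : ∀ a ∈ D, ∀ b ∈ R1, a * b = b * a := hM.2.2.1
  -- the four centralizers
  have hz7 : ¬ 7 ∣ Nat.card (Subgroup.centralizer ({z} : Set G)) := by
    rw [hCeq, hCcard]; norm_num
  have ht7 : ¬ 7 ∣ Nat.card (Subgroup.centralizer ({t} : Set G)) := by
    apply no_seven _ (Nat.card V0 * Nat.card R1) (by rw [hV, hR1c]; norm_num)
    intro y hy
    obtain ⟨a, ha, b, hb, rfl⟩ := Cfsg.Agent.Lib.Helper5.J2S5.mem_sup_comm V0 R1 hVB.2.2.1 y
      (by rw [hVB.2.2.2.2]; exact hy)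
    exact pow_card_mul V0 R1 ha hb (hVB.2.2.1 a ha b hb)
  have hr7 : ¬ 7 ∣ Nat.card (Subgroup.centralizer ({r} : Set G)) := by
    apply no_seven _ (Nat.card D * Nat.card R1) (by rw [hDc, hR1c]; norm_num)
    intro y hy
    rw [Subgroup.mem_centralizer_singleton_iff] at hy
    obtain ⟨a, ha, k, rfl⟩ := hcr y hy
    exact pow_card_mul D R1 ha (R1.pow_mem hrR k) (hDR a ha _ (R1.pow_mem hrR k))
  have hd7 : ∀ x : G, DType z x → ¬ 7 ∣ Nat.card (Subgroup.centralizer ({x} : Set G)) := by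
    intro x hx
    obtain ⟨g, hgC, hg3⟩ := hx.exists_conj_mem hC
    have h1 : IsConj x (g * x * g⁻¹) := isConj_iff.mpr ⟨g, rfl⟩
    have h2 : IsConj d (g * x * g⁻¹) := DType.isConj hC h3 hd (hx.conj g)
    rw [card_cent_of_isConj h1]
    have h27' : 27 ∣ Nat.card (Subgroup.centralizer ({g * x * g⁻¹} : Set G)) := by
      rw [← card_cent_of_isConj h2]; exact h27d
    rw [h1080 _ hgC hg3 h27']
    norm_num
  -- the classes of elements of order three
  obtain ⟨P0⟩ : Nonempty (Sylow 3 G) := inferInstance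
  obtain ⟨-, -, -, a, b, ha3, hb3, hab, hcl3⟩ := sylow_three_of_d_r hG z t C Q D hC h3 ht hDc d r s
    hd hr3 hrn hdr hs2 hsd hsr htr hcr hstab P0
  have hdr' : ¬ IsConj d r := by
    intro h
    obtain ⟨g, hg⟩ := isConj_iff.mp h
    exact hrn (hg ▸ hd.conj g)
  have hcl3' : ∀ c : G, orderOf c = 3 → IsConj c d ∨ IsConj c r := by
    intro c hc3
    rcases hcl3 d hd.1 with h1 | h1 <;> rcases hcl3 r hr3 with h2 | h2
    · exact absurd (h1.trans h2.symm) hdr'
    · rcases hcl3 c hc3 with h | h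
      · left; exact h.trans h1.symm
      · right; exact h.trans h2.symm
    · rcases hcl3 c hc3 with h | h
      · right; exact h.trans h2.symm
      · left; exact h.trans h1.symm
    · exact absurd (h1.trans h2.symm) hdr'
  intro x hx
  rcases hx with hx | hx
  · rcases hcl2 x hx with h | h
    · rw [card_cent_of_isConj h]; exact hz7
    · rw [card_cent_of_isConj h]; exact ht7
  · rcases hcl3' x hx with h | h
    · apply hd7
      obtain ⟨g, hg⟩ := isConj_iff.mp h.symm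
      exact hg ▸ hd.conj g
    · rw [card_cent_of_isConj h]; exact hr7

end Cfsg.Agent.Lib.Helper6.J2M
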