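import Mathlib

/-!
# Farm J2S (S5403), unit SIMPLE (hedge copy by helper6)

`simple_of_local`: a group of order `604800` whose commutator subgroup has order divisible by
`2^7` and `3^3`, whose Sylow 7-subgroups are self-centralising with normaliser of order `42` and
whose Sylow 5-subgroups are self-centralising, is simple.  Mathlib only.
-/

set_option autoImplicit false
set_option linter.style.haveILetI false

namespace Cfsg.Agent.Lib.Helper6.J2SSIMPLE

open scoped commutatorElement

variable {G : Type*} [Group G]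

/-- conjugation action of `K` on a subgroup `L` which it normalises -/
@[reducible] def conjActNorm (K L : Subgroup G) (h : K ≤ Subgroup.normalizer (L : Set G)) :
    MulAction K L where
  smul k l := ⟨(k : G) * l * (k : G)⁻¹, (Subgroup.mem_normalizer_iff.mp (h k.2) l).mp l.2⟩
  one_smul l := Subtype.ext (by
    show ((1 : K) : G) * l * ((1 : K) : G)⁻¹ = l
    simp)
  mul_smul a b l := Subtype.ext (by
    show ((a * b : K) : G) * l * ((a * b : K) : G)⁻¹
      = (a : G) * ((b : G) * l * (b : G)⁻¹) * (a : G)⁻¹
    simp [mul_assoc])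

/-- a `q`-group normalising `L` with only trivial fixed points on `L` forces `|L| ≡ 1 mod q` -/
theorem card_modEq_one [Finite G] {q : ℕ} [hq : Fact q.Prime] (K L : Subgroup G)
    (hK : IsPGroup q K) (hKL : K ≤ Subgroup.normalizer (L : Set G))
    (hC : ∀ l ∈ L, (∀ k ∈ K, k * l * k⁻¹ = l) → l = 1) :
    Nat.card L ≡ 1 [MOD q] := by
  letI := conjActNorm K L hKL
  have h1 := hK.card_modEq_card_fixedPoints (α := L)
  have h2 : MulAction.fixedPoints K L = {1} := by
    ext l
    rw [MulAction.mem_fixedPoints, Set.mem_singleton_iff]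
    constructor
    · intro h
      apply Subtype.ext
      apply hC l.1 l.2
      intro k hk
      exact congrArg Subtype.val (h ⟨k, hk⟩)
    · rintro rfl k
      apply Subtype.ext
      show (k : G) * ((1 : L) : G) * (k : G)⁻¹ = ((1 : L) : G)
      simp
  rw [h2] at h1
  simpa using h1

theorem card_sylow7 [Finite G] (hcard : Nat.card G = 604800) (P : Sylow 7 G) :
    Nat.card P = 7 := by
  haveI : Fact (Nat.Prime 7) := ⟨by norm_num⟩
  obtain ⟨k, hk⟩ := IsPGroup.iff_card.1 P.isPGroup'
  have h1 : 7 ∣ Nat.card P := P.dvd_card_of_dvd_card (by rw [hcard]; norm_num)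
  have h2 : Nat.card P ∣ 604800 := hcard ▸ Subgroup.card_subgroup_dvd_card (P : Subgroup G)
  rw [hk] at h1 h2 ⊢
  have hk2 : k < 2 := by
    by_contra hcon
    have h3 : 7 ^ 2 ∣ 7 ^ k := pow_dvd_pow 7 (by omega)
    have h4 : 7 ^ 2 ∣ 604800 := h3.trans h2
    norm_num at h4
  interval_cases k
  · norm_num at h1
  · norm_num

theorem card_sylow5 [Finite G] (hcard : Nat.card G = 604800) (P : Sylow 5 G) :
    Nat.card P = 25 := by
  haveI : Fact (Nat.Prime 5) := ⟨by norm_num⟩
  have h1 := P.card_eq_multiplicity
  have h2 : (604800 : ℕ).factorization 5 = 2 := by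
    have e : (604800 : ℕ) = 5 ^ 2 * 24192 := by norm_num
    rw [e, Nat.factorization_mul (by norm_num) (by norm_num), Nat.factorization_pow]
    have h3 : (24192 : ℕ).factorization 5 = 0 :=
      Nat.factorization_eq_zero_of_not_dvd (by norm_num)
    simp [h3, Nat.Prime.factorization_self (by norm_num : Nat.Prime 5)]
  rw [hcard, h2] at h1
  rw [h1]; norm_num

/-- a normal subgroup of index 2 or 3 does not exist -/
theorem no_small_index [Finite G] (hcard : Nat.card G = 604800)
    (hc2 : 2 ^ 7 ∣ Nat.card ↥(commutator G)) (hc3 : 3 ^ 3 ∣ Nat.card ↥(commutator G))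
    (M : Subgroup G) [M.Normal] (hidx : M.index = 2 ∨ M.index = 3) : False := by
  have hprime : (M.index).Prime := by
    rcases hidx with h | h <;> rw [h] <;> norm_num
  have hcq : Nat.card (G ⧸ M) = M.index := (Subgroup.index_eq_card M).symm
  haveI : Fact (M.index).Prime := ⟨hprime⟩
  haveI : IsCyclic (G ⧸ M) := isCyclic_of_prime_card hcq
  have hle : commutator G ≤ M := by
    rw [commutator_def, Subgroup.commutator_le]
    intro a _ b _
    letI := IsCyclic.commGroup (α := G ⧸ M)
    have h1 : (QuotientGroup.mk a : G ⧸ M) * QuotientGroup.mk b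
        = QuotientGroup.mk b * QuotientGroup.mk a := mul_comm _ _
    have h2 : (QuotientGroup.mk ⁅a, b⁆ : G ⧸ M) = 1 := by
      rw [commutatorElement_def]
      rw [QuotientGroup.mk_mul, QuotientGroup.mk_mul, QuotientGroup.mk_mul, h1,
        QuotientGroup.mk_inv, QuotientGroup.mk_inv]
      group
    exact (QuotientGroup.eq_one_iff _).mp h2
  have hdvd : Nat.card ↥(commutator G) ∣ Nat.card M := Subgroup.card_dvd_of_le hle
  have hmul := Subgroup.card_mul_index M
  rw [hcard] at hmul
  rcases hidx with h | h
  · rw [h] at hmul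
    have hM : Nat.card M = 302400 := by omega
    have : 2 ^ 7 ∣ 302400 := hM ▸ hc2.trans hdvd
    norm_num at this
  · rw [h] at hmul
    have hM : Nat.card M = 201600 := by omega
    have : 3 ^ 3 ∣ 201600 := hM ▸ hc3.trans hdvd
    norm_num at this

/-- Frattini: if `7 ∤ |N|`, every Sylow `r`-subgroup of `N` has order `≡ 1 mod 7` -/
theorem sylow_card_modEq_one [Finite G] (hcard : Nat.card G = 604800)
    (h7 : ∀ P : Sylow 7 G, Subgroup.centralizer ((P : Subgroup G) : Set G) = P ∧
      Nat.card (Subgroup.normalizer ((P : Subgroup G) : Set G)) = 42)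
    (N : Subgroup G) [N.Normal] (h7N : ¬ 7 ∣ Nat.card N) (r : ℕ) [Fact r.Prime]
    (R : Sylow r N) : Nat.card R ≡ 1 [MOD 7] := by
  haveI : Fact (Nat.Prime 7) := ⟨by norm_num⟩
  set R' : Subgroup G := (R : Subgroup N).map N.subtype with hR'
  set H : Subgroup G := Subgroup.normalizer (R' : Set G) with hH
  have hF : H ⊔ N = ⊤ := Sylow.normalizer_sup_eq_top R
  have hidx : N.index = N.relIndex H := by
    have := Subgroup.relIndex_sup_right (H := H) (K := N)
    rw [hF, Subgroup.relIndex_top_right] at this
    exact this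
  have h7idx : 7 ∣ N.index := by
    have hmul := Subgroup.card_mul_index N
    rw [hcard] at hmul
    have h7 : 7 ∣ Nat.card N * N.index := by rw [hmul]; norm_num
    rcases (Nat.Prime.dvd_mul (by norm_num)).mp h7 with h | h
    · exact absurd h h7N
    · exact h
  have h7H : 7 ∣ Nat.card H := by
    rw [hidx] at h7idx
    exact h7idx.trans (Subgroup.index_dvd_card _)
  obtain ⟨Q₀⟩ : Nonempty (Sylow 7 H) := inferInstance
  have hQ₀7 : 7 ∣ Nat.card Q₀ := Q₀.dvd_card_of_dvd_card h7H
  set Q₀' : Subgroup G := (Q₀ : Subgroup H).map H.subtype with hQ₀'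
  have hQ₀'card : Nat.card Q₀' = Nat.card Q₀ :=
    Subgroup.card_map_of_injective H.subtype_injective
  have hQ₀'p : IsPGroup 7 Q₀' := Q₀.isPGroup'.map H.subtype
  obtain ⟨Q, hQ⟩ := hQ₀'p.exists_le_sylow
  have hQcard : Nat.card Q = 7 := card_sylow7 hcard Q
  have hQeq : Q₀' = (Q : Subgroup G) := by
    apply Subgroup.eq_of_le_of_card_ge hQ
    rw [hQcard, hQ₀'card]
    exact Nat.le_of_dvd Nat.card_pos hQ₀7
  have hQH : (Q : Subgroup G) ≤ H := by
    rw [← hQeq]
    exact Subgroup.map_subtype_le _
  have hR'N : R' ≤ N := Subgroup.map_subtype_le _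
  have hcardR' : Nat.card R' = Nat.card R :=
    Subgroup.card_map_of_injective N.subtype_injective
  rw [← hcardR']
  refine card_modEq_one (q := 7) (Q : Subgroup G) R' Q.isPGroup' hQH ?_
  intro l hl hfix
  have hlC : l ∈ Subgroup.centralizer ((Q : Subgroup G) : Set G) := by
    rw [Subgroup.mem_centralizer_iff]
    intro k hk
    have := hfix k hk
    calc k * l = k * l * k⁻¹ * k := by group
      _ = l * k := by rw [this]
  rw [(h7 Q).1] at hlC
  have h1 : orderOf l ∣ 7 := hQcard ▸ Subgroup.orderOf_dvd_natCard _ hlC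
  have h2 : orderOf l ∣ Nat.card N := Subgroup.orderOf_dvd_natCard _ (hR'N hl)
  have hcop : Nat.Coprime 7 (Nat.card N) :=
    (Nat.Prime.coprime_iff_not_dvd (by norm_num)).mpr h7N
  have h3 := Nat.dvd_gcd h1 h2
  rw [hcop.gcd_eq_one] at h3
  exact orderOf_eq_one_iff.mp (Nat.dvd_one.mp h3)

/-- Unit SIMPLE (statement verbatim from `Cfsg.Agent.Lib.Helper9.J2SStubs.simple_of_local`). -/
theorem simple_of_local {G : Type*} [Group G] [Finite G]
    (hcard : Nat.card G = 604800)
    (hc2 : 2 ^ 7 ∣ Nat.card ↥(commutator G)) (hc3 : 3 ^ 3 ∣ Nat.card ↥(commutator G))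
    (h7 : ∀ P : Sylow 7 G, Subgroup.centralizer ((P : Subgroup G) : Set G) = P ∧
      Nat.card (Subgroup.normalizer ((P : Subgroup G) : Set G)) = 42)
    (h5 : ∀ P : Sylow 5 G, Subgroup.centralizer ((P : Subgroup G) : Set G) = P) :
    IsSimpleGroup G := by
  haveI h7p : Fact (Nat.Prime 7) := ⟨by norm_num⟩
  haveI h5p : Fact (Nat.Prime 5) := ⟨by norm_num⟩
  haveI h3p : Fact (Nat.Prime 3) := ⟨by norm_num⟩
  haveI h2p : Fact (Nat.Prime 2) := ⟨by norm_num⟩
  have hnt : Nontrivial G := by
    apply Finite.one_lt_card_iff_nontrivial.mp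
    rw [hcard]; norm_num
  refine { toNontrivial := hnt, eq_bot_or_eq_top_of_normal := ?_ }
  intro N hN
  haveI := hN
  by_cases hbot : N = ⊥
  · exact Or.inl hbot
  right
  have hNdvd : Nat.card N ∣ 604800 := hcard ▸ Subgroup.card_subgroup_dvd_card N
  by_cases h7N : 7 ∣ Nat.card N
  · -- Case A
    obtain ⟨P⟩ : Nonempty (Sylow 7 N) := inferInstance
    have hP7 : 7 ∣ Nat.card P := P.dvd_card_of_dvd_card h7N
    set P' : Subgroup G := (P : Subgroup N).map N.subtype with hP'
    have hP'card : Nat.card P' = Nat.card P :=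
      Subgroup.card_map_of_injective N.subtype_injective
    have hP'p : IsPGroup 7 P' := P.isPGroup'.map N.subtype
    obtain ⟨Q, hQ⟩ := hP'p.exists_le_sylow
    have hQcard : Nat.card Q = 7 := card_sylow7 hcard Q
    have hQeq : P' = (Q : Subgroup G) := by
      apply Subgroup.eq_of_le_of_card_ge hQ
      rw [hQcard, hP'card]
      exact Nat.le_of_dvd Nat.card_pos hP7
    have hP'N : P' ≤ N := Subgroup.map_subtype_le _
    set H : Subgroup G := Subgroup.normalizer (P' : Set G) with hH
    have hF : H ⊔ N = ⊤ := Sylow.normalizer_sup_eq_top P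
    have hHcard : Nat.card H = 42 := by
      have := (h7 Q).2
      rw [← hQeq] at this
      exact this
    have hidx : N.index = N.relIndex H := by
      have := Subgroup.relIndex_sup_right (H := H) (K := N)
      rw [hF, Subgroup.relIndex_top_right] at this
      exact this
    have hP'H : P' ≤ H := Subgroup.le_normalizer
    have hdvd1 : N.relIndex H ∣ P'.relIndex H := Subgroup.relIndex_dvd_of_le_left H hP'N
    have hP'rel : P'.relIndex H = 6 := by
      have h1 := Subgroup.card_mul_index (P'.subgroupOf H)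
      have h2 : Nat.card (P'.subgroupOf H) = Nat.card P' :=
        Nat.card_congr (Subgroup.subgroupOfEquivOfLe hP'H).toEquiv
      rw [h2, hHcard, hQeq, hQcard] at h1
      have : (P'.subgroupOf H).index = 6 := by
        rw [hQeq]; omega
      exact this
    have hidx6 : N.index ∣ 6 := by rw [hidx]; rw [hP'rel] at hdvd1; exact hdvd1
    have hle6 : N.index ≤ 6 := Nat.le_of_dvd (by norm_num) hidx6
    have hpos : 0 < N.index := Nat.pos_of_ne_zero (Subgroup.index_ne_zero_of_finite)
    have hcases : N.index = 1 ∨ N.index = 2 ∨ N.index = 3 ∨ N.index = 6 := by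
      have hmem : N.index ∈ Nat.divisors 6 := Nat.mem_divisors.mpr ⟨hidx6, by norm_num⟩
      have hd : Nat.divisors 6 = {1, 2, 3, 6} := by decide
      rw [hd] at hmem
      simpa using hmem
    rcases hcases with h | h | h | h
    · exact Subgroup.index_eq_one.mp h
    · exact (no_small_index hcard hc2 hc3 N (Or.inl h)).elim
    · exact (no_small_index hcard hc2 hc3 N (Or.inr h)).elim
    · -- quotient of order 6 has a subgroup of index 2
      exfalso
      have hcq : Nat.card (G ⧸ N) = 6 := by rw [← Subgroup.index_eq_card, h]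
      obtain ⟨x, hx⟩ := exists_prime_orderOf_dvd_card' (G := G ⧸ N) 3 (by rw [hcq]; norm_num)
      set S : Subgroup (G ⧸ N) := Subgroup.zpowers x with hS
      have hScard : Nat.card S = 3 := by rw [Nat.card_zpowers, hx]
      have hSidx : S.index = 2 := by
        have := Subgroup.card_mul_index S
        rw [hScard, hcq] at this
        omega
      haveI : S.Normal := Subgroup.normal_of_index_eq_two hSidx
      set M : Subgroup G := S.comap (QuotientGroup.mk' N) with hM
      haveI : M.Normal := Subgroup.Normal.comap inferInstance _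
      have hMidx : M.index = 2 := by
        rw [hM, Subgroup.index_comap_of_surjective S (QuotientGroup.mk'_surjective N), hSidx]
      exact no_small_index hcard hc2 hc3 M (Or.inl hMidx)
  · -- Case B
    exfalso
    -- 3 and 5 do not divide |N|
    have hno : ∀ (r : ℕ) [Fact r.Prime], (∀ k : ℕ, r ^ k ∣ 604800 → r ^ k ≡ 1 [MOD 7] → k = 0) →
        ¬ r ∣ Nat.card N := by
      intro r hr hk hrN
      obtain ⟨R⟩ : Nonempty (Sylow r N) := inferInstance
      have h1 := sylow_card_modEq_one hcard h7 N h7N r R
      obtain ⟨k, hkc⟩ := IsPGroup.iff_card.1 R.isPGroup'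
      have h2 : r ∣ Nat.card R := R.dvd_card_of_dvd_card hrN
      have h3 : Nat.card R ∣ 604800 :=
        (Subgroup.card_subgroup_dvd_card (R : Subgroup N)).trans hNdvd
      rw [hkc] at h1 h2 h3
      have := hk k h3 h1
      subst this
      rw [pow_zero] at h2
      exact hr.out.one_lt.ne' (Nat.dvd_one.mp h2)
    have h3N : ¬ 3 ∣ Nat.card N := by
      apply hno 3
      intro k hk1 hk2
      have hk4 : k < 4 := by
        by_contra hcon
        have h3 : 3 ^ 4 ∣ 3 ^ k := pow_dvd_pow 3 (by omega)
        have h4 : 3 ^ 4 ∣ 604800 := h3.trans hk1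
        norm_num at h4
      interval_cases k <;> first | rfl | (exfalso; revert hk2; decide)
    have h5N : ¬ 5 ∣ Nat.card N := by
      apply hno 5
      intro k hk1 hk2
      have hk4 : k < 3 := by
        by_contra hcon
        have h3 : 5 ^ 3 ∣ 5 ^ k := pow_dvd_pow 5 (by omega)
        have h4 : 5 ^ 3 ∣ 604800 := h3.trans hk1
        norm_num at h4
      interval_cases k <;> first | rfl | (exfalso; revert hk2; decide)
    -- so |N| is a power of 2
    have hcop : Nat.Coprime (Nat.card N) 4725 := by
      have e : (4725 : ℕ) = 3 ^ 3 * (5 ^ 2 * 7) := by norm_num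
      rw [e]
      refine Nat.Coprime.mul_right (Nat.Coprime.pow_right _ ?_)
        (Nat.Coprime.mul_right (Nat.Coprime.pow_right _ ?_) ?_)
      · exact ((Nat.Prime.coprime_iff_not_dvd (by norm_num)).mpr h3N).symm
      · exact ((Nat.Prime.coprime_iff_not_dvd (by norm_num)).mpr h5N).symm
      · exact ((Nat.Prime.coprime_iff_not_dvd (by norm_num)).mpr h7N).symm
    have hN2 : Nat.card N ∣ 2 ^ 7 := by
      have e : (604800 : ℕ) = 2 ^ 7 * 4725 := by norm_num
      rw [e] at hNdvd
      exact hcop.dvd_of_dvd_mul_right hNdvd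
    obtain ⟨a, ha7, haN⟩ := (Nat.dvd_prime_pow Nat.prime_two).mp hN2
    -- a Sylow 7-subgroup acts fixed-point-freely on N
    obtain ⟨Q⟩ : Nonempty (Sylow 7 G) := inferInstance
    have hQcard : Nat.card Q = 7 := card_sylow7 hcard Q
    have hQN : (Q : Subgroup G) ≤ Subgroup.normalizer (N : Set G) := by
      rw [Subgroup.normalizer_eq_top]; exact le_top
    have hmod7 : Nat.card N ≡ 1 [MOD 7] := by
      refine card_modEq_one (q := 7) (Q : Subgroup G) N Q.isPGroup' hQN ?_
      intro l hl hfix
      have hlC : l ∈ Subgroup.centralizer ((Q : Subgroup G) : Set G) := by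
        rw [Subgroup.mem_centralizer_iff]
        intro k hk
        have := hfix k hk
        calc k * l = k * l * k⁻¹ * k := by group
          _ = l * k := by rw [this]
      rw [(h7 Q).1] at hlC
      have h1 : orderOf l ∣ 7 := hQcard ▸ Subgroup.orderOf_dvd_natCard _ hlC
      have h2 : orderOf l ∣ Nat.card N := Subgroup.orderOf_dvd_natCard _ hl
      have hcop7 : Nat.Coprime 7 (Nat.card N) :=
        (Nat.Prime.coprime_iff_not_dvd (by norm_num)).mpr h7N
      have h3 := Nat.dvd_gcd h1 h2
      rw [hcop7.gcd_eq_one] at h3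
      exact orderOf_eq_one_iff.mp (Nat.dvd_one.mp h3)
    -- a Sylow 5-subgroup acts fixed-point-freely on N
    obtain ⟨T⟩ : Nonempty (Sylow 5 G) := inferInstance
    have hTcard : Nat.card T = 25 := card_sylow5 hcard T
    have hTN : (T : Subgroup G) ≤ Subgroup.normalizer (N : Set G) := by
      rw [Subgroup.normalizer_eq_top]; exact le_top
    have hmod5 : Nat.card N ≡ 1 [MOD 5] := by
      refine card_modEq_one (q := 5) (T : Subgroup G) N T.isPGroup' hTN ?_
      intro l hl hfix
      have hlC : l ∈ Subgroup.centralizer ((T : Subgroup G) : Set G) := by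
        rw [Subgroup.mem_centralizer_iff]
        intro k hk
        have := hfix k hk
        calc k * l = k * l * k⁻¹ * k := by group
          _ = l * k := by rw [this]
      rw [h5 T] at hlC
      have h1 : orderOf l ∣ 25 := hTcard ▸ Subgroup.orderOf_dvd_natCard _ hlC
      have h2 : orderOf l ∣ Nat.card N := Subgroup.orderOf_dvd_natCard _ hl
      have hcop5 : Nat.Coprime 25 (Nat.card N) := by
        rw [haN]
        exact Nat.Coprime.pow_right _ (by norm_num)
      have h3 := Nat.dvd_gcd h1 h2
      rw [hcop5.gcd_eq_one] at h3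
      exact orderOf_eq_one_iff.mp (Nat.dvd_one.mp h3)
    have ha0 : a ≠ 0 := by
      intro h0
      apply hbot
      rw [h0, pow_zero] at haN
      exact Subgroup.card_eq_one.mp haN
    rw [haN] at hmod7 hmod5
    have ha8 : a < 8 := by omega
    interval_cases a <;> first | exact absurd rfl ha0 | (revert hmod7; decide) | (revert hmod5; decide)

end Cfsg.Agent.Lib.Helper6.J2SSIMPLE
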