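import Mathlib
import Cfsg.Agent.Lib.Helper6.J2T2
import Cfsg.Agent.Lib.Helper7.J2T

/-!
# Groups of type `J₂` (S1723): `ThreeLocal` from the module structure of `Q`
-/

set_option autoImplicit false

namespace Cfsg.Agent.Lib.Helper6.J2T
open Cfsg.Agent.Lib.Helper4.ES2

variable {G : Type*} [Group G]

theorem threeLocal_of_module [Finite G] (C Q : Subgroup G) (z : G) (hD : Data Q z)
    (hQ : Nat.card Q = 32) (hQC : Q ≤ C) (hCz : ∀ c ∈ C, c * z = z * c)
    (hQn : ∀ c ∈ C, ∀ q ∈ Q, c * q * c⁻¹ ∈ Q) (hCcard : Nat.card C = 1920)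
    (phi : ↥C →* Equiv.Perm (Fin 5)) (u : Fin 5 → G)
    (hker : ∀ c : ↥C, phi c = 1 ↔ (c : G) ∈ Q) (hran : phi.range = alternatingGroup (Fin 5))
    (hu : ∀ i, u i ∈ Q ∧ u i * u i = 1 ∧ u i ≠ 1 ∧ u i ≠ z)
    (hcm : ∀ i j, i ≠ j → cm (u i) (u j) = z)
    (hact : ∀ (c : ↥C) (i : Fin 5), (c : G) * u i * (c : G)⁻¹ = u (phi c i) ∨
      (c : G) * u i * (c : G)⁻¹ = u (phi c i) * z)
    (hgen : Subgroup.closure (Set.range u) = Q) : ThreeLocal z C Q := by
  classical
  intro d hdC hd3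
  obtain ⟨a, b, hab, hda, hdb, hiff, hCd, hinv, hall⟩ :=
    Cfsg.Agent.Lib.Helper7.J2T.three_in_C C Q z hD hQ hQC hCz hQn hCcard phi u hker hran hu hcm
      hact hgen d hdC hd3
  have hzz := hD.z_sq
  set S8 : Subgroup G := Q ⊓ Subgroup.centralizer ({d} : Set G) with hS8
  have hmemS8 : ∀ q, q ∈ S8 ↔ q ∈ Q ∧ q * d = d * q := by
    intro q
    rw [hS8, Subgroup.mem_inf, Subgroup.mem_centralizer_singleton_iff]
  have hS8Q : S8 ≤ Q := inf_le_left
  refine ⟨S8, hS8Q, ?_, fun s hs => ((hmemS8 s).mp hs).2, ?_, ?_, hinv, hall⟩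
  · -- the order divides eight
    have hp : IsPGroup 2 S8 := hD.isPGroup.to_le hS8Q
    haveI : Fact (Nat.Prime 2) := ⟨Nat.prime_two⟩
    obtain ⟨n, hn⟩ := hp.exists_card_eq
    -- at most eight elements
    let L : Fin 8 → G := ![1, z, u a, u a * z, u b, u b * z, u a * u b, u a * u b * z]
    have hL : ∀ q ∈ S8, ∃ i, L i = q := by
      intro q hq
      obtain ⟨hqQ, hqd⟩ := (hmemS8 q).mp hq
      rcases (hiff q hqQ).mp hqd with h | h | h | h | h | h | h | h
      · exact ⟨0, h.symm⟩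
      · exact ⟨1, h.symm⟩
      · exact ⟨2, h.symm⟩
      · exact ⟨3, h.symm⟩
      · exact ⟨4, h.symm⟩
      · exact ⟨5, h.symm⟩
      · exact ⟨6, h.symm⟩
      · exact ⟨7, h.symm⟩
    have hle : Nat.card S8 ≤ 8 := by
      choose f hf using hL
      have hinj : Function.Injective (fun q : ↥S8 => f q.1 q.2) := by
        intro q q' h
        apply Subtype.ext
        have h1 := hf q.1 q.2
        have h2 := hf q'.1 q'.2
        simp only at h
        rw [← h1, ← h2, h]
      have := Nat.card_le_card_of_injective _ hinj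
      simpa using this
    rw [hn] at hle ⊢
    have hn3 : n ≤ 3 := by
      by_contra hcon
      have h4 : 4 ≤ n := by omega
      have : 2 ^ 4 ≤ 2 ^ n := Nat.pow_le_pow_right (by norm_num) h4
      omega
    exact pow_dvd_pow 2 hn3
  · -- the normalizer of `S8` centralizes `z`
    intro g hg
    have hua := hu a
    have hub := hu b
    have hw : u a * u b ∈ S8 := by
      rw [hmemS8]
      refine ⟨Q.mul_mem hua.1 hub.1, ?_⟩
      calc u a * u b * d = u a * (u b * d) := by group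
        _ = u a * (d * u b) := by rw [hdb]
        _ = (u a * d) * u b := by group
        _ = (d * u a) * u b := by rw [hda]
        _ = d * (u a * u b) := by group
    have hwsq : (u a * u b) * (u a * u b) = z := by
      rw [hD.sq_mul hua.1 hub.1, hcm a b hab, hua.2.1, hub.2.1, mul_one, mul_one]
    have h1 := hg _ hw
    have h2 : (g * (u a * u b) * g⁻¹) * (g * (u a * u b) * g⁻¹) = g * z * g⁻¹ := by
      calc (g * (u a * u b) * g⁻¹) * (g * (u a * u b) * g⁻¹)
          = g * ((u a * u b) * (u a * u b)) * g⁻¹ := by group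
        _ = g * z * g⁻¹ := by rw [hwsq]
    rcases hD.sq_mem _ (hS8Q h1) with h3 | h3
    · exfalso
      rw [h2] at h3
      apply hD.z_ne
      calc z = g⁻¹ * (g * z * g⁻¹) * g := by group
        _ = 1 := by rw [h3]; group
    · rw [h2] at h3
      calc g * z = (g * z * g⁻¹) * g := by group
        _ = z * g := by rw [h3]
  · intro c hcC hcd
    obtain ⟨q, hqQ, hqd, hcase⟩ := hCd c hcC hcd
    exact ⟨q, (hmemS8 q).mpr ⟨hqQ, hqd⟩, hcase⟩

end Cfsg.Agent.Lib.Helper6.J2T
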