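import Mathlib

set_option autoImplicit false

namespace Cfsg.Agent.Lib.Helper6.JM

/-- Tits' count: `t+1` points `x i` and sets `B i` of size `t-1+c` with `x j ∈ B i` for `j ≠ i`,
pairwise meeting in at most `t-1` points, need at least `(t+1)c` points. -/
theorem tits_count {Ω : Type*} [Finite Ω] {t c : ℕ} (ht : 1 ≤ t) (x : Fin (t + 1) ↪ Ω)
    (B : Fin (t + 1) → Set Ω) (hB : ∀ i, (B i).ncard = t - 1 + c)
    (hx : ∀ i j, j ≠ i → x j ∈ B i)
    (hBB : ∀ i j, i ≠ j → (B i ∩ B j).ncard ≤ t - 1) : (t + 1) * c ≤ Nat.card Ω := by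
  classical
  haveI : Fintype Ω := Fintype.ofFinite Ω
  rcases Nat.eq_zero_or_pos c with hc | hc
  · subst hc; simp
  -- the finset of the points
  set W : Finset Ω := Finset.univ.map x with hW
  have hWcard : W.card = t + 1 := by simp [hW]
  -- key: a subset of B i ∩ B j given as image of x on a finset
  have key : ∀ (i j : Fin (t + 1)) (s : Finset (Fin (t + 1))), i ≠ j →
      (∀ l ∈ s, x l ∈ B i ∧ x l ∈ B j) → ∀ (E : Finset Ω), (∀ y ∈ E, y ∈ B i ∧ y ∈ B j) →
      Disjoint (s.map x) E → s.card + E.card ≤ t - 1 := by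
    intro i j s hij hs E hE hdis
    have hsub : ((s.map x ∪ E : Finset Ω) : Set Ω) ⊆ B i ∩ B j := by
      intro y hy
      simp only [Finset.coe_union, Finset.coe_map, Set.mem_union, Set.mem_image,
        Finset.mem_coe] at hy
      rcases hy with ⟨l, hl, rfl⟩ | hy
      · exact hs l hl
      · exact hE y hy
    have h1 := Set.ncard_le_ncard hsub (Set.toFinite _)
    rw [Set.ncard_coe_finset, Finset.card_union_of_disjoint hdis, Finset.card_map] at h1
    exact le_trans h1 (hBB i j hij)
  -- Claim 1 : x i ∉ B i
  have c1 : ∀ i, x i ∉ B i := by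
    intro i hi
    obtain ⟨j, hj⟩ : ∃ j : Fin (t + 1), j ≠ i := by
      by_cases h0 : i = 0
      · refine ⟨⟨1, by omega⟩, ?_⟩
        rw [h0]; intro h; have := congrArg Fin.val h; simp at this
      · exact ⟨0, fun h => h0 h.symm⟩
    have := key i j (Finset.univ.erase j) (Ne.symm hj) (by
      intro l hl
      have hlj : l ≠ j := Finset.ne_of_mem_erase hl
      refine ⟨?_, hx j l hlj⟩
      by_cases hli : l = i
      · rw [hli]; exact hi
      · exact hx i l hli) ∅ (by simp) (by simp)
    rw [Finset.card_erase_of_mem (Finset.mem_univ _), Finset.card_univ, Fintype.card_fin] at this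
    simp at this
    omega
  -- the sets D i
  set D : Fin (t + 1) → Finset Ω := fun i => (B i).toFinset \ W with hD
  have hDdisj : ∀ i j, i ≠ j → Disjoint (D i) (D j) := by
    intro i j hij
    rw [Finset.disjoint_left]
    intro y hyi hyj
    simp only [hD, Finset.mem_sdiff, Set.mem_toFinset] at hyi hyj
    have := key i j ((Finset.univ.erase i).erase j) hij (by
      intro l hl
      have hlj : l ≠ j := Finset.ne_of_mem_erase hl
      have hli : l ≠ i := Finset.ne_of_mem_erase (Finset.mem_of_mem_erase hl)
      exact ⟨hx i l hli, hx j l hlj⟩) {y} (by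
        intro z hz; rw [Finset.mem_singleton] at hz; subst hz; exact ⟨hyi.1, hyj.1⟩) (by
        rw [Finset.disjoint_singleton_right]
        intro hmem
        apply hyi.2
        rw [hW]
        rw [Finset.mem_map] at hmem ⊢
        obtain ⟨l, _, hl⟩ := hmem
        exact ⟨l, Finset.mem_univ _, hl⟩)
    rw [Finset.card_erase_of_mem (Finset.mem_erase.mpr ⟨Ne.symm hij, Finset.mem_univ _⟩),
      Finset.card_erase_of_mem (Finset.mem_univ _), Finset.card_univ, Fintype.card_fin,
      Finset.card_singleton] at this
    omega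
  have hDW : ∀ i, Disjoint (D i) W := by
    intro i; simp only [hD]; exact Finset.sdiff_disjoint
  have hDcard : ∀ i, c - 1 ≤ (D i).card := by
    intro i
    have h1 : ((B i).toFinset ∩ W).card ≤ t := by
      have : (B i).toFinset ∩ W ⊆ (Finset.univ.erase i).map x := by
        intro y hy
        rw [Finset.mem_inter, Set.mem_toFinset, hW, Finset.mem_map] at hy
        obtain ⟨hyB, l, _, rfl⟩ := hy
        rw [Finset.mem_map]
        refine ⟨l, Finset.mem_erase.mpr ⟨?_, Finset.mem_univ _⟩, rfl⟩
        intro hli; rw [hli] at hyB; exact c1 i hyB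
      have h2 := Finset.card_le_card this
      rw [Finset.card_map, Finset.card_erase_of_mem (Finset.mem_univ _), Finset.card_univ,
        Fintype.card_fin] at h2
      simpa using h2
    have h3 : ((B i).toFinset \ W).card + ((B i).toFinset ∩ W).card = (B i).toFinset.card :=
      Finset.card_sdiff_add_card_inter _ _
    have h4 : (B i).toFinset.card = t - 1 + c := by
      rw [← hB i, Set.ncard_eq_toFinset_card']
    simp only [hD]
    omega
  -- the big union
  have hU : (W ∪ Finset.univ.biUnion D).card ≤ Fintype.card Ω := Finset.card_le_univ _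
  have hdisj : Disjoint W (Finset.univ.biUnion D) := by
    rw [Finset.disjoint_biUnion_right]
    intro i _; exact (hDW i).symm
  rw [Finset.card_union_of_disjoint hdisj, Finset.card_biUnion (by
    intro i _ j _ hij; exact hDdisj i j hij)] at hU
  have hsum : (t + 1) * (c - 1) ≤ ∑ i : Fin (t + 1), (D i).card := by
    calc (t + 1) * (c - 1) = ∑ _i : Fin (t + 1), (c - 1) := by simp
      _ ≤ _ := Finset.sum_le_sum (fun i _ => hDcard i)
  rw [Nat.card_eq_fintype_card]
  have : (t + 1) * c = (t + 1) + (t + 1) * (c - 1) := by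
    obtain ⟨c', rfl⟩ : ∃ c', c = c' + 1 := ⟨c - 1, by omega⟩
    simp; ring
  omega

end Cfsg.Agent.Lib.Helper6.JM
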