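import Mathlib
import Cfsg.Agent.Lib.Helper9.JRDefs

/-!
# Farm JR (S3206): units U4a `sylowIn_of_sylow`, U4b `sylowIn_inf`, U4c `sylowIn_toSylow`.
-/

set_option autoImplicit false

namespace Cfsg.Agent.Lib.Helper6.JRSylowIn

open Cfsg.Agent.Lib.Helper9.JRDefs

variable {G : Type*} [Group G]

/-- `|A ∩ B| * [B : A ∩ B] = |B|` -/
theorem card_inf_mul_relIndex (A B : Subgroup G) :
    Nat.card ↥(A ⊓ B) * A.relIndex B = Nat.card ↥B := by
  have := Subgroup.relIndex_mul_relIndex (⊥ : Subgroup G) (A ⊓ B) B bot_le inf_le_right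
  rwa [Subgroup.relIndex_bot_left, Subgroup.relIndex_bot_left, Subgroup.inf_relIndex_right] at this

/-- `|A| * [B : A] = |B|` for `A ≤ B` -/
theorem card_mul_relIndex {A B : Subgroup G} (h : A ≤ B) :
    Nat.card ↥A * A.relIndex B = Nat.card ↥B := by
  have := Subgroup.relIndex_mul_relIndex (⊥ : Subgroup G) A B bot_le h
  rwa [Subgroup.relIndex_bot_left, Subgroup.relIndex_bot_left] at this

/-- For `B` normal: `[B : A ∩ B] = [AB : A]`. -/
theorem relIndex_eq_relIndex_sup [Finite G] (A B : Subgroup G) [B.Normal] :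
    A.relIndex B = A.relIndex (A ⊔ B) := by
  have e1 : B.relIndex (A ⊔ B) = B.relIndex A := Subgroup.relIndex_sup_right A B
  have c1 := card_mul_relIndex (le_sup_right : B ≤ A ⊔ B)
  have c2 := card_mul_relIndex (le_sup_left : A ≤ A ⊔ B)
  have c3 := card_inf_mul_relIndex B A
  have c4 := card_inf_mul_relIndex A B
  rw [inf_comm] at c3
  rw [e1] at c1
  have hpos : 0 < Nat.card ↥A := Nat.card_pos
  -- `|A| * [B : A∩B] = |A∩B| * [A : A∩B] * [B : A∩B] = |B| * [A : A ∩ B] = |A ⊔ B| = |A| * [A⊔B : A]`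
  have h1 : Nat.card ↥A * A.relIndex B = Nat.card ↥A * A.relIndex (A ⊔ B) := by
    rw [c2, ← c1, ← c4, ← c3]
    ring
  exact Nat.eq_of_mul_eq_mul_left hpos h1

/-- U4a -/
theorem sylowIn_of_sylow [Finite G] {p : ℕ} [Fact p.Prime] (S : Sylow p G) (K : Subgroup G)
    (h : (S : Subgroup G) ≤ K) : IsSylowIn p (S : Subgroup G) K := by
  refine ⟨h, S.2, ?_⟩
  intro hdvd
  exact S.not_dvd_index (hdvd.trans (Subgroup.relIndex_dvd_index_of_le h))

/-- U4b: a Sylow subgroup of `K` meets a subgroup `M ≤ K` normalized by `K` in a Sylow subgroup of `M`. -/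
theorem sylowIn_inf [Finite G] {p : ℕ} [Fact p.Prime] {Q K M : Subgroup G} (h : IsSylowIn p Q K)
    (hMK : M ≤ K) (hnorm : ∀ k ∈ K, ∀ m ∈ M, k * m * k⁻¹ ∈ M) : IsSylowIn p (Q ⊓ M) M := by
  obtain ⟨hQK, hQp, hQi⟩ := h
  refine ⟨inf_le_right, hQp.to_le inf_le_left, ?_⟩
  rw [Subgroup.inf_relIndex_right]
  have hn : (M.subgroupOf K).Normal := by
    refine ⟨fun n hn g => ?_⟩
    rw [Subgroup.mem_subgroupOf] at hn ⊢
    simpa using hnorm g g.2 n hn
  have h1 : (Q.subgroupOf K).relIndex (M.subgroupOf K) = Q.relIndex M :=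
    Subgroup.relIndex_subgroupOf hMK
  have h2 := relIndex_eq_relIndex_sup (Q.subgroupOf K) (M.subgroupOf K)
  have h3 : (Q.subgroupOf K).relIndex (Q.subgroupOf K ⊔ M.subgroupOf K) ∣ (Q.subgroupOf K).index :=
    Subgroup.relIndex_dvd_index_of_le le_sup_left
  intro hdvd
  apply hQi
  rw [← h1, h2] at hdvd
  exact hdvd.trans h3

/-- U4c -/
theorem sylowIn_toSylow [Finite G] {p : ℕ} [Fact p.Prime] {Q K : Subgroup G} (h : IsSylowIn p Q K) :
    ∃ V : Sylow p ↥K, ∀ x : ↥K, x ∈ V ↔ (x : G) ∈ Q := by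
  obtain ⟨_, hQp, hQi⟩ := h
  have h1 : IsPGroup p ↥(Q.subgroupOf K) := hQp.comap_subtype
  have h2 : ¬ p ∣ (Q.subgroupOf K).index := hQi
  refine ⟨h1.toSylow h2, fun x => ?_⟩
  rw [IsPGroup.mem_toSylow, Subgroup.mem_subgroupOf]

end Cfsg.Agent.Lib.Helper6.JRSylowIn
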