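import Mathlib
import Cfsg.Agent.Lib.Helper9.JRDefs
import Cfsg.Agent.Lib.Helper6.JRSylowIn

/-!
# Farm JR (S3206): unit U10 `G1b`, core form (the PSL₂ inputs `P1`, `P2` as hypotheses).
-/

set_option autoImplicit false

namespace Cfsg.Agent.Lib.Helper6.JRG1bCore

open Cfsg.Agent.Lib.Helper9.JRDefs Cfsg.Agent.Lib.Helper6.JRSylowIn

variable {G : Type*} [Group G]

/-- conjugation action of `E` on a subgroup `N` it normalizes -/
def conjHom (E N : Subgroup G) (hnorm : ∀ e ∈ E, ∀ x ∈ N, e * x * e⁻¹ ∈ N) : ↥E →* MulAut ↥N where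
  toFun e :=
    { toFun := fun x => ⟨(e : G) * x * (e : G)⁻¹, hnorm e e.2 x x.2⟩
      invFun := fun x => ⟨(e : G)⁻¹ * x * (e : G), by
        have := hnorm (e : G)⁻¹ (E.inv_mem e.2) x x.2
        simpa using this⟩
      left_inv := fun x => by
        apply Subtype.ext
        simp only
        group
      right_inv := fun x => by
        apply Subtype.ext
        simp only
        group
      map_mul' := fun x y => by
        apply Subtype.ext
        simp only [Subgroup.coe_mul]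
        group }
  map_one' := by
    ext x
    simp
  map_mul' := fun a b => by
    ext x
    simp only [Subgroup.coe_mul, MulAut.mul_apply, MulEquiv.coe_mk, Equiv.coe_fn_mk, mul_inv_rev]
    group

@[simp] theorem conjHom_apply (E N : Subgroup G) (hnorm : ∀ e ∈ E, ∀ x ∈ N, e * x * e⁻¹ ∈ N)
    (e : ↥E) (x : ↥N) : ((conjHom E N hnorm e) x : G) = (e : G) * x * (e : G)⁻¹ := rfl

variable [Finite G] {F : Type*} [Field F] [Fintype F]

/-- `C_G(t)` normalizes `E`. -/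
theorem C_normalizes_E (X : JR G F) :
    ∀ c ∈ Subgroup.centralizer ({X.t} : Set G), ∀ x ∈ X.E, c * x * c⁻¹ ∈ X.E := by
  intro c hc x hx
  obtain ⟨e, he, h | h⟩ := X.mem_C c hc
  · rw [h]
    exact X.E.mul_mem (X.E.mul_mem he hx) (X.E.inv_mem he)
  · have hy : e * x * e⁻¹ ∈ X.E := X.E.mul_mem (X.E.mul_mem he hx) (X.E.inv_mem he)
    have hcomm := X.t_comm _ hy
    have : c * x * c⁻¹ = e * x * e⁻¹ := by
      rw [h]
      calc X.t * e * x * (X.t * e)⁻¹ = (X.t * (e * x * e⁻¹)) * X.t⁻¹ := by group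
        _ = ((e * x * e⁻¹) * X.t) * X.t⁻¹ := by rw [hcomm]
        _ = e * x * e⁻¹ := by group
    rw [this]
    exact hy

/-- U10 (G1b), with `P1` and `P2` (for `N := ↥X.NG`) as hypotheses. -/
theorem G1b_core (X : JR G F) (S : Sylow 2 G) (htS : X.t ∈ S)
    (hP1 : ∀ V : Sylow 2 ↥X.NG, (∀ a ∈ V, ∀ b ∈ V, a * b = b * a) →
      (Fintype.card F % 8 = 3 ∨ Fintype.card F % 8 = 5))
    (hP2 : (Fintype.card F % 8 = 3 ∨ Fintype.card F % 8 = 5) →
      ∀ (V : Sylow 2 ↥X.NG) (α : ↥X.NG ≃* ↥X.NG) (k : ℕ), α ^ (2 ^ k) = 1 →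
        (∀ v ∈ V, α v = v) → ∃ v ∈ V, ∀ x : ↥X.NG, α x = v * x * v⁻¹) :
    (Fintype.card F % 8 = 3 ∨ Fintype.card F % 8 = 5) ∧
    (∀ s ∈ S, s ∈ X.E → s ∈ X.NG) ∧
    (∃ V : Sylow 2 ↥X.NG, ∀ x : ↥X.NG, x ∈ V ↔ (x : G) ∈ S) ∧
    ¬ 2 ∣ X.NG.relIndex X.E := by
  have : Fact (Nat.Prime 2) := ⟨Nat.prime_two⟩
  have hSC : (S : Subgroup G) ≤ Subgroup.centralizer ({X.t} : Set G) := X.sylow_le S htS
  have h0 : IsSylowIn 2 (S : Subgroup G) (Subgroup.centralizer ({X.t} : Set G)) :=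
    sylowIn_of_sylow S _ hSC
  have h1 : IsSylowIn 2 ((S : Subgroup G) ⊓ X.E) X.E := sylowIn_inf h0 X.E_le (C_normalizes_E X)
  have h2' : IsSylowIn 2 (((S : Subgroup G) ⊓ X.E) ⊓ X.NG) X.NG := sylowIn_inf h1 X.hNE X.hnorm
  have heq : ((S : Subgroup G) ⊓ X.E) ⊓ X.NG = (S : Subgroup G) ⊓ X.NG := by
    rw [inf_assoc, inf_eq_right.mpr X.hNE]
  rw [heq] at h2'
  obtain ⟨V, hV'⟩ := sylowIn_toSylow h2'
  have hV : ∀ x : ↥X.NG, x ∈ V ↔ (x : G) ∈ S := by
    intro x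
    rw [hV' x]
    constructor
    · exact fun h => h.1
    · exact fun h => ⟨h, x.2⟩
  have hVab : ∀ a ∈ V, ∀ b ∈ V, a * b = b * a := by
    intro a ha b hb
    apply Subtype.ext
    exact X.hab S a ((hV a).mp ha) b ((hV b).mp hb)
  have hq := hP1 V hVab
  have hSE : ∀ s ∈ S, s ∈ X.E → s ∈ X.NG := by
    intro w hwS hwE
    obtain ⟨k, hk⟩ := S.2 ⟨w, hwS⟩
    have hk' : (⟨w, hwE⟩ : ↥X.E) ^ 2 ^ k = 1 := by
      apply Subtype.ext
      have := congrArg Subtype.val hk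
      simpa using this
    have hα : (conjHom X.E X.NG X.hnorm ⟨w, hwE⟩) ^ (2 ^ k) = 1 := by
      rw [← map_pow, hk', map_one]
    have hfix : ∀ v ∈ V, (conjHom X.E X.NG X.hnorm ⟨w, hwE⟩) v = v := by
      intro v hv
      apply Subtype.ext
      rw [conjHom_apply]
      have hvS : (v : G) ∈ S := (hV v).mp hv
      have := X.hab S w hwS v hvS
      show w * (v : G) * w⁻¹ = v
      rw [this]
      group
    obtain ⟨v, hvV, hv⟩ := hP2 hq V (conjHom X.E X.NG X.hnorm ⟨w, hwE⟩) k hα hfix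
    have hvE : (v : G) ∈ X.E := X.hNE v.2
    have hcent : (v : G)⁻¹ * w = 1 := by
      apply X.hcent _ (X.E.mul_mem (X.E.inv_mem hvE) hwE)
      intro x hx
      have h3 := congrArg Subtype.val (hv ⟨x, hx⟩)
      rw [conjHom_apply] at h3
      simp only [Subgroup.coe_mul, Subgroup.coe_inv] at h3
      -- `w x w⁻¹ = v x v⁻¹`
      calc (v : G)⁻¹ * w * x = (v : G)⁻¹ * (w * x * w⁻¹) * w := by group
        _ = (v : G)⁻¹ * ((v : G) * x * (v : G)⁻¹) * w := by rw [h3]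
        _ = x * ((v : G)⁻¹ * w) := by group
    have : w = v := by
      have := congrArg (fun z => (v : G) * z) hcent
      simpa using this
    rw [this]
    exact v.2
  refine ⟨hq, hSE, ⟨V, hV⟩, ?_⟩
  intro hdvd
  apply h1.2.2
  have hle : (S : Subgroup G) ⊓ X.E ≤ X.NG := fun s hs => hSE s hs.1 hs.2
  exact hdvd.trans (Subgroup.relIndex_dvd_of_le_left X.E hle)

end Cfsg.Agent.Lib.Helper6.JRG1bCore
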