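import Mathlib
import Cfsg.Agent.Lib.Helper9.JRDefs
import Cfsg.Agent.Lib.Helper6.JRG1bCore
import Cfsg.Agent.Lib.Helper7.JRP1
import Cfsg.Agent.Lib.Helper9.JRP2c
import Cfsg.Agent.Lib.Helper2.JRP2a
import Cfsg.Agent.Lib.Helper3.JRP2b

/-!
# Farm JR (S3206): unit U2 `P2` (assembled from P2a + P2b + P2c) and unit U10 `G1b`.
-/

set_option autoImplicit false

namespace Cfsg.Agent.Lib.Helper6.JRG1b

open Cfsg.Agent.Lib.Helper9.JRDefs

section psl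
variable {F : Type*} [Field F] [Fintype F] {N : Type*} [Group N]

/-- UNIT U2 (P2), assembled from helper2's P2a, helper3's P2b and helper9's P2c. -/
theorem P2 (hq : Fintype.card F % 8 = 3 ∨ Fintype.card F % 8 = 5) (e : N ≃* PSL2 F)
    (V : Sylow 2 N) (α : N ≃* N) (k : ℕ) (hα : α ^ (2 ^ k) = 1) (hfix : ∀ v ∈ V, α v = v) :
    ∃ v ∈ V, ∀ x : N, α x = v * x * v⁻¹ :=
  Cfsg.Agent.Lib.Helper9.JRP2c.P2_of hq
    (fun β j hβ => Cfsg.Agent.Lib.Helper2.JRP2a.P2a hq β j hβ)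
    (Cfsg.Agent.Lib.Helper3.JRP2b.p2bStatement F) e V α k hα hfix

end psl

section setting
variable {G : Type*} [Group G] [Finite G] {F : Type*} [Field F] [Fintype F]

/-- UNIT U10 (G1b). -/
theorem G1b (X : JR G F) (S : Sylow 2 G) (htS : X.t ∈ S) :
    (Fintype.card F % 8 = 3 ∨ Fintype.card F % 8 = 5) ∧
    (∀ s ∈ S, s ∈ X.E → s ∈ X.NG) ∧
    (∃ V : Sylow 2 ↥X.NG, ∀ x : ↥X.NG, x ∈ V ↔ (x : G) ∈ S) ∧
    ¬ 2 ∣ X.NG.relIndex X.E := by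
  obtain ⟨e⟩ := X.iso
  exact Cfsg.Agent.Lib.Helper6.JRG1bCore.G1b_core X S htS
    (fun V hV => Cfsg.Agent.Lib.Helper7.JRP1.P1 X.hFo e V hV)
    (fun hq V α k hα hfix => P2 hq e V α k hα hfix)

end setting

end Cfsg.Agent.Lib.Helper6.JRG1b
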