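import Mathlib
import Cfsg.Agent.Lib.Helper9.JRDefs
import Cfsg.Agent.Lib.Helper5.PSL2KleinClasses
import Cfsg.Agent.Lib.Helper6.JRP3

/-!
# Farm JR (S3206): unit U2 `P2`, part P2c: reduction of `P2` (abstract `N ≃* PSL₂(F)`, arbitrary
Sylow 2-subgroup) to the case of `PSL₂(F)` with the standard pair `(mk qi, mk qj)`.
-/

set_option autoImplicit false

namespace Cfsg.Agent.Lib.Helper6.JRP2c

open Cfsg.Agent.Lib.Helper9.JRDefs Cfsg.Agent.Lib.Helper5.PairOrbits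
  Cfsg.Agent.Lib.Helper5.PSL2KleinClasses Cfsg.Agent.Lib.Helper5.SL2Quat
  Cfsg.Agent.Lib.Helper5.SumTwoSq Cfsg.Agent.Lib.Helper6.JRP3

variable {F : Type*} [Field F] [Fintype F]

/-- The standard case of `P2`: a 2-power-order automorphism of `PSL₂(F)` fixing the standard pair
is conjugation by an element of the standard four-group. -/
def StdP2 (F : Type*) [Field F] [Fintype F] : Prop :=
  ∀ (p r : F) (hpr : p ^ 2 + r ^ 2 = -1) (α : PSL2 F ≃* PSL2 F) (k : ℕ), α ^ (2 ^ k) = 1 →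
    α (QuotientGroup.mk (qi F)) = QuotientGroup.mk (qi F) →
    α (QuotientGroup.mk (qj p r hpr)) = QuotientGroup.mk (qj p r hpr) →
    ∃ v : PSL2 F, (v = 1 ∨ v = QuotientGroup.mk (qi F) ∨ v = QuotientGroup.mk (qj p r hpr) ∨
      v = QuotientGroup.mk (qi F) * QuotientGroup.mk (qj p r hpr)) ∧ ∀ x, α x = v * x * v⁻¹

/-- `P2` for `PSL₂(F)` and an arbitrary Sylow 2-subgroup, from the standard case. -/
theorem P2_psl (hstd : StdP2 F) (hq : Fintype.card F % 8 = 3 ∨ Fintype.card F % 8 = 5)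
    (W : Sylow 2 (PSL2 F)) (β : PSL2 F ≃* PSL2 F) (k : ℕ) (hβ : β ^ (2 ^ k) = 1)
    (hfix : ∀ w ∈ W, β w = w) : ∃ w ∈ W, ∀ x : PSL2 F, β x = w * x * w⁻¹ := by
  have hodd : Fintype.card F % 2 = 1 := by omega
  have hK : IsKleinFour ↥(W : Subgroup (PSL2 F)) :=
    Cfsg.Agent.Lib.Helper5.PSL2Klein.isKleinFour_sylow hq W
  obtain ⟨x, y, hxW, hyW, hP, -⟩ := JRP3.exists_pair (W : Subgroup (PSL2 F))
  obtain ⟨p, r, hpr, g, hg⟩ := exists_rel_Pw hodd (x, y) hP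
  have e1 : g * x * g⁻¹ = QuotientGroup.mk (qi F) := congrArg Prod.fst hg
  have e2 : g * y * g⁻¹ = QuotientGroup.mk (qj p r hpr) := congrArg Prod.snd hg
  obtain ⟨i, hi⟩ : ∃ i : PSL2 F, i = QuotientGroup.mk (qi F) := ⟨_, rfl⟩
  obtain ⟨j, hj⟩ : ∃ j : PSL2 F, j = QuotientGroup.mk (qj p r hpr) := ⟨_, rfl⟩
  have hstd' := hstd p r hpr
  rw [← hi, ← hj] at hstd'
  rw [← hi] at e1
  rw [← hj] at e2
  have hx : x = g⁻¹ * i * g := by rw [← e1]; group
  have hy : y = g⁻¹ * j * g := by rw [← e2]; group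
  have hγ : (MulAut.conj g * β * (MulAut.conj g)⁻¹) ^ (2 ^ k) = 1 := by
    rw [conj_pow, hβ, mul_one, mul_inv_cancel]
  have hγapp : ∀ z, (MulAut.conj g * β * (MulAut.conj g)⁻¹) z = g * β (g⁻¹ * z * g) * g⁻¹ := by
    intro z
    simp [MulAut.mul_apply, MulAut.conj_apply, MulAut.conj_inv_apply]
  have hγi : (MulAut.conj g * β * (MulAut.conj g)⁻¹) i = i := by
    rw [hγapp, ← hx, hfix x hxW, e1]
  have hγj : (MulAut.conj g * β * (MulAut.conj g)⁻¹) j = j := by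
    rw [hγapp, ← hy, hfix y hyW, e2]
  obtain ⟨v, hv, hconj⟩ := hstd' _ k hγ hγi hγj
  refine ⟨g⁻¹ * v * g, ?_, ?_⟩
  · rcases hv with rfl | rfl | rfl | rfl
    · simpa using (W : Subgroup (PSL2 F)).one_mem
    · rw [← hx]; exact hxW
    · rw [← hy]; exact hyW
    · have : g⁻¹ * (i * j) * g = x * y := by rw [hx, hy]; group
      rw [this]
      exact (W : Subgroup (PSL2 F)).mul_mem hxW hyW
  · intro z
    have h1 := hconj (g * z * g⁻¹)
    rw [hγapp] at h1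
    have h2 : g⁻¹ * (g * z * g⁻¹) * g = z := by group
    rw [h2] at h1
    calc β z = g⁻¹ * (g * β z * g⁻¹) * g := by group
      _ = g⁻¹ * (v * (g * z * g⁻¹) * v⁻¹) * g := by rw [h1]
      _ = g⁻¹ * v * g * z * (g⁻¹ * v * g)⁻¹ := by group

variable {N : Type*} [Group N]

/-- UNIT U2 (P2) from the standard case. -/
theorem P2_of_std (hstd : StdP2 F) (hq : Fintype.card F % 8 = 3 ∨ Fintype.card F % 8 = 5)
    (e : N ≃* PSL2 F) (V : Sylow 2 N) (α : N ≃* N) (k : ℕ) (hα : α ^ (2 ^ k) = 1)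
    (hfix : ∀ v ∈ V, α v = v) : ∃ v ∈ V, ∀ x : N, α x = v * x * v⁻¹ := by
  have : Fact (Nat.Prime 2) := ⟨Nat.prime_two⟩
  have hle : (V : Subgroup N) ≤ e.symm.toMonoidHom.range := by
    intro v _
    exact ⟨e v, by simp⟩
  have hinj : Function.Injective (e.symm.toMonoidHom : PSL2 F →* N) := e.symm.injective
  obtain ⟨W, hW⟩ : ∃ W : Sylow 2 (PSL2 F), ∀ z, z ∈ W ↔ e.symm z ∈ V := by
    refine ⟨V.comapOfInjective e.symm.toMonoidHom hinj hle, fun z => ?_⟩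
    have hcoe := Sylow.coe_comapOfInjective V e.symm.toMonoidHom hinj hle
    show z ∈ ((V.comapOfInjective e.symm.toMonoidHom hinj hle : Sylow 2 (PSL2 F)) :
      Subgroup (PSL2 F)) ↔ _
    rw [hcoe]
    rfl
  have hβ : (MulAut.congr e α) ^ (2 ^ k) = 1 := by
    rw [← map_pow, hα, map_one]
  have hβapp : ∀ z, (MulAut.congr e α) z = e (α (e.symm z)) := fun z => rfl
  have hβfix : ∀ w ∈ W, (MulAut.congr e α) w = w := by
    intro w hw
    rw [hβapp, hfix _ ((hW w).mp hw)]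
    simp
  obtain ⟨w, hwW, hw⟩ := P2_psl hstd hq W (MulAut.congr e α) k hβ hβfix
  refine ⟨e.symm w, (hW w).mp hwW, fun n => ?_⟩
  have h1 := hw (e n)
  rw [hβapp] at h1
  have h2 : e.symm (e (α (e.symm (e n)))) = e.symm (w * e n * w⁻¹) := congrArg e.symm h1
  simpa using h2

end Cfsg.Agent.Lib.Helper6.JRP2c
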