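import Mathlib
import Cfsg.Agent.Lib.Helper6.JTb

set_option autoImplicit false
set_option linter.unusedSectionVars false
set_option linter.unusedVariables false
set_option linter.unusedSimpArgs false

/-! The induction skeleton: realizing Jordan types from single blocks and doubled blocks. -/

namespace Cfsg.Agent.Lib.Helper6.JT

open Matrix Module

variable (F : Type*) [Field F]

/-- closure properties of a realizability predicate on square matrices -/
structure Closed (P : ∀ (I : Type) [Fintype I] [DecidableEq I], Matrix I I F → Prop) : Prop where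
  reindex : ∀ (I I' : Type) [Fintype I] [DecidableEq I] [Fintype I'] [DecidableEq I']
    (e : I ≃ I') (U : Matrix I I F), P I U → P I' (Matrix.reindex e e U)
  blocks : ∀ (I₁ I₂ : Type) [Fintype I₁] [DecidableEq I₁] [Fintype I₂] [DecidableEq I₂]
    (U₁ : Matrix I₁ I₁ F) (U₂ : Matrix I₂ I₂ F), P I₁ U₁ → P I₂ U₂ →
      P (I₁ ⊕ I₂) (Matrix.fromBlocks U₁ 0 0 U₂)
  empty : ∀ (I : Type) [Fintype I] [DecidableEq I] [IsEmpty I] (U : Matrix I I F), P I U

variable {F}

theorem card_split {ι : Type} [Fintype ι] [DecidableEq ι] (d : ι → ℕ) (p : ι → Prop)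
    [DecidablePred p] (j : ℕ) :
    Fintype.card {k : {k // ¬ p k} // d k.1 = j} + Fintype.card {k // p k ∧ d k = j} =
      Fintype.card {k // d k = j} := by
  rw [Fintype.card_congr (Equiv.subtypeSubtypeEquivSubtypeInter (fun k => ¬ p k)
    (fun k => d k = j))]
  rw [Fintype.card_subtype, Fintype.card_subtype, Fintype.card_subtype]
  rw [← Finset.card_filter_add_card_filter_not (s := Finset.univ.filter (fun k => d k = j)) p,
    Finset.filter_filter, Finset.filter_filter, add_comm]
  congr 2 <;> ext k <;> simp [and_comm]

theorem reindex_sumCongr {I₁ I₂ I₁' I₂' : Type} [Fintype I₁] [DecidableEq I₁] [Fintype I₂]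
    [DecidableEq I₂] [Fintype I₁'] [DecidableEq I₁'] [Fintype I₂'] [DecidableEq I₂']
    (e₁ : I₁ ≃ I₁') (e₂ : I₂ ≃ I₂') (X : Matrix I₁ I₁ F) (Y : Matrix I₂ I₂ F) :
    Matrix.reindex (Equiv.sumCongr e₁ e₂) (Equiv.sumCongr e₁ e₂) (Matrix.fromBlocks X 0 0 Y) =
      Matrix.fromBlocks (Matrix.reindex e₁ e₁ X) 0 0 (Matrix.reindex e₂ e₂ Y) := by
  ext r c
  rcases r with r | r <;> rcases c with c | c <;> simp

theorem eq_reindex_symm {I I' : Type} [Fintype I] [DecidableEq I] [Fintype I'] [DecidableEq I']
    (e : I ≃ I') {U : Matrix I I F} {U' : Matrix I' I' F} (h : Matrix.reindex e e U = U') :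
    U = Matrix.reindex e.symm e.symm U' := by
  rw [← h]
  ext r c
  simp

/-- the induction skeleton -/
theorem realize {P : ∀ (I : Type) [Fintype I] [DecidableEq I], Matrix I I F → Prop}
    (hP : Closed F P) (good : ℕ → Prop)
    (hgood : ∀ n, good n → P (Fin n) (Cfsg.jordanBlock n F))
    (hpair : ∀ n, P (Fin n ⊕ Fin n)
      (Matrix.fromBlocks (Cfsg.jordanBlock n F) 0 0 (Cfsg.jordanBlock n F))) :
    ∀ (N : ℕ) (ι : Type) [Fintype ι] [DecidableEq ι] (d : ι → ℕ), Fintype.card ι = N →
      (∀ j, ¬ good j → Even (Fintype.card {k // d k = j})) →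
      P ((k : ι) × Fin (d k)) (JTg F ι d) := by
  intro N
  induction N using Nat.strong_induction_on with
  | _ N ih =>
    intro ι _ _ d hN hev
    by_cases hE : IsEmpty ι
    · have : IsEmpty ((k : ι) × Fin (d k)) := ⟨fun x => hE.false x.1⟩
      exact hP.empty _ _
    · rw [not_isEmpty_iff] at hE
      obtain ⟨k₀⟩ := hE
      have hpairs : ∀ a b : ℕ, a = b → P (Fin a ⊕ Fin b)
          (Matrix.fromBlocks (Cfsg.jordanBlock a F) 0 0 (Cfsg.jordanBlock b F)) := by
        rintro a _ rfl
        exact hpair a
      by_cases hg : good (d k₀)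
      · -- split off the block `k₀`
        have hA : P ((k : {k // k = k₀}) × Fin (d k)) (JTg F {k // k = k₀} (fun k => d k)) := by
          let _ : Unique {k // k = k₀} := ⟨⟨⟨k₀, rfl⟩⟩, fun x => Subtype.ext x.2⟩
          rw [eq_reindex_symm _ (reindex_unique F (fun k : {k // k = k₀} => d k))]
          exact hP.reindex _ _ _ _ (hgood _ hg)
        have hcard : Fintype.card {k // ¬ k = k₀} < N := by
          rw [Fintype.card_subtype_compl, Fintype.card_subtype_eq, hN]
          have : 0 < Fintype.card ι := Fintype.card_pos_iff.mpr ⟨k₀⟩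
          omega
        have hD : P ((k : {k // ¬ k = k₀}) × Fin (d k)) (JTg F {k // ¬ k = k₀} (fun k => d k)) := by
          apply ih _ hcard _ _ rfl
          intro j hj
          have h1 := card_split d (fun k => k = k₀) j
          have h2 : Fintype.card {k // k = k₀ ∧ d k = j} = 0 := by
            rw [Fintype.card_eq_zero_iff]
            refine ⟨fun x => hj ?_⟩
            rw [← x.2.2, x.2.1]
            exact hg
          rw [h2, add_zero] at h1
          rw [h1]
          exact hev j hj
        rw [eq_reindex_symm _ (reindex_split F d (fun k => k = k₀))]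
        exact hP.reindex _ _ _ _ (hP.blocks _ _ _ _ hA hD)
      · -- find a partner block
        have h2 : 1 < Fintype.card {k // d k = d k₀} := by
          obtain ⟨c, hc⟩ := hev (d k₀) hg
          have : 0 < Fintype.card {k // d k = d k₀} := Fintype.card_pos_iff.mpr ⟨⟨k₀, rfl⟩⟩
          omega
        obtain ⟨⟨k₁, hk₁⟩, hne⟩ := Fintype.exists_ne_of_one_lt_card h2 ⟨k₀, rfl⟩
        have hne' : k₁ ≠ k₀ := fun h => hne (Subtype.ext h)
        have hA : P ((k : {k // k = k₀ ∨ k = k₁}) × Fin (d k))
            (JTg F {k // k = k₀ ∨ k = k₁} (fun k => d k)) := by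
          rw [eq_reindex_symm _ (reindex_split F (fun k : {k // k = k₀ ∨ k = k₁} => d k)
            (fun k => k.1 = k₀))]
          apply hP.reindex
          let _ : Unique {k : {k // k = k₀ ∨ k = k₁} // k.1 = k₀} :=
            ⟨⟨⟨⟨k₀, Or.inl rfl⟩, rfl⟩⟩, fun x => Subtype.ext (Subtype.ext x.2)⟩
          let _ : Unique {k : {k // k = k₀ ∨ k = k₁} // ¬ k.1 = k₀} :=
            ⟨⟨⟨⟨k₁, Or.inr rfl⟩, hne'⟩⟩, fun x => Subtype.ext (Subtype.ext
              (x.1.2.resolve_left x.2))⟩
          rw [eq_reindex_symm _ (reindex_unique F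
              (fun k : {k : {k // k = k₀ ∨ k = k₁} // k.1 = k₀} => d k)),
            eq_reindex_symm _ (reindex_unique F
              (fun k : {k : {k // k = k₀ ∨ k = k₁} // ¬ k.1 = k₀} => d k)),
            ← reindex_sumCongr]
          apply hP.reindex
          exact hpairs _ _ hk₁.symm
        have hcard : Fintype.card {k // ¬ (k = k₀ ∨ k = k₁)} < N := by
          rw [Fintype.card_subtype_compl, hN]
          have : 0 < Fintype.card {k // k = k₀ ∨ k = k₁} :=
            Fintype.card_pos_iff.mpr ⟨⟨k₀, Or.inl rfl⟩⟩
          have : Fintype.card {k // k = k₀ ∨ k = k₁} ≤ Fintype.card ι :=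
            Fintype.card_subtype_le _
          omega
        have hD : P ((k : {k // ¬ (k = k₀ ∨ k = k₁)}) × Fin (d k))
            (JTg F {k // ¬ (k = k₀ ∨ k = k₁)} (fun k => d k)) := by
          apply ih _ hcard _ _ rfl
          intro j hj
          have h1 := card_split d (fun k => k = k₀ ∨ k = k₁) j
          have h3 : Even (Fintype.card {k // (k = k₀ ∨ k = k₁) ∧ d k = j}) := by
            by_cases hjn : j = d k₀
            · have : Fintype.card {k // (k = k₀ ∨ k = k₁) ∧ d k = j} = 2 := by
                rw [Fintype.card_subtype]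
                have : (Finset.univ.filter (fun k => (k = k₀ ∨ k = k₁) ∧ d k = j)) = {k₀, k₁} := by
                  ext k
                  simp only [Finset.mem_filter, Finset.mem_univ, true_and, Finset.mem_insert,
                    Finset.mem_singleton]
                  constructor
                  · intro h; exact h.1
                  · intro h
                    refine ⟨h, ?_⟩
                    rcases h with h | h
                    · rw [h, hjn]
                    · rw [h, hk₁, hjn]
                rw [this, Finset.card_pair hne'.symm]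
              rw [this]
              exact ⟨1, rfl⟩
            · have : Fintype.card {k // (k = k₀ ∨ k = k₁) ∧ d k = j} = 0 := by
                rw [Fintype.card_eq_zero_iff]
                refine ⟨fun x => hjn ?_⟩
                rcases x.2.1 with h | h
                · rw [← x.2.2, h]
                · rw [← x.2.2, h, hk₁]
              rw [this]
              exact ⟨0, rfl⟩
          have h4 := hev j hj
          rw [← h1] at h4
          exact (Nat.even_add.mp h4).mpr h3
        rw [eq_reindex_symm _ (reindex_split F d (fun k => k = k₀ ∨ k = k₁))]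
        exact hP.reindex _ _ _ _ (hP.blocks _ _ _ _ hA hD)

end Cfsg.Agent.Lib.Helper6.JT
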