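import Mathlib
import Cfsg.Agent.Lib.Helper5.RegularNilpotent2

set_option autoImplicit false
set_option linter.unusedSectionVars false
set_option linter.unusedVariables false
set_option linter.unusedSimpArgs false

/-! Regular nilpotent matrices: the commutant consists of the polynomials in the matrix. -/

namespace Cfsg.Agent.Lib.Helper6.RegUni

open Matrix Module Cfsg.Agent.Lib.Helper5

variable {F : Type*} [Field F] {I : Type*} [Fintype I] [DecidableEq I]

/-- the polynomial in `y` with coefficient sequence `c`, truncated at degree `n` -/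
def P (y : Matrix I I F) (n : ℕ) (c : ℕ → F) : Matrix I I F :=
  ∑ i ∈ Finset.range n, c i • y ^ i

theorem pow_comm_of_comm {g y : Matrix I I F} (hg : g * y = y * g) (k : ℕ) :
    g * y ^ k = y ^ k * g := by
  induction k with
  | zero => simp
  | succ k ih =>
    rw [pow_succ, ← Matrix.mul_assoc, ih, Matrix.mul_assoc, hg, ← Matrix.mul_assoc]

theorem comm_P {g y : Matrix I I F} (hg : g * y = y * g) (n : ℕ) (c : ℕ → F) :
    g * P y n c = P y n c * g := by
  unfold P
  rw [Finset.mul_sum, Finset.sum_mul]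
  apply Finset.sum_congr rfl
  intro i _
  rw [Matrix.mul_smul, Matrix.smul_mul, pow_comm_of_comm hg]

theorem P_comm (y : Matrix I I F) (n : ℕ) (c : ℕ → F) : P y n c * y = y * P y n c :=
  (comm_P rfl n c).symm

theorem P_comm_P (y : Matrix I I F) (n n' : ℕ) (c c' : ℕ → F) :
    P y n c * P y n' c' = P y n' c' * P y n c :=
  comm_P (P_comm y n c) n' c'

theorem P_mulVec (y : Matrix I I F) (n : ℕ) (c : ℕ → F) (v : I → F) :
    P y n c *ᵥ v = ∑ i ∈ Finset.range n, c i • (y ^ i *ᵥ v) := by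
  unfold P
  rw [Matrix.sum_mulVec]
  apply Finset.sum_congr rfl
  intro i _
  rw [Matrix.smul_mulVec]

theorem P_add (y : Matrix I I F) (n : ℕ) (c c' : ℕ → F) :
    P y n (fun i => c i + c' i) = P y n c + P y n c' := by
  unfold P
  rw [← Finset.sum_add_distrib]
  apply Finset.sum_congr rfl
  intro i _
  rw [add_smul]

theorem P_neg (y : Matrix I I F) (n : ℕ) (c : ℕ → F) :
    P y n (fun i => - c i) = - P y n c := by
  unfold P
  rw [← Finset.sum_neg_distrib]
  apply Finset.sum_congr rfl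
  intro i _
  rw [neg_smul]

theorem P_sub (y : Matrix I I F) (n : ℕ) (c c' : ℕ → F) :
    P y n (fun i => c i - c' i) = P y n c - P y n c' := by
  unfold P
  rw [← Finset.sum_sub_distrib]
  apply Finset.sum_congr rfl
  intro i _
  rw [sub_smul]

theorem P_congr (y : Matrix I I F) (n : ℕ) (c c' : ℕ → F) (h : ∀ i < n, c i = c' i) :
    P y n c = P y n c' := by
  unfold P
  apply Finset.sum_congr rfl
  intro i hi
  rw [h i (Finset.mem_range.mp hi)]

/-- the identity is the polynomial `1` -/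
theorem P_one (y : Matrix I I F) (n : ℕ) (hn : 1 ≤ n) :
    P y n (fun i => if i = 0 then 1 else 0) = 1 := by
  unfold P
  rw [Finset.sum_eq_single 0]
  · simp
  · intro i _ hi
    simp [hi]
  · intro h
    exact absurd (Finset.mem_range.mpr (by omega)) h

section reg

variable {y : Matrix I I F} {n : ℕ} (hn : Fintype.card I = n) (hy : y ^ n = 0) {v : I → F}
  (hv : y ^ (n - 1) *ᵥ v ≠ 0)
include hn hy hv

theorem n_pos : 1 ≤ n := by
  by_contra h
  have h0 : n = 0 := by omega
  subst h0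
  have : IsEmpty I := Fintype.card_eq_zero_iff.mp hn
  apply hv
  funext i
  exact isEmptyElim i

theorem toLin_pow (k : ℕ) (w : I → F) :
    ((Matrix.toLinAlgEquiv' (R := F) (n := I) y) ^ k) w = y ^ k *ᵥ w := by
  rw [← map_pow, Matrix.toLinAlgEquiv'_apply]

theorem indep_fin : LinearIndependent F (fun i : Fin n => y ^ (i : ℕ) *ᵥ v) := by
  have hfn : (Matrix.toLinAlgEquiv' (R := F) (n := I) y) ^ n = 0 := by
    rw [← map_pow, hy, map_zero]
  have h1 := linearIndependent_pow (Matrix.toLinAlgEquiv' (R := F) (n := I) y) n hfn v (by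
    rw [toLin_pow hn hy hv]
    exact hv)
  have h2 : (fun i : Fin n => y ^ (i : ℕ) *ᵥ v) =
      fun i : Fin n => ((Matrix.toLinAlgEquiv' (R := F) (n := I) y) ^ (i : ℕ)) v := by
    funext i
    rw [toLin_pow hn hy hv]
  rw [h2]
  exact h1

theorem indep (c : ℕ → F) (h : ∑ i ∈ Finset.range n, c i • (y ^ i *ᵥ v) = 0) :
    ∀ i < n, c i = 0 := by
  intro i hi
  have h1 := Fintype.linearIndependent_iff.mp (indep_fin hn hy hv) (fun j : Fin n => c j) (by
    rw [← Finset.sum_range (fun i => c i • (y ^ i *ᵥ v))]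
    exact h) ⟨i, hi⟩
  exact h1

theorem span (w : I → F) : ∃ c : ℕ → F, w = ∑ i ∈ Finset.range n, c i • (y ^ i *ᵥ v) := by
  have hpos := n_pos hn hy hv
  have : Nonempty (Fin n) := ⟨⟨0, by omega⟩⟩
  let b : Basis (Fin n) F (I → F) :=
    basisOfLinearIndependentOfCardEqFinrank (indep_fin hn hy hv) (by
      rw [Fintype.card_fin, Module.finrank_fintype_fun_eq_card, hn])
  have hb : ∀ i, b i = y ^ (i : ℕ) *ᵥ v := by
    intro i
    simp [b]
  refine ⟨fun i => if h : i < n then b.repr w ⟨i, h⟩ else 0, ?_⟩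
  rw [Finset.sum_range (fun i => (if h : i < n then b.repr w ⟨i, h⟩ else 0) • (y ^ i *ᵥ v))]
  conv_lhs => rw [← b.sum_repr w]
  apply Finset.sum_congr rfl
  intro i _
  rw [hb, dif_pos i.isLt]

theorem ext_of_comm {g g' : Matrix I I F} (hg : g * y = y * g) (hg' : g' * y = y * g')
    (h : g *ᵥ v = g' *ᵥ v) : g = g' := by
  apply Matrix.mulVec_injective
  funext w
  obtain ⟨c, rfl⟩ := span hn hy hv w
  rw [Matrix.mulVec_sum, Matrix.mulVec_sum]
  apply Finset.sum_congr rfl
  intro i _
  rw [Matrix.mulVec_smul, Matrix.mulVec_smul, Matrix.mulVec_mulVec, Matrix.mulVec_mulVec,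
    pow_comm_of_comm hg, pow_comm_of_comm hg', ← Matrix.mulVec_mulVec, ← Matrix.mulVec_mulVec, h]

theorem exists_P {g : Matrix I I F} (hg : g * y = y * g) : ∃ c : ℕ → F, g = P y n c := by
  obtain ⟨c, hc⟩ := span hn hy hv (g *ᵥ v)
  refine ⟨c, ext_of_comm hn hy hv hg (P_comm y n c) ?_⟩
  rw [P_mulVec, hc]

theorem P_eq_zero {c : ℕ → F} (h : P y n c = 0) : ∀ i < n, c i = 0 := by
  apply indep hn hy hv
  rw [← P_mulVec, h, Matrix.zero_mulVec]

theorem P_inj {c c' : ℕ → F} (h : P y n c = P y n c') : ∀ i < n, c i = c' i := by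
  intro i hi
  have h1 : P y n (fun i => c i - c' i) = 0 := by rw [P_sub, h, sub_self]
  have h2 := P_eq_zero hn hy hv h1 i hi
  exact sub_eq_zero.mp h2

/-- the constant coefficient is the eigenvalue on the socle vector -/
theorem P_top (c : ℕ → F) : P y n c *ᵥ (y ^ (n - 1) *ᵥ v) = c 0 • (y ^ (n - 1) *ᵥ v) := by
  have hpos := n_pos hn hy hv
  rw [P_mulVec, Finset.sum_eq_single 0]
  · simp
  · intro i hi hi0
    rw [Matrix.mulVec_mulVec, ← pow_add]
    obtain ⟨e, he⟩ : ∃ e, i + (n - 1) = n + e := ⟨i - 1, by omega⟩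
    rw [he, pow_add, hy, Matrix.zero_mul, Matrix.zero_mulVec, smul_zero]
  · intro h
    exact absurd (Finset.mem_range.mpr (by omega)) h

/-- the nilpotent part of a polynomial -/
theorem P_split (c : ℕ → F) : ∃ w : Matrix I I F, w * y = y * w ∧ P y n c = c 0 • 1 + y * w := by
  have hpos := n_pos hn hy hv
  obtain ⟨k, rfl⟩ : ∃ k, n = k + 1 := ⟨n - 1, by omega⟩
  refine ⟨P y k (fun i => c (i + 1)), P_comm y k _, ?_⟩
  unfold P
  rw [Finset.sum_range_succ', pow_zero, add_comm, Finset.mul_sum]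
  congr 1
  apply Finset.sum_congr rfl
  intro i _
  rw [Matrix.mul_smul, pow_succ']

theorem nilpotent_of_zero (c : ℕ → F) (h0 : c 0 = 0) : (P y n c) ^ n = 0 := by
  obtain ⟨w, hw, hP⟩ := P_split hn hy hv c
  rw [hP, h0, zero_smul, zero_add]
  have hc : Commute y w := hw.symm
  rw [hc.mul_pow, hy, Matrix.zero_mul]

end reg

end Cfsg.Agent.Lib.Helper6.RegUni
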