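import Mathlib
import Cfsg.Agent.Lib.Helper6.RegUni1

set_option autoImplicit false
set_option linter.unusedSectionVars false
set_option linter.unusedVariables false
set_option linter.unusedSimpArgs false

/-! The Cayley transform for matrices, and the symplectic adjoint of polynomials in a skew
matrix. -/

namespace Cfsg.Agent.Lib.Helper6.RegUni

open Matrix Module

variable {F : Type*} [Field F] {I : Type*} [Fintype I] [DecidableEq I]

/-- the Cayley transform `(1 - a)(1 + a)⁻¹ = 2(1 + a)⁻¹ - 1` -/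
noncomputable def cay (a : Matrix I I F) : Matrix I I F := (2 : F) • (1 + a)⁻¹ - 1

theorem cancel_right {A B U : Matrix I I F} (hU : IsUnit U.det) (h : A * U = B * U) : A = B := by
  have h1 := congrArg (fun X => X * U⁻¹) h
  simp only [Matrix.mul_assoc, Matrix.mul_nonsing_inv U hU, Matrix.mul_one] at h1
  exact h1

theorem cancel_left {A B U : Matrix I I F} (hU : IsUnit U.det) (h : U * A = U * B) : A = B := by
  have h1 := congrArg (fun X => U⁻¹ * X) h
  simp only [← Matrix.mul_assoc, Matrix.nonsing_inv_mul U hU, Matrix.one_mul] at h1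
  exact h1

theorem cay_mul (a : Matrix I I F) (hu : IsUnit (1 + a).det) : cay a * (1 + a) = 1 - a := by
  unfold cay
  rw [Matrix.sub_mul, Matrix.smul_mul, Matrix.nonsing_inv_mul _ hu, Matrix.one_mul]
  rw [show (2 : F) • (1 : Matrix I I F) = 1 + 1 by rw [two_smul]]
  abel

theorem mul_cay (a : Matrix I I F) (hu : IsUnit (1 + a).det) : (1 + a) * cay a = 1 - a := by
  unfold cay
  rw [Matrix.mul_sub, Matrix.mul_smul, Matrix.mul_nonsing_inv _ hu, Matrix.mul_one]
  rw [show (2 : F) • (1 : Matrix I I F) = 1 + 1 by rw [two_smul]]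
  abel

theorem one_add_cay (a : Matrix I I F) : 1 + cay a = (2 : F) • (1 + a)⁻¹ := by
  unfold cay
  abel

theorem isUnit_one_add_cay (h2 : (2 : F) ≠ 0) (a : Matrix I I F) (hu : IsUnit (1 + a).det) :
    IsUnit (1 + cay a).det := by
  rw [one_add_cay, Matrix.det_smul]
  apply IsUnit.mul
  · exact (isUnit_iff_ne_zero.mpr h2).pow _
  · rw [Matrix.det_nonsing_inv]
    exact Ring.inverse_unit hu.unit ▸ (hu.unit⁻¹).isUnit

theorem cay_cay (h2 : (2 : F) ≠ 0) (a : Matrix I I F) (hu : IsUnit (1 + a).det) :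
    cay (cay a) = a := by
  have h1 : (1 + cay a)⁻¹ = (2 : F)⁻¹ • (1 + a) := by
    apply Matrix.inv_eq_right_inv
    rw [one_add_cay, Matrix.smul_mul, Matrix.mul_smul, smul_smul, mul_inv_cancel₀ h2, one_smul,
      Matrix.nonsing_inv_mul _ hu]
  unfold cay at h1 ⊢
  rw [h1, smul_smul, mul_inv_cancel₀ h2, one_smul]
  abel

theorem comm_inv {g h : Matrix I I F} (hh : IsUnit h.det) (hg : g * h = h * g) :
    g * h⁻¹ = h⁻¹ * g := by
  apply cancel_right hh
  rw [Matrix.mul_assoc, Matrix.nonsing_inv_mul _ hh, Matrix.mul_one, Matrix.mul_assoc, hg,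
    ← Matrix.mul_assoc, Matrix.nonsing_inv_mul _ hh, Matrix.one_mul]

theorem cay_comm {g a : Matrix I I F} (hu : IsUnit (1 + a).det) (hg : g * a = a * g) :
    g * cay a = cay a * g := by
  have h1 : g * (1 + a) = (1 + a) * g := by
    rw [Matrix.mul_add, Matrix.add_mul, hg, Matrix.mul_one, Matrix.one_mul]
  have h2 := comm_inv hu h1
  unfold cay
  rw [Matrix.mul_sub, Matrix.sub_mul, Matrix.mul_smul, Matrix.smul_mul, h2, Matrix.mul_one,
    Matrix.one_mul]

theorem cay_mulVec_fixed (h2 : (2 : F) ≠ 0) {a : Matrix I I F} (hu : IsUnit (1 + a).det)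
    {x : I → F} (hx : a *ᵥ x = 0) : cay a *ᵥ x = x := by
  have h1 : (1 + a) *ᵥ x = x := by rw [Matrix.add_mulVec, Matrix.one_mulVec, hx, add_zero]
  have h3 : (1 + a)⁻¹ *ᵥ x = x := by
    conv_lhs => rw [← h1]
    rw [Matrix.mulVec_mulVec, Matrix.nonsing_inv_mul _ hu, Matrix.one_mulVec]
  unfold cay
  rw [Matrix.sub_mulVec, Matrix.smul_mulVec, h3, Matrix.one_mulVec, two_smul]
  abel

section symp

variable {m : ℕ}

local notation "JJ" => Matrix.J (Fin m) F

theorem J_cancel {A B : Matrix (Fin m ⊕ Fin m) (Fin m ⊕ Fin m) F} (h : JJ * A = JJ * B) :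
    A = B := by
  have h1 := congrArg (fun X => -(JJ * X)) h
  simp only [← Matrix.mul_assoc, Matrix.J_squared, Matrix.neg_mul, Matrix.one_mul, neg_neg] at h1
  exact h1

theorem skew_pow {y : Matrix (Fin m ⊕ Fin m) (Fin m ⊕ Fin m) F} (hJ : yᵀ * JJ = -(JJ * y))
    (k : ℕ) : (y ^ k)ᵀ * JJ = JJ * ((-1 : F) ^ k • y ^ k) := by
  induction k with
  | zero => simp
  | succ k ih =>
    have e1 : (y ^ (k + 1))ᵀ * JJ = -((-1 : F) ^ k • (JJ * y ^ (k + 1))) := by
      rw [pow_succ, Matrix.transpose_mul, Matrix.mul_assoc, ih, ← Matrix.mul_assoc, hJ,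
        Matrix.neg_mul, Matrix.mul_smul, Matrix.mul_assoc, ← pow_succ', ← pow_succ]
    rw [e1, Matrix.mul_smul, pow_succ (-1 : F), mul_neg_one, neg_smul]

theorem skew_P {y : Matrix (Fin m ⊕ Fin m) (Fin m ⊕ Fin m) F} (hJ : yᵀ * JJ = -(JJ * y))
    (n : ℕ) (c : ℕ → F) :
    (P y n c)ᵀ * JJ = JJ * P y n (fun i => (-1) ^ i * c i) := by
  unfold P
  rw [Matrix.transpose_sum, Finset.sum_mul, Finset.mul_sum]
  apply Finset.sum_congr rfl
  intro i _
  rw [Matrix.transpose_smul, Matrix.smul_mul, skew_pow hJ, Matrix.mul_smul, Matrix.mul_smul,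
    smul_smul, mul_comm]

theorem skew_add_sub {z : Matrix (Fin m ⊕ Fin m) (Fin m ⊕ Fin m) F} (hz : zᵀ * JJ = -(JJ * z)) :
    (1 + z)ᵀ * JJ = JJ * (1 - z) ∧ (1 - z)ᵀ * JJ = JJ * (1 + z) := by
  constructor
  · rw [Matrix.transpose_add, Matrix.transpose_one, Matrix.add_mul, hz, Matrix.one_mul,
      Matrix.mul_sub, Matrix.mul_one]
    abel
  · rw [Matrix.transpose_sub, Matrix.transpose_one, Matrix.sub_mul, hz, Matrix.one_mul,
      Matrix.mul_add, Matrix.mul_one]
    abel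

/-- the Cayley transform of a skew matrix is symplectic -/
theorem cay_symp {z : Matrix (Fin m ⊕ Fin m) (Fin m ⊕ Fin m) F} (hz : zᵀ * JJ = -(JJ * z))
    (hu : IsUnit (1 + z).det) : (cay z)ᵀ * JJ * cay z = JJ := by
  obtain ⟨h1, h2⟩ := skew_add_sub hz
  have hut : IsUnit ((1 + z)ᵀ).det := by rw [Matrix.det_transpose]; exact hu
  apply cancel_left hut
  apply cancel_right hu
  have e1 : (1 + z)ᵀ * ((cay z)ᵀ * JJ * cay z) * (1 + z) =
      (cay z * (1 + z))ᵀ * JJ * (cay z * (1 + z)) := by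
    rw [Matrix.transpose_mul]
    simp only [Matrix.mul_assoc]
  rw [e1, cay_mul z hu, h2, h1, Matrix.mul_assoc, Matrix.mul_assoc]
  congr 1
  noncomm_ring

/-- the Cayley transform of a symplectic matrix is skew -/
theorem cay_skew {g : Matrix (Fin m ⊕ Fin m) (Fin m ⊕ Fin m) F} (hg : gᵀ * JJ * g = JJ)
    (hu : IsUnit (1 + g).det) : (cay g)ᵀ * JJ = -(JJ * cay g) := by
  apply cancel_right hu
  have h1 : (cay g)ᵀ * (1 + g)ᵀ = (1 - g)ᵀ := by
    rw [← Matrix.transpose_mul, mul_cay g hu]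
  have h2 : (1 + g)ᵀ * JJ * g = JJ * (1 + g) := by
    rw [Matrix.transpose_add, Matrix.transpose_one, Matrix.add_mul, Matrix.add_mul, hg,
      Matrix.one_mul, Matrix.mul_add, Matrix.mul_one]
    abel
  have h3 : (1 - g)ᵀ * JJ * g = -(JJ * (1 - g)) := by
    rw [Matrix.transpose_sub, Matrix.transpose_one, Matrix.sub_mul, Matrix.sub_mul, hg,
      Matrix.one_mul, Matrix.mul_sub, Matrix.mul_one]
    abel
  have h4 : (cay g)ᵀ * JJ * (1 + g) = (cay g)ᵀ * ((1 + g)ᵀ * JJ * g) := by rw [h2]; simp only [Matrix.mul_assoc]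
  rw [h4, ← Matrix.mul_assoc, ← Matrix.mul_assoc, h1, h3, Matrix.neg_mul, Matrix.mul_assoc,
    cay_mul g hu]

end symp

end Cfsg.Agent.Lib.Helper6.RegUni
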