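import Mathlib
import Cfsg.Agent.Lib.Helper6.RegUni2

set_option autoImplicit false
set_option linter.unusedSectionVars false
set_option linter.unusedVariables false
set_option linter.unusedSimpArgs false

/-! The symplectic matrices commuting with a regular nilpotent skew matrix. -/

namespace Cfsg.Agent.Lib.Helper6.RegUni

open Matrix Module

variable {F : Type*} [Field F] {m : ℕ}


/-- the skew matrices commuting with `y` -/
def sSet (y : (Matrix (Fin m ⊕ Fin m) (Fin m ⊕ Fin m) F)) : Set (Matrix (Fin m ⊕ Fin m) (Fin m ⊕ Fin m) F) := {z | z * y = y * z ∧ zᵀ * (Matrix.J (Fin m) F) = -((Matrix.J (Fin m) F) * z)}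

/-- the symplectic matrices commuting with `y` -/
def kSet (y : (Matrix (Fin m ⊕ Fin m) (Fin m ⊕ Fin m) F)) : Set (Matrix (Fin m ⊕ Fin m) (Fin m ⊕ Fin m) F) := {g | gᵀ * (Matrix.J (Fin m) F) * g = (Matrix.J (Fin m) F) ∧ g * y = y * g}

/-- the symplectic matrices commuting with `y` and fixing `x` -/
def kPlus (y : (Matrix (Fin m ⊕ Fin m) (Fin m ⊕ Fin m) F)) (x : Fin m ⊕ Fin m → F) : Set (Matrix (Fin m ⊕ Fin m) (Fin m ⊕ Fin m) F) := {g | g ∈ kSet y ∧ g *ᵥ x = x}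

theorem card_idx : Fintype.card (Fin m ⊕ Fin m) = 2 * m := by
  rw [Fintype.card_sum, Fintype.card_fin, two_mul]

section main

variable {y : (Matrix (Fin m ⊕ Fin m) (Fin m ⊕ Fin m) F)} {v : Fin m ⊕ Fin m → F} (h2 : (2 : F) ≠ 0) (hy : y ^ (2 * m) = 0)
  (hv : y ^ (2 * m - 1) *ᵥ v ≠ 0) (hJ : yᵀ * (Matrix.J (Fin m) F) = -((Matrix.J (Fin m) F) * y))
include h2 hy hv hJ

theorem s_coeff {z : (Matrix (Fin m ⊕ Fin m) (Fin m ⊕ Fin m) F)} (hz : z ∈ sSet y) :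
    ∃ c : ℕ → F, z = P y (2 * m) c ∧ ∀ i < 2 * m, Even i → c i = 0 := by
  obtain ⟨c, rfl⟩ := exists_P card_idx hy hv hz.1
  refine ⟨c, rfl, ?_⟩
  have h1 := hz.2
  rw [skew_P hJ, ← Matrix.mul_neg, ← P_neg] at h1
  have h3 := P_inj card_idx hy hv (J_cancel h1)
  intro i hi hev
  have h4 := h3 i hi
  simp only [hev.neg_one_pow, one_mul] at h4
  have h5 : (2 : F) * c i = 0 := by linear_combination h4
  rcases mul_eq_zero.mp h5 with h | h
  · exact absurd h h2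
  · exact h

theorem s_of_coeff (c : ℕ → F) (hc : ∀ i < 2 * m, Even i → c i = 0) :
    P y (2 * m) c ∈ sSet y := by
  refine ⟨P_comm y _ c, ?_⟩
  rw [skew_P hJ, ← Matrix.mul_neg, ← P_neg]
  congr 1
  apply P_congr
  intro i hi
  rcases Nat.even_or_odd i with hev | hodd
  · rw [hc i hi hev]; simp
  · rw [hodd.neg_one_pow]; simp

theorem top_ne : y ^ (2 * m - 1) *ᵥ v ≠ 0 := hv

theorem s_nil {z : (Matrix (Fin m ⊕ Fin m) (Fin m ⊕ Fin m) F)} (hz : z ∈ sSet y) : z ^ (2 * m) = 0 ∧ z *ᵥ (y ^ (2 * m - 1) *ᵥ v) = 0 := by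
  obtain ⟨c, rfl, hc⟩ := s_coeff h2 hy hv hJ hz
  have hpos := n_pos card_idx hy hv
  have h0 : c 0 = 0 := hc 0 (by omega) (by simp)
  refine ⟨nilpotent_of_zero card_idx hy hv c h0, ?_⟩
  rw [P_top card_idx hy hv, h0, zero_smul]

theorem s_unit {z : (Matrix (Fin m ⊕ Fin m) (Fin m ⊕ Fin m) F)} (hz : z ∈ sSet y) : IsUnit (1 + z).det := by
  rw [← Matrix.isUnit_iff_isUnit_det]
  exact IsNilpotent.isUnit_one_add ⟨2 * m, (s_nil h2 hy hv hJ hz).1⟩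

theorem k_coeff {g : (Matrix (Fin m ⊕ Fin m) (Fin m ⊕ Fin m) F)} (hg : g ∈ kSet y) :
    ∃ c : ℕ → F, g = P y (2 * m) c ∧ c 0 * c 0 = 1 := by
  obtain ⟨c, rfl⟩ := exists_P card_idx hy hv hg.2
  refine ⟨c, rfl, ?_⟩
  have h1 := hg.1
  rw [skew_P hJ, Matrix.mul_assoc] at h1
  have h3 : P y (2 * m) (fun i => (-1) ^ i * c i) * P y (2 * m) c = 1 := by
    apply J_cancel
    rw [h1, Matrix.mul_one]
  have h4 := congrArg (fun X => X *ᵥ (y ^ (2 * m - 1) *ᵥ v)) h3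
  simp only [← Matrix.mulVec_mulVec, P_top card_idx hy hv, Matrix.mulVec_smul,
    Matrix.one_mulVec, pow_zero, one_mul] at h4
  rw [smul_smul] at h4
  by_contra hne
  apply hv
  have h5 : (c 0 * c 0 - 1) • (y ^ (2 * m - 1) *ᵥ v) = 0 := by
    rw [sub_smul, h4, one_smul, sub_self]
  rcases smul_eq_zero.mp h5 with h | h
  · exact absurd (sub_eq_zero.mp h) hne
  · exact h

theorem kplus_coeff {g : (Matrix (Fin m ⊕ Fin m) (Fin m ⊕ Fin m) F)} (hg : g ∈ kPlus y (y ^ (2 * m - 1) *ᵥ v)) :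
    ∃ c : ℕ → F, g = P y (2 * m) c ∧ c 0 = 1 := by
  obtain ⟨c, rfl, -⟩ := k_coeff h2 hy hv hJ hg.1
  refine ⟨c, rfl, ?_⟩
  have h1 := hg.2
  rw [P_top card_idx hy hv] at h1
  by_contra hne
  apply hv
  have h5 : (c 0 - 1) • (y ^ (2 * m - 1) *ᵥ v) = 0 := by
    rw [sub_smul, h1, one_smul, sub_self]
  rcases smul_eq_zero.mp h5 with h | h
  · exact absurd (sub_eq_zero.mp h) hne
  · exact h

theorem kplus_unit {g : (Matrix (Fin m ⊕ Fin m) (Fin m ⊕ Fin m) F)} (hg : g ∈ kPlus y (y ^ (2 * m - 1) *ᵥ v)) :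
    IsUnit (1 + g).det := by
  obtain ⟨c, rfl, hc⟩ := kplus_coeff h2 hy hv hJ hg
  obtain ⟨w, hw, hP⟩ := P_split card_idx hy hv c
  rw [hP, hc, one_smul, ← add_assoc, ← Matrix.isUnit_iff_isUnit_det]
  have hnil : IsNilpotent (y * w) := by
    refine ⟨2 * m, ?_⟩
    have hcm : Commute y w := hw.symm
    rw [hcm.mul_pow, hy, Matrix.zero_mul]
  have hu : IsUnit ((1 : (Matrix (Fin m ⊕ Fin m) (Fin m ⊕ Fin m) F)) + 1) := by
    have : ((1 : (Matrix (Fin m ⊕ Fin m) (Fin m ⊕ Fin m) F)) + 1) = (2 : F) • (1 : (Matrix (Fin m ⊕ Fin m) (Fin m ⊕ Fin m) F)) := by rw [two_smul]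
    rw [this]
    rw [Matrix.isUnit_iff_isUnit_det, Matrix.det_smul, Matrix.det_one, mul_one]
    exact (isUnit_iff_ne_zero.mpr h2).pow _
  apply IsNilpotent.isUnit_add_left_of_commute hnil hu
  have : ((1 : (Matrix (Fin m ⊕ Fin m) (Fin m ⊕ Fin m) F)) + 1) = (2 : F) • (1 : (Matrix (Fin m ⊕ Fin m) (Fin m ⊕ Fin m) F)) := by rw [two_smul]
  rw [this]
  exact (Commute.one_right _).smul_right _

theorem cay_mem_s {g : (Matrix (Fin m ⊕ Fin m) (Fin m ⊕ Fin m) F)} (hg : g ∈ kPlus y (y ^ (2 * m - 1) *ᵥ v)) : cay g ∈ sSet y := by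
  have hu := kplus_unit h2 hy hv hJ hg
  refine ⟨?_, cay_skew hg.1.1 hu⟩
  exact (cay_comm hu hg.1.2.symm).symm

theorem cay_mem_kplus {z : (Matrix (Fin m ⊕ Fin m) (Fin m ⊕ Fin m) F)} (hz : z ∈ sSet y) :
    cay z ∈ kPlus y (y ^ (2 * m - 1) *ᵥ v) := by
  have hu := s_unit h2 hy hv hJ hz
  refine ⟨⟨cay_symp hz.2 hu, ?_⟩, cay_mulVec_fixed h2 hu (s_nil h2 hy hv hJ hz).2⟩
  exact (cay_comm hu hz.1.symm).symm

/-- the Cayley transform is a bijection between the two sets -/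
noncomputable def kplusEquiv : ↥(kPlus y (y ^ (2 * m - 1) *ᵥ v)) ≃ ↥(sSet y) where
  toFun g := ⟨cay g.1, cay_mem_s h2 hy hv hJ g.2⟩
  invFun z := ⟨cay z.1, cay_mem_kplus h2 hy hv hJ z.2⟩
  left_inv g := Subtype.ext (cay_cay h2 g.1 (kplus_unit h2 hy hv hJ g.2))
  right_inv z := Subtype.ext (cay_cay h2 z.1 (s_unit h2 hy hv hJ z.2))

end main

end Cfsg.Agent.Lib.Helper6.RegUni
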