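import Mathlib
import Cfsg.Agent.Lib.Helper6.RegUni3

set_option autoImplicit false
set_option linter.unusedSectionVars false
set_option linter.unusedVariables false
set_option linter.unusedSimpArgs false

/-! Counting the symplectic matrices commuting with a regular nilpotent skew matrix. -/

namespace Cfsg.Agent.Lib.Helper6.RegUni

open Matrix Module

variable {F : Type*} [Field F] {m : ℕ}

/-- the coefficient sequence supported on the odd indices -/
def cd (d : Fin m → F) : ℕ → F :=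
  fun i => if h : i % 2 = 1 ∧ i / 2 < m then d ⟨i / 2, h.2⟩ else 0

theorem cd_odd (d : Fin m → F) (j : Fin m) : cd d (2 * (j : ℕ) + 1) = d j := by
  unfold cd
  have h1 : (2 * (j : ℕ) + 1) % 2 = 1 := by omega
  have h2 : (2 * (j : ℕ) + 1) / 2 = (j : ℕ) := by omega
  rw [dif_pos ⟨h1, by rw [h2]; exact j.isLt⟩]
  congr 1
  exact Fin.ext h2

theorem cd_even (d : Fin m → F) (i : ℕ) (hi : Even i) : cd d i = 0 := by
  unfold cd
  rw [dif_neg]
  intro h
  have := Nat.even_iff.mp hi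
  omega

section main

variable {y : Matrix (Fin m ⊕ Fin m) (Fin m ⊕ Fin m) F} {v : Fin m ⊕ Fin m → F} (h2 : (2 : F) ≠ 0)
  (hy : y ^ (2 * m) = 0) (hv : y ^ (2 * m - 1) *ᵥ v ≠ 0)
  (hJ : yᵀ * (Matrix.J (Fin m) F) = -((Matrix.J (Fin m) F) * y))
include h2 hy hv hJ

/-- the skew matrices commuting with `y` are parametrised by `F^m` -/
noncomputable def sEquiv : (Fin m → F) ≃ ↥(sSet y) :=
  Equiv.ofBijective
    (fun d => ⟨P y (2 * m) (cd d), s_of_coeff h2 hy hv hJ (cd d) (fun i _ hev => cd_even d i hev)⟩)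
    (by
      constructor
      · intro d d' h
        have h1 : P y (2 * m) (cd d) = P y (2 * m) (cd d') := congrArg Subtype.val h
        have h3 := P_inj card_idx hy hv h1
        funext j
        have h4 := h3 (2 * (j : ℕ) + 1) (by have := j.isLt; omega)
        rw [cd_odd, cd_odd] at h4
        exact h4
      · rintro ⟨z, hz⟩
        obtain ⟨c, rfl, hc⟩ := s_coeff h2 hy hv hJ hz
        refine ⟨fun j => c (2 * (j : ℕ) + 1), ?_⟩
        apply Subtype.ext
        show P y (2 * m) (cd fun j : Fin m => c (2 * (j : ℕ) + 1)) = P y (2 * m) c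
        apply P_congr
        intro i hi
        rcases Nat.even_or_odd i with hev | hodd
        · rw [cd_even _ i hev, hc i hi hev]
        · have h5 : i % 2 = 1 := Nat.odd_iff.mp hodd
          have h6 : i / 2 < m := by omega
          have h7 : i = 2 * ((⟨i / 2, h6⟩ : Fin m) : ℕ) + 1 := by
            show i = 2 * (i / 2) + 1
            omega
          conv_lhs => rw [h7]
          rw [cd_odd]
          show c (2 * (i / 2) + 1) = c i
          congr 1
          omega)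

theorem card_s [Finite F] : Nat.card ↥(sSet y) = Nat.card F ^ m := by
  rw [← Nat.card_congr (sEquiv h2 hy hv hJ), Nat.card_fun, Nat.card_fin]

theorem k_top {g : Matrix (Fin m ⊕ Fin m) (Fin m ⊕ Fin m) F} (hg : g ∈ kSet y) :
    g *ᵥ (y ^ (2 * m - 1) *ᵥ v) = y ^ (2 * m - 1) *ᵥ v ∨
      g *ᵥ (y ^ (2 * m - 1) *ᵥ v) = -(y ^ (2 * m - 1) *ᵥ v) := by
  obtain ⟨c, rfl, hc⟩ := k_coeff h2 hy hv hJ hg
  rw [P_top card_idx hy hv]
  have h1 : (c 0 - 1) * (c 0 + 1) = 0 := by linear_combination hc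
  rcases mul_eq_zero.mp h1 with h | h
  · left
    rw [sub_eq_zero.mp h, one_smul]
  · right
    rw [eq_neg_of_add_eq_zero_left h, neg_smul, one_smul]

theorem neg_mem_k {g : Matrix (Fin m ⊕ Fin m) (Fin m ⊕ Fin m) F} (hg : g ∈ kSet y) :
    -g ∈ kSet y := by
  refine ⟨?_, ?_⟩
  · rw [Matrix.transpose_neg, Matrix.neg_mul, Matrix.neg_mul, Matrix.mul_neg, neg_neg]
    exact hg.1
  · rw [Matrix.neg_mul, Matrix.mul_neg, hg.2]

theorem top_ne_neg : y ^ (2 * m - 1) *ᵥ v ≠ -(y ^ (2 * m - 1) *ᵥ v) := by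
  intro h
  apply hv
  have h1 : (2 : F) • (y ^ (2 * m - 1) *ᵥ v) = 0 := by
    rw [two_smul]
    nth_rewrite 1 [h]
    exact neg_add_cancel _
  rcases smul_eq_zero.mp h1 with h3 | h3
  · exact absurd h3 h2
  · exact h3

/-- the elements not fixing the socle vector are the negatives of those fixing it -/
noncomputable def kNegEquiv :
    {g : ↥(kSet y) // ¬ (g.1 *ᵥ (y ^ (2 * m - 1) *ᵥ v) = y ^ (2 * m - 1) *ᵥ v)} ≃
      ↥(kPlus y (y ^ (2 * m - 1) *ᵥ v)) where
  toFun g := ⟨-g.1.1, neg_mem_k h2 hy hv hJ g.1.2, by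
    rcases k_top h2 hy hv hJ g.1.2 with h | h
    · exact absurd h g.2
    · rw [Matrix.neg_mulVec, h, neg_neg]⟩
  invFun g := ⟨⟨-g.1, neg_mem_k h2 hy hv hJ g.2.1⟩, by
    show ¬ ((-g.1) *ᵥ (y ^ (2 * m - 1) *ᵥ v) = y ^ (2 * m - 1) *ᵥ v)
    rw [Matrix.neg_mulVec, g.2.2]
    exact fun h => top_ne_neg h2 hy hv hJ h.symm⟩
  left_inv g := by
    apply Subtype.ext
    apply Subtype.ext
    show - -g.1.1 = g.1.1
    rw [neg_neg]
  right_inv g := by
    apply Subtype.ext
    show - -g.1 = g.1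
    rw [neg_neg]

/-- the elements fixing the socle vector -/
def kPosEquiv :
    {g : ↥(kSet y) // g.1 *ᵥ (y ^ (2 * m - 1) *ᵥ v) = y ^ (2 * m - 1) *ᵥ v} ≃
      ↥(kPlus y (y ^ (2 * m - 1) *ᵥ v)) where
  toFun g := ⟨g.1.1, g.1.2, g.2⟩
  invFun g := ⟨⟨g.1, g.2.1⟩, g.2.2⟩
  left_inv g := rfl
  right_inv g := rfl

theorem card_k [Finite F] : Nat.card ↥(kSet y) = 2 * Nat.card F ^ m := by
  classical
  have e := Equiv.sumCompl
    (fun g : ↥(kSet y) => g.1 *ᵥ (y ^ (2 * m - 1) *ᵥ v) = y ^ (2 * m - 1) *ᵥ v)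
  rw [← Nat.card_congr e, Nat.card_sum, Nat.card_congr (kPosEquiv (y := y) (v := v)),
    Nat.card_congr (kNegEquiv h2 hy hv hJ), Nat.card_congr (kplusEquiv h2 hy hv hJ),
    card_s h2 hy hv hJ, two_mul]

end main

end Cfsg.Agent.Lib.Helper6.RegUni
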