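import Mathlib
import Cfsg.Agent.Lib.Helper6.RegUni4

set_option autoImplicit false
set_option linter.unusedSectionVars false
set_option linter.unusedVariables false
set_option linter.unusedSimpArgs false

/-! The centraliser of a regular unipotent element of the symplectic group. -/

namespace Cfsg.Agent.Lib.Helper6.RegUni

open Matrix Module Cfsg.Agent.Lib.Helper5

variable {F : Type*} [Field F] {m : ℕ}

theorem two_ne_zero_of_odd_card [Fintype F] {q : ℕ} (hF : Fintype.card F = q) (hq : Odd q) :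
    (2 : F) ≠ 0 := by
  intro h
  obtain ⟨k, hk⟩ := hq
  have h1 : ((Fintype.card F : ℕ) : F) = 0 := Nat.cast_card_eq_zero F
  rw [hF, hk] at h1
  push_cast at h1
  rw [h, zero_mul, zero_add] at h1
  exact one_ne_zero h1

theorem isUnit_two_add_nil (h2 : (2 : F) ≠ 0) {I : Type*} [Fintype I] [DecidableEq I]
    {N : Matrix I I F} (hN : IsNilpotent N) : IsUnit (1 + (1 + N)).det := by
  rw [← add_assoc, ← Matrix.isUnit_iff_isUnit_det]
  have hu : IsUnit ((1 : Matrix I I F) + 1) := by
    have : ((1 : Matrix I I F) + 1) = (2 : F) • (1 : Matrix I I F) := by rw [two_smul]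
    rw [this, Matrix.isUnit_iff_isUnit_det, Matrix.det_smul, Matrix.det_one, mul_one]
    exact (isUnit_iff_ne_zero.mpr h2).pow _
  apply IsNilpotent.isUnit_add_left_of_commute hN hu
  have : ((1 : Matrix I I F) + 1) = (2 : F) • (1 : Matrix I I F) := by rw [two_smul]
  rw [this]
  exact (Commute.one_right _).smul_right _

/-- existence of a cyclic vector for a regular nilpotent matrix -/
theorem exists_cyclic_matrix {I : Type*} [Fintype I] [DecidableEq I] {n : ℕ}
    (hn : Fintype.card I = n) (hpos : 1 ≤ n) {N : Matrix I I F} (hnil : N ^ n = 0)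
    (hreg : N.rank = n - 1) : ∃ v : I → F, N ^ (n - 1) *ᵥ v ≠ 0 := by
  have hdim : finrank F (I → F) = n := by rw [Module.finrank_fintype_fun_eq_card, hn]
  have hfe : ∀ w, (Matrix.toLinAlgEquiv' (R := F) (n := I) N) w = N *ᵥ w := fun w =>
    Matrix.toLinAlgEquiv'_apply N w
  have hker : finrank F (LinearMap.ker (Matrix.toLinAlgEquiv' (R := F) (n := I) N)) ≤ 1 := by
    have h1 := LinearMap.finrank_range_add_finrank_ker (Matrix.toLinAlgEquiv' (R := F) (n := I) N)
    have h2 : finrank F (LinearMap.range (Matrix.toLinAlgEquiv' (R := F) (n := I) N)) = n - 1 := by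
      rw [← hreg]
      rfl
    rw [hdim] at h1
    omega
  have hfn : (Matrix.toLinAlgEquiv' (R := F) (n := I) N) ^ finrank F (I → F) = 0 := by
    rw [hdim, ← map_pow, hnil, map_zero]
  obtain ⟨v, hv⟩ := exists_cyclic _ hker hfn (by omega)
  refine ⟨v, ?_⟩
  rw [hdim, ← map_pow, Matrix.toLinAlgEquiv'_apply] at hv
  exact hv

theorem card_cent_regular_unipotent [Fintype F] {q : ℕ} (hF : Fintype.card F = q) (hq : Odd q)
    (hm : 1 ≤ m) (u : Matrix.symplecticGroup (Fin m) F)
    (hnil : ((u : Matrix (Fin m ⊕ Fin m) (Fin m ⊕ Fin m) F) - 1) ^ (2 * m) = 0)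
    (hreg : ((u : Matrix (Fin m ⊕ Fin m) (Fin m ⊕ Fin m) F) - 1).rank = 2 * m - 1) :
    Nat.card ↥(Subgroup.centralizer ({u} : Set ↥(Matrix.symplecticGroup (Fin m) F))) =
      2 * q ^ m := by
  have h2 := two_ne_zero_of_odd_card hF hq
  obtain ⟨A, hAdef⟩ : ∃ A : Matrix (Fin m ⊕ Fin m) (Fin m ⊕ Fin m) F, A = u.1 := ⟨_, rfl⟩
  have hA : Aᵀ * Matrix.J (Fin m) F * A = Matrix.J (Fin m) F := by
    rw [hAdef]; exact SymplecticGroup.mem_iff'.mp u.2
  rw [← hAdef] at hnil hreg
  have hAN : A = 1 + (A - 1) := by abel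
  have hB : IsUnit (1 + A).det := by
    rw [hAN]
    exact isUnit_two_add_nil h2 ⟨2 * m, hnil⟩
  -- the Cayley transform
  obtain ⟨y, hydef⟩ : ∃ y : Matrix (Fin m ⊕ Fin m) (Fin m ⊕ Fin m) F, y = cay A := ⟨_, rfl⟩
  have hyB : y * (1 + A) = -(A - 1) := by
    rw [hydef, cay_mul A hB]; abel
  have hyA : A * y = y * A := by rw [hydef]; exact cay_comm hB rfl
  have hcm : Commute y (1 + A) := by
    show y * (1 + A) = (1 + A) * y
    rw [Matrix.mul_add, Matrix.add_mul, hyA, Matrix.mul_one, Matrix.one_mul]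
  have hy : y ^ (2 * m) = 0 := by
    have h1 : y ^ (2 * m) * (1 + A) ^ (2 * m) = 0 := by
      rw [← hcm.mul_pow, hyB, Even.neg_pow ⟨m, by ring⟩, hnil]
    have hU : IsUnit ((1 + A) ^ (2 * m)).det := by
      rw [Matrix.det_pow]; exact hB.pow _
    apply cancel_right hU
    rw [h1, Matrix.zero_mul]
  obtain ⟨v₀, hv₀⟩ := exists_cyclic_matrix (card_idx (m := m)) (by omega) hnil hreg
  have hv : y ^ (2 * m - 1) *ᵥ ((1 + A) ^ (2 * m - 1) *ᵥ v₀) ≠ 0 := by
    rw [Matrix.mulVec_mulVec, ← hcm.mul_pow, hyB, Odd.neg_pow ⟨m - 1, by omega⟩,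
      Matrix.neg_mulVec]
    exact neg_ne_zero.mpr hv₀
  have hJ : yᵀ * Matrix.J (Fin m) F = -(Matrix.J (Fin m) F * y) := by
    rw [hydef]; exact cay_skew hA hB
  have hAy : A = cay y := by rw [hydef, cay_cay h2 A hB]
  have hyU : IsUnit (1 + y).det := by rw [hydef]; exact isUnit_one_add_cay h2 A hB
  -- the centraliser as a set of matrices
  have e : ↥(Subgroup.centralizer ({u} : Set ↥(Matrix.symplecticGroup (Fin m) F))) ≃
      ↥(kSet y) :=
    { toFun := fun g => ⟨g.1.1, SymplecticGroup.mem_iff'.mp g.1.2, by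
        have h1 := Subgroup.mem_centralizer_singleton_iff.mp g.2
        have h3 : g.1.1 * A = A * g.1.1 := by
          rw [hAdef]
          exact congrArg Subtype.val h1
        rw [hydef]
        exact cay_comm hB h3⟩
      invFun := fun g => ⟨⟨g.1, SymplecticGroup.mem_iff'.mpr g.2.1⟩, by
        rw [Subgroup.mem_centralizer_singleton_iff]
        apply Subtype.ext
        show g.1 * u.1 = u.1 * g.1
        rw [← hAdef, hAy]
        exact cay_comm hyU g.2.2⟩
      left_inv := fun g => rfl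
      right_inv := fun g => rfl }
  rw [Nat.card_congr e, card_k h2 hy hv hJ, Nat.card_eq_fintype_card, hF]

end Cfsg.Agent.Lib.Helper6.RegUni
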