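import Mathlib
import Cfsg.Agent.Lib.Helper6.RegUni5

set_option autoImplicit false
set_option linter.unusedSectionVars false
set_option linter.unusedVariables false
set_option linter.unusedSimpArgs false

/-! Regular unipotent elements of the symplectic group: the regular nilpotent skew matrix attached
to them, units and square roots in the commutant. -/

namespace Cfsg.Agent.Lib.Helper6.RegUni

open Matrix Module Cfsg.Agent.Lib.Helper5

variable {F : Type*} [Field F] {m : ℕ}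

/-- intertwining passes to the Cayley transforms -/
theorem cay_intertwine {I : Type*} [Fintype I] [DecidableEq I] {h a a' : Matrix I I F}
    (hu : IsUnit (1 + a).det) (hu' : IsUnit (1 + a').det) (hh : h * a = a' * h) :
    h * cay a = cay a' * h := by
  have h1 : h * (1 + a) = (1 + a') * h := by
    rw [Matrix.mul_add, Matrix.add_mul, hh, Matrix.mul_one, Matrix.one_mul]
  have h3 : h * (1 + a)⁻¹ = (1 + a')⁻¹ * h := by
    apply cancel_right hu
    apply cancel_left hu'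
    rw [Matrix.mul_assoc, Matrix.nonsing_inv_mul _ hu, Matrix.mul_one, ← Matrix.mul_assoc,
      ← Matrix.mul_assoc, Matrix.mul_nonsing_inv _ hu', Matrix.one_mul, h1]
  unfold cay
  rw [Matrix.mul_sub, Matrix.sub_mul, Matrix.mul_smul, Matrix.smul_mul, h3, Matrix.mul_one,
    Matrix.one_mul]

/-- the regular nilpotent skew matrix attached to a regular unipotent symplectic matrix -/
theorem reg_of_unipotent (h2 : (2 : F) ≠ 0) (hm : 1 ≤ m)
    {A : Matrix (Fin m ⊕ Fin m) (Fin m ⊕ Fin m) F}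
    (hA : Aᵀ * Matrix.J (Fin m) F * A = Matrix.J (Fin m) F)
    (hnil : (A - 1) ^ (2 * m) = 0) (hreg : (A - 1).rank = 2 * m - 1) :
    IsUnit (1 + A).det ∧ IsUnit (1 + cay A).det ∧ cay (cay A) = A ∧ (cay A) ^ (2 * m) = 0 ∧
      (∃ v, (cay A) ^ (2 * m - 1) *ᵥ v ≠ 0) ∧
      (cay A)ᵀ * Matrix.J (Fin m) F = -(Matrix.J (Fin m) F * cay A) := by
  have hAN : A = 1 + (A - 1) := by abel
  have hB : IsUnit (1 + A).det := by
    rw [hAN]
    exact isUnit_two_add_nil h2 ⟨2 * m, hnil⟩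
  obtain ⟨y, hydef⟩ : ∃ y : Matrix (Fin m ⊕ Fin m) (Fin m ⊕ Fin m) F, y = cay A := ⟨_, rfl⟩
  have hyB : y * (1 + A) = -(A - 1) := by
    rw [hydef, cay_mul A hB]; abel
  have hyA : A * y = y * A := by rw [hydef]; exact cay_comm hB rfl
  have hcm : Commute y (1 + A) := by
    show y * (1 + A) = (1 + A) * y
    rw [Matrix.mul_add, Matrix.add_mul, hyA, Matrix.mul_one, Matrix.one_mul]
  have hy : y ^ (2 * m) = 0 := by
    have h1 : y ^ (2 * m) * (1 + A) ^ (2 * m) = 0 := by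
      rw [← hcm.mul_pow, hyB, Even.neg_pow ⟨m, by ring⟩, hnil]
    have hU : IsUnit ((1 + A) ^ (2 * m)).det := by
      rw [Matrix.det_pow]; exact hB.pow _
    apply cancel_right hU
    rw [h1, Matrix.zero_mul]
  obtain ⟨v₀, hv₀⟩ := exists_cyclic_matrix (card_idx (m := m)) (by omega) hnil hreg
  have hv : y ^ (2 * m - 1) *ᵥ ((1 + A) ^ (2 * m - 1) *ᵥ v₀) ≠ 0 := by
    rw [Matrix.mulVec_mulVec, ← hcm.mul_pow, hyB, Odd.neg_pow ⟨m - 1, by omega⟩,
      Matrix.neg_mulVec]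
    exact neg_ne_zero.mpr hv₀
  rw [← hydef]
  refine ⟨hB, ?_, ?_, hy, ⟨_, hv⟩, ?_⟩
  · rw [hydef]; exact isUnit_one_add_cay h2 A hB
  · rw [hydef]; exact cay_cay h2 A hB
  · rw [hydef]; exact cay_skew hA hB

section main

variable {y : Matrix (Fin m ⊕ Fin m) (Fin m ⊕ Fin m) F} {v : Fin m ⊕ Fin m → F} (h2 : (2 : F) ≠ 0)
  (hy : y ^ (2 * m) = 0) (hv : y ^ (2 * m - 1) *ᵥ v ≠ 0)
  (hJ : yᵀ * (Matrix.J (Fin m) F) = -((Matrix.J (Fin m) F) * y))
include h2 hy hv hJ

/-- polynomials with non-zero constant coefficient are invertible -/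
theorem P_unit (c : ℕ → F) (h0 : c 0 ≠ 0) : IsUnit (P y (2 * m) c).det := by
  obtain ⟨w, hw, hP⟩ := P_split card_idx hy hv c
  rw [hP, ← Matrix.isUnit_iff_isUnit_det]
  have hnil : IsNilpotent (y * w) := by
    refine ⟨2 * m, ?_⟩
    have hcm : Commute y w := hw.symm
    rw [hcm.mul_pow, hy, Matrix.zero_mul]
  have hu : IsUnit (c 0 • (1 : Matrix (Fin m ⊕ Fin m) (Fin m ⊕ Fin m) F)) := by
    rw [Matrix.isUnit_iff_isUnit_det, Matrix.det_smul, Matrix.det_one, mul_one]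
    exact (isUnit_iff_ne_zero.mpr h0).pow _
  apply IsNilpotent.isUnit_add_left_of_commute hnil hu
  exact (Commute.one_right _).smul_right _

/-- the coefficients of a self-adjoint polynomial -/
theorem fixed_coeff {c : ℕ → F}
    (hs : (P y (2 * m) c)ᵀ * Matrix.J (Fin m) F = Matrix.J (Fin m) F * P y (2 * m) c) :
    ∀ i < 2 * m, Odd i → c i = 0 := by
  rw [skew_P hJ] at hs
  have h3 := P_inj card_idx hy hv (J_cancel hs)
  intro i hi hodd
  have h4 := h3 i hi
  simp only [hodd.neg_one_pow] at h4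
  have h5 : (2 : F) * c i = 0 := by linear_combination -h4
  rcases mul_eq_zero.mp h5 with h | h
  · exact absurd h h2
  · exact h

theorem fixed_of_coeff (c : ℕ → F) (hc : ∀ i < 2 * m, Odd i → c i = 0) :
    (P y (2 * m) c)ᵀ * Matrix.J (Fin m) F = Matrix.J (Fin m) F * P y (2 * m) c := by
  rw [skew_P hJ]
  congr 1
  apply P_congr
  intro i hi
  rcases Nat.even_or_odd i with hev | hodd
  · rw [hev.neg_one_pow, one_mul]
  · rw [hc i hi hodd, mul_zero]

/-- the unipotent self-adjoint polynomials -/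
def eSet (y : Matrix (Fin m ⊕ Fin m) (Fin m ⊕ Fin m) F) :
    Set (Matrix (Fin m ⊕ Fin m) (Fin m ⊕ Fin m) F) :=
  {r | ∃ c : ℕ → F, r = P y (2 * m) c ∧ c 0 = 1 ∧ ∀ i < 2 * m, Odd i → c i = 0}

theorem coeff_zero_of_top {c : ℕ → F} {a : F}
    (h : P y (2 * m) c *ᵥ (y ^ (2 * m - 1) *ᵥ v) = a • (y ^ (2 * m - 1) *ᵥ v)) : c 0 = a := by
  rw [P_top card_idx hy hv] at h
  by_contra hne
  apply hv
  have h5 : (c 0 - a) • (y ^ (2 * m - 1) *ᵥ v) = 0 := by
    rw [sub_smul, h, sub_self]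
  rcases smul_eq_zero.mp h5 with h | h
  · exact absurd (sub_eq_zero.mp h) hne
  · exact h

theorem sq_mem_e {r : Matrix (Fin m ⊕ Fin m) (Fin m ⊕ Fin m) F} (hr : r ∈ eSet y) :
    r * r ∈ eSet y := by
  obtain ⟨c, rfl, h0, hodd⟩ := hr
  have hcomm : P y (2 * m) c * P y (2 * m) c * y = y * (P y (2 * m) c * P y (2 * m) c) := by
    rw [Matrix.mul_assoc, P_comm, ← Matrix.mul_assoc, P_comm, Matrix.mul_assoc]
  obtain ⟨c', hc'⟩ := exists_P card_idx hy hv hcomm
  refine ⟨c', hc', ?_, ?_⟩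
  · apply coeff_zero_of_top h2 hy hv hJ
    rw [← hc', ← Matrix.mulVec_mulVec, P_top card_idx hy hv, h0, one_smul,
      P_top card_idx hy hv, h0, one_smul]
  · apply fixed_coeff h2 hy hv hJ
    rw [← hc', Matrix.transpose_mul, Matrix.mul_assoc, fixed_of_coeff h2 hy hv hJ c hodd,
      ← Matrix.mul_assoc, fixed_of_coeff h2 hy hv hJ c hodd, Matrix.mul_assoc]

theorem sq_inj_e {r r' : Matrix (Fin m ⊕ Fin m) (Fin m ⊕ Fin m) F} (hr : r ∈ eSet y)
    (hr' : r' ∈ eSet y) (h : r * r = r' * r') : r = r' := by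
  obtain ⟨c, rfl, h0, -⟩ := hr
  obtain ⟨c', rfl, h0', -⟩ := hr'
  have hU : IsUnit (P y (2 * m) (fun i => c i + c' i)).det := by
    apply P_unit h2 hy hv hJ
    show c 0 + c' 0 ≠ 0
    rw [h0, h0', one_add_one_eq_two]
    exact h2
  have h1 : (P y (2 * m) c - P y (2 * m) c') * P y (2 * m) (fun i => c i + c' i) = 0 := by
    rw [P_add, Matrix.sub_mul, Matrix.mul_add, Matrix.mul_add, h,
      P_comm_P y (2 * m) (2 * m) c' c]
    abel
  have h3 : P y (2 * m) c - P y (2 * m) c' = 0 := by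
    apply cancel_right hU
    rw [h1, Matrix.zero_mul]
  exact sub_eq_zero.mp h3

/-- square roots of unipotent self-adjoint polynomials -/
theorem exists_sqrt [Finite F] {t : Matrix (Fin m ⊕ Fin m) (Fin m ⊕ Fin m) F} (ht : t ∈ eSet y) :
    ∃ r ∈ eSet y, r * r = t := by
  have hinj : Function.Injective (fun r : ↥(eSet y) =>
      (⟨r.1 * r.1, sq_mem_e h2 hy hv hJ r.2⟩ : ↥(eSet y))) := by
    intro r r' h
    apply Subtype.ext
    exact sq_inj_e h2 hy hv hJ r.2 r'.2 (congrArg Subtype.val h)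
  obtain ⟨r, hr⟩ := (Finite.injective_iff_surjective.mp hinj) ⟨t, ht⟩
  exact ⟨r.1, r.2, congrArg Subtype.val hr⟩

end main

end Cfsg.Agent.Lib.Helper6.RegUni
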