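import Mathlib
import Cfsg.Agent.Lib.Helper6.RegUni6

set_option autoImplicit false
set_option linter.unusedSectionVars false
set_option linter.unusedVariables false
set_option linter.unusedSimpArgs false

/-! Conjugacy of regular nilpotent skew matrices under similitudes. -/

namespace Cfsg.Agent.Lib.Helper6.RegUni

open Matrix Module Cfsg.Agent.Lib.Helper5

variable {F : Type*} [Field F] {m : ℕ}

/-- two regular nilpotent matrices are conjugate -/
theorem exists_conj {I : Type*} [Fintype I] [DecidableEq I] {n : ℕ} (hn : Fintype.card I = n)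
    {y y' : Matrix I I F} (hy : y ^ n = 0) (hy' : y' ^ n = 0) {v v' : I → F}
    (hv : y ^ (n - 1) *ᵥ v ≠ 0) (hv' : y' ^ (n - 1) *ᵥ v' ≠ 0) :
    ∃ h : Matrix I I F, IsUnit h.det ∧ h * y = y' * h := by
  have hdim : finrank F (I → F) = n := by rw [Module.finrank_fintype_fun_eq_card, hn]
  have hfn : (Matrix.toLinAlgEquiv' (R := F) (n := I) y) ^ finrank F (I → F) = 0 := by
    rw [hdim, ← map_pow, hy, map_zero]
  have hfn' : (Matrix.toLinAlgEquiv' (R := F) (n := I) y') ^ finrank F (I → F) = 0 := by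
    rw [hdim, ← map_pow, hy', map_zero]
  obtain ⟨e, he, -⟩ := exists_equiv_conj_of_cyclic _ _ hfn hfn' v v'
    (by rw [hdim, ← map_pow, Matrix.toLinAlgEquiv'_apply]; exact hv)
    (by rw [hdim, ← map_pow, Matrix.toLinAlgEquiv'_apply]; exact hv')
  refine ⟨LinearMap.toMatrix' e.toLinearMap, ?_, ?_⟩
  · rw [← Matrix.isUnit_iff_isUnit_det]
    refine isUnit_iff_exists.mpr ⟨LinearMap.toMatrix' e.symm.toLinearMap, ?_, ?_⟩
    · rw [← LinearMap.toMatrix'_comp]
      simp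
    · rw [← LinearMap.toMatrix'_comp]
      simp
  · apply Matrix.mulVec_injective
    funext x
    rw [← Matrix.mulVec_mulVec, ← Matrix.mulVec_mulVec, LinearMap.toMatrix'_mulVec,
      LinearMap.toMatrix'_mulVec]
    have := he x
    rw [Matrix.toLinAlgEquiv'_apply, Matrix.toLinAlgEquiv'_apply] at this
    exact this

section main

variable {y y' : Matrix (Fin m ⊕ Fin m) (Fin m ⊕ Fin m) F} {v v' : Fin m ⊕ Fin m → F}
  (h2 : (2 : F) ≠ 0)
  (hy : y ^ (2 * m) = 0) (hv : y ^ (2 * m - 1) *ᵥ v ≠ 0)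
  (hJ : yᵀ * (Matrix.J (Fin m) F) = -((Matrix.J (Fin m) F) * y))
  (hJ' : y'ᵀ * (Matrix.J (Fin m) F) = -((Matrix.J (Fin m) F) * y'))
  {h : Matrix (Fin m ⊕ Fin m) (Fin m ⊕ Fin m) F} (hh : IsUnit h.det) (hhy : h * y = y' * h)
include h2 hy hv hJ hJ' hh hhy

theorem J_mul_s : Matrix.J (Fin m) F * (-(Matrix.J (Fin m) F * hᵀ * Matrix.J (Fin m) F * h)) =
    hᵀ * Matrix.J (Fin m) F * h := by
  rw [Matrix.mul_neg]
  simp only [← Matrix.mul_assoc, Matrix.J_squared, Matrix.neg_mul, Matrix.one_mul, neg_neg]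

theorem s_comm : (-(Matrix.J (Fin m) F * hᵀ * Matrix.J (Fin m) F * h)) * y =
    y * (-(Matrix.J (Fin m) F * hᵀ * Matrix.J (Fin m) F * h)) := by
  apply J_cancel
  have h1 := J_mul_s h2 hy hv hJ hJ' hh hhy
  rw [← Matrix.mul_assoc, h1]
  have e1 : hᵀ * Matrix.J (Fin m) F * h * y = -(yᵀ * (hᵀ * Matrix.J (Fin m) F * h)) := by
    have e2 : yᵀ * (hᵀ * Matrix.J (Fin m) F * h) = hᵀ * (y'ᵀ * Matrix.J (Fin m) F) * h := by
      calc yᵀ * (hᵀ * Matrix.J (Fin m) F * h) = (h * y)ᵀ * Matrix.J (Fin m) F * h := by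
            rw [Matrix.transpose_mul]
            simp only [Matrix.mul_assoc]
        _ = (y' * h)ᵀ * Matrix.J (Fin m) F * h := by rw [hhy]
        _ = hᵀ * (y'ᵀ * Matrix.J (Fin m) F) * h := by
            rw [Matrix.transpose_mul]
            simp only [Matrix.mul_assoc]
    rw [e2, hJ', Matrix.mul_neg, Matrix.neg_mul, neg_neg]
    simp only [Matrix.mul_assoc]
    rw [hhy]
  rw [e1, ← h1, ← Matrix.mul_assoc, hJ]
  simp only [Matrix.mul_neg, Matrix.neg_mul, neg_neg, Matrix.mul_assoc]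

theorem s_fixed : (-(Matrix.J (Fin m) F * hᵀ * Matrix.J (Fin m) F * h))ᵀ * Matrix.J (Fin m) F =
    Matrix.J (Fin m) F * (-(Matrix.J (Fin m) F * hᵀ * Matrix.J (Fin m) F * h)) := by
  have h1 := J_mul_s h2 hy hv hJ hJ' hh hhy
  have hG : (hᵀ * Matrix.J (Fin m) F * h)ᵀ = -(hᵀ * Matrix.J (Fin m) F * h) := by
    simp only [Matrix.transpose_mul, Matrix.J_transpose, Matrix.transpose_transpose,
      Matrix.neg_mul, Matrix.mul_neg, Matrix.mul_assoc]
  calc (-(Matrix.J (Fin m) F * hᵀ * Matrix.J (Fin m) F * h))ᵀ * Matrix.J (Fin m) F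
      = -((-(Matrix.J (Fin m) F * hᵀ * Matrix.J (Fin m) F * h))ᵀ * (Matrix.J (Fin m) F)ᵀ) := by
        rw [Matrix.J_transpose, Matrix.mul_neg, neg_neg]
    _ = -(Matrix.J (Fin m) F * (-(Matrix.J (Fin m) F * hᵀ * Matrix.J (Fin m) F * h)))ᵀ := by
        rw [Matrix.transpose_mul]
    _ = -(hᵀ * Matrix.J (Fin m) F * h)ᵀ := by rw [h1]
    _ = hᵀ * Matrix.J (Fin m) F * h := by rw [hG, neg_neg]
    _ = _ := h1.symm

theorem s_unit' : IsUnit (-(Matrix.J (Fin m) F * hᵀ * Matrix.J (Fin m) F * h)).det := by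
  have hJu : IsUnit (Matrix.J (Fin m) F).det := by
    have := Matrix.isUnit_det_J (Fin m) F
    exact this
  rw [Matrix.det_neg, Matrix.det_mul, Matrix.det_mul, Matrix.det_mul, Matrix.det_transpose]
  exact (((isUnit_one.neg).pow _).mul (((hJu.mul hh).mul hJu).mul hh))

/-- the commutant element measuring the difference of the two forms -/
theorem exists_s_coeff : ∃ c : ℕ → F,
    -(Matrix.J (Fin m) F * hᵀ * Matrix.J (Fin m) F * h) = P y (2 * m) c ∧ c 0 ≠ 0 ∧
      ∀ i < 2 * m, Odd i → c i = 0 := by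
  obtain ⟨c, hc⟩ := exists_P card_idx hy hv (s_comm h2 hy hv hJ hJ' hh hhy)
  refine ⟨c, hc, ?_, ?_⟩
  · intro h0
    have h1 := P_top card_idx hy hv c
    rw [h0, zero_smul, ← hc] at h1
    have h3 := Matrix.eq_zero_of_mulVec_eq_zero
      (s_unit' h2 hy hv hJ hJ' hh hhy).ne_zero h1
    exact hv h3
  · apply fixed_coeff h2 hy hv hJ
    rw [← hc]
    exact s_fixed h2 hy hv hJ hJ' hh hhy

/-- similitudes intertwining `y` and `y'` exist when the constant coefficient is a square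
multiple of the multiplier -/
theorem exists_simil [Finite F] {c : ℕ → F}
    (hc : -(Matrix.J (Fin m) F * hᵀ * Matrix.J (Fin m) F * h) = P y (2 * m) c) {μ : F} (hμ : μ ≠ 0)
    (hsq : IsSquare (c 0 * μ⁻¹)) :
    ∃ k : Matrix (Fin m ⊕ Fin m) (Fin m ⊕ Fin m) F, IsUnit k.det ∧
      kᵀ * Matrix.J (Fin m) F * k = μ • Matrix.J (Fin m) F ∧ k * y = y' * k := by
  obtain ⟨c', hc', hc0, hodd⟩ := exists_s_coeff h2 hy hv hJ hJ' hh hhy
  have hcc : ∀ i < 2 * m, c i = c' i := P_inj card_idx hy hv (hc.symm.trans hc')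
  have hpos := n_pos card_idx hy hv
  have hc0' : c 0 ≠ 0 := by rw [hcc 0 (by omega)]; exact hc0
  have hodd' : ∀ i < 2 * m, Odd i → c i = 0 := fun i hi ho => by rw [hcc i hi]; exact hodd i hi ho
  obtain ⟨a, ha⟩ := hsq
  have ha0 : a ≠ 0 := by
    rintro rfl
    rw [mul_zero] at ha
    rcases mul_eq_zero.mp ha with h | h
    · exact hc0' h
    · exact inv_ne_zero hμ h
  -- normalised element
  have ht : P y (2 * m) (fun i => (c 0)⁻¹ * c i) ∈ eSet y :=
    ⟨_, rfl, inv_mul_cancel₀ hc0', fun i hi ho => by rw [hodd' i hi ho, mul_zero]⟩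
  obtain ⟨r, ⟨cr, rfl, hr0, hrodd⟩, hrr⟩ := exists_sqrt h2 hy hv hJ ht
  -- g = a • r
  obtain ⟨g, hgdef⟩ : ∃ g, g = P y (2 * m) (fun i => a * cr i) := ⟨_, rfl⟩
  have hgs : g = a • P y (2 * m) cr := by
    rw [hgdef]; unfold P
    rw [Finset.smul_sum]
    apply Finset.sum_congr rfl
    intro i _
    rw [smul_smul]
  have hgU : IsUnit g.det := by
    rw [hgdef]
    apply P_unit h2 hy hv hJ
    show a * cr 0 ≠ 0
    rw [hr0, mul_one]; exact ha0
  have hgy : g * y = y * g := by rw [hgdef]; exact P_comm y _ _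
  have hgfix : gᵀ * Matrix.J (Fin m) F = Matrix.J (Fin m) F * g := by
    rw [hgdef]
    exact fixed_of_coeff h2 hy hv hJ _ (fun i hi ho => by rw [hrodd i hi ho, mul_zero])
  have hts : P y (2 * m) (fun i => (c 0)⁻¹ * c i) = (c 0)⁻¹ • P y (2 * m) c := by
    unfold P
    rw [Finset.smul_sum]
    apply Finset.sum_congr rfl
    intro i _
    rw [smul_smul]
  have hgg : μ • (gᵀ * Matrix.J (Fin m) F * g) = hᵀ * Matrix.J (Fin m) F * h := by
    have e0 : g * g = (a * a) • P y (2 * m) (fun i => (c 0)⁻¹ * c i) := by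
      rw [hgs, Matrix.smul_mul, Matrix.mul_smul, smul_smul, hrr]
    have e2 : Matrix.J (Fin m) F * (g * g) =
        (a * a * (c 0)⁻¹) • (hᵀ * Matrix.J (Fin m) F * h) := by
      rw [e0, hts, smul_smul, Matrix.mul_smul, ← hc, J_mul_s h2 hy hv hJ hJ' hh hhy]
    have e1 : μ * (a * a * (c 0)⁻¹) = 1 := by
      have : a * a = c 0 * μ⁻¹ := ha.symm
      rw [this]
      field_simp
    rw [hgfix, Matrix.mul_assoc, e2, smul_smul, e1, one_smul]
  refine ⟨h * g⁻¹, ?_, ?_, ?_⟩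
  · rw [Matrix.det_mul]
    exact hh.mul (by rw [Matrix.det_nonsing_inv]; exact Ring.inverse_unit hgU.unit ▸ (hgU.unit⁻¹).isUnit)
  · have hgt : IsUnit (gᵀ).det := by rw [Matrix.det_transpose]; exact hgU
    apply cancel_right hgU
    apply cancel_left hgt
    have e1 : gᵀ * ((h * g⁻¹)ᵀ * Matrix.J (Fin m) F * (h * g⁻¹) * g) =
        (h * (g⁻¹ * g))ᵀ * Matrix.J (Fin m) F * (h * (g⁻¹ * g)) := by
      simp only [Matrix.transpose_mul, Matrix.mul_assoc]
    rw [e1, Matrix.nonsing_inv_mul _ hgU, Matrix.mul_one, ← hgg]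
    simp only [Matrix.mul_smul, Matrix.smul_mul, Matrix.mul_assoc]
  · have h1 := comm_inv hgU hgy.symm
    rw [Matrix.mul_assoc, ← h1, ← Matrix.mul_assoc, hhy, Matrix.mul_assoc]

/-- conversely, a similitude intertwining `y` and `y'` forces the square condition -/
theorem isSquare_of_simil {c : ℕ → F}
    (hc : -(Matrix.J (Fin m) F * hᵀ * Matrix.J (Fin m) F * h) = P y (2 * m) c) {μ : F} (hμ : μ ≠ 0)
    {k : Matrix (Fin m ⊕ Fin m) (Fin m ⊕ Fin m) F} (hkU : IsUnit k.det)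
    (hk : kᵀ * Matrix.J (Fin m) F * k = μ • Matrix.J (Fin m) F) (hky : k * y = y' * k) :
    IsSquare (c 0 * μ⁻¹) := by
  -- g = k⁻¹ h commutes with y
  have hgy : k⁻¹ * h * y = y * (k⁻¹ * h) := by
    apply cancel_left hkU
    have e1 : k * (k⁻¹ * h * y) = y' * h := by
      rw [← Matrix.mul_assoc, ← Matrix.mul_assoc, Matrix.mul_nonsing_inv _ hkU, Matrix.one_mul, hhy]
    have e2 : k * (y * (k⁻¹ * h)) = y' * h := by
      rw [← Matrix.mul_assoc, hky, Matrix.mul_assoc, ← Matrix.mul_assoc k,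
        Matrix.mul_nonsing_inv _ hkU, Matrix.one_mul]
    rw [e1, e2]
  obtain ⟨cg, hcg⟩ := exists_P card_idx hy hv hgy
  have hh' : h = k * P y (2 * m) cg := by
    rw [← hcg, ← Matrix.mul_assoc, Matrix.mul_nonsing_inv _ hkU, Matrix.one_mul]
  have h1 : hᵀ * Matrix.J (Fin m) F * h =
      μ • (Matrix.J (Fin m) F * (P y (2 * m) (fun i => (-1) ^ i * cg i) * P y (2 * m) cg)) := by
    conv_lhs => rw [hh']
    have e1 : (k * P y (2 * m) cg)ᵀ * Matrix.J (Fin m) F * (k * P y (2 * m) cg) =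
        (P y (2 * m) cg)ᵀ * (kᵀ * Matrix.J (Fin m) F * k) * P y (2 * m) cg := by
      simp only [Matrix.transpose_mul, Matrix.mul_assoc]
    rw [e1, hk, Matrix.mul_smul, Matrix.smul_mul, skew_P hJ, Matrix.mul_assoc]
  have h3 : P y (2 * m) c =
      μ • (P y (2 * m) (fun i => (-1) ^ i * cg i) * P y (2 * m) cg) := by
    apply J_cancel
    rw [← hc, J_mul_s h2 hy hv hJ hJ' hh hhy, h1, Matrix.mul_smul]
  have h4 := congrArg (fun X => X *ᵥ (y ^ (2 * m - 1) *ᵥ v)) h3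
  simp only [Matrix.smul_mulVec, ← Matrix.mulVec_mulVec, P_top card_idx hy hv,
    Matrix.mulVec_smul, pow_zero, one_mul, smul_smul] at h4
  have h5 : c 0 = μ * (cg 0 * cg 0) := by
    by_contra hne
    apply hv
    have h6 : (c 0 - μ * (cg 0 * cg 0)) • (y ^ (2 * m - 1) *ᵥ v) = 0 := by
      rw [sub_smul, h4, sub_self]
    rcases smul_eq_zero.mp h6 with h | h
    · exact absurd (sub_eq_zero.mp h) hne
    · exact h
  refine ⟨cg 0, ?_⟩
  rw [h5]
  field_simp

end main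

end Cfsg.Agent.Lib.Helper6.RegUni
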