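import Mathlib
import Cfsg.Agent.Lib.Helper6.RegUni7

set_option autoImplicit false
set_option linter.unusedSectionVars false
set_option linter.unusedVariables false
set_option linter.unusedSimpArgs false

/-! The rank of a regular nilpotent matrix, and the regular unipotent symplectic matrix attached to
a regular nilpotent skew matrix. -/

namespace Cfsg.Agent.Lib.Helper6.RegUni

open Matrix Module Cfsg.Agent.Lib.Helper5

variable {F : Type*} [Field F] {m : ℕ}

/-- a regular nilpotent matrix has corank one -/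
theorem rank_reg {I : Type*} [Fintype I] [DecidableEq I] {n : ℕ} (hn : Fintype.card I = n)
    {y : Matrix I I F} (hy : y ^ n = 0) {v : I → F} (hv : y ^ (n - 1) *ᵥ v ≠ 0) :
    y.rank = n - 1 := by
  have hpos := n_pos hn hy hv
  obtain ⟨k, rfl⟩ : ∃ k, n = k + 1 := ⟨n - 1, by omega⟩
  rw [Nat.add_sub_cancel] at hv ⊢
  have hdim : finrank F (I → F) = k + 1 := by rw [Module.finrank_fintype_fun_eq_card, hn]
  have h1 := LinearMap.finrank_range_add_finrank_ker (Matrix.mulVecLin y)
  rw [hdim] at h1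
  have hmem : y ^ k *ᵥ v ∈ LinearMap.ker (Matrix.mulVecLin y) := by
    rw [LinearMap.mem_ker, Matrix.mulVecLin_apply, Matrix.mulVec_mulVec, ← pow_succ', hy,
      Matrix.zero_mulVec]
  have hle : LinearMap.ker (Matrix.mulVecLin y) ≤ Submodule.span F {y ^ k *ᵥ v} := by
    intro x hx
    rw [LinearMap.mem_ker, Matrix.mulVecLin_apply] at hx
    obtain ⟨c, rfl⟩ := span hn hy (by rw [Nat.add_sub_cancel]; exact hv) x
    rw [Matrix.mulVec_sum] at hx
    have e1 : ∑ i ∈ Finset.range (k + 1), y *ᵥ (c i • (y ^ i *ᵥ v)) =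
        ∑ i ∈ Finset.range (k + 1), (if i = 0 then 0 else c (i - 1)) • (y ^ i *ᵥ v) := by
      rw [Finset.sum_range_succ, Finset.sum_range_succ']
      have e2 : y *ᵥ (c k • (y ^ k *ᵥ v)) = 0 := by
        rw [Matrix.mulVec_smul, Matrix.mulVec_mulVec, ← pow_succ', hy, Matrix.zero_mulVec,
          smul_zero]
      rw [e2, add_zero, if_pos rfl, zero_smul, add_zero]
      apply Finset.sum_congr rfl
      intro i _
      rw [if_neg (by omega), Nat.add_sub_cancel, Matrix.mulVec_smul, Matrix.mulVec_mulVec,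
        ← pow_succ']
    rw [e1] at hx
    have h3 := indep hn hy (by rw [Nat.add_sub_cancel]; exact hv) _ hx
    have h4 : ∀ i < k, c i = 0 := by
      intro i hi
      have := h3 (i + 1) (by omega)
      rw [if_neg (by omega), Nat.add_sub_cancel] at this
      exact this
    rw [Finset.sum_range_succ, Finset.sum_eq_zero (fun i hi => by
      rw [h4 i (Finset.mem_range.mp hi), zero_smul]), zero_add]
    exact Submodule.smul_mem _ _ (Submodule.mem_span_singleton_self _)
  have h5 : finrank F (LinearMap.ker (Matrix.mulVecLin y)) ≤ 1 := by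
    have := Submodule.finrank_mono hle
    rw [finrank_span_singleton hv] at this
    exact this
  have h6 : 0 < finrank F (LinearMap.ker (Matrix.mulVecLin y)) := by
    rw [Module.finrank_pos_iff_exists_ne_zero]
    refine ⟨⟨_, hmem⟩, ?_⟩
    intro h
    exact hv (congrArg Subtype.val h)
  show finrank F (LinearMap.range (Matrix.mulVecLin y)) = k
  omega

/-- conjugation and powers -/
theorem conj_pow {I : Type*} [Fintype I] [DecidableEq I] {d di y : Matrix I I F}
    (h : di * d = 1) (k : ℕ) : (d * y * di) ^ k * d = d * y ^ k := by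
  induction k with
  | zero => simp
  | succ k ih =>
    rw [pow_succ', Matrix.mul_assoc, ih, pow_succ']
    simp only [Matrix.mul_assoc]
    rw [← Matrix.mul_assoc di, h, Matrix.one_mul]

section main

variable {y : Matrix (Fin m ⊕ Fin m) (Fin m ⊕ Fin m) F} {v : Fin m ⊕ Fin m → F} (h2 : (2 : F) ≠ 0)
  (hy : y ^ (2 * m) = 0) (hv : y ^ (2 * m - 1) *ᵥ v ≠ 0)
  (hJ : yᵀ * (Matrix.J (Fin m) F) = -((Matrix.J (Fin m) F) * y))
include h2 hy hv hJ

theorem reg_unit : IsUnit (1 + y).det := by
  rw [← Matrix.isUnit_iff_isUnit_det]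
  exact IsNilpotent.isUnit_one_add ⟨2 * m, hy⟩

/-- the regular unipotent symplectic matrix attached to `y` -/
theorem unipotent_of_reg :
    (cay y)ᵀ * Matrix.J (Fin m) F * cay y = Matrix.J (Fin m) F ∧
      (cay y - 1) ^ (2 * m) = 0 ∧ (cay y - 1).rank = 2 * m - 1 ∧ cay (cay y) = y ∧
      IsUnit (1 + cay y).det := by
  have hU := reg_unit h2 hy hv hJ
  have hpos := n_pos card_idx hy hv
  have hN : (cay y - 1) * (1 + y) = -((2 : F) • y) := by
    rw [Matrix.sub_mul, cay_mul y hU, Matrix.one_mul, two_smul]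
    abel
  have hcy : y * cay y = cay y * y := cay_comm hU rfl
  have hcm : Commute (cay y - 1) (1 + y) := by
    show (cay y - 1) * (1 + y) = (1 + y) * (cay y - 1)
    rw [Matrix.sub_mul, Matrix.mul_sub, Matrix.mul_add, Matrix.add_mul, hcy]
    simp only [Matrix.mul_one, Matrix.one_mul]
  have hpow : ∀ k : ℕ, (cay y - 1) ^ k * (1 + y) ^ k = (-(2 : F)) ^ k • y ^ k := by
    intro k
    rw [← hcm.mul_pow, hN, ← neg_smul, smul_pow]
  have hnil : (cay y - 1) ^ (2 * m) = 0 := by
    have hUk : IsUnit ((1 + y) ^ (2 * m)).det := by rw [Matrix.det_pow]; exact hU.pow _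
    apply cancel_right hUk
    rw [hpow, hy, smul_zero, Matrix.zero_mul]
  have hcyc : (cay y - 1) ^ (2 * m - 1) *ᵥ ((1 + y) ^ (2 * m - 1) *ᵥ v) ≠ 0 := by
    rw [Matrix.mulVec_mulVec, hpow, Matrix.smul_mulVec]
    intro h
    rcases smul_eq_zero.mp h with h' | h'
    · exact absurd (pow_eq_zero_iff (by omega) |>.mp h') (neg_ne_zero.mpr h2)
    · exact hv h'
  refine ⟨cay_symp hJ hU, hnil, rank_reg card_idx hnil hcyc, cay_cay h2 y hU,
    isUnit_one_add_cay h2 y hU⟩

end main

end Cfsg.Agent.Lib.Helper6.RegUni
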