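import Mathlib
import Cfsg.Agent.Lib.Helper6.JTc
import Cfsg.Agent.Lib.Helper6.RegUni8

set_option autoImplicit false
set_option linter.unusedSectionVars false
set_option linter.unusedVariables false
set_option linter.unusedSimpArgs false

/-! Regular unipotent matrices are conjugate; invariant forms for a single Jordan block;
alternating invariant forms for Jordan types. -/

namespace Cfsg.Agent.Lib.Helper6.JT

open Matrix Module Cfsg.Agent.Lib.Helper6.RegUni

variable {F : Type*} [Field F]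

/-- two regular unipotent matrices are conjugate -/
theorem conj_of_reg {I : Type*} [Fintype I] [DecidableEq I] {n : ℕ} (hn : Fintype.card I = n)
    {U U' : Matrix I I F} (h1 : (U - 1) ^ n = 0) (h2 : (U - 1).rank = n - 1)
    (h1' : (U' - 1) ^ n = 0) (h2' : (U' - 1).rank = n - 1) :
    ∃ h : Matrix I I F, IsUnit h.det ∧ h * U = U' * h := by
  by_cases hpos : 1 ≤ n
  · obtain ⟨v, hv⟩ := exists_cyclic_matrix hn hpos h1 h2
    obtain ⟨v', hv'⟩ := exists_cyclic_matrix hn hpos h1' h2'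
    obtain ⟨h, hh, hhy⟩ := exists_conj hn h1 h1' hv hv'
    refine ⟨h, hh, ?_⟩
    rw [Matrix.mul_sub, Matrix.sub_mul, Matrix.mul_one, Matrix.one_mul] at hhy
    exact sub_left_inj.mp hhy
  · have : IsEmpty I := Fintype.card_eq_zero_iff.mp (by omega)
    exact ⟨1, by simp, Subsingleton.elim _ _⟩

/-- the Jordan block is regular unipotent -/
theorem jb_reg (n : ℕ) : (Cfsg.jordanBlock n F - 1) ^ n = 0 ∧
    (Cfsg.jordanBlock n F - 1).rank = n - 1 := by
  constructor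
  · rw [jordanBlock_sub_one_pow]
    ext a b
    have := a.isLt
    simp only [Matrix.of_apply, Matrix.zero_apply]
    rw [if_neg (by omega)]
  · have := rank_jordanBlock_pow F n 1
    rwa [pow_one] at this

theorem isUnit_of_nil {I : Type*} [Fintype I] [DecidableEq I] {U : Matrix I I F} {n : ℕ}
    (h : (U - 1) ^ n = 0) : IsUnit U.det := by
  rw [← Matrix.isUnit_iff_isUnit_det]
  have := IsNilpotent.isUnit_one_add (r := U - 1) ⟨n, h⟩
  rwa [add_sub_cancel] at this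

/-- multiplying a regular nilpotent matrix by a commuting unit -/
theorem reg_mul_unit {I : Type*} [Fintype I] [DecidableEq I] {n : ℕ} {y s : Matrix I I F}
    (hy : y ^ n = 0) {v : I → F} (hv : y ^ (n - 1) *ᵥ v ≠ 0) (hs : IsUnit s.det)
    (hc : y * s = s * y) : (y * s) ^ n = 0 ∧ ∃ v' : I → F, (y * s) ^ (n - 1) *ᵥ v' ≠ 0 := by
  have hcm : Commute y s := hc
  constructor
  · rw [hcm.mul_pow, hy, Matrix.zero_mul]
  · refine ⟨(s ^ (n - 1))⁻¹ *ᵥ v, ?_⟩
    have hsu : IsUnit (s ^ (n - 1)).det := by rw [Matrix.det_pow]; exact hs.pow _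
    rw [hcm.mul_pow, Matrix.mulVec_mulVec, Matrix.mul_assoc, Matrix.mul_nonsing_inv _ hsu,
      Matrix.mul_one]
    exact hv

/-- a nondegenerate bilinear form preserved by a Jordan block -/
theorem exists_inv_form (n : ℕ) : ∃ G : Matrix (Fin n) (Fin n) F, IsUnit G.det ∧
    (Cfsg.jordanBlock n F)ᵀ * G * Cfsg.jordanBlock n F = G := by
  obtain ⟨U, hUdef⟩ : ∃ U : Matrix (Fin n) (Fin n) F, U = Cfsg.jordanBlock n F := ⟨_, rfl⟩
  obtain ⟨hnil, hrank⟩ := jb_reg (F := F) n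
  rw [← hUdef] at hnil hrank ⊢
  have hU : IsUnit U.det := isUnit_of_nil hnil
  have hUt : IsUnit Uᵀ.det := by rw [Matrix.det_transpose]; exact hU
  have hcard : Fintype.card (Fin n) = n := Fintype.card_fin n
  by_cases hpos : 1 ≤ n
  · have hnilT : (Uᵀ - 1) ^ n = 0 := by
      have : Uᵀ - 1 = (U - 1)ᵀ := by rw [Matrix.transpose_sub, Matrix.transpose_one]
      rw [this, ← Matrix.transpose_pow, hnil, Matrix.transpose_zero]
    have hrankT : (Uᵀ - 1).rank = n - 1 := by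
      have : Uᵀ - 1 = (U - 1)ᵀ := by rw [Matrix.transpose_sub, Matrix.transpose_one]
      rw [this, Matrix.rank_transpose, hrank]
    obtain ⟨v, hv⟩ := exists_cyclic_matrix hcard hpos hnilT hrankT
    have hsU : IsUnit (-(Uᵀ)⁻¹).det := by
      rw [Matrix.det_neg]
      exact ((isUnit_one.neg).pow _).mul (Matrix.isUnit_nonsing_inv_det _ hUt)
    have hcomm : (Uᵀ - 1) * (-(Uᵀ)⁻¹) = (-(Uᵀ)⁻¹) * (Uᵀ - 1) := by
      have h0 : (Uᵀ - 1) * Uᵀ = Uᵀ * (Uᵀ - 1) := by
        rw [Matrix.sub_mul, Matrix.mul_sub, Matrix.one_mul, Matrix.mul_one]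
      have := comm_inv hUt h0
      rw [Matrix.mul_neg, Matrix.neg_mul, this]
    obtain ⟨hn1, v', hv'⟩ := reg_mul_unit hnilT hv hsU hcomm
    have hys : (Uᵀ - 1) * (-(Uᵀ)⁻¹) = (Uᵀ)⁻¹ - 1 := by
      rw [Matrix.mul_neg, Matrix.sub_mul, Matrix.mul_nonsing_inv _ hUt, Matrix.one_mul]
      abel
    rw [hys] at hn1 hv'
    have hr1 : ((Uᵀ)⁻¹ - 1).rank = n - 1 := rank_reg hcard hn1 hv'
    obtain ⟨h, hh, hhU⟩ := conj_of_reg hcard hnil hrank hn1 hr1
    refine ⟨h, hh, ?_⟩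
    rw [Matrix.mul_assoc, hhU, ← Matrix.mul_assoc, Matrix.mul_nonsing_inv _ hUt, Matrix.one_mul]
  · have hn0 : n = 0 := by omega
    subst hn0
    exact ⟨1, by simp, Subsingleton.elim _ _⟩

/-- matrices similar to an isometry of a nondegenerate alternating form -/
def SpReal (I : Type) [Fintype I] [DecidableEq I] (U : Matrix I I F) : Prop :=
  ∃ K : Matrix I I F, Kᵀ = -K ∧ (∀ i, K i i = 0) ∧ IsUnit K.det ∧ Uᵀ * K * U = K

theorem congr_self {I : Type*} [Fintype I] [DecidableEq I] (K P : Matrix I I F) (x : I → F) :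
    x ⬝ᵥ (Pᵀ * K * P) *ᵥ x = (P *ᵥ x) ⬝ᵥ K *ᵥ (P *ᵥ x) := by
  rw [← Matrix.mulVec_mulVec, ← Matrix.mulVec_mulVec, Matrix.dotProduct_mulVec,
    Matrix.vecMul_transpose]

theorem diag_eq {I : Type*} [Fintype I] [DecidableEq I] (M : Matrix I I F) (i : I) :
    M i i = Pi.single i 1 ⬝ᵥ M *ᵥ Pi.single i 1 := by
  rw [Matrix.mulVec_single_one, single_one_dotProduct]
  rfl

theorem spReal_reindex {I I' : Type} [Fintype I] [DecidableEq I] [Fintype I'] [DecidableEq I']
    (e : I ≃ I') {U : Matrix I I F} (h : SpReal I U) : SpReal I' (Matrix.reindex e e U) := by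
  obtain ⟨K, hK, hd, hu, hinv⟩ := h
  refine ⟨Matrix.reindex e e K, ?_, ?_, ?_, ?_⟩
  · rw [Matrix.transpose_reindex, hK]
    ext r c
    simp
  · intro i
    simp [hd]
  · rw [Matrix.det_reindex_self]; exact hu
  · calc (Matrix.reindex e e U)ᵀ * Matrix.reindex e e K * Matrix.reindex e e U
        = Matrix.reindex e e (Uᵀ * K * U) := by
          simp only [Matrix.reindex_apply, Matrix.transpose_submatrix, Matrix.submatrix_mul_equiv]
      _ = Matrix.reindex e e K := by rw [hinv]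

theorem spReal_blocks {I₁ I₂ : Type} [Fintype I₁] [DecidableEq I₁] [Fintype I₂] [DecidableEq I₂]
    {U₁ : Matrix I₁ I₁ F} {U₂ : Matrix I₂ I₂ F} (h₁ : SpReal I₁ U₁) (h₂ : SpReal I₂ U₂) :
    SpReal (I₁ ⊕ I₂) (Matrix.fromBlocks U₁ 0 0 U₂) := by
  obtain ⟨K₁, hK₁, hd₁, hu₁, hinv₁⟩ := h₁
  obtain ⟨K₂, hK₂, hd₂, hu₂, hinv₂⟩ := h₂
  refine ⟨Matrix.fromBlocks K₁ 0 0 K₂, ?_, ?_, ?_, ?_⟩
  · rw [Matrix.fromBlocks_transpose, Matrix.fromBlocks_neg, hK₁, hK₂]
    simp
  · intro i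
    rcases i with i | i
    · simp [hd₁]
    · simp [hd₂]
  · rw [Matrix.det_fromBlocks_zero₂₁]
    exact hu₁.mul hu₂
  · rw [Matrix.fromBlocks_transpose, Matrix.fromBlocks_multiply, Matrix.fromBlocks_multiply]
    simp [hinv₁, hinv₂]

theorem spReal_empty {I : Type} [Fintype I] [DecidableEq I] [IsEmpty I] (U : Matrix I I F) :
    SpReal I U :=
  ⟨0, by simp, fun i => by simp, by rw [Matrix.det_isEmpty]; exact isUnit_one,
    Subsingleton.elim _ _⟩

theorem spReal_closed : Closed F (fun I _ _ U => SpReal (F := F) I U) where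
  reindex := fun I I' _ _ _ _ e U h => spReal_reindex e h
  blocks := fun I₁ I₂ _ _ _ _ U₁ U₂ h₁ h₂ => spReal_blocks h₁ h₂
  empty := fun I _ _ _ U => spReal_empty U

/-- invariance under conjugation -/
theorem spReal_conj {I : Type} [Fintype I] [DecidableEq I] {U U' : Matrix I I F}
    (hU : SpReal I U) {c : Matrix I I F} (hc : IsUnit c.det) (h : c * U = U' * c) :
    SpReal I U' := by
  obtain ⟨K, hK, hd, hu, hinv⟩ := hU
  have hci : c⁻¹ * c = 1 := Matrix.nonsing_inv_mul _ hc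
  have hci' : c * c⁻¹ = 1 := Matrix.mul_nonsing_inv _ hc
  have hU' : U' = c * U * c⁻¹ := by
    rw [h, Matrix.mul_assoc, hci', Matrix.mul_one]
  refine ⟨(c⁻¹)ᵀ * K * c⁻¹, ?_, ?_, ?_, ?_⟩
  · rw [Matrix.transpose_mul, Matrix.transpose_mul, Matrix.transpose_transpose, hK]
    simp only [Matrix.mul_neg, Matrix.neg_mul, Matrix.mul_assoc]
  · intro i
    rw [diag_eq ((c⁻¹)ᵀ * K * c⁻¹) i, congr_self]
    exact alt_self K hK hd _
  · rw [Matrix.det_mul, Matrix.det_mul, Matrix.det_transpose]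
    exact ((Matrix.isUnit_nonsing_inv_det _ hc).mul hu).mul (Matrix.isUnit_nonsing_inv_det _ hc)
  · have hT : cᵀ * (c⁻¹)ᵀ = 1 := by rw [← Matrix.transpose_mul, hci, Matrix.transpose_one]
    calc U'ᵀ * ((c⁻¹)ᵀ * K * c⁻¹) * U'
        = (c⁻¹)ᵀ * Uᵀ * (cᵀ * (c⁻¹)ᵀ) * K * (c⁻¹ * c) * U * c⁻¹ := by
          rw [hU', Matrix.transpose_mul, Matrix.transpose_mul]
          simp only [Matrix.mul_assoc]
      _ = (c⁻¹)ᵀ * (Uᵀ * K * U) * c⁻¹ := by
          rw [hT, hci]
          simp only [Matrix.mul_one, Matrix.mul_assoc]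
      _ = (c⁻¹)ᵀ * K * c⁻¹ := by rw [hinv]

/-- a doubled Jordan block preserves a nondegenerate alternating form -/
theorem spReal_pair (n : ℕ) : SpReal (Fin n ⊕ Fin n)
    (Matrix.fromBlocks (Cfsg.jordanBlock n F) 0 0 (Cfsg.jordanBlock n F)) := by
  obtain ⟨G, hG, hinv⟩ := exists_inv_form (F := F) n
  have hGt : IsUnit Gᵀ.det := by rw [Matrix.det_transpose]; exact hG
  have hinvT : (Cfsg.jordanBlock n F)ᵀ * Gᵀ * Cfsg.jordanBlock n F = Gᵀ := by
    have := congrArg Matrix.transpose hinv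
    rw [Matrix.transpose_mul, Matrix.transpose_mul, Matrix.transpose_transpose,
      ← Matrix.mul_assoc] at this
    exact this
  refine ⟨Matrix.fromBlocks 0 G (-Gᵀ) 0, ?_, ?_, ?_, ?_⟩
  · rw [Matrix.fromBlocks_transpose, Matrix.fromBlocks_neg]
    simp
  · intro i
    rcases i with i | i <;> simp
  · apply Matrix.isUnit_det_of_right_inverse (B := Matrix.fromBlocks 0 (-(Gᵀ)⁻¹) G⁻¹ 0)
    rw [Matrix.fromBlocks_multiply]
    simp [Matrix.mul_nonsing_inv _ hG, Matrix.mul_nonsing_inv _ hGt, Matrix.fromBlocks_one]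
  · rw [Matrix.fromBlocks_transpose, Matrix.fromBlocks_multiply, Matrix.fromBlocks_multiply]
    simp [hinv, hinvT, Matrix.mul_assoc]

end Cfsg.Agent.Lib.Helper6.JT
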