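import Mathlib
import Cfsg.Agent.Lib.Helper6.JTd

set_option autoImplicit false
set_option linter.unusedSectionVars false
set_option linter.unusedVariables false
set_option linter.unusedSimpArgs false

/-! A regular unipotent isometry of an alternating form in every characteristic. -/

namespace Cfsg.Agent.Lib.Helper6.JT

open Matrix Module Cfsg.Agent.Lib.Helper6.RegUni

variable (F : Type*) [Field F] (k : ℕ)

/-- the nilpotent shift -/
def Zk : Matrix (Fin k) (Fin k) F := Cfsg.jordanBlock k F - 1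

/-- the reversal matrix -/
def Rk : Matrix (Fin k) (Fin k) F :=
  Matrix.of fun a b => if (a : ℕ) + (b : ℕ) + 1 = k then 1 else 0

/-- the model regular unipotent matrix -/
def U0 : Matrix (Fin k ⊕ Fin k) (Fin k ⊕ Fin k) F := Matrix.fromBlocks 1 (Zk F k) 1 (1 + Zk F k)

/-- the model alternating form -/
def K0 : Matrix (Fin k ⊕ Fin k) (Fin k ⊕ Fin k) F := Matrix.fromBlocks 0 (-Rk F k) (Rk F k) 0

variable {F k}

theorem Zk_apply (a b : Fin k) : Zk F k a b = if (a : ℕ) = (b : ℕ) + 1 then 1 else 0 := by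
  have h := jordanBlock_sub_one_pow F k 1
  rw [pow_one] at h
  unfold Zk
  rw [h]
  rfl

theorem sum_shift (f : Fin k → F) (b : ℕ) :
    ∑ c : Fin k, (if (c : ℕ) = b + 1 then (1 : F) else 0) * f c =
      if h : b + 1 < k then f ⟨b + 1, h⟩ else 0 := by
  by_cases h : b + 1 < k
  · rw [dif_pos h, Finset.sum_eq_single (⟨b + 1, h⟩ : Fin k)]
    · simp
    · intro c _ hc
      have : (c : ℕ) ≠ b + 1 := fun hh => hc (Fin.ext hh)
      simp [this]
    · intro hh; exact absurd (Finset.mem_univ _) hh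
  · rw [dif_neg h, Finset.sum_eq_zero]
    intro c _
    have : (c : ℕ) ≠ b + 1 := by have := c.isLt; omega
    simp [this]

theorem Rk_symm : (Rk F k)ᵀ = Rk F k := by
  ext a b
  simp [Rk, add_comm]

theorem Rk_Z : Rk F k * Zk F k = (Zk F k)ᵀ * Rk F k := by
  ext a b
  rw [Matrix.mul_apply, Matrix.mul_apply]
  have e1 : ∑ c, Rk F k a c * Zk F k c b =
      ∑ c : Fin k, (if (c : ℕ) = (b : ℕ) + 1 then (1 : F) else 0) * Rk F k a c := by
    apply Finset.sum_congr rfl
    intro c _
    rw [Zk_apply, mul_comm]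
  have e2 : ∑ c, (Zk F k)ᵀ a c * Rk F k c b =
      ∑ c : Fin k, (if (c : ℕ) = (a : ℕ) + 1 then (1 : F) else 0) * Rk F k c b := by
    apply Finset.sum_congr rfl
    intro c _
    rw [Matrix.transpose_apply, Zk_apply]
  rw [e1, e2, sum_shift, sum_shift]
  have ha := a.isLt
  have hb := b.isLt
  by_cases h : (a : ℕ) + (b : ℕ) + 2 = k
  · rw [dif_pos (by omega), dif_pos (by omega)]
    simp only [Rk, Matrix.of_apply]
    rw [if_pos (by omega), if_pos (by omega)]
  · have h1 : (if h : (b : ℕ) + 1 < k then Rk F k a ⟨(b : ℕ) + 1, h⟩ else 0) = 0 := by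
      split_ifs with h'
      · simp only [Rk, Matrix.of_apply]
        rw [if_neg (by omega)]
      · rfl
    have h2 : (if h : (a : ℕ) + 1 < k then Rk F k ⟨(a : ℕ) + 1, h⟩ b else 0) = 0 := by
      split_ifs with h'
      · simp only [Rk, Matrix.of_apply]
        rw [if_neg (by omega)]
      · rfl
    rw [h1, h2]

theorem Rk_sq : Rk F k * Rk F k = 1 := by
  ext a b
  rw [Matrix.mul_apply, Matrix.one_apply]
  have ha := a.isLt
  have hb := b.isLt
  by_cases h : a = b
  · subst h
    rw [if_pos rfl, Finset.sum_eq_single (⟨k - 1 - (a : ℕ), by omega⟩ : Fin k)]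
    · simp only [Rk, Matrix.of_apply]
      rw [if_pos (by omega), if_pos (by omega), mul_one]
    · intro c _ hc
      have : (c : ℕ) ≠ k - 1 - (a : ℕ) := fun hh => hc (Fin.ext hh)
      simp only [Rk, Matrix.of_apply]
      rw [if_neg (by omega), zero_mul]
    · intro hh; exact absurd (Finset.mem_univ _) hh
  · rw [if_neg h, Finset.sum_eq_zero]
    intro c _
    have hab : (a : ℕ) ≠ (b : ℕ) := fun hh => h (Fin.ext hh)
    simp only [Rk, Matrix.of_apply]
    by_cases h1 : (a : ℕ) + (c : ℕ) + 1 = k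
    · rw [if_pos h1, if_neg (by omega), mul_zero]
    · rw [if_neg h1, zero_mul]

theorem K0_alt : (K0 F k)ᵀ = -K0 F k ∧ ∀ i, K0 F k i i = 0 := by
  constructor
  · unfold K0
    rw [Matrix.fromBlocks_transpose, Matrix.fromBlocks_neg, Matrix.transpose_neg, Rk_symm]
    simp
  · intro i
    rcases i with i | i <;> simp [K0]

theorem K0_unit : IsUnit (K0 F k).det := by
  apply Matrix.isUnit_det_of_right_inverse (B := Matrix.fromBlocks 0 (Rk F k) (-Rk F k) 0)
  unfold K0
  rw [Matrix.fromBlocks_multiply]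
  simp [Rk_sq, Matrix.fromBlocks_one]

theorem U0_inv : (U0 F k)ᵀ * K0 F k * U0 F k = K0 F k := by
  unfold U0 K0
  rw [Matrix.fromBlocks_transpose, Matrix.fromBlocks_multiply, Matrix.fromBlocks_multiply]
  have h22 : ((Zk F k)ᵀ * 0 + (1 + Zk F k)ᵀ * Rk F k) * Zk F k +
      ((Zk F k)ᵀ * -Rk F k + (1 + Zk F k)ᵀ * 0) * (1 + Zk F k) = 0 := by
    rw [Matrix.transpose_add, Matrix.transpose_one]
    simp only [Matrix.mul_zero, zero_add, add_zero, Matrix.add_mul, Matrix.mul_add, Matrix.one_mul,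
      Matrix.mul_one, Matrix.mul_neg, Matrix.neg_mul, Matrix.mul_assoc]
    rw [Rk_Z]
    abel
  rw [h22]
  congr 1
  · simp
  · simp only [Matrix.transpose_one, Matrix.one_mul, Matrix.mul_zero, zero_add, add_zero,
      Matrix.mul_add, Matrix.mul_one, Matrix.neg_mul]
    abel
  · rw [Matrix.transpose_add, Matrix.transpose_one]
    simp only [Matrix.mul_zero, zero_add, add_zero, Matrix.add_mul, Matrix.one_mul, Matrix.mul_one,
      Matrix.mul_neg]
    abel

theorem spReal_U0 : SpReal (Fin k ⊕ Fin k) (U0 F k) :=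
  ⟨K0 F k, K0_alt.1, K0_alt.2, K0_unit, U0_inv⟩

theorem U0_sub_one : U0 F k - 1 = Matrix.fromBlocks 0 (Zk F k) 1 (Zk F k) := by
  unfold U0
  rw [← Matrix.fromBlocks_one]
  ext r c
  rcases r with r | r <;> rcases c with c | c <;> simp [Matrix.one_apply]

/-- the model matrix is regular unipotent -/
theorem U0_reg : (U0 F k - 1) ^ (k + k) = 0 ∧ (U0 F k - 1).rank = k + k - 1 := by
  obtain ⟨hZn, hZr⟩ := jb_reg (F := F) k
  constructor
  · have hsq : (U0 F k - 1) * (U0 F k - 1) =
        Matrix.fromBlocks (Zk F k) 0 0 (Zk F k) * U0 F k := by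
      rw [U0_sub_one]
      unfold U0
      rw [Matrix.fromBlocks_multiply, Matrix.fromBlocks_multiply]
      simp [Matrix.mul_add]
    have hcomm : Commute (Matrix.fromBlocks (Zk F k) 0 0 (Zk F k)) (U0 F k) := by
      show _ * _ = _ * _
      unfold U0
      rw [Matrix.fromBlocks_multiply, Matrix.fromBlocks_multiply]
      simp [Matrix.mul_add, Matrix.add_mul]
    have hZ : Matrix.fromBlocks (Zk F k) 0 0 (Zk F k) =
        Matrix.fromBlocks (Cfsg.jordanBlock k F) 0 0 (Cfsg.jordanBlock k F) - 1 := by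
      have := fromBlocks_sub_one_pow (Cfsg.jordanBlock k F) (Cfsg.jordanBlock k F) 1
      simp only [pow_one] at this
      rw [this]
      rfl
    rw [← two_mul, pow_mul, pow_two, hsq, hcomm.mul_pow, hZ, fromBlocks_sub_one_pow, hZn]
    simp
  · have hfac : U0 F k - 1 = Matrix.fromBlocks (Zk F k) 0 0 1 * Matrix.fromBlocks 0 1 1 0 *
        Matrix.fromBlocks 1 (Zk F k) 0 1 := by
      rw [U0_sub_one, Matrix.fromBlocks_multiply, Matrix.fromBlocks_multiply]
      simp
    have hu1 : IsUnit (Matrix.fromBlocks (1 : Matrix (Fin k) (Fin k) F) (Zk F k) 0 1).det := by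
      rw [Matrix.det_fromBlocks_zero₂₁]
      simp
    have hu2 : IsUnit (Matrix.fromBlocks (0 : Matrix (Fin k) (Fin k) F)
        (1 : Matrix (Fin k) (Fin k) F) (1 : Matrix (Fin k) (Fin k) F)
        (0 : Matrix (Fin k) (Fin k) F)).det := by
      apply Matrix.isUnit_det_of_right_inverse
        (B := Matrix.fromBlocks (0 : Matrix (Fin k) (Fin k) F) (1 : Matrix (Fin k) (Fin k) F)
          (1 : Matrix (Fin k) (Fin k) F) (0 : Matrix (Fin k) (Fin k) F))
      rw [Matrix.fromBlocks_multiply]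
      simp [Matrix.fromBlocks_one]
    rw [hfac, Matrix.rank_mul_eq_left_of_isUnit_det _ _ hu1,
      Matrix.rank_mul_eq_left_of_isUnit_det _ _ hu2, rank_fromBlocks_diag, Matrix.rank_one,
      Fintype.card_fin]
    unfold Zk
    rw [hZr]
    omega

/-- a Jordan block of even size preserves a nondegenerate alternating form -/
theorem spReal_even (k : ℕ) : SpReal (Fin (k + k)) (Cfsg.jordanBlock (k + k) F) := by
  have h1 := spReal_reindex (finSumFinEquiv (m := k) (n := k)) (spReal_U0 (F := F) (k := k))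
  obtain ⟨hn, hr⟩ := U0_reg (F := F) (k := k)
  have hn' : (Matrix.reindex (finSumFinEquiv (m := k) (n := k)) finSumFinEquiv (U0 F k) - 1)
      ^ (k + k) = 0 := by
    rw [reindex_sub_one_pow, hn]
    simp
  have hr' : (Matrix.reindex (finSumFinEquiv (m := k) (n := k)) finSumFinEquiv (U0 F k) - 1).rank
      = k + k - 1 := by
    have := rank_reindex_sub_one_pow (finSumFinEquiv (m := k) (n := k)) (U0 F k) 1
    rw [pow_one, pow_one] at this
    rw [this, hr]
  obtain ⟨hjn, hjr⟩ := jb_reg (F := F) (k + k)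
  obtain ⟨h, hh, hhU⟩ := conj_of_reg (Fintype.card_fin (k + k)) hn' hr' hjn hjr
  exact spReal_conj h1 hh hhU

/-- in a group preserving a nondegenerate alternating form, even powers of `A - 1` have even
rank -/
theorem even_rank_sp {I : Type*} [Fintype I] [DecidableEq I] {K A : Matrix I I F}
    (hK : Kᵀ = -K) (hd : ∀ i, K i i = 0) (hu : IsUnit K.det) (hA : IsUnit A.det)
    (hinv : Aᵀ * K * A = K) (i : ℕ) : Even ((A - 1) ^ (i + i)).rank := by
  have hBA : A⁻¹ * A = 1 := Matrix.nonsing_inv_mul _ hA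
  have hAB : A * A⁻¹ = 1 := Matrix.mul_nonsing_inv _ hA
  have hAK : Aᵀ * K = K * A⁻¹ := by
    calc Aᵀ * K = Aᵀ * K * (A * A⁻¹) := by rw [hAB, Matrix.mul_one]
      _ = (Aᵀ * K * A) * A⁻¹ := by simp only [Matrix.mul_assoc]
      _ = K * A⁻¹ := by rw [hinv]
  have hNK : (A - 1)ᵀ * K = K * (-A⁻¹ * (A - 1)) := by
    have e : -A⁻¹ * (A - 1) = A⁻¹ - 1 := by
      rw [Matrix.neg_mul, Matrix.mul_sub, hBA, Matrix.mul_one, neg_sub]
    rw [e, Matrix.transpose_sub, Matrix.transpose_one, Matrix.sub_mul, hAK, Matrix.one_mul,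
      Matrix.mul_sub, Matrix.mul_one]
  have hpow : ∀ j : ℕ, ((A - 1)ᵀ) ^ j * K = K * (-A⁻¹ * (A - 1)) ^ j := by
    intro j
    induction j with
    | zero => simp
    | succ j ih =>
      rw [pow_succ, Matrix.mul_assoc, hNK, ← Matrix.mul_assoc, ih, Matrix.mul_assoc, ← pow_succ]
  have hcm : Commute (-A⁻¹) (A - 1) := by
    show -A⁻¹ * (A - 1) = (A - 1) * -A⁻¹
    rw [Matrix.neg_mul, Matrix.mul_neg, Matrix.mul_sub, Matrix.sub_mul, hBA, hAB, Matrix.mul_one,
      Matrix.one_mul]
  have hX : ((A - 1) ^ i)ᵀ * K * (A - 1) ^ i = K * (-A⁻¹) ^ i * (A - 1) ^ (i + i) := by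
    rw [Matrix.transpose_pow, hpow, hcm.mul_pow, pow_add]
    simp only [Matrix.mul_assoc]
  have hAlt : Even (((A - 1) ^ i)ᵀ * K * (A - 1) ^ i).rank := by
    apply even_rank_of_alt
    · rw [Matrix.transpose_mul, Matrix.transpose_mul, Matrix.transpose_transpose, hK]
      simp only [Matrix.mul_neg, Matrix.neg_mul, Matrix.mul_assoc]
    · intro r
      rw [diag_eq (((A - 1) ^ i)ᵀ * K * (A - 1) ^ i) r, congr_self]
      exact alt_self K hK hd _
  have hui : IsUnit ((-A⁻¹) ^ i).det := by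
    rw [Matrix.det_pow, Matrix.det_neg]
    exact (((isUnit_one.neg).pow _).mul (Matrix.isUnit_nonsing_inv_det _ hA)).pow _
  rw [hX, Matrix.mul_assoc, Matrix.rank_mul_eq_right_of_isUnit_det _ _ hu,
    Matrix.rank_mul_eq_right_of_isUnit_det _ _ hui] at hAlt
  exact hAlt

end Cfsg.Agent.Lib.Helper6.JT
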