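import Mathlib
import Cfsg.Agent.Lib.Helper6.JTe

set_option autoImplicit false
set_option linter.unusedSectionVars false
set_option linter.unusedVariables false
set_option linter.unusedSimpArgs false

/-! Jordan types of unipotent elements of the symplectic group. -/

namespace Cfsg.Agent.Lib.Helper6.JT

open Matrix Module Cfsg.Agent.Lib.Helper6.RegUni

variable {F : Type*} [Field F]

theorem entry_eq {I : Type*} [Fintype I] [DecidableEq I] (M : Matrix I I F) (i j : I) :
    M i j = Pi.single i 1 ⬝ᵥ M *ᵥ Pi.single j 1 := by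
  rw [Matrix.mulVec_single_one, single_one_dotProduct]
  rfl

theorem congr_form {I : Type*} [Fintype I] [DecidableEq I] (K P : Matrix I I F) (x y : I → F) :
    x ⬝ᵥ (Pᵀ * K * P) *ᵥ y = (P *ᵥ x) ⬝ᵥ K *ᵥ (P *ᵥ y) := by
  rw [← Matrix.mulVec_mulVec, ← Matrix.mulVec_mulVec, Matrix.dotProduct_mulVec,
    Matrix.vecMul_transpose]

theorem skew_form {I : Type*} [Fintype I] [DecidableEq I] (K : Matrix I I F) (hK : Kᵀ = -K)
    (x y : I → F) : y ⬝ᵥ K *ᵥ x = -(x ⬝ᵥ K *ᵥ y) := by
  rw [Matrix.dotProduct_mulVec, ← Matrix.mulVec_transpose, hK, Matrix.neg_mulVec,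
    neg_dotProduct, dotProduct_comm]

/-- an isometry of a nondegenerate alternating form on the standard index type is conjugate to a
symplectic matrix -/
theorem symp_of_spReal_std {m : ℕ} {U : Matrix (Fin m ⊕ Fin m) (Fin m ⊕ Fin m) F}
    (h : SpReal (Fin m ⊕ Fin m) U) :
    ∃ A : Matrix.symplecticGroup (Fin m) F,
      IsConj U (A : Matrix (Fin m ⊕ Fin m) (Fin m ⊕ Fin m) F) := by
  obtain ⟨K, hK, hd, hu, hinv⟩ := h
  obtain ⟨B, hB⟩ : ∃ B : LinearMap.BilinForm F (Fin m ⊕ Fin m → F),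
      B = Matrix.toLinearMap₂' F K := ⟨_, rfl⟩
  have hBa : ∀ x y : Fin m ⊕ Fin m → F, B x y = x ⬝ᵥ K *ᵥ y := by
    intro x y
    rw [hB, Matrix.toLinearMap₂'_apply']
  have hAlt : LinearMap.BilinForm.IsAlt B := by
    intro x
    rw [hBa]
    exact alt_self K hK hd x
  obtain ⟨m', k', b, g1, g2, g3, g4, g5, g6⟩ :=
    Cfsg.Agent.Lib.Helper5.AltForm.exists_darboux_basis B hAlt
  have hker : LinearMap.ker B = ⊥ := by
    rw [eq_bot_iff]
    intro x hx
    rw [LinearMap.mem_ker] at hx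
    rw [Submodule.mem_bot]
    have hKt : Kᵀ.det ≠ 0 := by rw [Matrix.det_transpose]; exact hu.ne_zero
    apply Matrix.eq_zero_of_mulVec_eq_zero hKt
    funext j
    have := congrArg (fun f : (Fin m ⊕ Fin m → F) →ₗ[F] F => f (Pi.single j 1)) hx
    simp only [LinearMap.zero_apply] at this
    rw [hBa, Matrix.dotProduct_mulVec, dotProduct_single_one] at this
    rw [Matrix.mulVec_transpose]
    exact this
  have hk0 : k' = 0 := by rw [g6, hker, finrank_bot]
  subst hk0
  have hm : m' = m := by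
    rw [Module.finrank_fintype_fun_eq_card, Fintype.card_sum, Fintype.card_fin] at g5
    omega
  subst hm
  obtain ⟨P, hPdef⟩ : ∃ P : Matrix (Fin m' ⊕ Fin m') (Fin m' ⊕ Fin m') F,
      P = Matrix.of fun i j => b (Sum.inl j) i := ⟨_, rfl⟩
  have hPcol : ∀ j, P *ᵥ Pi.single j 1 = b (Sum.inl j) := by
    intro j
    rw [Matrix.mulVec_single_one]
    funext i
    rw [Matrix.col_apply, hPdef]
    rfl
  have hGram : Pᵀ * K * P = -Matrix.J (Fin m') F := by
    ext j l
    rw [entry_eq (Pᵀ * K * P) j l, congr_form, hPcol, hPcol, ← hBa]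
    rcases j with j | j <;> rcases l with l | l
    · rw [g2]
      simp [Matrix.J]
    · rw [g1]
      simp [Matrix.J, Matrix.one_apply]
    · rw [hBa, skew_form K hK, ← hBa, g1]
      simp [Matrix.J, Matrix.one_apply, eq_comm]
    · rw [g3]
      simp [Matrix.J]
  have hJu : IsUnit (-Matrix.J (Fin m') F).det := by
    apply Matrix.isUnit_det_of_right_inverse (B := Matrix.J (Fin m') F)
    rw [Matrix.neg_mul, Matrix.J_squared, neg_neg]
  have hP : IsUnit P.det := by
    rw [← hGram, Matrix.det_mul] at hJu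
    exact isUnit_of_mul_isUnit_right hJu
  have hPi : P⁻¹ * P = 1 := Matrix.nonsing_inv_mul _ hP
  have hPi' : P * P⁻¹ = 1 := Matrix.mul_nonsing_inv _ hP
  have hAJ : (P⁻¹ * U * P)ᵀ * Matrix.J (Fin m') F * (P⁻¹ * U * P) = Matrix.J (Fin m') F := by
    have h1 : (P⁻¹ * U * P)ᵀ * (Pᵀ * K * P) * (P⁻¹ * U * P) = Pᵀ * K * P := by
      have hT : (P⁻¹)ᵀ * Pᵀ = 1 := by rw [← Matrix.transpose_mul, hPi', Matrix.transpose_one]
      calc (P⁻¹ * U * P)ᵀ * (Pᵀ * K * P) * (P⁻¹ * U * P)
          = Pᵀ * Uᵀ * ((P⁻¹)ᵀ * Pᵀ) * K * (P * P⁻¹) * U * P := by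
            rw [Matrix.transpose_mul, Matrix.transpose_mul]
            simp only [Matrix.mul_assoc]
        _ = Pᵀ * (Uᵀ * K * U) * P := by
            rw [hT, hPi']
            simp only [Matrix.mul_one, Matrix.mul_assoc]
        _ = Pᵀ * K * P := by rw [hinv]
    rw [hGram, Matrix.mul_neg, Matrix.neg_mul] at h1
    exact neg_injective h1
  refine ⟨⟨P⁻¹ * U * P, SymplecticGroup.mem_iff'.mpr hAJ⟩, ?_⟩
  have hPiu : IsUnit (P⁻¹ : Matrix (Fin m' ⊕ Fin m') (Fin m' ⊕ Fin m') F) :=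
    (Matrix.isUnit_iff_isUnit_det _).mpr (Matrix.isUnit_nonsing_inv_det _ hP)
  obtain ⟨c, hc⟩ := hPiu
  refine ⟨c, ?_⟩
  show (c : Matrix (Fin m' ⊕ Fin m') (Fin m' ⊕ Fin m') F) * U = (P⁻¹ * U * P) * c
  rw [hc, Matrix.mul_assoc, hPi', Matrix.mul_one]

/-- an isometry of a nondegenerate alternating form is conjugate to a symplectic matrix -/
theorem symp_of_spReal {I : Type} [Fintype I] [DecidableEq I] {m : ℕ}
    (hcard : Fintype.card I = 2 * m) {U : Matrix I I F} (h : SpReal I U) :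
    ∃ e : I ≃ Fin m ⊕ Fin m, ∃ A : Matrix.symplecticGroup (Fin m) F,
      IsConj (Matrix.reindex e e U) (A : Matrix (Fin m ⊕ Fin m) (Fin m ⊕ Fin m) F) := by
  have hc : Fintype.card I = Fintype.card (Fin m ⊕ Fin m) := by
    rw [hcard, Fintype.card_sum, Fintype.card_fin, two_mul]
  exact ⟨Fintype.equivOfCardEq hc, symp_of_spReal_std (spReal_reindex _ h)⟩

/-- Jordan types of unipotent elements of the symplectic group -/
theorem sp_jordan_types {m t : ℕ} (d : Fin t → ℕ) (hsum : ∑ k, d k = 2 * m) :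
    (∃ e : ((k : Fin t) × Fin (d k)) ≃ (Fin m ⊕ Fin m), ∃ A : Matrix.symplecticGroup (Fin m) F,
      IsConj (Matrix.reindex e e (Cfsg.jordanTypeMatrix d F))
        (A : Matrix (Fin m ⊕ Fin m) (Fin m ⊕ Fin m) F)) ↔
    ∀ j : ℕ, Odd j → Even (Finset.univ.filter (fun k : Fin t => d k = j)).card := by
  constructor
  · rintro ⟨e, A, hc⟩ j ⟨i, rfl⟩
    rw [← Fintype.card_subtype]
    have hAu : IsUnit (A : Matrix (Fin m ⊕ Fin m) (Fin m ⊕ Fin m) F).det :=
      SymplecticGroup.symplectic_det A.2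
    have hd : ∀ r, Matrix.J (Fin m) F r r = 0 := by
      intro r
      rcases r with r | r <;> simp [Matrix.J]
    have hrk : ∀ s : ℕ, ((JTg F (Fin t) d - 1) ^ s).rank =
        (((A : Matrix (Fin m ⊕ Fin m) (Fin m ⊕ Fin m) F) - 1) ^ s).rank := by
      intro s
      rw [← rank_pow_of_isConj hc s, rank_reindex_sub_one_pow]
      rfl
    apply even_count_of_even_ranks F d (2 * i + 1) (by omega)
    · rw [hrk]
      have e1 : 2 * i + 1 - 1 = i + i := by omega
      rw [e1]
      exact even_rank_sp (Matrix.J_transpose _ _) hd (Matrix.isUnit_det_J _ _) hAu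
        (SymplecticGroup.mem_iff'.mp A.2) i
    · rw [hrk]
      have e1 : 2 * i + 1 + 1 = (i + 1) + (i + 1) := by omega
      rw [e1]
      exact even_rank_sp (Matrix.J_transpose _ _) hd (Matrix.isUnit_det_J _ _) hAu
        (SymplecticGroup.mem_iff'.mp A.2) (i + 1)
  · intro hpar
    have hreal : SpReal ((k : Fin t) × Fin (d k)) (JTg F (Fin t) d) := by
      apply realize (P := fun I _ _ U => SpReal (F := F) I U) spReal_closed Even
        (fun n hn => by obtain ⟨k, rfl⟩ := hn; exact spReal_even k) spReal_pair t (Fin t) d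
        (Fintype.card_fin t)
      intro j hj
      rw [Fintype.card_subtype]
      exact hpar j (Nat.not_even_iff_odd.mp hj)
    have hcard : Fintype.card ((k : Fin t) × Fin (d k)) = 2 * m := by
      rw [Fintype.card_sigma, ← hsum]
      simp
    exact symp_of_spReal hcard hreal

end Cfsg.Agent.Lib.Helper6.JT
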