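import Mathlib
import Cfsg.Prelude.Def_Classical
import Cfsg.Agent.Lib.Helper6.JTf

set_option autoImplicit false
set_option linter.unusedSectionVars false
set_option linter.unusedVariables false
set_option linter.unusedSimpArgs false

/-! Matrices similar to isometries of quadratic forms with nondegenerate polar form. -/

namespace Cfsg.Agent.Lib.Helper6.JT

open Matrix Module Cfsg.Agent.Lib.Helper6.RegUni

variable {F : Type*} [Field F]

/-- matrices preserving a quadratic form with nondegenerate polar form -/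
def QReal (I : Type) [Fintype I] [DecidableEq I] (U : Matrix I I F) : Prop :=
  ∃ M : Matrix I I F, IsUnit (M + Mᵀ).det ∧
    ∀ x : I → F, (U *ᵥ x) ⬝ᵥ M *ᵥ (U *ᵥ x) = x ⬝ᵥ M *ᵥ x

theorem qinv_of_matrix {I : Type*} [Fintype I] [DecidableEq I] {U M : Matrix I I F}
    (h : Uᵀ * M * U = M) (x : I → F) : (U *ᵥ x) ⬝ᵥ M *ᵥ (U *ᵥ x) = x ⬝ᵥ M *ᵥ x := by
  rw [← congr_form, h]

theorem form_reindex {I I' : Type*} [Fintype I] [DecidableEq I] [Fintype I'] [DecidableEq I']
    (e : I ≃ I') (M : Matrix I I F) (y z : I' → F) :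
    y ⬝ᵥ (Matrix.reindex e e M) *ᵥ z = (y ∘ e) ⬝ᵥ M *ᵥ (z ∘ e) := by
  rw [Matrix.reindex_apply, Matrix.submatrix_mulVec_equiv, dotProduct_comp_equiv_symm]
  simp

theorem mulVec_reindex {I I' : Type*} [Fintype I] [DecidableEq I] [Fintype I'] [DecidableEq I']
    (e : I ≃ I') (U : Matrix I I F) (x : I' → F) :
    ((Matrix.reindex e e U) *ᵥ x) ∘ e = U *ᵥ (x ∘ e) := by
  rw [Matrix.reindex_apply, Matrix.submatrix_mulVec_equiv]
  funext i
  simp

theorem qReal_reindex {I I' : Type} [Fintype I] [DecidableEq I] [Fintype I'] [DecidableEq I']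
    (e : I ≃ I') {U : Matrix I I F} (h : QReal I U) : QReal I' (Matrix.reindex e e U) := by
  obtain ⟨M, hM, hinv⟩ := h
  refine ⟨Matrix.reindex e e M, ?_, ?_⟩
  · have : Matrix.reindex e e M + (Matrix.reindex e e M)ᵀ = Matrix.reindex e e (M + Mᵀ) := by
      ext r c
      simp
    rw [this, Matrix.det_reindex_self]
    exact hM
  · intro x
    rw [form_reindex, form_reindex, mulVec_reindex, hinv]

theorem qReal_blocks {I₁ I₂ : Type} [Fintype I₁] [DecidableEq I₁] [Fintype I₂] [DecidableEq I₂]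
    {U₁ : Matrix I₁ I₁ F} {U₂ : Matrix I₂ I₂ F} (h₁ : QReal I₁ U₁) (h₂ : QReal I₂ U₂) :
    QReal (I₁ ⊕ I₂) (Matrix.fromBlocks U₁ 0 0 U₂) := by
  obtain ⟨M₁, hM₁, hinv₁⟩ := h₁
  obtain ⟨M₂, hM₂, hinv₂⟩ := h₂
  refine ⟨Matrix.fromBlocks M₁ 0 0 M₂, ?_, ?_⟩
  · rw [Matrix.fromBlocks_transpose, Matrix.fromBlocks_add]
    simp only [Matrix.transpose_zero, add_zero]
    rw [Matrix.det_fromBlocks_zero₂₁]
    exact hM₁.mul hM₂
  · intro x
    have key : ∀ y : I₁ ⊕ I₂ → F, y ⬝ᵥ (Matrix.fromBlocks M₁ 0 0 M₂) *ᵥ y =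
        (y ∘ Sum.inl) ⬝ᵥ M₁ *ᵥ (y ∘ Sum.inl) + (y ∘ Sum.inr) ⬝ᵥ M₂ *ᵥ (y ∘ Sum.inr) := by
      intro y
      rw [Matrix.fromBlocks_mulVec]
      simp only [Matrix.zero_mulVec, add_zero, zero_add]
      conv_lhs => rw [← Sum.elim_comp_inl_inr y]
      rw [sumElim_dotProduct_sumElim]
      simp only [Sum.elim_comp_inl, Sum.elim_comp_inr]
    rw [key, key]
    have e1 : (Matrix.fromBlocks U₁ 0 0 U₂ *ᵥ x) ∘ Sum.inl = U₁ *ᵥ (x ∘ Sum.inl) := by
      rw [Matrix.fromBlocks_mulVec]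
      simp
    have e2 : (Matrix.fromBlocks U₁ 0 0 U₂ *ᵥ x) ∘ Sum.inr = U₂ *ᵥ (x ∘ Sum.inr) := by
      rw [Matrix.fromBlocks_mulVec]
      simp
    rw [e1, e2, hinv₁, hinv₂]

theorem qReal_empty {I : Type} [Fintype I] [DecidableEq I] [IsEmpty I] (U : Matrix I I F) :
    QReal I U :=
  ⟨0, by rw [Matrix.det_isEmpty]; exact isUnit_one, fun x => by simp⟩

theorem qReal_closed : Closed F (fun I _ _ U => QReal (F := F) I U) where
  reindex := fun I I' _ _ _ _ e U h => qReal_reindex e h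
  blocks := fun I₁ I₂ _ _ _ _ U₁ U₂ h₁ h₂ => qReal_blocks h₁ h₂
  empty := fun I _ _ _ U => qReal_empty U

/-- invariance under conjugation -/
theorem qReal_conj {I : Type} [Fintype I] [DecidableEq I] {U U' : Matrix I I F}
    (hU : QReal I U) {c : Matrix I I F} (hc : IsUnit c.det) (h : c * U = U' * c) :
    QReal I U' := by
  obtain ⟨M, hM, hinv⟩ := hU
  have hci : c⁻¹ * c = 1 := Matrix.nonsing_inv_mul _ hc
  have hci' : c * c⁻¹ = 1 := Matrix.mul_nonsing_inv _ hc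
  have hU' : c⁻¹ * U' = U * c⁻¹ := by
    calc c⁻¹ * U' = c⁻¹ * U' * (c * c⁻¹) := by rw [hci', Matrix.mul_one]
      _ = c⁻¹ * (U' * c) * c⁻¹ := by simp only [Matrix.mul_assoc]
      _ = (c⁻¹ * c) * U * c⁻¹ := by rw [← h]; simp only [Matrix.mul_assoc]
      _ = U * c⁻¹ := by rw [hci, Matrix.one_mul]
  refine ⟨(c⁻¹)ᵀ * M * c⁻¹, ?_, ?_⟩
  · have : (c⁻¹)ᵀ * M * c⁻¹ + ((c⁻¹)ᵀ * M * c⁻¹)ᵀ = (c⁻¹)ᵀ * (M + Mᵀ) * c⁻¹ := by
      rw [Matrix.transpose_mul, Matrix.transpose_mul, Matrix.transpose_transpose, Matrix.mul_add,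
        Matrix.add_mul]
      simp only [Matrix.mul_assoc]
    rw [this, Matrix.det_mul, Matrix.det_mul, Matrix.det_transpose]
    exact ((Matrix.isUnit_nonsing_inv_det _ hc).mul hM).mul (Matrix.isUnit_nonsing_inv_det _ hc)
  · intro x
    rw [congr_form, congr_form, Matrix.mulVec_mulVec, hU', ← Matrix.mulVec_mulVec, hinv]

/-- a doubled Jordan block preserves a quadratic form with nondegenerate polar form -/
theorem qReal_pair (n : ℕ) : QReal (Fin n ⊕ Fin n)
    (Matrix.fromBlocks (Cfsg.jordanBlock n F) 0 0 (Cfsg.jordanBlock n F)) := by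
  obtain ⟨G, hG, hinv⟩ := exists_inv_form (F := F) n
  have hGt : IsUnit Gᵀ.det := by rw [Matrix.det_transpose]; exact hG
  refine ⟨Matrix.fromBlocks 0 G 0 0, ?_, ?_⟩
  · rw [Matrix.fromBlocks_transpose, Matrix.fromBlocks_add]
    simp only [Matrix.transpose_zero, add_zero, zero_add]
    apply Matrix.isUnit_det_of_right_inverse (B := Matrix.fromBlocks 0 (Gᵀ)⁻¹ G⁻¹ 0)
    rw [Matrix.fromBlocks_multiply]
    simp [Matrix.mul_nonsing_inv _ hG, Matrix.mul_nonsing_inv _ hGt, Matrix.fromBlocks_one]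
  · apply qinv_of_matrix
    rw [Matrix.fromBlocks_transpose, Matrix.fromBlocks_multiply, Matrix.fromBlocks_multiply]
    simp [hinv]

/-- polarization: invariance of the quadratic form gives invariance of its polar matrix -/
theorem polar_inv {I : Type*} [Fintype I] [DecidableEq I] {U M : Matrix I I F}
    (hinv : ∀ x : I → F, (U *ᵥ x) ⬝ᵥ M *ᵥ (U *ᵥ x) = x ⬝ᵥ M *ᵥ x) :
    Uᵀ * (M + Mᵀ) * U = M + Mᵀ := by
  have hpol : ∀ x y : I → F, x ⬝ᵥ (M + Mᵀ) *ᵥ y =
      (x + y) ⬝ᵥ M *ᵥ (x + y) - x ⬝ᵥ M *ᵥ x - y ⬝ᵥ M *ᵥ y := by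
    intro x y
    have e1 : x ⬝ᵥ Mᵀ *ᵥ y = y ⬝ᵥ M *ᵥ x := by
      rw [Matrix.mulVec_transpose, dotProduct_comm, ← Matrix.dotProduct_mulVec]
    rw [Matrix.add_mulVec, dotProduct_add, e1, Matrix.mulVec_add, add_dotProduct, dotProduct_add,
      dotProduct_add]
    ring
  ext i j
  rw [entry_eq (Uᵀ * (M + Mᵀ) * U) i j, congr_form, hpol, ← Matrix.mulVec_add, hinv, hinv, hinv,
    ← hpol, ← entry_eq]

theorem qReal_unit {I : Type} [Fintype I] [DecidableEq I] {U : Matrix I I F} (h : QReal I U) :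
    IsUnit U.det := by
  obtain ⟨M, hM, hinv⟩ := h
  have h1 := polar_inv hinv
  have h2 : IsUnit (Uᵀ * (M + Mᵀ) * U).det := by rw [h1]; exact hM
  rw [Matrix.det_mul] at h2
  exact isUnit_of_mul_isUnit_right h2

theorem toQuadraticForm'_apply {I : Type*} [Fintype I] [DecidableEq I] (M : Matrix I I F)
    (x : I → F) : Matrix.toQuadraticForm' M x = x ⬝ᵥ M *ᵥ x := by
  unfold Matrix.toQuadraticForm'
  rw [LinearMap.BilinMap.toQuadraticMap_apply, Matrix.toLinearMap₂'_apply']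

/-- from a realizable matrix to an isometry of a quadratic form on `Fin n → F` -/
theorem q_of_qReal {I : Type} [Fintype I] [DecidableEq I] {n : ℕ} (hcard : Fintype.card I = n)
    {U : Matrix I I F} (h : QReal I U) :
    ∃ Q : QuadraticForm F (Fin n → F), (QuadraticMap.polarBilin Q).Nondegenerate ∧
      ∃ e : I ≃ Fin n, ∃ A : ↥(Cfsg.isometryGroup F ⇑Q),
        IsConj (Matrix.reindex e e U)
          ((A : Matrix.GeneralLinearGroup (Fin n) F) : Matrix (Fin n) (Fin n) F) := by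
  have hc : Fintype.card I = Fintype.card (Fin n) := by rw [hcard, Fintype.card_fin]
  obtain ⟨e, -⟩ : ∃ e : I ≃ Fin n, True := ⟨Fintype.equivOfCardEq hc, trivial⟩
  have h' := qReal_reindex e h
  have hu := qReal_unit h'
  obtain ⟨M, hM, hinv⟩ := h'
  have hpolar : ∀ x y : Fin n → F, QuadraticMap.polarBilin (Matrix.toQuadraticForm' M) x y =
      x ⬝ᵥ (M + Mᵀ) *ᵥ y := by
    intro x y
    rw [QuadraticMap.polarBilin_apply_apply, QuadraticMap.polar, toQuadraticForm'_apply,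
      toQuadraticForm'_apply, toQuadraticForm'_apply]
    have e1 : x ⬝ᵥ Mᵀ *ᵥ y = y ⬝ᵥ M *ᵥ x := by
      rw [Matrix.mulVec_transpose, dotProduct_comm, ← Matrix.dotProduct_mulVec]
    rw [Matrix.add_mulVec, dotProduct_add, e1, Matrix.mulVec_add, add_dotProduct, dotProduct_add,
      dotProduct_add]
    ring
  have hsymm : (M + Mᵀ)ᵀ = M + Mᵀ := by
    rw [Matrix.transpose_add, Matrix.transpose_transpose, add_comm]
  refine ⟨Matrix.toQuadraticForm' M, ?_, e, ⟨Matrix.GeneralLinearGroup.mkOfDetNeZero _ hu.ne_zero, ?_⟩,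
    IsConj.refl _⟩
  · constructor
    · intro x hx
      have hx' : (M + Mᵀ) *ᵥ x = 0 := by
        funext j
        have := hx (Pi.single j 1)
        rw [hpolar, Matrix.dotProduct_mulVec, dotProduct_single_one] at this
        rw [← hsymm, Matrix.mulVec_transpose]
        exact this
      exact Matrix.eq_zero_of_mulVec_eq_zero hM.ne_zero hx'
    · intro y hy
      have hy' : (M + Mᵀ) *ᵥ y = 0 := by
        funext j
        have := hy (Pi.single j 1)
        rw [hpolar, single_one_dotProduct] at this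
        exact this
      exact Matrix.eq_zero_of_mulVec_eq_zero hM.ne_zero hy'
  · intro u v
    show Matrix.toQuadraticForm' M (_ *ᵥ u) = Matrix.toQuadraticForm' M u
    rw [toQuadraticForm'_apply, toQuadraticForm'_apply]
    exact hinv u

end Cfsg.Agent.Lib.Helper6.JT
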