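import Mathlib
import Cfsg.Agent.Lib.Helper6.JTq

set_option autoImplicit false
set_option linter.unusedSectionVars false
set_option linter.unusedVariables false
set_option linter.unusedSimpArgs false

/-! Jordan types of unipotent elements of orthogonal groups in characteristic two. -/

namespace Cfsg.Agent.Lib.Helper6.JT

open Matrix Module Cfsg.Agent.Lib.Helper6.RegUni

variable {F : Type*} [Field F]

/-- the symmetric matrix of the polar form of a quadratic form, with its invariance -/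
theorem form_of_q {n : ℕ} (Q : QuadraticForm F (Fin n → F))
    (hQ : (QuadraticMap.polarBilin Q).Nondegenerate) (A : ↥(Cfsg.isometryGroup F ⇑Q)) :
    ∃ K : Matrix (Fin n) (Fin n) F, Kᵀ = K ∧
      (∀ i, K i i = Q (Pi.single i 1) + Q (Pi.single i 1)) ∧ IsUnit K.det ∧
      ((A : Matrix.GeneralLinearGroup (Fin n) F) : Matrix (Fin n) (Fin n) F)ᵀ * K *
        ((A : Matrix.GeneralLinearGroup (Fin n) F) : Matrix (Fin n) (Fin n) F) = K ∧
      IsUnit ((A : Matrix.GeneralLinearGroup (Fin n) F) : Matrix (Fin n) (Fin n) F).det := by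
  obtain ⟨K, hKdef⟩ : ∃ K : Matrix (Fin n) (Fin n) F,
      K = LinearMap.BilinForm.toMatrix' (QuadraticMap.polarBilin Q) := ⟨_, rfl⟩
  have hKa : ∀ x y : Fin n → F, x ⬝ᵥ K *ᵥ y = QuadraticMap.polar (⇑Q) x y := by
    intro x y
    rw [← Matrix.toBilin'_apply', hKdef, Matrix.toBilin'_toMatrix',
      QuadraticMap.polarBilin_apply_apply]
  have hKe : ∀ i j, K i j = QuadraticMap.polar (⇑Q) (Pi.single i 1) (Pi.single j 1) := by
    intro i j
    rw [entry_eq K i j, hKa]
  have hAinv : ∀ u : Fin n → F,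
      Q (((A : Matrix.GeneralLinearGroup (Fin n) F) : Matrix (Fin n) (Fin n) F) *ᵥ u) = Q u :=
    fun u => A.2 u 0
  refine ⟨K, ?_, ?_, ?_, ?_, ?_⟩
  · ext i j
    rw [Matrix.transpose_apply, hKe, hKe, QuadraticMap.polar_comm]
  · intro i
    rw [hKe, QuadraticMap.polar_self, two_nsmul]
  · rw [isUnit_iff_ne_zero]
    intro hdet
    obtain ⟨v, hv0, hv⟩ := Matrix.exists_mulVec_eq_zero_iff.mpr hdet
    apply hv0
    apply hQ.2 v
    intro x
    rw [QuadraticMap.polarBilin_apply_apply, ← hKa, hv, dotProduct_zero]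
  · ext i j
    rw [entry_eq (_ * K * _) i j, congr_form, hKa, hKe]
    unfold QuadraticMap.polar
    rw [← Matrix.mulVec_add, hAinv, hAinv, hAinv]
  · exact (Matrix.isUnit_iff_isUnit_det _).mp (Units.isUnit _)

section char2

variable [CharP F 2] {k : ℕ}

/-- the diagonal corrections of the quadratic form -/
def D1 (F : Type*) [Field F] (k : ℕ) : Matrix (Fin k) (Fin k) F :=
  Matrix.diagonal fun c => if 2 * (c : ℕ) = k then 1 else 0

def D2 (F : Type*) [Field F] (k : ℕ) : Matrix (Fin k) (Fin k) F :=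
  Matrix.diagonal fun c => if 2 * (c : ℕ) + 1 = k then 1 else 0

/-- the matrix of the model quadratic form -/
def M0 (F : Type*) [Field F] (k : ℕ) : Matrix (Fin k ⊕ Fin k) (Fin k ⊕ Fin k) F :=
  Matrix.fromBlocks (D1 F k) (Rk F k) 0 (D2 F k)

theorem ZT_mul_apply (X : Matrix (Fin k) (Fin k) F) (a b : Fin k) :
    ((Zk F k)ᵀ * X) a b = if h : (a : ℕ) + 1 < k then X ⟨(a : ℕ) + 1, h⟩ b else 0 := by
  rw [Matrix.mul_apply, ← sum_shift (fun c => X c b) (a : ℕ)]
  apply Finset.sum_congr rfl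
  intro c _
  rw [Matrix.transpose_apply, Zk_apply]

theorem mul_Z_apply (X : Matrix (Fin k) (Fin k) F) (a b : Fin k) :
    (X * Zk F k) a b = if h : (b : ℕ) + 1 < k then X a ⟨(b : ℕ) + 1, h⟩ else 0 := by
  rw [Matrix.mul_apply, ← sum_shift (fun c => X a c) (b : ℕ)]
  apply Finset.sum_congr rfl
  intro c _
  rw [Zk_apply, mul_comm]

theorem M0_polar : M0 F k + (M0 F k)ᵀ = K0 F k := by
  unfold M0 K0
  rw [Matrix.fromBlocks_transpose, Matrix.fromBlocks_add]
  have h1 : D1 F k + (D1 F k)ᵀ = 0 := by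
    unfold D1
    rw [Matrix.diagonal_transpose]
    ext a b
    simp [CharTwo.add_self_eq_zero]
  have h2 : D2 F k + (D2 F k)ᵀ = 0 := by
    unfold D2
    rw [Matrix.diagonal_transpose]
    ext a b
    simp [CharTwo.add_self_eq_zero]
  have h3 : -Rk F k = Rk F k := by
    ext a b
    simp [CharTwo.neg_eq]
  rw [h1, h2, Rk_symm, Matrix.transpose_zero, add_zero, zero_add, h3]

theorem delta_diag (i : Fin k ⊕ Fin k) :
    ((U0 F k)ᵀ * M0 F k * U0 F k) i i = M0 F k i i := by
  have h2 : (2 : F) = 0 := CharTwo.two_eq_zero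
  have h11 : (1 : F) + 1 = 0 := by rw [one_add_one_eq_two, h2]
  unfold U0 M0
  rw [Matrix.fromBlocks_transpose, Matrix.fromBlocks_multiply, Matrix.fromBlocks_multiply]
  rcases i with a | a
  · simp only [Matrix.fromBlocks_apply₁₁, Matrix.transpose_one, Matrix.one_mul, Matrix.mul_zero,
      add_zero, Matrix.mul_one, Matrix.add_apply]
    have e1 : Rk F k a a = D2 F k a a := by
      simp only [Rk, D2, Matrix.of_apply, Matrix.diagonal_apply_eq]
      congr 1
      apply propext
      constructor <;> intro h <;> omega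
    rw [e1, CharTwo.add_self_eq_zero, add_zero]
  · simp only [Matrix.fromBlocks_apply₂₂, Matrix.transpose_add, Matrix.transpose_one,
      Matrix.mul_zero, add_zero, Matrix.add_mul, Matrix.mul_add, Matrix.one_mul, Matrix.mul_one,
      Matrix.add_apply]
    rw [mul_Z_apply ((Zk F k)ᵀ * D1 F k), mul_Z_apply ((Zk F k)ᵀ * Rk F k),
      mul_Z_apply ((Zk F k)ᵀ * D2 F k), mul_Z_apply (D2 F k), ZT_mul_apply (Rk F k),
      ZT_mul_apply (D2 F k)]
    by_cases h : (a : ℕ) + 1 < k
    · simp only [dif_pos h]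
      rw [ZT_mul_apply, ZT_mul_apply, ZT_mul_apply]
      simp only [dif_pos h]
      have ne1 : (⟨(a : ℕ) + 1, h⟩ : Fin k) ≠ a := by
        intro hh
        have := congrArg Fin.val hh
        simp at this
      have e1 : D1 F k ⟨(a : ℕ) + 1, h⟩ ⟨(a : ℕ) + 1, h⟩ = Rk F k ⟨(a : ℕ) + 1, h⟩ a := by
        simp only [Rk, D1, Matrix.of_apply, Matrix.diagonal_apply_eq]
        congr 1
        apply propext
        constructor <;> intro h <;> omega
      have e2 : D2 F k ⟨(a : ℕ) + 1, h⟩ ⟨(a : ℕ) + 1, h⟩ =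
          Rk F k ⟨(a : ℕ) + 1, h⟩ ⟨(a : ℕ) + 1, h⟩ := by
        simp only [Rk, D2, Matrix.of_apply, Matrix.diagonal_apply_eq]
        congr 1
        apply propext
        constructor <;> intro h <;> omega
      have e3 : D2 F k a ⟨(a : ℕ) + 1, h⟩ = 0 := by
        unfold D2
        rw [Matrix.diagonal_apply_ne _ ne1.symm]
      have e4 : D2 F k ⟨(a : ℕ) + 1, h⟩ a = 0 := by
        unfold D2
        rw [Matrix.diagonal_apply_ne _ ne1]
      rw [e1, e2, e3, e4]
      have hx := CharTwo.add_self_eq_zero (Rk F k ⟨(a : ℕ) + 1, h⟩ a)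
      have hy := CharTwo.add_self_eq_zero (Rk F k ⟨(a : ℕ) + 1, h⟩ ⟨(a : ℕ) + 1, h⟩)
      linear_combination hx + hy
    · simp only [dif_neg h]
      simp

theorem qReal_U0 : QReal (Fin k ⊕ Fin k) (U0 F k) := by
  refine ⟨M0 F k, ?_, ?_⟩
  · rw [M0_polar]
    exact K0_unit
  · intro v
    have hΔT : ((U0 F k)ᵀ * M0 F k * U0 F k - M0 F k)ᵀ =
        -((U0 F k)ᵀ * M0 F k * U0 F k - M0 F k) := by
      have h1 : ((U0 F k)ᵀ * M0 F k * U0 F k - M0 F k)ᵀ + ((U0 F k)ᵀ * M0 F k * U0 F k - M0 F k)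
          = (U0 F k)ᵀ * (M0 F k + (M0 F k)ᵀ) * U0 F k - (M0 F k + (M0 F k)ᵀ) := by
        rw [Matrix.transpose_sub, Matrix.transpose_mul, Matrix.transpose_mul,
          Matrix.transpose_transpose, Matrix.mul_add, Matrix.add_mul]
        simp only [Matrix.mul_assoc]
        abel
      rw [M0_polar, U0_inv, sub_self] at h1
      exact eq_neg_of_add_eq_zero_left h1
    have hΔd : ∀ i, ((U0 F k)ᵀ * M0 F k * U0 F k - M0 F k) i i = 0 := by
      intro i
      rw [Matrix.sub_apply, delta_diag, sub_self]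
    have h0 := alt_self _ hΔT hΔd v
    rw [Matrix.sub_mulVec, dotProduct_sub, sub_eq_zero] at h0
    rw [← congr_form, h0]

/-- a Jordan block of even size preserves a quadratic form with nondegenerate polar form in
characteristic two -/
theorem qReal_even (k : ℕ) : QReal (Fin (k + k)) (Cfsg.jordanBlock (k + k) F) := by
  have h1 := qReal_reindex (finSumFinEquiv (m := k) (n := k)) (qReal_U0 (F := F) (k := k))
  obtain ⟨hn, hr⟩ := U0_reg (F := F) (k := k)
  have hn' : (Matrix.reindex (finSumFinEquiv (m := k) (n := k)) finSumFinEquiv (U0 F k) - 1)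
      ^ (k + k) = 0 := by
    rw [reindex_sub_one_pow, hn]
    simp
  have hr' : (Matrix.reindex (finSumFinEquiv (m := k) (n := k)) finSumFinEquiv (U0 F k) - 1).rank
      = k + k - 1 := by
    have := rank_reindex_sub_one_pow (finSumFinEquiv (m := k) (n := k)) (U0 F k) 1
    rw [pow_one, pow_one] at this
    rw [this, hr]
  obtain ⟨hjn, hjr⟩ := jb_reg (F := F) (k + k)
  obtain ⟨h, hh, hhU⟩ := conj_of_reg (Fintype.card_fin (k + k)) hn' hr' hjn hjr
  exact qReal_conj h1 hh hhU

/-- Jordan types of unipotent isometries of quadratic forms in characteristic two -/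
theorem orth2_jordan_types {m t : ℕ} (d : Fin t → ℕ) (hsum : ∑ k, d k = 2 * m) :
    (∃ Q : QuadraticForm F (Fin (2 * m) → F), (QuadraticMap.polarBilin Q).Nondegenerate ∧
      ∃ e : ((k : Fin t) × Fin (d k)) ≃ Fin (2 * m), ∃ A : ↥(Cfsg.isometryGroup F ⇑Q),
        IsConj (Matrix.reindex e e (Cfsg.jordanTypeMatrix d F))
          ((A : Matrix.GeneralLinearGroup (Fin (2 * m)) F) :
            Matrix (Fin (2 * m)) (Fin (2 * m)) F)) ↔
    ∀ j : ℕ, Odd j → Even (Finset.univ.filter (fun k : Fin t => d k = j)).card := by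
  constructor
  · rintro ⟨Q, hQ, e, A, hc⟩ j ⟨i, rfl⟩
    rw [← Fintype.card_subtype]
    obtain ⟨K, hKs, hKd, hKu, hKinv, hAu⟩ := form_of_q Q hQ A
    have hK : Kᵀ = -K := by
      rw [hKs]
      ext a b
      simp [CharTwo.neg_eq]
    have hd : ∀ r, K r r = 0 := by
      intro r
      rw [hKd, CharTwo.add_self_eq_zero]
    have hrk : ∀ s : ℕ, ((JTg F (Fin t) d - 1) ^ s).rank =
        ((((A : Matrix.GeneralLinearGroup (Fin (2 * m)) F) :
          Matrix (Fin (2 * m)) (Fin (2 * m)) F) - 1) ^ s).rank := by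
      intro s
      rw [← rank_pow_of_isConj hc s, rank_reindex_sub_one_pow]
      rfl
    apply even_count_of_even_ranks F d (2 * i + 1) (by omega)
    · rw [hrk]
      have e1 : 2 * i + 1 - 1 = i + i := by omega
      rw [e1]
      exact even_rank_sp hK hd hKu hAu hKinv i
    · rw [hrk]
      have e1 : 2 * i + 1 + 1 = (i + 1) + (i + 1) := by omega
      rw [e1]
      exact even_rank_sp hK hd hKu hAu hKinv (i + 1)
  · intro hpar
    have hreal : QReal ((k : Fin t) × Fin (d k)) (JTg F (Fin t) d) := by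
      apply realize (P := fun I _ _ U => QReal (F := F) I U) qReal_closed Even
        (fun n hn => by obtain ⟨k, rfl⟩ := hn; exact qReal_even k) qReal_pair t (Fin t) d
        (Fintype.card_fin t)
      intro j hj
      rw [Fintype.card_subtype]
      exact hpar j (Nat.not_even_iff_odd.mp hj)
    have hcard : Fintype.card ((k : Fin t) × Fin (d k)) = 2 * m := by
      rw [Fintype.card_sigma, ← hsum]
      simp
    exact q_of_qReal hcard hreal

end char2

end Cfsg.Agent.Lib.Helper6.JT
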