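import Mathlib
import Cfsg.Agent.Lib.Helper6.JTr

set_option autoImplicit false
set_option linter.unusedSectionVars false
set_option linter.unusedVariables false
set_option linter.unusedSimpArgs false

/-! Jordan types of unipotent elements of orthogonal groups in odd characteristic. -/

namespace Cfsg.Agent.Lib.Helper6.JT

open Matrix Module Cfsg.Agent.Lib.Helper6.RegUni

variable {F : Type*} [Field F]

theorem eq_zero_of_rank_eq_zero {I : Type*} [Fintype I] [DecidableEq I] {M : Matrix I I F}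
    (h : M.rank = 0) : M = 0 := by
  unfold Matrix.rank at h
  rw [Submodule.finrank_eq_zero] at h
  ext i j
  have h1 : M *ᵥ Pi.single j 1 ∈ LinearMap.range M.mulVecLin := ⟨_, rfl⟩
  rw [h, Submodule.mem_bot] at h1
  have := congrFun h1 i
  rw [Matrix.mulVec_single_one] at this
  exact this

/-- the Cayley transform of a skew-adjoint matrix is an isometry -/
theorem cay_form {I : Type*} [Fintype I] [DecidableEq I] {K z : Matrix I I F}
    (hz : zᵀ * K = -(K * z)) (hu : IsUnit (1 + z).det) : (cay z)ᵀ * K * cay z = K := by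
  have hut : IsUnit ((1 + z)ᵀ).det := by rw [Matrix.det_transpose]; exact hu
  have ha : (1 + z)ᵀ * K = K * (1 - z) := by
    rw [Matrix.transpose_add, Matrix.transpose_one, Matrix.add_mul, Matrix.one_mul, hz,
      Matrix.mul_sub, Matrix.mul_one, sub_eq_add_neg]
  have hb : (1 - z)ᵀ * K = K * (1 + z) := by
    rw [Matrix.transpose_sub, Matrix.transpose_one, Matrix.sub_mul, Matrix.one_mul, hz,
      Matrix.mul_add, Matrix.mul_one, sub_neg_eq_add]
  have hab : (1 - z) * (1 + z) = (1 + z) * (1 - z) := by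
    simp only [Matrix.sub_mul, Matrix.mul_add, Matrix.mul_sub, Matrix.add_mul, Matrix.one_mul,
      Matrix.mul_one]
    abel
  apply cancel_left hut
  apply cancel_right hu
  calc (1 + z)ᵀ * ((cay z)ᵀ * K * cay z) * (1 + z)
      = (cay z * (1 + z))ᵀ * K * (cay z * (1 + z)) := by
        rw [Matrix.transpose_mul]
        simp only [Matrix.mul_assoc]
    _ = K * ((1 + z) * (1 - z)) := by
        rw [cay_mul z hu, hb, Matrix.mul_assoc]
    _ = (1 + z)ᵀ * K * (1 + z) := by
        rw [ha, Matrix.mul_assoc, hab]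

/-- the symmetric form made skew-adjoint by the shift -/
def K1 (F : Type*) [Field F] (n : ℕ) : Matrix (Fin n) (Fin n) F :=
  Matrix.diagonal (fun a : Fin n => (-1 : F) ^ (a : ℕ)) * Rk F n

theorem K1_apply (n : ℕ) (a b : Fin n) :
    K1 F n a b = if (a : ℕ) + (b : ℕ) + 1 = n then (-1 : F) ^ (a : ℕ) else 0 := by
  unfold K1
  rw [Matrix.diagonal_mul]
  simp only [Rk, Matrix.of_apply]
  split_ifs <;> simp

theorem K1_symm {n : ℕ} (hn : Odd n) : (K1 F n)ᵀ = K1 F n := by
  ext a b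
  rw [Matrix.transpose_apply, K1_apply, K1_apply]
  by_cases h : (a : ℕ) + (b : ℕ) + 1 = n
  · rw [if_pos h, if_pos (by omega)]
    obtain ⟨r, hr⟩ := hn
    have hev : Even ((a : ℕ) + (b : ℕ)) := ⟨r, by omega⟩
    have h1 : (-1 : F) ^ ((a : ℕ) + (b : ℕ)) = 1 := hev.neg_one_pow
    calc (-1 : F) ^ (b : ℕ) = (-1 : F) ^ (b : ℕ) * ((-1 : F) ^ (a : ℕ) * (-1 : F) ^ (a : ℕ)) := by
          rw [← pow_add, Even.neg_one_pow ⟨(a : ℕ), rfl⟩, mul_one]
      _ = (-1 : F) ^ ((a : ℕ) + (b : ℕ)) * (-1 : F) ^ (a : ℕ) := by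
          rw [pow_add]; ring
      _ = (-1 : F) ^ (a : ℕ) := by rw [h1, one_mul]
  · rw [if_neg h, if_neg (by omega)]

theorem K1_unit (n : ℕ) : IsUnit (K1 F n).det := by
  unfold K1
  rw [Matrix.det_mul, Matrix.det_diagonal]
  apply IsUnit.mul
  · rw [isUnit_iff_ne_zero, Finset.prod_ne_zero_iff]
    intro a _
    exact pow_ne_zero _ (neg_ne_zero.mpr one_ne_zero)
  · exact Matrix.isUnit_det_of_right_inverse Rk_sq

theorem ZT_mul_apply' {k : ℕ} (X : Matrix (Fin k) (Fin k) F) (a b : Fin k) :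
    ((Zk F k)ᵀ * X) a b = if h : (a : ℕ) + 1 < k then X ⟨(a : ℕ) + 1, h⟩ b else 0 := by
  rw [Matrix.mul_apply, ← sum_shift (fun c => X c b) (a : ℕ)]
  apply Finset.sum_congr rfl
  intro c _
  rw [Matrix.transpose_apply, Zk_apply]

theorem mul_Z_apply' {k : ℕ} (X : Matrix (Fin k) (Fin k) F) (a b : Fin k) :
    (X * Zk F k) a b = if h : (b : ℕ) + 1 < k then X a ⟨(b : ℕ) + 1, h⟩ else 0 := by
  rw [Matrix.mul_apply, ← sum_shift (fun c => X a c) (b : ℕ)]
  apply Finset.sum_congr rfl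
  intro c _
  rw [Zk_apply, mul_comm]

theorem K1_skew (n : ℕ) : (Zk F n)ᵀ * K1 F n = -(K1 F n * Zk F n) := by
  ext a b
  rw [Matrix.neg_apply, ZT_mul_apply', mul_Z_apply']
  have ha := a.isLt
  have hb := b.isLt
  by_cases h : (a : ℕ) + (b : ℕ) + 2 = n
  · rw [dif_pos (by omega), dif_pos (by omega), K1_apply, K1_apply]
    simp only
    rw [if_pos (by omega), if_pos (by omega), pow_succ]
    ring
  · have h1 : (if h : (a : ℕ) + 1 < n then K1 F n ⟨(a : ℕ) + 1, h⟩ b else 0) = 0 := by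
      split_ifs with h'
      · rw [K1_apply]
        simp only
        rw [if_neg (by omega)]
      · rfl
    have h2 : (if h : (b : ℕ) + 1 < n then K1 F n a ⟨(b : ℕ) + 1, h⟩ else 0) = 0 := by
      split_ifs with h'
      · rw [K1_apply]
        simp only
        rw [if_neg (by omega)]
      · rfl
    rw [h1, h2, neg_zero]

/-- a Jordan block of odd size preserves a nondegenerate symmetric form in odd characteristic -/
theorem qReal_odd (h2 : (2 : F) ≠ 0) {n : ℕ} (hn : Odd n) :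
    QReal (Fin n) (Cfsg.jordanBlock n F) := by
  have hpos : 1 ≤ n := by obtain ⟨r, hr⟩ := hn; omega
  have hcard : Fintype.card (Fin n) = n := Fintype.card_fin n
  obtain ⟨hZn, hZr⟩ := jb_reg (F := F) n
  have hZn' : (Zk F n) ^ n = 0 := hZn
  have hZr' : (Zk F n).rank = n - 1 := hZr
  have hu : IsUnit (1 + Zk F n).det := by
    rw [← Matrix.isUnit_iff_isUnit_det]
    exact IsNilpotent.isUnit_one_add ⟨n, hZn'⟩
  have hform := cay_form (K1_skew (F := F) n) hu
  -- the Cayley transform is realizable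
  have hq : QReal (Fin n) (cay (Zk F n)) := by
    refine ⟨K1 F n, ?_, qinv_of_matrix hform⟩
    rw [K1_symm hn, ← two_smul F (K1 F n), Matrix.det_smul]
    exact ((isUnit_iff_ne_zero.mpr h2).pow _).mul (K1_unit n)
  -- the Cayley transform is regular unipotent
  obtain ⟨v, hv⟩ := exists_cyclic_matrix hcard hpos hZn' hZr'
  have hsU : IsUnit (-((2 : F) • (1 + Zk F n)⁻¹)).det := by
    rw [Matrix.det_neg, Matrix.det_smul]
    exact ((isUnit_one.neg).pow _).mul
      (((isUnit_iff_ne_zero.mpr h2).pow _).mul (Matrix.isUnit_nonsing_inv_det _ hu))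
  have hcomm0 : Zk F n * (1 + Zk F n)⁻¹ = (1 + Zk F n)⁻¹ * Zk F n := by
    apply comm_inv hu
    rw [Matrix.mul_add, Matrix.add_mul, Matrix.mul_one, Matrix.one_mul]
  have hcomm : Zk F n * (-((2 : F) • (1 + Zk F n)⁻¹)) =
      (-((2 : F) • (1 + Zk F n)⁻¹)) * Zk F n := by
    rw [Matrix.mul_neg, Matrix.neg_mul, Matrix.mul_smul, Matrix.smul_mul, hcomm0]
  obtain ⟨hn1, v', hv'⟩ := reg_mul_unit hZn' hv hsU hcomm
  have hys : Zk F n * (-((2 : F) • (1 + Zk F n)⁻¹)) = cay (Zk F n) - 1 := by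
    apply cancel_right hu
    rw [Matrix.sub_mul, cay_mul _ hu, Matrix.one_mul, Matrix.mul_assoc, Matrix.neg_mul,
      Matrix.smul_mul, Matrix.nonsing_inv_mul _ hu, Matrix.mul_neg, Matrix.mul_smul,
      Matrix.mul_one, two_smul]
    abel
  rw [hys] at hn1 hv'
  have hr1 : (cay (Zk F n) - 1).rank = n - 1 := rank_reg hcard hn1 hv'
  obtain ⟨h, hh, hhU⟩ := conj_of_reg hcard hn1 hr1 hZn hZr
  exact qReal_conj hq hh hhU

/-- in a group preserving a nondegenerate symmetric form in odd characteristic, odd powers of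
`A - 1` have even rank when `A` is unipotent -/
theorem even_rank_orth (h2 : (2 : F) ≠ 0) {I : Type*} [Fintype I] [DecidableEq I]
    {K A : Matrix I I F} (hK : Kᵀ = K) (hu : IsUnit K.det) (hA : IsUnit A.det)
    (hinv : Aᵀ * K * A = K) (hnil : IsNilpotent (A - 1)) (i : ℕ) :
    Even ((A - 1) ^ (2 * i + 1)).rank := by
  have hBA : A⁻¹ * A = 1 := Matrix.nonsing_inv_mul _ hA
  have hAB : A * A⁻¹ = 1 := Matrix.mul_nonsing_inv _ hA
  have hAK : Aᵀ * K = K * A⁻¹ := by
    calc Aᵀ * K = Aᵀ * K * (A * A⁻¹) := by rw [hAB, Matrix.mul_one]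
      _ = (Aᵀ * K * A) * A⁻¹ := by simp only [Matrix.mul_assoc]
      _ = K * A⁻¹ := by rw [hinv]
  have hBK : (A⁻¹)ᵀ * K = K * A := by
    have hT : (A⁻¹)ᵀ * Aᵀ = 1 := by rw [← Matrix.transpose_mul, hAB, Matrix.transpose_one]
    calc (A⁻¹)ᵀ * K = (A⁻¹)ᵀ * (Aᵀ * K * A) := by rw [hinv]
      _ = ((A⁻¹)ᵀ * Aᵀ) * K * A := by simp only [Matrix.mul_assoc]
      _ = K * A := by rw [hT, Matrix.one_mul]
  have hMK : (A - A⁻¹)ᵀ * K = K * (-(A - A⁻¹)) := by
    rw [Matrix.transpose_sub, Matrix.sub_mul, hAK, hBK, neg_sub, Matrix.mul_sub]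
  have hpow : ∀ j : ℕ, ((A - A⁻¹)ᵀ) ^ j * K = K * (-(A - A⁻¹)) ^ j := by
    intro j
    induction j with
    | zero => simp
    | succ j ih =>
      rw [pow_succ, Matrix.mul_assoc, hMK, ← Matrix.mul_assoc, ih, Matrix.mul_assoc, ← pow_succ]
  -- `X = K M^j` is alternating for odd `j`
  have hXT : (K * (A - A⁻¹) ^ (2 * i + 1))ᵀ = -(K * (A - A⁻¹) ^ (2 * i + 1)) := by
    rw [Matrix.transpose_mul, hK, Matrix.transpose_pow, hpow, Odd.neg_pow ⟨i, rfl⟩,
      Matrix.mul_neg]
  have hXd : ∀ r, (K * (A - A⁻¹) ^ (2 * i + 1)) r r = 0 := by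
    intro r
    have := congrFun (congrFun hXT r) r
    rw [Matrix.transpose_apply, Matrix.neg_apply] at this
    have h3 : (2 : F) * (K * (A - A⁻¹) ^ (2 * i + 1)) r r = 0 := by
      linear_combination this
    rcases mul_eq_zero.mp h3 with h4 | h4
    · exact absurd h4 h2
    · exact h4
  have hEven := even_rank_of_alt _ hXT hXd
  rw [Matrix.rank_mul_eq_right_of_isUnit_det _ _ hu] at hEven
  -- `M = N * s` with `s` a unit commuting with `N`
  have hNB : (A - 1) * A⁻¹ = A⁻¹ * (A - 1) := by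
    rw [Matrix.sub_mul, Matrix.mul_sub, hAB, hBA, Matrix.one_mul, Matrix.mul_one]
  have hfac : A - A⁻¹ = (A - 1) * (A⁻¹ * (1 + (1 + (A - 1)))) := by
    have e1 : (1 : Matrix I I F) + (1 + (A - 1)) = A + 1 := by abel
    rw [e1, ← Matrix.mul_assoc, hNB, Matrix.mul_assoc]
    have e2 : (A - 1) * (A + 1) = A * A - 1 := by
      rw [Matrix.sub_mul, Matrix.mul_add, Matrix.mul_add, Matrix.one_mul, Matrix.mul_one,
        Matrix.mul_one]
      abel
    rw [e2, Matrix.mul_sub, ← Matrix.mul_assoc, hBA, Matrix.one_mul, Matrix.mul_one]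
  have hsU : IsUnit (A⁻¹ * (1 + (1 + (A - 1)))).det := by
    rw [Matrix.det_mul]
    exact (Matrix.isUnit_nonsing_inv_det _ hA).mul (isUnit_two_add_nil h2 hnil)
  have hcm : Commute (A - 1) (A⁻¹ * (1 + (1 + (A - 1)))) := by
    show _ * _ = _ * _
    rw [← Matrix.mul_assoc, hNB, Matrix.mul_assoc, Matrix.mul_assoc]
    congr 1
    rw [Matrix.mul_add, Matrix.add_mul, Matrix.mul_add, Matrix.add_mul, Matrix.mul_one,
      Matrix.one_mul]
  rw [hfac, hcm.mul_pow] at hEven
  have hsUp : IsUnit ((A⁻¹ * (1 + (1 + (A - 1)))) ^ (2 * i + 1)).det := by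
    rw [Matrix.det_pow]; exact hsU.pow _
  rw [Matrix.rank_mul_eq_left_of_isUnit_det _ _ hsUp] at hEven
  exact hEven

/-- Jordan types of unipotent isometries of quadratic forms in odd characteristic -/
theorem orth_jordan_types (h2 : (2 : F) ≠ 0) {n t : ℕ} (d : Fin t → ℕ) (hsum : ∑ k, d k = n) :
    (∃ Q : QuadraticForm F (Fin n → F), (QuadraticMap.polarBilin Q).Nondegenerate ∧
      ∃ e : ((k : Fin t) × Fin (d k)) ≃ Fin n, ∃ A : ↥(Cfsg.isometryGroup F ⇑Q),
        IsConj (Matrix.reindex e e (Cfsg.jordanTypeMatrix d F))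
          ((A : Matrix.GeneralLinearGroup (Fin n) F) : Matrix (Fin n) (Fin n) F)) ↔
    ∀ j : ℕ, Even j → 0 < j →
      Even (Finset.univ.filter (fun k : Fin t => d k = j)).card := by
  constructor
  · rintro ⟨Q, hQ, e, A, hc⟩ j ⟨i, rfl⟩ hpos
    rw [← Fintype.card_subtype]
    obtain ⟨K, hKs, -, hKu, hKinv, hAu⟩ := form_of_q Q hQ A
    have hrk : ∀ s : ℕ, ((JTg F (Fin t) d - 1) ^ s).rank =
        ((((A : Matrix.GeneralLinearGroup (Fin n) F) :
          Matrix (Fin n) (Fin n) F) - 1) ^ s).rank := by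
      intro s
      rw [← rank_pow_of_isConj hc s, rank_reindex_sub_one_pow]
      rfl
    have hnil : IsNilpotent (((A : Matrix.GeneralLinearGroup (Fin n) F) :
        Matrix (Fin n) (Fin n) F) - 1) := by
      refine ⟨n, eq_zero_of_rank_eq_zero ?_⟩
      rw [← hrk, rank_JTg_pow F _ (Fin t) d rfl]
      apply Finset.sum_eq_zero
      intro k _
      have : d k ≤ ∑ k, d k := Finset.single_le_sum (fun _ _ => Nat.zero_le _) (Finset.mem_univ k)
      omega
    have hi : 1 ≤ i := by omega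
    obtain ⟨i', rfl⟩ : ∃ i', i = i' + 1 := ⟨i - 1, by omega⟩
    apply even_count_of_even_ranks F d (i' + 1 + (i' + 1)) (by omega)
    · rw [hrk]
      have e1 : i' + 1 + (i' + 1) - 1 = 2 * i' + 1 := by omega
      rw [e1]
      exact even_rank_orth h2 hKs hKu hAu hKinv hnil i'
    · rw [hrk]
      have e1 : i' + 1 + (i' + 1) + 1 = 2 * (i' + 1) + 1 := by omega
      rw [e1]
      exact even_rank_orth h2 hKs hKu hAu hKinv hnil (i' + 1)
  · intro hpar
    have hreal : QReal ((k : Fin t) × Fin (d k)) (JTg F (Fin t) d) := by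
      apply realize (P := fun I _ _ U => QReal (F := F) I U) qReal_closed
        (fun n => ¬ (Even n ∧ 0 < n))
        (fun n hn => by
          by_cases h0 : n = 0
          · subst h0
            exact qReal_empty _
          · have : Odd n := by
              rw [← Nat.not_even_iff_odd]
              intro he
              exact hn ⟨he, by omega⟩
            exact qReal_odd h2 this) qReal_pair t (Fin t) d (Fintype.card_fin t)
      intro j hj
      rw [not_not] at hj
      rw [Fintype.card_subtype]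
      exact hpar j hj.1 hj.2
    have hcard : Fintype.card ((k : Fin t) × Fin (d k)) = n := by
      rw [Fintype.card_sigma, ← hsum]
      simp
    exact q_of_qReal hcard hreal

end Cfsg.Agent.Lib.Helper6.JT
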