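import Mathlib
import Cfsg.Agent.Lib.Helper6.KHom6

set_option autoImplicit false
set_option maxHeartbeats 4000000
set_option maxRecDepth 100000
set_option linter.unusedVariables false
set_option linter.unusedSectionVars false
set_option linter.style.longLine false
set_option linter.unusedSimpArgs false
set_option linter.deprecated false
set_option linter.style.haveILetI false

/-! # S0747: the group induced by `N_G(P)` on the fixed points of a Sylow 2-subgroup `P` of a
`k`-point stabilizer which fixes `k+1` points -/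

namespace Cfsg.Agent.Lib.Helper6.KHom

open MulAction SubMulAction Cfsg.Agent.Lib.Helper8.Mil

variable {α : Type*} [Fintype α] [DecidableEq α] (G : Subgroup (Equiv.Perm α))

/-- N4 -/
theorem exists_Y' {k : ℕ} (hG : IsMultiplyPretransitive G α k) (b : ℕ)
    (hl : ∀ T : Finset α, T.card = k → ¬ 2 ^ (b + 1) ∣ Nat.card (fixingSubgroup G (T : Set α)))
    (Δ : Finset α) (hΔ : Δ.card = k + 1)
    (hΔb : 2 ^ b ∣ Nat.card (fixingSubgroup G (Δ : Set α))) :
    ∃ (F : Finset α) (Y : Subgroup (Equiv.Perm {x // x ∈ F})),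
      Δ ⊆ F ∧ IsMultiplyPretransitive Y {x // x ∈ F} k ∧
      (∀ Γ' : Finset {x // x ∈ F}, Γ'.card = k →
        Odd (Nat.card (fixingSubgroup Y (Γ' : Set {x // x ∈ F})))) ∧
      (∀ y ∈ Y, ∃ g : G, ∀ x : {x // x ∈ F}, g • (x : α) = ((y x : {x // x ∈ F}) : α)) := by
  classical
  haveI : Fact (Nat.Prime 2) := ⟨Nat.prime_two⟩
  obtain ⟨T, hTΔ, hT⟩ := Finset.exists_subset_card_eq (s := Δ) (n := k) (by omega)
  have hle : pstab G Δ ≤ pstab G T := pstab_mono G hTΔ
  -- the Sylow subgroup of pstab G Δ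
  obtain ⟨Q'⟩ : Nonempty (Sylow 2 (pstab G Δ)) := inferInstance
  obtain ⟨P, hPdef⟩ : ∃ P : Subgroup (Equiv.Perm α),
      P = (Q' : Subgroup (pstab G Δ)).map (pstab G Δ).subtype := ⟨_, rfl⟩
  have hPleΔ : P ≤ pstab G Δ := by
    rw [hPdef]; rintro _ ⟨u, _, rfl⟩; exact u.2
  have hPle : P ≤ pstab G T := hPleΔ.trans hle
  have hPG : P ≤ G := fun u hu => (hPle hu).1
  have hTpos : Nat.card (pstab G T) ≠ 0 := Nat.card_pos.ne'
  have hΔpos : Nat.card (pstab G Δ) ≠ 0 := Nat.card_pos.ne'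
  have hPc0 : Nat.card P = 2 ^ (Nat.card (pstab G Δ)).factorization 2 := by
    rw [hPdef, Subgroup.card_map_of_injective (Subgroup.subtype_injective _),
      Q'.card_eq_multiplicity]
  have hbc : b ≤ (Nat.card (pstab G Δ)).factorization 2 := by
    rw [card_pstab]
    exact (Nat.Prime.pow_dvd_iff_le_factorization Nat.prime_two
      (by rw [← card_pstab]; exact hΔpos)).mp hΔb
  have hPdvd : Nat.card P ∣ Nat.card (pstab G T) := Subgroup.card_dvd_of_le hPle
  have hcb : (Nat.card (pstab G Δ)).factorization 2 ≤ b := by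
    by_contra hlt
    have h1 : 2 ^ (b + 1) ∣ Nat.card P := by
      rw [hPc0]; exact pow_dvd_pow 2 (by omega)
    have h2 := dvd_trans h1 hPdvd
    rw [card_pstab] at h2
    exact hl T hT h2
  have hPc : Nat.card P = 2 ^ b := by rw [hPc0]; congr 1; omega
  have hfacT : (Nat.card (pstab G T)).factorization 2 = b := by
    have h1 : b ≤ (Nat.card (pstab G T)).factorization 2 :=
      (Nat.Prime.pow_dvd_iff_le_factorization Nat.prime_two hTpos).mp (hPc ▸ hPdvd)
    have h2 : ¬ b + 1 ≤ (Nat.card (pstab G T)).factorization 2 := by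
      intro h
      have := (Nat.Prime.pow_dvd_iff_le_factorization Nat.prime_two hTpos).mpr h
      rw [card_pstab] at this
      exact hl T hT this
    omega
  -- `P` as a Sylow subgroup of `pstab G T`
  have hcardsub : Nat.card (P.subgroupOf (pstab G T)) =
      2 ^ (Nat.card (pstab G T)).factorization 2 := by
    rw [Nat.card_congr (Subgroup.subgroupOfEquivOfLe hPle).toEquiv, hPc, hfacT]
  let P' : Sylow 2 (pstab G T) := Sylow.ofCard (P.subgroupOf (pstab G T)) hcardsub
  have hP' : P = (P' : Subgroup (pstab G T)).map (pstab G T).subtype := by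
    show P = (P.subgroupOf (pstab G T)).map (pstab G T).subtype
    rw [Subgroup.map_subgroupOf_eq_of_le hPle]
  refine ⟨fixF P, ?_⟩
  have hΔF : Δ ⊆ fixF P := by
    intro x hx
    rw [mem_fixF]
    intro u hu
    exact (hPleΔ hu).2 x hx
  obtain ⟨A, hAdef⟩ : ∃ A : Subgroup (Equiv.Perm α),
      A = G ⊓ Subgroup.normalizer (P : Set (Equiv.Perm α)) := ⟨_, rfl⟩
  have hAG : ∀ n ∈ A, n ∈ G := fun n hn => by rw [hAdef] at hn; exact hn.1
  have hAN : ∀ n ∈ A, n ∈ Subgroup.normalizer (P : Set (Equiv.Perm α)) :=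
    fun n hn => by rw [hAdef] at hn; exact hn.2
  have hAmem : ∀ n, n ∈ G → n ∈ Subgroup.normalizer (P : Set (Equiv.Perm α)) → n ∈ A :=
    fun n h1 h2 => by rw [hAdef]; exact ⟨h1, h2⟩
  have hAF : ∀ n ∈ A, ∀ x ∈ fixF P, n x ∈ fixF P :=
    fun n hn x hx => normalizer_smul_mem_fixF (hAN n hn) hx
  refine ⟨(restrictHom A (fixF P) hAF).range, hΔF, ?_, ?_, ?_⟩
  · -- k-transitivity (Witt)
    refine ⟨fun x y => ?_⟩
    let x' : Fin k ↪ α := x.trans (Function.Embedding.subtype _)
    let y' : Fin k ↪ α := y.trans (Function.Embedding.subtype _)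
    have hx' : ∀ u ∈ P, ∀ i, u (x' i) = x' i := fun u hu i => mem_fixF.mp (x i).2 u hu
    have hy' : ∀ u ∈ P, ∀ i, u (y' i) = y' i := fun u hu i => mem_fixF.mp (y i).2 u hu
    obtain ⟨n, hnG, hnN, hn⟩ := witt G hG T hT P' P hP' x' y' hx' hy'
    refine ⟨⟨restrictHom A (fixF P) hAF ⟨n, hAmem n hnG hnN⟩,
      MonoidHom.mem_range.mpr ⟨_, rfl⟩⟩, ?_⟩
    apply Function.Embedding.ext
    intro i
    apply Subtype.ext
    exact hn i
  · -- odd stabilizers
    intro Γ' hΓ'
    apply odd_card_of_odd_orderOf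
    rintro ⟨⟨y, n, rfl⟩, hy⟩
    have hfix : ∀ w ∈ Γ', restrictHom A (fixF P) hAF n w = w := by
      intro w hw
      have := (mem_fixingSubgroup_iff _).mp hy w (Finset.mem_coe.mpr hw)
      exact this
    let Γ'' : Finset α := Γ'.map (Function.Embedding.subtype _)
    have hΓ''c : Γ''.card = k := by rw [Finset.card_map]; exact hΓ'
    have hΓ''F : Γ'' ⊆ fixF P := by
      intro z hz
      obtain ⟨w, _, rfl⟩ := Finset.mem_map.mp hz
      exact w.2
    have hnfix : ∀ x ∈ Γ'', n.1 x = x := by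
      intro x hx
      obtain ⟨w, hw, rfl⟩ := Finset.mem_map.mp hx
      exact congrArg Subtype.val (hfix w hw)
    obtain ⟨j, hj, hjP⟩ := Cfsg.Agent.Lib.Helper9.KHom.odd_of_fix G b P hPG hPc Γ'' hΓ''F
      (hl Γ'' hΓ''c) n.1 (hAG _ n.2) (hAN _ n.2) hnfix
    have hpow : (restrictHom A (fixF P) hAF n) ^ j = 1 := by
      rw [← map_pow]
      ext x
      rw [restrictHom_apply]
      have : ((n ^ j : A) : Equiv.Perm α) = n.1 ^ j := rfl
      rw [this]
      exact mem_fixF.mp x.2 _ hjP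
    have hpow' : (⟨⟨restrictHom A (fixF P) hAF n, MonoidHom.mem_range.mpr ⟨n, rfl⟩⟩, hy⟩ :
        fixingSubgroup (restrictHom A (fixF P) hAF).range
          (Γ' : Set {x // x ∈ fixF P})) ^ j = 1 := by
      apply Subtype.ext
      apply Subtype.ext
      exact hpow
    exact Odd.of_dvd_nat hj (orderOf_dvd_of_pow_eq_one hpow')
  · -- link to G
    rintro y ⟨n, rfl⟩
    exact ⟨⟨n.1, hAG _ n.2⟩, fun x => rfl⟩

end Cfsg.Agent.Lib.Helper6.KHom
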