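import Mathlib
import Cfsg.Agent.Lib.Helper1.Wl18
import Cfsg.Agent.Lib.Helper1.Wl6
import Cfsg.Agent.Lib.Helper4.KHomE

set_option autoImplicit false
set_option maxHeartbeats 4000000
set_option maxRecDepth 100000
set_option linter.unusedVariables false
set_option linter.unusedSectionVars false
set_option linter.style.longLine false
set_option linter.unusedSimpArgs false
set_option linter.deprecated false
set_option linter.style.haveILetI false

namespace Cfsg.Agent.Lib.Helper6.KHom

open MulAction SubMulAction Cfsg.Agent.Lib.Helper7.Sharp4 Cfsg.Agent.Lib.Helper1.Wl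
open scoped Pointwise Nat

variable {β : Type*} [Fintype β] [DecidableEq β] (Y : Subgroup (Equiv.Perm β))

theorem k6_false_of_seven_le {k : ℕ} (hk : 7 ≤ k) (hcard : Fintype.card β = k + 6)
    (ht : IsMultiplyPretransitive Y β (k - 1))
    (hrig : ∀ Γ : Finset β, Γ.card = k - 1 → fixingSubgroup Y (Γ : Set β) = ⊥) : False := by
  classical
  obtain ⟨S, hS⟩ := exists_finset_card (α := β) (j := k - 7) (by omega)
  have hfin : Finite (S : Set β) := Finset.finite_toSet S |>.to_subtype
  haveI : Fintype (ofFixingSubgroup Y (S : Set β)) := Fintype.ofFinite _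
  have hc : Fintype.card (ofFixingSubgroup Y (S : Set β)) = 13 := by
    rw [← Nat.card_eq_fintype_card, natCard_ofFixingSubgroup, hS]; omega
  have h6 : IsMultiplyPretransitive (fixingSubgroup Y (S : Set β))
      (ofFixingSubgroup Y (S : Set β)) 6 := by
    haveI := ht
    exact SubMulAction.ofFixingSubgroup.isMultiplyPretransitive (n := k - 1) Y (S : Set β)
      (by rw [Set.ncard_coe_finset, hS]; omega)
  refine Cfsg.Agent.Lib.Helper4.KHom.no_sharp_13 (X := fixingSubgroup Y (S : Set β))
    (Ω := ofFixingSubgroup Y (S : Set β)) hc h6 ?_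
  intro g s hs hg
  obtain ⟨s', hs's, hs'⟩ := Finset.exists_subset_card_eq hs
  let P : Finset β := s'.map (Function.Embedding.subtype _)
  have hdisj : Disjoint S P := by
    rw [Finset.disjoint_right]
    intro y hy
    obtain ⟨w, _, rfl⟩ := Finset.mem_map.mp hy
    exact val_notMem Y S w
  obtain ⟨hcard', hmem⟩ := transfer_fix Y S g P hdisj (by
    intro y hy
    obtain ⟨w, hw, rfl⟩ := Finset.mem_map.mp hy
    exact congrArg Subtype.val (hg w (hs's hw)))
  have hPc : P.card = 6 := by rw [Finset.card_map]; exact hs'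
  rw [hPc, hS] at hcard'
  have := hrig (S ∪ P) (by rw [hcard']; omega)
  rw [this] at hmem
  exact Subtype.ext (Subgroup.mem_bot.mp hmem)

theorem k6_false {k : ℕ} (hk : 5 ≤ k) (hcard : Fintype.card β = k + 6)
    (ht : IsMultiplyPretransitive Y β (k - 1))
    (hh : IsPretransitive Y (Set.powersetCard β k))
    (hrig : ∀ Γ : Finset β, Γ.card = k - 1 → fixingSubgroup Y (Γ : Set β) = ⊥) : False := by
  classical
  by_cases h7 : 7 ≤ k
  · exact k6_false_of_seven_le Y h7 hcard ht hrig
  · obtain ⟨Γ, hΓ⟩ := exists_finset_card (α := β) (j := k - 1) (by omega)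
    obtain ⟨Δ, hΔ⟩ := exists_finset_card (α := β) (j := k) (by omega)
    have h1 := card_mul_factorial Y ht Γ hΓ
    rw [hrig Γ hΓ, Subgroup.card_bot, mul_one, hcard] at h1
    have h2 := card_eq_choose_mul Y hh Δ hΔ
    rw [hcard] at h2
    have hk56 : k = 5 ∨ k = 6 := by omega
    rcases hk56 with rfl | rfl
    · have e1 : (5 + 6 - (5 - 1))! = 5040 := by decide
      have e2 : (5 + 6)! = 39916800 := by decide
      have e3 : (5 + 6).choose 5 = 462 := by decide
      rw [e1, e2] at h1
      rw [e3] at h2
      omega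
    · have e1 : (6 + 6 - (6 - 1))! = 5040 := by decide
      have e2 : (6 + 6)! = 479001600 := by decide
      have e3 : (6 + 6).choose 6 = 924 := by decide
      rw [e1, e2] at h1
      rw [e3] at h2
      omega

end Cfsg.Agent.Lib.Helper6.KHom
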