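import Mathlib
import Cfsg.Agent.Lib.Helper1.Wl18
import Cfsg.Agent.Lib.Helper1.Wl6

set_option autoImplicit false
set_option maxHeartbeats 4000000
set_option maxRecDepth 100000
set_option linter.unusedVariables false
set_option linter.unusedSectionVars false
set_option linter.style.longLine false
set_option linter.unusedSimpArgs false
set_option linter.deprecated false
set_option linter.style.haveILetI false

/-! # Livingstone–Wagner (b), part 5: the Hall bound for `(k-1)`-transitive groups whose
`(k-1)`-point stabilizers have odd order -/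

namespace Cfsg.Agent.Lib.Helper6.KHom

open MulAction SubMulAction Cfsg.Agent.Lib.Helper7.Sharp4 Cfsg.Agent.Lib.Helper1.Wl
open scoped Pointwise Nat

variable {β : Type*} [Fintype β] [DecidableEq β] (Y : Subgroup (Equiv.Perm β))

/-- the hypotheses of M. Hall's theorem for the pointwise stabilizer of a `(k-5)`-set -/
theorem OH_of_frame {k : ℕ} (hk : 5 ≤ k)
    (ht : IsMultiplyPretransitive Y β (k - 1))
    (hodd : ∀ Γ : Finset β, Γ.card = k - 1 →
      Odd (Nat.card (fixingSubgroup Y (Γ : Set β))))
    (S : Finset β) (hS : S.card = k - 5) :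
    OH (fixingSubgroup Y (S : Set β)) (ofFixingSubgroup Y (S : Set β)) := by
  classical
  have hfin : Finite (S : Set β) := Finset.finite_toSet S |>.to_subtype
  refine ⟨?_, ?_, ?_⟩
  · haveI := ht
    exact SubMulAction.ofFixingSubgroup.isMultiplyPretransitive (n := k - 1) Y (S : Set β)
      (by rw [Set.ncard_coe_finset, hS]; omega)
  · intro g a b c e hD ha hb hc he
    have hD' : D4 (a : β) (b : β) (c : β) (e : β) := by
      obtain ⟨h1, h2, h3, h4, h5, h6⟩ := hD
      exact ⟨fun h => h1 (Subtype.ext h), fun h => h2 (Subtype.ext h), fun h => h3 (Subtype.ext h),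
        fun h => h4 (Subtype.ext h), fun h => h5 (Subtype.ext h), fun h => h6 (Subtype.ext h)⟩
    have hdisj : Disjoint S ({(a : β), (b : β), (c : β), (e : β)} : Finset β) := by
      rw [Finset.disjoint_right]
      intro y hy
      simp only [Finset.mem_insert, Finset.mem_singleton] at hy
      rcases hy with rfl | rfl | rfl | rfl
      · exact val_notMem Y S a
      · exact val_notMem Y S b
      · exact val_notMem Y S c
      · exact val_notMem Y S e
    obtain ⟨hcard, hmem⟩ := transfer_fix Y S g _ hdisj (by
      intro y hy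
      simp only [Finset.mem_insert, Finset.mem_singleton] at hy
      rcases hy with rfl | rfl | rfl | rfl
      · exact congrArg Subtype.val ha
      · exact congrArg Subtype.val hb
      · exact congrArg Subtype.val hc
      · exact congrArg Subtype.val he)
    rw [card_four hD', hS] at hcard
    have h1 := hodd _ (by rw [hcard]; omega)
    have h2 : orderOf (⟨(g : Y), hmem⟩ : fixingSubgroup Y _) ∣
        Nat.card (fixingSubgroup Y ((S ∪ {(a : β), (b : β), (c : β), (e : β)} : Finset β) : Set β)) :=
      orderOf_dvd_natCard _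
    rw [Subgroup.orderOf_mk, Subgroup.orderOf_coe] at h2
    exact Odd.of_dvd_nat h1 h2
  · intro g hg
    apply Subtype.ext
    apply Subtype.ext
    ext y
    by_cases hy : y ∈ S
    · exact (mem_fixingSubgroup_iff Y).mp g.2 y (Finset.mem_coe.mpr hy)
    · have := hg ⟨y, fun h => hy (Finset.mem_coe.mp h)⟩
      exact congrArg Subtype.val this

/-- Piece F1 -/
theorem hall_bound' {k : ℕ} (hk : 5 ≤ k) (hcard : k + 1 ≤ Fintype.card β)
    (ht : IsMultiplyPretransitive Y β (k - 1))
    (hodd : ∀ Γ : Finset β, Γ.card = k - 1 →
      Odd (Nat.card (fixingSubgroup Y (Γ : Set β)))) :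
    Fintype.card β = k + 1 ∨ Fintype.card β = k + 2 ∨
      (Fintype.card β = k + 6 ∧
        ∀ Γ : Finset β, Γ.card = k - 1 → fixingSubgroup Y (Γ : Set β) = ⊥) := by
  classical
  obtain ⟨S, hS⟩ := exists_finset_card (α := β) (j := k - 5) (by omega)
  have H := OH_of_frame Y hk ht hodd S hS
  haveI : Fintype (ofFixingSubgroup Y (S : Set β)) := Fintype.ofFinite _
  have hc : Fintype.card (ofFixingSubgroup Y (S : Set β)) = Fintype.card β - (k - 5) := by
    rw [← Nat.card_eq_fintype_card, natCard_ofFixingSubgroup, hS]
  by_cases h7 : 7 ≤ Fintype.card β - (k - 5)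
  · rcases Nat.even_or_odd (Fintype.card β - (k - 5)) with hev | hod
    · exact (even_hall_false H (by rw [hc]; exact hev) (by rw [hc]; exact h7)).elim
    · rcases odd_hall H (by rw [hc]; exact hod) (by rw [hc]; exact h7) with h | ⟨h, hrig⟩
      · rw [hc] at h
        right; left; omega
      · rw [hc] at h
        right; right
        refine ⟨by omega, ?_⟩
        -- a (k-1)-set containing S
        obtain ⟨Γ0, hSΓ0, -, hΓ0⟩ := Finset.exists_subsuperset_card_eq (s := S)
          (t := Finset.univ) (n := k - 1) (Finset.subset_univ _) (by rw [hS]; omega)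
          (by rw [Finset.card_univ]; omega)
        have h4 : (Γ0 \ S).card = 4 := by
          rw [Finset.card_sdiff_of_subset hSΓ0, hΓ0, hS]; omega
        let e4 := ((Γ0 \ S).equivFinOfCardEq h4).symm
        have hmem4 : ∀ i : Fin 4, (e4 i : β) ∈ Γ0 ∧ (e4 i : β) ∉ S :=
          fun i => Finset.mem_sdiff.mp (e4 i).2
        let p : Fin 4 → ofFixingSubgroup Y (S : Set β) :=
          fun i => ⟨(e4 i : β), fun h => (hmem4 i).2 (Finset.mem_coe.mp h)⟩
        have hpinj : ∀ i j : Fin 4, i ≠ j → p i ≠ p j := by
          intro i j hij h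
          apply hij
          have h1 : ((p i : ofFixingSubgroup Y (S : Set β)) : β) = (p j : β) := congrArg Subtype.val h
          exact e4.injective (Subtype.ext h1)
        have hD : D4 (p 0) (p 1) (p 2) (p 3) :=
          ⟨hpinj _ _ (by decide), hpinj _ _ (by decide), hpinj _ _ (by decide),
            hpinj _ _ (by decide), hpinj _ _ (by decide), hpinj _ _ (by decide)⟩
        have hbot : fixingSubgroup Y (Γ0 : Set β) = ⊥ := by
          rw [Subgroup.eq_bot_iff_forall]
          intro g hg
          have hgS : g ∈ fixingSubgroup Y (S : Set β) := by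
            rw [mem_fixingSubgroup_iff]
            intro y hy
            exact (mem_fixingSubgroup_iff Y).mp hg y (Finset.mem_coe.mpr (hSΓ0 (Finset.mem_coe.mp hy)))
          have hfix : ∀ i : Fin 4, (⟨g, hgS⟩ : fixingSubgroup Y (S : Set β)) • p i = p i := by
            intro i
            apply Subtype.ext
            exact (mem_fixingSubgroup_iff Y).mp hg _ (Finset.mem_coe.mpr (hmem4 i).1)
          have := hrig ⟨g, hgS⟩ (p 0) (p 1) (p 2) (p 3) hD (hfix 0) (hfix 1) (hfix 2) (hfix 3)
          exact congrArg Subtype.val this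
        have hh1 : IsPretransitive Y (Set.powersetCard β (k - 1)) :=
          Set.powersetCard.isPretransitive_of_isMultiplyPretransitive _ ht
        intro Γ hΓ
        apply Subgroup.eq_bot_of_card_le
        rw [card_fixingSubgroup_const Y hh1 hΓ0 hΓ, hbot, Subgroup.card_bot]
  · left
    omega

end Cfsg.Agent.Lib.Helper6.KHom
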