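import Mathlib
import Cfsg.Agent.Lib.Helper6.KHom8

set_option autoImplicit false
set_option maxHeartbeats 4000000
set_option linter.unusedVariables false
set_option linter.unusedSectionVars false
set_option linter.style.longLine false
set_option linter.unusedSimpArgs false

/-! # S0747: transferring "induces the alternating group" from `Y ≤ Perm F` to `G` -/

namespace Cfsg.Agent.Lib.Helper6.KHom

open MulAction

/-- N5a -/
theorem induces_of_alt_le {β : Type*} [Fintype β] [DecidableEq β] (Y : Subgroup (Equiv.Perm β))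
    (hY : alternatingGroup β ≤ Y) (Δ : Finset β) :
    ∀ σ : Equiv.Perm ↥Δ, σ ∈ alternatingGroup ↥Δ → ∃ y ∈ Y, ∀ x : ↥Δ, y (x : β) = σ x := by
  intro σ hσ
  refine ⟨Equiv.Perm.ofSubtype σ, hY ?_, fun x => Equiv.Perm.ofSubtype_apply_coe σ x⟩
  rw [Equiv.Perm.mem_alternatingGroup, Equiv.Perm.sign_ofSubtype]
  exact Equiv.Perm.mem_alternatingGroup.mp hσ

variable {α : Type*} [Fintype α] [DecidableEq α] (G : Subgroup (Equiv.Perm α))

/-- N5b -/
theorem inducesAlt_of_Y (F : Finset α) (Y : Subgroup (Equiv.Perm {x // x ∈ F}))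
    (hYG : ∀ y ∈ Y, ∃ g : G, ∀ x : {x // x ∈ F}, g • (x : α) = ((y x : {x // x ∈ F}) : α))
    (Δ' : Finset {x // x ∈ F})
    (hΔ' : ∀ σ : Equiv.Perm ↥Δ', σ ∈ alternatingGroup ↥Δ' →
      ∃ y ∈ Y, ∀ x : ↥Δ', y (x : {x // x ∈ F}) = σ x) :
    InducesAlt G (Δ'.map (Function.Embedding.subtype _)) := by
  classical
  -- the equivalence between `Δ'` and its image
  let f : ↥Δ' → ↥(Δ'.map (Function.Embedding.subtype (· ∈ F))) :=
    fun x => ⟨((x : {x // x ∈ F}) : α), Finset.mem_map.mpr ⟨x.1, x.2, rfl⟩⟩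
  have hf : Function.Bijective f := by
    constructor
    · intro x x' h
      have h1 : ((f x : ↥(Δ'.map (Function.Embedding.subtype (· ∈ F)))) : α) = (f x' : α) :=
        congrArg Subtype.val h
      exact Subtype.ext (Subtype.ext h1)
    · rintro ⟨z, hz⟩
      obtain ⟨w, hw, rfl⟩ := Finset.mem_map.mp hz
      exact ⟨⟨w, hw⟩, rfl⟩
  let e : ↥Δ' ≃ ↥(Δ'.map (Function.Embedding.subtype (· ∈ F))) := Equiv.ofBijective f hf
  have he : ∀ x : ↥Δ', ((e x : ↥(Δ'.map (Function.Embedding.subtype (· ∈ F)))) : α) =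
      ((x : {x // x ∈ F}) : α) := fun x => rfl
  intro σ hσ
  have hσ' : e.symm.permCongr σ ∈ alternatingGroup ↥Δ' := by
    rw [Equiv.Perm.mem_alternatingGroup, Equiv.Perm.sign_permCongr]
    exact Equiv.Perm.mem_alternatingGroup.mp hσ
  obtain ⟨y, hyY, hy⟩ := hΔ' _ hσ'
  obtain ⟨g, hg⟩ := hYG y hyY
  refine ⟨g.1, g.2, fun z => ?_⟩
  have h1 := hg (e.symm z : ↥Δ')
  have h2 := hy (e.symm z)
  have h3 : (((e.symm z : ↥Δ') : {x // x ∈ F}) : α) = (z : α) := by
    rw [← he (e.symm z), Equiv.apply_symm_apply]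
  have h4 : (((e.symm.permCongr σ) (e.symm z) : ↥Δ') : {x // x ∈ F}) =
      ((e.symm (σ z) : ↥Δ') : {x // x ∈ F}) := by
    rw [Equiv.permCongr_apply]
    simp
  have h5 : (((e.symm (σ z) : ↥Δ') : {x // x ∈ F}) : α) = ((σ z : ↥(Δ'.map _)) : α) := by
    rw [← he (e.symm (σ z)), Equiv.apply_symm_apply]
  rw [h3] at h1
  show g.1 (z : α) = _
  calc g.1 (z : α) = g • (z : α) := rfl
    _ = ((y (e.symm z : ↥Δ') : {x // x ∈ F}) : α) := h1
    _ = _ := by rw [h2, h4, h5]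

end Cfsg.Agent.Lib.Helper6.KHom
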