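import Mathlib
import Cfsg.Agent.Lib.Helper6.KHom5
import Cfsg.Agent.Lib.Helper6.KHom8
import Cfsg.Agent.Lib.Helper6.KHom9
import Cfsg.Agent.Lib.Helper6.KHom10
import Cfsg.Agent.Lib.Helper2.KHomF2
import Cfsg.Agent.Lib.Helper6.KHom13
import Cfsg.Agent.Lib.Helper4.KHomN6
import Cfsg.Agent.Lib.Helper5.KHomN3
import Cfsg.Agent.Lib.Helper1.Wl9

set_option autoImplicit false
set_option maxHeartbeats 4000000
set_option maxRecDepth 100000
set_option linter.unusedVariables false
set_option linter.unusedSectionVars false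
set_option linter.style.longLine false
set_option linter.unusedSimpArgs false
set_option linter.deprecated false

/-! # S0747: assembly -/

namespace Cfsg.Agent.Lib.Helper6.KHom

open MulAction SubMulAction Cfsg.Agent.Lib.Helper8.Mil
open scoped Pointwise

variable {α : Type*} [Fintype α] [DecidableEq α] (G : Subgroup (Equiv.Perm α))

open Cfsg.Agent.Lib.Helper1.Wl in
/-- N7: assembly of S0747 -/
theorem exists_inducesAlt {k : ℕ} (hk : 4 ≤ k) (hkn : k < Fintype.card α)
    (hG : IsMultiplyPretransitive G α k) :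
    ∃ Δ : Finset α, Δ.card = k + 1 ∧ InducesAlt G Δ := by
  classical
  have hhk : IsPretransitive G (Set.powersetCard α k) :=
    Set.powersetCard.isPretransitive_of_isMultiplyPretransitive _ hG
  obtain ⟨T0, hT0⟩ := exists_finset_card (α := α) (j := k) (by omega)
  obtain ⟨lam, hlam⟩ : ∃ lam : ℕ, lam = Nat.card (fixingSubgroup G (T0 : Set α)) := ⟨_, rfl⟩
  have hlampos : lam ≠ 0 := by rw [hlam]; exact Nat.card_pos.ne'
  obtain ⟨b, hbdef⟩ : ∃ b : ℕ, b = lam.factorization 2 := ⟨_, rfl⟩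
  have hb : ∀ T : Finset α, T.card = k →
      2 ^ b ∣ Nat.card (fixingSubgroup G (T : Set α)) := by
    intro T hT
    rw [card_fixingSubgroup_const G hhk hT0 hT, ← hlam, hbdef]
    exact Nat.ordProj_dvd lam 2
  have hl : ∀ T : Finset α, T.card = k →
      ¬ 2 ^ (b + 1) ∣ Nat.card (fixingSubgroup G (T : Set α)) := by
    intro T hT
    rw [card_fixingSubgroup_const G hhk hT0 hT, ← hlam, hbdef]
    exact Nat.pow_succ_factorization_not_dvd hlampos Nat.prime_two
  by_cases hI : ∃ Δ : Finset α, Δ.card = k + 1 ∧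
      2 ^ b ∣ Nat.card (fixingSubgroup G (Δ : Set α))
  · obtain ⟨Δ, hΔ, hΔb⟩ := hI
    obtain ⟨F, Y, hΔF, hYt, hYodd, hYG⟩ := exists_Y' G hG b hl Δ hΔ hΔb
    have hFcard : k + 1 ≤ F.card := by
      rw [← hΔ]; exact Finset.card_le_card hΔF
    -- the preimage of Δ in F
    have hmapΔ : (Δ.subtype (· ∈ F)).map (Function.Embedding.subtype _) = Δ := by
      rw [Finset.subtype_map]
      exact Finset.filter_true_of_mem (fun x hx => hΔF hx)
    -- the case Alt ≤ Y
    have hfromAlt : alternatingGroup {x // x ∈ F} ≤ Y → ∃ Δ : Finset α, Δ.card = k + 1 ∧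
        InducesAlt G Δ := by
      intro hAlt
      refine ⟨Δ, hΔ, ?_⟩
      have := inducesAlt_of_Y G F Y hYG (Δ.subtype (· ∈ F))
        (induces_of_alt_le Y hAlt (Δ.subtype (· ∈ F)))
      rw [hmapΔ] at this
      exact this
    by_cases hF1 : F.card = k + 1
    · -- Y = ⊤
      apply hfromAlt
      have hc : Nat.card {x // x ∈ F} - 1 = k := by
        rw [Nat.card_eq_fintype_card, Fintype.card_coe, hF1]; rfl
      have htop : Y = ⊤ := by
        apply Equiv.Perm.eq_top_of_isMultiplyPretransitive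
        rw [hc]; exact hYt
      rw [htop]; exact le_top
    · have hk5 : 5 ≤ k + 1 := by omega
      have hYt' : IsMultiplyPretransitive Y {x // x ∈ F} (k + 1 - 1) := by
        rw [Nat.add_sub_cancel]; exact hYt
      have hYodd' : ∀ Γ : Finset {x // x ∈ F}, Γ.card = k + 1 - 1 →
          Odd (Nat.card (fixingSubgroup Y (Γ : Set {x // x ∈ F}))) := by
        intro Γ hΓ; rw [Nat.add_sub_cancel] at hΓ; exact hYodd Γ hΓ
      have hFc : k + 1 + 1 ≤ Fintype.card {x // x ∈ F} := by
        rw [Fintype.card_coe]; omega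
      rcases hall_bound' Y hk5 hFc hYt' hYodd' with h | h | ⟨h, hrig⟩
      · apply hfromAlt
        rw [Cfsg.Agent.Lib.Helper2.KHom.alt_of_small Y hk5 (Or.inl h) hYt' hYodd']
      · apply hfromAlt
        rw [Cfsg.Agent.Lib.Helper2.KHom.alt_of_small Y hk5 (Or.inr h) hYt' hYodd']
      · by_cases hk6 : 7 ≤ k + 1
        · exact (Cfsg.Agent.Lib.Helper6.KHom.k6_false_of_seven_le Y hk6 h hYt' hrig).elim
        · have hk56 : k + 1 = 5 ∨ k + 1 = 6 := by omega
          obtain ⟨Δ', hΔ'c, hΔ'⟩ := Cfsg.Agent.Lib.Helper5.KHom.exists_induces_sharp Y hk56 h hYt' hrig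
          refine ⟨Δ'.map (Function.Embedding.subtype _), ?_, inducesAlt_of_Y G F Y hYG Δ' hΔ'⟩
          rw [Finset.card_map]; exact hΔ'c
  · have hII : ∀ Δ : Finset α, Δ.card = k + 1 →
        ¬ 2 ^ b ∣ Nat.card (fixingSubgroup G (Δ : Set α)) := by
      intro Δ hΔ h
      exact hI ⟨Δ, hΔ, h⟩
    exact Cfsg.Agent.Lib.Helper4.KHom.exists_inducesAlt_of_max G (by omega) hkn hG b hb hII

end Cfsg.Agent.Lib.Helper6.KHom
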