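import Mathlib
import Cfsg.Agent.Lib.Helper6.KHom2
import Cfsg.Agent.Lib.Helper4.KHomB
import Cfsg.Agent.Lib.Helper1.Wl6

set_option autoImplicit false
set_option maxHeartbeats 4000000
set_option maxRecDepth 100000
set_option linter.unusedVariables false
set_option linter.unusedSectionVars false
set_option linter.style.longLine false
set_option linter.unusedSimpArgs false
set_option linter.deprecated false
set_option linter.style.haveILetI false

namespace Cfsg.Agent.Lib.Helper6.KHom

open MulAction SubMulAction Cfsg.Agent.Lib.Helper1.Wl Cfsg.Agent.Lib.Helper6.KHom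
open scoped Pointwise Nat

variable {α : Type*} [Fintype α] [DecidableEq α] (G : Subgroup (Equiv.Perm α))

/-- the stabilizer of a point in the pointwise stabilizer of `Γ0` -/
theorem card_stab_ofFixing (Γ0 : Finset α) (z : ofFixingSubgroup G (Γ0 : Set α)) :
    Nat.card (stabilizer (fixingSubgroup G (Γ0 : Set α)) z) =
      Nat.card (fixingSubgroup G ((insert (z : α) Γ0 : Finset α) : Set α)) := by
  rw [← Subgroup.card_map_of_injective (Subgroup.subtype_injective (fixingSubgroup G (Γ0 : Set α)))]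
  congr 2
  ext g
  rw [Subgroup.mem_map, mem_fixingSubgroup_iff]
  constructor
  · rintro ⟨m, hm, rfl⟩ y hy
    rcases Finset.mem_insert.mp (Finset.mem_coe.mp hy) with rfl | hy
    · exact congrArg Subtype.val (mem_stabilizer_iff.mp hm)
    · exact (mem_fixingSubgroup_iff G).mp m.2 y (Finset.mem_coe.mpr hy)
  · intro h
    have hgM : g ∈ fixingSubgroup G (Γ0 : Set α) := by
      rw [mem_fixingSubgroup_iff]
      intro y hy
      exact h y (Finset.mem_coe.mpr (Finset.mem_insert_of_mem (Finset.mem_coe.mp hy)))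
    refine ⟨⟨g, hgM⟩, ?_, rfl⟩
    rw [mem_stabilizer_iff]
    apply Subtype.ext
    exact h _ (Finset.mem_coe.mpr (Finset.mem_insert_self _ _))

theorem card_stab2_ofFixing (Γ0 : Finset α) (z w : ofFixingSubgroup G (Γ0 : Set α)) :
    Nat.card (stabilizer (fixingSubgroup G (Γ0 : Set α)) z ⊓
        stabilizer (fixingSubgroup G (Γ0 : Set α)) w :
        Subgroup (fixingSubgroup G (Γ0 : Set α))) =
      Nat.card (fixingSubgroup G ((insert (z : α) (insert (w : α) Γ0) : Finset α) : Set α)) := by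
  rw [← Subgroup.card_map_of_injective (Subgroup.subtype_injective (fixingSubgroup G (Γ0 : Set α)))]
  congr 2
  ext g
  rw [Subgroup.mem_map, mem_fixingSubgroup_iff]
  constructor
  · rintro ⟨m, hm, rfl⟩ y hy
    rcases Finset.mem_insert.mp (Finset.mem_coe.mp hy) with rfl | hy
    · exact congrArg Subtype.val (mem_stabilizer_iff.mp hm.1)
    · rcases Finset.mem_insert.mp hy with rfl | hy
      · exact congrArg Subtype.val (mem_stabilizer_iff.mp hm.2)
      · exact (mem_fixingSubgroup_iff G).mp m.2 y (Finset.mem_coe.mpr hy)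
  · intro h
    have hgM : g ∈ fixingSubgroup G (Γ0 : Set α) := by
      rw [mem_fixingSubgroup_iff]
      intro y hy
      exact h y (Finset.mem_coe.mpr (Finset.mem_insert_of_mem
        (Finset.mem_insert_of_mem (Finset.mem_coe.mp hy))))
    refine ⟨⟨g, hgM⟩, ⟨?_, ?_⟩, rfl⟩
    · refine MulAction.mem_stabilizer_iff.mpr ?_
      apply Subtype.ext
      exact h _ (Finset.mem_coe.mpr (Finset.mem_insert_self _ _))
    · refine MulAction.mem_stabilizer_iff.mpr ?_
      apply Subtype.ext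
      exact h _ (Finset.mem_coe.mpr (Finset.mem_insert_of_mem (Finset.mem_insert_self _ _)))

/-- D+ -/
theorem swap_of_even_at (a : ℕ) (Γ0 : Finset α) (x y : α) (hx : x ∉ Γ0) (hy : y ∉ Γ0) (hxy : x ≠ y)
    (h2 : ∀ z w : α, z ∉ Γ0 → w ∉ Γ0 → z ≠ w →
      ¬ 2 ^ (a + 1) ∣ Nat.card (fixingSubgroup G ((insert z (insert w Γ0) : Finset α) : Set α)))
    (h1 : ∀ z : α, z ∉ Γ0 →
      2 ^ (a + 1) ∣ Nat.card (fixingSubgroup G ((insert z Γ0 : Finset α) : Set α)))
    (h2' : 2 ^ a ∣ Nat.card (fixingSubgroup G ((insert x (insert y Γ0) : Finset α) : Set α))) :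
    ∃ u : G, (∀ z ∈ Γ0, u • z = z) ∧ u • x = y ∧ u • y = x := by
  classical
  let x' : ofFixingSubgroup G (Γ0 : Set α) := ⟨x, fun h => hx (Finset.mem_coe.mp h)⟩
  let y' : ofFixingSubgroup G (Γ0 : Set α) := ⟨y, fun h => hy (Finset.mem_coe.mp h)⟩
  have hxy' : x' ≠ y' := fun h => hxy (congrArg Subtype.val h)
  obtain ⟨u, hu1, hu2⟩ := Cfsg.Agent.Lib.Helper4.KHom.swap_of_two_part'
    (M := fixingSubgroup G (Γ0 : Set α)) (Ω := ofFixingSubgroup G (Γ0 : Set α)) a
    (fun z w hzw => by
      rw [card_stab2_ofFixing]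
      exact h2 _ _ (val_notMem G Γ0 z) (val_notMem G Γ0 w) (fun h => hzw (Subtype.ext h)))
    (fun z => by
      rw [card_stab_ofFixing]
      exact h1 _ (val_notMem G Γ0 z))
    x' y' hxy' (by rw [card_stab2_ofFixing]; exact h2')
  refine ⟨u.1, fun z hz => ?_, congrArg Subtype.val hu1, congrArg Subtype.val hu2⟩
  exact (mem_fixingSubgroup_iff G).mp u.2 z (Finset.mem_coe.mpr hz)

/-- D -/
theorem hasSwaps_of_even {k : ℕ} (hk : 2 ≤ k) (a : ℕ)
    (hκ : ∀ Δ : Finset α, Δ.card = k → 2 ^ a ∣ Nat.card (fixingSubgroup G (Δ : Set α)) ∧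
      ¬ 2 ^ (a + 1) ∣ Nat.card (fixingSubgroup G (Δ : Set α)))
    (hl : ∀ Γ : Finset α, Γ.card = k - 1 →
      2 ^ (a + 1) ∣ Nat.card (fixingSubgroup G (Γ : Set α))) : HasSwaps G k := by
  intro Γ0 hΓ0 x y hx hy hxy
  have hc2 : ∀ z w : α, z ∉ Γ0 → w ∉ Γ0 → z ≠ w → (insert z (insert w Γ0)).card = k := by
    intro z w hz hw hzw
    rw [Finset.card_insert_of_notMem, Finset.card_insert_of_notMem hw]
    · omega
    · intro h
      rcases Finset.mem_insert.mp h with h | h
      · exact hzw h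
      · exact hz h
  have hc1 : ∀ z : α, z ∉ Γ0 → (insert z Γ0).card = k - 1 := by
    intro z hz
    rw [Finset.card_insert_of_notMem hz]; omega
  exact swap_of_even_at G a Γ0 x y hx hy hxy
    (fun z w hz hw hzw => (hκ _ (hc2 z w hz hw hzw)).2)
    (fun z hz => hl _ (hc1 z hz))
    (hκ _ (hc2 x y hx hy hxy)).1

end Cfsg.Agent.Lib.Helper6.KHom
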