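import Mathlib
import Cfsg.Agent.Lib.Helper6.KHom2
import Cfsg.Agent.Lib.Helper1.Wl4

set_option autoImplicit false
set_option maxHeartbeats 4000000
set_option maxRecDepth 100000
set_option linter.unusedVariables false
set_option linter.unusedSectionVars false
set_option linter.style.longLine false
set_option linter.unusedSimpArgs false
set_option linter.deprecated false

/-! # Livingstone–Wagner (b), part 3: all swaps imply `k`-transitivity -/

namespace Cfsg.Agent.Lib.Helper6.KHom

open MulAction Cfsg.Agent.Lib.Helper1.Wl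
open scoped Pointwise

variable {α : Type*} [Fintype α] [DecidableEq α] (G : Subgroup (Equiv.Perm α))

/-- Piece C': swaps on one `k`-set give swaps on all `k`-sets -/
theorem hasSwaps_of_one {k : ℕ} (hk : 2 ≤ k) (hh : IsPretransitive G (Set.powersetCard α k))
    (Δ : Finset α) (hΔ : Δ.card = k)
    (hsΔ : ∀ x ∈ Δ, ∀ y ∈ Δ, x ≠ y →
      ∃ u : G, (∀ z ∈ Δ, z ≠ x → z ≠ y → u • z = z) ∧ u • x = y ∧ u • y = x) :
    HasSwaps G k := by
  intro Γ0 hΓ0 x y hx hy hxy
  have hΔ' : (insert x (insert y Γ0)).card = k := by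
    rw [Finset.card_insert_of_notMem, Finset.card_insert_of_notMem hy]
    · omega
    · intro h
      rcases Finset.mem_insert.mp h with h | h
      · exact hxy h
      · exact hx h
  obtain ⟨g, hg⟩ := homog_exists G hh hΔ hΔ'
  have hmem : ∀ z : α, z ∈ insert x (insert y Γ0) → g⁻¹ • z ∈ Δ := by
    intro z hz
    rw [← hg] at hz
    exact Finset.inv_smul_mem_iff.mpr hz
  have hx' : g⁻¹ • x ∈ Δ := hmem x (Finset.mem_insert_self _ _)
  have hy' : g⁻¹ • y ∈ Δ := hmem y (Finset.mem_insert_of_mem (Finset.mem_insert_self _ _))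
  have hxy' : g⁻¹ • x ≠ g⁻¹ • y := fun h => hxy (smul_left_cancel _ h)
  obtain ⟨u, hu1, hu2, hu3⟩ := hsΔ _ hx' _ hy' hxy'
  refine ⟨g * u * g⁻¹, ?_, ?_, ?_⟩
  · intro z hz
    have hz' : g⁻¹ • z ∈ Δ :=
      hmem z (Finset.mem_insert_of_mem (Finset.mem_insert_of_mem hz))
    have h1 : g⁻¹ • z ≠ g⁻¹ • x := fun h => hx (smul_left_cancel _ h ▸ hz)
    have h2 : g⁻¹ • z ≠ g⁻¹ • y := fun h => hy (smul_left_cancel _ h ▸ hz)
    rw [mul_smul, mul_smul, hu1 _ hz' h1 h2, smul_inv_smul]
  · rw [mul_smul, mul_smul, hu2, smul_inv_smul]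
  · rw [mul_smul, mul_smul, hu3, smul_inv_smul]

/-- every permutation of the indices of a `k`-tuple is induced by `G` -/
theorem exists_perm_of_swaps {k : ℕ} (hk : 2 ≤ k) (hs : HasSwaps G k) (ω : Fin k ↪ α)
    (σ : Equiv.Perm (Fin k)) : ∃ g : G, ∀ i, g • ω i = ω (σ i) := by
  induction σ using Equiv.Perm.swap_induction_on with
  | one => exact ⟨1, fun i => by simp⟩
  | swap_mul f i j hij ih =>
    obtain ⟨gf, hgf⟩ := ih
    -- the swap element
    let Γ0 : Finset α := ((Finset.univ.erase i).erase j).map ω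
    have hcard : Γ0.card + 2 = k := by
      rw [Finset.card_map, Finset.card_erase_of_mem, Finset.card_erase_of_mem (Finset.mem_univ _),
        Finset.card_univ, Fintype.card_fin]
      · omega
      · exact Finset.mem_erase.mpr ⟨hij.symm, Finset.mem_univ _⟩
    have hmemΓ : ∀ m : Fin k, ω m ∈ Γ0 ↔ m ≠ i ∧ m ≠ j := by
      intro m
      rw [Finset.mem_map' ω, Finset.mem_erase, Finset.mem_erase]
      simp only [Finset.mem_univ, and_true]
      tauto
    have hi : ω i ∉ Γ0 := fun h => ((hmemΓ i).mp h).1 rfl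
    have hj : ω j ∉ Γ0 := fun h => ((hmemΓ j).mp h).2 rfl
    have hne : ω i ≠ ω j := fun h => hij (ω.injective h)
    obtain ⟨u, hu1, hu2, hu3⟩ := hs Γ0 hcard (ω i) (ω j) hi hj hne
    have hu : ∀ m : Fin k, u • ω m = ω (Equiv.swap i j m) := by
      intro m
      by_cases hmi : m = i
      · subst hmi; rw [Equiv.swap_apply_left]; exact hu2
      · by_cases hmj : m = j
        · subst hmj; rw [Equiv.swap_apply_right]; exact hu3
        · rw [Equiv.swap_apply_of_ne_of_ne hmi hmj]
          exact hu1 _ ((hmemΓ m).mpr ⟨hmi, hmj⟩)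
    refine ⟨u * gf, fun l => ?_⟩
    rw [mul_smul, hgf, hu, Equiv.Perm.mul_apply]

/-- Piece C: all swaps + `k`-homogeneity imply `k`-transitivity -/
theorem mpt_of_swaps {k : ℕ} (hk : 2 ≤ k) (hh : IsPretransitive G (Set.powersetCard α k))
    (hs : HasSwaps G k) : IsMultiplyPretransitive G α k := by
  refine ⟨fun ω ω' => ?_⟩
  have hc : (Finset.univ.map ω).card = k := by
    rw [Finset.card_map, Finset.card_univ, Fintype.card_fin]
  have hc' : (Finset.univ.map ω').card = k := by
    rw [Finset.card_map, Finset.card_univ, Fintype.card_fin]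
  obtain ⟨g1, hg1⟩ := homog_exists G hh hc hc'
  -- the induced permutation of indices
  have hex : ∀ i : Fin k, ∃ j : Fin k, ω' j = g1 • ω i := by
    intro i
    have h1 : g1 • ω i ∈ g1 • (Finset.univ.map ω) :=
      Finset.smul_mem_smul_finset (Finset.mem_map_of_mem _ (Finset.mem_univ i))
    rw [hg1] at h1
    obtain ⟨j, _, hj⟩ := Finset.mem_map.mp h1
    exact ⟨j, hj⟩
  choose τ hτ using hex
  have hτinj : Function.Injective τ := by
    intro i i' h
    have h1 : g1 • ω i = g1 • ω i' := by rw [← hτ i, ← hτ i', h]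
    exact ω.injective (smul_left_cancel _ h1)
  let σ : Equiv.Perm (Fin k) := Equiv.ofBijective τ (Finite.injective_iff_bijective.mp hτinj)
  obtain ⟨g2, hg2⟩ := exists_perm_of_swaps G hk hs ω' σ⁻¹
  refine ⟨g2 * g1, ?_⟩
  apply Function.Embedding.ext
  intro i
  show (g2 * g1) • ω i = ω' i
  rw [mul_smul, ← hτ i, hg2]
  have : σ⁻¹ (τ i) = i := by
    rw [Equiv.Perm.inv_eq_iff_eq]
    rfl
  rw [this]

end Cfsg.Agent.Lib.Helper6.KHom
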