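import Mathlib
import Cfsg.Agent.Lib.Helper6.KHom3
import Cfsg.Agent.Lib.Helper6.KHom5
import Cfsg.Agent.Lib.Helper6.KHom6
import Cfsg.Agent.Lib.Helper2.KHomF2
import Cfsg.Agent.Lib.Helper2.KHomH
import Cfsg.Agent.Lib.Helper6.KHom12
import Cfsg.Agent.Lib.Helper6.KHom13
import Cfsg.Agent.Lib.Helper1.Wl9
import Cfsg.Agent.Lib.Lead.MultiTrans

set_option autoImplicit false
set_option maxHeartbeats 4000000
set_option maxRecDepth 100000
set_option linter.unusedVariables false
set_option linter.unusedSectionVars false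
set_option linter.style.longLine false
set_option linter.unusedSimpArgs false
set_option linter.deprecated false

/-! # Livingstone–Wagner (b), part 7: assembly -/

namespace Cfsg.Agent.Lib.Helper6.KHom

open MulAction SubMulAction Cfsg.Agent.Lib.Helper8.Mil
open scoped Pointwise

/-- Piece F -/
theorem hall_case {β : Type*} [Fintype β] [DecidableEq β] (Y : Subgroup (Equiv.Perm β))
    {k : ℕ} (hk : 5 ≤ k) (hcard : k + 1 ≤ Fintype.card β)
    (ht : IsMultiplyPretransitive Y β (k - 1))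
    (hh : IsPretransitive Y (Set.powersetCard β k))
    (hodd : ∀ Γ : Finset β, Γ.card = k - 1 →
      Odd (Nat.card (fixingSubgroup Y (Γ : Set β)))) :
    (Fintype.card β = k + 1 ∨ Fintype.card β = k + 2) ∧ Y = alternatingGroup β := by
  rcases hall_bound' Y hk hcard ht hodd with h | h | ⟨h, hrig⟩
  · exact ⟨Or.inl h, Cfsg.Agent.Lib.Helper2.KHom.alt_of_small Y hk (Or.inl h) ht hodd⟩
  · exact ⟨Or.inr h, Cfsg.Agent.Lib.Helper2.KHom.alt_of_small Y hk (Or.inr h) ht hodd⟩
  · exact (Cfsg.Agent.Lib.Helper6.KHom.k6_false Y hk h ht hh hrig).elim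

variable {α : Type*} [Fintype α] [DecidableEq α] (G : Subgroup (Equiv.Perm α))

open Cfsg.Agent.Lib.Helper1.Wl in
/-- Piece I: assembly -/
theorem lw_b {k : ℕ} (hk : 5 ≤ k) (hkn : 2 * k ≤ Fintype.card α)
    (hh : IsPretransitive G (Set.powersetCard α k)) : IsMultiplyPretransitive G α k := by
  have ht : IsMultiplyPretransitive G α (k - 1) :=
    livingstone_wagner_pred G (by omega) hkn hh
  have hh1 : IsPretransitive G (Set.powersetCard α (k - 1)) :=
    Set.powersetCard.isPretransitive_of_isMultiplyPretransitive _ ht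
  by_contra hnt
  obtain ⟨Δ, hΔ⟩ := exists_finset_card (α := α) (j := k) (by omega)
  obtain ⟨Γ, hΓΔ, hΓ⟩ := Finset.exists_subset_card_eq (s := Δ) (n := k - 1) (by omega)
  obtain ⟨κ, hκdef⟩ : ∃ κ : ℕ, κ = Nat.card (fixingSubgroup G (Δ : Set α)) := ⟨_, rfl⟩
  have hκpos : κ ≠ 0 := by rw [hκdef]; exact Nat.card_pos.ne'
  obtain ⟨a, hadef⟩ : ∃ a : ℕ, a = κ.factorization 2 := ⟨_, rfl⟩
  have hκ : ∀ Δ' : Finset α, Δ'.card = k →
      2 ^ a ∣ Nat.card (fixingSubgroup G (Δ' : Set α)) ∧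
      ¬ 2 ^ (a + 1) ∣ Nat.card (fixingSubgroup G (Δ' : Set α)) := by
    intro Δ' h
    rw [card_fixingSubgroup_const G hh hΔ h, ← hκdef, hadef]
    exact ⟨Nat.ordProj_dvd κ 2, Nat.pow_succ_factorization_not_dvd hκpos Nat.prime_two⟩
  by_cases hev : 2 ^ (a + 1) ∣ Nat.card (fixingSubgroup G (Γ : Set α))
  · have hl : ∀ Γ' : Finset α, Γ'.card = k - 1 →
        2 ^ (a + 1) ∣ Nat.card (fixingSubgroup G (Γ' : Set α)) := by
      intro Γ' h
      rw [card_fixingSubgroup_const G hh1 hΓ h]; exact hev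
    exact hnt (mpt_of_swaps G (by omega) hh (Cfsg.Agent.Lib.Helper6.KHom.hasSwaps_of_even G (by omega) a hκ hl))
  · have hl : ∀ Γ' : Finset α, Γ'.card = k - 1 →
        ¬ 2 ^ (a + 1) ∣ Nat.card (fixingSubgroup G (Γ' : Set α)) := by
      intro Γ' h
      rw [card_fixingSubgroup_const G hh1 hΓ h]; exact hev
    obtain ⟨F, Y, hΓF, hfix, hYt, hYh, hYodd, hYG, hFt⟩ :=
      exists_Y G hk (by omega) ht hh a hκ hl Γ hΓ
    -- helper: an element of the fixing subgroup maps the complement of Γ to itself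
    have hout : ∀ (l : G), l ∈ fixingSubgroup G (Γ : Set α) → ∀ b : α, b ∉ Γ → l • b ∉ Γ := by
      intro l hl' b hb hlb
      apply hb
      have h1 : l⁻¹ • (l • b) = l • b :=
        (mem_fixingSubgroup_iff G).mp (Subgroup.inv_mem _ hl') _ (Finset.mem_coe.mpr hlb)
      rw [inv_smul_smul] at h1
      rw [h1]; exact hlb
    -- |F| ≥ k+1
    have hFcard : k + 1 ≤ F.card := by
      by_contra hlt
      have hsd : (F \ Γ).card ≤ 1 := by
        rw [Finset.card_sdiff_of_subset hΓF]; omega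
      apply hnt
      have hfin : Finite ((Γ : Set α)) := Finset.finite_toSet Γ |>.to_subtype
      have h1 : IsMultiplyPretransitive (fixingSubgroup G (Γ : Set α))
          (ofFixingSubgroup G (Γ : Set α)) 1 := by
        rw [is_one_pretransitive_iff]
        refine ⟨fun b b' => ?_⟩
        have hb : (b : α) ∉ Γ := fun h => b.2 (Finset.mem_coe.mpr h)
        have hb' : (b' : α) ∉ Γ := fun h => b'.2 (Finset.mem_coe.mpr h)
        obtain ⟨l, hl1, hl2⟩ := hfix b hb
        obtain ⟨l', hl1', hl2'⟩ := hfix b' hb'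
        have e1 : l • (b : α) ∈ F \ Γ := Finset.mem_sdiff.mpr ⟨hl2, hout l hl1 _ hb⟩
        have e2 : l' • (b' : α) ∈ F \ Γ := Finset.mem_sdiff.mpr ⟨hl2', hout l' hl1' _ hb'⟩
        have e3 : l • (b : α) = l' • (b' : α) := Finset.card_le_one.mp hsd _ e1 _ e2
        refine ⟨⟨l'⁻¹ * l, Subgroup.mul_mem _ (Subgroup.inv_mem _ hl1') hl1⟩, ?_⟩
        apply Subtype.ext
        show (l'⁻¹ * l) • (b : α) = (b' : α)
        rw [mul_smul, e3, inv_smul_smul]
      have h2 := Cfsg.Agent.Lib.Lead.MultiTrans.isMultiplyPretransitive_add (G := G) (Γ : Set α)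
        (k := k - 1) (j := 1) (by rw [Set.ncard_coe_finset, hΓ]) ht h1
      have hk1 : k - 1 + 1 = k := by omega
      rw [hk1] at h2
      exact h2
    have hFc : k + 1 ≤ Fintype.card {x // x ∈ F} := by
      rw [Fintype.card_coe]; exact hFcard
    obtain ⟨hc, hYalt⟩ := hall_case Y hk hFc hYt hYh hYodd
    rw [Fintype.card_coe] at hc
    rcases hc with hc | hc
    · -- |F| = k+1
      have hsd : (F \ Γ).card = 2 := by
        rw [Finset.card_sdiff_of_subset hΓF]; omega
      obtain ⟨a', b', hab', hFΓ⟩ := Finset.card_eq_two.mp hsd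
      have hFne : F ≠ Finset.univ := by
        intro h
        have : F.card = Fintype.card α := by rw [h, Finset.card_univ]
        omega
      rcases hFt with h | ⟨t, htΓ, ht1, ht2⟩
      · exact hFne h
      · apply hnt
        refine mpt_of_swaps G (by omega) hh
          (Cfsg.Agent.Lib.Helper2.KHom.hasSwaps_of_two_orbits G (by omega) (by omega) ht Γ hΓ a' b' ?_ t htΓ ht1 ht2)
        intro z hz
        obtain ⟨l, hl1, hl2⟩ := hfix z hz
        have e1 : l • z ∈ F \ Γ := Finset.mem_sdiff.mpr ⟨hl2, hout l hl1 _ hz⟩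
        rw [hFΓ, Finset.mem_insert, Finset.mem_singleton] at e1
        rcases e1 with e1 | e1
        · left
          exact ⟨l⁻¹, Subgroup.inv_mem _ hl1, by rw [← e1, inv_smul_smul]⟩
        · right
          exact ⟨l⁻¹, Subgroup.inv_mem _ hl1, by rw [← e1, inv_smul_smul]⟩
    · -- |F| = k+2
      have hsd : (F \ Γ).card = 3 := by
        rw [Finset.card_sdiff_of_subset hΓF]; omega
      obtain ⟨a1, a2, a3, h12, h13, h23, hFΓ⟩ := Finset.card_eq_three.mp hsd
      have hmem : ∀ z, z ∈ F \ Γ ↔ z = a1 ∨ z = a2 ∨ z = a3 := by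
        intro z; rw [hFΓ]; simp
      have ha1 : a1 ∈ F ∧ a1 ∉ Γ := Finset.mem_sdiff.mp ((hmem a1).mpr (Or.inl rfl))
      have ha2 : a2 ∈ F ∧ a2 ∉ Γ := Finset.mem_sdiff.mp ((hmem a2).mpr (Or.inr (Or.inl rfl)))
      have ha3 : a3 ∈ F ∧ a3 ∉ Γ := Finset.mem_sdiff.mp ((hmem a3).mpr (Or.inr (Or.inr rfl)))
      apply hnt
      refine mpt_of_swaps G (by omega) hh
        (hasSwaps_of_one G (by omega) hh (insert a1 Γ)
          (by rw [Finset.card_insert_of_notMem ha1.2, hΓ]; omega) ?_)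
      intro x hx y hy hxy
      have hΔF : ∀ z ∈ insert a1 Γ, z ∈ F := by
        intro z hz
        rcases Finset.mem_insert.mp hz with rfl | hz
        · exact ha1.1
        · exact hΓF hz
      have hne2 : ∀ z ∈ insert a1 Γ, z ≠ a2 := by
        intro z hz h
        rcases Finset.mem_insert.mp hz with h' | hz
        · exact h12 (h'.symm.trans h)
        · exact ha2.2 (h ▸ hz)
      have hne3 : ∀ z ∈ insert a1 Γ, z ≠ a3 := by
        intro z hz h
        rcases Finset.mem_insert.mp hz with h' | hz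
        · exact h13 (h'.symm.trans h)
        · exact ha3.2 (h ▸ hz)
      let X' : {x // x ∈ F} := ⟨x, hΔF x hx⟩
      let Y' : {x // x ∈ F} := ⟨y, hΔF y hy⟩
      let A2 : {x // x ∈ F} := ⟨a2, ha2.1⟩
      let A3 : {x // x ∈ F} := ⟨a3, ha3.1⟩
      have hXY : X' ≠ Y' := fun h => hxy (congrArg Subtype.val h)
      have hA : A2 ≠ A3 := fun h => h23 (congrArg Subtype.val h)
      have hσ : Equiv.swap X' Y' * Equiv.swap A2 A3 ∈ Y := by
        rw [hYalt, Equiv.Perm.mem_alternatingGroup, map_mul, Equiv.Perm.sign_swap hXY,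
          Equiv.Perm.sign_swap hA]
        decide
      obtain ⟨g, hg⟩ := hYG _ hσ
      have hXA2 : X' ≠ A2 := fun h => hne2 x hx (congrArg Subtype.val h)
      have hXA3 : X' ≠ A3 := fun h => hne3 x hx (congrArg Subtype.val h)
      have hYA2 : Y' ≠ A2 := fun h => hne2 y hy (congrArg Subtype.val h)
      have hYA3 : Y' ≠ A3 := fun h => hne3 y hy (congrArg Subtype.val h)
      refine ⟨g, ?_, ?_, ?_⟩
      · intro z hz hzx hzy
        have h1 := hg ⟨z, hΔF z hz⟩
        rw [h1, Equiv.Perm.mul_apply]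
        have hz2 : (⟨z, hΔF z hz⟩ : {x // x ∈ F}) ≠ A2 := fun h => hne2 z hz (congrArg Subtype.val h)
        have hz3 : (⟨z, hΔF z hz⟩ : {x // x ∈ F}) ≠ A3 := fun h => hne3 z hz (congrArg Subtype.val h)
        rw [Equiv.swap_apply_of_ne_of_ne hz2 hz3]
        have hzX : (⟨z, hΔF z hz⟩ : {x // x ∈ F}) ≠ X' := fun h => hzx (congrArg Subtype.val h)
        have hzY : (⟨z, hΔF z hz⟩ : {x // x ∈ F}) ≠ Y' := fun h => hzy (congrArg Subtype.val h)
        rw [Equiv.swap_apply_of_ne_of_ne hzX hzY]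
      · have h1 := hg X'
        rw [Equiv.Perm.mul_apply, Equiv.swap_apply_of_ne_of_ne hXA2 hXA3,
          Equiv.swap_apply_left] at h1
        exact h1
      · have h1 := hg Y'
        rw [Equiv.Perm.mul_apply, Equiv.swap_apply_of_ne_of_ne hYA2 hYA3,
          Equiv.swap_apply_right] at h1
        exact h1

end Cfsg.Agent.Lib.Helper6.KHom
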