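import Cfsg.Agent.Lib.Helper7.KInfNormal2

/-!
# Shared definitions for the K-infinity chief-factor argument (S1982 / S1983)
-/

set_option autoImplicit false

namespace Cfsg.Agent.Lib.Helper6.KInfDefs

open Cfsg

universe u

variable {G : Type u} [Group G]

/-- `M` acts on `X` as a `p`-group: every element of `M` has a `p`-power in `C_G(X)`. -/
def PAct (p : ℕ) (M X : Subgroup G) : Prop :=
  ∀ m ∈ M, ∃ k : ℕ, m ^ p ^ k ∈ Subgroup.centralizer (X : Set G)

/-- Subnormal subgroups. -/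
inductive Subn : Subgroup G → Prop
  | top : Subn ⊤
  | step (H K : Subgroup G) : Subn K → H ≤ K → K ≤ Subgroup.normalizer (H : Set G) → Subn H

/-- `X₀` is minimal among the `H`-invariant subgroups properly containing `Y`. -/
def IsMinOver (H X₀ Y : Subgroup G) : Prop :=
  Y < X₀ ∧ H ≤ Subgroup.normalizer (X₀ : Set G) ∧
    ∀ X₁ : Subgroup G, Y < X₁ → X₁ ≤ X₀ → H ≤ Subgroup.normalizer (X₁ : Set G) → X₁ = X₀

/-- The four facts that drive the K-infinity induction. -/
structure KHyp2 (p : ℕ) (S A : Subgroup G) : Prop where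
  le : A ≤ pCore p G
  sylow : pCore p G ≤ S
  upper_le : ∀ {Q B : Subgroup G}, A ≤ Q → B ≤ S → B ∈ kUpperStarFamily Q → B ≤ pCore p G
  lower_le : ∀ {Q B : Subgroup G}, A ≤ Q → B ≤ S → B ∈ kLowerStarFamily Q → B ≤ pCore p G
  mem_lower : A ∈ kLowerStarFamily S
  mem_upper : ∀ {Q : Subgroup G}, Q ≤ pCore p G → A ∈ kUpperStarFamily Q

end Cfsg.Agent.Lib.Helper6.KInfDefs
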