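import Cfsg.Agent.Lib.Helper6.KInfDefs

/-!
# K3: the minimal normal subgroup on which `M = ⟨B^G⟩` does not act as a `p`-group
-/

set_option autoImplicit false

namespace Cfsg.Agent.Lib.Helper6.KInfK3

open Cfsg Cfsg.Agent.Lib.Helper7 Cfsg.Agent.Lib.Helper6.KInfDefs
open scoped commutatorElement

universe u

variable {G : Type u} [Group G]

theorem mem_centralizer_sup {N₁ N₂ : Subgroup G} {x : G}
    (h1 : x ∈ Subgroup.centralizer ((N₁ : Subgroup G) : Set G))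
    (h2 : x ∈ Subgroup.centralizer ((N₂ : Subgroup G) : Set G)) :
    x ∈ Subgroup.centralizer (((N₁ ⊔ N₂ : Subgroup G)) : Set G) := by
  have h : N₁ ⊔ N₂ ≤ Subgroup.centralizer ((Subgroup.zpowers x : Subgroup G) : Set G) := by
    apply sup_le
    · rw [Subgroup.le_centralizer_iff, Subgroup.zpowers_le]; exact h1
    · rw [Subgroup.le_centralizer_iff, Subgroup.zpowers_le]; exact h2
  rw [Subgroup.le_centralizer_iff, Subgroup.zpowers_le] at h
  exact h

theorem PAct.sup {p : ℕ} {M N₁ N₂ : Subgroup G} (h1 : PAct p M N₁) (h2 : PAct p M N₂) :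
    PAct p M (N₁ ⊔ N₂) := by
  intro m hm
  obtain ⟨k₁, hk₁⟩ := h1 m hm
  obtain ⟨k₂, hk₂⟩ := h2 m hm
  refine ⟨k₁ + k₂, mem_centralizer_sup ?_ ?_⟩
  · rw [pow_add, pow_mul]
    exact Subgroup.pow_mem _ hk₁ _
  · rw [pow_add, mul_comm, pow_mul]
    exact Subgroup.pow_mem _ hk₂ _

theorem PAct.bot (p : ℕ) (M : Subgroup G) : PAct p M ⊥ := by
  intro m _
  refine ⟨0, ?_⟩
  rw [Subgroup.mem_centralizer_iff]
  intro h hh
  have : h = 1 := by simpa using hh
  rw [this]; simp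

/-- stabilizing `X > Y > 1` with `p`-group action on `Y` gives `p`-group action on `X`. -/
theorem PAct.of_stab [Finite G] {p : ℕ} [Fact p.Prime] {M X Y : Subgroup G} (hYn : Y.Normal)
    (hYp : IsPGroup p Y) (hXM : ⁅X, M⁆ ≤ Y) (hY : PAct p M Y) : PAct p M X := by
  intro m hm
  obtain ⟨k, hk⟩ := hY m hm
  obtain ⟨e, he⟩ := IsPGroup.iff_card.mp hYp
  set m' := m ^ p ^ k with hm'
  have hm'M : m' ∈ M := M.pow_mem hm _
  refine ⟨k + e, ?_⟩
  have hpow : m ^ p ^ (k + e) = m' ^ (Nat.card Y) := by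
    rw [he, hm', ← pow_mul, ← pow_add]
  rw [hpow, Subgroup.mem_centralizer_iff]
  intro x hx
  -- y := ⁅m', x⁆ ∈ Y
  have hy : ⁅m', x⁆ ∈ Y := by
    have h1 : ⁅x, m'⁆ ∈ Y := hXM (Subgroup.commutator_mem_commutator hx hm'M)
    have h2 : ⁅m', x⁆ = (⁅x, m'⁆)⁻¹ := by simp only [commutatorElement_def]; group
    rw [h2]; exact Y.inv_mem h1
  have hcomm : ∀ y ∈ Y, y * m' = m' * y := fun y hy' =>
    Subgroup.mem_centralizer_iff.mp hk y hy'
  have key : ∀ n : ℕ, m' ^ n * x = (⁅m', x⁆) ^ n * x * m' ^ n := by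
    intro n
    induction n with
    | zero => simp
    | succ n ih =>
      have hyn : (⁅m', x⁆) ^ n ∈ Y := Y.pow_mem hy n
      have h3 := hcomm _ hyn
      calc m' ^ (n + 1) * x = m' * (m' ^ n * x) := by rw [pow_succ']; group
        _ = m' * ((⁅m', x⁆) ^ n * x * m' ^ n) := by rw [ih]
        _ = (m' * (⁅m', x⁆) ^ n) * (x * m' ^ n) := by group
        _ = ((⁅m', x⁆) ^ n * m') * (x * m' ^ n) := by rw [h3]
        _ = (⁅m', x⁆) ^ n * (m' * x * m'⁻¹) * (m' * m' ^ n) := by group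
        _ = (⁅m', x⁆) ^ n * (⁅m', x⁆ * x) * (m' * m' ^ n) := by
            congr 2
            simp only [commutatorElement_def]; group
        _ = (⁅m', x⁆) ^ (n + 1) * x * m' ^ (n + 1) := by
            rw [pow_succ, pow_succ']; group
  have h1 : (⁅m', x⁆) ^ (Nat.card Y) = 1 := by
    have := pow_card_eq_one' (G := Y) (x := ⟨⁅m', x⁆, hy⟩)
    have h2 := congrArg (Subtype.val) this
    rw [Subgroup.coe_pow, Subgroup.coe_one] at h2
    exact h2
  have := key (Nat.card Y)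
  rw [h1, one_mul] at this
  exact this.symm

theorem exists_min_chief [Finite G] {p : ℕ} [Fact p.Prime] (A B Z : Subgroup G)
    (hAn : A.Normal) (hAT : A ≤ pCore p G)
    (hCA : IsPGroup p (Subgroup.centralizer ((A : Subgroup G) : Set G)))
    (hZn : Z.Normal) (hZA : Z ≤ A) (hB : ¬ B ≤ pCore p G) :
    ∃ X Y : Subgroup G, IsChiefFactor X Y ∧ X ≤ A ∧ (X ≤ Z ∨ Z ≤ Y) ∧ ¬ ⁅X, B⁆ ≤ Y ∧
      ¬ PAct p (Subgroup.normalClosure (B : Set G)) X ∧
      (∀ N : Subgroup G, N.Normal → N < X → (N ≤ Z ∨ Z ≤ N) →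
        PAct p (Subgroup.normalClosure (B : Set G)) N ∧ N ≤ Y) := by
  classical
  set M : Subgroup G := Subgroup.normalClosure (B : Set G) with hM
  haveI hMn : M.Normal := Subgroup.normalClosure_normal
  have hBM : B ≤ M := Subgroup.le_normalClosure
  have hTp : IsPGroup p ↥(pCore p G) := pCore_isPGroup p G
  -- step 1
  have hnA : ¬ PAct p M A := by
    intro hP
    apply hB
    refine hBM.trans (le_pCore hMn ?_)
    intro ⟨m, hm⟩
    obtain ⟨k, hk⟩ := hP m hm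
    obtain ⟨j, hj⟩ := hCA ⟨m ^ p ^ k, hk⟩
    refine ⟨k + j, ?_⟩
    apply Subtype.ext
    have h2 := congrArg Subtype.val hj
    simp only [Subgroup.coe_pow, Subgroup.coe_one] at h2 ⊢
    rw [pow_add, pow_mul]
    exact h2
  -- step 2
  let 𝒳 : Set (Subgroup G) := {X | X.Normal ∧ X ≤ A ∧ (X ≤ Z ∨ Z ≤ X) ∧ ¬ PAct p M X}
  have h𝒳ne : 𝒳.Nonempty := ⟨A, hAn, le_rfl, Or.inr hZA, hnA⟩
  obtain ⟨X, hXmin⟩ := (Set.toFinite 𝒳).exists_minimal h𝒳ne
  obtain ⟨hXn, hXA, hXZ, hnX⟩ := hXmin.prop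
  have hminP : ∀ N : Subgroup G, N.Normal → N < X → (N ≤ Z ∨ Z ≤ N) → PAct p M N := by
    intro N hNn hNX hNZ
    by_contra hnP
    have hmem : N ∈ 𝒳 := ⟨hNn, hNX.le.trans hXA, hNZ, hnP⟩
    exact absurd (hXmin.le_of_le hmem hNX.le) (not_le_of_gt hNX)
  have hXne : X ≠ ⊥ := by
    rintro rfl
    exact hnX (PAct.bot p M)
  -- step 3
  let 𝒴 : Set (Subgroup G) := {N | N.Normal ∧ N < X ∧ (N ≤ Z ∨ Z ≤ N)}
  have h𝒴ne : 𝒴.Nonempty := ⟨⊥, Subgroup.normal_bot, bot_lt_iff_ne_bot.mpr hXne, Or.inl bot_le⟩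
  obtain ⟨Y, hYmax⟩ := (Set.toFinite 𝒴).exists_maximal h𝒴ne
  obtain ⟨hYn, hYX, hYZ⟩ := hYmax.prop
  have hPY : PAct p M Y := hminP Y hYn hYX hYZ
  -- step 5
  have hleY : ∀ N : Subgroup G, N.Normal → N < X → (N ≤ Z ∨ Z ≤ N) → N ≤ Y := by
    intro N hNn hNX hNZ
    have hPN := hminP N hNn hNX hNZ
    have hsupn : (N ⊔ Y).Normal := by
      haveI := hNn; haveI := hYn; infer_instance
    have hsupP : PAct p M (N ⊔ Y) := PAct.sup hPN hPY
    have hsuple : N ⊔ Y ≤ X := sup_le hNX.le hYX.le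
    have hsupne : N ⊔ Y ≠ X := by
      intro h
      rw [h] at hsupP
      exact hnX hsupP
    have hsupZ : N ⊔ Y ≤ Z ∨ Z ≤ N ⊔ Y := by
      rcases hNZ with h1 | h1
      · rcases hYZ with h2 | h2
        · exact Or.inl (sup_le h1 h2)
        · exact Or.inr (h2.trans le_sup_right)
      · exact Or.inr (h1.trans le_sup_left)
    have hmem : N ⊔ Y ∈ 𝒴 := ⟨hsupn, lt_of_le_of_ne hsuple hsupne, hsupZ⟩
    exact le_sup_left.trans (hYmax.le_of_ge hmem le_sup_right)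
  -- step 6
  have hor : X ≤ Z ∨ Z ≤ Y := by
    rcases hXZ with h | h
    · exact Or.inl h
    · by_cases hXZ' : X ≤ Z
      · exact Or.inl hXZ'
      · refine Or.inr (hleY Z hZn (lt_of_le_of_ne h ?_) (Or.inl le_rfl))
        rintro rfl
        exact hXZ' le_rfl
  -- step 7
  have hch : IsChiefFactor X Y := by
    refine ⟨hYX, hXn, hYn, ?_⟩
    intro N hNn hYN hNX
    by_cases hNeq : N = X
    · exact Or.inr hNeq
    · left
      have hNlt : N < X := lt_of_le_of_ne hNX hNeq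
      have hNZ : N ≤ Z ∨ Z ≤ N := by
        rcases hor with h | h
        · exact Or.inl (hNX.trans h)
        · exact Or.inr (h.trans hYN)
      exact le_antisymm (hleY N hNn hNlt hNZ) hYN
  -- step 8
  have hnot : ¬ ⁅X, B⁆ ≤ Y := by
    intro hXB
    haveI := hXn; haveI := hYn
    have h1 : B ≤ centMod X Y := (le_centMod_iff X Y B).mpr hXB
    have h2 : M ≤ centMod X Y := Subgroup.normalClosure_le_normal h1
    have h3 : ⁅X, M⁆ ≤ Y := (le_centMod_iff X Y M).mp h2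
    have hYp : IsPGroup p Y := hTp.to_le ((hYX.le.trans hXA).trans hAT)
    exact hnX (PAct.of_stab hYn hYp h3 hPY)
  exact ⟨X, Y, hch, hXA, hor, hnot, hnX, fun N hNn hNX hNZ =>
    ⟨hminP N hNn hNX hNZ, hleY N hNn hNX hNZ⟩⟩

end Cfsg.Agent.Lib.Helper6.KInfK3
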