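import Cfsg.Agent.Lib.Helper6.KInfDefs

/-!
# K4: the subgroup `R` of the K-infinity chief-factor argument
-/

set_option autoImplicit false

namespace Cfsg.Agent.Lib.Helper6.KInfK4

open Cfsg Cfsg.Agent.Lib.Helper7 Cfsg.Agent.Lib.Helper6.KInfDefs
open scoped commutatorElement

universe u

variable {G : Type u} [Group G]

/-- conjugate of a commutator -/
theorem conj_comm (c x u : G) : c * ⁅x, u⁆ * c⁻¹ = ⁅c * x * c⁻¹, c * u * c⁻¹⁆ := by
  simp only [commutatorElement_def]; group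

/-- the set `R` as a subgroup -/
def RSub (A B X : Subgroup G)
    (hA2 : ⁅A, A⁆ ≤ Subgroup.centralizer ((A : Subgroup G) : Set G)) (hXA : X ≤ A) :
    Subgroup G where
  carrier := {x | x ∈ X ∧ ∀ u ∈ X, ∀ b ∈ B, b * ⁅x, u⁆ * b⁻¹ = ⁅x, u⁆}
  one_mem' := by
    refine ⟨X.one_mem, ?_⟩
    intro u _ b _
    simp [commutatorElement_def]
  mul_mem' := by
    rintro x y ⟨hx, hxR⟩ ⟨hy, hyR⟩
    refine ⟨X.mul_mem hx hy, ?_⟩
    intro u hu b hb
    have hc : ⁅y, u⁆ ∈ Subgroup.centralizer ((A : Subgroup G) : Set G) :=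
      hA2 (Subgroup.commutator_mem_commutator (hXA hy) (hXA hu))
    have hcx : x * ⁅y, u⁆ = ⁅y, u⁆ * x := Subgroup.mem_centralizer_iff.mp hc x (hXA hx)
    have e : ⁅x * y, u⁆ = ⁅y, u⁆ * ⁅x, u⁆ := by
      have : ⁅x * y, u⁆ = x * ⁅y, u⁆ * x⁻¹ * ⁅x, u⁆ := by
        simp only [commutatorElement_def]; group
      rw [this, hcx]; group
    rw [e]
    calc b * (⁅y, u⁆ * ⁅x, u⁆) * b⁻¹ = (b * ⁅y, u⁆ * b⁻¹) * (b * ⁅x, u⁆ * b⁻¹) := by group
      _ = ⁅y, u⁆ * ⁅x, u⁆ := by rw [hyR u hu b hb, hxR u hu b hb]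
  inv_mem' := by
    rintro x ⟨hx, hxR⟩
    refine ⟨X.inv_mem hx, ?_⟩
    intro u hu b hb
    have hc : ⁅x, u⁆ ∈ Subgroup.centralizer ((A : Subgroup G) : Set G) :=
      hA2 (Subgroup.commutator_mem_commutator (hXA hx) (hXA hu))
    have hcx : x * ⁅x, u⁆ = ⁅x, u⁆ * x := Subgroup.mem_centralizer_iff.mp hc x (hXA hx)
    have e : ⁅x⁻¹, u⁆ = (⁅x, u⁆)⁻¹ := by
      have h1 : ⁅x⁻¹, u⁆ = x⁻¹ * (⁅x, u⁆)⁻¹ * x := by
        simp only [commutatorElement_def]; group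
      have h2 : x⁻¹ * (⁅x, u⁆)⁻¹ = (⁅x, u⁆)⁻¹ * x⁻¹ := by
        rw [← mul_inv_rev, ← mul_inv_rev, hcx]
      rw [h1, h2]; group
    rw [e]
    calc b * (⁅x, u⁆)⁻¹ * b⁻¹ = (b * ⁅x, u⁆ * b⁻¹)⁻¹ := by group
      _ = (⁅x, u⁆)⁻¹ := by rw [hxR u hu b hb]

theorem mem_RSub {A B X : Subgroup G}
    (hA2 : ⁅A, A⁆ ≤ Subgroup.centralizer ((A : Subgroup G) : Set G)) (hXA : X ≤ A) (x : G) :
    x ∈ RSub A B X hA2 hXA ↔ x ∈ X ∧ ∀ u ∈ X, ∀ b ∈ B, b * ⁅x, u⁆ * b⁻¹ = ⁅x, u⁆ := Iff.rfl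

/-- an element `m` normalizing `X` such that conjugation by `m` fixes the relevant commutators
normalizes `R`. -/
theorem conj_mem_RSub {A B X : Subgroup G}
    (hA2 : ⁅A, A⁆ ≤ Subgroup.centralizer ((A : Subgroup G) : Set G)) (hXA : X ≤ A)
    (hXn : X.Normal) (m : G)
    (hm : ∀ x ∈ RSub A B X hA2 hXA, ∀ u ∈ X, m * ⁅x, u⁆ * m⁻¹ = ⁅x, u⁆)
    (x : G) (hx : x ∈ RSub A B X hA2 hXA) : m * x * m⁻¹ ∈ RSub A B X hA2 hXA := by
  obtain ⟨hxX, hxR⟩ := hx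
  refine ⟨hXn.conj_mem x hxX m, ?_⟩
  intro u hu b hb
  have hu' : m⁻¹ * u * m ∈ X := by
    have := hXn.conj_mem u hu m⁻¹
    simpa using this
  have e : ⁅m * x * m⁻¹, u⁆ = ⁅x, m⁻¹ * u * m⁆ := by
    have h1 : ⁅m * x * m⁻¹, u⁆ = m * ⁅x, m⁻¹ * u * m⁆ * m⁻¹ := by
      rw [conj_comm]; congr 1; group
    rw [h1, hm x ⟨hxX, hxR⟩ _ hu']
  rw [e]
  exact hxR _ hu' b hb

theorem exists_R (A B Q T X : Subgroup G)
    (hA2 : ⁅A, A⁆ ≤ Subgroup.centralizer ((A : Subgroup G) : Set G))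
    (hTA : ⁅T, A⁆ ≤ A ⊓ Subgroup.centralizer ((A : Subgroup G) : Set G))
    (hZB : B ⊓ Subgroup.centralizer ((B : Subgroup G) : Set G) ≤ T)
    (hAQ : A ≤ Q) (hB : B ∈ kLowerStarFamily Q) (hXn : X.Normal) (hXA : X ≤ A) :
    ∃ R : Subgroup G, R ≤ X ∧ B ≤ Subgroup.normalizer ((R : Subgroup G) : Set G) ∧
      Subgroup.centralizer ((⁅X, X⁆ : Subgroup G) : Set G) ≤
        Subgroup.normalizer ((R : Subgroup G) : Set G) ∧
      ⁅⁅R, B⁆, B⁆ = ⊥ ∧ ⁅⁅X, B⁆, B⁆ ≤ R := by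
  obtain ⟨hB2, hQB, hcond⟩ := hB
  set R : Subgroup G := RSub A B X hA2 hXA with hR
  have hRX : R ≤ X := fun x hx => hx.1
  -- general normalizer criterion
  have hnorm : ∀ m : G,
      (∀ x ∈ R, ∀ u ∈ X, m * ⁅x, u⁆ * m⁻¹ = ⁅x, u⁆) →
      (∀ x ∈ R, ∀ u ∈ X, m⁻¹ * ⁅x, u⁆ * m⁻¹⁻¹ = ⁅x, u⁆) →
      m ∈ Subgroup.normalizer ((R : Subgroup G) : Set G) := by
    intro m h1 h2
    rw [Subgroup.mem_normalizer_iff]
    intro x
    constructor
    · intro hx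
      exact conj_mem_RSub hA2 hXA hXn m h1 x hx
    · intro hx
      have := conj_mem_RSub hA2 hXA hXn m⁻¹ h2 _ hx
      have e : m⁻¹ * (m * x * m⁻¹) * m⁻¹⁻¹ = x := by group
      rwa [e] at this
  have hBR : B ≤ Subgroup.normalizer ((R : Subgroup G) : Set G) := by
    intro c hc
    apply hnorm c
    · intro x hx u hu
      exact hx.2 u hu c hc
    · intro x hx u hu
      exact hx.2 u hu c⁻¹ (B.inv_mem hc)
  have hCR : Subgroup.centralizer ((⁅X, X⁆ : Subgroup G) : Set G) ≤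
      Subgroup.normalizer ((R : Subgroup G) : Set G) := by
    intro m hm
    have key : ∀ m' ∈ Subgroup.centralizer ((⁅X, X⁆ : Subgroup G) : Set G),
        ∀ x ∈ R, ∀ u ∈ X, m' * ⁅x, u⁆ * m'⁻¹ = ⁅x, u⁆ := by
      intro m' hm' x hx u hu
      have h1 : ⁅x, u⁆ ∈ ⁅X, X⁆ := Subgroup.commutator_mem_commutator (hRX hx) hu
      have h2 := Subgroup.mem_centralizer_iff.mp hm' _ h1
      rw [← h2]; group
    exact hnorm m (key m hm) (key m⁻¹ (Subgroup.inv_mem _ hm))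
  have hRA : R ≤ A := hRX.trans hXA
  have hcentAR : Subgroup.centralizer ((A : Subgroup G) : Set G) ≤
      Subgroup.centralizer ((R : Subgroup G) : Set G) :=
    Subgroup.centralizer_le (by exact_mod_cast hRA)
  have hRq : ⁅⁅R, B⁆, B⁆ = ⊥ := by
    have h1 : ⁅B, R⁆ ≤ B ⊓ Subgroup.centralizer ((B : Subgroup G) : Set G) := by
      apply hcond R
      · -- class two
        exact (Subgroup.commutator_mono hRA hRA).trans (hA2.trans hcentAR)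
      · exact hRA.trans hAQ
      · exact hBR
      · -- B centralizes R'
        rw [Subgroup.commutator_eq_bot_iff_le_centralizer, Subgroup.le_centralizer_iff,
          Subgroup.commutator_le]
        intro x hx y hy
        rw [Subgroup.mem_centralizer_iff]
        intro b hb
        have := hx.2 y (hRX hy) b hb
        calc b * ⁅x, y⁆ = (b * ⁅x, y⁆ * b⁻¹) * b := by group
          _ = ⁅x, y⁆ * b := by rw [this]
      · -- [[Z(B), R], R] = 1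
        rw [Subgroup.commutator_eq_bot_iff_le_centralizer]
        have h2 : ⁅B ⊓ Subgroup.centralizer ((B : Subgroup G) : Set G), R⁆ ≤ ⁅T, A⁆ :=
          Subgroup.commutator_mono hZB hRA
        exact h2.trans (hTA.trans (inf_le_right.trans hcentAR))
    rw [Subgroup.commutator_eq_bot_iff_le_centralizer, Subgroup.commutator_comm]
    exact h1.trans inf_le_right
  refine ⟨R, hRX, hBR, hCR, hRq, ?_⟩
  -- [[X,B],B] ≤ R
  have hXB : ⁅X, B⁆ ≤ B := by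
    rw [Subgroup.commutator_comm]
    exact Subgroup.le_normalizer_iff_commutator_le_left.mp ((hXA.trans hAQ).trans hQB)
  have hXBX : ⁅X, B⁆ ≤ X := Subgroup.commutator_le_left X B
  have h1 : ⁅⁅X, B⁆, B⁆ ≤ X := (Subgroup.commutator_mono hXBX le_rfl).trans hXBX
  have h2 : ⁅⁅X, B⁆, B⁆ ≤ B := (Subgroup.commutator_mono hXB le_rfl).trans
    (Subgroup.commutator_le_self B)
  have h3 : ⁅⁅X, B⁆, B⁆ ≤ Subgroup.centralizer ((B : Subgroup G) : Set G) :=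
    (Subgroup.commutator_mono hXB le_rfl).trans hB2
  intro d hd
  have hdX := h1 hd
  have hdB := h2 hd
  have hdC := h3 hd
  refine ⟨hdX, ?_⟩
  intro u hu b hb
  -- c := [b,u] ∈ B ∩ X
  have hcB : ⁅b, u⁆ ∈ B := by
    have hun : u ∈ Subgroup.normalizer ((B : Subgroup G) : Set G) := hQB (hAQ (hXA hu))
    have h4 : u * b⁻¹ * u⁻¹ ∈ B := (Subgroup.mem_normalizer_iff.mp hun b⁻¹).mp (B.inv_mem hb)
    have : ⁅b, u⁆ = b * (u * b⁻¹ * u⁻¹) := by simp only [commutatorElement_def]; group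
    rw [this]
    exact B.mul_mem hb h4
  have hcX : ⁅b, u⁆ ∈ X := by
    have h4 : b * u * b⁻¹ ∈ X := hXn.conj_mem u hu b
    have : ⁅b, u⁆ = (b * u * b⁻¹) * u⁻¹ := by simp only [commutatorElement_def]
    rw [this]
    exact X.mul_mem h4 (X.inv_mem hu)
  have hdb : b * d = d * b := Subgroup.mem_centralizer_iff.mp hdC b hb
  have hdc : ⁅b, u⁆ * d = d * ⁅b, u⁆ := Subgroup.mem_centralizer_iff.mp hdC _ hcB
  have hcen : ⁅d, u⁆ ∈ Subgroup.centralizer ((A : Subgroup G) : Set G) :=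
    hA2 (Subgroup.commutator_mem_commutator (hXA hdX) (hXA hu))
  have hcc : ⁅b, u⁆ * ⁅d, u⁆ = ⁅d, u⁆ * ⁅b, u⁆ :=
    Subgroup.mem_centralizer_iff.mp hcen _ (hXA hcX)
  have e1 : b * ⁅d, u⁆ * b⁻¹ = ⁅d, ⁅b, u⁆ * u⁆ := by
    rw [conj_comm]
    have e2 : b * d * b⁻¹ = d := by rw [hdb]; group
    have e3 : b * u * b⁻¹ = ⁅b, u⁆ * u := by simp only [commutatorElement_def]; group
    rw [e2, e3]
  have e4 : ⁅d, ⁅b, u⁆ * u⁆ = ⁅b, u⁆ * ⁅d, u⁆ * (⁅b, u⁆)⁻¹ := by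
    have : ⁅d, ⁅b, u⁆ * u⁆ = d * ⁅b, u⁆ * u * d⁻¹ * u⁻¹ * (⁅b, u⁆)⁻¹ := by
      simp only [commutatorElement_def]; group
    rw [this, ← hdc]
    simp only [commutatorElement_def]; group
  rw [e1, e4, hcc]; group

end Cfsg.Agent.Lib.Helper6.KInfK4
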