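import Cfsg.Agent.Lib.Helper6.KInfK3
import Cfsg.Agent.Lib.Helper6.KInfK4
import Cfsg.Agent.Lib.Helper4.KInfK5
import Cfsg.Agent.Lib.Helper4.KInfK6b

/-!
# K7: the lower-star case of the K-infinity chief-factor argument
-/

set_option autoImplicit false

namespace Cfsg.Agent.Lib.Helper6.KInfK7

open Cfsg Cfsg.Agent.Lib.Helper7 Cfsg.Agent.Lib.Helper6.KInfDefs

universe u

variable {G : Type u} [Group G]

theorem lower_case [Finite G] {p : ℕ} [Fact p.Prime] (A B Q : Subgroup G)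
    (hAn : A.Normal) (hAT : A ≤ pCore p G)
    (hA2 : ⁅A, A⁆ ≤ Subgroup.centralizer ((A : Subgroup G) : Set G))
    (hA3 : ⁅pCore p G, A⁆ ≤ A ⊓ Subgroup.centralizer ((A : Subgroup G) : Set G))
    (hCA : IsPGroup p (Subgroup.centralizer ((A : Subgroup G) : Set G)))
    (hAQ : A ≤ Q) (hB : B ∈ kLowerStarFamily Q) (hBT : ¬ B ≤ pCore p G)
    (hZB : B ⊓ Subgroup.centralizer ((B : Subgroup G) : Set G) ≤ pCore p G) :
    ∃ X Y : Subgroup G, IsChiefFactor X Y ∧ X ≤ A ∧ ⁅⁅X, B⁆, B⁆ ≤ Y ∧ ¬ ⁅X, B⁆ ≤ Y := by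
  obtain ⟨X, Y, hch, hXA, -, hnot, -, hmin⟩ :=
    Cfsg.Agent.Lib.Helper6.KInfK3.exists_min_chief (p := p) A B ⊥ hAn hAT hCA Subgroup.normal_bot bot_le hBT
  haveI hXn : X.Normal := hch.2.1
  haveI hYn : Y.Normal := hch.2.2.1
  set M : Subgroup G := Subgroup.normalClosure (B : Set G) with hM
  haveI hMn : M.Normal := Subgroup.normalClosure_normal
  have hX'n : (⁅X, X⁆ : Subgroup G).Normal := inferInstance
  have hXne : X ≠ ⊥ := by
    rintro rfl
    exact not_lt_bot hch.1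
  have hX'lt : ⁅X, X⁆ < X := by
    refine lt_of_le_of_ne (Subgroup.commutator_le_left X X) ?_
    intro heq
    have h1 : ⁅X, X⁆ ≤ Subgroup.centralizer ((X : Subgroup G) : Set G) :=
      (Subgroup.commutator_mono hXA hXA).trans
        (hA2.trans (Subgroup.centralizer_le (by exact_mod_cast hXA)))
    have h2 : ⁅⁅X, X⁆, X⁆ = ⊥ := Subgroup.commutator_eq_bot_iff_le_centralizer.mpr h1
    rw [heq, heq] at h2
    exact hXne h2
  obtain ⟨hPX', hX'Y⟩ := hmin ⁅X, X⁆ hX'n hX'lt (Or.inr bot_le)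
  set M1 : Subgroup G := M ⊓ Subgroup.centralizer ((⁅X, X⁆ : Subgroup G) : Set G) with hM1
  haveI hCn : (Subgroup.centralizer ((⁅X, X⁆ : Subgroup G) : Set G)).Normal := inferInstance
  have hM1n : M1.Normal := inferInstance
  have hBM : B ≤ M := Subgroup.le_normalClosure
  have hH : Subn (M1 ⊔ B) := by
    refine Cfsg.Agent.Lib.Helper4.KInfK5.subn_of_pquot (p := p) M1 M (M1 ⊔ B) hM1n hMn le_sup_left
      (sup_le inf_le_left hBM) ?_
    intro k hk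
    obtain ⟨j, hj⟩ := hPX' k hk
    exact ⟨j, ⟨M.pow_mem hk _, hj⟩⟩
  obtain ⟨R, hRX, hBR, hCR, hRq, hXR⟩ :=
    Cfsg.Agent.Lib.Helper6.KInfK4.exists_R A B Q (pCore p G) X hA2 hA3 hZB hAQ hB hXn hXA
  have hHR : M1 ⊔ B ≤ Subgroup.normalizer ((R : Subgroup G) : Set G) :=
    sup_le (inf_le_right.trans hCR) hBR
  have hq := Cfsg.Agent.Lib.Helper4.KInfK6b.quad_of_subn X Y hch hX'Y (M1 ⊔ B) hH B R le_sup_right hRX hHR
    (by rw [hRq]; exact bot_le) (hXR.trans le_sup_left)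
  exact ⟨X, Y, hch, hXA, hq, hnot⟩

end Cfsg.Agent.Lib.Helper6.KInfK7
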