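import Cfsg.Agent.Lib.Helper6.KInfK7
import Cfsg.Agent.Lib.Helper6.KInfK1
import Cfsg.Agent.Lib.Helper2.KInfK2

/-!
# K8: small helpers for the S1982 assembly
-/

set_option autoImplicit false

namespace Cfsg.Agent.Lib.Helper6.KInfK8

open Cfsg Cfsg.Agent.Lib.Helper7

universe u

variable {G : Type u} [Group G]

/-- zpowers-level monotonicity of the iterated commutator. -/
theorem iter_zpowers_le {A B : Subgroup G} {g : G} (hg : g ∈ B) (j : ℕ) :
    iterCommutator A (Subgroup.zpowers g) j ≤ iterCommutator A B j :=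
  iterCommutator_mono_right A ((Subgroup.zpowers_le).mpr hg) j

theorem exists_zpowers_not_le {X Y B : Subgroup G} (h : ¬ ⁅X, B⁆ ≤ Y) :
    ∃ g ∈ B, ¬ ⁅X, Subgroup.zpowers g⁆ ≤ Y := by
  by_contra hcon
  push Not at hcon
  apply h
  rw [Subgroup.commutator_le]
  intro x hx b hb
  exact hcon b hb (Subgroup.commutator_mem_commutator hx (Subgroup.mem_zpowers b))

end Cfsg.Agent.Lib.Helper6.KInfK8
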