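import Cfsg.Agent.Lib.Helper6.KInfDefs
import Cfsg.Agent.Lib.Helper7.KStable2
import Cfsg.Agent.Lib.Helper2.PLengthQuot

/-!
# K9a: a quadratic nontrivial action on a chief factor gives a non-`p`-stable quotient
-/

set_option autoImplicit false

namespace Cfsg.Agent.Lib.Helper6.KInfK9a

open Cfsg Cfsg.Agent.Lib.Helper7

universe u

variable {G : Type u} [Group G]

theorem not_pstable_of_chief [Finite G] {p : ℕ} [Fact p.Prime] (U V : Subgroup G)
    (hch : IsChiefFactor U V) (hU : U ≤ pCore p G) (g : G)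
    (hq : ⁅⁅U, Subgroup.zpowers g⁆, Subgroup.zpowers g⁆ ≤ V)
    (hn : ¬ ⁅U, Subgroup.zpowers g⁆ ≤ V) :
    ∃ (N : Subgroup G) (_ : N.Normal), ¬ IsNormalizerPStable p (G ⧸ N) := by
  obtain ⟨hVU, hUn, hVn, hmin⟩ := id hch
  haveI := hUn
  haveI := hVn
  refine ⟨V, hVn, ?_⟩
  intro hst
  set π : G →* G ⧸ V := QuotientGroup.mk' V with hπ
  have hπs : Function.Surjective π := QuotientGroup.mk'_surjective V
  have hUp : IsPGroup p U := (pCore_isPGroup p G).to_le hU
  set P : Subgroup (G ⧸ V) := U.map π with hP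
  have hPp : IsPGroup p P := hUp.map π
  haveI hPn : P.Normal := Subgroup.Normal.map hUn π hπs
  have hgN : π g ∈ Subgroup.normalizer (P : Set (G ⧸ V)) := by
    rw [Subgroup.normalizer_eq_top]; trivial
  have hquad : ⁅⁅P, Subgroup.zpowers (π g)⁆, Subgroup.zpowers (π g)⁆ = ⊥ := by
    rw [hP, ← MonoidHom.map_zpowers, ← Subgroup.map_commutator, ← Subgroup.map_commutator,
      Subgroup.map_eq_bot_iff, QuotientGroup.ker_mk']
    exact hq
  have h := hst P hPp (π g) hgN hquad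
  set NP : Subgroup (G ⧸ V) := Subgroup.normalizer (P : Set (G ⧸ V)) with hNP
  set CP : Subgroup ↥NP := (Subgroup.centralizer (P : Set (G ⧸ V))).subgroupOf NP with hCP
  set C : Subgroup G := centMod U V with hC
  have hVC : V ≤ C := (le_centMod_iff U V V).mpr (Subgroup.commutator_le_right U V)
  let q : G ⧸ V →* G ⧸ C := QuotientGroup.map V C (MonoidHom.id G) (by simpa using hVC)
  have hq' : ∀ y : G, q (π y) = QuotientGroup.mk y := fun y => rfl
  let ψ : ↥NP →* G ⧸ C := q.comp NP.subtype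
  have hψker : CP ≤ ψ.ker := by
    intro x hx
    obtain ⟨y, hy⟩ := hπs (x : G ⧸ V)
    have hxc : (x : G ⧸ V) ∈ Subgroup.centralizer (P : Set (G ⧸ V)) :=
      Subgroup.mem_subgroupOf.mp hx
    have hyC : y ∈ C := by
      show π y ∈ Subgroup.centralizer ((U.map (QuotientGroup.mk' V) : Subgroup (G ⧸ V)) : Set (G ⧸ V))
      rw [hy]; exact hxc
    rw [MonoidHom.mem_ker]
    show q (x : G ⧸ V) = 1
    rw [← hy, hq']
    exact (QuotientGroup.eq_one_iff y).mpr hyC
  let Ψ : ↥NP ⧸ CP →* G ⧸ C := QuotientGroup.lift CP ψ hψker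
  have hΨs : Function.Surjective Ψ := by
    intro z
    obtain ⟨y, rfl⟩ := QuotientGroup.mk_surjective z
    have hyN : π y ∈ NP := by rw [hNP, Subgroup.normalizer_eq_top]; trivial
    refine ⟨QuotientGroup.mk ⟨π y, hyN⟩, ?_⟩
    rfl
  have h1 := Cfsg.Agent.Lib.Helper2.PLQ.map_pCore_le p Ψ hΨs
  have h2 : Ψ (QuotientGroup.mk ⟨π g, hgN⟩) ∈ pCore p (G ⧸ C) :=
    h1 (Subgroup.mem_map_of_mem Ψ h)
  rw [pCore_quotient_centMod_eq_bot hch hUp, Subgroup.mem_bot] at h2
  have h3 : (QuotientGroup.mk g : G ⧸ C) = 1 := h2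
  have hgC : g ∈ C := (QuotientGroup.eq_one_iff g).mp h3
  apply hn
  apply (le_centMod_iff U V _).mp
  rw [Subgroup.zpowers_le]
  exact hgC

end Cfsg.Agent.Lib.Helper6.KInfK9a
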