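import Mathlib

set_option autoImplicit false
set_option linter.unusedSectionVars false

namespace Cfsg.Agent.Lib.Helper6

section invcl

variable {G : Type*} [Group G]

/-- the smallest subgroup containing `B` and `C` that is normalized by `A` -/
def invCl (A B C : Subgroup G) : Subgroup G :=
  sInf {N : Subgroup G | B ≤ N ∧ C ≤ N ∧ A ≤ Subgroup.normalizer (N : Set G)}

theorem left_le_invCl (A B C : Subgroup G) : B ≤ invCl A B C := by
  apply le_sInf
  rintro N ⟨h1, _, _⟩
  exact h1

theorem right_le_invCl (A B C : Subgroup G) : C ≤ invCl A B C := by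
  apply le_sInf
  rintro N ⟨_, h2, _⟩
  exact h2

theorem invCl_le {A B C N : Subgroup G} (h1 : B ≤ N) (h2 : C ≤ N)
    (h3 : A ≤ Subgroup.normalizer (N : Set G)) : invCl A B C ≤ N :=
  sInf_le ⟨h1, h2, h3⟩

theorem le_normalizer_invCl (A B C : Subgroup G) :
    A ≤ Subgroup.normalizer (invCl A B C : Set G) := by
  intro a ha
  rw [Subgroup.mem_normalizer_iff]
  intro n
  unfold invCl
  rw [Subgroup.mem_sInf, Subgroup.mem_sInf]
  constructor
  · intro h N hN
    exact (Subgroup.mem_normalizer_iff.mp (hN.2.2 ha) n).mp (h N hN)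
  · intro h N hN
    exact (Subgroup.mem_normalizer_iff.mp (hN.2.2 ha) n).mpr (h N hN)

theorem invCl_mono_left {A A' : Subgroup G} (h : A ≤ A') (B C : Subgroup G) :
    invCl A B C ≤ invCl A' B C :=
  invCl_le (left_le_invCl _ _ _) (right_le_invCl _ _ _) (h.trans (le_normalizer_invCl _ _ _))

theorem conj_mem_invCl {A B C : Subgroup G} {x : G}
    (hA : x ∈ Subgroup.normalizer (A : Set G)) (hB : x ∈ Subgroup.normalizer (B : Set G))
    (hC : x ∈ Subgroup.normalizer (C : Set G)) {n : G} (hn : n ∈ invCl A B C) :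
    x * n * x⁻¹ ∈ invCl A B C := by
  unfold invCl at hn ⊢
  rw [Subgroup.mem_sInf] at hn ⊢
  intro N hN
  have hN' : N.comap (MulAut.conj x).toMonoidHom
      ∈ {N : Subgroup G | B ≤ N ∧ C ≤ N ∧ A ≤ Subgroup.normalizer (N : Set G)} := by
    refine ⟨?_, ?_, ?_⟩
    · intro b hb
      rw [Subgroup.mem_comap]
      exact hN.1 ((Subgroup.mem_normalizer_iff.mp hB b).mp hb)
    · intro c hc
      rw [Subgroup.mem_comap]
      exact hN.2.1 ((Subgroup.mem_normalizer_iff.mp hC c).mp hc)
    · intro a ha
      rw [Subgroup.mem_normalizer_iff]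
      intro m
      rw [Subgroup.mem_comap, Subgroup.mem_comap]
      have ha' : x * a * x⁻¹ ∈ A := (Subgroup.mem_normalizer_iff.mp hA a).mp ha
      have := Subgroup.mem_normalizer_iff.mp (hN.2.2 ha') (x * m * x⁻¹)
      simp only [MulEquiv.coe_toMonoidHom, MulAut.conj_apply]
      rw [this]
      have e : x * a * x⁻¹ * (x * m * x⁻¹) * (x * a * x⁻¹)⁻¹ = x * (a * m * a⁻¹) * x⁻¹ := by
        group
      rw [e]
  have := hn _ hN'
  rw [Subgroup.mem_comap] at this
  simpa using this

theorem mem_normalizer_invCl {A B C : Subgroup G} {x : G}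
    (hA : x ∈ Subgroup.normalizer (A : Set G)) (hB : x ∈ Subgroup.normalizer (B : Set G))
    (hC : x ∈ Subgroup.normalizer (C : Set G)) :
    x ∈ Subgroup.normalizer (invCl A B C : Set G) := by
  rw [Subgroup.mem_normalizer_iff]
  intro n
  constructor
  · exact conj_mem_invCl hA hB hC
  · intro h
    have := conj_mem_invCl (Subgroup.inv_mem _ hA) (Subgroup.inv_mem _ hB) (Subgroup.inv_mem _ hC) h
    have e : x⁻¹ * (x * n * x⁻¹) * x⁻¹⁻¹ = n := by group
    rwa [e] at this

end invcl

section pgroup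

variable {G : Type*} [Group G] [Finite G]

/-- in a finite `p`-group, a proper subgroup lies in a proper normal subgroup -/
theorem exists_proper_normal_of_lt {p : ℕ} [Fact p.Prime] {H T : Subgroup G} (hT : IsPGroup p T)
    (hHT : H ≤ T) (hne : H ≠ T) :
    ∃ N : Subgroup G, H ≤ N ∧ N ≤ T ∧ N ≠ T ∧ T ≤ Subgroup.normalizer (N : Set G) := by
  haveI : Group.IsNilpotent T := hT.isNilpotent
  have hnc : NormalizerCondition T := Group.normalizerCondition_of_isNilpotent
  have hne' : H.subgroupOf T ≠ ⊤ := by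
    intro h
    rw [Subgroup.subgroupOf_eq_top] at h
    exact hne (le_antisymm hHT h)
  rcases eq_top_or_exists_le_coatom (H.subgroupOf T) with h | ⟨N', hN', hle⟩
  · exact absurd h hne'
  · have hnorm : N'.Normal := Subgroup.NormalizerCondition.normal_of_coatom N' hnc hN'
    refine ⟨N'.map T.subtype, ?_, ?_, ?_, ?_⟩
    · intro h hh
      refine ⟨⟨h, hHT hh⟩, hle ?_, rfl⟩
      rw [Subgroup.mem_subgroupOf]
      exact hh
    · rintro _ ⟨x, _, rfl⟩
      exact x.2
    · intro h
      apply hN'.1
      rw [eq_top_iff]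
      intro x _
      have hx : (x : G) ∈ N'.map T.subtype := by rw [h]; exact x.2
      obtain ⟨y, hy, hyx⟩ := hx
      have : y = x := Subtype.ext hyx
      rw [← this]
      exact hy
    · intro t ht
      rw [Subgroup.mem_normalizer_iff]
      intro n
      constructor
      · rintro ⟨y, hy, rfl⟩
        refine ⟨⟨t, ht⟩ * y * ⟨t, ht⟩⁻¹, hnorm.conj_mem y hy ⟨t, ht⟩, rfl⟩
      · rintro ⟨y, hy, hyx⟩
        refine ⟨⟨t, ht⟩⁻¹ * y * ⟨t, ht⟩, ?_, ?_⟩
        · have := hnorm.conj_mem y hy (⟨t, ht⟩⁻¹)
          simpa using this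
        · simp only [Subgroup.coe_subtype, Subgroup.coe_mul, Subgroup.coe_inv] at hyx ⊢
          rw [hyx]
          group

end pgroup

section chains

variable {G : Type*} [Group G]

/-- normal chains of nontrivial `p`-subgroups -/
def IsNChain (p : ℕ) (s : Finset (Subgroup G)) : Prop :=
  s.Nonempty ∧ (∀ Q ∈ s, ∀ R ∈ s, Q ≤ R ∨ R ≤ Q) ∧ (∀ Q ∈ s, Q ≠ ⊥ ∧ IsPGroup p Q) ∧
    ∃ T ∈ s, ∀ Q ∈ s, Q ≤ T ∧ T ≤ Subgroup.normalizer ((Q : Subgroup G) : Set G)

/-- the stabilizer of a chain -/
def chainNorm (s : Finset (Subgroup G)) : Subgroup G :=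
  ⨅ Q ∈ s, Subgroup.normalizer ((Q : Subgroup G) : Set G)

theorem mem_chainNorm_iff {s : Finset (Subgroup G)} {x : G} :
    x ∈ chainNorm s ↔ ∀ Q ∈ s, x ∈ Subgroup.normalizer ((Q : Subgroup G) : Set G) := by
  unfold chainNorm
  simp only [Subgroup.mem_iInf]

theorem normalizer_bot_eq_top : Subgroup.normalizer (((⊥ : Subgroup G) : Subgroup G) : Set G) = ⊤ := by
  rw [eq_top_iff]
  intro g _
  rw [Subgroup.mem_normalizer_iff]
  intro h
  rw [Subgroup.mem_bot, Subgroup.mem_bot]
  constructor
  · intro hh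
    rw [hh]
    group
  · intro hh
    have : h = g⁻¹ * (g * h * g⁻¹) * g := by group
    rw [this, hh]
    group

theorem sup_mem_or_eq_bot (t : Finset (Subgroup G))
    (hch : ∀ Q ∈ t, ∀ R ∈ t, Q ≤ R ∨ R ≤ Q) : t.sup id ∈ t ∨ t.sup id = ⊥ := by
  apply Finset.sup_induction (p := fun X => X ∈ t ∨ X = ⊥)
  · right; rfl
  · rintro a₁ (h1 | h1) a₂ (h2 | h2)
    · rcases hch a₁ h1 a₂ h2 with h | h
      · left; rwa [sup_eq_right.mpr h]
      · left; rwa [sup_eq_left.mpr h]
    · left; rw [h2, sup_bot_eq]; exact h1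
    · left; rw [h1, bot_sup_eq]; exact h2
    · right; rw [h1, h2, sup_bot_eq]
  · intro b hb; left; exact hb

theorem IsNChain.sup_spec {p : ℕ} {s : Finset (Subgroup G)} (hs : IsNChain p s) :
    s.sup id ∈ s ∧ ∀ Q ∈ s, Q ≤ s.sup id ∧
      s.sup id ≤ Subgroup.normalizer ((Q : Subgroup G) : Set G) := by
  obtain ⟨T, hT, hTop⟩ := hs.2.2.2
  have : s.sup id = T := by
    apply le_antisymm
    · apply Finset.sup_le
      intro Q hQ
      exact (hTop Q hQ).1
    · exact Finset.le_sup (f := id) hT
  rw [this]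
  exact ⟨hT, hTop⟩

open Classical in
/-- the members not containing `P` -/
noncomputable def lowPart (P : Subgroup G) (s : Finset (Subgroup G)) : Finset (Subgroup G) :=
  s.filter (fun Q => ¬ P ≤ Q)

/-- the largest member not containing `P` (or `⊥`) -/
noncomputable def lowSup (P : Subgroup G) (s : Finset (Subgroup G)) : Subgroup G :=
  (lowPart P s).sup id

/-- the canonical subgroup attached to a chain -/
noncomputable def iot (P : Subgroup G) (s : Finset (Subgroup G)) : Subgroup G :=
  invCl (s.sup id) (lowSup P s) P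

open Classical in
/-- the toggle -/
noncomputable def tog (P : Subgroup G) (s : Finset (Subgroup G)) : Finset (Subgroup G) :=
  if iot P s ∈ s then s.erase (iot P s) else insert (iot P s) s

theorem iot_def (P : Subgroup G) (s : Finset (Subgroup G)) :
    iot P s = invCl (s.sup id) (lowSup P s) P := rfl

theorem mem_lowPart {P : Subgroup G} {s : Finset (Subgroup G)} {Q : Subgroup G} :
    Q ∈ lowPart P s ↔ Q ∈ s ∧ ¬ P ≤ Q := by
  classical
  unfold lowPart
  simp only [Finset.mem_filter]

theorem lowSup_spec {p : ℕ} {s : Finset (Subgroup G)} (hs : IsNChain p s) (P : Subgroup G) :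
    lowSup P s = ⊥ ∨ (lowSup P s ∈ s ∧ ¬ P ≤ lowSup P s) := by
  have h := sup_mem_or_eq_bot (lowPart P s) (by
    intro Q hQ R hR
    exact hs.2.1 Q (mem_lowPart.mp hQ).1 R (mem_lowPart.mp hR).1)
  rcases h with h | h
  · right
    exact mem_lowPart.mp h
  · left
    exact h

theorem le_lowSup {P : Subgroup G} {s : Finset (Subgroup G)} {Q : Subgroup G} (hQ : Q ∈ s)
    (hPQ : ¬ P ≤ Q) : Q ≤ lowSup P s :=
  Finset.le_sup (f := id) (mem_lowPart.mpr ⟨hQ, hPQ⟩)

theorem lowSup_le {p : ℕ} {s : Finset (Subgroup G)} (hs : IsNChain p s) {P Q : Subgroup G}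
    (hQ : Q ∈ s) (hPQ : P ≤ Q) : lowSup P s ≤ Q := by
  rcases lowSup_spec hs P with h | ⟨h1, h2⟩
  · rw [h]; exact bot_le
  · rcases hs.2.1 Q hQ _ h1 with h | h
    · exact absurd (hPQ.trans h) h2
    · exact h

theorem mem_normalizer_lowSup {p : ℕ} {s : Finset (Subgroup G)} (hs : IsNChain p s)
    (P : Subgroup G) {x : G} (hx : x ∈ chainNorm s) :
    x ∈ Subgroup.normalizer ((lowSup P s : Subgroup G) : Set G) := by
  rcases lowSup_spec hs P with h | ⟨h1, _⟩
  · rw [h, normalizer_bot_eq_top]
    exact Subgroup.mem_top x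
  · exact mem_chainNorm_iff.mp hx _ h1

theorem sup_le_chainNorm {p : ℕ} {s : Finset (Subgroup G)} (hs : IsNChain p s) :
    s.sup id ≤ chainNorm s := by
  intro x hx
  rw [mem_chainNorm_iff]
  intro Q hQ
  exact (hs.sup_spec.2 Q hQ).2 hx

end chains

section iota

variable {G : Type*} [Group G]

/-- the standing hypotheses on a chain `s` and a `p`-subgroup `P` normalizing its members -/
structure ChainData (p : ℕ) (P : Subgroup G) (s : Finset (Subgroup G)) : Prop where
  chain : IsNChain p s
  norm : ∀ Q ∈ s, P ≤ Subgroup.normalizer ((Q : Subgroup G) : Set G)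
  pgrp : IsPGroup p P
  ne_bot : P ≠ ⊥

variable {p : ℕ} {P : Subgroup G} {s : Finset (Subgroup G)}

theorem ChainData.le_iot (h : ChainData p P s) : P ≤ iot P s := right_le_invCl _ _ _

theorem ChainData.lowSup_le_iot (h : ChainData p P s) : lowSup P s ≤ iot P s :=
  left_le_invCl _ _ _

theorem ChainData.sup_le_normalizer_iot (h : ChainData p P s) :
    s.sup id ≤ Subgroup.normalizer ((iot P s : Subgroup G) : Set G) :=
  le_normalizer_invCl _ _ _

theorem ChainData.iot_le_sup (h : ChainData p P s) : iot P s ≤ s.sup id ⊔ P := by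
  apply invCl_le
  · rcases lowSup_spec h.chain P with h1 | ⟨h1, _⟩
    · rw [h1]; exact bot_le
    · exact (h.chain.sup_spec.2 _ h1).1.trans le_sup_left
  · exact le_sup_right
  · exact le_sup_left.trans Subgroup.le_normalizer

theorem ChainData.isPGroup_iot (h : ChainData p P s) : IsPGroup p (iot P s) := by
  have h1 : IsPGroup p ((s.sup id ⊔ P : Subgroup G)) :=
    IsPGroup.to_sup_of_normal_left' (h.chain.2.2.1 _ h.chain.sup_spec.1).2 h.pgrp
      (h.norm _ h.chain.sup_spec.1)
  exact h1.to_le h.iot_le_sup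

theorem ChainData.iot_ne_bot (h : ChainData p P s) : iot P s ≠ ⊥ := by
  intro h0
  apply h.ne_bot
  rw [eq_bot_iff, ← h0]
  exact h.le_iot

theorem ChainData.low_le_iot (h : ChainData p P s) {Q : Subgroup G} (hQ : Q ∈ s)
    (hPQ : ¬ P ≤ Q) : Q ≤ iot P s ∧ Q ≠ iot P s := by
  refine ⟨(le_lowSup hQ hPQ).trans h.lowSup_le_iot, ?_⟩
  intro h0
  apply hPQ
  rw [h0]
  exact h.le_iot

theorem ChainData.iot_le_up (h : ChainData p P s) {Q : Subgroup G} (hQ : Q ∈ s)
    (hPQ : P ≤ Q) : iot P s ≤ Q :=
  invCl_le (lowSup_le h.chain hQ hPQ) hPQ (h.chain.sup_spec.2 Q hQ).2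

theorem ChainData.iot_le_normalizer (h : ChainData p P s) {Q : Subgroup G} (hQ : Q ∈ s) :
    iot P s ≤ Subgroup.normalizer ((Q : Subgroup G) : Set G) := by
  refine h.iot_le_sup.trans (sup_le (h.chain.sup_spec.2 Q hQ).2 (h.norm Q hQ))

theorem ChainData.comparable_iot (h : ChainData p P s) {Q : Subgroup G} (hQ : Q ∈ s) :
    Q ≤ iot P s ∨ iot P s ≤ Q := by
  by_cases hPQ : P ≤ Q
  · right; exact h.iot_le_up hQ hPQ
  · left; exact (h.low_le_iot hQ hPQ).1

/-- the stabilizer of the chain inside `N_G(P)` normalizes the canonical subgroup -/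
theorem ChainData.mem_normalizer_iot (h : ChainData p P s) {x : G} (hx : x ∈ chainNorm s)
    (hxP : x ∈ Subgroup.normalizer ((P : Subgroup G) : Set G)) :
    x ∈ Subgroup.normalizer ((iot P s : Subgroup G) : Set G) :=
  mem_normalizer_invCl (mem_chainNorm_iff.mp hx _ h.chain.sup_spec.1)
    (mem_normalizer_lowSup h.chain P hx) hxP

open Classical in
theorem ChainData.chainNorm_insert (h : ChainData p P s) :
    chainNorm (insert (iot P s) s) ⊓ Subgroup.normalizer ((P : Subgroup G) : Set G)
      = chainNorm s ⊓ Subgroup.normalizer ((P : Subgroup G) : Set G) := by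
  ext x
  rw [Subgroup.mem_inf, Subgroup.mem_inf, mem_chainNorm_iff, mem_chainNorm_iff]
  constructor
  · rintro ⟨h1, h2⟩
    exact ⟨fun Q hQ => h1 Q (Finset.mem_insert_of_mem hQ), h2⟩
  · rintro ⟨h1, h2⟩
    refine ⟨?_, h2⟩
    intro Q hQ
    rcases Finset.mem_insert.mp hQ with rfl | hQ
    · exact h.mem_normalizer_iot (mem_chainNorm_iff.mpr h1) h2
    · exact h1 Q hQ

end iota

section caseA

variable {G : Type*} [Group G]
variable {p : ℕ} {P : Subgroup G} {s : Finset (Subgroup G)}

open Classical in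
theorem ChainData.insert_chain (h : ChainData p P s) : ChainData p P (insert (iot P s) s) := by
  have hT := h.chain.sup_spec
  refine ⟨⟨Finset.insert_nonempty _ _, ?_, ?_, ?_⟩, ?_, h.pgrp, h.ne_bot⟩
  · intro Q hQ Q' hQ'
    rcases Finset.mem_insert.mp hQ with rfl | hQ
    · rcases Finset.mem_insert.mp hQ' with rfl | hQ'
      · left; exact le_refl _
      · exact (h.comparable_iot hQ').symm
    · rcases Finset.mem_insert.mp hQ' with rfl | hQ'
      · exact h.comparable_iot hQ
      · exact h.chain.2.1 Q hQ Q' hQ'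
  · intro Q hQ
    rcases Finset.mem_insert.mp hQ with rfl | hQ
    · exact ⟨h.iot_ne_bot, h.isPGroup_iot⟩
    · exact h.chain.2.2.1 Q hQ
  · by_cases hPT : P ≤ s.sup id
    · refine ⟨s.sup id, Finset.mem_insert_of_mem hT.1, ?_⟩
      intro Q hQ
      rcases Finset.mem_insert.mp hQ with rfl | hQ
      · exact ⟨h.iot_le_up hT.1 hPT, h.sup_le_normalizer_iot⟩
      · exact hT.2 Q hQ
    · refine ⟨iot P s, Finset.mem_insert_self _ _, ?_⟩
      intro Q hQ
      rcases Finset.mem_insert.mp hQ with rfl | hQ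
      · exact ⟨le_refl _, Subgroup.le_normalizer⟩
      · exact ⟨(hT.2 Q hQ).1.trans (h.low_le_iot hT.1 hPT).1, h.iot_le_normalizer hQ⟩
  · intro Q hQ
    rcases Finset.mem_insert.mp hQ with rfl | hQ
    · exact h.le_iot.trans Subgroup.le_normalizer
    · exact h.norm Q hQ

open Classical in
theorem ChainData.lowPart_insert (h : ChainData p P s) :
    lowPart P (insert (iot P s) s) = lowPart P s := by
  ext Q
  rw [mem_lowPart, mem_lowPart, Finset.mem_insert]
  constructor
  · rintro ⟨rfl | hQ, h2⟩
    · exact absurd h.le_iot h2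
    · exact ⟨hQ, h2⟩
  · rintro ⟨hQ, h2⟩
    exact ⟨Or.inr hQ, h2⟩

open Classical in
theorem ChainData.iot_insert (h : ChainData p P s) :
    iot P (insert (iot P s) s) = iot P s := by
  have h1 : lowSup P (insert (iot P s) s) = lowSup P s := by
    unfold lowSup
    rw [h.lowPart_insert]
  have h2 : (insert (iot P s) s).sup id = iot P s ⊔ s.sup id := by
    rw [Finset.sup_insert]
    rfl
  have key : iot P (insert (iot P s) s) = invCl (iot P s ⊔ s.sup id) (lowSup P s) P := by
    rw [iot_def P (insert (iot P s) s), h1, h2]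
  rw [key]
  apply le_antisymm
  · exact invCl_le h.lowSup_le_iot h.le_iot
      (sup_le Subgroup.le_normalizer h.sup_le_normalizer_iot)
  · exact invCl_mono_left le_sup_right _ _

end caseA

section caseB

variable {G : Type*} [Group G] [Finite G]
variable {p : ℕ} [Fact p.Prime] {P : Subgroup G} {s : Finset (Subgroup G)}

open Classical in
theorem ChainData.erase_nonempty (h : ChainData p P s) (hne : s ≠ {P}) (hR : iot P s ∈ s) :
    (s.erase (iot P s)).Nonempty := by
  rw [Finset.nonempty_iff_ne_empty]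
  intro h0
  rw [Finset.erase_eq_empty_iff] at h0
  rcases h0 with h0 | h0
  · exact h.chain.1.ne_empty h0
  · have hPR := h.le_iot
    have hRp := h.isPGroup_iot
    have hdef := iot_def P s
    obtain ⟨R, hRdef⟩ : ∃ R, R = iot P s := ⟨_, rfl⟩
    rw [← hRdef] at h0 hPR hRp hdef
    have hsup : s.sup id = R := by
      rw [h0, Finset.sup_singleton]
      rfl
    have hlow : lowSup P s = ⊥ := by
      have : lowPart P s = ∅ := by
        rw [Finset.eq_empty_iff_forall_notMem]
        intro Q hQ
        rw [mem_lowPart, h0, Finset.mem_singleton] at hQ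
        apply hQ.2
        rw [hQ.1]
        exact hPR
      unfold lowSup
      rw [this, Finset.sup_empty]
    rw [hsup, hlow] at hdef
    apply hne
    rw [h0]
    congr 1
    by_contra hne2
    obtain ⟨N, hPN, hNR, hNne, hRN⟩ := exists_proper_normal_of_lt hRp hPR (Ne.symm hne2)
    apply hNne
    apply le_antisymm hNR
    rw [hdef]
    exact invCl_le bot_le hPN hRN

open Classical in
theorem ChainData.erase_chain (h : ChainData p P s) (hne : s ≠ {P}) (hR : iot P s ∈ s) :
    ChainData p P (s.erase (iot P s)) := by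
  have hT := h.chain.sup_spec
  have hnonempty := h.erase_nonempty hne hR
  have hch : ∀ Q ∈ s.erase (iot P s), ∀ Q' ∈ s.erase (iot P s), Q ≤ Q' ∨ Q' ≤ Q := by
    intro Q hQ Q' hQ'
    exact h.chain.2.1 Q (Finset.mem_of_mem_erase hQ) Q' (Finset.mem_of_mem_erase hQ')
  refine ⟨⟨hnonempty, hch, ?_, ?_⟩, ?_, h.pgrp, h.ne_bot⟩
  · intro Q hQ
    exact h.chain.2.2.1 Q (Finset.mem_of_mem_erase hQ)
  · refine ⟨(s.erase (iot P s)).sup id, ?_, ?_⟩
    · rcases sup_mem_or_eq_bot _ hch with h1 | h1
      · exact h1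
      · exfalso
        obtain ⟨Q, hQ⟩ := hnonempty
        have : Q ≤ (s.erase (iot P s)).sup id := Finset.le_sup (f := id) hQ
        rw [h1, le_bot_iff] at this
        exact (h.chain.2.2.1 Q (Finset.mem_of_mem_erase hQ)).1 this
    · intro Q hQ
      refine ⟨Finset.le_sup (f := id) hQ, ?_⟩
      refine le_trans ?_ (hT.2 Q (Finset.mem_of_mem_erase hQ)).2
      exact Finset.sup_mono (Finset.erase_subset _ _)
  · intro Q hQ
    exact h.norm Q (Finset.mem_of_mem_erase hQ)

open Classical in
theorem ChainData.lowPart_erase (h : ChainData p P s) :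
    lowPart P (s.erase (iot P s)) = lowPart P s := by
  ext Q
  rw [mem_lowPart, mem_lowPart, Finset.mem_erase]
  constructor
  · rintro ⟨⟨_, hQ⟩, h2⟩
    exact ⟨hQ, h2⟩
  · rintro ⟨hQ, h2⟩
    refine ⟨⟨?_, hQ⟩, h2⟩
    intro h0
    apply h2
    rw [h0]
    exact h.le_iot

open Classical in
theorem ChainData.iot_erase (h : ChainData p P s) (hR : iot P s ∈ s) :
    iot P (s.erase (iot P s)) = iot P s := by
  have hT := h.chain.sup_spec
  have h1 : lowSup P (s.erase (iot P s)) = lowSup P s := by
    unfold lowSup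
    rw [h.lowPart_erase]
  have hle : (s.erase (iot P s)).sup id ≤ s.sup id := Finset.sup_mono (Finset.erase_subset _ _)
  have key : iot P (s.erase (iot P s))
      = invCl ((s.erase (iot P s)).sup id) (lowSup P s) P := by
    rw [iot_def P (s.erase (iot P s)), h1]
  rw [key]
  by_cases hRT : iot P s = s.sup id
  · apply le_antisymm (invCl_mono_left hle _ _)
    by_contra hcon
    have hne2 : invCl ((s.erase (iot P s)).sup id) (lowSup P s) P ≠ iot P s := by
      intro h0
      apply hcon
      rw [h0]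
      exact le_refl _
    obtain ⟨N, hPN, hNR, hNne, hRN⟩ := exists_proper_normal_of_lt h.isPGroup_iot
      (invCl_mono_left hle _ _) hne2
    apply hNne
    apply le_antisymm hNR
    conv_lhs => rw [iot_def P s]
    apply invCl_le ((left_le_invCl _ _ _).trans hPN) ((right_le_invCl _ _ _).trans hPN)
    rw [← hRT]
    exact hRN
  · have : s.sup id ≤ (s.erase (iot P s)).sup id := by
      apply Finset.le_sup (f := id)
      rw [Finset.mem_erase]
      exact ⟨Ne.symm hRT, hT.1⟩
    rw [le_antisymm hle this]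
    rfl

end caseB

section toggle

variable {G : Type*} [Group G] [Finite G]
variable {p : ℕ} [Fact p.Prime] {P : Subgroup G} {s : Finset (Subgroup G)}

open Classical in
theorem tog_def (P : Subgroup G) (s : Finset (Subgroup G)) :
    tog P s = if iot P s ∈ s then s.erase (iot P s) else insert (iot P s) s := rfl

open Classical in
theorem ChainData.tog_chain (h : ChainData p P s) (hne : s ≠ {P}) : ChainData p P (tog P s) := by
  rw [tog_def]
  split_ifs with hR
  · exact h.erase_chain hne hR
  · exact h.insert_chain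

open Classical in
theorem ChainData.iot_tog (h : ChainData p P s) : iot P (tog P s) = iot P s := by
  rw [tog_def]
  split_ifs with hR
  · exact h.iot_erase hR
  · exact h.iot_insert

open Classical in
theorem ChainData.tog_tog (h : ChainData p P s) : tog P (tog P s) = s := by
  rw [tog_def P (tog P s), h.iot_tog]
  by_cases hR : iot P s ∈ s
  · have : tog P s = s.erase (iot P s) := by rw [tog_def, if_pos hR]
    rw [this, if_neg (Finset.notMem_erase _ _), Finset.insert_erase hR]
  · have : tog P s = insert (iot P s) s := by rw [tog_def, if_neg hR]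
    rw [this, if_pos (Finset.mem_insert_self _ _), Finset.erase_insert hR]

open Classical in
theorem ChainData.tog_ne (h : ChainData p P s) (hne : s ≠ {P}) : tog P s ≠ {P} := by
  rw [tog_def]
  split_ifs with hR
  · intro h0
    have hP : P ∈ s.erase (iot P s) := by rw [h0]; exact Finset.mem_singleton_self _
    rw [Finset.mem_erase] at hP
    exact hP.1 (le_antisymm h.le_iot (h.iot_le_up hP.2 (le_refl _)))
  · intro h0
    apply hne
    have hall : ∀ Q ∈ s, Q = P := by
      intro Q hQ
      have : Q ∈ insert (iot P s) s := Finset.mem_insert_of_mem hQ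
      rw [h0, Finset.mem_singleton] at this
      exact this
    obtain ⟨Q, hQ⟩ := h.chain.1
    rw [Finset.eq_singleton_iff_unique_mem]
    refine ⟨?_, hall⟩
    rw [← hall Q hQ]
    exact hQ

open Classical in
theorem ChainData.card_tog (h : ChainData p P s) :
    (tog P s).card + 1 = s.card ∨ (tog P s).card = s.card + 1 := by
  rw [tog_def]
  split_ifs with hR
  · left; exact Finset.card_erase_add_one hR
  · right; exact Finset.card_insert_of_notMem hR

open Classical in
theorem ChainData.chainNorm_tog (h : ChainData p P s) (hne : s ≠ {P}) :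
    chainNorm (tog P s) ⊓ Subgroup.normalizer ((P : Subgroup G) : Set G)
      = chainNorm s ⊓ Subgroup.normalizer ((P : Subgroup G) : Set G) := by
  rw [tog_def]
  split_ifs with hR
  · have h' := (h.erase_chain hne hR).chainNorm_insert
    rw [h.iot_erase hR, Finset.insert_erase hR] at h'
    exact h'.symm
  · exact h.chainNorm_insert

theorem centralizer_le_normalizer_zpowers_kr (u : G) :
    Subgroup.centralizer ({u} : Set G) ≤ Subgroup.normalizer ((Subgroup.zpowers u : Subgroup G) : Set G) := by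
  intro c hc
  rw [Subgroup.mem_centralizer_iff] at hc
  have hcu : u * c = c * u := hc u (Set.mem_singleton u)
  rw [Subgroup.mem_normalizer_iff]
  have key : ∀ h : G, h ∈ Subgroup.zpowers u → c * h * c⁻¹ = h := by
    intro h hh
    obtain ⟨i, rfl⟩ := Subgroup.mem_zpowers_iff.mp hh
    have : Commute c u := hcu.symm
    have h2 : Commute c (u ^ i) := this.zpow_right i
    rw [h2.eq, mul_inv_cancel_right]
  intro h
  constructor
  · intro hh
    rw [key h hh]
    exact hh
  · intro hh
    have := key _ hh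
    have e : h = c⁻¹ * (c * h * c⁻¹) * c := by group
    rw [e]
    have h3 : c⁻¹ * (c * h * c⁻¹) * c = c * h * c⁻¹ := by
      have h4 : c * (c * h * c⁻¹) * c⁻¹ = c * h * c⁻¹ := this
      calc c⁻¹ * (c * h * c⁻¹) * c = c⁻¹ * (c * (c * h * c⁻¹) * c⁻¹) * c := by rw [h4]
        _ = c * h * c⁻¹ := by group
    rw [h3]
    exact hh

/-- the alternating sum over the chains fixed by a `p`-element reduces to the single chain
`{⟨u⟩}` -/
theorem sum_chains_eq (F : Subgroup G → ℂ) (u : G) (hu : ∃ k : ℕ, orderOf u = p ^ k)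
    (hu1 : u ≠ 1) (𝒩 : Finset (Finset (Subgroup G)))
    (h𝒩 : ∀ s, s ∈ 𝒩 ↔ IsNChain p s ∧ u ∈ chainNorm s) :
    ∑ s ∈ 𝒩, (-1 : ℂ) ^ (s.card - 1) * F (chainNorm s ⊓ Subgroup.centralizer ({u} : Set G))
      = F (Subgroup.centralizer ({u} : Set G)) := by
  classical
  obtain ⟨P, hPdef⟩ : ∃ P : Subgroup G, P = Subgroup.zpowers u := ⟨_, rfl⟩
  have hP : IsPGroup p P := by
    obtain ⟨k, hk⟩ := hu
    rw [hPdef]
    apply IsPGroup.of_card (n := k)
    rw [Nat.card_zpowers, hk]
  have hP1 : P ≠ ⊥ := by
    rw [hPdef]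
    intro h0
    rw [Subgroup.zpowers_eq_bot] at h0
    exact hu1 h0
  have huP : u ∈ P := by rw [hPdef]; exact Subgroup.mem_zpowers u
  have hCN : Subgroup.centralizer ({u} : Set G) ≤ Subgroup.normalizer ((P : Subgroup G) : Set G) := by
    rw [hPdef]
    exact centralizer_le_normalizer_zpowers_kr u
  have hdata : ∀ s ∈ 𝒩, ChainData p P s := by
    intro s hs
    rw [h𝒩] at hs
    refine ⟨hs.1, ?_, hP, hP1⟩
    intro Q hQ
    rw [hPdef, Subgroup.zpowers_le]
    exact mem_chainNorm_iff.mp hs.2 Q hQ
  have hsing : ({P} : Finset (Subgroup G)) ∈ 𝒩 := by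
    rw [h𝒩]
    refine ⟨⟨Finset.singleton_nonempty _, ?_, ?_, ?_⟩, ?_⟩
    · intro Q hQ R hR
      rw [Finset.mem_singleton] at hQ hR
      rw [hQ, hR]
      left; exact le_refl _
    · intro Q hQ
      rw [Finset.mem_singleton] at hQ
      rw [hQ]
      exact ⟨hP1, hP⟩
    · refine ⟨P, Finset.mem_singleton_self _, ?_⟩
      intro Q hQ
      rw [Finset.mem_singleton] at hQ
      rw [hQ]
      exact ⟨le_refl _, Subgroup.le_normalizer⟩
    · rw [mem_chainNorm_iff]
      intro Q hQ
      rw [Finset.mem_singleton] at hQ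
      rw [hQ]
      exact Subgroup.le_normalizer huP
  have hcent : ∀ K : Subgroup G, K ⊓ Subgroup.centralizer ({u} : Set G)
      = (K ⊓ Subgroup.normalizer ((P : Subgroup G) : Set G))
        ⊓ Subgroup.centralizer ({u} : Set G) := by
    intro K
    rw [inf_assoc, inf_eq_right.mpr hCN]
  rw [← Finset.add_sum_erase 𝒩 _ hsing]
  have hrest : ∑ s ∈ 𝒩.erase {P},
      (-1 : ℂ) ^ (s.card - 1) * F (chainNorm s ⊓ Subgroup.centralizer ({u} : Set G)) = 0 := by
    apply Finset.sum_involution (fun s _ => tog P s)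
    · intro s hs
      rw [Finset.mem_erase] at hs
      have hd := hdata s hs.2
      have hFeq : chainNorm (tog P s) ⊓ Subgroup.centralizer ({u} : Set G)
          = chainNorm s ⊓ Subgroup.centralizer ({u} : Set G) := by
        rw [hcent, hd.chainNorm_tog hs.1, ← hcent]
      rw [hFeq]
      have hpos : 0 < s.card := Finset.card_pos.mpr hd.chain.1
      have hpos' : 0 < (tog P s).card := Finset.card_pos.mpr (hd.tog_chain hs.1).chain.1
      rcases hd.card_tog with hc | hc
      · obtain ⟨c, hc'⟩ : ∃ c, (tog P s).card = c + 1 := ⟨(tog P s).card - 1, by omega⟩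
        have : s.card = c + 2 := by omega
        rw [hc', this]
        simp only [Nat.add_sub_cancel]
        have : c + 2 - 1 = c + 1 := by omega
        rw [this, pow_succ]
        ring
      · obtain ⟨c, hc'⟩ : ∃ c, s.card = c + 1 := ⟨s.card - 1, by omega⟩
        have : (tog P s).card = c + 2 := by omega
        rw [hc', this]
        simp only [Nat.add_sub_cancel]
        have : c + 2 - 1 = c + 1 := by omega
        rw [this, pow_succ]
        ring
    · intro s hs _
      rw [Finset.mem_erase] at hs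
      have hd := hdata s hs.2
      intro h0
      have := hd.card_tog
      rw [h0] at this
      omega
    · intro s hs
      rw [Finset.mem_erase] at hs ⊢
      have hd := hdata s hs.2
      refine ⟨hd.tog_ne hs.1, ?_⟩
      rw [h𝒩]
      have hd' := hd.tog_chain hs.1
      refine ⟨hd'.chain, ?_⟩
      rw [mem_chainNorm_iff]
      intro Q hQ
      exact hd'.norm Q hQ huP
    · intro s hs
      rw [Finset.mem_erase] at hs
      have hd := hdata s hs.2
      exact hd.tog_tog
  rw [hrest, add_zero, Finset.card_singleton, Nat.sub_self, pow_zero, one_mul]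
  congr 1
  rw [inf_eq_right]
  intro x hx
  rw [mem_chainNorm_iff]
  intro Q hQ
  rw [Finset.mem_singleton] at hQ
  rw [hQ]
  exact hCN hx

end toggle

end Cfsg.Agent.Lib.Helper6
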