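import Mathlib
import Cfsg.Prelude.Def_Blocks
import Cfsg.Prelude.Def_BlockRank
import Cfsg.Agent.Lib.Helper6.BlkRank
import Cfsg.Agent.Lib.Helper6.BlkSections

set_option autoImplicit false
set_option linter.unusedSectionVars false
open Cfsg

namespace Cfsg.Agent.Lib.Helper6

open scoped ComplexConjugate

section rank

variable {G : Type*} [Group G] [Fintype G] [DecidableEq G]
variable {p : ℕ} {M : Ideal Cfsg.AlgInt}

/-- the projection fixes the `p`-regular parts of the members of a union of blocks -/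
theorem pRegProj_pRegularPart_union (hM : Cfsg.IsPModular p M) [Fintype (Cfsg.IrrCharacter G)]
    (S : Set (Cfsg.IrrCharacter G)) [DecidablePred (· ∈ S)]
    (hS : ∀ ξ ∈ S, Cfsg.blockOf M (ξ : G → ℂ) ⊆ S)
    (χ' : Cfsg.IrrCharacter G) (hχ' : χ' ∈ S) :
    pRegProj p S (Cfsg.pRegularPart p (χ' : G → ℂ))
      = Cfsg.pRegularPart p (χ' : G → ℂ) := by
  classical
  funext g
  rw [pRegProj_apply, Finset.sum_apply]
  simp only [Pi.smul_apply, smul_eq_mul]
  by_cases hg : p ∣ orderOf g
  · have h0 : ∀ χ : Cfsg.IrrCharacter G, Cfsg.pRegularPart p (χ : G → ℂ) g = 0 := by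
      intro χ
      unfold Cfsg.pRegularPart Cfsg.IsPRegular
      rw [if_neg (not_not.mpr hg)]
    simp only [h0, mul_zero, Finset.sum_const_zero]
  · have h1 : ∀ χ : Cfsg.IrrCharacter G, Cfsg.pRegularPart p (χ : G → ℂ) g = (χ : G → ℂ) g := by
      intro χ
      unfold Cfsg.pRegularPart Cfsg.IsPRegular
      rw [if_pos hg]
    simp only [h1]
    have h2 : ∑ χ ∈ Finset.univ.filter (· ∈ S),
          Cfsg.classInner (Cfsg.pRegularPart p (χ' : G → ℂ)) (χ : G → ℂ) * (χ : G → ℂ) g
        = ∑ χ ∈ Finset.univ.filter (· ∈ S),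
          Cfsg.classInner (χ' : G → ℂ) (χ : G → ℂ) * (χ : G → ℂ) g := by
      unfold Cfsg.classInner
      simp_rw [mul_assoc, ← Finset.mul_sum, Finset.sum_mul]
      congr 1
      rw [Finset.sum_comm]
      conv_rhs => rw [Finset.sum_comm]
      apply Finset.sum_congr rfl
      intro y _
      by_cases hy : p ∣ orderOf y
      · have h3 : Cfsg.pRegularPart p (χ' : G → ℂ) y = 0 := by
          unfold Cfsg.pRegularPart Cfsg.IsPRegular
          rw [if_neg (not_not.mpr hy)]
        simp only [h3, zero_mul, Finset.sum_const_zero]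
        symm
        have h4 := weak_orthogonality_union hM S hS g y hg hy
        have h5 : ∑ χ ∈ Finset.univ.filter (· ∈ S),
            (χ' : G → ℂ) y * conj ((χ : G → ℂ) y) * (χ : G → ℂ) g
            = (χ' : G → ℂ) y * ∑ χ ∈ Finset.univ.filter (· ∈ S),
              (χ : G → ℂ) g * conj ((χ : G → ℂ) y) := by
          rw [Finset.mul_sum]
          apply Finset.sum_congr rfl
          intro χ _
          ring
        rw [h5, h4, mul_zero]
      · have h3 : Cfsg.pRegularPart p (χ' : G → ℂ) y = (χ' : G → ℂ) y := by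
          unfold Cfsg.pRegularPart Cfsg.IsPRegular
          rw [if_pos hy]
        simp only [h3]
    rw [h2]
    simp_rw [classInner_irrCharacter]
    rw [Finset.sum_eq_single_of_mem χ' (by simp [hχ'])]
    · rw [if_pos rfl, one_mul]
    · intro χ _ hne
      rw [if_neg (Ne.symm hne), zero_mul]

/-- the projection onto the span, for a union of blocks -/
theorem pRegProj_isProj_union (hM : Cfsg.IsPModular p M) [Fintype (Cfsg.IrrCharacter G)]
    (S : Set (Cfsg.IrrCharacter G)) [DecidablePred (· ∈ S)]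
    (hS : ∀ ξ ∈ S, Cfsg.blockOf M (ξ : G → ℂ) ⊆ S) :
    LinearMap.IsProj (Submodule.span ℂ ((fun χ : Cfsg.IrrCharacter G =>
      Cfsg.pRegularPart p (χ : G → ℂ)) '' S)) (pRegProj p S) := by
  constructor
  · intro f
    rw [pRegProj_apply]
    apply Submodule.sum_mem
    intro χ hχ
    simp only [Finset.mem_filter, Finset.mem_univ, true_and] at hχ
    apply Submodule.smul_mem
    apply Submodule.subset_span
    exact ⟨χ, hχ, rfl⟩
  · intro v hv
    induction hv using Submodule.span_induction with
    | mem x hx =>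
      obtain ⟨χ', hχ', rfl⟩ := hx
      exact pRegProj_pRegularPart_union hM S hS χ' hχ'
    | zero => exact map_zero _
    | add x y _ _ hx hy => rw [map_add, hx, hy]
    | smul c x _ hx => rw [map_smul, hx]

/-- the `p`-regular rank of a union of blocks as a sum over the `p`-regular elements -/
theorem blockRank_mul_card_union (hM : Cfsg.IsPModular p M) [Fintype (Cfsg.IrrCharacter G)]
    (S : Set (Cfsg.IrrCharacter G)) [DecidablePred (· ∈ S)]
    (hS : ∀ ξ ∈ S, Cfsg.blockOf M (ξ : G → ℂ) ⊆ S) :
    (Nat.card G : ℂ) * (Cfsg.blockRank p S : ℂ)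
      = ∑ y ∈ Finset.univ.filter (fun y : G => ¬ p ∣ orderOf y),
          ∑ χ ∈ Finset.univ.filter (· ∈ S), (χ : G → ℂ) y * conj ((χ : G → ℂ) y) := by
  classical
  have hproj := pRegProj_isProj_union (p := p) hM S hS
  have htr := LinearMap.IsProj.trace hproj
  have h1 := trace_pRegProj (p := p) S
  rw [htr] at h1
  unfold Cfsg.blockRank
  rw [h1, Finset.sum_filter]
  apply Finset.sum_congr rfl
  intro x _
  split_ifs with hx
  · apply Finset.sum_eq_zero
    intro χ _
    have : Cfsg.pRegularPart p (χ : G → ℂ) x = 0 := by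
      unfold Cfsg.pRegularPart Cfsg.IsPRegular
      rw [if_neg (not_not.mpr hx)]
    rw [this, zero_mul]
  · apply Finset.sum_congr rfl
    intro χ _
    have : Cfsg.pRegularPart p (χ : G → ℂ) x = (χ : G → ℂ) x := by
      unfold Cfsg.pRegularPart Cfsg.IsPRegular
      rw [if_pos hx]
    rw [this, IsCharacter.apply_inv (IsIrrCharacter.isCharacter χ.2)]

end rank

end Cfsg.Agent.Lib.Helper6
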