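import Mathlib
import Cfsg.Prelude.Def_Blocks
import Cfsg.Prelude.Def_BlockRank
import Cfsg.Agent.Lib.Helper6.KRRank

set_option autoImplicit false
set_option linter.unusedSectionVars false
open Cfsg

namespace Cfsg.Agent.Lib.Helper6

open scoped ComplexConjugate

section sections

variable {G : Type*} [Group G] [Fintype G] [DecidableEq G]
variable {p : ℕ} {M : Ideal Cfsg.AlgInt}

open Classical in
/-- decomposition of a sum over the group according to the `p`-part -/
theorem sum_eq_sum_pPart (hp : p.Prime) (F : G → ℂ) :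
    ∑ g : G, F g = ∑ u ∈ Finset.univ.filter (fun u : G => ∃ k : ℕ, orderOf u = p ^ k),
      ∑ y ∈ Finset.univ.filter (fun y : G => Commute u y ∧ ¬ p ∣ orderOf y), F (u * y) := by
  classical
  have h1 : ∀ g : G, F g = ∑ u : G, if Cfsg.IsPPart p g u then F g else 0 := by
    intro g
    obtain ⟨u₀, hu₀⟩ := exists_isPPart hp g
    rw [Finset.sum_eq_single u₀]
    · rw [if_pos hu₀]
    · intro u _ hne
      rw [if_neg]
      intro hu
      exact hne (IsPPart.unique hp hu hu₀)
    · intro h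
      exact absurd (Finset.mem_univ _) h
  rw [Finset.sum_congr rfl (fun g _ => h1 g), Finset.sum_comm, Finset.sum_filter]
  apply Finset.sum_congr rfl
  intro u _
  split_ifs with hu
  · rw [Finset.sum_filter, ← Equiv.sum_comp (Equiv.mulLeft u)]
    apply Finset.sum_congr rfl
    intro y _
    simp only [Equiv.coe_mulLeft]
    have : Cfsg.IsPPart p (u * y) u ↔ (Commute u y ∧ ¬ p ∣ orderOf y) := by
      constructor
      · rintro ⟨y', hy', hc, _, hr⟩
        have : y' = y := mul_left_cancel hy'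
        subst this
        exact ⟨hc, hr⟩
      · rintro ⟨hc, hr⟩
        exact ⟨y, rfl, hc, hu, hr⟩
    by_cases hc : Commute u y ∧ ¬ p ∣ orderOf y
    · rw [if_pos hc]; exact if_pos (this.mpr hc)
    · rw [if_neg hc]; exact if_neg (fun h => hc (this.mp h))
  · apply Finset.sum_eq_zero
    intro g _
    rw [if_neg]
    rintro ⟨y', _, _, hk, _⟩
    exact hu hk

open Classical in
/-- the counting formula for a union of blocks: characters minus rank as a sum over the
nontrivial `p`-sections -/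
theorem card_sub_rank_union (hM : Cfsg.IsPModular p M) [Fintype (Cfsg.IrrCharacter G)]
    (S : Set (Cfsg.IrrCharacter G)) [DecidablePred (· ∈ S)]
    (hS : ∀ ξ ∈ S, Cfsg.blockOf M (ξ : G → ℂ) ⊆ S) :
    (Nat.card G : ℂ) * (((Finset.univ.filter (· ∈ S)).card : ℂ) - (Cfsg.blockRank p S : ℂ))
      = ∑ u ∈ Finset.univ.filter (fun u : G => (∃ k : ℕ, orderOf u = p ^ k) ∧ u ≠ 1),
          ∑ y ∈ Finset.univ.filter (fun y : G => Commute u y ∧ ¬ p ∣ orderOf y),
            ∑ ζ ∈ Finset.univ.filter (· ∈ S),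
              (ζ : G → ℂ) (u * y) * conj ((ζ : G → ℂ) (u * y)) := by
  classical
  have hp : p.Prime := hM.1
  have hG : (Nat.card G : ℂ) ≠ 0 := card_ne_zero_complex G
  -- the total sum
  have h1 : (Nat.card G : ℂ) * ((Finset.univ.filter (· ∈ S)).card : ℂ)
      = ∑ g : G, ∑ ζ ∈ Finset.univ.filter (· ∈ S), (ζ : G → ℂ) g * conj ((ζ : G → ℂ) g) := by
    rw [Finset.sum_comm]
    have : ∀ ζ : Cfsg.IrrCharacter G, ∑ g : G, (ζ : G → ℂ) g * conj ((ζ : G → ℂ) g)
        = (Nat.card G : ℂ) := by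
      intro ζ
      have h := classInner_irrCharacter ζ ζ
      rw [if_pos rfl] at h
      unfold Cfsg.classInner at h
      field_simp at h
      rw [h]
    rw [Finset.sum_congr rfl (fun ζ _ => this ζ), Finset.sum_const, nsmul_eq_mul, mul_comm]
  rw [mul_sub, h1, blockRank_mul_card_union hM S hS, sum_eq_sum_pPart hp]
  have hsplit : Finset.univ.filter (fun u : G => ∃ k : ℕ, orderOf u = p ^ k)
      = insert (1 : G)
        (Finset.univ.filter (fun u : G => (∃ k : ℕ, orderOf u = p ^ k) ∧ u ≠ 1)) := by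
    ext u
    simp only [Finset.mem_filter, Finset.mem_univ, true_and, Finset.mem_insert]
    constructor
    · intro hu
      by_cases h : u = 1
      · left; exact h
      · right; exact ⟨hu, h⟩
    · rintro (rfl | ⟨hu, _⟩)
      · exact ⟨0, by simp⟩
      · exact hu
  rw [hsplit, Finset.sum_insert (by simp)]
  have hone : ∑ y ∈ Finset.univ.filter (fun y : G => Commute (1 : G) y ∧ ¬ p ∣ orderOf y),
      ∑ ζ ∈ Finset.univ.filter (· ∈ S),
        (ζ : G → ℂ) (1 * y) * conj ((ζ : G → ℂ) (1 * y))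
      = ∑ y ∈ Finset.univ.filter (fun y : G => ¬ p ∣ orderOf y),
          ∑ χ ∈ Finset.univ.filter (· ∈ S), (χ : G → ℂ) y * conj ((χ : G → ℂ) y) := by
    apply Finset.sum_congr
    · ext y
      simp [Commute.one_left]
    · intro y _
      simp only [one_mul]
  rw [hone]
  ring

/-- the characters of `C_G(z)` lying in blocks that induce a block inside `S` -/
def secSet (M : Ideal Cfsg.AlgInt) (S : Set (Cfsg.IrrCharacter G)) (H : Subgroup G) :
    Set (Cfsg.IrrCharacter H) :=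
  {ξ | ∃ χ ∈ S, Cfsg.IsInducedBlock M H (Cfsg.blockOf M (ξ : H → ℂ)) (Cfsg.blockOf M (χ : G → ℂ))}

/-- second main theorem summed over a union of blocks -/
theorem sum_sq_shift_union (hM : Cfsg.IsPModular p M) [Fintype (Cfsg.IrrCharacter G)]
    (S : Set (Cfsg.IrrCharacter G)) [DecidablePred (· ∈ S)]
    (hS : ∀ ξ ∈ S, Cfsg.blockOf M (ξ : G → ℂ) ⊆ S)
    (z : G) (hz : ∃ k : ℕ, orderOf z = p ^ k) (H : Subgroup G) [Fintype H]
    (hH : H = Subgroup.centralizer ({z} : Set G)) [Fintype (Cfsg.IrrCharacter H)]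
    [DecidablePred (· ∈ secSet M S H)]
    (y : H) (hy : ¬ p ∣ orderOf y) :
    ∑ ζ ∈ Finset.univ.filter (· ∈ S),
        (ζ : G → ℂ) (z * (y : G)) * conj ((ζ : G → ℂ) (z * (y : G)))
      = ∑ ξ ∈ Finset.univ.filter (· ∈ secSet M S H), (ξ : H → ℂ) y * conj ((ξ : H → ℂ) y) := by
  classical
  rw [sum_blockUnion hM S hS]
  -- each block separately
  have h1 : ∀ ψ₀ : Cfsg.IrrCharacter G,
      ∑ᶠ ζ ∈ Cfsg.blockOf M (ψ₀ : G → ℂ),
        (ζ : G → ℂ) (z * (y : G)) * conj ((ζ : G → ℂ) (z * (y : G)))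
      = ∑ ξ ∈ Finset.univ.filter (· ∈ {ξ : Cfsg.IrrCharacter H |
          Cfsg.IsInducedBlock M H (Cfsg.blockOf M (ξ : H → ℂ)) (Cfsg.blockOf M (ψ₀ : G → ℂ))}),
          (ξ : H → ℂ) y * conj ((ξ : H → ℂ) y) := by
    intro ψ₀
    rw [← sum_blockPart_shift_sq_union hM z hz H hH _
      (inducedSet_isUnion hM H (Cfsg.blockOf M (ψ₀ : G → ℂ))) y hy,
      finsum_mem_eq_sum_filter_lib, Finset.sum_filter]
    apply Finset.sum_congr rfl
    intro ζ _
    rw [blockPart_shift_induced hM z hz H hH _ ⟨ψ₀, rfl⟩ ζ y hy]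
    split_ifs with hζ
    · rfl
    · simp
  have h2 : ∀ b ∈ (Finset.univ.filter (· ∈ S)).image
      (fun ψ : Cfsg.IrrCharacter G => Cfsg.blockOf M (ψ : G → ℂ)),
      ∑ᶠ ζ ∈ b, (ζ : G → ℂ) (z * (y : G)) * conj ((ζ : G → ℂ) (z * (y : G)))
      = ∑ ξ : Cfsg.IrrCharacter H,
          if Cfsg.IsInducedBlock M H (Cfsg.blockOf M (ξ : H → ℂ)) b
            then (ξ : H → ℂ) y * conj ((ξ : H → ℂ) y) else 0 := by
    intro b hb
    obtain ⟨ψ₀, _, rfl⟩ := Finset.mem_image.mp hb
    rw [h1 ψ₀, Finset.sum_filter]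
    rfl
  rw [Finset.sum_congr rfl h2, Finset.sum_comm, Finset.sum_filter]
  apply Finset.sum_congr rfl
  intro ξ _
  split_ifs with hξ
  · obtain ⟨χ, hχS, hχ⟩ := hξ
    rw [Finset.sum_eq_single (Cfsg.blockOf M (χ : G → ℂ))]
    · rw [if_pos hχ]
    · intro b' _ hne
      rw [if_neg]
      intro hb'
      exact hne (IsInducedBlock.unique H hM hb' hχ)
    · intro hnot
      exfalso
      apply hnot
      apply Finset.mem_image_of_mem
      simp [hχS]
  · apply Finset.sum_eq_zero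
    intro b hb
    obtain ⟨ψ₀, hψ₀, rfl⟩ := Finset.mem_image.mp hb
    rw [if_neg]
    intro hind
    apply hξ
    simp only [Finset.mem_filter, Finset.mem_univ, true_and] at hψ₀
    exact ⟨ψ₀, hψ₀, hind⟩

end sections

end Cfsg.Agent.Lib.Helper6
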