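import Mathlib
import Cfsg.Agent.Lib.Helper6.BlkRankLemmas
import Cfsg.Agent.Lib.Helper6.BlkMinMax
import Cfsg.Agent.Lib.Helper6.BrConj
import Cfsg.Agent.Lib.Helper6.BlkInd

set_option autoImplicit false
set_option linter.unusedSectionVars false
open Cfsg

namespace Cfsg.Agent.Lib.Helper6

open scoped ComplexConjugate

section rankiso

variable {p : ℕ} {M : Ideal Cfsg.AlgInt}

/-- the `p`-regular rank is invariant under transport along an isomorphism -/
theorem blockRank_mapIrr_image {K K' : Type*} [Group K] [Group K'] [Finite K] [Finite K']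
    (φ : K ≃* K') (A : Set (Cfsg.IrrCharacter K)) :
    Cfsg.blockRank p (mapIrr φ '' A) = Cfsg.blockRank p A := by
  classical
  unfold Cfsg.blockRank
  obtain ⟨L, hL⟩ : ∃ L : (K → ℂ) ≃ₗ[ℂ] (K' → ℂ), ∀ f : K → ℂ, L f = fun h => f (φ.symm h) :=
    ⟨LinearEquiv.funCongrLeft ℂ ℂ φ.symm.toEquiv, fun f => rfl⟩
  have himg : (fun ξ : Cfsg.IrrCharacter K' => Cfsg.pRegularPart p (ξ : K' → ℂ)) ''
      (mapIrr φ '' A)
      = L '' ((fun χ : Cfsg.IrrCharacter K => Cfsg.pRegularPart p (χ : K → ℂ)) '' A) := by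
    rw [Set.image_image, Set.image_image]
    apply Set.image_congr
    intro χ _
    rw [hL]
    exact pRegularPart_comp_mulEquiv φ.symm (χ : K → ℂ)
  rw [himg]
  have h1 : Submodule.span ℂ (L '' ((fun χ : Cfsg.IrrCharacter K =>
      Cfsg.pRegularPart p (χ : K → ℂ)) '' A))
      = (Submodule.span ℂ ((fun χ : Cfsg.IrrCharacter K =>
      Cfsg.pRegularPart p (χ : K → ℂ)) '' A)).map (L : (K → ℂ) →ₗ[ℂ] (K' → ℂ)) := by
    rw [Submodule.map_span]
    rfl
  rw [h1]
  exact LinearEquiv.finrank_map_eq L _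

end rankiso

section top

variable {G : Type*} [Group G] [Fintype G] [DecidableEq G]
variable {p : ℕ} {M : Ideal Cfsg.AlgInt}

/-- the induced central character from a subgroup that is everything -/
theorem inducedCentralChar_of_forall_mem (H : Subgroup G) [Fintype H] (hH : ∀ g : G, g ∈ H)
    (χ : G → ℂ) (hχ : Cfsg.IsClassFunction G χ) (g : G) :
    Cfsg.inducedCentralChar H (fun h : H => χ h) g = Cfsg.centralChar χ g := by
  rw [inducedCentralChar_eq_cOmega, resMat_regMat, cOmega_regMat, ← cOmega_classInd χ hχ g,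
    cOmega_regMat]
  congr 1
  obtain ⟨e, he⟩ : ∃ e : H ≃ G, ∀ h : H, e h = (h : G) :=
    ⟨⟨fun h => (h : G), fun g => ⟨g, hH g⟩, fun h => rfl, fun g => rfl⟩, fun h => rfl⟩
  apply Fintype.sum_equiv e
  intro h
  rw [he]
  rfl

/-- a block is induced by itself, read on a subgroup that is everything -/
theorem isInducedBlock_of_forall_mem (hM : Cfsg.IsPModular p M) (H : Subgroup G)
    (hH : ∀ g : G, g ∈ H) (e : H ≃* G) (he : ∀ h : H, e h = (h : G))
    (B : Set (Cfsg.IrrCharacter G)) (hB : Cfsg.IsPBlock M B) :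
    Cfsg.IsInducedBlock M H (mapIrr e.symm '' B) B := by
  classical
  haveI : Fintype H := Fintype.ofFinite _
  refine ⟨isPBlock_mapIrr_image _ hB, hB, ?_⟩
  rintro _ ⟨χ', hχ', rfl⟩ χ hχ g
  have hfun : ((mapIrr e.symm χ' : Cfsg.IrrCharacter H) : H → ℂ) = fun h : H => (χ' : G → ℂ) h := by
    funext h
    rw [mapIrr_apply, MulEquiv.symm_symm, he]
  rw [hfun, inducedCentralChar_of_forall_mem H hH _ (IsIrrCharacter.isClassFunction χ'.2)]
  obtain ⟨χ₀, rfl⟩ := hB
  exact centralChar_sub_memLocalIdeal_of_mem_block hM χ₀ χ' χ hχ' hχ g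

/-- for a central element `x`, a block `B` is induced from a block of `C_G(x)` of the same
`p`-regular rank -/
theorem exists_induced_of_central (hM : Cfsg.IsPModular p M) (x : G) (hx : ∀ g : G, x * g = g * x)
    (B : Set (Cfsg.IrrCharacter G)) (hB : Cfsg.IsPBlock M B) :
    ∃ b : Set (Cfsg.IrrCharacter (Subgroup.centralizer ({x} : Set G))),
      Cfsg.IsInducedBlock M (Subgroup.centralizer ({x} : Set G)) b B ∧
        Cfsg.blockRank p b = Cfsg.blockRank p B := by
  have htop : ∀ g : G, g ∈ Subgroup.centralizer ({x} : Set G) := by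
    intro g
    rw [Subgroup.mem_centralizer_singleton_iff]
    exact (hx g).symm
  have htop' : Subgroup.centralizer ({x} : Set G) = ⊤ := by
    ext g
    simp only [htop g, Subgroup.mem_top]
  obtain ⟨e, he⟩ : ∃ e : ↥(Subgroup.centralizer ({x} : Set G)) ≃* G, ∀ h, e h = (h : G) :=
    ⟨(MulEquiv.subgroupCongr htop').trans Subgroup.topEquiv, fun h => rfl⟩
  exact ⟨mapIrr e.symm '' B, isInducedBlock_of_forall_mem hM _ htop e he B hB,
    blockRank_mapIrr_image e.symm B⟩

end top

end Cfsg.Agent.Lib.Helper6
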