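import Mathlib
import Cfsg.Prelude.Def_Blocks
import Cfsg.Prelude.Def_BlockRank
import Cfsg.Agent.Lib.Helper6.KRSection
import Cfsg.Agent.Lib.Helper6.KfTop
import Cfsg.Agent.Lib.Helper6.IndCentral

set_option autoImplicit false
set_option linter.unusedSectionVars false
open Cfsg

namespace Cfsg.Agent.Lib.Helper6

open scoped ComplexConjugate

section local1

variable {G : Type*} [Group G] [Fintype G] [DecidableEq G]
variable {p : ℕ} {M : Ideal Cfsg.AlgInt}

/-- the section set is a union of blocks -/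
theorem secSet_isUnion (hM : Cfsg.IsPModular p M) (S : Set (Cfsg.IrrCharacter G))
    (H : Subgroup G) [Fintype H] :
    ∀ ξ ∈ secSet M S H, Cfsg.blockOf M (ξ : H → ℂ) ⊆ secSet M S H := by
  intro ξ hξ ξ' hξ'
  obtain ⟨χ, hχ, hind⟩ := hξ
  refine ⟨χ, hχ, ?_⟩
  rw [← blockOf_eq_of_mem hM hξ']
  exact hind

open Classical in
/-- the counting formula for a union of blocks, with the local ranks -/
theorem card_sub_rank_sections (hM : Cfsg.IsPModular p M) [Fintype (Cfsg.IrrCharacter G)]
    (S : Set (Cfsg.IrrCharacter G))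
    (hS : ∀ ξ ∈ S, Cfsg.blockOf M (ξ : G → ℂ) ⊆ S) :
    (Nat.card G : ℂ) * (((Finset.univ.filter (· ∈ S)).card : ℂ) - (Cfsg.blockRank p S : ℂ))
      = ∑ u ∈ Finset.univ.filter (fun u : G => (∃ k : ℕ, orderOf u = p ^ k) ∧ u ≠ 1),
          (Nat.card (Subgroup.centralizer ({u} : Set G)) : ℂ)
            * (Cfsg.blockRank p (secSet M S (Subgroup.centralizer ({u} : Set G))) : ℂ) := by
  rw [card_sub_rank_union hM S hS]
  apply Finset.sum_congr rfl
  intro u hu
  simp only [Finset.mem_filter, Finset.mem_univ, true_and] at hu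
  haveI : Fintype (Cfsg.IrrCharacter (Subgroup.centralizer ({u} : Set G))) := Fintype.ofFinite _
  rw [blockRank_mul_card_union hM _ (secSet_isUnion hM S (Subgroup.centralizer ({u} : Set G)))]
  symm
  refine Finset.sum_bij' (fun (y : Subgroup.centralizer ({u} : Set G)) _ => (y : G))
    (fun (y : G) hy => (⟨y, by
      simp only [Finset.mem_filter, Finset.mem_univ, true_and] at hy
      rw [Subgroup.mem_centralizer_singleton_iff]
      exact hy.1.eq.symm⟩ : Subgroup.centralizer ({u} : Set G))) ?_ ?_ ?_ ?_ ?_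
  · intro y hy
    simp only [Finset.mem_filter, Finset.mem_univ, true_and] at hy ⊢
    refine ⟨?_, ?_⟩
    · have := y.2
      rw [Subgroup.mem_centralizer_singleton_iff] at this
      exact this.symm
    · rwa [Subgroup.orderOf_coe]
  · intro y hy
    simp only [Finset.mem_filter, Finset.mem_univ, true_and] at hy ⊢
    rw [← Subgroup.orderOf_coe]
    exact hy.2
  · intro y _
    rfl
  · intro y _
    rfl
  · intro y hy
    simp only [Finset.mem_filter, Finset.mem_univ, true_and] at hy
    rw [sum_sq_shift_union hM S hS u hu.1 _ rfl y hy]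

end local1

section local2

variable {G : Type*} [Group G] [Fintype G] [DecidableEq G]
variable {p : ℕ} {M : Ideal Cfsg.AlgInt}

/-- the characters of `K` lying in blocks that induce `b` -/
def indSet (M : Ideal Cfsg.AlgInt) (b : Set (Cfsg.IrrCharacter G)) (K : Subgroup G) :
    Set (Cfsg.IrrCharacter K) :=
  {ψ | ∃ β : Set (Cfsg.IrrCharacter K), ψ ∈ β ∧ Cfsg.IsInducedBlock M K β b}

theorem mem_indSet_iff (hM : Cfsg.IsPModular p M) (b : Set (Cfsg.IrrCharacter G))
    (K : Subgroup G) [Fintype K] (ψ : Cfsg.IrrCharacter K) :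
    ψ ∈ indSet M b K ↔ Cfsg.IsInducedBlock M K (Cfsg.blockOf M (ψ : K → ℂ)) b := by
  constructor
  · rintro ⟨β, hψ, hβ⟩
    obtain ⟨θ, hθ⟩ := hβ.1
    rw [hθ] at hψ
    rw [← blockOf_eq_of_mem hM hψ, ← hθ]
    exact hβ
  · intro h
    exact ⟨_, sameBlock_refl hM _, h⟩

theorem indSet_isUnion (hM : Cfsg.IsPModular p M) (b : Set (Cfsg.IrrCharacter G))
    (K : Subgroup G) [Fintype K] :
    ∀ ξ ∈ indSet M b K, Cfsg.blockOf M (ξ : K → ℂ) ⊆ indSet M b K := by
  intro ξ hξ ξ' hξ'
  rw [mem_indSet_iff hM] at hξ ⊢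
  rw [← blockOf_eq_of_mem hM hξ']
  exact hξ

/-- for a block `b`, the section set is the induced set -/
theorem secSet_block (hM : Cfsg.IsPModular p M) (b : Set (Cfsg.IrrCharacter G))
    (hb : Cfsg.IsPBlock M b) (H : Subgroup G) [Fintype H] :
    secSet M b H = indSet M b H := by
  obtain ⟨χ₀, rfl⟩ := hb
  ext ξ
  rw [mem_indSet_iff hM]
  constructor
  · rintro ⟨χ, hχ, hind⟩
    rw [blockOf_eq_of_mem hM hχ]
    exact hind
  · intro h
    exact ⟨χ₀, sameBlock_refl hM _, h⟩

/-- every block of the centralizer of a `p`-element induces a block -/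
theorem inducedBlockDefined_centralizer_singleton_kr (hM : Cfsg.IsPModular p M) (x : G)
    (hx : ∃ k : ℕ, orderOf x = p ^ k)
    (β : Set (Cfsg.IrrCharacter (Subgroup.centralizer ({x} : Set G))))
    (hβ : Cfsg.IsPBlock M β) :
    Cfsg.InducedBlockDefined M (Subgroup.centralizer ({x} : Set G)) β := by
  classical
  have hxC : x ∈ Subgroup.centralizer ({x} : Set G) := by rw [mem_centralizer_singleton_iff]
  have hP : IsPGroup p (Subgroup.zpowers x) := by
    obtain ⟨k, hk⟩ := hx
    apply IsPGroup.of_card (n := k)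
    rw [Nat.card_zpowers, hk]
  have hPH : Subgroup.zpowers x ≤ Subgroup.centralizer ({x} : Set G) := by
    rw [Subgroup.zpowers_le]; exact hxC
  have hCH : Subgroup.centralizer (Subgroup.zpowers x : Set G)
      ≤ Subgroup.centralizer ({x} : Set G) := by
    apply Subgroup.centralizer_le
    intro g hg
    rw [Set.mem_singleton_iff] at hg
    rw [hg]
    exact Subgroup.mem_zpowers x
  have hHN : Subgroup.centralizer ({x} : Set G)
      ≤ Subgroup.normalizer (Subgroup.zpowers x : Set G) :=
    centralizer_singleton_le_normalizer_zpowers x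
  exact inducedBlockDefined_of_centralizer_le (Subgroup.zpowers x) _ hM hP hPH hCH hHN β hβ

end local2

section transport

variable {G : Type*} [Group G] [Fintype G] [DecidableEq G]
variable {p : ℕ} {M : Ideal Cfsg.AlgInt}

/-- the centralizer of `v` in `K`, read inside `G` -/
noncomputable def centSubEquiv (K : Subgroup G) (v : K) :
    ↥(Subgroup.centralizer ({v} : Set K)) ≃* ↥(K ⊓ Subgroup.centralizer ({(v : G)} : Set G)) where
  toFun x := ⟨((x : K) : G), by
    refine ⟨(x : K).2, ?_⟩
    have := x.2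
    rw [mem_centralizer_singleton_iff] at this
    change ((x : K) : G) ∈ Subgroup.centralizer ({(v : G)} : Set G)
    rw [mem_centralizer_singleton_iff]
    have h2 := congrArg (Subtype.val) this
    simpa using h2⟩
  invFun y := ⟨⟨(y : G), y.2.1⟩, by
    have : (y : G) ∈ Subgroup.centralizer ({(v : G)} : Set G) := y.2.2
    rw [mem_centralizer_singleton_iff] at this ⊢
    apply Subtype.ext
    simpa using this⟩
  left_inv x := rfl
  right_inv y := rfl
  map_mul' x y := rfl

theorem centSubEquiv_coe (K : Subgroup G) (v : K)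
    (x : ↥(Subgroup.centralizer ({v} : Set K))) :
    ((centSubEquiv K v x : ↥(K ⊓ Subgroup.centralizer ({(v : G)} : Set G))) : G)
      = ((x : K) : G) := rfl

/-- the local sets of a subgroup `K` at a `p`-element `v` of `K`, read inside `G` -/
theorem image_secSet_indSet (hM : Cfsg.IsPModular p M) (b : Set (Cfsg.IrrCharacter G))
    (K : Subgroup G) (v : K) (hv : ∃ k : ℕ, orderOf v = p ^ k) :
    mapIrr (centSubEquiv K v) '' secSet M (indSet M b K) (Subgroup.centralizer ({v} : Set K))
      = indSet M b (K ⊓ Subgroup.centralizer ({(v : G)} : Set G)) := by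
  classical
  haveI : Fintype K := Fintype.ofFinite _
  haveI : Fintype ↥(Subgroup.centralizer ({v} : Set K)) := Fintype.ofFinite _
  haveI : Fintype ↥(K ⊓ Subgroup.centralizer ({(v : G)} : Set G)) := Fintype.ofFinite _
  ext θ
  rw [mem_indSet_iff hM]
  have hfun : ∀ ξ : Cfsg.IrrCharacter ↥(Subgroup.centralizer ({v} : Set K)),
      (fun x : ↥(Subgroup.centralizer ({v} : Set K)) =>
        ((mapIrr (centSubEquiv K v) ξ :
          Cfsg.IrrCharacter ↥(K ⊓ Subgroup.centralizer ({(v : G)} : Set G))) :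
            ↥(K ⊓ Subgroup.centralizer ({(v : G)} : Set G)) → ℂ) (centSubEquiv K v x))
        = (ξ : ↥(Subgroup.centralizer ({v} : Set K)) → ℂ) := by
    intro ξ
    funext x
    rw [mapIrr_apply_apply]
  constructor
  · rintro ⟨ξ, ⟨χ, hχ, hind⟩, rfl⟩
    rw [mem_indSet_iff hM] at hχ
    apply IsInducedBlock.trans hM K (Subgroup.centralizer ({v} : Set K)) _ (centSubEquiv K v)
      (centSubEquiv_coe K v) (mapIrr (centSubEquiv K v) ξ) (β := Cfsg.blockOf M (χ : K → ℂ)) _ hχ
    rw [hfun]
    exact hind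
  · intro hθ
    obtain ⟨ξ, rfl⟩ := (mapIrr (centSubEquiv K v)).surjective θ
    refine ⟨ξ, ?_, rfl⟩
    obtain ⟨β, hβ⟩ := inducedBlockDefined_centralizer_singleton_kr hM v hv
      (Cfsg.blockOf M (ξ : ↥(Subgroup.centralizer ({v} : Set K)) → ℂ)) ⟨ξ, rfl⟩
    have h1 : Cfsg.IsInducedBlock M (Subgroup.centralizer ({v} : Set K))
        (Cfsg.blockOf M (fun x : ↥(Subgroup.centralizer ({v} : Set K)) =>
          ((mapIrr (centSubEquiv K v) ξ :
            Cfsg.IrrCharacter ↥(K ⊓ Subgroup.centralizer ({(v : G)} : Set G))) :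
              ↥(K ⊓ Subgroup.centralizer ({(v : G)} : Set G)) → ℂ) (centSubEquiv K v x))) β := by
      rw [hfun]
      exact hβ
    have h3 := IsInducedBlock.trans_rev hM K (Subgroup.centralizer ({v} : Set K)) _
      (centSubEquiv K v) (centSubEquiv_coe K v) (mapIrr (centSubEquiv K v) ξ) h1 hθ
    obtain ⟨χ, hχ⟩ := hβ.2.1
    refine ⟨χ, ?_, ?_⟩
    · rw [mem_indSet_iff hM, ← hχ]
      exact h3
    · rw [← hχ]
      exact hβ

end transport

section lemmaK

variable {G : Type*} [Group G] [Fintype G] [DecidableEq G]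
variable {p : ℕ} {M : Ideal Cfsg.AlgInt}

theorem natCard_set_eq_filter_card {α : Type*} [Fintype α] (S : Set α) [DecidablePred (· ∈ S)] :
    Nat.card S = (Finset.univ.filter (· ∈ S)).card := by
  rw [← Fintype.card_subtype, Nat.card_eq_fintype_card]

open Classical in
/-- the local formula for a block of `G` -/
theorem card_sub_rank_block (hM : Cfsg.IsPModular p M) (b : Set (Cfsg.IrrCharacter G))
    (hb : Cfsg.IsPBlock M b) :
    (Nat.card G : ℂ) * ((Nat.card b : ℂ) - (Cfsg.blockRank p b : ℂ))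
      = ∑ u ∈ Finset.univ.filter (fun u : G => (∃ k : ℕ, orderOf u = p ^ k) ∧ u ≠ 1),
          (Nat.card (Subgroup.centralizer ({u} : Set G)) : ℂ)
            * (Cfsg.blockRank p (indSet M b (Subgroup.centralizer ({u} : Set G))) : ℂ) := by
  haveI : Fintype (Cfsg.IrrCharacter G) := Fintype.ofFinite _
  have hS : ∀ ξ ∈ b, Cfsg.blockOf M (ξ : G → ℂ) ⊆ b := by
    obtain ⟨χ₀, rfl⟩ := hb
    intro ξ hξ
    rw [← blockOf_eq_of_mem hM hξ]
  rw [natCard_set_eq_filter_card, card_sub_rank_sections hM b hS]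
  apply Finset.sum_congr rfl
  intro u _
  rw [secSet_block hM b hb]

open Classical in
/-- the local formula for the characters of a subgroup lying in blocks inducing `b` -/
theorem card_sub_rank_indSet (hM : Cfsg.IsPModular p M) (b : Set (Cfsg.IrrCharacter G))
    (K : Subgroup G) :
    (Nat.card K : ℂ) * ((Nat.card (indSet M b K) : ℂ) - (Cfsg.blockRank p (indSet M b K) : ℂ))
      = ∑ u ∈ Finset.univ.filter
            (fun u : G => u ∈ K ∧ (∃ k : ℕ, orderOf u = p ^ k) ∧ u ≠ 1),
          (Nat.card ↥(K ⊓ Subgroup.centralizer ({u} : Set G)) : ℂ)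
            * (Cfsg.blockRank p (indSet M b (K ⊓ Subgroup.centralizer ({u} : Set G))) : ℂ) := by
  haveI : Fintype (Cfsg.IrrCharacter K) := Fintype.ofFinite _
  rw [natCard_set_eq_filter_card, card_sub_rank_sections hM (indSet M b K) (indSet_isUnion hM b K)]
  refine Finset.sum_bij' (fun (v : K) _ => (v : G)) (fun (u : G) hu => (⟨u, by
      simp only [Finset.mem_filter, Finset.mem_univ, true_and] at hu
      exact hu.1⟩ : K)) ?_ ?_ ?_ ?_ ?_
  · intro v hv
    simp only [Finset.mem_filter, Finset.mem_univ, true_and] at hv ⊢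
    refine ⟨v.2, ?_, ?_⟩
    · rw [Subgroup.orderOf_coe]
      exact hv.1
    · intro h
      exact hv.2 (Subtype.ext h)
  · intro u hu
    simp only [Finset.mem_filter, Finset.mem_univ, true_and] at hu ⊢
    refine ⟨?_, ?_⟩
    · rw [← Subgroup.orderOf_coe]
      exact hu.2.1
    · intro h
      exact hu.2.2 (congrArg Subtype.val h)
  · intro v _
    rfl
  · intro u _
    rfl
  · intro v hv
    simp only [Finset.mem_filter, Finset.mem_univ, true_and] at hv
    rw [← image_secSet_indSet hM b K v hv.1, blockRank_mapIrr_image,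
      Nat.card_congr (centSubEquiv K v).toEquiv]

end lemmaK

end Cfsg.Agent.Lib.Helper6
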