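import Mathlib
import Cfsg.Prelude.Def_Blocks
import Cfsg.Prelude.Def_BlockRank
import Cfsg.Agent.Lib.Helper6.KRLocal
import Cfsg.Agent.Lib.Helper6.KRChain

set_option autoImplicit false
set_option linter.unusedSectionVars false
open Cfsg

namespace Cfsg.Agent.Lib.Helper6

section main

variable {G : Type*} [Group G] [Fintype G] [DecidableEq G]
variable {p : ℕ} {M : Ideal Cfsg.AlgInt}

open Classical in
/-- the alternating sum of Knörr and Robinson, over the complex numbers -/
theorem kr_main_complex (hM : Cfsg.IsPModular p M) [Fact p.Prime]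
    (b : Set (Cfsg.IrrCharacter G)) (hb : Cfsg.IsPBlock M b)
    (𝒞 : Finset (Finset (Subgroup G))) (h𝒞 : ∀ s, s ∈ 𝒞 ↔ IsNChain p s) :
    (Nat.card G : ℂ) * ((Nat.card b : ℂ) - (Cfsg.blockRank p b : ℂ))
      = ∑ s ∈ 𝒞, (-1 : ℂ) ^ (s.card - 1) * ((Nat.card (chainNorm s) : ℂ)
          * ((Nat.card (indSet M b (chainNorm s)) : ℂ)
            - (Cfsg.blockRank p (indSet M b (chainNorm s)) : ℂ))) := by
  rw [card_sub_rank_block hM b hb]
  obtain ⟨F, hF⟩ : ∃ F : Subgroup G → ℂ, F = fun K' : Subgroup G =>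
      (Nat.card K' : ℂ) * (Cfsg.blockRank p (indSet M b K') : ℂ) := ⟨_, rfl⟩
  obtain ⟨U, hU⟩ : ∃ U : Finset G,
      U = Finset.univ.filter (fun u : G => (∃ k : ℕ, orderOf u = p ^ k) ∧ u ≠ 1) := ⟨_, rfl⟩
  have hK : ∀ s : Finset (Subgroup G), (Nat.card (chainNorm s) : ℂ)
          * ((Nat.card (indSet M b (chainNorm s)) : ℂ)
            - (Cfsg.blockRank p (indSet M b (chainNorm s)) : ℂ))
      = ∑ u ∈ U, if u ∈ chainNorm s
          then F (chainNorm s ⊓ Subgroup.centralizer ({u} : Set G)) else 0 := by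
    intro s
    rw [card_sub_rank_indSet hM b (chainNorm s), ← Finset.sum_filter, hU, Finset.filter_filter,
      hF]
    apply Finset.sum_congr
    · ext u
      simp only [Finset.mem_filter, Finset.mem_univ, true_and]
      tauto
    · intro u _
      rfl
  simp_rw [hK, Finset.mul_sum]
  rw [Finset.sum_comm, ← hU]
  apply Finset.sum_congr rfl
  intro u hu
  rw [hU] at hu
  simp only [Finset.mem_filter, Finset.mem_univ, true_and] at hu
  have h1 := sum_chains_eq F u hu.1 hu.2 (𝒞.filter (fun s => u ∈ chainNorm s)) (by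
    intro s
    rw [Finset.mem_filter, h𝒞])
  rw [Finset.sum_filter] at h1
  have h2 : F (Subgroup.centralizer ({u} : Set G))
      = (Nat.card (Subgroup.centralizer ({u} : Set G)) : ℂ)
        * (Cfsg.blockRank p (indSet M b (Subgroup.centralizer ({u} : Set G))) : ℂ) := by
    rw [hF]
  rw [← h2, ← h1]
  apply Finset.sum_congr rfl
  intro s _
  split_ifs with hs
  · rfl
  · rw [mul_zero]

end main

end Cfsg.Agent.Lib.Helper6
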