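import Mathlib
import Cfsg.Agent.Lib.Helper6.KRep2
import Cfsg.Agent.Lib.Helper6.IndFun

set_option autoImplicit false

/-!
Characters afforded by representations over a subfield `K` of `ℂ`: closure properties and
monomial characters.
-/

namespace Cfsg.Agent.Lib.Helper6.KR

open scoped ComplexConjugate

section kaff

variable (K : Type*) [Field K] [Algebra K ℂ]
variable {G : Type*} [Group G]

/-- `ψ` is the character of a representation over `K` -/
def KAff (ψ : G → ℂ) : Prop :=
  ∃ (d : ℕ) (Y : Representation K G (Fin d → K)), chr Y = ψ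

variable {K}

theorem KAff.of_rep {W : Type*} [AddCommGroup W] [Module K W] [FiniteDimensional K W]
    (Y : Representation K G W) : KAff K (chr Y) := by
  obtain ⟨e⟩ : Nonempty (W ≃ₗ[K] (Fin (Module.finrank K W) → K)) :=
    ⟨(Module.finBasis K W).equivFun⟩
  refine ⟨Module.finrank K W,
    { toFun := fun g => e.conj (Y g)
      map_one' := by
        ext v
        simp [LinearEquiv.conj_apply]
      map_mul' := fun g h => by
        ext v
        simp [LinearEquiv.conj_apply] }, ?_⟩
  funext g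
  unfold chr
  simp only [MonoidHom.coe_mk, OneHom.coe_mk]
  rw [LinearMap.trace_conj']

theorem KAff.zero : KAff K (0 : G → ℂ) := by
  refine ⟨0, 1, ?_⟩
  funext g
  unfold chr
  have : ((1 : Representation K G (Fin 0 → K)) g) = 0 := Subsingleton.elim _ _
  rw [this, map_zero, map_zero]
  rfl

theorem KAff.add {ψ₁ ψ₂ : G → ℂ} (h₁ : KAff K ψ₁) (h₂ : KAff K ψ₂) : KAff K (ψ₁ + ψ₂) := by
  obtain ⟨d₁, Y₁, rfl⟩ := h₁
  obtain ⟨d₂, Y₂, rfl⟩ := h₂
  rw [← chr_prod]
  exact KAff.of_rep _

theorem KAff.nsmul {ψ : G → ℂ} (h : KAff K ψ) (n : ℕ) : KAff K (n • ψ) := by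
  induction n with
  | zero => rw [zero_smul]; exact KAff.zero
  | succ n ih => rw [succ_nsmul]; exact ih.add h

theorem KAff.sum {ι : Type*} (s : Finset ι) (f : ι → G → ℂ) (hf : ∀ i ∈ s, KAff K (f i)) :
    KAff K (∑ i ∈ s, f i) := by
  classical
  induction s using Finset.induction_on with
  | empty => rw [Finset.sum_empty]; exact KAff.zero
  | insert a s ha ih =>
    rw [Finset.sum_insert ha]
    exact (hf a (Finset.mem_insert_self a s)).add
      (ih (fun i hi => hf i (Finset.mem_insert_of_mem hi)))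

theorem KAff.isCharacter {ψ : G → ℂ} (h : KAff K ψ) : Cfsg.IsCharacter G ψ := by
  obtain ⟨d, Y, rfl⟩ := h
  exact chr_isCharacter Y

theorem KAff.apply_mem {ψ : G → ℂ} (h : KAff K ψ) (g : G) :
    ψ g ∈ (algebraMap K ℂ).fieldRange := by
  obtain ⟨d, Y, rfl⟩ := h
  exact ⟨_, rfl⟩

end kaff

section monomial

variable {K : Type*} [Field K] [Algebra K ℂ]
variable {G : Type*} [Group G] [Fintype G]

/-- the regular representation on functions `G → K` by left translation -/
noncomputable def lreg (K : Type*) [Field K] (G : Type*) [Group G] :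
    Representation K G (G → K) where
  toFun g := LinearMap.funLeft K K (fun x => g⁻¹ * x)
  map_one' := by
    ext f x
    simp [LinearMap.funLeft_apply]
  map_mul' g h := by
    ext f x
    simp [LinearMap.funLeft_apply, mul_assoc]

@[simp] theorem lreg_apply (g : G) (f : G → K) (x : G) : lreg K G g f x = f (g⁻¹ * x) := rfl

/-- right convolution with `ℓ` -/
noncomputable def rconv (ℓ : G → K) : (G → K) →ₗ[K] (G → K) :=
  ∑ a : G, ℓ a • LinearMap.funLeft K K (fun x => x * a)

theorem rconv_apply (ℓ : G → K) (f : G → K) (x : G) :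
    rconv ℓ f x = ∑ a : G, ℓ a * f (x * a) := by
  unfold rconv
  simp [LinearMap.sum_apply, LinearMap.funLeft_apply]

theorem lreg_comp_rconv (ℓ : G → K) (g : G) :
    lreg K G g ∘ₗ rconv ℓ = rconv ℓ ∘ₗ lreg K G g := by
  ext f x
  simp only [LinearMap.comp_apply, lreg_apply, rconv_apply, mul_assoc]

theorem rconv_comp_rconv (ℓ : G → K) (n : K)
    (hconv : ∀ c : G, ∑ a : G, ℓ a * ℓ (a⁻¹ * c) = n * ℓ c) :
    rconv ℓ ∘ₗ rconv ℓ = n • rconv ℓ := by
  ext f x
  simp only [LinearMap.comp_apply, rconv_apply, LinearMap.smul_apply, Pi.smul_apply, smul_eq_mul]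
  have h1 : ∀ a : G, ℓ a * ∑ b : G, ℓ b * f (x * a * b)
      = ∑ c : G, ℓ a * ℓ (a⁻¹ * c) * f (x * c) := by
    intro a
    rw [Finset.mul_sum,
      ← Equiv.sum_comp (Equiv.mulLeft a) (fun c => ℓ a * ℓ (a⁻¹ * c) * f (x * c))]
    apply Finset.sum_congr rfl
    intro b _
    simp only [Equiv.coe_mulLeft, inv_mul_cancel_left, mul_assoc]
  rw [Finset.sum_congr rfl (fun a _ => h1 a), Finset.sum_comm, Finset.mul_sum]
  apply Finset.sum_congr rfl
  intro c _
  rw [← Finset.sum_mul, hconv c, mul_assoc]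

theorem trace_lreg_comp_rconv [DecidableEq G] (ℓ : G → K) (g : G) :
    LinearMap.trace K (G → K) (lreg K G g ∘ₗ rconv ℓ) = ∑ x : G, ℓ (x⁻¹ * g * x) := by
  rw [LinearMap.trace_eq_matrix_trace K (Pi.basisFun K G), LinearMap.toMatrix_eq_toMatrix']
  unfold Matrix.trace
  apply Finset.sum_congr rfl
  intro x _
  rw [Matrix.diag_apply, LinearMap.toMatrix'_apply, LinearMap.comp_apply, lreg_apply,
    rconv_apply]
  rw [Finset.sum_eq_single (x⁻¹ * g * x)]
  · have : g⁻¹ * x * (x⁻¹ * g * x) = x := by group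
    rw [this, Pi.single_eq_same, mul_one]
  · intro a _ ha
    have : g⁻¹ * x * a ≠ x := by
      intro h
      apply ha
      have : a = x⁻¹ * g * (g⁻¹ * x * a) := by group
      rw [this, h]
    rw [Pi.single_eq_of_ne this, mul_zero]
  · intro h
    exact absurd (Finset.mem_univ _) h

/-- characters induced from linear characters with values in `K` are afforded over `K` -/
theorem KAff.monomial [CharZero K] (A : Subgroup G) (lam : A →* ℂˣ)
    (hlam : ∀ a : A, ((lam a : ℂˣ) : ℂ) ∈ (algebraMap K ℂ).fieldRange) :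
    KAff K (Cfsg.indFun A (fun a => ((lam a : ℂˣ) : ℂ))) := by
  classical
  haveI : Fintype A := Fintype.ofFinite A
  have hinj : Function.Injective (algebraMap K ℂ) := (algebraMap K ℂ).injective
  obtain ⟨E, hE⟩ : ∃ E : G → ℂ, E = Cfsg.extendByZero A (fun a => ((lam a : ℂˣ) : ℂ)) :=
    ⟨_, rfl⟩
  have hEmem : ∀ g : G, ∃ k : K, algebraMap K ℂ k = E g := by
    intro g
    by_cases hg : g ∈ A
    · obtain ⟨k, hk⟩ := hlam ⟨g, hg⟩
      refine ⟨k, ?_⟩
      rw [hk, hE, extendByZero_of_mem A _ hg]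
    · refine ⟨0, ?_⟩
      rw [hE, extendByZero_of_not_mem A _ hg, map_zero]
  choose ℓ hℓ using hEmem
  have hcardA : (Nat.card A : K) ≠ 0 := by
    exact_mod_cast Nat.card_pos.ne'
  have hconv : ∀ c : G, ∑ a : G, ℓ a * ℓ (a⁻¹ * c) = (Nat.card A : K) * ℓ c := by
    intro c
    apply hinj
    rw [map_sum, map_mul, map_natCast, hℓ]
    simp only [map_mul, hℓ]
    rw [hE, sum_extendByZero_mul A _ (fun a => Cfsg.extendByZero A
      (fun a => ((lam a : ℂˣ) : ℂ)) (a⁻¹ * c))]
    by_cases hc : c ∈ A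
    · have h1 : ∀ h : A, ((lam h : ℂˣ) : ℂ) * Cfsg.extendByZero A
          (fun a => ((lam a : ℂˣ) : ℂ)) ((h : G)⁻¹ * c) = ((lam ⟨c, hc⟩ : ℂˣ) : ℂ) := by
        intro h
        have hm : (h : G)⁻¹ * c ∈ A := A.mul_mem (A.inv_mem h.2) hc
        rw [extendByZero_of_mem A _ hm, ← Units.val_mul, ← map_mul]
        congr 3
        ext
        simp
      rw [Finset.sum_congr rfl (fun h _ => h1 h), Finset.sum_const, Finset.card_univ,
        extendByZero_of_mem A _ hc, Nat.card_eq_fintype_card, nsmul_eq_mul]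
    · have h1 : ∀ h : A, ((lam h : ℂˣ) : ℂ) * Cfsg.extendByZero A
          (fun a => ((lam a : ℂˣ) : ℂ)) ((h : G)⁻¹ * c) = 0 := by
        intro h
        have hm : (h : G)⁻¹ * c ∉ A := by
          intro hm
          apply hc
          have := A.mul_mem h.2 hm
          simpa using this
        rw [extendByZero_of_not_mem A _ hm, mul_zero]
      rw [Finset.sum_congr rfl (fun h _ => h1 h), Finset.sum_const_zero,
        extendByZero_of_not_mem A _ hc, mul_zero]
  obtain ⟨π, hπ⟩ : ∃ π : (G → K) →ₗ[K] (G → K), π = (Nat.card A : K)⁻¹ • rconv ℓ := ⟨_, rfl⟩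
  have hπ2 : π ∘ₗ π = π := by
    rw [hπ, LinearMap.smul_comp, LinearMap.comp_smul, rconv_comp_rconv ℓ _ hconv, smul_smul,
      smul_smul]
    congr 1
    field_simp
  have hπY : ∀ g, lreg K G g ∘ₗ π = π ∘ₗ lreg K G g := by
    intro g
    rw [hπ, LinearMap.comp_smul, LinearMap.smul_comp, lreg_comp_rconv]
  have hchr := chr_cut (lreg K G) π hπ2 hπY
  have : Cfsg.indFun A (fun a => ((lam a : ℂˣ) : ℂ))
      = chr (sub (lreg K G) (LinearMap.range π) (inv_range (lreg K G) π hπY)) := by
    funext g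
    rw [hchr g, hπ, LinearMap.comp_smul, map_smul, trace_lreg_comp_rconv, smul_eq_mul, map_mul,
      map_inv₀, map_natCast, map_sum]
    unfold Cfsg.indFun
    congr 1
    apply Finset.sum_congr rfl
    intro x _
    rw [hℓ, hE]
  rw [this]
  exact KAff.of_rep _

end monomial

end Cfsg.Agent.Lib.Helper6.KR
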