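import Mathlib
import Cfsg.Agent.Lib.Helper6.KRep3
import Cfsg.Agent.Lib.Helper6.BlkAlg
import Cfsg.Agent.Lib.Helper6.Multiplicity
import Cfsg.Agent.Lib.Helper6.Auto

set_option autoImplicit false

/-!
Cutting out the isotypic part of a `K`-representation for an irreducible character with
values in `K`.
-/

namespace Cfsg.Agent.Lib.Helper6.KR

open scoped ComplexConjugate

section cplx

variable {G : Type*} [Group G] [Fintype G]

theorem sum_inv_mul_shift {χ θ : G → ℂ} (hχ : Cfsg.IsIrrCharacter G χ)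
    (hθ : Cfsg.IsIrrCharacter G θ) (k : G) :
    ∑ g : G, χ g⁻¹ * θ (g * k) = (Nat.card G : ℂ) * Cfsg.classInner θ χ * θ k / θ 1 := by
  classical
  have hx : Cfsg.IsClassFunction G (fun g => χ g⁻¹) := by
    intro g h
    have : (h * g * h⁻¹)⁻¹ = h * g⁻¹ * h⁻¹ := by group
    simp only [this]
    exact IsIrrCharacter.isClassFunction hχ g⁻¹ h
  have h1 := sum_classFunction_mul_shift hθ hx k
  rw [h1]
  congr 2
  unfold Cfsg.classInner
  rw [← mul_assoc, mul_inv_cancel₀ (card_ne_zero_complex G), one_mul]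
  apply Finset.sum_congr rfl
  intro g _
  rw [IsCharacter.apply_inv (IsIrrCharacter.isCharacter hχ), mul_comm]

theorem sum_inv_mul_char_shift {χ ψ : G → ℂ} (hχ : Cfsg.IsIrrCharacter G χ)
    (hψ : Cfsg.IsCharacter G ψ) (m : ℕ) (hm : Cfsg.classInner ψ χ = m) (k : G) :
    ∑ g : G, χ g⁻¹ * ψ (g * k) = (Nat.card G : ℂ) * m * χ k / χ 1 := by
  classical
  haveI : Fintype (Cfsg.IrrCharacter G) := Fintype.ofFinite _
  obtain ⟨mult, hψe, hmult⟩ := IsCharacter.exists_mult hψ
  have h1 : ∀ g : G, ψ (g * k) = ∑ θ : Cfsg.IrrCharacter G, (mult θ : ℂ) * (θ : G → ℂ) (g * k) := by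
    intro g
    conv_lhs => rw [hψe]
    simp [Finset.sum_apply]
  simp only [h1, Finset.mul_sum]
  rw [Finset.sum_comm]
  have h2 : ∀ θ : Cfsg.IrrCharacter G,
      ∑ g : G, χ g⁻¹ * ((mult θ : ℂ) * (θ : G → ℂ) (g * k))
        = if θ = ⟨χ, hχ⟩ then (Nat.card G : ℂ) * m * χ k / χ 1 else 0 := by
    intro θ
    have e1 : ∑ g : G, χ g⁻¹ * ((mult θ : ℂ) * (θ : G → ℂ) (g * k))
        = (mult θ : ℂ) * ∑ g : G, χ g⁻¹ * (θ : G → ℂ) (g * k) := by
      rw [Finset.mul_sum]
      apply Finset.sum_congr rfl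
      intro g _
      ring
    rw [e1, sum_inv_mul_shift hχ θ.2 k]
    have e2 := classInner_irrCharacter θ ⟨χ, hχ⟩
    simp only at e2
    rw [e2]
    split_ifs with h
    · have e3 : (mult θ : ℂ) = m := by
        rw [← hmult θ, h, hm]
      rw [e3, h]
      ring
    · ring
  rw [Finset.sum_congr rfl (fun θ _ => h2 θ)]
  simp only [Finset.sum_ite_eq', Finset.mem_univ, if_true]

end cplx

section cut

variable {K : Type*} [Field K] [Algebra K ℂ]
variable {G : Type*} [Group G] [Fintype G]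
variable {W : Type*} [AddCommGroup W] [Module K W]

/-- the operator `∑ g, κ g⁻¹ • Y g` -/
noncomputable def isoOp (Y : Representation K G W) (κ : G → K) : W →ₗ[K] W :=
  ∑ g : G, κ g⁻¹ • Y g

theorem isoOp_apply (Y : Representation K G W) (κ : G → K) (w : W) :
    isoOp Y κ w = ∑ g : G, κ g⁻¹ • Y g w := by
  unfold isoOp
  simp [LinearMap.sum_apply]

theorem rep_mul_apply (Y : Representation K G W) (g h : G) (w : W) :
    Y (g * h) w = Y g (Y h w) := by
  rw [map_mul]
  rfl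

theorem rep_comp_isoOp (Y : Representation K G W) (κ : G → K)
    (hκ : ∀ g k : G, κ (k * g * k⁻¹) = κ g) (k : G) :
    Y k ∘ₗ isoOp Y κ = isoOp Y κ ∘ₗ Y k := by
  ext w
  simp only [LinearMap.comp_apply, isoOp_apply, map_sum, map_smul]
  rw [← Equiv.sum_comp (MulAut.conj k).toEquiv (fun g => κ g⁻¹ • Y g (Y k w))]
  apply Finset.sum_congr rfl
  intro g _
  simp only [MulEquiv.toEquiv_eq_coe, EquivLike.coe_coe, MulAut.conj_apply]
  have e1 : (k * g * k⁻¹)⁻¹ = k * g⁻¹ * k⁻¹ := by group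
  rw [e1, hκ, ← rep_mul_apply, ← rep_mul_apply]
  congr 3
  group

theorem isoOp_comp_isoOp (Y : Representation K G W) (κ : G → K) (n : K)
    (hsq : ∀ k : G, ∑ g : G, κ g⁻¹ * κ (k⁻¹ * g) = n * κ k⁻¹) :
    isoOp Y κ ∘ₗ isoOp Y κ = n • isoOp Y κ := by
  ext w
  rw [LinearMap.comp_apply, isoOp_apply Y κ (isoOp Y κ w)]
  simp only [LinearMap.smul_apply, isoOp_apply Y κ w, map_sum, map_smul]
  have h1 : ∀ g : G, κ g⁻¹ • ∑ h : G, κ h⁻¹ • Y g (Y h w)
      = ∑ k : G, (κ g⁻¹ * κ (k⁻¹ * g)) • Y k w := by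
    intro g
    rw [Finset.smul_sum,
      ← Equiv.sum_comp (Equiv.mulLeft g⁻¹) (fun h => κ g⁻¹ • κ h⁻¹ • Y g (Y h w))]
    apply Finset.sum_congr rfl
    intro k _
    simp only [Equiv.coe_mulLeft]
    have e1 : (g⁻¹ * k)⁻¹ = k⁻¹ * g := by group
    rw [e1, smul_smul, ← rep_mul_apply]
    congr 3
    group
  rw [Finset.sum_congr rfl (fun g _ => h1 g), Finset.sum_comm, Finset.smul_sum]
  apply Finset.sum_congr rfl
  intro k _
  rw [← Finset.sum_smul, hsq k, smul_smul]

theorem trace_rep_comp_isoOp (Y : Representation K G W) (κ : G → K) (k : G) :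
    LinearMap.trace K W (Y k ∘ₗ isoOp Y κ)
      = ∑ g : G, κ g⁻¹ * LinearMap.trace K W (Y (k * g)) := by
  have : Y k ∘ₗ isoOp Y κ = ∑ g : G, κ g⁻¹ • Y (k * g) := by
    ext w
    simp only [LinearMap.comp_apply, isoOp_apply, map_sum, map_smul, LinearMap.sum_apply,
      LinearMap.smul_apply, rep_mul_apply]
  rw [this, map_sum]
  apply Finset.sum_congr rfl
  intro g _
  rw [map_smul, smul_eq_mul]

end cut

section main

variable {K : Type*} [Field K] [Algebra K ℂ]
variable {G : Type*} [Group G] [Fintype G]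

/-- the `χ`-isotypic part of a `K`-representation is again defined over `K` if `χ` has values
in `K` -/
theorem KAff.cut [CharZero K] {ψ : G → ℂ} (hψ : KAff K ψ) {χ : G → ℂ}
    (hχ : Cfsg.IsIrrCharacter G χ) (hχK : ∀ g, χ g ∈ (algebraMap K ℂ).fieldRange) (m : ℕ)
    (hm : Cfsg.classInner ψ χ = m) : KAff K (m • χ) := by
  classical
  have hψchar := hψ.isCharacter
  obtain ⟨d, Y, rfl⟩ := hψ
  have hinj : Function.Injective (algebraMap K ℂ) := (algebraMap K ℂ).injective
  have hχK' : ∀ g, ∃ k : K, algebraMap K ℂ k = χ g := fun g => hχK g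
  choose κ hκ using hχK'
  have hκcf : ∀ g k : G, κ (k * g * k⁻¹) = κ g := by
    intro g k
    apply hinj
    rw [hκ, hκ]
    exact IsIrrCharacter.isClassFunction hχ g k
  have hχ1 : χ 1 ≠ 0 := IsIrrCharacter.apply_one_ne_zero hχ
  have hκ1 : κ 1 ≠ 0 := by
    intro h
    apply hχ1
    rw [← hκ, h, map_zero]
  have hcard : (Nat.card G : K) ≠ 0 := by
    exact_mod_cast Nat.card_pos.ne'
  have hcardC : (Nat.card G : ℂ) ≠ 0 := card_ne_zero_complex G
  have hχχ : Cfsg.classInner χ χ = ((1 : ℕ) : ℂ) := by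
    rw [classInner_isIrrCharacter hχ hχ, if_pos rfl, Nat.cast_one]
  have hsq : ∀ k : G, ∑ g : G, κ g⁻¹ * κ (k⁻¹ * g) = ((Nat.card G : K) / κ 1) * κ k⁻¹ := by
    intro k
    apply hinj
    rw [map_sum, map_mul, map_div₀, map_natCast, hκ, hκ]
    simp only [map_mul, hκ]
    have h1 := sum_inv_mul_char_shift hχ (IsIrrCharacter.isCharacter hχ) 1 hχχ k⁻¹
    have h2 : ∀ g : G, χ (k⁻¹ * g) = χ (g * k⁻¹) := by
      intro g
      have : k⁻¹ * g = k⁻¹ * (g * k⁻¹) * (k⁻¹)⁻¹ := by group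
      rw [this, IsIrrCharacter.isClassFunction hχ]
    simp only [h2]
    rw [h1]
    push_cast
    field_simp
  obtain ⟨π, hπ⟩ : ∃ π : (Fin d → K) →ₗ[K] (Fin d → K),
      π = (κ 1 / (Nat.card G : K)) • isoOp Y κ := ⟨_, rfl⟩
  have hπ2 : π ∘ₗ π = π := by
    rw [hπ, LinearMap.smul_comp, LinearMap.comp_smul, isoOp_comp_isoOp Y κ _ hsq, smul_smul,
      smul_smul]
    congr 1
    field_simp
  have hπY : ∀ g, Y g ∘ₗ π = π ∘ₗ Y g := by
    intro g
    rw [hπ, LinearMap.comp_smul, LinearMap.smul_comp, rep_comp_isoOp Y κ hκcf]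
  have hchr := chr_cut Y π hπ2 hπY
  have : (m • χ : G → ℂ) = chr (sub Y (LinearMap.range π) (inv_range Y π hπY)) := by
    funext k
    rw [hchr k, hπ, LinearMap.comp_smul, map_smul, trace_rep_comp_isoOp, smul_eq_mul, map_mul,
      map_div₀, map_natCast, map_sum, hκ]
    have h1 := sum_inv_mul_char_shift hχ hψchar m hm k
    have h2 : ∀ g : G, algebraMap K ℂ (LinearMap.trace K (Fin d → K) (Y (k * g)))
        = chr Y (g * k) := by
      intro g
      have h3 := IsCharacter.isClassFunction hψchar (g * k) k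
      have : k * (g * k) * k⁻¹ = k * g := by group
      rw [this] at h3
      rw [← h3]
      rfl
    have h4 : ∀ x : G, algebraMap K ℂ (κ x⁻¹ * LinearMap.trace K (Fin d → K) (Y (k * x)))
        = χ x⁻¹ * chr Y (x * k) := by
      intro x
      rw [map_mul, hκ, h2]
    rw [Finset.sum_congr rfl (fun x _ => h4 x), h1, Pi.smul_apply, nsmul_eq_mul]
    field_simp
  rw [this]
  exact KAff.of_rep _

end main

end Cfsg.Agent.Lib.Helper6.KR
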