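import Mathlib
import Cfsg.Agent.Lib.Helper6.KRep4
import Cfsg.Agent.Lib.Helper6.BrauerInd

set_option autoImplicit false

/-!
Brauer's theorem on splitting fields: every irreducible character is afforded by a representation
over any subfield of `ℂ` containing the roots of unity of order the exponent of the group.
-/

namespace Cfsg.Agent.Lib.Helper6.KR

open scoped ComplexConjugate

section minimal

variable {G : Type*} [Group G] [Fintype G]

/-- two characters summing to a multiple of an irreducible `χ` are multiples of `χ` -/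
theorem eq_nsmul_of_add_eq_nsmul {χ ψ₁ ψ₂ : G → ℂ} (hχ : Cfsg.IsIrrCharacter G χ)
    (h₁ : Cfsg.IsCharacter G ψ₁) (h₂ : Cfsg.IsCharacter G ψ₂) (m : ℕ) (h : ψ₁ + ψ₂ = m • χ) :
    ∃ a b : ℕ, ψ₁ = a • χ ∧ ψ₂ = b • χ ∧ a + b = m := by
  classical
  haveI : Fintype (Cfsg.IrrCharacter G) := Fintype.ofFinite _
  obtain ⟨m₁, hψ₁, hm₁⟩ := IsCharacter.exists_mult h₁
  obtain ⟨m₂, hψ₂, hm₂⟩ := IsCharacter.exists_mult h₂
  have key : ∀ θ : Cfsg.IrrCharacter G,
      m₁ θ + m₂ θ = if θ = ⟨χ, hχ⟩ then m else 0 := by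
    intro θ
    have e1 : Cfsg.classInner (ψ₁ + ψ₂) (θ : G → ℂ) = (m₁ θ : ℂ) + (m₂ θ : ℂ) := by
      rw [classInner_add_left, hm₁, hm₂]
    have e2 : Cfsg.classInner (m • χ) (θ : G → ℂ) = if θ = ⟨χ, hχ⟩ then (m : ℂ) else 0 := by
      rw [← Nat.cast_smul_eq_nsmul ℂ m χ, classInner_smul_left]
      have := classInner_irrCharacter ⟨χ, hχ⟩ θ
      simp only at this
      rw [this]
      split_ifs with h1 h2 h2
      · ring
      · exact absurd h1.symm h2
      · exact absurd h2.symm h1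
      · ring
    rw [h, e2] at e1
    split_ifs with hθ
    · rw [if_pos hθ] at e1
      exact_mod_cast e1.symm
    · rw [if_neg hθ] at e1
      exact_mod_cast e1.symm
  have hz₁ : ∀ θ : Cfsg.IrrCharacter G, θ ≠ ⟨χ, hχ⟩ → m₁ θ = 0 := by
    intro θ hθ
    have := key θ
    rw [if_neg hθ] at this
    omega
  have hz₂ : ∀ θ : Cfsg.IrrCharacter G, θ ≠ ⟨χ, hχ⟩ → m₂ θ = 0 := by
    intro θ hθ
    have := key θ
    rw [if_neg hθ] at this
    omega
  refine ⟨m₁ ⟨χ, hχ⟩, m₂ ⟨χ, hχ⟩, ?_, ?_, ?_⟩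
  · conv_lhs => rw [hψ₁]
    rw [Finset.sum_eq_single ⟨χ, hχ⟩]
    · intro θ _ hθ
      rw [hz₁ θ hθ, zero_smul]
    · intro h
      exact absurd (Finset.mem_univ _) h
  · conv_lhs => rw [hψ₂]
    rw [Finset.sum_eq_single ⟨χ, hχ⟩]
    · intro θ _ hθ
      rw [hz₂ θ hθ, zero_smul]
    · intro h
      exact absurd (Finset.mem_univ _) h
  · have := key ⟨χ, hχ⟩
    rw [if_pos rfl] at this
    exact this

end minimal

section main

variable {K : Type*} [Field K] [CharZero K] [Algebra K ℂ]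
variable {G : Type*} [Group G] [Fintype G]

theorem finrank_of_chr_eq_nsmul {W : Type*} [AddCommGroup W] [Module K W] [FiniteDimensional K W]
    (Y : Representation K G W) {χ : G → ℂ} (a : ℕ) (h : chr Y = a • χ) :
    (Module.finrank K W : ℂ) = a * χ 1 := by
  rw [← chr_one Y, h, Pi.smul_apply, nsmul_eq_mul]

theorem KAff.dvd_of_minimal {χ : G → ℂ} (hχ : Cfsg.IsIrrCharacter G χ) (m : ℕ) (hm0 : 0 < m)
    (hm : KAff K (m • χ)) (hmin : ∀ m', 0 < m' → KAff K (m' • χ) → m ≤ m') :
    ∀ n, KAff K (n • χ) → m ∣ n := by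
  classical
  have hχ1 : χ 1 ≠ 0 := IsIrrCharacter.apply_one_ne_zero hχ
  have hinjK : Function.Injective (algebraMap K ℂ) := (algebraMap K ℂ).injective
  intro n
  induction n using Nat.strong_induction_on with
  | _ n ih =>
    intro hn
    rcases Nat.eq_zero_or_pos n with rfl | hn0
    · exact dvd_zero m
    have hle : m ≤ n := hmin n hn0 hn
    obtain ⟨d₀, Y₀, h₀⟩ := hm
    obtain ⟨d, Y, hY⟩ := hn
    have hne : ∑ g : G, LinearMap.trace K (Fin d → K) (Y g)
        * LinearMap.trace K (Fin d₀ → K) (Y₀ g⁻¹) ≠ 0 := by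
      intro h0
      have h1 := congrArg (algebraMap K ℂ) h0
      rw [map_sum, map_zero] at h1
      have h2 : ∀ g : G, algebraMap K ℂ (LinearMap.trace K (Fin d → K) (Y g)
          * LinearMap.trace K (Fin d₀ → K) (Y₀ g⁻¹))
          = ((n : ℂ) * (m : ℂ)) * (χ g * conj (χ g)) := by
        intro g
        rw [map_mul]
        have e1 : algebraMap K ℂ (LinearMap.trace K (Fin d → K) (Y g)) = (n • χ) g := by
          rw [← hY]; rfl
        have e2 : algebraMap K ℂ (LinearMap.trace K (Fin d₀ → K) (Y₀ g⁻¹)) = (m • χ) g⁻¹ := by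
          rw [← h₀]; rfl
        rw [e1, e2, Pi.smul_apply, Pi.smul_apply, nsmul_eq_mul, nsmul_eq_mul,
          IsCharacter.apply_inv (IsIrrCharacter.isCharacter hχ)]
        ring
      rw [Finset.sum_congr rfl (fun g _ => h2 g), ← Finset.mul_sum] at h1
      have h3 : Cfsg.classInner χ χ = 1 := by
        rw [classInner_isIrrCharacter hχ hχ, if_pos rfl]
      unfold Cfsg.classInner at h3
      have hG := card_ne_zero_complex G
      have h4 : ∑ g : G, χ g * conj (χ g) = (Nat.card G : ℂ) := by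
        field_simp at h3
        exact h3
      rw [h4] at h1
      have hn' : (n : ℂ) ≠ 0 := by exact_mod_cast hn0.ne'
      have hm' : (m : ℂ) ≠ 0 := by exact_mod_cast hm0.ne'
      exact mul_ne_zero (mul_ne_zero hn' hm') hG h1
    obtain ⟨T, hT0, hT⟩ := exists_intertwiner Y₀ Y hne
    -- the kernel
    have hker := inv_ker_of_intertwine Y₀ Y T hT
    obtain ⟨C, hC, hsum⟩ := exists_compl_chr Y₀ (LinearMap.ker T) hker
    rw [h₀] at hsum
    obtain ⟨a, b, ha, hb, hab⟩ := eq_nsmul_of_add_eq_nsmul hχ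
      (chr_isCharacter (sub Y₀ (LinearMap.ker T) hker)) (chr_isCharacter (sub Y₀ C hC)) m
      hsum.symm
    have hKa : KAff K (a • χ) := by rw [← ha]; exact KAff.of_rep _
    have hKb : KAff K (b • χ) := by rw [← hb]; exact KAff.of_rep _
    have ha0 : a = 0 := by
      by_contra hane
      have h1 : m ≤ a := hmin a (Nat.pos_of_ne_zero hane) hKa
      have h2 : a = m := by omega
      apply hT0
      have h3 := finrank_of_chr_eq_nsmul _ a ha
      have h4 := finrank_of_chr_eq_nsmul Y₀ m h₀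
      rw [h2, ← h4] at h3
      have h5 : Module.finrank K (LinearMap.ker T) = Module.finrank K (Fin d₀ → K) := by
        exact_mod_cast h3
      have h6 : LinearMap.ker T = ⊤ := Submodule.eq_top_of_finrank_eq h5
      exact LinearMap.ker_eq_top.mp h6
    have hinj : Function.Injective T := by
      rw [← LinearMap.ker_eq_bot]
      have h3 := finrank_of_chr_eq_nsmul _ a ha
      rw [ha0] at h3
      have h5 : Module.finrank K (LinearMap.ker T) = 0 := by
        have : (Module.finrank K (LinearMap.ker T) : ℂ) = 0 := by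
          rw [h3]; simp
        exact_mod_cast this
      exact Submodule.finrank_eq_zero.mp h5
    have hrange := chr_range_of_injective Y₀ Y T hT hinj
    obtain ⟨C', hC', hsum'⟩ := exists_compl_chr Y (LinearMap.range T)
      (inv_range_of_intertwine Y₀ Y T hT)
    rw [hrange, h₀, hY] at hsum'
    have hC'chr : chr (sub Y C' hC') = (n - m) • χ := by
      funext g
      have := congrFun hsum' g
      simp only [Pi.add_apply, Pi.smul_apply, nsmul_eq_mul, Pi.mul_apply,
        Pi.natCast_apply] at this ⊢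
      rw [Nat.cast_sub hle]
      linear_combination -this
    have hKnm : KAff K ((n - m) • χ) := by rw [← hC'chr]; exact KAff.of_rep _
    have hd := ih (n - m) (by omega) hKnm
    have := Nat.dvd_add hd (dvd_refl m)
    rwa [Nat.sub_add_cancel hle] at this

theorem KAff.of_coprime {χ : G → ℂ} (hχ : Cfsg.IsIrrCharacter G χ) (a : ℕ)
    (ha : KAff K (a • χ)) (ha1 : KAff K ((a + 1) • χ)) : KAff K χ := by
  classical
  have hex : ∃ m, 0 < m ∧ KAff K (m • χ) := ⟨a + 1, Nat.succ_pos a, ha1⟩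
  obtain ⟨m, hm⟩ : ∃ m, m = Nat.find hex := ⟨_, rfl⟩
  have hspec := Nat.find_spec hex
  rw [← hm] at hspec
  have hmin : ∀ m', 0 < m' → KAff K (m' • χ) → m ≤ m' := by
    intro m' h0 h1
    rw [hm]
    exact Nat.find_min' hex ⟨h0, h1⟩
  have hdvd := KAff.dvd_of_minimal hχ m hspec.1 hspec.2 hmin
  have h1 := hdvd a ha
  have h2 := hdvd (a + 1) ha1
  have h3 : m ∣ 1 := (Nat.dvd_add_right h1).mp h2
  have h4 : m = 1 := Nat.dvd_one.mp h3
  have := hspec.2
  rwa [h4, one_smul] at this

/-- splitting an integral combination of monomial characters into a difference of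
`K`-afforded characters -/
theorem exists_sub_of_list
    (hK : ∀ z : ℂ, z ^ Monoid.exponent G = 1 → z ∈ (algebraMap K ℂ).fieldRange)
    (l : List ((A : Subgroup G) × ((A →* ℂˣ) × ℤ))) :
    ∃ P N : G → ℂ, KAff K P ∧ KAff K N ∧
      (l.map fun t => (t.2.2 : ℂ) • Cfsg.indFun t.1 (fun a => ((t.2.1 a : ℂˣ) : ℂ))).sum
        = P - N := by
  induction l with
  | nil => exact ⟨0, 0, KAff.zero, KAff.zero, by simp⟩
  | cons t l ih =>
    obtain ⟨P, N, hP, hN, hsum⟩ := ih
    obtain ⟨A, lam, c⟩ := t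
    have hmono : KAff K (Cfsg.indFun A (fun a => ((lam a : ℂˣ) : ℂ))) := by
      apply KAff.monomial
      intro a
      apply hK
      rw [← Units.val_pow_eq_pow_val, ← map_pow]
      have : a ^ Monoid.exponent G = 1 := by
        ext
        rw [Subgroup.coe_pow, Monoid.pow_exponent_eq_one, Subgroup.coe_one]
      rw [this, map_one, Units.val_one]
    rw [List.map_cons, List.sum_cons, hsum]
    simp only
    obtain ⟨n, rfl | rfl⟩ := Int.eq_nat_or_neg c
    · refine ⟨n • Cfsg.indFun A (fun a => ((lam a : ℂˣ) : ℂ)) + P, N, (hmono.nsmul n).add hP,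
        hN, ?_⟩
      funext g
      simp only [Pi.add_apply, Pi.sub_apply, Pi.smul_apply, smul_eq_mul, nsmul_eq_mul,
        Int.cast_natCast, Pi.mul_apply, Pi.natCast_apply]
      ring
    · refine ⟨P, n • Cfsg.indFun A (fun a => ((lam a : ℂˣ) : ℂ)) + N, hP,
        (hmono.nsmul n).add hN, ?_⟩
      funext g
      simp only [Pi.add_apply, Pi.sub_apply, Pi.smul_apply, smul_eq_mul, nsmul_eq_mul,
        Int.cast_natCast, Int.cast_neg, Pi.mul_apply, Pi.natCast_apply]
      ring

/-- **Brauer**: irreducible characters are afforded over any field containing the roots of unity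
of order the exponent. -/
theorem KAff.of_isIrrCharacter
    (hK : ∀ z : ℂ, z ^ Monoid.exponent G = 1 → z ∈ (algebraMap K ℂ).fieldRange)
    {χ : G → ℂ} (hχ : Cfsg.IsIrrCharacter G χ) : KAff K χ := by
  classical
  haveI : Fintype (Cfsg.IrrCharacter G) := Fintype.ofFinite _
  obtain ⟨l, _, hl⟩ := brauer_induction (IsIrrCharacter.isCharacter hχ)
  obtain ⟨P, N, hP, hN, hsum⟩ := exists_sub_of_list (K := K) hK l
  rw [← hl] at hsum
  obtain ⟨mP, _, hmP⟩ := IsCharacter.exists_mult hP.isCharacter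
  obtain ⟨mN, _, hmN⟩ := IsCharacter.exists_mult hN.isCharacter
  have hP' := hmP ⟨χ, hχ⟩
  have hN' := hmN ⟨χ, hχ⟩
  simp only at hP' hN'
  have h1 : Cfsg.classInner χ χ = 1 := by
    rw [classInner_isIrrCharacter hχ hχ, if_pos rfl]
  have h2 : (mP ⟨χ, hχ⟩ : ℂ) - (mN ⟨χ, hχ⟩ : ℂ) = 1 := by
    rw [← hP', ← hN', ← classInner_sub_left, ← hsum, h1]
  have h3 : mP ⟨χ, hχ⟩ = mN ⟨χ, hχ⟩ + 1 := by
    have : (mP ⟨χ, hχ⟩ : ℂ) = ((mN ⟨χ, hχ⟩ + 1 : ℕ) : ℂ) := by
      push_cast
      linear_combination h2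
    exact_mod_cast this
  have hχK : ∀ g, χ g ∈ (algebraMap K ℂ).fieldRange := by
    intro g
    rw [hsum, Pi.sub_apply]
    exact sub_mem (hP.apply_mem g) (hN.apply_mem g)
  have hcP := KAff.cut hP hχ hχK _ hP'
  have hcN := KAff.cut hN hχ hχK _ hN'
  rw [h3] at hcP
  exact KAff.of_coprime hχ _ hcN hcP

/-- every character is afforded over `K` -/
theorem KAff.of_isCharacter
    (hK : ∀ z : ℂ, z ^ Monoid.exponent G = 1 → z ∈ (algebraMap K ℂ).fieldRange)
    {ψ : G → ℂ} (hψ : Cfsg.IsCharacter G ψ) : KAff K ψ := by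
  classical
  haveI : Fintype (Cfsg.IrrCharacter G) := Fintype.ofFinite _
  obtain ⟨mult, hψe, _⟩ := IsCharacter.exists_mult hψ
  rw [hψe]
  apply KAff.sum
  intro θ _
  exact (KAff.of_isIrrCharacter hK θ.2).nsmul _

end main

end Cfsg.Agent.Lib.Helper6.KR
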