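import Mathlib
import Cfsg.Agent.Lib.Helper6.SW1
import Cfsg.Agent.Lib.Helper6.GLS1

set_option autoImplicit false
set_option linter.unusedSectionVars false
set_option linter.unusedVariables false
set_option linter.unusedSimpArgs false

/-! Wreath products `Q ≀ T` with a "determinant" `δ : Q → Z`: the kernel of the product
determinant has elementary abelian abelianisation under suitable hypotheses on `Q`. -/

namespace Cfsg.Agent.Lib.Helper6.KSec

open Cfsg.Agent.Lib.Helper6.SW Cfsg.Agent.Lib.Helper6.GLS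
open scoped commutatorElement

section

variable {Q Z : Type*} [Group Q] [CommGroup Z] {κ : Type*} [Fintype κ] [DecidableEq κ]
  {T : Type*} [Group T]

/-- the product of the values of `δ` -/
def prodHom (δ : Q →* Z) (κ : Type*) [Fintype κ] : (κ → Q) →* Z where
  toFun d := ∏ k, δ (d k)
  map_one' := by simp
  map_mul' d d' := by simp [Finset.prod_mul_distrib]

theorem prodHom_apply (δ : Q →* Z) (d : κ → Q) : prodHom δ κ d = ∏ k, δ (d k) := rfl

theorem prodHom_mulSingle (δ : Q →* Z) (k : κ) (a : Q) :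
    prodHom δ κ (Pi.mulSingle k a) = δ a := by
  rw [prodHom_apply, Finset.prod_eq_single k]
  · rw [Pi.mulSingle_eq_same]
  · intro l _ hl
    rw [Pi.mulSingle_eq_of_ne hl, map_one]
  · intro h
    exact absurd (Finset.mem_univ k) h

theorem prodHom_comp_perm (δ : Q →* Z) (σ : Equiv.Perm κ) (d : κ → Q) :
    prodHom δ κ (d ∘ σ) = prodHom δ κ d :=
  Equiv.prod_comp σ (fun k => δ (d k))

/-- the wreath product `Q ≀ T` -/
abbrev WX (Q : Type*) [Group Q] (κ : Type*) {T : Type*} [Group T] (ρ : T →* Equiv.Perm κ) :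
    Type _ :=
  (κ → Q) ⋊[(permAut Q κ).comp ρ] T

variable (δ : Q →* Z) (ρ : T →* Equiv.Perm κ)

/-- the product determinant on the wreath product, twisted by a character of `T` -/
def dX (χ : T →* Z) : WX Q κ ρ →* Z :=
  SemidirectProduct.lift (prodHom δ κ) χ (by
    intro t
    ext d
    show prodHom δ κ (permAut Q κ (ρ t) d) = χ t * prodHom δ κ d * (χ t)⁻¹
    rw [permAut_apply, prodHom_comp_perm, mul_comm, inv_mul_cancel_left])

theorem dX_apply (χ : T →* Z) (x : WX Q κ ρ) :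
    dX δ ρ χ x = prodHom δ κ x.left * χ x.right := rfl

theorem dX_inl (χ : T →* Z) (d : κ → Q) :
    dX δ ρ χ (SemidirectProduct.inl d) = prodHom δ κ d := by
  rw [dX_apply]
  simp

theorem dX_inr (χ : T →* Z) (t : T) : dX δ ρ χ (SemidirectProduct.inr t) = χ t := by
  rw [dX_apply]
  simp

theorem pi_commutator_apply (f g : κ → Q) (l : κ) : ⁅f, g⁆ l = ⁅f l, g l⁆ := by
  simp [commutatorElement_def]

theorem inl_inr_eq (x : WX Q κ ρ) :
    x = SemidirectProduct.inl x.left * SemidirectProduct.inr x.right := by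
  ext <;> simp

variable (sec : Z → Q) (hδ : ∀ x : Q, δ (sec (δ x)) = δ x)
  (hcomm : ∀ z z' : Z, Commute (sec z) (sec z'))

include hδ hcomm in
/-- commutators in one coordinate are commutators of the kernel -/
theorem coord_commutator_mem (hκ : ∀ k : κ, ∃ j : κ, j ≠ k) (k : κ) (y : Q)
    (hy : y ∈ commutator Q) :
    (SemidirectProduct.inl (Pi.mulSingle k y) : WX Q κ ρ) ∈
      ⁅(dX δ ρ 1).ker, (dX δ ρ 1).ker⁆ := by
  obtain ⟨j, hjk⟩ := hκ k
  set K := (dX δ ρ 1).ker with hK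
  let θ : Q →* WX Q κ ρ := (SemidirectProduct.inl).comp (MonoidHom.mulSingle (fun _ : κ => Q) k)
  have hle : commutator Q ≤ (⁅K, K⁆).comap θ := by
    rw [commutator_def, Subgroup.commutator_le]
    intro a _ b _
    rw [Subgroup.mem_comap]
    let dA : κ → Q := Pi.mulSingle k a * Pi.mulSingle j (sec (δ a))⁻¹
    let dB : κ → Q := Pi.mulSingle k b * Pi.mulSingle j (sec (δ b))⁻¹
    have hA : (SemidirectProduct.inl dA : WX Q κ ρ) ∈ K := by
      rw [hK, MonoidHom.mem_ker, dX_inl, map_mul, prodHom_mulSingle, prodHom_mulSingle, map_inv,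
        hδ, mul_inv_cancel]
    have hB : (SemidirectProduct.inl dB : WX Q κ ρ) ∈ K := by
      rw [hK, MonoidHom.mem_ker, dX_inl, map_mul, prodHom_mulSingle, prodHom_mulSingle, map_inv,
        hδ, mul_inv_cancel]
    have hdA : ∀ l, dA l = Pi.mulSingle (M := fun _ : κ => Q) k a l *
        Pi.mulSingle (M := fun _ : κ => Q) j (sec (δ a))⁻¹ l := fun l => rfl
    have hdB : ∀ l, dB l = Pi.mulSingle (M := fun _ : κ => Q) k b l *
        Pi.mulSingle (M := fun _ : κ => Q) j (sec (δ b))⁻¹ l := fun l => rfl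
    have hAB : ⁅dA, dB⁆ = Pi.mulSingle k ⁅a, b⁆ := by
      funext l
      rw [pi_commutator_apply, hdA, hdB]
      by_cases hlk : l = k
      · subst hlk
        rw [Pi.mulSingle_eq_same, Pi.mulSingle_eq_same, Pi.mulSingle_eq_of_ne hjk.symm,
          Pi.mulSingle_eq_of_ne hjk.symm, mul_one, mul_one, Pi.mulSingle_eq_same]
      · rw [Pi.mulSingle_eq_of_ne hlk, Pi.mulSingle_eq_of_ne hlk, Pi.mulSingle_eq_of_ne hlk,
          one_mul, one_mul]
        by_cases hlj : l = j
        · subst hlj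
          rw [Pi.mulSingle_eq_same, Pi.mulSingle_eq_same, commutatorElement_eq_one_iff_commute]
          exact ((hcomm _ _).inv_left).inv_right
        · rw [Pi.mulSingle_eq_of_ne hlj, commutatorElement_one_left]
    have h3 : θ ⁅a, b⁆ = ⁅(SemidirectProduct.inl dA : WX Q κ ρ), SemidirectProduct.inl dB⁆ := by
      rw [← map_commutatorElement, hAB]
      rfl
    rw [h3]
    exact Subgroup.commutator_mem_commutator hA hB
  exact hle hy

include hδ hcomm in
/-- base elements with all coordinates in the derived subgroup are commutators of the kernel -/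
theorem inl_mem_of_forall_mem (hκ : ∀ k : κ, ∃ j : κ, j ≠ k) (c : κ → Q)
    (hc : ∀ k, c k ∈ commutator Q) :
    (SemidirectProduct.inl c : WX Q κ ρ) ∈ ⁅(dX δ ρ 1).ker, (dX δ ρ 1).ker⁆ := by
  have h1 : Subgroup.pi Set.univ (fun _ : κ => commutator Q) ≤
      (⁅(dX δ ρ 1).ker, (dX δ ρ 1).ker⁆).comap
        (SemidirectProduct.inl : (κ → Q) →* WX Q κ ρ) := by
    rw [Subgroup.pi_le_iff]
    rintro k _ ⟨y, hy, rfl⟩
    rw [Subgroup.mem_comap]
    exact coord_commutator_mem δ ρ sec hδ hcomm hκ k y hy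
  apply h1
  rw [Subgroup.mem_pi]
  intro k _
  exact hc k

include hδ hcomm in
/-- the kernel of the product determinant has `EA` -/
theorem sq_mem_commutator_ker (hκ : ∀ k : κ, ∃ j : κ, j ≠ k)
    (hH1 : ∀ x : Q, x ^ 2 * (sec (δ x) ^ 2)⁻¹ ∈ commutator Q) (hT : EA T)
    (hH3 : ∀ d : κ → Q, prodHom δ κ d = 1 →
      (SemidirectProduct.inl (fun l => sec (δ (d l)) ^ 2) : WX Q κ ρ) ∈
        ⁅(dX δ ρ 1).ker, (dX δ ρ 1).ker⁆) :
    ∀ x ∈ (dX δ ρ 1).ker, x ^ 2 ∈ ⁅(dX δ ρ 1).ker, (dX δ ρ 1).ker⁆ := by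
  set K := (dX δ ρ 1).ker with hK
  have hinr : ∀ t : T, (SemidirectProduct.inr t : WX Q κ ρ) ∈ K := by
    intro t
    rw [hK, MonoidHom.mem_ker, dX_inr]
    rfl
  have hinr2 : ∀ t : T, (SemidirectProduct.inr t : WX Q κ ρ) ∈ sqSub K := by
    intro t
    refine ⟨hinr t, ?_⟩
    rw [← map_pow]
    have h1 : (commutator T).map (SemidirectProduct.inr : T →* WX Q κ ρ) ≤ ⁅K, K⁆ := by
      rw [commutator_def, Subgroup.map_commutator]
      apply Subgroup.commutator_mono
      · rintro _ ⟨t, _, rfl⟩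
        exact hinr t
      · rintro _ ⟨t, _, rfl⟩
        exact hinr t
    exact h1 ⟨t ^ 2, hT t, rfl⟩
  have hinl2 : ∀ d : κ → Q, prodHom δ κ d = 1 →
      (SemidirectProduct.inl d : WX Q κ ρ) ∈ sqSub K := by
    intro d hd
    refine ⟨by rw [hK, MonoidHom.mem_ker, dX_inl, hd], ?_⟩
    let c : κ → Q := fun l => d l ^ 2 * (sec (δ (d l)) ^ 2)⁻¹
    let e : κ → Q := fun l => sec (δ (d l)) ^ 2
    have hce : d ^ 2 = c * e := by
      funext l
      show d l ^ 2 = d l ^ 2 * (sec (δ (d l)) ^ 2)⁻¹ * sec (δ (d l)) ^ 2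
      rw [inv_mul_cancel_right]
    rw [← map_pow, hce, map_mul]
    exact Subgroup.mul_mem _
      (inl_mem_of_forall_mem δ ρ sec hδ hcomm hκ c (fun l => hH1 (d l))) (hH3 d hd)
  intro x hx
  have hx1 := inl_inr_eq ρ x
  have hleft : prodHom δ κ x.left = 1 := by
    have h1 : dX δ ρ 1 x = 1 := hx
    rw [dX_apply] at h1
    simpa using h1
  have h2 : x ∈ sqSub K := by
    rw [hx1]
    exact Subgroup.mul_mem _ (hinl2 _ hleft) (hinr2 _)
  exact h2.2

end

end Cfsg.Agent.Lib.Helper6.KSec
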