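import Mathlib
import Cfsg.Agent.Lib.Helper6.SW6
import Cfsg.Agent.Lib.Helper6.BW1
import Cfsg.Agent.Lib.Helper6.BW3
import Cfsg.Agent.Lib.Helper6.KSec1
import Cfsg.Agent.Lib.Helper6.KSec2

set_option autoImplicit false
set_option linter.unusedSectionVars false
set_option linter.unusedVariables false
set_option linter.unusedSimpArgs false

/-! Sylow 2-subgroups of `SL_{2m}(F)`, `|F| ≡ 3 (mod 4)`, `m ≥ 2`, have elementary abelian
abelianisation. -/

namespace Cfsg.Agent.Lib.Helper6.KSec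

open Matrix Cfsg.Agent.Lib.Helper6.SW Cfsg.Agent.Lib.Helper6.GLS Cfsg.Agent.Lib.Helper6.BW
open scoped commutatorElement
open Nat

section general

variable {G : Type*} [Group G] [Finite G]

theorem exists_sylow_eq' (p : ℕ) [Fact p.Prime] :
    ∀ S : Subgroup G, Nat.card S = p ^ (Nat.card G).factorization p →
      ∃ P : Sylow p G, (P : Subgroup G) = S :=
  fun S h => exists_sylow_eq p S h

end general

section transfer

variable {G X Z : Type*} [Group G] [Group X] [CommGroup Z]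

/-- transfer of the kernel statement along an injective homomorphism -/
theorem sq_mem_of_lam (lam : X →* G) (dG : G →* Z) (dXX : X →* Z)
    (hd : ∀ y, dG (lam y) = dXX y)
    (hK : ∀ y ∈ dXX.ker, y ^ 2 ∈ ⁅dXX.ker, dXX.ker⁆) :
    ∀ x ∈ lam.range ⊓ dG.ker, x ^ 2 ∈ ⁅lam.range ⊓ dG.ker, lam.range ⊓ dG.ker⁆ := by
  rintro x ⟨⟨y, rfl⟩, hx2⟩
  have hy : y ∈ dXX.ker := by
    rw [MonoidHom.mem_ker, ← hd]
    exact hx2
  have h1 : (dXX.ker).map lam ≤ lam.range ⊓ dG.ker := by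
    rintro _ ⟨z, hz, rfl⟩
    refine ⟨⟨z, rfl⟩, ?_⟩
    show lam z ∈ dG.ker
    rw [MonoidHom.mem_ker, hd]
    exact hz
  have h2 : (⁅dXX.ker, dXX.ker⁆).map lam ≤ ⁅lam.range ⊓ dG.ker, lam.range ⊓ dG.ker⁆ := by
    rw [Subgroup.map_commutator]
    exact Subgroup.commutator_mono h1 h1
  rw [← map_pow]
  exact h2 ⟨y ^ 2, hK y hy, rfl⟩

end transfer

variable {F : Type*} [Field F] [Fintype F]

theorem EA_sylow_sl_even_three (hq : 4 ∣ Fintype.card F + 1) (h2 : (2 : F) ≠ 0) (m : ℕ)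
    (hm : 2 ≤ m) (P : Sylow 2 (SpecialLinearGroup (Fin (2 * m)) F)) :
    EA ↥(P : Subgroup (SpecialLinearGroup (Fin (2 * m)) F)) := by
  classical
  obtain ⟨Q⟩ : Nonempty (Sylow 2 (GL (Fin 2) F)) := inferInstance
  obtain ⟨T⟩ : Nonempty (Sylow 2 (Equiv.Perm (Fin m))) := inferInstance
  have hQ := EA_sylow_gl2 hq h2 Q
  have hT := EA_sylow_perm m (Fin m) (Fintype.card_fin m) T
  let e : Fin (2 * m) ≃ Fin 2 × Fin m := Fintype.equivOfCardEq (by simp)
  -- the Sylow subgroup of `GL`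
  have hcard := (blockData (Fin 2) (Fin m) F).card_sub (Q : Subgroup (GL (Fin 2) F))
    (T : Subgroup (Equiv.Perm (Fin m)))
  rw [Q.card_eq_multiplicity, T.card_eq_multiplicity, Nat.card_eq_fintype_card (α := Fin m),
    Fintype.card_fin, Nat.card_eq_fintype_card (α := Equiv.Perm (Fin m)), Fintype.card_perm,
    Fintype.card_fin, ← pow_mul, ← pow_add] at hcard
  have hexp : (Nat.card (GL (Fin 2) F)).factorization 2 * m + (m !).factorization 2 =
      (Nat.card (GL (Fin 2 × Fin m) F)).factorization 2 := by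
    rw [← card_GL_eq F e, fact_GL_even hq m, mul_comm]
  rw [hexp] at hcard
  obtain ⟨P₀, hP₀⟩ := exists_sylow_eq' 2 _ hcard
  apply EA_sylow_of_ker 2 (slToGL F e) (slToGL_injective F e)
    (Matrix.GeneralLinearGroup.det : GL (Fin 2 × Fin m) F →* Fˣ) (range_slToGL F e) P₀ _ P
  rw [hP₀]
  -- the abstract wreath product
  let δ : ↥(Q : Subgroup (GL (Fin 2) F)) →* Fˣ :=
    (Matrix.GeneralLinearGroup.det : GL (Fin 2) F →* Fˣ).comp
      (Q : Subgroup (GL (Fin 2) F)).subtype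
  have hpm : ∀ x : ↥(Q : Subgroup (GL (Fin 2) F)), δ x = 1 ∨ δ x = -1 :=
    fun x => det_pm hq _ Q.isPGroup' x.1 x.2
  let h₀ : ↥(Q : Subgroup (GL (Fin 2) F)) :=
    if hex : ∃ y : ↥(Q : Subgroup (GL (Fin 2) F)), δ y ≠ 1 then hex.choose else 1
  let sec : Fˣ → ↥(Q : Subgroup (GL (Fin 2) F)) := fun z => if z = 1 then 1 else h₀
  have hδ : ∀ x, δ (sec (δ x)) = δ x := by
    intro x
    by_cases hx : δ x = 1
    · simp [sec, hx]
    · have hex : ∃ y : ↥(Q : Subgroup (GL (Fin 2) F)), δ y ≠ 1 := ⟨x, hx⟩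
      have hh : δ h₀ ≠ 1 := by
        simp only [h₀, dif_pos hex]
        exact hex.choose_spec
      have h3 : sec (δ x) = h₀ := by simp [sec, hx]
      rw [h3]
      rcases hpm x with h | h
      · exact absurd h hx
      · rcases hpm h₀ with h' | h'
        · exact absurd h' hh
        · rw [h, h']
  have hcomm : ∀ z z' : Fˣ, Commute (sec z) (sec z') := by
    intro z z'
    by_cases hz : z = 1 <;> by_cases hz' : z' = 1 <;> simp [sec, hz, hz']
  have hsq : ∀ z : Fˣ, sec z ^ 2 ∈ commutator ↥(Q : Subgroup (GL (Fin 2) F)) := fun z => hQ _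
  have hκ : ∀ k : Fin m, ∃ j : Fin m, j ≠ k := by
    intro k
    by_cases hk : (k : ℕ) = 0
    · exact ⟨⟨1, by omega⟩, fun h => by
        have := congrArg Fin.val h
        simp at this
        omega⟩
    · exact ⟨⟨0, by omega⟩, fun h => by
        have := congrArg Fin.val h
        simp at this
        omega⟩
  have hK := sq_mem_commutator_ker δ (T : Subgroup (Equiv.Perm (Fin m))).subtype sec hδ hcomm hκ
    (fun x => Subgroup.mul_mem _ (hQ x) (Subgroup.inv_mem _ (hsq _))) hT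
    (fun d _ => inl_mem_of_forall_mem δ _ sec hδ hcomm hκ _ (fun l => hsq _))
  -- transfer
  apply sq_mem_of_lam ((blockData (Fin 2) (Fin m) F).lam (Q : Subgroup (GL (Fin 2) F))
    (T : Subgroup (Equiv.Perm (Fin m)))) _ _ _ hK
  intro y
  rw [WrData.lam_apply, map_mul, dX_apply]
  show Matrix.GeneralLinearGroup.det (bf₁ (Fin 2) (Fin m) F _) *
    Matrix.GeneralLinearGroup.det (bf₂ (Fin 2) (Fin m) F _) = _
  rw [det_bf₁, det_bf₂_of_even (Fin 2) (Fin m) F (by simp), mul_one, MonoidHom.one_apply, mul_one]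
  rfl

end Cfsg.Agent.Lib.Helper6.KSec
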