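import Mathlib
import Cfsg.Agent.Lib.Helper6.KSec1

set_option autoImplicit false
set_option linter.unusedSectionVars false
set_option linter.unusedVariables false
set_option linter.unusedSimpArgs false

/-! The section property for a wreath product with a group acting on two points. -/

namespace Cfsg.Agent.Lib.Helper6.KSec

open Cfsg.Agent.Lib.Helper6.SW Cfsg.Agent.Lib.Helper6.GLS
open scoped commutatorElement

section

variable {Q Z : Type*} [Group Q] [CommGroup Z] {T : Type*} [Group T]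
variable (δ : Q →* Z) (ρ : T →* Equiv.Perm (Fin 2)) (χ : T →* Z)
variable (sec : Z →* Q) (hsec : ∀ z, δ (sec z) = z)

/-- the section of the product determinant -/
def secX : Z →* WX Q (Fin 2) ρ :=
  (SemidirectProduct.inl).comp ((MonoidHom.mulSingle (fun _ : Fin 2 => Q) 0).comp sec)

theorem secX_apply (z : Z) :
    secX ρ sec z = SemidirectProduct.inl (Pi.mulSingle 0 (sec z)) := rfl

include hsec in
theorem dX_secX (z : Z) : dX δ ρ χ (secX ρ sec z) = z := by
  rw [secX_apply, dX_inl, prodHom_mulSingle, hsec]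

theorem fin_two_eq (d : Fin 2 → Q) : d = Pi.mulSingle 0 (d 0) * Pi.mulSingle 1 (d 1) := by
  funext k
  fin_cases k
  · show d 0 = (Pi.mulSingle (M := fun _ : Fin 2 => Q) 0 (d 0)) 0 *
      (Pi.mulSingle (M := fun _ : Fin 2 => Q) 1 (d 1)) 0
    rw [Pi.mulSingle_eq_same, Pi.mulSingle_eq_of_ne (by decide), mul_one]
  · show d 1 = (Pi.mulSingle (M := fun _ : Fin 2 => Q) 0 (d 0)) 1 *
      (Pi.mulSingle (M := fun _ : Fin 2 => Q) 1 (d 1)) 1
    rw [Pi.mulSingle_eq_same, Pi.mulSingle_eq_of_ne (by decide), one_mul]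

include hsec in
/-- the section property passes to the wreath product -/
theorem sq_mem_commutator_wreath (hs : ∃ s : T, ρ s 0 = 1) (hT : EA T)
    (hχ : ∀ t, χ t ^ 2 = 1)
    (hH1 : ∀ x : Q, x ^ 2 * (sec (δ x) ^ 2)⁻¹ ∈ commutator Q) :
    ∀ x : WX Q (Fin 2) ρ, x ^ 2 * (secX ρ sec (dX δ ρ χ x) ^ 2)⁻¹ ∈ commutator (WX Q (Fin 2) ρ) := by
  obtain ⟨s, hs⟩ := hs
  let ofA : WX Q (Fin 2) ρ →* Abelianization (WX Q (Fin 2) ρ) := Abelianization.of
  let β₀ : Q →* Abelianization (WX Q (Fin 2) ρ) :=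
    ofA.comp ((SemidirectProduct.inl).comp (MonoidHom.mulSingle (fun _ : Fin 2 => Q) 0))
  have hs1 : (ρ s).symm 1 = 0 := by
    rw [Equiv.symm_apply_eq]
    exact hs.symm
  have hs0 : (ρ s).symm 0 = 1 := by
    have h1 : (ρ s).symm 0 ≠ 0 := by
      intro h
      have := (ρ s).symm.injective (h.trans hs1.symm)
      exact absurd this (by decide)
    generalize (ρ s).symm 0 = a at h1
    fin_cases a
    · exact absurd rfl h1
    · rfl
  -- the two coordinates have the same image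
  have hβ1 : ∀ y : Q, ofA (SemidirectProduct.inl (Pi.mulSingle 1 y)) = β₀ y := by
    intro y
    have h1 : (SemidirectProduct.inl (Pi.mulSingle 1 y) : WX Q (Fin 2) ρ) =
        SemidirectProduct.inr s * SemidirectProduct.inl (Pi.mulSingle 0 y) *
          (SemidirectProduct.inr s)⁻¹ := by
      rw [← map_inv, ← SemidirectProduct.inl_aut]
      congr 1
      funext k
      show Pi.mulSingle (M := fun _ : Fin 2 => Q) 1 y k =
        (Pi.mulSingle (M := fun _ : Fin 2 => Q) 0 y) ((ρ s).symm k)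
      fin_cases k
      · show Pi.mulSingle (M := fun _ : Fin 2 => Q) 1 y 0 =
          (Pi.mulSingle (M := fun _ : Fin 2 => Q) 0 y) ((ρ s).symm 0)
        rw [hs0, Pi.mulSingle_eq_of_ne (by decide), Pi.mulSingle_eq_of_ne (by decide)]
      · show Pi.mulSingle (M := fun _ : Fin 2 => Q) 1 y 1 =
          (Pi.mulSingle (M := fun _ : Fin 2 => Q) 0 y) ((ρ s).symm 1)
        rw [hs1, Pi.mulSingle_eq_same, Pi.mulSingle_eq_same]
    rw [h1, map_mul, map_mul, map_inv, mul_comm, inv_mul_cancel_left]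
    rfl
  have hβ : ∀ d : Fin 2 → Q, ofA (SemidirectProduct.inl d) = β₀ (d 0 * d 1) := by
    intro d
    conv_lhs => rw [fin_two_eq d]
    rw [map_mul, map_mul, hβ1, map_mul]
    rfl
  have hkill : ∀ c ∈ commutator Q, β₀ c = 1 := by
    intro c hc
    exact Abelianization.commutator_subset_ker β₀ hc
  have hinr : ∀ t : T, ofA (SemidirectProduct.inr t) ^ 2 = 1 := by
    intro t
    rw [← map_pow, ← map_pow]
    apply (QuotientGroup.eq_one_iff _).mpr
    exact map_commutator_le (SemidirectProduct.inr : T →* WX Q (Fin 2) ρ) ⟨_, hT t, rfl⟩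
  intro x
  apply (QuotientGroup.eq_one_iff _).mp
  show ofA (x ^ 2 * (secX ρ sec (dX δ ρ χ x) ^ 2)⁻¹) = 1
  set y := x.left 0 * x.left 1 with hy
  have h1 : ofA (x ^ 2) = β₀ (sec (δ y) ^ 2) := by
    conv_lhs => rw [inl_inr_eq ρ x]
    rw [map_pow, map_mul, mul_pow, hinr, mul_one, hβ, ← map_pow]
    have h2 : y ^ 2 = (y ^ 2 * (sec (δ y) ^ 2)⁻¹) * sec (δ y) ^ 2 := by
      rw [inv_mul_cancel_right]
    rw [h2, map_mul, hkill _ (hH1 y), one_mul]
  have h3 : dX δ ρ χ x = δ y * χ x.right := by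
    rw [dX_apply, prodHom_apply, Fin.prod_univ_two, hy, map_mul]
  have h4 : ofA (secX ρ sec (dX δ ρ χ x) ^ 2) = β₀ (sec (δ y) ^ 2) := by
    rw [← map_pow, secX_apply]
    show β₀ (sec ((dX δ ρ χ x) ^ 2)) = _
    rw [h3, mul_pow, hχ, mul_one, map_pow]
  rw [map_mul, map_inv, h1, h4, mul_inv_cancel]

end

end Cfsg.Agent.Lib.Helper6.KSec
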