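import Mathlib
import Cfsg.Agent.Lib.Helper6.BW5
import Cfsg.Agent.Lib.Helper6.BW6
import Cfsg.Agent.Lib.Helper6.KSec3
import Cfsg.Agent.Lib.Helper6.KSec4

set_option autoImplicit false
set_option linter.unusedSectionVars false
set_option linter.unusedVariables false
set_option linter.unusedSimpArgs false

/-! A Sylow 2-subgroup of `GL_{2^k}(F)`, `|F| ≡ 1 (mod 4)`, with a diagonal section of the
determinant whose squares control the squares modulo commutators. -/

namespace Cfsg.Agent.Lib.Helper6.KSec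

open Matrix Cfsg.Agent.Lib.Helper6.SW Cfsg.Agent.Lib.Helper6.GLS Cfsg.Agent.Lib.Helper6.BW
open scoped commutatorElement
open Nat

section mu

variable (F : Type*) [Field F]

/-- the 2-primary part of the multiplicative group -/
def mu2 : Subgroup Fˣ where
  carrier := {z | ∃ k : ℕ, z ^ 2 ^ k = 1}
  one_mem' := ⟨0, by simp⟩
  mul_mem' := by
    rintro z w ⟨k, hk⟩ ⟨l, hl⟩
    refine ⟨k + l, ?_⟩
    rw [mul_pow, pow_add, pow_mul, hk, one_pow, mul_comm (2 ^ k), pow_mul, hl, one_pow, one_mul]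
  inv_mem' := by
    rintro z ⟨k, hk⟩
    exact ⟨k, by rw [inv_pow, hk, inv_one]⟩

theorem mem_mu2 (z : Fˣ) : z ∈ mu2 F ↔ ∃ k : ℕ, z ^ 2 ^ k = 1 := Iff.rfl

theorem isPGroup_mu2 : IsPGroup 2 (mu2 F) := by
  rintro ⟨z, k, hk⟩
  exact ⟨k, Subtype.ext hk⟩

variable {F}

theorem det_mem_mu2 {ι : Type*} [Fintype ι] [DecidableEq ι] (P : Subgroup (GL ι F))
    (hP : IsPGroup 2 P) (x : GL ι F) (hx : x ∈ P) :
    Matrix.GeneralLinearGroup.det x ∈ mu2 F := by
  obtain ⟨k, hk⟩ := hP ⟨x, hx⟩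
  have hk' : x ^ 2 ^ k = 1 := congrArg Subtype.val hk
  exact ⟨k, by rw [← map_pow, hk', map_one]⟩

end mu

section good

variable {ι : Type*} [Fintype ι] [DecidableEq ι] (F : Type*) [Field F]

/-- the section property of a subgroup of `GL_ι(F)` -/
def Good (P : Subgroup (GL ι F)) (i₀ : ι) : Prop :=
  (∀ z ∈ mu2 F, Dg F i₀ z ∈ P) ∧
    ∀ x ∈ P, x ^ 2 * (Dg F i₀ (Matrix.GeneralLinearGroup.det x) ^ 2)⁻¹ ∈ ⁅P, P⁆

end good

section step

variable {ι ι' : Type*} [Fintype ι] [DecidableEq ι] [Nonempty ι] [Fintype ι'] [DecidableEq ι']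
variable {F : Type*} [Field F]

/-- the wreath data `GL_ι ≀ S₂ → GL_ι'` along `e : ι × Fin 2 ≃ ι'` -/
noncomputable def stepData (e : ι × Fin 2 ≃ ι') : WrData (GL ι' F) (GL ι F) (Fin 2) :=
  compData (blockData ι (Fin 2) F) (glReindex F e).toMonoidHom (glReindex F e).injective

theorem stepData_f₁ (e : ι × Fin 2 ≃ ι') (d : Fin 2 → GL ι F) :
    (stepData (F := F) e).f₁ d = glReindex F e (bf₁ ι (Fin 2) F d) := rfl

theorem stepData_f₂ (e : ι × Fin 2 ≃ ι') (σ : Equiv.Perm (Fin 2)) :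
    (stepData (F := F) e).f₂ σ = glReindex F e (bf₂ ι (Fin 2) F σ) := rfl

theorem stepData_Dg (e : ι × Fin 2 ≃ ι') (i₀ : ι) (z : Fˣ) :
    (stepData (F := F) e).f₁ (Pi.mulSingle 0 (Dg F i₀ z)) = Dg F (e (i₀, 0)) z := by
  rw [stepData_f₁, bf₁_mulSingle_Dg, glReindex_Dg]

theorem det_stepData_f₁ (e : ι × Fin 2 ≃ ι') (d : Fin 2 → GL ι F) :
    Matrix.GeneralLinearGroup.det ((stepData (F := F) e).f₁ d) =
      ∏ k, Matrix.GeneralLinearGroup.det (d k) := by
  rw [stepData_f₁, det_glReindex, det_bf₁]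

theorem perm_fin_two_sq (t : Equiv.Perm (Fin 2)) : t ^ 2 = 1 := by
  revert t
  decide

theorem good_step (e : ι × Fin 2 ≃ ι') (P : Subgroup (GL ι F)) (hP : IsPGroup 2 P) (i₀ : ι)
    (hG : Good F P i₀) :
    Good F ((stepData (F := F) e).sub P ⊤) (e (i₀, 0)) := by
  classical
  set W := stepData (F := F) e with hW
  constructor
  · intro z hz
    rw [← stepData_Dg]
    apply W.f₁_mem_sub
    intro k
    by_cases hk : k = 0
    · subst hk
      rw [Pi.mulSingle_eq_same]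
      exact hG.1 z hz
    · rw [Pi.mulSingle_eq_of_ne hk]
      exact P.one_mem
  · -- the abstract data
    let δ : ↥P →* ↥(mu2 F) :=
      ((Matrix.GeneralLinearGroup.det : GL ι F →* Fˣ).comp P.subtype).codRestrict (mu2 F)
        (fun x => det_mem_mu2 P hP x.1 x.2)
    let sec : ↥(mu2 F) →* ↥P :=
      ((Dg F i₀).comp (mu2 F).subtype).codRestrict P (fun z => hG.1 z.1 z.2)
    have hsec : ∀ z, δ (sec z) = z := by
      intro z
      apply Subtype.ext
      exact det_Dg F i₀ z.1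
    have hH1 : ∀ x : ↥P, x ^ 2 * (sec (δ x) ^ 2)⁻¹ ∈ commutator ↥P := by
      intro x
      have h1 := hG.2 x.1 x.2
      rw [commutator_subgroup_eq_map] at h1
      obtain ⟨y, hy, hyx⟩ := h1
      have : y = x ^ 2 * (sec (δ x) ^ 2)⁻¹ := Subtype.ext hyx
      rw [← this]
      exact hy
    let ρ : ↥(⊤ : Subgroup (Equiv.Perm (Fin 2))) →* Equiv.Perm (Fin 2) :=
      (⊤ : Subgroup (Equiv.Perm (Fin 2))).subtype
    have hdetf₂ : ∀ t : ↥(⊤ : Subgroup (Equiv.Perm (Fin 2))),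
        Matrix.GeneralLinearGroup.det (W.f₂ (t : Equiv.Perm (Fin 2))) ^ 2 = 1 := by
      intro t
      rw [← map_pow, ← map_pow, perm_fin_two_sq, map_one, map_one]
    let χ : ↥(⊤ : Subgroup (Equiv.Perm (Fin 2))) →* ↥(mu2 F) :=
      ((Matrix.GeneralLinearGroup.det : GL ι' F →* Fˣ).comp (W.f₂.comp ρ)).codRestrict (mu2 F)
        (fun t => ⟨1, by rw [pow_one]; exact hdetf₂ t⟩)
    have hχ : ∀ t, χ t ^ 2 = 1 := by
      intro t
      apply Subtype.ext
      exact hdetf₂ t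
    have hs : ∃ s : ↥(⊤ : Subgroup (Equiv.Perm (Fin 2))), ρ s 0 = 1 :=
      ⟨⟨Equiv.swap 0 1, Subgroup.mem_top _⟩, by simp [ρ]⟩
    have hT : EA ↥(⊤ : Subgroup (Equiv.Perm (Fin 2))) := by
      apply EA_of_card_two
      rw [Subgroup.card_top, Nat.card_eq_fintype_card, Fintype.card_perm, Fintype.card_fin]
      rfl
    have habs := sq_mem_commutator_wreath δ ρ χ sec hsec hs hT hχ hH1
    -- transfer
    have hdet : ∀ y : WrX P (⊤ : Subgroup (Equiv.Perm (Fin 2))),
        Matrix.GeneralLinearGroup.det (W.lam P ⊤ y) = ((dX δ ρ χ y : ↥(mu2 F)) : Fˣ) := by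
      intro y
      rw [WrData.lam_apply, map_mul, hW, det_stepData_f₁, dX_apply, Subgroup.coe_mul,
        prodHom_apply]
      congr 1
    have hsecX : ∀ w : ↥(mu2 F), W.lam P ⊤ (secX ρ sec w) = Dg F (e (i₀, 0)) (w : Fˣ) := by
      intro w
      rw [WrData.lam_apply, secX_apply]
      show W.f₁ (fun k => ((Pi.mulSingle (M := fun _ : Fin 2 => ↥P) 0 (sec w) k : ↥P) : GL ι F)) *
        W.f₂ ((1 : ↥(⊤ : Subgroup (Equiv.Perm (Fin 2)))) : Equiv.Perm (Fin 2)) = _
      have h1 : (fun k => ((Pi.mulSingle (M := fun _ : Fin 2 => ↥P) 0 (sec w) k : ↥P) : GL ι F)) =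
          Pi.mulSingle 0 (Dg F i₀ (w : Fˣ)) := by
        funext k
        by_cases hk : k = 0
        · subst hk
          rw [Pi.mulSingle_eq_same, Pi.mulSingle_eq_same]
          rfl
        · rw [Pi.mulSingle_eq_of_ne hk, Pi.mulSingle_eq_of_ne hk]
          rfl
      rw [h1, Subgroup.coe_one, map_one, mul_one, hW, stepData_Dg]
    rintro x ⟨y, rfl⟩
    have h2 : (commutator (WrX P (⊤ : Subgroup (Equiv.Perm (Fin 2))))).map (W.lam P ⊤) ≤
        ⁅W.sub P ⊤, W.sub P ⊤⁆ := by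
      rw [commutator_def, Subgroup.map_commutator, ← MonoidHom.range_eq_map]
      rfl
    have h3 := h2 ⟨_, habs y, rfl⟩
    rw [map_mul, map_inv, map_pow, map_pow, hsecX, ← hdet] at h3
    exact h3

end step

section induction

variable {F : Type*} [Field F] [Fintype F]

theorem card_top_perm_two : Nat.card (⊤ : Subgroup (Equiv.Perm (Fin 2))) = 2 := by
  rw [Subgroup.card_top, Nat.card_eq_fintype_card, Fintype.card_perm, Fintype.card_fin]
  rfl

/-- a good Sylow 2-subgroup of `GL_{2^k}(F)` -/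
theorem exists_good (hq : 4 ∣ Fintype.card F - 1) : ∀ k : ℕ, ∀ (ι : Type) [Fintype ι]
    [DecidableEq ι], Fintype.card ι = 2 ^ k →
    ∃ (P : Sylow 2 (GL ι F)) (i₀ : ι), Good F (P : Subgroup (GL ι F)) i₀ := by
  intro k
  induction k with
  | zero =>
    intro ι _ _ hcard
    rw [pow_zero] at hcard
    have hpos : 0 < Fintype.card ι := by omega
    obtain ⟨i₀⟩ := Fintype.card_pos_iff.mp hpos
    obtain ⟨P, hP⟩ := ((isPGroup_mu2 F).map (Dg F i₀)).exists_le_sylow
    refine ⟨P, i₀, ?_, ?_⟩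
    · intro z hz
      exact hP ⟨z, hz, rfl⟩
    · intro x _
      rw [← eq_Dg_of_card_one F hcard i₀ x, mul_inv_cancel]
      exact Subgroup.one_mem _
  | succ k ih =>
    intro ι' _ _ hcard
    have hpk : 0 < 2 ^ k := by positivity
    have : Nonempty (Fin (2 ^ k)) := ⟨⟨0, hpk⟩⟩
    obtain ⟨P, i₀, hG⟩ := ih (Fin (2 ^ k)) (Fintype.card_fin _)
    let e : Fin (2 ^ k) × Fin 2 ≃ ι' := Fintype.equivOfCardEq (by
      rw [hcard, Fintype.card_prod, Fintype.card_fin, Fintype.card_fin, pow_succ])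
    have hG' := good_step e (P : Subgroup (GL (Fin (2 ^ k)) F)) P.isPGroup' i₀ hG
    have hc := (stepData (F := F) e).card_sub (P : Subgroup (GL (Fin (2 ^ k)) F))
      (⊤ : Subgroup (Equiv.Perm (Fin 2)))
    rw [P.card_eq_multiplicity, card_top_perm_two, Nat.card_eq_fintype_card (α := Fin 2),
      Fintype.card_fin, ← pow_mul] at hc
    have hexp : 2 ^ ((Nat.card (GL (Fin (2 ^ k)) F)).factorization 2 * 2) * 2 =
        2 ^ (Nat.card (GL ι' F)).factorization 2 := by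
      rw [card_GL_eq F (Fintype.equivFinOfCardEq hcard), fact_GL_two_pow_succ hq k, pow_succ,
        mul_comm _ 2]
      ring
    rw [hexp] at hc
    obtain ⟨P', hP'⟩ := exists_sylow_eq' 2 _ hc
    refine ⟨P', e (i₀, 0), ?_⟩
    rw [hP']
    exact hG'

end induction

end Cfsg.Agent.Lib.Helper6.KSec
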