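import Mathlib
import Cfsg.Agent.Lib.Helper6.SW8
import Cfsg.Agent.Lib.Helper6.KSec5

set_option autoImplicit false
set_option linter.unusedSectionVars false
set_option linter.unusedVariables false
set_option linter.unusedSimpArgs false

/-! Sylow 2-subgroups of `SL_{2m}(F)`: elementary abelian abelianisation for `|F| ≡ 3 (mod 4)`,
and for `|F| ≡ 1 (mod 4)` when `m` is a power of two. -/

namespace Cfsg.Agent.Lib.Helper6.KSec

open Matrix Cfsg.Agent.Lib.Helper6.SW Cfsg.Agent.Lib.Helper6.GLS Cfsg.Agent.Lib.Helper6.BW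
open scoped commutatorElement
open Nat

section swap

variable {Q Z : Type*} [Group Q] [CommGroup Z] {T : Type*} [Group T]
variable (δ : Q →* Z) (ρ : T →* Equiv.Perm (Fin 2))

/-- the swap trick: `(s², s⁻²)` is a commutator of the kernel -/
theorem swap_trick (s : Q) (τ : T) (hτ : ρ τ 0 = 1) :
    (SemidirectProduct.inl (Pi.mulSingle 0 (s ^ 2) * Pi.mulSingle 1 (s ^ 2)⁻¹) : WX Q (Fin 2) ρ) ∈
      ⁅(dX δ ρ 1).ker, (dX δ ρ 1).ker⁆ := by
  have hτ1 : (ρ τ).symm 1 = 0 := by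
    rw [Equiv.symm_apply_eq]
    exact hτ.symm
  have hτ0 : (ρ τ).symm 0 = 1 := by
    have h1 : (ρ τ).symm 0 ≠ 0 := by
      intro h
      have := (ρ τ).symm.injective (h.trans hτ1.symm)
      exact absurd this (by decide)
    generalize (ρ τ).symm 0 = a at h1
    fin_cases a
    · exact absurd rfl h1
    · rfl
  let u : Fin 2 → Q := Pi.mulSingle 0 s * Pi.mulSingle 1 s⁻¹
  have hu : ∀ k, u k = Pi.mulSingle (M := fun _ : Fin 2 => Q) 0 s k *
      Pi.mulSingle (M := fun _ : Fin 2 => Q) 1 s⁻¹ k := fun k => rfl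
  have hu0 : u 0 = s := by
    rw [hu, Pi.mulSingle_eq_same, Pi.mulSingle_eq_of_ne (by decide), mul_one]
  have hu1 : u 1 = s⁻¹ := by
    rw [hu, Pi.mulSingle_eq_same, Pi.mulSingle_eq_of_ne (by decide), one_mul]
  have huK : (SemidirectProduct.inl u : WX Q (Fin 2) ρ) ∈ (dX δ ρ 1).ker := by
    rw [MonoidHom.mem_ker, dX_inl, map_mul, prodHom_mulSingle, prodHom_mulSingle, map_inv,
      mul_inv_cancel]
  have hτK : (SemidirectProduct.inr τ : WX Q (Fin 2) ρ) ∈ (dX δ ρ 1).ker := by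
    rw [MonoidHom.mem_ker, dX_inr]
    rfl
  have h1 : ⁅(SemidirectProduct.inl u : WX Q (Fin 2) ρ),
      (SemidirectProduct.inr τ : WX Q (Fin 2) ρ)⁆ =
      SemidirectProduct.inl (Pi.mulSingle (M := fun _ : Fin 2 => Q) 0 (s ^ 2) *
        Pi.mulSingle (M := fun _ : Fin 2 => Q) 1 (s ^ 2)⁻¹) := by
    rw [commutatorElement_def, mul_assoc, mul_assoc, ← mul_assoc (SemidirectProduct.inr τ),
      ← map_inv SemidirectProduct.inl, ← map_inv SemidirectProduct.inr,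
      ← SemidirectProduct.inl_aut, ← map_mul]
    congr 1
    funext k
    show u k * (u⁻¹) ((ρ τ).symm k) = Pi.mulSingle (M := fun _ : Fin 2 => Q) 0 (s ^ 2) k *
      Pi.mulSingle (M := fun _ : Fin 2 => Q) 1 (s ^ 2)⁻¹ k
    fin_cases k
    · show u 0 * (u⁻¹) ((ρ τ).symm 0) = Pi.mulSingle (M := fun _ : Fin 2 => Q) 0 (s ^ 2) 0 *
        Pi.mulSingle (M := fun _ : Fin 2 => Q) 1 (s ^ 2)⁻¹ 0
      rw [hτ0, Pi.inv_apply, hu0, hu1, Pi.mulSingle_eq_same, Pi.mulSingle_eq_of_ne (by decide),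
        mul_one, inv_inv, pow_two]
    · show u 1 * (u⁻¹) ((ρ τ).symm 1) = Pi.mulSingle (M := fun _ : Fin 2 => Q) 0 (s ^ 2) 1 *
        Pi.mulSingle (M := fun _ : Fin 2 => Q) 1 (s ^ 2)⁻¹ 1
      rw [hτ1, Pi.inv_apply, hu0, hu1, Pi.mulSingle_eq_same, Pi.mulSingle_eq_of_ne (by decide),
        one_mul, pow_two, _root_.mul_inv_rev]
  rw [← h1]
  exact Subgroup.commutator_mem_commutator huK hτK

end swap

variable {F : Type*} [Field F] [Fintype F]

theorem EA_sylow_sl_even_one (hq : 4 ∣ Fintype.card F - 1) (j : ℕ) (hj : 1 ≤ j)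
    (P : Sylow 2 (SpecialLinearGroup (Fin (2 * 2 ^ j)) F)) :
    EA ↥(P : Subgroup (SpecialLinearGroup (Fin (2 * 2 ^ j)) F)) := by
  classical
  have hpj : 0 < 2 ^ j := by positivity
  have : Nonempty (Fin (2 ^ j)) := ⟨⟨0, hpj⟩⟩
  obtain ⟨P₁, i₀, hG⟩ := exists_good hq j (Fin (2 ^ j)) (Fintype.card_fin _)
  have hcardι : Fintype.card (Fin (2 ^ j) × Fin 2) = 2 ^ (j + 1) := by
    rw [Fintype.card_prod, Fintype.card_fin, Fintype.card_fin, pow_succ]
  let e : Fin (2 * 2 ^ j) ≃ Fin (2 ^ j) × Fin 2 := Fintype.equivOfCardEq (by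
    rw [hcardι, Fintype.card_fin, pow_succ, mul_comm])
  -- the Sylow subgroup of `GL`
  have hc := (blockData (Fin (2 ^ j)) (Fin 2) F).card_sub (P₁ : Subgroup (GL (Fin (2 ^ j)) F))
    (⊤ : Subgroup (Equiv.Perm (Fin 2)))
  rw [P₁.card_eq_multiplicity, card_top_perm_two, Nat.card_eq_fintype_card (α := Fin 2),
    Fintype.card_fin, ← pow_mul] at hc
  have hexp : 2 ^ ((Nat.card (GL (Fin (2 ^ j)) F)).factorization 2 * 2) * 2 =
      2 ^ (Nat.card (GL (Fin (2 ^ j) × Fin 2) F)).factorization 2 := by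
    rw [card_GL_eq F (Fintype.equivFinOfCardEq hcardι), fact_GL_two_pow_succ hq j, pow_succ,
      mul_comm _ 2]
    ring
  rw [hexp] at hc
  obtain ⟨P₀, hP₀⟩ := exists_sylow_eq' 2 _ hc
  apply EA_sylow_of_ker 2 (slToGL F e) (slToGL_injective F e)
    (Matrix.GeneralLinearGroup.det : GL (Fin (2 ^ j) × Fin 2) F →* Fˣ) (range_slToGL F e) P₀ _ P
  rw [hP₀]
  -- the abstract wreath product
  let δ : ↥(P₁ : Subgroup (GL (Fin (2 ^ j)) F)) →* Fˣ :=
    (Matrix.GeneralLinearGroup.det : GL (Fin (2 ^ j)) F →* Fˣ).comp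
      (P₁ : Subgroup (GL (Fin (2 ^ j)) F)).subtype
  have hmem : ∀ x : ↥(P₁ : Subgroup (GL (Fin (2 ^ j)) F)), δ x ∈ mu2 F :=
    fun x => det_mem_mu2 _ P₁.isPGroup' x.1 x.2
  let sec : Fˣ → ↥(P₁ : Subgroup (GL (Fin (2 ^ j)) F)) :=
    fun z => if h : z ∈ mu2 F then ⟨Dg F i₀ z, hG.1 z h⟩ else 1
  have hsec_val : ∀ z ∈ mu2 F, ((sec z : ↥(P₁ : Subgroup (GL (Fin (2 ^ j)) F))) :
      GL (Fin (2 ^ j)) F) = Dg F i₀ z := by
    intro z hz
    simp only [sec, dif_pos hz]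
  have hδ : ∀ x, δ (sec (δ x)) = δ x := by
    intro x
    show Matrix.GeneralLinearGroup.det ((sec (δ x) : ↥(P₁ : Subgroup (GL (Fin (2 ^ j)) F))) :
      GL (Fin (2 ^ j)) F) = δ x
    rw [hsec_val _ (hmem x), det_Dg]
  have hcomm : ∀ z z' : Fˣ, Commute (sec z) (sec z') := by
    intro z z'
    by_cases hz : z ∈ mu2 F
    · by_cases hz' : z' ∈ mu2 F
      · apply Subtype.ext
        show ((sec z : ↥(P₁ : Subgroup (GL (Fin (2 ^ j)) F))) : GL (Fin (2 ^ j)) F) *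
          ((sec z' : ↥(P₁ : Subgroup (GL (Fin (2 ^ j)) F))) : GL (Fin (2 ^ j)) F) = _ * _
        rw [hsec_val z hz, hsec_val z' hz']
        exact (Dg_commute F i₀ z z').eq
      · have : sec z' = 1 := by simp only [sec, dif_neg hz']
        rw [this]
        exact Commute.one_right _
    · have : sec z = 1 := by simp only [sec, dif_neg hz]
      rw [this]
      exact Commute.one_left _
  have hH1 : ∀ x : ↥(P₁ : Subgroup (GL (Fin (2 ^ j)) F)),
      x ^ 2 * (sec (δ x) ^ 2)⁻¹ ∈ commutator ↥(P₁ : Subgroup (GL (Fin (2 ^ j)) F)) := by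
    intro x
    have h1 := hG.2 x.1 x.2
    rw [commutator_subgroup_eq_map] at h1
    obtain ⟨y, hy, hyx⟩ := h1
    have hyx' : (y : GL (Fin (2 ^ j)) F) = (x : GL (Fin (2 ^ j)) F) ^ 2 *
        (Dg F i₀ (Matrix.GeneralLinearGroup.det (x : GL (Fin (2 ^ j)) F)) ^ 2)⁻¹ := hyx
    have : y = x ^ 2 * (sec (δ x) ^ 2)⁻¹ := by
      apply Subtype.ext
      rw [hyx']
      show _ = (x : GL (Fin (2 ^ j)) F) ^ 2 *
        (((sec (δ x) : ↥(P₁ : Subgroup (GL (Fin (2 ^ j)) F))) : GL (Fin (2 ^ j)) F) ^ 2)⁻¹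
      rw [hsec_val _ (hmem x)]
      rfl
    rw [← this]
    exact hy
  have hκ : ∀ k : Fin 2, ∃ l : Fin 2, l ≠ k := by decide
  have hT : EA ↥(⊤ : Subgroup (Equiv.Perm (Fin 2))) := EA_of_card_two _ card_top_perm_two
  let ρ : ↥(⊤ : Subgroup (Equiv.Perm (Fin 2))) →* Equiv.Perm (Fin 2) :=
    (⊤ : Subgroup (Equiv.Perm (Fin 2))).subtype
  have hH3 : ∀ d : Fin 2 → ↥(P₁ : Subgroup (GL (Fin (2 ^ j)) F)), prodHom δ (Fin 2) d = 1 →
      (SemidirectProduct.inl (fun l => sec (δ (d l)) ^ 2) :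
        WX ↥(P₁ : Subgroup (GL (Fin (2 ^ j)) F)) (Fin 2) ρ) ∈
        ⁅(dX δ ρ 1).ker, (dX δ ρ 1).ker⁆ := by
    intro d hd
    rw [prodHom_apply, Fin.prod_univ_two] at hd
    have hd1 : δ (d 1) = (δ (d 0))⁻¹ := by
      rw [eq_inv_iff_mul_eq_one, mul_comm]
      exact hd
    have hz := hmem (d 0)
    have hz' : (δ (d 0))⁻¹ ∈ mu2 F := (mu2 F).inv_mem hz
    have hinv : sec (δ (d 0))⁻¹ = (sec (δ (d 0)))⁻¹ := by
      apply Subtype.ext
      show ((sec (δ (d 0))⁻¹ : ↥(P₁ : Subgroup (GL (Fin (2 ^ j)) F))) : GL (Fin (2 ^ j)) F) =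
        (((sec (δ (d 0)) : ↥(P₁ : Subgroup (GL (Fin (2 ^ j)) F))) : GL (Fin (2 ^ j)) F))⁻¹
      rw [hsec_val _ hz, hsec_val _ hz', map_inv]
    have he : (fun l => sec (δ (d l)) ^ 2) =
        Pi.mulSingle (M := fun _ : Fin 2 => ↥(P₁ : Subgroup (GL (Fin (2 ^ j)) F))) 0
          (sec (δ (d 0)) ^ 2) *
        Pi.mulSingle (M := fun _ : Fin 2 => ↥(P₁ : Subgroup (GL (Fin (2 ^ j)) F))) 1
          (sec (δ (d 0)) ^ 2)⁻¹ := by
      funext k
      rw [Pi.mul_apply]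
      by_cases hk : k = 0
      · subst hk
        rw [Pi.mulSingle_eq_same, Pi.mulSingle_eq_of_ne (by decide), mul_one]
      · have hk1 : k = 1 := Fin.eq_one_of_ne_zero k hk
        subst hk1
        rw [Pi.mulSingle_eq_same, Pi.mulSingle_eq_of_ne (by decide), one_mul, hd1, hinv, inv_pow]
    rw [he]
    exact swap_trick δ ρ (sec (δ (d 0))) ⟨Equiv.swap 0 1, Subgroup.mem_top _⟩ (by simp [ρ])
  have hK := sq_mem_commutator_ker δ ρ sec hδ hcomm hκ hH1 hT hH3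
  -- transfer
  apply sq_mem_of_lam ((blockData (Fin (2 ^ j)) (Fin 2) F).lam
    (P₁ : Subgroup (GL (Fin (2 ^ j)) F)) (⊤ : Subgroup (Equiv.Perm (Fin 2)))) _ _ _ hK
  intro y
  rw [WrData.lam_apply, map_mul, dX_apply]
  show Matrix.GeneralLinearGroup.det (bf₁ (Fin (2 ^ j)) (Fin 2) F _) *
    Matrix.GeneralLinearGroup.det (bf₂ (Fin (2 ^ j)) (Fin 2) F _) = _
  have heven : Even (Fintype.card (Fin (2 ^ j))) := by
    rw [Fintype.card_fin]
    obtain ⟨j', rfl⟩ : ∃ j', j = j' + 1 := ⟨j - 1, by omega⟩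
    rw [pow_succ]
    exact even_two.mul_left _
  rw [det_bf₁, det_bf₂_of_even (Fin (2 ^ j)) (Fin 2) F heven, mul_one, MonoidHom.one_apply, mul_one]
  rfl

end Cfsg.Agent.Lib.Helper6.KSec
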