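import Mathlib
import Cfsg.Agent.Lib.Helper6.Orthogonality
import Cfsg.Agent.Lib.Helper6.Schur

set_option autoImplicit false

namespace Cfsg.Agent.Lib.Helper6

open scoped ComplexConjugate

section

variable {G : Type*} [Group G]

/-- An irreducible representation on which the group acts trivially has the principal
character. -/
theorem character_eq_one_of_forall_eq_one [Fintype G] {V : Type*} [AddCommGroup V] [Module ℂ V]
    [FiniteDimensional ℂ V] (ρ : Representation ℂ G V) [ρ.IsIrreducible]
    (hall : ∀ x : G, ρ x = 1) : ρ.character = fun _ => (1 : ℂ) := by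
  set n := Module.finrank ℂ V with hn
  have hchar : ∀ x : G, ρ.character x = (n : ℂ) := by
    intro x
    unfold Representation.character
    rw [hall x]
    simp [hn]
  have h1 := classInner_irr_self ρ
  unfold Cfsg.classInner at h1
  have hG := card_ne_zero_complex G
  have h2 : ∑ x : G, ρ.character x * conj (ρ.character x)
      = (Nat.card G : ℂ) * ((n : ℂ) * (n : ℂ)) := by
    rw [Finset.sum_congr rfl (fun x _ => by rw [hchar x])]
    simp [Nat.card_eq_fintype_card]
  rw [h2] at h1
  have h3 : ((n : ℂ) * (n : ℂ)) = 1 := by
    field_simp at h1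
    linear_combination h1
  have h4 : n * n = 1 := by exact_mod_cast h3
  have h5 : n = 1 := by
    rcases Nat.eq_zero_or_pos n with h | h
    · rw [h] at h4; simp at h4
    · nlinarith
  funext x
  rw [hchar x, h5]
  simp

/-- A representation whose kernel is trivial is injective. -/
theorem injective_of_ker_eq_bot {V : Type*} [AddCommGroup V] [Module ℂ V]
    (ρ : Representation ℂ G V) (h : MonoidHom.ker (ρ : G →* _) = ⊥) : Function.Injective ρ := by
  intro x y hxy
  have h1 : x * y⁻¹ ∈ MonoidHom.ker (ρ : G →* _) := by
    rw [MonoidHom.mem_ker, map_mul, hxy, ← map_mul, mul_inv_cancel, map_one]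
  rw [h, Subgroup.mem_bot] at h1
  calc x = (x * y⁻¹) * y := by group
    _ = y := by rw [h1, one_mul]

/-- Irreducible representations of a simple group with non-principal character are faithful. -/
theorem injective_of_isSimpleGroup [Fintype G] [IsSimpleGroup G] {V : Type*} [AddCommGroup V]
    [Module ℂ V] [FiniteDimensional ℂ V] (ρ : Representation ℂ G V) [ρ.IsIrreducible]
    (hne : ρ.character ≠ fun _ => (1 : ℂ)) : Function.Injective ρ := by
  have hK := IsSimpleGroup.eq_bot_or_eq_top_of_normal (MonoidHom.ker (ρ : G →* _))
    (MonoidHom.normal_ker _)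
  rcases hK with hK | hK
  · exact injective_of_ker_eq_bot ρ hK
  · exfalso
    apply hne
    apply character_eq_one_of_forall_eq_one
    intro x
    have : x ∈ MonoidHom.ker (ρ : G →* _) := by rw [hK]; trivial
    exact MonoidHom.mem_ker.mp this

end

end Cfsg.Agent.Lib.Helper6
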