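import Mathlib
import Cfsg.Agent.Lib.Helper6.BrMax5
import Cfsg.Agent.Lib.Helper6.BlkTrans
import Cfsg.Agent.Lib.Helper2.AutIndex
import Cfsg.Agent.S4437

set_option autoImplicit false
set_option linter.unusedSectionVars false
open Cfsg

namespace Cfsg.Agent.Lib.Helper6

section trans

variable {G : Type*} [Group G]

/-- an element of `N_G(P) \ C_G(P)`, `P` a Klein four group, whose cube centralizes `P`
permutes the involutions of `P` transitively -/
theorem klein_transitive_of_cube (P : Subgroup G) (hV : IsKleinFour P) (t : G)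
    (ht : t ∈ Subgroup.normalizer (P : Set G)) (ht3 : t ^ 3 ∈ Subgroup.centralizer (P : Set G))
    (htn : t ∉ Subgroup.centralizer (P : Set G)) :
    ∀ a ∈ P, a ≠ 1 → ∀ b ∈ P, b ≠ 1 → ∃ k : ℕ, t ^ k * a * (t ^ k)⁻¹ = b := by
  have hsq : ∀ z ∈ P, z * z = 1 := by
    intro z hz
    have := IsKleinFour.mul_self (⟨z, hz⟩ : P)
    exact congrArg Subtype.val this
  have hcomm : ∀ y ∈ P, ∀ z ∈ P, y * z = z * y := by
    intro y hy z hz
    have := (IsKleinFour.isMulCommutative (G := ↥P)).is_comm.comm ⟨y, hy⟩ ⟨z, hz⟩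
    exact congrArg Subtype.val this
  have h4 : ∀ x ∈ P, ∀ y ∈ P, ∀ z ∈ P, x ≠ 1 → y ≠ 1 → x ≠ y → z ≠ 1 → z ≠ x → z ≠ y →
      z = x * y := by
    intro x hx y hy z hz hx1 hy1 hxy hz1 hzx hzy
    have := IsKleinFour.eq_mul_of_ne_all (x := (⟨x, hx⟩ : P)) (y := ⟨y, hy⟩) (z := ⟨z, hz⟩)
      (fun h => hx1 (congrArg Subtype.val h)) (fun h => hy1 (congrArg Subtype.val h))
      (fun h => hxy (congrArg Subtype.val h)) (fun h => hz1 (congrArg Subtype.val h))
      (fun h => hzx (congrArg Subtype.val h)) (fun h => hzy (congrArg Subtype.val h))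
    exact congrArg Subtype.val this
  have hα : ∀ z ∈ P, t * z * t⁻¹ ∈ P := fun z hz => (Subgroup.mem_normalizer_iff.mp ht z).mp hz
  have hαinj : ∀ y z : G, t * y * t⁻¹ = t * z * t⁻¹ → y = z := by
    intro y z h
    have : t⁻¹ * (t * y * t⁻¹) * t = t⁻¹ * (t * z * t⁻¹) * t := by rw [h]
    simpa [mul_assoc] using this
  have hα3 : ∀ z ∈ P, t ^ 3 * z * (t ^ 3)⁻¹ = z := by
    intro z hz
    have := Subgroup.mem_centralizer_iff.mp ht3 z hz
    rw [← this, mul_assoc, mul_inv_cancel, mul_one]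
  obtain ⟨u, hu, hut⟩ : ∃ u ∈ P, t * u * t⁻¹ ≠ u := by
    by_contra hcon
    push Not at hcon
    apply htn
    rw [Subgroup.mem_centralizer_iff]
    intro h hh
    have := hcon h hh
    calc h * t = (t * h * t⁻¹) * t := by rw [this]
      _ = t * h := by group
  have hu1 : u ≠ 1 := by
    intro h
    apply hut
    rw [h]
    group
  obtain ⟨v, hvdef⟩ : ∃ v : G, v = t * u * t⁻¹ := ⟨_, rfl⟩
  have hv : v ∈ P := by rw [hvdef]; exact hα u hu
  have hvu : v ≠ u := by rw [hvdef]; exact hut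
  have hv1 : v ≠ 1 := by
    intro h
    apply hu1
    apply hαinj
    rw [← hvdef, h]
    group
  have hαv : t * v * t⁻¹ = u * v := by
    have h1 : t * v * t⁻¹ ∈ P := hα v hv
    have h2 : t * v * t⁻¹ ≠ 1 := by
      intro h
      apply hv1
      apply hαinj
      rw [h]
      group
    have h3 : t * v * t⁻¹ ≠ v := by
      intro h
      apply hvu
      apply hαinj
      rw [h, ← hvdef]
    have h5 : t * v * t⁻¹ ≠ u := by
      intro h
      apply hvu
      have h6 := hα3 u hu
      have h7 : t ^ 3 * u * (t ^ 3)⁻¹ = t * (t * (t * u * t⁻¹) * t⁻¹) * t⁻¹ := by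
        rw [pow_succ, pow_succ, pow_one]
        group
      rw [h7, ← hvdef, h, ← hvdef] at h6
      exact h6
    exact h4 u hu v hv _ h1 hu1 hv1 (Ne.symm hvu) h2 h5 h3
  have hαuv : t * (u * v) * t⁻¹ = u := by
    have : t * (u * v) * t⁻¹ = (t * u * t⁻¹) * (t * v * t⁻¹) := by group
    rw [this, ← hvdef, hαv, hcomm u hu v hv, ← mul_assoc, hsq v hv, one_mul]
  -- the orbit of `u`
  have horb : ∀ a ∈ P, a ≠ 1 → ∃ k : ℕ, k ≤ 3 ∧ t ^ k * u * (t ^ k)⁻¹ = a := by
    intro a ha ha1
    by_cases hau : a = u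
    · exact ⟨0, by norm_num, by rw [hau]; simp⟩
    by_cases hav : a = v
    · exact ⟨1, by norm_num, by rw [hav, hvdef, pow_one]⟩
    · refine ⟨2, by norm_num, ?_⟩
      rw [h4 u hu v hv a ha hu1 hv1 (Ne.symm hvu) ha1 hau hav, ← hαv, hvdef, pow_succ, pow_one]
      group
  have hadd : ∀ (m n : ℕ) (z : G),
      t ^ (m + n) * z * (t ^ (m + n))⁻¹ = t ^ m * (t ^ n * z * (t ^ n)⁻¹) * (t ^ m)⁻¹ := by
    intro m n z
    rw [pow_add]
    group
  intro a ha ha1 b hb hb1
  obtain ⟨ka, hka, hka'⟩ := horb a ha ha1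
  obtain ⟨kb, -, hkb'⟩ := horb b hb hb1
  refine ⟨kb + (3 - ka), ?_⟩
  rw [hadd kb (3 - ka), ← hka', ← hadd (3 - ka) ka, Nat.sub_add_cancel hka, hα3 u hu, hkb']

/-- if the inertial index is `3`, the inertial group permutes the involutions transitively -/
theorem klein_transitive_of_index_three (P : Subgroup G) (hV : IsKleinFour P) (T : Subgroup G)
    (hTN : T ≤ Subgroup.normalizer (P : Set G))
    (h3 : (Subgroup.centralizer (P : Set G)).relIndex T = 3) :
    ∀ a ∈ P, a ≠ 1 → ∀ b ∈ P, b ≠ 1 → ∃ t ∈ T, t * a * t⁻¹ = b := by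
  have hnle : ¬ T ≤ Subgroup.centralizer (P : Set G) := by
    intro h
    rw [Subgroup.relIndex_eq_one.mpr h] at h3
    norm_num at h3
  obtain ⟨t, ht, htn⟩ := SetLike.not_le_iff_exists.mp hnle
  have hTNC : T ≤ Subgroup.normalizer ((Subgroup.centralizer (P : Set G) : Subgroup G) : Set G) := by
    intro g hg
    have hgN := hTN hg
    rw [Subgroup.mem_normalizer_iff] at hgN ⊢
    intro h
    rw [Subgroup.mem_centralizer_iff, Subgroup.mem_centralizer_iff]
    constructor
    · intro hh z hz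
      have hz' : g⁻¹ * z * g ∈ P := by
        have := (hgN (g⁻¹ * z * g)).mpr (by
          have : g * (g⁻¹ * z * g) * g⁻¹ = z := by group
          rw [this]; exact hz)
        exact this
      have h1 := hh _ hz'
      calc z * (g * h * g⁻¹) = g * ((g⁻¹ * z * g) * h) * g⁻¹ := by group
        _ = g * (h * (g⁻¹ * z * g)) * g⁻¹ := by rw [h1]
        _ = g * h * g⁻¹ * z := by group
    · intro hh z hz
      have hz' : g * z * g⁻¹ ∈ P := (hgN z).mp hz
      have h1 := hh _ hz'
      calc z * h = g⁻¹ * ((g * z * g⁻¹) * (g * h * g⁻¹)) * g := by group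
        _ = g⁻¹ * ((g * h * g⁻¹) * (g * z * g⁻¹)) * g := by rw [h1]
        _ = h * z := by group
  haveI : ((Subgroup.centralizer (P : Set G)).subgroupOf T).Normal :=
    Subgroup.normal_subgroupOf_of_le_normalizer hTNC
  have ht3 : t ^ 3 ∈ Subgroup.centralizer (P : Set G) := by
    have h1 := Subgroup.pow_index_mem ((Subgroup.centralizer (P : Set G)).subgroupOf T) ⟨t, ht⟩
    rw [Subgroup.mem_subgroupOf] at h1
    have h2 : ((Subgroup.centralizer (P : Set G)).subgroupOf T).index = 3 := h3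
    rw [h2] at h1
    exact h1
  intro a ha ha1 b hb hb1
  obtain ⟨k, hk⟩ := klein_transitive_of_cube P hV t (hTN ht) ht3 htn a ha ha1 b hb hb1
  exact ⟨t ^ k, Subgroup.pow_mem _ ht k, hk⟩

end trans

section index

variable {G : Type*} [Group G] [Fintype G] [DecidableEq G]
variable {M : Ideal Cfsg.AlgInt}

/-- the inertial index of a `2`-block with a Klein four defect group is `1` or `3` -/
theorem klein_inertial_index (hM : Cfsg.IsPModular 2 M) (B : Set (Cfsg.IrrCharacter G))
    (P : Subgroup G) (hPD : Cfsg.IsDefectGroup 2 M B P) (hV : IsKleinFour P)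
    (c : Set (Cfsg.IrrCharacter (Subgroup.centralizer (P : Set G))))
    (hc : Cfsg.IsInducedBlock M (Subgroup.centralizer (P : Set G)) c B)
    (T : Subgroup G) (hT : ∀ g : G, g ∈ T ↔ (g ∈ Subgroup.normalizer (P : Set G) ∧
      Cfsg.StabilizesBlock (Subgroup.centralizer (P : Set G)) c g)) :
    (Subgroup.centralizer (P : Set G)).relIndex T = 1 ∨
      (Subgroup.centralizer (P : Set G)).relIndex T = 3 := by
  classical
  haveI : Fact (Nat.Prime 2) := ⟨Nat.prime_two⟩
  haveI : Fintype (Subgroup.centralizer (P : Set G)) := Fintype.ofFinite _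
  have hPp : IsPGroup 2 P := IsPGroup.of_card (n := 2) (by rw [IsKleinFour.card_four]; norm_num)
  have hPC : P ≤ Subgroup.centralizer (P : Set G) := by
    intro a ha
    rw [Subgroup.mem_centralizer_iff]
    intro b hb
    have := (IsKleinFour.isMulCommutative (G := ↥P)).is_comm.comm ⟨b, hb⟩ ⟨a, ha⟩
    exact congrArg Subtype.val this
  have hH : Subgroup.centralizer (P : Set G) = P ⊔ Subgroup.centralizer (P : Set G) :=
    (sup_eq_right.mpr hPC).symm
  have hcP := isDefectGroup_of_induced hM P hPp (Subgroup.centralizer (P : Set G)) hPC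
    (Subgroup.centralizer_le_normalizer _) hc hPD
  have hT' : ∀ g : G, g ∈ T ↔ (g ∈ Subgroup.normalizer (P : Set G) ∧
      ∀ θ ∈ c, ∀ θ' : Cfsg.IrrCharacter (Subgroup.centralizer (P : Set G)),
        (∀ h h' : Subgroup.centralizer (P : Set G), (h' : G) = g * h * g⁻¹ →
          (θ' : _ → ℂ) h' = (θ : _ → ℂ) h) → θ' ∈ c) := by
    intro g
    rw [hT]
    constructor
    · rintro ⟨hN, hst⟩
      exact ⟨hN, (cond_iff_mem_stabSub _ c g
        (normalizer_le_normalizer_centralizer P hN)).mpr ((mem_stabSub_iff _ c g).mpr hst)⟩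
    · rintro ⟨hN, hcond⟩
      exact ⟨hN, (mem_stabSub_iff _ c g).mp ((cond_iff_mem_stabSub _ c g
        (normalizer_le_normalizer_centralizer P hN)).mp hcond)⟩
  have hodd := (Cfsg.Agent.S4437.result 2 M hM P hPp (Subgroup.centralizer (P : Set G)) hH c hc.1
    hcP B hc T hT').mp hPD
  have hCT : Subgroup.centralizer (P : Set G) ≤ T := by
    intro g hg
    rw [hT]
    refine ⟨Subgroup.centralizer_le_normalizer _ hg, ?_⟩
    rw [← mem_stabSub_iff]
    exact le_stabSub _ c hg
  have hTN : T ≤ Subgroup.normalizer (P : Set G) := fun g hg => ((hT g).mp hg).1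
  have h6 : (Subgroup.centralizer (P : Set G)).relIndex T ∣ 6 := by
    have h1 := Cfsg.Agent.Lib.Helper2.AutIndex.four_relIndex_dvd_six P
    have h2 := Subgroup.relIndex_mul_relIndex _ _ _ hCT hTN
    exact Dvd.dvd.trans ⟨_, h2.symm⟩ h1
  have hle := Nat.le_of_dvd (by norm_num) h6
  obtain ⟨e, he⟩ : ∃ e : ℕ, e = (Subgroup.centralizer (P : Set G)).relIndex T := ⟨_, rfl⟩
  rw [← he] at h6 hle hodd ⊢
  interval_cases e <;> omega

end index

end Cfsg.Agent.Lib.Helper6
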