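import Mathlib
import Cfsg.Agent.Lib.Helper6.BlkDefectOne
import Cfsg.Agent.Lib.Helper6.BlkSubNorm
import Cfsg.Agent.Lib.Helper6.BlkSubsection
import Cfsg.Agent.S4675

set_option autoImplicit false
set_option linter.unusedSectionVars false
open Cfsg

namespace Cfsg.Agent.Lib.Helper6

open scoped ComplexConjugate

section centralsign

variable {H : Type*} [Group H] [Fintype H] [DecidableEq H]

/-- an irreducible character takes a central involution to `± ψ 1` -/
theorem exists_sign_central_involution (z : H) (hzc : ∀ h : H, z * h = h * z) (hzz : z * z = 1)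
    (ψ : Cfsg.IrrCharacter H) :
    ∃ ε : ℤ, (ε = 1 ∨ ε = -1) ∧ ∀ c : H, (ψ : H → ℂ) (z * c) = (ε : ℂ) * (ψ : H → ℂ) c := by
  have h3 : (ψ : H → ℂ) 1 ≠ 0 := by
    rw [IsCharacter.apply_one_eq_charDegree (IsIrrCharacter.isCharacter ψ.2)]
    exact_mod_cast (IsIrrCharacter.charDegree_pos ψ.2).ne'
  have h1 := IsIrrCharacter.apply_central_mul ψ.2 hzc z
  rw [hzz] at h1
  have h2 : ((ψ : H → ℂ) z / (ψ : H → ℂ) 1) ^ 2 = 1 := by
    field_simp
    field_simp at h1
    rw [← h1]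
  have h4 : (ψ : H → ℂ) z / (ψ : H → ℂ) 1 = 1 ∨ (ψ : H → ℂ) z / (ψ : H → ℂ) 1 = -1 :=
    sq_eq_one_iff.mp h2
  rcases h4 with h4 | h4
  · refine ⟨1, Or.inl rfl, ?_⟩
    intro c
    rw [IsIrrCharacter.apply_central_mul ψ.2 hzc c, mul_div_right_comm, h4]
    push_cast
    ring
  · refine ⟨-1, Or.inr rfl, ?_⟩
    intro c
    rw [IsIrrCharacter.apply_central_mul ψ.2 hzc c, mul_div_right_comm, h4]
    push_cast
    ring

end centralsign

section lemmaK

variable {G : Type*} [Group G] [Fintype G] [DecidableEq G]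
variable {M : Ideal Cfsg.AlgInt}

/-- **generalized decomposition numbers along an involution**: if the block `b` of `C_G(u)`
induces `B` and has a single Brauer character, there are integers `d χ` with `Σ_{χ ∈ B} d χ ^ 2`
the order of a defect group of `b`, and `d χ ≠ 0` for `χ` of height zero -/
theorem involution_decomposition_numbers (hM : Cfsg.IsPModular 2 M) (u : G) (hu : orderOf u = 2)
    (H : Subgroup G) (hH : H = Subgroup.centralizer ({u} : Set G))
    (B : Set (Cfsg.IrrCharacter G)) (b : Set (Cfsg.IrrCharacter H))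
    (hind : Cfsg.IsInducedBlock M H b B) (hl : Cfsg.blockRank 2 b = 1)
    (D : Subgroup H) (hD : Cfsg.IsDefectGroup 2 M b D) :
    ∃ d : Cfsg.IrrCharacter G → ℤ, ∑ᶠ χ ∈ B, d χ ^ 2 = (Nat.card D : ℤ) ∧
      ∀ χ ∈ B, Cfsg.blockHeight 2 B (χ : G → ℂ) = 0 → d χ ≠ 0 := by
  classical
  haveI : Fact (Nat.Prime 2) := ⟨Nat.prime_two⟩
  haveI : Fintype H := Fintype.ofFinite _
  haveI : Fintype (Cfsg.IrrCharacter G) := Fintype.ofFinite _
  haveI : Fintype (Cfsg.IrrCharacter H) := Fintype.ofFinite _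
  have huel : ∃ k : ℕ, orderOf u = 2 ^ k := ⟨1, by rw [hu, pow_one]⟩
  have huH : u ∈ H := by rw [hH, Subgroup.mem_centralizer_singleton_iff]
  have huu : u * u = 1 := by rw [← sq, ← hu, pow_orderOf_eq_one]
  obtain ⟨z, hz⟩ : ∃ z : H, z = ⟨u, huH⟩ := ⟨_, rfl⟩
  have hzu : (z : G) = u := by rw [hz]
  have hzc : ∀ h : H, z * h = h * z := by
    intro h
    apply Subtype.ext
    rw [Subgroup.coe_mul, Subgroup.coe_mul, hzu]
    have h1 : (h : G) ∈ Subgroup.centralizer ({u} : Set G) := hH ▸ h.2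
    rw [Subgroup.mem_centralizer_singleton_iff] at h1
    exact h1.symm
  have hzz : z * z = 1 := by
    apply Subtype.ext
    rw [Subgroup.coe_mul, hzu, huu, Subgroup.coe_one]
  have hzeq : ∀ w : H, (w : G) = u → w = z := by
    intro w hw
    apply Subtype.ext
    rw [hw, hzu]
  obtain ⟨φ, d', -, hd', hsum'⟩ := Cfsg.Agent.S4675.result 2 M hM b hind.1 D hD hl
  choose ε hε1 hε using fun ψ : Cfsg.IrrCharacter H => exists_sign_central_involution z hzc hzz ψ
  have hmult : ∀ (χ : Cfsg.IrrCharacter G) (ψ : Cfsg.IrrCharacter H), ∃ n : ℕ,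
      Cfsg.classInner (fun h : H => (χ : G → ℂ) h) (ψ : H → ℂ) = n := fun χ ψ =>
    IsCharacter.classInner_nat (IsCharacter.restrict H (IsIrrCharacter.isCharacter χ.2))
      (IsIrrCharacter.isCharacter ψ.2)
  choose m hm using hmult
  obtain ⟨dfun, hdfun⟩ : ∃ dfun : Cfsg.IrrCharacter G → ℤ, dfun = fun χ =>
      ∑ ψ ∈ Finset.univ.filter (· ∈ b), ε ψ * (m χ ψ : ℤ) * (d' ψ : ℤ) := ⟨_, rfl⟩
  have hεconj : ∀ ψ : Cfsg.IrrCharacter H, conj ((ε ψ : ℤ) : ℂ) = ((ε ψ : ℤ) : ℂ) := by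
    intro ψ
    exact map_intCast _ _
  have hkey : ∀ (χ : Cfsg.IrrCharacter G) (s : H), ¬ 2 ∣ orderOf s →
      Cfsg.blockPart b (fun c : H => (χ : G → ℂ) (u * (c : G))) s = ((dfun χ : ℤ) : ℂ) * φ s := by
    intro χ s hs
    rw [blockPart_eq_finset_sum, hdfun]
    push_cast
    rw [Finset.sum_mul]
    apply Finset.sum_congr rfl
    intro ψ hψ
    have hψb := (Finset.mem_filter.mp hψ).2
    rw [classInner_shift_central_involution u hu H hH (χ : G → ℂ) ψ (ε ψ) (hεconj ψ)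
      (fun c w hw => by rw [hzeq w hw]; exact hε ψ c), hm, hd' ψ hψb s hs]
    ring
  obtain ⟨Φ, hΦ⟩ : ∃ Φ : ℂ, Φ = ∑ s ∈ Finset.univ.filter (fun s : H => ¬ 2 ∣ orderOf s),
      φ s * conj (φ s) := ⟨_, rfl⟩
  -- the local sum
  obtain ⟨ξ₀, hbξ⟩ := hind.1
  have hloc : (Nat.card H : ℂ) = (Nat.card D : ℂ) * Φ := by
    have h1 := blockRank_mul_card (p := 2) hM ξ₀
    rw [← hbξ, hl, Nat.cast_one, mul_one] at h1
    rw [h1, hΦ, Finset.mul_sum]
    apply Finset.sum_congr rfl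
    intro y hy
    have hy' := (Finset.mem_filter.mp hy).2
    rw [finsum_mem_eq_sum_filter_lib]
    have h2 : ∀ ψ ∈ Finset.univ.filter (· ∈ b), (ψ : H → ℂ) y * conj ((ψ : H → ℂ) y)
        = ((d' ψ ^ 2 : ℕ) : ℂ) * (φ y * conj (φ y)) := by
      intro ψ hψ
      have hψb := (Finset.mem_filter.mp hψ).2
      rw [hd' ψ hψb y hy', map_mul, Complex.conj_natCast]
      push_cast
      ring
    rw [Finset.sum_congr rfl h2, ← Finset.sum_mul, ← hsum', finsum_mem_eq_sum_filter_lib]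
    push_cast
    rfl
  -- the global sum
  have hglob : (Nat.card H : ℂ) = (∑ χ ∈ Finset.univ.filter (· ∈ B), ((dfun χ : ℤ) : ℂ) ^ 2) * Φ := by
    have h1 := subsection_norm_sum (p := 2) hM u huel H hH B b hind
    rw [hl, Nat.cast_one, mul_one] at h1
    rw [← h1, finsum_mem_eq_sum_filter_lib, Finset.sum_mul]
    apply Finset.sum_congr rfl
    intro χ _
    rw [finsum_eq_sum_of_fintype, hΦ, Finset.mul_sum, Finset.sum_filter]
    apply Finset.sum_congr rfl
    intro s _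
    rw [blockPart_shift_inv u H hH b χ s]
    unfold Cfsg.pRegularPart Cfsg.IsPRegular
    by_cases hs : 2 ∣ orderOf s
    · rw [if_neg (not_not.mpr hs), if_neg (not_not.mpr hs), zero_mul]
    · rw [if_pos hs, if_pos hs, hkey χ s hs, map_mul, map_intCast]
      ring
  have hH0 : (Nat.card H : ℂ) ≠ 0 := card_ne_zero_complex H
  have hΦ0 : Φ ≠ 0 := by
    intro h
    rw [h, mul_zero] at hloc
    exact hH0 hloc
  refine ⟨dfun, ?_, ?_⟩
  · rw [finsum_mem_eq_sum_filter_lib]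
    have h1 := mul_right_cancel₀ hΦ0 (hglob.symm.trans hloc)
    exact_mod_cast h1
  · intro χ hχ h0 hzero
    obtain ⟨y, hy, hne⟩ := subsection_nonvanishing hM u huel H hH hind χ hχ h0
    apply hne
    rw [hkey χ y hy, hzero, Int.cast_zero, zero_mul]

end lemmaK

end Cfsg.Agent.Lib.Helper6
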