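import Mathlib
import Cfsg.Agent.Lib.Helper6.BlkDefectOne

set_option autoImplicit false
set_option linter.unusedSectionVars false
open Cfsg

namespace Cfsg.Agent.Lib.Helper6

section reps

variable {G : Type*} [Group G] [Fintype G] [DecidableEq G]

/-- representatives of the classes of `p`-elements containing a prescribed set of pairwise
non-conjugate `p`-elements -/
theorem exists_pElement_reps_of_finset (p : ℕ) (S : Finset G)
    (hS : ∀ a ∈ S, ∃ k : ℕ, orderOf a = p ^ k)
    (hpair : ∀ a ∈ S, ∀ b ∈ S, IsConj a b → a = b) :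
    ∃ X : Finset G, S ⊆ X ∧ (∀ x ∈ X, ∃ k : ℕ, orderOf x = p ^ k) ∧
      ∀ g : G, (∃ k : ℕ, orderOf g = p ^ k) → ∃! x, x ∈ X ∧ IsConj g x := by
  classical
  let rep : G → G := fun g => if h : ∃ a ∈ S, IsConj g a then h.choose
    else Quotient.out (ConjClasses.mk g)
  have hrep1 : ∀ g : G, IsConj g (rep g) := by
    intro g
    simp only [rep]
    split_ifs with h1
    · exact h1.choose_spec.2
    · have : ConjClasses.mk (Quotient.out (ConjClasses.mk g)) = ConjClasses.mk g :=
        Quotient.out_eq _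
      exact (ConjClasses.mk_eq_mk_iff_isConj.mp this).symm
  have hrep2 : ∀ g h : G, IsConj g h → rep g = rep h := by
    intro g h hgh
    simp only [rep]
    by_cases h1 : ∃ a ∈ S, IsConj g a
    · have h2 : ∃ a ∈ S, IsConj h a := by
        obtain ⟨a, ha, hga⟩ := h1
        exact ⟨a, ha, hgh.symm.trans hga⟩
      rw [dif_pos h1, dif_pos h2]
      apply hpair _ h1.choose_spec.1 _ h2.choose_spec.1
      exact h1.choose_spec.2.symm.trans (hgh.trans h2.choose_spec.2)
    · have h2 : ¬ ∃ a ∈ S, IsConj h a := by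
        rintro ⟨a, ha, hga⟩
        exact h1 ⟨a, ha, hgh.trans hga⟩
      rw [dif_neg h1, dif_neg h2]
      have e3 : ConjClasses.mk g = ConjClasses.mk h := ConjClasses.mk_eq_mk_iff_isConj.mpr hgh
      rw [e3]
  have hord : ∀ g h : G, IsConj g h → orderOf g = orderOf h := by
    intro g h hgh
    obtain ⟨c, hc⟩ := isConj_iff.mp hgh
    rw [← hc, orderOf_conj_eq]
  refine ⟨(Finset.univ.filter (fun g : G => ∃ k : ℕ, orderOf g = p ^ k)).image rep, ?_, ?_, ?_⟩
  · intro a ha
    rw [Finset.mem_image]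
    refine ⟨a, by simp only [Finset.mem_filter, Finset.mem_univ, true_and]; exact hS a ha, ?_⟩
    have h1 : ∃ a' ∈ S, IsConj a a' := ⟨a, ha, IsConj.refl a⟩
    simp only [rep]
    rw [dif_pos h1]
    exact (hpair a ha _ h1.choose_spec.1 h1.choose_spec.2).symm
  · intro x hx
    obtain ⟨g, hg, rfl⟩ := Finset.mem_image.mp hx
    simp only [Finset.mem_filter, Finset.mem_univ, true_and] at hg
    obtain ⟨k, hk⟩ := hg
    exact ⟨k, by rw [← hord g (rep g) (hrep1 g), hk]⟩
  · intro g hg
    refine ⟨rep g, ⟨?_, hrep1 g⟩, ?_⟩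
    · rw [Finset.mem_image]
      exact ⟨g, by simp only [Finset.mem_filter, Finset.mem_univ, true_and]; exact hg, rfl⟩
    · rintro x' ⟨hx', hgx'⟩
      obtain ⟨g', _, rfl⟩ := Finset.mem_image.mp hx'
      have h1 : IsConj g g' := hgx'.trans (hrep1 g').symm
      rw [hrep2 g g' h1]

end reps

end Cfsg.Agent.Lib.Helper6
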