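import Mathlib
import Cfsg.Agent.Lib.Helper6.KfDecomp
import Cfsg.Agent.Lib.Helper6.KfTop
import Cfsg.Agent.Lib.Helper6.KfReps
import Cfsg.Agent.S4710
import Cfsg.Agent.S4669
import Cfsg.Agent.S0912

set_option autoImplicit false
set_option linter.unusedSectionVars false
open Cfsg

namespace Cfsg.Agent.Lib.Helper6

open scoped ComplexConjugate

section secsum

variable {G : Type*} [Group G] [Fintype G] [DecidableEq G]
variable {p : ℕ} {M : Ideal Cfsg.AlgInt}

/-- the number of blocks of `C_G(x)` inducing `B` in a given finite family is at most the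
contribution of the section of `x` -/
theorem card_le_sectionSum (hM : Cfsg.IsPModular p M) (x : G) (B : Set (Cfsg.IrrCharacter G))
    (T : Finset (Set (Cfsg.IrrCharacter ↥(Subgroup.centralizer ({x} : Set G)))))
    (hT : ∀ b ∈ T, Cfsg.IsInducedBlock M (Subgroup.centralizer ({x} : Set G)) b B) :
    T.card ≤ ∑ᶠ b ∈ {b : Set (Cfsg.IrrCharacter ↥(Subgroup.centralizer ({x} : Set G))) |
      Cfsg.IsInducedBlock M (Subgroup.centralizer ({x} : Set G)) b B}, Cfsg.blockRank p b := by
  classical
  haveI : Fintype ↥(Subgroup.centralizer ({x} : Set G)) := Fintype.ofFinite _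
  haveI : Fintype (Set (Cfsg.IrrCharacter ↥(Subgroup.centralizer ({x} : Set G)))) :=
    Fintype.ofFinite _
  rw [finsum_mem_eq_sum_filter_lib, Finset.card_eq_sum_ones]
  refine le_trans (Finset.sum_le_sum (g := fun b => Cfsg.blockRank p b) ?_) ?_
  · intro b hb
    exact blockRank_pos hM b (hT b hb).1
  · apply Finset.sum_le_sum_of_subset
    intro b hb
    simp only [Finset.mem_filter, Finset.mem_univ, true_and, Set.mem_ofPred_eq]
    exact hT b hb

/-- the rank of a block of `C_G(x)` inducing `B` is at most the contribution of the section -/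
theorem blockRank_le_sectionSum (x : G) (B : Set (Cfsg.IrrCharacter G))
    (b : Set (Cfsg.IrrCharacter ↥(Subgroup.centralizer ({x} : Set G))))
    (hb : Cfsg.IsInducedBlock M (Subgroup.centralizer ({x} : Set G)) b B) :
    Cfsg.blockRank p b ≤
      ∑ᶠ b ∈ {b : Set (Cfsg.IrrCharacter ↥(Subgroup.centralizer ({x} : Set G))) |
      Cfsg.IsInducedBlock M (Subgroup.centralizer ({x} : Set G)) b B}, Cfsg.blockRank p b := by
  classical
  haveI : Fintype ↥(Subgroup.centralizer ({x} : Set G)) := Fintype.ofFinite _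
  haveI : Fintype (Set (Cfsg.IrrCharacter ↥(Subgroup.centralizer ({x} : Set G)))) :=
    Fintype.ofFinite _
  rw [finsum_mem_eq_sum_filter_lib]
  apply Finset.single_le_sum (f := fun b => Cfsg.blockRank p b) (fun _ _ => Nat.zero_le _)
  simp only [Finset.mem_filter, Finset.mem_univ, true_and, Set.mem_ofPred_eq]
  exact hb

end secsum

section four

variable {G : Type*} [Group G] [Fintype G] [DecidableEq G]
variable {M : Ideal Cfsg.AlgInt}

/-- a `2`-block of defect two with an involution subsection of rank one and defect two has one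
or four characters -/
theorem card_block_one_or_four (hM : Cfsg.IsPModular 2 M) (u : G) (hu : orderOf u = 2)
    (H : Subgroup G) (hH : H = Subgroup.centralizer ({u} : Set G))
    (B : Set (Cfsg.IrrCharacter G)) (b : Set (Cfsg.IrrCharacter H))
    (hind : Cfsg.IsInducedBlock M H b B) (hl : Cfsg.blockRank 2 b = 1)
    (D : Subgroup H) (hD : Cfsg.IsDefectGroup 2 M b D) (hD4 : Nat.card D = 4)
    (hdef : Cfsg.blockDefect 2 B = 2) : Nat.card B = 1 ∨ Nat.card B = 4 := by
  classical
  haveI : Fact (Nat.Prime 2) := ⟨Nat.prime_two⟩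
  haveI : Fintype (Cfsg.IrrCharacter G) := Fintype.ofFinite _
  obtain ⟨d, hsum, hne⟩ := involution_decomposition_numbers hM u hu H hH B b hind hl D hD
  have hB := hind.2.1
  have h0 : ∀ χ ∈ B, Cfsg.blockHeight 2 B (χ : G → ℂ) = 0 := by
    intro χ hχ
    have := ((Cfsg.Agent.S4710.result 2 M hM B hB 2 hdef).2 χ hχ).2 (le_refl 2)
    omega
  rw [finsum_mem_eq_sum_filter_lib, hD4] at hsum
  have h44 : ((4 : ℕ) : ℤ) = 4 := by norm_num
  rw [h44] at hsum
  have hcard : Nat.card B = (Finset.univ.filter (· ∈ B)).card := by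
    rw [Nat.card_eq_fintype_card, Fintype.card_subtype]
  rw [hcard]
  obtain ⟨S, hS⟩ : ∃ S : Finset (Cfsg.IrrCharacter G), S = Finset.univ.filter (· ∈ B) := ⟨_, rfl⟩
  rw [← hS] at hsum ⊢
  have hmem : ∀ χ ∈ S, d χ ≠ 0 := by
    intro χ hχ
    rw [hS] at hχ
    have hχB := (Finset.mem_filter.mp hχ).2
    exact hne χ hχB (h0 χ hχB)
  have hge1 : ∀ χ ∈ S, (1 : ℤ) ≤ d χ ^ 2 := by
    intro χ hχ
    have := hmem χ hχ
    have h2 : 0 < d χ ^ 2 := by positivity
    omega
  by_cases hbig : ∃ χ ∈ S, 4 ≤ d χ ^ 2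
  · left
    obtain ⟨χ, hχ, h4⟩ := hbig
    rw [← Finset.add_sum_erase S _ hχ] at hsum
    have h5 : ((S.erase χ).card : ℤ) ≤ ∑ x ∈ S.erase χ, d x ^ 2 := by
      rw [Finset.card_eq_sum_ones]
      push_cast
      apply Finset.sum_le_sum
      intro x hx
      exact hge1 x (Finset.mem_of_mem_erase hx)
    have h6 : (S.erase χ).card = 0 := by
      have : ((S.erase χ).card : ℤ) ≤ 0 := by linarith
      omega
    rw [Finset.card_erase_of_mem hχ] at h6
    have h7 : 0 < S.card := Finset.card_pos.mpr ⟨χ, hχ⟩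
    omega
  · right
    push Not at hbig
    have hall : ∀ χ ∈ S, d χ ^ 2 = 1 := by
      intro χ hχ
      have h1 := hbig χ hχ
      have h2 := hge1 χ hχ
      have h3 : -2 < d χ := by nlinarith
      have h4 : d χ < 2 := by nlinarith
      have h5 := hmem χ hχ
      have h6 : d χ = 1 ∨ d χ = -1 := by omega
      rcases h6 with h6 | h6 <;> rw [h6] <;> norm_num
    rw [Finset.sum_congr rfl hall, Finset.sum_const, nsmul_eq_mul, mul_one] at hsum
    exact_mod_cast hsum

end four

end Cfsg.Agent.Lib.Helper6
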