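import Mathlib
import Cfsg.Agent.Lib.Helper6.KfCount
import Cfsg.Agent.S0908

set_option autoImplicit false
set_option linter.unusedSectionVars false
open Cfsg

namespace Cfsg.Agent.Lib.Helper6

open scoped ComplexConjugate

section central

variable {K : Type*} [Group K] [Fintype K] [DecidableEq K]
variable {M : Ideal Cfsg.AlgInt}

/-- a `2`-block with a Klein four defect group `{1, u, v, uv}` containing a central involution
`v` of the group has a single irreducible Brauer character -/
theorem blockRank_eq_one_of_central_involution (hM : Cfsg.IsPModular 2 M)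
    (b : Set (Cfsg.IrrCharacter K)) (hb : Cfsg.IsPBlock M b)
    (D : Subgroup K) (hD : Cfsg.IsDefectGroup 2 M b D) (hD4 : Nat.card D = 4)
    (v u : K) (hv : v ∈ D) (hu : u ∈ D) (hv2 : orderOf v = 2) (hu2 : orderOf u = 2) (huv : u ≠ v)
    (hvc : ∀ k : K, v * k = k * v)
    (hDel : ∀ x ∈ D, x = 1 ∨ x = u ∨ x = v ∨ x = u * v) :
    Cfsg.blockRank 2 b = 1 := by
  classical
  haveI : Fact (Nat.Prime 2) := ⟨Nat.prime_two⟩
  have hu1 : u ≠ 1 := by
    intro h
    rw [h, orderOf_one] at hu2
    norm_num at hu2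
  have hv1 : v ≠ 1 := by
    intro h
    rw [h, orderOf_one] at hv2
    norm_num at hv2
  have hdef : Cfsg.blockDefect 2 b = 2 := by
    have h := Cfsg.Agent.S0908.result 2 M hM b hb D hD
    rw [hD4] at h
    have h2 : 2 ^ 2 = 2 ^ Cfsg.blockDefect 2 b := by rw [← h]; norm_num
    exact (Nat.pow_right_injective (le_refl 2) h2).symm
  have huZ : ∀ w ∈ D, w * u = u * w := by
    intro w hw
    rcases hDel w hw with rfl | rfl | rfl | rfl
    · simp
    · rfl
    · exact hvc u
    · rw [mul_assoc, hvc u, ← mul_assoc]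
  obtain ⟨β, hβind, hβdef⟩ := exists_induced_block_centralizer_of_center hM b hb D hD u hu huZ
  have hβdef' : Cfsg.blockDefect 2 β = 2 := by
    have h1 := IsInducedBlock.blockDefect_le hM _ hβind
    omega
  obtain ⟨D', hD'⟩ := exists_isDefectGroup hM β hβind.1
  have hD'4 : Nat.card D' = 4 := by
    rw [Cfsg.Agent.S0908.result 2 M hM β hβind.1 D' hD', hβdef']
    norm_num
  have hDC : D ≤ Subgroup.centralizer ({u} : Set K) := by
    intro w hw
    rw [Subgroup.mem_centralizer_singleton_iff]
    exact huZ w hw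
  obtain ⟨Z, hZ⟩ : ∃ Z : Subgroup ↥(Subgroup.centralizer ({u} : Set K)),
      Z = D.subgroupOf (Subgroup.centralizer ({u} : Set K)) := ⟨_, rfl⟩
  have hZcen : Z ≤ Subgroup.center ↥(Subgroup.centralizer ({u} : Set K)) := by
    intro z hz
    rw [hZ, Subgroup.mem_subgroupOf] at hz
    rw [Subgroup.mem_center_iff]
    intro c
    apply Subtype.ext
    rw [Subgroup.coe_mul, Subgroup.coe_mul]
    have hc : (c : K) * u = u * (c : K) := Subgroup.mem_centralizer_singleton_iff.mp c.2
    rcases hDel _ hz with h | h | h | h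
    · rw [h, mul_one, one_mul]
    · rw [h, hc]
    · rw [h, hvc]
    · rw [h, ← mul_assoc, hc, mul_assoc, ← hvc, ← mul_assoc]
  have hZcard : Nat.card Z = 4 := by
    rw [hZ, ← hD4]
    exact Nat.card_congr (Subgroup.subgroupOfEquivOfLe hDC).toEquiv
  have hZn : Z.Normal := by
    refine ⟨fun n hn g => ?_⟩
    have h1 := Subgroup.mem_center_iff.mp (hZcen hn) g
    rw [h1, mul_assoc, mul_inv_cancel, mul_one]
    exact hn
  have hZp : IsPGroup 2 Z := IsPGroup.of_card (n := 2) (by rw [hZcard]; norm_num)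
  have hZD' : Z ≤ D' :=
    le_trans (le_sSup (show Z ∈ {N : Subgroup ↥(Subgroup.centralizer ({u} : Set K)) |
      N.Normal ∧ IsPGroup 2 N} from ⟨hZn, hZp⟩))
      (Cfsg.Agent.S0912.result 2 M hM β hβind.1 D' hD')
  have hZeq : Z = D' := Subgroup.eq_of_le_of_card_ge hZD' (by rw [hZcard, hD'4])
  haveI : Fintype ↥(Subgroup.centralizer ({u} : Set K)) := Fintype.ofFinite _
  have hβl : Cfsg.blockRank 2 β = 1 :=
    Cfsg.Agent.S4669.result 2 M hM β hβind.1 D' hD' (hZeq ▸ hZcen)
  have hk4 : Nat.card b ≤ 4 := by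
    rcases card_block_one_or_four hM u hu2 _ rfl b β hβind hβl D' hD' hD'4 hdef with h | h <;>
      omega
  -- the representatives
  have hv1' : (1 : K) ≠ v := Ne.symm hv1
  have hu1' : (1 : K) ≠ u := Ne.symm hu1
  have hvu : v ≠ u := Ne.symm huv
  have hconj_central : ∀ a : K, IsConj v a → v = a := by
    intro a h
    obtain ⟨c, hc⟩ := isConj_iff.mp h
    rw [← hc, ← hvc c, mul_assoc, mul_inv_cancel, mul_one]
  obtain ⟨X, hSX, hX, hXrep⟩ := exists_pElement_reps_of_finset 2 ({1, v, u} : Finset K)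
    (by
      intro a ha
      simp only [Finset.mem_insert, Finset.mem_singleton] at ha
      rcases ha with rfl | rfl | rfl
      · exact ⟨0, by rw [orderOf_one, pow_zero]⟩
      · exact ⟨1, by rw [hv2, pow_one]⟩
      · exact ⟨1, by rw [hu2, pow_one]⟩)
    (by
      intro a ha c hc hac
      simp only [Finset.mem_insert, Finset.mem_singleton] at ha hc
      rcases ha with rfl | rfl | rfl
      · exact (isConj_one_right.mp hac).symm
      · exact hconj_central c hac
      · rcases hc with rfl | rfl | rfl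
        · exact isConj_one_left.mp hac
        · exact (hconj_central a hac.symm).symm
        · rfl)
  have hcount := card_block_eq_sum_sections hM b hb X hX hXrep
  obtain ⟨f, hf⟩ : ∃ f : K → ℕ, f = fun x => ∑ᶠ b' ∈ {b' : Set (Cfsg.IrrCharacter
        ↥(Subgroup.centralizer ({x} : Set K))) |
          Cfsg.IsInducedBlock M (Subgroup.centralizer ({x} : Set K)) b' b},
      Cfsg.blockRank 2 b' := ⟨_, rfl⟩
  have hcount' : Nat.card b = ∑ x ∈ X, f x := by rw [hcount, hf]
  have hsplit : f 1 + (f v + f u) ≤ ∑ x ∈ X, f x := by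
    have h1 : ∑ x ∈ ({1, v, u} : Finset K), f x ≤ ∑ x ∈ X, f x :=
      Finset.sum_le_sum_of_subset hSX
    rw [Finset.sum_insert (by simp [hv1', hu1']), Finset.sum_insert (by simp [hvu]),
      Finset.sum_singleton] at h1
    exact h1
  have hf1 : Cfsg.blockRank 2 b ≤ f 1 := by
    obtain ⟨b₁, hb₁, hr⟩ := exists_induced_of_central (p := 2) hM (1 : K) (by simp) b hb
    rw [hf, ← hr]
    exact blockRank_le_sectionSum 1 b b₁ hb₁
  have hfv : Cfsg.blockRank 2 b ≤ f v := by
    obtain ⟨b₁, hb₁, hr⟩ := exists_induced_of_central (p := 2) hM v hvc b hb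
    rw [hf, ← hr]
    exact blockRank_le_sectionSum v b b₁ hb₁
  have hfu : 1 ≤ f u := by
    rw [hf]
    exact le_trans (blockRank_pos hM β hβind.1) (blockRank_le_sectionSum u b β hβind)
  have hpos := blockRank_pos hM b hb
  omega

end central

end Cfsg.Agent.Lib.Helper6
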