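import Mathlib
import Cfsg.Agent.Lib.Helper6.KfCentral
import Cfsg.Agent.Lib.Helper6.IndCentral
import Cfsg.Agent.Lib.Helper6.BlkDefConj

set_option autoImplicit false
set_option linter.unusedSectionVars false
open Cfsg

namespace Cfsg.Agent.Lib.Helper6

open scoped ComplexConjugate

/-- Klein four groups are closed under isomorphism -/
theorem isKleinFour_of_mulEquiv {A A' : Type*} [Group A] [Group A'] (e : A ≃* A')
    [IsKleinFour A] : IsKleinFour A' where
  card_four := by rw [← Nat.card_congr e.toEquiv]; exact IsKleinFour.card_four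
  exponent_two := by rw [← Monoid.exponent_eq_of_mulEquiv e]; exact IsKleinFour.exponent_two

section sub

variable {G : Type*} [Group G] [Fintype G] [DecidableEq G]
variable {p : ℕ} {M : Ideal Cfsg.AlgInt}

/-- the defect groups of a subsection `(x, b)` of a block with abelian defect groups are defect
groups of the block, and contain `x` -/
theorem subsection_defect_of_abelian (hM : Cfsg.IsPModular p M) [Fact p.Prime]
    (B : Set (Cfsg.IrrCharacter G)) (P : Subgroup G) (hPD : Cfsg.IsDefectGroup p M B P)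
    (hPab : ∀ x ∈ P, ∀ y ∈ P, x * y = y * x)
    (x : G) (hx : ∃ k : ℕ, orderOf x = p ^ k)
    (b : Set (Cfsg.IrrCharacter (Subgroup.centralizer ({x} : Set G))))
    (hb : Cfsg.IsInducedBlock M (Subgroup.centralizer ({x} : Set G)) b B)
    (D₀ : Subgroup (Subgroup.centralizer ({x} : Set G))) (hD₀ : Cfsg.IsDefectGroup p M b D₀) :
    (∀ hxH : x ∈ Subgroup.centralizer ({x} : Set G), (⟨x, hxH⟩ : Subgroup.centralizer ({x} : Set G)) ∈ D₀) ∧
      Cfsg.IsDefectGroup p M B (D₀.map (Subgroup.centralizer ({x} : Set G)).subtype) := by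
  classical
  have hp : p.Prime := hM.1
  have hxH : x ∈ Subgroup.centralizer ({x} : Set G) := by
    rw [Subgroup.mem_centralizer_singleton_iff]
  obtain ⟨x', hx'⟩ : ∃ x' : Subgroup.centralizer ({x} : Set G), x' = ⟨x, hxH⟩ := ⟨_, rfl⟩
  have hx'c : ∀ k : Subgroup.centralizer ({x} : Set G), x' * k = k * x' := by
    intro k
    apply Subtype.ext
    rw [Subgroup.coe_mul, Subgroup.coe_mul, hx']
    exact (Subgroup.mem_centralizer_singleton_iff.mp k.2).symm
  have hZn : (Subgroup.zpowers x').Normal := by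
    refine ⟨fun n hn g => ?_⟩
    obtain ⟨k, rfl⟩ := Subgroup.mem_zpowers_iff.mp hn
    have hc : Commute x' g := hx'c g
    have h1 : g * x' ^ k * g⁻¹ = x' ^ k := by
      rw [← (hc.zpow_left k).eq, mul_assoc, mul_inv_cancel, mul_one]
    rw [h1]
    exact Subgroup.zpow_mem_zpowers x' k
  have hZp : IsPGroup p (Subgroup.zpowers x') := by
    obtain ⟨k, hk⟩ := hx
    apply IsPGroup.of_card (n := k)
    rw [Nat.card_zpowers, ← hk, hx', ← Subgroup.orderOf_coe]
  have hZD : Subgroup.zpowers x' ≤ D₀ :=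
    le_trans (le_sSup (show Subgroup.zpowers x' ∈ {N : Subgroup ↥(Subgroup.centralizer ({x} : Set G)) |
      N.Normal ∧ IsPGroup p N} from ⟨hZn, hZp⟩))
      (Cfsg.Agent.S0912.result p M hM b hb.1 D₀ hD₀)
  have hx'D : x' ∈ D₀ := hZD (Subgroup.mem_zpowers x')
  have hC : Subgroup.centralizer ((D₀.map (Subgroup.centralizer ({x} : Set G)).subtype :
      Subgroup G) : Set G) ≤ Subgroup.centralizer ({x} : Set G) := by
    apply Subgroup.centralizer_le
    intro z hz
    rw [Set.mem_singleton_iff] at hz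
    rw [hz]
    exact ⟨x', hx'D, by rw [hx']; rfl⟩
  have hcomm : IsMulCommutative ↥P := ⟨⟨fun a b => Subtype.ext (hPab a a.2 b b.2)⟩⟩
  refine ⟨fun h => by rw [hx'] at hx'D; exact hx'D, ?_⟩
  exact ((induced_block_nested hM _ b hb.1 D₀ hD₀ hC).2 B hb).2 P hPD hcomm

end sub

section klein

variable {G : Type*} [Group G] [Fintype G] [DecidableEq G]
variable {M : Ideal Cfsg.AlgInt}

/-- every nontrivial subsection of a `2`-block with a Klein four defect group has a single
irreducible Brauer character, and its element is conjugate into the defect group -/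
theorem subsection_klein (hM : Cfsg.IsPModular 2 M)
    (B : Set (Cfsg.IrrCharacter G)) (P : Subgroup G) (hPD : Cfsg.IsDefectGroup 2 M B P)
    (hV : IsKleinFour P)
    (x : G) (hx : ∃ k : ℕ, orderOf x = 2 ^ k) (hx1 : x ≠ 1)
    (b : Set (Cfsg.IrrCharacter (Subgroup.centralizer ({x} : Set G))))
    (hb : Cfsg.IsInducedBlock M (Subgroup.centralizer ({x} : Set G)) b B) :
    Cfsg.blockRank 2 b = 1 ∧ ∃ y : G, y * x * y⁻¹ ∈ P := by
  classical
  haveI : Fact (Nat.Prime 2) := ⟨Nat.prime_two⟩
  have hPab : ∀ x ∈ P, ∀ y ∈ P, x * y = y * x := by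
    intro a ha c hc
    have := (IsKleinFour.isMulCommutative (G := ↥P)).is_comm.comm ⟨a, ha⟩ ⟨c, hc⟩
    exact congrArg Subtype.val this
  obtain ⟨D₀, hD₀⟩ := exists_isDefectGroup hM b hb.1
  obtain ⟨hxD, hD⟩ := subsection_defect_of_abelian hM B P hPD hPab x hx b hb D₀ hD₀
  have hxH : x ∈ Subgroup.centralizer ({x} : Set G) := by
    rw [Subgroup.mem_centralizer_singleton_iff]
  obtain ⟨χ₀, hBχ⟩ := hb.2.1
  rw [hBχ] at hD hPD
  obtain ⟨y, hy⟩ := isDefectGroup_conj hM χ₀ _ P hD hPD
  obtain ⟨e₁, -⟩ : ∃ e₁ : ↥D₀ ≃* ↥(D₀.map (Subgroup.centralizer ({x} : Set G)).subtype), True :=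
    ⟨Subgroup.equivMapOfInjective D₀ _ (Subgroup.subtype_injective _), trivial⟩
  obtain ⟨e₂, -⟩ : ∃ e₂ : ↥(D₀.map (Subgroup.centralizer ({x} : Set G)).subtype) ≃* ↥P, True :=
    ⟨(Subgroup.equivMapOfInjective _ (MulAut.conj y).toMonoidHom
      (MulAut.conj y).injective).trans (MulEquiv.subgroupCongr hy.symm), trivial⟩
  haveI : IsKleinFour ↥D₀ := isKleinFour_of_mulEquiv (e₁.trans e₂).symm
  refine ⟨?_, y, ?_⟩
  · obtain ⟨x', hx'⟩ : ∃ x' : Subgroup.centralizer ({x} : Set G), x' = ⟨x, hxH⟩ := ⟨_, rfl⟩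
    have hx'D : x' ∈ D₀ := by rw [hx']; exact hxD hxH
    have hx'c : ∀ k : Subgroup.centralizer ({x} : Set G), x' * k = k * x' := by
      intro k
      apply Subtype.ext
      rw [Subgroup.coe_mul, Subgroup.coe_mul, hx']
      exact (Subgroup.mem_centralizer_singleton_iff.mp k.2).symm
    have hx'1 : (⟨x', hx'D⟩ : ↥D₀) ≠ 1 := by
      intro h
      apply hx1
      have h1 := congrArg (fun z : ↥D₀ => ((z : Subgroup.centralizer ({x} : Set G)) : G)) h
      simp only [hx'] at h1
      exact h1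
    have hsq : ∀ z : ↥D₀, z * z = 1 := fun z => IsKleinFour.mul_self z
    have hord : ∀ z : ↥D₀, z ≠ 1 → orderOf ((z : Subgroup.centralizer ({x} : Set G))) = 2 := by
      intro z hz
      rw [Subgroup.orderOf_coe]
      apply orderOf_eq_prime
      · rw [sq]; exact hsq z
      · exact hz
    haveI : Fintype ↥D₀ := Fintype.ofFinite _
    obtain ⟨u, hu1, hux⟩ : ∃ u : ↥D₀, u ≠ 1 ∧ u ≠ ⟨x', hx'D⟩ := by
      by_contra hcon
      push Not at hcon
      have h1 : (Finset.univ : Finset ↥D₀) ⊆ {1, ⟨x', hx'D⟩} := by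
        intro z _
        rw [Finset.mem_insert, Finset.mem_singleton]
        by_cases hz : z = 1
        · exact Or.inl hz
        · exact Or.inr (hcon z hz)
      have h2 := Finset.card_le_card h1
      have h3 : (Finset.univ : Finset ↥D₀).card = 4 := by
        rw [Finset.card_univ, ← Nat.card_eq_fintype_card]
        exact IsKleinFour.card_four
      have h4 : ({1, ⟨x', hx'D⟩} : Finset ↥D₀).card ≤ 2 := Finset.card_le_two
      omega
    have huniv := IsKleinFour.eq_finset_univ hu1 hx'1 hux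
    apply blockRank_eq_one_of_central_involution hM b hb.1 D₀ hD₀ IsKleinFour.card_four
      x' (u : Subgroup.centralizer ({x} : Set G)) hx'D u.2 (hord ⟨x', hx'D⟩ hx'1) (hord u hu1)
      (fun h => hux (Subtype.ext h)) hx'c
    intro z hz
    have hzmem : (⟨z, hz⟩ : ↥D₀) ∈ (Finset.univ : Finset ↥D₀) := Finset.mem_univ _
    rw [← huniv] at hzmem
    simp only [Finset.mem_insert, Finset.mem_singleton] at hzmem
    rcases hzmem with h | h | h | h
    · right; right; right
      have := congrArg (fun w : ↥D₀ => (w : Subgroup.centralizer ({x} : Set G))) h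
      exact this
    · right; left
      have := congrArg (fun w : ↥D₀ => (w : Subgroup.centralizer ({x} : Set G))) h
      exact this
    · right; right; left
      have := congrArg (fun w : ↥D₀ => (w : Subgroup.centralizer ({x} : Set G))) h
      exact this
    · left
      have := congrArg (fun w : ↥D₀ => (w : Subgroup.centralizer ({x} : Set G))) h
      exact this
  · rw [hy]
    exact ⟨x, ⟨⟨x, hxH⟩, hxD hxH, rfl⟩, rfl⟩

end klein

end Cfsg.Agent.Lib.Helper6
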