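import Mathlib
import Cfsg.Agent.Lib.Helper6.KfFusion
import Cfsg.Agent.Lib.Helper6.KfSub
import Cfsg.Agent.Lib.Helper6.HKRelFM
import Cfsg.Agent.Lib.Helper6.BrConj2

set_option autoImplicit false
set_option linter.unusedSectionVars false
open Cfsg

namespace Cfsg.Agent.Lib.Helper6

open scoped ComplexConjugate

section root

variable {G : Type*} [Group G] [Fintype G] [DecidableEq G]
variable {p : ℕ} {M : Ideal Cfsg.AlgInt}

/-- a block `b` of `H` with defect group `D₀` and `C_G(D₀) ≤ H` is induced, inside `H`, from a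
block of `C_G(D₀)` -/
theorem exists_root_in (hM : Cfsg.IsPModular p M) [Fact p.Prime] (H : Subgroup G)
    (b : Set (Cfsg.IrrCharacter H)) (hb : Cfsg.IsPBlock M b) (D₀ : Subgroup H)
    (hD₀ : Cfsg.IsDefectGroup p M b D₀) (P : Subgroup G) (hPdef : P = D₀.map H.subtype)
    (hC : Subgroup.centralizer (P : Set G) ≤ H) :
    ∃ e : Set (Cfsg.IrrCharacter (Subgroup.centralizer (P : Set G))),
      Cfsg.IsInducedBlockIn M H (Subgroup.centralizer (P : Set G)) e b := by
  classical
  haveI : Fintype H := Fintype.ofFinite _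
  have hmap : (Subgroup.centralizer (D₀ : Set H)).map H.subtype
      = Subgroup.centralizer (P : Set G) := by
    ext y
    rw [Subgroup.mem_map]
    constructor
    · rintro ⟨x, hx, rfl⟩
      rw [Subgroup.mem_centralizer_iff] at hx ⊢
      intro d hd
      rw [hPdef] at hd
      obtain ⟨d', hd', rfl⟩ := hd
      exact congrArg (fun z : H => (z : G)) (hx d' hd')
    · intro hy
      refine ⟨⟨y, hC hy⟩, ?_, rfl⟩
      rw [Subgroup.mem_centralizer_iff] at hy ⊢
      intro d hd
      apply Subtype.ext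
      exact hy (d : G) (by rw [hPdef]; exact ⟨d, hd, rfl⟩)
  obtain ⟨φ, hφ⟩ : ∃ φ : ↥(Subgroup.centralizer (D₀ : Set H)) ≃*
      ↥(Subgroup.centralizer (P : Set G)),
      ∀ x : ↥(Subgroup.centralizer (D₀ : Set H)),
        ((φ x : ↥(Subgroup.centralizer (P : Set G))) : G) = ((x : H) : G) := by
    refine ⟨(Subgroup.equivMapOfInjective _ H.subtype (Subgroup.subtype_injective _)).trans
      (MulEquiv.subgroupCongr hmap), ?_⟩
    intro x; rfl
  obtain ⟨e', he'ind, -⟩ := exists_pair_center_defect hM b hb D₀ hD₀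
  refine ⟨mapIrr φ '' e', ?_⟩
  rw [isInducedBlockIn_iff (M := M) H (Subgroup.centralizer (P : Set G)) _ φ hφ,
    mapIrr_symm_image_image]
  exact he'ind

end root

section all

variable {G : Type*} [Group G] [Fintype G] [DecidableEq G]
variable {p : ℕ} {M : Ideal Cfsg.AlgInt}

/-- every subsection `(x, b)` of a block with abelian defect group `P` and root `c` is a
conjugate of a subsection `(w, c ^ C_G(w))` with `w ∈ P` -/
theorem SubsecFrom.exists_of_induced (hM : Cfsg.IsPModular p M) [Fact p.Prime]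
    (B : Set (Cfsg.IrrCharacter G)) (P : Subgroup G) (hPD : Cfsg.IsDefectGroup p M B P)
    (hPab : ∀ x ∈ P, ∀ y ∈ P, x * y = y * x)
    (c : Set (Cfsg.IrrCharacter (Subgroup.centralizer (P : Set G))))
    (hc : Cfsg.IsInducedBlock M (Subgroup.centralizer (P : Set G)) c B)
    (x : G) (hx : ∃ k : ℕ, orderOf x = p ^ k)
    (b : Set (Cfsg.IrrCharacter (Subgroup.centralizer ({x} : Set G))))
    (hb : Cfsg.IsInducedBlock M (Subgroup.centralizer ({x} : Set G)) b B) :
    ∃ w ∈ P, IsConj w x ∧ SubsecFrom M P c w x b := by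
  classical
  have hPp : IsPGroup p P := IsDefectGroup.isPGroup' hPD
  haveI : Fintype (Subgroup.centralizer (P : Set G)) := Fintype.ofFinite _
  obtain ⟨D₀, hD₀⟩ := exists_isDefectGroup hM b hb.1
  obtain ⟨hxD, hD⟩ := subsection_defect_of_abelian hM B P hPD hPab x hx b hb D₀ hD₀
  have hxH : x ∈ Subgroup.centralizer ({x} : Set G) := by
    rw [Subgroup.mem_centralizer_singleton_iff]
  obtain ⟨D, hDdef⟩ : ∃ D : Subgroup G,
      D = D₀.map (Subgroup.centralizer ({x} : Set G)).subtype := ⟨_, rfl⟩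
  have hxDG : x ∈ D := by
    rw [hDdef]
    exact ⟨⟨x, hxH⟩, hxD hxH, rfl⟩
  have hC : Subgroup.centralizer (D : Set G) ≤ Subgroup.centralizer ({x} : Set G) := by
    apply Subgroup.centralizer_le
    intro z hz
    rw [Set.mem_singleton_iff] at hz
    rw [hz]
    exact hxDG
  obtain ⟨c', hc'⟩ := exists_root_in hM _ b hb.1 D₀ hD₀ D hDdef hC
  rw [← hDdef] at hD
  have hc'B : Cfsg.IsInducedBlock M (Subgroup.centralizer (D : Set G)) c' B :=
    IsInducedBlockIn.trans hM _ _ hC hc' hb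
  obtain ⟨χ₀, hBχ⟩ := hb.2.1
  have hD' := hD
  have hPD' := hPD
  rw [hBχ] at hD' hPD'
  obtain ⟨y, hy⟩ := isDefectGroup_conj hM χ₀ D P hD' hPD'
  -- conjugation by `y` from `C_G(D)` to `C_G(P)`
  have hmem₁ : ∀ z : G, z ∈ Subgroup.centralizer (P : Set G)
      ↔ y⁻¹ * z * y ∈ Subgroup.centralizer (D : Set G) := by
    intro z
    rw [hy]
    exact mem_centralizer_map_conj_iff D y z
  obtain ⟨φ₁, hφ₁⟩ : ∃ φ₁ : Subgroup.centralizer (D : Set G) ≃* Subgroup.centralizer (P : Set G),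
      ∀ k, ((φ₁ k : Subgroup.centralizer (P : Set G)) : G) = y * (k : G) * y⁻¹ :=
    ⟨conjSubEquiv _ _ y hmem₁, fun k => rfl⟩
  have hc''B : Cfsg.IsInducedBlock M (Subgroup.centralizer (P : Set G)) (mapIrr φ₁ '' c') B :=
    IsInducedBlock.conj y _ _ φ₁ hφ₁ hc'B
  have he := (isBrauerPairOf_iff_isInducedBlock hM P hPp (mapIrr φ₁ '' c') B).mpr hc''B
  have he₂ := (isBrauerPairOf_iff_isInducedBlock hM P hPp c B).mpr hc
  obtain ⟨n, hn, hcn⟩ := exists_normalizer_conj hM B P hPD _ c he he₂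
  have hnC := normalizer_le_normalizer_centralizer P hn
  obtain ⟨g, hg⟩ : ∃ g : G, g = n * y := ⟨_, rfl⟩
  obtain ⟨φ', hφ'def⟩ : ∃ φ' : Subgroup.centralizer (D : Set G) ≃*
      Subgroup.centralizer (P : Set G),
      φ' = φ₁.trans (nAut (Subgroup.centralizer (P : Set G)) n hnC) := ⟨_, rfl⟩
  have hφ' : ∀ k, ((φ' k : Subgroup.centralizer (P : Set G)) : G) = g * (k : G) * g⁻¹ := by
    intro k
    rw [hφ'def, MulEquiv.trans_apply, nAut_apply_coe, hφ₁, hg]
    group
  have hφ'c : mapIrr φ' '' c' = c := by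
    rw [hcn, hφ'def]
    rw [Set.image_image]
    apply Set.image_congr
    intro θ _
    rw [mapIrr_trans, mapIrr_eq_autIrr]
  obtain ⟨w, hw⟩ : ∃ w : G, w = g * x * g⁻¹ := ⟨_, rfl⟩
  have hwP : w ∈ P := by
    have h1 : y * x * y⁻¹ ∈ P := by
      rw [hy]
      exact conj_mem_map_conj D y hxDG
    have h2 := (Subgroup.mem_normalizer_iff.mp hn (y * x * y⁻¹)).mp h1
    rw [hw, hg]
    have : n * y * x * (n * y)⁻¹ = n * (y * x * y⁻¹) * n⁻¹ := by group
    rw [this]
    exact h2
  have hgw : g * x * g⁻¹ = w := hw.symm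
  have h8 := IsInducedBlockIn.conj (M := M) g _ _ _ _ (centConj g x w hgw)
    (centConj_apply_coe g x w hgw) φ' hφ' hc'
  rw [hφ'c] at h8
  refine ⟨w, hwP, ?_, ?_⟩
  · rw [isConj_iff]
    refine ⟨g⁻¹, ?_⟩
    rw [hw]
    group
  · refine ⟨g⁻¹, (centConj g x w hgw).symm, mapIrr (centConj g x w hgw) '' b, ?_, ?_, h8,
      mapIrr_symm_image_image _ b⟩
    · rw [hw]
      group
    · intro k
      have h1 := centConj_apply_coe g x w hgw ((centConj g x w hgw).symm k)
      rw [MulEquiv.apply_symm_apply] at h1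
      rw [h1]
      group

end all

end Cfsg.Agent.Lib.Helper6
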