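import Mathlib
import Cfsg.Agent.Lib.Helper6.KfTop
import Cfsg.Agent.Lib.Helper6.BrPair
import Cfsg.Agent.Lib.Helper6.BrPair3
import Cfsg.Agent.Lib.Helper6.BrFull

set_option autoImplicit false
set_option linter.unusedSectionVars false
open Cfsg

namespace Cfsg.Agent.Lib.Helper6

section top2

variable {G : Type*} [Group G] [Fintype G] [DecidableEq G]
variable {p : ℕ} {M : Ideal Cfsg.AlgInt}

/-- the only block of a subgroup that is everything inducing `B` is `B` itself -/
theorem eq_of_isInducedBlock_of_forall_mem (hM : Cfsg.IsPModular p M) (H : Subgroup G)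
    (hH : ∀ g : G, g ∈ H) (e : H ≃* G) (he : ∀ h : H, e h = (h : G))
    (B : Set (Cfsg.IrrCharacter G)) (b' : Set (Cfsg.IrrCharacter H))
    (h : Cfsg.IsInducedBlock M H b' B) : b' = mapIrr e.symm '' B := by
  classical
  haveI : Fintype H := Fintype.ofFinite _
  obtain ⟨ξ, hξ⟩ := isPBlock_nonempty hM h.1
  obtain ⟨χ₀, hBχ⟩ := h.2.1
  have hχ₀ : χ₀ ∈ B := by rw [hBχ]; exact sameBlock_refl hM _
  apply isPBlock_eq_of_mem hM h.1 (isPBlock_mapIrr_image _ h.2.1) hξ
  refine ⟨mapIrr e ξ, ?_, ?_⟩
  · rw [hBχ]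
    change Cfsg.SameBlock M _ _
    intro g
    have h1 := h.2.2 ξ hξ χ₀ hχ₀ g
    have hfun : (ξ : H → ℂ) = fun k : H => ((mapIrr e ξ : Cfsg.IrrCharacter G) : G → ℂ) k := by
      funext k
      rw [← he, mapIrr_apply_apply]
    rw [hfun, inducedCentralChar_of_forall_mem H hH _
      (IsIrrCharacter.isClassFunction (mapIrr e ξ).2)] at h1
    have h2 := MemLocalIdeal.neg h1
    rw [neg_sub] at h2
    exact h2
  · apply Subtype.ext
    funext k
    rw [mapIrr_apply, MulEquiv.symm_symm, mapIrr_apply_apply]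

/-- the contribution of the section of a central element is the rank of the block -/
theorem sectionSum_of_central (hM : Cfsg.IsPModular p M) (x : G) (hx : ∀ g : G, x * g = g * x)
    (B : Set (Cfsg.IrrCharacter G)) (hB : Cfsg.IsPBlock M B) :
    ∑ᶠ b ∈ {b : Set (Cfsg.IrrCharacter ↥(Subgroup.centralizer ({x} : Set G))) |
      Cfsg.IsInducedBlock M (Subgroup.centralizer ({x} : Set G)) b B}, Cfsg.blockRank p b
      = Cfsg.blockRank p B := by
  have htop : ∀ g : G, g ∈ Subgroup.centralizer ({x} : Set G) := by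
    intro g
    rw [Subgroup.mem_centralizer_singleton_iff]
    exact (hx g).symm
  have htop' : Subgroup.centralizer ({x} : Set G) = ⊤ := by
    ext g
    simp only [htop g, Subgroup.mem_top]
  obtain ⟨e, he⟩ : ∃ e : ↥(Subgroup.centralizer ({x} : Set G)) ≃* G, ∀ h, e h = (h : G) :=
    ⟨(MulEquiv.subgroupCongr htop').trans Subgroup.topEquiv, fun h => rfl⟩
  have hset : {b : Set (Cfsg.IrrCharacter ↥(Subgroup.centralizer ({x} : Set G))) |
      Cfsg.IsInducedBlock M (Subgroup.centralizer ({x} : Set G)) b B} = {mapIrr e.symm '' B} := by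
    ext b
    rw [Set.mem_ofPred_eq, Set.mem_singleton_iff]
    constructor
    · intro h
      exact eq_of_isInducedBlock_of_forall_mem hM _ htop e he B b h
    · intro h
      rw [h]
      exact isInducedBlock_of_forall_mem hM _ htop e he B hB
  rw [hset, finsum_mem_singleton]
  exact blockRank_mapIrr_image e.symm B

end top2

end Cfsg.Agent.Lib.Helper6
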