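import Mathlib
import Cfsg.Agent.Lib.Helper6.KfRoot
import Cfsg.Agent.Lib.Helper6.KfTop2
import Cfsg.Agent.Lib.Helper6.KfInertial

set_option autoImplicit false
set_option linter.unusedSectionVars false
open Cfsg

namespace Cfsg.Agent.Lib.Helper6

section secsum2

variable {G : Type*} [Group G] [Fintype G] [DecidableEq G]
variable {p : ℕ} {M : Ideal Cfsg.AlgInt}

/-- the contribution of the section of `x` to Brauer's count -/
noncomputable def sectionSum (p : ℕ) (M : Ideal Cfsg.AlgInt) (B : Set (Cfsg.IrrCharacter G))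
    (x : G) : ℕ :=
  ∑ᶠ b ∈ {b : Set (Cfsg.IrrCharacter ↥(Subgroup.centralizer ({x} : Set G))) |
    Cfsg.IsInducedBlock M (Subgroup.centralizer ({x} : Set G)) b B}, Cfsg.blockRank p b

theorem sectionSum_eq_zero (B : Set (Cfsg.IrrCharacter G)) (x : G)
    (h : ∀ b : Set (Cfsg.IrrCharacter ↥(Subgroup.centralizer ({x} : Set G))),
      ¬ Cfsg.IsInducedBlock M (Subgroup.centralizer ({x} : Set G)) b B) :
    sectionSum p M B x = 0 := by
  unfold sectionSum
  have : {b : Set (Cfsg.IrrCharacter ↥(Subgroup.centralizer ({x} : Set G))) |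
      Cfsg.IsInducedBlock M (Subgroup.centralizer ({x} : Set G)) b B} = ∅ := by
    ext b
    simp only [Set.mem_ofPred_eq, Set.mem_empty_iff_false, iff_false]
    exact h b
  rw [this, finsum_mem_empty]

theorem sectionSum_le_one (B : Set (Cfsg.IrrCharacter G)) (x : G)
    (huniq : ∀ b b' : Set (Cfsg.IrrCharacter ↥(Subgroup.centralizer ({x} : Set G))),
      Cfsg.IsInducedBlock M (Subgroup.centralizer ({x} : Set G)) b B →
      Cfsg.IsInducedBlock M (Subgroup.centralizer ({x} : Set G)) b' B → b = b')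
    (hrank : ∀ b : Set (Cfsg.IrrCharacter ↥(Subgroup.centralizer ({x} : Set G))),
      Cfsg.IsInducedBlock M (Subgroup.centralizer ({x} : Set G)) b B → Cfsg.blockRank p b = 1) :
    sectionSum p M B x ≤ 1 := by
  by_cases hex : ∃ b : Set (Cfsg.IrrCharacter ↥(Subgroup.centralizer ({x} : Set G))),
      Cfsg.IsInducedBlock M (Subgroup.centralizer ({x} : Set G)) b B
  · obtain ⟨b₀, hb₀⟩ := hex
    unfold sectionSum
    have : {b : Set (Cfsg.IrrCharacter ↥(Subgroup.centralizer ({x} : Set G))) |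
        Cfsg.IsInducedBlock M (Subgroup.centralizer ({x} : Set G)) b B} = {b₀} := by
      ext b
      simp only [Set.mem_ofPred_eq, Set.mem_singleton_iff]
      exact ⟨fun h => huniq b b₀ h hb₀, fun h => by rw [h]; exact hb₀⟩
    rw [this, finsum_mem_singleton, hrank b₀ hb₀]
  · push Not at hex
    rw [sectionSum_eq_zero B x hex]
    norm_num

theorem one_le_sectionSum (hM : Cfsg.IsPModular p M) (B : Set (Cfsg.IrrCharacter G)) (x : G)
    (b : Set (Cfsg.IrrCharacter ↥(Subgroup.centralizer ({x} : Set G))))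
    (hb : Cfsg.IsInducedBlock M (Subgroup.centralizer ({x} : Set G)) b B) :
    1 ≤ sectionSum p M B x := by
  classical
  haveI : Fintype ↥(Subgroup.centralizer ({x} : Set G)) := Fintype.ofFinite _
  exact le_trans (blockRank_pos hM b hb.1) (blockRank_le_sectionSum x B b hb)

/-- Brauer's count, with the section of `1` separated -/
theorem card_block_eq_rank_add (hM : Cfsg.IsPModular p M) (B : Set (Cfsg.IrrCharacter G))
    (hB : Cfsg.IsPBlock M B) (X : Finset G) (hX : ∀ x ∈ X, ∃ k : ℕ, orderOf x = p ^ k)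
    (hXrep : ∀ g : G, (∃ k : ℕ, orderOf g = p ^ k) → ∃! x, x ∈ X ∧ IsConj g x) :
    (1 : G) ∈ X ∧
    Nat.card B = Cfsg.blockRank p B + ∑ x ∈ X.erase 1, sectionSum p M B x := by
  have h1X : (1 : G) ∈ X := by
    obtain ⟨x₁, ⟨hx₁, hc⟩, -⟩ := hXrep 1 ⟨0, by rw [orderOf_one, pow_zero]⟩
    rw [isConj_one_right.mp hc] at hx₁
    exact hx₁
  refine ⟨h1X, ?_⟩
  have hcount := card_block_eq_sum_sections hM B hB X hX hXrep
  rw [hcount, ← Finset.add_sum_erase X _ h1X]
  congr 1
  exact sectionSum_of_central hM 1 (by simp) B hB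

end secsum2

section klein

variable {G : Type*} [Group G] [Fintype G] [DecidableEq G]
variable {M : Ideal Cfsg.AlgInt}

variable (hM : Cfsg.IsPModular 2 M) (B : Set (Cfsg.IrrCharacter G)) (hB : Cfsg.IsPBlock M B)
  (P : Subgroup G) (hPD : Cfsg.IsDefectGroup 2 M B P) (hV : IsKleinFour P)
  (c : Set (Cfsg.IrrCharacter (Subgroup.centralizer (P : Set G))))
  (hc : Cfsg.IsInducedBlock M (Subgroup.centralizer (P : Set G)) c B)
  (X : Finset G) (hX : ∀ x ∈ X, ∃ k : ℕ, orderOf x = 2 ^ k)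
  (hXrep : ∀ g : G, (∃ k : ℕ, orderOf g = 2 ^ k) → ∃! x, x ∈ X ∧ IsConj g x)

include hV in
theorem klein_facts :
    (∀ x ∈ P, ∀ y ∈ P, x * y = y * x) ∧ (∀ z ∈ P, z ≠ 1 → orderOf z = 2) ∧
      ∃ u ∈ P, u ≠ 1 := by
  refine ⟨?_, ?_, ?_⟩
  · intro a ha b hb
    have := (IsKleinFour.isMulCommutative (G := ↥P)).is_comm.comm ⟨a, ha⟩ ⟨b, hb⟩
    exact congrArg Subtype.val this
  · intro z hz hz1
    apply orderOf_eq_prime
    · have := IsKleinFour.mul_self (⟨z, hz⟩ : P)
      rw [sq]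
      exact congrArg Subtype.val this
    · exact hz1
  · by_contra hcon
    push Not at hcon
    have hbot : P = ⊥ := (Subgroup.eq_bot_iff_forall P).mpr hcon
    have h4 : Nat.card P = 4 := IsKleinFour.card_four
    rw [hbot, Subgroup.card_bot] at h4
    norm_num at h4

include hM hB hPD hV hc hX hXrep

/-- some nontrivial section contributes -/
theorem klein_one_le_sections : 1 ≤ ∑ x ∈ X.erase 1, sectionSum 2 M B x := by
  haveI : Fact (Nat.Prime 2) := ⟨Nat.prime_two⟩
  obtain ⟨hPab, hord, u, huP, hu1⟩ := klein_facts P hV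
  have huel : ∃ k : ℕ, orderOf u = 2 ^ k := ⟨1, by rw [hord u huP hu1, pow_one]⟩
  obtain ⟨x₀, ⟨hx₀X, hux₀⟩, -⟩ := hXrep u huel
  have hx₀1 : x₀ ≠ 1 := by
    intro h
    rw [h] at hux₀
    exact hu1 (isConj_one_left.mp hux₀)
  obtain ⟨β', -, hβ'⟩ := SubsecFrom.exists hM B P hPD hPab c hc u x₀ huP hux₀
  refine le_trans (one_le_sectionSum hM B x₀ β' hβ') ?_
  exact Finset.single_le_sum (f := fun x => sectionSum 2 M B x) (fun _ _ => Nat.zero_le _)
    (Finset.mem_erase.mpr ⟨hx₀1, hx₀X⟩)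

/-- a `2`-block with a Klein four defect group has four irreducible characters -/
theorem klein_card_block : Nat.card B = 4 := by
  classical
  haveI : Fact (Nat.Prime 2) := ⟨Nat.prime_two⟩
  obtain ⟨hPab, hord, u, huP, hu1⟩ := klein_facts P hV
  have huel : ∃ k : ℕ, orderOf u = 2 ^ k := ⟨1, by rw [hord u huP hu1, pow_one]⟩
  obtain ⟨x₀, ⟨hx₀X, hux₀⟩, -⟩ := hXrep u huel
  have hx₀1 : x₀ ≠ 1 := by
    intro h
    rw [h] at hux₀
    exact hu1 (isConj_one_left.mp hux₀)
  have hx₀2 : orderOf x₀ = 2 := by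
    obtain ⟨g, hg⟩ := isConj_iff.mp hux₀
    rw [← hg, orderOf_conj_eq, hord u huP hu1]
  obtain ⟨β', -, hβ'⟩ := SubsecFrom.exists hM B P hPD hPab c hc u x₀ huP hux₀
  have hl := (subsection_klein hM B P hPD hV x₀ (hX x₀ hx₀X) hx₀1 β' hβ').1
  obtain ⟨D₀, hD₀⟩ := exists_isDefectGroup hM β' hβ'.1
  obtain ⟨-, hD⟩ := subsection_defect_of_abelian hM B P hPD hPab x₀ (hX x₀ hx₀X) β' hβ' D₀ hD₀
  have hcP := Cfsg.Agent.S0908.result 2 M hM B hB P hPD
  have hcD := Cfsg.Agent.S0908.result 2 M hM B hB _ hD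
  have hP4 : Nat.card P = 4 := IsKleinFour.card_four
  have hD₀4 : Nat.card D₀ = 4 := by
    rw [← hP4, hcP, ← hcD]
    exact Nat.card_congr (Subgroup.equivMapOfInjective D₀ _ (Subgroup.subtype_injective _)).toEquiv
  have hdef : Cfsg.blockDefect 2 B = 2 := by
    rw [hP4] at hcP
    have h2 : 2 ^ 2 = 2 ^ Cfsg.blockDefect 2 B := by rw [← hcP]; norm_num
    exact (Nat.pow_right_injective (le_refl 2) h2).symm
  have h14 := card_block_one_or_four hM x₀ hx₀2 _ rfl B β' hβ' hl D₀ hD₀ hD₀4 hdef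
  obtain ⟨-, hsum⟩ := card_block_eq_rank_add hM B hB X hX hXrep
  have h1 := klein_one_le_sections hM B hB P hPD hV c hc X hX hXrep
  have h2 := blockRank_pos hM B hB
  omega

/-- if the inertial group is `C_G(P)`, the three involutions give three distinct subsections -/
theorem klein_sections_ge_three
    (hstab : ∀ t ∈ Subgroup.normalizer (P : Set G),
      t ∈ stabSub (Subgroup.centralizer (P : Set G)) c → t ∈ Subgroup.centralizer (P : Set G)) :
    3 ≤ ∑ x ∈ X.erase 1, sectionSum 2 M B x := by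
  classical
  haveI : Fact (Nat.Prime 2) := ⟨Nat.prime_two⟩
  obtain ⟨hPab, hord, -⟩ := klein_facts P hV
  obtain ⟨h1X, -⟩ := card_block_eq_rank_add hM B hB X hX hXrep
  obtain ⟨Pinv, hPinv⟩ : ∃ Pinv : Finset G, Pinv = (Finset.univ.filter (· ∈ P)).erase 1 :=
    ⟨_, rfl⟩
  have hPinv_mem : ∀ w : G, w ∈ Pinv ↔ w ≠ 1 ∧ w ∈ P := by
    intro w
    rw [hPinv, Finset.mem_erase, Finset.mem_filter]
    simp only [Finset.mem_univ, true_and]
  have hPinv_card : Pinv.card = 3 := by
    rw [hPinv, Finset.card_erase_of_mem (by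
      rw [Finset.mem_filter]; exact ⟨Finset.mem_univ _, P.one_mem⟩)]
    have h4 : Nat.card P = 4 := IsKleinFour.card_four
    rw [Nat.card_eq_fintype_card, Fintype.card_subtype] at h4
    rw [h4]
  -- the fibres
  have hfib : ∀ x : G, (Pinv.filter (fun w => IsConj w x)).card ≤ sectionSum 2 M B x := by
    intro x
    have hex : ∀ w : G, w ∈ P ∧ IsConj w x →
        ∃ β' : Set (Cfsg.IrrCharacter (Subgroup.centralizer ({x} : Set G))),
          SubsecFrom M P c w x β' ∧
            Cfsg.IsInducedBlock M (Subgroup.centralizer ({x} : Set G)) β' B :=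
      fun w hw => SubsecFrom.exists hM B P hPD hPab c hc w x hw.1 hw.2
    obtain ⟨βf, hβf⟩ : ∃ βf : G → Set (Cfsg.IrrCharacter (Subgroup.centralizer ({x} : Set G))),
        ∀ w : G, w ∈ P ∧ IsConj w x → SubsecFrom M P c w x (βf w) ∧
            Cfsg.IsInducedBlock M (Subgroup.centralizer ({x} : Set G)) (βf w) B := by
      refine ⟨fun w => if h : w ∈ P ∧ IsConj w x then (hex w h).choose else ∅, ?_⟩
      intro w hw
      simp only [dif_pos hw]
      exact (hex w hw).choose_spec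
    have hinj : Set.InjOn βf (Pinv.filter (fun w => IsConj w x) : Finset G) := by
      intro w hw w' hw' heq
      rw [Finset.mem_coe, Finset.mem_filter, hPinv_mem] at hw hw'
      have h1 := (hβf w ⟨hw.1.2, hw.2⟩).1
      have h2 := (hβf w' ⟨hw'.1.2, hw'.2⟩).1
      rw [← heq] at h2
      obtain ⟨t, htN, htS, htw⟩ := SubsecFrom.fusion hM B P hPD hPab c hc w w' x hw.1.2 hw'.1.2
        _ h1 h2
      have htC := hstab t htN htS
      have := Subgroup.mem_centralizer_iff.mp htC w' hw'.1.2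
      rw [← htw, ← this, mul_assoc, mul_inv_cancel, mul_one]
    rw [← Finset.card_image_of_injOn hinj]
    apply card_le_sectionSum hM x B
    intro b hb
    obtain ⟨w, hw, rfl⟩ := Finset.mem_image.mp hb
    rw [Finset.mem_filter, hPinv_mem] at hw
    exact (hβf w ⟨hw.1.2, hw.2⟩).2
  -- double counting
  have hdouble : ∑ x ∈ X, (Pinv.filter (fun w => IsConj w x)).card = Pinv.card := by
    simp_rw [Finset.card_filter]
    rw [Finset.sum_comm, Finset.card_eq_sum_ones]
    apply Finset.sum_congr rfl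
    intro w hw
    rw [hPinv_mem] at hw
    obtain ⟨x₀, ⟨hx₀X, hwx₀⟩, huniq⟩ := hXrep w ⟨1, by rw [hord w hw.2 hw.1, pow_one]⟩
    rw [Finset.sum_eq_single_of_mem x₀ hx₀X, if_pos hwx₀]
    intro x hx hne
    rw [if_neg]
    intro hcon
    exact hne (huniq x ⟨hx, hcon⟩)
  have hI1 : (Pinv.filter (fun w => IsConj w (1 : G))).card = 0 := by
    rw [Finset.card_eq_zero, Finset.filter_eq_empty_iff]
    intro w hw hcon
    rw [hPinv_mem] at hw
    exact hw.1 (isConj_one_left.mp hcon)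
  rw [← Finset.add_sum_erase X _ h1X, hI1, zero_add, hPinv_card] at hdouble
  rw [← hdouble]
  apply Finset.sum_le_sum
  intro x _
  exact hfib x

/-- if the inertial group permutes the involutions transitively, there is a single
nontrivial subsection -/
theorem klein_sections_le_one
    (htrans : ∀ a ∈ P, a ≠ 1 → ∀ b ∈ P, b ≠ 1 → ∃ t ∈ Subgroup.normalizer (P : Set G),
      t ∈ stabSub (Subgroup.centralizer (P : Set G)) c ∧ t * a * t⁻¹ = b) :
    ∑ x ∈ X.erase 1, sectionSum 2 M B x ≤ 1 := by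
  classical
  haveI : Fact (Nat.Prime 2) := ⟨Nat.prime_two⟩
  obtain ⟨hPab, hord, -⟩ := klein_facts P hV
  -- a contributing section comes from an involution of `P`
  have hfrom : ∀ x ∈ X.erase 1,
      ∀ b : Set (Cfsg.IrrCharacter (Subgroup.centralizer ({x} : Set G))),
      Cfsg.IsInducedBlock M (Subgroup.centralizer ({x} : Set G)) b B →
        ∃ w ∈ P, w ≠ 1 ∧ IsConj w x ∧ SubsecFrom M P c w x b := by
    intro x hx b hb
    rw [Finset.mem_erase] at hx
    obtain ⟨w, hwP, hwx, hsub⟩ := SubsecFrom.exists_of_induced hM B P hPD hPab c hc x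
      (hX x hx.2) b hb
    refine ⟨w, hwP, ?_, hwx, hsub⟩
    intro h
    rw [h] at hwx
    exact hx.1 (isConj_one_right.mp hwx)
  have hle1 : ∀ x ∈ X.erase 1, sectionSum 2 M B x ≤ 1 := by
    intro x hx
    apply sectionSum_le_one
    · intro b b' hb hb'
      obtain ⟨w, hwP, hw1, -, hsub⟩ := hfrom x hx b hb
      obtain ⟨w', hw'P, hw'1, -, hsub'⟩ := hfrom x hx b' hb'
      obtain ⟨t, htN, htS, htw⟩ := htrans w hwP hw1 w' hw'P hw'1
      have h1 := SubsecFrom.of_stab (M := M) P c w w' x t htN htS htw b hsub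
      exact SubsecFrom.unique hM P c w' x hw'P b b' h1 hsub'
    · intro b hb
      rw [Finset.mem_erase] at hx
      exact (subsection_klein hM B P hPD hV x (hX x hx.2) hx.1 b hb).1
  by_cases hex : ∃ x₀ ∈ X.erase 1, sectionSum 2 M B x₀ ≠ 0
  · obtain ⟨x₀, hx₀, hne⟩ := hex
    have hzero : ∀ x ∈ X.erase 1, x ≠ x₀ → sectionSum 2 M B x = 0 := by
      intro x hx hxx₀
      apply sectionSum_eq_zero
      intro b hb
      apply hxx₀
      have hb₀ : ∃ b₀ : Set (Cfsg.IrrCharacter (Subgroup.centralizer ({x₀} : Set G))),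
          Cfsg.IsInducedBlock M (Subgroup.centralizer ({x₀} : Set G)) b₀ B := by
        by_contra hcon
        push Not at hcon
        exact hne (sectionSum_eq_zero B x₀ hcon)
      obtain ⟨b₀, hb₀⟩ := hb₀
      obtain ⟨w, hwP, hw1, hwx, -⟩ := hfrom x hx b hb
      obtain ⟨w₀, hw₀P, hw₀1, hw₀x, -⟩ := hfrom x₀ hx₀ b₀ hb₀
      obtain ⟨t, -, -, htw⟩ := htrans w hwP hw1 w₀ hw₀P hw₀1
      have hww₀ : IsConj w w₀ := isConj_iff.mpr ⟨t, htw⟩
      have hxx : IsConj x x₀ := hwx.symm.trans (hww₀.trans hw₀x)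
      have hxX := (Finset.mem_erase.mp hx).2
      have hx₀X := (Finset.mem_erase.mp hx₀).2
      obtain ⟨y, -, huniq⟩ := hXrep x (hX x hxX)
      rw [huniq x ⟨hxX, IsConj.refl x⟩, huniq x₀ ⟨hx₀X, hxx⟩]
    rw [Finset.sum_eq_single_of_mem x₀ hx₀ hzero]
    exact hle1 x₀ hx₀
  · push Not at hex
    rw [Finset.sum_eq_zero hex]
    norm_num

end klein

end Cfsg.Agent.Lib.Helper6
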