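import Mathlib

/-! Maschke's theorem for representations, in the invariant-submodule form, and
cardinalities of sums of disjoint submodules. -/

set_option autoImplicit false

namespace Cfsg.Agent.Lib.Helper6.Kgv

section Maschke

variable {F : Type*} [Field F] {H : Type*} [Group H] [Fintype H]
  {M : Type*} [AddCommGroup M] [Module F M]

/-- Maschke: an invariant submodule has an invariant complement. -/
theorem exists_invariant_compl (ρ : Representation F H M) (hH : (Fintype.card H : F) ≠ 0)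
    (U : Submodule F M) (hU : ∀ h : H, ∀ u ∈ U, ρ h u ∈ U) :
    ∃ C : Submodule F M, (∀ h : H, ∀ c ∈ C, ρ h c ∈ C) ∧ IsCompl U C := by
  obtain ⟨π, hπ⟩ := U.subtype.exists_leftInverse_of_injective (Submodule.ker_subtype U)
  have hπ' : ∀ u : U, π (u : M) = u := fun u => LinearMap.congr_fun hπ u
  let Q : Module.End F M := U.subtype ∘ₗ π
  have hQmem : ∀ m, Q m ∈ U := fun m => (π m).2
  have hQfix : ∀ u ∈ U, Q u = u := by
    intro u hu
    show ((π u : U) : M) = u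
    have := hπ' ⟨u, hu⟩
    rw [this]
  let P : Module.End F M := (Fintype.card H : F)⁻¹ • ∑ h : H, ρ h * Q * ρ h⁻¹
  have hPapp : ∀ m, P m = (Fintype.card H : F)⁻¹ • ∑ h : H, ρ h (Q (ρ h⁻¹ m)) := by
    intro m
    show ((Fintype.card H : F)⁻¹ • ∑ h : H, ρ h * Q * ρ h⁻¹) m = _
    rw [LinearMap.smul_apply, LinearMap.sum_apply]
    rfl
  have hPmem : ∀ m, P m ∈ U := by
    intro m
    rw [hPapp]
    apply Submodule.smul_mem
    apply Submodule.sum_mem
    intro h _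
    exact hU h _ (hQmem _)
  have hPfix : ∀ u ∈ U, P u = u := by
    intro u hu
    rw [hPapp]
    have h1 : ∀ h : H, ρ h (Q (ρ h⁻¹ u)) = u := by
      intro h
      rw [hQfix _ (hU h⁻¹ u hu)]
      have : ρ h (ρ h⁻¹ u) = (ρ h * ρ h⁻¹) u := rfl
      rw [this, ← map_mul, mul_inv_cancel, map_one]
      rfl
    rw [Finset.sum_congr rfl (fun h _ => h1 h), Finset.sum_const, Finset.card_univ,
      ← Nat.cast_smul_eq_nsmul F, smul_smul, inv_mul_cancel₀ hH, one_smul]
  have hPcomm : ∀ g : H, ∀ m, P (ρ g m) = ρ g (P m) := by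
    intro g m
    rw [hPapp, hPapp, map_smul, map_sum]
    congr 1
    apply Fintype.sum_equiv (Equiv.mulLeft g⁻¹)
    intro h
    show ρ h (Q (ρ h⁻¹ (ρ g m))) = ρ g (ρ (g⁻¹ * h) (Q (ρ (g⁻¹ * h)⁻¹ m)))
    have e1 : ρ h⁻¹ (ρ g m) = ρ (g⁻¹ * h)⁻¹ m := by
      have : ρ h⁻¹ (ρ g m) = (ρ h⁻¹ * ρ g) m := rfl
      rw [this, ← map_mul]
      congr 2
      group
    have e2 : ∀ y, ρ g (ρ (g⁻¹ * h) y) = ρ h y := by
      intro y
      have : ρ g (ρ (g⁻¹ * h) y) = (ρ g * ρ (g⁻¹ * h)) y := rfl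
      rw [this, ← map_mul]
      congr 2
      group
    rw [e1, e2]
  refine ⟨LinearMap.ker P, ?_, ?_⟩
  · intro g c hc
    rw [LinearMap.mem_ker] at hc ⊢
    rw [hPcomm, hc, map_zero]
  · constructor
    · rw [Submodule.disjoint_def]
      intro x hx hx'
      rw [LinearMap.mem_ker] at hx'
      rw [← hPfix x hx, hx']
    · rw [codisjoint_iff, eq_top_iff]
      intro m _
      rw [Submodule.mem_sup]
      refine ⟨P m, hPmem m, m - P m, ?_, by abel⟩
      rw [LinearMap.mem_ker, map_sub, hPfix _ (hPmem m), sub_self]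

end Maschke

section Card

variable {F : Type*} [Ring F] {M : Type*} [AddCommGroup M] [Module F M]

/-- The sum map on a pair of disjoint submodules is a bijection onto the supremum. -/
noncomputable def supEquiv (U₁ U₂ : Submodule F M) (hd : Disjoint U₁ U₂) :
    (U₁ × U₂) ≃ ↥(U₁ ⊔ U₂) :=
  Equiv.ofBijective
    (fun x => ⟨(x.1 : M) + (x.2 : M), Submodule.add_mem_sup x.1.2 x.2.2⟩)
    (by
      constructor
      · rintro ⟨a, b⟩ ⟨a', b'⟩ h
        have h' : (a : M) + (b : M) = (a' : M) + (b' : M) := congrArg Subtype.val h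
        have h1 : (a : M) - a' = (b' : M) - b := by
          rw [sub_eq_sub_iff_add_eq_add]
          rw [h']; abel
        have hm1 : (a : M) - a' ∈ U₁ := U₁.sub_mem a.2 a'.2
        have hm2 : (a : M) - a' ∈ U₂ := by rw [h1]; exact U₂.sub_mem b'.2 b.2
        have h0 : (a : M) - a' = 0 := (Submodule.disjoint_def.mp hd) _ hm1 hm2
        have h0' : (b' : M) - b = 0 := by rw [← h1]; exact h0
        have ea : a = a' := Subtype.ext (sub_eq_zero.mp h0)
        have eb : b = b' := Subtype.ext (sub_eq_zero.mp h0').symm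
        rw [ea, eb]
      · rintro ⟨m, hm⟩
        obtain ⟨a, ha, b, hb, rfl⟩ := Submodule.mem_sup.mp hm
        exact ⟨(⟨a, ha⟩, ⟨b, hb⟩), rfl⟩)

theorem supEquiv_coe (U₁ U₂ : Submodule F M) (hd : Disjoint U₁ U₂) (x : U₁ × U₂) :
    ((supEquiv U₁ U₂ hd x : ↥(U₁ ⊔ U₂)) : M) = (x.1 : M) + (x.2 : M) := rfl

theorem card_sup_of_disjoint (U₁ U₂ : Submodule F M) (hd : Disjoint U₁ U₂) :
    Nat.card ↥(U₁ ⊔ U₂) = Nat.card U₁ * Nat.card U₂ := by
  rw [← Nat.card_prod]
  exact (Nat.card_congr (supEquiv U₁ U₂ hd)).symm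

/-- fixed points of an endomorphism preserving two disjoint submodules -/
theorem card_fix_sup (U₁ U₂ : Submodule F M) (hd : Disjoint U₁ U₂) (f : M →ₗ[F] M)
    (h₁ : ∀ u ∈ U₁, f u ∈ U₁) (h₂ : ∀ u ∈ U₂, f u ∈ U₂) :
    Nat.card {u : ↥(U₁ ⊔ U₂) // f (u : M) = u} =
      Nat.card {u : U₁ // f (u : M) = u} * Nat.card {u : U₂ // f (u : M) = u} := by
  rw [← Nat.card_prod]
  symm
  apply Nat.card_congr
  refine Equiv.ofBijective
    (fun x => ⟨supEquiv U₁ U₂ hd (x.1.1, x.2.1), ?_⟩) ⟨?_, ?_⟩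
  · rw [supEquiv_coe, map_add]
    show f (x.1.1 : M) + f (x.2.1 : M) = (x.1.1 : M) + (x.2.1 : M)
    rw [x.1.2, x.2.2]
  · rintro ⟨⟨a, ha⟩, ⟨b, hb⟩⟩ ⟨⟨a', ha'⟩, ⟨b', hb'⟩⟩ h
    have h' := congrArg Subtype.val h
    have h'' := (supEquiv U₁ U₂ hd).injective h'
    have e1 : a = a' := congrArg Prod.fst h''
    have e2 : b = b' := congrArg Prod.snd h''
    subst e1; subst e2
    rfl
  · rintro ⟨u, hu⟩
    obtain ⟨⟨a, b⟩, hab⟩ := (supEquiv U₁ U₂ hd).surjective u
    have hu' : f ((a : M) + (b : M)) = (a : M) + (b : M) := by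
      have : (u : M) = (a : M) + (b : M) := by rw [← hab]; rfl
      rw [← this]; exact hu
    rw [map_add] at hu'
    have h1 : f (a : M) - a = (b : M) - f (b : M) := by
      rw [sub_eq_sub_iff_add_eq_add]
      rw [hu']; abel
    have hm1 : f (a : M) - a ∈ U₁ := U₁.sub_mem (h₁ _ a.2) a.2
    have hm2 : f (a : M) - a ∈ U₂ := by rw [h1]; exact U₂.sub_mem b.2 (h₂ _ b.2)
    have h0 : f (a : M) - a = 0 := (Submodule.disjoint_def.mp hd) _ hm1 hm2
    have h0' : (b : M) - f (b : M) = 0 := by rw [← h1]; exact h0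
    refine ⟨(⟨a, sub_eq_zero.mp h0⟩, ⟨b, (sub_eq_zero.mp h0').symm⟩), ?_⟩
    apply Subtype.ext
    exact hab

end Card

end Cfsg.Agent.Lib.Helper6.Kgv
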