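import Mathlib
import Cfsg.Agent.Lib.Helper6.KgvA

/-! Gauss data on invariant submodules: definition, trivial case and products. -/

set_option autoImplicit false

namespace Cfsg.Agent.Lib.Helper6.Kgv

open scoped ComplexConjugate

universe u v

section Data

variable (p : ℕ) {H : Type u} [CommGroup H] {M : Type v} [AddCommGroup M]
  [Module (ZMod p) M]

/-- Gauss data for the action of `H` on an invariant submodule `U`: a finite family of pairs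
(linear character of `H`, `p`-th root of unity) whose twisted sums have absolute value squared
`|U : C_U(h)|` and whose untwisted sum is a `p'`-multiple of the indicator of the kernel. -/
def HasGData (ρ : Representation (ZMod p) H M) (U : Submodule (ZMod p) M) : Prop :=
  ∃ (S : Type u) (_ : Fintype S) (κ : S → (H →* ℂˣ)) (ω : S → ℂ) (c : ℕ),
    (∀ x, ω x ^ p = 1) ∧ ¬ p ∣ c ∧
    (∀ h : H, (∀ u ∈ U, ρ h u = u) → ∑ x, ((κ x h : ℂˣ) : ℂ) = (c : ℂ)) ∧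
    (∀ h : H, ¬ (∀ u ∈ U, ρ h u = u) → ∑ x, ((κ x h : ℂˣ) : ℂ) = 0) ∧
    (∀ k : ℕ, ¬ p ∣ k → ∀ h : H,
      ‖∑ x, ω x ^ k * ((κ x h : ℂˣ) : ℂ)‖ ^ 2 *
        (Nat.card {u : U // ρ h (u : M) = u} : ℝ) = (Nat.card U : ℝ))

variable {p}

theorem hasGData_of_trivial (hp : p ≠ 1) (ρ : Representation (ZMod p) H M)
    (U : Submodule (ZMod p) M)
    (h0 : ∀ h : H, ∀ u ∈ U, ρ h u = u) : HasGData p ρ U := by
  refine ⟨PUnit, inferInstance, fun _ => 1, fun _ => 1, 1, ?_, ?_, ?_, ?_, ?_⟩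
  · intro x; simp
  · intro h
    exact hp (Nat.dvd_one.mp h)
  · intro h _; simp
  · intro h hh; exact absurd (h0 h) hh
  · intro k _ h
    have : Nat.card {u : U // ρ h (u : M) = u} = Nat.card U := by
      apply Nat.card_congr
      exact Equiv.subtypeUnivEquiv (fun u => h0 h u u.2)
    rw [this]
    simp

theorem hasGData_sup (hp : p.Prime) (ρ : Representation (ZMod p) H M)
    (U₁ U₂ : Submodule (ZMod p) M)
    (hU₁ : ∀ h : H, ∀ u ∈ U₁, ρ h u ∈ U₁) (hU₂ : ∀ h : H, ∀ u ∈ U₂, ρ h u ∈ U₂)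
    (hd : Disjoint U₁ U₂) (h₁ : HasGData p ρ U₁) (h₂ : HasGData p ρ U₂) :
    HasGData p ρ (U₁ ⊔ U₂) := by
  obtain ⟨S₁, fS₁, κ₁, ω₁, c₁, hω₁, hc₁, hs₁, hz₁, hn₁⟩ := h₁
  obtain ⟨S₂, fS₂, κ₂, ω₂, c₂, hω₂, hc₂, hs₂, hz₂, hn₂⟩ := h₂
  have hiff : ∀ h : H, (∀ u ∈ U₁ ⊔ U₂, ρ h u = u) ↔
      ((∀ u ∈ U₁, ρ h u = u) ∧ (∀ u ∈ U₂, ρ h u = u)) := by
    intro h
    constructor
    · intro hh
      exact ⟨fun u hu => hh u (Submodule.mem_sup_left hu),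
        fun u hu => hh u (Submodule.mem_sup_right hu)⟩
    · rintro ⟨ha, hb⟩ u hu
      obtain ⟨a, haU, b, hbU, rfl⟩ := Submodule.mem_sup.mp hu
      rw [map_add, ha a haU, hb b hbU]
  have hprod : ∀ h : H, ∑ x : S₁ × S₂, (((κ₁ x.1 * κ₂ x.2) h : ℂˣ) : ℂ) =
      (∑ x, ((κ₁ x h : ℂˣ) : ℂ)) * (∑ y, ((κ₂ y h : ℂˣ) : ℂ)) := by
    intro h
    rw [Fintype.sum_prod_type, Finset.sum_mul_sum]
    apply Finset.sum_congr rfl
    intro x _
    apply Finset.sum_congr rfl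
    intro y _
    rw [MonoidHom.mul_apply, Units.val_mul]
  refine ⟨S₁ × S₂, inferInstance, fun x => κ₁ x.1 * κ₂ x.2, fun x => ω₁ x.1 * ω₂ x.2,
    c₁ * c₂, ?_, ?_, ?_, ?_, ?_⟩
  · intro x
    rw [mul_pow, hω₁, hω₂, one_mul]
  · intro h
    rcases (Nat.Prime.dvd_mul hp).mp h with h | h
    · exact hc₁ h
    · exact hc₂ h
  · intro h hh
    obtain ⟨ha, hb⟩ := (hiff h).mp hh
    rw [hprod, hs₁ h ha, hs₂ h hb]
    push_cast
    ring
  · intro h hh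
    rw [hprod]
    by_cases ha : ∀ u ∈ U₁, ρ h u = u
    · have hb : ¬ ∀ u ∈ U₂, ρ h u = u := fun hb => hh ((hiff h).mpr ⟨ha, hb⟩)
      rw [hz₂ h hb, mul_zero]
    · rw [hz₁ h ha, zero_mul]
  · intro k hk h
    have e1 : ∑ x : S₁ × S₂, (ω₁ x.1 * ω₂ x.2) ^ k * (((κ₁ x.1 * κ₂ x.2) h : ℂˣ) : ℂ) =
        (∑ x, ω₁ x ^ k * ((κ₁ x h : ℂˣ) : ℂ)) * (∑ y, ω₂ y ^ k * ((κ₂ y h : ℂˣ) : ℂ)) := by
      rw [Fintype.sum_prod_type, Finset.sum_mul_sum]
      apply Finset.sum_congr rfl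
      intro x _
      apply Finset.sum_congr rfl
      intro y _
      rw [MonoidHom.mul_apply, Units.val_mul, mul_pow]
      ring
    rw [e1, norm_mul, mul_pow, card_fix_sup U₁ U₂ hd (ρ h) (hU₁ h) (hU₂ h),
      card_sup_of_disjoint U₁ U₂ hd]
    push_cast
    rw [← hn₁ k hk h, ← hn₂ k hk h]
    ring

end Data

end Cfsg.Agent.Lib.Helper6.Kgv
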