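import Mathlib
import Cfsg.Agent.Lib.Helper6.KgvB

/-! Gauss data for a finite field acted on through a homomorphism into its unit group. -/

set_option autoImplicit false

namespace Cfsg.Agent.Lib.Helper6.Kgv

open scoped ComplexConjugate

universe u

section FieldData

variable (p : ℕ) [Fact p.Prime] {H : Type*} [CommGroup H] {E : Type u} [Field E] [Fintype E] [DecidableEq E]

theorem gaussSum_eq_sum_units (χ : MulChar E ℂ) (Ψ : AddChar E ℂ) :
    gaussSum χ Ψ = ∑ x : Eˣ, χ (x : E) * Ψ (x : E) := by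
  classical
  unfold gaussSum
  rw [← Finset.sum_subset (Finset.subset_univ
    (Finset.univ.map ⟨(Units.val : Eˣ → E), fun _ _ h => Units.ext h⟩))]
  · rw [Finset.sum_map]
    rfl
  · intro a _ ha
    have hnu : ¬ IsUnit a := by
      rintro ⟨x, rfl⟩
      apply ha
      rw [Finset.mem_map]
      exact ⟨x, Finset.mem_univ _, rfl⟩
    rw [MulChar.map_nonunit χ hnu, zero_mul]

theorem norm_sq_of_mul_star {z : ℂ} {n : ℕ} (h : z * star z = (n : ℂ)) : ‖z‖ ^ 2 = (n : ℝ) := by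
  have h1 : z * conj z = ((Complex.normSq z : ℝ) : ℂ) := Complex.mul_conj z
  have h2 : ((Complex.normSq z : ℝ) : ℂ) = ((n : ℝ) : ℂ) := by
    rw [← h1]
    push_cast
    exact h
  have h3 : Complex.normSq z = (n : ℝ) := Complex.ofReal_injective h2
  rw [← Complex.normSq_eq_norm_sq]
  exact h3

theorem field_data (hchar : ∀ x : E, p • x = 0) (ψ : H →* Eˣ) :
    ∃ (κ : Eˣ → (H →* ℂˣ)) (ω : Eˣ → ℂ), (∀ x, ω x ^ p = 1) ∧
      (∀ h, ψ h = 1 → ∑ x, ((κ x h : ℂˣ) : ℂ) = (Fintype.card Eˣ : ℂ)) ∧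
      (∀ h, ψ h ≠ 1 → ∑ x, ((κ x h : ℂˣ) : ℂ) = 0) ∧
      (∀ k : ℕ, ¬ p ∣ k → ∀ h, ψ h = 1 → ‖∑ x, ω x ^ k * ((κ x h : ℂˣ) : ℂ)‖ ^ 2 = 1) ∧
      (∀ k : ℕ, ¬ p ∣ k → ∀ h, ψ h ≠ 1 →
        ‖∑ x, ω x ^ k * ((κ x h : ℂˣ) : ℂ)‖ ^ 2 = (Fintype.card E : ℝ)) := by
  classical
  obtain ⟨φ⟩ := CommGroup.monoidHom_mulEquiv_of_hasEnoughRootsOfUnity Eˣ ℂ
  let Φ : Eˣ →* (Eˣ →* ℂˣ) := φ.symm.toMonoidHom
  have hΦ1 : ∀ a, Φ a = 1 → a = 1 := by
    intro a ha
    have : φ.symm a = φ.symm 1 := by rw [map_one]; exact ha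
    exact φ.symm.injective this
  obtain ⟨Ψ, hΨ⟩ := AddChar.exists_apply_ne_zero.mpr (one_ne_zero : (1 : E) ≠ 0)
  let κ : Eˣ → (H →* ℂˣ) := fun x =>
    { toFun := fun h => Φ (ψ h) x
      map_one' := by simp
      map_mul' := by intro a b; simp [map_mul, MonoidHom.mul_apply] }
  have hκ : ∀ x h, κ x h = Φ (ψ h) x := fun _ _ => rfl
  have hωp : ∀ x : E, Ψ x ^ p = 1 := by
    intro x
    rw [← AddChar.map_nsmul_eq_pow, hchar, AddChar.map_zero_eq_one]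
  have hΨk : ∀ k : ℕ, ¬ p ∣ k → Ψ ^ k ≠ 1 := by
    intro k hk h1
    apply hΨ
    have e1 : Ψ 1 ^ k = 1 := by
      have := DFunLike.congr_fun h1 (1 : E)
      rwa [AddChar.pow_apply, AddChar.one_apply] at this
    have e2 : Ψ 1 ^ p = 1 := hωp 1
    have d1 := orderOf_dvd_of_pow_eq_one e1
    have d2 := orderOf_dvd_of_pow_eq_one e2
    have hcop : Nat.Coprime p k := (Nat.Prime.coprime_iff_not_dvd (Fact.out : p.Prime)).mpr hk
    have d3 : orderOf (Ψ 1) ∣ 1 := by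
      have := Nat.dvd_gcd d2 d1
      rwa [hcop] at this
    exact orderOf_eq_one_iff.mp (Nat.dvd_one.mp d3)
  have hsumG : ∀ k : ℕ, ∀ h, ∑ x : Eˣ, Ψ (x : E) ^ k * ((κ x h : ℂˣ) : ℂ) =
      gaussSum (MulChar.ofUnitHom (Φ (ψ h))) (Ψ ^ k) := by
    intro k h
    rw [gaussSum_eq_sum_units]
    apply Finset.sum_congr rfl
    intro x _
    rw [MulChar.ofUnitHom_coe, AddChar.pow_apply, hκ, mul_comm]
  refine ⟨κ, fun x => Ψ (x : E), fun x => hωp x, ?_, ?_, ?_, ?_⟩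
  · intro h hh
    have : ∀ x, ((κ x h : ℂˣ) : ℂ) = 1 := by
      intro x
      rw [hκ, hh, map_one]
      rfl
    rw [Finset.sum_congr rfl (fun x _ => this x)]
    simp
  · intro h hh
    have hne : Φ (ψ h) ≠ 1 := fun h1 => hh (hΦ1 _ h1)
    have hne' : (Units.coeHom ℂ).comp (Φ (ψ h)) ≠ 1 := by
      intro h1
      apply hne
      ext x
      have := DFunLike.congr_fun h1 x
      simpa using this
    have := sum_hom_units_eq_zero ((Units.coeHom ℂ).comp (Φ (ψ h))) hne'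
    simpa [hκ] using this
  · intro k hk h hh
    show ‖∑ x : Eˣ, Ψ (x : E) ^ k * ((κ x h : ℂˣ) : ℂ)‖ ^ 2 = 1
    rw [hsumG]
    have h1 : MulChar.ofUnitHom (Φ (ψ h)) = (1 : MulChar E ℂ) := by
      apply MulChar.ext
      intro a
      rw [MulChar.ofUnitHom_coe, hh, map_one, MulChar.one_apply_coe]
      rfl
    rw [h1, gaussSum_one_left (hΨk k hk)]
    simp
  · intro k hk h hh
    show ‖∑ x : Eˣ, Ψ (x : E) ^ k * ((κ x h : ℂˣ) : ℂ)‖ ^ 2 = (Fintype.card E : ℝ)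
    rw [hsumG]
    have hne : Φ (ψ h) ≠ 1 := fun h1 => hh (hΦ1 _ h1)
    have hχ : MulChar.ofUnitHom (Φ (ψ h)) ≠ (1 : MulChar E ℂ) := by
      intro h1
      apply hne
      ext x
      have := DFunLike.congr_fun h1 (x : E)
      rw [MulChar.ofUnitHom_coe, MulChar.one_apply_coe] at this
      simpa using this
    apply norm_sq_of_mul_star
    rw [star_gaussSum_eq]
    exact gaussSum_mul_gaussSum_eq_card hχ (AddChar.IsPrimitive.of_ne_one (hΨk k hk))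

end FieldData

end Cfsg.Agent.Lib.Helper6.Kgv
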