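import Mathlib
import Cfsg.Agent.Lib.Helper6.KgvC
import Cfsg.Agent.Lib.Helper4.SelfDualAb4

/-! Gauss data exist on every invariant submodule of a coprime abelian action. -/

set_option autoImplicit false

namespace Cfsg.Agent.Lib.Helper6.Kgv

open scoped ComplexConjugate
open Cfsg.Agent.Lib.Helper4.SelfDualAb

universe u v

section Irr

variable {p : ℕ} [Fact p.Prime] {H : Type u} [CommGroup H] [Finite H]
  {M : Type v} [AddCommGroup M] [Module (ZMod p) M] [Finite M]

theorem prime_dvd_card_of_nontrivial (W : Type*) [AddCommGroup W] [Module (ZMod p) W] [Finite W]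
    [Nontrivial W] : p ∣ Nat.card W := by
  obtain ⟨w, hw⟩ := exists_ne (0 : W)
  have h1 : addOrderOf w = p :=
    addOrderOf_eq_prime (ZModModule.char_nsmul_eq_zero p w) hw
  rw [← h1]
  exact addOrderOf_dvd_natCard w

theorem hasGData_irr (ρ : Representation (ZMod p) H M) (U : Submodule (ZMod p) M)
    (hU : ∀ h : H, ∀ u ∈ U, ρ h u ∈ U) (hne : U ≠ ⊥)
    (hmin : ∀ T : Submodule (ZMod p) M, T ≤ U → (∀ h : H, ∀ t ∈ T, ρ h t ∈ T) → T = ⊥ ∨ T = U) :
    HasGData p ρ U := by
  classical
  let ρU : Representation (ZMod p) H U :=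
    { toFun := fun h => (ρ h).restrict (hU h)
      map_one' := by
        apply LinearMap.ext
        intro w
        apply Subtype.ext
        show ρ 1 (w : M) = w
        rw [map_one]; rfl
      map_mul' := by
        intro a b
        apply LinearMap.ext
        intro w
        apply Subtype.ext
        show ρ (a * b) (w : M) = ρ a (ρ b (w : M))
        rw [map_mul]; rfl }
  have hρU : ∀ h (w : U), ((ρU h w : U) : M) = ρ h (w : M) := fun _ _ => rfl
  haveI : Nontrivial U := Submodule.nontrivial_iff_ne_bot.mpr hne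
  have hirr : ∀ T : Submodule (ZMod p) U, (∀ h : H, ∀ t ∈ T, ρU h t ∈ T) → T = ⊥ ∨ T = ⊤ := by
    intro T hT
    have hle : T.map U.subtype ≤ U := Submodule.map_subtype_le U T
    have hinv : ∀ h : H, ∀ t ∈ T.map U.subtype, ρ h t ∈ T.map U.subtype := by
      rintro h _ ⟨t, ht, rfl⟩
      exact ⟨ρU h t, hT h t ht, rfl⟩
    rcases hmin _ hle hinv with h | h
    · left
      have h2 : T.map U.subtype = (⊥ : Submodule (ZMod p) U).map U.subtype := by
        rw [h, Submodule.map_bot]
      exact Submodule.map_injective_of_injective (Submodule.subtype_injective U) h2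
    · right
      have h2 : T.map U.subtype = (⊤ : Submodule (ZMod p) U).map U.subtype := by
        rw [h, Submodule.map_subtype_top]
      exact Submodule.map_injective_of_injective (Submodule.subtype_injective U) h2
  haveI := kerI_isMaximal ρU hirr
  letI : Field (MonoidAlgebra (ZMod p) H ⧸ kerI ρU) := Ideal.Quotient.field (kerI ρU)
  obtain ⟨ev, hev⟩ := exists_ev ρU hirr (iotaE ρU) (psiE ρU) (iotaE_psiE ρU)
  haveI : Fintype (MonoidAlgebra (ZMod p) H ⧸ kerI ρU) := Fintype.ofFinite _
  have hact : ∀ h b, ρU h (ev b) = ev (psiE ρU h * b) := by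
    intro h b
    rw [hev, iotaE_psiE]
  have hchar : ∀ x : MonoidAlgebra (ZMod p) H ⧸ kerI ρU, p • x = 0 :=
    fun x => ZModModule.char_nsmul_eq_zero p x
  obtain ⟨κ, ω, hω, hs1, hs0, hn1, hn0⟩ := field_data p hchar (psiE ρU).toHomUnits
  have hψ1 : ∀ h, (psiE ρU).toHomUnits h = 1 ↔ psiE ρU h = 1 := by
    intro h
    constructor
    · intro hh
      have := congrArg Units.val hh
      rwa [MonoidHom.coe_toHomUnits, Units.val_one] at this
    · intro hh
      apply Units.ext
      rw [MonoidHom.coe_toHomUnits, Units.val_one, hh]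
  have hfix_iff : ∀ h, (∀ u ∈ U, ρ h u = u) ↔ psiE ρU h = 1 := by
    intro h
    constructor
    · intro hh
      have h1 : ρU h (ev 1) = ev 1 := by
        apply Subtype.ext
        rw [hρU]
        exact hh _ (ev 1).2
      rw [hact, mul_one] at h1
      exact ev.injective h1
    · intro hh u hu
      obtain ⟨b, hb⟩ := ev.surjective ⟨u, hu⟩
      have h1 : ρU h (ev b) = ev b := by rw [hact, hh, one_mul]
      have h2 := congrArg Subtype.val h1
      rw [hρU, hb] at h2
      exact h2
  have hcardE : Nat.card (MonoidAlgebra (ZMod p) H ⧸ kerI ρU) = Nat.card U :=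
    Nat.card_congr ev.toEquiv
  have hfixcard : ∀ h, psiE ρU h ≠ 1 → Nat.card {u : U // ρ h (u : M) = u} = 1 := by
    intro h hh
    have hall : ∀ u : {u : U // ρ h (u : M) = u}, u = ⟨0, by simp⟩ := by
      rintro ⟨u, hu⟩
      apply Subtype.ext
      show u = 0
      obtain ⟨b, hb⟩ := ev.surjective u
      have h1 : ρU h (ev b) = ev b := by
        apply Subtype.ext
        rw [hρU, hb]
        exact hu
      rw [hact] at h1
      have h2 : psiE ρU h * b = b := ev.injective h1
      have h3 : (psiE ρU h - 1) * b = 0 := by rw [sub_mul, one_mul, h2, sub_self]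
      rcases mul_eq_zero.mp h3 with h4 | h4
      · exact absurd (sub_eq_zero.mp h4) hh
      · rw [← hb, h4, map_zero]
    haveI : Subsingleton {u : U // ρ h (u : M) = u} :=
      ⟨fun a b => (hall a).trans (hall b).symm⟩
    haveI : Nonempty {u : U // ρ h (u : M) = u} := ⟨⟨0, by simp⟩⟩
    exact Nat.card_unique
  have hpc : ¬ p ∣ Fintype.card (MonoidAlgebra (ZMod p) H ⧸ kerI ρU)ˣ := by
    rw [Fintype.card_units]
    have h1 : p ∣ Fintype.card (MonoidAlgebra (ZMod p) H ⧸ kerI ρU) := by
      rw [← Nat.card_eq_fintype_card, hcardE]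
      exact prime_dvd_card_of_nontrivial U
    have h2 : 0 < Fintype.card (MonoidAlgebra (ZMod p) H ⧸ kerI ρU) := Fintype.card_pos
    intro h3
    have h4 : p ∣ 1 := by
      have := (Nat.dvd_sub h1 h3)
      have e : Fintype.card (MonoidAlgebra (ZMod p) H ⧸ kerI ρU) -
          (Fintype.card (MonoidAlgebra (ZMod p) H ⧸ kerI ρU) - 1) = 1 := by omega
      rwa [e] at this
    exact (Fact.out : p.Prime).one_lt.ne' (Nat.dvd_one.mp h4)
  refine ⟨(MonoidAlgebra (ZMod p) H ⧸ kerI ρU)ˣ, inferInstance, κ, ω,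
    Fintype.card (MonoidAlgebra (ZMod p) H ⧸ kerI ρU)ˣ, hω, hpc, ?_, ?_, ?_⟩
  · intro h hh
    exact hs1 h ((hψ1 h).mpr ((hfix_iff h).mp hh))
  · intro h hh
    apply hs0 h
    intro h1
    exact hh ((hfix_iff h).mpr ((hψ1 h).mp h1))
  · intro k hk h
    by_cases hh : psiE ρU h = 1
    · rw [hn1 k hk h ((hψ1 h).mpr hh), one_mul]
      have : Nat.card {u : U // ρ h (u : M) = u} = Nat.card U := by
        apply Nat.card_congr
        exact Equiv.subtypeUnivEquiv (fun u => (hfix_iff h).mpr hh u u.2)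
      rw [this]
    · rw [hn0 k hk h (fun h1 => hh ((hψ1 h).mp h1)), hfixcard h hh,
        ← Nat.card_eq_fintype_card, hcardE]
      simp

end Irr

section All

variable {p : ℕ} [Fact p.Prime] {H : Type u} [CommGroup H] [Finite H]
  {M : Type v} [AddCommGroup M] [Module (ZMod p) M] [Finite M]

theorem hasGData_all (hH : ¬ p ∣ Nat.card H) (ρ : Representation (ZMod p) H M) :
    ∀ n : ℕ, ∀ U : Submodule (ZMod p) M, Nat.card U = n →
      (∀ h : H, ∀ u ∈ U, ρ h u ∈ U) → HasGData p ρ U := by
  classical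
  haveI : Fintype H := Fintype.ofFinite H
  have hp : p.Prime := Fact.out
  have hHF : (Fintype.card H : ZMod p) ≠ 0 := by
    intro h0
    apply hH
    rw [Nat.card_eq_fintype_card]
    exact (ZMod.natCast_eq_zero_iff _ _).mp h0
  intro n
  induction n using Nat.strong_induction_on with
  | _ n ih =>
    intro U hn hU
    by_cases hb : U = ⊥
    · apply hasGData_of_trivial hp.ne_one
      intro h u hu
      rw [hb, Submodule.mem_bot] at hu
      rw [hu, map_zero]
    by_cases hmin : ∀ T : Submodule (ZMod p) M, T ≤ U → (∀ h : H, ∀ t ∈ T, ρ h t ∈ T) →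
        T = ⊥ ∨ T = U
    · exact hasGData_irr ρ U hU hb hmin
    · push Not at hmin
      obtain ⟨T, hTU, hT, hTb, hTne⟩ := hmin
      obtain ⟨C, hC, hTC⟩ := exists_invariant_compl ρ hHF T hT
      have hT'inv : ∀ h : H, ∀ u ∈ C ⊓ U, ρ h u ∈ C ⊓ U := by
        intro h u hu
        exact ⟨hC h u hu.1, hU h u hu.2⟩
      have hd : Disjoint T (C ⊓ U) := hTC.disjoint.mono_right inf_le_left
      have hsup : T ⊔ C ⊓ U = U := by
        rw [← sup_inf_assoc_of_le C hTU, hTC.sup_eq_top, top_inf_eq]
      have hcard : Nat.card U = Nat.card T * Nat.card ↥(C ⊓ U) := by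
        rw [← card_sup_of_disjoint T (C ⊓ U) hd, hsup]
      have hT'b : C ⊓ U ≠ ⊥ := by
        intro h0
        apply hTne
        rw [h0, sup_bot_eq] at hsup
        exact hsup
      haveI : Nontrivial T := Submodule.nontrivial_iff_ne_bot.mpr hTb
      haveI : Nontrivial ↥(C ⊓ U) := Submodule.nontrivial_iff_ne_bot.mpr hT'b
      have h1 : 1 < Nat.card T := Finite.one_lt_card
      have h2 : 1 < Nat.card ↥(C ⊓ U) := Finite.one_lt_card
      have hlt1 : Nat.card T < n := by rw [← hn, hcard]; nlinarith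
      have hlt2 : Nat.card ↥(C ⊓ U) < n := by rw [← hn, hcard]; nlinarith
      have d1 := ih _ hlt1 T rfl hT
      have d2 := ih _ hlt2 (C ⊓ U) rfl hT'inv
      have := hasGData_sup hp ρ T (C ⊓ U) hT hT'inv hd d1 d2
      rwa [hsup] at this

/-- Gauss data for the whole module. -/
theorem hasGData_top (hH : ¬ p ∣ Nat.card H) (ρ : Representation (ZMod p) H M) :
    HasGData p ρ ⊤ :=
  hasGData_all hH ρ _ ⊤ rfl (fun _ _ _ => Submodule.mem_top)

end All

end Cfsg.Agent.Lib.Helper6.Kgv
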