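import Mathlib
import Cfsg.Agent.Lib.Helper6.KgvE
import Cfsg.Agent.Lib.Helper6.KgvG
import Cfsg.Agent.Lib.Helper6.Ito
import Cfsg.Agent.Lib.Helper6.ClassCount
import Cfsg.Agent.Lib.Helper6.IrrBasis
import Cfsg.Agent.Lib.Helper6.RepBasic

/-! The class number bound from Gauss data on the abelian stabilizer. -/

set_option autoImplicit false

namespace Cfsg.Agent.Lib.Helper6.Kgv

open scoped ComplexConjugate
open Cfsg.Agent.Lib.Helper6

universe u

section Main

variable {X : Type u} [Group X] [Finite X] {p : ℕ} [Fact p.Prime]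
  {V G H : Subgroup X} {v : X}

theorem Config.pow (c : Config p V G H v) {k : ℕ} (hk : ¬ p ∣ k) :
    Config p V G H (v ^ k) := by
  have hp : p.Prime := Fact.out
  have hcop : Nat.Coprime k (orderOf v) := by
    have h1 : orderOf v ∣ p := orderOf_dvd_of_pow_eq_one (c.hVexp v c.hu)
    have h2 : Nat.Coprime k p := ((Nat.Prime.coprime_iff_not_dvd hp).mpr hk).symm
    exact Nat.Coprime.coprime_dvd_right h1 h2
  obtain ⟨m, hm⟩ := exists_pow_eq_self_of_coprime hcop
  exact
    { normal := c.normal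
      hVab := c.hVab
      hVexp := c.hVexp
      hGp := c.hGp
      hGV := c.hGV
      hu := pow_mem c.hu k
      hHG := c.hHG
      hHu := fun h hh => ((show Commute h v from c.hHu h hh).pow_right k).eq
      hHmax := fun g hg hgv => by
        apply c.hHmax g hg
        have h1 : Commute g (v ^ k) := hgv
        have h2 := h1.pow_right m
        rw [hm] at h2
        exact h2.eq
      hHab := c.hHab }

/-- Gauss data on the stabilizer, phrased inside the group. -/
structure GD (p : ℕ) (V H : Subgroup X) {S : Type u} [Fintype S] (κ : S → (H →* ℂˣ))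
    (ω : S → ℂ) (cS : ℕ) : Prop where
  hω : ∀ x, ω x ^ p = 1
  hc : ¬ p ∣ cS
  h1 : ∑ x, ((κ x 1 : ℂˣ) : ℂ) = (cS : ℂ)
  h0 : ∀ h : H, h ≠ 1 → ∑ x, ((κ x h : ℂˣ) : ℂ) = 0
  hn : ∀ k : ℕ, ¬ p ∣ k → ∀ h : H,
      ‖∑ x, ω x ^ k * ((κ x h : ℂˣ) : ℂ)‖ ^ 2 *
        (Nat.card {w : V // (w : X) * (h : X) = (h : X) * w} : ℝ) = (Nat.card V : ℝ)

theorem Config.chi_bound (c : Config p V G H v) {S : Type u} [Fintype S]
    {κ : S → (H →* ℂˣ)} {ω : S → ℂ} {cS : ℕ} (gd : GD p V H κ ω cS) [Fintype H]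
    {χ : X → ℂ} (hχ : Cfsg.IsIrrCharacter X χ) :
    ((p : ℝ) - 1) * (Nat.card H : ℝ) ^ 2 ≤
      ∑ k ∈ Finset.Ico 1 p,
        ‖∑ h : H, χ (v ^ k * h) * conj (∑ x, ω x ^ k * ((κ x h : ℂˣ) : ℂ))‖ ^ 2 := by
  classical
  have hp : p.Prime := Fact.out
  set K : Subgroup X := Subgroup.closure (insert v (H : Set X)) with hK
  have hKcomm : ∀ a ∈ K, ∀ b ∈ K, a * b = b * a := by
    have hS : ∀ x ∈ insert v (H : Set X), ∀ y ∈ insert v (H : Set X), x * y = y * x := by
      intro x hx y hy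
      rcases hx with rfl | hx <;> rcases hy with rfl | hy
      · rfl
      · exact (c.hHu y hy).symm
      · exact c.hHu x hx
      · exact c.hHab x hx y hy
    haveI := Subgroup.isMulCommutative_closure hS
    intro a ha b hb
    exact setLike_mul_comm ha hb
  have hvK : v ∈ K := Subgroup.subset_closure (Set.mem_insert _ _)
  have hHK : H ≤ K := fun h hh => Subgroup.subset_closure (Set.mem_insert_of_mem _ hh)
  obtain ⟨ι, fι, m, Λ, hΛ⟩ := exists_linear_decomp (IsIrrCharacter.isCharacter hχ) K hKcomm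
  set j : H →* K := Subgroup.inclusion hHK with hj
  set vK : K := ⟨v, hvK⟩ with hvKdef
  set n : ι × S → ℕ := fun t => if (Λ t.1).comp j = κ t.2 then m t.1 else 0 with hn
  set ωT : ι × S → ℂ := fun t => ((Λ t.1 vK : ℂˣ) : ℂ) * conj (ω t.2) with hωT
  have hvKp : vK ^ p = 1 := by
    apply Subtype.ext
    rw [Subgroup.coe_pow, Subgroup.coe_one]
    exact c.hVexp v c.hu
  have hωTp : ∀ t, ωT t ^ p = 1 := by
    intro t
    simp only [hωT, mul_pow]
    rw [← Units.val_pow_eq_pow_val, ← map_pow, hvKp, map_one, Units.val_one, ← map_pow,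
      gd.hω, map_one, one_mul]
  have key : ∀ k : ℕ,
      ∑ h : H, χ (v ^ k * h) * conj (∑ x, ω x ^ k * ((κ x h : ℂˣ) : ℂ)) =
        (Fintype.card H : ℂ) * ∑ t : ι × S, (n t : ℂ) * ωT t ^ k := by
    intro k
    have e1 : ∀ h : H, χ (v ^ k * h) * conj (∑ x, ω x ^ k * ((κ x h : ℂˣ) : ℂ)) =
        ∑ t : ι × S, ((m t.1 : ℂ) * ωT t ^ k) *
          (((((Λ t.1).comp j) h : ℂˣ) : ℂ) * conj ((κ t.2 h : ℂˣ) : ℂ)) := by
      intro h
      have hx : v ^ k * (h : X) = ((vK ^ k * j h : K) : X) := rfl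
      rw [hx, hΛ, map_sum, Fintype.sum_prod_type, Finset.sum_mul_sum]
      apply Finset.sum_congr rfl
      intro i _
      apply Finset.sum_congr rfl
      intro x _
      simp only [hωT, map_mul, map_pow, Units.val_mul, Units.val_pow_eq_pow_val,
        MonoidHom.comp_apply, mul_pow]
      ring
    rw [Finset.sum_congr rfl (fun h _ => e1 h), Finset.sum_comm, Finset.mul_sum]
    apply Finset.sum_congr rfl
    intro t _
    rw [← Finset.mul_sum, hom_orth]
    simp only [hn]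
    split_ifs with h
    · ring
    · simp
  -- the multiplicity count
  obtain ⟨d, hd1, hd2⟩ := ito_aux (Nat.card X) X rfl V c.normal c.hVab χ hχ
  have hNeq : (∑ t, n t) * Fintype.card H = d * cS := by
    have h0 := key 0
    simp only [pow_zero, one_mul, mul_one] at h0
    rw [Finset.sum_eq_single (1 : H)] at h0
    · rw [gd.h1, Subgroup.coe_one, hd1, Complex.conj_natCast] at h0
      have h2 : ((d * cS : ℕ) : ℂ) = (((∑ t, n t) * Fintype.card H : ℕ) : ℂ) := by
        push_cast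
        rw [h0]
        ring
      exact (Nat.cast_injective h2).symm
    · intro h _ hne
      rw [gd.h0 h hne, map_zero, mul_zero]
    · intro hh
      exact absurd (Finset.mem_univ _) hh
  have hpd : ¬ p ∣ d := by
    intro h
    apply c.hGp
    rw [← c.hGV.symm.index_eq_card]
    exact dvd_trans h hd2
  have hN : ¬ p ∣ ∑ t, n t := by
    intro h
    have h2 : p ∣ d * cS := by
      rw [← hNeq]
      exact dvd_mul_of_dvd_left h _
    rcases (Nat.Prime.dvd_mul hp).mp h2 with h3 | h3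
    · exact hpd h3
    · exact gd.hc h3
  have hru := ru_bound p n ωT hωTp hN
  have e2 : ∀ k ∈ Finset.Ico 1 p,
      ‖∑ h : H, χ (v ^ k * h) * conj (∑ x, ω x ^ k * ((κ x h : ℂˣ) : ℂ))‖ ^ 2 =
        (Nat.card H : ℝ) ^ 2 * ‖∑ t : ι × S, (n t : ℂ) * ωT t ^ k‖ ^ 2 := by
    intro k _
    rw [key k, norm_mul, mul_pow, Complex.norm_natCast, Nat.card_eq_fintype_card]
  rw [Finset.sum_congr rfl e2, ← Finset.mul_sum, mul_comm]
  apply mul_le_mul_of_nonneg_left hru
  positivity

theorem Config.class_bound (c : Config p V G H v) {S : Type u} [Fintype S]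
    {κ : S → (H →* ℂˣ)} {ω : S → ℂ} {cS : ℕ} (gd : GD p V H κ ω cS) :
    Nat.card (ConjClasses X) ≤ Nat.card V := by
  classical
  haveI : Fintype H := Fintype.ofFinite H
  haveI : Fintype (Cfsg.IrrCharacter X) := Fintype.ofFinite _
  rw [← card_irrCharacter]
  have hp : p.Prime := Fact.out
  have hlow : (Nat.card (Cfsg.IrrCharacter X) : ℝ) * (((p : ℝ) - 1) * (Nat.card H : ℝ) ^ 2) ≤
      ∑ χ : Cfsg.IrrCharacter X, ∑ k ∈ Finset.Ico 1 p,
        ‖∑ h : H, (χ : X → ℂ) (v ^ k * h) *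
          conj (∑ x, ω x ^ k * ((κ x h : ℂˣ) : ℂ))‖ ^ 2 := by
    rw [Nat.card_eq_fintype_card, ← nsmul_eq_mul, ← Finset.card_univ, ← Finset.sum_const]
    apply Finset.sum_le_sum
    intro χ _
    exact c.chi_bound gd χ.2
  have hup : ∑ χ : Cfsg.IrrCharacter X, ∑ k ∈ Finset.Ico 1 p,
        ‖∑ h : H, (χ : X → ℂ) (v ^ k * h) *
          conj (∑ x, ω x ^ k * ((κ x h : ℂˣ) : ℂ))‖ ^ 2 =
      ((p : ℝ) - 1) * ((Nat.card H : ℝ) ^ 2 * Nat.card V) := by
    rw [Finset.sum_comm]
    have h1 : ∀ k ∈ Finset.Ico 1 p, ∑ χ : Cfsg.IrrCharacter X,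
        ‖∑ h : H, (χ : X → ℂ) (v ^ k * h) *
          conj (∑ x, ω x ^ k * ((κ x h : ℂˣ) : ℂ))‖ ^ 2 =
        (Nat.card H : ℝ) ^ 2 * Nat.card V := by
      intro k hk
      have hk' : ¬ p ∣ k := by
        rw [Finset.mem_Ico] at hk
        intro hd
        have := Nat.le_of_dvd (by omega) hd
        omega
      rw [(c.pow hk').sum_sq (fun h => ∑ x, ω x ^ k * ((κ x h : ℂˣ) : ℂ))]
      have h2 : ∀ h : H, (Nat.card {w : V // (w : X) * (h : X) = (h : X) * w} : ℝ) *
          ‖∑ x, ω x ^ k * ((κ x h : ℂˣ) : ℂ)‖ ^ 2 = Nat.card V := fun h => by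
        rw [mul_comm]
        exact gd.hn k hk' h
      rw [Finset.sum_congr rfl (fun h _ => h2 h), Finset.sum_const, Finset.card_univ,
        nsmul_eq_mul, ← Nat.card_eq_fintype_card]
      ring
    rw [Finset.sum_congr rfl h1, Finset.sum_const, Nat.card_Ico, nsmul_eq_mul,
      Nat.cast_sub hp.one_le, Nat.cast_one]
  have hpos : 0 < ((p : ℝ) - 1) * (Nat.card H : ℝ) ^ 2 := by
    have h1 : (1 : ℝ) < p := by exact_mod_cast hp.one_lt
    have h2 : (0 : ℝ) < Nat.card H := by exact_mod_cast Nat.card_pos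
    apply mul_pos
    · linarith
    · positivity
  have hfin : (Nat.card (Cfsg.IrrCharacter X) : ℝ) * (((p : ℝ) - 1) * (Nat.card H : ℝ) ^ 2) ≤
      (Nat.card V : ℝ) * (((p : ℝ) - 1) * (Nat.card H : ℝ) ^ 2) := by
    calc _ ≤ _ := hlow
      _ = _ := by rw [hup]; ring
  have := le_of_mul_le_mul_right hfin hpos
  exact_mod_cast this

end Main

end Cfsg.Agent.Lib.Helper6.Kgv
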