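import Mathlib
import Cfsg.Agent.Lib.Helper6.KgvD
import Cfsg.Agent.Lib.Helper6.KgvH

/-! From the group configuration to Gauss data: the normal subgroup as a module over the
prime field, with the stabilizer acting by conjugation. -/

set_option autoImplicit false

namespace Cfsg.Agent.Lib.Helper6.Kgv

open scoped ComplexConjugate

universe u

section Bridge

variable {X : Type u} [Group X] {p : ℕ} [Fact p.Prime]
  {V G H : Subgroup X} {v : X}

/-- the normal subgroup, written additively -/
def Config.Mod (_c : Config p V G H v) : Type u := Additive V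

/-- the stabilizer as an abstract group -/
def Config.Stab (_c : Config p V G H v) : Type u := H

namespace Config

variable (c : Config p V G H v)

instance instAddCommGroupMod : AddCommGroup c.Mod :=
  { (inferInstance : AddGroup (Additive V)) with
    add_comm := fun a b => by
      apply Additive.toMul.injective
      apply Subtype.ext
      exact c.hVab _ (Additive.toMul a).2 _ (Additive.toMul b).2 }

theorem mod_nsmul (x : c.Mod) : p • x = 0 := by
  have h1 : x = Additive.ofMul (Additive.toMul x) := rfl
  have h2 : (Additive.toMul x : V) ^ p = 1 := by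
    apply Subtype.ext
    rw [Subgroup.coe_pow, Subgroup.coe_one]
    exact c.hVexp _ (Additive.toMul x : V).2
  rw [h1]
  exact (ofMul_pow p (Additive.toMul x : V)).symm.trans (by rw [h2]; rfl)

instance instModuleMod : Module (ZMod p) c.Mod := AddCommGroup.zmodModule c.mod_nsmul

instance instFiniteMod [Finite X] : Finite c.Mod := (inferInstance : Finite (Additive V))

instance instCommGroupStab : CommGroup c.Stab :=
  { (inferInstance : Group H) with
    mul_comm := fun a b => Subtype.ext (c.hHab a.1 a.2 b.1 b.2) }

instance instFiniteStab [Finite X] : Finite c.Stab := (inferInstance : Finite H)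

/-- conjugation as a linear map -/
def conjLin (g : X) : c.Mod →ₗ[ZMod p] c.Mod :=
  AddMonoidHom.toZModLinearMap p
    (show c.Mod →+ c.Mod from
      MonoidHom.toAdditive ((@MulAut.conjNormal X _ V c.normal g : MulAut V).toMonoidHom))

theorem conjLin_apply (g : X) (w : c.Mod) :
    ((Additive.toMul (c.conjLin g w) : V) : X) = g * ((Additive.toMul w : V) : X) * g⁻¹ :=
  rfl

/-- the conjugation representation of the stabilizer -/
def rho : c.Stab →* Module.End (ZMod p) c.Mod where
  toFun h := c.conjLin ((show H from h) : X)
  map_one' := by
    apply LinearMap.ext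
    intro w
    apply Additive.toMul.injective
    apply Subtype.ext
    rw [conjLin_apply, Module.End.one_apply]
    have : (((show H from (1 : c.Stab)) : H) : X) = 1 := rfl
    rw [this]
    simp
  map_mul' := by
    intro a b
    apply LinearMap.ext
    intro w
    apply Additive.toMul.injective
    apply Subtype.ext
    rw [conjLin_apply, Module.End.mul_apply, conjLin_apply, conjLin_apply]
    have : (((show H from (a * b : c.Stab)) : H) : X) =
      ((show H from a) : X) * ((show H from b) : X) := rfl
    rw [this]
    group

theorem rho_apply (h : c.Stab) (w : c.Mod) :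
    ((Additive.toMul (c.rho h w) : V) : X) =
      ((show H from h) : X) * ((Additive.toMul w : V) : X) * ((show H from h) : X)⁻¹ :=
  rfl

include c in
theorem exists_gd [Finite X] (hself : Subgroup.centralizer (V : Set X) = V) :
    ∃ (S : Type u) (_ : Fintype S) (κ : S → (H →* ℂˣ)) (ω : S → ℂ) (cS : ℕ),
      GD p V H κ ω cS := by
  classical
  have hH : ¬ p ∣ Nat.card c.Stab := by
    intro hd
    apply c.hGp
    exact dvd_trans hd (Subgroup.card_dvd_of_le c.hHG)
  obtain ⟨S, fS, κ, ω, cS, hω, hc, hs, hz, hn⟩ := hasGData_top hH c.rho
  refine ⟨S, fS, κ, ω, cS, ⟨hω, hc, ?_, ?_, ?_⟩⟩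
  · apply hs (1 : c.Stab)
    intro u _
    rw [map_one]
    rfl
  · intro h hne
    apply hz (h : c.Stab)
    intro hall
    apply hne
    have h1 : (h : X) ∈ Subgroup.centralizer (V : Set X) := by
      rw [Subgroup.mem_centralizer_iff]
      intro w hw
      have h2 := hall (Additive.ofMul (⟨w, hw⟩ : V) : c.Mod) Submodule.mem_top
      have h3 : (h : X) * w * (h : X)⁻¹ = w :=
        congrArg (fun z : c.Mod => ((Additive.toMul z : V) : X)) h2
      calc w * h = ((h : X) * w * (h : X)⁻¹) * h := by rw [h3]
        _ = h * w := by group
    rw [hself] at h1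
    have h3 : (h : X) ∈ V ⊓ G := ⟨h1, c.hHG h.2⟩
    rw [c.hGV.disjoint.eq_bot] at h3
    exact Subtype.ext (Subgroup.mem_bot.mp h3)
  · intro k hk h
    have e := hn k hk (h : c.Stab)
    have ecard : Nat.card {u : (⊤ : Submodule (ZMod p) c.Mod) //
        c.rho (h : c.Stab) (u : c.Mod) = u} =
        Nat.card {w : V // (w : X) * (h : X) = (h : X) * w} := by
      apply Nat.card_congr
      refine Equiv.subtypeEquiv
        ((Submodule.topEquiv (R := ZMod p) (M := c.Mod)).toEquiv.trans
          (show c.Mod ≃ V from Additive.toMul)) ?_
      intro a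
      have hx := c.rho_apply (h : c.Stab) (a : c.Mod)
      constructor
      · intro h1
        have h2 : (h : X) * ((Additive.toMul (a : c.Mod) : V) : X) * (h : X)⁻¹ =
            ((Additive.toMul (a : c.Mod) : V) : X) := by
          have hx' := hx
          rw [h1] at hx'
          exact hx'.symm
        show ((Additive.toMul (a : c.Mod) : V) : X) * h =
          h * ((Additive.toMul (a : c.Mod) : V) : X)
        calc ((Additive.toMul (a : c.Mod) : V) : X) * h
            = ((h : X) * ((Additive.toMul (a : c.Mod) : V) : X) * (h : X)⁻¹) * h := by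
              rw [h2]
          _ = h * ((Additive.toMul (a : c.Mod) : V) : X) := by group
      · intro h1
        have h1' : ((Additive.toMul (a : c.Mod) : V) : X) * h =
          h * ((Additive.toMul (a : c.Mod) : V) : X) := h1
        apply Additive.toMul.injective
        apply Subtype.ext
        refine hx.trans ?_
        show (h : X) * ((Additive.toMul (a : c.Mod) : V) : X) * (h : X)⁻¹ = _
        calc (h : X) * ((Additive.toMul (a : c.Mod) : V) : X) * (h : X)⁻¹
            = (((Additive.toMul (a : c.Mod) : V) : X) * h) * (h : X)⁻¹ := by rw [h1']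
          _ = ((Additive.toMul (a : c.Mod) : V) : X) := by group
    have etop : Nat.card (⊤ : Submodule (ZMod p) c.Mod) = Nat.card V :=
      Nat.card_congr ((Submodule.topEquiv (R := ZMod p) (M := c.Mod)).toEquiv.trans
          (show c.Mod ≃ V from Additive.toMul))
    rw [ecard, etop] at e
    exact e

end Config

end Bridge

end Cfsg.Agent.Lib.Helper6.Kgv
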