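import Mathlib
import Cfsg.Agent.Lib.Helper6.KleinFour
import Cfsg.Agent.Lib.Helper6.KleinFus
import Cfsg.Agent.Lib.Helper6.KleinFourBlock
import Cfsg.Agent.Lib.Helper6.ClassSum
import Cfsg.Agent.Lib.Helper6.BlkCover

set_option autoImplicit false
set_option linter.unusedSectionVars false
open Cfsg
open scoped Pointwise

namespace Cfsg.Agent.Lib.Helper6

section

variable {C : Type*} [Group C] [Finite C]

/-- In a group with a central involution lying in a Klein four Sylow `2`-subgroup the
`2'`-core has index four. -/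
theorem index_pPrimeCore_of_central_involution (Q : Sylow 2 C)
    (hQ : IsKleinFour (Q : Subgroup C)) (z : C) (hzQ : z ∈ (Q : Subgroup C))
    (hz2 : orderOf z = 2) (hzc : ∀ g : C, g * z = z * g) :
    (Cfsg.pPrimeCore 2 C).index = 4 := by
  classical
  have : Fact (Nat.Prime 2) := ⟨Nat.prime_two⟩
  have hNC := normalizer_le_centralizer_of_kleinFour Q hQ z hzQ hz2 hzc
  obtain ⟨K, hK⟩ : ∃ K : Subgroup C, K = (MonoidHom.transferSylow Q hNC).ker := ⟨_, rfl⟩
  have hcompl : Subgroup.IsComplement' K (Q : Subgroup C) := by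
    rw [hK]
    exact MonoidHom.ker_transferSylow_isComplement' Q hNC
  have hKidx : K.index = 4 := by
    rw [hcompl.symm.index_eq_card]
    exact hQ.card_four
  have hKcop : (Nat.card K).Coprime 2 := by
    rw [Nat.coprime_comm, Nat.Prime.coprime_iff_not_dvd Nat.prime_two, hK]
    exact MonoidHom.not_dvd_card_ker_transferSylow Q hNC
  have hKn : K.Normal := by
    rw [hK]
    exact MonoidHom.normal_ker _
  have hle : K ≤ Cfsg.pPrimeCore 2 C := le_sSup ⟨hKn, hKcop⟩
  have hdvd := Subgroup.index_dvd_of_le hle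
  rw [hKidx] at hdvd
  obtain ⟨hNn, hNc⟩ := pPrimeCore_normal_and_coprime (G := C) 2
  -- `4` divides the index
  have h1 := (Cfsg.pPrimeCore 2 C).card_mul_index
  have h2 : 4 ∣ Nat.card C := by
    rw [← hQ.card_four]
    exact Subgroup.card_subgroup_dvd_card _
  rw [← h1] at h2
  have h3 : Nat.Coprime 4 (Nat.card (Cfsg.pPrimeCore 2 C)) := by
    have : (4 : ℕ) = 2 ^ 2 := by norm_num
    rw [this]
    exact Nat.Coprime.pow_left 2 hNc.symm
  have h4 : 4 ∣ (Cfsg.pPrimeCore 2 C).index := h3.dvd_of_dvd_mul_left h2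
  exact Nat.dvd_antisymm hdvd h4

/-- counting pairs of involutions with product in the coset `z · O_{2'}(C)` -/
theorem kleinFour_count_pairs (Q : Sylow 2 C) (hQ : IsKleinFour (Q : Subgroup C))
    (z a : C) (hzQ : z ∈ (Q : Subgroup C)) (haQ : a ∈ (Q : Subgroup C)) (hz2 : orderOf z = 2)
    (ha1 : a ≠ 1) (haz : a ≠ z) (hzc : ∀ g : C, g * z = z * g) :
    Nat.card {p : C × C // orderOf p.1 = 2 ∧ orderOf p.2 = 2 ∧
        z⁻¹ * (p.1 * p.2) ∈ Cfsg.pPrimeCore 2 C}
      * Nat.card (Subgroup.centralizer ({a} : Set C)) ^ 2 = 2 * Nat.card C ^ 2 := by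
  classical
  have : Fact (Nat.Prime 2) := ⟨Nat.prime_two⟩
  have : Fintype C := Fintype.ofFinite C
  have : Fintype ↥(Q : Subgroup C) := Fintype.ofFinite _
  obtain ⟨hKn, hKc⟩ := pPrimeCore_normal_and_coprime (G := C) 2
  obtain ⟨K, hKdef⟩ : ∃ K : Subgroup C, K = Cfsg.pPrimeCore 2 C := ⟨_, rfl⟩
  rw [← hKdef] at hKn hKc ⊢
  have hidx : K.index = 4 := by
    rw [hKdef]; exact index_pPrimeCore_of_central_involution Q hQ z hzQ hz2 hzc
  -- the quotient is commutative
  have hqcard : Nat.card (C ⧸ K) = 2 ^ 2 := by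
    rw [← Subgroup.index_eq_card, hidx]; norm_num
  have hqcomm : ∀ s t : C ⧸ K, s * t = t * s :=
    (IsPGroup.isMulCommutative_of_card_eq_prime_sq hqcard).is_comm.comm
  have hF1 : ∀ c x : C, ((c * x * c⁻¹ : C) : C ⧸ K) = (x : C ⧸ K) := by
    intro c x
    rw [QuotientGroup.mk_mul, QuotientGroup.mk_mul, QuotientGroup.mk_inv, hqcomm (c : C ⧸ K),
      mul_inv_cancel_right]
  -- `Q` meets `K` trivially
  have hF2 : ∀ q ∈ (Q : Subgroup C), q ∈ K → q = 1 := by
    intro q hq hqK
    have h1 : orderOf q ∣ Nat.card K := by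
      have := orderOf_dvd_natCard (⟨q, hqK⟩ : K)
      rwa [← Subgroup.orderOf_coe] at this
    have h2 : orderOf q ∣ 4 := by
      rw [← hQ.card_four]
      have := orderOf_dvd_natCard (⟨q, hq⟩ : (Q : Subgroup C))
      rwa [← Subgroup.orderOf_coe] at this
    have h3 : Nat.Coprime (Nat.card K) 4 := by
      have : (4 : ℕ) = 2 ^ 2 := by norm_num
      rw [this]
      exact Nat.Coprime.pow_right 2 hKc
    have h4 : orderOf q = 1 := Nat.eq_one_of_dvd_coprimes h3 h1 h2
    exact orderOf_eq_one_iff.mp h4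
  -- involutions and commutation in `Q`
  have hzz : z * z = 1 := by rw [← sq, ← hz2, pow_orderOf_eq_one]
  have ha2 : orderOf a = 2 := orderOf_eq_two_of_kleinFour _ hQ a haQ ha1
  have haa : a * a = 1 := by rw [← sq, ← ha2, pow_orderOf_eq_one]
  have hz1 : z ≠ 1 := by
    intro h
    rw [h, orderOf_one] at hz2
    norm_num at hz2
  have hazQ : a * z ∈ (Q : Subgroup C) := Subgroup.mul_mem _ haQ hzQ
  have haz1 : a * z ≠ 1 := by
    intro h
    apply haz
    calc a = a * (z * z) := by rw [hzz, mul_one]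
      _ = (a * z) * z := by group
      _ = z := by rw [h, one_mul]
  have hazo : orderOf (a * z) = 2 := orderOf_eq_two_of_kleinFour _ hQ _ hazQ haz1
  -- enumeration of `Q`
  have henum : ∀ y ∈ (Q : Subgroup C), y = 1 ∨ y = z ∨ y = a ∨ y = a * z := by
    intro y hy
    obtain ⟨T, hT⟩ : ∃ T : Finset ↥(Q : Subgroup C), T
        = {(1 : ↥(Q : Subgroup C)), ⟨z, hzQ⟩, ⟨a, haQ⟩, ⟨a * z, hazQ⟩} := ⟨_, rfl⟩
    have hTcard : T.card = 4 := by
      rw [hT]
      rw [Finset.card_insert_of_notMem, Finset.card_insert_of_notMem,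
        Finset.card_insert_of_notMem, Finset.card_singleton]
      · simp only [Finset.mem_singleton, Subtype.mk.injEq]
        intro h
        apply hz1
        calc z = a⁻¹ * (a * z) := by group
          _ = a⁻¹ * a := by rw [← h]
          _ = 1 := by group
      · simp only [Finset.mem_insert, Finset.mem_singleton, Subtype.mk.injEq, not_or]
        refine ⟨fun h => haz h.symm, ?_⟩
        intro h
        apply ha1
        calc a = (a * z) * z⁻¹ := by group
          _ = z * z⁻¹ := by rw [← h]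
          _ = 1 := by group
      · simp only [Finset.mem_insert, Finset.mem_singleton, not_or]
        refine ⟨?_, ?_, ?_⟩
        · intro h; exact hz1 (congrArg Subtype.val h).symm
        · intro h; exact ha1 (congrArg Subtype.val h).symm
        · intro h; exact haz1 (congrArg Subtype.val h).symm
    have hTuniv : T = Finset.univ := by
      apply Finset.eq_univ_of_card
      rw [hTcard, ← Nat.card_eq_fintype_card, hQ.card_four]
    have hyT : (⟨y, hy⟩ : ↥(Q : Subgroup C)) ∈ T := by rw [hTuniv]; exact Finset.mem_univ _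
    rw [hT] at hyT
    simp only [Finset.mem_insert, Finset.mem_singleton, Subtype.mk.injEq] at hyT
    rcases hyT with h | h | h | h
    · left; exact congrArg Subtype.val h
    · right; left; exact h
    · right; right; left; exact h
    · right; right; right; exact h
  -- Sylow: involutions are conjugate into `Q`
  have hF3 : ∀ x : C, orderOf x = 2 → ∃ c : C, ∃ q ∈ (Q : Subgroup C), q ≠ 1 ∧ x = c * q * c⁻¹ := by
    intro x hx
    have hP : IsPGroup 2 (Subgroup.zpowers x) := by
      apply IsPGroup.of_card (n := 1)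
      rw [Nat.card_zpowers, hx, pow_one]
    obtain ⟨Q', hQ'⟩ := hP.exists_le_sylow
    obtain ⟨c, hc⟩ := MulAction.exists_smul_eq C Q Q'
    have hxQ' : x ∈ (Q' : Subgroup C) := hQ' (Subgroup.mem_zpowers x)
    rw [← hc, Sylow.coe_subgroup_smul, Subgroup.mem_smul_pointwise_iff_exists] at hxQ'
    obtain ⟨q, hq, hqx⟩ := hxQ'
    refine ⟨c, q, hq, ?_, ?_⟩
    · rintro rfl
      rw [smul_one] at hqx
      rw [← hqx, orderOf_one] at hx
      norm_num at hx
    · rw [← hqx, MulAut.smul_def, MulAut.conj_apply]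
  -- the classes
  obtain ⟨cl, hcl⟩ : ∃ cl : C → Finset C, ∀ q, cl q = Finset.univ.filter (fun x : C => IsConj q x) :=
    ⟨_, fun _ => rfl⟩
  obtain ⟨W, hW⟩ : ∃ W : Finset (C × C), W = Finset.univ.filter (fun p : C × C =>
      orderOf p.1 = 2 ∧ orderOf p.2 = 2 ∧ z⁻¹ * (p.1 * p.2) ∈ K) := ⟨_, rfl⟩
  have hzK : (z : C ⧸ K) ≠ 1 := by
    intro h
    rw [QuotientGroup.eq_one_iff] at h
    exact hz1 (hF2 z hzQ h)
  have hcomm : ∀ s ∈ (Q : Subgroup C), ∀ t ∈ (Q : Subgroup C), s * t = t * s :=
    fun s hs t ht => kleinFour_comm _ hQ s t hs ht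
  have hWeq : W = (cl a ×ˢ cl (a * z)) ∪ (cl (a * z) ×ˢ cl a) := by
    ext ⟨x, y⟩
    rw [hW, Finset.mem_union, Finset.mem_product, Finset.mem_product, hcl, hcl]
    simp only [Finset.mem_filter, Finset.mem_univ, true_and]
    constructor
    · rintro ⟨hx, hy, hxy⟩
      obtain ⟨c, q, hq, hq1, rfl⟩ := hF3 x hx
      obtain ⟨c', q', hq', hq'1, rfl⟩ := hF3 y hy
      have h1 : ((z⁻¹ * (q * q') : C) : C ⧸ K) = 1 := by
        rw [← (QuotientGroup.eq_one_iff _).mpr hxy]
        rw [QuotientGroup.mk_mul, QuotientGroup.mk_mul, QuotientGroup.mk_mul, QuotientGroup.mk_mul,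
          hF1, hF1]
      have h2 : z⁻¹ * (q * q') = 1 := by
        apply hF2 _ (Subgroup.mul_mem _ (Subgroup.inv_mem _ hzQ) (Subgroup.mul_mem _ hq hq'))
        exact (QuotientGroup.eq_one_iff _).mp h1
      have h3 : q * q' = z := by
        calc q * q' = z * (z⁻¹ * (q * q')) := by group
          _ = z := by rw [h2, mul_one]
      rcases henum q hq with h | h | h | h
      · exact absurd h hq1
      · exfalso
        apply hq'1
        rw [h] at h3
        calc q' = z⁻¹ * (z * q') := by group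
          _ = 1 := by rw [h3]; group
      · left
        have hq'e : q' = a * z := by
          rw [h] at h3
          calc q' = a⁻¹ * (a * q') := by group
            _ = a⁻¹ * z := by rw [h3]
            _ = a * z := by rw [inv_eq_of_mul_eq_one_left haa]
        exact ⟨isConj_iff.mpr ⟨c, by rw [h]⟩, isConj_iff.mpr ⟨c', by rw [hq'e]⟩⟩
      · right
        have hq'e : q' = a := by
          rw [h] at h3
          have h4 : a * z * q' = z := h3
          calc q' = (a * z)⁻¹ * (a * z * q') := by group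
            _ = (a * z)⁻¹ * z := by rw [h4]
            _ = z⁻¹ * a⁻¹ * z := by rw [mul_inv_rev]
            _ = a⁻¹ := by rw [hcomm z⁻¹ (Subgroup.inv_mem _ hzQ) a⁻¹ (Subgroup.inv_mem _ haQ)]; group
            _ = a := inv_eq_of_mul_eq_one_left haa
        exact ⟨isConj_iff.mpr ⟨c, by rw [h]⟩, isConj_iff.mpr ⟨c', by rw [hq'e]⟩⟩
    · rintro (⟨hx, hy⟩ | ⟨hx, hy⟩)
      · obtain ⟨c, rfl⟩ := isConj_iff.mp hx
        obtain ⟨c', rfl⟩ := isConj_iff.mp hy
        refine ⟨by rw [orderOf_conj_eq, ha2], by rw [orderOf_conj_eq, hazo], ?_⟩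
        rw [← QuotientGroup.eq_one_iff, QuotientGroup.mk_mul, QuotientGroup.mk_mul, hF1, hF1,
          ← QuotientGroup.mk_mul, ← QuotientGroup.mk_mul]
        have : z⁻¹ * (a * (a * z)) = 1 := by
          calc z⁻¹ * (a * (a * z)) = z⁻¹ * ((a * a) * z) := by group
            _ = 1 := by rw [haa]; group
        rw [this]
        rfl
      · obtain ⟨c, rfl⟩ := isConj_iff.mp hx
        obtain ⟨c', rfl⟩ := isConj_iff.mp hy
        refine ⟨by rw [orderOf_conj_eq, hazo], by rw [orderOf_conj_eq, ha2], ?_⟩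
        rw [← QuotientGroup.eq_one_iff, QuotientGroup.mk_mul, QuotientGroup.mk_mul, hF1, hF1,
          ← QuotientGroup.mk_mul, ← QuotientGroup.mk_mul]
        have : z⁻¹ * (a * z * a) = 1 := by
          rw [hcomm a haQ z hzQ]
          calc z⁻¹ * (z * a * a) = a * a := by group
            _ = 1 := haa
        rw [this]
        rfl
  have hdisj : Disjoint (cl a ×ˢ cl (a * z)) (cl (a * z) ×ˢ cl a) := by
    rw [Finset.disjoint_left]
    rintro ⟨x, y⟩ h1 h2
    rw [Finset.mem_product, hcl, hcl] at h1 h2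
    simp only [Finset.mem_filter, Finset.mem_univ, true_and] at h1 h2
    obtain ⟨c, hc⟩ := isConj_iff.mp h1.1
    obtain ⟨c', hc'⟩ := isConj_iff.mp h2.1
    apply hzK
    have e1 : ((a : C) : C ⧸ K) = ((a * z : C) : C ⧸ K) := by
      rw [← hF1 c a, hc, ← hc', hF1]
    rw [QuotientGroup.mk_mul] at e1
    calc (z : C ⧸ K) = (a : C ⧸ K)⁻¹ * ((a : C ⧸ K) * (z : C ⧸ K)) := by group
      _ = (a : C ⧸ K)⁻¹ * (a : C ⧸ K) := by rw [← e1]
      _ = 1 := by group
  have hcent : Subgroup.centralizer ({a * z} : Set C) = Subgroup.centralizer ({a} : Set C) := by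
    ext g
    rw [Subgroup.mem_centralizer_singleton_iff, Subgroup.mem_centralizer_singleton_iff]
    constructor
    · intro h
      have h1 : g * a * z = a * g * z := by
        calc g * a * z = g * (a * z) := by group
          _ = a * z * g := h
          _ = a * (z * g) := by group
          _ = a * (g * z) := by rw [hzc g]
          _ = a * g * z := by group
      exact mul_right_cancel h1
    · intro h
      calc g * (a * z) = (g * a) * z := by group
        _ = (a * g) * z := by rw [h]
        _ = a * (g * z) := by group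
        _ = a * (z * g) := by rw [hzc g]
        _ = a * z * g := by group
  have hc1 := card_conj_mul_card_centralizer a
  have hc2 := card_conj_mul_card_centralizer (a * z)
  rw [hcent] at hc2
  rw [← hcl] at hc1 hc2
  have hWcard : W.card = 2 * ((cl a).card * (cl (a * z)).card) := by
    rw [hWeq, Finset.card_union_of_disjoint hdisj, Finset.card_product, Finset.card_product]
    ring
  have hNat : Nat.card {p : C × C // orderOf p.1 = 2 ∧ orderOf p.2 = 2 ∧
      z⁻¹ * (p.1 * p.2) ∈ K} = W.card := by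
    rw [Nat.card_eq_fintype_card, Fintype.card_subtype, hW]
  rw [hNat, hWcard]
  calc 2 * ((cl a).card * (cl (a * z)).card) * Nat.card (Subgroup.centralizer ({a} : Set C)) ^ 2
      = 2 * (((cl a).card * Nat.card (Subgroup.centralizer ({a} : Set C)))
          * ((cl (a * z)).card * Nat.card (Subgroup.centralizer ({a} : Set C)))) := by ring
    _ = 2 * Nat.card C ^ 2 := by rw [hc1, hc2]; ring

end

end Cfsg.Agent.Lib.Helper6
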