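import Mathlib
import Cfsg.Agent.Lib.Helper6.KleinCount
import Cfsg.Agent.Lib.Helper6.BlkClassMult
import Cfsg.Agent.Lib.Helper6.BlkSecond2

set_option autoImplicit false
set_option linter.unusedSectionVars false
open Cfsg

namespace Cfsg.Agent.Lib.Helper6

section

variable {G : Type*} [Group G] [Finite G]

/-- enumeration of a Klein four subgroup -/
theorem kleinFour_enum (Q : Subgroup G) (hQ : IsKleinFour Q) (z a : G) (hzQ : z ∈ Q)
    (haQ : a ∈ Q) (hz1 : z ≠ 1) (ha1 : a ≠ 1) (haz : a ≠ z) :
    ∀ y ∈ Q, y = 1 ∨ y = z ∨ y = a ∨ y = a * z := by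
  classical
  have : Fintype G := Fintype.ofFinite G
  have : Fintype ↥Q := Fintype.ofFinite _
  have hazQ : a * z ∈ Q := Subgroup.mul_mem _ haQ hzQ
  have hz2 : orderOf z = 2 := orderOf_eq_two_of_kleinFour _ hQ z hzQ hz1
  have hzz : z * z = 1 := by rw [← sq, ← hz2, pow_orderOf_eq_one]
  have haz1 : a * z ≠ 1 := by
    intro h
    apply haz
    calc a = a * (z * z) := by rw [hzz, mul_one]
      _ = (a * z) * z := by group
      _ = z := by rw [h, one_mul]
  intro y hy
  obtain ⟨T, hT⟩ : ∃ T : Finset ↥Q, T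
      = {(1 : ↥Q), ⟨z, hzQ⟩, ⟨a, haQ⟩, ⟨a * z, hazQ⟩} := ⟨_, rfl⟩
  have hTcard : T.card = 4 := by
    rw [hT]
    rw [Finset.card_insert_of_notMem, Finset.card_insert_of_notMem,
      Finset.card_insert_of_notMem, Finset.card_singleton]
    · simp only [Finset.mem_singleton, Subtype.mk.injEq]
      intro h
      apply hz1
      calc z = a⁻¹ * (a * z) := by group
        _ = a⁻¹ * a := by rw [← h]
        _ = 1 := by group
    · simp only [Finset.mem_insert, Finset.mem_singleton, Subtype.mk.injEq, not_or]
      refine ⟨fun h => haz h.symm, ?_⟩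
      intro h
      apply ha1
      calc a = (a * z) * z⁻¹ := by group
        _ = z * z⁻¹ := by rw [← h]
        _ = 1 := by group
    · simp only [Finset.mem_insert, Finset.mem_singleton, not_or]
      refine ⟨?_, ?_, ?_⟩
      · intro h; exact hz1 (congrArg Subtype.val h).symm
      · intro h; exact ha1 (congrArg Subtype.val h).symm
      · intro h; exact haz1 (congrArg Subtype.val h).symm
  have hTuniv : T = Finset.univ := by
    apply Finset.eq_univ_of_card
    rw [hTcard, ← Nat.card_eq_fintype_card, hQ.card_four]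
  have hyT : (⟨y, hy⟩ : ↥Q) ∈ T := by rw [hTuniv]; exact Finset.mem_univ _
  rw [hT] at hyT
  simp only [Finset.mem_insert, Finset.mem_singleton, Subtype.mk.injEq] at hyT
  rcases hyT with h | h | h | h
  · left; exact congrArg Subtype.val h
  · right; left; exact h
  · right; right; left; exact h
  · right; right; right; exact h

/-- a Klein four group has an element besides `1` and a given one -/
theorem kleinFour_exists_third (Q : Subgroup G) (hQ : IsKleinFour Q) (z : G) (hzQ : z ∈ Q) :
    ∃ a ∈ Q, a ≠ 1 ∧ a ≠ z := by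
  classical
  have : Fintype ↥Q := Fintype.ofFinite _
  by_contra hcon
  push Not at hcon
  have h1 : (Finset.univ : Finset ↥Q) ⊆ {(1 : ↥Q), ⟨z, hzQ⟩} := by
    intro y _
    by_cases hy : (y : G) = 1
    · rw [Finset.mem_insert]; left; exact Subtype.ext hy
    · rw [Finset.mem_insert, Finset.mem_singleton]; right
      exact Subtype.ext (hcon y y.2 hy)
  have h2 := Finset.card_le_card h1
  rw [Finset.card_univ, ← Nat.card_eq_fintype_card, hQ.card_four] at h2
  have h3 : ({(1 : ↥Q), ⟨z, hzQ⟩} : Finset ↥Q).card ≤ 2 := Finset.card_le_two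
  omega

/-- if a product of two involutions has `2`-part `J`, both involutions centralize `J` -/
theorem commute_of_product_involutions (J x y k : G) (hJ2 : orderOf J = 2) (hx : x * x = 1)
    (hy : y * y = 1) (hJk : Commute J k) (hk : ¬ 2 ∣ orderOf k) (hxy : x * y = J * k) :
    x * J = J * x ∧ y * J = J * y := by
  classical
  have : Fintype G := Fintype.ofFinite G
  have hJJ : J * J = 1 := by rw [← sq, ← hJ2, pow_orderOf_eq_one]
  have hJinv : J⁻¹ = J := inv_eq_of_mul_eq_one_left hJJ
  have hxinv : x⁻¹ = x := inv_eq_of_mul_eq_one_left hx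
  have hyinv : y⁻¹ = y := inv_eq_of_mul_eq_one_left hy
  have hpp : Cfsg.IsPPart 2 (J * k) J := ⟨k, rfl, hJk, ⟨1, by rw [hJ2, pow_one]⟩, hk⟩
  have hinvpp := IsPPart.inv' hpp
  have key : ∀ t : G, t * (J * k) * t⁻¹ = (J * k)⁻¹ → t * J = J * t := by
    intro t ht
    have h1 := IsPPart.conj hpp t
    rw [ht] at h1
    have h2 := IsPPart.unique Nat.prime_two h1 hinvpp
    rw [hJinv] at h2
    calc t * J = (t * J * t⁻¹) * t := by group
      _ = J * t := by rw [h2]
  constructor
  · apply key
    rw [← hxy, mul_inv_rev, hxinv, hyinv]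
    calc x * (x * y) * x = (x * x) * y * x := by group
      _ = y * x := by rw [hx, one_mul]
  · apply key
    rw [← hxy, mul_inv_rev, hxinv, hyinv]
    calc y * (x * y) * y = y * x * (y * y) := by group
      _ = y * x := by rw [hy, mul_one]

end

end Cfsg.Agent.Lib.Helper6
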