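import Mathlib
import Cfsg.Agent.Lib.Helper6.KleinOrder
import Cfsg.Agent.Lib.Helper6.BlkSections

set_option autoImplicit false
set_option linter.unusedSectionVars false
open Cfsg
open scoped Pointwise

namespace Cfsg.Agent.Lib.Helper6

section

variable {G : Type*} [Group G] [Finite G]

/-- an involution of a group whose Sylow `2`-subgroup `P` has all its involutions conjugate to
`J` is conjugate to `J` -/
theorem isConj_of_involution (P : Sylow 2 G) (J : G) (hJP : J ∈ (P : Subgroup G)) (hJ1 : J ≠ 1)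
    (hfus : ∀ x ∈ (P : Subgroup G), ∀ y ∈ (P : Subgroup G), x ≠ 1 → y ≠ 1 → IsConj x y)
    (x : G) (hx : orderOf x = 2) : IsConj J x := by
  classical
  have : Fact (Nat.Prime 2) := ⟨Nat.prime_two⟩
  have hP : IsPGroup 2 (Subgroup.zpowers x) := by
    apply IsPGroup.of_card (n := 1)
    rw [Nat.card_zpowers, hx, pow_one]
  obtain ⟨Q', hQ'⟩ := hP.exists_le_sylow
  obtain ⟨c, hc⟩ := MulAction.exists_smul_eq G P Q'
  have hxQ' : x ∈ (Q' : Subgroup G) := hQ' (Subgroup.mem_zpowers x)
  rw [← hc, Sylow.coe_subgroup_smul, Subgroup.mem_smul_pointwise_iff_exists] at hxQ'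
  obtain ⟨q, hq, hqx⟩ := hxQ'
  have hq1 : q ≠ 1 := by
    rintro rfl
    rw [smul_one] at hqx
    rw [← hqx, orderOf_one] at hx
    norm_num at hx
  have h1 : IsConj J q := hfus J hJP q hq hJ1 hq1
  have h2 : IsConj q x := by
    rw [isConj_iff]
    refine ⟨c, ?_⟩
    rw [← hqx, MulAut.smul_def, MulAut.conj_apply]
  exact h1.trans h2

/-- The count of pairs of conjugates of `J` whose product lies in `J · O_{2'}(C_G(J))`. -/
theorem kleinFour_pairs_count (P : Sylow 2 G) (hP : IsKleinFour (P : Subgroup G)) (J : G)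
    (hJP : J ∈ (P : Subgroup G)) (hJ2 : orderOf J = 2)
    (hfus : ∀ x ∈ (P : Subgroup G), ∀ y ∈ (P : Subgroup G), x ≠ 1 → y ≠ 1 → IsConj x y) :
    (∑ᶠ k ∈ ((Cfsg.pPrimeCore 2 ↥(Subgroup.centralizer ({J} : Set G)) :
          Subgroup ↥(Subgroup.centralizer ({J} : Set G))) :
            Set ↥(Subgroup.centralizer ({J} : Set G))),
        Nat.card {p : G × G // IsConj J p.1 ∧ IsConj J p.2 ∧ p.1 * p.2 = J * (k : G)})
      * Nat.card (Subgroup.centralizer ((P : Subgroup G) : Set G)) ^ 2
      = 2 * Nat.card (Subgroup.centralizer ({J} : Set G)) ^ 2 := by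
  classical
  have : Fact (Nat.Prime 2) := ⟨Nat.prime_two⟩
  have : Fintype G := Fintype.ofFinite G
  have : Fintype ↥(Subgroup.centralizer ({J} : Set G)) := Fintype.ofFinite _
  have hJ1 : J ≠ 1 := by
    intro h
    rw [h, orderOf_one] at hJ2
    norm_num at hJ2
  have hJJ : J * J = 1 := by rw [← sq, ← hJ2, pow_orderOf_eq_one]
  have hPC : (P : Subgroup G) ≤ Subgroup.centralizer ({J} : Set G) := by
    intro w hw
    rw [Subgroup.mem_centralizer_singleton_iff]
    exact kleinFour_comm _ hP w J hw hJP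
  obtain ⟨Q, hQdef⟩ : ∃ Q : Sylow 2 (Subgroup.centralizer ({J} : Set G)), Q = P.subtype hPC :=
    ⟨_, rfl⟩
  have hQcoe : (Q : Subgroup (Subgroup.centralizer ({J} : Set G)))
      = (P : Subgroup G).subgroupOf (Subgroup.centralizer ({J} : Set G)) := by
    rw [hQdef]; rfl
  obtain ⟨e, _⟩ : ∃ e : ↥((P : Subgroup G).subgroupOf (Subgroup.centralizer ({J} : Set G)))
      ≃* ↥(P : Subgroup G), e = Subgroup.subgroupOfEquivOfLe hPC := ⟨_, rfl⟩
  have hQK : IsKleinFour (Q : Subgroup (Subgroup.centralizer ({J} : Set G))) := by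
    rw [hQcoe]
    constructor
    · rw [Nat.card_congr e.toEquiv]
      exact hP.card_four
    · rw [Monoid.exponent_eq_of_mulEquiv e]
      exact hP.exponent_two
  have hJC : J ∈ Subgroup.centralizer ({J} : Set G) := by
    rw [Subgroup.mem_centralizer_singleton_iff]
  obtain ⟨a, haP, ha1, haJ⟩ := kleinFour_exists_third _ hP J hJP
  obtain ⟨Jc, hJc⟩ : ∃ Jc : ↥(Subgroup.centralizer ({J} : Set G)), Jc = ⟨J, hJC⟩ := ⟨_, rfl⟩
  obtain ⟨ac, hac⟩ : ∃ ac : ↥(Subgroup.centralizer ({J} : Set G)), ac = ⟨a, hPC haP⟩ := ⟨_, rfl⟩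
  have hJcQ : Jc ∈ (Q : Subgroup (Subgroup.centralizer ({J} : Set G))) := by
    rw [hQcoe, Subgroup.mem_subgroupOf, hJc]; exact hJP
  have hacQ : ac ∈ (Q : Subgroup (Subgroup.centralizer ({J} : Set G))) := by
    rw [hQcoe, Subgroup.mem_subgroupOf, hac]; exact haP
  have hJc2 : orderOf Jc = 2 := by rw [← Subgroup.orderOf_coe, hJc]; exact hJ2
  have hJcc : ∀ g : ↥(Subgroup.centralizer ({J} : Set G)), g * Jc = Jc * g := by
    intro g
    apply Subtype.ext
    have := g.2
    rw [Subgroup.mem_centralizer_singleton_iff] at this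
    rw [hJc]
    exact this
  have hcount := kleinFour_count_pairs Q hQK Jc ac hJcQ hacQ hJc2
    (by intro h; apply ha1; rw [hac] at h; exact congrArg Subtype.val h)
    (by intro h; apply haJ; rw [hac, hJc] at h; exact congrArg Subtype.val h) hJcc
  -- the centralizer of `ac`
  have hcent : Nat.card (Subgroup.centralizer ({ac} : Set ↥(Subgroup.centralizer ({J} : Set G))))
      = Nat.card (Subgroup.centralizer ((P : Subgroup G) : Set G)) := by
    have henum := kleinFour_enum _ hP J a hJP haP hJ1 ha1 haJ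
    apply Nat.card_congr
    refine ⟨fun g => ⟨((g : ↥(Subgroup.centralizer ({J} : Set G))) : G), ?_⟩,
      fun g => ⟨⟨(g : G), ?_⟩, ?_⟩, ?_, ?_⟩
    · have h1 := g.2
      rw [Subgroup.mem_centralizer_singleton_iff] at h1
      have h2 : ((g : ↥(Subgroup.centralizer ({J} : Set G))) : G) * a
          = a * ((g : ↥(Subgroup.centralizer ({J} : Set G))) : G) := by
        have hac' : (ac : G) = a := by rw [hac]
        have := congrArg Subtype.val h1
        simp only [Subgroup.coe_mul, hac'] at this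
        exact this
      have h3 := (g : ↥(Subgroup.centralizer ({J} : Set G))).2
      rw [Subgroup.mem_centralizer_singleton_iff] at h3
      rw [Subgroup.mem_centralizer_iff]
      intro y hy
      rcases henum y hy with h | h | h | h
      · rw [h]; simp
      · rw [h]; exact h3.symm
      · rw [h]; exact h2.symm
      · rw [h]
        calc a * J * ((g : ↥(Subgroup.centralizer ({J} : Set G))) : G)
            = a * (J * ((g : ↥(Subgroup.centralizer ({J} : Set G))) : G)) := by group
          _ = a * (((g : ↥(Subgroup.centralizer ({J} : Set G))) : G) * J) := by rw [h3]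
          _ = (a * ((g : ↥(Subgroup.centralizer ({J} : Set G))) : G)) * J := by group
          _ = (((g : ↥(Subgroup.centralizer ({J} : Set G))) : G) * a) * J := by rw [h2]
          _ = ((g : ↥(Subgroup.centralizer ({J} : Set G))) : G) * (a * J) := by group
    · have h1 := g.2
      rw [Subgroup.mem_centralizer_iff] at h1
      rw [Subgroup.mem_centralizer_singleton_iff]
      exact (h1 J hJP).symm
    · have h1 := g.2
      rw [Subgroup.mem_centralizer_iff] at h1
      rw [Subgroup.mem_centralizer_singleton_iff]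
      apply Subtype.ext
      rw [hac]
      exact (h1 a haP).symm
    · intro g; rfl
    · intro g; rfl
  rw [hcent] at hcount
  rw [← hcount]
  congr 1
  -- the bijection
  obtain ⟨K, hK⟩ : ∃ K : Subgroup ↥(Subgroup.centralizer ({J} : Set G)),
      K = Cfsg.pPrimeCore 2 ↥(Subgroup.centralizer ({J} : Set G)) := ⟨_, rfl⟩
  rw [← hK]
  obtain ⟨_, hKc⟩ := pPrimeCore_normal_and_coprime (G := ↥(Subgroup.centralizer ({J} : Set G))) 2
  rw [← hK] at hKc
  have hKodd : ∀ k ∈ K, ¬ 2 ∣ orderOf ((k : ↥(Subgroup.centralizer ({J} : Set G))) : G) := by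
    intro k hk h2
    rw [Subgroup.orderOf_coe] at h2
    have h1 : orderOf k ∣ Nat.card K := by
      have := orderOf_dvd_natCard (⟨k, hk⟩ : K)
      rwa [← Subgroup.orderOf_coe] at this
    have := Nat.Coprime.eq_one_of_dvd hKc.symm (h2.trans h1)
    norm_num at this
  rw [finsum_mem_eq_sum_filter_lib]
  obtain ⟨W, hW⟩ : ∃ W : Finset (↥(Subgroup.centralizer ({J} : Set G))
      × ↥(Subgroup.centralizer ({J} : Set G))), W = Finset.univ.filter (fun p =>
      orderOf p.1 = 2 ∧ orderOf p.2 = 2 ∧ Jc⁻¹ * (p.1 * p.2) ∈ K) := ⟨_, rfl⟩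
  have hNat : Nat.card {p : ↥(Subgroup.centralizer ({J} : Set G))
      × ↥(Subgroup.centralizer ({J} : Set G)) // orderOf p.1 = 2 ∧ orderOf p.2 = 2 ∧
      Jc⁻¹ * (p.1 * p.2) ∈ K} = W.card := by
    rw [Nat.card_eq_fintype_card, Fintype.card_subtype, hW]
  rw [hNat]
  have hfib := Finset.card_eq_sum_card_fiberwise (s := W)
    (t := Finset.univ.filter (fun k : ↥(Subgroup.centralizer ({J} : Set G)) => k ∈ K))
    (f := fun p => Jc⁻¹ * (p.1 * p.2)) (by
      intro p hp
      rw [hW] at hp
      simp only [Finset.coe_filter, Set.mem_ofPred_eq, Finset.mem_univ, true_and] at hp ⊢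
      exact hp.2.2)
  rw [hfib]
  apply Finset.sum_congr rfl
  intro k hk
  simp only [Finset.mem_filter, Finset.mem_univ, true_and] at hk
  rw [← Fintype.card_coe, ← Nat.card_eq_fintype_card]
  apply Nat.card_congr
  have hinvol : ∀ x : G, IsConj J x → x * x = 1 ∧ orderOf x = 2 := by
    intro x hx
    obtain ⟨c, rfl⟩ := isConj_iff.mp hx
    refine ⟨?_, by rw [orderOf_conj_eq, hJ2]⟩
    calc c * J * c⁻¹ * (c * J * c⁻¹) = c * (J * J) * c⁻¹ := by group
      _ = 1 := by rw [hJJ]; group
  have hkJ : Commute J ((k : ↥(Subgroup.centralizer ({J} : Set G))) : G) := by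
    have := k.2
    rw [Subgroup.mem_centralizer_singleton_iff] at this
    exact this.symm
  have hmemW : ∀ p : ↥(Subgroup.centralizer ({J} : Set G)) × ↥(Subgroup.centralizer ({J} : Set G)),
      p ∈ W ↔ (orderOf p.1 = 2 ∧ orderOf p.2 = 2 ∧ Jc⁻¹ * (p.1 * p.2) ∈ K) := by
    intro p
    rw [hW]
    simp
  have hJc' : (Jc : G) = J := by rw [hJc]
  have hmemC : ∀ q : {p : G × G // IsConj J p.1 ∧ IsConj J p.2 ∧ p.1 * p.2 = J * (k : G)},
      q.1.1 ∈ Subgroup.centralizer ({J} : Set G) ∧ q.1.2 ∈ Subgroup.centralizer ({J} : Set G) := by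
    intro q
    have := commute_of_product_involutions J q.1.1 q.1.2 _ hJ2 (hinvol _ q.2.1).1
      (hinvol _ q.2.2.1).1 hkJ (hKodd k hk) q.2.2.2
    rw [Subgroup.mem_centralizer_singleton_iff, Subgroup.mem_centralizer_singleton_iff]
    exact this
  refine ⟨fun q => ⟨(⟨q.1.1, (hmemC q).1⟩, ⟨q.1.2, (hmemC q).2⟩), ?_⟩,
    fun q => ⟨((q.1.1 : G), (q.1.2 : G)), ?_⟩, ?_, ?_⟩
  · rw [Finset.mem_filter, hmemW]
    have hk' : Jc⁻¹ * ((⟨q.1.1, (hmemC q).1⟩ : ↥(Subgroup.centralizer ({J} : Set G)))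
        * ⟨q.1.2, (hmemC q).2⟩) = k := by
      apply Subtype.ext
      simp only [Subgroup.coe_mul, Subgroup.coe_inv, hJc']
      rw [q.2.2.2]
      group
    refine ⟨⟨?_, ?_, ?_⟩, hk'⟩
    · rw [← Subgroup.orderOf_coe]; exact (hinvol _ q.2.1).2
    · rw [← Subgroup.orderOf_coe]; exact (hinvol _ q.2.2.1).2
    · rw [hk']; exact hk
  · obtain ⟨hq1, hqk⟩ := Finset.mem_filter.mp q.2
    obtain ⟨ho1, ho2, _⟩ := (hmemW _).mp hq1
    refine ⟨isConj_of_involution P J hJP hJ1 hfus _ (by rw [Subgroup.orderOf_coe]; exact ho1),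
      isConj_of_involution P J hJP hJ1 hfus _ (by rw [Subgroup.orderOf_coe]; exact ho2), ?_⟩
    have := congrArg Subtype.val hqk
    simp only [Subgroup.coe_mul, Subgroup.coe_inv, hJc'] at this
    rw [← this]
    group
  · intro q
    apply Subtype.ext
    rfl
  · intro q
    apply Subtype.ext
    rfl

/-- the order of the `2'`-core of the centralizer of an involution, Klein four case -/
theorem four_mul_card_pPrimeCore_centralizer (P : Sylow 2 G) (hP : IsKleinFour (P : Subgroup G))
    (J : G) (hJP : J ∈ (P : Subgroup G)) (hJ2 : orderOf J = 2) :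
    4 * Nat.card (Cfsg.pPrimeCore 2 ↥(Subgroup.centralizer ({J} : Set G)))
      = Nat.card (Subgroup.centralizer ({J} : Set G)) := by
  classical
  have : Fact (Nat.Prime 2) := ⟨Nat.prime_two⟩
  have hPC : (P : Subgroup G) ≤ Subgroup.centralizer ({J} : Set G) := by
    intro w hw
    rw [Subgroup.mem_centralizer_singleton_iff]
    exact kleinFour_comm _ hP w J hw hJP
  obtain ⟨Q, hQdef⟩ : ∃ Q : Sylow 2 (Subgroup.centralizer ({J} : Set G)), Q = P.subtype hPC :=
    ⟨_, rfl⟩
  have hQcoe : (Q : Subgroup (Subgroup.centralizer ({J} : Set G)))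
      = (P : Subgroup G).subgroupOf (Subgroup.centralizer ({J} : Set G)) := by
    rw [hQdef]; rfl
  obtain ⟨e, _⟩ : ∃ e : ↥((P : Subgroup G).subgroupOf (Subgroup.centralizer ({J} : Set G)))
      ≃* ↥(P : Subgroup G), e = Subgroup.subgroupOfEquivOfLe hPC := ⟨_, rfl⟩
  have hQK : IsKleinFour (Q : Subgroup (Subgroup.centralizer ({J} : Set G))) := by
    rw [hQcoe]
    constructor
    · rw [Nat.card_congr e.toEquiv]
      exact hP.card_four
    · rw [Monoid.exponent_eq_of_mulEquiv e]
      exact hP.exponent_two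
  have hJC : J ∈ Subgroup.centralizer ({J} : Set G) := by
    rw [Subgroup.mem_centralizer_singleton_iff]
  have hidx := index_pPrimeCore_of_central_involution Q hQK ⟨J, hJC⟩
    (by rw [hQcoe, Subgroup.mem_subgroupOf]; exact hJP)
    (by rw [← Subgroup.orderOf_coe]; exact hJ2)
    (by
      intro g
      apply Subtype.ext
      have := g.2
      rw [Subgroup.mem_centralizer_singleton_iff] at this
      exact this)
  have h1 := (Cfsg.pPrimeCore 2 ↥(Subgroup.centralizer ({J} : Set G))).card_mul_index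
  rw [hidx] at h1
  rw [← h1, mul_comm]

end

end Cfsg.Agent.Lib.Helper6
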