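import Mathlib
import Cfsg.Prelude.Def_Blocks
import Cfsg.Agent.Lib.Helper6.SubContribExp

set_option autoImplicit false
set_option linter.unusedSectionVars false
open Cfsg

namespace Cfsg.Agent.Lib.Helper6

open scoped ComplexConjugate

section nonvanish

variable {G : Type*} [Group G] [Fintype G] [DecidableEq G]
variable {p : ℕ} {M : Ideal Cfsg.AlgInt}

open Classical in
/-- the normalised degree of the `b`-part of the restriction of a height zero character of an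
induced block is a unit -/
theorem sum_mult_normDeg_not_mem (hM : Cfsg.IsPModular p M) [Fact p.Prime] (H : Subgroup G)
    [Fintype H] [Fintype (Cfsg.IrrCharacter H)] (ξ₀ : Cfsg.IrrCharacter H)
    {B : Set (Cfsg.IrrCharacter G)}
    (hind : Cfsg.IsInducedBlock M H (Cfsg.blockOf M (ξ₀ : H → ℂ)) B)
    (Χ : Cfsg.IrrCharacter G) (hΧ : Χ ∈ B) (h0 : Cfsg.blockHeight p B (Χ : G → ℂ) = 0)
    (n : Cfsg.IrrCharacter H → ℕ)
    (hn : ∀ ξ : Cfsg.IrrCharacter H, Cfsg.classInner (resFun H (Χ : G → ℂ)) (ξ : H → ℂ) = n ξ) :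
    ¬ Cfsg.MemLocalIdeal M (∑ ξ ∈ Finset.univ.filter (· ∈ Cfsg.blockOf M (ξ₀ : H → ℂ)),
      (n ξ : ℂ) * (normDeg p (Cfsg.blockOf M (ξ₀ : H → ℂ)) ξ : ℂ)) := by
  classical
  have hp : p.Prime := hM.1
  have hξ₀ : ξ₀ ∈ Cfsg.blockOf M (ξ₀ : H → ℂ) := sameBlock_refl hM _
  obtain ⟨ξ₁, hξ₁, h0ξ₁⟩ := exists_height_zero (p := p) (Cfsg.blockOf M (ξ₀ : H → ℂ)) ξ₀ hξ₀
  obtain ⟨hκR, hκN⟩ := kappa_unit hM ξ₀ ξ₁ hξ₁ h0ξ₁
  have hnd := not_dvd_normDeg hp (Cfsg.blockOf M (ξ₀ : H → ℂ)) ξ₁ hξ₁ h0ξ₁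
  intro hT
  have hv := (tilde_induced_criterion H hM hind Χ ξ₁ hξ₁).2 hΧ h0
  apply hv
  obtain ⟨b, hb⟩ : ∃ b : Set (Cfsg.IrrCharacter H), b = Cfsg.blockOf M (ξ₀ : H → ℂ) := ⟨_, rfl⟩
  obtain ⟨κ, hκ⟩ : ∃ κ : ℂ, κ = kappa p b ξ₁ := ⟨_, rfl⟩
  have hrcf : Cfsg.IsClassFunction H (resFun H (Χ : G → ℂ)) :=
    resFun_isClassFunction H (IsIrrCharacter.isClassFunction Χ.2)
  have e1 : Cfsg.classInner (tildeFun p (resFun H (Χ : G → ℂ))) (ξ₁ : H → ℂ)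
      = ∑ ξ : Cfsg.IrrCharacter H, (n ξ : ℂ) * (cInt p (ξ : H → ℂ) (ξ₁ : H → ℂ) : ℂ) := by
    conv_lhs => rw [classFunction_eq_sum (resFun H (Χ : G → ℂ)) hrcf]
    rw [tildeFun_sum_smul, classInner_sum_left]
    apply Finset.sum_congr rfl
    intro ξ _
    rw [classInner_smul_left, hn ξ, cInt_spec hM ξ ξ₁]
  have e2 : ∑ ξ : Cfsg.IrrCharacter H, (n ξ : ℂ) * (cInt p (ξ : H → ℂ) (ξ₁ : H → ℂ) : ℂ)
      = ∑ ξ ∈ Finset.univ.filter (· ∈ Cfsg.blockOf M (ξ₀ : H → ℂ)),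
          (n ξ : ℂ) * (cInt p (ξ : H → ℂ) (ξ₁ : H → ℂ) : ℂ) := by
    rw [Finset.sum_filter]
    apply Finset.sum_congr rfl
    intro ξ _
    split_ifs with h
    · rfl
    · have hnot : ξ₁ ∉ Cfsg.blockOf M (ξ : H → ℂ) := by
        intro h'
        apply h
        exact SameBlock.trans' hM hξ₁ (SameBlock.symm' h')
      rw [cInt_eq_zero_of_not_mem hM ξ ξ₁ hnot, Int.cast_zero, mul_zero]
  have hq0 : ((p : ℂ) ^ minVal p (Cfsg.blockOf M (ξ₀ : H → ℂ))) ≠ 0 :=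
    pow_ne_zero _ (by exact_mod_cast hp.ne_zero)
  have hn1 : (normDeg p (Cfsg.blockOf M (ξ₀ : H → ℂ)) ξ₁ : ℂ) ≠ 0 := by
    exact_mod_cast normDeg_ne_zero (Cfsg.blockOf M (ξ₀ : H → ℂ)) ξ₁ hξ₁
  have e3 : ∑ ξ ∈ Finset.univ.filter (· ∈ Cfsg.blockOf M (ξ₀ : H → ℂ)),
          (n ξ : ℂ) * (cInt p (ξ : H → ℂ) (ξ₁ : H → ℂ) : ℂ)
      = (p : ℂ) ^ minVal p (Cfsg.blockOf M (ξ₀ : H → ℂ))
        * ∑ ξ ∈ Finset.univ.filter (· ∈ Cfsg.blockOf M (ξ₀ : H → ℂ)),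
          (n ξ : ℂ) * (mH p (Cfsg.blockOf M (ξ₀ : H → ℂ)) ξ ξ₁ : ℂ) := by
    rw [Finset.mul_sum]
    apply Finset.sum_congr rfl
    intro ξ _
    have := mH_mul hM (Cfsg.blockOf M (ξ₀ : H → ℂ)) ξ ξ₁ hξ₁
    have h' : (cInt p (ξ : H → ℂ) (ξ₁ : H → ℂ) : ℂ)
        = (p : ℂ) ^ minVal p (Cfsg.blockOf M (ξ₀ : H → ℂ))
          * (mH p (Cfsg.blockOf M (ξ₀ : H → ℂ)) ξ ξ₁ : ℂ) := by
      exact_mod_cast congrArg (fun t : ℤ => (t : ℂ)) this.symm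
    rw [h']
    ring
  have e4 : (ξ₁ : H → ℂ) 1 = (p : ℂ) ^ minVal p (Cfsg.blockOf M (ξ₀ : H → ℂ))
      * (normDeg p (Cfsg.blockOf M (ξ₀ : H → ℂ)) ξ₁ : ℂ) := by
    rw [IsCharacter.apply_one_eq_charDegree (IsIrrCharacter.isCharacter ξ₁.2)]
    have := normDeg_mul (p := p) (Cfsg.blockOf M (ξ₀ : H → ℂ)) ξ₁ hξ₁
    exact_mod_cast congrArg (fun t : ℕ => (t : ℂ)) this.symm
  rw [e1, e2, e3, e4, mul_div_mul_left _ _ hq0, div_eq_mul_inv]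
  apply MemLocalIdeal.mul_right hM _ (memLocalRing_inv_natCast hM hnd)
  -- the congruence modulo the rank one matrix
  rw [← hb] at hT hξ₁ ⊢
  have hcong : Cfsg.MemLocalIdeal M
      (∑ ξ ∈ Finset.univ.filter (· ∈ b), (n ξ : ℂ) * (mH p b ξ ξ₁ : ℂ)
        - ∑ ξ ∈ Finset.univ.filter (· ∈ b),
            (n ξ : ℂ) * (κ * ((normDeg p b ξ : ℂ) * (normDeg p b ξ₁ : ℂ)))) := by
    apply MemLocalIdeal.sum_sub_sum hM
    intro ξ hξ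
    rw [← mul_sub]
    apply MemLocalIdeal.mul_left hM (memLocalRing_natCast hM _)
    rw [hκ, hb]
    rw [hb] at hξ hξ₁
    exact mH_rank_one hM ξ₀ ξ₁ ξ ξ₁ hξ₁ (Finset.mem_filter.mp hξ).2 hξ₁ h0ξ₁
  have hsum : ∑ ξ ∈ Finset.univ.filter (· ∈ b),
      (n ξ : ℂ) * (κ * ((normDeg p b ξ : ℂ) * (normDeg p b ξ₁ : ℂ)))
      = (κ * (normDeg p b ξ₁ : ℂ)) * ∑ ξ ∈ Finset.univ.filter (· ∈ b),
        (n ξ : ℂ) * (normDeg p b ξ : ℂ) := by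
    rw [Finset.mul_sum]
    apply Finset.sum_congr rfl
    intro ξ _
    ring
  have hκR' : Cfsg.MemLocalRing M κ := by rw [hκ, hb]; exact hκR
  have h5 : Cfsg.MemLocalIdeal M ((κ * (normDeg p b ξ₁ : ℂ)) * ∑ ξ ∈ Finset.univ.filter (· ∈ b),
        (n ξ : ℂ) * (normDeg p b ξ : ℂ)) :=
    MemLocalIdeal.mul_left hM (MemLocalRing.mul hM hκR' (memLocalRing_natCast hM _)) hT
  rw [← hsum] at h5
  have := MemLocalIdeal.add hM hcong h5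
  rwa [sub_add_cancel] at this

/-- the contributions of a subsection to a pair of characters of height zero do not vanish -/
theorem pow_defect_mul_subContrib_not_mem (hM : Cfsg.IsPModular p M) [Fact p.Prime] (z : G)
    (hz : ∃ k : ℕ, orderOf z = p ^ k) (H : Subgroup G) [Fintype H]
    (hH : H = Subgroup.centralizer ({z} : Set G)) {b : Set (Cfsg.IrrCharacter H)}
    {B : Set (Cfsg.IrrCharacter G)} (hind : Cfsg.IsInducedBlock M H b B)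
    (χ ψ : Cfsg.IrrCharacter G) (hχ : χ ∈ B) (hψ : ψ ∈ B)
    (h0χ : Cfsg.blockHeight p B (χ : G → ℂ) = 0) (h0ψ : Cfsg.blockHeight p B (ψ : G → ℂ) = 0) :
    ¬ Cfsg.MemLocalIdeal M ((p : ℂ) ^ Cfsg.blockDefect p b
      * subContrib p z H b (χ : G → ℂ) (ψ : G → ℂ)) := by
  classical
  haveI : Fintype (Cfsg.IrrCharacter H) := Fintype.ofFinite _
  have hp : p.Prime := hM.1
  obtain ⟨ξ₀, hb⟩ := hind.1
  subst hb
  have hξ₀ : ξ₀ ∈ Cfsg.blockOf M (ξ₀ : H → ℂ) := sameBlock_refl hM _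
  obtain ⟨ξ₁, hξ₁, h0ξ₁⟩ := exists_height_zero (p := p) (Cfsg.blockOf M (ξ₀ : H → ℂ)) ξ₀ hξ₀
  obtain ⟨hκR, hκN⟩ := kappa_unit hM ξ₀ ξ₁ hξ₁ h0ξ₁
  have hmult : ∀ Χ : Cfsg.IrrCharacter G, ∃ n : Cfsg.IrrCharacter H → ℕ,
      ∀ ξ : Cfsg.IrrCharacter H, Cfsg.classInner (resFun H (Χ : G → ℂ)) (ξ : H → ℂ) = n ξ := by
    intro Χ
    have hres : Cfsg.IsCharacter H (resFun H (Χ : G → ℂ)) :=
      IsCharacter.restrict H (IsIrrCharacter.isCharacter Χ.2)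
    choose n hn using fun ξ : Cfsg.IrrCharacter H => IsCharacter.classInner_irr_nat hres ξ.2
    exact ⟨n, hn⟩
  obtain ⟨nχ, hnχ⟩ := hmult χ
  obtain ⟨nψ, hnψ⟩ := hmult ψ
  have hTχ := sum_mult_normDeg_not_mem hM H ξ₀ hind χ hχ h0χ nχ hnχ
  have hTψ := sum_mult_normDeg_not_mem hM H ξ₀ hind ψ hψ h0ψ nψ hnψ
  -- the central element
  have hzmem : z ∈ H := by
    rw [hH, mem_centralizer_singleton_iff]
  obtain ⟨zH, hzH⟩ : ∃ zH : H, (zH : G) = z := ⟨⟨z, hzmem⟩, rfl⟩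
  have hcomm : ∀ g : G, g ∈ H → z * g = g * z := by
    intro g hg
    rw [hH, mem_centralizer_singleton_iff] at hg
    exact hg
  have hzc : ∀ h : H, zH * h = h * zH := by
    intro h
    apply Subtype.ext
    rw [Subgroup.coe_mul, Subgroup.coe_mul, hzH]
    exact hcomm _ h.2
  obtain ⟨k, hk⟩ := hz
  have hzpow : zH ^ (p ^ k) = 1 := by
    apply Subtype.ext
    rw [Subgroup.coe_pow, hzH, ← hk, pow_orderOf_eq_one]
    rfl
  obtain ⟨lam, hlamdef⟩ : ∃ lam : Cfsg.IrrCharacter H → ℂ,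
      lam = fun (ξ : Cfsg.IrrCharacter H) => (ξ : H → ℂ) zH / (ξ : H → ℂ) 1 := ⟨_, rfl⟩
  have hlam : ∀ ξ : Cfsg.IrrCharacter H, lam ξ ^ (p ^ k) = 1 := by
    intro ξ
    rw [hlamdef]
    simp only
    rw [← IsIrrCharacter.apply_central_pow ξ.2 hzc, hzpow,
      div_self (IsIrrCharacter.apply_one_ne_zero ξ.2)]
  have hA : ∀ ξ : Cfsg.IrrCharacter H,
      Cfsg.classInner (fun c : H => (χ : G → ℂ) (z * (c : G))) (ξ : H → ℂ) = lam ξ * (nχ ξ : ℂ) := by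
    intro ξ
    rw [classInner_shift_eq z H zH hzH hzc, hnχ, hlamdef]
  have hA' : ∀ ξ : Cfsg.IrrCharacter H,
      Cfsg.classInner (fun c : H => (ψ : G → ℂ) (z * (c : G))) (ξ : H → ℂ) = lam ξ * (nψ ξ : ℂ) := by
    intro ξ
    rw [classInner_shift_eq z H zH hzH hzc, hnψ, hlamdef]
  have hexp := subContrib_expand hM z H ξ₀ (χ : G → ℂ) (ψ : G → ℂ)
  obtain ⟨b, hb⟩ : ∃ b : Set (Cfsg.IrrCharacter H), b = Cfsg.blockOf M (ξ₀ : H → ℂ) := ⟨_, rfl⟩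
  obtain ⟨κ, hκ⟩ : ∃ κ : ℂ, κ = kappa p b ξ₁ := ⟨_, rfl⟩
  rw [← hb] at hexp hTχ hTψ ⊢
  have hκR' : Cfsg.MemLocalRing M κ := by rw [hκ, hb]; exact hκR
  have hκN' : ¬ Cfsg.MemLocalIdeal M κ := by rw [hκ, hb]; exact hκN
  obtain ⟨Tχ, hTχdef⟩ : ∃ T : ℂ, T = ∑ ξ ∈ Finset.univ.filter (· ∈ b),
      (nχ ξ : ℂ) * (normDeg p b ξ : ℂ) := ⟨_, rfl⟩
  obtain ⟨Tψ, hTψdef⟩ : ∃ T : ℂ, T = ∑ ξ ∈ Finset.univ.filter (· ∈ b),
      (nψ ξ : ℂ) * (normDeg p b ξ : ℂ) := ⟨_, rfl⟩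
  rw [← hTχdef] at hTχ
  rw [← hTψdef] at hTψ
  have hTχR : Cfsg.MemLocalRing M Tχ := by
    rw [hTχdef]
    exact MemLocalRing.sum hM _ _ (fun ξ _ =>
      MemLocalRing.mul hM (memLocalRing_natCast hM _) (memLocalRing_natCast hM _))
  have hTψR : Cfsg.MemLocalRing M Tψ := by
    rw [hTψdef]
    exact MemLocalRing.sum hM _ _ (fun ξ _ =>
      MemLocalRing.mul hM (memLocalRing_natCast hM _) (memLocalRing_natCast hM _))
  have hprod : κ * Tχ * Tψ = ∑ ξ ∈ Finset.univ.filter (· ∈ b),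
      ∑ ξ' ∈ Finset.univ.filter (· ∈ b),
        ((nχ ξ : ℂ) * (nψ ξ' : ℂ)) * (κ * ((normDeg p b ξ : ℂ) * (normDeg p b ξ' : ℂ))) := by
    rw [hTχdef, hTψdef, mul_assoc, Finset.sum_mul_sum, Finset.mul_sum]
    apply Finset.sum_congr rfl
    intro ξ _
    rw [Finset.mul_sum]
    apply Finset.sum_congr rfl
    intro ξ' _
    ring
  have hcong : Cfsg.MemLocalIdeal M ((p : ℂ) ^ Cfsg.blockDefect p b
      * subContrib p z H b (χ : G → ℂ) (ψ : G → ℂ) - κ * Tχ * Tψ) := by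
    rw [hexp, hprod]
    apply MemLocalIdeal.sum_sub_sum hM
    intro ξ hξ
    apply MemLocalIdeal.sum_sub_sum hM
    intro ξ' hξ'
    rw [hA ξ, hA' ξ']
    have hroot : (lam ξ * conj (lam ξ')) ^ (p ^ k) = 1 := by
      rw [mul_pow, ← map_pow, hlam ξ, hlam ξ', map_one, mul_one]
    have h1 := memLocalIdeal_sub_one_of_pow_eq_one hM hroot
    have hxy : Cfsg.MemLocalIdeal M (lam ξ * (nχ ξ : ℂ) * conj (lam ξ' * (nψ ξ' : ℂ))
        - (nχ ξ : ℂ) * (nψ ξ' : ℂ)) := by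
      have e : lam ξ * (nχ ξ : ℂ) * conj (lam ξ' * (nψ ξ' : ℂ)) - (nχ ξ : ℂ) * (nψ ξ' : ℂ)
          = (lam ξ * conj (lam ξ') - 1) * ((nχ ξ : ℂ) * (nψ ξ' : ℂ)) := by
        rw [map_mul, Complex.conj_natCast]
        ring
      rw [e]
      exact MemLocalIdeal.mul_right hM h1
        (MemLocalRing.mul hM (memLocalRing_natCast hM _) (memLocalRing_natCast hM _))
    have hyR : Cfsg.MemLocalRing M ((nχ ξ : ℂ) * (nψ ξ' : ℂ)) :=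
      MemLocalRing.mul hM (memLocalRing_natCast hM _) (memLocalRing_natCast hM _)
    have hxR : Cfsg.MemLocalRing M (lam ξ * (nχ ξ : ℂ) * conj (lam ξ' * (nψ ξ' : ℂ))) :=
      MemLocalRing.of_sub hM hyR hxy
    have hy'R : Cfsg.MemLocalRing M (κ * ((normDeg p b ξ : ℂ) * (normDeg p b ξ' : ℂ))) :=
      MemLocalRing.mul hM hκR'
        (MemLocalRing.mul hM (memLocalRing_natCast hM _) (memLocalRing_natCast hM _))
    have hrk : Cfsg.MemLocalIdeal M ((mH p b ξ ξ' : ℂ)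
        - κ * ((normDeg p b ξ : ℂ) * (normDeg p b ξ' : ℂ))) := by
      rw [hκ, hb]
      rw [hb] at hξ hξ'
      exact mH_rank_one hM ξ₀ ξ₁ ξ ξ' hξ₁ (Finset.mem_filter.mp hξ).2
        (Finset.mem_filter.mp hξ').2 h0ξ₁
    exact MemLocalIdeal.mul_sub_mul hM hxR hy'R hxy hrk
  have hN : ¬ Cfsg.MemLocalIdeal M (κ * Tχ * Tψ) :=
    not_memLocalIdeal_mul hM (MemLocalRing.mul hM hκR' hTχR) hTψR
      (not_memLocalIdeal_mul hM hκR' hTχR hκN' hTχ) hTψ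
  exact not_memLocalIdeal_of_sub hM hN hcong

end nonvanish

end Cfsg.Agent.Lib.Helper6
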