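import Mathlib
import Cfsg.Prelude.Def_Blocks
import Cfsg.Prelude.Def_BlockRank
import Cfsg.Agent.Lib.Helper6.SubContribNonvanish
import Cfsg.Agent.Lib.Helper6.BlkCenter
import Cfsg.Agent.Lib.Helper6.BlkSecond2
import Cfsg.Agent.Lib.Helper6.BlkNormalDef
import Cfsg.Agent.Lib.Helper6.BlkDim
import Cfsg.Agent.Lib.Helper6.BlkContrib

set_option autoImplicit false
set_option linter.unusedSectionVars false
open Cfsg

namespace Cfsg.Agent.Lib.Helper6

open scoped ComplexConjugate

section projection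

variable {K : Type*} [Group K] [Fintype K] [DecidableEq K]
variable {p : ℕ} {M : Ideal Cfsg.AlgInt}

/-- the block part is self-adjoint for the form on `p`-regular elements -/
theorem sum_blockPart_mul_conj_blockPart (hM : Cfsg.IsPModular p M) (ξ₀ : Cfsg.IrrCharacter K)
    (f g : K → ℂ) :
    ∑ s ∈ Finset.univ.filter (fun s : K => ¬ p ∣ orderOf s),
      Cfsg.blockPart (Cfsg.blockOf M (ξ₀ : K → ℂ)) f s
        * conj (Cfsg.blockPart (Cfsg.blockOf M (ξ₀ : K → ℂ)) g s)
    = ∑ s ∈ Finset.univ.filter (fun s : K => ¬ p ∣ orderOf s),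
      f s * conj (Cfsg.blockPart (Cfsg.blockOf M (ξ₀ : K → ℂ)) g s) := by
  classical
  haveI : Fintype (Cfsg.IrrCharacter K) := Fintype.ofFinite _
  obtain ⟨R, hR⟩ : ∃ R : Finset K, R = Finset.univ.filter (fun s : K => ¬ p ∣ orderOf s) :=
    ⟨_, rfl⟩
  obtain ⟨θ, hθ⟩ : ∃ θ : K → ℂ, θ = Cfsg.blockPart (Cfsg.blockOf M (ξ₀ : K → ℂ)) g := ⟨_, rfl⟩
  obtain ⟨k, hk⟩ : ∃ k : K → K → ℂ, k = fun s t => (Nat.card K : ℂ)⁻¹ *
      ∑ ζ ∈ Finset.univ.filter (· ∈ Cfsg.blockOf M (ξ₀ : K → ℂ)),
        (ζ : K → ℂ) s * conj ((ζ : K → ℂ) t) := ⟨_, rfl⟩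
  have hker : ∀ (f' : K → ℂ), ∀ s ∈ R,
      Cfsg.blockPart (Cfsg.blockOf M (ξ₀ : K → ℂ)) f' s = ∑ t ∈ R, k s t * f' t := by
    intro f' s hs
    rw [hR, Finset.mem_filter] at hs
    rw [blockPart_eq_sum_kernel hM ξ₀ f' s hs.2, hR, hk]
  have hksymm : ∀ s t, conj (k t s) = k s t := by
    intro s t
    rw [hk]
    simp only
    rw [map_mul, map_inv₀, Complex.conj_natCast, map_sum]
    congr 1
    apply Finset.sum_congr rfl
    intro ζ _
    rw [map_mul, Complex.conj_conj, mul_comm]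
  have hθθ : ∀ t ∈ R, θ t = ∑ s ∈ R, k t s * θ s := by
    intro t ht
    have h1 := hker θ t ht
    rw [hθ, blockPart_blockPart] at h1
    rw [hθ]
    exact h1
  rw [← hR, ← hθ]
  calc ∑ s ∈ R, Cfsg.blockPart (Cfsg.blockOf M (ξ₀ : K → ℂ)) f s * conj (θ s)
      = ∑ s ∈ R, ∑ t ∈ R, f t * (k s t * conj (θ s)) := by
        apply Finset.sum_congr rfl
        intro s hs
        rw [hker f s hs, Finset.sum_mul]
        apply Finset.sum_congr rfl
        intro t _
        ring
    _ = ∑ t ∈ R, f t * ∑ s ∈ R, k s t * conj (θ s) := by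
        rw [Finset.sum_comm]
        apply Finset.sum_congr rfl
        intro t _
        rw [Finset.mul_sum]
    _ = ∑ t ∈ R, f t * conj (θ t) := by
        apply Finset.sum_congr rfl
        intro t ht
        congr 1
        conv_rhs => rw [hθθ t ht]
        rw [map_sum]
        apply Finset.sum_congr rfl
        intro s _
        rw [map_mul, hksymm]

end projection

section shift

variable {G : Type*} [Group G] [Fintype G] [DecidableEq G]
variable {p : ℕ} {M : Ideal Cfsg.AlgInt}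

/-- the block parts of the shifted restriction of a character have integral values -/
theorem isIntegral_blockPart_shift (z : G) (H : Subgroup G) [Fintype H]
    (hH : H = Subgroup.centralizer ({z} : Set G)) (b : Set (Cfsg.IrrCharacter H))
    (ψ : Cfsg.IrrCharacter G) (s : H) :
    IsIntegral ℤ (Cfsg.blockPart b (fun c : H => (ψ : G → ℂ) (z * (c : G))) s) := by
  classical
  haveI : Fintype (Cfsg.IrrCharacter H) := Fintype.ofFinite _
  have hzmem : z ∈ H := by
    rw [hH, mem_centralizer_singleton_iff]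
  obtain ⟨zH, hzH⟩ : ∃ zH : H, (zH : G) = z := ⟨⟨z, hzmem⟩, rfl⟩
  have hzc : ∀ h : H, zH * h = h * zH := by
    intro h
    apply Subtype.ext
    rw [Subgroup.coe_mul, Subgroup.coe_mul, hzH]
    have h2 : (h : G) ∈ Subgroup.centralizer ({z} : Set G) := hH ▸ h.2
    rw [mem_centralizer_singleton_iff] at h2
    exact h2
  rw [blockPart_eq_finset_sum]
  apply IsIntegral.sum
  intro ξ _
  rw [classInner_shift_eq z H zH hzH hzc]
  have hres : Cfsg.IsCharacter H (resFun H (ψ : G → ℂ)) :=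
    IsCharacter.restrict H (IsIrrCharacter.isCharacter ψ.2)
  obtain ⟨n, hn⟩ := IsCharacter.classInner_irr_nat hres ξ.2
  rw [hn]
  apply IsIntegral.mul
  · apply IsIntegral.mul
    · -- a root of unity
      have hpow : ((ξ : H → ℂ) zH / (ξ : H → ℂ) 1) ^ (orderOf zH) = 1 := by
        rw [← IsIrrCharacter.apply_central_pow ξ.2 hzc, pow_orderOf_eq_one,
          div_self (IsIrrCharacter.apply_one_ne_zero ξ.2)]
      exact IsIntegral.of_pow (orderOf_pos zH) (by rw [hpow]; exact isIntegral_one)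
    · exact isIntegral_algebraMap (R := ℤ) (A := ℂ) (x := (n : ℤ)) |> fun h => by simpa using h
  · exact IsCharacter.isIntegral_apply (IsIrrCharacter.isCharacter ξ.2) s

/-- the block parts are class functions -/
theorem blockPart_isClassFunction' {K : Type*} [Group K] [Fintype K] (b : Set (Cfsg.IrrCharacter K))
    (f : K → ℂ) : Cfsg.IsClassFunction K (Cfsg.blockPart b f) := by
  classical
  haveI : Fintype (Cfsg.IrrCharacter K) := Fintype.ofFinite _
  intro g h
  rw [blockPart_eq_finset_sum, blockPart_eq_finset_sum]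
  apply Finset.sum_congr rfl
  intro ξ _
  rw [IsIrrCharacter.isClassFunction ξ.2 g h]

/-- the centralizer in `C_G(z)` of a `p`-regular element `s` is the centralizer of `z s` -/
theorem card_centralizer_shift (hp : p.Prime) (z : G) (hz : ∃ k : ℕ, orderOf z = p ^ k)
    (H : Subgroup G) (hH : H = Subgroup.centralizer ({z} : Set G)) (s : H)
    (hs : ¬ p ∣ orderOf s) :
    Nat.card (Subgroup.centralizer ({s} : Set H))
      = Nat.card (Subgroup.centralizer ({z * (s : G)} : Set G)) := by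
  have hcommH : ∀ g : G, g ∈ H ↔ z * g = g * z := by
    intro g
    rw [hH, mem_centralizer_singleton_iff]
  have hzs : z * (s : G) = (s : G) * z := (hcommH _).mp s.2
  have hmap : (Subgroup.centralizer ({s} : Set H)).map H.subtype
      = Subgroup.centralizer ({z * (s : G)} : Set G) := by
    ext x
    rw [Subgroup.mem_map, mem_centralizer_singleton_iff]
    constructor
    · rintro ⟨h, hh, rfl⟩
      rw [mem_centralizer_singleton_iff] at hh
      have h1 : (s : G) * (h : G) = (h : G) * (s : G) := congrArg Subtype.val hh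
      have h2 : z * (h : G) = (h : G) * z := (hcommH _).mp h.2
      simp only [Subgroup.coe_subtype]
      calc z * (s : G) * (h : G) = z * ((s : G) * (h : G)) := by group
        _ = z * ((h : G) * (s : G)) := by rw [h1]
        _ = (z * (h : G)) * (s : G) := by group
        _ = (h : G) * z * (s : G) := by rw [h2]
        _ = (h : G) * (z * (s : G)) := by group
    · intro hx
      -- `z` is a power of `z s`
      have hpp : Cfsg.IsPPart p (z * (s : G)) z :=
        ⟨(s : G), rfl, hzs, hz, by rw [Subgroup.orderOf_coe]; exact hs⟩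
      have hzpow := IsPPart.mem_zpowers hp hpp
      obtain ⟨i, hi⟩ := Subgroup.mem_zpowers_iff.mp hzpow
      have hc : Commute (z * (s : G)) x := hx
      have hcz : Commute z x := by
        rw [← hi]
        exact hc.zpow_left i
      have hxH : x ∈ H := (hcommH x).mpr hcz.eq
      refine ⟨⟨x, hxH⟩, ?_, rfl⟩
      rw [mem_centralizer_singleton_iff]
      apply Subtype.ext
      rw [Subgroup.coe_mul, Subgroup.coe_mul]
      simp only
      have h3 : (s : G) = z⁻¹ * (z * (s : G)) := by group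
      rw [h3]
      have hcz' : Commute z⁻¹ x := hcz.inv_left
      exact (hcz'.mul_left hc).eq
  rw [← hmap, Subgroup.card_map_of_injective H.subtype_injective]

/-- the scaled sum over a `p`-section through central characters -/
theorem card_div_mul_sum_shift_eq (hp : p.Prime) (z : G) (hz : ∃ k : ℕ, orderOf z = p ^ k)
    (H : Subgroup G) [Fintype H] (hH : H = Subgroup.centralizer ({z} : Set G))
    (χ : Cfsg.IrrCharacter G) (W : H → ℂ) (hW : Cfsg.IsClassFunction H W)
    [Fintype (ConjClasses H)] :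
    (Nat.card G : ℂ) / (χ : G → ℂ) 1 * ((Nat.card H : ℂ)⁻¹ *
        ∑ s ∈ Finset.univ.filter (fun s : H => ¬ p ∣ orderOf s),
          (χ : G → ℂ) (z * (s : G)) * W s)
      = ∑ c : ConjClasses H, if ¬ p ∣ orderOf (Quotient.out c) then
          Cfsg.centralChar (χ : G → ℂ) (z * ((Quotient.out c : H) : G)) * W (Quotient.out c)
        else 0 := by
  classical
  have hχcf := IsIrrCharacter.isClassFunction χ.2
  have hshift := shift_isClassFunction z H hH hχcf
  obtain ⟨F, hFdef⟩ : ∃ F : H → ℂ, F = fun s : H =>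
      if ¬ p ∣ orderOf s then (χ : G → ℂ) (z * (s : G)) * W s else 0 := ⟨_, rfl⟩
  have hF : Cfsg.IsClassFunction H F := by
    intro g h
    rw [hFdef]
    simp only
    have ho : orderOf (h * g * h⁻¹) = orderOf g := by
      have : h * g * h⁻¹ = MulAut.conj h g := by simp [MulAut.conj_apply]
      rw [this, MulEquiv.orderOf_eq]
    rw [ho, hW g h]
    have h1 := hshift g h
    simp only at h1
    rw [h1]
  have hsum : ∑ s ∈ Finset.univ.filter (fun s : H => ¬ p ∣ orderOf s),
      (χ : G → ℂ) (z * (s : G)) * W s = ∑ s : H, F s := by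
    rw [Finset.sum_filter, hFdef]
  rw [hsum, sum_eq_sum_conjClasses F hF, Finset.mul_sum, Finset.mul_sum]
  apply Finset.sum_congr rfl
  intro c _
  rw [hFdef]
  simp only
  by_cases hc : ¬ p ∣ orderOf (Quotient.out c)
  · rw [if_pos hc, if_pos hc]
    have hcardC := card_centralizer_shift hp z hz H hH (Quotient.out c) hc
    have h1 := Subgroup.index_mul_card (Subgroup.centralizer ({Quotient.out c} : Set H))
    have h2 := Subgroup.index_mul_card
      (Subgroup.centralizer ({z * ((Quotient.out c : H) : G)} : Set G))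
    rw [hcardC] at h1
    have hC0 : (Nat.card (Subgroup.centralizer ({z * ((Quotient.out c : H) : G)} : Set G)) : ℂ)
        ≠ 0 := card_ne_zero_complex _
    have hH0 : (Nat.card H : ℂ) ≠ 0 := card_ne_zero_complex _
    have h1' : ((Subgroup.centralizer ({Quotient.out c} : Set H)).index : ℂ)
        * (Nat.card (Subgroup.centralizer ({z * ((Quotient.out c : H) : G)} : Set G)) : ℂ)
        = (Nat.card H : ℂ) := by exact_mod_cast h1
    have h2' : ((Subgroup.centralizer ({z * ((Quotient.out c : H) : G)} : Set G)).index : ℂ)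
        * (Nat.card (Subgroup.centralizer ({z * ((Quotient.out c : H) : G)} : Set G)) : ℂ)
        = (Nat.card G : ℂ) := by exact_mod_cast h2
    have hχ1 : (χ : G → ℂ) 1 ≠ 0 := IsIrrCharacter.apply_one_ne_zero χ.2
    have hi0 : ((Subgroup.centralizer ({Quotient.out c} : Set H)).index : ℂ) ≠ 0 := by
      intro h0
      rw [h0, zero_mul] at h1'
      exact hH0 h1'.symm
    unfold Cfsg.centralChar
    rw [← h1', ← h2']
    field_simp
  · rw [if_neg hc, if_neg hc, mul_zero, mul_zero, mul_zero]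

end shift

section val

variable {G : Type*} [Group G] [Fintype G] [DecidableEq G]
variable {p : ℕ} {M : Ideal Cfsg.AlgInt}

/-- the class-sum formula for the scaled contributions of a subsection -/
theorem card_div_mul_subContrib_eq (hM : Cfsg.IsPModular p M) (z : G)
    (hz : ∃ k : ℕ, orderOf z = p ^ k) (H : Subgroup G) [Fintype H]
    (hH : H = Subgroup.centralizer ({z} : Set G)) (ξ₀ : Cfsg.IrrCharacter H)
    (χ ψ : Cfsg.IrrCharacter G) [Fintype (ConjClasses H)] :
    (Nat.card G : ℂ) / (χ : G → ℂ) 1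
        * subContrib p z H (Cfsg.blockOf M (ξ₀ : H → ℂ)) (χ : G → ℂ) (ψ : G → ℂ)
      = ∑ c : ConjClasses H, if ¬ p ∣ orderOf (Quotient.out c) then
          Cfsg.centralChar (χ : G → ℂ) (z * ((Quotient.out c : H) : G))
            * conj (Cfsg.blockPart (Cfsg.blockOf M (ξ₀ : H → ℂ))
                (fun c' : H => (ψ : G → ℂ) (z * (c' : G))) (Quotient.out c))
        else 0 := by
  classical
  unfold subContrib
  rw [sum_blockPart_mul_conj_blockPart hM ξ₀]
  have hW : Cfsg.IsClassFunction H (fun s : H => conj (Cfsg.blockPart (Cfsg.blockOf M (ξ₀ : H → ℂ))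
      (fun c' : H => (ψ : G → ℂ) (z * (c' : G))) s)) := by
    intro g h
    simp only
    rw [blockPart_isClassFunction' _ _ g h]
  exact card_div_mul_sum_shift_eq hM.1 z hz H hH χ _ hW

/-- the scaled contributions are local integers -/
theorem card_div_mul_subContrib_memLocalRing (hM : Cfsg.IsPModular p M) (z : G)
    (hz : ∃ k : ℕ, orderOf z = p ^ k) (H : Subgroup G) [Fintype H]
    (hH : H = Subgroup.centralizer ({z} : Set G)) (ξ₀ : Cfsg.IrrCharacter H)
    (χ ψ : Cfsg.IrrCharacter G) :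
    Cfsg.MemLocalRing M ((Nat.card G : ℂ) / (χ : G → ℂ) 1
        * subContrib p z H (Cfsg.blockOf M (ξ₀ : H → ℂ)) (χ : G → ℂ) (ψ : G → ℂ)) := by
  classical
  haveI : Fintype (ConjClasses H) := Fintype.ofFinite _
  rw [card_div_mul_subContrib_eq hM z hz H hH ξ₀ χ ψ]
  apply MemLocalRing.sum hM
  intro c _
  split_ifs with hc
  · exact memLocalRing_zero hM
  · apply MemLocalRing.mul hM
    · exact memLocalRing_of_isIntegral hM (IsIrrCharacter.isIntegral_centralChar' χ.2 _)
    · exact memLocalRing_of_isIntegral hM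
        (map_isIntegral_int (starRingEnd ℂ) (isIntegral_blockPart_shift z H hH _ ψ _))

/-- characters of the same block have congruent scaled contributions -/
theorem card_div_mul_subContrib_sub_memLocalIdeal (hM : Cfsg.IsPModular p M) (z : G)
    (hz : ∃ k : ℕ, orderOf z = p ^ k) (H : Subgroup G) [Fintype H]
    (hH : H = Subgroup.centralizer ({z} : Set G)) (ξ₀ : Cfsg.IrrCharacter H)
    (χ χ' ψ : Cfsg.IrrCharacter G) (h : Cfsg.SameBlock M (χ : G → ℂ) (χ' : G → ℂ)) :
    Cfsg.MemLocalIdeal M ((Nat.card G : ℂ) / (χ : G → ℂ) 1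
        * subContrib p z H (Cfsg.blockOf M (ξ₀ : H → ℂ)) (χ : G → ℂ) (ψ : G → ℂ)
      - (Nat.card G : ℂ) / (χ' : G → ℂ) 1
        * subContrib p z H (Cfsg.blockOf M (ξ₀ : H → ℂ)) (χ' : G → ℂ) (ψ : G → ℂ)) := by
  classical
  haveI : Fintype (ConjClasses H) := Fintype.ofFinite _
  rw [card_div_mul_subContrib_eq hM z hz H hH ξ₀ χ ψ,
    card_div_mul_subContrib_eq hM z hz H hH ξ₀ χ' ψ, ← Finset.sum_sub_distrib]
  apply MemLocalIdeal.sum hM
  intro c _
  split_ifs with hc
  · rw [sub_self]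
    exact memLocalIdeal_zero hM
  · rw [← sub_mul]
    apply MemLocalIdeal.mul_right hM (h _)
    exact memLocalRing_of_isIntegral hM
      (map_isIntegral_int (starRingEnd ℂ) (isIntegral_blockPart_shift z H hH _ ψ _))

end val

section height

variable {G : Type*} [Group G] [Fintype G] [DecidableEq G]
variable {p : ℕ} {M : Ideal Cfsg.AlgInt}

/-- `p ^ d χ(1) / (p ^ h |G|)` is a local integer, for `χ` of height `h` in a block of
defect `d` -/
theorem memLocalRing_pow_defect_mul_degree_div (hM : Cfsg.IsPModular p M)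
    (B : Set (Cfsg.IrrCharacter G)) (χ : Cfsg.IrrCharacter G) (hχ : χ ∈ B) :
    Cfsg.MemLocalRing M ((p : ℂ) ^ Cfsg.blockDefect p B * (χ : G → ℂ) 1
      / ((p : ℂ) ^ Cfsg.blockHeight p B (χ : G → ℂ) * (Nat.card G : ℂ))) := by
  have hp : p.Prime := hM.1
  rw [IsCharacter.apply_one_eq_charDegree (IsIrrCharacter.isCharacter χ.2)]
  obtain ⟨d, hd⟩ : ∃ d : ℕ, d = Cfsg.blockDefect p B := ⟨_, rfl⟩
  obtain ⟨h, hh⟩ : ∃ h : ℕ, h = Cfsg.blockHeight p B (χ : G → ℂ) := ⟨_, rfl⟩
  obtain ⟨deg, hdeg⟩ : ∃ deg : ℕ, deg = Cfsg.charDegree (χ : G → ℂ) := ⟨_, rfl⟩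
  rw [← hd, ← hh, ← hdeg]
  have hcast : (p : ℂ) ^ d * (deg : ℂ) / ((p : ℂ) ^ h * (Nat.card G : ℂ))
      = (((p ^ d * deg : ℕ) : ℤ) : ℂ) / ((p ^ h * Nat.card G : ℕ) : ℂ) := by
    push_cast
    rfl
  rw [hcast]
  have hm0 : p ^ h * Nat.card G ≠ 0 :=
    Nat.mul_ne_zero (pow_ne_zero _ hp.ne_zero) Nat.card_pos.ne'
  apply memLocalRing_div_of_pow_dvd hM _ _ hm0
  have hfac : (p ^ h * Nat.card G).factorization p = h + (Nat.card G).factorization p := by
    rw [Nat.factorization_mul (pow_ne_zero _ hp.ne_zero) Nat.card_pos.ne',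
      Nat.Prime.factorization_pow hp]
    simp
  rw [hfac]
  have h1 := factorization_eq_sInf_add_height (p := p) B χ hχ
  have h2 := factorization_card_eq_sInf_add_defect (p := p) B χ hχ
  rw [← hh, ← hdeg] at h1
  rw [← hd] at h2
  have h3 : p ^ (deg.factorization p) ∣ deg := Nat.ordProj_dvd deg p
  have h4 : p ^ (h + (Nat.card G).factorization p) ∣ p ^ d * deg := by
    have : h + (Nat.card G).factorization p = d + deg.factorization p := by omega
    rw [this, pow_add]
    exact Nat.mul_dvd_mul_left _ h3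
  exact_mod_cast h4

/-- the contributions of a subsection to a character of height `h` in a block of defect `d`
are divisible by `p ^ h` after multiplication by `p ^ d` -/
theorem pow_defect_mul_subContrib_div_memLocalRing (hM : Cfsg.IsPModular p M) (z : G)
    (hz : ∃ k : ℕ, orderOf z = p ^ k) (H : Subgroup G) [Fintype H]
    (hH : H = Subgroup.centralizer ({z} : Set G)) (ξ₀ : Cfsg.IrrCharacter H)
    (B : Set (Cfsg.IrrCharacter G)) (χ ψ : Cfsg.IrrCharacter G) (hχ : χ ∈ B) :
    Cfsg.MemLocalRing M ((p : ℂ) ^ Cfsg.blockDefect p B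
        * subContrib p z H (Cfsg.blockOf M (ξ₀ : H → ℂ)) (χ : G → ℂ) (ψ : G → ℂ)
      / (p : ℂ) ^ Cfsg.blockHeight p B (χ : G → ℂ)) := by
  have hp : p.Prime := hM.1
  have h1 := memLocalRing_pow_defect_mul_degree_div hM B χ hχ
  have h2 := card_div_mul_subContrib_memLocalRing hM z hz H hH ξ₀ χ ψ
  have h3 := MemLocalRing.mul hM h1 h2
  have hχ1 : (χ : G → ℂ) 1 ≠ 0 := IsIrrCharacter.apply_one_ne_zero χ.2
  have hG0 : (Nat.card G : ℂ) ≠ 0 := card_ne_zero_complex G
  have hp0 : (p : ℂ) ≠ 0 := by exact_mod_cast hp.ne_zero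
  have e : (p : ℂ) ^ Cfsg.blockDefect p B
        * subContrib p z H (Cfsg.blockOf M (ξ₀ : H → ℂ)) (χ : G → ℂ) (ψ : G → ℂ)
      / (p : ℂ) ^ Cfsg.blockHeight p B (χ : G → ℂ)
      = (p : ℂ) ^ Cfsg.blockDefect p B * (χ : G → ℂ) 1
        / ((p : ℂ) ^ Cfsg.blockHeight p B (χ : G → ℂ) * (Nat.card G : ℂ))
        * ((Nat.card G : ℂ) / (χ : G → ℂ) 1
          * subContrib p z H (Cfsg.blockOf M (ξ₀ : H → ℂ)) (χ : G → ℂ) (ψ : G → ℂ)) := by
    field_simp
  rw [e]
  exact h3

end height

section major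

variable {G : Type*} [Group G] [Fintype G] [DecidableEq G]
variable {p : ℕ} {M : Ideal Cfsg.AlgInt}

/-- for a major subsection the scaled contribution of any character of `B` and a character of
height zero is a unit -/
theorem card_div_mul_subContrib_not_memLocalIdeal (hM : Cfsg.IsPModular p M) [Fact p.Prime]
    (z : G) (hz : ∃ k : ℕ, orderOf z = p ^ k) (H : Subgroup G) [Fintype H]
    (hH : H = Subgroup.centralizer ({z} : Set G)) {b : Set (Cfsg.IrrCharacter H)}
    {B : Set (Cfsg.IrrCharacter G)} (hind : Cfsg.IsInducedBlock M H b B)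
    (hdef : Cfsg.blockDefect p b = Cfsg.blockDefect p B)
    (χ ψ : Cfsg.IrrCharacter G) (hχ : χ ∈ B) (hψ : ψ ∈ B)
    (h0ψ : Cfsg.blockHeight p B (ψ : G → ℂ) = 0) :
    ¬ Cfsg.MemLocalIdeal M ((Nat.card G : ℂ) / (χ : G → ℂ) 1
        * subContrib p z H b (χ : G → ℂ) (ψ : G → ℂ)) := by
  classical
  obtain ⟨ξ₀, hb⟩ := hind.1
  obtain ⟨χ', hχ', h0χ'⟩ := exists_height_zero (p := p) B χ hχ
  have hsame : Cfsg.SameBlock M (χ : G → ℂ) (χ' : G → ℂ) := by
    obtain ⟨χ₀, hB⟩ := hind.2.1
    rw [hB] at hχ hχ'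
    exact SameBlock.trans' hM (SameBlock.symm' hχ) hχ'
  intro hcon
  have hnv := pow_defect_mul_subContrib_not_mem hM z hz H hH hind χ' ψ hχ' hψ h0χ' h0ψ
  rw [hb] at hcon hnv hdef
  have hsub := card_div_mul_subContrib_sub_memLocalIdeal hM z hz H hH ξ₀ χ χ' ψ hsame
  have h' := MemLocalIdeal.sub hM hcon hsub
  rw [sub_sub_cancel] at h'
  apply hnv
  rw [hdef]
  have h1 := memLocalRing_pow_defect_mul_degree_div hM B χ' hχ'
  rw [h0χ', pow_zero, one_mul] at h1
  have h2 := MemLocalIdeal.mul_left hM h1 h'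
  have hχ1 : (χ' : G → ℂ) 1 ≠ 0 := IsIrrCharacter.apply_one_ne_zero χ'.2
  have hG0 : (Nat.card G : ℂ) ≠ 0 := card_ne_zero_complex G
  have e : (p : ℂ) ^ Cfsg.blockDefect p B
        * subContrib p z H (Cfsg.blockOf M (ξ₀ : H → ℂ)) (χ' : G → ℂ) (ψ : G → ℂ)
      = (p : ℂ) ^ Cfsg.blockDefect p B * (χ' : G → ℂ) 1 / (Nat.card G : ℂ)
        * ((Nat.card G : ℂ) / (χ' : G → ℂ) 1
          * subContrib p z H (Cfsg.blockOf M (ξ₀ : H → ℂ)) (χ' : G → ℂ) (ψ : G → ℂ)) := by
    field_simp
  rw [e]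
  exact h2

/-- the diagonal contributions of a major subsection are positive -/
theorem exists_pos_subContrib_self (hM : Cfsg.IsPModular p M) [Fact p.Prime]
    (z : G) (hz : ∃ k : ℕ, orderOf z = p ^ k) (H : Subgroup G) [Fintype H]
    (hH : H = Subgroup.centralizer ({z} : Set G)) {b : Set (Cfsg.IrrCharacter H)}
    {B : Set (Cfsg.IrrCharacter G)} (hind : Cfsg.IsInducedBlock M H b B)
    (hdef : Cfsg.blockDefect p b = Cfsg.blockDefect p B)
    (χ : Cfsg.IrrCharacter G) (hχ : χ ∈ B) :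
    ∃ r : ℝ, 0 < r ∧ subContrib p z H b (χ : G → ℂ) (χ : G → ℂ) = (r : ℂ) := by
  classical
  haveI : Fintype (Cfsg.IrrCharacter G) := Fintype.ofFinite _
  obtain ⟨ψ₀, hψ₀, h0ψ₀⟩ := exists_height_zero (p := p) B χ hχ
  have hnv := card_div_mul_subContrib_not_memLocalIdeal hM z hz H hH hind hdef χ ψ₀ hχ hψ₀ h0ψ₀
  have hne : subContrib p z H b (χ : G → ℂ) (ψ₀ : G → ℂ) ≠ 0 := by
    intro h0
    rw [h0, mul_zero] at hnv
    exact hnv (memLocalIdeal_zero hM)
  obtain ⟨ξ₀, hb⟩ := hind.1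
  have hsum := sum_subContrib_mul_conj hM z hz H hH ξ₀ (χ : G → ℂ)
  rw [← hb] at hsum
  refine ⟨∑ ψ : Cfsg.IrrCharacter G,
    Complex.normSq (subContrib p z H b (χ : G → ℂ) (ψ : G → ℂ)), ?_, ?_⟩
  · have h1 : 0 < Complex.normSq (subContrib p z H b (χ : G → ℂ) (ψ₀ : G → ℂ)) :=
      Complex.normSq_pos.mpr hne
    refine lt_of_lt_of_le h1 ?_
    exact Finset.single_le_sum (f := fun ψ : Cfsg.IrrCharacter G =>
      Complex.normSq (subContrib p z H b (χ : G → ℂ) (ψ : G → ℂ)))
      (fun ψ _ => Complex.normSq_nonneg _) (Finset.mem_univ ψ₀)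
  · rw [← hsum]
    push_cast
    apply Finset.sum_congr rfl
    intro ψ _
    rw [Complex.mul_conj]

end major

end Cfsg.Agent.Lib.Helper6
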