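import Mathlib
import Cfsg.Agent.Lib.Helper6.BlkSubNorm
import Cfsg.Agent.Lib.Helper6.BlkSections
import Cfsg.Agent.Lib.Helper6.SecondOrth
import Cfsg.Agent.Lib.Helper6.SubContribVal
import Cfsg.Agent.Lib.Helper6.BlkCover3
import Cfsg.Agent.Lib.Helper6.BlkIdem

set_option autoImplicit false
set_option linter.unusedSectionVars false
open Cfsg

namespace Cfsg.Agent.Lib.Helper6

open scoped ComplexConjugate

section kernelcross

/-- a two-sided version of the kernel expansion of a sum of products -/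
theorem sum_kernel_cross {K K' I : Type*} [Fintype I] (R : Finset K) (R' : Finset K')
    (k : K → ℂ) (k' : K' → ℂ) (F : I → K → ℂ) (F' : I → K' → ℂ) :
    ∑ i, (∑ t ∈ R, k t * F i t) * conj (∑ t' ∈ R', k' t' * F' i t')
      = ∑ t ∈ R, ∑ t' ∈ R', k t * conj (k' t') * ∑ i, F i t * conj (F' i t') := by
  have h1 : ∀ i, (∑ t ∈ R, k t * F i t) * conj (∑ t' ∈ R', k' t' * F' i t')
      = ∑ t ∈ R, ∑ t' ∈ R', k t * conj (k' t') * (F i t * conj (F' i t')) := by
    intro i
    rw [map_sum, Finset.sum_mul_sum]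
    apply Finset.sum_congr rfl
    intro t _
    apply Finset.sum_congr rfl
    intro t' _
    rw [map_mul]
    ring
  simp_rw [h1]
  rw [Finset.sum_comm]
  apply Finset.sum_congr rfl
  intro t _
  rw [Finset.sum_comm]
  apply Finset.sum_congr rfl
  intro t' _
  rw [Finset.mul_sum]

variable {K : Type*} [Group K] [Fintype K] [DecidableEq K]
variable {K' : Type*} [Group K'] [Fintype K'] [DecidableEq K']
variable {p : ℕ} {M : Ideal Cfsg.AlgInt}

/-- a sesquilinear identity on `p`-regular elements passes to block parts, for two groups and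
two blocks -/
theorem sum_blockPart_cross_congr (hM : Cfsg.IsPModular p M) (ξ₀ : Cfsg.IrrCharacter K)
    (ξ₀' : Cfsg.IrrCharacter K')
    {I J : Type*} [Fintype I] [Fintype J] (F : I → K → ℂ) (F' : I → K' → ℂ)
    (Z : J → K → ℂ) (Z' : J → K' → ℂ)
    (h : ∀ (t : K) (t' : K'), ¬ p ∣ orderOf t → ¬ p ∣ orderOf t' →
      ∑ i, F i t * conj (F' i t') = ∑ j, Z j t * conj (Z' j t'))
    (s : K) (hs : ¬ p ∣ orderOf s) (s' : K') (hs' : ¬ p ∣ orderOf s') :
    ∑ i, Cfsg.blockPart (Cfsg.blockOf M (ξ₀ : K → ℂ)) (F i) s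
        * conj (Cfsg.blockPart (Cfsg.blockOf M (ξ₀' : K' → ℂ)) (F' i) s')
      = ∑ j, Cfsg.blockPart (Cfsg.blockOf M (ξ₀ : K → ℂ)) (Z j) s
        * conj (Cfsg.blockPart (Cfsg.blockOf M (ξ₀' : K' → ℂ)) (Z' j) s') := by
  classical
  haveI : Fintype (Cfsg.IrrCharacter K) := Fintype.ofFinite _
  haveI : Fintype (Cfsg.IrrCharacter K') := Fintype.ofFinite _
  simp_rw [blockPart_eq_sum_kernel hM ξ₀ _ s hs, blockPart_eq_sum_kernel hM ξ₀' _ s' hs']
  rw [sum_kernel_cross, sum_kernel_cross]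
  apply Finset.sum_congr rfl
  intro t ht
  apply Finset.sum_congr rfl
  intro t' ht'
  rw [h t t' (Finset.mem_filter.mp ht).2 (Finset.mem_filter.mp ht').2]

/-- a sesquilinear sum vanishing on `p`-regular elements vanishes on block parts -/
theorem sum_blockPart_cross_eq_zero (hM : Cfsg.IsPModular p M) (ξ₀ : Cfsg.IrrCharacter K)
    (ξ₀' : Cfsg.IrrCharacter K')
    {I : Type*} [Fintype I] (F : I → K → ℂ) (F' : I → K' → ℂ)
    (h : ∀ (t : K) (t' : K'), ¬ p ∣ orderOf t → ¬ p ∣ orderOf t' →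
      ∑ i, F i t * conj (F' i t') = 0)
    (s : K) (hs : ¬ p ∣ orderOf s) (s' : K') (hs' : ¬ p ∣ orderOf s') :
    ∑ i, Cfsg.blockPart (Cfsg.blockOf M (ξ₀ : K → ℂ)) (F i) s
        * conj (Cfsg.blockPart (Cfsg.blockOf M (ξ₀' : K' → ℂ)) (F' i) s') = 0 := by
  classical
  haveI : Fintype (Cfsg.IrrCharacter K) := Fintype.ofFinite _
  haveI : Fintype (Cfsg.IrrCharacter K') := Fintype.ofFinite _
  simp_rw [blockPart_eq_sum_kernel hM ξ₀ _ s hs, blockPart_eq_sum_kernel hM ξ₀' _ s' hs']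
  rw [sum_kernel_cross]
  apply Finset.sum_eq_zero
  intro t ht
  apply Finset.sum_eq_zero
  intro t' ht'
  rw [h t t' (Finset.mem_filter.mp ht).2 (Finset.mem_filter.mp ht').2, mul_zero]

/-- a one-sided version: a sum against a fixed family of constants -/
theorem sum_blockPart_mul_const_eq_zero (hM : Cfsg.IsPModular p M) (ξ₀ : Cfsg.IrrCharacter K)
    {I : Type*} [Fintype I] (F : I → K → ℂ) (a : I → ℂ)
    (h : ∀ t : K, ¬ p ∣ orderOf t → ∑ i, F i t * a i = 0)
    (s : K) (hs : ¬ p ∣ orderOf s) :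
    ∑ i, Cfsg.blockPart (Cfsg.blockOf M (ξ₀ : K → ℂ)) (F i) s * a i = 0 := by
  classical
  haveI : Fintype (Cfsg.IrrCharacter K) := Fintype.ofFinite _
  simp_rw [blockPart_eq_sum_kernel hM ξ₀ _ s hs, Finset.sum_mul]
  rw [Finset.sum_comm]
  apply Finset.sum_eq_zero
  intro t ht
  have h1 := h t (Finset.mem_filter.mp ht).2
  have h2 : ∀ i : I, ((Nat.card K : ℂ)⁻¹ * ∑ ζ ∈ Finset.univ.filter
      (· ∈ Cfsg.blockOf M (ξ₀ : K → ℂ)), (ζ : K → ℂ) s * conj ((ζ : K → ℂ) t)) * F i t * a i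
      = ((Nat.card K : ℂ)⁻¹ * ∑ ζ ∈ Finset.univ.filter
      (· ∈ Cfsg.blockOf M (ξ₀ : K → ℂ)), (ζ : K → ℂ) s * conj ((ζ : K → ℂ) t)) * (F i t * a i) := by
    intro i
    ring
  simp_rw [h2]
  rw [← Finset.mul_sum, h1, mul_zero]

end kernelcross

section shiftcross

variable {G : Type*} [Group G] [Fintype G] [DecidableEq G]
variable {p : ℕ} {M : Ideal Cfsg.AlgInt}

theorem isPPart_shift (u : G) (hu : ∃ k : ℕ, orderOf u = p ^ k) (H : Subgroup G)
    (hH : H = Subgroup.centralizer ({u} : Set G)) (t : H) (ht : ¬ p ∣ orderOf t) :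
    Cfsg.IsPPart p (u * (t : G)) u := by
  refine ⟨(t : G), rfl, ?_, hu, ?_⟩
  · have h1 : (t : G) ∈ Subgroup.centralizer ({u} : Set G) := hH ▸ t.2
    rw [Subgroup.mem_centralizer_singleton_iff] at h1
    exact h1.symm
  · rw [Subgroup.orderOf_coe]
    exact ht

/-- subsections at non-conjugate `p`-elements are orthogonal -/
theorem sum_blockPart_shift_cross_of_not_isConj (hM : Cfsg.IsPModular p M)
    [Fintype (Cfsg.IrrCharacter G)] (u u' : G)
    (hu : ∃ k : ℕ, orderOf u = p ^ k) (hu' : ∃ k : ℕ, orderOf u' = p ^ k)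
    (H H' : Subgroup G) [Fintype H] [Fintype H']
    (hH : H = Subgroup.centralizer ({u} : Set G)) (hH' : H' = Subgroup.centralizer ({u'} : Set G))
    (hne : ¬ IsConj u u') (ξ₀ : Cfsg.IrrCharacter H) (ξ₀' : Cfsg.IrrCharacter H')
    (s : H) (hs : ¬ p ∣ orderOf s) (s' : H') (hs' : ¬ p ∣ orderOf s') :
    ∑ χ : Cfsg.IrrCharacter G,
      Cfsg.blockPart (Cfsg.blockOf M (ξ₀ : H → ℂ)) (fun c : H => (χ : G → ℂ) (u * (c : G))) s
        * conj (Cfsg.blockPart (Cfsg.blockOf M (ξ₀' : H' → ℂ))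
          (fun c : H' => (χ : G → ℂ) (u' * (c : G))) s') = 0 := by
  classical
  have hp : p.Prime := hM.1
  apply sum_blockPart_cross_eq_zero hM ξ₀ ξ₀'
    (fun (χ : Cfsg.IrrCharacter G) (c : H) => (χ : G → ℂ) (u * (c : G)))
    (fun (χ : Cfsg.IrrCharacter G) (c : H') => (χ : G → ℂ) (u' * (c : G))) _ s hs s' hs'
  intro t t' ht ht'
  apply (sum_irr_mul_conj (u * (t : G)) (u' * (t' : G))).2
  intro hconj
  apply hne
  rw [isConj_iff] at hconj ⊢
  obtain ⟨c, hc⟩ := hconj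
  refine ⟨c, ?_⟩
  have h1 := IsPPart.conj (isPPart_shift u hu H hH t ht) c
  rw [hc] at h1
  exact IsPPart.unique hp h1 (isPPart_shift u' hu' H' hH' t' ht')

/-- two different blocks of the same centralizer give orthogonal subsections -/
theorem sum_blockPart_shift_cross_same (hM : Cfsg.IsPModular p M)
    [Fintype (Cfsg.IrrCharacter G)] (u : G) (hu : ∃ k : ℕ, orderOf u = p ^ k)
    (H : Subgroup G) [Fintype H] (hH : H = Subgroup.centralizer ({u} : Set G))
    (ξ₀ ξ₀' : Cfsg.IrrCharacter H)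
    (hne : Cfsg.blockOf M (ξ₀ : H → ℂ) ≠ Cfsg.blockOf M (ξ₀' : H → ℂ))
    (s : H) (hs : ¬ p ∣ orderOf s) (s' : H) (hs' : ¬ p ∣ orderOf s') :
    ∑ χ : Cfsg.IrrCharacter G,
      Cfsg.blockPart (Cfsg.blockOf M (ξ₀ : H → ℂ)) (fun c : H => (χ : G → ℂ) (u * (c : G))) s
        * conj (Cfsg.blockPart (Cfsg.blockOf M (ξ₀' : H → ℂ))
          (fun c : H => (χ : G → ℂ) (u * (c : G))) s') = 0 := by
  classical
  have hp : p.Prime := hM.1
  haveI : Fintype (Cfsg.IrrCharacter H) := Fintype.ofFinite _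
  rw [sum_blockPart_cross_congr hM ξ₀ ξ₀'
    (fun (χ : Cfsg.IrrCharacter G) (c : H) => (χ : G → ℂ) (u * (c : G)))
    (fun (χ : Cfsg.IrrCharacter G) (c : H) => (χ : G → ℂ) (u * (c : G)))
    (fun (ζ : Cfsg.IrrCharacter H) => (ζ : H → ℂ)) (fun (ζ : Cfsg.IrrCharacter H) => (ζ : H → ℂ))
    (fun t t' ht ht' => sum_irr_shift_mul_conj hp u hu H hH t t' ht ht') s hs s' hs']
  apply Finset.sum_eq_zero
  intro ζ _
  rw [blockPart_irr_of_mem, blockPart_irr_of_mem]
  by_cases h1 : ζ ∈ Cfsg.blockOf M (ξ₀ : H → ℂ)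
  · by_cases h2 : ζ ∈ Cfsg.blockOf M (ξ₀' : H → ℂ)
    · exfalso
      apply hne
      rw [blockOf_eq_of_mem hM h1, blockOf_eq_of_mem hM h2]
    · rw [if_neg h2, map_zero, mul_zero]
  · rw [if_neg h1, zero_mul]

/-- a subsection at a nontrivial `p`-element is orthogonal to the values at `p`-regular
elements -/
theorem sum_blockPart_shift_mul_conj_regular (hM : Cfsg.IsPModular p M)
    [Fintype (Cfsg.IrrCharacter G)] (u : G) (hu : ∃ k : ℕ, orderOf u = p ^ k) (hu1 : u ≠ 1)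
    (H : Subgroup G) [Fintype H] (hH : H = Subgroup.centralizer ({u} : Set G))
    (ξ₀ : Cfsg.IrrCharacter H) (s : H) (hs : ¬ p ∣ orderOf s) (y : G) (hy : ¬ p ∣ orderOf y) :
    ∑ χ : Cfsg.IrrCharacter G,
      Cfsg.blockPart (Cfsg.blockOf M (ξ₀ : H → ℂ)) (fun c : H => (χ : G → ℂ) (u * (c : G))) s
        * conj ((χ : G → ℂ) y) = 0 := by
  classical
  have hp : p.Prime := hM.1
  apply sum_blockPart_mul_const_eq_zero hM ξ₀
    (fun (χ : Cfsg.IrrCharacter G) (c : H) => (χ : G → ℂ) (u * (c : G)))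
    (fun χ : Cfsg.IrrCharacter G => conj ((χ : G → ℂ) y)) _ s hs
  intro t ht
  apply (sum_irr_mul_conj (u * (t : G)) y).2
  intro hconj
  rw [isConj_iff] at hconj
  obtain ⟨c, hc⟩ := hconj
  have h1 := IsPPart.conj (isPPart_shift u hu H hH t ht) c
  rw [hc] at h1
  have h2 : Cfsg.IsPPart p y 1 := by
    refine ⟨y, one_mul y, Commute.one_left y, ⟨0, by simp⟩, hy⟩
  have h3 := IsPPart.unique hp h1 h2
  apply hu1
  have : u = c⁻¹ * (c * u * c⁻¹) * c := by group
  rw [this, h3]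
  group

/-- the `b`-part of the shifted character vanishes for characters outside the induced block -/
theorem blockPart_shift_eq_zero_of_not_mem (hM : Cfsg.IsPModular p M) (u : G)
    (hu : ∃ k : ℕ, orderOf u = p ^ k) (H : Subgroup G) [Fintype H]
    (hH : H = Subgroup.centralizer ({u} : Set G)) {B : Set (Cfsg.IrrCharacter G)}
    {b : Set (Cfsg.IrrCharacter H)} (hind : Cfsg.IsInducedBlock M H b B)
    (χ : Cfsg.IrrCharacter G) (hχ : χ ∉ B) (y : H) (hy : ¬ p ∣ orderOf y) :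
    Cfsg.blockPart b (fun c : H => (χ : G → ℂ) (u * (c : G))) y = 0 := by
  apply second_main_chars hM u hu H hH (B := Cfsg.blockOf M (χ : G → ℂ)) ⟨χ, rfl⟩ χ
    (sameBlock_refl hM _) hind.1 _ y hy
  intro hcon
  apply hχ
  rw [IsInducedBlock.unique H hM hind hcon]
  exact sameBlock_refl hM _

/-- the finite set of blocks of `H` inducing `B` -/
noncomputable def inducingBlocks (M : Ideal Cfsg.AlgInt) (H : Subgroup G)
    (B : Set (Cfsg.IrrCharacter G)) : Finset (Set (Cfsg.IrrCharacter H)) := by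
  classical
  haveI : Fintype (Set (Cfsg.IrrCharacter H)) := Fintype.ofFinite _
  exact Finset.univ.filter (fun b => Cfsg.IsInducedBlock M H b B)

theorem mem_inducingBlocks (H : Subgroup G) (B : Set (Cfsg.IrrCharacter G))
    (b : Set (Cfsg.IrrCharacter H)) :
    b ∈ inducingBlocks M H B ↔ Cfsg.IsInducedBlock M H b B := by
  classical
  unfold inducingBlocks
  simp

/-- Brauer's second main theorem: the value of a character of `B` at `u y` is the sum of its
subsections over the blocks of `C_G(u)` inducing `B` -/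
theorem apply_shift_eq_sum_inducingBlocks (hM : Cfsg.IsPModular p M) (u : G)
    (hu : ∃ k : ℕ, orderOf u = p ^ k) (H : Subgroup G) [Fintype H]
    (hH : H = Subgroup.centralizer ({u} : Set G))
    (B : Set (Cfsg.IrrCharacter G)) (hB : Cfsg.IsPBlock M B)
    (χ : Cfsg.IrrCharacter G) (hχ : χ ∈ B) (y : H) (hy : ¬ p ∣ orderOf y) :
    (χ : G → ℂ) (u * (y : G)) = ∑ b ∈ inducingBlocks M H B,
      Cfsg.blockPart b (fun c : H => (χ : G → ℂ) (u * (c : G))) y := by
  classical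
  have : Fintype (Cfsg.IrrCharacter H) := Fintype.ofFinite _
  have h1 := blockPart_shift_induced hM u hu H hH B hB χ y hy
  rw [if_pos hχ] at h1
  rw [← h1, blockPart_union hM _ (inducedSet_isUnion hM H B)]
  apply Finset.sum_congr _ (fun _ _ => rfl)
  ext b
  rw [mem_inducingBlocks, Finset.mem_image]
  constructor
  · rintro ⟨ψ, hψ, rfl⟩
    simpa using hψ
  · intro hb
    obtain ⟨ψ₀, hψ₀⟩ := hb.1
    refine ⟨ψ₀, ?_, hψ₀.symm⟩
    simp only [Finset.mem_filter, Finset.mem_univ, true_and, Set.mem_ofPred_eq]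
    rw [← hψ₀]
    exact hb

end shiftcross

section defectint

variable {G : Type*} [Group G] [Fintype G] [DecidableEq G]
variable {p : ℕ} {M : Ideal Cfsg.AlgInt}

/-- for a character in a block of defect `d`, `p ^ d χ(x) / |C_G(x)|` is a local integer -/
theorem memLocalRing_pow_defect_mul_apply_div (hM : Cfsg.IsPModular p M)
    (B : Set (Cfsg.IrrCharacter G)) (χ : Cfsg.IrrCharacter G) (hχ : χ ∈ B) (x : G) :
    Cfsg.MemLocalRing M ((p : ℂ) ^ Cfsg.blockDefect p B * (χ : G → ℂ) x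
      / (Nat.card (Subgroup.centralizer ({x} : Set G)) : ℂ)) := by
  have h1 := memLocalRing_pow_defect_mul_degree_div hM B χ hχ
  have h2 : Cfsg.MemLocalRing M (Cfsg.centralChar (χ : G → ℂ) x) :=
    memLocalRing_of_isIntegral hM (IsIrrCharacter.isIntegral_centralChar' χ.2 x)
  have h3 : Cfsg.MemLocalRing M ((p : ℂ) ^ Cfsg.blockHeight p B (χ : G → ℂ)) :=
    MemLocalRing.pow hM (memLocalRing_natCast hM p) _
  have h4 := MemLocalRing.mul hM (MemLocalRing.mul hM h1 h3) h2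
  convert h4 using 1
  have hdeg : (χ : G → ℂ) 1 ≠ 0 := by
    rw [IsCharacter.apply_one_eq_charDegree (IsIrrCharacter.isCharacter χ.2)]
    exact_mod_cast (IsIrrCharacter.charDegree_pos χ.2).ne'
  have hG : (Nat.card G : ℂ) ≠ 0 := by exact_mod_cast Nat.card_pos.ne'
  have hC : (Nat.card (Subgroup.centralizer ({x} : Set G)) : ℂ) ≠ 0 := by
    exact_mod_cast Nat.card_pos.ne'
  have hp0 : (p : ℂ) ^ Cfsg.blockHeight p B (χ : G → ℂ) ≠ 0 := by
    apply pow_ne_zero
    exact_mod_cast hM.1.ne_zero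
  have hidx : ((Subgroup.centralizer ({x} : Set G)).index : ℂ)
      * (Nat.card (Subgroup.centralizer ({x} : Set G)) : ℂ) = (Nat.card G : ℂ) := by
    exact_mod_cast Subgroup.index_mul_card (Subgroup.centralizer ({x} : Set G))
  unfold Cfsg.centralChar
  rw [← hidx]
  have hidx0 : ((Subgroup.centralizer ({x} : Set G)).index : ℂ) ≠ 0 := by
    intro h0
    rw [h0, zero_mul] at hidx
    exact hG hidx.symm
  field_simp

end defectint

end Cfsg.Agent.Lib.Helper6
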