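import Mathlib
import Cfsg.Agent.Lib.Helper6.GreenPL
import Cfsg.Agent.Lib.Helper6.BlkLocal

set_option autoImplicit false
set_option linter.unusedSectionVars false
set_option linter.style.haveILetI false
open Cfsg

namespace Cfsg.Agent.Lib.Helper6

open scoped ComplexConjugate

section hadamard

/-- the rows of three mutually orthogonal balanced sign vectors on a four element set have a
constant product, and every sign pattern with that product occurs -/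
theorem hadamard_rows {α : Type*} (S : Finset α) (hS : S.card = 4) (h₁ h₂ h₃ : α → ℤ)
    (hpm₁ : ∀ a ∈ S, h₁ a = 1 ∨ h₁ a = -1) (hpm₂ : ∀ a ∈ S, h₂ a = 1 ∨ h₂ a = -1)
    (hpm₃ : ∀ a ∈ S, h₃ a = 1 ∨ h₃ a = -1)
    (hs₁ : ∑ a ∈ S, h₁ a = 0) (hs₂ : ∑ a ∈ S, h₂ a = 0) (hs₃ : ∑ a ∈ S, h₃ a = 0)
    (h12 : ∑ a ∈ S, h₁ a * h₂ a = 0) (h13 : ∑ a ∈ S, h₁ a * h₃ a = 0)
    (h23 : ∑ a ∈ S, h₂ a * h₃ a = 0) :
    ∃ π : ℤ, (π = 1 ∨ π = -1) ∧ (∀ a ∈ S, h₁ a * h₂ a * h₃ a = π) ∧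
      ∀ s₁ s₂ s₃ : ℤ, (s₁ = 1 ∨ s₁ = -1) → (s₂ = 1 ∨ s₂ = -1) → (s₃ = 1 ∨ s₃ = -1) →
        s₁ * s₂ * s₃ = π → ∃ a ∈ S, h₁ a = s₁ ∧ h₂ a = s₂ ∧ h₃ a = s₃ := by
  classical
  obtain ⟨Q, hQ⟩ : ∃ Q : ℤ, Q = ∑ a ∈ S, h₁ a * h₂ a * h₃ a := ⟨_, rfl⟩
  have hexp : ∀ s₁ s₂ s₃ : ℤ,
      ∑ a ∈ S, (1 + s₁ * h₁ a) * (1 + s₂ * h₂ a) * (1 + s₃ * h₃ a) = 4 + s₁ * s₂ * s₃ * Q := by
    intro s₁ s₂ s₃
    have h : ∀ a ∈ S, (1 + s₁ * h₁ a) * (1 + s₂ * h₂ a) * (1 + s₃ * h₃ a)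
        = 1 + s₁ * h₁ a + s₂ * h₂ a + s₃ * h₃ a + s₁ * s₂ * (h₁ a * h₂ a)
          + s₁ * s₃ * (h₁ a * h₃ a) + s₂ * s₃ * (h₂ a * h₃ a)
          + s₁ * s₂ * s₃ * (h₁ a * h₂ a * h₃ a) := by
      intro a _
      ring
    rw [Finset.sum_congr rfl h]
    simp only [Finset.sum_add_distrib, ← Finset.mul_sum, Finset.sum_const, hs₁, hs₂, hs₃, h12,
      h13, h23, hS, ← hQ]
    simp
  have hprod : ∀ a ∈ S, h₁ a * h₂ a * h₃ a = 1 ∨ h₁ a * h₂ a * h₃ a = -1 := by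
    intro a ha
    rcases hpm₁ a ha with e1 | e1 <;> rcases hpm₂ a ha with e2 | e2 <;>
      rcases hpm₃ a ha with e3 | e3 <;> rw [e1, e2, e3] <;> norm_num
  have hQle : Q ≤ 4 := by
    rw [hQ]
    have : ∑ a ∈ S, h₁ a * h₂ a * h₃ a ≤ ∑ _a ∈ S, (1 : ℤ) := by
      apply Finset.sum_le_sum
      intro a ha
      rcases hprod a ha with h | h <;> rw [h] <;> norm_num
    rw [Finset.sum_const, hS] at this
    simpa using this
  have hQge : -4 ≤ Q := by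
    rw [hQ]
    have : ∑ _a ∈ S, (-1 : ℤ) ≤ ∑ a ∈ S, h₁ a * h₂ a * h₃ a := by
      apply Finset.sum_le_sum
      intro a ha
      rcases hprod a ha with h | h <;> rw [h] <;> norm_num
    rw [Finset.sum_const, hS] at this
    simpa using this
  have hdvd : (8 : ℤ) ∣ 4 + Q := by
    have h1 := hexp 1 1 1
    simp only [one_mul] at h1
    rw [← h1]
    apply Finset.dvd_sum
    intro a ha
    rcases hpm₁ a ha with e1 | e1 <;> rcases hpm₂ a ha with e2 | e2 <;>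
      rcases hpm₃ a ha with e3 | e3 <;> rw [e1, e2, e3] <;> norm_num
  have hQ4 : Q = 4 ∨ Q = -4 := by omega
  have hexists : ∀ π : ℤ, π * Q = 4 → ∀ s₁ s₂ s₃ : ℤ, (s₁ = 1 ∨ s₁ = -1) → (s₂ = 1 ∨ s₂ = -1) →
      (s₃ = 1 ∨ s₃ = -1) → s₁ * s₂ * s₃ = π → ∃ a ∈ S, h₁ a = s₁ ∧ h₂ a = s₂ ∧ h₃ a = s₃ := by
    intro π hπQ s₁ s₂ s₃ hs1 hs2 hs3 hsp
    have h1 := hexp s₁ s₂ s₃
    rw [hsp, hπQ] at h1
    have h2 : ∑ a ∈ S, (1 + s₁ * h₁ a) * (1 + s₂ * h₂ a) * (1 + s₃ * h₃ a) ≠ 0 := by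
      rw [h1]
      norm_num
    obtain ⟨a, ha, hne⟩ := Finset.exists_ne_zero_of_sum_ne_zero h2
    refine ⟨a, ha, ?_, ?_, ?_⟩
    · rcases hpm₁ a ha with e | e <;> rcases hs1 with f | f <;> rw [e, f] at hne ⊢ <;>
        simp at hne ⊢
    · rcases hpm₂ a ha with e | e <;> rcases hs2 with f | f <;> rw [e, f] at hne ⊢ <;>
        simp at hne ⊢
    · rcases hpm₃ a ha with e | e <;> rcases hs3 with f | f <;> rw [e, f] at hne ⊢ <;>
        simp at hne ⊢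
  rcases hQ4 with hq | hq
  · refine ⟨1, Or.inl rfl, ?_, hexists 1 (by rw [hq]; norm_num)⟩
    have hz : ∑ a ∈ S, (1 - h₁ a * h₂ a * h₃ a) = 0 := by
      rw [Finset.sum_sub_distrib, ← hQ, hq, Finset.sum_const, hS]
      norm_num
    have hnn : ∀ a ∈ S, (0 : ℤ) ≤ 1 - h₁ a * h₂ a * h₃ a := by
      intro a ha
      rcases hprod a ha with h | h <;> rw [h] <;> norm_num
    intro a ha
    have := (Finset.sum_eq_zero_iff_of_nonneg hnn).mp hz a ha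
    omega
  · refine ⟨-1, Or.inr rfl, ?_, hexists (-1) (by rw [hq]; norm_num)⟩
    have hz : ∑ a ∈ S, (1 + h₁ a * h₂ a * h₃ a) = 0 := by
      rw [Finset.sum_add_distrib, ← hQ, hq, Finset.sum_const, hS]
      norm_num
    have hnn : ∀ a ∈ S, (0 : ℤ) ≤ 1 + h₁ a * h₂ a * h₃ a := by
      intro a ha
      rcases hprod a ha with h | h <;> rw [h] <;> norm_num
    intro a ha
    have := (Finset.sum_eq_zero_iff_of_nonneg hnn).mp hz a ha
    omega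

end hadamard

section integrality

variable {p : ℕ} {M : Ideal Cfsg.AlgInt}

/-- the integrality of a signed diagonal sum on pairs of `p`-regular elements -/
theorem rr_integrality (hM : Cfsg.IsPModular p M) {ι : Type*} (S : Finset ι) (a b : ι → ℂ)
    (α β : ι → ℤ) (N : ℂ)
    (hα : ∀ i ∈ S, α i = 1 ∨ α i = -1)
    (hb0 : ∑ i ∈ S, ((β i : ℤ) : ℂ) * b i = 0)
    (hdiff : ∀ i ∈ S, ∀ k ∈ S,
      Cfsg.MemLocalRing M ((a i - ((α i : ℤ) : ℂ) * ((α k : ℤ) : ℂ) * a k) / N))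
    (hb : ∀ i ∈ S, Cfsg.MemLocalRing M (b i)) :
    Cfsg.MemLocalRing M ((∑ i ∈ S, ((α i : ℤ) : ℂ) * ((β i : ℤ) : ℂ) * a i * b i) / N) := by
  classical
  by_cases hne : S.Nonempty
  · obtain ⟨k, hk⟩ := hne
    have hsq : ∀ i ∈ S, ((α i : ℤ) : ℂ) * ((α i : ℤ) : ℂ) = 1 := by
      intro i hi
      rcases hα i hi with h | h <;> rw [h] <;> norm_num
    have h1 : ∑ i ∈ S, ((α i : ℤ) : ℂ) * ((β i : ℤ) : ℂ) * a i * b i
        = ∑ i ∈ S, ((α i : ℤ) : ℂ) * ((β i : ℤ) : ℂ) * b i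
          * (a i - ((α i : ℤ) : ℂ) * ((α k : ℤ) : ℂ) * a k) := by
      have h2 : ∑ i ∈ S, ((α i : ℤ) : ℂ) * ((β i : ℤ) : ℂ) * b i
          * (a i - ((α i : ℤ) : ℂ) * ((α k : ℤ) : ℂ) * a k)
          = ∑ i ∈ S, ((α i : ℤ) : ℂ) * ((β i : ℤ) : ℂ) * a i * b i
            - ((α k : ℤ) : ℂ) * a k * ∑ i ∈ S, ((β i : ℤ) : ℂ) * b i := by
        rw [Finset.mul_sum, ← Finset.sum_sub_distrib]
        apply Finset.sum_congr rfl
        intro i hi
        have := hsq i hi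
        linear_combination (-(((β i : ℤ) : ℂ) * b i * ((α k : ℤ) : ℂ) * a k)) * this
      rw [h2, hb0, mul_zero, sub_zero]
    rw [h1, Finset.sum_div]
    apply MemLocalRing.sum hM
    intro i hi
    rw [mul_div_assoc]
    exact MemLocalRing.mul hM
      (MemLocalRing.mul hM (MemLocalRing.mul hM (memLocalRing_intCast hM _)
        (memLocalRing_intCast hM _)) (hb i hi)) (hdiff i hi k hk)
  · rw [Finset.not_nonempty_iff_eq_empty] at hne
    rw [hne, Finset.sum_empty, zero_div]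
    exact memLocalRing_zero hM

variable {G : Type*} [Group G] [Fintype G] [DecidableEq G]

/-- a difference of two irreducible characters with a sign, vanishing at the `p`-singular
elements, is divisible by the order of the centralizer in the local ring -/
theorem memLocalRing_sub_mul_div_card (hM : Cfsg.IsPModular p M) (χ₁ χ₂ : Cfsg.IrrCharacter G)
    (t : ℤ)
    (hvan : ∀ g : G, p ∣ orderOf g → (χ₁ : G → ℂ) g - ((t : ℤ) : ℂ) * (χ₂ : G → ℂ) g = 0)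
    (x : G) :
    Cfsg.MemLocalRing M (((χ₁ : G → ℂ) x - ((t : ℤ) : ℂ) * (χ₂ : G → ℂ) x)
      / (Nat.card (Subgroup.centralizer ({x} : Set G)) : ℂ)) := by
  classical
  have hp : p.Prime := hM.1
  haveI : Fact p.Prime := ⟨hp⟩
  haveI : Fintype (Cfsg.IrrCharacter G) := Fintype.ofFinite _
  obtain ⟨c, hc⟩ : ∃ c : Cfsg.IrrCharacter G → ℤ,
      c = fun χ => (if χ = χ₁ then 1 else 0) - t * (if χ = χ₂ then 1 else 0) := ⟨_, rfl⟩
  have hs : ∀ g : G, ∑ χ : Cfsg.IrrCharacter G, ((c χ : ℤ) : ℂ) * (χ : G → ℂ) g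
      = (χ₁ : G → ℂ) g - ((t : ℤ) : ℂ) * (χ₂ : G → ℂ) g := by
    intro g
    have h1 : ∀ χ : Cfsg.IrrCharacter G, ((c χ : ℤ) : ℂ) * (χ : G → ℂ) g
        = (if χ = χ₁ then (χ : G → ℂ) g else 0)
          - ((t : ℤ) : ℂ) * (if χ = χ₂ then (χ : G → ℂ) g else 0) := by
      intro χ
      rw [hc]
      push_cast
      split_ifs <;> ring
    rw [Finset.sum_congr rfl (fun χ _ => h1 χ), Finset.sum_sub_distrib, ← Finset.mul_sum,
      Finset.sum_ite_eq', Finset.sum_ite_eq']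
    simp
  obtain ⟨z, hzint, hz⟩ := genchar_vanishing_div (p := p) c
    (fun g hg => by rw [hs]; exact hvan g hg) x
  rw [hs x] at hz
  obtain ⟨n, hn⟩ : ∃ n : ℕ, n = Nat.card (Subgroup.centralizer ({x} : Set G)) := ⟨_, rfl⟩
  rw [← hn] at hz ⊢
  have hn0 : n ≠ 0 := by rw [hn]; exact Nat.card_pos.ne'
  have hm : ¬ p ∣ n / p ^ n.factorization p := Nat.not_dvd_ordCompl hp hn0
  have hsplit : (n : ℂ) = (p : ℂ) ^ n.factorization p * ((n / p ^ n.factorization p : ℕ) : ℂ) := by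
    exact_mod_cast (Nat.ordProj_mul_ordCompl_eq_self n p).symm
  have hp0 : (p : ℂ) ^ n.factorization p ≠ 0 := by
    apply pow_ne_zero
    exact_mod_cast hp.ne_zero
  rw [hz, hsplit, mul_div_mul_left _ _ hp0, div_eq_mul_inv]
  exact MemLocalRing.mul hM (memLocalRing_of_isIntegral hM hzint) (memLocalRing_inv_natCast hM hm)

end integrality

end Cfsg.Agent.Lib.Helper6
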