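import Mathlib
import Cfsg.Prelude.Def_BlockLocal
import Cfsg.Agent.Lib.Helper6.KpHad
import Cfsg.Agent.Lib.Helper6.KpCross
import Cfsg.Agent.Lib.Helper6.BlkDefect

set_option autoImplicit false
set_option linter.unusedSectionVars false
set_option linter.style.haveILetI false
set_option maxHeartbeats 1000000
open Cfsg

namespace Cfsg.Agent.Lib.Helper6

open scoped ComplexConjugate

section iso

variable {G : Type*} [Group G] [Fintype G] [DecidableEq G]
variable {H : Type*} [Group H] [Fintype H] [DecidableEq H]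
variable {M : Ideal Cfsg.AlgInt}

/-- a perfect isometry from one sign vector on each side (the case of three Brauer
characters) -/
theorem perfect_of_sign_data (hM : Cfsg.IsPModular 2 M)
    (B : Set (Cfsg.IrrCharacter G)) (c : Set (Cfsg.IrrCharacter H))
    (hcard : Nat.card c = Nat.card B) (hB4 : Nat.card B = 4)
    (δ : Cfsg.IrrCharacter G → ℤ) (F : G → ℂ) (δ' : Cfsg.IrrCharacter H → ℤ) (F' : H → ℂ)
    (hδ : ∀ χ ∈ B, δ χ = 1 ∨ δ χ = -1) (hδ' : ∀ η ∈ c, δ' η = 1 ∨ δ' η = -1)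
    (hreg : ∀ g : G, ¬ 2 ∣ orderOf g → ∑ᶠ χ ∈ B, ((δ χ : ℤ) : ℂ) * (χ : G → ℂ) g = 0)
    (hreg' : ∀ g : H, ¬ 2 ∣ orderOf g → ∑ᶠ η ∈ c, ((δ' η : ℤ) : ℂ) * (η : H → ℂ) g = 0)
    (hsing : ∀ χ ∈ B, ∀ g : G, 2 ∣ orderOf g → (χ : G → ℂ) g = ((δ χ : ℤ) : ℂ) * F g)
    (hsing' : ∀ η ∈ c, ∀ g : H, 2 ∣ orderOf g → (η : H → ℂ) g = ((δ' η : ℤ) : ℂ) * F' g)
    (hint : ∀ g : G, Cfsg.MemLocalRing M (4 * F g
        / (Nat.card (Subgroup.centralizer ({g} : Set G)) : ℂ)) ∧ Cfsg.MemLocalRing M (F g))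
    (hint' : ∀ g : H, Cfsg.MemLocalRing M (4 * F' g
        / (Nat.card (Subgroup.centralizer ({g} : Set H)) : ℂ)) ∧ Cfsg.MemLocalRing M (F' g)) :
    ∃ (I : Cfsg.IrrCharacter H → Cfsg.IrrCharacter G) (ε : Cfsg.IrrCharacter H → ℤ),
      Cfsg.IsPerfectIsometry 2 M c B I ε := by
  classical
  haveI : Fintype (Cfsg.IrrCharacter G) := Fintype.ofFinite _
  haveI : Fintype (Cfsg.IrrCharacter H) := Fintype.ofFinite _
  obtain ⟨SB, hSB⟩ : ∃ SB : Finset (Cfsg.IrrCharacter G), SB = Finset.univ.filter (· ∈ B) :=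
    ⟨_, rfl⟩
  obtain ⟨Sc, hSc⟩ : ∃ Sc : Finset (Cfsg.IrrCharacter H), Sc = Finset.univ.filter (· ∈ c) :=
    ⟨_, rfl⟩
  have hSBmem : ∀ χ, χ ∈ SB ↔ χ ∈ B := by
    intro χ
    rw [hSB]
    simp
  have hScmem : ∀ η, η ∈ Sc ↔ η ∈ c := by
    intro η
    rw [hSc]
    simp
  have hSccard : Sc.card = 4 := by
    rw [hSc, ← hB4, ← hcard, Nat.card_eq_fintype_card, Fintype.card_subtype]
  have hcardF : Fintype.card ↥c = Fintype.card ↥B := by
    rw [← Nat.card_eq_fintype_card, ← Nat.card_eq_fintype_card, hcard]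
  obtain ⟨e₁⟩ : Nonempty (↥c ≃ ↥B) := ⟨Fintype.equivOfCardEq hcardF⟩
  have hBne : B.Nonempty := by
    by_contra hcon
    rw [Set.not_nonempty_iff_eq_empty] at hcon
    rw [hcon] at hB4
    simp at hB4
  obtain ⟨χ₀, hχ₀⟩ := hBne
  obtain ⟨I, hI⟩ : ∃ I : Cfsg.IrrCharacter H → Cfsg.IrrCharacter G,
      I = fun η => if h : η ∈ c then (e₁ ⟨η, h⟩ : Cfsg.IrrCharacter G) else χ₀ := ⟨_, rfl⟩
  have hIc : ∀ η (h : η ∈ c), I η = (e₁ ⟨η, h⟩ : Cfsg.IrrCharacter G) := by
    intro η h
    rw [hI]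
    simp only
    rw [dif_pos h]
  have hImem : ∀ η ∈ c, I η ∈ B := by
    intro η h
    rw [hIc η h]
    exact (e₁ ⟨η, h⟩).2
  have hIinj : Set.InjOn I c := by
    intro η h η' h' heq
    rw [hIc η h, hIc η' h'] at heq
    have := e₁.injective (Subtype.ext heq)
    exact congrArg Subtype.val this
  have hIsurj : Set.SurjOn I c B := by
    intro χ hχ
    refine ⟨(e₁.symm ⟨χ, hχ⟩ : Cfsg.IrrCharacter H), (e₁.symm ⟨χ, hχ⟩).2, ?_⟩
    rw [hIc _ (e₁.symm ⟨χ, hχ⟩).2]
    simp
  have hbij : Set.BijOn I c B := ⟨hImem, hIinj, hIsurj⟩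
  have hreidx : ∀ Gf : Cfsg.IrrCharacter G → ℂ, ∑ η ∈ Sc, Gf (I η) = ∑ χ ∈ SB, Gf χ := by
    intro Gf
    apply Finset.sum_nbij I
    · intro η hη
      exact (hSBmem _).mpr (hImem η ((hScmem η).mp hη))
    · intro η hη η' hη' h
      exact hIinj ((hScmem η).mp (Finset.mem_coe.mp hη)) ((hScmem η').mp (Finset.mem_coe.mp hη')) h
    · intro χ hχ
      obtain ⟨η, hη, hηχ⟩ := hIsurj ((hSBmem χ).mp (Finset.mem_coe.mp hχ))
      exact ⟨η, Finset.mem_coe.mpr ((hScmem η).mpr hη), hηχ⟩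
    · intro η _
      rfl
  obtain ⟨ε, hε⟩ : ∃ ε : Cfsg.IrrCharacter H → ℤ, ε = fun η => δ (I η) * δ' η := ⟨_, rfl⟩
  have hsqα : ∀ η ∈ Sc, ((δ (I η) : ℤ) : ℂ) * ((δ (I η) : ℤ) : ℂ) = 1 := by
    intro η hη
    rcases hδ (I η) (hImem η ((hScmem η).mp hη)) with h | h <;> rw [h] <;> norm_num
  have hsqβ : ∀ η ∈ Sc, ((δ' η : ℤ) : ℂ) * ((δ' η : ℤ) : ℂ) = 1 := by
    intro η hη
    rcases hδ' η ((hScmem η).mp hη) with h | h <;> rw [h] <;> norm_num
  refine ⟨I, ε, hbij, ?_, ?_⟩
  · intro η hη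
    rw [hε]
    simp only
    rcases hδ (I η) (hImem η hη) with h | h <;> rcases hδ' η hη with h' | h' <;>
      rw [h, h'] <;> norm_num
  · intro x y
    have hμ : Cfsg.signedBijectionKernel c I ε x y
        = ∑ η ∈ Sc, ((ε η : ℤ) : ℂ) * (I η : G → ℂ) x * (η : H → ℂ) y := by
      unfold Cfsg.signedBijectionKernel
      rw [finsum_mem_eq_sum_filter_lib, hSc]
    rw [hμ]
    have hεc : ∀ η, ((ε η : ℤ) : ℂ) = ((δ (I η) : ℤ) : ℂ) * ((δ' η : ℤ) : ℂ) := by
      intro η
      rw [hε]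
      push_cast
      rfl
    by_cases hx : 2 ∣ orderOf x <;> by_cases hy : 2 ∣ orderOf y
    · -- both singular
      have hval : ∑ η ∈ Sc, ((ε η : ℤ) : ℂ) * (I η : G → ℂ) x * (η : H → ℂ) y
          = 4 * F x * F' y := by
        have h1 : ∀ η ∈ Sc, ((ε η : ℤ) : ℂ) * (I η : G → ℂ) x * (η : H → ℂ) y = F x * F' y := by
          intro η hη
          have hηc := (hScmem η).mp hη
          have ha := hsqα η hη
          have hb := hsqβ η hη
          rw [hsing (I η) (hImem η hηc) x hx, hsing' η hηc y hy, hεc]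
          linear_combination (((δ' η : ℤ) : ℂ) * ((δ' η : ℤ) : ℂ) * F x * F' y) * ha
            + (F x * F' y) * hb
        rw [Finset.sum_congr rfl h1, Finset.sum_const, hSccard]
        simp
        ring
      rw [hval]
      refine ⟨?_, ?_, Or.inl (iff_of_false (fun h => h hx) (fun h => h hy))⟩
      · have := MemLocalRing.mul hM (hint x).1 (hint' y).2
        convert this using 1
        ring
      · have := MemLocalRing.mul hM (hint x).2 (hint' y).1
        convert this using 1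
        ring
    · -- x singular, y regular
      have hval : ∑ η ∈ Sc, ((ε η : ℤ) : ℂ) * (I η : G → ℂ) x * (η : H → ℂ) y = 0 := by
        have h1 : ∀ η ∈ Sc, ((ε η : ℤ) : ℂ) * (I η : G → ℂ) x * (η : H → ℂ) y
            = F x * (((δ' η : ℤ) : ℂ) * (η : H → ℂ) y) := by
          intro η hη
          have hηc := (hScmem η).mp hη
          have ha := hsqα η hη
          rw [hsing (I η) (hImem η hηc) x hx, hεc]
          linear_combination (((δ' η : ℤ) : ℂ) * F x * (η : H → ℂ) y) * ha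
        rw [Finset.sum_congr rfl h1, ← Finset.mul_sum]
        have h0 := hreg' y hy
        rw [finsum_mem_eq_sum_filter_lib, ← hSc] at h0
        rw [h0, mul_zero]
      rw [hval]
      simp only [zero_div]
      exact ⟨memLocalRing_zero hM, memLocalRing_zero hM, Or.inr trivial⟩
    · -- x regular, y singular
      have hval : ∑ η ∈ Sc, ((ε η : ℤ) : ℂ) * (I η : G → ℂ) x * (η : H → ℂ) y = 0 := by
        have h1 : ∀ η ∈ Sc, ((ε η : ℤ) : ℂ) * (I η : G → ℂ) x * (η : H → ℂ) y
            = F' y * (((δ (I η) : ℤ) : ℂ) * (I η : G → ℂ) x) := by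
          intro η hη
          have hηc := (hScmem η).mp hη
          have hb := hsqβ η hη
          rw [hsing' η hηc y hy, hεc]
          linear_combination (((δ (I η) : ℤ) : ℂ) * (I η : G → ℂ) x * F' y) * hb
        rw [Finset.sum_congr rfl h1, ← Finset.mul_sum,
          hreidx (fun χ => ((δ χ : ℤ) : ℂ) * (χ : G → ℂ) x)]
        have h0 := hreg x hx
        rw [finsum_mem_eq_sum_filter_lib, ← hSB] at h0
        rw [h0, mul_zero]
      rw [hval]
      simp only [zero_div]
      exact ⟨memLocalRing_zero hM, memLocalRing_zero hM, Or.inr trivial⟩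
    · -- both regular
      have hsum : ∑ η ∈ Sc, ((ε η : ℤ) : ℂ) * (I η : G → ℂ) x * (η : H → ℂ) y
          = ∑ η ∈ Sc, ((δ (I η) : ℤ) : ℂ) * ((δ' η : ℤ) : ℂ) * (I η : G → ℂ) x
              * (η : H → ℂ) y := by
        apply Finset.sum_congr rfl
        intro η _
        rw [hεc]
      have hsum' : ∑ η ∈ Sc, ((ε η : ℤ) : ℂ) * (I η : G → ℂ) x * (η : H → ℂ) y
          = ∑ η ∈ Sc, ((δ' η : ℤ) : ℂ) * ((δ (I η) : ℤ) : ℂ) * (η : H → ℂ) y
              * (I η : G → ℂ) x := by
        apply Finset.sum_congr rfl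
        intro η _
        rw [hεc]
        ring
      have hb0 : ∑ η ∈ Sc, ((δ' η : ℤ) : ℂ) * (η : H → ℂ) y = 0 := by
        have h0 := hreg' y hy
        rw [finsum_mem_eq_sum_filter_lib, ← hSc] at h0
        exact h0
      have hb0' : ∑ η ∈ Sc, ((δ (I η) : ℤ) : ℂ) * (I η : G → ℂ) x = 0 := by
        rw [hreidx (fun χ => ((δ χ : ℤ) : ℂ) * (χ : G → ℂ) x)]
        have h0 := hreg x hx
        rw [finsum_mem_eq_sum_filter_lib, ← hSB] at h0
        exact h0
      refine ⟨?_, ?_, Or.inl (iff_of_true hx hy)⟩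
      · rw [hsum]
        apply rr_integrality hM Sc (fun η => (I η : G → ℂ) x) (fun η => (η : H → ℂ) y)
          (fun η => δ (I η)) δ' _
          (fun η hη => hδ (I η) (hImem η ((hScmem η).mp hη))) hb0
        · intro η hη k hk
          have hηc := (hScmem η).mp hη
          have hkc := (hScmem k).mp hk
          have key := memLocalRing_sub_mul_div_card hM (I η) (I k) (δ (I η) * δ (I k)) ?_ x
          · push_cast at key
            exact key
          · intro g hg
            have hk2 := hsqα k hk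
            rw [hsing (I η) (hImem η hηc) g hg, hsing (I k) (hImem k hkc) g hg]
            push_cast
            linear_combination (-(((δ (I η) : ℤ) : ℂ) * F g)) * hk2
        · intro η _
          exact memLocalRing_of_isIntegral hM
            (IsCharacter.isIntegral_apply (IsIrrCharacter.isCharacter η.2) y)
      · rw [hsum']
        apply rr_integrality hM Sc (fun η => (η : H → ℂ) y) (fun η => (I η : G → ℂ) x)
          δ' (fun η => δ (I η)) _
          (fun η hη => hδ' η ((hScmem η).mp hη)) hb0'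
        · intro η hη k hk
          have hηc := (hScmem η).mp hη
          have hkc := (hScmem k).mp hk
          have key := memLocalRing_sub_mul_div_card hM η k (δ' η * δ' k) ?_ y
          · push_cast at key
            exact key
          · intro g hg
            have hk2 := hsqβ k hk
            rw [hsing' η hηc g hg, hsing' k hkc g hg]
            push_cast
            linear_combination (-(((δ' η : ℤ) : ℂ) * F' g)) * hk2
        · intro η _
          exact memLocalRing_of_isIntegral hM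
            (IsCharacter.isIntegral_apply (IsIrrCharacter.isCharacter (I η).2) x)

end iso

end Cfsg.Agent.Lib.Helper6
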