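import Mathlib
import Cfsg.Prelude.Def_BlockLocal
import Cfsg.Agent.Lib.Helper6.KpHad
import Cfsg.Agent.Lib.Helper6.KpCross
import Cfsg.Agent.Lib.Helper6.BlkDefect

set_option autoImplicit false
set_option linter.unusedSectionVars false
set_option linter.style.haveILetI false
set_option maxHeartbeats 1000000
open Cfsg

namespace Cfsg.Agent.Lib.Helper6

open scoped ComplexConjugate

section iso2

variable {G : Type*} [Group G] [Fintype G] [DecidableEq G]
variable {H : Type*} [Group H] [Fintype H] [DecidableEq H]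
variable {M : Ideal Cfsg.AlgInt}

/-- a perfect isometry from three sign vectors on each side (the case of one Brauer
character) -/
theorem perfect_of_hadamard_data (hM : Cfsg.IsPModular 2 M)
    (B : Set (Cfsg.IrrCharacter G)) (c : Set (Cfsg.IrrCharacter H))
    (hB4 : Nat.card B = 4) (hc4 : Nat.card c = 4)
    (hdefB : Cfsg.blockDefect 2 B = 2) (hdefc : Cfsg.blockDefect 2 c = 2)
    (h : Fin 3 → Cfsg.IrrCharacter G → ℤ) (f : Fin 3 → G → ℂ) (φ₀ : G → ℂ)
    (h' : Fin 3 → Cfsg.IrrCharacter H → ℤ) (f' : Fin 3 → H → ℂ) (φ₀' : H → ℂ)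
    (hpm : ∀ i, ∀ χ ∈ B, h i χ = 1 ∨ h i χ = -1)
    (hpm' : ∀ i, ∀ η ∈ c, h' i η = 1 ∨ h' i η = -1)
    (horth : ∀ i i', i ≠ i' → ∑ᶠ χ ∈ B, h i χ * h i' χ = 0)
    (horth' : ∀ i i', i ≠ i' → ∑ᶠ η ∈ c, h' i η * h' i' η = 0)
    (hbal : ∀ i, ∑ᶠ χ ∈ B, h i χ = 0) (hbal' : ∀ i, ∑ᶠ η ∈ c, h' i η = 0)
    (hregv : ∀ χ ∈ B, ∀ g : G, ¬ 2 ∣ orderOf g → (χ : G → ℂ) g = φ₀ g)
    (hregv' : ∀ η ∈ c, ∀ g : H, ¬ 2 ∣ orderOf g → (η : H → ℂ) g = φ₀' g)
    (hsing : ∀ χ ∈ B, ∀ g : G, 2 ∣ orderOf g →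
      (χ : G → ℂ) g = ∑ i, ((h i χ : ℤ) : ℂ) * f i g)
    (hsing' : ∀ η ∈ c, ∀ g : H, 2 ∣ orderOf g →
      (η : H → ℂ) g = ∑ i, ((h' i η : ℤ) : ℂ) * f' i g)
    (hint : ∀ i g, Cfsg.MemLocalRing M (4 * f i g
        / (Nat.card (Subgroup.centralizer ({g} : Set G)) : ℂ)) ∧ Cfsg.MemLocalRing M (f i g))
    (hint' : ∀ i g, Cfsg.MemLocalRing M (4 * f' i g
        / (Nat.card (Subgroup.centralizer ({g} : Set H)) : ℂ)) ∧ Cfsg.MemLocalRing M (f' i g)) :
    ∃ (I : Cfsg.IrrCharacter H → Cfsg.IrrCharacter G) (ε : Cfsg.IrrCharacter H → ℤ),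
      Cfsg.IsPerfectIsometry 2 M c B I ε := by
  classical
  haveI : Fintype (Cfsg.IrrCharacter G) := Fintype.ofFinite _
  haveI : Fintype (Cfsg.IrrCharacter H) := Fintype.ofFinite _
  obtain ⟨SB, hSB⟩ : ∃ SB : Finset (Cfsg.IrrCharacter G), SB = Finset.univ.filter (· ∈ B) :=
    ⟨_, rfl⟩
  obtain ⟨Sc, hSc⟩ : ∃ Sc : Finset (Cfsg.IrrCharacter H), Sc = Finset.univ.filter (· ∈ c) :=
    ⟨_, rfl⟩
  have hSBmem : ∀ χ, χ ∈ SB ↔ χ ∈ B := by
    intro χ
    rw [hSB]
    simp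
  have hScmem : ∀ η, η ∈ Sc ↔ η ∈ c := by
    intro η
    rw [hSc]
    simp
  have hSBcard : SB.card = 4 := by
    rw [hSB, ← hB4, Nat.card_eq_fintype_card, Fintype.card_subtype]
  have hSccard : Sc.card = 4 := by
    rw [hSc, ← hc4, Nat.card_eq_fintype_card, Fintype.card_subtype]
  have horthF : ∀ i i', i ≠ i' → ∑ χ ∈ SB, h i χ * h i' χ = 0 := by
    intro i i' hne
    have := horth i i' hne
    rw [finsum_mem_eq_sum_filter_lib, ← hSB] at this
    exact this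
  have horthF' : ∀ i i', i ≠ i' → ∑ η ∈ Sc, h' i η * h' i' η = 0 := by
    intro i i' hne
    have := horth' i i' hne
    rw [finsum_mem_eq_sum_filter_lib, ← hSc] at this
    exact this
  have hbalF : ∀ i, ∑ χ ∈ SB, h i χ = 0 := by
    intro i
    have := hbal i
    rw [finsum_mem_eq_sum_filter_lib, ← hSB] at this
    exact this
  have hbalF' : ∀ i, ∑ η ∈ Sc, h' i η = 0 := by
    intro i
    have := hbal' i
    rw [finsum_mem_eq_sum_filter_lib, ← hSc] at this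
    exact this
  have hnormF' : ∀ i, ∑ η ∈ Sc, h' i η * h' i η = 4 := by
    intro i
    have h1 : ∀ η ∈ Sc, h' i η * h' i η = 1 := by
      intro η hη
      rcases hpm' i η ((hScmem η).mp hη) with e | e <;> rw [e] <;> norm_num
    rw [Finset.sum_congr rfl h1, Finset.sum_const, hSccard]
    norm_num
  obtain ⟨π, hπ, hprod, hex⟩ := hadamard_rows SB hSBcard (h 0) (h 1) (h 2)
    (fun a ha => hpm 0 a ((hSBmem a).mp ha)) (fun a ha => hpm 1 a ((hSBmem a).mp ha))
    (fun a ha => hpm 2 a ((hSBmem a).mp ha)) (hbalF 0) (hbalF 1) (hbalF 2)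
    (horthF 0 1 (by decide)) (horthF 0 2 (by decide)) (horthF 1 2 (by decide))
  obtain ⟨π', hπ', hprod', hex'⟩ := hadamard_rows Sc hSccard (h' 0) (h' 1) (h' 2)
    (fun a ha => hpm' 0 a ((hScmem a).mp ha)) (fun a ha => hpm' 1 a ((hScmem a).mp ha))
    (fun a ha => hpm' 2 a ((hScmem a).mp ha)) (hbalF' 0) (hbalF' 1) (hbalF' 2)
    (horthF' 0 1 (by decide)) (horthF' 0 2 (by decide)) (horthF' 1 2 (by decide))
  obtain ⟨σ, hσdef⟩ : ∃ σ : ℤ, σ = π * π' := ⟨_, rfl⟩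
  have hσ : σ = 1 ∨ σ = -1 := by
    rcases hπ with a | a <;> rcases hπ' with b | b <;> rw [hσdef, a, b] <;> norm_num
  have hσσ : σ * σ = 1 := by
    rcases hσ with a | a <;> rw [a] <;> norm_num
  have hrowB : ∀ χ ∈ B, ∀ χ' ∈ B, (∀ i, h i χ = h i χ') → χ = χ' := by
    intro χ hχ χ' hχ' hrow
    apply Subtype.ext
    funext g
    by_cases hg : 2 ∣ orderOf g
    · rw [hsing χ hχ g hg, hsing χ' hχ' g hg]
      apply Finset.sum_congr rfl
      intro i _
      rw [hrow i]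
    · rw [hregv χ hχ g hg, hregv χ' hχ' g hg]
  have hrowc : ∀ η ∈ c, ∀ η' ∈ c, (∀ i, h' i η = h' i η') → η = η' := by
    intro η hη η' hη' hrow
    apply Subtype.ext
    funext g
    by_cases hg : 2 ∣ orderOf g
    · rw [hsing' η hη g hg, hsing' η' hη' g hg]
      apply Finset.sum_congr rfl
      intro i _
      rw [hrow i]
    · rw [hregv' η hη g hg, hregv' η' hη' g hg]
  have hBne : B.Nonempty := by
    by_contra hcon
    rw [Set.not_nonempty_iff_eq_empty] at hcon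
    rw [hcon] at hB4
    simp at hB4
  have hcne : c.Nonempty := by
    by_contra hcon
    rw [Set.not_nonempty_iff_eq_empty] at hcon
    rw [hcon] at hc4
    simp at hc4
  obtain ⟨χ₀, hχ₀⟩ := hBne
  obtain ⟨η₀, hη₀⟩ := hcne
  have hI0 : ∀ η : Cfsg.IrrCharacter H, η ∈ c → ∃ χ : Cfsg.IrrCharacter G,
      χ ∈ B ∧ h 0 χ = σ * h' 0 η ∧ h 1 χ = h' 1 η ∧ h 2 χ = h' 2 η := by
    intro η hη
    have hηS := (hScmem η).mpr hη
    have hp' := hprod' η hηS
    have hs1 : σ * h' 0 η = 1 ∨ σ * h' 0 η = -1 := by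
      rcases hσ with a | a <;> rcases hpm' 0 η hη with b | b <;> rw [a, b] <;> norm_num
    have hprodeq : σ * h' 0 η * h' 1 η * h' 2 η = π := by
      have h1 : σ * h' 0 η * h' 1 η * h' 2 η = σ * π' := by
        rw [← hp']
        ring
      rw [h1, hσdef]
      rcases hπ' with a | a <;> rw [a] <;> ring
    obtain ⟨χ, hχS, e0, e1, e2⟩ := hex (σ * h' 0 η) (h' 1 η) (h' 2 η) hs1 (hpm' 1 η hη)
      (hpm' 2 η hη) hprodeq
    exact ⟨χ, (hSBmem χ).mp hχS, e0, e1, e2⟩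
  haveI : Nonempty (Cfsg.IrrCharacter G) := ⟨χ₀⟩
  choose! I hI using hI0
  have hImem : ∀ η ∈ c, I η ∈ B := fun η hη => (hI η hη).1
  have hIinj : Set.InjOn I c := by
    intro η hη η' hη' heq
    apply hrowc η hη η' hη'
    intro i
    obtain ⟨-, e0, e1, e2⟩ := hI η hη
    obtain ⟨-, e0', e1', e2'⟩ := hI η' hη'
    rw [heq] at e0 e1 e2
    fin_cases i
    · show h' 0 η = h' 0 η'
      have h1 : σ * h' 0 η = σ * h' 0 η' := e0.symm.trans e0'
      calc h' 0 η = σ * σ * h' 0 η := by rw [hσσ, one_mul]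
        _ = σ * (σ * h' 0 η) := by ring
        _ = σ * (σ * h' 0 η') := by rw [h1]
        _ = σ * σ * h' 0 η' := by ring
        _ = h' 0 η' := by rw [hσσ, one_mul]
    · show h' 1 η = h' 1 η'
      exact e1.symm.trans e1'
    · show h' 2 η = h' 2 η'
      exact e2.symm.trans e2'
  have hIsurj : Set.SurjOn I c B := by
    intro χ hχ
    have hχS := (hSBmem χ).mpr hχ
    have hp := hprod χ hχS
    have hs1 : σ * h 0 χ = 1 ∨ σ * h 0 χ = -1 := by
      rcases hσ with a | a <;> rcases hpm 0 χ hχ with b | b <;> rw [a, b] <;> norm_num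
    have hprodeq : σ * h 0 χ * h 1 χ * h 2 χ = π' := by
      have h1 : σ * h 0 χ * h 1 χ * h 2 χ = σ * π := by
        rw [← hp]
        ring
      rw [h1, hσdef]
      rcases hπ with a | a <;> rw [a] <;> ring
    obtain ⟨η, hηS, e0, e1, e2⟩ := hex' (σ * h 0 χ) (h 1 χ) (h 2 χ) hs1 (hpm 1 χ hχ)
      (hpm 2 χ hχ) hprodeq
    have hηc := (hScmem η).mp hηS
    refine ⟨η, hηc, ?_⟩
    obtain ⟨hIB, i0, i1, i2⟩ := hI η hηc
    apply hrowB (I η) hIB χ hχ
    intro i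
    fin_cases i
    · show h 0 (I η) = h 0 χ
      rw [i0, e0, ← mul_assoc, hσσ, one_mul]
    · show h 1 (I η) = h 1 χ
      rw [i1, e1]
    · show h 2 (I η) = h 2 χ
      rw [i2, e2]
  have hbij : Set.BijOn I c B := ⟨hImem, hIinj, hIsurj⟩
  have hreidx : ∀ Gf : Cfsg.IrrCharacter G → ℂ, ∑ η ∈ Sc, Gf (I η) = ∑ χ ∈ SB, Gf χ := by
    intro Gf
    apply Finset.sum_nbij I
    · intro η hη
      exact (hSBmem _).mpr (hImem η ((hScmem η).mp hη))
    · intro η hη η' hη' hh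
      exact hIinj ((hScmem η).mp (Finset.mem_coe.mp hη)) ((hScmem η').mp (Finset.mem_coe.mp hη')) hh
    · intro χ hχ
      obtain ⟨η, hη, hηχ⟩ := hIsurj ((hSBmem χ).mp (Finset.mem_coe.mp hχ))
      exact ⟨η, Finset.mem_coe.mpr ((hScmem η).mpr hη), hηχ⟩
    · intro η _
      rfl
  -- complex versions of the sign sums
  have hH : ∀ i i', i ≠ i' → ∑ η ∈ Sc, ((h' i η : ℤ) : ℂ) * ((h' i' η : ℤ) : ℂ) = 0 := by
    intro i i' hne
    exact_mod_cast horthF' i i' hne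
  have hHn : ∀ i, ∑ η ∈ Sc, ((h' i η : ℤ) : ℂ) * ((h' i η : ℤ) : ℂ) = 4 := by
    intro i
    exact_mod_cast hnormF' i
  have hHb' : ∀ i, ∑ η ∈ Sc, ((h' i η : ℤ) : ℂ) = 0 := by
    intro i
    exact_mod_cast hbalF' i
  have hHb : ∀ i, ∑ χ ∈ SB, ((h i χ : ℤ) : ℂ) = 0 := by
    intro i
    exact_mod_cast hbalF i
  refine ⟨I, fun _ => 1, hbij, fun _ _ => Or.inl rfl, ?_⟩
  intro x y
  have hμ : Cfsg.signedBijectionKernel c I (fun _ => 1) x y
      = ∑ η ∈ Sc, (I η : G → ℂ) x * (η : H → ℂ) y := by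
    unfold Cfsg.signedBijectionKernel
    rw [finsum_mem_eq_sum_filter_lib, hSc]
    apply Finset.sum_congr rfl
    intro η _
    push_cast
    ring
  rw [hμ]
  by_cases hx : 2 ∣ orderOf x <;> by_cases hy : 2 ∣ orderOf y
  · -- both singular
    have hval : ∑ η ∈ Sc, (I η : G → ℂ) x * (η : H → ℂ) y
        = 4 * (((σ : ℤ) : ℂ) * f 0 x * f' 0 y + f 1 x * f' 1 y + f 2 x * f' 2 y) := by
      have hterm : ∀ η ∈ Sc, (I η : G → ℂ) x * (η : H → ℂ) y
          = ((σ : ℤ) : ℂ) * f 0 x * f' 0 y * (((h' 0 η : ℤ) : ℂ) * ((h' 0 η : ℤ) : ℂ))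
            + f 1 x * f' 1 y * (((h' 1 η : ℤ) : ℂ) * ((h' 1 η : ℤ) : ℂ))
            + f 2 x * f' 2 y * (((h' 2 η : ℤ) : ℂ) * ((h' 2 η : ℤ) : ℂ))
            + (((σ : ℤ) : ℂ) * f 0 x * f' 1 y + f 1 x * f' 0 y)
              * (((h' 0 η : ℤ) : ℂ) * ((h' 1 η : ℤ) : ℂ))
            + (((σ : ℤ) : ℂ) * f 0 x * f' 2 y + f 2 x * f' 0 y)
              * (((h' 0 η : ℤ) : ℂ) * ((h' 2 η : ℤ) : ℂ))
            + (f 1 x * f' 2 y + f 2 x * f' 1 y)
              * (((h' 1 η : ℤ) : ℂ) * ((h' 2 η : ℤ) : ℂ)) := by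
        intro η hη
        have hηc := (hScmem η).mp hη
        obtain ⟨hIB, e0, e1, e2⟩ := hI η hηc
        rw [hsing (I η) hIB x hx, hsing' η hηc y hy, Fin.sum_univ_three, Fin.sum_univ_three,
          e0, e1, e2]
        push_cast
        ring
      rw [Finset.sum_congr rfl hterm]
      simp only [Finset.sum_add_distrib, ← Finset.mul_sum]
      rw [hHn 0, hHn 1, hHn 2, hH 0 1 (by decide), hH 0 2 (by decide), hH 1 2 (by decide)]
      ring
    rw [hval]
    refine ⟨?_, ?_, Or.inl (iff_of_false (fun hh => hh hx) (fun hh => hh hy))⟩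
    · have h0 := MemLocalRing.mul hM (MemLocalRing.mul hM (memLocalRing_intCast hM σ)
        (hint 0 x).1) (hint' 0 y).2
      have h1 := MemLocalRing.mul hM (hint 1 x).1 (hint' 1 y).2
      have h2 := MemLocalRing.mul hM (hint 2 x).1 (hint' 2 y).2
      have := MemLocalRing.add hM (MemLocalRing.add hM h0 h1) h2
      convert this using 1
      ring
    · have h0 := MemLocalRing.mul hM (MemLocalRing.mul hM (memLocalRing_intCast hM σ)
        (hint 0 x).2) (hint' 0 y).1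
      have h1 := MemLocalRing.mul hM (hint 1 x).2 (hint' 1 y).1
      have h2 := MemLocalRing.mul hM (hint 2 x).2 (hint' 2 y).1
      have := MemLocalRing.add hM (MemLocalRing.add hM h0 h1) h2
      convert this using 1
      ring
  · -- x singular, y regular
    have hval : ∑ η ∈ Sc, (I η : G → ℂ) x * (η : H → ℂ) y = 0 := by
      have h1 : ∀ η ∈ Sc, (I η : G → ℂ) x * (η : H → ℂ) y = φ₀' y * (I η : G → ℂ) x := by
        intro η hη
        rw [hregv' η ((hScmem η).mp hη) y hy]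
        ring
      rw [Finset.sum_congr rfl h1, ← Finset.mul_sum, hreidx (fun χ => (χ : G → ℂ) x)]
      have h2 : ∀ χ ∈ SB, (χ : G → ℂ) x = ((h 0 χ : ℤ) : ℂ) * f 0 x + ((h 1 χ : ℤ) : ℂ) * f 1 x
          + ((h 2 χ : ℤ) : ℂ) * f 2 x := by
        intro χ hχ
        rw [hsing χ ((hSBmem χ).mp hχ) x hx, Fin.sum_univ_three]
      rw [Finset.sum_congr rfl h2]
      simp only [Finset.sum_add_distrib, ← Finset.sum_mul]
      rw [hHb 0, hHb 1, hHb 2]
      ring
    rw [hval]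
    simp only [zero_div]
    exact ⟨memLocalRing_zero hM, memLocalRing_zero hM, Or.inr trivial⟩
  · -- x regular, y singular
    have hval : ∑ η ∈ Sc, (I η : G → ℂ) x * (η : H → ℂ) y = 0 := by
      have h1 : ∀ η ∈ Sc, (I η : G → ℂ) x * (η : H → ℂ) y
          = φ₀ x * (((h' 0 η : ℤ) : ℂ) * f' 0 y + ((h' 1 η : ℤ) : ℂ) * f' 1 y
            + ((h' 2 η : ℤ) : ℂ) * f' 2 y) := by
        intro η hη
        have hηc := (hScmem η).mp hη
        rw [hregv (I η) (hImem η hηc) x hx, hsing' η hηc y hy, Fin.sum_univ_three]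
      rw [Finset.sum_congr rfl h1, ← Finset.mul_sum]
      simp only [Finset.sum_add_distrib, ← Finset.sum_mul]
      rw [hHb' 0, hHb' 1, hHb' 2]
      ring
    rw [hval]
    simp only [zero_div]
    exact ⟨memLocalRing_zero hM, memLocalRing_zero hM, Or.inr trivial⟩
  · -- both regular
    have hval : ∑ η ∈ Sc, (I η : G → ℂ) x * (η : H → ℂ) y = 4 * φ₀ x * φ₀' y := by
      have h1 : ∀ η ∈ Sc, (I η : G → ℂ) x * (η : H → ℂ) y = φ₀ x * φ₀' y := by
        intro η hη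
        have hηc := (hScmem η).mp hη
        rw [hregv (I η) (hImem η hηc) x hx, hregv' η hηc y hy]
      rw [Finset.sum_congr rfl h1, Finset.sum_const, hSccard]
      simp
      ring
    rw [hval]
    have h2 : ((2 : ℕ) : ℂ) ^ 2 = 4 := by norm_num
    have hA : Cfsg.MemLocalRing M (4 * φ₀ x
        / (Nat.card (Subgroup.centralizer ({x} : Set G)) : ℂ)) := by
      have := memLocalRing_pow_defect_mul_apply_div hM B χ₀ hχ₀ x
      rw [hdefB, h2, hregv χ₀ hχ₀ x hx] at this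
      exact this
    have hA' : Cfsg.MemLocalRing M (4 * φ₀' y
        / (Nat.card (Subgroup.centralizer ({y} : Set H)) : ℂ)) := by
      have := memLocalRing_pow_defect_mul_apply_div hM c η₀ hη₀ y
      rw [hdefc, h2, hregv' η₀ hη₀ y hy] at this
      exact this
    have hB' : Cfsg.MemLocalRing M (φ₀ x) := by
      rw [← hregv χ₀ hχ₀ x hx]
      exact memLocalRing_of_isIntegral hM
        (IsCharacter.isIntegral_apply (IsIrrCharacter.isCharacter χ₀.2) x)
    have hB'' : Cfsg.MemLocalRing M (φ₀' y) := by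
      rw [← hregv' η₀ hη₀ y hy]
      exact memLocalRing_of_isIntegral hM
        (IsCharacter.isIntegral_apply (IsIrrCharacter.isCharacter η₀.2) y)
    refine ⟨?_, ?_, Or.inl (iff_of_true hx hy)⟩
    · have := MemLocalRing.mul hM hA hB''
      convert this using 1
      ring
    · have := MemLocalRing.mul hM hB' hA'
      convert this using 1
      ring

end iso2

end Cfsg.Agent.Lib.Helper6
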