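import Mathlib
import Cfsg.Agent.Lib.Helper6.KpCross
import Cfsg.Agent.Lib.Helper6.KfAssemble
import Cfsg.Agent.Lib.Helper6.BlkDefect
import Cfsg.Agent.S0908
import Cfsg.Agent.S4710
import Cfsg.Agent.S4675

set_option autoImplicit false
set_option linter.unusedSectionVars false
set_option linter.style.haveILetI false
open Cfsg

namespace Cfsg.Agent.Lib.Helper6

open scoped ComplexConjugate

section general

variable {G : Type*} [Group G] [Fintype G] [DecidableEq G]
variable {p : ℕ} {M : Ideal Cfsg.AlgInt}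

theorem orderOf_conj_kp (c x : G) : orderOf (c * x * c⁻¹) = orderOf x := by
  rw [← MulAut.conj_apply, MulEquiv.orderOf_eq]

/-- every element is conjugate to `x s` with `x` a chosen representative `p`-element and `s` a
`p`-regular element of `C_G(x)` -/
theorem exists_rep_section (hp : p.Prime) (X : Finset G)
    (hXrep : ∀ g : G, (∃ k : ℕ, orderOf g = p ^ k) → ∃! x, x ∈ X ∧ IsConj g x) (g : G) :
    ∃ x ∈ X, ∃ s : Subgroup.centralizer ({x} : Set G), ¬ p ∣ orderOf s ∧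
      IsConj g (x * (s : G)) ∧ (p ∣ orderOf g → x ≠ 1) := by
  obtain ⟨u, y, huy, hcomm, hu, hy⟩ := exists_isPPart hp g
  obtain ⟨x, ⟨hxX, hconj⟩, -⟩ := hXrep u hu
  obtain ⟨c, hc⟩ := isConj_iff.mp hconj
  have hmem : c * y * c⁻¹ ∈ Subgroup.centralizer ({x} : Set G) := by
    rw [Subgroup.mem_centralizer_singleton_iff, ← hc]
    calc c * y * c⁻¹ * (c * u * c⁻¹) = c * (y * u) * c⁻¹ := by group
      _ = c * (u * y) * c⁻¹ := by rw [hcomm.eq]
      _ = c * u * c⁻¹ * (c * y * c⁻¹) := by group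
  refine ⟨x, hxX, ⟨c * y * c⁻¹, hmem⟩, ?_, ?_, ?_⟩
  · rw [← Subgroup.orderOf_coe]
    show ¬ p ∣ orderOf (c * y * c⁻¹)
    rw [orderOf_conj_kp]
    exact hy
  · rw [isConj_iff]
    refine ⟨c, ?_⟩
    show c * g * c⁻¹ = x * (c * y * c⁻¹)
    rw [← huy, ← hc]
    group
  · intro hg hx1
    rw [hx1] at hc
    have hu1 : u = 1 := by
      have : u = c⁻¹ * (c * u * c⁻¹) * c := by group
      rw [this, hc]
      group
    rw [hu1, one_mul] at huy
    rw [huy] at hy
    exact hy hg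

end general

section lemmaK

variable {G : Type*} [Group G] [Fintype G] [DecidableEq G]
variable {M : Ideal Cfsg.AlgInt}

/-- generalized decomposition numbers along an involution, with the local function -/
theorem involution_decomposition_data (hM : Cfsg.IsPModular 2 M) (u : G) (hu : orderOf u = 2)
    (H : Subgroup G) (hH : H = Subgroup.centralizer ({u} : Set G))
    (B : Set (Cfsg.IrrCharacter G)) (b : Set (Cfsg.IrrCharacter H))
    (hind : Cfsg.IsInducedBlock M H b B) (hl : Cfsg.blockRank 2 b = 1)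
    (D : Subgroup H) (hD : Cfsg.IsDefectGroup 2 M b D) :
    ∃ (φ : H → ℂ) (d : Cfsg.IrrCharacter G → ℤ),
      (∀ (χ : Cfsg.IrrCharacter G) (s : H), ¬ 2 ∣ orderOf s →
        Cfsg.blockPart b (fun c : H => (χ : G → ℂ) (u * (c : G))) s = ((d χ : ℤ) : ℂ) * φ s) ∧
      ∑ᶠ χ ∈ B, d χ ^ 2 = (Nat.card D : ℤ) ∧
      (∀ χ ∈ B, Cfsg.blockHeight 2 B (χ : G → ℂ) = 0 → d χ ≠ 0) ∧
      ∃ n : Cfsg.IrrCharacter H → ℤ, ∀ s : H, ¬ 2 ∣ orderOf s →
        φ s = ∑ᶠ ψ ∈ b, (n ψ : ℂ) * (ψ : H → ℂ) s := by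
  classical
  haveI : Fact (Nat.Prime 2) := ⟨Nat.prime_two⟩
  haveI : Fintype H := Fintype.ofFinite _
  haveI : Fintype (Cfsg.IrrCharacter G) := Fintype.ofFinite _
  haveI : Fintype (Cfsg.IrrCharacter H) := Fintype.ofFinite _
  have huel : ∃ k : ℕ, orderOf u = 2 ^ k := ⟨1, by rw [hu, pow_one]⟩
  have huH : u ∈ H := by rw [hH, Subgroup.mem_centralizer_singleton_iff]
  have huu : u * u = 1 := by rw [← sq, ← hu, pow_orderOf_eq_one]
  obtain ⟨z, hz⟩ : ∃ z : H, z = ⟨u, huH⟩ := ⟨_, rfl⟩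
  have hzu : (z : G) = u := by rw [hz]
  have hzc : ∀ h : H, z * h = h * z := by
    intro h
    apply Subtype.ext
    rw [Subgroup.coe_mul, Subgroup.coe_mul, hzu]
    have h1 : (h : G) ∈ Subgroup.centralizer ({u} : Set G) := hH ▸ h.2
    rw [Subgroup.mem_centralizer_singleton_iff] at h1
    exact h1.symm
  have hzz : z * z = 1 := by
    apply Subtype.ext
    rw [Subgroup.coe_mul, hzu, huu, Subgroup.coe_one]
  have hzeq : ∀ w : H, (w : G) = u → w = z := by
    intro w hw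
    apply Subtype.ext
    rw [hw, hzu]
  obtain ⟨φ, d', hn, hd', hsum'⟩ := Cfsg.Agent.S4675.result 2 M hM b hind.1 D hD hl
  choose ε hε1 hε using fun ψ : Cfsg.IrrCharacter H => exists_sign_central_involution z hzc hzz ψ
  have hmult : ∀ (χ : Cfsg.IrrCharacter G) (ψ : Cfsg.IrrCharacter H), ∃ n : ℕ,
      Cfsg.classInner (fun h : H => (χ : G → ℂ) h) (ψ : H → ℂ) = n := fun χ ψ =>
    IsCharacter.classInner_nat (IsCharacter.restrict H (IsIrrCharacter.isCharacter χ.2))
      (IsIrrCharacter.isCharacter ψ.2)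
  choose m hm using hmult
  obtain ⟨dfun, hdfun⟩ : ∃ dfun : Cfsg.IrrCharacter G → ℤ, dfun = fun χ =>
      ∑ ψ ∈ Finset.univ.filter (· ∈ b), ε ψ * (m χ ψ : ℤ) * (d' ψ : ℤ) := ⟨_, rfl⟩
  have hεconj : ∀ ψ : Cfsg.IrrCharacter H, conj ((ε ψ : ℤ) : ℂ) = ((ε ψ : ℤ) : ℂ) := by
    intro ψ
    exact map_intCast _ _
  have hkey : ∀ (χ : Cfsg.IrrCharacter G) (s : H), ¬ 2 ∣ orderOf s →
      Cfsg.blockPart b (fun c : H => (χ : G → ℂ) (u * (c : G))) s = ((dfun χ : ℤ) : ℂ) * φ s := by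
    intro χ s hs
    rw [blockPart_eq_finset_sum, hdfun]
    push_cast
    rw [Finset.sum_mul]
    apply Finset.sum_congr rfl
    intro ψ hψ
    have hψb := (Finset.mem_filter.mp hψ).2
    rw [classInner_shift_central_involution u hu H hH (χ : G → ℂ) ψ (ε ψ) (hεconj ψ)
      (fun c w hw => by rw [hzeq w hw]; exact hε ψ c), hm, hd' ψ hψb s hs]
    ring
  obtain ⟨Φ, hΦ⟩ : ∃ Φ : ℂ, Φ = ∑ s ∈ Finset.univ.filter (fun s : H => ¬ 2 ∣ orderOf s),
      φ s * conj (φ s) := ⟨_, rfl⟩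
  obtain ⟨ξ₀, hbξ⟩ := hind.1
  have hloc : (Nat.card H : ℂ) = (Nat.card D : ℂ) * Φ := by
    have h1 := blockRank_mul_card (p := 2) hM ξ₀
    rw [← hbξ, hl, Nat.cast_one, mul_one] at h1
    rw [h1, hΦ, Finset.mul_sum]
    apply Finset.sum_congr rfl
    intro y hy
    have hy' := (Finset.mem_filter.mp hy).2
    rw [finsum_mem_eq_sum_filter_lib]
    have h2 : ∀ ψ ∈ Finset.univ.filter (· ∈ b), (ψ : H → ℂ) y * conj ((ψ : H → ℂ) y)
        = ((d' ψ ^ 2 : ℕ) : ℂ) * (φ y * conj (φ y)) := by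
      intro ψ hψ
      have hψb := (Finset.mem_filter.mp hψ).2
      rw [hd' ψ hψb y hy', map_mul, Complex.conj_natCast]
      push_cast
      ring
    rw [Finset.sum_congr rfl h2, ← Finset.sum_mul, ← hsum', finsum_mem_eq_sum_filter_lib]
    push_cast
    rfl
  have hglob : (Nat.card H : ℂ)
      = (∑ χ ∈ Finset.univ.filter (· ∈ B), ((dfun χ : ℤ) : ℂ) ^ 2) * Φ := by
    have h1 := subsection_norm_sum (p := 2) hM u huel H hH B b hind
    rw [hl, Nat.cast_one, mul_one] at h1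
    rw [← h1, finsum_mem_eq_sum_filter_lib, Finset.sum_mul]
    apply Finset.sum_congr rfl
    intro χ _
    rw [finsum_eq_sum_of_fintype, hΦ, Finset.mul_sum, Finset.sum_filter]
    apply Finset.sum_congr rfl
    intro s _
    rw [blockPart_shift_inv u H hH b χ s]
    unfold Cfsg.pRegularPart Cfsg.IsPRegular
    by_cases hs : 2 ∣ orderOf s
    · rw [if_neg (not_not.mpr hs), if_neg (not_not.mpr hs), zero_mul]
    · rw [if_pos hs, if_pos hs, hkey χ s hs, map_mul, map_intCast]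
      ring
  have hH0 : (Nat.card H : ℂ) ≠ 0 := card_ne_zero_complex H
  have hΦ0 : Φ ≠ 0 := by
    intro h
    rw [h, mul_zero] at hloc
    exact hH0 hloc
  refine ⟨φ, dfun, hkey, ?_, ?_, ?_⟩
  · rw [finsum_mem_eq_sum_filter_lib]
    have h1 := mul_right_cancel₀ hΦ0 (hglob.symm.trans hloc)
    exact_mod_cast h1
  · intro χ hχ h0 hzero
    obtain ⟨y, hy, hne⟩ := subsection_nonvanishing hM u huel H hH hind χ hχ h0
    apply hne
    rw [hkey χ y hy, hzero, Int.cast_zero, zero_mul]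
  · obtain ⟨n, hn⟩ := hn
    exact ⟨n, fun s hs => hn s hs⟩

end lemmaK

section kleinlocal

variable {G : Type*} [Group G] [Fintype G] [DecidableEq G]
variable {M : Ideal Cfsg.AlgInt}

/-- the data attached to a nontrivial subsection of a block with a Klein four defect group:
a sign vector and a local function -/
theorem klein_subsection_data (hM : Cfsg.IsPModular 2 M) (B : Set (Cfsg.IrrCharacter G))
    (hB : Cfsg.IsPBlock M B) (P : Subgroup G) (hPD : Cfsg.IsDefectGroup 2 M B P)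
    (hV : IsKleinFour P) (hcard : Nat.card B = 4)
    (x : G) (hx : ∃ k : ℕ, orderOf x = 2 ^ k) (hx1 : x ≠ 1)
    (b : Set (Cfsg.IrrCharacter (Subgroup.centralizer ({x} : Set G))))
    (hb : Cfsg.IsInducedBlock M (Subgroup.centralizer ({x} : Set G)) b B) :
    ∃ (d : Cfsg.IrrCharacter G → ℤ) (Φ : G → ℂ),
      (∀ (χ : Cfsg.IrrCharacter G) (s : Subgroup.centralizer ({x} : Set G)), ¬ 2 ∣ orderOf s →
        Cfsg.blockPart b (fun c : Subgroup.centralizer ({x} : Set G) =>
          (χ : G → ℂ) (x * (c : G))) s = ((d χ : ℤ) : ℂ) * Φ (s : G)) ∧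
      (∀ χ ∈ B, d χ = 1 ∨ d χ = -1) ∧
      (∀ s : Subgroup.centralizer ({x} : Set G), ¬ 2 ∣ orderOf s →
        Cfsg.MemLocalRing M (4 * Φ (s : G)
          / (Nat.card (Subgroup.centralizer ({x * (s : G)} : Set G)) : ℂ)) ∧
        Cfsg.MemLocalRing M (Φ (s : G))) ∧
      ∃ s : Subgroup.centralizer ({x} : Set G), ¬ 2 ∣ orderOf s ∧ Φ (s : G) ≠ 0 := by
  classical
  haveI : Fact (Nat.Prime 2) := ⟨Nat.prime_two⟩
  haveI : Fintype ↥(Subgroup.centralizer ({x} : Set G)) := Fintype.ofFinite _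
  haveI : Fintype (Cfsg.IrrCharacter G) := Fintype.ofFinite _
  haveI : Fintype (Cfsg.IrrCharacter ↥(Subgroup.centralizer ({x} : Set G))) := Fintype.ofFinite _
  obtain ⟨hPab, hord, -⟩ := klein_facts P hV
  obtain ⟨hl, y, hyP⟩ := subsection_klein hM B P hPD hV x hx hx1 b hb
  have hx2 : orderOf x = 2 := by
    have h1 : y * x * y⁻¹ ≠ 1 := by
      intro h
      apply hx1
      have : x = y⁻¹ * (y * x * y⁻¹) * y := by group
      rw [this, h]
      group
    have h2 := hord _ hyP h1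
    rwa [orderOf_conj_kp] at h2
  obtain ⟨D₀, hD₀⟩ := exists_isDefectGroup hM b hb.1
  obtain ⟨-, hD⟩ := subsection_defect_of_abelian hM B P hPD hPab x hx b hb D₀ hD₀
  have hcP := Cfsg.Agent.S0908.result 2 M hM B hB P hPD
  have hcD := Cfsg.Agent.S0908.result 2 M hM B hB _ hD
  have hcD₀ := Cfsg.Agent.S0908.result 2 M hM b hb.1 D₀ hD₀
  have hP4 : Nat.card P = 4 := IsKleinFour.card_four
  have hD₀4 : Nat.card D₀ = 4 := by
    rw [← hP4, hcP, ← hcD]
    exact Nat.card_congr (Subgroup.equivMapOfInjective D₀ _ (Subgroup.subtype_injective _)).toEquiv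
  have hdef : Cfsg.blockDefect 2 B = 2 := by
    rw [hP4] at hcP
    have h2 : 2 ^ 2 = 2 ^ Cfsg.blockDefect 2 B := by rw [← hcP]; norm_num
    exact (Nat.pow_right_injective (le_refl 2) h2).symm
  have hdefb : Cfsg.blockDefect 2 b = 2 := by
    rw [hD₀4] at hcD₀
    have h2 : 2 ^ 2 = 2 ^ Cfsg.blockDefect 2 b := by rw [← hcD₀]; norm_num
    exact (Nat.pow_right_injective (le_refl 2) h2).symm
  obtain ⟨φ, d, hkey, hsum, hne, n, hn⟩ :=
    involution_decomposition_data hM x hx2 _ rfl B b hb hl D₀ hD₀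
  have h0 : ∀ χ ∈ B, Cfsg.blockHeight 2 B (χ : G → ℂ) = 0 := by
    intro χ hχ
    have := ((Cfsg.Agent.S4710.result 2 M hM B hB 2 hdef).2 χ hχ).2 (le_refl 2)
    omega
  have hd1 : ∀ χ ∈ B, d χ = 1 ∨ d χ = -1 := by
    rw [finsum_mem_eq_sum_filter_lib, hD₀4] at hsum
    have hcardS : (Finset.univ.filter (· ∈ B)).card = 4 := by
      rw [← hcard, Nat.card_eq_fintype_card, Fintype.card_subtype]
    have hge : ∀ χ ∈ Finset.univ.filter (· ∈ B), (0 : ℤ) ≤ d χ ^ 2 - 1 := by
      intro χ hχ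
      have hχB := (Finset.mem_filter.mp hχ).2
      have h1 := hne χ hχB (h0 χ hχB)
      have h2 : 0 < d χ ^ 2 := by positivity
      omega
    have hz : ∑ χ ∈ Finset.univ.filter (· ∈ B), (d χ ^ 2 - 1) = 0 := by
      rw [Finset.sum_sub_distrib, hsum, Finset.sum_const, hcardS]
      norm_num
    intro χ hχ
    have hχS : χ ∈ Finset.univ.filter (· ∈ B) := Finset.mem_filter.mpr ⟨Finset.mem_univ _, hχ⟩
    have h1 := (Finset.sum_eq_zero_iff_of_nonneg hge).mp hz χ hχS
    have h2 : d χ ^ 2 = 1 := by omega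
    have h3 : (d χ - 1) * (d χ + 1) = 0 := by ring_nf; rw [h2]; ring
    rcases mul_eq_zero.mp h3 with h | h
    · left; omega
    · right; omega
  obtain ⟨Φ, hΦ⟩ : ∃ Φ : G → ℂ, Φ = fun g =>
      if h : g ∈ Subgroup.centralizer ({x} : Set G) then φ ⟨g, h⟩ else 0 := ⟨_, rfl⟩
  have hΦs : ∀ s : Subgroup.centralizer ({x} : Set G), Φ (s : G) = φ s := by
    intro s
    rw [hΦ]
    simp only
    rw [dif_pos s.2]
  refine ⟨d, Φ, ?_, hd1, ?_, ?_⟩
  · intro χ s hs
    rw [hΦs]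
    exact hkey χ s hs
  · intro s hs
    rw [hΦs, hn s hs, finsum_mem_eq_sum_filter_lib]
    constructor
    · have hcc := card_centralizer_shift Nat.prime_two x hx _ rfl s hs
      rw [← hcc]
      have hrew : 4 * (∑ ψ ∈ Finset.univ.filter (· ∈ b), (n ψ : ℂ)
            * (ψ : Subgroup.centralizer ({x} : Set G) → ℂ) s)
          / (Nat.card (Subgroup.centralizer ({s} : Set (Subgroup.centralizer ({x} : Set G)))) : ℂ)
          = ∑ ψ ∈ Finset.univ.filter (· ∈ b), (n ψ : ℂ)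
            * (((2 : ℕ) : ℂ) ^ Cfsg.blockDefect 2 b
              * (ψ : Subgroup.centralizer ({x} : Set G) → ℂ) s
              / (Nat.card (Subgroup.centralizer ({s} :
                Set (Subgroup.centralizer ({x} : Set G)))) : ℂ)) := by
        rw [Finset.mul_sum, Finset.sum_div, hdefb]
        apply Finset.sum_congr rfl
        intro ψ _
        push_cast
        ring
      rw [hrew]
      apply MemLocalRing.sum hM
      intro ψ hψ
      exact MemLocalRing.mul hM (memLocalRing_intCast hM _)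
        (memLocalRing_pow_defect_mul_apply_div hM b ψ (Finset.mem_filter.mp hψ).2 s)
    · apply MemLocalRing.sum hM
      intro ψ _
      exact MemLocalRing.mul hM (memLocalRing_intCast hM _)
        (memLocalRing_of_isIntegral hM
          (IsCharacter.isIntegral_apply (IsIrrCharacter.isCharacter ψ.2) s))
  · have hBne : B.Nonempty := by
      by_contra hcon
      rw [Set.not_nonempty_iff_eq_empty] at hcon
      rw [hcon] at hcard
      simp at hcard
    obtain ⟨χ, hχ⟩ := hBne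
    obtain ⟨y, hy, hne'⟩ := subsection_nonvanishing hM x hx _ rfl hb χ hχ (h0 χ hχ)
    refine ⟨y, hy, ?_⟩
    intro hzero
    apply hne'
    rw [hkey χ y hy, ← hΦs, hzero, mul_zero]

end kleinlocal

end Cfsg.Agent.Lib.Helper6
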