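import Mathlib
import Cfsg.Agent.Lib.Helper6.KpLocal
import Cfsg.Agent.Lib.Helper6.BlkPairs
import Cfsg.Agent.Lib.Helper6.BrFM2
import Cfsg.Agent.Lib.Helper6.BlkTrans
import Cfsg.Agent.Lib.Helper6.ClassCount

set_option autoImplicit false
set_option linter.unusedSectionVars false
set_option linter.style.haveILetI false
open Cfsg

namespace Cfsg.Agent.Lib.Helper6

open scoped ComplexConjugate

section orth

variable {G : Type*} [Group G] [Fintype G] [DecidableEq G]
variable {p : ℕ} {M : Ideal Cfsg.AlgInt}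

theorem card_centralizer_conj_kp {g g' : G} (h : IsConj g g') :
    Nat.card (Subgroup.centralizer ({g} : Set G))
      = Nat.card (Subgroup.centralizer ({g'} : Set G)) := by
  obtain ⟨c, hc⟩ := isConj_iff.mp h
  have h1 := centralizer_singleton_map_mulEquiv (MulAut.conj c) g
  rw [MulAut.conj_apply, hc] at h1
  rw [h1]
  exact Nat.card_congr (Subgroup.equivMapOfInjective _ _ (MulAut.conj c).injective).toEquiv

/-- decomposition numbers vanish outside the induced block -/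
theorem sign_eq_zero_of_not_mem (hM : Cfsg.IsPModular p M) (B : Set (Cfsg.IrrCharacter G))
    (x : G) (hx : ∃ k : ℕ, orderOf x = p ^ k)
    (b : Set (Cfsg.IrrCharacter (Subgroup.centralizer ({x} : Set G))))
    (hb : Cfsg.IsInducedBlock M (Subgroup.centralizer ({x} : Set G)) b B)
    (d : Cfsg.IrrCharacter G → ℤ) (Φ : G → ℂ)
    (hk : ∀ (χ : Cfsg.IrrCharacter G) (s : Subgroup.centralizer ({x} : Set G)),
      ¬ p ∣ orderOf s → Cfsg.blockPart b (fun c : Subgroup.centralizer ({x} : Set G) =>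
          (χ : G → ℂ) (x * (c : G))) s = ((d χ : ℤ) : ℂ) * Φ (s : G))
    (hnz : ∃ s : Subgroup.centralizer ({x} : Set G), ¬ p ∣ orderOf s ∧ Φ (s : G) ≠ 0)
    (χ : Cfsg.IrrCharacter G) (hχ : χ ∉ B) : d χ = 0 := by
  classical
  haveI : Fintype ↥(Subgroup.centralizer ({x} : Set G)) := Fintype.ofFinite _
  obtain ⟨s, hs, hΦ⟩ := hnz
  have h1 := blockPart_shift_eq_zero_of_not_mem hM x hx _ rfl hb χ hχ s hs
  rw [hk χ s hs] at h1
  rcases mul_eq_zero.mp h1 with h | h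
  · exact_mod_cast h
  · exact absurd h hΦ

/-- sign vectors of subsections at non-conjugate elements are orthogonal -/
theorem sign_orth_of_not_isConj (hM : Cfsg.IsPModular p M) (B : Set (Cfsg.IrrCharacter G))
    (x x' : G) (hx : ∃ k : ℕ, orderOf x = p ^ k) (hx' : ∃ k : ℕ, orderOf x' = p ^ k)
    (hne : ¬ IsConj x x')
    (b : Set (Cfsg.IrrCharacter (Subgroup.centralizer ({x} : Set G))))
    (b' : Set (Cfsg.IrrCharacter (Subgroup.centralizer ({x'} : Set G))))
    (hb : Cfsg.IsInducedBlock M (Subgroup.centralizer ({x} : Set G)) b B)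
    (hb' : Cfsg.IsInducedBlock M (Subgroup.centralizer ({x'} : Set G)) b' B)
    (d d' : Cfsg.IrrCharacter G → ℤ) (Φ Φ' : G → ℂ)
    (hk : ∀ (χ : Cfsg.IrrCharacter G) (s : Subgroup.centralizer ({x} : Set G)),
      ¬ p ∣ orderOf s → Cfsg.blockPart b (fun c : Subgroup.centralizer ({x} : Set G) =>
          (χ : G → ℂ) (x * (c : G))) s = ((d χ : ℤ) : ℂ) * Φ (s : G))
    (hk' : ∀ (χ : Cfsg.IrrCharacter G) (s : Subgroup.centralizer ({x'} : Set G)),
      ¬ p ∣ orderOf s → Cfsg.blockPart b' (fun c : Subgroup.centralizer ({x'} : Set G) =>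
          (χ : G → ℂ) (x' * (c : G))) s = ((d' χ : ℤ) : ℂ) * Φ' (s : G))
    (hnz : ∃ s : Subgroup.centralizer ({x} : Set G), ¬ p ∣ orderOf s ∧ Φ (s : G) ≠ 0)
    (hnz' : ∃ s : Subgroup.centralizer ({x'} : Set G), ¬ p ∣ orderOf s ∧ Φ' (s : G) ≠ 0) :
    ∑ᶠ χ ∈ B, d χ * d' χ = 0 := by
  classical
  haveI : Fintype (Cfsg.IrrCharacter G) := Fintype.ofFinite _
  haveI : Fintype ↥(Subgroup.centralizer ({x} : Set G)) := Fintype.ofFinite _
  haveI : Fintype ↥(Subgroup.centralizer ({x'} : Set G)) := Fintype.ofFinite _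
  have hdz := sign_eq_zero_of_not_mem hM B x hx b hb d Φ hk hnz
  obtain ⟨s, hs, hΦ⟩ := hnz
  obtain ⟨s', hs', hΦ'⟩ := hnz'
  obtain ⟨ξ₀, hbξ⟩ := hb.1
  obtain ⟨ξ₀', hbξ'⟩ := hb'.1
  have h1 := sum_blockPart_shift_cross_of_not_isConj hM x x' hx hx' _ _ rfl rfl hne ξ₀ ξ₀'
    s hs s' hs'
  rw [← hbξ, ← hbξ'] at h1
  have h2 : ∑ χ : Cfsg.IrrCharacter G, ((d χ * d' χ : ℤ) : ℂ) * (Φ (s : G) * conj (Φ' (s' : G)))
      = 0 := by
    rw [← h1]
    apply Finset.sum_congr rfl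
    intro χ _
    rw [hk χ s hs, hk' χ s' hs', map_mul, map_intCast]
    push_cast
    ring
  rw [← Finset.sum_mul] at h2
  have h3 : Φ (s : G) * conj (Φ' (s' : G)) ≠ 0 := mul_ne_zero hΦ ((map_ne_zero _).mpr hΦ')
  have h4 : ∑ χ : Cfsg.IrrCharacter G, ((d χ * d' χ : ℤ) : ℂ) = 0 :=
    (mul_eq_zero.mp h2).resolve_right h3
  have h5 : ∑ χ : Cfsg.IrrCharacter G, d χ * d' χ = 0 := by exact_mod_cast h4
  rw [finsum_mem_eq_sum_filter_lib, Finset.sum_filter]
  refine Eq.trans ?_ h5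
  apply Finset.sum_congr rfl
  intro χ _
  split_ifs with hχ
  · rfl
  · rw [hdz χ hχ, zero_mul]

/-- sign vectors of two different blocks of the same centralizer are orthogonal -/
theorem sign_orth_same (hM : Cfsg.IsPModular p M) (B : Set (Cfsg.IrrCharacter G))
    (x : G) (hx : ∃ k : ℕ, orderOf x = p ^ k)
    (b b' : Set (Cfsg.IrrCharacter (Subgroup.centralizer ({x} : Set G)))) (hbb : b ≠ b')
    (hb : Cfsg.IsInducedBlock M (Subgroup.centralizer ({x} : Set G)) b B)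
    (hb' : Cfsg.IsInducedBlock M (Subgroup.centralizer ({x} : Set G)) b' B)
    (d d' : Cfsg.IrrCharacter G → ℤ) (Φ Φ' : G → ℂ)
    (hk : ∀ (χ : Cfsg.IrrCharacter G) (s : Subgroup.centralizer ({x} : Set G)),
      ¬ p ∣ orderOf s → Cfsg.blockPart b (fun c : Subgroup.centralizer ({x} : Set G) =>
          (χ : G → ℂ) (x * (c : G))) s = ((d χ : ℤ) : ℂ) * Φ (s : G))
    (hk' : ∀ (χ : Cfsg.IrrCharacter G) (s : Subgroup.centralizer ({x} : Set G)),
      ¬ p ∣ orderOf s → Cfsg.blockPart b' (fun c : Subgroup.centralizer ({x} : Set G) =>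
          (χ : G → ℂ) (x * (c : G))) s = ((d' χ : ℤ) : ℂ) * Φ' (s : G))
    (hnz : ∃ s : Subgroup.centralizer ({x} : Set G), ¬ p ∣ orderOf s ∧ Φ (s : G) ≠ 0)
    (hnz' : ∃ s : Subgroup.centralizer ({x} : Set G), ¬ p ∣ orderOf s ∧ Φ' (s : G) ≠ 0) :
    ∑ᶠ χ ∈ B, d χ * d' χ = 0 := by
  classical
  haveI : Fintype (Cfsg.IrrCharacter G) := Fintype.ofFinite _
  haveI : Fintype ↥(Subgroup.centralizer ({x} : Set G)) := Fintype.ofFinite _
  have hdz := sign_eq_zero_of_not_mem hM B x hx b hb d Φ hk hnz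
  obtain ⟨s, hs, hΦ⟩ := hnz
  obtain ⟨s', hs', hΦ'⟩ := hnz'
  obtain ⟨ξ₀, hbξ⟩ := hb.1
  obtain ⟨ξ₀', hbξ'⟩ := hb'.1
  have hne : Cfsg.blockOf M (ξ₀ : Subgroup.centralizer ({x} : Set G) → ℂ)
      ≠ Cfsg.blockOf M (ξ₀' : Subgroup.centralizer ({x} : Set G) → ℂ) := by
    rw [← hbξ, ← hbξ']
    exact hbb
  have h1 := sum_blockPart_shift_cross_same hM x hx _ rfl ξ₀ ξ₀' hne s hs s' hs'
  rw [← hbξ, ← hbξ'] at h1
  have h2 : ∑ χ : Cfsg.IrrCharacter G, ((d χ * d' χ : ℤ) : ℂ) * (Φ (s : G) * conj (Φ' (s' : G)))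
      = 0 := by
    rw [← h1]
    apply Finset.sum_congr rfl
    intro χ _
    rw [hk χ s hs, hk' χ s' hs', map_mul, map_intCast]
    push_cast
    ring
  rw [← Finset.sum_mul] at h2
  have h3 : Φ (s : G) * conj (Φ' (s' : G)) ≠ 0 := mul_ne_zero hΦ ((map_ne_zero _).mpr hΦ')
  have h4 : ∑ χ : Cfsg.IrrCharacter G, ((d χ * d' χ : ℤ) : ℂ) = 0 :=
    (mul_eq_zero.mp h2).resolve_right h3
  have h5 : ∑ χ : Cfsg.IrrCharacter G, d χ * d' χ = 0 := by exact_mod_cast h4
  rw [finsum_mem_eq_sum_filter_lib, Finset.sum_filter]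
  refine Eq.trans ?_ h5
  apply Finset.sum_congr rfl
  intro χ _
  split_ifs with hχ
  · rfl
  · rw [hdz χ hχ, zero_mul]

/-- the sign vector of a nontrivial subsection is orthogonal to the values at `p`-regular
elements -/
theorem sign_orth_regular (hM : Cfsg.IsPModular p M) (B : Set (Cfsg.IrrCharacter G))
    (x : G) (hx : ∃ k : ℕ, orderOf x = p ^ k) (hx1 : x ≠ 1)
    (b : Set (Cfsg.IrrCharacter (Subgroup.centralizer ({x} : Set G))))
    (hb : Cfsg.IsInducedBlock M (Subgroup.centralizer ({x} : Set G)) b B)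
    (d : Cfsg.IrrCharacter G → ℤ) (Φ : G → ℂ)
    (hk : ∀ (χ : Cfsg.IrrCharacter G) (s : Subgroup.centralizer ({x} : Set G)),
      ¬ p ∣ orderOf s → Cfsg.blockPart b (fun c : Subgroup.centralizer ({x} : Set G) =>
          (χ : G → ℂ) (x * (c : G))) s = ((d χ : ℤ) : ℂ) * Φ (s : G))
    (hnz : ∃ s : Subgroup.centralizer ({x} : Set G), ¬ p ∣ orderOf s ∧ Φ (s : G) ≠ 0)
    (g : G) (hg : ¬ p ∣ orderOf g) :
    ∑ᶠ χ ∈ B, ((d χ : ℤ) : ℂ) * (χ : G → ℂ) g = 0 := by
  classical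
  haveI : Fintype (Cfsg.IrrCharacter G) := Fintype.ofFinite _
  haveI : Fintype ↥(Subgroup.centralizer ({x} : Set G)) := Fintype.ofFinite _
  have hdz := sign_eq_zero_of_not_mem hM B x hx b hb d Φ hk hnz
  obtain ⟨s, hs, hΦ⟩ := hnz
  obtain ⟨ξ₀, hbξ⟩ := hb.1
  have h1 := sum_blockPart_shift_mul_conj_regular hM x hx hx1 _ rfl ξ₀ s hs g hg
  rw [← hbξ] at h1
  have h2 : (∑ χ : Cfsg.IrrCharacter G, ((d χ : ℤ) : ℂ) * conj ((χ : G → ℂ) g)) * Φ (s : G)
      = 0 := by
    rw [← h1, Finset.sum_mul]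
    apply Finset.sum_congr rfl
    intro χ _
    rw [hk χ s hs]
    ring
  have h3 : ∑ χ : Cfsg.IrrCharacter G, ((d χ : ℤ) : ℂ) * conj ((χ : G → ℂ) g) = 0 :=
    (mul_eq_zero.mp h2).resolve_right hΦ
  have h4 : ∑ χ : Cfsg.IrrCharacter G, ((d χ : ℤ) : ℂ) * (χ : G → ℂ) g = 0 := by
    have := congrArg conj h3
    rw [map_sum, map_zero] at this
    rw [← this]
    apply Finset.sum_congr rfl
    intro χ _
    rw [map_mul, map_intCast, Complex.conj_conj]
  rw [finsum_mem_eq_sum_filter_lib, Finset.sum_filter]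
  refine Eq.trans ?_ h4
  apply Finset.sum_congr rfl
  intro χ _
  split_ifs with hχ
  · rfl
  · rw [hdz χ hχ, Int.cast_zero, zero_mul]

end orth

section structure_thm

variable {G : Type*} [Group G] [Fintype G] [DecidableEq G]
variable {M : Ideal Cfsg.AlgInt}

/-- **structure of a block with a Klein four defect group**: sign vectors of the nontrivial
subsections and the attached local class functions -/
theorem klein_structure (hM : Cfsg.IsPModular 2 M) (B : Set (Cfsg.IrrCharacter G))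
    (hB : Cfsg.IsPBlock M B) (P : Subgroup G) (hPD : Cfsg.IsDefectGroup 2 M B P)
    (hV : IsKleinFour P) :
    ∃ (n : ℕ) (h : Fin n → Cfsg.IrrCharacter G → ℤ) (f : Fin n → G → ℂ),
      n + Cfsg.blockRank 2 B = 4 ∧ Nat.card B = 4 ∧ Cfsg.blockDefect 2 B = 2 ∧
      (∀ i, ∀ χ ∈ B, h i χ = 1 ∨ h i χ = -1) ∧
      (∀ i i', i ≠ i' → ∑ᶠ χ ∈ B, h i χ * h i' χ = 0) ∧
      (∀ i, ∀ g : G, ¬ 2 ∣ orderOf g → ∑ᶠ χ ∈ B, ((h i χ : ℤ) : ℂ) * (χ : G → ℂ) g = 0) ∧
      (∀ χ ∈ B, ∀ g : G, 2 ∣ orderOf g →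
        (χ : G → ℂ) g = ∑ i, ((h i χ : ℤ) : ℂ) * f i g) ∧
      (∀ i g, Cfsg.MemLocalRing M (4 * f i g
          / (Nat.card (Subgroup.centralizer ({g} : Set G)) : ℂ)) ∧
        Cfsg.MemLocalRing M (f i g)) := by
  classical
  haveI : Fact (Nat.Prime 2) := ⟨Nat.prime_two⟩
  haveI : Fintype (Cfsg.IrrCharacter G) := Fintype.ofFinite _
  haveI : Fintype ↥(Subgroup.centralizer (P : Set G)) := Fintype.ofFinite _
  have hPp : IsPGroup 2 P := IsDefectGroup.isPGroup' hPD
  obtain ⟨c, hcpair⟩ := exists_isBrauerPairOf_of_isDefectGroup P hM hPp hB hPD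
  have hc := (isBrauerPairOf_iff_isInducedBlock hM P hPp c B).mp hcpair
  obtain ⟨X, -, hX, hXrep⟩ := exists_pElement_reps_of_finset 2 (∅ : Finset G) (by simp)
    (by simp)
  obtain ⟨h1X, hsum⟩ := card_block_eq_rank_add hM B hB X hX hXrep
  have h4 := klein_card_block hM B hB P hPD hV c hc X hX hXrep
  have hdef : Cfsg.blockDefect 2 B = 2 := by
    have hcP := Cfsg.Agent.S0908.result 2 M hM B hB P hPD
    have hP4 : Nat.card P = 4 := IsKleinFour.card_four
    rw [hP4] at hcP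
    have h2 : 2 ^ 2 = 2 ^ Cfsg.blockDefect 2 B := by rw [← hcP]; norm_num
    exact (Nat.pow_right_injective (le_refl 2) h2).symm
  obtain ⟨S, hS⟩ : ∃ S : Finset (Cfsg.IrrCharacter G), S = Finset.univ.filter (· ∈ B) :=
    ⟨_, rfl⟩
  have hScard : S.card = 4 := by
    rw [hS, ← h4, Nat.card_eq_fintype_card, Fintype.card_subtype]
  have hSmem : ∀ χ, χ ∈ S ↔ χ ∈ B := by
    intro χ
    rw [hS]
    simp
  obtain ⟨J, hJ⟩ : ∃ J : Finset (Σ x : G, Set (Cfsg.IrrCharacter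
      (Subgroup.centralizer ({x} : Set G)))),
      J = (X.erase 1).sigma
        (fun x => inducingBlocks M (Subgroup.centralizer ({x} : Set G)) B) := ⟨_, rfl⟩
  have hJmem : ∀ j : (Σ x : G, Set (Cfsg.IrrCharacter (Subgroup.centralizer ({x} : Set G)))),
      j ∈ J ↔ (j.1 ∈ X ∧ j.1 ≠ 1) ∧
        Cfsg.IsInducedBlock M (Subgroup.centralizer ({j.1} : Set G)) j.2 B := by
    intro j
    rw [hJ, Finset.mem_sigma, Finset.mem_erase, mem_inducingBlocks]
    tauto
  have hdata : ∀ j : (Σ x : G, Set (Cfsg.IrrCharacter (Subgroup.centralizer ({x} : Set G)))),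
      j ∈ J → ∃ (d : Cfsg.IrrCharacter G → ℤ) (Φ : G → ℂ),
      (∀ (χ : Cfsg.IrrCharacter G) (s : Subgroup.centralizer ({j.1} : Set G)),
        ¬ 2 ∣ orderOf s →
        Cfsg.blockPart j.2 (fun c : Subgroup.centralizer ({j.1} : Set G) =>
          (χ : G → ℂ) (j.1 * (c : G))) s = ((d χ : ℤ) : ℂ) * Φ (s : G)) ∧
      (∀ χ ∈ B, d χ = 1 ∨ d χ = -1) ∧
      (∀ s : Subgroup.centralizer ({j.1} : Set G), ¬ 2 ∣ orderOf s →
        Cfsg.MemLocalRing M (4 * Φ (s : G)
          / (Nat.card (Subgroup.centralizer ({j.1 * (s : G)} : Set G)) : ℂ)) ∧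
        Cfsg.MemLocalRing M (Φ (s : G))) ∧
      ∃ s : Subgroup.centralizer ({j.1} : Set G), ¬ 2 ∣ orderOf s ∧ Φ (s : G) ≠ 0 := by
    intro j hj
    obtain ⟨⟨hjX, hj1⟩, hjb⟩ := (hJmem j).mp hj
    exact klein_subsection_data hM B hB P hPD hV h4 j.1 (hX _ hjX) hj1 j.2 hjb
  choose! d Φ hd using hdata
  have hpm : ∀ j ∈ J, ∀ χ ∈ B, d j χ = 1 ∨ d j χ = -1 := fun j hj => (hd j hj).2.1
  have hnorm : ∀ j ∈ J, ∑ χ ∈ S, d j χ * d j χ = 4 := by
    intro j hj
    have h1 : ∀ χ ∈ S, d j χ * d j χ = 1 := by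
      intro χ hχ
      rcases hpm j hj χ ((hSmem χ).mp hχ) with h | h <;> rw [h] <;> norm_num
    rw [Finset.sum_congr rfl h1, Finset.sum_const, hScard]
    norm_num
  have horth : ∀ j ∈ J, ∀ j' ∈ J, j ≠ j' → ∑ χ ∈ S, d j χ * d j' χ = 0 := by
    intro j hj j' hj' hne
    obtain ⟨⟨hjX, hj1⟩, hjb⟩ := (hJmem j).mp hj
    obtain ⟨⟨hjX', hj1'⟩, hjb'⟩ := (hJmem j').mp hj'
    obtain ⟨hk, -, -, hnz⟩ := hd j hj
    obtain ⟨hk', -, -, hnz'⟩ := hd j' hj'
    have key : ∑ᶠ χ ∈ B, d j χ * d j' χ = 0 := by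
      by_cases hxx : j.1 = j'.1
      · obtain ⟨x, b⟩ := j
        obtain ⟨x', b'⟩ := j'
        simp only at hxx
        subst hxx
        have hbb : b ≠ b' := by
          intro h
          apply hne
          rw [h]
        exact sign_orth_same hM B x (hX _ hjX) b b' hbb hjb hjb' _ _ _ _ hk hk' hnz hnz'
      · have hnc : ¬ IsConj j.1 j'.1 := by
          intro hcon
          apply hxx
          obtain ⟨x₀, -, huniq⟩ := hXrep j.1 (hX _ hjX)
          have e1 := huniq j.1 ⟨hjX, IsConj.refl _⟩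
          have e2 := huniq j'.1 ⟨hjX', hcon⟩
          rw [e1, e2]
        exact sign_orth_of_not_isConj hM B j.1 j'.1 (hX _ hjX) (hX _ hjX') hnc j.2 j'.2 hjb hjb'
          _ _ _ _ hk hk' hnz hnz'
    rw [finsum_mem_eq_sum_filter_lib] at key
    rw [hS]
    exact key
  have hreg : ∀ j ∈ J, ∀ g : G, ¬ 2 ∣ orderOf g →
      ∑ χ ∈ S, ((d j χ : ℤ) : ℂ) * (χ : G → ℂ) g = 0 := by
    intro j hj g hg
    obtain ⟨⟨hjX, hj1⟩, hjb⟩ := (hJmem j).mp hj
    obtain ⟨hk, -, -, hnz⟩ := hd j hj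
    have key := sign_orth_regular hM B j.1 (hX _ hjX) hj1 j.2 hjb _ _ hk hnz g hg
    rw [finsum_mem_eq_sum_filter_lib] at key
    rw [hS]
    exact key
  obtain ⟨F, hF⟩ : ∃ F : (Σ x : G, Set (Cfsg.IrrCharacter
      (Subgroup.centralizer ({x} : Set G)))) → G → ℂ,
      F = fun j g => (1 / 4 : ℂ) * ∑ χ ∈ S, ((d j χ : ℤ) : ℂ) * (χ : G → ℂ) g := ⟨_, rfl⟩
  have hFconj : ∀ j g g', IsConj g g' → F j g = F j g' := by
    intro j g g' hgg
    rw [hF]
    simp only
    congr 1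
    apply Finset.sum_congr rfl
    intro χ _
    rw [isClassFunction_iff_isConj.mp (IsIrrCharacter.isClassFunction χ.2) g g' hgg]
  have hpoint : ∀ x ∈ X, x ≠ 1 → ∀ s : Subgroup.centralizer ({x} : Set G), ¬ 2 ∣ orderOf s →
      (∀ χ ∈ B, (χ : G → ℂ) (x * (s : G))
        = ∑ j ∈ J, ((d j χ : ℤ) : ℂ) * F j (x * (s : G))) ∧
      (∀ j ∈ J, Cfsg.MemLocalRing M (4 * F j (x * (s : G))
          / (Nat.card (Subgroup.centralizer ({x * (s : G)} : Set G)) : ℂ)) ∧
        Cfsg.MemLocalRing M (F j (x * (s : G)))) := by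
    intro x hxX hx1 s hs
    haveI : Fintype ↥(Subgroup.centralizer ({x} : Set G)) := Fintype.ofFinite _
    obtain ⟨cf, hcf⟩ : ∃ cf : (Σ x : G, Set (Cfsg.IrrCharacter
        (Subgroup.centralizer ({x} : Set G)))) → ℂ,
        cf = fun j => if j.1 = x then Φ j (s : G) else 0 := ⟨_, rfl⟩
    have hexp : ∀ χ ∈ B, (χ : G → ℂ) (x * (s : G)) = ∑ j ∈ J, cf j * ((d j χ : ℤ) : ℂ) := by
      intro χ hχ
      rw [apply_shift_eq_sum_inducingBlocks hM x (hX x hxX) _ rfl B hB χ hχ s hs, hJ,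
        Finset.sum_sigma, Finset.sum_eq_single x]
      · apply Finset.sum_congr rfl
        intro b hb
        have hjJ : (⟨x, b⟩ : Σ x : G, Set (Cfsg.IrrCharacter
            (Subgroup.centralizer ({x} : Set G)))) ∈ J := by
          rw [hJmem]
          exact ⟨⟨hxX, hx1⟩, (mem_inducingBlocks _ _ _).mp hb⟩
        rw [(hd _ hjJ).1 χ s hs, hcf]
        simp only [if_true]
        ring
      · intro x' _ hx'
        apply Finset.sum_eq_zero
        intro b _
        rw [hcf]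
        simp only
        rw [if_neg hx', zero_mul]
      · intro hnot
        exact absurd (Finset.mem_erase.mpr ⟨hx1, hxX⟩) hnot
    have hFval : ∀ j₀ ∈ J, F j₀ (x * (s : G)) = cf j₀ := by
      intro j₀ hj₀
      rw [hF]
      simp only
      have h1 : ∑ χ ∈ S, ((d j₀ χ : ℤ) : ℂ) * (χ : G → ℂ) (x * (s : G))
          = ∑ j ∈ J, cf j * ((∑ χ ∈ S, d j₀ χ * d j χ : ℤ) : ℂ) := by
        have h2 : ∀ χ ∈ S, ((d j₀ χ : ℤ) : ℂ) * (χ : G → ℂ) (x * (s : G))
            = ∑ j ∈ J, cf j * ((d j₀ χ * d j χ : ℤ) : ℂ) := by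
          intro χ hχ
          rw [hexp χ ((hSmem χ).mp hχ), Finset.mul_sum]
          apply Finset.sum_congr rfl
          intro j _
          push_cast
          ring
        rw [Finset.sum_congr rfl h2, Finset.sum_comm]
        apply Finset.sum_congr rfl
        intro j _
        rw [← Finset.mul_sum]
        push_cast
        rfl
      rw [h1, Finset.sum_eq_single j₀]
      · rw [hnorm j₀ hj₀]
        push_cast
        ring
      · intro j hj hne
        rw [horth j₀ hj₀ j hj (Ne.symm hne)]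
        simp
      · intro h
        exact absurd hj₀ h
    constructor
    · intro χ hχ
      rw [hexp χ hχ]
      apply Finset.sum_congr rfl
      intro j hj
      rw [hFval j hj]
      ring
    · intro j hj
      rw [hFval j hj, hcf]
      simp only
      by_cases hjx : j.1 = x
      · rw [if_pos hjx]
        obtain ⟨x', b'⟩ := j
        simp only at hjx
        subst hjx
        exact (hd _ hj).2.2.1 s hs
      · rw [if_neg hjx]
        simp only [mul_zero, zero_div]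
        exact ⟨memLocalRing_zero hM, memLocalRing_zero hM⟩
  -- general elements
  have hsing : ∀ χ ∈ B, ∀ g : G, 2 ∣ orderOf g →
      (χ : G → ℂ) g = ∑ j ∈ J, ((d j χ : ℤ) : ℂ) * F j g := by
    intro χ hχ g hg
    obtain ⟨x, hxX, s, hs, hconj, hx1⟩ := exists_rep_section Nat.prime_two X hXrep g
    rw [isClassFunction_iff_isConj.mp (IsIrrCharacter.isClassFunction χ.2) g _ hconj,
      (hpoint x hxX (hx1 hg) s hs).1 χ hχ]
    apply Finset.sum_congr rfl
    intro j _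
    rw [hFconj j g _ hconj]
  have hint : ∀ j ∈ J, ∀ g : G, Cfsg.MemLocalRing M (4 * F j g
        / (Nat.card (Subgroup.centralizer ({g} : Set G)) : ℂ)) ∧
      Cfsg.MemLocalRing M (F j g) := by
    intro j hj g
    by_cases hg : 2 ∣ orderOf g
    · obtain ⟨x, hxX, s, hs, hconj, hx1⟩ := exists_rep_section Nat.prime_two X hXrep g
      rw [hFconj j g _ hconj, card_centralizer_conj_kp hconj]
      exact (hpoint x hxX (hx1 hg) s hs).2 j hj
    · have h0 : F j g = 0 := by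
        rw [hF]
        simp only
        rw [hreg j hj g hg, mul_zero]
      rw [h0]
      simp only [mul_zero, zero_div]
      exact ⟨memLocalRing_zero hM, memLocalRing_zero hM⟩
  -- the count
  have hsec : ∀ x ∈ X.erase 1, sectionSum 2 M B x
      = (inducingBlocks M (Subgroup.centralizer ({x} : Set G)) B).card := by
    intro x hx
    obtain ⟨hx1, hxX⟩ := Finset.mem_erase.mp hx
    unfold sectionSum
    have hset : {b : Set (Cfsg.IrrCharacter ↥(Subgroup.centralizer ({x} : Set G))) |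
        Cfsg.IsInducedBlock M (Subgroup.centralizer ({x} : Set G)) b B}
        = ((inducingBlocks M (Subgroup.centralizer ({x} : Set G)) B : Finset _) : Set _) := by
      ext b
      rw [Finset.mem_coe, mem_inducingBlocks]
      rfl
    rw [hset, finsum_mem_coe_finset, Finset.card_eq_sum_ones]
    apply Finset.sum_congr rfl
    intro b hb
    exact (subsection_klein hM B P hPD hV x (hX x hxX) hx1 b
      ((mem_inducingBlocks _ _ _).mp hb)).1
  have hJcard : J.card + Cfsg.blockRank 2 B = 4 := by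
    have h1 : ∑ x ∈ X.erase 1, sectionSum 2 M B x
        = ∑ x ∈ X.erase 1, (inducingBlocks M (Subgroup.centralizer ({x} : Set G)) B).card :=
      Finset.sum_congr rfl hsec
    have h2 : J.card
        = ∑ x ∈ X.erase 1, (inducingBlocks M (Subgroup.centralizer ({x} : Set G)) B).card := by
      rw [hJ, Finset.card_sigma]
    rw [h2, ← h1]
    omega
  -- reindex by `Fin`
  obtain ⟨e, -⟩ : ∃ e : {j // j ∈ J} ≃ Fin J.card, True := ⟨J.equivFin, trivial⟩
  have hsumJ : ∀ Gf : (Σ x : G, Set (Cfsg.IrrCharacter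
      (Subgroup.centralizer ({x} : Set G)))) → ℂ,
      ∑ i : Fin J.card, Gf (e.symm i).1 = ∑ j ∈ J, Gf j := by
    intro Gf
    rw [Equiv.sum_comp e.symm (fun j : {j // j ∈ J} => Gf j.1)]
    exact Finset.sum_coe_sort J Gf
  refine ⟨J.card, fun i => d (e.symm i).1, fun i => F (e.symm i).1, hJcard, h4, hdef,
    ?_, ?_, ?_, ?_, ?_⟩
  · intro i χ hχ
    exact hpm _ (e.symm i).2 χ hχ
  · intro i i' hne
    rw [finsum_mem_eq_sum_filter_lib, ← hS]
    apply horth _ (e.symm i).2 _ (e.symm i').2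
    intro h
    apply hne
    exact e.symm.injective (Subtype.ext h)
  · intro i g hg
    rw [finsum_mem_eq_sum_filter_lib, ← hS]
    exact hreg _ (e.symm i).2 g hg
  · intro χ hχ g hg
    rw [hsing χ hχ g hg]
    exact (hsumJ (fun j => ((d j χ : ℤ) : ℂ) * F j g)).symm
  · intro i g
    exact hint _ (e.symm i).2 g

end structure_thm

end Cfsg.Agent.Lib.Helper6
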