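import Mathlib
import Cfsg.Agent.Lib.Helper6.KpStruct
import Cfsg.Agent.Lib.Helper6.BrRel
import Cfsg.Agent.Lib.Helper6.BrFull
import Cfsg.Agent.Lib.Helper6.BlkFirstMain
import Cfsg.Agent.Lib.Helper6.KfSub
import Cfsg.Agent.S4637

set_option autoImplicit false
set_option linter.unusedSectionVars false
set_option linter.style.haveILetI false
open Cfsg

namespace Cfsg.Agent.Lib.Helper6

open scoped ComplexConjugate

section matchrank

variable {G : Type*} [Group G] [Fintype G] [DecidableEq G]
variable {M : Ideal Cfsg.AlgInt}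

theorem klein_blockRank_correspondent_aux (hM : Cfsg.IsPModular 2 M)
    (B : Set (Cfsg.IrrCharacter G)) (hB : Cfsg.IsPBlock M B) (P : Subgroup G)
    (hPD : Cfsg.IsDefectGroup 2 M B P) (hV : IsKleinFour P)
    (N : Subgroup G) (hN : N = Subgroup.normalizer (P : Set G))
    (c : Set (Cfsg.IrrCharacter N))
    (hcD : Cfsg.IsDefectGroup 2 M c (P.subgroupOf N))
    (hc : Cfsg.IsInducedBlock M N c B) :
    Cfsg.blockRank 2 c = Cfsg.blockRank 2 B ∧
      (Cfsg.blockRank 2 B = 1 ∨ Cfsg.blockRank 2 B = 3) := by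
  classical
  haveI : Fact (Nat.Prime 2) := ⟨Nat.prime_two⟩
  have hPN : P ≤ N := by rw [hN]; exact Subgroup.le_normalizer
  have hCN : Subgroup.centralizer (P : Set G) ≤ N := by
    rw [hN]
    exact Subgroup.centralizer_le_normalizer (P : Set G)
  haveI : Fintype ↥N := Fintype.ofFinite _
  haveI : Fintype ↥(Subgroup.centralizer (P : Set G)) := Fintype.ofFinite _
  haveI : Fintype ↥(Subgroup.centralizer ((P.subgroupOf N : Subgroup N) : Set N)) :=
    Fintype.ofFinite _
  haveI := hV
  have hV' : IsKleinFour ↥(P.subgroupOf N) :=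
    isKleinFour_of_mulEquiv (Subgroup.subgroupOfEquivOfLe hPN).symm
  have hP'p : IsPGroup 2 (P.subgroupOf N) := IsDefectGroup.isPGroup' hcD
  obtain ⟨c', hc'pair⟩ := exists_isBrauerPairOf_of_isDefectGroup (P.subgroupOf N) hM hP'p hc.1 hcD
  have hc' := (isBrauerPairOf_iff_isInducedBlock hM (P.subgroupOf N) hP'p c' c).mp hc'pair
  -- transport of the root block
  obtain ⟨e, he⟩ : ∃ e : Subgroup.centralizer ((P.subgroupOf N : Subgroup N) : Set N)
      ≃* Subgroup.centralizer (P : Set G), e = cEquiv N P hPN hCN := ⟨_, rfl⟩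
  obtain ⟨e₀, he₀⟩ : ∃ e₀ : Set (Cfsg.IrrCharacter (Subgroup.centralizer (P : Set G))),
      e₀ = mapIrr e '' c' := ⟨_, rfl⟩
  have hc'e₀ : c' = mapIrr e.symm '' e₀ := by
    rw [he₀, mapIrr_symm_image_image]
  obtain ⟨ψ₀, hψ₀⟩ := hc'.1
  have he₀blk : e₀ = Cfsg.blockOf M (mapIrr e ψ₀ : Subgroup.centralizer (P : Set G) → ℂ) := by
    rw [he₀, hψ₀, mapIrr_image_blockOf]
  have hfun : (fun x : Subgroup.centralizer ((P.subgroupOf N : Subgroup N) : Set N) =>
      (mapIrr e ψ₀ : Subgroup.centralizer (P : Set G) → ℂ) (e x))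
      = (ψ₀ : Subgroup.centralizer ((P.subgroupOf N : Subgroup N) : Set N) → ℂ) := by
    funext x
    rw [mapIrr_apply, MulEquiv.symm_apply_apply]
  have he₀ind : Cfsg.IsInducedBlock M (Subgroup.centralizer (P : Set G)) e₀ B := by
    rw [he₀blk]
    apply IsInducedBlock.trans hM N (Subgroup.centralizer ((P.subgroupOf N : Subgroup N) : Set N))
      (Subgroup.centralizer (P : Set G)) e (fun x => by rw [he]; rfl) (mapIrr e ψ₀) _ hc
    rw [hfun, ← hψ₀]
    exact hc'
  -- the two stabilizers
  obtain ⟨T, hTdef⟩ : ∃ T : Subgroup G,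
      T = N ⊓ stabSub (Subgroup.centralizer (P : Set G)) e₀ := ⟨_, rfl⟩
  have hT : ∀ g : G, g ∈ T ↔ (g ∈ Subgroup.normalizer (P : Set G) ∧
      Cfsg.StabilizesBlock (Subgroup.centralizer (P : Set G)) e₀ g) := by
    intro g
    rw [hTdef, Subgroup.mem_inf, mem_stabSub_iff, hN]
  have hTN : T ≤ N := by
    rw [hTdef]
    exact inf_le_left
  obtain ⟨he13, -, hrankB⟩ := Cfsg.Agent.S4637.result M hM B hB P hPD hV e₀ he₀ind T hT _ rfl
  have hnormal : (P.subgroupOf N).Normal := by
    rw [hN]
    exact subgroupOf_normalizer_normal P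
  have hstab_iff : ∀ n : N,
      Cfsg.StabilizesBlock (Subgroup.centralizer ((P.subgroupOf N : Subgroup N) : Set N)) c' n
        ↔ Cfsg.StabilizesBlock (Subgroup.centralizer (P : Set G)) e₀ (n : G) := by
    intro n
    have hnP' : n ∈ Subgroup.normalizer ((P.subgroupOf N : Subgroup N) : Set N) := by
      rw [Subgroup.mem_normalizer_iff]
      intro h
      constructor
      · intro hh
        exact hnormal.conj_mem h hh n
      · intro hh
        have := hnormal.conj_mem _ hh n⁻¹
        simpa [mul_assoc] using this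
    have hnL := normalizer_le_normalizer_centralizer (P.subgroupOf N) hnP'
    have hnG : (n : G) ∈ Subgroup.normalizer
        ((Subgroup.centralizer (P : Set G) : Subgroup G) : Set G) := by
      apply normalizer_le_normalizer_centralizer P
      rw [← hN]
      exact n.2
    have hrel := autIrr_nAut_rel_image N P hPN hCN n hnL hnG e₀
    rw [← he] at hrel
    rw [stabilizesBlock_iff, stabilizesBlock_iff]
    constructor
    · rintro ⟨_, h1⟩
      refine ⟨hnG, ?_⟩
      rw [hc'e₀, hrel] at h1
      exact Set.image_injective.mpr (mapIrr e.symm).injective h1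
    · rintro ⟨_, h1⟩
      refine ⟨hnL, ?_⟩
      rw [hc'e₀, hrel, h1]
  have hT' : ∀ n : N, n ∈ T.subgroupOf N ↔
      (n ∈ Subgroup.normalizer ((P.subgroupOf N : Subgroup N) : Set N) ∧
        Cfsg.StabilizesBlock (Subgroup.centralizer ((P.subgroupOf N : Subgroup N) : Set N))
          c' n) := by
    intro n
    have hnP' : n ∈ Subgroup.normalizer ((P.subgroupOf N : Subgroup N) : Set N) := by
      rw [Subgroup.mem_normalizer_iff]
      intro h
      constructor
      · intro hh
        exact hnormal.conj_mem h hh n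
      · intro hh
        have := hnormal.conj_mem _ hh n⁻¹
        simpa [mul_assoc] using this
    rw [Subgroup.mem_subgroupOf, hT, hstab_iff n]
    constructor
    · rintro ⟨_, h2⟩
      exact ⟨hnP', h2⟩
    · rintro ⟨_, h2⟩
      refine ⟨?_, h2⟩
      rw [← hN]
      exact n.2
  obtain ⟨-, -, hrankc⟩ := Cfsg.Agent.S4637.result M hM c hc.1 (P.subgroupOf N) hcD hV' c' hc'
    (T.subgroupOf N) hT' _ rfl
  have hCeq : Subgroup.centralizer ((P.subgroupOf N : Subgroup N) : Set N)
      = (Subgroup.centralizer (P : Set G)).subgroupOf N := by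
    ext n
    rw [Subgroup.mem_subgroupOf]
    constructor
    · intro hn
      exact coe_mem_centralizer_of_rel N P hPN ⟨n, hn⟩
    · intro hn
      exact mem_centralizer_rel_of_mem N P hCN (n : G) hn
  rw [hCeq, Subgroup.relIndex_subgroupOf hTN] at hrankc
  refine ⟨hrankc.trans hrankB.symm, ?_⟩
  rw [hrankB]
  exact he13

/-- a block with a Klein four defect group and its Brauer correspondent have the same number
of irreducible Brauer characters, namely `1` or `3` -/
theorem klein_blockRank_correspondent (hM : Cfsg.IsPModular 2 M)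
    (B : Set (Cfsg.IrrCharacter G)) (hB : Cfsg.IsPBlock M B) (P : Subgroup G)
    (hPD : Cfsg.IsDefectGroup 2 M B P) (hV : IsKleinFour P)
    (c : Set (Cfsg.IrrCharacter (Subgroup.normalizer (P : Set G))))
    (hcD : Cfsg.IsDefectGroup 2 M c (P.subgroupOf (Subgroup.normalizer (P : Set G))))
    (hc : Cfsg.IsInducedBlock M (Subgroup.normalizer (P : Set G)) c B) :
    Cfsg.blockRank 2 c = Cfsg.blockRank 2 B ∧
      (Cfsg.blockRank 2 B = 1 ∨ Cfsg.blockRank 2 B = 3) :=
  klein_blockRank_correspondent_aux hM B hB P hPD hV _ rfl c hcD hc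

end matchrank

end Cfsg.Agent.Lib.Helper6
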