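import Mathlib
import Cfsg.Agent.Lib.Helper6.KpMatch
import Cfsg.Agent.Lib.Helper6.KpIso
import Cfsg.Agent.Lib.Helper6.KpIso2

set_option autoImplicit false
set_option linter.unusedSectionVars false
set_option linter.style.haveILetI false
open Cfsg

namespace Cfsg.Agent.Lib.Helper6

open scoped ComplexConjugate

section final

variable {G : Type*} [Group G] [Fintype G] [DecidableEq G]
variable {M : Ideal Cfsg.AlgInt}

/-- in a block of four characters with defect group of order four and a single Brauer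
character, all characters agree on the `2`-regular elements, and sign vectors orthogonal to
the values on regular elements are balanced -/
theorem rank_one_regular_data (hM : Cfsg.IsPModular 2 M) (B : Set (Cfsg.IrrCharacter G))
    (hB : Cfsg.IsPBlock M B) (P : Subgroup G) (hPD : Cfsg.IsDefectGroup 2 M B P)
    (hP4 : Nat.card P = 4) (hB4 : Nat.card B = 4) (hl : Cfsg.blockRank 2 B = 1)
    {n : ℕ} (h : Fin n → Cfsg.IrrCharacter G → ℤ)
    (hreg : ∀ i, ∀ g : G, ¬ 2 ∣ orderOf g →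
      ∑ᶠ χ ∈ B, ((h i χ : ℤ) : ℂ) * (χ : G → ℂ) g = 0) :
    ∃ φ₀ : G → ℂ, (∀ χ ∈ B, ∀ g : G, ¬ 2 ∣ orderOf g → (χ : G → ℂ) g = φ₀ g) ∧
      ∀ i, ∑ᶠ χ ∈ B, h i χ = 0 := by
  classical
  haveI : Fact (Nat.Prime 2) := ⟨Nat.prime_two⟩
  haveI : Fintype (Cfsg.IrrCharacter G) := Fintype.ofFinite _
  obtain ⟨φ, d, -, hd, hsum⟩ := Cfsg.Agent.S4675.result 2 M hM B hB P hPD hl
  rw [finsum_mem_eq_sum_filter_lib, hP4] at hsum
  have hcardS : (Finset.univ.filter (· ∈ B)).card = 4 := by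
    rw [← hB4, Nat.card_eq_fintype_card, Fintype.card_subtype]
  have h1reg : ¬ 2 ∣ orderOf (1 : G) := by
    rw [orderOf_one]
    norm_num
  have hdeg : ∀ χ : Cfsg.IrrCharacter G, (χ : G → ℂ) 1 ≠ 0 := by
    intro χ
    rw [IsCharacter.apply_one_eq_charDegree (IsIrrCharacter.isCharacter χ.2)]
    exact_mod_cast (IsIrrCharacter.charDegree_pos χ.2).ne'
  have hdpos : ∀ χ ∈ Finset.univ.filter (· ∈ B), 1 ≤ d χ ^ 2 := by
    intro χ hχ
    have hχB := (Finset.mem_filter.mp hχ).2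
    have h1 := hd χ hχB 1 h1reg
    have h2 : d χ ≠ 0 := by
      intro h0
      rw [h0, Nat.cast_zero, zero_mul] at h1
      exact hdeg χ h1
    exact Nat.one_le_pow _ _ (Nat.pos_of_ne_zero h2)
  have hd1 : ∀ χ ∈ B, d χ = 1 := by
    intro χ hχ
    have hχS : χ ∈ Finset.univ.filter (· ∈ B) := Finset.mem_filter.mpr ⟨Finset.mem_univ _, hχ⟩
    have h1 : ∑ χ ∈ Finset.univ.filter (· ∈ B), (1 : ℕ) = ∑ χ ∈ Finset.univ.filter (· ∈ B), d χ ^ 2 := by
      rw [hsum, Finset.sum_const, hcardS]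
      rfl
    have h2 := (Finset.sum_eq_sum_iff_of_le hdpos).mp h1 χ hχS
    have h3 : d χ ^ 2 = 1 := h2.symm
    rcases Nat.pow_eq_one.mp h3 with h4 | h4
    · exact h4
    · omega
  have hregv : ∀ χ ∈ B, ∀ g : G, ¬ 2 ∣ orderOf g → (χ : G → ℂ) g = φ g := by
    intro χ hχ g hg
    rw [hd χ hχ g hg, hd1 χ hχ, Nat.cast_one, one_mul]
  refine ⟨φ, hregv, ?_⟩
  intro i
  have hBne : B.Nonempty := by
    by_contra hcon
    rw [Set.not_nonempty_iff_eq_empty] at hcon
    rw [hcon] at hB4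
    simp at hB4
  obtain ⟨χ₀, hχ₀⟩ := hBne
  have hφ1 : φ 1 ≠ 0 := by
    rw [← hregv χ₀ hχ₀ 1 h1reg]
    exact hdeg χ₀
  have h0 := hreg i 1 h1reg
  rw [finsum_mem_eq_sum_filter_lib] at h0 ⊢
  have h2 : ∑ χ ∈ Finset.univ.filter (· ∈ B), ((h i χ : ℤ) : ℂ) * (χ : G → ℂ) 1
      = (∑ χ ∈ Finset.univ.filter (· ∈ B), ((h i χ : ℤ) : ℂ)) * φ 1 := by
    rw [Finset.sum_mul]
    apply Finset.sum_congr rfl
    intro χ hχ
    rw [hregv χ (Finset.mem_filter.mp hχ).2 1 h1reg]
  rw [h2] at h0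
  have h3 : ∑ χ ∈ Finset.univ.filter (· ∈ B), ((h i χ : ℤ) : ℂ) = 0 :=
    (mul_eq_zero.mp h0).resolve_right hφ1
  exact_mod_cast h3

/-- **Klein four defect groups**: a block and its Brauer correspondent are perfectly
isometric -/
theorem klein_perfect_isometry (hM : Cfsg.IsPModular 2 M) (B : Set (Cfsg.IrrCharacter G))
    (hB : Cfsg.IsPBlock M B) (P : Subgroup G) (hPD : Cfsg.IsDefectGroup 2 M B P)
    (hV : IsKleinFour P)
    (c : Set (Cfsg.IrrCharacter (Subgroup.normalizer (P : Set G))))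
    (hcD : Cfsg.IsDefectGroup 2 M c (P.subgroupOf (Subgroup.normalizer (P : Set G))))
    (hc : Cfsg.IsInducedBlock M (Subgroup.normalizer (P : Set G)) c B) :
    ∃ (I : Cfsg.IrrCharacter (Subgroup.normalizer (P : Set G)) → Cfsg.IrrCharacter G)
      (ε : Cfsg.IrrCharacter (Subgroup.normalizer (P : Set G)) → ℤ),
      Cfsg.IsPerfectIsometry 2 M c B I ε := by
  classical
  haveI : Fact (Nat.Prime 2) := ⟨Nat.prime_two⟩
  haveI : Fintype ↥(Subgroup.normalizer (P : Set G)) := Fintype.ofFinite _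
  obtain ⟨hrank, hr13⟩ := klein_blockRank_correspondent hM B hB P hPD hV c hcD hc
  obtain ⟨n, h, f, hn, hB4, hdefB, hpm, horth, hreg, hsing, hint⟩ :=
    klein_structure hM B hB P hPD hV
  have hPN : P ≤ Subgroup.normalizer (P : Set G) := Subgroup.le_normalizer
  haveI := hV
  have hV' : IsKleinFour ↥(P.subgroupOf (Subgroup.normalizer (P : Set G))) :=
    isKleinFour_of_mulEquiv (Subgroup.subgroupOfEquivOfLe hPN).symm
  obtain ⟨n', h', f', hn', hc4, hdefc, hpm', horth', hreg', hsing', hint'⟩ :=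
    klein_structure hM c hc.1 (P.subgroupOf (Subgroup.normalizer (P : Set G))) hcD hV'
  have hP4 : Nat.card P = 4 := IsKleinFour.card_four
  have hP4' : Nat.card ↥(P.subgroupOf (Subgroup.normalizer (P : Set G))) = 4 :=
    IsKleinFour.card_four
  rcases hr13 with h1 | h3
  · have hn3 : n = 3 := by omega
    have hn3' : n' = 3 := by omega
    subst hn3
    subst hn3'
    obtain ⟨φ₀, hregv, hbal⟩ := rank_one_regular_data hM B hB P hPD hP4 hB4 h1 h hreg
    obtain ⟨φ₀', hregv', hbal'⟩ := rank_one_regular_data hM c hc.1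
      (P.subgroupOf (Subgroup.normalizer (P : Set G))) hcD hP4' hc4 (hrank.trans h1) h' hreg'
    exact perfect_of_hadamard_data hM B c hB4 hc4 hdefB hdefc h f φ₀ h' f' φ₀' hpm hpm' horth
      horth' hbal hbal' hregv hregv' hsing hsing' hint hint'
  · have hn1 : n = 1 := by omega
    have hn1' : n' = 1 := by omega
    subst hn1
    subst hn1'
    refine perfect_of_sign_data hM B c (hc4.trans hB4.symm) hB4 (h 0) (f 0) (h' 0) (f' 0)
      (hpm 0) (hpm' 0) (hreg 0) (hreg' 0) ?_ ?_ (hint 0) (hint' 0)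
    · intro χ hχ g hg
      rw [hsing χ hχ g hg, Fin.sum_univ_one]
    · intro η hη g hg
      rw [hsing' η hη g hg, Fin.sum_univ_one]

end final

end Cfsg.Agent.Lib.Helper6
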