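import Mathlib
import Cfsg.Agent.Lib.Helper6.TwistLocal
import Cfsg.Agent.Lib.Helper6.BrauerGlobal
import Cfsg.Agent.Lib.Helper6.ElemProps
import Cfsg.Agent.Lib.Helper6.GenChar
import Cfsg.Agent.Lib.Helper6.GenCharOps
import Cfsg.Agent.Lib.Helper6.CharOps

set_option autoImplicit false
set_option linter.unusedSectionVars false

namespace Cfsg.Agent.Lib.Helper6

open scoped ComplexConjugate

section

variable {G : Type*} [Group G] [Fintype G]

open Classical in
/-- the indicator function of the `p`-elements, scaled by `c` -/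
noncomputable def pElemInd (p : ℕ) (c : ℂ) (g : G) : ℂ :=
  if (∃ k : ℕ, orderOf g = p ^ k) then c else 0

theorem pElemInd_isClassFunction (p : ℕ) (c : ℂ) : Cfsg.IsClassFunction G (pElemInd p c) := by
  intro g h
  have h1 : orderOf (h * g * h⁻¹) = orderOf g := by
    have := (MulAut.conj h).orderOf_eq g
    rwa [MulAut.conj_apply] at this
  unfold pElemInd
  rw [h1]

theorem pElemInd_inv (p : ℕ) (c : ℂ) (g : G) : pElemInd p c g⁻¹ = pElemInd p c g := by
  unfold pElemInd
  rw [orderOf_inv]

/-- in a nilpotent group the `p`-elements are the members of the Sylow `p`-subgroup -/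
theorem pElem_iff_mem_sylow {E : Type*} [Group E] [Finite E] [Group.IsNilpotent E] (p : ℕ)
    [Fact p.Prime] (P₀ : Sylow p E) (e : E) :
    (∃ k : ℕ, orderOf e = p ^ k) ↔ e ∈ (P₀ : Subgroup E) := by
  have hp : p.Prime := Fact.out
  have hP₀n : (P₀ : Subgroup E).Normal := inferInstance
  constructor
  · rintro ⟨k, hk⟩
    have hpg : IsPGroup p (Subgroup.zpowers e) := by
      apply IsPGroup.of_card (n := k)
      rw [Nat.card_zpowers, hk]
    obtain ⟨Q, hQ⟩ := hpg.exists_le_sylow
    obtain ⟨c, hc⟩ := MulAction.exists_smul_eq E P₀ Q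
    rw [Sylow.smul_eq_of_normal] at hc
    rw [hc]
    exact hQ (Subgroup.mem_zpowers e)
  · intro he
    have h1 := (IsPGroup.iff_orderOf.mp P₀.isPGroup') ⟨e, he⟩
    obtain ⟨k, hk⟩ := h1
    refine ⟨k, ?_⟩
    rw [← hk, Subgroup.orderOf_mk]

/-- the restriction of the scaled indicator to a nilpotent subgroup is a character -/
theorem pElemInd_restrict (p : ℕ) [Fact p.Prime] (E : Subgroup G) [Group.IsNilpotent E] :
    Cfsg.IsCharacter E (fun e : E => pElemInd p ((Nat.card G / p ^ (Nat.card G).factorization p : ℕ) : ℂ) (e : G)) := by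
  classical
  have hp : p.Prime := Fact.out
  haveI : Fintype E := Fintype.ofFinite E
  obtain ⟨P₀⟩ := (inferInstance : Nonempty (Sylow p E))
  have hP₀n : (P₀ : Subgroup E).Normal := inferInstance
  obtain ⟨f, hf⟩ : ∃ f : E → ℂ, f = fun e => if e ∈ (P₀ : Subgroup E) then 1 else 0 := ⟨_, rfl⟩
  have hfcf : Cfsg.IsClassFunction E f := by
    intro g h
    rw [hf]
    simp only
    have : h * g * h⁻¹ ∈ (P₀ : Subgroup E) ↔ g ∈ (P₀ : Subgroup E) := by
      constructor
      · intro hh
        have := hP₀n.conj_mem _ hh h⁻¹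
        simpa [mul_assoc] using this
      · intro hh
        exact hP₀n.conj_mem _ hh h
    simp only [this]
  have hf0 : ∀ u : E, u ∉ (P₀ : Subgroup E) → f u = 0 := by
    intro u hu
    rw [hf]
    simp only [if_neg hu]
  have hfN : Cfsg.IsCharacter (P₀ : Subgroup E) (fun n : (P₀ : Subgroup E) => f n) := by
    have : (fun n : (P₀ : Subgroup E) => f n) = fun _ => (1 : ℂ) := by
      funext n
      rw [hf]
      simp only [if_pos n.2]
    rw [this]
    exact isCharacter_one
  have hch := isCharacter_index_mul_of_supported (P₀ : Subgroup E) hfcf hf0 hfN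
  -- the index
  have hG0 : Nat.card G ≠ 0 := Nat.card_pos.ne'
  have hE0 : Nat.card E ≠ 0 := Nat.card_pos.ne'
  have hidx : (P₀ : Subgroup E).index = Nat.card E / p ^ (Nat.card E).factorization p := by
    have h1 := (P₀ : Subgroup E).card_mul_index
    rw [Sylow.card_eq_multiplicity] at h1
    exact (Nat.div_eq_of_eq_mul_right (pow_pos hp.pos _) h1.symm).symm
  have hdvd : (P₀ : Subgroup E).index ∣ Nat.card G / p ^ (Nat.card G).factorization p := by
    rw [hidx]
    exact Nat.ordCompl_dvd_ordCompl_of_dvd (Subgroup.card_subgroup_dvd_card E) p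
  obtain ⟨t, ht⟩ := hdvd
  have heq : (fun e : E => pElemInd p ((Nat.card G / p ^ (Nat.card G).factorization p : ℕ) : ℂ) (e : G))
      = t • (fun u : E => ((P₀ : Subgroup E).index : ℂ) * f u) := by
    funext e
    rw [Pi.smul_apply, nsmul_eq_mul, ht, hf]
    unfold pElemInd
    have hmem := pElem_iff_mem_sylow p P₀ e
    rw [Subgroup.orderOf_coe] 
    by_cases he : e ∈ (P₀ : Subgroup E)
    · rw [if_pos (hmem.mpr he)]
      simp only [if_pos he]
      push_cast
      ring
    · rw [if_neg (fun h => he (hmem.mp h))]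
      simp only [if_neg he]
      ring
  rw [heq]
  exact IsCharacter.nsmul hch t

/-- `|G|_{p'}` times the indicator of the `p`-elements is a generalized character -/
theorem pElemInd_isGeneralizedCharacter (p : ℕ) [Fact p.Prime] :
    Cfsg.IsGeneralizedCharacter G
      (pElemInd p ((Nat.card G / p ^ (Nat.card G).factorization p : ℕ) : ℂ)) := by
  apply isGeneralizedCharacter_of_restrict (pElemInd_isClassFunction p _)
  rintro E ⟨q, hq, hEq⟩
  have hnil : Group.IsNilpotent E := IsElementary.isNilpotent hq hEq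
  exact IsCharacter.isGeneralizedCharacter (pElemInd_restrict p E)

/-- the sum of an irreducible character over the `p`-elements is divisible by `|G|_p` -/
theorem exists_int_sum_pElem (p : ℕ) [Fact p.Prime] (χ : Cfsg.IrrCharacter G) :
    ∃ m : ℤ, ∑ g : G, pElemInd p 1 g * (χ : G → ℂ) g
      = ((p ^ (Nat.card G).factorization p : ℕ) : ℂ) * (m : ℂ) := by
  classical
  have hp : p.Prime := Fact.out
  haveI : Fintype (Cfsg.IrrCharacter G) := Fintype.ofFinite _
  obtain ⟨c, -, hc⟩ := IsGeneralizedCharacter.exists_int_coeff (pElemInd_isGeneralizedCharacter (G := G) p)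
  have h1 := hc χ
  refine ⟨c χ, ?_⟩
  unfold Cfsg.classInner at h1
  have hG0 : Nat.card G ≠ 0 := Nat.card_pos.ne'
  have hGc : (Nat.card G : ℂ) ≠ 0 := by exact_mod_cast hG0
  have hsplit : Nat.card G = p ^ (Nat.card G).factorization p * (Nat.card G / p ^ (Nat.card G).factorization p) :=
    (Nat.ordProj_mul_ordCompl_eq_self (Nat.card G) p).symm
  obtain ⟨b, hb⟩ : ∃ b : ℕ, b = Nat.card G / p ^ (Nat.card G).factorization p := ⟨_, rfl⟩
  rw [← hb] at hsplit h1
  obtain ⟨a, ha⟩ : ∃ a : ℕ, a = p ^ (Nat.card G).factorization p := ⟨_, rfl⟩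
  rw [← ha] at hsplit
  rw [← ha]
  have hb0 : (b : ℂ) ≠ 0 := by
    intro h
    have : b = 0 := by exact_mod_cast h
    rw [this, mul_zero] at hsplit
    exact hG0 hsplit
  -- conjugate the identity
  have h2 : ∑ g : G, pElemInd p (b : ℂ) g * conj ((χ : G → ℂ) g) = (Nat.card G : ℂ) * (c χ : ℂ) := by
    rw [← h1, ← mul_assoc, mul_inv_cancel₀ hGc, one_mul]
  have h3 : ∑ g : G, pElemInd p (b : ℂ) g * conj ((χ : G → ℂ) g)
      = (b : ℂ) * conj (∑ g : G, pElemInd p 1 g * (χ : G → ℂ) g) := by
    rw [map_sum, Finset.mul_sum]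
    apply Finset.sum_congr rfl
    intro g _
    unfold pElemInd
    split_ifs
    · simp
    · simp
  rw [h3, hsplit] at h2
  push_cast at h2
  have h4 : conj (∑ g : G, pElemInd p 1 g * (χ : G → ℂ) g) = (a : ℂ) * (c χ : ℂ) := by
    apply mul_left_cancel₀ hb0
    rw [h2]
    ring
  have h5 := congrArg conj h4
  rw [Complex.conj_conj] at h5
  rw [h5]
  simp

end

end Cfsg.Agent.Lib.Helper6
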