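import Mathlib
import Cfsg.Prelude.Def_Blocks
import Cfsg.Agent.Lib.Helper6.KulInd
import Cfsg.Agent.Lib.Helper6.BlkCenter
import Cfsg.Agent.Lib.Helper6.BlkOrth2
import Cfsg.Agent.Lib.Helper6.BlkOrth3
import Cfsg.Agent.Lib.Helper6.BlkPrincipal
import Cfsg.Agent.Lib.Helper6.ClassFun
import Cfsg.Agent.Lib.Helper6.Auto
import Cfsg.Agent.Lib.Helper6.BlkDefect

set_option autoImplicit false
set_option linter.unusedSectionVars false
open Cfsg

namespace Cfsg.Agent.Lib.Helper6

open scoped ComplexConjugate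

section

variable {G : Type*} [Group G] [Fintype G] [DecidableEq G]
variable {p : ℕ} {M : Ideal Cfsg.AlgInt}

open Classical in
/-- the indicator function of the `p`-regular elements -/
noncomputable def pRegInd (p : ℕ) (g : G) : ℂ := if ¬ p ∣ orderOf g then 1 else 0

theorem pRegInd_isClassFunction (p : ℕ) : Cfsg.IsClassFunction G (pRegInd p) := by
  intro g h
  have h1 : orderOf (h * g * h⁻¹) = orderOf g := by
    have := (MulAut.conj h).orderOf_eq g
    rwa [MulAut.conj_apply] at this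
  unfold pRegInd
  rw [h1]

theorem pRegInd_memLocalRing (hM : Cfsg.IsPModular p M) (g : G) :
    Cfsg.MemLocalRing M (pRegInd p g) := by
  unfold pRegInd
  split_ifs
  · exact memLocalRing_zero hM
  · exact memLocalRing_one hM

theorem conj_pRegInd (g : G) : conj (pRegInd p g) = pRegInd p g := by
  unfold pRegInd
  split_ifs <;> simp

theorem conj_pElemInd_one (g : G) : conj (pElemInd p 1 g) = pElemInd p 1 g := by
  unfold pElemInd
  split_ifs <;> simp

/-- the sum of a non-principal-block character over the `p`-regular elements vanishes -/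
theorem sum_pRegInd_mul_of_not_mem (hM : Cfsg.IsPModular p M) (ψ : Cfsg.IrrCharacter G)
    (hψ : ψ ∉ Cfsg.principalBlock M G) : ∑ y : G, pRegInd p y * (ψ : G → ℂ) y = 0 := by
  classical
  haveI : Fintype (Cfsg.IrrCharacter G) := Fintype.ofFinite _
  have h1 : oneIrr G ∉ Cfsg.blockOf M (ψ : G → ℂ) := by
    intro h
    apply hψ
    exact SameBlock.symm' h
  have h2 := sum_pRegular_eq_zero_of_not_mem_block hM ψ (oneIrr G) h1 ψ (sameBlock_refl hM _)
  rw [← h2, Finset.sum_filter]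
  apply Finset.sum_congr rfl
  intro y _
  have h3 : ((oneIrr G : Cfsg.IrrCharacter G) : G → ℂ) y = 1 := rfl
  unfold pRegInd
  rw [h3]
  split_ifs <;> simp

/-- central character of the `p`-regular sum on the principal block -/
theorem sum_pRegInd_div_sub (hM : Cfsg.IsPModular p M) (χ : Cfsg.IrrCharacter G)
    (hχ : χ ∈ Cfsg.principalBlock M G) :
    Cfsg.MemLocalIdeal M ((∑ y : G, pRegInd p y * (χ : G → ℂ) y) / (χ : G → ℂ) 1
      - ∑ y : G, pRegInd p y) := by
  have hX : regMat (pRegInd (G := G) p) ∈ centerAlg G := regMat_mem_centerAlg (pRegInd_isClassFunction p)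
  have hXs : regMat (pRegInd (G := G) p) ∈ sMat hM G := regMat_mem_sMat hM (pRegInd_memLocalRing hM)
  have h1 := cOmega_sub_memLocalIdeal hM χ.2 (isIrrCharacter_one (G := G)) (SameBlock.symm' hχ) hX hXs
  rw [cOmega_regMat, cOmega_regMat] at h1
  simpa using h1

end

section main

variable {G : Type*} [Group G] [Fintype G] [DecidableEq G]
variable {p : ℕ} {M : Ideal Cfsg.AlgInt}

/-- the twisted sum of a character over `p`-elements is real -/
theorem conj_sum_pElemInd (χ : Cfsg.IrrCharacter G) :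
    conj (∑ x : G, pElemInd p 1 x * (χ : G → ℂ) x) = ∑ x : G, pElemInd p 1 x * (χ : G → ℂ) x := by
  rw [map_sum]
  rw [← Equiv.sum_comp (Equiv.inv G) (fun x => pElemInd p 1 x * (χ : G → ℂ) x)]
  apply Finset.sum_congr rfl
  intro x _
  simp only [Equiv.inv_apply]
  rw [map_mul, conj_pElemInd_one, pElemInd_inv,
    IsCharacter.apply_inv (IsIrrCharacter.isCharacter χ.2)]

/-- counting formula for the products of `p`-elements and `p`-regular elements -/
theorem count_formula [Fintype (Cfsg.IrrCharacter G)] (g : G) :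
    ∑ x : G, pElemInd p 1 x * pRegInd p (x⁻¹ * g)
      = (Nat.card G : ℂ)⁻¹ * ∑ ψ : Cfsg.IrrCharacter G,
          (∑ y : G, pRegInd p y * (ψ : G → ℂ) y) / (ψ : G → ℂ) 1
            * (∑ x : G, pElemInd p 1 x * (ψ : G → ℂ) x) * conj ((ψ : G → ℂ) g) := by
  classical
  have hexp := classFunction_eq_sum (pRegInd (G := G) p) (pRegInd_isClassFunction p)
  have hv : ∀ z : G, pRegInd p z
      = ∑ ψ : Cfsg.IrrCharacter G, Cfsg.classInner (pRegInd (G := G) p) (ψ : G → ℂ) * (ψ : G → ℂ) z := by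
    intro z
    conv_lhs => rw [hexp]
    simp [Finset.sum_apply]
  have hshift : ∀ ψ : Cfsg.IrrCharacter G, ∑ x : G, pElemInd p 1 x * (ψ : G → ℂ) (x⁻¹ * g)
      = (∑ x : G, pElemInd p 1 x * (ψ : G → ℂ) x) * (ψ : G → ℂ) g / (ψ : G → ℂ) 1 := by
    intro ψ
    rw [← sum_classFunction_mul_shift ψ.2 (pElemInd_isClassFunction p 1) g]
    rw [← Equiv.sum_comp (Equiv.inv G) (fun x => pElemInd p 1 x * (ψ : G → ℂ) (x * g))]
    apply Finset.sum_congr rfl
    intro x _
    simp only [Equiv.inv_apply]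
    rw [pElemInd_inv]
  -- first form
  have h1 : ∑ x : G, pElemInd p 1 x * pRegInd p (x⁻¹ * g)
      = ∑ ψ : Cfsg.IrrCharacter G, Cfsg.classInner (pRegInd (G := G) p) (ψ : G → ℂ)
          * ((∑ x : G, pElemInd p 1 x * (ψ : G → ℂ) x) * (ψ : G → ℂ) g / (ψ : G → ℂ) 1) := by
    have : ∀ x : G, pElemInd p 1 x * pRegInd p (x⁻¹ * g)
        = ∑ ψ : Cfsg.IrrCharacter G, Cfsg.classInner (pRegInd (G := G) p) (ψ : G → ℂ)
            * (pElemInd p 1 x * (ψ : G → ℂ) (x⁻¹ * g)) := by
      intro x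
      rw [hv (x⁻¹ * g), Finset.mul_sum]
      apply Finset.sum_congr rfl
      intro ψ _
      ring
    simp_rw [this]
    rw [Finset.sum_comm]
    apply Finset.sum_congr rfl
    intro ψ _
    rw [← Finset.mul_sum, hshift ψ]
  -- conjugate
  have hreal : conj (∑ x : G, pElemInd p 1 x * pRegInd p (x⁻¹ * g))
      = ∑ x : G, pElemInd p 1 x * pRegInd p (x⁻¹ * g) := by
    rw [map_sum]
    apply Finset.sum_congr rfl
    intro x _
    rw [map_mul, conj_pElemInd_one, conj_pRegInd]
  rw [← hreal, h1, map_sum, Finset.mul_sum]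
  apply Finset.sum_congr rfl
  intro ψ _
  rw [map_mul, map_div₀, map_mul, conj_sum_pElemInd, IsIrrCharacter.conj_apply_one ψ.2]
  unfold Cfsg.classInner
  rw [map_mul, map_inv₀, Complex.conj_natCast, map_sum]
  have : ∑ y : G, conj (pRegInd p y * conj ((ψ : G → ℂ) y)) = ∑ y : G, pRegInd p y * (ψ : G → ℂ) y := by
    apply Finset.sum_congr rfl
    intro y _
    rw [map_mul, conj_pRegInd, Complex.conj_conj]
  rw [this]
  ring

/-- the principal block idempotent on `p`-regular elements through the `p`-element sums -/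
theorem card_mul_blockCoeff_principal (hM : Cfsg.IsPModular p M)
    (s : Finset (Cfsg.IrrCharacter G)) (hs : ∀ χ, χ ∈ s ↔ χ ∈ Cfsg.principalBlock M G)
    (g : G) (hg : ¬ p ∣ orderOf g) :
    (Nat.card G : ℂ) * Cfsg.blockCoeff (Cfsg.principalBlock M G) g
      = ∑ χ ∈ s, (∑ x : G, pElemInd p 1 x * (χ : G → ℂ) x) * conj ((χ : G → ℂ) g) := by
  classical
  have hp : p.Prime := hM.1
  have hGc : (Nat.card G : ℂ) ≠ 0 := card_ne_zero_complex G
  have hset : Cfsg.principalBlock M G = (s : Set (Cfsg.IrrCharacter G)) := by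
    ext χ
    rw [Finset.mem_coe, hs]
  have hfin : ∀ f : Cfsg.IrrCharacter G → ℂ,
      ∑ᶠ χ ∈ Cfsg.principalBlock M G, f χ = ∑ χ ∈ s, f χ := by
    intro f
    rw [hset, finsum_mem_coe_finset]
  have h1 : ∀ χ : Cfsg.IrrCharacter G,
      (∑ x : G, pElemInd p 1 x * (χ : G → ℂ) x) * conj ((χ : G → ℂ) g)
        = ∑ x : G, pElemInd p 1 x * ((χ : G → ℂ) x * conj ((χ : G → ℂ) g)) := by
    intro χ
    rw [Finset.sum_mul]
    apply Finset.sum_congr rfl
    intro x _
    ring
  have hL : (Nat.card G : ℂ) * Cfsg.blockCoeff (Cfsg.principalBlock M G) g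
      = ∑ χ ∈ s, (χ : G → ℂ) 1 * conj ((χ : G → ℂ) g) := by
    unfold Cfsg.blockCoeff
    rw [← mul_assoc, mul_inv_cancel₀ hGc, one_mul, hfin]
  rw [hL]
  simp_rw [h1]
  rw [Finset.sum_comm]
  simp_rw [← Finset.mul_sum]
  rw [Finset.sum_eq_single (1 : G)]
  · have h1 : pElemInd (G := G) p 1 1 = 1 := by
      unfold pElemInd
      rw [if_pos ⟨0, by simp⟩]
    rw [h1, one_mul]
  · intro x _ hx1
    by_cases hx : ∃ k : ℕ, orderOf x = p ^ k
    · obtain ⟨k, hk⟩ := hx
      have hk0 : k ≠ 0 := by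
        rintro rfl
        rw [pow_zero] at hk
        exact hx1 (orderOf_eq_one_iff.mp hk)
      have hpx : p ∣ orderOf x := by
        rw [hk]
        exact dvd_pow_self p hk0
      have h2 := weak_block_orthogonality hM (oneIrr G) g x hg hpx
      rw [← principalBlock_eq, hfin] at h2
      have h3 := congrArg conj h2
      rw [map_sum, map_zero] at h3
      have h4 : ∑ χ ∈ s, (χ : G → ℂ) x * conj ((χ : G → ℂ) g) = 0 := by
        rw [← h3]
        apply Finset.sum_congr rfl
        intro χ _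
        rw [map_mul, Complex.conj_conj]
        ring
      rw [h4, mul_zero]
    · unfold pElemInd
      rw [if_neg hx, zero_mul]
  · intro h
    exact absurd (Finset.mem_univ _) h

/-- the main congruence before division -/
theorem kulshammer_key (hM : Cfsg.IsPModular p M) [Fact p.Prime] (g : G) (hg : ¬ p ∣ orderOf g) :
    Cfsg.MemLocalIdeal M (∑ x : G, pElemInd p 1 x * pRegInd p (x⁻¹ * g)
      - (∑ y : G, pRegInd p y) * Cfsg.blockCoeff (Cfsg.principalBlock M G) g) := by
  classical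
  haveI : Fintype (Cfsg.IrrCharacter G) := Fintype.ofFinite _
  have hp : p.Prime := hM.1
  have hGc : (Nat.card G : ℂ) ≠ 0 := card_ne_zero_complex G
  have hG0 : Nat.card G ≠ 0 := Nat.card_pos.ne'
  obtain ⟨B, hB⟩ : ∃ B : Set (Cfsg.IrrCharacter G), B = Cfsg.principalBlock M G := ⟨_, rfl⟩
  obtain ⟨Rc, hRc⟩ : ∃ Rc : ℂ, Rc = ∑ y : G, pRegInd p y := ⟨_, rfl⟩
  obtain ⟨A, hA⟩ : ∃ A : Cfsg.IrrCharacter G → ℂ,
      A = fun χ : Cfsg.IrrCharacter G => ∑ x : G, pElemInd p 1 x * (χ : G → ℂ) x := ⟨_, rfl⟩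
  obtain ⟨Rr, hRr⟩ : ∃ Rr : Cfsg.IrrCharacter G → ℂ,
      Rr = fun χ : Cfsg.IrrCharacter G => ∑ y : G, pRegInd p y * (χ : G → ℂ) y := ⟨_, rfl⟩
  have hcount := count_formula (p := p) g
  have hblock := card_mul_blockCoeff_principal hM (Finset.univ.filter (· ∈ B))
    (fun χ => by rw [Finset.mem_filter, hB]; simp) g hg
  rw [← hB] at hblock ⊢
  rw [← hRc]
  have hAχ : ∀ χ : Cfsg.IrrCharacter G, ∑ x : G, pElemInd p 1 x * (χ : G → ℂ) x = A χ := by
    intro χ; rw [hA]
  have hRrχ : ∀ χ : Cfsg.IrrCharacter G, ∑ y : G, pRegInd p y * (χ : G → ℂ) y = Rr χ := by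
    intro χ; rw [hRr]
  simp_rw [hAχ, hRrχ] at hcount
  simp_rw [hAχ] at hblock
  -- restrict the count formula to the principal block
  have hcount2 : ∑ x : G, pElemInd p 1 x * pRegInd p (x⁻¹ * g)
      = (Nat.card G : ℂ)⁻¹ * ∑ χ ∈ Finset.univ.filter (· ∈ B),
          Rr χ / (χ : G → ℂ) 1 * A χ * conj ((χ : G → ℂ) g) := by
    rw [hcount]
    congr 1
    rw [Finset.sum_filter]
    apply Finset.sum_congr rfl
    intro ψ _
    split_ifs with hψ
    · rfl
    · have : Rr ψ = 0 := by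
        rw [← hRrχ]
        apply sum_pRegInd_mul_of_not_mem hM ψ
        rw [← hB]; exact hψ
      rw [this]
      ring
  have hblock2 : Rc * Cfsg.blockCoeff B g = (Nat.card G : ℂ)⁻¹ * ∑ χ ∈ Finset.univ.filter (· ∈ B),
      Rc * A χ * conj ((χ : G → ℂ) g) := by
    have : Cfsg.blockCoeff B g = (Nat.card G : ℂ)⁻¹ * ((Nat.card G : ℂ) * Cfsg.blockCoeff B g) := by
      rw [← mul_assoc, inv_mul_cancel₀ hGc, one_mul]
    rw [this, hblock, Finset.mul_sum, Finset.mul_sum, Finset.mul_sum]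
    apply Finset.sum_congr rfl
    intro χ _
    ring
  rw [hcount2, hblock2, ← mul_sub, ← Finset.sum_sub_distrib, Finset.mul_sum]
  apply MemLocalIdeal.sum hM
  intro χ hχ
  rw [Finset.mem_filter] at hχ
  have hχB : χ ∈ Cfsg.principalBlock M G := by rw [← hB]; exact hχ.2
  have h1 := sum_pRegInd_div_sub hM χ hχB
  rw [hRrχ, ← hRc] at h1
  obtain ⟨m, hm⟩ := exists_int_sum_pElem p χ
  rw [hAχ] at hm
  obtain ⟨a, ha⟩ : ∃ a : ℕ, a = p ^ (Nat.card G).factorization p := ⟨_, rfl⟩
  obtain ⟨b, hb⟩ : ∃ b : ℕ, b = Nat.card G / p ^ (Nat.card G).factorization p := ⟨_, rfl⟩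
  have hsplit : Nat.card G = a * b := by
    rw [ha, hb]
    exact (Nat.ordProj_mul_ordCompl_eq_self (Nat.card G) p).symm
  rw [← ha] at hm
  have hbp : ¬ p ∣ b := by
    rw [hb]
    exact Nat.not_dvd_ordCompl hp hG0
  have ha0 : (a : ℂ) ≠ 0 := by
    rw [ha]
    exact_mod_cast (pow_pos hp.pos _).ne'
  have hb0 : (b : ℂ) ≠ 0 := by
    intro h
    have : b = 0 := by exact_mod_cast h
    exact hbp (this ▸ dvd_zero p)
  have heq : (Nat.card G : ℂ)⁻¹ * (Rr χ / (χ : G → ℂ) 1 * A χ * conj ((χ : G → ℂ) g)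
      - Rc * A χ * conj ((χ : G → ℂ) g))
      = (Rr χ / (χ : G → ℂ) 1 - Rc) * ((m : ℂ) * conj ((χ : G → ℂ) g) * (b : ℂ)⁻¹) := by
    rw [hm, hsplit]
    push_cast
    field_simp
  rw [heq]
  apply MemLocalIdeal.mul_right hM h1
  apply MemLocalRing.mul hM
  · apply MemLocalRing.mul hM (memLocalRing_intCast hM m)
    apply memLocalRing_of_isIntegral hM
    exact isIntegral_conj (IsCharacter.isIntegral_apply (IsIrrCharacter.isCharacter χ.2) g)
  · exact memLocalRing_inv_natCast hM hbp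

/-- the count of `p`-regular elements as an indicator sum -/
theorem card_pRegular_eq_sum :
    (Nat.card {y : G // ¬ p ∣ orderOf y} : ℂ) = ∑ y : G, pRegInd p y := by
  classical
  rw [Nat.card_eq_fintype_card, Fintype.card_subtype, Finset.card_filter]
  push_cast
  apply Finset.sum_congr rfl
  intro y _
  unfold pRegInd
  split_ifs <;> simp

/-- the count of factorizations as an indicator sum -/
theorem card_factorizations_eq_sum (g : G) :
    (Nat.card {xy : G × G // (∃ k : ℕ, orderOf xy.1 = p ^ k) ∧ ¬ p ∣ orderOf xy.2 ∧ xy.1 * xy.2 = g} : ℂ)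
      = ∑ x : G, pElemInd p 1 x * pRegInd p (x⁻¹ * g) := by
  classical
  have e : {xy : G × G // (∃ k : ℕ, orderOf xy.1 = p ^ k) ∧ ¬ p ∣ orderOf xy.2 ∧ xy.1 * xy.2 = g}
      ≃ {x : G // (∃ k : ℕ, orderOf x = p ^ k) ∧ ¬ p ∣ orderOf (x⁻¹ * g)} :=
    { toFun := fun xy => ⟨xy.1.1, xy.2.1, by
        have h := xy.2.2.2
        have : xy.1.1⁻¹ * g = xy.1.2 := inv_mul_eq_of_eq_mul h.symm
        rw [this]; exact xy.2.2.1⟩
      invFun := fun x => ⟨(x.1, x.1⁻¹ * g), x.2.1, x.2.2, by group⟩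
      left_inv := by
        rintro ⟨⟨x, y⟩, h1, h2, h3⟩
        apply Subtype.ext
        simp only
        rw [← h3]
        congr 1
        group
      right_inv := by
        rintro ⟨x, h1, h2⟩
        rfl }
  rw [Nat.card_congr e, Nat.card_eq_fintype_card, Fintype.card_subtype, Finset.card_filter]
  push_cast
  apply Finset.sum_congr rfl
  intro x _
  unfold pElemInd pRegInd
  by_cases h1 : ∃ k : ℕ, orderOf x = p ^ k
  · by_cases h2 : p ∣ orderOf (x⁻¹ * g)
    · rw [if_pos h1, if_neg (not_not.mpr h2), if_neg (fun h => h.2 h2)]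
      simp
    · rw [if_pos h1, if_pos h2, if_pos ⟨h1, h2⟩]
      simp
  · rw [if_neg h1, if_neg (fun h => h1 h.1)]
    simp

/-- Külshammer's formula for the principal block idempotent. -/
theorem kulshammer_formula (hM : Cfsg.IsPModular p M) [Fact p.Prime] (g : G) (hg : ¬ p ∣ orderOf g) :
    Cfsg.MemLocalIdeal M (Cfsg.blockCoeff (Cfsg.principalBlock M G) g
      - (Nat.card {xy : G × G // (∃ k : ℕ, orderOf xy.1 = p ^ k) ∧ ¬ p ∣ orderOf xy.2 ∧
          xy.1 * xy.2 = g} : ℂ) / (Nat.card {y : G // ¬ p ∣ orderOf y} : ℂ)) := by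
  classical
  have hp : p.Prime := hM.1
  obtain ⟨R, hR⟩ : ∃ R : ℕ, R = Nat.card {y : G // ¬ p ∣ orderOf y} := ⟨_, rfl⟩
  have hRsum : (R : ℂ) = ∑ y : G, pRegInd p y := by rw [hR]; exact card_pRegular_eq_sum
  rw [card_factorizations_eq_sum, ← hR]
  -- the unit property
  have hunit : ¬ p ∣ R := by
    intro hdvd
    have h1 := kulshammer_key hM (1 : G) (by rw [orderOf_one]; exact hp.one_lt.ne' ∘ Nat.dvd_one.mp)
    have h2 : ∑ x : G, pElemInd p 1 x * pRegInd p (x⁻¹ * 1) = 1 := by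
      rw [Finset.sum_eq_single (1 : G)]
      · unfold pElemInd pRegInd
        rw [if_pos ⟨0, by simp⟩]
        have : ¬ p ∣ orderOf ((1 : G)⁻¹ * 1) := by
          rw [inv_one, one_mul, orderOf_one]
          exact hp.one_lt.ne' ∘ Nat.dvd_one.mp
        rw [if_pos this, one_mul]
      · intro x _ hx1
        by_cases hx : ∃ k : ℕ, orderOf x = p ^ k
        · obtain ⟨k, hk⟩ := hx
          have hk0 : k ≠ 0 := by
            rintro rfl
            rw [pow_zero] at hk
            exact hx1 (orderOf_eq_one_iff.mp hk)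
          have hpx : p ∣ orderOf (x⁻¹ * 1) := by
            rw [mul_one, orderOf_inv, hk]
            exact dvd_pow_self p hk0
          unfold pRegInd
          rw [if_neg (not_not.mpr hpx), mul_zero]
        · unfold pElemInd
          rw [if_neg hx, zero_mul]
      · intro h
        exact absurd (Finset.mem_univ _) h
    rw [h2, ← hRsum] at h1
    have h3 : Cfsg.MemLocalIdeal M ((R : ℂ) * Cfsg.blockCoeff (Cfsg.principalBlock M G) 1) := by
      apply MemLocalIdeal.mul_right hM ((memLocalIdeal_natCast_iff hM R).mpr hdvd)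
      rw [principalBlock_eq]
      exact blockCoeff_memLocalRing hM (oneIrr G) 1
    have h4 := MemLocalIdeal.add hM h1 h3
    rw [sub_add_cancel] at h4
    exact not_memLocalIdeal_one hM h4
  have hR0 : (R : ℂ) ≠ 0 := by
    intro h
    have : R = 0 := by exact_mod_cast h
    exact hunit (this ▸ dvd_zero p)
  have hkey := kulshammer_key hM g hg
  rw [← hRsum] at hkey
  have heq : Cfsg.blockCoeff (Cfsg.principalBlock M G) g
      - (∑ x : G, pElemInd p 1 x * pRegInd p (x⁻¹ * g)) / (R : ℂ)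
      = (-(R : ℂ)⁻¹) * (∑ x : G, pElemInd p 1 x * pRegInd p (x⁻¹ * g)
          - (R : ℂ) * Cfsg.blockCoeff (Cfsg.principalBlock M G) g) := by
    field_simp
    ring
  rw [heq]
  apply MemLocalIdeal.mul_left hM _ hkey
  exact MemLocalRing.neg (memLocalRing_inv_natCast hM hunit)

end main

end Cfsg.Agent.Lib.Helper6
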