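import Mathlib
import Cfsg.Agent.Lib.Helper8.L34Defs

/-!
# Farm L34 (S3154): unit UB1 `normalizer_A1`.
-/

set_option autoImplicit false

namespace Cfsg.Agent.Lib.Helper6.L34UB1

open Cfsg.Agent.Lib.Helper8.L34

variable {F : Type*} [Field F]

/-- the scalar matrix `d • 1` with `d ^ 3 = 1` as an element of `SL₃(F)` -/
def scal (d : F) (hd : d ^ 3 = 1) : Matrix.SpecialLinearGroup (Fin 3) F :=
  ⟨!![d, 0, 0; 0, d, 0; 0, 0, d], by rw [Matrix.det_fin_three]; simp; linear_combination hd⟩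

theorem scal_coe (d : F) (hd : d ^ 3 = 1) :
    ((scal d hd : Matrix.SpecialLinearGroup (Fin 3) F) : Matrix (Fin 3) (Fin 3) F) =
      !![d, 0, 0; 0, d, 0; 0, 0, d] := rfl

theorem scal_mem_center (d : F) (hd : d ^ 3 = 1) :
    scal d hd ∈ Subgroup.center (Matrix.SpecialLinearGroup (Fin 3) F) := by
  rw [Matrix.SpecialLinearGroup.mem_center_iff]
  refine ⟨d, by simpa using hd, ?_⟩
  ext i j
  fin_cases i <;> fin_cases j <;> simp [scal_coe, Matrix.scalar_apply]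

theorem pow_three_eq_one [Fintype F] (hF : Fintype.card F = 4) (a : F) (ha : a ≠ 0) : a ^ 3 = 1 := by
  have := FiniteField.pow_card_sub_one_eq_one a ha
  rwa [hF] at this

/-- entry formula for a product of `3 × 3` matrices -/
theorem mul3 (X Y : Matrix (Fin 3) (Fin 3) F) (i j : Fin 3) :
    (X * Y) i j = X i 0 * Y 0 j + X i 1 * Y 1 j + X i 2 * Y 2 j := by
  rw [Matrix.mul_apply, Fin.sum_univ_three]

/-- elements of the normalizer of `A1` have third row `(0, 0, d)` -/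
theorem row_of_normalizer (g : Matrix.SpecialLinearGroup (Fin 3) F)
    (hg : g ∈ Subgroup.normalizer (A1 F : Set (Matrix.SpecialLinearGroup (Fin 3) F))) :
    g 2 0 = 0 ∧ g 2 1 = 0 := by
  constructor
  · have hx : g * hS 0 0 1 * g⁻¹ ∈ A1 F := (Subgroup.mem_normalizer_iff.mp hg _).mp ⟨0, 1, rfl⟩
    obtain ⟨b', c', hx'⟩ := hx
    rw [mul_inv_eq_iff_eq_mul] at hx'
    have e : ((g * hS 0 0 1 : Matrix.SpecialLinearGroup (Fin 3) F) : Matrix (Fin 3) (Fin 3) F) 2 2 =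
        ((hS 0 b' c' * g : Matrix.SpecialLinearGroup (Fin 3) F) : Matrix (Fin 3) (Fin 3) F) 2 2 := by
      rw [hx']
    rw [Matrix.SpecialLinearGroup.coe_mul, Matrix.SpecialLinearGroup.coe_mul, mul3, mul3, hS_coe,
      hS_coe] at e
    simpa using e
  · have hx : g * hS 0 1 0 * g⁻¹ ∈ A1 F := (Subgroup.mem_normalizer_iff.mp hg _).mp ⟨1, 0, rfl⟩
    obtain ⟨b', c', hx'⟩ := hx
    rw [mul_inv_eq_iff_eq_mul] at hx'
    have e : ((g * hS 0 1 0 : Matrix.SpecialLinearGroup (Fin 3) F) : Matrix (Fin 3) (Fin 3) F) 2 2 =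
        ((hS 0 b' c' * g : Matrix.SpecialLinearGroup (Fin 3) F) : Matrix (Fin 3) (Fin 3) F) 2 2 := by
      rw [hx']
    rw [Matrix.SpecialLinearGroup.coe_mul, Matrix.SpecialLinearGroup.coe_mul, mul3, mul3, hS_coe,
      hS_coe] at e
    simpa using e

/-- UNIT UB1. -/
theorem UB1_normalizer_A1 [Fintype F] (hF : Fintype.card F = 4) :
    ∀ g ∈ Subgroup.normalizer (A1 F : Set (Matrix.SpecialLinearGroup (Fin 3) F)),
      ∃ a ∈ A1 F, ∃ l ∈ L1 F, ∃ z ∈ Subgroup.center (Matrix.SpecialLinearGroup (Fin 3) F),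
        g = a * l * z := by
  intro g hg
  obtain ⟨h20, h21⟩ := row_of_normalizer g hg
  have h20' : (g : Matrix (Fin 3) (Fin 3) F) 2 0 = 0 := h20
  have h21' : (g : Matrix (Fin 3) (Fin 3) F) 2 1 = 0 := h21
  obtain ⟨d, hd⟩ : ∃ d : F, d = (g : Matrix (Fin 3) (Fin 3) F) 2 2 := ⟨_, rfl⟩
  obtain ⟨g00, h00⟩ : ∃ x : F, x = (g : Matrix (Fin 3) (Fin 3) F) 0 0 := ⟨_, rfl⟩
  obtain ⟨g01, h01⟩ : ∃ x : F, x = (g : Matrix (Fin 3) (Fin 3) F) 0 1 := ⟨_, rfl⟩
  obtain ⟨g02, h02⟩ : ∃ x : F, x = (g : Matrix (Fin 3) (Fin 3) F) 0 2 := ⟨_, rfl⟩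
  obtain ⟨g10, h10⟩ : ∃ x : F, x = (g : Matrix (Fin 3) (Fin 3) F) 1 0 := ⟨_, rfl⟩
  obtain ⟨g11, h11⟩ : ∃ x : F, x = (g : Matrix (Fin 3) (Fin 3) F) 1 1 := ⟨_, rfl⟩
  obtain ⟨g12, h12⟩ : ∃ x : F, x = (g : Matrix (Fin 3) (Fin 3) F) 1 2 := ⟨_, rfl⟩
  have hdet : (g00 * g11 - g01 * g10) * d = 1 := by
    have := g.2
    rw [Matrix.det_fin_three, h20', h21', ← hd, ← h00, ← h01, ← h10, ← h11] at this
    linear_combination this
  have hd0 : d ≠ 0 := by
    intro h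
    rw [h] at hdet
    simp at hdet
  have hd3 : d ^ 3 = 1 := pow_three_eq_one hF _ hd0
  have hm : g00 * g11 - g01 * g10 = d ^ 2 := by
    linear_combination (d ^ 2) * hdet - (g00 * g11 - g01 * g10) * hd3
  have hB : d ^ 2 * g00 * (d ^ 2 * g11) - d ^ 2 * g01 * (d ^ 2 * g10) = 1 := by
    linear_combination (d ^ 4) * hm + (d ^ 3 + 1) * hd3
  have key : (g : Matrix (Fin 3) (Fin 3) F) =
      ((hS 0 (d ^ 2 * g12) (d ^ 2 * g02) *
        emb1 ⟨!![d ^ 2 * g00, d ^ 2 * g01; d ^ 2 * g10, d ^ 2 * g11], by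
          rw [Matrix.det_fin_two_of]; exact hB⟩ *
        scal d hd3 : Matrix.SpecialLinearGroup (Fin 3) F) : Matrix (Fin 3) (Fin 3) F) := by
    have hl := emb1_coe (F := F) ⟨!![d ^ 2 * g00, d ^ 2 * g01; d ^ 2 * g10, d ^ 2 * g11], by
          rw [Matrix.det_fin_two_of]; exact hB⟩
    rw [Matrix.SpecialLinearGroup.coe_mul, Matrix.SpecialLinearGroup.coe_mul, hS_coe, hl,
      scal_coe]
    ext i j
    fin_cases i <;> fin_cases j
    · simp [mul3, ← h00]; linear_combination (-g00) * hd3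
    · simp [mul3, ← h01]; linear_combination (-g01) * hd3
    · simp [mul3, ← h02]; linear_combination (-g02) * hd3
    · simp [mul3, ← h10]; linear_combination (-g10) * hd3
    · simp [mul3, ← h11]; linear_combination (-g11) * hd3
    · simp [mul3, ← h12]; linear_combination (-g12) * hd3
    · simp [mul3, h20']
    · simp [mul3, h21']
    · simp [mul3, ← hd]
  exact ⟨hS 0 (d ^ 2 * g12) (d ^ 2 * g02), ⟨_, _, rfl⟩,
    emb1 ⟨!![d ^ 2 * g00, d ^ 2 * g01; d ^ 2 * g10, d ^ 2 * g11], by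
      rw [Matrix.det_fin_two_of]; exact hB⟩, ⟨_, rfl⟩,
    scal d hd3, scal_mem_center _ hd3, Subtype.ext key⟩

end Cfsg.Agent.Lib.Helper6.L34UB1
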