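import Mathlib
import Cfsg.Agent.Lib.Helper8.L34Defs
import Cfsg.Agent.Lib.Helper6.L34UB1

/-!
# Farm L34 (S3154): unit UB2 `normalizer_A2`.
-/

set_option autoImplicit false

namespace Cfsg.Agent.Lib.Helper6.L34UB2

open Cfsg.Agent.Lib.Helper8.L34 Cfsg.Agent.Lib.Helper6.L34UB1

variable {F : Type*} [Field F]

/-- elements of the normalizer of `A2` have first column `(d, 0, 0)` -/
theorem col_of_normalizer (g : Matrix.SpecialLinearGroup (Fin 3) F)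
    (hg : g ∈ Subgroup.normalizer (A2 F : Set (Matrix.SpecialLinearGroup (Fin 3) F))) :
    g 1 0 = 0 ∧ g 2 0 = 0 := by
  have hx : g * hS 1 0 0 * g⁻¹ ∈ A2 F := (Subgroup.mem_normalizer_iff.mp hg _).mp ⟨1, 0, rfl⟩
  obtain ⟨a', c', hx'⟩ := hx
  rw [mul_inv_eq_iff_eq_mul] at hx'
  constructor
  · have e : ((g * hS 1 0 0 : Matrix.SpecialLinearGroup (Fin 3) F) : Matrix (Fin 3) (Fin 3) F) 1 1 =
        ((hS a' 0 c' * g : Matrix.SpecialLinearGroup (Fin 3) F) : Matrix (Fin 3) (Fin 3) F) 1 1 := by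
      rw [hx']
    rw [Matrix.SpecialLinearGroup.coe_mul, Matrix.SpecialLinearGroup.coe_mul, mul3, mul3, hS_coe,
      hS_coe] at e
    simpa using e
  · have e : ((g * hS 1 0 0 : Matrix.SpecialLinearGroup (Fin 3) F) : Matrix (Fin 3) (Fin 3) F) 2 1 =
        ((hS a' 0 c' * g : Matrix.SpecialLinearGroup (Fin 3) F) : Matrix (Fin 3) (Fin 3) F) 2 1 := by
      rw [hx']
    rw [Matrix.SpecialLinearGroup.coe_mul, Matrix.SpecialLinearGroup.coe_mul, mul3, mul3, hS_coe,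
      hS_coe] at e
    simpa using e

/-- UNIT UB2. -/
theorem UB2_normalizer_A2 [Fintype F] (hF : Fintype.card F = 4) :
    ∀ g ∈ Subgroup.normalizer (A2 F : Set (Matrix.SpecialLinearGroup (Fin 3) F)),
      ∃ a ∈ A2 F, ∃ l ∈ L2 F, ∃ z ∈ Subgroup.center (Matrix.SpecialLinearGroup (Fin 3) F),
        g = a * l * z := by
  intro g hg
  obtain ⟨h10, h20⟩ := col_of_normalizer g hg
  have h10' : (g : Matrix (Fin 3) (Fin 3) F) 1 0 = 0 := h10
  have h20' : (g : Matrix (Fin 3) (Fin 3) F) 2 0 = 0 := h20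
  obtain ⟨d, hd⟩ : ∃ d : F, d = (g : Matrix (Fin 3) (Fin 3) F) 0 0 := ⟨_, rfl⟩
  obtain ⟨g01, h01⟩ : ∃ x : F, x = (g : Matrix (Fin 3) (Fin 3) F) 0 1 := ⟨_, rfl⟩
  obtain ⟨g02, h02⟩ : ∃ x : F, x = (g : Matrix (Fin 3) (Fin 3) F) 0 2 := ⟨_, rfl⟩
  obtain ⟨g11, h11⟩ : ∃ x : F, x = (g : Matrix (Fin 3) (Fin 3) F) 1 1 := ⟨_, rfl⟩
  obtain ⟨g12, h12⟩ : ∃ x : F, x = (g : Matrix (Fin 3) (Fin 3) F) 1 2 := ⟨_, rfl⟩
  obtain ⟨g21, h21⟩ : ∃ x : F, x = (g : Matrix (Fin 3) (Fin 3) F) 2 1 := ⟨_, rfl⟩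
  obtain ⟨g22, h22⟩ : ∃ x : F, x = (g : Matrix (Fin 3) (Fin 3) F) 2 2 := ⟨_, rfl⟩
  have hdet : (g11 * g22 - g12 * g21) * d = 1 := by
    have := g.2
    rw [Matrix.det_fin_three, h10', h20', ← hd, ← h11, ← h12, ← h21, ← h22] at this
    linear_combination this
  have hd0 : d ≠ 0 := by
    intro h
    rw [h] at hdet
    simp at hdet
  have hd3 : d ^ 3 = 1 := pow_three_eq_one hF _ hd0
  have hm : g11 * g22 - g12 * g21 = d ^ 2 := by
    linear_combination (d ^ 2) * hdet - (g11 * g22 - g12 * g21) * hd3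
  have hB : d ^ 2 * g11 * (d ^ 2 * g22) - d ^ 2 * g12 * (d ^ 2 * g21) = 1 := by
    linear_combination (d ^ 4) * hm + (d ^ 3 + 1) * hd3
  have hl := emb2_coe (F := F) ⟨!![d ^ 2 * g11, d ^ 2 * g12; d ^ 2 * g21, d ^ 2 * g22], by
      rw [Matrix.det_fin_two_of]; exact hB⟩
  have key : (g : Matrix (Fin 3) (Fin 3) F) =
      ((hS (d * (g01 * g22 - g02 * g21)) 0 (d * (g02 * g11 - g01 * g12)) *
        emb2 ⟨!![d ^ 2 * g11, d ^ 2 * g12; d ^ 2 * g21, d ^ 2 * g22], by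
          rw [Matrix.det_fin_two_of]; exact hB⟩ *
        scal d hd3 : Matrix.SpecialLinearGroup (Fin 3) F) : Matrix (Fin 3) (Fin 3) F) := by
    rw [Matrix.SpecialLinearGroup.coe_mul, Matrix.SpecialLinearGroup.coe_mul, hS_coe, hl,
      scal_coe]
    ext i j
    fin_cases i <;> fin_cases j
    · simp [mul3, ← hd]
    · simp [mul3, ← h01]
      linear_combination (-(d ^ 4 * g01)) * hm - (g01 * (d ^ 3 + 1)) * hd3
    · simp [mul3, ← h02]
      linear_combination (-(d ^ 4 * g02)) * hm - (g02 * (d ^ 3 + 1)) * hd3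
    · simp [mul3, h10']
    · simp [mul3, ← h11]; linear_combination (-g11) * hd3
    · simp [mul3, ← h12]; linear_combination (-g12) * hd3
    · simp [mul3, h20']
    · simp [mul3, ← h21]; linear_combination (-g21) * hd3
    · simp [mul3, ← h22]; linear_combination (-g22) * hd3
  exact ⟨hS (d * (g01 * g22 - g02 * g21)) 0 (d * (g02 * g11 - g01 * g12)), ⟨_, _, rfl⟩,
    emb2 ⟨!![d ^ 2 * g11, d ^ 2 * g12; d ^ 2 * g21, d ^ 2 * g22], by
      rw [Matrix.det_fin_two_of]; exact hB⟩, ⟨_, rfl⟩,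
    scal d hd3, scal_mem_center _ hd3, Subtype.ext key⟩

end Cfsg.Agent.Lib.Helper6.L34UB2
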