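import Cfsg.Agent.Lib.Helper9.IdxB3
import Cfsg.Agent.Lib.Helper9.M24P1
import Cfsg.Agent.Lib.Helper9.M24SK2
import Cfsg.Agent.Lib.Helper9.GolayQR6
import Cfsg.Agent.Lib.Helper9.M24Y1

/-! S1589 farm (subgroups of `M24` of index 759, 276, 1771, 253): shared definitions.  Everything is about subgroups
`K` of `Equiv.Perm GolayPt` with `K ≤ M24`, in the style of `Cfsg.Agent.Lib.Helper9.OutM` / `Idx`. -/

set_option autoImplicit false

namespace Cfsg.Agent.Lib.Helper6.MIdx

open Cfsg Finset MulAction Cfsg.Agent.Lib.Helper9.OutM Cfsg.Agent.Lib.Helper9.M24T3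
  Cfsg.Agent.Lib.Helper9.M24T9 Cfsg.Agent.Lib.Helper9.M24P1
open scoped Pointwise

/-- `K` is transitive on the 24 points. -/
def Trans (K : Subgroup (Equiv.Perm GolayPt)) : Prop := ∀ c d : GolayPt, ∃ g ∈ K, g c = d

/-- the stabilizer of the point `x` in `K` -/
abbrev pt (K : Subgroup (Equiv.Perm GolayPt)) (x : GolayPt) : Subgroup (Equiv.Perm GolayPt) :=
  K ⊓ stabilizer (Equiv.Perm GolayPt) x

end Cfsg.Agent.Lib.Helper6.MIdx
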