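import Cfsg.Agent.Lib.Helper6.MIdxDefs

/-! S1589 farm, piece Q1: orbit arithmetic. -/

set_option autoImplicit false

namespace Cfsg.Agent.Lib.Helper6.MIdx

open Cfsg Finset MulAction Cfsg.Agent.Lib.Helper9.OutM Cfsg.Agent.Lib.Helper9.M24T3
  Cfsg.Agent.Lib.Helper9.M24T9 Cfsg.Agent.Lib.Helper9.M24P1
open scoped Pointwise

theorem h6_lvl_pt (K : Subgroup (Equiv.Perm GolayPt)) (hK : K ≤ M24) (c : GolayPt) : Lvl (pt K c) {c} := by
  constructor
  · exact fun g hg => hK hg.1
  · intro g hg a ha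
    rw [mem_singleton] at ha
    rw [ha]
    exact mem_stabilizer_iff.mp hg.2

theorem card_pt_dvd (K : Subgroup (Equiv.Perm GolayPt)) (hK : K ≤ M24) (c : GolayPt) :
    Nat.card ↥(pt K c) ∣ 10200960 :=
  Cfsg.Agent.Lib.Helper9.Idx.lvl_card_dvd (h6_lvl_pt K hK c) [c] (by simp) 10200960
    (Cfsg.Agent.Lib.Helper9.M24T7.card_fix_point c)

theorem card_eq_orb_mul (K : Subgroup (Equiv.Perm GolayPt)) (c : GolayPt) :
    Nat.card K = (orbF K c).card * Nat.card ↥(pt K c) :=
  card_orbF K c

theorem h6_orb_card_le (K : Subgroup (Equiv.Perm GolayPt)) (c : GolayPt) : (orbF K c).card ≤ 24 := by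
  have h := Finset.card_le_univ (orbF K c)
  have h24 : Fintype.card GolayPt = 24 := by decide
  rw [h24] at h
  exact h

theorem orb_dvd8 (K : Subgroup (Equiv.Perm GolayPt)) (hK : K ≤ M24) (hc : Nat.card K = 322560) (c : GolayPt) :
    8 ∣ (orbF K c).card := by
  have h1 := card_eq_orb_mul K c
  obtain ⟨m, hm⟩ := card_pt_dvd K hK c
  rw [hc] at h1
  have h3 : 322560 * m = (orbF K c).card * 10200960 := by
    rw [h1, hm]; ring
  omega

theorem orb_eq24 (K : Subgroup (Equiv.Perm GolayPt)) (hK : K ≤ M24)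
    (hc : Nat.card K = 967680 ∨ Nat.card K = 138240) (c : GolayPt) : (orbF K c).card = 24 := by
  have h1 := card_eq_orb_mul K c
  obtain ⟨m, hm⟩ := card_pt_dvd K hK c
  have hle := h6_orb_card_le K c
  have hpos := orb_card_pos K c
  rcases hc with hc | hc
  · rw [hc] at h1
    have h3 : 967680 * m = (orbF K c).card * 10200960 := by
      rw [h1, hm]; ring
    omega
  · rw [hc] at h1
    have h3 : 138240 * m = (orbF K c).card * 10200960 := by
      rw [h1, hm]; ring
    omega

theorem trans_of_orb24 (K : Subgroup (Equiv.Perm GolayPt)) (h : ∀ c, (orbF K c).card = 24) : Trans K := by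
  intro c d
  have h24 : Fintype.card GolayPt = 24 := by decide
  have huniv : orbF K c = univ := by
    apply Finset.eq_univ_of_card
    rw [h c, h24]
  have hd : d ∈ orbF K c := by rw [huniv]; exact mem_univ d
  exact (mem_orbF K c d).mp hd

theorem card_of_trans (K : Subgroup (Equiv.Perm GolayPt)) (h : Trans K) (c : GolayPt) :
    Nat.card K = 24 * Nat.card ↥(pt K c) := by
  have h1 := card_eq_orb_mul K c
  have h24 : Fintype.card GolayPt = 24 := by decide
  have huniv : orbF K c = univ := by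
    apply Finset.eq_univ_iff_forall.mpr
    intro d
    exact (mem_orbF K c d).mpr (h c d)
  rw [huniv, Finset.card_univ, h24] at h1
  exact h1

theorem pt_conj (K : Subgroup (Equiv.Perm GolayPt)) (g : Equiv.Perm GolayPt) (hg : g ∈ K) (x : GolayPt)
    (f : Equiv.Perm GolayPt) : f ∈ pt K (g x) ↔ g⁻¹ * f * g ∈ pt K x := by
  rw [Subgroup.mem_inf, Subgroup.mem_inf, mem_stabilizer_iff, mem_stabilizer_iff]
  constructor
  · rintro ⟨hfK, hfx⟩
    refine ⟨K.mul_mem (K.mul_mem (K.inv_mem hg) hfK) hg, ?_⟩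
    show (g⁻¹ * f * g) x = x
    rw [Equiv.Perm.mul_apply, Equiv.Perm.mul_apply]
    have h1 : f (g x) = g x := hfx
    rw [h1]
    exact g.symm_apply_apply x
  · rintro ⟨hfK, hfx⟩
    have hf : f = g * (g⁻¹ * f * g) * g⁻¹ := by group
    refine ⟨?_, ?_⟩
    · rw [hf]
      exact K.mul_mem (K.mul_mem hg hfK) (K.inv_mem hg)
    · have h1 : (g⁻¹ * f * g) x = x := hfx
      rw [Equiv.Perm.mul_apply, Equiv.Perm.mul_apply] at h1
      show f (g x) = g x
      have h2 := congrArg g h1
      have h3 : g (g⁻¹ (f (g x))) = f (g x) := g.apply_symm_apply _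
      rw [h3] at h2
      exact h2

end Cfsg.Agent.Lib.Helper6.MIdx
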