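import Cfsg.Agent.Lib.Helper6.MIdxDefs
import Cfsg.Agent.Lib.Helper9.M24X4

/-! S1589 farm, piece Q3: the pointwise stabilizer of an octad inside `K`. -/

set_option autoImplicit false

namespace Cfsg.Agent.Lib.Helper6.MIdx

open Cfsg Finset MulAction Cfsg.Agent.Lib.Helper9.OutM Cfsg.Agent.Lib.Helper9.M24T3
  Cfsg.Agent.Lib.Helper9.M24T9 Cfsg.Agent.Lib.Helper9.M24P1
open scoped Pointwise

theorem fixS_le_pt (K : Subgroup (Equiv.Perm GolayPt)) (O : Finset GolayPt) (hE : fixS O ≤ K) (x : GolayPt)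
    (hx : x ∈ O) : fixS O ≤ pt K x := by
  intro g hg
  refine Subgroup.mem_inf.mpr ⟨hE hg, ?_⟩
  rw [mem_stabilizer_iff]
  exact ((mem_fixS O g).mp hg).2 x hx

theorem compl_subset_orb (K : Subgroup (Equiv.Perm GolayPt)) (O : Finset GolayPt) (hO : O ∈ octads)
    (hE : fixS O ≤ K) (c : GolayPt) (hc : c ∉ O) (p : GolayPt) (hp : p ∉ O) : p ∈ orbF K c := by
  obtain ⟨k, hk, hkc⟩ := fixS_trans O hO c p hc hp
  exact (mem_orbF K c p).mpr ⟨k, hE hk, hkc⟩

theorem octad_eq_of_five (O O' : Finset GolayPt) (hO : O ∈ octads) (hO' : O' ∈ octads)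
    (h : 5 ≤ (O ∩ O').card) : O = O' := by
  rcases Cfsg.Agent.Lib.Helper9.M24X4.octad_inter_cases O O' hO hO' with h1 | h1 | h1 | h1
  · omega
  · omega
  · omega
  · exact (Cfsg.Agent.Lib.Helper9.M24X4.eq_of_inter_eight O O' hO hO' h1).symm

end Cfsg.Agent.Lib.Helper6.MIdx
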