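import Cfsg.Agent.Lib.Helper6.MIdxDefs
import Cfsg.Agent.Lib.Helper6.MIdxQ1
import Cfsg.Agent.Lib.Helper6.MIdxQ3

/-! S1589 farm, piece Q4: the "trio" lemma.  If every point stabilizer of `K` lies in the stabilizer of an octad through
the point, and contains the pointwise stabilizer of that octad, then `K` has no element of order 5. -/

set_option autoImplicit false

namespace Cfsg.Agent.Lib.Helper6.MIdx

open Cfsg Finset MulAction Cfsg.Agent.Lib.Helper9.OutM Cfsg.Agent.Lib.Helper9.M24T3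
  Cfsg.Agent.Lib.Helper9.M24T9 Cfsg.Agent.Lib.Helper9.M24P1
open scoped Pointwise

theorem h6_octad_key (K : Subgroup (Equiv.Perm GolayPt)) (O O' : Finset GolayPt) (hO : O ∈ octads)
    (hO' : O' ∈ octads) (d : GolayPt) (hd : d ∈ O) (hE : fixS O ≤ K) (hst : pt K d ≤ stabF O') : O' = O := by
  have hle : fixS O ≤ stabF O' := (fixS_le_pt K O hE d hd).trans hst
  have hsub : O' ⊆ O := by
    intro p hp
    by_contra hpO
    have hall : ∀ q, q ∉ O → q ∈ O' := by
      intro q hq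
      obtain ⟨k, hk, hkp⟩ := fixS_trans O hO p q hpO hq
      have hk' := hle hk
      have := ((stab_iff O' k).mp ((mem_stabF O' k).mp hk').2 p).mpr hp
      rwa [hkp] at this
    have hcompl : Oᶜ ⊆ O' := fun q hq => hall q (mem_compl.mp hq)
    have h1 := card_le_card hcompl
    have h24 : Fintype.card GolayPt = 24 := by decide
    rw [card_compl, h24, hO.2, hO'.2] at h1
    omega
  exact eq_of_subset_of_card_le hsub (by rw [hO.2, hO'.2])

theorem trio_false (K : Subgroup (Equiv.Perm GolayPt)) (hK : K ≤ M24) (f : Equiv.Perm GolayPt) (hf : f ∈ K)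
    (hf1 : f ≠ 1) (hf5 : f ^ 5 = 1)
    (h : ∀ c : GolayPt, ∃ O ∈ octads, c ∈ O ∧ fixS O ≤ K ∧ pt K c ≤ stabF O) : False := by
  have h4 : (fixF f).card = 4 := by
    have := card_fixF_prime f (hK hf) hf1 5 (Or.inl rfl) hf5
    simpa using this
  have hthree : ∀ a ∈ fixF f, ∀ O ∈ octads, pt K a ≤ stabF O → (O ∩ fixF f).card = 3 := by
    intro a ha O hO hst
    have hfa : f ∈ pt K a :=
      Subgroup.mem_inf.mpr ⟨hf, mem_stabilizer_iff.mpr ((mem_fixF f a).mp ha)⟩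
    have hfO : f ∈ stabF O := hst hfa
    have hinv : ∀ b ∈ O, f b ∈ O := fun b hb =>
      ((stab_iff O f).mp ((mem_stabF O f).mp hfO).2 b).mpr hb
    haveI : Fact (Nat.Prime 5) := ⟨by norm_num⟩
    have hmod := card_modEq_fix f 5 hf5 O hinv
    have h8 : O.card = 8 := hO.2
    have hle : (O ∩ fixF f).card ≤ 4 := h4 ▸ card_le_card inter_subset_right
    rw [h8] at hmod
    unfold Nat.ModEq at hmod
    omega
  obtain ⟨a1, ha1⟩ : (fixF f).Nonempty := card_pos.mp (by omega)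
  obtain ⟨O1, hO1, ha1O, hE1, hst1⟩ := h a1
  have h31 := hthree a1 ha1 O1 hO1 hst1
  have hsd : (fixF f \ O1).card = 1 := by
    have h5 := card_sdiff_add_card_inter (fixF f) O1
    rw [inter_comm] at h31
    omega
  obtain ⟨aj, haj⟩ := card_eq_one.mp hsd
  have hajm : aj ∈ fixF f \ O1 := by rw [haj]; exact mem_singleton_self _
  rw [mem_sdiff] at hajm
  obtain ⟨Oj, hOj, hajO, hEj, hstj⟩ := h aj
  have h3j := hthree aj hajm.1 Oj hOj hstj
  have h1lt : 1 < (Oj ∩ fixF f).card := by omega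
  obtain ⟨ak, hak, hne⟩ := exists_mem_ne h1lt aj
  rw [mem_inter] at hak
  have hakO1 : ak ∈ O1 := by
    by_contra hno
    have h6 : ak ∈ fixF f \ O1 := mem_sdiff.mpr ⟨hak.2, hno⟩
    rw [haj, mem_singleton] at h6
    exact hne h6
  obtain ⟨Ok, hOk, hakO, hEk, hstk⟩ := h ak
  have e1 : Ok = O1 := h6_octad_key K O1 Ok hO1 hOk ak hakO1 hE1 hstk
  have e2 : Ok = Oj := h6_octad_key K Oj Ok hOj hOk ak hak.1 hEj hstk
  apply hajm.2
  rw [← e1, e2]
  exact hajO

theorem h6_fixS_conj (K : Subgroup (Equiv.Perm GolayPt)) (g : Equiv.Perm GolayPt) (hg : g ∈ K) (hgM : g ∈ M24)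
    (O : Finset GolayPt) (hE : fixS O ≤ K) : fixS (g • O) ≤ K := by
  intro k hk
  rw [mem_fixS] at hk
  have h1 : g⁻¹ * k * g ∈ fixS O := by
    rw [mem_fixS]
    refine ⟨M24.mul_mem (M24.mul_mem (M24.inv_mem hgM) hk.1) hgM, ?_⟩
    intro y hy
    have hgy : g y ∈ g • O := smul_mem_smul_finset hy
    show g⁻¹ (k (g y)) = y
    rw [hk.2 (g y) hgy]
    exact g.symm_apply_apply y
  have h2 : k = g * (g⁻¹ * k * g) * g⁻¹ := by group
  rw [h2]
  exact K.mul_mem (K.mul_mem hg (hE h1)) (K.inv_mem hg)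

theorem h6_pt_conj_le (K : Subgroup (Equiv.Perm GolayPt)) (hK : K ≤ M24) (g : Equiv.Perm GolayPt) (hg : g ∈ K)
    (x : GolayPt) (O : Finset GolayPt) (hst : pt K x ≤ stabF O) : pt K (g x) ≤ stabF (g • O) := by
  intro k hk
  have hkK : k ∈ K := (Subgroup.mem_inf.mp hk).1
  have h1 : g⁻¹ * k * g ∈ stabF O := hst ((pt_conj K g hg x k).mp hk)
  rw [mem_stabF] at h1 ⊢
  refine ⟨hK hkK, ?_⟩
  have h2 : k = g * (g⁻¹ * k * g) * g⁻¹ := by group
  rw [h2, mul_smul, mul_smul, inv_smul_smul, h1.2]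

theorem trio_false' (K : Subgroup (Equiv.Perm GolayPt)) (hK : K ≤ M24) (htr : Trans K) (h5 : 5 ∣ Nat.card K)
    (x : GolayPt) (O : Finset GolayPt) (hO : O ∈ octads) (hx : x ∈ O) (hE : fixS O ≤ K)
    (hst : pt K x ≤ stabF O) : False := by
  haveI : Fact (Nat.Prime 5) := ⟨by norm_num⟩
  have h0 : Nat.card K ≠ 0 := Nat.card_pos.ne'
  obtain ⟨f, hf, hf1, hf5⟩ := exists_prime_order K 5 h5 h0
  refine trio_false K hK f hf hf1 hf5 ?_
  intro c
  obtain ⟨g, hg, hgc⟩ := htr x c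
  refine ⟨g • O, Cfsg.Agent.Lib.Helper9.M24T1.smul_octad_mem g (hK hg) O hO, ?_, ?_, ?_⟩
  · rw [← hgc]
    exact smul_mem_smul_finset hx
  · exact h6_fixS_conj K g hg (hK hg) O hE
  · rw [← hgc]
    exact h6_pt_conj_le K hK g hg x O hst

end Cfsg.Agent.Lib.Helper6.MIdx
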