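import Cfsg.Agent.Lib.Helper8.MIdxQ6c
import Cfsg.Agent.Lib.Helper4.MIdxQ7
import Cfsg.Agent.Lib.Helper8.MIdxQ8
import Cfsg.Agent.Lib.Helper5.MIdxQ9c

set_option autoImplicit false

namespace Cfsg.Agent.Lib.Helper6.MIdx

open Cfsg Finset MulAction Cfsg.Agent.Lib.Helper9.OutM Cfsg.Agent.Lib.Helper9.M24T3
  Cfsg.Agent.Lib.Helper9.M24T9 Cfsg.Agent.Lib.Helper9.M24P1
open scoped Pointwise

/-- the image in `Perm GolayPt` of a subgroup of `↥M24` of index `n` -/
theorem h6_map_card (H : Subgroup ↥Cfsg.M24) (n m : ℕ) (hH : H.index = n) (hnm : m * n = 244823040) :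
    H.map Cfsg.M24.subtype ≤ M24 ∧ Nat.card ↥(H.map Cfsg.M24.subtype) = m := by
  constructor
  · rintro _ ⟨g, _, rfl⟩
    exact g.2
  · have hG : Nat.card ↥Cfsg.M24 = 244823040 := Cfsg.Agent.Lib.Helper9.M24T4.card_M24
    have hidx := Subgroup.card_mul_index H
    rw [hG, hH] at hidx
    have hcH : Nat.card H = m := by
      have hn0 : n ≠ 0 := by
        rintro rfl
        rw [mul_zero] at hnm
        omega
      have : Nat.card H * n = m * n := by rw [hidx, hnm]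
      exact Nat.eq_of_mul_eq_mul_right (Nat.pos_of_ne_zero hn0) this
    exact (Subgroup.card_map_of_injective (Subgroup.subtype_injective _)).trans hcH

theorem h6_mem_map (H : Subgroup ↥Cfsg.M24) (g : ↥Cfsg.M24) :
    (g : Equiv.Perm GolayPt) ∈ H.map Cfsg.M24.subtype ↔ g ∈ H := by
  constructor
  · rintro ⟨g', hg', e⟩
    have : g' = g := Subtype.ext e
    rwa [← this]
  · intro hg
    exact ⟨g, hg, rfl⟩

theorem main : (∀ H : Subgroup ↥Cfsg.M24, H.index = 759 → ∃ o ∈ Cfsg.octads, H = MulAction.stabilizer Cfsg.M24 o) ∧ (∀ H : Subgroup ↥Cfsg.M24, H.index = 276 → ∃ s : Finset Cfsg.GolayPt, s.card = 2 ∧ H = MulAction.stabilizer Cfsg.M24 s) ∧ (∀ H : Subgroup ↥Cfsg.M24, H.index = 1771 → ∃ S ∈ Cfsg.sextets, H = MulAction.stabilizer Cfsg.M24 S) ∧ ∀ H : Subgroup ↥Cfsg.M24, H.index ≠ 253 := by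
  refine ⟨?_, ?_, ?_, ?_⟩
  · intro H hH
    obtain ⟨hK, hc⟩ := h6_map_card H 759 322560 hH (by norm_num)
    obtain ⟨O, hO, hKO⟩ := index759 _ hK hc
    refine ⟨O, hO, ?_⟩
    ext g
    rw [← h6_mem_map H g, hKO, mem_stabF, MulAction.mem_stabilizer_iff]
    constructor
    · intro h; exact h.2
    · intro h; exact ⟨g.2, h⟩
  · intro H hH
    obtain ⟨hK, hc⟩ := h6_map_card H 276 887040 hH (by norm_num)
    obtain ⟨s, hs, hKs⟩ := index276 _ hK hc
    refine ⟨s, hs, ?_⟩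
    ext g
    rw [← h6_mem_map H g, hKs, mem_stabF, MulAction.mem_stabilizer_iff]
    constructor
    · intro h; exact h.2
    · intro h; exact ⟨g.2, h⟩
  · intro H hH
    obtain ⟨hK, hc⟩ := h6_map_card H 1771 138240 hH (by norm_num)
    obtain ⟨S, hS, hKS⟩ := index1771 _ hK hc
    refine ⟨S, hS, ?_⟩
    ext g
    rw [← h6_mem_map H g, hKS, MulAction.mem_stabilizer_iff]
    constructor
    · intro h; exact h.2
    · intro h; exact ⟨g.2, h⟩
  · intro H hH
    obtain ⟨hK, hc⟩ := h6_map_card H 253 967680 hH (by norm_num)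
    exact no_967680 _ hK hc

end Cfsg.Agent.Lib.Helper6.MIdx
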