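import Cfsg.Agent.Lib.Helper6.MIdxDefs
import Cfsg.Agent.Lib.Helper6.MIdxQ1
import Cfsg.Agent.Lib.Helper6.MIdxQ3
import Cfsg.Agent.Lib.Helper6.MIdxQ4

/-! S1589 farm, piece Q9a: in a subgroup `K` of order 138240 containing the pointwise stabilizer of an octad `O`, the
stabilizer of a point `x ∈ O` has the orbits `T \ {x}` and `univ \ T` for a 4-set `x ∈ T ⊆ O`, which is the fixed point
set of every element of order 5 of the stabilizer. -/

set_option autoImplicit false

namespace Cfsg.Agent.Lib.Helper6.MIdx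

open Cfsg Finset MulAction Cfsg.Agent.Lib.Helper9.OutM Cfsg.Agent.Lib.Helper9.M24T3
  Cfsg.Agent.Lib.Helper9.M24T9 Cfsg.Agent.Lib.Helper9.M24P1
open scoped Pointwise

/-- membership in an orbit is invariant under the group, in both directions -/
theorem h6_orb_iff (K : Subgroup (Equiv.Perm GolayPt)) (c : GolayPt) (g : Equiv.Perm GolayPt) (hg : g ∈ K)
    (y : GolayPt) : g y ∈ orbF K c ↔ y ∈ orbF K c := by
  constructor
  · intro h
    have h1 := orbF_invariant K c g⁻¹ (K.inv_mem hg) (g y) h
    have h2 : g⁻¹ (g y) = y := g.symm_apply_apply y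
    rwa [h2] at h1
  · exact orbF_invariant K c g hg y

/-- a group all of whose elements map `O` into itself lies in `stabF O` -/
theorem h6_le_stabF (K : Subgroup (Equiv.Perm GolayPt)) (hK : K ≤ M24) (O : Finset GolayPt)
    (h : ∀ g ∈ K, ∀ y ∈ O, g y ∈ O) : K ≤ stabF O := by
  intro g hg
  rw [mem_stabF]
  exact ⟨hK hg, Cfsg.Agent.Lib.Helper9.Idx.smul_eq_of_maps g O (h g hg)⟩

theorem tetrad_at (K : Subgroup (Equiv.Perm GolayPt)) (hK : K ≤ M24) (hc : Nat.card K = 138240)
    (O : Finset GolayPt) (hO : O ∈ octads) (hE : fixS O ≤ K) (x : GolayPt) (hx : x ∈ O) :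
    ∃ T : Finset GolayPt, T.card = 4 ∧ x ∈ T ∧ T ⊆ O ∧
      (∀ p q : GolayPt, p ∉ T → q ∉ T → ∃ g ∈ pt K x, g p = q) ∧
      (∀ f ∈ pt K x, f ≠ 1 → f ^ 5 = 1 → fixF f = T) := by
  have h24 : Fintype.card GolayPt = 24 := by decide
  have htr : Trans K := trans_of_orb24 K (orb_eq24 K hK (Or.inr hc))
  have hcx : Nat.card ↥(pt K x) = 5760 := by
    have := card_of_trans K htr x
    omega
  have h5K : 5 ∣ Nat.card K := by rw [hc]; norm_num
  have hKx : pt K x ≤ M24 := fun g hg => hK (Subgroup.mem_inf.mp hg).1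
  have hEx : fixS O ≤ pt K x := fixS_le_pt K O hE x hx
  have hO8 : O.card = 8 := hO.2
  have hcompl : Oᶜ.card = 16 := by rw [card_compl, h24, hO8]
  obtain ⟨c, hcO⟩ : ∃ c, c ∉ O := by
    have hne : Oᶜ.Nonempty := card_pos.mp (by omega)
    obtain ⟨c, hc⟩ := hne
    exact ⟨c, mem_compl.mp hc⟩
  obtain ⟨B, hBdef⟩ : ∃ B, B = orbF (pt K x) c := ⟨_, rfl⟩
  have hBsup : Oᶜ ⊆ B := by
    intro p hp
    rw [hBdef]
    exact compl_subset_orb (pt K x) O hO hEx c hcO p (mem_compl.mp hp)
  have hxfix : ∀ h ∈ pt K x, h x = x := fun h hh => mem_stabilizer_iff.mp (Subgroup.mem_inf.mp hh).2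
  have hxc : x ≠ c := fun e => hcO (e ▸ hx)
  have hxB : x ∉ B := by
    rw [hBdef]
    exact notMem_orbF (pt K x) c x hxfix hxc
  have hBiff : ∀ g ∈ pt K x, ∀ y, g y ∈ B ↔ y ∈ B := by
    intro g hg y
    rw [hBdef]
    exact h6_orb_iff (pt K x) c g hg y
  have hBge : 16 ≤ B.card := hcompl ▸ card_le_card hBsup
  have hBle : B.card ≤ 23 := by
    have h1 : B ⊆ univ.erase x := fun b hb =>
      mem_erase.mpr ⟨fun e => hxB (e ▸ hb), mem_univ b⟩
    have h2 := card_le_card h1
    rw [card_erase_of_mem (mem_univ x), card_univ, h24] at h2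
    exact h2
  have hBdvd : Nat.card ↥(pt K x) = B.card * Nat.card ↥(pt (pt K x) c) := by
    rw [hBdef]
    exact card_orbF (pt K x) c
  rw [hcx] at hBdvd
  -- the complement of `B` lies in `O`
  have hBcO : Bᶜ ⊆ O := by
    intro p hp
    by_contra hpO
    exact (mem_compl.mp hp) (hBsup (mem_compl.mpr hpO))
  -- if the stabilizer of `x` preserves `O` we are done by the trio lemma
  have hcase : B.card = 16 ∨ B.card = 18 ∨ B.card = 20 := by
    generalize Nat.card ↥(pt (pt K x) c) = m at hBdvd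
    generalize B.card = k at *
    interval_cases k <;> omega
  rcases hcase with h16 | h18 | h20
  · exfalso
    have hBeq : Oᶜ = B := eq_of_subset_of_card_le hBsup (by rw [hcompl, h16])
    have hst : pt K x ≤ stabF O := by
      apply h6_le_stabF (pt K x) hKx O
      intro g hg y hy
      by_contra hgy
      have h1 : g y ∈ B := hBeq ▸ mem_compl.mpr hgy
      have h2 : y ∈ B := (hBiff g hg y).mp h1
      rw [← hBeq] at h2
      exact (mem_compl.mp h2) hy
    exact trio_false' K hK htr h5K x O hO hx hE hst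
  · exfalso
    have hBc6 : Bᶜ.card = 6 := by rw [card_compl, h24, h18]
    have hst : pt K x ≤ stabF O := by
      intro g hg
      rw [mem_stabF]
      refine ⟨hKx hg, ?_⟩
      have hgO : g • O ∈ octads := Cfsg.Agent.Lib.Helper9.M24T1.smul_octad_mem g (hKx hg) O hO
      have hsub : Bᶜ ⊆ O ∩ g • O := by
        intro y hy
        rw [mem_inter]
        refine ⟨hBcO hy, ?_⟩
        have hgi : g⁻¹ ∈ pt K x := (pt K x).inv_mem hg
        have h1 : g⁻¹ y ∈ Bᶜ := by
          rw [mem_compl] at hy ⊢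
          intro h2
          exact hy ((hBiff g⁻¹ hgi y).mp h2)
        have h2 : g (g⁻¹ y) = y := g.apply_symm_apply y
        rw [← h2]
        exact smul_mem_smul_finset (hBcO h1)
      have h5 : 5 ≤ (O ∩ g • O).card := by
        have := card_le_card hsub
        omega
      exact (octad_eq_of_five O (g • O) hO hgO h5).symm
    exact trio_false' K hK htr h5K x O hO hx hE hst
  · refine ⟨Bᶜ, ?_, mem_compl.mpr hxB, hBcO, ?_, ?_⟩
    · rw [card_compl, h24, h20]
    · intro p q hp hq
      have hpB : p ∈ B := by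
        by_contra h; exact hp (mem_compl.mpr h)
      have hqB : q ∈ B := by
        by_contra h; exact hq (mem_compl.mpr h)
      rw [hBdef] at hpB hqB
      obtain ⟨g1, hg1, hg1c⟩ := (mem_orbF (pt K x) c p).mp hpB
      obtain ⟨g2, hg2, hg2c⟩ := (mem_orbF (pt K x) c q).mp hqB
      refine ⟨g2 * g1⁻¹, (pt K x).mul_mem hg2 ((pt K x).inv_mem hg1), ?_⟩
      rw [Equiv.Perm.mul_apply, ← hg1c]
      have : g1⁻¹ (g1 c) = c := g1.symm_apply_apply c
      rw [this, hg2c]
    · intro f hf hf1 hf5
      have h4 : (fixF f).card = 4 := by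
        have := card_fixF_prime f (hKx hf) hf1 5 (Or.inl rfl) hf5
        simpa using this
      haveI : Fact (Nat.Prime 5) := ⟨by norm_num⟩
      have hinv : ∀ b ∈ B, f b ∈ B := fun b hb => (hBiff f hf b).mpr hb
      have hmod := card_modEq_fix f 5 hf5 B hinv
      have hxf : x ∈ fixF f := (mem_fixF f x).mpr (hxfix f hf)
      have hle : (B ∩ fixF f).card ≤ 3 := by
        have h1 : B ∩ fixF f ⊆ (fixF f).erase x := by
          intro b hb
          rw [mem_inter] at hb
          exact mem_erase.mpr ⟨fun e => hxB (e ▸ hb.1), hb.2⟩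
        have h2 := card_le_card h1
        rw [card_erase_of_mem hxf, h4] at h2
        exact h2
      rw [h20] at hmod
      unfold Nat.ModEq at hmod
      have h0 : (B ∩ fixF f).card = 0 := by omega
      have hsub : fixF f ⊆ Bᶜ := by
        intro b hb
        rw [mem_compl]
        intro hbB
        have : b ∈ B ∩ fixF f := mem_inter.mpr ⟨hbB, hb⟩
        rw [card_eq_zero.mp h0] at this
        exact absurd this (notMem_empty b)
      exact eq_of_subset_of_card_le hsub (by rw [card_compl, h24, h20, h4])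

end Cfsg.Agent.Lib.Helper6.MIdx
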