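import Mathlib
import Cfsg.Agent.Lib.Helper3.MSL0
import Cfsg.Agent.Lib.Helper2.StSLW

set_option autoImplicit false

/-!
Farm MSL (statement S2086), unit B: the lifted Steinberg generators of a central extension.
-/

namespace Cfsg.Agent.Lib.Helper6.MSL

open Cfsg.Agent.Lib.Helper6.StSL Cfsg.Agent.Lib.Helper3.MSL

variable {I : Type*} [DecidableEq I] [Fintype I] {K : Type*} [Field K] {G : Type*} [Group G]
  {Γ : Type*} [Group Γ] (S : StA I K G) (L : CExt G Γ)

/-- a chosen third index -/
noncomputable def third (h3 : 3 ≤ Fintype.card I) (i l : I) : I :=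
  Classical.choose (Cfsg.Agent.Lib.Helper2.StSL.exists_third h3 i l)

theorem third_ne_left (h3 : 3 ≤ Fintype.card I) (i l : I) : third h3 i l ≠ i :=
  (Classical.choose_spec (Cfsg.Agent.Lib.Helper2.StSL.exists_third h3 i l)).1

theorem third_ne_right (h3 : 3 ≤ Fintype.card I) (i l : I) : third h3 i l ≠ l :=
  (Classical.choose_spec (Cfsg.Agent.Lib.Helper2.StSL.exists_third h3 i l)).2

/-- the lifted generators -/
noncomputable def ylift (h3 : 3 ≤ Fintype.card I) (i l : I) (t : K) : Γ :=
  if i = l then 1 else c S L i (third h3 i l) l t 1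

theorem ylift_eq (h3 : 3 ≤ Fintype.card I) (hM : HM S L) {i l m : I} (hil : i ≠ l) (hmi : m ≠ i)
    (hml : m ≠ l) (t : K) : ylift S L h3 i l t = c S L i m l t 1 := by
  unfold ylift
  rw [if_neg hil]
  exact hM i (third h3 i l) m l (third_ne_left h3 i l).symm (third_ne_right h3 i l) hmi.symm hml
    hil t

theorem σ_ylift (h3 : 3 ≤ Fintype.card I) {i l : I} (hil : i ≠ l) (t : K) :
    L.σ (ylift S L h3 i l t) = S.x i l t := by
  unfold ylift
  rw [if_neg hil, σ_c S L (third_ne_left h3 i l).symm (third_ne_right h3 i l) hil, mul_one]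

theorem exists_stA (h3 : 3 ≤ Fintype.card I) (hA : HA S L) (hC : HC S L) (hM : HM S L) :
    ∃ S' : StA I K Γ, (∀ i j : I, i ≠ j → ∀ t : K, L.σ (S'.x i j t) = S.x i j t) ∧
      S'.π = S.π.comp L.σ := by
  refine ⟨{ x := ylift S L h3
            x_add := ?_
            comm_ne := ?_
            comm_eq := ?_
            π := S.π.comp L.σ
            π_x := ?_ }, fun i j hij t => σ_ylift S L h3 hij t, rfl⟩
  · intro i j hij t u
    unfold ylift
    rw [if_neg hij, if_neg hij, if_neg hij]
    exact (c_add_left S L hA (third_ne_left h3 i j).symm (third_ne_right h3 i j) hij t u 1).symm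
  · intro i j k l hij hkl hil hjk t u
    exact (L.LC_iff _ _).1 (hA i j k l hij hkl hil hjk t u) _ _ (σ_ylift S L h3 hij t)
      (σ_ylift S L h3 hkl u)
  · intro i j l hij hjl hil t u
    rw [L.F_eq (σ_ylift S L h3 hij t) (σ_ylift S L h3 hjl u)]
    show c S L i j l t u = _
    rw [hC i j l hij hjl hil t u, ylift_eq S L h3 hM hil hij.symm hjl (t * u)]
  · intro i j hij t
    rw [MonoidHom.comp_apply, σ_ylift S L h3 hij t]
    exact S.π_x i j hij t

end Cfsg.Agent.Lib.Helper6.MSL
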