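import Mathlib
import Cfsg.Prelude.Def_KGroupFacts
import Cfsg.Agent.Lib.Helper3.MSLC3
import Cfsg.Agent.Lib.Helper5.MSLA4
import Cfsg.Agent.Lib.Helper6.MSLB
import Cfsg.Agent.Lib.Helper4.StSLE2
import Cfsg.Agent.Lib.Helper4.SLnGen
import Cfsg.Agent.Lib.Helper7.StSLD1c
import Cfsg.Agent.Lib.Helper6.StSLD2

set_option autoImplicit false

/-!
Farm MSL (statement S2086), unit F: central extensions of `SL_n(F)` split (`n ≥ 3`, three
exceptions), hence the Schur multiplier of `SL_n(F)` is trivial.
-/

namespace Cfsg.Agent.Lib.Helper6.MSL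

open Cfsg.Agent.Lib.Helper6.StSL Cfsg.Agent.Lib.Helper3.MSL

universe u

section taut

variable (n : ℕ) (F : Type*) [Field F]

/-- the tautological Steinberg generators of `SL_n(F)` -/
noncomputable def tx (i j : Fin n) (t : F) : Matrix.SpecialLinearGroup (Fin n) F :=
  if h : i ≠ j then Matrix.SpecialLinearGroup.transvection h t else 1

variable {n F}

theorem tx_of {i j : Fin n} (h : i ≠ j) (t : F) :
    tx n F i j t = Matrix.SpecialLinearGroup.transvection h t := by
  unfold tx
  rw [dif_pos h]

variable (n F)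

/-- `SL_n(F)` with its transvections is a group with Steinberg generators of type `A` -/
noncomputable def tautA : StA (Fin n) F (Matrix.SpecialLinearGroup (Fin n) F) where
  x := tx n F
  x_add := by
    intro i j hij t u
    rw [tx_of hij, tx_of hij, tx_of hij]
    apply Subtype.ext
    exact Matrix.transvection_mul_transvection_same _ _ hij t u
  comm_ne := by
    intro i j k l hij hkl hil hjk t u
    rw [tx_of hij, tx_of hkl]
    exact Cfsg.Agent.Lib.Helper4.StSL.h4_transvection_comm hij hkl hil hjk t u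
  comm_eq := by
    intro i j l hij hjl hil t u
    rw [tx_of hij, tx_of hjl, tx_of hil]
    have := Cfsg.Agent.Lib.Helper4.commutator_transvection (F := F) hil hij hjl t u
    rw [commutatorElement_def] at this
    exact this
  π := MonoidHom.id _
  π_x := by
    intro i j hij t
    rw [MonoidHom.id_apply, tx_of hij]
    rfl

end taut

section fieldfacts

variable {F : Type*} [Field F] [Fintype F]

theorem exists_sq_ne_one (h4 : 4 ≤ Fintype.card F) : ∃ s : F, s ≠ 0 ∧ s ^ 2 ≠ 1 := by
  classical
  by_contra hcon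
  push Not at hcon
  have hsub : (Finset.univ : Finset F) ⊆ {0, 1, -1} := by
    intro s _
    by_cases hs : s = 0
    · simp [hs]
    · have := hcon s hs
      have h2 : (s - 1) * (s + 1) = 0 := by ring_nf; rw [this]; ring
      rcases mul_eq_zero.1 h2 with h | h
      · have : s = 1 := sub_eq_zero.1 h
        simp [this]
      · have : s = -1 := eq_neg_of_add_eq_zero_left h
        simp [this]
  have := Finset.card_le_card hsub
  rw [Finset.card_univ] at this
  have h3 : ({0, 1, -1} : Finset F).card ≤ 3 := Finset.card_le_three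
  omega

theorem exists_cube_ne_one (h3 : 3 ≤ Fintype.card F) (h4 : Fintype.card F ≠ 4) :
    ∃ s : F, s ≠ 0 ∧ s ^ 3 ≠ 1 := by
  classical
  by_cases h5 : 5 ≤ Fintype.card F
  · by_contra hcon
    push Not at hcon
    -- all nonzero elements are roots of X^3 - 1
    have hsub : (Finset.univ : Finset F) ⊆
        insert 0 (Polynomial.nthRootsFinset 3 (1 : F)) := by
      intro s _
      by_cases hs : s = 0
      · simp [hs]
      · rw [Finset.mem_insert]
        right
        rw [Polynomial.mem_nthRootsFinset (by norm_num)]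
        exact hcon s hs
    have := Finset.card_le_card hsub
    rw [Finset.card_univ] at this
    have h3' : (insert 0 (Polynomial.nthRootsFinset 3 (1 : F))).card ≤ 3 + 1 :=
      (Finset.card_insert_le _ _).trans (Nat.succ_le_succ (by
        unfold Polynomial.nthRootsFinset
        exact (Multiset.toFinset_card_le _).trans (Polynomial.card_nthRoots 3 (1 : F))))
    omega
  · have hc : Fintype.card F = 3 := by omega
    refine ⟨-1, neg_ne_zero.2 one_ne_zero, ?_⟩
    have h3F : ((3 : ℕ) : F) = 0 := by rw [← hc]; exact FiniteField.cast_card_eq_zero F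
    intro h
    have h1 : (-1 : F) ^ 3 = -1 := by ring
    rw [h1] at h
    -- -1 = 1 gives 2 = 0, with 3 = 0 gives 1 = 0
    have h2 : (2 : F) = 0 := by
      have : (1 : F) + 1 = 0 := by nth_rewrite 1 [← h]; ring
      rw [← this]; ring
    have : (1 : F) = 0 := by
      have h3' : (3 : F) = 0 := by exact_mod_cast h3F
      have : (1 : F) = 3 - 2 := by ring
      rw [this, h3', h2, sub_zero]
    exact one_ne_zero this

theorem three_elements (hc : Fintype.card F = 3) :
    (∀ t : F, t = 0 ∨ t = 1 ∨ t = -1) ∧ (3 : F) = 0 := by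
  classical
  have h3F : ((3 : ℕ) : F) = 0 := by rw [← hc]; exact FiniteField.cast_card_eq_zero F
  have h3' : (3 : F) = 0 := by exact_mod_cast h3F
  refine ⟨?_, h3'⟩
  have hne : (1 : F) ≠ -1 := by
    intro h
    have h2 : (2 : F) = 0 := by
      have : (1 : F) + 1 = 0 := by nth_rewrite 1 [h]; ring
      rw [← this]; ring
    have : (1 : F) = 3 - 2 := by ring
    rw [h3', h2, sub_zero] at this
    exact one_ne_zero this
  have hcard : ({0, 1, -1} : Finset F).card = 3 := by
    rw [Finset.card_insert_of_notMem, Finset.card_insert_of_notMem, Finset.card_singleton]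
    · simpa using hne
    · simp only [Finset.mem_insert, Finset.mem_singleton, not_or]
      exact ⟨zero_ne_one, (neg_ne_zero.2 one_ne_zero).symm⟩
  have huniv : ({0, 1, -1} : Finset F) = Finset.univ := by
    apply Finset.eq_univ_of_card
    rw [hcard, hc]
  intro t
  have := Finset.mem_univ t
  rw [← huniv] at this
  simpa using this

end fieldfacts

section main

variable {F : Type u} [Field F] [Fintype F]

/-- the lifted Steinberg generators give a section -/
theorem section_of_stA (n : ℕ) (h3 : 3 ≤ n) (Γ : Type u) [Group Γ]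
    (σ : Γ →* Matrix.SpecialLinearGroup (Fin n) F)
    (S' : StA (Fin n) F Γ)
    (hS' : ∀ i j : Fin n, i ≠ j → ∀ t : F, σ (S'.x i j t) = (tautA n F).x i j t) :
    ∃ τ : Matrix.SpecialLinearGroup (Fin n) F →* Γ, σ.comp τ = MonoidHom.id _ := by
  have h3' : 3 ≤ Fintype.card (Fin n) := by rw [Fintype.card_fin]; exact h3
  obtain ⟨e, he⟩ := Cfsg.Agent.Lib.Helper4.StSL.main_of n h3 F
    (fun {i j} hij g hg h1 =>
      Cfsg.Agent.Lib.Helper7.StSL.inj_pair (Cfsg.Agent.Lib.Helper4.StSL.stA n F) h3' hij g hg h1)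
    (fun J a ha hJ IH =>
      Cfsg.Agent.Lib.Helper6.StSL.inj_step (Cfsg.Agent.Lib.Helper4.StSL.stA n F) h3' J a ha hJ IH)
  let f : {ij : Fin n × Fin n // ij.1 ≠ ij.2} × F → Γ := fun p => S'.x p.1.1.1 p.1.1.2 p.2
  have hrels : ∀ r ∈ Cfsg.Agent.Lib.Helper4.StSL.rels n F, FreeGroup.lift f r = 1 := by
    rintro r ((⟨a, t, u, rfl⟩ | ⟨a, b, t, u, h1, h2, rfl⟩) | ⟨a, b, h, t, u, h2, rfl⟩)
    · simp only [map_mul, map_inv, FreeGroup.lift_apply_of, f]
      rw [mul_inv_eq_one]
      exact S'.x_add _ _ a.2 t u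
    · simp only [map_mul, map_inv, FreeGroup.lift_apply_of, f]
      rw [S'.comm_ne _ _ _ _ a.2 b.2 h1 h2]
      group
    · obtain ⟨⟨i, j⟩, hij⟩ := a
      obtain ⟨⟨j', l⟩, hjl⟩ := b
      simp only at h h2 hij hjl
      subst h2
      simp only [map_mul, map_inv, FreeGroup.lift_apply_of, f]
      rw [mul_inv_eq_one]
      exact S'.comm_eq i j l hij hjl h t u
  let T : PresentedGroup (Cfsg.Agent.Lib.Helper4.StSL.rels n F) →* Γ :=
    PresentedGroup.toGroup (f := f) hrels
  have hσT : σ.comp T = e.toMonoidHom := by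
    apply PresentedGroup.ext
    rintro ⟨a, t⟩
    rw [MonoidHom.comp_apply]
    have h1 : T (PresentedGroup.of (a, t)) = S'.x a.1.1 a.1.2 t := PresentedGroup.toGroup.of hrels
    rw [h1, hS' _ _ a.2]
    apply Subtype.ext
    exact ((tautA n F).π_x _ _ a.2 t).trans (he a t).symm
  refine ⟨T.comp e.symm.toMonoidHom, ?_⟩
  rw [← MonoidHom.comp_assoc, hσT]
  ext1 x
  simp

/-- the central extensions of `SL_n(F)` split -/
theorem exists_section (n : ℕ) (h3 : 3 ≤ n)
    (hexc : (n, Fintype.card F) ∉ ({(3, 2), (3, 4), (4, 2)} : Set (ℕ × ℕ)))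
    (Γ : Type u) [Group Γ] (σ : Γ →* Matrix.SpecialLinearGroup (Fin n) F)
    (hsurj : Function.Surjective σ) (hc : σ.ker ≤ Subgroup.center Γ) :
    ∃ τ : Matrix.SpecialLinearGroup (Fin n) F →* Γ, σ.comp τ = MonoidHom.id _ := by
  have hcard : Fintype.card (Fin n) = n := Fintype.card_fin n
  have h3' : 3 ≤ Fintype.card (Fin n) := by rw [hcard]; exact h3
  have hq2 : 2 ≤ Fintype.card F := Fintype.one_lt_card
  let S := tautA n F
  let L : CExt (Matrix.SpecialLinearGroup (Fin n) F) Γ := ⟨σ, hc, hsurj⟩
  have hexc' : ¬ (n = 3 ∧ Fintype.card F = 2) ∧ ¬ (n = 3 ∧ Fintype.card F = 4) ∧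
      ¬ (n = 4 ∧ Fintype.card F = 2) := by
    refine ⟨fun h => hexc ?_, fun h => hexc ?_, fun h => hexc ?_⟩
    · rw [h.1, h.2]; simp
    · rw [h.1, h.2]; simp
    · rw [h.1, h.2]; simp
  obtain ⟨hA, hC, hM⟩ : HA S L ∧ HC S L ∧ HM S L := by
    by_cases h4 : 4 ≤ n
    · have h4' : 4 ≤ Fintype.card (Fin n) := by rw [hcard]; exact h4
      have hA : HA S L := by
        refine hA_of_parts S L h3' (fun i j l hij hil hjl t u => ha_row S L h4' hij hil hjl t u)
          (fun i k j hij hkj hik t u => ha_col S L h4' hij hkj hik t u) ?_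
        by_cases h5 : 5 ≤ n
        · have h5' : 5 ≤ Fintype.card (Fin n) := by rw [hcard]; exact h5
          exact fun i j k l hij hkl hik hil hjk hjl t u =>
            ha_four S L h5' hij hkl hik hil hjk hjl t u
        · have hn4 : n = 4 := by omega
          have hq : Fintype.card F ≠ 2 := fun h => hexc'.2.2 ⟨hn4, h⟩
          by_cases hq3 : Fintype.card F = 3
          · obtain ⟨hK, h3K⟩ := three_elements hq3
            exact fun i j k l hij hkl hik hil hjk hjl t u =>
              Cfsg.Agent.Lib.Helper5.MSL.ha_four_swap S L h3' hK h3K hij hkl hik hil hjk hjl t u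
          · obtain ⟨s, hs, hs2⟩ := exists_sq_ne_one (F := F) (by omega)
            exact fun i j k l hij hkl hik hil hjk hjl t u =>
              ha_four_torus S L h3' hs hs2 hij hkl hik hil hjk hjl t u
      exact ⟨hA, hC_of_four S L h4' hA, hM_of_four S L h4' hA⟩
    · have hn3 : n = 3 := by omega
      have hq : Fintype.card F ≠ 2 := fun h => hexc'.1 ⟨hn3, h⟩
      have hq4 : Fintype.card F ≠ 4 := fun h => hexc'.2.1 ⟨hn3, h⟩
      obtain ⟨s, hs, hs3⟩ := exists_cube_ne_one (F := F) (by omega) hq4
      have hA : HA S L := by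
        refine hA_of_parts S L h3' (fun i j l hij hil hjl t u =>
            ha_row_torus S L h3' hs hs3 hij hil hjl t u)
          (fun i k j hij hkj hik t u => ha_col_torus S L h3' hs hs3 hij hkj hik t u) ?_
        intro i j k l hij hkl hik hil hjk hjl t u
        exfalso
        have hc4 : ({i, j, k, l} : Finset (Fin n)).card = 4 := by
          rw [Finset.card_insert_of_notMem, Finset.card_insert_of_notMem,
            Finset.card_insert_of_notMem, Finset.card_singleton]
          · simpa using hkl
          · simp only [Finset.mem_insert, Finset.mem_singleton, not_or]; exact ⟨hjk, hjl⟩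
          · simp only [Finset.mem_insert, Finset.mem_singleton, not_or]; exact ⟨hij, hik, hil⟩
        have := Finset.card_le_univ ({i, j, k, l} : Finset (Fin n))
        rw [hc4, hcard, hn3] at this
        omega
      exact ⟨hA, hC_of_torus S L h3' hA hs hs3, hM_of_three S L (by rw [hcard, hn3])⟩
  obtain ⟨S', hS'σ, -⟩ := exists_stA S L h3' hA hC hM
  exact section_of_stA n h3 Γ σ S' hS'σ

theorem sl_perfect (n : ℕ) (h3 : 3 ≤ n) :
    commutator (Matrix.SpecialLinearGroup (Fin n) F) = ⊤ :=
  Cfsg.Agent.Lib.Helper4.SL_commutator_eq_top (by rw [Fintype.card_fin]; exact h3)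

theorem sl_trivial_multiplier (n : ℕ) (h3 : 3 ≤ n)
    (hexc : (n, Fintype.card F) ∉ ({(3, 2), (3, 4), (4, 2)} : Set (ℕ × ℕ))) :
    Cfsg.HasCyclicSchurMultiplier (Matrix.SpecialLinearGroup (Fin n) F) 1 := by
  constructor
  · refine ⟨Matrix.SpecialLinearGroup (Fin n) F, inferInstance, inferInstance, MonoidHom.id _,
      ⟨Function.surjective_id, ?_, ?_⟩, ?_⟩
    · intro x hx
      rw [MonoidHom.mem_ker, MonoidHom.id_apply] at hx
      rw [hx]; exact Subgroup.one_mem _
    · intro x hx
      rw [MonoidHom.mem_ker, MonoidHom.id_apply] at hx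
      rw [hx]; exact Subgroup.one_mem _
    · haveI : Unique (MonoidHom.id (Matrix.SpecialLinearGroup (Fin n) F)).ker :=
        { default := 1
          uniq := fun x => Subtype.ext (by
            have := x.2
            rw [MonoidHom.mem_ker, MonoidHom.id_apply] at this
            exact this) }
      haveI : Unique (Multiplicative (ZMod 1)) :=
        { default := 1, uniq := fun x => Subsingleton.elim (α := Fin 1) _ _ }
      exact ⟨MulEquiv.ofUnique⟩
  · intro Γ _ _ σ hσ
    obtain ⟨hsurj, hcen, hcomm⟩ := hσ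
    obtain ⟨τ, hτ⟩ := exists_section n h3 hexc Γ σ hsurj hcen
    have hστ : ∀ g, σ (τ g) = g := fun g => by
      have := DFunLike.congr_fun hτ g
      simpa using this
    have hcr : commutator Γ ≤ τ.range := by
      rw [commutator_eq_closure, Subgroup.closure_le]
      rintro x ⟨a, b, rfl⟩
      refine ⟨σ a * σ b * (σ a)⁻¹ * (σ b)⁻¹, ?_⟩
      rw [commutatorElement_def, map_mul, map_mul, map_mul, map_inv, map_inv]
      exact Cfsg.Agent.Lib.Helper8.StLift.comm_lift_indep σ hcen (hστ _) (hστ _)
    have hker : ∀ z ∈ σ.ker, z = 1 := by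
      intro z hz
      obtain ⟨g, rfl⟩ := hcr (hcomm hz)
      rw [MonoidHom.mem_ker, hστ] at hz
      rw [hz, map_one]
    refine ⟨1, ?_⟩
    rintro ⟨z, hz⟩
    exact ⟨1, Subtype.ext (hker z hz).symm⟩

end main

end Cfsg.Agent.Lib.Helper6.MSL
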