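import Mathlib
import Cfsg.Prelude.Def_Blocks
import Cfsg.Prelude.Def_BlockRank
import Cfsg.Agent.Lib.Helper6.SubContribNonvanish
import Cfsg.Agent.Lib.Helper6.SubContribPoly
import Cfsg.Agent.Lib.Helper6.CycloIneq

set_option autoImplicit false
set_option linter.unusedSectionVars false
open Cfsg

namespace Cfsg.Agent.Lib.Helper6

open scoped ComplexConjugate

section robinson

variable {G : Type*} [Group G] [Fintype G] [DecidableEq G]
variable {p : ℕ} {M : Ideal Cfsg.AlgInt}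

/-- the square sum of all contributions of a subsection is the `p`-regular rank -/
theorem sum_normSq_subContrib (hM : Cfsg.IsPModular p M) [Fintype (Cfsg.IrrCharacter G)]
    (z : G) (hz : ∃ k : ℕ, orderOf z = p ^ k) (H : Subgroup G) [Fintype H]
    (hH : H = Subgroup.centralizer ({z} : Set G)) (ξ₀ : Cfsg.IrrCharacter H) :
    ∑ χ : Cfsg.IrrCharacter G, ∑ ψ : Cfsg.IrrCharacter G,
        Complex.normSq (subContrib p z H (Cfsg.blockOf M (ξ₀ : H → ℂ)) (χ : G → ℂ) (ψ : G → ℂ))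
      = (Cfsg.blockRank p (Cfsg.blockOf M (ξ₀ : H → ℂ)) : ℝ) := by
  have h1 := sum_subContrib_self hM z hz H hH ξ₀
  have h2 : ∀ χ : Cfsg.IrrCharacter G,
      subContrib p z H (Cfsg.blockOf M (ξ₀ : H → ℂ)) (χ : G → ℂ) (χ : G → ℂ)
      = ((∑ ψ : Cfsg.IrrCharacter G, Complex.normSq
          (subContrib p z H (Cfsg.blockOf M (ξ₀ : H → ℂ)) (χ : G → ℂ) (ψ : G → ℂ)) : ℝ) : ℂ) := by
    intro χ
    rw [← sum_subContrib_mul_conj hM z hz H hH ξ₀ (χ : G → ℂ)]
    push_cast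
    apply Finset.sum_congr rfl
    intro ψ _
    rw [Complex.mul_conj]
  simp_rw [h2] at h1
  have h3 : ((∑ χ : Cfsg.IrrCharacter G, ∑ ψ : Cfsg.IrrCharacter G, Complex.normSq
      (subContrib p z H (Cfsg.blockOf M (ξ₀ : H → ℂ)) (χ : G → ℂ) (ψ : G → ℂ)) : ℝ) : ℂ)
      = ((Cfsg.blockRank p (Cfsg.blockOf M (ξ₀ : H → ℂ)) : ℝ) : ℂ) := by
    push_cast
    push_cast at h1
    exact h1
  exact_mod_cast h3

theorem centralizer_pow_eq_of_coprime (u : G) (j : ℕ) (hj : Nat.Coprime j (orderOf u)) :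
    Subgroup.centralizer ({u ^ j} : Set G) = Subgroup.centralizer ({u} : Set G) := by
  obtain ⟨m, hm⟩ := exists_pow_eq_self_of_coprime hj
  ext g
  rw [mem_centralizer_singleton_iff, mem_centralizer_singleton_iff]
  constructor
  · intro h
    have h1 : Commute (u ^ j) g := h
    have h2 := h1.pow_left m
    rw [hm] at h2
    exact h2.eq
  · intro h
    have h1 : Commute u g := h
    exact (h1.pow_left j).eq

/-- Robinson's inequality: `k₀(B)² ≤ p ^ (2 q) l(b)` for a subsection `(u, b)` with `b` of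
defect `q` -/
theorem card_height_zero_sq_le (hM : Cfsg.IsPModular p M) [Fact p.Prime]
    [Fintype (Cfsg.IrrCharacter G)] (u : G) (hu : ∃ k : ℕ, orderOf u = p ^ k)
    (H : Subgroup G) [Fintype H] (hH : H = Subgroup.centralizer ({u} : Set G))
    {b : Set (Cfsg.IrrCharacter H)} {B : Set (Cfsg.IrrCharacter G)}
    (hind : Cfsg.IsInducedBlock M H b B) (S : Finset (Cfsg.IrrCharacter G))
    (hS : ∀ χ ∈ S, χ ∈ B ∧ Cfsg.blockHeight p B (χ : G → ℂ) = 0) :
    S.card ^ 2 ≤ p ^ (2 * Cfsg.blockDefect p b) * Cfsg.blockRank p b := by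
  classical
  have hp : p.Prime := hM.1
  obtain ⟨ξ₀, hb⟩ := hind.1
  subst hb
  obtain ⟨N, hNdef⟩ : ∃ N : ℕ, N = orderOf u := ⟨_, rfl⟩
  have hN : 0 < N := by rw [hNdef]; exact orderOf_pos u
  obtain ⟨ζ₀, hζ₀⟩ : ∃ ζ₀ : ℂ, IsPrimitiveRoot ζ₀ N :=
    ⟨_, Complex.isPrimitiveRoot_exp N hN.ne'⟩
  -- the central element
  have hcomm : ∀ g : G, g ∈ H → u * g = g * u := by
    intro g hg
    rw [hH, mem_centralizer_singleton_iff] at hg
    exact hg
  have humem : u ∈ H := by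
    rw [hH, mem_centralizer_singleton_iff]
  obtain ⟨zH, hzH⟩ : ∃ zH : H, (zH : G) = u := ⟨⟨u, humem⟩, rfl⟩
  have hzc : ∀ h : H, zH * h = h * zH := by
    intro h
    apply Subtype.ext
    rw [Subgroup.coe_mul, Subgroup.coe_mul, hzH]
    exact hcomm _ h.2
  have hzN : zH ^ N = 1 := by
    apply Subtype.ext
    rw [Subgroup.coe_pow, hzH, hNdef, pow_orderOf_eq_one]
    rfl
  -- the polynomials
  have hpoly := fun χ ψ : Cfsg.IrrCharacter G =>
    exists_poly_subContrib hM u N hN H zH hzH hzc hzN ξ₀ χ ψ ζ₀ hζ₀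
  choose P hP using hpoly
  -- the exponents of the primitive roots
  have hJ : ∀ η ∈ primitiveRoots N ℂ, ∃ j : ℕ, j.Coprime N ∧ ζ₀ ^ j = η := by
    intro η hη
    rw [mem_primitiveRoots hN] at hη
    haveI : NeZero N := ⟨hN.ne'⟩
    obtain ⟨j, _, hj1, hj2⟩ := (hζ₀.isPrimitiveRoot_iff).mp hη
    exact ⟨j, hj1, hj2⟩
  choose! J hJ1 hJ2 using hJ
  obtain ⟨d, hd⟩ : ∃ d : ℕ, d = Cfsg.blockDefect p (Cfsg.blockOf M (ξ₀ : H → ℂ)) := ⟨_, rfl⟩
  obtain ⟨l, hl⟩ : ∃ l : ℕ, l = Cfsg.blockRank p (Cfsg.blockOf M (ξ₀ : H → ℂ)) := ⟨_, rfl⟩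
  rw [← hd, ← hl]
  -- the subsections `(u ^ j, b)`
  have hsub : ∀ η ∈ primitiveRoots N ℂ, (∃ k : ℕ, orderOf (u ^ J η) = p ^ k) ∧
      H = Subgroup.centralizer ({u ^ J η} : Set G) := by
    intro η hη
    constructor
    · obtain ⟨k, hk⟩ := hu
      have h1 : orderOf (u ^ J η) ∣ p ^ k := by
        rw [← hk]
        exact orderOf_pow_dvd _
      obtain ⟨k', _, hk'⟩ := (Nat.dvd_prime_pow hp).mp h1
      exact ⟨k', hk'⟩
    · rw [hH]
      exact (centralizer_pow_eq_of_coprime u (J η) (by rw [← hNdef]; exact hJ1 η hη)).symm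
  -- the upper bound for every primitive root
  have hupper : ∀ η ∈ primitiveRoots N ℂ, ∑ χ ∈ S, ∑ ψ ∈ S,
      Complex.normSq (Polynomial.aeval η (P χ ψ)) ≤ (p : ℝ) ^ (2 * d) * (l : ℝ) := by
    intro η hη
    obtain ⟨hz', hH'⟩ := hsub η hη
    have htot := sum_normSq_subContrib hM (u ^ J η) hz' H hH' ξ₀
    rw [← hl] at htot
    have hval : ∀ χ ψ : Cfsg.IrrCharacter G, Complex.normSq (Polynomial.aeval η (P χ ψ))
        = (p : ℝ) ^ (2 * d) * Complex.normSq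
          (subContrib p (u ^ J η) H (Cfsg.blockOf M (ξ₀ : H → ℂ)) (χ : G → ℂ) (ψ : G → ℂ)) := by
      intro χ ψ
      have e := hP χ ψ (J η)
      rw [hJ2 η hη] at e
      rw [e, ← hd, map_mul, map_pow, Complex.normSq_natCast, ← pow_two, ← pow_mul]
    simp_rw [hval]
    simp_rw [← Finset.mul_sum]
    apply mul_le_mul_of_nonneg_left _ (by positivity)
    rw [← htot]
    calc ∑ χ ∈ S, ∑ ψ ∈ S, Complex.normSq
          (subContrib p (u ^ J η) H (Cfsg.blockOf M (ξ₀ : H → ℂ)) (χ : G → ℂ) (ψ : G → ℂ))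
        ≤ ∑ χ ∈ S, ∑ ψ : Cfsg.IrrCharacter G, Complex.normSq
          (subContrib p (u ^ J η) H (Cfsg.blockOf M (ξ₀ : H → ℂ)) (χ : G → ℂ) (ψ : G → ℂ)) := by
          apply Finset.sum_le_sum
          intro χ _
          exact Finset.sum_le_sum_of_subset_of_nonneg (Finset.subset_univ S)
            (fun ψ _ _ => Complex.normSq_nonneg _)
      _ ≤ ∑ χ : Cfsg.IrrCharacter G, ∑ ψ : Cfsg.IrrCharacter G, Complex.normSq
          (subContrib p (u ^ J η) H (Cfsg.blockOf M (ξ₀ : H → ℂ)) (χ : G → ℂ) (ψ : G → ℂ)) := by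
          exact Finset.sum_le_sum_of_subset_of_nonneg (Finset.subset_univ S)
            (fun χ _ _ => Finset.sum_nonneg (fun ψ _ => Complex.normSq_nonneg _))
  -- the lower bound for every pair
  have hlower : ∀ χ ∈ S, ∀ ψ ∈ S, (Nat.totient N : ℝ)
      ≤ ∑ η ∈ primitiveRoots N ℂ, Complex.normSq (Polynomial.aeval η (P χ ψ)) := by
    intro χ hχ ψ hψ
    apply totient_le_sum_normSq_aeval_primitiveRoots N hN
    intro η hη
    obtain ⟨hz', hH'⟩ := hsub η hη
    have e := hP χ ψ (J η)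
    rw [hJ2 η hη] at e
    rw [e]
    have hnv := pow_defect_mul_subContrib_not_mem hM (u ^ J η) hz' H hH' hind χ ψ
      (hS χ hχ).1 (hS ψ hψ).1 (hS χ hχ).2 (hS ψ hψ).2
    exact ne_zero_of_not_memLocalIdeal hM hnv
  have htpos : (0 : ℝ) < (Nat.totient N : ℝ) := by exact_mod_cast Nat.totient_pos.mpr hN
  have hcard : (primitiveRoots N ℂ).card = Nat.totient N := Complex.card_primitiveRoots N
  have hmain : (Nat.totient N : ℝ) * ((S.card : ℝ) ^ 2)
      ≤ (Nat.totient N : ℝ) * ((p : ℝ) ^ (2 * d) * (l : ℝ)) := by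
    calc (Nat.totient N : ℝ) * ((S.card : ℝ) ^ 2)
        = ∑ χ ∈ S, ∑ ψ ∈ S, (Nat.totient N : ℝ) := by
          rw [Finset.sum_const, Finset.sum_const, nsmul_eq_mul, nsmul_eq_mul]
          ring
      _ ≤ ∑ χ ∈ S, ∑ ψ ∈ S, ∑ η ∈ primitiveRoots N ℂ,
            Complex.normSq (Polynomial.aeval η (P χ ψ)) := by
          apply Finset.sum_le_sum
          intro χ hχ
          apply Finset.sum_le_sum
          intro ψ hψ
          exact hlower χ hχ ψ hψ
      _ = ∑ η ∈ primitiveRoots N ℂ, ∑ χ ∈ S, ∑ ψ ∈ S,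
            Complex.normSq (Polynomial.aeval η (P χ ψ)) := by
          have h1 : ∀ χ ∈ S, ∑ ψ ∈ S, ∑ η ∈ primitiveRoots N ℂ,
              Complex.normSq (Polynomial.aeval η (P χ ψ))
              = ∑ η ∈ primitiveRoots N ℂ, ∑ ψ ∈ S,
                Complex.normSq (Polynomial.aeval η (P χ ψ)) := fun χ _ => Finset.sum_comm
          rw [Finset.sum_congr rfl h1]
          exact Finset.sum_comm
      _ ≤ ∑ η ∈ primitiveRoots N ℂ, (p : ℝ) ^ (2 * d) * (l : ℝ) :=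
          Finset.sum_le_sum hupper
      _ = (Nat.totient N : ℝ) * ((p : ℝ) ^ (2 * d) * (l : ℝ)) := by
          rw [Finset.sum_const, hcard, nsmul_eq_mul]
  have hfin : ((S.card : ℝ) ^ 2) ≤ (p : ℝ) ^ (2 * d) * (l : ℝ) :=
    le_of_mul_le_mul_left hmain htpos
  exact_mod_cast hfin

end robinson

end Cfsg.Agent.Lib.Helper6
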