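import Mathlib
import Cfsg.Prelude.Def_Blocks
import Cfsg.Prelude.Def_BlockRank
import Cfsg.Agent.Lib.Helper6.SubContribVal
import Cfsg.Agent.Lib.Helper6.SubContribPoly
import Cfsg.Agent.Lib.Helper6.CycloIneq
import Cfsg.Agent.Lib.Helper6.Robinson
import Cfsg.Agent.Lib.Helper6.BlkTilde

set_option autoImplicit false
set_option linter.unusedSectionVars false
open Cfsg

namespace Cfsg.Agent.Lib.Helper6

open scoped ComplexConjugate

section amgm

variable {p : ℕ} {M : Ideal Cfsg.AlgInt}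

/-- an integer polynomial with positive values at the primitive `N`-th roots of unity, all
divisible by `p ^ h` in the local ring, has a large sum of values -/
theorem totient_mul_pow_le_sum_of_pos (hM : Cfsg.IsPModular p M) (N : ℕ) (hN : 0 < N)
    (P : Polynomial ℤ) (h : ℕ) (r : ℂ → ℝ)
    (hr : ∀ η ∈ primitiveRoots N ℂ, Polynomial.aeval η P = (r η : ℂ) ∧ 0 < r η)
    (hloc : ∀ η ∈ primitiveRoots N ℂ,
      Cfsg.MemLocalRing M (Polynomial.aeval η P / (p : ℂ) ^ h)) :
    (Nat.totient N : ℝ) * (p : ℝ) ^ h ≤ ∑ η ∈ primitiveRoots N ℂ, r η := by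
  have hp : p.Prime := hM.1
  have hp0 : (p : ℂ) ≠ 0 := by exact_mod_cast hp.ne_zero
  obtain ⟨m, hm⟩ := exists_int_eq_prod_aeval_primitiveRoots N hN P
  have hcard : (primitiveRoots N ℂ).card = Nat.totient N := Complex.card_primitiveRoots N
  have hprodr : (m : ℂ) = ((∏ η ∈ primitiveRoots N ℂ, r η : ℝ) : ℂ) := by
    rw [hm]
    push_cast
    apply Finset.prod_congr rfl
    intro η hη
    exact (hr η hη).1
  have hmr : (m : ℝ) = ∏ η ∈ primitiveRoots N ℂ, r η := by
    have : ((m : ℝ) : ℂ) = ((∏ η ∈ primitiveRoots N ℂ, r η : ℝ) : ℂ) := by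
      rw [← hprodr]
      push_cast
      rfl
    exact_mod_cast this
  have hmpos : 0 < m := by
    have h1 : (0 : ℝ) < ∏ η ∈ primitiveRoots N ℂ, r η :=
      Finset.prod_pos (fun η hη => (hr η hη).2)
    rw [← hmr] at h1
    exact_mod_cast h1
  -- divisibility
  have hdvd : (p : ℤ) ^ (h * Nat.totient N) ∣ m := by
    apply pow_dvd_of_memLocalRing_div hM
    have h1 := MemLocalRing.prod hM (primitiveRoots N ℂ)
      (fun η => Polynomial.aeval η P / (p : ℂ) ^ h) (fun η hη => hloc η hη)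
    rw [Finset.prod_div_distrib, Finset.prod_const, hcard, ← hm, ← pow_mul] at h1
    exact h1
  have hle : (p : ℤ) ^ (h * Nat.totient N) ≤ m := Int.le_of_dvd hmpos hdvd
  have hle' : ((p : ℝ) ^ h) ^ (Nat.totient N) ≤ ∏ η ∈ primitiveRoots N ℂ, r η := by
    rw [← hmr, ← pow_mul]
    exact_mod_cast hle
  have hpos : 0 < Nat.totient N := Nat.totient_pos.mpr hN
  have hn : (0 : ℝ) < (Nat.totient N : ℝ) := by exact_mod_cast hpos
  have hamgm := Real.geom_mean_le_arith_mean_weighted (primitiveRoots N ℂ)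
    (fun _ => (1 : ℝ) / (Nat.totient N : ℝ)) r
    (fun _ _ => by positivity)
    (by rw [Finset.sum_const, hcard, nsmul_eq_mul]; field_simp)
    (fun η hη => (hr η hη).2.le)
  rw [Real.finsetProd_rpow _ _ (fun η hη => (hr η hη).2.le)] at hamgm
  have hph : (0 : ℝ) ≤ (p : ℝ) ^ h := by positivity
  have h4 : (p : ℝ) ^ h ≤ (∏ η ∈ primitiveRoots N ℂ, r η) ^ ((1 : ℝ) / (Nat.totient N : ℝ)) := by
    have h5 : (p : ℝ) ^ h = (((p : ℝ) ^ h) ^ (Nat.totient N)) ^ ((1 : ℝ) / (Nat.totient N : ℝ)) := by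
      rw [one_div, Real.pow_rpow_inv_natCast hph hpos.ne']
    rw [h5]
    exact Real.rpow_le_rpow (by positivity) hle' (by positivity)
  have h5 := h4.trans hamgm
  rw [← Finset.mul_sum] at h5
  rw [one_div, ← div_eq_inv_mul, le_div_iff₀ hn] at h5
  rw [mul_comm]
  exact h5

end amgm

section lower

variable {G : Type*} [Group G] [Fintype G] [DecidableEq G]
variable {p : ℕ} {M : Ideal Cfsg.AlgInt}

/-- the lower bound for the sum of the diagonal contributions of a family of major subsections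
closed under the `p'`-power maps -/
theorem card_mul_pow_height_le_of_major (hM : Cfsg.IsPModular p M) [Fact p.Prime]
    (inst : ∀ H : Subgroup G, Fintype H)
    (B : Set (Cfsg.IrrCharacter G)) (χ : Cfsg.IrrCharacter G) (hχ : χ ∈ B) (Z : Finset G) (d : ℕ)
    (hd : Cfsg.blockDefect p B = d)
    (hZord : ∀ u ∈ Z, u ^ (p ^ d) = 1)
    (hZpow : ∀ u ∈ Z, ∀ j : ℕ, j.Coprime p → u ^ j ∈ Z)
    (hZinj : ∀ j : ℕ, j.Coprime p → Set.InjOn (fun u : G => u ^ j) (Z : Set G))
    (m : G → ℝ)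
    (hm : ∀ u ∈ Z, ∃ (H : Subgroup G) (b : Set (Cfsg.IrrCharacter H)),
      H = Subgroup.centralizer ({u} : Set G) ∧ Cfsg.IsInducedBlock M H b B ∧
      Cfsg.blockDefect p b = d ∧
      ∀ j : ℕ, j.Coprime p → (m (u ^ j) : ℂ)
        = subContrib p (u ^ j) H b (χ : G → ℂ) (χ : G → ℂ)) :
    (Z.card : ℝ) * (p : ℝ) ^ Cfsg.blockHeight p B (χ : G → ℂ)
      ≤ (p : ℝ) ^ d * ∑ u ∈ Z, m u := by
  classical
  have hp : p.Prime := hM.1
  obtain ⟨N, hNdef⟩ : ∃ N : ℕ, N = p ^ (d + 1) := ⟨_, rfl⟩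
  have hN : 0 < N := by rw [hNdef]; exact pow_pos hp.pos _
  obtain ⟨ζ₀, hζ₀⟩ : ∃ ζ₀ : ℂ, IsPrimitiveRoot ζ₀ N :=
    ⟨_, Complex.isPrimitiveRoot_exp N hN.ne'⟩
  obtain ⟨h, hh⟩ : ∃ h : ℕ, h = Cfsg.blockHeight p B (χ : G → ℂ) := ⟨_, rfl⟩
  rw [← hh]
  -- the exponents of the primitive roots
  have hJ : ∀ η ∈ primitiveRoots N ℂ, ∃ j : ℕ, j.Coprime N ∧ ζ₀ ^ j = η := by
    intro η hη
    rw [mem_primitiveRoots hN] at hη
    haveI : NeZero N := ⟨hN.ne'⟩
    obtain ⟨j, _, hj1, hj2⟩ := (hζ₀.isPrimitiveRoot_iff).mp hη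
    exact ⟨j, hj1, hj2⟩
  choose! J hJ1 hJ2 using hJ
  have hJp : ∀ η ∈ primitiveRoots N ℂ, (J η).Coprime p := by
    intro η hη
    have h1 := hJ1 η hη
    rw [hNdef] at h1
    exact Nat.Coprime.coprime_dvd_right (dvd_pow_self p (Nat.succ_ne_zero d)) h1
  have htpos : (0 : ℝ) < (Nat.totient N : ℝ) := by exact_mod_cast Nat.totient_pos.mpr hN
  have hcard : (primitiveRoots N ℂ).card = Nat.totient N := Complex.card_primitiveRoots N
  -- the lower bound for a single element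
  have hone : ∀ u ∈ Z, (Nat.totient N : ℝ) * (p : ℝ) ^ h
      ≤ ∑ η ∈ primitiveRoots N ℂ, (p : ℝ) ^ d * m (u ^ J η) := by
    intro u hu
    obtain ⟨H, b, hH, hind, hdb, hmu⟩ := hm u hu
    obtain ⟨ξ₀, hb⟩ := hind.1
    -- the central element
    have hcomm : ∀ g : G, g ∈ H → u * g = g * u := by
      intro g hg
      rw [hH, mem_centralizer_singleton_iff] at hg
      exact hg
    have humem : u ∈ H := by
      rw [hH, mem_centralizer_singleton_iff]
    obtain ⟨zH, hzH⟩ : ∃ zH : H, (zH : G) = u := ⟨⟨u, humem⟩, rfl⟩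
    have hzc : ∀ k : H, zH * k = k * zH := by
      intro k
      apply Subtype.ext
      rw [Subgroup.coe_mul, Subgroup.coe_mul, hzH]
      exact hcomm _ k.2
    have huN : u ^ N = 1 := by
      rw [hNdef, pow_succ, pow_mul, hZord u hu, one_pow]
    have hzN : zH ^ N = 1 := by
      apply Subtype.ext
      rw [Subgroup.coe_pow, hzH, huN]
      rfl
    obtain ⟨P, hP⟩ := exists_poly_subContrib hM u N hN H zH hzH hzc hzN ξ₀ χ χ ζ₀ hζ₀
    rw [← hb, hdb] at hP
    -- the order of `u`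
    have hordu : orderOf u ∣ p ^ d := orderOf_dvd_of_pow_eq_one (hZord u hu)
    have hsub : ∀ η ∈ primitiveRoots N ℂ, (∃ k : ℕ, orderOf (u ^ J η) = p ^ k) ∧
        H = Subgroup.centralizer ({u ^ J η} : Set G) := by
      intro η hη
      constructor
      · have h1 : orderOf (u ^ J η) ∣ p ^ d := (orderOf_pow_dvd _).trans hordu
        obtain ⟨k', _, hk'⟩ := (Nat.dvd_prime_pow hp).mp h1
        exact ⟨k', hk'⟩
      · rw [hH]
        refine (centralizer_pow_eq_of_coprime u (J η) ?_).symm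
        exact Nat.Coprime.coprime_dvd_right hordu (Nat.Coprime.pow_right d (hJp η hη))
    -- positivity
    have hposr : ∀ η ∈ primitiveRoots N ℂ, ∃ r : ℝ, 0 < r ∧
        subContrib p (u ^ J η) H b (χ : G → ℂ) (χ : G → ℂ) = (r : ℂ) := by
      intro η hη
      obtain ⟨hz', hH'⟩ := hsub η hη
      exact exists_pos_subContrib_self hM (u ^ J η) hz' H hH' hind (by rw [hdb, hd]) χ hχ
    have hmpos : ∀ η ∈ primitiveRoots N ℂ, 0 < m (u ^ J η) := by
      intro η hη
      obtain ⟨r, hr, hre⟩ := hposr η hη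
      have h1 := hmu (J η) (hJp η hη)
      rw [hre] at h1
      have h2 : m (u ^ J η) = r := by exact_mod_cast h1
      rw [h2]
      exact hr
    have hval : ∀ η ∈ primitiveRoots N ℂ, Polynomial.aeval η P
        = (((p : ℝ) ^ d * m (u ^ J η) : ℝ) : ℂ) := by
      intro η hη
      have e := hP (J η)
      rw [hJ2 η hη] at e
      rw [e, ← hmu (J η) (hJp η hη)]
      push_cast
      rfl
    apply totient_mul_pow_le_sum_of_pos hM N hN P h (fun η => (p : ℝ) ^ d * m (u ^ J (η)))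
    · intro η hη
      refine ⟨hval η hη, ?_⟩
      have h1 := hmpos η hη
      have h2 : (0 : ℝ) < (p : ℝ) ^ d := pow_pos (by exact_mod_cast hp.pos) d
      exact mul_pos h2 h1
    · intro η hη
      obtain ⟨hz', hH'⟩ := hsub η hη
      have e := hP (J η)
      rw [hJ2 η hη] at e
      rw [e, hh, ← hd, hb]
      exact pow_defect_mul_subContrib_div_memLocalRing hM (u ^ J η) hz' H hH' ξ₀ B χ χ hχ
  -- the power maps permute `Z`
  have hperm : ∀ η ∈ primitiveRoots N ℂ, ∑ u ∈ Z, m (u ^ J η) = ∑ u ∈ Z, m u := by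
    intro η hη
    have himg : Z.image (fun u : G => u ^ J η) = Z := by
      apply Finset.eq_of_subset_of_card_le
      · intro v hv
        obtain ⟨u, hu, rfl⟩ := Finset.mem_image.mp hv
        exact hZpow u hu (J η) (hJp η hη)
      · rw [Finset.card_image_of_injOn (hZinj (J η) (hJp η hη))]
    conv_rhs => rw [← himg]
    rw [Finset.sum_image (hZinj (J η) (hJp η hη))]
  have hmain : (Nat.totient N : ℝ) * ((Z.card : ℝ) * (p : ℝ) ^ h)
      ≤ (Nat.totient N : ℝ) * ((p : ℝ) ^ d * ∑ u ∈ Z, m u) := by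
    calc (Nat.totient N : ℝ) * ((Z.card : ℝ) * (p : ℝ) ^ h)
        = ∑ u ∈ Z, (Nat.totient N : ℝ) * (p : ℝ) ^ h := by
          rw [Finset.sum_const, nsmul_eq_mul]
          ring
      _ ≤ ∑ u ∈ Z, ∑ η ∈ primitiveRoots N ℂ, (p : ℝ) ^ d * m (u ^ J η) :=
          Finset.sum_le_sum hone
      _ = ∑ η ∈ primitiveRoots N ℂ, (p : ℝ) ^ d * ∑ u ∈ Z, m (u ^ J η) := by
          rw [Finset.sum_comm]
          apply Finset.sum_congr rfl
          intro η _
          rw [Finset.mul_sum]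
      _ = ∑ η ∈ primitiveRoots N ℂ, (p : ℝ) ^ d * ∑ u ∈ Z, m u := by
          apply Finset.sum_congr rfl
          intro η hη
          rw [hperm η hη]
      _ = (Nat.totient N : ℝ) * ((p : ℝ) ^ d * ∑ u ∈ Z, m u) := by
          rw [Finset.sum_const, hcard, nsmul_eq_mul]
  exact le_of_mul_le_mul_left hmain htpos

end lower

end Cfsg.Agent.Lib.Helper6
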