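import Mathlib
import Cfsg.Prelude.Def_Blocks
import Cfsg.Prelude.Def_BlockRank
import Cfsg.Agent.Lib.Helper6.SubContribVal
import Cfsg.Agent.Lib.Helper6.BrConj
import Cfsg.Agent.Lib.Helper6.BrNorm

set_option autoImplicit false
set_option linter.unusedSectionVars false
open Cfsg

namespace Cfsg.Agent.Lib.Helper6

open scoped ComplexConjugate

section transport

variable {K K' : Type*} [Group K] [Fintype K] [Group K'] [Fintype K']

theorem classInner_comp_symm (φ : K ≃* K') (f g : K → ℂ) :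
    Cfsg.classInner (fun k' : K' => f (φ.symm k')) (fun k' : K' => g (φ.symm k'))
      = Cfsg.classInner f g := by
  unfold Cfsg.classInner
  have hc : Nat.card K' = Nat.card K := (Nat.card_congr φ.toEquiv).symm
  rw [hc]
  congr 1
  rw [← Equiv.sum_comp φ.toEquiv]
  apply Finset.sum_congr rfl
  intro k _
  simp

/-- transport of block parts along an isomorphism -/
theorem blockPart_mapIrr_image (φ : K ≃* K') (b : Set (Cfsg.IrrCharacter K)) (f : K → ℂ)
    (k' : K') :
    Cfsg.blockPart (mapIrr φ '' b) (fun k' : K' => f (φ.symm k')) k'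
      = Cfsg.blockPart b f (φ.symm k') := by
  classical
  haveI : Fintype (Cfsg.IrrCharacter K) := Fintype.ofFinite _
  haveI : Fintype (Cfsg.IrrCharacter K') := Fintype.ofFinite _
  rw [blockPart_eq_finset_sum, blockPart_eq_finset_sum]
  rw [Finset.sum_filter, Finset.sum_filter, ← Equiv.sum_comp (mapIrr φ)]
  apply Finset.sum_congr rfl
  intro ψ _
  have hiff : mapIrr φ ψ ∈ mapIrr φ '' b ↔ ψ ∈ b := (mapIrr φ).injective.mem_set_image
  rw [if_congr hiff rfl rfl]
  split_ifs
  · rw [mapIrr_apply]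
    congr 1
    exact classInner_comp_symm φ f (ψ : K → ℂ)
  · rfl

end transport

section orth

variable {K : Type*} [Group K] [Fintype K] [DecidableEq K]
variable {p : ℕ} {M : Ideal Cfsg.AlgInt}

/-- the block part with respect to a disjoint set of a block part vanishes -/
theorem blockPart_blockPart_of_disjoint (b₁ b₂ : Set (Cfsg.IrrCharacter K))
    (hdisj : Disjoint b₁ b₂) (f : K → ℂ) (s : K) :
    Cfsg.blockPart b₂ (Cfsg.blockPart b₁ f) s = 0 := by
  classical
  haveI : Fintype (Cfsg.IrrCharacter K) := Fintype.ofFinite _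
  rw [blockPart_eq_finset_sum b₂]
  apply Finset.sum_eq_zero
  intro ζ hζ
  have hζ2 : ζ ∈ b₂ := (Finset.mem_filter.mp hζ).2
  have hf : Cfsg.blockPart b₁ f = ∑ χ ∈ Finset.univ.filter (· ∈ b₁),
      Cfsg.classInner f (χ : K → ℂ) • (χ : K → ℂ) := by
    funext t
    rw [blockPart_eq_finset_sum, Finset.sum_apply]
    rfl
  rw [hf, classInner_sum_left]
  have h0 : ∑ χ ∈ Finset.univ.filter (· ∈ b₁),
      Cfsg.classInner (Cfsg.classInner f (χ : K → ℂ) • (χ : K → ℂ)) (ζ : K → ℂ) = 0 := by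
    apply Finset.sum_eq_zero
    intro χ hχ
    have hχ1 : χ ∈ b₁ := (Finset.mem_filter.mp hχ).2
    rw [classInner_smul_left, classInner_irrCharacter]
    have hne : χ ≠ ζ := by
      rintro rfl
      exact (Set.disjoint_left.mp hdisj hχ1) hζ2
    rw [if_neg hne, mul_zero]
  rw [h0, zero_mul]

/-- distinct blocks are disjoint -/
theorem disjoint_blockOf_of_ne (hM : Cfsg.IsPModular p M) (ξ₁ ξ₂ : Cfsg.IrrCharacter K)
    (hne : Cfsg.blockOf M (ξ₁ : K → ℂ) ≠ Cfsg.blockOf M (ξ₂ : K → ℂ)) :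
    Disjoint (Cfsg.blockOf M (ξ₁ : K → ℂ)) (Cfsg.blockOf M (ξ₂ : K → ℂ)) := by
  rw [Set.disjoint_left]
  intro θ h1 h2
  apply hne
  rw [blockOf_eq_of_mem hM h1, blockOf_eq_of_mem hM h2]

/-- the parts of functions in distinct blocks are orthogonal on the `p`-regular elements -/
theorem sum_blockPart_mul_conj_blockPart_of_ne (hM : Cfsg.IsPModular p M)
    (ξ₁ ξ₂ : Cfsg.IrrCharacter K)
    (hne : Cfsg.blockOf M (ξ₁ : K → ℂ) ≠ Cfsg.blockOf M (ξ₂ : K → ℂ)) (f g : K → ℂ) :
    ∑ s ∈ Finset.univ.filter (fun s : K => ¬ p ∣ orderOf s),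
      Cfsg.blockPart (Cfsg.blockOf M (ξ₁ : K → ℂ)) f s
        * conj (Cfsg.blockPart (Cfsg.blockOf M (ξ₂ : K → ℂ)) g s) = 0 := by
  rw [← sum_blockPart_mul_conj_blockPart hM ξ₂
    (Cfsg.blockPart (Cfsg.blockOf M (ξ₁ : K → ℂ)) f) g]
  apply Finset.sum_eq_zero
  intro s _
  rw [blockPart_blockPart_of_disjoint _ _ (disjoint_blockOf_of_ne hM ξ₁ ξ₂ hne), zero_mul]

end orth

section secfun

variable {G : Type*} [Group G] [Fintype G] [DecidableEq G]
variable {p : ℕ} {M : Ideal Cfsg.AlgInt}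

/-- the pointed function of a subsection: the `β`-part of `χ` on the `p`-section of `u`,
read on `u C_G(u)_{p'}` only -/
noncomputable def secFun (p : ℕ) (u : G) (K : Subgroup G) [Fintype K]
    (β : Set (Cfsg.IrrCharacter K)) (χ : G → ℂ) : G → ℂ :=
  fun y => ∑ s : K, if (¬ p ∣ orderOf s ∧ u * (s : G) = y) then
    Cfsg.blockPart β (fun c : K => χ (u * (c : G))) s else 0

theorem sum_secFun_mul (u : G) (K : Subgroup G) [Fintype K]
    (β : Set (Cfsg.IrrCharacter K)) (χ : G → ℂ) (g : G → ℂ) :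
    ∑ y : G, secFun p u K β χ y * g y
      = ∑ s ∈ Finset.univ.filter (fun s : K => ¬ p ∣ orderOf s),
          Cfsg.blockPart β (fun c : K => χ (u * (c : G))) s * g (u * (s : G)) := by
  classical
  unfold secFun
  simp_rw [Finset.sum_mul]
  rw [Finset.sum_comm, Finset.sum_filter]
  apply Finset.sum_congr rfl
  intro s _
  by_cases hs : ¬ p ∣ orderOf s
  · rw [if_pos hs, Finset.sum_eq_single (u * (s : G))]
    · rw [if_pos ⟨hs, rfl⟩]
    · intro y _ hy
      rw [if_neg (fun h => hy h.2.symm), zero_mul]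
    · intro h
      exact absurd (Finset.mem_univ _) h
  · rw [if_neg hs]
    apply Finset.sum_eq_zero
    intro y _
    rw [if_neg (fun h => hs h.1), zero_mul]

theorem secFun_shift (u : G) (K : Subgroup G) [Fintype K]
    (β : Set (Cfsg.IrrCharacter K)) (χ : G → ℂ) (s : K) (hs : ¬ p ∣ orderOf s) :
    secFun p u K β χ (u * (s : G)) = Cfsg.blockPart β (fun c : K => χ (u * (c : G))) s := by
  classical
  unfold secFun
  rw [Finset.sum_eq_single s]
  · rw [if_pos ⟨hs, rfl⟩]
  · intro s' _ hne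
    rw [if_neg]
    rintro ⟨_, h⟩
    apply hne
    apply Subtype.ext
    exact mul_left_cancel h
  · intro h
    exact absurd (Finset.mem_univ _) h

theorem secFun_eq_zero (u : G) (K : Subgroup G) [Fintype K]
    (β : Set (Cfsg.IrrCharacter K)) (χ : G → ℂ) (y : G)
    (h : ∀ s : K, ¬ p ∣ orderOf s → u * (s : G) ≠ y) : secFun p u K β χ y = 0 := by
  classical
  unfold secFun
  apply Finset.sum_eq_zero
  intro s _
  rw [if_neg]
  rintro ⟨h1, h2⟩
  exact h s h1 h2

/-- the norm of the pointed function -/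
theorem sum_secFun_mul_conj_self (u : G) (K : Subgroup G) [Fintype K]
    (β : Set (Cfsg.IrrCharacter K)) (χ : G → ℂ) :
    ∑ y : G, secFun p u K β χ y * conj (secFun p u K β χ y)
      = (Nat.card K : ℂ) * subContrib p u K β χ χ := by
  classical
  rw [sum_secFun_mul u K β χ (fun y => conj (secFun p u K β χ y))]
  unfold subContrib
  rw [← mul_assoc, mul_inv_cancel₀ (card_ne_zero_complex K), one_mul]
  apply Finset.sum_congr rfl
  intro s hs
  rw [secFun_shift u K β χ s (Finset.mem_filter.mp hs).2]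

/-- the pointed function is a projection of `χ` -/
theorem sum_secFun_mul_conj_char (hM : Cfsg.IsPModular p M) (u : G) (K : Subgroup G) [Fintype K]
    (ξ₀ : Cfsg.IrrCharacter K) (χ : G → ℂ) :
    ∑ y : G, secFun p u K (Cfsg.blockOf M (ξ₀ : K → ℂ)) χ y * conj (χ y)
      = (Nat.card K : ℂ) * subContrib p u K (Cfsg.blockOf M (ξ₀ : K → ℂ)) χ χ := by
  classical
  rw [sum_secFun_mul u K _ χ (fun y => conj (χ y))]
  unfold subContrib
  rw [← mul_assoc, mul_inv_cancel₀ (card_ne_zero_complex K), one_mul]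
  have h1 := sum_blockPart_mul_conj_blockPart hM ξ₀ (fun c : K => χ (u * (c : G)))
    (fun c : K => χ (u * (c : G)))
  have h2 := congrArg (starRingEnd ℂ) h1
  rw [map_sum, map_sum] at h2
  have e1 : ∀ s : K, conj (Cfsg.blockPart (Cfsg.blockOf M (ξ₀ : K → ℂ))
        (fun c : K => χ (u * (c : G))) s
      * conj (Cfsg.blockPart (Cfsg.blockOf M (ξ₀ : K → ℂ)) (fun c : K => χ (u * (c : G))) s))
      = Cfsg.blockPart (Cfsg.blockOf M (ξ₀ : K → ℂ)) (fun c : K => χ (u * (c : G))) s
      * conj (Cfsg.blockPart (Cfsg.blockOf M (ξ₀ : K → ℂ)) (fun c : K => χ (u * (c : G))) s) := by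
    intro s
    rw [map_mul, Complex.conj_conj, mul_comm]
  have e2 : ∀ s : K, conj ((fun c : K => χ (u * (c : G))) s
      * conj (Cfsg.blockPart (Cfsg.blockOf M (ξ₀ : K → ℂ)) (fun c : K => χ (u * (c : G))) s))
      = Cfsg.blockPart (Cfsg.blockOf M (ξ₀ : K → ℂ)) (fun c : K => χ (u * (c : G))) s
      * conj (χ (u * (s : G))) := by
    intro s
    rw [map_mul, Complex.conj_conj, mul_comm]
  simp_rw [e1, e2] at h2
  exact h2.symm

end secfun

section cross

variable {G : Type*} [Group G] [Fintype G] [DecidableEq G]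
variable {p : ℕ} {M : Ideal Cfsg.AlgInt}

/-- pointed functions of subsections with different `p`-parts are orthogonal -/
theorem sum_secFun_mul_conj_cfun_of_ne (hp : p.Prime) (u v x : G)
    (hu : ∃ k : ℕ, orderOf u = p ^ k) (hv : ∃ k : ℕ, orderOf v = p ^ k)
    (Ku Kv : Subgroup G) [Fintype Ku] [Fintype Kv]
    (hKu : Ku = Subgroup.centralizer ({u} : Set G))
    (hKv : Kv = Subgroup.centralizer ({v} : Set G))
    (βu : Set (Cfsg.IrrCharacter Ku)) (βv : Set (Cfsg.IrrCharacter Kv)) (χ : G → ℂ)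
    (hne : x⁻¹ * u * x ≠ v) :
    ∑ y : G, secFun p u Ku βu χ y * conj (secFun p v Kv βv χ (x⁻¹ * y * x)) = 0 := by
  classical
  rw [sum_secFun_mul u Ku βu χ (fun y => conj (secFun p v Kv βv χ (x⁻¹ * y * x)))]
  apply Finset.sum_eq_zero
  intro s hs
  have hs' : ¬ p ∣ orderOf s := (Finset.mem_filter.mp hs).2
  have h0 : secFun p v Kv βv χ (x⁻¹ * (u * (s : G)) * x) = 0 := by
    apply secFun_eq_zero
    intro t ht heq
    apply hne
    have hcu : u * (s : G) = (s : G) * u := by
      have h1 : (s : G) ∈ Subgroup.centralizer ({u} : Set G) := hKu ▸ s.2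
      rw [mem_centralizer_singleton_iff] at h1
      exact h1
    have hcv : v * (t : G) = (t : G) * v := by
      have h1 : (t : G) ∈ Subgroup.centralizer ({v} : Set G) := hKv ▸ t.2
      rw [mem_centralizer_singleton_iff] at h1
      exact h1
    have h1 : Cfsg.IsPPart p (v * (t : G)) v :=
      ⟨(t : G), rfl, hcv, hv, by rw [Subgroup.orderOf_coe]; exact ht⟩
    have h2 : Cfsg.IsPPart p (u * (s : G)) u :=
      ⟨(s : G), rfl, hcu, hu, by rw [Subgroup.orderOf_coe]; exact hs'⟩
    have h3 := IsPPart.conj h2 x⁻¹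
    rw [inv_inv] at h3
    rw [← heq] at h3
    exact IsPPart.unique hp h3 h1
  rw [h0, map_zero, mul_zero]

/-- the pairing of the pointed functions of two subsections with conjugate `p`-parts -/
theorem sum_secFun_mul_conj_cfun_of_eq (u v x : G)
    (Ku Kv : Subgroup G) [Fintype Ku] [Fintype Kv]
    (βu : Set (Cfsg.IrrCharacter Ku)) (βv : Set (Cfsg.IrrCharacter Kv)) (χ : G → ℂ)
    (hχ : Cfsg.IsClassFunction G χ) (heq : x⁻¹ * u * x = v) (φ : Kv ≃* Ku)
    (hφ : ∀ k : Kv, ((φ k : Ku) : G) = x * (k : G) * x⁻¹) :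
    ∑ y : G, secFun p u Ku βu χ y * conj (secFun p v Kv βv χ (x⁻¹ * y * x))
      = ∑ s ∈ Finset.univ.filter (fun s : Ku => ¬ p ∣ orderOf s),
          Cfsg.blockPart βu (fun c : Ku => χ (u * (c : G))) s
            * conj (Cfsg.blockPart (mapIrr φ '' βv) (fun c : Ku => χ (u * (c : G))) s) := by
  classical
  rw [sum_secFun_mul u Ku βu χ (fun y => conj (secFun p v Kv βv χ (x⁻¹ * y * x)))]
  apply Finset.sum_congr rfl
  intro s hs
  have hs' : ¬ p ∣ orderOf s := (Finset.mem_filter.mp hs).2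
  have hsymm : ∀ k' : Ku, ((φ.symm k' : Kv) : G) = x⁻¹ * (k' : G) * x := by
    intro k'
    have h1 := hφ (φ.symm k')
    rw [MulEquiv.apply_symm_apply] at h1
    rw [h1]
    group
  have hord : ¬ p ∣ orderOf (φ.symm s) := by
    rw [MulEquiv.orderOf_eq]
    exact hs'
  have e1 : x⁻¹ * (u * (s : G)) * x = v * ((φ.symm s : Kv) : G) := by
    rw [hsymm, ← heq]
    group
  have hfun : (fun c : Ku => χ (u * (c : G)))
      = fun k' : Ku => (fun c : Kv => χ (v * (c : G))) (φ.symm k') := by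
    funext k'
    simp only
    rw [hsymm, ← heq]
    have e2 : x⁻¹ * u * x * (x⁻¹ * (k' : G) * x) = x⁻¹ * (u * (k' : G)) * x⁻¹⁻¹ := by group
    rw [e2, hχ]
  rw [e1, secFun_shift v Kv βv χ (φ.symm s) hord]
  congr 2
  rw [hfun, blockPart_mapIrr_image φ βv (fun c : Kv => χ (v * (c : G))) s]

end cross

section upper

variable {G : Type*} [Group G] [Fintype G] [DecidableEq G]
variable {p : ℕ} {M : Ideal Cfsg.AlgInt}

omit [Fintype G] in
theorem card_filter_inv_conj_le [Fintype G] (u v : G) :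
    (Finset.univ.filter (fun x : G => x⁻¹ * u * x = v)).card
      ≤ Nat.card (Subgroup.centralizer ({v} : Set G)) := by
  classical
  haveI : Fintype (Subgroup.centralizer ({v} : Set G)) := Fintype.ofFinite _
  by_cases hemp : (Finset.univ.filter (fun x : G => x⁻¹ * u * x = v)) = ∅
  · rw [hemp, Finset.card_empty]
    exact Nat.zero_le _
  · obtain ⟨x₀, hx₀⟩ := Finset.nonempty_iff_ne_empty.mpr hemp
    rw [Finset.mem_filter] at hx₀
    have hmem : ∀ x : G, x⁻¹ * u * x = v → x₀⁻¹ * x ∈ Subgroup.centralizer ({v} : Set G) := by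
      intro x hx
      rw [mem_centralizer_singleton_iff]
      have h1 : u = x₀ * v * x₀⁻¹ := by rw [← hx₀.2]; group
      have h2 : v = x⁻¹ * (x₀ * v * x₀⁻¹) * x := by rw [← h1, hx]
      calc v * (x₀⁻¹ * x) = x₀⁻¹ * (x₀ * v * x₀⁻¹) * x := by group
        _ = x₀⁻¹ * x * (x⁻¹ * (x₀ * v * x₀⁻¹) * x) := by group
        _ = x₀⁻¹ * x * v := by rw [← h2]
    rw [Nat.card_eq_fintype_card, ← Finset.card_univ]
    apply Finset.card_le_card_of_injOn (fun x : G =>
      if hx : x⁻¹ * u * x = v then (⟨x₀⁻¹ * x, hmem x hx⟩ : Subgroup.centralizer ({v} : Set G))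
      else 1)
    · intro x _
      exact Finset.mem_univ _
    · intro a ha b hb hab
      rw [Finset.mem_coe, Finset.mem_filter] at ha hb
      simp only at hab
      rw [dif_pos ha.2, dif_pos hb.2] at hab
      have := congrArg Subtype.val hab
      exact mul_left_cancel this

/-- the sum of the diagonal contributions of a family of subsections in which every subsection
is conjugate to at most `e` members -/
theorem sum_subContrib_le_of_fusion (hM : Cfsg.IsPModular p M)
    (inst : ∀ H : Subgroup G, Fintype H)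
    (χ : Cfsg.IrrCharacter G) (Z : Finset G) (hZ : ∀ u ∈ Z, ∃ k : ℕ, orderOf u = p ^ k)
    (β : ∀ u : G, Set (Cfsg.IrrCharacter (Subgroup.centralizer ({u} : Set G))))
    (hβ : ∀ u ∈ Z, Cfsg.IsPBlock M (β u))
    (m : G → ℝ)
    (hm : ∀ u ∈ Z, (m u : ℂ)
      = subContrib p u (Subgroup.centralizer ({u} : Set G)) (β u) (χ : G → ℂ) (χ : G → ℂ))
    (e : ℕ)
    (he : ∀ u ∈ Z, (Z.filter (fun v => ∃ x : G, x⁻¹ * u * x = v ∧
        ∃ φ : Subgroup.centralizer ({v} : Set G) ≃* Subgroup.centralizer ({u} : Set G),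
          (∀ k : Subgroup.centralizer ({v} : Set G),
            ((φ k : Subgroup.centralizer ({u} : Set G)) : G) = x * (k : G) * x⁻¹) ∧
          mapIrr φ '' β v = β u)).card ≤ e) :
    ∑ u ∈ Z, m u ≤ e := by
  classical
  have hp : p.Prime := hM.1
  have hχcf := IsIrrCharacter.isClassFunction χ.2
  obtain ⟨n, hn⟩ : ∃ n : ℝ, n = (Nat.card G : ℝ) := ⟨_, rfl⟩
  have hnpos : 0 < n := by rw [hn]; exact_mod_cast Nat.card_pos
  -- notation
  obtain ⟨F, hF⟩ : ∃ F : G → G → ℂ, F = fun u =>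
      secFun p u (Subgroup.centralizer ({u} : Set G)) (β u) (χ : G → ℂ) := ⟨_, rfl⟩
  obtain ⟨kk, hkk⟩ : ∃ kk : G → ℝ, kk = fun u =>
      (Nat.card (Subgroup.centralizer ({u} : Set G)) : ℝ) := ⟨_, rfl⟩
  have hkpos : ∀ u, 0 < kk u := by
    intro u
    rw [hkk]
    simp only
    exact_mod_cast Nat.card_pos
  obtain ⟨Mt, hMt⟩ : ∃ Mt : G → G → G → Prop, Mt = fun u v x => x⁻¹ * u * x = v ∧
        ∃ φ : Subgroup.centralizer ({v} : Set G) ≃* Subgroup.centralizer ({u} : Set G),
          (∀ k : Subgroup.centralizer ({v} : Set G),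
            ((φ k : Subgroup.centralizer ({u} : Set G)) : G) = x * (k : G) * x⁻¹) ∧
          mapIrr φ '' β v = β u := ⟨_, rfl⟩
  -- nonnegativity
  have hmnn : ∀ u ∈ Z, 0 ≤ m u := by
    intro u hu
    have h1 := hm u hu
    unfold subContrib at h1
    have h2 : (m u : ℂ) = (((Nat.card (Subgroup.centralizer ({u} : Set G)) : ℝ)⁻¹ *
        ∑ s ∈ Finset.univ.filter (fun s : Subgroup.centralizer ({u} : Set G) => ¬ p ∣ orderOf s),
          Complex.normSq (Cfsg.blockPart (β u)
            (fun c : Subgroup.centralizer ({u} : Set G) => (χ : G → ℂ) (u * (c : G))) s) : ℝ) : ℂ) := by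
      rw [h1]
      push_cast
      congr 1
      apply Finset.sum_congr rfl
      intro s _
      rw [Complex.mul_conj]
    have h3 : m u = (Nat.card (Subgroup.centralizer ({u} : Set G)) : ℝ)⁻¹ *
        ∑ s ∈ Finset.univ.filter (fun s : Subgroup.centralizer ({u} : Set G) => ¬ p ∣ orderOf s),
          Complex.normSq (Cfsg.blockPart (β u)
            (fun c : Subgroup.centralizer ({u} : Set G) => (χ : G → ℂ) (u * (c : G))) s) := by
      exact_mod_cast h2
    rw [h3]
    apply mul_nonneg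
    · positivity
    · exact Finset.sum_nonneg (fun s _ => Complex.normSq_nonneg _)
  -- the pairings
  have hI : ∀ u ∈ Z, ∀ v ∈ Z, ∀ x : G,
      ∑ y : G, F u y * conj (F v (x⁻¹ * y * x))
        = if Mt u v x then ((kk u * m u : ℝ) : ℂ) else 0 := by
    intro u hu v hv x
    rw [hF, hMt]
    simp only
    by_cases hx : x⁻¹ * u * x = v
    · -- the conjugation isomorphism
      have hmemK : ∀ y : G, y ∈ Subgroup.centralizer ({u} : Set G)
          ↔ x⁻¹ * y * x ∈ Subgroup.centralizer ({v} : Set G) := by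
        intro y
        rw [mem_centralizer_singleton_iff, mem_centralizer_singleton_iff, ← hx]
        constructor
        · intro h
          calc x⁻¹ * u * x * (x⁻¹ * y * x) = x⁻¹ * (u * y) * x := by group
            _ = x⁻¹ * (y * u) * x := by rw [h]
            _ = x⁻¹ * y * x * (x⁻¹ * u * x) := by group
        · intro h
          calc u * y = x * (x⁻¹ * u * x * (x⁻¹ * y * x)) * x⁻¹ := by group
            _ = x * (x⁻¹ * y * x * (x⁻¹ * u * x)) * x⁻¹ := by rw [h]
            _ = y * u := by group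
      obtain ⟨φ, hφdef⟩ : ∃ φ : Subgroup.centralizer ({v} : Set G)
          ≃* Subgroup.centralizer ({u} : Set G),
          φ = conjSubEquiv (Subgroup.centralizer ({v} : Set G))
            (Subgroup.centralizer ({u} : Set G)) x hmemK := ⟨_, rfl⟩
      have hφ : ∀ k : Subgroup.centralizer ({v} : Set G),
          ((φ k : Subgroup.centralizer ({u} : Set G)) : G) = x * (k : G) * x⁻¹ := by
        intro k
        rw [hφdef]
        rfl
      rw [sum_secFun_mul_conj_cfun_of_eq u v x _ _ (β u) (β v) (χ : G → ℂ) hχcf hx φ hφ]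
      by_cases hmatch : mapIrr φ '' β v = β u
      · rw [if_pos ⟨hx, φ, hφ, hmatch⟩, hmatch]
        have h1 := hm u hu
        unfold subContrib at h1
        push_cast
        rw [h1, hkk]
        simp only
        rw [← mul_assoc]
        push_cast
        rw [mul_inv_cancel₀ (card_ne_zero_complex _), one_mul]
      · rw [if_neg]
        · obtain ⟨ξ₁, h1⟩ := hβ u hu
          obtain ⟨ξ₂, h2⟩ := isPBlock_mapIrr_image (M := M) φ (hβ v hv)
          rw [h1, h2] at hmatch ⊢
          exact sum_blockPart_mul_conj_blockPart_of_ne hM ξ₁ ξ₂ (fun h => hmatch h.symm) _ _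
        · rintro ⟨_, φ', hφ', hm'⟩
          apply hmatch
          have : φ' = φ := by
            ext k
            rw [hφ, hφ']
          rw [← this]
          exact hm'
    · rw [if_neg (fun h => hx h.1)]
      exact sum_secFun_mul_conj_cfun_of_ne hp u v x (hZ u hu) (hZ v hv) _ _ rfl rfl _ _ _ hx
  -- the class functions `Φ v`
  obtain ⟨Φ, hΦ⟩ : ∃ Φ : G → G → ℂ, Φ = fun v y => ∑ x : G, F v (x⁻¹ * y * x) := ⟨_, rfl⟩
  have hΦcf : ∀ v g y, Φ v (g * y * g⁻¹) = Φ v y := by
    intro v g y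
    rw [hΦ]
    simp only
    rw [← Equiv.sum_comp (Equiv.mulLeft g)]
    apply Finset.sum_congr rfl
    intro x _
    congr 1
    simp only [Equiv.coe_mulLeft]
    group
  -- reindexing by conjugation
  have hreindex : ∀ (x : G) (f : G → ℂ), ∑ y : G, f y = ∑ y : G, f (x * y * x⁻¹) := by
    intro x f
    rw [← Equiv.sum_comp (MulAut.conj x).toEquiv]
    apply Finset.sum_congr rfl
    intro y _
    simp [MulAut.conj_apply]
  have hchar : ∀ v ∈ Z, ∑ y : G, (χ : G → ℂ) y * conj (F v y) = ((kk v * m v : ℝ) : ℂ) := by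
    intro v hv
    obtain ⟨ξ₀, hb⟩ := hβ v hv
    have h1 := sum_secFun_mul_conj_char (p := p) hM v (Subgroup.centralizer ({v} : Set G)) ξ₀
      (χ : G → ℂ)
    rw [← hb, ← hm v hv] at h1
    have h2 := congrArg (starRingEnd ℂ) h1
    rw [map_sum, map_mul, Complex.conj_natCast, Complex.conj_ofReal] at h2
    rw [hF, hkk]
    simp only
    push_cast
    rw [← h2]
    apply Finset.sum_congr rfl
    intro y _
    rw [map_mul, Complex.conj_conj, mul_comm]
  have h3a : ∀ v ∈ Z, ∑ y : G, (χ : G → ℂ) y * conj (Φ v y) = ((n * (kk v * m v) : ℝ) : ℂ) := by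
    intro v hv
    rw [hΦ]
    simp only
    simp_rw [map_sum, Finset.mul_sum]
    rw [Finset.sum_comm]
    have h1 : ∀ x : G, ∑ y : G, (χ : G → ℂ) y * conj (F v (x⁻¹ * y * x))
        = ((kk v * m v : ℝ) : ℂ) := by
      intro x
      rw [hreindex x, ← hchar v hv]
      apply Finset.sum_congr rfl
      intro y _
      rw [hχcf]
      congr 3
      group
    simp_rw [h1]
    rw [Finset.sum_const, Finset.card_univ, nsmul_eq_mul, hn, ← Nat.card_eq_fintype_card]
    push_cast
    rfl
  have h3b : ∀ u ∈ Z, ∀ v ∈ Z, ∑ y : G, Φ u y * conj (Φ v y)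
      = (n : ℂ) * ∑ x : G, if Mt u v x then ((kk u * m u : ℝ) : ℂ) else 0 := by
    intro u hu v hv
    have h1 : ∑ y : G, Φ u y * conj (Φ v y)
        = ∑ x : G, ∑ y : G, F u (x⁻¹ * y * x) * conj (Φ v y) := by
      rw [Finset.sum_comm]
      apply Finset.sum_congr rfl
      intro y _
      have h0 : Φ u y = ∑ x : G, F u (x⁻¹ * y * x) := by rw [hΦ]
      rw [h0, Finset.sum_mul]
    have h2 : ∀ x : G, ∑ y : G, F u (x⁻¹ * y * x) * conj (Φ v y)
        = ∑ y : G, F u y * conj (Φ v y) := by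
      intro x
      rw [hreindex x]
      apply Finset.sum_congr rfl
      intro y _
      rw [hΦcf]
      congr 2
      group
    rw [h1]
    simp_rw [h2]
    have hnC : (n : ℂ) = (Nat.card G : ℂ) := by rw [hn]; push_cast; rfl
    rw [Finset.sum_const, Finset.card_univ, nsmul_eq_mul, hnC, ← Nat.card_eq_fintype_card]
    congr 1
    have h3 : ∑ y : G, F u y * conj (Φ v y)
        = ∑ x : G, ∑ y : G, F u y * conj (F v (x⁻¹ * y * x)) := by
      rw [Finset.sum_comm]
      apply Finset.sum_congr rfl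
      intro y _
      have h0 : Φ v y = ∑ x : G, F v (x⁻¹ * y * x) := by rw [hΦ]
      rw [h0, map_sum, Finset.mul_sum]
    rw [h3]
    apply Finset.sum_congr rfl
    intro x _
    exact hI u hu v hv x
  -- the weighted sum
  obtain ⟨Λ, hΛ⟩ : ∃ Λ : ℝ, Λ = ∑ u ∈ Z, m u := ⟨_, rfl⟩
  obtain ⟨cc, hcc⟩ : ∃ cc : G → G → ℕ, cc = fun u v =>
      (Finset.univ.filter (fun x : G => Mt u v x)).card := ⟨_, rfl⟩
  obtain ⟨Ψ, hΨ⟩ : ∃ Ψ : G → ℂ, Ψ = fun y => ∑ v ∈ Z, (((kk v)⁻¹ : ℝ) : ℂ) * Φ v y := ⟨_, rfl⟩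
  have hΨconj : ∀ y, conj (Ψ y) = ∑ v ∈ Z, (((kk v)⁻¹ : ℝ) : ℂ) * conj (Φ v y) := by
    intro y
    rw [hΨ]
    simp only
    rw [map_sum]
    apply Finset.sum_congr rfl
    intro v _
    rw [map_mul, Complex.conj_ofReal]
  have ha : ∑ y : G, (χ : G → ℂ) y * conj (Ψ y) = ((n * Λ : ℝ) : ℂ) := by
    simp_rw [hΨconj, Finset.mul_sum]
    rw [Finset.sum_comm]
    have h1 : ∀ v ∈ Z, ∑ y : G, (χ : G → ℂ) y * ((((kk v)⁻¹ : ℝ) : ℂ) * conj (Φ v y))
        = ((n * m v : ℝ) : ℂ) := by
      intro v hv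
      have h2 : ∀ y : G, (χ : G → ℂ) y * ((((kk v)⁻¹ : ℝ) : ℂ) * conj (Φ v y))
          = (((kk v)⁻¹ : ℝ) : ℂ) * ((χ : G → ℂ) y * conj (Φ v y)) := by
        intro y; ring
      simp_rw [h2]
      rw [← Finset.mul_sum, h3a v hv, ← Complex.ofReal_mul]
      congr 1
      have := (hkpos v).ne'
      field_simp
    rw [Finset.sum_congr rfl h1, hΛ, Finset.mul_sum]
    push_cast
    rfl
  have hb : ∑ y : G, Ψ y * conj (Ψ y)
      = ((n * ∑ u ∈ Z, ∑ v ∈ Z, (kk v)⁻¹ * m u * (cc u v : ℝ) : ℝ) : ℂ) := by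
    have h1 : ∀ y : G, Ψ y * conj (Ψ y) = ∑ u ∈ Z, ∑ v ∈ Z,
        (((kk u)⁻¹ : ℝ) : ℂ) * (((kk v)⁻¹ : ℝ) : ℂ) * (Φ u y * conj (Φ v y)) := by
      intro y
      rw [hΨconj]
      conv_lhs => rw [hΨ]
      simp only
      rw [Finset.sum_mul_sum]
      apply Finset.sum_congr rfl
      intro u _
      apply Finset.sum_congr rfl
      intro v _
      ring
    simp_rw [h1]
    rw [Finset.sum_comm]
    rw [Finset.mul_sum]
    push_cast
    apply Finset.sum_congr rfl
    intro u hu
    rw [Finset.sum_comm, Finset.mul_sum]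
    apply Finset.sum_congr rfl
    intro v hv
    rw [← Finset.mul_sum, h3b u hu v hv]
    have h2 : ∑ x : G, (if Mt u v x then ((kk u * m u : ℝ) : ℂ) else 0)
        = (cc u v : ℂ) * ((kk u * m u : ℝ) : ℂ) := by
      rw [← Finset.sum_filter, Finset.sum_const, nsmul_eq_mul, hcc]
    rw [h2]
    have := (hkpos u).ne'
    have hkC : ((kk u : ℝ) : ℂ) ≠ 0 := by exact_mod_cast this
    push_cast
    field_simp
  have hbR : ∑ y : G, Complex.normSq (Ψ y)
      = n * ∑ u ∈ Z, ∑ v ∈ Z, (kk v)⁻¹ * m u * (cc u v : ℝ) := by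
    have h1 : ((∑ y : G, Complex.normSq (Ψ y) : ℝ) : ℂ) = ∑ y : G, Ψ y * conj (Ψ y) := by
      push_cast
      apply Finset.sum_congr rfl
      intro y _
      rw [Complex.mul_conj]
    rw [hb] at h1
    exact_mod_cast h1
  -- the bound for the Gram entries
  have hbound : ∀ u ∈ Z, ∑ v ∈ Z, (kk v)⁻¹ * m u * (cc u v : ℝ) ≤ m u * (e : ℝ) := by
    intro u hu
    have h1 : ∀ v ∈ Z, (kk v)⁻¹ * m u * (cc u v : ℝ)
        ≤ if (∃ x : G, Mt u v x) then m u else 0 := by
      intro v _
      split_ifs with hrel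
      · have h2 : (cc u v : ℝ) ≤ kk v := by
          rw [hcc, hkk]
          simp only
          have h3 : (Finset.univ.filter (fun x : G => Mt u v x)).card
              ≤ (Finset.univ.filter (fun x : G => x⁻¹ * u * x = v)).card := by
            apply Finset.card_le_card
            intro x hx
            rw [Finset.mem_filter] at hx ⊢
            refine ⟨hx.1, ?_⟩
            have := hx.2
            rw [hMt] at this
            exact this.1
          exact_mod_cast h3.trans (card_filter_inv_conj_le u v)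
        have h4 := hkpos v
        have h5 := hmnn u hu
        calc (kk v)⁻¹ * m u * (cc u v : ℝ) ≤ (kk v)⁻¹ * m u * kk v := by
              apply mul_le_mul_of_nonneg_left h2
              positivity
          _ = m u := by field_simp
      · have h2 : cc u v = 0 := by
          rw [hcc]
          simp only
          rw [Finset.card_eq_zero, Finset.filter_eq_empty_iff]
          intro x _ hx
          exact hrel ⟨x, hx⟩
        rw [h2]
        simp
    refine (Finset.sum_le_sum h1).trans ?_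
    rw [← Finset.sum_filter, Finset.sum_const, nsmul_eq_mul, mul_comm]
    apply mul_le_mul_of_nonneg_left _ (hmnn u hu)
    have h6 := he u hu
    have h7 : (Z.filter (fun v => ∃ x : G, Mt u v x)) = (Z.filter (fun v => ∃ x : G, x⁻¹ * u * x = v ∧
        ∃ φ : Subgroup.centralizer ({v} : Set G) ≃* Subgroup.centralizer ({u} : Set G),
          (∀ k : Subgroup.centralizer ({v} : Set G),
            ((φ k : Subgroup.centralizer ({u} : Set G)) : G) = x * (k : G) * x⁻¹) ∧
          mapIrr φ '' β v = β u)) := by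
      ext v
      rw [Finset.mem_filter, Finset.mem_filter, hMt]
    rw [h7]
    exact_mod_cast h6
  have hΛnn : 0 ≤ Λ := by
    rw [hΛ]
    exact Finset.sum_nonneg hmnn
  have hbR' : ∑ y : G, Complex.normSq (Ψ y) ≤ n * ((e : ℝ) * Λ) := by
    rw [hbR]
    apply mul_le_mul_of_nonneg_left _ hnpos.le
    rw [hΛ, Finset.mul_sum]
    apply Finset.sum_le_sum
    intro u hu
    rw [mul_comm]
    exact hbound u hu
  -- the norm of `χ`
  have hχn : ∑ y : G, Complex.normSq ((χ : G → ℂ) y) = n := by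
    have h2 := classInner_irrCharacter χ χ
    rw [if_pos rfl] at h2
    unfold Cfsg.classInner at h2
    have hG : (Nat.card G : ℂ) ≠ 0 := card_ne_zero_complex G
    have h3 : ∑ g : G, (χ : G → ℂ) g * conj ((χ : G → ℂ) g) = (Nat.card G : ℂ) := by
      rw [← mul_one (Nat.card G : ℂ), ← h2, ← mul_assoc, mul_inv_cancel₀ hG, one_mul]
    have h4 : ((∑ y : G, Complex.normSq ((χ : G → ℂ) y) : ℝ) : ℂ) = ((n : ℝ) : ℂ) := by
      rw [hn]
      push_cast
      rw [← h3]
      apply Finset.sum_congr rfl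
      intro y _
      rw [Complex.mul_conj]
    exact_mod_cast h4
  -- the final inequality
  have hfinal : 0 ≤ ∑ y : G, Complex.normSq ((Λ : ℂ) * (χ : G → ℂ) y - Ψ y) :=
    Finset.sum_nonneg (fun y _ => Complex.normSq_nonneg _)
  have hexp : ∑ y : G, Complex.normSq ((Λ : ℂ) * (χ : G → ℂ) y - Ψ y)
      = Λ ^ 2 * n + ∑ y : G, Complex.normSq (Ψ y) - 2 * (Λ * (n * Λ)) := by
    simp_rw [Complex.normSq_sub, Complex.normSq_mul, Complex.normSq_ofReal]
    rw [Finset.sum_sub_distrib, Finset.sum_add_distrib, ← Finset.mul_sum, hχn, ← Finset.mul_sum]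
    congr 2
    · ring
    · have h1 : ∑ y : G, ((Λ : ℂ) * (χ : G → ℂ) y * conj (Ψ y)).re
          = ((Λ : ℂ) * ∑ y : G, (χ : G → ℂ) y * conj (Ψ y)).re := by
        rw [Finset.mul_sum, Complex.re_sum]
        apply Finset.sum_congr rfl
        intro y _
        rw [mul_assoc]
      rw [h1, ha, ← Complex.ofReal_mul, Complex.ofReal_re]
  rw [hexp] at hfinal
  rw [← hΛ]
  by_cases hΛ0 : Λ = 0
  · rw [hΛ0]
    positivity
  · have hΛpos : 0 < Λ := lt_of_le_of_ne hΛnn (Ne.symm hΛ0)
    have h1 : Λ ^ 2 * n ≤ n * ((e : ℝ) * Λ) := by nlinarith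
    have h2 : Λ * (n * Λ) ≤ (e : ℝ) * (n * Λ) := by nlinarith
    exact le_of_mul_le_mul_right h2 (by positivity)

end upper

end Cfsg.Agent.Lib.Helper6
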