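import Mathlib
import Cfsg.Prelude.Def_Blocks
import Cfsg.Prelude.Def_BlockLocal
import Cfsg.Prelude.Def_BlockRank
import Cfsg.Prelude.Def_BrauerPairs
import Cfsg.Agent.Lib.Helper6.MajorFusion2
import Cfsg.Agent.Lib.Helper6.SubContribLower
import Cfsg.Agent.Lib.Helper6.SubsecOrth

set_option autoImplicit false
set_option linter.unusedSectionVars false
open Cfsg

namespace Cfsg.Agent.Lib.Helper6

open scoped ComplexConjugate

section orbit

variable {G : Type*} [Group G] [Fintype G] [DecidableEq G]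

/-- a set of elements all carried to `u` by elements of `T` has at most `|T : T ∩ H|` members,
when `H` centralizes `u` -/
theorem card_le_relIndex_of_conj (H T : Subgroup G) (u : G) (hHu : ∀ h ∈ H, h * u = u * h)
    (S : Finset G) (hS : ∀ v ∈ S, ∃ t ∈ T, t * v * t⁻¹ = u) : S.card ≤ H.relIndex T := by
  classical
  haveI : Fintype (T ⧸ H.subgroupOf T) := Fintype.ofFinite _
  obtain ⟨f, hf⟩ : ∃ f : T ⧸ H.subgroupOf T → G,
      ∀ t : T, f (QuotientGroup.mk t) = (t : G) * u * (t : G)⁻¹ := by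
    refine ⟨Quotient.lift (fun t : T => (t : G) * u * (t : G)⁻¹) ?_, fun t => rfl⟩
    intro t₁ t₂ h12
    have h1 : t₁⁻¹ * t₂ ∈ H.subgroupOf T := QuotientGroup.leftRel_apply.mp h12
    rw [Subgroup.mem_subgroupOf] at h1
    have h2 := hHu _ h1
    simp only [Subgroup.coe_mul, Subgroup.coe_inv] at h2
    change (t₁ : G) * u * (t₁ : G)⁻¹ = (t₂ : G) * u * (t₂ : G)⁻¹
    calc (t₁ : G) * u * (t₁ : G)⁻¹
        = (t₁ : G) * (u * ((t₁ : G)⁻¹ * (t₂ : G))) * (t₂ : G)⁻¹ := by group
      _ = (t₁ : G) * (((t₁ : G)⁻¹ * (t₂ : G)) * u) * (t₂ : G)⁻¹ := by rw [h2]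
      _ = (t₂ : G) * u * (t₂ : G)⁻¹ := by group
  have hsub : S ⊆ Finset.univ.image f := by
    intro v hv
    obtain ⟨t, ht, htv⟩ := hS v hv
    rw [Finset.mem_image]
    refine ⟨QuotientGroup.mk (⟨t, ht⟩⁻¹ : T), Finset.mem_univ _, ?_⟩
    rw [hf]
    simp only [Subgroup.coe_inv, inv_inv]
    rw [← htv]
    group
  calc S.card ≤ (Finset.univ.image f).card := Finset.card_le_card hsub
    _ ≤ (Finset.univ : Finset (T ⧸ H.subgroupOf T)).card := Finset.card_image_le
    _ = H.relIndex T := by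
      rw [Finset.card_univ, ← Nat.card_eq_fintype_card]
      rfl

end orbit

section main

variable {G : Type*} [Group G] [Fintype G] [DecidableEq G]
variable {p : ℕ} {M : Ideal Cfsg.AlgInt}

/-- the union of the blocks of `K` induced inside `K` from the block `b` of `H` -/
def indInSet (M : Ideal Cfsg.AlgInt) (H : Subgroup G) (b : Set (Cfsg.IrrCharacter H))
    (K : Subgroup G) : Set (Cfsg.IrrCharacter K) :=
  {θ | ∃ β' : Set (Cfsg.IrrCharacter K), Cfsg.IsInducedBlockIn M K H b β' ∧ θ ∈ β'}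

theorem indInSet_eq (hM : Cfsg.IsPModular p M) [Fact p.Prime] (H : Subgroup G)
    (b : Set (Cfsg.IrrCharacter H)) (K : Subgroup G) (hHK : H ≤ K)
    (β : Set (Cfsg.IrrCharacter K)) (hβ : Cfsg.IsInducedBlockIn M K H b β) :
    indInSet M H b K = β := by
  ext θ
  constructor
  · rintro ⟨β', hβ', hθ⟩
    rw [IsInducedBlockIn.unique hM K H hHK hβ hβ']
    exact hθ
  · intro hθ
    exact ⟨β, hβ, hθ⟩

/-- Brauer's bound on heights through the inertial index and the centre of a defect group -/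
theorem height_add_center_le (hM : Cfsg.IsPModular p M) [Fact p.Prime]
    (inst : ∀ H : Subgroup G, Fintype H)
    (B : Set (Cfsg.IrrCharacter G)) (hB : Cfsg.IsPBlock M B) (D : Subgroup G)
    (hBD : Cfsg.IsDefectGroup p M B D) (d : ℕ) (hDd : Nat.card D = p ^ d) (H : Subgroup G)
    (hH : H = D ⊔ Subgroup.centralizer (D : Set G)) (b : Set (Cfsg.IrrCharacter H))
    (hind : Cfsg.IsInducedBlock M H b B) (T : Subgroup G)
    (hT : ∀ g : G, g ∈ T ↔ (g ∈ Subgroup.normalizer (D : Set G) ∧ ∀ θ ∈ b,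
      ∀ θ' : Cfsg.IrrCharacter H, (∀ h h' : H, (h' : G) = g * h * g⁻¹ →
        (θ' : H → ℂ) h' = (θ : H → ℂ) h) → θ' ∈ b))
    (e : ℕ) (he : H.relIndex T = e) (n : ℕ) (hn : p ^ n ≤ e ∧ e < p ^ (n + 1)) (c : ℕ)
    (hc : Nat.card (Subgroup.center D) = p ^ c) :
    ∀ χ ∈ B, Cfsg.blockHeight p B (χ : G → ℂ) + c ≤ n + d := by
  classical
  intro χ hχ
  have hp : p.Prime := hM.1
  have hDp : IsPGroup p D := IsDefectGroup.isPGroup' hBD
  have hDH : D ≤ H := by rw [hH]; exact le_sup_left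
  have hCH : Subgroup.centralizer (D : Set G) ≤ H := by rw [hH]; exact le_sup_right
  have hHN : H ≤ Subgroup.normalizer (D : Set G) := by
    rw [hH]
    exact sup_le Subgroup.le_normalizer (Subgroup.centralizer_le_normalizer _)
  have hNH : Subgroup.normalizer (D : Set G) ≤ Subgroup.normalizer (H : Set G) := by
    rw [hH]
    have h1 := Subgroup.normalizer_inf_normalizer_le_normalizer_sup D
      (Subgroup.centralizer (D : Set G))
    intro g hg
    exact h1 ⟨hg, normalizer_le_normalizer_centralizer D hg⟩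
  -- the defect
  have hdB : Cfsg.blockDefect p B = d := by
    have h1 := Cfsg.Agent.S0908.result p M hM B hB D hBD
    rw [hDd] at h1
    exact (Nat.pow_right_injective hp.two_le h1).symm
  -- the centre of `D`
  obtain ⟨Z, hZdef⟩ : ∃ Z : Finset G,
      Z = Finset.univ.filter (fun u : G => u ∈ D ∧ ∀ w ∈ D, w * u = u * w) := ⟨_, rfl⟩
  have hZmem : ∀ u : G, u ∈ Z ↔ (u ∈ D ∧ ∀ w ∈ D, w * u = u * w) := by
    intro u
    rw [hZdef, Finset.mem_filter]
    simp
  have hZcard : Z.card = p ^ c := by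
    rw [← hc, ← Nat.card_eq_finsetCard Z]
    apply Nat.card_congr
    refine ⟨fun u => ⟨⟨u.1, ((hZmem _).mp u.2).1⟩, ?_⟩, fun z => ⟨((z : D) : G), ?_⟩, ?_, ?_⟩
    · rw [Subgroup.mem_center_iff]
      intro g
      apply Subtype.ext
      exact ((hZmem _).mp u.2).2 g g.2
    · rw [hZmem]
      refine ⟨(z : D).2, ?_⟩
      intro w hw
      have := Subgroup.mem_center_iff.mp z.2 ⟨w, hw⟩
      exact congrArg (fun x : D => (x : G)) this
    · intro u
      rfl
    · intro z
      rfl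
  have hZord : ∀ u ∈ Z, u ^ (p ^ d) = 1 := by
    intro u hu
    have huD := ((hZmem u).mp hu).1
    have h1 : (⟨u, huD⟩ : D) ^ (Nat.card D) = 1 := pow_card_eq_one'
    rw [hDd] at h1
    exact congrArg (fun x : D => (x : G)) h1
  have hZk : ∀ u ∈ Z, ∃ k : ℕ, orderOf u = p ^ k := by
    intro u hu
    obtain ⟨k, -, hk⟩ := (Nat.dvd_prime_pow hp).mp (orderOf_dvd_of_pow_eq_one (hZord u hu))
    exact ⟨k, hk⟩
  have hZpow : ∀ u ∈ Z, ∀ j : ℕ, j.Coprime p → u ^ j ∈ Z := by
    intro u hu j _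
    obtain ⟨huD, huZ⟩ := (hZmem u).mp hu
    rw [hZmem]
    refine ⟨D.pow_mem huD j, ?_⟩
    intro w hw
    have hcm : Commute w u := huZ w hw
    exact (hcm.pow_right j).eq
  have hZinj : ∀ j : ℕ, j.Coprime p → Set.InjOn (fun u : G => u ^ j) (Z : Set G) := by
    intro j hj u hu v hv huv
    have huD := ((hZmem u).mp hu).1
    have hvD := ((hZmem v).mp hv).1
    have hcop : (Nat.card D).Coprime j := by
      rw [hDd]
      exact (Nat.Coprime.pow_left d hj.symm)
    have h1 : (powCoprime hcop) ⟨u, huD⟩ = (powCoprime hcop) ⟨v, hvD⟩ := by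
      apply Subtype.ext
      exact huv
    have h2 := (powCoprime hcop).injective h1
    exact congrArg (fun x : D => (x : G)) h2
  -- the centralizers
  have hHK : ∀ u ∈ Z, H ≤ Subgroup.centralizer ({u} : Set G) := by
    intro u hu
    obtain ⟨huD, huZ⟩ := (hZmem u).mp hu
    rw [hH]
    apply sup_le
    · intro z hz
      rw [Subgroup.mem_centralizer_singleton_iff]
      exact huZ z hz
    · apply Subgroup.centralizer_le
      intro z hz
      rw [Set.mem_singleton_iff] at hz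
      rw [hz]
      exact huD
  -- the blocks
  obtain ⟨βS, hβS⟩ : ∃ βS : ∀ K : Subgroup G, Set (Cfsg.IrrCharacter K),
      βS = indInSet M H b := ⟨_, rfl⟩
  have hβin : ∀ u ∈ Z, Cfsg.IsInducedBlockIn M (Subgroup.centralizer ({u} : Set G)) H b
      (βS (Subgroup.centralizer ({u} : Set G))) := by
    intro u hu
    obtain ⟨β, hβ⟩ := exists_inducedIn_of_root hM D hDp (Subgroup.centralizer ({u} : Set G)) H
      hDH hCH hHN (hHK u hu) b hind.1
    rw [hβS, indInSet_eq hM H b _ (hHK u hu) β hβ]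
    exact hβ
  have hβfacts : ∀ u ∈ Z,
      Cfsg.IsInducedBlock M (Subgroup.centralizer ({u} : Set G))
        (βS (Subgroup.centralizer ({u} : Set G))) B ∧
      Cfsg.blockDefect p (βS (Subgroup.centralizer ({u} : Set G))) = d := by
    intro u hu
    have huD := ((hZmem u).mp hu).1
    obtain ⟨h1, h2⟩ := isDefectGroup_of_inducedIn hM B D hBD H hH b hind _ (hHK u hu)
      (fun β hβ => inducedBlockDefined_centralizer_singleton hM u
        (hDp.to_le (by rw [Subgroup.zpowers_le]; exact huD)) β hβ) _ (hβin u hu)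
    refine ⟨h1, ?_⟩
    have h3 := Cfsg.Agent.S0908.result p M hM _ (hβin u hu).2.1 _ h2
    have h4 : Nat.card (D.subgroupOf (Subgroup.centralizer ({u} : Set G))) = Nat.card D :=
      Nat.card_congr (Subgroup.subgroupOfEquivOfLe (hDH.trans (hHK u hu))).toEquiv
    rw [h4, hDd] at h3
    exact (Nat.pow_right_injective hp.two_le h3).symm
  -- the contributions
  obtain ⟨F, hF⟩ : ∃ F : Subgroup G → G → ℂ,
      F = fun K w => subContrib p w K (βS K) (χ : G → ℂ) (χ : G → ℂ) := ⟨_, rfl⟩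
  obtain ⟨m, hm⟩ : ∃ m : G → ℝ,
      m = fun w => (F (Subgroup.centralizer ({w} : Set G)) w).re := ⟨_, rfl⟩
  have hFreal : ∀ (K : Subgroup G) (w : G), ((F K w).re : ℂ) = F K w := by
    intro K w
    rw [hF]
    exact Complex.conj_eq_iff_re.mp (subContrib_conj w K (βS K) _ _)
  -- the lower bound
  have hlow := card_mul_pow_height_le_of_major hM inst B χ hχ Z d hdB hZord hZpow hZinj m (by
    intro u hu
    refine ⟨Subgroup.centralizer ({u} : Set G), βS _, rfl, (hβfacts u hu).1, (hβfacts u hu).2, ?_⟩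
    intro j hj
    obtain ⟨k, hk⟩ := hZk u hu
    have hcent := centralizer_pow_eq_of_coprime u j (by rw [hk]; exact Nat.Coprime.pow_right k hj)
    rw [hm]
    change ((F (Subgroup.centralizer ({u ^ j} : Set G)) (u ^ j)).re : ℂ) = _
    rw [hcent, hFreal, hF])
  -- the upper bound
  have hup := sum_subContrib_le_of_fusion hM inst χ Z hZk
    (fun u => βS (Subgroup.centralizer ({u} : Set G))) (fun u hu => (hβin u hu).2.1) m (by
      intro u hu
      rw [hm]
      change ((F (Subgroup.centralizer ({u} : Set G)) u).re : ℂ) = _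
      rw [hFreal, hF]) e (by
      intro u hu
      rw [← he]
      obtain ⟨huD, huZ⟩ := (hZmem u).mp hu
      apply card_le_relIndex_of_conj H T u
      · intro h hh
        exact Subgroup.mem_centralizer_singleton_iff.mp (hHK u hu hh)
      · intro v hv
        rw [Finset.mem_filter] at hv
        obtain ⟨hvZ', x, hx, φ, hφ, hφβ⟩ := hv
        obtain ⟨hvD, hvZ⟩ := (hZmem v).mp hvZ'
        obtain ⟨t, htD, htS, htv⟩ := exists_stab_of_fusion hM B D hBD H hH b hind u v huD huZ
          hvD hvZ _ _ (hβin u hu) (hβin v hvZ') x hx φ hφ hφβ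
        refine ⟨t, ?_, htv⟩
        rw [hT]
        exact ⟨htD, (cond_iff_mem_stabSub H b t (hNH htD)).mpr htS⟩)
  -- conclusion
  obtain ⟨h, hh⟩ : ∃ h : ℕ, h = Cfsg.blockHeight p B (χ : G → ℂ) := ⟨_, rfl⟩
  rw [← hh] at hlow ⊢
  rw [hZcard] at hlow
  have hpR : (0 : ℝ) < (p : ℝ) ^ d := pow_pos (by exact_mod_cast hp.pos) d
  have h1 : ((p ^ c : ℕ) : ℝ) * (p : ℝ) ^ h ≤ (p : ℝ) ^ d * (e : ℝ) :=
    hlow.trans (mul_le_mul_of_nonneg_left hup hpR.le)
  have h2 : p ^ c * p ^ h ≤ p ^ d * e := by exact_mod_cast h1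
  have h3 : p ^ (c + h) < p ^ (d + (n + 1)) := by
    rw [pow_add, pow_add]
    calc p ^ c * p ^ h ≤ p ^ d * e := h2
      _ < p ^ d * p ^ (n + 1) := Nat.mul_lt_mul_of_pos_left hn.2 (pow_pos hp.pos d)
  have h4 := (Nat.pow_lt_pow_iff_right hp.one_lt).mp h3
  omega

end main

end Cfsg.Agent.Lib.Helper6
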