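import Mathlib
import Cfsg.Agent.Lib.Helper6.SymCharTwo

set_option autoImplicit false
set_option linter.unusedSectionVars false
set_option linter.unusedVariables false
set_option linter.unusedSimpArgs false

/-! The number of orthonormal bases of a nondegenerate, non-alternating symmetric bilinear form
over a finite field of characteristic two. -/

namespace Cfsg.Agent.Lib.Helper6.ONCount

open Module

universe u

/-- the number of orthonormal bases in dimension `n` over the field with `q` elements -/
def onCount (q : ℕ) : ℕ → ℕ
  | 0 => 1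
  | 1 => 1
  | (n + 2) => onCount q (n + 1) * (if Even n then q ^ (n + 1) else q ^ (n + 1) - 1)

section basic

variable {F : Type*} [Field F] [CharP F 2] {U : Type u} [AddCommGroup U] [Module F U]
variable (B : U →ₗ[F] U →ₗ[F] F)

theorem sq_eq_sq_iff (a b : F) : a * a = b * b ↔ a = b := by
  constructor
  · intro h
    have h1 : (a - b) * (a - b) = 0 := by
      have h2 : (2 : F) = 0 := CharTwo.two_eq_zero
      have : (a - b) * (a - b) = a * a + b * b - 2 * (a * b) := by ring
      rw [this, h2, zero_mul, sub_zero, h, CharTwo.add_self_eq_zero]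
    have := mul_self_eq_zero.mp h1
    exact sub_eq_zero.mp this
  · intro h; rw [h]

/-- expansion in an orthonormal basis -/
theorem repr_orthonormal [FiniteDimensional F U] (hB : B.Nondegenerate) {N : ℕ}
    (b : Fin N → U) (hb : ∀ i j, B (b i) (b j) = if i = j then 1 else 0)
    (hN : finrank F U = N) (x : U) : x = ∑ i, B (b i) x • b i := by
  have hli := SymCharTwo.linearIndependent_of_orthonormal B b hb
  let bs := basisOfLinearIndependentOfCardEqFinrank' b hli (by rw [Fintype.card_fin, hN])
  have hbs : ∀ i, bs i = b i := fun i => by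
    simp [bs, coe_basisOfLinearIndependentOfCardEqFinrank']
  have h1 : x = ∑ i, bs.repr x i • b i := by
    conv_lhs => rw [← bs.sum_repr x]
    simp only [hbs]
  have h2 : ∀ j, B (b j) x = bs.repr x j := by
    intro j
    conv_lhs => rw [h1]
    simp only [map_sum, map_smul, hb, smul_eq_mul]
    rw [Finset.sum_eq_single j (fun i _ hij => by rw [if_neg (Ne.symm hij), mul_zero])
      (fun h => absurd (Finset.mem_univ j) h), if_pos rfl, mul_one]
  simp only [h2]
  exact h1

/-- the diagonal vector of an orthonormal basis -/
theorem diag_spec [FiniteDimensional F U] (hB : B.Nondegenerate) {N : ℕ}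
    (b : Fin N → U) (hb : ∀ i j, B (b i) (b j) = if i = j then 1 else 0)
    (hN : finrank F U = N) :
    (∀ x, B (∑ i, b i) x * B (∑ i, b i) x = B x x) ∧ B (∑ i, b i) (∑ i, b i) = (N : F) := by
  constructor
  · intro x
    have hx := repr_orthonormal B hB b hb hN x
    have h1 : B (∑ i, b i) x = ∑ i, B (b i) x := by
      simp only [map_sum, LinearMap.sum_apply]
    have h2 : B x x = ∑ i, B (b i) x * B (b i) x := by
      conv_lhs => rw [hx]
      simp only [map_sum, map_smul, LinearMap.sum_apply, LinearMap.smul_apply, smul_eq_mul, hb]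
      apply Finset.sum_congr rfl
      intro i _
      rw [Finset.sum_eq_single i (fun j _ hij => by rw [if_neg hij]; ring)
        (fun h => absurd (Finset.mem_univ i) h), if_pos rfl]
      ring
    rw [h1, h2]
    have h3 := sum_pow_char 2 (Finset.univ : Finset (Fin N)) (fun i => B (b i) x)
    simp only [pow_two] at h3
    exact h3
  · simp only [map_sum, LinearMap.sum_apply, hb]
    simp


section diag

variable [Fintype F] [FiniteDimensional F U] (hS : ∀ x y, B x y = B y x) (hB : B.Nondegenerate)
  (d : U) (hd : ∀ x, B d x * B d x = B x x)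

include hd in
theorem unit_iff (a : U) : B a a = 1 ↔ B d a = 1 := by
  rw [← hd a]
  constructor
  · intro h
    exact (sq_eq_sq_iff (B d a) 1).mp (by rw [h, mul_one])
  · intro h
    rw [h, mul_one]

include hd in
/-- the number of unit vectors -/
theorem card_units (hna : ∃ v, B v v ≠ 0) {N : ℕ} (hN : finrank F U = N + 1) :
    Nat.card {a : U // B a a = 1} = Fintype.card F ^ N := by
  obtain ⟨v, hv⟩ := hna
  have hdv : B d v ≠ 0 := by
    intro h
    apply hv
    rw [← hd v, h, mul_zero]
  obtain ⟨a₁, ha₁⟩ : ∃ a₁, B d a₁ = 1 := ⟨(B d v)⁻¹ • v, by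
    rw [map_smul, smul_eq_mul, inv_mul_cancel₀ hdv]⟩
  have hker : finrank F (LinearMap.ker (B d)) = N := by
    have hsurj : LinearMap.range (B d) = ⊤ := by
      rw [eq_top_iff]
      intro c _
      exact ⟨c • a₁, by rw [map_smul, ha₁, smul_eq_mul, mul_one]⟩
    have := LinearMap.finrank_range_add_finrank_ker (B d)
    rw [hsurj, finrank_top, Module.finrank_self, hN] at this
    omega
  have e : {a : U // B a a = 1} ≃ LinearMap.ker (B d) :=
    { toFun := fun a => ⟨a.1 - a₁, by
        rw [LinearMap.mem_ker, map_sub, (unit_iff B d hd a.1).mp a.2, ha₁, sub_self]⟩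
      invFun := fun x => ⟨x.1 + a₁, by
        rw [unit_iff B d hd, map_add, LinearMap.mem_ker.mp x.2, ha₁, zero_add]⟩
      left_inv := fun a => by
        apply Subtype.ext
        show a.1 - a₁ + a₁ = a.1
        abel
      right_inv := fun x => by
        apply Subtype.ext
        show x.1 + a₁ - a₁ = x.1
        abel }
  rw [Nat.card_congr e, Module.natCard_eq_pow_finrank (K := F) (V := LinearMap.ker (B d)), hker,
    Nat.card_eq_fintype_card]

include hS hB hd in
/-- the orthogonal complement of a unit vector `a` is non-alternating iff `a ≠ d` -/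
theorem valid_iff (a : U) (ha : B a a = 1) : (∃ u, B a u = 0 ∧ B u u ≠ 0) ↔ a ≠ d := by
  constructor
  · rintro ⟨u, hu1, hu2⟩ rfl
    apply hu2
    rw [← hd u, hu1, mul_zero]
  · intro hne
    by_contra hcon
    push Not at hcon
    apply hne
    have h2 : (2 : F) = 0 := CharTwo.two_eq_zero
    have key : ∀ x, B a x = B d x := by
      intro x
      have h1 : B a (x - B a x • a) = 0 := by
        rw [map_sub, map_smul, ha, smul_eq_mul, mul_one, sub_self]
      have h3 := hcon _ h1
      have h4 : B (x - B a x • a) (x - B a x • a) = B x x + B a x * B a x := by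
        simp only [map_sub, map_smul, LinearMap.sub_apply, LinearMap.smul_apply, smul_eq_mul, ha,
          hS x a]
        linear_combination (- B a x * B a x) * h2
      rw [h4, ← hd x] at h3
      have h5 : B a x * B a x = B d x * B d x := by
        have := CharTwo.add_eq_zero.mp h3
        exact this.symm
      exact (sq_eq_sq_iff _ _).mp h5
    have h6 : ∀ x, B (a - d) x = 0 := by
      intro x
      rw [map_sub, LinearMap.sub_apply, key, sub_self]
    have := hB.1 _ h6
    exact sub_eq_zero.mp this

include hS hB hd in
/-- the number of unit vectors whose orthogonal complement is non-alternating -/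
theorem card_valid (hna : ∃ v, B v v ≠ 0) {N : ℕ} (hN : finrank F U = N + 1) :
    (B d d = 1 → Nat.card {a : U // B a a = 1 ∧ ∃ u, B a u = 0 ∧ B u u ≠ 0} =
        Fintype.card F ^ N - 1) ∧
      (B d d ≠ 1 → Nat.card {a : U // B a a = 1 ∧ ∃ u, B a u = 0 ∧ B u u ≠ 0} =
        Fintype.card F ^ N) := by
  classical
  have hfin : Finite U := Module.finite_of_finite F
  have e : {a : U // B a a = 1 ∧ ∃ u, B a u = 0 ∧ B u u ≠ 0} ≃
      {a : {a : U // B a a = 1} // a.1 ≠ d} :=
    { toFun := fun a => ⟨⟨a.1, a.2.1⟩, (valid_iff B hS hB d hd a.1 a.2.1).mp a.2.2⟩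
      invFun := fun a => ⟨a.1.1, a.1.2, (valid_iff B hS hB d hd a.1.1 a.1.2).mpr a.2⟩
      left_inv := fun a => rfl
      right_inv := fun a => rfl }
  rw [Nat.card_congr e]
  have hu := card_units B d hd hna hN
  refine ⟨fun hdd => ?_, fun hdd => ?_⟩
  · have h1 : Nat.card {a : {a : U // B a a = 1} // a.1 ≠ d} =
        Nat.card {a : {a : U // B a a = 1} // a ≠ ⟨d, hdd⟩} := by
      apply Nat.card_congr
      apply Equiv.subtypeEquivRight
      intro a
      constructor
      · intro h h'
        apply h
        rw [h']
      · intro h h'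
        apply h
        exact Subtype.ext h'
    rw [h1]
    have : Fintype {a : U // B a a = 1} := Fintype.ofFinite _
    rw [Nat.card_eq_fintype_card, Fintype.card_subtype_compl, Fintype.card_subtype_eq,
      ← Nat.card_eq_fintype_card, hu]
  · have h1 : Nat.card {a : {a : U // B a a = 1} // a.1 ≠ d} = Nat.card {a : U // B a a = 1} := by
      apply Nat.card_congr
      exact
        { toFun := fun a => a.1
          invFun := fun a => ⟨a, fun h => hdd (by rw [← h]; exact a.2)⟩
          left_inv := fun a => rfl
          right_inv := fun a => rfl }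
    rw [h1, hu]

end diag


section compl

variable [FiniteDimensional F U] (hS : ∀ x y, B x y = B y x) (hB : B.Nondegenerate)
  (a : U) (ha : B a a = 1)

include ha in
theorem finrank_ker {N : ℕ} (hN : finrank F U = N + 1) : finrank F (LinearMap.ker (B a)) = N := by
  have hsurj : LinearMap.range (B a) = ⊤ := by
    rw [eq_top_iff]
    intro c _
    exact ⟨c • a, by rw [map_smul, ha, smul_eq_mul, mul_one]⟩
  have := LinearMap.finrank_range_add_finrank_ker (B a)
  rw [hsurj, finrank_top, Module.finrank_self, hN] at this
  omega

include hS hB ha in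
theorem restrict_nondeg :
    (B.domRestrict₁₂ (LinearMap.ker (B a)) (LinearMap.ker (B a))).Nondegenerate := by
  have hsepL : (B.domRestrict₁₂ (LinearMap.ker (B a)) (LinearMap.ker (B a))).SeparatingLeft := by
    intro x hx
    apply Subtype.ext
    apply hB.1 (x : U)
    intro y
    have hw : y - B a y • a ∈ LinearMap.ker (B a) := by
      rw [LinearMap.mem_ker, map_sub, map_smul, ha, smul_eq_mul, mul_one, sub_self]
    have h1 : B (x : U) (y - B a y • a) = 0 := hx ⟨_, hw⟩
    have hxa : B (x : U) a = 0 := by
      rw [hS]; exact LinearMap.mem_ker.mp x.2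
    rw [map_sub, map_smul, hxa, smul_zero, sub_zero] at h1
    exact h1
  refine ⟨hsepL, ?_⟩
  intro y hy
  apply hsepL y
  intro x
  have := hy x
  simp only [LinearMap.domRestrict₁₂_apply] at this ⊢
  rw [hS]; exact this

end compl

end basic

section main

variable {F : Type*} [Field F] [Fintype F] [CharP F 2]

theorem natCast_eq_one_iff (N : ℕ) : ((N : ℕ) : F) = 1 ↔ ¬ Even N := by
  have h2 : (2 : F) = 0 := CharTwo.two_eq_zero
  constructor
  · rintro h ⟨k, rfl⟩
    have : ((k + k : ℕ) : F) = 0 := by
      push_cast
      linear_combination (k : F) * h2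
    rw [this] at h
    exact zero_ne_one h
  · intro h
    obtain ⟨k, rfl⟩ := Nat.not_even_iff_odd.mp h
    push_cast
    linear_combination (k : F) * h2

/-- **The number of orthonormal bases.** -/
theorem card_orthonormal (n : ℕ) :
    ∀ {U : Type u} [AddCommGroup U] [Module F U] [FiniteDimensional F U]
      (B : U →ₗ[F] U →ₗ[F] F), (∀ x y, B x y = B y x) → B.Nondegenerate → (∃ v, B v v ≠ 0) →
      finrank F U = n + 1 →
      Nat.card {a : Fin (n + 1) → U // ∀ i j, B (a i) (a j) = if i = j then 1 else 0} =
        onCount (Fintype.card F) (n + 1) := by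
  induction n with
  | zero =>
    intro U _ _ _ B hS hB hna hN
    obtain ⟨b, hb⟩ := SymCharTwo.exists_orthonormal (0 + 1) B
      ⟨fun x y => by rw [RingHom.id_apply]; exact hS x y⟩ hB hna hN
    obtain ⟨hd, -⟩ := diag_spec B hB b hb hN
    have e : {a : Fin (0 + 1) → U // ∀ i j, B (a i) (a j) = if i = j then 1 else 0} ≃
        {a : U // B a a = 1} :=
      { toFun := fun a => ⟨a.1 0, by simpa using a.2 0 0⟩
        invFun := fun a => ⟨fun _ => a.1, fun i j => by
          have hij : i = j := Fin.ext (by omega)
          rw [if_pos hij]; exact a.2⟩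
        left_inv := fun a => by
          apply Subtype.ext
          funext i
          have hi : i = 0 := Fin.ext (by omega)
          rw [hi]
        right_inv := fun a => rfl }
    rw [Nat.card_congr e, card_units B _ hd hna hN]
    simp [onCount]
  | succ n ih =>
    intro U _ _ _ B hS hB hna hN
    classical
    have hfinU : Finite U := Module.finite_of_finite F
    obtain ⟨b, hb⟩ := SymCharTwo.exists_orthonormal (n + 1 + 1) B
      ⟨fun x y => by rw [RingHom.id_apply]; exact hS x y⟩ hB hna hN
    obtain ⟨hd, hdd⟩ := diag_spec B hB b hb hN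
    set d := ∑ i, b i with hddef
    -- the map to the first vector
    let Valid := {a : U // B a a = 1 ∧ ∃ u, B a u = 0 ∧ B u u ≠ 0}
    let S := {a : Fin (n + 1 + 1) → U // ∀ i j, B (a i) (a j) = if i = j then 1 else 0}
    let φ : S → Valid := fun a => ⟨a.1 0, by simpa using a.2 0 0, a.1 1, by
      have := a.2 0 1
      rw [if_neg (by simp)] at this
      exact this, by
      have := a.2 1 1
      rw [if_pos rfl] at this
      rw [this]
      exact one_ne_zero⟩
    have hfib : ∀ a₀ : Valid, Nat.card {a : S // φ a = a₀} = onCount (Fintype.card F) (n + 1) := by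
      intro a₀
      have hker := finrank_ker B a₀.1 a₀.2.1 hN
      have hnd := restrict_nondeg B hS hB a₀.1 a₀.2.1
      obtain ⟨u, hu1, hu2⟩ := a₀.2.2
      have hna' : ∃ v : LinearMap.ker (B a₀.1),
          (B.domRestrict₁₂ (LinearMap.ker (B a₀.1)) (LinearMap.ker (B a₀.1))) v v ≠ 0 :=
        ⟨⟨u, LinearMap.mem_ker.mpr hu1⟩, hu2⟩
      rw [← ih (B.domRestrict₁₂ (LinearMap.ker (B a₀.1)) (LinearMap.ker (B a₀.1)))
        (fun x y => hS _ _) hnd hna' hker]
      apply Nat.card_congr
      exact
        { toFun := fun a => ⟨fun i => ⟨a.1.1 i.succ, by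
              have h0 : a.1.1 0 = a₀.1 := congrArg Subtype.val a.2
              rw [LinearMap.mem_ker, ← h0, a.1.2 0 i.succ, if_neg (Fin.succ_ne_zero i).symm]⟩,
            fun i j => by
              show B (a.1.1 i.succ) (a.1.1 j.succ) = _
              rw [a.1.2]
              simp only [Fin.succ_inj]⟩
          invFun := fun a' => ⟨⟨Fin.cons a₀.1 (fun i => ((a'.1 i : LinearMap.ker (B a₀.1)) : U)),
            fun i j => by
              refine Fin.cases ?_ (fun i => ?_) i <;> refine Fin.cases ?_ (fun j => ?_) j
              · simp [a₀.2.1]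
              · simp only [Fin.cons_zero, Fin.cons_succ]
                rw [LinearMap.mem_ker.mp (a'.1 j).2, if_neg (Fin.succ_ne_zero j).symm]
              · simp only [Fin.cons_zero, Fin.cons_succ]
                rw [hS, LinearMap.mem_ker.mp (a'.1 i).2, if_neg (Fin.succ_ne_zero i)]
              · simp only [Fin.cons_succ, Fin.succ_inj]
                exact a'.2 i j⟩, by
            apply Subtype.ext
            show (Fin.cons a₀.1 (fun i => ((a'.1 i : LinearMap.ker (B a₀.1)) : U)) :
              Fin (n + 1 + 1) → U) 0 = a₀.1
            exact Fin.cons_zero _ _⟩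
          left_inv := fun a => by
            apply Subtype.ext
            apply Subtype.ext
            funext i
            refine Fin.cases ?_ (fun i => ?_) i
            · have h0 : a.1.1 0 = a₀.1 := congrArg Subtype.val a.2
              dsimp only
              rw [Fin.cons_zero, h0]
            · dsimp only
              rw [Fin.cons_succ]
          right_inv := fun a' => by
            apply Subtype.ext
            funext i
            apply Subtype.ext
            dsimp only
            rw [Fin.cons_succ] }
    have hS1 : Finite S := Subtype.finite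
    have hV1 : Fintype Valid := Fintype.ofFinite _
    rw [show Nat.card {a : Fin (n + 1 + 1) → U // ∀ i j, B (a i) (a j) = if i = j then 1 else 0} =
      Nat.card S from rfl, Nat.card_congr (Equiv.sigmaFiberEquiv φ).symm, Nat.card_sigma]
    simp only [hfib]
    rw [Finset.sum_const, Finset.card_univ, smul_eq_mul, ← Nat.card_eq_fintype_card]
    obtain ⟨hv1, hv2⟩ := card_valid B hS hB d hd hna hN
    rw [show onCount (Fintype.card F) (n + 1 + 1) = onCount (Fintype.card F) (n + 1) *
      (if Even n then Fintype.card F ^ (n + 1) else Fintype.card F ^ (n + 1) - 1) from rfl,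
      mul_comm]
    congr 1
    by_cases hev : Even n
    · rw [if_pos hev]
      apply hv2
      rw [hdd, Ne, natCast_eq_one_iff]
      intro h
      apply h
      obtain ⟨k, hk⟩ := hev
      exact ⟨k + 1, by omega⟩
    · rw [if_neg hev]
      apply hv1
      rw [hdd, natCast_eq_one_iff]
      intro h
      apply hev
      obtain ⟨k, hk⟩ := h
      exact ⟨k - 1, by omega⟩

end main

end Cfsg.Agent.Lib.Helper6.ONCount
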