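import Mathlib
import Cfsg.Agent.Lib.Helper6.CentFrame
import Cfsg.Agent.Lib.Helper6.ONCount

set_option autoImplicit false
set_option linter.unusedSectionVars false
set_option linter.unusedVariables false
set_option linter.unusedSimpArgs false

/-! Orders of the matrix groups `{A | A P Aᵀ = P}` for `P = 1` and `P` the swap permutation,
over a finite field of characteristic two. -/

namespace Cfsg.Agent.Lib.Helper6.MatCount

open Matrix Module Cfsg.Agent.Lib.Helper6.CentFrame Cfsg.Agent.Lib.Helper6.ONCount

variable {F : Type*} [Field F]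

/-- the dot product as a bilinear form -/
def dotB (F : Type*) [Field F] (s : ℕ) : (Fin s → F) →ₗ[F] (Fin s → F) →ₗ[F] F :=
  LinearMap.mk₂ F (fun x y => x ⬝ᵥ y) (fun x x' y => add_dotProduct x x' y)
    (fun c x y => smul_dotProduct c x y) (fun x y y' => dotProduct_add x y y')
    (fun c x y => dotProduct_smul c x y)

theorem dotB_apply (s : ℕ) (x y : Fin s → F) : dotB F s x y = x ⬝ᵥ y := rfl

theorem dotB_nondeg (s : ℕ) : (dotB F s).Nondegenerate := by
  constructor
  · intro x hx
    funext i
    have := hx (Pi.single i 1)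
    rw [dotB_apply, dotProduct_single, mul_one] at this
    exact this
  · intro y hy
    funext i
    have := hy (Pi.single i 1)
    rw [dotB_apply, single_dotProduct, one_mul] at this
    exact this

theorem P_id (s : ℕ) : P F (id : Fin s → Fin s) = 1 := by
  ext i k
  rw [P_apply, Matrix.one_apply]
  simp only [id]
  by_cases h : i = k
  · rw [if_pos h, if_pos h.symm]
  · rw [if_neg h, if_neg (fun h' => h h'.symm)]

/-- orthogonal matrices in characteristic two -/
theorem card_P_id [Fintype F] [CharP F 2] (n : ℕ) :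
    Nat.card {A : Matrix (Fin (n + 1)) (Fin (n + 1)) F //
      A * P F (id : Fin (n + 1) → Fin (n + 1)) * Aᵀ = P F id} = onCount (Fintype.card F) (n + 1) := by
  rw [← card_orthonormal n (dotB F (n + 1)) (fun x y => dotProduct_comm x y) (dotB_nondeg (n + 1))
    ⟨Pi.single 0 1, by rw [dotB_apply, single_dotProduct, one_mul, Pi.single_eq_same]; exact one_ne_zero⟩
    (by rw [Module.finrank_fintype_fun_eq_card, Fintype.card_fin])]
  apply Nat.card_congr
  apply Equiv.subtypeEquivRight
  intro A
  rw [P_id, Matrix.mul_one]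
  constructor
  · intro h i j
    have := congrFun (congrFun h i) j
    rw [Matrix.mul_apply, Matrix.one_apply] at this
    exact this
  · intro h
    ext i j
    rw [Matrix.mul_apply, Matrix.one_apply]
    exact h i j

theorem P_swap [CharP F 2] (k : ℕ) : P F (Sum.swap : Fin k ⊕ Fin k → Fin k ⊕ Fin k) = J (Fin k) F := by
  ext i j
  rw [P_apply]
  rcases i with i | i <;> rcases j with j | j
  · simp [J, Matrix.fromBlocks_apply₁₁]
  · simp only [Sum.swap_inl, Sum.inr.injEq, J, Matrix.fromBlocks_apply₁₂, Matrix.neg_apply,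
      Matrix.one_apply, CharTwo.neg_eq]
    by_cases h : i = j
    · rw [if_pos h, if_pos h.symm]
    · rw [if_neg h, if_neg (fun h' => h h'.symm)]
  · simp [J, Matrix.fromBlocks_apply₂₁, Matrix.one_apply, eq_comm]
  · simp [J, Matrix.fromBlocks_apply₂₂]

/-- symplectic matrices -/
theorem card_P_swap [CharP F 2] (k : ℕ) :
    Nat.card {A : Matrix (Fin k ⊕ Fin k) (Fin k ⊕ Fin k) F //
      A * P F (Sum.swap : Fin k ⊕ Fin k → Fin k ⊕ Fin k) * Aᵀ = P F Sum.swap} =
      Nat.card ↥(symplecticGroup (Fin k) F) := by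
  apply Nat.card_congr
  apply Equiv.subtypeEquivRight
  intro A
  rw [P_swap, SymplecticGroup.mem_iff]

/-- the order of `Sp_{2k}(q)` as a function -/
def spOrd (q k : ℕ) : ℕ := q ^ (k ^ 2) * ∏ i ∈ Finset.range k, (q ^ (2 * (i + 1)) - 1)

theorem onCount_closed (q k : ℕ) :
    onCount q (2 * k + 1) = spOrd q k ∧ onCount q (2 * k + 2) = q ^ (2 * k + 1) * spOrd q k := by
  induction k with
  | zero =>
    constructor
    · simp [onCount, spOrd]
    · simp [onCount, spOrd]
  | succ k ih =>
    have h1 : onCount q (2 * (k + 1) + 1) = spOrd q (k + 1) := by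
      rw [show 2 * (k + 1) + 1 = (2 * k + 1) + 2 from by ring]
      rw [show onCount q ((2 * k + 1) + 2) = onCount q ((2 * k + 1) + 1) *
        (if Even (2 * k + 1) then q ^ ((2 * k + 1) + 1) else q ^ ((2 * k + 1) + 1) - 1) from rfl]
      rw [if_neg (by simp), ih.2]
      unfold spOrd
      rw [Finset.prod_range_succ]
      have : (k + 1) ^ 2 = 2 * k + 1 + k ^ 2 := by ring
      rw [this, pow_add, show 2 * k + 1 + 1 = 2 * (k + 1) from by ring]
      ring
    refine ⟨h1, ?_⟩
    rw [show 2 * (k + 1) + 2 = (2 * (k + 1)) + 2 from rfl]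
    rw [show onCount q ((2 * (k + 1)) + 2) = onCount q ((2 * (k + 1)) + 1) *
      (if Even (2 * (k + 1)) then q ^ ((2 * (k + 1)) + 1) else q ^ ((2 * (k + 1)) + 1) - 1) from rfl]
    rw [if_pos (by simp), h1]
    ring

end Cfsg.Agent.Lib.Helper6.MatCount
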