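import Mathlib
import Cfsg.Agent.Lib.Helper4.DegSet
import Cfsg.Agent.Lib.Helper6.Ito
import Cfsg.Agent.Lib.Helper6.Linear
import Cfsg.Agent.Lib.Helper6.Auto
import Cfsg.Agent.Lib.Helper6.ClassCount
import Cfsg.Agent.Lib.Helper4.DicCount2

/-!
# General counting lemmas for McKay-type equalities
-/

set_option autoImplicit false
open Cfsg

namespace Cfsg.Agent.Lib.Helper6.McKay

open Cfsg.Agent.Lib.Helper4 Cfsg.Agent.Lib.Helper6

universe u v

section general

variable {G : Type u} [Group G] [Finite G]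

/-- counting irreducible characters with a property of the degree, sorted by degree -/
theorem card_subtype_degN (D : Finset ℕ) (h : ∀ ψ : Cfsg.IrrCharacter G, degN ψ ∈ D)
    (P : ℕ → Prop) [DecidablePred P] :
    Nat.card {ψ : Cfsg.IrrCharacter G // P (degN ψ)} =
      ∑ d ∈ D, if P d then Nat.card {ψ : Cfsg.IrrCharacter G // (ψ : G → ℂ) 1 = (d : ℂ)}
        else 0 := by
  classical
  haveI : Fintype (Cfsg.IrrCharacter G) := Fintype.ofFinite _
  rw [Nat.card_eq_fintype_card, Fintype.card_subtype]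
  have hmaps : ((Finset.univ.filter (fun ψ : Cfsg.IrrCharacter G => P (degN ψ)) :
      Finset _) : Set _).MapsTo degN D := fun ψ _ => h ψ
  rw [Finset.card_eq_sum_card_fiberwise hmaps]
  apply Finset.sum_congr rfl
  intro d _
  split_ifs with hP
  · rw [← card_degN, Nat.card_eq_fintype_card, Fintype.card_subtype]
    congr 1
    ext ψ
    simp only [Finset.mem_filter, Finset.mem_univ, true_and]
    constructor
    · rintro ⟨_, h2⟩
      exact h2
    · intro h2
      exact ⟨h2 ▸ hP, h2⟩
  · rw [Finset.card_eq_zero, Finset.filter_eq_empty_iff]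
    intro ψ hψ h2
    rw [Finset.mem_filter] at hψ
    exact hP (h2 ▸ hψ.2)

/-- the same with `charDegree` -/
theorem card_subtype_charDegree (D : Finset ℕ) (h : ∀ ψ : Cfsg.IrrCharacter G, degN ψ ∈ D)
    (P : ℕ → Prop) [DecidablePred P] :
    Nat.card {ψ : Cfsg.IrrCharacter G // P (Cfsg.charDegree (ψ : G → ℂ))} =
      ∑ d ∈ D, if P d then Nat.card {ψ : Cfsg.IrrCharacter G // (ψ : G → ℂ) 1 = (d : ℂ)}
        else 0 := by
  rw [← card_subtype_degN D h P]
  apply Nat.card_congr
  exact Equiv.subtypeEquivRight (fun ψ => by rw [charDegree_eq_degN])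

/-- if an abelian normal subgroup has index prime to `ℓ` (in the strong sense that no divisor of
the index is divisible by `ℓ`), then every irreducible character has degree prime to `ℓ` -/
theorem card_not_dvd_of_abelian_normal (ℓ : ℕ) (A : Subgroup G) (hA : A.Normal)
    (hcomm : ∀ a ∈ A, ∀ b ∈ A, a * b = b * a) (hcop : ∀ d : ℕ, d ∣ A.index → ¬ ℓ ∣ d) :
    Nat.card {ψ : Cfsg.IrrCharacter G // ¬ ℓ ∣ Cfsg.charDegree (ψ : G → ℂ)} =
      Nat.card (ConjClasses G) := by
  rw [← card_irrCharacter]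
  apply Nat.card_congr
  refine Equiv.subtypeUnivEquiv ?_
  intro ψ
  obtain ⟨d, hd, hdvd⟩ := ito_aux _ G rfl A hA hcomm ψ.1 ψ.2
  rw [charDegree_eq_of_apply_one hd]
  exact hcop d hdvd

/-- transport of irreducible characters along an isomorphism -/
noncomputable def irrCongr {H : Type v} [Group H] [Finite H] (e : G ≃* H) :
    Cfsg.IrrCharacter G ≃ Cfsg.IrrCharacter H where
  toFun θ := ⟨fun k => (θ : G → ℂ) (e.symm k), IsIrrCharacter.comp_mulEquiv e.symm θ.2⟩
  invFun θ := ⟨fun k => (θ : H → ℂ) (e k), IsIrrCharacter.comp_mulEquiv e θ.2⟩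
  left_inv θ := by
    apply Subtype.ext
    funext k
    simp
  right_inv θ := by
    apply Subtype.ext
    funext k
    simp

theorem irrCongr_apply_one {H : Type v} [Group H] [Finite H] (e : G ≃* H)
    (θ : Cfsg.IrrCharacter G) : (irrCongr e θ : H → ℂ) 1 = (θ : G → ℂ) 1 := by
  show (θ : G → ℂ) (e.symm 1) = _
  rw [map_one]

theorem charDegree_irrCongr {H : Type v} [Group H] [Finite H] (e : G ≃* H)
    (θ : Cfsg.IrrCharacter G) :
    Cfsg.charDegree (irrCongr e θ : H → ℂ) = Cfsg.charDegree (θ : G → ℂ) := by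
  unfold Cfsg.charDegree
  rw [irrCongr_apply_one]

/-- the number of irreducible characters of degree prime to `ℓ` is an isomorphism invariant -/
theorem card_not_dvd_congr {H : Type v} [Group H] [Finite H] (e : G ≃* H) (ℓ : ℕ) :
    Nat.card {ψ : Cfsg.IrrCharacter G // ¬ ℓ ∣ Cfsg.charDegree (ψ : G → ℂ)} =
      Nat.card {ψ : Cfsg.IrrCharacter H // ¬ ℓ ∣ Cfsg.charDegree (ψ : H → ℂ)} := by
  apply Nat.card_congr
  refine Equiv.subtypeEquiv (irrCongr e) ?_
  intro θ
  rw [charDegree_irrCongr]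

/-- the number of conjugacy classes is an isomorphism invariant -/
theorem card_conjClasses_congr {H : Type v} [Group H] [Finite H] (e : G ≃* H) :
    Nat.card (ConjClasses G) = Nat.card (ConjClasses H) := by
  rw [← card_irrCharacter, ← card_irrCharacter]
  exact Nat.card_congr (irrCongr e)

/-- if all degrees are `1` or `2`, the number of linear characters is determined by the order and
the class number -/
theorem card_odd_of_degrees_le_two (A : Subgroup G) (hA : A.Normal)
    (hcomm : ∀ a ∈ A, ∀ b ∈ A, a * b = b * a) (hidx : A.index = 2) :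
    3 * Nat.card {ψ : Cfsg.IrrCharacter G // ¬ 2 ∣ Cfsg.charDegree (ψ : G → ℂ)} + Nat.card G =
      4 * Nat.card (ConjClasses G) := by
  classical
  haveI : Fintype G := Fintype.ofFinite G
  haveI : Fintype (Cfsg.IrrCharacter G) := Fintype.ofFinite _
  have hD : ∀ ψ : Cfsg.IrrCharacter G, degN ψ ∈ ({1, 2} : Finset ℕ) := by
    intro ψ
    obtain ⟨d, hd, hdvd⟩ := ito_aux _ G rfl A hA hcomm ψ.1 ψ.2
    rw [hidx] at hdvd
    have : degN ψ = d := (degN_eq_iff ψ d).2 hd
    rw [this]
    have hle : d ≤ 2 := Nat.le_of_dvd (by norm_num) hdvd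
    have h0 : d ≠ 0 := by
      rintro rfl
      simp at hdvd
    simp only [Finset.mem_insert, Finset.mem_singleton]
    omega
  obtain ⟨hE1, hE2⟩ := by_degree _ hD
  have hE3 := card_subtype_charDegree _ hD (fun d => ¬ 2 ∣ d)
  rw [card_irrCharacter, Finset.sum_pair (by norm_num)] at hE1
  rw [Finset.sum_pair (by norm_num)] at hE2
  rw [Finset.sum_pair (by norm_num), if_pos (by norm_num), if_neg (by norm_num)] at hE3
  rw [hE3, hE1, hE2]
  ring

end general

section dic

variable {G : Type u} [Group G] [Finite G]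

theorem index_subgroupOf_eq_two (T N : Subgroup G) (hTN : T ≤ N)
    (hcard : Nat.card N = 2 * Nat.card T) : (T.subgroupOf N).index = 2 := by
  have h1 := (T.subgroupOf N).card_mul_index
  rw [Nat.card_congr (Subgroup.subgroupOfEquivOfLe hTN).toEquiv, hcard] at h1
  have hpos : 0 < Nat.card T := Nat.card_pos
  have : Nat.card T * (T.subgroupOf N).index = Nat.card T * 2 := by rw [h1]; ring
  exact Nat.eq_of_mul_eq_mul_left hpos this

/-- the class number of a group `N` with an abelian subgroup `T` of index two inverted by the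
elements outside it, when `T` has exactly two elements of square one -/
theorem dic_classes (T N : Subgroup G) (hTN : T ≤ N) (hcard : Nat.card N = 2 * Nat.card T)
    (hcomm : ∀ y ∈ T, ∀ y' ∈ T, y * y' = y' * y)
    (hinv : ∀ x ∈ N, x ∉ T → ∀ y ∈ T, x⁻¹ * y * x = y⁻¹)
    (hZ : Nat.card {t : T // t ^ 2 = 1} = 2) :
    2 * Nat.card (ConjClasses N) = Nat.card T + 6 := by
  have hidx := index_subgroupOf_eq_two T N hTN hcard
  obtain ⟨w, hwN, hwT⟩ : ∃ w ∈ N, w ∉ T := by
    by_contra hcon
    push Not at hcon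
    have hle : N ≤ T := hcon
    have h1 := Subgroup.card_le_of_le hle
    have hpos : 0 < Nat.card T := Nat.card_pos
    omega
  have hN : ∀ g, g ∈ N ↔ g ∈ T ∨ w⁻¹ * g ∈ T := by
    intro g
    constructor
    · intro hg
      by_cases hgT : g ∈ T
      · exact Or.inl hgT
      · right
        have h1 := Subgroup.mul_mem_iff_of_index_two hidx
          (a := (⟨w⁻¹, N.inv_mem hwN⟩ : N)) (b := ⟨g, hg⟩)
        rw [Subgroup.mem_subgroupOf, Subgroup.mem_subgroupOf, Subgroup.mem_subgroupOf] at h1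
        simp only [Subgroup.coe_mul] at h1
        rw [h1]
        constructor
        · intro h
          exact absurd (by simpa using T.inv_mem h) hwT
        · intro h
          exact absurd h hgT
    · rintro (h | h)
      · exact hTN h
      · have := N.mul_mem hwN (hTN h)
        rwa [mul_inv_cancel_left] at this
  exact Cfsg.Agent.Lib.Helper4.DicCount.card_conjClasses T N w hwT hN hcomm
    (fun y hy => hinv w hwN hwT y hy) hZ

/-- McKay count at an odd prime for such a group -/
theorem dic_count_odd (T N : Subgroup G) (hTN : T ≤ N) (hcard : Nat.card N = 2 * Nat.card T)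
    (hcomm : ∀ y ∈ T, ∀ y' ∈ T, y * y' = y' * y)
    (hinv : ∀ x ∈ N, x ∉ T → ∀ y ∈ T, x⁻¹ * y * x = y⁻¹)
    (hZ : Nat.card {t : T // t ^ 2 = 1} = 2) (ℓ : ℕ) (hℓ : 3 ≤ ℓ) :
    2 * Nat.card {ψ : Cfsg.IrrCharacter N // ¬ ℓ ∣ Cfsg.charDegree (ψ : N → ℂ)} =
      Nat.card T + 6 := by
  have hidx := index_subgroupOf_eq_two T N hTN hcard
  have hA : (T.subgroupOf N).Normal := Subgroup.normal_of_index_eq_two hidx
  have hc : ∀ a ∈ T.subgroupOf N, ∀ b ∈ T.subgroupOf N, a * b = b * a := by
    intro a ha b hb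
    apply Subtype.ext
    exact hcomm _ (Subgroup.mem_subgroupOf.1 ha) _ (Subgroup.mem_subgroupOf.1 hb)
  have hcop : ∀ d : ℕ, d ∣ (T.subgroupOf N).index → ¬ ℓ ∣ d := by
    intro d hd h
    rw [hidx] at hd
    have h1 := Nat.le_of_dvd (by norm_num) hd
    have h2 : 0 < d := Nat.pos_of_dvd_of_pos hd (by norm_num)
    have h3 := Nat.le_of_dvd h2 h
    omega
  rw [card_not_dvd_of_abelian_normal ℓ _ hA hc hcop]
  exact dic_classes T N hTN hcard hcomm hinv hZ

/-- McKay count at the prime two for such a group -/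
theorem dic_count_two (T N : Subgroup G) (hTN : T ≤ N) (hcard : Nat.card N = 2 * Nat.card T)
    (hcomm : ∀ y ∈ T, ∀ y' ∈ T, y * y' = y' * y)
    (hinv : ∀ x ∈ N, x ∉ T → ∀ y ∈ T, x⁻¹ * y * x = y⁻¹)
    (hZ : Nat.card {t : T // t ^ 2 = 1} = 2) :
    Nat.card {ψ : Cfsg.IrrCharacter N // ¬ 2 ∣ Cfsg.charDegree (ψ : N → ℂ)} = 4 := by
  have hidx := index_subgroupOf_eq_two T N hTN hcard
  have hA : (T.subgroupOf N).Normal := Subgroup.normal_of_index_eq_two hidx
  have hc : ∀ a ∈ T.subgroupOf N, ∀ b ∈ T.subgroupOf N, a * b = b * a := by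
    intro a ha b hb
    apply Subtype.ext
    exact hcomm _ (Subgroup.mem_subgroupOf.1 ha) _ (Subgroup.mem_subgroupOf.1 hb)
  have h1 := card_odd_of_degrees_le_two (T.subgroupOf N) hA hc hidx
  have h2 := dic_classes T N hTN hcard hcomm hinv hZ
  omega

end dic

end Cfsg.Agent.Lib.Helper6.McKay
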