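import Mathlib
import Cfsg.Agent.S2437
import Cfsg.Agent.Lib.Helper4.SL2Sylow
import Cfsg.Agent.Lib.Helper4.SL2IndInner
import Cfsg.Agent.Lib.Helper6.McKayAux

/-!
# McKay for `SL₂(q)`, `q` odd: the local side at the defining characteristic
-/

set_option autoImplicit false
open Cfsg

namespace Cfsg.Agent.Lib.Helper6.McKay

open Cfsg.Agent.Lib.Helper4 Cfsg.Agent.Lib.Helper6 Matrix
open scoped Pointwise

section borel

variable {F : Type*} [Field F]

local notation "SL2" => Matrix.SpecialLinearGroup (Fin 2) F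

/-- the normaliser of the upper unitriangular subgroup is the Borel subgroup -/
theorem normalizer_unipSL :
    Subgroup.normalizer ((unipSL F : Subgroup SL2) : Set SL2) = borelSL2 F := by
  ext k
  rw [mem_borelSL2_iff]
  constructor
  · intro hk
    have h1 := (Subgroup.mem_normalizer_iff.1 hk (upperU 1)).1 ((mem_unipSL_iff _).2 ⟨1, rfl⟩)
    obtain ⟨b', hb'⟩ := (mem_unipSL_iff _).1 h1
    have h2 : ((k * upperU 1 * k⁻¹ : SL2) : Matrix (Fin 2) (Fin 2) F) 1 0 =
        - ((k : Matrix (Fin 2) (Fin 2) F) 1 0) ^ 2 := by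
      simp only [Matrix.SpecialLinearGroup.coe_mul, Matrix.SpecialLinearGroup.coe_inv,
        Matrix.adjugate_fin_two, upperU_coe, Matrix.mul_apply, Fin.sum_univ_two,
        Matrix.of_apply, Matrix.cons_val', Matrix.cons_val_zero, Matrix.cons_val_one,
        Matrix.cons_val_fin_one]
      ring
    rw [hb', upperU_coe] at h2
    simp only [Matrix.of_apply, Matrix.cons_val', Matrix.cons_val_zero, Matrix.cons_val_one,
      Matrix.cons_val_fin_one] at h2
    have h3 : ((k : Matrix (Fin 2) (Fin 2) F) 1 0) ^ 2 = 0 := by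
      linear_combination h2
    exact pow_eq_zero_iff (two_ne_zero) |>.1 h3
  · intro hz
    rw [Subgroup.mem_normalizer_iff]
    intro x
    constructor
    · intro hx
      obtain ⟨b, rfl⟩ := (mem_unipSL_iff _).mp hx
      obtain ⟨b', hb'⟩ := conj_upperU_of_borel k hz b
      exact (mem_unipSL_iff _).mpr ⟨b', hb'⟩
    · intro hx
      obtain ⟨b, hb⟩ := (mem_unipSL_iff _).mp hx
      have hz' : ((k⁻¹ : SL2) : Matrix (Fin 2) (Fin 2) F) 1 0 = 0 := by
        rw [Matrix.SpecialLinearGroup.coe_inv, Matrix.adjugate_fin_two]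
        simp [hz]
      obtain ⟨b', hb'⟩ := conj_upperU_of_borel k⁻¹ hz' b
      rw [← hb, inv_inv] at hb'
      have : x = upperU b' := by
        rw [← hb']; group
      exact (mem_unipSL_iff _).mpr ⟨b', this⟩

theorem unipSL_le_borel : unipSL F ≤ borelSL2 F := by
  rw [← normalizer_unipSL]
  exact Subgroup.le_normalizer

theorem unipSL_comm (a b : SL2) (ha : a ∈ unipSL F) (hb : b ∈ unipSL F) : a * b = b * a := by
  obtain ⟨x, rfl⟩ := (mem_unipSL_iff _).1 ha
  obtain ⟨y, rfl⟩ := (mem_unipSL_iff _).1 hb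
  rw [← upperU_add, ← upperU_add, add_comm]

variable [Fintype F]

/-- the local side at the defining characteristic, for the Borel subgroup -/
theorem borel_count (hodd : Odd (Fintype.card F)) (p : ℕ) (hp : p.Prime)
    (hpq : p ∣ Fintype.card F) :
    Nat.card {ψ : Cfsg.IrrCharacter (borelSL2 F) // ¬ p ∣ Cfsg.charDegree (ψ : borelSL2 F → ℂ)} =
      Fintype.card F + 3 := by
  classical
  have hq1 : 1 ≤ Fintype.card F := Fintype.card_pos
  have hA : ((unipSL F).subgroupOf (borelSL2 F)).Normal := by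
    rw [Subgroup.normal_subgroupOf_iff_le_normalizer unipSL_le_borel, normalizer_unipSL]
  have hcomm : ∀ a ∈ (unipSL F).subgroupOf (borelSL2 F),
      ∀ b ∈ (unipSL F).subgroupOf (borelSL2 F), a * b = b * a := by
    intro a ha b hb
    apply Subtype.ext
    exact unipSL_comm _ _ (Subgroup.mem_subgroupOf.1 ha) (Subgroup.mem_subgroupOf.1 hb)
  have hidx : ((unipSL F).subgroupOf (borelSL2 F)).index = Fintype.card F - 1 := by
    have h1 := ((unipSL F).subgroupOf (borelSL2 F)).card_mul_index
    rw [Nat.card_congr (Subgroup.subgroupOfEquivOfLe unipSL_le_borel).toEquiv, card_unipSL,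
      card_borelSL2, mul_comm (Fintype.card F - 1)] at h1
    exact Nat.eq_of_mul_eq_mul_left (by omega) h1
  have hcop : ∀ d : ℕ, d ∣ ((unipSL F).subgroupOf (borelSL2 F)).index → ¬ p ∣ d := by
    intro d hd h
    rw [hidx] at hd
    have h1 : p ∣ Fintype.card F - 1 := h.trans hd
    have h2 : p ∣ Fintype.card F - (Fintype.card F - 1) := Nat.dvd_sub hpq h1
    have e : Fintype.card F - (Fintype.card F - 1) = 1 := by omega
    rw [e] at h2
    exact hp.one_lt.ne' (Nat.dvd_one.1 h2)
  rw [card_not_dvd_of_abelian_normal p _ hA hcomm hcop]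
  exact Cfsg.Agent.S2437.result hodd

/-- the local side at the defining characteristic -/
theorem nside_char (hodd : Odd (Fintype.card F)) (p : ℕ) [Fact p.Prime] [CharP F p]
    (S : Sylow p SL2) :
    Nat.card {ψ : Cfsg.IrrCharacter (Subgroup.normalizer ((S : Subgroup SL2) : Set SL2)) //
      ¬ p ∣ Cfsg.charDegree (ψ : Subgroup.normalizer ((S : Subgroup SL2) : Set SL2) → ℂ)} =
      Fintype.card F + 3 := by
  classical
  have hp : p.Prime := Fact.out
  obtain ⟨n, -, hn⟩ := FiniteField.card F p
  have hpq : p ∣ Fintype.card F := by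
    rw [hn]
    exact dvd_pow_self p n.ne_zero
  obtain ⟨g, hg⟩ := MulAction.exists_smul_eq SL2 (sylowUnipSL (F := F) p) S
  have hSQ : (S : Subgroup SL2) = (unipSL F).map (MulAut.conj g).toMonoidHom := by
    rw [← hg, Sylow.coe_subgroup_smul]
    rfl
  have hNS : Subgroup.normalizer ((S : Subgroup SL2) : Set SL2) =
      (borelSL2 F).map (MulAut.conj g).toMonoidHom := by
    rw [hSQ, ← Subgroup.map_equiv_normalizer_eq, normalizer_unipSL]
  let e : borelSL2 F ≃* Subgroup.normalizer ((S : Subgroup SL2) : Set SL2) :=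
    ((borelSL2 F).equivMapOfInjective (MulAut.conj g).toMonoidHom (MulAut.conj g).injective).trans
      (MulEquiv.subgroupCongr hNS.symm)
  rw [← card_not_dvd_congr e p]
  exact borel_count hodd p hp hpq

end borel

end Cfsg.Agent.Lib.Helper6.McKay
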