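import Mathlib
import Cfsg.Agent.Lib.Helper6.McKayAux
import Cfsg.Agent.Lib.Helper6.Multiplicity

/-!
# Odd degree characters of a group of order 24 with a normal quaternion Sylow 2-subgroup on which
an element of order three acts non-trivially
-/

set_option autoImplicit false
open Cfsg

namespace Cfsg.Agent.Lib.Helper6.McKay

open Cfsg.Agent.Lib.Helper4 Cfsg.Agent.Lib.Helper6

universe u

section q24

variable {N : Type u} [Group N] [Finite N]

omit [Finite N] in
theorem conj_cube (x y : N) (hx3 : x ^ 3 = 1) :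
    x⁻¹ * (x⁻¹ * (x⁻¹ * y * x) * x) * x = y := by
  have h2 : x * x * x = 1 := by rw [← hx3, pow_succ, pow_two]
  have h1 : x⁻¹ * x⁻¹ * x⁻¹ = 1 := by
    calc x⁻¹ * x⁻¹ * x⁻¹ = (x * x * x)⁻¹ := by group
      _ = 1 := by rw [h2, inv_one]
  calc x⁻¹ * (x⁻¹ * (x⁻¹ * y * x) * x) * x = (x⁻¹ * x⁻¹ * x⁻¹) * y * (x * x * x) := by group
    _ = y := by rw [h1, h2, one_mul, mul_one]

theorem q24_le_commutator (hN : Nat.card N = 24) (S : Subgroup N) (hSn : S.Normal)
    (hS : Nat.card S = 8) (z : N) (hz : ∀ g : N, g * z = z * g)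
    (hinvol : ∀ s ∈ S, s * s = 1 → s = 1 ∨ s = z)
    (hcent : ∀ x : N, (∀ s ∈ S, x * s = s * x) → x ^ 3 = 1 → x = 1) :
    S ≤ commutator N := by
  classical
  by_contra hcon
  haveI : Fact (Nat.Prime 3) := ⟨Nat.prime_three⟩
  obtain ⟨x, hx⟩ := exists_prime_orderOf_dvd_card' (G := N) 3 (by rw [hN]; norm_num)
  have hx3 : x ^ 3 = 1 := by
    rw [← hx]
    exact pow_orderOf_eq_one x
  have hKn : (commutator N).Normal := inferInstance
  obtain ⟨K₀, hK₀⟩ : ∃ K₀ : Subgroup N, K₀ = commutator N ⊓ S := ⟨_, rfl⟩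
  have hK₀S : K₀ ≤ S := by
    rw [hK₀]
    exact inf_le_right
  have hK₀K : K₀ ≤ commutator N := by
    rw [hK₀]
    exact inf_le_left
  have hK₀n : ∀ k ∈ K₀, ∀ g : N, g⁻¹ * k * g ∈ K₀ := by
    intro k hk g
    rw [hK₀] at hk ⊢
    exact ⟨hKn.conj_mem' k hk.1 g, hSn.conj_mem' k hk.2 g⟩
  have hcK₀ : Nat.card K₀ ≤ 4 ∧ Nat.card K₀ ∣ 8 := by
    have h1 : Nat.card K₀ ∣ 8 := by
      rw [← hS]
      exact Subgroup.card_dvd_of_le hK₀S
    have h2 : Nat.card K₀ ≠ 8 := by
      intro h8
      apply hcon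
      have : K₀ = S := Subgroup.eq_of_le_of_card_ge hK₀S (by rw [hS, h8])
      rw [← this]
      exact hK₀K
    obtain ⟨r, hr⟩ := h1
    have hpos : 0 < Nat.card K₀ := Nat.card_pos
    refine ⟨?_, ⟨r, hr⟩⟩
    have hr1 : r ≠ 1 := by
      rintro rfl
      omega
    have hr0 : r ≠ 0 := by
      rintro rfl
      omega
    have hr2 : 2 ≤ r := by omega
    nlinarith
  -- `x` centralises `K₀`
  have hxK₀ : ∀ k ∈ K₀, x⁻¹ * k * x = k := by
    intro k hk
    by_cases hkk : k * k = 1
    · rcases hinvol k (hK₀S hk) hkk with h | h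
      · rw [h]
        group
      · rw [h, mul_assoc, ← hz x, ← mul_assoc, inv_mul_cancel, one_mul]
    · have ho : orderOf k ∣ Nat.card K₀ := Subgroup.orderOf_dvd_natCard K₀ hk
      have ho8 : orderOf k ∣ 8 := ho.trans hcK₀.2
      have ho1 : orderOf k ≠ 1 := by
        intro h
        rw [orderOf_eq_one_iff] at h
        apply hkk
        rw [h, mul_one]
      have ho2 : orderOf k ≠ 2 := by
        intro h
        apply hkk
        rw [← pow_two, ← h]
        exact pow_orderOf_eq_one k
      have hole : orderOf k ≤ Nat.card K₀ := Nat.le_of_dvd Nat.card_pos ho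
      have ho4 : orderOf k = 4 := by
        have h3 : orderOf k ≤ 4 := hole.trans hcK₀.1
        have h0 : 0 < orderOf k := orderOf_pos k
        have h33 : orderOf k ≠ 3 := by
          intro h
          rw [h] at ho8
          norm_num at ho8
        omega
      have hc4 : Nat.card K₀ = 4 := le_antisymm hcK₀.1 (ho4 ▸ hole)
      have hk4 : k ^ 4 = 1 := by
        rw [← ho4]
        exact pow_orderOf_eq_one k
      have hzp : Subgroup.zpowers k = K₀ :=
        Subgroup.eq_of_le_of_card_ge (by rw [Subgroup.zpowers_le]; exact hk)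
          (by rw [Nat.card_zpowers, ho4, hc4])
      have hc : x⁻¹ * k * x ∈ Subgroup.zpowers k := by
        rw [hzp]
        exact hK₀n k hk x
      rw [mem_zpowers_iff_mem_range_orderOf, ho4] at hc
      obtain ⟨j, hj4, hj⟩ := Finset.mem_image.1 hc
      rw [Finset.mem_range] at hj4
      replace hj : k ^ j = x⁻¹ * k * x := hj
      interval_cases j
      · exfalso
        apply hkk
        have h1 : x⁻¹ * k * x = 1 := by rw [← hj, pow_zero]
        have : k = 1 := by
          calc k = x * (x⁻¹ * k * x) * x⁻¹ := by group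
            _ = 1 := by rw [h1]; group
        rw [this, mul_one]
      · rw [← hj, pow_one]
      · exfalso
        apply hkk
        have h1 : x⁻¹ * (k * k) * x = 1 := by
          calc x⁻¹ * (k * k) * x = (x⁻¹ * k * x) * (x⁻¹ * k * x) := by group
            _ = k ^ 2 * k ^ 2 := by rw [← hj]
            _ = k ^ 4 := by rw [← pow_add]
            _ = 1 := hk4
        calc k * k = x * (x⁻¹ * (k * k) * x) * x⁻¹ := by group
          _ = 1 := by rw [h1]; group
      · exfalso
        apply hkk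
        have e1 : x⁻¹ * k * x = k ^ 3 := hj.symm
        have e2 : x⁻¹ * k ^ 3 * x = k := by
          have h1 : x⁻¹ * k ^ 3 * x = (x⁻¹ * k * x) ^ 3 := by
            have := conj_pow (a := x⁻¹) (b := k) (i := 3)
            rw [inv_inv] at this
            exact this.symm
          rw [h1, e1, ← pow_mul]
          calc k ^ (3 * 3) = k ^ 4 * k ^ 4 * k := by rw [← pow_add, ← pow_succ]
            _ = k := by rw [hk4]; group
        have e3 : x⁻¹ * (x⁻¹ * (x⁻¹ * k * x) * x) * x = k := conj_cube x k hx3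
        rw [e1, e2, e1] at e3
        have h5 : k * k * k = 1 * k := by
          rw [one_mul, ← pow_two, ← pow_succ]
          exact e3
        exact mul_right_cancel h5
  -- `x` centralises `S`
  have hxS : ∀ s ∈ S, x⁻¹ * s * x = s := by
    intro s hs
    obtain ⟨k, hkdef⟩ : ∃ k, k = s⁻¹ * (x⁻¹ * s * x) := ⟨_, rfl⟩
    have hkS : k ∈ S := by
      rw [hkdef]
      exact S.mul_mem (S.inv_mem hs) (hSn.conj_mem' s hs x)
    have hkK₀ : k ∈ K₀ := by
      rw [hK₀]
      refine ⟨?_, hkS⟩
      rw [commutator_def]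
      have h1 := Subgroup.commutator_mem_commutator (Subgroup.mem_top s⁻¹) (Subgroup.mem_top x⁻¹)
      rw [commutatorElement_def] at h1
      have h2 : k = s⁻¹ * x⁻¹ * s⁻¹⁻¹ * x⁻¹⁻¹ := by
        rw [hkdef]
        group
      rw [h2]
      exact h1
    have e1 : x⁻¹ * s * x = s * k := by
      rw [hkdef]
      group
    have e2 : x⁻¹ * k * x = k := hxK₀ k hkK₀
    have e3 : x⁻¹ * (x⁻¹ * (x⁻¹ * s * x) * x) * x = s := conj_cube x s hx3
    have e4 : ∀ y : N, x⁻¹ * (y * k) * x = (x⁻¹ * y * x) * k := by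
      intro y
      calc x⁻¹ * (y * k) * x = (x⁻¹ * y * x) * (x⁻¹ * k * x) := by group
        _ = (x⁻¹ * y * x) * k := by rw [e2]
    rw [e1, e4, e1, e4, e4, e1] at e3
    have hk3 : k ^ 3 = 1 := by
      have h1 : s * k ^ 3 = s * 1 := by
        rw [mul_one, pow_succ, pow_two, ← mul_assoc, ← mul_assoc]
        exact e3
      exact mul_left_cancel h1
    have hk8 : k ^ 8 = 1 := by
      have h1 := pow_card_eq_one' (G := S) (x := ⟨k, hkS⟩)
      rw [hS] at h1
      have h2 := congrArg Subtype.val h1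
      rwa [Subgroup.coe_pow] at h2
    have hk1 : k = 1 := by
      calc k = k ^ 8 * k := by rw [hk8, one_mul]
        _ = k ^ (3 * 3) := by rw [← pow_succ]
        _ = (k ^ 3) ^ 3 := pow_mul k 3 3
        _ = 1 := by rw [hk3, one_pow]
    rw [e1, hk1, mul_one]
  have hx1 := hcent x (fun s hs => by
    have h1 := hxS s hs
    calc x * s = x * (x⁻¹ * s * x) := by rw [h1]
      _ = s * x := by group) hx3
  rw [hx1, orderOf_one] at hx
  norm_num at hx

theorem q24_commutator_eq (hN : Nat.card N = 24) (S : Subgroup N) (hSn : S.Normal)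
    (hS : Nat.card S = 8) (z : N) (hz : ∀ g : N, g * z = z * g)
    (hinvol : ∀ s ∈ S, s * s = 1 → s = 1 ∨ s = z)
    (hcent : ∀ x : N, (∀ s ∈ S, x * s = s * x) → x ^ 3 = 1 → x = 1) :
    commutator N = S := by
  apply le_antisymm
  · haveI := hSn
    have hc3 : Nat.card (N ⧸ S) = 3 := by
      rw [← Subgroup.index_eq_card]
      have := S.card_mul_index
      rw [hS, hN] at this
      omega
    haveI : Fact (Nat.Prime 3) := ⟨Nat.prime_three⟩
    haveI : IsCyclic (N ⧸ S) := isCyclic_of_prime_card hc3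
    letI : CommGroup (N ⧸ S) := IsCyclic.commGroup
    have := Abelianization.commutator_subset_ker (QuotientGroup.mk' S)
    rwa [QuotientGroup.ker_mk'] at this
  · exact q24_le_commutator hN S hSn hS z hz hinvol hcent

/-- the number of odd degree characters is four -/
theorem q24_count (hN : Nat.card N = 24) (S : Subgroup N) (hSn : S.Normal)
    (hS : Nat.card S = 8) (z : N) (hz : ∀ g : N, g * z = z * g)
    (hinvol : ∀ s ∈ S, s * s = 1 → s = 1 ∨ s = z)
    (hcent : ∀ x : N, (∀ s ∈ S, x * s = s * x) → x ^ 3 = 1 → x = 1) :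
    Nat.card {ψ : Cfsg.IrrCharacter N // ¬ 2 ∣ Cfsg.charDegree (ψ : N → ℂ)} = 4 := by
  classical
  haveI : Fintype N := Fintype.ofFinite N
  haveI : Fintype (Cfsg.IrrCharacter N) := Fintype.ofFinite _
  have hcomm := q24_commutator_eq hN S hSn hS z hz hinvol hcent
  have hL : Nat.card {χ : Cfsg.IrrCharacter N // (χ : N → ℂ) 1 = 1} = 3 := by
    rw [card_linear_characters, hcomm]
    have := S.card_mul_index
    rw [hS, hN] at this
    omega
  have hD : ∀ ψ : Cfsg.IrrCharacter N, degN ψ ∈ ({1, 2, 3, 4, 6, 8, 12, 24} : Finset ℕ) := by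
    intro ψ
    have h1 : degN ψ ∣ 24 := by
      rw [← hN, ← charDegree_eq_degN]
      exact IsIrrCharacter.charDegree_dvd_card ψ.2
    have h2 : degN ψ ∈ Nat.divisors 24 := Nat.mem_divisors.2 ⟨h1, by norm_num⟩
    have h3 : Nat.divisors 24 = {1, 2, 3, 4, 6, 8, 12, 24} := by decide
    rwa [h3] at h2
  obtain ⟨-, hE2⟩ := by_degree _ hD
  have hE3 := card_subtype_charDegree _ hD (fun d => ¬ 2 ∣ d)
  rw [Finset.sum_insert (by decide), Finset.sum_insert (by decide), Finset.sum_insert (by decide),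
    Finset.sum_insert (by decide), Finset.sum_insert (by decide), Finset.sum_insert (by decide),
    Finset.sum_insert (by decide), Finset.sum_singleton] at hE2 hE3
  rw [if_pos (by norm_num), if_neg (by norm_num), if_pos (by norm_num), if_neg (by norm_num),
    if_neg (by norm_num), if_neg (by norm_num), if_neg (by norm_num), if_neg (by norm_num)] at hE3
  rw [hN] at hE2
  simp only [Nat.cast_one] at hE2 hE3
  rw [hL] at hE2 hE3
  rw [hE3]
  omega

end q24

end Cfsg.Agent.Lib.Helper6.McKay
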