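import Mathlib
import Cfsg.Agent.Lib.Helper4.QuatSyl3
import Cfsg.Agent.Lib.Helper6.McKayAux
import Cfsg.Agent.Lib.Helper6.McKayQ24

/-!
# McKay for `SL₂(q)`, `q` odd: the local side at the prime two
-/

set_option autoImplicit false
open Cfsg

namespace Cfsg.Agent.Lib.Helper6.McKay

open Matrix Cfsg.Agent.Lib.Helper4 Cfsg.Agent.Lib.Helper4.SL2Tr Cfsg.Agent.Lib.Helper4.SL2Ord
  Cfsg.Agent.Lib.Helper4.SL2Cov Cfsg.Agent.Lib.Helper4.SL2Syl Cfsg.Agent.Lib.Helper4.QuatSyl

section abstract

variable {G : Type*} [Group G] [Finite G] {c z : G} {a m : ℕ}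

/-- the central involution lies in the 2-part of the torus -/
theorem z_mem_T2 (H : TorusHyp c z a m) : z ∈ Subgroup.zpowers (c ^ m) ∧ z ≠ 1 := by
  obtain ⟨b, rfl⟩ : ∃ b, a = b + 1 := ⟨a - 1, by have := H.two_le; omega⟩
  have hord := orderOf_u H
  obtain ⟨v, hv⟩ : ∃ v, v = (c ^ m) ^ 2 ^ b := ⟨_, rfl⟩
  have hvv : v * v = 1 := by
    rw [hv, ← pow_add, ← two_mul, ← pow_succ', ← hord]
    exact pow_orderOf_eq_one _
  have hv1 : v ≠ 1 := by
    intro h
    rw [hv] at h
    have h1 := orderOf_dvd_of_pow_eq_one h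
    rw [hord] at h1
    have h2 := Nat.le_of_dvd (by positivity) h1
    have h3 : 2 ^ b < 2 ^ (b + 1) := Nat.pow_lt_pow_right (by norm_num) (by omega)
    omega
  have hvz : v = z := by
    rcases H.invol v hvv with h | h
    · exact absurd h hv1
    · exact h
  constructor
  · rw [← hvz, hv]
    exact Subgroup.pow_mem _ (Subgroup.mem_zpowers _) _
  · rw [← hvz]
    exact hv1

/-- the number of solutions of `t² = 1` in the 2-part of the torus -/
theorem card_sq_T2 (H : TorusHyp c z a m) :
    Nat.card {t : Subgroup.zpowers (c ^ m) // t ^ 2 = 1} = 2 := by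
  obtain ⟨hzT, hz1⟩ := z_mem_T2 H
  have hzz : z * z = 1 := by
    obtain ⟨b, rfl⟩ : ∃ b, a = b + 1 := ⟨a - 1, by have := H.two_le; omega⟩
    have hord := orderOf_u H
    have hvv : (c ^ m) ^ 2 ^ b * (c ^ m) ^ 2 ^ b = 1 := by
      rw [← pow_add, ← two_mul, ← pow_succ', ← hord]
      exact pow_orderOf_eq_one _
    rcases H.invol _ hvv with h | h
    · exfalso
      have h1 := orderOf_dvd_of_pow_eq_one h
      rw [hord] at h1
      have h2 := Nat.le_of_dvd (by positivity) h1
      have h3 : 2 ^ b < 2 ^ (b + 1) := Nat.pow_lt_pow_right (by norm_num) (by omega)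
      omega
    · rw [← h]
      exact hvv
  rw [Nat.card_eq_two_iff]
  refine ⟨⟨⟨1, Subgroup.one_mem _⟩, one_pow 2⟩, ⟨⟨z, hzT⟩, ?_⟩, ?_, ?_⟩
  · apply Subtype.ext
    rw [Subgroup.coe_pow, Subgroup.coe_one, pow_two]
    exact hzz
  · intro h
    have := congrArg (fun t => (t.1.1 : G)) h
    exact hz1 this.symm
  · ext ⟨⟨y, hy⟩, hy2⟩
    simp only [Set.mem_insert_iff, Set.mem_singleton_iff, Set.mem_univ, iff_true]
    have hy2' : y * y = 1 := by
      have := congrArg Subtype.val hy2
      rwa [Subgroup.coe_pow, Subgroup.coe_one, pow_two] at this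
    rcases H.invol y hy2' with h | h
    · left
      apply Subtype.ext
      apply Subtype.ext
      exact h
    · right
      apply Subtype.ext
      apply Subtype.ext
      exact h

/-- the local count at the prime two when the Sylow 2-subgroup is self-normalising -/
theorem nside_two_large (H : TorusHyp c z a m) (ha3 : 3 ≤ a) (S : Sylow 2 G) :
    Nat.card {ψ : Cfsg.IrrCharacter (Subgroup.normalizer ((S : Subgroup G) : Set G)) //
      ¬ 2 ∣ Cfsg.charDegree (ψ : Subgroup.normalizer ((S : Subgroup G) : Set G) → ℂ)} = 4 := by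
  have hp : IsPGroup 2 (Subgroup.zpowers (c ^ m)) :=
    IsPGroup.of_card (n := a) (by rw [Nat.card_zpowers, orderOf_u H])
  obtain ⟨Q, hQ⟩ := hp.exists_le_sylow
  obtain ⟨g, hg⟩ := MulAction.exists_smul_eq G Q S
  have hSQ : (S : Subgroup G) = (Q : Subgroup G).map (MulAut.conj g).toMonoidHom := by
    rw [← hg, Sylow.coe_subgroup_smul]
    rfl
  have hNS : Subgroup.normalizer ((S : Subgroup G) : Set G) = (S : Subgroup G) :=
    (main_all H S).2.1 ha3
  have hmap : (Q : Subgroup G).map (MulAut.conj g).toMonoidHom =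
      Subgroup.normalizer ((S : Subgroup G) : Set G) := by
    rw [hNS, hSQ]
  let e : (Q : Subgroup G) ≃* Subgroup.normalizer ((S : Subgroup G) : Set G) :=
    ((Q : Subgroup G).equivMapOfInjective (MulAut.conj g).toMonoidHom
      (MulAut.conj g).injective).trans (MulEquiv.subgroupCongr hmap)
  rw [← card_not_dvd_congr e 2]
  have hcomm : ∀ y ∈ Subgroup.zpowers (c ^ m), ∀ y' ∈ Subgroup.zpowers (c ^ m),
      y * y' = y' * y := by
    intro y hy y' hy'
    obtain ⟨i, rfl⟩ := Subgroup.mem_zpowers_iff.1 hy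
    obtain ⟨j, rfl⟩ := Subgroup.mem_zpowers_iff.1 hy'
    rw [← _root_.zpow_add, ← _root_.zpow_add, add_comm]
  have hinv : ∀ x ∈ (Q : Subgroup G), x ∉ Subgroup.zpowers (c ^ m) →
      ∀ y ∈ Subgroup.zpowers (c ^ m), x⁻¹ * y * x = y⁻¹ := by
    intro x hx hxT y hy
    have hxc : x ∉ Subgroup.zpowers c := fun h => hxT (S_inf_T H Q hQ x hx h)
    have hxN := S_le_NT H Q hQ hx
    have hxc' : x⁻¹ ∉ Subgroup.zpowers c := by
      intro h
      apply hxc
      have := Subgroup.inv_mem _ h
      rwa [inv_inv] at this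
    have := inverts H x⁻¹ (Subgroup.inv_mem _ hxN) hxc' y (T2_le H hy)
    rwa [inv_inv] at this
  exact dic_count_two (Subgroup.zpowers (c ^ m)) (Q : Subgroup G) hQ (card_S_eq H Q hQ) hcomm hinv
    (card_sq_T2 H)

/-- the local count at the prime two when the Sylow 2-subgroup is quaternion of order eight -/
theorem nside_two_small (H : TorusHyp c z a m) (ha : a = 2)
    (hcen : ∀ y ∈ Subgroup.center G, y * y = 1) (S : Sylow 2 G) :
    Nat.card {ψ : Cfsg.IrrCharacter (Subgroup.normalizer ((S : Subgroup G) : Set G)) //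
      ¬ 2 ∣ Cfsg.charDegree (ψ : Subgroup.normalizer ((S : Subgroup G) : Set G) → ℂ)} = 4 := by
  obtain ⟨r1, -, r3⟩ := main_all H S
  have hcS : Nat.card (S : Subgroup G) = 8 := by
    have := card_S H S
    rw [ha] at this
    rw [this]
    norm_num
  have hcN : Nat.card (Subgroup.normalizer ((S : Subgroup G) : Set G)) = 24 := by
    have h1 := r3 ha
    have h2 : Nat.card S = 8 := hcS
    rw [h1, h2]
  have hzN : z ∈ Subgroup.normalizer ((S : Subgroup G) : Set G) :=
    Subgroup.center_le_normalizer _ H.zc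
  refine q24_count hcN ((S : Subgroup G).subgroupOf (Subgroup.normalizer ((S : Subgroup G) : Set G)))
    Subgroup.normal_in_normalizer ?_ ⟨z, hzN⟩ ?_ ?_ ?_
  · rw [Nat.card_congr (Subgroup.subgroupOfEquivOfLe Subgroup.le_normalizer).toEquiv, hcS]
  · intro x
    apply Subtype.ext
    exact Subgroup.mem_center_iff.1 H.zc x.1
  · intro s _ hss
    have h1 : (s : G) * (s : G) = 1 := by
      have := congrArg Subtype.val hss
      simpa using this
    rcases H.invol _ h1 with h | h
    · left
      exact Subtype.ext h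
    · right
      exact Subtype.ext h
  · intro x hx hx3
    have hxc : (x : G) ∈ Subgroup.centralizer ((S : Subgroup G) : Set G) := by
      rw [Subgroup.mem_centralizer_iff]
      intro s hs
      have := hx ⟨s, Subgroup.le_normalizer hs⟩ (Subgroup.mem_subgroupOf.2 hs)
      exact (congrArg Subtype.val this).symm
    rw [r1] at hxc
    have h2 := hcen _ hxc
    have h3 : (x : G) ^ 3 = 1 := by
      have := congrArg Subtype.val hx3
      simpa using this
    apply Subtype.ext
    show (x : G) = 1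
    calc (x : G) = (x : G) ^ 3 * ((x : G) * (x : G))⁻¹ := by
          rw [pow_succ, pow_two]
          group
      _ = 1 := by rw [h3, h2]; group

end abstract

section sl2

variable {F : Type*} [Field F] [Fintype F]

local notation "SL2" => Matrix.SpecialLinearGroup (Fin 2) F

/-- the torus hypotheses hold in `SL₂(q)`, `q` odd -/
theorem exists_torusHyp (hodd : Odd (Fintype.card F)) :
    ∃ (c : Matrix.SpecialLinearGroup (Fin 2) F) (a m : ℕ), TorusHyp c (negOneSL F) a m := by
  classical
  obtain ⟨q, hq⟩ : ∃ q, q = Fintype.card F := ⟨_, rfl⟩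
  have hq2 : 2 ≤ Fintype.card F := Fintype.one_lt_card
  have hqodd : q % 2 = 1 := by rw [hq]; exact Nat.odd_iff.1 hodd
  have key : ∀ N : ℕ, (N = q - 1 ∨ N = q + 1) → 4 ∣ N →
      (∃ T' : Subgroup SL2, IsCyclic T' ∧ Nat.card T' = N ∧
      (∀ g ∈ T', g * g ≠ 1 → Subgroup.centralizer ({g} : Set SL2) = T') ∧
      (∀ g ∈ Subgroup.normalizer (T' : Set SL2), g ∉ T' → g * g = negOneSL F)) →
      ∃ (c : Matrix.SpecialLinearGroup (Fin 2) F) (a m : ℕ), TorusHyp c (negOneSL F) a m := by
    intro N hNq h4 ⟨T', hcyc, hcard, hcent, hsq⟩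
    have hN0 : N ≠ 0 := by rcases hNq with h | h <;> omega
    obtain ⟨a, ha⟩ : ∃ a, a = N.factorization 2 := ⟨_, rfl⟩
    obtain ⟨m, hm⟩ : ∃ m, m = N / 2 ^ a := ⟨_, rfl⟩
    have hN : N = 2 ^ a * m := by
      rw [hm, ha]; exact (Nat.ordProj_mul_ordCompl_eq_self N 2).symm
    have hmodd : ¬ 2 ∣ m := by
      rw [hm, ha]; exact Nat.not_dvd_ordCompl Nat.prime_two hN0
    have ha2 : 2 ≤ a := by
      rw [ha]
      exact (Nat.Prime.pow_dvd_iff_le_factorization Nat.prime_two hN0).1 (by norm_num; exact h4)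
    have hval : (Nat.card SL2).factorization 2 = a + 1 := by
      rw [card_SL2_eq hq2, ← hq]
      apply val_arith q a m hqodd hmodd ha2
      rcases hNq with h | h
      · left; rw [← h, hN]
      · right; rw [← h, hN]
    obtain ⟨c, Hc⟩ := torusHyp_of_cyclic T' (negOneSL F) N a m hcyc hcard hN hmodd ha2 hcent hsq
      (invol_SL2 hodd) negOneSL_mem_center hval (fus_SL2 hodd)
    exact ⟨c, a, m, Hc⟩
  by_cases hq4 : q % 4 = 1
  · have hq5 : 5 ≤ Fintype.card F := by rw [← hq]; omega
    have hT := split_torus hodd hq5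
    rw [← hq] at hT
    exact key (q - 1) (Or.inl rfl) (by omega) hT
  · obtain ⟨T', h1, h2, -, h4, -, -, -, h8⟩ := Cfsg.Agent.S2429.result hodd (F := F)
    rw [← hq] at h2
    have hT : ∃ T' : Subgroup SL2, IsCyclic T' ∧ Nat.card T' = q + 1 ∧
        (∀ g ∈ T', g * g ≠ 1 → Subgroup.centralizer ({g} : Set SL2) = T') ∧
        (∀ g ∈ Subgroup.normalizer (T' : Set SL2), g ∉ T' → g * g = negOneSL F) := by
      refine ⟨T', h1, h2, ?_, ?_⟩
      · intro g hg hgg
        apply h4 g hg
        · intro h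
          apply hgg
          have : g = 1 := Subtype.ext h
          rw [this, mul_one]
        · intro h
          apply hgg
          rw [eq_negOne_of_coe g h]
          exact negOneSL_mul_self
      · intro g hg hgT
        exact eq_negOne_of_coe _ (h8 g hg hgT)
    exact key (q + 1) (Or.inr rfl) (by omega) hT

/-- the local side at the prime two -/
theorem nside_two (hodd : Odd (Fintype.card F)) (S : Sylow 2 (Matrix.SpecialLinearGroup (Fin 2) F)) :
    Nat.card {ψ : Cfsg.IrrCharacter (Subgroup.normalizer ((S : Subgroup SL2) : Set SL2)) //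
      ¬ 2 ∣ Cfsg.charDegree (ψ : Subgroup.normalizer ((S : Subgroup SL2) : Set SL2) → ℂ)} = 4 := by
  classical
  obtain ⟨c, a, m, H⟩ := exists_torusHyp hodd
  by_cases ha3 : 3 ≤ a
  · exact nside_two_large H ha3 S
  · have ha : a = 2 := by
      have := H.two_le
      omega
    apply nside_two_small H ha _ S
    intro y hy
    rw [← pow_two]
    exact (mem_center_iff_sq hodd y).1 hy

end sl2

end Cfsg.Agent.Lib.Helper6.McKay
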