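import Mathlib
import Cfsg.Agent.S2299
import Cfsg.Agent.Lib.Helper6.McKayAux

/-!
# McKay for `SL₂(q)`, `q` odd: the global side
-/

set_option autoImplicit false
open Cfsg

namespace Cfsg.Agent.Lib.Helper6.McKay

open Cfsg.Agent.Lib.Helper4 Cfsg.Agent.Lib.Helper6 Matrix

section gside

variable {F : Type*} [Field F] [Fintype F]

local notation "SL2" => Matrix.SpecialLinearGroup (Fin 2) F

/-- the degrees of `SL₂(q)` as natural numbers -/
theorem sl2_degN_cases (hodd : Odd (Fintype.card F)) (ψ : Cfsg.IrrCharacter SL2) :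
    degN ψ = 1 ∨ degN ψ = Fintype.card F ∨ degN ψ = Fintype.card F + 1 ∨
      degN ψ = Fintype.card F - 1 ∨ degN ψ = (Fintype.card F + 1) / 2 ∨
      degN ψ = (Fintype.card F - 1) / 2 := by
  have hq1 : 1 ≤ Fintype.card F := Fintype.card_pos
  rcases (Cfsg.Agent.S2299.result hodd).1 ψ.1 ψ.2 with h | h | h | h | h | h
  · left
    rw [degN_eq_iff, h, Nat.cast_one]
  · right; left
    rw [degN_eq_iff, h]
  · right; right; left
    rw [degN_eq_iff, h, Nat.cast_add, Nat.cast_one]
  · right; right; right; left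
    rw [degN_eq_iff, h, Nat.cast_sub hq1, Nat.cast_one]
  · right; right; right; right; left
    rw [degN_eq_iff, h]
  · right; right; right; right; right
    rw [degN_eq_iff, h]

/-- the general count on the global side, for `q ≥ 5` -/
theorem gside_general (hodd : Odd (Fintype.card F)) (hq5 : 5 ≤ Fintype.card F)
    (P : ℕ → Prop) [DecidablePred P] :
    Nat.card {χ : Cfsg.IrrCharacter SL2 // P (Cfsg.charDegree (χ : SL2 → ℂ))} =
      (if P 1 then 1 else 0) + ((if P (Fintype.card F) then 1 else 0) +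
        ((if P (Fintype.card F + 1) then (Fintype.card F - 3) / 2 else 0) +
          ((if P (Fintype.card F - 1) then (Fintype.card F - 1) / 2 else 0) +
            ((if P ((Fintype.card F + 1) / 2) then 2 else 0) +
              (if P ((Fintype.card F - 1) / 2) then 2 else 0))))) := by
  classical
  have hq1 : 1 ≤ Fintype.card F := Fintype.card_pos
  have hD : ∀ ψ : Cfsg.IrrCharacter SL2,
      degN ψ ∈ ({1, Fintype.card F, Fintype.card F + 1, Fintype.card F - 1,
        (Fintype.card F + 1) / 2, (Fintype.card F - 1) / 2} : Finset ℕ) := by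
    intro ψ
    simp only [Finset.mem_insert, Finset.mem_singleton]
    exact sl2_degN_cases hodd ψ
  obtain ⟨k, hk⟩ := hodd
  have hE := card_subtype_charDegree _ hD P
  rw [Finset.sum_insert (by simp; omega), Finset.sum_insert (by simp; omega),
    Finset.sum_insert (by simp; omega), Finset.sum_insert (by simp; omega),
    Finset.sum_insert (by simp; omega), Finset.sum_singleton] at hE
  obtain ⟨h1, h2, h3, h4, h5, h6⟩ := (Cfsg.Agent.S2299.result ⟨k, hk⟩).2 hq5
  simp only [Nat.cast_one, Nat.cast_add, Nat.cast_sub hq1] at hE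
  rw [h1, h2, h3, h4, h5, h6] at hE
  exact hE

/-- the number of irreducible characters of degree `q` is one -/
theorem card_degree_q :
    Nat.card {χ : Cfsg.IrrCharacter SL2 // (χ : SL2 → ℂ) 1 = (Fintype.card F : ℂ)} = 1 := by
  classical
  have instG : Fintype (GL (Fin 2) F) := Fintype.ofFinite _
  refine Cfsg.Agent.S2300.card_subtype_eq_one
    (fun χ : Cfsg.IrrCharacter SL2 => (χ : SL2 → ℂ) 1 = (Fintype.card F : ℂ))
    ⟨resSL (stGL2 1), isIrr_resSL_st⟩ ?_ ?_
  · simp only
    rw [resSL_one, stGL2_one]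
  · intro ψ hψ
    apply Subtype.ext
    exact Cfsg.Agent.S2321.eq_steinberg ψ.1 ψ.2 hψ

/-- the global side at the defining characteristic -/
theorem gside_char (hodd : Odd (Fintype.card F)) (ℓ : ℕ) (hℓ : ℓ.Prime)
    (hdvd : ℓ ∣ Fintype.card F) :
    Nat.card {χ : Cfsg.IrrCharacter SL2 // ¬ ℓ ∣ Cfsg.charDegree (χ : SL2 → ℂ)} =
      Fintype.card F + 3 := by
  classical
  haveI : Fintype (Cfsg.IrrCharacter SL2) := Fintype.ofFinite _
  have hq1 : 1 ≤ Fintype.card F := Fintype.card_pos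
  have hnd1 : ∀ d : ℕ, d ∣ Fintype.card F + 1 → ¬ ℓ ∣ d := by
    intro d hd h
    have h1 : ℓ ∣ Fintype.card F + 1 := h.trans hd
    have := (Nat.dvd_add_right hdvd).1 h1
    exact hℓ.one_lt.ne' (Nat.dvd_one.1 this)
  have hnd2 : ∀ d : ℕ, d ∣ Fintype.card F - 1 → ¬ ℓ ∣ d := by
    intro d hd h
    have h1 : ℓ ∣ Fintype.card F - 1 := h.trans hd
    have h2 : ℓ ∣ Fintype.card F - (Fintype.card F - 1) := Nat.dvd_sub hdvd h1
    have e : Fintype.card F - (Fintype.card F - 1) = 1 := by omega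
    rw [e] at h2
    exact hℓ.one_lt.ne' (Nat.dvd_one.1 h2)
  obtain ⟨k, hk⟩ := hodd
  have hq2 : 2 ≤ Fintype.card F := Fintype.one_lt_card
  have key : ∀ ψ : Cfsg.IrrCharacter SL2, ¬ ℓ ∣ Cfsg.charDegree (ψ : SL2 → ℂ) ↔
      ¬ ((ψ : SL2 → ℂ) 1 = (Fintype.card F : ℂ)) := by
    intro ψ
    rw [charDegree_eq_degN, ← degN_eq_iff]
    rcases sl2_degN_cases ⟨k, hk⟩ ψ with h | h | h | h | h | h
    · rw [h]
      constructor
      · intro _ h1
        have : 2 ≤ ℓ := hℓ.two_le
        have := Nat.le_of_dvd (by omega) hdvd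
        omega
      · intro _ h1
        exact hℓ.one_lt.ne' (Nat.dvd_one.1 h1)
    · rw [h]
      constructor
      · intro h1
        exact absurd hdvd h1
      · intro h1
        exact absurd rfl h1
    · rw [h]
      constructor
      · intro _ h1
        omega
      · intro _
        exact hnd1 _ dvd_rfl
    · rw [h]
      constructor
      · intro _ h1
        omega
      · intro _
        exact hnd2 _ dvd_rfl
    · rw [h]
      constructor
      · intro _ h1
        omega
      · intro _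
        apply hnd1
        exact ⟨2, by omega⟩
    · rw [h]
      constructor
      · intro _ h1
        omega
      · intro _
        apply hnd2
        exact ⟨2, by omega⟩
  rw [Nat.card_congr (Equiv.subtypeEquivRight key), Nat.card_eq_fintype_card,
    Fintype.card_subtype_compl, ← Nat.card_eq_fintype_card, ← Nat.card_eq_fintype_card,
    card_degree_q, card_irrCharacter, Cfsg.Agent.S2325.result ⟨k, hk⟩]
  omega

/-- the global side at an odd prime dividing `q - 1` -/
theorem gside_split (hodd : Odd (Fintype.card F)) (ℓ : ℕ) (hℓ : ℓ.Prime) (hℓ2 : ℓ ≠ 2)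
    (hdvd : ℓ ∣ Fintype.card F - 1) :
    2 * Nat.card {χ : Cfsg.IrrCharacter SL2 // ¬ ℓ ∣ Cfsg.charDegree (χ : SL2 → ℂ)} =
      Fintype.card F + 5 := by
  classical
  obtain ⟨k, hk⟩ := hodd
  have hℓ3 : 3 ≤ ℓ := by
    have := hℓ.two_le
    omega
  have hq2 : 2 ≤ Fintype.card F := Fintype.one_lt_card
  have hq5 : 5 ≤ Fintype.card F := by
    have h0 : Fintype.card F - 1 ≠ 0 := by omega
    have := Nat.le_of_dvd (by omega) hdvd
    omega
  have e1 : Fintype.card F - 1 = 2 * k := by omega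
  have hk' : ℓ ∣ k := by
    rw [e1] at hdvd
    rcases (Nat.Prime.dvd_mul hℓ).1 hdvd with h | h
    · exact absurd ((Nat.prime_dvd_prime_iff_eq hℓ Nat.prime_two).1 h) hℓ2
    · exact h
  have hn1 : ¬ ℓ ∣ 1 := fun h => hℓ.one_lt.ne' (Nat.dvd_one.1 h)
  have hn2 : ¬ ℓ ∣ 2 := fun h => hℓ2 ((Nat.prime_dvd_prime_iff_eq hℓ Nat.prime_two).1 h)
  have hnq : ¬ ℓ ∣ Fintype.card F := by
    intro h
    have h2 : ℓ ∣ Fintype.card F - (Fintype.card F - 1) := Nat.dvd_sub h hdvd
    have e : Fintype.card F - (Fintype.card F - 1) = 1 := by omega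
    rw [e] at h2
    exact hn1 h2
  have hnq1 : ¬ ℓ ∣ Fintype.card F + 1 := by
    intro h
    have h2 : ℓ ∣ (Fintype.card F + 1) - (Fintype.card F - 1) := Nat.dvd_sub h hdvd
    have e : (Fintype.card F + 1) - (Fintype.card F - 1) = 2 := by omega
    rw [e] at h2
    exact hn2 h2
  have hnh : ¬ ℓ ∣ (Fintype.card F + 1) / 2 := by
    intro h
    apply hnq1
    exact h.trans ⟨2, by omega⟩
  have hh : ℓ ∣ (Fintype.card F - 1) / 2 := by
    have : (Fintype.card F - 1) / 2 = k := by omega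
    rw [this]
    exact hk'
  rw [gside_general ⟨k, hk⟩ hq5 (fun d => ¬ ℓ ∣ d), if_pos hn1, if_pos hnq, if_pos hnq1,
    if_neg (not_not.2 hdvd), if_pos hnh, if_neg (not_not.2 hh)]
  omega

/-- the global side at an odd prime dividing `q + 1` -/
theorem gside_nonsplit (hodd : Odd (Fintype.card F)) (ℓ : ℕ) (hℓ : ℓ.Prime) (hℓ2 : ℓ ≠ 2)
    (hdvd : ℓ ∣ Fintype.card F + 1) :
    2 * Nat.card {χ : Cfsg.IrrCharacter SL2 // ¬ ℓ ∣ Cfsg.charDegree (χ : SL2 → ℂ)} =
      Fintype.card F + 7 := by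
  classical
  obtain ⟨k, hk⟩ := hodd
  have hℓ3 : 3 ≤ ℓ := by
    have := hℓ.two_le
    omega
  have e1 : Fintype.card F + 1 = 2 * (k + 1) := by omega
  have hk' : ℓ ∣ k + 1 := by
    rw [e1] at hdvd
    rcases (Nat.Prime.dvd_mul hℓ).1 hdvd with h | h
    · exact absurd ((Nat.prime_dvd_prime_iff_eq hℓ Nat.prime_two).1 h) hℓ2
    · exact h
  have hq5 : 5 ≤ Fintype.card F := by
    have := Nat.le_of_dvd (by omega) hk'
    omega
  have hn1 : ¬ ℓ ∣ 1 := fun h => hℓ.one_lt.ne' (Nat.dvd_one.1 h)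
  have hn2 : ¬ ℓ ∣ 2 := fun h => hℓ2 ((Nat.prime_dvd_prime_iff_eq hℓ Nat.prime_two).1 h)
  have hnq : ¬ ℓ ∣ Fintype.card F := by
    intro h
    have := (Nat.dvd_add_right h).1 hdvd
    exact hn1 this
  have hnq1 : ¬ ℓ ∣ Fintype.card F - 1 := by
    intro h
    have h2 : ℓ ∣ (Fintype.card F + 1) - (Fintype.card F - 1) := Nat.dvd_sub hdvd h
    have e : (Fintype.card F + 1) - (Fintype.card F - 1) = 2 := by omega
    rw [e] at h2
    exact hn2 h2
  have hnh : ¬ ℓ ∣ (Fintype.card F - 1) / 2 := by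
    intro h
    apply hnq1
    exact h.trans ⟨2, by omega⟩
  have hh : ℓ ∣ (Fintype.card F + 1) / 2 := by
    have : (Fintype.card F + 1) / 2 = k + 1 := by omega
    rw [this]
    exact hk'
  rw [gside_general ⟨k, hk⟩ hq5 (fun d => ¬ ℓ ∣ d), if_pos hn1, if_pos hnq,
    if_neg (not_not.2 hdvd), if_pos hnq1, if_neg (not_not.2 hh), if_pos hnh]
  omega

/-- the global side at the prime two -/
theorem gside_two (hodd : Odd (Fintype.card F)) (hq5 : 5 ≤ Fintype.card F) :
    Nat.card {χ : Cfsg.IrrCharacter SL2 // ¬ 2 ∣ Cfsg.charDegree (χ : SL2 → ℂ)} = 4 := by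
  classical
  obtain ⟨k, hk⟩ := hodd
  have h1 : (Fintype.card F + 1) / 2 = k + 1 := by omega
  have h2 : (Fintype.card F - 1) / 2 = k := by omega
  rw [gside_general ⟨k, hk⟩ hq5 (fun d => ¬ 2 ∣ d), if_pos (by norm_num),
    if_pos (by omega), if_neg (by omega), if_neg (by omega), h1, h2]
  by_cases hk2 : 2 ∣ k
  · rw [if_pos (by omega), if_neg (by omega)]
  · rw [if_neg (by omega), if_pos (by omega)]

end gside

end Cfsg.Agent.Lib.Helper6.McKay
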