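import Mathlib
import Cfsg.Agent.Lib.Helper4.SL2NS2
import Cfsg.Agent.Lib.Helper4.SL2CT
import Cfsg.Agent.Lib.Helper4.SL2Conj

set_option autoImplicit false

/-! Facts on a cyclic subgroup `C` of order `q + 1` of `SL₂(q)`, `q` odd. -/

namespace Cfsg.Agent.Lib.Helper6.SL2Cusp

open Matrix Cfsg.Agent.Lib.Helper4 Cfsg.Agent.Lib.Helper4.SL2Tr Cfsg.Agent.Lib.Helper4.SL2Ord

variable {F : Type*} [Field F] [Fintype F] [DecidableEq F]

local notation "SL2" => Matrix.SpecialLinearGroup (Fin 2) F

omit [Fintype F] [DecidableEq F] in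
theorem trace_inv' (g : SL2) :
    ((g⁻¹ : SL2) : Matrix (Fin 2) (Fin 2) F).trace = (g : Matrix (Fin 2) (Fin 2) F).trace := by
  rw [Matrix.SpecialLinearGroup.coe_inv, Matrix.adjugate_fin_two, Matrix.trace_fin_two,
    Matrix.trace_fin_two]
  simp [add_comm]

omit [Fintype F] [DecidableEq F] in
theorem trace_conj' (g x : SL2) :
    ((x⁻¹ * g * x : SL2) : Matrix (Fin 2) (Fin 2) F).trace = (g : Matrix (Fin 2) (Fin 2) F).trace := by
  have := sl2_trace_conj g x⁻¹
  rw [inv_inv] at this
  exact this

omit [Fintype F] [DecidableEq F] in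
/-- an element commuting with a non-scalar element `c` with `tr² ≠ 4` and with the same trace is
`c` or `c⁻¹` -/
theorem eq_or_eq_inv_of_commute (h2 : (2 : F) ≠ 0) (c Y : SL2)
    (hns : ¬ IsScalar2 (c : Matrix (Fin 2) (Fin 2) F))
    (ht : (c : Matrix (Fin 2) (Fin 2) F).trace ^ 2 ≠ 4) (hcomm : Y * c = c * Y)
    (htr : (Y : Matrix (Fin 2) (Fin 2) F).trace = (c : Matrix (Fin 2) (Fin 2) F).trace) :
    Y = c ∨ Y = c⁻¹ := by
  have hc' : (Y : Matrix (Fin 2) (Fin 2) F) * (c : Matrix (Fin 2) (Fin 2) F)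
      = (c : Matrix (Fin 2) (Fin 2) F) * (Y : Matrix (Fin 2) (Fin 2) F) := by
    rw [← Matrix.SpecialLinearGroup.coe_mul, ← Matrix.SpecialLinearGroup.coe_mul, hcomm]
  obtain ⟨a, b, hab⟩ := SL2CT.exists_eq_smul_add _ _ hns hc'
  set t := (c : Matrix (Fin 2) (Fin 2) F).trace with ht_def
  have hdet : a ^ 2 + a * b * t + b ^ 2 = 1 := by
    have h1 := det_smul_one_add_smul (c : Matrix (Fin 2) (Fin 2) F) a b
    rw [← hab, Y.2, c.2, mul_one] at h1
    exact h1.symm
  have htr' : 2 * a + b * t = t := by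
    have h1 : (Y : Matrix (Fin 2) (Fin 2) F).trace = 2 * a + b * t := by
      rw [hab, Matrix.trace_add, Matrix.trace_smul, Matrix.trace_smul, Matrix.trace_one]
      simp
      ring
    rw [← h1, htr]
  have key : (b ^ 2 - 1) * (t ^ 2 - 4) = 0 := by
    have h3 : (2 * a) ^ 2 + 2 * (2 * a) * b * t + 4 * b ^ 2 = 4 := by linear_combination 4 * hdet
    have h4 : 2 * a = t - b * t := by linear_combination htr'
    rw [h4] at h3
    linear_combination -h3
  have hb : b ^ 2 = 1 := by
    rcases mul_eq_zero.1 key with h | h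
    · linear_combination h
    · exfalso; apply ht; linear_combination h
  have hb' : (b - 1) * (b + 1) = 0 := by linear_combination hb
  rcases mul_eq_zero.1 hb' with h | h
  · left
    have hb1 : b = 1 := sub_eq_zero.1 h
    have ha : a = 0 := by
      have : 2 * a = 0 := by rw [hb1] at htr'; linear_combination htr'
      rcases mul_eq_zero.1 this with h' | h'
      · exact absurd h' h2
      · exact h'
    apply Subtype.ext
    rw [hab, ha, hb1, zero_smul, one_smul, zero_add]
  · right
    have hb1 : b = -1 := eq_neg_of_add_eq_zero_left h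
    have ha : a = t := by
      have : 2 * (a - t) = 0 := by rw [hb1] at htr'; linear_combination htr'
      rcases mul_eq_zero.1 this with h' | h'
      · exact absurd h' h2
      · exact sub_eq_zero.1 h'
    apply Subtype.ext
    rw [hab, ha, hb1, Matrix.SpecialLinearGroup.coe_inv, Matrix.adjugate_fin_two, ht_def,
      Matrix.trace_fin_two]
    ext i j
    fin_cases i <;> fin_cases j <;> simp

/-- a non-central element is not its own inverse -/
theorem ne_inv_of_not_mem_center (hodd : Odd (Fintype.card F)) (c : SL2)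
    (hc : c ∉ Subgroup.center SL2) : c ≠ c⁻¹ := by
  intro h
  apply hc
  rw [mem_center_iff_sq hodd, pow_two]
  nth_rewrite 1 [h]
  exact inv_mul_cancel c

theorem not_isScalar2_of_not_mem_center (c : SL2) (hc : c ∉ Subgroup.center SL2) :
    ¬ IsScalar2 (c : Matrix (Fin 2) (Fin 2) F) :=
  fun h => hc (mem_center_of_isScalar2 c h)

/-- a non-scalar element with `tr² ≠ 4` is conjugate to its inverse -/
theorem exists_conj_inv (hodd : Odd (Fintype.card F)) (c : SL2)
    (hns : ¬ IsScalar2 (c : Matrix (Fin 2) (Fin 2) F))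
    (ht : (c : Matrix (Fin 2) (Fin 2) F).trace ^ 2 ≠ 4) : ∃ w : SL2, w⁻¹ * c * w = c⁻¹ := by
  have h1 : IsConj c c⁻¹ := (isConj_iff_trace_odd hodd c c⁻¹ hns ht).2 (trace_inv' c)
  obtain ⟨w, hw⟩ := isConj_iff.1 h1
  exact ⟨w⁻¹, by rw [inv_inv]; exact hw⟩

section torus

variable (K : Subgroup (Matrix.SpecialLinearGroup (Fin 2) F)) (hC : IsCyclic K) (hcard : Nat.card K = Fintype.card F + 1)

include hC in
omit [Fintype F] [DecidableEq F] in
theorem comm_of_mem {x y : SL2} (hx : x ∈ K) (hy : y ∈ K) : x * y = y * x := by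
  have := (IsCyclic.isMulCommutative (α := K)).is_comm.comm ⟨x, hx⟩ ⟨y, hy⟩
  exact congrArg Subtype.val this

include hcard in
theorem pow_card_eq_one_of_mem {x : SL2} (hx : x ∈ K) : x ^ (Fintype.card F + 1) = 1 := by
  have := pow_card_eq_one' (G := K) (x := ⟨x, hx⟩)
  rw [hcard] at this
  have h2 := congrArg Subtype.val this
  rw [Subgroup.coe_pow] at h2
  exact h2

include hcard in
/-- `-1` lies in `K` -/
theorem negOne_mem (hodd : Odd (Fintype.card F)) : negOneSL F ∈ K := by
  have h2 : 2 ∣ Nat.card K := by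
    rw [hcard]
    obtain ⟨k, hk⟩ := hodd
    omega
  haveI : Fact (Nat.Prime 2) := ⟨Nat.prime_two⟩
  obtain ⟨y, hy⟩ := exists_prime_orderOf_dvd_card' 2 h2
  have hy2 : (y : SL2) ^ 2 = 1 := by
    have := pow_orderOf_eq_one y
    rw [hy] at this
    have h3 := congrArg Subtype.val this
    rw [Subgroup.coe_pow] at h3
    exact h3
  have hy1 : (y : SL2) ≠ 1 := by
    intro h
    have : y = 1 := Subtype.ext h
    rw [this, orderOf_one] at hy
    omega
  rcases eq_one_or_neg_of_sq hodd (y : SL2) hy2 with h | h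
  · exact absurd h hy1
  · rw [← h]; exact y.2

include hC hcard in
/-- non-central elements of `K` have `tr² ≠ 4` -/
theorem trace_sq_ne_four_of_mem (hodd : Odd (Fintype.card F)) {c : SL2} (hc : c ∈ K)
    (hcz : c ∉ Subgroup.center SL2) : (c : Matrix (Fin 2) (Fin 2) F).trace ^ 2 ≠ 4 := by
  intro h4
  obtain ⟨p, hp⟩ := CharP.exists F
  haveI := hp
  haveI : Fact p.Prime := ⟨CharP.char_is_prime F p⟩
  have h2 := two_ne_zero_of_odd hodd
  set t := (c : Matrix (Fin 2) (Fin 2) F).trace with ht
  have h1 : (c ^ p) ^ 2 = 1 := by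
    rw [← mem_center_iff_sq hodd]
    apply mem_center_of_isScalar2
    apply pow_char_isScalar2 p c (t / 2)
    · field_simp
      linear_combination h4
    · rw [← ht]; field_simp
  rw [← pow_mul] at h1
  have h3 := orderOf_dvd_of_pow_eq_one h1
  have h5 := orderOf_dvd_of_pow_eq_one (pow_card_eq_one_of_mem K hcard hc)
  obtain ⟨n, hpn, hcardF⟩ := FiniteField.card F p
  have hpq : p ∣ Fintype.card F := by
    rw [hcardF]
    exact dvd_pow_self p n.ne_zero
  have hcop : Nat.Coprime (Fintype.card F + 1) p := by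
    rw [Nat.coprime_comm, Nat.Prime.coprime_iff_not_dvd hpn]
    intro h6
    have := (Nat.dvd_add_right hpq).1 h6
    exact hpn.one_lt.ne' (Nat.dvd_one.1 this)
  have hcop' : Nat.Coprime (orderOf c) p := Nat.Coprime.coprime_dvd_left h5 hcop
  have h6 := hcop'.dvd_of_dvd_mul_left h3
  apply hcz
  rw [mem_center_iff_sq hodd]
  exact orderOf_dvd_iff_pow_eq_one.1 h6

include hC hcard in
/-- the trace of a non-central element of `K` is not split -/
theorem no_root_of_mem (hodd : Odd (Fintype.card F)) {c : SL2} (hc : c ∈ K)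
    (hcz : c ∉ Subgroup.center SL2) :
    (∀ a : F, a * ((c : Matrix (Fin 2) (Fin 2) F).trace - a) ≠ 1) ∧
      Subgroup.centralizer ({c} : Set SL2) = K := by
  have hns := not_isScalar2_of_not_mem_center c hcz
  have ht4 := trace_sq_ne_four_of_mem K hC hcard hodd hc hcz
  have hidx := index_of_trace_sq_ne_four hodd c hns ht4
  have hle : K ≤ Subgroup.centralizer ({c} : Set SL2) := by
    intro x hx
    rw [Subgroup.mem_centralizer_singleton_iff]
    exact comm_of_mem K hC hx hc
  have hq3 : 3 ≤ Fintype.card F := by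
    have := Fintype.one_lt_card (α := F)
    obtain ⟨k, hk⟩ := hodd
    omega
  have hR : R (c : Matrix (Fin 2) (Fin 2) F).trace = 0 := by
    rcases R_cases_odd hodd _ ht4 with hR | hR
    · exact hR
    · exfalso
      rw [hR] at hidx
      have h3 := card_centralizer_of_R_two c hidx
      have h4 := Subgroup.card_dvd_of_le hle
      rw [h3, hcard] at h4
      have := Nat.le_of_dvd (by omega) h4
      omega
  constructor
  · intro a ha
    have : 0 < R (c : Matrix (Fin 2) (Fin 2) F).trace := by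
      unfold R
      haveI : Nonempty {a : F // a * ((c : Matrix (Fin 2) (Fin 2) F).trace - a) = 1} := ⟨⟨a, ha⟩⟩
      exact Nat.card_pos
    omega
  · rw [hR] at hidx
    have h3 := card_centralizer_of_R_zero c hidx
    symm
    apply Subgroup.eq_of_le_of_card_ge hle
    rw [h3, hcard]

omit [Fintype F] [DecidableEq F] in
/-- an eigenvalue is a root of the characteristic polynomial -/
theorem root_of_eigen (g : SL2) (a : F) (v : Fin 2 → F) (hv : v ≠ 0)
    (h : (g : Matrix (Fin 2) (Fin 2) F).mulVec v = a • v) :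
    a * ((g : Matrix (Fin 2) (Fin 2) F).trace - a) = 1 := by
  have hd : ((g : Matrix (Fin 2) (Fin 2) F) - a • (1 : Matrix (Fin 2) (Fin 2) F)).det = 0 := by
    apply Matrix.exists_mulVec_eq_zero_iff.1
    refine ⟨v, hv, ?_⟩
    rw [Matrix.sub_mulVec, Matrix.smul_mulVec, Matrix.one_mulVec, h, sub_self]
  have hdet := sl2_det g
  rw [Matrix.det_fin_two] at hd
  rw [Matrix.trace_fin_two]
  simp only [Matrix.sub_apply, Matrix.smul_apply, Matrix.one_apply_eq, smul_eq_mul, mul_one,
    Matrix.one_apply_ne (show (1 : Fin 2) ≠ 0 by decide),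
    Matrix.one_apply_ne (show (0 : Fin 2) ≠ 1 by decide), mul_zero, sub_zero] at hd
  linear_combination hdet - hd

include hC hcard in
/-- non-central elements of `K` have no eigenvector -/
theorem elliptic_of_mem (hodd : Odd (Fintype.card F)) {c : SL2} (hc : c ∈ K)
    (hcz : c ∉ Subgroup.center SL2) :
    ∀ (a : F) (v : Fin 2 → F), v ≠ 0 → (c : Matrix (Fin 2) (Fin 2) F).mulVec v ≠ a • v := by
  intro a v hv h
  exact (no_root_of_mem K hC hcard hodd hc hcz).1 a (root_of_eigen c a v hv h)

include hC hcard in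
/-- conjugates of a non-central element `c` of `K` lying in `K` -/
theorem conj_mem_cases (hodd : Odd (Fintype.card F)) {c : SL2} (hc : c ∈ K)
    (hcz : c ∉ Subgroup.center SL2) (x : SL2) (hx : x⁻¹ * c * x ∈ K) :
    x⁻¹ * c * x = c ∨ x⁻¹ * c * x = c⁻¹ := by
  apply eq_or_eq_inv_of_commute (two_ne_zero_of_odd hodd) c _
    (not_isScalar2_of_not_mem_center c hcz) (trace_sq_ne_four_of_mem K hC hcard hodd hc hcz)
    (comm_of_mem K hC hx hc) (trace_conj' c x)

include hC hcard in
theorem conj_eq_self_iff (hodd : Odd (Fintype.card F)) {c : SL2} (hc : c ∈ K)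
    (hcz : c ∉ Subgroup.center SL2) (x : SL2) : x⁻¹ * c * x = c ↔ x ∈ K := by
  have h1 := (no_root_of_mem K hC hcard hodd hc hcz).2
  rw [← h1, Subgroup.mem_centralizer_singleton_iff]
  constructor
  · intro h
    have : x * (x⁻¹ * c * x) = c * x := by group
    rw [h] at this
    exact this
  · intro h
    rw [mul_assoc, ← h, ← mul_assoc, inv_mul_cancel, one_mul]

include hC hcard in
/-- an upper triangular non-central element has no conjugate in `K` -/
theorem not_conj_mem_of_upper (hodd : Odd (Fintype.card F)) (g : SL2)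
    (h10 : (g : Matrix (Fin 2) (Fin 2) F) 1 0 = 0) (hg : g ∉ Subgroup.center SL2) (x : SL2) :
    x⁻¹ * g * x ∉ K := by
  intro hx
  have hz : x⁻¹ * g * x ∉ Subgroup.center SL2 := by
    intro hz
    apply hg
    have h1 : g = x * (x⁻¹ * g * x) * x⁻¹ := by group
    rw [h1]
    exact (Subgroup.center SL2).normal_of_characteristic.conj_mem _ hz x
  have h1 := (no_root_of_mem K hC hcard hodd hx hz).1 ((g : Matrix (Fin 2) (Fin 2) F) 0 0)
  apply h1
  rw [trace_conj', Matrix.trace_fin_two]
  have hd := sl2_det g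
  rw [h10, mul_zero, sub_zero] at hd
  linear_combination hd

end torus

end Cfsg.Agent.Lib.Helper6.SL2Cusp
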