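import Mathlib
import Cfsg.Agent.S2430
import Cfsg.Agent.Lib.Helper4.QuatSyl1
import Cfsg.Agent.Lib.Helper6.SL2Torus
import Cfsg.Agent.Lib.Helper6.McKayAux

/-!
# McKay for `SL₂(q)`, `q` odd: the local side at an odd prime different from the characteristic
-/

set_option autoImplicit false
open Cfsg

namespace Cfsg.Agent.Lib.Helper6.McKay

open Matrix Cfsg.Agent.Lib.Helper4 Cfsg.Agent.Lib.Helper4.SL2Tr Cfsg.Agent.Lib.Helper4.SL2Ord
  Cfsg.Agent.Lib.Helper4.SL2Cov Cfsg.Agent.Lib.Helper6.SL2Cusp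

theorem conj_zpow_inv {G : Type*} [Group G] (x y : G) (j : ℤ) :
    x⁻¹ * y ^ j * x = (x⁻¹ * y * x) ^ j := by
  have := conj_zpow (a := x⁻¹) (b := y) (i := j)
  rw [inv_inv] at this
  exact this.symm

section torus

variable {F : Type*} [Field F] [Fintype F] [DecidableEq F]

local notation "SL2" => Matrix.SpecialLinearGroup (Fin 2) F

/-- non-central elements of order prime to `q` have `tr² ≠ 4` -/
theorem trace_sq_ne_four_of_pow (hodd : Odd (Fintype.card F))
    (c : Matrix.SpecialLinearGroup (Fin 2) F) (m : ℕ) (hm : c ^ m = 1)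
    (hcop : Nat.Coprime m (Fintype.card F))
    (hcz : c ∉ Subgroup.center (Matrix.SpecialLinearGroup (Fin 2) F)) :
    (c : Matrix (Fin 2) (Fin 2) F).trace ^ 2 ≠ 4 := by
  intro h4
  obtain ⟨p, hp⟩ := CharP.exists F
  haveI := hp
  haveI : Fact p.Prime := ⟨CharP.char_is_prime F p⟩
  have h2 := two_ne_zero_of_odd hodd
  set t := (c : Matrix (Fin 2) (Fin 2) F).trace with ht
  have h1 : (c ^ p) ^ 2 = 1 := by
    rw [← mem_center_iff_sq hodd]
    apply mem_center_of_isScalar2
    apply pow_char_isScalar2 p c (t / 2)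
    · field_simp
      linear_combination h4
    · rw [← ht]; field_simp
  rw [← pow_mul] at h1
  have h3 := orderOf_dvd_of_pow_eq_one h1
  have h5 := orderOf_dvd_of_pow_eq_one hm
  obtain ⟨n, hpn, hcardF⟩ := FiniteField.card F p
  have hpq : p ∣ Fintype.card F := by
    rw [hcardF]
    exact dvd_pow_self p n.ne_zero
  have hcop1 : Nat.Coprime m p := Nat.Coprime.coprime_dvd_right hpq hcop
  have hcop' : Nat.Coprime (orderOf c) p := Nat.Coprime.coprime_dvd_left h5 hcop1
  have h6 := hcop'.dvd_of_dvd_mul_left h3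
  apply hcz
  rw [mem_center_iff_sq hodd]
  exact orderOf_dvd_iff_pow_eq_one.1 h6

/-- a subgroup containing the centre has exactly two elements of square one -/
theorem card_sq_eq_one_of_center_le (hodd : Odd (Fintype.card F))
    (T : Subgroup (Matrix.SpecialLinearGroup (Fin 2) F))
    (hcen : Subgroup.center (Matrix.SpecialLinearGroup (Fin 2) F) ≤ T) :
    Nat.card {y : T // y ^ 2 = 1} = 2 := by
  rw [Nat.card_eq_two_iff]
  refine ⟨⟨⟨1, Subgroup.one_mem _⟩, one_pow 2⟩,
    ⟨⟨negOneSL F, hcen negOneSL_mem_center⟩, ?_⟩, ?_, ?_⟩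
  · apply Subtype.ext
    rw [Subgroup.coe_pow, Subgroup.coe_one, pow_two]
    exact negOneSL_mul_self
  · intro h
    have := congrArg (fun z => (z.1.1 : SL2)) h
    exact negOneSL_ne_one hodd this.symm
  · ext ⟨⟨y, hy⟩, hy2⟩
    simp only [Set.mem_insert_iff, Set.mem_singleton_iff, Set.mem_univ, iff_true]
    have hy2' : y ^ 2 = 1 := by
      have := congrArg Subtype.val hy2
      rwa [Subgroup.coe_pow, Subgroup.coe_one] at this
    rcases eq_one_or_neg_of_sq hodd y hy2' with h | h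
    · left
      apply Subtype.ext
      apply Subtype.ext
      exact h
    · right
      apply Subtype.ext
      apply Subtype.ext
      exact h

/-- the local side at an odd prime dividing `q - 1` or `q + 1` -/
theorem nside_torus (hodd : Odd (Fintype.card F)) (ℓ : ℕ) [Fact ℓ.Prime] (hℓ2 : ℓ ≠ 2)
    (P : Sylow ℓ (Matrix.SpecialLinearGroup (Fin 2) F)) (n : ℕ)
    (hn : n = Fintype.card F - 1 ∨ n = Fintype.card F + 1) (hdvd : ℓ ∣ n)
    (hcardT : Nat.card (Subgroup.centralizer ((P : Subgroup SL2) : Set SL2)) = n)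
    (hcyc : IsCyclic (Subgroup.centralizer ((P : Subgroup SL2) : Set SL2)))
    (hcardN : Nat.card (Subgroup.normalizer ((P : Subgroup SL2) : Set SL2)) = 2 * n) :
    2 * Nat.card {ψ : Cfsg.IrrCharacter (Subgroup.normalizer ((P : Subgroup SL2) : Set SL2)) //
      ¬ ℓ ∣ Cfsg.charDegree (ψ : Subgroup.normalizer ((P : Subgroup SL2) : Set SL2) → ℂ)} =
      n + 6 := by
  have hℓ : ℓ.Prime := Fact.out
  have hℓ3 : 3 ≤ ℓ := by
    have := hℓ.two_le
    omega
  have hq2 : 2 ≤ Fintype.card F := Fintype.one_lt_card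
  have hn0 : 0 < n := by
    rcases hn with h | h <;> omega
  have hn3 : 3 ≤ n := le_trans hℓ3 (Nat.le_of_dvd hn0 hdvd)
  obtain ⟨T, hT⟩ : ∃ T : Subgroup SL2, T = Subgroup.centralizer ((P : Subgroup SL2) : Set SL2) :=
    ⟨_, rfl⟩
  obtain ⟨N, hN⟩ : ∃ N : Subgroup SL2, N = Subgroup.normalizer ((P : Subgroup SL2) : Set SL2) :=
    ⟨_, rfl⟩
  rw [← hT] at hcardT hcyc
  rw [← hN] at hcardN ⊢
  have hTN : T ≤ N := by
    rw [hT, hN]
    exact Subgroup.centralizer_le_normalizer _
  have hcard : Nat.card N = 2 * Nat.card T := by rw [hcardN, hcardT]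
  have hcomm : ∀ y ∈ T, ∀ y' ∈ T, y * y' = y' * y := by
    intro y hy y' hy'
    have := (IsCyclic.isMulCommutative (α := T)).is_comm.comm ⟨y, hy⟩ ⟨y', hy'⟩
    exact congrArg Subtype.val this
  -- `P ≤ T`
  have hPT : (P : Subgroup SL2) ≤ T := by
    intro x hx
    have hxN : x ∈ N := by
      rw [hN]
      exact Subgroup.le_normalizer hx
    have hxx : x * x ∈ T := QuatSyl.sq_mem_of_card T N hTN hcard x hxN
    obtain ⟨k, hk⟩ := (IsPGroup.iff_orderOf.1 P.2) ⟨x, hx⟩
    have hk' : orderOf x = ℓ ^ k := by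
      rw [← hk]
      exact (Subgroup.orderOf_mk x hx).symm
    have hodd' : Odd (ℓ ^ k) := (hℓ.odd_of_ne_two hℓ2).pow
    obtain ⟨j, hj⟩ := hodd'
    have hx1 : x ^ (2 * j + 1) = 1 := by
      rw [← hj, ← hk']
      exact pow_orderOf_eq_one x
    have hx2 : x = (x * x) ^ (j + 1) := by
      rw [← pow_two, ← pow_mul]
      have : 2 * (j + 1) = (2 * j + 1) + 1 := by ring
      rw [this, pow_succ, hx1, one_mul]
    rw [hx2]
    exact T.pow_mem hxx _
  -- a generator
  obtain ⟨y₀, hy₀⟩ := hcyc.exists_generator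
  have hzp : Subgroup.zpowers (y₀ : SL2) = T := by
    apply le_antisymm
    · rw [Subgroup.zpowers_le]; exact y₀.2
    · intro x hx
      obtain ⟨j, hj⟩ := Subgroup.mem_zpowers_iff.1 (hy₀ ⟨x, hx⟩)
      rw [Subgroup.mem_zpowers_iff]
      refine ⟨j, ?_⟩
      have := congrArg Subtype.val hj
      simpa using this
  have hord : orderOf (y₀ : SL2) = n := by
    rw [Subgroup.orderOf_coe, orderOf_eq_card_of_forall_mem_zpowers hy₀, hcardT]
  have hcz : (y₀ : SL2) ∉ Subgroup.center SL2 := by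
    intro h
    rw [mem_center_iff_sq hodd] at h
    have h1 := orderOf_dvd_of_pow_eq_one h
    rw [hord] at h1
    have := Nat.le_of_dvd (by norm_num) h1
    omega
  have hcop : Nat.Coprime n (Fintype.card F) := by
    rcases hn with h | h
    · rw [h]
      obtain ⟨r, hr⟩ : ∃ r, Fintype.card F = r + 1 := ⟨Fintype.card F - 1, by omega⟩
      rw [hr]
      simp
    · rw [h]
      simp
  have ht4 := trace_sq_ne_four_of_pow hodd (y₀ : SL2) n
    (by rw [← hord]; exact pow_orderOf_eq_one _) hcop hcz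
  have hns := not_isScalar2_of_not_mem_center (y₀ : SL2) hcz
  have h2 := two_ne_zero_of_odd hodd
  have hNT : N ≤ Subgroup.normalizer (T : Set SL2) := by
    rw [hN, hT]
    exact SylowTorus.normalizer_le_normalizer_centralizer _
  -- inversion
  have hinv : ∀ x ∈ N, x ∉ T → ∀ y ∈ T, x⁻¹ * y * x = y⁻¹ := by
    intro x hx hxT y hy
    have h1 : x⁻¹ * (y₀ : SL2) * x ∈ T := by
      have := (Subgroup.mem_normalizer_iff.1 (hNT (N.inv_mem hx)) (y₀ : SL2)).1 y₀.2
      rwa [inv_inv] at this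
    have hc1 : x⁻¹ * (y₀ : SL2) * x * (y₀ : SL2) = (y₀ : SL2) * (x⁻¹ * (y₀ : SL2) * x) :=
      hcomm _ h1 _ y₀.2
    have htr := trace_conj' (y₀ : SL2) x
    have h3 : x⁻¹ * (y₀ : SL2) * x = y₀ ∨ x⁻¹ * (y₀ : SL2) * x = (y₀ : SL2)⁻¹ :=
      eq_or_eq_inv_of_commute h2 (y₀ : SL2) (x⁻¹ * (y₀ : SL2) * x) hns ht4 hc1 htr
    have h4 : x⁻¹ * (y₀ : SL2) * x = (y₀ : SL2)⁻¹ := by
      rcases h3 with h3 | h3
      · exfalso
        apply hxT
        have hxc : (y₀ : SL2) * x = x * (y₀ : SL2) := by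
          calc (y₀ : SL2) * x = x * (x⁻¹ * y₀ * x) := by group
            _ = x * y₀ := by rw [h3]
        rw [hT, Subgroup.mem_centralizer_iff]
        intro g hg
        have hgT : g ∈ Subgroup.zpowers (y₀ : SL2) := by
          rw [hzp]
          exact hPT hg
        obtain ⟨j, rfl⟩ := Subgroup.mem_zpowers_iff.1 hgT
        exact (Commute.zpow_left (show Commute (y₀ : SL2) x from hxc) j).eq
      · exact h3
    have hyz : y ∈ Subgroup.zpowers (y₀ : SL2) := by
      rw [hzp]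
      exact hy
    obtain ⟨j, rfl⟩ := Subgroup.mem_zpowers_iff.1 hyz
    rw [conj_zpow_inv, h4, _root_.inv_zpow]
  have hZ := card_sq_eq_one_of_center_le hodd T (by
    rw [hT]
    exact Subgroup.center_le_centralizer _)
  have hfin := dic_count_odd T N hTN hcard hcomm hinv hZ ℓ hℓ3
  rw [hcardT] at hfin
  exact hfin

end torus

end Cfsg.Agent.Lib.Helper6.McKay
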