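import Mathlib

/-!
# Metacyclic presentations `⟨a, b | a^M, b^n = a^τ, b a b⁻¹ = a^ρ⟩`: basics

Definition of the relator set (syntactically the one used in `fg6_metacyclic_group_multiplier`),
the universal property, generation and finiteness.
-/

set_option autoImplicit false

namespace Cfsg.Agent.Lib.Helper6.MetaSchur

/-- The relator set of the metacyclic presentation. -/
def metaRels (M n ρ τ : ℕ) : Set (FreeGroup Bool) :=
  {FreeGroup.of true ^ M, (FreeGroup.of false) ^ n * (FreeGroup.of true ^ τ)⁻¹,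
    FreeGroup.of false * FreeGroup.of true * (FreeGroup.of false)⁻¹ * (FreeGroup.of true ^ ρ)⁻¹}

/-- The metacyclic presented group. -/
abbrev MP (M n ρ τ : ℕ) : Type := PresentedGroup (metaRels M n ρ τ)

/-- The generator `a`. -/
def MP.a (M n ρ τ : ℕ) : MP M n ρ τ := PresentedGroup.of true

/-- The generator `b`. -/
def MP.b (M n ρ τ : ℕ) : MP M n ρ τ := PresentedGroup.of false

variable {M n ρ τ : ℕ}

theorem MP.a_pow : (MP.a M n ρ τ) ^ M = 1 := by
  have h : PresentedGroup.mk (metaRels M n ρ τ) (FreeGroup.of true ^ M) = 1 :=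
    PresentedGroup.one_of_mem (by simp [metaRels])
  rwa [map_pow] at h

theorem MP.b_pow : (MP.b M n ρ τ) ^ n = (MP.a M n ρ τ) ^ τ := by
  have h : PresentedGroup.mk (metaRels M n ρ τ)
      ((FreeGroup.of false) ^ n * (FreeGroup.of true ^ τ)⁻¹) = 1 :=
    PresentedGroup.one_of_mem (by simp [metaRels])
  rw [map_mul, map_inv, map_pow, map_pow, mul_inv_eq_one] at h
  exact h

theorem MP.conj : (MP.b M n ρ τ) * (MP.a M n ρ τ) * (MP.b M n ρ τ)⁻¹ = (MP.a M n ρ τ) ^ ρ := by
  have h : PresentedGroup.mk (metaRels M n ρ τ)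
      (FreeGroup.of false * FreeGroup.of true * (FreeGroup.of false)⁻¹ *
        (FreeGroup.of true ^ ρ)⁻¹) = 1 :=
    PresentedGroup.one_of_mem (by simp [metaRels])
  rw [map_mul, map_inv, map_pow, mul_inv_eq_one, map_mul, map_mul, map_inv] at h
  exact h

/-- Universal property. -/
def MP.lift {H : Type*} [Group H] (A B : H) (h1 : A ^ M = 1) (h2 : B ^ n = A ^ τ)
    (h3 : B * A * B⁻¹ = A ^ ρ) : MP M n ρ τ →* H :=
  PresentedGroup.toGroup (f := fun x : Bool => if x then A else B) (rels := metaRels M n ρ τ) (by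
    intro r hr
    simp only [metaRels, Set.mem_insert_iff, Set.mem_singleton_iff] at hr
    rcases hr with rfl | rfl | rfl
    · simp [h1]
    · simp [h2]
    · simp [h3])

@[simp] theorem MP.lift_a {H : Type*} [Group H] (A B : H) (h1 : A ^ M = 1) (h2 : B ^ n = A ^ τ)
    (h3 : B * A * B⁻¹ = A ^ ρ) : MP.lift A B h1 h2 h3 (MP.a M n ρ τ) = A := by
  simp [MP.lift, MP.a]

@[simp] theorem MP.lift_b {H : Type*} [Group H] (A B : H) (h1 : A ^ M = 1) (h2 : B ^ n = A ^ τ)
    (h3 : B * A * B⁻¹ = A ^ ρ) : MP.lift A B h1 h2 h3 (MP.b M n ρ τ) = B := by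
  simp [MP.lift, MP.b]

theorem MP.hom_ext {H : Type*} [Group H] {f g : MP M n ρ τ →* H}
    (ha : f (MP.a M n ρ τ) = g (MP.a M n ρ τ)) (hb : f (MP.b M n ρ τ) = g (MP.b M n ρ τ)) :
    f = g := by
  apply PresentedGroup.ext
  intro x
  cases x
  · exact hb
  · exact ha

/-- A subgroup containing `a` and `b` is everything. -/
theorem MP.mem_of_gens (S : Subgroup (MP M n ρ τ)) (ha : MP.a M n ρ τ ∈ S)
    (hb : MP.b M n ρ τ ∈ S) (x : MP M n ρ τ) : x ∈ S := by
  apply PresentedGroup.generated_by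
  intro j
  cases j
  · exact hb
  · exact ha

/-- Normal form in any group satisfying the relations. -/
theorem normal_form_aux {G : Type*} [Group G] (a b : G) (h1 : a ^ M = 1) (h2 : b ^ n = a ^ τ)
    (h3 : b * a * b⁻¹ = a ^ ρ) (hM : 0 < M) (hn : 0 < n) (x : G)
    (hx : x ∈ Subgroup.closure ({a, b} : Set G)) :
    ∃ i j : ℕ, i < M ∧ j < n ∧ x = a ^ i * b ^ j := by
  have hcp : ∀ i : ℕ, b * a ^ i * b⁻¹ = a ^ (ρ * i) := by
    intro i
    rw [pow_mul, ← h3, conj_pow]
  -- reduction of exponents of a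
  have hred : ∀ i : ℕ, a ^ i = a ^ (i % M) := by
    intro i
    conv_lhs => rw [← Nat.div_add_mod i M]
    rw [pow_add, pow_mul, h1, one_pow, one_mul]
  have hbfin : b ^ (n * M) = 1 := by
    rw [pow_mul, h2, ← pow_mul, mul_comm, pow_mul, h1, one_pow]
  -- the set of normal forms
  let T : Set G := {x | ∃ i j : ℕ, i < M ∧ j < n ∧ x = a ^ i * b ^ j}
  have hT1 : (1 : G) ∈ T := ⟨0, 0, hM, hn, by simp⟩
  have hTa : ∀ y ∈ T, a * y ∈ T := by
    rintro y ⟨i, j, hi, hj, rfl⟩
    refine ⟨(i + 1) % M, j, Nat.mod_lt _ hM, hj, ?_⟩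
    rw [← hred, pow_succ', mul_assoc]
  have hTb : ∀ y ∈ T, b * y ∈ T := by
    rintro y ⟨i, j, hi, hj, rfl⟩
    have e1 : b * (a ^ i * b ^ j) = a ^ (ρ * i) * b ^ (j + 1) := by
      rw [← hcp, pow_succ']
      group
    by_cases hj1 : j + 1 < n
    · refine ⟨(ρ * i) % M, j + 1, Nat.mod_lt _ hM, hj1, ?_⟩
      rw [e1, ← hred]
    · have hjn : j + 1 = n := by omega
      refine ⟨(ρ * i + τ) % M, 0, Nat.mod_lt _ hM, hn, ?_⟩
      rw [e1, hjn, h2, ← pow_add, ← hred, pow_zero, mul_one]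
  have hTapow : ∀ k : ℕ, ∀ y ∈ T, a ^ k * y ∈ T := by
    intro k
    induction k with
    | zero => intro y hy; simpa using hy
    | succ k ih => intro y hy; rw [pow_succ', mul_assoc]; exact hTa _ (ih y hy)
  have hTbpow : ∀ k : ℕ, ∀ y ∈ T, b ^ k * y ∈ T := by
    intro k
    induction k with
    | zero => intro y hy; simpa using hy
    | succ k ih => intro y hy; rw [pow_succ', mul_assoc]; exact hTb _ (ih y hy)
  have hainv : a⁻¹ = a ^ (M - 1) := by
    rw [inv_eq_iff_mul_eq_one, ← pow_succ', Nat.sub_add_cancel hM, h1]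
  have hbinv : b⁻¹ = b ^ (n * M - 1) := by
    have : 0 < n * M := Nat.mul_pos hn hM
    rw [inv_eq_iff_mul_eq_one, ← pow_succ', Nat.sub_add_cancel this, hbfin]
  have hall : ∀ y : G, y ∈ Subgroup.closure ({a, b} : Set G) → y ∈ T := by
    intro y hy
    induction hy using Subgroup.closure_induction_left with
    | one => exact hT1
    | mul_left x hx y _ ih =>
      rcases hx with rfl | rfl
      · exact hTa _ ih
      · exact hTb _ ih
    | inv_mul_cancel x hx y _ ih =>
      rcases hx with rfl | rfl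
      · rw [hainv]; exact hTapow _ _ ih
      · rw [hbinv]; exact hTbpow _ _ ih
  exact hall x hx

/-- Every element is `a^i b^j` with `i < M`, `j < n`. -/
theorem MP.normal_form (hM : 0 < M) (hn : 0 < n) (x : MP M n ρ τ) :
    ∃ i j : ℕ, i < M ∧ j < n ∧ x = (MP.a M n ρ τ) ^ i * (MP.b M n ρ τ) ^ j :=
  normal_form_aux _ _ MP.a_pow MP.b_pow MP.conj hM hn x
    (MP.mem_of_gens _ (Subgroup.subset_closure (by simp)) (Subgroup.subset_closure (by simp)) x)

theorem MP.finite (hM : 0 < M) (hn : 0 < n) : Finite (MP M n ρ τ) := by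
  have hsurj : Function.Surjective (fun p : Fin M × Fin n =>
      (MP.a M n ρ τ) ^ (p.1 : ℕ) * (MP.b M n ρ τ) ^ (p.2 : ℕ)) := by
    intro x
    obtain ⟨i, j, hi, hj, rfl⟩ := MP.normal_form hM hn x
    exact ⟨(⟨i, hi⟩, ⟨j, hj⟩), rfl⟩
  exact Finite.of_surjective _ hsurj

end Cfsg.Agent.Lib.Helper6.MetaSchur
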