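import Cfsg.Agent.Lib.Helper6.MetaSchur0

/-!
# A concrete model: `(ZMod M ⋊ ℤ) / ⟨(-τ, n)⟩`

It shows that `a` has order exactly `M` in `⟨a, b | a^M, b^n = a^τ, b a b⁻¹ = a^ρ⟩` as soon as
`ρ^n ≡ 1` and `τ ρ ≡ τ (mod M)`.
-/

set_option autoImplicit false

namespace Cfsg.Agent.Lib.Helper6.MetaSchur

/-- The semidirect product `ZMod M ⋊ ℤ`, `1 ∈ ℤ` acting by the unit `u`. -/
@[ext] structure SK (M : ℕ) (u : (ZMod M)ˣ) where
  /-- the `ZMod M` component -/
  x : ZMod M
  /-- the integer component -/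
  i : ℤ

namespace SK

variable {M : ℕ} {u : (ZMod M)ˣ}

instance : Mul (SK M u) := ⟨fun p q => ⟨p.x + ((u ^ p.i : (ZMod M)ˣ) : ZMod M) * q.x, p.i + q.i⟩⟩
instance : One (SK M u) := ⟨⟨0, 0⟩⟩
instance : Inv (SK M u) := ⟨fun p => ⟨-(((u ^ (-p.i) : (ZMod M)ˣ) : ZMod M) * p.x), -p.i⟩⟩

@[simp] theorem mul_x (p q : SK M u) :
    (p * q).x = p.x + ((u ^ p.i : (ZMod M)ˣ) : ZMod M) * q.x := rfl
@[simp] theorem mul_i (p q : SK M u) : (p * q).i = p.i + q.i := rfl
@[simp] theorem one_x : (1 : SK M u).x = 0 := rfl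
@[simp] theorem one_i : (1 : SK M u).i = 0 := rfl
@[simp] theorem inv_x (p : SK M u) :
    (p⁻¹).x = -(((u ^ (-p.i) : (ZMod M)ˣ) : ZMod M) * p.x) := rfl
@[simp] theorem inv_i (p : SK M u) : (p⁻¹).i = -p.i := rfl

instance : Group (SK M u) :=
  Group.ofLeftAxioms
    (by
      intro p q r
      ext
      · simp only [mul_x, mul_i, zpow_add, Units.val_mul]
        ring
      · simp only [mul_i]; ring)
    (by
      intro p
      ext
      · simp
      · simp)
    (by
      intro p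
      ext
      · simp
      · simp)

/-- Projection to the integers. -/
def proj : SK M u →* Multiplicative ℤ where
  toFun p := Multiplicative.ofAdd p.i
  map_one' := rfl
  map_mul' _ _ := rfl

theorem pow_x0 (y : ZMod M) (j : ℕ) : ((⟨y, 0⟩ : SK M u) ^ j) = ⟨j * y, 0⟩ := by
  induction j with
  | zero => ext <;> simp
  | succ j ih =>
    rw [pow_succ, ih]
    ext
    · simp; ring
    · simp

theorem pow_0i (j : ℕ) : ((⟨0, 1⟩ : SK M u) ^ j) = ⟨0, j⟩ := by
  induction j with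
  | zero => ext <;> simp
  | succ j ih =>
    rw [pow_succ, ih]
    ext
    · simp
    · simp

end SK

section model

variable (M n ρ τ : ℕ) [NeZero M]

/-- The statement: in the presented group `a` has order `M`. -/
theorem MP.orderOf_a (hn : 0 < n) (hρ : ρ ^ n ≡ 1 [MOD M]) (hτ : τ * ρ ≡ τ [MOD M]) :
    orderOf (MP.a M n ρ τ) = M := by
  -- the unit
  have hcop : Nat.Coprime ρ M := by
    have h1 : Nat.Coprime (ρ ^ n) M := by
      have := hρ.gcd_eq
      rw [Nat.Coprime, this]; simp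
    exact Nat.Coprime.coprime_dvd_left (dvd_pow_self ρ hn.ne') h1
  let u : (ZMod M)ˣ := ZMod.unitOfCoprime ρ hcop
  have hu : (u : ZMod M) = (ρ : ZMod M) := ZMod.coe_unitOfCoprime ρ hcop
  have hun : u ^ n = 1 := by
    apply Units.ext
    rw [Units.val_pow_eq_pow_val, hu, Units.val_one, ← Nat.cast_pow]
    have := (ZMod.natCast_eq_natCast_iff _ _ M).2 hρ
    simpa using this
  have huτ : (u : ZMod M) * (τ : ZMod M) = τ := by
    rw [hu, mul_comm, ← Nat.cast_mul]
    exact (ZMod.natCast_eq_natCast_iff _ _ M).2 hτ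
  have huτz : ∀ i : ℤ, ((u ^ i : (ZMod M)ˣ) : ZMod M) * (τ : ZMod M) = τ := by
    intro i
    induction i using Int.induction_on with
    | zero => simp
    | succ i ih => rw [zpow_add_one, Units.val_mul, mul_assoc, huτ, ih]
    | pred i ih =>
      rw [zpow_sub_one, Units.val_mul, mul_assoc]
      have : ((u⁻¹ : (ZMod M)ˣ) : ZMod M) * (τ : ZMod M) = τ := by
        conv_lhs => rw [← huτ]
        rw [← mul_assoc, ← Units.val_mul, inv_mul_cancel, Units.val_one, one_mul]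
      rw [this, ih]
  -- the central element
  let g₀ : SK M u := ⟨-(τ : ZMod M), n⟩
  have hcentral : ∀ p : SK M u, p * g₀ = g₀ * p := by
    intro p
    ext
    · simp only [SK.mul_x, g₀]
      have : (u ^ (n : ℤ) : (ZMod M)ˣ) = 1 := by rw [zpow_natCast, hun]
      rw [this, Units.val_one, one_mul, mul_neg, huτz]
      ring
    · simp only [SK.mul_i, g₀]; ring
  let N : Subgroup (SK M u) := Subgroup.zpowers g₀
  have hNc : ∀ y ∈ N, ∀ p : SK M u, p * y = y * p := by
    intro y hy p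
    obtain ⟨k, rfl⟩ := Subgroup.mem_zpowers_iff.1 hy
    have hc : Commute p g₀ := hcentral p
    exact (hc.zpow_right k)
  haveI : N.Normal := ⟨by
    intro y hy p
    rw [hNc y hy p, mul_inv_cancel_right]
    exact hy⟩
  let A : SK M u ⧸ N := QuotientGroup.mk ⟨1, 0⟩
  let B : SK M u ⧸ N := QuotientGroup.mk ⟨0, 1⟩
  have hA1 : A ^ M = 1 := by
    show (QuotientGroup.mk ((⟨1, 0⟩ : SK M u)) : SK M u ⧸ N) ^ M = 1
    rw [← QuotientGroup.mk_pow, SK.pow_x0]
    have : (⟨(M : ZMod M) * 1, 0⟩ : SK M u) = 1 := by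
      ext <;> simp
    rw [this]; rfl
  have hB1 : B ^ n = A ^ τ := by
    show (QuotientGroup.mk ((⟨0, 1⟩ : SK M u)) : SK M u ⧸ N) ^ n
      = (QuotientGroup.mk ((⟨1, 0⟩ : SK M u)) : SK M u ⧸ N) ^ τ
    rw [← QuotientGroup.mk_pow, ← QuotientGroup.mk_pow, SK.pow_x0, SK.pow_0i]
    rw [eq_comm, QuotientGroup.eq]
    have : (⟨(τ : ZMod M) * 1, 0⟩ : SK M u)⁻¹ * ⟨0, n⟩ = g₀ := by
      ext <;> simp [g₀]
    rw [this]
    exact Subgroup.mem_zpowers g₀
  have hAB : B * A * B⁻¹ = A ^ ρ := by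
    rw [mul_inv_eq_iff_eq_mul]
    show (QuotientGroup.mk ((⟨0, 1⟩ : SK M u)) : SK M u ⧸ N) * QuotientGroup.mk ((⟨1, 0⟩ : SK M u))
      = (QuotientGroup.mk ((⟨1, 0⟩ : SK M u)) : SK M u ⧸ N) ^ ρ * QuotientGroup.mk ((⟨0, 1⟩ : SK M u))
    rw [← QuotientGroup.mk_pow, ← QuotientGroup.mk_mul, ← QuotientGroup.mk_mul, SK.pow_x0]
    congr 1
    ext <;> simp [hu]
  let f : MP M n ρ τ →* SK M u ⧸ N := MP.lift A B hA1 hB1 hAB
  have hordA : orderOf A = M := by
    apply Nat.dvd_antisymm (orderOf_dvd_of_pow_eq_one hA1)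
    have h := pow_orderOf_eq_one A
    have h' : (QuotientGroup.mk ((⟨1, 0⟩ : SK M u) ^ orderOf A) : SK M u ⧸ N) = 1 := by
      rw [QuotientGroup.mk_pow]; exact h
    rw [QuotientGroup.eq_one_iff, SK.pow_x0] at h'
    obtain ⟨k, hk⟩ := Subgroup.mem_zpowers_iff.1 h'
    have hk2 := congrArg (SK.proj (M := M) (u := u)) hk
    rw [map_zpow] at hk2
    have hk3 : k * (n : ℤ) = 0 := by
      have := congrArg Multiplicative.toAdd hk2
      simpa [SK.proj, g₀] using this
    have hk0 : k = 0 := by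
      rcases mul_eq_zero.1 hk3 with h | h
      · exact h
      · exact absurd (by exact_mod_cast h) hn.ne'
    rw [hk0, zpow_zero] at hk
    have hx := congrArg SK.x hk
    simp only [SK.one_x, mul_one] at hx
    exact (ZMod.natCast_eq_zero_iff _ _).1 hx.symm
  apply Nat.dvd_antisymm (orderOf_dvd_of_pow_eq_one MP.a_pow)
  have := orderOf_map_dvd f (MP.a M n ρ τ)
  rw [MP.lift_a, hordA] at this
  exact this

end model

end Cfsg.Agent.Lib.Helper6.MetaSchur
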