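import Cfsg.Agent.Lib.Helper6.MetaSchur1

/-!
# Upper bound: kernels of finite stem extensions of a metacyclic group

For a group `G = ⟨a, b⟩` with `b^n = a^t`, `b a b⁻¹ = a^(q+1)` and a finite stem extension
`σ : Γ → G` we produce `c ∈ Γ` (a commutator of lifts) with `ker σ ≤ ⟨c⟩`, `σ c = a^q`,
`c^(orderOf a) = 1`, `c^t = 1`, `c^(1 + r + ⋯ + r^(n-1)) = 1`.
-/

set_option autoImplicit false

namespace Cfsg.Agent.Lib.Helper6.MetaSchur

open Finset
open scoped commutatorElement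

/-- A group generated by pairwise commuting elements is commutative. -/
theorem comm_of_closure {Q : Type*} [Group Q] (T : Set Q) (hT : Subgroup.closure T = ⊤)
    (hc : ∀ x ∈ T, ∀ y ∈ T, x * y = y * x) : ∀ x y : Q, x * y = y * x := by
  have step1 : ∀ x ∈ T, ∀ y : Q, x * y = y * x := by
    intro x hx y
    have hle : Subgroup.closure T ≤ Subgroup.centralizer {x} := by
      rw [Subgroup.closure_le]
      intro t ht
      rw [SetLike.mem_coe, Subgroup.mem_centralizer_iff]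
      intro h hh
      rw [Set.mem_singleton_iff] at hh; subst hh
      exact hc h hx t ht
    have hy : y ∈ Subgroup.centralizer {x} := hle (hT ▸ Subgroup.mem_top y)
    exact (Subgroup.mem_centralizer_iff.1 hy x rfl)
  intro x y
  have hle : Subgroup.closure T ≤ Subgroup.centralizer {y} := by
    rw [Subgroup.closure_le]
    intro t ht
    rw [SetLike.mem_coe, Subgroup.mem_centralizer_iff]
    intro h hh
    rw [Set.mem_singleton_iff] at hh; subst hh
    exact (step1 t ht h).symm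
  have hx : x ∈ Subgroup.centralizer {y} := hle (hT ▸ Subgroup.mem_top x)
  exact (Subgroup.mem_centralizer_iff.1 hx y rfl).symm

/-- The relations satisfied by `c = [β, α]` when the three relators are central. -/
theorem core_relations {Γ : Type*} [Group Γ] (α β : Γ) (m n q t : ℕ)
    (hz : ∀ g : Γ, g * (β * α * β⁻¹ * (α ^ (q + 1))⁻¹) = (β * α * β⁻¹ * (α ^ (q + 1))⁻¹) * g)
    (hζ : ∀ g : Γ, g * (β ^ n * (α ^ t)⁻¹) = (β ^ n * (α ^ t)⁻¹) * g)
    (hm : ∀ g : Γ, g * α ^ m = α ^ m * g) :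
    Commute (β * α * β⁻¹ * α⁻¹) α ∧
      β * (β * α * β⁻¹ * α⁻¹) * β⁻¹ = (β * α * β⁻¹ * α⁻¹) ^ (q + 1) ∧
      (β * α * β⁻¹ * α⁻¹) ^ m = 1 ∧ (β * α * β⁻¹ * α⁻¹) ^ t = 1 ∧
      (β * α * β⁻¹ * α⁻¹) ^ (∑ i ∈ range n, (q + 1) ^ i) = 1 := by
  obtain ⟨z, hzdef⟩ : ∃ z, z = β * α * β⁻¹ * (α ^ (q + 1))⁻¹ := ⟨_, rfl⟩
  obtain ⟨ζ, hζdef⟩ : ∃ ζ, ζ = β ^ n * (α ^ t)⁻¹ := ⟨_, rfl⟩
  obtain ⟨c, hcdef⟩ : ∃ c, c = β * α * β⁻¹ * α⁻¹ := ⟨_, rfl⟩
  rw [← hzdef] at hz
  rw [← hζdef] at hζ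
  rw [← hcdef]
  have hzc : ∀ g, Commute z g := fun g => (hz g).symm
  have hζc : ∀ g, Commute ζ g := fun g => (hζ g).symm
  have hconj : β * α * β⁻¹ = z * α ^ (q + 1) := by rw [hzdef]; group
  have hconj' : β * α * β⁻¹ = c * α := by rw [hcdef]; group
  have hc : c = z * α ^ q := by
    rw [hcdef, hconj, pow_succ, mul_assoc, mul_assoc, mul_inv_cancel, mul_one]
  have hcα : Commute c α := by
    rw [hc]
    exact (hzc α).mul_left ((Commute.refl α).pow_left q)
  have hβc : β * c * β⁻¹ = c ^ (q + 1) := by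
    have e1 : β * c * β⁻¹ = z * (β * α * β⁻¹) ^ q := by
      rw [conj_pow, hc]
      have := (hzc β).eq
      calc β * (z * α ^ q) * β⁻¹ = (β * z) * α ^ q * β⁻¹ := by group
        _ = (z * β) * α ^ q * β⁻¹ := by rw [this]
        _ = z * (β * α ^ q * β⁻¹) := by group
    rw [e1, hconj, (hzc (α ^ (q + 1))).mul_pow, hc, (hzc (α ^ q)).mul_pow, ← mul_assoc,
      ← pow_succ', ← pow_mul, ← pow_mul, mul_comm q (q + 1)]
  have key : ∀ e : ℕ, Commute β (α ^ e) → c ^ e = 1 := by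
    intro e he
    have h1 : β * α ^ e * β⁻¹ = α ^ e := by rw [he.eq, mul_inv_cancel_right]
    have h2 : β * α ^ e * β⁻¹ = c ^ e * α ^ e := by
      rw [← conj_pow, hconj', hcα.mul_pow]
    have h3 : c ^ e * α ^ e = 1 * α ^ e := by rw [one_mul, ← h2, h1]
    exact mul_right_cancel h3
  have hαt : α ^ t = ζ⁻¹ * β ^ n := by rw [hζdef]; group
  have hβn : β ^ n = ζ * α ^ t := by rw [hζdef]; group
  refine ⟨hcα, hβc, ?_, ?_, ?_⟩
  · exact key m (hm β)
  · apply key t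
    rw [hαt]
    exact ((hζc β).symm.inv_right).mul_right ((Commute.refl β).pow_right n)
  · have hind : ∀ j : ℕ, β ^ j * α * (β ^ j)⁻¹ = c ^ (∑ i ∈ range j, (q + 1) ^ i) * α := by
      intro j
      induction j with
      | zero => simp
      | succ j ih =>
        have e1 : β ^ (j + 1) * α * (β ^ (j + 1))⁻¹ = β * (β ^ j * α * (β ^ j)⁻¹) * β⁻¹ := by
          rw [pow_succ']; group
        have e2 : ∑ i ∈ range (j + 1), (q + 1) ^ i
            = (∑ i ∈ range j, (q + 1) ^ i) * (q + 1) + 1 := by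
          rw [Finset.sum_range_succ', Finset.sum_mul]
          simp [pow_succ]
        rw [e1, ih, e2]
        have e3 : β * (c ^ (∑ i ∈ range j, (q + 1) ^ i) * α) * β⁻¹
            = (β * c * β⁻¹) ^ (∑ i ∈ range j, (q + 1) ^ i) * (β * α * β⁻¹) := by
          rw [conj_pow]; group
        rw [e3, hβc, hconj', ← pow_mul, pow_succ, mul_comm (q + 1), mul_assoc]
    have hcomm : Commute (β ^ n) α := by
      rw [hβn]
      exact (hζc α).mul_left ((Commute.refl α).pow_left t)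
    have h1 : β ^ n * α * (β ^ n)⁻¹ = α := by rw [hcomm.eq, mul_inv_cancel_right]
    have h3 : c ^ (∑ i ∈ range n, (q + 1) ^ i) * α = 1 * α := by rw [one_mul, ← hind n, h1]
    exact mul_right_cancel h3

/-- Upper bound for stem extensions of a two-generator metacyclic group. -/
theorem stem_upper {G : Type*} [Group G] (a b : G)
    (hgen : ∀ x : G, x ∈ Subgroup.closure ({a, b} : Set G))
    (n q t : ℕ) (h2 : b ^ n = a ^ t) (h3 : b * a * b⁻¹ = a ^ (q + 1))
    {Γ : Type*} [Group Γ] [Finite Γ] (σ : Γ →* G) (hsurj : Function.Surjective σ)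
    (hcen : σ.ker ≤ Subgroup.center Γ) (hcomm : σ.ker ≤ commutator Γ) :
    ∃ c : Γ, c ^ (orderOf a) = 1 ∧ c ^ (∑ i ∈ range n, (q + 1) ^ i) = 1 ∧ c ^ t = 1 ∧
      σ c = a ^ q ∧ σ.ker ≤ Subgroup.zpowers c := by
  obtain ⟨α, hα⟩ := hsurj a
  obtain ⟨β, hβ⟩ := hsurj b
  have hZ : ∀ x ∈ σ.ker, ∀ g : Γ, g * x = x * g := fun x hx g =>
    Subgroup.mem_center_iff.1 (hcen hx) g
  have hz : β * α * β⁻¹ * (α ^ (q + 1))⁻¹ ∈ σ.ker := by
    rw [MonoidHom.mem_ker]
    simp only [map_mul, map_inv, map_pow, hα, hβ]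
    rw [h3, mul_inv_cancel]
  have hζ : β ^ n * (α ^ t)⁻¹ ∈ σ.ker := by
    rw [MonoidHom.mem_ker]
    simp only [map_mul, map_inv, map_pow, hα, hβ]
    rw [h2, mul_inv_cancel]
  have hm : α ^ (orderOf a) ∈ σ.ker := by
    rw [MonoidHom.mem_ker, map_pow, hα, pow_orderOf_eq_one]
  obtain ⟨hcα, hβc, hcm, hct, hcs⟩ :=
    core_relations α β (orderOf a) n q t (hZ _ hz) (hZ _ hζ) (hZ _ hm)
  obtain ⟨c, hcdef⟩ : ∃ c, c = β * α * β⁻¹ * α⁻¹ := ⟨_, rfl⟩
  rw [← hcdef] at hcα hβc hcm hct hcs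
  have hσc : σ c = a ^ q := by
    rw [hcdef]
    simp only [map_mul, map_inv, hα, hβ]
    rw [h3, pow_succ, mul_inv_cancel_right]
  refine ⟨c, hcm, hcs, hct, hσc, ?_⟩
  -- Γ is generated by α, β
  have hdecomp : ∀ g : Γ, ∃ x ∈ Subgroup.closure ({α, β} : Set Γ), ∃ y ∈ σ.ker, g = x * y := by
    intro g
    have h1 : σ g ∈ (Subgroup.closure ({α, β} : Set Γ)).map σ := by
      rw [MonoidHom.map_closure, Set.image_pair, hα, hβ]
      exact hgen _
    obtain ⟨x, hx, hxg⟩ := Subgroup.mem_map.1 h1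
    refine ⟨x, hx, x⁻¹ * g, ?_, by group⟩
    rw [MonoidHom.mem_ker, map_mul, map_inv, hxg, inv_mul_cancel]
  have hcl : commutator Γ ≤ Subgroup.closure ({α, β} : Set Γ) := by
    rw [commutator_def, Subgroup.commutator_le]
    intro g₁ _ g₂ _
    obtain ⟨x₁, hx₁, y₁, hy₁, rfl⟩ := hdecomp g₁
    obtain ⟨x₂, hx₂, y₂, hy₂, rfl⟩ := hdecomp g₂
    have e : ⁅x₁ * y₁, x₂ * y₂⁆ = ⁅x₁, x₂⁆ := by
      have c1 : ∀ g, Commute y₁ g := fun g => (hZ y₁ hy₁ g).symm
      have c2 : ∀ g, Commute y₂ g := fun g => (hZ y₂ hy₂ g).symm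
      rw [commutatorElement_def, commutatorElement_def, mul_inv_rev, mul_inv_rev]
      calc x₁ * y₁ * (x₂ * y₂) * (y₁⁻¹ * x₁⁻¹) * (y₂⁻¹ * x₂⁻¹)
          = x₁ * (y₁ * (x₂ * y₂) * y₁⁻¹) * x₁⁻¹ * (y₂⁻¹ * x₂⁻¹) := by group
        _ = x₁ * (x₂ * y₂) * x₁⁻¹ * (y₂⁻¹ * x₂⁻¹) := by
            rw [(c1 (x₂ * y₂)).eq, mul_inv_cancel_right]
        _ = x₁ * x₂ * (y₂ * x₁⁻¹ * y₂⁻¹) * x₂⁻¹ := by group
        _ = x₁ * x₂ * x₁⁻¹ * x₂⁻¹ := by
            rw [(c2 x₁⁻¹).eq, mul_inv_cancel_right]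
    rw [e, commutatorElement_def]
    exact Subgroup.mul_mem _ (Subgroup.mul_mem _ (Subgroup.mul_mem _ hx₁ hx₂)
      (Subgroup.inv_mem _ hx₁)) (Subgroup.inv_mem _ hx₂)
  have hΓ : Subgroup.closure ({α, β} : Set Γ) = ⊤ := by
    rw [eq_top_iff]
    intro g _
    obtain ⟨x, hx, y, hy, rfl⟩ := hdecomp g
    exact Subgroup.mul_mem _ hx (hcl (hcomm hy))
  -- C = ⟨c⟩ is normal
  have hCn : (Subgroup.zpowers c).Normal := by
    rw [← Subgroup.normalizer_eq_top_iff, eq_top_iff, ← hΓ, Subgroup.closure_le]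
    intro g hg
    rcases hg with rfl | rfl
    · apply Subgroup.mem_normalizer_fintype
      intro x hx
      obtain ⟨j, rfl⟩ := Subgroup.mem_zpowers_iff.1 hx
      have : Commute g (c ^ j) := (hcα.symm).zpow_right j
      rw [this.eq, mul_inv_cancel_right]
      exact hx
    · apply Subgroup.mem_normalizer_fintype
      intro x hx
      obtain ⟨j, rfl⟩ := Subgroup.mem_zpowers_iff.1 hx
      rw [SetLike.mem_coe, ← conj_zpow, hβc, ← zpow_natCast, ← zpow_mul]
      exact Subgroup.zpow_mem_zpowers c _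
  -- the quotient is commutative
  have hQ : ∀ x y : Γ ⧸ Subgroup.zpowers c, x * y = y * x := by
    apply comm_of_closure ((QuotientGroup.mk' (Subgroup.zpowers c)) '' ({α, β} : Set Γ))
    · rw [← MonoidHom.map_closure, hΓ, ← MonoidHom.range_eq_map, MonoidHom.range_eq_top]
      exact QuotientGroup.mk'_surjective _
    · have hc1 : (QuotientGroup.mk' (Subgroup.zpowers c)) c = 1 := by
        rw [QuotientGroup.mk'_apply, QuotientGroup.eq_one_iff]
        exact Subgroup.mem_zpowers c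
      have hβα : β * α = c * α * β := by rw [hcdef]; group
      have key : (QuotientGroup.mk' (Subgroup.zpowers c)) β * (QuotientGroup.mk' (Subgroup.zpowers c)) α
          = (QuotientGroup.mk' (Subgroup.zpowers c)) α * (QuotientGroup.mk' (Subgroup.zpowers c)) β := by
        rw [← map_mul, hβα, map_mul, map_mul, hc1, one_mul]
      rintro x ⟨x', hx', rfl⟩ y ⟨y', hy', rfl⟩
      rcases hx' with rfl | rfl <;> rcases hy' with rfl | rfl
      · rfl
      · exact key.symm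
      · exact key
      · rfl
  have hle : commutator Γ ≤ Subgroup.zpowers c :=
    Subgroup.Normal.quotient_commutative_iff_commutator_le.mp ⟨⟨hQ⟩⟩
  exact hcomm.trans hle

end Cfsg.Agent.Lib.Helper6.MetaSchur
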