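import Cfsg.Agent.Lib.Helper6.MetaSchur2

/-!
# The Schur multiplier of a metacyclic group: assembly

Arithmetic, the upper bound for kernels of finite stem extensions, and the construction of a
stem extension with kernel cyclic of order `gcd(l, h)`.
-/

set_option autoImplicit false

namespace Cfsg.Agent.Lib.Helper6.MetaSchur

open Finset

/-- A group generated by `w` with `w^k = 1` is an image of `ZMod k`. -/
theorem exists_surj_of_zpowers {Z : Type*} [Group Z] (k : ℕ) (w : Z) (hw : w ^ k = 1)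
    (hgen : ∀ x : Z, x ∈ Subgroup.zpowers w) :
    ∃ π : Multiplicative (ZMod k) →* Z, Function.Surjective π := by
  let f : ℤ →+ Additive Z := zmultiplesHom (Additive Z) (Additive.ofMul w)
  have hf : ∀ j : ℤ, f j = Additive.ofMul (w ^ j) := by
    intro j
    simp [f, zmultiplesHom_apply]
  have hfk : f k = 0 := by
    rw [hf, zpow_natCast, hw]; rfl
  let g : ZMod k →+ Additive Z := ZMod.lift k ⟨f, hfk⟩
  refine ⟨AddMonoidHom.toMultiplicativeLeft g, ?_⟩
  intro x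
  obtain ⟨j, rfl⟩ := Subgroup.mem_zpowers_iff.1 (hgen x)
  refine ⟨Multiplicative.ofAdd ((j : ℤ) : ZMod k), ?_⟩
  show Additive.toMul (g ((j : ℤ) : ZMod k)) = w ^ j
  rw [ZMod.lift_coe, hf]
  rfl

/-- The arithmetic of `d = gcd(m, q)`, `g = gcd(m, 1 + r + ⋯)`, `h = d g / m`. -/
theorem arith_setup (m q n : ℕ) (hm : 0 < m) (hrn : (q + 1) ^ n ≡ 1 [MOD m]) :
    ∃ d m' u' e : ℕ, 0 < d ∧ 0 < m' ∧ Nat.gcd m q = d ∧ m = d * m' ∧ q = d * u' ∧
      Nat.Coprime m' u' ∧ Nat.gcd m (∑ i ∈ range n, (q + 1) ^ i) = m' * e ∧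
      d * Nat.gcd m (∑ i ∈ range n, (q + 1) ^ i) / m = e ∧ e ∣ d := by
  obtain ⟨d, hdd⟩ : ∃ d, d = Nat.gcd m q := ⟨_, rfl⟩
  have hd : 0 < d := hdd ▸ Nat.gcd_pos_of_pos_left _ hm
  obtain ⟨m', hm'⟩ : d ∣ m := hdd ▸ Nat.gcd_dvd_left _ _
  obtain ⟨u', hu'⟩ : d ∣ q := hdd ▸ Nat.gcd_dvd_right _ _
  have hm'pos : 0 < m' := by
    rcases Nat.eq_zero_or_pos m' with h | h
    · rw [h, mul_zero] at hm'; omega
    · exact h
  have hcop : Nat.Coprime m' u' := by
    have := Nat.coprime_div_gcd_div_gcd (hdd ▸ hd : 0 < Nat.gcd m q)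
    rw [← hdd] at this
    have e1 : m / d = m' := Nat.div_eq_of_eq_mul_right hd hm'
    have e2 : q / d = u' := Nat.div_eq_of_eq_mul_right hd hu'
    rwa [e1, e2] at this
  obtain ⟨s, hs⟩ : ∃ s, s = ∑ i ∈ range n, (q + 1) ^ i := ⟨_, rfl⟩
  rw [← hs]
  have hgeom : s * q + 1 = (q + 1) ^ n := hs ▸ geom_sum_mul_add q n
  have hdvd : m ∣ s * q := by
    have h1 : s * q + 1 ≡ 0 + 1 [MOD m] := by rw [hgeom, zero_add]; exact hrn
    exact (Nat.modEq_zero_iff_dvd).1 (Nat.ModEq.add_right_cancel' 1 h1)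
  have hm's : m' ∣ s := by
    have h1 : d * m' ∣ d * (s * u') := by
      have : d * (s * u') = s * q := by
        rw [hu']; ring
      rw [this, ← hm']; exact hdvd
    have h2 : m' ∣ s * u' := Nat.dvd_of_mul_dvd_mul_left hd h1
    exact hcop.dvd_of_dvd_mul_right h2
  have hm'g : m' ∣ Nat.gcd m s := Nat.dvd_gcd (Dvd.intro_left _ hm'.symm) hm's
  obtain ⟨e, he⟩ := hm'g
  refine ⟨d, m', u', e, hd, hm'pos, hdd.symm, hm', hu', hcop, he, ?_, ?_⟩
  · rw [he]
    apply Nat.div_eq_of_eq_mul_right hm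
    rw [hm']; ring
  · have h1 : Nat.gcd m s ∣ m := Nat.gcd_dvd_left _ _
    rw [he] at h1
    have h2 : m' * e ∣ m' * d := by
      rw [mul_comm m' d, ← hm']; exact h1
    exact Nat.dvd_of_mul_dvd_mul_left hm'pos h2

/-- Lifting a unit mod `m'` to a residue coprime to a multiple `N` of `m'`. -/
theorem exists_coprime_lift (m' N u' : ℕ) (hN : 0 < N) (hdvd : m' ∣ N)
    (hcop : Nat.Coprime u' m') : ∃ v : ℕ, v ≡ u' [MOD m'] ∧ Nat.Coprime v N := by
  have : NeZero N := ⟨hN.ne'⟩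
  obtain ⟨y, hy⟩ := ZMod.unitsMap_surjective hdvd (ZMod.unitOfCoprime u' hcop)
  refine ⟨(y : ZMod N).val, ?_, ZMod.val_coe_unit_coprime y⟩
  have h1 := congrArg (fun z : (ZMod m')ˣ => (z : ZMod m')) hy
  simp only [ZMod.unitsMap_val, ZMod.coe_unitOfCoprime] at h1
  rw [← ZMod.natCast_val] at h1
  exact (ZMod.natCast_eq_natCast_iff _ _ _).1 h1

theorem geom_modEq (m x y n : ℕ) (h : x ≡ y [MOD m]) :
    ∑ i ∈ range n, x ^ i ≡ ∑ i ∈ range n, y ^ i [MOD m] := by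
  induction n with
  | zero => rfl
  | succ n ih =>
    rw [Finset.sum_range_succ, Finset.sum_range_succ]
    exact ih.add (h.pow n)

/-- `τ ρ ≡ τ` for the original parameters. -/
theorem tau_modEq (d m' u' l : ℕ) :
    m' * l * (d * u' + 1) ≡ m' * l [MOD d * m'] := by
  have : m' * l * (d * u' + 1) = d * m' * (l * u') + m' * l := by ring
  rw [this]
  show (d * m' * (l * u') + m' * l) % (d * m') = (m' * l) % (d * m')
  exact Nat.mul_add_mod _ _ _

/-- Upper bound with abstract arithmetic data. -/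
theorem upper_bound_aux (m n q l d m' u' e t k : ℕ) (hm : 0 < m) (hn : 0 < n)
    (hrn : (q + 1) ^ n ≡ 1 [MOD m]) (hmd : m = d * m') (hqd : q = d * u')
    (hcop : Nat.Coprime m' u') (hgs : Nat.gcd m (∑ i ∈ range n, (q + 1) ^ i) = m' * e)
    (ht : t = m' * l) (hk : k = Nat.gcd l e)
    {Γ : Type*} [Group Γ] [Finite Γ] (σ : Γ →* MP m n (q + 1) t)
    (hsurj : Function.Surjective σ) (hcen : σ.ker ≤ Subgroup.center Γ)
    (hcomm : σ.ker ≤ commutator Γ) :
    ∃ π : Multiplicative (ZMod k) →* σ.ker, Function.Surjective π := by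
  have : NeZero m := ⟨hm.ne'⟩
  have hτ : t * (q + 1) ≡ t [MOD m] := by
    rw [ht, hqd, hmd]; exact tau_modEq d m' u' l
  have ha : orderOf (MP.a m n (q + 1) t) = m := MP.orderOf_a m n (q + 1) t hn hrn hτ
  obtain ⟨c, hcm, hcs, hct, hσc, hle⟩ := stem_upper (MP.a m n (q + 1) t) (MP.b m n (q + 1) t)
    (fun x => MP.mem_of_gens _ (Subgroup.subset_closure (by simp))
      (Subgroup.subset_closure (by simp)) x) n q t MP.b_pow MP.conj σ hsurj hcen hcomm
  rw [ha] at hcm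
  -- the generator of the kernel
  have hw_ker : c ^ m' ∈ σ.ker := by
    rw [MonoidHom.mem_ker, map_pow, hσc, ← pow_mul]
    have : q * m' = m * u' := by rw [hqd, hmd]; ring
    rw [this, pow_mul, MP.a_pow, one_pow]
  have hker_le : ∀ x ∈ σ.ker, x ∈ Subgroup.zpowers (c ^ m') := by
    intro x hx
    obtain ⟨j, rfl⟩ := Subgroup.mem_zpowers_iff.1 (hle hx)
    rw [MonoidHom.mem_ker, map_zpow, hσc, ← zpow_natCast, ← zpow_mul,
      ← orderOf_dvd_iff_zpow_eq_one, ha] at hx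
    have h1 : ((d : ℤ) * (m' : ℤ)) ∣ (d : ℤ) * ((u' : ℤ) * j) := by
      have : ((q : ℕ) : ℤ) * j = (d : ℤ) * ((u' : ℤ) * j) := by rw [hqd]; push_cast; ring
      rw [← this]
      have h2 : ((m : ℕ) : ℤ) = (d : ℤ) * (m' : ℤ) := by rw [hmd]; push_cast; ring
      rw [← h2]; exact hx
    have hd0 : (d : ℤ) ≠ 0 := by
      intro h
      have : d = 0 := by exact_mod_cast h
      rw [this, zero_mul] at hmd; omega
    have h3 : (m' : ℤ) ∣ (u' : ℤ) * j := (mul_dvd_mul_iff_left hd0).1 h1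
    have h4 : (m' : ℤ) ∣ j := by
      apply Int.dvd_of_dvd_mul_right_of_gcd_one h3
      rw [Int.gcd_natCast_natCast]; exact hcop
    obtain ⟨j', rfl⟩ := h4
    rw [zpow_mul, zpow_natCast]
    exact Subgroup.zpow_mem_zpowers _ _
  have hwk : (c ^ m') ^ k = 1 := by
    rw [← orderOf_dvd_iff_pow_eq_one, hk]
    apply Nat.dvd_gcd
    · rw [orderOf_dvd_iff_pow_eq_one, ← pow_mul, ← ht, hct]
    · rw [orderOf_dvd_iff_pow_eq_one, ← pow_mul, ← hgs, ← orderOf_dvd_iff_pow_eq_one]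
      exact Nat.dvd_gcd (orderOf_dvd_of_pow_eq_one hcm) (orderOf_dvd_of_pow_eq_one hcs)
  apply exists_surj_of_zpowers k (⟨c ^ m', hw_ker⟩ : σ.ker)
  · apply Subtype.ext
    rw [Subgroup.coe_pow]; exact hwk
  · intro x
    obtain ⟨j, hj⟩ := Subgroup.mem_zpowers_iff.1 (hker_le x.1 x.2)
    rw [Subgroup.mem_zpowers_iff]
    refine ⟨j, Subtype.ext ?_⟩
    rw [Subgroup.coe_zpow]; exact hj

end Cfsg.Agent.Lib.Helper6.MetaSchur
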