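import Cfsg.Agent.Lib.Helper6.MetaSchur3

/-!
# The Schur multiplier of a metacyclic group: existence of the cover
-/

set_option autoImplicit false

namespace Cfsg.Agent.Lib.Helper6.MetaSchur

open Finset
open scoped commutatorElement

/-- `α^m` is central in the cover. -/
theorem cover_central {Γ : Type*} [Group Γ] (α β : Γ) (m k x : ℕ)
    (hgen : ∀ S : Subgroup Γ, α ∈ S → β ∈ S → ∀ y, y ∈ S)
    (h1 : α ^ (m * k) = 1) (h3 : β * α * β⁻¹ = α ^ (k * x + 1)) :
    ∀ g : Γ, g * α ^ m = α ^ m * g := by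
  intro g
  have hg : g ∈ Subgroup.centralizer ({α ^ m} : Set Γ) := by
    apply hgen
    · rw [Subgroup.mem_centralizer_iff]
      intro h hh
      rw [Set.mem_singleton_iff] at hh; subst hh
      exact ((Commute.refl α).pow_left m).eq
    · rw [Subgroup.mem_centralizer_iff]
      intro h hh
      rw [Set.mem_singleton_iff] at hh; subst hh
      have e1 : β * α ^ m * β⁻¹ = α ^ m := by
        rw [← conj_pow, h3, ← pow_mul]
        have : (k * x + 1) * m = m * k * x + m := by ring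
        rw [this, pow_add, pow_mul, h1, one_pow, one_mul]
      calc α ^ m * β = (β * α ^ m * β⁻¹) * β := by rw [e1]
        _ = β * α ^ m := by group
  exact (Subgroup.mem_centralizer_iff.1 hg _ rfl).symm

/-- `α^(d m')` lies in the commutator subgroup of the cover. -/
theorem cover_comm {Γ : Type*} [Group Γ] (α β : Γ) (d m' k v : ℕ)
    (hcop : Nat.Coprime v (m' * k)) (h1 : α ^ (d * m' * k) = 1)
    (h3 : β * α * β⁻¹ = α ^ (d * v + 1)) : α ^ (d * m') ∈ commutator Γ := by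
  have hc : α ^ (d * v) ∈ commutator Γ := by
    have h : ⁅β, α⁆ ∈ commutator Γ := by
      rw [commutator_def]
      exact Subgroup.commutator_mem_commutator (Subgroup.mem_top β) (Subgroup.mem_top α)
    rwa [commutatorElement_def, h3, pow_succ, mul_inv_cancel_right] at h
  have hb := Nat.gcd_eq_gcd_ab v (m' * k)
  rw [hcop] at hb
  have e : ((d : ℕ) : ℤ) = ((d * v : ℕ) : ℤ) * Nat.gcdA v (m' * k)
      + ((d * m' * k : ℕ) : ℤ) * Nat.gcdB v (m' * k) := by
    push_cast at hb ⊢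
    linear_combination (d : ℤ) * hb
  have hαd : α ^ d = (α ^ (d * v)) ^ (Nat.gcdA v (m' * k)) := by
    rw [← zpow_natCast α d, e, zpow_add, zpow_mul, zpow_mul, zpow_natCast, zpow_natCast, h1,
      one_zpow, mul_one]
  rw [pow_mul, hαd]
  exact Subgroup.pow_mem _ (Subgroup.zpow_mem _ hc _) _

/-- Existence of the stem extension with cyclic kernel of order `k`. -/
theorem existence_aux (m n q l d m' u' e t k : ℕ) (hn : 0 < n)
    (hd : 0 < d) (hm'pos : 0 < m') (hmd : m = d * m')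
    (hqd : q = d * u') (hcop : Nat.Coprime m' u')
    (hgs : Nat.gcd m (∑ i ∈ range n, (q + 1) ^ i) = m' * e) (hed : e ∣ d)
    (ht : t = m' * l) (hk : k = Nat.gcd l e) :
    ∃ (Γ : Type) (_ : Group Γ) (_ : Finite Γ) (σ : Γ →* MP m n (q + 1) t),
      (Function.Surjective σ ∧ σ.ker ≤ Subgroup.center Γ ∧ σ.ker ≤ commutator Γ) ∧
      Nonempty (σ.ker ≃* Multiplicative (ZMod k)) := by
  have hm : 0 < m := hmd ▸ Nat.mul_pos hd hm'pos
  have hepos : 0 < e := Nat.pos_of_dvd_of_pos hed hd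
  have hkl : k ∣ l := hk ▸ Nat.gcd_dvd_left _ _
  have hke : k ∣ e := hk ▸ Nat.gcd_dvd_right _ _
  have hkd : k ∣ d := hke.trans hed
  have hkpos : 0 < k := Nat.pos_of_dvd_of_pos hke hepos
  obtain ⟨l', hl'⟩ := hkl
  obtain ⟨d', hd'⟩ := hkd
  -- choose v
  obtain ⟨v, hv, hvcop⟩ := exists_coprime_lift m' (m' * k) u' (Nat.mul_pos hm'pos hkpos)
    (Dvd.intro _ rfl) hcop.symm
  have hMpos : 0 < m * k := Nat.mul_pos hm hkpos
  have : NeZero (m * k) := ⟨hMpos.ne'⟩
  have hρr : d * v + 1 ≡ q + 1 [MOD m] := by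
    rw [hqd, hmd]; exact (Nat.ModEq.mul_left' d hv).add_right 1
  have hτM : t * (d * v + 1) ≡ t [MOD m * k] := by
    have e1 : t * (d * v + 1) = m * k * (l' * v) + t := by rw [ht, hl', hmd]; ring
    rw [e1]
    show (m * k * (l' * v) + t) % (m * k) = t % (m * k)
    exact Nat.mul_add_mod _ _ _
  have hm'k_dvd_g : m' * k ∣ Nat.gcd m (∑ i ∈ range n, (q + 1) ^ i) := by
    rw [hgs]; exact Nat.mul_dvd_mul_left m' hke
  have hm'k_dvd_m : m' * k ∣ m := hm'k_dvd_g.trans (Nat.gcd_dvd_left _ _)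
  have hm'k_dvd_s : m' * k ∣ ∑ i ∈ range n, (q + 1) ^ i :=
    hm'k_dvd_g.trans (Nat.gcd_dvd_right _ _)
  have hsρ : m' * k ∣ ∑ i ∈ range n, (d * v + 1) ^ i :=
    ((geom_modEq m _ _ n hρr).dvd_iff hm'k_dvd_m).2 hm'k_dvd_s
  have hρn : (d * v + 1) ^ n ≡ 1 [MOD m * k] := by
    rw [← geom_sum_mul_add (d * v) n]
    obtain ⟨w, hw⟩ := hsρ
    have e1 : (∑ i ∈ range n, (d * v + 1) ^ i) * (d * v) + 1 = m * k * (w * v) + 1 := by
      rw [hw, hmd]; ring
    rw [e1]
    show (m * k * (w * v) + 1) % (m * k) = 1 % (m * k)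
    exact Nat.mul_add_mod _ _ _
  have hordα : orderOf (MP.a (m * k) n (d * v + 1) t) = m * k :=
    MP.orderOf_a (m * k) n (d * v + 1) t hn hρn hτM
  -- the map σ
  have hGa : (MP.a m n (q + 1) t) ^ (m * k) = 1 := by rw [pow_mul, MP.a_pow, one_pow]
  have hGc : MP.b m n (q + 1) t * MP.a m n (q + 1) t * (MP.b m n (q + 1) t)⁻¹
      = (MP.a m n (q + 1) t) ^ (d * v + 1) := by
    rw [MP.conj, pow_eq_pow_mod (q + 1) MP.a_pow, pow_eq_pow_mod (d * v + 1) MP.a_pow]
    congr 1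
    exact hρr.symm
  obtain ⟨σ, hσdef⟩ : ∃ σ : MP (m * k) n (d * v + 1) t →* MP m n (q + 1) t,
      σ = MP.lift (MP.a m n (q + 1) t) (MP.b m n (q + 1) t) hGa MP.b_pow hGc := ⟨_, rfl⟩
  have hσa : σ (MP.a (m * k) n (d * v + 1) t) = MP.a m n (q + 1) t := by rw [hσdef, MP.lift_a]
  have hσb : σ (MP.b (m * k) n (d * v + 1) t) = MP.b m n (q + 1) t := by rw [hσdef, MP.lift_b]
  have hsurj : Function.Surjective σ := by
    intro x
    exact MP.mem_of_gens σ.range ⟨_, hσa⟩ ⟨_, hσb⟩ x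
  -- generalize the generators of the cover
  have hfin : Finite (MP (m * k) n (d * v + 1) t) := MP.finite hMpos hn
  obtain ⟨α, hα⟩ : ∃ α, α = MP.a (m * k) n (d * v + 1) t := ⟨_, rfl⟩
  obtain ⟨β, hβ⟩ : ∃ β, β = MP.b (m * k) n (d * v + 1) t := ⟨_, rfl⟩
  have hgen : ∀ S : Subgroup (MP (m * k) n (d * v + 1) t), α ∈ S → β ∈ S → ∀ y, y ∈ S := by
    rw [hα, hβ]; exact MP.mem_of_gens
  have h1 : α ^ (m * k) = 1 := by rw [hα]; exact MP.a_pow
  have h2 : β ^ n = α ^ t := by rw [hα, hβ]; exact MP.b_pow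
  have h3 : β * α * β⁻¹ = α ^ (d * v + 1) := by rw [hα, hβ]; exact MP.conj
  rw [← hα] at hσa hordα
  rw [← hβ] at hσb
  have hcentral : ∀ g, g * α ^ m = α ^ m * g := by
    apply cover_central α β m k (d' * v) hgen h1
    have hexp : d * v + 1 = k * (d' * v) + 1 := by rw [hd']; ring
    exact h3.trans (congrArg (fun j => α ^ j) hexp)
  have hαcomm : α ^ m ∈ commutator (MP (m * k) n (d * v + 1) t) := by
    have h : α ^ (d * m') ∈ commutator (MP (m * k) n (d * v + 1) t) := by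
      apply cover_comm α β d m' k v hvcop _ h3
      have hexp : d * m' * k = m * k := by rw [hmd]
      exact (congrArg (fun j => α ^ j) hexp).trans h1
    have e : α ^ m = α ^ (d * m') := congrArg (fun j => α ^ j) hmd
    rw [e]; exact h
  -- the kernel
  have hNn : (Subgroup.zpowers (α ^ m)).Normal := by
    constructor
    intro y hy g
    obtain ⟨j, rfl⟩ := Subgroup.mem_zpowers_iff.1 hy
    have hc : Commute g (α ^ m) := hcentral g
    rw [(hc.zpow_right j).eq, mul_inv_cancel_right]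
    exact hy
  have hpsi1 : ((QuotientGroup.mk α : MP (m * k) n (d * v + 1) t ⧸ Subgroup.zpowers (α ^ m))) ^ m
      = 1 := by
    rw [← QuotientGroup.mk_pow, QuotientGroup.eq_one_iff]
    exact Subgroup.mem_zpowers _
  have hpsi2 : ((QuotientGroup.mk β : MP (m * k) n (d * v + 1) t ⧸ Subgroup.zpowers (α ^ m))) ^ n
      = (QuotientGroup.mk α) ^ t := by
    rw [← QuotientGroup.mk_pow, ← QuotientGroup.mk_pow, h2]
  have hpsi3 : (QuotientGroup.mk β : MP (m * k) n (d * v + 1) t ⧸ Subgroup.zpowers (α ^ m))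
      * QuotientGroup.mk α * (QuotientGroup.mk β)⁻¹ = (QuotientGroup.mk α) ^ (q + 1) := by
    rw [← QuotientGroup.mk_inv, ← QuotientGroup.mk_mul, ← QuotientGroup.mk_mul, h3,
      QuotientGroup.mk_pow, pow_eq_pow_mod (q + 1) hpsi1, pow_eq_pow_mod (d * v + 1) hpsi1]
    congr 1
  have hcomp : (MP.lift _ _ hpsi1 hpsi2 hpsi3).comp σ
      = QuotientGroup.mk' (Subgroup.zpowers (α ^ m)) := by
    apply MP.hom_ext
    · rw [← hα, MonoidHom.comp_apply, hσa, MP.lift_a]; rfl
    · rw [← hβ, MonoidHom.comp_apply, hσb, MP.lift_b]; rfl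
  have hker : σ.ker = Subgroup.zpowers (α ^ m) := by
    apply le_antisymm
    · intro x hx
      have h := congrArg (fun f => f x) hcomp
      simp only [MonoidHom.comp_apply] at h
      rw [MonoidHom.mem_ker.1 hx, map_one] at h
      exact (QuotientGroup.eq_one_iff x).1 h.symm
    · rw [Subgroup.zpowers_le, MonoidHom.mem_ker, map_pow, hσa, MP.a_pow]
  have hordαm : orderOf (α ^ m) = k := by
    rw [orderOf_pow_of_dvd hm.ne' (by rw [hordα]; exact Dvd.intro _ rfl), hordα]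
    exact Nat.mul_div_cancel_left _ hm
  refine ⟨MP (m * k) n (d * v + 1) t, inferInstance, hfin, σ, ⟨hsurj, ?_, ?_⟩, ?_⟩
  · rw [hker, Subgroup.zpowers_le, Subgroup.mem_center_iff]
    exact hcentral
  · rw [hker, Subgroup.zpowers_le]
    exact hαcomm
  · have hcard : Nat.card (Subgroup.zpowers (α ^ m)) = k := by rw [Nat.card_zpowers, hordαm]
    have e1 : σ.ker ≃* Subgroup.zpowers (α ^ m) := MulEquiv.subgroupCongr hker
    have e2 : Multiplicative (ZMod (Nat.card (Subgroup.zpowers (α ^ m)))) ≃*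
        Subgroup.zpowers (α ^ m) := zmodCyclicMulEquiv inferInstance
    have e3 : Multiplicative (ZMod (Nat.card (Subgroup.zpowers (α ^ m)))) ≃*
        Multiplicative (ZMod k) :=
      (ZMod.ringEquivCongr hcard).toAddEquiv.toMultiplicative
    exact ⟨e1.trans (e2.symm.trans e3)⟩

end Cfsg.Agent.Lib.Helper6.MetaSchur
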