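import Mathlib
import Cfsg.Agent.Lib.Helper6.MulCop1
import Cfsg.Agent.Lib.Helper6.Regular

set_option autoImplicit false
set_option linter.style.haveILetI false
set_option linter.unusedSectionVars false

namespace Cfsg.Agent.Lib.Helper6.MulCop

open scoped ComplexConjugate

variable {G : Type*} [Group G] [Finite G]

theorem orderOf_conj_eq (g y : G) : orderOf (g * y * g⁻¹) = orderOf y := by
  rw [← MulAut.conj_apply]
  exact MulEquiv.orderOf_eq _ _

/-- The multiplicativity hypothesis of the statement. -/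
def Mult (G : Type*) [Group G] : Prop :=
  ∀ (x y : G) (χ : Cfsg.IrrCharacter G), x ≠ 1 → y ≠ 1 →
    (∃ p q a b : ℕ, p.Prime ∧ q.Prime ∧ p ≠ q ∧ orderOf x = p ^ a ∧ orderOf y = q ^ b) →
    (χ : G → ℂ) (x * y) = (χ : G → ℂ) x * (χ : G → ℂ) y

/-- `χ` vanishes on the nonidentity `r`-elements. -/
def Van (χ : G → ℂ) (r : ℕ) : Prop :=
  ∀ u : G, u ≠ 1 → (∃ k : ℕ, orderOf u = r ^ k) → χ u = 0

theorem mul_eq_zero_of_mult (hM : Mult G) (χ : Cfsg.IrrCharacter G) (h1 : (χ : G → ℂ) 1 ≠ 1)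
    {x y : G} (hx : x ≠ 1) (hy : y ≠ 1) {p q a b : ℕ} (hp : p.Prime) (hq : q.Prime) (hpq : p ≠ q)
    (hxo : orderOf x = p ^ a) (hyo : orderOf y = q ^ b) :
    (χ : G → ℂ) y * (χ : G → ℂ) x = 0 := by
  apply mul_eq_zero_of_sum χ.2 h1 x y
  intro g
  have hne : g * y * g⁻¹ ≠ 1 := by
    intro h
    apply hy
    have : y = g⁻¹ * (g * y * g⁻¹) * g := by group
    rw [this, h]; group
  rw [hM (g * y * g⁻¹) x χ hne hx ⟨q, p, b, a, hq, hp, hpq.symm, by rw [orderOf_conj_eq, hyo], hxo⟩]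
  rw [(IsCharacter.isClassFunction (IsIrrCharacter.isCharacter χ.2)) y g]

theorem van_or_van (hM : Mult G) (χ : Cfsg.IrrCharacter G) (h1 : (χ : G → ℂ) 1 ≠ 1)
    {r s : ℕ} (hr : r.Prime) (hs : s.Prime) (hrs : r ≠ s) :
    Van (χ : G → ℂ) r ∨ Van (χ : G → ℂ) s := by
  by_contra hcon
  push Not at hcon
  obtain ⟨h1', h2'⟩ := hcon
  unfold Van at h1' h2'
  push Not at h1' h2'
  obtain ⟨u, hu1, ⟨k, hk⟩, hu⟩ := h1'
  obtain ⟨v, hv1, ⟨l, hl⟩, hv⟩ := h2'
  have := mul_eq_zero_of_mult hM χ h1 hu1 hv1 hr hs hrs hk hl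
  rcases mul_eq_zero.mp this with h | h
  · exact hv h
  · exact hu h

theorem exists_prime_van (hM : Mult G) (χ : Cfsg.IrrCharacter G) (h1 : (χ : G → ℂ) 1 ≠ 1) :
    ∃ p : ℕ, p.Prime ∧ ∀ r : ℕ, r.Prime → r ≠ p → Van (χ : G → ℂ) r := by
  by_cases h : ∃ p : ℕ, p.Prime ∧ ¬ Van (χ : G → ℂ) p
  · obtain ⟨p, hp, hnv⟩ := h
    refine ⟨p, hp, fun r hr hrp => ?_⟩
    rcases van_or_van hM χ h1 hr hp hrp with h2 | h2
    · exact h2
    · exact absurd h2 hnv
  · push Not at h
    exact ⟨2, Nat.prime_two, fun r hr _ => h r hr⟩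

theorem pow_dvd_of_van {χ : G → ℂ} (hχ : Cfsg.IsCharacter G χ) {r : ℕ} (hr : r.Prime)
    (hv : Van χ r) : r ^ (Nat.card G).factorization r ∣ Cfsg.charDegree χ := by
  haveI : Fact r.Prime := ⟨hr⟩
  let R : Sylow r G := default
  have hvan : ∀ u ∈ (R : Subgroup G), u ≠ 1 → χ u = 0 := by
    intro u hu hu1
    apply hv u hu1
    obtain ⟨k, hk⟩ := (IsPGroup.iff_orderOf.mp R.2) ⟨u, hu⟩
    exact ⟨k, by rw [← hk, ← Subgroup.orderOf_coe]⟩
  obtain ⟨n, hn⟩ := exists_nat_mul_card_of_vanish hχ (R : Subgroup G) hvan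
  rw [IsCharacter.apply_one_eq_charDegree hχ, Sylow.card_eq_multiplicity] at hn
  have hn' : Cfsg.charDegree χ = n * r ^ (Nat.card G).factorization r := by exact_mod_cast hn
  exact ⟨n, by rw [hn', mul_comm]⟩

theorem ordCompl_dvd {N d p : ℕ} (hN : N ≠ 0) (hp : p.Prime)
    (h : ∀ r : ℕ, r.Prime → r ≠ p → r ^ N.factorization r ∣ d) :
    N / p ^ N.factorization p ∣ d := by
  rw [Nat.dvd_iff_prime_pow_dvd_dvd]
  intro r k hr hrk
  rcases Nat.eq_zero_or_pos k with hk | hk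
  · rw [hk, pow_zero]; exact one_dvd _
  · have hrd : r ∣ N / p ^ N.factorization p := (dvd_pow_self r hk.ne').trans hrk
    have hrp : r ≠ p := by
      intro hrp
      rw [hrp] at hrd
      exact Nat.not_dvd_ordCompl hp hN hrd
    have hrN : r ^ k ∣ N := hrk.trans (Nat.div_dvd_of_dvd (Nat.ordProj_dvd N p))
    have hle := (hr.pow_dvd_iff_le_factorization hN).mp hrN
    exact (pow_dvd_pow r hle).trans (h r hr hrp)

theorem charDegree_sq_le_card (χ : Cfsg.IrrCharacter G) :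
    Cfsg.charDegree (χ : G → ℂ) ^ 2 ≤ Nat.card G := by
  haveI : Fintype G := Fintype.ofFinite G
  haveI : Fintype (Cfsg.IrrCharacter G) := Fintype.ofFinite _
  have h := sum_sq_degree (G := G)
  have h2 : ∑ ψ : Cfsg.IrrCharacter G, Cfsg.charDegree (ψ : G → ℂ) ^ 2 = Nat.card G := by
    have h3 : ((∑ ψ : Cfsg.IrrCharacter G, Cfsg.charDegree (ψ : G → ℂ) ^ 2 : ℕ) : ℂ)
        = (Nat.card G : ℂ) := by
      rw [← h]
      push_cast
      apply Finset.sum_congr rfl
      intro ψ _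
      rw [IsCharacter.apply_one_eq_charDegree (IsIrrCharacter.isCharacter ψ.2)]
    exact_mod_cast h3
  rw [← h2]
  exact Finset.single_le_sum (f := fun ψ : Cfsg.IrrCharacter G => Cfsg.charDegree (ψ : G → ℂ) ^ 2)
    (fun _ _ => Nat.zero_le _) (Finset.mem_univ χ)

/-- If `χ` vanishes on all nonidentity `r`-elements for `r ≠ p`, then `|G|_{p'} ≤ |G|_p`. -/
theorem ordCompl_le_ordProj (χ : Cfsg.IrrCharacter G) {p : ℕ} (hp : p.Prime)
    (h : ∀ r : ℕ, r.Prime → r ≠ p → Van (χ : G → ℂ) r) :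
    Nat.card G / p ^ (Nat.card G).factorization p ≤ p ^ (Nat.card G).factorization p := by
  have hN : Nat.card G ≠ 0 := Nat.card_pos.ne'
  have hχc := IsIrrCharacter.isCharacter χ.2
  have hdvd : Nat.card G / p ^ (Nat.card G).factorization p ∣ Cfsg.charDegree (χ : G → ℂ) :=
    ordCompl_dvd hN hp (fun r hr hrp => pow_dvd_of_van hχc hr (h r hr hrp))
  have hpos := IsIrrCharacter.charDegree_pos χ.2
  have hle := Nat.le_of_dvd hpos hdvd
  have hsq := charDegree_sq_le_card χ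
  have hm : 0 < Nat.card G / p ^ (Nat.card G).factorization p := Nat.ordCompl_pos p hN
  have h1 : (Nat.card G / p ^ (Nat.card G).factorization p) *
      (Nat.card G / p ^ (Nat.card G).factorization p) ≤
      p ^ (Nat.card G).factorization p * (Nat.card G / p ^ (Nat.card G).factorization p) := by
    rw [Nat.ordProj_mul_ordCompl_eq_self]
    calc _ ≤ Cfsg.charDegree (χ : G → ℂ) * Cfsg.charDegree (χ : G → ℂ) := Nat.mul_le_mul hle hle
      _ = Cfsg.charDegree (χ : G → ℂ) ^ 2 := (sq _).symm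
      _ ≤ Nat.card G := hsq
  exact Nat.le_of_mul_le_mul_right h1 hm

theorem arith_aux {N p q : ℕ} (hN : N ≠ 0) (hp : p.Prime) (hq : q.Prime) (hqp : q ≠ p)
    (h1p : N / p ^ N.factorization p ≤ p ^ N.factorization p)
    (h1q : N / q ^ N.factorization q ≤ q ^ N.factorization q) : N = 1 := by
  have hcop : (q ^ N.factorization q).Coprime (p ^ N.factorization p) :=
    Nat.coprime_pow_primes _ _ hq hp hqp
  have hd1 : q ^ N.factorization q ∣ N / p ^ N.factorization p := by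
    apply Nat.Coprime.dvd_of_dvd_mul_left hcop
    rw [Nat.ordProj_mul_ordCompl_eq_self]
    exact Nat.ordProj_dvd N q
  have hd2 : p ^ N.factorization p ∣ N / q ^ N.factorization q := by
    apply Nat.Coprime.dvd_of_dvd_mul_left hcop.symm
    rw [Nat.ordProj_mul_ordCompl_eq_self]
    exact Nat.ordProj_dvd N p
  have hmp : 0 < N / p ^ N.factorization p := Nat.ordCompl_pos p hN
  have hmq : 0 < N / q ^ N.factorization q := Nat.ordCompl_pos q hN
  have hl1 := Nat.le_of_dvd hmp hd1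
  have hl2 := Nat.le_of_dvd hmq hd2
  have heq : q ^ N.factorization q = p ^ N.factorization p := le_antisymm
    (hl1.trans h1p) (hl2.trans h1q)
  rw [heq] at hcop
  have hone := (Nat.coprime_self _).mp hcop
  have hmp1 : N / p ^ N.factorization p = 1 := le_antisymm (h1p.trans hone.le) hmp
  have h3 := Nat.ordProj_mul_ordCompl_eq_self N p
  rw [hmp1, hone] at h3
  exact h3.symm

/-- Under the multiplicativity hypothesis, in a nonabelian group there is a prime `p` such that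
every nonlinear irreducible character vanishes on all nonidentity elements of prime power order
for primes different from `p`. -/
theorem exists_prime_allVan (hM : Mult G) (hc : ¬ IsMulCommutative G) :
    ∃ p : ℕ, p.Prime ∧ ∀ χ : Cfsg.IrrCharacter G, (χ : G → ℂ) 1 ≠ 1 →
      ∀ r : ℕ, r.Prime → r ≠ p → Van (χ : G → ℂ) r := by
  obtain ⟨χ₀, h0⟩ := exists_nonlinear hc
  obtain ⟨p, hp, hpv⟩ := exists_prime_van hM χ₀ h0
  refine ⟨p, hp, fun χ h1 => ?_⟩
  obtain ⟨q, hq, hqv⟩ := exists_prime_van hM χ h1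
  by_cases hqp : q = p
  · rw [hqp] at hqv; exact hqv
  · exfalso
    have hN : Nat.card G ≠ 0 := Nat.card_pos.ne'
    have hNone := arith_aux hN hp hq hqp (ordCompl_le_ordProj χ₀ hp hpv)
      (ordCompl_le_ordProj χ hq hqv)
    apply hc
    have hsub : Subsingleton G := (Nat.card_eq_one_iff_unique.mp hNone).1
    exact ⟨⟨fun a b => Subsingleton.elim _ _⟩⟩

end Cfsg.Agent.Lib.Helper6.MulCop
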