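import Mathlib
import Cfsg.Agent.Lib.Helper6.MulCop2
import Cfsg.Agent.Lib.Helper1.FpfCyclic

set_option autoImplicit false
set_option linter.style.haveILetI false
set_option linter.unusedSectionVars false

namespace Cfsg.Agent.Lib.Helper6.MulCop

open scoped ComplexConjugate

variable {G : Type*} [Group G] [Finite G]

theorem isMulCommutative_of_commutator_eq_bot (hbot : commutator G = ⊥) : IsMulCommutative G := by
  refine ⟨⟨fun a b => ?_⟩⟩
  have hmem := Subgroup.commutator_mem_commutator (H₁ := (⊤ : Subgroup G)) (H₂ := ⊤)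
    (Subgroup.mem_top a) (Subgroup.mem_top b)
  rw [← commutator_def, hbot, Subgroup.mem_bot, commutatorElement_eq_one_iff_mul_comm] at hmem
  exact hmem

theorem commutatorElement_mem_commutator (a b : G) : a * b * a⁻¹ * b⁻¹ ∈ commutator G := by
  have hmem := Subgroup.commutator_mem_commutator (H₁ := (⊤ : Subgroup G)) (H₂ := ⊤)
    (Subgroup.mem_top a) (Subgroup.mem_top b)
  rw [← commutator_def, commutatorElement_def] at hmem
  exact hmem

/-- A linear character is trivial on the commutator subgroup. -/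
theorem linear_apply_commutator {χ : G → ℂ} (hχ : Cfsg.IsCharacter G χ) (h1 : χ 1 = 1) {d : G}
    (hd : d ∈ commutator G) : χ d = 1 := by
  have hk := Abelianization.commutator_subset_ker (linearCharHom hχ h1) hd
  rw [MonoidHom.mem_ker] at hk
  rw [← linearCharHom_apply hχ h1 d, hk]
  rfl

/-- If `h` has no nontrivial fixed points on the normal subgroup `N`, every element of `N` is a
commutator `h d h⁻¹ d⁻¹` with `d ∈ N`. -/
theorem exists_commutator_eq (N : Subgroup G) [hN : N.Normal] (h : G)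
    (hfix : ∀ d ∈ N, h * d = d * h → d = 1) (e : G) (he : e ∈ N) :
    ∃ d ∈ N, h * d * h⁻¹ * d⁻¹ = e := by
  let f : N → N := fun d => ⟨h * d * h⁻¹ * (d : G)⁻¹,
    N.mul_mem (hN.conj_mem d d.2 h) (N.inv_mem d.2)⟩
  have hinj : Function.Injective f := by
    intro d₁ d₂ h12
    have h3 : h * (d₁ : G) * h⁻¹ * (d₁ : G)⁻¹ = h * (d₂ : G) * h⁻¹ * (d₂ : G)⁻¹ :=
      congrArg Subtype.val h12
    have h4 : h * ((d₂ : G)⁻¹ * d₁) = ((d₂ : G)⁻¹ * d₁) * h := by
      have h5 : (d₁ : G) * h⁻¹ * (d₁ : G)⁻¹ = (d₂ : G) * h⁻¹ * (d₂ : G)⁻¹ := by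
        have : (d₁ : G) * h⁻¹ * (d₁ : G)⁻¹ = h⁻¹ * (h * (d₁ : G) * h⁻¹ * (d₁ : G)⁻¹) := by group
        rw [this, h3]; group
      have h6 : ((d₂ : G)⁻¹ * d₁) * h⁻¹ = h⁻¹ * ((d₂ : G)⁻¹ * d₁) := by
        calc ((d₂ : G)⁻¹ * d₁) * h⁻¹ = (d₂ : G)⁻¹ * ((d₁ : G) * h⁻¹ * (d₁ : G)⁻¹) * d₁ := by group
          _ = (d₂ : G)⁻¹ * ((d₂ : G) * h⁻¹ * (d₂ : G)⁻¹) * d₁ := by rw [h5]
          _ = h⁻¹ * ((d₂ : G)⁻¹ * d₁) := by group
      calc h * ((d₂ : G)⁻¹ * d₁) = h * (((d₂ : G)⁻¹ * d₁) * h⁻¹) * h := by group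
        _ = h * (h⁻¹ * ((d₂ : G)⁻¹ * d₁)) * h := by rw [h6]
        _ = ((d₂ : G)⁻¹ * d₁) * h := by group
    have h7 := hfix _ (N.mul_mem (N.inv_mem d₂.2) d₁.2) h4
    apply Subtype.ext
    calc (d₁ : G) = d₂ * ((d₂ : G)⁻¹ * d₁) := by group
      _ = d₂ := by rw [h7, mul_one]
  obtain ⟨d, hd⟩ := Finite.surjective_of_injective hinj ⟨e, he⟩
  exact ⟨d, d.2, congrArg Subtype.val hd⟩

section forward

variable {p : ℕ}

theorem card_centralizer_eq_of_allVan
    (hV : ∀ χ : Cfsg.IrrCharacter G, (χ : G → ℂ) 1 ≠ 1 →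
      ∀ r : ℕ, r.Prime → r ≠ p → Van (χ : G → ℂ) r)
    {u : G} (hu : u ≠ 1) {r k : ℕ} (hr : r.Prime) (hrp : r ≠ p) (hk : orderOf u = r ^ k) :
    Nat.card (Subgroup.centralizer ({u} : Set G)) = (commutator G).index :=
  card_centralizer_eq_index_of_vanish u (fun χ hχ => hV χ hχ r hr hrp u hu ⟨k, hk⟩)

theorem commutator_isPGroup (hp : p.Prime)
    (hV : ∀ χ : Cfsg.IrrCharacter G, (χ : G → ℂ) 1 ≠ 1 →
      ∀ r : ℕ, r.Prime → r ≠ p → Van (χ : G → ℂ) r) :
    IsPGroup p (commutator G) := by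
  have hN : Nat.card G ≠ 0 := Nat.card_pos.ne'
  have hD0 : Nat.card (commutator G) ≠ 0 := Nat.card_pos.ne'
  have key : ∀ {q : ℕ}, q.Prime → q ∣ Nat.card (commutator G) → q = p := by
    intro q hq hqd
    by_contra hqp
    haveI : Fact q.Prime := ⟨hq⟩
    have hqG : q ∣ Nat.card G := hqd.trans (Subgroup.card_subgroup_dvd_card _)
    let Q : Sylow q G := default
    have hQcard := Sylow.card_eq_multiplicity Q
    have hv : 0 < (Nat.card G).factorization q :=
      hq.factorization_pos_of_dvd hN hqG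
    haveI : Nontrivial (Q : Subgroup G) := by
      rw [← Finite.one_lt_card_iff_nontrivial, hQcard]
      exact Nat.one_lt_pow hv.ne' hq.one_lt
    haveI := IsPGroup.center_nontrivial Q.2
    obtain ⟨z, hz⟩ := exists_ne (1 : Subgroup.center (Q : Subgroup G))
    have hz1 : (((z : (Q : Subgroup G)) : G)) ≠ 1 := by
      intro h
      apply hz
      apply Subtype.ext
      apply Subtype.ext
      exact h
    obtain ⟨k, hk⟩ := (IsPGroup.iff_orderOf.mp Q.2) (z : (Q : Subgroup G))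
    have hk' : orderOf (((z : (Q : Subgroup G)) : G)) = q ^ k := by
      rw [Subgroup.orderOf_coe, hk]
    have hcent := card_centralizer_eq_of_allVan hV hz1 hq hqp hk'
    have hle : (Q : Subgroup G) ≤ Subgroup.centralizer ({((z : (Q : Subgroup G)) : G)} : Set G) := by
      intro u hu
      rw [Subgroup.mem_centralizer_singleton_iff]
      have := Subgroup.mem_center_iff.mp z.2 ⟨u, hu⟩
      exact (congrArg Subtype.val this)
    have hdvd := Subgroup.card_dvd_of_le hle
    rw [hcent, hQcard] at hdvd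
    have h2 := Subgroup.card_mul_index (commutator G)
    have h3 : q ^ ((Nat.card G).factorization q + 1) ∣ Nat.card G := by
      have h4 : q ^ ((Nat.card G).factorization q + 1) ∣
          Nat.card (commutator G) * (commutator G).index := by
        rw [pow_succ, mul_comm]
        exact Nat.mul_dvd_mul hqd hdvd
      rwa [h2] at h4
    exact Nat.pow_succ_factorization_not_dvd hN hq h3
  exact IsPGroup.of_card (Nat.eq_prime_pow_of_unique_prime_dvd hD0 key)

/-- Elements of prime power order for a prime `r ≠ p` act without fixed points on the commutator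
subgroup. -/
theorem fpf_prime_power (hM : Mult G) (hp : p.Prime)
    (hV : ∀ χ : Cfsg.IrrCharacter G, (χ : G → ℂ) 1 ≠ 1 →
      ∀ r : ℕ, r.Prime → r ≠ p → Van (χ : G → ℂ) r)
    {a : G} (ha : a ≠ 1) {r k : ℕ} (hr : r.Prime) (hrp : r ≠ p) (hk : orderOf a = r ^ k)
    {d : G} (hd : d ∈ commutator G) (hcomm : a * d = d * a) : d = 1 := by
  by_contra hd1
  haveI : Fintype G := Fintype.ofFinite G
  haveI : Fact p.Prime := ⟨hp⟩
  have hDp := commutator_isPGroup hp hV
  obtain ⟨j, hj⟩ := (IsPGroup.iff_orderOf.mp hDp) ⟨d, hd⟩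
  have hj' : orderOf d = p ^ j := by
    rw [← hj, ← Subgroup.orderOf_coe]
  have hconj : IsConj a (a * d) := by
    rw [isConj_iff_forall_irr]
    intro χ
    by_cases h1 : (χ : G → ℂ) 1 = 1
    · have hχc := IsIrrCharacter.isCharacter χ.2
      rw [IsCharacter.mul_of_apply_one_eq_one hχc h1, linear_apply_commutator hχc h1 hd, mul_one]
    · rw [hM a d χ ha hd1 ⟨r, p, k, j, hr, hp, hrp, hk, hj'⟩,
        hV χ h1 r hr hrp a ha ⟨k, hk⟩, zero_mul]
  obtain ⟨c, hc⟩ := isConj_iff.mp hconj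
  have ho : orderOf (a * d) = orderOf a := by
    rw [← hc, orderOf_conj_eq]
  have hcop : (orderOf a).Coprime (orderOf d) := by
    rw [hk, hj']
    exact Nat.coprime_pow_primes _ _ hr hp hrp
  rw [Commute.orderOf_mul_eq_mul_orderOf_of_coprime hcomm hcop] at ho
  have hpos : 0 < orderOf a := orderOf_pos a
  have hod : orderOf d = 1 := by
    have : orderOf a * orderOf d = orderOf a * 1 := by rw [ho, mul_one]
    exact Nat.eq_of_mul_eq_mul_left hpos this
  exact hd1 (orderOf_eq_one_iff.mp hod)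

/-- Nonidentity elements of order prime to `p` act without fixed points on the commutator
subgroup. -/
theorem fpf (hM : Mult G) (hp : p.Prime)
    (hV : ∀ χ : Cfsg.IrrCharacter G, (χ : G → ℂ) 1 ≠ 1 →
      ∀ r : ℕ, r.Prime → r ≠ p → Van (χ : G → ℂ) r)
    {a : G} (ha : a ≠ 1) (hap : ¬ p ∣ orderOf a)
    {d : G} (hd : d ∈ commutator G) (hcomm : a * d = d * a) : d = 1 := by
  have ho1 : orderOf a ≠ 1 := fun h => ha (orderOf_eq_one_iff.mp h)
  obtain ⟨r, hr, hrd⟩ := Nat.exists_prime_and_dvd ho1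
  have hrp : r ≠ p := by
    intro h
    rw [h] at hrd
    exact hap hrd
  have ho0 : orderOf a ≠ 0 := (orderOf_pos a).ne'
  have hor := orderOf_pow_orderOf_div ho0 hrd
  have hne : a ^ (orderOf a / r) ≠ 1 := by
    intro h
    rw [h, orderOf_one] at hor
    exact hr.one_lt.ne hor
  have hcomm' : a ^ (orderOf a / r) * d = d * a ^ (orderOf a / r) :=
    ((Commute.pow_left (show Commute a d from hcomm) _)).eq
  exact fpf_prime_power hM hp hV hne hr hrp (k := 1) (by rw [hor, pow_one]) hd hcomm'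

end forward

end Cfsg.Agent.Lib.Helper6.MulCop
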