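import Mathlib
import Cfsg.Agent.Lib.Helper6.MulCop3

set_option autoImplicit false
set_option linter.style.haveILetI false
set_option linter.unusedSectionVars false

namespace Cfsg.Agent.Lib.Helper6.MulCop

open scoped ComplexConjugate

variable {G : Type*} [Group G] [Finite G]

/-- Forward direction: the structure of a nonabelian group, not of prime power order, whose
irreducible characters are multiplicative on pairs of elements of coprime prime power orders. -/
theorem forward (hM : Mult G) (hc : ¬ IsMulCommutative G)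
    (hnp : ¬ ∃ p : ℕ, p.Prime ∧ IsPGroup p G) :
    ∃ (p : ℕ) (_ : Fact p.Prime) (P : Sylow p G) (A : Subgroup G), (P : Subgroup G).Normal ∧
      IsCyclic ↥A ∧ A ≠ ⊥ ∧ (Nat.card ↥A).Coprime p ∧ A ⊔ (P : Subgroup G) = ⊤ ∧
      IsMulCommutative ↥((P : Subgroup G) ⊓ Subgroup.centralizer (A : Set G)) ∧
      (⁅A, (P : Subgroup G)⁆).Normal ∧
      ((P : Subgroup G) ⊓ Subgroup.centralizer (A : Set G)) ⊔ ⁅A, (P : Subgroup G)⁆
        = (P : Subgroup G) ∧
      ((P : Subgroup G) ⊓ Subgroup.centralizer (A : Set G)) ⊓ ⁅A, (P : Subgroup G)⁆ = ⊥ ∧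
      ∀ a ∈ A, a ≠ 1 → ∀ d ∈ ⁅A, (P : Subgroup G)⁆, a * d = d * a → d = 1 := by
  obtain ⟨p, hp, hV⟩ := exists_prime_allVan hM hc
  haveI hpF : Fact p.Prime := ⟨hp⟩
  have hDp : IsPGroup p (commutator G) := commutator_isPGroup hp hV
  obtain ⟨P, hDP⟩ := hDp.exists_le_sylow
  haveI hPn : (P : Subgroup G).Normal := Subgroup.Normal.of_commutator_le G hDP
  obtain ⟨A, hA⟩ := Subgroup.exists_right_complement'_of_coprime (N := (P : Subgroup G))
    P.card_coprime_index
  have hdisj : (P : Subgroup G) ⊓ A = ⊥ := hA.disjoint.eq_bot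
  have hsup : A ⊔ (P : Subgroup G) = ⊤ := by rw [sup_comm]; exact hA.sup_eq_top
  have hcard : Nat.card (P : Subgroup G) * Nat.card A = Nat.card G := hA.card_mul_card
  -- `A` is abelian
  have hAcomm : ∀ a ∈ A, ∀ b ∈ A, a * b = b * a := by
    intro a ha b hb
    have h1 : a * b * a⁻¹ * b⁻¹ ∈ (P : Subgroup G) ⊓ A :=
      ⟨hDP (commutatorElement_mem_commutator a b),
        A.mul_mem (A.mul_mem (A.mul_mem ha hb) (A.inv_mem ha)) (A.inv_mem hb)⟩
    rw [hdisj, Subgroup.mem_bot] at h1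
    calc a * b = (a * b * a⁻¹ * b⁻¹) * b * a := by group
      _ = b * a := by rw [h1, one_mul]
  haveI hAc : IsMulCommutative A :=
    ⟨⟨fun a b => Subtype.ext (hAcomm a a.2 b b.2)⟩⟩
  -- order of `A`
  have hAcop : (Nat.card A).Coprime p := by
    have h1 : (P : Subgroup G).index = Nat.card A := by
      have h2 := Subgroup.card_mul_index (P : Subgroup G)
      rw [← hcard] at h2
      exact Nat.eq_of_mul_eq_mul_left Nat.card_pos h2
    rw [← h1]
    exact ((Nat.Prime.coprime_iff_not_dvd hp).mpr P.not_dvd_index).symm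
  have hAne : A ≠ ⊥ := by
    intro h
    apply hnp
    refine ⟨p, hp, ?_⟩
    rw [h, Subgroup.card_bot, mul_one] at hcard
    have htop : (P : Subgroup G) = ⊤ := Subgroup.eq_top_of_card_eq _ hcard
    have h2 := Sylow.card_eq_multiplicity P
    rw [hcard] at h2
    exact IsPGroup.of_card h2
  have hnotdvd : ∀ a ∈ A, ¬ p ∣ orderOf a := by
    intro a ha hpa
    have h1 : orderOf a ∣ Nat.card A := by
      have := orderOf_dvd_natCard (⟨a, ha⟩ : A)
      rwa [← Subgroup.orderOf_coe] at this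
    have h2 : p ∣ Nat.card A := hpa.trans h1
    have h3 := Nat.Coprime.eq_one_of_dvd hAcop.symm h2
    exact hp.one_lt.ne' h3
  -- fixed point freeness
  have hfpf : ∀ a ∈ A, a ≠ 1 → ∀ d ∈ commutator G, a * d = d * a → d = 1 :=
    fun a ha ha1 d hd hcomm => fpf hM hp hV ha1 (hnotdvd a ha) hd hcomm
  -- a nonidentity element of `A`
  obtain ⟨a₀, ha₀, ha₀1⟩ : ∃ a₀ ∈ A, a₀ ≠ 1 := by
    by_contra hcon
    push Not at hcon
    apply hAne
    rw [eq_bot_iff]
    intro x hx
    rw [Subgroup.mem_bot]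
    exact hcon x hx
  have hsurj := exists_commutator_eq (commutator G) a₀ (hfpf a₀ ha₀ ha₀1)
  -- the commutator `⁅A, P⁆`
  have hAP : ⁅A, (P : Subgroup G)⁆ = commutator G := by
    apply le_antisymm
    · rw [commutator_def]
      exact Subgroup.commutator_mono le_top le_top
    · intro e he
      obtain ⟨d, hd, hde⟩ := hsurj e he
      rw [← hde, ← commutatorElement_def]
      exact Subgroup.commutator_mem_commutator ha₀ (hDP hd)
  -- the centralizer part
  have hCD : ((P : Subgroup G) ⊓ Subgroup.centralizer (A : Set G)) ⊓ commutator G = ⊥ := by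
    rw [eq_bot_iff]
    intro x hx
    rw [Subgroup.mem_bot]
    have hxc : x ∈ Subgroup.centralizer (A : Set G) := hx.1.2
    rw [Subgroup.mem_centralizer_iff] at hxc
    exact hfpf a₀ ha₀ ha₀1 x hx.2 (hxc a₀ ha₀)
  have hCcomm : IsMulCommutative ↥((P : Subgroup G) ⊓ Subgroup.centralizer (A : Set G)) := by
    refine ⟨⟨fun x y => Subtype.ext ?_⟩⟩
    have h1 : (x : G) * y * (x : G)⁻¹ * (y : G)⁻¹ ∈
        ((P : Subgroup G) ⊓ Subgroup.centralizer (A : Set G)) ⊓ commutator G :=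
      ⟨Subgroup.mul_mem _ (Subgroup.mul_mem _ (Subgroup.mul_mem _ x.2 y.2)
        (Subgroup.inv_mem _ x.2)) (Subgroup.inv_mem _ y.2),
        commutatorElement_mem_commutator _ _⟩
    rw [hCD, Subgroup.mem_bot] at h1
    show (x : G) * y = y * x
    calc (x : G) * y = ((x : G) * y * (x : G)⁻¹ * (y : G)⁻¹) * y * x := by group
      _ = y * x := by rw [h1, one_mul]
  have hCDsup : ((P : Subgroup G) ⊓ Subgroup.centralizer (A : Set G)) ⊔ commutator G
      = (P : Subgroup G) := by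
    apply le_antisymm
    · exact sup_le inf_le_left hDP
    · intro u hu
      have he : a₀ * u * a₀⁻¹ * u⁻¹ ∈ commutator G := commutatorElement_mem_commutator _ _
      obtain ⟨d, hd, hde⟩ := hsurj _ he
      -- `v = d⁻¹ u` centralizes `a₀`
      have hv : a₀ * (d⁻¹ * u) = (d⁻¹ * u) * a₀ := by
        have h5 : u * a₀⁻¹ * u⁻¹ = d * a₀⁻¹ * d⁻¹ := by
          have : u * a₀⁻¹ * u⁻¹ = a₀⁻¹ * (a₀ * u * a₀⁻¹ * u⁻¹) := by group
          rw [this, ← hde]; group
        have h6 : (d⁻¹ * u) * a₀⁻¹ = a₀⁻¹ * (d⁻¹ * u) := by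
          calc (d⁻¹ * u) * a₀⁻¹ = d⁻¹ * (u * a₀⁻¹ * u⁻¹) * u := by group
            _ = d⁻¹ * (d * a₀⁻¹ * d⁻¹) * u := by rw [h5]
            _ = a₀⁻¹ * (d⁻¹ * u) := by group
        calc a₀ * (d⁻¹ * u) = a₀ * ((d⁻¹ * u) * a₀⁻¹) * a₀ := by group
          _ = a₀ * (a₀⁻¹ * (d⁻¹ * u)) * a₀ := by rw [h6]
          _ = (d⁻¹ * u) * a₀ := by group
      have hvP : d⁻¹ * u ∈ (P : Subgroup G) :=
        Subgroup.mul_mem _ (Subgroup.inv_mem _ (hDP hd)) hu
      have hvC : d⁻¹ * u ∈ Subgroup.centralizer (A : Set G) := by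
        rw [Subgroup.mem_centralizer_iff]
        intro b hb
        -- `w = v b v⁻¹ b⁻¹` lies in the commutator subgroup and commutes with `a₀`
        set v := d⁻¹ * u with hvdef
        have hw : v * b * v⁻¹ * b⁻¹ ∈ commutator G := commutatorElement_mem_commutator _ _
        have hba : a₀ * b = b * a₀ := hAcomm a₀ ha₀ b hb
        have hbinv : a₀ * b⁻¹ = b⁻¹ * a₀ := by
          calc a₀ * b⁻¹ = b⁻¹ * (b * a₀) * b⁻¹ := by group
            _ = b⁻¹ * (a₀ * b) * b⁻¹ := by rw [hba]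
            _ = b⁻¹ * a₀ := by group
        have hvinv : a₀ * v⁻¹ = v⁻¹ * a₀ := by
          calc a₀ * v⁻¹ = v⁻¹ * (v * a₀) * v⁻¹ := by group
            _ = v⁻¹ * (a₀ * v) * v⁻¹ := by rw [hv]
            _ = v⁻¹ * a₀ := by group
        have hwc : a₀ * (v * b * v⁻¹ * b⁻¹) = (v * b * v⁻¹ * b⁻¹) * a₀ := by
          calc a₀ * (v * b * v⁻¹ * b⁻¹) = (a₀ * v) * b * v⁻¹ * b⁻¹ := by group
            _ = v * (a₀ * b) * v⁻¹ * b⁻¹ := by rw [hv]; group
            _ = v * b * (a₀ * v⁻¹) * b⁻¹ := by rw [hba]; group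
            _ = v * b * v⁻¹ * (a₀ * b⁻¹) := by rw [hvinv]; group
            _ = (v * b * v⁻¹ * b⁻¹) * a₀ := by rw [hbinv]; group
        have hw1 := hfpf a₀ ha₀ ha₀1 _ hw hwc
        calc b * v = (v * b * v⁻¹ * b⁻¹)⁻¹ * v * b := by group
          _ = v * b := by rw [hw1]; group
      have : u = d * (d⁻¹ * u) := by group
      rw [this, sup_comm]
      exact Subgroup.mul_mem_sup hd ⟨hvP, hvC⟩
  -- `A` is cyclic
  have hDne : commutator G ≠ ⊥ := fun h => hc (isMulCommutative_of_commutator_eq_bot h)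
  have hAcyc : IsCyclic A := by
    apply Cfsg.Agent.Lib.Helper1.isCyclic_of_fpf_of_abelian A (commutator G) hDne
    · rw [Subgroup.normalizer_eq_top]; exact le_top
    · intro a ha ha1
      rw [eq_bot_iff]
      intro x hx
      rw [Subgroup.mem_bot]
      have hx2 : x ∈ Subgroup.centralizer ({a} : Set G) := hx.2
      rw [Subgroup.mem_centralizer_singleton_iff] at hx2
      exact hfpf a ha ha1 x hx.1 hx2.symm
  refine ⟨p, hpF, P, A, hPn, hAcyc, hAne, hAcop, hsup, hCcomm, ?_, ?_, ?_, ?_⟩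
  · rw [hAP]; infer_instance
  · rw [hAP]; exact hCDsup
  · rw [hAP]; exact hCD
  · intro a ha ha1 d hd hcomm
    rw [hAP] at hd
    exact hfpf a ha ha1 d hd hcomm

end Cfsg.Agent.Lib.Helper6.MulCop
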