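import Mathlib
import Cfsg.Agent.Lib.Helper6.MulCop3

set_option autoImplicit false
set_option linter.style.haveILetI false
set_option linter.unusedSectionVars false

namespace Cfsg.Agent.Lib.Helper6.MulCop

open scoped ComplexConjugate

variable {G : Type*} [Group G] [Finite G]

theorem prime_eq_of_orderOf {p r a k : ℕ} (hp : p.Prime) (hr : r.Prime) {x : G} (hx : x ≠ 1)
    (h1 : orderOf x = r ^ a) (h2 : orderOf x = p ^ k) : r = p := by
  have ha : a ≠ 0 := by
    intro h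
    rw [h, pow_zero] at h1
    exact hx (orderOf_eq_one_iff.mp h1)
  have hd : r ∣ p ^ k := by
    rw [← h2, h1]
    exact dvd_pow_self r ha
  exact (Nat.prime_dvd_prime_iff_eq hr hp).mp (hr.dvd_of_dvd_pow hd)

/-- A group of prime power order satisfies the multiplicativity hypothesis vacuously. -/
theorem backward_pgroup {p : ℕ} (hp : p.Prime) (hG : IsPGroup p G) : Mult G := by
  intro x y χ hx hy hxy
  obtain ⟨p₁, q₁, a, b, hp₁, hq₁, hne, hxo, hyo⟩ := hxy
  exfalso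
  haveI : Fact p.Prime := ⟨hp⟩
  obtain ⟨k, hk⟩ := IsPGroup.iff_orderOf.mp hG x
  obtain ⟨l, hl⟩ := IsPGroup.iff_orderOf.mp hG y
  exact hne ((prime_eq_of_orderOf hp hp₁ hx hxo hk).trans
    (prime_eq_of_orderOf hp hq₁ hy hyo hl).symm)

/-- An abelian group satisfies the multiplicativity hypothesis. -/
theorem backward_comm (hc : IsMulCommutative G) : Mult G := by
  intro x y χ _ _ _
  exact IsCharacter.mul_of_apply_one_eq_one (IsIrrCharacter.isCharacter χ.2)
    (apply_one_eq_one_of_comm hc χ) x y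

theorem cyclic_mul_comm {H : Type*} [Group H] [IsCyclic H] (x y : H) : x * y = y * x := by
  obtain ⟨g, hg⟩ := IsCyclic.exists_generator (α := H)
  obtain ⟨m, rfl⟩ := Subgroup.mem_zpowers_iff.mp (hg x)
  obtain ⟨n, rfl⟩ := Subgroup.mem_zpowers_iff.mp (hg y)
  rw [← zpow_add, ← zpow_add, add_comm]

section backward

variable {p : ℕ} [Fact p.Prime] (P : Sylow p G) (A : Subgroup G)

/-- The commutator subgroup is contained in `⁅A, P⁆`. -/
theorem commutator_le_of_struct [hPn : (P : Subgroup G).Normal] (hAcyc : IsCyclic ↥A)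
    (hsup : A ⊔ (P : Subgroup G) = ⊤)
    (hCc : IsMulCommutative ↥((P : Subgroup G) ⊓ Subgroup.centralizer (A : Set G)))
    [hDn : (⁅A, (P : Subgroup G)⁆).Normal]
    (hCD : ((P : Subgroup G) ⊓ Subgroup.centralizer (A : Set G)) ⊔ ⁅A, (P : Subgroup G)⁆
      = (P : Subgroup G)) :
    commutator G ≤ ⁅A, (P : Subgroup G)⁆ := by
  apply Subgroup.Normal.quotient_commutative_iff_commutator_le.mp
  -- decomposition of elements
  have hdec : ∀ g : G, ∃ a ∈ A, ∃ c ∈ (P : Subgroup G) ⊓ Subgroup.centralizer (A : Set G),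
      ∃ d ∈ ⁅A, (P : Subgroup G)⁆, g = a * c * d := by
    intro g
    have hg : g ∈ A ⊔ (P : Subgroup G) := by rw [hsup]; exact Subgroup.mem_top g
    obtain ⟨a, ha, u, hu, rfl⟩ := Subgroup.mem_sup_of_normal_right.mp hg
    rw [← hCD] at hu
    obtain ⟨c, hc, d, hd, rfl⟩ := Subgroup.mem_sup_of_normal_right.mp hu
    exact ⟨a, ha, c, hc, d, hd, by group⟩
  refine ⟨⟨fun x' y' => ?_⟩⟩
  obtain ⟨x, rfl⟩ := QuotientGroup.mk'_surjective _ x'
  obtain ⟨y, rfl⟩ := QuotientGroup.mk'_surjective _ y'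
  obtain ⟨a, ha, c, hc, d, hd, rfl⟩ := hdec x
  obtain ⟨a', ha', c', hc', d', hd', rfl⟩ := hdec y
  simp only [QuotientGroup.mk'_apply]
  rw [QuotientGroup.mk_mul_of_mem _ hd, QuotientGroup.mk_mul_of_mem _ hd', ← QuotientGroup.mk_mul,
    ← QuotientGroup.mk_mul]
  congr 1
  have haa : a * a' = a' * a :=
    congrArg Subtype.val (cyclic_mul_comm (⟨a, ha⟩ : A) ⟨a', ha'⟩)
  have hcc : c * c' = c' * c :=
    congrArg Subtype.val (mul_comm' (⟨c, hc⟩ :
      ↥((P : Subgroup G) ⊓ Subgroup.centralizer (A : Set G))) ⟨c', hc'⟩)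
  have hca' : a' * c = c * a' := (Subgroup.mem_centralizer_iff.mp hc.2) a' ha'
  have hc'a : a * c' = c' * a := (Subgroup.mem_centralizer_iff.mp hc'.2) a ha
  calc a * c * (a' * c') = a * (c * a') * c' := by group
    _ = a * (a' * c) * c' := by rw [hca']
    _ = (a * a') * (c * c') := by group
    _ = (a' * a) * (c' * c) := by rw [haa, hcc]
    _ = a' * (a * c') * c := by group
    _ = a' * (c' * a) * c := by rw [hc'a]
    _ = a' * c' * (a * c) := by group

/-- Elements outside `P` have no nontrivial fixed points on `⁅A, P⁆`. -/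
theorem fixed_eq_one_of_struct [hPn : (P : Subgroup G).Normal]
    (hAcop : (Nat.card ↥A).Coprime p) (hsup : A ⊔ (P : Subgroup G) = ⊤)
    [hDn : (⁅A, (P : Subgroup G)⁆).Normal]
    (hCD : ((P : Subgroup G) ⊓ Subgroup.centralizer (A : Set G)) ⊔ ⁅A, (P : Subgroup G)⁆
      = (P : Subgroup G))
    (hfpf : ∀ a ∈ A, a ≠ 1 → ∀ d ∈ ⁅A, (P : Subgroup G)⁆, a * d = d * a → d = 1)
    {g : G} (hg : g ∉ (P : Subgroup G)) {e : G} (he : e ∈ ⁅A, (P : Subgroup G)⁆)
    (hcomm : g * e = e * g) : e = 1 := by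
  have hgt : g ∈ A ⊔ (P : Subgroup G) := by rw [hsup]; exact Subgroup.mem_top g
  obtain ⟨a, ha, u, hu, rfl⟩ := Subgroup.mem_sup_of_normal_right.mp hgt
  have ha1 : a ≠ 1 := by
    intro h
    apply hg
    rw [h, one_mul]
    exact hu
  rw [← hCD] at hu
  obtain ⟨c, hc, d₀, hd₀, rfl⟩ := Subgroup.mem_sup_of_normal_right.mp hu
  -- `h = a c`
  have hac : a * c = c * a := (Subgroup.mem_centralizer_iff.mp hc.2) a ha
  -- the order of `c` is a power of `p`
  obtain ⟨j, hj⟩ := (IsPGroup.iff_orderOf.mp P.2) ⟨c, hc.1⟩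
  have hj' : orderOf c = p ^ j := by rw [← hj, ← Subgroup.orderOf_coe]
  have hpow : (a * c) ^ (p ^ j) = a ^ (p ^ j) := by
    rw [Commute.mul_pow (show Commute a c from hac), ← hj', pow_orderOf_eq_one, mul_one]
  have hane : a ^ (p ^ j) ≠ 1 := by
    intro h
    have h1 : orderOf a ∣ p ^ j := orderOf_dvd_iff_pow_eq_one.mpr h
    have h2 : orderOf a ∣ Nat.card A := by
      have := orderOf_dvd_natCard (⟨a, ha⟩ : A)
      rwa [← Subgroup.orderOf_coe] at this
    have h3 : (orderOf a).Coprime (p ^ j) :=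
      Nat.Coprime.coprime_dvd_left h2 (Nat.Coprime.pow_right j hAcop)
    have h4 := Nat.Coprime.eq_one_of_dvd h3 h1
    exact ha1 (orderOf_eq_one_iff.mp h4)
  have hfixh : ∀ d ∈ ⁅A, (P : Subgroup G)⁆, (a * c) * d = d * (a * c) → d = 1 := by
    intro d hd hcd
    have h1 : (a * c) ^ (p ^ j) * d = d * (a * c) ^ (p ^ j) :=
      (Commute.pow_left (show Commute (a * c) d from hcd) _).eq
    rw [hpow] at h1
    exact hfpf _ (A.pow_mem ha _) hane d hd h1
  have hfixh' : ∀ d ∈ ⁅A, (P : Subgroup G)⁆, (a * c)⁻¹ * d = d * (a * c)⁻¹ → d = 1 := by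
    intro d hd hcd
    apply hfixh d hd
    calc (a * c) * d = (a * c) * (d * (a * c)⁻¹) * (a * c) := by group
      _ = (a * c) * ((a * c)⁻¹ * d) * (a * c) := by rw [hcd]
      _ = d * (a * c) := by group
  obtain ⟨d, hd, hde⟩ := exists_commutator_eq ⁅A, (P : Subgroup G)⁆ (a * c)⁻¹ hfixh' d₀ hd₀
  -- `g = d h d⁻¹`
  have hgconj : a * (c * d₀) = d * (a * c) * d⁻¹ := by
    rw [← hde]; group
  rw [hgconj] at hcomm
  have h5 : (a * c) * (d⁻¹ * e * d) = (d⁻¹ * e * d) * (a * c) := by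
    calc (a * c) * (d⁻¹ * e * d) = d⁻¹ * ((d * (a * c) * d⁻¹) * e) * d := by group
      _ = d⁻¹ * (e * (d * (a * c) * d⁻¹)) * d := by rw [hcomm]
      _ = (d⁻¹ * e * d) * (a * c) := by group
  have h6 : d⁻¹ * e * d ∈ ⁅A, (P : Subgroup G)⁆ := by
    have := hDn.conj_mem e he d⁻¹
    rwa [inv_inv] at this
  have h7 := hfixh _ h6 h5
  calc e = d * (d⁻¹ * e * d) * d⁻¹ := by group
    _ = 1 := by rw [h7]; group

/-- Nonlinear irreducible characters vanish off `P`. -/
theorem vanish_of_struct [hPn : (P : Subgroup G).Normal] (hAcyc : IsCyclic ↥A)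
    (hAcop : (Nat.card ↥A).Coprime p) (hsup : A ⊔ (P : Subgroup G) = ⊤)
    (hCc : IsMulCommutative ↥((P : Subgroup G) ⊓ Subgroup.centralizer (A : Set G)))
    [hDn : (⁅A, (P : Subgroup G)⁆).Normal]
    (hCD : ((P : Subgroup G) ⊓ Subgroup.centralizer (A : Set G)) ⊔ ⁅A, (P : Subgroup G)⁆
      = (P : Subgroup G))
    (hfpf : ∀ a ∈ A, a ≠ 1 → ∀ d ∈ ⁅A, (P : Subgroup G)⁆, a * d = d * a → d = 1)
    {g : G} (hg : g ∉ (P : Subgroup G)) (χ : Cfsg.IrrCharacter G) (hχ : (χ : G → ℂ) 1 ≠ 1) :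
    (χ : G → ℂ) g = 0 := by
  apply vanish_of_card_centralizer_le g _ χ hχ
  have hGD := commutator_le_of_struct P A hAcyc hsup hCc hCD
  have h1 : (⁅A, (P : Subgroup G)⁆).index ≤ (commutator G).index :=
    Nat.le_of_dvd (Nat.pos_of_ne_zero Subgroup.index_ne_zero_of_finite)
      (Subgroup.index_dvd_of_le hGD)
  refine le_trans ?_ h1
  rw [Subgroup.index_eq_card]
  apply Nat.card_le_card_of_injective
    (fun z : Subgroup.centralizer ({g} : Set G) =>
      (QuotientGroup.mk (z : G) : G ⧸ ⁅A, (P : Subgroup G)⁆))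
  intro z₁ z₂ h12
  have h2 : (z₁ : G)⁻¹ * z₂ ∈ ⁅A, (P : Subgroup G)⁆ := QuotientGroup.eq.mp h12
  have h3 : (z₁ : G)⁻¹ * z₂ ∈ Subgroup.centralizer ({g} : Set G) :=
    Subgroup.mul_mem _ (Subgroup.inv_mem _ z₁.2) z₂.2
  rw [Subgroup.mem_centralizer_singleton_iff] at h3
  have h4 := fixed_eq_one_of_struct P A hAcop hsup hCD hfpf hg h2 h3.symm
  apply Subtype.ext
  exact inv_mul_eq_one.mp h4

/-- A group with the structure of the statement satisfies the multiplicativity hypothesis. -/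
theorem backward_struct [hPn : (P : Subgroup G).Normal] (hAcyc : IsCyclic ↥A)
    (hAcop : (Nat.card ↥A).Coprime p) (hsup : A ⊔ (P : Subgroup G) = ⊤)
    (hCc : IsMulCommutative ↥((P : Subgroup G) ⊓ Subgroup.centralizer (A : Set G)))
    [hDn : (⁅A, (P : Subgroup G)⁆).Normal]
    (hCD : ((P : Subgroup G) ⊓ Subgroup.centralizer (A : Set G)) ⊔ ⁅A, (P : Subgroup G)⁆
      = (P : Subgroup G))
    (hfpf : ∀ a ∈ A, a ≠ 1 → ∀ d ∈ ⁅A, (P : Subgroup G)⁆, a * d = d * a → d = 1) : Mult G := by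
  intro x y χ hx hy hxy
  obtain ⟨p₁, q₁, a, b, hp₁, hq₁, hne, hxo, hyo⟩ := hxy
  by_cases h1 : (χ : G → ℂ) 1 = 1
  · exact IsCharacter.mul_of_apply_one_eq_one (IsIrrCharacter.isCharacter χ.2) h1 x y
  have hp : p.Prime := Fact.out
  have hvan := fun {g : G} (hg : g ∉ (P : Subgroup G)) =>
    vanish_of_struct P A hAcyc hAcop hsup hCc hCD hfpf hg χ h1
  -- not both of `x`, `y` lie in `P`
  have hnot : ¬ (x ∈ (P : Subgroup G) ∧ y ∈ (P : Subgroup G)) := by
    rintro ⟨hxP, hyP⟩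
    obtain ⟨k, hk⟩ := (IsPGroup.iff_orderOf.mp P.2) ⟨x, hxP⟩
    obtain ⟨l, hl⟩ := (IsPGroup.iff_orderOf.mp P.2) ⟨y, hyP⟩
    have hk' : orderOf x = p ^ k := by rw [← hk, ← Subgroup.orderOf_coe]
    have hl' : orderOf y = p ^ l := by rw [← hl, ← Subgroup.orderOf_coe]
    exact hne ((prime_eq_of_orderOf hp hp₁ hx hxo hk').trans
      (prime_eq_of_orderOf hp hq₁ hy hyo hl').symm)
  -- the product is not in `P`
  have hxyP : x * y ∉ (P : Subgroup G) := by
    intro hxy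
    by_cases hxP : x ∈ (P : Subgroup G)
    · apply hnot
      refine ⟨hxP, ?_⟩
      have : y = x⁻¹ * (x * y) := by group
      rw [this]
      exact Subgroup.mul_mem _ (Subgroup.inv_mem _ hxP) hxy
    · -- both images in `G ⧸ P`
      apply hxP
      have h2 : (QuotientGroup.mk' (P : Subgroup G)) x * (QuotientGroup.mk' (P : Subgroup G)) y
          = 1 := by
        rw [← map_mul]
        exact (QuotientGroup.eq_one_iff _).mpr hxy
      have h3 : (QuotientGroup.mk' (P : Subgroup G)) x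
          = ((QuotientGroup.mk' (P : Subgroup G)) y)⁻¹ := eq_inv_of_mul_eq_one_left h2
      have h4 : orderOf ((QuotientGroup.mk' (P : Subgroup G)) x) ∣ p₁ ^ a := by
        rw [← hxo]; exact orderOf_map_dvd _ x
      have h5 : orderOf ((QuotientGroup.mk' (P : Subgroup G)) x) ∣ q₁ ^ b := by
        rw [h3, orderOf_inv, ← hyo]; exact orderOf_map_dvd _ y
      have h6 : orderOf ((QuotientGroup.mk' (P : Subgroup G)) x) = 1 :=
        Nat.eq_one_of_dvd_coprimes (Nat.coprime_pow_primes a b hp₁ hq₁ hne) h4 h5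
      exact (QuotientGroup.eq_one_iff _).mp (orderOf_eq_one_iff.mp h6)
  rw [hvan hxyP]
  by_cases hxP : x ∈ (P : Subgroup G)
  · have hyP : y ∉ (P : Subgroup G) := fun h => hnot ⟨hxP, h⟩
    rw [hvan hyP, mul_zero]
  · rw [hvan hxP, zero_mul]

end backward

end Cfsg.Agent.Lib.Helper6.MulCop
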