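import Mathlib
import Cfsg.Prelude.Def_Transfer
import Cfsg.Prelude.Def_Solvable
import Cfsg.Agent.Lib.Helper5.NA8Defs
import Cfsg.Agent.Lib.Helper5.NA8U3
import Cfsg.Agent.Lib.Helper5.NA8U45
set_option autoImplicit false
open scoped commutatorElement
/-! FARM NA8 (S4409), unit U14 (STEP 2b): `1 < [X,K] < X`.  `U14_of` takes the key lemma F1
(stub `U10_F1`) as a hypothesis. -/
namespace Cfsg.Agent.Lib.Helper6.NA8
open Cfsg.Agent.Lib.Helper5.NA8

variable {S : Type*} [Group S] [Finite S]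

omit [Finite S] in
/-- any subgroup between `[X,K]` and `X` is `K`-invariant -/
theorem le_normalizer_of_commutator_le {X K Y : Subgroup S} (hYX : Y ≤ X) (hQY : ⁅X, K⁆ ≤ Y) :
    K ≤ Subgroup.normalizer (Y : Set S) :=
  Subgroup.le_normalizer_iff_commutator_le_left.mpr
    ((Subgroup.commutator_mono hYX le_rfl).trans hQY)

omit [Finite S] in
theorem comm_of_sq_eq_one {a b : S} (ha : a ^ 2 = 1) (hb : b ^ 2 = 1) (hab : (a * b) ^ 2 = 1) :
    a * b = b * a := by
  have haa : a * a = 1 := by rw [← pow_two]; exact ha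
  have hbb : b * b = 1 := by rw [← pow_two]; exact hb
  have habab : a * b * (a * b) = 1 := by rw [← pow_two]; exact hab
  calc a * b = a * 1 * b := by group
    _ = a * (a * b * (a * b)) * b := by rw [habab]
    _ = (a * a) * (b * a) * (b * b) := by group
    _ = b * a := by rw [haa, hbb]; group

omit [Finite S] in
/-- `Q ⊔ ⟨t⟩` is abelian when `Q` is and `t` centralizes `Q`. -/
theorem sup_zpowers_le_centralizer {Q : Subgroup S} {t : S}
    (hQc : Q ≤ Subgroup.centralizer (Q : Set S)) (ht : t ∈ Subgroup.centralizer (Q : Set S)) :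
    Q ⊔ Subgroup.zpowers t ≤ Subgroup.centralizer ((Q ⊔ Subgroup.zpowers t : Subgroup S) : Set S) := by
  have hZQ : Subgroup.zpowers t ≤ Subgroup.centralizer (Q : Set S) := by
    rw [Subgroup.zpowers_le]; exact ht
  have hQZ : Q ≤ Subgroup.centralizer ((Subgroup.zpowers t : Subgroup S) : Set S) :=
    Subgroup.le_centralizer_iff.mp hZQ
  have hZZ : Subgroup.zpowers t ≤ Subgroup.centralizer ((Subgroup.zpowers t : Subgroup S) : Set S) := by
    rw [Subgroup.zpowers_le, Subgroup.mem_centralizer_iff]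
    intro h hh
    obtain ⟨k, rfl⟩ := Subgroup.mem_zpowers_iff.mp hh
    exact ((Commute.refl t).zpow_left k).eq
  refine sup_le ?_ ?_
  · rw [Subgroup.le_centralizer_iff]
    exact sup_le hQc hZQ
  · rw [Subgroup.le_centralizer_iff]
    exact sup_le hQZ hZZ

/-- U14 (STEP 2b) with F1 as a hypothesis. -/
theorem U14_of {X K : Subgroup S}
    (hF1 : ∀ Y : Subgroup S, IsPGroup 2 ↥Y → K ≤ Subgroup.normalizer (Y : Set S) →
      ¬ K ≤ Subgroup.centralizer (Y : Set S) → ¬ CalA Y →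
      (Nat.card ↥Y = 4 ∧ ¬ IsCyclic ↥Y ∧ ∀ y ∈ Y, y ^ 2 = 1) ∨
        (Nat.card ↥Y = 8 ∧ ¬ IsMulCommutative ↥Y ∧ Nonempty (↥Y ≃* QuaternionGroup 2)))
    (hX : IsPGroup 2 ↥X) (hK : Odd (Nat.card ↥K))
    (hKX : K ≤ Subgroup.normalizer (X : Set S))
    (hstar : ∀ Y : Subgroup S, Y ≤ X → Y ≠ X → K ≤ Subgroup.normalizer (Y : Set S) → ¬ CalA Y)
    (hQ1 : ⁅X, K⁆ ≠ ⊥) (hQ2 : ⁅X, K⁆ ≠ X) :
    IsMulCommutative ↥X ∨ ∃ (X₀ : Subgroup S) (k : ℕ), X₀ ≤ X ∧ X₀.relIndex X = 2 ∧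
      Nonempty (↥X₀ ≃* QuaternionGroup (2 ^ (k + 1))) ∧
      X₀ ⊔ (X ⊓ Subgroup.centralizer (X₀ : Set S)) = X := by
  haveI : Fact (Nat.Prime 2) := ⟨Nat.prime_two⟩
  obtain ⟨Q, hQdef⟩ : ∃ Q : Subgroup S, Q = ⁅X, K⁆ := ⟨_, rfl⟩
  have hQX : Q ≤ X := hQdef ▸ Subgroup.le_normalizer_iff_commutator_le_left.mp hKX
  have hQne : Q ≠ ⊥ := hQdef ▸ hQ1
  have hQneX : Q ≠ X := hQdef ▸ hQ2
  have hKQ : K ≤ Subgroup.normalizer (Q : Set S) := hQdef ▸ Subgroup.normalizer_commutator_ge_right X K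
  have hXNQ : X ≤ Subgroup.normalizer (Q : Set S) := hQdef ▸ Subgroup.normalizer_commutator_ge_left X K
  have hQK : ⁅Q, K⁆ = Q := by rw [hQdef]; exact commutator_commutator_eq hX hK hKX
  have hQKne : ⁅Q, K⁆ ≠ ⊥ := by rw [hQK]; exact hQne
  -- invariance of intermediate subgroups
  have hinv : ∀ Y : Subgroup S, Y ≤ X → Q ≤ Y → K ≤ Subgroup.normalizer (Y : Set S) :=
    fun Y hYX hQY => le_normalizer_of_commutator_le hYX (hQdef ▸ hQY)
  have hnc : ∀ Y : Subgroup S, Q ≤ Y → ¬ K ≤ Subgroup.centralizer (Y : Set S) := by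
    intro Y hQY hc
    apply hQKne
    rw [Subgroup.commutator_eq_bot_iff_le_centralizer]
    exact Subgroup.le_centralizer_iff.mp (hc.trans (Subgroup.centralizer_le hQY))
  -- F1 for intermediate proper subgroups
  have hF : ∀ Y : Subgroup S, Y ≤ X → Q ≤ Y → Y ≠ X →
      (Nat.card ↥Y = 4 ∧ ¬ IsCyclic ↥Y ∧ ∀ y ∈ Y, y ^ 2 = 1) ∨
        (Nat.card ↥Y = 8 ∧ ¬ IsMulCommutative ↥Y ∧ Nonempty (↥Y ≃* QuaternionGroup 2)) :=
    fun Y hYX hQY hYne => hF1 Y (hX.to_le hYX) (hinv Y hYX hQY) (hnc Y hQY)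
      (hstar Y hYX hYne (hinv Y hYX hQY))
  -- coprime decomposition
  have hdec : Q ⊔ (X ⊓ Subgroup.centralizer (K : Set S)) = X := by
    rw [hQdef]
    exact Cfsg.Agent.Lib.Helper1.coprime_commutator_sup_centralizer K X hKX
      (coprime_of_odd_of_isPGroup hX hK) (Or.inr (isSolvable_of_isPGroup_two hX))
  -- 2-elements
  have h2el : ∀ t ∈ X, ∃ n : ℕ, t ^ 2 ^ n = 1 := by
    intro t ht
    obtain ⟨n, hn⟩ := hX ⟨t, ht⟩
    exact ⟨n, by simpa using congrArg Subtype.val hn⟩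
  rcases hF Q hQX le_rfl hQneX with ⟨hQ4, hQnc, hQexp⟩ | ⟨hQ8, hQna, hQiso⟩
  · -- four-group case
    left
    have hcent : ∀ t ∈ X ⊓ Subgroup.centralizer (K : Set S), t ∈ Subgroup.centralizer (Q : Set S) :=
      fun t ht => centralizes_four hQ4 hK hKQ hQKne (hXNQ ht.1) ht.2 (h2el t ht.1)
    obtain ⟨t, ht, htQ⟩ : ∃ t ∈ X ⊓ Subgroup.centralizer (K : Set S), t ∉ Q := by
      by_contra hcon
      push Not at hcon
      apply hQneX
      rw [← hdec]
      exact (sup_eq_left.mpr hcon).symm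
    have hQc : Q ≤ Subgroup.centralizer (Q : Set S) := by
      intro a ha
      rw [Subgroup.mem_centralizer_iff]
      intro b hb
      exact comm_of_sq_eq_one (hQexp b hb) (hQexp a ha) (hQexp _ (Q.mul_mem hb ha))
    obtain ⟨Y, hYdef⟩ : ∃ Y : Subgroup S, Y = Q ⊔ Subgroup.zpowers t := ⟨_, rfl⟩
    have hQY : Q ≤ Y := hYdef ▸ le_sup_left
    have htY : t ∈ Y := hYdef ▸ (le_sup_right : Subgroup.zpowers t ≤ _) (Subgroup.mem_zpowers t)
    have hYX : Y ≤ X := by
      rw [hYdef]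
      exact sup_le hQX (by rw [Subgroup.zpowers_le]; exact ht.1)
    have hYc : Y ≤ Subgroup.centralizer (Y : Set S) := by
      rw [hYdef]; exact sup_zpowers_le_centralizer hQc (hcent t ht)
    have hYeq : Y = X := by
      by_contra hYne
      have hQYne : Q ≠ Y := fun h => htQ (h ▸ htY)
      rcases hF Y hYX hQY hYne with ⟨hY4, -, -⟩ | ⟨hY8, hYna, -⟩
      · -- |Y| = 4 = |Q|
        apply hQYne
        exact Subgroup.eq_of_le_of_card_ge hQY (by rw [hY4, hQ4])
      · have hKY := hinv Y hYX hQY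
        have hYK : ⁅Y, K⁆ ≠ ⊥ := by
          intro h
          rw [Subgroup.commutator_eq_bot_iff_le_centralizer] at h
          exact hnc Y hQY (Subgroup.le_centralizer_iff.mp h)
        have := (irr_eight hY8 hYna hK hKY hYK hQY hKQ hQYne).1
        omega
    rw [← hYeq]
    exact Subgroup.le_centralizer_iff_isMulCommutative.mp hYc
  · -- quaternion case
    right
    have hcent : ∀ t ∈ X ⊓ Subgroup.centralizer (K : Set S), t ∈ Subgroup.centralizer (Q : Set S) :=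
      fun t ht => centralizes_eight hQ8 hQna hK hKQ hQKne (hXNQ ht.1) ht.2 (h2el t ht.1)
    refine ⟨Q, 0, hQX, ?_, ?_, ?_⟩
    · -- index 2
      obtain ⟨m, hm⟩ := IsPGroup.iff_card.mp hX
      have hlt : Nat.card ↥Q < Nat.card ↥X := by
        rcases lt_or_ge (Nat.card ↥Q) (Nat.card ↥X) with h | h
        · exact h
        · exact absurd (Subgroup.eq_of_le_of_card_ge hQX h) hQneX
      have hm4 : 4 ≤ m := by
        by_contra hcon
        push Not at hcon
        have : 2 ^ m ≤ 2 ^ 3 := Nat.pow_le_pow_right (by norm_num) (by omega)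
        rw [hQ8, hm] at hlt
        omega
      have hdvd : 2 ^ (3 + 1) ∣ Nat.card ↥X := by
        rw [hm]; exact pow_dvd_pow 2 hm4
      have hQ' : Nat.card ↥(Q.subgroupOf X) = 2 ^ 3 := by
        rw [Nat.card_congr (Subgroup.subgroupOfEquivOfLe hQX).toEquiv, hQ8]; norm_num
      obtain ⟨M', hM'card, hQM'⟩ := Sylow.exists_subgroup_card_pow_succ hdvd hQ'
      obtain ⟨M, hMdef⟩ : ∃ M : Subgroup S, M = M'.map X.subtype := ⟨_, rfl⟩
      have hMX : M ≤ X := hMdef ▸ Subgroup.map_subtype_le M'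
      have hMcard : Nat.card ↥M = 16 := by
        rw [hMdef, Subgroup.card_map_of_injective X.subtype_injective, hM'card]; norm_num
      have hQM : Q ≤ M := by
        intro q hq
        rw [hMdef]
        exact ⟨⟨q, hQX hq⟩, hQM' (Subgroup.mem_subgroupOf.mpr hq), rfl⟩
      have hMeq : M = X := by
        by_contra hMne
        rcases hF M hMX hQM hMne with ⟨h4, -, -⟩ | ⟨h8, -, -⟩ <;> omega
      have h1 := (Q.subgroupOf X).card_mul_index
      have hXcard : Nat.card ↥X = 16 := by rw [← hMeq]; exact hMcard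
      rw [hQ', hXcard] at h1
      change (Q.subgroupOf X).index = 2
      omega
    · exact hQiso
    · apply le_antisymm (sup_le hQX inf_le_left)
      calc X = Q ⊔ (X ⊓ Subgroup.centralizer (K : Set S)) := hdec.symm
        _ ≤ Q ⊔ (X ⊓ Subgroup.centralizer (Q : Set S)) :=
          sup_le_sup_left (fun t ht => ⟨ht.1, hcent t ht⟩) Q

end Cfsg.Agent.Lib.Helper6.NA8
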