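import Mathlib
import Cfsg.Agent.Lib.Helper6.KfAssemble
import Cfsg.Agent.Lib.Helper6.BlkSecond3
import Cfsg.Agent.Lib.Helper6.BlkContrib
import Cfsg.Agent.Lib.Helper6.BlkVanish
import Cfsg.Agent.Lib.Helper6.BlkSections
import Cfsg.Agent.Lib.Helper6.BlkDefConj
import Cfsg.Agent.Lib.Helper6.BrCan
import Cfsg.Agent.Lib.Helper6.BlkCover3
import Cfsg.Agent.S0908
import Cfsg.Agent.Lib.Helper6.SubContribLower
import Cfsg.Agent.Lib.Helper6.Robinson

set_option autoImplicit false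
set_option linter.unusedSectionVars false
open Cfsg

namespace Cfsg.Agent.Lib.Helper6.NAb

open Cfsg.Agent.Lib.Helper6
open scoped ComplexConjugate

section central

variable {G : Type*} [Group G] [Fintype G] [DecidableEq G]
variable {p : ℕ} [Fact p.Prime] {M : Ideal Cfsg.AlgInt}

/-- for a block with a central defect group `P`, the `p`-regular norm of each member is
`|G| / |P|` -/
theorem sum_pRegular_normSq_of_central (hM : Cfsg.IsPModular p M) (χ₀ : Cfsg.IrrCharacter G)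
    (P : Subgroup G) (hPD : Cfsg.IsDefectGroup p M (Cfsg.blockOf M (χ₀ : G → ℂ)) P)
    (hPc : ∀ z ∈ P, ∀ h : G, z * h = h * z) (χ : Cfsg.IrrCharacter G)
    (hχ : χ ∈ Cfsg.blockOf M (χ₀ : G → ℂ)) :
    (Nat.card P : ℂ) * ∑ y ∈ Finset.univ.filter (fun y : G => ¬ p ∣ orderOf y),
        (χ : G → ℂ) y * conj ((χ : G → ℂ) y) = (Nat.card G : ℂ) := by
  classical
  have hp : p.Prime := hM.1
  have hPp : IsPGroup p P := IsDefectGroup.isPGroup' hPD
  have hone := classInner_irrCharacter χ χ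
  rw [if_pos rfl] at hone
  unfold Cfsg.classInner at hone
  have hcard := card_ne_zero_complex G
  have htot : ∑ g : G, (χ : G → ℂ) g * conj ((χ : G → ℂ) g) = (Nat.card G : ℂ) := by
    field_simp at hone
    rw [hone]
  obtain ⟨F, hF⟩ : ∃ F : G → ℂ, F = fun g : G => (χ : G → ℂ) g * conj ((χ : G → ℂ) g) :=
    ⟨_, rfl⟩
  obtain ⟨S, hS⟩ : ∃ S : Finset (P × G),
      S = (Finset.univ : Finset P) ×ˢ (Finset.univ.filter (fun y : G => ¬ p ∣ orderOf y)) :=
    ⟨_, rfl⟩
  obtain ⟨Φ, hΦ⟩ : ∃ Φ : P × G → G, Φ = fun q : P × G => (q.1 : G) * q.2 := ⟨_, rfl⟩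
  -- p-parts
  have hpart : ∀ q ∈ S, Cfsg.IsPPart p (Φ q) (q.1 : G) := by
    intro q hq
    rw [hS, Finset.mem_product, Finset.mem_filter] at hq
    rw [hΦ]
    refine ⟨q.2, rfl, hPc _ q.1.2 q.2, ?_, hq.2.2⟩
    obtain ⟨k, hk⟩ := (IsPGroup.iff_orderOf.mp hPp) q.1
    exact ⟨k, by rw [← hk, Subgroup.orderOf_coe]⟩
  have hinj : Set.InjOn Φ (S : Set (P × G)) := by
    intro q hq q' hq' heq
    have h1 := hpart q hq
    have h2 := hpart q' hq'
    rw [← heq] at h2
    have h3 : (q.1 : G) = (q'.1 : G) := IsPPart.unique hp h1 h2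
    have h4 : q.2 = q'.2 := by
      rw [hΦ] at heq
      simp only at heq
      rw [h3] at heq
      exact mul_left_cancel heq
    exact Prod.ext (Subtype.ext h3) h4
  have hblock : Cfsg.blockOf M (χ : G → ℂ) = Cfsg.blockOf M (χ₀ : G → ℂ) :=
    (blockOf_eq_of_mem hM hχ).symm
  have hzero : ∀ g ∈ (Finset.univ : Finset G), g ∉ S.image Φ → F g = 0 := by
    intro g _ hg
    obtain ⟨u, hu⟩ := exists_isPPart hp g
    have huP : u ∉ P := by
      intro huP
      apply hg
      obtain ⟨y, hy1, -, -, hy4⟩ := hu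
      rw [Finset.mem_image]
      refine ⟨(⟨u, huP⟩, y), ?_, ?_⟩
      · rw [hS, Finset.mem_product, Finset.mem_filter]
        exact ⟨Finset.mem_univ _, Finset.mem_univ _, hy4⟩
      · rw [hΦ]
        exact hy1
    have hv : (χ : G → ℂ) g = 0 := by
      apply apply_eq_zero_of_pPart_not_mem_defectGroup hM χ g u hu
      intro D hD
      rw [hblock] at hD
      obtain ⟨x, hx⟩ := isDefectGroup_conj hM χ₀ P D hPD hD
      have hPcen : P ≤ Subgroup.center G := by
        intro z hz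
        rw [Subgroup.mem_center_iff]
        intro h
        exact (hPc z hz h).symm
      rw [map_conj_eq_of_le_center hPcen x] at hx
      rw [hx]
      exact huP
    rw [hF]
    simp only
    rw [hv, zero_mul]
  have h1 : ∑ g : G, F g = ∑ q ∈ S, F (Φ q) := by
    rw [← Finset.sum_subset (Finset.subset_univ (S.image Φ)) hzero,
      Finset.sum_image hinj]
  have h2 : ∀ q ∈ S, F (Φ q) = F q.2 := by
    intro q _
    rw [hF, hΦ]
    simp only
    have hz := hPc _ q.1.2
    rw [IsIrrCharacter.apply_central_mul χ.2 hz]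
    have h1' := IsIrrCharacter.apply_one_ne_zero χ.2
    obtain ⟨w, hw⟩ : ∃ w : ℂ, w = (χ : G → ℂ) (q.1 : G) / (χ : G → ℂ) 1 := ⟨_, rfl⟩
    have hwpow : w ^ orderOf (q.1 : G) = 1 := by
      rw [hw, ← IsIrrCharacter.apply_central_pow χ.2 hz, pow_orderOf_eq_one, div_self h1']
    have hwn : ‖w‖ = 1 :=
      Complex.norm_eq_one_of_pow_eq_one hwpow (orderOf_pos _).ne'
    have hww : w * conj w = 1 := by
      rw [Complex.mul_conj, Complex.normSq_eq_norm_sq, hwn]
      norm_num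
    have e1 : (χ : G → ℂ) (q.1 : G) * (χ : G → ℂ) q.2 / (χ : G → ℂ) 1 = w * (χ : G → ℂ) q.2 := by
      rw [hw]
      field_simp
    rw [e1, map_mul]
    calc w * (χ : G → ℂ) q.2 * (conj w * conj ((χ : G → ℂ) q.2))
        = (w * conj w) * ((χ : G → ℂ) q.2 * conj ((χ : G → ℂ) q.2)) := by ring
      _ = (χ : G → ℂ) q.2 * conj ((χ : G → ℂ) q.2) := by rw [hww, one_mul]
  rw [Finset.sum_congr rfl h2, hS, Finset.sum_product] at h1
  simp only [Finset.sum_const, Finset.card_univ, nsmul_eq_mul] at h1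
  rw [← htot]
  change _ = ∑ g : G, (fun g : G => (χ : G → ℂ) g * conj ((χ : G → ℂ) g)) g
  rw [← hF, h1, Nat.card_eq_fintype_card, hF]

/-- a block with a central defect group has `p`-regular rank one -/
theorem blockRank_eq_one_of_central (hM : Cfsg.IsPModular p M) (B : Set (Cfsg.IrrCharacter G))
    (hB : Cfsg.IsPBlock M B) (P : Subgroup G) (hPD : Cfsg.IsDefectGroup p M B P)
    (hPc : ∀ z ∈ P, ∀ h : G, z * h = h * z) : Cfsg.blockRank p B = 1 := by
  classical
  have : Fintype (Cfsg.IrrCharacter G) := Fintype.ofFinite _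
  have hp : p.Prime := hM.1
  have hpos := blockRank_pos hM B hB
  have hPcard := Cfsg.Agent.S0908.result p M hM B hB P hPD
  obtain ⟨χ₀, rfl⟩ := hB
  have hχ₀ : χ₀ ∈ Cfsg.blockOf M (χ₀ : G → ℂ) := sameBlock_refl hM _
  have hcard := card_ne_zero_complex G
  have hPne : (Nat.card P : ℂ) ≠ 0 := by
    rw [hPcard]
    exact_mod_cast (pow_pos hp.pos _).ne'
  have hnorm := sum_pRegular_normSq_of_central hM χ₀ P hPD hPc
  -- the number of characters
  obtain ⟨ψ, hψB, hψ0⟩ := exists_height_zero (p := p) (Cfsg.blockOf M (χ₀ : G → ℂ)) χ₀ hχ₀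
  obtain ⟨m, hm1, hm2, -, -, -, -, hm7, -⟩ :=
    exists_contrib hM χ₀ ψ (Cfsg.blockOf M (χ₀ : G → ℂ)) rfl hψB
  have hmψ : m ψ = 1 := by
    have h1 := hm1 ψ hψB
    have h2 := cInt_spec hM ψ ψ
    have h3 := factorization_card_eq_sInf_add_defect (p := p) (Cfsg.blockOf M (χ₀ : G → ℂ)) χ₀ hχ₀
    have h4 : Cfsg.classInner (tildeFun p (ψ : G → ℂ)) (ψ : G → ℂ)
        = ((p ^ (Nat.card G).factorization p : ℕ) : ℂ) / (Nat.card P : ℂ) := by
      unfold Cfsg.classInner tildeFun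
      have e1 : ∑ g : G, (if p ∣ orderOf g then (0 : ℂ)
            else ((p ^ (Nat.card G).factorization p : ℕ) : ℂ) * (ψ : G → ℂ) g)
              * conj ((ψ : G → ℂ) g)
          = ((p ^ (Nat.card G).factorization p : ℕ) : ℂ)
            * ∑ y ∈ Finset.univ.filter (fun y : G => ¬ p ∣ orderOf y),
              (ψ : G → ℂ) y * conj ((ψ : G → ℂ) y) := by
        rw [Finset.mul_sum, Finset.sum_filter]
        apply Finset.sum_congr rfl
        intro g _
        split_ifs with hg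
        · rw [zero_mul]
        · ring
      rw [e1]
      have e2 := hnorm ψ hψB
      field_simp
      rw [← e2]
      ring
    rw [h4] at h2
    have h5 : ((p ^ (Nat.card G).factorization p : ℕ) : ℂ)
        = (Nat.card P : ℂ) * ((p ^ sInf ((fun χ : Cfsg.IrrCharacter G =>
          (Cfsg.charDegree (χ : G → ℂ)).factorization p) '' Cfsg.blockOf M (χ₀ : G → ℂ)) : ℕ) : ℂ) := by
      rw [hPcard, h3]
      push_cast
      rw [pow_add]
      ring
    rw [h5, mul_div_assoc, mul_comm, div_mul_cancel₀ _ hPne, h1] at h2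
    have h6 : ((p : ℤ) ^ sInf ((fun χ : Cfsg.IrrCharacter G =>
          (Cfsg.charDegree (χ : G → ℂ)).factorization p) '' Cfsg.blockOf M (χ₀ : G → ℂ))) * 1
        = (p : ℤ) ^ sInf ((fun χ : Cfsg.IrrCharacter G =>
          (Cfsg.charDegree (χ : G → ℂ)).factorization p) '' Cfsg.blockOf M (χ₀ : G → ℂ)) * m ψ := by
      have : (((p : ℤ) ^ sInf ((fun χ : Cfsg.IrrCharacter G =>
          (Cfsg.charDegree (χ : G → ℂ)).factorization p) '' Cfsg.blockOf M (χ₀ : G → ℂ)) * 1 : ℤ) : ℂ)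
        = (((p : ℤ) ^ sInf ((fun χ : Cfsg.IrrCharacter G =>
          (Cfsg.charDegree (χ : G → ℂ)).factorization p) '' Cfsg.blockOf M (χ₀ : G → ℂ)) * m ψ : ℤ) : ℂ) := by
        rw [← h2]
        push_cast
        ring
      exact_mod_cast this
    have hpp : ((p : ℤ) ^ sInf ((fun χ : Cfsg.IrrCharacter G =>
          (Cfsg.charDegree (χ : G → ℂ)).factorization p) '' Cfsg.blockOf M (χ₀ : G → ℂ))) ≠ 0 :=
      pow_ne_zero _ (by exact_mod_cast hp.ne_zero)
    exact (mul_left_cancel₀ hpp h6).symm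
  rw [hmψ, mul_one] at hm2
  have hmne : ∀ β ∈ Cfsg.blockOf M (χ₀ : G → ℂ), 1 ≤ m β ^ 2 := by
    intro β hβ
    have h1 := hm7 hψ0 β hβ
    have h2 : m β ≠ 0 := by
      intro h0
      apply h1
      rw [h0]
      exact dvd_zero _
    have h3 : 0 < m β ^ 2 := by positivity
    omega
  have hk : ((Finset.univ.filter (· ∈ Cfsg.blockOf M (χ₀ : G → ℂ))).card : ℤ)
      ≤ (p : ℤ) ^ Cfsg.blockDefect p (Cfsg.blockOf M (χ₀ : G → ℂ)) := by
    rw [← hm2, Finset.card_eq_sum_ones]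
    push_cast
    apply Finset.sum_le_sum
    intro β hβ
    rw [Finset.mem_filter] at hβ
    exact hmne β hβ.2
  -- the rank
  have hrank := blockRank_mul_card (p := p) hM χ₀
  have hsw : ∑ y ∈ Finset.univ.filter (fun y : G => ¬ p ∣ orderOf y),
        ∑ᶠ χ ∈ Cfsg.blockOf M (χ₀ : G → ℂ), (χ : G → ℂ) y * conj ((χ : G → ℂ) y)
      = ((Finset.univ.filter (· ∈ Cfsg.blockOf M (χ₀ : G → ℂ))).card : ℂ)
          * ((Nat.card G : ℂ) / (Nat.card P : ℂ)) := by
    have e1 : ∀ y : G, ∑ᶠ χ ∈ Cfsg.blockOf M (χ₀ : G → ℂ), (χ : G → ℂ) y * conj ((χ : G → ℂ) y)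
        = ∑ χ ∈ Finset.univ.filter (· ∈ Cfsg.blockOf M (χ₀ : G → ℂ)),
            (χ : G → ℂ) y * conj ((χ : G → ℂ) y) := fun y =>
      finsum_mem_eq_sum_filter_lib _ _
    simp_rw [e1]
    rw [Finset.sum_comm]
    have e2 : ∀ χ ∈ Finset.univ.filter (· ∈ Cfsg.blockOf M (χ₀ : G → ℂ)),
        ∑ y ∈ Finset.univ.filter (fun y : G => ¬ p ∣ orderOf y),
          (χ : G → ℂ) y * conj ((χ : G → ℂ) y) = (Nat.card G : ℂ) / (Nat.card P : ℂ) := by
      intro χ hχ
      rw [Finset.mem_filter] at hχ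
      have := hnorm χ hχ.2
      rw [eq_div_iff hPne, mul_comm]
      exact this
    rw [Finset.sum_congr rfl e2, Finset.sum_const, nsmul_eq_mul]
  rw [hsw] at hrank
  have hfin : (Cfsg.blockRank p (Cfsg.blockOf M (χ₀ : G → ℂ)) : ℂ) * (Nat.card P : ℂ)
      = ((Finset.univ.filter (· ∈ Cfsg.blockOf M (χ₀ : G → ℂ))).card : ℂ) := by
    field_simp at hrank
    linear_combination hrank
  have hfinN : Cfsg.blockRank p (Cfsg.blockOf M (χ₀ : G → ℂ)) * Nat.card P
      = (Finset.univ.filter (· ∈ Cfsg.blockOf M (χ₀ : G → ℂ))).card := by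
    exact_mod_cast hfin
  have hkN : (Finset.univ.filter (· ∈ Cfsg.blockOf M (χ₀ : G → ℂ))).card
      ≤ p ^ Cfsg.blockDefect p (Cfsg.blockOf M (χ₀ : G → ℂ)) := by
    exact_mod_cast hk
  rw [← hfinN, hPcard] at hkN
  have hppos : 0 < p ^ Cfsg.blockDefect p (Cfsg.blockOf M (χ₀ : G → ℂ)) := pow_pos hp.pos _
  have : Cfsg.blockRank p (Cfsg.blockOf M (χ₀ : G → ℂ)) ≤ 1 := by
    by_contra hcon
    push Not at hcon
    have : 2 * p ^ Cfsg.blockDefect p (Cfsg.blockOf M (χ₀ : G → ℂ))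
        ≤ Cfsg.blockRank p (Cfsg.blockOf M (χ₀ : G → ℂ))
          * p ^ Cfsg.blockDefect p (Cfsg.blockOf M (χ₀ : G → ℂ)) :=
      Nat.mul_le_mul_right _ hcon
    omega
  omega

end central


section sections

variable {G : Type*} [Group G] [Fintype G] [DecidableEq G]
variable {p : ℕ} [Fact p.Prime] {M : Ideal Cfsg.AlgInt}

/-- if the inertial group of an abelian defect group is its centralizer, the nonidentity
elements of the defect group give pairwise different subsections -/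
theorem card_sub_one_le_sections (hM : Cfsg.IsPModular p M) (B : Set (Cfsg.IrrCharacter G))
    (hB : Cfsg.IsPBlock M B) (P : Subgroup G) (hPD : Cfsg.IsDefectGroup p M B P)
    (hPab : ∀ x ∈ P, ∀ y ∈ P, x * y = y * x)
    (c : Set (Cfsg.IrrCharacter (Subgroup.centralizer (P : Set G))))
    (hc : Cfsg.IsInducedBlock M (Subgroup.centralizer (P : Set G)) c B)
    (X : Finset G) (hX : ∀ x ∈ X, ∃ k : ℕ, orderOf x = p ^ k)
    (hXrep : ∀ g : G, (∃ k : ℕ, orderOf g = p ^ k) → ∃! x, x ∈ X ∧ IsConj g x)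
    (hstab : ∀ t ∈ Subgroup.normalizer (P : Set G),
      t ∈ stabSub (Subgroup.centralizer (P : Set G)) c → t ∈ Subgroup.centralizer (P : Set G)) :
    Nat.card P - 1 ≤ ∑ x ∈ X.erase 1, sectionSum p M B x := by
  classical
  have hPp : IsPGroup p P := IsDefectGroup.isPGroup' hPD
  obtain ⟨h1X, -⟩ := card_block_eq_rank_add hM B hB X hX hXrep
  obtain ⟨Pinv, hPinv⟩ : ∃ Pinv : Finset G, Pinv = (Finset.univ.filter (· ∈ P)).erase 1 :=
    ⟨_, rfl⟩
  have hPinv_mem : ∀ w : G, w ∈ Pinv ↔ w ≠ 1 ∧ w ∈ P := by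
    intro w
    rw [hPinv, Finset.mem_erase, Finset.mem_filter]
    simp only [Finset.mem_univ, true_and]
  have hPinv_card : Pinv.card = Nat.card P - 1 := by
    rw [hPinv, Finset.card_erase_of_mem (by
      rw [Finset.mem_filter]; exact ⟨Finset.mem_univ _, P.one_mem⟩)]
    rw [Nat.card_eq_fintype_card, Fintype.card_subtype]
  have hpel : ∀ w ∈ P, ∃ k : ℕ, orderOf w = p ^ k := by
    intro w hw
    obtain ⟨k, hk⟩ := (IsPGroup.iff_orderOf.mp hPp) ⟨w, hw⟩
    exact ⟨k, by rw [← hk, Subgroup.orderOf_mk]⟩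
  -- the fibres
  have hfib : ∀ x : G, (Pinv.filter (fun w => IsConj w x)).card ≤ sectionSum p M B x := by
    intro x
    have hex : ∀ w : G, w ∈ P ∧ IsConj w x →
        ∃ β' : Set (Cfsg.IrrCharacter (Subgroup.centralizer ({x} : Set G))),
          SubsecFrom M P c w x β' ∧
            Cfsg.IsInducedBlock M (Subgroup.centralizer ({x} : Set G)) β' B :=
      fun w hw => SubsecFrom.exists hM B P hPD hPab c hc w x hw.1 hw.2
    obtain ⟨βf, hβf⟩ : ∃ βf : G → Set (Cfsg.IrrCharacter (Subgroup.centralizer ({x} : Set G))),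
        ∀ w : G, w ∈ P ∧ IsConj w x → SubsecFrom M P c w x (βf w) ∧
            Cfsg.IsInducedBlock M (Subgroup.centralizer ({x} : Set G)) (βf w) B := by
      refine ⟨fun w => if h : w ∈ P ∧ IsConj w x then (hex w h).choose else ∅, ?_⟩
      intro w hw
      simp only [dif_pos hw]
      exact (hex w hw).choose_spec
    have hinj : Set.InjOn βf (Pinv.filter (fun w => IsConj w x) : Finset G) := by
      intro w hw w' hw' heq
      rw [Finset.mem_coe, Finset.mem_filter, hPinv_mem] at hw hw'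
      have h1 := (hβf w ⟨hw.1.2, hw.2⟩).1
      have h2 := (hβf w' ⟨hw'.1.2, hw'.2⟩).1
      rw [← heq] at h2
      obtain ⟨t, htN, htS, htw⟩ := SubsecFrom.fusion hM B P hPD hPab c hc w w' x hw.1.2 hw'.1.2
        _ h1 h2
      have htC := hstab t htN htS
      have := Subgroup.mem_centralizer_iff.mp htC w' hw'.1.2
      rw [← htw, ← this, mul_assoc, mul_inv_cancel, mul_one]
    rw [← Finset.card_image_of_injOn hinj]
    apply card_le_sectionSum hM x B
    intro b hb
    obtain ⟨w, hw, rfl⟩ := Finset.mem_image.mp hb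
    rw [Finset.mem_filter, hPinv_mem] at hw
    exact (hβf w ⟨hw.1.2, hw.2⟩).2
  -- double counting
  have hdouble : ∑ x ∈ X, (Pinv.filter (fun w => IsConj w x)).card = Pinv.card := by
    simp_rw [Finset.card_filter]
    rw [Finset.sum_comm, Finset.card_eq_sum_ones]
    apply Finset.sum_congr rfl
    intro w hw
    rw [hPinv_mem] at hw
    obtain ⟨x₀, ⟨hx₀X, hwx₀⟩, huniq⟩ := hXrep w (hpel w hw.2)
    rw [Finset.sum_eq_single_of_mem x₀ hx₀X, if_pos hwx₀]
    intro x hx hne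
    rw [if_neg]
    intro hcon
    exact hne (huniq x ⟨hx, hcon⟩)
  have hI1 : (Pinv.filter (fun w => IsConj w (1 : G))).card = 0 := by
    rw [Finset.card_eq_zero, Finset.filter_eq_empty_iff]
    intro w hw hcon
    rw [hPinv_mem] at hw
    exact hw.1 (isConj_one_left.mp hcon)
  rw [← Finset.add_sum_erase X _ h1X, hI1, zero_add, hPinv_card] at hdouble
  rw [← hdouble]
  apply Finset.sum_le_sum
  intro x _
  exact hfib x

end sections


section upper

variable {G : Type*} [Group G] [Fintype G] [DecidableEq G]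
variable {p : ℕ} [Fact p.Prime] {M : Ideal Cfsg.AlgInt}

theorem subContrib_self_re_nonneg (z : G) (H : Subgroup G) [Fintype H]
    (b : Set (Cfsg.IrrCharacter H)) (χ : G → ℂ) :
    0 ≤ (subContrib p z H b χ χ).re ∧
      ((subContrib p z H b χ χ).re : ℂ) = subContrib p z H b χ χ := by
  constructor
  · unfold subContrib
    have h1 : ∀ s : H, Cfsg.blockPart b (fun c : H => χ (z * (c : G))) s
        * conj (Cfsg.blockPart b (fun c : H => χ (z * (c : G))) s)
        = ((Complex.normSq (Cfsg.blockPart b (fun c : H => χ (z * (c : G))) s) : ℝ) : ℂ) :=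
      fun s => Complex.mul_conj _
    simp_rw [h1]
    rw [← Complex.ofReal_sum, ← Complex.ofReal_natCast, ← Complex.ofReal_inv,
      ← Complex.ofReal_mul, Complex.ofReal_re]
    apply mul_nonneg
    · positivity
    · apply Finset.sum_nonneg
      intro s _
      exact Complex.normSq_nonneg _
  · exact Complex.conj_eq_iff_re.mp (subContrib_conj z H b χ χ)

/-- a major subsection with a single Brauer character bounds the number of characters of the
block by the order of the defect group -/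
theorem card_le_of_major_rank_one (hM : Cfsg.IsPModular p M) (B : Set (Cfsg.IrrCharacter G))
    (d : ℕ) (hd : Cfsg.blockDefect p B = d) (u : G)
    (hu : u ^ (p ^ d) = 1) (H : Subgroup G) (hH : H = Subgroup.centralizer ({u} : Set G))
    (b : Set (Cfsg.IrrCharacter H)) (hind : Cfsg.IsInducedBlock M H b B)
    (hdef : Cfsg.blockDefect p b = d) (hl : Cfsg.blockRank p b = 1) :
    Nat.card B ≤ p ^ d := by
  classical
  have : Fintype (Cfsg.IrrCharacter G) := Fintype.ofFinite _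
  have hp : p.Prime := hM.1
  obtain ⟨inst⟩ : Nonempty (∀ K : Subgroup G, Fintype K) := ⟨fun K => Fintype.ofFinite K⟩
  let _ : Fintype H := inst H
  obtain ⟨Z, hZ⟩ : ∃ Z : Finset G,
      Z = Finset.univ.filter (fun v : G => ∃ j : ℕ, j.Coprime p ∧ v = u ^ j) := ⟨_, rfl⟩
  have hZmem : ∀ v : G, v ∈ Z ↔ ∃ j : ℕ, j.Coprime p ∧ v = u ^ j := by
    intro v
    rw [hZ, Finset.mem_filter]
    simp only [Finset.mem_univ, true_and]
  have huZ : u ∈ Z := (hZmem u).mpr ⟨1, Nat.coprime_one_left p, (pow_one u).symm⟩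
  have hZpos : 0 < Z.card := Finset.card_pos.mpr ⟨u, huZ⟩
  have huk : ∃ k : ℕ, orderOf u = p ^ k := by
    obtain ⟨k, -, hk⟩ := (Nat.dvd_prime_pow hp).mp (orderOf_dvd_of_pow_eq_one hu)
    exact ⟨k, hk⟩
  have hZord : ∀ v ∈ Z, v ^ (p ^ d) = 1 := by
    intro v hv
    obtain ⟨j, -, rfl⟩ := (hZmem v).mp hv
    rw [← pow_mul, mul_comm, pow_mul, hu, one_pow]
  have hZpow : ∀ v ∈ Z, ∀ j : ℕ, j.Coprime p → v ^ j ∈ Z := by
    intro v hv j hj
    obtain ⟨i, hi, rfl⟩ := (hZmem v).mp hv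
    rw [hZmem]
    exact ⟨i * j, Nat.Coprime.mul_left hi hj, (pow_mul u i j).symm⟩
  have hZinj : ∀ j : ℕ, j.Coprime p → Set.InjOn (fun v : G => v ^ j) (Z : Set G) := by
    intro j hj v hv w hw hvw
    have hvK : v ∈ Subgroup.zpowers u := by
      obtain ⟨i, -, rfl⟩ := (hZmem v).mp hv
      exact Subgroup.pow_mem _ (Subgroup.mem_zpowers u) i
    have hwK : w ∈ Subgroup.zpowers u := by
      obtain ⟨i, -, rfl⟩ := (hZmem w).mp hw
      exact Subgroup.pow_mem _ (Subgroup.mem_zpowers u) i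
    have hcop : (Nat.card (Subgroup.zpowers u)).Coprime j := by
      rw [Nat.card_zpowers]
      obtain ⟨k, hk⟩ := huk
      rw [hk]
      exact Nat.Coprime.pow_left k hj.symm
    have h1 : (powCoprime hcop) ⟨v, hvK⟩ = (powCoprime hcop) ⟨w, hwK⟩ := by
      apply Subtype.ext
      exact hvw
    have h2 := (powCoprime hcop).injective h1
    exact congrArg (fun x : Subgroup.zpowers u => (x : G)) h2
  have hcent : ∀ v ∈ Z, H = Subgroup.centralizer ({v} : Set G) := by
    intro v hv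
    obtain ⟨j, hj, rfl⟩ := (hZmem v).mp hv
    obtain ⟨k, hk⟩ := huk
    rw [hH, centralizer_pow_eq_of_coprime u j (by rw [hk]; exact Nat.Coprime.pow_right k hj)]
  have hZk : ∀ v ∈ Z, ∃ k : ℕ, orderOf v = p ^ k := by
    intro v hv
    obtain ⟨k, -, hk⟩ := (Nat.dvd_prime_pow hp).mp (orderOf_dvd_of_pow_eq_one (hZord v hv))
    exact ⟨k, hk⟩
  obtain ⟨ξ₀, hbξ⟩ := hind.1
  -- the contributions
  obtain ⟨m, hm⟩ : ∃ m : Cfsg.IrrCharacter G → G → ℝ,
      m = fun (χ : Cfsg.IrrCharacter G) (w : G) =>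
        (subContrib p w H b (χ : G → ℂ) (χ : G → ℂ)).re := ⟨_, rfl⟩
  have hlow : ∀ χ ∈ B, (Z.card : ℝ) * (p : ℝ) ^ Cfsg.blockHeight p B (χ : G → ℂ)
      ≤ (p : ℝ) ^ d * ∑ v ∈ Z, m χ v := by
    intro χ hχ
    apply card_mul_pow_height_le_of_major hM inst B χ hχ Z d hd hZord hZpow hZinj (m χ)
    intro v hv
    refine ⟨H, b, hcent v hv, hind, hdef, ?_⟩
    intro j _
    rw [hm]
    exact (subContrib_self_re_nonneg (v ^ j) H b _).2
  -- the sum over the block
  have hsum : ∀ v ∈ Z, ∑ χ ∈ Finset.univ.filter (· ∈ B), m χ v ≤ 1 := by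
    intro v hv
    have h1 := sum_subContrib_self (p := p) hM v (hZk v hv) H (hcent v hv) ξ₀
    rw [← hbξ, hl] at h1
    have h2 : ∑ χ : Cfsg.IrrCharacter G, m χ v = 1 := by
      have : ((∑ χ : Cfsg.IrrCharacter G, m χ v : ℝ) : ℂ) = ((1 : ℝ) : ℂ) := by
        rw [Complex.ofReal_sum, Complex.ofReal_one]
        rw [hm]
        simp only
        rw [Finset.sum_congr rfl (fun χ _ => (subContrib_self_re_nonneg v H b _).2), h1]
        norm_num
      exact_mod_cast this
    rw [← h2]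
    apply Finset.sum_le_sum_of_subset_of_nonneg (Finset.filter_subset _ _)
    intro χ _ _
    rw [hm]
    exact (subContrib_self_re_nonneg v H b _).1
  have htot : (Z.card : ℝ) * ∑ χ ∈ Finset.univ.filter (· ∈ B),
        (p : ℝ) ^ Cfsg.blockHeight p B (χ : G → ℂ)
      ≤ (p : ℝ) ^ d * (Z.card : ℝ) := by
    rw [Finset.mul_sum]
    calc ∑ χ ∈ Finset.univ.filter (· ∈ B),
          (Z.card : ℝ) * (p : ℝ) ^ Cfsg.blockHeight p B (χ : G → ℂ)
        ≤ ∑ χ ∈ Finset.univ.filter (· ∈ B), (p : ℝ) ^ d * ∑ v ∈ Z, m χ v := by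
          apply Finset.sum_le_sum
          intro χ hχ
          rw [Finset.mem_filter] at hχ
          exact hlow χ hχ.2
      _ = (p : ℝ) ^ d * ∑ v ∈ Z, ∑ χ ∈ Finset.univ.filter (· ∈ B), m χ v := by
          rw [← Finset.mul_sum, Finset.sum_comm]
      _ ≤ (p : ℝ) ^ d * ∑ v ∈ Z, (1 : ℝ) := by
          apply mul_le_mul_of_nonneg_left
          · exact Finset.sum_le_sum hsum
          · positivity
      _ = (p : ℝ) ^ d * (Z.card : ℝ) := by
          rw [Finset.sum_const, nsmul_eq_mul, mul_one]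
  have hcardB : (Nat.card B : ℝ) ≤ ∑ χ ∈ Finset.univ.filter (· ∈ B),
      (p : ℝ) ^ Cfsg.blockHeight p B (χ : G → ℂ) := by
    have e1 : Nat.card B = (Finset.univ.filter (· ∈ B)).card := by
      rw [Nat.card_eq_fintype_card, Fintype.card_subtype]
    rw [e1, Finset.card_eq_sum_ones]
    push_cast
    apply Finset.sum_le_sum
    intro χ _
    have hp1 : (1 : ℝ) ≤ (p : ℝ) := by exact_mod_cast hp.one_lt.le
    exact one_le_pow₀ hp1
  have hZr : (0 : ℝ) < (Z.card : ℝ) := by exact_mod_cast hZpos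
  have hfin : (Nat.card B : ℝ) ≤ (p : ℝ) ^ d := by
    have h1 : (Z.card : ℝ) * (Nat.card B : ℝ) ≤ (Z.card : ℝ) * (p : ℝ) ^ d := by
      calc (Z.card : ℝ) * (Nat.card B : ℝ)
          ≤ (Z.card : ℝ) * ∑ χ ∈ Finset.univ.filter (· ∈ B),
              (p : ℝ) ^ Cfsg.blockHeight p B (χ : G → ℂ) :=
            mul_le_mul_of_nonneg_left hcardB hZr.le
        _ ≤ (p : ℝ) ^ d * (Z.card : ℝ) := htot
        _ = (Z.card : ℝ) * (p : ℝ) ^ d := mul_comm _ _
    exact le_of_mul_le_mul_left h1 hZr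
  exact_mod_cast hfin

end upper

end Cfsg.Agent.Lib.Helper6.NAb
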