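import Mathlib
import Cfsg.Agent.Lib.Helper6.NAb1
import Cfsg.Agent.Lib.Helper6.BrIndIn
import Cfsg.Agent.Lib.Helper6.BrRel3
import Cfsg.Agent.Lib.Helper6.BrFull
import Cfsg.Agent.Lib.Helper6.MajorFusion
import Cfsg.Agent.Lib.Helper6.MajorFusion2
import Cfsg.Agent.Lib.Helper6.KfReps

set_option autoImplicit false
set_option linter.unusedSectionVars false
open Cfsg

namespace Cfsg.Agent.Lib.Helper6.NAb

open Cfsg.Agent.Lib.Helper6
open scoped ComplexConjugate

/-- a block with an abelian defect group `P` whose inertial group is `C_G(P)` has a single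
irreducible Brauer character -/
theorem blockRank_eq_one_of_abelian_aux.{u} (n : ℕ) : ∀ (G : Type u) [Group G] [Finite G],
    Nat.card G ≤ n → ∀ (p : ℕ) [Fact p.Prime] (M : Ideal Cfsg.AlgInt) (_ : Cfsg.IsPModular p M)
    (B : Set (Cfsg.IrrCharacter G)) (P : Subgroup G) (_ : Cfsg.IsDefectGroup p M B P)
    (_ : ∀ x ∈ P, ∀ y ∈ P, x * y = y * x)
    (c : Set (Cfsg.IrrCharacter (Subgroup.centralizer (P : Set G))))
    (_ : Cfsg.IsInducedBlock M (Subgroup.centralizer (P : Set G)) c B)
    (_ : ∀ t ∈ Subgroup.normalizer (P : Set G),
      Cfsg.StabilizesBlock (Subgroup.centralizer (P : Set G)) c t →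
        t ∈ Subgroup.centralizer (P : Set G)), Cfsg.blockRank p B = 1 := by
  induction n with
  | zero =>
    intro G _ _ hn
    have := Nat.card_pos (α := G)
    omega
  | succ n ih =>
    intro G _ _ hn p _ M hM B P hPD hPab c hc hstab
    classical
    have : Fintype G := Fintype.ofFinite G
    have hp : p.Prime := hM.1
    have hB : Cfsg.IsPBlock M B := hc.2.1
    have hPp : IsPGroup p P := IsDefectGroup.isPGroup' hPD
    by_cases hcen : ∀ z ∈ P, ∀ h : G, z * h = h * z
    · exact blockRank_eq_one_of_central hM B hB P hPD hcen
    · push Not at hcen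
      obtain ⟨u, huP, h₀, hne⟩ := hcen
      have hPC : P ≤ Subgroup.centralizer (P : Set G) := by
        intro a ha
        rw [Subgroup.mem_centralizer_iff]
        intro b hb
        exact hPab b hb a ha
      have hH : Subgroup.centralizer (P : Set G) = P ⊔ Subgroup.centralizer (P : Set G) :=
        (sup_eq_right.mpr hPC).symm
      obtain ⟨L, hL⟩ : ∃ L : Subgroup G, L = Subgroup.centralizer ({u} : Set G) := ⟨_, rfl⟩
      have hCK : Subgroup.centralizer (P : Set G) ≤ L := by
        rw [hL]
        apply Subgroup.centralizer_le
        intro z hz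
        rw [Set.mem_singleton_iff] at hz
        rw [hz]
        exact huP
      have hPL : P ≤ L := hPC.trans hCK
      have hLlt : Nat.card L < Nat.card G := by
        have hne' : L ≠ ⊤ := by
          intro htop
          have : h₀ ∈ L := by rw [htop]; exact Subgroup.mem_top _
          rw [hL, Subgroup.mem_centralizer_singleton_iff] at this
          exact hne this.symm
        have h1 := Subgroup.card_mul_index L
        have h2 : L.index ≠ 1 := fun h => hne' (Subgroup.index_eq_one.mp h)
        have h3 : L.index ≠ 0 := Subgroup.index_ne_zero_of_finite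
        have h4 : 2 ≤ L.index := by omega
        have h5 : 0 < Nat.card L := Nat.card_pos
        nlinarith
      have : Fintype L := Fintype.ofFinite _
      -- the block of `L`
      obtain ⟨β, hβ⟩ := exists_inducedIn_of_root hM P hPp L
        (Subgroup.centralizer (P : Set G)) hPC (le_refl _) (Subgroup.centralizer_le_normalizer _)
        hCK c hc.1
      have hKdef : ∀ β : Set (Cfsg.IrrCharacter L),
          Cfsg.IsPBlock M β → Cfsg.InducedBlockDefined M L β := by
        intro β hβ
        subst hL
        exact inducedBlockDefined_centralizer_singleton hM u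
          (hPp.to_le (by rw [Subgroup.zpowers_le]; exact huP)) β hβ
      obtain ⟨hβB, hβD⟩ := isDefectGroup_of_inducedIn hM B P hPD _ hH c hc _ hCK hKdef β hβ
      -- transport to the group `L`
      have hHR : (P.subgroupOf L).map L.subtype = P := Subgroup.map_subgroupOf_eq_of_le hPL
      have : Fintype (Subgroup.centralizer ((P.subgroupOf L : Subgroup L) : Set L)) :=
        Fintype.ofFinite _
      have hcenL : ∀ y : L, y ∈ Subgroup.centralizer ((P.subgroupOf L : Subgroup L) : Set L)
          ↔ (y : G) ∈ Subgroup.centralizer (P : Set G) := by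
        intro y
        constructor
        · intro hy
          exact coe_mem_centralizer_of_rel2 L _ P hHR ⟨y, hy⟩
        · intro hy
          exact mem_centralizer_rel2_of_mem L _ P hHR hCK (y : G) hy
      have hφ3 : cE3 L (P.subgroupOf L) P hcenL hCK = cE L (P.subgroupOf L) P hHR hCK := rfl
      have hbridge := (isInducedBlockIn_iff (M := M) L (Subgroup.centralizer (P : Set G)) _
        (cE L (P.subgroupOf L) P hHR hCK) (fun a => rfl) c β).mp hβ
      have habL : ∀ x ∈ P.subgroupOf L, ∀ y ∈ P.subgroupOf L, x * y = y * x := by
        intro x hx y hy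
        apply Subtype.ext
        exact hPab _ hx _ hy
      have hstabL : ∀ t ∈ Subgroup.normalizer ((P.subgroupOf L : Subgroup L) : Set L),
          Cfsg.StabilizesBlock (Subgroup.centralizer ((P.subgroupOf L : Subgroup L) : Set L))
            (mapIrr (cE L (P.subgroupOf L) P hHR hCK).symm '' c) t →
          t ∈ Subgroup.centralizer ((P.subgroupOf L : Subgroup L) : Set L) := by
        intro x hxN hxst
        have hxNG := coe_mem_normalizer_of_rel2 L _ P hHR x hxN
        have h2 := stabilizesBlock_rel3 L (P.subgroupOf L) P hcenL hCK _ x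
          (normalizer_le_normalizer_centralizer P hxNG) hxst
        rw [hφ3] at h2
        have h3 := mapIrr_symm_image_image (cE L (P.subgroupOf L) P hHR hCK).symm c
        rw [MulEquiv.symm_symm] at h3
        rw [h3] at h2
        exact (hcenL _).mpr (hstab (x : G) hxNG h2)
      have hrankβ : Cfsg.blockRank p β = 1 :=
        ih L (by omega) p M hM β (P.subgroupOf L) hβD habL _ hbridge hstabL
      -- the defects
      have hcP := Cfsg.Agent.S0908.result p M hM B hB P hPD
      have hcβ := Cfsg.Agent.S0908.result p M hM β hβB.1 _ hβD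
      have hPLcard : Nat.card (P.subgroupOf L) = Nat.card P :=
        Nat.card_congr (Subgroup.subgroupOfEquivOfLe hPL).toEquiv
      have hdefeq : Cfsg.blockDefect p β = Cfsg.blockDefect p B := by
        rw [hPLcard, hcP] at hcβ
        exact (Nat.pow_right_injective hp.two_le hcβ).symm
      have hupow : u ^ (p ^ Cfsg.blockDefect p B) = 1 := by
        have h1 : (⟨u, huP⟩ : P) ^ (Nat.card P) = 1 := pow_card_eq_one'
        rw [hcP] at h1
        exact congrArg (fun x : P => (x : G)) h1
      have hupper := card_le_of_major_rank_one hM B (Cfsg.blockDefect p B) rfl u hupow L hL β hβB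
        hdefeq hrankβ
      -- the lower bound
      obtain ⟨X, -, hX, hXrep⟩ := exists_pElement_reps_of_finset (G := G) p ∅
        (by intro a ha; exact absurd ha (Finset.notMem_empty a))
        (by intro a ha; exact absurd ha (Finset.notMem_empty a))
      obtain ⟨-, hcount⟩ := card_block_eq_rank_add hM B hB X hX hXrep
      have hlower := card_sub_one_le_sections hM B hB P hPD hPab c hc X hX hXrep (by
        intro t htN htS
        exact hstab t htN ((mem_stabSub_iff _ _ _).mp htS))
      have hpos := blockRank_pos hM B hB
      have hPpos : 0 < Nat.card P := Nat.card_pos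
      rw [← hcP] at hupper
      omega

/-- a block with an abelian defect group `P` whose inertial group is `C_G(P)` has a single
irreducible Brauer character -/
theorem blockRank_eq_one_of_abelian {G : Type*} [Group G] [Finite G] (p : ℕ) [Fact p.Prime]
    (M : Ideal Cfsg.AlgInt) (hM : Cfsg.IsPModular p M)
    (B : Set (Cfsg.IrrCharacter G)) (P : Subgroup G) (hPD : Cfsg.IsDefectGroup p M B P)
    (hPab : ∀ x ∈ P, ∀ y ∈ P, x * y = y * x)
    (c : Set (Cfsg.IrrCharacter (Subgroup.centralizer (P : Set G))))
    (hc : Cfsg.IsInducedBlock M (Subgroup.centralizer (P : Set G)) c B)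
    (hstab : ∀ t ∈ Subgroup.normalizer (P : Set G),
      Cfsg.StabilizesBlock (Subgroup.centralizer (P : Set G)) c t →
        t ∈ Subgroup.centralizer (P : Set G)) : Cfsg.blockRank p B = 1 :=
  blockRank_eq_one_of_abelian_aux (Nat.card G) G le_rfl p M hM B P hPD hPab c hc hstab

end Cfsg.Agent.Lib.Helper6.NAb
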