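import Mathlib
import Cfsg.Agent.Lib.Helper8.NG5Defs
import Cfsg.Agent.Lib.Helper1.FrattiniP
import Cfsg.Agent.Lib.Helper9.NG5U06
import Cfsg.Agent.Lib.Helper6.NG5U10
import Cfsg.Agent.Lib.Helper6.NG5U20
import Cfsg.Agent.Lib.Helper6.NG5U21
import Cfsg.Agent.Lib.Helper6.NG5U22

/-!
# NG5 farm (S1904): unit U24 b2_s4, verbatim (helper6)
-/

set_option autoImplicit false
open scoped commutatorElement

namespace Cfsg.Agent.Lib.Helper6.NG5U24
open Cfsg.Agent.Lib.Helper8.NG5

variable {X : Type*} [Group X] [Finite X] {A : Subgroup (MulAut X)}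

/-- (a): the centre of `Y` is `W`. -/
theorem center_Y (h : Hyp X A) {W Y : Subgroup X} (w : B2 X A W) (hY : IsY W Y)
    (h64 : Nat.card Y = 64) (z : X) (hzY : z ∈ Y) (hzc : ∀ y ∈ Y, z * y = y * z) : z ∈ W := by
  obtain ⟨⟨hYn, hYA⟩, hWY, hinvol, -⟩ := NG5U21.Y_facts h w hY
  have hcen : ∀ c ∈ W, ∀ g : X, g * c = c * g :=
    fun c hc g => (Subgroup.mem_center_iff.1 (w.central hc)) g
  by_contra hzW
  -- the centre of `Y`
  let ZY : Subgroup X := Y ⊓ Subgroup.centralizer (Y : Set X)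
  have hZYmem : ∀ u : X, u ∈ ZY ↔ u ∈ Y ∧ ∀ y ∈ Y, u * y = y * u := by
    intro u
    constructor
    · rintro ⟨h1, h2⟩
      exact ⟨h1, fun y hy => (Subgroup.mem_centralizer_iff.1 h2 y hy).symm⟩
    · rintro ⟨h1, h2⟩
      exact ⟨h1, Subgroup.mem_centralizer_iff.2 fun y hy => (h2 y hy).symm⟩
  have hzZY : z ∈ ZY := (hZYmem z).2 ⟨hzY, hzc⟩
  have hZYA : ∀ φ ∈ A, ∀ u ∈ ZY, φ u ∈ ZY := by
    intro φ hφ u hu
    obtain ⟨huY, huc⟩ := (hZYmem u).1 hu
    refine (hZYmem _).2 ⟨hYA φ hφ u huY, fun y hy => ?_⟩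
    have hy' : φ⁻¹ y ∈ Y := hYA φ⁻¹ (A.inv_mem hφ) y hy
    have h1 := huc _ hy'
    have h2 := congrArg φ h1
    simpa using h2
  have hsqW : ∀ u ∈ ZY, u ^ 2 ∈ W := fun u hu => ((hY u).1 ((hZYmem u).1 hu).1).1
  have hWZY : W ≤ ZY := fun c hc => (hZYmem c).2 ⟨hWY hc, fun y _ => (hcen c hc y).symm⟩
  -- squaring hom
  let sq : ZY →* W :=
    { toFun := fun u => ⟨(u : X) ^ 2, hsqW u u.2⟩
      map_one' := by
        apply Subtype.ext
        simp
      map_mul' := by
        intro u v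
        apply Subtype.ext
        have hcomm : Commute (u : X) (v : X) := ((hZYmem u).1 u.2).2 v ((hZYmem v).1 v.2).1
        exact hcomm.mul_pow 2 }
  have hz2 : z ^ 2 ≠ 1 := fun h1 => hzW (hinvol z hzY h1)
  have hsurj : Function.Surjective sq := by
    rintro ⟨c, hc⟩
    by_cases hc1 : c = 1
    · exact ⟨1, by apply Subtype.ext; simp [sq, hc1]⟩
    · obtain ⟨φ, hφ, hφc⟩ := w.trans (z ^ 2) (hsqW z hzZY) c hc hz2 hc1
      refine ⟨⟨φ z, hZYA φ hφ z hzZY⟩, ?_⟩
      apply Subtype.ext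
      show (φ z) ^ 2 = c
      rw [← map_pow, hφc]
  have hker : Nat.card W ≤ Nat.card sq.ker := by
    refine Nat.card_le_card_of_injective
      (fun c : W => (⟨⟨(c : X), hWZY c.2⟩, ?_⟩ : sq.ker)) ?_
    · rw [MonoidHom.mem_ker]
      apply Subtype.ext
      show (c : X) ^ 2 = 1
      exact w.exp c c.2
    · intro c c' hcc
      have := congrArg (fun u : sq.ker => ((u : ZY) : X)) hcc
      exact Subtype.ext this
  have hZY16 : 16 ≤ Nat.card ZY := by
    have h1 := Subgroup.card_mul_index sq.ker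
    rw [Subgroup.index_ker, MonoidHom.range_eq_top.2 hsurj, Subgroup.card_top, w.card] at h1
    rw [w.card] at hker
    omega
  -- all commutators of `Y` in `{1, c}`
  obtain ⟨c, hc⟩ := NG5U10.comm_idx4 Y ZY inf_le_left
    (fun u hu k hk => ((hZYmem u).1 hu).2 k hk)
    (fun k hk k' _ k'' _ => (hcen _ (((hY k).1 hk).2 k') k'').symm)
    (by rw [h64]; omega)
  have hab := NG5U22.comm_fixed h w Y hYA (fun k hk k' _ => ((hY k).1 hk).2 k') c hc
  -- `Y` abelian: then `ZY = Y`, every element of `Y` squares into ... contradiction by counting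
  have hYZY : Y ≤ ZY := fun y hy => (hZYmem y).2 ⟨hy, fun y' hy' => hab y hy y' hy'⟩
  -- now squaring `Y → W` is a hom with kernel `W`, so `|Y| ≤ 16`
  have hZYY : ZY = Y := le_antisymm inf_le_left hYZY
  have h1 := Subgroup.card_mul_index sq.ker
  rw [Subgroup.index_ker, MonoidHom.range_eq_top.2 hsurj, Subgroup.card_top, w.card] at h1
  have hker' : Nat.card sq.ker ≤ Nat.card W := by
    refine Nat.card_le_card_of_injective
      (fun u : sq.ker => (⟨((u : ZY) : X), ?_⟩ : W)) ?_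
    · have hu := u.2
      rw [MonoidHom.mem_ker] at hu
      have hu2 : ((u : ZY) : X) ^ 2 = 1 := congrArg Subtype.val hu
      exact hinvol _ ((hZYmem _).1 (u : ZY).2).1 hu2
    · intro u u' huu
      have := congrArg Subtype.val huu
      exact Subtype.ext (Subtype.ext this)
  rw [w.card] at hker'
  have : Nat.card ZY = 64 := by rw [hZYY]; exact h64
  omega

/-- (b): `C_X(Y) ≤ W`. -/
theorem centralizer_Y (h : Hyp X A) {W Y : Subgroup X} (w : B2 X A W) (hY : IsY W Y)
    (h64 : Nat.card Y = 64) (x : X) (hx : ∀ y ∈ Y, x * y = y * x) : x ∈ W := by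
  obtain ⟨⟨hYn, hYA⟩, hWY, hinvol, -⟩ := NG5U21.Y_facts h w hY
  have hcen : ∀ c ∈ W, ∀ g : X, g * c = c * g :=
    fun c hc g => (Subgroup.mem_center_iff.1 (w.central hc)) g
  have hWn : W.Normal := ⟨fun c hc g => by
    rw [hcen c hc g, mul_inv_cancel_right]; exact hc⟩
  haveI := hYn
  let C : Subgroup X := Subgroup.centralizer (Y : Set X)
  have hCn : C.Normal := Subgroup.normal_centralizer
  have hWC : W ≤ C := fun c hc => Subgroup.mem_centralizer_iff.2 fun y _ => hcen c hc y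
  have hCW : C ≤ W := by
    by_contra hne
    obtain ⟨u, huC, huW, hu2, huc⟩ :=
      Cfsg.Agent.Lib.Helper9.NG5U06.socle h.pg W C hWn hCn hWC hne
    have huY : u ∈ Y := (hY u).2 ⟨hu2, huc⟩
    exact huW (center_Y h w hY h64 u huY
      (fun y hy => (Subgroup.mem_centralizer_iff.1 huC y hy).symm))
  exact hCW (Subgroup.mem_centralizer_iff.2 fun y hy => (hx y hy).symm)

/-- U24. -/
theorem b2_s4 (h : Hyp X A) {W Y : Subgroup X} (w : B2 X A W) (hY : IsY W Y)
    (h64 : Nat.card Y = 64) :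
    Cfsg.IsSpecial 2 X ∧ Nat.card X = 64 ∧ Nat.card {x : X // orderOf x = 2} = 3 ∧
      ∀ x : X, orderOf x = 2 → x ∈ Subgroup.center X := by
  haveI : Fact (Nat.Prime 2) := ⟨Nat.prime_two⟩
  obtain ⟨⟨hYn, hYA⟩, hWY, hinvol, -⟩ := NG5U21.Y_facts h w hY
  have hcen : ∀ c ∈ W, ∀ g : X, g * c = c * g :=
    fun c hc g => (Subgroup.mem_center_iff.1 (w.central hc)) g
  have hWcomm : ∀ c ∈ W, ∀ c' ∈ W, c * c' = c' * c := fun c _ c' hc' => hcen c' hc' c
  -- `μ_x(y) = ⁅x, y⁆ ∈ W` for `y ∈ Y`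
  have hmu : ∀ x : X, ∀ y ∈ Y, ⁅x, y⁆ ∈ W := by
    intro x y hy
    rw [← commutatorElement_inv]
    exact W.inv_mem (((hY y).1 hy).2 x)
  have hC : ∀ x : X, (∀ y ∈ Y, ⁅x, y⁆ = 1) → x ∈ W := fun x hx =>
    centralizer_Y h w hY h64 x fun y hy => commutatorElement_eq_one_iff_mul_comm.1 (hx y hy)
  -- squares in `W`
  have hsq : ∀ x : X, x ^ 2 ∈ W := by
    intro x
    apply hC
    intro y hy
    rw [pow_two, NG5U20.comm_mul_of_central x x y (hcen _ (hmu x y hy)), ← pow_two]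
    exact w.exp _ (hmu x y hy)
  -- commutators in `W`
  have hcomm : ∀ x x' : X, ⁅x, x'⁆ ∈ W := by
    intro x x'
    apply hC
    intro y hy
    have e : ⁅x, x'⁆ = x * x' * x⁻¹ * x'⁻¹ := commutatorElement_def x x'
    rw [e, NG5U20.comm_mul_of_central _ _ y (hcen _ (hmu _ y hy)),
      NG5U20.comm_mul_of_central _ _ y (hcen _ (hmu _ y hy)),
      NG5U20.comm_mul_of_central _ _ y (hcen _ (hmu _ y hy)),
      NG5U20.comm_inv_of_central x y (hcen _ (hmu x y hy)),
      NG5U20.comm_inv_of_central x' y (hcen _ (hmu x' y hy))]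
    have hc := hWcomm _ (hmu x y hy) _ (hmu x' y hy)
    -- m'⁻¹ * (m⁻¹ * (m' * m)) = 1
    rw [← hc, inv_mul_cancel_left, inv_mul_cancel]
  -- `Y = ⊤`
  have hYtop : Y = ⊤ := by
    rw [eq_top_iff]
    intro x _
    exact (hY x).2 ⟨hsq x, hcomm x⟩
  have hX64 : Nat.card X = 64 := by
    rw [← h64, hYtop, Subgroup.card_top]
  -- centre
  have hcenter : Subgroup.center X = W := by
    apply le_antisymm
    · intro z hz
      exact centralizer_Y h w hY h64 z fun y _ => ((Subgroup.mem_center_iff.1 hz) y).symm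
    · exact w.central
  -- commutator subgroup
  have hcommW : commutator X = W := by
    apply le_antisymm
    · rw [commutator_def, Subgroup.commutator_le]
      intro g₁ _ g₂ _
      exact hcomm g₁ g₂
    · obtain ⟨x, y, hxy⟩ := h.na
      have hc1 : ⁅x, y⁆ ≠ 1 := fun h1 => hxy (commutatorElement_eq_one_iff_mul_comm.1 h1)
      intro c hc
      by_cases hc1' : c = 1
      · rw [hc1']; exact Subgroup.one_mem _
      · obtain ⟨φ, -, hφc⟩ := w.trans _ (hcomm x y) c hc hc1 hc1'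
        rw [← hφc, map_commutatorElement, commutator_def]
        exact Subgroup.commutator_mem_commutator (Subgroup.mem_top _) (Subgroup.mem_top _)
  have hfrat : frattini X = W := by
    apply le_antisymm
    · exact Cfsg.Agent.Lib.Helper1.frattini_le_of_elementary_quotient 2 W (hcommW.le) hsq
    · rw [← hcommW]
      exact Cfsg.Agent.Lib.Helper1.commutator_le_frattini_of_isPGroup 2 h.pg
  have hord : ∀ x : X, orderOf x = 2 ↔ x ∈ W ∧ x ≠ 1 := by
    intro x
    constructor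
    · intro hx
      refine ⟨hinvol x (hYtop ▸ Subgroup.mem_top x) (by rw [← hx]; exact pow_orderOf_eq_one x), ?_⟩
      rintro rfl
      rw [orderOf_one] at hx
      omega
    · rintro ⟨hxW, hx1⟩
      exact orderOf_eq_prime (w.exp x hxW) hx1
  refine ⟨⟨h.pg, by rw [hfrat, hcenter], by rw [hcommW, hcenter]⟩, hX64, ?_, ?_⟩
  · have hset : {x : X | orderOf x = 2} = (W : Set X) \ {1} := by
      ext x
      simp only [Set.mem_ofPred_eq, Set.mem_diff, SetLike.mem_coe, Set.mem_singleton_iff]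
      exact hord x
    have h1 : Nat.card {x : X // orderOf x = 2} = ({x : X | orderOf x = 2} : Set X).ncard :=
      Nat.card_coe_set_eq _
    rw [h1, hset, Set.ncard_diff_singleton_of_mem (Subgroup.one_mem _)]
    have h2 : (W : Set X).ncard = 4 := by
      rw [← w.card]; exact (Nat.card_coe_set_eq _).symm
    rw [h2]
  · intro x hx
    rw [hcenter]
    exact ((hord x).1 hx).1

end Cfsg.Agent.Lib.Helper6.NG5U24
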