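import Mathlib
import Cfsg.Prelude.Def_Transfer
import Cfsg.Agent.Lib.Helper6.SW1
import Cfsg.Agent.Lib.Helper6.KSec3

set_option autoImplicit false
set_option linter.unusedSectionVars false
set_option linter.unusedVariables false
set_option linter.unusedSimpArgs false

/-! Normal elementary abelian `2`-subgroups: bounds and constructions in wreath products and
direct products, transported to Sylow subgroups. -/

namespace Cfsg.Agent.Lib.Helper6.NRk

open Cfsg.Agent.Lib.Helper6.SW Cfsg.Agent.Lib.Helper6.KSec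
open scoped Pointwise

/-- every normal subgroup of exponent two has order at most `2 ^ r` -/
def NBound (P : Type*) [Group P] (r : ℕ) : Prop :=
  ∀ E : Subgroup P, E.Normal → (∀ x ∈ E, x ^ 2 = 1) → Nat.card E ≤ 2 ^ r

/-- there is a normal elementary abelian subgroup of order at least `2 ^ r` -/
def HasNE (P : Type*) [Group P] (r : ℕ) : Prop :=
  ∃ E : Subgroup P, E.Normal ∧ Cfsg.IsElementaryAbelian 2 E ∧ 2 ^ r ≤ Nat.card E

section iso

variable {P P' : Type*} [Group P] [Group P']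

theorem NBound.of_mulEquiv {r : ℕ} (e : P ≃* P') (h : NBound P r) : NBound P' r := by
  intro E hE hexp
  have h1 := h (E.map e.symm.toMonoidHom) (hE.map _ e.symm.surjective) (by
    rintro _ ⟨y, hy, rfl⟩
    show (e.symm y) ^ 2 = 1
    rw [← map_pow, hexp y hy, map_one])
  rwa [Subgroup.card_map_of_injective e.symm.injective] at h1

theorem HasNE.of_mulEquiv {r : ℕ} (e : P ≃* P') (h : HasNE P r) : HasNE P' r := by
  obtain ⟨E, hE, ⟨hc, hexp⟩, hcard⟩ := h
  refine ⟨E.map e.toMonoidHom, hE.map _ e.surjective, ⟨?_, ?_⟩, ?_⟩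
  · rw [isMulCommutative_iff]
    rintro ⟨_, a, ha, rfl⟩ ⟨_, b, hb, rfl⟩
    apply Subtype.ext
    show e a * e b = e b * e a
    have := (isMulCommutative_iff.mp hc) ⟨a, ha⟩ ⟨b, hb⟩
    have h3 : a * b = b * a := congrArg Subtype.val this
    rw [← map_mul, ← map_mul, h3]
  · rintro _ ⟨a, ha, rfl⟩
    show (e a) ^ 2 = 1
    rw [← map_pow, hexp a ha, map_one]
  · rwa [Subgroup.card_map_of_injective e.injective]

theorem NBound_of_card {r : ℕ} [Finite P] (h : Nat.card P ≤ 2 ^ r) : NBound P r := by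
  intro E _ _
  exact (Subgroup.card_le_card_group E).trans h

end iso

section sylow

variable {G : Type*} [Group G] [Finite G]

/-- a group of the right order embedded in `G` is isomorphic to every Sylow subgroup -/
theorem exists_mulEquiv_sylow (p : ℕ) [Fact p.Prime] {X : Type*} [Group X] (lam : X →* G)
    (hlam : Function.Injective lam) (hcard : Nat.card X = p ^ (Nat.card G).factorization p)
    (S : Sylow p G) : Nonempty (X ≃* ↥(S : Subgroup G)) := by
  have h1 : Nat.card lam.range = p ^ (Nat.card G).factorization p := by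
    rw [← hcard]
    exact (Nat.card_congr (MonoidHom.ofInjective hlam).toEquiv).symm
  obtain ⟨P₀, hP₀⟩ := exists_sylow_eq' p lam.range h1
  obtain ⟨g, hg⟩ := MulAction.exists_smul_eq G P₀ S
  have hS : (S : Subgroup G) = MulAut.conj g • (P₀ : Subgroup G) := by
    rw [← hg]
    rfl
  have e1 : X ≃* ↥(P₀ : Subgroup G) :=
    (MonoidHom.ofInjective hlam).trans (MulEquiv.subgroupCongr hP₀.symm)
  have e2 : ↥(P₀ : Subgroup G) ≃* ↥(MulAut.conj g • (P₀ : Subgroup G)) :=
    Subgroup.equivSMul (MulAut.conj g) (P₀ : Subgroup G)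
  exact ⟨(e1.trans e2).trans (MulEquiv.subgroupCongr hS.symm)⟩

end sylow

section prod

variable {A B : Type*} [Group A] [Group B]

theorem NBound_prod {r s : ℕ} [Finite A] [Finite B] (hA : NBound A r) (hB : Nat.card B ≤ 2 ^ s) :
    NBound (A × B) (r + s) := by
  intro E hE hexp
  have h1 := hA (E.map (MonoidHom.fst A B)) (hE.map _ Prod.fst_surjective) (by
    rintro _ ⟨y, hy, rfl⟩
    show (MonoidHom.fst A B y) ^ 2 = 1
    rw [← map_pow, hexp y hy, map_one])
  let Φ : ↥E → ↥(E.map (MonoidHom.fst A B)) × B := fun x => (⟨x.1.1, ⟨x.1, x.2, rfl⟩⟩, x.1.2)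
  have hΦ : Function.Injective Φ := by
    intro x y hxy
    apply Subtype.ext
    have h2 := congrArg (fun z => (z.1.1, z.2)) hxy
    exact Prod.ext (congrArg Prod.fst h2) (congrArg Prod.snd h2)
  calc Nat.card ↥E ≤ Nat.card (↥(E.map (MonoidHom.fst A B)) × B) :=
        Nat.card_le_card_of_injective Φ hΦ
    _ = Nat.card ↥(E.map (MonoidHom.fst A B)) * Nat.card B := Nat.card_prod _ _
    _ ≤ 2 ^ r * 2 ^ s := Nat.mul_le_mul h1 hB
    _ = 2 ^ (r + s) := (pow_add 2 r s).symm

theorem HasNE_prod {r : ℕ} (hA : HasNE A r) (hBc : ∀ a b : B, a * b = b * a)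
    (hB2 : ∀ b : B, b ^ 2 = 1) (hB : 2 ≤ Nat.card B) : HasNE (A × B) (r + 1) := by
  obtain ⟨E, hE, ⟨hc, hexp⟩, hcard⟩ := hA
  refine ⟨E.prod ⊤, ?_, ⟨?_, ?_⟩, ?_⟩
  · haveI := hE
    exact Subgroup.prod_normal E ⊤
  · rw [isMulCommutative_iff]
    rintro ⟨⟨a, b⟩, ha, -⟩ ⟨⟨a', b'⟩, ha', -⟩
    apply Subtype.ext
    have := (isMulCommutative_iff.mp hc) ⟨a, ha⟩ ⟨a', ha'⟩
    have h3 : a * a' = a' * a := congrArg Subtype.val this
    exact Prod.ext h3 (hBc b b')
  · rintro ⟨a, b⟩ ⟨ha, -⟩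
    exact Prod.ext (hexp a ha) (hB2 b)
  · rw [Nat.card_congr (Subgroup.prodEquiv E ⊤).toEquiv, Nat.card_prod,
      Nat.card_congr (Subgroup.topEquiv (G := B)).toEquiv, pow_succ]
    exact Nat.mul_le_mul hcard hB

end prod

end Cfsg.Agent.Lib.Helper6.NRk
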