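import Mathlib
import Cfsg.Prelude.Def_Transfer
import Cfsg.Agent.Lib.Helper6.SW1
import Cfsg.Agent.Lib.Helper6.KSec1
import Cfsg.Agent.Lib.Helper6.NRk1

set_option autoImplicit false
set_option linter.unusedSectionVars false
set_option linter.unusedVariables false
set_option linter.unusedSimpArgs false

/-! Normal subgroups of exponent two in wreath products. -/

namespace Cfsg.Agent.Lib.Helper6.NRk

open Cfsg.Agent.Lib.Helper6.SW Cfsg.Agent.Lib.Helper6.KSec

section wreath

variable {Q : Type*} [Group Q] {κ : Type*} [DecidableEq κ] {T : Type*} [Group T]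
  (ρ : T →* Equiv.Perm κ)

theorem permAut_symm_apply' (σ : Equiv.Perm κ) (d : κ → Q) :
    (MulEquiv.symm (permAut Q κ σ)) d = d ∘ σ := by
  have h : MulEquiv.symm (permAut Q κ σ) = permAut Q κ σ⁻¹ := by
    rw [map_inv]
    rfl
  rw [h, permAut_apply]
  rfl

theorem conj_inl (g : WX Q κ ρ) (d : κ → Q) :
    g * SemidirectProduct.inl d * g⁻¹ =
      SemidirectProduct.inl (g.left * (permAut Q κ (ρ g.right) d) * g.left⁻¹) := by
  ext <;> simp

/-- a normal subgroup of exponent two lies in the base group, if `Q` has an element of order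
greater than two -/
theorem right_eq_one_of_mem (hρ : Function.Injective ρ) (c : Q) (hc : c ^ 2 ≠ 1)
    (E : Subgroup (WX Q κ ρ)) (hE : E.Normal) (hexp : ∀ x ∈ E, x ^ 2 = 1)
    (x : WX Q κ ρ) (hx : x ∈ E) : x.right = 1 := by
  by_contra hne
  have hσ : ρ x.right ≠ 1 := by
    intro h
    apply hne
    apply hρ
    rw [h, map_one]
  obtain ⟨i, hi⟩ : ∃ i, ρ x.right i ≠ i := by
    by_contra hcon
    push Not at hcon
    exact hσ (Equiv.ext hcon)
  let e : κ → Q := Pi.mulSingle i c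
  let y : WX Q κ ρ := SemidirectProduct.inl e
  have hz : x⁻¹ * (y * x * y⁻¹) ∈ E := E.mul_mem (E.inv_mem hx) (hE.conj_mem x hx y)
  have hz2 := hexp _ hz
  have hzeq : x⁻¹ * (y * x * y⁻¹) = SemidirectProduct.inl
      ((x⁻¹).left * (permAut Q κ (ρ (x⁻¹).right) e) * (x⁻¹).left⁻¹ * e⁻¹) := by
    have h0 : x⁻¹ * (y * x * y⁻¹) = (x⁻¹ * y * x⁻¹⁻¹) * y⁻¹ := by group
    rw [h0, conj_inl, map_mul SemidirectProduct.inl _ e⁻¹, map_inv SemidirectProduct.inl e]
  have hval : ((x⁻¹).left * (permAut Q κ (ρ (x⁻¹).right) e) * (x⁻¹).left⁻¹ * e⁻¹) i = c⁻¹ := by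
    have h5 : (permAut Q κ (ρ (x⁻¹).right) e) i = 1 := by
      rw [permAut_apply, Function.comp_apply, SemidirectProduct.inv_right, map_inv]
      show e (((ρ x.right)⁻¹).symm i) = 1
      have h6 : ((ρ x.right)⁻¹).symm i = ρ x.right i := rfl
      rw [h6]
      exact Pi.mulSingle_eq_of_ne (M := fun _ : κ => Q) hi c
    rw [Pi.mul_apply, Pi.mul_apply, Pi.mul_apply, h5, mul_one, Pi.inv_apply, mul_inv_cancel,
      one_mul, Pi.inv_apply]
    show ((Pi.mulSingle i c : κ → Q) i)⁻¹ = c⁻¹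
    rw [Pi.mulSingle_eq_same]
  have h3 : ((x⁻¹ * (y * x * y⁻¹)) ^ 2).left i = c⁻¹ * c⁻¹ := by
    rw [hzeq, ← map_pow, SemidirectProduct.left_inl, pow_two, Pi.mul_apply, hval]
  rw [hz2] at h3
  apply hc
  have h4 : c⁻¹ * c⁻¹ = 1 := by
    rw [← h3]
    rfl
  have h5 : c ^ 2 = (c⁻¹ * c⁻¹)⁻¹ := by
    rw [pow_two, mul_inv_rev, inv_inv]
  rw [h5, h4, inv_one]

/-- the bound for the wreath product -/
theorem NBound_wreath [Finite κ] [Finite Q] (hρ : Function.Injective ρ) (c : Q) (hc : c ^ 2 ≠ 1)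
    {s : ℕ} (hQ : NBound Q s) : NBound (WX Q κ ρ) (s * Nat.card κ) := by
  classical
  cases nonempty_fintype κ
  intro E hE hexp
  have hright := right_eq_one_of_mem ρ hρ c hc E hE hexp
  let E' : Subgroup (κ → Q) := E.comap (SemidirectProduct.inl : (κ → Q) →* WX Q κ ρ)
  have hE' : E'.Normal := hE.comap _
  let N : κ → Subgroup Q := fun k => E'.map (Pi.evalMonoidHom (fun _ : κ => Q) k)
  have hN : ∀ k, Nat.card (N k) ≤ 2 ^ s := by
    intro k
    apply hQ (N k)
    · apply hE'.map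
      intro q
      exact ⟨fun _ => q, rfl⟩
    · rintro _ ⟨d, hd, rfl⟩
      have h1 := hexp _ hd
      rw [← map_pow] at h1
      have h2 : d ^ 2 = 1 := SemidirectProduct.inl_injective (by rw [h1, map_one])
      show (d k) ^ 2 = 1
      have := congrFun h2 k
      simpa using this
  have hmem : ∀ x : ↥E, ∀ k, x.1.left k ∈ N k := by
    intro x k
    refine ⟨x.1.left, ?_, rfl⟩
    show SemidirectProduct.inl x.1.left ∈ E
    have h1 : SemidirectProduct.inl x.1.left = x.1 := by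
      ext
      · simp
      · simp [hright x.1 x.2]
    rw [h1]
    exact x.2
  let Φ : ↥E → (∀ k, ↥(N k)) := fun x k => ⟨x.1.left k, hmem x k⟩
  have hΦ : Function.Injective Φ := by
    intro x y hxy
    apply Subtype.ext
    apply SemidirectProduct.ext
    · funext k
      exact congrArg Subtype.val (congrFun hxy k)
    · rw [hright x.1 x.2, hright y.1 y.2]
  calc Nat.card ↥E ≤ Nat.card (∀ k, ↥(N k)) := Nat.card_le_card_of_injective Φ hΦ
    _ = ∏ k, Nat.card (N k) := Nat.card_pi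
    _ ≤ ∏ _k : κ, 2 ^ s := Finset.prod_le_prod' (fun k _ => hN k)
    _ = 2 ^ (s * Nat.card κ) := by
      rw [Finset.prod_const, Finset.card_univ, ← pow_mul, Nat.card_eq_fintype_card]

/-- the normal elementary abelian subgroup `Z ^ κ` of the wreath product -/
theorem HasNE_wreath [Finite κ] (Z : Subgroup Q) (hZc : ∀ z ∈ Z, ∀ r : Q, z * r = r * z)
    (hZ2 : ∀ z ∈ Z, z ^ 2 = 1) (hZcard : Nat.card Z = 2) : HasNE (WX Q κ ρ) (Nat.card κ) := by
  let f : (κ → ↥Z) →* WX Q κ ρ :=
    (SemidirectProduct.inl : (κ → Q) →* WX Q κ ρ).comp (Z.subtype.compLeft κ)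
  have hf : Function.Injective f := by
    intro d d' h
    have h1 := SemidirectProduct.inl_injective h
    funext k
    exact Subtype.ext (congrFun h1 k)
  refine ⟨f.range, ⟨?_⟩, ⟨?_, ?_⟩, ?_⟩
  · rintro _ ⟨d, rfl⟩ g
    show g * SemidirectProduct.inl ((Z.subtype.compLeft κ) d) * g⁻¹ ∈ f.range
    rw [conj_inl]
    refine ⟨fun k => d ((ρ g.right).symm k), ?_⟩
    show SemidirectProduct.inl _ = SemidirectProduct.inl _
    congr 1
    funext k
    rw [Pi.mul_apply, Pi.mul_apply, permAut_apply, Pi.inv_apply]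
    show ((d ((ρ g.right).symm k) : ↥Z) : Q) =
      g.left k * ((d ((ρ g.right).symm k) : ↥Z) : Q) * (g.left k)⁻¹
    rw [← hZc _ (d ((ρ g.right).symm k)).2 (g.left k), mul_inv_cancel_right]
  · rw [isMulCommutative_iff]
    rintro ⟨_, d, rfl⟩ ⟨_, d', rfl⟩
    apply Subtype.ext
    show f d * f d' = f d' * f d
    rw [← map_mul, ← map_mul]
    congr 1
    funext k
    apply Subtype.ext
    show ((d k : ↥Z) : Q) * (d' k : Q) = (d' k : Q) * (d k : Q)
    exact hZc _ (d k).2 _
  · rintro _ ⟨d, rfl⟩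
    rw [← map_pow]
    have : d ^ 2 = 1 := by
      funext k
      apply Subtype.ext
      show ((d k : ↥Z) : Q) ^ 2 = 1
      exact hZ2 _ (d k).2
    rw [this, map_one]
  · rw [← Nat.card_congr (MonoidHom.ofInjective hf).toEquiv, Nat.card_fun, hZcard]

end wreath

end Cfsg.Agent.Lib.Helper6.NRk
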