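import Mathlib
import Cfsg.Prelude.Def_Transfer
import Cfsg.Agent.Lib.Helper6.GLS2
import Cfsg.Agent.Lib.Helper6.NRk1

set_option autoImplicit false
set_option linter.unusedSectionVars false
set_option linter.unusedVariables false
set_option linter.unusedSimpArgs false

/-! Normal subgroups of exponent two of a Sylow 2-subgroup of `GL₂(F)`, `|F| ≡ 3 (mod 4)`. -/

namespace Cfsg.Agent.Lib.Helper6.NRk

open Matrix Cfsg.Agent.Lib.Helper6.SW Cfsg.Agent.Lib.Helper6.GLS

section gl2

variable {F : Type*} [Field F]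

local notation "GL2" => GL (Fin 2) F

theorem isRotG_sc (u : Fˣ) : IsRotG (sc u : GL2) := by
  constructor
  · rw [sc_00, sc_11]
  · rw [sc_01, sc_10, neg_zero]

theorem sc_mul (u v : Fˣ) : (sc (u * v) : GL2) = sc u * sc v := map_mul _ u v

theorem sc_ne_one (h2 : (2 : F) ≠ 0) : (sc (-1 : Fˣ) : GL2) ≠ 1 := by
  intro h
  have h1 : (sc (-1 : Fˣ) : GL2).1 0 0 = (1 : GL2).1 0 0 := by rw [h]
  rw [sc_00] at h1
  have h3 : ((1 : GL2).1 : Matrix (Fin 2) (Fin 2) F) 0 0 = 1 := by simp
  rw [h3, Units.val_neg, Units.val_one] at h1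
  apply h2
  linear_combination -h1

theorem sc_neg_one_mul_self : (sc (-1 : Fˣ) : GL2) * sc (-1 : Fˣ) = 1 := by
  rw [← sc_mul, neg_mul_neg, one_mul, sc_one]

/-- rotation-type involutions -/
theorem rot_sq_one (hns : ¬IsSquare (-1 : F)) (h2 : (2 : F) ≠ 0) (x : GL2) (hx : IsRotG x)
    (hxx : x * x = 1) : x = 1 ∨ x = sc (-1) := by
  obtain ⟨h1, h1'⟩ := hx
  have e00 := gl2_mul_00 x x
  have e10 := gl2_mul_10 x x
  rw [hxx] at e00 e10
  have o00 : ((1 : GL2).1 : Matrix (Fin 2) (Fin 2) F) 0 0 = 1 := by simp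
  have o10 : ((1 : GL2).1 : Matrix (Fin 2) (Fin 2) F) 1 0 = 0 := by simp
  rw [o00] at e00
  rw [o10] at e10
  have hab : x.1 0 0 * x.1 1 0 = 0 := by
    have : (2 : F) * (x.1 0 0 * x.1 1 0) = 0 := by
      rw [e10, ← h1]
      ring
    exact (mul_eq_zero.mp this).resolve_left h2
  rcases mul_eq_zero.mp hab with ha | hb
  · exfalso
    apply hns
    refine ⟨x.1 1 0, ?_⟩
    rw [ha, h1'] at e00
    linear_combination -e00
  · have haa : x.1 0 0 * x.1 0 0 = 1 := by
      rw [h1', hb] at e00
      linear_combination -e00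
    rcases mul_self_eq_one_iff.mp haa with ha | ha
    · left
      apply gl2_ext
      · rw [ha]; simp
      · rw [h1', hb]; simp
      · rw [hb]; simp
      · rw [← h1, ha]; simp
    · right
      apply gl2_ext
      · rw [ha, sc_00]; simp
      · rw [h1', hb, sc_01]; simp
      · rw [hb, sc_10]
      · rw [← h1, ha, sc_11]; simp

/-- a rotation-type element with scalar square has a zero entry -/
theorem rot_entry_zero (h2 : (2 : F) ≠ 0) (x : GL2) (hx : IsRotG x) (u : Fˣ)
    (hxx : x * x = sc u) : x.1 0 0 = 0 ∨ x.1 1 0 = 0 := by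
  obtain ⟨h1, h1'⟩ := hx
  have e10 := gl2_mul_10 x x
  rw [hxx, sc_10] at e10
  have hab : x.1 0 0 * x.1 1 0 = 0 := by
    have : (2 : F) * (x.1 0 0 * x.1 1 0) = 0 := by
      rw [e10, ← h1]
      ring
    exact (mul_eq_zero.mp this).resolve_left h2
  exact mul_eq_zero.mp hab

end gl2

section sylow

variable {F : Type*} [Field F] [Fintype F]

local notation "GL2" => GL (Fin 2) F

/-- the four rotation-type elements with a zero entry in a `2`-group -/
theorem rot_mem_four (hq : 4 ∣ Fintype.card F + 1) (Q : Subgroup GL2) (hQ2 : IsPGroup 2 Q)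
    (x : GL2) (hx : x ∈ Q) (hrot : IsRotG x) (h0 : x.1 0 0 = 0 ∨ x.1 1 0 = 0) :
    x = 1 ∨ x = sc (-1) ∨ x = rquartG F ∨ x = sc (-1) * rquartG F := by
  have hns := not_isSquare_neg_one hq
  obtain ⟨h1, h1'⟩ := hrot
  have hdet : ((Matrix.GeneralLinearGroup.det x : Fˣ) : F) =
      x.1 0 0 * x.1 0 0 + x.1 1 0 * x.1 1 0 := by
    rw [gl2_det, ← h1, h1']
    ring
  have hsq : ∀ t : F, (t * t = 1 ∨ t * t = -1) → t = 1 ∨ t = -1 := by
    intro t ht
    rcases ht with ht | ht
    · exact mul_self_eq_one_iff.mp ht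
    · exact absurd ⟨t, ht.symm⟩ hns
  have hpm : ((Matrix.GeneralLinearGroup.det x : Fˣ) : F) = 1 ∨
      ((Matrix.GeneralLinearGroup.det x : Fˣ) : F) = -1 := by
    rcases det_pm hq Q hQ2 x hx with h | h
    · left; rw [h]; rfl
    · right; rw [h]; simp
  rcases h0 with ha | hb
  · rw [hdet, ha] at hpm
    have hb : x.1 1 0 = 1 ∨ x.1 1 0 = -1 := by
      apply hsq
      rcases hpm with h | h
      · left; linear_combination h
      · right; linear_combination h
    rcases hb with hb | hb
    · right; right; left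
      apply gl2_ext
      · rw [ha]; simp [rquartG_val]
      · rw [h1', hb]; simp [rquartG_val]
      · rw [hb]; simp [rquartG_val]
      · rw [← h1, ha]; simp [rquartG_val]
    · right; right; right
      apply gl2_ext
      · rw [ha, gl2_mul_00, sc_00, sc_01]; simp [rquartG_val]
      · rw [h1', hb, gl2_mul_01, sc_00, sc_01]; simp [rquartG_val]
      · rw [hb, gl2_mul_10, sc_10, sc_11]; simp [rquartG_val]
      · rw [← h1, ha, gl2_mul_11, sc_10, sc_11]; simp [rquartG_val]
  · rw [hdet, hb] at hpm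
    have ha : x.1 0 0 = 1 ∨ x.1 0 0 = -1 := by
      apply hsq
      rcases hpm with h | h
      · left; linear_combination h
      · right; linear_combination h
    rcases ha with ha | ha
    · left
      apply gl2_ext
      · rw [ha]; simp
      · rw [h1', hb]; simp
      · rw [hb]; simp
      · rw [← h1, ha]; simp
    · right; left
      apply gl2_ext
      · rw [ha, sc_00]; simp
      · rw [h1', hb, sc_01]; simp
      · rw [hb, sc_10]
      · rw [← h1, ha, sc_11]; simp

/-- a `2`-subgroup of the torus normaliser with a reflection-type element all of whose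
rotation-type elements have a zero entry is small -/
theorem card_le_eight (hq : 4 ∣ Fintype.card F + 1) (Q : Subgroup GL2) (hQ2 : IsPGroup 2 Q)
    (hQ : Q ≤ torGN F) (s : GL2) (hs : s ∈ Q) (hsref : IsRefG s)
    (h0 : ∀ x ∈ Q, IsRotG x → x.1 0 0 = 0 ∨ x.1 1 0 = 0) : Nat.card Q ≤ 8 := by
  classical
  let A : Finset GL2 := {1, sc (-1), rquartG F, sc (-1) * rquartG F}
  have hA : A.card ≤ 4 := Finset.card_le_four
  have hmemA : ∀ x ∈ Q, IsRotG x → x ∈ A := by
    intro x hx hrot
    have := rot_mem_four hq Q hQ2 x hx hrot (h0 x hx hrot)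
    simp only [A, Finset.mem_insert, Finset.mem_singleton]
    exact this
  let B : Finset GL2 := A ∪ A.image (fun y => y * s⁻¹)
  have hB : B.card ≤ 8 := by
    calc B.card ≤ A.card + (A.image (fun y => y * s⁻¹)).card := Finset.card_union_le _ _
      _ ≤ A.card + A.card := Nat.add_le_add_left Finset.card_image_le _
      _ ≤ 8 := by omega
  have hsub : (Q : Set GL2) ⊆ (B : Set GL2) := by
    intro g hg
    have hg' : g ∈ Q := hg
    show g ∈ (B : Set GL2)
    rw [Finset.mem_coe, Finset.mem_union, Finset.mem_image]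
    rcases hQ hg' with hrot | href
    · left
      exact hmemA g hg' hrot
    · right
      refine ⟨g * s, hmemA _ (Q.mul_mem hg' hs) (href.mul hsref), ?_⟩
      rw [mul_inv_cancel_right]
  calc Nat.card Q = (Q : Set GL2).ncard := (Nat.card_coe_set_eq (Q : Set GL2))
    _ ≤ (B : Set GL2).ncard := Set.ncard_le_ncard hsub (Finset.finite_toSet B)
    _ = B.card := Set.ncard_coe_finset B
    _ ≤ 8 := hB

theorem eight_dvd_sq_sub_one (q : ℕ) (h : q % 4 = 3) : 8 ∣ q ^ 2 - 1 := by
  obtain ⟨k, hk⟩ : ∃ k, q = 4 * k + 3 := ⟨q / 4, by omega⟩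
  subst hk
  refine ⟨2 * k ^ 2 + 3 * k + 1, ?_⟩
  have : (4 * k + 3) ^ 2 = 8 * (2 * k ^ 2 + 3 * k + 1) + 1 := by ring
  rw [this]
  omega

theorem sixteen_le_card (hq : 4 ∣ Fintype.card F + 1) (Q : Sylow 2 GL2) :
    16 ≤ Nat.card (Q : Subgroup GL2) := by
  have hq1 : 1 < Fintype.card F := Fintype.one_lt_card
  rw [Q.card_eq_multiplicity, fact_GL2 hq]
  have h8 := eight_dvd_sq_sub_one _ (mod_four_of_dvd _ hq)
  have hne : Fintype.card F ^ 2 - 1 ≠ 0 := pow_sub_one_ne_zero _ 2 hq1 (by omega)
  have h3 : 3 ≤ padicValNat 2 (Fintype.card F ^ 2 - 1) := by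
    rw [← padicValNat_dvd_iff_le hne]
    exact h8
  calc 16 = 2 ^ 4 := by norm_num
    _ ≤ 2 ^ (padicValNat 2 (Fintype.card F ^ 2 - 1) + 1) :=
      Nat.pow_le_pow_right (by norm_num) (by omega)

end sylow

section main

variable {F : Type*} [Field F] [Fintype F]

local notation "GL2" => GL (Fin 2) F

/-- normal subgroups of exponent two of a good Sylow 2-subgroup of `GL₂(F)` have order at most
two -/
theorem NBound_gl2 (hq : 4 ∣ Fintype.card F + 1) (h2 : (2 : F) ≠ 0) (Q : Sylow 2 GL2)
    (hQ : (Q : Subgroup GL2) ≤ torGN F) : NBound ↥(Q : Subgroup GL2) 1 := by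
  classical
  have hns := not_isSquare_neg_one hq
  intro N hN hexp
  have hrot : ∀ x ∈ N, IsRotG (x : GL2) := by
    intro s hs
    by_contra hnot
    have hsref : IsRefG (s : GL2) := (hQ s.2).resolve_left hnot
    have h0 : ∀ x ∈ (Q : Subgroup GL2), IsRotG x → x.1 0 0 = 0 ∨ x.1 1 0 = 0 := by
      intro x hx hxrot
      let x' : ↥(Q : Subgroup GL2) := ⟨x, hx⟩
      have hc : s * (x' * s⁻¹ * x'⁻¹) ∈ N := N.mul_mem hs (hN.conj_mem s⁻¹ (N.inv_mem hs) x')
      have hc2 := hexp _ hc
      set c : GL2 := (s : GL2) * (x * (s : GL2)⁻¹ * x⁻¹) with hcdef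
      have hcc : c * c = 1 := by
        have := congrArg Subtype.val hc2
        rw [pow_two] at this
        exact this
      have hceq : c = sc (Matrix.GeneralLinearGroup.det x) * x⁻¹ * x⁻¹ := by
        rw [← hsref.conj_rot hxrot, hcdef]
        group
      have hcrot : IsRotG c := by
        rw [hceq]
        exact ((isRotG_sc _).mul hxrot.inv).mul hxrot.inv
      have hxx : x * x = c⁻¹ * sc (Matrix.GeneralLinearGroup.det x) := by
        rw [hceq]
        simp only [_root_.mul_inv_rev, inv_inv, mul_assoc, inv_mul_cancel, mul_one]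
      rcases rot_sq_one hns h2 c hcrot hcc with h | h
      · rw [h, inv_one, one_mul] at hxx
        exact rot_entry_zero h2 x hxrot _ hxx
      · have h5 : c⁻¹ = sc (-1 : Fˣ) := by
          rw [h, inv_eq_iff_mul_eq_one]
          exact sc_neg_one_mul_self
        rw [h5, ← sc_mul] at hxx
        exact rot_entry_zero h2 x hxrot _ hxx
    have h8 := card_le_eight hq (Q : Subgroup GL2) Q.isPGroup' hQ s s.2 hsref h0
    have h16 := sixteen_le_card hq Q
    omega
  have hval : ∀ x ∈ N, (x : GL2) = 1 ∨ (x : GL2) = sc (-1) := by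
    intro x hx
    apply rot_sq_one hns h2 _ (hrot x hx)
    have := congrArg Subtype.val (hexp x hx)
    rw [pow_two] at this
    exact this
  let Φ : ↥N → Bool := fun x => decide ((x.1 : GL2) = 1)
  have hΦ : Function.Injective Φ := by
    intro x y hxy
    apply Subtype.ext
    apply Subtype.ext
    simp only [Φ, decide_eq_decide] at hxy
    rcases hval x.1 x.2 with hx | hx
    · rw [hx, ← hxy.mp hx]
    · rcases hval y.1 y.2 with hy | hy
      · rw [hy, hxy.mpr hy]
      · rw [hx, hy]
  calc Nat.card ↥N ≤ Nat.card Bool := Nat.card_le_card_of_injective Φ hΦ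
    _ = 2 ^ 1 := by simp

/-- an element of order greater than two -/
theorem rquartG_sq_ne_one (h2 : (2 : F) ≠ 0) : (rquartG F) ^ 2 ≠ 1 := by
  rw [pow_two, rquartG_sq]
  exact sc_ne_one h2

end main

end Cfsg.Agent.Lib.Helper6.NRk
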