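import Mathlib
import Cfsg.Prelude.Def_Transfer
import Cfsg.Agent.Lib.Helper6.BW1
import Cfsg.Agent.Lib.Helper6.BW5
import Cfsg.Agent.Lib.Helper6.KSec2
import Cfsg.Agent.Lib.Helper6.NRk2
import Cfsg.Agent.Lib.Helper6.NRk3
import Cfsg.Agent.Lib.Helper4.ElemAb2

set_option autoImplicit false
set_option linter.unusedSectionVars false
set_option linter.unusedVariables false
set_option linter.unusedSimpArgs false

/-! The normal 2-rank of the Sylow 2-subgroups of `GL_n(F)`, `F` finite of odd order. -/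

namespace Cfsg.Agent.Lib.Helper6.NRk

open Matrix Cfsg.Agent.Lib.Helper6.SW Cfsg.Agent.Lib.Helper6.GLS Cfsg.Agent.Lib.Helper6.BW
  Cfsg.Agent.Lib.Helper6.KSec
open Nat

section sum

variable (α : Type*) [Fintype α] [DecidableEq α] (F : Type*) [Field F]

/-- the matrix `diag(g, u)` -/
noncomputable def sumMat : GL α F × Fˣ →* Matrix (α ⊕ Unit) (α ⊕ Unit) F where
  toFun p := fromBlocks p.1.1 0 0 (diagonal fun _ => (p.2 : F))
  map_one' := by
    show fromBlocks (1 : Matrix α α F) 0 0 (diagonal fun _ => ((1 : Fˣ) : F)) = 1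
    rw [Units.val_one, ← fromBlocks_one]
    congr 1
  map_mul' p p' := by
    show fromBlocks (p.1.1 * p'.1.1) 0 0 (diagonal fun _ => ((p.2 * p'.2 : Fˣ) : F)) =
      fromBlocks p.1.1 0 0 (diagonal fun _ => (p.2 : F)) *
        fromBlocks p'.1.1 0 0 (diagonal fun _ => (p'.2 : F))
    rw [fromBlocks_multiply]
    simp only [Matrix.mul_zero, Matrix.zero_mul, add_zero, zero_add, diagonal_mul_diagonal,
      Units.val_mul]

/-- the embedding `GL_α(F) × Fˣ → GL_{α ⊕ 1}(F)` -/
noncomputable def glSum : GL α F × Fˣ →* GL (α ⊕ Unit) F := (sumMat α F).toHomUnits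

theorem glSum_injective : Function.Injective (glSum α F) := by
  intro p p' h
  have h1 : sumMat α F p = sumMat α F p' := congrArg Units.val h
  have h2 : fromBlocks p.1.1 0 0 (diagonal fun _ : Unit => (p.2 : F)) =
      fromBlocks p'.1.1 0 0 (diagonal fun _ : Unit => (p'.2 : F)) := h1
  rw [fromBlocks_inj] at h2
  obtain ⟨h3, -, -, h4⟩ := h2
  apply Prod.ext
  · exact Units.ext h3
  · apply Units.ext
    have := congrFun (congrFun h4 ()) ()
    simpa using this

end sum

section central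

variable {H : Type*} [Group H]

/-- a central involution of `H` inside `Q` gives a central subgroup of order two of `Q` -/
theorem exists_central_two (Q : Subgroup H) (z : H) (hz : z ∈ Q) (hzc : ∀ h : H, z * h = h * z)
    (hz2 : z ^ 2 = 1) (hz1 : z ≠ 1) :
    ∃ Z : Subgroup ↥Q, (∀ w ∈ Z, ∀ r : ↥Q, w * r = r * w) ∧ (∀ w ∈ Z, w ^ 2 = 1) ∧
      Nat.card Z = 2 := by
  let z' : ↥Q := ⟨z, hz⟩
  have hz'2 : z' ^ 2 = 1 := Subtype.ext hz2
  have hz'1 : z' ≠ 1 := fun h => hz1 (congrArg Subtype.val h)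
  refine ⟨Subgroup.zpowers z', ?_, ?_, ?_⟩
  · rintro _ ⟨k, rfl⟩ r
    have hc : Commute z' r := Subtype.ext (hzc r.1)
    exact (hc.zpow_left k).eq
  · rintro _ ⟨k, rfl⟩
    show (z' ^ k) ^ 2 = 1
    rw [← zpow_natCast, ← _root_.zpow_mul, mul_comm, _root_.zpow_mul, zpow_natCast, hz'2, _root_.one_zpow]
  · rw [Nat.card_zpowers]
    haveI : Fact (Nat.Prime 2) := ⟨Nat.prime_two⟩
    exact orderOf_eq_prime hz'2 hz'1

end central

section upper

variable {F : Type*} [Field F]

/-- elementary abelian `2`-subgroups of `GL_n(F)` have order at most `2 ^ n` -/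
theorem card_le_of_elementary_gl (h2 : (2 : F) ≠ 0) (n : ℕ) (S : Subgroup (GL (Fin n) F))
    (E : Subgroup ↥S) [Finite ↥E] (hE : Cfsg.IsElementaryAbelian 2 E) : Nat.card ↥E ≤ 2 ^ n := by
  obtain ⟨hc, hexp⟩ := hE
  let f : ↥E → Module.End F (Fin n → F) := fun a => Matrix.toLin' (a.1.1.1 : Matrix _ _ F)
  have hmul : ∀ a b : ↥E, f (a * b) = f a * f b := by
    intro a b
    show Matrix.toLin' ((a.1.1 * b.1.1 : GL (Fin n) F).1) = _
    rw [Units.val_mul, Matrix.toLin'_mul]
    rfl
  have hone : f 1 = 1 := by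
    show Matrix.toLin' ((1 : GL (Fin n) F).1) = 1
    rw [Units.val_one, Matrix.toLin'_one]
    rfl
  have h1 := Cfsg.Agent.Lib.Helper4.ElemAb2.card_le (F := F) (V := Fin n → F) f h2 ?_ ?_ ?_
  · rwa [Module.finrank_fin_fun] at h1
  · intro a
    rw [← hmul, ← pow_two]
    have : a ^ 2 = 1 := Subtype.ext (hexp a.1 a.2)
    rw [this, hone]
  · intro a b
    show f a * f b = f b * f a
    rw [← hmul, ← hmul, (isMulCommutative_iff.mp hc) a b]
  · intro a b hab
    apply Subtype.ext
    apply Subtype.ext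
    apply Units.ext
    exact Matrix.toLin'.injective hab

end upper

end Cfsg.Agent.Lib.Helper6.NRk
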