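import Mathlib
import Cfsg.Prelude.Def_Transfer
import Cfsg.Agent.Lib.Helper6.NRk4

set_option autoImplicit false
set_option linter.unusedSectionVars false
set_option linter.unusedVariables false
set_option linter.unusedSimpArgs false

/-! The normal 2-rank of the Sylow 2-subgroups of `GL_n(F)`: the three cases. -/

namespace Cfsg.Agent.Lib.Helper6.NRk

open Matrix Cfsg.Agent.Lib.Helper6.SW Cfsg.Agent.Lib.Helper6.GLS Cfsg.Agent.Lib.Helper6.BW
  Cfsg.Agent.Lib.Helper6.KSec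
open Nat

section scalar

variable {ι : Type*} [Fintype ι] [DecidableEq ι] {F : Type*} [Field F]

/-- the scalar matrix `-1` -/
noncomputable def negOne (ι : Type*) [Fintype ι] [DecidableEq ι] (F : Type*) [Field F] :
    GL ι F := Matrix.GeneralLinearGroup.scalar ι (-1 : Fˣ)

theorem negOne_comm (A : GL ι F) : negOne ι F * A = A * negOne ι F :=
  Matrix.GeneralLinearGroup.scalar_commute (-1 : Fˣ) A

theorem negOne_sq : (negOne ι F) ^ 2 = 1 := by
  unfold negOne
  rw [← map_pow, neg_one_sq, map_one]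

theorem negOne_ne_one [Nonempty ι] (h2 : (2 : F) ≠ 0) : negOne ι F ≠ 1 := by
  intro h
  obtain ⟨i⟩ := ‹Nonempty ι›
  have h1 : (negOne ι F).1 i i = (1 : GL ι F).1 i i := by rw [h]
  simp [negOne, Matrix.GeneralLinearGroup.coe_scalar] at h1
  apply h2
  linear_combination -h1

theorem isPGroup_zpowers_negOne : IsPGroup 2 (Subgroup.zpowers (negOne ι F)) := by
  rintro ⟨_, k, rfl⟩
  refine ⟨1, ?_⟩
  apply Subtype.ext
  show ((negOne ι F) ^ k) ^ (2 ^ 1) = 1
  rw [pow_one, ← zpow_natCast, ← _root_.zpow_mul, mul_comm, _root_.zpow_mul, zpow_natCast,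
    negOne_sq, _root_.one_zpow]

end scalar

section wr

variable {H : Type*} [Group H] {κ : Type*}

theorem card_WrX [Finite κ] [Finite H] (Q : Subgroup H) (T : Subgroup (Equiv.Perm κ)) :
    Nat.card (WrX Q T) = Nat.card Q ^ Nat.card κ * Nat.card T := by
  rw [SemidirectProduct.card, Nat.card_fun]

theorem card_WrX_sylow [Finite H] (m : ℕ) (Q : Sylow 2 H) (T : Sylow 2 (Equiv.Perm (Fin m))) :
    Nat.card (WrX (Q : Subgroup H) (T : Subgroup (Equiv.Perm (Fin m)))) =
      2 ^ (m * (Nat.card H).factorization 2 + (m !).factorization 2) := by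
  rw [card_WrX, Q.card_eq_multiplicity, T.card_eq_multiplicity,
    Nat.card_eq_fintype_card (α := Fin m), Fintype.card_fin,
    Nat.card_eq_fintype_card (α := Equiv.Perm (Fin m)), Fintype.card_perm, Fintype.card_fin,
    ← pow_mul, ← pow_add, mul_comm]

end wr

variable {F : Type*} [Field F] [Fintype F]

/-- `q ≡ 1 (mod 4)`: the lower bound -/
theorem hasNE_one (hq : 4 ∣ Fintype.card F - 1) (h2 : (2 : F) ≠ 0) (n : ℕ)
    (S : Sylow 2 (GL (Fin n) F)) : HasNE ↥(S : Subgroup (GL (Fin n) F)) n := by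
  classical
  obtain ⟨Q, hQ⟩ := IsPGroup.exists_le_sylow (isPGroup_zpowers_negOne (ι := Fin 1) (F := F))
  obtain ⟨T⟩ : Nonempty (Sylow 2 (Equiv.Perm (Fin n))) := inferInstance
  have hz : negOne (Fin 1) F ∈ (Q : Subgroup (GL (Fin 1) F)) :=
    hQ (Subgroup.mem_zpowers _)
  let e : Fin 1 × Fin n ≃ Fin n := Fintype.equivOfCardEq (by simp)
  let W : WrData (GL (Fin n) F) (GL (Fin 1) F) (Fin n) :=
    compData (blockData (Fin 1) (Fin n) F) (glReindex F e).toMonoidHom (glReindex F e).injective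
  have hcard : Nat.card (WrX (Q : Subgroup (GL (Fin 1) F)) (T : Subgroup (Equiv.Perm (Fin n)))) =
      2 ^ (Nat.card (GL (Fin n) F)).factorization 2 := by
    rw [card_WrX_sylow, fact_GL_one hq n, fact_GL_one hq 1]
    congr 1
    rw [Nat.factorization_def _ Nat.prime_two]
    simp
  obtain ⟨ee⟩ := exists_mulEquiv_sylow 2 (W.lam _ _) (W.lam_injective _ _) hcard S
  obtain ⟨Z, hZc, hZ2, hZcard⟩ := exists_central_two (Q : Subgroup (GL (Fin 1) F))
    (negOne (Fin 1) F) hz negOne_comm negOne_sq (negOne_ne_one h2)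
  have h := HasNE_wreath (κ := Fin n) (T : Subgroup (Equiv.Perm (Fin n))).subtype Z hZc hZ2 hZcard
  rw [Nat.card_eq_fintype_card, Fintype.card_fin] at h
  exact h.of_mulEquiv ee

/-- `q ≡ 3 (mod 4)`, even degree -/
theorem even_three (hq : 4 ∣ Fintype.card F + 1) (h2 : (2 : F) ≠ 0) (m : ℕ)
    (S : Sylow 2 (GL (Fin (2 * m)) F)) :
    HasNE ↥(S : Subgroup (GL (Fin (2 * m)) F)) m ∧
      NBound ↥(S : Subgroup (GL (Fin (2 * m)) F)) m := by
  classical
  obtain ⟨Q, hQle, hr, -⟩ := exists_good_sylow_gl2 hq h2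
  obtain ⟨T⟩ : Nonempty (Sylow 2 (Equiv.Perm (Fin m))) := inferInstance
  have hz : negOne (Fin 2) F ∈ (Q : Subgroup (GL (Fin 2) F)) := by
    have h1 : negOne (Fin 2) F = rquartG F * rquartG F := rquartG_sq.symm
    rw [h1]
    exact Subgroup.mul_mem _ hr hr
  let e : Fin 2 × Fin m ≃ Fin (2 * m) := Fintype.equivOfCardEq (by simp)
  let W : WrData (GL (Fin (2 * m)) F) (GL (Fin 2) F) (Fin m) :=
    compData (blockData (Fin 2) (Fin m) F) (glReindex F e).toMonoidHom (glReindex F e).injective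
  have hcard : Nat.card (WrX (Q : Subgroup (GL (Fin 2) F)) (T : Subgroup (Equiv.Perm (Fin m)))) =
      2 ^ (Nat.card (GL (Fin (2 * m)) F)).factorization 2 := by
    rw [card_WrX_sylow, fact_GL_even hq m]
  obtain ⟨ee⟩ := exists_mulEquiv_sylow 2 (W.lam _ _) (W.lam_injective _ _) hcard S
  obtain ⟨Z, hZc, hZ2, hZcard⟩ := exists_central_two (Q : Subgroup (GL (Fin 2) F))
    (negOne (Fin 2) F) hz negOne_comm negOne_sq (negOne_ne_one h2)
  have h := HasNE_wreath (κ := Fin m) (T : Subgroup (Equiv.Perm (Fin m))).subtype Z hZc hZ2 hZcard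
  rw [Nat.card_eq_fintype_card, Fintype.card_fin] at h
  have hb := NBound_wreath (κ := Fin m) (T : Subgroup (Equiv.Perm (Fin m))).subtype
    (Subgroup.subtype_injective _) (⟨rquartG F, hr⟩ : ↥(Q : Subgroup (GL (Fin 2) F)))
    (fun hc => rquartG_sq_ne_one h2 (congrArg Subtype.val hc)) (NBound_gl2 hq h2 Q hQle)
  rw [Nat.card_eq_fintype_card, Fintype.card_fin, one_mul] at hb
  exact ⟨h.of_mulEquiv ee, hb.of_mulEquiv ee⟩

theorem fact_GL_odd_succ (hq : 4 ∣ Fintype.card F + 1) (m : ℕ) :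
    (Nat.card (GL (Fin (2 * m + 1)) F)).factorization 2 =
      (Nat.card (GL (Fin (2 * m)) F)).factorization 2 + 1 := by
  rw [fact_GL hq, fact_GL hq, Finset.sum_range_succ,
    v2_pow_odd_sub_one _ (mod_four_of_dvd _ hq) m]

theorem card_zpowers_neg_one (h2 : (2 : F) ≠ 0) :
    Nat.card (Subgroup.zpowers (-1 : Fˣ)) = 2 := by
  rw [Nat.card_zpowers]
  haveI : Fact (Nat.Prime 2) := ⟨Nat.prime_two⟩
  apply orderOf_eq_prime
  · rw [neg_one_sq]
  · intro h
    have h1 : ((-1 : Fˣ) : F) = ((1 : Fˣ) : F) := by rw [h]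
    rw [Units.val_neg, Units.val_one] at h1
    apply h2
    linear_combination -h1

instance finite_WrX {H : Type*} [Group H] [Finite H] {κ : Type*} [Finite κ] (Q : Subgroup H)
    (T : Subgroup (Equiv.Perm κ)) : Finite (WrX Q T) :=
  Finite.of_equiv _ SemidirectProduct.equivProd.symm

/-- `q ≡ 3 (mod 4)`, odd degree -/
theorem odd_three (hq : 4 ∣ Fintype.card F + 1) (h2 : (2 : F) ≠ 0) (m : ℕ)
    (S : Sylow 2 (GL (Fin (2 * m + 1)) F)) :
    HasNE ↥(S : Subgroup (GL (Fin (2 * m + 1)) F)) (m + 1) ∧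
      NBound ↥(S : Subgroup (GL (Fin (2 * m + 1)) F)) (m + 1) := by
  classical
  obtain ⟨Q, hQle, hr, -⟩ := exists_good_sylow_gl2 hq h2
  obtain ⟨T⟩ : Nonempty (Sylow 2 (Equiv.Perm (Fin m))) := inferInstance
  have hz : negOne (Fin 2) F ∈ (Q : Subgroup (GL (Fin 2) F)) := by
    have h1 : negOne (Fin 2) F = rquartG F * rquartG F := rquartG_sq.symm
    rw [h1]
    exact Subgroup.mul_mem _ hr hr
  let C : Subgroup Fˣ := Subgroup.zpowers (-1 : Fˣ)
  have hC : Nat.card C = 2 := card_zpowers_neg_one h2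
  let e : (Fin 2 × Fin m) ⊕ Unit ≃ Fin (2 * m + 1) := Fintype.equivOfCardEq (by simp)
  let W : WrData (GL (Fin 2 × Fin m) F) (GL (Fin 2) F) (Fin m) := blockData (Fin 2) (Fin m) F
  let lam : WrX (Q : Subgroup (GL (Fin 2) F)) (T : Subgroup (Equiv.Perm (Fin m))) × ↥C →*
      GL (Fin (2 * m + 1)) F :=
    (glReindex F e).toMonoidHom.comp ((glSum (Fin 2 × Fin m) F).comp
      (MonoidHom.prodMap (W.lam _ _) C.subtype))
  have hlam : Function.Injective lam := by
    refine (glReindex F e).injective.comp ((glSum_injective (Fin 2 × Fin m) F).comp ?_)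
    rw [MonoidHom.coe_prodMap]
    exact (W.lam_injective _ _).prodMap C.subtype_injective
  have hcard : Nat.card (WrX (Q : Subgroup (GL (Fin 2) F))
      (T : Subgroup (Equiv.Perm (Fin m))) × ↥C) =
      2 ^ (Nat.card (GL (Fin (2 * m + 1)) F)).factorization 2 := by
    rw [Nat.card_prod, hC, card_WrX_sylow, fact_GL_odd_succ hq m, fact_GL_even hq m, pow_succ]
  obtain ⟨ee⟩ := exists_mulEquiv_sylow 2 lam hlam hcard S
  obtain ⟨Z, hZc, hZ2, hZcard⟩ := exists_central_two (Q : Subgroup (GL (Fin 2) F))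
    (negOne (Fin 2) F) hz negOne_comm negOne_sq (negOne_ne_one h2)
  have h := HasNE_wreath (κ := Fin m) (T : Subgroup (Equiv.Perm (Fin m))).subtype Z hZc hZ2 hZcard
  rw [Nat.card_eq_fintype_card, Fintype.card_fin] at h
  have hb := NBound_wreath (κ := Fin m) (T : Subgroup (Equiv.Perm (Fin m))).subtype
    (Subgroup.subtype_injective _) (⟨rquartG F, hr⟩ : ↥(Q : Subgroup (GL (Fin 2) F)))
    (fun hc => rquartG_sq_ne_one h2 (congrArg Subtype.val hc)) (NBound_gl2 hq h2 Q hQle)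
  rw [Nat.card_eq_fintype_card, Fintype.card_fin, one_mul] at hb
  have hC2 : ∀ b : ↥C, b ^ 2 = 1 := by
    rintro ⟨_, k, rfl⟩
    apply Subtype.ext
    show ((-1 : Fˣ) ^ k) ^ 2 = 1
    rw [← zpow_natCast, ← _root_.zpow_mul, mul_comm, _root_.zpow_mul, zpow_natCast, neg_one_sq,
      _root_.one_zpow]
  have h' := HasNE_prod (B := ↥C) h (fun a b => mul_comm a b) hC2 hC.ge
  have hb' := NBound_prod (B := ↥C) (s := 1) hb (by rw [hC, pow_one])
  exact ⟨h'.of_mulEquiv ee, hb'.of_mulEquiv ee⟩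

end Cfsg.Agent.Lib.Helper6.NRk
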