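import Mathlib

/-!
# Farm NW (S4414): shared definitions

Weight spaces of an abelian normal subgroup `A` of `S` on an `F`-representation `σ` of `S`,
the action of `S` on the characters of `A`, fixed-point submodules, and the base change of an
`𝔽₂`-representation to a field `F ⊇ 𝔽₂`.
-/

set_option autoImplicit false

namespace Cfsg.Agent.Lib.Helper6.NW

open scoped TensorProduct

section generic

variable {S : Type*} [Group S] {F : Type*} [Field F] {V : Type*} [AddCommGroup V] [Module F V]

/-- The weight space of the character `l` of the subgroup `A`. -/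
def wt (σ : Representation F S V) (A : Subgroup S) (l : ↥A →* Fˣ) : Submodule F V where
  carrier := {u | ∀ a : ↥A, σ (a : S) u = ((l a : Fˣ) : F) • u}
  add_mem' := by
    intro u v hu hv a
    simp only [Set.mem_ofPred_eq] at hu hv
    rw [map_add, hu a, hv a, smul_add]
  zero_mem' := by
    intro a
    simp
  smul_mem' := by
    intro c u hu a
    simp only [Set.mem_ofPred_eq] at hu
    rw [map_smul, hu a, smul_comm]

theorem mem_wt {σ : Representation F S V} {A : Subgroup S} {l : ↥A →* Fˣ} {u : V} :
    u ∈ wt σ A l ↔ ∀ a : ↥A, σ (a : S) u = ((l a : Fˣ) : F) • u := Iff.rfl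

/-- The submodule of vectors fixed by every element of the subgroup `X`. -/
def fixedSub (σ : Representation F S V) (X : Subgroup S) : Submodule F V where
  carrier := {u | ∀ s ∈ X, σ s u = u}
  add_mem' := by
    intro u v hu hv s hs
    simp only [Set.mem_ofPred_eq] at hu hv
    rw [map_add, hu s hs, hv s hs]
  zero_mem' := by
    intro s _
    simp
  smul_mem' := by
    intro c u hu s hs
    simp only [Set.mem_ofPred_eq] at hu
    rw [map_smul, hu s hs]

theorem mem_fixedSub {σ : Representation F S V} {X : Subgroup S} {u : V} :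
    u ∈ fixedSub σ X ↔ ∀ s ∈ X, σ s u = u := Iff.rfl

/-- The action of `g : S` on a character `l` of the normal subgroup `A`:
`(g • l) a = l (g⁻¹ a g)`. -/
def chAct (A : Subgroup S) [A.Normal] (g : S) (l : ↥A →* Fˣ) : ↥A →* Fˣ :=
  l.comp ((MulAut.conjNormal g⁻¹ : MulAut ↥A) : ↥A ≃* ↥A).toMonoidHom

theorem chAct_apply (A : Subgroup S) [A.Normal] (g : S) (l : ↥A →* Fˣ) (a : ↥A) :
    chAct A g l a = l ((MulAut.conjNormal g⁻¹ : MulAut ↥A) a) := rfl

theorem coe_conjNormal_inv (A : Subgroup S) [A.Normal] (g : S) (a : ↥A) :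
    (((MulAut.conjNormal g⁻¹ : MulAut ↥A) a : ↥A) : S) = g⁻¹ * (a : S) * g := by
  rw [MulAut.conjNormal_apply, inv_inv]

/-- `chAct` is a group action of `S` on the characters of `A`. -/
@[reducible] def chMulAction (A : Subgroup S) [A.Normal] : MulAction S (↥A →* Fˣ) where
  smul := chAct A
  one_smul := by
    intro l
    show chAct A 1 l = l
    ext a
    rw [chAct_apply]
    simp
  mul_smul := by
    intro g h l
    show chAct A (g * h) l = chAct A g (chAct A h l)
    ext a
    rw [chAct_apply, chAct_apply, chAct_apply, mul_inv_rev, map_mul, MulAut.mul_apply]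

theorem chMulAction_smul (A : Subgroup S) [A.Normal] (g : S) (l : ↥A →* Fˣ) :
    (chMulAction (F := F) A).smul g l = chAct A g l := rfl

/-- The (unnormalised) projection onto the weight space of `l`:
`proj l = ∑ a, l(a)⁻¹ • σ a`.  On `wt m` it is `card A • id` if `l = m` and `0` otherwise. -/
noncomputable def proj (σ : Representation F S V) (A : Subgroup S) [Fintype ↥A] (l : ↥A →* Fˣ) :
    V →ₗ[F] V :=
  ∑ a : ↥A, (((l a)⁻¹ : Fˣ) : F) • σ (a : S)

theorem proj_apply (σ : Representation F S V) (A : Subgroup S) [Fintype ↥A] (l : ↥A →* Fˣ)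
    (u : V) : proj σ A l u = ∑ a : ↥A, (((l a)⁻¹ : Fˣ) : F) • σ (a : S) u := by
  unfold proj
  simp [LinearMap.sum_apply]

end generic

section basechange

variable {S : Type*} [Group S] {E : Type*} [AddCommGroup E] [Module (ZMod 2) E]

/-- Base change of an `𝔽₂`-representation to a field `F` of characteristic 2. -/
noncomputable def bc (F : Type*) [Field F] [Algebra (ZMod 2) F] (ρ : Representation (ZMod 2) S E) :
    Representation F S (F ⊗[ZMod 2] E) :=
  ((Module.End.baseChangeHom (ZMod 2) F E : Module.End (ZMod 2) E →ₐ[ZMod 2]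
      Module.End F (F ⊗[ZMod 2] E)) : Module.End (ZMod 2) E →* Module.End F (F ⊗[ZMod 2] E)).comp ρ

theorem bc_tmul (F : Type*) [Field F] [Algebra (ZMod 2) F] (ρ : Representation (ZMod 2) S E)
    (g : S) (c : F) (v : E) : bc F ρ g (c ⊗ₜ[ZMod 2] v) = c ⊗ₜ[ZMod 2] (ρ g v) := by
  rfl

end basechange

end Cfsg.Agent.Lib.Helper6.NW
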