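import Mathlib
import Cfsg.Agent.Lib.Helper6.NWDefs

/-!
# Farm NW (S4414): units U1 – U4 (weight spaces and projections)
-/

set_option autoImplicit false

namespace Cfsg.Agent.Lib.Helper6.NW

variable {S : Type*} [Group S] {F : Type*} [Field F] {V : Type*} [AddCommGroup V] [Module F V]

/-- U1: `σ g` maps the weight space of `l` into the weight space of `g • l`. -/
theorem U1 (σ : Representation F S V) (A : Subgroup S) [A.Normal] (g : S) (l : ↥A →* Fˣ)
    (u : V) (hu : u ∈ wt σ A l) : σ g u ∈ wt σ A (chAct A g l) := by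
  rw [mem_wt] at hu ⊢
  intro a
  have h1 : (a : S) * g = g * (((MulAut.conjNormal g⁻¹ : MulAut ↥A) a : ↥A) : S) := by
    rw [coe_conjNormal_inv]; group
  have h2 : σ (a : S) (σ g u) = σ g (σ (((MulAut.conjNormal g⁻¹ : MulAut ↥A) a : ↥A) : S) u) := by
    rw [← Module.End.mul_apply, ← map_mul, h1, map_mul, Module.End.mul_apply]
  rw [h2, hu, map_smul, chAct_apply]

/-- U2: the image of `proj l` lies in the weight space of `l`. -/
theorem U2 (σ : Representation F S V) (A : Subgroup S) [Fintype ↥A] (l : ↥A →* Fˣ) (u : V) :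
    proj σ A l u ∈ wt σ A l := by
  rw [mem_wt]
  intro b
  rw [proj_apply, map_sum, Finset.smul_sum]
  -- reindex a ↦ b⁻¹ * a on the right-hand side
  rw [← Equiv.sum_comp (Equiv.mulLeft b) (fun a : ↥A => ((l b : Fˣ) : F) • ((((l a)⁻¹ : Fˣ) : F) • σ (a : S) u))]
  refine Finset.sum_congr rfl ?_
  intro a _
  simp only [Equiv.coe_mulLeft, map_mul, mul_inv_rev, Units.val_mul, Subgroup.coe_mul, map_smul]
  rw [Module.End.mul_apply, smul_smul]
  congr 1
  rw [mul_comm ((((l a)⁻¹ : Fˣ) : F)), ← mul_assoc, ← Units.val_mul, mul_inv_cancel, Units.val_one,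
    one_mul]

/-- U3: `proj l` on the weight space of `m`. -/
theorem U3 (σ : Representation F S V) (A : Subgroup S) [Fintype ↥A] [DecidableEq (↥A →* Fˣ)]
    (l m : ↥A →* Fˣ) (u : V) (hu : u ∈ wt σ A m) :
    proj σ A l u = if l = m then ((Fintype.card ↥A : ℕ) : F) • u else 0 := by
  rw [mem_wt] at hu
  rw [proj_apply]
  have h1 : ∀ a : ↥A, (((l a)⁻¹ : Fˣ) : F) • σ (a : S) u = (((l⁻¹ * m) a : Fˣ) : F) • u := by
    intro a
    rw [hu a, smul_smul]
    simp
  rw [Finset.sum_congr rfl (fun a _ => h1 a), ← Finset.sum_smul]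
  split_ifs with h
  · subst h
    congr 1
    simp
  · have hne : ((Units.coeHom F).comp (l⁻¹ * m) : ↥A →* F) ≠ 1 := by
      intro h1
      apply h
      have : l⁻¹ * m = 1 := by
        ext a
        have := DFunLike.congr_fun h1 a
        simpa using this
      exact inv_mul_eq_one.mp this
    have := sum_hom_units_eq_zero ((Units.coeHom F).comp (l⁻¹ * m) : ↥A →* F) hne
    simp only [MonoidHom.coe_comp, Units.coeHom_apply, Function.comp_apply] at this
    rw [this, zero_smul]

/-- U4: equivariance of the projections. -/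
theorem U4 (σ : Representation F S V) (A : Subgroup S) [A.Normal] [Fintype ↥A] (g : S)
    (l : ↥A →* Fˣ) (u : V) : proj σ A (chAct A g l) (σ g u) = σ g (proj σ A l u) := by
  rw [proj_apply, proj_apply, map_sum]
  rw [← Equiv.sum_comp ((MulAut.conjNormal g⁻¹ : MulAut ↥A) : ↥A ≃* ↥A).toEquiv
    (fun a : ↥A => σ g ((((l a)⁻¹ : Fˣ) : F) • σ (a : S) u))]
  refine Finset.sum_congr rfl ?_
  intro a _
  simp only [MulEquiv.toEquiv_eq_coe, EquivLike.coe_coe, map_smul]
  rw [chAct_apply]
  congr 1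
  have h1 : (a : S) * g = g * (((MulAut.conjNormal g⁻¹ : MulAut ↥A) a : ↥A) : S) := by
    rw [coe_conjNormal_inv]; group
  rw [← Module.End.mul_apply, ← map_mul, h1, map_mul, Module.End.mul_apply]

end Cfsg.Agent.Lib.Helper6.NW
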