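import Mathlib
import Cfsg.Agent.Lib.Helper6.NWDefs
import Cfsg.Agent.Lib.Helper6.NWU1
import Cfsg.Agent.Lib.Helper7.NWU6

/-!
# Farm NW (S4414): sums of weight spaces and the two core counting lemmas U10, U11
-/

set_option autoImplicit false

namespace Cfsg.Agent.Lib.Helper6.NW

variable {S : Type*} [Group S] {F : Type*} [Field F] {V : Type*} [AddCommGroup V] [Module F V]

/-- The sum of the weight spaces of the characters in `T`. -/
def wsum (σ : Representation F S V) (A : Subgroup S) (T : Set (↥A →* Fˣ)) : Submodule F V :=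
  ⨆ l : T, wt σ A (l : ↥A →* Fˣ)

theorem wt_le_wsum (σ : Representation F S V) (A : Subgroup S) {T : Set (↥A →* Fˣ)}
    {l : ↥A →* Fˣ} (hl : l ∈ T) : wt σ A l ≤ wsum σ A T :=
  le_iSup (fun l : T => wt σ A (l : ↥A →* Fˣ)) ⟨l, hl⟩

theorem wsum_ne_bot (σ : Representation F S V) (A : Subgroup S) {T : Set (↥A →* Fˣ)}
    {l : ↥A →* Fˣ} (hl : l ∈ T) (hne : wt σ A l ≠ ⊥) : wsum σ A T ≠ ⊥ := by
  intro h
  apply hne
  rw [eq_bot_iff, ← h]
  exact wt_le_wsum σ A hl

theorem wsum_inv (σ : Representation F S V) (A : Subgroup S) [A.Normal] {T : Set (↥A →* Fˣ)}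
    (s : S) (hs : ∀ l ∈ T, chAct A s l ∈ T) {w : V} (hw : w ∈ wsum σ A T) :
    σ s w ∈ wsum σ A T := by
  unfold wsum at hw
  refine Submodule.iSup_induction (fun l : T => wt σ A (l : ↥A →* Fˣ))
    (motive := fun w => σ s w ∈ wsum σ A T) hw ?_ ?_ ?_
  · intro l x hx
    exact wt_le_wsum σ A (hs l l.2) (U1 σ A s l x hx)
  · rw [map_zero]; exact zero_mem _
  · intro x y hx hy
    rw [map_add]; exact add_mem hx hy

theorem proj_wsum_of_notMem (σ : Representation F S V) (A : Subgroup S) [Fintype ↥A]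
    {T : Set (↥A →* Fˣ)} {l : ↥A →* Fˣ} (hl : l ∉ T) {w : V} (hw : w ∈ wsum σ A T) :
    proj σ A l w = 0 := by
  classical
  unfold wsum at hw
  refine Submodule.iSup_induction (fun l : T => wt σ A (l : ↥A →* Fˣ))
    (motive := fun w => proj σ A l w = 0) hw ?_ ?_ ?_
  · intro m x hx
    rw [U3 σ A l m x hx, if_neg]
    intro h
    exact hl (h ▸ m.2)
  · rw [map_zero]
  · intro x y hx hy
    rw [map_add, hx, hy, add_zero]

theorem sum_proj_wsum (σ : Representation F S V) (A : Subgroup S) [Fintype ↥A]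
    [Fintype (↥A →* Fˣ)] {T : Set (↥A →* Fˣ)} {w : V} (hw : w ∈ wsum σ A T) :
    ∑ l : ↥A →* Fˣ, proj σ A l w = ((Fintype.card ↥A : ℕ) : F) • w := by
  classical
  unfold wsum at hw
  refine Submodule.iSup_induction (fun l : T => wt σ A (l : ↥A →* Fˣ))
    (motive := fun w => ∑ l : ↥A →* Fˣ, proj σ A l w = ((Fintype.card ↥A : ℕ) : F) • w)
    hw ?_ ?_ ?_
  · intro m x hx
    rw [Finset.sum_congr rfl (fun l _ => U3 σ A l m x hx)]
    simp
  · simp
  · intro x y hx hy
    simp only [map_add, Finset.sum_add_distrib, hx, hy, smul_add]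

theorem eq_zero_of_proj_eq_zero (σ : Representation F S V) (A : Subgroup S) [Fintype ↥A]
    [Finite F] (hA : ((Fintype.card ↥A : ℕ) : F) ≠ 0) {T : Set (↥A →* Fˣ)} {w : V}
    (hw : w ∈ wsum σ A T) (h0 : ∀ l ∈ T, proj σ A l w = 0) : w = 0 := by
  classical
  have : Finite (↥A →* Fˣ) := Finite.of_injective _ DFunLike.coe_injective
  have : Fintype (↥A →* Fˣ) := Fintype.ofFinite _
  have h1 := sum_proj_wsum σ A hw
  have h2 : ∑ l : ↥A →* Fˣ, proj σ A l w = 0 := by
    apply Finset.sum_eq_zero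
    intro l _
    by_cases hl : l ∈ T
    · exact h0 l hl
    · exact proj_wsum_of_notMem σ A hl hw
  rw [h2] at h1
  rcases smul_eq_zero.mp h1.symm with h | h
  · exact absurd h hA
  · exact h

/-- U10 (core A). -/
theorem U10 (σ : Representation F S V) (A : Subgroup S) [A.Normal] [Fintype ↥A]
    (hA : ((Fintype.card ↥A : ℕ) : F) ≠ 0) [CharP F 2] [Finite F] [Finite V] (X : Subgroup S)
    (hX : IsPGroup 2 ↥X) (k : ℕ) (O : Fin k → Set (↥A →* Fˣ))
    (hdisj : ∀ i j, i ≠ j → Disjoint (O i) (O j))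
    (hinv : ∀ i, ∀ s ∈ X, ∀ l ∈ O i, chAct A s l ∈ O i)
    (hne : ∀ i, ∃ l ∈ O i, wt σ A l ≠ ⊥) :
    Nat.card F ^ k ≤ Nat.card ↥(fixedSub σ X) := by
  classical
  -- fixed vectors
  have hex : ∀ i, ∃ u ∈ wsum σ A (O i), u ≠ 0 ∧ u ∈ fixedSub σ X := by
    intro i
    obtain ⟨l, hl, hlne⟩ := hne i
    exact Cfsg.Agent.Lib.Helper7.NW.U6 σ X hX (wsum σ A (O i))
      (fun s hs w hw => wsum_inv σ A s (hinv i s hs) hw) (wsum_ne_bot σ A hl hlne)
  choose u hu hu0 hufix using hex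
  -- the injection
  let f : (Fin k → F) → ↥(fixedSub σ X) := fun c =>
    ⟨∑ i, c i • u i, Submodule.sum_mem _ (fun i _ => Submodule.smul_mem _ _ (hufix i))⟩
  have hkey : ∀ c : Fin k → F, ∑ i, c i • u i = 0 → c = 0 := by
    intro c hc
    funext j
    by_contra hcj
    apply hu0 j
    apply eq_zero_of_proj_eq_zero σ A hA (hu j)
    intro l hl
    have h1 := congrArg (proj σ A l) hc
    rw [map_sum, map_zero] at h1
    rw [Finset.sum_eq_single j] at h1
    · rw [map_smul] at h1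
      rcases smul_eq_zero.mp h1 with h | h
      · exact absurd h hcj
      · exact h
    · intro i _ hij
      rw [map_smul, proj_wsum_of_notMem σ A _ (hu i), smul_zero]
      intro hli
      exact (Set.disjoint_left.mp (hdisj i j hij) hli) hl
    · intro h; exact absurd (Finset.mem_univ j) h
  have hinj : Function.Injective f := by
    intro c d hcd
    have h1 : ∑ i, c i • u i = ∑ i, d i • u i := congrArg Subtype.val hcd
    have h2 : ∑ i, (c - d) i • u i = 0 := by
      simp only [Pi.sub_apply, sub_smul, Finset.sum_sub_distrib, h1, sub_self]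
    have := hkey (c - d) h2
    exact sub_eq_zero.mp this
  have hfin : Finite ↥(fixedSub σ X) := inferInstance
  calc Nat.card F ^ k = Nat.card (Fin k → F) := by
        rw [Nat.card_fun, Nat.card_eq_fintype_card (α := Fin k), Fintype.card_fin]
    _ ≤ Nat.card ↥(fixedSub σ X) := Nat.card_le_card_of_injective f hinj

theorem chAct_one (A : Subgroup S) [A.Normal] (l : ↥A →* Fˣ) : chAct A (1 : S) l = l :=
  (chMulAction (F := F) A).one_smul l

theorem chAct_mul (A : Subgroup S) [A.Normal] (g h : S) (l : ↥A →* Fˣ) :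
    chAct A (g * h) l = chAct A g (chAct A h l) :=
  (chMulAction (F := F) A).mul_smul g h l

theorem proj_ne_zero_of_fixed (σ : Representation F S V) (A : Subgroup S) [A.Normal] [Fintype ↥A]
    (g : S) {u : V} (hg : σ g u = u) {l : ↥A →* Fˣ} (hl : proj σ A l u ≠ 0) :
    proj σ A (chAct A g l) u ≠ 0 := by
  intro h
  apply hl
  have h1 := U4 σ A g l u
  rw [hg, h] at h1
  have h2 : σ g⁻¹ (σ g (proj σ A l u)) = proj σ A l u := by
    rw [← Module.End.mul_apply, ← map_mul, inv_mul_cancel, map_one, Module.End.one_apply]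
  rw [← h2, ← h1, map_zero]

/-- U11 (core B). -/
theorem U11 (σ : Representation F S V) (A : Subgroup S) [A.Normal] [Fintype ↥A]
    (hA : ((Fintype.card ↥A : ℕ) : F) ≠ 0) [CharP F 2] [Finite V] (X K : Subgroup S)
    (hX : IsPGroup 2 ↥X) (hfix : fixedSub σ X = fixedSub σ K) (l₀ : ↥A →* Fˣ)
    (hl₀ : wt σ A l₀ ≠ ⊥) : ∀ g ∈ K, ∃ s ∈ X, chAct A g l₀ = chAct A s l₀ := by
  classical
  -- `F` is finite
  have hFfin : Finite F := by
    obtain ⟨v, hv, hv0⟩ := (Submodule.ne_bot_iff _).mp hl₀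
    refine Finite.of_injective (fun c : F => c • v) ?_
    intro c d hcd
    exact smul_left_injective F hv0 hcd
  let T : Set (↥A →* Fˣ) := {l | ∃ s ∈ X, l = chAct A s l₀}
  have hT0 : l₀ ∈ T := ⟨1, X.one_mem, (chAct_one A l₀).symm⟩
  have hTinv : ∀ s ∈ X, ∀ l ∈ T, chAct A s l ∈ T := by
    rintro s hs l ⟨t, ht, rfl⟩
    exact ⟨s * t, X.mul_mem hs ht, (chAct_mul A s t l₀).symm⟩
  obtain ⟨u, huT, hu0, hufix⟩ := Cfsg.Agent.Lib.Helper7.NW.U6 σ X hX (wsum σ A T)
    (fun s hs w hw => wsum_inv σ A s (hTinv s hs) hw) (wsum_ne_bot σ A hT0 hl₀)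
  have hufixK : u ∈ fixedSub σ K := hfix ▸ hufix
  -- the support is nonempty
  have hsupp : ∃ l ∈ T, proj σ A l u ≠ 0 := by
    by_contra h
    push Not at h
    exact hu0 (eq_zero_of_proj_eq_zero σ A hA huT h)
  obtain ⟨l₁, ⟨s₁, hs₁, rfl⟩, hl₁⟩ := hsupp
  -- `l₀` lies in the support
  have h0 : proj σ A l₀ u ≠ 0 := by
    have := proj_ne_zero_of_fixed σ A s₁⁻¹ (hufix s₁⁻¹ (X.inv_mem hs₁)) hl₁
    rwa [← chAct_mul, inv_mul_cancel, chAct_one] at this
  intro g hg
  have h1 := proj_ne_zero_of_fixed σ A g (hufixK g hg) h0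
  by_contra hnot
  apply h1
  apply proj_wsum_of_notMem σ A _ huT
  rintro ⟨s, hs, hsl⟩
  exact hnot ⟨s, hs, hsl⟩

end Cfsg.Agent.Lib.Helper6.NW
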