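import Mathlib
import Cfsg.Agent.Lib.Helper6.NWDefs
import Cfsg.Agent.Lib.Helper6.NWU1
import Cfsg.Agent.Lib.Helper6.NWCore

/-!
# Farm NW (S4414): orbit lemmas for the assembly
-/

set_option autoImplicit false

namespace Cfsg.Agent.Lib.Helper6.NW

open scoped TensorProduct

section orbits

variable {S : Type*} [Group S] {F : Type*} [Field F]

/-- The orbit of the character `l` under the subgroup `X`. -/
def orb (A : Subgroup S) [A.Normal] (X : Subgroup S) (l : ↥A →* Fˣ) : Set (↥A →* Fˣ) :=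
  {m | ∃ s ∈ X, m = chAct A s l}

theorem self_mem_orb (A : Subgroup S) [A.Normal] (X : Subgroup S) (l : ↥A →* Fˣ) :
    l ∈ orb A X l := ⟨1, X.one_mem, (chAct_one A l).symm⟩

theorem orb_inv (A : Subgroup S) [A.Normal] (X : Subgroup S) (l : ↥A →* Fˣ) :
    ∀ s ∈ X, ∀ m ∈ orb A X l, chAct A s m ∈ orb A X l := by
  rintro s hs m ⟨t, ht, rfl⟩
  exact ⟨s * t, X.mul_mem hs ht, (chAct_mul A s t l).symm⟩

theorem orb_eq_of_mem (A : Subgroup S) [A.Normal] (X : Subgroup S) {l m : ↥A →* Fˣ}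
    (hm : m ∈ orb A X l) : orb A X m = orb A X l := by
  obtain ⟨t, ht, rfl⟩ := hm
  ext n
  constructor
  · rintro ⟨s, hs, rfl⟩
    exact ⟨s * t, X.mul_mem hs ht, (chAct_mul A s t l).symm⟩
  · rintro ⟨s, hs, rfl⟩
    refine ⟨s * t⁻¹, X.mul_mem hs (X.inv_mem ht), ?_⟩
    rw [chAct_mul, ← chAct_mul A t⁻¹ t, inv_mul_cancel, chAct_one]

theorem orb_disjoint (A : Subgroup S) [A.Normal] (X : Subgroup S) {l m : ↥A →* Fˣ}
    (hm : m ∉ orb A X l) : Disjoint (orb A X l) (orb A X m) := by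
  rw [Set.disjoint_left]
  intro n hnl hnm
  apply hm
  have h1 := orb_eq_of_mem A X hnl
  have h2 := orb_eq_of_mem A X hnm
  rw [← h1, h2]
  exact self_mem_orb A X m

theorem orb_card (A : Subgroup S) [A.Normal] (X : Subgroup S) (hX : IsPGroup 2 ↥X)
    [Finite F] [Finite ↥A] (l : ↥A →* Fˣ) : ∃ n : ℕ, Nat.card ↥(orb A X l) = 2 ^ n := by
  let _ : MulAction S (↥A →* Fˣ) := chMulAction A
  have hfin : Finite (↥A →* Fˣ) := Finite.of_injective _ DFunLike.coe_injective
  have h1 : orb A X l = MulAction.orbit ↥X l := by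
    ext m
    constructor
    · rintro ⟨s, hs, rfl⟩
      exact ⟨⟨s, hs⟩, rfl⟩
    · rintro ⟨s, rfl⟩
      exact ⟨s.1, s.2, rfl⟩
  rw [h1]
  exact hX.card_orbit l

/-- A finite set of nontrivial characters invariant under an element `y` of prime order `q`
which fixes no nontrivial character has cardinality divisible by `q`. -/
theorem dvd_card_of_free (A : Subgroup S) [A.Normal] {q : ℕ} [hq : Fact q.Prime] (y : S)
    (hyq : y ^ q = 1) (hfree : ∀ l : ↥A →* Fˣ, chAct A y l = l → l = 1)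
    (T : Set (↥A →* Fˣ)) [Finite ↥T] (hT1 : (1 : ↥A →* Fˣ) ∉ T)
    (hTinv : ∀ l ∈ T, chAct A y l ∈ T) : q ∣ Nat.card ↥T := by
  classical
  have : Fintype ↥T := Fintype.ofFinite _
  let f : Function.End ↥T := fun l => ⟨chAct A y (l : ↥A →* Fˣ), hTinv l l.2⟩
  have hpow : ∀ n : ℕ, ∀ l : ↥T, (((f ^ n) l : ↥T) : ↥A →* Fˣ) = chAct A (y ^ n) l := by
    intro n
    induction n with
    | zero =>
        intro l
        rw [pow_zero, pow_zero, chAct_one]
        rfl
    | succ n ih =>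
        intro l
        have h1 : (f ^ (n + 1)) l = f ((f ^ n) l) := by rw [pow_succ']; rfl
        rw [h1, pow_succ', chAct_mul, ← ih]
  have hf : f ^ q ^ 1 = 1 := by
    rw [pow_one]
    funext l
    apply Subtype.ext
    rw [hpow, hyq, chAct_one]
    rfl
  have h1 := Equiv.Perm.card_fixedPoints_modEq (p := q) (n := 1) hf
  have h2 : Fintype.card ↥(Function.fixedPoints f) = 0 := by
    rw [Fintype.card_eq_zero_iff]
    refine ⟨fun l => ?_⟩
    have h3 : f l.1 = l.1 := l.2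
    have h4 : chAct A y (l.1 : ↥A →* Fˣ) = l.1 := congrArg Subtype.val h3
    have h5 := hfree _ h4
    exact hT1 (h5 ▸ l.1.2)
  rw [h2] at h1
  rw [Nat.card_eq_fintype_card]
  exact (Nat.modEq_zero_iff_dvd.mp h1)

/-- no nonempty set of 2-power size of nontrivial characters is invariant under such a `y` -/
theorem not_inv_of_two_pow (A : Subgroup S) [A.Normal] {q : ℕ} [hq : Fact q.Prime] (hq2 : q ≠ 2)
    (y : S) (hyq : y ^ q = 1) (hfree : ∀ l : ↥A →* Fˣ, chAct A y l = l → l = 1)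
    (T : Set (↥A →* Fˣ)) [Finite ↥T] (hT1 : (1 : ↥A →* Fˣ) ∉ T) (n : ℕ)
    (hcard : Nat.card ↥T = 2 ^ n) (hTinv : ∀ l ∈ T, chAct A y l ∈ T) : False := by
  have h1 := dvd_card_of_free A y hyq hfree T hT1 hTinv
  rw [hcard] at h1
  have h2 := (Nat.Prime.dvd_of_dvd_pow hq.out h1)
  exact hq2 ((Nat.prime_dvd_prime_iff_eq hq.out Nat.prime_two).mp h2)

end orbits

end Cfsg.Agent.Lib.Helper6.NW
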