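import Mathlib
import Cfsg.Agent.Lib.Helper6.NWDefs

/-!
# Farm NW (S4414): units U7a, U7 (base change and fixed points)
-/

set_option autoImplicit false

namespace Cfsg.Agent.Lib.Helper6.NW

open scoped TensorProduct

/-- U7a: the base change of a finite `𝔽₂`-space to a finite field is finite. -/
theorem U7a (F : Type*) [Field F] [Algebra (ZMod 2) F] [Finite F] (E : Type*) [AddCommGroup E]
    [Module (ZMod 2) E] [Finite E] : Finite (F ⊗[ZMod 2] E) := by
  haveI : Module.Finite (ZMod 2) E := Module.Finite.of_finite
  haveI : Module.Finite F (F ⊗[ZMod 2] E) := inferInstance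
  exact Module.finite_of_finite F

/-- `bc` acts coordinatewise with respect to a basis of `F` over `𝔽₂`. -/
theorem equiv_bc {S : Type*} [Group S] (F : Type*) [Field F] [Algebra (ZMod 2) F]
    {E : Type*} [AddCommGroup E] [Module (ZMod 2) E] (ρ : Representation (ZMod 2) S E)
    {ι : Type*} [DecidableEq ι] (b : Module.Basis ι (ZMod 2) F) (g : S) (u : F ⊗[ZMod 2] E)
    (i : ι) :
    TensorProduct.equivFinsuppOfBasisLeft b (bc F ρ g u) i =
      ρ g (TensorProduct.equivFinsuppOfBasisLeft b u i) := by
  induction u using TensorProduct.induction_on with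
  | zero => simp
  | tmul c v =>
      rw [bc_tmul, TensorProduct.equivFinsuppOfBasisLeft_apply_tmul_apply,
        TensorProduct.equivFinsuppOfBasisLeft_apply_tmul_apply, map_smul]
  | add x y hx hy =>
      rw [map_add, map_add, Finsupp.add_apply, hx, hy, map_add, Finsupp.add_apply, map_add]

/-- U7: fixed points commute with base change (cardinality form). -/
theorem U7 {S : Type*} [Group S] (F : Type*) [Field F] [Algebra (ZMod 2) F] [Finite F]
    {E : Type*} [AddCommGroup E] [Module (ZMod 2) E] [Finite E]
    (ρ : Representation (ZMod 2) S E) (X : Subgroup S) :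
    Nat.card ↥(fixedSub (bc F ρ) X) =
      Nat.card {v : E // ∀ s ∈ X, ρ s v = v} ^ Module.finrank (ZMod 2) F := by
  classical
  set n := Module.finrank (ZMod 2) F with hn
  let b : Module.Basis (Fin n) (ZMod 2) F := Module.finBasis (ZMod 2) F
  let e := TensorProduct.equivFinsuppOfBasisLeft (N := E) b
  have hfix : ∀ u : F ⊗[ZMod 2] E, u ∈ fixedSub (bc F ρ) X ↔
      ∀ i : Fin n, ∀ s ∈ X, ρ s (e u i) = e u i := by
    intro u
    rw [mem_fixedSub]
    constructor
    · intro h i s hs
      rw [← equiv_bc F ρ b s u i, h s hs]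
    · intro h s hs
      apply e.injective
      ext i
      rw [equiv_bc F ρ b s u i, h i s hs]
  let φ : ↥(fixedSub (bc F ρ) X) → (Fin n → {v : E // ∀ s ∈ X, ρ s v = v}) :=
    fun u i => ⟨e u.1 i, (hfix u.1).mp u.2 i⟩
  have hφ : Function.Bijective φ := by
    constructor
    · intro u v huv
      apply Subtype.ext
      apply e.injective
      ext i
      exact congrArg Subtype.val (congrFun huv i)
    · intro f
      let w : Fin n →₀ E := Finsupp.equivFunOnFinite.symm (fun i => (f i : E))
      have hw : ∀ i, e (e.symm w) i = (f i : E) := by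
        intro i
        rw [LinearEquiv.apply_symm_apply]
        rfl
      refine ⟨⟨e.symm w, (hfix _).mpr ?_⟩, ?_⟩
      · intro i s hs
        rw [hw i]
        exact (f i).2 s hs
      · funext i
        apply Subtype.ext
        exact hw i
  rw [Nat.card_congr (Equiv.ofBijective φ hφ), Nat.card_fun, Nat.card_eq_fintype_card (α := Fin n),
    Fintype.card_fin]

end Cfsg.Agent.Lib.Helper6.NW
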