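import Mathlib
import Cfsg.Agent.Lib.Helper6.NWDefs
import Cfsg.Agent.Lib.Helper6.NWU1
import Cfsg.Agent.Lib.Helper6.NWCore
import Cfsg.Agent.Lib.Helper6.NWAsm
import Cfsg.Agent.Lib.Helper6.NWU7
import Cfsg.Agent.Lib.Helper7.NWU5
import Cfsg.Agent.Lib.Helper7.NWU8

/-!
# Farm NW (S4414): the assembly, for an abstract field `F` of characteristic 2 with enough roots
-/

set_option autoImplicit false
set_option maxHeartbeats 800000

namespace Cfsg.Agent.Lib.Helper6.NW

open scoped TensorProduct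
open Cfsg.Agent.Lib.Helper7.NW (U5 U8)

theorem main_generic {S : Type*} [Group S] [Finite S] (F : Type*) [Field F] [Algebra (ZMod 2) F]
    [Finite F] [CharP F 2] (p q : ℕ) (hp : p.Prime) (hq : q.Prime) (hp2 : p ≠ 2) (hq2 : q ≠ 2)
    [hroots : HasEnoughRootsOfUnity F (p ^ 2)]
    (X A Q : Subgroup S) (hX2 : IsPGroup 2 ↥X) [hAN : A.Normal]
    (hU9 : ∀ C : Subgroup S, X ≤ C → C ≤ X ⊔ Q → (∀ y ∈ Q, ∀ c ∈ C, y * c * y⁻¹ ∈ C) →
      C = X ⊔ Q ∨ ∀ y ∈ Q, ∀ s ∈ X, y * s * y⁻¹ ∈ X)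
    (hAcard : Nat.card ↥A = p ∨ Nat.card ↥A = p ^ 2)
    (hQ : Nat.card ↥Q = q) (hcomm : ⁅A, Q⁆ = A)
    {E : Type*} [AddCommGroup E] [Module (ZMod 2) E] [Finite E]
    (ρ : Representation (ZMod 2) S E) (hE : Nontrivial E)
    (hirr : ∀ N : Submodule (ZMod 2) E, (∀ s : S, ∀ m ∈ N, ρ s m ∈ N) → N = ⊥ ∨ N = ⊤)
    (hfaith : ∀ x ∈ A, ρ x = 1 → x = 1) :
    8 ≤ Nat.card {v : E // ∀ s ∈ X, ρ s v = v} ∨
      (Nat.card {v : E // ∀ s ∈ X, ρ s v = v} = 4 ∧
        ∃ x ∈ Q, ∃ v : E, (∀ s ∈ X, ρ s v = v) ∧ ¬ ∀ s ∈ X, ρ s (ρ x v) = ρ x v) := by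
  classical
  haveI : Fact p.Prime := ⟨hp⟩
  haveI : Fact q.Prime := ⟨hq⟩
  haveI : Fintype ↥A := Fintype.ofFinite _
  set σ : Representation F S (F ⊗[ZMod 2] E) := bc F ρ with hσ
  haveI hVfin : Finite (F ⊗[ZMod 2] E) := U7a F E
  set n := Module.finrank (ZMod 2) F with hn
  have hnpos : 0 < n := Module.finrank_pos
  have hcardF : Nat.card F = 2 ^ n := by
    have : Fintype F := Fintype.ofFinite F
    rw [Nat.card_eq_fintype_card, Module.card_eq_pow_finrank (K := ZMod 2) (V := F), ZMod.card]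
  set N0 := Nat.card {v : E // ∀ s ∈ X, ρ s v = v} with hN0
  -- transfer of lower bounds
  have htransfer : ∀ k : ℕ, Nat.card F ^ k ≤ Nat.card ↥(fixedSub σ X) → 2 ^ k ≤ N0 := by
    intro k hk
    rw [U7 F ρ X, hcardF, ← pow_mul, mul_comm, pow_mul] at hk
    by_contra hlt
    push Not at hlt
    exact absurd hk (not_le.mpr (Nat.pow_lt_pow_left hlt hnpos.ne'))
  -- `A` has odd order, is commutative
  have hpodd : Odd p := hp.odd_of_ne_two hp2
  have hAodd : Odd (Nat.card ↥A) := by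
    rcases hAcard with h | h
    · rw [h]; exact hpodd
    · rw [h]; exact hpodd.pow
  have hAF : ((Fintype.card ↥A : ℕ) : F) ≠ 0 := by
    rw [← Nat.card_eq_fintype_card]
    intro h0
    have := (CharP.cast_eq_zero_iff F 2 (Nat.card ↥A)).mp h0
    exact (Nat.not_even_iff_odd.mpr hAodd) (even_iff_two_dvd.mpr this)
  have hAF' : ((Nat.card ↥A : ℕ) : F) ≠ 0 := by
    rw [Nat.card_eq_fintype_card]; exact hAF
  have hAc : ∀ a b : ↥A, a * b = b * a := by
    rcases hAcard with h | h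
    · haveI := isCyclic_of_prime_card h
      intro a b
      letI := IsCyclic.commGroup (α := ↥A)
      exact mul_comm a b
    · exact (IsPGroup.isMulCommutative_of_card_eq_prime_sq h).is_comm.comm
  have hAne : A ≠ ⊥ := by
    intro h
    have h1 : Nat.card ↥A = 1 := by rw [h]; exact Subgroup.card_bot
    rcases hAcard with h2 | h2
    · rw [h2] at h1; exact hp.one_lt.ne' h1
    · rw [h2] at h1
      have := Nat.one_lt_pow (n := 2) (by norm_num) hp.one_lt
      omega
  haveI : NeZero (p ^ 2) := ⟨pow_ne_zero 2 hp.ne_zero⟩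
  have hexp : Monoid.exponent ↥A ∣ p ^ 2 := by
    refine dvd_trans Group.exponent_dvd_nat_card ?_
    rcases hAcard with h | h
    · rw [h]; exact dvd_pow_self p (by norm_num)
    · rw [h]
  haveI : HasEnoughRootsOfUnity F (Monoid.exponent ↥A) := HasEnoughRootsOfUnity.of_dvd F hexp
  -- fixed points of `A` on `E` are trivial
  have hCEA : ∀ v : E, (∀ a ∈ A, ρ a v = v) → v = 0 := by
    let N : Submodule (ZMod 2) E :=
      { carrier := {v | ∀ a ∈ A, ρ a v = v}
        add_mem' := by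
          intro u v hu hv a ha
          rw [map_add, hu a ha, hv a ha]
        zero_mem' := by intro a _; simp
        smul_mem' := by
          intro c u hu a ha
          rw [map_smul, hu a ha] }
    have hNinv : ∀ s : S, ∀ m ∈ N, ρ s m ∈ N := by
      intro s m hm a ha
      have h1 : s⁻¹ * a * s ∈ A := by
        have := hAN.conj_mem a ha s⁻¹
        simpa using this
      have h2 : a * s = s * (s⁻¹ * a * s) := by group
      rw [← Module.End.mul_apply, ← map_mul, h2, map_mul, Module.End.mul_apply, hm _ h1]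
    rcases hirr N hNinv with h | h
    · intro v hv
      have : v ∈ N := hv
      rw [h] at this
      exact (Submodule.mem_bot _).mp this
    · exfalso
      apply hAne
      rw [eq_bot_iff]
      intro a ha
      rw [Subgroup.mem_bot]
      apply hfaith a ha
      ext v
      have : v ∈ N := by rw [h]; trivial
      exact this a ha
  have hfixA : fixedSub σ A = ⊥ := by
    have h1 := U7 F ρ A
    have h2 : Nat.card {v : E // ∀ s ∈ A, ρ s v = v} = 1 := by
      rw [Nat.card_eq_one_iff_unique]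
      refine ⟨⟨fun a b => Subtype.ext ?_⟩, ⟨⟨0, fun s _ => map_zero _⟩⟩⟩
      rw [hCEA a.1 a.2, hCEA b.1 b.2]
    rw [h2, one_pow] at h1
    rw [eq_bot_iff]
    intro u hu
    have hsub : Subsingleton ↥(fixedSub σ A) := (Nat.card_eq_one_iff_unique.mp h1).1
    have := Subsingleton.elim (⟨u, hu⟩ : ↥(fixedSub σ A)) ⟨0, zero_mem _⟩
    exact (Submodule.mem_bot _).mpr (congrArg Subtype.val this)
  have hwt1 : wt σ A (1 : ↥A →* Fˣ) = ⊥ := by
    rw [eq_bot_iff, ← hfixA]
    intro u hu s hs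
    have := hu ⟨s, hs⟩
    simpa using this
  -- `V` is nontrivial
  haveI hVnt : Nontrivial (F ⊗[ZMod 2] E) := by
    have h1 := U7 F ρ (⊥ : Subgroup S)
    have h2 : Nat.card {v : E // ∀ s ∈ (⊥ : Subgroup S), ρ s v = v} = Nat.card E := by
      refine Nat.card_congr (Equiv.subtypeUnivEquiv ?_)
      intro v s hs
      rw [Subgroup.mem_bot.mp hs, map_one, Module.End.one_apply]
    rw [h2] at h1
    have h3 : 1 < Nat.card E := Finite.one_lt_card
    have h4 : 1 < Nat.card ↥(fixedSub σ (⊥ : Subgroup S)) := by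
      rw [h1]; exact Nat.one_lt_pow hnpos.ne' h3
    have h5 : Nontrivial ↥(fixedSub σ (⊥ : Subgroup S)) := Finite.one_lt_card_iff_nontrivial.mp h4
    obtain ⟨a, b, hab⟩ := h5
    exact ⟨⟨a.1, b.1, fun h => hab (Subtype.ext h)⟩⟩
  -- a nonzero weight
  obtain ⟨l₀, hl₀⟩ := U5 σ A hAc hAF'
  have hl₀1 : l₀ ≠ 1 := fun h => hl₀ (h ▸ hwt1)
  -- weights are permuted
  have hΛ : ∀ (g : S) (l : ↥A →* Fˣ), wt σ A l ≠ ⊥ → wt σ A (chAct A g l) ≠ ⊥ := by
    intro g l hl
    obtain ⟨u, hu, hu0⟩ := (Submodule.ne_bot_iff _).mp hl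
    rw [Submodule.ne_bot_iff]
    refine ⟨σ g u, U1 σ A g l u hu, ?_⟩
    intro h
    apply hu0
    have h2 : σ g⁻¹ (σ g u) = u := by
      rw [← Module.End.mul_apply, ← map_mul, inv_mul_cancel, map_one, Module.End.one_apply]
    rw [← h2, h, map_zero]
  have hone_notMem : ∀ T : Set (↥A →* Fˣ), (∀ l ∈ T, wt σ A l ≠ ⊥) → (1 : ↥A →* Fˣ) ∉ T :=
    fun T hT h1 => hT 1 h1 hwt1
  -- the generator of `Q`
  have hQelt : ∀ y ∈ Q, y ≠ 1 → (y ^ q = 1 ∧ ∀ l : ↥A →* Fˣ, chAct A y l = l → l = 1) := by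
    intro y hy hy1
    constructor
    · have h1 : (⟨y, hy⟩ : ↥Q) ^ q = 1 := by
        rw [← hQ]; exact pow_card_eq_one'
      exact congrArg Subtype.val h1
    · intro l hl
      refine U8 A Q hcomm y ?_ l hl
      intro z hz
      have h1 : (⟨y, hy⟩ : ↥Q) ≠ 1 := fun h => hy1 (congrArg Subtype.val h)
      have h2 := zpowers_eq_top_of_prime_card hQ h1
      have h3 : (⟨z, hz⟩ : ↥Q) ∈ Subgroup.zpowers (⟨y, hy⟩ : ↥Q) := by rw [h2]; trivial
      obtain ⟨k, hk⟩ := Subgroup.mem_zpowers_iff.mp h3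
      exact Subgroup.mem_zpowers_iff.mpr ⟨k, by simpa using congrArg Subtype.val hk⟩
  obtain ⟨x, hxQ, hx1⟩ : ∃ x ∈ Q, x ≠ 1 := by
    have h1 : 1 < Nat.card ↥Q := by rw [hQ]; exact hq.one_lt
    haveI : Nontrivial ↥Q := Finite.one_lt_card_iff_nontrivial.mp h1
    obtain ⟨y, hy⟩ := exists_ne (1 : ↥Q)
    exact ⟨y.1, y.2, fun h => hy (Subtype.ext h)⟩
  -- orbits under `X`
  have horbΛ : ∀ l, wt σ A l ≠ ⊥ → ∀ m ∈ orb A X l, wt σ A m ≠ ⊥ := by
    rintro l hl m ⟨s, _, rfl⟩
    exact hΛ s l hl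
  have hfinchar : Finite (↥A →* Fˣ) := Finite.of_injective _ DFunLike.coe_injective
  -- (F1)
  have hF1 : 4 ≤ N0 := by
    have hex : ∃ l₁, wt σ A l₁ ≠ ⊥ ∧ l₁ ∉ orb A X l₀ := by
      by_contra hcon
      push Not at hcon
      obtain ⟨a, ha⟩ := orb_card (F := F) A X hX2 l₀
      have hq' := hQelt x hxQ hx1
      refine not_inv_of_two_pow A hq2 x hq'.1 hq'.2 (orb A X l₀)
        (hone_notMem _ (horbΛ l₀ hl₀)) a ha ?_
      intro l hl
      exact hcon _ (hΛ x l (horbΛ l₀ hl₀ l hl))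
    obtain ⟨l₁, hl₁, hl₁O⟩ := hex
    have h2 := U10 σ A hAF X hX2 2 (fun i => if i = 0 then orb A X l₀ else orb A X l₁) ?_ ?_ ?_
    · have := htransfer 2 h2
      norm_num at this
      exact this
    · intro i j hij
      fin_cases i <;> fin_cases j
      · exact absurd rfl hij
      · simpa using orb_disjoint A X hl₁O
      · simpa using (orb_disjoint A X hl₁O).symm
      · exact absurd rfl hij
    · intro i s hs l hl
      fin_cases i
      · simpa using orb_inv A X l₀ s hs l (by simpa using hl)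
      · simpa using orb_inv A X l₁ s hs l (by simpa using hl)
    · intro i
      fin_cases i
      · exact ⟨l₀, by simpa using self_mem_orb A X l₀, hl₀⟩
      · exact ⟨l₁, by simpa using self_mem_orb A X l₁, hl₁⟩
  -- `N0` is a power of two
  have hN0pow : ∃ d : ℕ, N0 = 2 ^ d := by
    let E0 : Submodule (ZMod 2) E :=
      { carrier := {v | ∀ s ∈ X, ρ s v = v}
        add_mem' := by
          intro u v hu hv a ha
          rw [map_add, hu a ha, hv a ha]
        zero_mem' := by intro a _; simp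
        smul_mem' := by
          intro c u hu a ha
          rw [map_smul, hu a ha] }
    have h1 : Nat.card ↥E0 = N0 := Nat.card_congr (Equiv.subtypeEquivRight (fun v => Iff.rfl))
    have : Fintype ↥E0 := Fintype.ofFinite _
    refine ⟨Module.finrank (ZMod 2) ↥E0, ?_⟩
    rw [← h1, Nat.card_eq_fintype_card, Module.card_eq_pow_finrank (K := ZMod 2) (V := ↥E0),
      ZMod.card]
  have hq3 : 3 ≤ q := by
    have := hq.two_le
    omega
  by_cases hnorm : ∀ y ∈ Q, ∀ s ∈ X, y * s * y⁻¹ ∈ X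
  · left
    have hkey : ∀ y ∈ Q, y ≠ 1 → chAct A y l₀ ∉ orb A X l₀ := by
      intro y hy hy1 hmem
      obtain ⟨t, ht, hyt⟩ := hmem
      obtain ⟨a, ha⟩ := orb_card (F := F) A X hX2 l₀
      have hq' := hQelt y hy hy1
      refine not_inv_of_two_pow A hq2 y hq'.1 hq'.2 (orb A X l₀)
        (hone_notMem _ (horbΛ l₀ hl₀)) a ha ?_
      rintro m ⟨s, hs, rfl⟩
      refine ⟨y * s * y⁻¹ * t, X.mul_mem (hnorm y hy s hs) ht, ?_⟩
      rw [chAct_mul A (y * s * y⁻¹) t, ← hyt, ← chAct_mul, ← chAct_mul]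
      congr 1
      group
    have hxord : orderOf x = q := orderOf_eq_prime (hQelt x hxQ hx1).1 hx1
    have hLne : ∀ i j : Fin 3, i ≠ j →
        chAct A (x ^ (j : ℕ)) l₀ ∉ orb A X (chAct A (x ^ (i : ℕ)) l₀) := by
      intro i j hij hmem
      obtain ⟨s, hs, hsl⟩ := hmem
      have hy'Q : (x ^ (i : ℕ))⁻¹ * x ^ (j : ℕ) ∈ Q :=
        Q.mul_mem (Q.inv_mem (Q.pow_mem hxQ _)) (Q.pow_mem hxQ _)
      have hy'1 : (x ^ (i : ℕ))⁻¹ * x ^ (j : ℕ) ≠ 1 := by
        intro h
        have h1 : x ^ (i : ℕ) = x ^ (j : ℕ) := by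
          have := congrArg (fun t => x ^ (i : ℕ) * t) h
          simpa using this.symm
        have hi : (i : ℕ) < orderOf x := by rw [hxord]; omega
        have hj : (j : ℕ) < orderOf x := by rw [hxord]; omega
        have := pow_injOn_Iio_orderOf (x := x) hi hj h1
        exact hij (Fin.ext this)
      apply hkey _ hy'Q hy'1
      refine ⟨(x ^ (i : ℕ))⁻¹ * s * ((x ^ (i : ℕ))⁻¹)⁻¹,
        hnorm _ (Q.inv_mem (Q.pow_mem hxQ _)) s hs, ?_⟩
      rw [chAct_mul, hsl, ← chAct_mul, ← chAct_mul, inv_inv, mul_assoc]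
    have h3 := U10 σ A hAF X hX2 3 (fun j => orb A X (chAct A (x ^ (j : ℕ)) l₀)) ?_ ?_ ?_
    · have := htransfer 3 h3
      norm_num at this
      exact this
    · intro i j hij
      exact orb_disjoint A X (hLne i j hij)
    · intro i s hs l hl
      exact orb_inv A X _ s hs l hl
    · intro i
      exact ⟨_, self_mem_orb A X _, hΛ _ l₀ hl₀⟩
  · by_cases h8 : 8 ≤ N0
    · left; exact h8
    · right
      have hN4 : N0 = 4 := by
        obtain ⟨d, hd⟩ := hN0pow
        rw [hd] at h8 hF1 ⊢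
        rcases d with _ | _ | _ | d
        · norm_num at hF1
        · norm_num at hF1
        · norm_num
        · exfalso
          apply h8
          calc 8 = 2 ^ 3 := by norm_num
            _ ≤ 2 ^ (d + 1 + 1 + 1) := Nat.pow_le_pow_right (by norm_num) (by omega)
      refine ⟨hN4, ?_⟩
      by_contra hcon
      push Not at hcon
      let C : Subgroup S :=
        { carrier := {k | k ∈ X ⊔ Q ∧ ∀ v : E, (∀ s ∈ X, ρ s v = v) → ρ k v = v}
          mul_mem' := by
            rintro a b ⟨ha, ha'⟩ ⟨hb, hb'⟩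
            refine ⟨mul_mem ha hb, fun v hv => ?_⟩
            rw [map_mul, Module.End.mul_apply, hb' v hv, ha' v hv]
          one_mem' := ⟨one_mem _, fun v _ => by simp⟩
          inv_mem' := by
            rintro a ⟨ha, ha'⟩
            refine ⟨inv_mem ha, fun v hv => ?_⟩
            have h1 : ρ a⁻¹ (ρ a v) = v := by
              rw [← Module.End.mul_apply, ← map_mul, inv_mul_cancel, map_one,
                Module.End.one_apply]
            rw [ha' v hv] at h1
            exact h1 }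
      have hXK : X ≤ X ⊔ Q := le_sup_left
      have hQK : Q ≤ X ⊔ Q := le_sup_right
      have hC := hU9 C ?_ ?_ ?_
      · rcases hC with hCK | hn
        · -- every element of `K` fixes `E0` pointwise
          have hKfix : ∀ k ∈ X ⊔ Q, ∀ v : E, (∀ s ∈ X, ρ s v = v) → ρ k v = v := by
            intro k hk
            have : k ∈ C := by rw [hCK]; exact hk
            exact this.2
          have hcardeq : Nat.card {v : E // ∀ s ∈ X ⊔ Q, ρ s v = v} = N0 := by
            refine Nat.card_congr (Equiv.subtypeEquivRight (fun v => ?_))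
            exact ⟨fun h s hs => h s (hXK hs), fun h k hk => hKfix k hk v h⟩
          have hle : fixedSub σ (X ⊔ Q) ≤ fixedSub σ X := fun u hu s hs => hu s (hXK hs)
          have hfixeq : fixedSub σ X = fixedSub σ (X ⊔ Q) := by
            symm
            apply SetLike.coe_injective
            apply Set.eq_of_subset_of_ncard_le hle _ (Set.toFinite _)
            rw [← Nat.card_coe_set_eq, ← Nat.card_coe_set_eq]
            show Nat.card ↥(fixedSub σ X) ≤ Nat.card ↥(fixedSub σ (X ⊔ Q))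
            rw [U7 F ρ X, U7 F ρ (X ⊔ Q), hcardeq]
          have h11 := U11 σ A hAF X (X ⊔ Q) hX2 hfixeq l₀ hl₀
          obtain ⟨a, ha⟩ := orb_card (F := F) A X hX2 l₀
          have hq' := hQelt x hxQ hx1
          refine not_inv_of_two_pow A hq2 x hq'.1 hq'.2 (orb A X l₀)
            (hone_notMem _ (horbΛ l₀ hl₀)) a ha ?_
          rintro m ⟨s, hs, rfl⟩
          obtain ⟨t, ht, hteq⟩ := h11 (x * s) (mul_mem (hQK hxQ) (hXK hs))
          exact ⟨t, ht, by rw [← chAct_mul]; exact hteq⟩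
        · exact hnorm hn
      · intro s hs
        exact ⟨hXK hs, fun v hv => hv s hs⟩
      · intro k hk
        exact hk.1
      · rintro y hy c ⟨hc, hc'⟩
        refine ⟨mul_mem (mul_mem (hQK hy) hc) (inv_mem (hQK hy)), fun v hv => ?_⟩
        have h1 : ∀ s ∈ X, ρ s (ρ y⁻¹ v) = ρ y⁻¹ v := hcon y⁻¹ (Q.inv_mem hy) v hv
        rw [map_mul, map_mul, Module.End.mul_apply, Module.End.mul_apply, hc' _ h1,
          ← Module.End.mul_apply, ← map_mul, mul_inv_cancel, map_one, Module.End.one_apply]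

end Cfsg.Agent.Lib.Helper6.NW
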