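import Mathlib
import Cfsg.Agent.Lib.Helper6.NWDefs

/-!
# Farm NW (S4414): unit STUBS (statements only).

Each unit is proved in its own file `Cfsg/Agent/Lib/<HelperN>/NWUk.lean`, namespace
`Cfsg.Agent.Lib.<HelperN>.NW`, theorem name `Uk`, SAME binder list (so that
`example : @Cfsg.Agent.Lib.Helper6.NWStubs.Uk = @Cfsg.Agent.Lib.<HelperN>.NW.Uk := rfl` works).
This file is never imported by a proved row.
-/

set_option autoImplicit false

namespace Cfsg.Agent.Lib.Helper6.NWStubs

open Cfsg.Agent.Lib.Helper6.NW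
open scoped TensorProduct

section generic

variable {S : Type*} [Group S] {F : Type*} [Field F] {V : Type*} [AddCommGroup V] [Module F V]

/-- U1: `σ g` maps the weight space of `l` into the weight space of `g • l`. -/
theorem U1 (σ : Representation F S V) (A : Subgroup S) [A.Normal] (g : S) (l : ↥A →* Fˣ)
    (u : V) (hu : u ∈ wt σ A l) : σ g u ∈ wt σ A (chAct A g l) := by
  sorry

/-- U2: the image of `proj l` lies in the weight space of `l`. -/
theorem U2 (σ : Representation F S V) (A : Subgroup S) [Fintype ↥A] (l : ↥A →* Fˣ) (u : V) :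
    proj σ A l u ∈ wt σ A l := by
  sorry

/-- U3: `proj l` on the weight space of `m`: `card A • id` if `l = m`, zero otherwise
(first orthogonality relation, `sum_hom_units_eq_zero`). -/
theorem U3 (σ : Representation F S V) (A : Subgroup S) [Fintype ↥A] [DecidableEq (↥A →* Fˣ)]
    (l m : ↥A →* Fˣ) (u : V) (hu : u ∈ wt σ A m) :
    proj σ A l u = if l = m then ((Fintype.card ↥A : ℕ) : F) • u else 0 := by
  sorry

/-- U4: equivariance of the projections: `proj (g • l) (σ g u) = σ g (proj l u)`. -/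
theorem U4 (σ : Representation F S V) (A : Subgroup S) [A.Normal] [Fintype ↥A] (g : S)
    (l : ↥A →* Fˣ) (u : V) : proj σ A (chAct A g l) (σ g u) = σ g (proj σ A l u) := by
  sorry

/-- U5: existence of a nonzero weight space (second orthogonality relation / simultaneous
eigenvector): `A` finite commutative, `F` has enough roots of unity and `card A ≠ 0` in `F`. -/
theorem U5 (σ : Representation F S V) (A : Subgroup S) [Finite ↥A]
    (hc : ∀ a b : ↥A, a * b = b * a) [HasEnoughRootsOfUnity F (Monoid.exponent ↥A)]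
    (hA : ((Nat.card ↥A : ℕ) : F) ≠ 0) [Nontrivial V] : ∃ l : ↥A →* Fˣ, wt σ A l ≠ ⊥ := by
  sorry

/-- U6: a 2-group acting on a nonzero invariant subspace of a finite space in characteristic 2
has a nonzero fixed vector there. -/
theorem U6 (σ : Representation F S V) [CharP F 2] [Finite V] (X : Subgroup S)
    (hX : IsPGroup 2 ↥X) (W : Submodule F V) (hW : ∀ s ∈ X, ∀ w ∈ W, σ s w ∈ W)
    (hne : W ≠ ⊥) : ∃ u ∈ W, u ≠ 0 ∧ u ∈ fixedSub σ X := by
  sorry

/-- U10 (core A): `k` pairwise disjoint `X`-invariant sets of weights, each containing a weight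
with nonzero weight space, give `k` independent `X`-fixed vectors (`X` a 2-group, char 2). -/
theorem U10 (σ : Representation F S V) (A : Subgroup S) [A.Normal] [Fintype ↥A]
    (hA : ((Fintype.card ↥A : ℕ) : F) ≠ 0) [CharP F 2] [Finite F] [Finite V] (X : Subgroup S)
    (hX : IsPGroup 2 ↥X) (k : ℕ) (O : Fin k → Set (↥A →* Fˣ))
    (hdisj : ∀ i j, i ≠ j → Disjoint (O i) (O j))
    (hinv : ∀ i, ∀ s ∈ X, ∀ l ∈ O i, chAct A s l ∈ O i)
    (hne : ∀ i, ∃ l ∈ O i, wt σ A l ≠ ⊥) :
    Nat.card F ^ k ≤ Nat.card ↥(fixedSub σ X) := by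
  sorry

/-- U11 (core B): if the 2-group `X` and the subgroup `K` have the same fixed vectors, then the
`K`-orbit of a weight `l₀` (with nonzero weight space) is contained in its `X`-orbit. -/
theorem U11 (σ : Representation F S V) (A : Subgroup S) [A.Normal] [Fintype ↥A]
    (hA : ((Fintype.card ↥A : ℕ) : F) ≠ 0) [CharP F 2] [Finite V] (X K : Subgroup S)
    (hX : IsPGroup 2 ↥X) (hfix : fixedSub σ X = fixedSub σ K) (l₀ : ↥A →* Fˣ)
    (hl₀ : wt σ A l₀ ≠ ⊥) : ∀ g ∈ K, ∃ s ∈ X, chAct A g l₀ = chAct A s l₀ := by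
  sorry

end generic

section special

/-- U7a: the base change of a finite `𝔽₂`-space to a finite field is finite. -/
theorem U7a (F : Type*) [Field F] [Algebra (ZMod 2) F] [Finite F] (E : Type*) [AddCommGroup E]
    [Module (ZMod 2) E] [Finite E] : Finite (F ⊗[ZMod 2] E) := by
  sorry

/-- U7: fixed points commute with base change (cardinality form). -/
theorem U7 {S : Type*} [Group S] (F : Type*) [Field F] [Algebra (ZMod 2) F] [Finite F]
    {E : Type*} [AddCommGroup E] [Module (ZMod 2) E] [Finite E]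
    (ρ : Representation (ZMod 2) S E) (X : Subgroup S) :
    Nat.card ↥(fixedSub (bc F ρ) X) =
      Nat.card {v : E // ∀ s ∈ X, ρ s v = v} ^ Module.finrank (ZMod 2) F := by
  sorry

/-- U8: if `[A, Q] = A` and `x` generates `Q`, then `x` fixes no nontrivial character of `A`. -/
theorem U8 {S : Type*} [Group S] {F : Type*} [Field F] (A Q : Subgroup S) [A.Normal]
    (hcomm : ⁅A, Q⁆ = A) (x : S) (hx : ∀ y ∈ Q, y ∈ Subgroup.zpowers x) (l : ↥A →* Fˣ)
    (hfix : chAct A x l = l) : l = 1 := by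
  sorry

/-- U9: a subgroup `C` with `S₂ ≤ C ≤ S₂ ⊔ Q` normalised by `Q` (`|Q| = q` prime,
`|S₂ ⊔ Q| = |S₂| q`) is `S₂ ⊔ Q`, or else `Q` normalises `S₂`. -/
theorem U9 {S : Type*} [Group S] [Finite S] (S₂ : Sylow 2 S) (Q : Subgroup S) (q : ℕ)
    (hq : q.Prime) (hQ : Nat.card ↥Q = q)
    (hK : Nat.card ↥((S₂ : Subgroup S) ⊔ Q) = Nat.card ↥(S₂ : Subgroup S) * q)
    (C : Subgroup S) (hC1 : (S₂ : Subgroup S) ≤ C) (hC2 : C ≤ (S₂ : Subgroup S) ⊔ Q)
    (hCn : ∀ y ∈ Q, ∀ c ∈ C, y * c * y⁻¹ ∈ C) :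
    C = (S₂ : Subgroup S) ⊔ Q ∨
      ∀ y ∈ Q, ∀ s ∈ (S₂ : Subgroup S), y * s * y⁻¹ ∈ (S₂ : Subgroup S) := by
  sorry

/-- U12: the field with `2^(p(p-1))` elements has enough `p²`-th roots of unity. -/
theorem U12 (p : ℕ) (hp : p.Prime) (hp2 : p ≠ 2) :
    HasEnoughRootsOfUnity (GaloisField 2 (p * (p - 1))) (p ^ 2) := by
  sorry

end special

end Cfsg.Agent.Lib.Helper6.NWStubs
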