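import Mathlib
import Cfsg.Agent.Lib.Helper6.NWDefs

/-!
# Farm NW (S4414): unit U12 (enough roots of unity in `GF(2^(p(p-1)))`)
-/

set_option autoImplicit false

namespace Cfsg.Agent.Lib.Helper6.NW

/-- U12: the field with `2^(p(p-1))` elements has enough `p²`-th roots of unity. -/
theorem U12 (p : ℕ) (hp : p.Prime) (hp2 : p ≠ 2) :
    HasEnoughRootsOfUnity (GaloisField 2 (p * (p - 1))) (p ^ 2) := by
  haveI : Fact (Nat.Prime 2) := ⟨Nat.prime_two⟩
  set N := p * (p - 1) with hN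
  have hN0 : N ≠ 0 := by
    have := hp.two_le
    exact Nat.mul_ne_zero (by omega) (by omega)
  set F := GaloisField 2 N with hF
  have hcard : Nat.card F = 2 ^ N := GaloisField.card 2 N hN0
  have hcardU : Nat.card Fˣ = 2 ^ N - 1 := by
    rw [Nat.card_units, hcard]
  -- `p ^ 2 ∣ 2 ^ N - 1`
  have hcop : Nat.Coprime 2 (p ^ 2) := by
    apply Nat.Coprime.pow_right
    rw [Nat.coprime_primes Nat.prime_two hp]
    exact fun h => hp2 h.symm
  have htot : Nat.totient (p ^ 2) = N := by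
    rw [Nat.totient_prime_pow hp (by norm_num : 0 < 2)]
    simp [hN]
  have hdvd : p ^ 2 ∣ 2 ^ N - 1 := by
    have h1 := Nat.ModEq.pow_totient hcop
    rw [htot] at h1
    exact (Nat.modEq_iff_dvd' (Nat.one_le_two_pow)).mp h1.symm
  -- an element of order `p ^ 2`
  obtain ⟨g, hg⟩ := IsCyclic.exists_ofOrder_eq_natCard (α := Fˣ)
  have hg0 : orderOf g ≠ 0 := by
    rw [hg, hcardU]
    have : 2 ≤ 2 ^ N := by
      calc 2 = 2 ^ 1 := by norm_num
        _ ≤ 2 ^ N := Nat.pow_le_pow_right (by norm_num) (Nat.one_le_iff_ne_zero.mpr hN0)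
    omega
  have hdvd' : p ^ 2 ∣ orderOf g := by rw [hg, hcardU]; exact hdvd
  have hord := orderOf_pow_orderOf_div hg0 hdvd'
  refine ⟨⟨((g ^ (orderOf g / p ^ 2) : Fˣ) : F), ?_⟩, inferInstance⟩
  have h2 : orderOf ((g ^ (orderOf g / p ^ 2) : Fˣ) : F) = p ^ 2 := by
    rw [orderOf_units, hord]
  have h3 := IsPrimitiveRoot.orderOf ((g ^ (orderOf g / p ^ 2) : Fˣ) : F)
  rw [h2] at h3
  exact h3

end Cfsg.Agent.Lib.Helper6.NW
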