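import Mathlib
import Cfsg.Agent.Lib.Helper6.BlkCover
import Cfsg.Agent.Lib.Helper6.CliffordDeg
import Cfsg.Agent.Lib.Helper6.ClassFun
import Cfsg.Agent.Lib.Helper6.Constituent

/-!
# Central characters on invariant elements of a normal subgroup

For a normal subgroup `N` of `G`, a `G`-invariant function `a` on `N`, an irreducible character `χ`
of `G` and an irreducible constituent `θ` of its restriction to `N`, the normalized sums
`(∑ a n χ n) / χ 1` and `(∑ a n θ n) / θ 1` agree (Clifford's theorem).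
-/

set_option autoImplicit false
set_option linter.unusedSectionVars false
set_option linter.style.haveILetI false
open Cfsg

namespace Cfsg.Agent.Lib.Helper6.NilExt

open Cfsg.Agent.Lib.Helper6
open scoped ComplexConjugate

section

variable {G : Type*} [Group G] [Fintype G] [DecidableEq G]
variable (N : Subgroup G) [Fintype N] (hN : N.Normal)

/-- the weighted sum against an invariant function is constant on conjugates -/
theorem sum_mul_conjFun (a : N → ℂ)
    (ha : ∀ (g : G) (n : N), a ⟨g * n * g⁻¹, hN.conj_mem n n.2 g⟩ = a n)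
    (θ : N → ℂ) (g : G) :
    ∑ n : N, a n * conjFun N hN θ g n = ∑ n : N, a n * θ n := by
  haveI := hN
  have e : ∀ n : N, a n * conjFun N hN θ g n
      = (fun m : N => a m * θ m) ((MulAut.conjNormal g).toEquiv n) := by
    intro n
    have h1 : ((MulAut.conjNormal g).toEquiv n : N) = ⟨g * n * g⁻¹, hN.conj_mem n n.2 g⟩ :=
      Subtype.ext (MulAut.conjNormal_apply g n)
    simp only
    rw [conjFun_apply, h1, ha g n]
  rw [Finset.sum_congr rfl (fun n _ => e n)]
  exact Equiv.sum_comp (MulAut.conjNormal g).toEquiv (fun m : N => a m * θ m)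

/-- **Clifford averaging.** -/
theorem sum_mul_div_eq_of_constituent (a : N → ℂ)
    (ha : ∀ (g : G) (n : N), a ⟨g * n * g⁻¹, hN.conj_mem n n.2 g⟩ = a n)
    (χ : Cfsg.IrrCharacter G) (θ : Cfsg.IrrCharacter N)
    (hc : Cfsg.classInner (fun n : N => (χ : G → ℂ) n) (θ : N → ℂ) ≠ 0) :
    (∑ n : N, a n * (χ : G → ℂ) n) / (χ : G → ℂ) 1
      = (∑ n : N, a n * (θ : N → ℂ) n) / (θ : N → ℂ) 1 := by
  classical
  haveI : Fintype (Cfsg.IrrCharacter N) := Fintype.ofFinite _
  have hχchar := IsIrrCharacter.isCharacter χ.2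
  have hdec := classFunction_eq_sum (fun n : N => (χ : G → ℂ) n)
    (IsCharacter.isClassFunction (IsCharacter.restrict N hχchar))
  have hS : ∀ ψ : Cfsg.IrrCharacter N,
      Cfsg.classInner (fun n : N => (χ : G → ℂ) n) (ψ : N → ℂ) ≠ 0 →
      (∑ n : N, a n * (ψ : N → ℂ) n = ∑ n : N, a n * (θ : N → ℂ) n) ∧
        (ψ : N → ℂ) 1 = (θ : N → ℂ) 1 := by
    intro ψ hψ
    obtain ⟨g, hg⟩ := exists_conjFun_eq_of_constituents N hN χ.2 θ.2 ψ.2 hc hψ
    constructor
    · rw [hg]
      exact sum_mul_conjFun N hN a ha _ g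
    · rw [hg, conjFun_apply_one]
  have e1 : ∀ n : N, (χ : G → ℂ) n = ∑ ψ : Cfsg.IrrCharacter N,
      Cfsg.classInner (fun n : N => (χ : G → ℂ) n) (ψ : N → ℂ) * (ψ : N → ℂ) n := by
    intro n
    have h2 := congrFun hdec n
    simp only [Finset.sum_apply, Pi.smul_apply, smul_eq_mul] at h2
    exact h2
  have hsum1 : ∑ n : N, a n * (χ : G → ℂ) n
      = (∑ n : N, a n * (θ : N → ℂ) n) * ∑ ψ : Cfsg.IrrCharacter N,
          Cfsg.classInner (fun n : N => (χ : G → ℂ) n) (ψ : N → ℂ) := by
    calc ∑ n : N, a n * (χ : G → ℂ) n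
        = ∑ n : N, ∑ ψ : Cfsg.IrrCharacter N,
            Cfsg.classInner (fun n : N => (χ : G → ℂ) n) (ψ : N → ℂ)
              * (a n * (ψ : N → ℂ) n) := by
          apply Finset.sum_congr rfl
          intro n _
          rw [e1 n, Finset.mul_sum]
          apply Finset.sum_congr rfl
          intro ψ _
          ring
      _ = ∑ ψ : Cfsg.IrrCharacter N,
            Cfsg.classInner (fun n : N => (χ : G → ℂ) n) (ψ : N → ℂ)
              * ∑ n : N, a n * (ψ : N → ℂ) n := by
          rw [Finset.sum_comm]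
          apply Finset.sum_congr rfl
          intro ψ _
          rw [Finset.mul_sum]
      _ = ∑ ψ : Cfsg.IrrCharacter N,
            Cfsg.classInner (fun n : N => (χ : G → ℂ) n) (ψ : N → ℂ)
              * ∑ n : N, a n * (θ : N → ℂ) n := by
          apply Finset.sum_congr rfl
          intro ψ _
          by_cases h0 : Cfsg.classInner (fun n : N => (χ : G → ℂ) n) (ψ : N → ℂ) = 0
          · rw [h0, zero_mul, zero_mul]
          · rw [(hS ψ h0).1]
      _ = _ := by rw [← Finset.sum_mul, mul_comm]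
  have hdeg : (χ : G → ℂ) 1 = (θ : N → ℂ) 1 * ∑ ψ : Cfsg.IrrCharacter N,
      Cfsg.classInner (fun n : N => (χ : G → ℂ) n) (ψ : N → ℂ) := by
    rw [restrict_apply_one_eq_sum N hχchar, Finset.mul_sum]
    apply Finset.sum_congr rfl
    intro ψ _
    by_cases h0 : Cfsg.classInner (fun n : N => (χ : G → ℂ) n) (ψ : N → ℂ) = 0
    · rw [h0, mul_zero, mul_zero]
    · rw [(hS ψ h0).2]
  have hχ1 := IsIrrCharacter.apply_one_ne_zero χ.2
  have hs : (∑ ψ : Cfsg.IrrCharacter N,
      Cfsg.classInner (fun n : N => (χ : G → ℂ) n) (ψ : N → ℂ)) ≠ 0 := by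
    intro h0
    rw [h0, mul_zero] at hdeg
    exact hχ1 hdeg
  rw [hsum1, hdeg, mul_div_mul_right _ _ hs]

end

end Cfsg.Agent.Lib.Helper6.NilExt
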