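import Mathlib
import Cfsg.Prelude.Def_BrauerPairs
import Cfsg.Agent.Lib.Helper6.NilExt1
import Cfsg.Agent.Lib.Helper6.BrRel2
import Cfsg.Agent.Lib.Helper6.BrConj
import Cfsg.Agent.Lib.Helper6.BrPair2
import Cfsg.Agent.Lib.Helper6.BlkQuot2
import Cfsg.Agent.Lib.Helper6.BlkCover2
import Cfsg.Agent.Lib.Helper6.BlkCover3

/-!
# Centralizers in a normal subgroup: transport lemmas

For `N ⊴ G` and a subgroup `Q` of `G` we compare `C_N(Q)`, as a normal subgroup `cenN N Q` of
`C_G(Q)`, with the centralizer inside the group `N` of a subgroup `Q'` of `N` mapping onto `Q`.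
-/

set_option autoImplicit false
set_option linter.unusedSectionVars false
set_option linter.style.haveILetI false
open Cfsg

namespace Cfsg.Agent.Lib.Helper6.NilExt

open Cfsg.Agent.Lib.Helper6
open scoped ComplexConjugate

section setup

variable {G : Type*} [Group G] [Fintype G] [DecidableEq G]
variable {p : ℕ} {M : Ideal Cfsg.AlgInt}
variable (N : Subgroup G) [hN : N.Normal] (Q : Subgroup G)

/-- `C_N(Q)` as a subgroup of `C_G(Q)` -/
abbrev cenN : Subgroup (Subgroup.centralizer (Q : Set G)) :=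
  N.subgroupOf (Subgroup.centralizer (Q : Set G))

theorem cenN_index (hp : p.Prime) (hidx : ∃ k : ℕ, N.index = p ^ k) :
    ∃ k : ℕ, (cenN N Q).index = p ^ k := by
  obtain ⟨k, hk⟩ := hidx
  have h1 : (cenN N Q).index ∣ p ^ k := by
    rw [← hk]
    exact Subgroup.relIndex_dvd_index_of_normal N _
  obtain ⟨j, _, hj⟩ := (Nat.dvd_prime_pow hp).mp h1
  exact ⟨j, hj⟩

/-- conjugation by an element normalizing `Q`, as an automorphism of `C_N(Q)` -/
noncomputable def tau (g : G) (hg : g ∈ Subgroup.normalizer (Q : Set G)) : MulAut (cenN N Q) where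
  toFun y := ⟨nAut (Subgroup.centralizer (Q : Set G)) g
      (normalizer_le_normalizer_centralizer Q hg) y.1, by
    rw [Subgroup.mem_subgroupOf, nAut_apply_coe]
    exact hN.conj_mem _ (Subgroup.mem_subgroupOf.mp y.2) g⟩
  invFun y := ⟨((nAut (Subgroup.centralizer (Q : Set G)) g
      (normalizer_le_normalizer_centralizer Q hg))⁻¹ :
        MulAut (Subgroup.centralizer (Q : Set G))) y.1, by
    rw [Subgroup.mem_subgroupOf, nAut_inv_apply_coe]
    have := hN.conj_mem _ (Subgroup.mem_subgroupOf.mp y.2) g⁻¹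
    rwa [inv_inv] at this⟩
  left_inv y := by
    apply Subtype.ext
    simp
  right_inv y := by
    apply Subtype.ext
    simp
  map_mul' y z := by
    apply Subtype.ext
    simp

theorem tau_apply_val (g : G) (hg : g ∈ Subgroup.normalizer (Q : Set G)) (y : cenN N Q) :
    ((tau N Q g hg y : cenN N Q) : Subgroup.centralizer (Q : Set G))
      = nAut (Subgroup.centralizer (Q : Set G)) g
          (normalizer_le_normalizer_centralizer Q hg) y.1 := rfl

theorem tau_apply_coe (g : G) (hg : g ∈ Subgroup.normalizer (Q : Set G)) (y : cenN N Q) :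
    (((tau N Q g hg y : cenN N Q) : Subgroup.centralizer (Q : Set G)) : G)
      = g * ((y : Subgroup.centralizer (Q : Set G)) : G) * g⁻¹ := by
  rw [tau_apply_val, nAut_apply_coe]

theorem tau_inv_apply_val (g : G) (hg : g ∈ Subgroup.normalizer (Q : Set G)) (y : cenN N Q) :
    ((((tau N Q g hg)⁻¹ : MulAut (cenN N Q)) y : cenN N Q) : Subgroup.centralizer (Q : Set G))
      = ((nAut (Subgroup.centralizer (Q : Set G)) g
          (normalizer_le_normalizer_centralizer Q hg))⁻¹ :
            MulAut (Subgroup.centralizer (Q : Set G))) y.1 := rfl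

theorem tau_inv_apply_coe (g : G) (hg : g ∈ Subgroup.normalizer (Q : Set G)) (y : cenN N Q) :
    (((((tau N Q g hg)⁻¹ : MulAut (cenN N Q)) y : cenN N Q) :
      Subgroup.centralizer (Q : Set G)) : G)
      = g⁻¹ * ((y : Subgroup.centralizer (Q : Set G)) : G) * g := by
  rw [tau_inv_apply_val, nAut_inv_apply_coe]

theorem mulAut_cenN_ext {σ σ' : MulAut (cenN N Q)}
    (h : ∀ y : cenN N Q, (((σ y : cenN N Q) : Subgroup.centralizer (Q : Set G)) : G)
      = (((σ' y : cenN N Q) : Subgroup.centralizer (Q : Set G)) : G)) : σ = σ' :=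
  MulEquiv.ext (fun y => Subtype.ext (Subtype.ext (h y)))

theorem tau_one (h1 : (1 : G) ∈ Subgroup.normalizer (Q : Set G)) : tau N Q 1 h1 = 1 := by
  apply mulAut_cenN_ext
  intro y
  rw [tau_apply_coe]
  simp

theorem tau_mul (g h : G) (hg : g ∈ Subgroup.normalizer (Q : Set G))
    (hh : h ∈ Subgroup.normalizer (Q : Set G))
    (hgh : g * h ∈ Subgroup.normalizer (Q : Set G)) :
    tau N Q (g * h) hgh = tau N Q g hg * tau N Q h hh := by
  apply mulAut_cenN_ext
  intro y
  rw [tau_apply_coe, MulAut.mul_apply, tau_apply_coe, tau_apply_coe]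
  simp [mul_assoc]

theorem tau_inv (g : G) (hg : g ∈ Subgroup.normalizer (Q : Set G))
    (hg' : g⁻¹ ∈ Subgroup.normalizer (Q : Set G)) :
    tau N Q g⁻¹ hg' = (tau N Q g hg)⁻¹ := by
  apply mulAut_cenN_ext
  intro y
  rw [tau_apply_coe, tau_inv_apply_coe, inv_inv]

/-- the stabilizer in `N_G(Q)` of a set of irreducible characters of `C_N(Q)` -/
noncomputable def stabTau (e : Set (Cfsg.IrrCharacter (cenN N Q))) : Subgroup G where
  carrier := {g | ∃ hg : g ∈ Subgroup.normalizer (Q : Set G), autIrr (tau N Q g hg) '' e = e}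
  one_mem' := ⟨Subgroup.one_mem _, by rw [tau_one, autIrr_one_image]⟩
  mul_mem' := by
    rintro a b ⟨ha, ha'⟩ ⟨hb, hb'⟩
    refine ⟨Subgroup.mul_mem _ ha hb, ?_⟩
    rw [tau_mul N Q a b ha hb, ← autIrr_image_image, hb', ha']
  inv_mem' := by
    rintro a ⟨ha, ha'⟩
    refine ⟨Subgroup.inv_mem _ ha, ?_⟩
    rw [tau_inv N Q a ha]
    conv_lhs => rw [← ha']
    rw [autIrr_image_image, inv_mul_cancel, autIrr_one_image]

theorem mem_stabTau_iff (e : Set (Cfsg.IrrCharacter (cenN N Q))) (g : G) :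
    g ∈ stabTau N Q e ↔
      ∃ hg : g ∈ Subgroup.normalizer (Q : Set G), autIrr (tau N Q g hg) '' e = e := Iff.rfl

/-- an element of `N_G(Q)` mapping a character into its own block stabilizes the block -/
theorem mem_stabTau_of_mem_blockOf [Fintype (cenN N Q)] (hM : Cfsg.IsPModular p M) (g : G)
    (hg : g ∈ Subgroup.normalizer (Q : Set G)) (ζ : Cfsg.IrrCharacter (cenN N Q))
    (h : autIrr (tau N Q g hg) ζ ∈ Cfsg.blockOf M (ζ : cenN N Q → ℂ)) :
    g ∈ stabTau N Q (Cfsg.blockOf M (ζ : cenN N Q → ℂ)) := by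
  refine ⟨hg, ?_⟩
  rw [autIrr_image_blockOf]
  exact (blockOf_eq_of_sameBlock hM h).symm

/-- conjugation by `g` preserves the relation `ζ` is a constituent of the restriction of `ξ` -/
theorem classInner_tau [Fintype (cenN N Q)] (g : G) (hg : g ∈ Subgroup.normalizer (Q : Set G))
    (ξ : Cfsg.IrrCharacter (Subgroup.centralizer (Q : Set G)))
    (ζ : Cfsg.IrrCharacter (cenN N Q)) :
    Cfsg.classInner
        (fun y : cenN N Q => (autIrr (nAut (Subgroup.centralizer (Q : Set G)) g
          (normalizer_le_normalizer_centralizer Q hg)) ξ :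
            Subgroup.centralizer (Q : Set G) → ℂ) y)
        (autIrr (tau N Q g hg) ζ : cenN N Q → ℂ)
      = Cfsg.classInner (fun y : cenN N Q => (ξ : Subgroup.centralizer (Q : Set G) → ℂ) y)
          (ζ : cenN N Q → ℂ) := by
  unfold Cfsg.classInner
  congr 1
  symm
  apply Fintype.sum_equiv (tau N Q g hg).toEquiv
  intro y
  have h1 : ((nAut (Subgroup.centralizer (Q : Set G)) g
      (normalizer_le_normalizer_centralizer Q hg))⁻¹ :
        MulAut (Subgroup.centralizer (Q : Set G)))
      ((tau N Q g hg y : cenN N Q) : Subgroup.centralizer (Q : Set G))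
      = (y : Subgroup.centralizer (Q : Set G)) := by
    rw [tau_apply_val]
    simp
  have h2 : ((tau N Q g hg)⁻¹ : MulAut (cenN N Q)) (tau N Q g hg y) = y := by simp
  show _ = (ξ : Subgroup.centralizer (Q : Set G) → ℂ)
      (((nAut (Subgroup.centralizer (Q : Set G)) g
        (normalizer_le_normalizer_centralizer Q hg))⁻¹ :
          MulAut (Subgroup.centralizer (Q : Set G)))
        ((tau N Q g hg y : cenN N Q) : Subgroup.centralizer (Q : Set G)))
      * conj ((ζ : cenN N Q → ℂ) (((tau N Q g hg)⁻¹ : MulAut (cenN N Q)) (tau N Q g hg y)))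
  rw [h1, h2]

/-- for elements of `C_G(Q)` the automorphism `tau` is conjugation inside `C_G(Q)` -/
theorem autIrr_tau_of_mem [Fintype (Subgroup.centralizer (Q : Set G))] [Fintype (cenN N Q)]
    (g : Subgroup.centralizer (Q : Set G)) (ζ : Cfsg.IrrCharacter (cenN N Q)) :
    autIrr (tau N Q (g : G) (Subgroup.centralizer_le_normalizer _ g.2)) ζ
      = irrConj (cenN N Q) inferInstance g⁻¹ ζ := by
  apply Subtype.ext
  funext k
  rw [irrConj_coe, conjFun_apply, autIrr_apply]
  apply congrArg
  apply Subtype.ext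
  apply Subtype.ext
  rw [tau_inv_apply_coe]
  simp

end setup

section transport

variable {G : Type*} [Group G] [Fintype G] [DecidableEq G]
variable {p : ℕ} {M : Ideal Cfsg.AlgInt}
variable (N : Subgroup G) [hN : N.Normal] (Q : Subgroup G)
variable (Q' : Subgroup N) (hQ : Q'.map N.subtype = Q)

/-- the centralizer of `Q'` inside `N` is `C_N(Q)` -/
noncomputable def cenEquiv : Subgroup.centralizer (Q' : Set N) ≃* cenN N Q where
  toFun y := ⟨⟨((y : N) : G), coe_mem_centralizer_of_rel2 N Q' Q hQ y⟩, by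
    rw [Subgroup.mem_subgroupOf]
    exact (y : N).2⟩
  invFun z := ⟨⟨((z : Subgroup.centralizer (Q : Set G)) : G), Subgroup.mem_subgroupOf.mp z.2⟩, by
    rw [Subgroup.mem_centralizer_iff]
    intro q hq
    apply Subtype.ext
    have hqQ : (q : G) ∈ Q := by
      rw [← hQ]
      exact Subgroup.mem_map_of_mem N.subtype hq
    exact (Subgroup.mem_centralizer_iff.mp z.1.2) (q : G) hqQ⟩
  left_inv y := rfl
  right_inv z := rfl
  map_mul' y z := rfl

theorem cenEquiv_apply_coe (y : Subgroup.centralizer (Q' : Set N)) :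
    (((cenEquiv N Q Q' hQ y : cenN N Q) : Subgroup.centralizer (Q : Set G)) : G)
      = ((y : N) : G) := rfl

theorem cenEquiv_symm_apply_coe (z : cenN N Q) :
    ((((cenEquiv N Q Q' hQ).symm z : Subgroup.centralizer (Q' : Set N)) : N) : G)
      = ((z : Subgroup.centralizer (Q : Set G)) : G) := rfl

variable [Fintype N]

/-- compatibility of the conjugation actions of `N_N(Q')` -/
theorem mapIrr_cenEquiv_autIrr (n : N) (hn : n ∈ Subgroup.normalizer (Q' : Set N))
    (θ : Cfsg.IrrCharacter (Subgroup.centralizer (Q' : Set N))) :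
    mapIrr (cenEquiv N Q Q' hQ)
        (autIrr (nAut (Subgroup.centralizer (Q' : Set N)) n
          (normalizer_le_normalizer_centralizer Q' hn)) θ)
      = autIrr (tau N Q (n : G) (coe_mem_normalizer_of_rel2 N Q' Q hQ n hn))
          (mapIrr (cenEquiv N Q Q' hQ) θ) := by
  apply Subtype.ext
  funext k
  rw [mapIrr_apply, autIrr_apply, autIrr_apply, mapIrr_apply]
  apply congrArg
  apply Subtype.ext
  apply Subtype.ext
  rw [cenEquiv_symm_apply_coe, tau_inv_apply_coe, nAut_inv_apply_coe, Subgroup.coe_mul,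
    Subgroup.coe_mul, Subgroup.coe_inv, cenEquiv_symm_apply_coe]

theorem autIrr_tau_image_mapIrr (n : N) (hn : n ∈ Subgroup.normalizer (Q' : Set N))
    (e' : Set (Cfsg.IrrCharacter (Subgroup.centralizer (Q' : Set N)))) :
    autIrr (tau N Q (n : G) (coe_mem_normalizer_of_rel2 N Q' Q hQ n hn)) ''
        (mapIrr (cenEquiv N Q Q' hQ) '' e')
      = mapIrr (cenEquiv N Q Q' hQ) ''
          (autIrr (nAut (Subgroup.centralizer (Q' : Set N)) n
            (normalizer_le_normalizer_centralizer Q' hn)) '' e') := by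
  rw [Set.image_image, Set.image_image]
  apply Set.image_congr
  intro θ _
  exact (mapIrr_cenEquiv_autIrr N Q Q' hQ n hn θ).symm

/-- an element of `N_N(Q')` stabilizes a set of characters of the centralizer of `Q'` in `N`
iff it lies in the stabilizer of the transported set -/
theorem stabilizesBlock_iff_mem_stabTau (n : N) (hn : n ∈ Subgroup.normalizer (Q' : Set N))
    (e' : Set (Cfsg.IrrCharacter (Subgroup.centralizer (Q' : Set N)))) :
    Cfsg.StabilizesBlock (Subgroup.centralizer (Q' : Set N)) e' n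
      ↔ (n : G) ∈ stabTau N Q (mapIrr (cenEquiv N Q Q' hQ) '' e') := by
  rw [stabilizesBlock_iff, mem_stabTau_iff]
  constructor
  · rintro ⟨hx, himg⟩
    refine ⟨coe_mem_normalizer_of_rel2 N Q' Q hQ n hn, ?_⟩
    rw [autIrr_tau_image_mapIrr N Q Q' hQ n hn, himg]
  · rintro ⟨hg, himg⟩
    refine ⟨normalizer_le_normalizer_centralizer Q' hn, ?_⟩
    rw [autIrr_tau_image_mapIrr N Q Q' hQ n hn] at himg
    exact (mapIrr (cenEquiv N Q Q' hQ)).injective.image_injective himg

/-- **Transport of the Brauer map value.** -/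
theorem brauerOmega_eq_of_constituent [Fintype (Subgroup.centralizer (Q : Set G))]
    [Fintype (cenN N Q)] [Fintype (Subgroup.centralizer (Q' : Set N))]
    (c : Set (Cfsg.IrrCharacter N)) (hst : GStable N hN c)
    (ξ : Cfsg.IrrCharacter (Subgroup.centralizer (Q : Set G))) (ζ : Cfsg.IrrCharacter (cenN N Q))
    (hc : Cfsg.classInner
      (fun y : cenN N Q => (ξ : Subgroup.centralizer (Q : Set G) → ℂ) y)
      (ζ : cenN N Q → ℂ) ≠ 0) :
    Cfsg.brauerOmega Q (Cfsg.subgroupBlockCoeff N c)
        (ξ : Subgroup.centralizer (Q : Set G) → ℂ)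
      = Cfsg.brauerOmega Q' (Cfsg.blockCoeff c)
          (mapIrr (cenEquiv N Q Q' hQ).symm ζ : Subgroup.centralizer (Q' : Set N) → ℂ) := by
  classical
  have ha : ∀ (g : Subgroup.centralizer (Q : Set G)) (y : cenN N Q),
      (fun y : cenN N Q => Cfsg.blockCoeff c
        ⟨((y : Subgroup.centralizer (Q : Set G)) : G), Subgroup.mem_subgroupOf.mp y.2⟩)
        ⟨g * y * g⁻¹, (inferInstance : (cenN N Q).Normal).conj_mem y y.2 g⟩
      = (fun y : cenN N Q => Cfsg.blockCoeff c
        ⟨((y : Subgroup.centralizer (Q : Set G)) : G), Subgroup.mem_subgroupOf.mp y.2⟩) y := by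
    intro g y
    exact blockCoeff_conj_of_gStable N hN hst (g : G)
      ⟨((y : Subgroup.centralizer (Q : Set G)) : G), Subgroup.mem_subgroupOf.mp y.2⟩
  have hK0 := sum_mul_div_eq_of_constituent (cenN N Q) inferInstance
    (fun y : cenN N Q => Cfsg.blockCoeff c
      ⟨((y : Subgroup.centralizer (Q : Set G)) : G), Subgroup.mem_subgroupOf.mp y.2⟩) ha ξ ζ hc
  have hL : Cfsg.brauerOmega Q (Cfsg.subgroupBlockCoeff N c)
      (ξ : Subgroup.centralizer (Q : Set G) → ℂ)
      = (∑ y : cenN N Q, Cfsg.blockCoeff c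
          ⟨((y : Subgroup.centralizer (Q : Set G)) : G), Subgroup.mem_subgroupOf.mp y.2⟩
          * (ξ : Subgroup.centralizer (Q : Set G) → ℂ) y)
        / (ξ : Subgroup.centralizer (Q : Set G) → ℂ) 1 := by
    unfold Cfsg.brauerOmega
    rw [finsum_eq_sum_of_fintype, ← Finset.sum_div]
    congr 1
    have h1 := sum_subgroupInd_mul (cenN N Q) (fun x : Subgroup.centralizer (Q : Set G) =>
      Cfsg.subgroupBlockCoeff N c (x : G) * (ξ : Subgroup.centralizer (Q : Set G) → ℂ) x)
    have h2 : ∑ x : Subgroup.centralizer (Q : Set G),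
        Cfsg.subgroupBlockCoeff N c (x : G) * (ξ : Subgroup.centralizer (Q : Set G) → ℂ) x
        = ∑ x : Subgroup.centralizer (Q : Set G), subgroupInd (cenN N Q) x *
          (Cfsg.subgroupBlockCoeff N c (x : G)
            * (ξ : Subgroup.centralizer (Q : Set G) → ℂ) x) := by
      apply Finset.sum_congr rfl
      intro x _
      unfold subgroupInd
      by_cases hx : x ∈ cenN N Q
      · rw [if_pos hx, one_mul]
      · rw [if_neg hx, zero_mul,
          subgroupBlockCoeff_of_not_mem N c (fun h => hx (Subgroup.mem_subgroupOf.mpr h)),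
          zero_mul]
    rw [h2, h1]
    apply Finset.sum_congr rfl
    intro y _
    rw [subgroupBlockCoeff_of_mem N c (Subgroup.mem_subgroupOf.mp y.2)]
  have hR : Cfsg.brauerOmega Q' (Cfsg.blockCoeff c)
      (mapIrr (cenEquiv N Q Q' hQ).symm ζ : Subgroup.centralizer (Q' : Set N) → ℂ)
      = (∑ y : cenN N Q, Cfsg.blockCoeff c
          ⟨((y : Subgroup.centralizer (Q : Set G)) : G), Subgroup.mem_subgroupOf.mp y.2⟩
          * (ζ : cenN N Q → ℂ) y) / (ζ : cenN N Q → ℂ) 1 := by
    unfold Cfsg.brauerOmega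
    rw [finsum_eq_sum_of_fintype, ← Finset.sum_div, mapIrr_apply_one]
    congr 1
    apply Fintype.sum_equiv (cenEquiv N Q Q' hQ).toEquiv
    intro x
    rfl
  rw [hL, hR]
  exact hK0

end transport

section cover

variable {G : Type*} [Group G] [Fintype G] [DecidableEq G]
variable {p : ℕ} {M : Ideal Cfsg.AlgInt}
variable (N : Subgroup G) [Fintype N] (hN : N.Normal)

include hN in
/-- every member of the block of `χ` has an irreducible constituent on `N` in the block of a
given constituent of `χ` -/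
theorem exists_constituent_mem_blockOf (hM : Cfsg.IsPModular p M) (θ₀ : Cfsg.IrrCharacter N)
    (χ χ' : Cfsg.IrrCharacter G) (hb : Cfsg.SameBlock M (χ : G → ℂ) (χ' : G → ℂ))
    (hθ : Cfsg.classInner (fun n : N => (χ : G → ℂ) n) (θ₀ : N → ℂ) ≠ 0) :
    ∃ ψ ∈ Cfsg.blockOf M (θ₀ : N → ℂ),
      Cfsg.classInner (fun n : N => (χ' : G → ℂ) n) (ψ : N → ℂ) ≠ 0 := by
  obtain ⟨ψ₀, hψ₀⟩ := exists_constituent_restrict N χ'.2
  obtain ⟨g, hg⟩ := exists_conj_mem_block_of_sameBlock N hN hM θ₀ χ χ' hb θ₀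
    (sameBlock_refl hM _) hθ ψ₀ hψ₀
  refine ⟨irrConj N hN g ψ₀, hg, ?_⟩
  rw [irrConj_coe, classInner_restrict_conjFun N hN (IsIrrCharacter.isClassFunction χ'.2)]
  exact hψ₀

end cover

end Cfsg.Agent.Lib.Helper6.NilExt
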