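import Mathlib
import Cfsg.Agent.Lib.Helper6.NilExt2
import Cfsg.Agent.Lib.Helper6.BrPair3

/-!
# Nilpotent blocks and extensions by `p`-groups: going down

If `N ⊴ G` has `p`-power index, `c` is a `G`-stable block of `N` and `B` is the block of `G` with
the same idempotent, then `c` is nilpotent as soon as `B` is.
-/

set_option autoImplicit false
set_option linter.unusedSectionVars false
set_option linter.style.haveILetI false
open Cfsg

namespace Cfsg.Agent.Lib.Helper6.NilExt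

open Cfsg.Agent.Lib.Helper6
open scoped ComplexConjugate

section down

variable {G : Type*} [Group G] [Fintype G] [DecidableEq G]
variable {p : ℕ} {M : Ideal Cfsg.AlgInt}

theorem mapIrr_symm_mapIrr {K K' : Type*} [Group K] [Group K'] [Finite K] [Finite K']
    (φ : K ≃* K') (θ : Cfsg.IrrCharacter K) : mapIrr φ.symm (mapIrr φ θ) = θ := by
  apply Subtype.ext
  funext k
  rw [mapIrr_apply, mapIrr_apply]
  simp

theorem mapIrr_mapIrr_symm {K K' : Type*} [Group K] [Group K'] [Finite K] [Finite K']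
    (φ : K ≃* K') (θ : Cfsg.IrrCharacter K') : mapIrr φ (mapIrr φ.symm θ) = θ := by
  apply Subtype.ext
  funext k
  rw [mapIrr_apply, mapIrr_apply]
  simp

theorem core_down (hM : Cfsg.IsPModular p M) [Fact p.Prime] (N : Subgroup G) [hN : N.Normal]
    [Fintype N] (hidx : ∃ k : ℕ, N.index = p ^ k) (c : Set (Cfsg.IrrCharacter N))
    (hst : GStable N hN c) (B : Set (Cfsg.IrrCharacter G)) (hB : Cfsg.IsPBlock M B)
    (hBc : ∀ g : G, Cfsg.blockCoeff B g = Cfsg.subgroupBlockCoeff N c g)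
    (hnil : Cfsg.IsNilpotentBlock p M B) (Q : Subgroup G) (Q' : Subgroup N)
    (hQ : Q'.map N.subtype = Q) [Fintype (Subgroup.centralizer (Q : Set G))]
    [Fintype (cenN N Q)] [Fintype (Subgroup.centralizer (Q' : Set N))]
    (e' : Set (Cfsg.IrrCharacter (Subgroup.centralizer (Q' : Set N))))
    (hpair : Cfsg.IsBrauerPairOf p M c Q' e') (x : N)
    (hx : x ∈ Subgroup.normalizer (Q' : Set N))
    (hstx : Cfsg.StabilizesBlock (Subgroup.centralizer (Q' : Set N)) e' x)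
    (hreg : Cfsg.IsPRegular p x) : x ∈ Subgroup.centralizer (Q' : Set N) := by
  classical
  obtain ⟨⟨hQ'p, he'⟩, _, hom'⟩ := hpair
  have hidx₁ := cenN_index N Q hM.1 hidx
  obtain ⟨ζ₁', hζ₁'⟩ := isPBlock_nonempty hM he'
  have he₁ : Cfsg.IsPBlock M (mapIrr (cenEquiv N Q Q' hQ) '' e') :=
    isPBlock_mapIrr_image _ he'
  have hζ₁ : mapIrr (cenEquiv N Q Q' hQ) ζ₁' ∈ mapIrr (cenEquiv N Q Q' hQ) '' e' :=
    Set.mem_image_of_mem _ hζ₁'
  have he₁eq : mapIrr (cenEquiv N Q Q' hQ) '' e'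
      = Cfsg.blockOf M ((mapIrr (cenEquiv N Q Q' hQ) ζ₁' : Cfsg.IrrCharacter (cenN N Q)) :
          cenN N Q → ℂ) := by
    obtain ⟨θ, hθ⟩ := he₁
    rw [hθ] at hζ₁ ⊢
    exact blockOf_eq_of_mem hM hζ₁
  obtain ⟨ξ₀, hξ₀⟩ := exists_irr_over (cenN N Q) (mapIrr (cenEquiv N Q Q' hQ) ζ₁')
  -- every member of the block of `ξ₀` lies over a member of `e₁`
  have hA : ∀ ξ ∈ Cfsg.blockOf M (ξ₀ : Subgroup.centralizer (Q : Set G) → ℂ),
      ∃ ζ ∈ mapIrr (cenEquiv N Q Q' hQ) '' e',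
        Cfsg.classInner (fun y : cenN N Q => (ξ : Subgroup.centralizer (Q : Set G) → ℂ) y)
          (ζ : cenN N Q → ℂ) ≠ 0 := by
    intro ξ hξ
    obtain ⟨ψ, hψ, hψc⟩ := exists_constituent_mem_blockOf (cenN N Q) inferInstance hM
      (mapIrr (cenEquiv N Q Q' hQ) ζ₁') ξ₀ ξ hξ hξ₀
    rw [← he₁eq] at hψ
    exact ⟨ψ, hψ, hψc⟩
  have hQp : IsPGroup p Q := (isPGroup_rel2_iff N Q' Q hQ).mp hQ'p
  -- the pair `(Q, block of ξ₀)` belongs to `B`
  have hpairG : Cfsg.IsBrauerPairOf p M B Q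
      (Cfsg.blockOf M (ξ₀ : Subgroup.centralizer (Q : Set G) → ℂ)) := by
    refine ⟨⟨hQp, ⟨ξ₀, rfl⟩⟩, hB, ?_⟩
    intro ξ hξ
    obtain ⟨ζ, hζe, hζc⟩ := hA ξ hξ
    rw [show Cfsg.blockCoeff B = Cfsg.subgroupBlockCoeff N c from funext hBc,
      brauerOmega_eq_of_constituent N Q Q' hQ c hst ξ ζ hζc]
    apply hom'
    obtain ⟨ζ', hζ', rfl⟩ := hζe
    rw [mapIrr_symm_mapIrr]
    exact hζ'
  -- `x` stabilizes this block
  have hxG : (x : G) ∈ Subgroup.normalizer (Q : Set G) :=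
    coe_mem_normalizer_of_rel2 N Q' Q hQ x hx
  have hxstab := (stabilizesBlock_iff_mem_stabTau N Q Q' hQ x hx e').mp hstx
  obtain ⟨_, himg⟩ := (mem_stabTau_iff N Q _ _).mp hxstab
  have hstG : Cfsg.StabilizesBlock (Subgroup.centralizer (Q : Set G))
      (Cfsg.blockOf M (ξ₀ : Subgroup.centralizer (Q : Set G) → ℂ)) (x : G) := by
    rw [stabilizesBlock_iff]
    refine ⟨normalizer_le_normalizer_centralizer Q hxG, autIrr_image_eq_of_subset _ ?_⟩
    rintro _ ⟨ξ, hξ, rfl⟩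
    obtain ⟨ζ, hζe, hζc⟩ := hA ξ hξ
    have hζx : autIrr (tau N Q (x : G) hxG) ζ ∈ mapIrr (cenEquiv N Q Q' hQ) '' e' := by
      rw [← himg]
      exact Set.mem_image_of_mem _ hζe
    have hζxc : Cfsg.classInner
        (fun y : cenN N Q => (autIrr (nAut (Subgroup.centralizer (Q : Set G)) (x : G)
          (normalizer_le_normalizer_centralizer Q hxG)) ξ :
            Subgroup.centralizer (Q : Set G) → ℂ) y)
        (autIrr (tau N Q (x : G) hxG) ζ : cenN N Q → ℂ) ≠ 0 := by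
      rw [classInner_tau]
      exact hζc
    rw [he₁eq] at hζx
    exact sameBlock_of_cover_of_index (cenN N Q) hM hidx₁ ξ₀ _ _ _ hζx hξ₀ hζxc
  have hregG : Cfsg.IsPRegular p (x : G) := by
    unfold Cfsg.IsPRegular at hreg ⊢
    rwa [Subgroup.orderOf_coe]
  have hcen := hnil.2 Q _ hpairG (x : G) hxG hstG hregG
  rw [Subgroup.mem_centralizer_iff] at hcen ⊢
  intro q hq
  apply Subtype.ext
  have hqQ : (q : G) ∈ Q := by
    rw [← hQ]
    exact Subgroup.mem_map_of_mem N.subtype hq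
  exact hcen (q : G) hqQ

/-- **Going down.** -/
theorem nilpotent_of_cover (hM : Cfsg.IsPModular p M) [Fact p.Prime] (N : Subgroup G)
    [hN : N.Normal] [Fintype N] (hidx : ∃ k : ℕ, N.index = p ^ k)
    (c : Set (Cfsg.IrrCharacter N)) (hc : Cfsg.IsPBlock M c) (hst : GStable N hN c)
    (B : Set (Cfsg.IrrCharacter G)) (hB : Cfsg.IsPBlock M B)
    (hBc : ∀ g : G, Cfsg.blockCoeff B g = Cfsg.subgroupBlockCoeff N c g)
    (hnil : Cfsg.IsNilpotentBlock p M B) : Cfsg.IsNilpotentBlock p M c := by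
  classical
  refine ⟨hc, ?_⟩
  intro Q' e' hpair x hx hstx hreg
  haveI : Fintype (Subgroup.centralizer ((Q'.map N.subtype : Subgroup G) : Set G)) :=
    Fintype.ofFinite _
  haveI : Fintype (cenN N (Q'.map N.subtype)) := Fintype.ofFinite _
  haveI : Fintype (Subgroup.centralizer (Q' : Set N)) := Fintype.ofFinite _
  exact core_down hM N hidx c hst B hB hBc hnil (Q'.map N.subtype) Q' rfl e' hpair x hx hstx hreg

end down

end Cfsg.Agent.Lib.Helper6.NilExt
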